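import Cfsg.Agent.Lib.H81TI4
import Cfsg.Agent.Lib.H81TI5

/-!
# Groups with TI element centralizers: double transitivity (helper81)
-/

set_option autoImplicit false
open Cfsg

namespace Cfsg.Agent.Lib.H81TI3

open Subgroup Cfsg.Agent.Lib Cfsg.Agent.Lib.CN H81TI1 MulAction InvAct

universe u

/-- a fixed-point-free involutory automorphism inverts. -/
theorem inv_of_free {G : Type u} [Group G] [Finite G] {D : Subgroup G} {u : G} (huu : u * u = 1)
    (huD : ∀ x ∈ D, u * x * u⁻¹ ∈ D) (hf : ∀ x ∈ D, x * u = u * x → x = 1) {d : G} (hd : d ∈ D) :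
    u * d * u⁻¹ = d⁻¹ := by
  have hui : u⁻¹ = u := inv_eq_of_mul_eq_one_left huu
  let φ : D → D := fun x => ⟨(x : G)⁻¹ * (u * x * u⁻¹), D.mul_mem (D.inv_mem x.2) (huD x x.2)⟩
  have hφi : Function.Injective φ := by
    intro a b hab
    have h4 : (a : G)⁻¹ * (u * a * u⁻¹) = (b : G)⁻¹ * (u * b * u⁻¹) := congrArg Subtype.val hab
    have h5 : (b : G) * (a : G)⁻¹ = 1 := by
      apply hf _ (D.mul_mem b.2 (D.inv_mem a.2))
      calc (b : G) * (a : G)⁻¹ * u = b * ((a : G)⁻¹ * (u * a * u⁻¹)) * (u * (a : G)⁻¹) := by group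
        _ = b * ((b : G)⁻¹ * (u * b * u⁻¹)) * (u * (a : G)⁻¹) := by rw [h4]
        _ = u * ((b : G) * (a : G)⁻¹) := by group
    exact Subtype.ext (mul_inv_eq_one.mp h5).symm
  have hφs : Function.Surjective φ := Finite.surjective_of_injective hφi
  obtain ⟨x, hx⟩ := hφs ⟨d, hd⟩
  have hx' : (x : G)⁻¹ * (u * x * u⁻¹) = d := congrArg Subtype.val hx
  rw [← hx']
  calc u * ((x : G)⁻¹ * (u * x * u⁻¹)) * u⁻¹ = u * (x : G)⁻¹ * u * x * (u⁻¹ * u⁻¹) := by group
    _ = u * (x : G)⁻¹ * u⁻¹ * x * (u⁻¹ * u⁻¹) := by nth_rewrite 2 [← hui]; rfl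
    _ = u * (x : G)⁻¹ * u⁻¹ * x := by rw [hui, huu, mul_one]
    _ = ((x : G)⁻¹ * (u * x * u⁻¹))⁻¹ := by group

variable {G : Type u} [Group G] [Finite G] {H : Subgroup G} (C : Cfg G H)

omit [Finite G] in
theorem mem_stab_pt {g : G} : g ∈ stabilizer G (pt H) ↔ g ∈ normalizer (H : Set G) := by
  rw [mem_stabilizer_iff, smul_pt_iff]

include C

theorem Cfg.exists_ne : ∃ y : G ⧸ normalizer (H : Set G), y ≠ pt H := by
  by_contra hcon
  push Not at hcon
  apply C.ne_top
  rw [Subgroup.eq_top_iff']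
  intro g
  rw [← smul_pt_iff]
  exact hcon _

theorem Cfg.D_comm {y : G ⧸ normalizer (H : Set G)} (hy : y ≠ pt H) {a b : G}
    (ha : a ∈ (stabilizer G (pt H) ⊓ stabilizer G y : Subgroup G))
    (hb : b ∈ (stabilizer G (pt H) ⊓ stabilizer G y : Subgroup G)) : a * b = b * a := by
  obtain ⟨u, hu⟩ := C.exists_swap hy
  have h1 := C.inverts hy hu ha
  have h2 := C.inverts hy hu hb
  have h3 := C.inverts hy hu (Subgroup.mul_mem _ ha hb)
  have h4 : (a * b)⁻¹ = a⁻¹ * b⁻¹ := by
    rw [← h3, ← h1, ← h2]; group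
  calc a * b = ((a * b)⁻¹)⁻¹ := by rw [inv_inv]
    _ = (a⁻¹ * b⁻¹)⁻¹ := by rw [h4]
    _ = b * a := by group

theorem Cfg.D_odd {y : G ⧸ normalizer (H : Set G)} (hy : y ≠ pt H) :
    Odd (Nat.card ↥(stabilizer G (pt H) ⊓ stabilizer G y : Subgroup G)) := by
  rw [← Nat.not_even_iff_odd]
  intro h
  obtain ⟨z, hz, hz2⟩ := StrongEmb.exists_involution_mem h
  exact InvAct.not_mem_both C.uniqueFix (Ne.symm hy) hz2 hz.1 hz.2

theorem Cfg.D_ne_one {y : G ⧸ normalizer (H : Set G)} (hy : y ≠ pt H) :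
    ∃ d ∈ (stabilizer G (pt H) ⊓ stabilizer G y : Subgroup G), d ≠ 1 := by
  by_contra hcon
  push Not at hcon
  have h1 : (stabilizer G (pt H) ⊓ stabilizer G y : Subgroup G) = ⊥ :=
    eq_bot_iff.mpr (fun z hz => hcon z hz)
  have h2 := C.card_pair hy
  rw [h1, Subgroup.card_bot] at h2
  obtain ⟨t, htH, ht, -⟩ := C.exists_central
  obtain ⟨s, hs, os, hst⟩ := C.exists_two htH ht
  have ht' : t ∈ invSwap G (pt H) (pt H) := ⟨ht, smul_pt_iff.mpr (Subgroup.le_normalizer htH)⟩
  have hs' : s ∈ invSwap G (pt H) (pt H) := ⟨os, smul_pt_iff.mpr (Subgroup.le_normalizer hs)⟩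
  obtain ⟨a, ha⟩ := Set.ncard_eq_one.mp h2.symm
  rw [ha] at ht' hs'
  exact hst (hs'.trans ht'.symm)

/-- the restriction to a two point stabilizer of `M → M / H` is bijective. -/
theorem Cfg.quot_bij {y : G ⧸ normalizer (H : Set G)} (hy : y ≠ pt H) :
    ∀ q : normalizer (H : Set G) ⧸ H.subgroupOf (normalizer (H : Set G)),
      ∃ (d : G) (h : d ∈ normalizer (H : Set G)), d ∈ (stabilizer G (pt H) ⊓ stabilizer G y : Subgroup G) ∧
        (QuotientGroup.mk' (H.subgroupOf (normalizer (H : Set G)))) ⟨d, h⟩ = q := by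
  let D : Subgroup G := stabilizer G (pt H) ⊓ stabilizer G y
  have hDM : D ≤ normalizer (H : Set G) := fun d hd => mem_stab_pt.mp hd.1
  let ψ : D →* normalizer (H : Set G) ⧸ H.subgroupOf (normalizer (H : Set G)) :=
    (QuotientGroup.mk' (H.subgroupOf (normalizer (H : Set G)))).comp (Subgroup.inclusion hDM)
  have hψi : Function.Injective ψ := by
    rw [injective_iff_map_eq_one]
    intro d hd
    have h1 : (Subgroup.inclusion hDM d) ∈ H.subgroupOf (normalizer (H : Set G)) :=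
      (QuotientGroup.eq_one_iff _).mp hd
    have h2 : (d : G) ∈ H := h1
    exact Subtype.ext (C.inf_eq_one hy h2 d.2.2)
  have hcard : Nat.card D = Nat.card (normalizer (H : Set G) ⧸ H.subgroupOf (normalizer (H : Set G))) := by
    have h1 := Subgroup.card_eq_card_quotient_mul_card_subgroup (H.subgroupOf (normalizer (H : Set G)))
    rw [C.card_M hy] at h1
    have h2 : Nat.card (H.subgroupOf (normalizer (H : Set G))) = Nat.card H :=
      Nat.card_congr (Subgroup.subgroupOfEquivOfLe Subgroup.le_normalizer).toEquiv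
    rw [h2] at h1
    exact Nat.eq_of_mul_eq_mul_right Nat.card_pos h1
  have hψ : Function.Bijective ψ := (Nat.bijective_iff_injective_and_card ψ).mpr ⟨hψi, hcard⟩
  intro q
  obtain ⟨d, hd⟩ := hψ.2 q
  exact ⟨d, hDM d.2, d.2, hd⟩

/-- the linear character -/
theorem Cfg.exists_lam : ∃ lam : normalizer (H : Set G) →* ℂˣ,
    ∀ y : G ⧸ normalizer (H : Set G), y ≠ pt H → ∃ (d : G) (h : d ∈ normalizer (H : Set G)),
      d ∈ (stabilizer G (pt H) ⊓ stabilizer G y : Subgroup G) ∧ lam ⟨d, h⟩ * lam ⟨d, h⟩ ≠ 1 := by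
  obtain ⟨y, hy⟩ := C.exists_ne
  obtain ⟨d, hd, hd1⟩ := C.D_ne_one hy
  have hdM : d ∈ normalizer (H : Set G) := mem_stab_pt.mp hd.1
  have hcomm : ∀ a b : normalizer (H : Set G) ⧸ H.subgroupOf (normalizer (H : Set G)), a * b = b * a := by
    intro a b
    obtain ⟨a', ha', ha1, rfl⟩ := C.quot_bij hy a
    obtain ⟨b', hb', hb1, rfl⟩ := C.quot_bij hy b
    rw [← map_mul, ← map_mul]
    congr 1
    exact Subtype.ext (C.D_comm hy ha1 hb1)
  have hq : (QuotientGroup.mk' (H.subgroupOf (normalizer (H : Set G)))) ⟨d, hdM⟩ ≠ 1 := by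
    intro h
    have h1 : (⟨d, hdM⟩ : normalizer (H : Set G)) ∈ H.subgroupOf (normalizer (H : Set G)) :=
      (QuotientGroup.eq_one_iff _).mp h
    exact hd1 (C.inf_eq_one hy h1 hd.2)
  obtain ⟨θ, hθ⟩ := LinChar.exists_ne_one hcomm hq
  refine ⟨θ.comp (QuotientGroup.mk' (H.subgroupOf (normalizer (H : Set G)))), ?_⟩
  intro z hz
  obtain ⟨e, heM, heD, he⟩ := C.quot_bij hz ((QuotientGroup.mk' (H.subgroupOf (normalizer (H : Set G)))) ⟨d, hdM⟩)
  refine ⟨e, heM, heD, ?_⟩
  intro hcon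
  apply hθ
  rw [MonoidHom.comp_apply, he] at hcon
  -- odd order
  have h2 : (⟨e, heM⟩ : normalizer (H : Set G)) ^
      Nat.card ↥(stabilizer G (pt H) ⊓ stabilizer G z : Subgroup G) = 1 := by
    have h3 : (⟨e, heD⟩ : ↥(stabilizer G (pt H) ⊓ stabilizer G z : Subgroup G)) ^
        Nat.card ↥(stabilizer G (pt H) ⊓ stabilizer G z : Subgroup G) = 1 := pow_card_eq_one'
    have h5 : e ^ Nat.card ↥(stabilizer G (pt H) ⊓ stabilizer G z : Subgroup G) = 1 :=
      (SubmonoidClass.coe_pow _ _).symm.trans (congrArg Subtype.val h3)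
    exact Subtype.ext ((SubmonoidClass.coe_pow _ _).trans h5)
  obtain ⟨k, hk⟩ := C.D_odd hz
  have h4 := congrArg (fun x => θ ((QuotientGroup.mk' (H.subgroupOf (normalizer (H : Set G)))) x)) h2
  simp only [map_pow, map_one] at h4
  rw [he, hk, pow_succ, pow_mul, pow_two, hcon, one_pow, one_mul] at h4
  exact h4

theorem Cfg.card_quot_le : Nat.card (G ⧸ normalizer (H : Set G)) ≤ Nat.card H + 1 := by
  obtain ⟨lam, hlam⟩ := C.exists_lam
  obtain ⟨y, hy⟩ := C.exists_ne
  have hcM := C.card_M hy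
  have key := H81TI5.ineq (normalizer (H : Set G)) lam ((invSwap G (pt H) (pt H)).ncard)
    (by
      obtain ⟨d, h, -, h1⟩ := hlam y hy
      exact ⟨⟨d, h⟩, h1⟩)
    (by
      intro x hx
      have hz : (QuotientGroup.mk x : G ⧸ normalizer (H : Set G)) ≠ pt H := by
        intro h
        apply hx
        have h1 : (QuotientGroup.mk 1 : G ⧸ normalizer (H : Set G)) = QuotientGroup.mk x := h.symm
        rw [QuotientGroup.eq] at h1
        simpa using h1
      obtain ⟨u, hu⟩ := C.exists_swap hz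
      have hxm : u⁻¹ * x ∈ normalizer (H : Set G) := by
        rw [← QuotientGroup.eq]
        have h1 := hu.2
        change (QuotientGroup.mk (u * 1) : G ⧸ normalizer (H : Set G)) = QuotientGroup.mk x at h1
        rwa [mul_one] at h1
      have hDM : (stabilizer G (pt H) ⊓ stabilizer G (QuotientGroup.mk x : G ⧸ normalizer (H : Set G)) : Subgroup G)
          ≤ normalizer (H : Set G) := fun d hd => mem_stab_pt.mp hd.1
      refine ⟨stabilizer G (pt H) ⊓ stabilizer G (QuotientGroup.mk x : G ⧸ normalizer (H : Set G)), hDM, ?_, ?_, ?_, ?_, ?_⟩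
      · intro m hm hxmx
        exact ⟨mem_stab_pt.mpr hm, (StrongEmbPt.mem_stabilizer_mk m x).mpr hxmx⟩
      · intro d hd
        exact (StrongEmbPt.mem_stabilizer_mk d x).mp hd.2
      · intro d hd h
        have h1 := C.inverts hz hu hd
        have huu : u * u = 1 := (InvAct.orderOf_two_iff.1 hu.1).1
        have hui : u⁻¹ = u := inv_eq_of_mul_eq_one_left huu
        have h2 : (⟨x⁻¹ * d * x, h⟩ : normalizer (H : Set G)) =
            (⟨u⁻¹ * x, hxm⟩ : normalizer (H : Set G))⁻¹ * (⟨d, hDM hd⟩ : normalizer (H : Set G))⁻¹ * ⟨u⁻¹ * x, hxm⟩ := by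
          apply Subtype.ext
          show x⁻¹ * d * x = (u⁻¹ * x)⁻¹ * d⁻¹ * (u⁻¹ * x)
          rw [← h1]
          have h3 : u * d * u⁻¹ = u⁻¹ * d * u := by rw [hui]
          rw [h3]
          have h4 : (u⁻¹ * x)⁻¹ * (u⁻¹ * d * u) * (u⁻¹ * x) = x⁻¹ * d * x := by group
          exact h4.symm
        rw [h2, map_mul, map_mul, map_inv, map_inv]
        rw [mul_comm, mul_inv_cancel_left]
      · obtain ⟨d, h, h1, h2⟩ := hlam _ hz
        exact ⟨d, h1, h2⟩
      · exact C.card_pair hz)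
  have hG := Subgroup.card_eq_card_quotient_mul_card_subgroup (normalizer (H : Set G))
  rw [C.card_pair hy] at hcM
  set f := (invSwap G (pt H) (pt H)).ncard with hf
  have hfpos : 0 < f := by rw [hf, ← C.card_pair hy]; exact Nat.card_pos
  set m := Nat.card (normalizer (H : Set G)) with hm
  have hmpos : 0 < m := Nat.card_pos
  rw [hG] at key
  have h1 : Nat.card (G ⧸ normalizer (H : Set G)) * m - m = (Nat.card (G ⧸ normalizer (H : Set G)) - 1) * m := by
    rw [Nat.sub_mul, one_mul]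
  rw [h1] at key
  have h2 : (Nat.card (G ⧸ normalizer (H : Set G)) - 1) * (m * f) ≤ Nat.card H * (m * f) := by
    calc (Nat.card (G ⧸ normalizer (H : Set G)) - 1) * (m * f)
        = (Nat.card (G ⧸ normalizer (H : Set G)) - 1) * m * f := by ring
      _ ≤ m * m := key
      _ = m * (f * Nat.card H) := by rw [← hcM]
      _ = Nat.card H * (m * f) := by ring
  have h3 := Nat.le_of_mul_le_mul_right h2 (Nat.mul_pos hmpos hfpos)
  omega

theorem Cfg.regular {y : G ⧸ normalizer (H : Set G)} (hy : y ≠ pt H) :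
    Nat.card (G ⧸ normalizer (H : Set G)) = Nat.card H + 1 ∧
    ∀ z : G ⧸ normalizer (H : Set G), z ≠ pt H → ∃ h ∈ H, h • y = z := by
  classical
  let S := {z : G ⧸ normalizer (H : Set G) // z ≠ pt H}
  have hS : Nat.card S + 1 = Nat.card (G ⧸ normalizer (H : Set G)) := by
    have := Fintype.ofFinite (G ⧸ normalizer (H : Set G))
    rw [Nat.card_eq_fintype_card, Nat.card_eq_fintype_card, Fintype.card_subtype_compl,
      Fintype.card_subtype_eq]
    have : 0 < Fintype.card (G ⧸ normalizer (H : Set G)) := Fintype.card_pos_iff.mpr ⟨pt H⟩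
    omega
  let φ : H → S := fun h => ⟨(h : G) • y, by
    intro hcon
    apply hy
    have h1 : (h : G) • pt H = pt H := smul_pt_iff.mpr (Subgroup.le_normalizer h.2)
    exact MulAction.injective (h : G) (hcon.trans h1.symm)⟩
  have hφ : Function.Injective φ := by
    intro a b hab
    have h1 : (a : G) • y = (b : G) • y := congrArg Subtype.val hab
    have h2 : ((b : G)⁻¹ * a) • y = y := by
      rw [mul_smul, h1, inv_smul_smul]
    have h3 := C.inf_eq_one hy (H.mul_mem (H.inv_mem b.2) a.2) h2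
    exact Subtype.ext (inv_mul_eq_one.mp h3).symm
  have h4 : Nat.card H ≤ Nat.card S := Nat.card_le_card_of_injective φ hφ
  have h5 := C.card_quot_le
  have h6 : Nat.card H = Nat.card S := by omega
  have h7 : Function.Bijective φ := (Nat.bijective_iff_injective_and_card φ).mpr ⟨hφ, h6⟩
  refine ⟨by omega, ?_⟩
  intro z hz
  obtain ⟨h, hh⟩ := h7.2 ⟨z, hz⟩
  exact ⟨h, h.2, congrArg Subtype.val hh⟩

end Cfsg.Agent.Lib.H81TI3
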