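import Cfsg.Agent.Lib.H81TI6
import Cfsg.Agent.Lib.ZassSz8
import Cfsg.Agent.S0338
import Cfsg.Agent.S0885

/-!
# Groups with TI element centralizers: the Zassenhaus group (helper81)
-/

set_option autoImplicit false
open Cfsg

namespace Cfsg.Agent.Lib.H81TI3

open Subgroup Cfsg.Agent.Lib Cfsg.Agent.Lib.CN H81TI1 MulAction InvAct

universe u

variable {G : Type u} [Group G] [Finite G] {H : Subgroup G} (C : Cfg G H)

include C

theorem Cfg.fix3 {g : G} {a b c : G ⧸ normalizer (H : Set G)} (hab : a ≠ b) (hbc : b ≠ c) (hac : a ≠ c)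
    (ha : g • a = a) (hb : g • b = b) (hc : g • c = c) : g = 1 := by
  -- reduce to `a = pt`
  have key : ∀ (g : G) (b c : G ⧸ normalizer (H : Set G)), b ≠ pt H → c ≠ pt H → b ≠ c →
      g • pt H = pt H → g • b = b → g • c = c → g = 1 := by
    intro g b c hb0 hc0 hbc hg hb hc
    obtain ⟨h, hh, hhb⟩ := (C.regular hb0).2 c hc0
    have hh1 : h ≠ 1 := by
      rintro rfl
      exact hbc (by rw [← hhb, one_smul])
    have hgM : g ∈ normalizer (H : Set G) := smul_pt_iff.mp hg
    have h1 : h⁻¹ * (g * h * g⁻¹) ∈ H :=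
      H.mul_mem (H.inv_mem hh) ((Subgroup.mem_normalizer_iff.mp hgM h).mp hh)
    have h2 : (h⁻¹ * (g * h * g⁻¹)) • b = b := by
      have hb' : g⁻¹ • b = b := by rw [inv_smul_eq_iff, hb]
      rw [mul_smul, mul_smul, mul_smul, hb', hhb, hc, inv_smul_eq_iff, hhb]
    have h3 := C.inf_eq_one hb0 h1 h2
    have h4 : g * h = h * g := by
      calc g * h = h * (h⁻¹ * (g * h * g⁻¹)) * g := by group
        _ = h * g := by rw [h3, mul_one]
    have h5 : g ∈ H := C.ct.cent_le C.max hh hh1 (mem_centralizer_singleton_iff.mpr h4)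
    exact C.inf_eq_one hb0 h5 hb
  obtain ⟨x, hx⟩ := MulAction.exists_smul_eq G a (pt H)
  have h1 : x * g * x⁻¹ = 1 := by
    apply key (x * g * x⁻¹) (x • b) (x • c)
    · rw [← hx]; exact fun h => hab (MulAction.injective x h).symm
    · rw [← hx]; exact fun h => hac (MulAction.injective x h).symm
    · exact fun h => hbc (MulAction.injective x h)
    · rw [← hx, mul_smul, mul_smul, inv_smul_smul, ha]
    · rw [mul_smul, mul_smul, inv_smul_smul, hb]
    · rw [mul_smul, mul_smul, inv_smul_smul, hc]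
  calc g = x⁻¹ * (x * g * x⁻¹) * x := by group
    _ = 1 := by rw [h1]; group

theorem Cfg.two_trans : IsMultiplyPretransitive G (G ⧸ normalizer (H : Set G)) 2 := by
  rw [is_two_pretransitive_iff]
  have key : ∀ a b c : G ⧸ normalizer (H : Set G), a ≠ b → c ≠ pt H →
      ∃ g : G, g • a = pt H ∧ g • b = c := by
    intro a b c hab hc
    obtain ⟨x, hx⟩ := MulAction.exists_smul_eq G a (pt H)
    have hxb : x • b ≠ pt H := by
      rw [← hx]; exact fun h => hab (MulAction.injective x h).symm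
    obtain ⟨h, hh, hhb⟩ := (C.regular hxb).2 c hc
    refine ⟨h * x, ?_, ?_⟩
    · rw [mul_smul, hx, smul_pt_iff.mpr (Subgroup.le_normalizer hh)]
    · rw [mul_smul, hhb]
  intro a b c d hab hcd
  obtain ⟨y, hy⟩ := C.exists_ne
  obtain ⟨g, hg1, hg2⟩ := key a b y hab hy
  obtain ⟨k, hk1, hk2⟩ := key c d y hcd hy
  refine ⟨k⁻¹ * g, ?_, ?_⟩
  · rw [mul_smul, hg1, inv_smul_eq_iff, hk1]
  · rw [mul_smul, hg2, inv_smul_eq_iff, hk2]

theorem Cfg.zass : Cfsg.IsZassenhausGroup G (G ⧸ normalizer (H : Set G)) := by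
  obtain ⟨y, hy⟩ := C.exists_ne
  refine ⟨?_, C.two_trans, ?_, ?_, ?_⟩
  · constructor
    intro a b hab
    have h1 : ∀ z : G ⧸ normalizer (H : Set G), (b⁻¹ * a) • z = z := by
      intro z
      rw [mul_smul, hab z, inv_smul_smul]
    obtain ⟨t, htH, ht, -⟩ := C.exists_central
    have ht1 : t ≠ 1 := by
      rintro rfl
      rw [orderOf_one] at ht
      norm_num at ht
    have hcy : t • y ≠ pt H := by
      intro h
      apply hy
      have h3 : t • pt H = pt H := smul_pt_iff.mpr (Subgroup.le_normalizer htH)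
      exact MulAction.injective t (h.trans h3.symm)
    have hcy2 : y ≠ t • y := by
      intro h
      exact ht1 (C.inf_eq_one hy htH h.symm)
    have h2 := C.fix3 (g := b⁻¹ * a) (Ne.symm hy) hcy2 (Ne.symm hcy) (h1 _) (h1 _) (h1 _)
    exact (inv_mul_eq_one.mp h2).symm
  · intro g a b c hab hbc hac ha hb hc
    exact C.fix3 hab hbc hac ha hb hc
  · obtain ⟨d, hd, hd1⟩ := C.D_ne_one hy
    exact ⟨d, hd1, pt H, y, Ne.symm hy, hd.1, hd.2⟩
  · intro N hN htr
    by_contra hcon
    push Not at hcon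
    obtain ⟨t, htH, ht, -⟩ := C.exists_central
    have ht1 : t ≠ 1 := by
      rintro rfl
      rw [orderOf_one] at ht
      norm_num at ht
    have htt : t * t = 1 := (InvAct.orderOf_two_iff.1 ht).1
    have h1 : ∀ n ∈ N, n • pt H = pt H → n = 1 := by
      intro n hn hnp
      have h2 : (⟨n, hn⟩ : N) ∈ (⊥ : Subgroup N) := (le_of_eq (hcon (pt H))) hnp
      rw [Subgroup.mem_bot] at h2
      exact congrArg Subtype.val h2
    have hfree : ∀ x ∈ N, x * t = t * x → x = 1 := by
      intro x hx hxt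
      apply h1 x hx
      rw [smul_pt_iff]
      exact Subgroup.le_normalizer (C.ct.cent_le C.max htH ht1 (mem_centralizer_singleton_iff.mpr hxt))
    have hinv : ∀ x ∈ N, t * x * t⁻¹ = x⁻¹ := fun x hx =>
      inv_of_free htt (fun x hx => hN.conj_mem x hx t) hfree hx
    have hNn : Group.IsNilpotent N := by
      apply isNilpotent_of_comm
      intro a ha b hb
      have h3 := hinv (a * b) (N.mul_mem ha hb)
      have h4 : (a * b)⁻¹ = a⁻¹ * b⁻¹ := by
        rw [← h3, ← hinv a ha, ← hinv b hb]; group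
      calc a * b = ((a * b)⁻¹)⁻¹ := by rw [inv_inv]
        _ = (a⁻¹ * b⁻¹)⁻¹ := by rw [h4]
        _ = b * a := by group
    have hNb := C.nn N hN hNn
    obtain ⟨n, hn⟩ := htr.exists_smul_eq (pt H) y
    apply hy
    have hn1 : (n : G) = 1 := by
      have h5 := n.2
      have h6 : (n : G) ∈ (⊥ : Subgroup G) := hNb.le h5
      exact (Subgroup.mem_bot).mp h6
    have h7 : (n : G) • pt H = y := hn
    rw [← h7, hn1, one_smul]

theorem Cfg.simple : IsSimpleGroup G := by
  classical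
  obtain ⟨y, hy⟩ := C.exists_ne
  have := Fintype.ofFinite (G ⧸ normalizer (H : Set G))
  apply Cfsg.Agent.S0338.result C.zass
  rw [← Nat.card_eq_fintype_card, (C.regular hy).1]
  exact Even.add_one (even_iff_two_dvd.mpr C.two_dvd)

/-- The centre of `H` is big. -/
theorem Cfg.card_center {y : G ⧸ normalizer (H : Set G)} (hy : y ≠ pt H) (K : Subgroup G)
    (hK : ∀ t ∈ H, orderOf t = 2 → t ∈ K) :
    Nat.card ↥(stabilizer G (pt H) ⊓ stabilizer G y : Subgroup G) + 1 ≤ Nat.card K := by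
  classical
  rw [C.card_pair hy]
  have h1 : (insert (1 : G) (invSwap G (pt H) (pt H))).ncard = (invSwap G (pt H) (pt H)).ncard + 1 := by
    refine Set.ncard_insert_of_notMem ?_ (Set.toFinite _)
    intro h
    have h2 : orderOf (1 : G) = 2 := h.1
    rw [orderOf_one] at h2
    norm_num at h2
  rw [← h1]
  have h3 : (insert (1 : G) (invSwap G (pt H) (pt H))) ⊆ (K : Set G) := by
    intro t ht
    rcases ht with rfl | ht
    · exact K.one_mem
    · exact hK t (C.mem_H ht.1 (smul_pt_iff.mp ht.2)) ht.1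
  exact (Set.ncard_le_ncard h3 (Set.toFinite _)).trans (Nat.card_coe_set_eq (K : Set G)).symm.le

omit [Group G] [Finite G] C in
theorem pow_arith {n j : ℕ} (h1 : n < j) (h2 : j < 2 * n) (h : 2 ^ n - 1 ∣ 2 ^ j - 1) : False := by
  obtain ⟨k, rfl⟩ : ∃ k, j = n + k := ⟨j - n, by omega⟩
  have hk1 : 0 < k := by omega
  have hk2 : k < n := by omega
  have h3 : 2 ^ (n + k) - 1 = 2 ^ k * (2 ^ n - 1) + (2 ^ k - 1) := by
    have h4 : 1 ≤ 2 ^ n := Nat.one_le_two_pow
    have h5 : 1 ≤ 2 ^ k := Nat.one_le_two_pow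
    rw [pow_add, Nat.mul_sub, mul_one]
    have h6 : 2 ^ k ≤ 2 ^ k * 2 ^ n := Nat.le_mul_of_pos_right _ (by positivity)
    have h7 : 2 ^ n * 2 ^ k = 2 ^ k * 2 ^ n := by ring
    rw [h7]
    omega
  rw [h3] at h
  have h8 : 2 ^ n - 1 ∣ 2 ^ k - 1 := (Nat.dvd_add_right (Dvd.intro_left _ rfl)).mp h
  have h9 : 2 ^ k < 2 ^ n := Nat.pow_lt_pow_right (by norm_num) hk2
  have h10 : 2 ^ 1 ≤ 2 ^ k := Nat.pow_le_pow_right (by norm_num) hk1
  have h11 := Nat.le_of_dvd (by omega) h8
  omega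

end Cfsg.Agent.Lib.H81TI3
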