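import Cfsg.Agent.Lib.InvCentAb
import Cfsg.Agent.Lib.CoprimeGen

/-!
# Groups in which the centralizer of every involution is abelian (helper81), part 2: the TI case
-/

set_option autoImplicit false
open Cfsg

namespace Cfsg.Agent.Lib.InvCentAb

open MulAction Subgroup Cfsg.Agent.Lib.InvAct Cfsg.Agent.Lib.StrongEmbPt

universe u

section general

variable {G : Type u} [Group G] [Finite G] (T : Sylow 2 G)
variable (hC : ∀ t : G, orderOf t = 2 → IsMulCommutative (centralizer ({t} : Set G)))

include hC in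
theorem exists_two_involutions (hnc : ¬ IsCyclic (T : Subgroup G)) :
    ∃ s ∈ (T : Subgroup G), ∃ t ∈ (T : Subgroup G), orderOf s = 2 ∧ orderOf t = 2 ∧ s ≠ t := by
  classical
  by_contra hcon
  push Not at hcon
  apply hnc
  let _ : CommGroup (T : Subgroup G) :=
    { (inferInstance : Group (T : Subgroup G)) with
      mul_comm := fun a b => Subtype.ext (T_comm T hC a.2 b.2) }
  apply CoprimeGen.isCyclic_of_prime_card_le
  intro r hr
  by_cases h2 : r = 2
  · subst h2
    by_contra hlt
    push Not at hlt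
    -- three elements
    have h3 : 2 < Nat.card (powMonoidHom 2 : (T : Subgroup G) →* (T : Subgroup G)).ker := hlt
    have : Finite (powMonoidHom 2 : (T : Subgroup G) →* (T : Subgroup G)).ker := inferInstance
    have h5 : ∃ a b : (powMonoidHom 2 : (T : Subgroup G) →* (T : Subgroup G)).ker, a ≠ 1 ∧ b ≠ 1 ∧ a ≠ b := by
      obtain ⟨a, ha⟩ : ∃ a : (powMonoidHom 2 : (T : Subgroup G) →* (T : Subgroup G)).ker, a ≠ 1 := by
        by_contra hc
        push Not at hc
        have : Subsingleton (powMonoidHom 2 : (T : Subgroup G) →* (T : Subgroup G)).ker :=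
          ⟨fun x y => (hc x).trans (hc y).symm⟩
        have := Finite.card_le_one_iff_subsingleton.mpr this
        omega
      by_contra hc
      push Not at hc
      have h6 : ∀ b : (powMonoidHom 2 : (T : Subgroup G) →* (T : Subgroup G)).ker, b = 1 ∨ b = a := by
        intro b
        by_cases hb : b = 1
        · left; exact hb
        · right; exact (hc a b ha hb).symm
      have h7 : Nat.card (powMonoidHom 2 : (T : Subgroup G) →* (T : Subgroup G)).ker ≤ 2 := by
        have h8 : (Set.univ : Set (powMonoidHom 2 : (T : Subgroup G) →* (T : Subgroup G)).ker) ⊆ {1, a} := by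
          intro b _
          rcases h6 b with h | h <;> simp [h]
        rw [← Set.ncard_univ]
        refine (Set.ncard_le_ncard h8 (Set.toFinite _)).trans ?_
        refine (Set.ncard_insert_le _ _).trans ?_
        rw [Set.ncard_singleton]
      omega
    obtain ⟨a, b, ha, hb, hab⟩ := h5
    have horder : ∀ c : (powMonoidHom 2 : (T : Subgroup G) →* (T : Subgroup G)).ker, c ≠ 1 →
        orderOf ((c : (T : Subgroup G)) : G) = 2 := by
      intro c hc
      have h9 : (c : (T : Subgroup G)) ^ 2 = 1 := c.2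
      have h10 : ((c : (T : Subgroup G)) : G) ^ 2 = 1 := by exact_mod_cast congrArg Subtype.val h9
      exact orderOf_eq_prime h10 (fun h => hc (Subtype.ext (Subtype.ext h)))
    exact hab (Subtype.ext (Subtype.ext (hcon _ (a : (T : Subgroup G)).2 _ (b : (T : Subgroup G)).2
      (horder a ha) (horder b hb))))
  · have h3 : (powMonoidHom r : (T : Subgroup G) →* (T : Subgroup G)).ker = ⊥ := by
      rw [eq_bot_iff]
      intro x hx
      rw [MonoidHom.mem_ker, powMonoidHom_apply] at hx
      obtain ⟨k, hk⟩ := T.2 x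
      have h4 : orderOf x ∣ r := orderOf_dvd_of_pow_eq_one hx
      have h5 : orderOf x ∣ 2 ^ k := orderOf_dvd_of_pow_eq_one hk
      have h6 : Nat.Coprime r (2 ^ k) :=
        Nat.Coprime.pow_right k ((Nat.coprime_primes hr Nat.prime_two).mpr h2)
      have h7 : orderOf x = 1 := Nat.eq_one_of_dvd_coprimes h6 h4 h5
      rw [mem_bot]
      exact orderOf_eq_one_iff.mp h7
    rw [h3, card_bot]
    exact hr.one_lt.le

include hC in
theorem normalizer_cent {t : G} (ht : t ∈ (T : Subgroup G)) (ot : orderOf t = 2) :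
    normalizer ((centralizer ({t} : Set G) : Subgroup G) : Set G) =
      normalizer ((T : Subgroup G) : Set G) := by
  have h0 : ∀ g ∈ normalizer ((T : Subgroup G) : Set G), ∀ c ∈ centralizer ({t} : Set G),
      g * c * g⁻¹ ∈ centralizer ({t} : Set G) := by
    intro g hg c hc
    have h1 : g * t * g⁻¹ ∈ (T : Subgroup G) := (Subgroup.mem_normalizer_iff.mp hg t).mp ht
    rw [cent_eq T hC ht h1 ot (orderOf_conj_two ot), mem_centralizer_singleton_iff]
    have h2 := mem_centralizer_singleton_iff.mp hc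
    calc g * c * g⁻¹ * (g * t * g⁻¹) = g * (c * t) * g⁻¹ := by group
      _ = g * (t * c) * g⁻¹ := by rw [h2]
      _ = g * t * g⁻¹ * (g * c * g⁻¹) := by group
  apply le_antisymm
  · intro g hg
    have h1 : g * t * g⁻¹ ∈ centralizer ({t} : Set G) :=
      (Subgroup.mem_normalizer_iff.mp hg t).mp (mem_centralizer_singleton_iff.mpr rfl)
    apply mem_normalizer_of_conj T hC ot ht
    apply mem_T_of_comm T hC ht ot h1 (k := 1)
    rw [pow_one, ← orderOf_conj_two (g := g) ot]
    exact pow_orderOf_eq_one _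
  · intro g hg
    rw [Subgroup.mem_normalizer_iff]
    intro c
    constructor
    · exact h0 g hg c
    · intro hc
      have h1 := h0 g⁻¹ (inv_mem hg) _ hc
      have h2 : g⁻¹ * (g * c * g⁻¹) * g⁻¹⁻¹ = c := by group
      rw [h2] at h1
      exact h1

/-- the TI case. -/
theorem ti_case {G : Type u} [Group G] [Finite G] (T : Sylow 2 G)
    (hC : ∀ t : G, orderOf t = 2 → IsMulCommutative (centralizer ({t} : Set G)))
    (hnc : ¬ IsCyclic (T : Subgroup G)) (hnn : ¬ (T : Subgroup G).Normal)
    {t : G} (ht : t ∈ (T : Subgroup G)) (ot : orderOf t = 2)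
    (hTI : ∀ g : G, g ∉ normalizer ((T : Subgroup G) : Set G) →
      ∀ k ∈ centralizer ({t} : Set G), g * k * g⁻¹ ∈ centralizer ({t} : Set G) → k = 1) :
    ∀ s : G, orderOf s = 2 → ∀ c ∈ centralizer ({s} : Set G), c ^ 2 = 1 := by
  classical
  have hTb := T_ne_bot T hnc
  have hN := stronglyEmbedded T hC hTb hnn
  have hU := uniqueFix hN
  set N := normalizer ((T : Subgroup G) : Set G) with hNdef
  set A := centralizer ({t} : Set G) with hAdef
  have hAN : A ≤ N := cent_le_normalizer T hC ht ot
  have hNA : normalizer (A : Set G) = N := normalizer_cent T hC ht ot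
  have htA : t ∈ A := mem_centralizer_singleton_iff.mpr rfl
  have ht1 : t ≠ 1 := by rintro rfl; rw [orderOf_one] at ot; omega
  have hab : ∀ a ∈ A, ∀ b ∈ A, a * b = b * a := fun a ha b hb => comm_of hC ot ha hb
  have : Finite (G ⧸ N) := inferInstance
  -- another point
  obtain ⟨g0, hg0⟩ : ∃ g0 : G, g0 ∉ N := by
    by_contra hcon
    push Not at hcon
    exact hnn (Subgroup.normalizer_eq_top_iff.mp ((Subgroup.eq_top_iff' _).mpr hcon))
  let x0 : G ⧸ N := QuotientGroup.mk 1
  let y0 : G ⧸ N := QuotientGroup.mk g0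
  have hxy : x0 ≠ y0 := by
    intro h
    have := QuotientGroup.eq.mp h
    rw [inv_one, one_mul] at this
    exact hg0 this
  have hconj : ∀ s : G, orderOf s = 2 → IsConj t s := fun s os =>
    isConj_involutions hU hxy ot os
  have hfix : (invSwap G x0 x0) = {v : G | ∃ k ∈ N, k * t * k⁻¹ = v} := by
    ext v
    constructor
    · rintro ⟨ov, hv⟩
      have hvN : v ∈ N := (smul_one_eq_iff v).1 hv
      have hvT := involution_mem_T T ov hvN
      obtain ⟨g, hg⟩ := isConj_iff.mp (hconj v ov)
      exact ⟨g, mem_normalizer_of_conj T hC ot ht (hg ▸ hvT), hg⟩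
    · rintro ⟨k, hk, rfl⟩
      refine ⟨orderOf_conj_two ot, (smul_one_eq_iff _).2 ?_⟩
      exact N.mul_mem (N.mul_mem hk (hAN htA)) (N.inv_mem hk)
  have hcardA : N ⊓ centralizer ({t} : Set G) = A := inf_eq_right.mpr hAN
  have hd : Nat.card N = (invSwap G x0 x0).ncard * Nat.card A := by
    rw [hfix]
    have := card_conj_orbit N t
    rw [hcardA] at this
    exact this
  -- an involution outside
  obtain ⟨u, hu⟩ : ∃ u, u ∈ invSwap G x0 y0 := by
    have h1 := ncard_invSwap_eq hU x0 y0
    have h2 : 0 < (invSwap G x0 x0).ncard := by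
      rw [Set.ncard_pos, hfix]
      exact ⟨t, 1, N.one_mem, by group⟩
    have : (invSwap G x0 y0).Nonempty := by
      rw [← Set.ncard_pos, h1]; exact h2
    exact this
  have ou : orderOf u = 2 := hu.1
  have hu2 : u * u = 1 := by rw [← pow_two, ← ou]; exact pow_orderOf_eq_one u
  have huinv : u⁻¹ = u := inv_eq_of_mul_eq_one_left hu2
  have huN : u ∉ N := by
    intro h
    apply hxy
    rw [← hu.2]
    exact ((smul_one_eq_iff u).2 h).symm
  -- Claim 1
  have claim1 : ∀ k ∈ N, k ∉ A → u * k * u⁻¹ = k⁻¹ → ∀ z ∈ A, z * k = k * z → z = 1 := by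
    intro k hkN hkA hku z hzA hzk
    have key := ElemCent.inverts_of_fpf (K := centralizer ({k} : Set G)) ou ?_ ?_
    · have h1 : u * z * u⁻¹ = z⁻¹ := key z (mem_centralizer_singleton_iff.mpr hzk)
      exact hTI u huN z hzA (h1 ▸ A.inv_mem hzA)
    · intro c hc
      rw [mem_centralizer_singleton_iff] at hc ⊢
      have hk' : k = u * k⁻¹ * u⁻¹ := by
        have : u * k⁻¹ * u⁻¹ = (u * k * u⁻¹)⁻¹ := by group
        rw [this, hku, inv_inv]
      have hc' : c * k⁻¹ = k⁻¹ * c := by
        calc c * k⁻¹ = k⁻¹ * (k * c) * k⁻¹ := by group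
          _ = k⁻¹ * (c * k) * k⁻¹ := by rw [hc]
          _ = k⁻¹ * c := by group
      calc u * c * u⁻¹ * k = u * c * u⁻¹ * (u * k⁻¹ * u⁻¹) := by rw [← hk']
        _ = u * (c * k⁻¹) * u⁻¹ := by group
        _ = u * (k⁻¹ * c) * u⁻¹ := by rw [hc']
        _ = (u * k⁻¹ * u⁻¹) * (u * c * u⁻¹) := by group
        _ = k * (u * c * u⁻¹) := by rw [← hk']
    · intro c hc huc
      rw [mem_centralizer_singleton_iff] at hc
      by_contra hc1
      -- conjugate so that u is t
      obtain ⟨g, hg⟩ := isConj_iff.mp (hconj u ou)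
      set c' := g⁻¹ * c * g with hc'
      set k' := g⁻¹ * k * g with hk'
      have hc't : c' ∈ A := by
        rw [hAdef, mem_centralizer_singleton_iff, hc']
        have h1 : t = g⁻¹ * u * g := by rw [← hg]; group
        rw [h1]
        calc g⁻¹ * c * g * (g⁻¹ * u * g) = g⁻¹ * (c * u) * g := by group
          _ = g⁻¹ * (u * c) * g := by rw [huc]
          _ = g⁻¹ * u * g * (g⁻¹ * c * g) := by group
      have hc'1 : c' ≠ 1 := by
        intro h
        apply hc1
        have : c = g * c' * g⁻¹ := by rw [hc']; group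
        rw [this, h]; group
      have hk'N : k' ∈ N := by
        by_contra hcon
        apply hc'1
        apply hTI k' hcon c' hc't
        have h1 : k' * c' * k'⁻¹ = c' := by
          rw [hk', hc']
          calc g⁻¹ * k * g * (g⁻¹ * c * g) * (g⁻¹ * k * g)⁻¹ = g⁻¹ * (k * c) * k⁻¹ * g := by group
            _ = g⁻¹ * (c * k) * k⁻¹ * g := by rw [hc]
            _ = g⁻¹ * c * g := by group
        rw [h1]; exact hc't
      have hktk : k' * t * k'⁻¹ ∈ (T : Subgroup G) :=
        (Subgroup.mem_normalizer_iff.mp hk'N t).mp ht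
      have h2 : t * k' * t⁻¹ = k'⁻¹ := by
        have h1 : t = g⁻¹ * u * g := by rw [← hg]; group
        rw [h1, hk']
        calc g⁻¹ * u * g * (g⁻¹ * k * g) * (g⁻¹ * u * g)⁻¹ = g⁻¹ * (u * k * u⁻¹) * g := by group
          _ = g⁻¹ * k⁻¹ * g := by rw [hku]
          _ = (g⁻¹ * k * g)⁻¹ := by group
      have h3 : k' * t * k'⁻¹ = k' * k' * t := by
        have h4 : t * k'⁻¹ * t⁻¹ = k' := by
          have : t * k'⁻¹ * t⁻¹ = (t * k' * t⁻¹)⁻¹ := by group
          rw [this, h2, inv_inv]
        calc k' * t * k'⁻¹ = k' * (t * k'⁻¹ * t⁻¹) * t := by group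
          _ = k' * k' * t := by rw [h4]
      have h5 : k' * k' ∈ (T : Subgroup G) := by
        have h6 : k' * k' = (k' * t * k'⁻¹) * t⁻¹ := by rw [h3]; group
        rw [h6]
        exact (T : Subgroup G).mul_mem hktk ((T : Subgroup G).inv_mem ht)
      obtain ⟨n, hn⟩ := exists_pow_of_mem T h5
      have h7 : k' ^ 2 ^ (n + 1) = 1 := by
        rw [pow_succ', pow_mul, pow_two]
        exact hn
      have h8 : k ^ 2 ^ (n + 1) = 1 := by
        have h9 : k = MulAut.conj g k' := by
          rw [MulAut.conj_apply, hk']; group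
        rw [h9, ← map_pow, h7, map_one]
      have h10 : k ∈ (T : Subgroup G) := mem_of_normalizer T h8 hkN
      exact hkA (T_le_cent T hC ht h10)
  -- Claim 2
  have claim2 : ∀ x ∈ A, x ≠ 1 → centralizer ({x} : Set G) ≤ A := by
    intro x hxA hx1 c hc
    rw [mem_centralizer_singleton_iff] at hc
    have hcN : c ∈ N := by
      by_contra hcon
      apply hx1
      apply hTI c hcon x hxA
      have : c * x * c⁻¹ = x := by rw [hc]; group
      rw [this]; exact hxA
    by_contra hcA
    -- the injective map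
    have hsN : ∀ s : invSwap G x0 y0, u⁻¹ * (s : G) ∈ N := by
      rintro ⟨s, hs⟩
      have h1 : s • x0 = u • x0 := hs.2.trans hu.2.symm
      have h2 : (QuotientGroup.mk s : G ⧸ N) = QuotientGroup.mk u := by
        have : ∀ g : G, g • x0 = QuotientGroup.mk g := by
          intro g
          show (QuotientGroup.mk (g * 1) : G ⧸ N) = _
          rw [mul_one]
        rw [← this s, ← this u, h1]
      exact QuotientGroup.eq.mp h2.symm
    let φ : invSwap G x0 y0 → N ⧸ A.subgroupOf N := fun s => QuotientGroup.mk ⟨u⁻¹ * (s : G), hsN s⟩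
    have hφ : Function.Injective φ := by
      rintro s s' hss
      have h1 := QuotientGroup.eq.mp hss
      rw [Subgroup.mem_subgroupOf] at h1
      have h2 : (u⁻¹ * (s : G))⁻¹ * (u⁻¹ * (s' : G)) ∈ A := h1
      have h3 : (s : G)⁻¹ * s' ∈ A := by
        have : (u⁻¹ * (s : G))⁻¹ * (u⁻¹ * (s' : G)) = (s : G)⁻¹ * s' := by group
        rw [← this]; exact h2
      have os : orderOf (s : G) = 2 := s.2.1
      have os' : orderOf (s' : G) = 2 := s'.2.1
      have hs2 : (s : G) * s = 1 := by rw [← pow_two, ← os]; exact pow_orderOf_eq_one _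
      have hs2' : (s' : G) * s' = 1 := by rw [← pow_two, ← os']; exact pow_orderOf_eq_one _
      have hsi : (s : G)⁻¹ = s := inv_eq_of_mul_eq_one_left hs2
      have hsi' : (s' : G)⁻¹ = s' := inv_eq_of_mul_eq_one_left hs2'
      have hsnN : (s : G) ∉ N := by
        intro h
        apply hxy
        rw [← s.2.2]
        exact ((smul_one_eq_iff _).2 h).symm
      have h4 : (s : G) * ((s : G)⁻¹ * s') * (s : G)⁻¹ = ((s : G)⁻¹ * s')⁻¹ := by
        rw [mul_inv_rev, inv_inv, hsi', mul_inv_cancel_left, hsi]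
      have h5 := hTI s hsnN _ h3 (h4 ▸ A.inv_mem h3)
      exact Subtype.ext (inv_mul_eq_one.mp h5)
    have hcard : Nat.card (invSwap G x0 y0) = Nat.card (N ⧸ A.subgroupOf N) := by
      rw [Nat.card_coe_set_eq, ncard_invSwap_eq hU x0 y0]
      have h1 := (A.subgroupOf N).card_mul_index
      have h2 : Nat.card (A.subgroupOf N) = Nat.card A :=
        Nat.card_congr (Subgroup.subgroupOfEquivOfLe hAN).toEquiv
      rw [hd, h2, mul_comm] at h1
      exact (Nat.eq_of_mul_eq_mul_right Nat.card_pos h1).symm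
    have : Finite (N ⧸ A.subgroupOf N) := inferInstance
    have hbij := (Nat.bijective_iff_injective_and_card φ).mpr ⟨hφ, hcard⟩
    obtain ⟨s, hs⟩ := hbij.2 (QuotientGroup.mk ⟨c, hcN⟩)
    set k : G := u⁻¹ * (s : G) with hk
    have hkc : k⁻¹ * c ∈ A := by
      have h1 := QuotientGroup.eq.mp hs
      rw [Subgroup.mem_subgroupOf] at h1
      exact h1
    have hkA : k ∉ A := by
      intro h
      apply hcA
      have : c = k * (k⁻¹ * c) := by group
      rw [this]
      exact A.mul_mem h hkc
    have hku : u * k * u⁻¹ = k⁻¹ := by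
      have os : orderOf (s : G) = 2 := s.2.1
      have hs2 : (s : G) * s = 1 := by rw [← pow_two, ← os]; exact pow_orderOf_eq_one _
      have hsi : (s : G)⁻¹ = s := inv_eq_of_mul_eq_one_left hs2
      rw [hk, mul_inv_rev, inv_inv, hsi]
      calc u * (u⁻¹ * (s : G)) * u⁻¹ = (s : G) * u⁻¹ := by group
        _ = s * u := by rw [huinv]
    apply hx1
    apply claim1 k (hsN s) hkA hku x hxA
    -- k commutes with x
    have h1 : k = c * (k⁻¹ * c)⁻¹ := by group
    rw [h1]
    have h2 := hab x hxA _ (A.inv_mem hkc)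
    calc x * (c * (k⁻¹ * c)⁻¹) = (x * c) * (k⁻¹ * c)⁻¹ := by group
      _ = (c * x) * (k⁻¹ * c)⁻¹ := by rw [hc]
      _ = c * (x * (k⁻¹ * c)⁻¹) := by group
      _ = c * ((k⁻¹ * c)⁻¹ * x) := by rw [h2]
      _ = c * (k⁻¹ * c)⁻¹ * x := by group
  -- finish
  have hAnn : ¬ A.Normal := by
    intro h
    have h1 : normalizer (A : Set G) = ⊤ := Subgroup.normalizer_eq_top_iff.mpr h
    rw [hNA] at h1
    exact hg0 (h1 ▸ mem_top g0)
  have hd2 : 2 ≤ (A.subgroupOf (normalizer (A : Set G))).index := by
    have h0 : (A.subgroupOf (normalizer (A : Set G))).index ≠ 0 := Subgroup.index_ne_zero_of_finite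
    have h1 : (A.subgroupOf (normalizer (A : Set G))).index ≠ 1 := by
      intro h
      rw [Subgroup.index_eq_one, Subgroup.subgroupOf_eq_top] at h
      rw [hNA] at h
      obtain ⟨s, hs, s', hs', os, os', hne⟩ := exists_two_involutions T hC hnc
      obtain ⟨g, hg⟩ := isConj_iff.mp (isConj_involutions hU hxy os os')
      have hgN : g ∈ N := mem_normalizer_of_conj T hC os hs (hg ▸ hs')
      have hgA := h hgN
      apply hne
      have hsA : s ∈ A := T_le_cent T hC ht hs
      rw [← hg, hab g hgA s hsA]; group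
    omega
  let _ : Fintype G := Fintype.ofFinite G
  have hfin := CAElem.elementary A
    (by rw [hNA]; exact hTI) claim2 hab hAnn t htA ot hconj hd2
  intro s os c hc
  obtain ⟨g, hg⟩ := isConj_iff.mp (hconj s os)
  have h1 : g⁻¹ * c * g ∈ A := by
    rw [hAdef, mem_centralizer_singleton_iff]
    rw [mem_centralizer_singleton_iff] at hc
    have h1 : t = g⁻¹ * s * g := by rw [← hg]; group
    rw [h1]
    calc g⁻¹ * c * g * (g⁻¹ * s * g) = g⁻¹ * (c * s) * g := by group
      _ = g⁻¹ * (s * c) * g := by rw [hc]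
      _ = g⁻¹ * s * g * (g⁻¹ * c * g) := by group
  have h2 := hfin _ h1
  have h3 : c = MulAut.conj g (g⁻¹ * c * g) := by
    rw [MulAut.conj_apply]; group
  rw [h3, ← map_pow, h2, map_one]

end general

end Cfsg.Agent.Lib.InvCentAb
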