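import Mathlib

set_option autoImplicit false

/-! Groups of order 7920 with a disconnected prime graph: basic tools (helper42). -/

namespace Cfsg.Agent.Lib.OrdDisc

open scoped Pointwise

variable {G : Type*} [Group G]

/-- an element of order `p q` exists -/
def Ed (G : Type*) [Group G] (p q : ℕ) : Prop := ∃ g : G, orderOf g = p * q

theorem Ed.symm {p q : ℕ} (h : Ed G p q) : Ed G q p := by
  obtain ⟨g, hg⟩ := h
  exact ⟨g, by rw [hg, mul_comm]⟩

theorem ed_of_commute [Finite G] {p q : ℕ} (hp : p.Prime) (hq : q.Prime) (hpq : p ≠ q) {x y : G}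
    (hc : Commute x y) (hx : p ∣ orderOf x) (hy : q ∣ orderOf y) : Ed G p q := by
  have h1 : orderOf (x ^ (orderOf x / p)) = p := orderOf_pow_orderOf_div (orderOf_pos x).ne' hx
  have h2 : orderOf (y ^ (orderOf y / q)) = q := orderOf_pow_orderOf_div (orderOf_pos y).ne' hy
  refine ⟨x ^ (orderOf x / p) * y ^ (orderOf y / q), ?_⟩
  rw [(hc.pow_pow _ _).orderOf_mul_eq_mul_orderOf_of_coprime, h1, h2]
  rw [h1, h2]
  exact (Nat.coprime_primes hp hq).mpr hpq

/-- An element of order `q` of a subgroup centralizing an element of order `p`. -/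
theorem ed_of_centralizer [Finite G] {p q : ℕ} (hp : p.Prime) (hq : q.Prime) (hpq : p ≠ q)
    (P C : Subgroup G) (hC : ∀ c ∈ C, ∀ x ∈ P, c * x = x * c) (hP : p ∣ Nat.card P) (hq' : q ∣ Nat.card C) :
    Ed G p q := by
  have : Fact p.Prime := ⟨hp⟩
  have : Fact q.Prime := ⟨hq⟩
  obtain ⟨x, hx⟩ := exists_prime_orderOf_dvd_card' p hP
  obtain ⟨y, hy⟩ := exists_prime_orderOf_dvd_card' q hq'
  have hx' : orderOf (x : G) = p := by rw [Subgroup.orderOf_coe, hx]
  have hy' : orderOf (y : G) = q := by rw [Subgroup.orderOf_coe, hy]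
  exact ed_of_commute hp hq hpq (x := x.1) (y := y.1) (hC y.1 y.2 x.1 x.2).symm (by rw [hx']) (by rw [hy'])

/-- A fixed-point-free action by conjugation. -/
theorem card_dvd_pred [Finite G] (R L : Subgroup G) (hnorm : ∀ r ∈ R, ∀ x ∈ L, r * x * r⁻¹ ∈ L)
    (hfree : ∀ r ∈ R, ∀ x ∈ L, r * x = x * r → r ≠ 1 → x = 1) : Nat.card R ∣ Nat.card L - 1 := by
  classical
  have := Fintype.ofFinite G
  let T := {x : G // x ∈ L ∧ x ≠ 1}
  let act : MulAction R T :=
    { smul := fun r x => ⟨r.1 * x.1 * r.1⁻¹, hnorm r.1 r.2 x.1 x.2.1, fun h => x.2.2 (by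
        have h2 : r.1 * x.1 = r.1 := by
          have := congrArg (· * r.1) h
          simpa [mul_assoc] using this
        simpa using h2)⟩
      one_smul := fun x => Subtype.ext (by
        show (1 : G) * x.1 * (1 : G)⁻¹ = x.1
        simp)
      mul_smul := fun r s x => Subtype.ext (by
        show (r.1 * s.1) * x.1 * (r.1 * s.1)⁻¹ = r.1 * (s.1 * x.1 * s.1⁻¹) * r.1⁻¹
        group) }
  have hsm : ∀ (r : R) (x : T), (r • x).1 = r.1 * x.1 * r.1⁻¹ := fun r x => rfl
  have h1 := MulAction.sum_card_fixedBy_eq_card_orbits_mul_card_group R T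
  have h2 : ∀ r : R, Fintype.card (MulAction.fixedBy T r) = if r = 1 then Fintype.card T else 0 := by
    intro r
    split_ifs with hr
    · subst hr
      exact Fintype.card_congr ⟨fun x => x.1, fun x => ⟨x, one_smul _ _⟩, fun x => rfl, fun x => rfl⟩
    · rw [Fintype.card_eq_zero_iff]
      constructor
      rintro ⟨x, hx⟩
      have h3 : r.1 * x.1 * r.1⁻¹ = x.1 := by
        rw [← hsm]
        exact congrArg Subtype.val hx
      exact x.2.2 (hfree r.1 r.2 x.1 x.2.1 (by rw [← mul_inv_eq_iff_eq_mul]; exact h3)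
        (fun h => hr (Subtype.ext h)))
  rw [Finset.sum_congr rfl fun r _ => h2 r, Finset.sum_ite_eq' Finset.univ (1 : R) (fun _ => Fintype.card T)] at h1
  rw [if_pos (Finset.mem_univ _)] at h1
  have h3 : Nat.card L = Fintype.card T + 1 := by
    rw [← Nat.card_eq_fintype_card]
    have e : (L : Type _) ≃ Option T :=
      { toFun := fun x => if h : (x : G) = 1 then none else some ⟨x.1, x.2, h⟩
        invFun := fun o => o.elim 1 (fun t => ⟨t.1, t.2.1⟩)
        left_inv := fun x => by
          by_cases h : (x : G) = 1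
          · simp only [h, dite_true]
            exact Subtype.ext h.symm
          · simp [h]
        right_inv := fun o => by
          cases o with
          | none => simp
          | some t => simp [t.2.2] }
    rw [Nat.card_congr e, Finite.card_option]
  rw [h3, Nat.add_sub_cancel, h1, Nat.card_eq_fintype_card]
  exact Dvd.intro_left _ rfl

theorem card_dvd_pred' [Finite G] {r : ℕ} (hr : r.Prime) (R L : Subgroup G) (hR : IsPGroup r R)
    (hnorm : ∀ r ∈ R, ∀ x ∈ L, r * x * r⁻¹ ∈ L) (hL : ¬ r ∣ Nat.card L)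
    (hE : ∀ p, p.Prime → p ∣ Nat.card L → ¬ Ed G r p) : Nat.card R ∣ Nat.card L - 1 := by
  apply card_dvd_pred R L hnorm
  intro ρ hρ x hx hcomm hne
  by_contra hx1
  have h1 : r ∣ orderOf ρ := by
    obtain ⟨k, hk⟩ := hR ⟨ρ, hρ⟩
    have hk' : ρ ^ (r ^ k) = 1 := congrArg Subtype.val hk
    have h2 := orderOf_dvd_of_pow_eq_one hk'
    obtain ⟨j, _, hj⟩ := (Nat.dvd_prime_pow hr).mp h2
    cases j with
    | zero => rw [pow_zero, orderOf_eq_one_iff] at hj; exact absurd hj hne
    | succ j => rw [hj]; exact dvd_pow_self r (Nat.succ_ne_zero j)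
  have h3 : orderOf x ≠ 1 := fun h => hx1 (orderOf_eq_one_iff.mp h)
  have h4 : orderOf x ∣ Nat.card L := Subgroup.orderOf_dvd_natCard L hx
  have h5 := Nat.minFac_prime h3
  have h6 := Nat.minFac_dvd (orderOf x)
  apply hE _ h5 (h6.trans h4)
  refine ed_of_commute hr h5 ?_ (show Commute ρ x from hcomm) h1 h6
  intro h
  apply hL
  rw [h]
  exact h6.trans h4

/-- N/C theorem for a subgroup of order `11`. -/
theorem normalizer_centralizer [Finite G] (P : Subgroup G) (hP : Nat.card P = 11) :
    ∃ k, k ∣ 10 ∧ Nat.card (Subgroup.normalizer (P : Set G)) = k * Nat.card (Subgroup.centralizer (P : Set G)) := by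
  have hle : Subgroup.centralizer (P : Set G) ≤ Subgroup.normalizer (P : Set G) :=
    Subgroup.centralizer_le_normalizer (P : Set G)
  have : Fact (Nat.Prime 11) := ⟨by norm_num⟩
  have hcyc : IsCyclic P := isCyclic_of_prime_card hP
  refine ⟨Nat.card (Subgroup.normalizerMonoidHom P).range, ?_, ?_⟩
  · have h1 := Subgroup.card_subgroup_dvd_card (Subgroup.normalizerMonoidHom P).range
    rw [IsCyclic.card_mulAut, hP] at h1
    exact h1
  · have h2 := Subgroup.card_eq_card_quotient_mul_card_subgroup (Subgroup.normalizerMonoidHom P).ker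
    rw [Nat.card_congr (QuotientGroup.quotientKerEquivRange _).toEquiv, Subgroup.normalizerMonoidHom_ker] at h2
    rw [h2]
    congr 1
    exact Nat.card_congr (Subgroup.subgroupOfEquivOfLe hle).toEquiv

end Cfsg.Agent.Lib.OrdDisc
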