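import Cfsg.Agent.Lib.H81TI7
import Cfsg.Agent.Lib.OrdDisc
import Cfsg.Agent.Lib.InvCentAb2

/-!
# Groups with TI element centralizers: the kernel is elementary abelian (helper81)
-/

set_option autoImplicit false
open Cfsg

namespace Cfsg.Agent.Lib.H81TI3

open Subgroup Cfsg.Agent.Lib Cfsg.Agent.Lib.CN H81TI1 MulAction InvAct

universe u

variable {G : Type u} [Group G] [Finite G] {H : Subgroup G} (C : Cfg G H)

include C

theorem Cfg.H_comm : ∀ a ∈ H, ∀ b ∈ H, a * b = b * a := by
  classical
  by_contra hcon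
  push Not at hcon
  obtain ⟨a, ha, b, hb, hab⟩ := hcon
  obtain ⟨y, hy⟩ := C.exists_ne
  have hF := Fintype.ofFinite (G ⧸ normalizer (H : Set G))
  have hcard : Nat.card (G ⧸ normalizer (H : Set G)) = Nat.card H + 1 := (C.regular hy).1
  have hHa : H ≤ stabilizer G (pt H) := fun h hh => mem_stab_pt.mpr (Subgroup.le_normalizer hh)
  have hHfix : ∀ u ∈ H, u ≠ 1 → ∀ c : G ⧸ normalizer (H : Set G), u • c = c → c = pt H := by
    intro u hu hu1 c hc
    by_contra hne
    exact hu1 (C.inf_eq_one hne hu hc)
  -- the centre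
  let K : Subgroup G := H ⊓ centralizer (H : Set G)
  have hKt : ∀ t ∈ H, orderOf t = 2 → t ∈ K := by
    intro t ht ot
    refine ⟨ht, ?_⟩
    show t ∈ centralizer (H : Set G)
    rw [Subgroup.mem_centralizer_iff]
    intro h hh
    have h1 : h ∈ centralizer ({t} : Set G) := by rw [C.cent_invol ht ot]; exact hh
    exact mem_centralizer_singleton_iff.mp h1
  have hKcard := C.card_center hy K hKt
  have haK : a ∉ K := fun h => hab ((Subgroup.mem_centralizer_iff.mp h.2 b hb).symm)
  rcases Cfsg.Agent.S0885.result C.zass (Ne.symm hy) (Nat.card H)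
    (Nat.card ↥(stabilizer G (pt H) ⊓ stabilizer G y : Subgroup G))
    (by rw [← Nat.card_eq_fintype_card]; exact hcard) rfl (C.D_odd hy) H hHa
    (by rw [← Nat.card_eq_fintype_card]; exact hcard.symm) hHfix with h1 | ⟨h2, -, -⟩
  · have hdvd : Nat.card K ∣ Nat.card H := Subgroup.card_dvd_of_le inf_le_left
    obtain ⟨k, hk⟩ := hdvd
    have hKpos : 0 < Nat.card K := Nat.card_pos
    have hHpos : 0 < Nat.card H := Nat.card_pos
    have hk1 : k ≠ 1 := by
      rintro rfl
      rw [mul_one] at hk
      have h3 : K = H := Subgroup.eq_of_le_of_card_ge inf_le_left hk.le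
      exact haK (h3.symm.le ha)
    have hk0 : k ≠ 0 := by
      rintro rfl
      omega
    have hk2 : 2 ≤ k := by omega
    have h4 : Nat.card K * 2 ≤ Nat.card H := by
      rw [hk]; exact Nat.mul_le_mul_left _ hk2
    omega
  · have hsimple := C.simple
    have hreg : ∀ c d : G ⧸ normalizer (H : Set G), c ≠ pt H → d ≠ pt H →
        ∃! u : H, (u : G) • c = d := by
      intro c d hc hd
      obtain ⟨h, hh, hhc⟩ := (C.regular hc).2 d hd
      refine ⟨⟨h, hh⟩, hhc, ?_⟩
      intro k hk
      have h3 : ((h⁻¹ * k : G)) • c = c := by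
        rw [mul_smul]
        have : (k : G) • c = d := hk
        rw [this, ← hhc, inv_smul_smul]
      have h4 := C.inf_eq_one hc (H.mul_mem (H.inv_mem hh) k.2) h3
      exact Subtype.ext (inv_mul_eq_one.mp h4).symm
    have Kh := ZassSz.kerHyp_of C.zass (Ne.symm hy) H hHa hreg h2
    obtain ⟨n, -, hn1, hn2, hn3, -⟩ := ZassSz.main Kh h2 ⟨a, ha, b, hb, hab⟩
    have hcH : Nat.card H = 2 ^ (2 * n) := by omega
    have hCle : centralizer ({a} : Set G) ≤ H := by
      apply C.ct.cent_le C.max ha
      rintro rfl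
      exact hab (by group)
    have hCdvd : Nat.card (centralizer ({a} : Set G)) ∣ 2 ^ (2 * n) := by
      rw [← hcH]; exact Subgroup.card_dvd_of_le hCle
    obtain ⟨j, hj, hjc⟩ := (Nat.dvd_prime_pow Nat.prime_two).mp hCdvd
    have hj2 : j < 2 * n := by
      rcases lt_or_eq_of_le hj with h | h
      · exact h
      · exfalso
        have h5 : centralizer ({a} : Set G) = H :=
          Subgroup.eq_of_le_of_card_ge hCle (by rw [hjc, h, hcH])
        have h6 : b ∈ centralizer ({a} : Set G) := h5.symm.le hb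
        exact hab (mem_centralizer_singleton_iff.mp h6).symm
    have hKC : K ≤ centralizer ({a} : Set G) := by
      intro k hk
      rw [mem_centralizer_singleton_iff]
      exact (Subgroup.mem_centralizer_iff.mp hk.2 a ha).symm
    have hj1 : n < j := by
      have h7 : 2 ^ n ≤ Nat.card K := by rw [← hn3]; exact hKcard
      have h8 : Nat.card K ≤ Nat.card (centralizer ({a} : Set G)) := Subgroup.card_le_of_le hKC
      rw [hjc] at h8
      have h9 : Nat.card K ≠ 2 ^ j := by
        intro h
        have h10 : K = centralizer ({a} : Set G) :=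
          Subgroup.eq_of_le_of_card_ge hKC (by rw [hjc, h])
        exact haK (h10.symm.le (mem_cent_self a))
      have h11 : 2 ^ n < 2 ^ j := by omega
      exact (Nat.pow_lt_pow_iff_right (by norm_num)).mp h11
    have hdvd : Nat.card ↥(stabilizer G (pt H) ⊓ stabilizer G y : Subgroup G) ∣
        Nat.card (centralizer ({a} : Set G)) - 1 := by
      apply OrdDisc.card_dvd_pred
      · intro r hr x hx
        have h12 := C.ct.norm_cent C.max ha (mem_stab_pt.mp hr.1)
        exact (Subgroup.mem_normalizer_iff.mp h12 x).mp hx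
      · intro r hr x hx hrx hr1
        by_contra hx1
        apply hr1
        have h13 : r ∈ H := C.ct.cent_le C.max (hCle hx) hx1 (mem_centralizer_singleton_iff.mpr hrx)
        exact C.inf_eq_one hy h13 hr.2
    rw [hjc] at hdvd
    have h14 : Nat.card ↥(stabilizer G (pt H) ⊓ stabilizer G y : Subgroup G) = 2 ^ n - 1 := by omega
    rw [h14] at hdvd
    exact pow_arith hj1 hj2 hdvd

omit [Finite G] C in
theorem cyclic_unique [Finite G] {T : Subgroup G} (hT : IsCyclic T) {s t : G} (hs : s ∈ T) (ht : t ∈ T)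
    (os : orderOf s = 2) (ot : orderOf t = 2) : s = t := by
  classical
  have : Fintype T := Fintype.ofFinite T
  have h1 := IsCyclic.card_pow_eq_one_le (α := T) (n := 2) (by norm_num)
  by_contra hne
  have h2 : ({1, ⟨s, hs⟩, ⟨t, ht⟩} : Finset T) ⊆ Finset.univ.filter (fun a : T => a ^ 2 = 1) := by
    intro x hx
    rw [Finset.mem_filter]
    refine ⟨Finset.mem_univ _, ?_⟩
    simp only [Finset.mem_insert, Finset.mem_singleton] at hx
    rcases hx with rfl | rfl | rfl
    · rw [one_pow]
    · apply Subtype.ext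
      show s ^ 2 = 1
      rw [← os]; exact pow_orderOf_eq_one s
    · apply Subtype.ext
      show t ^ 2 = 1
      rw [← ot]; exact pow_orderOf_eq_one t
  have h3 : ({1, ⟨s, hs⟩, ⟨t, ht⟩} : Finset T).card = 3 := by
    have hs1 : (⟨s, hs⟩ : T) ≠ 1 := by
      intro h
      have : s = 1 := congrArg Subtype.val h
      rw [this, orderOf_one] at os
      norm_num at os
    have ht1 : (⟨t, ht⟩ : T) ≠ 1 := by
      intro h
      have : t = 1 := congrArg Subtype.val h
      rw [this, orderOf_one] at ot
      norm_num at ot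
    have hst : (⟨s, hs⟩ : T) ≠ ⟨t, ht⟩ := fun h => hne (congrArg Subtype.val h)
    rw [Finset.card_insert_of_notMem, Finset.card_insert_of_notMem, Finset.card_singleton]
    · simpa using hst
    · simp only [Finset.mem_insert, Finset.mem_singleton, not_or]
      exact ⟨hs1.symm, ht1.symm⟩
  have h4 := Finset.card_le_card h2
  omega

/-- involution centralizers are elementary abelian -/
theorem Cfg.final : ∃ T : Sylow 2 G, ¬ IsCyclic (T : Subgroup G) ∧ ¬ (T : Subgroup G).Normal ∧
    ∀ t : G, orderOf t = 2 → IsMulCommutative (centralizer ({t} : Set G)) ∧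
      ∀ c ∈ centralizer ({t} : Set G), c ^ 2 = 1 := by
  classical
  obtain ⟨T, hT⟩ := C.syl
  obtain ⟨t, htH, ht, -⟩ := C.exists_central
  obtain ⟨s, hs, os, hst⟩ := C.exists_two htH ht
  have hmemT : ∀ x ∈ H, orderOf x = 2 → x ∈ (T : Subgroup G) := by
    intro x hx ox
    apply InvCentAb.mem_of_normalizer (k := 1) T (by rw [pow_one, ← ox]; exact pow_orderOf_eq_one x)
    rw [Subgroup.mem_normalizer_iff]
    intro w
    constructor
    · intro hw
      have h1 : x * w * x⁻¹ = w := by rw [C.H_comm x hx w (hT hw)]; group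
      rw [h1]; exact hw
    · intro hw
      have h1 : x⁻¹ * (x * w * x⁻¹) * x = x * w * x⁻¹ := by
        rw [C.H_comm _ (H.inv_mem hx) _ (hT hw)]; group
      have h2 : x⁻¹ * (x * w * x⁻¹) * x = w := by group
      rw [← h2, h1]; exact hw
  have hC : ∀ z : G, orderOf z = 2 → IsMulCommutative (centralizer ({z} : Set G)) := by
    intro z oz
    obtain ⟨g, hg⟩ : ∃ g : G, g⁻¹ * z * g ∈ (T : Subgroup G) := by
      have hzp : IsPGroup 2 (zpowers z) := by
        apply IsPGroup.of_card (n := 1)
        rw [Nat.card_zpowers, oz, pow_one]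
      obtain ⟨P, hP⟩ := hzp.exists_le_sylow
      obtain ⟨g, rfl⟩ := MulAction.exists_smul_eq G T P
      refine ⟨g, ?_⟩
      have h1 : z ∈ ((g • T : Sylow 2 G) : Subgroup G) := hP (mem_zpowers z)
      rw [Sylow.coe_subgroup_smul, Subgroup.mem_pointwise_smul_iff_inv_smul_mem] at h1
      have h2 : (MulAut.conj g)⁻¹ • z = g⁻¹ * z * g := by
        rw [← map_inv]
        show g⁻¹ * z * (g⁻¹)⁻¹ = _
        rw [inv_inv]
      rwa [h2] at h1
    have ogz : orderOf (g⁻¹ * z * g) = 2 := by
      have := orderOf_injective (MulAut.conj g⁻¹).toMonoidHom (MulAut.conj g⁻¹).injective z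
      have h3 : (MulAut.conj g⁻¹).toMonoidHom z = g⁻¹ * z * g := by
        show g⁻¹ * z * (g⁻¹)⁻¹ = _
        rw [inv_inv]
      rw [h3] at this
      exact this.trans oz
    have hcen := C.cent_invol (hT hg) ogz
    constructor
    constructor
    intro a b
    apply Subtype.ext
    show (a : G) * b = b * a
    have key : ∀ x ∈ centralizer ({z} : Set G), g⁻¹ * x * g ∈ H := by
      intro x hx
      rw [← hcen, mem_centralizer_singleton_iff]
      have h4 := mem_centralizer_singleton_iff.mp hx
      calc g⁻¹ * x * g * (g⁻¹ * z * g) = g⁻¹ * (x * z) * g := by group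
        _ = g⁻¹ * (z * x) * g := by rw [h4]
        _ = g⁻¹ * z * g * (g⁻¹ * x * g) := by group
    have h5 := C.H_comm _ (key a a.2) _ (key b b.2)
    calc (a : G) * b = g * (g⁻¹ * a * g * (g⁻¹ * b * g)) * g⁻¹ := by group
      _ = g * (g⁻¹ * b * g * (g⁻¹ * a * g)) * g⁻¹ := by rw [h5]
      _ = b * a := by group
  have hnc : ¬ IsCyclic (T : Subgroup G) := by
    intro h
    exact hst (cyclic_unique h (hmemT s hs os) (hmemT t htH ht) os ht)
  have hnn : ¬ (T : Subgroup G).Normal := by
    intro h
    have h1 := C.nn (T : Subgroup G) h T.2.isNilpotent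
    have h2 := hmemT t htH ht
    rw [h1, Subgroup.mem_bot] at h2
    rw [h2, orderOf_one] at ht
    norm_num at ht
  refine ⟨T, hnc, hnn, fun z oz => ⟨hC z oz, ?_⟩⟩
  have htT := hmemT t htH ht
  apply InvCentAb.ti_case T hC hnc hnn htT ht _ z oz
  intro g hg k hk hgk
  by_contra hk1
  apply hg
  rw [← InvCentAb.normalizer_cent T hC htT ht]
  rw [C.cent_invol htH ht] at hk hgk ⊢
  exact C.ct.ti C.max hk hk1 hgk

end Cfsg.Agent.Lib.H81TI3
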