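import Mathlib
import Cfsg.Agent.Lib.ColTools
import Cfsg.Agent.Lib.BlockOsima
import Cfsg.Agent.Lib.BlockThird
import Cfsg.Agent.Lib.BlockDefZero
import Cfsg.Agent.Lib.SimplePQR

set_option autoImplicit false
set_option linter.all false

/-! S2220 character part: block divisibility (helper82) -/

namespace Cfsg.Agent.Lib.H82K9

open scoped ComplexConjugate
open Cfsg Cfsg.Agent.Lib.CharBasic Cfsg.Agent.Lib.ColTools

universe u

variable {G : Type u} [Group G] [Finite G]

theorem block_dvd {p : ℕ} [Fact p.Prime] {M : Ideal AlgInt} (hM : IsPModular p M) {k : G} (hk : ¬ p ∣ orderOf k)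
    (v : IrrCharacter G → ℤ) (hv : ∀ χ : IrrCharacter G, (χ : G → ℂ) k = v χ) (P : Sylow p G)
    (s : Finset (IrrCharacter G)) (hs : ∀ χ, χ ∈ s ↔ χ ∈ principalBlock M G) :
    ((Nat.card P : ℕ) : ℤ) ∣ ∑ χ ∈ s, v χ * (deg χ : ℤ) := by
  classical
  letI : Fintype P := Fintype.ofFinite _
  have hf : ∀ y : G, p ∣ orderOf y → ∑ χ ∈ s, (v χ : ℂ) * (χ : G → ℂ) y = 0 := by
    intro y hy
    have h1 := BlockOsima.weak_orthogonality hM (BlockThird.isPBlock_principal (M := M) (G := G)) hk hy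
    rw [finsum_mem_eq_finite_toFinset_sum _ (Set.toFinite _)] at h1
    have h2 : ∑ χ ∈ s, (v χ : ℂ) * conj ((χ : G → ℂ) y) = 0 := by
      rw [← h1]
      exact Finset.sum_congr (by ext; simp [hs]) fun χ _ => by rw [hv]
    have h3 := congrArg conj h2
    rw [map_sum, map_zero] at h3
    rw [← h3]
    exact Finset.sum_congr rfl fun χ _ => by simp
  have hn : ∀ χ : IrrCharacter G, ∃ n : ℕ, ∑ y : P, (χ : G → ℂ) y = (Nat.card P : ℂ) * n := fun χ =>
    BlockDefZero.sum_over_subgroup (P : Subgroup G) χ.2.isCharacter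
  choose n hn using hn
  have h1 : ∑ y : P, ∑ χ ∈ s, (v χ : ℂ) * (χ : G → ℂ) y = ∑ χ ∈ s, (v χ : ℂ) * (deg χ : ℂ) := by
    rw [Finset.sum_eq_single 1]
    · refine Finset.sum_congr rfl fun χ _ => ?_
      rw [OneMemClass.coe_one, apply_one]
    · intro y _ hy
      apply hf
      obtain ⟨k, hk⟩ := IsPGroup.iff_orderOf.1 P.isPGroup' y
      rw [Subgroup.orderOf_coe, hk]
      have hk0 : k ≠ 0 := by
        rintro rfl
        rw [pow_zero, orderOf_eq_one_iff] at hk
        exact hy hk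
      exact dvd_pow_self p hk0
    · intro h; exact absurd (Finset.mem_univ _) h
  rw [Finset.sum_comm, Finset.sum_congr rfl (fun χ _ => by rw [← Finset.mul_sum, hn χ])] at h1
  refine ⟨∑ χ ∈ s, v χ * n χ, ?_⟩
  have h3 : ((∑ χ ∈ s, v χ * (deg χ : ℤ) : ℤ) : ℂ) = (((Nat.card P : ℤ) * ∑ χ ∈ s, v χ * n χ : ℤ) : ℂ) := by
    push_cast
    rw [← h1, Finset.mul_sum]
    exact Finset.sum_congr rfl fun χ _ => by ring
  exact_mod_cast h3

/-- a nontrivial character of `p`-power degree is not in the principal `p`-block of a simple group -/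
theorem not_pow [IsSimpleGroup G] (hG : ¬ IsMulCommutative G) {p : ℕ} [hp : Fact p.Prime] (hd : p ∣ Nat.card G)
    {M : Ideal AlgInt} (hM : IsPModular p M) {χ : IrrCharacter G} (hχ : χ ∈ principalBlock M G) (h1 : χ ≠ triv G)
    (k : ℕ) : deg χ ≠ p ^ k := by
  have hZ : Subgroup.center G = ⊥ := by
    rcases IsSimpleGroup.eq_bot_or_eq_top_of_normal (Subgroup.center G) inferInstance with h | h
    · exact h
    · exact absurd ⟨⟨fun a b => (Subgroup.mem_center_iff.1 (h ▸ Subgroup.mem_top a : a ∈ Subgroup.center G) b).symm⟩⟩ hG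
  intro h
  refine SimplePQR.not_pow_degree hZ hd hM hχ (fun h2 => h1 (Subtype.ext h2)) k ?_
  rw [apply_one, h]
  push_cast
  rfl

end Cfsg.Agent.Lib.H82K9
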