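import Mathlib
import Cfsg.Agent.Lib.H82K9A
import Cfsg.Agent.Lib.C3XChar
import Cfsg.Agent.Lib.H76Char

set_option autoImplicit false
set_option linter.all false

/-! S2220 character part: numerical data (helper82) -/

namespace Cfsg.Agent.Lib.H82K9

open scoped ComplexConjugate
open Cfsg Cfsg.Agent.Lib.CharBasic Cfsg.Agent.Lib.ColTools

universe u

theorem sum_sub {G : Type u} [Group G] [Finite G] (P : IrrCharacter G → Prop) (s : Finset (IrrCharacter G))
    (ht : triv G ∈ s) (hP : ¬ P (triv G)) (f : IrrCharacter G → ℤ) (hf : ∀ χ, χ ≠ triv G → ¬ P χ → f χ = 0)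
    [Fintype {χ : IrrCharacter G // P χ}] [DecidablePred fun i : {χ : IrrCharacter G // P χ} => i.1 ∈ s] :
    ∑ χ ∈ s, f χ = f (triv G) + ∑ i ∈ Finset.univ.filter (fun i : {χ : IrrCharacter G // P χ} => i.1 ∈ s), f i.1 := by
  classical
  rw [← Finset.add_sum_erase _ _ ht]
  congr 1
  have h1 : ∑ χ ∈ s.erase (triv G), f χ = ∑ χ ∈ (s.erase (triv G)).filter P, f χ := by
    symm
    apply Finset.sum_filter_of_ne
    intro χ hχ h
    by_contra hc
    exact h (hf χ (Finset.ne_of_mem_erase hχ) hc)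
  rw [h1]
  symm
  apply Finset.sum_bij (fun i _ => i.1)
  · intro i hi
    rw [Finset.mem_filter] at hi
    rw [Finset.mem_filter, Finset.mem_erase]
    exact ⟨⟨fun h => hP (h ▸ i.2), hi.2⟩, i.2⟩
  · intro i _ j _ h
    exact Subtype.ext h
  · intro χ hχ
    rw [Finset.mem_filter, Finset.mem_erase] at hχ
    exact ⟨⟨χ, hχ.2⟩, by rw [Finset.mem_filter]; exact ⟨Finset.mem_univ _, hχ.1.2⟩, rfl⟩
  · intro i _
    rfl

theorem char_data {G : Type u} [Group G] [Finite G] [IsSimpleGroup G] (hG : ¬ IsMulCommutative G)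
    (q a b : ℕ) (hq : q.Prime) (hq2 : q ≠ 2) (hq3 : q ≠ 3) (hcard : Nat.card G = 9 * 2 ^ a * q ^ b)
    (R : Sylow 3 G) (hR9 : Nat.card R = 9)
    (hR : ∀ k ∈ (R : Subgroup G), k ≠ 1 → Subgroup.centralizer ({k} : Set G) = R)
    (h3 : ∀ k ∈ (R : Subgroup G), k ^ 3 = 1)
    (hone : ∀ k k' : G, orderOf k = 3 → orderOf k' = 3 → IsConj k k') :
    ∃ (ι : Type u) (_ : Fintype ι) (v : ι → ℤ) (d : ι → ℕ) (T T' : Finset ι),
      (∀ i, v i ≠ 0) ∧ ∑ i, v i ^ 2 = 8 ∧ 1 + ∑ i, v i * d i = 0 ∧ (∀ i, (9 : ℤ) ∣ d i - v i) ∧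
      (∀ i, 1 < d i) ∧ (∀ i, ∃ s ≤ a, ∃ t ≤ b, d i = 2 ^ s * q ^ t) ∧ 1 + ∑ i, (d i) ^ 2 ≤ 9 * 2 ^ a * q ^ b ∧
      (∀ i ∈ T, q ∣ d i) ∧ (∀ i ∈ T', 2 ∣ d i) ∧
      (2 : ℤ) ^ a ∣ 1 + ∑ i ∈ T, v i * d i ∧ (q : ℤ) ^ b ∣ 1 + ∑ i ∈ T', v i * d i ∧
      ∀ k : G, orderOf k = 3 →
        (9 : ℚ) * (Nat.card {p : G × G // orderOf p.1 = 3 ∧ orderOf p.2 = 3 ∧ p.1 * p.2 = k} : ℚ) =
          2 ^ a * q ^ b * (1 + ∑ i, (v i : ℚ) ^ 3 / (d i : ℚ)) := by
  classical
  -- an element of order 3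
  obtain ⟨k0, hk0⟩ : ∃ k : R, k ≠ 1 := by
    have : Nontrivial R := by rw [← Finite.one_lt_card_iff_nontrivial, hR9]; norm_num
    exact exists_ne 1
  obtain ⟨k, hkR⟩ := k0
  have hk1 : k ≠ 1 := fun h => hk0 (Subtype.ext h)
  have ordR : ∀ r ∈ (R : Subgroup G), r ≠ 1 → orderOf r = 3 := fun r hr h1 => orderOf_eq_prime (h3 r hr) h1
  have hk3 : orderOf k = 3 := ordR k hkR hk1
  have hcent : Nat.card (Subgroup.centralizer ({k} : Set G)) = 9 := by rw [hR k hkR hk1]; exact hR9
  have h3G : 3 ∣ Nat.card G := by rw [hcard]; exact ⟨3 * 2 ^ a * q ^ b, by ring⟩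
  -- integrality
  have hint : ∀ χ : IrrCharacter G, ∃ v : ℤ, (χ : G → ℂ) k = v := by
    intro χ
    apply Cfsg.Agent.Lib.C3X.int_of_pow χ.2.isCharacter
    intro j hj
    apply hone _ _ hk3
    have hj3 : Nat.Coprime (orderOf k) j := by
      rw [hk3]; exact (hj.coprime_dvd_right h3G).symm
    rw [Nat.Coprime.orderOf_pow hj3.symm.symm, hk3]
  choose v hv using hint
  have hvc : ∀ (χ : IrrCharacter G) (g : G), orderOf g = 3 → (χ : G → ℂ) g = v χ := by
    intro χ g hg
    rw [← hv χ]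
    exact (χ.2.isCharacter.isClassFunction.conj_eq (hone g k hg hk3))
  have hvt : v (triv G) = 1 := by
    have h := hv (triv G)
    rw [triv_apply] at h
    exact_mod_cast h.symm
  -- the sum of squares
  have hsq : ∑ χ : IrrCharacter G, v χ ^ 2 = 9 := by
    have h := col_norm k
    rw [hcent] at h
    have h2 : ∀ χ : IrrCharacter G, ‖(χ : G → ℂ) k‖ ^ 2 = ((v χ ^ 2 : ℤ) : ℝ) := by
      intro χ
      rw [hv χ, Complex.norm_intCast, sq_abs]; push_cast; rfl
    simp only [h2] at h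
    exact_mod_cast h
  have hlin : ∑ χ : IrrCharacter G, v χ * (deg χ : ℤ) = 0 := by
    have h := col_orth_ne (g := k) (h := 1) (fun hc => hk1 (isConj_one_right.1 hc.symm).symm.symm)
    rw [inv_one] at h
    have h2 : ∀ χ : IrrCharacter G, (χ : G → ℂ) k * (χ : G → ℂ) 1 = ((v χ * (deg χ : ℤ) : ℤ) : ℂ) := by
      intro χ; rw [hv χ, apply_one]; push_cast; rfl
    simp only [h2] at h
    exact_mod_cast h
  -- congruence mod 9
  have h9 : ∀ χ : IrrCharacter G, (9 : ℤ) ∣ deg χ - v χ := by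
    intro χ
    letI : Fintype R := Fintype.ofFinite _
    obtain ⟨m, hm⟩ := BlockDefZero.sum_over_subgroup (R : Subgroup G) χ.2.isCharacter
    rw [← Finset.add_sum_erase Finset.univ (fun r : (R : Subgroup G) => (χ : G → ℂ) r) (Finset.mem_univ (1 : (R : Subgroup G)))] at hm
    have hc : ((Finset.univ : Finset R).erase 1).card = 8 := by
      rw [Finset.card_erase_of_mem (Finset.mem_univ _), Finset.card_univ, ← Nat.card_eq_fintype_card, hR9]
    have h1 : ∑ r ∈ (Finset.univ : Finset R).erase 1, (χ : G → ℂ) r = 8 * (v χ : ℂ) := by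
      rw [Finset.sum_congr rfl (g := fun _ => (v χ : ℂ)), Finset.sum_const, hc, nsmul_eq_mul]
      · norm_num
      · intro r hr
        apply hvc
        apply ordR _ r.2
        intro h
        exact (Finset.ne_of_mem_erase hr) (Subtype.ext h)
    rw [h1, OneMemClass.coe_one, apply_one] at hm
    have hRc : Nat.card (R : Subgroup G) = 9 := hR9
    rw [hRc] at hm
    have h2 : (deg χ : ℤ) + 8 * v χ = 9 * m := by exact_mod_cast hm
    exact ⟨m - v χ, by linarith⟩
  set P : IrrCharacter G → Prop := fun χ => χ ≠ triv G ∧ v χ ≠ 0 with hP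
  have hPt : ¬ P (triv G) := fun h => h.1 rfl
  have hsqι : ∑ i : {χ : IrrCharacter G // P χ}, v i.1 ^ 2 = 8 := by
    have h := sum_sub P Finset.univ (Finset.mem_univ _) hPt (fun χ => v χ ^ 2)
      (fun χ h1 h2 => by
        have : v χ = 0 := by by_contra hc; exact h2 ⟨h1, hc⟩
        simp [this])
    rw [hsq, hvt] at h
    simp only [Finset.mem_univ, Finset.filter_true] at h
    linarith
  have hbd : ∀ i : {χ : IrrCharacter G // P χ}, v i.1 ^ 2 ≤ 8 := by
    intro i
    rw [← hsqι]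
    exact Finset.single_le_sum (f := fun i : {χ : IrrCharacter G // P χ} => v i.1 ^ 2)
      (fun j _ => sq_nonneg _) (Finset.mem_univ i)
  have hn3 : ∀ i : {χ : IrrCharacter G // P χ}, ¬ 3 ∣ deg i.1 := by
    intro i hd
    have h1 := h9 i.1
    have h2 : (3 : ℤ) ∣ v i.1 := by
      obtain ⟨c, hc⟩ := h1
      obtain ⟨e, he⟩ := hd
      refine ⟨e - 3 * c, ?_⟩
      have : (deg i.1 : ℤ) = 3 * e := by exact_mod_cast he
      linarith
    obtain ⟨c, hc⟩ := h2
    have h4 := hbd i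
    have h5 := i.2.2
    rw [hc] at h4 h5
    have : c ≠ 0 := by rintro rfl; simp at h5
    have : 1 ≤ c ^ 2 := by
      have := sq_pos_of_ne_zero this
      linarith
    nlinarith
  have hdeg : ∀ i : {χ : IrrCharacter G // P χ}, ∃ s ≤ a, ∃ t ≤ b, deg i.1 = 2 ^ s * q ^ t := by
    intro i
    have h1 : deg i.1 ∣ 9 * 2 ^ a * q ^ b := hcard ▸ deg_dvd i.1
    have h2 : Nat.Coprime (deg i.1) 9 := by
      have : Nat.Coprime (deg i.1) 3 := ((Nat.Prime.coprime_iff_not_dvd Nat.prime_three).2 (hn3 i)).symm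
      exact (Nat.Coprime.pow_right 2 this)
    rw [mul_assoc] at h1
    have h3 : deg i.1 ∣ 2 ^ a * q ^ b := h2.dvd_of_dvd_mul_left h1
    obtain ⟨x, y, hx, hy, hxy⟩ := (Nat.dvd_mul).1 h3
    obtain ⟨s, hs, rfl⟩ := (Nat.dvd_prime_pow Nat.prime_two).1 hx
    obtain ⟨t, ht, rfl⟩ := (Nat.dvd_prime_pow hq).1 hy
    exact ⟨s, hs, t, ht, hxy.symm⟩
  have hZ : Subgroup.center G = ⊥ := by
    rcases IsSimpleGroup.eq_bot_or_eq_top_of_normal (Subgroup.center G) inferInstance with h | h
    · exact h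
    · exact absurd ⟨⟨fun a b => (Subgroup.mem_center_iff.1 (h ▸ Subgroup.mem_top a : a ∈ Subgroup.center G) b).symm⟩⟩ hG
  have h1deg : ∀ i : {χ : IrrCharacter G // P χ}, 1 < deg i.1 := by
    intro i
    have hpos := deg_pos i.1
    rcases Nat.lt_or_ge 1 (deg i.1) with h | h
    · exact h
    exfalso
    have h1 : deg i.1 = 1 := by omega
    have h2 := SimplePQR.eq_zero_of_coprime hZ i.1.2 (fun h => i.2.1 (Subtype.ext h)) (n := 1)
      (by rw [apply_one, h1]) hk1 (Nat.coprime_one_left _)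
    rw [hv] at h2
    exact i.2.2 (by exact_mod_cast h2)
  haveI : Fact (Nat.Prime 2) := ⟨Nat.prime_two⟩
  haveI : Fact q.Prime := ⟨hq⟩
  obtain ⟨M2, hM2⟩ := H76Char.exists_isPModular 2
  obtain ⟨Mq, hMq⟩ := H76Char.exists_isPModular q
  haveI := BlockRing.isPrime hM2
  haveI := BlockRing.isPrime hMq
  -- the cardinalities of the Sylow subgroups
  have c2 : ∀ P2 : Sylow 2 G, Nat.card P2 = 2 ^ a := by
    intro P2
    rw [Sylow.card_eq_multiplicity, hcard]
    congr 1
    have e1 : (9 : ℕ).factorization 2 = 0 := Nat.factorization_eq_zero_of_not_dvd (by norm_num)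
    have e2 : (q ^ b).factorization 2 = 0 := Nat.factorization_eq_zero_of_not_dvd (fun h =>
      hq2 ((Nat.prime_dvd_prime_iff_eq Nat.prime_two hq).1 (Nat.prime_two.dvd_of_dvd_pow h)).symm)
    rw [Nat.factorization_mul (by positivity) (pow_pos hq.pos _).ne', Nat.factorization_mul (by norm_num) (by positivity),
      Nat.Prime.factorization_pow Nat.prime_two]
    have e3 : q.factorization 2 = 0 := Nat.factorization_eq_zero_of_not_dvd (fun h =>
      hq2 ((Nat.prime_dvd_prime_iff_eq Nat.prime_two hq).1 h).symm)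
    simp [e1, e2, e3]
  have cq : ∀ P2 : Sylow q G, Nat.card P2 = q ^ b := by
    intro P2
    rw [Sylow.card_eq_multiplicity, hcard]
    congr 1
    have e1 : (9 : ℕ).factorization q = 0 := Nat.factorization_eq_zero_of_not_dvd (fun h => by
      have h2 : q ∣ 3 ^ 2 := by simpa using h
      exact hq3 ((Nat.prime_dvd_prime_iff_eq hq Nat.prime_three).1 (hq.dvd_of_dvd_pow h2)))
    have e2 : (2 ^ a).factorization q = 0 := Nat.factorization_eq_zero_of_not_dvd (fun h =>
      hq2 ((Nat.prime_dvd_prime_iff_eq hq Nat.prime_two).1 (hq.dvd_of_dvd_pow h)))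
    rw [Nat.factorization_mul (by positivity) (pow_pos hq.pos _).ne', Nat.factorization_mul (by norm_num) (by positivity),
      Nat.Prime.factorization_pow hq]
    have e3 : (2 : ℕ).factorization q = 0 := Nat.factorization_eq_zero_of_not_dvd (fun h =>
      hq2 ((Nat.prime_dvd_prime_iff_eq hq Nat.prime_two).1 h))
    simp [e1, e2, e3]
  have hk2 : ¬ 2 ∣ orderOf k := by rw [hk3]; norm_num
  have hkq : ¬ q ∣ orderOf k := by
    rw [hk3]; exact fun h => hq3 ((Nat.prime_dvd_prime_iff_eq hq Nat.prime_three).1 h)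
  refine ⟨{χ : IrrCharacter G // P χ}, inferInstance, fun i => v i.1, fun i => deg i.1,
    Finset.univ.filter (fun i => i.1 ∈ Finset.univ.filter (fun χ => χ ∈ principalBlock M2 G)),
    Finset.univ.filter (fun i => i.1 ∈ Finset.univ.filter (fun χ => χ ∈ principalBlock Mq G)),
    fun i => i.2.2, hsqι, ?_, fun i => h9 i.1, h1deg, hdeg, ?_, ?_, ?_, ?_, ?_, ?_⟩
  · have h := sum_sub P Finset.univ (Finset.mem_univ _) hPt (fun χ => v χ * (deg χ : ℤ))
      (fun χ h1 h2 => by
        have : v χ = 0 := by by_contra hc; exact h2 ⟨h1, hc⟩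
        simp [this])
    rw [hlin, hvt, deg_triv] at h
    simp only [Finset.mem_univ, Finset.filter_true] at h
    push_cast at h
    linarith
  · have h := sum_deg_sq (G := G)
    rw [hcard, ← Finset.add_sum_erase _ _ (Finset.mem_univ (triv G)), deg_triv] at h
    have h2 : ∑ i : {χ : IrrCharacter G // P χ}, deg i.1 ^ 2 ≤ ∑ χ ∈ Finset.univ.erase (triv G), deg χ ^ 2 := by
      have h3 : ∑ i : {χ : IrrCharacter G // P χ}, deg i.1 ^ 2 =
          ∑ χ ∈ (Finset.univ : Finset {χ : IrrCharacter G // P χ}).map ⟨Subtype.val, Subtype.val_injective⟩, deg χ ^ 2 := by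
        rw [Finset.sum_map]; rfl
      rw [h3]
      apply Finset.sum_le_sum_of_subset
      intro χ hχ
      rw [Finset.mem_map] at hχ
      obtain ⟨i, -, rfl⟩ := hχ
      exact Finset.mem_erase.2 ⟨i.2.1, Finset.mem_univ _⟩
    rw [one_pow] at h
    exact (Nat.add_le_add_left h2 1).trans (le_of_eq h)
  · intro i hi
    simp only [Finset.mem_filter, Finset.mem_univ, true_and] at hi
    obtain ⟨s, hs, t, ht, hd⟩ := hdeg i
    rcases Nat.eq_zero_or_pos t with rfl | ht0
    · exfalso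
      rw [pow_zero, mul_one] at hd
      have hs0 : s ≠ 0 := by
        rintro rfl
        have := h1deg i
        rw [hd] at this
        simp at this
      have h2 : 2 ∣ Nat.card G := by
        have : 2 ∣ deg i.1 := by rw [hd]; exact dvd_pow_self 2 hs0
        exact this.trans (deg_dvd i.1)
      exact not_pow hG h2 hM2 hi i.2.1 s hd
    · show q ∣ deg i.1
      rw [hd]
      exact (dvd_pow_self q ht0.ne').mul_left _
  · intro i hi
    simp only [Finset.mem_filter, Finset.mem_univ, true_and] at hi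
    obtain ⟨s, hs, t, ht, hd⟩ := hdeg i
    rcases Nat.eq_zero_or_pos s with rfl | hs0
    · exfalso
      rw [pow_zero, one_mul] at hd
      have ht0 : t ≠ 0 := by
        rintro rfl
        have := h1deg i
        rw [hd] at this
        simp at this
      have h2 : q ∣ Nat.card G := by
        have : q ∣ deg i.1 := by rw [hd]; exact dvd_pow_self q ht0
        exact this.trans (deg_dvd i.1)
      exact not_pow hG h2 hMq hi i.2.1 t hd
    · show 2 ∣ deg i.1
      rw [hd]
      exact (dvd_pow_self 2 hs0.ne').mul_right _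
  · obtain ⟨P2⟩ : Nonempty (Sylow 2 G) := inferInstance
    have h := block_dvd hM2 hk2 v hv P2 (Finset.univ.filter (fun χ => χ ∈ principalBlock M2 G)) (by simp)
    rw [c2 P2] at h
    have h2 := sum_sub P (Finset.univ.filter (fun χ => χ ∈ principalBlock M2 G)) (by simp; exact BlockThird.triv_mem)
      hPt (fun χ => v χ * (deg χ : ℤ))
      (fun χ h1 h2 => by
        have : v χ = 0 := by by_contra hc; exact h2 ⟨h1, hc⟩
        simp [this])
    rw [hvt, deg_triv] at h2
    rw [h2] at h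
    push_cast at h
    simpa using h
  · obtain ⟨P2⟩ : Nonempty (Sylow q G) := inferInstance
    have h := block_dvd hMq hkq v hv P2 (Finset.univ.filter (fun χ => χ ∈ principalBlock Mq G)) (by simp)
    rw [cq P2] at h
    have h2 := sum_sub P (Finset.univ.filter (fun χ => χ ∈ principalBlock Mq G)) (by simp; exact BlockThird.triv_mem)
      hPt (fun χ => v χ * (deg χ : ℤ))
      (fun χ h1 h2 => by
        have : v χ = 0 := by by_contra hc; exact h2 ⟨h1, hc⟩
        simp [this])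
    rw [hvt, deg_triv] at h2
    rw [h2] at h
    push_cast at h
    simpa using h
  · intro g hg
    have h := struct_const k k g
    have hset : Nat.card {p : G × G // IsConj k p.1 ∧ IsConj k p.2 ∧ p.1 * p.2 = g} =
        Nat.card {p : G × G // orderOf p.1 = 3 ∧ orderOf p.2 = 3 ∧ p.1 * p.2 = g} := by
      have hc : ∀ x : G, IsConj k x ↔ orderOf x = 3 := by
        intro x
        constructor
        · intro hx
          obtain ⟨c, hc⟩ := isConj_iff.1 hx
          rw [← hc, ← hk3]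
          exact (MulAut.conj c).orderOf_eq k
        · intro hx; exact hone k x hk3 hx
      simp only [hc]
    rw [hset, hcent, hcard] at h
    have h2 : ∀ χ : IrrCharacter G, (χ : G → ℂ) k * (χ : G → ℂ) k * (χ : G → ℂ) g⁻¹ / (χ : G → ℂ) 1 =
        (((v χ : ℚ) ^ 3 / (deg χ : ℚ) : ℚ) : ℂ) := by
      intro χ
      rw [hv, hvc χ g⁻¹ (by rw [orderOf_inv, hg]), apply_one]
      push_cast
      ring
    simp only [h2] at h
    rw [← Rat.cast_sum] at h
    have h3 : ((Nat.card {p : G × G // orderOf p.1 = 3 ∧ orderOf p.2 = 3 ∧ p.1 * p.2 = g} : ℚ)) * (9 * 9) =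
        (9 * 2 ^ a * q ^ b) * ∑ χ : IrrCharacter G, ((v χ : ℚ) ^ 3 / (deg χ : ℚ)) := by
      have : ((((Nat.card {p : G × G // orderOf p.1 = 3 ∧ orderOf p.2 = 3 ∧ p.1 * p.2 = g} : ℚ)) * (9 * 9) : ℚ) : ℂ) =
        (((9 * 2 ^ a * q ^ b) * ∑ χ : IrrCharacter G, ((v χ : ℚ) ^ 3 / (deg χ : ℚ)) : ℚ) : ℂ) := by
        push_cast
        push_cast at h
        exact h
      exact_mod_cast this
    have h4 : ∑ χ : IrrCharacter G, ((v χ : ℚ) ^ 3 / (deg χ : ℚ)) =
        1 + ∑ i : {χ : IrrCharacter G // P χ}, ((v i.1 : ℚ) ^ 3 / (deg i.1 : ℚ)) := by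
      rw [← Finset.add_sum_erase _ _ (Finset.mem_univ (triv G)), hvt, deg_triv]
      congr 1
      · norm_num
      · have h5 : ∑ χ ∈ Finset.univ.erase (triv G), ((v χ : ℚ) ^ 3 / (deg χ : ℚ)) =
            ∑ χ ∈ (Finset.univ.erase (triv G)).filter P, ((v χ : ℚ) ^ 3 / (deg χ : ℚ)) := by
          symm
          apply Finset.sum_filter_of_ne
          intro χ hχ h
          refine ⟨Finset.ne_of_mem_erase hχ, fun h0 => h ?_⟩
          simp [h0]
        rw [h5]
        symm
        apply Finset.sum_bij (fun i _ => i.1)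
        · intro i _
          rw [Finset.mem_filter, Finset.mem_erase]
          exact ⟨⟨i.2.1, Finset.mem_univ _⟩, i.2⟩
        · intro i _ j _ h
          exact Subtype.ext h
        · intro χ hχ
          rw [Finset.mem_filter] at hχ
          exact ⟨⟨χ, hχ.2⟩, Finset.mem_univ _, rfl⟩
        · intro i _
          rfl
    rw [h4] at h3
    show (9 : ℚ) * _ = _ * (1 + ∑ i : {χ : IrrCharacter G // P χ}, ((v i.1 : ℚ) ^ 3 / (deg i.1 : ℚ)))
    linarith

end Cfsg.Agent.Lib.H82K9
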