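import Mathlib
import Cfsg.Agent.Lib.H15S0
import Cfsg.Agent.S3341
import Cfsg.Agent.S2219

set_option autoImplicit false
set_option linter.all false

/-! S2220: reduction to one class of elements of order 3 (helper82) -/

namespace Cfsg.Agent.Lib.H82K9R

open Cfsg Cfsg.Agent.Lib.H15S

universe u

variable {G : Type u} [Group G] [Finite G]

theorem sylow_card {q a b : ℕ} (hq : q.Prime) (hq3 : q ≠ 3) (hcard : Nat.card G = 9 * 2 ^ a * q ^ b)
    (R : Sylow 3 G) : Nat.card R = 9 := by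
  haveI : Fact (Nat.Prime 3) := ⟨Nat.prime_three⟩
  rw [Sylow.card_eq_multiplicity, hcard]
  have e1 : (9 : ℕ).factorization 3 = 2 := by
    rw [show (9 : ℕ) = 3 ^ 2 by norm_num, Nat.Prime.factorization_pow Nat.prime_three]; simp
  have e2 : (2 : ℕ).factorization 3 = 0 := Nat.factorization_eq_zero_of_not_dvd (by norm_num)
  have e3 : q.factorization 3 = 0 := Nat.factorization_eq_zero_of_not_dvd (fun h =>
    hq3 ((Nat.prime_dvd_prime_iff_eq Nat.prime_three hq).1 h).symm)
  rw [Nat.factorization_mul (by positivity) (pow_pos hq.pos _).ne', Nat.factorization_mul (by norm_num) (by positivity)]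
  simp [e1, e2, e3]

theorem not_conj {R : Subgroup G} (hR : ∀ k ∈ R, k ≠ 1 → Subgroup.centralizer ({k} : Set G) = R)
    {s : G} (hs : s ∈ R) (h9 : orderOf s = 9) {m : ℕ} (hm : m = 2 ∨ m = 4) : ¬ IsConj s (s ^ m) := by
  intro h
  obtain ⟨g, hg⟩ := isConj_iff.1 h
  have hg2 : (g * g) * s * (g * g)⁻¹ = s ^ (m * m) := by
    calc (g * g) * s * (g * g)⁻¹ = g * (g * s * g⁻¹) * g⁻¹ := by group
      _ = g * s ^ m * g⁻¹ := by rw [hg]
      _ = (g * s * g⁻¹) ^ m := by rw [conj_pow]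
      _ = s ^ (m * m) := by rw [hg, ← pow_mul]
  have hs9 : s ^ 9 = 1 := h9 ▸ pow_orderOf_eq_one s
  have ht : (g * g) * s ^ 3 * (g * g)⁻¹ = s ^ 3 := by
    rw [← conj_pow, hg2, ← pow_mul]
    rcases hm with rfl | rfl
    · rw [show 2 * 2 * 3 = 9 + 3 by norm_num, pow_add, hs9, one_mul]
    · rw [show 4 * 4 * 3 = 9 * 5 + 3 by norm_num, pow_add, pow_mul, hs9, one_pow, one_mul]
  have hs1 : s ≠ 1 := by rintro rfl; rw [orderOf_one] at h9; norm_num at h9
  have hs3 : s ^ 3 ≠ 1 := by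
    intro h
    have := orderOf_dvd_of_pow_eq_one h
    rw [h9] at this
    norm_num at this
  have hc : g * g ∈ Subgroup.centralizer ({s ^ 3} : Set G) := by
    rw [Subgroup.mem_centralizer_iff]
    intro x hx
    rw [Set.mem_singleton_iff] at hx
    subst hx
    exact (mul_inv_eq_iff_eq_mul.1 ht).symm
  rw [hR _ (pow_mem hs 3) hs3] at hc
  have hc2 : g * g ∈ Subgroup.centralizer ({s} : Set G) := by rw [hR s hs hs1]; exact hc
  rw [Subgroup.mem_centralizer_iff] at hc2
  have h4 := hc2 s rfl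
  have h5 : s ^ (m * m) = s := by
    rw [← hg2, ← h4, mul_inv_cancel_right]
  have h6 : s ^ (m * m - 1) = 1 := by
    have h7 : s ^ (m * m - 1) * s = s := by
      rw [← pow_succ, Nat.sub_add_cancel (by rcases hm with rfl | rfl <;> norm_num), h5]
    exact mul_eq_right.1 h7
  have h7 := orderOf_dvd_of_pow_eq_one h6
  rw [h9] at h7
  rcases hm with rfl | rfl <;> norm_num at h7

theorem three_classes {R : Subgroup G} (hR : ∀ k ∈ R, k ≠ 1 → Subgroup.centralizer ({k} : Set G) = R)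
    {s : G} (hs : s ∈ R) (h9 : orderOf s = 9) :
    3 ≤ Nat.card {C : ConjClasses G // ∃ g ∈ C.carrier, g ≠ 1 ∧ orderOf g ∣ 9} := by
  have hs1 : s ≠ 1 := by rintro rfl; rw [orderOf_one] at h9; norm_num at h9
  have hs9 : s ^ 9 = 1 := h9 ▸ pow_orderOf_eq_one s
  have o2 : orderOf (s ^ 2) = 9 := by
    rw [Nat.Coprime.orderOf_pow (by rw [h9]; norm_num), h9]
  have n1 : ∀ m : ℕ, ¬ 9 ∣ m → s ^ m ≠ 1 := by
    intro m hm h
    exact hm (h9 ▸ orderOf_dvd_of_pow_eq_one h)
  have d9 : ∀ m : ℕ, orderOf (s ^ m) ∣ 9 := by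
    intro m
    apply orderOf_dvd_of_pow_eq_one
    rw [← pow_mul, mul_comm, pow_mul, hs9, one_pow]
  let e : Fin 3 → ℕ := ![1, 2, 4]
  have he : ∀ i, ¬ 9 ∣ e i := by
    intro i; fin_cases i <;> simp [e]
  let f : Fin 3 → {C : ConjClasses G // ∃ g ∈ C.carrier, g ≠ 1 ∧ orderOf g ∣ 9} := fun i =>
    ⟨ConjClasses.mk (s ^ e i), s ^ e i, ConjClasses.mem_carrier_mk, n1 _ (he i), d9 _⟩
  have c12 : ¬ IsConj (s ^ 1) (s ^ 2) := by rw [pow_one]; exact not_conj hR hs h9 (Or.inl rfl)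
  have c14 : ¬ IsConj (s ^ 1) (s ^ 4) := by rw [pow_one]; exact not_conj hR hs h9 (Or.inr rfl)
  have c24 : ¬ IsConj (s ^ 2) (s ^ 4) := by
    have := not_conj hR (pow_mem hs 2) o2 (m := 2) (Or.inl rfl)
    rwa [← pow_mul] at this
  have hf : Function.Injective f := by
    intro i j hij
    have h1 : IsConj (s ^ e i) (s ^ e j) := by
      have := congrArg Subtype.val hij
      exact ConjClasses.mk_eq_mk_iff_isConj.1 this
    fin_cases i <;> fin_cases j
    · rfl
    · exact absurd h1 c12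
    · exact absurd h1 c14
    · exact absurd h1.symm c12
    · rfl
    · exact absurd h1 c24
    · exact absurd h1.symm c14
    · exact absurd h1.symm c24
    · rfl
  have := Nat.card_le_card_of_injective f hf
  simpa using this

theorem hk {R : Subgroup G} (hR : ∀ k ∈ R, k ≠ 1 → Subgroup.centralizer ({k} : Set G) = R)
    (hR9 : Nat.card R = 9) (h3 : ∀ k ∈ R, k ^ 3 = 1)
    (hone : ∀ k k' : G, orderOf k = 3 → orderOf k' = 3 → IsConj k k') : HK G := by
  obtain ⟨k0, hk0⟩ : ∃ k : R, k ≠ 1 := by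
    have : Nontrivial R := by rw [← Finite.one_lt_card_iff_nontrivial, hR9]; norm_num
    exact exists_ne 1
  obtain ⟨c, hcR⟩ := k0
  have hc1 : c ≠ 1 := fun h => hk0 (Subtype.ext h)
  haveI : Fact (Nat.Prime 3) := ⟨Nat.prime_three⟩
  have hc3 : orderOf c = 3 := orderOf_eq_prime (h3 c hcR) hc1
  have hcj : ∀ (g x y : G), (x * y = y * x ↔ (g * x * g⁻¹) * (g * y * g⁻¹) = (g * y * g⁻¹) * (g * x * g⁻¹)) := by
    intro g x y
    constructor
    · intro h
      calc (g * x * g⁻¹) * (g * y * g⁻¹) = g * (x * y) * g⁻¹ := by group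
        _ = g * (y * x) * g⁻¹ := by rw [h]
        _ = _ := by group
    · intro h
      have h2 : g * (x * y) * g⁻¹ = g * (y * x) * g⁻¹ := by
        calc g * (x * y) * g⁻¹ = (g * x * g⁻¹) * (g * y * g⁻¹) := by group
          _ = (g * y * g⁻¹) * (g * x * g⁻¹) := h
          _ = _ := by group
      exact mul_left_cancel (mul_right_cancel h2)
  have hmem : ∀ k x : G, x ∈ Subgroup.centralizer ({k} : Set G) ↔ k * x = x * k := by
    intro k x
    rw [Subgroup.mem_centralizer_iff]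
    simp
  have key : ∀ k : G, orderOf k = 3 → ∃ g : G, ∀ x : G, x ∈ Subgroup.centralizer ({k} : Set G) ↔ g * x * g⁻¹ ∈ R := by
    intro k hk
    obtain ⟨g, hg⟩ := isConj_iff.1 (hone k c hk hc3)
    refine ⟨g, fun x => ?_⟩
    rw [hmem, hcj g k x, hg, ← hR c hcR hc1, hmem]
  refine ⟨?_, ?_, ?_, ?_⟩
  · intro k hk
    obtain ⟨g, hg⟩ := key k hk
    rw [← hR9]
    apply Nat.card_congr
    exact
      { toFun := fun x => ⟨g * x * g⁻¹, (hg x).1 x.2⟩
        invFun := fun y => ⟨g⁻¹ * y * g, (hg _).2 (by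
          have : g * (g⁻¹ * (y : G) * g) * g⁻¹ = y := by group
          rw [this]; exact y.2)⟩
        left_inv := fun x => Subtype.ext (by simp [mul_assoc])
        right_inv := fun y => Subtype.ext (by simp [mul_assoc]) }
  · intro k x hk hx
    obtain ⟨g, hg⟩ := key k hk
    have h1 : g * x * g⁻¹ ∈ R := (hg x).1 ((hmem k x).2 hx.symm)
    have h2 := h3 _ h1
    rw [conj_pow] at h2
    have : x ^ 3 = g⁻¹ * (g * x ^ 3 * g⁻¹) * g := by group
    rw [this, h2]; group
  · intro k x hk hx1 hx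
    obtain ⟨g, hg⟩ := key k hk
    have h1 : g * x * g⁻¹ ∈ R := (hg x).1 ((hmem k x).2 hx.symm)
    have h2 : g * x * g⁻¹ ≠ 1 := fun h => hx1 (by
      have : x = g⁻¹ * (g * x * g⁻¹) * g := by group
      rw [this, h]; group)
    ext y
    rw [hg y, hmem, hcj g x y, ← hmem, hR _ h1 h2]
  · intro u v hu hv
    exact isConj_iff.1 (hone u v hu hv)

theorem red [IsSimpleGroup G] (hG : ¬ IsMulCommutative G)
    (q a b : ℕ) (hq : q.Prime) (hq2 : q ≠ 2) (hq3 : q ≠ 3) (hcard : Nat.card G = 9 * 2 ^ a * q ^ b)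
    (R : Sylow 3 G) (hR : ∀ k ∈ (R : Subgroup G), k ≠ 1 → Subgroup.centralizer ({k} : Set G) = R)
    (hF : HK G → Nat.card R = 9 → (∀ k ∈ (R : Subgroup G), k ^ 3 = 1) →
      (∀ k k' : G, orderOf k = 3 → orderOf k' = 3 → IsConj k k') → False) :
    Nonempty (G ≃* ↥(alternatingGroup (Fin 6))) ∨
      (∃ (F : Type) (_ : Field F) (_ : Fintype F), Fintype.card F = 8 ∧
        Nonempty (G ≃* Matrix.ProjectiveSpecialLinearGroup (Fin 2) F)) ∨
      Nonempty (G ≃* Matrix.ProjectiveSpecialLinearGroup (Fin 2) (ZMod 17)) := by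
  have hR9 := sylow_card hq hq3 hcard R
  by_cases hex : ∃ s ∈ (R : Subgroup G), orderOf s = 9
  · obtain ⟨s, hs, h9⟩ := hex
    exact Or.inr (Cfsg.Agent.S2219.result hG q a b hq hq2 hq3 hcard (three_classes hR hs h9))
  · have h3 : ∀ k ∈ (R : Subgroup G), k ^ 3 = 1 := by
      intro k hk
      have h1 : orderOf k ∣ 3 ^ 2 := by
        have : orderOf (⟨k, hk⟩ : (R : Subgroup G)) ∣ Nat.card (R : Subgroup G) := orderOf_dvd_natCard _
        rw [Subgroup.orderOf_mk] at this
        have h9 : Nat.card (R : Subgroup G) = 9 := hR9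
        rw [h9] at this
        simpa using this
      obtain ⟨j, hj, hjo⟩ := (Nat.dvd_prime_pow Nat.prime_three).1 h1
      have hj2 : j ≠ 2 := by
        rintro rfl
        exact hex ⟨k, hk, by rw [hjo]; norm_num⟩
      apply orderOf_dvd_iff_pow_eq_one.1
      rw [hjo]
      have : j ≤ 1 := by omega
      exact (pow_dvd_pow 3 this).trans (by norm_num)
    by_cases hone : ∀ k k' : G, orderOf k = 3 → orderOf k' = 3 → IsConj k k'
    · exact (hF (hk hR hR9 h3 hone) hR9 h3 hone).elim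
    · push_neg at hone
      obtain ⟨k, k', h1, h2, h4⟩ := hone
      left
      refine Cfsg.Agent.S3341.result R (R : Subgroup G) rfl ?_ h3 hR9 ⟨k, k', h1, h2, ?_⟩ hR
      · refine ⟨⟨fun x y => ?_⟩⟩
        by_cases hx : (x : G) = 1
        · have : x = 1 := Subtype.ext hx
          rw [this, one_mul, mul_one]
        · have h5 : (y : G) ∈ Subgroup.centralizer ({(x : G)} : Set G) := by rw [hR x x.2 hx]; exact y.2
          rw [Subgroup.mem_centralizer_iff] at h5
          exact Subtype.ext (h5 x rfl)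
      · intro g hg
        exact h4 (isConj_iff.2 ⟨g, hg⟩)

end Cfsg.Agent.Lib.H82K9R
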