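import Cfsg.Agent.Lib.K4
import Cfsg.Agent.Lib.H58AltSpec

/-! U3-F of S5443, abstract part (helper50) -/

set_option autoImplicit false
set_option linter.unusedVariables false
open Cfsg.Agent.Lib.K4
universe u
namespace Cfsg.Agent.Lib.H87U3Fa

/-- the 3-cycle (0 1 3) -/
def cyc : Equiv.Perm (Fin 6) := Equiv.swap 0 1 * Equiv.swap 1 3

theorem sign_cyc : Equiv.Perm.sign cyc = 1 := by decide

def dd (v : Fin 6 → K4) : Fin 6 → K4 := fun i => (if i = 2 then om else if i = 5 then om' else 1) * v i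

theorem pow_a6 (y : alternatingGroup (Fin 6)) (h : y ^ 6 = 1) : y ^ 2 = 1 ∨ y ^ 3 = 1 := by
  have h1 : orderOf y ∣ 6 := orderOf_dvd_of_pow_eq_one h
  have h2 : orderOf y ∈ Set.range (orderOf : alternatingGroup (Fin 6) → ℕ) := ⟨y, rfl⟩
  rw [Cfsg.Agent.Lib.H58AltSpec.range_A6] at h2
  have h3 : orderOf y = 1 ∨ orderOf y = 2 ∨ orderOf y = 3 := by
    simp only [Finset.coe_insert, Finset.coe_singleton, Set.mem_insert_iff, Set.mem_singleton_iff] at h2
    rcases h2 with h2 | h2 | h2 | h2 | h2 <;> rw [h2] at h1 ⊢ <;> omega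
  rcases h3 with h3 | h3 | h3
  · left; rw [orderOf_eq_one_iff.1 h3, one_pow]
  · left; rw [← h3]; exact pow_orderOf_eq_one y
  · right; rw [← h3]; exact pow_orderOf_eq_one y

theorem core {H : Type u} [Group H] {Q : Subgroup H} [Q.Normal] {V : Type u} [AddCommGroup V]
    {ρ : H →* AddMonoid.End V} (Φ : (Fin 6 → K4) ≃+ V) (hker : ∀ g, ρ g = 1 ↔ g ∈ Q) (h m m' : H)
    (hsw : ∀ v, ρ h (Φ v) = Φ (fun i => v (Equiv.swap 2 5 i)))
    (am : ∀ v, ρ m (Φ v) = Φ (fun i => v (cyc⁻¹ i)))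
    (am' : ∀ v, ρ m' (Φ v) = Φ (dd v)) (X E : Subgroup (H ⧸ Q))
    (hX : ∀ k : H, (QuotientGroup.mk' Q k) ∈ X ↔ ρ k (Φ ![1, 1, 0, 1, 1, 0]) = Φ ![1, 1, 0, 1, 1, 0])
    (hn : ∀ x ∈ X, ∀ y ∈ E, x * y * x⁻¹ ∈ E)
    (hE : ∀ y ∈ E, y * y = 1) (hA : ∃ _ : (E.subgroupOf X).Normal, Nonempty (↥X ⧸ E.subgroupOf X ≃* alternatingGroup (Fin 6))) : False := by
  classical
  obtain ⟨hEn, ⟨φ⟩⟩ := hA
  have am'i : ∀ v, ρ (m' : H)⁻¹ (Φ v) = Φ (dd (dd v)) := by
    intro v
    have h1 : Φ v = ρ m' (Φ (dd (dd v))) := by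
      rw [am']
      congr 1
      funext i
      have hde : ∀ i : Fin 6, ∀ a : K4, a = (if i = 2 then om else if i = 5 then om' else 1) *
        ((if i = 2 then om else if i = 5 then om' else 1) * ((if i = 2 then om else if i = 5 then om' else 1) * a)) := by decide
      exact hde i (v i)
    have h2 : ρ (m' : H)⁻¹ (ρ m' (Φ (dd (dd v)))) = Φ (dd (dd v)) := by
      have h3 : ρ (m' : H)⁻¹ * ρ m' = 1 := by rw [← map_mul, inv_mul_cancel, map_one]
      exact DFunLike.congr_fun h3 (Φ (dd (dd v)))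
    rw [← h1] at h2
    exact h2
  have mulA : ∀ {k k' : H} {T T' : (Fin 6 → K4) → (Fin 6 → K4)}, (∀ v, ρ k (Φ v) = Φ (T v)) → (∀ v, ρ k' (Φ v) = Φ (T' v)) →
      ∀ v, ρ (k * k') (Φ v) = Φ (T (T' v)) := by
    intro k k' T T' h1 h2 v
    rw [map_mul]
    show ρ k (ρ k' (Φ v)) = _
    rw [h2, h1]
  have inQ : ∀ {k : H} {T : (Fin 6 → K4) → (Fin 6 → K4)}, (∀ v, ρ k (Φ v) = Φ (T v)) → (∀ v, T v = v) → k ∈ Q := by
    intro k T h1 h2
    rw [← hker]
    ext v
    obtain ⟨a, rfl⟩ := Φ.surjective v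
    rw [h1, h2]; rfl
  have outQ : ∀ {k : H} {T : (Fin 6 → K4) → (Fin 6 → K4)}, (∀ v, ρ k (Φ v) = Φ (T v)) → k ∈ Q → (∀ v, T v = v) := by
    intro k T h1 h2 v
    rw [← hker] at h2
    have h3 := h1 v
    rw [h2] at h3
    exact Φ.injective h3.symm
  -- the element x = h m
  have ax := mulA hsw am
  generalize h * m = x at ax
  have ax2 := mulA ax ax
  have ax3 := mulA ax2 ax
  have ax4 := mulA ax3 ax
  have ax6 := mulA ax3 ax3
  have hx6 : x * x * x * (x * x * x) ∈ Q := by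
    refine inQ ax6 ?_
    intro v
    funext i
    have : ∀ i : Fin 6, (cyc⁻¹ (Equiv.swap 2 5 (cyc⁻¹ (Equiv.swap 2 5 (cyc⁻¹ (Equiv.swap 2 5 (cyc⁻¹ (Equiv.swap 2 5
      (cyc⁻¹ (Equiv.swap 2 5 (cyc⁻¹ (Equiv.swap 2 5 i)))))))))))) = i := by decide
    exact congrArg v (this i)
  have hxX : QuotientGroup.mk' Q x ∈ X := by
    rw [hX, ax]
    congr 1
    funext i
    revert i
    decide
  have hm'X : QuotientGroup.mk' Q (m' : H) ∈ X := by
    rw [hX, am']
    congr 1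
    funext i
    revert i
    decide
  let xb : X := ⟨QuotientGroup.mk' Q x, hxX⟩
  have hxb6 : xb ^ 6 = 1 := by
    apply Subtype.ext
    show (QuotientGroup.mk' Q x) ^ 6 = 1
    rw [← map_pow, ← MonoidHom.mem_ker, QuotientGroup.ker_mk']
    rw [show x ^ 6 = x * x * x * (x * x * x) by simp only [pow_succ, pow_zero, one_mul, mul_assoc]]
    exact hx6
  have hy := pow_a6 (φ (QuotientGroup.mk' (E.subgroupOf X) xb)) (by
    rw [← map_pow, ← map_pow, hxb6, map_one, map_one])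
  rcases hy with hy | hy
  · -- x² ∈ E
    rw [← map_pow, ← map_pow, MulEquiv.map_eq_one_iff, ← MonoidHom.mem_ker, QuotientGroup.ker_mk',
      Subgroup.mem_subgroupOf] at hy
    have h1 := hE _ hy
    have h2 : x * x * x * x ∈ Q := by
      rw [← QuotientGroup.ker_mk' Q, MonoidHom.mem_ker]
      have h3 : QuotientGroup.mk' Q (x * x * x * x) = ((xb ^ 2 : X) : H ⧸ Q) * ((xb ^ 2 : X) : H ⧸ Q) := by
        show _ = (QuotientGroup.mk' Q x) ^ 2 * (QuotientGroup.mk' Q x) ^ 2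
        rw [← map_pow, ← map_mul]; congr 1; simp only [pow_succ, pow_zero, one_mul, mul_assoc]
      rw [h3, h1]
    have h4 := congrFun (outQ ax4 h2 (Pi.single 0 1)) 0
    revert h4
    decide
  · -- x³ ∈ E
    rw [← map_pow, ← map_pow, MulEquiv.map_eq_one_iff, ← MonoidHom.mem_ker, QuotientGroup.ker_mk',
      Subgroup.mem_subgroupOf] at hy
    have hy' : QuotientGroup.mk' Q (x * x * x) ∈ E := by
      have : QuotientGroup.mk' Q (x * x * x) = ((xb ^ 3 : X) : H ⧸ Q) := by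
        show _ = (QuotientGroup.mk' Q x) ^ 3
        rw [← map_pow]; congr 1; simp only [pow_succ, pow_zero, one_mul, mul_assoc]
      rw [this]; exact hy
    have h1 := hn _ hm'X _ hy'
    have h2 := E.mul_mem hy' h1
    have h3 := hE _ h2
    have ac := mulA ax3 (mulA (mulA am' ax3) am'i)
    have acc := mulA ac ac
    have h4 : x * x * x * (m' * (x * x * x) * (m' : H)⁻¹) * (x * x * x * (m' * (x * x * x) * (m' : H)⁻¹)) ∈ Q := by
      rw [← QuotientGroup.ker_mk' Q, MonoidHom.mem_ker]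
      simpa only [map_mul, map_inv] using h3
    have h5 := congrFun (outQ acc h4 (Pi.single 2 1)) 2
    revert h5
    decide

end Cfsg.Agent.Lib.H87U3Fa
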