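import Mathlib
import Cfsg.Agent.Lib.WreathedC

/-!
Finite abelian `p`-groups with pairwise distinct invariants: the characteristic chain with factors of order `≤ p`.
-/

set_option autoImplicit false
set_option maxHeartbeats 400000

namespace Cfsg.Agent.Lib.H88Distinct

variable {p : ℕ} [Fact p.Prime]

/-- elements of `ZMod (p^n)` killed by `p` -/
theorem zmod_killed {n : ℕ} (hn : 1 ≤ n) (a : ZMod (p ^ n)) (h : (p : ZMod (p ^ n)) * a = 0) :
    ∃ c : ZMod (p ^ n), a = (p ^ (n - 1) : ℕ) * c := by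
  have hp : p.Prime := Fact.out
  have : NeZero (p ^ n) := ⟨pow_ne_zero _ hp.ne_zero⟩
  have h1 : ((p * a.val : ℕ) : ZMod (p ^ n)) = 0 := by
    rw [Nat.cast_mul, ZMod.natCast_zmod_val, h]
  rw [ZMod.natCast_eq_zero_iff] at h1
  have h2 : p * p ^ (n - 1) ∣ p * a.val := by
    rw [← pow_succ', Nat.sub_add_cancel hn]
    exact h1
  obtain ⟨c, hc⟩ := Nat.dvd_of_mul_dvd_mul_left hp.pos h2
  refine ⟨(c : ZMod _), ?_⟩
  rw [← Nat.cast_mul, ← hc, ZMod.natCast_zmod_val]

/-- two elements of `p^m ZMod (p^(m+1))` -/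
theorem zmod_line {m : ℕ} (a b : ZMod (p ^ (m + 1))) (ha : (p : ZMod (p ^ (m + 1))) * a = 0)
    (hb : (p : ZMod (p ^ (m + 1))) * b = 0) (ha0 : a ≠ 0) : ∃ k : ℤ, b = k * a := by
  have hp : p.Prime := Fact.out
  have : NeZero (p ^ (m + 1)) := ⟨pow_ne_zero _ hp.ne_zero⟩
  obtain ⟨c, hc⟩ := zmod_killed (by omega) a ha
  obtain ⟨d, hd⟩ := zmod_killed (by omega) b hb
  rw [Nat.add_sub_cancel] at hc hd
  have h1 : ¬ p ∣ c.val := by
    rintro ⟨e, he⟩
    apply ha0
    rw [hc, ← ZMod.natCast_zmod_val c, he, ← Nat.cast_mul, ZMod.natCast_eq_zero_iff]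
    exact ⟨e, by ring⟩
  have h2 : IsUnit c := by
    rw [← ZMod.natCast_zmod_val c, ZMod.isUnit_iff_coprime]
    exact (Nat.Coprime.pow_right _ (((hp.coprime_iff_not_dvd).2 h1).symm))
  obtain ⟨u, rfl⟩ := h2
  refine ⟨((d * (u⁻¹ : (ZMod (p ^ (m + 1)))ˣ) : ZMod (p ^ (m + 1))).val : ℤ), ?_⟩
  rw [Int.cast_natCast, ZMod.natCast_zmod_val, hc, hd]
  have h3 : ((u⁻¹ : (ZMod (p ^ (m + 1)))ˣ) : ZMod (p ^ (m + 1))) * u = 1 := Units.inv_mul u
  linear_combination (-(p ^ m : ℕ) * d : ZMod (p ^ (m + 1))) * h3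

/-- the additive form -/
theorem key_add {ι : Type*} (e : ι → ℕ) (he : Function.Injective e) (m : ℕ)
    (x y : (i : ι) → ZMod (p ^ e i)) (hx : p • x = 0) (hy : p • y = 0) (hxm : ∃ u, (p ^ m) • u = x)
    (hym : ∃ u, (p ^ m) • u = y) (hx' : ¬ ∃ u, (p ^ (m + 1)) • u = x) :
    ∃ k : ℤ, ∃ u, (p ^ (m + 1)) • u = y + k • x := by
  classical
  have hp : p.Prime := Fact.out
  -- coordinates with `e i ≠ m + 1`
  have h1 : ∀ z : (i : ι) → ZMod (p ^ e i), p • z = 0 → (∃ u, (p ^ m) • u = z) → ∀ i, e i ≠ m + 1 →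
      ∃ c : ZMod (p ^ e i), (p ^ (m + 1) : ℕ) * c = z i := by
    rintro z hz ⟨u, rfl⟩ i hi
    by_cases h2 : e i ≤ m
    · refine ⟨0, ?_⟩
      rw [mul_zero, Pi.smul_apply, nsmul_eq_mul]
      have h3 : ((p ^ m : ℕ) : ZMod (p ^ e i)) = 0 := by
        rw [ZMod.natCast_eq_zero_iff]
        exact pow_dvd_pow p h2
      rw [h3, zero_mul]
    · have h3 : m + 2 ≤ e i := by omega
      have h4 : (p : ZMod (p ^ e i)) * ((p ^ m • u) i) = 0 := by
        have := congrFun hz i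
        rwa [Pi.smul_apply, nsmul_eq_mul, Pi.zero_apply] at this
      obtain ⟨c, hc⟩ := zmod_killed (by omega) _ h4
      refine ⟨(p ^ (e i - 1 - (m + 1)) : ℕ) * c, ?_⟩
      rw [hc, ← mul_assoc, ← Nat.cast_mul, ← pow_add]
      congr 3
      omega
  -- the exceptional coordinate
  obtain ⟨i₀, hi₀, hxi⟩ : ∃ i₀, e i₀ = m + 1 ∧ x i₀ ≠ 0 := by
    by_contra hcon
    push Not at hcon
    apply hx'
    have h2 : ∀ i, ∃ c : ZMod (p ^ e i), (p ^ (m + 1) : ℕ) * c = x i := by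
      intro i
      by_cases hi : e i = m + 1
      · exact ⟨0, by rw [mul_zero, hcon i hi]⟩
      · exact h1 x hx hxm i hi
    choose c hc using h2
    refine ⟨c, ?_⟩
    funext i
    rw [Pi.smul_apply, nsmul_eq_mul, hc]
  obtain ⟨k, hk⟩ : ∃ k : ℤ, y i₀ = k * x i₀ := by
    have h3 : (p : ZMod (p ^ e i₀)) * x i₀ = 0 := by
      have := congrFun hx i₀
      rwa [Pi.smul_apply, nsmul_eq_mul, Pi.zero_apply] at this
    have h4 : (p : ZMod (p ^ e i₀)) * y i₀ = 0 := by
      have := congrFun hy i₀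
      rwa [Pi.smul_apply, nsmul_eq_mul, Pi.zero_apply] at this
    generalize x i₀ = a at *
    generalize y i₀ = b at *
    revert a b
    rw [hi₀]
    intro a ha ha' b hb
    exact zmod_line a b ha' hb ha
  have h5 : p • (y + (-k) • x) = 0 := by
    rw [smul_add, smul_comm, hx, hy, smul_zero, add_zero]
  have h6 : ∃ u, (p ^ m) • u = y + (-k) • x := by
    obtain ⟨u, rfl⟩ := hxm
    obtain ⟨v, rfl⟩ := hym
    exact ⟨v + (-k) • u, by rw [smul_add, smul_comm]⟩
  refine ⟨-k, ?_⟩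
  have h2 : ∀ i, ∃ c : ZMod (p ^ e i), (p ^ (m + 1) : ℕ) * c = (y + (-k) • x) i := by
    intro i
    by_cases hi : e i = m + 1
    · have : i = i₀ := he (hi.trans hi₀.symm)
      subst this
      refine ⟨0, ?_⟩
      rw [mul_zero, Pi.add_apply, Pi.smul_apply, hk, zsmul_eq_mul]
      push_cast
      ring
    · exact h1 _ h5 h6 i hi
  choose c hc using h2
  refine ⟨c, ?_⟩
  funext i
  rw [Pi.smul_apply, nsmul_eq_mul, hc]

/-- The invariants property: the factors of the chain `Ω₁ ∩ ℧^m` have order at most `p`. -/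
def Thin (p : ℕ) (A : Type*) [Group A] : Prop :=
  ∀ (m : ℕ) (x y : A), x ^ p = 1 → y ^ p = 1 → (∃ u : A, u ^ p ^ m = x) → (∃ u : A, u ^ p ^ m = y) →
    (¬ ∃ u : A, u ^ p ^ (m + 1) = x) → ∃ k : ℤ, ∃ u : A, u ^ p ^ (m + 1) = y * x ^ k

theorem thin_of_equiv {ι : Type*} (e : ι → ℕ) (he : Function.Injective e) {A : Type*} [Group A]
    (φ : A ≃* Multiplicative ((i : ι) → ZMod (p ^ e i))) : Thin p A := by
  intro m x y hx hy hxm hym hx'
  have hpow : ∀ (n : ℕ) (u : A), Multiplicative.toAdd (φ (u ^ n)) = n • Multiplicative.toAdd (φ u) := by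
    intro n u
    rw [map_pow, toAdd_pow]
  have hex : ∀ (n : ℕ) (z : A), (∃ u : A, u ^ n = z) ↔ ∃ u, n • u = Multiplicative.toAdd (φ z) := by
    intro n z
    constructor
    · rintro ⟨u, rfl⟩
      exact ⟨Multiplicative.toAdd (φ u), (hpow n u).symm⟩
    · rintro ⟨u, hu⟩
      refine ⟨φ.symm (Multiplicative.ofAdd u), ?_⟩
      apply φ.injective
      apply Multiplicative.toAdd.injective
      rw [hpow, MulEquiv.apply_symm_apply, ← hu]
      rfl
  obtain ⟨k, hk⟩ := key_add (p := p) e he m (Multiplicative.toAdd (φ x)) (Multiplicative.toAdd (φ y))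
    (by rw [← hpow, hx, map_one]; rfl) (by rw [← hpow, hy, map_one]; rfl) ((hex _ _).1 hxm) ((hex _ _).1 hym)
    (fun h => hx' ((hex _ _).2 h))
  refine ⟨k, (hex _ _).2 ?_⟩
  obtain ⟨u, hu⟩ := hk
  refine ⟨u, ?_⟩
  rw [hu, map_mul, map_zpow, toAdd_mul, toAdd_zpow]

/-- An odd order automorphism of an abelian 2-group with distinct invariants is trivial. -/
theorem aut_eq_one {A : Type*} [CommGroup A] [Finite A] (hA : IsPGroup 2 A) (hT : Thin 2 A) (α : MulAut A)
    (ho : Odd (orderOf α)) : α = 1 := by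
  obtain ⟨N, hN⟩ : ∃ N : ℕ, ∀ x : A, x ^ 2 ^ N = 1 := by
    obtain ⟨N, hN⟩ := IsPGroup.iff_card.1 hA
    exact ⟨N, fun x => by rw [← hN]; exact pow_card_eq_one'⟩
  have hroot : ∀ (m : ℕ) (x : A), (∃ u : A, u ^ m = α x) ↔ ∃ u : A, u ^ m = x := by
    intro m x
    constructor
    · rintro ⟨u, hu⟩
      refine ⟨α.symm u, ?_⟩
      rw [← map_pow, hu, MulEquiv.symm_apply_apply]
    · rintro ⟨u, rfl⟩
      exact ⟨α u, (map_pow _ _ _).symm⟩
  -- involutions
  have h1 : ∀ d m : ℕ, N ≤ m + d → ∀ x : A, x ^ 2 = 1 → (∃ u : A, u ^ 2 ^ m = x) → α x = x := by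
    intro d
    induction d with
    | zero =>
      intro m hm x hx ⟨u, hu⟩
      have h2 : u ^ 2 ^ m = 1 := by
        obtain ⟨j, rfl⟩ := Nat.exists_eq_add_of_le (show N ≤ m by omega)
        rw [pow_add, pow_mul, hN, one_pow]
      rw [← hu, h2, map_one]
    | succ d ih =>
      intro m hm x hx hxm
      by_cases hx' : ∃ u : A, u ^ 2 ^ (m + 1) = x
      · exact ih (m + 1) (by omega) x hx hx'
      · obtain ⟨k, hk⟩ := hT m x (α x) hx (by rw [← map_pow, hx, map_one]) hxm ((hroot _ _).2 hxm) hx'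
        -- k odd
        have hz2 : (α x * x ^ k) ^ 2 = 1 := by
          rw [mul_pow, ← map_pow, hx, map_one, one_mul, ← zpow_natCast, ← zpow_mul, mul_comm k, zpow_mul,
            zpow_natCast, hx, one_zpow]
        have hz : α (α x * x ^ k) = α x * x ^ k := ih (m + 1) (by omega) _ hz2 hk
        rcases Int.even_or_odd k with ⟨j, hj⟩ | ⟨j, hj⟩
        · exfalso
          have hxk : x ^ k = 1 := by
            rw [hj, ← two_mul, zpow_mul]
            rw [show (x ^ (2 : ℤ)) = x ^ 2 from zpow_natCast x 2, hx, one_zpow]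
          rw [hxk, mul_one] at hk
          exact hx' ((hroot _ _).1 hk)
        · have hxk : x ^ k = x := by
            rw [hj, zpow_add, zpow_mul, zpow_one]
            rw [show (x ^ (2 : ℤ)) = x ^ 2 from zpow_natCast x 2, hx, one_zpow, one_mul]
          rw [hxk] at hz hz2
          have hxx : x * x = 1 := by rw [← pow_two, hx]
          refine Cfsg.Agent.Lib.WreathedC.fixed_of_step α ho (c := α x * x) ?_ hz (m := 1) (by simpa using hz2)
          calc α x = α x * (x * x) := by rw [hxx, mul_one]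
            _ = x * (α x * x) := by rw [← mul_assoc, mul_comm]
  have h2 : ∀ x : A, x ^ 2 = 1 → α x = x := fun x hx => h1 N 0 (by omega) x hx ⟨x, by simp⟩
  have h3 : ∀ (j : ℕ) (x : A), x ^ 2 ^ j = 1 → α x = x := by
    intro j
    induction j with
    | zero =>
      intro x hx
      rw [pow_zero, pow_one] at hx
      rw [hx, map_one]
    | succ j ih =>
      intro x hx
      have h4 : α (x ^ 2) = x ^ 2 := by
        apply ih
        rw [← pow_mul, ← pow_succ', hx]
      have h5 : (x⁻¹ * α x) ^ 2 = 1 := by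
        rw [mul_pow, ← map_pow, h4, inv_pow, inv_mul_cancel]
      exact Cfsg.Agent.Lib.WreathedC.fixed_of_step α ho (c := x⁻¹ * α x) (by group) (h2 _ h5) (m := 1)
        (by simpa using h5)
  apply MulEquiv.ext
  intro x
  exact h3 N x (hN x)

end Cfsg.Agent.Lib.H88Distinct
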