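import Cfsg.Agent.Lib.PackLane

/-!
Packed matrices over `ZMod p` with a kernel-friendly multiplication (about `10 n` operations on big numbers).

* `rep w A` the packed number of a matrix, `rep_inj`
* `mulG` the product of packed numbers, `mulG_rep : mulG .. (rep A) (rep B) = rep (A * B)`
* `okG`, `dec`, `rep_dec` : decoding of table entries
-/

set_option autoImplicit false
set_option linter.unusedSectionVars false

namespace Cfsg.Agent.Lib.PackMat

open Finset Cfsg.Agent.Lib.PackLane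

section

variable {n p : ℕ} [NeZero p]

/-- entries as natural numbers -/
def ent (A : Matrix (Fin n) (Fin n) (ZMod p)) (i j : ℕ) : ℕ :=
  if h : i < n ∧ j < n then (A ⟨i, h.1⟩ ⟨j, h.2⟩).val else 0

theorem ent_lt (A : Matrix (Fin n) (Fin n) (ZMod p)) (i j : ℕ) : ent A i j < p := by
  unfold ent
  split
  · exact ZMod.val_lt _
  · exact Nat.pos_of_ne_zero (NeZero.ne p)

theorem ent_fin (A : Matrix (Fin n) (Fin n) (ZMod p)) (i j : Fin n) : ent A i j = (A i j).val := by
  unfold ent
  rw [dif_pos ⟨i.2, j.2⟩]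

/-- the packed number of a matrix -/
def rep (w : ℕ) (A : Matrix (Fin n) (Fin n) (ZMod p)) : ℕ :=
  P (fun l => ent A (l / n) (l % n)) w (n * n)

theorem rep_inj {w : ℕ} (hw : 0 < w) (hp : p ≤ 2 ^ w) {A B : Matrix (Fin n) (Fin n) (ZMod p)}
    (h : rep w A = rep w B) : A = B := by
  have h1 := P_inj hw (fun i _ => lt_of_lt_of_le (ent_lt A _ _) hp) (fun i _ => lt_of_lt_of_le (ent_lt B _ _) hp) h
  ext i j
  have hn : 0 < n := lt_of_le_of_lt (Nat.zero_le _) i.2
  have h2 := h1 (n * i + j) (by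
    calc n * i + j < n * i + n := by have := j.2; omega
      _ = n * (i + 1) := by ring
      _ ≤ n * n := Nat.mul_le_mul_left _ i.2)
  have e1 : (n * (i : ℕ) + j) / n = i := by
    rw [Nat.mul_add_div hn, Nat.div_eq_of_lt j.2, Nat.add_zero]
  have e2 : (n * (i : ℕ) + j) % n = j := by
    rw [Nat.mul_add_mod, Nat.mod_eq_of_lt j.2]
  simp only [e1, e2, ent_fin] at h2
  exact ZMod.val_injective p h2

theorem rep_two (w : ℕ) (A : Matrix (Fin n) (Fin n) (ZMod p)) :
    rep w A = P (fun i => P (fun j => ent A i j) w n) (w * n) n := by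
  rw [rep, P_flat]
  apply P_congr
  intro i _
  apply P_congr
  intro j hj
  have hn : 0 < n := by omega
  rw [Nat.mul_add_div hn, Nat.div_eq_of_lt hj, Nat.add_zero, Nat.mul_add_mod, Nat.mod_eq_of_lt hj]

theorem flat_two (w : ℕ) (F : ℕ → ℕ → ℕ) :
    P (fun i => P (fun j => F i j) w n) (w * n) n = P (fun l => F (l / n) (l % n)) w (n * n) := by
  rw [P_flat]
  apply P_congr
  intro i _
  apply P_congr
  intro j hj
  have hn : 0 < n := by omega
  rw [Nat.mul_add_div hn, Nat.div_eq_of_lt hj, Nat.add_zero, Nat.mul_add_mod, Nat.mod_eq_of_lt hj]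

/-- evaluate a number before using it -/
def forceN (c : ℕ) (f : ℕ → ℕ) : ℕ := Nat.rec (motive := fun _ => ℕ) (f 0) (fun k _ => f (Nat.succ k)) c

theorem forceN_eq (c : ℕ) (f : ℕ → ℕ) : forceN c f = f c := by cases c <;> rfl

/-- reduction of the lanes modulo `p` -/
def redG (p mu sh lm c : ℕ) : ℕ :=
  forceN c fun c => Nat.sub c (Nat.mul p (Nat.land (Nat.shiftRight (Nat.mul c mu) sh) lm))

/-- product of packed matrices -/
def mulG (n w p mu sh cm rm lm wn : ℕ) (a b : ℕ) : ℕ :=
  redG p mu sh lm (Nat.rec (motive := fun _ => ℕ) 0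
    (fun k ih => Nat.add ih (Nat.mul (Nat.land (Nat.shiftRight a (Nat.mul w k)) cm)
      (Nat.land (Nat.shiftRight b (Nat.mul wn k)) rm))) n)

/-- the numerical conditions on the parameters -/
structure Par (n w p mu sh cm rm lm wn : ℕ) : Prop where
  hw : 0 < w
  hsh : sh ≤ w
  hp0 : 0 < p
  hp : p ≤ 2 ^ w
  hwn : wn = w * n
  hcm : cm = P (fun _ => 2 ^ w - 1) (w * n) n
  hrm : rm = 2 ^ (w * n) - 1
  hlm : lm = P (fun _ => 2 ^ (w - sh) - 1) w (n * n)
  hb : (n * ((p - 1) * (p - 1))) * mu < 2 ^ w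
  hred : ∀ x ≤ n * ((p - 1) * (p - 1)), ((x * mu) >>> sh) &&& (2 ^ (w - sh) - 1) = x / p

theorem mulG_rep {w mu sh cm rm lm wn : ℕ} (H : Par n w p mu sh cm rm lm wn)
    (A B : Matrix (Fin n) (Fin n) (ZMod p)) :
    mulG n w p mu sh cm rm lm wn (rep w A) (rep w B) = rep w (A * B) := by
  have hA : ∀ i j, ent A i j < 2 ^ w := fun i j => lt_of_lt_of_le (ent_lt A i j) H.hp
  have hB : ∀ i j, ent B i j < 2 ^ w := fun i j => lt_of_lt_of_le (ent_lt B i j) H.hp
  have hrow : ∀ k < n, ((rep w B) >>> (w * n * k)) &&& rm = P (fun j => ent B k j) w n := by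
    intro k hk
    have hn : 0 < n := by omega
    rw [rep_two, H.hrm]
    exact extract (Nat.mul_pos H.hw hn) (fun i _ => P_lt (fun j _ => hB i j)) hk
  have hcol : ∀ k < n, ((rep w A) >>> (w * k)) &&& cm = P (fun i => ent A i k) (w * n) n := by
    intro k hk
    have hn : 0 < n := by omega
    rw [rep_two, H.hcm, lane_shift_and (Nat.mul_pos H.hw hn) (fun i _ => P_lt (fun j _ => hA i j))
      (Nat.mul_le_mul_left _ hk.le)]
    · apply P_congr
      intro i _
      exact extract H.hw (fun j _ => hA i j) hk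
    · have h1 : w * n - w * k = w * (n - k) := (Nat.mul_sub _ _ _).symm
      rw [h1]
      have h2 : (2 : ℕ) ^ w ≤ 2 ^ (w * (n - k)) := by
        apply Nat.pow_le_pow_right (by norm_num)
        exact Nat.le_mul_of_pos_right _ (by omega)
      have := Nat.two_pow_pos w
      omega
  have hsum : ∀ K ≤ n, (Nat.rec (motive := fun _ => ℕ) 0
      (fun k ih => Nat.add ih (Nat.mul (Nat.land (Nat.shiftRight (rep w A) (Nat.mul w k)) cm)
      (Nat.land (Nat.shiftRight (rep w B) (Nat.mul wn k)) rm))) K : ℕ) =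
      ∑ k ∈ range K, P (fun i => ent A i k) (w * n) n * P (fun j => ent B k j) w n := by
    intro K hK
    induction K with
    | zero => rfl
    | succ K ih =>
      rw [sum_range_succ, ← ih (by omega), ← hcol K (by omega), ← hrow K (by omega), ← H.hwn]
      rfl
  have hent : ∀ l, (∑ k ∈ range n, ent A (l / n) k * ent B k (l % n)) ≤ n * ((p - 1) * (p - 1)) := by
    intro l
    calc _ ≤ ∑ k ∈ range n, (p - 1) * (p - 1) := by
          apply sum_le_sum
          intro k _
          have h1 := ent_lt A (l / n) k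
          have h2 := ent_lt B k (l % n)
          exact Nat.mul_le_mul (by omega) (by omega)
      _ = _ := by rw [sum_const, card_range, smul_eq_mul]
  unfold mulG redG
  rw [forceN_eq, hsum n le_rfl]
  have e1 : ∑ k ∈ range n, P (fun i => ent A i k) (w * n) n * P (fun j => ent B k j) w n =
      P (fun l => ∑ k ∈ range n, ent A (l / n) k * ent B k (l % n)) w (n * n) := by
    rw [← P_sum]
    apply sum_congr rfl
    intro k _
    rw [P_mul_P, flat_two w (fun i j => ent A i k * ent B k j)]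
  rw [e1]
  have e2 := lane_red (p := p) (m := mu) H.hw H.hsh (fun l (_ : l < n * n) => hent l) H.hb H.hred
  rw [← H.hlm] at e2
  refine e2.trans ?_
  rw [rep]
  apply P_congr
  intro l hl
  have hn : 0 < n := by
    rcases Nat.eq_zero_or_pos n with h | h
    · subst h; simp at hl
    · exact h
  have hi : l / n < n := Nat.div_lt_of_lt_mul hl
  have hj : l % n < n := Nat.mod_lt _ hn
  have h1 : ent (A * B) (l / n) (l % n) = ((A * B) ⟨l / n, hi⟩ ⟨l % n, hj⟩).val := by
    unfold ent
    rw [dif_pos ⟨hi, hj⟩]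
  rw [h1, Matrix.mul_apply]
  have h2 : (∑ j : Fin n, A ⟨l / n, hi⟩ j * B j ⟨l % n, hj⟩) =
      ((∑ k ∈ range n, ent A (l / n) k * ent B k (l % n) : ℕ) : ZMod p) := by
    rw [Finset.sum_range (fun k => ent A (l / n) k * ent B k (l % n)), Nat.cast_sum]
    apply sum_congr rfl
    intro k _
    rw [Nat.cast_mul]
    have e3 : ent A (l / n) k = (A ⟨l / n, hi⟩ k).val := by
      unfold ent; rw [dif_pos ⟨hi, k.2⟩]
    have e4 : ent B k (l % n) = (B k ⟨l % n, hj⟩).val := by
      unfold ent; rw [dif_pos ⟨k.2, hj⟩]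
    rw [e3, e4, ZMod.natCast_zmod_val, ZMod.natCast_zmod_val]
  rw [h2, ZMod.val_natCast]

/-- decoding -/
def dec (n p w : ℕ) (c : ℕ) : Matrix (Fin n) (Fin n) (ZMod p) :=
  Matrix.of fun i j => (((c >>> (w * (n * (i : ℕ) + (j : ℕ)))) &&& (2 ^ w - 1) : ℕ) : ZMod p)

/-- check of a table entry -/
def okG (w p m lm : ℕ) (c : ℕ) : Bool :=
  Nat.beq (Nat.rec (motive := fun _ => ℕ) 0
    (fun l ih => Nat.add ih (Nat.shiftLeft (Nat.mod (Nat.land (Nat.shiftRight c (Nat.mul w l)) lm) p) (Nat.mul w l))) m) c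

theorem rep_dec {w c : ℕ} (h : okG w p (n * n) (2 ^ w - 1) c = true) :
    rep w (dec n p w c) = c := by
  have h1 := Nat.eq_of_beq_eq_true h
  have h2 : ∀ K, (Nat.rec (motive := fun _ => ℕ) 0
    (fun l ih => Nat.add ih (Nat.shiftLeft (Nat.mod (Nat.land (Nat.shiftRight c (Nat.mul w l)) (2 ^ w - 1)) p) (Nat.mul w l))) K : ℕ)
      = P (fun l => ((c >>> (w * l)) &&& (2 ^ w - 1)) % p) w K := by
    intro K
    induction K with
    | zero => rfl
    | succ K ih =>
      rw [P_succ, ← ih, mul_comm, ← Nat.shiftLeft_eq]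
      exact Nat.add_comm _ _
  conv_rhs => rw [← h1, h2]
  rw [rep]
  apply P_congr
  intro l hl
  have hn : 0 < n := by
    rcases Nat.eq_zero_or_pos n with h | h
    · subst h; simp at hl
    · exact h
  have hi : l / n < n := Nat.div_lt_of_lt_mul hl
  have hj : l % n < n := Nat.mod_lt _ hn
  have h3 : ent (dec n p w c) (l / n) (l % n) = ((dec n p w c) ⟨l / n, hi⟩ ⟨l % n, hj⟩).val := by
    unfold ent
    rw [dif_pos ⟨hi, hj⟩]
  rw [h3, dec, Matrix.of_apply, ZMod.val_natCast]
  congr 3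
  show w * (n * (l / n) + l % n) = w * l
  rw [Nat.div_add_mod]

end

end Cfsg.Agent.Lib.PackMat
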