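import Cfsg.Agent.Lib.PackLane
import Cfsg.Agent.Lib.PackMat
import Cfsg.Agent.Lib.BenesWord

/-!
Square matrices over the field with two elements packed in one natural number
(bit `n * i + j` is the entry `(i, j)`): kernel-fast product, power, row-vector action.

* `toM n a`, `toV n v` : decoding
* `toM_mulF` : `toM n (mulF n M R a b) = toM n a * toM n b`
* `toV_vmulF` : `toV n (vmulF n R v b) = Matrix.vecMul (toV n v) (toM n b)`
-/

set_option autoImplicit false
set_option maxHeartbeats 400000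

namespace Cfsg.Agent.Lib.H88F2M

open Finset Cfsg.Agent.Lib.PackLane

theorem P_const_mul (c w n : ℕ) : P (fun _ => c) w n * (2 ^ w - 1) = c * (2 ^ (w * n) - 1) := by
  induction n with
  | zero => simp [P]
  | succ n ih =>
    rw [P_succ, add_mul, ih]
    have h1 : 1 ≤ 2 ^ w := Nat.one_le_two_pow
    have h2 : 1 ≤ 2 ^ (w * n) := Nat.one_le_two_pow
    have h3 : 2 ^ (w * (n + 1)) = 2 ^ (w * n) * 2 ^ w := by rw [← pow_add]; ring_nf
    rw [h3]
    obtain ⟨a, ha⟩ := Nat.exists_eq_add_of_le h1
    obtain ⟨b, hb⟩ := Nat.exists_eq_add_of_le h2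
    rw [ha, hb]
    have e1 : 1 + a - 1 = a := by omega
    have e2 : 1 + b - 1 = b := by omega
    have e3 : (1 + b) * (1 + a) - 1 = a + b + a * b := by
      have : (1 + b) * (1 + a) = 1 + (a + b + a * b) := by ring
      rw [this]; omega
    rw [e1, e2, e3]; ring

theorem P_const_eq {c w n C : ℕ} (hw : 0 < w)
    (h : Nat.beq (Nat.mul C (Nat.sub (Nat.pow 2 w) 1)) (Nat.mul c (Nat.sub (Nat.pow 2 (Nat.mul w n)) 1)) = true) :
    C = P (fun _ => c) w n := by
  have h1 : C * (2 ^ w - 1) = c * (2 ^ (w * n) - 1) := Nat.eq_of_beq_eq_true h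
  rw [← P_const_mul] at h1
  have h2 : 0 < 2 ^ w - 1 := by
    have := Nat.one_lt_two_pow (n := w) (by omega)
    omega
  exact Nat.eq_of_mul_eq_mul_right h2 h1

/-- a bit as an element of the field with two elements -/
def b2 (b : Bool) : ZMod 2 := cond b 1 0

theorem b2_xor (a b : Bool) : b2 (Bool.xor a b) = b2 a + b2 b := by
  cases a <;> cases b <;> decide

theorem b2_and (a b : Bool) : b2 (a && b) = b2 a * b2 b := by
  cases a <;> cases b <;> decide

theorem b2_inj {a b : Bool} (h : b2 a = b2 b) : a = b := by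
  cases a <;> cases b <;> first | rfl | exact absurd h (by decide)

/-- decoding a matrix -/
def toM (n a : ℕ) : Matrix (Fin n) (Fin n) (ZMod 2) := fun i j => b2 (a.testBit (n * i.1 + j.1))

/-- decoding a vector -/
def toV (n v : ℕ) : Fin n → ZMod 2 := fun j => b2 (v.testBit j.1)

/-- column `k` spread over lanes -/
theorem col_eq {n a k : ℕ} (hn : 0 < n) :
    (a >>> k) &&& P (fun _ => 1) n n = P (fun i => (a.testBit (n * i + k)).toNat) n n := by
  have h1 : ∀ i < n, (1 : ℕ) < 2 ^ n := fun i _ => Nat.one_lt_two_pow (by omega)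
  have h2 : ∀ i < n, (a.testBit (n * i + k)).toNat < 2 ^ n := fun i hi =>
    lt_of_le_of_lt (Bool.toNat_le _) (h1 i hi)
  apply testBit_div_mod hn
  intro q t ht
  rw [Nat.testBit_and, Nat.testBit_shiftRight, testBit_P h1 q t ht, testBit_P h2 q t ht]
  by_cases h : t = 0
  · subst h
    rw [add_zero, add_comm k]
    cases a.testBit (n * q + k) <;> cases decide (q < n) <;> rfl
  · have e1 : Nat.testBit 1 t = false := by
      apply Nat.testBit_lt_two_pow
      exact Nat.one_lt_two_pow h
    have e2 : ((a.testBit (n * q + k)).toNat).testBit t = false := by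
      apply Nat.testBit_lt_two_pow
      exact lt_of_le_of_lt (Bool.toNat_le _) (Nat.one_lt_two_pow h)
    rw [e1, e2, Bool.and_false, Bool.and_false]

theorem row_testBit (n b k j : ℕ) (hj : j < n) :
    ((b >>> (n * k)) &&& (2 ^ n - 1)).testBit j = b.testBit (n * k + j) := by
  rw [Nat.testBit_and, Nat.testBit_shiftRight, Nat.testBit_two_pow_sub_one]
  simp [hj]

theorem row_lt (n b k : ℕ) : ((b >>> (n * k)) &&& (2 ^ n - 1)) < 2 ^ n := by
  have h : 0 < 2 ^ n := Nat.two_pow_pos n
  exact lt_of_le_of_lt Nat.and_le_right (by omega)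

theorem mul_bool_testBit (e : Bool) (r j : ℕ) : (e.toNat * r).testBit j = (e && r.testBit j) := by
  cases e <;> simp

theorem mul_bool_lt {r m : ℕ} (e : Bool) (h : r < m) : e.toNat * r < m := by
  cases e
  · simp; omega
  · simpa using h

/-- one term of the product -/
theorem term_testBit {n : ℕ} (a b k : ℕ) {i j : ℕ} (hi : i < n) (hj : j < n) :
    (((a >>> k) &&& P (fun _ => 1) n n) * ((b >>> (n * k)) &&& (2 ^ n - 1))).testBit (n * i + j) =
      (a.testBit (n * i + k) && b.testBit (n * k + j)) := by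
  have hn : 0 < n := by omega
  have h1 : ((a >>> k) &&& P (fun _ => 1) n n) * ((b >>> (n * k)) &&& (2 ^ n - 1)) =
      P (fun i => (a.testBit (n * i + k)).toNat * ((b >>> (n * k)) &&& (2 ^ n - 1))) n n := by
    rw [col_eq hn, P, P, Finset.sum_mul]
    apply Finset.sum_congr rfl
    intro i _
    ring
  rw [h1, testBit_P (fun i _ => mul_bool_lt _ (row_lt n b k)) i j hj, mul_bool_testBit,
    row_testBit n b k j hj]
  simp [hi]

/-- the product of packed matrices -/
noncomputable def mulF (n M R a b : ℕ) : ℕ :=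
  Nat.rec (motive := fun _ => ℕ) 0
    (fun k ih => Nat.xor ih (Nat.mul (Nat.land (Nat.shiftRight a k) M)
      (Nat.land (Nat.shiftRight b (Nat.mul n k)) R))) n

/-- the product of a packed row vector and a packed matrix -/
noncomputable def vmulF (n R v b : ℕ) : ℕ :=
  Nat.rec (motive := fun _ => ℕ) 0
    (fun k ih => Nat.xor ih (Nat.mul (Nat.land (Nat.shiftRight v k) 1)
      (Nat.land (Nat.shiftRight b (Nat.mul n k)) R))) n

theorem toM_mulF {n M R : ℕ} (hM : M = P (fun _ => 1) n n) (hR : R = 2 ^ n - 1) (a b : ℕ) :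
    toM n (mulF n M R a b) = toM n a * toM n b := by
  subst hM hR
  ext i j
  rw [Matrix.mul_apply]
  have hsum : ∀ K, b2 ((Nat.rec (motive := fun _ => ℕ) 0
      (fun k ih => Nat.xor ih (Nat.mul (Nat.land (Nat.shiftRight a k) (P (fun _ => 1) n n))
      (Nat.land (Nat.shiftRight b (Nat.mul n k)) (2 ^ n - 1)))) K : ℕ).testBit (n * i.1 + j.1)) =
      ∑ k ∈ range K, b2 (a.testBit (n * i.1 + k)) * b2 (b.testBit (n * k + j.1)) := by
    intro K
    induction K with
    | zero => simp [b2]
    | succ K ih =>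
      rw [sum_range_succ, ← ih, ← b2_and, ← term_testBit a b K i.2 j.2, ← b2_xor, ← Nat.testBit_xor]
      rfl
  have h2 := hsum n
  rw [Finset.sum_range] at h2
  exact h2

theorem toV_vmulF {n R : ℕ} (hR : R = 2 ^ n - 1) (v b : ℕ) :
    toV n (vmulF n R v b) = Matrix.vecMul (toV n v) (toM n b) := by
  subst hR
  ext j
  rw [Matrix.vecMul, dotProduct]
  have hsum : ∀ K, b2 ((Nat.rec (motive := fun _ => ℕ) 0
      (fun k ih => Nat.xor ih (Nat.mul (Nat.land (Nat.shiftRight v k) 1)
      (Nat.land (Nat.shiftRight b (Nat.mul n k)) (2 ^ n - 1)))) K : ℕ).testBit j.1) =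
      ∑ k ∈ range K, b2 (v.testBit k) * b2 (b.testBit (n * k + j.1)) := by
    intro K
    induction K with
    | zero => simp [b2]
    | succ K ih =>
      have e1 : ((v >>> K) &&& 1) = (v.testBit K).toNat := by
        rw [Nat.toNat_testBit, Nat.and_one_is_mod, Nat.shiftRight_eq_div_pow]
      have e2 : (((v >>> K) &&& 1) * ((b >>> (n * K)) &&& (2 ^ n - 1))).testBit j.1 =
          (v.testBit K && b.testBit (n * K + j.1)) := by
        rw [e1, mul_bool_testBit, row_testBit n b K j.1 j.2]
      rw [sum_range_succ, ← ih, ← b2_and, ← e2, ← b2_xor, ← Nat.testBit_xor]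
      rfl
  have h2 := hsum n
  rw [Finset.sum_range] at h2
  exact h2

/-- difference of two matrices seen on one bit -/
theorem toM_ne {n a b i j : ℕ} (hi : i < n) (hj : j < n)
    (h : a.testBit (n * i + j) ≠ b.testBit (n * i + j)) : toM n a ≠ toM n b := by
  intro e
  have h1 := congrFun (congrFun e ⟨i, hi⟩) ⟨j, hj⟩
  exact h (b2_inj h1)

theorem toV_ne {n a b j : ℕ} (hj : j < n) (h : a.testBit j ≠ b.testBit j) : toV n a ≠ toV n b := by
  intro e
  exact h (b2_inj (congrFun e ⟨j, hj⟩))

theorem toM_inj {n a b : ℕ} (ha : a < 2 ^ (n * n)) (hb : b < 2 ^ (n * n)) (h : toM n a = toM n b) : a = b := by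
  apply Nat.eq_of_testBit_eq
  intro l
  by_cases hl : l < n * n
  · have hn : 0 < n := Nat.pos_of_ne_zero (fun h0 => by subst h0; omega)
    have h1 : l / n < n := Nat.div_lt_of_lt_mul hl
    have h2 : l % n < n := Nat.mod_lt _ hn
    have h3 := congrFun (congrFun h ⟨l / n, h1⟩) ⟨l % n, h2⟩
    have h4 := b2_inj h3
    rwa [Nat.div_add_mod] at h4
  · rw [Nat.testBit_lt_two_pow (lt_of_lt_of_le ha (Nat.pow_le_pow_right (by norm_num) (by omega))),
      Nat.testBit_lt_two_pow (lt_of_lt_of_le hb (Nat.pow_le_pow_right (by norm_num) (by omega)))]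

theorem toV_inj {n a b : ℕ} (ha : a < 2 ^ n) (hb : b < 2 ^ n) (h : toV n a = toV n b) : a = b := by
  apply Nat.eq_of_testBit_eq
  intro l
  by_cases hl : l < n
  · exact b2_inj (congrFun h ⟨l, hl⟩)
  · rw [Nat.testBit_lt_two_pow (lt_of_lt_of_le ha (Nat.pow_le_pow_right (by norm_num) (by omega))),
      Nat.testBit_lt_two_pow (lt_of_lt_of_le hb (Nat.pow_le_pow_right (by norm_num) (by omega)))]

theorem mulF_lt {n M R : ℕ} (hM : M = P (fun _ => 1) n n) (hR : R = 2 ^ n - 1) (a b : ℕ) :
    mulF n M R a b < 2 ^ (n * n) := by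
  subst hM hR
  unfold mulF
  rcases Nat.eq_zero_or_pos n with h0 | hn
  · subst h0; simp
  have hsum : ∀ K, (Nat.rec (motive := fun _ => ℕ) 0
      (fun k ih => Nat.xor ih (Nat.mul (Nat.land (Nat.shiftRight a k) (P (fun _ => 1) n n))
      (Nat.land (Nat.shiftRight b (Nat.mul n k)) (2 ^ n - 1)))) K : ℕ) < 2 ^ (n * n) := by
    intro K
    induction K with
    | zero => exact Nat.two_pow_pos _
    | succ K ih =>
      refine Nat.xor_lt_two_pow ih ?_
      have h1 : ((a >>> K) &&& P (fun _ => 1) n n) * ((b >>> (n * K)) &&& (2 ^ n - 1)) =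
          P (fun i => (a.testBit (n * i + K)).toNat * ((b >>> (n * K)) &&& (2 ^ n - 1))) n n := by
        rw [col_eq hn, P, P, Finset.sum_mul]
        apply Finset.sum_congr rfl
        intro i _
        ring
      exact lt_of_eq_of_lt h1 (P_lt (fun i _ => mul_bool_lt _ (row_lt n b K)))
  exact hsum n

/-- the identity matrix -/
theorem toM_one (n : ℕ) : toM n (P (fun _ => 1) (n + 1) n) = 1 := by
  ext i j
  have hi := i.2
  have hj := j.2
  have h1 : ∀ i < n, (1 : ℕ) < 2 ^ (n + 1) := fun i _ => Nat.one_lt_two_pow (by omega)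
  by_cases hij : i = j
  · subst hij
    rw [Matrix.one_apply_eq]
    change b2 ((P (fun _ => 1) (n + 1) n).testBit (n * i.1 + i.1)) = 1
    rw [show n * i.1 + i.1 = (n + 1) * i.1 + 0 by ring, testBit_P h1 i.1 0 (by omega)]
    simp [hi, b2]
  · rw [Matrix.one_apply_ne hij]
    change b2 ((P (fun _ => 1) (n + 1) n).testBit (n * i.1 + j.1)) = 0
    have hne : i.1 ≠ j.1 := fun h => hij (Fin.ext h)
    rcases lt_or_gt_of_ne hne with h | h
    · obtain ⟨d, hd⟩ := Nat.exists_eq_add_of_lt h
      rw [show n * i.1 + j.1 = (n + 1) * i.1 + (d + 1) by rw [hd]; ring,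
        testBit_P h1 i.1 (d + 1) (by omega)]
      have : Nat.testBit 1 (d + 1) = false := Nat.testBit_lt_two_pow (Nat.one_lt_two_pow (by omega))
      rw [this, Bool.and_false]; rfl
    · obtain ⟨k, hk⟩ : ∃ k, i.1 = k + 1 := ⟨i.1 - 1, by omega⟩
      have e1 : n * i.1 + j.1 = (n + 1) * k + (n + j.1 - k) := by
        have : n + j.1 - k + k = n + j.1 := by omega
        rw [hk]
        calc n * (k + 1) + j.1 = n * k + (n + j.1) := by ring
          _ = n * k + (n + j.1 - k + k) := by rw [this]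
          _ = (n + 1) * k + (n + j.1 - k) := by ring
      rw [e1, testBit_P h1 k (n + j.1 - k) (by omega)]
      have : Nat.testBit 1 (n + j.1 - k) = false :=
        Nat.testBit_lt_two_pow (Nat.one_lt_two_pow (by omega))
      rw [this, Bool.and_false]; rfl

end Cfsg.Agent.Lib.H88F2M
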