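import Cfsg.Agent.Lib.H88Sp4

/-! Conjugacy in `Sp(4,F)` and the group `Q ≀ 2`. -/

set_option autoImplicit false
set_option maxHeartbeats 400000

namespace Cfsg.Agent.Lib.H88Sp4

open Matrix
open scoped MatrixGroups

variable {F : Type*} [Field F]

theorem det_half (h2 : (2 : F) ≠ 0) : (!![(1 : F), 0; 0, 2⁻¹] : M2 F).det = 2⁻¹ := by
  simp [det_fin_two]

theorem exists_conj_W (h2 : (2 : F) ≠ 0) : ∃ g : Sp F, g * D (1, n1) = W * g := by
  set m : M2 F := !![(1 : F), 0; 0, 2⁻¹] with hm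
  have hd : m.det = 2⁻¹ := det_half h2
  have hg : ph m m m (-m) ∈ symplecticGroup (Fin 2) F := by
    rw [mem_iff, det_neg, hd, Fintype.card_fin]
    refine ⟨?_, ?_, ?_⟩
    · rw [← two_mul]; exact mul_inv_cancel₀ h2
    · rw [neg_one_sq, one_mul, ← two_mul]; exact mul_inv_cancel₀ h2
    · rw [transpose_neg, mul_neg, add_neg_cancel]
  refine ⟨⟨_, hg⟩, Subtype.ext ?_⟩
  rw [sp_mul_val, sp_mul_val, D_val, W_val, mt_one, n1_val]
  show ph m m m (-m) * _ = _ * ph m m m (-m)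
  rw [ph_mul, ph_mul]
  simp

/-- `j` as an element of `SL₂` -/
def jS : SL(2, F) := mk' (jj F) jj_det

theorem exists_conj_w' (h2 : (2 : F) ≠ 0) {x y : F} (hxy : x ^ 2 + y ^ 2 = -1) :
    ∃ g : Sp F, g * D (jS, jS) = (D (1, n1) * W) * g := by
  set m : M2 F := !![(1 : F), 0; 0, 2⁻¹] with hm
  have hd : m.det = 2⁻¹ := det_half h2
  set q : M2 F := !![x, y; y, -x] with hq
  have hqd : q.det = 1 := by
    rw [hq, det_fin_two_of]
    linear_combination -hxy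
  have hqq : q * qᵀ = -1 := by
    rw [hq]
    ext i j
    fin_cases i <;> fin_cases j <;> simp [Matrix.mul_apply, Fin.sum_univ_two] <;>
      first | linear_combination hxy | ring
  have hg : ph m (m * q) (m * jj F) (m * q * jj F) ∈ symplecticGroup (Fin 2) F := by
    rw [mem_iff, det_mul, det_mul, det_mul, det_mul, hd, hqd, jj_det]
    refine ⟨?_, ?_, ?_⟩
    · rw [mul_one, ← two_mul]; exact mul_inv_cancel₀ h2
    · rw [mul_one, mul_one, ← two_mul]; exact mul_inv_cancel₀ h2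
    · have e1 : m * jj F * (m * jj F)ᵀ = m * mᵀ := by
        rw [transpose_mul]
        calc m * jj F * ((jj F)ᵀ * mᵀ) = m * (jj F * (jj F)ᵀ) * mᵀ := by simp only [mul_assoc]
          _ = m * mᵀ := by rw [jj_tr, mul_one]
      have e2 : m * q * jj F * (m * q * jj F)ᵀ = -(m * mᵀ) := by
        rw [transpose_mul, transpose_mul]
        calc m * q * jj F * ((jj F)ᵀ * (qᵀ * mᵀ)) = m * (q * (jj F * (jj F)ᵀ) * qᵀ) * mᵀ := by simp only [mul_assoc]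
          _ = m * (q * qᵀ) * mᵀ := by rw [jj_tr, mul_one]
          _ = -(m * mᵀ) := by rw [hqq]; simp
      rw [e1, e2, add_neg_cancel]
  refine ⟨⟨_, hg⟩, Subtype.ext ?_⟩
  rw [sp_mul_val, sp_mul_val, sp_mul_val, D_val, D_val, W_val, mt_one, n1_val]
  show ph m (m * q) (m * jj F) (m * q * jj F) * ph (mt jS) 0 0 (mt jS) = _ * ph m (m * q) (m * jj F) (m * q * jj F)
  have e3 : mt (jS : SL(2, F)) = jj F := rfl
  rw [ph_mul, ph_mul, ph_mul, e3]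
  have e4 : ∀ z : M2 F, z * jj F * jj F = -z := fun z => by rw [mul_assoc, jj_sq]; simp
  simp [e4]

theorem exists_conj_D [Fintype F] (h2 : (2 : F) ≠ 0) (a b : SL(2, F)) (ha : mt a * mt a = -1) (hb : mt b * mt b = -1) :
    ∃ g : Sp F, g * D (a, b) * g⁻¹ = D (1, n1) * W := by
  obtain ⟨x, y, hxy⟩ : ∃ x y : F, x ^ 2 + y ^ 2 = -1 := by
    obtain ⟨X, Y, h⟩ := ClSL2Syl.exists_sq_add_one h2 (-1 : F) (neg_ne_zero.2 one_ne_zero)
    exact ⟨X, Y, by linear_combination -h⟩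
  obtain ⟨g, hg⟩ := exists_conj_w' h2 hxy
  have hj : mt (jS : SL(2, F)) * mt jS = -1 := jj_sq
  obtain ⟨u, hu⟩ := PSL2TwoFusion.exists_conj_JJ h2 a ha
  obtain ⟨v, hv⟩ := PSL2TwoFusion.exists_conj_JJ h2 b hb
  obtain ⟨w, hw⟩ := PSL2TwoFusion.exists_conj_JJ h2 jS hj
  refine ⟨g * D (w⁻¹ * u, w⁻¹ * v), ?_⟩
  have h1 : D (w⁻¹ * u, w⁻¹ * v) * D (a, b) * (D (w⁻¹ * u, w⁻¹ * v) : Sp F)⁻¹ = D (jS, jS) := by
    rw [D_inv, D_mul, D_mul]
    have e1 : w⁻¹ * u * a * (w⁻¹ * u)⁻¹ = jS := by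
      have : w⁻¹ * u * a * (w⁻¹ * u)⁻¹ = w⁻¹ * (u * a * u⁻¹) * w := by group
      rw [this, hu, ← hw]; group
    have e2 : w⁻¹ * v * b * (w⁻¹ * v)⁻¹ = jS := by
      have : w⁻¹ * v * b * (w⁻¹ * v)⁻¹ = w⁻¹ * (v * b * v⁻¹) * w := by group
      rw [this, hv, ← hw]; group
    rw [e1, e2]
  rw [_root_.mul_inv_rev]
  calc g * D (w⁻¹ * u, w⁻¹ * v) * D (a, b) * ((D (w⁻¹ * u, w⁻¹ * v) : Sp F)⁻¹ * g⁻¹) =
      g * (D (w⁻¹ * u, w⁻¹ * v) * D (a, b) * (D (w⁻¹ * u, w⁻¹ * v) : Sp F)⁻¹) * g⁻¹ := by group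
    _ = D (1, n1) * W := by rw [h1, hg, mul_inv_cancel_right]

/-- conjugation of the swap -/
theorem conj_W (x y : SL(2, F)) : D (x, y) * W * (D (x, y) : Sp F)⁻¹ = D (x * y⁻¹, y * x⁻¹) * W := by
  rw [D_inv, mul_assoc, W_D, ← mul_assoc, D_mul]

theorem conj_D (x y a b : SL(2, F)) : D (x, y) * D (a, b) * (D (x, y) : Sp F)⁻¹ = D (x * a * x⁻¹, y * b * y⁻¹) := by
  rw [D_inv, D_mul, D_mul]

theorem W_inv : (W : Sp F)⁻¹ = W := inv_eq_of_mul_eq_one_right W_mul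

/-- `Q ≀ 2` -/
def SS (Q : Subgroup (SL(2, F))) : Subgroup (Sp F) where
  carrier := {g | ∃ a ∈ Q, ∃ b ∈ Q, g = D (a, b) ∨ g = D (a, b) * W}
  one_mem' := ⟨1, Q.one_mem, 1, Q.one_mem, Or.inl (map_one D).symm⟩
  mul_mem' := by
    rintro g h ⟨a, ha, b, hb, h1⟩ ⟨c, hc, d, hd, h2⟩
    rcases h1 with rfl | rfl <;> rcases h2 with rfl | rfl
    · exact ⟨a * c, Q.mul_mem ha hc, b * d, Q.mul_mem hb hd, Or.inl (D_mul _ _ _ _)⟩
    · exact ⟨a * c, Q.mul_mem ha hc, b * d, Q.mul_mem hb hd, Or.inr (by rw [← mul_assoc, D_mul])⟩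
    · refine ⟨a * d, Q.mul_mem ha hd, b * c, Q.mul_mem hb hc, Or.inr ?_⟩
      rw [mul_assoc, W_D, ← mul_assoc, D_mul]
    · refine ⟨a * d, Q.mul_mem ha hd, b * c, Q.mul_mem hb hc, Or.inl ?_⟩
      rw [mul_assoc, ← mul_assoc W, W_D_W, D_mul]
  inv_mem' := by
    rintro g ⟨a, ha, b, hb, h1⟩
    rcases h1 with rfl | rfl
    · exact ⟨a⁻¹, Q.inv_mem ha, b⁻¹, Q.inv_mem hb, Or.inl (D_inv _ _)⟩
    · refine ⟨b⁻¹, Q.inv_mem hb, a⁻¹, Q.inv_mem ha, Or.inr ?_⟩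
      rw [_root_.mul_inv_rev, W_inv, D_inv, W_D]

theorem D_mem_SS {Q : Subgroup (SL(2, F))} {a b : SL(2, F)} : D (a, b) ∈ SS Q ↔ a ∈ Q ∧ b ∈ Q := by
  constructor
  · rintro ⟨c, hc, d, hd, h | h⟩
    · obtain ⟨rfl, rfl⟩ := D_inj h
      exact ⟨hc, hd⟩
    · exact absurd h (D_ne_DW _ _ _ _)
  · rintro ⟨h1, h2⟩
    exact ⟨a, h1, b, h2, Or.inl rfl⟩

theorem DW_mem_SS {Q : Subgroup (SL(2, F))} {a b : SL(2, F)} : D (a, b) * W ∈ SS Q ↔ a ∈ Q ∧ b ∈ Q := by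
  constructor
  · rintro ⟨c, hc, d, hd, h | h⟩
    · exact absurd h.symm (D_ne_DW _ _ _ _)
    · obtain ⟨rfl, rfl⟩ := D_inj (mul_right_cancel h)
      exact ⟨hc, hd⟩
  · rintro ⟨h1, h2⟩
    exact ⟨a, h1, b, h2, Or.inr rfl⟩

theorem W_mem_SS {Q : Subgroup (SL(2, F))} : W ∈ SS Q :=
  ⟨1, Q.one_mem, 1, Q.one_mem, Or.inr (by rw [show (D (1, 1) : Sp F) = 1 from map_one D, one_mul])⟩

theorem card_SS (Q : Subgroup (SL(2, F))) [Finite Q] : Nat.card (SS Q) = 2 * (Nat.card Q * Nat.card Q) := by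
  classical
  have e : (Q × Q) ⊕ (Q × Q) ≃ SS Q := by
    refine Equiv.ofBijective (Sum.elim (fun x => ⟨D (x.1, x.2), D_mem_SS.2 ⟨x.1.2, x.2.2⟩⟩)
      (fun x => ⟨D (x.1, x.2) * W, DW_mem_SS.2 ⟨x.1.2, x.2.2⟩⟩)) ⟨?_, ?_⟩
    · rintro (x | x) (y | y) h
      · obtain ⟨h1, h2⟩ := D_inj (congrArg Subtype.val h)
        exact congrArg Sum.inl (Prod.ext (Subtype.ext h1) (Subtype.ext h2))
      · exact absurd (congrArg Subtype.val h) (D_ne_DW _ _ _ _)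
      · exact absurd (congrArg Subtype.val h).symm (D_ne_DW _ _ _ _)
      · obtain ⟨h1, h2⟩ := D_inj (mul_right_cancel (congrArg Subtype.val h))
        exact congrArg Sum.inr (Prod.ext (Subtype.ext h1) (Subtype.ext h2))
    · rintro ⟨g, a, ha, b, hb, h | h⟩
      · exact ⟨Sum.inl (⟨a, ha⟩, ⟨b, hb⟩), Subtype.ext h.symm⟩
      · exact ⟨Sum.inr (⟨a, ha⟩, ⟨b, hb⟩), Subtype.ext h.symm⟩
  rw [← Nat.card_congr e, Nat.card_sum, Nat.card_prod]
  ring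

/-- Structure of a Sylow 2-subgroup of `SL₂`. -/
structure QS (Q : Subgroup (SL(2, F))) (k : ℕ) (c : SL(2, F)) : Prop where
  hk : 1 ≤ k
  mem : c ∈ Q
  pow : mt (c ^ (2 ^ k)) = -1
  all : ∀ y ∈ Q, y ∈ Subgroup.zpowers c ∨ (mt y * mt y = -1 ∧ y * c * y⁻¹ = c⁻¹)
  ex : ∃ y ∈ Q, y ∉ Subgroup.zpowers c
  two : ∀ y ∈ Q, ∀ z ∈ Q, y ∉ Subgroup.zpowers c → z ∉ Subgroup.zpowers c → y⁻¹ * z ∈ Subgroup.zpowers c

theorem exists_QS [Fintype F] (hodd : Odd (Fintype.card F)) (h2 : (2 : F) ≠ 0) (Q : Sylow 2 (SL(2, F))) :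
    ∃ (k : ℕ) (c : SL(2, F)), QS (Q : Subgroup (SL(2, F))) k c ∧
      Nonempty ((Q : Subgroup (SL(2, F))) ≃* QuaternionGroup (2 ^ k)) := by
  obtain ⟨k, hk, ⟨e⟩⟩ := ClSL2Syl.sylow_two_SL2 hodd Q
  haveI : NeZero (2 ^ k) := ⟨by positivity⟩
  haveI : NeZero (2 * 2 ^ k) := ⟨by positivity⟩
  set c : (Q : Subgroup (SL(2, F))) := e.symm (QuaternionGroup.a 1) with hc
  have hpow : ∀ n : ℕ, c ^ n = e.symm (QuaternionGroup.a n) := by
    intro n
    rw [hc, ← map_pow, QuaternionGroup.a_one_pow]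
  have hmid : mt ((c ^ (2 ^ k) : (Q : Subgroup (SL(2, F)))) : SL(2, F)) = -1 := by
    refine ClSL2Syl.unique_involution h2 _ ?_ ?_
    · intro h
      have h1 : c ^ (2 ^ k) = 1 := Subtype.ext h
      rw [hpow, MulEquiv.map_eq_one_iff] at h1
      have h3 : ((2 ^ k : ℕ) : ZMod (2 * 2 ^ k)) = 0 := by
        have : (QuaternionGroup.a ((2 ^ k : ℕ) : ZMod (2 * 2 ^ k)) : QuaternionGroup (2 ^ k)) = QuaternionGroup.a 0 := h1
        exact QuaternionGroup.a.inj this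
      rw [ZMod.natCast_eq_zero_iff] at h3
      have h4 := Nat.le_of_dvd (by positivity) h3
      have : 0 < 2 ^ k := by positivity
      omega
    · have h1 : c ^ (2 ^ k) * c ^ (2 ^ k) = 1 := by
        rw [← pow_add, hpow, MulEquiv.map_eq_one_iff]
        have : ((2 ^ k + 2 ^ k : ℕ) : ZMod (2 * 2 ^ k)) = 0 := by
          rw [← two_mul]
          exact ZMod.natCast_self _
        rw [this]
        rfl
      exact congrArg Subtype.val h1
  have hmemz : ∀ y : (Q : Subgroup (SL(2, F))), (y : SL(2, F)) ∈ Subgroup.zpowers (c : SL(2, F)) ↔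
      ∃ i, e y = QuaternionGroup.a i := by
    intro y
    constructor
    · rintro ⟨n, hn⟩
      have h1 : c ^ n = y := Subtype.ext (by rw [← hn]; rfl)
      rw [← h1, map_zpow, hc, MulEquiv.apply_symm_apply]
      obtain ⟨m, rfl | rfl⟩ := n.eq_nat_or_neg
      · exact ⟨m, by rw [zpow_natCast, QuaternionGroup.a_one_pow]⟩
      · refine ⟨-(m : ZMod (2 * 2 ^ k)), ?_⟩
        rw [_root_.zpow_neg, zpow_natCast, QuaternionGroup.a_one_pow]
        rfl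
    · rintro ⟨i, hi⟩
      refine ⟨(i.val : ℤ), ?_⟩
      have h1 : c ^ i.val = y := by
        rw [hpow, ZMod.natCast_zmod_val, ← hi, MulEquiv.symm_apply_apply]
      show (c : SL(2, F)) ^ ((i.val : ℕ) : ℤ) = y
      rw [zpow_natCast]
      exact congrArg Subtype.val h1
  refine ⟨k, c, ⟨hk, c.2, hmid, ?_, ?_, ?_⟩, ⟨e⟩⟩
  · intro y hy
    rcases hey : e ⟨y, hy⟩ with i | i
    · left
      exact (hmemz ⟨y, hy⟩).2 ⟨i, hey⟩
    · right
      have hy' : (⟨y, hy⟩ : (Q : Subgroup (SL(2, F)))) = e.symm (QuaternionGroup.xa i) := by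
        rw [← hey, MulEquiv.symm_apply_apply]
      constructor
      · have h1 : (⟨y, hy⟩ : (Q : Subgroup (SL(2, F)))) * ⟨y, hy⟩ = c ^ (2 ^ k) := by
          rw [hy', hpow, ← map_mul, QuaternionGroup.xa_mul_xa]
          congr 2
          push_cast
          ring
        rw [← mt_mul, ← hmid, ← h1]
        rfl
      · have h1 : (⟨y, hy⟩ : (Q : Subgroup (SL(2, F)))) * c = c⁻¹ * ⟨y, hy⟩ := by
          rw [hy', hc, ← map_mul, ← map_inv, ← map_mul]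
          congr 1
          rw [QuaternionGroup.xa_mul_a]
          show _ = QuaternionGroup.a (-1) * QuaternionGroup.xa i
          rw [QuaternionGroup.a_mul_xa]
          congr 1
          ring
        have h3 := congrArg Subtype.val h1
        have h4 : y * (c : SL(2, F)) = (c : SL(2, F))⁻¹ * y := h3
        rw [h4, mul_inv_cancel_right]
  · refine ⟨e.symm (QuaternionGroup.xa 0), (e.symm (QuaternionGroup.xa 0)).2, ?_⟩
    rw [hmemz]
    rintro ⟨i, hi⟩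
    rw [MulEquiv.apply_symm_apply] at hi
    cases hi
  · intro y hy z hz hyc hzc
    have hy1 : ∃ i, e ⟨y, hy⟩ = QuaternionGroup.xa i := by
      rcases hey : e ⟨y, hy⟩ with i | i
      · exact absurd ((hmemz ⟨y, hy⟩).2 ⟨i, hey⟩) hyc
      · exact ⟨i, rfl⟩
    have hz1 : ∃ i, e ⟨z, hz⟩ = QuaternionGroup.xa i := by
      rcases hey : e ⟨z, hz⟩ with i | i
      · exact absurd ((hmemz ⟨z, hz⟩).2 ⟨i, hey⟩) hzc
      · exact ⟨i, rfl⟩
    obtain ⟨i, hi⟩ := hy1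
    obtain ⟨j, hj⟩ := hz1
    have := (hmemz (⟨y, hy⟩⁻¹ * ⟨z, hz⟩)).2 (by
      rw [map_mul, map_inv, hi, hj]
      rcases hh : (QuaternionGroup.xa i)⁻¹ * QuaternionGroup.xa j with l | l
      · exact ⟨l, rfl⟩
      · exfalso
        rw [inv_mul_eq_iff_eq_mul, QuaternionGroup.xa_mul_xa] at hh
        cases hh)
    exact this

end Cfsg.Agent.Lib.H88Sp4
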