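import Cfsg.Agent.Lib.H88Sp4b
import Cfsg.Agent.Lib.AutTwoGroup

/-! Strongly closed subgroups, the centre and the normalizer of `Q ≀ 2 / ±1` in `PSp(4,F)`. -/

set_option autoImplicit false
set_option maxHeartbeats 400000

namespace Cfsg.Agent.Lib.H88Sp4

open Matrix
open scoped MatrixGroups

variable {F : Type*} [Field F]

theorem polar (a b : M2 F) (ha : a 0 0 + a 1 1 = 0) (hb : b 0 0 + b 1 1 = 0) :
    a * b + b * a = (2 * a 0 0 * b 0 0 + a 0 1 * b 1 0 + a 1 0 * b 0 1) • (1 : M2 F) := by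
  have ha' : a 1 1 = - a 0 0 := by linear_combination ha
  have hb' : b 1 1 = - b 0 0 := by linear_combination hb
  ext i j
  fin_cases i <;> fin_cases j <;>
    simp [Matrix.mul_apply, Fin.sum_univ_two, ha', hb'] <;> ring

theorem ch2 (a : M2 F) : a * a = (a 0 0 + a 1 1) • a - a.det • (1 : M2 F) := by
  ext i j
  fin_cases i <;> fin_cases j <;>
    simp [Matrix.mul_apply, Fin.sum_univ_two, det_fin_two] <;> ring

theorem tr_zero {a : M2 F} (h1 : a.det = 1) (h : a * a = -1) : a 0 0 + a 1 1 = 0 := by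
  by_contra hne
  have h2 := ch2 a
  rw [h, h1, one_smul] at h2
  have h3 : (a 0 0 + a 1 1) • a = 0 := by
    have : (a 0 0 + a 1 1) • a - 1 + 1 = (-1 : M2 F) + 1 := by rw [← h2]
    rw [sub_add_cancel, neg_add_cancel] at this
    exact this
  have h4 : a = 0 := (smul_eq_zero.1 h3).resolve_left hne
  rw [h4, det_zero] at h1
  exact zero_ne_one h1

theorem cent (h2 : (2 : F) ≠ 0) {x u v : M2 F} (hu1 : u.det = 1) (hu : u * u = -1) (hv1 : v.det = 1)
    (hv : v * v = -1) (huv : u * v = -(v * u)) (hxu : x * u = u * x) (hxv : x * v = v * x) (hx : x.det = 1) :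
    x = 1 ∨ x = -1 := by
  have htu := tr_zero hu1 hu
  have htv := tr_zero hv1 hv
  set τ : F := 2⁻¹ * (x 0 0 + x 1 1) with hτ
  set z : M2 F := x - τ • 1 with hz
  have htz : z 0 0 + z 1 1 = 0 := by
    have h3 : z 0 0 = x 0 0 - τ := by simp [hz]
    have h4 : z 1 1 = x 1 1 - τ := by simp [hz]
    have h5 : 2 * τ = x 0 0 + x 1 1 := by rw [hτ, ← mul_assoc, mul_inv_cancel₀ h2, one_mul]
    rw [h3, h4]
    linear_combination -h5
  have hzu : z * u = u * z := by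
    rw [hz, sub_mul, mul_sub, hxu]; simp
  have hzv : z * v = v * z := by
    rw [hz, sub_mul, mul_sub, hxv]; simp
  obtain ⟨l, hl⟩ : ∃ l : F, z * u + u * z = l • (1 : M2 F) := ⟨_, polar z u htz htu⟩
  obtain ⟨m, hm⟩ : ∃ m : F, z * v + v * z = m • (1 : M2 F) := ⟨_, polar z v htz htv⟩
  rw [← hzu, ← two_smul F] at hl
  rw [← hzv, ← two_smul F] at hm
  have hl' : (2 : F) • z = -(l • u) := by
    have h3 := congrArg (fun w => w * u) hl
    simp only [smul_mul_assoc, one_mul] at h3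
    rw [mul_assoc, hu, mul_neg_one, smul_neg] at h3
    rw [← h3, neg_neg]
  have hm' : (2 : F) • z = -(m • v) := by
    have h3 := congrArg (fun w => w * v) hm
    simp only [smul_mul_assoc, one_mul] at h3
    rw [mul_assoc, hv, mul_neg_one, smul_neg] at h3
    rw [← h3, neg_neg]
  have hlm : l • u = m • v := neg_injective (hl'.symm.trans hm')
  have h3 : l • (u * v) = -(m • (1 : M2 F)) := by
    rw [← smul_mul_assoc, hlm, smul_mul_assoc, hv, smul_neg]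
  have h4 : l • (v * u) = -(m • (1 : M2 F)) := by
    rw [← mul_smul_comm, hlm, mul_smul_comm, hv, smul_neg]
  have hm0 : m = 0 := by
    rw [huv, smul_neg, h4, neg_neg] at h3
    have h5 := two_smul_eq_zero h2 h3
    rcases smul_eq_zero.1 h5 with h6 | h6
    · exact h6
    · exact absurd h6 one_ne_zero
  rw [hm0, zero_smul, neg_zero] at hm'
  have hz0 : z = 0 := (smul_eq_zero.1 hm').resolve_left h2
  have hxt : x = τ • 1 := sub_eq_zero.1 hz0
  rw [hxt, det_smul, det_one, mul_one, Fintype.card_fin] at hx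
  have h5 : (τ - 1) * (τ + 1) = 0 := by linear_combination hx
  rcases mul_eq_zero.1 h5 with h6 | h6
  · left
    rw [hxt, sub_eq_zero.1 h6, one_smul]
  · right
    rw [hxt, eq_neg_of_add_eq_zero_left h6, neg_smul, one_smul]

theorem inv_eq_n1_mul {b : SL(2, F)} (hb : mt b * mt b = -1) : b⁻¹ = n1 * b := by
  apply inv_eq_of_mul_eq_one_right
  apply mt_inj
  rw [mt_mul, n1_mul, mul_neg, hb, neg_neg, mt_one]

variable {Q : Subgroup (SL(2, F))} {k : ℕ} {c : SL(2, F)}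

/-- the element of order four in the cyclic part -/
theorem QS.four (h : QS Q k c) : mt (c ^ (2 ^ (k - 1))) * mt (c ^ (2 ^ (k - 1))) = -1 := by
  rw [← mt_mul, ← pow_add, ← two_mul, ← pow_succ', Nat.sub_add_cancel h.hk, h.pow]

theorem QS.sq (h : QS Q k c) {y : SL(2, F)} (hy : y ∈ Q) (hyc : y ∉ Subgroup.zpowers c) : mt y * mt y = -1 :=
  ((h.all y hy).resolve_left hyc).1

theorem QS.conj (h : QS Q k c) {y : SL(2, F)} (hy : y ∈ Q) (hyc : y ∉ Subgroup.zpowers c) (n : ℕ) :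
    y * c ^ n * y⁻¹ = (c ^ n)⁻¹ := by
  rw [← conj_pow, ((h.all y hy).resolve_left hyc).2, inv_pow]

theorem QS.anti (h : QS Q k c) {y : SL(2, F)} (hy : y ∈ Q) (hyc : y ∉ Subgroup.zpowers c) :
    mt (c ^ (2 ^ (k - 1))) * mt y = -(mt y * mt (c ^ (2 ^ (k - 1)))) := by
  have h1 := h.conj hy hyc (2 ^ (k - 1))
  rw [inv_eq_n1_mul h.four, mul_inv_eq_iff_eq_mul] at h1
  have h2 := congrArg mt h1
  rw [mt_mul, mt_mul, n1_mul, neg_mul] at h2
  rw [h2, neg_neg]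

theorem QS.center (h2 : (2 : F) ≠ 0) (h : QS Q k c) {x : SL(2, F)} (hx : ∀ y ∈ Q, x * y = y * x) : x = 1 ∨ x = n1 := by
  obtain ⟨y, hy, hyc⟩ := h.ex
  have hb : c ^ (2 ^ (k - 1)) ∈ Q := Q.pow_mem h.mem _
  rcases cent h2 (mt_det (c ^ (2 ^ (k - 1)))) h.four (mt_det y) (h.sq hy hyc) (h.anti hy hyc)
    (by rw [← mt_mul, ← mt_mul, hx _ hb]) (by rw [← mt_mul, ← mt_mul, hx _ hy]) (mt_det x) with h3 | h3
  · left; exact mt_inj (h3.trans mt_one.symm)
  · right; exact mt_inj h3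

theorem QS.c_ne (h2 : (2 : F) ≠ 0) (h : QS Q k c) : c ≠ 1 ∧ c ≠ n1 := by
  constructor
  · rintro rfl
    have := h.pow
    rw [one_pow] at this
    exact n1_ne h2 (mt_inj (a := n1) (b := 1) (by rw [n1_val, ← this]))
  · rintro rfl
    have := h.pow
    have h3 : (n1 : SL(2, F)) ^ (2 ^ k) = 1 := by
      rw [← Nat.sub_add_cancel h.hk, pow_succ', pow_mul, pow_two, n1_sq, one_pow]
    rw [h3] at this
    exact n1_ne h2 (mt_inj (a := n1) (b := 1) (by rw [n1_val, ← this]))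

theorem QS.n1_mem (h : QS Q k c) : n1 ∈ Q := by
  have h1 : c ^ (2 ^ k) = n1 := mt_inj h.pow
  rw [← h1]
  exact Q.pow_mem h.mem _

theorem N1_mem_SS (h : QS Q k c) : N1 ∈ SS Q := D_mem_SS.2 ⟨h.n1_mem, h.n1_mem⟩

theorem D_one_n1 : (D (1, n1) : Sp F) = N1 * D (n1, 1) := by
  rw [N1, D_mul, n1_sq, mul_one]

/-- A subgroup of `Q ≀ 2` closed under `Sp₄`-conjugation inside `Q ≀ 2` and containing the noncentral diagonal
involutions is everything. -/
theorem top_of [Fintype F] (h2 : (2 : F) ≠ 0) (h : QS Q k c) (T : Subgroup (Sp F))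
    (hcl : ∀ x ∈ T, ∀ g : Sp F, g * x * g⁻¹ ∈ SS Q → g * x * g⁻¹ ∈ T) (hN : N1 ∈ T) (ht : D (n1, 1) ∈ T) :
    SS Q ≤ T := by
  have ht' : (D (1, n1) : Sp F) ∈ T := by
    rw [D_one_n1]
    exact T.mul_mem hN ht
  have hW : (W : Sp F) ∈ T := by
    obtain ⟨g, hg⟩ := exists_conj_W h2
    have h1 : g * D (1, n1) * g⁻¹ = W := by rw [hg, mul_inv_cancel_right]
    have := hcl _ ht' g
    rw [h1] at this
    exact this W_mem_SS
  have hw' : (D (1, n1) * W : Sp F) ∈ T := T.mul_mem ht' hW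
  have hD : ∀ a ∈ Q, ∀ b ∈ Q, mt a * mt a = -1 → mt b * mt b = -1 → D (a, b) ∈ T := by
    intro a ha b hb ha2 hb2
    obtain ⟨g, hg⟩ := exists_conj_D h2 a b ha2 hb2
    have h1 : g⁻¹ * (D (1, n1) * W) * g⁻¹⁻¹ = D (a, b) := by rw [← hg]; group
    have := hcl _ hw' g⁻¹
    rw [h1] at this
    exact this (D_mem_SS.2 ⟨ha, hb⟩)
  obtain ⟨y, hy, hyc⟩ := h.ex
  have hyc2 : y * c ∉ Subgroup.zpowers c := by
    intro h1
    apply hyc
    have := Subgroup.mul_mem _ h1 (Subgroup.inv_mem _ (Subgroup.mem_zpowers c))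
    rwa [mul_inv_cancel_right] at this
  have hycQ : y * c ∈ Q := Q.mul_mem hy h.mem
  have h1c : D (1, c) ∈ T := by
    have h3 := T.mul_mem (T.inv_mem (hD y hy y hy (h.sq hy hyc) (h.sq hy hyc)))
      (hD y hy (y * c) hycQ (h.sq hy hyc) (h.sq hycQ hyc2))
    rw [D_inv, D_mul, inv_mul_cancel, inv_mul_cancel_left] at h3
    exact h3
  have h1b : D (1, c ^ (2 ^ (k - 1))) ∈ T := by
    have h3 := T.pow_mem h1c (2 ^ (k - 1))
    rw [← map_pow] at h3
    have e : ((1, c) : SL(2, F) × SL(2, F)) ^ (2 ^ (k - 1)) = (1, c ^ (2 ^ (k - 1))) := by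
      rw [Prod.pow_mk, one_pow]
    rwa [e] at h3
  have hswap : ∀ a b : SL(2, F), D (a, b) ∈ T → D (b, a) ∈ T := by
    intro a b hab
    rw [← W_D_W]
    exact T.mul_mem (T.mul_mem hW hab) hW
  have hone : ∀ a ∈ Q, D (a, 1) ∈ T := by
    intro a ha
    rcases h.all a ha with ⟨n, rfl⟩ | ⟨ha2, -⟩
    · have h3 := T.zpow_mem (hswap _ _ h1c) n
      rw [← map_zpow] at h3
      have e : ((c, 1) : SL(2, F) × SL(2, F)) ^ n = (c ^ n, 1) := by
        ext1
        · rfl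
        · exact _root_.one_zpow n
      rwa [e] at h3
    · have h3 := T.mul_mem (hD a ha _ (Q.pow_mem h.mem (2 ^ (k - 1))) ha2 h.four) (T.inv_mem h1b)
      rw [D_inv, D_mul, inv_one, mul_one, mul_inv_cancel] at h3
      exact h3
  have hall : ∀ a ∈ Q, ∀ b ∈ Q, D (a, b) ∈ T := by
    intro a ha b hb
    have h3 := T.mul_mem (hone a ha) (hswap _ _ (hone b hb))
    rw [D_mul, mul_one, one_mul] at h3
    exact h3
  rintro g ⟨a, ha, b, hb, rfl | rfl⟩
  · exact hall a ha b hb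
  · exact T.mul_mem (hall a ha b hb) hW

/-- elements of `Q ≀ 2` central modulo `±1` -/
theorem center_of (h2 : (2 : F) ≠ 0) (h : QS Q k c) {z : Sp F} (hz : z ∈ SS Q)
    (hc : ∀ s ∈ SS Q, z * s * z⁻¹ = s ∨ z * s * z⁻¹ = N1 * s) :
    z = 1 ∨ z = N1 ∨ z = D (n1, 1) ∨ z = D (1, n1) := by
  obtain ⟨a, ha, b, hb, rfl | rfl⟩ := hz
  · have h1 : ∀ y ∈ Q, a * y = y * a := by
      intro y hy
      rcases hc (D (y, 1)) (D_mem_SS.2 ⟨hy, Q.one_mem⟩) with h3 | h3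
      · rw [conj_D] at h3
        exact mul_inv_eq_iff_eq_mul.1 (D_inj h3).1
      · rw [conj_D, N1, D_mul, mul_one, mul_one, mul_inv_cancel] at h3
        exact absurd (D_inj h3).2.symm (n1_ne h2)
    have h1' : ∀ y ∈ Q, b * y = y * b := by
      intro y hy
      rcases hc (D (1, y)) (D_mem_SS.2 ⟨Q.one_mem, hy⟩) with h3 | h3
      · rw [conj_D] at h3
        exact mul_inv_eq_iff_eq_mul.1 (D_inj h3).2
      · rw [conj_D, N1, D_mul, mul_one, mul_one, mul_inv_cancel] at h3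
        exact absurd (D_inj h3).1.symm (n1_ne h2)
    rcases h.center h2 h1 with rfl | rfl <;> rcases h.center h2 h1' with rfl | rfl
    · left; exact map_one D
    · right; right; right; rfl
    · right; right; left; rfl
    · right; left; rfl
  · exfalso
    have e1 : D (a, b) * W * D (c, 1) * (D (a, b) * W : Sp F)⁻¹ = D (1, b * c * b⁻¹) := by
      rw [_root_.mul_inv_rev, W_inv, mul_assoc (D (a, b)), W_D, ← mul_assoc, ← mul_assoc, mul_assoc _ W W, W_mul,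
        mul_one, D_inv, D_mul, D_mul, mul_one, mul_inv_cancel]
    have h3 := hc (D (c, 1)) (D_mem_SS.2 ⟨h.mem, Q.one_mem⟩)
    rw [e1] at h3
    rcases h3 with h3 | h3
    · exact (h.c_ne h2).1 (D_inj h3).1.symm
    · rw [N1, D_mul] at h3
      have h4 := (D_inj h3).1
      apply (h.c_ne h2).2
      have h5 : n1 * (n1 * c) = n1 := by rw [← h4, mul_one]
      rwa [← mul_assoc, n1_sq, one_mul] at h5

/-- odd order elements normalizing `Q ≀ 2` modulo `±1` -/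
theorem norm_of (h2 : (2 : F) ≠ 0) (h : QS Q k c) {g : Sp F} {r : ℕ} (hr : Odd r) (hgr : g ^ r = 1)
    (hn : ∀ s ∈ SS Q, g * s * g⁻¹ ∈ SS Q)
    (ht : g * D (n1, 1) * g⁻¹ = D (n1, 1) ∨ g * D (n1, 1) * g⁻¹ = D (1, n1)) :
    ∃ g₁ g₂ : SL(2, F), g = D (g₁, g₂) ∧ (∀ y ∈ Q, g₁ * y * g₁⁻¹ ∈ Q) ∧ (∀ y ∈ Q, g₂ * y * g₂⁻¹ ∈ Q) ∧
      g₁ * g₂⁻¹ ∈ Q ∧ g₁ ^ r = 1 ∧ g₂ ^ r = 1 := by
  have hg2 : g ^ 2 * D (n1, 1) = D (n1, 1) * g ^ 2 := by
    rcases ht with ht | ht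
    · have h3 : g * D (n1, 1) = D (n1, 1) * g := mul_inv_eq_iff_eq_mul.1 ht
      rw [pow_two, mul_assoc, h3, ← mul_assoc, h3, mul_assoc]
    · have h3 : g * D (n1, 1) = D (1, n1) * g := mul_inv_eq_iff_eq_mul.1 ht
      rw [D_one_n1] at h3
      rw [pow_two, mul_assoc, h3, ← mul_assoc, ← mul_assoc, ← N1_comm, mul_assoc N1 g, h3, ← mul_assoc, ← mul_assoc, N1_sq,
        one_mul, mul_assoc]
  have hcomm : g * D (n1, 1) = D (n1, 1) * g := by
    obtain ⟨m, hm⟩ := hr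
    have h3 : g = (g ^ 2) ^ (m + 1) := by
      rw [← pow_mul, show 2 * (m + 1) = r + 1 by omega, pow_succ, hgr, one_mul]
    have h4 : Commute (g ^ 2) (D (n1, 1)) := hg2
    have h5 := h4.pow_left (m + 1)
    rw [← h3] at h5
    exact h5
  obtain ⟨g₁, g₂, rfl⟩ := comm_iff h2 g hcomm
  have hgr' : (D (g₁ ^ r, g₂ ^ r) : Sp F) = D (1, 1) := by
    rw [show ((g₁ ^ r, g₂ ^ r) : SL(2, F) × SL(2, F)) = (g₁, g₂) ^ r from rfl, map_pow, hgr]
    exact (map_one D).symm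
  refine ⟨g₁, g₂, rfl, ?_, ?_, ?_, (D_inj hgr').1, (D_inj hgr').2⟩
  · intro y hy
    have h3 := hn (D (y, 1)) (D_mem_SS.2 ⟨hy, Q.one_mem⟩)
    rw [conj_D] at h3
    exact (D_mem_SS.1 h3).1
  · intro y hy
    have h3 := hn (D (1, y)) (D_mem_SS.2 ⟨Q.one_mem, hy⟩)
    rw [conj_D] at h3
    exact (D_mem_SS.1 h3).2
  · have h3 := hn W W_mem_SS
    rw [conj_W] at h3
    exact (DW_mem_SS.1 h3).1

theorem eq_one_of_odd (h2 : (2 : F) ≠ 0) {x : SL(2, F)} {r : ℕ} (hr : Odd r) (hx : x ^ r = 1) (h : x = 1 ∨ x = n1) :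
    x = 1 := by
  rcases h with h | h
  · exact h
  · exfalso
    obtain ⟨m, rfl⟩ := hr
    rw [h, pow_succ, pow_mul, pow_two, n1_sq, one_pow, one_mul] at hx
    exact n1_ne h2 hx

theorem eq_one_of_two {G : Type*} [Group G] {x : G} {r n : ℕ} (hr : Odd r) (hx : x ^ r = 1) (hn : x ^ (2 ^ n) = 1) :
    x = 1 := by
  have h1 := orderOf_dvd_of_pow_eq_one hx
  have h2 := orderOf_dvd_of_pow_eq_one hn
  have h3 : Nat.Coprime r (2 ^ n) := (Nat.Coprime.pow_right n (Nat.coprime_two_right.2 hr))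
  have h4 := Nat.dvd_gcd h1 h2
  rw [h3] at h4
  exact orderOf_eq_one_iff.1 (Nat.dvd_one.1 h4)

/-- The case of a 2-group of automorphisms. -/
theorem norm_trivial [Finite Q] (h2 : (2 : F) ≠ 0) (h : QS Q k c) (hQ : IsPGroup 2 Q) (hA : IsPGroup 2 (MulAut Q))
    {g : Sp F} {r : ℕ} (hr : Odd r) (hgr : g ^ r = 1) (hn : ∀ s ∈ SS Q, g * s * g⁻¹ ∈ SS Q)
    (ht : g * D (n1, 1) * g⁻¹ = D (n1, 1) ∨ g * D (n1, 1) * g⁻¹ = D (1, n1)) : g = 1 := by
  obtain ⟨g₁, g₂, rfl, hg₁, hg₂, hg₁₂, hr₁, hr₂⟩ := norm_of h2 h hr hgr hn ht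
  have key : ∀ x : SL(2, F), (∀ y ∈ Q, x * y * x⁻¹ ∈ Q) → x ^ r = 1 → x = 1 := by
    intro x hx hxr
    have hxN : x ∈ Subgroup.normalizer (Q : Set (SL(2, F))) := by
      rw [Subgroup.mem_normalizer_iff]
      intro y
      refine ⟨fun hy => hx y hy, fun hy => ?_⟩
      have hinj : Function.Injective (fun z : Q => (⟨x * z * x⁻¹, hx z z.2⟩ : Q)) := by
        intro z w hzw
        have h3 := congrArg Subtype.val hzw
        exact Subtype.ext (by simpa using h3)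
      obtain ⟨z, hz⟩ := (Finite.injective_iff_surjective.1 hinj) ⟨_, hy⟩
      have h3 := congrArg Subtype.val hz
      have h4 : (z : SL(2, F)) = y := by simpa using h3
      rw [← h4]
      exact z.2
    set α : MulAut Q := Q.normalizerMonoidHom ⟨x, hxN⟩ with hα
    have hαr : α ^ r = 1 := by
      rw [hα, ← map_pow]
      have : (⟨x, hxN⟩ : Subgroup.normalizer (Q : Set (SL(2, F)))) ^ r = 1 := Subtype.ext hxr
      rw [this, map_one]
    obtain ⟨n, hn⟩ := hA α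
    have hα1 := eq_one_of_two hr hαr hn
    refine eq_one_of_odd h2 hr hxr (h.center h2 fun y hy => ?_)
    have h3 := congrArg (fun β : MulAut Q => ((β ⟨y, hy⟩ : Q) : SL(2, F))) hα1
    have h4 : x * y * x⁻¹ = y := h3
    exact mul_inv_eq_iff_eq_mul.1 h4
  rw [key g₁ hg₁ hr₁, key g₂ hg₂ hr₂]
  exact map_one D

end Cfsg.Agent.Lib.H88Sp4
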