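import Cfsg.Agent.Lib.H88Sp4c

/-! The case of a quaternion group of order 8: the extraspecial group `R` and its normalizer. -/

set_option autoImplicit false
set_option maxHeartbeats 400000

namespace Cfsg.Agent.Lib.H88Sp4

open Matrix
open scoped MatrixGroups

variable {F : Type*} [Field F]

/-- equal up to sign -/
def PM (a b : SL(2, F)) : Prop := a = b ∨ a = n1 * b

theorem PM.refl (a : SL(2, F)) : PM a a := Or.inl rfl

theorem PM.symm {a b : SL(2, F)} (h : PM a b) : PM b a := by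
  rcases h with rfl | rfl
  · exact Or.inl rfl
  · right
    rw [← mul_assoc, n1_sq, one_mul]

theorem PM.trans {a b c : SL(2, F)} (h : PM a b) (h' : PM b c) : PM a c := by
  rcases h with rfl | rfl
  · exact h'
  · rcases h' with rfl | rfl
    · exact Or.inr rfl
    · left
      rw [← mul_assoc, n1_sq, one_mul]

theorem PM.mul {a b c d : SL(2, F)} (h : PM a b) (h' : PM c d) : PM (a * c) (b * d) := by
  rcases h with rfl | rfl <;> rcases h' with rfl | rfl
  · exact Or.inl rfl
  · right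
    rw [← mul_assoc, ← n1_comm, mul_assoc]
  · right
    rw [mul_assoc]
  · left
    rw [mul_assoc, ← mul_assoc b, ← n1_comm b, mul_assoc n1 b, ← mul_assoc n1 n1, n1_sq, one_mul]

theorem PM.n1_left (a : SL(2, F)) : PM (n1 * a) a := Or.inr rfl

variable {Q : Subgroup (SL(2, F))} {c : SL(2, F)}

theorem c_sq (h : QS Q 1 c) : c * c = n1 := by
  have h1 := h.pow
  rw [pow_one, pow_two] at h1
  exact mt_inj h1

theorem n1_zpow (m : ℤ) : (n1 : SL(2, F)) ^ m = 1 ∨ (n1 : SL(2, F)) ^ m = n1 := by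
  rcases Int.even_or_odd' m with ⟨l, rfl | rfl⟩
  · left
    rw [_root_.zpow_mul, show (n1 : SL(2, F)) ^ (2 : ℤ) = 1 from by rw [zpow_ofNat, pow_two, n1_sq], _root_.one_zpow]
  · right
    rw [_root_.zpow_add_one, _root_.zpow_mul, show (n1 : SL(2, F)) ^ (2 : ℤ) = 1 from by rw [zpow_ofNat, pow_two, n1_sq],
      _root_.one_zpow, one_mul]

theorem pw (h2 : (2 : F) ≠ 0) (h : QS Q 1 c) {u : SL(2, F)} (hu : u ∈ Subgroup.zpowers c) (huu : u * u = n1) :
    u = c ∨ u = n1 * c := by
  obtain ⟨n, rfl⟩ := hu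
  have hc2 : c ^ (2 : ℤ) = n1 := by rw [zpow_ofNat, pow_two, c_sq h]
  have huu' : c ^ n * c ^ n = n1 := huu
  show c ^ n = c ∨ c ^ n = n1 * c
  rcases Int.even_or_odd' n with ⟨l, rfl | rfl⟩
  · exfalso
    rw [_root_.zpow_mul, hc2] at huu'
    rcases n1_zpow (F := F) l with h3 | h3
    · rw [h3, one_mul] at huu'
      exact n1_ne h2 huu'.symm
    · rw [h3, n1_sq] at huu'
      exact n1_ne h2 huu'.symm
  · rw [_root_.zpow_add_one, _root_.zpow_mul, hc2]
    rcases n1_zpow (F := F) l with h3 | h3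
    · left; rw [h3, one_mul]
    · right; rw [h3]

theorem sq_pm (h : QS Q 1 c) {a : SL(2, F)} (ha : a ∈ Q) : PM (a * a) 1 := by
  rcases h.all a ha with ⟨n, rfl⟩ | ⟨h1, -⟩
  · show PM (c ^ n * c ^ n) 1
    have e : c ^ n * c ^ n = (n1 : SL(2, F)) ^ n := by
      rw [← c_sq h, (Commute.refl c).mul_zpow]
    rw [e]
    rcases n1_zpow (F := F) n with h3 | h3
    · rw [h3]; exact PM.refl _
    · rw [h3]; right; rw [mul_one]
  · right
    apply mt_inj
    rw [mt_mul, h1, mul_one]
    rfl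

theorem inv_pm (h : QS Q 1 c) {a : SL(2, F)} (ha : a ∈ Q) : PM a⁻¹ a := by
  have h1 := (PM.refl (a⁻¹)).mul (sq_pm h ha)
  rw [inv_mul_cancel_left, mul_one] at h1
  exact h1.symm

theorem comm_pm (h : QS Q 1 c) {a b : SL(2, F)} (ha : a ∈ Q) (hb : b ∈ Q) : PM (a * b) (b * a) := by
  have h1 := inv_pm h (Q.mul_mem ha hb)
  rw [_root_.mul_inv_rev] at h1
  exact h1.symm.trans ((inv_pm h hb).mul (inv_pm h ha))

/-- The group `R`. -/
def RR (Q : Subgroup (SL(2, F))) (h : QS Q 1 c) : Subgroup (Sp F) where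
  carrier := {g | ∃ a ∈ Q, ∃ b, PM b a ∧ (g = D (a, b) ∨ g = D (a, b) * W)}
  one_mem' := ⟨1, Q.one_mem, 1, PM.refl _, Or.inl (map_one D).symm⟩
  mul_mem' := by
    rintro g g' ⟨a, ha, b, hb, h1⟩ ⟨a', ha', b', hb', h1'⟩
    have hb'Q : b' ∈ Q := by
      rcases hb' with rfl | rfl
      · exact ha'
      · exact Q.mul_mem h.n1_mem ha'
    rcases h1 with rfl | rfl <;> rcases h1' with rfl | rfl
    · exact ⟨a * a', Q.mul_mem ha ha', b * b', hb.mul hb', Or.inl (D_mul _ _ _ _)⟩
    · exact ⟨a * a', Q.mul_mem ha ha', b * b', hb.mul hb', Or.inr (by rw [← mul_assoc, D_mul])⟩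
    · refine ⟨a * b', Q.mul_mem ha hb'Q, b * a', hb.mul hb'.symm, Or.inr ?_⟩
      rw [mul_assoc, W_D, ← mul_assoc, D_mul]
    · refine ⟨a * b', Q.mul_mem ha hb'Q, b * a', hb.mul hb'.symm, Or.inl ?_⟩
      rw [mul_assoc, ← mul_assoc W, W_D_W, D_mul]
  inv_mem' := by
    rintro g ⟨a, ha, b, hb, h1⟩
    have hbQ : b ∈ Q := by
      rcases hb with rfl | rfl
      · exact ha
      · exact Q.mul_mem h.n1_mem ha
    have hbi : PM b⁻¹ a⁻¹ := (inv_pm h hbQ).trans (hb.trans (inv_pm h ha).symm)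
    rcases h1 with rfl | rfl
    · exact ⟨a⁻¹, Q.inv_mem ha, b⁻¹, hbi, Or.inl (D_inv _ _)⟩
    · refine ⟨b⁻¹, Q.inv_mem hbQ, a⁻¹, hbi.symm, Or.inr ?_⟩
      rw [_root_.mul_inv_rev, W_inv, D_inv, W_D]

variable (h : QS Q 1 c)

theorem RR_le : RR Q h ≤ SS Q := by
  rintro g ⟨a, ha, b, hb, h1⟩
  refine ⟨a, ha, b, ?_, h1⟩
  rcases hb with rfl | rfl
  · exact ha
  · exact Q.mul_mem h.n1_mem ha

theorem D_mem_RR {a b : SL(2, F)} (ha : a ∈ Q) (hb : PM b a) : D (a, b) ∈ RR Q h := ⟨a, ha, b, hb, Or.inl rfl⟩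

theorem DW_mem_RR {a b : SL(2, F)} (ha : a ∈ Q) (hb : PM b a) : D (a, b) * W ∈ RR Q h := ⟨a, ha, b, hb, Or.inr rfl⟩

theorem W_mem_RR : W ∈ RR Q h := by
  have := DW_mem_RR h Q.one_mem (PM.refl 1)
  rwa [show (D (1, 1) : Sp F) = 1 from map_one D, one_mul] at this

theorem N1_mem_RR : N1 ∈ RR Q h := D_mem_RR h h.n1_mem (PM.refl _)

/-- `Q ≀ 2` normalizes `R` -/
theorem norm_RR {s g : Sp F} (hs : s ∈ SS Q) (hg : g ∈ RR Q h) : s * g * s⁻¹ ∈ RR Q h := by
  have key : ∀ x ∈ Q, ∀ y ∈ Q, ∀ g ∈ RR Q h, D (x, y) * g * (D (x, y) : Sp F)⁻¹ ∈ RR Q h := by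
    rintro x hx y hy g ⟨a, ha, b, hb, rfl | rfl⟩
    · rw [conj_D]
      refine D_mem_RR h (Q.mul_mem (Q.mul_mem hx ha) (Q.inv_mem hx)) ?_
      have hbQ : b ∈ Q := by
        rcases hb with rfl | rfl
        · exact ha
        · exact Q.mul_mem h.n1_mem ha
      have e1 : PM (y * b * y⁻¹) b := by
        have := (comm_pm h hy hbQ).mul (PM.refl y⁻¹)
        rwa [mul_inv_cancel_right] at this
      have e2 : PM (x * a * x⁻¹) a := by
        have := (comm_pm h hx ha).mul (PM.refl x⁻¹)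
        rwa [mul_inv_cancel_right] at this
      exact e1.trans (hb.trans e2.symm)
    · have e : D (x, y) * (D (a, b) * W) * (D (x, y) : Sp F)⁻¹ = D (x * a * y⁻¹, y * b * x⁻¹) * W := by
        rw [D_inv, ← mul_assoc, D_mul, mul_assoc, W_D, ← mul_assoc, D_mul]
      rw [e]
      refine DW_mem_RR h (Q.mul_mem (Q.mul_mem hx ha) (Q.inv_mem hy)) ?_
      have e1 : PM (y * b * x⁻¹) (y * a * x) := ((PM.refl y).mul hb).mul (inv_pm h hx)
      have e2 : PM (x * a * y⁻¹) (x * a * y) := (PM.refl (x * a)).mul (inv_pm h hy)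
      have e3 : PM (y * a * x) (x * a * y) := by
        have f1 : PM (y * a * x) (x * (y * a)) := comm_pm h (Q.mul_mem hy ha) hx
        have f2 : PM (x * (y * a)) (x * (a * y)) := (PM.refl x).mul (comm_pm h hy ha)
        rw [← mul_assoc x a y] at f2
        exact f1.trans f2
      exact e1.trans (e3.trans e2.symm)
  obtain ⟨x, hx, y, hy, rfl | rfl⟩ := hs
  · exact key x hx y hy g hg
  · have e : D (x, y) * W * g * (D (x, y) * W : Sp F)⁻¹ = D (x, y) * (W * g * W⁻¹) * (D (x, y) : Sp F)⁻¹ := by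
      rw [_root_.mul_inv_rev]; group
    rw [e]
    exact key x hx y hy _ ((RR Q h).mul_mem ((RR Q h).mul_mem (W_mem_RR h) hg) ((RR Q h).inv_mem (W_mem_RR h)))

/-- equal up to sign in `Sp₄` -/
def PS (u v : Sp F) : Prop := u = v ∨ u = N1 * v

theorem PS.refl (a : Sp F) : PS a a := Or.inl rfl

theorem PS.symm {a b : Sp F} (h : PS a b) : PS b a := by
  rcases h with rfl | rfl
  · exact Or.inl rfl
  · right
    rw [← mul_assoc, N1_sq, one_mul]

theorem PS.trans {a b c : Sp F} (h : PS a b) (h' : PS b c) : PS a c := by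
  rcases h with rfl | rfl
  · exact h'
  · rcases h' with rfl | rfl
    · exact Or.inr rfl
    · left
      rw [← mul_assoc, N1_sq, one_mul]

theorem PS.mul {a b c d : Sp F} (h : PS a b) (h' : PS c d) : PS (a * c) (b * d) := by
  rcases h with rfl | rfl <;> rcases h' with rfl | rfl
  · exact Or.inl rfl
  · right
    rw [← mul_assoc, ← N1_comm, mul_assoc]
  · right
    rw [mul_assoc]
  · left
    rw [mul_assoc, ← mul_assoc b, ← N1_comm b, mul_assoc N1 b, ← mul_assoc N1 N1, N1_sq, one_mul]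

/-- `R` is abelian modulo `±1` -/
theorem comm_RR {g g' : Sp F} (hg : g ∈ RR Q h) (hg' : g' ∈ RR Q h) : PS (g * g') (g' * g) := by
  have hD : ∀ a ∈ Q, ∀ b, PM b a → ∀ a' ∈ Q, ∀ b', PM b' a' →
      PS ((D (a, b) : Sp F) * D (a', b')) (D (a', b') * D (a, b)) := by
    intro a ha b hb a' ha' b' hb'
    have e : ∀ ε : SL(2, F), (ε = 1 ∨ ε = n1) → a * a' = ε * (a' * a) → b * b' = ε * (b' * b) := by
      intro ε hε hh
      rcases hb with hb | hb <;> rcases hb' with hb' | hb' <;> rw [hb, hb']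
      · exact hh
      · rw [← mul_assoc, ← n1_comm, mul_assoc, hh, mul_assoc n1 a', ← mul_assoc n1 ε, ← mul_assoc ε n1, ← n1_comm ε]
      · rw [mul_assoc, hh, ← mul_assoc a' n1, ← n1_comm a', mul_assoc n1 a', ← mul_assoc n1 ε, ← mul_assoc ε n1,
          ← n1_comm ε]
      · have e1 : ∀ u v : SL(2, F), n1 * u * (n1 * v) = u * v := by
          intro u v
          rw [n1_comm u, mul_assoc, ← mul_assoc n1 n1, n1_sq, one_mul]
        rw [e1, e1, hh]
    rcases comm_pm h ha ha' with h1 | h1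
    · left
      rw [D_mul, D_mul, h1]
      have := e 1 (Or.inl rfl) (by rw [one_mul]; exact h1)
      rw [this, one_mul]
    · right
      rw [D_mul, D_mul, N1, D_mul, h1, e n1 (Or.inr rfl) h1]
  have hW : ∀ a ∈ Q, ∀ b, PM b a → PS ((W : Sp F) * D (a, b)) (D (a, b) * W) := by
    intro a ha b hb
    rw [W_D]
    rcases hb with rfl | rfl
    · exact Or.inl rfl
    · right
      rw [N1, ← mul_assoc, D_mul, ← mul_assoc, n1_sq, one_mul]
  obtain ⟨a, ha, b, hb, h1⟩ := hg
  obtain ⟨a', ha', b', hb', h1'⟩ := hg'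
  have hd := hD a ha b hb a' ha' b' hb'
  have hw := hW a ha b hb
  have hw' := hW a' ha' b' hb'
  rcases h1 with rfl | rfl <;> rcases h1' with rfl | rfl
  · exact hd
  · rw [← mul_assoc, mul_assoc (D (a', b')) W]
    have e1 := hd.mul (PS.refl W)
    have e2 := (PS.refl (D (a', b'))).mul hw.symm
    rw [← mul_assoc] at e2
    exact e1.trans e2
  · rw [mul_assoc, ← mul_assoc (D (a', b'))]
    have e1 := (PS.refl (D (a, b))).mul hw'
    have e2 := hd.mul (PS.refl W)
    rw [mul_assoc] at e2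
    exact e1.trans e2
  · have e1 : PS (D (a, b) * W * (D (a', b') * W)) (D (a, b) * D (a', b')) := by
      have f1 := ((PS.refl (D (a, b))).mul hw').mul (PS.refl (W : Sp F))
      have f2 : D (a, b) * (D (a', b') * W) * W = D (a, b) * D (a', b') := by
        rw [mul_assoc, mul_assoc, W_mul, mul_one]
      have f3 : D (a, b) * (W * D (a', b')) * W = D (a, b) * W * (D (a', b') * W) := by simp only [mul_assoc]
      rwa [f2, f3] at f1
    have e2 : PS (D (a', b') * W * (D (a, b) * W)) (D (a', b') * D (a, b)) := by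
      have f1 := ((PS.refl (D (a', b'))).mul hw).mul (PS.refl (W : Sp F))
      have f2 : D (a', b') * (D (a, b) * W) * W = D (a', b') * D (a, b) := by
        rw [mul_assoc, mul_assoc, W_mul, mul_one]
      have f3 : D (a', b') * (W * D (a, b)) * W = D (a', b') * W * (D (a, b) * W) := by simp only [mul_assoc]
      rwa [f2, f3] at f1
    exact e1.trans (hd.trans e2.symm)

theorem c_not_comm (h : QS Q 1 c) (h2 : (2 : F) ≠ 0) {y : SL(2, F)} (hy : y ∈ Q) (hyc : y ∉ Subgroup.zpowers c) :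
    y * c = n1 * (c * y) ∧ c * y = n1 * (y * c) := by
  have h1 := h.conj hy hyc 1
  rw [pow_one] at h1
  have h4 : mt c * mt c = -1 := by
    rw [← mt_mul, c_sq h, n1_val]
  rw [inv_eq_n1_mul h4, mul_inv_eq_iff_eq_mul, mul_assoc] at h1
  refine ⟨h1, ?_⟩
  rw [h1, ← mul_assoc, n1_sq, one_mul]

theorem ne_n1_mul (h2 : (2 : F) ≠ 0) (x : SL(2, F)) : x ≠ n1 * x := by
  intro h1
  have : (1 : SL(2, F)) * x = n1 * x := by rw [one_mul]; exact h1
  exact n1_ne h2 (mul_right_cancel this).symm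

/-- `R` is self-centralizing modulo `±1`. -/
theorem cent_RR (h2 : (2 : F) ≠ 0) {g : Sp F} (hg : ∀ r ∈ RR Q h, PS (g * r) (r * g)) : g ∈ RR Q h := by
  -- reduce to the case where `g` commutes with `D (n1, 1)`
  have key : ∀ g : Sp F, (∀ r ∈ RR Q h, PS (g * r) (r * g)) → g * D (n1, 1) = D (n1, 1) * g → g ∈ RR Q h := by
    intro g hg hcomm
    obtain ⟨a, b, rfl⟩ := comm_iff h2 g hcomm
    -- the swap
    have hab : PM b a := by
      have h1 := hg W (W_mem_RR h)
      rw [W_D] at h1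
      rcases h1 with h1 | h1
      · exact Or.inl (D_inj (mul_right_cancel h1)).2
      · right
        rw [← mul_assoc] at h1
        have h3 := mul_right_cancel h1
        rw [N1, D_mul] at h3
        exact (D_inj h3).2
    obtain ⟨y, hy, hyc⟩ := h.ex
    have hpm : ∀ u ∈ Q, PM (a * u) (u * a) := by
      intro u hu
      have h1 := hg (D (u, u)) (D_mem_RR h hu (PM.refl u))
      rw [D_mul, D_mul] at h1
      rcases h1 with h1 | h1
      · exact Or.inl (D_inj h1).1
      · rw [N1, D_mul] at h1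
        exact Or.inr (D_inj h1).1
    -- multiply by an element of `Q`
    obtain ⟨q, hq, hqc, hqy⟩ : ∃ q ∈ Q, q * a * c = c * (q * a) ∧ q * a * y = y * (q * a) := by
      obtain ⟨e1, e2⟩ := c_not_comm h h2 hy hyc
      have f : ∀ u v w : SL(2, F), u * (n1 * (v * w)) = n1 * (u * v * w) := by
        intro u v w
        rw [← mul_assoc u, ← n1_comm u, mul_assoc, mul_assoc]
      rcases hpm c h.mem with h1 | h1 <;> rcases hpm y hy with h3 | h3
      · exact ⟨1, Q.one_mem, by rw [one_mul]; exact h1, by rw [one_mul]; exact h3⟩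
      · refine ⟨c, h.mem, by rw [mul_assoc, h1], ?_⟩
        rw [mul_assoc, h3, f, e2, ← mul_assoc n1, ← mul_assoc n1, n1_sq, one_mul, mul_assoc]
      · refine ⟨y, hy, ?_, by rw [mul_assoc, h3]⟩
        rw [mul_assoc, h1, f, e1, ← mul_assoc n1, ← mul_assoc n1, n1_sq, one_mul, mul_assoc]
      · refine ⟨c * y, Q.mul_mem h.mem hy, ?_, ?_⟩
        · calc c * y * a * c = c * (y * (a * c)) := by simp only [mul_assoc]
            _ = c * (y * (n1 * (c * a))) := by rw [h1]
            _ = c * (n1 * (y * c * a)) := by rw [f]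
            _ = c * (n1 * (n1 * (c * y) * a)) := by rw [e1]
            _ = c * (c * y * a) := by rw [← mul_assoc n1, ← mul_assoc n1 n1, n1_sq, one_mul]
        · calc c * y * a * y = c * (y * (a * y)) := by simp only [mul_assoc]
            _ = c * (y * (n1 * (y * a))) := by rw [h3]
            _ = c * (n1 * (y * y * a)) := by rw [f]
            _ = n1 * (c * y) * y * a := by
              rw [← mul_assoc c n1, ← n1_comm c]; simp only [mul_assoc]
            _ = y * (c * y * a) := by rw [← e1]; simp only [mul_assoc]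
    have hz : q * a = 1 ∨ q * a = n1 := by
      have h4 : mt c * mt c = -1 := by rw [← mt_mul, c_sq h, n1_val]
      rcases cent h2 (mt_det c) h4 (mt_det y) (h.sq hy hyc)
        (by
          have := congrArg mt (c_not_comm h h2 hy hyc).2
          rw [mt_mul, n1_mul, mt_mul] at this
          exact this)
        (by rw [← mt_mul, ← mt_mul, hqc]) (by rw [← mt_mul, ← mt_mul, hqy]) (mt_det (q * a)) with h5 | h5
      · left; exact mt_inj (h5.trans mt_one.symm)
      · right; exact mt_inj h5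
    have haQ : a ∈ Q := by
      have : q * a ∈ Q := by
        rcases hz with h5 | h5
        · rw [h5]; exact Q.one_mem
        · rw [h5]; exact h.n1_mem
      have h6 := Q.mul_mem (Q.inv_mem hq) this
      rwa [inv_mul_cancel_left] at h6
    exact D_mem_RR h haQ hab
  have ht : D (n1, 1) ∈ RR Q h := D_mem_RR h h.n1_mem (by right; rw [n1_sq])
  rcases hg _ ht with h1 | h1
  · exact key g hg h1
  · -- use `g W`
    have hgW : ∀ r ∈ RR Q h, PS (g * W * r) (r * (g * W)) := by
      intro r hr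
      have e1 := (PS.refl g).mul (comm_RR h (W_mem_RR h) hr)
      have e2 := (hg r hr).mul (PS.refl (W : Sp F))
      rw [← mul_assoc, ← mul_assoc] at e1
      rw [← mul_assoc]
      exact e1.trans e2
    have hc : g * W * D (n1, 1) = D (n1, 1) * (g * W) := by
      rw [mul_assoc, W_D, D_one_n1, ← mul_assoc, ← mul_assoc, ← N1_comm, mul_assoc N1 g, h1, ← mul_assoc, N1_sq, one_mul,
        mul_assoc]
    have h3 := key _ hgW hc
    have h4 := (RR Q h).mul_mem h3 (W_mem_RR h)
    rwa [mul_assoc, W_mul, mul_one] at h4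

end Cfsg.Agent.Lib.H88Sp4
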