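import Cfsg.Agent.Lib.H88Sp4d

/-! Half elements normalizing `R`, and the odd order normalizer of a quaternion group of order 8. -/

set_option autoImplicit false
set_option maxHeartbeats 400000

namespace Cfsg.Agent.Lib.H88Sp4

open Matrix
open scoped MatrixGroups

variable {F : Type*} [Field F]

theorem one_add_J (X : Sp F) (hX : (X : M4 F) * (X : M4 F) = -1) :
    (1 + (X : M4 F)) * J (Fin 2) F * (1 + (X : M4 F))ᵀ = (2 : F) • J (Fin 2) F := by
  have h1 : (X : M4 F) * J (Fin 2) F * (X : M4 F)ᵀ = J (Fin 2) F := SymplecticGroup.mem_iff.1 X.2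
  have h2 : J (Fin 2) F * (X : M4 F)ᵀ = -((X : M4 F) * J (Fin 2) F) := by
    have h3 : (X : M4 F) * ((X : M4 F) * J (Fin 2) F * (X : M4 F)ᵀ) = (X : M4 F) * J (Fin 2) F := by rw [h1]
    rw [mul_assoc, ← mul_assoc (X : M4 F) (X : M4 F), hX, neg_mul, one_mul] at h3
    rw [← h3, neg_neg]
  rw [transpose_add, transpose_one, add_mul, one_mul, add_mul, mul_add, mul_add, mul_one, mul_one, h2, h1, two_smul]
  abel

/-- `((1 + X)(1 + Z)) / 2` -/
def GG (h2 : (2 : F) ≠ 0) (X Z : Sp F) (hX : (X : M4 F) * (X : M4 F) = -1) (hZ : (Z : M4 F) * (Z : M4 F) = -1) : Sp F :=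
  ⟨(2⁻¹ : F) • ((1 + (X : M4 F)) * (1 + (Z : M4 F))), by
    rw [SymplecticGroup.mem_iff, transpose_smul, transpose_mul, smul_mul_assoc, smul_mul_assoc, mul_smul_comm,
      show (1 + (X : M4 F)) * (1 + (Z : M4 F)) * J (Fin 2) F * ((1 + (Z : M4 F))ᵀ * (1 + (X : M4 F))ᵀ) =
        (1 + (X : M4 F)) * ((1 + (Z : M4 F)) * J (Fin 2) F * (1 + (Z : M4 F))ᵀ) * (1 + (X : M4 F))ᵀ from by
        simp only [mul_assoc], one_add_J Z hZ, mul_smul_comm, smul_mul_assoc, one_add_J X hX, smul_smul, smul_smul,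
      smul_smul]
    have : (2⁻¹ : F) * 2⁻¹ * 2 * 2 = 1 := by
      rw [mul_assoc (2⁻¹ : F) 2⁻¹ 2, inv_mul_cancel₀ h2, mul_one, inv_mul_cancel₀ h2]
    rw [this, one_smul]⟩

variable {Q : Subgroup (SL(2, F))} {c : SL(2, F)}

theorem half_mul (X r : Sp F) (hX : (X : M4 F) * (X : M4 F) = -1) (hr : PS (r * X) (X * r)) :
    ∃ r' : Sp F, (r' = r ∨ r' = N1 * (r * X)) ∧
      (1 + (X : M4 F)) * (r : M4 F) = (r' : M4 F) * (1 + (X : M4 F)) := by
  rcases hr with hr | hr
  · refine ⟨r, Or.inl rfl, ?_⟩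
    have h1 : (r : M4 F) * (X : M4 F) = (X : M4 F) * (r : M4 F) := by
      rw [← sp_mul_val, ← sp_mul_val, hr]
    rw [add_mul, mul_add, one_mul, mul_one, h1]
  · refine ⟨N1 * (r * X), Or.inr rfl, ?_⟩
    have h1 : (r : M4 F) * (X : M4 F) = -((X : M4 F) * (r : M4 F)) := by
      rw [← sp_mul_val, hr, N1_mul_val, sp_mul_val]
    rw [N1_mul_val, sp_mul_val, neg_mul, mul_add, mul_one, mul_assoc, hX, add_mul, one_mul, mul_neg_one, h1]
    abel

theorem GG_norm (h2 : (2 : F) ≠ 0) (h : QS Q 1 c) {X Z : Sp F} (hX : (X : M4 F) * (X : M4 F) = -1)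
    (hZ : (Z : M4 F) * (Z : M4 F) = -1) (hXR : X ∈ RR Q h) (hZR : Z ∈ RR Q h) (r : Sp F) (hr : r ∈ RR Q h) :
    GG h2 X Z hX hZ * r * (GG h2 X Z hX hZ)⁻¹ ∈ RR Q h := by
  obtain ⟨r₁, h1, h1'⟩ := half_mul Z r hZ (comm_RR h hr hZR)
  have hr₁ : r₁ ∈ RR Q h := by
    rcases h1 with rfl | rfl
    · exact hr
    · exact (RR Q h).mul_mem (N1_mem_RR h) ((RR Q h).mul_mem hr hZR)
  obtain ⟨r₂, h3, h3'⟩ := half_mul X r₁ hX (comm_RR h hr₁ hXR)
  have hr₂ : r₂ ∈ RR Q h := by
    rcases h3 with rfl | rfl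
    · exact hr₁
    · exact (RR Q h).mul_mem (N1_mem_RR h) ((RR Q h).mul_mem hr₁ hXR)
  have h4 : GG h2 X Z hX hZ * r = r₂ * GG h2 X Z hX hZ := by
    apply Subtype.ext
    rw [sp_mul_val, sp_mul_val]
    show ((2⁻¹ : F) • ((1 + (X : M4 F)) * (1 + (Z : M4 F)))) * (r : M4 F) =
      (r₂ : M4 F) * ((2⁻¹ : F) • ((1 + (X : M4 F)) * (1 + (Z : M4 F))))
    rw [smul_mul_assoc, mul_smul_comm, mul_assoc, h1', ← mul_assoc, h3', mul_assoc]
  rw [h4, mul_inv_cancel_right]
  exact hr₂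

theorem GG_four (h2 : (2 : F) ≠ 0) {X Z : Sp F} (hX : (X : M4 F) * (X : M4 F) = -1)
    (hZ : (Z : M4 F) * (Z : M4 F) = -1) (hc : X * Z = Z * X) : (GG h2 X Z hX hZ) ^ 4 = 1 := by
  have hc' : (X : M4 F) * (Z : M4 F) = (Z : M4 F) * (X : M4 F) := by
    rw [← sp_mul_val, ← sp_mul_val, hc]
  have h1 : GG h2 X Z hX hZ * GG h2 X Z hX hZ = X * Z := by
    apply Subtype.ext
    rw [sp_mul_val, sp_mul_val]
    show ((2⁻¹ : F) • ((1 + (X : M4 F)) * (1 + (Z : M4 F)))) * ((2⁻¹ : F) • ((1 + (X : M4 F)) * (1 + (Z : M4 F)))) = _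
    rw [smul_mul_assoc, mul_smul_comm, smul_smul]
    have e1 : (1 + (X : M4 F)) * (1 + (Z : M4 F)) * ((1 + (X : M4 F)) * (1 + (Z : M4 F))) =
        ((1 + (X : M4 F)) * (1 + (X : M4 F))) * ((1 + (Z : M4 F)) * (1 + (Z : M4 F))) := by
      have e2 : (1 + (Z : M4 F)) * (1 + (X : M4 F)) = (1 + (X : M4 F)) * (1 + (Z : M4 F)) := by
        simp only [add_mul, mul_add, hc', one_mul, mul_one]
        abel
      calc _ = (1 + (X : M4 F)) * ((1 + (Z : M4 F)) * (1 + (X : M4 F))) * (1 + (Z : M4 F)) := by simp only [mul_assoc]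
        _ = _ := by rw [e2]; simp only [mul_assoc]
    have e3 : ∀ Y : M4 F, Y * Y = -1 → (1 + Y) * (1 + Y) = (2 : F) • Y := by
      intro Y hY
      simp only [add_mul, mul_add, one_mul, mul_one, hY, two_smul]
      abel
    rw [e1, e3 _ hX, e3 _ hZ, smul_mul_assoc, mul_smul_comm, smul_smul, smul_smul]
    have : (2⁻¹ : F) * 2⁻¹ * (2 * 2) = 1 := by
      rw [← mul_assoc, mul_assoc (2⁻¹ : F) 2⁻¹ 2, inv_mul_cancel₀ h2, mul_one, inv_mul_cancel₀ h2]
    rw [show (2⁻¹ : F) * 2⁻¹ * 2 * 2 = 1 from by rw [← this]; ring, one_smul]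
  have h3 : X * Z * (X * Z) = 1 := by
    apply Subtype.ext
    rw [sp_mul_val, sp_mul_val, sp_one_val, mul_assoc, ← mul_assoc (Z : M4 F), ← hc', mul_assoc, ← mul_assoc (X : M4 F),
      hX, hZ]
    simp
  calc (GG h2 X Z hX hZ) ^ 4 = (GG h2 X Z hX hZ * GG h2 X Z hX hZ) * (GG h2 X Z hX hZ * GG h2 X Z hX hZ) := by
        rw [show (4 : ℕ) = 2 + 2 from rfl, pow_add, pow_two]
    _ = 1 := by rw [h1, h3]

/-- `GG X Z * GG (-Z) X' = (1+X)(1+X')/2` -/
theorem GG_prod (h2 : (2 : F) ≠ 0) {X Z X' : Sp F} (hX : (X : M4 F) * (X : M4 F) = -1)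
    (hZ : (Z : M4 F) * (Z : M4 F) = -1) (hZ' : ((N1 * Z : Sp F) : M4 F) * ((N1 * Z : Sp F) : M4 F) = -1)
    (hX' : (X' : M4 F) * (X' : M4 F) = -1) :
    ((GG h2 X Z hX hZ * GG h2 (N1 * Z) X' hZ' hX' : Sp F) : M4 F) =
      (2⁻¹ : F) • ((1 + (X : M4 F)) * (1 + (X' : M4 F))) := by
  rw [sp_mul_val]
  show ((2⁻¹ : F) • ((1 + (X : M4 F)) * (1 + (Z : M4 F)))) *
    ((2⁻¹ : F) • ((1 + ((N1 * Z : Sp F) : M4 F)) * (1 + (X' : M4 F)))) = _
  rw [smul_mul_assoc, mul_smul_comm, smul_smul, N1_mul_val]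
  have e1 : (1 + (Z : M4 F)) * (1 + -(Z : M4 F)) = (2 : F) • (1 : M4 F) := by
    rw [add_mul, mul_add, mul_add, mul_neg, mul_neg, hZ, two_smul]
    simp only [one_mul, mul_one, neg_neg]
    abel
  have e2 : (1 + (X : M4 F)) * (1 + (Z : M4 F)) * ((1 + -(Z : M4 F)) * (1 + (X' : M4 F))) =
      (2 : F) • ((1 + (X : M4 F)) * (1 + (X' : M4 F))) := by
    calc _ = (1 + (X : M4 F)) * ((1 + (Z : M4 F)) * (1 + -(Z : M4 F))) * (1 + (X' : M4 F)) := by simp only [mul_assoc]
      _ = _ := by rw [e1, mul_smul_comm, mul_one, smul_mul_assoc]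
  rw [e2, smul_smul, mul_assoc, inv_mul_cancel₀ h2, mul_one]

theorem det_one_add {a : M2 F} (h1 : a.det = 1) (ha : a * a = -1) : (1 + a).det = 2 := by
  have h3 := tr_zero h1 ha
  rw [det_fin_two] at h1 ⊢
  simp only [Matrix.add_apply, Matrix.one_apply_eq]
  rw [Matrix.one_apply_ne (show (0 : Fin 2) ≠ 1 by decide), Matrix.one_apply_ne (show (1 : Fin 2) ≠ 0 by decide)]
  linear_combination h1 + h3

theorem exists_sig (h2 : (2 : F) ≠ 0) {c j : SL(2, F)} (hc : mt c * mt c = -1) (hj : mt j * mt j = -1) :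
    ∃ s : SL(2, F), mt s = (2⁻¹ : F) • ((1 + mt c) * (1 + mt j)) := by
  refine ⟨mk' ((2⁻¹ : F) • ((1 + mt c) * (1 + mt j))) ?_, rfl⟩
  rw [det_smul, det_mul, det_one_add (mt_det c) hc, det_one_add (mt_det j) hj, Fintype.card_fin]
  field_simp

theorem D_sq {a : SL(2, F)} (ha : mt a * mt a = -1) : ((D (a, a) : Sp F) : M4 F) * ((D (a, a) : Sp F) : M4 F) = -1 := by
  rw [D_val, ph_mul]
  simp only [mul_zero, zero_mul, add_zero, zero_add, ha]
  rw [← ph_one, ph_neg, neg_zero]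

/-- the element `Z` -/
theorem Z_sq : ((D (1, n1) * W : Sp F) : M4 F) * ((D (1, n1) * W : Sp F) : M4 F) = -1 := by
  rw [← sp_mul_val, mul_assoc, ← mul_assoc W, W_D_W, D_mul, ← N1_val]
  rw [one_mul, mul_one]
  rfl

theorem N1Z_sq : ((N1 * (D (1, n1) * W) : Sp F) : M4 F) * ((N1 * (D (1, n1) * W) : Sp F) : M4 F) = -1 := by
  rw [N1_mul_val, neg_mul_neg, Z_sq]

theorem Z_comm (a : SL(2, F)) : D (a, a) * (D (1, n1) * W) = (D (1, n1) * W) * (D (a, a) : Sp F) := by
  rw [mul_assoc _ W, W_D, ← mul_assoc, ← mul_assoc, D_mul, D_mul, mul_one, one_mul, n1_comm]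

theorem Dss_mem (h2 : (2 : F) ≠ 0) (h : QS Q 1 c) (K : Subgroup (Sp F))
    (hK : ∀ g : Sp F, g ^ 4 = 1 → (∀ r ∈ RR Q h, g * r * g⁻¹ ∈ RR Q h) → g ∈ K)
    {j s : SL(2, F)} (hj : j ∈ Q) (hjc : j ∉ Subgroup.zpowers c)
    (hs : mt s = (2⁻¹ : F) • ((1 + mt c) * (1 + mt j))) : D (s, s) ∈ K := by
  have hc4 : mt c * mt c = -1 := by rw [← mt_mul, c_sq h, n1_val]
  have hj4 := h.sq hj hjc
  have hZR : (D (1, n1) * W : Sp F) ∈ RR Q h := DW_mem_RR h Q.one_mem (Or.inr (by rw [mul_one]))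
  have e : (D (s, s) : Sp F) = GG h2 (D (c, c)) (D (1, n1) * W) (D_sq hc4) Z_sq *
      GG h2 (N1 * (D (1, n1) * W)) (D (j, j)) N1Z_sq (D_sq hj4) := by
    apply Subtype.ext
    rw [GG_prod, D_val, D_val, D_val, ← ph_one, ph_add, ph_add, ph_mul, ph_smul, hs]
    simp
  rw [e]
  refine K.mul_mem (hK _ (GG_four h2 _ _ (Z_comm c)) fun r hr => GG_norm h2 h _ _ (D_mem_RR h h.mem (PM.refl _)) hZR r hr)
    (hK _ (GG_four h2 _ _ ?_) fun r hr => GG_norm h2 h _ _ ((RR Q h).mul_mem (N1_mem_RR h) hZR)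
      (D_mem_RR h hj (PM.refl _)) r hr)
  rw [mul_assoc, ← Z_comm, ← mul_assoc, N1_comm, mul_assoc]

theorem zp_cases (h : QS Q 1 c) {u : SL(2, F)} (hu : u ∈ Subgroup.zpowers c) :
    u = 1 ∨ u = n1 ∨ u = c ∨ u = n1 * c := by
  obtain ⟨n, rfl⟩ := hu
  have hc2 : c ^ (2 : ℤ) = n1 := by rw [zpow_ofNat, pow_two, c_sq h]
  show c ^ n = 1 ∨ c ^ n = n1 ∨ c ^ n = c ∨ c ^ n = n1 * c
  rcases Int.even_or_odd' n with ⟨l, rfl | rfl⟩
  · rw [_root_.zpow_mul, hc2]
    rcases n1_zpow (F := F) l with h3 | h3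
    · left; exact h3
    · right; left; exact h3
  · rw [_root_.zpow_add_one, _root_.zpow_mul, hc2]
    rcases n1_zpow (F := F) l with h3 | h3
    · right; right; left; rw [h3, one_mul]
    · right; right; right; rw [h3]

theorem comm_of_sq {G : Type*} [Group G] {x z : G} {r : ℕ} (hr : Odd r) (hx : x ^ r = 1)
    (hc : (x * x) * z = z * (x * x)) : x * z = z * x := by
  obtain ⟨m, hm⟩ := hr
  have h3 : x = (x * x) ^ (m + 1) := by
    rw [← pow_two, ← pow_mul, show 2 * (m + 1) = r + 1 by omega, pow_succ, hx, one_mul]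
  have h4 : Commute (x * x) z := hc
  have h5 := h4.pow_left (m + 1)
  rw [← h3] at h5
  exact h5

/-- odd order elements normalizing `Q` -/
theorem x_cases (h2 : (2 : F) ≠ 0) (h : QS Q 1 c) {x : SL(2, F)} {r : ℕ} (hr : Odd r) (hx : x ^ r = 1)
    (hn : ∀ y ∈ Q, x * y * x⁻¹ ∈ Q) :
    x = 1 ∨ ∃ j ∈ Q, j ∉ Subgroup.zpowers c ∧ ∃ s : SL(2, F), mt s = (2⁻¹ : F) • ((1 + mt c) * (1 + mt j)) ∧
      ∃ q ∈ Q, x = s * q := by
  have hc4 : mt c * mt c = -1 := by rw [← mt_mul, c_sq h, n1_val]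
  have hcc : c ∈ Subgroup.zpowers c := Subgroup.mem_zpowers c
  have hn1c : n1 ∈ Subgroup.zpowers c := by rw [← c_sq h]; exact Subgroup.mul_mem _ hcc hcc
  have hxn : x * n1 * x⁻¹ = n1 := by rw [← n1_comm, mul_inv_cancel_right]
  have hx1 : (x * x) ^ r = 1 := by rw [← pow_two, ← pow_mul, mul_comm, pow_mul, hx, one_pow]
  have hxx : ∀ z : SL(2, F), x * (x * z * x⁻¹) * x⁻¹ = (x * x) * z * (x * x)⁻¹ := by
    intro z
    rw [_root_.mul_inv_rev]
    simp only [mul_assoc]
  by_cases hA : x * c * x⁻¹ ∈ Subgroup.zpowers c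
  · left
    have h3 : x * c * x⁻¹ * (x * c * x⁻¹) = n1 := by
      have : x * c * x⁻¹ * (x * c * x⁻¹) = x * (c * c) * x⁻¹ := by group
      rw [this, c_sq h, hxn]
    have hxc : x * c = c * x := by
      rcases pw h2 h hA h3 with h4 | h4
      · exact mul_inv_eq_iff_eq_mul.1 h4
      · refine comm_of_sq hr hx ?_
        have h5 : x * (x * c * x⁻¹) * x⁻¹ = c := by
          rw [h4, ← mul_assoc x n1, ← n1_comm x, mul_assoc n1 x, mul_assoc n1, h4, ← mul_assoc, n1_sq, one_mul]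
        rw [hxx] at h5
        exact mul_inv_eq_iff_eq_mul.1 h5
    obtain ⟨y, hy, hyc⟩ := h.ex
    have hw : x * y * x⁻¹ ∉ Subgroup.zpowers c := by
      rintro ⟨n, hn'⟩
      apply hyc
      refine ⟨n, ?_⟩
      have h5 : x⁻¹ * c ^ n * x = y := by
        have : c ^ n = x * y * x⁻¹ := hn'
        rw [this]; group
      have h6 : Commute x (c ^ n) := (show Commute x c from hxc).zpow_right n
      show c ^ n = y
      rw [← h5, mul_assoc, ← h6.eq, inv_mul_cancel_left]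
    have hu := h.two y hy _ (hn y hy) hyc hw
    set u := y⁻¹ * (x * y * x⁻¹) with hu'
    have hyu : x * y * x⁻¹ = y * u := by rw [hu', mul_inv_cancel_left]
    have hxu : Commute x u := by
      obtain ⟨n, hn'⟩ := hu
      have : c ^ n = u := hn'
      rw [← this]
      exact (show Commute x c from hxc).zpow_right n
    have hpow : ∀ m : ℕ, x ^ m * y = y * u ^ m * x ^ m := by
      intro m
      induction m with
      | zero => simp
      | succ m ih =>
        have e1 : x * y = y * u * x := mul_inv_eq_iff_eq_mul.1 hyu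
        calc x ^ (m + 1) * y = x ^ m * (x * y) := by rw [pow_succ, mul_assoc]
          _ = x ^ m * (y * u * x) := by rw [e1]
          _ = (x ^ m * y) * (u * x) := by simp only [mul_assoc]
          _ = y * u ^ m * (x ^ m * u) * x := by rw [ih]; simp only [mul_assoc]
          _ = y * u ^ m * (u * x ^ m) * x := by rw [(hxu.pow_left m).eq]
          _ = y * u ^ (m + 1) * x ^ (m + 1) := by rw [pow_succ u, pow_succ x]; simp only [mul_assoc]
    have hur : u ^ r = 1 := by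
      have h5 := hpow r
      rw [hx, one_mul, mul_one] at h5
      exact (left_eq_mul.1 h5)
    have hu4 : u ^ (2 ^ 2) = 1 := by
      have huQ : u ∈ Q := Q.mul_mem (Q.inv_mem hy) (hn y hy)
      have h5 : u ^ (2 ^ 2) = (u * u) * (u * u) := by rw [show 2 ^ 2 = 2 + 2 from rfl, pow_add, pow_two]
      rw [h5]
      rcases sq_pm h huQ with h6 | h6
      · rw [h6, one_mul]
      · rw [h6, mul_one, n1_sq]
    have hu1 := eq_one_of_two hr hur hu4
    rw [hu1, mul_one] at hyu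
    have hxy : x * y = y * x := mul_inv_eq_iff_eq_mul.1 hyu
    refine eq_one_of_odd h2 hr hx ?_
    rcases cent h2 (mt_det c) hc4 (mt_det y) (h.sq hy hyc)
        (by
          have := congrArg mt (c_not_comm h h2 hy hyc).2
          rw [mt_mul, n1_mul, mt_mul] at this
          exact this)
        (by rw [← mt_mul, ← mt_mul, hxc]) (by rw [← mt_mul, ← mt_mul, hxy]) (mt_det x) with h5 | h5
    · left; exact mt_inj (h5.trans mt_one.symm)
    · right; exact mt_inj h5
  · right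
    obtain ⟨j, hj⟩ : ∃ j, j = x * c * x⁻¹ := ⟨_, rfl⟩
    rw [← hj] at hA
    have hjQ : j ∈ Q := by rw [hj]; exact hn c h.mem
    have hj4 := h.sq hjQ hA
    have hjj : j * j = n1 := mt_inj (by rw [mt_mul, hj4]; rfl)
    obtain ⟨e1, e2⟩ := c_not_comm h h2 hjQ hA
    obtain ⟨s, hs⟩ := exists_sig h2 hc4 hj4
    refine ⟨j, hjQ, hA, s, hs, ?_⟩
    have hwQ : x * j * x⁻¹ ∈ Q := hn j hjQ
    have hw2 : x * j * x⁻¹ * (x * j * x⁻¹) = n1 := by
      have : x * j * x⁻¹ * (x * j * x⁻¹) = x * (j * j) * x⁻¹ := by group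
      rw [this, hjj, hxn]
    by_cases hB : x * j * x⁻¹ ∈ Subgroup.zpowers c
    · exfalso
      apply hA
      have hxc : x * c = c * x := by
        refine comm_of_sq hr hx ?_
        have e3 : (x * x) * c * (x * x)⁻¹ = x * j * x⁻¹ := by rw [hj, hxx]
        rcases pw h2 h hB hw2 with h4 | h4
        · rw [h4] at e3
          exact mul_inv_eq_iff_eq_mul.1 e3
        · rw [h4] at e3
          refine comm_of_sq hr hx1 ?_
          have e4 : (x * x) * c = n1 * c * (x * x) := mul_inv_eq_iff_eq_mul.1 e3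
          calc x * x * (x * x) * c = (x * x) * ((x * x) * c) := by simp only [mul_assoc]
            _ = (x * x) * n1 * c * (x * x) := by rw [e4]; simp only [mul_assoc]
            _ = n1 * ((x * x) * c) * (x * x) := by rw [← n1_comm (x * x)]; simp only [mul_assoc]
            _ = n1 * n1 * c * (x * x) * (x * x) := by rw [e4]; simp only [mul_assoc]
            _ = c * (x * x * (x * x)) := by rw [n1_sq, one_mul]; simp only [mul_assoc]
      rw [hj, hxc, mul_inv_cancel_right]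
      exact hcc
    · have hu := h.two j hjQ _ hwQ hA hB
      have hw : x * j * x⁻¹ = j * (j⁻¹ * (x * j * x⁻¹)) := by rw [mul_inv_cancel_left]
      -- relations for `s`
      have hcj : mt j * mt c = -(mt c * mt j) := by
        have := congrArg mt e1
        rw [mt_mul, n1_mul, mt_mul] at this
        exact this
      have hsc : s * c = j * s := by
        apply mt_inj
        rw [mt_mul, mt_mul, hs, smul_mul_assoc, mul_smul_comm]
        congr 1
        have f1 : mt c * (mt j * mt c) = mt j := by rw [hcj, mul_neg, ← mul_assoc, hc4, neg_mul, one_mul, neg_neg]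
        have f2 : mt j * (mt c * mt j) = mt c := by
          rw [← mul_assoc, hcj, neg_mul, mul_assoc, hj4, mul_neg_one, neg_neg]
        simp only [add_mul, mul_add, one_mul, mul_one, mul_assoc, hc4, hj4, f1, f2]
        rw [hcj]
        abel
      have hsj : s * j = (c * j) * s := by
        apply mt_inj
        rw [mt_mul, mt_mul, mt_mul, hs, smul_mul_assoc, mul_smul_comm]
        congr 1
        have f1 : mt j * (mt c * mt j) = mt c := by
          rw [← mul_assoc, hcj, neg_mul, mul_assoc, hj4, mul_neg_one, neg_neg]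
        have f2 : mt j * mt c = -(mt c * mt j) := hcj
        have f3 : mt c * (mt j * mt c) = mt j := by rw [hcj, mul_neg, ← mul_assoc, hc4, neg_mul, one_mul, neg_neg]
        simp only [add_mul, mul_add, one_mul, mul_one, mul_assoc, hc4, hj4, f1, f3, mul_neg_one]
        abel
      have fin : ∀ t : SL(2, F), t * c = j * t → t * j = (x * j * x⁻¹) * t → (t⁻¹ * x = 1 ∨ t⁻¹ * x = n1) := by
        intro t ht1 ht2
        have g1 : t⁻¹ * x * c = c * (t⁻¹ * x) := by
          have k1 : x * c = j * x := by rw [hj, inv_mul_cancel_right]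
          have k2 : c = t⁻¹ * j * t := by rw [mul_assoc, ← ht1, inv_mul_cancel_left]
          calc t⁻¹ * x * c = t⁻¹ * (x * c) := by rw [mul_assoc]
            _ = t⁻¹ * j * t * (t⁻¹ * x) := by rw [k1]; group
            _ = c * (t⁻¹ * x) := by rw [← k2]
        have g2 : t⁻¹ * x * j = j * (t⁻¹ * x) := by
          have k2 : j = t⁻¹ * (x * j * x⁻¹) * t := by rw [mul_assoc, ← ht2, inv_mul_cancel_left]
          calc t⁻¹ * x * j = t⁻¹ * (x * j * x⁻¹) * t * (t⁻¹ * x) := by group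
            _ = j * (t⁻¹ * x) := by rw [← k2]
        rcases cent h2 (mt_det c) hc4 (mt_det j) hj4 (by rw [hcj, neg_neg])
          (by rw [← mt_mul, ← mt_mul, g1]) (by rw [← mt_mul, ← mt_mul, g2]) (mt_det (t⁻¹ * x)) with h5 | h5
        · left; exact mt_inj (h5.trans mt_one.symm)
        · right; exact mt_inj h5
      have hfin : ∀ t : SL(2, F), (t⁻¹ * x = 1 ∨ t⁻¹ * x = n1) → ∃ q ∈ Q, x = t * q := by
        rintro t (h5 | h5)
        · exact ⟨1, Q.one_mem, by rw [mul_one]; exact (inv_mul_eq_one.1 h5).symm⟩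
        · exact ⟨n1, h.n1_mem, by rw [← h5, mul_inv_cancel_left]⟩
      have hnoj : ∀ ε : SL(2, F), (ε = 1 ∨ ε = n1) → x * j * x⁻¹ ≠ j * ε := by
        intro ε hε h6
        apply hA
        have h7 : j * ε = x * (c * ε) * x⁻¹ := by
          have hεx : ε * x⁻¹ = x⁻¹ * ε := by
            rcases hε with rfl | rfl
            · rw [one_mul, mul_one]
            · exact n1_comm _
          rw [hj]
          calc x * c * x⁻¹ * ε = x * c * (x⁻¹ * ε) := by rw [mul_assoc]
            _ = x * (c * ε) * x⁻¹ := by rw [← hεx]; simp only [mul_assoc]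
        rw [h7] at h6
        have h8 : j = c * ε := mul_left_cancel (mul_right_cancel h6)
        rw [h8]
        refine Subgroup.mul_mem _ hcc ?_
        rcases hε with rfl | rfl
        · exact Subgroup.one_mem _
        · exact hn1c
      rcases zp_cases h hu with h6 | h6 | h6 | h6 <;> rw [h6] at hw
      · exact absurd hw (hnoj 1 (Or.inl rfl))
      · exact absurd hw (hnoj n1 (Or.inr rfl))
      · -- `w = j c = n1 c j`: use `s c`
        obtain ⟨q, hq, hxq⟩ := hfin (s * c) (fin (s * c)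
          (by rw [← mul_assoc j s, ← hsc])
          (by
            rw [hw]
            calc s * c * j = s * (c * j) := by rw [mul_assoc]
              _ = s * (n1 * (j * c)) := by rw [← e2]
              _ = n1 * (s * j) * c := by rw [← mul_assoc, ← mul_assoc, ← n1_comm s]; simp only [mul_assoc]
              _ = n1 * (c * j) * (s * c) := by rw [hsj]; simp only [mul_assoc]
              _ = j * c * (s * c) := by rw [← e1]))
        exact ⟨c * q, Q.mul_mem h.mem hq, by rw [hxq, mul_assoc]⟩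
      · exact hfin s (fin s hsc (by
          rw [hw, hsj]
          have : c * j = j * (n1 * c) := by
            rw [e2, ← mul_assoc, ← mul_assoc, n1_comm j]
          rw [this]))

end Cfsg.Agent.Lib.H88Sp4
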