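import Cfsg.Agent.Lib.H88Sp4e
import Cfsg.Agent.Lib.H88SimpleClosure
import Cfsg.Agent.Lib.H32PGroup
import Cfsg.Agent.Lib.FusionGrp

/-! The 2-fusion system of `PSp(4,F)`, `|F|` odd. -/

set_option autoImplicit false
set_option maxHeartbeats 400000

namespace Cfsg.Agent.Lib.H88Sp4

open Matrix
open scoped MatrixGroups

variable {F : Type*} [Field F]

/-- the projection -/
def pr : Sp F →* Cfsg.PSp 2 F := QuotientGroup.mk' (Subgroup.center (Sp F))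

theorem pr_surj : Function.Surjective (pr : Sp F →* Cfsg.PSp 2 F) := QuotientGroup.mk'_surjective _

theorem pr_one_iff (g : Sp F) : pr g = 1 ↔ g = 1 ∨ g = N1 := by
  rw [← mem_center_iff]
  exact QuotientGroup.eq_one_iff g

theorem pr_eq_iff (g g' : Sp F) : pr g = pr g' ↔ PS g g' := by
  rw [← mul_inv_eq_one, ← map_inv, ← map_mul, pr_one_iff, mul_inv_eq_one, mul_inv_eq_iff_eq_mul]
  rfl

theorem pr_N1 : (pr N1 : Cfsg.PSp 2 F) = 1 := (pr_one_iff _).2 (Or.inr rfl)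

variable {Q : Subgroup (SL(2, F))} {k : ℕ} {c : SL(2, F)}

theorem mem_map_SS (h : QS Q k c) (g : Sp F) : pr g ∈ (SS Q).map pr ↔ g ∈ SS Q := by
  constructor
  · rintro ⟨s, hs, h1⟩
    rcases (pr_eq_iff _ _).1 h1.symm with rfl | rfl
    · exact hs
    · exact (SS Q).mul_mem (N1_mem_SS h) hs
  · intro hg
    exact ⟨g, hg, rfl⟩

theorem mem_map_RR (h : QS Q 1 c) (g : Sp F) : pr g ∈ (RR Q h).map pr ↔ g ∈ RR Q h := by
  constructor
  · rintro ⟨s, hs, h1⟩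
    rcases (pr_eq_iff _ _).1 h1.symm with rfl | rfl
    · exact hs
    · exact (RR Q h).mul_mem (N1_mem_RR h) hs
  · intro hg
    exact ⟨g, hg, rfl⟩

/-- `D (n1, 1)` is central modulo `±1` -/
theorem t_central (z : Sp F) (hz : z = 1 ∨ z = N1 ∨ z = D (n1, 1) ∨ z = D (1, n1)) {s : Sp F} (hs : s ∈ SS Q) :
    z * s * z⁻¹ = s ∨ z * s * z⁻¹ = N1 * s := by
  have key : D (n1, 1) * s * (D (n1, 1) : Sp F)⁻¹ = s ∨ D (n1, 1) * s * (D (n1, 1) : Sp F)⁻¹ = N1 * s := by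
    obtain ⟨a, ha, b, hb, rfl | rfl⟩ := hs
    · left
      rw [conj_D, one_mul, inv_one, mul_one, n1_comm, mul_inv_cancel_right]
    · right
      rw [D_inv, ← mul_assoc, D_mul, mul_assoc, W_D, ← mul_assoc, D_mul, N1, ← mul_assoc, D_mul]
      have e : (n1 : SL(2, F))⁻¹ = n1 := inv_eq_of_mul_eq_one_right n1_sq
      rw [inv_one, mul_one, one_mul, e, n1_comm b]
  rcases hz with rfl | rfl | rfl | rfl
  · left; rw [one_mul, inv_one, mul_one]
  · left; rw [N1_comm, mul_inv_cancel_right]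
  · exact key
  · have e : D (1, n1) * s * (D (1, n1) : Sp F)⁻¹ = D (n1, 1) * s * (D (n1, 1) : Sp F)⁻¹ := by
      rw [D_one_n1, _root_.mul_inv_rev]
      calc N1 * D (n1, 1) * s * ((D (n1, 1))⁻¹ * N1⁻¹) = N1 * (D (n1, 1) * s * (D (n1, 1))⁻¹) * (N1 : Sp F)⁻¹ := by group
        _ = _ := by rw [N1_comm, mul_inv_cancel_right]
    rw [e]
    exact key

theorem t_ne (h2 : (2 : F) ≠ 0) : (D (n1, 1) : Sp F) ≠ 1 ∧ (D (n1, 1) : Sp F) ≠ N1 := by
  constructor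
  · intro h
    rw [← map_one D] at h
    exact n1_ne h2 (D_inj (F := F) (a := n1) (b := 1) (a' := 1) (b' := 1) h).1
  · intro h
    exact n1_ne h2 (D_inj (F := F) (a := n1) (b := 1) (a' := n1) (b' := n1) h).2.symm

variable [Fintype F]

theorem two_ne (hodd : Fintype.card F % 2 = 1) : (2 : F) ≠ 0 := by
  intro h
  have h1 : ringChar F ∣ 2 := ringChar.dvd (by exact_mod_cast h)
  obtain ⟨p, hp⟩ := CharP.exists F
  haveI := hp
  obtain ⟨n, hp1, hn⟩ := FiniteField.card F p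
  have h3 : p ∣ 2 := (CharP.cast_eq_zero_iff F p 2).1 (by exact_mod_cast h)
  have h4 : p = 2 := (Nat.prime_dvd_prime_iff_eq hp1 Nat.prime_two).1 h3
  have h5 : 2 ∣ Fintype.card F := by
    rw [hn, h4]
    exact dvd_pow_self 2 n.ne_zero
  omega

theorem card_Sp4 : Nat.card (Sp F) = Nat.card SL(2, F) * Nat.card SL(2, F) *
    (Fintype.card F ^ 2 * (Fintype.card F ^ 2 + 1)) := by
  rw [ClSympOrd.card_symplectic, ClSL2.card_SL2 rfl]
  rw [Finset.prod_range_succ, Finset.prod_range_succ, Finset.prod_range_zero]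
  set q := Fintype.card F
  have hq : 1 ≤ q ^ 2 := Nat.one_le_pow _ _ (Fintype.card_pos)
  obtain ⟨m, hm⟩ : ∃ m, q ^ 2 = m + 1 := ⟨q ^ 2 - 1, by omega⟩
  have e4 : q ^ (2 * (1 + 1)) = (q ^ 2) ^ 2 := by rw [← pow_mul]
  have e4' : q ^ 2 ^ 2 = (q ^ 2) ^ 2 := by rw [← pow_mul]; rfl
  have e2 : q ^ (2 * (0 + 1)) = q ^ 2 := by rw [zero_add, mul_one]
  rw [e4, e4', e2]
  have e5 : q * (q ^ 2 - 1) * (q * (q ^ 2 - 1)) = q ^ 2 * (q ^ 2 - 1) ^ 2 := by ring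
  rw [e5, hm]
  have e6 : (m + 1) ^ 2 - 1 = m * (m + 2) := by
    rw [show (m + 1) ^ 2 = m * (m + 2) + 1 by ring, Nat.add_sub_cancel]
  rw [e6, Nat.add_sub_cancel]
  ring

theorem card_fact (hodd : Fintype.card F % 2 = 1) : (Nat.card (Sp F)).factorization 2 =
    2 * (Nat.card SL(2, F)).factorization 2 + 1 := by
  have hq0 : Fintype.card F ≠ 0 := Fintype.card_ne_zero
  have hS : Nat.card SL(2, F) ≠ 0 := Nat.card_pos.ne'
  rw [card_Sp4, Nat.factorization_mul (mul_ne_zero hS hS) (by positivity), Nat.factorization_mul hS hS,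
    Nat.factorization_mul (by positivity) (by positivity)]
  set q := Fintype.card F
  have h1 : (q ^ 2).factorization 2 = 0 := by
    apply Nat.factorization_eq_zero_of_not_dvd
    intro h
    have := Nat.prime_two.dvd_of_dvd_pow h
    omega
  have h2 : (q ^ 2 + 1).factorization 2 = 1 := by
    obtain ⟨m, hm⟩ : ∃ m, q = 2 * m + 1 := ⟨q / 2, by omega⟩
    have e : q ^ 2 + 1 = 2 * (2 * (m ^ 2 + m) + 1) := by rw [hm]; ring
    rw [e, Nat.factorization_mul (by norm_num) (by positivity)]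
    have h3 : (2 * (m ^ 2 + m) + 1).factorization 2 = 0 := by
      apply Nat.factorization_eq_zero_of_not_dvd
      omega
    simp [h3, Nat.Prime.factorization_self Nat.prime_two]
  simp only [Finsupp.add_apply, h1, h2]
  ring

theorem exists_S0 (hodd : Fintype.card F % 2 = 1) (Q : Sylow 2 SL(2, F)) :
    ∃ S0 : Sylow 2 (Cfsg.PSp 2 F), (S0 : Subgroup (Cfsg.PSp 2 F)) = (SS (Q : Subgroup SL(2, F))).map pr := by
  have h1 : Nat.card (SS (Q : Subgroup SL(2, F))) = 2 ^ (Nat.card (Sp F)).factorization 2 := by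
    rw [card_SS, card_fact hodd, Q.card_eq_multiplicity]
    ring
  let P : Sylow 2 (Sp F) := Sylow.ofCard _ h1
  refine ⟨P.mapSurjective pr_surj, ?_⟩
  rw [Sylow.coe_mapSurjective]
  rfl

/-- strongly closed subgroups -/
theorem closed_top (h2 : (2 : F) ≠ 0) (h : QS Q k c) (S0 : Sylow 2 (Cfsg.PSp 2 F))
    (hS0 : (S0 : Subgroup (Cfsg.PSp 2 F)) = (SS Q).map pr) (T : Subgroup (Cfsg.PSp 2 F))
    (hT : T ≤ (S0 : Subgroup (Cfsg.PSp 2 F))) (hT1 : T ≠ ⊥)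
    (hcl : ∀ x ∈ T, ∀ g : Cfsg.PSp 2 F, g * x * g⁻¹ ∈ (S0 : Subgroup (Cfsg.PSp 2 F)) → g * x * g⁻¹ ∈ T) :
    (S0 : Subgroup (Cfsg.PSp 2 F)) ≤ T := by
  have hd : 2 ∣ Nat.card T := by
    obtain ⟨n, hn⟩ := IsPGroup.iff_card.mp (S0.isPGroup'.to_le hT)
    rw [hn]
    apply dvd_pow_self
    rintro rfl
    rw [pow_zero] at hn
    exact hT1 (Subgroup.card_eq_one.mp hn)
  have hN : (S0 : Subgroup (Cfsg.PSp 2 F)) ≤ Subgroup.normalizer (T : Set (Cfsg.PSp 2 F)) := by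
    intro s hs
    refine FusionGrp.mem_normalizer_of_conj_mem fun x hx => hcl x hx s ?_
    exact Subgroup.mul_mem _ (Subgroup.mul_mem _ hs (hT hx)) (Subgroup.inv_mem _ hs)
  obtain ⟨t, ht, ht1, htc⟩ := H32PGroup.exists_fixed_of_normalizes S0.isPGroup' hN hd
  obtain ⟨z, rfl⟩ := pr_surj t
  have hzS : z ∈ SS Q := by
    have := hT ht
    rw [hS0] at this
    exact (mem_map_SS h z).1 this
  have hz := center_of h2 h hzS fun s hs => by
    have h3 := htc (pr s) (by rw [hS0]; exact ⟨s, hs, rfl⟩)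
    rw [← map_mul, ← map_mul, pr_eq_iff] at h3
    rcases h3.symm with h4 | h4
    · left; exact mul_inv_eq_iff_eq_mul.2 h4
    · right; rw [mul_inv_eq_iff_eq_mul, h4, mul_assoc]
  have htT : pr (D (n1, 1)) ∈ T := by
    rcases hz with h3 | h3 | h3 | h3
    · exact absurd ((pr_one_iff z).2 (Or.inl h3)) ht1
    · exact absurd ((pr_one_iff z).2 (Or.inr h3)) ht1
    · rwa [h3] at ht
    · rw [h3, D_one_n1, map_mul, pr_N1, one_mul] at ht
      exact ht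
  have htop := top_of h2 h (T.comap pr) (fun x hx g hg => by
    rw [Subgroup.mem_comap] at hx ⊢
    rw [map_mul, map_mul, map_inv]
    refine hcl _ hx _ ?_
    rw [← map_inv, ← map_mul, ← map_mul, hS0]
    exact ⟨_, hg, rfl⟩) (by rw [Subgroup.mem_comap, pr_N1]; exact T.one_mem) htT
  rw [hS0, Subgroup.map_le_iff_le_comap]
  exact htop

/-- lifting odd order elements normalizing `S0` -/
theorem lift_of (h2 : (2 : F) ≠ 0) (h : QS Q k c) (S0 : Sylow 2 (Cfsg.PSp 2 F))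
    (hS0 : (S0 : Subgroup (Cfsg.PSp 2 F)) = (SS Q).map pr) {g : Cfsg.PSp 2 F}
    (hg : g ∈ Subgroup.normalizer ((S0 : Subgroup (Cfsg.PSp 2 F)) : Set (Cfsg.PSp 2 F)))
    (ho : (orderOf g).Coprime 2) :
    ∃ (u : Sp F) (r : ℕ), pr u = g ∧ Odd r ∧ u ^ r = 1 ∧ (∀ s ∈ SS Q, u * s * u⁻¹ ∈ SS Q) ∧
      (u * D (n1, 1) * u⁻¹ = D (n1, 1) ∨ u * D (n1, 1) * u⁻¹ = D (1, n1)) := by
  set r := orderOf g with hr
  have hro : Odd r := Nat.coprime_two_right.1 ho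
  obtain ⟨u, hu, hur⟩ : ∃ u : Sp F, pr u = g ∧ u ^ r = 1 := by
    obtain ⟨u, rfl⟩ := pr_surj g
    have h3 : pr (u ^ r) = 1 := by rw [map_pow, hr, pow_orderOf_eq_one]
    rcases (pr_one_iff _).1 h3 with h4 | h4
    · exact ⟨u, rfl, h4⟩
    · refine ⟨N1 * u, by rw [map_mul, pr_N1, one_mul], ?_⟩
      rw [(show Commute N1 u from N1_comm u).mul_pow, h4]
      obtain ⟨m, hm⟩ := hro
      rw [hm, pow_succ, pow_mul, pow_two, N1_sq, one_pow, one_mul, N1_sq]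
  have hnm : ∀ s ∈ SS Q, u * s * u⁻¹ ∈ SS Q := by
    intro s hs
    rw [← mem_map_SS h, ← hS0, map_mul, map_mul, map_inv, hu]
    refine (Subgroup.mem_normalizer_iff.1 hg (pr s)).1 ?_
    rw [hS0]
    exact ⟨s, hs, rfl⟩
  have hnm' : ∀ s ∈ SS Q, u⁻¹ * s * u ∈ SS Q := by
    intro s hs
    rw [← mem_map_SS h, ← hS0, map_mul, map_mul, map_inv, hu]
    refine (Subgroup.mem_normalizer_iff''.1 hg (pr s)).1 ?_
    rw [hS0]
    exact ⟨s, hs, rfl⟩
  refine ⟨u, r, hu, hro, hur, hnm, ?_⟩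
  have htS : (D (n1, 1) : Sp F) ∈ SS Q := D_mem_SS.2 ⟨h.n1_mem, Q.one_mem⟩
  have hz := center_of h2 h (hnm _ htS) fun s hs => by
    have h3 := t_central (Q := Q) (D (n1, 1)) (Or.inr (Or.inr (Or.inl rfl))) (hnm' s hs)
    have e1 : u * D (n1, 1) * u⁻¹ * s * (u * D (n1, 1) * u⁻¹)⁻¹ =
        u * (D (n1, 1) * (u⁻¹ * s * u) * (D (n1, 1))⁻¹) * u⁻¹ := by group
    rw [e1]
    rcases h3 with h4 | h4
    · left; rw [h4]; group
    · right; rw [h4, ← mul_assoc u N1, ← N1_comm u]; group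
  obtain ⟨hne1, hne2⟩ := t_ne (F := F) h2
  rcases hz with h3 | h3 | h3 | h3
  · exfalso
    apply hne1
    rw [mul_inv_eq_one] at h3
    exact mul_eq_left.1 h3
  · exfalso
    apply hne2
    rw [mul_inv_eq_iff_eq_mul, N1_comm] at h3
    exact mul_left_cancel h3
  · exact Or.inl h3
  · exact Or.inr h3

theorem main (hodd : Fintype.card F % 2 = 1) (S : Sylow 2 (Cfsg.PSp 2 F)) :
    (Cfsg.groupFusionSystem (S : Subgroup (Cfsg.PSp 2 F))).IsSimple 2 := by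
  have h2 : (2 : F) ≠ 0 := two_ne hodd
  obtain ⟨Q⟩ : Nonempty (Sylow 2 SL(2, F)) := inferInstance
  obtain ⟨k, c, h, ⟨e⟩⟩ := exists_QS (Nat.odd_iff.2 hodd) h2 Q
  obtain ⟨S0, hS0⟩ := exists_S0 hodd Q
  refine H88Trans.simple_sylow S0 S ?_
  have hS1 : (S0 : Subgroup (Cfsg.PSp 2 F)) ≠ ⊥ := by
    intro h1
    have h3 : pr (D (n1, 1)) ∈ (S0 : Subgroup (Cfsg.PSp 2 F)) := by
      rw [hS0]
      exact ⟨_, D_mem_SS.2 ⟨h.n1_mem, Subgroup.one_mem _⟩, rfl⟩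
    rw [h1, Subgroup.mem_bot, pr_one_iff] at h3
    obtain ⟨hne1, hne2⟩ := t_ne (F := F) h2
    rcases h3 with h3 | h3
    · exact hne1 h3
    · exact hne2 h3
  have hT : ∀ T : Subgroup (Cfsg.PSp 2 F), T ≤ (S0 : Subgroup (Cfsg.PSp 2 F)) → T ≠ ⊥ →
      (∀ x ∈ T, ∀ g : Cfsg.PSp 2 F, g * x * g⁻¹ ∈ (S0 : Subgroup (Cfsg.PSp 2 F)) → g * x * g⁻¹ ∈ T) →
      (S0 : Subgroup (Cfsg.PSp 2 F)) ≤ T := fun T => closed_top h2 h S0 hS0 T
  by_cases hk : k = 1
  · subst hk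
    set R := (RR (Q : Subgroup SL(2, F)) h).map pr with hR
    have hnR : ∀ u : Sp F, (∀ r ∈ RR (Q : Subgroup SL(2, F)) h, u * r * u⁻¹ ∈ RR (Q : Subgroup SL(2, F)) h) →
        pr u ∈ Subgroup.normalizer (R : Set (Cfsg.PSp 2 F)) := by
      intro u hu
      refine FusionGrp.mem_normalizer_of_conj_mem ?_
      rintro _ ⟨r, hr, rfl⟩
      exact ⟨u * r * u⁻¹, hu r hr, by rw [map_mul, map_mul, map_inv]⟩
    have hRn : (S0 : Subgroup (Cfsg.PSp 2 F)) ≤ Subgroup.normalizer (R : Set (Cfsg.PSp 2 F)) := by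
      rw [hS0]
      rintro _ ⟨s, hs, rfl⟩
      exact hnR s fun r hr => norm_RR h hs hr
    refine H88SimpleClosure.simple_of_closure S0 hS1 hT R ?_ hRn ?_ ?_
    · rw [hS0]
      exact Subgroup.map_mono (RR_le h)
    · intro g hg
      obtain ⟨u, rfl⟩ := pr_surj g
      refine ⟨u, cent_RR h h2 fun r hr => ?_, rfl⟩
      have h3 := Subgroup.mem_centralizer_iff.1 hg (pr r) ⟨r, hr, rfl⟩
      rw [← map_mul, ← map_mul, pr_eq_iff] at h3
      exact h3.symm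
    · intro g hg ho
      obtain ⟨u, r, rfl, hr, hur, hn, ht⟩ := lift_of h2 h S0 hS0 hg ho
      obtain ⟨g₁, g₂, rfl, hg₁, hg₂, hg₁₂, hr₁, hr₂⟩ := norm_of h2 h hr hur hn ht
      set K := Subgroup.closure {x : Cfsg.PSp 2 F | x ∈ Subgroup.normalizer (R : Set (Cfsg.PSp 2 F)) ∧
        ∃ k : ℕ, orderOf x = 2 ^ k} with hK
      have hSK : SS (Q : Subgroup SL(2, F)) ≤ K.comap pr := by
        intro s hs
        have h3 : pr s ∈ (S0 : Subgroup (Cfsg.PSp 2 F)) := by rw [hS0]; exact ⟨s, hs, rfl⟩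
        refine Subgroup.subset_closure ⟨hRn h3, ?_⟩
        obtain ⟨n, hn⟩ := (IsPGroup.iff_orderOf.1 S0.isPGroup') ⟨pr s, h3⟩
        refine ⟨n, ?_⟩
        rw [← hn]
        exact (Subgroup.orderOf_mk _ h3).symm
      have h4K : ∀ g : Sp F, g ^ 4 = 1 → (∀ r ∈ RR (Q : Subgroup SL(2, F)) h,
          g * r * g⁻¹ ∈ RR (Q : Subgroup SL(2, F)) h) → g ∈ K.comap pr := by
        intro g hg4 hgn
        refine Subgroup.subset_closure ⟨hnR g hgn, ?_⟩
        have h3 : (pr g) ^ (2 ^ 2) = 1 := by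
          rw [← map_pow, show 2 ^ 2 = 4 from rfl, hg4, map_one]
        obtain ⟨n, -, hn⟩ := (Nat.dvd_prime_pow Nat.prime_two).1 (orderOf_dvd_of_pow_eq_one h3)
        exact ⟨n, hn⟩
      show D (g₁, g₂) ∈ K.comap pr
      have e1 : (D (g₁, g₂) : Sp F) = D (g₁ * g₂⁻¹, 1) * D (g₂, g₂) := by
        rw [D_mul, inv_mul_cancel_right, one_mul]
      rw [e1]
      refine Subgroup.mul_mem _ (hSK (D_mem_SS.2 ⟨hg₁₂, Subgroup.one_mem _⟩)) ?_
      rcases x_cases h2 h hr hr₂ hg₂ with h3 | ⟨j, hj, hjc, s, hs, q, hq, h3⟩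
      · rw [h3]
        exact hSK (D_mem_SS.2 ⟨Subgroup.one_mem _, Subgroup.one_mem _⟩)
      · rw [h3, ← D_mul]
        exact Subgroup.mul_mem _ (Dss_mem h2 h _ h4K hj hjc hs) (hSK (D_mem_SS.2 ⟨hq, hq⟩))
  · have hk2 : 2 ≤ k := by
      have := h.hk
      omega
    have hA : IsPGroup 2 (MulAut (Q : Subgroup SL(2, F))) := by
      refine AutTwoGroup.aut_quaternion (k + 2) (by omega) ?_
      rw [Nat.add_sub_cancel]
      exact e
    refine FusionSimpleCrit.simple_of_centralize S0 hS1 hT fun g hg ho s hs => ?_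
    obtain ⟨u, r, rfl, hr, hur, hn, ht⟩ := lift_of h2 h S0 hS0 hg ho
    rw [norm_trivial h2 h Q.isPGroup' hA hr hur hn ht, map_one, one_mul, inv_one, mul_one]

end Cfsg.Agent.Lib.H88Sp4
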