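import Cfsg.Agent.Lib.FiLift91c
/-
Double covers of PSU_6(2): the relations for a given class of 3-transpositions (helper89, proof of helper91).
-/
set_option autoImplicit false
set_option linter.all false

namespace Cfsg.Agent.Lib.H89EF

open Module Cfsg Cfsg.Agent.Lib.UnTrans Cfsg.Agent.Lib.UnBridge Cfsg.Agent.Lib.FiPar Cfsg.Agent.Lib.U6Class
open Cfsg.Agent.Lib.SpTrans (isom mem_isom)
open Cfsg.Agent.Lib.ThreeRank3 Cfsg.Agent.Lib.ThreeDescent Cfsg.Agent.Lib.FiMu Cfsg.Agent.Lib.FiLift91
open scoped Matrix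

universe u v w

theorem lh_of {F : Type} [Field F] [Fintype F] (hF : Fintype.card F = 4) (hs : IsSimpleGroup (PSU 6 F 2))
    {G₁ : Type w} [Group G₁] {D : Set G₁} (hD : IsThreeTranspositionGroup D) (hne : D.Nonempty) (e : G₁ ≃* PSU 6 F 2) : LH D := by
  have hs1 : IsSimpleGroup G₁ := e.isSimpleGroup
  have hfin : Finite G₁ := Finite.of_equiv _ e.symm.toEquiv
  obtain ⟨hpar, _, _, _, _⟩ := level_of_equiv hF hD hne e
  have hnc : ∃ a ∈ D, ∃ b ∈ D, ¬ Commute a b := by
    by_contra hcon
    push Not at hcon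
    obtain ⟨a, ha⟩ := hne
    have h1 : Dd D a = D \ {a} := by
      ext x
      constructor
      · intro hx
        exact ⟨hx.1, hx.2.1⟩
      · rintro ⟨hx, hxa⟩
        exact ⟨hx, hxa, hcon a ha x hx⟩
    have h2 := hpar.c1 a ha
    rw [h1, Set.ncard_diff_singleton_of_mem ha, hpar.card] at h2
    norm_num at h2
  have hone := one_class_of_simple hs1 hD hnc
  have htt := tt_two hD hone hpar (by norm_num)
  have hline := lineProp_of_equiv hF hD hne e
  have htrip := tripP_of_equiv hF hD hne e
  obtain ⟨a, ha⟩ := hne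
  obtain ⟨b, hb⟩ : (Dd D a).Nonempty := by
    rw [← Set.ncard_pos (Set.toFinite _), hpar.c1 a ha]; norm_num
  obtain ⟨d1, hd1, d2, hd2, d3, hd3, hnd, hcc, hprod, _, huniq⟩ := hline a ha b hb.1 hb.2.1.symm hb.2.2
  refine ⟨⟨a, ha⟩, fun x hx => sq_one hD.1 hx, hone, ?_, ?_, ?_, ?_⟩
  · intro a ha b hb hab hc a' ha' b' hb' hab' hc'
    have hT : ∀ {a b : G₁}, a ∈ D → b ∈ D → a ≠ b → Commute a b → Tup D 2 [a, b] := by
      intro a b ha hb hab hc
      refine ⟨by simp [hab], rfl, ?_, ?_⟩
      · intro x hx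
        simp only [List.mem_cons, List.not_mem_nil, or_false] at hx
        rcases hx with rfl | rfl <;> assumption
      · intro x hx y hy
        simp only [List.mem_cons, List.not_mem_nil, or_false] at hx hy
        rcases hx with rfl | rfl <;> rcases hy with rfl | rfl
        · exact Commute.refl _
        · exact hc
        · exact hc.symm
        · exact Commute.refl _
    obtain ⟨g, hg⟩ := htt _ _ (hT ha hb hab hc) (hT ha' hb' hab' hc')
    simp only [List.map_cons, List.map_nil, List.cons.injEq, and_true] at hg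
    exact ⟨g, hg.1, hg.2⟩
  · -- six
    have h51 := hpar.c2 a ha b hb
    obtain ⟨x, hx, hxn⟩ : ∃ x ∈ Dd D a ∩ Dd D b, x ∉ ({d1, d2, d3} : Set G₁) := by
      by_contra hcon
      push Not at hcon
      have h1 : (Dd D a ∩ Dd D b).ncard ≤ ({d1, d2, d3} : Set G₁).ncard := Set.ncard_le_ncard hcon (Set.toFinite _)
      have h2 : ({d1, d2, d3} : Set G₁).ncard ≤ 3 := by
        refine le_trans (Set.ncard_insert_le _ _) ?_
        have := Set.ncard_insert_le d2 ({d3} : Set G₁)
        rw [Set.ncard_singleton] at this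
        omega
      omega
    simp only [Set.mem_insert_iff, Set.mem_singleton_iff, not_or] at hxn
    rcases htrip a ha b hb.1 x hx.1.1 hb.2.1.symm hx.1.2.1.symm hx.2.2.1.symm hb.2.2 hx.1.2.2 hx.2.2.2 with h | h
    · exfalso
      obtain ⟨y, hy, z, hz, h1, h2, h3⟩ := h
      have h4 := huniq x hx.1.1 y hy z hz h1 h2 h3
      simp only [List.mem_cons, List.not_mem_nil, or_false] at h4
      rcases h4 with h | h | h | h | h
      · exact hx.1.2.1 h
      · exact hx.2.2.1 h
      · exact hxn.1 h
      · exact hxn.2.1 h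
      · exact hxn.2.2 h
    · obtain ⟨x', y', z', hD', h1, _⟩ := h
      obtain ⟨h2, h3, h4⟩ := h1 0
      refine ⟨[a, b, x, x' 0, y' 0, z' 0], rfl, h2, ?_, h3, ?_⟩
      · intro u hu
        simp only [List.mem_cons, List.not_mem_nil, or_false] at hu
        rcases hu with rfl | rfl | rfl | rfl | rfl | rfl
        · exact ha
        · exact hb.1
        · exact hx.1.1
        · exact (hD' 0).1
        · exact (hD' 0).2.1
        · exact (hD' 0).2.2
      · simpa [mul_assoc] using h4
  · refine ⟨5, by norm_num, [a, b, d1, d2, d3], rfl, hnd, ?_, hcc, by simpa [mul_assoc] using hprod⟩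
    intro u hu
    simp only [List.mem_cons, List.not_mem_nil, or_false] at hu
    rcases hu with rfl | rfl | rfl | rfl | rfl
    · exact ha
    · exact hb.1
    · exact hd1
    · exact hd2
    · exact hd3
  · intro x hx hx1
    obtain ⟨m, _, _, l, _, _, h1, h2, h3⟩ := invP_of_equiv hF hD ⟨a, ha⟩ e x hx hx1
    exact ⟨l, h1, h2, h3⟩

end Cfsg.Agent.Lib.H89EF
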