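import Cfsg.Agent.Lib.H89FB1
/-
The commuting geometry: products of two commuting members, by the Z*-theorem (helper89).
-/
set_option autoImplicit false
set_option linter.all false

namespace Cfsg.Agent.Lib.H89FB

universe w'

variable {G : Type w'} [Group G]

theorem card_comap_two [Finite G] {Z : Subgroup G} [Z.Normal] (hZ : Nat.card Z = 2) (N : Subgroup (G ⧸ Z)) :
    Nat.card (N.comap (QuotientGroup.mk' Z)) = 2 * Nat.card N := by
  have h1 := (N.comap (QuotientGroup.mk' Z)).card_mul_index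
  have h2 := N.card_mul_index
  rw [Subgroup.index_comap_of_surjective _ (QuotientGroup.mk'_surjective Z)] at h1
  have h3 := Z.card_mul_index
  have h4 : Z.index = Nat.card (G ⧸ Z) := rfl
  rw [hZ, h4, ← h2, ← h1] at h3
  have h5 : 0 < N.index := Nat.pos_of_ne_zero Subgroup.index_ne_zero_of_finite
  have h6 : (2 * Nat.card N) * N.index = Nat.card (N.comap (QuotientGroup.mk' Z)) * N.index := by rw [← h3]; ring
  exact (Nat.eq_of_mul_eq_mul_right h5 h6).symm

variable {Δ : Set G} (X : Geo Δ)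
include X

namespace Geo

theorem zst [Finite G] {a b : G} (ha : a ∈ Δ) (hb : b ∈ Δ) (hab : a ≠ b) (hc : Commute a b) :
    (∀ g, Commute g (a * b) → g * a * g⁻¹ = a ∨ g * a * g⁻¹ = b) ∧
      ∀ p ∈ Δ, Commute p (a * b) → Commute p a ∧ Commute p b := by
  classical
  obtain ⟨z, hz⟩ : ∃ z, z = a * b := ⟨_, rfl⟩
  rw [← hz]
  have haa := X.inv a ha
  have hbb := X.inv b hb
  have hzz : z * z = 1 := by
    rw [hz]
    calc a * b * (a * b) = a * (b * a) * b := by group
      _ = a * (a * b) * b := by rw [hc.eq]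
      _ = (a * a) * (b * b) := by group
      _ = 1 := by rw [haa, hbb, one_mul]
  have hz1 : z ≠ 1 := by
    intro h
    apply hab
    rw [hz] at h
    rw [eq_inv_of_mul_eq_one_left h, inv_eq_of_mul_eq_one_left hbb]
  have hbz : a * z = b := by rw [hz, ← mul_assoc, haa, one_mul]
  have hza : Commute z a := by rw [hz]; exact (Commute.refl a).mul_left hc.symm
  have hzb : Commute z b := by rw [hz]; exact hc.mul_left (Commute.refl b)
  obtain ⟨M, hM⟩ : ∃ M, M = Subgroup.centralizer ({z} : Set G) := ⟨_, rfl⟩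
  have hmM : ∀ g, g ∈ M ↔ Commute g z := fun g => by
    rw [hM, Subgroup.mem_centralizer_singleton_iff]
    exact ⟨fun h => h, fun h => h.eq⟩
  obtain ⟨B, hB, hSB⟩ := X.exists_bs (S := {a, b}) (by rintro x (rfl | rfl) <;> assumption) (by
    rintro x (rfl | rfl) y (rfl | rfl)
    · exact Commute.refl _
    · exact hc
    · exact hc.symm
    · exact Commute.refl _)
  have haB : a ∈ B := hSB (by simp)
  have hbB : b ∈ B := hSB (by simp)
  have hBz : ∀ x ∈ B, Commute x z := fun x hx => by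
    rw [hz]; exact (hB.com x hx a haB).mul_right (hB.com x hx b hbB)
  obtain ⟨A, hA⟩ : ∃ A, A = Subgroup.closure B := ⟨_, rfl⟩
  have hAM : A ≤ M := by
    rw [hA, Subgroup.closure_le]
    intro x hx
    exact (hmM x).2 (hBz x hx)
  have hAsq := X.cl_sq hB
  rw [← hA] at hAsq
  obtain ⟨S, hS1, -⟩ := exists_syl hAM (pgroup_of_sq hAsq.1)
  obtain ⟨T, hT⟩ : ∃ T, T = (S : Subgroup M).map M.subtype := ⟨_, rfl⟩
  have hT2 : IsPGroup 2 T := by rw [hT]; exact S.2.map _
  have hBA : ∀ x ∈ B, x ∈ A := fun x hx => by rw [hA]; exact Subgroup.subset_closure hx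
  have hBT : ∀ x ∈ B, x ∈ T := fun x hx => by rw [hT]; exact ⟨_, hS1 x (hBA x hx), rfl⟩
  have hmT : ∀ g (hg : g ∈ M), (⟨g, hg⟩ : M) ∈ (S : Subgroup M) → g ∈ T := fun g hg h => by rw [hT]; exact ⟨_, h, rfl⟩
  have hDT : ∀ p ∈ Δ, p ∈ T → p ∈ B := fun p hp hpT => X.mem_of_norm hB hp (X.norm_of_two hB hT2 hBT p hpT)
  have hzT : z ∈ T := by rw [hz]; exact mul_mem (hBT a haB) (hBT b hbB)
  -- conjugates in T
  have key : ∀ g ∈ M, g * a * g⁻¹ ∈ T → g * a * g⁻¹ = a ∨ g * a * g⁻¹ = b := by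
    intro g hg hT'
    have hcD : g * a * g⁻¹ ∈ Δ := X.cj g a ha
    have heD : g * b * g⁻¹ ∈ Δ := X.cj g b hb
    have hcB := hDT _ hcD hT'
    have h1 : g * a * g⁻¹ * (g * b * g⁻¹) = z := by
      calc g * a * g⁻¹ * (g * b * g⁻¹) = g * (a * b) * g⁻¹ := by group
        _ = g * z * g⁻¹ := by rw [hz]
        _ = z := cj_eq_iff.2 ((hmM g).1 hg)
    have h2 : g * b * g⁻¹ = g * a * g⁻¹ * z := by
      rw [← h1, ← mul_assoc, X.inv _ hcD, one_mul]
    have heB := hDT _ heD (by rw [h2]; exact mul_mem hT' hzT)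
    exact X.pair a ha b hb _ hcD _ heD hab hc (hB.com _ haB _ hcB) (hB.com _ haB _ heB) (hB.com _ hbB _ hcB)
      (hB.com _ hbB _ heB) (hB.com _ hcB _ heB) (by rw [h1, hz])
  -- the quotient
  obtain ⟨z', hz'⟩ : ∃ z' : M, z' = ⟨z, (hmM z).2 (Commute.refl z)⟩ := ⟨_, rfl⟩
  have hzv : (z' : G) = z := by rw [hz']
  have hzz' : z' * z' = 1 := Subtype.ext (by rw [Subgroup.coe_mul, hzv, hzz]; rfl)
  have hcz : ∀ x : M, z' * x = x * z' := fun x => Subtype.ext (by
    rw [Subgroup.coe_mul, Subgroup.coe_mul, hzv]; exact ((hmM x).1 x.2).symm.eq)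
  obtain ⟨Z, hZ⟩ : ∃ Z, Z = Subgroup.zpowers z' := ⟨_, rfl⟩
  have hmZ : ∀ x, x ∈ Z ↔ x = 1 ∨ x = z' := fun x => by rw [hZ]; exact mem_zp hzz' x
  haveI : Z.Normal := by
    refine ⟨fun n hn g => ?_⟩
    rw [hmZ] at hn ⊢
    rcases hn with rfl | rfl
    · left; group
    · right; rw [← hcz g]; group
  have hcardZ : Nat.card Z = 2 := by
    rw [hZ, Nat.card_zpowers]
    haveI : Fact (Nat.Prime 2) := ⟨Nat.prime_two⟩
    exact orderOf_eq_prime (by rw [pow_two]; exact hzz') (fun h => hz1 (by rw [← hzv, h]; rfl))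
  haveI : Fact (Nat.Prime 2) := ⟨Nat.prime_two⟩
  have haM : a ∈ M := (hmM a).2 hza.symm
  obtain ⟨mk, hmk⟩ : ∃ mk : M →* M ⧸ Z, mk = QuotientGroup.mk' Z := ⟨_, rfl⟩
  have hmks : Function.Surjective mk := by rw [hmk]; exact QuotientGroup.mk'_surjective Z
  have hmk1 : ∀ x, mk x = 1 ↔ x ∈ Z := fun x => by rw [hmk]; exact QuotientGroup.eq_one_iff x
  have hZS : ∀ x ∈ Z, x ∈ (S : Subgroup M) := by
    intro x hx
    rcases (hmZ x).1 hx with rfl | rfl
    · exact one_mem _
    · rw [hz']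
      have : z ∈ A := by rw [hz]; exact mul_mem (hBA a haB) (hBA b hbB)
      exact hS1 z this
  obtain ⟨u, hu⟩ : ∃ u, u = mk ⟨a, haM⟩ := ⟨_, rfl⟩
  have hu2 : orderOf u = 2 := by
    apply orderOf_eq_prime
    · rw [pow_two, hu, ← map_mul, hmk1, hmZ]
      left; exact Subtype.ext haa
    · intro h
      rw [hu, hmk1, hmZ] at h
      rcases h with h | h
      · exact X.one a ha (congrArg Subtype.val h)
      · have h1 : a = z := by rw [← hzv, ← h]
        rw [← h1, haa] at hbz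
        exact X.one b hb hbz.symm
  have huP : u ∈ S.mapSurjective hmks := by
    show u ∈ ((S.mapSurjective hmks : Sylow 2 (M ⧸ Z)) : Subgroup (M ⧸ Z))
    rw [Sylow.coe_mapSurjective, hu]
    exact ⟨_, hS1 a (hBA a haB), rfl⟩
  have hiso : ∀ q : M ⧸ Z, q * u * q⁻¹ ∈ S.mapSurjective hmks → q * u * q⁻¹ = u := by
    intro q hq
    obtain ⟨g, rfl⟩ := hmks q
    change mk g * u * (mk g)⁻¹ ∈ ((S.mapSurjective hmks : Sylow 2 (M ⧸ Z)) : Subgroup (M ⧸ Z)) at hq
    rw [Sylow.coe_mapSurjective, hu, ← map_mul, ← map_inv, ← map_mul] at hq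
    obtain ⟨s, hs, hse⟩ := hq
    have h1 : s⁻¹ * (g * ⟨a, haM⟩ * g⁻¹) ∈ Z := by
      rw [← hmk1, map_mul, map_inv, hse, inv_mul_cancel]
    have h2 : g * ⟨a, haM⟩ * g⁻¹ ∈ (S : Subgroup M) := by
      have := mul_mem hs (hZS _ h1)
      rwa [← mul_assoc, mul_inv_cancel, one_mul] at this
    have h3 : (g : G) * a * (g : G)⁻¹ ∈ T := by rw [hT]; exact ⟨_, h2, rfl⟩
    rw [hu, ← map_mul, ← map_inv, ← map_mul]
    rcases key g g.2 h3 with h4 | h4
    · congr 1
      exact Subtype.ext h4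
    · have h5 : g * ⟨a, haM⟩ * g⁻¹ = ⟨a, haM⟩ * z' := Subtype.ext (by
        show (g : G) * a * (g : G)⁻¹ = a * (z' : G)
        rw [h4, hzv, hbz])
      rw [h5, map_mul, (hmk1 z').2 ((hmZ z').2 (Or.inr rfl)), mul_one]
  obtain ⟨N, hNn, hNodd, hN⟩ := Cfsg.Agent.S0215.result (S.mapSurjective hmks) u hu2 huP hiso
  have hcN : Nat.card (N.comap mk) = 2 * Nat.card N := by rw [hmk]; exact card_comap_two hcardZ N
  obtain ⟨N', hN'⟩ : ∃ N' : Subgroup G, N' = (N.comap mk).map M.subtype := ⟨_, rfl⟩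
  have hcN' : Nat.card N' = 2 * Nat.card N := by
    rw [hN', Nat.card_congr ((N.comap mk).equivMapOfInjective _ M.subtype_injective).toEquiv.symm, hcN]
  have hmN' : ∀ g (hg : g ∈ M), g ∈ N' ↔ mk ⟨g, hg⟩ ∈ N := by
    intro g hg
    rw [hN']
    constructor
    · rintro ⟨y, hy, hyg⟩
      have : y = ⟨g, hg⟩ := Subtype.ext hyg
      rw [← this]; exact hy
    · intro h; exact ⟨_, h, rfl⟩
  have hN'M : ∀ x ∈ N', x ∈ M := by
    intro x hx
    rw [hN'] at hx
    obtain ⟨y, -, rfl⟩ := hx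
    exact y.2
  have hzM : z ∈ M := (hmM z).2 (Commute.refl z)
  have hzN' : z ∈ N' := by
    rw [hmN' z hzM]
    have : mk ⟨z, hzM⟩ = 1 := by rw [hmk1, hmZ]; right; exact Subtype.ext hzv.symm
    rw [this]; exact one_mem _
  obtain ⟨Y, hYN, hYodd, hY1, hY2⟩ := odd_part hzN' hzz hz1 (fun x hx => ((hmM x).1 (hN'M x hx)).symm) hNodd hcN'
  have hodd : ∀ y ∈ Y, Odd (orderOf y) := by
    intro y hy
    have h1 : orderOf y ∣ Nat.card Y := by
      have := orderOf_dvd_natCard (⟨y, hy⟩ : Y)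
      rwa [Subgroup.orderOf_mk] at this
    exact Odd.of_dvd_nat hYodd h1
  have hYn : ∀ g ∈ M, ∀ y ∈ Y, g * y * g⁻¹ ∈ Y := by
    intro g hg y hy
    have hyM := hN'M y (hYN hy)
    have h1 : g * y * g⁻¹ ∈ M := mul_mem (mul_mem hg hyM) (inv_mem hg)
    apply hY2
    · rw [hmN' _ h1]
      have h2 := (hmN' y hyM).1 (hYN hy)
      have h3 := hNn.conj_mem _ h2 (mk ⟨g, hg⟩)
      rwa [← map_mul, ← map_inv, ← map_mul] at h3
    · have h2 : orderOf (g * y * g⁻¹) = orderOf y := by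
        have := (MulAut.conj g).orderOf_eq y
        rwa [MulAut.conj_apply] at this
      rw [h2]; exact hodd y hy
  -- Y centralizes a
  have hEA : Cfsg.IsElementaryAbelian 2 A :=
    ⟨⟨⟨fun x y => Subtype.ext (hAsq.2 x x.2 y y.2).eq⟩⟩, fun x hx => by rw [pow_two]; exact hAsq.1 x hx⟩
  have hA1 : A ≠ ⊥ := by
    intro h
    have := hBA a haB
    rw [h, Subgroup.mem_bot] at this
    exact X.one a ha this
  have hAY : A ≤ Subgroup.normalizer (Y : Set G) := by
    intro x hx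
    rw [Subgroup.mem_normalizer_iff]
    intro y
    constructor
    · exact hYn x (hAM hx) y
    · intro h
      have := hYn x⁻¹ (inv_mem (hAM hx)) _ h
      have e : x⁻¹ * (x * y * x⁻¹) * (x⁻¹)⁻¹ = y := by group
      rwa [e] at this
  have hcent : Y ≤ Subgroup.centralizer ({a} : Set G) := by
    apply Cfsg.Agent.Lib.CoprimeHyper.le_of_hyper_eq (p := 2) hEA hA1 (fun h => by
      rw [← even_iff_two_dvd] at h
      exact (Nat.not_even_iff_odd.2 hYodd) h) hAY
    intro B₀ hB₀ hrel y hy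
    rw [Subgroup.mem_centralizer_singleton_iff]
    obtain ⟨hyY, hyB₀⟩ := Subgroup.mem_inf.1 hy
    rw [hA] at hrel
    obtain ⟨t, htB, htB₀⟩ := X.exists_mem_index hB hrel
    have hyt : Commute y t := ((Subgroup.mem_centralizer_iff.1 hyB₀) t htB₀).symm
    have hyz : Commute y z := (hmM y).1 (hN'M y (hYN hyY))
    show y * a = a * y
    by_cases hta : t = a
    · rw [← hta]; exact hyt.eq
    by_cases htb : t = b
    · rw [htb] at hyt
      have : a = b * z := by rw [← hbz, mul_assoc, hzz, mul_one]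
      rw [this]; exact (hyt.mul_right hyz).eq
    have htD := hB.sub t htB
    -- the hexad
    have hperp : ∀ v ∈ Δ, Commute v t → Commute v z → Commute v a ∧ Commute v b := by
      intro v hv hvt hvz
      rw [hz] at hvz
      refine ⟨X.cz t htD a ha b hb v hv hta htb hab (hB.com a haB t htB) (hB.com b hbB t htB) hvt hc hvz, ?_⟩
      refine X.cz t htD b hb a ha v hv htb hta (Ne.symm hab) (hB.com b hbB t htB) (hB.com a haB t htB) hvt hc.symm ?_
      rw [← hc.eq]; exact hvz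
    have haH : ∀ g, Commute g t → Commute g z → g * a * g⁻¹ ∈ HX Δ t a b := by
      intro g hgt hgz
      refine ⟨X.cj g a ha, fun v hv hvt hva hvb => ?_⟩
      rw [← cm_conj g⁻¹]
      have e1 : g⁻¹ * (g * a * g⁻¹) * (g⁻¹)⁻¹ = a := by group
      rw [e1]
      refine (hperp _ (X.cj g⁻¹ v hv) ?_ ?_).1
      · have e2 : g⁻¹ * t * (g⁻¹)⁻¹ = t := cj_eq_iff.2 hgt.inv_left
        rw [← e2, cm_conj]; exact hvt
      · have e2 : g⁻¹ * z * (g⁻¹)⁻¹ = z := cj_eq_iff.2 hgz.inv_left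
        rw [← e2, cm_conj, hz]; exact hva.mul_right hvb
    have h1 := haH y hyt hyz
    have h2 : Commute a (y * a * y⁻¹) := h1.2 a ha (hB.com a haB t htB) (Commute.refl a) hc
    -- the commutator
    have h3 : y * (a * y⁻¹ * a⁻¹) ∈ Y := mul_mem hyY (hYn a haM _ (inv_mem hyY))
    have ia : a⁻¹ = a := inv_eq_of_mul_eq_one_left haa
    have h4 : y * (a * y⁻¹ * a⁻¹) = (y * a * y⁻¹) * a := by rw [ia]; group
    have h5 : (y * a * y⁻¹) * a * ((y * a * y⁻¹) * a) = 1 := by
      calc (y * a * y⁻¹) * a * ((y * a * y⁻¹) * a) = (y * a * y⁻¹) * (a * (y * a * y⁻¹)) * a := by group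
        _ = (y * a * y⁻¹) * ((y * a * y⁻¹) * a) * a := by rw [h2.eq]
        _ = ((y * a * y⁻¹) * (y * a * y⁻¹)) * (a * a) := by group
        _ = 1 := by rw [X.inv _ (X.cj y a ha), haa, one_mul]
    have h6 := odd_sq_one (hodd _ h3) (by rw [h4]; exact h5)
    rw [h4] at h6
    have h7 : y * a * y⁻¹ = a := by rw [eq_inv_of_mul_eq_one_left h6, ia]
    exact (cj_eq_iff.1 h7).eq
  -- conclusion
  have main : ∀ g, Commute g z → g * a * g⁻¹ = a ∨ g * a * g⁻¹ = b := by
    intro g hg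
    have hgM := (hmM g).2 hg
    obtain ⟨c, hcd⟩ : ∃ c, c = g * a * g⁻¹ := ⟨_, rfl⟩
    have hcD : c ∈ Δ := by rw [hcd]; exact X.cj g a ha
    have hcM : c ∈ M := by rw [hcd]; exact mul_mem (mul_mem hgM haM) (inv_mem hgM)
    rw [← hcd]
    have ia : a⁻¹ = a := inv_eq_of_mul_eq_one_left haa
    have h1 : a * c ∈ N' := by
      rw [hmN' _ (mul_mem haM hcM)]
      have h2 := hN (mk ⟨g, hgM⟩)
      have h3 : u * mk ⟨g, hgM⟩ * u⁻¹ * (mk ⟨g, hgM⟩)⁻¹ = mk ⟨a * c, mul_mem haM hcM⟩ := by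
        rw [hu, ← map_mul, ← map_inv, ← map_mul, ← map_inv, ← map_mul]
        congr 1
        apply Subtype.ext
        show a * g * a⁻¹ * g⁻¹ = a * c
        rw [hcd, ia]; group
      rw [← h3]; exact h2
    have h2 : ∀ y ∈ Y, Commute a y := fun y hy => (show y * a = a * y from Subgroup.mem_centralizer_singleton_iff.1 (hcent hy)).symm
    have hac : Commute a c := by
      rcases hY1 _ h1 with h | h
      · have h3 := h2 _ h
        have h4 := (Commute.refl a).mul_right h3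
        have h5 : a * (a * c) = c := by rw [← mul_assoc, haa, one_mul]
        rwa [h5] at h4
      · have h3 := h2 _ h
        have h4 := ((Commute.refl a).mul_right h3).mul_right hza.symm
        have h5 : a * (a * c * z) * z = c := by
          calc a * (a * c * z) * z = (a * a) * c * (z * z) := by group
            _ = c := by rw [haa, hzz, one_mul, mul_one]
        rwa [h5] at h4
    have hcc := X.inv c hcD
    have hsq : a * c * (a * c) = 1 := by
      calc a * c * (a * c) = a * (c * a) * c := by group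
        _ = a * (a * c) * c := by rw [hac.eq]
        _ = (a * a) * (c * c) := by group
        _ = 1 := by rw [haa, hcc, one_mul]
    rcases hY1 _ h1 with h | h
    · left
      have h3 := odd_sq_one (hodd _ h) hsq
      rw [← inv_eq_of_mul_eq_one_right h3, ia]
    · right
      have hzc : Commute z c := ((hmM c).1 hcM).symm
      have hs2 : a * c * z * (a * c * z) = 1 := by
        have h4 : Commute z (a * c) := hza.mul_right hzc
        calc a * c * z * (a * c * z) = a * c * (z * (a * c)) * z := by group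
          _ = a * c * ((a * c) * z) * z := by rw [h4.eq]
          _ = (a * c * (a * c)) * (z * z) := by group
          _ = 1 := by rw [hsq, hzz, one_mul]
      have h3 := odd_sq_one (hodd _ h) hs2
      have h5 : c = a * z := by
        calc c = a * a * c * (z * z) := by rw [haa, hzz]; group
          _ = a * (a * c * z) * z := by group
          _ = a * z := by rw [h3, mul_one]
      rw [h5, hbz]
  refine ⟨main, ?_⟩
  intro p hp hpz
  -- p is conjugate into the base
  have hpM := (hmM p).2 hpz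
  have hP : Subgroup.zpowers p ≤ M := by rw [Subgroup.zpowers_le]; exact hpM
  have hpp := X.inv p hp
  have hP2 : IsPGroup 2 (Subgroup.zpowers p) := pgroup_of_sq (fun x hx => by
    rcases (mem_zp hpp x).1 hx with rfl | rfl
    · rw [one_mul]
    · exact hpp)
  obtain ⟨S', hS'1, hS'2⟩ := exists_syl hP hP2
  obtain ⟨m, hm, hmA⟩ := hS'2 A hAM (pgroup_of_sq hAsq.1)
  have hB' := X.bs_conj hB m
  have hT'2 : IsPGroup 2 ((S' : Subgroup M).map M.subtype) := S'.2.map _
  have hB'T : ∀ x ∈ (fun x => m * x * m⁻¹) '' B, x ∈ (S' : Subgroup M).map M.subtype := by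
    rintro _ ⟨x, hx, rfl⟩
    obtain ⟨h, h'⟩ := hmA x (hBA x hx)
    exact ⟨_, h', rfl⟩
  have hpT : p ∈ (S' : Subgroup M).map M.subtype := ⟨_, hS'1 p (Subgroup.mem_zpowers p), rfl⟩
  have hpB := X.mem_of_norm hB' hp (X.norm_of_two hB' hT'2 hB'T p hpT)
  have hpa : Commute p (m * a * m⁻¹) := hB'.com _ hpB _ ⟨a, haB, rfl⟩
  have hpb : Commute p (m * b * m⁻¹) := hB'.com _ hpB _ ⟨b, hbB, rfl⟩
  have hmz : m * a * m⁻¹ * (m * b * m⁻¹) = z := by
    calc m * a * m⁻¹ * (m * b * m⁻¹) = m * (a * b) * m⁻¹ := by group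
      _ = m * z * m⁻¹ := by rw [hz]
      _ = z := cj_eq_iff.2 ((hmM m).1 hm)
  rcases main m ((hmM m).1 hm) with h | h
  · rw [h] at hpa hmz
    refine ⟨hpa, ?_⟩
    have : m * b * m⁻¹ = b := by
      have h1 : m * b * m⁻¹ = a * z := by rw [← hmz, ← mul_assoc, haa, one_mul]
      rw [h1, hbz]
    rwa [this] at hpb
  · rw [h] at hpa hmz
    refine ⟨?_, hpa⟩
    have : m * b * m⁻¹ = a := by
      have h1 : m * b * m⁻¹ = b * z := by rw [← hmz, ← mul_assoc, hbb, one_mul]
      rw [h1, ← hbz, mul_assoc, hzz, mul_one]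
    rwa [this] at hpb

end Geo

end Cfsg.Agent.Lib.H89FB
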