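import Cfsg.Agent.Lib.H8RuMC
import Cfsg.Agent.Lib.H8RuMX5
import Cfsg.Agent.Lib.H8RuMXE

/-!
helper8: words for the multiplier of the Rudvalis group.
-/
set_option autoImplicit false
set_option maxRecDepth 100000
set_option maxHeartbeats 400000

namespace Cfsg.Agent.Lib.H8RuM

open Cfsg Cfsg.Spor Cfsg.Agent.Lib.H58SM Cfsg.Agent.Lib.H13EC
open Cfsg.Agent.Lib.H8Ru (mW wN bl allLt allLt_iff chkFix)

def uw : List ℕ := [0, 2, 0, 2, 0, 2, 0, 2]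
def uwi : List ℕ := [3, 1, 3, 1, 3, 1, 3, 1]
def zw : List ℕ := [0, 0, 0, 0, 2, 0, 0, 0, 3, 0, 0, 0, 3, 0, 0, 0, 3, 0, 0, 0, 3, 3, 1, 1, 1, 1]
def zwi : List ℕ := [0, 0, 0, 0, 2, 2, 1, 1, 1, 2, 1, 1, 1, 2, 1, 1, 1, 2, 1, 1, 1, 3, 1, 1, 1, 1]
def sbT : List (List ℕ) := [uw, uwi, zw, zwi]
def sbR (l : ℕ) : List ℕ := sbT.getD l []

/-- value of a word in the two generators on a code -/
def eG (w : List ℕ) : ℕ → ℕ := List.rec (motive := fun _ => ℕ → ℕ) (fun c => c) (fun l _ ih c => frc (wN (sbR l) c) ih) w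

/-- the word `w` in the generators is `i ^ a` times the word `v` in the letters -/
def ckR (w v : List ℕ) (a : ℕ) : Bool :=
  (w.all fun l => Nat.blt l 4) && allLt 28 fun k => Nat.beq (eG w (Nat.mul 4 (bl k))) (H8Ru.rot (wN v (Nat.mul 4 (bl k))) a)

theorem u_inv : chkFix (uw ++ uwi) 28 = true := by decide +kernel
theorem z_inv : chkFix (zw ++ zwi) 28 = true := by decide +kernel

def vA : List ℕ := [0, 3, 0, 3, 0, 2, 0, 3, 0, 3, 0, 2, 0, 2, 0, 3, 0, 2, 0, 3, 0, 3, 0, 3, 0, 3, 0, 2, 0, 2, 0, 2, 0, 3, 0, 2, 0, 3, 0, 2, 0, 2, 0, 2, 0, 3, 0, 3, 0, 2, 0, 3, 0, 3, 0, 2, 0, 2, 0, 2, 0, 3, 0, 2, 0, 2, 0, 2, 0, 3, 0, 2, 0, 2, 0, 3, 0, 2, 0, 2]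
def vB : List ℕ := [0, 3, 0, 3, 0, 2, 0, 2, 0, 3, 0, 2, 0, 3, 0, 3, 0, 2, 0, 2, 0, 3, 0, 2, 0, 2, 0, 3, 0, 3, 0, 3, 0, 3, 0, 2, 0, 3, 0, 3, 0, 2, 0, 2, 0, 2, 0, 3, 0, 2, 0, 3, 0, 2, 0, 2, 0, 3, 0, 2, 0, 3, 0, 3, 0, 3, 0, 2, 0, 3, 0, 2, 0, 2, 0]
theorem vA_ok : ckR vA [0] 2 = true := by decide +kernel
theorem vB_ok : ckR vB [2] 0 = true := by decide +kernel

def rO : List ℕ := [0, 0, 2, 0, 0, 0, 0, 2, 0, 2, 0, 0]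
theorem rX2 : alln (fun j => ckR (X2.WL.getD j []) [] (rO.getD j 0)) 12 = true := by decide +kernel
theorem eqX5 : X5.WL = X2.WL := by decide +kernel
theorem rXE : alln (fun j => ckR (XE.WL.getD j []) [] (rO.getD j 0)) 12 = true := by decide +kernel

def mS : List (List ℕ) := [[2, 0, 3, 0, 0, 0, 0, 3, 1, 2, 0, 2, 1, 2, 1], [1, 1, 3, 1, 3, 3, 3, 0, 0, 0, 2, 0, 0, 3, 0], [3, 1, 3, 1, 2, 0, 2, 2, 1, 3, 3, 1, 2, 2, 2], [1, 1, 1, 3, 1, 2, 1, 1, 1, 3, 0, 3, 1, 3, 3, 1], [1, 3, 0, 3, 0, 0, 0, 0, 3, 1, 3, 1, 1, 2, 2, 2], [1, 2, 0, 2, 2, 2, 2, 2, 0, 2, 2, 1, 3, 3, 0, 3], [3, 0, 0, 0, 0, 3, 1, 3, 3, 0, 3, 3, 3, 0], [1, 1, 1, 1, 2, 1, 2, 1, 1, 1, 3, 0, 3, 1, 1], [3, 3, 1, 3, 3, 1, 3, 3, 3, 1, 3, 1]]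
def sO : List ℕ := [0, 2, 0, 0, 2, 0, 2, 2, 0]
theorem sXE : alln (fun j => ckR (XE.WL.getD (Nat.add 12 j) []) (mW (mS.getD j [])) (sO.getD j 0)) 9 = true := by decide +kernel

end Cfsg.Agent.Lib.H8RuM
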