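import Mathlib.GroupTheory.Perm.Basic
import Mathlib.GroupTheory.Commutator.Basic
import Mathlib.Tactic

/-!
Gluing homomorphisms defined on the point stabilisers of a transitive action (helper92)
-/

set_option autoImplicit false

namespace Cfsg.Agent.Lib.H92Cover

/-- compatible homomorphisms on the point stabilisers -/
structure Glue {Γ Ω A : Type*} [Group Γ] [CommGroup A] (ρ : Γ →* Equiv.Perm Ω) (D : Ω → Prop) (N : Ω → Ω → Prop)
    (θ : Ω → Γ → A) : Prop where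
  hD : ∀ g a, D a → D (ρ g a)
  mul : ∀ a, D a → ∀ g h, ρ g a = a → ρ h a = a → θ a (g * h) = θ a g * θ a h
  conj : ∀ a, D a → ∀ g h, ρ h a = a → θ (ρ g a) (g * h * g⁻¹) = θ a h
  ag : ∀ a b, D a → D b → ∀ g, ρ g a = a → ρ g b = b → θ a g = θ b g
  hN : ∀ g a b, N a b → N (ρ g a) (ρ g b)
  two : ∀ a b c, D a → D b → D c → N a b → N a c → ∃ h, ρ h a = a ∧ ρ h b = c
  three : ∀ a a' b c, D a → D a' → D b → D c → N a b → N a c → N a' b → N a' c → ∀ h h', ρ h a = a → ρ h b = c →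
    ρ h' a' = a' → ρ h' b = c → θ a h * θ b (h⁻¹ * h') = θ a' h'
  four : ∀ b c, D b → D c → ∃ a, D a ∧ N a b ∧ N a c
  five : ∀ a b, D a → D b → N a b ∨ ∀ g, ρ g a = a ↔ ρ g b = b

section

variable {Γ Ω A : Type*} [Group Γ] [CommGroup A] {ρ : Γ →* Equiv.Perm Ω} {D : Ω → Prop} {N : Ω → Ω → Prop}
  {θ : Ω → Γ → A}

theorem inv_fix {g : Γ} {a : Ω} (h : ρ g a = a) : ρ g⁻¹ a = a := by
  rw [map_inv, Equiv.Perm.inv_eq_iff_eq]; exact h.symm

theorem inv_of {g : Γ} {a b : Ω} (h : ρ g a = b) : ρ g⁻¹ b = a := by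
  rw [map_inv, Equiv.Perm.inv_eq_iff_eq]; exact h.symm

theorem mul_of {g h : Γ} {a b c : Ω} (h1 : ρ h a = b) (h2 : ρ g b = c) : ρ (g * h) a = c := by
  rw [map_mul, Equiv.Perm.mul_apply, h1, h2]

theorem Glue.one (H : Glue ρ D N θ) {a : Ω} (ha : D a) : θ a 1 = 1 := by
  have h1 : ρ 1 a = a := by rw [map_one]; rfl
  have h := H.mul a ha 1 1 h1 h1
  rw [mul_one] at h
  exact (mul_eq_left.1 h.symm)

/-- existence of the extension -/
theorem Glue.exists_hom (H : Glue ρ D N θ) {b : Ω} (hb : D b) :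
    ∃ Θ : Γ →* A, ∀ a, D a → ∀ g, ρ g a = a → Θ g = θ a g := by
  classical
  have hex : ∀ g : Γ, ∃ p : Ω × Γ, D p.1 ∧ N p.1 b ∧ N p.1 (ρ g b) ∧ ρ p.2 p.1 = p.1 ∧ ρ p.2 b = ρ g b := by
    intro g
    obtain ⟨a, ha, h1, h2⟩ := H.four b (ρ g b) hb (H.hD g b hb)
    obtain ⟨h, h3, h4⟩ := H.two a b (ρ g b) ha hb (H.hD g b hb) h1 h2
    exact ⟨(a, h), ha, h1, h2, h3, h4⟩
  choose p hp using hex
  let Θ0 : Γ → A := fun g => θ (p g).1 (p g).2 * θ b ((p g).2⁻¹ * g)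
  -- any choice gives the same value
  have key : ∀ g a h, D a → N a b → N a (ρ g b) → ρ h a = a → ρ h b = ρ g b → Θ0 g = θ a h * θ b (h⁻¹ * g) := by
    intro g a h ha h1 h2 h3 h4
    obtain ⟨q1, q2, q3, q4, q5⟩ := hp g
    have h6 := H.three a (p g).1 b (ρ g b) ha q1 hb (H.hD g b hb) h1 h2 q2 q3 h (p g).2 h3 h4 q4 q5
    show θ (p g).1 (p g).2 * θ b ((p g).2⁻¹ * g) = _
    rw [← h6, mul_assoc, ← H.mul b hb _ _ (mul_of q5 (inv_of h4)) (mul_of rfl (inv_of q5))]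
    congr 2
    group
  have hfix : ∀ a, D a → ∀ h, ρ h a = a → ∀ g, Θ0 (h * g) = θ a h * Θ0 g := by
    intro a ha h hh g
    have hg := H.hD g b hb
    rcases H.five a b ha hb with h5 | h5
    · rcases H.five a (ρ g b) ha hg with h6 | h6
      · -- the generic case
        obtain ⟨h1, e1, e2⟩ := H.two a b (ρ g b) ha hb hg h5 h6
        rw [key g a h1 ha h5 h6 e1 e2]
        have e3 : N a (ρ (h * g) b) := by
          have := H.hN h a (ρ g b) h6
          rw [hh] at this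
          rw [map_mul]; exact this
        rw [key (h * g) a (h * h1) ha h5 e3 (mul_of e1 hh) (by rw [map_mul, map_mul, Equiv.Perm.mul_apply,
          Equiv.Perm.mul_apply, e2]), H.mul a ha _ _ hh e1]
        have e4 : (h * h1)⁻¹ * (h * g) = h1⁻¹ * g := by group
        rw [e4, mul_assoc]
      · -- `h` fixes `g b`
        have hhg : ρ h (ρ g b) = ρ g b := (h6 h).1 hh
        obtain ⟨a', ha', f1, f2⟩ := H.four b (ρ g b) hb hg
        obtain ⟨h1, e1, e2⟩ := H.two a' b (ρ g b) ha' hb hg f1 f2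
        rw [key g a' h1 ha' f1 f2 e1 e2]
        have e3 : ρ (h * g) b = ρ g b := by rw [map_mul]; exact hhg
        rw [key (h * g) a' h1 ha' f1 (by rw [e3]; exact f2) e1 (by rw [e3, e2])]
        have e4 : h1⁻¹ * (h * g) = (h1⁻¹ * h * h1⁻¹⁻¹) * (h1⁻¹ * g) := by group
        have e5 : ρ (h1⁻¹ * h * h1⁻¹⁻¹) b = b := by
          rw [inv_inv]
          exact mul_of e2 (mul_of hhg (inv_of e2))
        have e6 : θ b (h1⁻¹ * h * h1⁻¹⁻¹) = θ a h := by
          have := H.conj (ρ g b) hg h1⁻¹ h hhg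
          rw [inv_of e2] at this
          rw [this, H.ag a (ρ g b) ha hg h hh hhg]
        rw [e4, H.mul b hb _ _ e5 (mul_of rfl (inv_of e2)), e6]
        exact mul_left_comm _ _ _
    · -- `h` fixes `b`
      have hhb : ρ h b = b := (h5 h).1 hh
      obtain ⟨a', ha', f1, f2⟩ := H.four b (ρ g b) hb hg
      obtain ⟨h1, e1, e2⟩ := H.two a' b (ρ g b) ha' hb hg f1 f2
      rw [key g a' h1 ha' f1 f2 e1 e2]
      have e3 : ρ (h * h1 * h⁻¹) (ρ h a') = ρ h a' := mul_of (inv_of rfl) (mul_of e1 rfl)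
      have e4 : ρ (h * h1 * h⁻¹) b = ρ (h * g) b := by
        refine mul_of (inv_fix hhb) ?_
        rw [map_mul, map_mul, Equiv.Perm.mul_apply, Equiv.Perm.mul_apply, e2]
      have e5 : N (ρ h a') b := by
        have := H.hN h a' b f1
        rwa [hhb] at this
      have e6 : N (ρ h a') (ρ (h * g) b) := by
        have := H.hN h a' _ f2
        rw [map_mul]; exact this
      rw [key (h * g) (ρ h a') (h * h1 * h⁻¹) (H.hD h a' ha') e5 e6 e3 e4, H.conj a' ha' h h1 e1]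
      have e7 : (h * h1 * h⁻¹)⁻¹ * (h * g) = h * (h1⁻¹ * g) := by group
      rw [e7, H.mul b hb _ _ hhb (mul_of rfl (inv_of e2)), ← H.ag a b ha hb h hh hhb]
      exact mul_left_comm _ _ _
  have hΘ1 : Θ0 1 = 1 := by
    obtain ⟨a, ha, f1, -⟩ := H.four b b hb hb
    have e1 : ρ 1 a = a := by rw [map_one]; rfl
    have e2 : ρ 1 b = b := by rw [map_one]; rfl
    rw [key 1 a 1 ha f1 (by rw [e2]; exact f1) e1 rfl, H.one ha, inv_one, mul_one, H.one hb, one_mul]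
  -- decomposition of an element
  have hdec : ∀ g : Γ, ∃ a a' h h', D a ∧ D a' ∧ ρ h a = a ∧ ρ h' a' = a' ∧ g = h * h' := by
    intro g
    obtain ⟨q1, q2, q3, q4, q5⟩ := hp g
    exact ⟨(p g).1, b, (p g).2, (p g).2⁻¹ * g, q1, hb, q4, mul_of rfl (inv_of q5), by group⟩
  have hmul : ∀ g g', Θ0 (g * g') = Θ0 g * Θ0 g' := by
    intro g g'
    obtain ⟨a, a', h, h', ha, ha', e1, e2, rfl⟩ := hdec g
    have e3 := hfix a' ha' h' e2 1
    rw [mul_one, hΘ1, mul_one] at e3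
    rw [mul_assoc, hfix a ha h e1, hfix a' ha' h' e2, hfix a ha h e1, e3, mul_assoc]
  refine ⟨⟨⟨Θ0, hΘ1⟩, hmul⟩, ?_⟩
  intro a ha g hg
  have := hfix a ha g hg 1
  rw [mul_one, hΘ1, mul_one] at this
  exact this

end

end Cfsg.Agent.Lib.H92Cover
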