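import Cfsg.Agent.Lib.H92Cover
import Cfsg.Agent.Lib.H92StemB

/-!
Stem extensions of permutation groups with perfect point stabilisers having trivial multiplier (helper92)
-/

set_option autoImplicit false

namespace Cfsg.Agent.Lib.H92Cover

open Cfsg Subgroup Cfsg.Agent.Lib.SchurSylow
open scoped commutatorElement

universe u v

/-! ### the canonical lift of a perfect subgroup with trivial multiplier -/

section lift

variable {Γ G : Type u} [Group Γ] [Group G] (σ : Γ →* G)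

/-- the derived group of the preimage -/
def DD (H : Subgroup G) : Subgroup Γ := ⁅H.comap σ, H.comap σ⁆

variable {σ}

theorem DD_le (H : Subgroup G) : DD σ H ≤ H.comap σ := Subgroup.commutator_le_self _

theorem map_DD (hσ : Function.Surjective σ) {H : Subgroup G} (hp : ⁅H, H⁆ = H) : (DD σ H).map σ = H := by
  rw [DD, Subgroup.map_commutator, Subgroup.map_comap_eq_self_of_surjective hσ, hp]

theorem exists_DD (hσ : Function.Surjective σ) {H : Subgroup G} (hp : ⁅H, H⁆ = H) {g : Γ} (hg : σ g ∈ H) :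
    ∃ z ∈ σ.ker, g * z⁻¹ ∈ DD σ H := by
  rw [← map_DD hσ hp] at hg
  obtain ⟨d, hd, hdg⟩ := hg
  refine ⟨d⁻¹ * g, by rw [MonoidHom.mem_ker, map_mul, map_inv, hdg, inv_mul_cancel], ?_⟩
  have : g * (d⁻¹ * g)⁻¹ = d := by group
  rw [this]; exact hd

theorem commutator_DD (hσ : IsStemExtension σ) {H : Subgroup G} (hp : ⁅H, H⁆ = H) :
    ⁅DD σ H, DD σ H⁆ = DD σ H := by
  apply le_antisymm (Subgroup.commutator_le_self _)
  conv_lhs => rw [DD]
  rw [Subgroup.commutator_le]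
  intro g hg k hk
  obtain ⟨z, hz, hd⟩ := exists_DD hσ.1 hp hg
  obtain ⟨w, hw, he⟩ := exists_DD hσ.1 hp hk
  have hzc := Subgroup.mem_center_iff.1 (hσ.2.1 hz)
  have hwc := Subgroup.mem_center_iff.1 (hσ.2.1 hw)
  set d := g * z⁻¹ with hdd
  set e := k * w⁻¹ with hee
  have h1 : g = z * d := by rw [← hzc, hdd]; group
  have h2 : k = w * e := by rw [← hwc, hee]; group
  have h3 : ⁅g, k⁆ = ⁅d, e⁆ := by
    rw [h1, h2]
    exact Cfsg.Agent.Lib.H92Stem.comm_cen (fun x => (hwc x).symm) (fun x => (hzc x).symm) d e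
  rw [h3]
  exact Subgroup.commutator_mem_commutator hd he

theorem DD_inf (hσ : IsStemExtension σ) [Finite Γ] {H : Subgroup G} (hp : ⁅H, H⁆ = H) (hH : StemDvd H 1) :
    DD σ H ⊓ σ.ker = ⊥ := by
  let τ : DD σ H →* H := (σ.comp (DD σ H).subtype).codRestrict H (fun x => DD_le (σ := σ) H x.2)
  have hτ : ∀ x : DD σ H, ((τ x : H) : G) = σ x := fun _ => rfl
  have hst : IsStemExtension τ := by
    refine ⟨?_, ?_, ?_⟩
    · rintro ⟨h, hh⟩
      have hh' := hh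
      rw [← map_DD hσ.1 hp] at hh'
      obtain ⟨d, hd, hdh⟩ := hh'
      exact ⟨⟨d, hd⟩, Subtype.ext hdh⟩
    · intro x hx
      have h1 : σ x = 1 := by rw [← hτ, MonoidHom.mem_ker.1 hx]; rfl
      rw [Subgroup.mem_center_iff]
      intro y
      exact Subtype.ext (Subgroup.mem_center_iff.1 (hσ.2.1 h1) y)
    · intro x _
      have h1 : (x : Γ) ∈ ⁅DD σ H, DD σ H⁆ := by rw [commutator_DD hσ hp]; exact x.2
      rw [← map_subtype_commutator] at h1
      obtain ⟨y, hy, hyx⟩ := h1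
      rw [← (Subtype.ext hyx : y = x)]; exact hy
  have h1 := hH _ τ hst
  rw [Nat.dvd_one, Subgroup.card_eq_one] at h1
  rw [eq_bot_iff]
  rintro x ⟨hx, hxk⟩
  have h2 : (⟨x, hx⟩ : DD σ H) ∈ τ.ker := by
    rw [MonoidHom.mem_ker]
    exact Subtype.ext hxk
  rw [h1, Subgroup.mem_bot] at h2
  exact congrArg Subtype.val h2

end lift

/-! ### projections -/

section proj

variable {Γ : Type*} [Group Γ]

open Classical in
/-- the central component -/
noncomputable def pj (Z D : Subgroup Γ) (g : Γ) : Z := if h : ∃ z : Z, g * (z : Γ)⁻¹ ∈ D then h.choose else 1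

variable {Z D : Subgroup Γ} (hZ : ∀ z ∈ Z, ∀ g : Γ, z * g = g * z) (hdisj : D ⊓ Z = ⊥)

include hZ hdisj in
theorem pj_eq {g : Γ} {z : Z} (h : g * (z : Γ)⁻¹ ∈ D) : pj Z D g = z := by
  have hex : ∃ z : Z, g * (z : Γ)⁻¹ ∈ D := ⟨z, h⟩
  have h1 : pj Z D g = hex.choose := by rw [pj, dif_pos hex]
  have h2 := hex.choose_spec
  rw [← h1] at h2
  have h3 : (g * (pj Z D g : Γ)⁻¹)⁻¹ * (g * (z : Γ)⁻¹) ∈ D ⊓ Z := by
    refine ⟨D.mul_mem (D.inv_mem h2) h, ?_⟩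
    have : (g * (pj Z D g : Γ)⁻¹)⁻¹ * (g * (z : Γ)⁻¹) = (pj Z D g : Γ) * (z : Γ)⁻¹ := by group
    rw [this]
    exact Z.mul_mem (pj Z D g).2 (Z.inv_mem z.2)
  rw [hdisj, Subgroup.mem_bot] at h3
  have h4 : (g * (pj Z D g : Γ)⁻¹)⁻¹ * (g * (z : Γ)⁻¹) = (pj Z D g : Γ) * (z : Γ)⁻¹ := by group
  rw [h4, mul_inv_eq_one] at h3
  exact Subtype.ext h3

theorem pj_spec {g : Γ} (h : ∃ z ∈ Z, g * z⁻¹ ∈ D) : g * (pj Z D g : Γ)⁻¹ ∈ D := by
  obtain ⟨z, hz, hg⟩ := h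
  have hex : ∃ z : Z, g * (z : Γ)⁻¹ ∈ D := ⟨⟨z, hz⟩, hg⟩
  have h1 : pj Z D g = hex.choose := by rw [pj, dif_pos hex]
  rw [h1]; exact hex.choose_spec

include hZ hdisj in
theorem pj_mul {g k : Γ} (hg : ∃ z ∈ Z, g * z⁻¹ ∈ D) (hk : ∃ z ∈ Z, k * z⁻¹ ∈ D) :
    pj Z D (g * k) = pj Z D g * pj Z D k := by
  apply pj_eq hZ hdisj
  have h1 := pj_spec hg
  have h2 := pj_spec hk
  have h3 : g * k * ((pj Z D g * pj Z D k : Z) : Γ)⁻¹ = (g * (pj Z D g : Γ)⁻¹) * (k * (pj Z D k : Γ)⁻¹) := by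
    rw [Subgroup.coe_mul, mul_inv_rev]
    have h4 := hZ _ (Z.inv_mem (pj Z D g).2) k
    calc g * k * ((pj Z D k : Γ)⁻¹ * (pj Z D g : Γ)⁻¹) = g * k * ((pj Z D g : Γ)⁻¹ * (pj Z D k : Γ)⁻¹) := by
          rw [hZ _ (Z.inv_mem (pj Z D k).2)]
      _ = g * (k * (pj Z D g : Γ)⁻¹) * (pj Z D k : Γ)⁻¹ := by group
      _ = _ := by rw [← h4]; group
  rw [h3]
  exact mul_mem h1 h2

include hZ hdisj in
theorem pj_self (z : Z) : pj Z D (z : Γ) = z := by
  apply pj_eq hZ hdisj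
  rw [mul_inv_cancel]; exact one_mem _

end proj

/-! ### the glueing -/

section glue

variable {Γ Ω A : Type*} [Group Γ] [CommGroup A] {ρ : Γ →* Equiv.Perm Ω} {D : Ω → Prop} {N : Ω → Ω → Prop}
  {θ : Ω → Γ → A}

/-- the third condition from triple transitivity -/
theorem three_of
    (mul : ∀ a, D a → ∀ g h, ρ g a = a → ρ h a = a → θ a (g * h) = θ a g * θ a h)
    (ag : ∀ a b, D a → D b → ∀ g, ρ g a = a → ρ g b = b → θ a g = θ b g)
    {a a' b c : Ω} (ha : D a) (ha' : D a') (hb : D b) {k : Γ} (ka : ρ k a = a) (ka' : ρ k a' = a') (kb : ρ k b = c)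
    {h h' : Γ} (h1 : ρ h a = a) (h2 : ρ h b = c) (h3 : ρ h' a' = a') (h4 : ρ h' b = c) :
    θ a h * θ b (h⁻¹ * h') = θ a' h' := by
  have e1 : θ a h = θ a k * θ b (k⁻¹ * h) := by
    rw [← ag a b ha hb (k⁻¹ * h) (mul_of h1 (inv_fix ka)) (mul_of h2 (inv_of kb)),
      ← mul a ha _ _ ka (mul_of h1 (inv_fix ka))]
    congr 1; group
  have e2 : θ a' h' = θ a k * θ b (k⁻¹ * h') := by
    rw [ag a a' ha ha' k ka ka', ← ag a' b ha' hb (k⁻¹ * h') (mul_of h3 (inv_fix ka')) (mul_of h4 (inv_of kb)),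
      ← mul a' ha' _ _ ka' (mul_of h3 (inv_fix ka'))]
    congr 1; group
  have e3 : θ b (k⁻¹ * h') = θ b (k⁻¹ * h) * θ b (h⁻¹ * h') := by
    rw [← mul b hb _ _ (mul_of h2 (inv_of kb)) (mul_of h4 (inv_of h2))]
    congr 1; group
  rw [e1, e2, e3, mul_assoc]

end glue

/-- conjugation invariance of the projections -/
theorem pj_conj {Γ G : Type u} [Group Γ] [Group G] {σ : Γ →* G} {S S' : Subgroup G} {g h : Γ}
    (hZ : ∀ z ∈ σ.ker, ∀ g : Γ, z * g = g * z) (hdisj : DD σ S' ⊓ σ.ker = ⊥)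
    (hS : ∀ x ∈ S, σ g * x * (σ g)⁻¹ ∈ S') (hex : ∃ z ∈ σ.ker, h * z⁻¹ ∈ DD σ S) :
    pj σ.ker (DD σ S') (g * h * g⁻¹) = pj σ.ker (DD σ S) h := by
  apply pj_eq hZ hdisj
  have h1 := pj_spec hex
  have h2 : g * h * g⁻¹ * ((pj σ.ker (DD σ S) h : σ.ker) : Γ)⁻¹ =
      g * (h * ((pj σ.ker (DD σ S) h : σ.ker) : Γ)⁻¹) * g⁻¹ := by
    have h3 := hZ _ (σ.ker.inv_mem (pj σ.ker (DD σ S) h).2) g⁻¹
    rw [mul_assoc _ g⁻¹, ← h3]; group
  rw [h2]
  have h4 : (DD σ S).map (MulAut.conj g).toMonoidHom ≤ DD σ S' := by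
    rw [DD, Subgroup.map_commutator, DD]
    have h5 : (S.comap σ).map (MulAut.conj g).toMonoidHom ≤ S'.comap σ := by
      rintro _ ⟨x, hx, rfl⟩
      show σ (g * x * g⁻¹) ∈ S'
      rw [map_mul, map_mul, map_inv]
      exact hS _ hx
    exact Subgroup.commutator_mono h5 h5
  exact h4 ⟨_, h1, rfl⟩

/-- the main statement: the restriction of `π` to the kernel is trivial -/
theorem ker_trivial {Γ G : Type u} [Group Γ] [Group G] [Finite Γ] {σ : Γ →* G} (hσ : IsStemExtension σ)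
    {Ω : Type v} (ρ' : G →* Equiv.Perm Ω) {D : Ω → Prop} {N : Ω → Ω → Prop} {b0 : Ω} (hb0 : D b0)
    (S : Ω → Subgroup G) (hS : ∀ a g, g ∈ S a ↔ ρ' g a = a)
    (hperf : ∀ a, D a → ⁅S a, S a⁆ = S a) (hst : ∀ a, D a → StemDvd (S a) 1)
    (hD : ∀ g a, D a → D (ρ' g a)) (hN : ∀ g a b, N a b → N (ρ' g a) (ρ' g b))
    (two : ∀ a b c, D a → D b → D c → N a b → N a c → ∃ h, ρ' h a = a ∧ ρ' h b = c)
    (three : ∀ a a' b c, D a → D a' → D b → D c → N a b → N a c → N a' b → N a' c →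
      ∃ k, ρ' k a = a ∧ ρ' k a' = a' ∧ ρ' k b = c)
    (four : ∀ b c, D b → D c → ∃ a, D a ∧ N a b ∧ N a c)
    (five : ∀ a b, D a → D b → N a b ∨ ∀ g, ρ' g a = a ↔ ρ' g b = b)
    {A : Type*} [CommGroup A] (π : σ.ker →* A)
    (ag : ∀ a b, D a → D b → ∀ g, σ g ∈ S a → σ g ∈ S b →
      π (pj σ.ker (DD σ (S a)) g) = π (pj σ.ker (DD σ (S b)) g)) :
    ∀ z, π z = 1 := by
  set ρ : Γ →* Equiv.Perm Ω := ρ'.comp σ with hρ
  have hρ1 : ∀ g a, ρ g a = ρ' (σ g) a := fun _ _ => rfl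
  have hSσ : ∀ a g, ρ g a = a → σ g ∈ S a := fun a g h => (hS a _).2 h
  have hZ : ∀ z ∈ σ.ker, ∀ g : Γ, z * g = g * z := fun z hz g => (Subgroup.mem_center_iff.1 (hσ.2.1 hz) g).symm
  have hex : ∀ a, D a → ∀ g, ρ g a = a → ∃ z ∈ σ.ker, g * z⁻¹ ∈ DD σ (S a) := fun a ha g hg =>
    exists_DD hσ.1 (hperf a ha) (hSσ a g hg)
  have hdisj : ∀ a, D a → DD σ (S a) ⊓ σ.ker = ⊥ := fun a ha => DD_inf hσ (hperf a ha) (hst a ha)
  let θ : Ω → Γ → A := fun a g => π (pj σ.ker (DD σ (S a)) g)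
  have hmul : ∀ a, D a → ∀ g h, ρ g a = a → ρ h a = a → θ a (g * h) = θ a g * θ a h := by
    intro a ha g h hg hh
    show π _ = π _ * π _
    rw [← map_mul, pj_mul hZ (hdisj a ha) (hex a ha g hg) (hex a ha h hh)]
  have hag : ∀ a b, D a → D b → ∀ g, ρ g a = a → ρ g b = b → θ a g = θ b g := fun a b ha hb g h1 h2 =>
    ag a b ha hb g (hSσ a g h1) (hSσ b g h2)
  have H : Glue ρ D N θ :=
    { hD := fun g a ha => hD (σ g) a ha
      mul := hmul
      conj := by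
        intro a ha g h hh
        show π _ = π _
        congr 1
        apply pj_eq hZ (hdisj _ (hD (σ g) a ha))
        have h1 := pj_spec (hex a ha h hh)
        have h2 : g * h * g⁻¹ * ((pj σ.ker (DD σ (S a)) h : σ.ker) : Γ)⁻¹ =
            g * (h * ((pj σ.ker (DD σ (S a)) h : σ.ker) : Γ)⁻¹) * g⁻¹ := by
          have h3 := hZ _ (σ.ker.inv_mem (pj σ.ker (DD σ (S a)) h).2) g⁻¹
          rw [mul_assoc _ g⁻¹, ← h3]; group
        rw [h2]
        have h4 : (DD σ (S a)).map (MulAut.conj g).toMonoidHom ≤ DD σ (S (ρ' (σ g) a)) := by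
          rw [DD, Subgroup.map_commutator, DD]
          have h5 : ((S a).comap σ).map (MulAut.conj g).toMonoidHom ≤ (S (ρ' (σ g) a)).comap σ := by
            rintro _ ⟨x, hx, rfl⟩
            show σ (g * x * g⁻¹) ∈ S _
            rw [hS, map_mul, map_mul, map_inv, map_mul, map_mul, map_inv]
            show ρ' (σ g) (ρ' (σ x) ((ρ' (σ g))⁻¹ (ρ' (σ g) a))) = ρ' (σ g) a
            have h6 : (ρ' (σ g))⁻¹ (ρ' (σ g) a) = a := (ρ' (σ g)).symm_apply_apply a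
            rw [h6, (hS a _).1 hx]
          exact Subgroup.commutator_mono h5 h5
        exact h4 ⟨_, h1, rfl⟩
      ag := hag
      hN := fun g a b h => hN (σ g) a b h
      two := by
        intro a b c ha hb hc h1 h2
        obtain ⟨h, e1, e2⟩ := two a b c ha hb hc h1 h2
        obtain ⟨x, rfl⟩ := hσ.1 h
        exact ⟨x, e1, e2⟩
      three := by
        intro a a' b c ha ha' hb hc n1 n2 n3 n4 h h' h1 h2 h3 h4
        obtain ⟨k, e1, e2, e3⟩ := three a a' b c ha ha' hb hc n1 n2 n3 n4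
        obtain ⟨x, rfl⟩ := hσ.1 k
        exact three_of hmul hag ha ha' hb (k := x) e1 e2 e3 h1 h2 h3 h4
      four := four
      five := by
        intro a b ha hb
        rcases five a b ha hb with h | h
        · exact Or.inl h
        · exact Or.inr fun g => h (σ g) }
  obtain ⟨Θ, hΘ⟩ := H.exists_hom hb0
  intro z
  have h1 : ρ (z : Γ) b0 = b0 := by
    rw [hρ1, MonoidHom.mem_ker.1 z.2, map_one]; rfl
  have h2 := hΘ b0 hb0 z h1
  have h3 : θ b0 (z : Γ) = π z := by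
    show π _ = π z
    rw [pj_self hZ (hdisj b0 hb0)]
  rw [← h3, ← h2]
  have h4 : commutator Γ ≤ Θ.ker := Abelianization.commutator_subset_ker _
  exact h4 (hσ.2.2 z.2)

end Cfsg.Agent.Lib.H92Cover
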