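import Cfsg.Agent.Lib.DefZeroCount

/-!
# Counting elements of prime order `q` when `q` divides the group order exactly once (helper83)
-/

set_option autoImplicit false
set_option linter.all false

namespace Cfsg.Agent.Lib.SylowOrd
open Cfsg.Agent.Lib.DefZeroCount

universe u
variable {G : Type u} [Group G] [Finite G]

lemma card_sylow_eq {q : ℕ} [hq : Fact q.Prime] (h : (Nat.card G).factorization q = 1)
    (P : Sylow q G) : Nat.card P = q := by
  rw [P.card_eq_multiplicity, h, pow_one]

/-- the number of elements of order `q` -/
theorem card_ordSet [Fintype G] {q : ℕ} [hq : Fact q.Prime]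
    (h : (Nat.card G).factorization q = 1) :
    (ordSet G q).card = (q - 1) * Nat.card (Sylow q G) := by
  classical
  have := Fintype.ofFinite (Sylow q G)
  have hz : ∀ g : G, orderOf g = q → Nat.card (Subgroup.zpowers g) = q ^ (Nat.card G).factorization q := by
    intro g hg
    rw [Nat.card_zpowers, hg, h, pow_one]
  let f : G → Sylow q G := fun g => if hg : orderOf g = q then Sylow.ofCard (Subgroup.zpowers g) (hz g hg)
    else default
  have hf : ∀ g : G, orderOf g = q → ((f g : Sylow q G) : Subgroup G) = Subgroup.zpowers g := by
    intro g hg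
    simp only [f, dif_pos hg, Sylow.coe_ofCard]
  have h1 : (ordSet G q).card = ∑ P : Sylow q G, ((ordSet G q).filter (fun g => f g = P)).card :=
    Finset.card_eq_sum_card_fiberwise (fun g _ => Finset.mem_coe.2 (Finset.mem_univ _))
  have h2 : ∀ P : Sylow q G, ((ordSet G q).filter (fun g => f g = P)).card = q - 1 := by
    intro P
    have h3 : (ordSet G q).filter (fun g => f g = P) =
        (Finset.univ.filter (fun g : G => g ∈ (P : Subgroup G))).erase 1 := by
      ext g
      rw [Finset.mem_filter, Finset.mem_erase, Finset.mem_filter, mem_ordSet]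
      constructor
      · rintro ⟨hg, hP⟩
        refine ⟨?_, Finset.mem_univ _, ?_⟩
        · rintro rfl
          rw [orderOf_one] at hg
          exact hq.out.one_lt.ne hg
        · rw [← hP]
          show g ∈ ((f g : Sylow q G) : Subgroup G)
          rw [hf g hg]
          exact Subgroup.mem_zpowers g
      · rintro ⟨hg1, -, hgP⟩
        have hg : orderOf g = q := by
          have hd : orderOf g ∣ q := by
            have := Subgroup.orderOf_dvd_natCard (P : Subgroup G) hgP
            rwa [show Nat.card (P : Subgroup G) = q from card_sylow_eq h P] at this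
          rcases (Nat.dvd_prime hq.out).1 hd with h4 | h4
          · exact absurd (orderOf_eq_one_iff.1 h4) hg1
          · exact h4
        refine ⟨hg, ?_⟩
        apply Sylow.ext
        rw [hf g hg]
        apply Subgroup.eq_of_le_of_card_ge
        · rw [Subgroup.zpowers_le]; exact hgP
        · rw [Nat.card_zpowers, hg]
          exact (card_sylow_eq h P).le
    rw [h3, Finset.card_erase_of_mem (by simp [Subgroup.one_mem])]
    congr 1
    have : Nat.card (P : Subgroup G) = q := card_sylow_eq h P
    refine Eq.trans ?_ this
    rw [Nat.card_eq_fintype_card, Fintype.card_subtype]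
  rw [h1, Finset.sum_congr rfl (fun P _ => h2 P), Finset.sum_const, Finset.card_univ,
    Nat.card_eq_fintype_card, smul_eq_mul, mul_comm]

/-- Sylow counting with the centralizer -/
theorem sylow_count {q : ℕ} [hq : Fact q.Prime] (h : (Nat.card G).factorization q = 1) {x : G}
    (hx : orderOf x = q) : ∃ c d : ℕ, Nat.card (Subgroup.centralizer ({x} : Set G)) = q * c ∧
      d ∣ q - 1 ∧ Nat.card (Sylow q G) * (q * c * d) = Nat.card G ∧
      Nat.card (Sylow q G) ≡ 1 [MOD q] := by
  classical
  set Z := Subgroup.zpowers x with hZ
  have hZc : Nat.card Z = q := by rw [hZ, Nat.card_zpowers, hx]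
  let P : Sylow q G := Sylow.ofCard Z (by rw [hZc, h, pow_one])
  have hP : (P : Subgroup G) = Z := Sylow.coe_ofCard _ _
  have h1 : Nat.card (Sylow q G) = (Subgroup.normalizer ((P : Subgroup G) : Set G)).index := by
    exact P.card_eq_index_normalizer
  have hcent : Subgroup.centralizer (Z : Set G) = Subgroup.centralizer ({x} : Set G) := by
    ext y
    rw [Subgroup.mem_centralizer_iff, Subgroup.mem_centralizer_iff]
    constructor
    · intro h y hy
      rw [Set.mem_singleton_iff] at hy
      rw [hy]; exact h x (Subgroup.mem_zpowers x)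
    · intro h y hy
      obtain ⟨k, rfl⟩ := Subgroup.mem_zpowers_iff.1 hy
      exact (Commute.zpow_left (h x rfl) k)
  set N := Subgroup.normalizer (Z : Set G) with hN
  let φ : N →* MulAut Z := Subgroup.normalizerMonoidHom Z
  have hker : φ.ker = (Subgroup.centralizer (Z : Set G)).subgroupOf N := Subgroup.normalizerMonoidHom_ker Z
  have hcardker : Nat.card φ.ker = Nat.card (Subgroup.centralizer ({x} : Set G)) := by
    rw [hker, ← hcent]
    exact Nat.card_congr (Subgroup.subgroupOfEquivOfLe (Subgroup.centralizer_le_normalizer _)).toEquiv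
  have hAut : Nat.card (MulAut Z) = q - 1 := by
    haveI : IsCyclic Z := isCyclic_of_prime_card hZc
    rw [Nat.card_congr (IsCyclic.mulAutMulEquiv Z).toEquiv, hZc, Nat.card_eq_fintype_card,
      ZMod.card_units_eq_totient, Nat.totient_prime hq.out]
  have hd : Nat.card φ.range ∣ q - 1 := by
    rw [← hAut]; exact Subgroup.card_subgroup_dvd_card _
  have hcardN : Nat.card N = Nat.card (Subgroup.centralizer ({x} : Set G)) * Nat.card φ.range := by
    rw [← hcardker, ← Subgroup.card_mul_index φ.ker, Subgroup.index_ker]
  have hqC : q ∣ Nat.card (Subgroup.centralizer ({x} : Set G)) := by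
    have hxm : x ∈ Subgroup.centralizer ({x} : Set G) := by
      rw [Subgroup.mem_centralizer_singleton_iff]
    have := Subgroup.orderOf_dvd_natCard _ hxm
    rwa [hx] at this
  obtain ⟨c, hc⟩ := hqC
  refine ⟨c, Nat.card φ.range, hc, hd, ?_, ?_⟩
  · rw [← hc, ← hcardN, h1, hP, mul_comm]
    exact Subgroup.card_mul_index N
  · exact card_sylow_modEq_one q G

end Cfsg.Agent.Lib.SylowOrd
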