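import Cfsg.Agent.Lib.MathieuFix
import Cfsg.Agent.Lib.SylowOrd
import Cfsg.Agent.Lib.SingleBlock

/-!
# `M22`, `M24`: involutions fixing an octad are good; centralizers of elements of prime order (helper83)
-/

set_option autoImplicit false
set_option linter.all false

namespace Cfsg.Agent.Lib.MathieuBlock
open Cfsg Cfsg.Agent.Lib.Golay
open Cfsg.Agent.Lib.GolayFix (Fix mem_Fix Fix_mem_Sup)
open Cfsg.Agent.Lib.MathieuFix Cfsg.Agent.Lib.SingleBlock
open scoped Pointwise

lemma commute_apply {g u : Equiv.Perm GolayPt} (h : g * u = u * g) (x : GolayPt) : g (u x) = u (g x) := by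
  rw [← Equiv.Perm.mul_apply, h, Equiv.Perm.mul_apply]

lemma Fix_of_commute {g u : Equiv.Perm GolayPt} (h : g * u = u * g) {x : GolayPt} (hx : x ∈ Fix u) :
    g x ∈ Fix u := by
  rw [mem_Fix] at hx ⊢
  rw [← commute_apply h, hx]

lemma smul_Fix_of_commute {g u : Equiv.Perm GolayPt} (h : g * u = u * g) : g • Fix u = Fix u := by
  apply Finset.eq_of_subset_of_card_le
  · intro y hy
    obtain ⟨x, hx, rfl⟩ := (mem_smul_iff _ _ _).1 hy
    exact Fix_of_commute h hx
  · rw [Finset.card_smul_finset]

/-- an involution fixing an octad is good in any subgroup of `M24` containing the pointwise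
stabiliser of the octad -/
theorem good_of_octad {K : Subgroup (Equiv.Perm GolayPt)} (hK : K ≤ M24) {u : K}
    (hu : orderOf u = 2) {o : Finset GolayPt} (ho : o ∈ octads)
    (hfix : Fix (u : Equiv.Perm GolayPt) = o) (hO : OctPt o ≤ K) :
    Good 2 u ((OctPt o).subgroupOf K) := by
  have huO : (u : Equiv.Perm GolayPt) ∈ OctPt o := by
    rw [mem_OctPt]
    exact ⟨hK u.2, fun p hp => mem_Fix.1 (by rw [hfix]; exact hp)⟩
  refine ⟨?_, ?_, ?_, ?_⟩
  · intro g
    refine ⟨1, ?_⟩
    have := OctPt_sq ho (Subgroup.mem_subgroupOf.1 g.2)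
    apply Subtype.ext; apply Subtype.ext
    show (((g : K) : Equiv.Perm GolayPt)) ^ 2 ^ 1 = 1
    rw [pow_one, sq]; exact this
  · intro g hg
    rw [Subgroup.mem_centralizer_singleton_iff]
    apply Subtype.ext
    exact OctPt_comm ho (Subgroup.mem_subgroupOf.1 hg) huO
  · intro g hg
    have hc : (g : Equiv.Perm GolayPt) * u = u * g :=
      congrArg Subtype.val (Subgroup.mem_centralizer_singleton_iff.1 hg)
    have hgo : (g : Equiv.Perm GolayPt) • o = o := by rw [← hfix]; exact smul_Fix_of_commute hc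
    have hgo' : ((g : Equiv.Perm GolayPt)⁻¹) • o = o := by
      rw [inv_smul_eq_iff, hgo]
    rw [Subgroup.mem_normalizer_iff]
    intro q
    show q ∈ (OctPt o).subgroupOf K ↔ g * q * g⁻¹ ∈ (OctPt o).subgroupOf K
    rw [Subgroup.mem_subgroupOf, Subgroup.mem_subgroupOf]
    have h1 := OctPt_conj (g := (g : Equiv.Perm GolayPt)⁻¹) (M24.inv_mem (hK g.2)) o
      (q : Equiv.Perm GolayPt)
    rw [hgo', inv_inv] at h1
    exact h1
  · intro g hg hodd
    have hcomm : ∀ q ∈ OctPt o, q * (g : Equiv.Perm GolayPt) = g * q := by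
      intro q hq
      exact congrArg Subtype.val (Subgroup.mem_centralizer_iff.1 hg ⟨q, hO hq⟩ (Subgroup.mem_subgroupOf.2 hq))
    -- `g` preserves the octad
    have hgo : (g : Equiv.Perm GolayPt) • o = o := by
      rw [← hfix]; exact smul_Fix_of_commute (hcomm _ huO).symm
    -- a point outside
    obtain ⟨x, hx⟩ : ∃ x, x ∉ o := by
      by_contra hn
      push Not at hn
      have h1 : o.card = 24 := by
        rw [Finset.eq_univ_of_forall hn, Finset.card_univ, card_pt]
      have h2 := ho.2
      have h3 : o.card = 8 := h2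
      omega
    have hgx : (g : Equiv.Perm GolayPt) x ∉ o := by
      intro h
      apply hx
      rw [← hgo, smul_mem_smul] at h
      exact h
    obtain ⟨q, hq, hqx⟩ := OctPt_transitive ho hx hgx
    -- q⁻¹ g fixes everything outside o
    have hfixall : ∀ y, y ∉ o → (q⁻¹ * (g : Equiv.Perm GolayPt)) y = y := by
      intro y hy
      obtain ⟨r, hr, hry⟩ := OctPt_transitive ho hx hy
      rw [← hry]
      have h1 : (g : Equiv.Perm GolayPt) (r x) = r ((g : Equiv.Perm GolayPt) x) := by
        rw [← Equiv.Perm.mul_apply, ← hcomm r hr, Equiv.Perm.mul_apply]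
      show q⁻¹ ((g : Equiv.Perm GolayPt) (r x)) = r x
      rw [h1, ← hqx]
      have h2 : r (q x) = q (r x) := by
        rw [← Equiv.Perm.mul_apply, OctPt_comm ho hr hq, Equiv.Perm.mul_apply]
      rw [h2, perm_inv_apply]
    have h1 : q⁻¹ * (g : Equiv.Perm GolayPt) = 1 := by
      apply eq_one_of_nine (M24.mul_mem (M24.inv_mem (mem_OctPt.1 hq).1) (hK g.2))
      have h2 : oᶜ ⊆ Fix (q⁻¹ * (g : Equiv.Perm GolayPt)) := by
        intro y hy
        rw [Finset.mem_compl] at hy
        exact mem_Fix.2 (hfixall y hy)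
      have h3 := Finset.card_le_card h2
      rw [Finset.card_compl, card_pt] at h3
      have h4 : o.card = 8 := ho.2
      omega
    have h2 : (g : Equiv.Perm GolayPt) = q := (inv_mul_eq_one.1 h1).symm
    have h3 : g ^ 2 = 1 := by
      apply Subtype.ext
      show ((g : Equiv.Perm GolayPt)) ^ 2 = 1
      rw [h2, sq]; exact OctPt_sq ho hq
    have h4 : orderOf g ∣ 2 := orderOf_dvd_of_pow_eq_one h3
    rcases (Nat.dvd_prime Nat.prime_two).1 h4 with h5 | h5
    · exact orderOf_eq_one_iff.1 h5
    · exact absurd (by rw [h5]) hodd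

/-- free action: the order divides the number of points -/
lemma card_dvd_of_free {C : Subgroup (Equiv.Perm GolayPt)} {T : Finset GolayPt}
    (hT : ∀ g ∈ C, ∀ x ∈ T, g x ∈ T) (hfree : ∀ g ∈ C, ∀ x ∈ T, g x = x → g = 1) :
    Nat.card C ∣ T.card := by
  classical
  letI : MulAction C T :=
    { smul := fun g x => ⟨(g : Equiv.Perm GolayPt) x, hT g g.2 x x.2⟩
      one_smul := fun x => rfl
      mul_smul := fun a b x => rfl }
  have h1 : ∀ x : T, MulAction.stabilizer C x = ⊥ := by
    intro x
    rw [eq_bot_iff]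
    intro g hg
    have h2 : (g : Equiv.Perm GolayPt) x = x := congrArg Subtype.val (MulAction.mem_stabilizer_iff.1 hg)
    exact Subgroup.mem_bot.2 (Subtype.ext (hfree g g.2 x x.2 h2))
  have h2 := Nat.card_congr (MulAction.selfEquivOrbitsQuotientProd h1)
  rw [Nat.card_prod, Nat.card_eq_fintype_card, Fintype.card_coe] at h2
  rw [h2]
  exact Dvd.intro_left _ rfl

/-- the orbit of a moved point under an element of prime order -/
noncomputable def orb (x : Equiv.Perm GolayPt) (q : ℕ) (y : GolayPt) : Finset GolayPt := by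
  classical exact (Finset.range q).image (fun i => (x ^ i) y)

lemma pow_apply_eq {x : Equiv.Perm GolayPt} {q : ℕ} (hq : q.Prime) (hx : x ^ q = 1) {y : GolayPt}
    {k : ℕ} (hk : ¬ q ∣ k) (h : (x ^ k) y = y) : x y = y := by
  have hco : Nat.Coprime k q := ((Nat.Prime.coprime_iff_not_dvd hq).2 hk).symm
  obtain ⟨m, -, hm⟩ := Nat.exists_mul_mod_eq_one_of_coprime hco hq.one_lt
  have h1 : ∀ n : ℕ, ((x ^ k) ^ n) y = y := by
    intro n
    induction n with
    | zero => rfl
    | succ n ih => rw [pow_succ, Equiv.Perm.mul_apply, h, ih]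
  have h2 := h1 m
  rw [← pow_mul, ← Nat.div_add_mod (k * m) q, hm, pow_add, pow_mul, hx, one_pow, one_mul, pow_one] at h2
  exact h2

lemma card_orb {x : Equiv.Perm GolayPt} {q : ℕ} (hq : q.Prime) (hx : x ^ q = 1) {y : GolayPt}
    (hy : x y ≠ y) : (orb x q y).card = q := by
  classical
  rw [orb, Finset.card_image_of_injOn, Finset.card_range]
  have key : ∀ i j : ℕ, i < q → j < q → i ≤ j → (x ^ i) y = (x ^ j) y → i = j := by
    intro i j hi hj hij h
    by_contra hne
    apply hy
    apply pow_apply_eq hq hx (k := j - i) (Nat.not_dvd_of_pos_of_lt (by omega) (by omega))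
    have h1 : (x ^ i) ((x ^ (j - i)) y) = (x ^ i) y := by
      rw [← Equiv.Perm.mul_apply, ← pow_add, h]
      congr 2
      omega
    exact (x ^ i).injective h1
  intro i hi j hj h
  rw [Finset.coe_range, Set.mem_Iio] at hi hj
  rcases le_total i j with hij | hij
  · exact key i j hi hj hij h
  · exact (key j i hj hi hij h.symm).symm

lemma orb_subset_Fix {x g : Equiv.Perm GolayPt} {q : ℕ} (hgx : g * x = x * g) {y : GolayPt}
    (hy : g y = y) : orb x q y ⊆ Fix g := by
  classical
  intro z hz
  rw [orb, Finset.mem_image] at hz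
  obtain ⟨i, -, rfl⟩ := hz
  rw [mem_Fix]
  have : g * x ^ i = x ^ i * g := (Commute.pow_right (show Commute g x from hgx) i)
  rw [← Equiv.Perm.mul_apply, this, Equiv.Perm.mul_apply, hy]

lemma orb_disjoint_Fix {x : Equiv.Perm GolayPt} {q : ℕ} (hq : q.Prime) (hx : x ^ q = 1) {y : GolayPt}
    (hy : x y ≠ y) : Disjoint (orb x q y) (Fix x) := by
  classical
  rw [Finset.disjoint_left]
  intro z hz hz2
  rw [orb, Finset.mem_image] at hz
  obtain ⟨i, -, rfl⟩ := hz
  rw [mem_Fix] at hz2
  apply hy
  apply (x ^ i).injective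
  rw [← Equiv.Perm.mul_apply, ← pow_succ, pow_succ', Equiv.Perm.mul_apply, hz2]

/-- the centralizer of an element of prime order `q` of `K` acts freely on the moved points -/
theorem card_centralizer_dvd {K : Subgroup (Equiv.Perm GolayPt)} (hK : K ≤ M24) {q : ℕ}
    (hq : q.Prime) {x : K} (hx : orderOf x = q) (F0 : Finset GolayPt)
    (hF0 : ∀ g ∈ K, ∀ p ∈ F0, g p = p) (h9 : 9 ≤ q + F0.card) :
    Nat.card (Subgroup.centralizer ({x} : Set K)) ∣ 24 - (Fix (x : Equiv.Perm GolayPt)).card := by
  classical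
  set C : Subgroup (Equiv.Perm GolayPt) := (Subgroup.centralizer ({x} : Set K)).map K.subtype with hC
  have hcard : Nat.card C = Nat.card (Subgroup.centralizer ({x} : Set K)) :=
    Subgroup.card_map_of_injective K.subtype_injective
  have hxq : (x : Equiv.Perm GolayPt) ^ q = 1 := by
    have : x ^ q = 1 := by rw [← hx, pow_orderOf_eq_one]
    exact congrArg Subtype.val this
  have hcomm : ∀ g ∈ C, g * (x : Equiv.Perm GolayPt) = x * g := by
    rintro _ ⟨g, hg, rfl⟩
    exact congrArg Subtype.val (Subgroup.mem_centralizer_singleton_iff.1 hg)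
  have hCK : ∀ g ∈ C, g ∈ K := by
    rintro _ ⟨g, hg, rfl⟩
    exact g.2
  have hT : ((Fix (x : Equiv.Perm GolayPt))ᶜ).card = 24 - (Fix (x : Equiv.Perm GolayPt)).card := by
    rw [Finset.card_compl, card_pt]
  rw [← hcard, ← hT]
  apply card_dvd_of_free
  · intro g hg y hy
    rw [Finset.mem_compl] at hy ⊢
    intro h
    apply hy
    rw [← smul_Fix_of_commute (hcomm g hg), smul_mem_smul] at h
    exact h
  · intro g hg y hy hgy
    rw [Finset.mem_compl, mem_Fix] at hy
    apply eq_one_of_nine (hK (hCK g hg))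
    have h1 := orb_subset_Fix (q := q) (hcomm g hg) hgy
    have h2 : F0 ⊆ Fix g := fun p hp => mem_Fix.2 (hF0 g (hCK g hg) p hp)
    have h3 : Disjoint (orb (x : Equiv.Perm GolayPt) q y) F0 := by
      apply (orb_disjoint_Fix hq hxq hy).mono_right
      exact fun p hp => mem_Fix.2 (hF0 x x.2 p hp)
    have h4 := Finset.card_le_card (Finset.union_subset h1 h2)
    rw [Finset.card_union_of_disjoint h3, card_orb hq hxq hy] at h4
    omega

end Cfsg.Agent.Lib.MathieuBlock
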