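import Cfsg.Agent.Lib.MathieuFix
import Cfsg.Agent.Lib.MathieuBlock
import Cfsg.Agent.Lib.GolayFix
import Cfsg.Agent.Lib.GolayTrans
import Cfsg.Prelude.Def_Spor_Mathieu
import Cfsg.Prelude.Def_KGroupFacts

/-!
Automorphisms of the large Mathieu groups: realization by permutations (helper92)
-/

set_option autoImplicit false

namespace Cfsg.Agent.Lib.H92MathieuAut

open Cfsg Cfsg.Agent.Lib.Golay Cfsg.Agent.Lib.MathieuFix
open Cfsg.Agent.Lib.GolayFix (Fix mem_Fix Fix_mem_Sup)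
open scoped Pointwise

section generic

theorem pia {Ω : Type*} (a : Equiv.Perm Ω) (x : Ω) : a⁻¹ (a x) = x := Equiv.symm_apply_apply a x
theorem pai {Ω : Type*} (a : Equiv.Perm Ω) (x : Ω) : a (a⁻¹ x) = x := Equiv.apply_symm_apply a x

variable {Ω : Type*} [Finite Ω]

/-- an automorphism of a permutation group carrying some point stabilizer into a point stabilizer is induced
by a permutation -/
theorem exists_conj (G : Subgroup (Equiv.Perm Ω)) (T : Set Ω) (hT : ∀ g ∈ G, ∀ x ∈ T, g x ∈ T)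
    (hfix : ∀ g ∈ G, ∀ x ∉ T, g x = x) (htr : ∀ x ∈ T, ∀ y ∈ T, ∃ g ∈ G, g x = y) (α : MulAut G) {p q : Ω}
    (hp : p ∈ T) (hq : q ∈ T) (h : ∀ g : G, (g : Equiv.Perm Ω) p = p → ((α g : G) : Equiv.Perm Ω) q = q) :
    ∃ σ : Equiv.Perm Ω, (∀ x ∉ T, σ x = x) ∧ ∀ g : G, ((α g : G) : Equiv.Perm Ω) = σ * g * σ⁻¹ := by
  classical
  have hc : ∀ x : T, ∃ g : G, (g : Equiv.Perm Ω) p = x := fun x => by
    obtain ⟨g, hg, hgx⟩ := htr p hp x x.2
    exact ⟨⟨g, hg⟩, hgx⟩
  choose k hk using hc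
  let f : T → T := fun x => ⟨((α (k x) : G) : Equiv.Perm Ω) q, hT _ (α (k x)).2 q hq⟩
  have hf : ∀ (g : G) (x : T), (g : Equiv.Perm Ω) p = x → ((f x : T) : Ω) = ((α g : G) : Equiv.Perm Ω) q := by
    intro g x hg
    have h1 : ((g⁻¹ * k x : G) : Equiv.Perm Ω) p = p := by
      rw [Subgroup.coe_mul, Subgroup.coe_inv, Equiv.Perm.mul_apply, hk x, ← hg, pia]
    have h2 := h _ h1
    rw [map_mul, map_inv, Subgroup.coe_mul, Subgroup.coe_inv, Equiv.Perm.mul_apply, Equiv.Perm.inv_eq_iff_eq] at h2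
    exact h2
  have hfs : Function.Surjective f := by
    intro y
    obtain ⟨g, hg, hgy⟩ := htr q hq y y.2
    refine ⟨⟨((α.symm ⟨g, hg⟩ : G) : Equiv.Perm Ω) p, hT _ (α.symm ⟨g, hg⟩).2 p hp⟩, ?_⟩
    apply Subtype.ext
    rw [hf (α.symm ⟨g, hg⟩) _ rfl, MulEquiv.apply_symm_apply]
    exact hgy
  have hfb : Function.Bijective f := ⟨Finite.injective_iff_surjective.2 hfs, hfs⟩
  let e : Equiv.Perm T := Equiv.ofBijective f hfb
  let σ : Equiv.Perm Ω := Equiv.Perm.ofSubtype e
  have hσT : ∀ x (hx : x ∈ T), σ x = f ⟨x, hx⟩ := fun x hx => Equiv.Perm.ofSubtype_apply_of_mem e hx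
  have hσn : ∀ x ∉ T, σ x = x := fun x hx => Equiv.Perm.ofSubtype_apply_of_not_mem e hx
  refine ⟨σ, hσn, fun g => ?_⟩
  rw [eq_mul_inv_iff_mul_eq]
  ext x
  rw [Equiv.Perm.mul_apply, Equiv.Perm.mul_apply]
  by_cases hx : x ∈ T
  · have hgx := hT _ g.2 x hx
    rw [hσT x hx, hσT _ hgx]
    obtain ⟨k', hk', hkx⟩ := htr p hp x hx
    rw [hf ⟨k', hk'⟩ ⟨x, hx⟩ hkx, hf (g * ⟨k', hk'⟩) ⟨_, hgx⟩ (by
      rw [Subgroup.coe_mul, Equiv.Perm.mul_apply]
      show (g : Equiv.Perm Ω) (k' p) = _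
      rw [hkx]), map_mul, Subgroup.coe_mul, Equiv.Perm.mul_apply]
  · rw [hσn x hx, hfix _ g.2 x hx, hσn x hx]
    exact hfix _ (α g).2 x hx

end generic

/-- every octad is the fixed point set of an involution -/
theorem exists_inv {o : Finset GolayPt} (ho : o ∈ octads) : ∃ g ∈ M24, g ^ 2 = 1 ∧ Fix g = o := by
  have h1 := card_OctPt ho
  have h2 : Nontrivial (OctPt o) := by
    have : Finite (OctPt o) := Nat.finite_of_card_ne_zero (by rw [h1]; norm_num)
    rw [← Finite.one_lt_card_iff_nontrivial, h1]; norm_num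
  obtain ⟨⟨g, hg⟩, hg1⟩ := exists_ne (1 : OctPt o)
  have hg1' : g ≠ 1 := fun h => hg1 (Subtype.ext h)
  have hgM := (mem_OctPt.1 hg).1
  have hfix := (mem_OctPt.1 hg).2
  refine ⟨g, hgM, by rw [pow_two]; exact OctPt_sq ho hg, ?_⟩
  symm
  apply Finset.eq_of_subset_of_card_le
  · intro x hx
    exact mem_Fix.2 (hfix x hx)
  · rw [show o.card = 8 from ho.2]
    exact card_Fix_le hgM hg1'

theorem Fix_conj (σ g : Equiv.Perm GolayPt) : Fix (σ * g * σ⁻¹) = σ • Fix g := by
  ext x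
  obtain ⟨y, rfl⟩ := σ.surjective x
  rw [mem_Fix, GolayFix.mem_smul_iff, mem_Fix, Equiv.Perm.mul_apply, Equiv.Perm.mul_apply,
    pia, σ.injective.eq_iff]

/-- octads fixed pointwise by an involution whose conjugate is in `M24` are mapped to octads -/
theorem smul_octad {σ g : Equiv.Perm GolayPt} (hg : σ * g * σ⁻¹ ∈ M24) (h2 : g ^ 2 = 1) (ho : Fix g ∈ octads) :
    σ • Fix g ∈ octads := by
  have h3 : (σ * g * σ⁻¹) ^ 2 = 1 := by rw [conj_pow, h2]; group
  refine ⟨?_, ?_⟩
  · have := Fix_mem_Sup hg h3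
    rwa [Fix_conj] at this
  · rw [Finset.card_smul_finset]; exact ho.2

/-- a power argument: exactly one fixed point means transitivity on the rest -/
theorem exists_pow {p : ℕ} (hp : p.Prime) {c : Equiv.Perm GolayPt} (hc : c ^ p = 1) {F : Finset GolayPt}
    (hF : Fix c = F) (hcard : F.card + p = 24) {y z : GolayPt} (hy : y ∉ F) (hz : z ∉ F) :
    ∃ i : ℕ, (c ^ i) y = z := by
  classical
  have hy' : c y ≠ y := fun h => hy (by rw [← hF]; exact mem_Fix.2 h)
  have h1 := MathieuBlock.card_orb hp hc hy'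
  have h2 := MathieuBlock.orb_disjoint_Fix hp hc hy'
  rw [hF] at h2
  have h3 : MathieuBlock.orb c p y ∪ F = Finset.univ := by
    rw [← Finset.card_eq_iff_eq_univ, Finset.card_union_of_disjoint h2, h1, card_pt]
    omega
  have h4 : z ∈ MathieuBlock.orb c p y ∪ F := by rw [h3]; exact Finset.mem_univ z
  rw [Finset.mem_union] at h4
  have h5 := h4.resolve_right hz
  rw [MathieuBlock.orb, Finset.mem_image] at h5
  obtain ⟨i, -, hi⟩ := h5
  exact ⟨i, hi⟩

/-- number of fixed points of elements of prime order -/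
theorem card_Fix_of {p : ℕ} [Fact p.Prime] {g : Equiv.Perm GolayPt} (hg : g ∈ M24) (hp : g ^ p = 1) (h1 : g ≠ 1) :
    24 ≡ (Fix g).card [MOD p] ∧ (Fix g).card ≤ 8 := ⟨GolayFix.univ_card_modEq hp, card_Fix_le hg h1⟩

/-- Witt lemma -/
theorem witt {Ω : Type*} [Finite Ω] {X : Subgroup (Equiv.Perm Ω)} {p : ℕ} [hp : Fact p.Prime] {s : Equiv.Perm Ω}
    (hs : s ∈ X) (ho : orderOf s = p) {a b : Ω} (ha : s a = a) (hb : s b = b) (hab : ∃ x ∈ X, x a = b)
    (hcard : ¬ p ^ 2 ∣ Nat.card ↥(X ⊓ MulAction.stabilizer (Equiv.Perm Ω) b)) :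
    ∃ n ∈ X, n a = b ∧ n * s * n⁻¹ ∈ Subgroup.zpowers s := by
  classical
  obtain ⟨x, hx, hxa⟩ := hab
  set H : Subgroup (Equiv.Perm Ω) := X ⊓ MulAction.stabilizer (Equiv.Perm Ω) b with hH
  have hsH : s ∈ H := ⟨hs, hb⟩
  have hs2H : x * s * x⁻¹ ∈ H := by
    refine Subgroup.mem_inf.2 ⟨X.mul_mem (X.mul_mem hx hs) (X.inv_mem hx), ?_⟩
    show (x * s * x⁻¹) b = b
    rw [← hxa, Equiv.Perm.mul_apply, Equiv.Perm.mul_apply, pia, ha]
  have ho2 : orderOf (x * s * x⁻¹) = p := by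
    rw [← ho]
    have : x * s * x⁻¹ = MulAut.conj x s := rfl
    rw [this, MulEquiv.orderOf_eq]
  have hc1 : Nat.card (Subgroup.zpowers (⟨s, hsH⟩ : H)) = p := by
    rw [Nat.card_zpowers, ← Subgroup.orderOf_coe]; exact ho
  have hc2 : Nat.card (Subgroup.zpowers (⟨x * s * x⁻¹, hs2H⟩ : H)) = p := by
    rw [Nat.card_zpowers, ← Subgroup.orderOf_coe]; exact ho2
  have hfac : (Nat.card H).factorization p = 1 := by
    have hne : Nat.card H ≠ 0 := Nat.card_pos.ne'
    apply le_antisymm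
    · by_contra hlt
      push Not at hlt
      exact hcard ((Nat.Prime.pow_dvd_iff_le_factorization hp.out hne).2 hlt)
    · apply (Nat.Prime.pow_dvd_iff_le_factorization hp.out hne).1
      rw [pow_one]
      have h1 := Subgroup.card_subgroup_dvd_card (Subgroup.zpowers (⟨s, hsH⟩ : H))
      rwa [hc1] at h1
  let P1 : Sylow p H := Sylow.ofCard (Subgroup.zpowers (⟨s, hsH⟩ : H)) (by rw [hfac, hc1, pow_one])
  let P2 : Sylow p H := Sylow.ofCard (Subgroup.zpowers (⟨x * s * x⁻¹, hs2H⟩ : H)) (by rw [hfac, hc2, pow_one])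
  obtain ⟨y, hy⟩ := MulAction.exists_smul_eq H P2 P1
  have h1 : (y : Equiv.Perm Ω) * (x * s * x⁻¹) * (y : Equiv.Perm Ω)⁻¹ ∈ Subgroup.zpowers s := by
    have h2 : y * ⟨x * s * x⁻¹, hs2H⟩ * y⁻¹ ∈ (P1 : Subgroup H) := by
      rw [← hy, Sylow.coe_subgroup_smul]
      have h3 : (⟨x * s * x⁻¹, hs2H⟩ : H) ∈ (P2 : Subgroup H) := Subgroup.mem_zpowers _
      exact Subgroup.smul_mem_pointwise_smul _ (MulAut.conj y) _ h3
    obtain ⟨k, hk⟩ := Subgroup.mem_zpowers_iff.1 (show y * ⟨x * s * x⁻¹, hs2H⟩ * y⁻¹ ∈ Subgroup.zpowers (⟨s, hsH⟩ : H) from h2)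
    exact Subgroup.mem_zpowers_iff.2 ⟨k, congrArg Subtype.val hk⟩
  refine ⟨y * x, mul_mem y.2.1 hx, ?_, ?_⟩
  · rw [Equiv.Perm.mul_apply, hxa]; exact y.2.2
  · have : (y : Equiv.Perm Ω) * x * s * ((y : Equiv.Perm Ω) * x)⁻¹ = (y : Equiv.Perm Ω) * (x * s * x⁻¹) * (y : Equiv.Perm Ω)⁻¹ := by group
    rw [this]; exact h1

/-- invariance of the fixed points of `s` under commuting elements -/
theorem Fix_invariant {s t : Equiv.Perm GolayPt} (h : t * s = s * t) {x : GolayPt} (hx : x ∈ Fix s) : t x ∈ Fix s := by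
  rw [mem_Fix] at hx ⊢
  rw [← Equiv.Perm.mul_apply, ← h, Equiv.Perm.mul_apply, hx]

/-- uniqueness of an involution commuting with an element of order seven and fixing a given point -/
theorem inv_unique {s t t' : Equiv.Perm GolayPt} {x : GolayPt} (hs : s ∈ M24) (hs7 : s ^ 7 = 1) (hs1 : s ≠ 1)
    (hsx : s x = x) (ht : t ∈ M24) (ht2 : t ^ 2 = 1) (ht1 : t ≠ 1) (htx : t x = x) (hts : t * s = s * t)
    (ht' : t' ∈ M24) (ht2' : t' ^ 2 = 1) (ht1' : t' ≠ 1) (htx' : t' x = x) (hts' : t' * s = s * t') : t = t' := by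
  classical
  have f7 : Fact (Nat.Prime 7) := ⟨by norm_num⟩
  obtain ⟨a1, a2⟩ := card_Fix_of hs hs7 hs1
  have a3 : (Fix s).card = 3 := by
    unfold Nat.ModEq at a1; omega
  -- the fixed point sets are octads meeting `Fix s` in `x` only
  have key : ∀ {t : Equiv.Perm GolayPt}, t ∈ M24 → t ^ 2 = 1 → t ≠ 1 → t x = x → t * s = s * t →
      Fix t ∈ octads ∧ Fix t ∩ Fix s = {x} := by
    intro t ht ht2 ht1 htx hts
    have h1 := fix_involution ht ht2 ht1 htx
    refine ⟨h1, ?_⟩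
    have h2 := GolayFix.card_modEq hs7 (Fix t) (fun y hy => Fix_invariant hts.symm hy)
    have h3 : (Fix t ∩ Fix s).card ≤ 3 := by
      rw [← a3]; exact Finset.card_le_card Finset.inter_subset_right
    have h4 : (Fix t).card = 8 := h1.2
    have h5 : (Fix t ∩ Fix s).card = 1 := by
      unfold Nat.ModEq at h2; omega
    obtain ⟨y, hy⟩ := Finset.card_eq_one.1 h5
    have h6 : x ∈ Fix t ∩ Fix s := Finset.mem_inter.2 ⟨mem_Fix.2 htx, mem_Fix.2 hsx⟩
    rw [hy, Finset.mem_singleton] at h6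
    rw [hy, h6]
  obtain ⟨b1, b2⟩ := key ht ht2 ht1 htx hts
  obtain ⟨c1, c2⟩ := key ht' ht2' ht1' htx' hts'
  -- intersection
  have d1 : ∀ y, y ∈ Fix t ∩ Fix t' → s y ∈ Fix t ∩ Fix t' := by
    intro y hy
    rw [Finset.mem_inter] at hy ⊢
    exact ⟨Fix_invariant hts.symm hy.1, Fix_invariant hts'.symm hy.2⟩
  have d2 := GolayFix.card_modEq hs7 _ d1
  have d3 : Fix t ∩ Fix t' ∩ Fix s = {x} := by
    ext y
    rw [Finset.mem_inter, Finset.mem_inter, Finset.mem_singleton]
    constructor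
    · rintro ⟨⟨h1, _⟩, h2⟩
      have : y ∈ Fix t ∩ Fix s := Finset.mem_inter.2 ⟨h1, h2⟩
      rwa [b2, Finset.mem_singleton] at this
    · rintro rfl
      exact ⟨⟨mem_Fix.2 htx, mem_Fix.2 htx'⟩, mem_Fix.2 hsx⟩
  rw [d3, Finset.card_singleton] at d2
  have d4 := even_inter b1.1 c1.1
  have d5 : (Fix t ∩ Fix t').card ≤ 8 := by
    rw [← (show (Fix t).card = 8 from b1.2)]; exact Finset.card_le_card Finset.inter_subset_left
  have d6 : (Fix t ∩ Fix t').card = 8 := by
    unfold Nat.ModEq at d2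
    omega
  have d7 : Fix t ∩ Fix t' = Fix t := by
    apply Finset.eq_of_subset_of_card_le Finset.inter_subset_left
    rw [d6, (show (Fix t).card = 8 from b1.2)]
  -- `t * t'⁻¹` fixes at least ten points
  have htFs : ∀ {t : Equiv.Perm GolayPt}, t * s = s * t → ∀ y ∈ Fix s, t y ∈ Fix s := fun h y hy => Fix_invariant h hy
  have e1 : Fix t ∪ Fix s ⊆ Fix (t⁻¹ * t') := by
    intro y hy
    rw [Finset.mem_union] at hy
    rw [mem_Fix, Equiv.Perm.mul_apply, Equiv.Perm.inv_eq_iff_eq]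
    rcases hy with hy | hy
    · have h1 : y ∈ Fix t ∩ Fix t' := by rw [d7]; exact hy
      rw [Finset.mem_inter, mem_Fix, mem_Fix] at h1
      rw [h1.1, h1.2]
    · -- `y ∈ Fix s`: both swap the other two points
      by_cases hyx : y = x
      · rw [hyx, htx, htx']
      · have g1 : ∀ {t : Equiv.Perm GolayPt}, t x = x → t * s = s * t → Fix t ∩ Fix s = {x} →
            t y ∈ (Fix s).erase x ∧ t y ≠ y := by
          intro t htx hts hf
          refine ⟨?_, ?_⟩
          · rw [Finset.mem_erase]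
            refine ⟨?_, Fix_invariant hts hy⟩
            intro h
            apply hyx
            apply t.injective
            rw [h, htx]
          · intro h
            have : y ∈ Fix t ∩ Fix s := Finset.mem_inter.2 ⟨mem_Fix.2 h, hy⟩
            rw [hf, Finset.mem_singleton] at this
            exact hyx this
        obtain ⟨g2, g3⟩ := g1 htx hts b2
        obtain ⟨g4, g5⟩ := g1 htx' hts' c2
        have g6 : ((Fix s).erase x).erase y = {t y} := by
          symm
          apply Finset.eq_of_subset_of_card_le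
          · rw [Finset.singleton_subset_iff, Finset.mem_erase]
            exact ⟨g3, g2⟩
          · rw [Finset.card_erase_of_mem, Finset.card_erase_of_mem (mem_Fix.2 hsx), a3, Finset.card_singleton]
            rw [Finset.mem_erase]
            exact ⟨hyx, hy⟩
        have g7 : t' y ∈ ((Fix s).erase x).erase y := Finset.mem_erase.2 ⟨g5, g4⟩
        rw [g6, Finset.mem_singleton] at g7
        exact g7
  have e2 : 9 ≤ (Fix (t⁻¹ * t')).card := by
    refine le_trans ?_ (Finset.card_le_card e1)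
    have e3 := Finset.card_union_add_card_inter (Fix t) (Fix s)
    rw [b2, Finset.card_singleton, a3, (show (Fix t).card = 8 from b1.2)] at e3
    omega
  have e4 := eq_one_of_nine (mul_mem (inv_mem ht) ht') e2
  exact inv_mul_eq_one.1 e4

/-! ### `M24` -/

/-- an element of order seven fixing `none` -/
def c7 : ℕ := 984452513373213040150923350194695625
/-- an involution commuting with it and fixing `none` -/
def c2 : ℕ := 982224628547206897909838548245259688

theorem inM_c7 : inM c7 = true := by decide +kernel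
theorem inM_c2 : inM c2 = true := by decide +kernel
theorem c7_none : toPerm c7 none = none := by
  have h := toPerm_pt (valid_of_inM inM_c7) (i := 23) (by norm_num)
  have h2 : img c7 23 = 23 := by decide +kernel
  rw [h2] at h
  exact h
theorem c2_none : toPerm c2 none = none := by
  have h := toPerm_pt (valid_of_inM inM_c2) (i := 23) (by norm_num)
  have h2 : img c2 23 = 23 := by decide +kernel
  rw [h2] at h
  exact h

theorem toPerm_eq_one_iff {c : ℕ} (h : valid c = true) : toPerm c = 1 ↔ ∀ i < 24, img c i = i := by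
  constructor
  · intro h1 i hi
    have h2 := toPerm_pt h hi
    rw [h1, Equiv.Perm.one_apply] at h2
    have h3 := congrArg ix h2
    rw [ix_pt hi, ix_pt (img_lt h hi)] at h3
    exact h3.symm
  · intro h1
    ext p
    rw [← pt_ix p, toPerm_pt h (ix_lt p), h1 _ (ix_lt p), Equiv.Perm.one_apply]

theorem c7_pow : toPerm c7 ^ 7 = 1 := by
  have h1 := valid_of_inM inM_c7
  have h2 := valid_mulC h1 h1
  have h3 := valid_mulC h2 h1
  have h6 := valid_mulC h3 h3
  have h7 := valid_mulC h6 h1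
  have : toPerm c7 ^ 7 = toPerm (mulC (mulC (mulC (mulC c7 c7) c7) (mulC (mulC c7 c7) c7)) c7) := by
    rw [toPerm_mulC h6 h1, toPerm_mulC h3 h3, toPerm_mulC h2 h1, toPerm_mulC h1 h1]
    simp only [pow_succ, pow_zero, one_mul, mul_assoc]
  rw [this, show mulC (mulC (mulC (mulC c7 c7) c7) (mulC (mulC c7 c7) c7)) c7 = idC by decide +kernel, toPerm_idC]

theorem c7_ne : toPerm c7 ≠ 1 := by
  intro h
  rw [toPerm_eq_one_iff (valid_of_inM inM_c7)] at h
  exact absurd (h 0 (by norm_num)) (by decide +kernel)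

theorem c2_sq : toPerm c2 ^ 2 = 1 := by
  have h1 := valid_of_inM inM_c2
  rw [pow_two, ← toPerm_mulC h1 h1, show mulC c2 c2 = idC by decide +kernel, toPerm_idC]

theorem c2_ne : toPerm c2 ≠ 1 := by
  intro h
  rw [toPerm_eq_one_iff (valid_of_inM inM_c2)] at h
  exact absurd (h 1 (by norm_num)) (by decide +kernel)

theorem c2_c7 : toPerm c2 * toPerm c7 = toPerm c7 * toPerm c2 := by
  have h1 := valid_of_inM inM_c2
  have h2 := valid_of_inM inM_c7
  rw [← toPerm_mulC h1 h2, ← toPerm_mulC h2 h1, show mulC c2 c7 = mulC c7 c2 by decide +kernel]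

/-- an automorphism of `M24` maps point stabilizers to point stabilizers -/
theorem m24_fix (α : MulAut ↥M24) : ∃ q : GolayPt, ∀ g : M24, (g : Equiv.Perm GolayPt) none = none →
    ((α g : M24) : Equiv.Perm GolayPt) q = q := by
  classical
  set K : Subgroup M24 := MulAction.stabilizer M24 (none : GolayPt) with hK
  have hKc : Nat.card K = 10200960 := card_stab_one none
  have hKm : ∀ g : M24, g ∈ K ↔ (g : Equiv.Perm GolayPt) none = none := fun g => Iff.rfl
  let A : ↥M24 →* Equiv.Perm GolayPt := M24.subtype.comp α.toMonoidHom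
  have hA : ∀ g, A g = (α g : Equiv.Perm GolayPt) := fun g => rfl
  have hAinj : Function.Injective A := Subtype.val_injective.comp α.injective
  set X := K.map A with hX
  have hXc : Nat.card X = 10200960 := by rw [hX, Subgroup.card_map_of_injective hAinj, hKc]
  have hXM : ∀ x ∈ X, x ∈ M24 := by
    rintro _ ⟨g, -, rfl⟩
    exact (α g).2
  -- the element of order 23
  have f23 : Fact (Nat.Prime 23) := ⟨by norm_num⟩
  have f7 : Fact (Nat.Prime 7) := ⟨by norm_num⟩
  have f2 : Fact (Nat.Prime 2) := ⟨by norm_num⟩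
  obtain ⟨c, hc⟩ := exists_prime_orderOf_dvd_card' (G := X) 23 (by rw [hXc]; norm_num)
  have hc23 : (c : Equiv.Perm GolayPt) ^ 23 = 1 := by
    have h := pow_orderOf_eq_one c
    rw [hc] at h
    exact congrArg Subtype.val h
  have hc1 : (c : Equiv.Perm GolayPt) ≠ 1 := by
    intro h
    have : c = 1 := Subtype.ext h
    rw [this, orderOf_one] at hc
    norm_num at hc
  obtain ⟨a1, a2⟩ := card_Fix_of (hXM c c.2) hc23 hc1
  have a3 : (Fix (c : Equiv.Perm GolayPt)).card = 1 := by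
    unfold Nat.ModEq at a1; omega
  obtain ⟨q, hq⟩ := Finset.card_eq_one.1 a3
  refine ⟨q, ?_⟩
  by_contra hcon
  push Not at hcon
  obtain ⟨g0, hg0, hg0q⟩ := hcon
  -- `X` is transitive
  have htr0 : ∀ z : GolayPt, ∃ x ∈ X, x q = z := by
    intro z
    by_cases hz : z = q
    · exact ⟨1, one_mem _, by rw [hz]; rfl⟩
    · obtain ⟨i, hi⟩ := exists_pow (by norm_num) hc23 hq (by rw [Finset.card_singleton])
        (y := (α g0 : Equiv.Perm GolayPt) q) (z := z) (by simpa using hg0q) (by simpa using hz)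
      exact ⟨(c : Equiv.Perm GolayPt) ^ i * A g0, mul_mem (pow_mem c.2 i) ⟨g0, hg0, rfl⟩, by
        rw [Equiv.Perm.mul_apply]; exact hi⟩
  have htr : ∀ y z : GolayPt, ∃ x ∈ X, x y = z := by
    intro y z
    obtain ⟨x1, hx1, e1⟩ := htr0 y
    obtain ⟨x2, hx2, e2⟩ := htr0 z
    refine ⟨x2 * x1⁻¹, mul_mem hx2 (inv_mem hx1), ?_⟩
    rw [Equiv.Perm.mul_apply, ← e1, pia, e2]
  have hXb : ∀ b : GolayPt, Nat.card ↥(X ⊓ MulAction.stabilizer (Equiv.Perm GolayPt) b) = 425040 := by
    intro b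
    have h1 := card_eq_mul_inf_stabilizer X b Set.univ (fun _ _ => Set.mem_univ _) (fun y _ => htr b y)
    rw [hXc, Set.ncard_univ, natCard_pt] at h1
    omega
  -- the elements of order 7 and 2
  have hs0 : toPerm c7 ∈ M24 := toPerm_mem_M24 inM_c7
  have ht0 : toPerm c2 ∈ M24 := toPerm_mem_M24 inM_c2
  set s0 : M24 := ⟨toPerm c7, hs0⟩ with hs0d
  set t0 : M24 := ⟨toPerm c2, ht0⟩ with ht0d
  set s := A s0 with hs
  set t := A t0 with ht
  have hs0K : s0 ∈ K := c7_none
  have ht0K : t0 ∈ K := c2_none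
  have hsX : s ∈ X := ⟨s0, hs0K, rfl⟩
  have htX : t ∈ X := ⟨t0, ht0K, rfl⟩
  have hs07 : s0 ^ 7 = 1 := Subtype.ext c7_pow
  have hs01 : s0 ≠ 1 := fun h => c7_ne (congrArg Subtype.val h)
  have ht02 : t0 ^ 2 = 1 := Subtype.ext c2_sq
  have ht01 : t0 ≠ 1 := fun h => c2_ne (congrArg Subtype.val h)
  have hts0 : t0 * s0 = s0 * t0 := Subtype.ext c2_c7
  have hs7 : s ^ 7 = 1 := by rw [hs, ← map_pow, hs07, map_one]
  have hs1 : s ≠ 1 := fun h => hs01 (hAinj (h.trans (map_one A).symm))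
  have ht2 : t ^ 2 = 1 := by rw [ht, ← map_pow, ht02, map_one]
  have ht1 : t ≠ 1 := fun h => ht01 (hAinj (h.trans (map_one A).symm))
  have hts : t * s = s * t := by rw [ht, hs, ← map_mul, hts0, map_mul]
  have hos : orderOf s = 7 := orderOf_eq_prime hs7 hs1
  obtain ⟨b1, b2⟩ := card_Fix_of (hXM s hsX) hs7 hs1
  have b3 : (Fix s).card = 3 := by
    unfold Nat.ModEq at b1; omega
  -- `t` has a fixed point on `Fix s`
  have d1 := GolayFix.card_modEq ht2 (Fix s) (fun y hy => Fix_invariant hts hy)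
  have d2 : (Fix s ∩ Fix t).Nonempty := by
    rw [← Finset.card_pos]
    unfold Nat.ModEq at d1
    omega
  obtain ⟨a, ha⟩ := d2
  rw [Finset.mem_inter, mem_Fix, mem_Fix] at ha
  -- `t` fixes all of `Fix s`
  have d3 : Fix s ⊆ Fix t := by
    intro b hb
    rw [mem_Fix] at hb
    obtain ⟨n, hnX, hnab, hns⟩ := witt hsX hos ha.1 hb (htr a b) (by rw [hXb]; norm_num)
    -- `n` commutes with `t`
    obtain ⟨m, hm, rfl⟩ := hnX
    obtain ⟨k, hk⟩ := Subgroup.mem_zpowers_iff.1 hns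
    have hm1 : m * s0 * m⁻¹ = s0 ^ k := by
      apply hAinj
      rw [map_mul, map_mul, map_inv, map_zpow, ← hs, hk]
    have hcomm : (m * t0 * m⁻¹) * s0 = s0 * (m * t0 * m⁻¹) := by
      -- `m t0 m⁻¹` commutes with `s0 ^ k`, a generator
      have h1 : Commute (m * t0 * m⁻¹) (s0 ^ k) := by
        rw [← hm1]
        show (m * t0 * m⁻¹) * (m * s0 * m⁻¹) = (m * s0 * m⁻¹) * (m * t0 * m⁻¹)
        have e1 : (m * t0 * m⁻¹) * (m * s0 * m⁻¹) = m * (t0 * s0) * m⁻¹ := by group
        have e2 : (m * s0 * m⁻¹) * (m * t0 * m⁻¹) = m * (s0 * t0) * m⁻¹ := by group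
        rw [e1, e2, hts0]
      have hk7 : ¬ (7 : ℤ) ∣ k := by
        rintro ⟨j, rfl⟩
        rw [zpow_mul, zpow_ofNat, hs07, one_zpow] at hm1
        apply hs01
        have : s0 = m⁻¹ * (m * s0 * m⁻¹) * m := by group
        rw [this, hm1]; group
      have hcop : IsCoprime k 7 := by
        rw [isCoprime_comm, Prime.coprime_iff_not_dvd (by norm_num : Prime (7 : ℤ))]
        exact hk7
      obtain ⟨u, v, huv⟩ := hcop
      have h2 : s0 = (s0 ^ k) ^ u := by
        rw [← zpow_mul]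
        have : k * u = 1 - 7 * v := by linarith
        rw [this, zpow_sub, zpow_one, zpow_mul, zpow_ofNat, hs07, one_zpow, inv_one, mul_one]
      have h3 := h1.zpow_right u
      rw [← h2] at h3
      exact h3
    have hmM := m.2
    have huniq : (m * t0 * m⁻¹ : M24) = t0 := by
      apply Subtype.ext
      apply inv_unique (s := toPerm c7) (x := none) hs0 c7_pow c7_ne c7_none
      · exact (m * t0 * m⁻¹).2
      · have : (m * t0 * m⁻¹) ^ 2 = 1 := by rw [conj_pow, ht02]; group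
        exact congrArg Subtype.val this
      · intro h
        apply ht01
        have h5 : m * t0 * m⁻¹ = 1 := Subtype.ext h
        have : t0 = m⁻¹ * (m * t0 * m⁻¹) * m := by group
        rw [this, h5]; group
      · have : m * t0 * m⁻¹ ∈ K := mul_mem (mul_mem hm ht0K) (inv_mem hm)
        exact this
      · exact congrArg Subtype.val hcomm
      · exact ht0
      · exact c2_sq
      · exact c2_ne
      · exact c2_none
      · exact c2_c7
    have hmt : A m * t = t * A m := by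
      have h5 : m * t0 = t0 * m := by rw [← mul_inv_eq_iff_eq_mul]; exact huniq
      rw [ht, ← map_mul, h5, map_mul]
    rw [mem_Fix, ← hnab, ← Equiv.Perm.mul_apply, ← hmt, Equiv.Perm.mul_apply, ha.2]
  have d4 := GolayFix.card_modEq hs7 (Fix t) (fun y hy => Fix_invariant hts.symm hy)
  have d5 : Fix t ∩ Fix s = Fix s := Finset.inter_eq_right.2 d3
  rw [d5, b3] at d4
  have d6 : Fix t ∈ octads := fix_involution (hXM t htX) ht2 ht1 ha.2
  have d7 : (Fix t).card = 8 := d6.2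
  rw [d7] at d4
  unfold Nat.ModEq at d4
  omega

/-- realization of an automorphism by a permutation in `M24` -/
theorem inner_of {G : Subgroup (Equiv.Perm GolayPt)} {σ : Equiv.Perm GolayPt} (hσ : σ ∈ G) {α : MulAut G}
    (h : ∀ g : G, ((α g : G) : Equiv.Perm GolayPt) = σ * g * σ⁻¹) : α ∈ Inn G := by
  refine ⟨⟨σ, hσ⟩, ?_⟩
  ext g
  rw [h g, MulAut.conj_apply]
  rfl

theorem card_out_eq_one {G : Type*} [Group G] (h : ∀ α : MulAut G, α ∈ Inn G) : Nat.card (Out G) = 1 := by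
  have h1 : Inn G = ⊤ := by
    rw [eq_top_iff]
    intro α _
    exact h α
  show (Inn G).index = 1
  rw [h1, Subgroup.index_top]

theorem m24_out : Nat.card (Out ↥M24) = 1 := by
  apply card_out_eq_one
  intro α
  obtain ⟨q, hq⟩ := m24_fix α
  obtain ⟨σ, -, hσ⟩ := exists_conj M24 Set.univ (fun _ _ _ _ => Set.mem_univ _)
    (fun _ _ x hx => absurd (Set.mem_univ x) hx) (fun x _ y _ => by
      obtain ⟨g, hg, h⟩ := exists_emb_of_le (n := 1) (by norm_num) ⟨fun _ => x, fun _ _ _ => Subsingleton.elim _ _⟩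
        ⟨fun _ => y, fun _ _ _ => Subsingleton.elim _ _⟩
      exact ⟨g, hg, h 0⟩) α (Set.mem_univ none) (Set.mem_univ q) hq
  apply inner_of (σ := σ) _ hσ
  apply mem_M24_of_octads
  intro o ho
  obtain ⟨g, hg, hg2, rfl⟩ := exists_inv ho
  apply smul_octad _ hg2 ho
  rw [← hσ ⟨g, hg⟩]
  exact (α ⟨g, hg⟩).2

end Cfsg.Agent.Lib.H92MathieuAut
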