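import Cfsg.Agent.Lib.H92StemB
import Cfsg.Agent.Lib.H92MathieuAut
import Cfsg.Agent.Lib.GolayOctadA8

/-!
Multipliers of `M23` and `M24` (helper92)
-/

set_option autoImplicit false

namespace Cfsg.Agent.Lib.H92MathieuSchur

open Cfsg Cfsg.Agent.Lib.Golay Cfsg.Agent.Lib.H92Stem Cfsg.Agent.Lib.PresAlt Cfsg.Agent.Lib.H92MathieuAut
open Cfsg.Agent.Lib.GolayFix (Fix mem_Fix)
open Cfsg.Agent.Lib.MathieuFix
open scoped Pointwise Nat

/-- the standard octad -/
abbrev OO : Finset GolayPt := mset 8536111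

/-- its pointwise stabiliser -/
abbrev EE : Subgroup (Equiv.Perm GolayPt) := OctPt OO

def conjL : List (ℕ × ℕ) := [(965128854020860192151391391390468128, 984818244535754528103549039458486304), (966182099583441531322624363496310816, 967892450496570809518106208993642542), (967812279691448225500382947153381408, 975206435510997974864251208656325056), (972512676110088067912772961567868960, 968631289106649484985030304682063904), (971592882964418941354553515258775584, 972771709591600271314490660250650656), (981818691054096003685363657089320992, 976531636853126291160407323722221600), (976448692869377735270425038196672544, 983558201657147595496023112516995537), (970499966350631336865513127433832480, 984728307533059736561803021309294641), (968708902336673183175954409307867168, 980924126449265481443851578722682929), (961365507626256404119956257276790816, 963710585106674419477605174187493934), (963721886883755259286232606933354528, 984691046859117290952799632694035502), (983548720921252936276249910206105632,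 970076220132446284830085442418361792), (980224387687010295957922729495201824, 967729080089996263139561433750160416), (979121071158219704299181131031480352, 970539259265011527878117680505980974), (975346028712660580592452217730074656, 979283409119483249701587601985157152)]

def e1 : ℕ := 965128854020860192151391391390468128
def e2 : ℕ := 963721886883755259286232606933354528
def e3 : ℕ := 979121071158219704299181131031480352

theorem conjL_ok : (conjL.all fun cg => inM cg.2 && Nat.beq (img cg.2 23) 23 &&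
    Nat.beq (mulC cg.2 e1) (mulC cg.1 cg.2)) = true := by decide +kernel

theorem tr6_cov : (tr6.all fun c => Nat.beq c idC || conjL.any fun cg => Nat.beq cg.1 c) = true := by
  decide +kernel

/-- preservation of a mask -/
def pres (m c : ℕ) : Bool := (List.range 24).all fun j =>
  Nat.beq (Nat.land (Nat.shiftRight m (img c j)) 1) (Nat.land (Nat.shiftRight m j) 1)

def trO : List (ℕ × ℕ) := [(0, 731717939082756997243057396850460727), (1, 732660624281556290936533869681281760), (2, 722401443817825141311572050727525408), (3, 720723128941937770989778379473651744), (5, 734193695561696696727012081653614624), (14, 725895487971383339971559185675552800), (17, 28053988866716673203537658660358193), (23, 984818244535754528103549039458486304)]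

theorem trO_ok : (trO.all fun qk => inM qk.2 && Nat.beq (img qk.2 qk.1) 23 && pres 8536111 qk.2) = true := by
  decide +kernel

theorem trO_cov : ((List.range 24).all fun j => Nat.beq (Nat.land (Nat.shiftRight 8536111 j) 1) 0 ||
    trO.any fun qk => Nat.beq qk.1 j) = true := by decide +kernel

def xs24 : List ℕ := [28053988866716673203537658660358193, 61321667758971531214637706023897632, 97608250382100756041296058784007200, 140730224132340021555781000682309664, 233256162770680474255234529480509472, 608167165260361641911015062699608096]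
def ws24 : List ℕ := [0, 972713015682628765042443678633855008, 972713015682628765042443678633855008, 963684846469261343063326513350939712, 983434085199926273856062762812214336, 983434085199926273856062762812214336]
def xs23 : List ℕ := [967892450496570809518106208993642542, 975206435510997974864251208656325056, 968631289106649484985030304682063904, 972771709591600271314490660250650656, 976531636853126291160407323722221600]
def ws23 : List ℕ := [0, 982093578127259812432453999941291040, 967331981246492663577394998501607520, 963684846469261343063326513350939712, 983434085199926273856062762812214336]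

/-- the checks for a single generator: `n` selects whether `none` is to be fixed -/
def okx (f : Bool) (c : ℕ) : Bool := inM c && Nat.beq (img c 4) 4 && pres 8536111 c &&
  Nat.beq (mulC (mulC c c) c) idC && (f || Nat.beq (img c 23) 23) &&
  (List.range 24).all fun j => Nat.beq j 4 || Nat.beq (Nat.land (Nat.shiftRight 8536111 j) 1) 1 || !Nat.beq (img c j) j

/-- the product of two generators squares to one -/
def okp (c d : ℕ) : Bool := Nat.beq (mulC (mulC c d) (mulC c d)) idC

/-- restriction to the octad is the cycle `a ↦ b ↦ i ↦ a` -/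
def cyc (S a b i c : ℕ) : Bool := (List.range 24).all fun j => Nat.beq (Nat.land (Nat.shiftRight S j) 1) 0 ||
  Nat.beq (img c j) (if Nat.beq j a then b else if Nat.beq j b then i else if Nat.beq j i then a else j)

/-- everything about the lists `xs` and `ws` -/
def okAll (f : Bool) (S a b : ℕ) (ps xs ws : List ℕ) (m : ℕ) : Bool :=
  ((List.range m).all fun i => okx f (xs.getD i 0) && pres S (xs.getD i 0) && cyc S a b (ps.getD i 0) (xs.getD i 0)) &&
  ((List.range m).all fun i => (List.range m).all fun j => Nat.beq i j || okp (xs.getD i 0) (xs.getD j 0)) &&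
  ((List.range m).all fun j => Nat.beq j 0 || (okx f (ws.getD j 0) &&
    Nat.beq (mulC (ws.getD j 0) (xs.getD 0 0)) (mulC (xs.getD 0 0) (ws.getD j 0)) &&
    Nat.beq (mulC (ws.getD j 0) (xs.getD j 0)) (mulC (xs.getD j 0) (ws.getD j 0)))) &&
  ((List.range 24).all fun j => Nat.beq (Nat.land (Nat.shiftRight S j) 1) 0 || Nat.beq j a || Nat.beq j b ||
    (List.range m).any fun i => Nat.beq (ps.getD i 0) j)

theorem ok24 : okAll true 8536111 17 23 [0, 1, 2, 3, 5, 14] xs24 ws24 6 = true := by decide +kernel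
theorem ok23 : okAll false 147503 14 17 [0, 1, 2, 3, 5] xs23 ws23 5 = true := by decide +kernel

theorem beq_imp {a b : ℕ} (h : Nat.beq a b = true) : a = b := Nat.eq_of_beq_eq_true h

theorem testBit_eq (m j : ℕ) : m.testBit j = true ↔ Nat.land (Nat.shiftRight m j) 1 = 1 := by
  rw [← testBit_iff_beq]
  exact ⟨fun h => beq_imp h, fun h => by rw [h]; rfl⟩

theorem testBit_eq_zero (m j : ℕ) : m.testBit j = false ↔ Nat.land (Nat.shiftRight m j) 1 = 0 := by
  have h1 := testBit_eq m j
  have h2 : Nat.land (Nat.shiftRight m j) 1 = (m >>> j) % 2 := Nat.and_one_is_mod _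
  rw [h2] at h1 ⊢
  cases h : m.testBit j
  · rw [h] at h1
    have : (m >>> j) % 2 ≠ 1 := fun e => by simpa using h1.2 e
    simp; omega
  · rw [h] at h1
    have := h1.1 rfl
    simp; omega

theorem mem_iff_of_pres {m c : ℕ} (hc : valid c = true) (h : pres m c = true) (x : GolayPt) :
    toPerm c x ∈ mset m ↔ x ∈ mset m := by
  rw [mem_mset, mem_mset, toPerm_apply hc, ix_pt (img_lt hc (ix_lt x))]
  have h1 := beq_imp (List.all_eq_true.mp h (ix x) (List.mem_range.2 (ix_lt x)))
  rw [testBit_eq, testBit_eq, h1]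

theorem pt23 : pt 23 = none := by decide
theorem none_mem : (none : GolayPt) ∈ OO := by rw [← pt23]; exact mem_oct0.1
theorem pt4_notMem : pt 4 ∉ OO := mem_oct0.2.2.2.2.2.2

theorem EE_M {e : Equiv.Perm GolayPt} (he : e ∈ EE) : e ∈ M24 := (mem_OctPt.1 he).1
theorem EE_fix {e : Equiv.Perm GolayPt} (he : e ∈ EE) {p : GolayPt} (hp : p ∈ OO) : e p = p := (mem_OctPt.1 he).2 p hp

theorem e1_mem : toPerm e1 ∈ EE := tr6_mem (by decide)
theorem e2_mem : toPerm e2 ∈ EE := tr6_mem (by decide)
theorem e3_mem : toPerm e3 ∈ EE := tr6_mem (by decide)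

theorem inM_e1 : inM e1 = true := by decide +kernel
theorem inM_e2 : inM e2 = true := by decide +kernel
theorem inM_e3 : inM e3 = true := by decide +kernel

theorem ne_one_of {c : ℕ} (hc : valid c = true) (h : Nat.beq (img c 4) 4 = false) : toPerm c ≠ 1 := by
  intro h1
  rw [toPerm_eq_one_iff hc] at h1
  rw [h1 4 (by norm_num)] at h
  exact absurd h (by decide)

theorem conj_e1 {e : Equiv.Perm GolayPt} (he : e ∈ EE) (h1 : e ≠ 1) :
    ∃ g ∈ M24, g none = none ∧ g * toPerm e1 * g⁻¹ = e := by
  obtain ⟨c, hc, rfl⟩ := mem_OctPt0 he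
  have h2 := List.all_eq_true.mp tr6_cov c hc
  rw [Bool.or_eq_true] at h2
  rcases h2 with h2 | h2
  · exact absurd (by rw [beq_imp h2, toPerm_idC]) h1
  · obtain ⟨⟨c', g⟩, hcg, h3⟩ := List.any_eq_true.mp h2
    have h3' : c' = c := beq_imp h3
    subst h3'
    have h4 := List.all_eq_true.mp conjL_ok _ hcg
    simp only [Bool.and_eq_true] at h4
    obtain ⟨⟨h5, h6⟩, h7⟩ := h4
    have hv := valid_of_inM h5
    have hvc := valid_of_inM (lvl_mem lvl6 hc).1
    refine ⟨toPerm g, toPerm_mem_M24 h5, ?_, ?_⟩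
    · rw [← pt23, toPerm_pt hv (by norm_num), beq_imp h6]
    · rw [mul_inv_eq_iff_eq_mul, ← toPerm_mulC hv (valid_of_inM inM_e1), ← toPerm_mulC hvc hv, beq_imp h7]

section generic

variable {X : Subgroup (Equiv.Perm GolayPt)} (hXM : X ≤ M24) (hX : ∀ g ∈ M24, g none = none → g ∈ X)
  {Γ : Type*} [Group Γ] {ρ : Γ →* Equiv.Perm GolayPt} (hr : ∀ g ∈ X, ∃ u, ρ u = g) {z : Γ} (h : Ext ρ z)

include hX in
theorem EE_le {e : Equiv.Perm GolayPt} (he : e ∈ EE) : e ∈ X := hX e (EE_M he) (EE_fix he none_mem)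

include hX hr h in
theorem goodE : ∀ e ∈ EE, Good ρ e := by
  have v1 := valid_of_inM inM_e1
  have v2 := valid_of_inM inM_e2
  have v3 := valid_of_inM inM_e3
  refine h.good_of_conj EE (fun e he => OctPt0_sq he) (fun e he => hr e (EE_le hX he)) ?_
    e1_mem e2_mem e3_mem (ne_one_of v1 (by decide +kernel)) (ne_one_of v2 (by decide +kernel))
    (ne_one_of v3 (by decide +kernel))
    (by rw [← toPerm_mulC v1 v2]; exact ne_one_of (valid_mulC v1 v2) (by decide +kernel))
    (by rw [← toPerm_mulC v1 v3]; exact ne_one_of (valid_mulC v1 v3) (by decide +kernel))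
    (by rw [← toPerm_mulC v2 v3]; exact ne_one_of (valid_mulC v2 v3) (by decide +kernel))
    (by rw [← toPerm_mulC v2 v3, ← toPerm_mulC v1 (valid_mulC v2 v3)]
        exact ne_one_of (valid_mulC v1 (valid_mulC v2 v3)) (by decide +kernel))
  intro e he he1 f hf hf1
  obtain ⟨g, hg, gn, ge⟩ := conj_e1 he he1
  obtain ⟨k, hk, kn, ke⟩ := conj_e1 hf hf1
  obtain ⟨u, hu⟩ := hr (k * g⁻¹) (mul_mem (hX k hk kn) (inv_mem (hX g hg gn)))
  refine ⟨u, ?_⟩
  rw [hu, ← ge, ← ke]; group

include hXM hX hr h in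
/-- involutions conjugate into `EE` -/
theorem good_of {t : Equiv.Perm GolayPt} (ht : t ∈ M24) (ht2 : t * t = 1) {p : GolayPt} (hp : t p = p)
    (hconj : Fix t ∈ octads → ∃ g ∈ X, g • Fix t = OO) : Good ρ t := by
  by_cases ht1 : t = 1
  · subst ht1
    exact goodE hX hr h 1 (one_mem _)
  · have h1 := fix_involution ht (by rw [pow_two]; exact ht2) ht1 hp
    obtain ⟨g, hg, hgF⟩ := hconj h1
    obtain ⟨u, hu⟩ := hr _ hg
    have h2 : g * t * g⁻¹ ∈ EE := by
      rw [mem_OctPt]
      refine ⟨mul_mem (mul_mem (hXM hg) ht) (inv_mem (hXM hg)), fun q hq => ?_⟩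
      rw [← hgF, ← Fix_conj, mem_Fix] at hq
      exact hq
    have h3 := (goodE hX hr h _ h2).conj u⁻¹
    rw [map_inv, hu] at h3
    have h4 : g⁻¹ * (g * t * g⁻¹) * g⁻¹⁻¹ = t := by group
    rw [h4] at h3
    exact h3

end generic

/-- octads containing `none` are equivalent under the stabiliser of `none` -/
theorem octad_none {o : Finset GolayPt} (ho : o ∈ octads) (hn : none ∈ o) :
    ∃ g ∈ M24, g none = none ∧ g • o = OO := by
  obtain ⟨g, hg, hgo⟩ := octad_transitive ho oct0_mem
  have h1 : g none ∈ OO := by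
    have h1 := Finset.smul_mem_smul_finset (a := g) hn
    rw [hgo] at h1; exact h1
  have h2 := List.all_eq_true.mp trO_cov (ix (g none)) (List.mem_range.2 (ix_lt _))
  rw [Bool.or_eq_true] at h2
  rcases h2 with h2 | h2
  · rw [mem_mset, testBit_eq, beq_imp h2] at h1
    exact absurd h1 (by norm_num)
  · obtain ⟨⟨q, k⟩, hqk, h3⟩ := List.any_eq_true.mp h2
    have h4 := List.all_eq_true.mp trO_ok _ hqk
    simp only [Bool.and_eq_true] at h4
    obtain ⟨⟨h5, h6⟩, h7⟩ := h4
    have h3' : q = ix (g none) := beq_imp h3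
    subst h3'
    have hv := valid_of_inM h5
    have hk := toPerm_mem_M24 h5
    refine ⟨toPerm k * g, mul_mem hk hg, ?_, ?_⟩
    · rw [Equiv.Perm.mul_apply, toPerm_apply hv, beq_imp h6, pt23]
    · rw [mul_smul, hgo]
      exact smul_eq_of_mem_iff (mem_iff_of_pres hv h7)

/-! ### the generators -/

theorem okx_spec {f : Bool} {c : ℕ} (h : okx f c = true) : inM c = true ∧ toPerm c (pt 4) = pt 4 ∧
    (∀ x, toPerm c x ∈ OO ↔ x ∈ OO) ∧ toPerm c ^ 3 = 1 ∧ (f = false → toPerm c none = none) ∧
    (∀ x, x ∉ OO → toPerm c x = x → x = pt 4) := by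
  unfold okx at h
  simp only [Bool.and_eq_true] at h
  obtain ⟨⟨⟨⟨⟨h1, h2⟩, h3⟩, h4⟩, h5⟩, h6⟩ := h
  have hv := valid_of_inM h1
  refine ⟨h1, ?_, mem_iff_of_pres hv h3, ?_, ?_, ?_⟩
  · rw [toPerm_pt hv (by norm_num), beq_imp h2]
  · rw [pow_succ, pow_two, ← toPerm_mulC hv hv, ← toPerm_mulC (valid_mulC hv hv) hv, beq_imp h4, toPerm_idC]
  · rintro rfl
    rw [Bool.false_or] at h5
    rw [← pt23, toPerm_pt hv (by norm_num), beq_imp h5]
  · intro x hx hfx
    have h7 := List.all_eq_true.mp h6 (ix x) (List.mem_range.2 (ix_lt x))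
    rw [Bool.or_eq_true, Bool.or_eq_true] at h7
    rcases h7 with (h7 | h7) | h7
    · rw [← beq_imp h7, pt_ix]
    · exact absurd (by rw [mem_mset, testBit_eq]; exact beq_imp h7) hx
    · exfalso
      rw [toPerm_apply hv] at hfx
      have h8 : img c (ix x) = ix x := by
        rw [← ix_pt (img_lt hv (ix_lt x)), hfx]
      rw [h8, Nat.beq_refl] at h7
      exact absurd h7 (by decide)

theorem smul_OO {f : Bool} {c : ℕ} (h : okx f c = true) : toPerm c • OO = OO :=
  smul_eq_of_mem_iff (okx_spec h).2.2.1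

theorem okx_norm {f : Bool} {c : ℕ} (h : okx f c = true) {e : Equiv.Perm GolayPt} (he : e ∈ EE) :
    toPerm c * e * (toPerm c)⁻¹ ∈ EE := by
  have h1 := OctPt_conj (toPerm_mem_M24 (okx_spec h).1) OO (toPerm c * e * (toPerm c)⁻¹)
  rw [smul_OO h] at h1
  rw [h1]
  have : (toPerm c)⁻¹ * (toPerm c * e * (toPerm c)⁻¹) * toPerm c = e := by group
  rw [this]; exact he

theorem okx_fpf {f : Bool} {c : ℕ} (h : okx f c = true) {e : Equiv.Perm GolayPt} (he : e ∈ EE)
    (hce : toPerm c * e * (toPerm c)⁻¹ = e) : e = 1 := by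
  rw [mul_inv_eq_iff_eq_mul] at hce
  have h1 : toPerm c (e (pt 4)) = e (pt 4) := by
    rw [← Equiv.Perm.mul_apply, hce, Equiv.Perm.mul_apply, (okx_spec h).2.1]
  have h2 : e (pt 4) ∉ OO := by
    intro h3
    have h4 := EE_fix he h3
    have h5 := e.injective h4
    rw [h5] at h3
    exact pt4_notMem h3
  exact OctPt_fix_eq_one oct0_mem pt4_notMem he ((okx_spec h).2.2.2.2.2 _ h2 h1)

section W

variable {f : Bool} {S a b : ℕ} {ps xs ws : List ℕ} {m : ℕ}

structure Ok (f : Bool) (S a b : ℕ) (ps xs ws : List ℕ) (m : ℕ) : Prop where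
  x : ∀ i < m, okx f (xs.getD i 0) = true
  pr : ∀ i < m, pres S (xs.getD i 0) = true
  cy : ∀ i < m, cyc S a b (ps.getD i 0) (xs.getD i 0) = true
  p : ∀ i < m, ∀ j < m, i ≠ j → okp (xs.getD i 0) (xs.getD j 0) = true
  w : ∀ j < m, 0 < j → okx f (ws.getD j 0) = true
  w0 : ∀ j < m, 0 < j → mulC (ws.getD j 0) (xs.getD 0 0) = mulC (xs.getD 0 0) (ws.getD j 0)
  wj : ∀ j < m, 0 < j → mulC (ws.getD j 0) (xs.getD j 0) = mulC (xs.getD j 0) (ws.getD j 0)
  cov : ∀ j < 24, S.testBit j = true → j ≠ a → j ≠ b → ∃ i < m, ps.getD i 0 = j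

theorem ok_of (h : okAll f S a b ps xs ws m = true) : Ok f S a b ps xs ws m := by
  unfold okAll at h
  simp only [Bool.and_eq_true] at h
  obtain ⟨⟨⟨h1, h2⟩, h3⟩, h4⟩ := h
  have g1 := fun i (hi : i < m) => List.all_eq_true.mp h1 i (List.mem_range.2 hi)
  have g2 := fun i (hi : i < m) j (hj : j < m) => List.all_eq_true.mp (List.all_eq_true.mp h2 i (List.mem_range.2 hi)) j
    (List.mem_range.2 hj)
  have g3 := fun i (hi : i < m) => List.all_eq_true.mp h3 i (List.mem_range.2 hi)
  have g4 := fun i (hi : i < 24) => List.all_eq_true.mp h4 i (List.mem_range.2 hi)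
  simp only [Bool.and_eq_true, Bool.or_eq_true] at g1 g2 g3 g4
  refine ⟨fun i hi => (g1 i hi).1.1, fun i hi => (g1 i hi).1.2, fun i hi => (g1 i hi).2, ?_, ?_, ?_, ?_, ?_⟩
  · intro i hi j hj hij
    rcases g2 i hi j hj with h5 | h5
    · exact absurd (beq_imp h5) hij
    · exact h5
  · intro j hj hj0
    rcases g3 j hj with h5 | h5
    · exact absurd (beq_imp h5) hj0.ne'
    · exact h5.1.1
  · intro j hj hj0
    rcases g3 j hj with h5 | h5
    · exact absurd (beq_imp h5) hj0.ne'
    · exact beq_imp h5.1.2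
  · intro j hj hj0
    rcases g3 j hj with h5 | h5
    · exact absurd (beq_imp h5) hj0.ne'
    · exact beq_imp h5.2
  · intro j hj hS ha hb
    rcases g4 j hj with ((h5 | h5) | h5) | h5
    · rw [testBit_eq, beq_imp h5] at hS
      exact absurd hS (by norm_num)
    · exact absurd (beq_imp h5) ha
    · exact absurd (beq_imp h5) hb
    · obtain ⟨i, hi, h6⟩ := List.any_eq_true.mp h5
      exact ⟨i, List.mem_range.1 hi, beq_imp h6⟩

/-- the generators -/
noncomputable def xx (xs : List ℕ) (i : ℕ) : Equiv.Perm GolayPt := toPerm (xs.getD i 0)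

theorem gen_le {K : Subgroup (Equiv.Perm GolayPt)} (h : ∀ i < m, xx xs i ∈ K) : gen (xx xs) m ≤ K := by
  refine (Subgroup.closure_le _).2 ?_
  rintro _ ⟨i, hi, rfl⟩
  exact h i hi

theorem Ok.disj (hok : Ok f S a b ps xs ws m) : EE ⊓ gen (xx xs) m = ⊥ := by
  rw [eq_bot_iff]
  intro g hg
  have h1 : gen (xx xs) m ≤ MulAction.stabilizer (Equiv.Perm GolayPt) (pt 4) :=
    gen_le fun i hi => (okx_spec (hok.x i hi)).2.1
  rw [Subgroup.mem_bot]
  exact OctPt_fix_eq_one oct0_mem pt4_notMem hg.1 (h1 hg.2)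

theorem Ok.norm (hok : Ok f S a b ps xs ws m) : gen (xx xs) m ≤ Subgroup.normalizer (EE : Set (Equiv.Perm GolayPt)) := by
  refine gen_le fun i hi => ?_
  apply Subgroup.mem_normalizer_fintype
  intro e he
  exact okx_norm (hok.x i hi) he

theorem Ok.card_sup (hok : Ok f S a b ps xs ws m) :
    Nat.card ↥(EE ⊔ gen (xx xs) m) = 16 * Nat.card (gen (xx xs) m) := by
  have h1 : ((EE ⊔ gen (xx xs) m : Subgroup (Equiv.Perm GolayPt)) : Set (Equiv.Perm GolayPt)) =
      (EE : Set (Equiv.Perm GolayPt)) * (gen (xx xs) m : Set (Equiv.Perm GolayPt)) :=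
    Subgroup.coe_mul_of_right_le_normalizer_left _ _ hok.norm
  let ff : EE × gen (xx xs) m → ↥(EE ⊔ gen (xx xs) m) := fun p =>
    ⟨p.1 * p.2, mul_mem ((le_sup_left : EE ≤ _) p.1.2) ((le_sup_right : gen (xx xs) m ≤ _) p.2.2)⟩
  have hff : Function.Bijective ff := by
    constructor
    · intro p q hpq
      exact Subgroup.mul_injective_of_disjoint (disjoint_iff.2 hok.disj) (congrArg Subtype.val hpq)
    · rintro ⟨g, hg⟩
      rw [← SetLike.mem_coe, h1] at hg
      obtain ⟨e, he, w, hw, rfl⟩ := hg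
      exact ⟨⟨⟨e, he⟩, ⟨w, hw⟩⟩, rfl⟩
  rw [← Nat.card_congr (Equiv.ofBijective ff hff), Nat.card_prod, card_OctPt0]

theorem Ok.card_dvd (hok : Ok f S a b ps xs ws m) (hS : (mset S).card = m + 2) (ha : a < 24) (hb : b < 24)
    (hab : a ≠ b) (haS : S.testBit a = true) (hbS : S.testBit b = true) :
    (m + 2)! ∣ 2 * Nat.card (gen (xx xs) m) := by
  classical
  have hst : gen (xx xs) m ≤ MulAction.stabilizer (Equiv.Perm GolayPt) (mset S) :=
    gen_le fun i hi => smul_eq_of_mem_iff (mem_iff_of_pres (valid_of_inM (okx_spec (hok.x i hi)).1) (hok.pr i hi))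
  let ff : gen (xx xs) m →* Equiv.Perm ↥(mset S) :=
    { toFun := fun g => g.1.subtypePerm (fun x => mem_iff_of_smul_eq (hst g.2) x)
      map_one' := by ext x; rfl
      map_mul' := fun g h => by ext x; rfl }
  have hff : ∀ g (x : ↥(mset S)), ((ff g x : ↥(mset S)) : GolayPt) = g.1 x := fun _ _ => rfl
  have hma : pt a ∈ mset S := by rw [mem_mset, ix_pt ha]; exact haS
  have hmb : pt b ∈ mset S := by rw [mem_mset, ix_pt hb]; exact hbS
  have hpab : pt a ≠ pt b := fun e => hab (by rw [← ix_pt ha, e, ix_pt hb])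
  have halt : alternatingGroup ↥(mset S) ≤ ff.range := by
    apply alt_le_of_star (a := ⟨pt a, hma⟩) (b := ⟨pt b, hmb⟩) (fun e => hpab (congrArg Subtype.val e))
    rintro ⟨q, hq⟩ hqa hqb
    have hqa' : q ≠ pt a := fun e => hqa (Subtype.ext e)
    have hqb' : q ≠ pt b := fun e => hqb (Subtype.ext e)
    obtain ⟨i, hi, hpi⟩ := hok.cov (ix q) (ix_lt q) (by rwa [mem_mset] at hq)
      (fun e => hqa' (by rw [← e, pt_ix])) (fun e => hqb' (by rw [← e, pt_ix]))
    refine ⟨⟨xx xs i, mem_gen _ hi⟩, ?_⟩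
    apply Equiv.ext
    rintro ⟨x, hx⟩
    apply Subtype.ext
    rw [hff]
    have hc := List.all_eq_true.mp (hok.cy i hi) (ix x) (List.mem_range.2 (ix_lt x))
    rw [Bool.or_eq_true] at hc
    rcases hc with hc | hc
    · rw [mem_mset, testBit_eq, beq_imp hc] at hx
      exact absurd hx (by norm_num)
    · have hc' := beq_imp hc
      rw [hpi] at hc'
      show toPerm (xs.getD i 0) x = _
      rw [toPerm_apply (valid_of_inM (okx_spec (hok.x i hi)).1), hc', Equiv.Perm.mul_apply]
      have bq : ∀ u v : ℕ, (Nat.beq u v = true) = (u = v) := fun u v => propext ⟨beq_imp, fun e => by rw [e, Nat.beq_refl]⟩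
      simp only [bq]
      by_cases h1 : ix x = a
      · rw [if_pos h1]
        have e1 : x = pt a := by rw [← h1, pt_ix]
        subst e1
        have s1 : Equiv.swap (⟨pt b, hmb⟩ : ↥(mset S)) ⟨q, hq⟩ ⟨pt a, hx⟩ = ⟨pt a, hx⟩ :=
          Equiv.swap_apply_of_ne_of_ne (fun e => hpab (congrArg Subtype.val e))
            (fun e => hqa' (congrArg Subtype.val e).symm)
        rw [s1, Equiv.swap_apply_left]
      · rw [if_neg h1]
        have n1 : x ≠ pt a := fun e => h1 (by rw [e, ix_pt ha])
        by_cases h2 : ix x = b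
        · rw [if_pos h2]
          have e1 : x = pt b := by rw [← h2, pt_ix]
          subst e1
          rw [Equiv.swap_apply_left, Equiv.swap_apply_of_ne_of_ne (fun e => hqa' (congrArg Subtype.val e))
            (fun e => hqb' (congrArg Subtype.val e)), pt_ix]
        · rw [if_neg h2]
          have n2 : x ≠ pt b := fun e => h2 (by rw [e, ix_pt hb])
          by_cases h3 : ix x = ix q
          · rw [if_pos h3]
            have e1 : x = q := ix_injective h3
            subst e1
            rw [Equiv.swap_apply_right, Equiv.swap_apply_right]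
          · rw [if_neg h3, pt_ix]
            have n3 : x ≠ q := fun e => h3 (by rw [e])
            have s1 : Equiv.swap (⟨pt b, hmb⟩ : ↥(mset S)) ⟨q, hq⟩ ⟨x, hx⟩ = ⟨x, hx⟩ :=
              Equiv.swap_apply_of_ne_of_ne (fun e => n2 (congrArg Subtype.val e))
                (fun e => n3 (congrArg Subtype.val e))
            rw [s1, Equiv.swap_apply_of_ne_of_ne (fun e => n1 (congrArg Subtype.val e))
              (fun e => n2 (congrArg Subtype.val e))]
  have hnt : Nontrivial ↥(mset S) := ⟨⟨⟨pt a, hma⟩, ⟨pt b, hmb⟩, fun e => hpab (congrArg Subtype.val e)⟩⟩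
  have h1 : 2 * Nat.card (alternatingGroup ↥(mset S)) = (m + 2)! := by
    rw [two_mul_nat_card_alternatingGroup, Nat.card_eq_fintype_card, Fintype.card_perm, Fintype.card_coe, hS]
  rw [← h1]
  exact Nat.mul_dvd_mul_left 2 ((Subgroup.card_dvd_of_le halt).trans (Subgroup.card_range_dvd ff))

end W

/-! ### the prime two -/

section two

universe u

variable {X : Subgroup (Equiv.Perm GolayPt)} (hXM : X ≤ M24) (hX : ∀ g ∈ M24, g none = none → g ∈ X)
  {f : Bool} {S a b : ℕ} {ps xs ws : List ℕ} {m : ℕ}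

include hXM hX in
theorem p_two (hok : Ok f S a b ps xs ws m) (hm : 0 < m) (hS : (mset S).card = m + 2) (ha : a < 24) (hb : b < 24)
    (hab : a ≠ b) (haS : S.testBit a = true) (hbS : S.testBit b = true)
    (hxX : ∀ c, okx f c = true → toPerm c ∈ X)
    (hconj : ∀ t ∈ X, t (pt 4) = pt 4 → Fix t ∈ octads → ∃ g ∈ X, g • Fix t = OO)
    {N : ℕ} (hcard : Nat.card X = N) (hN : ∀ i, i * (8 * (m + 2)!) ∣ N → ¬ 2 ∣ i) :
    Cfsg.Agent.Lib.SchurSylow.PStemDvd 2 X 1 := by
  have f2 : Fact (Nat.Prime 2) := ⟨Nat.prime_two⟩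
  apply pStemDvd_one_of
  intro Γ _ _ σ hσ hc
  -- the extension
  have hnt : Nontrivial σ.ker := by
    rw [← Finite.one_lt_card_iff_nontrivial, hc]; norm_num
  obtain ⟨⟨z, hz⟩, hz1⟩ := exists_ne (1 : σ.ker)
  have hz1' : z ≠ 1 := fun e => hz1 (Subtype.ext e)
  have hkz : ∀ g, σ g = 1 → g = 1 ∨ g = z := by
    intro g hg
    by_contra hcon
    push Not at hcon
    have h1 := Nat.card_eq_two_iff.1 hc
    obtain ⟨x, y, -, hxy⟩ := h1
    have h2 : ∀ w : σ.ker, w = x ∨ w = y := by
      intro w
      have : w ∈ ({x, y} : Set σ.ker) := by rw [hxy]; exact Set.mem_univ w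
      simpa using this
    have n1 : (⟨g, hg⟩ : σ.ker) ≠ 1 := fun e => hcon.1 (congrArg Subtype.val e)
    have n2 : (⟨g, hg⟩ : σ.ker) ≠ ⟨z, hz⟩ := fun e => hcon.2 (congrArg Subtype.val e)
    rcases h2 1 with a1 | a1 <;> rcases h2 ⟨z, hz⟩ with a2 | a2 <;> rcases h2 ⟨g, hg⟩ with a3 | a3
    · exact hz1 (a2.trans a1.symm)
    · exact hz1 (a2.trans a1.symm)
    · exact n1 (a3.trans a1.symm)
    · exact n2 (a3.trans a2.symm)
    · exact n2 (a3.trans a2.symm)
    · exact n1 (a3.trans a1.symm)
    · exact hz1 (a2.trans a1.symm)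
    · exact hz1 (a2.trans a1.symm)
  set ρ : Γ →* Equiv.Perm GolayPt := X.subtype.comp σ with hρ
  have hρ1 : ∀ g, ρ g = 1 ↔ σ g = 1 := fun g => ⟨fun e => Subtype.ext e, fun e => by
    show ((σ g : X) : Equiv.Perm GolayPt) = 1
    rw [e]; rfl⟩
  have hr : ∀ g ∈ X, ∃ u, ρ u = g := by
    intro g hg
    obtain ⟨u, hu⟩ := hσ.1 ⟨g, hg⟩
    exact ⟨u, congrArg Subtype.val hu⟩
  have hext : Ext ρ z :=
    { ne := hz1'
      sq := by
        rcases hkz (z * z) (by rw [map_mul, MonoidHom.mem_ker.1 hz, mul_one]) with h1 | h1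
        · exact h1
        · exact absurd (mul_eq_left.1 h1) hz1'
      comm := fun g => (Subgroup.mem_center_iff.1 (hσ.2.1 hz)) g
      map := (hρ1 z).2 hz
      ker := fun g hg => hkz g ((hρ1 g).1 hg) }
  -- the subgroup
  have hEX : EE ≤ X := fun e he => EE_le hX he
  have hGX : gen (xx xs) m ≤ X := gen_le fun i hi => hxX _ (hok.x i hi)
  set H0 := EE ⊔ gen (xx xs) m with hH0
  have hH0X : H0 ≤ X := sup_le hEX hGX
  have hd := hok.card_dvd hS ha hb hab haS hbS
  have hcardH : 8 * (m + 2)! ∣ Nat.card H0 := by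
    rw [hok.card_sup]
    obtain ⟨k, hk⟩ := hd
    exact ⟨k, by rw [mul_assoc, ← hk]; ring⟩
  set H : Subgroup X := H0.subgroupOf X with hH
  have hHc : Nat.card H = Nat.card H0 := Nat.card_congr (Subgroup.subgroupOfEquivOfLe hH0X).toEquiv
  have hidx : ¬ 2 ∣ H.index := by
    apply hN
    rw [← hcard, ← Subgroup.index_mul_card H, hHc]
    exact Nat.mul_dvd_mul_left _ hcardH
  have hp : IsPGroup 2 σ.ker := IsPGroup.of_card (n := 1) (by rw [hc, pow_one])
  have hle := Cfsg.Agent.Lib.SchurSylow.ker_le_commutator_comap σ hσ hp H hidx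
  have hz2 := hle hz
  have hcm : H.comap σ = H0.comap ρ := by
    rw [hH, hρ, ← Subgroup.comap_comap]; rfl
  rw [hcm] at hz2
  refine hext.not_mem EE m hm (xx xs) (xx ws) (goodE hX hr hext) (fun e he => hr e (hEX he)) ?_ ?_ ?_ ?_ ?_ ?_ ?_ ?_ ?_
    ?_ ?_ ?_ hz2
  · exact fun i hi => (okx_spec (hok.x i hi)).2.2.2.1
  · exact fun i hi => hr _ (hxX _ (hok.x i hi))
  · intro i hi j hj hij
    have v1 := valid_of_inM (okx_spec (hok.x i hi)).1
    have v2 := valid_of_inM (okx_spec (hok.x j hj)).1
    have hxi := hxX _ (hok.x i hi)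
    have hxj := hxX _ (hok.x j hj)
    have h4 : (xx xs i * xx xs j) (pt 4) = pt 4 := by
      rw [Equiv.Perm.mul_apply]
      show toPerm _ (toPerm _ (pt 4)) = pt 4
      rw [(okx_spec (hok.x j hj)).2.1, (okx_spec (hok.x i hi)).2.1]
    refine good_of hXM hX hr hext (mul_mem (hXM hxi) (hXM hxj)) ?_ h4 (hconj _ (mul_mem hxi hxj) h4)
    show toPerm _ * toPerm _ * (toPerm _ * toPerm _) = 1
    rw [← toPerm_mulC v1 v2, ← toPerm_mulC (valid_mulC v1 v2) (valid_mulC v1 v2), beq_imp (hok.p i hi j hj hij),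
      toPerm_idC]
  · exact fun i hi e he => okx_norm (hok.x i hi) he
  · exact fun i hi e he => okx_fpf (hok.x i hi) he
  · exact fun i hi hi0 => (okx_spec (hok.w i hi hi0)).2.2.2.1
  · exact fun i hi hi0 => hr _ (hxX _ (hok.w i hi hi0))
  · exact fun i hi hi0 e he => okx_norm (hok.w i hi hi0) he
  · exact fun i hi hi0 e he => okx_fpf (hok.w i hi hi0) he
  · intro j hj hj0
    have v1 := valid_of_inM (okx_spec (hok.w j hj hj0)).1
    have v2 := valid_of_inM (okx_spec (hok.x 0 hm)).1
    show toPerm _ * toPerm _ = toPerm _ * toPerm _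
    rw [← toPerm_mulC v1 v2, ← toPerm_mulC v2 v1, hok.w0 j hj hj0]
  · intro j hj hj0
    have v1 := valid_of_inM (okx_spec (hok.w j hj hj0)).1
    have v2 := valid_of_inM (okx_spec (hok.x j hj)).1
    show toPerm _ * toPerm _ = toPerm _ * toPerm _
    rw [← toPerm_mulC v1 v2, ← toPerm_mulC v2 v1, hok.wj j hj hj0]
  · rw [card_OctPt0, hok.card_sup]
    have := Nat.le_of_dvd (Nat.mul_pos (by norm_num) Nat.card_pos) hd
    calc 16 * (m + 2)! ≤ 16 * (2 * Nat.card (gen (xx xs) m)) := Nat.mul_le_mul_left _ this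
      _ = _ := by ring

end two

end Cfsg.Agent.Lib.H92MathieuSchur
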