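import Cfsg.Agent.Lib.H92CoverB
import Cfsg.Agent.Lib.H92MathieuSchur
import Cfsg.Agent.Lib.MElevenInv
import Cfsg.Agent.Lib.GolayM12b
import Cfsg.Agent.S2034

/-!
The multiplier of `M12`: upper bound (helper92)
-/

set_option autoImplicit false

namespace Cfsg.Agent.Lib.H92MTwelve

open Cfsg Cfsg.Agent.Lib.Golay Cfsg.Agent.Lib.H92Cover Cfsg.Agent.Lib.SchurSylow Cfsg.Agent.Lib.H92MathieuSchur
open Cfsg.Agent.Lib.MElevenInv (sq_eq sq_mem)
open scoped Pointwise commutatorElement

abbrev DO : Finset GolayPt := Spor.squareDodecad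

theorem mem_M12 {g : Equiv.Perm GolayPt} : g ∈ Spor.M12 ↔ g ∈ M24 ∧ g • DO = DO := by
  exact Iff.rfl

theorem apply_mem {g : Equiv.Perm GolayPt} (hg : g ∈ Spor.M12) {x : GolayPt} (hx : x ∈ DO) : g x ∈ DO :=
  mem_of_smul_eq (mem_M12.1 hg).2 hx

theorem tr_le {n : ℕ} (hn : n ≤ 5) {x y : Fin n → GolayPt} (hx : Function.Injective x) (hy : Function.Injective y)
    (mx : ∀ i, x i ∈ DO) (my : ∀ i, y i ∈ DO) : ∃ g ∈ Spor.M12, ∀ i, g (x i) = y i := by
  obtain ⟨g, hg, hgd, h⟩ := exists_le_five_dodecad sq_mem hn ⟨x, hx⟩ ⟨y, hy⟩ mx my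
  exact ⟨g, mem_M12.2 ⟨hg, hgd⟩, h⟩

theorem tr_list {l l' : List GolayPt} (hl : l.Nodup) (hl' : l'.Nodup) (hlen : l.length = l'.length) (h5 : l.length ≤ 5)
    (m : ∀ x ∈ l, x ∈ DO) (m' : ∀ x ∈ l', x ∈ DO) : ∃ g ∈ Spor.M12, l.map g = l' := by
  obtain ⟨g, hg, h⟩ := tr_le h5 (x := l.get) (y := fun i => l'.get (Fin.cast hlen i))
    (List.nodup_iff_injective_get.1 hl)
    (fun i j hij => by
      have := List.nodup_iff_injective_get.1 hl' hij
      exact Fin.cast_injective hlen this)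
    (fun i => m _ (List.get_mem _ _)) (fun i => m' _ (List.get_mem _ _))
  refine ⟨g, hg, ?_⟩
  apply List.ext_get
  · rw [List.length_map, hlen]
  · intro i h1 h2
    rw [List.get_eq_getElem, List.getElem_map]
    exact h ⟨i, by rw [hlen]; exact h2⟩

theorem eq_one_of_five {g : Equiv.Perm GolayPt} (hg : g ∈ Spor.M12) {l : List GolayPt} (hl : l.Nodup)
    (hlen : l.length = 5) (m : ∀ x ∈ l, x ∈ DO) (h : ∀ x ∈ l, g x = x) : g = 1 := by
  have h1 := stab_five_dodecad sq_mem ⟨fun i : Fin 5 => l.get (Fin.cast hlen.symm i), fun i j hij =>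
    Fin.cast_injective hlen.symm (List.nodup_iff_injective_get.1 hl hij)⟩ (fun i => m _ (List.get_mem _ _))
  have h2 : (⟨g, (mem_M12.1 hg).1⟩ : M24) ∈ (⊥ : Subgroup M24) := by
    rw [← h1]
    refine ⟨(mem_M12.1 hg).2, ?_⟩
    apply Function.Embedding.ext
    intro i
    exact h _ (List.get_mem _ _)
  rw [Subgroup.mem_bot] at h2
  exact congrArg Subtype.val h2

/-- point stabilisers -/
def SS (a : GolayPt) : Subgroup Spor.M12 := (MulAction.stabilizer (Equiv.Perm GolayPt) a).subgroupOf Spor.M12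

theorem mem_SS {a : GolayPt} {g : Spor.M12} : g ∈ SS a ↔ (g : Equiv.Perm GolayPt) a = a := Iff.rfl

/-- extra points -/
theorem exists_new (l : List GolayPt) (h : l.length < 12) : ∃ x ∈ DO, x ∉ l := by
  classical
  by_contra hcon
  push Not at hcon
  have h1 : DO ⊆ l.toFinset := fun x hx => by rw [List.mem_toFinset]; exact hcon x hx
  have h2 := Finset.card_le_card h1
  have h3 := List.toFinset_card_le l
  have h4 : DO.card = 12 := sq_mem.2
  omega

theorem perfect_of_simple {G : Type*} [Group G] [IsSimpleGroup G] (hc : ¬ (Nat.card G).Prime) [Finite G] :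
    commutator G = ⊤ := by
  rcases IsSimpleGroup.eq_bot_or_eq_top_of_normal (commutator G) inferInstance with h | h
  · exfalso
    have hcomm : ∀ a b : G, a * b = b * a := by
      intro a b
      have h1 : ⁅a, b⁆ ∈ commutator G := Subgroup.commutator_mem_commutator (Subgroup.mem_top _) (Subgroup.mem_top _)
      rw [h, Subgroup.mem_bot, commutatorElement_eq_one_iff_mul_comm] at h1
      exact h1
    let _ : CommGroup G := { (inferInstance : Group G) with mul_comm := hcomm }
    exact hc (IsSimpleGroup.prime_card)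
  · exact h

theorem card_SS_aux (p : GolayPt) :
    Nonempty (↥(SS p) ≃* ↥(MulAction.stabilizer M24 DO ⊓ MulAction.stabilizer M24 p)) :=
  ⟨{ toFun := fun g => ⟨⟨g.1.1, (mem_M12.1 g.1.2).1⟩, (mem_M12.1 g.1.2).2, g.2⟩
     invFun := fun g => ⟨⟨g.1.1, mem_M12.2 ⟨g.1.2, g.2.1⟩⟩, g.2.2⟩
     left_inv := fun _ => rfl
     right_inv := fun _ => rfl
     map_mul' := fun _ _ => rfl }⟩

theorem perf_SS {p : GolayPt} (hp : p ∈ DO) : ⁅SS p, SS p⁆ = SS p := by
  obtain ⟨e⟩ := card_SS_aux p
  have h1 := isSimpleGroup_of_mulEquiv e.symm (M11_simple sq_mem hp)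
  have h2 : Nat.card (SS p) = 7920 := by rw [Nat.card_congr e.toEquiv]; exact card_stab_dodecad_point sq_mem hp
  have h3 : commutator (SS p) = ⊤ := perfect_of_simple (by rw [h2]; norm_num)
  rw [← Subgroup.map_subtype_commutator, h3, ← MonoidHom.range_eq_map, Subgroup.range_subtype]

theorem stem_SS {p : GolayPt} (hp : p ∈ DO) : StemDvd (SS p) 1 := by
  have h0 : (some 0 : GolayPt) ∈ DO := Cfsg.Agent.Lib.MElevenInv.zero_mem
  obtain ⟨g, hg, hgl⟩ := tr_list (l := [p]) (l' := [some 0]) (by simp) (by simp) rfl (by simp)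
    (by simpa using hp) (by simpa using h0)
  have hgp : g p = some 0 := by simpa using hgl
  let f : Spor.M12 →* Equiv.Perm GolayPt := (MulAut.conj g).toMonoidHom.comp Spor.M12.subtype
  have hf : Function.Injective f := (MulAut.conj g).injective.comp Spor.M12.subtype_injective
  have hfx : ∀ x : Spor.M12, f x = g * x * g⁻¹ := fun _ => rfl
  have hmap : (SS p).map f = Spor.M11 := by
    ext y
    constructor
    · rintro ⟨x, hx, rfl⟩
      rw [hfx]
      refine Subgroup.mem_inf.2 ⟨mul_mem (mul_mem hg x.2) (inv_mem hg), ?_⟩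
      show (g * x * g⁻¹) (some 0) = some 0
      rw [Equiv.Perm.mul_apply, Equiv.Perm.mul_apply, ← hgp, perm_inv_apply]
      exact congrArg g hx
    · intro hy
      rw [Spor.M11, Subgroup.mem_inf] at hy
      refine ⟨⟨g⁻¹ * y * g, mul_mem (mul_mem (inv_mem hg) hy.1) hg⟩, ?_, ?_⟩
      · show (g⁻¹ * y * g) p = p
        rw [Equiv.Perm.mul_apply, Equiv.Perm.mul_apply, hgp]
        have : y (some 0) = some 0 := hy.2
        rw [this, ← hgp, perm_inv_apply]
      · rw [hfx]; show g * (g⁻¹ * y * g) * g⁻¹ = y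
        group
  have e : ↥(SS p) ≃* ↥Spor.M11 := ((SS p).equivMapOfInjective f hf).trans (MulEquiv.subgroupCongr hmap)
  exact (stemDvd_of_hasTrivial Cfsg.Agent.S2034.result).congr e.symm

/-! ### the two-point stabiliser -/

def jj : ℕ := 608405391266436187982588441666881568
def kk : ℕ := 227578386318009578406903204956702752
def gg : ℕ := 735500604421669808992593446508235808

/-- membership in `M12` -/
def inD (c : ℕ) : Bool := inM c && pres 340831 c

theorem inD_jj : inD jj = true := by decide +kernel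
theorem inD_kk : inD kk = true := by decide +kernel
theorem inD_gg : inD gg = true := by decide +kernel

theorem mem_of_inD {c : ℕ} (h : inD c = true) : toPerm c ∈ Spor.M12 := by
  unfold inD at h
  rw [Bool.and_eq_true] at h
  refine mem_M12.2 ⟨toPerm_mem_M24 h.1, ?_⟩
  have e : DO = mset 340831 := sq_eq
  rw [e]
  exact smul_eq_of_mem_iff (mem_iff_of_pres (valid_of_inM h.1) h.2)

theorem valid_of_inD {c : ℕ} (h : inD c = true) : valid c = true := by
  unfold inD at h
  rw [Bool.and_eq_true] at h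
  exact valid_of_inM h.1

theorem apply_pt {c i j : ℕ} (hc : valid c = true) (hi : i < 24) (h : Nat.beq (img c i) j = true) :
    toPerm c (pt i) = pt j := by
  rw [toPerm_pt hc hi, beq_imp h]

/-- the four base points -/
def base4 : List GolayPt := [pt 0, pt 1, pt 2, pt 3]

theorem DO_eq : DO = mset 340831 := sq_eq

theorem mem_DO_iff {x : GolayPt} : x ∈ DO ↔ (340831 : ℕ).testBit (ix x) = true := by
  rw [DO_eq, mem_mset]

theorem pt_mem {i : ℕ} (hi : i < 24) (h : (340831 : ℕ).testBit i = true) : pt i ∈ DO := by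
  rw [mem_DO_iff, ix_pt hi]; exact h

/-- the eight images of the fifth point -/
theorem eight {x : GolayPt} (hx : x ∈ DO) (h0 : x ≠ pt 0) (h1 : x ≠ pt 1) (h2 : x ≠ pt 2) (h3 : x ≠ pt 3) :
    x = pt 4 ∨ x = pt 13 ∨ x = pt 8 ∨ x = pt 6 ∨ x = pt 12 ∨ x = pt 18 ∨ x = pt 16 ∨ x = pt 9 := by
  rw [mem_DO_iff] at hx
  revert x
  decide +kernel

noncomputable abbrev Jp : Spor.M12 := ⟨toPerm jj, mem_of_inD inD_jj⟩
noncomputable abbrev Kp : Spor.M12 := ⟨toPerm kk, mem_of_inD inD_kk⟩
noncomputable abbrev Gp : Spor.M12 := ⟨toPerm gg, mem_of_inD inD_gg⟩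

/-- closure principle for the two-point stabiliser -/
theorem closure_two (P : Spor.M12 → Prop) (hP1 : P 1) (hmul : ∀ x y, P x → P y → P (x * y))
    (hconj : ∀ x h : Spor.M12, (h : Equiv.Perm GolayPt) (pt 0) = pt 0 → (h : Equiv.Perm GolayPt) (pt 1) = pt 1 →
      P x → P (h * x * h⁻¹)) (hj : P Jp) (hk : P Kp) :
    ∀ x : Spor.M12, (x : Equiv.Perm GolayPt) (pt 0) = pt 0 → (x : Equiv.Perm GolayPt) (pt 1) = pt 1 → P x := by
  have m0 : pt 0 ∈ DO := pt_mem (by norm_num) (by decide)
  have m1 : pt 1 ∈ DO := pt_mem (by norm_num) (by decide)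
  have m2 : pt 2 ∈ DO := pt_mem (by norm_num) (by decide)
  have m3 : pt 3 ∈ DO := pt_mem (by norm_num) (by decide)
  have m4 : pt 4 ∈ DO := pt_mem (by norm_num) (by decide)
  have vj := valid_of_inD inD_jj
  have vk := valid_of_inD inD_kk
  have step1 : ∀ x : Spor.M12, (x : Equiv.Perm GolayPt) (pt 0) = pt 0 → (x : Equiv.Perm GolayPt) (pt 1) = pt 1 →
      (x : Equiv.Perm GolayPt) (pt 2) = pt 2 → (x : Equiv.Perm GolayPt) (pt 3) = pt 3 → P x := by
    intro x h0 h1 h2 h3
    -- a word with the same image of the fifth point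
    have key : ∀ w : Spor.M12, P w → (w : Equiv.Perm GolayPt) (pt 0) = pt 0 → (w : Equiv.Perm GolayPt) (pt 1) = pt 1 →
        (w : Equiv.Perm GolayPt) (pt 2) = pt 2 → (w : Equiv.Perm GolayPt) (pt 3) = pt 3 →
        (x : Equiv.Perm GolayPt) (pt 4) = (w : Equiv.Perm GolayPt) (pt 4) → P x := by
      intro w hw w0 w1 w2 w3 w4
      have h5 : ((w⁻¹ * x : Spor.M12) : Equiv.Perm GolayPt) = 1 := by
        refine eq_one_of_five (w⁻¹ * x).2 (l := [pt 0, pt 1, pt 2, pt 3, pt 4]) (by decide) rfl ?_ ?_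
        · intro y hy
          simp only [List.mem_cons, List.not_mem_nil, or_false] at hy
          rcases hy with rfl | rfl | rfl | rfl | rfl <;> assumption
        · intro y hy
          rw [Subgroup.coe_mul, Subgroup.coe_inv, Equiv.Perm.mul_apply, Equiv.Perm.inv_eq_iff_eq]
          simp only [List.mem_cons, List.not_mem_nil, or_false] at hy
          rcases hy with rfl | rfl | rfl | rfl | rfl
          · rw [h0, w0]
          · rw [h1, w1]
          · rw [h2, w2]
          · rw [h3, w3]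
          · exact w4
      have h6 : w⁻¹ * x = 1 := Subtype.ext h5
      rw [inv_mul_eq_one] at h6
      rw [← h6]; exact hw
    have fj : ∀ i < 4, toPerm jj (pt i) = pt i := by
      intro i hi
      exact apply_pt vj (by omega) (by revert i; decide +kernel)
    have fk : ∀ i < 4, toPerm kk (pt i) = pt i := by
      intro i hi
      exact apply_pt vk (by omega) (by revert i; decide +kernel)
    have fw : ∀ w : Spor.M12, w ∈ Subgroup.closure {Jp, Kp} → ∀ i < 4, (w : Equiv.Perm GolayPt) (pt i) = pt i := by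
      intro w hw i hi
      have h : Subgroup.closure {Jp, Kp} ≤ SS (pt i) := by
        rw [Subgroup.closure_le]
        rintro y (rfl | hy)
        · exact fj i hi
        · rw [Set.mem_singleton_iff] at hy; subst hy; exact fk i hi
      exact h hw
    have cj : Jp ∈ Subgroup.closure {Jp, Kp} := Subgroup.subset_closure (by simp)
    have ck : Kp ∈ Subgroup.closure {Jp, Kp} := Subgroup.subset_closure (by simp)
    have fin : ∀ w : Spor.M12, w ∈ Subgroup.closure {Jp, Kp} → P w →
        (x : Equiv.Perm GolayPt) (pt 4) = (w : Equiv.Perm GolayPt) (pt 4) → P x := fun w hw hPw h =>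
      key w hPw (fw w hw 0 (by norm_num)) (fw w hw 1 (by norm_num)) (fw w hw 2 (by norm_num)) (fw w hw 3 (by norm_num)) h
    have j4 : toPerm jj (pt 4) = pt 8 := apply_pt vj (by norm_num) (by decide +kernel)
    have j8 : toPerm jj (pt 8) = pt 12 := apply_pt vj (by norm_num) (by decide +kernel)
    have j12 : toPerm jj (pt 12) = pt 16 := apply_pt vj (by norm_num) (by decide +kernel)
    have k4 : toPerm kk (pt 4) = pt 13 := apply_pt vk (by norm_num) (by decide +kernel)
    have j13 : toPerm jj (pt 13) = pt 6 := apply_pt vj (by norm_num) (by decide +kernel)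
    have j6 : toPerm jj (pt 6) = pt 18 := apply_pt vj (by norm_num) (by decide +kernel)
    have j18 : toPerm jj (pt 18) = pt 9 := apply_pt vj (by norm_num) (by decide +kernel)
    have hne : ∀ i < 4, (x : Equiv.Perm GolayPt) (pt i) = pt i → (x : Equiv.Perm GolayPt) (pt 4) ≠ pt i := by
      intro i hi hxi e
      rw [← hxi] at e
      have e' : pt 4 = pt i := (x : Equiv.Perm GolayPt).injective e
      clear hxi e
      revert i; decide
    rcases eight (apply_mem x.2 m4) (hne 0 (by norm_num) h0) (hne 1 (by norm_num) h1) (hne 2 (by norm_num) h2)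
      (hne 3 (by norm_num) h3) with e | e | e | e | e | e | e | e
    · exact fin 1 (one_mem _) hP1 (by rw [e]; rfl)
    · exact fin Kp ck hk (by rw [e]; exact k4.symm)
    · exact fin Jp cj hj (by rw [e]; exact j4.symm)
    · exact fin (Jp * Kp) (mul_mem cj ck) (hmul _ _ hj hk) (by
        rw [e]; show _ = toPerm jj (toPerm kk (pt 4)); rw [k4, j13])
    · exact fin (Jp * Jp) (mul_mem cj cj) (hmul _ _ hj hj) (by
        rw [e]; show _ = toPerm jj (toPerm jj (pt 4)); rw [j4, j8])
    · exact fin (Jp * (Jp * Kp)) (mul_mem cj (mul_mem cj ck)) (hmul _ _ hj (hmul _ _ hj hk)) (by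
        rw [e]; show _ = toPerm jj (toPerm jj (toPerm kk (pt 4))); rw [k4, j13, j6])
    · exact fin (Jp * (Jp * Jp)) (mul_mem cj (mul_mem cj cj)) (hmul _ _ hj (hmul _ _ hj hj)) (by
        rw [e]; show _ = toPerm jj (toPerm jj (toPerm jj (pt 4))); rw [j4, j8, j12])
    · exact fin (Jp * (Jp * (Jp * Kp))) (mul_mem cj (mul_mem cj (mul_mem cj ck)))
        (hmul _ _ hj (hmul _ _ hj (hmul _ _ hj hk))) (by
        rw [e]; show _ = toPerm jj (toPerm jj (toPerm jj (toPerm kk (pt 4)))); rw [k4, j13, j6, j18])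
  have n01 : pt 0 ≠ pt 1 := by decide
  have step2 : ∀ c d : GolayPt, c ∈ DO → d ∈ DO → c ≠ pt 0 → c ≠ pt 1 → d ≠ pt 0 → d ≠ pt 1 → c ≠ d →
      ∀ x : Spor.M12, (x : Equiv.Perm GolayPt) (pt 0) = pt 0 → (x : Equiv.Perm GolayPt) (pt 1) = pt 1 →
      (x : Equiv.Perm GolayPt) c = c → (x : Equiv.Perm GolayPt) d = d → P x := by
    intro c d hc hd c0 c1 d0 d1 cd x x0 x1 xc xd
    obtain ⟨h, hh, hl⟩ := tr_list (l := [pt 0, pt 1, pt 2, pt 3]) (l' := [pt 0, pt 1, c, d]) (by decide)
      (by simp [n01, Ne.symm c0, Ne.symm c1, Ne.symm d0, Ne.symm d1, cd]) rfl (by simp)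
      (by intro y hy
          simp only [List.mem_cons, List.not_mem_nil, or_false] at hy
          rcases hy with rfl | rfl | rfl | rfl <;> assumption)
      (by intro y hy
          simp only [List.mem_cons, List.not_mem_nil, or_false] at hy
          rcases hy with rfl | rfl | rfl | rfl <;> assumption)
    simp only [List.map_cons, List.map_nil, List.cons.injEq, and_true] at hl
    obtain ⟨e0, e1, e2, e3⟩ := hl
    let H : Spor.M12 := ⟨h, hh⟩
    have hx : x = H * (H⁻¹ * x * H) * H⁻¹ := by group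
    rw [hx]
    have cf : ∀ {p q : GolayPt}, h p = q → (x : Equiv.Perm GolayPt) q = q →
        ((H⁻¹ * x * H : Spor.M12) : Equiv.Perm GolayPt) p = p := by
      intro p q hp hq
      show (h⁻¹ * x * h) p = p
      rw [Equiv.Perm.mul_apply, Equiv.Perm.mul_apply, hp, hq, Equiv.Perm.inv_eq_iff_eq, hp]
    exact hconj _ H e0 e1 (step1 _ (cf e0 x0) (cf e1 x1) (cf e2 xc) (cf e3 xd))
  have step3 : ∀ f : GolayPt, f ∈ DO → f ≠ pt 0 → f ≠ pt 1 →
      ∀ x : Spor.M12, (x : Equiv.Perm GolayPt) (pt 0) = pt 0 → (x : Equiv.Perm GolayPt) (pt 1) = pt 1 →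
      (x : Equiv.Perm GolayPt) f = f → P x := by
    intro f hf f0 f1 x x0 x1 xf
    obtain ⟨c, hc, hcn⟩ := exists_new [pt 0, pt 1, f] (by simp)
    simp only [List.mem_cons, List.not_mem_nil, or_false, not_or] at hcn
    obtain ⟨c0, c1, cf⟩ := hcn
    have hxc := apply_mem x.2 hc
    have xc0 : (x : Equiv.Perm GolayPt) c ≠ pt 0 := fun e => c0 ((x : Equiv.Perm GolayPt).injective (e.trans x0.symm))
    have xc1 : (x : Equiv.Perm GolayPt) c ≠ pt 1 := fun e => c1 ((x : Equiv.Perm GolayPt).injective (e.trans x1.symm))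
    have xcf : (x : Equiv.Perm GolayPt) c ≠ f := fun e => cf ((x : Equiv.Perm GolayPt).injective (e.trans xf.symm))
    obtain ⟨f', hf', hfn⟩ := exists_new [pt 0, pt 1, f, c, (x : Equiv.Perm GolayPt) c] (by simp)
    simp only [List.mem_cons, List.not_mem_nil, or_false, not_or] at hfn
    obtain ⟨g0, g1, gf, gc, gx⟩ := hfn
    obtain ⟨h, hh, hl⟩ := tr_list (l := [pt 0, pt 1, f, f', c]) (l' := [pt 0, pt 1, f, f', (x : Equiv.Perm GolayPt) c])
      (by simp [n01, Ne.symm f0, Ne.symm f1, Ne.symm g0, Ne.symm g1, Ne.symm c0, Ne.symm c1, Ne.symm gf, Ne.symm cf, gc])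
      (by simp [n01, Ne.symm f0, Ne.symm f1, Ne.symm g0, Ne.symm g1, Ne.symm xc0, Ne.symm xc1, Ne.symm gf, Ne.symm xcf, gx]) rfl (by simp)
      (by intro y hy
          simp only [List.mem_cons, List.not_mem_nil, or_false] at hy
          rcases hy with rfl | rfl | rfl | rfl | rfl <;> assumption)
      (by intro y hy
          simp only [List.mem_cons, List.not_mem_nil, or_false] at hy
          rcases hy with rfl | rfl | rfl | rfl | rfl <;> assumption)
    simp only [List.map_cons, List.map_nil, List.cons.injEq, and_true] at hl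
    obtain ⟨e0, e1, e2, e3, e4⟩ := hl
    let H : Spor.M12 := ⟨h, hh⟩
    have hx : x = H * (H⁻¹ * x) := by group
    rw [hx]
    have cg : ∀ {p : GolayPt}, h p = (x : Equiv.Perm GolayPt) p → ((H⁻¹ * x : Spor.M12) : Equiv.Perm GolayPt) p = p := by
      intro p hp
      show (h⁻¹ * x) p = p
      rw [Equiv.Perm.mul_apply, Equiv.Perm.inv_eq_iff_eq, hp]
    refine hmul _ _ (step2 f f' hf hf' f0 f1 g0 g1 (Ne.symm gf) H e0 e1 e2 e3) ?_
    exact step2 f c hf hc f0 f1 c0 c1 (Ne.symm cf) _ (cg (e0.trans x0.symm)) (cg (e1.trans x1.symm))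
      (cg (e2.trans xf.symm)) (cg e4)
  intro x x0 x1
  obtain ⟨c, hc, hcn⟩ := exists_new [pt 0, pt 1] (by simp)
  simp only [List.mem_cons, List.not_mem_nil, or_false, not_or] at hcn
  obtain ⟨c0, c1⟩ := hcn
  have hxc := apply_mem x.2 hc
  have xc0 : (x : Equiv.Perm GolayPt) c ≠ pt 0 := fun e => c0 ((x : Equiv.Perm GolayPt).injective (e.trans x0.symm))
  have xc1 : (x : Equiv.Perm GolayPt) c ≠ pt 1 := fun e => c1 ((x : Equiv.Perm GolayPt).injective (e.trans x1.symm))
  obtain ⟨f, hf, hfn⟩ := exists_new [pt 0, pt 1, c, (x : Equiv.Perm GolayPt) c] (by simp)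
  simp only [List.mem_cons, List.not_mem_nil, or_false, not_or] at hfn
  obtain ⟨g0, g1, gc, gx⟩ := hfn
  obtain ⟨h, hh, hl⟩ := tr_list (l := [pt 0, pt 1, f, c]) (l' := [pt 0, pt 1, f, (x : Equiv.Perm GolayPt) c])
    (by simp [n01, Ne.symm g0, Ne.symm g1, Ne.symm c0, Ne.symm c1, gc])
    (by simp [n01, Ne.symm g0, Ne.symm g1, Ne.symm xc0, Ne.symm xc1, gx]) rfl (by simp)
    (by intro y hy
        simp only [List.mem_cons, List.not_mem_nil, or_false] at hy
        rcases hy with rfl | rfl | rfl | rfl <;> assumption)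
    (by intro y hy
        simp only [List.mem_cons, List.not_mem_nil, or_false] at hy
        rcases hy with rfl | rfl | rfl | rfl <;> assumption)
  simp only [List.map_cons, List.map_nil, List.cons.injEq, and_true] at hl
  obtain ⟨e0, e1, e2, e4⟩ := hl
  let H : Spor.M12 := ⟨h, hh⟩
  have hx : x = H * (H⁻¹ * x) := by group
  rw [hx]
  have cg : ∀ {p : GolayPt}, h p = (x : Equiv.Perm GolayPt) p → ((H⁻¹ * x : Spor.M12) : Equiv.Perm GolayPt) p = p := by
    intro p hp
    show (h⁻¹ * x) p = p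
    rw [Equiv.Perm.mul_apply, Equiv.Perm.inv_eq_iff_eq, hp]
  refine hmul _ _ (step3 f hf g0 g1 H e0 e1 e2) ?_
  exact step3 c hc c0 c1 _ (cg (e0.trans x0.symm)) (cg (e1.trans x1.symm)) (cg e4)

end Cfsg.Agent.Lib.H92MTwelve
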