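import Cfsg.Agent.Lib.H92MathieuAut
import Cfsg.Agent.Lib.GolayGraph

/-!
Automorphisms of `M23` (helper92)
-/

set_option autoImplicit false

namespace Cfsg.Agent.Lib.H92MathieuAut

open Cfsg Cfsg.Agent.Lib.Golay Cfsg.Agent.Lib.MathieuFix
open Cfsg.Agent.Lib.GolayFix (Fix mem_Fix Fix_mem_Sup)
open scoped Pointwise

theorem mem_M23 {g : Equiv.Perm GolayPt} : g ∈ Spor.M23 ↔ g ∈ M24 ∧ g none = none := by
  rw [Spor.M23, Subgroup.mem_inf, MulAction.mem_stabilizer_iff]; rfl

theorem mem_M22 {g : Equiv.Perm GolayPt} :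
    g ∈ Spor.M22 ↔ g ∈ M24 ∧ g none = none ∧ g (some 0) = some 0 := by
  rw [Spor.M22, Spor.M23, Subgroup.mem_inf, Subgroup.mem_inf, MulAction.mem_stabilizer_iff,
    MulAction.mem_stabilizer_iff, and_assoc]
  rfl

theorem card_M22 : Nat.card Spor.M22 = 443520 := by
  have h1 := card_stab_two (p := (none : GolayPt)) (q := (some 0 : GolayPt)) (by decide)
  have h2 : (MulAction.stabilizer M24 (none : GolayPt) ⊓ MulAction.stabilizer M24 (some 0 : GolayPt)).map
      M24.subtype = Spor.M22 := by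
    ext g
    rw [mem_M22]
    constructor
    · rintro ⟨k, hk, rfl⟩
      exact ⟨k.2, hk.1, hk.2⟩
    · rintro ⟨hg, h3, h4⟩
      exact ⟨⟨g, hg⟩, ⟨h3, h4⟩, rfl⟩
  rw [← h2, Subgroup.card_map_of_injective M24.subtype_injective, h1]

theorem card_M21 : Nat.card ↥(MulAction.stabilizer (Equiv.Perm GolayPt) (some 1 : GolayPt) ⊓ Spor.M22) = 20160 := by
  have h1 := card_stab_three (p := (none : GolayPt)) (q := (some 0 : GolayPt)) (r := (some 1 : GolayPt)) (by decide)
    (by decide) (by decide)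
  have h2 : (MulAction.stabilizer M24 (none : GolayPt) ⊓ MulAction.stabilizer M24 (some 0 : GolayPt) ⊓
      MulAction.stabilizer M24 (some 1 : GolayPt)).map
      M24.subtype = MulAction.stabilizer (Equiv.Perm GolayPt) (some 1 : GolayPt) ⊓ Spor.M22 := by
    ext g
    rw [Subgroup.mem_inf, mem_M22]
    constructor
    · rintro ⟨k, hk, rfl⟩
      exact ⟨hk.2, k.2, hk.1.1, hk.1.2⟩
    · rintro ⟨h5, hg, h3, h4⟩
      exact ⟨⟨g, hg⟩, ⟨⟨h3, h4⟩, h5⟩, rfl⟩
  rw [← h2, Subgroup.card_map_of_injective M24.subtype_injective, h1]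

/-- an element of prime order -/
theorem exists_of_prime {X : Subgroup (Equiv.Perm GolayPt)} {p : ℕ} [hp : Fact p.Prime] (h : p ∣ Nat.card X) :
    ∃ c ∈ X, c ^ p = 1 ∧ c ≠ 1 := by
  obtain ⟨c, hc⟩ := exists_prime_orderOf_dvd_card' (G := X) p h
  refine ⟨c, c.2, ?_, ?_⟩
  · have h := pow_orderOf_eq_one c
    rw [hc] at h
    exact congrArg Subtype.val h
  · intro h
    have : c = 1 := Subtype.ext h
    rw [this, orderOf_one] at hc
    exact hp.out.one_lt.ne hc

/-- the orbit as a finset -/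
noncomputable def orbF (X : Subgroup (Equiv.Perm GolayPt)) (q : GolayPt) : Finset GolayPt := by
  classical exact Finset.univ.filter fun y => ∃ x ∈ X, x q = y

theorem mem_orbF {X : Subgroup (Equiv.Perm GolayPt)} {q y : GolayPt} : y ∈ orbF X q ↔ ∃ x ∈ X, x q = y := by
  classical
  rw [orbF, Finset.mem_filter]
  exact ⟨fun h => h.2, fun h => ⟨Finset.mem_univ _, h⟩⟩

theorem orbF_inv {X : Subgroup (Equiv.Perm GolayPt)} {q y : GolayPt} {x : Equiv.Perm GolayPt} (hx : x ∈ X)
    (hy : y ∈ orbF X q) : x y ∈ orbF X q := by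
  rw [mem_orbF] at hy ⊢
  obtain ⟨g, hg, rfl⟩ := hy
  exact ⟨x * g, mul_mem hx hg, rfl⟩

theorem orbF_inv' {X : Subgroup (Equiv.Perm GolayPt)} {q y : GolayPt} {x : Equiv.Perm GolayPt} (hx : x ∈ X)
    (hy : y ∉ orbF X q) : x y ∉ orbF X q := by
  intro h
  apply hy
  have := orbF_inv (inv_mem hx) h
  rwa [pia] at this

theorem card_orbF_dvd (X : Subgroup (Equiv.Perm GolayPt)) (q : GolayPt) : (orbF X q).card ∣ Nat.card X := by
  have h := card_eq_mul_inf_stabilizer X q (orbF X q : Set GolayPt)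
    (fun g hg => by
      rw [Finset.mem_coe, mem_orbF]; exact ⟨g, hg, rfl⟩)
    (fun x hx => by
      rw [Finset.mem_coe, mem_orbF] at hx; exact hx)
  rw [h, Set.ncard_coe_finset]
  exact Dvd.intro _ rfl

theorem self_mem_orbF (X : Subgroup (Equiv.Perm GolayPt)) (q : GolayPt) : q ∈ orbF X q := mem_orbF.2 ⟨1, one_mem _, rfl⟩

theorem fix_of_card_one {X : Subgroup (Equiv.Perm GolayPt)} {q : GolayPt} (h : (orbF X q).card = 1) :
    ∀ x ∈ X, x q = q := by
  intro x hx
  obtain ⟨y, hy⟩ := Finset.card_eq_one.1 h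
  have h1 := self_mem_orbF X q
  have h2 : x q ∈ orbF X q := mem_orbF.2 ⟨x, hx, rfl⟩
  rw [hy, Finset.mem_singleton] at h1 h2
  rw [h2, ← h1]

theorem m23_fix (α : MulAut ↥Spor.M23) : ∃ q : GolayPt, q ≠ none ∧
    ∀ g : Spor.M23, (g : Equiv.Perm GolayPt) (some 0) = some 0 → ((α g : Spor.M23) : Equiv.Perm GolayPt) q = q := by
  classical
  set K : Subgroup Spor.M23 := MulAction.stabilizer Spor.M23 (some 0 : GolayPt) with hK
  have hKc : Nat.card K = 443520 := by
    have h1 : K.map Spor.M23.subtype = Spor.M22 := by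
      ext g
      rw [mem_M22]
      constructor
      · rintro ⟨k, hk, rfl⟩
        exact ⟨(mem_M23.1 k.2).1, (mem_M23.1 k.2).2, hk⟩
      · rintro ⟨h3, h4, h5⟩
        exact ⟨⟨g, mem_M23.2 ⟨h3, h4⟩⟩, h5, rfl⟩
    rw [← card_M22, ← h1, Subgroup.card_map_of_injective Spor.M23.subtype_injective]
  let A : ↥Spor.M23 →* Equiv.Perm GolayPt := Spor.M23.subtype.comp α.toMonoidHom
  have hAinj : Function.Injective A := Subtype.val_injective.comp α.injective
  set X := K.map A with hX
  have hXc : Nat.card X = 443520 := by rw [hX, Subgroup.card_map_of_injective hAinj, hKc]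
  have hXM' : ∀ x ∈ X, x ∈ Spor.M23 := by
    rintro _ ⟨g, -, rfl⟩
    exact (α g).2
  have hXM : ∀ x ∈ X, x ∈ M24 := fun x hx => (mem_M23.1 (hXM' x hx)).1
  have hXn : ∀ x ∈ X, x none = none := fun x hx => (mem_M23.1 (hXM' x hx)).2
  have f11 : Fact (Nat.Prime 11) := ⟨by norm_num⟩
  have f7 : Fact (Nat.Prime 7) := ⟨by norm_num⟩
  obtain ⟨c, hcX, hc11, hc1⟩ := exists_of_prime (X := X) (p := 11) (by rw [hXc]; norm_num)
  obtain ⟨a1, a2⟩ := card_Fix_of (hXM c hcX) hc11 hc1
  have a3 : (Fix c).card = 2 := by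
    unfold Nat.ModEq at a1; omega
  have a4 : none ∈ Fix c := mem_Fix.2 (hXn c hcX)
  have a5 : ((Fix c).erase none).card = 1 := by rw [Finset.card_erase_of_mem a4, a3]
  obtain ⟨q, hq⟩ := Finset.card_eq_one.1 a5
  have hq' : q ∈ (Fix c).erase none := by rw [hq]; exact Finset.mem_singleton_self q
  rw [Finset.mem_erase] at hq'
  refine ⟨q, hq'.1, ?_⟩
  have hnO : none ∉ orbF X q := by
    intro h
    obtain ⟨x, hx, h⟩ := mem_orbF.1 h
    apply hq'.1
    apply x.injective
    rw [h, hXn x hx]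
  have b1 := GolayFix.card_modEq hc11 (orbF X q) (fun y hy => orbF_inv hcX hy)
  have b2 : orbF X q ∩ Fix c = {q} := by
    ext y
    rw [Finset.mem_inter, Finset.mem_singleton]
    constructor
    · rintro ⟨h1, h2⟩
      have : y ∈ (Fix c).erase none := Finset.mem_erase.2 ⟨fun h => hnO (h ▸ h1), h2⟩
      rwa [hq, Finset.mem_singleton] at this
    · rintro rfl
      exact ⟨self_mem_orbF X y, hq'.2⟩
  rw [b2, Finset.card_singleton] at b1
  have b3 : (orbF X q).card ≤ 23 := by
    have : orbF X q ⊆ Finset.univ.erase none := fun y hy => Finset.mem_erase.2 ⟨fun h => hnO (h ▸ hy), Finset.mem_univ _⟩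
    have h := Finset.card_le_card this
    rw [Finset.card_erase_of_mem (Finset.mem_univ _), Finset.card_univ, card_pt] at h
    exact h
  have b4 := card_orbF_dvd X q
  rw [hXc] at b4
  have b5 : (orbF X q).card = 1 := by
    have h1 : (orbF X q).card = 1 ∨ (orbF X q).card = 12 ∨ (orbF X q).card = 23 := by
      unfold Nat.ModEq at b1
      omega
    rcases h1 with h1 | h1 | h1
    · exact h1
    · exfalso
      obtain ⟨v, hvX, hv7, hv1⟩ := exists_of_prime (X := X) (p := 7) (by rw [hXc]; norm_num)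
      obtain ⟨e1, e2⟩ := card_Fix_of (hXM v hvX) hv7 hv1
      have e3 : (Fix v).card = 3 := by
        unfold Nat.ModEq at e1; omega
      set C : Finset GolayPt := (insert none (orbF X q))ᶜ with hC
      have hCc : C.card = 11 := by
        rw [hC, Finset.card_compl, card_pt, Finset.card_insert_of_notMem hnO, h1]
      have hCi : ∀ y ∈ C, v y ∈ C := by
        intro y hy
        rw [hC, Finset.mem_compl, Finset.mem_insert, not_or] at hy ⊢
        refine ⟨?_, orbF_inv' hvX hy.2⟩
        intro h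
        apply hy.1
        apply v.injective
        rw [h, hXn v hvX]
      have e4 := GolayFix.card_modEq hv7 C hCi
      have e5 : (C ∩ Fix v).card ≤ 3 := by rw [← e3]; exact Finset.card_le_card Finset.inter_subset_right
      rw [hCc] at e4
      unfold Nat.ModEq at e4
      omega
    · exfalso
      rw [h1] at b4
      norm_num at b4
  have b6 := fix_of_card_one b5
  intro g hg
  exact b6 (A g) ⟨g, hg, rfl⟩

/-- splitting an octad disjoint from a small set -/
theorem exists_split {F o : Finset GolayPt} (ho : o ∈ octads) (hF : F.Nonempty) (hF2 : F.card ≤ 2) (hd : Disjoint o F) :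
    ∃ o1 ∈ octads, ∃ o2 ∈ octads, F ⊆ o1 ∧ F ⊆ o2 ∧ o = symmDiff o1 o2 := by
  classical
  have ho8 : o.card = 8 := ho.2
  obtain ⟨T, hT, hTc⟩ := Finset.exists_subset_card_eq (s := o) (n := 5 - F.card) (by omega)
  have hdT : Disjoint T F := Finset.disjoint_of_subset_left hT hd
  have h5 : (T ∪ F).card = 5 := by rw [Finset.card_union_of_disjoint hdT, hTc]; omega
  obtain ⟨o1, ho1, hs⟩ := exists_octad_of_five h5
  have hne : o ≠ o1 := by
    rintro rfl
    obtain ⟨x, hx⟩ := hF
    exact Finset.disjoint_left.1 hd (hs (Finset.mem_union_right _ hx)) hx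
  have hFc : 0 < F.card := Finset.card_pos.2 hF
  have h6 : 3 ≤ (o ∩ o1).card := by
    have : T ⊆ o ∩ o1 := Finset.subset_inter hT (Finset.subset_union_left.trans hs)
    have := Finset.card_le_card this
    omega
  have h7 : (o ∩ o1).card = 4 := by
    rcases octad_inter_cases ho ho1 hne with h | h | h <;> omega
  refine ⟨o1, ho1, symmDiff o1 o, ⟨symmDiff_mem_supports ho1.1 ho.1, ?_⟩, Finset.subset_union_right.trans hs, ?_, ?_⟩
  · have h8 := card_symmDiff_add o1 o
    rw [Finset.inter_comm, h7, (show o1.card = 8 from ho1.2), ho8] at h8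
    show (symmDiff o1 o).card = 8
    omega
  · intro x hx
    rw [Finset.mem_symmDiff]
    exact Or.inl ⟨hs (Finset.mem_union_right _ hx), fun h => Finset.disjoint_left.1 hd h hx⟩
  · rw [symmDiff_symmDiff_cancel_left]

theorem smul_octad_of_split {σ : Equiv.Perm GolayPt} {F : Finset GolayPt}
    (h : ∀ o ∈ octads, F ⊆ o → σ • o ∈ octads) (hF : F.Nonempty) (hF2 : F.card ≤ 2) {o : Finset GolayPt}
    (ho : o ∈ octads) (hd : Disjoint o F) : σ • o ∈ octads := by
  obtain ⟨o1, ho1, o2, ho2, h1, h2, rfl⟩ := exists_split ho hF hF2 hd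
  refine ⟨?_, ?_⟩
  · rw [smul_symmDiff']
    exact symmDiff_mem_supports (h o1 ho1 h1).1 (h o2 ho2 h2).1
  · show (σ • symmDiff o1 o2).card = 8
    rw [Finset.card_smul_finset]; exact ho.2

theorem m23_out : Nat.card (Out ↥Spor.M23) = 1 := by
  classical
  apply card_out_eq_one
  intro α
  obtain ⟨q, hqn, hq⟩ := m23_fix α
  obtain ⟨σ, hσn, hσ⟩ := exists_conj Spor.M23 {x | x ≠ none} (fun g hg x hx => by
      rw [Set.mem_ofPred_eq] at hx ⊢
      intro h
      apply hx
      apply g.injective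
      rw [h, (mem_M23.1 hg).2])
    (fun g hg x hx => by
      rw [Set.mem_ofPred_eq, not_not] at hx
      rw [hx, (mem_M23.1 hg).2]) (fun x hx y hy => by
      obtain ⟨g, hg, h1, h2⟩ := exists_two (Ne.symm hx) (Ne.symm hy)
      exact ⟨g, mem_M23.2 ⟨hg, h1⟩, h2⟩) α (show (some 0 : GolayPt) ≠ none by simp) hqn hq
  have hσ0 : σ none = none := hσn none (by simp)
  apply inner_of (σ := σ) _ hσ
  rw [mem_M23]
  refine ⟨?_, hσ0⟩
  have key : ∀ o ∈ octads, ({none} : Finset GolayPt) ⊆ o → σ • o ∈ octads := by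
    intro o ho hno
    obtain ⟨g, hg, hg2, rfl⟩ := exists_inv ho
    apply smul_octad _ hg2 ho
    have hg' : g ∈ Spor.M23 := mem_M23.2 ⟨hg, mem_Fix.1 (Finset.singleton_subset_iff.1 hno)⟩
    rw [← hσ ⟨g, hg'⟩]
    exact (mem_M23.1 (α ⟨g, hg'⟩).2).1
  apply mem_M24_of_octads
  intro o ho
  by_cases hno : none ∈ o
  · exact key o ho (Finset.singleton_subset_iff.2 hno)
  · exact smul_octad_of_split key (Finset.singleton_nonempty _) (by simp) ho
      (Finset.disjoint_singleton_right.2 hno)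

end Cfsg.Agent.Lib.H92MathieuAut
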