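import Cfsg.Agent.Lib.H92MathieuAutB

/-!
Automorphisms of `M22` (helper92)
-/

set_option autoImplicit false

namespace Cfsg.Agent.Lib.H92MathieuAut

open Cfsg Cfsg.Agent.Lib.Golay Cfsg.Agent.Lib.MathieuFix
open Cfsg.Agent.Lib.GolayFix (Fix mem_Fix Fix_mem_Sup Sup)
open scoped Pointwise

theorem m22_fix (α : MulAut ↥Spor.M22) : ∃ q : GolayPt, q ≠ none ∧ q ≠ some 0 ∧
    ∀ g : Spor.M22, (g : Equiv.Perm GolayPt) (some 1) = some 1 → ((α g : Spor.M22) : Equiv.Perm GolayPt) q = q := by
  classical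
  set K : Subgroup Spor.M22 := MulAction.stabilizer Spor.M22 (some 1 : GolayPt) with hK
  have hKc : Nat.card K = 20160 := by
    have h1 : K.map Spor.M22.subtype = MulAction.stabilizer (Equiv.Perm GolayPt) (some 1 : GolayPt) ⊓ Spor.M22 := by
      ext g
      constructor
      · rintro ⟨k, hk, rfl⟩
        exact ⟨hk, k.2⟩
      · rintro ⟨h3, h4⟩
        exact ⟨⟨g, h4⟩, h3, rfl⟩
    rw [← card_M21, ← h1, Subgroup.card_map_of_injective Spor.M22.subtype_injective]
  let A : ↥Spor.M22 →* Equiv.Perm GolayPt := Spor.M22.subtype.comp α.toMonoidHom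
  have hAinj : Function.Injective A := Subtype.val_injective.comp α.injective
  set X := K.map A with hX
  have hXc : Nat.card X = 20160 := by rw [hX, Subgroup.card_map_of_injective hAinj, hKc]
  have hXM' : ∀ x ∈ X, x ∈ Spor.M22 := by
    rintro _ ⟨g, -, rfl⟩
    exact (α g).2
  have hXM : ∀ x ∈ X, x ∈ M24 := fun x hx => (mem_M22.1 (hXM' x hx)).1
  have hXn : ∀ x ∈ X, x none = none := fun x hx => (mem_M22.1 (hXM' x hx)).2.1
  have hX0 : ∀ x ∈ X, x (some 0) = some 0 := fun x hx => (mem_M22.1 (hXM' x hx)).2.2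
  have f5 : Fact (Nat.Prime 5) := ⟨by norm_num⟩
  have f7 : Fact (Nat.Prime 7) := ⟨by norm_num⟩
  obtain ⟨c, hcX, hc7, hc1⟩ := exists_of_prime (X := X) (p := 7) (by rw [hXc]; norm_num)
  obtain ⟨a1, a2⟩ := card_Fix_of (hXM c hcX) hc7 hc1
  have a3 : (Fix c).card = 3 := by
    unfold Nat.ModEq at a1; omega
  have a4 : none ∈ Fix c := mem_Fix.2 (hXn c hcX)
  have a4' : some 0 ∈ (Fix c).erase none := Finset.mem_erase.2 ⟨by simp, mem_Fix.2 (hX0 c hcX)⟩
  have a5 : (((Fix c).erase none).erase (some 0)).card = 1 := by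
    rw [Finset.card_erase_of_mem a4', Finset.card_erase_of_mem a4, a3]
  obtain ⟨q, hq⟩ := Finset.card_eq_one.1 a5
  have hq' : q ∈ ((Fix c).erase none).erase (some 0) := by rw [hq]; exact Finset.mem_singleton_self q
  rw [Finset.mem_erase, Finset.mem_erase] at hq'
  refine ⟨q, hq'.2.1, hq'.1, ?_⟩
  have hnO : none ∉ orbF X q := by
    intro h
    obtain ⟨x, hx, h⟩ := mem_orbF.1 h
    apply hq'.2.1
    apply x.injective
    rw [h, hXn x hx]
  have h0O : some 0 ∉ orbF X q := by
    intro h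
    obtain ⟨x, hx, h⟩ := mem_orbF.1 h
    apply hq'.1
    apply x.injective
    rw [h, hX0 x hx]
  have b1 := GolayFix.card_modEq hc7 (orbF X q) (fun y hy => orbF_inv hcX hy)
  have b2 : orbF X q ∩ Fix c = {q} := by
    ext y
    rw [Finset.mem_inter, Finset.mem_singleton]
    constructor
    · rintro ⟨h1, h2⟩
      have : y ∈ ((Fix c).erase none).erase (some 0) :=
        Finset.mem_erase.2 ⟨fun h => h0O (h ▸ h1), Finset.mem_erase.2 ⟨fun h => hnO (h ▸ h1), h2⟩⟩
      rwa [hq, Finset.mem_singleton] at this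
    · rintro rfl
      exact ⟨self_mem_orbF X y, hq'.2.2⟩
  rw [b2, Finset.card_singleton] at b1
  have b3 : (orbF X q).card ≤ 22 := by
    have : orbF X q ⊆ (Finset.univ.erase none).erase (some 0) := fun y hy =>
      Finset.mem_erase.2 ⟨fun h => h0O (h ▸ hy), Finset.mem_erase.2 ⟨fun h => hnO (h ▸ hy), Finset.mem_univ _⟩⟩
    have h := Finset.card_le_card this
    rw [Finset.card_erase_of_mem (by simp), Finset.card_erase_of_mem (Finset.mem_univ _), Finset.card_univ, card_pt] at h
    exact h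
  have b4 := card_orbF_dvd X q
  rw [hXc] at b4
  obtain ⟨w, hwX, hw5, hw1⟩ := exists_of_prime (X := X) (p := 5) (by rw [hXc]; norm_num)
  obtain ⟨e1, e2⟩ := card_Fix_of (hXM w hwX) hw5 hw1
  have e3 : (Fix w).card = 4 := by
    unfold Nat.ModEq at e1; omega
  have e4 : (orbF X q ∩ Fix w).card ≤ 2 := by
    have h1 : orbF X q ∩ Fix w ⊆ ((Fix w).erase none).erase (some 0) := by
      intro y hy
      rw [Finset.mem_inter] at hy
      exact Finset.mem_erase.2 ⟨fun h => h0O (h ▸ hy.1), Finset.mem_erase.2 ⟨fun h => hnO (h ▸ hy.1), hy.2⟩⟩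
    have h2 := Finset.card_le_card h1
    rw [Finset.card_erase_of_mem (Finset.mem_erase.2 ⟨by simp, mem_Fix.2 (hX0 w hwX)⟩),
      Finset.card_erase_of_mem (mem_Fix.2 (hXn w hwX)), e3] at h2
    exact h2
  have e5 := GolayFix.card_modEq hw5 (orbF X q) (fun y hy => orbF_inv hwX hy)
  have b5 : (orbF X q).card = 1 := by
    have h1 : (orbF X q).card = 1 ∨ (orbF X q).card = 8 ∨ (orbF X q).card = 15 ∨ (orbF X q).card = 22 := by
      unfold Nat.ModEq at b1
      omega
    rcases h1 with h1 | h1 | h1 | h1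
    · exact h1
    · exfalso
      rw [h1] at e5
      unfold Nat.ModEq at e5
      omega
    · exfalso
      -- the complement has seven points
      set C : Finset GolayPt := (insert none (insert (some 0) (orbF X q)))ᶜ with hC
      have hCc : C.card = 7 := by
        rw [hC, Finset.card_compl, card_pt, Finset.card_insert_of_notMem (by
          rw [Finset.mem_insert, not_or]; exact ⟨by simp, hnO⟩), Finset.card_insert_of_notMem h0O, h1]
      have hCm : ∀ y, y ∈ C ↔ y ≠ none ∧ y ≠ some 0 ∧ y ∉ orbF X q := by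
        intro y
        rw [hC, Finset.mem_compl, Finset.mem_insert, Finset.mem_insert, not_or, not_or]
      have hCi : ∀ x ∈ X, ∀ y, y ∈ C → x y ∈ C := by
        intro x hx y hy
        rw [hCm] at hy ⊢
        refine ⟨?_, ?_, orbF_inv' hx hy.2.2⟩
        · intro h
          apply hy.1
          apply x.injective
          rw [h, hXn x hx]
        · intro h
          apply hy.2.1
          apply x.injective
          rw [h, hX0 x hx]
      let _ : MulAction X C :=
        { smul := fun x y => ⟨(x : Equiv.Perm GolayPt) y, hCi x x.2 y y.2⟩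
          one_smul := fun y => rfl
          mul_smul := fun a b y => rfl }
      have hinj : Function.Injective (MulAction.toPermHom X C) := by
        rw [injective_iff_map_eq_one]
        intro x hx
        have h2 : ∀ y ∈ C, (x : Equiv.Perm GolayPt) y = y := by
          intro y hy
          exact congrArg Subtype.val (congrArg (fun f : Equiv.Perm C => f ⟨y, hy⟩) hx)
        have h3 : insert none (insert (some 0) C) ⊆ Fix (x : Equiv.Perm GolayPt) := by
          intro y hy
          rw [Finset.mem_insert, Finset.mem_insert] at hy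
          rw [mem_Fix]
          rcases hy with rfl | rfl | hy
          · exact hXn x x.2
          · exact hX0 x x.2
          · exact h2 y hy
        have h4 := Finset.card_le_card h3
        have h5 : (insert none (insert (some 0) C)).card = 9 := by
          rw [Finset.card_insert_of_notMem, Finset.card_insert_of_notMem, hCc]
          · rw [hCm]; simp
          · rw [Finset.mem_insert, hCm]; simp
        rw [h5] at h4
        exact Subtype.ext (eq_one_of_nine (hXM x x.2) h4)
      have h6 := Nat.card_le_card_of_injective _ hinj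
      rw [hXc, Nat.card_perm, Nat.card_eq_fintype_card, Fintype.card_coe, hCc] at h6
      exact absurd h6 (by decide)
    · exfalso
      rw [h1] at b4
      norm_num at b4
  have b6 := fix_of_card_one b5
  intro g hg
  exact b6 (A g) ⟨g, hg, rfl⟩

/-- one octad containing exactly one of the two points -/
def O0 : Finset GolayPt := mset 13938692

theorem O0_mem : O0 ∈ octads := by
  have h := bas_octad 2 (by norm_num)
  exact h

theorem mem_mset_none {m : ℕ} : none ∈ mset m ↔ m.testBit 23 = true := mem_mset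

theorem mem_mset_zero {m : ℕ} : (some 0 : GolayPt) ∈ mset m ↔ m.testBit 0 = true := by
  rw [mem_mset]
  rfl

theorem O0_none : none ∈ O0 := mem_mset_none.2 (by decide)
theorem O0_zero : (some 0 : GolayPt) ∉ O0 := by
  rw [O0, mem_mset_zero]; decide

/-- octads containing both or neither of the points -/
def DO (o : Finset GolayPt) : Prop := o ∈ octads ∧ (none ∈ o ↔ (some 0 : GolayPt) ∈ o)

/-- test -/
def dok (m : ℕ) : Bool := isCode m && (Nat.beq (pc m) 8 && (m.testBit 23 == m.testBit 0))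

theorem DO_of_dok {m : ℕ} (h : dok m = true) : DO (mset m) := by
  unfold dok at h
  rw [Bool.and_eq_true, Bool.and_eq_true, beq_iff_eq] at h
  refine ⟨⟨(mset_mem_supports_iff (lt_of_isCode h.1)).mpr h.1, ?_⟩, ?_⟩
  · rw [card_mset]; exact Nat.eq_of_beq_eq_true h.2.1
  · rw [mem_mset_none, mem_mset_zero, h.2.2]

theorem bas_check : ∀ j : Fin 12, dok (bas j) = true ∨ bas j = 13938692 ∨ dok (bas j ^^^ 13938692) = true := by
  decide +kernel

theorem bas_cases {j : ℕ} (hj : j < 12) : DO (mset (bas j)) ∨ mset (bas j) = O0 ∨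
    ∃ o, DO o ∧ mset (bas j) = symmDiff o O0 := by
  rcases bas_check ⟨j, hj⟩ with h | h | h
  · exact Or.inl (DO_of_dok h)
  · right; left
    show mset (bas j) = mset 13938692
    have h' : bas j = 13938692 := h
    rw [h']
  · right; right
    refine ⟨_, DO_of_dok h, ?_⟩
    show mset (bas j) = symmDiff (mset (bas j ^^^ 13938692)) (mset 13938692)
    rw [← mset_xor, Nat.xor_assoc, Nat.xor_self, Nat.xor_zero]

/-- induction for code sets -/
theorem sup_induction {Q : Finset GolayPt → Prop} (h0 : Q ∅) (hD : ∀ s t, Q s → Q t → Q (symmDiff s t))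
    (h1 : ∀ o, DO o → Q o) (h2 : Q O0) : ∀ s ∈ Sup, Q s := by
  intro s hs
  obtain ⟨n, hn, rfl⟩ := mem_supports_iff.mp hs
  have h3 : ∀ j < 12, Q (mset (sel n j (bas j))) := by
    intro j hj
    rw [mset_sel]; split
    · rcases bas_cases hj with h | h | ⟨o, ho, h⟩
      · exact h1 _ h
      · rw [h]; exact h2
      · rw [h]; exact hD _ _ (h1 _ ho) h2
    · exact h0
  rw [enc_def]
  simp only [mset_xor]
  exact hD _ _ (h3 0 (by norm_num)) <| hD _ _ (h3 1 (by norm_num)) <|
    hD _ _ (h3 2 (by norm_num)) <| hD _ _ (h3 3 (by norm_num)) <|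
    hD _ _ (h3 4 (by norm_num)) <| hD _ _ (h3 5 (by norm_num)) <|
    hD _ _ (h3 6 (by norm_num)) <| hD _ _ (h3 7 (by norm_num)) <|
    hD _ _ (h3 8 (by norm_num)) <| hD _ _ (h3 9 (by norm_num)) <|
    hD _ _ (h3 10 (by norm_num)) (h3 11 (by norm_num))

theorem parity_symmDiff (s t u : Finset GolayPt) :
    ((symmDiff s t) ∩ u).card % 2 = ((s ∩ u).card + (t ∩ u).card) % 2 := by
  have h1 : symmDiff s t ∩ u = symmDiff (s ∩ u) (t ∩ u) := by
    ext x
    simp only [Finset.mem_inter, Finset.mem_symmDiff]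
    tauto
  have h2 := card_symmDiff_add (s ∩ u) (t ∩ u)
  rw [h1]
  omega

/-- membership in the code by parities -/
theorem mem_of_parity {S : Finset GolayPt} (h1 : ∀ o, DO o → (o ∩ S).card % 2 = 0) (h2 : (O0 ∩ S).card % 2 = 0) :
    S ∈ Sup := by
  apply GolayFix.dual_mem_supports
  apply sup_induction
  · simp
  · intro s t hs ht
    rw [parity_symmDiff]; omega
  · exact h1
  · exact h2

/-- the transposition -/
def τ : Equiv.Perm GolayPt := Equiv.swap none (some 0)

theorem τ_none : τ none = some 0 := Equiv.swap_apply_left _ _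
theorem τ_zero : τ (some 0) = none := Equiv.swap_apply_right _ _
theorem τ_other {x : GolayPt} (h1 : x ≠ none) (h2 : x ≠ some 0) : τ x = x := Equiv.swap_apply_of_ne_of_ne h1 h2

theorem τ_smul_of_iff {s : Finset GolayPt} (h : none ∈ s ↔ (some 0 : GolayPt) ∈ s) : τ • s = s := by
  ext y
  obtain ⟨x, rfl⟩ := τ.surjective y
  rw [GolayFix.mem_smul_iff]
  by_cases h1 : x = none
  · rw [h1, τ_none]; exact h
  · by_cases h2 : x = some 0
    · rw [h2, τ_zero]; exact h.symm
    · rw [τ_other h1 h2]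

theorem τ_smul_of_not {s : Finset GolayPt} (h1 : none ∈ s) (h2 : (some 0 : GolayPt) ∉ s) :
    τ • s = symmDiff s {none, some 0} := by
  classical
  ext y
  obtain ⟨x, rfl⟩ := τ.surjective y
  rw [GolayFix.mem_smul_iff, Finset.mem_symmDiff]
  by_cases h3 : x = none
  · rw [h3, τ_none]; simp [h1, h2]
  · by_cases h4 : x = some 0
    · rw [h4, τ_zero]; simp [h1, h2]
    · rw [τ_other h3 h4]; simp [h3, h4]

/-- the permutation -/
theorem m22_perm {σ : Equiv.Perm GolayPt} (hn : σ none = none) (h0 : σ (some 0) = some 0)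
    (h1 : ∀ o, DO o → σ • o ∈ octads) (h2 : ∀ o, DO o → σ⁻¹ • o ∈ octads) : σ ∈ M24 ∨ τ * σ ∈ M24 := by
  classical
  -- parity with `σ • O0`
  have hDO : ∀ o, DO o → DO (σ⁻¹ • o) := by
    intro o ho
    refine ⟨h2 o ho, ?_⟩
    have e1 : (none ∈ σ⁻¹ • o ↔ none ∈ o) := GolayFix.mem_smul_of_fix (by rw [← hn, pia, hn])
    have e2 : ((some 0 : GolayPt) ∈ σ⁻¹ • o ↔ (some 0 : GolayPt) ∈ o) := GolayFix.mem_smul_of_fix (by rw [← h0, pia, h0])
    rw [e1, e2]; exact ho.2
  have hpar : ∀ o, DO o → (o ∩ σ • O0).card % 2 = 0 := by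
    intro o ho
    have h3 : o ∩ σ • O0 = σ • ((σ⁻¹ • o) ∩ O0) := by
      rw [smul_inter', smul_inv_smul]
    rw [h3, Finset.card_smul_finset]
    exact even_inter (h2 o ho).1 O0_mem.1
  have hS1 : none ∈ σ • O0 := (GolayFix.mem_smul_of_fix hn).2 O0_none
  have hS2 : (some 0 : GolayPt) ∉ σ • O0 := fun h => O0_zero ((GolayFix.mem_smul_of_fix h0).1 h)
  by_cases hp : (O0 ∩ σ • O0).card % 2 = 0
  · left
    have h3 : σ • O0 ∈ Sup := mem_of_parity hpar hp
    rw [mem_M24_iff]
    apply sup_induction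
    · rw [smul_empty']; exact GolayFix.dual_mem_supports (fun t _ => by simp)
    · intro s t hs ht
      rw [smul_symmDiff']; exact symmDiff_mem_supports hs ht
    · intro o ho
      exact (h1 o ho).1
    · exact h3
  · right
    have h3 : (τ * σ) • O0 ∈ Sup := by
      rw [mul_smul, τ_smul_of_not hS1 hS2]
      apply mem_of_parity
      · intro o ho
        rw [Finset.inter_comm, parity_symmDiff, Finset.inter_comm]
        have h4 := hpar o ho
        have h5 : (({none, some 0} : Finset GolayPt) ∩ o).card % 2 = 0 := by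
          by_cases h6 : none ∈ o
          · have h7 := ho.2.1 h6
            have : ({none, some 0} : Finset GolayPt) ∩ o = {none, some 0} := by
              rw [Finset.inter_eq_left]
              intro x hx
              rw [Finset.mem_insert, Finset.mem_singleton] at hx
              rcases hx with rfl | rfl
              · exact h6
              · exact h7
            rw [this]; rfl
          · have h7 : (some 0 : GolayPt) ∉ o := fun h => h6 (ho.2.2 h)
            have : ({none, some 0} : Finset GolayPt) ∩ o = ∅ := by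
              rw [← Finset.disjoint_iff_inter_eq_empty, Finset.disjoint_left]
              intro x hx
              rw [Finset.mem_insert, Finset.mem_singleton] at hx
              rcases hx with rfl | rfl
              · exact h6
              · exact h7
            rw [this]; rfl
        omega
      · rw [Finset.inter_comm, parity_symmDiff, Finset.inter_comm]
        have h5 : (({none, some 0} : Finset GolayPt) ∩ O0).card % 2 = 1 := by
          have : ({none, some 0} : Finset GolayPt) ∩ O0 = {none} := by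
            ext x
            rw [Finset.mem_inter, Finset.mem_insert, Finset.mem_singleton, Finset.mem_singleton]
            constructor
            · rintro ⟨rfl | rfl, h⟩
              · rfl
              · exact absurd h O0_zero
            · rintro rfl
              exact ⟨Or.inl rfl, O0_none⟩
          rw [this]; rfl
        omega
    rw [mem_M24_iff]
    apply sup_induction
    · rw [smul_empty']; exact GolayFix.dual_mem_supports (fun t _ => by simp)
    · intro s t hs ht
      rw [smul_symmDiff']; exact symmDiff_mem_supports hs ht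
    · intro o ho
      rw [mul_smul, τ_smul_of_iff]
      · exact (h1 o ho).1
      · have e1 : (none ∈ σ • o ↔ none ∈ o) := GolayFix.mem_smul_of_fix hn
        have e2 : ((some 0 : GolayPt) ∈ σ • o ↔ (some 0 : GolayPt) ∈ o) := GolayFix.mem_smul_of_fix h0
        rw [e1, e2]; exact ho.2
    · exact h3

theorem τ_conj {g : Equiv.Perm GolayPt} (hn : g none = none) (h0 : g (some 0) = some 0) : τ * g * τ⁻¹ = g := by
  have h := Equiv.mul_swap_eq_swap_mul g none (some 0)
  rw [hn, h0] at h
  rw [mul_inv_eq_iff_eq_mul]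
  exact h.symm

/-- every automorphism of `M22` is induced by an element of `M24` stabilizing the pair of points -/
theorem m22_real (α : MulAut ↥Spor.M22) : ∃ ρ ∈ M24, ((ρ none = none ∧ ρ (some 0) = some 0) ∨
    (ρ none = some 0 ∧ ρ (some 0) = none)) ∧ ∀ g : Spor.M22, ((α g : Spor.M22) : Equiv.Perm GolayPt) = ρ * g * ρ⁻¹ := by
  classical
  obtain ⟨q, hqn, hq0, hq⟩ := m22_fix α
  obtain ⟨σ, hσ', hσ⟩ := exists_conj Spor.M22 {x | x ≠ none ∧ x ≠ some 0} (fun g hg x hx => by
      rw [Set.mem_ofPred_eq] at hx ⊢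
      refine ⟨fun h => hx.1 ?_, fun h => hx.2 ?_⟩
      · apply g.injective
        rw [h, (mem_M22.1 hg).2.1]
      · apply g.injective
        rw [h, (mem_M22.1 hg).2.2])
    (fun g hg x hx => by
      rw [Set.mem_ofPred_eq, not_and_or, not_not, not_not] at hx
      rcases hx with rfl | rfl
      · exact (mem_M22.1 hg).2.1
      · exact (mem_M22.1 hg).2.2) (fun x hx y hy => by
      obtain ⟨g, hg, h1, h2, h3⟩ := exists_three (a := none) (b := some 0) (c := x) (a' := none) (b' := some 0) (c' := y)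
        (by simp) (Ne.symm hx.1) (Ne.symm hx.2) (by simp) (Ne.symm hy.1) (Ne.symm hy.2)
      exact ⟨g, mem_M22.2 ⟨hg, h1, h2⟩, h3⟩) α (p := some 1) ⟨by simp, by decide⟩ ⟨hqn, hq0⟩ hq
  have hσn : σ none = none := hσ' none (by simp)
  have hσ0 : σ (some 0) = some 0 := hσ' (some 0) (by simp)
  -- `σ` and its inverse map octads through both points to octads
  have key : ∀ o ∈ octads, ({none, some 0} : Finset GolayPt) ⊆ o → σ • o ∈ octads := by
    intro o ho hno
    obtain ⟨g, hg, hg2, rfl⟩ := exists_inv ho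
    apply smul_octad _ hg2 ho
    have hg' : g ∈ Spor.M22 := mem_M22.2 ⟨hg, mem_Fix.1 (hno (by simp)), mem_Fix.1 (hno (by simp))⟩
    rw [← hσ ⟨g, hg'⟩]
    exact (mem_M22.1 (α ⟨g, hg'⟩).2).1
  have key' : ∀ o ∈ octads, ({none, some 0} : Finset GolayPt) ⊆ o → σ⁻¹ • o ∈ octads := by
    intro o ho hno
    obtain ⟨g, hg, hg2, rfl⟩ := exists_inv ho
    apply smul_octad _ hg2 ho
    have hg' : g ∈ Spor.M22 := mem_M22.2 ⟨hg, mem_Fix.1 (hno (by simp)), mem_Fix.1 (hno (by simp))⟩
    have h1 := hσ (α.symm ⟨g, hg'⟩)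
    rw [MulEquiv.apply_symm_apply] at h1
    have h2 : σ⁻¹ * g * σ⁻¹⁻¹ = ((α.symm ⟨g, hg'⟩ : Spor.M22) : Equiv.Perm GolayPt) := by
      have h3 : g = σ * ((α.symm ⟨g, hg'⟩ : Spor.M22) : Equiv.Perm GolayPt) * σ⁻¹ := h1
      have h4 : σ⁻¹ * g * σ⁻¹⁻¹ = σ⁻¹ * (σ * ((α.symm ⟨g, hg'⟩ : Spor.M22) : Equiv.Perm GolayPt) * σ⁻¹) * σ⁻¹⁻¹ :=
        congrArg (fun x => σ⁻¹ * x * σ⁻¹⁻¹) h3
      rw [h4]; group
    rw [h2]
    exact (mem_M22.1 (α.symm ⟨g, hg'⟩).2).1
  have hDO : ∀ {ρ : Equiv.Perm GolayPt}, (∀ o ∈ octads, ({none, some 0} : Finset GolayPt) ⊆ o → ρ • o ∈ octads) →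
      ∀ o, DO o → ρ • o ∈ octads := by
    intro ρ h o ho
    by_cases h6 : none ∈ o
    · apply h o ho.1
      intro x hx
      rw [Finset.mem_insert, Finset.mem_singleton] at hx
      rcases hx with rfl | rfl
      · exact h6
      · exact ho.2.1 h6
    · apply smul_octad_of_split h (by simp) (by rfl) ho.1
      rw [Finset.disjoint_left]
      intro x hxo hx
      rw [Finset.mem_insert, Finset.mem_singleton] at hx
      rcases hx with rfl | rfl
      · exact h6 hxo
      · exact h6 (ho.2.2 hxo)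
  rcases m22_perm hσn hσ0 (hDO key) (hDO key') with h | h
  · exact ⟨σ, h, Or.inl ⟨hσn, hσ0⟩, hσ⟩
  · refine ⟨τ * σ, h, Or.inr ⟨?_, ?_⟩, ?_⟩
    · rw [Equiv.Perm.mul_apply, hσn, τ_none]
    · rw [Equiv.Perm.mul_apply, hσ0, τ_zero]
    · intro g
      have h1 : τ * σ * g * (τ * σ)⁻¹ = τ * (σ * g * σ⁻¹) * τ⁻¹ := by group
      rw [h1, ← hσ g]
      have h2 := mem_M22.1 (α g).2
      exact (τ_conj h2.2.1 h2.2.2).symm

/-- a swapping element induces an outer automorphism -/
theorem not_inner {α : MulAut ↥Spor.M22} {ρ : Equiv.Perm GolayPt} (hρ : ρ ∈ M24) (h1 : ρ none = some 0)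
    (h2 : ρ (some 0) = none) (h : ∀ g : Spor.M22, ((α g : Spor.M22) : Equiv.Perm GolayPt) = ρ * g * ρ⁻¹) :
    α ∉ Inn ↥Spor.M22 := by
  classical
  rintro ⟨k, rfl⟩
  have hk := mem_M22.1 k.2
  set c : Equiv.Perm GolayPt := (k : Equiv.Perm GolayPt)⁻¹ * ρ with hc
  have hcM : c ∈ M24 := mul_mem (inv_mem hk.1) hρ
  have hcn : c none = some 0 := by
    rw [hc, Equiv.Perm.mul_apply, h1, Equiv.Perm.inv_eq_iff_eq, hk.2.2]
  have hc0 : c (some 0) = none := by
    rw [hc, Equiv.Perm.mul_apply, h2, Equiv.Perm.inv_eq_iff_eq, hk.2.1]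
  have hcomm : ∀ g ∈ Spor.M22, c * g = g * c := by
    intro g hg
    have h3 := h ⟨g, hg⟩
    have h4 : (k : Equiv.Perm GolayPt) * g * (k : Equiv.Perm GolayPt)⁻¹ = ρ * g * ρ⁻¹ := h3
    have h5 : c * g = (k : Equiv.Perm GolayPt)⁻¹ * (ρ * g * ρ⁻¹) * ρ := by rw [hc]; group
    rw [h5, ← h4, hc]; group
  have hfix : ∀ p, p ≠ none → p ≠ some 0 → c p = p := by
    intro p hp hp0
    by_contra hne
    have hcp : c p ≠ none := fun h => hp0 (c.injective (h.trans hc0.symm))
    have hcp0 : c p ≠ some 0 := fun h => hp (c.injective (h.trans hcn.symm))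
    -- a third point
    obtain ⟨r, hr⟩ : ∃ r : GolayPt, r ∉ ({none, some 0, p, c p} : Finset GolayPt) := by
      by_contra hcon
      push Not at hcon
      have h3 : (Finset.univ : Finset GolayPt) ⊆ {none, some 0, p, c p} := fun x _ => hcon x
      have h4 := Finset.card_le_card h3
      have h5 : ({none, some 0, p, c p} : Finset GolayPt).card ≤ 4 := Finset.card_le_four
      rw [Finset.card_univ, card_pt] at h4
      omega
    simp only [Finset.mem_insert, Finset.mem_singleton, not_or] at hr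
    obtain ⟨g, hg, g1, g2, g3, g4⟩ := exists_four (a := none) (b := some 0) (c := p) (d := c p) (a' := none)
      (b' := some 0) (c' := p) (d' := r) (by simp) (Ne.symm hp) (Ne.symm hp0) (Ne.symm hcp) (Ne.symm hcp0) (Ne.symm hne)
      (by simp) (Ne.symm hp) (Ne.symm hp0) (Ne.symm hr.1) (Ne.symm hr.2.1) (Ne.symm hr.2.2.1)
    have h3 := hcomm g (mem_M22.2 ⟨hg, g1, g2⟩)
    have h4 := congrArg (fun f : Equiv.Perm GolayPt => f p) h3
    simp only [Equiv.Perm.mul_apply] at h4
    rw [g3, g4] at h4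
    exact hr.2.2.2 h4.symm
  have h9 : 9 ≤ (Fix c).card := by
    have h3 : (Finset.univ.erase none).erase (some 0) ⊆ Fix c := by
      intro p hp
      rw [Finset.mem_erase, Finset.mem_erase] at hp
      exact mem_Fix.2 (hfix p hp.2.1 hp.1)
    have h4 := Finset.card_le_card h3
    rw [Finset.card_erase_of_mem (by simp), Finset.card_erase_of_mem (Finset.mem_univ _), Finset.card_univ, card_pt] at h4
    omega
  have h10 := eq_one_of_nine hcM h9
  rw [h10] at hcn
  simp at hcn

theorem m22_out : Nat.card (Out ↥Spor.M22) = 2 := by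
  classical
  obtain ⟨t, ht, t1, t2⟩ := exists_two (a := none) (b := some 0) (a' := some 0) (b' := none) (by simp) (by simp)
  have hconj : ∀ ρ ∈ M24, ρ none = some 0 → ρ (some 0) = none → ∀ g ∈ Spor.M22, ρ * g * ρ⁻¹ ∈ Spor.M22 := by
    intro ρ hρ r1 r2 g hg
    have hg' := mem_M22.1 hg
    rw [mem_M22]
    refine ⟨mul_mem (mul_mem hρ hg'.1) (inv_mem hρ), ?_, ?_⟩
    · have : ρ⁻¹ none = some 0 := by rw [Equiv.Perm.inv_eq_iff_eq, r2]
      rw [Equiv.Perm.mul_apply, Equiv.Perm.mul_apply, this, hg'.2.2, r2]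
    · have : ρ⁻¹ (some 0) = none := by rw [Equiv.Perm.inv_eq_iff_eq, r1]
      rw [Equiv.Perm.mul_apply, Equiv.Perm.mul_apply, this, hg'.2.1, r1]
  have ti1 : t⁻¹ none = some 0 := by rw [Equiv.Perm.inv_eq_iff_eq, t2]
  have ti2 : t⁻¹ (some 0) = none := by rw [Equiv.Perm.inv_eq_iff_eq, t1]
  let β : MulAut ↥Spor.M22 :=
    { toFun := fun g => ⟨t * g * t⁻¹, hconj t ht t1 t2 g g.2⟩
      invFun := fun g => ⟨t⁻¹ * g * t⁻¹⁻¹, hconj t⁻¹ (inv_mem ht) ti1 ti2 g g.2⟩
      left_inv := fun g => Subtype.ext (by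
        show t⁻¹ * (t * g * t⁻¹) * t⁻¹⁻¹ = g
        group)
      right_inv := fun g => Subtype.ext (by
        show t * (t⁻¹ * g * t⁻¹⁻¹) * t⁻¹ = g
        group)
      map_mul' := fun g h => Subtype.ext (by
        show t * (g * h) * t⁻¹ = (t * g * t⁻¹) * (t * h * t⁻¹)
        group) }
  have hβ : ∀ g : Spor.M22, ((β g : Spor.M22) : Equiv.Perm GolayPt) = t * g * t⁻¹ := fun g => rfl
  show (Inn ↥Spor.M22).index = 2
  rw [Subgroup.index_eq_two_iff]
  refine ⟨β, fun α => ?_⟩
  obtain ⟨ρ, hρ, hc, h⟩ := m22_real α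
  have hmul : ∀ g : Spor.M22, (((α * β) g : Spor.M22) : Equiv.Perm GolayPt) = (ρ * t) * g * (ρ * t)⁻¹ := by
    intro g
    rw [MulAut.mul_apply, h, hβ]; group
  rcases hc with ⟨h1, h2⟩ | ⟨h1, h2⟩
  · right
    refine ⟨inner_of (mem_M22.2 ⟨hρ, h1, h2⟩) h, not_inner (mul_mem hρ ht) ?_ ?_ hmul⟩
    · rw [Equiv.Perm.mul_apply, t1, h2]
    · rw [Equiv.Perm.mul_apply, t2, h1]
  · left
    refine ⟨inner_of (mem_M22.2 ⟨mul_mem hρ ht, ?_, ?_⟩) hmul, not_inner hρ h1 h2 h⟩
    · rw [Equiv.Perm.mul_apply, t1, h2]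
    · rw [Equiv.Perm.mul_apply, t2, h1]

end Cfsg.Agent.Lib.H92MathieuAut
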