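import Cfsg.Agent.Lib.H92MathieuSchur
import Cfsg.Agent.Lib.H92MathieuAutB

/-!
Multipliers of `M23` and `M24`: final assembly (helper92)
-/

set_option autoImplicit false

namespace Cfsg.Agent.Lib.H92MathieuSchur

open Cfsg Cfsg.Agent.Lib.Golay Cfsg.Agent.Lib.H92Stem Cfsg.Agent.Lib.PresAlt Cfsg.Agent.Lib.H92MathieuAut
open Cfsg.Agent.Lib.GolayFix (Fix mem_Fix)
open Cfsg.Agent.Lib.SchurSylow
open scoped Pointwise Nat

/-! ### the prime two -/

theorem m24_two : PStemDvd 2 ↥M24 1 := by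
  refine p_two le_rfl (fun g hg _ => hg) (ok_of ok24) (by norm_num) ?_ (by norm_num) (by norm_num) (by norm_num)
    (by decide +kernel) (by decide +kernel) (fun c hc => toPerm_mem_M24 (okx_spec hc).1)
    (fun t _ _ ho => octad_transitive ho oct0_mem) natCard_M24 ?_
  · rw [card_mset]; decide +kernel
  · intro i hi
    have h1 : (8 * (6 + 2)!) = 322560 := by decide
    rw [h1, show 244823040 = 759 * 322560 by norm_num] at hi
    have h2 := Nat.dvd_of_mul_dvd_mul_right (by norm_num) hi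
    intro h3
    exact absurd (h3.trans h2) (by norm_num)

theorem card_M23 : Nat.card ↥Spor.M23 = 10200960 := by
  have h1 := card_stab_one (none : GolayPt)
  have h2 : (MulAction.stabilizer M24 (none : GolayPt)).map M24.subtype = Spor.M23 := by
    ext g
    rw [mem_M23]
    constructor
    · rintro ⟨k, hk, rfl⟩
      exact ⟨k.2, hk⟩
    · rintro ⟨hg, h3⟩
      exact ⟨⟨g, hg⟩, h3, rfl⟩
  rw [← h2, Subgroup.card_map_of_injective M24.subtype_injective, h1]

theorem m23_two : PStemDvd 2 ↥Spor.M23 1 := by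
  refine p_two (fun g hg => (mem_M23.1 hg).1) (fun g hg hn => mem_M23.2 ⟨hg, hn⟩) (ok_of ok23) (by norm_num) ?_
    (by norm_num) (by norm_num) (by norm_num)
    (by decide +kernel) (by decide +kernel)
    (fun c hc => mem_M23.2 ⟨toPerm_mem_M24 (okx_spec hc).1, (okx_spec hc).2.2.2.2.1 rfl⟩)
    ?_ card_M23 ?_
  · rw [card_mset]; decide +kernel
  · intro t ht _ ho
    obtain ⟨g, hg, hn, hgo⟩ := octad_none ho (mem_Fix.2 (mem_M23.1 ht).2)
    exact ⟨g, mem_M23.2 ⟨hg, hn⟩, hgo⟩
  · intro i hi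
    have h1 : (8 * (5 + 2)!) = 40320 := by decide
    rw [h1, show 10200960 = 253 * 40320 by norm_num] at hi
    have h2 := Nat.dvd_of_mul_dvd_mul_right (by norm_num) hi
    intro h3
    exact absurd (h3.trans h2) (by norm_num)

/-! ### the prime three -/

section three

variable {X : Subgroup (Equiv.Perm GolayPt)}

theorem p_three_aux {x y : Equiv.Perm GolayPt} (hx : x ∈ X) (hy : y ∈ X)
    (hidx : ∀ i, i * Nat.card (Subgroup.closure {x, y}) = Nat.card X → ¬ 3 ∣ i)
    (hkey : ∀ (Γ : Type) [Group Γ] (ρ : Γ →* Equiv.Perm GolayPt) (_ : ∀ g, ρ g = 1 → ∀ x, g * x = x * g)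
      (_ : ∀ g, ρ g = 1 → g ^ 3 = 1) (_ : ∀ g ∈ X, ∃ u, ρ u = g) (ζ : Γ) (_ : ρ ζ = 1)
      (_ : ζ ∈ ⁅(Subgroup.closure {x, y}).comap ρ, (Subgroup.closure {x, y}).comap ρ⁆), ζ = 1) :
    PStemDvd 3 X 1 := by
  have f3 : Fact (Nat.Prime 3) := ⟨Nat.prime_three⟩
  apply pStemDvd_one_of
  intro Γ _ _ σ hσ hc
  have hH0X : Subgroup.closure {x, y} ≤ X := by
    rw [Subgroup.closure_le]
    rintro w (rfl | hw)
    · exact hx
    · rw [Set.mem_singleton_iff] at hw; subst hw; exact hy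
  set ρ : Γ →* Equiv.Perm GolayPt := X.subtype.comp σ with hρ
  have hρ1 : ∀ g, ρ g = 1 ↔ σ g = 1 := fun g => ⟨fun e => Subtype.ext e, fun e => by
    show ((σ g : X) : Equiv.Perm GolayPt) = 1
    rw [e]; rfl⟩
  have hr : ∀ g ∈ X, ∃ u, ρ u = g := by
    intro g hg
    obtain ⟨u, hu⟩ := hσ.1 ⟨g, hg⟩
    exact ⟨u, congrArg Subtype.val hu⟩
  set H : Subgroup X := (Subgroup.closure {x, y}).subgroupOf X with hH
  have hHc : Nat.card H = Nat.card (Subgroup.closure {x, y}) :=
    Nat.card_congr (Subgroup.subgroupOfEquivOfLe hH0X).toEquiv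
  have hi : ¬ 3 ∣ H.index := by
    apply hidx
    rw [← hHc, Subgroup.index_mul_card]
  have hp : IsPGroup 3 σ.ker := IsPGroup.of_card (n := 1) (by rw [hc, pow_one])
  have hle := ker_le_commutator_comap σ hσ hp H hi
  have hcm : H.comap σ = (Subgroup.closure {x, y}).comap ρ := by
    rw [hH, hρ, ← Subgroup.comap_comap]; rfl
  rw [hcm] at hle
  have h1 : σ.ker = ⊥ := by
    rw [eq_bot_iff]
    intro ζ hζ
    rw [Subgroup.mem_bot]
    refine hkey Γ ρ (fun g hg w => ((Subgroup.mem_center_iff.1 (hσ.2.1 ((hρ1 g).1 hg))) w).symm) ?_ hr ζ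
      ((hρ1 ζ).2 hζ) (hle hζ)
    intro g hg
    have h2 : (⟨g, (hρ1 g).1 hg⟩ : σ.ker) ^ 3 = 1 := by rw [← hc]; exact pow_card_eq_one'
    exact congrArg Subtype.val h2
  rw [h1, Subgroup.card_bot] at hc
  norm_num at hc

end three

def x3 : ℕ := 967892450496570809518106208993642542
def y3 : ℕ := 982002380891762273721920082159897678
def t3 : ℕ := 971863981838573055729836311710862374

def a3 : ℕ := 845712233212287098895217814089816659
def b3 : ℕ := 831433460449387824338496080121530961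
def s3 : ℕ := 560226385938531833614262298321817995
def c3 : ℕ := 955651978781939638265910308680870577

theorem inM_x3 : inM x3 = true := by decide +kernel
theorem inM_y3 : inM y3 = true := by decide +kernel
theorem inM_t3 : inM t3 = true := by decide +kernel
theorem inM_a3 : inM a3 = true := by decide +kernel
theorem inM_b3 : inM b3 = true := by decide +kernel
theorem inM_s3 : inM s3 = true := by decide +kernel

theorem toPerm_ne {c d i : ℕ} (hc : valid c = true) (hd : valid d = true) (hi : i < 24)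
    (h : Nat.beq (img c i) (img d i) = false) : toPerm c ≠ toPerm d := by
  intro e
  have h1 := congrArg (fun p : Equiv.Perm GolayPt => ix (p (pt i))) e
  simp only [toPerm_pt hc hi, toPerm_pt hd hi, ix_pt (img_lt hc hi), ix_pt (img_lt hd hi)] at h1
  rw [h1, Nat.beq_refl] at h
  exact absurd h (by decide)

theorem cube_of {c : ℕ} (hv : valid c = true) (h : mulC (mulC c c) c = idC) : toPerm c ^ 3 = 1 := by
  rw [pow_succ, pow_two, ← toPerm_mulC hv hv, ← toPerm_mulC (valid_mulC hv hv) hv, h, toPerm_idC]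

theorem mul_of {c d e : ℕ} (hc : valid c = true) (hd : valid d = true) (h : mulC c d = e) :
    toPerm c * toPerm d = toPerm e := by rw [← toPerm_mulC hc hd, h]

theorem m23_three : PStemDvd 3 ↥Spor.M23 1 := by
  have vx := valid_of_inM inM_x3
  have vy := valid_of_inM inM_y3
  have vt := valid_of_inM inM_t3
  have hn : ∀ {c : ℕ}, inM c = true → Nat.beq (img c 23) 23 = true → toPerm c ∈ Spor.M23 := by
    intro c h1 h2
    refine mem_M23.2 ⟨toPerm_mem_M24 h1, ?_⟩
    rw [← pt23, toPerm_pt (valid_of_inM h1) (by norm_num), beq_imp h2]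
  have hx := hn inM_x3 (by decide +kernel)
  have hy := hn inM_y3 (by decide +kernel)
  have ht := hn inM_t3 (by decide +kernel)
  have hxy : toPerm x3 * toPerm y3 = toPerm y3 * toPerm x3 := by
    rw [← toPerm_mulC vx vy, ← toPerm_mulC vy vx, show mulC x3 y3 = mulC y3 x3 by decide +kernel]
  have htx : toPerm t3 * toPerm x3 * (toPerm t3)⁻¹ = toPerm x3 := by
    rw [mul_inv_eq_iff_eq_mul, ← toPerm_mulC vt vx, ← toPerm_mulC vx vt, show mulC t3 x3 = mulC x3 t3 by decide +kernel]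
  have hty : toPerm t3 * toPerm y3 * (toPerm t3)⁻¹ = (toPerm y3)⁻¹ := by
    rw [mul_inv_eq_iff_eq_mul, eq_inv_mul_iff_mul_eq, ← toPerm_mulC vt vy, ← toPerm_mulC vy (valid_mulC vt vy),
      show mulC y3 (mulC t3 y3) = t3 by decide +kernel]
  have hx3 := cube_of vx (by decide +kernel)
  have hy3 := cube_of vy (by decide +kernel)
  have hx1 : toPerm x3 ≠ 1 := by
    rw [← toPerm_idC]
    exact toPerm_ne vx (by decide +kernel) (i := 0) (by norm_num) (by decide +kernel)
  have hyx : toPerm y3 ∉ Subgroup.zpowers (toPerm x3) := by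
    intro h
    have h1 : toPerm x3 (pt 1) = pt 1 := by
      rw [toPerm_pt vx (by norm_num), show img x3 1 = 1 by decide +kernel]
    have h2 : toPerm y3 (pt 1) ≠ pt 1 := by
      rw [toPerm_pt vy (by norm_num)]
      intro e
      have := congrArg ix e
      rw [ix_pt (img_lt vy (by norm_num)), ix_pt (by norm_num)] at this
      exact absurd this (by decide +kernel)
    have h3 : Subgroup.zpowers (toPerm x3) ≤ MulAction.stabilizer (Equiv.Perm GolayPt) (pt 1) := by
      rw [Subgroup.zpowers_le]; exact h1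
    exact h2 (h3 h)
  have h9 := nine_dvd hx3 hy3 hxy hx1 hyx
  refine p_three_aux hx hy ?_ ?_
  · intro i hi h3
    rw [card_M23] at hi
    have h27 : 27 ∣ 10200960 := by
      rw [← hi, show 27 = 3 * 9 by norm_num]
      exact Nat.mul_dvd_mul h3 h9
    exact absurd h27 (by norm_num)
  · intro Γ _ ρ hk hc hr ζ _ hζ
    obtain ⟨a, ha⟩ := hr _ hx
    obtain ⟨b, hb⟩ := hr _ hy
    obtain ⟨s, hs⟩ := hr _ ht
    rw [← ha, ← hb] at hζ
    exact three_abelian ρ hk hc a b s (by rw [ha, hb, hxy]) (by rw [ha, hs, htx]) (by rw [hb, hs, hty]) hζ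

theorem m24_three : PStemDvd 3 ↥M24 1 := by
  have vx := valid_of_inM inM_a3
  have vy := valid_of_inM inM_b3
  have vt := valid_of_inM inM_s3
  have hx := toPerm_mem_M24 inM_a3
  have hy := toPerm_mem_M24 inM_b3
  have ht := toPerm_mem_M24 inM_s3
  have vc : valid c3 = true := by decide +kernel
  have hcc : toPerm b3 * toPerm a3 * (toPerm b3)⁻¹ * (toPerm a3)⁻¹ = toPerm c3 := by
    rw [mul_inv_eq_iff_eq_mul, mul_inv_eq_iff_eq_mul, ← toPerm_mulC vy vx, ← toPerm_mulC vc vx,
      ← toPerm_mulC (valid_mulC vc vx) vy, show mulC b3 a3 = mulC (mulC c3 a3) b3 by decide +kernel]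
  have hcx : toPerm c3 * toPerm a3 = toPerm a3 * toPerm c3 := by
    rw [← toPerm_mulC vc vx, ← toPerm_mulC vx vc, show mulC c3 a3 = mulC a3 c3 by decide +kernel]
  have hcy : toPerm c3 * toPerm b3 = toPerm b3 * toPerm c3 := by
    rw [← toPerm_mulC vc vy, ← toPerm_mulC vy vc, show mulC c3 b3 = mulC b3 c3 by decide +kernel]
  have htx : toPerm s3 * toPerm a3 * (toPerm s3)⁻¹ = (toPerm a3)⁻¹ := by
    rw [mul_inv_eq_iff_eq_mul, eq_inv_mul_iff_mul_eq, ← toPerm_mulC vt vx, ← toPerm_mulC vx (valid_mulC vt vx),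
      show mulC a3 (mulC s3 a3) = s3 by decide +kernel]
  have hty : toPerm s3 * toPerm b3 * (toPerm s3)⁻¹ = (toPerm b3)⁻¹ := by
    rw [mul_inv_eq_iff_eq_mul, eq_inv_mul_iff_mul_eq, ← toPerm_mulC vt vy, ← toPerm_mulC vy (valid_mulC vt vy),
      show mulC b3 (mulC s3 b3) = s3 by decide +kernel]
  have hx3 := cube_of vx (by decide +kernel)
  have hy3 := cube_of vy (by decide +kernel)
  have hne : toPerm b3 * toPerm a3 ≠ toPerm a3 * toPerm b3 := by
    rw [← toPerm_mulC vy vx, ← toPerm_mulC vx vy]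
    exact toPerm_ne (valid_mulC vy vx) (valid_mulC vx vy) (i := 0) (by norm_num) (by decide +kernel)
  have h27 := twentyseven_dvd hx3 hy3 (by rw [hcc, hcx]) (by rw [hcc, hcy]) hne
  refine p_three_aux hx hy ?_ ?_
  · intro i hi h3
    rw [natCard_M24] at hi
    have h81 : 81 ∣ 244823040 := by
      rw [← hi, show 81 = 3 * 27 by norm_num]
      exact Nat.mul_dvd_mul h3 h27
    exact absurd h81 (by norm_num)
  · intro Γ _ ρ hk hc hr ζ hζ1 hζ
    obtain ⟨a, ha⟩ := hr _ hx
    obtain ⟨b, hb⟩ := hr _ hy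
    obtain ⟨s, hs⟩ := hr _ ht
    rw [← ha, ← hb] at hζ
    exact three_extra ρ hk hc a b s (by rw [ha, hs, htx]) (by rw [hb, hs, hty]) (by rw [ha, hb, hcc, hcx])
      (by rw [ha, hb, hcc, hcy]) (by rw [ha, hx3]) (by rw [ha, hb]; exact hne) hζ1 hζ

/-! ### all primes -/

theorem num_aux {p : ℕ} (hp : p.Prime) (h2 : p ≠ 2) (h3 : p ≠ 3) : ¬ p ^ 2 ∣ 244823040 := by
  intro h
  have c2 : Nat.Coprime (p ^ 2) (2 ^ 10) := by
    apply Nat.Coprime.pow
    exact (Nat.coprime_primes hp Nat.prime_two).2 h2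
  have c3 : Nat.Coprime (p ^ 2) (3 ^ 3) := by
    apply Nat.Coprime.pow
    exact (Nat.coprime_primes hp Nat.prime_three).2 h3
  rw [show 244823040 = 2 ^ 10 * (3 ^ 3 * 8855) by norm_num] at h
  have h4 := c3.dvd_of_dvd_mul_left (c2.dvd_of_dvd_mul_left h)
  have h5 : p ^ 2 ≤ 8855 := Nat.le_of_dvd (by norm_num) h4
  have h6 : p < 95 := by nlinarith
  have h7 : ∀ q < 95, 2 ≤ q → ¬ q ^ 2 ∣ 8855 := by decide +kernel
  exact h7 p h6 hp.two_le h4

theorem m24_stem : StemDvd ↥M24 1 := by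
  apply StemDvd.of_forall
  intro p hp
  have fp : Fact p.Prime := ⟨hp⟩
  by_cases h2 : p = 2
  · subst h2; exact m24_two
  by_cases h3 : p = 3
  · subst h3; exact m24_three
  apply pStemDvd_of_sq
  rw [natCard_M24]
  exact num_aux hp h2 h3

theorem m23_stem : StemDvd ↥Spor.M23 1 := by
  apply StemDvd.of_forall
  intro p hp
  have fp : Fact p.Prime := ⟨hp⟩
  by_cases h2 : p = 2
  · subst h2; exact m23_two
  by_cases h3 : p = 3
  · subst h3; exact m23_three
  apply pStemDvd_of_sq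
  rw [card_M23]
  intro h
  exact num_aux hp h2 h3 (h.trans (by norm_num))

end Cfsg.Agent.Lib.H92MathieuSchur
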