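import Cfsg.Agent.Lib.H15SGam1

set_option autoImplicit false
set_option linter.all false

namespace Cfsg.Agent.Lib.H95G
open Cfsg.Agent.Lib.H15S

variable {G : Type*} [Group G]

/-- normal closure of `Ω₁ Z(S)` in `H` -/
def VV (S H : Subgroup G) : Subgroup G :=
  Subgroup.closure {x | ∃ h ∈ H, ∃ z ∈ VZ S, x = h * z * h⁻¹}

variable [Finite G]

theorem Z_le_U {S H U : Subgroup G} (h : Side S H U) (hU : U ≠ ⊥) : VZ S ≤ U := by
  intro z hz
  by_contra hzU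
  obtain ⟨k, hkH, hk3, hkU⟩ := h.k
  let N : Subgroup G :=
    { carrier := {x | x ∈ H ∧ ∃ u ∈ U, ∀ w ∈ U, x * w * x⁻¹ = u * w * u⁻¹}
      mul_mem' := by
        rintro x y ⟨hx, u, hu, h1⟩ ⟨hy, u', hu', h2⟩
        refine ⟨mul_mem hx hy, u * u', mul_mem hu hu', fun w hw => ?_⟩
        calc x * y * w * (x * y)⁻¹ = x * (y * w * y⁻¹) * x⁻¹ := by group
          _ = x * (u' * w * u'⁻¹) * x⁻¹ := by rw [h2 w hw]
          _ = u * (u' * w * u'⁻¹) * u⁻¹ := h1 _ (mul_mem (mul_mem hu' hw) (inv_mem hu'))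
          _ = u * u' * w * (u * u')⁻¹ := by group
      one_mem' := ⟨one_mem _, 1, one_mem _, fun w _ => rfl⟩
      inv_mem' := by
        rintro x ⟨hx, u, hu, h1⟩
        refine ⟨inv_mem hx, u⁻¹, inv_mem hu, fun w hw => ?_⟩
        have h2 := h1 (u⁻¹ * w * u) (mul_mem (mul_mem (inv_mem hu) hw) hu)
        have h3 : u * (u⁻¹ * w * u) * u⁻¹ = w := by group
        rw [h3] at h2
        calc x⁻¹ * w * x⁻¹⁻¹ = x⁻¹ * (x * (u⁻¹ * w * u) * x⁻¹) * x := by rw [h2, inv_inv]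
          _ = u⁻¹ * w * u⁻¹⁻¹ := by group }
  have hSN : S ≤ N := by
    intro s hs
    refine ⟨h.SH hs, ?_⟩
    by_cases hsU : s ∈ U
    · exact ⟨s, hsU, fun w _ => rfl⟩
    · refine ⟨s * z, (side_mul h hs hz.1).2 (by tauto), fun w hw => ?_⟩
      have h1 : z * w = w * z := hz.2.2 w (h.US hw)
      calc s * w * s⁻¹ = s * (w * z) * z⁻¹ * s⁻¹ := by group
        _ = s * (z * w) * z⁻¹ * s⁻¹ := by rw [h1]
        _ = s * z * w * (s * z)⁻¹ := by group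
  rcases side_big h hSN (fun x hx => hx.1) with h1 | h1
  · obtain ⟨g, hg, s, hs, hgs⟩ := h.nS
    apply hgs
    have h2 : s ∈ N := hSN hs
    obtain ⟨hsH, u, hu, h3⟩ := h2
    rw [← h1]
    refine ⟨mul_mem (mul_mem hg hsH) (inv_mem hg), g * u * g⁻¹, h.nor g hg u hu, fun w hw => ?_⟩
    have h4 := h3 (g⁻¹ * w * g) (by simpa using h.nor g⁻¹ (inv_mem hg) w hw)
    calc g * s * g⁻¹ * w * (g * s * g⁻¹)⁻¹ = g * (s * (g⁻¹ * w * g) * s⁻¹) * g⁻¹ := by group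
      _ = g * (u * (g⁻¹ * w * g) * u⁻¹) * g⁻¹ := by rw [h4]
      _ = g * u * g⁻¹ * w * (g * u * g⁻¹)⁻¹ := by group
  · have h2 : k ∈ N := by rw [h1]; exact hkH
    obtain ⟨_, u, hu, h3⟩ := h2
    have h4 := h3 u hu
    have h5 : u = 1 := by
      apply hkU u hu
      have h6 : k * u * k⁻¹ = u := by rw [h4]; group
      calc u * k = (k * u * k⁻¹) * k := by rw [h6]
        _ = k * u := by group
    apply hU
    rw [Subgroup.eq_bot_iff_forall]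
    intro w hw
    apply hkU w hw
    have h6 := h3 w hw
    rw [h5] at h6
    calc w * k = (1 * w * 1⁻¹) * k := by group
      _ = (k * w * k⁻¹) * k := by rw [h6]
      _ = k * w := by group

theorem Z_le_VV {S H : Subgroup G} : VZ S ≤ VV S H := by
  intro z hz
  exact Subgroup.subset_closure ⟨1, one_mem _, z, hz, by simp⟩

theorem VV_le {S H U : Subgroup G} (h : Side S H U) (hU : U ≠ ⊥) : VV S H ≤ VZ U := by
  unfold VV
  rw [Subgroup.closure_le]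
  rintro _ ⟨g, hg, z, hz, rfl⟩
  apply VZ_conj h hg
  exact ⟨Z_le_U h hU hz, hz.2.1, fun u hu => hz.2.2 u (h.US hu)⟩

theorem VV_conj {S H : Subgroup G} {g x : G} (hg : g ∈ H) (hx : x ∈ VV S H) :
    g * x * g⁻¹ ∈ VV S H := by
  have h1 : VV S H ≤ (VV S H).comap (MulAut.conj g).toMonoidHom := by
    conv_lhs => unfold VV
    rw [Subgroup.closure_le]
    rintro _ ⟨h, hh, z, hz, rfl⟩
    change g * (h * z * h⁻¹) * g⁻¹ ∈ VV S H
    apply Subgroup.subset_closure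
    exact ⟨g * h, mul_mem hg hh, z, hz, by group⟩
  exact h1 hx

theorem kS {S H U : Subgroup G} (h : Side S H U) (hS : IsPGroup 2 S) {k : G} (hk : k ∈ H)
    (hk3 : orderOf k = 3) : ∃ s ∈ S, k * s * k⁻¹ ∉ S := by
  by_contra hcon
  push Not at hcon
  have hkS : k ∉ S := by
    intro h1
    apply (three_ndvd h hS).2
    rw [← hk3]
    exact Subgroup.orderOf_dvd_natCard S h1
  have hk2 : k⁻¹ = k * k := by
    have : k ^ 3 = 1 := by rw [← hk3]; exact pow_orderOf_eq_one k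
    apply inv_eq_of_mul_eq_one_left
    rw [← this, pow_three']
  have hkn : k ∈ Subgroup.normalizer (S : Set G) := by
    rw [Subgroup.mem_normalizer_iff]
    intro x
    refine ⟨hcon x, fun hx => ?_⟩
    have h2 := hcon _ (hcon _ hx)
    have h3 : k * (k * (k * x * k⁻¹) * k⁻¹) * k⁻¹ = x := by
      calc k * (k * (k * x * k⁻¹) * k⁻¹) * k⁻¹ = (k * k) * k * x * ((k * k) * k)⁻¹ := by group
        _ = x := by rw [← hk2]; group
    rwa [h3] at h2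
  have hSN : S ≤ H ⊓ Subgroup.normalizer (S : Set G) :=
    le_inf h.SH Subgroup.le_normalizer
  rcases side_big h hSN inf_le_left with h1 | h1
  · apply hkS
    rw [← h1]
    exact ⟨hk, hkn⟩
  · obtain ⟨g, hg, s, hs, hgs⟩ := h.nS
    have h2 : g ∈ H ⊓ Subgroup.normalizer (S : Set G) := by rw [h1]; exact hg
    exact hgs ((Subgroup.mem_normalizer_iff.1 h2.2 s).1 hs)

theorem ZZ {S H U : Subgroup G} (h : Side S H U) (hS : IsPGroup 2 S) (hU : U ≠ ⊥) {k z : G}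
    (hk : k ∈ H) (hk3 : orderOf k = 3) (hkU : ∀ u ∈ U, u * k = k * u → u = 1)
    (hz : z ∈ VZ S) (hkz : k * z * k⁻¹ ∈ VZ S) : z = 1 := by
  obtain ⟨s, hs, hks⟩ := kS h hS hk hk3
  have hSN : S ≤ H ⊓ Subgroup.centralizer ({k * z * k⁻¹} : Set G) := by
    refine le_inf h.SH ?_
    intro t ht
    rw [Subgroup.mem_centralizer_singleton_iff]
    exact (hkz.2.2 t ht).symm
  rcases side_big h hSN inf_le_left with h1 | h1
  · exfalso
    apply hks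
    rw [← h1]
    refine ⟨H.mul_mem (H.mul_mem hk (h.SH hs)) (H.inv_mem hk), ?_⟩
    change k * s * k⁻¹ ∈ Subgroup.centralizer ({k * z * k⁻¹} : Set G)
    rw [Subgroup.mem_centralizer_singleton_iff]
    have h2 := hz.2.2 s hs
    calc k * s * k⁻¹ * (k * z * k⁻¹) = k * (s * z) * k⁻¹ := by group
      _ = k * (z * s) * k⁻¹ := by rw [h2]
      _ = k * z * k⁻¹ * (k * s * k⁻¹) := by group
  · have h2 : k ∈ H ⊓ Subgroup.centralizer ({k * z * k⁻¹} : Set G) := by rw [h1]; exact hk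
    have h3 := Subgroup.mem_centralizer_singleton_iff.1 h2.2
    have h4 := hkU _ (Z_le_U h hU hkz) h3.symm
    calc z = k⁻¹ * (k * z * k⁻¹) * k := by group
      _ = 1 := by rw [h4]; group

theorem L1 {S H U : Subgroup G} (h : Side S H U) (hS : IsPGroup 2 S) (hU : U ≠ ⊥)
    (hZ : VZ S ≠ ⊥) {x : G} (hx : x ∈ H) (hc : ∀ v ∈ VV S H, x * v = v * x) : x ∈ U := by
  by_contra hxU
  obtain ⟨k, hkH, hk3, hkU⟩ := h.k
  by_cases hxS : x ∈ S
  · have hSN : S ≤ H ⊓ Subgroup.centralizer (VV S H : Set G) := by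
      refine le_inf h.SH ?_
      intro t ht
      rw [Subgroup.mem_centralizer_iff]
      intro v hv
      by_cases htU : t ∈ U
      · exact (VV_le h hU hv).2.2 t htU
      · have h1 : t * x ∈ U := (side_mul h ht hxS).2 (by tauto)
        have h2 : Commute v (t * x) := (VV_le h hU hv).2.2 _ h1
        have h3 : Commute v x := (hc v hv).symm
        have h4 := h2.mul_right h3.inv_right
        rwa [mul_inv_cancel_right] at h4
    rcases side_big h hSN inf_le_left with h1 | h1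
    · obtain ⟨g, hg, s, hs, hgs⟩ := h.nS
      apply hgs
      rw [← h1]
      refine ⟨H.mul_mem (H.mul_mem hg (h.SH hs)) (H.inv_mem hg), ?_⟩
      change g * s * g⁻¹ ∈ Subgroup.centralizer (VV S H : Set G)
      rw [Subgroup.mem_centralizer_iff]
      intro v hv
      have h2 := Subgroup.mem_centralizer_iff.1 (hSN hs).2 (g⁻¹ * v * g)
        (by simpa using VV_conj (inv_mem hg) hv)
      calc v * (g * s * g⁻¹) = g * ((g⁻¹ * v * g) * s) * g⁻¹ := by group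
        _ = g * (s * (g⁻¹ * v * g)) * g⁻¹ := by rw [h2]
        _ = g * s * g⁻¹ * v := by group
    · have h2 : k ∈ H ⊓ Subgroup.centralizer (VV S H : Set G) := by rw [h1]; exact hkH
      apply hZ
      rw [Subgroup.eq_bot_iff_forall]
      intro z hz
      exact hkU z (Z_le_U h hU hz) (Subgroup.mem_centralizer_iff.1 h2.2 z (Z_le_VV hz))
  · let N : Subgroup G :=
      { carrier := {y | y ∈ H ∧ ∃ s ∈ S, ∀ v ∈ VV S H, y * v * y⁻¹ = s * v * s⁻¹}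
        mul_mem' := by
          rintro x y ⟨hx, u, hu, h1⟩ ⟨hy, u', hu', h2⟩
          refine ⟨mul_mem hx hy, u * u', mul_mem hu hu', fun w hw => ?_⟩
          calc x * y * w * (x * y)⁻¹ = x * (y * w * y⁻¹) * x⁻¹ := by group
            _ = x * (u' * w * u'⁻¹) * x⁻¹ := by rw [h2 w hw]
            _ = u * (u' * w * u'⁻¹) * u⁻¹ := h1 _ (VV_conj (h.SH hu') hw)
            _ = u * u' * w * (u * u')⁻¹ := by group
        one_mem' := ⟨one_mem _, 1, one_mem _, fun w _ => rfl⟩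
        inv_mem' := by
          rintro x ⟨hx, u, hu, h1⟩
          refine ⟨inv_mem hx, u⁻¹, inv_mem hu, fun w hw => ?_⟩
          have h2 := h1 (u⁻¹ * w * u) (by simpa using VV_conj (inv_mem (h.SH hu)) hw)
          have h3 : u * (u⁻¹ * w * u) * u⁻¹ = w := by group
          rw [h3] at h2
          calc x⁻¹ * w * x⁻¹⁻¹ = x⁻¹ * (x * (u⁻¹ * w * u) * x⁻¹) * x := by rw [h2, inv_inv]
            _ = u⁻¹ * w * u⁻¹⁻¹ := by group }
    have hSN : S ≤ N := fun s hs => ⟨h.SH hs, s, hs, fun w _ => rfl⟩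
    have hxN : x ∈ N := ⟨hx, 1, one_mem _, fun v hv => by rw [hc v hv]; group⟩
    rcases side_big h hSN (fun x hx => hx.1) with h1 | h1
    · exact hxS (h1 ▸ hxN)
    · have h2 : k ∈ N := by rw [h1]; exact hkH
      obtain ⟨_, s, hs, h3⟩ := h2
      apply hZ
      rw [Subgroup.eq_bot_iff_forall]
      intro z hz
      apply hkU z (Z_le_U h hU hz)
      have h4 := h3 z (Z_le_VV hz)
      have h5 := hz.2.2 s hs
      calc z * k = (s * z) * s⁻¹ * k := by rw [← h5]; group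
        _ = (k * z * k⁻¹) * k := by rw [h4]
        _ = k * z := by group

theorem L2 {S H U : Subgroup G} (h : Side S H U) (hU : U ≠ ⊥) {s v : G} (hs : s ∈ S)
    (hsU : s ∉ U) (hv : v ∈ VV S H) (hc : s * v = v * s) : v ∈ VZ S := by
  have hv' := VV_le h hU hv
  refine ⟨h.US hv'.1, hv'.2.1, fun t ht => ?_⟩
  by_cases htU : t ∈ U
  · exact hv'.2.2 t htU
  · have h1 : s * t ∈ U := (side_mul h hs ht).2 (by tauto)
    have h2 : Commute v (s * t) := hv'.2.2 _ h1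
    have h3 : Commute v s := hc.symm
    have h4 := h3.inv_right.mul_right h2
    rwa [inv_mul_cancel_left] at h4

theorem L3 {S H U : Subgroup G} (h : Side S H U) (hU : U ≠ ⊥) {s v : G} (hs : s ∈ S)
    (hsU : s ∉ U) (hv : v ∈ VV S H) : s * v * s⁻¹ * v⁻¹ ∈ VZ S := by
  have hcV : s * v * s⁻¹ * v⁻¹ ∈ VV S H := mul_mem (VV_conj (h.SH hs) hv) (inv_mem hv)
  apply L2 h hU hs hsU hcV
  have h1 : s * s ∈ U := (side_mul h hs hs).2 Iff.rfl
  have h2 : v * (s * s) = s * s * v := (VV_le h hU hv).2.2 _ h1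
  have h3 := VZ_inv (VV_le h hU hcV)
  calc s * (s * v * s⁻¹ * v⁻¹) = (s * s * v) * s⁻¹ * v⁻¹ := by group
    _ = (v * (s * s)) * s⁻¹ * v⁻¹ := by rw [h2]
    _ = (s * v * s⁻¹ * v⁻¹)⁻¹ * s := by group
    _ = (s * v * s⁻¹ * v⁻¹) * s := by rw [h3]

theorem crit {S H₁ U₁ H₂ U₂ : Subgroup G} (h1 : Side S H₁ U₁) (h2 : Side S H₂ U₂)
    (hS : IsPGroup 2 S) (hU1 : U₁ ≠ ⊥) (hU2 : U₂ ≠ ⊥) (hZ : VZ S ≠ ⊥) {g x : G}
    (hA : ∀ x ∈ VV S H₁, g⁻¹ * x * g ∈ S) (hB : ∀ y ∈ VV S H₂, g * y * g⁻¹ ∈ S)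
    (hx : x ∈ VV S H₁) (hxU : g⁻¹ * x * g ∉ U₂) :
    (∃ b, b ∈ S ∧ b ∉ U₁ ∧ ∀ w, g⁻¹ * w * g ∈ U₂ → w * b = b * w) ∧
    (∀ x' ∈ VV S H₁, x' ∈ VZ S ∨ x * x' ∈ VZ S) ∧
    (∀ z₁ ∈ VZ S, ∀ z₂ ∈ VZ S, z₁ ≠ 1 → z₂ ≠ 1 → z₁ = z₂) ∧
    (∀ z ∈ VZ S, g * z * g⁻¹ ∈ VZ S) := by
  have hy : ∃ y ∈ VV S H₂, g⁻¹ * x * g * y ≠ y * (g⁻¹ * x * g) := by
    by_contra hcon
    push Not at hcon
    exact hxU (L1 h2 hS hU2 hZ (h2.SH (hA x hx)) hcon)
  obtain ⟨y, hy, hxy⟩ := hy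
  have hbS : g * y * g⁻¹ ∈ S := hB y hy
  have hne : x * (g * y * g⁻¹) ≠ (g * y * g⁻¹) * x := by
    intro h3
    apply hxy
    calc g⁻¹ * x * g * y = g⁻¹ * (x * (g * y * g⁻¹)) * g := by group
      _ = g⁻¹ * ((g * y * g⁻¹) * x) * g := by rw [h3]
      _ = y * (g⁻¹ * x * g) := by group
  have hbU : g * y * g⁻¹ ∉ U₁ := fun h3 => hne ((VV_le h1 hU1 hx).2.2 _ h3)
  have hw : ∀ w, g⁻¹ * w * g ∈ U₂ → w * (g * y * g⁻¹) = (g * y * g⁻¹) * w := by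
    intro w hw
    have h3 := (VV_le h2 hU2 hy).2.2 _ hw
    calc w * (g * y * g⁻¹) = g * ((g⁻¹ * w * g) * y) * g⁻¹ := by group
      _ = g * (y * (g⁻¹ * w * g)) * g⁻¹ := by rw [h3]
      _ = (g * y * g⁻¹) * w := by group
  have hV : ∀ x' ∈ VV S H₁, x' ∈ VZ S ∨ x * x' ∈ VZ S := by
    intro x' hx'
    by_cases h3 : g⁻¹ * x' * g ∈ U₂
    · exact Or.inl (L2 h1 hU1 hbS hbU hx' (hw x' h3).symm)
    · right
      apply L2 h1 hU1 hbS hbU (mul_mem hx hx')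
      symm
      apply hw
      have h4 : g⁻¹ * x * g * (g⁻¹ * x' * g) ∈ U₂ :=
        (side_mul h2 (hA x hx) (hA x' hx')).2 (by tauto)
      have h5 : g⁻¹ * (x * x') * g = g⁻¹ * x * g * (g⁻¹ * x' * g) := by group
      rw [h5]; exact h4
  obtain ⟨k, hkH, hk3, hkU⟩ := h1.k
  have huniq : ∀ z₁ ∈ VZ S, ∀ z₂ ∈ VZ S, z₁ ≠ 1 → z₂ ≠ 1 → z₁ = z₂ := by
    intro z₁ hz₁ z₂ hz₂ h3 h4
    have h5 : x * (k * z₁ * k⁻¹) ∈ VZ S :=
      (hV _ (VV_conj hkH (Z_le_VV hz₁))).resolve_left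
        (fun h6 => h3 (ZZ h1 hS hU1 hkH hk3 hkU hz₁ h6))
    have h6 : x * (k * z₂ * k⁻¹) ∈ VZ S :=
      (hV _ (VV_conj hkH (Z_le_VV hz₂))).resolve_left
        (fun h6 => h4 (ZZ h1 hS hU1 hkH hk3 hkU hz₂ h6))
    have h7 : k * (z₁⁻¹ * z₂) * k⁻¹ ∈ VZ S := by
      have h8 := mul_mem (inv_mem h5) h6
      have h9 : (x * (k * z₁ * k⁻¹))⁻¹ * (x * (k * z₂ * k⁻¹)) = k * (z₁⁻¹ * z₂) * k⁻¹ := by group
      rwa [h9] at h8
    have h8 := ZZ h1 hS hU1 hkH hk3 hkU (mul_mem (inv_mem hz₁) hz₂) h7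
    exact inv_mul_eq_one.1 h8
  refine ⟨⟨_, hbS, hbU, hw⟩, hV, huniq, ?_⟩
  intro z hz
  have hc := L3 h1 hU1 hbS hbU hx
  have hc' := L3 h2 hU2 (hA x hx) hxU hy
  have hcc : g * (g⁻¹ * x * g * y * (g⁻¹ * x * g)⁻¹ * y⁻¹) * g⁻¹ =
      ((g * y * g⁻¹) * x * (g * y * g⁻¹)⁻¹ * x⁻¹)⁻¹ := by group
  by_cases hz1 : z = 1
  · rw [hz1]; simp
  · have h3 : g⁻¹ * x * g * y * (g⁻¹ * x * g)⁻¹ * y⁻¹ ≠ 1 := by
      intro h4
      apply hxy
      calc g⁻¹ * x * g * y = (g⁻¹ * x * g * y * (g⁻¹ * x * g)⁻¹ * y⁻¹) * (y * (g⁻¹ * x * g)) := by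
            group
        _ = y * (g⁻¹ * x * g) := by rw [h4, one_mul]
    rw [huniq z hz _ hc' hz1 h3, hcc]
    exact inv_mem hc

theorem exS {S H U : Subgroup G} (h : Side S H U) : ∃ s ∈ S, s ∉ U := by
  by_contra hcon
  push Not at hcon
  have h1 : U = S := le_antisymm h.US hcon
  have h2 := h.cS
  rw [h1] at h2
  have : 0 < Nat.card S := Nat.card_pos
  omega

theorem L5 {S H U : Subgroup G} (h : Side S H U) (hU : U ≠ ⊥)
    (hu : ∀ z₁ ∈ VZ S, ∀ z₂ ∈ VZ S, z₁ ≠ 1 → z₂ ≠ 1 → z₁ = z₂) {v w : G}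
    (hv : v ∈ VV S H) (hw : w ∈ VV S H) (hvZ : v ∉ VZ S) (hwZ : w ∉ VZ S) : v * w ∈ VZ S := by
  obtain ⟨s, hs, hsU⟩ := exS h
  have key : ∀ a ∈ VV S H, a ∉ VZ S → s * a * s⁻¹ * a⁻¹ ≠ 1 := by
    intro a ha haZ h1
    apply haZ
    apply L2 h hU hs hsU ha
    calc s * a = (s * a * s⁻¹ * a⁻¹) * (a * s) := by group
      _ = a * s := by rw [h1, one_mul]
  have h1 := hu _ (L3 h hU hs hsU hv) _ (L3 h hU hs hsU hw) (key v hv hvZ) (key w hw hwZ)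
  have hcZ := L3 h hU hs hsU hw
  have hcc : (s * w * s⁻¹ * w⁻¹) * (s * w * s⁻¹ * w⁻¹) = 1 := VZ_sq1 hcZ
  have hcv : (s * w * s⁻¹ * w⁻¹) * v = v * (s * w * s⁻¹ * w⁻¹) :=
    hcZ.2.2 v (h.US (VV_le h hU hv).1)
  apply L2 h hU hs hsU (mul_mem hv hw)
  calc s * (v * w) = (s * v * s⁻¹ * v⁻¹) * v * ((s * w * s⁻¹ * w⁻¹) * w) * s := by group
    _ = (s * w * s⁻¹ * w⁻¹) * v * ((s * w * s⁻¹ * w⁻¹) * w) * s := by rw [h1]
    _ = ((s * w * s⁻¹ * w⁻¹) * v) * (s * w * s⁻¹ * w⁻¹) * w * s := by group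
    _ = (v * (s * w * s⁻¹ * w⁻¹)) * (s * w * s⁻¹ * w⁻¹) * w * s := by rw [hcv]
    _ = v * ((s * w * s⁻¹ * w⁻¹) * (s * w * s⁻¹ * w⁻¹)) * w * s := by group
    _ = v * w * s := by rw [hcc, mul_one]


theorem claim {S H₁ U₁ H₂ U₂ H₃ U₃ : Subgroup G} (h1 : Side S H₁ U₁) (h2 : Side S H₂ U₂)
    (h3 : Side S H₃ U₃)
    (hS : IsPGroup 2 S) (hU1 : U₁ ≠ ⊥) (hU2 : U₂ ≠ ⊥) (hU3 : U₃ ≠ ⊥) (hZ : VZ S ≠ ⊥)
    (h31 : VV S H₃ ≤ U₁) {g x κ : G}
    (hA : ∀ x ∈ VV S H₁, g⁻¹ * x * g ∈ S) (hB : ∀ y ∈ VV S H₂, g * y * g⁻¹ ∈ S)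
    (hx : x ∈ VV S H₁) (hxU : g⁻¹ * x * g ∉ U₂) (hκ : κ ∈ H₁) (hκ3 : orderOf κ = 3)
    (hκU : ∀ u ∈ U₁, u * κ = κ * u → u = 1)
    (hyp : ∀ y ∈ VV S H₃, g⁻¹ * (κ * y * κ⁻¹) * g ∈ S) : VV S H₃ = VV S H₁ := by
  obtain ⟨⟨b, hbS, hbU, hbw⟩, hV, huniq, hgZ⟩ := crit h1 h2 hS hU1 hU2 hZ hA hB hx hxU
  obtain ⟨z, hz, hz1⟩ : ∃ z ∈ VZ S, z ≠ 1 := (VZ S).bot_or_exists_ne_one.resolve_left hZ
  obtain ⟨k', hk'H, hk'3, hk'U⟩ := h3.k
  have hy₀V : k' * z * k'⁻¹ ∈ VV S H₃ := VV_conj hk'H (Z_le_VV hz)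
  have hy₀Z : k' * z * k'⁻¹ ∉ VZ S := fun h => hz1 (ZZ h3 hS hU3 hk'H hk'3 hk'U hz h)
  have hzκV : κ * z * κ⁻¹ ∈ VV S H₁ := VV_conj hκ (Z_le_VV hz)
  have hzκZ : κ * z * κ⁻¹ ∉ VZ S := fun h => hz1 (ZZ h1 hS hU1 hκ hκ3 hκU hz h)
  have hxz := (hV _ hzκV).resolve_left hzκZ
  have hZU : ∀ z'' ∈ VZ S, g⁻¹ * z'' * g ∈ U₂ := by
    intro z'' hz''
    apply L1 h2 hS hU2 hZ (h2.SH (hA _ (Z_le_VV hz'')))
    intro v hv
    have h5 := hz''.2.2 _ (hB v hv)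
    calc g⁻¹ * z'' * g * v = g⁻¹ * (z'' * (g * v * g⁻¹)) * g := by group
      _ = g⁻¹ * ((g * v * g⁻¹) * z'') * g := by rw [h5]
      _ = v * (g⁻¹ * z'' * g) := by group
  have hzκU : g⁻¹ * (κ * z * κ⁻¹) * g ∉ U₂ := by
    intro h5
    have h6 := hZU _ hxz
    apply hxU
    have h7 : g⁻¹ * (x * (κ * z * κ⁻¹)) * g * (g⁻¹ * (κ * z * κ⁻¹) * g)⁻¹ = g⁻¹ * x * g := by group
    rw [← h7]
    exact mul_mem h6 (inv_mem h5)
  have hw₀ : ∃ w₀ ∈ VV S H₃, w₀ ∉ VZ S ∧ g⁻¹ * (κ * w₀ * κ⁻¹) * g ∈ U₂ := by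
    by_cases h5 : g⁻¹ * (κ * (k' * z * k'⁻¹) * κ⁻¹) * g ∈ U₂
    · exact ⟨_, hy₀V, hy₀Z, h5⟩
    · refine ⟨z * (k' * z * k'⁻¹), mul_mem (Z_le_VV hz) hy₀V, ?_, ?_⟩
      · intro h6
        apply hy₀Z
        have h7 := mul_mem (inv_mem hz) h6
        rwa [inv_mul_cancel_left] at h7
      · have h6 : g⁻¹ * (κ * (z * (k' * z * k'⁻¹)) * κ⁻¹) * g =
            (g⁻¹ * (κ * z * κ⁻¹) * g) * (g⁻¹ * (κ * (k' * z * k'⁻¹) * κ⁻¹) * g) := by group
        rw [h6]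
        exact (side_mul h2 (hA _ hzκV) (hyp _ hy₀V)).2 (by tauto)
  obtain ⟨w₀, hw₀V, hw₀Z, hw₀U⟩ := hw₀
  have hwb := hbw _ hw₀U
  let N : Subgroup G :=
    { carrier := {t | t ∈ H₁ ∧ ∃ v ∈ VV S H₁, t * w₀ * t⁻¹ = w₀ * v}
      mul_mem' := by
        rintro a c ⟨ha, v, hv, h5⟩ ⟨hc, v', hv', h6⟩
        refine ⟨mul_mem ha hc, v * (a * v' * a⁻¹), mul_mem hv (VV_conj ha hv'), ?_⟩
        calc a * c * w₀ * (a * c)⁻¹ = a * (c * w₀ * c⁻¹) * a⁻¹ := by group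
          _ = a * (w₀ * v') * a⁻¹ := by rw [h6]
          _ = (a * w₀ * a⁻¹) * (a * v' * a⁻¹) := by group
          _ = w₀ * v * (a * v' * a⁻¹) := by rw [h5]
          _ = w₀ * (v * (a * v' * a⁻¹)) := by group
      one_mem' := ⟨one_mem _, 1, one_mem _, by simp⟩
      inv_mem' := by
        rintro a ⟨ha, v, hv, h5⟩
        refine ⟨inv_mem ha, (a⁻¹ * v * a)⁻¹, inv_mem ?_, ?_⟩
        · simpa using VV_conj (inv_mem ha) hv
        · calc a⁻¹ * w₀ * a⁻¹⁻¹ = a⁻¹ * (w₀ * v) * a * (a⁻¹ * v * a)⁻¹ := by group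
            _ = a⁻¹ * (a * w₀ * a⁻¹) * a * (a⁻¹ * v * a)⁻¹ := by rw [h5]
            _ = w₀ * (a⁻¹ * v * a)⁻¹ := by group }
  have hSN : S ≤ N := by
    intro s hs
    refine ⟨h1.SH hs, w₀⁻¹ * (s * w₀ * s⁻¹), ?_, by group⟩
    have h5 : s * w₀ * s⁻¹ ∉ VZ S := by
      intro h6
      apply hw₀Z
      have h7 := h6.2.2 s hs
      have h8 : w₀ = s * w₀ * s⁻¹ := by
        calc w₀ = s⁻¹ * ((s * w₀ * s⁻¹) * s) := by group
          _ = s⁻¹ * (s * (s * w₀ * s⁻¹)) := by rw [h7]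
          _ = s * w₀ * s⁻¹ := by group
      rw [h8]; exact h6
    have h6 : w₀⁻¹ ∉ VZ S := fun h7 => hw₀Z (by simpa using inv_mem h7)
    exact Z_le_VV (L5 h3 hU3 huniq (inv_mem hw₀V) (VV_conj (h3.SH hs) hw₀V) h6 h5)
  have hbN : κ⁻¹ * b * κ ∈ N := by
    refine ⟨mul_mem (mul_mem (inv_mem hκ) (h1.SH hbS)) hκ, 1, one_mem _, ?_⟩
    calc κ⁻¹ * b * κ * w₀ * (κ⁻¹ * b * κ)⁻¹ = κ⁻¹ * (b * (κ * w₀ * κ⁻¹)) * b⁻¹ * κ := by group
      _ = κ⁻¹ * ((κ * w₀ * κ⁻¹) * b) * b⁻¹ * κ := by rw [hwb]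
      _ = w₀ * 1 := by group
  have hbS' : κ⁻¹ * b * κ ∉ S := by
    intro h5
    obtain ⟨s, hs, hks⟩ := kS h1 hS (inv_mem hκ) (by rw [orderOf_inv]; exact hκ3)
    apply hks
    rw [inv_inv]
    by_cases hsU : s ∈ U₁
    · exact h1.US (by simpa using h1.nor _ (inv_mem hκ) s hsU)
    · have h6 : b * s ∈ U₁ := (side_mul h1 hbS hs).2 (by tauto)
      have h7 : κ⁻¹ * (b * s) * κ ∈ U₁ := by simpa using h1.nor _ (inv_mem hκ) _ h6
      have h8 : κ⁻¹ * s * κ = (κ⁻¹ * b * κ)⁻¹ * (κ⁻¹ * (b * s) * κ) := by group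
      rw [h8]
      exact mul_mem (inv_mem h5) (h1.US h7)
  have hNH : N = H₁ := by
    rcases side_big h1 hSN (fun x hx => hx.1) with h5 | h5
    · exact absurd (h5 ▸ hbN) hbS'
    · exact h5
  have hκN : κ ∈ N := by rw [hNH]; exact hκ
  obtain ⟨_, v, hv, hκw⟩ := hκN
  -- fixed point
  let f : VV S H₁ → VV S H₁ := fun a => ⟨a.1 * (κ * a.1 * κ⁻¹)⁻¹,
    mul_mem a.2 (inv_mem (VV_conj hκ a.2))⟩
  have hf : Function.Injective f := by
    rintro ⟨a, ha⟩ ⟨c, hc⟩ hac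
    have h5 : a * (κ * a * κ⁻¹)⁻¹ = c * (κ * c * κ⁻¹)⁻¹ := congrArg Subtype.val hac
    have h6 : c⁻¹ * a ∈ U₁ := mul_mem (inv_mem (VV_le h1 hU1 hc).1) (VV_le h1 hU1 ha).1
    have h7 : c⁻¹ * a = κ * (c⁻¹ * a) * κ⁻¹ := by
      have h8 : (c⁻¹ * a) * (κ * a * κ⁻¹)⁻¹ = (κ * a * κ⁻¹)⁻¹ * (c⁻¹ * a) :=
        ((VV_le h1 hU1 (mul_mem (inv_mem hc) ha)).2.2 _
          (inv_mem (VV_le h1 hU1 (VV_conj hκ ha)).1))
      have h9 : c⁻¹ * (a * (κ * a * κ⁻¹)⁻¹) = (κ * c * κ⁻¹)⁻¹ := by rw [h5]; group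
      calc c⁻¹ * a = (κ * a * κ⁻¹) * ((κ * a * κ⁻¹)⁻¹ * (c⁻¹ * a)) := by group
        _ = (κ * a * κ⁻¹) * ((c⁻¹ * a) * (κ * a * κ⁻¹)⁻¹) := by rw [h8]
        _ = (κ * a * κ⁻¹) * (c⁻¹ * (a * (κ * a * κ⁻¹)⁻¹)) := by group
        _ = (κ * a * κ⁻¹) * (κ * c * κ⁻¹)⁻¹ := by rw [h9]
        _ = (κ * c * κ⁻¹)⁻¹ * (κ * a * κ⁻¹) :=
            (VV_le h1 hU1 (VV_conj hκ ha)).2.2 _ (inv_mem (VV_le h1 hU1 (VV_conj hκ hc)).1)
        _ = κ * (c⁻¹ * a) * κ⁻¹ := by group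
    have h8 : c⁻¹ * a = 1 := by
      apply hκU _ h6
      calc c⁻¹ * a * κ = (κ * (c⁻¹ * a) * κ⁻¹) * κ := by rw [← h7]
        _ = κ * (c⁻¹ * a) := by group
    apply Subtype.ext
    exact (inv_mul_eq_one.1 h8).symm
  obtain ⟨⟨v', hv'⟩, hfv⟩ := (Finite.surjective_of_injective hf) ⟨v, hv⟩
  have hvv : v' * (κ * v' * κ⁻¹)⁻¹ = v := congrArg Subtype.val hfv
  have hfix : w₀ * v' = 1 := by
    apply hκU _ (mul_mem (h31 hw₀V) (VV_le h1 hU1 hv').1)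
    have h5 : κ * (w₀ * v') * κ⁻¹ = w₀ * v' := by
      calc κ * (w₀ * v') * κ⁻¹ = (κ * w₀ * κ⁻¹) * (κ * v' * κ⁻¹) := by group
        _ = w₀ * v * (κ * v' * κ⁻¹) := by rw [hκw]
        _ = w₀ * v' := by rw [← hvv]; group
    calc w₀ * v' * κ = (κ * (w₀ * v') * κ⁻¹) * κ := by rw [h5]
      _ = κ * (w₀ * v') := by group
  have hw₀1 : w₀ ∈ VV S H₁ := by
    rw [mul_eq_one_iff_eq_inv.1 hfix]
    exact inv_mem hv'
  apply le_antisymm
  · intro y hy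
    by_cases hyZ : y ∈ VZ S
    · exact Z_le_VV hyZ
    · have h5 := L5 h3 hU3 huniq hy hw₀V hyZ hw₀Z
      have h6 := mul_mem (Z_le_VV h5 : y * w₀ ∈ VV S H₁) (inv_mem hw₀1)
      rwa [mul_inv_cancel_right] at h6
  · intro y hy
    by_cases hyZ : y ∈ VZ S
    · exact Z_le_VV hyZ
    · have h5 := L5 h1 hU1 huniq hy hw₀1 hyZ hw₀Z
      have h6 := mul_mem (Z_le_VV h5 : y * w₀ ∈ VV S H₃) (inv_mem hw₀V)
      rwa [mul_inv_cancel_right] at h6


theorem sqD {S H₁ U₁ H₂ U₂ : Subgroup G} (h1 : Side S H₁ U₁) (h2 : Side S H₂ U₂)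
    (hU1 : U₁ ≠ ⊥) {x u : G} (hx : x ∈ VV S H₁) (hxU : x ∉ U₂) (hu : u ∈ U₁) :
    ∃ d, d ∈ U₁ ∧ d ∈ U₂ ∧ u * u = d * d := by
  have hx' := VV_le h1 hU1 hx
  by_cases h3 : u ∈ U₂
  · exact ⟨u, hu, h3, rfl⟩
  · refine ⟨x * u, mul_mem hx'.1 hu, (side_mul h2 (h1.US hx'.1) (h1.US hu)).2 (by tauto), ?_⟩
    have h4 := hx'.2.2 u hu
    calc u * u = (x * x) * (u * u) := by rw [VZ_sq1 hx', one_mul]
      _ = x * (x * u) * u := by group
      _ = x * (u * x) * u := by rw [h4]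
      _ = x * u * (x * u) := by group

theorem step1 {S H₁ U₁ H₂ U₂ : Subgroup G} (h1 : Side S H₁ U₁) (h2 : Side S H₂ U₂)
    (hS : IsPGroup 2 S) (hU1 : U₁ ≠ ⊥) (hU2 : U₂ ≠ ⊥) (hZ : VZ S ≠ ⊥) {x : G}
    (hx : x ∈ VV S H₁) (hxU : x ∉ U₂)
    (hNC : ∀ T : Subgroup G, T ≠ ⊥ → T ≤ S → (∀ g ∈ H₁, ∀ t ∈ T, g * t * g⁻¹ ∈ T) →
      (∀ g ∈ H₂, ∀ t ∈ T, g * t * g⁻¹ ∈ T) → False) : Nat.card S ≤ 8 := by
  have hx' := VV_le h1 hU1 hx
  have hxS := h1.US hx'.1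
  obtain ⟨y, hy, hyU⟩ : ∃ y ∈ VV S H₂, y ∉ U₁ := by
    by_contra hcon
    push Not at hcon
    exact hxU (L1 h2 hS hU2 hZ (h2.SH hxS) (fun v hv => hx'.2.2 v (hcon v hv)))
  have hy' := VV_le h2 hU2 hy
  have hyS := h2.US hy'.1
  obtain ⟨_, _, huniq, _⟩ := crit h1 h2 hS hU1 hU2 hZ (g := 1) (x := x)
    (fun v hv => by simpa using h1.US (VV_le h1 hU1 hv).1)
    (fun v hv => by simpa using h2.US (VV_le h2 hU2 hv).1) hx (by simpa using hxU)
  let T : Subgroup G := Subgroup.closure {a | ∃ u ∈ U₁, a = u * u}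
  have hTS : T ≤ S := by
    apply (Subgroup.closure_le _).2
    rintro _ ⟨u, hu, rfl⟩
    exact mul_mem (h1.US hu) (h1.US hu)
  have hT1 : ∀ g ∈ H₁, ∀ t ∈ T, g * t * g⁻¹ ∈ T := by
    intro g hg t ht
    have h3 : T ≤ T.comap (MulAut.conj g).toMonoidHom := by
      apply (Subgroup.closure_le _).2
      rintro _ ⟨u, hu, rfl⟩
      change g * (u * u) * g⁻¹ ∈ T
      exact Subgroup.subset_closure ⟨g * u * g⁻¹, h1.nor g hg u hu, by group⟩
    exact h3 ht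
  have hT2 : ∀ g ∈ H₂, ∀ t ∈ T, g * t * g⁻¹ ∈ T := by
    intro g hg t ht
    have h3 : T ≤ T.comap (MulAut.conj g).toMonoidHom := by
      apply (Subgroup.closure_le _).2
      rintro _ ⟨u, hu, rfl⟩
      obtain ⟨d, hd1, hd2, hd⟩ := sqD h1 h2 hU1 hx hxU hu
      change g * (u * u) * g⁻¹ ∈ T
      obtain ⟨d', hd1', hd2', hd'⟩ := sqD h2 h1 hU2 hy hyU (h2.nor g hg d hd2)
      apply Subgroup.subset_closure
      refine ⟨d', hd2', ?_⟩
      rw [hd, ← hd']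
      group
    exact h3 ht
  have hTb : T = ⊥ := by
    by_contra h3
    exact hNC T h3 hTS hT1 hT2
  have hsq : ∀ u ∈ U₁, u * u = 1 := by
    intro u hu
    have h3 : u * u ∈ T := Subgroup.subset_closure ⟨u, hu, rfl⟩
    rw [hTb] at h3
    exact Subgroup.mem_bot.1 h3
  have hcomm : ∀ a ∈ U₁, ∀ c ∈ U₁, a * c = c * a := by
    intro a ha c hc
    have h3 := hsq _ (mul_mem ha hc)
    have h4 := hsq a ha
    have h5 := hsq c hc
    calc a * c = a * (a * c * (a * c)) * c := by rw [h3]; group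
      _ = (a * a) * (c * a) * (c * c) := by group
      _ = c * a := by rw [h4, h5]; group
  have hD : ∀ d ∈ U₁, d ∈ U₂ → d ∈ VZ S := by
    intro d hd1 hd2
    refine ⟨h1.US hd1, by rw [sq]; exact hsq d hd1, fun s hs => ?_⟩
    by_cases hsU : s ∈ U₁
    · exact hcomm d hd1 s hsU
    · have h3 : y * s ∈ U₁ := (side_mul h1 hyS hs).2 (by tauto)
      have h4 : Commute d (y * s) := hcomm d hd1 _ h3
      have h5 : Commute d y := (hy'.2.2 d hd2).symm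
      have h6 := h5.inv_right.mul_right h4
      rwa [inv_mul_cancel_left] at h6
  obtain ⟨z, hz, hz1⟩ : ∃ z ∈ VZ S, z ≠ 1 := (VZ S).bot_or_exists_ne_one.resolve_left hZ
  classical
  let F : Finset G := (Finset.univ : Finset (Fin 2 × Fin 2 × Fin 2)).image
    (fun t => y ^ (t.1 : ℕ) * x ^ (t.2.1 : ℕ) * z ^ (t.2.2 : ℕ))
  have hZF : ∀ d ∈ VZ S, ∃ c : Fin 2, d = z ^ (c : ℕ) := by
    intro d hd
    by_cases h3 : d = 1
    · exact ⟨0, by simpa using h3⟩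
    · exact ⟨1, by simpa using huniq d hd z hz h3 hz1⟩
  have hUF : ∀ u ∈ U₁, ∃ b c : Fin 2, u = x ^ (b : ℕ) * z ^ (c : ℕ) := by
    intro u hu
    by_cases h3 : u ∈ U₂
    · obtain ⟨c, hc⟩ := hZF u (hD u hu h3)
      exact ⟨0, c, by simpa using hc⟩
    · have h4 : x * u ∈ U₂ := (side_mul h2 hxS (h1.US hu)).2 (by tauto)
      obtain ⟨c, hc⟩ := hZF _ (hD _ (mul_mem hx'.1 hu) h4)
      refine ⟨1, c, ?_⟩
      rw [← hc]
      simp only [Fin.val_one, pow_one]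
      rw [← mul_assoc, VZ_sq1 hx', one_mul]
  have hSF : (S : Set G) ⊆ (F : Set G) := by
    intro s hs
    by_cases h3 : s ∈ U₁
    · obtain ⟨b, c, hbc⟩ := hUF s h3
      refine Finset.mem_coe.2 (Finset.mem_image.2 ⟨(0, b, c), Finset.mem_univ _, ?_⟩)
      simp [hbc]
    · have h4 : y * s ∈ U₁ := (side_mul h1 hyS hs).2 (by tauto)
      obtain ⟨b, c, hbc⟩ := hUF _ h4
      refine Finset.mem_coe.2 (Finset.mem_image.2 ⟨(1, b, c), Finset.mem_univ _, ?_⟩)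
      simp only [Fin.val_one, pow_one]
      rw [mul_assoc, ← hbc, ← mul_assoc, VZ_sq1 hy', one_mul]
  have h5 : (S : Set G).ncard ≤ (F : Set G).ncard := Set.ncard_le_ncard hSF (Set.toFinite _)
  rw [Set.ncard_coe_finset] at h5
  have h6 : F.card ≤ 8 := by
    refine Finset.card_image_le.trans ?_
    simp
  exact h5.trans h6

/-- walks -/
inductive Wk (H : Bool → Subgroup G) : ℕ → Bool → Bool → G → Prop
  | nil (i : Bool) : Wk H 0 i (!i) 1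
  | cons {n : ℕ} {i j : Bool} {g h : G} : Wk H n (!i) j g → h ∈ H (!i) → Wk H (n + 1) i j (h * g)

theorem Wk.snoc {H : Bool → Subgroup G} {n : ℕ} {i j : Bool} {g h : G} (hw : Wk H n i j g)
    (hh : h ∈ H j) : Wk H (n + 1) i (!j) (g * h) := by
  induction hw with
  | nil i =>
    have h1 : Wk H (0 + 1) i (!(!i)) (h * 1) := Wk.cons (Wk.nil (!i)) hh
    rw [mul_one] at h1
    rw [one_mul]
    exact h1
  | cons hw hk ih =>
    rw [mul_assoc]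
    exact Wk.cons (ih hh) hk

theorem Wk.inv {H : Bool → Subgroup G} {n : ℕ} {i j : Bool} {g : G} (hw : Wk H n i j g) :
    Wk H n j i g⁻¹ := by
  induction hw with
  | nil i =>
    have h1 := Wk.nil (H := H) (!i)
    rwa [Bool.not_not, ← inv_one] at h1
  | cons hw hk ih =>
    have h1 := ih.snoc (inv_mem hk)
    rw [Bool.not_not, ← mul_inv_rev] at h1
    exact h1


theorem Gam {S H₁ H₂ U₁ U₂ : Subgroup G} (hS : IsPGroup 2 S) (h1 : Side S H₁ U₁)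
    (h2 : Side S H₂ U₂)
    (hNC : ∀ T : Subgroup G, T ≠ ⊥ → T ≤ S → (∀ g ∈ H₁, ∀ t ∈ T, g * t * g⁻¹ ∈ T) →
      (∀ g ∈ H₂, ∀ t ∈ T, g * t * g⁻¹ ∈ T) → False) : Nat.card S ≤ 8 := by
  by_cases hU1 : U₁ = ⊥
  · rw [h1.cS, hU1]; simp
  by_cases hU2 : U₂ = ⊥
  · rw [h2.cS, hU2]; simp
  have hSb : S ≠ ⊥ := by
    intro h3
    have h4 := h1.cS
    rw [h3, Subgroup.card_bot] at h4
    omega
  have hZ : VZ S ≠ ⊥ := VZ_ne_bot hS hSb
  by_cases c1 : VV S H₁ ≤ U₂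
  swap
  · obtain ⟨x, hx, hxU⟩ := SetLike.not_le_iff_exists.1 c1
    exact step1 h1 h2 hS hU1 hU2 hZ hx hxU hNC
  by_cases c2 : VV S H₂ ≤ U₁
  swap
  · obtain ⟨x, hx, hxU⟩ := SetLike.not_le_iff_exists.1 c2
    exact step1 h2 h1 hS hU2 hU1 hZ hx hxU (fun T a b c d => hNC T a b d c)
  exfalso
  let H : Bool → Subgroup G := fun i => if i then H₂ else H₁
  let U : Bool → Subgroup G := fun i => if i then U₂ else U₁
  have hs : ∀ i, Side S (H i) (U i) := by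
    intro i
    cases i
    · exact h1
    · exact h2
  have hUb : ∀ i, U i ≠ ⊥ := by
    intro i
    cases i
    · exact hU1
    · exact hU2
  have hb : ∀ i, VV S (H i) ≤ U (!i) := by
    intro i
    cases i
    · exact c1
    · exact c2
  have hVS : ∀ i, VV S (H i) ≤ S := fun i v hv => (hs i).US (VV_le (hs i) (hUb i) hv).1
  obtain ⟨z, hz, hz1⟩ : ∃ z ∈ VZ S, z ≠ 1 := (VZ S).bot_or_exists_ne_one.resolve_left hZ
  have hVne : ∀ i, VV S (H i) ≠ ⊥ := by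
    intro i h3
    apply hz1
    have h4 : z ∈ VV S (H i) := Z_le_VV hz
    rw [h3] at h4
    exact Subgroup.mem_bot.1 h4
  have hne : ∀ i, VV S (H (!i)) ≠ VV S (H i) := by
    have h3 : VV S H₁ ≠ VV S H₂ := by
      intro h4
      refine hNC (VV S H₁) (hVne false) (hVS false) (fun g hg t ht => VV_conj hg ht) ?_
      rw [h4]
      exact fun g hg t ht => VV_conj hg ht
    intro i
    cases i
    · exact h3.symm
    · exact h3
  have Q : ∀ n i j g, Wk H n i j g → ∀ x ∈ VV S (H i), g⁻¹ * x * g ∈ U j := by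
    intro n
    induction n with
    | zero =>
      intro i j g hw x hx
      cases hw
      simpa using hb i hx
    | succ n ih =>
      have dec : ∀ i j g, Wk H (n + 1) i j g → ∃ g₂ h', h' ∈ H (!j) ∧ Wk H n i (!j) g₂ ∧
          g = g₂ * h'⁻¹ := by
        intro i j g hw
        have h3 := hw.inv
        generalize hg' : g⁻¹ = g' at h3
        cases h3 with
        | @cons _ _ _ g₁ h hw₁ hh =>
          refine ⟨g₁⁻¹, h, hh, hw₁.inv, ?_⟩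
          rw [← mul_inv_rev, ← hg', inv_inv]
      have star : ∀ i j g, Wk H (n + 1) i j g → ∀ x ∈ VV S (H i), g⁻¹ * x * g ∈ S := by
        intro i j g hw x hx
        obtain ⟨g₂, h', hh', hw₂, rfl⟩ := dec i j g hw
        have h3 := ih _ _ _ hw₂ x hx
        have h4 := (hs (!j)).nor h' hh' _ h3
        have h5 : (g₂ * h'⁻¹)⁻¹ * x * (g₂ * h'⁻¹) = h' * (g₂⁻¹ * x * g₂) * h'⁻¹ := by group
        rw [h5]
        exact (hs (!j)).US h4
      have star' : ∀ i j g, Wk H (n + 1) i j g → ∀ y ∈ VV S (H j), g * y * g⁻¹ ∈ S := by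
        intro i j g hw y hy
        have h3 := star _ _ _ hw.inv y hy
        rwa [inv_inv] at h3
      intro i j g hw x hx
      by_contra hxU
      obtain ⟨g₂, h', hh', hw₂, hg⟩ := dec i j g hw
      have hcr := crit (hs i) (hs j) hS (hUb i) (hUb j) hZ (star _ _ _ hw) (star' _ _ _ hw) hx hxU
      have huniq := hcr.2.2.1
      have main : ∀ κ ∈ H i, orderOf κ = 3 → (∀ u ∈ U i, u * κ = κ * u → u = 1) →
          (κ⁻¹ * g₂) * z * (κ⁻¹ * g₂)⁻¹ = z := by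
        intro κ hκ hκ3 hκU
        have hwκ : Wk H (n + 1) (!i) (!j) (κ⁻¹ * g₂) := by
          apply Wk.cons
          · rw [Bool.not_not]; exact hw₂
          · rw [Bool.not_not]; exact inv_mem hκ
        have hex : ∃ y ∈ VV S (H (!i)), (κ⁻¹ * g₂)⁻¹ * y * (κ⁻¹ * g₂) ∉ U (!j) := by
          by_contra hcon
          push Not at hcon
          apply hne i
          refine claim (hs i) (hs j) (hs (!i)) hS (hUb i) (hUb j) (hUb _) hZ ?_
            (star _ _ _ hw) (star' _ _ _ hw) hx hxU hκ hκ3 hκU ?_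
          · have h3 := hb (!i)
            rwa [Bool.not_not] at h3
          · intro y hy
            have h3 := (hs (!j)).nor h' hh' _ (hcon y hy)
            have h4 : g⁻¹ * (κ * y * κ⁻¹) * g =
                h' * ((κ⁻¹ * g₂)⁻¹ * y * (κ⁻¹ * g₂)) * h'⁻¹ := by rw [hg]; group
            rw [h4]
            exact (hs (!j)).US h3
        obtain ⟨y, hy, hyU⟩ := hex
        have hcr' := crit (hs (!i)) (hs (!j)) hS (hUb _) (hUb _) hZ (star _ _ _ hwκ)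
          (star' _ _ _ hwκ) hy hyU
        have h3 := hcr'.2.2.2 z hz
        refine huniq _ h3 z hz ?_ hz1
        intro h4
        apply hz1
        calc z = (κ⁻¹ * g₂)⁻¹ * ((κ⁻¹ * g₂) * z * (κ⁻¹ * g₂)⁻¹) * (κ⁻¹ * g₂) := by group
          _ = 1 := by rw [h4]; group
      obtain ⟨k, hkH, hk3, hkU⟩ := (hs i).k
      have e1 := main k hkH hk3 hkU
      have e2 := main k⁻¹ (inv_mem hkH) (by rw [orderOf_inv]; exact hk3) (by
        intro u hu h3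
        apply hkU u hu
        calc u * k = k * (k⁻¹ * u) * k := by group
          _ = k * (u * k⁻¹) * k := by rw [h3]
          _ = k * u := by group)
      rw [inv_inv] at e2
      have hk2 : k * k * k = 1 := by
        rw [← pow_three', ← hk3]; exact pow_orderOf_eq_one k
      have e3 : g₂ * z * g₂⁻¹ = k * z * k⁻¹ := by
        calc g₂ * z * g₂⁻¹ = k * ((k⁻¹ * g₂) * z * (k⁻¹ * g₂)⁻¹) * k⁻¹ := by group
          _ = k * z * k⁻¹ := by rw [e1]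
      have e4 : k * (k * z * k⁻¹) * k⁻¹ = z := by
        calc k * (k * z * k⁻¹) * k⁻¹ = k * (g₂ * z * g₂⁻¹) * k⁻¹ := by rw [e3]
          _ = (k * g₂) * z * (k * g₂)⁻¹ := by group
          _ = z := e2
      apply hz1
      apply hkU z (Z_le_U (hs i) (hUb i) hz)
      calc z * k = (k * k * k) * z * ((k * k * k)⁻¹ * k) := by rw [hk2]; group
        _ = k * (k * (k * z * k⁻¹) * k⁻¹) := by group
        _ = k * z := by rw [e4]
  -- the normal closure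
  let M : Subgroup G := Subgroup.closure ((H₁ : Set G) ∪ H₂)
  have hR : ∀ g ∈ M, ∃ n i, Wk H n i false g := by
    have hstep : ∀ c : Bool, ∀ h ∈ H c, ∀ g, (∃ n i, Wk H n i false g) →
        ∃ n i, Wk H n i false (h * g) := by
      rintro c h hh g ⟨n, i, hw⟩
      by_cases hci : c = i
      · subst hci
        refine ⟨n + 1, !c, ?_⟩
        apply Wk.cons
        · rw [Bool.not_not]; exact hw
        · rw [Bool.not_not]; exact hh
      · have hci' : c = !i := by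
          cases c <;> cases i <;> simp_all
        have hw2 : Wk H (n + 1) (!i) false (1 * g) := by
          apply Wk.cons
          · rw [Bool.not_not]; exact hw
          · exact one_mem _
        rw [one_mul] at hw2
        refine ⟨n + 1 + 1, i, Wk.cons hw2 ?_⟩
        rw [← hci']; exact hh
    intro g hg
    induction hg using Subgroup.closure_induction_left with
    | one => exact ⟨0, true, Wk.nil true⟩
    | mul_left x hx y hy ih =>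
      rcases hx with hx | hx
      · exact hstep false x hx y ih
      · exact hstep true x hx y ih
    | inv_mul_cancel x hx y hy ih =>
      rcases hx with hx | hx
      · exact hstep false _ (inv_mem hx) y ih
      · exact hstep true _ (inv_mem hx) y ih
  let T : Subgroup G := Subgroup.closure {a | ∃ g ∈ M, ∃ v ∈ VV S H₁, a = g * v * g⁻¹}
  have hTM : ∀ g ∈ M, ∀ t ∈ T, g * t * g⁻¹ ∈ T := by
    intro g hg t ht
    have h3 : T ≤ T.comap (MulAut.conj g).toMonoidHom := by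
      apply (Subgroup.closure_le _).2
      rintro _ ⟨u, hu, v, hv, rfl⟩
      change g * (u * v * u⁻¹) * g⁻¹ ∈ T
      exact Subgroup.subset_closure ⟨g * u, mul_mem hg hu, v, hv, by group⟩
    exact h3 ht
  refine hNC T ?_ ?_ (fun g hg => hTM g (Subgroup.subset_closure (Or.inl hg)))
    (fun g hg => hTM g (Subgroup.subset_closure (Or.inr hg)))
  · intro h3
    apply hVne false
    rw [eq_bot_iff, ← h3]
    intro v hv
    exact Subgroup.subset_closure ⟨1, one_mem _, v, hv, by simp⟩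
  · apply (Subgroup.closure_le _).2
    rintro _ ⟨g, hg, v, hv, rfl⟩
    obtain ⟨n, i, hw⟩ := hR g hg
    have h3 := Q _ _ _ _ hw.inv v hv
    rw [inv_inv] at h3
    exact (hs i).US h3

end Cfsg.Agent.Lib.H95G
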