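import Cfsg.Agent.Lib.H97Fe0
import Cfsg.Agent.Lib.SubgroupTools

set_option autoImplicit false
set_option linter.all false

/-! S5445, piece FE-L6 -/

open Cfsg Cfsg.Agent.Lib.H97Fe0

namespace Cfsg.Agent.Lib.H97FeL6h

section
variable {G : Type*} [Group G] [Finite G]

open Pointwise in
theorem prod_sub (A B : Subgroup G) (hn : ∀ b ∈ B, ∀ a ∈ A, b * a * b⁻¹ ∈ A) :
    ∃ R : Subgroup G, (∀ c, c ∈ R ↔ ∃ a ∈ A, ∃ b ∈ B, c = a * b) ∧
      Nat.card R * Nat.card (A ⊓ B : Subgroup G) = Nat.card A * Nat.card B := by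
  let R : Subgroup G :=
    { carrier := {c | ∃ a ∈ A, ∃ b ∈ B, c = a * b}
      mul_mem' := by
        rintro _ _ ⟨a, ha, b, hb, rfl⟩ ⟨a', ha', b', hb', rfl⟩
        exact ⟨a * (b * a' * b⁻¹), A.mul_mem ha (hn b hb a' ha'), b * b', B.mul_mem hb hb', by group⟩
      one_mem' := ⟨1, A.one_mem, 1, B.one_mem, by group⟩
      inv_mem' := by
        rintro _ ⟨a, ha, b, hb, rfl⟩
        refine ⟨b⁻¹ * a⁻¹ * b⁻¹⁻¹, hn b⁻¹ (B.inv_mem hb) a⁻¹ (A.inv_mem ha), b⁻¹, B.inv_mem hb, by group⟩ }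
  refine ⟨R, fun c => Iff.rfl, ?_⟩
  have h1 := Cfsg.Agent.Lib.SubgroupTools.card_mul_set A B
  have h2 : ((A : Set G) * (B : Set G)) = (R : Set G) := by
    ext c
    rw [Set.mem_mul]
    constructor
    · rintro ⟨a, ha, b, hb, rfl⟩
      exact ⟨a, ha, b, hb, rfl⟩
    · rintro ⟨a, ha, b, hb, rfl⟩
      exact ⟨a, ha, b, hb, rfl⟩
  rw [h2] at h1
  exact h1

theorem mem_C {z s y c : G} : c ∈ Subgroup.centralizer ({z, s, y} : Set G) ↔ c * z = z * c ∧ c * s = s * c ∧ c * y = y * c := by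
  rw [Subgroup.mem_centralizer_iff]
  constructor
  · intro h
    exact ⟨(h z (by simp)).symm, (h s (by simp)).symm, (h y (by simp)).symm⟩
  · rintro ⟨h1, h2, h3⟩ w hw
    rcases hw with rfl | rfl | rfl
    · exact h1.symm
    · exact h2.symm
    · exact h3.symm

theorem R_facts_of {z s y : G} {Q Q₁ : Subgroup G} (L : Loc z s y Q Q₁) (C : Subgroup G)
    (hC : C = Subgroup.centralizer ({z, s, y} : Set G))
    (h8 : Nat.card (Subgroup.closure ({z, s, y} : Set G)) = 8) :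
    ∃ R : Subgroup G, (∀ c, c ∈ R ↔ ∃ a ∈ Q ⊓ C, ∃ b ∈ Q₁ ⊓ C, c = a * b) ∧ IsPGroup 2 R ∧ Nat.card R = 2 ^ 15 ∧ R ≤ C ∧
      Nat.card ↥(Q ⊓ C) = 2 ^ 11 ∧ Nat.card ↥(Q₁ ⊓ C) = 2 ^ 11 ∧
      (∀ c ∈ C, c ∈ R ↔ ∃ a ∈ Q, ∃ b ∈ Q₁, b * z = z * b ∧ c = a * b) := by
  set V := Subgroup.closure ({z, s, y} : Set G) with hV
  have hzV : z ∈ V := Subgroup.subset_closure (by simp)
  have hsV : s ∈ V := Subgroup.subset_closure (by simp)
  have hVQ : V ≤ Q := by
    rw [hV, Subgroup.closure_le]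
    rintro w (rfl | rfl | rfl)
    · exact L.e0.zQ
    · exact L.sQ
    · exact L.yQ
  have hVQ₁ : V ≤ Q₁ := by
    rw [hV, Subgroup.closure_le]
    rintro w (rfl | rfl | rfl)
    · exact L.zQ₁
    · exact L.e1.zQ
    · exact L.yQ₁
  have hCV : Subgroup.centralizer (V : Set G) = C := by
    rw [hC, hV, Subgroup.centralizer_closure]
  have c1 : Nat.card ↥(Q ⊓ C) = 2 ^ 11 := by
    have h1 := L.e0.dual V hVQ hzV
    rw [hCV, h8] at h1
    omega
  have c2 : Nat.card ↥(Q₁ ⊓ C) = 2 ^ 11 := by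
    have h1 := L.e1.dual V hVQ₁ hsV
    rw [hCV, h8] at h1
    omega
  have hEC : Q ⊓ Q₁ ≤ C := by
    intro a ha
    rw [hC, mem_C]
    refine ⟨L.e0.cen a ha.1, L.e1.cen a ha.2, ?_⟩
    exact L.abE a ha.1 ha.2 y L.yQ L.yQ₁
  have hinf : (Q ⊓ C) ⊓ (Q₁ ⊓ C) = Q ⊓ Q₁ := by
    apply le_antisymm
    · exact fun x hx => ⟨hx.1.1, hx.2.1⟩
    · exact fun x hx => ⟨⟨hx.1, hEC hx⟩, ⟨hx.2, hEC hx⟩⟩
  obtain ⟨R, hR, hRc⟩ := prod_sub (Q ⊓ C) (Q₁ ⊓ C) (by
    intro b hb a ha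
    refine ⟨L.n0 b ?_ a ha.1, C.mul_mem (C.mul_mem hb.2 ha.2) (C.inv_mem hb.2)⟩
    have this : b ∈ C := hb.2
    rw [hC, mem_C] at this
    exact this.1)
  rw [hinf, L.cE, c1, c2] at hRc
  have hcR : Nat.card R = 2 ^ 15 := by omega
  refine ⟨R, hR, IsPGroup.of_card hcR, hcR, ?_, c1, c2, ?_⟩
  · intro c hc
    obtain ⟨a, ha, b, hb, rfl⟩ := (hR c).1 hc
    exact C.mul_mem ha.2 hb.2
  · intro c hc
    constructor
    · intro h
      obtain ⟨a, ha, b, hb, rfl⟩ := (hR c).1 h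
      refine ⟨a, ha.1, b, hb.1, ?_, rfl⟩
      have this : b ∈ C := hb.2
      rw [hC, mem_C] at this
      exact this.1
    · rintro ⟨a, ha, b, hb, hbz, rfl⟩
      have hcc := hc
      rw [hC, mem_C] at hcc
      obtain ⟨k1, k2, k3⟩ := hcc
      have haz := L.e0.cen a ha
      have hbs := L.e1.cen b hb
      have has : a * s = s * a := by
        have e1 : a * s = (a * b) * s * b⁻¹ := by
          rw [mul_assoc a b s, hbs]; group
        rw [e1, k2]; group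
      -- y
      have hy : b * y * b⁻¹ = a⁻¹ * y * a := by
        have e1 : a * (b * y * b⁻¹) * a⁻¹ = y := by
          calc a * (b * y * b⁻¹) * a⁻¹ = ((a * b) * y) * (a * b)⁻¹ := by group
            _ = y := by rw [k3]; group
        calc b * y * b⁻¹ = a⁻¹ * (a * (b * y * b⁻¹) * a⁻¹) * a := by group
          _ = a⁻¹ * y * a := by rw [e1]
      have hby : b * y * b⁻¹ = y ∨ b * y * b⁻¹ = s * y := by
        rcases L.e1.comm b hb y L.yQ₁ with h1 | h1
        · left; exact mul_inv_eq_one.1 h1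
        · right; exact mul_inv_eq_iff_eq_mul.1 h1
      have hay : a⁻¹ * y * a = y ∨ a⁻¹ * y * a = z * y := by
        rcases L.e0.comm a⁻¹ (Q.inv_mem ha) y L.yQ with h1 | h1
        · left
          rw [inv_inv] at h1
          exact mul_inv_eq_one.1 h1
        · right
          rw [inv_inv] at h1
          exact mul_inv_eq_iff_eq_mul.1 h1
      have hby1 : b * y * b⁻¹ = y := by
        rcases hby with h1 | h1
        · exact h1
        · exfalso
          rcases hay with h2 | h2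
          · rw [h1, h2] at hy
            exact L.e1.z1 (mul_eq_right.1 hy)
          · rw [h1, h2] at hy
            exact L.sz (mul_right_cancel hy)
      have hbC : b ∈ C := by
        rw [hC, mem_C]
        exact ⟨hbz, hbs, mul_inv_eq_iff_eq_mul.1 hby1⟩
      have haC : a ∈ C := by
        have : a = (a * b) * b⁻¹ := by group
        rw [this]
        exact C.mul_mem hc (C.inv_mem hbC)
      exact (hR _).2 ⟨a, ⟨ha, haC⟩, b, ⟨hb, hbC⟩, rfl⟩

end
end Cfsg.Agent.Lib.H97FeL6h
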