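import Cfsg.Agent.Lib.H97Fe0
import Cfsg.Agent.Lib.H97FeL6h

set_option autoImplicit false
set_option linter.all false

/-! S5445, piece FE-D3: the group-theoretic core -/

open Cfsg Cfsg.Agent.Lib.H97Fe0

namespace Cfsg.Agent.Lib.H97FeD3h

section
variable {G : Type*} [Group G] [Finite G]

theorem card_zp {z : G} (h : z * z = 1) : Nat.card (Subgroup.zpowers z) ≤ 2 := by
  rw [Nat.card_zpowers]
  exact orderOf_le_of_pow_eq_one (by norm_num) (by rw [pow_two]; exact h)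

/-- a subgroup of order at most eight -/
theorem small {z s w : G} (hz : z * z = 1) (hs : s * s = 1) (hw : w * w = 1) (zs : z * s = s * z) (zw : z * w = w * z)
    (sw : s * w = w * s) (Q : Subgroup G) (zQ : z ∈ Q) (sQ : s ∈ Q) (wQ : w ∈ Q) :
    ∃ B : Subgroup G, B ≤ Q ∧ z ∈ B ∧ s ∈ B ∧ w ∈ B ∧ Nat.card B ≤ 8 := by
  have hcz : ∀ b ∈ Subgroup.zpowers s, ∀ a ∈ Subgroup.zpowers z, b * a = a * b := by
    rintro _ ⟨i, rfl⟩ _ ⟨j, rfl⟩
    exact ((show Commute s z from zs.symm).zpow_zpow i j)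
  obtain ⟨R1, hR1, hc1⟩ := Cfsg.Agent.Lib.H97FeL6h.prod_sub (Subgroup.zpowers z) (Subgroup.zpowers s) (by
    intro b hb a ha
    rw [hcz b hb a ha, mul_inv_cancel_right]
    exact ha)
  have h1 : Nat.card R1 ≤ 4 := by
    have h2 : 0 < Nat.card (Subgroup.zpowers z ⊓ Subgroup.zpowers s : Subgroup G) := Nat.card_pos
    calc Nat.card R1 ≤ Nat.card R1 * Nat.card (Subgroup.zpowers z ⊓ Subgroup.zpowers s : Subgroup G) := Nat.le_mul_of_pos_right _ h2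
      _ = _ := hc1
      _ ≤ 2 * 2 := Nat.mul_le_mul (card_zp hz) (card_zp hs)
  have hcw : ∀ b ∈ Subgroup.zpowers w, ∀ a ∈ R1, b * a = a * b := by
    rintro _ ⟨i, rfl⟩ a ha
    obtain ⟨_, ⟨j, rfl⟩, _, ⟨l, rfl⟩, rfl⟩ := (hR1 a).1 ha
    exact (((show Commute w z from zw.symm).zpow_zpow i j).mul_right ((show Commute w s from sw.symm).zpow_zpow i l))
  obtain ⟨R2, hR2, hc2⟩ := Cfsg.Agent.Lib.H97FeL6h.prod_sub R1 (Subgroup.zpowers w) (by
    intro b hb a ha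
    rw [hcw b hb a ha, mul_inv_cancel_right]
    exact ha)
  have h3 : Nat.card R2 ≤ 8 := by
    have h2 : 0 < Nat.card (R1 ⊓ Subgroup.zpowers w : Subgroup G) := Nat.card_pos
    calc Nat.card R2 ≤ Nat.card R2 * Nat.card (R1 ⊓ Subgroup.zpowers w : Subgroup G) := Nat.le_mul_of_pos_right _ h2
      _ = _ := hc2
      _ ≤ 4 * 2 := Nat.mul_le_mul h1 (card_zp hw)
  have z1 : z ∈ R1 := (hR1 z).2 ⟨z, Subgroup.mem_zpowers z, 1, Subgroup.one_mem _, by group⟩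
  have s1 : s ∈ R1 := (hR1 s).2 ⟨1, Subgroup.one_mem _, s, Subgroup.mem_zpowers s, by group⟩
  refine ⟨R2, ?_, (hR2 z).2 ⟨z, z1, 1, Subgroup.one_mem _, by group⟩, (hR2 s).2 ⟨s, s1, 1, Subgroup.one_mem _, by group⟩,
    (hR2 w).2 ⟨1, Subgroup.one_mem _, w, Subgroup.mem_zpowers w, by group⟩, h3⟩
  intro c hc
  obtain ⟨a, ha, b, hb, rfl⟩ := (hR2 c).1 hc
  obtain ⟨a', ha', b', hb', rfl⟩ := (hR1 a).1 ha
  exact Q.mul_mem (Q.mul_mem ((Subgroup.zpowers_le.2 zQ) ha') ((Subgroup.zpowers_le.2 sQ) hb')) ((Subgroup.zpowers_le.2 wQ) hb)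

/-- index at most two -/
theorem half {D N : Subgroup G} (h : ∀ a ∈ D, ∀ b ∈ D, a ∉ N → b ∉ N → a * b⁻¹ ∈ N) :
    Nat.card D ≤ 2 * Nat.card (D ⊓ N : Subgroup G) := by
  classical
  by_cases hD : D ≤ N
  · have : D ⊓ N = D := inf_eq_left.2 hD
    rw [this]; omega
  · obtain ⟨b, hb, hbN⟩ := Set.not_subset.1 hD
    have : Fintype G := Fintype.ofFinite G
    have h1 : (D : Set G).toFinset ⊆ ((D ⊓ N : Subgroup G) : Set G).toFinset ∪ (((D ⊓ N : Subgroup G) : Set G).toFinset).image (fun x => x * b) := by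
      intro a ha
      rw [Set.mem_toFinset] at ha
      rw [Finset.mem_union, Finset.mem_image]
      by_cases haN : a ∈ N
      · left; rw [Set.mem_toFinset]; exact ⟨ha, haN⟩
      · right
        refine ⟨a * b⁻¹, ?_, by group⟩
        rw [Set.mem_toFinset]
        exact ⟨D.mul_mem ha (D.inv_mem hb), h a ha b hb haN hbN⟩
    have h2 := (Finset.card_le_card h1).trans (Finset.card_union_le _ _)
    have h3 := Finset.card_image_le (s := ((D ⊓ N : Subgroup G) : Set G).toFinset) (f := fun x => x * b)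
    have h4 : ((D : Set G).toFinset).card = Nat.card D := by rw [Set.toFinset_card, Nat.card_eq_fintype_card]; rfl
    have h5 : (((D ⊓ N : Subgroup G) : Set G).toFinset).card = Nat.card (D ⊓ N : Subgroup G) := by
      rw [Set.toFinset_card, Nat.card_eq_fintype_card]; rfl
    omega

theorem self_cen {z : G} {Q E : Subgroup G} (e : LE Q z) (hE : E ≤ Q) (hz : z ∈ E) (hc : Nat.card E = 2 ^ 7)
    (hab : ∀ a ∈ E, ∀ b ∈ E, a * b = b * a) {a : G} (ha : a ∈ Q) (hac : ∀ b ∈ E, a * b = b * a) : a ∈ E := by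
  have h1 := e.dual E hE hz
  rw [hc] at h1
  have h2 : E ≤ Q ⊓ Subgroup.centralizer (E : Set G) := by
    intro x hx
    exact ⟨hE hx, Subgroup.mem_centralizer_iff.2 fun y hy => hab y hy x hx⟩
  have h3 : E = Q ⊓ Subgroup.centralizer (E : Set G) := by
    apply Subgroup.eq_of_le_of_card_ge h2
    rw [hc]; omega
  rw [h3]
  exact ⟨ha, Subgroup.mem_centralizer_iff.2 fun y hy => (hac y hy).symm⟩

theorem y_mem_abs {z s y x : G} {Q Q₁ N : Subgroup G} (e0 : LE Q z) (e1 : LE Q₁ s) (sQ : s ∈ Q) (yQ : y ∈ Q) (zQ₁ : z ∈ Q₁)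
    (sz : s ≠ z) (cE : Nat.card ↥(Q ⊓ Q₁) = 2 ^ 7)
    (abE : ∀ a ∈ Q, a ∈ Q₁ → ∀ b ∈ Q, b ∈ Q₁ → a * b = b * a)
    (n0 : ∀ c, c * z = z * c → ∀ a ∈ Q, c * a * c⁻¹ ∈ Q)
    (hxz : x * z = z * x) (hxs : x * s * x⁻¹ = y)
    (hNx : ∀ a ∈ N, a * z = z * a → a * x * a⁻¹ * x⁻¹ ∈ Q)
    (hN : ∀ a b, a * z = z * a → b * z = z * b → a ∉ N → b ∉ N → a * b⁻¹ ∈ N) : y ∈ Q₁ := by
  set E := Q ⊓ Q₁ with hEdef
  have hab : ∀ a ∈ E, ∀ b ∈ E, a * b = b * a := fun a ha b hb => abE a ha.1 ha.2 b hb.1 hb.2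
  have hzE : z ∈ E := ⟨e0.zQ, zQ₁⟩
  have hsE : s ∈ E := ⟨sQ, e1.zQ⟩
  suffices h : y ∈ E from h.2
  apply self_cen e0 inf_le_left hzE cE hab yQ
  intro y' hy'
  have hy2 : y' * y' = 1 := by
    rcases e0.sq y' hy'.1 with h1 | h1
    · exact h1
    · rcases e1.sq y' hy'.2 with h2 | h2
      · exact h2
      · exact absurd (h2.symm.trans h1) sz
  obtain ⟨B, hBQ, hzB, hsB, hwB, hB8⟩ := small e0.zz e1.zz hy2 (hab z hzE s hsE) (hab z hzE y' hy') (hab s hsE y' hy') Q₁ zQ₁ e1.zQ hy'.2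
  have hd := e1.dual B hBQ hsB
  set D := Q₁ ⊓ Subgroup.centralizer (B : Set G) with hD
  have hDc : 2 ^ 11 ≤ Nat.card D := by
    by_contra hlt
    have h1 : Nat.card D * Nat.card B < 2 ^ 11 * 8 := by
      have h0 : 0 < Nat.card B := Nat.card_pos
      calc Nat.card D * Nat.card B < 2 ^ 11 * Nat.card B := Nat.mul_lt_mul_of_pos_right (by omega) h0
        _ ≤ 2 ^ 11 * 8 := Nat.mul_le_mul_left _ hB8
    omega
  have hDz : ∀ a ∈ D, a * z = z * a := fun a ha => (Subgroup.mem_centralizer_iff.1 ha.2 z hzB).symm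
  have hDh := half (D := D) (N := N) (fun a ha b hb haN hbN => hN a b (hDz a ha) (hDz b hb) haN hbN)
  obtain ⟨a, haD, haE⟩ : ∃ a ∈ D ⊓ N, a ∉ E := by
    by_contra hcon
    push Not at hcon
    have h1 : D ⊓ N ≤ E := hcon
    have h2 := Subgroup.card_le_of_le h1
    rw [cE] at h2
    omega
  have haQ : a ∈ Q₁ := haD.1.1
  have haz : a * z = z * a := hDz a haD.1
  have hay : a * y' = y' * a := (Subgroup.mem_centralizer_iff.1 haD.1.2 y' hwB).symm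
  obtain ⟨y0, hy0, hne⟩ : ∃ y0 ∈ E, a * y0 ≠ y0 * a := by
    by_contra hcon
    push Not at hcon
    exact haE (self_cen e1 inf_le_right hsE cE hab haQ hcon)
  have hc : a * y0 * a⁻¹ = s * y0 := by
    rcases e1.comm a haQ y0 hy0.2 with h1 | h1
    · exfalso
      apply hne
      exact mul_inv_eq_iff_eq_mul.1 (mul_inv_eq_one.1 h1)
    · exact mul_inv_eq_iff_eq_mul.1 h1
  -- w
  set w := x * y0 * x⁻¹ with hw
  have hwQ : w ∈ Q := n0 x hxz y0 hy0.1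
  obtain ⟨q, hq, hqe⟩ : ∃ q ∈ Q, a * x = q * x * a := ⟨a * x * a⁻¹ * x⁻¹, hNx a haD.2 haz, by group⟩
  have haw : a * w * a⁻¹ = q * (y * w) * q⁻¹ := by
    calc a * w * a⁻¹ = (a * x) * y0 * (a * x)⁻¹ := by rw [hw]; group
      _ = (q * x * a) * y0 * (q * x * a)⁻¹ := by rw [hqe]
      _ = q * (x * (a * y0 * a⁻¹) * x⁻¹) * q⁻¹ := by group
      _ = q * (x * (s * y0) * x⁻¹) * q⁻¹ := by rw [hc]
      _ = q * ((x * s * x⁻¹) * (x * y0 * x⁻¹)) * q⁻¹ := by group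
      _ = q * (y * w) * q⁻¹ := by rw [hxs]
  -- commutators with y' in Q
  have hzc : ∀ c ∈ Q, c * z = z * c := e0.cen
  -- comm of y' with w
  have key : ∀ u ∈ Q, ∃ ε : G, (ε = 1 ∨ ε = z) ∧ y' * u * y'⁻¹ = ε * u := by
    intro u hu
    rcases e0.comm y' hy'.1 u hu with h1 | h1
    · exact ⟨1, Or.inl rfl, mul_inv_eq_iff_eq_mul.1 h1⟩
    · exact ⟨z, Or.inr rfl, mul_inv_eq_iff_eq_mul.1 h1⟩
  obtain ⟨ε, hε, hεw⟩ := key w hwQ
  have hεc : ∀ c, c * z = z * c → c * ε = ε * c := by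
    intro c hc'
    rcases hε with rfl | rfl
    · rw [mul_one, one_mul]
    · exact hc'
  have hy'z : y' * z = z * y' := e0.cen y' hy'.1
  -- conj by a
  have h1 : y' * (a * w * a⁻¹) * y'⁻¹ = ε * (a * w * a⁻¹) := by
    calc y' * (a * w * a⁻¹) * y'⁻¹ = (y' * a) * w * (y' * a)⁻¹ := by group
      _ = (a * y') * w * (a * y')⁻¹ := by rw [hay]
      _ = a * (y' * w * y'⁻¹) * a⁻¹ := by group
      _ = a * (ε * w) * a⁻¹ := by rw [hεw]
      _ = (a * ε) * w * a⁻¹ := by group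
      _ = (ε * a) * w * a⁻¹ := by rw [hεc a haz]
      _ = ε * (a * w * a⁻¹) := by group
  -- q (y w) q^-1 = δ y w
  have hywQ : y * w ∈ Q := Q.mul_mem yQ hwQ
  obtain ⟨δ, hδ, hδe⟩ : ∃ δ : G, (δ = 1 ∨ δ = z) ∧ q * (y * w) * q⁻¹ = δ * (y * w) := by
    rcases e0.comm q hq (y * w) hywQ with h2 | h2
    · exact ⟨1, Or.inl rfl, mul_inv_eq_iff_eq_mul.1 h2⟩
    · exact ⟨z, Or.inr rfl, mul_inv_eq_iff_eq_mul.1 h2⟩
  have hδc : y' * δ = δ * y' := by
    rcases hδ with rfl | rfl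
    · rw [mul_one, one_mul]
    · exact hy'z
  obtain ⟨η, hη, hηe⟩ := key y yQ
  have h2 : y' * (δ * (y * w)) * y'⁻¹ = δ * (η * y) * (ε * w) := by
    calc y' * (δ * (y * w)) * y'⁻¹ = (y' * δ) * y * w * y'⁻¹ := by group
      _ = (δ * y') * y * w * y'⁻¹ := by rw [hδc]
      _ = δ * (y' * y * y'⁻¹) * (y' * w * y'⁻¹) := by group
      _ = δ * (η * y) * (ε * w) := by rw [hηe, hεw]
  rw [haw, hδe, h2] at h1
  -- δ η y ε w = ε δ y w
  have hεy : y * ε = ε * y := hεc y (hzc y yQ)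
  have hzz : ∀ α β : G, (α = 1 ∨ α = z) → (β = 1 ∨ β = z) → α * β = β * α := by
    rintro α β (rfl | rfl) (rfl | rfl) <;> simp
  have h3 : δ * (η * y) * (ε * w) = η * (ε * (δ * (y * w))) := by
    calc δ * (η * y) * (ε * w) = (δ * η) * (y * ε) * w := by group
      _ = (η * δ) * (ε * y) * w := by rw [hzz δ η hδ hη, hεy]
      _ = η * (δ * ε) * (y * w) := by group
      _ = η * (ε * δ) * (y * w) := by rw [hzz δ ε hδ hε]
      _ = η * (ε * (δ * (y * w))) := by group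
  rw [h3] at h1
  have h4 : η = 1 := mul_eq_right.1 h1
  rw [h4, one_mul] at hηe
  exact (mul_inv_eq_iff_eq_mul.1 hηe).symm

end
end Cfsg.Agent.Lib.H97FeD3h
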