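import Cfsg.Agent.Lib.H97Fe0

/-! S5445, piece FE-D8, local part (helper24): from `C(z,s)` to `C(z,s,y)`. -/

set_option autoImplicit false
set_option linter.all false

namespace Cfsg.Agent.Lib.H97FeD8a

open Cfsg.Agent.Lib.H97Fe0

/-- reduction of `hom` to the homomorphism on `C(z,s)` -/
theorem hom_of {G : Type*} [Group G] {z s y : G} {Q Q₁ : Subgroup G} (e0 : LE Q z) (e1 : LE Q₁ s)
    (sQ : s ∈ Q) (yQ : y ∈ Q) (zQ₁ : z ∈ Q₁) (yQ₁ : y ∈ Q₁)
    (hlin : ∀ c, c * z = z * c → c * s = s * c → O4 z s y (c * y * c⁻¹))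
    (ha : ∃ a ∈ Q, a * s = s * a ∧ a * y * a⁻¹ = y * z) (hb : ∃ b ∈ Q₁, b * z = z * b ∧ b * y * b⁻¹ = y * s)
    (hψ : ∃ ψ : ↥(Subgroup.centralizer ({z, s} : Set G)) →* alternatingGroup (Fin 6), Function.Surjective ψ ∧
      ∀ c, ψ c = 1 ↔ ∃ a ∈ Q, ∃ b ∈ Q₁, b * z = z * b ∧ (c : G) = a * b) :
    ∃ φ : ↥(Subgroup.centralizer ({z, s, y} : Set G)) →* alternatingGroup (Fin 6), Function.Surjective φ ∧
      ∀ c, φ c = 1 ↔ ∃ a ∈ Q, ∃ b ∈ Q₁, b * z = z * b ∧ (c : G) = a * b := by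
  obtain ⟨ψ, hs, hk⟩ := hψ
  have mem2 : ∀ c : G, c ∈ Subgroup.centralizer ({z, s} : Set G) ↔ c * z = z * c ∧ c * s = s * c := by
    intro c
    rw [Subgroup.mem_centralizer_iff]
    constructor
    · intro h; exact ⟨(h z (by simp)).symm, (h s (by simp)).symm⟩
    · rintro ⟨h1, h2⟩ x hx
      rcases hx with rfl | rfl
      · exact h1.symm
      · exact h2.symm
  have mem3 : ∀ c : G, c ∈ Subgroup.centralizer ({z, s, y} : Set G) ↔ c * z = z * c ∧ c * s = s * c ∧ c * y = y * c := by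
    intro c
    rw [Subgroup.mem_centralizer_iff]
    constructor
    · intro h; exact ⟨(h z (by simp)).symm, (h s (by simp)).symm, (h y (by simp)).symm⟩
    · rintro ⟨h1, h2, h3⟩ x hx
      rcases hx with rfl | rfl | rfl
      · exact h1.symm
      · exact h2.symm
      · exact h3.symm
  have hle : Subgroup.centralizer ({z, s, y} : Set G) ≤ Subgroup.centralizer ({z, s} : Set G) := by
    intro c hc
    rw [mem3] at hc
    rw [mem2]
    exact ⟨hc.1, hc.2.1⟩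
  refine ⟨ψ.comp (Subgroup.inclusion hle), ?_, fun c => hk (Subgroup.inclusion hle c)⟩
  intro p
  obtain ⟨⟨c, hc⟩, rfl⟩ := hs p
  obtain ⟨a, haQ, has, hay⟩ := ha
  obtain ⟨b, hbQ, hbz, hby⟩ := hb
  have haz : a * z = z * a := e0.cen a haQ
  have hbs : b * s = s * b := e1.cen b hbQ
  have zz := e0.zz
  have ss := e1.zz
  have hzs : s * z = z * s := e0.cen s sQ
  have hyz : y * z = z * y := e0.cen y yQ
  have hys : y * s = s * y := e1.cen y yQ₁
  have ha2 : a ∈ Subgroup.centralizer ({z, s} : Set G) := (mem2 a).2 ⟨haz, has⟩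
  have hb2 : b ∈ Subgroup.centralizer ({z, s} : Set G) := (mem2 b).2 ⟨hbz, hbs⟩
  have ka : ψ ⟨a, ha2⟩ = 1 := (hk _).2 ⟨a, haQ, 1, Q₁.one_mem, by group, (mul_one a).symm⟩
  have kb : ψ ⟨b, hb2⟩ = 1 := (hk _).2 ⟨1, Q.one_mem, b, hbQ, hbz, (one_mul b).symm⟩
  have hcz := (mem2 c).1 hc
  -- commuting with `c`
  have fin : ∀ k : G, ∀ hk2 : k ∈ Subgroup.centralizer ({z, s} : Set G), ψ ⟨k, hk2⟩ = 1 →
      (k * c) * y * (k * c)⁻¹ = y → ∃ d, (ψ.comp (Subgroup.inclusion hle)) d = ψ ⟨c, hc⟩ := by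
    intro k hk2 hk1 hfix
    have hkc : k * c ∈ Subgroup.centralizer ({z, s, y} : Set G) := by
      rw [mem3]
      have h5 := (mem2 (k * c)).1 (mul_mem hk2 hc)
      refine ⟨h5.1, h5.2, ?_⟩
      rw [mul_inv_eq_iff_eq_mul] at hfix
      exact hfix
    refine ⟨⟨k * c, hkc⟩, ?_⟩
    show ψ ⟨k * c, _⟩ = ψ ⟨c, hc⟩
    have : (⟨k * c, hle hkc⟩ : ↥(Subgroup.centralizer ({z, s} : Set G))) = ⟨k, hk2⟩ * ⟨c, hc⟩ := rfl
    rw [this, map_mul, hk1, one_mul]
  have conj_mul' : ∀ k u v : G, k * (u * v) * k⁻¹ = (k * u * k⁻¹) * (k * v * k⁻¹) := fun k u v => by group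
  have fixz : ∀ k : G, k * z = z * k → k * z * k⁻¹ = z := fun k h => by rw [h, mul_inv_cancel_right]
  have fixs : ∀ k : G, k * s = s * k → k * s * k⁻¹ = s := fun k h => by rw [h, mul_inv_cancel_right]
  have e : ∀ k : G, (k * c) * y * (k * c)⁻¹ = k * (c * y * c⁻¹) * k⁻¹ := fun k => by group
  rcases hlin c hcz.1 hcz.2 with h | h | h | h
  · apply fin 1 (one_mem _) (map_one ψ)
    rw [e, h]; group
  · apply fin a ha2 ka
    rw [e, h, conj_mul', hay, fixz a haz, mul_assoc, zz, mul_one]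
  · apply fin b hb2 kb
    rw [e, h, conj_mul', hby, fixs b hbs, mul_assoc, ss, mul_one]
  · apply fin (a * b) (mul_mem ha2 hb2)
    · have : (⟨a * b, mul_mem ha2 hb2⟩ : ↥(Subgroup.centralizer ({z, s} : Set G))) = ⟨a, ha2⟩ * ⟨b, hb2⟩ := rfl
      rw [this, map_mul, ka, kb, one_mul]
    · rw [e, h]
      have e2 : (a * b) * (y * z * s) * (a * b)⁻¹ = a * ((b * y * b⁻¹) * (b * z * b⁻¹) * (b * s * b⁻¹)) * a⁻¹ := by group
      rw [e2, hby, fixz b hbz, fixs b hbs]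
      have e3 : y * s * z * s = y * z := by
        calc y * s * z * s = y * (s * z) * s := by group
          _ = y * (z * s) * s := by rw [hzs]
          _ = y * z * (s * s) := by group
          _ = y * z := by rw [ss, mul_one]
      rw [e3, conj_mul', hay, fixz a haz, mul_assoc, zz, mul_one]

end Cfsg.Agent.Lib.H97FeD8a
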