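import Cfsg.Agent.Lib.H97Fe0
set_option autoImplicit false
open Cfsg Cfsg.Agent.Lib.H97Fe0

namespace Cfsg.Agent.Lib.H97FeD9h9

theorem brk_abs {G : Type*} [Group G] [Finite G] {z s y X : G} {Q Q₁ : Subgroup G} {V : Type*} [AddCommGroup V]
    (e0 : LE Q z) (e1 : LE Q₁ s) (sQ : s ∈ Q) (yQ : y ∈ Q) (hy : y ∈ Q₁) (hz : z ∈ Q₁)
    (hXz : X * z = z * X) (hXs : X * s * X⁻¹ = y)
    (n0 : ∀ c, c * z = z * c → ∀ a ∈ Q, c * a * c⁻¹ ∈ Q) (n1 : ∀ c, c * s = s * c → ∀ a ∈ Q₁, c * a * c⁻¹ ∈ Q₁)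
    (P : G → V) (W : V →+ V) (hPm : ∀ a ∈ Q, ∀ b ∈ Q, P (a * b) = P a + P b)
    (hPe : ∀ a ∈ Q, ∀ b ∈ Q, P a = P b → a = b ∨ a = z * b) (hPs : P s ≠ 0)
    (hX : ∀ a ∈ Q, P (X * a * X⁻¹) = W (P a)) (W2 : ∀ v, W (W v) = W v + v) (c2 : ∀ v : V, v + v = 0)
    (lin : ∀ c, c * z = z * c → c * s = s * c → c * y = y * c → ∀ a ∈ Q, P (c * (X * a * X⁻¹) * c⁻¹) = W (P (c * a * c⁻¹))) :
    ∀ x ∈ Q, x * s = s * x → x * y = y * x → ∀ b ∈ Q₁, b * z = z * b → b * y = y * b →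
    x * b * x⁻¹ * b⁻¹ ∈ Subgroup.closure ({z, s, y} : Set G) := by
  intro t ht hts hty b hb hbz hby
  have hsQ1 : s ∈ Q₁ := e1.zQ
  have hbs : b * s = s * b := e1.cen b hb
  have htz : t * z = z * t := e0.cen t ht
  have hP1 : P 1 = 0 := by
    have := hPm 1 Q.one_mem 1 Q.one_mem
    rw [mul_one] at this
    exact left_eq_add.1 this
  have hPinv : ∀ a ∈ Q, P a⁻¹ = P a := by
    intro a ha
    have h1 := hPm a ha a⁻¹ (Q.inv_mem ha)
    rw [mul_inv_cancel, hP1] at h1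
    have h2 := c2 (P a)
    have : P a + P a⁻¹ = P a + P a := by rw [← h1, h2]
    exact add_left_cancel this
  have hinv : ∀ c, c * z = z * c → c⁻¹ * z = z * c⁻¹ := by
    intro c hc
    calc c⁻¹ * z = c⁻¹ * (z * c) * c⁻¹ := by group
      _ = c⁻¹ * (c * z) * c⁻¹ := by rw [hc]
      _ = z * c⁻¹ := by group
  -- `t` commutes with X⁻¹ s X
  set q0 : G := X⁻¹ * s * X with hq0
  have hq0Q : q0 ∈ Q := by
    have := n0 X⁻¹ (hinv X hXz) s sQ
    rwa [inv_inv] at this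
  have hWq0 : W (P q0) = P s := by
    rw [← hX q0 hq0Q]
    congr 1
    rw [hq0]; group
  have hPy : P y = W (P s) := by rw [← hXs]; exact hX s sQ
  have hWinj : ∀ v w : V, W v = W w → v = w := by
    intro v w h
    have h1 := W2 v
    have h2 := W2 w
    rw [h] at h1
    exact add_left_cancel (h1.symm.trans h2)
  have hPq0 : P q0 = P (y * s) := by
    apply hWinj
    rw [hWq0, hPm y yQ s sQ, hPy, map_add, W2]
    have : W (P s) + P s + W (P s) = P s + (W (P s) + W (P s)) := by abel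
    rw [this, c2, add_zero]
  have htq0 : t * q0 = q0 * t := by
    have hys : t * (y * s) = (y * s) * t := by
      rw [← mul_assoc, hty, mul_assoc, hts, mul_assoc]
    rcases hPe q0 hq0Q (y * s) (Q.mul_mem yQ sQ) hPq0 with h | h
    · rw [h]; exact hys
    · rw [h]
      calc t * (z * (y * s)) = t * z * (y * s) := by group
        _ = z * t * (y * s) := by rw [htz]
        _ = z * (t * (y * s)) := by group
        _ = z * (y * s * t) := by rw [hys]
        _ = z * (y * s) * t := by group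
  set t' : G := X * t * X⁻¹ with ht'
  have ht'Q : t' ∈ Q := n0 X hXz t ht
  have ht's : t' * s = s * t' := by
    have e : s = X * q0 * X⁻¹ := by rw [hq0]; group
    rw [e, ht']
    calc X * t * X⁻¹ * (X * q0 * X⁻¹) = X * (t * q0) * X⁻¹ := by group
      _ = X * (q0 * t) * X⁻¹ := by rw [htq0]
      _ = X * q0 * X⁻¹ * (X * t * X⁻¹) := by group
  -- commutator of an element of Q with an element centralising z
  have hcQ : ∀ a ∈ Q, ∀ c, c * z = z * c → a * c * a⁻¹ * c⁻¹ ∈ Q ∧ P (a * c * a⁻¹ * c⁻¹) = P a + P (c * a * c⁻¹) := by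
    intro a ha c hc
    have h1 : a * c * a⁻¹ * c⁻¹ = a * (c * a * c⁻¹)⁻¹ := by group
    have h2 := n0 c hc a ha
    rw [h1]
    exact ⟨Q.mul_mem ha (Q.inv_mem h2), by rw [hPm a ha _ (Q.inv_mem h2), hPinv _ h2]⟩
  set u : G := t * b * t⁻¹ * b⁻¹ with hu
  set w : G := t' * b * t'⁻¹ * b⁻¹ with hw
  have huQ := hcQ t ht b hbz
  have hwQ := hcQ t' ht'Q b hbz
  rw [← hu] at huQ
  rw [← hw] at hwQ
  have huQ1 : u ∈ Q₁ := Q₁.mul_mem (n1 t hts b hb) (Q₁.inv_mem hb)
  have hwQ1 : w ∈ Q₁ := Q₁.mul_mem (n1 t' ht's b hb) (Q₁.inv_mem hb)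
  have hPw : P w = W (P u) := by
    rw [hwQ.2, huQ.2, map_add, ht', hX t ht, lin b hbz hbs hby t ht]
  -- `u` commutes with `C_{Q₁}(z, s, y)`
  have hcom : ∀ a ∈ Q₁, a * z = z * a → a * y = y * a → u * a = a * u := by
    intro a ha haz hay
    have has : a * s = s * a := e1.cen a ha
    have h1 := hcQ u huQ.1 a haz
    have h2 := hcQ w hwQ.1 a haz
    have hPaw : P (a * w * a⁻¹) = W (P (a * u * a⁻¹)) := by
      have hXu := n0 X hXz u huQ.1
      have h3 : P w = P (X * u * X⁻¹) := by rw [hPw, hX u huQ.1]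
      have h4 : P (a * w * a⁻¹) = P (a * (X * u * X⁻¹) * a⁻¹) := by
        rcases hPe w hwQ.1 _ hXu h3 with h | h
        · rw [h]
        · rw [h]
          have h5 : a * (z * (X * u * X⁻¹)) * a⁻¹ = z * (a * (X * u * X⁻¹) * a⁻¹) := by
            calc a * (z * (X * u * X⁻¹)) * a⁻¹ = (a * z) * (X * u * X⁻¹) * a⁻¹ := by group
              _ = (z * a) * (X * u * X⁻¹) * a⁻¹ := by rw [haz]
              _ = z * (a * (X * u * X⁻¹) * a⁻¹) := by group
          have hPz : P z = 0 := by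
            have h6 := hPm z e0.zQ w hwQ.1
            have h7 := hPm z e0.zQ (X * u * X⁻¹) hXu
            rw [← h, h3] at h7
            exact add_eq_right.1 h7.symm
          rw [h5, hPm z e0.zQ _ (n0 a haz _ hXu), hPz, zero_add]
      rw [h4, lin a haz has hay u huQ.1]
    have h3 : P (w * a * w⁻¹ * a⁻¹) = W (P (u * a * u⁻¹ * a⁻¹)) := by
      rw [h2.2, h1.2, map_add, hPaw, hPw]
    have h4 := e1.comm w hwQ1 a ha
    rcases e1.comm u huQ1 a ha with h5 | h5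
    · rw [mul_inv_eq_one, mul_inv_eq_iff_eq_mul] at h5
      exact h5
    · exfalso
      rw [h5] at h3
      rcases h4 with h4 | h4
      · rw [h4, hP1] at h3
        apply hPs
        apply hWinj
        rw [map_zero]; exact h3.symm
      · rw [h4] at h3
        have h6 := W2 (P s)
        rw [← h3, ← h3] at h6
        exact hPs (left_eq_add.1 h6)
  have hVQ : Subgroup.closure ({z, s, y} : Set G) ≤ Q₁ := by
    rw [Subgroup.closure_le]
    rintro x (rfl | rfl | rfl)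
    · exact hz
    · exact hsQ1
    · exact hy
  have hsV : s ∈ Subgroup.closure ({z, s, y} : Set G) := Subgroup.subset_closure (by simp)
  have hd1 := e1.dual (Subgroup.closure ({z, s, y} : Set G)) hVQ hsV
  rw [Subgroup.centralizer_closure] at hd1
  set C : Subgroup G := Subgroup.centralizer ({z, s, y} : Set G) with hC
  have hmemC : ∀ x, x ∈ C ↔ (x * z = z * x ∧ x * s = s * x ∧ x * y = y * x) := by
    intro x
    rw [hC, Subgroup.mem_centralizer_iff]
    simp only [Set.mem_insert_iff, Set.mem_singleton_iff, forall_eq_or_imp, forall_eq]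
    constructor
    · rintro ⟨h1, h2, h3⟩; exact ⟨h1.symm, h2.symm, h3.symm⟩
    · rintro ⟨h1, h2, h3⟩; exact ⟨h1.symm, h2.symm, h3.symm⟩
  have hys : y * s = s * y := e1.cen y hy
  have hzs : z * s = s * z := e1.cen z hz
  have hyz : y * z = z * y := e0.cen y yQ
  have hsC : s ∈ C := by rw [hmemC]; exact ⟨hzs.symm, rfl, hys.symm⟩
  have hd2 := e1.dual (Q₁ ⊓ C) inf_le_left ⟨hsQ1, hsC⟩
  have hcardeq : Nat.card ↥(Q₁ ⊓ Subgroup.centralizer ((Q₁ ⊓ C : Subgroup G) : Set G)) =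
      Nat.card ↥(Subgroup.closure ({z, s, y} : Set G)) := by
    have h : Nat.card ↥(Q₁ ⊓ Subgroup.centralizer ((Q₁ ⊓ C : Subgroup G) : Set G)) * Nat.card ↥(Q₁ ⊓ C) =
        Nat.card ↥(Subgroup.closure ({z, s, y} : Set G)) * Nat.card ↥(Q₁ ⊓ C) := by
      rw [hd2, mul_comm, hd1]
    exact Nat.eq_of_mul_eq_mul_right Nat.card_pos h
  have hle : Subgroup.closure ({z, s, y} : Set G) ≤ Q₁ ⊓ Subgroup.centralizer ((Q₁ ⊓ C : Subgroup G) : Set G) := by
    rw [Subgroup.closure_le]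
    have hall : ∀ x ∈ ({z, s, y} : Set G), x ∈ Q₁ ∧ ∀ u ∈ C, u * x = x * u := by
      rintro x (rfl | rfl | rfl)
      · exact ⟨hz, fun u hu => ((hmemC u).1 hu).1⟩
      · exact ⟨hsQ1, fun u hu => ((hmemC u).1 hu).2.1⟩
      · exact ⟨hy, fun u hu => ((hmemC u).1 hu).2.2⟩
    intro x hx
    refine ⟨(hall x hx).1, ?_⟩
    refine Subgroup.mem_centralizer_iff.2 ?_
    intro u hu
    exact (hall x hx).2 u hu.2
  have heq := Subgroup.eq_of_le_of_card_ge hle (le_of_eq hcardeq)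
  rw [heq]
  refine ⟨huQ1, Subgroup.mem_centralizer_iff.2 ?_⟩
  intro a ha
  have h := (hmemC a).1 ha.2
  exact (hcom a ha.1 h.1 h.2.2).symm

end Cfsg.Agent.Lib.H97FeD9h9
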