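import Cfsg.Agent.Lib.H97Fe0
import Mathlib
set_option autoImplicit false
open Cfsg Cfsg.Agent.Lib.H97Fe0

namespace Cfsg.Agent.Lib.H97FeL1h34

theorem V_facts {G : Type*} [Group G] [Finite G] {z s y : G} {Q Q₁ : Subgroup G} (L : Loc z s y Q Q₁) (V : Subgroup G)
    (hV : V = Subgroup.closure ({z, s, y} : Set G)) :
    IsElementaryAbelian 2 V ∧ Nat.card V = 8 ∧ z ∈ V ∧ s ∈ V ∧ y ∈ V ∧ V ≤ Q ∧ V ≤ Q₁ ∧ (∀ v ∈ V, O4 z s 1 v ∨ O4 z s y v) := by
  have zz := L.e0.zz
  have ss := L.e1.zz
  have yy := L.yy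
  have czs : Commute z s := (L.e0.cen s L.sQ).symm
  have czy : Commute z y := (L.e0.cen y L.yQ).symm
  have csy : Commute s y := (L.abE y L.yQ L.yQ₁ s L.sQ L.e1.zQ).symm
  have hzV : z ∈ V := by rw [hV]; exact Subgroup.subset_closure (by simp)
  have hsV : s ∈ V := by rw [hV]; exact Subgroup.subset_closure (by simp)
  have hyV : y ∈ V := by rw [hV]; exact Subgroup.subset_closure (by simp)
  have hVQ : V ≤ Q := by
    rw [hV, Subgroup.closure_le]
    rintro _ (rfl | rfl | rfl)
    · exact L.e0.zQ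
    · exact L.sQ
    · exact L.yQ
  have hVQ₁ : V ≤ Q₁ := by
    rw [hV, Subgroup.closure_le]
    rintro _ (rfl | rfl | rfl)
    · exact L.zQ₁
    · exact L.e1.zQ
    · exact L.yQ₁
  -- product formula
  have hmul : ∀ i j k i' j' k' : ℕ, (z ^ i * s ^ j * y ^ k) * (z ^ i' * s ^ j' * y ^ k') =
      z ^ (i + i') * s ^ (j + j') * y ^ (k + k') := by
    intro i j k i' j' k'
    have c1 : y ^ k * z ^ i' = z ^ i' * y ^ k := ((czy.pow_pow i' k).eq).symm
    have c2 : y ^ k * s ^ j' = s ^ j' * y ^ k := ((csy.pow_pow j' k).eq).symm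
    have c3 : s ^ j * z ^ i' = z ^ i' * s ^ j := ((czs.pow_pow i' j).eq).symm
    calc (z ^ i * s ^ j * y ^ k) * (z ^ i' * s ^ j' * y ^ k') = z ^ i * s ^ j * (y ^ k * z ^ i') * s ^ j' * y ^ k' := by
          simp only [mul_assoc]
      _ = z ^ i * (s ^ j * z ^ i') * (y ^ k * s ^ j') * y ^ k' := by rw [c1]; simp only [mul_assoc]
      _ = z ^ (i + i') * s ^ (j + j') * y ^ (k + k') := by
          rw [c2, c3, pow_add, pow_add, pow_add]; simp only [mul_assoc]
  have hz2 : z ^ 2 = 1 := by rw [pow_two, zz]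
  have hs2 : s ^ 2 = 1 := by rw [pow_two, ss]
  have hy2 : y ^ 2 = 1 := by rw [pow_two, yy]
  have hsq : ∀ i j k : ℕ, (z ^ i * s ^ j * y ^ k) * (z ^ i * s ^ j * y ^ k) = 1 := by
    intro i j k
    rw [hmul, ← two_mul, ← two_mul, ← two_mul, pow_mul, pow_mul, pow_mul, hz2, hs2, hy2]
    simp
  have hform : ∀ v ∈ V, ∃ i j k : ℕ, v = z ^ i * s ^ j * y ^ k := by
    intro v hv
    rw [hV] at hv
    induction hv using Subgroup.closure_induction with
    | mem x hx =>
      rcases hx with rfl | rfl | rfl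
      · exact ⟨1, 0, 0, by simp⟩
      · exact ⟨0, 1, 0, by simp⟩
      · exact ⟨0, 0, 1, by simp⟩
    | one => exact ⟨0, 0, 0, by simp⟩
    | mul a b _ _ ha hb =>
      obtain ⟨i, j, k, rfl⟩ := ha
      obtain ⟨i', j', k', rfl⟩ := hb
      exact ⟨_, _, _, hmul i j k i' j' k'⟩
    | inv a _ ha =>
      obtain ⟨i, j, k, rfl⟩ := ha
      exact ⟨i, j, k, inv_eq_of_mul_eq_one_left (hsq i j k)⟩
  have hform2 : ∀ v ∈ V, ∃ i < 2, ∃ j < 2, ∃ k < 2, v = z ^ i * s ^ j * y ^ k := by
    intro v hv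
    obtain ⟨i, j, k, rfl⟩ := hform v hv
    refine ⟨i % 2, Nat.mod_lt _ (by norm_num), j % 2, Nat.mod_lt _ (by norm_num), k % 2, Nat.mod_lt _ (by norm_num), ?_⟩
    rw [← pow_eq_pow_mod i hz2, ← pow_eq_pow_mod j hs2, ← pow_eq_pow_mod k hy2]
  have hab : ∀ a ∈ V, ∀ b ∈ V, a * b = b * a := by
    intro a ha b hb
    obtain ⟨i, j, k, rfl⟩ := hform a ha
    obtain ⟨i', j', k', rfl⟩ := hform b hb
    rw [hmul, hmul, add_comm i, add_comm j, add_comm k]
  have hO : ∀ v ∈ V, O4 z s 1 v ∨ O4 z s y v := by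
    intro v hv
    obtain ⟨i, hi, j, hj, k, hk, rfl⟩ := hform2 v hv
    have e1 : z * y = y * z := czy
    have e2 : s * y = y * s := csy
    have e3 : z * s * y = y * z * s := by rw [mul_assoc, e2, ← mul_assoc, e1]
    interval_cases i <;> interval_cases j <;> interval_cases k <;>
      simp only [pow_zero, pow_one, one_mul, mul_one, O4, e1, e2, e3, true_or, or_true]
  have hel : IsElementaryAbelian 2 V := by
    constructor
    · exact isMulCommutative_iff_of_setLike.2 hab
    · intro x hx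
      obtain ⟨i, j, k, rfl⟩ := hform x hx
      rw [pow_two]; exact hsq i j k
  have hp : IsPGroup 2 V := by
    intro x
    refine ⟨1, ?_⟩
    obtain ⟨i, j, k, h⟩ := hform x x.2
    apply Subtype.ext
    show (x : G) ^ 2 ^ 1 = 1
    rw [pow_one, pow_two, h]; exact hsq i j k
  have hcard : Nat.card V = 8 := by
    have : Fact (Nat.Prime 2) := ⟨Nat.prime_two⟩
    obtain ⟨n, hn⟩ := IsPGroup.iff_card.1 hp
    have hle : Nat.card V ≤ 8 := by
      let f : Fin 2 × Fin 2 × Fin 2 → V := fun t =>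
        ⟨z ^ (t.1 : ℕ) * s ^ (t.2.1 : ℕ) * y ^ (t.2.2 : ℕ),
          mul_mem (mul_mem (pow_mem hzV _) (pow_mem hsV _)) (pow_mem hyV _)⟩
      have hf : Function.Surjective f := by
        rintro ⟨v, hv⟩
        obtain ⟨i, hi, j, hj, k, hk, hv2⟩ := hform2 v hv
        exact ⟨(⟨i, hi⟩, ⟨j, hj⟩, ⟨k, hk⟩), Subtype.ext hv2.symm⟩
      have h1 := Nat.card_le_card_of_surjective f hf
      simpa using h1
    have hge : 5 ≤ Nat.card V := by
      classical
      have hs1 : s ≠ 1 := L.e1.z1
      have hz1 : z ≠ 1 := L.e0.z1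
      have hy : ¬ O4 z s 1 y := L.y1
      have y_1 : y ≠ 1 := fun h => hy (Or.inl h)
      have y_z : y ≠ z := fun h => hy (Or.inr (Or.inl (by rw [one_mul]; exact h)))
      have y_s : y ≠ s := fun h => hy (Or.inr (Or.inr (Or.inl (by rw [one_mul]; exact h))))
      have y_zs : y ≠ z * s := fun h => hy (Or.inr (Or.inr (Or.inr (by rw [one_mul]; exact h))))
      have zs1 : z * s ≠ 1 := fun h => L.sz (by
        have := eq_inv_of_mul_eq_one_right h
        rw [inv_eq_of_mul_eq_one_left zz] at this; exact this)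
      have zs_z : z * s ≠ z := fun h => hs1 (mul_eq_left.1 h)
      have zs_s : z * s ≠ s := fun h => hz1 (mul_eq_right.1 h)
      have hsub : (({1, z, s, z * s, y} : Finset G) : Set G) ⊆ (V : Set G) := by
        intro x hx
        simp only [Finset.coe_insert, Finset.coe_singleton, Set.mem_insert_iff, Set.mem_singleton_iff] at hx
        rcases hx with rfl | rfl | rfl | rfl | rfl
        · exact one_mem V
        · exact hzV
        · exact hsV
        · exact mul_mem hzV hsV
        · exact hyV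
      have h1 := Set.ncard_le_ncard hsub (Set.toFinite _)
      rw [Set.ncard_coe_finset] at h1
      have h2 : ({1, z, s, z * s, y} : Finset G).card = 5 := by
        rw [Finset.card_insert_of_notMem, Finset.card_insert_of_notMem, Finset.card_insert_of_notMem,
          Finset.card_insert_of_notMem, Finset.card_singleton]
        · simp only [Finset.mem_singleton]; exact y_zs.symm
        · simp only [Finset.mem_insert, Finset.mem_singleton, not_or]; exact ⟨zs_s.symm, y_s.symm⟩
        · simp only [Finset.mem_insert, Finset.mem_singleton, not_or]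
          exact ⟨L.sz.symm, zs_z.symm, y_z.symm⟩
        · simp only [Finset.mem_insert, Finset.mem_singleton, not_or]
          exact ⟨hz1.symm, hs1.symm, zs1.symm, y_1.symm⟩
      rw [h2] at h1
      exact h1
    rw [hn] at hle hge ⊢
    have h3 : n ≤ 3 := by
      by_contra hcon
      push Not at hcon
      have : 2 ^ 4 ≤ 2 ^ n := Nat.pow_le_pow_right (by norm_num) hcon
      omega
    interval_cases n <;> omega
  exact ⟨hel, hcard, hzV, hsV, hyV, hVQ, hVQ₁, hO⟩

end Cfsg.Agent.Lib.H97FeL1h34
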