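import Cfsg.Agent.Lib.H97Fe0
import Cfsg.Agent.Lib.H97FeL1
import Cfsg.Agent.Lib.H97FeL2

/-!
# S5445: piece FE-L3 (transitivity of the normaliser of V)
-/

set_option autoImplicit false

open Cfsg Cfsg.Agent.Lib.H97Fe0

namespace Cfsg.Agent.Lib.H97FeL3h37

theorem conj_mul {G : Type*} [Group G] (n m a : G) : (n * m) * a * (n * m)⁻¹ = n * (m * a * m⁻¹) * n⁻¹ := by
  group

theorem conj_dist {G : Type*} [Group G] (n a b : G) : n * (a * b) * n⁻¹ = (n * a * n⁻¹) * (n * b * n⁻¹) := by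
  group

theorem nrm {G : Type*} [Group G] [Finite G] (S : Set G) (V : Subgroup G) (hV : V = Subgroup.closure S) (n : G)
    (h : ∀ s ∈ S, n * s * n⁻¹ ∈ V) : n ∈ Subgroup.normalizer (V : Set G) := by
  have hle : V.map (MulAut.conj n).toMonoidHom ≤ V := by
    conv_lhs => rw [hV]
    rw [MonoidHom.map_closure, Subgroup.closure_le]
    rintro _ ⟨s, hs, rfl⟩
    simpa using h s hs
  have hcard : Nat.card ↥V ≤ Nat.card ↥(V.map (MulAut.conj n).toMonoidHom) := by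
    rw [Subgroup.card_map_of_injective (MulAut.conj n).injective]
  have heq : V.map (MulAut.conj n).toMonoidHom = V := Subgroup.eq_of_le_of_card_ge hle hcard
  rw [Subgroup.mem_normalizer_iff]
  intro v
  constructor
  · intro hv
    exact hle ⟨v, hv, by simp⟩
  · intro hv
    have h1 : n * v * n⁻¹ ∈ V.map (MulAut.conj n).toMonoidHom := by rw [heq]; exact hv
    obtain ⟨w, hw, hwe⟩ := h1
    have hwe' : n * w * n⁻¹ = n * v * n⁻¹ := by simpa using hwe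
    have : w = v := by
      have := mul_left_cancel (mul_right_cancel hwe')
      exact this
    rw [← this]; exact hw

theorem V_trans_aux {G : Type*} [Group G] [Finite G] {z s y : G} {Q Q₁ : Subgroup G} (L : Loc z s y Q Q₁) (V : Subgroup G)
    (hV : V = Subgroup.closure ({z, s, y} : Set G))
    (hv4 : ∀ v ∈ V, O4 z s 1 v ∨ O4 z s y v)
    (adj : ∀ {Q : Subgroup G} {z s : G} (_ : LE Q z) (_ : s ∈ Q) (_ : s * s = 1) (_ : s ≠ 1) (_ : s ≠ z),
      (∃ a ∈ Q, a * s * a⁻¹ = z * s) ∧ ∀ y ∈ Q, y ≠ 1 → y ≠ z → y ≠ s → y ≠ z * s → ∃ a ∈ Q, a * s = s * a ∧ a * y * a⁻¹ = y * z) :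
    (∀ v ∈ V, v ≠ 1 → ∃ n ∈ Subgroup.normalizer (V : Set G), n * z * n⁻¹ = v) ∧
    (∀ v ∈ V, v ≠ 1 → v ≠ z → ∃ n ∈ Subgroup.normalizer (V : Set G), n * z * n⁻¹ = z ∧ n * s * n⁻¹ = v) ∧
    (∀ v ∈ V, ¬ O4 z s 1 v → ∃ n ∈ Subgroup.normalizer (V : Set G), n * z * n⁻¹ = z ∧ n * s * n⁻¹ = s ∧ n * y * n⁻¹ = v) ∧
    (∃ n ∈ Subgroup.normalizer (V : Set G), ∀ a ∈ Q, n * a * n⁻¹ ∈ Q₁) := by
  have hz : z ∈ V := by rw [hV]; exact Subgroup.subset_closure (by simp)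
  have hs : s ∈ V := by rw [hV]; exact Subgroup.subset_closure (by simp)
  have hy : y ∈ V := by rw [hV]; exact Subgroup.subset_closure (by simp)
  have csz : s * z = z * s := L.e0.cen s L.sQ
  have cyz : y * z = z * y := L.e0.cen y L.yQ
  have cys : y * s = s * y := L.e1.cen y L.yQ₁
  have O4V : ∀ w, O4 z s y w → w ∈ V := by
    rintro w (rfl | rfl | rfl | rfl)
    · exact hy
    · exact V.mul_mem hy hz
    · exact V.mul_mem hy hs
    · exact V.mul_mem (V.mul_mem hy hz) hs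
  have hN := fun (n : G) (h1 : n * z * n⁻¹ ∈ V) (h2 : n * s * n⁻¹ ∈ V) (h3 : n * y * n⁻¹ ∈ V) =>
    nrm ({z, s, y} : Set G) V hV n (by
      rintro t (rfl | rfl | rfl)
      · exact h1
      · exact h2
      · exact h3)
  -- Q normalises V
  have hQ : ∀ a ∈ Q, a ∈ Subgroup.normalizer (V : Set G) := by
    have key : ∀ a ∈ Q, ∀ v ∈ Q, v ∈ V → a * v * a⁻¹ ∈ V := by
      intro a ha v hvQ hv
      rcases L.e0.comm a ha v hvQ with h | h
      · have : a * v * a⁻¹ = v := by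
          rw [mul_inv_eq_one] at h; exact h
        rw [this]; exact hv
      · have : a * v * a⁻¹ = z * v := by
          rw [mul_inv_eq_iff_eq_mul] at h; exact h
        rw [this]; exact V.mul_mem hz hv
    intro a ha
    exact hN a (key a ha z L.e0.zQ hz) (key a ha s L.sQ hs) (key a ha y L.yQ hy)
  have hQ1 : ∀ a ∈ Q₁, a ∈ Subgroup.normalizer (V : Set G) := by
    have key : ∀ a ∈ Q₁, ∀ v ∈ Q₁, v ∈ V → a * v * a⁻¹ ∈ V := by
      intro a ha v hvQ hv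
      rcases L.e1.comm a ha v hvQ with h | h
      · have : a * v * a⁻¹ = v := by
          rw [mul_inv_eq_one] at h; exact h
        rw [this]; exact hv
      · have : a * v * a⁻¹ = s * v := by
          rw [mul_inv_eq_iff_eq_mul] at h; exact h
        rw [this]; exact V.mul_mem hs hv
    intro a ha
    exact hN a (key a ha z L.zQ₁ hz) (key a ha s L.e1.zQ hs) (key a ha y L.yQ₁ hy)
  have cz : ∀ a ∈ Q, a * z * a⁻¹ = z := by
    intro a ha
    rw [L.e0.cen a ha]; group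
  have cs : ∀ a ∈ Q₁, a * s * a⁻¹ = s := by
    intro a ha
    rw [L.e1.cen a ha]; group
  have hzz := L.e0.zz
  have hss := L.e1.zz
  have yy := L.yy
  have ny1 : ¬ (y = 1) := fun h => L.y1 (Or.inl h)
  have nyz : ¬ (y = z) := fun h => L.y1 (Or.inr (Or.inl (by rw [h, one_mul])))
  have nys : ¬ (y = s) := fun h => L.y1 (Or.inr (Or.inr (Or.inl (by rw [h, one_mul]))))
  have nyzs : ¬ (y = z * s) := fun h => L.y1 (Or.inr (Or.inr (Or.inr (by rw [h, one_mul]))))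
  obtain ⟨⟨α, hα, hαs⟩, A2⟩ := adj L.e0 L.sQ hss L.e1.z1 L.sz
  obtain ⟨α', hα', hα's, hα'y⟩ := A2 y L.yQ ny1 nyz nys nyzs
  obtain ⟨-, B2⟩ := adj L.e1 L.zQ₁ hzz L.e0.z1 (Ne.symm L.sz)
  obtain ⟨β', hβ', hβ'z, hβ'y⟩ := B2 y L.yQ₁ ny1 nys nyz (by rw [csz]; exact nyzs)
  have α's : α' * s * α'⁻¹ = s := by rw [hα's]; group
  have β'z : β' * z * β'⁻¹ = z := by rw [hβ'z]; group
  have third : ∀ v ∈ V, ¬ O4 z s 1 v → ∃ n ∈ Subgroup.normalizer (V : Set G), n * z * n⁻¹ = z ∧ n * s * n⁻¹ = s ∧ n * y * n⁻¹ = v := by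
    intro v hv h
    rcases hv4 v hv with h' | h'
    · exact absurd h' h
    rcases h' with rfl | rfl | rfl | rfl
    · exact ⟨1, one_mem _, by simp, by simp, by simp⟩
    · exact ⟨α', hQ _ hα', cz _ hα', α's, hα'y⟩
    · exact ⟨β', hQ1 _ hβ', β'z, cs _ hβ', hβ'y⟩
    · refine ⟨β' * α', mul_mem (hQ1 _ hβ') (hQ _ hα'), ?_, ?_, ?_⟩
      · rw [conj_mul, cz _ hα', β'z]
      · rw [conj_mul, α's, cs _ hβ']
      · rw [conj_mul, hα'y, conj_dist, hβ'y, β'z, mul_assoc, csz, ← mul_assoc]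
  obtain ⟨x, hxz, hxs, hxy⟩ := L.t2
  have hxzz : x * z * x⁻¹ = z := by rw [hxz]; group
  have hxN : x ∈ Subgroup.normalizer (V : Set G) := by
    refine hN x (by rw [hxzz]; exact hz) (by rw [hxs]; exact hy) ?_
    rcases hxy with h | h
    · rw [h]; exact V.mul_mem hy hs
    · rw [h]; exact V.mul_mem (V.mul_mem hy hz) hs
  have second : ∀ v ∈ V, v ≠ 1 → v ≠ z → ∃ n ∈ Subgroup.normalizer (V : Set G), n * z * n⁻¹ = z ∧ n * s * n⁻¹ = v := by
    intro v hv hv1 hvz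
    by_cases h : O4 z s 1 v
    · rcases h with h | h | h | h
      · exact absurd h hv1
      · exact absurd (by rw [h, one_mul]) hvz
      · exact ⟨1, one_mem _, by simp, by rw [h]; simp⟩
      · exact ⟨α, hQ _ hα, cz _ hα, by rw [hαs, h, one_mul]⟩
    · obtain ⟨m, hm, hmz, hms, hmy⟩ := third v hv h
      refine ⟨m * x, mul_mem hm hxN, ?_, ?_⟩
      · rw [conj_mul, hxzz, hmz]
      · rw [conj_mul, hxs, hmy]
  obtain ⟨k, hkz, hks, hky, hkQ⟩ := L.t1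
  have hkN : k ∈ Subgroup.normalizer (V : Set G) :=
    hN k (by rw [hkz]; exact hs) (by rw [hks]; exact hz) (O4V _ hky)
  have first : ∀ v ∈ V, v ≠ 1 → ∃ n ∈ Subgroup.normalizer (V : Set G), n * z * n⁻¹ = v := by
    intro v hv hv1
    by_cases h : v = z
    · exact ⟨1, one_mem _, by rw [h]; simp⟩
    · obtain ⟨m, hm, hmz, hms⟩ := second v hv hv1 h
      refine ⟨m * k, mul_mem hm hkN, ?_⟩
      rw [conj_mul, hkz, hms]
  exact ⟨first, second, third, k, hkN, hkQ⟩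

theorem V_trans {G : Type*} [Group G] [Finite G] {z s y : G} {Q Q₁ : Subgroup G} (L : Loc z s y Q Q₁) (V : Subgroup G)
    (hV : V = Subgroup.closure ({z, s, y} : Set G)) :
    (∀ v ∈ V, v ≠ 1 → ∃ n ∈ Subgroup.normalizer (V : Set G), n * z * n⁻¹ = v) ∧
    (∀ v ∈ V, v ≠ 1 → v ≠ z → ∃ n ∈ Subgroup.normalizer (V : Set G), n * z * n⁻¹ = z ∧ n * s * n⁻¹ = v) ∧
    (∀ v ∈ V, ¬ O4 z s 1 v → ∃ n ∈ Subgroup.normalizer (V : Set G), n * z * n⁻¹ = z ∧ n * s * n⁻¹ = s ∧ n * y * n⁻¹ = v) ∧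
    (∃ n ∈ Subgroup.normalizer (V : Set G), ∀ a ∈ Q, n * a * n⁻¹ ∈ Q₁) :=
  V_trans_aux L V hV (Cfsg.Agent.Lib.H97FeL1.V_facts L V hV).2.2.2.2.2.2.2
    (fun h hs hss hs1 hsz => Cfsg.Agent.Lib.H97FeL2.adj h hs hss hs1 hsz)

end Cfsg.Agent.Lib.H97FeL3h37
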