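import Cfsg.Agent.Lib.H97Fe0

set_option autoImplicit false
set_option linter.all false
open Cfsg Cfsg.Agent.Lib.H97Fe0

namespace Cfsg.Agent.Lib.H97FeL4h5

theorem aut_gl {N : Type*} [Group N] [Finite N] (hcomm : ∀ a b : N, a * b = b * a) (hexp : ∀ n : N, n ^ 2 = 1)
    (hcard : Nat.card N = 8) : Nonempty (MulAut N ≃* Matrix.GeneralLinearGroup (Fin 3) (ZMod 2)) := by
  letI : CommGroup N := { (inferInstance : Group N) with mul_comm := hcomm }
  haveI : Fact (Nat.Prime 2) := ⟨Nat.prime_two⟩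
  letI : Module (ZMod 2) (Additive N) := AddCommGroup.zmodModule (n := 2) (fun x => by
    have := hexp (Additive.toMul x)
    rw [← ofMul_toMul x, ← ofMul_pow, this]; rfl)
  haveI : Module.Finite (ZMod 2) (Additive N) := Module.Finite.of_finite
  have hr : Module.finrank (ZMod 2) (Additive N) = 3 := by
    have h := Module.natCard_eq_pow_finrank (K := ZMod 2) (V := Additive N)
    have h8 : Nat.card (Additive N) = 8 := hcard
    rw [h8, Nat.card_zmod] at h
    have : (2:ℕ) ^ 3 = 2 ^ Module.finrank (ZMod 2) (Additive N) := by rw [← h]; norm_num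
    exact (Nat.pow_right_injective le_rfl this).symm
  let e : Additive N ≃ₗ[ZMod 2] (Fin 3 → ZMod 2) := (Module.finBasisOfFinrankEq (ZMod 2) (Additive N) hr).equivFun
  let L : MulAut N → Module.End (ZMod 2) (Fin 3 → ZMod 2) := fun f =>
    e.toLinearMap ∘ₗ (AddMonoidHom.toZModLinearMap 2 (MonoidHom.toAdditive f.toMonoidHom)) ∘ₗ e.symm.toLinearMap
  have hL : ∀ f x, L f x = e (Additive.ofMul (f (Additive.toMul (e.symm x)))) := fun f x => rfl
  let H : MulAut N →* Module.End (ZMod 2) (Fin 3 → ZMod 2) :=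
    { toFun := L
      map_one' := by
        apply LinearMap.ext
        intro x
        rw [hL]
        simp
      map_mul' := by
        intro f g
        apply LinearMap.ext
        intro x
        show L (f * g) x = L f (L g x)
        rw [hL, hL, hL]
        simp }
  have hH : Function.Injective H := by
    intro f g h
    apply MulEquiv.ext
    intro n
    have h1 := congrArg (fun T : Module.End (ZMod 2) (Fin 3 → ZMod 2) => T (e (Additive.ofMul n))) h
    have h2 : L f (e (Additive.ofMul n)) = L g (e (Additive.ofMul n)) := h1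
    rw [hL, hL] at h2
    simpa using h2
  let K : MulAut N →* Matrix (Fin 3) (Fin 3) (ZMod 2) :=
    (LinearMap.toMatrixAlgEquiv' (R := ZMod 2) (n := Fin 3)).toAlgHom.toRingHom.toMonoidHom.comp H
  have hK : Function.Injective K.toHomUnits := by
    intro f g h
    apply hH
    have h1 : (K.toHomUnits f : Matrix (Fin 3) (Fin 3) (ZMod 2)) = (K.toHomUnits g : Matrix _ _ _) := by rw [h]
    rw [MonoidHom.coe_toHomUnits, MonoidHom.coe_toHomUnits] at h1
    exact (LinearMap.toMatrixAlgEquiv' (R := ZMod 2) (n := Fin 3)).injective h1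
  let J : Matrix.GeneralLinearGroup (Fin 3) (ZMod 2) → MulAut N := fun A =>
    (MulEquiv.toAdditive (G := N) (H := N)).symm
      ((e.trans ((LinearMap.GeneralLinearGroup.generalLinearEquiv (ZMod 2) (Fin 3 → ZMod 2)
        (Matrix.GeneralLinearGroup.toLin A)).trans e.symm)).toAddEquiv)
  have hJ : Function.Injective J := by
    intro A B h
    have h1 := (MulEquiv.toAdditive (G := N) (H := N)).symm.injective h
    have h3 : LinearMap.GeneralLinearGroup.generalLinearEquiv (ZMod 2) (Fin 3 → ZMod 2)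
        (Matrix.GeneralLinearGroup.toLin A) = LinearMap.GeneralLinearGroup.generalLinearEquiv (ZMod 2) (Fin 3 → ZMod 2)
        (Matrix.GeneralLinearGroup.toLin B) := by
      apply LinearEquiv.ext
      intro x
      have h4 := congrArg (fun T : Additive N ≃+ Additive N => e (T (e.symm x))) h1
      simpa using h4
    exact (Matrix.GeneralLinearGroup.toLin).injective
      ((LinearMap.GeneralLinearGroup.generalLinearEquiv (ZMod 2) (Fin 3 → ZMod 2)).injective h3)
  haveI : Finite (MulAut N) := Finite.of_injective (fun f : MulAut N => (f : N → N)) DFunLike.coe_injective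
  have hc : Nat.card (MulAut N) = Nat.card (Matrix.GeneralLinearGroup (Fin 3) (ZMod 2)) :=
    le_antisymm (Nat.card_le_card_of_injective _ hK) (Nat.card_le_card_of_injective _ hJ)
  exact ⟨MulEquiv.ofBijective K.toHomUnits (by
    rw [Nat.bijective_iff_injective_and_card]; exact ⟨hK, hc⟩)⟩

theorem sl_gl : Nonempty (Matrix.GeneralLinearGroup (Fin 3) (ZMod 2) ≃* Matrix.SpecialLinearGroup (Fin 3) (ZMod 2)) := by
  have h2 : Function.Bijective (Matrix.SpecialLinearGroup.toGL :
      Matrix.SpecialLinearGroup (Fin 3) (ZMod 2) →* Matrix.GeneralLinearGroup (Fin 3) (ZMod 2)) := by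
    refine ⟨Matrix.SpecialLinearGroup.toGL_injective, ?_⟩
    intro A
    have hd : (A : Matrix (Fin 3) (Fin 3) (ZMod 2)).det = 1 := by
      have h1 : IsUnit (A : Matrix (Fin 3) (Fin 3) (ZMod 2)).det := (Matrix.isUnit_iff_isUnit_det _).1 A.isUnit
      have h2 : ∀ x : ZMod 2, x ≠ 0 → x = 1 := by decide
      exact h2 _ h1.ne_zero
    refine ⟨⟨A, hd⟩, ?_⟩
    apply Units.ext
    rfl
  exact ⟨(MulEquiv.ofBijective _ h2).symm⟩

/-- FE-L4 -/
theorem V_quot {G : Type*} [Group G] [Finite G] (z s y : G) (V : Subgroup G) (hE : IsElementaryAbelian 2 V) (hc : Nat.card V = 8)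
    (hz : z ∈ V) (hs : s ∈ V) (hy : y ∈ V) (hz1 : z ≠ 1) (hs1 : ¬ (s = 1 ∨ s = z)) (hy1 : ¬ O4 z s 1 y)
    (t1 : ∀ v ∈ V, v ≠ 1 → ∃ n ∈ Subgroup.normalizer (V : Set G), n * z * n⁻¹ = v)
    (t2 : ∀ v ∈ V, v ≠ 1 → v ≠ z → ∃ n ∈ Subgroup.normalizer (V : Set G), n * z * n⁻¹ = z ∧ n * s * n⁻¹ = v)
    (t3 : ∀ v ∈ V, ¬ O4 z s 1 v → ∃ n ∈ Subgroup.normalizer (V : Set G), n * z * n⁻¹ = z ∧ n * s * n⁻¹ = s ∧ n * y * n⁻¹ = v) :
    ∃ _ : ((Subgroup.centralizer (V : Set G)).subgroupOf (Subgroup.normalizer (V : Set G))).Normal,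
      Nonempty (↥(Subgroup.normalizer (V : Set G)) ⧸ (Subgroup.centralizer (V : Set G)).subgroupOf (Subgroup.normalizer (V : Set G)) ≃*
        Matrix.SpecialLinearGroup (Fin 3) (ZMod 2)) := by
  classical
  have hcomm : ∀ a ∈ V, ∀ b ∈ V, a * b = b * a := fun a ha b hb => by
    have := hE.1.is_comm.comm ⟨a, ha⟩ ⟨b, hb⟩
    exact congrArg Subtype.val this
  have hsq : ∀ a ∈ V, a * a = 1 := fun a ha => by
    rw [← pow_two]; exact hE.2 a ha
  -- V is generated by z s y
  have hgen : ∀ W : Subgroup G, W ≤ V → z ∈ W → s ∈ W → y ∈ W → W = V := by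
    intro W hW hzW hsW hyW
    apply Subgroup.eq_of_le_of_card_ge hW
    rw [hc]
    have hd : Nat.card W ∣ 8 := hc ▸ Subgroup.card_dvd_of_le hW
    by_contra hlt
    have h4 : Nat.card W ≤ 4 := by
      have h8 : Nat.card W ∣ 2 ^ 3 := hd
      obtain ⟨k, hk, hk2⟩ := (Nat.dvd_prime_pow Nat.prime_two).1 h8
      rw [hk2]
      have : k ≠ 3 := by rintro rfl; rw [hk2] at hlt; norm_num at hlt
      have : k ≤ 2 := by omega
      calc 2 ^ k ≤ 2 ^ 2 := Nat.pow_le_pow_right (by norm_num) this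
        _ = 4 := by norm_num
    let F : Fin 5 → W := ![1, ⟨z, hzW⟩, ⟨s, hsW⟩, ⟨z * s, W.mul_mem hzW hsW⟩, ⟨y, hyW⟩]
    have hF : Function.Injective F := by
      have hsz : ∀ a ∈ V, ∀ b ∈ V, a * b = 1 → a = b := fun a ha b hb h => by
        rw [← mul_left_inj b, h, hsq b hb]
      have n1 : s ≠ 1 := fun h => hs1 (Or.inl h)
      have n2 : s ≠ z := fun h => hs1 (Or.inr h)
      have m1 : y ≠ 1 := fun h => hy1 (Or.inl h)
      have m2 : y ≠ z := fun h => hy1 (Or.inr (Or.inl (by rw [h, one_mul])))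
      have m3 : y ≠ s := fun h => hy1 (Or.inr (Or.inr (Or.inl (by rw [h, one_mul]))))
      have m4 : y ≠ z * s := fun h => hy1 (Or.inr (Or.inr (Or.inr (by rw [h, one_mul]))))
      have k1 : z * s ≠ 1 := fun h => n2 (hsz z hz s hs h).symm
      have k2 : z * s ≠ z := fun h => n1 (mul_eq_left.1 h)
      have k3 : z * s ≠ s := fun h => hz1 (mul_eq_right.1 h)
      intro i j hij
      have hij' : ((F i : W) : G) = F j := congrArg _ hij
      fin_cases i <;> fin_cases j <;> first
        | rfl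
        | (exfalso
           simp only [F, Matrix.cons_val_zero, Matrix.cons_val_one, Matrix.cons_val, Fin.mk_one, Fin.zero_eta, Fin.reduceFinMk] at hij'
           first
            | exact hz1 hij' | exact hz1 hij'.symm
            | exact n1 hij' | exact n1 hij'.symm
            | exact n2 hij' | exact n2 hij'.symm
            | exact m1 hij' | exact m1 hij'.symm
            | exact m2 hij' | exact m2 hij'.symm
            | exact m3 hij' | exact m3 hij'.symm
            | exact m4 hij' | exact m4 hij'.symm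
            | exact k1 hij' | exact k1 hij'.symm
            | exact k2 hij' | exact k2 hij'.symm
            | exact k3 hij' | exact k3 hij'.symm)
    have h5 := Nat.card_le_card_of_injective F hF
    rw [Nat.card_eq_fintype_card, Fintype.card_fin] at h5
    omega
  let N : Subgroup G := Subgroup.normalizer (V : Set G)
  let ψ : N →* MulAut V := V.normalizerMonoidHom
  have hψ : ∀ (n : N) (v : V), ((ψ n v : V) : G) = (n : G) * v * (n : G)⁻¹ := fun n v => rfl
  have hker : ψ.ker = (Subgroup.centralizer (V : Set G)).subgroupOf N := by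
    exact Subgroup.normalizerMonoidHom_ker V
  have hsurj : Function.Surjective ψ := by
    intro α
    have a1 : ((α ⟨z, hz⟩ : V) : G) ≠ 1 := by
      intro h
      apply hz1
      have : α ⟨z, hz⟩ = 1 := Subtype.ext h
      have h2 := (MulEquiv.map_eq_one_iff α).1 this
      exact congrArg Subtype.val h2
    obtain ⟨n1, hn1, e1⟩ := t1 _ (α ⟨z, hz⟩).2 a1
    -- transport back
    have hn1' : n1⁻¹ ∈ N := N.inv_mem hn1
    set α1 : MulAut V := (ψ ⟨n1, hn1⟩)⁻¹ * α with hα1
    have b1 : α1 ⟨z, hz⟩ = ⟨z, hz⟩ := by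
      rw [hα1, MulAut.mul_apply, MulAut.inv_apply, MulEquiv.symm_apply_eq]
      apply Subtype.ext
      rw [hψ]; exact e1.symm
    have a2 : ((α1 ⟨s, hs⟩ : V) : G) ≠ 1 := by
      intro h
      apply hs1; left
      have : α1 ⟨s, hs⟩ = 1 := Subtype.ext h
      have h2 := (MulEquiv.map_eq_one_iff α1).1 this
      exact congrArg Subtype.val h2
    have a3 : ((α1 ⟨s, hs⟩ : V) : G) ≠ z := by
      intro h
      apply hs1; right
      have : α1 ⟨s, hs⟩ = α1 ⟨z, hz⟩ := by rw [b1]; exact Subtype.ext h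
      have h2 := α1.injective this
      exact congrArg Subtype.val h2
    obtain ⟨n2, hn2, e2, e2'⟩ := t2 _ (α1 ⟨s, hs⟩).2 a2 a3
    set α2 : MulAut V := (ψ ⟨n2, hn2⟩)⁻¹ * α1 with hα2
    have c1 : α2 ⟨z, hz⟩ = ⟨z, hz⟩ := by
      rw [hα2, MulAut.mul_apply, b1, MulAut.inv_apply, MulEquiv.symm_apply_eq]
      apply Subtype.ext
      rw [hψ]; exact e2.symm
    have c2 : α2 ⟨s, hs⟩ = ⟨s, hs⟩ := by
      rw [hα2, MulAut.mul_apply, MulAut.inv_apply, MulEquiv.symm_apply_eq]
      apply Subtype.ext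
      rw [hψ]; exact e2'.symm
    have a4 : ¬ O4 z s 1 ((α2 ⟨y, hy⟩ : V) : G) := by
      intro h
      apply hy1
      have key : ∀ w : V, α2 w = w → ((α2 ⟨y, hy⟩ : V) : G) = w → y = w := by
        intro w hw h
        have : α2 ⟨y, hy⟩ = α2 w := by rw [hw]; exact Subtype.ext h
        exact congrArg Subtype.val (α2.injective this)
      rcases h with h | h | h | h
      · left; exact key 1 (map_one α2) h
      · right; left; exact key (1 * ⟨z, hz⟩) (by rw [map_mul, map_one, c1]) h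
      · right; right; left; exact key (1 * ⟨s, hs⟩) (by rw [map_mul, map_one, c2]) h
      · right; right; right; exact key (1 * ⟨z, hz⟩ * ⟨s, hs⟩) (by rw [map_mul, map_mul, map_one, c1, c2]) h
    obtain ⟨n3, hn3, e3, e3', e3''⟩ := t3 _ (α2 ⟨y, hy⟩).2 a4
    have hα3 : ψ ⟨n3, hn3⟩ = α2 := by
      have hW := hgen (((ψ ⟨n3, hn3⟩).toMonoidHom.eqLocus α2.toMonoidHom).map V.subtype) (Subgroup.map_subtype_le _)
        ⟨⟨z, hz⟩, by
          show ψ ⟨n3, hn3⟩ ⟨z, hz⟩ = α2 ⟨z, hz⟩
          rw [c1]; apply Subtype.ext; rw [hψ]; exact e3, rfl⟩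
        ⟨⟨s, hs⟩, by
          show ψ ⟨n3, hn3⟩ ⟨s, hs⟩ = α2 ⟨s, hs⟩
          rw [c2]; apply Subtype.ext; rw [hψ]; exact e3', rfl⟩
        ⟨⟨y, hy⟩, by
          show ψ ⟨n3, hn3⟩ ⟨y, hy⟩ = α2 ⟨y, hy⟩
          apply Subtype.ext; rw [hψ]; exact e3'', rfl⟩
      apply MulEquiv.ext
      intro v
      have hv : (v : G) ∈ (((ψ ⟨n3, hn3⟩).toMonoidHom.eqLocus α2.toMonoidHom).map V.subtype) := by
        rw [hW]; exact v.2
      obtain ⟨w, hw, hwv⟩ := hv
      have : w = v := Subtype.ext hwv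
      rw [← this]
      exact hw
    refine ⟨⟨n1, hn1⟩ * ⟨n2, hn2⟩ * ⟨n3, hn3⟩, ?_⟩
    rw [map_mul, map_mul, hα3, hα2, hα1]
    group
  obtain ⟨f⟩ := aut_gl (N := V) (fun a b => Subtype.ext (hcomm a a.2 b b.2)) (fun n => by
    apply Subtype.ext
    show (n : G) ^ 2 = 1
    rw [pow_two]; exact hsq n n.2) hc
  obtain ⟨g⟩ := sl_gl
  have hnorm : ((Subgroup.centralizer (V : Set G)).subgroupOf N).Normal := by
    rw [← hker]; infer_instance
  refine ⟨hnorm, ⟨?_⟩⟩
  exact ((QuotientGroup.quotientMulEquivOfEq hker.symm).trans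
    (QuotientGroup.quotientKerEquivOfSurjective ψ hsurj)).trans (f.trans g)

end Cfsg.Agent.Lib.H97FeL4h5
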