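import Cfsg.Agent.Lib.H97Fe0
import Cfsg.Agent.Lib.H70AltPrime
import Cfsg.Agent.Lib.ClSLn
import Cfsg.Agent.Lib.Cores2

/-! S5445, piece FE-L5 (second seat, helper14). -/

set_option autoImplicit false
set_option linter.all false
open Cfsg Cfsg.Agent.Lib.H97Fe0

namespace Cfsg.Agent.Lib.H97FeL5h14

open Subgroup Cfsg.Agent.Lib.Cores

theorem simple_sl32 : IsSimpleGroup (Matrix.SpecialLinearGroup (Fin 3) (ZMod 2)) := by
  have h1 : IsSimpleGroup (Matrix.ProjectiveSpecialLinearGroup (Fin 3) (ZMod 2)) :=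
    Cfsg.Agent.Lib.ClSLn.isSimpleGroup_PSL (by norm_num) (fun h => by omega)
  have hc : center (Matrix.SpecialLinearGroup (Fin 3) (ZMod 2)) = ⊥ := by
    rw [eq_bot_iff]
    intro A hA
    rw [Matrix.SpecialLinearGroup.mem_center_iff] at hA
    obtain ⟨r, hr, hrA⟩ := hA
    have hr1 : r = 1 := by
      have hdec : ∀ r : ZMod 2, r ^ 3 = 1 → r = 1 := by decide
      exact hdec r (by simpa using hr)
    rw [mem_bot]
    apply Subtype.ext
    rw [← hrA, hr1]; simp
  have e : Matrix.SpecialLinearGroup (Fin 3) (ZMod 2) ≃* Matrix.ProjectiveSpecialLinearGroup (Fin 3) (ZMod 2) :=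
    (QuotientGroup.quotientBot.symm.trans (QuotientGroup.quotientMulEquivOfEq hc.symm))
  exact (MulEquiv.isSimpleGroup_congr e).2 h1

theorem card_sl32 : Nat.card (Matrix.SpecialLinearGroup (Fin 3) (ZMod 2)) = 168 := by
  have h := Cfsg.Agent.Lib.ClSLn.card_SL_formula (F := ZMod 2) (q := 2) (ZMod.card 2) 3 (by norm_num)
  simp [Finset.prod_range_succ, -Nat.card_eq_fintype_card] at h
  omega

theorem card_a6 : Nat.card (alternatingGroup (Fin 6)) = 360 := by
  have := nat_card_alternatingGroup (α := Fin 6)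
  rw [Nat.card_eq_fintype_card (α := Fin 6), Fintype.card_fin] at this
  rw [this]; decide

theorem simple_a6 : IsSimpleGroup (alternatingGroup (Fin 6)) := alternatingGroup.isSimpleGroup (by simp)

theorem center_a6 : center (alternatingGroup (Fin 6)) = ⊥ := by
  haveI := simple_a6
  rcases (inferInstance : (center (alternatingGroup (Fin 6))).Normal).eq_bot_or_eq_top with h | h
  · exact h
  · exfalso
    have h1 : ∀ a b : alternatingGroup (Fin 6), a * b = b * a := fun a b => by
      have : b ∈ center (alternatingGroup (Fin 6)) := by rw [h]; trivial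
      exact (mem_center_iff.1 this a)
    revert h1
    decide +kernel

theorem prodP {G : Type*} [Group G] [Finite G] (N : Subgroup G) [N.Normal] (ψ : N ≃* alternatingGroup (Fin 6))
    (e3 : G ⧸ N ≃* Matrix.SpecialLinearGroup (Fin 3) (ZMod 2)) :
    Nonempty (G ≃* Matrix.SpecialLinearGroup (Fin 3) (ZMod 2) × alternatingGroup (Fin 6)) := by
  haveI hsq : IsSimpleGroup (G ⧸ N) := (MulEquiv.isSimpleGroup_congr e3).2 simple_sl32
  let Φ : G →* MulAut (alternatingGroup (Fin 6)) := (MulAut.congr ψ).toMonoidHom.comp MulAut.conjNormal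
  have hΦ : ∀ (g : G) (n : N), Φ g (ψ n) = ψ (MulAut.conjNormal g n) := by
    intro g n
    show ψ (MulAut.conjNormal g (ψ.symm (ψ n))) = _
    rw [MulEquiv.symm_apply_apply]
  set D := Φ.ker with hD
  have hmem : ∀ g, g ∈ D ↔ ∀ n : N, g * n * g⁻¹ = n := by
    intro g
    rw [hD, MonoidHom.mem_ker]
    constructor
    · intro h n
      have h1 := hΦ g n
      rw [h] at h1
      have h2 : n = MulAut.conjNormal g n := ψ.injective h1
      have h3 := congrArg Subtype.val h2
      rw [MulAut.conjNormal_apply] at h3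
      exact h3.symm
    · intro h
      ext x
      obtain ⟨n, rfl⟩ := ψ.surjective x
      rw [hΦ]
      have : MulAut.conjNormal g n = n := by
        apply Subtype.ext
        rw [MulAut.conjNormal_apply]; exact h n
      rw [this]; rfl
  have hDN : D ⊓ N = ⊥ := by
    rw [eq_bot_iff]
    rintro g ⟨hg1, hg2⟩
    have h1 : ψ ⟨g, hg2⟩ ∈ center (alternatingGroup (Fin 6)) := by
      rw [mem_center_iff]
      intro x
      obtain ⟨n, rfl⟩ := ψ.surjective x
      rw [← map_mul, ← map_mul]
      congr 1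
      apply Subtype.ext
      have h2 := (hmem g).1 hg1 n
      show (n : G) * g = g * n
      exact (mul_inv_eq_iff_eq_mul.1 h2).symm
    rw [center_a6, mem_bot] at h1
    have h2 : (⟨g, hg2⟩ : N) = 1 := by
      rw [← map_one ψ] at h1
      exact ψ.injective h1
    exact congrArg Subtype.val h2
  have hcN : Nat.card N = 360 := by rw [Nat.card_congr ψ.toEquiv, card_a6]
  have hcQ : Nat.card (G ⧸ N) = 168 := by rw [Nat.card_congr e3.toEquiv, card_sl32]
  have hcG : Nat.card G = 168 * 360 := by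
    rw [Subgroup.card_eq_card_quotient_mul_card_subgroup N, hcN, hcQ]
  have hsup : D ⊔ N = ⊤ := by
    have hmn : (D.map (QuotientGroup.mk' N)).Normal := Subgroup.Normal.map inferInstance _ (QuotientGroup.mk'_surjective N)
    rcases hmn.eq_bot_or_eq_top with h | h
    · exfalso
      have hDN' : D ≤ N := by
        rw [Subgroup.map_eq_bot_iff, QuotientGroup.ker_mk'] at h
        exact h
      haveI : Fact (Nat.Prime 7) := ⟨by norm_num⟩
      obtain ⟨x, hx⟩ := exists_prime_orderOf_dvd_card' (G := G) 7 (by rw [hcG]; norm_num)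
      have hx7 : x ^ 7 = 1 := by rw [← hx]; exact pow_orderOf_eq_one x
      have hΦx : (Φ x) ^ 7 = 1 := by rw [← map_pow, hx7, map_one]
      have hodd : Odd (orderOf (Φ x)) := Odd.of_dvd_nat (by decide) (orderOf_dvd_of_pow_eq_one hΦx)
      obtain ⟨π, hπ⟩ := Cfsg.Agent.Lib.H70AltPrime.exists_perm_six (Φ x) hodd
      -- Φ x = 1
      have hone : Φ x = 1 := by
        have h7 : orderOf (Φ x) ∣ 7 := orderOf_dvd_of_pow_eq_one hΦx
        have h720 : orderOf (Φ x) ∣ 720 := by
          rw [← hπ]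
          refine (orderOf_map_dvd _ π).trans ?_
          have := orderOf_dvd_natCard π
          rwa [Nat.card_eq_fintype_card, Fintype.card_perm, Fintype.card_fin] at this
        have h1 : orderOf (Φ x) ∣ 1 := by
          have := Nat.dvd_gcd h7 h720
          simpa using this
        exact orderOf_eq_one_iff.1 (Nat.dvd_one.1 h1)
      have hxD : x ∈ D := hone
      have hxN : x ∈ N := hDN' hxD
      have h8 : orderOf (⟨x, hxN⟩ : N) = 7 := by rw [← Subgroup.orderOf_coe]; exact hx
      have h9 := orderOf_dvd_natCard (⟨x, hxN⟩ : N)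
      rw [h8, hcN] at h9
      revert h9; decide
    · have h1 : (D ⊔ N).map (QuotientGroup.mk' N) = ⊤ := by
        rw [eq_top_iff, ← h]; exact Subgroup.map_mono le_sup_left
      have h2 := congrArg (Subgroup.comap (QuotientGroup.mk' N)) h1
      rw [Subgroup.comap_top, Subgroup.comap_map_eq, QuotientGroup.ker_mk', sup_assoc, sup_idem] at h2
      exact h2
  -- G ≅ (G/N) × (G/D)
  let f : G →* (G ⧸ N) × (G ⧸ D) := MonoidHom.prod (QuotientGroup.mk' N) (QuotientGroup.mk' D)
  have hfi : Function.Injective f := by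
    rw [injective_iff_map_eq_one]
    intro g hg
    have h1 : g ∈ N := (QuotientGroup.eq_one_iff g).1 (congrArg Prod.fst hg)
    have h2 : g ∈ D := (QuotientGroup.eq_one_iff g).1 (congrArg Prod.snd hg)
    have h3 : g ∈ D ⊓ N := ⟨h2, h1⟩
    rw [hDN, mem_bot] at h3
    exact h3
  -- N ≅ G/D
  let gN : N →* G ⧸ D := (QuotientGroup.mk' D).comp N.subtype
  have hgi : Function.Injective gN := by
    rw [injective_iff_map_eq_one]
    intro n hn
    have h1 : (n : G) ∈ D := (QuotientGroup.eq_one_iff (n : G)).1 hn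
    have h3 : (n : G) ∈ D ⊓ N := ⟨h1, n.2⟩
    rw [hDN, mem_bot] at h3
    exact Subtype.ext h3
  have hgs : Function.Surjective gN := by
    intro y
    obtain ⟨g, rfl⟩ := QuotientGroup.mk_surjective y
    have hg : g ∈ D ⊔ N := by rw [hsup]; trivial
    rw [sup_comm, Subgroup.mem_sup_of_normal_right] at hg
    obtain ⟨n, hn, d, hd, rfl⟩ := hg
    refine ⟨⟨n, hn⟩, ?_⟩
    show (QuotientGroup.mk' D) n = _
    exact (QuotientGroup.eq.2 (by rw [inv_mul_cancel_left]; exact hd))
  let eN : N ≃* G ⧸ D := MulEquiv.ofBijective gN ⟨hgi, hgs⟩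
  have hcD : Nat.card (G ⧸ D) = 360 := by rw [← Nat.card_congr eN.toEquiv, hcN]
  have hfb : Function.Bijective f := by
    rw [Nat.bijective_iff_injective_and_card]
    refine ⟨hfi, ?_⟩
    rw [Nat.card_prod, hcQ, hcD, hcG]
  exact ⟨(MulEquiv.ofBijective f hfb).trans (MulEquiv.prodCongr e3 (eN.symm.trans ψ))⟩

theorem quot_prod {L : Type*} [Group L] [Finite L] (C R : Subgroup L) [C.Normal] (hRC : R ≤ C) (hR : IsPGroup 2 R)
    (h6 : ∃ φ : C →* alternatingGroup (Fin 6), Function.Surjective φ ∧ ∀ c : C, φ c = 1 ↔ (c : L) ∈ R)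
    (h3 : Nonempty (L ⧸ C ≃* Matrix.SpecialLinearGroup (Fin 3) (ZMod 2))) :
    pCore 2 L = R ∧ ∃ _ : R.Normal, Nonempty (L ⧸ R ≃* Matrix.SpecialLinearGroup (Fin 3) (ZMod 2) × alternatingGroup (Fin 6)) := by
  obtain ⟨φ, hφs, hφ⟩ := h6
  obtain ⟨e3⟩ := h3
  haveI hsq : IsSimpleGroup (L ⧸ C) := (MulEquiv.isSimpleGroup_congr e3).2 simple_sl32
  haveI := simple_a6
  -- normal 2-subgroups of C lie in R
  have hkey : ∀ T : Subgroup L, T ≤ C → IsPGroup 2 T → (∀ c ∈ C, ∀ t ∈ T, c * t * c⁻¹ ∈ T) → T ≤ R := by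
    intro T hTC hT hn
    have h1 : ((T.subgroupOf C).map φ).Normal := by
      constructor
      rintro _ ⟨t, ht, rfl⟩ x
      obtain ⟨c, rfl⟩ := hφs x
      refine ⟨c * t * c⁻¹, ?_, by simp⟩
      exact hn c c.2 t ht
    rcases h1.eq_bot_or_eq_top with h | h
    · intro t ht
      rw [← hφ ⟨t, hTC ht⟩]
      have : φ ⟨t, hTC ht⟩ ∈ (T.subgroupOf C).map φ := ⟨_, ht, rfl⟩
      rw [h, mem_bot] at this
      exact this
    · exfalso
      have h2 : IsPGroup 2 (T.subgroupOf C) := hT.comap_subtype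
      have h4 : IsPGroup 2 ((T.subgroupOf C).map φ) := h2.map φ
      obtain ⟨n, hn⟩ := IsPGroup.iff_card.1 h4
      rw [h, Subgroup.card_top, card_a6] at hn
      have h5 : 5 ∣ 2 ^ n := by rw [← hn]; decide
      have := (Nat.Prime.dvd_of_dvd_pow (by norm_num) h5)
      revert this; decide
  have hRn : R.Normal := by
    constructor
    intro r hr g
    have hle := hkey (R.map (MulAut.conj g).toMonoidHom) (by
        rintro _ ⟨x, hx, rfl⟩
        exact Subgroup.Normal.conj_mem inferInstance x (hRC hx) g) (hR.map _) (by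
        rintro c hc _ ⟨x, hx, rfl⟩
        refine ⟨(g⁻¹ * c * g) * x * (g⁻¹ * c * g)⁻¹, ?_, ?_⟩
        · have hc' : g⁻¹ * c * g ∈ C := by
            have := Subgroup.Normal.conj_mem (inferInstance : C.Normal) c hc g⁻¹
            rwa [inv_inv] at this
          have h1 : φ (⟨g⁻¹ * c * g, hc'⟩ * ⟨x, hRC hx⟩ * ⟨g⁻¹ * c * g, hc'⟩⁻¹) = 1 := by
            rw [map_mul, map_mul, (hφ ⟨x, hRC hx⟩).2 hx, mul_one, ← map_mul, mul_inv_cancel, map_one]
          exact (hφ _).1 h1
        · show g * ((g⁻¹ * c * g) * x * (g⁻¹ * c * g)⁻¹) * g⁻¹ = c * (g * x * g⁻¹) * c⁻¹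
          group)
    exact hle ⟨r, hr, rfl⟩
  refine ⟨?_, hRn, ?_⟩
  · apply le_antisymm
    · have hO : (pCore 2 L).Normal := inferInstance
      have hOp := isPGroup_pCore 2 L
      have hOC : pCore 2 L ≤ C := by
        have hmn : ((pCore 2 L).map (QuotientGroup.mk' C)).Normal := Subgroup.Normal.map inferInstance _ (QuotientGroup.mk'_surjective C)
        rcases hmn.eq_bot_or_eq_top with h | h
        · rw [Subgroup.map_eq_bot_iff, QuotientGroup.ker_mk'] at h
          exact h
        · exfalso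
          obtain ⟨n, hn⟩ := IsPGroup.iff_card.1 (hOp.map (QuotientGroup.mk' C))
          rw [h, Subgroup.card_top, Nat.card_congr e3.toEquiv, card_sl32] at hn
          have h5 : 7 ∣ 2 ^ n := by rw [← hn]; decide
          have := (Nat.Prime.dvd_of_dvd_pow (by norm_num) h5)
          revert this; decide
      exact hkey _ hOC hOp (fun c _ t ht => hO.conj_mem t ht c)
    · exact le_pCore hRn hR
  · set q := QuotientGroup.mk' R with hq
    have hqs : Function.Surjective q := QuotientGroup.mk'_surjective R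
    haveI hNn : (C.map q).Normal := Subgroup.Normal.map inferInstance q hqs
    let f1 : C →* C.map q :=
      { toFun := fun c => ⟨q c, c, c.2, rfl⟩
        map_one' := by apply Subtype.ext; simp
        map_mul' := by intro a b; apply Subtype.ext; simp }
    have hf1s : Function.Surjective f1 := by
      rintro ⟨_, c, hc, rfl⟩
      exact ⟨⟨c, hc⟩, rfl⟩
    have hker : f1.ker = φ.ker := by
      ext c
      rw [MonoidHom.mem_ker, MonoidHom.mem_ker, hφ]
      constructor
      · intro h
        exact (QuotientGroup.eq_one_iff (c : L)).1 (congrArg Subtype.val h)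
      · intro h
        exact Subtype.ext ((QuotientGroup.eq_one_iff (c : L)).2 h)
    have ψ : C.map q ≃* alternatingGroup (Fin 6) :=
      (QuotientGroup.quotientKerEquivOfSurjective f1 hf1s).symm.trans
        ((QuotientGroup.quotientMulEquivOfEq hker).trans (QuotientGroup.quotientKerEquivOfSurjective φ hφs))
    have e4 : (L ⧸ R) ⧸ C.map q ≃* L ⧸ C := QuotientGroup.quotientQuotientEquivQuotient R C hRC
    exact prodP (C.map q) ψ (e4.trans e3)

end Cfsg.Agent.Lib.H97FeL5h14
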