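import Cfsg.Agent.Lib.H97Fe0

set_option autoImplicit false
open Cfsg Cfsg.Agent.Lib.H97Fe0

namespace Cfsg.Agent.Lib.H97FeL6_57

theorem card_prod' {G : Type*} [Group G] [Finite G] {A B R : Subgroup G}
    (hR : ∀ c, c ∈ R ↔ ∃ a ∈ A, ∃ b ∈ B, c = a * b) :
    Nat.card R * Nat.card ↥(A ⊓ B) = Nat.card A * Nat.card B := by
  have hA : A ≤ R := fun a ha => (hR a).mpr ⟨a, ha, 1, B.one_mem, by simp⟩
  have hB : B ≤ R := fun b hb => (hR b).mpr ⟨1, A.one_mem, b, hb, by simp⟩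
  have h1 : Nat.card (A ⧸ B.subgroupOf A) = Nat.card (R ⧸ B.subgroupOf R) := by
    refine Nat.card_congr (Equiv.ofBijective (Subgroup.quotientSubgroupOfEmbeddingOfLE B hA) ⟨(Subgroup.quotientSubgroupOfEmbeddingOfLE B hA).injective, ?_⟩)
    intro x
    induction x using QuotientGroup.induction_on with
    | H x =>
      obtain ⟨a, ha, b, hb, he⟩ := (hR x).mp x.2
      refine ⟨QuotientGroup.mk ⟨a, ha⟩, ?_⟩
      rw [Subgroup.quotientSubgroupOfEmbeddingOfLE_apply_mk]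
      rw [QuotientGroup.eq, Subgroup.mem_subgroupOf]
      simp only [Subgroup.coe_mul, InvMemClass.coe_inv, Subgroup.coe_inclusion, he]
      simpa using hb
  have h3 := Subgroup.card_mul_index (B.subgroupOf R)
  have h4 := Subgroup.card_mul_index (B.subgroupOf A)
  have h5 : Nat.card (B.subgroupOf R) = Nat.card B := Nat.card_congr (Subgroup.subgroupOfEquivOfLe hB).toEquiv
  have h6 : Nat.card (B.subgroupOf A) = Nat.card ↥(A ⊓ B) := by
    have h7 : (A ⊓ B).subgroupOf A = B.subgroupOf A := by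
      ext x; simp [Subgroup.mem_subgroupOf]
    rw [← h7]
    exact Nat.card_congr (Subgroup.subgroupOfEquivOfLe inf_le_left).toEquiv
  rw [h5] at h3
  rw [h6] at h4
  change Nat.card B * Nat.card (R ⧸ B.subgroupOf R) = _ at h3
  change Nat.card ↥(A ⊓ B) * Nat.card (A ⧸ B.subgroupOf A) = _ at h4
  rw [← h3, ← h4, h1]
  ring

theorem R_facts_of {G : Type*} [Group G] [Finite G] {z s y : G} {Q Q₁ : Subgroup G} (L : Loc z s y Q Q₁) (C : Subgroup G)
    (hC : C = Subgroup.centralizer ({z, s, y} : Set G))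
    (hV8 : Nat.card (Subgroup.closure ({z, s, y} : Set G)) = 8) :
    ∃ R : Subgroup G, (∀ c, c ∈ R ↔ ∃ a ∈ Q ⊓ C, ∃ b ∈ Q₁ ⊓ C, c = a * b) ∧ IsPGroup 2 R ∧ Nat.card R = 2 ^ 15 ∧ R ≤ C ∧
      Nat.card ↥(Q ⊓ C) = 2 ^ 11 ∧ Nat.card ↥(Q₁ ⊓ C) = 2 ^ 11 ∧
      (∀ c ∈ C, c ∈ R ↔ ∃ a ∈ Q, ∃ b ∈ Q₁, b * z = z * b ∧ c = a * b) := by
  have hmem : ∀ c, c ∈ C ↔ (c * z = z * c ∧ c * s = s * c ∧ c * y = y * c) := by
    intro c
    rw [hC, Subgroup.mem_centralizer_iff]
    constructor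
    · intro h
      exact ⟨(h z (by simp)).symm, (h s (by simp)).symm, (h y (by simp)).symm⟩
    · rintro ⟨h1, h2, h3⟩ x hx
      simp only [Set.mem_insert_iff, Set.mem_singleton_iff] at hx
      rcases hx with rfl | rfl | rfl
      · exact h1.symm
      · exact h2.symm
      · exact h3.symm
  have hVQ : Subgroup.closure ({z, s, y} : Set G) ≤ Q := by
    rw [Subgroup.closure_le]
    intro x hx
    simp only [Set.mem_insert_iff, Set.mem_singleton_iff] at hx
    rcases hx with rfl | rfl | rfl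
    · exact L.e0.zQ
    · exact L.sQ
    · exact L.yQ
  have hVQ₁ : Subgroup.closure ({z, s, y} : Set G) ≤ Q₁ := by
    rw [Subgroup.closure_le]
    intro x hx
    simp only [Set.mem_insert_iff, Set.mem_singleton_iff] at hx
    rcases hx with rfl | rfl | rfl
    · exact L.zQ₁
    · exact L.e1.zQ
    · exact L.yQ₁
  have hCV : Subgroup.centralizer ((Subgroup.closure ({z, s, y} : Set G) : Subgroup G) : Set G) = C := by
    rw [hC, Subgroup.centralizer_closure]
  have c0 : Nat.card ↥(Q ⊓ C) = 2 ^ 11 := by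
    have h := L.e0.dual _ hVQ (Subgroup.subset_closure (by simp))
    rw [hCV, hV8] at h
    omega
  have c1 : Nat.card ↥(Q₁ ⊓ C) = 2 ^ 11 := by
    have h := L.e1.dual _ hVQ₁ (Subgroup.subset_closure (by simp))
    rw [hCV, hV8] at h
    omega
  have hcj : ∀ b ∈ C, ∀ a ∈ Q ⊓ C, b * a * b⁻¹ ∈ Q ⊓ C := by
    intro b hb a ha
    exact ⟨L.n0 b ((hmem b).mp hb).1 a ha.1, C.mul_mem (C.mul_mem hb ha.2) (C.inv_mem hb)⟩
  let R : Subgroup G :=
    { carrier := {c | ∃ a ∈ Q ⊓ C, ∃ b ∈ Q₁ ⊓ C, c = a * b}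
      mul_mem' := by
        rintro _ _ ⟨a, ha, b, hb, rfl⟩ ⟨a', ha', b', hb', rfl⟩
        refine ⟨a * (b * a' * b⁻¹), mul_mem ha (hcj b hb.2 a' ha'), b * b', mul_mem hb hb', by group⟩
      one_mem' := ⟨1, one_mem _, 1, one_mem _, by simp⟩
      inv_mem' := by
        rintro _ ⟨a, ha, b, hb, rfl⟩
        refine ⟨b⁻¹ * a⁻¹ * b⁻¹⁻¹, hcj b⁻¹ (C.inv_mem hb.2) a⁻¹ (inv_mem ha), b⁻¹, inv_mem hb, by group⟩ }
  have hR : ∀ c, c ∈ R ↔ ∃ a ∈ Q ⊓ C, ∃ b ∈ Q₁ ⊓ C, c = a * b := fun c => Iff.rfl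
  have hinf : (Q ⊓ C) ⊓ (Q₁ ⊓ C) = Q ⊓ Q₁ := by
    apply le_antisymm
    · exact le_inf (inf_le_left.trans inf_le_left) (inf_le_right.trans inf_le_left)
    · intro a ha
      have haC : a ∈ C := by
        rw [hmem]
        exact ⟨L.e0.cen a ha.1, L.e1.cen a ha.2, L.abE a ha.1 ha.2 y L.yQ L.yQ₁⟩
      exact ⟨⟨ha.1, haC⟩, ⟨ha.2, haC⟩⟩
  have hcard : Nat.card R = 2 ^ 15 := by
    have h := card_prod' hR
    rw [hinf, L.cE, c0, c1] at h
    omega
  refine ⟨R, hR, IsPGroup.of_card hcard, hcard, ?_, c0, c1, ?_⟩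
  · rintro _ ⟨a, ha, b, hb, rfl⟩
    exact C.mul_mem ha.2 hb.2
  · intro c hc
    constructor
    · rintro ⟨a, ha, b, hb, rfl⟩
      exact ⟨a, ha.1, b, hb.1, ((hmem b).mp hb.2).1, rfl⟩
    · rintro ⟨a, ha, b, hb, hbz, he⟩
      have hbs : b * s = s * b := L.e1.cen b hb
      have hcy : c * y = y * c := ((hmem c).mp hc).2.2
      have h1 : b * y * b⁻¹ = a⁻¹ * y * a := by
        rw [he] at hcy
        have : a * (b * y * b⁻¹) = a * (a⁻¹ * y * a) := by
          calc a * (b * y * b⁻¹) = (a * b * y) * b⁻¹ := by group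
            _ = (y * (a * b)) * b⁻¹ := by rw [hcy]
            _ = a * (a⁻¹ * y * a) := by group
        exact mul_left_cancel this
      have h2 := L.e1.comm b hb y L.yQ₁
      have h3 := L.e0.comm a⁻¹ (Q.inv_mem ha) y L.yQ
      have hby : b * y * b⁻¹ = y := by
        rcases h2 with h2 | h2
        · rw [mul_inv_eq_one] at h2
          exact h2
        · exfalso
          rcases h3 with h3 | h3
          · rw [inv_inv, mul_inv_eq_one] at h3
            rw [h1, h3, mul_inv_cancel] at h2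
            exact L.e1.z1 h2.symm
          · rw [inv_inv, ← h1, h2] at h3
            exact L.sz h3
      have hby' : b * y = y * b := by
        rw [mul_inv_eq_iff_eq_mul] at hby
        exact hby
      have hbC : b ∈ C := (hmem b).mpr ⟨hbz, hbs, hby'⟩
      have haC : a ∈ C := by
        have : a = c * b⁻¹ := by rw [he]; group
        rw [this]
        exact C.mul_mem hc (C.inv_mem hbC)
      exact ⟨a, ⟨ha, haC⟩, b, ⟨hb, hbC⟩, he⟩

end Cfsg.Agent.Lib.H97FeL6_57
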