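import Cfsg.Agent.Lib.H97Fe0
/-!
# S5445, piece L6: the group `R` (helper7)
-/
set_option autoImplicit false
open Cfsg Cfsg.Agent.Lib.H97Fe0

namespace Cfsg.Agent.Lib.H97FeL6a

theorem card_inf' {G : Type*} [Group G] [Finite G] (K H R : Subgroup G) (hK : K ≤ R) (hH : H ≤ R)
    (hn : ∀ r ∈ R, ∀ k ∈ K, r * k * r⁻¹ ∈ K) (hs : ∀ r ∈ R, ∃ k ∈ K, ∃ h ∈ H, r = k * h) :
    Nat.card R * Nat.card ↥(K ⊓ H) = Nat.card K * Nat.card H := by
  set K' := K.subgroupOf R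
  set H' := H.subgroupOf R
  have hKn : K'.Normal := ⟨fun k hk r => by
    rw [Subgroup.mem_subgroupOf] at hk ⊢
    exact hn r r.2 k hk⟩
  have h1 : K' ⊔ H' = ⊤ := by
    rw [eq_top_iff]
    rintro r -
    obtain ⟨k, hk, h, hh, e⟩ := hs r r.2
    have : r = (⟨k, hK hk⟩ : R) * ⟨h, hH hh⟩ := Subtype.ext e
    rw [this]
    exact Subgroup.mul_mem_sup (Subgroup.mem_subgroupOf.2 hk) (Subgroup.mem_subgroupOf.2 hh)
  have h2 : K'.index = K'.relIndex H' := by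
    rw [← Subgroup.relIndex_sup_left, h1, Subgroup.relIndex_top_right]
  have h3 := Subgroup.card_mul_index K'
  have h4 := Subgroup.card_mul_index (K'.subgroupOf H')
  have h5 : Nat.card K' = Nat.card K := Nat.card_congr (Subgroup.subgroupOfEquivOfLe hK).toEquiv
  have h6 : Nat.card H' = Nat.card H := Nat.card_congr (Subgroup.subgroupOfEquivOfLe hH).toEquiv
  have h7 : Nat.card ↥(K'.subgroupOf H') = Nat.card ↥(K ⊓ H) := by
    have e1 : Nat.card ↥(K'.subgroupOf H') = Nat.card ↥((K'.subgroupOf H').map H'.subtype) :=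
      (Nat.card_congr (Subgroup.equivMapOfInjective _ _ H'.subtype_injective).toEquiv)
    have e2 : (K'.subgroupOf H').map H'.subtype = (K ⊓ H).subgroupOf R := by
      rw [Subgroup.subgroupOf_map_subtype]
      ext r
      simp only [K', H', Subgroup.mem_inf, Subgroup.mem_subgroupOf]
    rw [e1, e2]
    exact Nat.card_congr (Subgroup.subgroupOfEquivOfLe (inf_le_left.trans hK)).toEquiv
  rw [h7, h6] at h4
  rw [h5, h2] at h3
  rw [← h3, ← h4]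
  unfold Subgroup.relIndex
  ring

theorem R_facts_of {G : Type*} [Group G] [Finite G] {z s y : G} {Q Q₁ : Subgroup G} (L : Loc z s y Q Q₁) (C : Subgroup G)
    (hC : C = Subgroup.centralizer ({z, s, y} : Set G)) (V : Subgroup G) (hV : V = Subgroup.closure ({z, s, y} : Set G))
    (hV8 : Nat.card V = 8) (hzV : z ∈ V) (hsV : s ∈ V) (hVQ : V ≤ Q) (hVQ1 : V ≤ Q₁) :
    ∃ R : Subgroup G, (∀ c, c ∈ R ↔ ∃ a ∈ Q ⊓ C, ∃ b ∈ Q₁ ⊓ C, c = a * b) ∧ IsPGroup 2 R ∧ Nat.card R = 2 ^ 15 ∧ R ≤ C ∧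
      Nat.card ↥(Q ⊓ C) = 2 ^ 11 ∧ Nat.card ↥(Q₁ ⊓ C) = 2 ^ 11 ∧
      (∀ c ∈ C, c ∈ R ↔ ∃ a ∈ Q, ∃ b ∈ Q₁, b * z = z * b ∧ c = a * b) := by
  have hCV : C = Subgroup.centralizer (V : Set G) := by
    rw [hC, hV, Subgroup.centralizer_closure]
  have hmC : ∀ c, c ∈ C ↔ c * z = z * c ∧ c * s = s * c ∧ c * y = y * c := by
    intro c
    rw [hC, Subgroup.mem_centralizer_iff]
    constructor
    · intro h
      exact ⟨(h z (by simp)).symm, (h s (by simp)).symm, (h y (by simp)).symm⟩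
    · rintro ⟨h1, h2, h3⟩ x hx
      rcases hx with rfl | rfl | rfl
      · exact h1.symm
      · exact h2.symm
      · exact h3.symm
  have c11 : Nat.card ↥(Q ⊓ C) = 2 ^ 11 := by
    have := L.e0.dual V hVQ hzV
    rw [← hCV, hV8] at this
    omega
  have c11' : Nat.card ↥(Q₁ ⊓ C) = 2 ^ 11 := by
    have := L.e1.dual V hVQ1 hsV
    rw [← hCV, hV8] at this
    omega
  have hnQ : ∀ c ∈ C, ∀ a ∈ Q ⊓ C, c * a * c⁻¹ ∈ Q ⊓ C := by
    intro c hc a ha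
    exact ⟨L.n0 c ((hmC c).1 hc).1 a ha.1, C.mul_mem (C.mul_mem hc ha.2) (C.inv_mem hc)⟩
  let R : Subgroup G :=
    { carrier := {c | ∃ a ∈ Q ⊓ C, ∃ b ∈ Q₁ ⊓ C, c = a * b}
      one_mem' := ⟨1, Subgroup.one_mem _, 1, Subgroup.one_mem _, by simp⟩
      mul_mem' := by
        rintro _ _ ⟨a, ha, b, hb, rfl⟩ ⟨a', ha', b', hb', rfl⟩
        exact ⟨a * (b * a' * b⁻¹), Subgroup.mul_mem _ ha (hnQ b hb.2 a' ha'), b * b', Subgroup.mul_mem _ hb hb', by group⟩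
      inv_mem' := by
        rintro _ ⟨a, ha, b, hb, rfl⟩
        refine ⟨b⁻¹ * a⁻¹ * b⁻¹⁻¹, hnQ b⁻¹ (C.inv_mem hb.2) a⁻¹ (Subgroup.inv_mem _ ha), b⁻¹, Subgroup.inv_mem _ hb, by group⟩ }
  have hR : ∀ c, c ∈ R ↔ ∃ a ∈ Q ⊓ C, ∃ b ∈ Q₁ ⊓ C, c = a * b := fun c => Iff.rfl
  have hRC : R ≤ C := by
    rintro _ ⟨a, ha, b, hb, rfl⟩
    exact C.mul_mem ha.2 hb.2
  have hQR : Q ⊓ C ≤ R := fun a ha => ⟨a, ha, 1, Subgroup.one_mem _, by simp⟩
  have hQR1 : Q₁ ⊓ C ≤ R := fun b hb => ⟨1, Subgroup.one_mem _, b, hb, by simp⟩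
  have hEC : (Q ⊓ C) ⊓ (Q₁ ⊓ C) = Q ⊓ Q₁ := by
    apply le_antisymm
    · intro x hx; exact ⟨hx.1.1, hx.2.1⟩
    · intro x hx
      have hxC : x ∈ C := (hmC x).2 ⟨L.e0.cen x hx.1, L.e1.cen x hx.2, L.abE x hx.1 hx.2 y L.yQ L.yQ₁⟩
      exact ⟨⟨hx.1, hxC⟩, ⟨hx.2, hxC⟩⟩
  have cR : Nat.card R = 2 ^ 15 := by
    have h1 := card_inf' (Q ⊓ C) (Q₁ ⊓ C) R hQR hQR1 (fun r hr k hk => hnQ r (hRC hr) k hk) (fun r hr => hr)
    rw [hEC, L.cE, c11, c11'] at h1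
    omega
  refine ⟨R, hR, IsPGroup.of_card cR, cR, hRC, c11, c11', ?_⟩
  intro c hc
  constructor
  · rintro ⟨a, ha, b, hb, rfl⟩
    exact ⟨a, ha.1, b, hb.1, ((hmC b).1 hb.2).1, rfl⟩
  · rintro ⟨a, ha, b, hb, hbz, rfl⟩
    obtain ⟨k1, k2, k3⟩ := (hmC _).1 hc
    have hbs := L.e1.cen b hb
    have haz := L.e0.cen a ha
    have has : a * s = s * a := by
      have h1 : a * s * b = s * a * b := by
        calc a * s * b = a * (b * s) := by rw [hbs, mul_assoc]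
          _ = (a * b) * s := by rw [mul_assoc]
          _ = s * (a * b) := k2
          _ = s * a * b := by rw [mul_assoc]
      exact mul_right_cancel h1
    have e1 : b * y * b⁻¹ * y⁻¹ = a⁻¹ * y * a⁻¹⁻¹ * y⁻¹ := by
      have : b * y * b⁻¹ = a⁻¹ * y * a⁻¹⁻¹ := by
        calc b * y * b⁻¹ = a⁻¹ * ((a * b) * y) * b⁻¹ := by group
          _ = a⁻¹ * (y * (a * b)) * b⁻¹ := by rw [k3]
          _ = a⁻¹ * y * a⁻¹⁻¹ := by group
      rw [this]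
    have e2 : b * y * b⁻¹ * y⁻¹ = 1 := by
      rcases L.e1.comm b hb y L.yQ₁ with h | h
      · exact h
      · rcases L.e0.comm a⁻¹ (Q.inv_mem ha) y L.yQ with h' | h'
        · rw [e1]; exact h'
        · exact absurd (h.symm.trans (e1.trans h')) L.sz
    have hby : b * y = y * b := by
      have h3 : b * y * b⁻¹ = y := mul_inv_eq_one.1 e2
      exact mul_inv_eq_iff_eq_mul.1 h3
    have hbC : b ∈ C := (hmC b).2 ⟨hbz, hbs, hby⟩
    have haC : a ∈ C := by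
      have := C.mul_mem hc (C.inv_mem hbC)
      rwa [mul_inv_cancel_right] at this
    exact ⟨a, ⟨ha, haC⟩, b, ⟨hb, hbC⟩, rfl⟩

end Cfsg.Agent.Lib.H97FeL6a
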