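import Cfsg.Agent.Lib.H97Fe0
import Cfsg.Agent.Lib.ProdCard

/-! S5445, piece FE-L6 (helper42). -/

set_option autoImplicit false
open Cfsg Cfsg.Agent.Lib.H97Fe0

namespace Cfsg.Agent.Lib.H97FeL6b

variable {G : Type*} [Group G] [Finite G]

theorem cardV {z s y : G} (hz : z * z = 1) (hs : s * s = 1) (hy : y * y = 1) (hz1 : z ≠ 1)
    (hs1 : s ≠ 1) (hsz : s ≠ z) (hy1 : ¬ O4 z s 1 y) (czs : z * s = s * z) (czy : z * y = y * z) (csy : s * y = y * s) :
    Nat.card ↥(Subgroup.closure ({z, s, y} : Set G)) = 8 := by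
  have mz : ∀ a : G, a * a = 1 → ∀ x, x ∈ Subgroup.zpowers a → x = 1 ∨ x = a := by
    rintro a ha x ⟨k, rfl⟩
    change a ^ k = 1 ∨ a ^ k = a
    have h2 : a ^ (2 : ℤ) = 1 := by rw [zpow_two, ha]
    rcases Int.even_or_odd k with ⟨m, rfl⟩ | ⟨m, rfl⟩
    · left; rw [← two_mul, zpow_mul, h2, one_zpow]
    · right; rw [zpow_add, zpow_mul, h2, one_zpow, one_mul, zpow_one]
  have cz : ∀ a : G, a * a = 1 → a ≠ 1 → Nat.card ↥(Subgroup.zpowers a) = 2 := by
    intro a ha ha1
    rw [Nat.card_zpowers]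
    exact orderOf_eq_prime (by rw [pow_two, ha]) ha1
  have nrm : ∀ a : G, ∀ K : Subgroup G, (∀ x ∈ K, a * x = x * a) → Subgroup.zpowers a ≤ Subgroup.normalizer (K : Set G) := by
    intro a K hK
    rw [Subgroup.zpowers_le, Subgroup.mem_normalizer_iff]
    intro x
    constructor
    · intro hx
      have : a * x * a⁻¹ = x := by rw [hK x hx]; group
      rw [this]; exact hx
    · intro hx
      have h1 := hK _ hx
      have h2 : a * (a * x * a⁻¹) = a * x := by rw [h1]; group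
      have h3 : a * x * a⁻¹ = x := mul_left_cancel h2
      rw [h3] at hx; exact hx
  -- {z, s}
  have e1 : Nat.card ↥(Subgroup.zpowers s ⊔ Subgroup.zpowers z) = 4 := by
    have h1 := ProdCard.card_sup_mul_card_inf (A := Subgroup.zpowers s) (H := Subgroup.zpowers z)
      (nrm s _ (by
        intro x hx
        rcases mz z hz x hx with rfl | rfl
        · simp
        · exact czs.symm))
    have h2 : Subgroup.zpowers s ⊓ Subgroup.zpowers z = ⊥ := by
      rw [eq_bot_iff]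
      rintro x ⟨h3, h4⟩
      rcases mz s hs x h3 with rfl | rfl
      · exact Subgroup.one_mem _
      · rcases mz z hz x h4 with h5 | h5
        · exact absurd h5 hs1
        · exact absurd h5 hsz
    rw [h2, Subgroup.card_bot, cz s hs hs1, cz z hz hz1] at h1
    omega
  have m1 : ∀ x, x ∈ Subgroup.zpowers s ⊔ Subgroup.zpowers z → x = 1 ∨ x = z ∨ x = s ∨ x = z * s := by
    intro x hx
    have hcl : Subgroup.zpowers s ⊔ Subgroup.zpowers z = Subgroup.closure ({s} ∪ {z}) := by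
      rw [Subgroup.closure_union, Subgroup.zpowers_eq_closure, Subgroup.zpowers_eq_closure]
    rw [hcl] at hx
    refine Subgroup.closure_induction (p := fun x _ => x = 1 ∨ x = z ∨ x = s ∨ x = z * s) ?_ ?_ ?_ ?_ hx
    · rintro w (rfl | rfl)
      · exact Or.inr (Or.inr (Or.inl rfl))
      · exact Or.inr (Or.inl rfl)
    · exact Or.inl rfl
    · rintro a b _ _ ha hb
      rcases ha with rfl | rfl | rfl | rfl <;> rcases hb with rfl | rfl | rfl | rfl
      all_goals first
        | (left; simp [hz, hs]; done)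
        | (right; left; simp [hz, hs]; done)
        | (right; right; left; simp [hz, hs]; done)
        | (right; right; right; simp [hz, hs]; done)
        | (right; right; right; rw [czs]; done)
        | (right; right; left; rw [← mul_assoc, hz, one_mul]; done)
        | (right; left; rw [czs, ← mul_assoc, hs, one_mul]; done)
        | (right; right; left; rw [mul_assoc, ← czs, ← mul_assoc, hz, one_mul]; done)
        | (right; left; rw [mul_assoc, hs, mul_one]; done)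
        | (left; rw [mul_assoc, ← mul_assoc s, ← czs, mul_assoc z, hs, mul_one, hz]; done)
    · rintro a _ ha
      have iz : z⁻¹ = z := inv_eq_of_mul_eq_one_left hz
      have is : s⁻¹ = s := inv_eq_of_mul_eq_one_left hs
      rcases ha with rfl | rfl | rfl | rfl
      · left; exact inv_one
      · right; left; exact iz
      · right; right; left; exact is
      · right; right; right; rw [mul_inv_rev, iz, is, czs]
  have h1 := ProdCard.card_sup_mul_card_inf (A := Subgroup.zpowers y) (H := Subgroup.zpowers s ⊔ Subgroup.zpowers z)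
      (nrm y _ (by
        intro x hx
        rcases m1 x hx with rfl | rfl | rfl | rfl
        · simp
        · exact czy.symm
        · exact csy.symm
        · rw [← mul_assoc, ← czy, mul_assoc, ← csy, mul_assoc]))
  have hy1' : y ≠ 1 := fun h => hy1 (Or.inl h)
  have h2 : Subgroup.zpowers y ⊓ (Subgroup.zpowers s ⊔ Subgroup.zpowers z) = ⊥ := by
    rw [eq_bot_iff]
    rintro x ⟨h3, h4⟩
    rcases mz y hy x h3 with rfl | rfl
    · exact Subgroup.one_mem _
    · exfalso
      apply hy1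
      rcases m1 x h4 with h5 | h5 | h5 | h5
      · exact Or.inl h5
      · exact Or.inr (Or.inl (by rw [one_mul]; exact h5))
      · exact Or.inr (Or.inr (Or.inl (by rw [one_mul]; exact h5)))
      · exact Or.inr (Or.inr (Or.inr (by rw [one_mul]; exact h5)))
  rw [h2, Subgroup.card_bot, e1, cz y hy hy1'] at h1
  have h3 : Subgroup.closure ({z, s, y} : Set G) = Subgroup.zpowers y ⊔ (Subgroup.zpowers s ⊔ Subgroup.zpowers z) := by
    rw [Subgroup.zpowers_eq_closure, Subgroup.zpowers_eq_closure, Subgroup.zpowers_eq_closure, ← Subgroup.closure_union,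
      ← Subgroup.closure_union]
    congr 1
    ext x
    simp only [Set.mem_insert_iff, Set.mem_singleton_iff, Set.mem_union]
    tauto
  rw [h3]
  omega

-- FE-L6 : the group R
theorem R_facts {z s y : G} {Q Q₁ : Subgroup G} (L : Loc z s y Q Q₁) (C : Subgroup G)
    (hC : C = Subgroup.centralizer ({z, s, y} : Set G)) :
    ∃ R : Subgroup G, (∀ c, c ∈ R ↔ ∃ a ∈ Q ⊓ C, ∃ b ∈ Q₁ ⊓ C, c = a * b) ∧ IsPGroup 2 R ∧ Nat.card R = 2 ^ 15 ∧ R ≤ C ∧
      Nat.card ↥(Q ⊓ C) = 2 ^ 11 ∧ Nat.card ↥(Q₁ ⊓ C) = 2 ^ 11 ∧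
      (∀ c ∈ C, c ∈ R ↔ ∃ a ∈ Q, ∃ b ∈ Q₁, b * z = z * b ∧ c = a * b) := by
  have zQ := L.e0.zQ
  have sQ₁ := L.e1.zQ
  have czs : z * s = s * z := L.abE z zQ L.zQ₁ s L.sQ sQ₁
  have czy : z * y = y * z := L.abE z zQ L.zQ₁ y L.yQ L.yQ₁
  have csy : s * y = y * s := L.abE s L.sQ sQ₁ y L.yQ L.yQ₁
  have hc8 := cardV L.e0.zz L.e1.zz L.yy L.e0.z1 L.e1.z1 L.sz L.y1 czs czy csy
  have hmem : ∀ c, c ∈ C ↔ c * z = z * c ∧ c * s = s * c ∧ c * y = y * c := by
    intro c
    rw [hC, Subgroup.mem_centralizer_iff]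
    constructor
    · intro h
      exact ⟨(h z (by simp)).symm, (h s (by simp)).symm, (h y (by simp)).symm⟩
    · rintro ⟨h1, h2, h3⟩ w hw
      simp only [Set.mem_insert_iff, Set.mem_singleton_iff] at hw
      rcases hw with rfl | rfl | rfl
      · exact h1.symm
      · exact h2.symm
      · exact h3.symm
  have hCV : C = Subgroup.centralizer ((Subgroup.closure ({z, s, y} : Set G) : Subgroup G) : Set G) := by
    rw [Subgroup.centralizer_closure, hC]
  have hVQ : Subgroup.closure ({z, s, y} : Set G) ≤ Q := by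
    rw [Subgroup.closure_le]
    rintro w hw
    simp only [Set.mem_insert_iff, Set.mem_singleton_iff] at hw
    rcases hw with rfl | rfl | rfl
    · exact zQ
    · exact L.sQ
    · exact L.yQ
  have hVQ₁ : Subgroup.closure ({z, s, y} : Set G) ≤ Q₁ := by
    rw [Subgroup.closure_le]
    rintro w hw
    simp only [Set.mem_insert_iff, Set.mem_singleton_iff] at hw
    rcases hw with rfl | rfl | rfl
    · exact L.zQ₁
    · exact sQ₁
    · exact L.yQ₁
  have d0 := L.e0.dual _ hVQ (Subgroup.subset_closure (by simp))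
  have d1 := L.e1.dual _ hVQ₁ (Subgroup.subset_closure (by simp))
  rw [← hCV, hc8] at d0 d1
  have c0 : Nat.card ↥(Q ⊓ C) = 2 ^ 11 := by omega
  have c1 : Nat.card ↥(Q₁ ⊓ C) = 2 ^ 11 := by omega
  have hnorm : Q₁ ⊓ C ≤ Subgroup.normalizer ((Q ⊓ C : Subgroup G) : Set G) := by
    intro b hb
    have key : ∀ b ∈ Q₁ ⊓ C, ∀ a ∈ Q ⊓ C, b * a * b⁻¹ ∈ Q ⊓ C := by
      intro b hb a ha
      exact ⟨L.n0 b ((hmem b).1 hb.2).1 a ha.1, C.mul_mem (C.mul_mem hb.2 ha.2) (C.inv_mem hb.2)⟩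
    rw [Subgroup.mem_normalizer_iff]
    intro a
    refine ⟨key b hb a, fun h => ?_⟩
    have := key b⁻¹ ((Q₁ ⊓ C).inv_mem hb) _ h
    have e : b⁻¹ * (b * a * b⁻¹) * (b⁻¹)⁻¹ = a := by group
    rwa [e] at this
  have hinf : (Q₁ ⊓ C) ⊓ (Q ⊓ C) = Q ⊓ Q₁ := by
    ext a
    constructor
    · rintro ⟨⟨h1, -⟩, ⟨h2, -⟩⟩
      exact ⟨h2, h1⟩
    · rintro ⟨h1, h2⟩
      have h3 : a ∈ C := (hmem a).2 ⟨L.abE a h1 h2 z zQ L.zQ₁, L.abE a h1 h2 s L.sQ sQ₁, L.abE a h1 h2 y L.yQ L.yQ₁⟩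
      exact ⟨⟨h2, h3⟩, ⟨h1, h3⟩⟩
  have hcard := ProdCard.card_sup_mul_card_inf hnorm
  rw [hinf, L.cE, c0, c1] at hcard
  have hR15 : Nat.card ↥((Q₁ ⊓ C) ⊔ (Q ⊓ C)) = 2 ^ 15 := by omega
  have hRmem : ∀ c, c ∈ (Q₁ ⊓ C) ⊔ (Q ⊓ C) ↔ ∃ a ∈ Q ⊓ C, ∃ b ∈ Q₁ ⊓ C, c = a * b := by
    intro c
    constructor
    · intro hc
      have key : ∀ b ∈ Q₁ ⊓ C, ∀ a ∈ Q ⊓ C, b * a * b⁻¹ ∈ Q ⊓ C := by
        intro b hb a ha
        exact ⟨L.n0 b ((hmem b).1 hb.2).1 a ha.1, C.mul_mem (C.mul_mem hb.2 ha.2) (C.inv_mem hb.2)⟩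
      let P : Subgroup G :=
        { carrier := {c | ∃ a ∈ Q ⊓ C, ∃ b ∈ Q₁ ⊓ C, c = a * b}
          one_mem' := ⟨1, one_mem _, 1, one_mem _, by simp⟩
          mul_mem' := by
            rintro _ _ ⟨a, ha, b, hb, rfl⟩ ⟨a', ha', b', hb', rfl⟩
            exact ⟨a * (b * a' * b⁻¹), mul_mem ha (key b hb a' ha'), b * b', mul_mem hb hb', by group⟩
          inv_mem' := by
            rintro _ ⟨a, ha, b, hb, rfl⟩
            refine ⟨b⁻¹ * a⁻¹ * (b⁻¹)⁻¹, key b⁻¹ (inv_mem hb) a⁻¹ (inv_mem ha), b⁻¹, inv_mem hb, by group⟩ }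
      have hle : (Q₁ ⊓ C) ⊔ (Q ⊓ C) ≤ P := by
        apply sup_le
        · intro b hb; exact ⟨1, one_mem _, b, hb, by simp⟩
        · intro a ha; exact ⟨a, ha, 1, one_mem _, by simp⟩
      exact hle hc
    · rintro ⟨a, ha, b, hb, rfl⟩
      exact Subgroup.mul_mem _ (Subgroup.mem_sup_right ha) (Subgroup.mem_sup_left hb)
  have hRC : (Q₁ ⊓ C) ⊔ (Q ⊓ C) ≤ C := sup_le inf_le_right inf_le_right
  refine ⟨(Q₁ ⊓ C) ⊔ (Q ⊓ C), hRmem, IsPGroup.of_card hR15, hR15, hRC, c0, c1, ?_⟩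
  intro c hc
  rw [hRmem]
  constructor
  · rintro ⟨a, ha, b, hb, rfl⟩
    exact ⟨a, ha.1, b, hb.1, ((hmem b).1 hb.2).1, rfl⟩
  · rintro ⟨a, ha, b, hb, hbz, rfl⟩
    obtain ⟨g1, g2, g3⟩ := (hmem _).1 hc
    have hbs : b * s = s * b := L.e1.cen b hb
    have haz : a * z = z * a := L.e0.cen a ha
    have has : a * s = s * a := by
      have h1 : a * s * b = s * a * b := by
        rw [mul_assoc, ← hbs, ← mul_assoc, g2, mul_assoc]
      exact mul_right_cancel h1
    -- y
    have h2 : a * (b * y * b⁻¹) = y * a := by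
      calc a * (b * y * b⁻¹) = (a * b * y) * b⁻¹ := by group
        _ = (y * (a * b)) * b⁻¹ := by rw [g3]
        _ = y * a := by group
    have hby : b * y * b⁻¹ = y := by
      rcases L.e1.comm b hb y L.yQ₁ with h3 | h3
      · rw [mul_inv_eq_one] at h3; exact h3
      · exfalso
        rw [mul_inv_eq_iff_eq_mul] at h3
        rw [h3] at h2
        -- a (s y) = y a
        rcases L.e0.comm a ha y L.yQ with h4 | h4
        · rw [mul_inv_eq_one, mul_inv_eq_iff_eq_mul] at h4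
          have h5 : s * (a * y) = a * y := by
            rw [← mul_assoc, ← has, mul_assoc, h2, h4]
          exact L.e1.z1 (mul_eq_right.1 h5)
        · rw [mul_inv_eq_iff_eq_mul, mul_inv_eq_iff_eq_mul] at h4
          -- a y = z y a
          have h5 : s * (z * (y * a)) = y * a := by
            rw [← mul_assoc z, ← h4, ← mul_assoc, ← has, mul_assoc, h2]
          have h6 : s * z = 1 := by
            rw [← mul_assoc] at h5
            exact mul_eq_right.1 h5
          apply L.sz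
          calc s = s * (z * z) := by rw [L.e0.zz, mul_one]
            _ = s * z * z := by group
            _ = z := by rw [h6, one_mul]
    have hay : a * y = y * a := by rw [hby] at h2; exact h2
    have hby' : b * y = y * b := mul_inv_eq_iff_eq_mul.1 hby
    exact ⟨a, ⟨ha, (hmem a).2 ⟨haz, has, hay⟩⟩, b, ⟨hb, (hmem b).2 ⟨hbz, hbs, hby'⟩⟩, rfl⟩

end Cfsg.Agent.Lib.H97FeL6b
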