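import Cfsg.Agent.Lib.H97Fe0
set_option autoImplicit false
set_option linter.all false
open Cfsg Cfsg.Agent.Lib.H97Fe0

namespace Cfsg.Agent.Lib.H97FeL6h58

theorem card_mul58 {G : Type*} [Group G] [Finite G] (A B R : Subgroup G) (hR : ∀ c, c ∈ R ↔ ∃ a ∈ A, ∃ b ∈ B, c = a * b) :
    Nat.card ↥R * Nat.card ↥(A ⊓ B) = Nat.card ↥A * Nat.card ↥B := by
  classical
  have h1 : ∀ r : ↥R, ∃ ab : ↥A × ↥B, (r : G) = (ab.1 : G) * (ab.2 : G) := by
    intro r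
    obtain ⟨a, ha, b, hb, h⟩ := (hR r).1 r.2
    exact ⟨(⟨a, ha⟩, ⟨b, hb⟩), h⟩
  choose F hF using h1
  rw [← Nat.card_prod, ← Nat.card_prod]
  have hmem : ∀ (a : ↥A) (b : ↥B), (a : G) * (b : G) ∈ R := fun a b => (hR _).2 ⟨a, a.2, b, b.2, rfl⟩
  have hk : ∀ (a : ↥A) (b : ↥B), ((F ⟨(a : G) * b, hmem a b⟩).1 : G)⁻¹ * a = ((F ⟨(a : G) * b, hmem a b⟩).2 : G) * (b : G)⁻¹ := by
    intro a b
    have := hF ⟨(a : G) * b, hmem a b⟩
    rw [inv_mul_eq_iff_eq_mul, ← mul_assoc, eq_mul_inv_iff_mul_eq]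
    exact this
  refine Nat.card_congr (Equiv.ofBijective
    (fun rt : ↥R × ↥(A ⊓ B) => ((⟨((F rt.1).1 : G) * (rt.2 : G), A.mul_mem (F rt.1).1.2 rt.2.2.1⟩ : ↥A),
      (⟨(rt.2 : G)⁻¹ * ((F rt.1).2 : G), B.mul_mem (B.inv_mem rt.2.2.2) (F rt.1).2.2⟩ : ↥B))) ⟨?_, ?_⟩)
  · rintro ⟨r, t⟩ ⟨r', t'⟩ h
    have e1 : ((F r).1 : G) * (t : G) = ((F r').1 : G) * (t' : G) := congrArg (fun z => (z.1 : G)) h
    have e2 : (t : G)⁻¹ * ((F r).2 : G) = (t' : G)⁻¹ * ((F r').2 : G) := congrArg (fun z => (z.2 : G)) h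
    have e3 : (r : G) = (r' : G) := by
      calc (r : G) = ((F r).1 : G) * (t : G) * ((t : G)⁻¹ * ((F r).2 : G)) := by rw [hF r]; group
        _ = ((F r').1 : G) * (t' : G) * ((t' : G)⁻¹ * ((F r').2 : G)) := by rw [e1, e2]
        _ = (r' : G) := by rw [hF r']; group
    have e4 : r = r' := Subtype.ext e3
    subst e4
    have e5 : (t : G) = t' := mul_left_cancel e1
    exact Prod.ext rfl (Subtype.ext e5)
  · rintro ⟨a, b⟩
    refine ⟨(⟨(a : G) * b, hmem a b⟩, ⟨((F ⟨(a : G) * b, hmem a b⟩).1 : G)⁻¹ * a, ?_, ?_⟩), ?_⟩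
    · exact A.mul_mem (A.inv_mem (F _).1.2) a.2
    · rw [hk]
      exact B.mul_mem (F _).2.2 (B.inv_mem b.2)
    · refine Prod.ext (Subtype.ext ?_) (Subtype.ext ?_)
      · show ((F ⟨(a : G) * b, hmem a b⟩).1 : G) * (((F ⟨(a : G) * b, hmem a b⟩).1 : G)⁻¹ * a) = a
        group
      · show (((F ⟨(a : G) * b, hmem a b⟩).1 : G)⁻¹ * a)⁻¹ * ((F ⟨(a : G) * b, hmem a b⟩).2 : G) = b
        rw [hk]
        group

-- FE-L6 : the group R
theorem R_facts_of {G : Type*} [Group G] [Finite G] {z s y : G} {Q Q₁ : Subgroup G} (L : Loc z s y Q Q₁) (C : Subgroup G)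
    (hC : C = Subgroup.centralizer ({z, s, y} : Set G)) (hV8 : Nat.card ↥(Subgroup.closure ({z, s, y} : Set G)) = 8) :
    ∃ R : Subgroup G, (∀ c, c ∈ R ↔ ∃ a ∈ Q ⊓ C, ∃ b ∈ Q₁ ⊓ C, c = a * b) ∧ IsPGroup 2 R ∧ Nat.card R = 2 ^ 15 ∧ R ≤ C ∧
      Nat.card ↥(Q ⊓ C) = 2 ^ 11 ∧ Nat.card ↥(Q₁ ⊓ C) = 2 ^ 11 ∧
      (∀ c ∈ C, c ∈ R ↔ ∃ a ∈ Q, ∃ b ∈ Q₁, b * z = z * b ∧ c = a * b) := by
  classical
  have hCm : ∀ c, c ∈ C ↔ (c * z = z * c ∧ c * s = s * c ∧ c * y = y * c) := by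
    intro c
    rw [hC, Subgroup.mem_centralizer_iff]
    constructor
    · intro h
      exact ⟨(h z (by simp)).symm, (h s (by simp)).symm, (h y (by simp)).symm⟩
    · rintro ⟨h1, h2, h3⟩ x hx
      rcases hx with rfl | rfl | rfl
      · exact h1.symm
      · exact h2.symm
      · exact h3.symm
  have hzQ := L.e0.zQ
  have hsQ₁ := L.e1.zQ
  have hVQ : Subgroup.closure ({z, s, y} : Set G) ≤ Q := by
    rw [Subgroup.closure_le]
    rintro x (rfl | rfl | rfl)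
    · exact hzQ
    · exact L.sQ
    · exact L.yQ
  have hVQ₁ : Subgroup.closure ({z, s, y} : Set G) ≤ Q₁ := by
    rw [Subgroup.closure_le]
    rintro x (rfl | rfl | rfl)
    · exact L.zQ₁
    · exact hsQ₁
    · exact L.yQ₁
  have hcA : Nat.card ↥(Q ⊓ C) = 2 ^ 11 := by
    have h := L.e0.dual _ hVQ (Subgroup.subset_closure (by simp))
    rw [hV8, Subgroup.centralizer_closure, ← hC] at h
    omega
  have hcB : Nat.card ↥(Q₁ ⊓ C) = 2 ^ 11 := by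
    have h := L.e1.dual _ hVQ₁ (Subgroup.subset_closure (by simp))
    rw [hV8, Subgroup.centralizer_closure, ← hC] at h
    omega
  have hnorm : ∀ b ∈ Q₁ ⊓ C, ∀ a ∈ Q ⊓ C, b * a * b⁻¹ ∈ Q ⊓ C := by
    intro b hb a ha
    exact ⟨L.n0 b ((hCm b).1 hb.2).1 a ha.1, C.mul_mem (C.mul_mem hb.2 ha.2) (C.inv_mem hb.2)⟩
  let R : Subgroup G :=
    { carrier := {c | ∃ a ∈ Q ⊓ C, ∃ b ∈ Q₁ ⊓ C, c = a * b}
      one_mem' := ⟨1, one_mem _, 1, one_mem _, by simp⟩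
      mul_mem' := by
        rintro x x' ⟨a, ha, b, hb, rfl⟩ ⟨a', ha', b', hb', rfl⟩
        refine ⟨a * (b * a' * b⁻¹), mul_mem ha (hnorm b hb a' ha'), b * b', mul_mem hb hb', ?_⟩
        group
      inv_mem' := by
        rintro x ⟨a, ha, b, hb, rfl⟩
        refine ⟨b⁻¹ * a⁻¹ * b⁻¹⁻¹, hnorm b⁻¹ (inv_mem hb) a⁻¹ (inv_mem ha), b⁻¹, inv_mem hb, ?_⟩
        group }
  have hR : ∀ c, c ∈ R ↔ ∃ a ∈ Q ⊓ C, ∃ b ∈ Q₁ ⊓ C, c = a * b := fun c => Iff.rfl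
  have hinf : (Q ⊓ C) ⊓ (Q₁ ⊓ C) = Q ⊓ Q₁ := by
    ext x
    constructor
    · rintro ⟨h1, h2⟩
      exact ⟨h1.1, h2.1⟩
    · rintro ⟨h1, h2⟩
      have hx : x ∈ C := (hCm x).2 ⟨L.e0.cen x h1, L.e1.cen x h2, L.abE x h1 h2 y L.yQ L.yQ₁⟩
      exact ⟨⟨h1, hx⟩, ⟨h2, hx⟩⟩
  have hcR : Nat.card ↥R = 2 ^ 15 := by
    have h := card_mul58 (Q ⊓ C) (Q₁ ⊓ C) R hR
    rw [hinf, L.cE, hcA, hcB] at h
    omega
  refine ⟨R, hR, IsPGroup.of_card hcR, hcR, ?_, hcA, hcB, ?_⟩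
  · rintro x ⟨a, ha, b, hb, rfl⟩
    exact mul_mem ha.2 hb.2
  · intro c hc
    constructor
    · rintro ⟨a, ha, b, hb, rfl⟩
      exact ⟨a, ha.1, b, hb.1, ((hCm b).1 hb.2).1, rfl⟩
    · rintro ⟨a, ha, b, hb, hbz, rfl⟩
      have hbs := L.e1.cen b hb
      have haz := L.e0.cen a ha
      obtain ⟨hcz, hcs, hcy⟩ := (hCm _).1 hc
      have has : a * s = s * a := by
        have h1 : a * s * b = s * a * b := by
          calc a * s * b = a * (s * b) := by group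
            _ = a * (b * s) := by rw [hbs]
            _ = a * b * s := by group
            _ = s * (a * b) := hcs
            _ = s * a * b := by group
        exact mul_right_cancel h1
      -- y
      have e1 : b * y * b⁻¹ = a⁻¹ * y * a := by
        have h1 : a * b * y * (a * b)⁻¹ = y := by rw [hcy]; group
        calc b * y * b⁻¹ = a⁻¹ * (a * b * y * (a * b)⁻¹) * a := by group
          _ = a⁻¹ * y * a := by rw [h1]
      have e2 : b * y * b⁻¹ * y⁻¹ = 1 ∨ b * y * b⁻¹ * y⁻¹ = s := L.e1.comm b hb y L.yQ₁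
      have e3 : a⁻¹ * y * a⁻¹⁻¹ * y⁻¹ = 1 ∨ a⁻¹ * y * a⁻¹⁻¹ * y⁻¹ = z := L.e0.comm a⁻¹ (inv_mem ha) y L.yQ
      rw [inv_inv, ← e1] at e3
      have e4 : b * y * b⁻¹ * y⁻¹ = 1 := by
        rcases e2 with h | h
        · exact h
        · rcases e3 with h' | h'
          · exact h'
          · exact absurd (h.symm.trans h') L.sz
      have hby : b * y = y * b := by
        have h1 : b * y * b⁻¹ = y := by
          rw [mul_inv_eq_one] at e4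
          exact e4
        rw [mul_inv_eq_iff_eq_mul] at h1
        exact h1
      have hay : a * y = y * a := by
        have h1 : a⁻¹ * y * a = y := by
          rw [← e1, hby]
          group
        calc a * y = a * (a⁻¹ * y * a) := by rw [h1]
          _ = y * a := by group
      exact ⟨a, ⟨ha, (hCm a).2 ⟨haz, has, hay⟩⟩, b, ⟨hb, (hCm b).2 ⟨hbz, hbs, hby⟩⟩, rfl⟩

end Cfsg.Agent.Lib.H97FeL6h58
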