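import Cfsg.Agent.Lib.H97Fe0

set_option autoImplicit false
set_option linter.all false

namespace Cfsg.Agent.Lib.H97FeL6o
open Cfsg Cfsg.Agent.Lib.H97Fe0

theorem card_inf {G : Type*} [Group G] [Finite G] {Q C : Subgroup G} {z s y z' : G} (e : LE Q z')
    (hz' : z' = z ∨ z' = s) (hz : z ∈ Q)
    (hs : s ∈ Q) (hy : y ∈ Q) (hC : C = Subgroup.centralizer ({z, s, y} : Set G))
    (hV : Nat.card (Subgroup.closure ({z, s, y} : Set G)) = 8) : Nat.card ↥(Q ⊓ C) = 2 ^ 11 := by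
  have h1 := e.dual (Subgroup.closure ({z, s, y} : Set G)) (by
    rw [Subgroup.closure_le]
    rintro x (rfl | rfl | rfl)
    · exact hz
    · exact hs
    · exact hy) (Subgroup.subset_closure (by rcases hz' with rfl | rfl <;> simp))
  rw [Subgroup.centralizer_closure, hV, ← hC] at h1
  omega

theorem R_facts_of {G : Type*} [Group G] [Finite G] {z s y : G} {Q Q₁ : Subgroup G} (L : Loc z s y Q Q₁) (C : Subgroup G)
    (hC : C = Subgroup.centralizer ({z, s, y} : Set G))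
    (hV : Nat.card (Subgroup.closure ({z, s, y} : Set G)) = 8) :
    ∃ R : Subgroup G, (∀ c, c ∈ R ↔ ∃ a ∈ Q ⊓ C, ∃ b ∈ Q₁ ⊓ C, c = a * b) ∧ IsPGroup 2 R ∧ Nat.card R = 2 ^ 15 ∧ R ≤ C ∧
      Nat.card ↥(Q ⊓ C) = 2 ^ 11 ∧ Nat.card ↥(Q₁ ⊓ C) = 2 ^ 11 ∧
      (∀ c ∈ C, c ∈ R ↔ ∃ a ∈ Q, ∃ b ∈ Q₁, b * z = z * b ∧ c = a * b) := by
  have hmC : ∀ c, c ∈ C ↔ c * z = z * c ∧ c * s = s * c ∧ c * y = y * c := by
    intro c
    rw [hC, Subgroup.mem_centralizer_iff]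
    constructor
    · intro h
      exact ⟨(h z (by simp)).symm, (h s (by simp)).symm, (h y (by simp)).symm⟩
    · rintro ⟨h1, h2, h3⟩ x (rfl | rfl | rfl)
      · exact h1.symm
      · exact h2.symm
      · exact h3.symm
  have c0 : Nat.card ↥(Q ⊓ C) = 2 ^ 11 :=
    card_inf L.e0 (Or.inl rfl) L.e0.zQ L.sQ L.yQ hC hV
  have c1 : Nat.card ↥(Q₁ ⊓ C) = 2 ^ 11 :=
    card_inf L.e1 (Or.inr rfl) L.zQ₁ L.e1.zQ L.yQ₁ hC hV
  have hE : ∀ d, d ∈ Q → d ∈ Q₁ → d ∈ C := by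
    intro d h0 h1
    rw [hmC]
    exact ⟨L.abE d h0 h1 z L.e0.zQ L.zQ₁, L.abE d h0 h1 s L.sQ L.e1.zQ,
      L.abE d h0 h1 y L.yQ L.yQ₁⟩
  have hconj : ∀ b ∈ Q₁ ⊓ C, ∀ a ∈ Q ⊓ C, b * a * b⁻¹ ∈ Q ⊓ C := by
    intro b hb a ha
    exact ⟨L.n0 b ((hmC b).1 hb.2).1 a ha.1, C.mul_mem (C.mul_mem hb.2 ha.2) (C.inv_mem hb.2)⟩
  let R : Subgroup G :=
    { carrier := {c | ∃ a ∈ Q ⊓ C, ∃ b ∈ Q₁ ⊓ C, c = a * b}
      mul_mem' := by
        rintro _ _ ⟨a, ha, b, hb, rfl⟩ ⟨a', ha', b', hb', rfl⟩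
        exact ⟨a * (b * a' * b⁻¹), (Q ⊓ C).mul_mem ha (hconj b hb a' ha'), b * b',
          (Q₁ ⊓ C).mul_mem hb hb', by group⟩
      one_mem' := ⟨1, (Q ⊓ C).one_mem, 1, (Q₁ ⊓ C).one_mem, by simp⟩
      inv_mem' := by
        rintro _ ⟨a, ha, b, hb, rfl⟩
        exact ⟨b⁻¹ * a⁻¹ * b⁻¹⁻¹, hconj _ ((Q₁ ⊓ C).inv_mem hb) _ ((Q ⊓ C).inv_mem ha), b⁻¹,
          (Q₁ ⊓ C).inv_mem hb, by group⟩ }
  have hmR : ∀ c, c ∈ R ↔ ∃ a ∈ Q ⊓ C, ∃ b ∈ Q₁ ⊓ C, c = a * b := fun c => Iff.rfl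
  have hcR : Nat.card R = 2 ^ 15 := by
    have hch : ∀ r : R, ∃ p : ↥(Q ⊓ C) × ↥(Q₁ ⊓ C), (r : G) = p.1 * p.2 := by
      rintro ⟨r, a, ha, b, hb, hr⟩
      exact ⟨(⟨a, ha⟩, ⟨b, hb⟩), hr⟩
    choose p hp using hch
    have hEQ : ∀ d : ↥(Q ⊓ Q₁), (d : G) ∈ Q ⊓ C := fun d => ⟨d.2.1, hE _ d.2.1 d.2.2⟩
    have hEQ₁ : ∀ d : ↥(Q ⊓ Q₁), (d : G) ∈ Q₁ ⊓ C := fun d => ⟨d.2.2, hE _ d.2.1 d.2.2⟩
    let g : ↥R × ↥(Q ⊓ Q₁) → ↥(Q ⊓ C) × ↥(Q₁ ⊓ C) := fun t =>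
      (⟨(p t.1).1 * t.2, (Q ⊓ C).mul_mem (p t.1).1.2 (hEQ t.2)⟩,
       ⟨(t.2 : G)⁻¹ * (p t.1).2, (Q₁ ⊓ C).mul_mem ((Q₁ ⊓ C).inv_mem (hEQ₁ t.2)) (p t.1).2.2⟩)
    have hg : Function.Bijective g := by
      constructor
      · rintro ⟨r, d⟩ ⟨r', d'⟩ h
        have h1 : ((p r).1 : G) * d = (p r').1 * d' := congrArg (fun t => (t.1 : G)) h
        have h2 : (d : G)⁻¹ * (p r).2 = (d' : G)⁻¹ * (p r').2 := congrArg (fun t => (t.2 : G)) h
        have h3 : r = r' := by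
          apply Subtype.ext
          rw [hp r, hp r']
          calc ((p r).1 : G) * (p r).2 = ((p r).1 * d) * ((d : G)⁻¹ * (p r).2) := by group
            _ = ((p r').1 * d') * ((d' : G)⁻¹ * (p r').2) := by rw [h1, h2]
            _ = (p r').1 * (p r').2 := by group
        subst h3
        have h4 : d = d' := Subtype.ext (mul_left_cancel h1)
        rw [h4]
      · rintro ⟨⟨a, ha⟩, ⟨b, hb⟩⟩
        have hab : a * b ∈ R := ⟨a, ha, b, hb, rfl⟩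
        have h1 := hp ⟨a * b, hab⟩
        set q := p ⟨a * b, hab⟩ with hq
        have h2 : (q.1 : G)⁻¹ * a = q.2 * b⁻¹ := by
          have h3 : a * b = q.1 * q.2 := h1
          calc (q.1 : G)⁻¹ * a = (q.1 : G)⁻¹ * (a * b) * b⁻¹ := by group
            _ = (q.1 : G)⁻¹ * (q.1 * q.2) * b⁻¹ := by rw [h3]
            _ = q.2 * b⁻¹ := by group
        have hd : (q.1 : G)⁻¹ * a ∈ Q ⊓ Q₁ := by
          refine ⟨Q.mul_mem (Q.inv_mem q.1.2.1) ha.1, ?_⟩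
          have h3 : (q.2 : G) * b⁻¹ ∈ Q₁ := Q₁.mul_mem q.2.2.1 (Q₁.inv_mem hb.1)
          rw [← h2] at h3
          exact h3
        refine ⟨(⟨a * b, hab⟩, ⟨_, hd⟩), ?_⟩
        apply Prod.ext
        · apply Subtype.ext
          change (q.1 : G) * ((q.1 : G)⁻¹ * a) = a
          group
        · apply Subtype.ext
          change ((q.1 : G)⁻¹ * a)⁻¹ * (q.2 : G) = b
          rw [h2]; group
    have h5 := Nat.card_congr (Equiv.ofBijective g hg)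
    rw [Nat.card_prod, Nat.card_prod, c0, c1, L.cE] at h5
    omega
  refine ⟨R, hmR, IsPGroup.of_card hcR, hcR, ?_, c0, c1, ?_⟩
  · rintro _ ⟨a, ha, b, hb, rfl⟩
    exact C.mul_mem ha.2 hb.2
  · intro c hc
    constructor
    · rintro ⟨a, ha, b, hb, rfl⟩
      exact ⟨a, ha.1, b, hb.1, ((hmC b).1 hb.2).1, rfl⟩
    · rintro ⟨a, ha, b, hb, hbz, rfl⟩
      have hcm := (hmC _).1 hc
      have hbs : b * s = s * b := L.e1.cen b hb
      have haz : a * z = z * a := L.e0.cen a ha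
      have has : a * s = s * a := by
        have h1 : Commute (a * b) s := hcm.2.1
        have h2 : Commute b s := hbs
        have h3 := h1.mul_left h2.inv_left
        rwa [mul_inv_cancel_right] at h3
      have hby : b * y * b⁻¹ * y⁻¹ = 1 := by
        rcases L.e1.comm b hb y L.yQ₁ with h1 | h1
        · exact h1
        · exfalso
          have h2 : a⁻¹ * y * a = b * y * b⁻¹ := by
            have h3 : a * b * y = y * (a * b) := hcm.2.2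
            calc a⁻¹ * y * a = a⁻¹ * (y * (a * b)) * b⁻¹ := by group
              _ = a⁻¹ * (a * b * y) * b⁻¹ := by rw [h3]
              _ = b * y * b⁻¹ := by group
          have h4 := L.e0.comm a⁻¹ (Q.inv_mem ha) y L.yQ
          have h5 : a⁻¹ * y * a⁻¹⁻¹ * y⁻¹ = s := by
            rw [inv_inv, h2, h1]
          rw [h5] at h4
          rcases h4 with h4 | h4
          · exact L.e1.z1 h4
          · exact L.sz h4
      have hby' : b * y = y * b := by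
        calc b * y = (b * y * b⁻¹ * y⁻¹) * (y * b) := by group
          _ = y * b := by rw [hby, one_mul]
      have hay : a * y = y * a := by
        have h1 : Commute (a * b) y := hcm.2.2
        have h2 : Commute b y := hby'
        have h3 := h1.mul_left h2.inv_left
        rwa [mul_inv_cancel_right] at h3
      exact ⟨a, ⟨ha, (hmC a).2 ⟨haz, has, hay⟩⟩, b, ⟨hb, (hmC b).2 ⟨hbz, hbs, hby'⟩⟩, rfl⟩

end Cfsg.Agent.Lib.H97FeL6o
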