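import Cfsg.Agent.Lib.H97Fe0
import Cfsg.Agent.Lib.ConjSylow

/-!
# S5445, FE-L6 (helper45): the group R
-/

set_option autoImplicit false
open Cfsg Cfsg.Agent.Lib.H97Fe0

namespace Cfsg.Agent.Lib.H97FeL6x

/-- `V` facts used: cardinality and inclusions -/
theorem R_facts_of {G : Type*} [Group G] [Finite G] {z s y : G} {Q Q₁ : Subgroup G} (L : Loc z s y Q Q₁) (C : Subgroup G)
    (hC : C = Subgroup.centralizer ({z, s, y} : Set G))
    (h8 : Nat.card ↥(Subgroup.closure ({z, s, y} : Set G)) = 8) :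
    ∃ R : Subgroup G, (∀ c, c ∈ R ↔ ∃ a ∈ Q ⊓ C, ∃ b ∈ Q₁ ⊓ C, c = a * b) ∧ IsPGroup 2 R ∧ Nat.card R = 2 ^ 15 ∧ R ≤ C ∧
      Nat.card ↥(Q ⊓ C) = 2 ^ 11 ∧ Nat.card ↥(Q₁ ⊓ C) = 2 ^ 11 ∧
      (∀ c ∈ C, c ∈ R ↔ ∃ a ∈ Q, ∃ b ∈ Q₁, b * z = z * b ∧ c = a * b) := by
  have hmem : ∀ c, c ∈ C ↔ (c * z = z * c ∧ c * s = s * c ∧ c * y = y * c) := by
    intro c
    rw [hC, Subgroup.mem_centralizer_iff]
    constructor
    · intro h
      exact ⟨(h z (by simp)).symm, (h s (by simp)).symm, (h y (by simp)).symm⟩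
    · rintro ⟨h1, h2, h3⟩ g hg
      rcases hg with rfl | rfl | rfl
      · exact h1.symm
      · exact h2.symm
      · exact h3.symm
  have hVQ : Subgroup.closure ({z, s, y} : Set G) ≤ Q := by
    rw [Subgroup.closure_le]
    rintro g (rfl | rfl | rfl)
    · exact L.e0.zQ
    · exact L.sQ
    · exact L.yQ
  have hVQ₁ : Subgroup.closure ({z, s, y} : Set G) ≤ Q₁ := by
    rw [Subgroup.closure_le]
    rintro g (rfl | rfl | rfl)
    · exact L.zQ₁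
    · exact L.e1.zQ
    · exact L.yQ₁
  have hCc : Subgroup.centralizer ((Subgroup.closure ({z, s, y} : Set G) : Subgroup G) : Set G) = C := by
    rw [Subgroup.centralizer_closure, hC]
  have hz : z ∈ Subgroup.closure ({z, s, y} : Set G) := Subgroup.subset_closure (by simp)
  have hs : s ∈ Subgroup.closure ({z, s, y} : Set G) := Subgroup.subset_closure (by simp)
  have c0 : Nat.card ↥(Q ⊓ C) = 2 ^ 11 := by
    have h1 := L.e0.dual _ hVQ hz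
    rw [hCc, h8] at h1
    omega
  have c1 : Nat.card ↥(Q₁ ⊓ C) = 2 ^ 11 := by
    have h1 := L.e1.dual _ hVQ₁ hs
    rw [hCc, h8] at h1
    omega
  have hno : Q₁ ⊓ C ≤ Subgroup.normalizer ((Q ⊓ C : Subgroup G) : Set G) := by
    rintro c ⟨hc1, hc2⟩
    rw [Subgroup.mem_normalizer_iff]
    intro x
    have hcz := ((hmem c).1 hc2).1
    constructor
    · rintro ⟨hx1, hx2⟩
      exact ⟨L.n0 c hcz x hx1, C.mul_mem (C.mul_mem hc2 hx2) (C.inv_mem hc2)⟩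
    · rintro ⟨hx1, hx2⟩
      have hcz' : c⁻¹ * z = z * c⁻¹ := by
        rw [inv_mul_eq_iff_eq_mul, ← mul_assoc, hcz, mul_inv_cancel_right]
      have e : c⁻¹ * (c * x * c⁻¹) * (c⁻¹)⁻¹ = x := by group
      have h1 := L.n0 c⁻¹ hcz' _ hx1
      rw [e] at h1
      have h2 := C.mul_mem (C.mul_mem (C.inv_mem hc2) hx2) (C.inv_mem (C.inv_mem hc2))
      rw [e] at h2
      exact ⟨h1, h2⟩
  have hR : ∀ c, c ∈ (Q ⊓ C) ⊔ (Q₁ ⊓ C) ↔ ∃ a ∈ Q ⊓ C, ∃ b ∈ Q₁ ⊓ C, c = a * b := by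
    intro c
    rw [ConjSylow.mem_sup_of_le_normalizer' hno]
    constructor
    · rintro ⟨a, ha, b, hb, h⟩
      exact ⟨a, ha, b, hb, h.symm⟩
    · rintro ⟨a, ha, b, hb, h⟩
      exact ⟨a, ha, b, hb, h.symm⟩
  have hE : (Q₁ ⊓ C) ⊓ (Q ⊓ C) = Q ⊓ Q₁ := by
    ext x
    constructor
    · rintro ⟨⟨h1, h2⟩, ⟨h3, h4⟩⟩
      exact ⟨h3, h1⟩
    · rintro ⟨h1, h2⟩
      have hxC : x ∈ C := (hmem x).2 ⟨L.abE x h1 h2 z L.e0.zQ L.zQ₁, L.abE x h1 h2 s L.sQ L.e1.zQ,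
        L.abE x h1 h2 y L.yQ L.yQ₁⟩
      exact ⟨⟨h2, hxC⟩, ⟨h1, hxC⟩⟩
  have hcard : Nat.card ↥((Q ⊓ C) ⊔ (Q₁ ⊓ C)) = 2 ^ 15 := by
    have h1 := ConjSylow.card_sup_mul_card_inf hno
    rw [hE, c0, c1, L.cE, sup_comm] at h1
    omega
  refine ⟨(Q ⊓ C) ⊔ (Q₁ ⊓ C), hR, IsPGroup.of_card hcard, hcard, sup_le inf_le_right inf_le_right, c0, c1, ?_⟩
  intro c hc
  rw [hR]
  constructor
  · rintro ⟨a, ha, b, hb, h⟩
    exact ⟨a, ha.1, b, hb.1, ((hmem b).1 hb.2).1, h⟩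
  · rintro ⟨a, ha, b, hb, hbz, h⟩
    obtain ⟨hcz, hcs, hcy⟩ := (hmem c).1 hc
    have hbs : b * s = s * b := L.e1.cen b hb
    have haz : a * z = z * a := L.e0.cen a ha
    have ha' : a = c * b⁻¹ := by rw [h, mul_inv_cancel_right]
    have has : a * s = s * a := by
      have hb' : b⁻¹ * s = s * b⁻¹ := by
        rw [inv_mul_eq_iff_eq_mul, ← mul_assoc, hbs, mul_inv_cancel_right]
      rw [ha', mul_assoc, hb', ← mul_assoc, hcs, mul_assoc]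
    -- y
    have h1 : b * y * b⁻¹ * y⁻¹ = 1 ∨ b * y * b⁻¹ * y⁻¹ = s := L.e1.comm b hb y L.yQ₁
    have h2 : a⁻¹ * y * a⁻¹⁻¹ * y⁻¹ = 1 ∨ a⁻¹ * y * a⁻¹⁻¹ * y⁻¹ = z := L.e0.comm a⁻¹ (Q.inv_mem ha) y L.yQ
    have h3 : b * y * b⁻¹ = a⁻¹ * y * a⁻¹⁻¹ := by
      have h4 : (a * b) * y = y * (a * b) := by rw [← h]; exact hcy
      rw [inv_inv]
      have h5 : b * y * b⁻¹ = a⁻¹ * ((a * b) * y) * b⁻¹ := by group
      rw [h5, h4]
      group
    have h6 : b * y * b⁻¹ * y⁻¹ = 1 := by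
      rcases h1 with h1 | h1
      · exact h1
      · exfalso
        rw [h3] at h1
        rcases h2 with h2 | h2
        · exact L.e1.z1 (h1.symm.trans h2)
        · exact L.sz (h1.symm.trans h2)
    have hby : b * y = y * b := by
      have := mul_inv_eq_one.1 h6
      exact mul_inv_eq_iff_eq_mul.1 this
    have hay : a * y = y * a := by
      rw [h3] at h6
      have h7 : a⁻¹ * y * a = y := by
        have := mul_inv_eq_one.1 h6
        rwa [inv_inv] at this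
      have h8 : a * (a⁻¹ * y * a) = a * y := by rw [h7]
      rw [← h8]; group
    exact ⟨a, ⟨ha, (hmem a).2 ⟨haz, has, hay⟩⟩, b, ⟨hb, (hmem b).2 ⟨hbz, hbs, hby⟩⟩, h⟩

end Cfsg.Agent.Lib.H97FeL6x
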