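import Cfsg.Agent.Lib.H97Fe0
import Cfsg.Agent.Lib.ConjSylow

set_option autoImplicit false
set_option linter.all false
open Cfsg Cfsg.Agent.Lib.H97Fe0

namespace Cfsg.Agent.Lib.H97FeL6x20

theorem R_facts_aux {G : Type*} [Group G] [Finite G] {z s y : G} {Q Q₁ : Subgroup G} (L : Loc z s y Q Q₁) (C : Subgroup G)
    (hC : C = Subgroup.centralizer ({z, s, y} : Set G))
    (hV : ∀ V : Subgroup G, V = Subgroup.closure ({z, s, y} : Set G) →
      Nat.card V = 8 ∧ z ∈ V ∧ s ∈ V ∧ y ∈ V ∧ V ≤ Q ∧ V ≤ Q₁) :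
    ∃ R : Subgroup G, (∀ c, c ∈ R ↔ ∃ a ∈ Q ⊓ C, ∃ b ∈ Q₁ ⊓ C, c = a * b) ∧ IsPGroup 2 R ∧ Nat.card R = 2 ^ 15 ∧ R ≤ C ∧
      Nat.card ↥(Q ⊓ C) = 2 ^ 11 ∧ Nat.card ↥(Q₁ ⊓ C) = 2 ^ 11 ∧
      (∀ c ∈ C, c ∈ R ↔ ∃ a ∈ Q, ∃ b ∈ Q₁, b * z = z * b ∧ c = a * b) := by
  obtain ⟨hV8, hzV, hsV, hyV, hVQ, hVQ₁⟩ := hV _ rfl
  have hCV : Subgroup.centralizer ((Subgroup.closure ({z, s, y} : Set G) : Subgroup G) : Set G) = C := by
    rw [hC, Subgroup.centralizer_closure]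
  have hmem : ∀ c, c ∈ C ↔ (z * c = c * z ∧ s * c = c * s ∧ y * c = c * y) := by
    intro c
    rw [hC, Subgroup.mem_centralizer_iff]
    simp
  have h1 : Nat.card ↥(Q ⊓ C) = 2 ^ 11 := by
    have := L.e0.dual _ hVQ hzV
    rw [hCV, hV8] at this
    omega
  have h2 : Nat.card ↥(Q₁ ⊓ C) = 2 ^ 11 := by
    have := L.e1.dual _ hVQ₁ hsV
    rw [hCV, hV8] at this
    omega
  have hnorm : ∀ b ∈ Q₁ ⊓ C, ∀ a ∈ Q ⊓ C, b * a * b⁻¹ ∈ Q ⊓ C := by
    intro b hb a ha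
    refine ⟨L.n0 b ((hmem b).1 hb.2).1.symm a ha.1, C.mul_mem (C.mul_mem hb.2 ha.2) (C.inv_mem hb.2)⟩
  let R : Subgroup G :=
    { carrier := {c | ∃ a ∈ Q ⊓ C, ∃ b ∈ Q₁ ⊓ C, c = a * b}
      one_mem' := ⟨1, (Q ⊓ C).one_mem, 1, (Q₁ ⊓ C).one_mem, by simp⟩
      mul_mem' := by
        rintro x x' ⟨a, ha, b, hb, h⟩ ⟨a', ha', b', hb', h'⟩
        refine ⟨a * (b * a' * b⁻¹), (Q ⊓ C).mul_mem ha (hnorm b hb a' ha'), b * b', (Q₁ ⊓ C).mul_mem hb hb', ?_⟩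
        rw [h, h']; group
      inv_mem' := by
        rintro x ⟨a, ha, b, hb, h⟩
        refine ⟨b⁻¹ * a⁻¹ * b⁻¹⁻¹, hnorm b⁻¹ ((Q₁ ⊓ C).inv_mem hb) a⁻¹ ((Q ⊓ C).inv_mem ha), b⁻¹,
          (Q₁ ⊓ C).inv_mem hb, ?_⟩
        rw [h]; group }
  have hRmem : ∀ c, c ∈ R ↔ ∃ a ∈ Q ⊓ C, ∃ b ∈ Q₁ ⊓ C, c = a * b := fun c => Iff.rfl
  have hRsup : R = (Q₁ ⊓ C) ⊔ (Q ⊓ C) := by
    apply le_antisymm
    · rintro c ⟨a, ha, b, hb, rfl⟩
      exact mul_mem (Subgroup.mem_sup_right ha) (Subgroup.mem_sup_left hb)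
    · refine sup_le ?_ ?_
      · intro b hb
        exact ⟨1, (Q ⊓ C).one_mem, b, hb, by simp⟩
      · intro a ha
        exact ⟨a, ha, 1, (Q₁ ⊓ C).one_mem, by simp⟩
  have hinf : (Q₁ ⊓ C) ⊓ (Q ⊓ C) = Q ⊓ Q₁ := by
    apply le_antisymm
    · intro x hx
      exact ⟨hx.2.1, hx.1.1⟩
    · intro x hx
      have hxC : x ∈ C := (hmem x).2 ⟨L.abE z L.e0.zQ L.zQ₁ x hx.1 hx.2, L.abE s L.sQ L.e1.zQ x hx.1 hx.2,
        L.abE y L.yQ L.yQ₁ x hx.1 hx.2⟩
      exact ⟨⟨hx.2, hxC⟩, hx.1, hxC⟩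
  have hcard : Nat.card R = 2 ^ 15 := by
    have h3 := ConjSylow.card_sup_mul_card_inf (H := Q₁ ⊓ C) (K := Q ⊓ C) (by
      intro b hb
      rw [Subgroup.mem_normalizer_iff]
      intro a
      constructor
      · intro ha; exact hnorm b hb a ha
      · intro ha
        have := hnorm b⁻¹ ((Q₁ ⊓ C).inv_mem hb) _ ha
        have e : b⁻¹ * (b * a * b⁻¹) * b⁻¹⁻¹ = a := by group
        rwa [e] at this)
    rw [← hRsup, hinf, h1, h2, L.cE] at h3
    omega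
  refine ⟨R, hRmem, IsPGroup.of_card hcard, hcard, ?_, h1, h2, ?_⟩
  · rintro c ⟨a, ha, b, hb, rfl⟩
    exact C.mul_mem ha.2 hb.2
  · intro c hc
    constructor
    · rintro ⟨a, ha, b, hb, h⟩
      exact ⟨a, ha.1, b, hb.1, ((hmem b).1 hb.2).1.symm, h⟩
    · rintro ⟨a, ha, b, hb, hbz, h⟩
      have hcy : y * c = c * y := ((hmem c).1 hc).2.2
      have hs1 : s ≠ 1 := L.e1.z1
      have hby : b * y = y * b := by
        have e1 := L.e1.comm b hb y L.yQ₁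
        rcases e1 with e1 | e1
        · calc b * y = (b * y * b⁻¹ * y⁻¹) * (y * b) := by group
            _ = y * b := by rw [e1, one_mul]
        · exfalso
          -- b y = s y b
          have e2 : b * y = s * (y * b) := by
            calc b * y = (b * y * b⁻¹ * y⁻¹) * (y * b) := by group
              _ = s * (y * b) := by rw [e1]
          -- y a b = a b y = a s y b
          have e3 : y * a = a * (s * y) := by
            have e4 : y * a * b = a * (s * y) * b := by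
              calc y * a * b = y * (a * b) := by group
                _ = (a * b) * y := by rw [← h, hcy]
                _ = a * (b * y) := by group
                _ = a * (s * (y * b)) := by rw [e2]
                _ = a * (s * y) * b := by group
            exact mul_right_cancel e4
          have e5 : a⁻¹ * y * a * y⁻¹ = s := by
            calc a⁻¹ * y * a * y⁻¹ = a⁻¹ * (y * a) * y⁻¹ := by group
              _ = a⁻¹ * (a * (s * y)) * y⁻¹ := by rw [e3]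
              _ = s := by group
          have e6 := L.e0.comm a⁻¹ (Q.inv_mem ha) y L.yQ
          rw [inv_inv, e5] at e6
          rcases e6 with e6 | e6
          · exact hs1 e6
          · exact L.sz e6
      have hbC : b ∈ C := (hmem b).2 ⟨hbz.symm, (L.e1.cen b hb).symm, hby.symm⟩
      have haC : a ∈ C := by
        have : a = c * b⁻¹ := by rw [h]; group
        rw [this]; exact C.mul_mem hc (C.inv_mem hbC)
      exact ⟨a, ⟨ha, haC⟩, b, ⟨hb, hbC⟩, h⟩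

end Cfsg.Agent.Lib.H97FeL6x20
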