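import Cfsg.Agent.Lib.FusionRealTwo
import Cfsg.Agent.Lib.FusionGroup

/-! A finite group all of whose 2-elements are 2-central has abelian Sylow 2-subgroups (helper48). -/

set_option autoImplicit false
open Cfsg Cfsg.FusionSystem Cfsg.Agent.Lib.FusionBasic Cfsg.Agent.Lib.FusionSat Cfsg.Agent.Lib

open scoped Pointwise

namespace Cfsg.Agent.Lib.TwoCentralAb

variable {G : Type*} [Group G] [Finite G]

theorem mem_sylow_of_commute {p : ℕ} [Fact p.Prime] (P : Sylow p G) {z : G} (hz : ∃ k : ℕ, orderOf z = p ^ k)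
    (hc : ∀ x ∈ P, x * z = z * x) : z ∈ P := by
  obtain ⟨k, hk⟩ := hz
  have hzp : IsPGroup p (Subgroup.zpowers z) := by
    apply IsPGroup.of_card (n := k)
    rw [Nat.card_zpowers, hk]
  have hn : Subgroup.zpowers z ≤ Subgroup.normalizer ((P : Subgroup G) : Set G) := by
    rw [Subgroup.zpowers_le, Subgroup.mem_normalizer_iff]
    intro x
    constructor
    · intro hx
      have : z * x * z⁻¹ = x := by rw [← hc x hx]; group
      rw [this]; exact hx
    · intro hx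
      have h1 := hc _ hx
      have h2 : z * x * z⁻¹ = x := by
        have h3 : z * (z * x * z⁻¹) * z⁻¹ = z * x * z⁻¹ := by rw [← h1]; group
        have h4 : z * x * z⁻¹ = z⁻¹ * (z * (z * x * z⁻¹) * z⁻¹) * z := by group
        rw [h3] at h4
        rw [h4]; group
      rwa [h2] at hx
  have h1 : IsPGroup p ((P : Subgroup G) ⊔ Subgroup.zpowers z : Subgroup G) := by
    rw [sup_comm]
    exact IsPGroup.to_sup_of_normal_right' hzp P.2 hn
  have h2 := P.3 h1 le_sup_left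
  have h3 : z ∈ (P : Subgroup G) ⊔ Subgroup.zpowers z := Subgroup.mem_sup_right (Subgroup.mem_zpowers z)
  rw [h2] at h3
  exact h3

theorem main (h : ∀ x : G, (∃ k : ℕ, orderOf x = 2 ^ k) → ∃ Q : Sylow 2 G,
    (Q : Subgroup G) ≤ Subgroup.centralizer ({x} : Set G)) (P : Sylow 2 G) : IsMulCommutative (P : Subgroup G) := by
  have : Fact (Nat.Prime 2) := ⟨Nat.prime_two⟩
  refine FusionRealTwo.isMulCommutative (F := groupFusionSystem (P : Subgroup G)) P.2
    (FusionGroup.groupFusionSystem_isSaturated P) ?_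
  intro x hx
  have hx2 : ∃ k : ℕ, orderOf x = 2 ^ k := by
    obtain ⟨k, hk⟩ := P.2 ⟨x, hx⟩
    have h1 : x ^ 2 ^ k = 1 := congrArg Subtype.val hk
    obtain ⟨m, -, hm⟩ := (Nat.dvd_prime_pow Nat.prime_two).mp (orderOf_dvd_of_pow_eq_one h1)
    exact ⟨m, hm⟩
  obtain ⟨Q, hQ⟩ := h x hx2
  obtain ⟨g, hg⟩ := MulAction.exists_smul_eq G Q P
  have hPg : ∀ y ∈ P, g⁻¹ * y * g ∈ Q := by
    intro y hy
    rw [← hg] at hy
    have h1 : y ∈ (g • Q : Sylow 2 G) := hy
    rw [Sylow.smul_def] at h1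
    change y ∈ MulAut.conj g • (Q : Subgroup G) at h1
    rw [Subgroup.mem_pointwise_smul_iff_inv_smul_mem] at h1
    have h2 : g⁻¹ * y * g ∈ (Q : Subgroup G) := by simpa [MulAut.smul_def, MulAut.conj_inv_apply] using h1
    exact h2
  have hzc : ∀ y ∈ P, y * (g * x * g⁻¹) = (g * x * g⁻¹) * y := by
    intro y hy
    have h1 := Subgroup.mem_centralizer_iff.mp (hQ (hPg y hy)) x rfl
    calc y * (g * x * g⁻¹) = g * ((g⁻¹ * y * g) * x) * g⁻¹ := by group
      _ = g * (x * (g⁻¹ * y * g)) * g⁻¹ := by rw [h1]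
      _ = (g * x * g⁻¹) * y := by group
  have hzP : g * x * g⁻¹ ∈ P := by
    refine mem_sylow_of_commute P ?_ hzc
    obtain ⟨k, hk⟩ := hx2
    refine ⟨k, ?_⟩
    rw [← hk]
    have := MulEquiv.orderOf_eq (MulAut.conj g) x
    simpa using this
  refine ⟨g * x * g⁻¹, ?_, ?_⟩
  · refine ⟨hzP, ?_⟩
    show _ ∈ Subgroup.centralizer ((P : Subgroup G) : Set G)
    rw [Subgroup.mem_centralizer_iff]
    exact hzc
  · refine ⟨conjHom (Subgroup.zpowers x) g, ⟨?_, ?_, g, fun y => rfl⟩, rfl⟩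
    · exact Subgroup.zpowers_le.mpr hx
    · rintro ⟨y, hy⟩
      obtain ⟨n, rfl⟩ := Subgroup.mem_zpowers_iff.mp hy
      show g * x ^ n * g⁻¹ ∈ (P : Subgroup G)
      rw [← conj_zpow]
      exact Subgroup.zpow_mem _ hzP n

end Cfsg.Agent.Lib.TwoCentralAb
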