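import Mathlib
import Cfsg.Agent.Lib.H9CT3c
import Cfsg.Agent.Lib.AbCent7
import Cfsg.Agent.Lib.BRThm
import Cfsg.Agent.Lib.ClSL2
import Cfsg.Agent.Lib.BrauerFowler
import Cfsg.Agent.Lib.PF14Odd
import Cfsg.Agent.Lib.TwoCentralAb
import Cfsg.Agent.S4355

/-!
# Simple groups with three nontrivial class sizes, IV: the unnested case (helper9)
-/

set_option autoImplicit false
set_option linter.unusedSectionVars false

namespace Cfsg.Agent.Lib.H9CT3

open Subgroup Cfsg.Agent.Lib.CSP

universe u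

variable {G : Type u} [Group G] [Finite G]

theorem third {S : Set ℕ} (h : S.ncard = 3) {i j : ℕ} (hi : i ∈ S) (hj : j ∈ S) (hij : i ≠ j) :
    ∃ k ∈ S, k ≠ i ∧ k ≠ j ∧ ∀ m ∈ S, m = i ∨ m = j ∨ m = k := by
  obtain ⟨a, b, c, hab, hac, hbc, rfl⟩ := Set.ncard_eq_three.1 h
  simp only [Set.mem_insert_iff, Set.mem_singleton_iff] at hi hj
  rcases hi with hi | hi | hi <;> rcases hj with hj | hj | hj <;>
    first
    | exact absurd (hi.trans hj.symm) hij
    | exact ⟨a, by simp, by omega, by omega, fun m hm => by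
        simp only [Set.mem_insert_iff, Set.mem_singleton_iff] at hm; omega⟩
    | exact ⟨b, by simp, by omega, by omega, fun m hm => by
        simp only [Set.mem_insert_iff, Set.mem_singleton_iff] at hm; omega⟩
    | exact ⟨c, by simp, by omega, by omega, fun m hm => by
        simp only [Set.mem_insert_iff, Set.mem_singleton_iff] at hm; omega⟩

theorem not_solvable [IsSimpleGroup G] (hna : ¬ IsMulCommutative G) : ¬ Group.IsSolvable G := by
  intro h
  apply hna
  exact ⟨⟨IsSimpleGroup.comm_iff_isSolvable.2 h⟩⟩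

theorem not_two_group [IsSimpleGroup G] (hna : ¬ IsMulCommutative G) (h : IsPGroup 2 G) : False := by
  have : Fact (Nat.Prime 2) := ⟨Nat.prime_two⟩
  have h1 := h.center_nontrivial
  rw [center_bot hna] at h1
  exact (Subgroup.nontrivial_iff_ne_bot ⊥).1 h1 rfl

/-- hypothesis -/
structure Three (G : Type u) [Group G] [Finite G] : Prop where
  simp : IsSimpleGroup G
  nab : ¬ IsMulCommutative G
  card3 : Set.ncard {m : ℕ | ∃ x : G, x ∉ Subgroup.center G ∧ m = (Subgroup.centralizer ({x} : Set G)).index} = 3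

theorem Three.iso (h : Three G) (x : G) (hx : x ∉ center G) : Iso x := by
  have hs := h.simp
  have key : ∀ x y : G, y ∉ center G → C x ≤ C y → C y ≤ C x := by
    intro x y hy hxy
    by_contra hcon
    have hx : x ∉ center G := by
      intro hx
      apply hcon
      rw [C_eq_top hx] at hxy ⊢
      exact le_top
    have hne : n x ≠ n y := fun h => hcon (le_of_n_eq hxy h)
    have hdvd : n y ∣ n x := index_dvd_of_le hxy
    obtain ⟨k, ⟨w, hw, hwk⟩, hk1, hk2, hk3⟩ := third h.card3 (i := n x) (j := n y) ⟨x, hx, rfl⟩ ⟨y, hy, rfl⟩ hne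
    have hN : Nest G (n x) (n y) k := {
      simp := h.simp
      nab := h.nab
      sizes := fun g hg => hk3 _ ⟨g, not_mem_center h.nab hg, rfl⟩
      hi := ⟨x, ne_one_of_not_center hx, rfl⟩
      hj := ⟨y, ne_one_of_not_center hy, rfl⟩
      hk := ⟨w, ne_one_of_not_center hw, hwk.symm⟩
      dvd := hdvd
      lt := lt_of_le_of_ne (Nat.le_of_dvd (Nat.pos_of_ne_zero (n_ne_zero _)) hdvd) hne.symm
      hik := hk1.symm
      hjk := hk2.symm }
    exact hN.false
  intro y hy
  exact ⟨fun h1 => key y x hx h1, fun h1 => key x y hy h1⟩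

theorem Three.even (h : Three G) : 2 ∣ Nat.card G := by
  have hs := h.simp
  by_contra hc
  apply not_solvable h.nab
  apply PF14Odd.odd_order
  rw [← Nat.not_even_iff_odd, even_iff_two_dvd]
  exact hc

/-- centralizers of `2`-elements -/
theorem Three.dich (h : Three G) {z : G} (hz : z ≠ 1) (hz2 : ∃ a, orderOf z = 2 ^ a) :
    (∀ w ∈ C z, C z ≤ C w) ∨ IsPGroup 2 (C z) := by
  have hs := h.simp
  have hzc := not_mem_center h.nab hz
  rcases comm_or Nat.prime_two (h.iso z hzc) hzc hz2 with h1 | h1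
  · exact Or.inl h1
  · right
    intro w
    obtain ⟨u, v, huv, -, hu, hv, ⟨a, ha⟩, hco⟩ := parts Nat.prime_two (w : G)
    have h2 : v ∈ C z := (zpowers_le.2 w.2) hv
    have h3 := h1 v h2 hco
    rw [center_bot h.nab, mem_bot] at h3
    rw [h3, mul_one] at huv
    refine ⟨a, ?_⟩
    apply Subtype.ext
    rw [Subgroup.coe_pow, ← huv, ← ha, pow_orderOf_eq_one]
    rfl

theorem identify [IsSimpleGroup G] (hna : ¬ IsMulCommutative G) (hev : 2 ∣ Nat.card G)
    (h : ∀ t : G, orderOf t = 2 → IsMulCommutative (centralizer ({t} : Set G))) :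
    ∃ (m : ℕ) (F : Type) (_ : Field F) (_ : Fintype F), 2 ≤ m ∧ Fintype.card F = 2 ^ m ∧
      Nonempty (G ≃* Matrix.ProjectiveSpecialLinearGroup (Fin 2) F) := by
  have hf2 : Fact (Nat.Prime 2) := ⟨Nat.prime_two⟩
  rcases AbCent.final h with h1 | h1 | ⟨F, iF, iFt, A, iA, iAf, hF, hA, ⟨e⟩⟩
  · exfalso
    obtain ⟨P⟩ : Nonempty (Sylow 2 G) := inferInstance
    obtain ⟨H, hH⟩ := BrauerFowler.exists_index_two_of_cyclic (even_iff_two_dvd.2 hev) P (h1 P)
    have hHn : H.Normal := normal_of_index_eq_two hH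
    rcases hHn.eq_bot_or_eq_top with h2 | h2
    · rw [h2, index_bot] at hH
      have h5 : Fact (Nat.card G).Prime := ⟨hH ▸ Nat.prime_two⟩
      have h6 : IsCyclic G := isCyclic_of_prime_card (p := Nat.card G) rfl
      exact hna ⟨⟨fun x y => (IsCyclic.commGroup (α := G)).mul_comm x y⟩⟩
    · rw [h2, index_top] at hH
      omega
  · exfalso
    obtain ⟨P⟩ : Nonempty (Sylow 2 G) := inferInstance
    rcases (h1 P).eq_bot_or_eq_top with h2 | h2
    · have h3 := P.not_dvd_index
      rw [h2, index_bot] at h3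
      exact h3 hev
    · apply not_two_group hna
      have h3 := P.2
      rw [h2] at h3
      exact h3.of_equiv Subgroup.topEquiv
  · -- A is trivial
    let f : G →* A := (MonoidHom.snd _ A).comp e.toMonoidHom
    have hA1 : Subsingleton A := by
      rcases (inferInstance : f.ker.Normal).eq_bot_or_eq_top with h2 | h2
      · exfalso
        apply hna
        refine ⟨⟨fun a b => ?_⟩⟩
        apply (MonoidHom.ker_eq_bot_iff f).1 h2
        rw [map_mul, map_mul, mul_comm]
      · refine ⟨fun a b => ?_⟩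
        have h3 : ∀ a : A, a = 1 := by
          intro a
          have h4 : e.symm (1, a) ∈ f.ker := h2 ▸ mem_top _
          have h5 : (e (e.symm (1, a))).2 = 1 := h4
          rw [e.apply_symm_apply] at h5
          exact h5
        rw [h3 a, h3 b]
    have e2 : G ≃* Matrix.SpecialLinearGroup (Fin 2) F := by
      let iU : Unique A := ⟨⟨1⟩, fun a => Subsingleton.elim _ _⟩
      exact e.trans MulEquiv.prodUnique
    obtain ⟨m, -, hm⟩ := FiniteField.card F 2
    have h20 : (2 : F) = 0 := BRThm.two_eq_zero m.pos hm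
    obtain ⟨e3⟩ := BRThm.psl_eq_sl h20
    refine ⟨m, F, iF, iFt, ?_, hm, ⟨e2.trans e3.symm⟩⟩
    by_contra hc
    have hm1 : (m : ℕ) = 1 := by
      have := m.pos
      omega
    rw [hm1, pow_one] at hm
    have h3 : Nat.card G = 2 ^ 1 * 3 ^ 1 := by
      rw [Nat.card_congr e2.toEquiv, ClSL2.card_SL2 hm]
      norm_num
    exact not_solvable hna (Burnside.isSolvable_of_card_eq _ 2 3 1 1 Nat.prime_two Nat.prime_three h3 rfl)

theorem Three.ident (h : Three G) : ∃ (m : ℕ) (F : Type) (_ : Field F) (_ : Fintype F), 2 ≤ m ∧ Fintype.card F = 2 ^ m ∧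
      Nonempty (G ≃* Matrix.ProjectiveSpecialLinearGroup (Fin 2) F) := by
  have hs := h.simp
  have hf2 : Fact (Nat.Prime 2) := ⟨Nat.prime_two⟩
  obtain ⟨z, hz, hz2, hzn⟩ := exists_sylow_central Nat.prime_two h.even
  have hzc := not_mem_center h.nab hz
  have hziso := h.iso z hzc
  -- case (i)
  have case1 : (∀ w ∈ C z, C z ≤ C w) → ∀ t : G, orderOf t = 2 → IsMulCommutative (centralizer ({t} : Set G)) := by
    intro h1 t ht
    have ht1 : t ≠ 1 := by rintro rfl; rw [orderOf_one] at ht; omega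
    obtain ⟨g, hg⟩ := exists_conj_mem Nat.prime_two (a := t) ⟨1, by rw [ht, pow_one]⟩ hzn
    have ht' : g⁻¹ * t * g ∉ center G := by
      intro h0
      apply not_mem_center h.nab ht1
      have := conj_mem_center (g := g⁻¹) (x := t) (by rwa [inv_inv])
      exact this
    have h2 := h1 _ hg
    have h3 := (hziso _ ht').2 h2
    refine ⟨⟨?_⟩⟩
    rintro ⟨a, ha⟩ ⟨b, hb⟩
    apply Subtype.ext
    show a * b = b * a
    have ha' : g⁻¹ * a * g ∈ C z := h3 (by
      have := (C_conj g⁻¹ t (g⁻¹ * a * g)).2 (by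
        rw [inv_inv, show g * (g⁻¹ * a * g) * g⁻¹ = a by group]; exact ha)
      rwa [inv_inv] at this)
    have hb' : g⁻¹ * b * g ∈ C z := h3 (by
      have := (C_conj g⁻¹ t (g⁻¹ * b * g)).2 (by
        rw [inv_inv, show g * (g⁻¹ * b * g) * g⁻¹ = b by group]; exact hb)
      rwa [inv_inv] at this)
    have h4 := mem_C.1 (h1 _ hb' ha')
    calc a * b = g * (g⁻¹ * a * g * (g⁻¹ * b * g)) * g⁻¹ := by group
      _ = b * a := by rw [h4]; group
  by_cases hA : ∃ u : G, u ≠ 1 ∧ (∃ a, orderOf u = 2 ^ a) ∧ ∀ w ∈ C u, C u ≤ C w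
  · obtain ⟨u, hu, hu2, huC⟩ := hA
    refine identify h.nab h.even (case1 ?_)
    obtain ⟨g, hg⟩ := exists_conj_mem Nat.prime_two hu2 hzn
    -- z' = g z g⁻¹ ∈ C u
    have h1 : g * z * g⁻¹ ∈ C u := by
      rw [mem_C_comm, C_conj]; exact hg
    have h2 : g * z * g⁻¹ ∉ center G := fun h0 => hzc (conj_mem_center h0)
    have h3 := huC _ h1
    have h4 := ((h.iso u (not_mem_center h.nab hu)) _ h2).2 h3
    intro w hw
    intro v hv
    have hw' : g * w * g⁻¹ ∈ C u := h4 (by rw [C_conj, show g⁻¹ * (g * w * g⁻¹) * g = w by group]; exact hw)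
    have hv' : g * v * g⁻¹ ∈ C u := h4 (by rw [C_conj, show g⁻¹ * (g * v * g⁻¹) * g = v by group]; exact hv)
    have h5 := mem_C.1 (huC _ hw' hv')
    rw [mem_C]
    calc v * w = g⁻¹ * (g * v * g⁻¹ * (g * w * g⁻¹)) * g := by group
      _ = w * v := by rw [h5]; group
  exfalso
  push Not at hA
  have hp : ∀ u : G, u ≠ 1 → (∃ a, orderOf u = 2 ^ a) → IsPGroup 2 (C u) := by
    intro u hu hu2
    rcases h.dich hu hu2 with h1 | h1
    · obtain ⟨w, hw, hw'⟩ := hA u hu hu2
      exact absurd (h1 w hw) hw'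
    · exact h1
  -- a 2-element with even class size
  obtain ⟨u, hu2, hun⟩ : ∃ u : G, (∃ a, orderOf u = 2 ^ a) ∧ 2 ∣ n u := by
    by_contra hcon
    push Not at hcon
    have h1 := fun P => S4355.result (G := G) (fun x hx => hcon x hx) P
    obtain ⟨Q, hQ⟩ := (hp z hz hz2).exists_le_sylow
    have h2 := h1 Q
    obtain ⟨w, hw, hw'⟩ := hA z hz hz2
    apply hw'
    intro v hv
    have h3 := h2.is_comm.comm ⟨v, hQ hv⟩ ⟨w, hQ hw⟩
    exact mem_C.2 (congrArg Subtype.val h3)
  have hu : u ≠ 1 := by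
    rintro rfl
    have : n (1 : G) = 1 := by
      show (C (1 : G)).index = 1
      rw [C_eq_top (one_mem _), index_top]
    rw [this] at hun
    omega
  have huz : n z ≠ n u := fun h0 => hzn (h0 ▸ hun)
  have huc := not_mem_center h.nab hu
  obtain ⟨k, -, -, -, hk⟩ := third h.card3 (i := n z) (j := n u) ⟨z, hzc, rfl⟩ ⟨u, huc, rfl⟩ huz
  -- odd order elements
  have hodd : ∀ x : G, x ≠ 1 → (orderOf x).Coprime 2 → ¬ 2 ∣ Nat.card (C x) := by
    intro x hx hxo h1
    obtain ⟨t, ht⟩ := exists_prime_orderOf_dvd_card' 2 h1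
    have ht1 : orderOf (t : G) = 2 := by rw [← ht]; exact Subgroup.orderOf_coe t
    have ht0 : (t : G) ≠ 1 := by
      intro h0; rw [h0, orderOf_one] at ht1; omega
    have h2 := hp t ht0 ⟨1, by rw [ht1, pow_one]⟩
    have h3 : x ∈ C (t : G) := mem_C_comm.1 t.2
    obtain ⟨a, ha⟩ := h2 ⟨x, h3⟩
    have h4 : x ^ 2 ^ a = 1 := by
      have := congrArg Subtype.val ha
      simpa using this
    have h5 : orderOf x ∣ 2 ^ a := orderOf_dvd_of_pow_eq_one h4
    have h6 := Nat.eq_one_of_dvd_coprimes (hxo.pow_right a) dvd_rfl h5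
    exact hx (orderOf_eq_one_iff.1 h6)
  have hnk : ∀ x : G, x ≠ 1 → (orderOf x).Coprime 2 → n x = k := by
    intro x hx hxo
    have key : ∀ w : G, w ≠ 1 → (∃ a, orderOf w = 2 ^ a) → n x ≠ n w := by
      intro w hw hw2 h0
      obtain ⟨b, hb⟩ := (hp w hw hw2).exists_card_eq
      have h1 : Nat.card (C x) = Nat.card (C w) := by
        have e1 := card_mul_index (C x)
        have e2 := card_mul_index (C w)
        rw [show (C x).index = (C w).index from h0, ← e2] at e1
        exact Nat.eq_of_mul_eq_mul_right (Nat.pos_of_ne_zero (n_ne_zero w)) e1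
      have h2 := hodd x hx hxo
      rw [h1, hb] at h2
      have h3 : b = 0 := by
        by_contra hb0
        exact h2 (dvd_pow_self 2 hb0)
      rw [h3, pow_zero] at hb
      rw [hb, Nat.card_eq_one_iff_unique] at h1
      have := h1.1.elim ⟨x, self_mem x⟩ 1
      exact hx (congrArg Subtype.val this)
    rcases hk _ ⟨x, not_mem_center h.nab hx, rfl⟩ with h1 | h1 | h1
    · exact absurd h1 (key z hz hz2)
    · exact absurd h1 (key u hu hu2)
    · exact h1
  -- an odd prime
  obtain ⟨s, hs1, hs2, hs3⟩ : ∃ s, s.Prime ∧ s ≠ 2 ∧ s ∣ Nat.card G := by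
    by_contra hcon
    push Not at hcon
    have h3 : Nat.card G = 2 ^ (Nat.card G).primeFactorsList.length :=
      Nat.eq_prime_pow_of_unique_prime_dvd Nat.card_pos.ne' (fun {d} hd hdj => by
        by_contra hd2
        exact hcon d hd hd2 hdj)
    exact not_two_group h.nab (IsPGroup.of_card h3)
  have hcop2 : ∀ {t : ℕ}, t.Prime → t ≠ 2 → ∀ {x : G}, (∃ a, orderOf x = t ^ a) → (orderOf x).Coprime 2 := by
    rintro t ht ht2 x ⟨a, ha⟩
    rw [ha]
    exact ((Nat.coprime_primes ht Nat.prime_two).2 ht2).pow_left a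
  obtain ⟨x, hx, hxs, -⟩ := exists_sylow_central hs1 hs3
  have hxk := hnk x hx (hcop2 hs1 hs2 hxs)
  have hpow : k = 2 ^ k.primeFactorsList.length := by
    apply Nat.eq_prime_pow_of_unique_prime_dvd
    · rw [← hxk]; exact n_ne_zero x
    · intro t ht htk
      by_contra ht2
      obtain ⟨w, hw, hwt, hwn⟩ := exists_sylow_central ht (htk.trans (hxk ▸ n_dvd_card x))
      exact hwn (hnk w hw (hcop2 ht ht2 hwt) ▸ htk)
  have h4 := Burnside.prime_card_of_class_prime_pow 2 _ Nat.prime_two x hx (hxk.trans hpow)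
  have h5 : Fact (Nat.card G).Prime := ⟨h4⟩
  have h6 : IsCyclic G := isCyclic_of_prime_card (p := Nat.card G) rfl
  exact h.nab ⟨⟨fun x y => (IsCyclic.commGroup (α := G)).mul_comm x y⟩⟩

end Cfsg.Agent.Lib.H9CT3
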