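import Mathlib
import Cfsg.Agent.Lib.CSPa
import Cfsg.Agent.S2507

/-!
# Class sizes of `PSL(2, 2^m)` (helper9)
-/

set_option autoImplicit false
set_option linter.unusedSectionVars false

namespace Cfsg.Agent.Lib.H9CT3

open Subgroup Cfsg.Agent.Lib.CSP

theorem n_equiv {G H : Type*} [Group G] [Group H] (e : G ≃* H) (x : G) : n (e x) = n x := by
  have h1 : C (e x) = (C x).map e.toMonoidHom := by
    ext w
    rw [mem_C]
    constructor
    · intro h
      refine ⟨e.symm w, ?_, by simp⟩
      show e.symm w ∈ C x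
      rw [mem_C]
      apply e.injective
      simpa using h
    · rintro ⟨v, hv, rfl⟩
      have hv' : v * x = x * v := mem_C.1 hv
      show e v * e x = e x * e v
      rw [← map_mul, hv', map_mul]
  show (C (e x)).index = (C x).index
  rw [h1]
  exact Subgroup.index_map_equiv _ e

theorem mem_center_iff_n {G : Type*} [Group G] (x : G) : x ∈ center G ↔ n x = 1 := by
  constructor
  · intro h
    show (C x).index = 1
    rw [C_eq_top h, index_top]
  · intro h
    exact mem_center_of_C_top (index_eq_one.1 h)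

theorem converse {G : Type*} [Group G] [Finite G] {m : ℕ} {F : Type} [Field F] [Fintype F] (hm : 2 ≤ m)
    (hF : Fintype.card F = 2 ^ m) (e : G ≃* Matrix.ProjectiveSpecialLinearGroup (Fin 2) F) :
    IsSimpleGroup G ∧ ¬ IsMulCommutative G ∧
      Set.ncard {m : ℕ | ∃ x : G, x ∉ Subgroup.center G ∧ m = (Subgroup.centralizer ({x} : Set G)).index} = 3 := by
  have h4 : 4 ≤ Fintype.card F := by
    rw [hF]
    calc 4 = 2 ^ 2 := by norm_num
      _ ≤ 2 ^ m := Nat.pow_le_pow_right (by norm_num) hm
  have h2 : 2 ∣ Fintype.card F := by rw [hF]; exact dvd_pow_self 2 (by omega)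
  have hs : IsSimpleGroup (Matrix.ProjectiveSpecialLinearGroup (Fin 2) F) :=
    Matrix.ProjectiveSpecialLinearGroup.rank_two_simple (by rw [Nat.card_eq_fintype_card]; omega)
  have hr := Cfsg.Agent.S2507.result h2 h4
  have hset : {m : ℕ | ∃ x : G, x ∉ Subgroup.center G ∧ m = (Subgroup.centralizer ({x} : Set G)).index} =
      {Fintype.card F * (Fintype.card F - 1), Fintype.card F ^ 2 - 1, Fintype.card F * (Fintype.card F + 1)} := by
    obtain ⟨q, hq⟩ : ∃ q, Fintype.card F = q + 4 := ⟨Fintype.card F - 4, by omega⟩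
    have hne : 1 ≠ Fintype.card F * (Fintype.card F - 1) ∧ 1 ≠ Fintype.card F ^ 2 - 1 ∧
        1 ≠ Fintype.card F * (Fintype.card F + 1) := by
      rw [hq]
      have e1 : q + 4 - 1 = q + 3 := by omega
      have e2 : (q + 4) ^ 2 - 1 = q * q + 8 * q + 15 := by
        have : (q + 4) ^ 2 = q * q + 8 * q + 16 := by ring
        omega
      rw [e1, e2]
      refine ⟨?_, ?_, ?_⟩
      · have : (q + 4) * (q + 3) = q * q + 7 * q + 12 := by ring
        omega
      · omega
      · have : (q + 4) * (q + 4 + 1) = q * q + 9 * q + 20 := by ring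
        omega
    ext l
    constructor
    · rintro ⟨x, hx, rfl⟩
      have h1 : n (e x) ∈ Set.range (fun g : (Matrix.ProjectiveSpecialLinearGroup (Fin 2) F) =>
        (Subgroup.centralizer ({g} : Set (Matrix.ProjectiveSpecialLinearGroup (Fin 2) F))).index) := ⟨e x, rfl⟩
      rw [hr, n_equiv] at h1
      rcases h1 with h1 | h1
      · exact absurd ((mem_center_iff_n x).2 h1) hx
      · exact h1
    · intro hl
      have h1 : l ∈ Set.range (fun g : (Matrix.ProjectiveSpecialLinearGroup (Fin 2) F) =>
        (Subgroup.centralizer ({g} : Set (Matrix.ProjectiveSpecialLinearGroup (Fin 2) F))).index) := by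
        rw [hr]; exact Or.inr hl
      obtain ⟨g, hg⟩ := h1
      have hg' : n g = l := hg
      have h3 : n (e.symm g) = l := by rw [← hg', ← n_equiv e, e.apply_symm_apply]
      refine ⟨e.symm g, ?_, h3.symm⟩
      rw [mem_center_iff_n, h3]
      rintro rfl
      simp only [Set.mem_insert_iff, Set.mem_singleton_iff] at hl
      rcases hl with hl | hl | hl
      · exact hne.1 hl
      · exact hne.2.1 hl
      · exact hne.2.2 hl
  refine ⟨?_, ?_, ?_⟩
  · exact e.isSimpleGroup
  · intro hc
    have h5 : Fintype.card F * (Fintype.card F - 1) ∈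
        {m : ℕ | ∃ x : G, x ∉ Subgroup.center G ∧ m = (Subgroup.centralizer ({x} : Set G)).index} := by
      rw [hset]; exact Or.inl rfl
    obtain ⟨x, hx, -⟩ := h5
    apply hx
    rw [mem_center_iff]
    intro g
    exact hc.is_comm.comm g x
  · rw [hset]
    obtain ⟨q, hq⟩ : ∃ q, Fintype.card F = q + 4 := ⟨Fintype.card F - 4, by omega⟩
    rw [hq]
    have e1 : q + 4 - 1 = q + 3 := by omega
    have e2 : (q + 4) ^ 2 - 1 = q * q + 8 * q + 15 := by
      have : (q + 4) ^ 2 = q * q + 8 * q + 16 := by ring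
      omega
    have e3 : (q + 4) * (q + 3) = q * q + 7 * q + 12 := by ring
    have e4 : (q + 4) * (q + 4 + 1) = q * q + 9 * q + 20 := by ring
    rw [e1, e2, e3, e4, Set.ncard_eq_three]
    exact ⟨_, _, _, by omega, by omega, by omega, rfl⟩

end Cfsg.Agent.Lib.H9CT3
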