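import Mathlib

/-! Linear algebra for the Hall-Higman theorem (helper63). -/

set_option autoImplicit false

namespace Cfsg.Agent.Lib.HHLin

open Module

variable {K : Type*} [Field K] {V : Type*} [AddCommGroup V] [Module K V]

/-- `∑_{i<q} X^i = (X-1)^(q-1)` for `q` a power of the characteristic. -/
theorem sum_pow_eq {p : ℕ} [hp : Fact p.Prime] [CharP K p] {A : Type*} [Ring A] [Algebra K A] (X : A) (n : ℕ) :
    ∑ i ∈ Finset.range (p ^ n), X ^ i = (X - 1) ^ (p ^ n - 1) := by
  have h1 : (∑ i ∈ Finset.range (p ^ n), (Polynomial.X : Polynomial K) ^ i) =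
      (Polynomial.X - 1) ^ (p ^ n - 1) := by
    have h2 : (Polynomial.X - 1 : Polynomial K) ≠ 0 := by
      rw [← Polynomial.C_1]
      exact Polynomial.X_sub_C_ne_zero 1
    apply mul_right_cancel₀ h2
    rw [geom_sum_mul, ← pow_succ]
    have h3 : p ^ n - 1 + 1 = p ^ n := Nat.sub_add_cancel (Nat.pos_of_ne_zero (pow_ne_zero _ hp.out.ne_zero))
    rw [h3, sub_pow_char_pow, one_pow]
  have h2 := congrArg (Polynomial.aeval X) h1
  simpa using h2

/-- `(X-1)^(p^t) = X^(p^t) - 1`. -/
theorem sub_one_pow {p : ℕ} [hp : Fact p.Prime] [CharP K p] {A : Type*} [Ring A] [Algebra K A] (X : A) (n : ℕ) :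
    (X - 1) ^ (p ^ n) = X ^ (p ^ n) - 1 := by
  have h1 : (Polynomial.X - 1 : Polynomial K) ^ (p ^ n) = Polynomial.X ^ (p ^ n) - 1 := by
    rw [sub_pow_char_pow, one_pow]
  have h2 := congrArg (Polynomial.aeval X) h1
  simpa using h2

variable [FiniteDimensional K V]

theorem finrank_span_one_le {W : Type*} [AddCommGroup W] [Module K W] (u : W) :
    finrank K (Submodule.span K {u}) ≤ 1 := by
  have := finrank_span_le_card (R := K) ({u} : Set W)
  simpa using this

theorem range_step (φ : End K V) (j : ℕ) :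
    finrank K (LinearMap.range (φ ^ j)) = finrank K (LinearMap.range (φ ^ (j + 1))) +
      finrank K (LinearMap.ker φ ⊓ LinearMap.range (φ ^ j) : Submodule K V) := by
  have h1 := LinearMap.finrank_range_add_finrank_ker (φ.domRestrict (LinearMap.range (φ ^ j)))
  have h2 : LinearMap.range (φ.domRestrict (LinearMap.range (φ ^ j))) = LinearMap.range (φ ^ (j + 1)) := by
    rw [LinearMap.range_domRestrict, pow_succ', ← LinearMap.range_comp]
    rfl
  have h3 : finrank K (LinearMap.ker (φ.domRestrict (LinearMap.range (φ ^ j)))) =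
      finrank K (LinearMap.ker φ ⊓ LinearMap.range (φ ^ j) : Submodule K V) := by
    have h4 : (LinearMap.ker (φ.domRestrict (LinearMap.range (φ ^ j)))).map (LinearMap.range (φ ^ j)).subtype =
        LinearMap.ker φ ⊓ LinearMap.range (φ ^ j) := by
      ext v
      simp only [Submodule.mem_map, LinearMap.mem_ker, LinearMap.domRestrict_apply, Submodule.subtype_apply,
        Submodule.mem_inf]
      constructor
      · rintro ⟨w, hw, rfl⟩
        exact ⟨hw, w.2⟩
      · rintro ⟨h5, h6⟩
        exact ⟨⟨v, h6⟩, h5, rfl⟩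
    rw [← h4]
    exact (LinearEquiv.finrank_eq (Submodule.equivMapOfInjective _ (Submodule.injective_subtype _) _))
  rw [h2, h3] at h1
  exact h1.symm

/-- many large Jordan blocks. -/
theorem mul_add_le (φ : End K V) (m f : ℕ) (h0 : φ ^ (m + 1) = 0) (hf : finrank K (LinearMap.range (φ ^ m)) = f)
    (hk : f + 1 ≤ finrank K (LinearMap.ker φ)) : (m + 1) * f + 1 ≤ finrank K V := by
  have hle : ∀ j, j ≤ m → LinearMap.range (φ ^ m) ≤ LinearMap.ker φ ⊓ LinearMap.range (φ ^ j) := by
    intro j hj
    apply le_inf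
    · rintro _ ⟨v, rfl⟩
      rw [LinearMap.mem_ker, ← Module.End.mul_apply, ← pow_succ', h0, LinearMap.zero_apply]
    · rintro _ ⟨v, rfl⟩
      refine ⟨(φ ^ (m - j)) v, ?_⟩
      rw [← Module.End.mul_apply, ← pow_add]
      congr 2
      omega
  have hstep : ∀ k, k ≤ m → k * f ≤ finrank K (LinearMap.range (φ ^ (m + 1 - k))) := by
    intro k
    induction k with
    | zero => intro _; simp
    | succ k ih =>
      intro hk'
      have h1 := range_step φ (m - k)
      have h2 : m - k + 1 = m + 1 - k := by omega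
      have h3 : m + 1 - (k + 1) = m - k := by omega
      rw [h2] at h1
      rw [h3, h1]
      have h4 := Submodule.finrank_mono (hle (m - k) (by omega))
      rw [hf] at h4
      have h5 := ih (by omega)
      calc (k + 1) * f = k * f + f := by ring
        _ ≤ _ := Nat.add_le_add h5 h4
  have h1 := hstep m le_rfl
  have h2 : m + 1 - m = 1 := by omega
  rw [h2, pow_one] at h1
  have h3 := LinearMap.finrank_range_add_finrank_ker φ
  calc (m + 1) * f + 1 = m * f + (f + 1) := by ring
    _ ≤ _ := Nat.add_le_add h1 hk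
    _ = _ := h3

/-- one-dimensional kernel and nilpotent of index `d`: dimension at most `d`. -/
theorem finrank_le_of_ker (N : End K V) (hk : finrank K (LinearMap.ker N) ≤ 1) (d : ℕ) (h0 : N ^ d = 0) :
    finrank K V ≤ d := by
  have h1 : ∀ j, finrank K V ≤ finrank K (LinearMap.range (N ^ j)) + j := by
    intro j
    induction j with
    | zero =>
      rw [pow_zero, Module.End.one_eq_id, LinearMap.range_id, finrank_top]
      omega
    | succ j ih =>
      have h2 := range_step N j
      have h3 : finrank K (LinearMap.ker N ⊓ LinearMap.range (N ^ j) : Submodule K V) ≤ 1 :=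
        (Submodule.finrank_mono inf_le_left).trans hk
      omega
  have h2 := h1 d
  rw [h0, LinearMap.range_zero, finrank_bot] at h2
  omega

/-- the powers `1, N, …, N^(d-1)` of a nilpotent endomorphism of index `d`. -/
theorem le_finrank_of_pow (N : End K V) (d : ℕ) (h0 : N ^ d = 0) (h1 : ∀ k < d, N ^ k ≠ 0)
    (A : Submodule K (End K V)) (hA : ∀ k, N ^ k ∈ A) : d ≤ finrank K A := by
  classical
  have hli : LinearIndependent K (fun i : Fin d => N ^ (i : ℕ)) := by
    rw [Fintype.linearIndependent_iff]
    intro g hg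
    by_contra hcon
    push Not at hcon
    -- the least index with nonzero coefficient
    have hne : (Finset.univ.filter (fun i : Fin d => g i ≠ 0)).Nonempty := by
      obtain ⟨i, hi⟩ := hcon
      exact ⟨i, by simp [hi]⟩
    obtain ⟨i, hi, hmin⟩ := Finset.exists_min_image _ (fun i : Fin d => (i : ℕ)) hne
    simp only [Finset.mem_filter, Finset.mem_univ, true_and] at hi hmin
    have h2 : N ^ (d - 1 - i) * ∑ j : Fin d, g j • N ^ (j : ℕ) = g i • N ^ (d - 1) := by
      rw [Finset.mul_sum, Finset.sum_eq_single i]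
      · rw [mul_smul_comm, ← pow_add]
        congr 2
        have := i.2
        omega
      · intro j _ hji
        rw [mul_smul_comm, ← pow_add]
        by_cases hgj : g j = 0
        · rw [hgj, zero_smul]
        · have h3 := hmin j hgj
          have h4 : (i : ℕ) ≠ j := fun h => hji (Fin.ext h.symm)
          have h5 : d ≤ d - 1 - i + j := by
            have := i.2
            omega
          obtain ⟨e, he⟩ := Nat.exists_eq_add_of_le h5
          rw [he, pow_add, h0, zero_mul, smul_zero]
      · intro h; exact absurd (Finset.mem_univ _) h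
    rw [hg, mul_zero] at h2
    rcases smul_eq_zero.mp h2.symm with h3 | h3
    · exact hi h3
    · exact h1 (d - 1) (by have := i.2; omega) h3
  let F : Fin d → A := fun i => ⟨N ^ (i : ℕ), hA i⟩
  have hF : LinearIndependent K F := LinearIndependent.of_comp A.subtype hli
  have := hF.fintype_card_le_finrank
  rwa [Fintype.card_fin] at this

/-- The linear algebra core of the critical case. -/
theorem crit_linear {p : ℕ} [hp : Fact p.Prime] [CharP K p] [Nontrivial V] (n : ℕ) (hn : 1 ≤ n) (X Y : End K V)
    (hXY : X * Y = 1) (hYX : Y * X = 1) (hXP : X ^ (p ^ n) = 1) (hD : (finrank K V : K) ≠ 0)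
    (hdec : ∀ T : End K V, T * X = X * T →
      ∃ (c : K) (S : End K V), T = c • 1 + ∑ i ∈ Finset.range (p ^ n), X ^ i * S * Y ^ i)
    (hnil : (X - 1) ^ (p ^ n - 1) = 0) :
    finrank K V = 1 ∨ (finrank K V = p ^ n - 1 ∧ (X - 1) ^ (finrank K V - 1) ≠ 0) := by
  classical
  set P := p ^ n with hP
  have hP1 : 1 < P := Nat.one_lt_pow (by omega) hp.out.one_lt
  set N := X - 1 with hN
  -- nilpotency index
  have hex : ∃ d, N ^ d = 0 := ⟨_, hnil⟩
  set d := Nat.find hex with hd
  have hd0 : N ^ d = 0 := Nat.find_spec hex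
  have hdmin : ∀ k < d, N ^ k ≠ 0 := fun k hk => Nat.find_min hex hk
  have hdP : d ≤ P - 1 := Nat.find_min' hex hnil
  have hdpos : 0 < d := by
    rw [Nat.pos_iff_ne_zero]
    intro h
    rw [h, pow_zero] at hd0
    exact one_ne_zero hd0
  -- a vector of height d
  have hv : ∃ v : V, (N ^ (d - 1)) v ≠ 0 := by
    by_contra hcon
    push Not at hcon
    exact hdmin (d - 1) (by omega) (LinearMap.ext hcon)
  obtain ⟨v, hv⟩ := hv
  have hφ : ∃ φ : Module.Dual K V, φ ((N ^ (d - 1)) v) = 1 := by
    have h1 : ¬ ∀ φ : Module.Dual K V, φ ((N ^ (d - 1)) v) = 0 := by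
      rw [Module.forall_dual_apply_eq_zero_iff K]
      exact hv
    push Not at h1
    obtain ⟨φ, hφ⟩ := h1
    refine ⟨(φ ((N ^ (d - 1)) v))⁻¹ • φ, ?_⟩
    rw [LinearMap.smul_apply, smul_eq_mul, inv_mul_cancel₀ hφ]
  obtain ⟨φ, hφ⟩ := hφ
  have hNX : N * X = X * N := by rw [hN]; noncomm_ring
  -- the operator
  let T : End K V := ∑ i ∈ Finset.range d, (φ ∘ₗ (N ^ i)).smulRight ((N ^ (d - 1 - i)) v)
  have hTu : ∀ u, T u = ∑ i ∈ Finset.range d, φ ((N ^ i) u) • (N ^ (d - 1 - i)) v := by
    intro u
    simp only [T, LinearMap.sum_apply, LinearMap.smulRight_apply, LinearMap.comp_apply]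
  have hTN : T * N = N * T := by
    apply LinearMap.ext
    intro u
    rw [Module.End.mul_apply, Module.End.mul_apply, hTu, hTu, map_sum]
    obtain ⟨e, he⟩ : ∃ e, d = e + 1 := ⟨d - 1, by omega⟩
    rw [he, Finset.sum_range_succ, Finset.sum_range_succ']
    have h1 : φ ((N ^ e) (N u)) • (N ^ (e + 1 - 1 - e)) v = 0 := by
      rw [← Module.End.mul_apply, ← pow_succ, ← he, hd0, LinearMap.zero_apply, map_zero, zero_smul]
    have h2 : N (φ ((N ^ 0) u) • (N ^ (e + 1 - 1 - 0)) v) = 0 := by
      rw [map_smul, ← Module.End.mul_apply, ← pow_succ']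
      have : e + 1 - 1 - 0 + 1 = d := by omega
      rw [this, hd0, LinearMap.zero_apply, smul_zero]
    rw [h1, h2, add_zero, add_zero]
    apply Finset.sum_congr rfl
    intro i hi
    rw [Finset.mem_range] at hi
    rw [map_smul, ← Module.End.mul_apply, ← Module.End.mul_apply, ← pow_succ, ← pow_succ']
    congr 3
    omega
  have hTX : T * X = X * T := by
    have h1 : X = N + 1 := by rw [hN, sub_add_cancel]
    rw [h1, mul_add, add_mul, hTN, mul_one, one_mul]
  obtain ⟨c, S, hcS⟩ := hdec T hTX
  have hY : ∀ u, N u = 0 → ∀ i : ℕ, (Y ^ i) u = u := by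
    intro u hu i
    have h1 : X u = u := by
      have h2 : N u = X u - u := by rw [hN]; rfl
      rw [h2] at hu
      exact sub_eq_zero.mp hu
    have h2 : Y u = u := by
      calc Y u = Y (X u) := by rw [h1]
        _ = (Y * X) u := rfl
        _ = u := by rw [hYX]; rfl
    induction i with
    | zero => rfl
    | succ i ih => rw [pow_succ, Module.End.mul_apply, h2, ih]
  have hTker : ∀ u, N u = 0 → T u = c • u := by
    intro u hu
    rw [hcS, LinearMap.add_apply, LinearMap.sum_apply, LinearMap.smul_apply, Module.End.one_apply]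
    have h1 : ∑ i ∈ Finset.range P, (X ^ i * S * Y ^ i) u = 0 := by
      have h2 : ∀ i ∈ Finset.range P, (X ^ i * S * Y ^ i) u = (X ^ i) (S u) := by
        intro i _
        rw [Module.End.mul_apply, Module.End.mul_apply, hY u hu i]
      rw [Finset.sum_congr rfl h2, ← LinearMap.sum_apply, sum_pow_eq (K := K) (p := p) X n, ← hN, ← hP, hnil,
        LinearMap.zero_apply]
    rw [h1, add_zero]
  have hTker2 : ∀ u, N u = 0 → T u = φ u • (N ^ (d - 1)) v := by
    intro u hu
    rw [hTu, Finset.sum_eq_single 0]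
    · simp
    · intro i _ hi
      obtain ⟨j, rfl⟩ := Nat.exists_eq_succ_of_ne_zero hi
      rw [Nat.succ_eq_add_one, pow_succ, Module.End.mul_apply, hu, map_zero, map_zero, zero_smul]
    · intro h
      exact absurd (Finset.mem_range.mpr hdpos) h
  set u₀ := (N ^ (d - 1)) v with hu₀
  have hNu₀ : N u₀ = 0 := by
    rw [hu₀, ← Module.End.mul_apply, ← pow_succ']
    have : d - 1 + 1 = d := by omega
    rw [this, hd0, LinearMap.zero_apply]
  have hc1 : c = 1 := by
    have h1 := hTker u₀ hNu₀
    rw [hTker2 u₀ hNu₀, hφ, one_smul] at h1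
    have h2 : (1 - c) • u₀ = 0 := by rw [sub_smul, one_smul, ← h1, sub_self]
    rcases smul_eq_zero.mp h2 with h3 | h3
    · exact (sub_eq_zero.mp h3).symm
    · exact absurd h3 hv
  have hker1 : finrank K (LinearMap.ker N) ≤ 1 := by
    have h1 : LinearMap.ker N ≤ Submodule.span K {u₀} := by
      intro u hu
      rw [LinearMap.mem_ker] at hu
      have h2 := hTker u hu
      rw [hTker2 u hu, hc1, one_smul] at h2
      rw [← h2]
      exact Submodule.smul_mem _ _ (Submodule.mem_span_singleton_self _)
    exact (Submodule.finrank_mono h1).trans (finrank_span_one_le u₀)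
  have hDd : finrank K V ≤ d := finrank_le_of_ker N hker1 d hd0
  -- the adjoint action
  let ad : End K (End K V) := (LinearMap.mulLeft K X) * (LinearMap.mulRight K Y)
  have had : ∀ i : ℕ, ∀ S, (ad ^ i) S = X ^ i * S * Y ^ i := by
    intro i
    induction i with
    | zero => intro S; simp
    | succ i ih =>
      intro S
      rw [pow_succ', Module.End.mul_apply, ih]
      change X * ((X ^ i * S * Y ^ i) * Y) = _
      rw [pow_succ' X, pow_succ Y]
      simp only [mul_assoc]
  set ψ : End K (End K V) := ad - 1 with hψ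
  have hYP : Y ^ P = 1 := by
    calc Y ^ P = X ^ P * Y ^ P := by rw [hXP, one_mul]
      _ = (X * Y) ^ P := by
        have hc : Commute X Y := by rw [Commute, SemiconjBy, hXY, hYX]
        rw [hc.mul_pow]
      _ = 1 := by rw [hXY, one_pow]
  have hψP : ψ ^ P = 0 := by
    rw [hψ, hP, sub_one_pow (K := K) (p := p)]
    apply LinearMap.ext
    intro S
    rw [LinearMap.sub_apply, had, ← hP, hXP, hYP, one_mul, mul_one, Module.End.one_apply, sub_self]
    rfl
  have hψsum : ∀ S, (ψ ^ (P - 1)) S = ∑ i ∈ Finset.range P, X ^ i * S * Y ^ i := by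
    intro S
    rw [hψ, hP, ← sum_pow_eq (K := K) (p := p), LinearMap.sum_apply]
    exact Finset.sum_congr rfl (fun i _ => had i S)
  have hkerψ : ∀ T, T ∈ LinearMap.ker ψ ↔ T * X = X * T := by
    intro T
    rw [LinearMap.mem_ker, hψ, LinearMap.sub_apply, Module.End.one_apply, sub_eq_zero]
    have h1 : ad T = X * T * Y := by
      have := had 1 T
      simpa using this
    rw [h1]
    constructor
    · intro h
      calc T * X = X * T * Y * X := by rw [h]
        _ = X * T := by rw [mul_assoc, hYX, mul_one]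
    · intro h
      rw [← h, mul_assoc, hXY, mul_one]
  -- ker ψ = K·1 + range
  set f := finrank K (LinearMap.range (ψ ^ (P - 1))) with hf
  have hrange_le : LinearMap.range (ψ ^ (P - 1)) ≤ LinearMap.ker ψ := by
    rintro _ ⟨S, rfl⟩
    rw [LinearMap.mem_ker, ← Module.End.mul_apply, ← pow_succ']
    have : P - 1 + 1 = P := by omega
    rw [this, hψP, LinearMap.zero_apply]
  have hone : (1 : End K V) ∈ LinearMap.ker ψ := by rw [hkerψ, mul_one, one_mul]
  have hone' : (1 : End K V) ∉ LinearMap.range (ψ ^ (P - 1)) := by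
    rintro ⟨S, hS⟩
    rw [hψsum] at hS
    have h1 := congrArg (LinearMap.trace K V) hS
    rw [map_sum, LinearMap.trace_one] at h1
    have h2 : ∀ i ∈ Finset.range P, LinearMap.trace K V (X ^ i * S * Y ^ i) = LinearMap.trace K V S := by
      intro i _
      rw [LinearMap.trace_mul_comm, ← mul_assoc]
      have hc : Commute Y X := by rw [Commute, SemiconjBy, hXY, hYX]
      rw [← hc.mul_pow, hYX, one_pow, one_mul]
    rw [Finset.sum_congr rfl h2, Finset.sum_const, Finset.card_range, nsmul_eq_mul] at h1
    have h3 : ((P : ℕ) : K) = 0 := by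
      rw [hP, Nat.cast_pow, CharP.cast_eq_zero, zero_pow (by omega)]
    rw [h3, zero_mul] at h1
    exact hD h1.symm
  have hk2 : f + 1 ≤ finrank K (LinearMap.ker ψ) := by
    have h1 : LinearMap.range (ψ ^ (P - 1)) < LinearMap.ker ψ :=
      lt_of_le_of_ne hrange_le (fun h => hone' (h ▸ hone))
    exact Submodule.finrank_lt_finrank_of_lt h1
  have hEnd := mul_add_le ψ (P - 1) f (by
    have : P - 1 + 1 = P := by omega
    rw [this]; exact hψP) rfl hk2
  have hPsub : P - 1 + 1 = P := by omega
  rw [hPsub, Module.finrank_linearMap] at hEnd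
  have hkle : finrank K (LinearMap.ker ψ) ≤ f + 1 := by
    have h1 : LinearMap.ker ψ ≤ LinearMap.range (ψ ^ (P - 1)) ⊔ Submodule.span K {1} := by
      intro T hT
      rw [hkerψ] at hT
      obtain ⟨c, S, h⟩ := hdec T hT
      rw [h, add_comm]
      apply Submodule.add_mem_sup
      · exact ⟨S, hψsum S⟩
      · exact Submodule.smul_mem _ _ (Submodule.mem_span_singleton_self _)
    have h2 := Submodule.finrank_mono h1
    have h3 := Submodule.finrank_add_le_finrank_add_finrank (LinearMap.range (ψ ^ (P - 1)))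
      (Submodule.span K {(1 : End K V)})
    have h4 : finrank K (Submodule.span K {(1 : End K V)}) ≤ 1 := finrank_span_one_le _
    omega
  have hdk : d ≤ finrank K (LinearMap.ker ψ) := by
    apply le_finrank_of_pow N d hd0 hdmin
    intro k
    rw [hkerψ]
    have hc : Commute N X := hNX
    exact (hc.pow_left k).eq
  have hDpos : 0 < finrank K V := finrank_pos
  set D := finrank K V with hDdef
  by_cases hD1 : D = 1
  · exact Or.inl hD1
  · right
    have hD2 : 2 ≤ D := by omega
    have hdf : d ≤ f + 1 := hdk.trans hkle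
    have h1 : P * (D - 1) + 1 ≤ D * D := by
      have h2 : P * (D - 1) ≤ P * f := Nat.mul_le_mul_left _ (by omega)
      omega
    have h3 : P ≤ D + 1 := by
      obtain ⟨e, he⟩ : ∃ e, D = e + 1 := ⟨D - 1, by omega⟩
      rw [he] at h1 ⊢
      have h4 : e + 1 - 1 = e := by omega
      rw [h4] at h1
      by_contra hcon
      push Not at hcon
      have h5 : (e + 3) * e ≤ P * e := Nat.mul_le_mul_right _ hcon
      have h6 : (e + 1) * (e + 1) = e * e + 2 * e + 1 := by ring
      have h7 : (e + 3) * e = e * e + 3 * e := by ring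
      omega
    have hDeq : D = P - 1 := by omega
    have hdD : d = D := by omega
    refine ⟨hDeq, ?_⟩
    exact hdmin (D - 1) (by omega)

end Cfsg.Agent.Lib.HHLin
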