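import Cfsg.Agent.Lib.MinAct

/-! Minimal action: `B ⊴ A`, `A`-invariant subgroups of a `q`-group on which `B` acts non-trivially (helper63). -/

set_option autoImplicit false
open scoped commutatorElement

namespace Cfsg.Agent.Lib.HHMin

open Subgroup Cfsg.Agent.Lib.HBBasic Cfsg.Agent.Lib.CoprimeAction2

/-- minimal `A`-invariant subgroup on which the normal subgroup `B` of `A` acts nontrivially. -/
theorem exists_minimal2 {X : Type*} [Group X] [Finite X] {p : ℕ} [Fact p.Prime] (P A B : Subgroup X)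
    (hP : IsPGroup p P) (hB : (Nat.card B).Coprime p) (hBA : B ≤ A) (hBn : A ≤ normalizer (B : Set X))
    (hAP : A ≤ normalizer (P : Set X)) (hcon : ¬ B ≤ centralizer (P : Set X)) :
    ∃ U : Subgroup X, U ≤ P ∧ A ≤ normalizer (U : Set X) ∧ ¬ B ≤ centralizer (U : Set X) ∧ ⁅U, B⁆ = U ∧
      (∀ V : Subgroup X, V ≤ U → V ≠ U → A ≤ normalizer (V : Set X) → B ≤ centralizer (V : Set X)) ∧
      (B ≤ centralizer (((frattini U).map U.subtype : Subgroup X) : Set X)) ∧
      (∀ f ∈ (frattini U).map U.subtype, ∀ u ∈ U, u * f = f * u) ∧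
      (∀ u ∈ U, u ^ p ∈ (frattini U).map U.subtype) ∧
      (∀ u ∈ U, ∀ v ∈ U, u * v * u⁻¹ * v⁻¹ ∈ (frattini U).map U.subtype) := by
  classical
  have hne : ({U : Subgroup X | U ≤ P ∧ A ≤ normalizer (U : Set X) ∧ ¬ B ≤ centralizer (U : Set X)}).Nonempty :=
    ⟨P, le_rfl, hAP, hcon⟩
  obtain ⟨U, hU⟩ := Set.Finite.exists_minimal (Set.toFinite _) hne
  obtain ⟨hUP, hAU, hAUc⟩ := hU.prop
  have hmin : ∀ V : Subgroup X, V ≤ U → V ≠ U → A ≤ normalizer (V : Set X) → B ≤ centralizer (V : Set X) := by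
    intro V hVU hVne hAV
    by_contra h
    exact hVne (le_antisymm hVU (hU.le_of_le ⟨hVU.trans hUP, hAV, h⟩ hVU))
  have hpgrp : ∀ V : Subgroup X, V ≤ P → IsPGroup p V := fun V hV => hP.to_le hV
  have hcop : ∀ V : Subgroup X, V ≤ P → (Nat.card B).Coprime (Nat.card V) := by
    intro V hV
    obtain ⟨n, hn⟩ := IsPGroup.iff_card.mp (hpgrp V hV)
    rw [hn]
    exact Nat.Coprime.pow_right n hB
  have hsolv : ∀ V : Subgroup X, V ≤ P → Group.IsSolvable V := by
    intro V hV
    haveI := (hpgrp V hV).isNilpotent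
    infer_instance
  have hcomm_bot : ∀ V : Subgroup X, ⁅V, B⁆ = ⊥ ↔ B ≤ centralizer (V : Set X) := by
    intro V
    rw [commutator_comm, commutator_eq_bot_iff_le_centralizer]
  have hBU : B ≤ normalizer (U : Set X) := hBA.trans hAU
  have hUA : ⁅U, B⁆ = U := by
    have hle : ⁅U, B⁆ ≤ U := le_normalizer_iff_commutator_le_left.mp hBU
    by_contra hne'
    have hAn : A ≤ normalizer ((⁅U, B⁆ : Subgroup X) : Set X) := by
      intro a ha
      have h1 : (⁅U, B⁆ : Subgroup X).map (MulAut.conj a).toMonoidHom = ⁅U, B⁆ := by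
        rw [map_commutator]
        have e1 : U.map (MulAut.conj a).toMonoidHom = U := by
          ext u
          constructor
          · rintro ⟨w, hw, rfl⟩
            exact (mem_normalizer_iff.mp (hAU ha) w).mp hw
          · intro hu
            refine ⟨a⁻¹ * u * a, ?_, by simp [MulAut.conj_apply]; group⟩
            have := (mem_normalizer_iff.mp (hAU (inv_mem ha)) u).mp hu
            rwa [inv_inv] at this
        have e2 : B.map (MulAut.conj a).toMonoidHom = B := by
          ext u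
          constructor
          · rintro ⟨w, hw, rfl⟩
            exact (mem_normalizer_iff.mp (hBn ha) w).mp hw
          · intro hu
            refine ⟨a⁻¹ * u * a, ?_, by simp [MulAut.conj_apply]; group⟩
            have := (mem_normalizer_iff.mp (hBn (inv_mem ha)) u).mp hu
            rwa [inv_inv] at this
        rw [e1, e2]
      rw [mem_normalizer_iff]
      intro h
      constructor
      · intro hh
        rw [← h1]
        exact ⟨h, hh, rfl⟩
      · intro hh
        rw [← h1] at hh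
        obtain ⟨w, hw, hw'⟩ := hh
        have : w = h := by
          have h2 : a * w * a⁻¹ = a * h * a⁻¹ := hw'
          exact mul_left_cancel (mul_right_cancel h2)
        rwa [← this]
    have h1 := hmin _ hle hne' hAn
    rw [← hcomm_bot] at h1
    have h2 := commutator_eq_bot_of_commutator_commutator hBU (hcop U hUP) (Or.inr (hsolv U hUP)) h1
    exact hAUc ((hcomm_bot U).mp h2)
  have hUbot : U ≠ ⊥ := by
    intro h
    apply hAUc
    rw [← hcomm_bot, h, commutator_bot_left]
  haveI hUnt : Nontrivial U := (Subgroup.nontrivial_iff_ne_bot U).mpr hUbot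
  set F : Subgroup X := (frattini U).map U.subtype with hF
  have hFU : F ≤ U := map_subtype_le _
  have hFne : F ≠ U := by
    intro h
    have h1 : frattini U = ⊤ := by
      apply Subgroup.map_injective U.subtype_injective
      rw [← hF, h, ← MonoidHom.range_eq_map, Subgroup.range_subtype]
    have h2 : (⊥ : Subgroup U) = ⊤ := frattini_nongenerating (by rw [h1, sup_top_eq])
    exact bot_ne_top h2
  have hAF : A ≤ normalizer (F : Set X) :=
    hAU.trans (Cfsg.Agent.Lib.PCoreTools.normalizer_le_of_characteristic frattini_characteristic)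
  have hFc : B ≤ centralizer (F : Set X) := hmin F hFU hFne hAF
  have hUF : U ≤ normalizer (F : Set X) :=
    (le_normalizer (H := U)).trans (Cfsg.Agent.Lib.PCoreTools.normalizer_le_of_characteristic frattini_characteristic)
  have hUcF : ⁅U, F⁆ = ⊥ := by
    have h1 : ⁅⁅F, B⁆, U⁆ = ⊥ := by
      rw [(hcomm_bot F).mpr hFc, commutator_bot_left]
    have h2 : ⁅⁅U, F⁆, B⁆ = ⊥ := by
      have h3 : ⁅U, F⁆ ≤ F := le_normalizer_iff_commutator_le_right.mp hUF
      rw [eq_bot_iff]
      calc ⁅⁅U, F⁆, B⁆ ≤ ⁅F, B⁆ := commutator_mono h3 le_rfl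
        _ = ⊥ := (hcomm_bot F).mpr hFc
    have h3 : ⁅⁅B, U⁆, F⁆ = ⊥ := commutator_commutator_eq_bot_of_rotate h2 h1
    rw [commutator_comm B U, hUA] at h3
    exact h3
  refine ⟨U, hUP, hAU, hAUc, hUA, hmin, hFc, ?_, ?_, ?_⟩
  · intro f hf u hu
    rw [commutator_eq_bot_iff_le_centralizer] at hUcF
    exact (mem_centralizer_iff.mp (hUcF hu) f hf).symm
  · intro u hu
    exact ⟨_, pow_mem_frattini (hpgrp U hUP) (⟨u, hu⟩ : U), rfl⟩
  · intro u hu v hv
    refine ⟨⁅(⟨u, hu⟩ : U), (⟨v, hv⟩ : U)⁆, ?_, rfl⟩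
    exact commutator_le_frattini (hpgrp U hUP) (commutator_mem_commutator (mem_top _) (mem_top _))

/-- If `[U,B] = U` and `v ∈ U` is centralised by `B` (coprime), then `v ∈ U'`. -/
theorem mem_commutator_of_centralized {X : Type*} [Group X] {p : ℕ} (U B : Subgroup X) [Finite B]
    (hU : IsPGroup p U) (hB : (Nat.card B).Coprime p) (hBU : B ≤ normalizer (U : Set X)) (hUB : ⁅U, B⁆ = U)
    {v : X} (hv : v ∈ U) (hvB : ∀ b ∈ B, b * v = v * b) : v ∈ ⁅U, U⁆ := by
  classical
  have : Fintype B := Fintype.ofFinite B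
  -- the norm map into `U/U'`
  let Q := U ⧸ commutator U
  letI : CommGroup Q := (inferInstance : CommGroup (Abelianization U))
  let mk : U →* Q := QuotientGroup.mk' (commutator U)
  have hconj : ∀ (b : B) (u : U), (b : X) * u * (b : X)⁻¹ ∈ U :=
    fun b u => (mem_normalizer_iff.mp (hBU b.2) u).mp u.2
  let cj : B → U →* U := fun b =>
    { toFun := fun u => ⟨b * u * (b : X)⁻¹, hconj b u⟩
      map_one' := by apply Subtype.ext; simp
      map_mul' := by intro x y; apply Subtype.ext; simp only [Subgroup.coe_mul]; group }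
  let τ : U →* Q :=
    { toFun := fun u => ∏ b : B, mk (cj b u)
      map_one' := by simp
      map_mul' := by
        intro x y
        rw [← Finset.prod_mul_distrib]
        apply Finset.prod_congr rfl
        intro b _
        rw [map_mul, map_mul] }
  have hτ : ∀ (b : B) (u : U), τ (cj b u) = τ u := by
    intro b u
    change ∏ c : B, mk (cj c (cj b u)) = ∏ c : B, mk (cj c u)
    refine Fintype.prod_equiv (Equiv.mulRight b) _ _ (fun c => ?_)
    congr 1
    apply Subtype.ext
    change (c : X) * ((b : X) * u * (b : X)⁻¹) * (c : X)⁻¹ = ((c : X) * b) * u * ((c : X) * b)⁻¹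
    group
  have hle : U ≤ τ.ker.map U.subtype := by
    conv_lhs => rw [← hUB]
    rw [commutator_le]
    intro u hu b hb
    have h1 : b * u⁻¹ * b⁻¹ ∈ U := (mem_normalizer_iff.mp (hBU hb) _).mp (inv_mem hu)
    have h2 : ⁅u, b⁆ = u * (b * u⁻¹ * b⁻¹) := by rw [commutatorElement_def]; group
    rw [h2]
    refine ⟨⟨u, hu⟩ * cj ⟨b, hb⟩ ⟨u⁻¹, inv_mem hu⟩, ?_, rfl⟩
    change τ _ = 1
    rw [map_mul, hτ, ← map_mul]
    have h3 : (⟨u, hu⟩ : U) * ⟨u⁻¹, inv_mem hu⟩ = 1 := Subtype.ext (mul_inv_cancel u)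
    rw [h3, map_one]
  obtain ⟨v', hv', hvv⟩ := hle hv
  have hv'' : v' = ⟨v, hv⟩ := Subtype.ext hvv
  rw [hv''] at hv'
  have h1 : τ ⟨v, hv⟩ = mk ⟨v, hv⟩ ^ (Nat.card B) := by
    change ∏ b : B, mk (cj b ⟨v, hv⟩) = _
    have h2 : ∀ b : B, mk (cj b ⟨v, hv⟩) = mk ⟨v, hv⟩ := by
      intro b
      congr 1
      apply Subtype.ext
      change (b : X) * v * (b : X)⁻¹ = v
      rw [hvB b b.2]; group
    rw [Finset.prod_congr rfl (fun b _ => h2 b), Finset.prod_const, Finset.card_univ,
      Nat.card_eq_fintype_card]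
  have h2 : mk ⟨v, hv⟩ ^ (Nat.card B) = 1 := by rw [← h1]; exact hv'
  have h3 : mk ⟨v, hv⟩ = 1 := by
    obtain ⟨k, hk⟩ := hU ⟨v, hv⟩
    have h4 : mk ⟨v, hv⟩ ^ (p ^ k) = 1 := by rw [← map_pow, hk, map_one]
    have h5 : orderOf (mk ⟨v, hv⟩) ∣ Nat.gcd (Nat.card B) (p ^ k) :=
      Nat.dvd_gcd (orderOf_dvd_of_pow_eq_one h2) (orderOf_dvd_of_pow_eq_one h4)
    rw [(Nat.Coprime.pow_right k hB).gcd_eq_one, Nat.dvd_one, orderOf_eq_one_iff] at h5
    exact h5
  have h4 : (⟨v, hv⟩ : U) ∈ commutator U := (QuotientGroup.eq_one_iff _).mp h3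
  have h5 : (commutator U).map U.subtype = ⁅U, U⁆ := by
    rw [commutator_def, map_commutator, ← MonoidHom.range_eq_map, Subgroup.range_subtype]
  rw [← h5]
  exact ⟨_, h4, rfl⟩

end Cfsg.Agent.Lib.HHMin
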