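import Mathlib
import Cfsg.Agent.Lib.HHLin
import Cfsg.Agent.Lib.ModRep

/-! Weights of abelian subgroups in representations, for the Hall-Higman theorem (helper63). -/

set_option autoImplicit false

namespace Cfsg.Agent.Lib.HHWt

open Module Cfsg.Agent.Lib.ModRep Cfsg.Agent.Lib.HHLin

variable {K : Type*} [Field K] {V : Type*} [AddCommGroup V] [Module K V] {G : Type*} [Group G]

/-- weight space of the subgroup `A` for the function `l`. -/
def wt (ρ : G →* Module.End K V) (A : Subgroup G) (l : G → K) : Submodule K V where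
  carrier := {v | ∀ a ∈ A, ρ a v = l a • v}
  add_mem' := by
    intro v w hv hw a ha
    rw [map_add, hv a ha, hw a ha, smul_add]
  zero_mem' := by
    intro a _
    rw [map_zero, smul_zero]
  smul_mem' := by
    intro c v hv a ha
    rw [map_smul, hv a ha, smul_comm]

theorem mem_wt {ρ : G →* Module.End K V} {A : Subgroup G} {l : G → K} {v : V} :
    v ∈ wt ρ A l ↔ ∀ a ∈ A, ρ a v = l a • v := Iff.rfl

/-- vectors in different weight spaces are independent (form used here). -/
theorem sum_ne_zero (ρ : G →* Module.End K V) (A : Subgroup G) (T : ℕ) (hT : 0 < T) (v : ℕ → V) (l : ℕ → G → K)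
    (hv : ∀ i < T, v i ∈ wt ρ A (l i)) (h : ∀ i, 0 < i → i < T → ∃ a ∈ A, l 0 a ≠ l i a) (h0 : v 0 ≠ 0) :
    ∑ i ∈ Finset.range T, v i ≠ 0 := by
  have key : ∀ m : ℕ, m < T → ∃ (R : Module.End K V) (c : ℕ → K), (∀ i < T, R (v i) = c i • v i) ∧ c 0 ≠ 0 ∧
      ∀ i, 0 < i → i ≤ m → c i = 0 := by
    intro m
    induction m with
    | zero =>
      intro _
      refine ⟨1, fun _ => 1, fun i _ => by rw [one_smul]; rfl, one_ne_zero, ?_⟩
      intro i h1 h2
      omega
    | succ m ih =>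
      intro hm
      obtain ⟨R, c, hR, hc0, hc⟩ := ih (by omega)
      obtain ⟨a, ha, hne⟩ := h (m + 1) (by omega) hm
      refine ⟨(ρ a - l (m + 1) a • 1) * R, fun i => (l i a - l (m + 1) a) * c i, ?_, ?_, ?_⟩
      · intro i hi
        rw [Module.End.mul_apply, hR i hi, map_smul, LinearMap.sub_apply, LinearMap.smul_apply,
          Module.End.one_apply, hv i hi a ha, ← sub_smul, smul_smul, mul_comm]
      · exact mul_ne_zero (sub_ne_zero.mpr hne) hc0
      · intro i hi him
        by_cases h1 : i ≤ m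
        · change (l i a - l (m + 1) a) * c i = 0
          rw [hc i hi h1, mul_zero]
        · have h2 : i = m + 1 := by omega
          change (l i a - l (m + 1) a) * c i = 0
          rw [h2, sub_self, zero_mul]
  obtain ⟨R, c, hR, hc0, hc⟩ := key (T - 1) (by omega)
  intro hsum
  have h1 := congrArg R hsum
  rw [map_sum, map_zero, Finset.sum_eq_single 0, hR 0 hT] at h1
  · rcases smul_eq_zero.mp h1 with h2 | h2
    · exact hc0 h2
    · exact h0 h2
  · intro i hi hi0
    rw [Finset.mem_range] at hi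
    rw [hR i hi, hc i (Nat.pos_of_ne_zero hi0) (by omega), zero_smul]
  · intro h
    exact absurd (Finset.mem_range.mpr hT) h

/-- maximal generalised eigenspaces are eigenspaces for elements of finite order prime to the characteristic. -/
theorem maxGen_eq [FiniteDimensional K V] (T : Module.End K V) (m : ℕ) (hm : (m : K) ≠ 0) (hT : T ^ m = 1) (c : K) :
    T.maxGenEigenspace c = T.eigenspace c := by
  have h1 : (Polynomial.X ^ m - 1 : Polynomial K).Separable := Polynomial.X_pow_sub_one_separable_iff.mpr hm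
  have h2 : T.IsSemisimple := by
    apply Module.End.isSemisimple_of_squarefree_aeval_eq_zero h1.squarefree
    simp [hT]
  have h3 := Module.End.isFinitelySemisimple_iff_isSemisimple.mpr h2
  exact h3.maxGenEigenspace_eq_eigenspace c

/-- The weight spaces of a finite abelian subgroup of order prime to the characteristic span. -/
theorem iSup_wt [IsAlgClosed K] [FiniteDimensional K V] (ρ : G →* Module.End K V) (A : Subgroup G)
    (hA : (Nat.card A : K) ≠ 0) (hcomm : ∀ a ∈ A, ∀ b ∈ A, ρ a * ρ b = ρ b * ρ a) :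
    ⨆ l : G → K, wt ρ A l = ⊤ := by
  classical
  have h1 := Module.End.iSup_iInf_maxGenEigenspace_eq_top_of_iSup_maxGenEigenspace_eq_top_of_commute
    (fun a : A => ρ (a : G)) (fun a b _ => hcomm a a.2 b b.2)
    (fun a => Module.End.iSup_maxGenEigenspace_eq_top _)
  rw [eq_top_iff, ← h1, iSup_le_iff]
  intro χ
  refine le_trans ?_ (le_iSup _ (fun g => if h : g ∈ A then χ ⟨g, h⟩ else 0))
  intro v hv a ha
  rw [Submodule.mem_iInf] at hv
  have h2 := hv ⟨a, ha⟩
  have h3 : (ρ a) ^ (Nat.card A) = 1 := by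
    rw [← map_pow]
    have : a ^ Nat.card A = 1 := by
      have := pow_card_eq_one' (x := (⟨a, ha⟩ : A))
      exact congrArg Subtype.val this
    rw [this, map_one]
  rw [maxGen_eq (ρ a) (Nat.card A) hA h3, Module.End.mem_eigenspace_iff] at h2
  rw [h2]
  change _ = (if h : a ∈ A then χ ⟨a, h⟩ else 0) • v
  rw [dif_pos ha]

theorem ext_wt [IsAlgClosed K] [FiniteDimensional K V] (ρ : G →* Module.End K V) (A : Subgroup G)
    (hA : (Nat.card A : K) ≠ 0) (hcomm : ∀ a ∈ A, ∀ b ∈ A, ρ a * ρ b = ρ b * ρ a) (S T : Module.End K V)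
    (h : ∀ l, ∀ v ∈ wt ρ A l, v ≠ 0 → S v = T v) : S = T := by
  apply LinearMap.ext
  intro v
  have hv : v ∈ ⨆ l : G → K, wt ρ A l := by rw [iSup_wt ρ A hA hcomm]; trivial
  refine Submodule.iSup_induction (wt ρ A) (motive := fun v => S v = T v) hv ?_ ?_ ?_
  · intro l w hw
    by_cases hw0 : w = 0
    · rw [hw0, map_zero, map_zero]
    · exact h l w hw hw0
  · rw [map_zero, map_zero]
  · intro a b ha hb
    rw [map_add, map_add, ha, hb]

/-- conjugation of weights. -/
theorem apply_mem_wt (ρ : G →* Module.End K V) {A : Subgroup G} {l : G → K} {g : G}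
    (hg : g ∈ Subgroup.normalizer (A : Set G)) {v : V} (hv : v ∈ wt ρ A l) :
    ρ g v ∈ wt ρ A (fun a => l (g⁻¹ * a * g)) := by
  intro a ha
  have h1 : g⁻¹ * a * g ∈ A := by
    have := (Subgroup.mem_normalizer_iff.mp (Subgroup.inv_mem _ hg) a).mp ha
    rwa [inv_inv] at this
  have h2 : a * g = g * (g⁻¹ * a * g) := by group
  rw [← Module.End.mul_apply, ← map_mul, h2, map_mul, Module.End.mul_apply, hv _ h1, map_smul]

/-- The stabiliser of a weight. -/
def stab (A : Subgroup G) (l : G → K) : Subgroup G where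
  carrier := {g | g ∈ Subgroup.normalizer (A : Set G) ∧ ∀ a ∈ A, l (g⁻¹ * a * g) = l a}
  one_mem' := ⟨one_mem _, by intro a _; simp⟩
  mul_mem' := by
    rintro g h ⟨hg, hg'⟩ ⟨hh, hh'⟩
    refine ⟨mul_mem hg hh, ?_⟩
    intro a ha
    have h1 : g⁻¹ * a * g ∈ A := by
      have := (Subgroup.mem_normalizer_iff.mp (Subgroup.inv_mem _ hg) a).mp ha
      rwa [inv_inv] at this
    have h2 : (g * h)⁻¹ * a * (g * h) = h⁻¹ * (g⁻¹ * a * g) * h := by group
    rw [h2, hh' _ h1, hg' a ha]
  inv_mem' := by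
    rintro g ⟨hg, hg'⟩
    refine ⟨inv_mem hg, ?_⟩
    intro a ha
    have h1 : g * a * g⁻¹ ∈ A := (Subgroup.mem_normalizer_iff.mp hg a).mp ha
    have h2 := hg' _ h1
    have h3 : g⁻¹ * (g * a * g⁻¹) * g = a := by group
    rw [h3] at h2
    rw [inv_inv, h2]

theorem mem_stab {A : Subgroup G} {l : G → K} {g : G} :
    g ∈ stab A l ↔ g ∈ Subgroup.normalizer (A : Set G) ∧ ∀ a ∈ A, l (g⁻¹ * a * g) = l a := Iff.rfl

theorem apply_mem_wt_of_stab (ρ : G →* Module.End K V) {A : Subgroup G} {l : G → K} {g : G}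
    (hg : g ∈ stab A l) {v : V} (hv : v ∈ wt ρ A l) : ρ g v ∈ wt ρ A l := by
  intro a ha
  have h1 := apply_mem_wt ρ hg.1 hv a ha
  rw [h1]
  congr 1
  exact hg.2 a ha

/-- powers with coprime-like exponents. -/
theorem pow_gcd_mem {x : G} {H : Subgroup G} {i j : ℕ} (hi : x ^ i ∈ H) (hj : x ^ j ∈ H) : x ^ (Nat.gcd i j) ∈ H := by
  have h1 := Nat.gcd_eq_gcd_ab i j
  have h2 : x ^ (Nat.gcd i j) = (x ^ i) ^ (Nat.gcdA i j) * (x ^ j) ^ (Nat.gcdB i j) := by
    rw [← zpow_natCast x (Nat.gcd i j), h1, zpow_add, zpow_mul, zpow_mul, zpow_natCast, zpow_natCast]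
  rw [h2]
  exact mul_mem (zpow_mem hi _) (zpow_mem hj _)

/-- The least `p`-power of `x` in the subgroup `H`. -/
theorem exists_least {p : ℕ} (hp : p.Prime) {x : G} {H : Subgroup G} {n : ℕ} (hn : x ^ (p ^ n) ∈ H) :
    ∃ t, t ≤ n ∧ x ^ (p ^ t) ∈ H ∧ ∀ i, 0 < i → i < p ^ t → x ^ i ∉ H := by
  classical
  have hex : ∃ t, x ^ (p ^ t) ∈ H := ⟨n, hn⟩
  refine ⟨Nat.find hex, Nat.find_min' hex hn, Nat.find_spec hex, ?_⟩
  intro i hi0 hi hmem
  have h1 := pow_gcd_mem hmem (Nat.find_spec hex)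
  obtain ⟨s, hs, hgs⟩ := (Nat.dvd_prime_pow hp).mp (Nat.gcd_dvd_right i (p ^ Nat.find hex))
  rw [hgs] at h1
  have h2 : Nat.find hex ≤ s := Nat.find_min' hex h1
  have h3 : p ^ Nat.find hex ∣ i := by
    have : s = Nat.find hex := le_antisymm hs h2
    rw [← this, ← hgs]
    exact Nat.gcd_dvd_left _ _
  exact absurd (Nat.le_of_dvd hi0 h3) (by omega)

/-- The combinatorial core: if `w' ∈ V_l` is non-zero and `x^i` moves the weight `l` for `0 < i < p^t`, then
`(x-1)^(p^t-1) w' ≠ 0`. -/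
theorem sub_one_pow_ne_zero {p : ℕ} [hp : Fact p.Prime] [CharP K p] (ρ : G →* Module.End K V) {A : Subgroup G}
    {l : G → K} {x : G} (hx : x ∈ Subgroup.normalizer (A : Set G)) (t : ℕ)
    (h : ∀ i, 0 < i → i < p ^ t → x ^ i ∉ stab A l) {w : V} (hw : w ∈ wt ρ A l) (hw0 : w ≠ 0) :
    ((ρ x - 1) ^ (p ^ t - 1)) w ≠ 0 := by
  rw [← sum_pow_eq (K := K) (p := p) (ρ x) t, LinearMap.sum_apply]
  apply sum_ne_zero ρ A (p ^ t) (pow_pos hp.out.pos t) (fun i => (ρ x ^ i) w)
    (fun i a => l ((x ^ i)⁻¹ * a * x ^ i))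
  · intro i _
    rw [← map_pow]
    exact apply_mem_wt ρ (pow_mem hx i) hw
  · intro i h1 h2
    by_contra hcon
    push Not at hcon
    apply h i h1 h2
    refine ⟨pow_mem hx i, ?_⟩
    intro a ha
    have := hcon a ha
    simpa using this.symm
  · simpa using hw0

end Cfsg.Agent.Lib.HHWt
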