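import Cfsg.Agent.Lib.HNMD
import Cfsg.Agent.Lib.DceFix

set_option autoImplicit false
set_option linter.all false
set_option maxRecDepth 100000

namespace Cfsg.Agent.Lib.HNA12D
open Cfsg.Agent.Lib.Dce Cfsg.Agent.Lib.HNT Cfsg.Agent.Lib.HNU

/-- word -/
def ra : List Tok := rep [.t, .h [2, 0, 2, 1, 2, 2, 2, 4, 2, 2, 2, 0, 3, 0, 3, 4, 0], .T, .h [2, 0, 2, 1, 2, 2, 2, 4, 2, 2, 2, 0, 3, 0, 3, 4, 0]] 2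
theorem c_ra_0 : fixP tab 83 base ph phI HNM.st 9 ra 0 []
  [⟨0, [], []⟩, ⟨20, [6, 3, 6, 3, 7, 7, 3, 6, 2], [2, 6, 6, 3, 3, 7, 2, 2, 6, 6, 2, 2, 7, 2]⟩, ⟨20, [9, 17], [2, 2, 6, 3, 3, 6, 3, 3, 7, 2, 7, 3]⟩, ⟨0, [], [3, 7, 7, 2, 2, 2, 7]⟩] [0, 3, 4, 0, 2, 2, 2, 0, 3, 3, 0, 2, 4, 0] = true := by decide +kernel
theorem c_ra_1 : fixP tab 83 base ph phI HNM.st 9 ra 1 []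
  [⟨1, [], []⟩, ⟨34, [3, 7, 7, 7, 2, 7, 7, 3, 6, 2, 7, 3], [7, 3, 6, 3, 7, 2, 6, 3, 3, 7, 7, 2, 7, 2]⟩, ⟨33, [20, 20], [3, 7, 7, 2, 2, 7, 7, 2, 2, 6, 2, 7, 7, 2]⟩, ⟨9, [5], [6, 6, 3, 7, 2, 2, 2, 6, 2, 2, 7, 7, 7]⟩] [7, 2, 2, 7, 7, 3, 6, 6, 3, 7, 2, 2, 2] = true := by decide +kernel
theorem c_ra_2 : fixP tab 83 base ph phI HNM.st 9 ra 1 [4, 3, 4, 3, 4]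
  [⟨11, [], []⟩, ⟨88, [27, 31, 31], [6, 6, 3, 6, 2, 7, 7, 2, 7, 7, 7, 2, 7]⟩, ⟨88, [38, 40, 38, 35], [6, 6, 3, 3, 7, 2, 2, 7, 7, 3]⟩, ⟨11, [], [3, 7, 3, 3, 7, 2, 2, 6, 3, 7, 2, 7, 2]⟩] [2, 2, 6, 6, 3, 7, 7, 2, 7, 3, 6, 3, 3] = true := by decide +kernel
theorem c_ra_3 : fixP tab 83 base ph phI HNM.st 9 ra 1 [4, 2, 4]
  [⟨9, [6], [7]⟩, ⟨65, [8, 5, 8], [6, 3, 7, 3, 3, 7, 2, 2, 6, 3, 3, 7, 7]⟩, ⟨78, [38, 38], [2, 2, 2, 6, 3, 7, 2, 2, 7, 3, 3, 7, 2]⟩, ⟨10, [23, 21], [2, 6, 2, 7, 2, 6, 2, 2, 6, 2, 2, 2]⟩] [3, 6, 6, 2, 7, 3, 6, 3, 3, 7, 3] = true := by decide +kernel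
theorem c_ra_4 : fixP tab 83 base ph phI HNM.st 9 ra 1 [4]
  [⟨4, [], []⟩, ⟨15, [3, 6, 2, 2, 2], [6, 3, 7, 7, 7]⟩, ⟨17, [5, 9, 9], [7, 2, 2, 6, 6, 3, 7, 3, 3, 7, 7, 2]⟩, ⟨6, [], [2, 6, 3, 7, 2, 7, 2, 6, 2, 2, 6, 2, 7]⟩] [7, 7, 2, 6, 3, 3, 6, 2, 2, 6, 2, 2, 6] = true := by decide +kernel
/-- word -/
def rb : List Tok := rep [.t, .t, .h [2, 0, 2, 1, 2, 2, 2, 4, 2, 2, 2, 0, 3, 0, 3, 4, 0], .T, .T, .h [2, 0, 2, 1, 2, 2, 2, 4, 2, 2, 2, 0, 3, 0, 3, 4, 0]] 2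
theorem c_rb_0 : fixP tab 83 base ph phI HNM.st 9 rb 0 []
  [⟨0, [], []⟩, ⟨1, [], []⟩, ⟨34, [3, 7, 7, 7, 2, 7, 7, 3, 6, 2, 7, 3], [7, 3, 6, 3, 7, 2, 6, 3, 3, 7, 7, 2, 7, 2]⟩, ⟨23, [], [3, 7, 7, 3, 3, 7, 3, 6, 2, 7, 7, 2, 7, 7]⟩, ⟨23, [13], [2, 6, 2, 7, 2, 7, 7, 3, 3, 7]⟩, ⟨34, [], [2, 6, 3, 7, 2, 7, 2, 6, 2, 2, 6, 6, 3]⟩, ⟨1, [], [6, 2, 7, 2, 2, 6, 2, 2, 2, 7, 3, 3]⟩, ⟨0, [], [6, 2, 7, 2, 2, 6, 2, 2, 2, 7, 3, 3]⟩] [0, 2, 4, 2, 2, 2, 1, 3, 3, 4, 0, 3, 4, 3, 0, 3, 3, 4, 3, 0] = true := by decide +kernel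
theorem c_rb_1 : fixP tab 83 base ph phI HNM.st 9 rb 1 []
  [⟨1, [], []⟩, ⟨3, [], []⟩, ⟨34, [2, 2, 7, 2, 6, 2, 7, 2, 2, 6, 3], [6, 6, 2, 2, 6, 2, 7, 7, 3]⟩, ⟨23, [], [6, 6, 3, 7, 7, 3, 6, 6, 2, 7, 7]⟩, ⟨18, [17, 5, 9], [7, 7, 7, 3, 3, 6, 3, 7, 2, 2, 6, 6]⟩, ⟨71, [], [3, 3, 7, 2, 2, 6, 3, 6, 6, 2, 7, 7]⟩, ⟨21, [26], [7, 7, 2, 7, 7, 7, 2, 2, 7, 3, 6, 2]⟩, ⟨9, [13, 5], [2, 6, 3, 3, 6, 3, 7, 2, 2, 7]⟩] [6, 3, 7, 2, 2, 7, 2, 2, 6, 3, 3, 7] = true := by decide +kernel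
theorem c_rb_2 : fixP tab 83 base ph phI HNM.st 9 rb 1 [4, 3, 4, 3, 4]
  [⟨11, [], []⟩, ⟨46, [], []⟩, ⟨99, [34, 30, 33], [2, 7, 7, 2, 6, 3, 6, 6, 2, 2]⟩, ⟨59, [54, 56, 54, 53, 55], [6, 2, 7, 7, 2, 7, 2, 6, 2, 2, 7, 7, 7]⟩, ⟨59, [29, 32, 32, 27], [2, 2, 2, 7, 7, 3, 3, 6, 3, 7, 2, 6, 2, 2]⟩, ⟨99, [54, 53, 55, 56, 55], [3, 3, 7, 7, 2, 2, 7, 2, 6, 3, 7, 2]⟩, ⟨46, [], [6, 3, 3, 6, 2, 2, 2, 6, 2, 7, 2, 2]⟩, ⟨11, [], [6, 3, 3, 6, 2, 2, 2, 6, 2, 7, 2, 2]⟩] [6, 2, 2, 7, 3, 6, 3, 3, 7, 3, 6, 2] = true := by decide +kernel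
theorem c_rb_3 : fixP tab 83 base ph phI HNM.st 9 rb 1 [4, 2, 4]
  [⟨9, [6], [7]⟩, ⟨21, [5, 18], [6, 2, 2, 7, 3, 6, 2, 7, 2, 6, 3, 7, 7, 7, 2]⟩, ⟨53, [16, 22, 20, 21], [6, 3, 6, 6, 3, 3, 7, 2, 2, 6, 2, 7, 2, 2]⟩, ⟨58, [33, 28], [2, 6, 6, 3, 6, 6, 2, 2, 6, 6, 2]⟩, ⟨52, [28, 29], [3, 3, 6, 3, 7, 2, 2, 7, 7, 7, 2, 7, 2]⟩, ⟨74, [36, 35], [2, 6, 3, 6, 6, 3, 3, 7, 7, 7, 2, 7]⟩, ⟨30, [5, 9], [3, 3, 6, 6, 3, 3, 6, 2, 7, 3]⟩, ⟨10, [], [3, 3, 6, 6, 3, 3, 6, 2, 7, 3]⟩] [3, 7, 2, 7, 7, 2, 2, 7, 3, 3, 7, 2] = true := by decide +kernel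
theorem c_rb_4 : fixP tab 83 base ph phI HNM.st 9 rb 1 [4]
  [⟨4, [], []⟩, ⟨8, [], []⟩, ⟨31, [13, 5, 18, 9], [3, 7, 3, 3, 6, 2, 7, 7, 7, 3, 6, 2, 2, 2]⟩, ⟨32, [], [7, 7, 7, 2, 2, 6, 2, 7, 7, 2]⟩, ⟨35, [22, 20], [6, 6, 3, 7, 2, 6, 2, 2, 2, 7, 7, 7, 3, 6]⟩, ⟨65, [36], [6, 2, 2, 6, 2, 2, 6, 3, 3, 6, 2, 7, 2]⟩, ⟨12, [], [3, 3, 6, 3, 7, 7, 2, 2, 7, 7, 2, 7, 7]⟩, ⟨6, [], [3, 3, 6, 3, 7, 7, 2, 2, 7, 7, 2, 7, 7]⟩] [2, 7, 3, 3, 6, 2, 7, 3, 6, 3, 3, 6, 3] = true := by decide +kernel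

end Cfsg.Agent.Lib.HNA12D
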