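import Mathlib
import Cfsg.Agent.Lib.PresAlt

/-!
# Subgroups isomorphic to alternating groups, and coset representations of simple groups
-/

set_option autoImplicit false
set_option linter.all false

namespace Cfsg.Agent.Lib.HNAlt

open Cfsg.Agent.Lib.PresAlt Equiv Equiv.Perm Nat

/-- elements satisfying Carmichael's relations generate an alternating group -/
theorem alt_iso {G : Type*} [Group G] (m : ℕ) (hm : 3 ≤ m) (x : ℕ → G) (h3 : ∀ i < m, x i ^ 3 = 1)
    (h2 : ∀ i < m, ∀ j < m, i ≠ j → (x i * x j) ^ 2 = 1) (h0 : x 0 ≠ 1) :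
    Nonempty (gen x m ≃* alternatingGroup (Fin (m + 2))) := by
  classical
  let a : Fin (m + 2) := ⟨m, by omega⟩
  let b : Fin (m + 2) := ⟨m + 1, by omega⟩
  have hab : a ≠ b := by
    intro h
    have := congrArg Fin.val h
    simp [a, b] at this
  let p : ℕ → Fin (m + 2) := fun i => if h : i < m then ⟨i, by omega⟩ else a
  have hpa : ∀ i < m, p i ≠ a := by
    intro i hi h
    have := congrArg Fin.val h
    simp [p, hi, a] at this
    omega
  have hpb : ∀ i < m, p i ≠ b := by
    intro i hi h
    have := congrArg Fin.val h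
    simp [p, hi, b] at this
    omega
  have hpp : ∀ i < m, ∀ j < m, i ≠ j → p i ≠ p j := by
    intro i hi j hj hij h
    have := congrArg Fin.val h
    simp [p, hi, hj] at this
    exact hij this
  have hmem : ∀ i, swap a b * swap b (p i) ∈ alternatingGroup (Fin (m + 2)) ∨ ¬ i < m := by
    intro i
    by_cases hi : i < m
    · left
      rw [mem_alternatingGroup, Equiv.Perm.sign_mul, sign_swap hab, sign_swap (Ne.symm (hpb i hi))]
      rfl
    · right; exact hi
  let c : ℕ → alternatingGroup (Fin (m + 2)) := fun i =>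
    if h : swap a b * swap b (p i) ∈ alternatingGroup (Fin (m + 2)) then ⟨_, h⟩ else 1
  have hc : ∀ i < m, ((c i : alternatingGroup (Fin (m + 2))) : Perm (Fin (m + 2))) = swap a b * swap b (p i) := by
    intro i hi
    have h := (hmem i).resolve_right (not_not.mpr hi)
    simp only [c]
    rw [dif_pos h]
  let d : ℕ → G × alternatingGroup (Fin (m + 2)) := fun i => (x i, c i)
  have hd3 : ∀ i < m, d i ^ 3 = 1 := by
    intro i hi
    apply Prod.ext
    · exact h3 i hi
    · apply Subtype.ext
      show ((c i : alternatingGroup (Fin (m + 2))) : Perm (Fin (m + 2))) ^ 3 = 1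
      rw [hc i hi]
      exact cy_cube hab (hpa i hi) (hpb i hi)
  have hd2 : ∀ i < m, ∀ j < m, i ≠ j → (d i * d j) ^ 2 = 1 := by
    intro i hi j hj hij
    apply Prod.ext
    · exact h2 i hi j hj hij
    · apply Subtype.ext
      show (((c i : alternatingGroup (Fin (m + 2))) : Perm (Fin (m + 2))) * ((c j : alternatingGroup (Fin (m + 2))) : Perm (Fin (m + 2)))) ^ 2 = 1
      rw [hc i hi, hc j hj]
      exact cy_sq hab (hpa i hi) (hpb i hi) (hpa j hj) (hpp i hi j hj hij)
  obtain ⟨hfin, hle⟩ := carm_bound m d hd3 hd2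
  set D := gen d m with hD
  let π1 : D →* G := (MonoidHom.fst G _).comp D.subtype
  let π2 : D →* alternatingGroup (Fin (m + 2)) := (MonoidHom.snd G _).comp D.subtype
  have hs2 : Function.Surjective π2 := by
    have h1 : alternatingGroup (Fin (m + 2)) ≤ (π2.range.map (alternatingGroup (Fin (m + 2))).subtype) := by
      apply alt_le_of_star hab
      intro i hia hib
      have hi : (i : ℕ) < m := by
        have h1 : (i : ℕ) ≠ m := fun h => hia (Fin.ext h)
        have h2 : (i : ℕ) ≠ m + 1 := fun h => hib (Fin.ext h)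
        have := i.2
        omega
      have hpi : p i = i := by
        apply Fin.ext
        simp [p, hi]
      refine ⟨c i, ⟨⟨d i, mem_gen d hi⟩, rfl⟩, ?_⟩
      show ((c i : alternatingGroup (Fin (m + 2))) : Perm (Fin (m + 2))) = _
      rw [hc i hi, hpi]
    intro g
    obtain ⟨g', ⟨d', hd'⟩, h⟩ := h1 g.2
    exact ⟨d', by rw [hd']; exact Subtype.ext h⟩
  have hcard : 2 * Nat.card (alternatingGroup (Fin (m + 2))) = (m + 2)! := by
    have : Nontrivial (Fin (m + 2)) := ⟨a, b, hab⟩
    have h1 := two_mul_nat_card_alternatingGroup (α := Fin (m + 2))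
    rw [h1, Nat.card_perm, Nat.card_fin]
  have hb2 : Function.Bijective π2 := hs2.bijective_of_nat_card_le (by omega)
  let e2 : D ≃* alternatingGroup (Fin (m + 2)) := MulEquiv.ofBijective π2 hb2
  have hsimple : IsSimpleGroup D := by
    have : IsSimpleGroup (alternatingGroup (Fin (m + 2))) := alternatingGroup.isSimpleGroup (by rw [Nat.card_fin]; omega)
    exact MulEquiv.isSimpleGroup e2
  have hi1 : Function.Injective π1 := by
    rw [← MonoidHom.ker_eq_bot_iff]
    rcases (inferInstance : π1.ker.Normal).eq_bot_or_eq_top with h | h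
    · exact h
    · exfalso
      apply h0
      have : (⟨d 0, mem_gen d (by omega)⟩ : D) ∈ π1.ker := by rw [h]; trivial
      exact this
  have hr1 : π1.range = gen x m := by
    apply le_antisymm
    · rintro _ ⟨⟨g, hg⟩, rfl⟩
      show g.1 ∈ gen x m
      have h1 : D ≤ (gen x m).comap (MonoidHom.fst G _) := by
        rw [hD]
        unfold gen
        rw [Subgroup.closure_le]
        rintro _ ⟨i, hi, rfl⟩
        exact mem_gen x hi
      exact h1 hg
    · unfold gen
      rw [Subgroup.closure_le]
      rintro _ ⟨i, hi, rfl⟩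
      exact ⟨⟨d i, mem_gen d hi⟩, rfl⟩
  exact ⟨((MulEquiv.subgroupCongr hr1.symm).trans (MonoidHom.ofInjective hi1).symm).trans e2⟩

/-- the representation of a simple group on the cosets of a subgroup -/
theorem coset_real {G : Type*} [Group G] (hs : IsSimpleGroup G) (A : Subgroup G) (n : ℕ) [NeZero n] (hn : 1 < n) (hA : A.index = n) :
    ∃ H : Subgroup (Perm (Fin n)), Nonempty (G ≃* H) ∧ MulAction.IsPretransitive H (Fin n) ∧
      Nonempty (MulAction.stabilizer H (0 : Fin n) ≃* A) := by
  classical
  have hX : Nat.card (G ⧸ A) = n := hA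
  have hfin : Finite (G ⧸ A) := Nat.finite_of_card_ne_zero (by rw [hX]; omega)
  let e0 : G ⧸ A ≃ Fin n := Finite.equivFinOfCardEq hX
  let e : G ⧸ A ≃ Fin n := e0.trans (Equiv.swap (e0 ((1 : G) : G ⧸ A)) 0)
  have he : e ((1 : G) : G ⧸ A) = 0 := by
    show Equiv.swap (e0 ((1 : G) : G ⧸ A)) 0 (e0 ((1 : G) : G ⧸ A)) = 0
    exact Equiv.swap_apply_left _ _
  let ff : G →* Perm (Fin n) := (e.permCongrHom).toMonoidHom.comp (MulAction.toPermHom G (G ⧸ A))
  have hff : ∀ g (q : G ⧸ A), ff g (e q) = e (g • q) := by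
    intro g q
    show e (g • e.symm (e q)) = _
    rw [Equiv.symm_apply_apply]
  have hinj : Function.Injective ff := by
    rw [← MonoidHom.ker_eq_bot_iff]
    rcases (inferInstance : ff.ker.Normal).eq_bot_or_eq_top with h | h
    · exact h
    · exfalso
      have hA' : A = ⊤ := by
        rw [eq_top_iff]
        intro g _
        have h1 : g ∈ ff.ker := by rw [h]; trivial
        have h2 := hff g ((1 : G) : G ⧸ A)
        rw [MonoidHom.mem_ker.mp h1] at h2
        have h3 : ((1 : G) : G ⧸ A) = ((g * 1 : G) : G ⧸ A) := e.injective h2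
        have h4 := QuotientGroup.eq.mp h3
        simpa using h4
      rw [hA', Subgroup.index_top] at hA
      omega
  let f : G ≃* ff.range := MonoidHom.ofInjective hinj
  refine ⟨ff.range, ⟨f⟩, ⟨fun i j => ?_⟩, ?_⟩
  · obtain ⟨a, rfl⟩ := e.surjective i
    obtain ⟨b, rfl⟩ := e.surjective j
    obtain ⟨a, rfl⟩ := QuotientGroup.mk_surjective a
    obtain ⟨b, rfl⟩ := QuotientGroup.mk_surjective b
    refine ⟨f (b * a⁻¹), ?_⟩
    show ff (b * a⁻¹) (e _) = _
    rw [hff]
    congr 1
    show ((b * a⁻¹ * a : G) : G ⧸ A) = _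
    rw [inv_mul_cancel_right]
  · have hst : A.map f.toMonoidHom = MulAction.stabilizer ff.range (0 : Fin n) := by
      ext g
      constructor
      · rintro ⟨a, ha, rfl⟩
        show ff a 0 = 0
        rw [← he, hff]
        congr 1
        show ((a * 1 : G) : G ⧸ A) = _
        rw [mul_one]
        exact QuotientGroup.eq.mpr (by simpa using ha)
      · intro hg
        obtain ⟨a, rfl⟩ := f.surjective g
        refine ⟨a, ?_, rfl⟩
        have h1 : ff a 0 = 0 := hg
        rw [← he, hff] at h1
        have h2 := e.injective h1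
        have h3 : ((a * 1 : G) : G ⧸ A) = ((1 : G) : G ⧸ A) := h2
        have h4 := QuotientGroup.eq.mp h3
        simpa using h4
    exact ⟨((MulEquiv.subgroupMap f A).trans (MulEquiv.subgroupCongr hst)).symm⟩

end Cfsg.Agent.Lib.HNAlt
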