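import Cfsg.Agent.Lib.HNMD
import Cfsg.Agent.Lib.DceFix

set_option autoImplicit false
set_option linter.all false
set_option maxRecDepth 100000

namespace Cfsg.Agent.Lib.HNFixD
open Cfsg.Agent.Lib.Dce Cfsg.Agent.Lib.HNT Cfsg.Agent.Lib.HNU

/-- word -/
def wa : List Tok := rep [.t, .h [4, 2, 2, 4, 1, 1, 2, 1]] 19
theorem c_wa_0 : fixP tab 83 base ph phI HNM.st 9 wa 0 []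
  [⟨0, [], []⟩, ⟨10, [2, 7, 2, 2, 6, 6, 2, 2], [2, 2, 6, 2, 7, 3, 3, 6, 2, 7, 3, 6, 6]⟩, ⟨44, [26, 16, 22], [3, 7, 7, 3, 3, 6, 3, 7, 3, 3]⟩, ⟨96, [55, 56, 54, 54, 52, 54], [7, 2, 2, 7, 3, 6, 3, 3, 7, 3, 6]⟩, ⟨100, [55, 56, 55], [2, 7, 7, 2, 6, 6, 3, 7, 2, 6, 2, 7, 3, 6, 2]⟩, ⟨96, [52, 54, 56, 52, 54, 52], [3, 6, 2, 7, 2, 6, 3, 7, 2, 7, 7, 2, 2]⟩, ⟨94, [53, 52, 54, 56, 54, 52], [7, 7, 2, 7, 7, 2, 6, 3, 6, 2]⟩, ⟨85, [36, 39], [3, 7, 2, 2, 7, 7, 2, 6, 6, 2]⟩, ⟨87, [38, 35, 38], [2, 2, 2, 6, 2, 2, 6, 3, 3, 6, 2, 7, 2]⟩, ⟨85, [40, 38, 36], [6, 3, 7, 2, 6, 2, 7, 7, 2, 2, 6, 2]⟩, ⟨90, [37, 39, 39], [6, 6, 2, 2, 6, 6, 3, 6, 2, 7, 2, 6, 2]⟩, ⟨90, [35,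 39, 39], [2, 2, 2, 7, 2, 7, 7, 3, 3, 7, 2, 2, 2]⟩, ⟨76, [38, 37], [3, 3, 7, 2, 6, 3, 3, 6, 3, 7, 2, 2]⟩, ⟨96, [53, 55, 53, 54, 52], [6, 2, 2, 6, 6, 3, 7, 7, 2, 7, 3, 6, 2, 2]⟩, ⟨96, [56, 53, 55], [3, 3, 7, 2, 2, 6, 2, 7, 2, 6, 3, 3, 6]⟩, ⟨96, [56, 54, 54, 54, 54, 52], [6, 3, 7, 2, 6, 3, 7, 2, 2, 6]⟩, ⟨98, [55, 52, 55, 56], [3, 3, 6, 3, 3, 7, 2]⟩, ⟨34, [22], [7, 7, 3, 3, 6, 2, 7, 2, 2, 6]⟩, ⟨5, [], [6, 3, 6, 6, 3, 3, 7, 2, 2, 6, 6, 3, 7]⟩] [3, 4, 3, 4, 2, 2, 0, 2, 2, 1, 2, 4, 0, 2, 4, 2, 4, 3, 3, 4, 0] = true := by decide +kernel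
theorem c_wa_1 : fixP tab 83 base ph phI HNM.st 9 wa 1 []
  [⟨1, [], []⟩, ⟨9, [7, 2, 6, 3, 7, 2], [3, 6, 3, 3, 6, 6, 2, 2, 7, 2, 7, 7, 2, 6, 2]⟩, ⟨22, [18, 17, 17, 10], [6, 6, 3, 7, 7, 2, 2, 6, 2, 2, 6, 2, 7]⟩, ⟨90, [38, 37, 35], [2, 2, 2, 6, 2, 7, 3, 3]⟩, ⟨87, [37, 35, 37, 40], [3, 7, 7, 2, 2, 7, 7, 2, 6, 3, 6, 6, 2]⟩, ⟨85, [39, 37], [2, 7, 7, 3, 6, 2, 2, 7, 3, 6, 2]⟩, ⟨90, [38, 40, 38], [3, 6, 6, 2, 7, 7, 3, 3, 7, 2, 2]⟩, ⟨85, [40, 39, 35], [2, 6, 3, 6, 6, 3, 7, 7, 2, 6, 6, 2]⟩, ⟨87, [38, 38, 40], [2, 7, 3, 6, 3, 7, 2, 7, 3, 6, 2, 7, 3]⟩, ⟨72, [36, 39], [3, 6, 6, 3, 3, 6, 3, 3, 6, 2, 7]⟩, ⟨54, [28, 29], [6, 2, 2, 6, 2, 2, 2, 7, 3, 3, 7]⟩, ⟨84,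 [39, 36, 39], [7, 3, 3, 6, 2, 7, 3, 6, 6, 3, 7, 7]⟩, ⟨53, [33, 32], [3, 6, 6, 2, 7, 2, 2, 6, 2, 7, 2, 6, 3]⟩, ⟨45, [21, 15, 23], [7, 2, 2, 2, 7, 3, 3, 7, 2, 2, 2]⟩, ⟨86, [39, 37, 35, 38], [2, 2, 7, 3, 6, 2, 7, 7, 7, 2, 7, 3]⟩, ⟨97, [53, 55, 53, 55, 56, 55], [2, 2, 6, 3, 3, 6, 2, 2, 7, 2, 2]⟩, ⟨76, [36, 39], [3, 3, 7, 2, 7, 3, 3, 6, 2, 7, 3]⟩, ⟨98, [54, 53, 55, 53, 52, 55], [3, 6, 2, 2, 2, 6, 3, 7, 3, 6, 2]⟩, ⟨34, [23], [2, 2, 7, 3, 3, 6, 6, 3, 7, 2, 6, 2, 7, 3]⟩] [7, 3, 6, 2, 7, 7, 2, 6, 6, 3, 6, 2, 2] = true := by decide +kernel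
theorem c_wa_2 : fixP tab 83 base ph phI HNM.st 9 wa 1 [4, 3, 4, 3, 4]
  [⟨11, [], []⟩, ⟨59, [32, 32, 31], [3, 7, 2, 2, 7, 3, 6, 2, 7, 7, 3, 3, 6, 2, 7]⟩, ⟨99, [56, 55, 52, 55, 53], [2, 7, 7, 2, 7, 3, 6, 2, 2, 2, 7]⟩, ⟨60, [32], [3, 3, 7, 2, 2, 7, 7, 3, 6, 6, 2]⟩, ⟨90, [40, 36, 35], [2, 2, 7, 3, 3, 6, 2, 7, 7, 2, 7, 7, 7]⟩, ⟨83, [37, 38, 35], [3, 3, 7, 2, 7, 2, 6, 2, 7, 3, 6, 3, 7, 2]⟩, ⟨59, [28, 27, 27], [2, 2, 6, 2, 2, 6, 6, 3, 7, 2, 6]⟩, ⟨99, [55, 56, 54, 54, 52, 54], [2, 2, 6, 2, 2, 6, 3, 3, 7, 7, 2, 7]⟩, ⟨59, [27, 31, 27], [3, 3, 6, 3, 3, 7, 7, 2, 7, 2, 6, 2, 2]⟩, ⟨100, [56, 55, 55], [3, 3, 6, 6, 3, 7, 2, 7, 7, 2, 2, 6, 3, 6]⟩, ⟨97, [55,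 56, 54, 53, 55], [6, 6, 3, 3, 6, 2, 2, 6, 2, 2, 7, 3, 3]⟩, ⟨78, [36, 39], [2, 2, 2, 7, 7, 2, 6, 2, 2, 6, 3, 3, 7]⟩, ⟨45, [23, 22, 16], [6, 3, 6, 6, 2, 2, 7, 2, 6, 2, 2, 2, 7]⟩, ⟨89, [40, 36, 40, 40], [3, 3, 6, 6, 3, 6, 2, 7, 2, 6, 3, 7]⟩, ⟨90, [38, 38, 36, 35], [6, 2, 2, 6, 3, 7, 2, 7, 7, 2, 2, 2, 7]⟩, ⟨83, [35, 38, 35], [2, 2, 6, 3, 3, 6, 2, 2, 7, 7]⟩, ⟨59, [28], [2, 2, 7, 3, 6, 2, 7, 7, 2, 6, 6, 3, 6]⟩, ⟨99, [56, 55, 52, 55, 53], [3, 3, 7, 7, 2, 7, 3, 6, 2, 2, 7, 2]⟩, ⟨50, [], [7, 7, 2, 6, 2, 7, 3, 6, 6, 2, 7, 7, 2, 7, 2]⟩] [7, 2, 2, 6, 3, 7, 2, 2, 7, 2, 6, 2] = true := by decide +kernel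
theorem c_wa_3 : fixP tab 83 base ph phI HNM.st 9 wa 1 [4, 2, 4]
  [⟨9, [6], [7]⟩, ⟨22, [13, 10, 17], [3, 6, 6, 3, 7, 3, 3, 7, 7, 7, 3]⟩, ⟨91, [39, 37, 40], [7, 3, 6, 6, 2, 7, 2, 2, 6, 3, 6]⟩, ⟨88, [39, 39, 37], [2, 7, 2, 6, 6, 3, 6, 2, 7, 3]⟩, ⟨53, [28, 33, 27], [7, 3, 3, 7, 2, 2, 7, 3, 6, 3, 3, 7, 2]⟩, ⟨41, [26, 16], [6, 3, 7, 7, 2, 7, 7, 2, 2, 6]⟩, ⟨55, [33, 28, 30], [2, 2, 7, 2, 2, 7, 7, 2, 6, 6, 3, 6]⟩, ⟨86, [35, 37, 38, 35], [7, 7, 3, 6, 2, 2]⟩, ⟨97, [55, 56, 54, 53, 55, 53], [3, 6, 6, 3, 7, 2, 6, 2, 7, 2, 6, 6]⟩, ⟨91, [40, 38, 38], [2, 6, 3, 3, 6, 2, 2, 6, 3, 3, 6, 2, 7, 2]⟩, ⟨88, [40, 40], [7, 3, 6, 2, 7, 3, 6, 3]⟩, ⟨53, [34], [2, 2,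 2, 6, 2, 2, 7, 3, 6, 2, 2, 2]⟩, ⟨41, [26, 16, 16, 15], [2, 2, 6, 3, 6, 6, 3, 7, 7, 2, 6]⟩, ⟨59, [30, 29], [2, 2, 6, 6, 3, 6, 2, 2, 2, 6, 3, 7, 2]⟩, ⟨97, [55, 52, 55, 55, 56, 54], [2, 2, 6, 2, 7, 3, 3, 6, 3, 7, 2, 2]⟩, ⟨88, [40, 38, 38, 35], [2, 6, 2, 7, 2, 2, 7, 3, 3, 7, 2, 7, 7]⟩, ⟨61, [33, 30, 30], [2, 2, 6, 3, 6, 2, 7, 3, 6, 3, 3, 7]⟩, ⟨53, [33, 30], [7, 7, 2, 6, 2, 7, 2]⟩, ⟨34, [23], [3, 6, 2, 7, 2, 6, 6, 3, 7, 2, 6, 2, 2, 2]⟩] [3, 3, 7, 2, 6, 3, 3, 7, 2, 2, 7, 7] = true := by decide +kernel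
theorem c_wa_4 : fixP tab 83 base ph phI HNM.st 9 wa 1 [4]
  [⟨4, [], []⟩, ⟨11, [2, 2, 7, 7], [2, 7, 7, 2, 6, 3, 6, 6, 3, 3, 7]⟩, ⟨60, [28], [3, 3, 6, 6, 2, 7, 7, 2, 2]⟩, ⟨91, [38, 38, 35], [3, 7, 2, 7, 7]⟩, ⟨87, [38, 40, 38], [6, 2, 7, 2, 6, 6, 3, 3, 7, 7]⟩, ⟨86, [37, 40, 40], [2, 6, 3, 7, 7, 2, 6, 2, 7]⟩, ⟨94, [55, 55, 56, 54, 54, 53, 52], [6, 3, 7, 7, 2, 6, 3, 6, 2, 7, 3, 3, 7]⟩, ⟨91, [38, 40, 39], [6, 2, 2, 7, 2, 6, 6, 3, 7, 2, 6, 2, 2]⟩, ⟨74, [38], [6, 6, 3, 7, 2, 2, 6, 6, 3]⟩, ⟨18, [5, 13, 8], [6, 2, 7, 2, 7, 3, 6, 2, 7, 7, 7, 2, 7]⟩, ⟨86, [40, 36, 39, 35, 35], [6, 6, 3, 3, 6, 3, 3, 7, 2, 2, 6, 2]⟩, ⟨96, [55, 53, 55, 56, 55], [6, 3, 6,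 2, 2, 7, 2, 6, 3, 6, 2]⟩, ⟨95, [53, 55, 53, 55, 56, 55, 52], [6, 2, 7, 2, 7, 7, 3, 3, 7, 2]⟩, ⟨90, [40, 38, 35], [2, 7, 7, 3, 3, 6, 2, 2, 7, 3]⟩, ⟨86, [35, 37, 35], [3, 6, 2, 7, 7, 7, 2, 2, 7, 3, 3, 7, 3]⟩, ⟨98, [52, 54, 54, 56, 55], [2, 2, 7, 3, 3, 7, 3, 6, 2, 7, 7, 3, 6]⟩, ⟨37, [21], [3, 7, 2, 6, 2, 2, 7, 7, 2, 2, 7, 7]⟩, ⟨36, [21, 16], [6, 3, 6, 6, 2, 7, 2, 6, 3, 6, 6, 3]⟩, ⟨26, [25, 25, 4], [2, 7, 2, 2, 7, 3, 6, 6, 2, 2, 7, 2]⟩] [2, 6, 2, 7, 7, 2, 2, 6, 3, 3, 6, 2, 7, 3] = true := by decide +kernel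
/-- word -/
def wb : List Tok := rep [.t, .t, .h [4, 2, 2, 4, 1, 1, 2, 1]] 19
theorem c_wb_0 : fixP tab 83 base ph phI HNM.st 9 wb 0 []
  [⟨0, [], []⟩, ⟨1, [], []⟩, ⟨9, [7, 2, 6, 3, 7, 2], [3, 6, 3, 3, 6, 6, 2, 2, 7, 2, 7, 7, 2, 6, 2]⟩, ⟨21, [5, 18], [7, 7, 3, 6, 6, 2, 2, 6, 6, 3, 6, 6, 2]⟩, ⟨45, [15, 21, 21, 15], [6, 6, 2, 7, 7, 2, 2, 6]⟩, ⟨82, [38, 40], [6, 2, 2, 7, 3, 6, 3, 3, 7, 2, 6, 3]⟩, ⟨98, [52, 54, 56, 55, 53], [7, 3, 6, 2, 2, 7, 3, 6, 2, 7, 7, 2]⟩, ⟨44, [20, 23, 21, 16], [2, 2, 7, 7, 7, 2, 7, 7, 7]⟩, ⟨100, [56, 53, 54], [6, 6, 2, 7, 2, 6, 2, 2, 2, 6, 2]⟩, ⟨100, [54, 54, 56, 55], [6, 2, 2, 7, 3, 6, 3, 7, 2, 7, 2]⟩, ⟨98, [54, 54, 52,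 55, 56], [3, 7, 2, 7, 7, 7, 2, 7, 3, 6, 3]⟩, ⟨44, [20, 23, 21, 16], [2, 7, 2, 6, 2, 2, 7, 7, 2, 7]⟩, ⟨96, [56, 54, 54, 52], [3, 7, 7, 2, 6, 3, 6, 2, 7, 2, 7, 7]⟩, ⟨95, [56, 55, 53, 54], [2, 2, 7, 7, 2, 6, 3, 7, 2, 6, 2, 2, 2]⟩, ⟨86, [38, 36, 40], [2, 2, 7, 2, 6, 2, 2, 6, 3, 3, 7, 2, 2]⟩, ⟨97, [55, 56, 55, 52, 54, 54], [2, 2, 7, 2, 6, 3, 3, 7, 7, 2, 7, 3, 3]⟩, ⟨89, [36, 36], [2, 6, 3, 3, 7, 2, 2, 7, 3, 3]⟩, ⟨89, [37, 40, 40], [2, 7, 7, 3, 6, 6, 3, 7, 2, 7, 7, 3, 3]⟩, ⟨86, [35, 35, 37, 35], [7, 3, 6, 3, 7, 2, 7, 3, 6, 6, 3, 6, 2]⟩, ⟨97, [55, 56, 55, 52, 54, 54], [2, 2, 6, 3, 7, 2, 7, 3, 3, 6, 3, 3]⟩, ⟨87, [35, 37], [2, 7, 7, 2, 2, 6, 2, 7, 2, 2]⟩,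 ⟨87, [38, 40, 38], [2, 6, 3, 7, 3, 3, 7, 2, 7, 7, 3, 3, 7]⟩, ⟨87, [39, 35, 38], [2, 7, 3, 6, 3, 7, 7, 2, 6, 3, 7, 7]⟩, ⟨87, [38, 40, 38], [7, 7, 7, 3, 3, 6, 6, 2, 2, 2, 7]⟩, ⟨82, [38, 35], [2, 2, 7, 3, 3, 6, 3, 7, 3, 3, 6, 2]⟩, ⟨96, [55, 56, 55, 56, 55, 56], [2, 6, 2, 2, 6, 3, 3, 7, 2]⟩, ⟨98, [55, 56, 55, 56, 55, 56], [3, 6, 2, 2, 7, 2, 6, 2, 2, 2, 6, 3, 7, 2]⟩, ⟨44, [20, 23, 21, 16], [7, 2, 6, 3, 7, 2, 6, 3, 6, 2, 7, 2, 2, 2]⟩, ⟨98, [53, 54, 56, 54, 53, 54], [6, 6, 2, 2, 2, 6, 2, 7, 2, 2, 7]⟩, ⟨44, [20, 23, 21, 16], [2, 2, 2, 7, 3, 3, 6, 2, 7, 7]⟩, ⟨98, [53, 55, 53, 55, 56], [2, 7, 7, 3, 3, 7, 7, 2, 2, 7, 7, 7]⟩, ⟨44, [20, 23, 21, 16], [3, 6,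 3, 7, 2, 7, 7, 2, 2, 6, 3, 7, 2]⟩, ⟨95, [52, 54, 56, 54], [2, 2, 6, 2, 7, 3, 3, 6, 2, 2, 7, 2, 2, 7]⟩, ⟨78, [39, 40, 39], [3, 3, 7, 7, 2, 7, 2, 6, 2, 2, 2, 6]⟩, ⟨31, [23, 21, 26], [6, 3, 7, 7, 7, 2, 2, 7, 7, 2, 7]⟩, ⟨20, [9, 5, 10], [6, 3, 7, 2, 2, 6, 6, 3, 6, 6, 3, 7]⟩, ⟨2, [], [2, 7, 3, 6, 6, 2, 7, 2, 2, 2, 6, 2]⟩, ⟨5, [], [2, 7, 3, 6, 6, 2, 7, 2, 2, 2, 6, 2]⟩] [4, 2, 2, 2, 0, 2, 0, 2, 2, 1, 2, 2, 0, 3, 3, 4, 3, 3, 0, 3, 0, 2, 0] = true := by decide +kernel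
theorem c_wb_1 : fixP tab 83 base ph phI HNM.st 9 wb 1 []
  [⟨1, [], []⟩, ⟨3, [], []⟩, ⟨9, [2, 2, 7, 3, 3], [2, 7, 3, 6, 3, 7, 2, 7, 3, 3, 6]⟩, ⟨21, [5, 18], [6, 3, 6, 2, 2, 7, 3, 6, 2, 7, 7, 3, 6, 6, 2]⟩, ⟨45, [16, 22, 23], [3, 6, 2, 7, 3, 6, 6, 3, 3, 6, 3]⟩, ⟨82, [38, 40], [6, 2, 7, 7, 2, 6, 2, 2, 7, 2, 2, 7]⟩, ⟨96, [52, 55, 56, 52, 55, 52], [7, 7, 2, 6, 6, 3, 6, 2, 2]⟩, ⟨95, [56, 55, 53, 54], [7, 3, 6, 2, 2, 7, 7, 2, 7, 7]⟩, ⟨86, [38, 40, 40], [2, 2, 7, 7, 3, 6, 6, 2, 2, 7, 3, 6, 3]⟩, ⟨97, [55, 56, 55, 52, 54, 54], [6, 6, 2, 7, 2, 6, 2, 2, 2, 6, 2, 7]⟩, ⟨89, [38, 38, 36, 35], [7, 3, 3, 6, 2, 2, 2, 6, 6]⟩, ⟨89, [37, 40, 40], [6, 3, 3, 6, 2,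 7, 2, 2, 7, 7, 3]⟩, ⟨76, [39, 35], [2, 7, 7, 2, 7, 7, 3, 3, 6, 2, 7, 7, 2]⟩, ⟨98, [], [3, 7, 2, 2, 2, 7, 7, 2, 6, 6, 2, 7, 7]⟩, ⟨44, [22, 26, 16, 16], [2, 6, 3, 7, 7, 2, 7, 2, 2, 7, 7, 2]⟩, ⟨94, [55, 53, 55, 56, 55], [3, 3, 6, 2, 7, 7, 2, 6, 2, 7, 3]⟩, ⟨78, [40, 38, 35], [3, 7, 2, 2, 6, 3, 6, 6, 2, 7, 2]⟩, ⟨45, [23, 20, 23, 16], [7, 2, 2, 7, 2, 6, 3, 6, 6, 3]⟩, ⟨88, [40], [6, 6, 3, 7, 7, 2, 7, 3]⟩, ⟨61, [29, 28, 34, 27], [2, 7, 2, 6, 3, 7, 2, 2, 6, 2, 2, 2, 7]⟩, ⟨60, [31, 31, 27, 27], [6, 2, 7, 7, 3, 6, 6, 3, 6, 2, 2, 2, 7]⟩, ⟨85, [40, 39], [6, 2, 7, 3, 3, 6, 3, 7, 3, 3, 6, 2, 2]⟩, ⟨88, [36], [7, 2, 2, 7, 7, 2, 6, 6, 3, 7, 2]⟩, ⟨61, [29, 28,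 34, 27], [2, 6, 3, 3, 7, 7, 2, 7, 2, 6, 3, 3]⟩, ⟨60, [32, 30, 30], [2, 7, 2, 2, 6, 3, 3, 6, 2, 7, 3, 3]⟩, ⟨85, [40, 39], [2, 2, 7, 7, 2, 2, 6, 6, 3, 7, 7]⟩, ⟨87, [40, 38, 38], [6, 6, 3, 7, 7, 2, 2, 7, 7, 3, 3, 6]⟩, ⟨87, [38, 40, 38], [6, 2, 2, 6, 3, 7, 2, 7, 3, 6, 6]⟩, ⟨84, [40, 36], [2, 2, 7, 2, 6, 3, 3, 7, 7, 2, 7, 2]⟩, ⟨59, [27, 31], [7, 3, 6, 3, 3, 7, 7, 2, 6, 3, 7, 3, 3]⟩, ⟨99, [53, 55, 53, 55, 56, 55], [2, 7, 7, 3, 6, 6, 3, 6, 6, 2, 7, 7, 3]⟩, ⟨60, [32, 27, 27], [3, 7, 2, 2, 6, 3, 3, 7, 2, 6]⟩, ⟨89, [39, 40, 39], [3, 7, 2, 7, 7, 3, 6, 6, 3, 7, 7, 3]⟩, ⟨89, [37, 40, 40], [7, 3, 3, 7, 2, 2, 6, 6, 3, 7, 2, 2, 2]⟩, ⟨80, [37, 39], [6, 6, 3,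 7, 3, 3, 7, 7, 2, 7, 3]⟩, ⟨49, [34, 32, 27], [3, 7, 7, 7, 3, 6, 2, 7, 2, 6, 2, 2, 2, 6, 2]⟩, ⟨23, [13], [2, 6, 2, 7, 7, 3, 3, 7, 3]⟩, ⟨34, [], [3, 6, 6, 3, 6, 2, 7, 2, 6, 3, 7, 3]⟩] [7, 2, 7, 7, 3, 6, 6, 2, 2, 6, 2, 7, 3] = true := by decide +kernel
theorem c_wb_2 : fixP tab 83 base ph phI HNM.st 9 wb 1 [4, 3, 4, 3, 4]
  [⟨11, [], []⟩, ⟨46, [], []⟩, ⟨61, [34, 31, 32, 27], [3, 3, 7, 2, 7, 7, 3, 6, 6, 3, 7, 3]⟩, ⟨57, [30, 29], [3, 7, 3, 3, 6, 2, 7, 3, 3, 6, 3, 7, 7]⟩, ⟨91, [38, 38, 35], [7, 2, 6, 2, 2, 6, 3, 3, 6, 3, 7, 2, 2]⟩, ⟨91, [35, 37, 35], [2, 7, 2, 2, 7, 7, 2, 6, 3, 7, 3]⟩, ⟨85, [36, 36, 39, 35, 35], [3, 6, 6, 3, 7, 2, 6, 2, 2, 2, 6, 2,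 2]⟩, ⟨84, [38, 38], [6, 3, 3, 6, 2, 2, 6, 2, 2, 6, 3, 6]⟩, ⟨55, [33, 28], [6, 6, 3, 6, 2, 2, 7, 7, 2, 2, 7, 2]⟩, ⟨83, [39, 40, 39, 35], [6, 2, 7, 7, 2, 2, 7, 2, 6, 3, 6, 2, 2]⟩, ⟨61, [28, 34, 28], [2, 7, 3, 6, 6, 3, 7, 7, 3, 6, 6, 2, 7, 3]⟩, ⟨57, [30, 29], [3, 3, 7, 2, 6, 3, 6, 6, 2, 7, 2, 2]⟩, ⟨64, [], [3, 6, 2, 7, 7, 3, 6, 3, 3, 7, 7, 2, 2]⟩, ⟨63, [], [2, 6, 2, 2, 7, 2, 2, 7, 3, 6, 2]⟩, ⟨39, [22, 26, 15, 16], [6, 6, 3, 7, 2, 2, 6, 2, 7, 7, 2]⟩, ⟨40, [21, 21, 26, 15], [2, 2, 6, 6, 3, 3, 6, 3]⟩, ⟨58, [34], [7, 7, 7, 3, 3, 6, 2, 7, 2, 2, 7, 7]⟩, ⟨53, [32, 34], [3, 6, 3, 7, 7, 7, 3, 3, 6, 2, 7]⟩, ⟨43, [23, 15, 16], [6, 2, 7, 7, 2, 2, 7, 7, 2, 6,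 3]⟩, ⟨79, [], [2, 7, 3, 6, 3, 7, 7, 7, 3, 3, 6, 2, 2, 2]⟩, ⟨39, [20, 21], [6, 6, 3, 7, 7, 7, 3, 3, 6, 2, 2]⟩, ⟨40, [21, 21, 26, 15], [6, 6, 2, 2, 6, 3, 3, 7, 2, 2, 7]⟩, ⟨59, [33, 33, 28], [7, 3, 3, 6, 6, 3, 6, 2, 7, 7, 2]⟩, ⟨99, [54, 53, 55, 56, 55], [7, 3, 6, 3, 7, 7, 2, 7, 3, 6, 6]⟩, ⟨59, [], [7, 2, 7, 7, 2, 2, 2, 7, 3, 3, 7, 2, 2]⟩, ⟨99, [54, 53, 55, 56, 55], [6, 3, 7, 2, 7, 3, 6, 2, 7, 2, 6, 2, 2, 7]⟩, ⟨56, [33], [2, 7, 2, 6, 3, 7, 2, 2, 6, 3, 3]⟩, ⟨39, [20, 23], [6, 3, 7, 2, 7, 2, 2, 2, 7, 3, 6, 2]⟩, ⟨39, [26, 15, 20], [2, 6, 3, 3, 7, 2, 2, 7, 3, 6, 2, 7, 7, 3]⟩, ⟨40, [21, 21, 26, 15], [6, 6, 2, 7, 2, 6, 3, 7, 2, 6]⟩, ⟨61, [34, 32, 27],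 [6, 2, 7, 2, 2, 6, 3, 3, 7, 7, 3, 3]⟩, ⟨57, [30, 29], [2, 6, 3, 7, 7, 7, 2, 7, 7, 2]⟩, ⟨91, [40, 36, 40], [3, 3, 6, 2, 7, 3, 6, 3, 7, 3, 3, 7, 2, 7]⟩, ⟨91, [35, 37, 35], [7, 2, 6, 3, 3, 6, 2, 7, 3, 3, 6]⟩, ⟨88, [39, 39, 40, 40], [6, 3, 7, 3, 6, 2, 2, 7, 2, 6]⟩, ⟨61, [29, 28, 34, 27], [6, 2, 2, 2, 6, 6, 3, 6, 2, 7, 7, 2, 2, 2, 7]⟩, ⟨47, [], [6, 6, 2, 7, 7, 2, 6, 6, 3, 7, 7, 3]⟩, ⟨50, [], [3, 6, 3, 3, 6, 6, 3, 6, 2, 7, 2, 2, 6]⟩] [7, 2, 6, 3, 3, 7, 2, 2, 6, 3] = true := by decide +kernel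
theorem c_wb_3 : fixP tab 83 base ph phI HNM.st 9 wb 1 [4, 2, 4]
  [⟨9, [6], [7]⟩, ⟨21, [5, 18], [6, 2, 2, 7, 3, 6, 2, 7, 2, 6, 3, 7, 7, 7, 2]⟩, ⟨45, [23, 21, 20], [7, 7, 3, 3, 6, 2, 7, 2, 6, 3, 7, 2, 7]⟩, ⟨82, [38, 40], [3, 3, 7, 2, 6, 3, 3, 6, 3]⟩, ⟨94, [54, 53, 55, 56, 55], [3, 7, 2, 6, 3, 7, 2, 2, 6, 3, 7]⟩, ⟨77, [37, 38], [7, 2, 2, 2, 7, 3, 3, 7, 2, 2, 7, 7, 2]⟩, ⟨86, [37, 35], [7, 2, 2, 7, 7, 2, 2, 6, 6, 2]⟩, ⟨97, [55, 56, 55, 52, 54, 54], [2, 7, 7, 2, 6, 2, 7, 2, 2, 6, 3, 6]⟩, ⟨87, [39, 35, 39, 35], [2, 6, 6, 3, 7, 7, 2, 6, 3, 7, 3, 3, 7, 2]⟩, ⟨87, [38, 40, 38], [2, 6, 2, 2, 2, 7, 7, 2, 2, 6, 6]⟩, ⟨87, [37, 35], [2, 2, 6, 2, 2, 7, 7, 3,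 3, 6, 3, 7, 2, 6]⟩, ⟨87, [38, 40, 38], [2, 7, 3, 3, 7, 2, 2, 7, 3, 3, 7, 2, 2, 2]⟩, ⟨90, [38, 36, 39, 35], [6, 3, 3, 6, 6, 3, 7, 2, 6, 2, 7, 7]⟩, ⟨90, [36, 36, 35], [6, 2, 7, 3, 6, 6, 3, 3, 6, 6]⟩, ⟨85, [38, 35], [2, 6, 6, 2, 2, 7, 3, 6, 2, 7, 2, 7]⟩, ⟨84, [38, 38], [6, 2, 2, 7, 3, 3, 7, 3]⟩, ⟨52, [28, 33], [2, 6, 2, 7, 2, 2, 6, 3, 7, 2, 2, 7]⟩, ⟨74, [36, 35], [6, 3, 7, 3, 3, 6, 2, 7, 3, 3]⟩, ⟨25, [10, 13, 10, 18], [3, 3, 7, 3, 6, 2, 7, 7, 7, 3, 3, 6]⟩, ⟨54, [28, 33], [6, 6, 2, 7, 7, 7, 3, 6, 2]⟩, ⟨74, [38, 37], [6, 2, 7, 7, 2, 2, 7, 2, 6, 2, 2, 2, 7, 2]⟩, ⟨22, [17, 18, 17, 17], [6, 3, 3, 7, 7, 2, 7, 2, 6, 2, 2, 7, 2]⟩, ⟨82, [40, 38, 38], [6,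 3, 7, 2, 6, 2, 2, 6, 3, 7, 2, 2, 6, 2, 2]⟩, ⟨96, [55, 56, 55, 56, 55, 56], [7, 7, 3, 6, 3, 3, 6, 2, 7, 3, 6, 6]⟩, ⟨94, [55, 56, 54, 54, 52, 54], [3, 6, 3, 3]⟩, ⟨77, [37, 38], [3, 6, 3, 7, 7, 2, 6, 3, 7, 3, 6, 2]⟩, ⟨82, [36, 39], [6, 3, 7, 3, 3, 7, 7, 2, 6, 3, 7, 2, 2, 6]⟩, ⟨96, [55, 56, 55, 56, 55, 56], [3, 3, 6, 2, 7, 2, 2, 6, 3, 3, 6, 2, 2]⟩, ⟨99, [56, 53, 55], [3, 7, 2, 2, 7, 3, 3, 6, 3, 7, 2, 7, 7, 3]⟩, ⟨60, [32, 27, 27], [2, 2, 7, 2, 6, 3, 3, 6, 2, 7, 2, 2, 7, 2]⟩, ⟨86, [38, 35, 38], [2, 2, 6, 3, 7, 3, 3, 6, 2, 7, 7, 2]⟩, ⟨97, [55, 56, 55, 52, 54, 54], [2, 6, 3, 6, 6, 3, 6, 6, 2, 2, 7, 2]⟩, ⟨85, [37, 38], [6, 2, 2, 7, 7, 3, 6, 6, 2, 2, 6,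 3]⟩, ⟨84, [38, 38], [2, 6, 3, 3, 7, 2, 2, 6, 6, 3, 7, 2, 2]⟩, ⟨52, [31, 33], [7, 2, 6, 3, 3, 6, 3, 7, 2, 6]⟩, ⟨74, [36, 35], [2, 7, 3, 3, 6, 2, 7, 7, 2, 7, 2, 2, 2]⟩, ⟨23, [17], [3, 3, 7, 7, 7, 2, 2, 6, 2, 7, 3]⟩, ⟨34, [], [7, 3, 6, 2, 7, 7, 2, 7, 3, 3, 7]⟩] [2, 6, 3, 7, 2, 6, 3, 3, 7] = true := by decide +kernel
theorem c_wb_4 : fixP tab 83 base ph phI HNM.st 9 wb 1 [4]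
  [⟨4, [], []⟩, ⟨8, [], []⟩, ⟨22, [13, 8, 13, 5], [2, 7, 3, 6, 6, 2, 2, 7, 3, 6, 2, 7, 7, 2]⟩, ⟨72, [35], [6, 3, 3, 6, 2, 7, 2, 6, 2, 2]⟩, ⟨49, [32, 27], [6, 6, 2, 7, 7, 7, 3, 3, 7, 7, 2]⟩, ⟨25, [17, 17, 10, 13], [2, 2, 6, 6, 3, 6, 2, 7, 7, 3, 6, 2, 2, 2]⟩, ⟨56, [30, 34], [2, 6, 3, 6, 6, 2, 2, 6, 2, 2, 7, 2]⟩, ⟨39, [20, 23], [6, 3, 7, 2, 2, 2, 7, 2, 2]⟩, ⟨43, [26, 16, 15], [3, 7, 2, 6, 3, 3, 6, 3, 7, 2, 2, 7, 3]⟩, ⟨79, [], [3, 7, 7, 2, 7, 7, 2, 6, 6, 3, 6]⟩, ⟨45, [15, 21, 21], [7, 2, 6, 6, 2, 7, 7, 7, 3, 6, 2, 7]⟩, ⟨82, [38, 40], [7, 7, 3, 3, 7, 7, 2, 2, 7, 3, 6, 3]⟩, ⟨97, [54, 54, 56, 55], [2, 2, 7, 2, 6, 3, 7, 7, 2, 7, 7]⟩, ⟨88, [35, 37, 35,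 35], [2, 7, 2, 2, 6, 6, 3, 7, 7, 2, 2, 7]⟩, ⟨54, [34, 28, 30], [3, 3, 7, 2, 2, 6, 6, 3, 7, 2]⟩, ⟨69, [38, 36], [3, 6, 2, 7, 3, 6, 6, 3, 7, 2, 7]⟩, ⟨86, [39, 40, 36, 38, 35], [7, 3, 6, 3, 7, 2, 2, 2, 6, 3, 7]⟩, ⟨97, [55, 56, 55, 52, 54, 54], [2, 6, 6, 3, 3, 6, 2, 2, 2, 7]⟩, ⟨84, [38, 38, 35], [6, 2, 7, 2, 7, 3, 6, 2, 2, 7, 3, 3, 7, 2]⟩, ⟨59, [27, 31], [2, 2, 7, 2, 6, 3, 6, 2, 7, 3, 3, 6, 2]⟩, ⟨100, [55, 56, 55], [2, 2, 2, 6, 3, 7, 2, 2, 7, 2, 7, 3]⟩, ⟨100, [54, 54, 56, 55], [2, 2, 7, 7, 7, 3, 3, 6, 3, 3]⟩, ⟨99, [56, 53, 54, 54], [2, 2, 7, 3, 3, 7, 3, 3, 7, 7, 7]⟩, ⟨60, [32, 27, 27], [6, 6, 2, 2, 6, 6, 3, 7]⟩, ⟨83, [35, 37, 38, 35], [2, 7, 3, 6,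 2, 7, 7, 7, 2, 2, 6, 2, 7, 2]⟩, ⟨56, [33, 30], [2, 7, 3, 6, 3, 7, 2, 2, 7, 2, 6, 2]⟩, ⟨44, [23, 22], [2, 7, 7, 7, 2, 2, 6, 3, 3, 6, 2, 2]⟩, ⟨94, [55, 53, 55, 56, 55], [6, 3, 3, 7, 2, 7, 7, 3, 3, 6, 3, 7]⟩, ⟨84, [36, 35], [2, 6, 3, 7, 2, 2, 6, 6, 3, 7, 7, 7]⟩, ⟨59, [27, 31], [3, 6, 3, 7, 2, 2, 7, 2, 6, 3, 7]⟩, ⟨98, [55, 56, 55, 52, 54, 54, 52], [2, 2, 2, 6, 2, 2, 7, 7, 3, 6, 3, 7]⟩, ⟨44, [20, 23, 21, 16], [3, 3, 6, 2, 7, 7, 3, 6, 2, 7, 7]⟩, ⟨97, [54, 52, 55, 56, 55, 53], [2, 6, 6, 2, 7, 7, 2, 6, 2, 2, 7, 7, 2]⟩, ⟨88, [35, 37, 35, 35], [3, 6, 3, 7, 3, 6, 2, 7, 7, 2, 6, 2, 2]⟩, ⟨47, [], [3, 7, 2, 6, 2, 2, 6, 2, 2, 2, 7, 2]⟩, ⟨50, [], [6, 2, 7, 2,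 2, 2, 6, 3, 7, 2]⟩, ⟨7, [3, 6, 6], [3, 7, 2, 7, 7, 2, 2, 6, 2]⟩, ⟨26, [4], [3, 7, 2, 7, 7, 2, 2, 6, 2]⟩] [2, 6, 2, 2, 7, 7, 2, 2, 6, 3] = true := by decide +kernel

end Cfsg.Agent.Lib.HNFixD
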