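import Cfsg.Agent.Lib.HNMain
import Cfsg.Agent.Lib.HNFixD
import Cfsg.Agent.Lib.DceBlock

/-!
# The Harada-Norton group: order and faithfulness
-/

set_option autoImplicit false
set_option linter.all false
set_option maxRecDepth 100000

namespace Cfsg.Agent.Lib.HNPH

open Cfsg.Spor Cfsg.Agent.Lib.Dce Cfsg.Agent.Lib.BenesWord Cfsg.Agent.Lib.CosetGroup Cfsg.Agent.Lib.CoxBridge
open Cfsg.Agent.Lib.HNT Cfsg.Agent.Lib.HNU Cfsg.Agent.Lib.HNPL

theorem psiN : ∃ ψ : PH →* HN, ψ (xh 0) = PresentedGroup.of HN.Gen.x ∧ ψ (xh 2) = PresentedGroup.of HN.Gen.y ∧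
    ψ (xh 4) = PresentedGroup.of HN.Gen.z ∧ (∀ p, F (ψ p) = AX p) ∧ ψ.range = HH := by
  obtain ⟨ψ, q0, q1, q2, q3, q4⟩ := psi_exists relGN.h
  obtain ⟨f0, f1, f2, f3⟩ := F_spec
  have e1 : xh 1 = (xh 0)⁻¹ := hiv 0 (by norm_num)
  have e3 : xh 3 = (xh 2)⁻¹ := hiv 2 (by norm_num)
  refine ⟨ψ, q0, q2, q4, ?_, ?_⟩
  · have hK : (F.comp ψ).eqLocus AX = ⊤ := by
      apply PG_top c_all
      intro c hc
      show F (ψ (xb tab iv 1408 5 c)) = AX (xb tab iv 1408 5 c)
      interval_cases c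
      · show F (ψ (xh 0)) = AX (xh 0)
        rw [q0, f0]
      · show F (ψ (xh 1)) = AX (xh 1)
        rw [q1, map_inv, f0, e1, map_inv]
      · show F (ψ (xh 2)) = AX (xh 2)
        rw [q2, f1]
      · show F (ψ (xh 3)) = AX (xh 3)
        rw [q3, map_inv, f1, e3, map_inv]
      · show F (ψ (xh 4)) = AX (xh 4)
        rw [q4, f2]
    intro p
    have : p ∈ (F.comp ψ).eqLocus AX := by rw [hK]; trivial
    exact this
  · apply le_antisymm
    · have hK : HH.comap ψ = ⊤ := by
        apply PG_top c_all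
        intro c hc
        show ψ (xb tab iv 1408 5 c) ∈ HH
        have hx : (PresentedGroup.of HN.Gen.x : HN) ∈ HH := Subgroup.subset_closure (by simp)
        have hy : (PresentedGroup.of HN.Gen.y : HN) ∈ HH := Subgroup.subset_closure (by simp)
        have hz : (PresentedGroup.of HN.Gen.z : HN) ∈ HH := Subgroup.subset_closure (by simp)
        interval_cases c
        · show ψ (xh 0) ∈ HH
          rw [q0]; exact hx
        · show ψ (xh 1) ∈ HH
          rw [q1]; exact Subgroup.inv_mem _ hx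
        · show ψ (xh 2) ∈ HH
          rw [q2]; exact hy
        · show ψ (xh 3) ∈ HH
          rw [q3]; exact Subgroup.inv_mem _ hy
        · show ψ (xh 4) ∈ HH
          rw [q4]; exact hz
      rintro _ ⟨p, rfl⟩
      have : p ∈ HH.comap ψ := by rw [hK]; trivial
      exact this
    · rw [Subgroup.closure_le]
      rintro _ (rfl | rfl | rfl)
      · exact ⟨_, q0⟩
      · exact ⟨_, q2⟩
      · exact ⟨_, q4⟩

/-- words moving the base point to the points of the base -/
def bw : List (List ℕ) := [[], [4, 3, 4, 3, 4], [4, 2, 4], [4]]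

theorem bw_ok : ∀ b ∈ base, ∃ w ∈ bw, lets 83 w = true ∧ actw tab w 0 = b := by decide +kernel

/-- faithfulness on few points -/
theorem AX_inj {p : PH} (h : ∀ w ∈ bw, AX p (ev xh w • cx 1) = ev xh w • cx 1) : p = 1 := by
  apply ph_exists.2.2.1
  intro b hb
  obtain ⟨w, hw, hl, ha⟩ := bw_ok b hb
  have h1 := h w hw
  rw [AA_apply] at h1
  have h2 : ((ev xh w)⁻¹ * p * ev xh w) • cx 1 = cx 1 := by
    rw [mul_smul, mul_smul, h1, inv_smul_smul]
  have h3 : (ev xh w)⁻¹ * p * ev xh w ∈ Sg xh HNM.st.stab 1 := by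
    have h4 : cx 1 = xp (SS xh HNM.st 9) ⟨1, by norm_num⟩ := by
      show cc xh HNM.st 9 _ 1 = _
      rw [cc, dif_pos (by norm_num)]
    rw [h4, xp_fix] at h2
    exact h2
  have h5 : (ev xh w)⁻¹ * p * ev xh w ∈ Bs xh ph := by
    refine (le_trans (onlyI_spec (G := [2, 7, 3, 6]) acts.1 acts.2 hbase ph_exists.2.2.1 (by decide +kernel)) ?_) h3
    apply Subgroup.closure_mono
    rintro _ ⟨s, hs, rfl⟩
    simp only [List.mem_cons, List.not_mem_nil, or_false] at hs
    rcases hs with rfl | rfl | rfl | rfl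
    · exact ⟨(2, 2), by decide, rfl⟩
    · exact ⟨(7, 7), by decide, rfl⟩
    · exact ⟨(3, 3), by decide, rfl⟩
    · exact ⟨(6, 6), by decide, rfl⟩
  have h6 := Bs_fix (xs := xh) (φ := PH.subtype) (ph := ph) (pt := 0) acts.1 acts.2 (by norm_num) (by decide +kernel) _ h5
  have h7 : PH.subtype (ev xh w) 0 = b := by
    rw [(actw_eq acts.1 acts.2 _ hl 0 (by norm_num)).1, ha]
  rw [map_mul, map_mul, Equiv.Perm.mul_apply, Equiv.Perm.mul_apply, h7, map_inv, Equiv.Perm.inv_eq_iff_eq, h7] at h6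
  exact h6

/-- faithfulness on few points -/
theorem fix_one {g : HN} (h0 : F g (cx 0) = cx 0) (h : ∀ w ∈ bw, F g (ev xh w • cx 1) = ev xh w • cx 1) : g = 1 := by
  obtain ⟨ψ, _, _, _, hF, hr⟩ := psiN
  have h1 : g ∈ HH := by
    rw [main_idx.2.2]
    exact h0
  rw [← hr] at h1
  obtain ⟨p, rfl⟩ := h1
  rw [AX_inj (p := p) (by
    intro w hw
    rw [← hF]; exact h w hw), map_one]

theorem F_inj : Function.Injective F := by
  rw [injective_iff_map_eq_one]
  intro g hg
  apply fix_one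
  · rw [hg]; rfl
  · intro w _; rw [hg]; rfl

theorem card_HH : Nat.card HH = 177408000 := by
  obtain ⟨ψ, _, _, _, hF, hr⟩ := psiN
  have hinj : Function.Injective ψ := by
    rw [injective_iff_map_eq_one]
    intro p hp
    apply AX_inj
    intro w _
    rw [← hF, hp, map_one]; rfl
  rw [← hr, ← ph_exists.2.1]
  exact (Nat.card_congr (MonoidHom.ofInjective hinj).toEquiv).symm

theorem card_HN : Nat.card HN = 273030912000000 := by
  rw [← HH.card_mul_index, card_HH, main_idx.1]

instance : Finite HN := Nat.finite_of_card_ne_zero (by rw [card_HN]; norm_num)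

/-- evaluation of token words -/
theorem F_seq {ψ : PH →* HN} (hF : ∀ p, F (ψ p) = AX p) (r : List Tok) :
    F (seqG xh ψ (PresentedGroup.of HN.Gen.t) r) = seqP xh AX T r := by
  induction r with
  | nil => exact map_one _
  | cons k l ih =>
    rw [seqG, seqP, map_mul, ih]
    congr 1
    cases k with
    | h w => exact hF _
    | t => exact F_spec.2.2.2
    | T => show F (PresentedGroup.of HN.Gen.t)⁻¹ = T⁻¹; rw [map_inv, F_spec.2.2.2]

end Cfsg.Agent.Lib.HNPH
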