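import Cfsg.Agent.Lib.DceGrp

set_option autoImplicit false
set_option linter.all false
set_option maxRecDepth 100000

namespace Cfsg.Agent.Lib.HNHST
open Cfsg.Agent.Lib.Dce

def t0 : ℕ := 0x28005d0049001f003c00010062003f000c0053002d002b003d0052002c002a005a00560024000a0026004a00020036003a004e00610037002300080033000e0014001000220015005c00270057005f000d004b003500040048004c00390006004500250011001d001c001a005900550058005400030063003e004f0032005100470041001e000b006000210030002f0016002e000700130000001b00400043001800090031004200050044003b005b002000500012004600190034000f00380029004d005e0017
def t1 : ℕ := 0x28005d0049001f003c00010062003f000c0053002d002b003d0052002c002a005a00560024000a0026004a00020036003a004e00610037002300080033000e0014001000220015005c00270057005f000d004b003500040048004c00390006004500250011001d001c001a005900550058005400030063003e004f0032005100470041001e000b006000210030002f0016002e000700130000001b00400043001800090031004200050044003b005b002000500012004600190034000f00380029004d005e0017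
def t2 : ℕ := 0x390046000700000047004b00080033004300340016003c003b0013005c00110014004900170060004f00190055005f00120051003a0042002c005800040053005b004d0009001c0045001f005d003600570052002e0038001d000f0001000b0048001e003e004100180063000d0037000200610059001a003000150056000c002000210022004e000e0023004c0031002b002800320035005a002900060044005e002500270005006200400003002f004a00100054003d002d0050001b003f002a000a00240026
def t3 : ℕ := 0x2e000f002a0050004c0013003d00550043001700290046003b0025004d00090044003a004a0006004f00200042001d005e000b00520033005f0062003f0014005b00480030000e00040031000800580057004900630038002c003c0018005a005c0019001c0027000c003900070047001b00030016001a0011000000120001001e002100220023003e00320037004000050028004e002f00510059002600530056004b0054000a0036001f002d0024003400020041005d0061001500100045000d002b00350060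
def t4 : ℕ := 0x54006200490060003a0018005d0045005b00530059002b003d003600550063005a004c002400500026001000310052003c00420061004800470046005c000e0014004a00210015003300200057004b000d005f003500380037005600390034003f0032004d0030001c0019002d002c005800280029002a000b004f002500510023001e0041003e001f0022001d002f00160007002e005e0000001b00400043000100120002004e00050044003b000c0027000a00090008001a0006000f00040003001100130017
/-- tables -/
def tt : Tr := (Tr.n (Tr.n (Tr.n (Tr.l t0) (Tr.l t4)) (Tr.l t2)) (Tr.n (Tr.l t1) (Tr.l t3)))

/-- table of a letter -/
def tab (c : ℕ) : ℕ := tt.get c

/-- inverse letters -/
def iv (c : ℕ) : ℕ := nth [1, 0, 3, 2, 4] c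

/-- macro letters -/
def wd : List (List ℕ) := []

theorem c_all : allI tab iv 100 5 5 = true := by decide +kernel
theorem c_mac : chkM tab 100 5 5 wd = true := by decide +kernel

end Cfsg.Agent.Lib.HNHST
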