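import Cfsg.Agent.Lib.HNPH2
import Cfsg.Agent.Lib.HNHST

/-!
# The group `⟨x, y, z⟩`: the subgroup of index 2 and the action on 100 points
-/

set_option autoImplicit false
set_option linter.all false
set_option maxRecDepth 100000

namespace Cfsg.Agent.Lib.HNHS

open Cfsg.Spor Cfsg.Agent.Lib.Dce Cfsg.Agent.Lib.BenesWord Cfsg.Agent.Lib.CosetGroup Cfsg.Agent.Lib.CoxBridge
open Cfsg.Agent.Lib.HNPL Cfsg.Agent.Lib.HNPH

/-- the generators -/
abbrev gx : GrH := PresentedGroup.of HNH.Gen.x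
abbrev gy : GrH := PresentedGroup.of HNH.Gen.y
abbrev gz : GrH := PresentedGroup.of HNH.Gen.z

theorem eps_exists : ∃ f : GrH →* ℤˣ, f gx = 1 ∧ f gy = 1 ∧ f gz = -1 :=
  homGH ⟨⟨by decide, by decide, by decide, by decide, by decide, by decide⟩, by decide, by decide, by decide, by decide⟩

/-- the sign -/
noncomputable def eps : GrH →* ℤˣ := eps_exists.choose
theorem eps_x : eps gx = 1 := eps_exists.choose_spec.1
theorem eps_y : eps gy = 1 := eps_exists.choose_spec.2.1
theorem eps_z : eps gz = -1 := eps_exists.choose_spec.2.2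

/-- the subgroup -/
noncomputable def K0 : Subgroup GrH := eps.ker

instance : K0.Normal := eps.normal_ker

theorem K0_index : K0.index = 2 := by
  have h : Function.Surjective eps := by
    intro u
    rcases Int.units_eq_one_or u with rfl | rfl
    · exact ⟨1, map_one _⟩
    · exact ⟨gz, eps_z⟩
  rw [K0, Subgroup.index_ker, MonoidHom.range_eq_top.mpr h]
  rw [Subgroup.card_top, Nat.card_eq_fintype_card]
  rfl

instance : Finite GrH := card_GH.1

theorem card_GrH : Nat.card GrH = 177408000 := by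
  obtain ⟨_, h, _, ψ, hb, _⟩ := ph_exists
  rw [← h]
  exact (Nat.card_congr (Equiv.ofBijective _ hb)).symm

theorem card_K0 : Nat.card K0 = 88704000 := by
  have := K0.card_mul_index
  rw [K0_index, card_GrH] at this
  omega

theorem x2_ne : gx ^ 2 ≠ 1 := by
  obtain ⟨_, _, _, ψ, hb, p0, _⟩ := ph_exists
  intro h
  rw [gx, ← p0, ← map_pow] at h
  have h1 : (xb HNT.tab HNT.iv 1408 5 0) ^ 2 = 1 := hb.1 (by rw [h, map_one])
  have h2 : PH.subtype (ev xh [0, 0]) 0 = 0 := by
    have e : ev xh [0, 0] = (xb HNT.tab HNT.iv 1408 5 0) ^ 2 := by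
      rw [ev_cons, ev_cons, ev_nil, mul_one, pow_two]; rfl
    rw [e, h1]; rfl
  rw [(actw_eq HNPH.acts.1 HNPH.acts.2 [0, 0] (by decide) 0 (by norm_num)).1] at h2
  exact absurd h2 (by decide +kernel)

theorem x4_eq : gx ^ 4 = 1 := relGH.l.x4

/-- the group of degree 100 -/
abbrev R100 := PG HNHST.tab HNHST.iv 100 5

theorem hrel100 : relT HNHST.tab HNHST.iv 100 HNPH.mu HNHRel.extraW = true := by decide +kernel

theorem rho_exists : ∃ f : GrH →* R100, f gx = xb HNHST.tab HNHST.iv 100 5 0 ∧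
    f gy = xb HNHST.tab HNHST.iv 100 5 2 ∧ f gz = xb HNHST.tab HNHST.iv 100 5 4 := by
  have h := relT_sound (μ := HNPH.mu) (l := HNHRel.extraW) HNHST.c_all HNPH.mu_lets hrel100
  simp only [HNHRel.extraW, List.forall_mem_cons, Wd.eval] at h
  obtain ⟨k1, k2, k3, k4, k5, k6, k7, k8, k9, k10, _⟩ := h
  have e0 : ev (xb HNHST.tab HNHST.iv 100 5) (HNPH.mu 0) = xb HNHST.tab HNHST.iv 100 5 0 := by
    show ev (xb HNHST.tab HNHST.iv 100 5) [0] = _
    simp [ev]
  have e1 : ev (xb HNHST.tab HNHST.iv 100 5) (HNPH.mu 1) = xb HNHST.tab HNHST.iv 100 5 2 := by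
    show ev (xb HNHST.tab HNHST.iv 100 5) [2] = _
    simp [ev]
  have e2 : ev (xb HNHST.tab HNHST.iv 100 5) (HNPH.mu 2) = xb HNHST.tab HNHST.iv 100 5 4 := by
    show ev (xb HNHST.tab HNHST.iv 100 5) [4] = _
    simp [ev]
  rw [e1] at k1
  rw [e2] at k7
  simp only [e0, e1, e2] at k2 k3 k4 k5 k6 k8 k9 k10
  exact homGH ⟨⟨k1, k2, k3, k4, k5, k6⟩, k7, k8, k9, k10⟩

/-- the map to the group of degree 100 -/
noncomputable def rho : GrH →* R100 := rho_exists.choose

theorem rho_spec : rho gx = xb HNHST.tab HNHST.iv 100 5 0 ∧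
    rho gy = xb HNHST.tab HNHST.iv 100 5 2 ∧ rho gz = xb HNHST.tab HNHST.iv 100 5 4 := rho_exists.choose_spec

/-- words in the presented group -/
noncomputable def lw : ℕ → GrH
  | 0 => gx
  | 1 => gx⁻¹
  | 2 => gy
  | 3 => gy⁻¹
  | _ => gz

theorem rho_lw {w : List ℕ} (hw : lets 5 w = true) : rho (ev lw w) = ev (xb HNHST.tab HNHST.iv 100 5) w := by
  obtain ⟨r0, r2, r4⟩ := rho_spec
  induction w with
  | nil => exact map_one _
  | cons c w ih =>
    simp only [Dce.lets, Bool.and_eq_true, Nat.blt_eq] at hw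
    rw [ev_cons, ev_cons, map_mul, ih hw.2]
    congr 1
    have hc := hw.1
    interval_cases c
    · exact r0
    · show rho gx⁻¹ = _
      rw [map_inv, r0, ← xb_iv HNHST.c_all (by norm_num)]; rfl
    · exact r2
    · show rho gy⁻¹ = _
      rw [map_inv, r2, ← xb_iv HNHST.c_all (by norm_num)]; rfl
    · exact r4

theorem rho_act {w : List ℕ} (hw : lets 5 w = true) {i : ℕ} (hi : i < 100) :
    R100.subtype (rho (ev lw w)) i = actw HNHST.tab w i := by
  rw [rho_lw hw]
  exact (actw_eq (φ := R100.subtype) (fun c hc i hi => xb_act HNHST.c_all hc hi) (fun c hc i hi => base_lt HNHST.c_all hc hi) w hw i hi).1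

theorem rho_x2 : rho (gx ^ 2) = 1 := by
  have h1 : rho (ev lw [0, 0]) = 1 := by
    rw [rho_lw (by decide)]
    exact triv_sound HNHST.c_all (by decide) (by decide +kernel)
  have e : ev lw [0, 0] = gx ^ 2 := by rw [ev_cons, ev_cons, ev_nil, mul_one, pow_two]; rfl
  rwa [e] at h1

/-- permutations of the 100 points -/
noncomputable def toFin : R100 →* Equiv.Perm (Fin 100) where
  toFun g :=
    { toFun := fun i => ⟨R100.subtype g i, PG_lt HNHST.c_all g i.2⟩
      invFun := fun i => ⟨R100.subtype g⁻¹ i, PG_lt HNHST.c_all g⁻¹ i.2⟩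
      left_inv := fun i => by
        apply Fin.ext
        show R100.subtype g⁻¹ (R100.subtype g i) = i
        rw [map_inv]; exact (R100.subtype g).symm_apply_apply _
      right_inv := fun i => by
        apply Fin.ext
        show R100.subtype g (R100.subtype g⁻¹ i) = i
        rw [map_inv]; exact (R100.subtype g).apply_symm_apply _ }
  map_one' := by
    ext i; rfl
  map_mul' g h := by
    ext i; rfl

theorem toFin_apply (g : R100) (i : Fin 100) : ((toFin g i : Fin 100) : ℕ) = R100.subtype g i := rfl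

/-- words of the two generators -/
def w0 : List ℕ := [2, 2, 2, 4, 2, 0, 3, 4, 3, 4, 3, 0, 3, 3, 4, 2, 2]
def w1 : List ℕ := [2, 4, 3, 3, 0, 2, 2, 2, 4, 0, 2, 4, 2, 2, 4, 2, 2]

theorem eps_w0 : ev lw w0 ∈ K0 := by
  show eps (ev lw w0) = 1
  simp only [w0, ev_cons, ev_nil, map_mul, lw, map_inv, map_one, eps_x, eps_y, eps_z]
  decide

theorem eps_w1 : ev lw w1 ∈ K0 := by
  show eps (ev lw w1) = 1
  simp only [w1, ev_cons, ev_nil, map_mul, lw, map_inv, map_one, eps_x, eps_y, eps_z]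
  decide

end Cfsg.Agent.Lib.HNHS
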