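import Cfsg.Agent.Lib.H58SMHS
import Cfsg.Prelude.Def_SporadicB

/-!
# Recognition of the double cover of the Higman-Sims group
-/

set_option autoImplicit false
set_option linter.all false
set_option maxRecDepth 100000

namespace Cfsg.Agent.Lib.HNHS

open Subgroup Cfsg Cfsg.Agent.Lib.Golay Cfsg.Agent.Lib.LeechMin Cfsg.Agent.Lib.SchurSylow
open Cfsg.Agent.Lib.LeechChain Cfsg.Agent.Lib.LeechCount Cfsg.Agent.Lib.LeechCo2 Cfsg.Agent.Lib.LeechSyl
open Cfsg.Agent.Lib.H58SM Cfsg.Agent.Lib.H58SM.LV

/-- central elements of a simple group that is not commutative -/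
theorem center_simple {G : Type*} [Group G] [Finite G] [IsSimpleGroup G] (hc : ¬ (Nat.card G).Prime) : center G = ⊥ := by
  rcases (inferInstance : (center G).Normal).eq_bot_or_eq_top with h | h
  · exact h
  · exfalso
    have h1 : ∀ a b : G, a * b = b * a := by
      intro a b
      have : b ∈ center G := by rw [h]; trivial
      exact (mem_center_iff.mp this a)
    letI : CommGroup G := { (inferInstance : Group G) with mul_comm := h1 }
    exact hc (IsSimpleGroup.prime_card (α := G))

theorem core {H : Type*} [Group H] [Finite H] (hc : Nat.card H = 88704000) (τ : H →* Equiv.Perm (Fin 100)) (a b : H)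
    (ha : ∀ i : Fin 100, ((τ a i : Fin 100) : ℕ) = HSa.Q.T 0 i) (hb : ∀ i : Fin 100, ((τ b i : Fin 100) : ℕ) = HSa.Q.T 2 i)
    (x : H) (hx : τ (x ^ 2) = 1) (hx2 : x ^ 2 ≠ 1) : IsNonsplitDoubleCover H Spor.HS := by
  obtain ⟨ι, hι⟩ := exists_perm_hom HSc.act HS.gen
  have hinj : Function.Injective ι := by
    rw [injective_iff_map_eq_one]
    intro y hy
    apply HS.faith
    intro i hi
    have := hι y ⟨i, hi⟩
    rw [hy] at this
    exact this
  have h0 : ι (HSg.gg 0) = τ a := by
    ext1 i
    apply Fin.ext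
    apply HSc.act.inj (ι (HSg.gg 0) i).2 (τ a i).2
    rw [← hι, ha]
    exact HSc.act.fwd 0 (by norm_num) i i.2
  have h1 : ι (HSg.gg 1) = τ b := by
    ext1 i
    apply Fin.ext
    apply HSc.act.inj (ι (HSg.gg 1) i).2 (τ b i).2
    rw [← hι, hb]
    exact HSc.act.fwd 1 (by norm_num) i i.2
  have hle : ι.range ≤ τ.range := by
    rw [MonoidHom.range_eq_map, ← HS.gen, MonoidHom.map_closure, closure_le]
    rintro _ ⟨_, ⟨i, hi, rfl⟩, rfl⟩
    interval_cases i
    · rw [h0]; exact ⟨a, rfl⟩
    · rw [h1]; exact ⟨b, rfl⟩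
  have hr : Nat.card ι.range = 44352000 := by
    rw [← HS.cardG]
    exact (Nat.card_congr (MonoidHom.ofInjective hinj).toEquiv).symm
  have hr2 : 44352000 ≤ Nat.card τ.range := by
    rw [← hr]; exact Nat.card_mono (Set.toFinite _) hle
  have hmul : Nat.card τ.ker * Nat.card τ.range = 88704000 := by
    rw [← hc, ← τ.ker.card_mul_index, Subgroup.index_ker]
  have hker : 2 ≤ Nat.card τ.ker := by
    have h2 : Nontrivial τ.ker := ⟨⟨x ^ 2, hx⟩, 1, fun h => hx2 (congrArg Subtype.val h)⟩
    exact Finite.one_lt_card_iff_nontrivial.mpr h2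
  have hker2 : Nat.card τ.ker = 2 := by
    by_contra hne
    have h3 : 3 ≤ Nat.card τ.ker := by omega
    have := Nat.mul_le_mul h3 hr2
    omega
  have hr3 : Nat.card τ.range = 44352000 := by
    rw [hker2] at hmul; omega
  have hrange : ι.range = τ.range := eq_of_le_of_card_ge hle (by rw [hr, hr3])
  have e1 : τ.range ≃* HS.G := (MulEquiv.subgroupCongr hrange.symm).trans (MonoidHom.ofInjective hinj).symm
  -- the centre
  have hZG : center HS.G = ⊥ := by
    have : IsSimpleGroup HS.G := HS.simple
    have : Finite HS.G := Nat.finite_of_card_ne_zero (by rw [HS.cardG]; norm_num)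
    apply center_simple
    rw [HS.cardG]
    norm_num
  have hcen : center H = τ.ker := by
    apply le_antisymm
    · intro c hc'
      have h5 : e1 ⟨τ c, ⟨c, rfl⟩⟩ ∈ center HS.G := by
        rw [mem_center_iff]
        intro g
        obtain ⟨⟨_, ⟨k, rfl⟩⟩, rfl⟩ := e1.surjective g
        rw [← map_mul, ← map_mul]
        congr 1
        apply Subtype.ext
        show τ k * τ c = τ c * τ k
        rw [← map_mul, ← map_mul, mem_center_iff.mp hc' k]
      rw [hZG, mem_bot] at h5
      have h6 : (⟨τ c, ⟨c, rfl⟩⟩ : τ.range) = 1 := by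
        apply e1.injective
        rw [h5, map_one]
      exact congrArg Subtype.val h6
    · intro c hc'
      rw [mem_center_iff]
      intro g
      by_cases hc1 : c = 1
      · rw [hc1, mul_one, one_mul]
      · have h7 : g * c * g⁻¹ ∈ τ.ker := (inferInstance : τ.ker.Normal).conj_mem c hc' g
        have h8 : g * c * g⁻¹ ≠ 1 := by
          intro h
          apply hc1
          have : c = g⁻¹ * (g * c * g⁻¹) * g := by group
          rw [this, h]; group
        obtain ⟨y, _, hy⟩ := (Nat.card_eq_two_iff' (1 : τ.ker)).mp hker2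
        have h9 := hy ⟨c, hc'⟩ (fun h => hc1 (congrArg Subtype.val h))
        have h10 := hy ⟨_, h7⟩ (fun h => h8 (congrArg Subtype.val h))
        have h11 : c = g * c * g⁻¹ := congrArg Subtype.val (h9.trans h10.symm)
        nth_rewrite 2 [h11]
        group
  refine ⟨by rw [hcen]; exact hker2, ?_, ?_⟩
  · exact ⟨((QuotientGroup.quotientMulEquivOfEq hcen).trans (QuotientGroup.quotientKerEquivRange τ)).trans (e1.trans HS.equivHS)⟩
  · intro L hL
    have h5 : x ∈ (⊤ : Subgroup H) := trivial
    obtain ⟨⟨c, l⟩, hcl⟩ := hL.2 x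
    simp only at hcl
    have hc2 : (c : H) ^ 2 = 1 := by
      have h6 : Nat.card (center H) = 2 := by rw [hcen]; exact hker2
      have h7 : c ^ Nat.card (center H) = 1 := pow_card_eq_one'
      rw [h6] at h7
      exact congrArg Subtype.val h7
    have h8 : x ^ 2 = (l : H) ^ 2 := by
      rw [← hcl]
      have : Commute (c : H) (l : H) := (mem_center_iff.mp c.2 l).symm
      rw [this.mul_pow, hc2, one_mul]
    have h9 : x ^ 2 ∈ L := by rw [h8]; exact L.pow_mem l.2 2
    have h10 : x ^ 2 ∈ center H := by rw [hcen]; exact hx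
    exact hx2 (disjoint_def.mp hL.disjoint h10 h9)

end Cfsg.Agent.Lib.HNHS
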