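import Cfsg.Agent.Lib.HNHS1
import Cfsg.Agent.Lib.HNHS2
import Cfsg.Agent.Lib.HNFaith

/-!
# The group `⟨x, y, z⟩` of the Harada-Norton group has a subgroup `2.HS` of index 2
-/

set_option autoImplicit false
set_option linter.all false
set_option maxRecDepth 100000

namespace Cfsg.Agent.Lib.HNHS

open Cfsg Cfsg.Spor Cfsg.Agent.Lib.Dce Cfsg.Agent.Lib.BenesWord Cfsg.Agent.Lib.CosetGroup Cfsg.Agent.Lib.CoxBridge
open Cfsg.Agent.Lib.HNPL Cfsg.Agent.Lib.HNPH Cfsg.Agent.Lib.H58SM Cfsg.Agent.Lib.H58SM.LV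

theorem hh_equiv : Nonempty (HH ≃* GrH) := by
  obtain ⟨ψ, _, _, _, hF, hr⟩ := psiN
  have hinj : Function.Injective ψ := by
    rw [injective_iff_map_eq_one]
    intro p hp
    apply AX_inj
    intro w _
    rw [← hF, hp, map_one]; rfl
  obtain ⟨_, _, _, ψ0, hb, _⟩ := ph_exists
  exact ⟨((MulEquiv.subgroupCongr hr.symm).trans (MonoidHom.ofInjective hinj).symm).trans (MulEquiv.ofBijective ψ0 hb)⟩

theorem t_ab : ∀ i < 100, actw HNHST.tab w0 i = HSa.Q.T 0 i ∧ actw HNHST.tab w1 i = HSa.Q.T 2 i := by decide +kernel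

theorem hh_main : ∃ K : Subgroup HH, K.Normal ∧ K.index = 2 ∧ IsNonsplitDoubleCover K Spor.HS := by
  obtain ⟨e⟩ := hh_equiv
  have hfin : Finite HH := Finite.of_equiv _ e.symm.toEquiv
  let K : Subgroup HH := K0.comap e.toMonoidHom
  have hn : K.Normal := (inferInstance : K0.Normal).comap e.toMonoidHom
  have hidx : K.index = 2 := by
    rw [← K0_index]
    exact Subgroup.index_comap_of_surjective K0 e.surjective
  have hcard : Nat.card K = 88704000 := by
    have h1 := K.card_mul_index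
    rw [hidx, Nat.card_congr e.toEquiv, card_GrH] at h1
    omega
  refine ⟨K, hn, hidx, ?_⟩
  have hmem : ∀ g ∈ K0, e.symm g ∈ K := by
    intro g hg
    show e (e.symm g) ∈ K0
    rw [e.apply_symm_apply]; exact hg
  let τ : K →* Equiv.Perm (Fin 100) := toFin.comp (rho.comp (e.toMonoidHom.comp K.subtype))
  have hτ : ∀ g (hg : g ∈ K0), τ ⟨e.symm g, hmem g hg⟩ = toFin (rho g) := by
    intro g hg
    show toFin (rho (e (e.symm g))) = _
    rw [e.apply_symm_apply]
  have hx : gx ∈ K0 := by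
    show eps gx = 1
    exact eps_x
  have hpow : (⟨e.symm gx, hmem gx hx⟩ : K) ^ 2 = ⟨e.symm (gx ^ 2), hmem _ (K0.pow_mem hx 2)⟩ := by
    apply Subtype.ext
    show (e.symm gx) ^ 2 = e.symm (gx ^ 2)
    rw [map_pow]
  refine core hcard τ ⟨e.symm (Dce.ev lw w0), hmem _ eps_w0⟩ ⟨e.symm (Dce.ev lw w1), hmem _ eps_w1⟩ ?_ ?_ ⟨e.symm gx, hmem gx hx⟩ ?_ ?_
  · intro i
    rw [hτ _ eps_w0, toFin_apply, rho_act (by decide) i.2]
    exact (t_ab i i.2).1
  · intro i
    rw [hτ _ eps_w1, toFin_apply, rho_act (by decide) i.2]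
    exact (t_ab i i.2).2
  · rw [hpow, hτ _ (K0.pow_mem hx 2), rho_x2, map_one]
  · rw [hpow]
    intro h
    have h1 := congrArg Subtype.val h
    simp only [OneMemClass.coe_one] at h1
    apply x2_ne
    have h2 := congrArg e h1
    rwa [e.apply_symm_apply, map_one] at h2

end Cfsg.Agent.Lib.HNHS
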