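import Cfsg.Prelude.Def_SporCoxeter

set_option autoImplicit false
set_option linter.all false

namespace Cfsg.Agent.Lib.HNL
open Cfsg.Spor

/-- generators -/
inductive Gen
  | x
  | y
  deriving DecidableEq

/-- edges of the diagram -/
def edges : List (Gen × ℕ × Gen) :=
  []

/-- further relators -/
def extra : List (FreeGroup Gen) := [
  ((FreeGroup.of Gen.y) ^ 6),
  (((((FreeGroup.of Gen.x) ^ 2) * (FreeGroup.of Gen.y)) * ((FreeGroup.of Gen.x) ^ 2)) * ((FreeGroup.of Gen.y))⁻¹),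
  ((((((FreeGroup.of Gen.x))⁻¹ * ((FreeGroup.of Gen.y))⁻¹) * (FreeGroup.of Gen.x)) * (FreeGroup.of Gen.y)) ^ 3),
  ((((((FreeGroup.of Gen.x))⁻¹ * ((FreeGroup.of Gen.y) ^ 2)) * (FreeGroup.of Gen.x)) * ((FreeGroup.of Gen.y) ^ 3)) ^ 3),
  (((FreeGroup.of Gen.x) * (FreeGroup.of Gen.y)) ^ 8),
  (((((FreeGroup.of Gen.x) * (FreeGroup.of Gen.y)) * (FreeGroup.of Gen.x)) * ((FreeGroup.of Gen.y) ^ 3)) ^ 4),
  ((FreeGroup.of Gen.x) ^ 4)]

end Cfsg.Agent.Lib.HNL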