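import Cfsg.Agent.Lib.HNLAB

set_option autoImplicit false
set_option linter.all false
set_option maxRecDepth 100000
set_option Elab.async false

namespace Cfsg.Agent.Lib.HNLAF0
open Cfsg.Spor Cfsg.Agent.Lib.BenesPerm Cfsg.Agent.Lib.BenesAct Cfsg.Agent.Lib.BenesWord
open Cfsg.Agent.Lib.BenesPlane Cfsg.Agent.Lib.CosetClosure Cfsg.Agent.Lib.CosetFacts
open Cfsg.Agent.Lib.CosetMain Cfsg.Agent.Lib.CoxBridge Cfsg.Agent.Lib.CosetGroup Cfsg.Agent.Lib.CosetInst Cfsg.Agent.Lib.CosetInj
open Cfsg.Agent.Lib.BenesPack Cfsg.Agent.Lib.CosetPack Cfsg.Agent.Lib.CosetChain Cfsg.Agent.Lib.CosetWide Cfsg.Agent.Lib.CosetWide2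
open Cfsg.Agent.Lib.HNLRel Cfsg.Agent.Lib.HNLAN0 Cfsg.Agent.Lib.HNLAR0 Cfsg.Agent.Lib.HNLAD Cfsg.Agent.Lib.HNLAB

theorem fact0 : factsK nets ivx R 10 63000 (2 ^ 16) nd T DT patL 3 s0 = true := by decide +kernel
theorem fact1 : factsK nets ivx R 10 63000 (2 ^ 16) nd T DT patL 43 s1 = true := by decide +kernel
theorem fact2 : factsK nets ivx R 10 63000 (2 ^ 16) nd T DT patL 83 s2 = true := by decide +kernel
theorem fact3 : factsK nets ivx R 10 63000 (2 ^ 16) nd T DT patL 123 s3 = true := by decide +kernel
theorem fact4 : factsK nets ivx R 10 63000 (2 ^ 16) nd T DT patL 163 s4 = true := by decide +kernel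
theorem fact5 : factsK nets ivx R 10 63000 (2 ^ 16) nd T DT patL 203 s5 = true := by decide +kernel
theorem fact6 : factsK nets ivx R 10 63000 (2 ^ 16) nd T DT patL 243 s6 = true := by decide +kernel
theorem fact7 : factsK nets ivx R 10 63000 (2 ^ 16) nd T DT patL 283 s7 = true := by decide +kernel
theorem fact8 : factsK nets ivx R 10 63000 (2 ^ 16) nd T DT patL 323 s8 = true := by decide +kernel
theorem fact9 : factsK nets ivx R 10 63000 (2 ^ 16) nd T DT patL 363 s9 = true := by decide +kernel
theorem fact10 : factsK nets ivx R 10 63000 (2 ^ 16) nd T DT patL 403 s10 = true := by decide +kernel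
theorem fact11 : factsK nets ivx R 10 63000 (2 ^ 16) nd T DT patL 443 s11 = true := by decide +kernel
theorem fact12 : factsK nets ivx R 10 63000 (2 ^ 16) nd T DT patL 483 s12 = true := by decide +kernel
theorem fact13 : factsK nets ivx R 10 63000 (2 ^ 16) nd T DT patL 523 s13 = true := by decide +kernel
theorem fact14 : factsK nets ivx R 10 63000 (2 ^ 16) nd T DT patL 563 s14 = true := by decide +kernel
theorem fact15 : factsK nets ivx R 10 63000 (2 ^ 16) nd T DT patL 603 s15 = true := by decide +kernel
theorem fact16 : factsK nets ivx R 10 63000 (2 ^ 16) nd T DT patL 643 s16 = true := by decide +kernel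
theorem fact17 : factsK nets ivx R 10 63000 (2 ^ 16) nd T DT patL 683 s17 = true := by decide +kernel
theorem fact18 : factsK nets ivx R 10 63000 (2 ^ 16) nd T DT patL 723 s18 = true := by decide +kernel
theorem fact19 : factsK nets ivx R 10 63000 (2 ^ 16) nd T DT patL 763 s19 = true := by decide +kernel
theorem fact20 : factsK nets ivx R 10 63000 (2 ^ 16) nd T DT patL 803 s20 = true := by decide +kernel
theorem fact21 : factsK nets ivx R 10 63000 (2 ^ 16) nd T DT patL 843 s21 = true := by decide +kernel
theorem fact22 : factsK nets ivx R 10 63000 (2 ^ 16) nd T DT patL 883 s22 = true := by decide +kernel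
theorem fact23 : factsK nets ivx R 10 63000 (2 ^ 16) nd T DT patL 923 s23 = true := by decide +kernel
theorem fact24 : factsK nets ivx R 10 63000 (2 ^ 16) nd T DT patL 963 s24 = true := by decide +kernel
theorem fact25 : factsK nets ivx R 10 63000 (2 ^ 16) nd T DT patL 1003 s25 = true := by decide +kernel
theorem fact26 : factsK nets ivx R 10 63000 (2 ^ 16) nd T DT patL 1043 s26 = true := by decide +kernel
theorem fact27 : factsK nets ivx R 10 63000 (2 ^ 16) nd T DT patL 1083 s27 = true := by decide +kernel
theorem fact28 : factsK nets ivx R 10 63000 (2 ^ 16) nd T DT patL 1123 s28 = true := by decide +kernel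
theorem fact29 : factsK nets ivx R 10 63000 (2 ^ 16) nd T DT patL 1163 s29 = true := by decide +kernel
theorem fact30 : factsK nets ivx R 10 63000 (2 ^ 16) nd T DT patL 1203 s30 = true := by decide +kernel
theorem fact31 : factsK nets ivx R 10 63000 (2 ^ 16) nd T DT patL 1243 s31 = true := by decide +kernel
theorem fact32 : factsK nets ivx R 10 63000 (2 ^ 16) nd T DT patL 1283 s32 = true := by decide +kernel
theorem fact33 : factsK nets ivx R 10 63000 (2 ^ 16) nd T DT patL 1323 s33 = true := by decide +kernel
theorem fact34 : factsK nets ivx R 10 63000 (2 ^ 16) nd T DT patL 1363 s34 = true := by decide +kernel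
theorem fact35 : factsK nets ivx R 10 63000 (2 ^ 16) nd T DT patL 1403 s35 = true := by decide +kernel
theorem fact36 : factsK nets ivx R 10 63000 (2 ^ 16) nd T DT patL 1443 s36 = true := by decide +kernel
theorem fact37 : factsK nets ivx R 10 63000 (2 ^ 16) nd T DT patL 1483 s37 = true := by decide +kernel
theorem fact38 : factsK nets ivx R 10 63000 (2 ^ 16) nd T DT patL 1523 s38 = true := by decide +kernel
theorem fact39 : factsK nets ivx R 10 63000 (2 ^ 16) nd T DT patL 1563 s39 = true := by decide +kernel
theorem fact40 : factsK nets ivx R 10 63000 (2 ^ 16) nd T DT patL 1603 s40 = true := by decide +kernel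
theorem fact41 : factsK nets ivx R 10 63000 (2 ^ 16) nd T DT patL 1643 s41 = true := by decide +kernel
theorem fact42 : factsK nets ivx R 10 63000 (2 ^ 16) nd T DT patL 1683 s42 = true := by decide +kernel
theorem fact43 : factsK nets ivx R 10 63000 (2 ^ 16) nd T DT patL 1723 s43 = true := by decide +kernel
theorem fact44 : factsK nets ivx R 10 63000 (2 ^ 16) nd T DT patL 1763 s44 = true := by decide +kernel
theorem fact45 : factsK nets ivx R 10 63000 (2 ^ 16) nd T DT patL 1803 s45 = true := by decide +kernel
theorem fact46 : factsK nets ivx R 10 63000 (2 ^ 16) nd T DT patL 1843 s46 = true := by decide +kernel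
theorem fact47 : factsK nets ivx R 10 63000 (2 ^ 16) nd T DT patL 1883 s47 = true := by decide +kernel
theorem fact48 : factsK nets ivx R 10 63000 (2 ^ 16) nd T DT patL 1923 s48 = true := by decide +kernel
theorem fact49 : factsK nets ivx R 10 63000 (2 ^ 16) nd T DT patL 1963 s49 = true := by decide +kernel
theorem fact50 : factsK nets ivx R 10 63000 (2 ^ 16) nd T DT patL 2003 s50 = true := by decide +kernel
theorem fact51 : factsK nets ivx R 10 63000 (2 ^ 16) nd T DT patL 2043 s51 = true := by decide +kernel
theorem fact52 : factsK nets ivx R 10 63000 (2 ^ 16) nd T DT patL 2083 s52 = true := by decide +kernel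
theorem fact53 : factsK nets ivx R 10 63000 (2 ^ 16) nd T DT patL 2123 s53 = true := by decide +kernel
theorem fact54 : factsK nets ivx R 10 63000 (2 ^ 16) nd T DT patL 2163 s54 = true := by decide +kernel
theorem fact55 : factsK nets ivx R 10 63000 (2 ^ 16) nd T DT patL 2203 s55 = true := by decide +kernel
theorem fact56 : factsK nets ivx R 10 63000 (2 ^ 16) nd T DT patL 2243 s56 = true := by decide +kernel
theorem fact57 : factsK nets ivx R 10 63000 (2 ^ 16) nd T DT patL 2283 s57 = true := by decide +kernel
theorem fact58 : factsK nets ivx R 10 63000 (2 ^ 16) nd T DT patL 2323 s58 = true := by decide +kernel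
theorem fact59 : factsK nets ivx R 10 63000 (2 ^ 16) nd T DT patL 2363 s59 = true := by decide +kernel

end Cfsg.Agent.Lib.HNLAF0
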