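import Cfsg.Agent.Lib.HNLAB

set_option autoImplicit false
set_option linter.all false
set_option maxRecDepth 100000
set_option Elab.async false

namespace Cfsg.Agent.Lib.HNLAF1
open Cfsg.Spor Cfsg.Agent.Lib.BenesPerm Cfsg.Agent.Lib.BenesAct Cfsg.Agent.Lib.BenesWord
open Cfsg.Agent.Lib.BenesPlane Cfsg.Agent.Lib.CosetClosure Cfsg.Agent.Lib.CosetFacts
open Cfsg.Agent.Lib.CosetMain Cfsg.Agent.Lib.CoxBridge Cfsg.Agent.Lib.CosetGroup Cfsg.Agent.Lib.CosetInst Cfsg.Agent.Lib.CosetInj
open Cfsg.Agent.Lib.BenesPack Cfsg.Agent.Lib.CosetPack Cfsg.Agent.Lib.CosetChain Cfsg.Agent.Lib.CosetWide Cfsg.Agent.Lib.CosetWide2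
open Cfsg.Agent.Lib.HNLRel Cfsg.Agent.Lib.HNLAN0 Cfsg.Agent.Lib.HNLAR0 Cfsg.Agent.Lib.HNLAD Cfsg.Agent.Lib.HNLAB

theorem fact60 : factsK nets ivx R 10 63000 (2 ^ 16) nd T DT patL 2403 s60 = true := by decide +kernel
theorem fact61 : factsK nets ivx R 10 63000 (2 ^ 16) nd T DT patL 2443 s61 = true := by decide +kernel
theorem fact62 : factsK nets ivx R 10 63000 (2 ^ 16) nd T DT patL 2483 s62 = true := by decide +kernel
theorem fact63 : factsK nets ivx R 10 63000 (2 ^ 16) nd T DT patL 2523 s63 = true := by decide +kernel
theorem fact64 : factsK nets ivx R 10 63000 (2 ^ 16) nd T DT patL 2563 s64 = true := by decide +kernel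
theorem fact65 : factsK nets ivx R 10 63000 (2 ^ 16) nd T DT patL 2603 s65 = true := by decide +kernel
theorem fact66 : factsK nets ivx R 10 63000 (2 ^ 16) nd T DT patL 2643 s66 = true := by decide +kernel
theorem fact67 : factsK nets ivx R 10 63000 (2 ^ 16) nd T DT patL 2683 s67 = true := by decide +kernel
theorem fact68 : factsK nets ivx R 10 63000 (2 ^ 16) nd T DT patL 2723 s68 = true := by decide +kernel
theorem fact69 : factsK nets ivx R 10 63000 (2 ^ 16) nd T DT patL 2763 s69 = true := by decide +kernel
theorem fact70 : factsK nets ivx R 10 63000 (2 ^ 16) nd T DT patL 2803 s70 = true := by decide +kernel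
theorem fact71 : factsK nets ivx R 10 63000 (2 ^ 16) nd T DT patL 2843 s71 = true := by decide +kernel
theorem fact72 : factsK nets ivx R 10 63000 (2 ^ 16) nd T DT patL 2883 s72 = true := by decide +kernel
theorem fact73 : factsK nets ivx R 10 63000 (2 ^ 16) nd T DT patL 2923 s73 = true := by decide +kernel
theorem fact74 : factsK nets ivx R 10 63000 (2 ^ 16) nd T DT patL 2963 s74 = true := by decide +kernel
theorem fact75 : factsK nets ivx R 10 63000 (2 ^ 16) nd T DT patL 3003 s75 = true := by decide +kernel
theorem fact76 : factsK nets ivx R 10 63000 (2 ^ 16) nd T DT patL 3043 s76 = true := by decide +kernel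
theorem fact77 : factsK nets ivx R 10 63000 (2 ^ 16) nd T DT patL 3083 s77 = true := by decide +kernel
theorem fact78 : factsK nets ivx R 10 63000 (2 ^ 16) nd T DT patL 3123 s78 = true := by decide +kernel
theorem fact79 : factsK nets ivx R 10 63000 (2 ^ 16) nd T DT patL 3163 s79 = true := by decide +kernel
theorem fact80 : factsK nets ivx R 10 63000 (2 ^ 16) nd T DT patL 3203 s80 = true := by decide +kernel
theorem fact81 : factsK nets ivx R 10 63000 (2 ^ 16) nd T DT patL 3243 s81 = true := by decide +kernel
theorem fact82 : factsK nets ivx R 10 63000 (2 ^ 16) nd T DT patL 3283 s82 = true := by decide +kernel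
theorem fact83 : factsK nets ivx R 10 63000 (2 ^ 16) nd T DT patL 3323 s83 = true := by decide +kernel
theorem fact84 : factsK nets ivx R 10 63000 (2 ^ 16) nd T DT patL 3363 s84 = true := by decide +kernel
theorem fact85 : factsK nets ivx R 10 63000 (2 ^ 16) nd T DT patL 3403 s85 = true := by decide +kernel
theorem fact86 : factsK nets ivx R 10 63000 (2 ^ 16) nd T DT patL 3443 s86 = true := by decide +kernel
theorem fact87 : factsK nets ivx R 10 63000 (2 ^ 16) nd T DT patL 3483 s87 = true := by decide +kernel
theorem fact88 : factsK nets ivx R 10 63000 (2 ^ 16) nd T DT patL 3523 s88 = true := by decide +kernel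
theorem fact89 : factsK nets ivx R 10 63000 (2 ^ 16) nd T DT patL 3563 s89 = true := by decide +kernel
theorem fact90 : factsK nets ivx R 10 63000 (2 ^ 16) nd T DT patL 3603 s90 = true := by decide +kernel
theorem fact91 : factsK nets ivx R 10 63000 (2 ^ 16) nd T DT patL 3643 s91 = true := by decide +kernel
theorem fact92 : factsK nets ivx R 10 63000 (2 ^ 16) nd T DT patL 3683 s92 = true := by decide +kernel
theorem fact93 : factsK nets ivx R 10 63000 (2 ^ 16) nd T DT patL 3723 s93 = true := by decide +kernel
theorem fact94 : factsK nets ivx R 10 63000 (2 ^ 16) nd T DT patL 3763 s94 = true := by decide +kernel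
theorem fact95 : factsK nets ivx R 10 63000 (2 ^ 16) nd T DT patL 3803 s95 = true := by decide +kernel
theorem fact96 : factsK nets ivx R 10 63000 (2 ^ 16) nd T DT patL 3843 s96 = true := by decide +kernel
theorem fact97 : factsK nets ivx R 10 63000 (2 ^ 16) nd T DT patL 3883 s97 = true := by decide +kernel
theorem fact98 : factsK nets ivx R 10 63000 (2 ^ 16) nd T DT patL 3923 s98 = true := by decide +kernel
theorem fact99 : factsK nets ivx R 10 63000 (2 ^ 16) nd T DT patL 3963 s99 = true := by decide +kernel
theorem fact100 : factsK nets ivx R 10 63000 (2 ^ 16) nd T DT patL 4003 s100 = true := by decide +kernel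
theorem fact101 : factsK nets ivx R 10 63000 (2 ^ 16) nd T DT patL 4043 s101 = true := by decide +kernel
theorem fact102 : factsK nets ivx R 10 63000 (2 ^ 16) nd T DT patL 4083 s102 = true := by decide +kernel
theorem fact103 : factsK nets ivx R 10 63000 (2 ^ 16) nd T DT patL 4123 s103 = true := by decide +kernel
theorem fact104 : factsK nets ivx R 10 63000 (2 ^ 16) nd T DT patL 4163 s104 = true := by decide +kernel
theorem fact105 : factsK nets ivx R 10 63000 (2 ^ 16) nd T DT patL 4203 s105 = true := by decide +kernel
theorem fact106 : factsK nets ivx R 10 63000 (2 ^ 16) nd T DT patL 4243 s106 = true := by decide +kernel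
theorem fact107 : factsK nets ivx R 10 63000 (2 ^ 16) nd T DT patL 4283 s107 = true := by decide +kernel
theorem fact108 : factsK nets ivx R 10 63000 (2 ^ 16) nd T DT patL 4323 s108 = true := by decide +kernel
theorem fact109 : factsK nets ivx R 10 63000 (2 ^ 16) nd T DT patL 4363 s109 = true := by decide +kernel
theorem fact110 : factsK nets ivx R 10 63000 (2 ^ 16) nd T DT patL 4403 s110 = true := by decide +kernel
theorem fact111 : factsK nets ivx R 10 63000 (2 ^ 16) nd T DT patL 4443 s111 = true := by decide +kernel
theorem fact112 : factsK nets ivx R 10 63000 (2 ^ 16) nd T DT patL 4483 s112 = true := by decide +kernel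
theorem fact113 : factsK nets ivx R 10 63000 (2 ^ 16) nd T DT patL 4523 s113 = true := by decide +kernel
theorem fact114 : factsK nets ivx R 10 63000 (2 ^ 16) nd T DT patL 4563 s114 = true := by decide +kernel
theorem fact115 : factsK nets ivx R 10 63000 (2 ^ 16) nd T DT patL 4603 s115 = true := by decide +kernel
theorem fact116 : factsK nets ivx R 10 63000 (2 ^ 16) nd T DT patL 4643 s116 = true := by decide +kernel
theorem fact117 : factsK nets ivx R 10 63000 (2 ^ 16) nd T DT patL 4683 s117 = true := by decide +kernel
theorem fact118 : factsK nets ivx R 10 63000 (2 ^ 16) nd T DT patL 4723 s118 = true := by decide +kernel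
theorem fact119 : factsK nets ivx R 10 63000 (2 ^ 16) nd T DT patL 4763 s119 = true := by decide +kernel

end Cfsg.Agent.Lib.HNLAF1
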