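import Cfsg.Agent.Lib.HNLAB

set_option autoImplicit false
set_option linter.all false
set_option maxRecDepth 100000
set_option Elab.async false

namespace Cfsg.Agent.Lib.HNLAF2
open Cfsg.Spor Cfsg.Agent.Lib.BenesPerm Cfsg.Agent.Lib.BenesAct Cfsg.Agent.Lib.BenesWord
open Cfsg.Agent.Lib.BenesPlane Cfsg.Agent.Lib.CosetClosure Cfsg.Agent.Lib.CosetFacts
open Cfsg.Agent.Lib.CosetMain Cfsg.Agent.Lib.CoxBridge Cfsg.Agent.Lib.CosetGroup Cfsg.Agent.Lib.CosetInst Cfsg.Agent.Lib.CosetInj
open Cfsg.Agent.Lib.BenesPack Cfsg.Agent.Lib.CosetPack Cfsg.Agent.Lib.CosetChain Cfsg.Agent.Lib.CosetWide Cfsg.Agent.Lib.CosetWide2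
open Cfsg.Agent.Lib.HNLRel Cfsg.Agent.Lib.HNLAN0 Cfsg.Agent.Lib.HNLAR0 Cfsg.Agent.Lib.HNLAD Cfsg.Agent.Lib.HNLAB

theorem fact120 : factsK nets ivx R 10 63000 (2 ^ 16) nd T DT patL 4803 s120 = true := by decide +kernel
theorem fact121 : factsK nets ivx R 10 63000 (2 ^ 16) nd T DT patL 4843 s121 = true := by decide +kernel
theorem fact122 : factsK nets ivx R 10 63000 (2 ^ 16) nd T DT patL 4883 s122 = true := by decide +kernel
theorem fact123 : factsK nets ivx R 10 63000 (2 ^ 16) nd T DT patL 4923 s123 = true := by decide +kernel
theorem fact124 : factsK nets ivx R 10 63000 (2 ^ 16) nd T DT patL 4963 s124 = true := by decide +kernel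
theorem fact125 : factsK nets ivx R 10 63000 (2 ^ 16) nd T DT patL 5003 s125 = true := by decide +kernel
theorem fact126 : factsK nets ivx R 10 63000 (2 ^ 16) nd T DT patL 5043 s126 = true := by decide +kernel
theorem fact127 : factsK nets ivx R 10 63000 (2 ^ 16) nd T DT patL 5083 s127 = true := by decide +kernel
theorem fact128 : factsK nets ivx R 10 63000 (2 ^ 16) nd T DT patL 5123 s128 = true := by decide +kernel
theorem fact129 : factsK nets ivx R 10 63000 (2 ^ 16) nd T DT patL 5163 s129 = true := by decide +kernel
theorem fact130 : factsK nets ivx R 10 63000 (2 ^ 16) nd T DT patL 5203 s130 = true := by decide +kernel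
theorem fact131 : factsK nets ivx R 10 63000 (2 ^ 16) nd T DT patL 5243 s131 = true := by decide +kernel
theorem fact132 : factsK nets ivx R 10 63000 (2 ^ 16) nd T DT patL 5283 s132 = true := by decide +kernel
theorem fact133 : factsK nets ivx R 10 63000 (2 ^ 16) nd T DT patL 5323 s133 = true := by decide +kernel
theorem fact134 : factsK nets ivx R 10 63000 (2 ^ 16) nd T DT patL 5363 s134 = true := by decide +kernel
theorem fact135 : factsK nets ivx R 10 63000 (2 ^ 16) nd T DT patL 5403 s135 = true := by decide +kernel
theorem fact136 : factsK nets ivx R 10 63000 (2 ^ 16) nd T DT patL 5443 s136 = true := by decide +kernel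
theorem fact137 : factsK nets ivx R 10 63000 (2 ^ 16) nd T DT patL 5483 s137 = true := by decide +kernel
theorem fact138 : factsK nets ivx R 10 63000 (2 ^ 16) nd T DT patL 5523 s138 = true := by decide +kernel
theorem fact139 : factsK nets ivx R 10 63000 (2 ^ 16) nd T DT patL 5563 s139 = true := by decide +kernel
theorem fact140 : factsK nets ivx R 10 63000 (2 ^ 16) nd T DT patL 5603 s140 = true := by decide +kernel
theorem fact141 : factsK nets ivx R 10 63000 (2 ^ 16) nd T DT patL 5643 s141 = true := by decide +kernel
theorem fact142 : factsK nets ivx R 10 63000 (2 ^ 16) nd T DT patL 5683 s142 = true := by decide +kernel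
theorem fact143 : factsK nets ivx R 10 63000 (2 ^ 16) nd T DT patL 5723 s143 = true := by decide +kernel
theorem fact144 : factsK nets ivx R 10 63000 (2 ^ 16) nd T DT patL 5763 s144 = true := by decide +kernel
theorem fact145 : factsK nets ivx R 10 63000 (2 ^ 16) nd T DT patL 5803 s145 = true := by decide +kernel
theorem fact146 : factsK nets ivx R 10 63000 (2 ^ 16) nd T DT patL 5843 s146 = true := by decide +kernel
theorem fact147 : factsK nets ivx R 10 63000 (2 ^ 16) nd T DT patL 5883 s147 = true := by decide +kernel
theorem fact148 : factsK nets ivx R 10 63000 (2 ^ 16) nd T DT patL 5923 s148 = true := by decide +kernel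
theorem fact149 : factsK nets ivx R 10 63000 (2 ^ 16) nd T DT patL 5963 s149 = true := by decide +kernel
theorem fact150 : factsK nets ivx R 10 63000 (2 ^ 16) nd T DT patL 6003 s150 = true := by decide +kernel
theorem fact151 : factsK nets ivx R 10 63000 (2 ^ 16) nd T DT patL 6043 s151 = true := by decide +kernel
theorem fact152 : factsK nets ivx R 10 63000 (2 ^ 16) nd T DT patL 6083 s152 = true := by decide +kernel
theorem fact153 : factsK nets ivx R 10 63000 (2 ^ 16) nd T DT patL 6123 s153 = true := by decide +kernel
theorem fact154 : factsK nets ivx R 10 63000 (2 ^ 16) nd T DT patL 6163 s154 = true := by decide +kernel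
theorem fact155 : factsK nets ivx R 10 63000 (2 ^ 16) nd T DT patL 6203 s155 = true := by decide +kernel
theorem fact156 : factsK nets ivx R 10 63000 (2 ^ 16) nd T DT patL 6243 s156 = true := by decide +kernel
theorem fact157 : factsK nets ivx R 10 63000 (2 ^ 16) nd T DT patL 6283 s157 = true := by decide +kernel
theorem fact158 : factsK nets ivx R 10 63000 (2 ^ 16) nd T DT patL 6323 s158 = true := by decide +kernel
theorem fact159 : factsK nets ivx R 10 63000 (2 ^ 16) nd T DT patL 6363 s159 = true := by decide +kernel
theorem fact160 : factsK nets ivx R 10 63000 (2 ^ 16) nd T DT patL 6403 s160 = true := by decide +kernel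
theorem fact161 : factsK nets ivx R 10 63000 (2 ^ 16) nd T DT patL 6443 s161 = true := by decide +kernel
theorem fact162 : factsK nets ivx R 10 63000 (2 ^ 16) nd T DT patL 6483 s162 = true := by decide +kernel
theorem fact163 : factsK nets ivx R 10 63000 (2 ^ 16) nd T DT patL 6523 s163 = true := by decide +kernel
theorem fact164 : factsK nets ivx R 10 63000 (2 ^ 16) nd T DT patL 6563 s164 = true := by decide +kernel
theorem fact165 : factsK nets ivx R 10 63000 (2 ^ 16) nd T DT patL 6603 s165 = true := by decide +kernel
theorem fact166 : factsK nets ivx R 10 63000 (2 ^ 16) nd T DT patL 6643 s166 = true := by decide +kernel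
theorem fact167 : factsK nets ivx R 10 63000 (2 ^ 16) nd T DT patL 6683 s167 = true := by decide +kernel
theorem fact168 : factsK nets ivx R 10 63000 (2 ^ 16) nd T DT patL 6723 s168 = true := by decide +kernel
theorem fact169 : factsK nets ivx R 10 63000 (2 ^ 16) nd T DT patL 6763 s169 = true := by decide +kernel
theorem fact170 : factsK nets ivx R 10 63000 (2 ^ 16) nd T DT patL 6803 s170 = true := by decide +kernel
theorem fact171 : factsK nets ivx R 10 63000 (2 ^ 16) nd T DT patL 6843 s171 = true := by decide +kernel
theorem fact172 : factsK nets ivx R 10 63000 (2 ^ 16) nd T DT patL 6883 s172 = true := by decide +kernel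
theorem fact173 : factsK nets ivx R 10 63000 (2 ^ 16) nd T DT patL 6923 s173 = true := by decide +kernel
theorem fact174 : factsK nets ivx R 10 63000 (2 ^ 16) nd T DT patL 6963 s174 = true := by decide +kernel
theorem fact175 : factsK nets ivx R 10 63000 (2 ^ 16) nd T DT patL 7003 s175 = true := by decide +kernel
theorem fact176 : factsK nets ivx R 10 63000 (2 ^ 16) nd T DT patL 7043 s176 = true := by decide +kernel
theorem fact177 : factsK nets ivx R 10 63000 (2 ^ 16) nd T DT patL 7083 s177 = true := by decide +kernel
theorem fact178 : factsK nets ivx R 10 63000 (2 ^ 16) nd T DT patL 7123 s178 = true := by decide +kernel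
theorem fact179 : factsK nets ivx R 10 63000 (2 ^ 16) nd T DT patL 7163 s179 = true := by decide +kernel

end Cfsg.Agent.Lib.HNLAF2
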