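import Cfsg.Agent.Lib.HNLAB

set_option autoImplicit false
set_option linter.all false
set_option maxRecDepth 100000
set_option Elab.async false

namespace Cfsg.Agent.Lib.HNLAF3
open Cfsg.Spor Cfsg.Agent.Lib.BenesPerm Cfsg.Agent.Lib.BenesAct Cfsg.Agent.Lib.BenesWord
open Cfsg.Agent.Lib.BenesPlane Cfsg.Agent.Lib.CosetClosure Cfsg.Agent.Lib.CosetFacts
open Cfsg.Agent.Lib.CosetMain Cfsg.Agent.Lib.CoxBridge Cfsg.Agent.Lib.CosetGroup Cfsg.Agent.Lib.CosetInst Cfsg.Agent.Lib.CosetInj
open Cfsg.Agent.Lib.BenesPack Cfsg.Agent.Lib.CosetPack Cfsg.Agent.Lib.CosetChain Cfsg.Agent.Lib.CosetWide Cfsg.Agent.Lib.CosetWide2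
open Cfsg.Agent.Lib.HNLRel Cfsg.Agent.Lib.HNLAN0 Cfsg.Agent.Lib.HNLAR0 Cfsg.Agent.Lib.HNLAD Cfsg.Agent.Lib.HNLAB

theorem fact180 : factsK nets ivx R 10 63000 (2 ^ 16) nd T DT patL 7203 s180 = true := by decide +kernel
theorem fact181 : factsK nets ivx R 10 63000 (2 ^ 16) nd T DT patL 7243 s181 = true := by decide +kernel
theorem fact182 : factsK nets ivx R 10 63000 (2 ^ 16) nd T DT patL 7283 s182 = true := by decide +kernel
theorem fact183 : factsK nets ivx R 10 63000 (2 ^ 16) nd T DT patL 7323 s183 = true := by decide +kernel
theorem fact184 : factsK nets ivx R 10 63000 (2 ^ 16) nd T DT patL 7363 s184 = true := by decide +kernel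
theorem fact185 : factsK nets ivx R 10 63000 (2 ^ 16) nd T DT patL 7403 s185 = true := by decide +kernel
theorem fact186 : factsK nets ivx R 10 63000 (2 ^ 16) nd T DT patL 7443 s186 = true := by decide +kernel
theorem fact187 : factsK nets ivx R 10 63000 (2 ^ 16) nd T DT patL 7483 s187 = true := by decide +kernel
theorem fact188 : factsK nets ivx R 10 63000 (2 ^ 16) nd T DT patL 7523 s188 = true := by decide +kernel
theorem fact189 : factsK nets ivx R 10 63000 (2 ^ 16) nd T DT patL 7563 s189 = true := by decide +kernel
theorem fact190 : factsK nets ivx R 10 63000 (2 ^ 16) nd T DT patL 7603 s190 = true := by decide +kernel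
theorem fact191 : factsK nets ivx R 10 63000 (2 ^ 16) nd T DT patL 7643 s191 = true := by decide +kernel
theorem fact192 : factsK nets ivx R 10 63000 (2 ^ 16) nd T DT patL 7683 s192 = true := by decide +kernel
theorem fact193 : factsK nets ivx R 10 63000 (2 ^ 16) nd T DT patL 7723 s193 = true := by decide +kernel
theorem fact194 : factsK nets ivx R 10 63000 (2 ^ 16) nd T DT patL 7763 s194 = true := by decide +kernel
theorem fact195 : factsK nets ivx R 10 63000 (2 ^ 16) nd T DT patL 7803 s195 = true := by decide +kernel
theorem fact196 : factsK nets ivx R 10 63000 (2 ^ 16) nd T DT patL 7843 s196 = true := by decide +kernel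
theorem fact197 : factsK nets ivx R 10 63000 (2 ^ 16) nd T DT patL 7883 s197 = true := by decide +kernel
theorem fact198 : factsK nets ivx R 10 63000 (2 ^ 16) nd T DT patL 7923 s198 = true := by decide +kernel
theorem fact199 : factsK nets ivx R 10 63000 (2 ^ 16) nd T DT patL 7963 s199 = true := by decide +kernel
theorem fact200 : factsK nets ivx R 10 63000 (2 ^ 16) nd T DT patL 8003 s200 = true := by decide +kernel
theorem fact201 : factsK nets ivx R 10 63000 (2 ^ 16) nd T DT patL 8043 s201 = true := by decide +kernel
theorem fact202 : factsK nets ivx R 10 63000 (2 ^ 16) nd T DT patL 8083 s202 = true := by decide +kernel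
theorem fact203 : factsK nets ivx R 10 63000 (2 ^ 16) nd T DT patL 8123 s203 = true := by decide +kernel
theorem fact204 : factsK nets ivx R 10 63000 (2 ^ 16) nd T DT patL 8163 s204 = true := by decide +kernel
theorem fact205 : factsK nets ivx R 10 63000 (2 ^ 16) nd T DT patL 8203 s205 = true := by decide +kernel
theorem fact206 : factsK nets ivx R 10 63000 (2 ^ 16) nd T DT patL 8243 s206 = true := by decide +kernel
theorem fact207 : factsK nets ivx R 10 63000 (2 ^ 16) nd T DT patL 8283 s207 = true := by decide +kernel
theorem fact208 : factsK nets ivx R 10 63000 (2 ^ 16) nd T DT patL 8323 s208 = true := by decide +kernel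
theorem fact209 : factsK nets ivx R 10 63000 (2 ^ 16) nd T DT patL 8363 s209 = true := by decide +kernel
theorem fact210 : factsK nets ivx R 10 63000 (2 ^ 16) nd T DT patL 8403 s210 = true := by decide +kernel
theorem fact211 : factsK nets ivx R 10 63000 (2 ^ 16) nd T DT patL 8443 s211 = true := by decide +kernel
theorem fact212 : factsK nets ivx R 10 63000 (2 ^ 16) nd T DT patL 8483 s212 = true := by decide +kernel
theorem fact213 : factsK nets ivx R 10 63000 (2 ^ 16) nd T DT patL 8523 s213 = true := by decide +kernel
theorem fact214 : factsK nets ivx R 10 63000 (2 ^ 16) nd T DT patL 8563 s214 = true := by decide +kernel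
theorem fact215 : factsK nets ivx R 10 63000 (2 ^ 16) nd T DT patL 8603 s215 = true := by decide +kernel
theorem fact216 : factsK nets ivx R 10 63000 (2 ^ 16) nd T DT patL 8643 s216 = true := by decide +kernel
theorem fact217 : factsK nets ivx R 10 63000 (2 ^ 16) nd T DT patL 8683 s217 = true := by decide +kernel
theorem fact218 : factsK nets ivx R 10 63000 (2 ^ 16) nd T DT patL 8723 s218 = true := by decide +kernel
theorem fact219 : factsK nets ivx R 10 63000 (2 ^ 16) nd T DT patL 8763 s219 = true := by decide +kernel
theorem fact220 : factsK nets ivx R 10 63000 (2 ^ 16) nd T DT patL 8803 s220 = true := by decide +kernel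
theorem fact221 : factsK nets ivx R 10 63000 (2 ^ 16) nd T DT patL 8843 s221 = true := by decide +kernel
theorem fact222 : factsK nets ivx R 10 63000 (2 ^ 16) nd T DT patL 8883 s222 = true := by decide +kernel
theorem fact223 : factsK nets ivx R 10 63000 (2 ^ 16) nd T DT patL 8923 s223 = true := by decide +kernel
theorem fact224 : factsK nets ivx R 10 63000 (2 ^ 16) nd T DT patL 8963 s224 = true := by decide +kernel
theorem fact225 : factsK nets ivx R 10 63000 (2 ^ 16) nd T DT patL 9003 s225 = true := by decide +kernel
theorem fact226 : factsK nets ivx R 10 63000 (2 ^ 16) nd T DT patL 9043 s226 = true := by decide +kernel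
theorem fact227 : factsK nets ivx R 10 63000 (2 ^ 16) nd T DT patL 9083 s227 = true := by decide +kernel
theorem fact228 : factsK nets ivx R 10 63000 (2 ^ 16) nd T DT patL 9123 s228 = true := by decide +kernel
theorem fact229 : factsK nets ivx R 10 63000 (2 ^ 16) nd T DT patL 9163 s229 = true := by decide +kernel
theorem fact230 : factsK nets ivx R 10 63000 (2 ^ 16) nd T DT patL 9203 s230 = true := by decide +kernel
theorem fact231 : factsK nets ivx R 10 63000 (2 ^ 16) nd T DT patL 9243 s231 = true := by decide +kernel
theorem fact232 : factsK nets ivx R 10 63000 (2 ^ 16) nd T DT patL 9283 s232 = true := by decide +kernel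
theorem fact233 : factsK nets ivx R 10 63000 (2 ^ 16) nd T DT patL 9323 s233 = true := by decide +kernel
theorem fact234 : factsK nets ivx R 10 63000 (2 ^ 16) nd T DT patL 9363 s234 = true := by decide +kernel
theorem fact235 : factsK nets ivx R 10 63000 (2 ^ 16) nd T DT patL 9403 s235 = true := by decide +kernel
theorem fact236 : factsK nets ivx R 10 63000 (2 ^ 16) nd T DT patL 9443 s236 = true := by decide +kernel
theorem fact237 : factsK nets ivx R 10 63000 (2 ^ 16) nd T DT patL 9483 s237 = true := by decide +kernel
theorem fact238 : factsK nets ivx R 10 63000 (2 ^ 16) nd T DT patL 9523 s238 = true := by decide +kernel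
theorem fact239 : factsK nets ivx R 10 63000 (2 ^ 16) nd T DT patL 9563 s239 = true := by decide +kernel

end Cfsg.Agent.Lib.HNLAF3
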