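import Cfsg.Agent.Lib.HNLAB

set_option autoImplicit false
set_option linter.all false
set_option maxRecDepth 100000
set_option Elab.async false

namespace Cfsg.Agent.Lib.HNLAF4
open Cfsg.Spor Cfsg.Agent.Lib.BenesPerm Cfsg.Agent.Lib.BenesAct Cfsg.Agent.Lib.BenesWord
open Cfsg.Agent.Lib.BenesPlane Cfsg.Agent.Lib.CosetClosure Cfsg.Agent.Lib.CosetFacts
open Cfsg.Agent.Lib.CosetMain Cfsg.Agent.Lib.CoxBridge Cfsg.Agent.Lib.CosetGroup Cfsg.Agent.Lib.CosetInst Cfsg.Agent.Lib.CosetInj
open Cfsg.Agent.Lib.BenesPack Cfsg.Agent.Lib.CosetPack Cfsg.Agent.Lib.CosetChain Cfsg.Agent.Lib.CosetWide Cfsg.Agent.Lib.CosetWide2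
open Cfsg.Agent.Lib.HNLRel Cfsg.Agent.Lib.HNLAN0 Cfsg.Agent.Lib.HNLAR0 Cfsg.Agent.Lib.HNLAD Cfsg.Agent.Lib.HNLAB

theorem fact240 : factsK nets ivx R 10 63000 (2 ^ 16) nd T DT patL 9603 s240 = true := by decide +kernel
theorem fact241 : factsK nets ivx R 10 63000 (2 ^ 16) nd T DT patL 9643 s241 = true := by decide +kernel
theorem fact242 : factsK nets ivx R 10 63000 (2 ^ 16) nd T DT patL 9683 s242 = true := by decide +kernel
theorem fact243 : factsK nets ivx R 10 63000 (2 ^ 16) nd T DT patL 9723 s243 = true := by decide +kernel
theorem fact244 : factsK nets ivx R 10 63000 (2 ^ 16) nd T DT patL 9763 s244 = true := by decide +kernel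
theorem fact245 : factsK nets ivx R 10 63000 (2 ^ 16) nd T DT patL 9803 s245 = true := by decide +kernel
theorem fact246 : factsK nets ivx R 10 63000 (2 ^ 16) nd T DT patL 9843 s246 = true := by decide +kernel
theorem fact247 : factsK nets ivx R 10 63000 (2 ^ 16) nd T DT patL 9883 s247 = true := by decide +kernel
theorem fact248 : factsK nets ivx R 10 63000 (2 ^ 16) nd T DT patL 9923 s248 = true := by decide +kernel
theorem fact249 : factsK nets ivx R 10 63000 (2 ^ 16) nd T DT patL 9963 s249 = true := by decide +kernel
theorem fact250 : factsK nets ivx R 10 63000 (2 ^ 16) nd T DT patL 10003 s250 = true := by decide +kernel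
theorem fact251 : factsK nets ivx R 10 63000 (2 ^ 16) nd T DT patL 10043 s251 = true := by decide +kernel
theorem fact252 : factsK nets ivx R 10 63000 (2 ^ 16) nd T DT patL 10083 s252 = true := by decide +kernel
theorem fact253 : factsK nets ivx R 10 63000 (2 ^ 16) nd T DT patL 10123 s253 = true := by decide +kernel
theorem fact254 : factsK nets ivx R 10 63000 (2 ^ 16) nd T DT patL 10163 s254 = true := by decide +kernel
theorem fact255 : factsK nets ivx R 10 63000 (2 ^ 16) nd T DT patL 10203 s255 = true := by decide +kernel
theorem fact256 : factsK nets ivx R 10 63000 (2 ^ 16) nd T DT patL 10243 s256 = true := by decide +kernel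
theorem fact257 : factsK nets ivx R 10 63000 (2 ^ 16) nd T DT patL 10283 s257 = true := by decide +kernel
theorem fact258 : factsK nets ivx R 10 63000 (2 ^ 16) nd T DT patL 10323 s258 = true := by decide +kernel
theorem fact259 : factsK nets ivx R 10 63000 (2 ^ 16) nd T DT patL 10363 s259 = true := by decide +kernel
theorem fact260 : factsK nets ivx R 10 63000 (2 ^ 16) nd T DT patL 10403 s260 = true := by decide +kernel
theorem fact261 : factsK nets ivx R 10 63000 (2 ^ 16) nd T DT patL 10443 s261 = true := by decide +kernel
theorem fact262 : factsK nets ivx R 10 63000 (2 ^ 16) nd T DT patL 10483 s262 = true := by decide +kernel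
theorem fact263 : factsK nets ivx R 10 63000 (2 ^ 16) nd T DT patL 10523 s263 = true := by decide +kernel
theorem fact264 : factsK nets ivx R 10 63000 (2 ^ 16) nd T DT patL 10563 s264 = true := by decide +kernel
theorem fact265 : factsK nets ivx R 10 63000 (2 ^ 16) nd T DT patL 10603 s265 = true := by decide +kernel
theorem fact266 : factsK nets ivx R 10 63000 (2 ^ 16) nd T DT patL 10643 s266 = true := by decide +kernel
theorem fact267 : factsK nets ivx R 10 63000 (2 ^ 16) nd T DT patL 10683 s267 = true := by decide +kernel
theorem fact268 : factsK nets ivx R 10 63000 (2 ^ 16) nd T DT patL 10723 s268 = true := by decide +kernel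
theorem fact269 : factsK nets ivx R 10 63000 (2 ^ 16) nd T DT patL 10763 s269 = true := by decide +kernel
theorem fact270 : factsK nets ivx R 10 63000 (2 ^ 16) nd T DT patL 10803 s270 = true := by decide +kernel
theorem fact271 : factsK nets ivx R 10 63000 (2 ^ 16) nd T DT patL 10843 s271 = true := by decide +kernel
theorem fact272 : factsK nets ivx R 10 63000 (2 ^ 16) nd T DT patL 10883 s272 = true := by decide +kernel
theorem fact273 : factsK nets ivx R 10 63000 (2 ^ 16) nd T DT patL 10923 s273 = true := by decide +kernel
theorem fact274 : factsK nets ivx R 10 63000 (2 ^ 16) nd T DT patL 10963 s274 = true := by decide +kernel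
theorem fact275 : factsK nets ivx R 10 63000 (2 ^ 16) nd T DT patL 11003 s275 = true := by decide +kernel
theorem fact276 : factsK nets ivx R 10 63000 (2 ^ 16) nd T DT patL 11043 s276 = true := by decide +kernel
theorem fact277 : factsK nets ivx R 10 63000 (2 ^ 16) nd T DT patL 11083 s277 = true := by decide +kernel
theorem fact278 : factsK nets ivx R 10 63000 (2 ^ 16) nd T DT patL 11123 s278 = true := by decide +kernel
theorem fact279 : factsK nets ivx R 10 63000 (2 ^ 16) nd T DT patL 11163 s279 = true := by decide +kernel
theorem fact280 : factsK nets ivx R 10 63000 (2 ^ 16) nd T DT patL 11203 s280 = true := by decide +kernel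
theorem fact281 : factsK nets ivx R 10 63000 (2 ^ 16) nd T DT patL 11243 s281 = true := by decide +kernel
theorem fact282 : factsK nets ivx R 10 63000 (2 ^ 16) nd T DT patL 11283 s282 = true := by decide +kernel
theorem fact283 : factsK nets ivx R 10 63000 (2 ^ 16) nd T DT patL 11323 s283 = true := by decide +kernel
theorem fact284 : factsK nets ivx R 10 63000 (2 ^ 16) nd T DT patL 11363 s284 = true := by decide +kernel
theorem fact285 : factsK nets ivx R 10 63000 (2 ^ 16) nd T DT patL 11403 s285 = true := by decide +kernel
theorem fact286 : factsK nets ivx R 10 63000 (2 ^ 16) nd T DT patL 11443 s286 = true := by decide +kernel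
theorem fact287 : factsK nets ivx R 10 63000 (2 ^ 16) nd T DT patL 11483 s287 = true := by decide +kernel
theorem fact288 : factsK nets ivx R 10 63000 (2 ^ 16) nd T DT patL 11523 s288 = true := by decide +kernel
theorem fact289 : factsK nets ivx R 10 63000 (2 ^ 16) nd T DT patL 11563 s289 = true := by decide +kernel
theorem fact290 : factsK nets ivx R 10 63000 (2 ^ 16) nd T DT patL 11603 s290 = true := by decide +kernel
theorem fact291 : factsK nets ivx R 10 63000 (2 ^ 16) nd T DT patL 11643 s291 = true := by decide +kernel
theorem fact292 : factsK nets ivx R 10 63000 (2 ^ 16) nd T DT patL 11683 s292 = true := by decide +kernel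
theorem fact293 : factsK nets ivx R 10 63000 (2 ^ 16) nd T DT patL 11723 s293 = true := by decide +kernel
theorem fact294 : factsK nets ivx R 10 63000 (2 ^ 16) nd T DT patL 11763 s294 = true := by decide +kernel
theorem fact295 : factsK nets ivx R 10 63000 (2 ^ 16) nd T DT patL 11803 s295 = true := by decide +kernel
theorem fact296 : factsK nets ivx R 10 63000 (2 ^ 16) nd T DT patL 11843 s296 = true := by decide +kernel
theorem fact297 : factsK nets ivx R 10 63000 (2 ^ 16) nd T DT patL 11883 s297 = true := by decide +kernel
theorem fact298 : factsK nets ivx R 10 63000 (2 ^ 16) nd T DT patL 11923 s298 = true := by decide +kernel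
theorem fact299 : factsK nets ivx R 10 63000 (2 ^ 16) nd T DT patL 11963 s299 = true := by decide +kernel

end Cfsg.Agent.Lib.HNLAF4
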