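import Cfsg.Agent.Lib.HNLAB

set_option autoImplicit false
set_option linter.all false
set_option maxRecDepth 100000
set_option Elab.async false

namespace Cfsg.Agent.Lib.HNLAF5
open Cfsg.Spor Cfsg.Agent.Lib.BenesPerm Cfsg.Agent.Lib.BenesAct Cfsg.Agent.Lib.BenesWord
open Cfsg.Agent.Lib.BenesPlane Cfsg.Agent.Lib.CosetClosure Cfsg.Agent.Lib.CosetFacts
open Cfsg.Agent.Lib.CosetMain Cfsg.Agent.Lib.CoxBridge Cfsg.Agent.Lib.CosetGroup Cfsg.Agent.Lib.CosetInst Cfsg.Agent.Lib.CosetInj
open Cfsg.Agent.Lib.BenesPack Cfsg.Agent.Lib.CosetPack Cfsg.Agent.Lib.CosetChain Cfsg.Agent.Lib.CosetWide Cfsg.Agent.Lib.CosetWide2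
open Cfsg.Agent.Lib.HNLRel Cfsg.Agent.Lib.HNLAN0 Cfsg.Agent.Lib.HNLAR0 Cfsg.Agent.Lib.HNLAD Cfsg.Agent.Lib.HNLAB

theorem fact300 : factsK nets ivx R 10 63000 (2 ^ 16) nd T DT patL 12003 s300 = true := by decide +kernel
theorem fact301 : factsK nets ivx R 10 63000 (2 ^ 16) nd T DT patL 12043 s301 = true := by decide +kernel
theorem fact302 : factsK nets ivx R 10 63000 (2 ^ 16) nd T DT patL 12083 s302 = true := by decide +kernel
theorem fact303 : factsK nets ivx R 10 63000 (2 ^ 16) nd T DT patL 12123 s303 = true := by decide +kernel
theorem fact304 : factsK nets ivx R 10 63000 (2 ^ 16) nd T DT patL 12163 s304 = true := by decide +kernel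
theorem fact305 : factsK nets ivx R 10 63000 (2 ^ 16) nd T DT patL 12203 s305 = true := by decide +kernel
theorem fact306 : factsK nets ivx R 10 63000 (2 ^ 16) nd T DT patL 12243 s306 = true := by decide +kernel
theorem fact307 : factsK nets ivx R 10 63000 (2 ^ 16) nd T DT patL 12283 s307 = true := by decide +kernel
theorem fact308 : factsK nets ivx R 10 63000 (2 ^ 16) nd T DT patL 12323 s308 = true := by decide +kernel
theorem fact309 : factsK nets ivx R 10 63000 (2 ^ 16) nd T DT patL 12363 s309 = true := by decide +kernel
theorem fact310 : factsK nets ivx R 10 63000 (2 ^ 16) nd T DT patL 12403 s310 = true := by decide +kernel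
theorem fact311 : factsK nets ivx R 10 63000 (2 ^ 16) nd T DT patL 12443 s311 = true := by decide +kernel
theorem fact312 : factsK nets ivx R 10 63000 (2 ^ 16) nd T DT patL 12483 s312 = true := by decide +kernel
theorem fact313 : factsK nets ivx R 10 63000 (2 ^ 16) nd T DT patL 12523 s313 = true := by decide +kernel
theorem fact314 : factsK nets ivx R 10 63000 (2 ^ 16) nd T DT patL 12563 s314 = true := by decide +kernel
theorem fact315 : factsK nets ivx R 10 63000 (2 ^ 16) nd T DT patL 12603 s315 = true := by decide +kernel
theorem fact316 : factsK nets ivx R 10 63000 (2 ^ 16) nd T DT patL 12643 s316 = true := by decide +kernel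
theorem fact317 : factsK nets ivx R 10 63000 (2 ^ 16) nd T DT patL 12683 s317 = true := by decide +kernel
theorem fact318 : factsK nets ivx R 10 63000 (2 ^ 16) nd T DT patL 12723 s318 = true := by decide +kernel
theorem fact319 : factsK nets ivx R 10 63000 (2 ^ 16) nd T DT patL 12763 s319 = true := by decide +kernel
theorem fact320 : factsK nets ivx R 10 63000 (2 ^ 16) nd T DT patL 12803 s320 = true := by decide +kernel
theorem fact321 : factsK nets ivx R 10 63000 (2 ^ 16) nd T DT patL 12843 s321 = true := by decide +kernel
theorem fact322 : factsK nets ivx R 10 63000 (2 ^ 16) nd T DT patL 12883 s322 = true := by decide +kernel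
theorem fact323 : factsK nets ivx R 10 63000 (2 ^ 16) nd T DT patL 12923 s323 = true := by decide +kernel
theorem fact324 : factsK nets ivx R 10 63000 (2 ^ 16) nd T DT patL 12963 s324 = true := by decide +kernel
theorem fact325 : factsK nets ivx R 10 63000 (2 ^ 16) nd T DT patL 13003 s325 = true := by decide +kernel
theorem fact326 : factsK nets ivx R 10 63000 (2 ^ 16) nd T DT patL 13043 s326 = true := by decide +kernel
theorem fact327 : factsK nets ivx R 10 63000 (2 ^ 16) nd T DT patL 13083 s327 = true := by decide +kernel
theorem fact328 : factsK nets ivx R 10 63000 (2 ^ 16) nd T DT patL 13123 s328 = true := by decide +kernel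
theorem fact329 : factsK nets ivx R 10 63000 (2 ^ 16) nd T DT patL 13163 s329 = true := by decide +kernel
theorem fact330 : factsK nets ivx R 10 63000 (2 ^ 16) nd T DT patL 13203 s330 = true := by decide +kernel
theorem fact331 : factsK nets ivx R 10 63000 (2 ^ 16) nd T DT patL 13243 s331 = true := by decide +kernel
theorem fact332 : factsK nets ivx R 10 63000 (2 ^ 16) nd T DT patL 13283 s332 = true := by decide +kernel
theorem fact333 : factsK nets ivx R 10 63000 (2 ^ 16) nd T DT patL 13323 s333 = true := by decide +kernel
theorem fact334 : factsK nets ivx R 10 63000 (2 ^ 16) nd T DT patL 13363 s334 = true := by decide +kernel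
theorem fact335 : factsK nets ivx R 10 63000 (2 ^ 16) nd T DT patL 13403 s335 = true := by decide +kernel
theorem fact336 : factsK nets ivx R 10 63000 (2 ^ 16) nd T DT patL 13443 s336 = true := by decide +kernel
theorem fact337 : factsK nets ivx R 10 63000 (2 ^ 16) nd T DT patL 13483 s337 = true := by decide +kernel
theorem fact338 : factsK nets ivx R 10 63000 (2 ^ 16) nd T DT patL 13523 s338 = true := by decide +kernel
theorem fact339 : factsK nets ivx R 10 63000 (2 ^ 16) nd T DT patL 13563 s339 = true := by decide +kernel
theorem fact340 : factsK nets ivx R 10 63000 (2 ^ 16) nd T DT patL 13603 s340 = true := by decide +kernel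
theorem fact341 : factsK nets ivx R 10 63000 (2 ^ 16) nd T DT patL 13643 s341 = true := by decide +kernel
theorem fact342 : factsK nets ivx R 10 63000 (2 ^ 16) nd T DT patL 13683 s342 = true := by decide +kernel
theorem fact343 : factsK nets ivx R 10 63000 (2 ^ 16) nd T DT patL 13723 s343 = true := by decide +kernel
theorem fact344 : factsK nets ivx R 10 63000 (2 ^ 16) nd T DT patL 13763 s344 = true := by decide +kernel
theorem fact345 : factsK nets ivx R 10 63000 (2 ^ 16) nd T DT patL 13803 s345 = true := by decide +kernel
theorem fact346 : factsK nets ivx R 10 63000 (2 ^ 16) nd T DT patL 13843 s346 = true := by decide +kernel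
theorem fact347 : factsK nets ivx R 10 63000 (2 ^ 16) nd T DT patL 13883 s347 = true := by decide +kernel
theorem fact348 : factsK nets ivx R 10 63000 (2 ^ 16) nd T DT patL 13923 s348 = true := by decide +kernel
theorem fact349 : factsK nets ivx R 10 63000 (2 ^ 16) nd T DT patL 13963 s349 = true := by decide +kernel
theorem fact350 : factsK nets ivx R 10 63000 (2 ^ 16) nd T DT patL 14003 s350 = true := by decide +kernel
theorem fact351 : factsK nets ivx R 10 63000 (2 ^ 16) nd T DT patL 14043 s351 = true := by decide +kernel
theorem fact352 : factsK nets ivx R 10 63000 (2 ^ 16) nd T DT patL 14083 s352 = true := by decide +kernel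
theorem fact353 : factsK nets ivx R 10 63000 (2 ^ 16) nd T DT patL 14123 s353 = true := by decide +kernel
theorem fact354 : factsK nets ivx R 10 63000 (2 ^ 16) nd T DT patL 14163 s354 = true := by decide +kernel
theorem fact355 : factsK nets ivx R 10 63000 (2 ^ 16) nd T DT patL 14203 s355 = true := by decide +kernel
theorem fact356 : factsK nets ivx R 10 63000 (2 ^ 16) nd T DT patL 14243 s356 = true := by decide +kernel
theorem fact357 : factsK nets ivx R 10 63000 (2 ^ 16) nd T DT patL 14283 s357 = true := by decide +kernel
theorem fact358 : factsK nets ivx R 10 63000 (2 ^ 16) nd T DT patL 14323 s358 = true := by decide +kernel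
theorem fact359 : factsK nets ivx R 10 63000 (2 ^ 16) nd T DT patL 14363 s359 = true := by decide +kernel

end Cfsg.Agent.Lib.HNLAF5
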