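import Cfsg.Agent.Lib.HNLAB

set_option autoImplicit false
set_option linter.all false
set_option maxRecDepth 100000
set_option Elab.async false

namespace Cfsg.Agent.Lib.HNLAF6
open Cfsg.Spor Cfsg.Agent.Lib.BenesPerm Cfsg.Agent.Lib.BenesAct Cfsg.Agent.Lib.BenesWord
open Cfsg.Agent.Lib.BenesPlane Cfsg.Agent.Lib.CosetClosure Cfsg.Agent.Lib.CosetFacts
open Cfsg.Agent.Lib.CosetMain Cfsg.Agent.Lib.CoxBridge Cfsg.Agent.Lib.CosetGroup Cfsg.Agent.Lib.CosetInst Cfsg.Agent.Lib.CosetInj
open Cfsg.Agent.Lib.BenesPack Cfsg.Agent.Lib.CosetPack Cfsg.Agent.Lib.CosetChain Cfsg.Agent.Lib.CosetWide Cfsg.Agent.Lib.CosetWide2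
open Cfsg.Agent.Lib.HNLRel Cfsg.Agent.Lib.HNLAN0 Cfsg.Agent.Lib.HNLAR0 Cfsg.Agent.Lib.HNLAD Cfsg.Agent.Lib.HNLAB

theorem fact360 : factsK nets ivx R 10 63000 (2 ^ 16) nd T DT patL 14403 s360 = true := by decide +kernel
theorem fact361 : factsK nets ivx R 10 63000 (2 ^ 16) nd T DT patL 14443 s361 = true := by decide +kernel
theorem fact362 : factsK nets ivx R 10 63000 (2 ^ 16) nd T DT patL 14483 s362 = true := by decide +kernel
theorem fact363 : factsK nets ivx R 10 63000 (2 ^ 16) nd T DT patL 14523 s363 = true := by decide +kernel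
theorem fact364 : factsK nets ivx R 10 63000 (2 ^ 16) nd T DT patL 14563 s364 = true := by decide +kernel
theorem fact365 : factsK nets ivx R 10 63000 (2 ^ 16) nd T DT patL 14603 s365 = true := by decide +kernel
theorem fact366 : factsK nets ivx R 10 63000 (2 ^ 16) nd T DT patL 14643 s366 = true := by decide +kernel
theorem fact367 : factsK nets ivx R 10 63000 (2 ^ 16) nd T DT patL 14683 s367 = true := by decide +kernel

end Cfsg.Agent.Lib.HNLAF6
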