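import Cfsg.Agent.Lib.HNLAS
import Cfsg.Agent.Lib.HNLAP0
import Cfsg.Agent.Lib.HNLAP1
import Cfsg.Agent.Lib.HNLAP2
import Cfsg.Agent.Lib.HNLAP3
import Cfsg.Agent.Lib.HNLAF0
import Cfsg.Agent.Lib.HNLAF1
import Cfsg.Agent.Lib.HNLAF2
import Cfsg.Agent.Lib.HNLAF3
import Cfsg.Agent.Lib.HNLAF4
import Cfsg.Agent.Lib.HNLAF5
import Cfsg.Agent.Lib.HNLAF6
import Cfsg.Agent.Lib.HNLAC0

set_option autoImplicit false
set_option linter.all false
set_option maxRecDepth 100000
set_option Elab.async false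

namespace Cfsg.Agent.Lib.HNLA
open Cfsg.Spor Cfsg.Agent.Lib.BenesPerm Cfsg.Agent.Lib.BenesAct Cfsg.Agent.Lib.BenesWord
open Cfsg.Agent.Lib.BenesPlane Cfsg.Agent.Lib.CosetClosure Cfsg.Agent.Lib.CosetFacts
open Cfsg.Agent.Lib.CosetMain Cfsg.Agent.Lib.CoxBridge Cfsg.Agent.Lib.CosetGroup Cfsg.Agent.Lib.CosetInst Cfsg.Agent.Lib.CosetInj
open Cfsg.Agent.Lib.BenesPack Cfsg.Agent.Lib.CosetPack Cfsg.Agent.Lib.CosetChain Cfsg.Agent.Lib.CosetWide Cfsg.Agent.Lib.CosetWide2
open Cfsg.Agent.Lib.HNLRel Cfsg.Agent.Lib.HNLAN0 Cfsg.Agent.Lib.HNLAR0 Cfsg.Agent.Lib.HNLAD Cfsg.Agent.Lib.HNLAB Cfsg.Agent.Lib.HNLAS Cfsg.Agent.Lib.HNLAP0 Cfsg.Agent.Lib.HNLAP1 Cfsg.Agent.Lib.HNLAP2 Cfsg.Agent.Lib.HNLAP3 Cfsg.Agent.Lib.HNLAF0 Cfsg.Agent.Lib.HNLAF1 Cfsg.Agent.Lib.HNLAF2 Cfsg.Agent.Lib.HNLAF3 Cfsg.Agent.Lib.HNLAF4 Cfsg.Agent.Lib.HNLAF5 Cfsg.Agent.Lib.HNLAF6 Cfsg.Agent.Lib.HNLAC0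

/-- further elements of the group used as letters -/
noncomputable def L0 : List (CoxPresented HNL.Gen HNL.edges HNL.extra) := xw.map (fun W => W.eval (C.x []))

theorem rel_eval (L : List (CoxPresented HNL.Gen HNL.edges HNL.extra)) : ∀ W ∈ rels, W.eval (C.x L) = 1 := by
  have h := C.rel_x L
  intro W hW
  rcases List.mem_append.mp hW with h1 | h1
  · exact h.1 W (by rw [show coxWds HNL.edges C.gen C.nn = coxW from coxW_eq]; exact h1)
  · exact h.2.1 W h1

theorem xw_lets : ∀ W ∈ xw, lets 2 W = true := by decide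

theorem x_further (j : ℕ) (hj : j < xw.length) : (xw[j]).eval (C.x L0) = C.x L0 (2 + j) := by
  have h1 : C.x L0 (2 + j) = (L0[j]?).getD 1 := C.x_ge L0 j
  rw [h1, L0, List.getElem?_map, List.getElem?_eq_getElem hj]
  exact eval_x_congr C _ _ (xw_lets _ (List.getElem_mem hj))

theorem wrel_eval : ∀ W ∈ wrels, W.eval (C.x L0) = 1 :=
  eval_of_wOK (C.x L0) x_further (rel_eval L0) c_wok

theorem x_iv0 : ∀ c, C.x L0 (ivx c) = (C.x L0 c)⁻¹ := by
  have h2 : ∀ i, i < 0 → C.x L0 i = (C.x L0 i)⁻¹ := fun i hi => mul_eq_one_iff_eq_inv.mp ((C.rel_x L0).2.2 i hi)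
  intro c
  by_cases hc : c < 10
  · interval_cases c
    · change C.x L0 2 = (C.x L0 0)⁻¹; rfl
    · change C.x L0 3 = (C.x L0 1)⁻¹; rfl
    · change C.x L0 0 = (C.x L0 2)⁻¹; exact (inv_inv _).symm
    · change C.x L0 1 = (C.x L0 3)⁻¹; exact (inv_inv _).symm
    · change C.x L0 5 = (C.x L0 4)⁻¹; rfl
    · change C.x L0 4 = (C.x L0 5)⁻¹; exact (inv_inv _).symm
    · change C.x L0 7 = (C.x L0 6)⁻¹; rfl
    · change C.x L0 6 = (C.x L0 7)⁻¹; exact (inv_inv _).symm
    · change C.x L0 9 = (C.x L0 8)⁻¹; rfl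
    · change C.x L0 8 = (C.x L0 9)⁻¹; exact (inv_inv _).symm
  · have h1 : ivx c = c := ivOf_ge _ (by simpa using hc)
    obtain ⟨d, rfl⟩ := Nat.exists_eq_add_of_le (not_lt.mp hc)
    rw [h1, show C.x L0 (10 + d) = 1 from ?_, inv_one]
    have h3 : 10 + d = C.ng + (8 + d) := by change 10 + d = 2 + (8 + d); omega
    rw [h3, C.x_ge, List.getElem?_eq_none (by simp [L0, xw])]; rfl

theorem c_pl : ∀ b, b < 16 → plK nets 16 b eqs = true := by
  intro b hb
  interval_cases b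
  · exact pl0_0
  · exact pl1_0
  · exact pl2_0
  · exact pl3_0
  · exact pl4_0
  · exact pl5_0
  · exact pl6_0
  · exact pl7_0
  · exact pl8_0
  · exact pl9_0
  · exact pl10_0
  · exact pl11_0
  · exact pl12_0
  · exact pl13_0
  · exact pl14_0
  · exact pl15_0

theorem lane_inv : ∀ c, sperm nets (ivx c) = (sperm nets c)⁻¹ :=
  lane_iv (nc := 10) c_nets rfl (fun c hc => ivOf_ge _ hc) c_pl c_inv_sub

theorem lane_wrels : ∀ W ∈ wrels, W.eval (sperm nets) = 1 := lane_rel c_nets lane_inv c_pl c_rel_sub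

theorem c_iv : ivK nets 16 ivx 10 = true := ivK_of c_nets 10 (by decide +kernel) (fun c _ => lane_inv c)

theorem wrelK : ∀ W ∈ wrels, relK nets 16 (W.flat ivx) = true :=
  fun W hW => relK_of_eval c_nets lane_inv (lane_wrels W hW)

theorem lane_defs : ∀ j (hj : j < xw.length), (xw[j]).eval (sperm nets) = sperm nets (2 + j) := by
  intro j hj
  change j < 8 at hj
  interval_cases j
  · exact (lane_inv 0).symm
  · exact (lane_inv 1).symm
  · exact (inv_mul_eq_one.mp (lane_wrels ((Wd.mul (Wd.inv (Wd.g 4)) (Wd.mul (Wd.mul (Wd.inv (Wd.g 0)) (Wd.pow (Wd.g 1) 3)) (Wd.g 0)))) (by decide))).symm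
  · exact (congrArg (·⁻¹) (inv_mul_eq_one.mp (lane_wrels ((Wd.mul (Wd.inv (Wd.g 4)) (Wd.mul (Wd.mul (Wd.inv (Wd.g 0)) (Wd.pow (Wd.g 1) 3)) (Wd.g 0)))) (by decide))).symm).trans (lane_inv 4).symm
  · exact (inv_mul_eq_one.mp (lane_wrels ((Wd.mul (Wd.inv (Wd.g 6)) (Wd.pow (Wd.g 1) 2))) (by decide))).symm
  · exact (congrArg (·⁻¹) (inv_mul_eq_one.mp (lane_wrels ((Wd.mul (Wd.inv (Wd.g 6)) (Wd.pow (Wd.g 1) 2))) (by decide))).symm).trans (lane_inv 6).symm
  · exact (inv_mul_eq_one.mp (lane_wrels ((Wd.mul (Wd.inv (Wd.g 8)) (Wd.pow (Wd.g 0) 2))) (by decide))).symm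
  · exact (congrArg (·⁻¹) (inv_mul_eq_one.mp (lane_wrels ((Wd.mul (Wd.inv (Wd.g 8)) (Wd.pow (Wd.g 0) 2))) (by decide))).symm).trans (lane_inv 8).symm

theorem lane_rels : ∀ W ∈ rels, W.eval (sperm nets) = 1 := eval_of_wBack (sperm nets) lane_defs lane_wrels c_wback

theorem phi_exists : ∃ φ : (CoxPresented HNL.Gen HNL.edges HNL.extra) →* Equiv.Perm ℕ, ∀ c, φ (C.x L0 c) = sperm nets c := by
  refine exists_phi' C (k := 16) (rels := rels) rfl c_nets lane_rels ?_ xw rfl rfl xw_lets lane_defs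
  intro i hi
  change i < 0 at hi
  have h := lane_inv i
  have e : ivx i = i := by interval_cases i <;> rfl
  rw [e] at h
  exact mul_eq_one_iff_eq_inv.mpr h

theorem c_facts : factsK nets ivx R 10 63000 (2 ^ 16) nd T DT patL 3 scr = true := (factsK_appS _ _ _ fact0 (factsK_appS _ _ _ fact1 (factsK_appS _ _ _ fact2 (factsK_appS _ _ _ fact3 (factsK_appS _ _ _ fact4 (factsK_appS _ _ _ fact5 (factsK_appS _ _ _ fact6 (factsK_appS _ _ _ fact7 (factsK_appS _ _ _ fact8 (factsK_appS _ _ _ fact9 (factsK_appS _ _ _ fact10 (factsK_appS _ _ _ fact11 (factsK_appS _ _ _ fact12 (factsK_appS _ _ _ fact13 (factsK_appS _ _ _ fact14 (factsK_appS _ _ _ fact15 (factsK_appS _ _ _ fact16 (factsK_appS _ _ _ fact17 (factsK_appS _ _ _ fact18 (factsK_appS _ _ _ fact19 (factsK_appS _ _ _ fact20 (factsK_appS _ _ _ fact21 (factsK_appS _ _ _ fact22 (factsK_appS _ _ _ fact23 (factsK_appS _ _ _ fact24 (factsK_appS _ _ _ fact25 (factsK_appS _ _ _ fact26 (factsK_appS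 _ _ _ fact27 (factsK_appS _ _ _ fact28 (factsK_appS _ _ _ fact29 (factsK_appS _ _ _ fact30 (factsK_appS _ _ _ fact31 (factsK_appS _ _ _ fact32 (factsK_appS _ _ _ fact33 (factsK_appS _ _ _ fact34 (factsK_appS _ _ _ fact35 (factsK_appS _ _ _ fact36 (factsK_appS _ _ _ fact37 (factsK_appS _ _ _ fact38 (factsK_appS _ _ _ fact39 (factsK_appS _ _ _ fact40 (factsK_appS _ _ _ fact41 (factsK_appS _ _ _ fact42 (factsK_appS _ _ _ fact43 (factsK_appS _ _ _ fact44 (factsK_appS _ _ _ fact45 (factsK_appS _ _ _ fact46 (factsK_appS _ _ _ fact47 (factsK_appS _ _ _ fact48 (factsK_appS _ _ _ fact49 (factsK_appS _ _ _ fact50 (factsK_appS _ _ _ fact51 (factsK_appS _ _ _ fact52 (factsK_appS _ _ _ fact53 (factsK_appS _ _ _ fact54 (factsK_appS _ _ _ fact55 (factsK_appS _ _ _ fact56 (factsK_appS _ _ _ fact57 (factsK_appS _ _ _ fact58 (factsK_appS _ _ _ fact59 (factsK_appS _ _ _ fact60 (factsK_appS _ _ _ fact61 (factsK_appS _ _ _ fact62 (factsK_appS _ _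 _ fact63 (factsK_appS _ _ _ fact64 (factsK_appS _ _ _ fact65 (factsK_appS _ _ _ fact66 (factsK_appS _ _ _ fact67 (factsK_appS _ _ _ fact68 (factsK_appS _ _ _ fact69 (factsK_appS _ _ _ fact70 (factsK_appS _ _ _ fact71 (factsK_appS _ _ _ fact72 (factsK_appS _ _ _ fact73 (factsK_appS _ _ _ fact74 (factsK_appS _ _ _ fact75 (factsK_appS _ _ _ fact76 (factsK_appS _ _ _ fact77 (factsK_appS _ _ _ fact78 (factsK_appS _ _ _ fact79 (factsK_appS _ _ _ fact80 (factsK_appS _ _ _ fact81 (factsK_appS _ _ _ fact82 (factsK_appS _ _ _ fact83 (factsK_appS _ _ _ fact84 (factsK_appS _ _ _ fact85 (factsK_appS _ _ _ fact86 (factsK_appS _ _ _ fact87 (factsK_appS _ _ _ fact88 (factsK_appS _ _ _ fact89 (factsK_appS _ _ _ fact90 (factsK_appS _ _ _ fact91 (factsK_appS _ _ _ fact92 (factsK_appS _ _ _ fact93 (factsK_appS _ _ _ fact94 (factsK_appS _ _ _ fact95 (factsK_appS _ _ _ fact96 (factsK_appS _ _ _ fact97 (factsK_appS _ _ _ fact98 (factsK_appS _ _ _ fact99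 (factsK_appS _ _ _ fact100 (factsK_appS _ _ _ fact101 (factsK_appS _ _ _ fact102 (factsK_appS _ _ _ fact103 (factsK_appS _ _ _ fact104 (factsK_appS _ _ _ fact105 (factsK_appS _ _ _ fact106 (factsK_appS _ _ _ fact107 (factsK_appS _ _ _ fact108 (factsK_appS _ _ _ fact109 (factsK_appS _ _ _ fact110 (factsK_appS _ _ _ fact111 (factsK_appS _ _ _ fact112 (factsK_appS _ _ _ fact113 (factsK_appS _ _ _ fact114 (factsK_appS _ _ _ fact115 (factsK_appS _ _ _ fact116 (factsK_appS _ _ _ fact117 (factsK_appS _ _ _ fact118 (factsK_appS _ _ _ fact119 (factsK_appS _ _ _ fact120 (factsK_appS _ _ _ fact121 (factsK_appS _ _ _ fact122 (factsK_appS _ _ _ fact123 (factsK_appS _ _ _ fact124 (factsK_appS _ _ _ fact125 (factsK_appS _ _ _ fact126 (factsK_appS _ _ _ fact127 (factsK_appS _ _ _ fact128 (factsK_appS _ _ _ fact129 (factsK_appS _ _ _ fact130 (factsK_appS _ _ _ fact131 (factsK_appS _ _ _ fact132 (factsK_appS _ _ _ fact133 (factsK_appS _ _ _ fact134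 (factsK_appS _ _ _ fact135 (factsK_appS _ _ _ fact136 (factsK_appS _ _ _ fact137 (factsK_appS _ _ _ fact138 (factsK_appS _ _ _ fact139 (factsK_appS _ _ _ fact140 (factsK_appS _ _ _ fact141 (factsK_appS _ _ _ fact142 (factsK_appS _ _ _ fact143 (factsK_appS _ _ _ fact144 (factsK_appS _ _ _ fact145 (factsK_appS _ _ _ fact146 (factsK_appS _ _ _ fact147 (factsK_appS _ _ _ fact148 (factsK_appS _ _ _ fact149 (factsK_appS _ _ _ fact150 (factsK_appS _ _ _ fact151 (factsK_appS _ _ _ fact152 (factsK_appS _ _ _ fact153 (factsK_appS _ _ _ fact154 (factsK_appS _ _ _ fact155 (factsK_appS _ _ _ fact156 (factsK_appS _ _ _ fact157 (factsK_appS _ _ _ fact158 (factsK_appS _ _ _ fact159 (factsK_appS _ _ _ fact160 (factsK_appS _ _ _ fact161 (factsK_appS _ _ _ fact162 (factsK_appS _ _ _ fact163 (factsK_appS _ _ _ fact164 (factsK_appS _ _ _ fact165 (factsK_appS _ _ _ fact166 (factsK_appS _ _ _ fact167 (factsK_appS _ _ _ fact168 (factsK_appS _ _ _ fact169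 (factsK_appS _ _ _ fact170 (factsK_appS _ _ _ fact171 (factsK_appS _ _ _ fact172 (factsK_appS _ _ _ fact173 (factsK_appS _ _ _ fact174 (factsK_appS _ _ _ fact175 (factsK_appS _ _ _ fact176 (factsK_appS _ _ _ fact177 (factsK_appS _ _ _ fact178 (factsK_appS _ _ _ fact179 (factsK_appS _ _ _ fact180 (factsK_appS _ _ _ fact181 (factsK_appS _ _ _ fact182 (factsK_appS _ _ _ fact183 (factsK_appS _ _ _ fact184 (factsK_appS _ _ _ fact185 (factsK_appS _ _ _ fact186 (factsK_appS _ _ _ fact187 (factsK_appS _ _ _ fact188 (factsK_appS _ _ _ fact189 (factsK_appS _ _ _ fact190 (factsK_appS _ _ _ fact191 (factsK_appS _ _ _ fact192 (factsK_appS _ _ _ fact193 (factsK_appS _ _ _ fact194 (factsK_appS _ _ _ fact195 (factsK_appS _ _ _ fact196 (factsK_appS _ _ _ fact197 (factsK_appS _ _ _ fact198 (factsK_appS _ _ _ fact199 (factsK_appS _ _ _ fact200 (factsK_appS _ _ _ fact201 (factsK_appS _ _ _ fact202 (factsK_appS _ _ _ fact203 (factsK_appS _ _ _ fact204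 (factsK_appS _ _ _ fact205 (factsK_appS _ _ _ fact206 (factsK_appS _ _ _ fact207 (factsK_appS _ _ _ fact208 (factsK_appS _ _ _ fact209 (factsK_appS _ _ _ fact210 (factsK_appS _ _ _ fact211 (factsK_appS _ _ _ fact212 (factsK_appS _ _ _ fact213 (factsK_appS _ _ _ fact214 (factsK_appS _ _ _ fact215 (factsK_appS _ _ _ fact216 (factsK_appS _ _ _ fact217 (factsK_appS _ _ _ fact218 (factsK_appS _ _ _ fact219 (factsK_appS _ _ _ fact220 (factsK_appS _ _ _ fact221 (factsK_appS _ _ _ fact222 (factsK_appS _ _ _ fact223 (factsK_appS _ _ _ fact224 (factsK_appS _ _ _ fact225 (factsK_appS _ _ _ fact226 (factsK_appS _ _ _ fact227 (factsK_appS _ _ _ fact228 (factsK_appS _ _ _ fact229 (factsK_appS _ _ _ fact230 (factsK_appS _ _ _ fact231 (factsK_appS _ _ _ fact232 (factsK_appS _ _ _ fact233 (factsK_appS _ _ _ fact234 (factsK_appS _ _ _ fact235 (factsK_appS _ _ _ fact236 (factsK_appS _ _ _ fact237 (factsK_appS _ _ _ fact238 (factsK_appS _ _ _ fact239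 (factsK_appS _ _ _ fact240 (factsK_appS _ _ _ fact241 (factsK_appS _ _ _ fact242 (factsK_appS _ _ _ fact243 (factsK_appS _ _ _ fact244 (factsK_appS _ _ _ fact245 (factsK_appS _ _ _ fact246 (factsK_appS _ _ _ fact247 (factsK_appS _ _ _ fact248 (factsK_appS _ _ _ fact249 (factsK_appS _ _ _ fact250 (factsK_appS _ _ _ fact251 (factsK_appS _ _ _ fact252 (factsK_appS _ _ _ fact253 (factsK_appS _ _ _ fact254 (factsK_appS _ _ _ fact255 (factsK_appS _ _ _ fact256 (factsK_appS _ _ _ fact257 (factsK_appS _ _ _ fact258 (factsK_appS _ _ _ fact259 (factsK_appS _ _ _ fact260 (factsK_appS _ _ _ fact261 (factsK_appS _ _ _ fact262 (factsK_appS _ _ _ fact263 (factsK_appS _ _ _ fact264 (factsK_appS _ _ _ fact265 (factsK_appS _ _ _ fact266 (factsK_appS _ _ _ fact267 (factsK_appS _ _ _ fact268 (factsK_appS _ _ _ fact269 (factsK_appS _ _ _ fact270 (factsK_appS _ _ _ fact271 (factsK_appS _ _ _ fact272 (factsK_appS _ _ _ fact273 (factsK_appS _ _ _ fact274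 (factsK_appS _ _ _ fact275 (factsK_appS _ _ _ fact276 (factsK_appS _ _ _ fact277 (factsK_appS _ _ _ fact278 (factsK_appS _ _ _ fact279 (factsK_appS _ _ _ fact280 (factsK_appS _ _ _ fact281 (factsK_appS _ _ _ fact282 (factsK_appS _ _ _ fact283 (factsK_appS _ _ _ fact284 (factsK_appS _ _ _ fact285 (factsK_appS _ _ _ fact286 (factsK_appS _ _ _ fact287 (factsK_appS _ _ _ fact288 (factsK_appS _ _ _ fact289 (factsK_appS _ _ _ fact290 (factsK_appS _ _ _ fact291 (factsK_appS _ _ _ fact292 (factsK_appS _ _ _ fact293 (factsK_appS _ _ _ fact294 (factsK_appS _ _ _ fact295 (factsK_appS _ _ _ fact296 (factsK_appS _ _ _ fact297 (factsK_appS _ _ _ fact298 (factsK_appS _ _ _ fact299 (factsK_appS _ _ _ fact300 (factsK_appS _ _ _ fact301 (factsK_appS _ _ _ fact302 (factsK_appS _ _ _ fact303 (factsK_appS _ _ _ fact304 (factsK_appS _ _ _ fact305 (factsK_appS _ _ _ fact306 (factsK_appS _ _ _ fact307 (factsK_appS _ _ _ fact308 (factsK_appS _ _ _ fact309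 (factsK_appS _ _ _ fact310 (factsK_appS _ _ _ fact311 (factsK_appS _ _ _ fact312 (factsK_appS _ _ _ fact313 (factsK_appS _ _ _ fact314 (factsK_appS _ _ _ fact315 (factsK_appS _ _ _ fact316 (factsK_appS _ _ _ fact317 (factsK_appS _ _ _ fact318 (factsK_appS _ _ _ fact319 (factsK_appS _ _ _ fact320 (factsK_appS _ _ _ fact321 (factsK_appS _ _ _ fact322 (factsK_appS _ _ _ fact323 (factsK_appS _ _ _ fact324 (factsK_appS _ _ _ fact325 (factsK_appS _ _ _ fact326 (factsK_appS _ _ _ fact327 (factsK_appS _ _ _ fact328 (factsK_appS _ _ _ fact329 (factsK_appS _ _ _ fact330 (factsK_appS _ _ _ fact331 (factsK_appS _ _ _ fact332 (factsK_appS _ _ _ fact333 (factsK_appS _ _ _ fact334 (factsK_appS _ _ _ fact335 (factsK_appS _ _ _ fact336 (factsK_appS _ _ _ fact337 (factsK_appS _ _ _ fact338 (factsK_appS _ _ _ fact339 (factsK_appS _ _ _ fact340 (factsK_appS _ _ _ fact341 (factsK_appS _ _ _ fact342 (factsK_appS _ _ _ fact343 (factsK_appS _ _ _ fact344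 (factsK_appS _ _ _ fact345 (factsK_appS _ _ _ fact346 (factsK_appS _ _ _ fact347 (factsK_appS _ _ _ fact348 (factsK_appS _ _ _ fact349 (factsK_appS _ _ _ fact350 (factsK_appS _ _ _ fact351 (factsK_appS _ _ _ fact352 (factsK_appS _ _ _ fact353 (factsK_appS _ _ _ fact354 (factsK_appS _ _ _ fact355 (factsK_appS _ _ _ fact356 (factsK_appS _ _ _ fact357 (factsK_appS _ _ _ fact358 (factsK_appS _ _ _ fact359 (factsK_appS _ _ _ fact360 (factsK_appS _ _ _ fact361 (factsK_appS _ _ _ fact362 (factsK_appS _ _ _ fact363 (factsK_appS _ _ _ fact364 (factsK_appS _ _ _ fact365 (factsK_appS _ _ _ fact366 fact367)))))))))))))))))))))))))))))))))))))))))))))))))))))))))))))))))))))))))))))))))))))))))))))))))))))))))))))))))))))))))))))))))))))))))))))))))))))))))))))))))))))))))))))))))))))))))))))))))))))))))))))))))))))))))))))))))))))))))))))))))))))))))))))))))))))))))))))))))))))))))))))))))))))))))))))))))))))))))))))))))))))))))))))))))))))))))))))))))))))))))))))))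

/-- all covered masks -/
noncomputable def ms : Net := (appN cl0 (exM E D))

theorem c_cover : coverK nets ivx 63000 ms 10 = true := by decide +kernel

theorem map_exists (H : Subgroup (CoxPresented HNL.Gen HNL.edges HNL.extra)) (hH : H = Subgroup.closure (wset (C.x L0) WS)) :
    ∃ f : ℕ → (CoxPresented HNL.Gen HNL.edges HNL.extra) ⧸ H, f 0 = ((1 : (CoxPresented HNL.Gen HNL.edges HNL.extra)) : (CoxPresented HNL.Gen HNL.edges HNL.extra) ⧸ H) ∧
      ∀ c i, c < 10 → i < 63000 → C.x L0 c • f i = f (sig nets c i) := by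
  refine exists_map_masks (k := 16) (P := 8) (D := D) (R := R) (pats := pats) (scr := scr) (E := E) (T := T) (DT := DT)
    (nd := nd) (g := 3) c_nets (by norm_num) c_iv c_full c_len c_sym x_iv0 ?_ c_disj c_tree c_treelet ?_ c_dtab ?_ c_facts c_ex
    ms ?_ c_cover
  · rfl
  · intro W hW
    rcases List.mem_append.mp hW with h | h
    · simp only [wtriv, List.mem_cons, List.not_mem_nil, or_false] at h
      have h3 : ∀ c, C.x L0 c * C.x L0 (ivx c) = 1 := fun c => by rw [x_iv0, mul_inv_cancel]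
      rcases h with rfl | rfl | rfl | rfl <;> exact h3 _
    · rcases List.mem_append.mp h with h | h
      · exact rel_eval L0 W h
      · rcases List.mem_append.mp h with h | h
        · obtain ⟨V, hV, rfl⟩ := List.mem_map.mp h
          simp only [Wd.eval, rel_eval L0 V hV, inv_one]
        · obtain ⟨V, hV, rfl⟩ := List.mem_map.mp h
          have hs : ∀ V ∈ hdefs, V ∈ wrels := by decide
          simp only [Wd.eval, wrel_eval V (hs V hV), inv_one]
  · intro j hj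
    have h1 : ∀ j, j < 3 → eSrc (T.get j) = 0 ∧ eDst (T.get j) = 0 ∧ eLet (T.get j) = nthK 0 [4, 6, 8] j := by
      decide +kernel
    obtain ⟨h2, h3, h4⟩ := h1 j hj
    refine ⟨h2, h3, ?_⟩
    rw [h4]
    apply smul_one_coset
    rw [hH]
    interval_cases j
    · exact mem_wset (x := C.x L0) (W := (Wd.g 4)) (by simp [WS])
    · exact mem_wset (x := C.x L0) (W := (Wd.g 6)) (by simp [WS])
    · exact mem_wset (x := C.x L0) (W := (Wd.g 8)) (by simp [WS])
  · intro f h0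
    have key : ∀ (simd : List (Wd × ℕ)), (∀ q ∈ simd, q.1 ∈ wrels) → simdLetK ivx 10 simd = true → ∀ cl : Net,
        relsMK nets ivx R 8 (simd.map (splitW ivx)) Net.nil (claimK cl) = true → AllM (CovMask (C.x L0) f nets R 10 63000) cl :=
      fun simd hm hl cl hc => claim_cov c_nets c_iv c_full c_len x_iv0 (fun q hq => wrelK _ (hm q hq))
        (fun q hq => wrel_eval _ (hm q hq)) hl cl hc
    exact (allM_appN (key simd0 smem0 slet0 cl0 cov0) h0)


end Cfsg.Agent.Lib.HNLA
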