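import Cfsg.Agent.Lib.CosetFacts

set_option autoImplicit false
set_option linter.all false
set_option maxRecDepth 100000

namespace Cfsg.Agent.Lib.HNLAD
open Cfsg.Agent.Lib.BenesPerm Cfsg.Agent.Lib.CosetFacts

noncomputable def d0 : Nat := (Nat.lor (Nat.lor (Nat.lor (Nat.lor (nat_lit 0x8a184a620a2910662452c2b02a40a0206620c8615882c4145880b0a10408aa2c642880a15914065461442e2061588554588a4a4215882aac4b2445105188c6c4228b22115458b0592206710545156458a959191616988b48830a80558b244162852211b108ab13120a342a161e21c0312c6c45a085620a9625202c414c0cd9014356820a2e2c4c164882c7105164b12562c5622d220613104b82c220b160a446362221615a0b45898882c710522c2c416422ac45a5085621560b488a20a220cd880a2c8845516262d220b1c418a4910591589522061311625924162c452211b108ab138828e032161620b2114b1682c05154589642d22b2114c5588b0882880528c0585621c052ac4c5685a0a6b12c11058b208587416028b8b1310b4882b108a62ac4588a28110b0ac416051ac462a42d2206114d622c48858b416134160a151625885a454422915622c82a82850ac4145156228ad0b414588b122162d220c7108a2c285a44145589c924416388290618828ab1164418e211458560b48828a274882c71052161589105156218818c4228b0a169414586220b220a20c311455885622d2210ac41455588b1222c4145622d220c2b1145588b1220ab1051625a442158866b158911620a0b0ad05900a2a8b10b0ac828828ab0588a15a0b1042a8b18818ac422c4162c418a2062c4225885a2c4591622d058451450c489115540e2)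 (Nat.shiftLeft (nat_lit 0x8844409a288aa2c03244471051162085511429401154513116a20cac4055896090b16a854162890160a413100ac44b0ad0580a2a8b12c42c8938224dc500a082a0029a8c5621682061588cd65062d50d011092d2c459031031b40a5081a0822c290a15a1622591588b488c2c425b05891058b292280b090b44144b3a4471054c30502a82c58b2ac4222a8ad01442c2b201951648a8a2c8c5414591459231150562b1294146231b1022238824186208aa4585305565621b1082904ab12c945501a2858a914562510965685051458990b91056242556045856800a2502b16840c2e4a6b0b10316ac45a098aa1552c488620414b4a25589691186225b1488b07108d90161540d24144d488e20a684c8a20aa85156249105988621188a2f114162058410aa589642e262c111620a0ab208858ad10142b12722c910ce20a8a9230c6b20510940c62110b0ac1694aeca416424187105895908b0a161022a8a32165050a159308aa42b10b4030a82af0e620c20ce422d0b4a0a2c49886623116228ab11415a0a1042d63d12422c55916202c828815c862161580580a2ac422188958c482d052206388451615a1d2821c641f1048585620a4132028c1610a28b15885c8842b109640c5050b0ac42c05156231442c4182c4115458920c70111082d2821589105e44421114a6228a54508214ac4b2172d16088b105102808582c82c051481)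 (nat_lit 4096))) (Nat.shiftLeft (Nat.lor (nat_lit 0xab112ce122a4422b105dc4b240b1026418d88861500d4b3200b81e4b2e910935899116148818d909485506900a70c08290ac0c4245c4ada2163349102289144144d05080aac522a55422e34588ac40589648182b181454819c4228b103482b8c882e228858b105906482292ab11542b08a2ac458d081106181156015a04c4556115441496211221142c750190212c458ac4a82186a2911620ca51229388270500588b10c5940c2c28b12f4882c90a2420bc485881420a22c528b0108c62685416b4589062c8b142b440c8863a20b0a86c85da882cc42442245562289702a28525281145968c8a4422b1358591404611b1042c2d48028b4c94416c48a91084d4b17310a408642241682d20896220da185a06424419c422b50244bd44b20a4314515515624242324418c4228a13a0ae34431161882b0434508c2ab10b528aa12a2ac0a309106180a551110d1410b272ac4891588b280a2442c5620a22b058a50c522c4033912c4c95882a1562b12468531636202c890906180c5d02992022ac51623c5155c94482c40053a188585080a5440c48a222d042430ad2295102682c115458588b48816210914804105f105732b41a030a8853221ad289692b216254a2096228293428259158969104128b04450d2062c8452a03512a4a00ac10c24154e8282553892e42202a4580a2305890a2160a2a0a2c4b1220a2c828a2288a0ab15)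 (Nat.shiftLeft (nat_lit 0xa15016d0a0945588b486912b10420a2a20c62e106984224907140c5055150550e080b4419090509c4b61028510882c862a1544158b08212c548551255488c91051228ad228920a1842a50880b4081469181454115458d7111648a11624358588150b10856822a1168502168b08489508a44088b1463524b45a2c4b248a801a04538631161685050a96344b5812ac4814247049642d060a02b4d018d38b4110c6c0b26824552c8b244e8182e795a2d096c660516654231171510580a488288599c8863883114a25965626841851161220ab10a49161c84e22952c2808cd0882954515893c91059114486117110b02c20a23502c42895a1682f8b2045a34215ab8841645103102c189905a410b414ad52c8c12a852b26c4542ac288b0da329c9455d095654558e84212c640c3694215884a72406831063901424b208d4b4dc8a25b35b1002132024881b422a82d2228ab0c596084443311146508ac4760988444c451645589a89c44b310a2920c62221662e32510542c312c104859115062a485509514888a0528486a9e17186c489407915cc2240218c823871f222388eb11633b116310962c4158148178b885310522c388b1045621908714592f49032429122cb45086162d88b01658c85850c022b258a829ac56240e2c45152116cb124588ca0624205856151065da882d80a861620b2491508442c4598ab10aa4656940c2)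 (nat_lit 4096))) (nat_lit 8192))) (Nat.shiftLeft (Nat.lor (Nat.lor (nat_lit 0xa480b2632d31a514588b11869102324620a13060a262e2c0d0b0512e56020580104028ac415885a0220aa5642c442ac82b408854709351492c904661faa410894244506c162d08291102a420c484513295c545853450560c015c51452a08858b108a0319050ca4874161e1056212ac062050b2445626142c05c414632410c14a5602c459000110c3e202c4c62520a44588a85418872130c12b1310b0c710e25814d2ca0d4290158b12149123ac16015d0c4ae24310518c41511542c6b8ab1169108898ab0c4020b0ac420d5922c2c4185484510a88265a2920c6255250659432124121541684412b1042a1384a5850d202358820324310cc4caa422d2c2085122e086a110210a2ab4250308188245863291482163213202c2a82c21154534b4890a88a41110741ac2a041a80ae14384580454884d1608102a02b0b1098b128a627284488a8ad44920891648a494145901a11c414422085b883124cb688905896988c2b03008aa2c4b11636114ab120284285441452a788d2061620cd60cc550950a48328494105516164882cc4282491c52b0b412a512216b480a2508592414482288c41202a50a58322b1050416b428d317885e21520c62426042d04e20c2458149214b24c042d181ac461b01ac4258b060d982b116412200850ac8504c4b15a2b20166ad6d44a956258a858a952a56d08811a275888390a85b0580d641a540)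 (Nat.shiftLeft (nat_lit 0xa42212c202c58083a5097906056a408111190caac55e2b250423155a0b621420a42862190008a228e841988a0d4103506118e2d16051055950c08944591160155084564522225a1581131292164331014422991204bb65c261215881e3025e9f8c5088569659425300c061f213151851714a01234b58564b285858271491614664a0b10a86a2b1214238a456d1118513342c4ce8825ad31292b4b90488923b8273ac501105939139808b208c5cb024c5e1894a2c8968a552220b0a1522228f11d31559157350282a36708d38ae550701a0d1286423103805643222908e016a4414542ab1c422c4524b9480a0c48034c480d256164a0612196025468584912d0a1310284682805541462180b11151c850c200d615582909c01736200580a4300a1a28b1248a29904aa2331521ab0818458582c0a53062cb05888210680c625648b544431960b0105344259642c10c304c51280a21ac4188e2928346389ca0a210088505905116228ad152c4057312a23055894652c432d1892116245588190a5516024916622808986218c61505ad64d618800a48a2a69015b222962230b46244589220c61050926d482e09622d00c65832024ad1924493321844142820844c2a213821690517310323291428a858016b14a2905a511320840546a0141011549a5a50eb882c6a42d43220ac84516c4b0485048c8a8a8b1621432c589852ac5a20)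 (nat_lit 4096))) (Nat.shiftLeft (Nat.lor (nat_lit 0x949063608ad08b08ea2b2286e4112544c838906450a1214c8312b4224c0048a29471543861481a564228462a77143439b08e5b41314164a90b24b46412a92a449630c91516307052ab2ae8308786232282d645a013c9062c49105531562388c4a921620d3902a20a4286128bfa0658888c416710cb5a5c6c2c066c416c2852194488b096174178428054515064887145ac80218a0620e696248a29482f94510a2188884d5080b05480458b5c312840259ac74e9210e21483a90ce80ce029661d245c297f98bd2c2454490c292a150a80c59c8e1920ab294834c85a10aa4642a1908b0a708d9910702311e10097170e28554b22c8a9128a5910a3462c2ce2d211141109355104535899110e202934481209a244446247a1a258117588b80143c92a2b3401941ad88a911311ca189116201480858969aa29cf166b04611152276d125ad1069383d65f8a218a285c82ca593c05e8360bd8c4291a542c152148a18a525110914c94823712125685886a51148b014ab1198a68990808582a6298233156214901428b4889304ab56410c42b208e418968b26802d9390c6564871623420062212d0d214598106460929d01c05414955296389140c850a180c3310d2cd189117109e5322188823c540c54855095c89165630192496248d8302a0e20a2ac15342888b162a2c86700d2914d61155415a622b02aa2d3616ab52d3200a1ad1)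 (Nat.shiftLeft (nat_lit 0x4a72005088221744990751a4d0162251162161100a31300690a11c8628aa24808334ab19952198408a368248110a28c824148926204941480612ba629821185108c48ad582a0c82fa282880b429c9a08318901884b15a168b24aa2ce150184090c4e21621082931154aa880458281a0649105a0a21084025123028a01960ca390600f8088aa0a2e0452803502c06440489989580196211581481868a228a200a32511572a5a42f4a9044c56e1e252b892551628b819c853192604565a2d1558885a205608a1809c80510aa794988b4f591c5488a2cb1828e249b46144da5056119443102c33164a2914051ac3942e27415aea2a4b448c10852a8590652a58421aa1062352d032ac72201945241656540622c58490a0114a2c52744c4d889502c56065229245264452c48c94453c40ec943ce9a1051a8a40428451551164c0282aa25300aa19544e31c584310b2204863083c7535915c54589039021841064a1947222864a2070a858c894b40ca21061e20b4c4654d543244b0a230460134982a304167c8d25418935299a451a2b2a2b22c002950cb10a8e210045556090a590a8c5458c6105608ae0d022a843082e5808a22852053625088aa98b06acc55217045988114443a50aa1391d044c445c482c150b2c8345958c56e27821885050122c4e453914a0a2c1c073711a8e2a88b206267b08c42aa732210dc4c854e165c5f)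 (nat_lit 4096))) (nat_lit 8192))) (nat_lit 16384))) (Nat.shiftLeft (Nat.lor (Nat.lor (Nat.lor (nat_lit 0xc2a89098a82a081200a70a02d620b132205c0211480e62018504522d194688520b4522b129269051610c6922c51294524cb880594819753084c8e24035820b1501085c04158a26111544c8b10ce205a44c4194c0600b20a9207100c3647298c662084a44328424b0156a2a695ad256130918c970b26d2a8b1131095b26034a48a45110d2e1210ce24ac6d0250a68281b228a9883e2a2a454248b230202c8084d0a04c8c700244a81a84c330480219010c716442065582a65304016c6a411628a88ca911280049609622d110652c4a58e451020a940848b248302ac1455454621560a814a08a4c0a60145a84cb302167330d445178b0d229625408920910893450c4422d16022a508c890945a044130d088a682a16308c54a1650b4a10244888c5e2e1c0b04610da0240922c6269121418991512489684a87196a828c24c414408c50a19528467ac04630224ad090c0b262290501293110a2044042d48382eb258c47c6420a55c428850a0a53032449112a100a9c86e01a5858a3a14011542c8088bb2d1110924694448b310808c91c6430caa48ac55c114452242438849040c92d1540a4212c815406784444570790914242118856051e00a55698722590964b1585a912e25a2d13b8c6b10d244552a34845806910848b04214230032d100a50a418b1192d4448a02a52ca3105390535120480630a3181092a0150f0a80c2653)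 (Nat.shiftLeft (nat_lit 0x47291321142561b108086c90c1a82d2844162a8aa8c8a4246a89ca890aa30e8b06484826149087b0a3229246912a0da2622827488a94d903212540280044711b6191988aa08e1c17142d27208a6842044214294a590815124e00b242145a64c9d2c9202140610c108594632b5acb22956c48a204e9964d6498d94114145011119ccb465818525c0309125c084a2249d016ae939a32491100a2c8d14a6a5480a1628aca017c315664e009129109251a6c061406254530e141648049112adc402290a871224511180a6862a248905a3c551c9122122a2224599632192062a6534511605ea91693d210299850b135aac5086c8b4460a4912b04f498448909472294c023aa8518110dac150e42412c4ae8432b028d03a5104028118d6205050166028a20a9191b10682c421cc38cae4105c1a208a80332124082a254010565004300a1a8842b1822560a4e70438934580353388c18a01ada05c8890a931aa1491128a194cca5a901534150e22d2225627e82d0410e50d028aa5144f08552c82d42a41424083ccb0a31a0c1714221ce188e68502550a5a039206564032c84a544d4392c9211296288c6814219918e4288814b46560b21ce4488045010a7a21a2028e146440207033882c54130182c11321a0668408d0231592149c51e2b0860a50b9172615c11102a28d29892406932d2432c3213a10c5a1035a45eb90c4049a5c950)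 (nat_lit 4096))) (Nat.shiftLeft (Nat.lor (nat_lit 0x81698b0cc0e041a412b8929116319094127921a2619237a88f88289f24a0450d80105401c1c883843620125a916542b350aa696239162341943409156525104c42a74461878a3c0ca8987a0e130c4d20a12da684218486481289ea12289989790a00142090a311e0e294c88a551030811454e83f224d62d5962529b1849128596a49248cc081c2914492c160064ba86e9165071ac826092841338aea915580c4a02c421451850952d00901a48d22012e28a4b014b48112a50d162c2c31155a18c7b2158719bc21214542843354ca6214622d2a2a82605196b222490b4c6596823815c16888183142d0c6428252249822b4082549208a289c162031602606149344188c4b440080a8740ab16b6901554c4c8aa0c9349a31092b496248d1a88d120b379ab0c2c50d15b6845525aa5ab29203895880526280924092a60a61028aa288bf5614414a4c992aa08b11cc51853c61644604e061421b91c01a8c16141526a106a0828a81a544173288552954a88732885394b02858840aa05c4ac9484616a840548a4468039425245a60960baa4ac314a256015699946190b4b284ae4f124d15aaa058252ad54a344c4c5351a2e0c26650002a360c81ca11506606c8c6d45153112b5901a645a86a546cb08ea820dc6831102912134e0a48a2946404330c19028420e4c6161c20445028a146148aa05c4a42958c4063088136960408160a)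 (Nat.shiftLeft (nat_lit 0x15a1b3040b24b339cb06c0994c41281788ac6548c205c88000a864424a222928542b2809482d504268c2a52096245822102b204102a4892a2b010804e7250a60848b291270b542b1314c0a4a0411418b0c490a969184981748aacc0cc8a9685b845450955566648c62586942534d119100c00ac91c0051886e240c82a2965446166a46d150a125a163174da54003b44862aa7a10913215250886131420130464d8396a2594a2ae28028109a9908a0c828d3441100401201657121058029b422b28002a2244d700214a750e03718508084804e814f22c3240988a0d051510ca5098b52043124c551cc26808625a5250a402065a08802334f3a01344a64c100108e85941b1c959162aa9045c09d9221d0c1082042493040f08da27421642636392ca852c1428be01d308c6c0a623104a5410d4c8306c23aa023590e0546e6b6a8a3556930c1114448390d005240ee94912b8c01522ca588059803d6090d2532214a058096a8853802524552122288c32266b8226a808a1693510f04d2f0018a88820842820912ca84231418e0a8a52426a204186a1446994308d63a10a30d0c512916c28116248a328c99cce901a8d0821200a3120212850a043350815a9118c8e415a291622cad96282c8bcaa0527600b58832116a32b45329e6615c8eb2b1694929482885cd48e2ab5111493c1281899200327012a2470c8a2022d892c8d5423)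 (nat_lit 4096))) (nat_lit 8192))) (Nat.shiftLeft (Nat.lor (Nat.lor (nat_lit 0x9a03069961801808888900169652c94220a2096c4fda94450828408b5948b8a52c89812148410532128024126aa2294058985340b6700f4883116582b5b8283d41aa188342d6e514723acc846ad20451a88a0048a9605a121aa0610422ad101224608858c704901e0005ac1050030a91211398714300844a23402c0dc1861c148894571a5125a52840a8a3550ba57c34d90c0402719089b9a4e123040a909008b504a11b120421a09374270c8dd92010c0c4852d1e81149305104494043a2277732a90565ac26520020872a61928151500e4a1a0228969084c60b417821a0014c7a10a598c89409444d2279151200a6122058c64508006b5930933503021c4323102a6a919244a0740b0c265415d40c9ac84211422465606193602424489082a8348092a585022442f07204109d68242400a19ce7083118600012130108a208a11509101001a70d0508158a28230b444a16b28c533504c54139c4c20b86602aa29254631312c0c04c888e14331005452b85680214480a2546d58ca8d2654a2d7532150d1b190b482119821a87aa0b11ad51024f44054c1724088494c382c142236503f5518511c98916bb6b80c4512484a96aa32c647c48d128e264b4489936d2949662ae85c408abb365cacd18b4b4a1260c21a4a4220c42f411a03c942029148a140a0722a42292c10b22e9c597325e110984151359c11ac05288c17780a12)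 (Nat.shiftLeft (nat_lit 0x8ca20d858024100015905e6335122d134b0ac9095a08cd3428596e82394eb46a3ad95507441d58850a402d8898c082500470e344d4c1081a00c0c58a071605901705019024a202c482dcbb6b09605ab91da494c649850cd32a93240f3335a551068740e9500441e783a508a1612b2b14c5c8da24277b0b5a3c8200a4a054d8ab1419ab92b696351c0bd598dc409a022462896118db0da2f139421599ab290c0991688601ac22628184c24c95c2284ebe86107418a88463c4b221221584cc87861881290060b209654092b700498149202634d4b238335b60226b55ba59538a1156ba8849d10fa106809a2a8e90e54c716b3cf702385133f8830c41a8c224948023003235352609f651096d8d10684840a8c4144c1190ce54b898309ca01874d1b244150512405021050a1f45440505c47692244cc18451a8922b0914a160427495622a4a4d821524a1081c967488e60192a41aa2d112582280260c5a2948b024a5531480b4651351a0db5592a9444450a32aa8594e74ab644520a61178612ce0a141152226c1744d524600f952d02dac5183314be80aae4590b47494a617198d88358a12554448204a47b05d2d2422443909050648642312054010824029835d922705060609c8e2ca253288342841080210c48616a30ca21c0a02c908d0c5c27134289bc050818d28aa5048010d41472220488591c16044a8446217565c029e)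 (nat_lit 4096))) (Nat.shiftLeft (Nat.lor (nat_lit 0x758b7b885002e0e4ca234a75a099959deb00890b8c820b83cd3b2c825825c24d272cb2b0595d8dcd42063cb189c4410a4021a72a2c34747000add492360c411521219622a9050819802905008ab23252ac94b323d825324608132c50a463180208903018a6152100a8310bd040ba10a64102045eaaa19d044231144714c0c8d3149a465109480720185674400a8e808463a484e08652a8780519a0550344caa94260021081180a130966bb04861a6916b82e048414e23501e6825a78e94080904021652646c994e0e60821462412860f0a304fa4f84a3115486a80ca992da0610913072132614d94a54025a0528a411181521c8b11085998646550908020803249458250900241d48412037945e033994c18cd25a40221a8359d051080694a2081d8402048c4cac460440722b05a1d4349672480881ae564444a8534d0413db9e160629052934290e2149000488540200622291405104c9483e3798480948306006a2128d1082442a904256326c51059b4b300568b76501c15c93d8521a32128262260da40050b1c11aa90410a14cd234011d09884ca032108520756120a21622274221188148a521344c20288142040888818400242162042903420939c1169842535108b206052224a2b22a04102c004004414c8041a8496c0e228ca420523e85b445b0030000a4310254484ba13c690552a449121e14c9147d00a190764c8)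 (Nat.shiftLeft (nat_lit 0xfc1c2916038e044a0060461343358645a05a129c0007d14e68ca465363d9392c2f57155890a4c4964b9e012642c51010416a2a74ca03ca044184209100047512903170e080c52124162c31447046b0891bb2327a1082b71001275118c092a60c2e103ae914b4a333810f2e241648e209d46a64811d05753a020218d8002187ac0184198a82be0cc084a1d91a064b89589764802141100442749135b164d2418539f40164095025514408400880ea126cd93a42a4537a14aa09561abd20c66186a292cc) (nat_lit 4096))) (nat_lit 8192))) (nat_lit 16384))) (nat_lit 32768)))
noncomputable def d1 : Nat := (Nat.lor (Nat.lor (Nat.lor (Nat.lor (nat_lit 0x3562918ca4926a88c921144a94aa4aca88ca058a23291949232a4514a95244918a932a4a264950890c9a90ca8a2338892324b494a2329111844992652433191949244c64892305224ca806521248892312264248892364932851152230c99489124ca64652446424a4815148a0ca1a849191b24d288ca448c24a91949151225494892ca49091914893291065249a469289188d924ca8a465243114ca448a4998c8cc948a24a492321329106520911194994911b24a5288c488c49324ca48cd1232a4913292248c8924ca4419424b2652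26234a4ca8a4648c22594891924ca64652446432920d414888ca4ca49429291524892309a924c4ca491223246329255212152288ca1521119189524a484651a652244a5228948a92424606a493544652489119232492c4a4511948b241190c5a924ca8a4908c91931224948a4948a4a248c235249899492488c9129128525119492488c9312a4949232464c48924cd18652491452499492232124994883290a8a32924464899a30ca492288a4932924c8132910652148a232652488ca32a3194924514929492284ca44ca49514649223288d924ca51194922232464c9194908d924cb1446492232464ca4465248d24994a2328846232648ca4a45125226a491246245132932924452324a24a46529124632a3119491948919424ca891949235249192248c9252292492519326488950c) (Nat.shiftLeft (nat_lit 0x329925249324491a849a906524a8ca522649929544892646c94ca1119522308d62449528948936548a52a465511914512522a49124611a9132454c9018aa4a344aa9213188d492ca8a232108a58922f2aa624c01192254654649a4a52a4b24929264a2488c92262364935151a924623265224124d2a4525499492440990652314522912918245119494131074929144caa2248925249131a9492249a24c648a88c46529490cc64658c883292a2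8c524492324528888da46529252446132922aa09525526928d26528895252492302a426488c94888d322892aa492544892951409484546544911b24b231148a119328ca9484a492234926628c924493245065322548a29525949301320ca4129124ca5152488c9265223109aa3249064948552294a442309a908891a648c94a444a25251225494464849126500ca43524c51044a86529518ca4a451149291114948942a2865232265245148a549124c548a50a4a22452449446a4954511910518c514d109490a494a491923288c84a8c92446494a4a4a52908c2a5949122248ca91292548128948a23522a491194ca334a319292524ca8c329248a24a2529218aa065252288ca4944ca95148a44924623521329446528951250a451199152488c849a919629196489232cd186a4a529252942326520892ca64a48c924a92529491184d481248d3246524a82a5229129152492a) (nat_lit 4096))) (Nat.shiftLeft (Nat.lor (nat_lit 0x44a6910a59499544652018449a465499a323258a256084445242a190912652423026484932a32652928a6926a4850b29251151949a11124488c49265493049949925251a5118894a29491492311195234994a3446549232a21949246d49290315290c925254652251854924446489445249119230a2c4a8a2a488d2a4a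919088c28994968caa4c24291826a268a9192311a52ca28492648ca14a64964324052552324621221519092464093291624994a4185215494a4951242454a518c952948492326891046a949991368c4ca45129322213291194294c98090936064492a5252a692292164994c464232249a90c646729142b2a92491219481965265292246046512b599491492924a2484ca006524a99499a219494a5499001904a43469248a488d9494c498a3194924ac4a40c294648a3284a94925214446a48d514a54911a4ca44a8a2a42264652494a4405119226232443a48929288ca49445235a51249194842491b1223291488c4649122068c8ca912264a8a3412269264d5111248dc1a88230ab2912a9200a2525252a409911924949252c8851249022549291448923236493548ca52492a947206528444aa4545132a44c61213492c4c489284cb48c92924a929226234926694924699250ca8d12924554a64590aa40a51194891292422432c1949545922a4945226a4948a4d4a4918464ca4912934c9324a4462) (Nat.shiftLeft (nat_lit 0xa4a26a82a5549223449312a106498c544ca10908a92294896584b51ab226232850c36491265222521948a55124932911094a292aa245294d1895282c22932144b244951209524a4a2a94a553248a54a926349896489230866419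24a48ca822812a2b4652892c84a495251492465924a52491522449882494a2491a44a252aa0a92428c4a88922525108c9a4a2a91181489905309a9248a4d44926a30c049a65192d4492c92251244990342c0822592649218d24892944648626522a49329252221310832844a4c22888d959452648c8ca446449248a3280c90a1192a212532928a248324126522649328a4864246914a4948a913532254929064ca92149ca21032948926546a936322aa496a494b1221322a113244d9190891193245054941098a25088890261294a1309a281294a232a4049a934668c6549494492094901248a04a46954a44a49326494852924c925021228b29194466498a3211908d23292919248922345321924c664924918d4948890c526522914611253322448a8d4b28a5224933252245929121486291934958248214d2a943124850608cc83304648c446c8c4b28d1942349348343124652152832465128ca255049265012544894a49109252888903245492225232515484c2352921188c9a091926a4a490464923214a8c94d2288aa65022132903545888ca4c924a3299519222146a44988929514) (nat_lit 4096))) (nat_lit 8192))) (Nat.shiftLeft (Nat.lor (Nat.lor (nat_lit 0x4a56448892465249232464292654c4988e4a448a498d0c2a2445264088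e9522aa51692419623524a8ca4529951b29132c49532298b242492112a91160549a5249499269148925292a669499519090e4448189252492a88915a2124b2149312246544746252a24128148a0a288ca11150cd244c9088c0c990aa194a88c9a52a8508a9192236aa4a140ca91b19524a499232452941504c451a44646a45106d0d25492114b08926a23424492a941148d480519514b46524119420629910424464926253224461919a451194a08249291922893926513288a494c510c2a4a50821c504aa8a29492994946a894a4694a28b255482324a84884b1190452952514a5265109284a64cae484499ab452e35492294524929494c84ca91452914648924a493255524aa6a58941144d2a435104942925292132a248654694944a46522465248d05299324610992ca42289249614922564a4194914ca52431465110932252249635144a8552449184688c8a484460a93192899892d483524a8a0ca108b218a56254b245292965224948932921a92994a1244e49494264cc843524ca4522094a22c9251924a948a48544c465251484a9224483120ca8d518c948a9525909515882a1214a4c90a94242c1190a47a519926460d206846488a90ba5251132691a46a4904a8891280994488c23552352a45892525a64c823510254520523501aa0895) (Nat.shiftLeft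 (nat_lit 0x4954a914d9122d54525082595205ab2c604250151020c452d9546224a48c894d59850c86aad2549203942324b0aa942e8aa20c049524aaa2241524a926a48aa225598912894c214a6a646444a8b4c654a9492264a8448a148a48832a0cd521202125458949a694047d2a8a04a04a62a08604aa14a48308a44521234849249210914a4644504c464894c34829046a284848912113242528492c4a42592509c0688413a4a4aa28268235244931224549180a3694913483122554a4514a4cc95064246a224884869290c88622431108a87a4a0645094c6543520a8149246164908aaa29104a195419248429344b182a8b192a048949a4a884e28d58a92a2b249244a4a6129929132894904a2a462488110514aa0862a286521aa8404b523a494aa48412464b24922524514422ca4425429222292a424a8910522329650751888892489188628a4d6528194a0894065285218653a4ca11943509093010c3210a4942a252522524a8c93526291952006c4c8522309905194d24244a68c92230a2312248d4924814d352418cc218ca52409a08a249a4a24c59252204d428cc86490c992324cb18a52524909290948d523711a284d4b40a24a9684ce49242524b329144ca429492d24846a81c52a9915322b484631525252264525152a956a966a60924a4a504229084940944ca13292491a46928ab2151212448da94112305241120ca)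 (nat_lit 4096))) (Nat.shiftLeft (Nat.lor (nat_lit 0x622650c952405245314c481391964ca1225424a8a2756148128444954915595494a86294284a2a489949328c480a2ca424510242a46248912b44909094112909b08463248494d0b2050c1154a2838501128099248a436689232650a4488d43128124c889242294ca4b528612404a883235194806214a12191925891948112a5809a524a48a0948299352928a48931049213154a3428cd0920c95150b11042a66190325290256d05093292442144132aca64089044a50ca12c42d112a10a9288a248a294802342514929325152554aa53a122120a04a4454934912244444b194482534a4832022668648220e55208810918890592312a4542064481091501925664946524aa2282423224ab0ca928891a44244a9910c985a49a2a602364294a83244c4c96a296523652ea46211232648caa12a5214920492108890528a6ca4c89264a12251641009a064c8254281291124c1521389a4221a90a4a941a84c924a3484a4ab66110929406144095232112a49245494462224932652a425948923584428d4926c99649312452448896519104d308a14924482a902865288992860cca9aa8d4a42524a92216509892c026a15894908852843249d128a4a350886525124246a86520844ca322cc189518912252a1124888caa25248c93234544d0ca49114202d3564288491090d50922128a48a34a515445d151248a9108c244b64c12a)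 (Nat.shiftLeft (nat_lit 0x9504ad8a32cc201822500a492948c8a6a14a8a67c48642d8224aa1289244996a10ca5060284a209524c85492a654c33351493258ca928893584841952294a2a25319242229573290492922a4a96124a546327a35302254930c944920a25a2950b191948ca6550c64894425212292a098922aa4b4ca5695524945925a620a114250e502a6411b0918aa52ac8491a8995332234a55028c2222692a2944c93496a4c4aa48894219408445921880a0c884324aa498442a411286250b109259242223120ca8893142a426524a4486b23209022418925511065930cb44a9619058a894249b46a914461948608a861344940c82a240490a491518922456a258a458294a4522948292544418546e48a4949292928c9182842494424d18d019192332269188a82c92492c8922919432a9240b50109c1124a4a6454aa29312422a4893a939149286644c4a9b0c4222a46504ca938c528100426a0181a24a424ca5165014c290d49288449051322124b095044c68a0cc4b19189289009246554699648a2295431498132528a268a04249244c4c144492aa962514ea530d66da2888d644a26421218710a388d2109234c5294a390a35544910d9248da53244224b8111229605aa2324492940a5446424051a12921129148b45128102232890d82ca32a5256c91908a42a84a4c121704064521913244a8c88455189140448e521913091492180)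 (nat_lit 4096))) (nat_lit 8192))) (nat_lit 16384))) (Nat.shiftLeft (Nat.lor (Nat.lor (Nat.lor (nat_lit 0x1417252252948540a518a4a9089d46849520a8a892a18dac28a1251262912524a412484646492526065192111aa44924b243352213a48a8453150c2a8a24a4aa28522369a860c8a648993346510caa0a91944a1a8a54ca1209862d148901021084d29098851249454884c49205248884b4e512814c00852466466480484c849549aa25250a4a610c9429254a509292e44925225409551a8989244848543555b2a4a913105b0a855605214051154e24a51049b3550222908a42ae492049a48931321124e5252868d28c922650a5190820924e95122a2234492cc911298a9aa8c488c55494a5491648a49204920c6cc984462182485452492892aa56cd26a2649251914d248a904255122a0a24b2aa472933092954945118a4c825494ae92925318140a2a4e10a501548b24818c9248a8a2224ac493692912040852d514918a2a923254a0255a8810b28c95ca12b4b16088c865256164a62494895392314490452318818b4a48819452854a4845448b22454a6a521690a8107834c4a8aa6a2412e5244d06a652129491254464555344309c5114830122104912489494322669712424296594a832a29a806a8aa883822249490a63288ba618e5229228552624884625812690d249264411906a0c898845431926890a52b1052c49585a852a5452652a34224921a950a44a1348a524212426da84a8474c636a250aaa70a52414824)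 (Nat.shiftLeft (nat_lit 0x9816444a48588a0651669148261350929b48c53412120949912211225444d10479b29540cb25280a4c4d2c992444b20c8892c8921122026cca52b554d2b286c48a2603244920a1284a92584c24820929948952950652a28ca0d64d9449849b2429144894928a22e528210cc48424492891924ca90221901b22223662c925660a210490a2a324814822c5014524c49226a04148244496425a493222148529354a85251454814409890b546926704a8090a8a948d098411aa8893392a64521a944251286489a6a4350928d4d1526a541a261264c6490c949224884a2568949a092648aa052492424a692650a46401118539124928d0866446901229126b0a84d691148112a6282d0114a41149491a0010c444922641a40b652aa408cb2526488a945551242a465125228a1147110b05214197545a80464965449a956509a4a8ce54653194422952954810514320922a4204251631ac1012812549168444c926255424921025254a42caa0c928cd88881290726402d249354a2ab0512213152ac49414956811451460d148414ca10a230828148a5024d8049980ad451294a1b2942412924548d36192494a6245091222494a888a44a109a5392a54a4854a40a920c9098d4a868420d1a9483a2c14644e528810a5051862454961a4084528a5a646c849aa344a544932423259512490c9c4184e44a51a5a5420921463192904a3425)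 (nat_lit 4096))) (Nat.shiftLeft (Nat.lor (nat_lit 0x36125461151498514c052924a0c625294486c415126d801330359540c24a9aa23569291c3626242908cae4a10498144cac448084c248d4942a495608984a4aa10108929668654133134684a0e45192524a90495194193992a536044892263600502a894a454c640f052112248a654a5649a816c05892050a2908824c414a9324941249332a68094c892d329550a445012a8a48a1324092969a44510424a0551a4a9130892a28a48c2564500972d4ac10c51b48c9092c64425248d14344a8a4a51844a02842414e8492351944a911084a8cd2448524892660454d9244b28a292d42a22e92254282b125189d2d0c1924c841a69a16553553014842868698a8a12c9a8321941b4a6a4302a50490925628a1912555328b244452841694852a4222c8c448214d090a52a849290a5211240844485082252884342c852449a48a3c3555124088492a24a122944524c2112628c18a8911a9150a94a42c12a421488a4a490e585529312a4a92a0455508942b1248c125242905532329714921b1328498c912aaa124aa13b4684249241648a454a534484c88aa2866490e2301495240904532624555255a552a24c831b1a424040a0c090caad0c0532a1184a290c0151009a4846404a2aa489a42952b010531568b2287464514a5a420a435590a8952447162a9295419188022cc91a69314988b244b2294952211bd14531a4908daa248a4)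 (Nat.shiftLeft (nat_lit 0x604a04a9449b004210693702108ac368564112a42c521255aa458b14a49512512b5452b29510a1299514424a089223154a109abaac495651d0faa698004ae08b311052488648a90a4491941493a69434a1a6a5292a12652015541181124292204a892128a8990b329ca286a92430622655175102414326568059506c55602a30a19490202b1448108cc09052b92c49b2945084a52644c8926110c849d5642989034294c22a095112b530d2126d50d05412498a4b5354456888a48a85b16494c0c2b5448c91284356a50251a80228f15112aa04a8049044a9214452a2a28b048923080314cc918aa03513528ca484a55168d124d556c449040a288808828cac561126b6021222691442d92220240d0251a56929516852a0b4244890a8b4948869152841494240b428d3111508c8429429652914851250454488250a8991041130822968114a428928652252595010b248441b2a0904a32aa2350095652d24548a4e83108532a415d2098092449211448990394857a41692824d0ab210a94311138a4991952a524109448a10a5248d0c844aaa2914a914694920845ca545251a45249144249495081236631102c53051ce4aa4c64c9893855c944ac648026a5250942490a14511240931114314924889648254c488444412492198ca1414d0c92124210932812a3094024669201644a3428f5cd074909a861648955272c120a948)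 (nat_lit 4096))) (nat_lit 8192))) (Nat.shiftLeft (Nat.lor (Nat.lor (nat_lit 0x25b0d1268a22666122149ca9492d362cd64530911021212227968d24a292400a41325a52901c5244a933cba1144cd212a324840a490d50a654e0884948435142a614a33094000a8b0d412149850cea8613214a81460d20a4c10d8ed949522a448a8d342318ca62a08ab810e520b475224a442284945570a4489a50521608428a512088a1228a12558a554ca054520189226171e88a2012464b0a8c79542d4dd240594a6029aac44a240908713002554b29193240a038a2246a45290a9944c088840527a1a4148a5ad4b10c48a2934a22240a560b49329024308b42a054a4daa9105a04a631329a2a3b2d4862aa4a210a4c923189aa6f504a28b2c42544ca190086390912420aa4682a05359892002910525a56694ca920912240b415395232843492d25085254c1a90a88a0a560954159ea4a210851466292eaa5482a624d125a8ab6a74aaa10928ab2e234c68ca49815414520a442221296420915a4109a814924229424652a15332250eac46acaa8442a05e848a3445828083113048a2092024daa524440a4b54a2215252850b0201208d910185230e0caa73b09145436249892540804324212326844902d112a534954854cc28a8135261509084913228824094985107209f144480a21120309090a50b14a4a494d2129096448c3094a566125815428444b41450a24551618284580a69622c8a42206610a24121a084a4ac)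 (Nat.shiftLeft (nat_lit 0x600922521148e2ad4a26a18c4a0cd22c24a402d420d3324955a2016046814b90452022588a82a15a65b2c021221a1427a98208890220b5e0eb0b2a202868d00ea0c2ec604959a532550100945289a5466049291814525008106489a040824a8a892884160293aa002c5095588a545063122725c88804048442696a5956292714494254644169c261f00a26219360a8c98c269a4100d0480e42952a621452a3526e1109ca51540816591490402451a04050e5804740688c1948c88c681a136841653c164b124d448a812d00ad2256920748832905c340a4095194aa0122a834c8010465262ae00ee06b2085314b02930214c308b581a440010c419a03104269254cc9048ac85890082252923269139229032a4a118669208842234e2140a2892644b9486248b50d8a52a1a09892da4a13896499910c312a5724405263528aa809609454a4924cea494cb2a16189210954640b804d0264a68434c0a320909501495a24a96a4202e82a0b20086442a89986489446229083541a924f49ea029a410a4a2a4ac9491a811020986900842a9211a270ca90105440900541014958606630370054c5029191cab4984d0042494cb942a46a58949888c98a15453c955254202848aa49d134310934ca84120952927174cf0961a0486144c2a46812322a1a2d0e81c220142a1e529250a292a65038904d55232060148a99428988c829032d60)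 (nat_lit 4096))) (Nat.shiftLeft (Nat.lor (nat_lit 0x8034842621bd0a09255c308a52224a22146a6694514c843430444135a7402922c851450624a272109c58010a32309e510b14085083428a8a9340012488319a224e48484c42b232a253c46aaf6504c98850480044078a451866a0810c4888a49824248da50880d6ad424274239b44af492a5081a05104225195420908492c0104432139aa2412884ea5208a159161390b94090a0321205384a2665da8b4391112ac1c8dc92a66a0c4d4884438292582610210897949144270092da0050235352d375208099112690a08a0ce1049a52850f4813040010086683494341162d00e025424604ac08a002a4a994a0aa9149cc63628c224acd5a462880a2e0b4b4a2ac4901a34a505249c233b4444808a088c6492a31250036c1a13ca42d20a2b1225d758039b1b832b1112193990484c85429c92889b2a1241188a89a5388b26a48202148e952d242ca5260dca2124952a34c439dcd4495a2a8343740c823a2b213458e510d2572a968b9552514a944908652208445a2154802281aa1282225a58da53484c9f04a542a4a06451258aa5a302589c400662220444c454248828a0d154154889514a3069648864192d5c72ab05ae1205e516d49409d50d244ac24c612212294a82c660c70e888994948c4d964804dbf51161234ba52941350891349532480504b224b3c2adf508a9ca990944641824a044926a4e0a3206a00ac064688b05)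 (Nat.shiftLeft (nat_lit 0x183d2805820aa31ea1381888848418004a464618ce82e310515b18c1402c45290a0482140491a289460ac981d3a65aa9094518920cc10209668ca6c331088292a8c09176e224a1ae94382ba82194452e04c8485e21d004a2ad82447282410a080a4401441490800285040caa8a514662b80091cc2ca8a41b4b18021bd184802001aa4511c407317295226a128145402680355de8e65a81c894aca441a04b62ac608aa09d20448a69954125519102880024014412084c9552620e4425c088e604c6d32) (nat_lit 4096))) (nat_lit 8192))) (nat_lit 16384))) (nat_lit 32768)))
noncomputable def d3 : Nat := (Nat.lor (Nat.lor (Nat.lor (Nat.lor (nat_lit 0x4085241151448511128c29054115151511153214845422a284550a4a52a511421144551480a2a922922141151484422284510129484544423092288a8a4420229450918a22844a84915188a8a8a212844480a4a16044102454a46a8844122a1468914808a51088c9514a84a14114254a42020812521151211895422a22a204aa28205151414222a12454288a8a010848142210409151488a904c29150a15122101114a14815028446454288a8d42c22a0294420810a5211a213024511515122045514245288a111409150a22a51048a84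884209151488a118482a14228914808a510884545128ca16115014a20c0542a8a22846014091014a2288450945452a8c52a8521142a8c422220281511088248a8509528502a15450508c850242908a51144228451452a50a422a148a42291014091514a2211422468502a1482a15148a11842812222944a211425445528a422a28a2114440502a28450891a140912208a5142928122a2884424922a1445465144545108a12244114a285215024545110a454288a8ca148448a8a21144544229450a4a042a2851915091514a288a2884521040914a422a2888450891422a2a10409142908a2884508915108a8a1081229484511088448a115150a40a8495144508d0a4054454510a8451481508a94450845444229422a1422a51151422948428142284a1140a8528a28a22448a222a10) (Nat.shiftLeft (nat_lit 0x45229a41445114254921288a8a41152888a2442aaa228888201152422a8846120d0a00522a1440aa1509488aa422a0a40a855144508c2142448291222255154915544442210a0515148452210a140800548d212c2284a88a8802510a54145941449148161148488410242282148098448a850c490550a4a022a290852288a8828a8d44542250842294944428a29429015448a125051424202a284a204908a2521108842a2910808a51544549451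1a51128488a821210408a544a9108c042885454282048281088a412028a8a284645048b21129221288520555148a906052a2912110a08a8a04208144444a20c22451152a3011488420488511480a2450a88a404aa1482a082a282a451151852251150428a211248a84469444451408a2a18a852a5118460141514248a116151095528240caa29089094248a3115140490a2909528a42a2114a50a42a04240212a12994508a84480a50a4a14a9445108a10aa514848a5112908502a8a46440a011a2922129425021514224451114a41145108a2a01514a942100482942884a115425452a22514a1484a855144229144420422540a8915104528a148140854c211408a9285211512a815422a14b1450884282452908a412a28aa50a42242a8a2114a21422854228a22844122094a4a540854a8448a81329148a1111451028a54a242300a0c0a124508a8a555528542542a8a254) (nat_lit 4096))) (Nat.shiftLeft (Nat.lor (nat_lit 0x10484214841228908a8223092508a902440452148a923089ad0540244048a4884648a1a2454400a425209049510a34544a42a229202a40196108248a9446a22a220a8a65042254108294082846422a842023449082a288544229450828254442254114528208a84a8329449108a2290a514422842552a51454a212c0152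22a212c222a20114491ca94208944954422844210514511448a115210894084598a8aa84508d284aa243450890245420d142950232862a29514828950aa522110282a1028449142708140226241101150a450058044542229929122a0d44089914508885482840521122910888484a25292808894290055450224a2a1221048a520908888a49420294aa05409552191525828150292244229400a92242a2495188828a20a210292909234422945140151109288a14455052828a529108502024148144251052a514551888a8a0a2a50988422548845094515294121151490a8400a289422b484a4202484544a2110892858c8101154254925144b2809440928c428a1002062806105429568c5452828a551a22e22514940a9134a409468ca90542aa22848410242a114a4a2552a8808a80890141a8a4450891840c4204101a148311421145448145484884204892a4509228a21510252890a808902555134a2c2a22054598884410294a902855148a850514a15101514230891514254411445151088) (Nat.shiftLeft (nat_lit 0x5148941050a228843024844c48b2530911529416504529520a0a0a2048888c82a134902ac0a4d8a422014a868a64542694148294050a54a0222282c18824522a48a94240d424951451410a24d0352a10484a2228a22842088a825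14a11148526548408a52051514a028aca050922520a512aa550a21489201814210915055455288510a416058a8a461021005444236a3428a860140b151290209442070248a201209051288825092214a51104804092018128a1082988a0888a855124545284424694454aa111841210022a288a12515108b124a1405311460c2455520a4544218a2448248a848a28514a08ad0942951482542884480a054010152848214844452a1288a88540844450128502a0408c0514c448900022a34424450a20842262200a62122a8105294c0925148429484511892504889100aa29209652202225150480086a948959245802950540914504d2841452a28888a210c5422812445292228a12884204422900891449621094a11410888a894288c2ca8484aa251010520a48a24450d892250440a085022422a04a21290954a425942880511444108a10808210a441022a84a24a04046888a8c8144508aa81144a28a28080a4a893424942428a516142450aa08512848a2a95018405444221125142288094a030892845215112928521408a980445424a12161150124a0c522822845408511212042a29) (nat_lit 4096))) (nat_lit 8192))) (Nat.shiftLeft (Nat.lor (Nat.lor (nat_lit 0x11290914408808a284508a5048a9092151148b15141011150b0a8891211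4a8554aa94512288428155151080282094405102a458204488a24c245288800124a5229228902a140a5444894124a2272a0892222282882852162a4828a08c16468508a318884a8511a50aa1414d2114c42a9128b012b211922435022a114124a1430a1542284c954a5281154202088951228451282a628928a249088850a28821082a20c214234494840c9a2444842a12a22a22009088a8a622a8e88242905108a048d244510922e450a42295224941422c5224288a4455101421a2918090a924a08e9145482a0522a408534148121052408a94845954934a4222310948082952888c1651148b141151024048a504292850884a254a0816815429054298a228810244a02511484a02a429129414a41a285282d28a4510a192a941690508a450885110885224511422241534c125120aa284a814a22a2a91528046888a240454a852004229054aa5114230861014a3108d544a45222628010420951491522141220a08a1058852428a88a0a124541214542242890102a41889121082d110b284d2a195145222c95412512289108a8aaa1014508a046811420a2112915280a214a283254a4ca101235290a52422940840224810992061508a1344d4528a42489221080144956104012221221184028404090200a52481108426c4a1284a84a2814522a) (Nat.shiftLeft (nat_lit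 0x128944292428522808a604a0a89014528ea4a3402a81108822888881501162920252916055250945142a4451421468811445112a0a8a50048b2a5212804a15488a2220a8549184a014888929410808aa12944489530010291496245410288040528a3220200029a8821514094ca0850e08b154c81024a11092868490a24a0ca90a1508b129110896290413802a8452a483429204598004a4410104a25264041508400b4a504448444a509642810a922214402142421448888950a4a09114208a088084a2082945450109508440a2508415289292908a84a8914c944b109a05314182c5042289228930424b1423554022552920a01151690412821050504a40b14849c520546c822a29945508ca2626aa295521880550a425408994a84512855161c5089051444a910c88c81410d2a52858541518851424a854548a90a2152125022a348415028a84a290612938a14a9228845114422a4214644ca904425514ad5528a84a8a411440088422a88c81114a884620a822800a52948112884744c488a12924a18904a52611252120a81201214536511511004ac84909411149029122844914214a8a49022541621080c8280549290124491204810329a9859449229114854a0428a08854c084424604854a1088484a808c888d2aa81009428948a241010a105543112922891540528a021092525052245450a10428c2846289428515)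 (nat_lit 4096))) (Nat.shiftLeft (Nat.lor (nat_lit 0x9490a900a512a50a401105c40028a10a9128525118808ca3254a9028922aa2214210882851a15412029449111084901840a618094889a124440924292ac444520618904a2a082848d0414028550418ccc5520281748009141848aa08a210846134492156084d4115108518c5001512454222a188d2004820241a1022a12c5086621250521482a05244a82860b12468a28406a9441d112104912248606c02908944e4525228a124aa24d2830828ac49510013021294a114a50142205521544114093014200440082928284a28480a050452842514695108224822581ab110829164a40510c5244890994cc10aa4860e14622248414444921868b14a94283040888a2a8a4800cd3888444a4411544432649b419122a9120041405488841056a1404911002944280041040488c24c448a1154a552862045144206104a9148209100089040ca8086c2000111650952254248202a80440500521464102924292251441290a4408a26254888ca9a028458484a250aa2108c4510440a55382411444848a810a2492241024648a9102128a22c492413462050915542440a112025089101455109490a09428468a92164160942a22a2622841844a222525144a3448a0820a528408a412891445510222a222688a40264a12105448921124048a9121151442a8c904210c151427082a244ca014a208a008890a040c0814044210894912404)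 (Nat.shiftLeft (nat_lit 0x208952254511c8a344a8a41206a115084894148831488d214d144251451142156c0104864294472a5101292548a114048aa2448115243624a1a50408454a450ca42251085408054014545550140241528844844284c80a044121141148a452a642204a114928608a221152da8545456124c5014114a12a88a48a450584952484a91a0551344454071085502b425122a84444202ae411cc8582545031144149510904a204184290312a29221141125044900a0530542268484894aa08040a88546851521644a55211a8a51100044542084a222520c24824411020108a2202520ac2208854288882150e352840822911094811145102a22665890104a10902529410cd094840a89120899023092a08082d11422532d16aa9102208a222044489422151814492811298422304128830a1262020414b0812115944a8a884a12054444148499112202010a185188a49152410a5428a8804a22a052584b142a8a9a124280945131968a4485252042a31929141130022822022cd29090889209a4145408caa0024088345040d24128a110149094155408a200504108921822120b10491528a20294c21254160c910528544104a21946a0688100a45114504142288488a10445aa292850a11884a2aa129282a542a2408254aa484120100514450a8a81422130844315112c288888a050444509511100a22344188950a02224a20a08220)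 (nat_lit 4096))) (nat_lit 8192))) (nat_lit 16384))) (Nat.shiftLeft (Nat.lor (Nat.lor (Nat.lor (nat_lit 0x29404a45054172ad5a405154214208494a83554625501052525a88c08428528950a8950890904a8898a204cc2049228901044a84a442004b2822119540595040d6a5809242151148a2220408a2115051222a212515a01544d608d228128c6529192525234869920aa2111104a00921684202240e019250508888922491b031221204ca081494921121100a90a50545009450452814084122525094b5a902a20051522428a4d1302852928caa6a904b4a28a0088a988545108d11a019124a144445244a085ad301241140c8a90822525128a14a4495594092503442c22020111a21302a21521229115a28532140912008890a38a020a094414815201248550828a22a900a154d18a225456181491488064450540a08a62211218a021414925242209141501a94a24a93449521104a5434544a029240052458a610502292234916508a14688211043491068114042429451150a8a8c0848d14b32a840868341088423021095122229252a15128a89304ca81495042101564a02410143548099251250002848a4c9022a92088b2a202a0920a2413452882ea2a895292845909282490a82902945054825181131120c04d4a292d48452140807108804508880d213088224484108140880620485213222908862817064a5064a91a284a54804ab08909440cc240a12255910c0144a884e88880533518810848548554080505b29188)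 (Nat.shiftLeft (nat_lit 0x20c0a894a3821448a69102271844824520a110414525529204542454a118207080052299204a5045109041204a914051154510256449249014880a832d09082014486451165142c0a14080935115b4d229628420a0a5486111290029a22100120422974a2d14d10a524a901021109442022511521448228045048889228a88e442302905448922b4d428a2b291192409491024418920aca514050ca110824a14185021aa028aa01214a28448869065035142b10a228e0416124c2448900216994a4508952084a4a5051010a24900820882489189451492842149448914100c288a150104a04809494402a5088a4422a402502912530890920a452a50461090022e944450856c2242a0b0a92a421516b090b4509840af098544321148a89a1154308a44a4408a858195422802410ea82a44821254c98929291402a8aa00b5301a18046290c54880a1308aa844c285588c852284452424d225226404a112248c821c22125804aa089205114051021500542898b1820b44010c100a688c06801112aa92a14220a488522a0aa914214541152e920a58124696029128825210a002849244ca821041205a29404a212c555a2011215094212124690aa5100941d5451229232950948570202a4c4512a88900d116b522ac48828a2020a150a515009002090400aa4a91440944482a8484212092490814a2004a88528000c22d2610028a)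 (nat_lit 4096))) (Nat.shiftLeft (Nat.lor (nat_lit 0x488420922a0b260aa142444a49084a42a9001a488c00484440424220191520504a8682e208115852c11509046a02a9000311161904a1082a4182a0e20290a512bc502908101082c04421015108a2208d1442102a4a624025484011a545404086a5d562952a108a10184a2551208a8528a20301008520982040d254023a24448201a492401516342232400c0aa91012904410b04405996441248824114a0a2a2115428d62845252210a92ae52000952c11240072242528918a0a102908a42014220094a50a402905a28886288022495a11100915059168809089024b0011040508548100552a54c0c0a212050a1c243150a5140a08a408462a19d481941514a4021645220a0b5151489504a0404a8821222500a0440418aa450a0093204155025308044023430a0420052a08844814529b426255a85194b413a49105114c14008650021a294911244411a502c228852021412a8520a942940422d4152a161a09050a10a5444541029488822a2428045300c5288424a848452841682040433212045150a5111844803989281892150011008a3112154810022904c4a04291120a88088100a8280800091038202088a59153190a3550509a054246a0d09392229220a288ad004541120150080924a400154011088aac24848915182046112a988828454528b022169c1132a09444a2160511481212848620288a46480612155a151)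 (Nat.shiftLeft (nat_lit 0x8a144852b0404c8424900864a33414802112881311a8252a551210a91148c4868080854422c20e9402291895614984c8a5c445045112208404045163189015144a6484a5090214448a2261a168482a4052105040446902c8a20122722514058431228e42020090410105101488828c48aa28a434a2bc88211182a311080981894801290e844a924e1028220806d002050905014a48892248966924a20a88d21224840118415400c5484e244402252329608234a4a8aa9a81204965224c002914154a91512a00bc881088a0548c5206a6a5511343094389164631a058486431264442dca8212220430884a51101290a0a952881222918820855c43351316352a10680084c248480c1142281d602d0e0a24a14d28a04a9504301902d4109081404205292a295014a0424282a5114ad21828a02234a818c10b9424a152200908445488004e2a4a932540a0da882a10604a50324c0d4310455044ac20a0a008889611124e61045086a08d22a4c99456289500444910053480448a20500c056a446645532464a448116b48a3461505120b1119514504a12820286521802508a0a20a84a0293ca092254c50000206d2042a6109551089346442a03288031a2548421212a814648982402944c2600416890169025281a611890a884400120230004204a494a74452201414148a8824c2893442450a0088a454109211568800412520294)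 (nat_lit 4096))) (nat_lit 8192))) (Nat.shiftLeft (Nat.lor (Nat.lor (nat_lit 0x404c2840145d819655626340208000910918c602a0044a98d0413250042507509244248c27a2a889444c104c811104ad044328b50082a011280e1234020486801841444c2929106080841232102111284454b53610928549245210229400c5a95112438420310d417542430a8f48804c94a8450a28aa0b11942583a02871a161264b20448c5048823502100aa008824204928a15044f640010145082a14222250aa21484c4511a154882d08242248aa4162248924146494890aa926162811d0008d0480801291085294681114444a0c8db110854944406d383140948294125422804f100424425418000900c0495d494916842120510a9004444088a8b1422cd48c45044a4d11190954a08022ca296260121888291108968c48949a88224c55148252485228a91a1405055b4a02029a8215144210a688850d1548a4d49510e504604048a55448607045084111505023a0a808530888d928288432285069055414498908c888152a805521010885301290509215a314b1829122424429109540888040a0a0a6500294c468c0500544ce40a624a0a3a8830811504062282908994408a802aa48ac2444810004522a8488320210101111028208c2149302a4444109622018410832061004901420e4424254894294111290d294028a17006295808a506aa1d099109c2834d08800224088214860592248843884358965248035141)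 (Nat.shiftLeft (nat_lit 0x1354d0286e930d52a049001080e100c090513422852400828204901d80300005800688a031600620900d125645256988520d1432291e420514341055d0812a614838120f9204580928224400a416000082124221a228a324c50852508c48102470503b00ad681418500a620614808488281000135080f0218114950209820040a2a4000908000882042041022c055512115004a6242215008428c004408450a400867034028995682229232a19861101290a0ba01713102205165182612010388242c0b48d00b2103e404852942824d891480248048c00968c00004484044126a841129004105019144550402418208c80000048460a8c0670b224542d99025a9036c940028166018ca40040868425965411a1a268061123054481421f4502080902a298a50aa254a85440222920b02800094222324a84004994a4880c1515820a0981112031009212454208025610aa095065102c8901594b19508546224e9200884215099804845404a20914132229144111842108008128901004850492151494a01490240aa28d219606290540420c0c042407a1112a6a0a8a220188804240ca2128a82a2615012002a290929102845290a12303542470aaaa412a842882459050b028c2061401104965c2852c86892032184914921921519524c5052010804a15442b85602045050d2558a28628908a945a0e2a15221532152080a0d001)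 (nat_lit 4096))) (Nat.shiftLeft (Nat.lor (nat_lit 0xa4000518e401512108085000d442040009510602231704802809248009a1490108208498200002221a1c244440b20a4b4ca5085508901056c122a4941c224c8909621911448c5442c1290501049042503234c98205088a1914c52a313144365d34b4242516a0852158c800c2401401094ad7a01045a40aa288ce2b0a2133628a8448004d2a57091428901aa641046700852711c588d040358800202488224441183702654815528221100c350c0148845c17202a209888e10500582148a4a42888c92d028240215115710a9924851a0014e801b06b5488283014b240402519ca2c898940d14b24110269055046122284885215042220205139081643495550926a0490a6ad9220840a9b806301740022144208a5891c444002028e554849008262424c434102429868268950320a0202410405565a4021132104240091a40440a1108428940184910214edb22508b1bc00102a2a0c5302808100441544a48a11a850c800461502804aa900890328a844308a58820098d624024405884040484919100211ab850438a044a345048308423ae29055931b81aa38970814d248a8895028ca44782112588a210a10540da11657202a92929e00ab04b811d2002cc845290482914189125542140511228b53b200aaa8a14b04052280a15460128c89412a009804c0d5200b4461022720188214b0a9129049014816818253582901032)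 (Nat.shiftLeft (nat_lit 0x2600469a4515184158c38643482383a5b0189027310008092200820882402814008a2862f12214120015241a0008a452e018402153025db28131502cceb02c445428608111894c100904c010da00b24040149000d6048a5d4008aa017494953514b8502aa0254cc56a09111411209900015926220300084494c670642c63051fe61422461018028520c0044d1a022a500982a00308a53a10224000a812908500003549224ab920822a3ada26605c5132485a91a8c012200d089010083311019110001) (nat_lit 4096))) (nat_lit 8192))) (nat_lit 16384))) (nat_lit 32768)))
noncomputable def D : Net := (Net.cons (nat_lit 0) d0 (Net.cons (nat_lit 1) d1 (Net.cons (nat_lit 3) d3 Net.nil)))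
noncomputable def Tp0 : Nat := (nat_lit 0xfff044c3c114d6001c304872c123920030204456010d44001420428ac112b8001620096f41084900003046598125ad00b3f04b0f010eae0095f043d881033800142006dfc1055700bc304b9b412eba0031f047344123ae008e104b1ec12c83001620470701282b0073f045a04127a600920043678042aa0095f040244008d3001610465641196d0095f0438c400ecd00162041ddc10e7a0016200979410853001a2043f7c11b060091f0467a8038980018201c0f81246500181048d1c117bf0093f04744412ba50093f045550027bc001830486e411cad00182040b201068100140040968105980093f0428e41293e0016204859012c6d008e3047884116ba001a2047514123e90073f04ab4c12c71001620438ac118bc001a20218c80ac800033f04a20812afa001620103781132200301044ea01192d001c201252811665008bf04184801584001e2044cd411eeb0016200a16c1096d006ff047dfc03d8d0018201d88812645007ff012cac10f470012200342c10136001420472a01286d0018100d308108bc0014200353410146002df0179b011850001820172ac11d7500182014a341194a001610414a0102a4001a2010a7c113ee001620134b406dfb001420086c4107100000400000000000)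
noncomputable def Tp1 : Nat := (nat_lit 0xfff04562c11ec4001c3048e48121ca0093f04071000c4d0014204796812a1c00162043f3c11af2000230405301038300b3f048444037470095f0469841072000142042b9c113cd00bc104b45812a0100303045d5811cd10093f04b20c06dad0018104ba0c12e7f0073f046db0122b500023040c60106f10095f04068800ebb00c1f043d44119590095f041d30008d5001620439ec1192400162043f8811b09001c2046c901275f0091f043c3010f44001820258dc0bbe600b1f048d1c044f30092104802c11d110093f042f701092f00142004f98102ce00182041a0810cf50010204035c102550093f04754c112c7001a200fe30112420016204192010c74008e0048b5c1292e007230485cc12ad30002300348c1013d0018201d44c125c400323047d8012882001a20488e412a8c0055f0495d0124f8001a3045cac1191c008bf043060022890002304147c10a7b001420065c010488006ff04ac8c05af8006a30259f412645007ff0468e006b7b001220404dc1034b00142043664117d9000230406781042100163043afc118fc002c1013fdc05e6c001820200780a6a80018201d13809a8b001c10457b8069dc001a20183e4084ef0002304034c1024c0014200d22004f1e0000600000000000)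
noncomputable def Tp2 : Nat := (nat_lit 0xfff04a9dc1219d0063f0430e000b440093f003e2c1010d0014204a87412ec000163049cd812e5900122040e0c1079600b3f04544c10ead0095f049b0010dec00142044f3811f9700bdf02a93012d17000030457b4122020093f04b1ec0937b008c104b9e412e8300721045a0411b6c00120040170101200095f0410c8008c900c1f043a8011a4d0095f040d64005340091f0498301257000162046c281274c001c3049d7c127490090000e26010f0c0016201c0fc1246600b1f045bdc02d490092304510411e050093f0417a41111e00142041a3410d080018204084c10518001220409681059800003044b1c11e70001a30449081171c0016204583412225008ff047518122d50073f017e5c12c72001620404f410356001a20218fc12bc20033f0443f012afb00162004be4102ad005400464b4124f8008bf046a2c1172b008bf0430a0035c70016204147c10a7c0016004462011cfc006ff04955011c99006bf01d8881248c007ff0231681232100122040d2010735002620490c41286c001620406781042200161043af8118fd001a202153c12b630018201732011d9b00182014a5411953002df014c68122050012200445810238001220400e0100d2001420089d01073b0000800000000000)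
noncomputable def Tp3 : Nat := (nat_lit 0x16304a9f812ec80063f0456c4100f40093f040bb4019510016200a83010a2a00bc304a8541273700120046598119b600b3f042ed41196800c1f04b8ac118690014204acf012ee400bc3023c9c0aa4c001c004805412202009210486180937b001e201f98c128a70072204b448128c20093f02142012d9e0095f0423640052b00c00043d4410ea00095f0410e80030d009020466e8125700031f04a13c1274c0031f049d7c004b50018200e26010f44001620258e00bbe700b1f0433e010ba20093f047818006a60093f0471981027a00143043420032470018204146410a6f0014204167c10b620093f04472c11e70001a104a6a012d5b00182047884129ea008ff01aa101292f0073f0485d00836a00162041d2010e280002301d44c125c30033f047d8811c630016204138410a0a001c20464b412574008bf043df412384008bf00baec10e19001620429ec11329001420425b011186006ff04643812898006bf01c25c12646007e301adec08c5a001210437d410e0d0026204a1b01243100162041084108bb00003041da410e5d001620044941023a001820200e80a6c20018201d15c09a92002df0457b81197500160010aa8113ed0012204034c1024e0014200d6a8050bc0002200000000001)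
noncomputable def Tp4 : Nat := (nat_lit 0x16104a9f412ec90063f048728102a10093f041acc0282a00163044ae011e5700142040df81079100182043b88119b500b22043ab410bb500c1f0497d4124d400003044f4011f9800023023c9812d150031f04880811cd100b3f045a3412c98001e304a29c128aa007c30294e00c5b10093f04913c12b540095f04429c0030800c1f02bec012e1e0095f040698005330091f0466e811b59003010471241274c0031f049d24008030018201525411a330018201c10c1246800b1f041a10114f40093f0449a000b3c0093f0443f8100e3001e10486e811f8400182044c5411ece00142045244120700093f044b1411d54001c304a368129a70031f04787810c74008e204751806a840073f0195e012ad4001630462f0125130022200b1a010b4a0033f044e641286b001620449fc11e1e005420464b4124f8008a0045cac10f7d008a100d71c02ebb001e1047bac11ee00016204462011cfc006e10472641190e006a301d8880709700180044cec11ef800123040d2c1043c002c104355c10d9a001a30422ec108c200183014de8118fe001620415b010b090018201733411d9c00142014b3411967002c1014c68115ee0012204159410aff001220409301058b00122040064100640002300000000002)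
noncomputable def Tp5 : Nat := (nat_lit 0xcff04bb241219d0063f048e48106340093f043510109590000304796012a1800bc304b96412e1400182046598119b600b3f0073a812e1200c1f01d56812dde00160044f4c11f99001a202067012a010031f0457b41175600003045a34122c2008df0164b4128ab001a201eba4127c1009210214201244f0095f046fd80052a00c03026e000afb00095f0410e4008d4009000440a8119ba0031f049d30101960031f046c1800d710048004acb81268c001820258f80bbee00b1f042e8c102c90093f0427fc012990093f0424601003e0031f047e1010c2100182047b3c12a83001420026cc100a90093f04a4d011e6f0018200b1e810b4b0031f04a7a81160d008e004751806a8400723020da8065780016200e43010f67002220451941203b0032104718c113990016204787c129eb0079f0493e01279000122040b60106980018201c96c125060016204147810a7a001620473fc128f0006e104954c1289a00182042b2c113a40002304213c10fdb00121040d2c1043e0018104326810c9f00182042b80113c100181014de4118ff00180044fe40696a001820200fc0a6c80014201d28809adc002df00bde41195500142010aa8113ed0012000b40010b4100160008a3c107440004300001000003)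
noncomputable def Tp6 : Nat := (nat_lit 0xcff04a99812c8b0063f045cec10c590093f0445601115c00162044ad811e5700b61043b4c0455d001820496b412e1700b3f0496a002d7500c010493500755a0067f042bb000db700bdf0206bc12d1500301047344115ed00b3f0486c0122c2008df0472b807c06001a20285c00c5bc00b8302ace80ab520095f049028008c80002301ccfc125310095f04238c00eca0018204648c1249f0031f046c2800ed00031f043f7c016100091f01e5a412b2d0018201c1941247300b03041700102c90093f04499c01e0a00023040390102780031f0486e804b2000142002824100bc001420407bc104d50093f04753012a33001820451b81204b0031f04788412225008e20240240b638001820196741217b001620469a8126ca002220480f012bc40033f04abf00a39800003047880129ec0078101ead0124f800122041a6410d1500182013e6c1183f00003047b7c12a90001a201fc10128f4001400411c01094000180047dc012b0a00162043f6c10f4600023040758104a30031f04366810c9f0000304436411c42001420405cc103d900023044fe011fbf0018201736011da900162014b601196e002df043a740481b00162018428085050012200b40010b41001220404f01035400122001d0410050)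
noncomputable def Tp7 : Nat := (nat_lit 0xce104867412a660063f013204115e200922042564111580016204796012a1900023042ee01151600182045330120b300b3f0465780452b00c0304b71012ee80067f0415640167c00bdf023c9812a0a00182040a881063700b3f045a2c1159d008df016c8c12833001c201ebbc127c7001a202580812d9f0095f045ee810085001a20494c412df80095f0420f4018260090204982812dc10031f043f88018300031f0421440235f0091f047e24127200018202599c0bc1100b1f048d2012c1b0093f04781402d67001220403901027b0031f0456840322c001420408681052b00142041358109f5009230479bc11d4c0093f04812c128da0030204583411e210018201aa6c122e4001820229a40b0a700183049b2812512001820431ec1161700321020f2c0a398001e2042868112830079f0493dc12791008bf043e34123830018201c324124a7001620428d8112c3001a30445d01118d001420411c01094000023046688125f1007ff044cf00389e001630437d4111f00031f041bc00305300023042b80113c0001410405cc103c800182044fe011fc0001820201140a6ca0016201d2bc09aeb002df00dc8c1161400182010af4113f000163042d0404d3800142008a3c10744001220030e40142d)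
noncomputable def Tp8 : Nat := (nat_lit 0xfff020a5c12a660062304316404c8100003047318128bd0016204a86012ebe0016204172810bb600b2104b01412e1700b3f043a8c11518001c3046100124a80067f042bac023f700bc10206bc08f2600182043184115ec00b3f0432dc121b1008c201f01805b23001c20285e00c5c6001a202170812b830095f04360c1018b001a3046ac0126ff0095f00968c104200000304928412dc10031f04214c0268a0031f043f84036f70090001e5a411f89001a201c1cc1248300023048d2012d4a0093f04510401cde001220409e0105e60031f04309c02014001420414b010a950014204495411def0093f04753412a300093f04a69c12bcf008ff041a5412cc9001820240740b64900162007484105d500183049450126ca0018304585c1203a00182014a441194b001820408381050e0078301ead4124f7008bf045c9c11aab00102045644121a7001a10428d810d5a001c200f7ec11174001420444c811c94002c104689c113a5007ff01045810f460014200579c1036d0031f04366401ed5001c204710811f8a001420420fc10e5d00182047efc12b60001c20173cc11dc10012204053010384002c101206c03723001820184800851f00183018ca806e090016200d73c050ed00122001fc410069)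
noncomputable def Tp9 : Nat := (nat_lit 0xfff02098412a780016204315c115de00cff044ad410b8b00c4104aa7412ebe00163042ed81150b001a2044b3811e7c00b3f0484181195d00162043760118400067f044f4c107bd001a204a7e412eb700122047c9812acb00b3f04b2641168a0022201f0ec1284000b0204ab900c5ff00162047ecc114260095f041b881040700182040cdc1071e0095f00e8c41083c003020491fc12db80031f009794108c00031f046c200526a0090002aa5c09ff2001a20259e00bc2100b1f02214012d4a0093f042ce8011d800023040a1c106020031f041860013e600142040b181067e00182041320109e30093f0479a8129350092304812c129a7008ff04889810d110016201ab48122f9001a001973c121380016200b3a810b940018104585c1203c0018201002411295001e1044a08112fa0018101ef6012446008a3043e3411727000030430ac115a2001a004a8c412a90001e004463410d3e00162047264128950016100d6e410dfe007ff043f6c02a9300023040060100600031f045f640131c001c304710c125cf00160043ee8118ff001620415b410b0a001c20201700a6de00180014bcc1196a001e304337010b7800182010bf0114010016200cdec10d6d00140008b3c1075600122003558015e8)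
noncomputable def Tp10 : Nat := (nat_lit 0xfe2020a5c082610063f01b490121f100cff047958114ca00922042cc8111570093f041718006860018204790c12a0300b3f019014125a70000304610c124a90067f047e6410ee6001c20432d0116840031f047c981175500b3f04b5c8122c1001a20285f412e76006a004688811f450093f02580812b830095f0436081089800182041c7c10deb0095f040f700259800162041de010e810031f0441ec018000031f049d2c11935001a30146e411891001820113e0114f700b1f02463412c1c0093f04510800ac3001420403a0102860031f007700102ce001420433c0116f00018304278c104d30092204753411e6a0018304179c10b4b008ff045838117210016202415c0b67700162042f18115330016204536c120c9001810488d012bc4001820478cc129f400182042974112fa001a2045fb812446008a3048a30126fd001a204568810e71001630410ec104af00122040430102ea001810411b81062b00182043b48119a1007ff04213c01af500122040180101310031f0490c400b91001c104710c125d000162040f0c10817001600435e4113fa001220400441005300122041e6010eaf001a1045b2408af9001820185c8085810016201368406e7800122008b3c10756001220023441008b)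
noncomputable def Tp11 : Nat := (nat_lit 0x22204a67012be80063f04577812393000230110cc114ca000030450c811ff70093f042ec4003d2001a2047a0012a0400b3f0467040451d00c1f00e7f012dc70067f044f3c119bb0093f045a0401b180031f044d8c123af001a201a900122c1008df04a2a812834006bf046884118ec0093f02170812d9f0095f045ee011045001820461a0124d00095f04210c03a30003030495e412db80031f046ee800eb10031f047ef012495001c00266640bd7e001e204ad8812c2100b030221400918d0093f04802c0065f00142040a1c106040031f041a3402eb100142045bc41233f001c104a3bc129c40000304753c12936001220409e4105e70000304192810c7500182012b10116c10018201973c121380000304832c12c120030004af0c125c300183044a4c10a1c001e2044a00112fb0028201ef6012794008bf047fc01228b001810439c410e760031f0028a8101a700122040bac106b0001830444c8115c7006810493ac125f3007ff0097381052100143040db41033f0031f04a1b0008ed001e3047e2c1281e00160043e1811a91001620435e4113fa00122040448102fb00142014bcc1196a001e2021b4808afa00162010bf8114020018200ce1410d6e0014200d8a00516100122003b2001824)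
noncomputable def Tp12 : Nat := (nat_lit 0x28204afa01299c0062101b490115de00cff04a8600443300c4104bb0012b8f0093f04542c00685001a204a81011e8000b3f014e881150e00c1f0492ac0568a00663043b98113cf0093f0432c802aca00301045d541136300b3f048f1806a400026104a0d012841006bf0151901253900922025808085c20095f04902011b7c001a1041c7c10de10095f043f18056d0001620464bc125790031f049f6c017ff003030464d411fbc001a201c7b8124f6000230214fc12b620002301bbe41240e0093f04744400ac40014204180810c060031f043420046fc001e30478401233f00162042d90114950016204471c11d4e000030417a410bdc001620431d41160e0018001ad1c122ff001a2022a780b0d4001a20438f0118cf0031f01d44c12bc20067f008de0129f400003044bf411ea80018104911807bda008bf04599412b89001a2041dd010e760031f0410ec01064001e304a3d0123b9006ff04a2681223d006810497c8124ec007ff042a1803a7d001a3046fc81254e0031f047190005430031f04701c00e30000230401e810171001220052501030b00122041b2410d5c0018201d35809b1d00181045f6012311001620185d408584001820136b006e860002300496410293001430405fc01865)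
noncomputable def Tp13 : Nat := (nat_lit 0x162042db8114a400fff048c5406d2400cff04baf8062d10016200b33010b8a0093f042ed800b040002304791012a0400b21011474053a200c1f04610c11ac200162041ef410ee60093f04198810a920031f0434bc10c6100b3f01b6bc122c6008df04a29c12841006a30463b00546400182041fc010f420002300ed9411062001a3049340126fe0095f046b9c0794c0030204b6ac1257a0031f049d4c0264600023005a2010399001a20260500bd800022304b08012dba0018201bbe4124100093f044668006610014104301810bdb0031f00c91c1159f001e3048cfc11e0f0016004526c120750018201ff4c129370093f04b56c12c6d008ff048de810c75001c202439c0b6bd001e20198b8121b2001a2046340125220031f0218fc125c40067f0478cc0371900182042978112fc0079f0210181280a008a3047fc011665001e20430ac1120b0031f0412bc009d8001e3048eec128f4006e104954c1223d0069f044e90125f1007ff044cec10fdc001a304953811bf10031f04a1b4003160031f04a078008d9001420401e81017200163040c2c1022b001400026681005200162014c7c119770018301bea0090ed00182010c28114140016200ce3810d7100181011ae40517b00143006194017c4)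
noncomputable def Tp14 : Nat := (nat_lit 0x162006840104c300fff01adb01239400cff04aa74120af00162045324120ae0093f0417280124300142044a9411e4200142005a241039a00c1f049c3010dd9001620469d0126d20092000ab28106620031f045d54115ec00b2301a90006daf008c001f98c12841001820156c411a96001c30271cc12689001a204418811ba1001a1049340127000095f01e8b012717003020495e812dab0031f046c581088700162040e64107c2001c104acac0bda90018204839c12c200018204903812d850093f0425d0003bb008e10427f010bb20031f0486e4020270093f04783c010af003bf0425a801c5c001a301ff501292a0092104a6a012c6d008ff04b47c1064a00182012b58116c2001e2022c240b13b00023046340125210030201d44c0863f0067f044a540529100182044bf411ea90079f01ef6412b11008bf04ae20126fd001420049c4102950031f04077c005d0007c104a500128f5006ff0431f81252a0069f04668811f70007ff047be011afe001a3046c701254f0031f0472a00052e0031f047e2c00ed3001420405c4103d80002304031c1022c002420173f81178f0016201d42809b5600162012c20116d2001820186040858f001620136e406e9400142008c301076a0012200255c1009a)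
noncomputable def Tp15 : Nat := (nat_lit 0x16204276c1123700fe301b49006b6c00161048254120af00163045344120ae0093f042edc01d7f0016204791012a0500142041f0c10ef300c1f04b94c1184200163049b4811a7b00023044a6411e390031f044d8c122030018201f6b81287d008df01f0ec12e76001620463b01253800161043d0c1108d00003041020108980000304934412ddd0094201e53007a2c0093f04918c036940031f043fac11032001e1049604126180068202ef3c0bdaa002a2025e140aeaf001a104839012c1a0093f04123400660001a3042cec10c050031f0472b4013f40093f048cfc00a09003bf04121c01183001a101ff4c1292b00182017e3011f23008ff048b3810c760018201ac7412301001c20198d0121b5002c1048844118ce0022204803c12baa0067f0100241194b001a2010000112820078302101807bd9008a1047fbc126fd0014204186c10c2a0031f0412c0003660018200faf4111ce006ff0463601161d0069f04ac28125f4007ff017c6c1273e001bf043b5c11b1d0031f044508100260031f044f040183600161040f60103c30016204031c1022d00242045e3c05cfe001c2014ccc1197f0016201ad48090ee00182010c8c1141e0016200ce4410d720014200d9f4051cd00122003e700196d)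
noncomputable def Tp16 : Nat := (nat_lit 0x1800448e811dc6001a202330012ccc00cff047bd0120950002300b72810bc70093f04545810601001a204a8ec12ebc001420467241261c00c1f04b7bc124aa001820108a8113d50016204287811298003010457b011363001820290c80c828008df0285f41284000122040230101980031f04231c0272200142002320100850018204619c124ce001a2019780121a20093f04b6ac0231a0030304222010feb0030304ad7c12e390018201ca2412511001a201d6e01261e00b1f04b068117be0093f042fc800ac50093f043014029a90031f044520020280093f045bc4100bc003bf0065b81025b0092202a2741292a00180047c9012aca008ff045a6011610001820242c80b6dd001c2022c3c0b14400162043190115f7002210480401203900662014a4404009001e304788811f24001820458b01224c008bf04913812b87001e204482c10c2b0031f0426d4005d1001820171a811d56006ff04390c1223c00681020fdc125f4007e1046bf805f1b00003043b5c119a80031f042518100880031f042b8002691001220401ec10174001620408b01054e002420201a00a6e5001c201d48409b6f00162012c30116d300182018684085b4001620136f406e9800163042f1410e9c001430069b01020e)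
noncomputable def Tp17 : Nat := (nat_lit 0x1a200fd6c11239001820219f812bd700cff0452d412a9e00182042f1c115340093f042ee010c0300b7f04791002cd4001c202702812e3b001a001c4ac124aa001820181b011f9c00162044a6411e3a0093f0414e40044400023048a1412cf3008c201f0ec0a17d00122041068108b200023043fa411b1000140040630103f20018204933c12ddc001a204868c12c920093f0495e8015e200263046d881246900003040fa41085b001820263040be18001e2025a5c0bc3d00b1f048388124110093f0425d400ac50093f00b954109fc0065f0472b0014580093f0433c01021a003bf04168400f9e0092302988c0a89e001c2047a7412a53008ff0432f81222a0018201acac1230900182019b50121c00071f049488120cb000230217f012bab001c201c774124ed001e1047a9c11360001630432a81162b008a0047fbc1244e001e20439c4115a20031f0447dc009da0018201ff8412940006e104587410e430069f0273d012b0b001c3046bf807a90001bf043fc4119a80031f04450c101910031f00ad48108c200122040f681084000162042b40113ae001620407a0104c50018201c1ec1248a0016201ad60090f500162010c9c1142000181010ce0114180016101166805297001410069b001abe)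
noncomputable def Tp18 : Nat := (nat_lit 0x14204180c10c0700162042d7011478001420416ac10b79000230409bc105d00092104180410bb800b7f04a81401c7700142041f1010ef4001a201c4ac124aa0018304921c12db9001620478e4129fa0093f042a940027d001a201f80c12881001820444f011ca1001220422cc1106e001a2043fa411b1100142040630103f20016204489011db400003044f8c11fa90093f0464bc00d5300261046d841246a001220405f0103e80002304925012dbb00182012974114f600b01045ef8120e20093f04466c011db0093f042ec801d830065f04a2a400c560093f0419f81052c003bf042da00197100182044b3411e79001c104ab2412a53008e204584010cbe001820243000b6ed00182022f800b22b00700046340120cb0031f00e89412baa001820194941214f001a2042a8c11360001610125d01162c0016200b74c10bcd0002301c324124a50031f04762001068007df01334c128f00018304192c10c4a00683020fdc09cf4007e102a5240a120001bf043b5411b1e0031f04251c1040f0031f0422ec01b740012304210010f6e00163044fe8113ae001a001748811dcb001620408e41022700160012d10116e200162018690085b5001a30186d406f1a00140008e441078a0012200283c100c1)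
noncomputable def Tp19 : Nat := (nat_lit 0x1420455ec12188001620451e010b5c00142042de8114b50014204174010bc00016204180410c0200b7f04baf002cd100140043bdc119ca00c1f0494640712b0078304b6e412b3f0093f04b450129fa0093f044d8c0016f001a20107041139800201044348110f1001620422d41106d001a2046c401274f0014204102010899001a00476dc1298700023009f2c109320093f0495e4007ef000230437041180d00122040fa41085c001c2048b6c12d24000230453d8120e500b1f00dd4c12d850093f04744801ce30093f04171c012460065f0472e0007520093f040b1810a95003bf04526c0285b001800480cc12a39001c3047a8012a530016204583c122280018201acf01230c00182019b94121cc0002304006c100660031f04803c056bd0016200581c103720002304171410bab0069f0465c81224c00181047f8c1153a001e304869c124a70031f044a4801aa6007df0473fc032e6006ff00bcd0121e3001a20466ac125fe001e302075011ed1001a3043fc410ed50031f0411cc108a50031f041084010e90031f042100025a000162005ce8103c4001620427781123d0016204151010ab700142012d10116e2001a2010d1c1143a0018000d1b810d8a00122008e441078a001220042d801b22)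
noncomputable def Tp20 : Nat := (nat_lit 0x14004862412c7f0016204522c1206b00cff04a2f410b7a001810454d011527001620455e41218500b7f04a8ec04439001a1043bdc1141c00c1f01ca9c124b40093f0460700231400923048aec129fa0093f0457b00027e001a004a20812e88001c104728011ca9001a2046eb41267a001a3049d3c11b5e0014204226011045000230141e41187f001620424c8111220093f04b6e000d50001820437041180f0012204216c10fed001020420d010fad00182042e90114f500b1f049038052e10093f047a7402d6d0093f040ae801d840065f04453400c57009220414b0102c6003bf0481d41096d001820473a4128e1001c304ab2812a5600003047b8c12a910018202435c0b70700182022fb80b2340014204006c100670031f01878811acb00162041dd810e780018204171410bac0069f0458b0125ba0018104850012b7b008bf045644035c80031f04286c02a1e007df04462010d36006ff045730047bb0002301d2c4125b2006df044c68026c800023040e40107af001800411cc108700031f04067800a310031f040f68017950012200377c101590018201748811dcb00183047ce011fc20016201ae6c09131001a2018704085d6001a2013be406f1c0014200dcfc052c300122002868100c5)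
noncomputable def Tp21 : Nat := (nat_lit 0x7e304458c1157d0018004af9812efa00cff047318114b60018104849012139001a104861412c7300b7f0479f0114cc0093f045070002ce00c0101c4ac072a70093f0492000368b00c1f04bae012a170093f043184004450064104b3d012e89001a2047280128a1001200441b011ba900023046d7412794001a3046e8411b7c001820141e41188000163044488113e40093f0491fc015de001820460341246b00122046c601275500102043eb811ad0001820453d804a5d00b1f01bbe41196f0093f04811c0451f0093f004da4106020065f0425280145900142040864104ef003bf0452541118700180044b3011e710031f01000010c730016204aa4412229001e201ad041230d00182019db012204001420401981014000303015af4061e2001800464881256b00182042eac11507006800465c81162c008bf0257e4124b1008bf04869c050e30031f00a71810a36007df0425b41175f006ff011eb0115e7001a20496c8125ff006df0429d00185a001a1046c8c125fb0031f044160108700031f003b34100c80031f0405d000e6b00122040e88107d8001a20202480a70f00162044de411f3800162012d5c116ea00162010df41144f0016200cfa010d8e00140008f5c107a20012200432001b40)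
noncomputable def Tp22 : Nat := (nat_lit 0x7ff04862812bb40000304522c1206a00003042dec114b600b20042e3810bcb00cff00decc12c7300b7f044b38120b30093f043bdc004c9001a20215bc12b680093f04b6e4051e000c0304a7e812a170093f0457b400748001c2048a2012cf4008df04a16c128a100122046ea0127d4001c201eadc127930095f049ff011ba1001820461fc124e80002304157c10af90093f0464c402313000030460641247a001a10464d811fae0002300cdc010d610018204839412c1f00b01014b8406ef90093f047a80064070093f04301800bbf0065f0411d0020c40092304145c10a20003bf042d9011cfe001420428e4112c60031f00bd7c11282001620488a412a91001e202437c0b70e001820231f80b2be00163040d581035d001820189101204e0018200aff810b1b001e3047aa4120fc0068002352009b42008a301c460095f9008bf04929c0725b0031f044b0c04006007df01335011187006ff0487e806747001a20497fc125b2006df041468026c900162040e40107b20031f046e4c026240031f0408bc0182b0031f0401ec008970016204206410f1a001e202028c1299e0002300de5410ec10016201aed409153001620187f40861a001620138cc06f2d00142008f5c107a200122002b18100de)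
noncomputable def Tp23 : Nat := (nat_lit 0x7e10480741218a00162042d6c1148900cff04456010b7b00b2304b12812c0a00cff048614023e200b7f04b01411e7d0093f04672800823001a202aef00ce730093f04acfc0738b00c1f01794812eb70093f04734400c450065f01f80c12cf3008c00472801285b002df046ea011a9300282049e5007bd80095f046f80127d0001a2047f8012633001420408cc1055e0093f04928003689001820437141181800162044f9c11fae0018200cdc010d6200023014f7c119df00023048cf012d440093f04a9581210a0093f042f6c006f60065f006520106bd0002304146410a6d003bf04a3bc02ca500162044b3011e710031f047888047f60031f04147c02a2e001c201a7f4122c000162019dd81220b0071f04832412512001820219ac0acbf0018204504411fd70018304541c10bef001c10489ac12996001620150ac119f6008bf01c324125060031f0479ac05ddc007c10425b404cd4006ff0457a4121e200682046a081265d006df0429cc03be000162041ebc10ed40031f046e2c03af60031f04154c026830031f0022681007a001a3041f6010df6001e304a6781293000162006748104a000142012fd41171700182010e98114670016200d0e810d9c0014200dea0053590012200477401ce7)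
noncomputable def Tp24 : Nat := (nat_lit 0x7ff04862412bb5001a1017af81148900cff042564114b700b2304b00812c4a00cff0455e40166900b7f04b85c12a3c0093f043bd000dab001a202163012b6e0093f047e700735100c1f04a7e4082010093f0445900143f0065f048a1405ac0008df009d5c128a2002df0441a0126ed001620061901042b00941046e8411be000183049144126320014204157c10afa0093f0460e810e5f001820460641247b0030204b8e412756001820435841179300182014f7c119e000b9f01922012d440093f04879c12c340093f041798004120065f04353c028200093f002fec12a83003bf04a710043f8001820479e012a3800023011fd81160b0031f0429f004080001c1048b00122ff001620232180b2c8000230031ac10117001620189841205500183047f5c1256e001e1047aa412175001810477081216b0016201d90412652008a201c96c070c90031f04a8c408168001c20474e412924006e1019d1c115e90069f04997812600006df044c601109b00160043c04119a70031f044138057ca0031f00dab4108bc0031f0405c40050f00003042b4c113b1000230170f011d4700162042684111e40014201b1e009225001820188a00864e00162013aa406fb700142008fbc107b40012200384010164)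
noncomputable def Tp25 : Nat := (nat_lit 0x7e304807812189001e2044c2011eb900cff0482580282a00cff0417400163500cff04300800dab00b7f0496b412ec50093f041f1001668001a202af640ce8b001620469cc126d100c1f02a08012a160093f0425740209d0065f01a47411c85008df047284018c1002c3046a4c1106800281049d3c1280b0094102884c0a19d00122045fd41245100142042be4113e400163043b6411902001820491e812db400302049d5812e3900023040c24106d70018204677c1263600b9f048cec054d400921048428121e70093f0409e0006f50065f045e00109490093f047b3c013ca003bf0477bc114940016204472811cf10031f047c901160b0031f044cac112c90018201ad1c122ff00182019de81220c0016204045c1030300162021a3c0acdc00181047f5c1256f00023040a04105f5001810485ac11dc30022201ff5c1293a008bf0462900470d0031f04aa40129f20079f0457c012924001a2011eec115e6006810467f8126000018204426c11be2002030149a010f700031f00ed2011b440031f00d30810e6a0031f040f60008990016204154010ad2001c204751c12930001630475b811d9d00142012fd811718001a2010f04114750016200d1d010db60014200df140538100122005c20024cb)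
noncomputable def Tp26 : Nat := (nat_lit 0x1a3041ae010b3e001e3047ae41131600cff04afcc03dd600cff042f0001a9800cff0418040166800b6204a8f0125ad0093f040e68023e1001a20216c012b7f001a201cd441253a00c010208040a8200093f04458c032fb00641016b000691d008df0444f0027560031f040dac103c2001630061c81042b0000304963012e07001c101647411bf0001c3044f901112200161043b60119030018304b6d012dac00122046c641275700142040464103080073f0467801242800b9f01af0c11a450093f04515412c330093f040390004300065f048f441114c0093f044c54102c8003bf044954120730016004754c128e60031f04ab28122230031f047b8811e75001c102d65c0b7110018202322c0b2cd00162041b4010d630002300b2fc10b8800182041cb810dff001430403a4102800000304556c1216a00142005cd8103bf008bf0490bc06676001830205a01237e0079f0474e412208006ff0435a4115e60069f0497fc1265f00182046f881109b00202043dc011a7500301015f2803b480031f046444021d60031f040f0c00e6d00162042b4c113b200202021fbc0a64900162042680111e20014201b1e409227001a201891c0866e00162013bf80701900142008fc4107b700140003b4010196)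
noncomputable def Tp27 : Nat := (nat_lit 0x1a2042cf811450001e304aa1012ecb00cff04aff005b5000cff0454980105e00cff042ee0023e100c1f040528011e80093f041f0c107ae001a202affc0ceaa0051f0469cc1253a00023047b0812a750093f0455f804ced0018201f82012884008df04251003caa0031f04205410766001610423b0110a0001820465041258a001620442e411c0a00aff047ea412c920031f043b50004f40093f04605c0348f0016204152810ac900142040c24106d80073f01be501263800b8301535006bc30093f048420120260093f041154004300065f045e1011cb70093f0429bc10682003a0045250112550093f04a39811e720030104a9581222300023044b2811e75008630489581269b00182019e301221b00181048324123e1001420403541025100182046210124f100122002c20100e900160040b90106a30014204204010f7e008bf01be7c121bc00263020914129f2007800457c011d39006e2011eec10d69006830467f8125ff006df047b4411be20002304203810f75000230068bc104c70031f0486b0034c30031f04205c0179700162044ec411f7b001c3047ae0129a2001e2042bd4111e3001620130901172c00142010f50114790016200d23c10dc20014200df200538600122003b4010196)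
noncomputable def Tp28 : Nat := (nat_lit 0x7e304b1fc12998001a200a99410a7200cff04829007ea900cff048490009d400cff00b5d4107ae00c1f0401a800acd0093f043bcc10ed3001c2029da012eb10051f01cd44126d100023046d94127990093f044cb81176c001820292140c86b008df00a010110f00031f043e0810e5b0031f0410fc016140018204962c12e06001c20491481281f00aff04868c12b490031f041ebc0086b0093f0491e8021b500163042b241054b00142041b5c10d700072304678006f940002302531c12d800093f04543812bbc0093f0406b4002730065f0489f410d530093f04146410cf5003a004461c10b640093f0473c012a340016204582c122230031f04aa44112ca001820458d8122560018202327c0b2e00071f049b28123e1001420409a010591001620089701073100122040a2010605000030434b01174e00142046a4012651008a30199d806f9f0031f047b7c08245007df00cba01220a00162045e68123e600142043c5c119fe006df020750127fd0016204203810f7600162040798104be0031f04566004f6e0031f043e18025a40014000585010374001c1020a140a725001e204478c10af50016201b2c00925f0014201897c0868d00162013c9c0704900142008ff0107c1001420060c002689)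
noncomputable def Tp29 : Nat := (nat_lit 0x7ff04772012c7e0002300a99410a7100cff018b04128c100cff04b128005ce00cff043b4c0452b00c1f04052c006640093f046724119a4001e102b11c12ef3005020469cc073510031f0174c0127990093f047b64040f600a9f048efc12897008c200f2a802804001420057601036a0031f0423b000d7400162043640117cd0031f0470280246e00ae0047ea4121a30031f040e4000e200093f04b6d0014fa00162042b281139f00181045e4c117a2007230490a8126370014204047410311009230480981150e0093f040254001690065f04595c1178500922041a0810519007df042d9011761009230479c811cf000102040b4c106930031f0488a411e7600023046250124fb00182019ec8122300071f0494501179500023040354102500018304622c124f10012204181810c09001820485a8123aa00203048a281270500182043fbc11b1b0031f044ca005e87007df0457c404cd500682048f90123fe00683026bac09cbf006c1046f88081d400162043dd411a7f001620427581122a0031f011ad81182a0031f046a4403a420014200585010374001a20175d011de500182042bd0113de00183045cbc1173800162010fcc114880016000d288108570014200df540539700023003d14101b2)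
noncomputable def Tp30 : Nat := (nat_lit 0x7ff04862012999001620046941026900ce301faa4062c100cff04b008009d500b210114ac10ea500c1f040e0c00acc0093f049870125f70000304815012bd60093f0181b011a7300303046d9405d300093f044c8802a7e00a8001f8f8123bf001e2025c1012dc800142041d9410e5a0031f044280008dd0016204908c12d8f0031f04a07c016ce0012200264c100a70031f041ec8017210093f04b6b0021b400161047da812b05008bf040f481030700182008cc01077100003043614117bc00122045154120260093f0400a4002740064304354c1165700003041a0810cf4007c001335010b6400142044b1c11e720010204343c1171d0031f04583c12a360099f0493ec11636001820233380b3080071f0462d810d6300181021bc80acf000182006fb010576001ff04a7ac1218d001420413a410a17001c101e2bc125690018201d63c1260e0031f0429e804090007df011f341176200162043e1c11a9b001820149e011947006c102a1200a218002030469fc11a75000030413b010a1800302013db8046b60031f0156c010fba00142040dd810780001a20203d80a76d00182044f7c11fa400183045ce006cb800162018a20086bd0018200d28810857001620094981081c001220406c8101c9)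
noncomputable def Tp31 : Nat := (nat_lit 0x7e304772012188001620416ec10b9600023005e8c103dd00cff0482b80106000cff01157410ea500c1f041e58011e60093f04b8ec12e30001420451c81204f0093f043dbc0422a0030204a9d412e6c0093f01037810a7e001a201f8f812897001e201f51c128690014004396c118f90031f046fbc0053a0014204021c1018f0031f04914800dec00122040794104bd0031f043b60103bc0093f0491ac014f900182013d1011813008bf0405b0106d7001820439bc1191500182045ef01233b0016104515406e060093f0402500043200162041afc10d530093f044c2c12d49007df045258120710093f0473a412a3800102045c7812378003030479d81160f009830462501163600182019ef8122330071f04944c106d0001820189e81205f00182042c6811410001e004787c1218d000030430e4115b0001c10495a4078b000162006e2c1055b0031f04147802a2f007df048ef0115f0002df0435e411a9b00180046fb0125900071f047b5c128020031f0469fc10efe001a20428601122b00162006804104c00031f0463fc0396200162005848103750020201761011deb0014200450810246001a20131f811738001620110441149f00182013d14070710016200e61c055e4001a200921802795)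
noncomputable def Tp32 : Nat := (nat_lit 0x93f0455f40482800162044c5c114e200182040f741084400cff04532401a9b00cff041e4002d9900c1f043aac01cf60092202702812e300016004818412bd20093f0469d002b630030104b9b012ebb0093f044cbc0480900a8201f8f8123bf0002300f060110c70031f046a4c118f90031f04a02c008de001420406401040d0031f045fd401561001a004274c10af80031f04640c1080d0093f046034021b3001820491dc12db2008bf0435c0103d1001820464581255c00b9f045ef0038c30092304b0c80ae7e0093f0406b00072b00162041af810d510093f048d1811ebe00023045258120740093f0479e0128e1008ff04863c11720008ff007d3412a350099f048c401283c001820233780b31c0071f0462f01030300182021ac40ad030016204500011fc80031f00a71010a370014204188010c36000230464781256800162042bc8113db0031f0429ec01ab1007df045d9012209002c2043e1c10d7900182046fb01259000023047b5c12a8a0031f0469d4119db001a30448a810d0a00182009eb8109290031f014de410f7f001a0041df810dfb002020204200a77b001400415f404255001a201b2e0092680016204527c044110018000d29810dbd0014200956c1082600102000c9c10005)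
noncomputable def Tp33 : Nat := (nat_lit 0x93f04302002f820000304833812c1300182043f2011ae900cff042e2802a0c00cff040df401d0200c1f04659002d850016202236012c4b008ff04818401c0e0093f049b4801b8200c4302ab480cb6c0093f047b94067b400a820293100c89c001c200f060110c80031f0441a0125470031f049d3c00ed900142042284110520031f0491440225400122002258100770031f04397c10f740093f0437000348c001420043801022e008bf045e8810834001820439b81191400b9f043614024a10018204841c12c310093f04115000bcc00162043548117830093f045bd812a73007df04524412074009220473a411e78008ff04560012379008ff0479d003103009800470c41231000182019f40122350071f0438ac10117001c20480fc12bc700180047f5812b670031f04147001a6a001630430d8106a600142046a3c126ea00162047e8012b3d0031f044ca40106f007c10457c0117640016204487411daa001e201011410ac70071f01eee012a8a00160014f50119db001a204131c109e1001220403fc102ca0030300e58805379001a300ea741056a001a201762c11ded00003042c9c114240018201324c1174000162018a94086e0001420086a41070c0014200e7440564900140003d30101ae)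
noncomputable def Tp34 : Nat := (nat_lit 0x93f0455f001e50001620418c410c5300182046ba81272900cff00b33010a2a00cff040524011ed00c1f0496b404540001420496a412e13008ff04af4802c320093f0469ec010f10018202069c12a020093f01955012231001820472701289c001c204431c11c22003030463e4110680031f046c400183f0014204414c11b8e0031f0498c80357e00003040f54108360030104203410e5f0093f04603004f2300003042b58113b4008bf045e4c10fae001e1045e7411e2700b9f041b90107f400b5f01890412c310093f04245c0137e001630459101178300920047af8116f6007df04525010b620093f0480cc12914008e1045c8011580008ff044b2004a3f00182012c14116cf001820233c80b3310071f041d2400c690000304811012bc900182047f5812b67001600069a8104e000122040424102e2001820148f81191c00003042bb0113d20031f047b8001ab2001a20457c012208008a10487f0129800020201804011f660071f020a841280300162014f50119db001a10448ac109e100122040b2c106850031f0400880050d00263042c18113b0001a202043c0a7860002300de8010ec50018201b4ec092fa00162011068114b80014200d29810dbd001420095b810829001020400a810096)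
noncomputable def Tp35 : Nat := (nat_lit 0x93f04862402f830016204576c121ee0018104b95812e5b00cff044ad801c7300cff040df800ad000182043bd8119ce00142043aa01195f008ff04813c0434e0093f043dcc01b810018202a06c0cb780093f04b33c08a170018204a27412e8d001c204a0bc12e810031f0499ec125460031f043fa010426001420404d4103470031f04677805079001220405b8103d40093f0492841080d0093f0491a81180e0014204154810ad5008bf04358411ad000162040f301082e00b81009284106e400b5f04841c086680093f04115c102bf0083f04325c12a4d00182006b3410513007df0449541059f0093f0474a006214008ff048f3812378008ff0101fc1169700982028ac40b71c001a302b2f80b33b0071f040d5c01476001a104864812ba900163047f24127040031f006b6c104e000122041a9010d2b00182046474125670016204156410aeb0031f047bac01a4f007820457c011d39008a1049b9c121fc0020204a83012b010070301eee0082a10031f043dc0053d4001a104278803f3f001820129b0116ad0031f0401f0002f700263044ec011b07001a201768011df20014000de8010dd6001620132ac1174900162018ac0086ec00182013d20070720014200e7bc0567700122003d30101ae)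
noncomputable def Tp36 : Nat := (nat_lit 0x93f04b1fc10c7c001600487cc12cb70018304b95c12e5a00cff04795c0119600cff041e44006660018204988812e3e0018301155010ea8001a0010d38114390093f0420300167c006c003172c0cba10093f024f3012c680018204aab81289e0091f0472bc12e810030304688c125460031f04215c0272200142041cd010e0b0031f0498cc1187f00122040f54108380093f04b704103bc0093f046d841246c00142042b58113b5008a2043eb810d610018200dad010e7000b9f04b60009d5b00b5f04b0c80acbc0093f0424641066f0083f047a5c11655001820429981130a007df0427d410b630093f016f9812034008e1045de812378008e30128fc0407f007e30281e80b71c001820121281162500703005664014760018004460411cec00122040084100780031f006998102b0001220434b01174f008bf046a3c1256700162042bb0113d40031f044cd4029a0007df01aa701292500182043df411a8b002000495c812b02001e201ff68122870031f04202003807001a204278811244001c20471e4122e30031f0405d40050e0016004153c10a32001a20204a40a7a50002300d36410dd60016201b5640931800183018da4120c80016200d33810dd0001420096001082b001420063d8027a4)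
noncomputable def Tp37 : Nat := (nat_lit 0x18200b5a810bae001820450b411ff300003046bd01273000cff044ae000a9f00cff043a98003be00b0304b8f812ea100163042f0411525008ff0451c8114390093f040ef0023f70024204a5a012e9c0095f04a47c06dff0031f04aab812a220091f04a0bc128ac00182043cdc11a230031f00d288108fc00142043830118970031f047f80124e8001220420d810fb10093f0498281080c0092304603811b6100142044ed011f7d00162040c08106ce001830439c01082e00b8302531c09d5b00b4102b9f80acbc0093f0443fc10cd20083f044b9c1227b00182044c2c11ebd007c104167c109f50092301885005be60018200cc8810d4900182023684123dd00162012c8c116d90018201a01c1224500003040d841075400023010d84114450016300866c103d60031f004be4104e1001e1044a3c1174f008bf046474126ea00162044f4811f9b0031f042a0803fd6007df04a3900901e00161046a2c126d5001e200f160110db002c201ff68120df0031f040ee40241c001c30173d011d57001c2048b8c11c790031f040f6c0089800122040804104f5001c20176e811dff00162043b1411424001820133201175300181018da00875200162013df8070b40014200e8280569d00142003dcc101be)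
noncomputable def Tp38 : Nat := (nat_lit 0x182045424120fe009220450b41135200cff046bcc01d0d00cff0479680064900cff0465840022d00a9f04a5f8045f20018304b84c12c4b008ff042d34120000093f042034107bd0002304a5a012e9b0095f0474d804d320030004a27812a22009000472bc1282f006a004951812dfb0031f044234034a20016304383010e86003020461fc11fe00002300e96c10fc20093f04b8e010f730093f043fac12daa0002304605012475001620435801179200181043e9c119140016204201810f690002304040c102d50093f04719c116b900823045954112e70018004322811638001620040b8101f00002304894412ce400163045dec11790001a2048f7408da10016201adbc1231b001820234a80b36f0014204050810360001c2010d84114460031f0014401002100140004be4102ad0031f0407e40094a008a2046a3c1191d00003044f3011f930031f044cd81125f007c301fba80901e00163046a2c126d4001e20165ec11c440031f042e7c03c0d0031f005c6c107ca001c10173d011d59001c30471ec122e30031f0421080078e0016204153c10a32001c202051c0a7c7001a2043b04119860018201b6000934600182011184114dd0002304114c10914000230405a8103cc001420064b0027f5)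
noncomputable def Tp39 : Nat := (nat_lit 0x1800483fc12c2a00142042df4114ba00cff049cc002daa00cff04a874003ac00cff0496a80014200a9f04ba840642d0018204545c12115008e30450e410b4d0093f04397c10ee70018200fcc4112290095f0446d40332a0030304ba3412a2500023016c9c11caf0093f00953810f370031f043d0c021c2001a200b01c10b1d00182042c70114130018200e96c10fc40093f049e3811a7c0093f04918810858001a20460481247400160045e50123df008bf04789c11914001600469b4126a900aff028ef812d5d0093f04a1bc122f400183048a0012889001830458e411ebd00160041360109f40018001d404125a60031f040bf400c180094202cf8c09d09001620244280b7390018201a1581224e00142040d8410755001c20451141200c0031f0401e00089b0031f042828102ad0031f0413a40057a008a0048a28126eb00142001828100350031f047bb411df8001a20472d4128b2008bf046470126d4001e1047110127960031f0453b8110bf0031f043c0400e1c0002300f86c111890018204445411c7b0031f043e6000cb400162042b44113b00018001771c11e11001a1047e90125d30018201337c1176700182018c3c087650014204245010ddb00183015afc04c6b00162003dec101bf)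
noncomputable def Tp40 : Nat := (nat_lit 0x93f0483fc01d85001430452e81209400cff046bd00457a00cff04bb000022300cff04b8500022e00b1f04b8f80453f0018202225012c3e008ff0451dc12b9800921041ef410e5f0018201739c11dbb0095f04260c020be0097f01fe3412e8c0091f025c10128690093f04688c017610031f041fc0034a3000030406401040c0018204505411fdf00182043f0811ae30093f047cd8126da0091f0421601190500783049a381247400183048324123e0008bf044a141255b001a30461581249c00ae30248dc0a3be0093f04b1d012d2d001810489fc1288a0018104896012a72003a2045270111a10018201d404125a60031f041b2c013f7000230101e4112c00018201adc81231c001820236380b3d200142041d5010e3d001c004808c12ba70031f0405bc00e700031f0449fc106480031f04285c00336008bf01d9041293a00142040328102310031f04aa5c129ca0018200f6941113e00181043e7c1191c001e3047110127950031f04837c11c140031f04669c008680018200f86c1118a000030471f4128790031f042090014e800262046c1c1274a0016201771c11e11001e0047674125d20018201b6600935f0018200b41010b98001c00168f80712100023009100107d3001620064e402808)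
noncomputable def Tp41 : Nat := (nat_lit 0x93f04b0a802e5700cff047314105ab00cff049cc40648400cff04ae3c0013c00cff04b964003c000b1f04988802d8500b3f043a9411517008ff047ff8120540002300e4cc10f740018204a63012ea30095f04124c014550097f02934c129290091f01f51c12dc80093f0495180250f0031f043d0804f4600223042c74110510002304420011bc100181046b8c11ad1009210469f011f360090304398010858007830491d01268d0071f0462d4123e0008a104645011285001a3049270118550024201c5ac124c300921048bd012c740000304449c11c8a00023043338116b40093f04457403fd200183049698126b60031f0435740202b0014200a87410a35001820244300b73b001a30251180b403001830438f4051600018304a3b0128f60031f040f58017630031f04787c10c750031f044a3c0057b008bf01ff5c12652001420408c81055500303048210129ca001830444f803dc5008bf0469dc10f9f00023041094108c40031f01ff68128270031f0497ec004f20018204462411d00001df048d2411c7d0031f043e5c0219c001a2041df810dfb001820205500a7cf001820427081120d001820133881176800180011454114e40020200d46410ddf00122041f4c0259d0014200444810237)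
noncomputable def Tp42 : Nat := (nat_lit 0x93f0483f802f8200cff04a2f010b7900cff04b9680891900cff047fd80022200cff049cd80023000b1f0467380454000b3f04845411960008ff04af58114380030300e4cc10e5f001e204ba6c12ea40095f006664102f30096301fe340a4d300902025c1007d470093f04b7ec039630031f0468c41181600221042c7411053001a204420011bc20093f042adc023f000142040ef01080c0093f04602410e600091f0468d00382d0071f045e5010e280070201cfd01242b0002300b02c10b1f00b4104b05c124c30093f01a64012d2f0083f044b641288b0016200b8d810bf30093f0446840299d001420444d011c960031f045e400324d001420101e4112c2001c2048b1012d1d0018201a27c1225e00181046344118d30073f04741401c260031f00866c103c90031f0486341160e0031f045d3c0094d008a201d90407fd700142042b98113cb007e304744412088001e304a2c81202b008bf049b4c039db00162041094108c50030004705007fda0031f046c8c002e60000304123010972001c0045be411c7d0031f046aec0346e001a20461e8124e3001a3020868129f80018204483811d9e0018201b67009365001c2018ffc0878b00202013fac0713200162009674107d300142006ed002bae)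
noncomputable def Tp43 : Nat := (nat_lit 0x93f04542401e5000cff04aa7c114b4001420416dc10b8100cff0450c0003aa00cff046be4003c300b1f043bd81151f00b3f04b0f8125a9008ff04814c11fff001400093b41080a001e204ba9012e9b0095f041af000fb800182009f9410937001c202861812e7a0093f0494e0055b10018204605812471002200493f4127c2001a2046f04127e50093f044de4037c600142043dcc11a7b0093f0436f4113e70091f049a3410f0b0071f048f7c10748008a304957012d9600182042c7c1141a001a0021e5012c160093f048bdc08ee20083f04722c10a3f00162045ad0121770093f04527001a4d00003045764121ec0031f045dec04c0700142044b0011e69001c20175a411de0001820237780b42200142046344125240073f04a3d802c570031f0420940346c0031f0455fc122270031f048ea80057d000230130581172600142044f3011f94007ff04a72c128ff001e30480b0128b2008bf0469d80565800162042310110890073f01ff64124190031f043fdc004f1001220407281048b002000413d81066c0031f049c0c10d8a001c3042e7c113f3001a10208680a7f50018104767811f3a0018201339c1176b00162011378114f2001a10157e81184e0016200e8e4056df00122002848100c4)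
noncomputable def Tp44 : Nat := (nat_lit 0x93f042eb802f8300cff047bd41209400c1f0416c400e0e00cff042cc40064500cff043f500066e00b0001150010ef600b3f02225012e13008ff0451d812b9a00122005c78103ba0002301f46c128660095f04352801998001820444a011c8c00122043608117b80093f0463b011a96001820491c4118160031f040d20007900018304952812df20093f047ce405383001420469f0126d90093f047eb8034a60091f0491d0119e90071f045e4810356008a104957012d9700023040cc41071600b5f01c5b412c180093f01aad012d060083f04449c112d8001620455a4121780093f042dac0299e0031f044674115d70031f0435241172300102042954112f2001c201a8d411de10018201a2fc1226400003040b741069d0073f04a3b0043860031f043e6404ef3003030458381157f0031f0485a800950001820472681289900142047e4c12b38007ff04782c11d13000230456b8121c5008bf01559011ac00002300ee48110840073f01bc681293c0031f0421880086600122041230109730031f0413d8009870031f047548033df0020001ff6812287001820177c411e3b0018304767811f390018201b68c0936e00162018ec408828001a30157e80713c001820097d0108650014204089c10239)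
noncomputable def Tp45 : Nat := (nat_lit 0x93f00b5a810c7c00cff0452e81135200c1f042e040170400cff04161000a9a00cff04212c00ade00c1f04a8f010ef600b7f04b12c09c0a008e3047ffc11476000230093a81080b0064304ba1812ea40095f041ae402895001a201f9801288c00122041b8410d81009220156c4118ec0031f049a24124710031f0404d400cb80018304b7c8125490093f047678119b1001420440a011b570093f0464d804f480091f0460481263d0071f0435801013d00023042c10113f1001400404b01032e00b5f021e50124c400921023b8806ab4008200428fc111270064104a1dc121780093f04168c01a4e0031f0487b0109760030101301c10d490020200aaac10a8a001c204778406a35001820237e80b4400012204003c1004d0073f0473e0114530031f046af00346a0030304863c122260031f04556c00f91006ff048e04128990016304ace012b3e007ff0449b01290000860048ef4121c5008a201596005564001c204421011bc90072101ff6406f1a0031f040fb400e19001220425c8111960031f0419b000fe90031f04472004e28001c104837c12b5e0018202060c0a7fa001e204661c11f39001620135181178600182011390114f30016200d6b010e130018200eac00576e001a00072b002bd6)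
noncomputable def Tp46 : Nat := (nat_lit 0x93f04862001ce000cff042df41142d00c1f0416dc024c400cff0409280119000cff040f840120500c1f0479fc037ed001e002702812e3b00182007024105870092304bb9012e4d0064304ba7012dd20095f0082f010982001a204a23007e600012004902412d7f006bf046a6412536003030271cc124710031f040d1c014ed00683049f9412dfe0093f0448381260900142046d601278e0093f0149a81181b009000467a4118120071f041b3800d2300182042c10113f2001420404b01032e00b4101c5b408794001a0023b8812c3f00102042910112de00923044b1c111cb0093f0409700102e0031f0457641091c008e1048dd812c660020104a59412a5a000230445ac11cdd001c101332811643000230400401004e0073f016e28120230031f049c100219a001220456001218e0031f0485ac0195a006e004726812381000030408c810554007e304744c1126c0087f00f720123bd00003040f4810833001c3046f2411bd30018204504811fdb0031f0405fc101670018304740011d0e0031f040b2c009950031f04754406f1d00160009b84108da00183042c4411079001ff0214fc1248a0016201b85c093df00182018eec08836001620142fc0722c001600099101087d001420044c410240)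
noncomputable def Tp47 : Nat := (nat_lit 0x93f04772002d6900ce0044d4810b7d00c1f042e24038f900cff0045281026200cff04212801d2500c1f044b3c053b60092002702812e3000182042cd8114380002300d6a810e11007ff04baf40cac00095f0446cc03326001a20293a40c8b60095f04902411b7d006a00463ac11a990030302f00c0c1440031f041cd0021a500162008ac41074f001a20466c4126090093f046d60126d900923013d200526a00302042ae80541c0071f040c080159900182044fc411fb800142040cc410717000230105541134e0002300cd8c10d5f00102044b7c11e91001620406d01045f0093f004610101f0003030431481091c008ff048564123770031f04a59401aa5001a204257c1116a001820123a811643001220400401004f0073f04ae9c03e0c0031f047f24014e70014104181810bf00031f04770c0283800180047264128950014204155010ae4000030425dc1119c0087f04871405b3c0010204000c1001f0031f0443640269500182047f7012b750031f00619410343001c0047564128f10031f041a14005a90031f01d9741241b0014204068c1043300181042c4405865001e201c1ec0853f0018201361811791001620113f8114fc0018200d71010e16001420099101087d00142006f9402bf6)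
noncomputable def Tp48 : Nat := (nat_lit 0x93f0448e410bad00180044ce4116d500c1f0453100552600ce10046400114a00cff043f4c105d700c1f010218119cd00b7f02236012e3000182047ffc12b99001620438441189c007e102a18c0cac00095f0474c804d2c001a201fa88128b40095f04b5fc127b7001220401c41015e0018201d944126560031f0438300347a0016200d7f410e3600182043f0c11ae4009220469f011b5800023041c3c10dbe0031f04991012b1c0071f041b3c022a4001c3047ee00697100142041c5810dd4001a2044d3811f12001c104b05012d3000003044b7c11e90001620424a8111170093f04136000a92001c2043148115d8008ff045c7412c650031f04a96802a1c001a20445ac11cde001c2024d280b44700122040138101080073f048030028520031f04500002199001420048cc102800031f04a65803de70016200ddf010eb50018200ad7010ae3001620425dc1119e0087f0456b011cb500102040080100760031f0423e803b90000230468941267c0031f0404cc00ef0001c2047564128f10031f0433e4003500030301bc740765d00142009b84108da0018200afd410b110018201d52c09b830018201b9840943700162018f840886100182014384072590016200ec7c057f9001220045d810252)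
noncomputable def Tp49 : Nat := (nat_lit 0x93f04a66010baf0018204338c116d400c1f04829811a54001c2049adc12e4a00cff04410c10bca00c01014ed80408600b62027028088d8001c204ae6c12ef100162044f5811f96001a20207d012a110095f0446b41177c001a20294c00c8f70094304901c127b700160041fa010f31001820272900c1750031f04625c04f07001620463201251b0030104b69812de800122043fb811b1a00142040cb01070e00301047df4126440071f043584035ee001c204ad6c12d970018104506811836000030414b010a94001c104b4c012c1500100044bbc11e8f001620471f81287a0093f0427d0006400031f04440410c52008e10485641171d0031f047a8c04078001a2047374128d50016200b39410b9300161040c0c102df0073f04511403e0b0031f047f201070000183048638123c00031f0489ac1116800183047250119790018201087c113c80016204467011d130018201b630123ba001020405b0103d10031f009c8411084001820499f0125020031f0033f81019f001df04491011d020031f045be4005aa0016200240c100930016200f008110ad001810286b40a7fe00160014d2c1198d00142040460103060018201694411c72001a3014ed00729d001620099801089d0012200712402c8e)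
noncomputable def Tp50 : Nat := (nat_lit 0x93f010ee810baf00182044ce4116d500c1f022464126b5000230401cc1016200cff00ece81153600182046930126ab001800467201261a001e302b11c12ef200162047e58113d6001a202a1900cbbe009410134b0111ad001a201fa94128b50094104b5f812e7a00122040ea8107e600142043620110980031f0493f41180300680049f9812df10068004b7a01272600023042b281139e00142041c3c10dbf0090004b6c412b1d008bf043eb810e29001c3048a8812b5b00183047f901249d00142042a50113530093f04b4c012c3f008e204a36012a47006ff04a1e8120f40093f041354003a70031f0433b4115d800303047c8c122230031f044bc8112c0001420419f010cea00162011158114d900161041a7c106d00073f010d84111810031f04ad9c10db000181048638123c20031f04592011cdc001830497081289500183044f20113c9001610473d411d16001820133581176300102040f48108350031f046f240189b001c3043c40054920031f0410b001560001df04462811dd60031f0471f400997001620406ac104480002300f008110ac000230408a81054800142041e8410ec300141040460102ec0012200256c1009b0016200d8f010e480016200ed080581f001220047b01026e)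
noncomputable def Tp51 : Nat := (nat_lit 0x93f04771c02c7900023048c5812d3a00c0304695008919001020401cc1016300cff0484f40581a0002304673c126210093f046720119a3009a204bac012ef3001420055e81034d0018202087c12a1b001420446b811d33001a20294cc0c8f900142046df4127b700142041fa010f3100202046f94126690031f049f081245e0068004b7c4127e60093f04b7a00248200162044e7811f67001420436f81180a0091f047db012db2008bf0420d0118b9001c304b40012d03006c3048a8012b7c001a1047c4811f180092304b05412c3f00161041a2010ccd006e20471f8120f40093f0407bc0063f0030204314810ced008e204a6a012a560031f04295411e69001420433ac116e50018200c07c10c90007030438a010d630073f0473b011446001220400541005d0018200cbc810d3c003030445a011648000230128cc11694001820106941138d001630473d811d150087f0456b0123ba001020420cc10fac0031f046f4c017fd00023043cb411a150031f040dc402252001c10449101118a0031f04445800ffd00160041128109000018204227c1104d001420403181022900142014d2c1198d00142041b5810c8200122040724101b2001620145e40730c00162009af4108cd0012200740402d97)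
noncomputable def Tp52 : Nat := (nat_lit 0x93f042eb4043bb00fff048c58121f000cff04b95c11a5400102040588103b300cff01d28c11b7800182049884126ac0093f049868125f6009bf02b11412eb100140041cf010e120018202a2440cbe90094104b5d412e98001c201fab4128c300142049ee012e7300162043cd411a1f002000288a40c18200303046e381245e0031f043c08118800093f049c980389500900049d6012b04000030436e4117ff0091f0491dc12b09008a10438a410834001c104b40012d04006c304adf01229f001a304aafc12ac2001a2011208114e300163045bf4122ec001e2017c1011eec0093f04135800a910030004a25812d3f008e204a958129a800302044b0010a55001a104a3541232a001820459381227000161041d20107530073f0445e41200d001420086641070000183045db0123c10061f0489a812266006ff048e0808fde001c200f1a0110e5001820425941117f0087f01b630121c400183043eb010f9e0031f04422400eaf00162041f8c10f2c0031f041dd40357a001a200faec111cd0031f0424a401a010016204112810900001800442b011b89001420408a8105490016201d4e009b870002304193410c82001220412281097100143040130100f60016200ef34058ca0012200481410270)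
noncomputable def Tp53 : Nat := (nat_lit 0x93f00fd6c1146c00fff01adb412cb800c1f04667c126b4001a304b92812e4b00ce1016068074a300182049ab0126210093f01d6b812e2e009a2029da00ac4500162006e201055a0096203250412ec100023040a981063a001c20294e40c8fe00182046e04127ba001620463ac12536004610288a40b1110002304917c12da8003020141e410f020093f046b90054930090004ac1012758001820404a41032600900047db0124770018200d7b810e290018200c1f410cab00182047f9012b7c001420433c4116f20092202d42c0adde00142007fb01068800182011414115020093f0427d401181009210430541150b0031f044be801e38008ff042954117440018201aebc12330001820489c412cee0071f041a74125240073f04aea411ced00142041c0810db00031f047b64123c40060004592012266006e301b26c08fde001c204713412851007ff047a24128ea008600456b006d8c001020405ac103cf0031f042310017fc00162043cb411a160031f013b9c10df900003040740104960031f009eb8104c00000304438811c4a00140006048103f10014204152010ac300162014d341198f001600136641162d001830471c811d0c001a301a53c0731a00162009b50108d00012200749402dcd)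
noncomputable def Tp54 : Nat := (nat_lit 0x93f04812405d1600fe10487c006b6d00c010469501199f001c2042b5c113b6000230190c01211e00c1f0479f4119cf009210497d8075ae001820233a812cd200003044f6411f9d009610324bc0cbed00122004abc102a5001c202949012e8e009c104a0e412e74006a20463ac11a99001a201d9f0126810002301d8cc1264c001620438d0118c50095f043f0c053830030304b6a812b0300182041c1810db800162044e8411f6a001820462e812515001820125ec11675006c2048a7c12cfd00141040b1810678001620193481213e001420433f4116fc00182045404120f10093f04167c01c5a00122040a301060d0031f047a9c10647008e104349410a5500683047930124be00162040ac4106530071f04634410d210073f048648128e30012204049c103220031f045db012a8c00182017a1c11e840018201d3f0125bd000230106981138e007ff0473dc12a410087f04a2c806d8c00102040f40108320031f0410900264200162046854126710031f04356004922001220016341002b00302006804027ae001620423fc110e0001420410281089e00181042b0c10a270016201d4ec09b8b0018204193010c81001a104742c11d630014204015c1011f0016200efc0058fa001220048dc10282)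
noncomputable def Tp55 : Nat := (nat_lit 0x93f04529c03f5c00fff0452ec12cba00cff049ca41199f00182044eac118000018204847812c4200c1f044b3812621000230115741152800b4202b1a40cef000162042bc0113d8001830248d412d33001220078c81063b001e20294e80c8ff009c1031ad40c6b60018200e8f410fb4001a20273440c19c00003045ed4124030016204208810f940095f00e968119b10030104221c10feb001820436e4118010091f0491e412b08008a004b49412deb008bf0498d812c220064304966412cfd00143048d0812aaa001420071e4105b800142045bf41234d006e20454041111b0093f042d8802ca50016304183410c120031f044d8010c72008ff0179cc123a000683048cc00a85c00180043248116420012204041c102dc007230473b41219200140041c0810db0001820133b41176c00183047a10112e6001c201b838123d40016200abfc10abf007e3047a2411cf70087f0480b004cd300003046b38127140031f0060f41088500242043854118a10031f041b280325700122040278101cf000230428f8112d60016204438411c490014204412c11b8500181044abc1139400182014e94119c200182043208106d6001a104758c11d0d0018000da4810d8d0014204009810088001220075b802e35)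
noncomputable def Tp56 : Nat := (nat_lit 0x93f042dbc0294900fff0487d01209a00cff046ba810ed100122040d281073800023008e1c1078900b62045330112ce00142008f84107ad0018202364c12ce100162044f6411f9e0018304b4cc0923300003042fa8115610002300f7b81116d00142040fc01086b006bf00e1c41271c001a201da381268300182040c34106dd00163043e50118c50095f044838025b30093f04ac0c1088700182045ffc1245a0091f047da812db3001020403ac1028e008a10483a0126360064304b3f41259800141048d0412aab00142042e38114d300162048bb012d260078304aa58120f30093f045244043f8001a2011a381158b0031f042a8c1160a008ff01b54c11e680068304a840123300018200c02410c8d00122040b741069e0018204468811d1e001420436cc117f80031f0488e404ced0083f04899812a4c0018001d3f4125bc0016201069811391007e304aec012a420087f01882c1175e00142041b5410d6a0031f0440c00269c002410499c4125050031f040bf002031001220407401049700181042fe0112d700142040dac1076600182046ff8127be0018102067c11e4f0018201d69809bff0018204193410c83001a2042658111d700142040c50106e8001420406441040e001420049281028b)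
noncomputable def Tp57 : Nat := (nat_lit 0x93f00b2b8109dc000030452f41209a00cff043f201199e0012204383c1189900142041e2410e9f00c1f049ab0114cc00142041eb810ed30031f0451381231a00162047e7412b4200162048be012d33001820432641165900023002a3c100d8001e001f0c812772006bf046b5410f36001a20273880c1ac001020031e41011a001a20468941267d0095f04270803a5b0093f047d9c026460018104916812464009010491e411f6a0010204184410c16001a2013e641183e0016204201c10f6b00003045bcc12340001420482f412c0300023041a2410cfc007830483d012a95009200481c0043f8001a204867812c8c003000431c810aa3008e10179cc06d530069f04a35412af7001820432481164200122041a7410d210018200f8c0111a0000030436cc117f70031f045864032fb00823047a5812266008df045e58125be00162044e3811f54007e304a90c12baf0086101334c0620b001420435ac1179d0031f046d7c03b9b00162041f4810f0f0031f04044c013fb001220412581098900181044b5c10bf900142041d9c10e5c001620072b4105bf001a2044abc11e4f001a301dc3812627001820136641162d001a204476011d630016200da4810d8d00162009ba0108a20014200761802e58)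
noncomputable def Tp58 : Nat := (nat_lit 0x93f0448e801c6000fff045780114bd00ce3043b4410fc8001620410f8108ea00142046560125a000c1f0469300443900142046690125f700303045b601144e0018304ad0812ae800ae102e1040cc11001820459581227c00142040360102570014204402411b3600023043cd811a200016201dab4126900010004046c1030a0018200e26810f450095f00a45410fc20093f04ac10017ff0031f0043781043e0090104ac14127570010204305c1158f001a30460f810f0400162043db011a6f0093f048d00102190016204b00c120bd0031f0403fc00ffa00162045560121670016200cb9c10d37001a304b2301224f008ff04a74412103001a2020ba012aa200681047d6c128d50018204593c122720018104348404c46001830474781290700122041c0410db10031f0120a010d3d0083f04899c12a3f008df01d3f4123e20000304151010ab6007ff04458c1218c001a200b0d810b37001820416f410b990031f049e5411086000030467fc1265d0031f04014c00c1a001a1044734111bd001a10477e41217f001420463f41254800162042e80114ef001a202067c0a812001a101dc3809c1d0018201b9c409446001a10471e011d62001820147b00739900162042288026e8001420402ec10217)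
noncomputable def Tp59 : Nat := (nat_lit 0x93f04771802cad00fff0487cc10b7e00023043d5411a520016304626411c0b00122043ab01196500c1f015434114cd00b7f0497dc064530030002cde40cef20069f046d4012ae80020202099812a670018200c45410cc20014204166c10b59001c201f0c812772006bf043ed011a20001620273f40c1c30010204046c1030a001820468d81268f0095f046b8c019ee0093f049d6000eb10031f040d2c00a2900023047dac12b0700023041d2810e2a008a304b07c12dc300162040ddc107840093f045bcc1052a0002304176810bcb0031f002ff8101e60065f04a5041216700162013350117610092104b4fc12ce2008e304780812103008e104444410d2500142044e5011f5b00003045944122730071f04634c04c46003bf0451a803e3000003042384110b00030300cbec0482800821047a1012267008c1045e58074fd00162042ad811378007ff0455f411cd0001a20450f812004001810416f4107f3001e200f164110dc00142009154107d50031f0400440072e0000304121810966001a30477e41217e00162008f1c107a0001620453c0120e00016104a7e40a82000182014f80119e1001620136741179c001820063ec1045e0016200da5010e600016200f028059190014304085c01f15)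
noncomputable def Tp60 : Nat := (nat_lit 0x93f0448dc10b6e00fff04b2dc114bc00182043d5411a530031f0423a81022b001230496bc12e0f00c030110e40550d00b7f0466900455c001c1048f2012ba10069f04ad08110230020202a3380cc17001810489f0116a000142042d6811487001e2028ab40c6c9006bf043cd411ad60016201427c11892001800435f8117a40018201c904125010095f046b4400ff00093f046c68008c20031f0404dc00cb700182047da412b0600162041d2810e2c008bf02403c12dc200160043a5c1188c0093f0433c410a940016204176810bcc0031f0412f80071c0064104755812167007c201335010b640093f048940126b60093f04555412c2e001420429501052400023047788129b30016204324c116500071f0438f80327e003bf010ecc111a000142042384110b2001c20103641131f001a201777011e3100162041b4810d6500161047d5011f37007ff04a3201218b00162041ae010d48001a2041fcc10f4e001e30443701192900142043c58119fc0031f0401500043500122040720104850002304498411dfa00162043afc11985001220413d810a3400163029fd80a81f0018201d7a009c340016201b9d40944b001a300f42c10926001620147bc0739d001bf041158104610014104085c01f17)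
noncomputable def Tp61 : Nat := (nat_lit 0x93f04276c114a400fff0487b81209b00182046948126b30031f0442e81054d001210496b812e100016004403011b3700b7f043b4c11528001800456e4121d20069f047e7411b4f00023045a00122b30093f003dc0100e9001c20445b411cdf001e201f12812845006a3043ed010f35009bf049a84124f900102001dac10056001820494081267c0095f043ec40098e0093f043fb8005270031f00342c101290060304937c12b06001620438a8118bb008bf025b3412d230018200d61810e050093f045bc81135300162042f2c115370031f04275800bff0016204556412168007df010fe0114920093f04969812ce40093f04840c12127008ff01ac7412aa200680048ca8129b300162045944122740071f00d89c10d1a003bf04746802c74001420442c011c01001c2047b5812a89001a20205a0129f20016004359811797001c301739011d76000230455f81218c001a20480c0123cd0012204018c1013a00162041098108c6001420467f41265c0031f0404500072d0012204121810967001a3020918129cc001a20475bc1295500163040b2c1066c000230414b810a9600182014f94119e3001810136e41179b001a2042498111120018200da8c10e65001a0006430104560014100aaec030b3)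
noncomputable def Tp62 : Nat := (nat_lit 0x922042db8109db00142042df8114bc00003041fec10f580031f04702c10ace00c1f043ab001cf700162046ce41277400b7f011574119a30093f04874c011510069f044f6412788001c2045a00122b40093f040a00013110002300fd2c11234001e2028b280c6eb006a30499d8126ef009a001db78124f900102041b6410d740069f0468941268f0095f0420d8005a80093f042170003060031f040c98101360060304ac18124de00023040d401073e008a102403c096cd00182043a5c1188c0093f048d0411f170016200b63c10bbf0031f0448a8013cd0014004168810b5d007c3042d88043f80093f048944074950093f0454a81150c008ff020ba0123010068004a6cc1232a001620489cc12cf00070100c9f803627003bf04a41c043b200142046fc01280c006e1049be812a8900183048df8081670069f048f8c123f6001e101816811d77001c2044cb81157e001830444f41134a001220404ec103530016004422c11bd00000304273c1121f0031f040bf800c190012204259811183001a200ff581125f001020401ac1014d000030413d810a3100140006c6c104ee0018201d7a809c360018002209c0946c0018204249c1111300182014808073b3001c100f52005a4400162004d18102b7)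
noncomputable def Tp63 : Nat := (nat_lit 0x30448e011dc5001600453841209b001220401c8101610031f046264113ab00c1f04659402d8600c1f0482d4038e800b7f0497d8064540093f0456e801c1000681046d3c113d9001c2048acc12d0f0093f0048cc102b2001420448d010b580022201f260128550093f049bbc10e53001a201db78126a1001820435f8117a40069f0468d81267d0095f040f540034f0093f040fa4001be0031f041c14103490091f044fd012de600162040d401073f001c201c398124ac00182046538125970093f04aaac12ac2001630454dc115230031f04342c102cc001830485a01206c0093f010fe010b640093f01a180125a50093f01158412102008e201ac74082e800142012d58116e4001c30474b41228100162007234105bc003bf047478114680014304a030124510083f00cc44126fa0083f01fb00129f100681045ea4123e3001e3047d501295b000230103d81132e0018104a28c12ab7001c30462a411c180016304423011ba3001c204435c11c3f0031f040b8c013f900003042670111dd001a204498011df900102040e181079b0021f0419b010a340014200411c101fd00160014fdc119e7001620137a4117b1001c20424c011114001c200dab010e6900182009eb41092800162007c64030b6)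
noncomputable def Tp64 : Nat := (nat_lit 0x16204276811235001620453841209b00122040ec8107fa00180044eac1180000c1f0496b80454100c1f049dd0024b800b7f01d6b8121250093f0430f402c360093f04020c00e8b000230432d0116830093f04195800afa0063f045218128d600222028c600c7340093f0499d8118eb009a201db78124f900182045ecc124020068204689411a360095f0405b8005a70093f0405f0001000031f0436dc10737001a10463041182c00162041cf810e18001c2025bc40bc8700142040478103120093f04aafc11f0300003045350120bc0031f041a40106870093f042da40102d009220481c0043f80092101d254068600093f04b0b40645a0018201b0cc123690068304b47412331001c304b3c012919001600429c410b97003bf04468812042001c204914c1281b0083f046a9c04d0e0083f020598128d4001a200ceac10d76001ff01069412851001c304862c12b96001e004aadc12009001c10462a411c1a0016104422c11ba4001c20471001284a0031f0050b8102d70016204477411cf900182042648111cf00102043ae011981002020413d81066c00183020d580a84c00122041f3c10f090016201bb44094b1001c204445010930001c201483c073c00018200f49405a7d00142004d9c102b9)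
noncomputable def Tp65 : Nat := (nat_lit 0x1620448d811dc400fff04576c114e100122041fec10f590031f04383c1180000c1f04b8400642e00c1f046ce4038e700b61019150075ae0093f0456e4043550093f04061c017c2001c2045a0c122b70093f04325c0123200003042d6811486001c201f264128560092304687c118eb009a20274c80c1ea00182040c30106db001c2046b94127270095f0401dc009930093f0401f4001bd001a3041ce410da80031f0415a8026eb001630462ec118a30018304886c0679700142040c4c106e700923047c4811f0300142045350120be0031f040b4010cfc0093f041688009b50093f01335012070001a202368812ce50093f048bf8088e30018202475c0b7f000162048cc812d40001a20474b412919001e202a4100adc8003a00451a0111a2001c204a06c124530083f01578c117740082101fb0008166001a2045ea4123f5001ff0471341138d001c104862c12b97001e004802412ab7001a0043f8011a410031f0411200182300162003fd4101e20031f041a5c00c3b001620473e4111dd00181042648111c3001820415f40425500142040af41066b001a0017a1411e5000142014fdc119e7001220404701030f001820424c4111200016200dafc10e7200162009ec01092d00142007d3403103)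
noncomputable def Tp66 : Nat := (nat_lit 0x18204092c1058500fff04314c120cd00122043d6011a5800302044eac10e0f00c1f0496801211e00c1f0440300550c001a202752c12e460093f048748061cd0093f040ff0025ea001c304b43c12d100093f04595800b500063f04737c10b5a001c2028c640c735006a3049bc0126750018201dbd4126a200182041b7010d7c0093f049c9c016dd0095f002258100a70093f0405ec00305001a30436a0107370031f006f38108ed008bf0403b0101380016200bc5410c450014204362c117c80092302a5ac0a9a5001420482f012c0b00303041a24102d00093f042d74005bb00922010fe004cd40069f043ad01232e0093f04b4800af26001a202476812d5900160045c4c11eb0000030438ec118cc00182018c74120cf001820451a0120420018200d1c810db500823013438055e3001e2047b5c12a8b001c202108812b26001ff04439411f53007ff01fae412b970002304517812030001c201647411c090031f0406ac10415001620412ec109ce0031f04344c01431001620412781099b0018204756c11dfa00182042c9c11425001610416fc1066b001c20209100a85f0016201d80009c4e001600137c4117b60018204448411c8300162014898073dc0016200f49805a7e00142004fb4102d0)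
noncomputable def Tp67 : Nat := (nat_lit 0x182042ccc1143300fff04b04c115da00183049acc126b800122040d241073600c1f04656012c4200c1f00eb4411a4b0002304671c126190093f019bdc120050093f0421ec03aa30092104b44c12eb80093f0489f0012b40063f0445b411487001820062c81044c001220422b811067001820275240c1fd001620405e0103de0093f046b94024840095f0407940050c0093f040f98005250031f045ffc10da80031f0438bc02bd3008bf040d3c1004000162043118115c200142045f241241c00b7f048fac12caf00162004ce0102b600023042588111720093f045230009b6007c30452581149100681045ba410eb4009230241f80af26001a2020c8412ab8001a2048ccc12d42002c1046334112be00182021dd80adcb003a20451a0111a2001c3047004117fc0018204233c1109d00003047bf812aa5000230187f41201a001e1044e34110e5007ff021740128d3007ff048020123cd0031f0442e4017390031f0422b0100930016204273c112220031f045c940208700162042670111de001a20477e811d5b00182047fa012b82002df04412c120e000182017a4c11e9f001c201500c119e800122041b8010d8000142003db4101bb0016200db2010e7300162009f84109330014200808003240)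
noncomputable def Tp68 : Nat := (nat_lit 0x182047fe812b9100fff048338121ed00023040eb4107ec001420055b01034600c020484781195800c0301543003ad100162043ccc11a1b0093f04ae8408c050093f04408c10fea00c0104b44c12a170093f045a8001e3200622042d681116d00182042420110ea00122046e9c127d3001a201dbf4126a300162040f7c108450093f043f140389a0095f0412f40088e0093f042168008c000023008604106f90031f046304042ce008bf041cf8100eb0020301730410c45001420057a81036600b60023114123eb0016204198010cae00182042588111730093f0481b00102f00923045258043f80095f04b394094ae001c304b0c012ce0001a20427941124500023048cd412d430031f044af803f04001c2021e7c12c19003a204810c12bc80016200d17c10daf001a304424c11bbf00180044cfc11ee1001e30187f411f81000030441e011bb7007e101fae4085d0001e004802012ba00031f0423a4025100031f044194009030016204487c11dae0031f047824032da0016204127410999001820475681294400182041c6010dd5002df0453c011b850018202094c0a8be001c201d83409c5b001420137c4117b6001600411a803d3d001620148c0073e90016200f5bc05ad400122004fbc102d1)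
noncomputable def Tp69 : Nat := (nat_lit 0x18204ae4812eed00fe1045768120ce00162040eb0107eb00143041cd810e0600023010214112cb0002301c62c124cd00162046870126740093f048f2012caa0093f046d3c11b13001a202081412a170093f04330802f550014204166810b57001a2009d00109090016200d98010e51001a20275440c20500162043f2811aeb0093f00e97010f450095f04274c00e5e0093f040fa800ead00162041be410da80031f0460b0113f4008bf0438601028e0018200a430109b9001600057a81036600b7f0236b812cb0001620459f4122ad001820445c811ce30093f0485a001a4f0093f00b2941149600942023688094ae001c204841412c30001a104a6a812ab800183045bb0123340031f046334111fa008020242cc0ade70002304561012193001df045fe01244d0016204232c1109200182044cfc11ee1001e304ac9812016001620422f811077007df0474e4122e5007ff0480c012ba00031f0442e0108180031f046e9000f150002304486011da40031f0449a804cc500183042664111d400003044a2c11e2b001420415f010b25001630453c0116b200202017ab811eb40018201e56409c740016201bb70094be0002300b8f410bf50016200dbc010e7f00182009f8c109340012200808c03241)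
noncomputable def Tp70 : Nat := (nat_lit 0x1c00450dc11ff9001a2043168115e300162043cf811a2e0002304016810125001a2044b2c11e77001e204933412ddb0018204671c1261b00923023014123c80093f044f6412751002200209bc12a680093f045a7c10c66001a301031010b57001a00443b011c5200162043948118e90018001dc58126a500162046bb01272a0093f0468d8039480095f042be0017810093f005f0c101880031f049168106f90031f04373811fbb008bf04628c10611002000487701296a00162041d7410e4700b7f02312c12ce8000230196e0121870030104b498128d90093f045564029a000921010fe002ca5001a20458c812252001a2010de41144b00182012f3411714001620433b8116ec00202043e70111fa00162018da8120dd001a10196fc12155001df045fc8124540016204424c11bda0018004323811645001e204805812bb1001620441e011bb8007c101aa7011d39007ff0480101145d0031f04702410f880031f04422c0189d00182042724112170031f00ff9011752001a300fcd4111d300141040bbc104e900142042c9811423002df049ef8116b2002020209c80a8df0016201509c119f5001620137ec117bb000030424f8111300016201498c074220018200f5c805ad800122005018102da)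
noncomputable def Tp71 : Nat := (nat_lit 0xb03033bcc12ef000fff047ae412cbd001620468bc12688001220404941031f0002300a8e010a47000030437bc1186a0018204986412e3a001a202301412ca900921046c4c113d900c0304b44412eca0083f044ba41227a001a3042d5c040c200180013da8117fd00142040e9c107e000162043d4011a470014204062c104060093f0468940558c0095f044f8c025810093f040ff8025eb0031f0491900218100301044fd010dce008bf0462ec10c170016300bd6410c320016204636c1252c00b630236b808c4b001c204861c12c7d00182043338116b60093f042f7c03fd60016200ab2810a920097f048fa812ce6001e30483ec1237c00162006b9c1052000023045bb8123380031f0438ec10f9c00162021f2c0ae1200142007534105e1001c1045fe0117f2001a2046efc127e20018104495c1164a0070104aec4123f500162046edc127da007df01fe14122e6007ff0450f81202f001a0043e201187b0031f046f40027230018204486011da50031f04596803fe4001a100fcd4111d500143040bbc104e70016204509010ec5002df046ff8122eb00202017acc11eb50016201d8e009c870016201bb94094c9001430419a410bf40016200def410eda0018200a010109440012200810803273)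
noncomputable def Tp72 : Nat := (nat_lit 0x1a20234cc12cdc00fff0487dc12a6d000030468bc12687001a1045fa01188e001c200a8e010a48001820055401033800adf04687012e3a00922048f2012d7300023046c501275000c1f04b44012a6900821045954112e9006210324640a8d000182013da8117fd00142043c9c11a100016201dc58126a50014204101c1089700023043e5411ab80095f047ea403a0c0093f0421f803aa50031f046028014d90091f04937410dce008bf0438a81158f0012204187410c3000161046c841274e0016200be3410c7f00003048ab812d0c008ff047a4412d2a0093f04556002a85001620105941135100963023674123ea0031f0483ec02c4e001c304aa5012a99001820402dc1020d0031f04209c118cc001a2018f60120e60018304552c12154001c104913012455001a204427011be90018304495c11649008df01d3f0123d4000230422ac11063007df01aa7412923007e00451741143e0031f0164741187b0031f04421c03c59001820476901297b0031f0124941126b001c104266411198001220031341010d0018304927812b82002c0045ac811bfe002020209e00a8e50018001bc541241700162013824117bd00143042fd00312000162014dd80756a0018200f68005b0b00142005160102f4)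
noncomputable def Tp73 : Nat := (nat_lit 0x32304b3700cef300fff04bb2c115e300162043cf411a2c000030436ac117e9001c204291c112e200182041c8410dee00adf04986412674009c104b5cc0ad200093f0440880575d00c1f04b43c11eb200182045960121e4001a201fb74128e0001a00460a41245700142005b10103a4001820275bc0c2200095f040c401089700163046a1811a9a00aff04868c0569f0093f0440a0037d10031f0436f81031e0091f04b794034cb008a204305c10e2a001810456a4114b10016200d8bc10e3f001620458841224200003042e14114bf008ff048bbc12a480093f04859c04100000230402fc1021d0097f00521c12ce70031f045418043790031f04470c041010018204143010a59003030438ec10827001a20221680aea600142042f541154b00162045fc41244b001420427c011250001a200ff3011257008df01b838125bd00162041050108aa007c101fe1406a9d007ff048f24088800031f04939003c0f0031f00ee70110dc0018304a5ec129810031f0478200303d00023009e501092000122040438102ef0031f049278103880016200b47c10b9f001a2017b0811ebb0014204361c117c30016201bbd4094d80016200b8ec10bf4001610465ac0757b0016200a044109480014200830c03330)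
noncomputable def Tp74 : Nat := (nat_lit 0x7a304afa412cdc00fff04aa10121f600182044eb011f7800122041bf010daa001c10479dc11e93001820437bc1186b00ac204687012619009c304b5cc12ef50093f046d3811b1200202017a9811eb2008ff04558012a4e001a20295940c92d000230460981248e00142041f7010f22001c200e01010f000094204101c10310001610420581083a00aff01978011ac60093f046d60023f80031f041c34106fa0091f04a11c021db0071f041d28020f0001810452c0115aa001620463501252700142004ec4102c3001220400f0100dc008e1047a44122ef0093f04755805f04001420402fc1021e0097f048948021090031f042ea81144b0031f00fa581133700182042968112f70014204209c10f9b001a20221ac0aeb400142042f581154c001420420e810fb30014204494411de8001a20459241226c008c201d3f006e0e001620422ac1106400182018a1012065007e101b6c4088800031f0461e8026ec0031f0464a40588e000230022f8100830031f04a7640492400182042480111070002304043c102f00031f04ae081014e002df04598012b5e001a2020a280a8f200161043c801100400182013838117c1001620444c010bf50016101d5ec074aa0016200f6d005b220012200532c10316)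
noncomputable def Tp75 : Nat := (nat_lit 0x230452941207f00fff047b4012cbc0060204ac5812658001220436ac117ea0093f04142001070001820461a8124d50016104622011a1c009df04b36c0b2480093f047d2c1275000c1f048acc05ea60002304558012171001e00296000c939001a20460981248f001420468341266a001c30498c412dce000230421b8110120031f0420580176100ae3015a7c065e00093f0469f00167d003010086a4106fa0091f0470ec107130071f0438a8033700031f0416a8104e40016304949c07301001420419e810ce60012204037410266008e104b4a412a490093f0171a811eec00142040874105330097f0458c80339300302010de410baa0031f047bbc05c3d00182047a9812a5d00142046af8127060018001902812109001420455341215b0018104912c1271b001820440d811b67001a30477c41226c0018200fff01127a0016204418c11ba2001a201fba8128e5001620078581062e0031f046c1c018770002301623811bcf0014204020c101870031f04a71406911001c304477811c6d001820478ac129450031f047fa010387002df04837c12287001c2017b3011ec10021f045f1010f200018201bbe8094dd00182042fd4111300016200df7810eec0016200a0981094c001220085b80342b)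
noncomputable def Tp76 : Nat := (nat_lit 0x920042db8109db00fe10487d811ed00093f041fa80385400122045fa41243e0093f040828009df001e104b76c12ddf00162043cc8038e2009c30234c00b24800923046c5011f4b00c1f01a6dc11eb30016000b8bc10be6001a20190501211600162041c4810dcb001430499a811a100093f04b73812d91001420421b8110130031f043e140254e0018201d310125b30093f047cd800db80093f042bec1070c0091f04435410dcf008bf04305c10d620031f042ddc10a1000162041d7010e450016204582012220001220416d010b8400182048bb812d280093f04aa5403ebd0002304162810b390097f01225c10d730030004b3800ac680031f04aa6411d4800821047ae806b8a008df045db412706001620190281210900182043540117810018304912c1271a00003046da8127a1007bf0427dc0108b0018201774811e1b00163049f68127d1007ff018a10128e50016204313c115ab0031f043f80026ed0031f01495411bcf00143043af411020007bf0477c005e9a003a0042548111090018204a51411e2b0031f0450941079c002c001ff68120df001c2020a500a8fb0021f04361c11a0b00162013954117cf00182011400114fe00162014e98075a80016200f74405b48001420053641031e)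
noncomputable def Tp77 : Nat := (nat_lit 0xb1f04bbb412ea5001a20487d812cbb0093f0091f810f14000230460d01249a0093f0402d8010710095f043d9010ded00ac10303b012e460018204452811cb000a7f0412e80168600c03017a98069b7001ff042fb411eaa0018201d34c125b600160043730118240031f042b0402460009230498c412d910014204404811b410031f046a68039bf0018002537012d820093f044ddc016730093f041588021a90091f0470f01182e008a000cdc010c170031f0452c01062600023041d7410e4600162040b081067900122042e14114c0008ff04a21812d280093f0483d0028cf00182042ce410a9d0096300ce4c04897008ff04b0c0116870031f04aa5012931001430027ac100b5008df046af8123c5001820222200aed7001600195c01215a0031f0420e800e49001820440dc11b69007bf044964009f400720049578129e60031f04108800607007ff01fba81206500142004de8102be0031f046904108ef0031f047110052550014304408010ebc007bf044960040a60031f042548009c000162003e24101c20031f042c9c10eb9000230468101266400162017b7411ed800203043c8010d870016201bd74095480018304720c120ed0016200dfa410ef20014200a15c109680014200860403442)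
noncomputable def Tp78 : Nat := (nat_lit 0xb0004ae4812ea5001a304b2ec0b2f60093f0467e4016d8001c2013e20118330093f0400c4009e00095f04200c1186a00ac104b91812e2f001820472d8128ad00a7f042734023cd0026002b89c12ebf00023042fb4115640000304a41012e91001620438d4118c60031f04151c016c40093f049a9c12e420000304407c11b4d0031f046a180562d00b4304b61012c510093f047684023ee0093f006ed0106fa0091f04a120124970034204b6ec12c960031f0456a801df6001630439140423e00162043394116da001220452fc1209d008e0048bb8128860093f0471f8019bc00182042a7410b3900921048940125a6008ff04b380122bd00303047b9c129310010204082c10509008c0045db411abe001220073e8105ce001620195c01215a0031f043ecc0088300182046da8127a2007bf0477c40108e0072004a7981255e0031f0422f400a32007e2018a1007eea001420419b810cd00031f043d38110c20031f0165ec11928000030421f011021007bf0427e002a71003bf0444240103f001220406241040100300041e7010b27000230400881007b00162020a8c0a90a002020253e809cab001620139cc117d3001c0047588120ee00162014ec0075b30014200f85005b94001820054d810334)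
noncomputable def Tp79 : Nat := (nat_lit 0xfff04161400bfb006830469a01232b0093f049960103ac001c20460d01249b0093f0402d4010720095f04935410f6300b7f04b8bc088d9001820472c4128ae00a7f0448780165b00ba302b89c0bace001ff044bf811564001820496d412e1a0016204631c1251a0031f006cfc103a4009210498c4126a700102040094100820031f01563011ab800b4304b14412d830093f04a5e4037c4009210086a401bb40091f04b65012dbe008a304b49012dbc0031f0430c00128d001a1044f6c07301001e0047a9c1231d000230416e410b8c00301041a1c102d00093f04445c00fcc00182044d6811f1d00921026d9c0ac7f008ff02b1a012d1800162042a001133100102042958112f4008c00494841291800122042ef81152100182011ec0115cd0031f046b4c00501001a20161a011bbd007bf0489b001ae300003044c1411eaf0031f0441d8010eb001c301650811b3500142043344116b70031f04706811a420031f0495c807c64001c304710412789007bf04135c01ade003bf04248401a69001420411ec1088e0031f010958125cb0016200953410820001c2017b7c11eda0018201511411a030016201bdf009572001820453f4120ec0016200dfd010efa0016200a2401097b001820088500351e)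
noncomputable def Tp80 : Nat := (nat_lit 0xfff042ccc013c9001a2009340108040093f04ac58107eb001c204926812dc00093f0027ac102060095f04b77c11a6200b7f04b9180af1c00023042d1c1145b00a7f0476b000da2002020209bc12a68001ff042fb011eab0018200f89c1119f00162008ad0107500031f041f70010c70092304b64412e4700102040618103f900303043e540558c001a10484c012c530093f04b3fc0538000023026f3412e370090104925c12d9400023048b7012d250031f04187400b33008ff044f6c1275a0031f048c7410c71001420416e410b8f008ff04a23412d4b0093f0424a80097500003044d6c11f1e001a201b5c4123a9008e0048af40ac6800162044cc811ee700821048c9012a5c008c004a46012521001200190e81212000003042984112ff0031f049c680088200142044a3811e2e007bf04592402a7800162042990113040031f046edc00a34001420410c8108d90016301143010cd00031f0462a4126a00031f04ac081284b001c10471041278a007bf00692c1051d003bf009e4c104e2001620428cc10bfc0031f046604113e000142009160107da001c2020a940a90c0018201d97409cb2001620139d0117d4001df047434120ec00162014f00075c60016200f99405bfe0010204000810016)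
noncomputable def Tp81 : Nat := (nat_lit 0xfff0450cc01fe7001a2045ce411a680093f047de010f3d001c304b70012d9c0093f0413fc010800095f04b76c126c100b6202752c0af1c0089f00b16c121dd00a7f047d380165a0022202a3680cc20001e3044bf810bec0018004474411d1800161046318118ca0031f043c8801b3e0016201bd8c1242400122046d341277f0093f01519410f95001a30224d412c520093f048a8407576000030463c01253d00163040e6c10713008bf025d5012cda0031f040a58006a0008e1046c7c113db0031f045b681160800142042e30114d0000030472401288d0093f04117c00594001a3047c7c122dd001a2024cd80b93f009bf02b1a012bfa000030408941053d0018201ae181232400702046340120cb001220190e812120001820041dc1020f0031f04912c00e48001a30478b8127df007bf043238040ee00162044c1411eb10031f049f68010ed001420442a011bf700182043130115d000303046908118a900303047d981284b0031f047e2800ed5007bf0429e40102c003bf042834018eb00102000f44100090031f043ae011fa500161046acc1266600182017be011ee80016001512811a050016201bdf409573001c00453f411d0d00182040dc4107750016200a25410982001400055941033b)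
noncomputable def Tp82 : Nat := (nat_lit 0xfff047fe8031f10002304347c117390093f044eb011a2c0091f049268110410093f04291c01acd00942049334126c1001620110f4114ce0089f0457100438b00a7f044e28023cc0092200ab28106620018004143c10a500018204474411d18001620438e0118ca0031f04683402aff0016202554012d9100142049dfc11b4d0093f0420880387200b0302bd4412c7800b5f04b18c09bca00023043950118ea00142040e6c107c6008bf02348012dca0031f0403bc003e1008ff04949c1275c0031f0433941222000141048274120ba008ff048d3011c900093f0406d000974001a1047c7c122de0018204552012154009a1021bbc0ac68001220017cc100340082004a97012339008df0489c812c12001220222e80af000018204144010a600031f045fc40175f001610448141128e007bf04591405ef300162047abc12a620031f049f4401b7a0014004700c1281000182045744121e600122041d0c10e1e001a2044fb011fb10031f04710801839007bf044c9001a4a003bf04327002794001020400fc100e600300044f8010eb80016104999811ab500182020aec0a91e0016201512811a0500023014390118a4001c001f5b80697e001a301c008075d70016200f9b405c08001020401781012e)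
noncomputable def Tp83 : Nat := (nat_lit 0xfff04ae4804b8300683049b1c12ccd00922043cf4113ac0091f04b70011b740093f044b8810513000030416c810b80001620482dc12c080089f011e541145b00a7f042af40379a00c01048adc12a690018204143c10a500000304757c12948001620438e4118a60031f0499a810abf009420309040bcf900102040fd0108710093f043e500246a00b0304b1e40af5100b5f0227b012e360077f044e3c10e5400162041c4c10dcf008a3025d5008d200031f04010800244008e301e7d0125270030204582010ce5000030432bc1167b008ff045bec1288f0093f003d4c1009f0002300c49c10cc40018204855412c620002301a050122460012204030c102240082204a97012339008df04832c12cef001a20191e81212d00182042984113010031f0491300254c0031f0426f400eb4007bf0123c011ee1001a104a988129e70031f042408026790031f04239801aa10081f0483e4121e60012204387c118a9001a2047ec812b530031f04436002696007bf047b700102b003bf00c0fc1092000102040a10105fd0031f046600129550000304681c12665001c2017c1811ef20016201d98809cb80016201be7c1242e0018200f6901113d0016200e06c10ec00016200a2fc1098d001220055941033b)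
noncomputable def Tp84 : Nat := (nat_lit 0xfff04ba94116f400681049b1c12cce00182047de412b170091f04b670127b10093f047a4c10a6700122040994105b10014200eb341100a0089f042d1c115c300a7f044e200534700c02032a940cc210018204297c112fe0018204474811d5e001620404e4103510031f0468401139000142046568125a1001020421dc110170093f04631402421000230484a812c4e00b43026f28089ec0077f042afc118ea001620460b812497001a201caf0125230031f040030003e40030304059c018650030004730005dd70016204197c10cac008e0047240116fb0093f04074c0092900181047ca8122e1000230474801290d00023045cd01238a001220408941054000100044bd811ea5008c10489c8120cb001a20224300af5100182044bfc11eac0031f0491540225c0031f04481401804007bf044cfc030120016304a98811eb60031f04269803b680031f0442d002a1500802045744120f9001c2047060128290018200d2f810dcd0031f04710403b91007bf04aa3401a49003bf04441c01ec9001020417f810bfd0031f0475bc125ca00160046b8412665001c2020b240a92e0018201523011a2b001830463101242e00182016c3811ca300182043b000381b0016200faa005c560014200896403583)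
noncomputable def Tp85 : Nat := (nat_lit 0xfff04a65c1234400fff04bbe812ccd00b8204a00012b15009010490f8127b10093f0479dc1130d001220416c810b820014204403011b3700881011e5410b47001a204627c125000018200b08410b29008ff0455801216f001c00475801294900162041d0410e1b0031f043c9c11f560016201dd10126ad0093f040fa0000920093f0438d00169800162042fec11574001e2041c7410de80076304395010abf0091f02ebd812dbd001a20263cc0be450031f04010c006a40031f0401fc103b80030201775c10c51001620432b41167a001420444ac11c8f0093f04126c0056600183047ca8122e000122004920102890018204346c11733001220414f410aac0083f045bb812a5d0002304195010c91001a201da441268400162041a9410d2d0031f045fe0015670031f044a380264f007bf047bf001eac001a104a79812a6c0031f00f1a0110630031f04700c10a2d00181045740115d400162007b901065b00003047ec812b520031f049e280587d007bf047ca402998003bf0471b401315001230403981014f0030004660011d6f00003043f0411ae100200017c24114470018201da9009cf3001830490b8072a800182010e401145f00182014fb4075f50016200a3001098e0014200370410156)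
noncomputable def Tp86 : Nat := (nat_lit 0x161045f081234400fff04af5c08cc000162005f20103ee0093f044e8403b380093f044b2c11ec000122042e00114be001820440f411b70001a2011d58115ad0016200995410894001a200fe2411241008ff0455741217100023010dec1144c00162043870118a800300044e4010f2700c1f046568126ad0093f040608000fd0093f041d3c0241e001600455e812182001e2044338118620077f047d501253d00902025ae00baf600743048e20099240031f0403c000b380030104059c1007f0030004314810ced00003048ac812d0e0018004727c1288e0093f0426440032a00003044da411f2b0012204181c10c0a00182045cd01238b00163042ab010a7f0083f047a981233a008df00467c12cee0016200e12c10f1300162045d44123ac0031f0436cc00d020031f0478b81088b007bf04aa940301100023010304113070031f046e88110e50031f04a040112bb00162043138115d400182009bb4108ef0069f0460a012b530031f046d4811bca007bf044d9803fca003bf04477800b8b001210417f81079e0016000de4410eb7001220400881007c00202017c24114470016201529811a3a001820462901242f000230444fc11ca400102003748101580016200faa405c5800161040558021dc)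
noncomputable def Tp87 : Nat := (nat_lit 0xfff047710117c2001a002330012ccc00180043ff411b270093f0107741104100920044c34112cb0012204827012bf500023046ce812775008810480b4121c7001620440f811b71001a2047748129a6008e30455801155d001c2045130120170018201449c118a70077f043c9c118e900c1f01dd10125a10093f040fd0000900093f008ac4107cb0093f04543002e5400162042270110490077f0463c011f37001a20147c01190600182045cc0123870031f040a5c01293008ff0494b01274e006bf048884126c6009df04b43810b87008ff045be81289f0093f04472c00565001a304ab1812acc001220456081219100182048e2812d6100163044cc81136c00820045bb811ea6008df0489c401c83001c10499501268400003040c04106cc0031f041c08007bd0031f049f7c11037007bf047bf8048ef001e2044c1c11eb60031f006de811c4c0031f046fdc11e5d0081f048bc0121ea0018200f040110c00069f047ec812491003010161f411b52007bf0105bc11256003bf0426700131400143042ff4107090031f00fbdc125d1001220405d4103db00202020b300a9310016201dafc09d0e001820490bc118a400182007368105c300102040e7c107d0000230406c010456001a1009044035f0)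
noncomputable def Tp88 : Nat := (nat_lit 0xfff0448d81241400fff0219f812ccc0016204219010ffb0093f046dd002b2400003044c3411ebe00b4304b9a012bf500162049dd411b6f008810487181202e002420493fc126680000304137810a04008ff047a601155d0030204513011ca40069f049420126350076204394810f2700c02046568077440093f0421c4000fc0093f043c08035fd0093f01158410c04001600441c811b830077f044de010e56001c101645411b0f00182048e2012d600031f04187801e01008e1046c841252c006a304699812221009df048ac8114c1008ff04727c1234b0093f044b1c00927007bf044c8c009b4001a20434c411757000230434741173500162044db011f2e00003042970112f8008df04593802ce50018200eeac1109100102040458103000031f047f58007bd0031f046ef411b6a007a3044d00048ef0073f01cf781279c0031f04439402b5c00301044aec11bf700803045adc121ea0014204234c110a1006800460a011fb200142040ff01087b007a100ff280416f003bf04477400fb4001220404ac103290031f04661405caf0014004210810f9800182017c4011ef30018201532c11a4300181046294117dd00162004dd4102bc0010000e0ac10f0a001a200fc0c05c6d001220056b810362)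
noncomputable def Tp89 : Nat := (nat_lit 0xfe0045f081123600fe20233000867e00162046ca0127620093f049ec401b5900182047af012a7000c1f04b9a0016fd001a2046dbc127750087f0456b811cb4006820493fc126490031f04281010571008ff044ba41216e0093f044d84047b70068001d7781250800140040ea0107df00c00046568077440093f04405c001b70093f0141e410e360093f0455e802d9b001620402381019c0077f042ad8118ef00161043f1c11adb007420264900be6d0031f0430c802f1500142043fc811b20006bf048888126c5009c30459fc114c1008e3045be811c9f0093f0428e400f50007bf047b6c005ba0088001b61c115fd001a2043474117360018200bbe810c3d0018204143410a5b008df043240044560018304424410f7700102040c04106cd0031f04504000d020031f0161a0127a200182042a20113410073f01eb501255f0031f044e340421f002000443381186200162007d8c1066a001c300f040110a10014200608c10415001420421f011024001c201c55c124be003bf0473e40096600122040ca8107090031f043afc11d7800162040f241082400182020b580a9390018201dbb409d410018101bec80725b001a2006c84105380010200e0ac10f0a0018200a3641099300122008b1403618)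
noncomputable def Tp90 : Nat := (nat_lit 0xfff04afa012d89001800429a810b3400162049d8c12e600093f0490f8010d8001c2044b9411e9500c1f04afd400e0a001a0049eb012e6700861016cf0115ae0002304627c124ff0030304137810571008e0045574112e90093f042ea802f300069f0494741263a0010204056c103a600c020276840c24f0093f0421dc002fa0093f0463201187f0093f04860801d0400023003b2c1019d0076004395810ab6001420405d8103dc001c10264941252b0031f00bd6410c4600142046c841275d006a104699812222009df00464812d0b00620048d281298e0093f0413dc018fb007bf044da0009b300880048854123b0001a2045cd41238c001c3047cb8115b90018204298c112f9008df00c07c114d900182043ddc11a8100102041b3010d5e0031f042c680156700302046da805868001210400c8100ab0072301cf7807ad40031f010694113c800162040248101a800162043318116a8001c1043fe0110c000183046e94124900018200aba410abb00003045ba01232c003bf04460c0058b0023f0428cc1088d003000172bc10ebf00162043e5c11aba00182017cf011f020016201534011a44001420084d8106e5001a104170c10aa400102015020076130018200fb2405c78001220058b01037b)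
noncomputable def Tp91 : Nat := (nat_lit 0xfe304905412be8000030450d811ffb00b8104b91412e600093f045fa400a2500b4104a9c012ec700c1f0482700085d001800482d8121130089f0070b0128ae0069f049eb812500001c304aa2012eb6001420409f4105ed0093f010de410c500068304678c1251d00122040ea0107df0018201dd20126ae0093f04407800512003000461fc11fe00093f0455d002d9c001620406741041f0076302965012dfc0014204210c10fc6001c302f9b80be820031f045708047ed008ff0495441275d00182046994126c30002300464810267008e304aa841298d0093f006aa41045e007bf042aa0100a900880048ec012215001a304b58412d62001c304875012ace0083f04b50812a63008c20111580301f001c3046a04126530014204043c102f10031f0415d80225c0073f04a6f4127f300183044d0411e1900182020544129dd0031f044f2402afe0016200620c1044000163045aa010ccf00003043fe411b2400181046e94124920018304ab8012ae600162043890118af003bf0425980033f002230413d41088d0018200a3f4109a600162046aec1270300182020c100a9650016201dbd009d4800003045f1412418001a3042ea8113610016200e19410f200018200a3881099500122008e1c03731)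
noncomputable def Tp92 : Nat := (nat_lit 0x18204905412d81001e304bb5412eef00142043d4811a4f0093f0436a40060000a7f045ab01276800c1f0452f8004eb00182045450121120089f0472c402c5e00683046dc412500001a204aa2012ed6001420417b810be40093f0457581144c0069f0494681248d00142041f8810f2a0018202768c0c2500093f046d340089f0093f04946c11fe00093f042fec0456200162040eb8107ed00162008bfc1076300142043f1c11ae800142008bd8107610031f0487700678c008e0046c8412551006a3049b0c12cc8009df048aac10267001a2047c3c12aa00093f04249c0106a007bf044da4101ef0089f045604123b00018201bc4812412001820456e8121d300820048ccc12a630066004931412ced001c1046a041265500142040bc0106b60031f006fb010731007230477a0127f300181044d0411e1a00182041334109eb0031f042b9001b3e001620406a4104410081f04870c122df0031f046c90008020031f0422b4104490018104ab8012ae7001620462c01250d003bf0412180058c002210428c811039000030410bc108d5002030475481270300182017df811f13001820153d411a48001620089bc1073300182042ea8115060016201515c076710018200fb5405c86001220058e810385)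
noncomputable def Tp93 : Nat := (nat_lit 0xfff04ba980baa300182042cd41143500c0104b85412e480093f045fa00038200023045ab0122e200c1f042e00002e3001820482d8121130089f0445280438f0016204662c125d6001c1044c7811eb7000230417bc10be50093f0487ac11ca40068204631c1248d001420468501266f0018201dd74126b20093f049dfc00e770093f04b7c4114150093f00b9281152b00162041fb810f3f00162043958118ef001c204482811b0f00142043940118e80031f04a5a81221b00142043630117ca0089f049b101223e009df0459e8100dd008ff0476f812ab90093f04444c009dc007bf047cb0104d50089f045d5c12190009ff04904c12bf6007e1048224121d300820048da812d41001820459341226e00182019288121320014304357810d450031f04381002bfe000230407b4104d1001a1047bf4129e50018204492c11de40031f041550010c7001620423c4110c500800045a9c121c30031f043fe400d7200003041124108fe001620091ac107e9001620433b0116e6003bf040720009690031f0440e400989001420406841042e0021f04999011d5100182020d400a9af0018201dca409d8900141006218103f0001820480c4120fa0018200e21c10f3c0016200a3bc1099f00122008e700374f)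
noncomputable def Tp94 : Nat := (nat_lit 0xfe1029c200baa3001820450d811ffc00cff04b920002ff0093f0462380060100a7f046cb4122e200c1f0416c8004ec00023045454121130089f0472c00620e0064304a550125d6001c304bb5812ea7001620417bc10be70093f04b2d81113f0069f04923c12702000030468481266d001820276ec0c2610093f046d04017a40093f049f9811fdf0093f0484a004668001620422e010f400076204395810ab6001c201645411c110014001cd24125350030304763c1221b00142045f2c1241f008830469941223e009df0432b410266008ff047c3c129900093f0471e80106b007bf04ab30109f40088104560411757009e104827812413007e104874c1208a0082004b5041236a001820489bc12cec002a204994c12c5700023008088106910031f04622c10b1b0018200eff4110aa001220402ac101f40018304779005d7e0031f0408c801b3f001620470781282d00162043314116a60031f04218c016120031f044198108fe0016200b78410bce00162045b9c1232b003bf0402680058d0031f042238005a2001420410bc108d60020101d97411d5100182017dfc11f14001620154b011a570020004625411b34001bf047290120310018201520c076990016200fb8c05c980012200369c10151)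
noncomputable def Tp95 : Nat := (nat_lit 0x16202458c12d4500182047fec12b9300cff049ac00051b0093f04381800a2800a7f045aac1276900c1f0409940085f001a2045454121140089f04a2b40862b0064304975812953001c304baa412ed600162042f941155e0016200bcc010c500068101e2141248f0076004394810f2700122040ed0107fe0093f044048103e00093f046f0812b790093f04b1381157300162043d00108b8001420059881038b00182047040128230014201cd241253500142043330116b1001620422d8110700089f0488fc126c2009df0459ec105b3008e30476f811f0f0093f04a1dc01aac007bf04ab18112530002301b618123b1001400409a01059100023040978105a500821048da812d400066204931412ced000230192c412134001a1041ad010d0c0031f0493c41141100183046ff0128070012204137c10a080022002108c129be0067f041554016c4001820428b4112bb00143040af0102c20031f043fe0103750031f046e94110df00162043ce01153d000030469a0126c8003bf00255c1002b0031f0411ec0098c00142042354110a40016200a3101098f00182020d440a9b10016201dd8809dc100142040600103ef001bf04517c05b0e00023040d141072f00162006df8105560012200598c1038e)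
noncomputable def Tp96 : Nat := (nat_lit 0xb8202458c1212a0018004aef412eee00cff04693c008ae0093f041cd80060300a63046cb4116ab00c1f040370004ee00b5f00ecc412c3d008820472d80862b0014204225811031001a200a5a0109e0008e30489f012c7000162011edc115d3006800499641248e0077f046844126700016001dda4126bb0093f0421b810847001c3042bd811223009230484a81157300003041fbc10f4000142043b101198e001420052ec10315001420266480bede002c004a054122ea001c3046ec011c16008810469901223f009df0432bc10b830002300a4b8109d80093f0485e00106d007bf047c7411dee001e2048ec412d6f001420416d810b870018201b10c1236c0083f023ed01236b000030489c412ced001a20484d012c58001a1043430106b50031f04621011fd700181046fec12808001200449e411e150022202108c129be0067f042b9400de40018204797812a1f00141040af001fbe0031f0443001077e0031f04924811c4700182010128112a900023043ad011973003bf04027400f9c0031f040708009c200143044290109030016204472011d5100181021fac12ad40018201553411a71001420421a411004001bf010e4011ca300162040d14107300016304155803eed00122008f64037aa)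
noncomputable def Tp97 : Nat := (nat_lit 0x182020ab412a8e000030480a412bbd00cff043d4800e8f0093f040d2400a2b0018204219c10fff00c1f0400f00086100b5f04845002653001800472d8128ad0093f044e7810886001a204490011dd1008e304b1c0122d4001620487a412cb50093f049964024810077f0468501266d00122043d7411a5c0093f040fc810fcb00182042bd8113e100b4304b61c12c4f00160040ebc107ea00142046650125d800142008550106e90018201524c11a320031f045ac4111fc001df046ebc11b25001820120c01161f009df041980114bf001a20427601122e0093f0455a401aaf007bf044d68129c3000030434ec11765001420453041209e0002300b13410b3c0083f01b10412d1c008df04b3b402ce6001a104b16012c57001a304342c1122a0031f0495bc10dff00722049fd0128080012204281411274001a204198810cb20067f044f28016c30016200a85810a2e00243045a9806b790031f00f04010dfb0031f0460a01284e0020201035c1131c00162041e6810eb3003bf0407380196e0031f003e24100ad00162040758104a4002030493a41293b00183021fb00a9c70018201de2409de70014204401411b33001a2016c380439000162041cbc10e020016200fbb405ca500122005a881039e)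
noncomputable def Tp98 : Nat := (nat_lit 0xb400496d0094dc001220409341058c00cff041fd4017c80093f0404d8010e00018204400011b2d00c1f0019181007400b5f04545403b32008800472d80862b0093f042b2811031001a304a69812ea80093f04b1c0102a70018304b2d4123a60093f049238038940077f04684810f2a0014201dda4126bb0092104211c103f2001a304485411d7100b4304b13c12d8600162040ebc107ea00162043bc4119c500142043648117d000182014e0c119b00031f048ba811d8d001c10441c011b250018304890012cd6009df04827410cae000030412b4109b20093f042fcc02a2a007a00477b81135a001220050e0102e8001420453081209f0016200b13410b3d00821023ed006c41008df04931404457002bf049a1408ae3001a10435781122c0031f046488118830073f04233c127e2001220449e411e15001c2017614116820067f047e4c0167f00023040ad01065c0080102314c0911200302041df803c100030104711c118280069f046d8c12a8700162043ad011974003bf04125800f9e0031f0407e001950001a1044290109ab002df046c1c124e300162017ef011f4f001620155c411a7a0020204625411b34001620114781150f00023005b28103ab0016200a3e0109a3001220090c40381f)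
noncomputable def Tp99 : Nat := (nat_lit 0x182012960116a100122042d081145600cff0092ec103ee0093f040d2801b6500a8304a9c41276a00c1f04059800a9b00b5f04844c1103d0088202b1ec0cefd0093f0422581139f0031f0185d812eaa0014204319c115ff00182048e9812d6d0093f046098054920077f043ca011a13001620277140c269000230096e410846001c304a55c12b470018201916c1212900162041fbc10f4100162046718126180014304909412d8e00182017e7c11f3e001800447fc11d8d001620054341032d0016204588012240009df0482e81167c00122002614100a20093f0455a00408a0093f04494c003a900122041ab810d3a0014204828012bf700162042cf0114480016201af141233d008df04617806301002a101da4408ae30016204275c1122c0031f0495ac124ef0073f046efc1109d00122047868129e500182042230110380067f04ace000dba00183047078122990016200b29c10b67001a2043a2c1193d00162041124109010000304220c1102c001620465cc125bf003bf042624019710031f0413981047c001a300f1a0109a6002df0461e81274a00162020e480a9ea0016201dec809e0d0016000d71c10e09001620190180888500162040eac107e70016200fbc005ca800162005e90103e0)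
noncomputable def Tp100 : Nat := (nat_lit 0x1a2048b5812d22001220451601202700cff042190016ff0093f041ce002b370000304400811b2e00c1f040edc0119100b5f0482d811b70001a002194012bc60093f047da010405000230415f810b2a001420458001221800183048e9c12cb50093f013da410f1000761043ca810f28001e2047764129ac0095f0031fc1272a001c104a55c12b48001820484a812c4f001620441cc11a30001a204606c1247e001020011a81001400180047d0012add0031f04a054111ff00143040c4c1032d0089f048c7c12241009df045340122ac00122040774104ac0093f0485dc05e810093f0477b800221001220434ec117660002304198410cb0007bf048db012bac001620245800b791008df014090120c60018201931c1213a001a3048eb011e2f0030304647c124ef0073f0441f411beb007a204a7d8129e200182046dac127a30067f04acf80082d001620423c0110c300162010fe41149a00161049620126d7001620423f8110df0016204100010882001630496fc12147003bf0446f40285c0031f04284c10953001a304269810902002c2046c1c1187a00182017f3811f59001620155ec11a8000023045f5c1242f00162011534115220016304380810f320016200a40c109a9001620096e403a61)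
noncomputable def Tp101 : Nat := (nat_lit 0xbc304b48812a8e00162042cb81142b00cff043fec00e0b0093f04383c10ad7001820421a01100100c1f04200c01c6b00b5f045334127ac001820188a41203e0093f04ac140180b001820415f810b2b00182045950122790072304b5b412ab60093f041f48034bd001620406a81044600182041344109f10095f046bb0014960095f0447a4010eb00b5f04b608125c8001620404a8103280016200de6c10ec200142040c6c106ea0031f0467c810aba0031f046ff411d91001c2046c941241e00883045b7012241009df04b430120b9001220412b4109b30093f045ad011e810093f044d68003a800122045d94123be001a3048928122b0007a10480481236c0018201af9812343008c1018c0405024001820225900afac001a30478c0123ac001820149381191f007230442741107d007a204a788129f6001420402a0101eb0067f047e6c004ce0016204431011c1b00162010fc41148300163049624126d6001e20165f011c450016204220c1102d00162012d44116e9003bf04473403e1b0031f044a28111550030104952012850002df041e0012b1a00182020e740a9f40016201deec09e160021f0440101241800162019108088c20014200e38810f320016200fbf405cb600142005fdc103fd)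
noncomputable def Tp102 : Nat := (nat_lit 0x101f02de5012ed700162047fc412b8a00cff046ca00085d0093f044eac113b60018204400811b2f00c1f043d8c02cbe00b5f04b99c120b50018202194012bc60093f049d5c00eb800182042ca811427001c2045c541236f001a2044d2411f0c0093f043c3c021d30016204111c108fd0018204494811de90095f043f281030c0095f04269400a3400b5f0490341197e00162041c1c10dba001a10491f81198c00142041df410e8a0031f0150701137e003030447fc11bfd0014204218c10ff80089f0431fc1231e009c3048ab8120b9001220426c8111f500182010230112d10093f042a7400642001e104b5bc12d71001a3048ac012249007e004ab3812d5a001820246100b7aa001a204832012c11001820193281213b001a1047ab0123ad0031f0493b81256c0018200edfc1107c001a20429d81131d001420407b0104d00067f044f480082c001630406a4104340016200b25810b510012204013010105001e201f1901284b001620440b011b5c0018201379c117ac003bf00faec1118a0031f0478ac11cc2001420439741083f002df047dec10e8f0002301819011f910018201562011a850021f045f1411b32001620115841152a0018301c788077380016200a458109c3001420098ec03b14)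
noncomputable def Tp103 : Nat := (nat_lit 0x101f04aa3809163001230416301025300cff049d8c004eb00922042b5c113ab00182046cb81276a00c1f0469880441c00b5f049dd012c07001a202b2800cf1c0093f046c64008c70018104509c06176001420455741216e0072004b2d812ab50093f0467b8034be0016204437411c46001a004480411d7c0095f042114106dc0095f0412880060800b5f01bbd0125c7001800460101245c0093f0491f81193500142043a241193b0031f047d000383e0031f01657412969001c304907c11b200089f045b6c11621001e1022a1012ba6001a10448b811d8500182017a0411e810093f0414cc00a96007c10473bc0901e00023045690121be007e004a4c41236d005e00281e40b7c000182045368120c7001820225a40afb3001a3047ab0123ab00300046480124ee00182046eec127dc001a2044c7811ed5001420427bc1124f0067f042ba800db80018200ffb41126d0016304520c1205b001420403d8102b30069f0269d41284b001a3046d7011b6300023045380120cc003bf044910028ce0031f04a514128bb0031f005ce010173001a20404c810341001c2047e4412b350018201df2809e2500201044010117c500162019168088e30016200e47410f6d0016200fc5405cce00023040cac1070a)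
noncomputable def Tp104 : Nat := (nat_lit 0xb8002458c1212a001620481a812be500cff04b980002e300003047de412b15001420409bc105d100c1f049b04062b300b430482d412774001a202199812bcd0093f043fb4005290031f04a69811427008e2045574112e90093f0444fc028db0093f04941404f6a00162044e4011f56001a204480411d7c0095f040f7c10d7c0095f04075400a3300b400465f806ef4000230404a8103270093f0466301258100102040164101230031f04ab740541f0031f04763c11c3800003045f2c1241d0089f0433981224300b3f0459f412c7d001a30476f4129630018200a8d010a3d0093f04087401040000230445e811ceb001a2045690121bf001a2047524129320018201b0181234f0016200f60011131001620467e012654001420407ec104eb0041f01c7741214f006df046a980448f000030449d811e170014204779c129bc0067f0415600167d00023044d1011f0000023010fe4114990014204196410ca00069f047d98074330069f047b5011b5c001a201a668122aa003bf04278803eba00301047568128bb0031f040f6400e2f001a0043a3c11875001c304acd4128600018201569011a8a002010253d807a3600182011674115320016201555c077950016200a498109d00018200243410061)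
noncomputable def Tp105 : Nat := (nat_lit 0x101f020ab41212a001620429ac1131300cff04b914001a9001a301633c11b7e00b4104bb1c12c4d00c1f049334086f100182045334120b5001a202b2e80cf330093f046c60008c60031f04774810b2a001420403d4102a80093f04729003ecc0093f046284034c0001e104a13012af1001a204764c1296d00942041b70103df0095f041284010ec00180043e8c119700031f040c9c007c20093f04986010ec200140040c6c106ea0031f047cf8119f40031f04886c12844008e304954812d8b0088304588410ce600b3f04861c122ad0018200fb18111d000182010244112d30093f0402fc009c10016204258c11179001a20486f812c9e001a304a4c8129a90018202469c0b7c10016204724c128940028004994c12c5700242041308109d90041f019494124ed006df043e28114e7001220449d411e1600023008cb4107700067f042ba4023f8001a2044d1011f0100162045264120780014204599c122900069f04ac04052780069f044c701279200003042934112eb003bf00fcfc111cc00182003e28101c30031f0420fc00873002df044ec4118750022201f374128600018201dfa809e4e001a200d42410dda001820192c4089480016200e49810f6f0016200fca405ce1000230404cc10342)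
noncomputable def Tp106 : Nat := (nat_lit 0x100202458c082ad00162047b2c12a8000cff049a20002e4001a2046df8127b900b4104b13012ecc00c1f01c62c12bfb00b5f04402c12c08001c201e82c127650093f04b8e41198b0031f04490402c210014204190010c690093f04513005c7d0093f04385404f6c001e304a13412af0006df0449481296d00003041b7810d7d0095f04268801b780012200397c101690031f0404a800d0a0093f0467180379b00142041bd810da50031f017e7c1264f003030470e01221b0018204642c1255200880048c8012cd700b220459f412187001820475701294600183047a0411e860093f002830100ac001620445e811cee000230486bc12c97007ff048d98129ab001a001b038123290031f0411bc1091d0028304995012c5d002420448c41178e0040201c77406525006c301123c10f8a001c1047b54129e300162040dc01076f0067f044f44037d1001a2047c0012aa80016200b2b810b6f00122040b641069a0069f04a8301194700681046d701131c0016204140410a4c003a100fae803f3f001820065401047c0031f04397400e2e002df0437d810ad30022002aa7409d1e001820156e411a9f001a2013f5c11848001620116f81153b00162015588077a6001c3006f6410560001420404cc10343)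
noncomputable def Tp107 : Nat := (nat_lit 0x162044c4411ec800cff0468bc004ed001a101633c11b8000cff0036281026f00c01021bc40718b00b5f0482dc11b38001e10474a4127650093f049d58125d60031f00fe2410b2900140045804122170093f010dec11d600093f00e170118290031f04abc011a11006df04764c11de90095f043f5412d7a0095f04479402b5700122040f2c1082c0031f040ca0015750093f043bc4023ce00142045f981243a003000467d005f9f0030302cbb00bcc7008ff049070125960089f04892c12320009c10459f0114d0001a304474011d58001820428f0112d20093f0407c4010ad001620473ac128e2001a004566c07e4a007ff04776012d580018201b03812329003010411601046f0029f01d95412c5c0031f0448c4009c60086304895c1273b001a300ac3c1057f007bf0177b412a8b001620439ac119120067f047e6805392002420201901299400162011004114a300143045ca0122900069f02074c125900069f00a7e81214600162042934112ec00162044d9811f290018204254c111540031f041d9c10168002df041f6010550001820182f011fa80018201e00809e6800182014c881197b0016201936c0897e0016200e50010f78001c30415801023f00142040d081072a)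
noncomputable def Tp108 : Nat := (nat_lit 0x16304aa0012ed000cff043cf800860001620410241089a00cff04174400810001a20126181167700b5f045338127730002301fd58129140093f002318129530030200b08403f89000030431b0116020093f04a524061fb0093f04915c10f1f0031f04a1341266d006c204494811d9300003043f5411af80095f0475c410ae2001220420dc10fa20031f041c1c022720093f041f080165b00142040dcc1077b00023047cfc12adc008a1025cd812cf6008ff04653412d8a0088301addc1224b00b3f00b63c12c0b001c004a58c1294700182047a1412a400093f04136800a07007c1048ef8128e200023018acc120a2007e1048d9811dd8001a20246b80b7c90030104a250124c50029f022604126570031f042764010450099f00d67412257001a20415fc10b2c007bf047b5c0817e0018104779c125590067f04acf40758f001a0047c2012aa9001630481e01207d0012204345c1172a0069f046fb005e310069f0454f402ae800162044bac11e9c00162006c8c1053b001c20431441144d0031f043970103c1002df043c681022d001820212940aafd001620156f011aa00022201657811846001600117201152f00162015610077c600142006e8c105600012200386410167)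
noncomputable def Tp109 : Nat := (nat_lit 0x30430401158a00cff041fac100720016301608011b7f00cff042f08004bd0016201735c11da700b43046ce0114ce0093f01fd5812bbe0093f04975800eb7001c20203e0129b80014204190410c6b0093f04757806f120093f045fec11a090031f04711811a12006df044808129ac0095f04900811af80095f04a55c113c600122043e88108370031f0436e8035a90093f040e64023cd00142043a1c11938001820467d01264f001c2048a3012cf6008e30490701194d00b7f02ca7c12cdf00b3f0482f010bbf001c004a51c12963001e1044b48114440093f042804005ed008ff0486441290d009df04b25c12bf9007ff02a60c12d590018201b04812355008df04a250114da0028101d954089810031f04130801a700099f0458dc050a9001a20450a011fea007bf017b68129f700182046d981279d0067f047e801260e0018200fb7c111db007ff045de412ba4001a3045ca8117c00069f0163d011e4a0069f043ce001b31001a1047a7011e6e00162042aa0113680002301775c11e230031f0463f410814002df042064100c7001820183ac11fac0016201e01809e6d0027f04366411847001620117201152f0016200e72010f9a001c301086405ce4001a000243410061)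
noncomputable def Tp110 : Nat := (nat_lit 0xcff04304010a6900cff040eb01016100920042b5c113ab00cff0454a4002c80093f04673005cd70014204402c11b38009210480cc07f560093f04662c018080018201856c11fc7001420431b011603001a001bc4812412000030476c4129820031f0443741266e006df04776411d940095f045ecc127350095f04ad2011f8f0095f040f50004c50031f046010050bb0093f005a18107a20014204961012e05003020467d005f9f008a2025cd80bcce001c0046c941241e00b630235080b29f00b3f0453501152300182019bc8121d1001630451c010b500093f0449b800a08001a104864412c62009c30486bc12bf9007e20247680a983001820246c00b7cc008df04724c120c7001e204379011852001430069c0104eb0099f01229411893001a2047fac12b85007a10205f805eda001c2041dc010e6c0066201d63c11fa00018300a23c10658007e104802011779001bf043e7c11729006830178c4058f40069f041fa402ae9001a200e9e010fda00163044da011edb001c0042868112830012204065c10417002df040f101022c001820213880ab350018201576c11aa40027f043768117da0016201939c0898d001620158f00789b0016200a4ac109d5001a304059c10343)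
noncomputable def Tp111 : Nat := (nat_lit 0xcff04182c1131100cff041fb0103b100b83049ee412b1700cff0484980019a0093f04988011da700b4202b5f00c56e0093f04b98412bd10093f043b08026550018202160c12b6900142045808122190093f04474812412006830476c41265c00300046848110dd006df0175681296f00940046be0117b30095f047e9c12b320095f0420dc002cc0031f049170118960093f043b1000dbe00242013f381184500903044e2c119f3001820088201071a0031f046c941077f001a202335412cd000b3f0454dc10b8e0018004af9c12ca80093f042d40129d30093f046db0010ae008ff04748012c62009df04530c12c9e0018201b1bc12371001a2045718121e0008c204536811c9300261019390118520031f006820104eb009810142a4048a5001a2049f8012b8600023020a2012a6f001c204644c1255a001a201e7d01275b003bf04127801eca007ff0481f41205c001a104345810f9f001820148e01191a0069f0091ac10abb0068104a8c8128a800161044da011edc0031f00837410a1a00122041060108b0002df005ce81054e0016201848811fb70018201e0bc09e9f0026104366410dda0012200487c10275001c200e87c10fa50016200fcbc05ce6001a3041ca810427)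
noncomputable def Tp112 : Nat := (nat_lit 0x16004182c10c0c00cff040eb4107f900b8204ac541280000cff04b130000eb0093f0469741297d001a0018920120500092102826012bd10093f00de6c108940018104ada412b660000304191810c6f0093f045f0411d5f0093f0476c4004d10077f044374107e2006c304765005d5a00162005ea0103e100941047e3c11fa70095f043e88004c40030304600811896001020020a81006d002420492c012dc90000304393c118e5001c001c478124b20031f04907810e8c001a201fe081292200b3f042f2c114d300162041360109f40093f04780c1147c0093f0440e001b17008ff0485541290e009df0486f8120a1001820248780b8300018200a6fc10a09008df016ba012c1100260027ba00afcd0031f0407ec0100200182047c1c12ab0001a204ae18127e0001a20429dc113090012204137810a07001a3049d6c096ce003bf00673810658007ff0481e01147e008bf043dc410d16001c201776011e280069f044e04016cd0069f043f6812a5200161047ca412a8d0031f044a0c03353001220441a411baa002df042b4002510001620214840ab72001820157c011aa900162043368116c50012204177c10bd4001c2015ae007931001220400b8100aa0014200610410427)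
noncomputable def Tp113 : Nat := (nat_lit 0xcff047b2010c0c00cff043d6010160001820097d81086600cff04bb30001990092304769c11a5d00102042d3811473009230313bc0cf390093f0440f8023cc001a20068d4104c900142040ab0106450093f04a520124130093f0499700083300003041f8810f29001c0049c7c1296e0016204212810fd20095f044854113c70095f0420b00081c0030004996812da6001000036f810154001600464f812583001220035101014500182043770118490031f045f281193f00a9f04b3ac1292200b3f0482f402dcf00162010fe0114930093f044998120590093f046dac02ac8008e004748012155009df04569012bf80018201b1c012372001820449f811e1d008df04832007e2f00182019398121440031f0413b001a07001c30468f011a7000003047fb412b86001a2044c2410a77001220449dc11e18001a2047e4812b36003bf00a23c1049d007ff0452641205b008bf042024117280018000a6e0109f20069f047d0c0246c0069f047a7011afd000230427e0112580031f04788c0437a00003041060108ae002df044eb810818001c20184b811fb90018201e11009eb800183045b14117d9001200118381154a0016200e8c410fb0001220407cc104dd0014100610410376)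
noncomputable def Tp114 : Nat := (nat_lit 0xcff04a9f011586001400039d4101600018200ead010ffe00cff04a9c0002c7009c1042e0c106600018201892012050001a202335812cd10093f046dc40379a001a3042780109e60014204191810c70009ff0475741209e0093f0467f400dc30077f0423f410f290031f046b680555f00162043f4c11af7001a204485411da30095f040f2c00d9e00182013c14118020093f0466381015400162043a34119400012200572c10368001a201c478124b200303043a30117ca00a810237a81292200b3f04b00c045b40016200b29810b65009230451f0112660093f045a0804165008e104864411d20009c1048284115a40018202487c0b83100161044444112f3008df018da412893001820226300afce0031f04286402938001820411c410943001a20450a411fec001a2047ae812a6e00122020578129e40016200d71c10e09003bf0426641097a007ff04520c043f9008bf048a4010f72001820407b4104d20069f04ab80038740069f0479b81273d0018204135c109f70031f01775c1144d0018200aff410b19002df044fe810f87001c20214c40ab81001c301e1f011aa10025f04336811691001220118381154a00162015b480794f0012000a6f010a060018304109c10889)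
noncomputable def Tp115 : Nat := (nat_lit 0xcff04bb4012196001420039d41016000183046cac11b4700cff047af0004bb00c1f04037400e10001a20219bc12bd500b2202b48012efb0093f04940005347001a104490011247001420431bc11607009e304904c11d5d0093f0499740168d0077f041f84110de0031f049c7c077a20002300ecf011043001c00499cc1297a0095f0420b4016530018204916c12da50093f0497601006d0031f0441c010e8d00122041d8010e4e001c2025ce80bcd100162041dfc10e8c00a9f02985012cd000b3f0482c0064d20016004526012072001a200b0ec10b3b0093f01761411351008ff04747c12c81009df048ac012bf70018201b1d4123730018304a7a412a5b008c101f8bc06369001820193a8121450031f044a4003f43001800444e411c9b001c3045378114f10083f01ae5012a6e00162044a6c11e3c001c2047e7c12507003bf044660111a9007ff010fc41149a008bf04599c11a790018200a6e0109f20069f04ab9c10f3900681046bf411e6e001820427e01125a001c2003d0c101b100181046ea811fd5002df042c2811a9c001820184e011fc1001c30279e809ef7002410432ec10cda001220194ec089f30018200e94c10fbe0012200a6f010a060012200231410084)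
noncomputable def Tp116 : Nat := (nat_lit 0x1c2045ba01232d00cff04696000e750068301ea38122aa00cff044c280080d00c1f04099810164001c204afb012ef9001a304af6012cd10093f04627c1198a001a204a69412ea8001430488641221f00b6004ba4412e1b0093f046a080240f007630423f4107e10018001de88126cf0018200ecf0110440031f04a5e810dc90095f043e8c023c10030204996812da60093f0466500082a0031f0422d8119400012204393c118e6001e201c4b8124b500183045d001228f00a820233540a61400b3f018b481213e007df04a724120770018200704c105890092201059405d85008e304864411d1f0018204198410cb10018202488c0b8340016200cb0810d2500182018d8c120d8001820226440afd50031f0478bc03fe5001820444e411c9b001c204537811fed0016001ae5012326001820415c410a23001c3047e7c12b37003a10425e811198007e2010fe4043f1008bf049b5810ca00018200ffd4112720069f047d2811a260002301ea38127820018204496011df000162003e8c101cb00183046ea811fd4002c1043e1c10b0a001820214f80ab8f001820158a011ab20027f013f5c1197b001a20119941157200182015c00079820012200ffe805dd1001a1041cac10893)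
noncomputable def Tp117 : Nat := (nat_lit 0x93f048cb41060b00cff049ae01017700b8104b42412e7d00cff04299800d8400c1f0416cc103b4000030482d812c0600b2104b16812cd100920014d1c1189f0031f04baa011fe90031f04191001abe00b6004b86c12e910093f0467c4037f50030000608c101ab0031f04a5b8126cf0018204410c11b790031f04768c118210095f0465c0037880090200e26010f0c0093f043b2800db400302043a34108b60012204639412533001e2025d200bce2008a3045d001193d001620451e81205600b22019348062d2007c00477dc1207700182042ce81144100182021b3012bea008ff02198012bcb001820459f8122b0001a001b2441236e00162045d141239e001820132101173c001820194a0121510031f048eb005dbd001a30411c402882001c2047fb4114de0083f047ae812326001830478f011404008e004929812b3700162044ba811e99001a20484881215c008bf049624116660018204784c129df0069f017ee01267e0069f048aa812782000230449ac11e08001c30424701097600182047f5012b70001a2043e201187b0018201856011fc60018201e20409efa0027f014c8811848001a201968808a6e0014200eb941100d0016200a71c10a1c001a104224c0357c)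
noncomputable def Tp118 : Nat := (nat_lit 0x93f045ba010c0c00cff049acc103dd00b8104b9f412d0a00cff044c2c0162b00c1f042e0c107ff00b5f04b018127ad001820192e41213700a7f047d2c1189f0031f04a69412b840031f0431bc0107700b7f0114b012e1c0093f043c44053c10077f0499bc127d200301047650126cf00003040fe8108760031f044854124860095f014b9810eb6009230467ac1247600003043688117e2001620441c411bb100760046a2011f95001c201c4dc124b8008ff04965c12d680016204815c12bd9009df04197c105b40093f0427e8011830018004510c1200a0018002065c12a00008ff02198412bca009df0482801167e0018201b2441236e001830458f411c7700023018d94120d9001820227700b0230031f045d4404c0a001c20469c011c9d001c3049f70120e10083f01ae2812a6f00003042c4c11405008e004acdc124a600162047a6812a4f00142040974105a4008bf0464f41228f00142006c6c104ee0068104689805fb800681046d18122aa001a200ff901126a001c20411601091c001220422bc11068000230461ec124e40018202158c0abae001620158d811abd00262013f5c05322001620119bc1157800142015ec407a5f0016201001c05ddd0000304101010890)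
noncomputable def Tp119 : Nat := (nat_lit 0x93f048cb01158600cff0469481084400b8104b98c1280100cff047af81037a00c1f04198010f5e00b5f0482d012e6f00b3f019ee012c8a00a7f046c50050c800300047fa4129a50031f04581c1020f00b7f0496d8064140093f0467c0119d500761046e981266f006c302d81c0c28d00102040fe81087900300046084112150095f0465f8074c400162043c20119e5001020401601012100183046ec412496007830494cc12aec001c2025d3c0bce7008e1048e64125970018201b648123b5009df040ad810b850093f0449780196e0018204510c1200a0018202065c12a00008e102198008661009df045308122b1001a20248fc0b84c001830471dc1163b00182018da0120da001820409d0105de0031f0434b40324f001c204727411a70006c3049be4127dc0083f020a201232500142006f0010566008ff015d8812b43007c10434d81096d00142042dc4114aa008a10459981193d001420414b810a9700003046d401278700162040c14106d3001a20449ac11e0a001c20433b41110100183049f5012b70002df0415b012b600018201867411fe50016201e24c09f090016201163c1152e001620196b808a790014200eb981100e00142006a80104f20023f041c281088f)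
noncomputable def Tp120 : Nat := (nat_lit 0x93f0494381219600cff043d5410fc80016200dfcc10ef900cff044c341078900c1f04697410cae00b43049eb4120b400b3f022a641223200a7f043fa8035b200181047f2c11fe90031f04887c1050f00b7f01d34c121160093f0499281262b0077f049bbc127d30018201de88126cf001020421d81101d0095f0447a0010ed00b5f01bbd0125b3001620467981263c00102040488103190091f0423e01182d000230463c81253f001c2047740129a0001820434881173e00222042fe81156f009c30416d0102b60093f0477dc00f9e0002304497411df4000230409281058300162010fb011482009c10459f8114c2001a201b2481237f0016204444411c770018200782c1062b001800194cc121530031f045d4004c09000030472781289e00162040f141081b0082101ae2808288001420044c810241008ff047e8011b1f00003045d6c123b3001420452ac12088008bf04a0a01228e00142042a58113540069f047d2c127870018304539411799001a2047820129d9001c204440410ced001c304ac3c127d4002df047efc10b09001820216bc0abfe001820159f811ac1001820454f012143001830456341159a00142015ec807a600014200a85010a2c002200410081070a)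
noncomputable def Tp121 : Nat := (nat_lit 0x93f0462c412c8400cff043b44038f80016204674c1262900cff044b2c10e9f00c1f04769c1167c00620042d681116d00b21019ee008a9900a7f046c4c022790031f04a6c812b690031f04886410a5f00b62019050074d30093f04682412e4100762046e9c126ef001820277fc0c29200183046de411b4c0095f0475d001b7a00b4201d31006ef40093f04679812da900102041bd010da10091f049258110d40018204395c118f1001c304a680080bd00182045cfc12399001420048f8102830016204099c105b50093f0481dc01971001a20427e41125c001620402e00114900162018a0412064001a00458a012247001a20249000b84d001820458ec1225b0091f0483641239500182042f4c115470031f048eac117240018204a27812aae00162043e2811aa500162012d14116e3001420415c810b00001a0046c7c12759007df047400123b3000030452ac12085008a304705c1228e0002300ffd8112730069f046d3812ae90016204359c11799001a104a764129c50018304070c01fd100003046a54126ee002df044fdc113f9002420187801200e0018201e3bc09f7a00143040ef81040b00183045668065dc001e304284010625001420101c005e670023f00869c10852)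
noncomputable def Tp122 : Nat := (nat_lit 0x921048658118b100cff041eb0024c3001420092ec107f500cff01021411958001a00459f0122a700142045218120690012204164810b4f00a7f044f64035b30022104a6c8129b90031f045808112fe00182010270112ee009230498ac11a09007620499d4127d90018201ded0126d80093f04008c003040095f04a56802b5c00b8302de5012e19009220491d8119e600102043688117e30091f046ec411c3a001820463c81254100142040780104b40002301b4ec1239a001420417ec10bf7001a30113c810b860093f0452600285b001a204497411df500162004524100b8008e2018a0411708009ff048e3012cde00162013140117310002300cd0810d550091f045cf006363001820194cc1215300303047ab011724001c3049a6412ab000842049f78123ca0016201ae701232800142042c0010572008ff01d63c12759007df045d6811d0e0018200be0c10c7c0018204430411c17001c20449cc11e1400683047d2c11b4e0002300cdd410d69001a204596812117001c1044404111540016200e1d810f3a002df01a5a811fbe002420217e40ac4900182015a2811ac20014304102c103bd001a2011b3c1159a001e204189410c3e0016200a8b410a3b0023f00979010708)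
noncomputable def Tp123 : Nat := (nat_lit 0xcff04aa00118b100ce3008f70024c30016104693c1262900cff04847805e7d00c1f01735c122a700621049e6c1206900160021a5412bda00a7f042bc00227a0031f04ad98129b90031f0431a810bec001a2016b8411c92001c200f224110ed0095f0438c000ecc001820278400c2a40093f001464100040095f04921403c680016202537012d82000030467981263b0091f0466641243b0090104435011bb1001820494fc12dfd001420426f41120400181045d0012291002200485f412c7700b3f0229f812c1d0093f042d9403e19001a20477d0129c7001620409241058200161042d4c1146b009ff04892012d620016201b3841238900162041b0410d540091f013210120d80018202279c0b02b00182044c0011ead0084102356412ab000182046ef0127dd001e2020a0c12a6b00142042c4c11406008ff046c6c05392007df04465810d32001830431f0043ba008bf04329012829001c30478501135400023042af4113880018301365c114ea0002304326c1165a001c304467411cc000182049bb81267f002c0044fdc0696a0020201878c120100018201e3f809f88001420402181018d001a201977008aad0018300f7ec10c3e0016201023c05e860022100869c025e4)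
noncomputable def Tp124 : Nat := (nat_lit 0xcff047b2c1250f001620190ec1212100c1f0469401196c00cff0190c011e7a00c1f0459dc03f2100623049e6812bd3001220451ec1205800a7f0415680157a0031f047f1c080f80031f04190002e2f001a201f89c12890001820437f8118810095f044e10018290018201df10126dd0093f040094008ab0095f0460800272b00b42025370125c80093f0491801263b00901045f98119990091f04b81012dc90018304b7f412dfa0014204481411d9600162043dc811a790031f0412a80123f00b3f02214c12c7a0093f04525c111890018204499c11e05001800429b010b2f0072104a2f812bdc009ff04b5841162700162024a440b89900162045e20123d700902018d8c04c84001a201724411d67001c0047ab812a5e009a204aabc124fa00842048f28127de0002301ae70123270014204159c10b01008ff043fbc037d1007df0425c811759001830451b41161a001620403b410292001c1047c68129df00182042af41138a0018101365c114eb001a1042ec011134001620412381097600023044e9411f6f002df023ad812b63002020217f00ac4d00182015a4011ac5001420406381040b00182011b2c11599001830430f803df90016200aa4810a850014200602c10405)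
noncomputable def Tp125 : Nat := (nat_lit 0xce00462c411ecb001620222ec12c4800c1f043d48125b100ce10179f40643000c1f0126181121a00621049e6812bd400142021a5412bda00a7f006e201034d0031f01856c129b80031f0431a410be60069f04a954128900068304a16012e290095f042af0026800018202787c0c2ad0093f04020800e790095f04372403c670095f049720125b40092304679812460000030404901031a0090104960c12dc9001620155d011a7d001c304a4c012971008a2043dc8116670031f04076800b0100b230229f8088530093f0481d811d00001a104a71c129d600023042884112a10091f0450ec12d53009ff048e28048550018201b4b412397003bf04596c03d030016200b54410ba5006df04759c1291b0018200669410499009a20493e812aaf00841028938093a000023012cfc116e100142044fbc11fb4008ff00ea9410ee8007c00434c81097200182010eec1146c001600432901159500161041c2c107cc00182044e2011f4b00182043f64114eb001a3042ec4111330016204467411d14001a2044e8c11f6e002c202153c08eb6002020187c8120110018201e40809f8b00142040ef41080f0018201989008b02001e3019bc407aa80016201045405f230014200996003b38)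
noncomputable def Tp126 : Nat := (nat_lit 0x304561812195001a202317812cb300c010465b010f5200162026ab812e1100c0200fc84049860062004af50127ad0016202b3840cf4f00a7f041cf0010f5003020203e00615b0031f0458041156000683047a78128900093f043de4037f40095f00abb0108ba0018201df58126e00093f040614017a60095f046084110e400b5f02537012e1900023044e7011f630091f00208412d9a0091f0460bc12e05001620469f8126dc001e304a5cc1299f008bf048e64126c90031f0412a40123e00b22042e3810bcb007df045d6c128f10093f00f75c1125b00162042884112a20091f048d7412002009ff045cc80681400182024bac0b8f0003bf045a681110b001620453e8120ea006df0474bc1294d001c30447041172c009a3029fb80983e00142003f58101d40083f01ae7012a6b00142047f3012b56008e100df4403aa50089f04a3f012a4f007e104528c1205c008bf047060115950016304601c119e2001610476b011f4e0002300e9dc10fd9001c3040ae8105c7001c2047300128b80018104ac3412b19001a201d4a8125ce0020202183c0ac6200182015c1c11ae200142043df011a8900182011b501159d0016200ecbc1103c000230406cc1045c001820061a010430)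
noncomputable def Tp127 : Nat := (nat_lit 0x93f045b9c121950016004848c12c4700023040e00107920018204299c1130c00023041330109e8001a2010efc1147400162021a5812bdb00a7f04384801b87001c2023e8c12d1b0031f04885c12172001630412241093f0093f00e50810efa0095f0441d40418b001820278d00c2c40093f040fe0025bd001c200f1c0110e400b9f02de5012d86001c2044e7011f650091f0490dc00da60091f049610124980071f01cd58126dc001e104a5cc129a1008a10469a4123990031f0426c001d7900b23026ac00b08d007c10474001175b0093f0477d003e3100162044a8411e41008e104800806281009ff013190122460018201b4bc12398003bf0432fc11c71001800483e012c25006c104759c11d2f00160045cb41238500162040ad01065d00142041270109970083f020a0c12328001a0042c0810cba001a201dfac126e500882047a68128fc007ff0481681207e008bf0462a410c1b00162040cac1070b001630476b411f4d001c3048f9412781001c104596c1169c001c201775c11e240018304ac3812b180014200262c100a4001820187f81201c0018201e6200a01a000230454f012142001820198a808b060016201604407ad7001620406cc1045d00182009b6003bf4)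
noncomputable def Tp128 : Nat := (nat_lit 0x923045618116e7001820110a4114c6001420058d41037f00182047afc12a74001820068d8104cb00b5f0110d812ef90016202b3880cf5100a7f041cec02b6c001a202143012b55003030457fc121720002300f87c1118b0093f046750024fa0095f046ed805fae001620462c8125100093f0421d8017a80095f04485403c7000b810253700b794001c2047d8c12afe0091f045f8c016620091f0464e012dbf0071f0469f81253e0031f0412dc008c3008ff043a60126cd0031f0447cc02e45001a202491412d5e0093f04af9c1175b0093f04a71c05bb400160047a48129ff0091f045c1806281009e301a05004c6400182024bb80b8f4003a304442c10cbf001820483e012c25006c104a4681294e0016200c99810d190016204197010ca50016004476811d640082201ae700828300240048c1412b5700180010874113c50068204a94412891007e304528c1205a008bf04690811594001620436ec11806001620412e8109cc001c104834c11b45001c304596c1169a001c304789011289002df044ebc0173900142040784104b60018202186c0ac6b001a2015c5011af0001620056901035c001a2011dc4115bb0016000ed04110480016204117010925001c200622410443)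
noncomputable def Tp129 : Nat := (nat_lit 0x1a2043d9411a6600182045314120a700142040e00107930092204bb1012ecd00182041330109ea00b5f04afb0062d600182045ae0122f200a7f0089d010aee0018101281c1124e008e3048dbc12218001a204462c11d03001620467501262a0095f049f6411f45008bf01dfc8125100093f044074103e10095f042b880273000b9f04b13c0916300102040200101820091f0436881038b00901049260119380070001cd5811a7e0031f04270000eb20002300dc7410e980031f044d9010bfa001a201f964128a0007df047564123b40093f04a75811d1c00003044b8411e920091f012edc11708009e1048e30122480018001b4c8123960018201694011c6f001620483ac12c260016200673c1049f001a20130a41172e001a301ec44122980014204476411d66001a2019e201221a0031f045b14015f500182010874113c50088004a24408e10007ff04812812081008bf043d38121a90016204601c12461001620427341121e00003045e68123e4001e3048784123c70031f044a2411154002df047de80246e001e001730c11d97001600451441201b001a201e6400a021001a104063410336001a2019bf808c100016200ed0411048000030402d81020a001c2009c2403c37)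
noncomputable def Tp130 : Nat := (nat_lit 0x1a204699c126c7001820482a412bff00142041e4810ea700cff04144c0162c001820427a01124800b5f021b68120b10016204170810ba900a7f044f58035aa000230427b81124d0093f0444cc00239001a304a240128f200142043be0119d00095f0499d411a22008bf0462c8126e60093f046d301084a0095f044f18018a70018002458c12d450010204060c103f50091f045f88107a600142040cbc1071400700049b6c125400031f04482401802008ff0469bc0371d0031f042a981157000cbf01f50c12d5f007c0045d6c11d590093f04781412087001020402c81020400902018a0404bb7009e104b37412d63001620434801173d001a20424881110d00182041a7010d1e0016200a3ac10998008e0048b64123860018204799012a28001c2047588120ee0002300bc2810c400031f048c1400d5e0018201817411f90008a204a24408e10007e10452981204a008a104565010f4e00162046788126390069f00f1441297b00682048ff8123e400182043124115ca0031f04789011cc0002df04ac60016ce001420426fc11207001620451441201b001e301f3201273f001a301608811851001420403cc1029d0016201607807ae400102000da8100060018300a2ec1090f)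
noncomputable def Tp131 : Nat := (nat_lit 0xfe004af9812ccd001a204823412bed00c0104b90012e1500cff04299c023870018204776c129ae00b43018b58086da00162045414120f700a7f047e58050bc001a20427b81124e0093f0472540014800023016f8011d270014204988c12e3f0095f04687c12537008a001dfc8118b20093f046de410fd30095f047e3c00f1a00b9f0484a812d4500123040fa0101820091f04368010ecb0016000d34810dd1001220059b81038c0031f0476640264b008ff043db010e9900303042fe810aa600cbf048e00128680093f04b2a011d590093f0452a8129d5001020413ec10a420091f012ee011707001a2019a6c121bd0016201b4c812396001a00471d81287300202046130124b60002300640010460008e2048b6412386008bf0459b812a2400003043004115760087f04886808c220031f04ad5c009bd0075f049b9012b34008a304a54012891007ff0481241208200162042f1411530001a20411341090b0069f04a604110d700003045ec0123fe001e0048f1c11c910031f01775c128b8002df04ac380246d001c201730c11d9700162007a141064e001e101f3200a047001a304063410335001a0011e64115c10018200ee3411082001020400c4100b50018100a2ec03cce)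
noncomputable def Tp132 : Nat := (nat_lit 0xfe104bb4812be500b7f04afb412c0c00cff041e48011ec00cff044c30037310018104a6d812eac0014204168c10b6a001630483dc122f200a7f044f341189d001a204493411de60093f0489e4002360018204749c128f20014304b8fc1262a0094304688811a1f0018201dfc8126e60093f04410c11af70095f047e9c018a600b9f048cf40645b0012104406811b1a00903041e9810da00014200d34810dd100122041ea810ece0031f04a5cc03b27008ff04201c1194f0031f0476080466100ca301f50c123800093f04874405c6e00921047814114aa001a2042918112db00901012edc04bb8009ff04b59012c9d00182024bc00b8f70016004194810a0c0079f0492d8120d9001820411801092c001c201aa20122da008a30479841166e0010204039c1028500862019e2008c220031f047ed0005c10002301dfac126e4008bf01f8a41294f007e304529c120490016004565012133001a20443c811c5a0069f0476b811c400069f048330123ff000030444b811c910030204730005dd7002df047db803876001e20200d8129740016204321011634001c101f3c41274500160041d4810d9a001420418a810c44001820161e007b43001020402d81020c0014200637810450)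
noncomputable def Tp133 : Nat := (nat_lit 0x162047b3012a8200b6104830012bed00cff043a9c017cb00cff047afc052b00018304a6dc12eab00142045274120790031f0483f0003ee00a630142f0113cd001a204a6ec12eb20093f045c5400146001a204a3c811d27001a3043be01141b00b030287000c5ff008a201dfc8118b200922043f4c110430095f044f840183400b9f01af1412129001020421cc1101a00102000e50100070016204374c118310071f0495001199b0031f04a68411035008ff049660024d60031f047ca01156e00cbf024914128a00093f019bc811d580093f0416901058900003040814104fa000230434101170b009e1048e3412c9d001a304b2b812d69001a204194810a0c00782046130120d9001830426601111a001c3048b6812a5f008bf0459b412a280010204180010c000020201faa0128c00031f04ad580035d0075f047e40077eb008bf0475a012892007ff0488e81208500162043a7011954000030447bc11d7b0069f04487c1284a00680045ec0120cc001420406e8104680031f04314411cc0002df044e8c10f3a00182014cec11983002df0489501201f001c301f3c40a04b001420085d4106f000162011e64115c10016200ee7011087001020408281050800142009e1003ced)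
noncomputable def Tp134 : Nat := (nat_lit 0x16204bb4c12ee90016204866812c8800cff04658800e9100cff04a9d007477001c200622810333001a204514c120220031f04541c006b300a6304b7a412ee400023044ffc11fc50093f048dbc002350068102a2f00c9860031f04702010f870054204421410fdd008a20279580c2e80095f04b5ec1264c0095f042bd80268f00b8201916c06bc500102046d2812785001020400d8100cc0002304374c118300071f0463c4125e80031f04774011b64008ff04b3f4108060031f044d9410d3000cbf01f96412d5e0093f0447400476a0093f042dc410b3a00102040814104fd001a20434101170c009ff04b27012d65001a102ca1c0b90d0002304442811c6e00023046134124b70018104477011c80001c202095012a5f008bf047990122980010204300411577003bf022858128c00031f047f30005c00075f018174126e5008a301f8a411d68007e004586812085001620405a8103cd001a10426a8110e6006820471001121f0069f011760123fb000030411e41094e0031f04455010630002df047dbc11a27001430412d8101e3002c30458d01201f001a2015cf411b0100142041d4810d9a001a2019cac08c400016201623807b550016304249410a540014200644010463)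
noncomputable def Tp135 : Nat := (nat_lit 0xfff04163012eea00023043d5c11a5500cff0496ac008af00cff04bb3409aae001820407a401f200072104514c05b8a0031f042eac00b5100a7f04b93812de90033f047f1412eb20093f048860003cc001a201fce8129120031f04507410b0a005420312b00c60f0018201e020126f4009400490101264c0095f04488c03b86001820117601153f0090104abf812785001430403301023700003041be010da60070304666c118f10031f04a68012798008ff048a7c10f6900303042a9810d3000ca202491407e590093f04757002ef60093f0452a811441001020413e810a41001a2045c2c12363009e3048e3812c9c0018201b5281239b003bf0471b801a68006c104922c08ecf0018204446c11c7f008ff048e1412a60008bf01ec4412a29001020455d812184003a201faa008a160031f0450181002e0074201dfac0605d008bf0173ec12ab1001c2010268112ed001620420c010fa7000230062941044b0000304710012849000230117601153e0014200252410099001c200785c10630002df044e941267f000230448a011db9002c204807c12bb6001a201e7080a04e001620438ec118cd00182011eac115cb0016200ee781108a00023006c241052400142009f2c03d4a)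
noncomputable def Tp136 : Nat := (nat_lit 0xfff04ae2810b4200162041fe010f5600cff04b8540051c00cff04bb1012e11001800407a401f20008ff0480881207a0031f041710012b600a6302782c12de90033f04a6ec12b650093f0458000067d001a20297180c98a0031f042c841056d001c2044c6c11ed2001820279bc0c2fa00a9f04b6a012d7c0095f00fc9811080001820454f8121470093f04406800e880093f040c780111200102040c70106f700122046668125e7003010202f412798008ff01a58c11a6d0063f042a9810636001620454481210e0093f04a51c01dec0093f0478141200a00102044b6811e8c008e2048d7812d54009ff0197fc12d6600182024c340b91a003bf044428029c200023042e98114f8000230048c01027c008e102095012385008a104799007b1100181048610120ee003a20445741154f0031f042c4c100aa00023020e6412aed008bf047c20080640018200a1801096f00162046b301259b001a20475ec11c5b001c00423e4110d60069f045eb01153e00142040704104780031f04254c01e17002df049bb811f72001620412e0109c4002c304aed81224d001a2015cfc11b0200261046e28118cd00182019d1808c5c0016201624007b580014204149010a54001620064901046d)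
noncomputable def Tp137 : Nat := (nat_lit 0xfff047fc41145600162043d5c11a5600cff04b900008b000cff0190b811e7b0018204198c10cb6008ff04527812bb90031f00736c102aa00a7f02f79412e4c00320047f14129bb0093f04319c00af8002020276bc12e490031f0415e410b0b0070304aa1412e7b001e20437881184f00a8304917c12d7c0095f046f0802924006820454f804de70093f046d28017bf0093f0053641023700102041be010da70091f04ab70125e7001a1049e6012dd3008ff049aa408ead0063f042fe810c5e0016204843c12c3a0093f04a58c012870093f04510c11267000230445dc11ce7008e304b55012d55009ff048e3c08ad70016201b570123a5003bf00f40810a0c00162042e98114fb001620409f0105ec008ff04470412a61008a1049f3c12a2a001020417fc10bfe003bf0227fc1290c0031f045014101f3001c204abb412b3a008bf04aaa4129940018304a3e0128fe0016204966c11acc001a204716c11d7b0031f0423e403b920069f01379c12147001420411e4109500031f044554012a2002df046a5012b0f001820427501120f0018201a1541224d001a201e7140a0530027f0485081185200182011f30115ef0018200ef7011099001830169a405f5a00162009fa003d78)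
noncomputable def Tp138 : Nat := (nat_lit 0xfff0450ac1202700162046954126b600cff0498a400e9000cff04a8e8088ad00003048afc12d19008e30480881149e0031f04190c02d5a00a620278280bde50018302143011fc40093f0418f80123000bdf04996c1277d003030415b410579001a201413c1186e001e104b68c12dcb00a8104917412d7c0095f047f7c019fa0068102451c12c550093f049e14025e40093f04033000cab00102043698117e700903047cfc125e70031f0202f412dd1008ff01dce812cfc006210418d810bfa00183012d88116df0093f0476f400b2f0093f042cec109fd001a200f7f8111760091f048d7803215009ff01b40412c9400162024c700b92a003bf0419480279e001620453e0120e800162042f8c1155c008ff047ab811d44001620459b41229800102042ffc11575003a101fc7c089ff0031f042c48104de001c2047e5412b39008a1047c041299400003047418128f7008bf042e64127130031f0410040034c0031f0443580587f0069f0496fc04b5100142042538111510031f04730800b43002df049f5010f820018204483c109d4002c002b1a808d8d00183046cfc12761001e2040cd81071c00182019dbc08c800018201638807bba0016200acf410ad80014200649c1046e)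
noncomputable def Tp139 : Nat := (nat_lit 0xfff04516010b2e0093f04695412ce300cff04674c017ca00cff04b8440aef000dff0054a812d19001a002189812bb80031f04165001cd2001a202115012b410033f023e8c12b550093f040a9c01d6600bc301e9b81265b0093f0415e400821001a204936012de1001e20492e412dcb001c204917412da70095f045054029270068104b154091490093f04abf8021a70093f0400d800787001400460c01243c00901047cf4125e70031f025df8129a3008e1023ab40773a001820418d810c5d008a004a60012d3e0093f0448b8012860093f00b0ec11266001a20445dc11ce80091f04b55002003009e3022b5c06d0100182044b4011e82003bf007a4410922001e1023b3c12c2300163045570120ef001a20195cc1216d008a20459b411e64001df04759812183001e2020a0812a6a0031f04501010a0700003047d5c12aef008bf04287412aa80073f00a8f0128f7008bf046b30114e60031f040624005a10031f0470f811bcb0069f0465cc116e9000230406f0104690031f04a2ec009f8002df04adc010815001820448a011dba0016200bb5c10c2d0018101e9b00a086001e104614811a8900162011f60115f20016000efc41109f001620107f40603a00142009fb403d81)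
noncomputable def Tp140 : Nat := (nat_lit 0xfff0480a4105820092004894011a5500cff043be4025f600ce2026ab80aef000dff048afc00cdd001a202189812bb80031f007138105c2001a202aaa80cdaa0033f02143012d1b0093f048b50105f10002302975c12e950093f042c80004c8001a201c69c124d9001e20492e812dcd001820435fc117b40095f047f8003f2a00be20279ec12e1f0093f047d8c0347d0093f04001c0046a0014204926412d9b001a2047cf412adb003030202f40977e001a201d73c1262c0063f0414e810c5d0018304745011daa0093f04276001deb0093f0451f00435c001a204739c128de0091f04b5541068b00023048e4012d6600182047a0c12a3e003bf04443402fe7006c00492dc12c2400161045570120f00016204124810980008bf0208a0121b3001c30455d411d6600182020ac812a8f0031f0478f01127700160044e3c11f52008bf047c00112960073f0474180409a000030435b01179e0031f0410080098a0031f04a124127eb0069f014c641232f001420406f01046c0031f04756801095001420405a0103c1001820476e41298a00162011ce8115a700162015fe811b310027f0454f011a8900162019de408c8a0016200efc41109f0016200acf810ad90018200655410480)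
noncomputable def Tp141 : Nat := (nat_lit 0xfff04aef410b2f0093f0489401219a00cff00dfcc1086600162046bd81273300dff045a24007a7008e10481e412bb80031f042ea402c94001a20211c812b4500322023e8c0850c0093f04319810bea00bdf04b9240a5d70093f04506c0082200202047b4c12a86001e304b73412e500018204901412d7c0095f0461fc05ce200c0204b87c09e7b0093f044e6c04f0d0093f000e50100140091f041df012d9b0091f04978012adb001c201c650124d20002304675c1262d006220418d81053a00162042ec01150a0093f00a4b8106220093f042d40040940010004081c104fc0091f048d8c02001009ff048e40121a4000030477f8129ce003bf0471d8048b5000030483ac12c24006df00665c1027c001620446c411d35008bf0198c812a2a00162042ff010a330075f01039412a6c0031f044a6c11e1800142042af81138c008bf044d0c11e360073f04a3e0112ed001ff040ba410a0f0031f041c2800fe300303047100127eb00683045ba405319001420411a41093c0031f04473c01aec00142040f0810815001220406281040300162011f88115f9001a001eae80a0bb0027f043df01214300162011f70115f4001620163ec07bd5001620107f80603c0018200a0c003ddd)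
noncomputable def Tp142 : Nat := (nat_lit 0x142042880112a00093f04695412c8800cff043ff40240e0092004b97012e7000dff0432d800cdc001430481e4062970031f045414043e2001a202ab280cdbd0031f02160c12eae0093f00bd541156100bc20276bc0a5d70093f043be000da90002301c69c124d7006df01edd012dcc00a9f04b5f412da70095f0141dc11db70002304843c12c390093f01074c118050093f040160002150091f0490e810e8900902047cf4125e0001c2025eec0bd3e00182014f28119d60093f040888007450016204840012c2b0093f0430d403f340093f0451c00435e0010204290c112dc0091f045c2c03212009ff045cdc12c93000230434a41174b003bf04a1cc1163c0093f045ce812c26006df0417b000fb7001800475101291e008bf049f3c121b400222042ff01088d0075f047ad8113250031f04a79011e3d00162044e3c11f52008a3044a58113430073f04a3f811e9d001e304138c102e90031f040cac019df001e3049980127e90069f049b201232b001430445441112f0031f04756c01094002df047f50103c20012204101010893001620418f010c6300162015ed811b3b002620454f010f7c00162019df008c8e0016200efdc110a50016200ad9810aed001400065bc10483)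
noncomputable def Tp143 : Nat := (nat_lit 0x92204288010b2f0092204866811a5500cff046ca8037f200cff043f4802dcd00dff04198c01527008e102b1b812c490031f0483dc06270001a301d7a0124a40030004a6c80858300923042fa802f55001c30322140c9a20093f04674001666001c10448000701e006df0492e4127f600a8204917412d7d0095f04a61c071d5008a3049b9c129010093f0491801139a0093f040488003930091f045f981193b00023014e14119b1001c201c660124d3001a20432a8116740093f0414e800c3f001820427f4112660093f0456bc05ced0093f042d301144400102044bbc11e8f0091f04341004bb3009e104869011737001820434a41174c003a30471bc1163c0093f0483ac12391006df042f8c01994001820475101291e008a101ec44121b40031f042234001e90075f044c1c11edd0031f020578129fc00162047d5412aee00182042874112960073f04744812a54001e1044a1c1179f0031f041c2c02901001e1049980127ea0068104699c1232b001e304845c128b60031f0477e801aeb002df046ea810168001a2041cac10dfa001630457e4122100016201e9980a0fc0027f0093d81213100141041650106430016201641007bdf001620108c00607300122003e60101c6)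
noncomputable def Tp144 : Nat := (nat_lit 0xfff04bbb810a2000c1f0110a011a5500cff049d98053bf00cff046bd8045b100dff007c8010333008e104afb012ef60031f048bc8086a5001a204929012dc30033f020cc812eaf001620412441097e001820425e4111a70093f04988c023de0093f041f1c00cf8006c301edd0124b900023043644117ce0095f0476d0066080093f04a40411587001e301c0881139a0093f040c640061d00902043a24117e60091f00e25412608001c2025f040bd42001a2048a8c12d010093f0418d80143600182047810129d40093f011e6411dbe0093f044b48114710010204081c104fc0091f00c85c11704009ff04b59c0b0e200182045d2c123a800142007398105c800920045ce8120eb006df0455700289200003042604111b0008a0049f3c128260031f042ff00011900740044c9411307003000478f40815e00162041d8810e53001a2044a5c11e3700723047a7411d12001e1045e7c112880031f041f30109a70069f04a6081265c000030462c41250e0014204253c111520031f04498402a84002df0441a4103c1001a20461e4124e1001a2012d88116ef00161049dd81277c0027f0454b8039400014104190c02c950018200f018110bd0016200adb010aee001220065bc10483)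
noncomputable def Tp145 : Nat := (nat_lit 0xfff04ae4c1051700c1f048668062c300cff04b98c075c500cff049ccc064ce00dff006228101e900b5f04bbd80871d00302045ae0086a5008a302c25412e200033f029d7412abd001600446bc11d30001820474b0129170093f04b8fc037b00093f040e7001557006df04b6900a20e00a9f04228012d8f0095f044890121ad0093f049b9c121970093f046798070220093f041bcc00a560018204703c128210091f0466c005493001c201c6a0124da00023046748126250093f042fe80208f008ff048400129d40093f047c3c0672b0093f04813011e850010204140c10a4e00901012ecc03217009e1024ad40b0e2000030456d8121cd00162040ae81066700182012ab410d1f006df0483c003e6800162042604111b2008a004a098127cf0031f0417f4000a00075f020a0812a8f000230478f4129fb001e3044e101139d001a30478dc129da0016204123410974001e3045e7411e260031f0447b410f05006810476bc1265c00680048cb01250e0018200a0941094b0031f0477f0040ff002df0422c010814000230415ac10b07001a3045bbc118d50016302832c0a1050027f01163c10f7800181021a9c08c9e0018201645007bee001620108e00607e0014200a16403e16)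
noncomputable def Tp146 : Nat := (nat_lit 0xfff047fec01ad200c1f045624120a800cff04a0041262800cff04b9700897000dff04132800f0900b5f02b1b812c0400300045ae0086a5008a30337280c83c00323020cc80a75d006df0425fc00af8001a204a21412e8a0093f0498a810ed20093f0412cc02245006c302585c0a20e00a9f04908c1105000940019820112240093f0487f012c860093f0491d804f060093f043680011240031f0423ac103740091f014e0c11a32001c2025f3c0bd4c001420432a4116730093f0455bc106aa008ff04781012c2b0093f017d60121de0093f04af4012a40001800412081095e001a20472cc128b0001620192dc1213500142005098102e1001e20432701165b0018204347c04aad006df045400111aa001620446c011d34008a004a098121b40031f040a10001180075f020ac812a6a0016204a7ec11f110016200968c1083c001a10478dc129db00003047444128fd001a200a70810a0b0031f0475ec119e20018304a61812adf006800494381232c0018304454811cba0031f04a73005f02002df04106010f81001620415ac10b08001bf043904115a5000230099881089f0026200e5000458f00162011fd411606001e30167b811c20001c2010b88060be000230400541005b)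
noncomputable def Tp147 : Nat := (nat_lit 0xfff0450d802a6200c03018b0c11589001610498a0126ba00cff04b9c00afb700dff0427a00188900b41021c740ac6e0030202b3d80cf5e001820212c812b4b007400330b80cc48006df04124401230000030489e012cf20093f0093e8119a10093f0426ec03568001c201e124126fc00a9f045f3411b8c0095f0476d812ddc0092104865c121fc0093f0467ac034790093f041e98102390031f0442f01077d0090201524c053830018201c764124ea00142048a7812cfb0093f0485f410d34008e204840011e040093f047a140414000880047cc0121cf001a2047388128cf001a00483e811ca4001620484d812c59001420081d8106a1001e0045a701225c0018201aba4122fc006df01140811d2e000030446f011d3c0018204421411bcc0031f040398001e800742020a08082b20073f04957812abe001620420f410fb9008a204aa98129db007ff048220128fd001a2044a1011e250031f04716c126390069f044e0003873001830462bc11a4a00122040888105390031f02091811ee9002c00420501041800162042c1c113f6001a10430b410e4100142003a8010181001a2013ad0117df00162019e5808cab001e10167b807bfb000230401f81017a0014204016c10090)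
noncomputable def Tp148 : Nat := (nat_lit 0xfff047ff0040d300ce104303c1131200cff046f8c126ba00ce3049ecc0afb700dff044920104430016204533c120b8001a204824c12bf20018202ac300cdf7001a2020b3412a9c006df0425f801d660062204b3c812e8b0093f0497cc039420093f0448000504e001c2027ae80c33e00a81044140117cd001020400781006e0093f04561c0640c0093f043c3004f050093f0036d0102270031f04703410e8a001620466c812603001820260040bd760091f01dcec12cfb0093f04b1dc1175c0093f04781001c150093f044b4802aaf0012204042c102e7001820412081095e0031f0483e81144c001c2047350128ca0014204349011741001e104842c1225d0093f04b094122fc006c10446a80450200122040274101cd00182046f34127ee0031f0400fc0034a001820185d011fca00723020cd41255e001220404f810358008bf04a0a812aa7007e1047440120880018204430811c190030204678811c5b0069f047d0803b19001c201037011320001220414e810aa600301017c08082460031f049520104180012204089810542001220401a01014300142006048103f1001a201bf08095ba0002300bd8810c77001e200f0f4110d30012204008c1007d000230402401019f)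
noncomputable def Tp149 : Nat := (nat_lit 0xfff04ae5005ed100023042e48114d700cff04696c1280000cff049ecc09add00dff04776c108f500023045c0c123590000304550c1214a0018201831811faa001a202a4c80cc65006df0446bc105f10062204ba2c12cf200b5f04b8a4037f40093f01c0781186d0002302784012e4f001420422801105000120040ed4107ce0093f04865c1210d0093f00e260118020093f041510016750031f04a0841193c0090102719c09c68001a001da4c126820091f048a78126aa0093f0485f0123b60093f048400011540093f0428f001b0700003041ab010d3800182042584111710031f047290120170030104a3280ac6500142045d081239c003a104a1c812c350093f0483e006ae9006ff01140c1287b00122040738104950055f046c34127ee0031f04039c0059d001a2020cc012abc0073f020cd41279e00122040d641074c008a3047bfc1282a007ff0482181290b001c304706411e25000230402f81021b0069f04ab7c11026001810152e4118ad00122044d9411f27001630434c01156e0031f04a140101970012204150c10ab500122040d8c107570018101eb980a11000162013b84117f0001a30232cc06906001e201656807c40001220401f81017d001420023ac1008f)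
noncomputable def Tp150 : Nat := (nat_lit 0xfff04bbbc08298001620416e810b9100102041ff410f5b00cff02bedc12e1800dff04a6b8110d000182044bc411703001420074e4105dc0018204ad3012ee5001820411f410955006df0474c010be90018204195410c9500b5f04a160053c00093f04935c0961b001c204b93c12e510022204414411b8d001020401b81001e0093f0487f012c390093f04916c024830093f042ad800db30031f04703c12587001a201cd8412542001a201da4c126820090001dcec1229e00923045d701217c0093f045428012470093f00a8c4105240031f042d7c106ac008e204a91c128d80030004513011ca4001820445f811cf3008ff040a641239c0000304141410a4f0093f018fa8122fd006ff0471fc1150100122042620111bb0055f046f34127410031f040a140097a0031f0415c8101f2001e1020cd41255a001e2044e1010e3000162042a2411342007e3047474120860031f047064107f3001220400cc100bd0069f04a61811b54000230429e011321001430403041021400163041aa010c360031f0471241008b00183042728111eb00122043904118d70018201606411b770016201bff0095f70018201205c11613001c200f2a8110f0001220405e8103e5001420402401005b)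
noncomputable def Tp151 : Nat := (nat_lit 0xfff04bb540a8fe00162042e48114d800102043d7011a5b00ce3026b740afb700dff04baac11c320000304294c112f100142042f441154200182042b08113930018204455c11cc4006df0446ac11562001820459481227600b5f0471500383b001c20426ec11200001a20120fc1162300223046e341258a0010204055c1039d0092304843c121fc0093f04b698016dc0093f04395801674003000464f011c0f001a20266940beed001a20151f411a2a0090004b3e8126250014204164c10b500093f042ec000b070093f04295001ab30031f04167410d38008e304a37812a460092004555412103001a2011e10115c0008ff045d0810623001020400c0100b30092301aba4063ea006ff04446c120f1001220446f011d3d0055f046c00110850031f0417fc00fd40031f040904104dc0073f046d981255a001e30494e412ae200162044d0c11eff007ff04821c1290a0031f047894105bd001220402f81021c0069f0476cc1278c001800462b411321001410414e810a8c00142004a0c102980031f044384008d10018100fc7c111ec00141043908113bf0018201eb780a168001c200d47c10de000182019f1c08ce9001c201675c07cd10012004108c108590014204067c1042c)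
noncomputable def Tp152 : Nat := (nat_lit 0xfff02a41012ed40016204535c120c200cff04ac5410f5c00162042ae41137c00dff04a6dc1283d00003042960112f50014204550c1214b00182047d6812af300182047314128bc006c1042fa4111ab001820489dc12cf100b5f0443b4053c1001e304a5b012a86001a204891012cd800a9f01bd5412e0600122040ed4107ce0093f044874121980093f04996800df60093f041d8c023ef0091f045f4012822001a201cdf81254b00183044e2c11f470090104989812d010093f04164c02a360093f0444d0006880093f04249402a3200303041ab01059d008e204a910128df00142042f7011554001a204876c12cac008ff04349010c3a0010204082010504001a204854812c61006e00454041111b001220474f0129270055f049d0003b980031f042ffc019c9003010407c8102410073f04644c1279d001e304ab8812537008bf044d1011e35007e1047470120870031f044a1010b9900023042438110f500681046d5011db3001c0044c84118ad00142004288102140014204188410c380031f047128005310018000fc7c1121100143043908113be001820160e011b9d001a2013db81182a0016201207811618001830443e01110e0012204108c10859001810410b010371)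
noncomputable def Tp153 : Nat := (nat_lit 0xfe102a3f80a904000030416bc10b7c00003043d7011a5a00162044df411f3c0020001655811c3200182044bd41170d0014204852812c5e0000304965012e09001620414a410a93001420425f0111ab001820232b012cca00b5f00f224119d5001e304aa180961b008c304b3600c34600a9f04962c04e800012204200010f5f009200456201121d0093f0467ec008510093f043954037c50091f04703c12425001a20267200bf0b00003047d2012ae5001a2046748126260093f00712c10a3e0093f042504003d30093f04444404091001420407b8104d300162007344105c10014204858c12c6b0016204745812902008ff041a84115b40010204141410a51000230190ac1211a00023011414115010016104a49c1291d0055f04a098058890031f0455d4028e30031f0185d012abc00722046d98119130018204505c11fe2008a1044a5811344000230118841154f0031f047898114e600003042a64113570018200e50810f7900182044aa011e4b00183047c9c11cb9001420430e4115b30031f044388008d0001c1042ad41121200182042b74113bd0018201ec140a18b001a30460a810de000162019f4408cf30018304443805a0e000230060bc1042300181041dd0108d3)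
noncomputable def Tp154 : Nat := (nat_lit 0xfff042cd410a6d0014204098c105ae00cff047ddc11a5a00160041eac10ec9008ff048dec1284200023045c3c12364001c20487f412cbe00182041e0810e9200163044d4811ef5000030446b811d31002220470e01284300b5f0498ac059b10093f01c69c12a86001a204b30c12cd900a9f04b81c0341c0012204697c126bd0093f0448741210e0093f043c5400df50093f0463b4053810091f04b638110bd0018104b7b812dff0069f04668011f710091f048a8c1262e0093f044b5c011780093f0411bc006870093f0471dc112d300023042aac1136a00162042ea0115030093f04a29012c6b00122002c48100ea008ff04873410d230010204293c112f0001c2046160124bf006e004a46812c27006df04125401183008bf0486d007b510031f047598109960031f020cc011fca0073f0464481279f001a204505c10f3400162044af011e5f0018204553c1215d0031f045e74120d4001220400c8100b900181043de410f12001e104943012a0f001830472ec11f2700162004a6c1029e0031f04240000ec70016200a460109c60016200ad1010adc001820160e411b9e001c101c4f4096a7001820120e411622001a204248c1110e0016304216410afb001a100e90403f0b)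
noncomputable def Tp155 : Nat := (nat_lit 0xfff04161810519001420416bc10b7f00cff044eac10f5a00162043b3c1199d008ff0470dc12d5c0018304b54012d56001a204824012bee001820465241259300162044d4811f160092302cb2812e98001820447f811d8f00b5f045fec03c870093f047b4c124d90002302323412cc300a9f04963004e7f0000304200010f5e009220454481121d0093f041f50016da0093f0494ec075770091f04908411c100018302f8b00bf2f00683044e90119a00091f04675812d020093f042fe000a8b0093f04116000b090093f0458f411e860016200ab5c10aaa00162045410120f50092004858c128a400122040a341060f008e30456d810d2300102047a8812a580090104b004124bf000230483c812c27006df04261c01c5c008bf01ec44127ed0031f044764111d7003020185d0083300073f046d9c12559001a30499e412b710016204798012a2100182010ecc1146a003010453981179d0012204009c1008a00182046a08126de001ff049aa012a0e001220016781002c00183040a78101bd0031f04112801822001620427141121000162044eec11f810018201ec180a18d00182013e3c1183800182019fc408d14001a201683807d1c00023006ed0105620014200270c100ae)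
noncomputable def Tp156 : Nat := (nat_lit 0xfff00701c1068200142042df0114b900cff042b5c11a5900003043b441199e008e3048dec11c370018104b53c12d57001a304afb812efc0018204965012e0a00162047bd412a9f0095f04b5d412cc20031f0447f81284300b5f043c7c027400092201c69c11ed3008c1030a8c0b2cf00a9f04650806f8a00122043d7811a5d0091f041bd0107a50093f00914c103af0093f04b7f0126050091f01bc9012823000230465e0125c10018101808411f4c00903048a8c119d60093f0417ec011790093f042470012490093f045ad0048b500162042aac1136b0077f048188120f50093f04a2c012c6c0014004189c10c1400162040a6410623003a204b0d412a590091f04616412c40006e302982c12c75006df0446e801d63008a301ed4407b110031f04265c11d62001e3012c84112710073f04779c127a000023046a64126f1001820104e0113450018304857412045008bf043e9c1179d001810402e4101950069f049974126de001e104792c126a800122040284101da0018304250810c490031f00628810414001c3044fd811d9f000030452881207c001820160f011ba00018201c2f8096c30018201215411627001a200f390110f90016204158810afb00023001cb81004b)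
noncomputable def Tp157 : Nat := (nat_lit 0xfff040b200114b001610483081209900cff049ae4113b700162041eb010ed00018201b2001237b001820434141170e0014200823c106aa001c0049b3812e0b00140040864104ef00942048f3c12cc2003020470e0111fe00b5f00e170109090093f04aa1412de10002302656812df300a830149ac06f8a00023014ed4119cc00901040e2c106f40093f041fbc016b90093f02965012e370090204704006f24006ff049554125c10069f0091d812ae50091f0498b009b3e0093f042fdc01c470093f0425d81028a0093f04333802fe700162044da811f2d00762045410120620092304858c128b00014204189c10c14001620430ec115b5003a204a96412c350091f0222a4124c0006e102982c0b0a2006df0474f00122d001c201e6f4127440031f0471e0111da00162044ef011f8300723046d9c11de7006bf0156c412b7200182017d3811f05001e3044574111a1008bf0435ac10830001220406501041300680046a081265d0002304793012a0d001220412a4109af00142003dc0101bd00303006088018a2001c1047ef41297800162042db0114a00018201ec200a18f00180013e6810e770018201a05008d3d001a20168a007d3f00183016178060f10014204012c100af)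
noncomputable def Tp158 : Nat := (nat_lit 0xfff004f281024b00cff0416b400a6f001a3045f7c1189a00162043b441199f008ff04434012c9f00121040120100f9001420434d41175d006df04a6b4126ce0093f042cc012ac00095f02cb2412d74000030476441296b00b5f0443b0024590092204936012a85001a2046abc126ff0018202553812d90001a2046730126200093f041bd000a570093f043d0400e3100923026f340a5940091f00da5412824006e101d428125550069f047d20038830090201d73c09b3e0093f0455b002c8b0093f044674106090093f00c4bc10c8a00003044d7c11f21008ff04541012b9d0000304179410bd9001420430fc115bc008ff048ea012ca300102047a8412a5700901046164088a9001a20485d012c72006df04a49c00af60018201ed40127ec00301044448111da001e3047e0c1208b0018200993c1088b006bf047f6411a970016204069c1043b001c204457411cc8008bf041b5410fa800182044d5c11060001810467c411a820069f0492f812a0d001220426c0111f3001420411bc109410020204438c11c480016204768012977001620452841207b001e20161cc11bc300182013e6810e77001820121841162a0018200f3c4110fc001e200af4410b05001420402bc1004b)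
noncomputable def Tp159 : Nat := (nat_lit 0xfe100452c013ca00cff042df001149000230180c811f7e00162046678125ee008ff04870411c3300183045c38122d20010204095810599006c3047768126ce0093f047c581142d00941024ec00b2c90031f04a5ac1281600b5f0471480385b0092004b9ec12de20095f04b7dc1270100a8004917412d7d001a304988011a5d0093f040e2c011250093f0468c00173a00023045524121560091f047044051f00020201cefc125550069f044e1c0547d008ff04adf011a6c0093f0485f0043d80093f04745010c0d0093f0458e004a71001420403001021f008e00480081150400122002bc8100e100182004c44102b2008e1048738123a80002300800c1068b001c20437941185900023017e5c11f34006df04a4740067e0055f043f7411bcc0031f01fff8128760031f042dd4101f10072104a6f0127a3006bf0185f8126f100162042398110b4001e204468411d1b008a30420c0106d5001c2042418110e80069f04999c1264a00681020760124be000030426c4111f400142042508111350031f0423fc00ec8002df04938812977000030430c4115a8001e201ecfc0a1bf0018201c320096ce0018201a08c08d51001820168f007d5b001e2010b2c0613300023004108101fc)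
noncomputable def Tp160 : Nat := (nat_lit 0x1c201fae0128d200cff0452e4100b800202047df812b1e00c1f046a8c12e28008ff019b581283e00181045c38122d300102042d5811485001a2020eec12af60093f044d4811ff3001a201fdfc12921003010476401281600b5f0443a810f1e0092102f5300c625009430494c01270100a9f04b6400a077001020036f8101540093f0059881023a0093f0441cc01871001a2045524121570091f01645411906006e1026d580bf500069f047d1c11a2a008ff048a80126cc0093f045d701147a0093f0476a8115880093f048960116b500142040880105350091f04b53011504001200409dc105cf0018204195810c96008e304b29412d6e00182041a2c10d01001c20437981185b00003047ccc12ad2006df0474d0003cc0054004421410fdd0031f01f6641294c0031f0452b8104da0016000690c104cf006bf046a6411fd8001620442d411c04001620065b8104870002304008010075001c20443d011c51006810468241264a0069f012d7c12a0b00120040778104aa0002304138810a0c0031f04438001824002c0047680124e200122040030100420016201625011bd4001a2013fec11853001820121f41162e0016200f5d8111290016200afac10b10001820407f0104ed)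
noncomputable def Tp161 : Nat := (nat_lit 0x142040b481069200cff04826410212001a201807811f6d00c1f0497b8126f7008e30470cc066d6001420403e4102bb001020481a012be300182047fa412b84009200450b411352001a20298480c9d6001620410d0108db00b5f04242011a08001a201ee24127fb0094104b7d812e5200a820255380a07700160041f1410edf0093f0415b400da60093f0422dc00efa001a204855812c64009020147c005915001c201cf84125600069f044e2c12686008e10469b0122a00093f048ed4120570093f04a600121990093f04a9c8122ed00142042a841135e0091f048d38120f6001220409dc105cf0018304725412279001220414fc10aaf00182045c141235b001c2046170124c10018204768811f33006df0446c00067d0055f01e6f4127ec0030101fff807d990031f04822c10a020073f046dac122b6006bf04adc4126f2001a3047c141281d0018304a3b812908008bf00115012714001220422a01105f0069f049924126680069f04792406bc00002300a71810a1b001a204138810a0d0031f0471200267b002df0493841298b001220403bc102960016201ed680a1d8001a201c5140975d0018201a12408d8200162016b7007e2500162010bb40615c001830413b401ec6)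
noncomputable def Tp162 : Nat := (nat_lit 0x180045c681237400cff048308105150020304ac7812b0c00c01046a8c125ee008ff04b2801283d001420419a010cc10002304168010b6300302047fa4129a50018204092810584001a201fe3012928001620442ac11bfd00b40043c7810908001a3049ee0127d000182043924118dd0018201e9781277900102040e4c107b60093f042c28016610093f0441c800a2a001c3048aa0122e9001a201ee70127fe001c20268b00bf6d006810468a81138b008e102d37409d8d0093f01b64812bd90093f04b4f812c870093f047af412d2700142044d7c11f220091f045bf812c280012204179410bda001620409a8105c600122042ac01136f001a200f7841116600181045518121480000304485011da2006df04260400af70055f01ed4012744001a201f5c4128750002304136c10a020073f045a08127a4006a30499e4126f20031f0442d402a160018104a3b412909008bf046b380076100122046e68127cc00683046828126490069f0178ac12337001a204286c11292001e304283410c9c0031f04438c03b6a002c10476e8124e100023001a7410043001c201626011bd6001a2014010118540016201220c1162f00142040260101b90016200afec10b170018300c0f010a1a)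
noncomputable def Tp163 : Nat := (nat_lit 0x23044a7c11e3e00cff04535c10a690018200d10010d9d0018201572811aa3008e30487081283d00160045a78122d1007df0416801125400023020eec12af50018204160c10b30001a20298800c9de0016304a0b012e7e0020201f2a41285a00943049ee011be000941049c2412df5001620421b41101100142041f1410edf0093f042730023d70093f046e0c01064007ff0454781294b001820138b0117cc0018201d068125760069f04abac125e3008ff047f90126cb0092204815c06d9200921048c8c12c8700921048bb411ebd00142047c8412ac8009000483d8116fe00122042f6411553001220401201010100122047cc012ad0001a2047360128cd000230404ec10352001620067c4104b9006df0412480122e0054201e6f407b500002304441811c6c0031f047e0c104db00721046dac11682001a304adc4126770031f04701010a2e001a200a0ec10960008bf043eac00c6f0002304241c110e90016200e17010f1f0068101af0005e2b001a3044a4810a8a001e104283410d410031f00f1681106b002c1049e9c1298a0018304573c1207b001c201ed780a1dc001a201c5480976a0016201a14808d8a0018000f5e81112c00162010c100617b001c300bc1003f08)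
noncomputable def Tp164 : Nat := (nat_lit 0x1620100741129e00cff042e401131200182013ac8117de00003044df411f3b00dff0203b0121c200182045a78122d1007c10427d4105a00030204ba9c12edf00182042cc81143100023042444110f600023016f6c11d2500b5f04a15c1285a00941049fec12e730094104b7d01270900162046d001277e00162043bd4119cb0093f044874037a80093f04412401aa1007e30475841151e0018201bc88124200018202697c0bf9a00681047d40125e3008e00469b011fe40092004815c06d9200142040a28105f800023048d5012d4d0016104ab2012acd001a30445d8116ff0092204a2bc12c69001c30489e4117150016204873c12ca400182012edc117060016304207810e1d00023040754104a1006df04260001d6400003046a10126df003bf04350400f440031f044ef010a0300182046db0127a5006a10499dc126f20031f04a074112bc001a30425801096a008bf0420c80076300181042b1810fb90024100e17010e1500182043e2c11aa8000030412c0109b5001c10457201176f0030100eda803c5a001830440e811983001830481ec115ce0018201627411bd7001c20140dc11866001c101a058116310014204119c109390018200b06810b2400142006aa4104f7)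
noncomputable def Tp165 : Nat := (nat_lit 0x162044a7c11e3f00cff04303c02cda001a1045f7c1189b00162047cec12ad700de3019b58080ec00182048b4c12d2100003041358109f30030204bb7c12ea700182047fe012b900016204113c10910001a2016f6c11d2600b4001f2a4128570094104b9d412e7c0095f01e46012df300163049df811bb4001a1049af412e3d0093f045448053590093f04227002a15001820425681115a00161043fb0113e7001a201d0ac1258e00142014d70119960016200934c1080500922024d580b952001420417e01028a00a7f04b52012d4d0002304088410536001620433f8117000016204818c12bde001c10472541237000003042ac01136e00182048d7012d52001630438741081d00162040754104a2006df0446c402e2a0016200ee841108e003bf041ac4018ea0031f042b70112710014204136810a01006a10185f811a990031f047c1411e60001a10445b011185008bf040f4000c72001c30420f4108e30069f049920125040000304612c124b300142002618100a3001c30457241176e001a201647011c15002c004a5c8125cd001820456a01207c0018201ed8c0a1e0001c201c62c097b1001c30234f808da60016200f5e81112c00182010cb0061a80014200a8880407f)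
noncomputable def Tp166 : Nat := (nat_lit 0x1620478f8129fd00cff04562404447001a3045fa01189800182046b28125a20020104a0fc12e820018200c85810d02003c0006c8c101ee006c304b83012edf001c204162010b3800162042444110f7001a20474941291300b4201f2a412857001a20160e811b9f0095f0265681270e00163046ed41277e0016204272c1121b0093f04843c0754b0093f00997c10a2d0091f04a2f8120010012204216010feb001a20269b00bfa30014204665c125e300162043da011a6b001a201b690123c30093f041238105f800a61048d4c12d48001620408841053700142041adc10d460092104b1a412bde0012204184010c1500122044db811f2f003a0048d7412d4c00183043e301185a00162041284109a2006df0474d40463f00182049b7c127f1003bf043500027920031f012c84113bb001420449b811e0e00182043e1011a980031f017d3812a210016200758c105eb008bf0420cc01482001e3042b1c10fb9006830467bc1250400160040f141081b0014204077c104af001e3044a2411c97001c20124d011660002df01d4a812974001820481f0115a8001820162ac11bdb001620141a411871001e300bfcc1064200182016b7c07e26001a200b16810b3f001020017541002f)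
noncomputable def Tp167 : Nat := (nat_lit 0x182044a9c11e4700cff018b0c114d5001a30490d01243f00140040e50107b500023041110108f600181048d8412d2100142042a3011348006c104b82c12ee0001c2044d7011440001620443d811c600030204a27812a2200b42028ca40c741001a1046e7c11b820094101e4600995a0093f0421b4108480016004488011da80093f0487f0125dc0093f044aec018110091f04731c12b9c00122043fb011b170018201d0b81258f0002304665c125e2001630469ac12693001a2024dbc0b96200922040a281048e00a63048d5012d48001620414d810aa200160045ddc123cb0091f048d70043ec00122045638121a5000230403cc1029c003c2045bf81234e00181043e301185c001a100fc60111e6006df04a478065730018200d9e010e58003bf045db803d000031f047e04116d8001420407e4104e800182046a64126f20030204798005f4e00162042f8011556008bf043eb0021020002304009c100890069f0494141264700023043e2c11aa6001420412c0109b700142002708100ad002df047ee812286002df0200d8125ce0016004187010c260018201edd80a1f40016201c724097f0001e30431b8048c40018200f64c11137001a2010e240620900140006ae0104f9)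
noncomputable def Tp168 : Nat := (nat_lit 0x18104a7f412a0800cff048300044280093f0436ac010d90010204054c1039200dff00407410444007a304aeb412d5a007df0481c012ab40002300dc3410e93001c304ae4012ac70016001f5a4128670093f04a87c1089d001c201f39012862001a1049eec127ce0095f0494b41270f0093f04404410fcc0016204488411db00092301d52c121fc0093f047978026600090304800411cc7001a3049d5012824001820269c00bfa7001830466cc125df008ff02167c12693008bf045e78103cd001230403781003d00a7f04b4d012d4e001c1042a8810a830031f04139c00f8a0091f047360114820014204875412c9500142040a7010629003c2048d7412d4c0073f045518124c100023014d0c11989006df0475101216d001800463d812543003bf045724111050031f0187f412319001420428581128d006bf04394c126770000304798812a22000230445c011ce0008bf043e7803387001a20163e011b9b0069f0467b812671001c20492cc126fb001420426d4111f7001420407e0104e6002c104598011fba002c201d4a80803600162007700106180018200ef24110970018200ea6410fde00162040aa41064200182016bfc07e4e00102002a10100d4001020402c410202)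
noncomputable def Tp169 : Nat := (nat_lit 0x93f04791c06c1700cff04afb402cc60093f045fa801b5b00122040e50107b500dff0423d801a360093f04875002c37007c3047c2812070006df042b0812e0a0093f041620011890016201f5a4128670093f04a0b41104a001c2028d780c76d0002301f080128380094301e4601252d0093f046d0011aed001830461c01188500921048434121fc0093f04618803b420093f04800401ff70091f049d500231a0018201d0ec12591001810466c8125e0008ff01dac812b7e008bf0435b01082f001230409cc105c900a60048d5012d340031f042a88019be0031f040bbc0094b0091f0445981206300162042ec41150b00142043108115be0014204165810b520073f04617012150001a2046624125d5006c20195cc11d44001400059b81038c003bf04312011c6c00301045b60061fd001420478b4129dc006bf049bc8118eb00162044af411e61001a200f7c01116f008bf00e74810d6f0000304418411b9b00683049414119ee001c2049bec124b3001a1044a4811d880014204284c11289001620061c41043d000230460f4124a30016204309c115a00018201630c11be1001a304222810df8001620431b8116040018200f650111380010204093c1059000122006ae0104f9)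
noncomputable def Tp170 : Nat := (nat_lit 0x93f04a8201235700cff048234044270093f0490fc02b2700142041ee010ee100dff044344104cb0093f04ab3804357007c304af8c12ab3006df049650113930093f042ce000b42001a304a19c129330093f04707811b84001e101f3dc128610093f0470ac11b810094302fa7409fab0093f049df81272b001820438001188500182046a30126e70093f0443380581f0093f04731c013d60091f046c5c03694001820269f00bfae001800466c812603008e302167c076b2008bf041b5810fa6001020019d81003d00023043354116bd0031f0414d800fce0031f04043800c050091f04af7803de10016204840412c2c0014304876012ca600142042d4c1147f007200455181185c0016204479411d70008ff04a9780657300003041ea410ecc0031f04725c1110100182012c84116d80014204a77011e2d006bf0499e412537008bf04707812a23001a20445c011ce1008a300ce1c039d2001a001ef38127cd0069f049a2c1250200023011260114e8001a3044d1811d87001ff0456cc1128b00142003be4101a40018200df8410eed00162045684121ba0018201ee540a21600142041cb010dfc001e3045810115fa00182016c0007e500014200b26c10b4d0014200a8ec04099)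
noncomputable def Tp171 : Nat := (nat_lit 0x183045c6c1235600cff018a70114c50093f0490d0041e200023041ee010ee000dff0470d8109e90093f04b5681143f0093f047c28032e7006df04b82411f5a0093f045100012a10002301713c11d4b0093f047984127bd002000312f40c7820093f04a0e0127bb0016201e3941270800923046ed41272b00023043804118860093f046a3012c850093f00f0a811b820093f04456400c040091f043fb010e6000003043db011a6e00023043c38119ec0087f049a60122c5008a10420bc106d6001020403801027200a7f042a4412d360031f040880009760031f040bc0007200093f04b1a4028330000304184010c130014104875c12ca700003042560111590091f0190ac12c61001a20161ec11bc5008ff047ab40463f00183049514125e40031f0444d41091c0031f04aecc09109001630412d0104e8006bf04688812ae2008bf04798412299001a2047380128d7001e201ba1c123e8001400422a41105e0068301daa012502001c2011260114e9001bf04760c11364001e20430e41128b001600423a0110b10000304054010388001e1047e08121ba001a001635811a29001420461f0124e50002300bd5010c65001c200f6a01114600142042d3402c9b00142006aec10502)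
noncomputable def Tp172 : Nat := (nat_lit 0x181045c681235700cff04829c086da0093f045f780601e00180043b801195c00dff04a0fc112490093f04aeb4120070093f04aacc10d37006df04964812af40093f044d7001950001c204752c1293300923046e1011e610002301c680124d60093f01f080127ce00162027da80c3ec00921046ed01272b001a2046218124f20092004865c11a8c0092301607c03c2a0093f04256000c4e0091f044f9c119040089f04201c1225500142041f4410f0d0086101dafc122c5008a3027f000b971001020409cc105dd00a7f048bec1134f0031f0414d4005950031f04043c00c040093f04a2bc03de00012204304c1152b000230414c810a9a00162003e2c101c40091f048548088ab0031f04710c03b8f008ff044c0002e2a00183049790125440031f0425081045800303021868091090031f04078000528006a10494dc11a22008a304707811e610000304254811153001a2012968116a3001620422a41105e0069f04940c1268a001c20453a0120d6001a30447cc113640031f04285010954001420410dc108e0001020013141001c001ff04806811f81001a201635811a290024001d0801226800182043194115fa001c2016c4007e6200142010fac062800014200a8f40409b)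
noncomputable def Tp173 : Nat := (nat_lit 0x93f04a7f41171a00cff04affc088c20093f013ac811f6d00182043b801195c00dff04ba0811ddc001a20471d4128740093f04af8c11760006c3047d68125920093f047c8000f8a001c3031f800ca130093f044314127bc0020204935812de000921049eec07c200018201e3c41270a00162046ed0127d80018304ab7c129850093f046a3012c380018201e530127170093f0411fc0074d00901043980113e70089f0458d410f6c00142043c38119ed001830468e8126940016201b87c123d50012204172410bb400a7f045af811f150031f042a80003450031f040bc4013d60093f04817c05b5a0092004543004561001620414c810a9c001620411fc109570091f0194ac12c410031f0497400587b008ff04298010be200122040e34107a80031f043124101b1001e2016c4811caa0031f0412d0008c40018204688812678008a104a87c1282d001600411ec1088e001a201aa1c122d80016204418411b9c0068101daa0125030002300b46c10b9c001a104760811f280031f044a2c11156001620423a0110b1001020401b01014f001e104513811f81001a201eeb40a22c002410489a0124e70020301f93408c9b0018200f6a8111470016200b2d010b7800182006b4810517)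
noncomputable def Tp174 : Nat := (nat_lit 0x93f0478f81237400cff0482a4064420093f04ac3006fc200162008e281078e001c001758c11ddd00003045c481236700160045d80123b7006df04ad3012ede0093f04ab1c101c30018201ff341293800921046e10110c5000230437a41186100922049eec12e7500182027dec0c40000b9f049cb0127d80069f04a61411b550092004843411a8c001c0046b9c07a2c0093f04255c004480091f01632012d8c0089f04321411a6e001420467b012642001610469ac1269500162024fa40b9d2001220454441210c00a63044d3c116be0031f044d74005940031f041adc01ff70093f0189e811cd60093f04184012c2c00162042a6811358001620425601115b009010222ac0652b0031f04661011bc6008e300b8a810a6000122041ea410ecd0031f0418b0104590016200ed301105b0031f0413a000eb5001a2047d1412ae2008bf04618812a20001e1043c18111080002301aa20122d9006df042418127cc00182010c4811416001420072a4105be0000304076c104a80031f0430e411cc3001620442dc11c06001020405401038a001ff047e14120190018201637011be40025f04591c124e6001620123801164100182016c4c07e650016201102c0629d0018200a988040d3)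
noncomputable def Tp175 : Nat := (nat_lit 0x920045c6811e3e00cff0453180454d0093f04ac7804eb4001800466d0125a30002304777c129b0001a20471a0128700093f0481a0123b7006c104abcc12b4c0093f04ae401047d001820299940ca14001620432981166e001e20437a4118640095f0162e4128370018201e3d01270b00b80046ed01272c0018200ec6411026001820156b811a8d00162041080108b90093f044568006cd0091f04908007b9c00883043db010c850002301c7a4124f4008ff0469ac12b7d001a201b920123de0092204858c128a4001a30488ac11ca60031f047c84009750031f0435180320400922016d680627a0093f04840410c1500162044d6411f1c0016204456411cc70018201a3e412275003010161ec11984008ff0457341216c00122046660125e40031f0431201091e001620160b011b960031f04285801805006bf047d1412678008bf047978124cb001620424841110800181043e7011664006df046e68110e8001830441f8114160014200b46c10b9d00122040280101d80030004455810c39001420044ec1024400102040e201079d001e004513811f850018201eed00a2340025f0461f0122690016201a30c08e000018200f7281114b0016000b56010ba700142006c681052d)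
noncomputable def Tp176 : Nat := (nat_lit 0x182010e641146000cff0110a4115220093f047df8117df0014204150410ab1001820427a411249001a304a1c011c740093f045d7412be4006c104bb7412ee50093f047fe0109550018201ff3812939001820475281229a001e2046184124ca0095f0470a807b8800182027dfc0c404006230272b81281c001a10493c811b55003010431441119d001620441d011bb20093f04256800b7d0091f01bc88127fe008ff04321411950001a201c7a4124f5008e102167c11a6b001a202505c0ba000093f04a29412c3600a7f01ab5c12ccb0031f04ab2000fcc0031f045ddc10cfe0093f0472c805b5b0093f04542c1158e0016200ab4810a9b0073f048174128bf001820238f80b47e001e20427041120c008ff0195c0121e5001620410fc108eb003bf044418111030016201ebd4127c80031f044a3402650006a204688811f45008a104618811e5e00222042548111090018104599010f9d006df04417c11c5100181049f9012b7a00142042e70114ec00122040764104a700162004a841029f00183040910103c700183043bb410eba0018204514812020001820163a811be70024304591c1187c001820123cc1164600182016cf807e930016200b56010ba70014200ab2c04167)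
noncomputable def Tp177 : Nat := (nat_lit 0x1820451841203500cff04848c114c70093f044edc1189a00140042ad011372001a201758c11ddd00142045c4812368009230481a01175d006c00337bc0cd160093f0450c41115700adf04a1e012939001a200fa5c111c40020104b78012dda0095f0164f4127fa0018201e4241270d0093f009154103ae0069f0476c8124f200023046a38126e80077f0039a0127d60093f044578012ff0090201ee7006f22008e3043a6410c85001a20493d012de7008ff048b14125260018201b9d8123e700921048430128a500a7f0488b004b000031f04ab34019bb0031f048f2c117000093f016ce411cd70093f04869410bb10089f002cd412ac50072304731c1205d0016204328c116680030104766812485008e304573406570001620442f011c0d003bf00f40411c6a0031f0411c8101920031f0478b41088c001820210fc12b33008bf046fd012771003a204454c11cbf00142005dac103ca006df0443d0108a800220049a28127e4001c3048358120db001a10472f811d8100122002a58100da00181042c8410f9300102043aec119820018204808412bb70018201ef040a23e001820123d0116470018201a36408e180016200f8341118200162011418063e700142006cf010546)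
noncomputable def Tp178 : Nat := (nat_lit 0x1620450b011ff200cff04b11c120aa00923045f7c113b700003044dd811f35001c204777c129b10081f0471a0123680093f04b5c012be20018201cfd41256500920042cc81115700ac001ff3812878001a00475281229a001620099781089b0094101ee200593d00182027e400c4140093f041fb8016ba0069f04621812984008bf041d1c126e90077f046ec8017900093f04732401eaa001c20462f4125160018200dc7410e99006a1046a5c0617e000230468ec12698001820251300ba310093f04a29011f0c00a7f019e78116ce0031f047cb4028ce0031f045dd81235000923016d6c05b390093f04b254111330089f047c70100f2001a2045c201235f001620459a41229200162042694111e8008ff042f58123d3001a3046c8c125fa003a104440c03d010031f0406fc104110031f04a770110380076304accc12ae3008bf046cd41280d003a304a35c128b7001c3048b6012715006df0424301106000682049f90125030000304365c117d50012200169c1002d0012204097c105a7001420415e410b200031f008794125cc00023019df01220e001820163e411bed0024304939412261001a20123e81164b00162016e2c07eeb0014200b66010bc10014200abf0041a1)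
noncomputable def Tp179 : Nat := (nat_lit 0x1a00451981203700cff04848412c0000cff04b92c117df0000304033c1023b001c204a6c012ead0081f045c481287000923048ee012be2001820268ec12e000092104aa7c128bc00ac201ff3812878001a20470741282c008bf046fdc124cc001a201eeb0127ff0018201e470127100093f043d0000dde006800476c811886008bf046a3410e230077f0441d0025980093f04a3100300e0002301ca6012517008e302cff40bfbb006a104add812641008630468ec122c5001620405e4103e30093f04729412ab500a61012c000679e0031f044da803eba00301045c00117760092104af7812c6a0093f04875411c950089f044d641029b00023018a04120620016204329011595001620475d012959008ff045e041154d001c00442ec10ff90024204440c1185d00303040648101bf0031f04783811b6c0077f04394c12aee008a1046fd011b350031f04454c005c2008bf046b3c03386001a2009d8c1090c00180042c701141300162041bbc10d9600123040760101e4001420418bc10b7400142042c841141d0031f0466081071800162048838116330018201ef4c0a2540016204222811034001a201a37408e1a0018200f988111a8001420115700645300142006d641054b)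
noncomputable def Tp180 : Nat := (nat_lit 0x1a2010cec1142e00ce30482a8121210093f0180c81189b0010204033c1023e003bf045fd012ead0081f0471d0123670010204819c12be100023044a1811e2900182017c5011ef400ac20299980ca150092304a44c12e80008bf04618c1280f001a20288ac0c65d00182027e8c0c4230093f0422e0008430069f04937012983008bf0156b8118ae0077f0422e403a310093f047700048eb001e204945c12ded000030465481259a006a104990412b77008ff01cb1c11a3b0016204215010fe30093f047c30028dc0018002410c12d32003df042aac03f3f00162040978105a60093f04b1a8028350093f0456f0123700089f042a7010628008ff0452041143b008bf044304121aa00301041d38107e5008ff0435401215b001c0043fe4110bb003bf04a1d4097890031f016c48127c80031f0449b8127a50077f047d5410762008bf01f0901280e0031f0472fc009bf008bf049c5404dad006df044d5c027630069f0091a012b750016204365c117d600122040294101e300142040444102fa001620423a4110b80031f043aec10dd5001a20458cc1220e001a201640011bf3001a20437e011878001a20124b01165e00182016fec07f6d0016200b7c010bd20014200ac90041dd)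
noncomputable def Tp181 : Nat := (nat_lit 0xae004ae3412ec3001610435a0114c800921045f7c06032001020408ec1056e003bf04a6c01245000803045c4811c740000304095810597001a2044f9811fab0092004a2f412a9e001a20200a812960001a201fd9412916008a1046fdc11863001810489b409a630002300964c108310093f04107c00ddf006810476c0124dc008a004388c055ae0077f04108010fb00093f0448c004d5f001e304b7b41254d0014204052010378006a104b79c09c66008ff01529c125250018204604411b0b0093f047294019c40018202410c12d32001a100fcfc109e40016204169410b720093f0485880195800921047254115bc0089f0414c810c41008ff04818812002008a3045654110c1001830447a4113e9008e204553410d500000304703812820003a201f5c4097890031f01ebd411caa00302046db01126e0077f04abbc022f7008bf01ef741283a0031f04a2dc0103d008bf048b6006e87006df042a641090d0069f047f700387000162045f541242d001220412f0109d100142041b2010b73001c001647411c090031f041e7411837002df04808412253001a201ef700a25b0025f045900124e0001a201a46008e5e0018200fa34111c2001620117a00650f00162006d841054c)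
noncomputable def Tp182 : Nat := (nat_lit 0x1a204a8dc12ec2001630435a0114c700cff04b9280603200160044fec11f35003bf04777c12da00080304a1d0123600010204165c10b55006e304ad3c12e940092004aa78128bd001a2029acc0ca590092304b32812e970095f0442a0008ca001830489b412577001820420c410fa90093f04067400ef900023040ce41072200122041d1410e210076200e8c4104200093f042ee80334b0095f009ba412dec00142040de41078600142043b70119ac008e101cb1c054a700182046c2c118110093f04a29400fd100a7f04b4c80a8c0003df00ab5c109e400303048d4412beb0093f04554c00f8f0093f04b2ac12902008800418a0105320085f04ae781235f001c20124d41166200183044fa4111e700023045e08123d2001c004979811c0e001e202104412b1f00302016c4807af50073f047790129de0077f047d5c03660008a101f09007bdd003bf04a35c01a65008bf01aa1c123e8006df0414c0110f50069f04504805463001a3045f1c11be6001220427481122600142042dcc106c800023009bb4108ee003010437541079d002c10458d0120210018001641c11bf50025f0461e012262001a30239a412297001820170c007fa500163045490065320016200acc4041f0)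
noncomputable def Tp183 : Nat := (nat_lit 0xae204ae3412ec300162041b5010d6800cff049adc084120093f0403340046c003a104914011ddf00803048d881287400102045210120660070304b80012ee60092302f3f012ed8001820191981212b001e302393412cca0095f046fdc00ebd0018200c06c10c8f00181043ea4052280093f003b2c101a50018300da2810df000122043888118ab0072004479c118c30093f04172c020d80095f04945803c0c00023008dec107870018201d64812602001a201bc901242100162043f9011b0c0093f0484300097800a6202410c0a8c0003df04132001b260093f042ce400a950093f042f640094f0092104875812902001420403c81029b008410480081235f001c201a484122890018204479c11d72007c104817c128b1001c0047038125e600023014de0119aa0002301799411e590073f047848129b50077f044e4010e52001a20195bc12169003bf047380029be008a201ba1c06a87006df0424381021c0069f010c2011a1e00182043624117c6000030412dc109be00142041b1c10d5b00182009bac108ed0031f009010124a3002c104883412bb70016201641c11bf50024104590011878001a10239a008ea30018200fb48111d6001630194c8064480016300af3010adf)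
noncomputable def Tp184 : Nat := (nat_lit 0x2302190c12bc50016204531c120aa00cff01dd8412b200093f0408ec0029500182045fd0124500081f048d801143f0010304af8412efd001a202139412b4f0092304bb600bcfb001e201d6dc1261d0002304195410c940095f04618c01810001820459301226d0074102855c0c4460093f0410e001828001820437c01186f00c1f0279ec12dea00182042b84113c20093f042eec014660095f0462f40591b007df043a6c122f30018204980807592001a20254100bacb0016304217810fe50093f0454440059600ac302dfe412d31003df04278c010b80093f041628011880093f0417940057c0093f0473d812cac0089f04ab10121d7008ff018a041235f008a1048a4812cf5001220438c4118c2007c104a2bc1205f0031f0442ec01611001a20466a8125fd0030104280c10adc0072104779011e1200763042afc10e52001c2016de011ce6003bf0445c003ffd00183046afc11acf006c30411381021c0068301518c0430800182045f1c1241a001420412dc109c000142040bdc106c400122001f54100650031f0460f4037e2002df047e181220f0018201ef880a25d0018201a2f012263001a101a8f0122a60018201720807ff50016200b85810bd70016100af2c04205)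
noncomputable def Tp185 : Nat := (nat_lit 0x2302179412ba200cff0222ec12cb300ce1021048077610093f0415b80046b003bf04492412e550081f04a1d012007001a104afb812efe0071f01490412b500092202f3ec0cc6e0016200fc841121a0093f0425e412cf10095f0437a00265e006c00495dc128090018201e5d0127220093f0423880267e0018204936c12de300c0304942809e7b00182044f0c11f8c0093f045478020d70095f01446811c13007df01aa901195200162013b7c117ef0016201bd2c1242200142040fac1085e0093f042ed00034600ac302d98c0b7f8003df04134c01b230093f00704c1025d0093f0409dc0094e0093f04876c128e900880047c6c121d7008ff045c20120640002301647011c140012204630c1251800822048f4812bdd0031f0470301037300182015070119f20031f0208741235a0073f020544129be0077f046a2012b39001c201fb64128dd000230424901110f008bf046afc04dae006df042a5c12863001a2046a20126e2001a2046f9812804001420426f8112060022104356010df900023040698104390031f013e5410eef002df0457d012b28001c201649811c2300241046c1412263001a301a8f008ed00016200fb80111e1001620118840655300142006e801055d)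
noncomputable def Tp186 : Nat := (nat_lit 0x1820103c81132d00cff02317812c480020004bb3812ef40093f042c3000789003bf049c9411ddc0081f048d8812ba300a7f0487f812efc0071f047eb40740000182020bb012aa300162047698112250093f0489dc111a70095f041c741089b0002300efc01109e001820280080c4740093f0442cc03b700018304b78c1254c00003043888118aa00182010858113c40093f047584033490094301646c0511a007df0496680902300023045fb812445001620254d80bafe0000304218410ff30093f0417240058500023048bdc12d2f003df0407b81053b0093f041694011520093f04038400f8e009200473d8121db0088004b29812acf008e0018a0411708001a20470501282700182044fa011faf0082204af74123d20031f04a0801077c001a10497f41264b0031f01b07c12a1a0073f02108c129dd0077f047e5412489007c1029618129400018204443c1127d008bf015928117a1006df04716c11356001a2043cd011a1d001a304a0101242d00023009b5c108d1002230435640507500140040244101a20030100df8804f95002c1047e18115f4001c201eff40a27100162008d981078100182012630116790016201724c080010016200b88c10bde0014200ae4c04270)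
noncomputable def Tp187 : Nat := (nat_lit 0x181044cb410c7b00ce20222ec08c5e0000304a9ec12ece0093f044fec1005a003bf01e5fc129af0080104801c1236200a7f04afb812cbf0071f0183b81256a0018202a5400cc800016204a5f012e9f0093f04b3c811d2c009420099781071d0018204427811bee0018201e5f8127230093f047008058530091f04953011fae001820224801250900023041298109ac0093f045ac004ca70095f029afc12d8d007c10465440902300143041c9c1076b001c201bdcc1242700182045e98123f20093f0409ac0095c001c2023b8412d05003c2006c8c101ee0093f042dc800a740093f002bc8101c50093f04310c128e80089f047cc012ca400023045c201235e001620423b81077900182043a4011943001820451ac120460031f04703810e8900182042ae81137e0030102087406c1f00722020544084230077f01c1e012b3a001a10445d01118e001a30456e01127d008bf048c28078ac006df04678811f1a0002304505c11fe000023042e78114ed00182009a28108c0001a2041ca410df700142040244101a200023043edc11ad8002df0078b412529001c20164b811c290016200dbfc10e910018201a63c08ee00018200fbe0111ea001620118dc0656900142006f1410568)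
noncomputable def Tp188 : Nat := (nat_lit 0x18104585811ee4001a2045320120ab00182040844105140093f047cd410126003a10477700797f0093f04804c1236200a610487f812bee0070101d000060ee000230477b0129c000b6204b14012ea00093f04ba2c12917001c3046c0c12747006c202fe640c684001820280400c4810093f04a07011bb3001a1047eb8119370018004942812bfd0016204075c104a50093f048ba406d550094102540c0a6bf007c102d93c0bfce0031f04051c01135001c202558c0bb1d00142040fb0108600093f04037800fa3001c304b41412c74001220409601059c0093f0452b00062e00922003e3800af20093f0473cc115bf0089f04873c12ad0008e204a2f812d5300182041de4108ee0018204963412b51008ff04856012bcc0031f0497981193b00182044dfc11f41001c201e69c1273a00142044d5811f1a0077f04abb40967d007df0195bc128dd00160042f8011556008bf01acb812707003030447bc119e2001620060941041d00160042e781131a001800423441107b00221045e3411877001420406981043a0016200e8fc10fb6002df04635c1063c001c201f0200a27900183043f7811945001a301a850122af001820172c0080240016200b89c10bdf0014200af18042bf)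
noncomputable def Tp189 : Nat := (nat_lit 0xa5f0488e012ba2001a2019d9012201001820429a0113100093f044dd81032000dff04a0c00797f0093f045c281144800a7f04afbc12cbe001a202147412b58002000176141168200b6204ba8012c500092104a2141291700bdf04932812e5e001a20289600c685001c201e6ec127420093f0272b8127d70091f04b78c119370002304829412bfd00162041298109ad0093f048aa004cb60016204410811b750016201d1b01259d0031f0401a400a610082104a99412d1e00142043fd011af10093f002b18101cb00023019638121790093f0416700035a0093f04822400a730016200a9f810a7e0093f0445f8121d900882047cc0121cf008e204b54c128be00023041de810e850018204ad441258d008e304811812158003030466641193b00142006cfc10547001a20163b011be8006c2044d58119e200763020e640967d007df01fb6412169001a30449f011556008a101e2b006b2e006df04a77c111ef00182009078107cb001a204146810a73001820423441107b00223045e3811876001420410e4108e300162043edc11ada002df04390410c63002020164fc11c2c0024104898c11946001a101a84c08ef70018200fc7411219001620118e80656c00142006f381056a)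
noncomputable def Tp190 : Nat := (nat_lit 0xa5f02179412cd5006e0011eec10d6900182047b1c12a7a0093f042ad0106fd00dff01f014127240093f048d8410b3c00a620487f412bef001a202adb00ce38002020477b0129c100b7f0115a012e3c0092304ba5812e8a00bdf049d2012dda001e201ef9c12817001c20281280c4ad00921046ecc09cae0091f04936c12582000230110a0114c4001620426b0111f10093f0459e01174d00162046dd8127b200162026aa00bfcf0031f001fc4100d0001a20128901168f0016201badc123f00093f041238011dd001a20485e412c740093f040960005ba0093f04afac01150001620103d811330009200456fc1117e001220414f810aad008ff04736012d52001c304a09c11fee0018104423c11944008ff04560c12bc800303049618125e50018304ab7812af20014204228c11055000030471741286300761047e5407078007c20195bc07ed9001bf042f781127b00023047a6c12a50006df04784c11d7d001a3041f2c108b5001a20429d011319001a104481811bba001a2041ca010df6001c304238c1083b00162046b601271d002df0430b4115f60020201f0800a2980024204651812265001a20127281168500182017354080430016200b95410c050014200af4c042ce)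
noncomputable def Tp191 : Nat := (nat_lit 0xa410488e0085e5006ff0453201220100023040848105150093f044dc810dac00de101e5fc07c050093f04b48402c4d00142042f4011540001a202147812b590020204a70012eb400b7f04987406466001c202977412e9600bdf04b78011b03001e20289840c68f001c201e6f81274600b9f049de409caf009000464dc124db001a2045310120a6001a001816811f8d009210132d8116780091f04926410e880018201d1e8125a40031f04090800d560082304a99012d9500983046bd406eaf0093f040a2801ce70002304246c110ff0093f040364009b30093f048d4401c0e001620455441215f001c3019c6012135001a2042a9011362008ff048d70128cd0031f047fb81293d001a20423d0110cd008ff04810c1219200003041df410e890018200acb410acc0014204415811b91006df047174113550077f01c1dc12b3b002220119841156d001bf00fff411557000230457f412214006df0449c81295e001a1043c0811071001a2042e781131a001a304481811bb9002df041ca0113b2001df040d6c108e400162040ee410808002df04884002ed7001c201651811c2e002430237fc071f4001a201a76808f40001a200fce41122f001620119e0065bb00162006fe41057a)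
noncomputable def Tp192 : Nat := (nat_lit 0x1820431e811615006ff019d90120ab00162040848105160093f042ac4117eb00e3f04b46812dc600aff048b4c032fa0014204550412149001a202adb40ce3900921047c5c12aab00b7f01d6dc1212b009220321b80c9a3001a2015d4811b03001a201efa81281a001c20281300c4ae00b8201e97809caf0093f0464dc021c4001e304829808919001e004a58412b3100b5f01409412c640091f0460c41193900182026ac80bfd50031f0415d4015e70082102a3100bb3300983048fc01272e0093f04182402d71001a2009e381091a0093f002a40100a90093f045c0002c330016304857c115520093f02b19412c59001a3042ab411362008e20473601235c0030301ff6811fee001a004436811c28008ff0473b412bc90031f0463d4127f100181042b3010ac10000304415811b8f006df0443cc11f190077f021114124880063f040b94102a2001a3042f7803ffd001c201b61c123b2006c30475f41127200182043c08119de001a20453b4120dc0014304274811208002c0042b4c1072800003040d6c1074d0021f04202010e80002df0457e40473a001c201f0a40a2a3001820141f0118820018200c2d410cb5001a20173c40805b001c200b98010c110016200b05404326)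
noncomputable def Tp193 : Nat := (nat_lit 0xa4104ae3012cd4006e2045320067640016204145410a69009210436b010ab100e23025b6c12d1a00aff045c380209c00003043158115dc001c2048aa412d07001a2017d1011f0300b62019198075b700023041aec10d4b00bdf04935805752001a20289900c692001c201e74012747001c20475dc1295b0093f04936c01503001e104aff812c5600182047e3812b3000b5f0485581185f00901043a20118310018201d3a8125b90031f042c601036d001c201bed01243300982049cb8123f10093f04303404525001a204246c111000093f0407b8011800093f0433f8043500093f04179000f900093f0484d808614001a3044d881136d008ff048d6c128ce0030204705007fda0031f046e8c0054f008ff0481101117900182014718118f500181044e48113a7001c2043f7411b00006c1044d54110f30076101c1dc084450063f0050c810638003bf00f7c010bde00162011fa0115fc001a20426a0111ee001a0047f8012633000230429d41131a001bf046eb011226002df040e8810ad2001df0410e81074d0020100dbc810808002df011f88115a7001e201654011c340018201c770098040018001299c11686001a200fd741123c001c2011a20065cb0018200701c10586)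
noncomputable def Tp194 : Nat := (nat_lit 0xa4104b34c12b8c00fdf019d8812c4300162044c4811ec90093f04150810dad00e3f02d60812dc500aff043414032f9001620403d0102a0001820172d411d7e001a304aab012ed9001a202014c1298f00142040bc8106ba00bdf01c68011b040016204403c11b3c001c20281780c4be0077f0463b81295b0093f0461bc021c500c1f01571812c56001e204a58412b3100b5f0194d8124c600142041df010e8800182026cc00c03a0031f0450301076b001c20256ac0bb6b00982048fc41272e0093f04562011512001a20443fc11c670093f006c8c102590093f00c8101143b0093f0409d8019560093f0192dc12bae001a2044d8411f25008ff04736412d510002301a484122880031f0442300090200723045118111790031f049b7c051c60031f046700010db001c0046c3412741001a20443cc11c5c001a201d6a81261500621040a8801432003bf0455580283e001620457f412216001a20447bc11d7d001bf04505c11a1d006df0084e4120dc001a30441a811226002c2041540103a2001df040d64108e5001c3043ed811203002c2011ce8047e2001e201f0d80a2b20018201421c1188d001e201aa5c08f46001a201745c080850018200ba7810c220018200b09c0433c)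
noncomputable def Tp195 : Nat := (nat_lit 0xa4204af1412eec00fdf0222bc121ff0018004a9f412ecf00003041bfc10dad00e21025b6c0b58200aff045c3c04a72001620418c810c55001c004ba6812e9e0094304bad012eda001a2029b500ca6f00142041aec10d4c00bc1015d48071a000162046cf41277a000230401c01015a0077f0475dc1253c0093f0437c0034a700c1f0484bc07814001620476001296200b4304617c0653600140049614127f00018201d3d8125bb0031f047f4810727001a201bf281243d0099f046c88123f20093f0486641210f0070304b1d01286f0093f041674010b80093f04800804ba00093f04178c0283100921021850064b7001a3047c9412103008e3048d6c11cd90035f048c50122890031f04231800f14008ff0451a4114460031f046a10036750031f043bac01b5e001c2046c3412741001a1041134109040020001803c11f640000304458011cc9003bf042f800195d0089f01b61c122160030100a404107cc001bf043cd011fe2006df0453b4033db001a1046eac11db800003041f6410f19001c30410e810359001c1049c7812970001c301e4d412416001e201654411c350018201c7ac09810001a20128dc11695001a30175e411dca00182011b880663c0014200713c10595)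
noncomputable def Tp196 : Nat := (nat_lit 0xae204bbb012bc500fc3019d88088af0093f04725800b0a001220401681012600182019768121a000aff048d9406a9f00162043158115dd0022204a5d412e9d001a2020c5812aac001e20201ac129950014204352c1177d001c2049db412e660014204103c108a4001020400741006f007600463b811d770093f00d59410dc800c1f04b15409e7e00162006fa01057300202048a8412cfe00162041090108c300182026d0c0c04a0031f04adbc10340001a20257000bb770099f045e981275e0093f04b21c12c3a001020400a4100940093f041ab000a100093f045410116ff0093f042f601095d00182016e2411cf4001a1047c9412105008e304a33c12a570034301ad7c122890031f0410980189c008e3010ec8114460031f043dec051c50031f041f0002b2d00003043f9811b0d001a304717011fa1001e201803c11f640018204256c1115f003bf0417ac0283b0089f0457f4123b200142009098107cc001a004505c10f34006df042e7803bde002df046eac1081300122040e84107d6001c10423b410e2f001a200a438109bc001c204806012bb2001e201f0dc0a2b400182014330118a0001a201a98408fe3001a10175e00808e0016200ba7c10c230014200b254043e3)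
noncomputable def Tp197 : Nat := (nat_lit 0x304ae3812eec0018204859412c6e0093f04a2580124b00122040c84106fe0018200d96410e4c00aff04b55c122f100162045770121ef0022204ba6812e9e0095f01765812aad001e2029ba00ca7f00142048f3c12d7500023015eec11b3e0014204415c11b92001020401c01015c0093f0463b810ede0093f04607c0224300c0302452409e7e00162042c541140900b5f04b18c12cfe0016204422011bd10002300db4010e7400003047f4c12b6f0018201bf741244200980046c88117a600921048c8c12c3a001020406b0104540093f040b9c005f20093f0445d8120f60093f0455481116300182018bd4120c4001c204171c10bb2001a204459c11cd9008bf023a58123360031f0060fc10445008ff01876012bc70031f00e514118f40031f008fec10acc0018204158c10afc001a104717011fa300202020fb012aff0018204458011ccb003bf00758c109600088201b61c115fd006df00db34129ef006bf04add0126e1006df00b4741109a002df0476e010f8000122041f5c10f18001c30423b410e2e001a200fc2c1120300142006b6c1051c0020201658c11c390018201c8e80985d00182012964116a2001a200fe6c1124600162011b8c0663d0014200749c105d9)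
noncomputable def Tp198 : Nat := (nat_lit 0xaff04518812eeb00181018bb8120a30093f04b4fc01d8800122041bfc10dae0018304393010d8f00aff04b53c12d2c00023007864106340072304ba6812ee70095f047c100811e001c202021c1299b00142006658104900020204379c118600016201efc8127c500102040568103a50093f0475dc119af0093f043bec0155600c1f04aff811aa200162047f4012b6c00b40048a8412c6300162046f48127ef001a20439d01191b0031f0450341033f0018202574c0bb8c00023045ea0123f30093f04b0dc094dd0018204115c109170093f04042c0037a0093f045bf803dfe007ff0455f811ccf0002301146811508001c2045434121040002304736c128d0008a101aee408e960031f0423ec00ed9008ff0480fc085ef00301014714039450031f044e9c0167f00182042bf4113e90018204157010af30002301d6ac1261600182047324128c4003bf0445b00122d0088204885012a50006df0478a005238006a3047f68126e1006df046f9801caa002df04489811a920017f04998411ae0001e10462fc11ab7001a0040e70104b300142040440102f80020201f1200a2c7001420404e01034e0018201aa180900b001a2017570080da0016200ba8010c240014200b73c045b4)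
noncomputable def Tp199 : Nat := (nat_lit 0xaff04ae2c1203800fdf018bb812c6e0093f04b3881060a001220436b4117ec001e2022aac12c8e00ae1048d6012d2c001a20418d010c59000230214a812b5d0095f017d2c129c2001c2029c140ca96001420425f4111ad00bc304932812748001a20411cc1087000102041f7410f230093f018168126060093f041f200224400c1f048298126f600162046630125d7001c3044ddc11da100162049614127f00020104646c1190f0031f047f4c101310018201bf7812443001620435d4117a700921022228094dd0000304025c101ad0093f040144005f30093f012e4411177007e104458c1157e001820483f412c10001a200ff7810d55001c204736c128d1001c201a4f81228d0031f044368008de008ff0188a812ba8001c201dfe8126f30031f044e48016c3001a20442f8113ea0018301827011fa20076304ab9012b330002304546812118003bf044614011840089f04a94408e10006df0177601191a006bf049b8c12b73006df04a010011b7002c1043e00112260016104680011ae0001e304630011ab6001820437201181e00023040444102f9001e20165b011c3d00180014394118a200162012a24116bb00142004084101ea00162011b900663e00142007530105e0)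
noncomputable def Tp200 : Nat := (nat_lit 0xaff047fc812bc100fdf048594087390093f04893c10c0f00102045f88124360018301bd00118e4000230100c8112a7001a1043164047ff0072104ba7412d070094102047805f4b001c20202741299d001400446cc11d3200bc304b97412dd9001a204251c1114400102043c9011a0e009230466bc0605a0093f00905c1072200c03046a88120a6001a20437181181a001c304a5e412cff0031f04230c03b1d0020104955812566001220404a010324001820257500bb8d00162045ea8123f400023019018121080010204025c101af0093f001d24100340093f0473a0032140093f04857c1157e0093f04734c12c10008ff00695412c2f00661048f58128d1001c2023a1c0b4b40031f0470a000edb008e10217bc0622a000230117a4115440031f047d60103a3001a2044fa8110be006df01dab812b46001e1044e0c1139d001ff04457c12118003bf0473ec1025c0088102092c08e10006c20148e005dd8006a1047f68126e3006df0490b400ab00031f0463f0108130017f046b7c12662001e10470201141d00182043bec1181f0012200266810052001e201f1440a2d200142041cf410e170016201aae00903b00142041338109ec0016200bb9c10c2e0014200b8200460b)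
noncomputable def Tp201 : Nat := (nat_lit 0xae30480e011ff200fdf01955c12c0e0093f04b2301158a001210490d812441001c20463901253200162042888112a60073f045504121ef0073f04ba140c514001a20205b8129f5001c2029c680caa900142005154102f300bdf04b76012e64001a304451011b3c00102041f7810f2500bc00302e409fd80093f040ce40169100182046a88126f5001a20491f412db600122044ddc11f360031f04422002656006e304970012e0100122040c9410704001a001bfd01244000003048fe812d760018204842012c33001020406b4104550093f04030c004460093f04a37c020020093f0455441132e0093f04831005b89008ff048410029a90066104a344123d80091f048fdc1255d0031f0443340184200162042d5011480001c20455101214c0031f04abc8107db00023042bf8113ea006df0211f01269200182042b181139d001ff04546811cca003bf04a3b4105a2001c2019db812206001c202108412564001a20185fc11fda006df045f54011b60031f043afc10f800016304680411adf000030442e411c070018204607c10efb0017f040be0102ab001c201661811c4b00162014394118a200162012a40116bc0018200ff081124c00162011d4c066d800142007548105e2)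
noncomputable def Tp202 : Nat := (nat_lit 0x182042d241146200fc3021ce4065570093f0486781219c0091f0490d810eca0020204a0d812e840014104a81812a450073f0457701214900721028d440c5140012204085410525001c00203a8129b400140041af010d4a009400099781071d0031f044510108a400103043c9403a7f001a202114812b400093f041c8c00dc500142008f60107a40000304406c11b4900003046d601278d0031f046f4810895006e304b80409b51001220436d0117f90018201bfd01244000982049d34123fa00122042d001145400102042460110fe0093f0408900027f0093f04a910013dc0093f042f5c040f60093f018bd411cf4008ff045434109fc008ff0432fc123d70090101cf2c123f70031f0423d0026a0008ff010d4412060001a3048530127210031f04ab7810f2100163040f701083c006c301dab80847c0077f01d6a812aff001e104457c1151a003bf04a42410b690018000faf0111c9006df04959011e29006bf049b840365d006df04365c01ca80031f044898107a00031f04210400e6c001ff043ef011c060018204371c1181c00162040440102ab001c201f1bc0a2ed0018201c9740988a0016201ab0c090480018204493003fc20016200bd5810c6d0014200b8440461b)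
noncomputable def Tp203 : Nat := (nat_lit 0xaff01007412bbf00182019564121660093f04562c12c890091f04910411994002210492bc128360014104a91412a0700722045504115dc0020204946412def00123044d3411e340018204492811de30016200666410493001a2046cf81277b0031f046cf0110570010300ea0410f2500b9f04b82012b400093f0437c40083400142041eac10ec9001020421c811018001810469f8126d00031f049fc01103f001a204959812e0100122045fe812456001a20257b80bba8009800491c012d7700023011f74115f800162009ef01092f0093f0414fc001700093f047a3000c080093f00b8581133000922016e24062f5008ff04841411265001600432fc11696009010252c80b4b40031f009be0108c8008ff04520002c330031f043eec00e320031f047d0411a0c001c30442f811ae80018200f908111a40077f020fb012615001e104846c128c4003bf04746c1149c0018200faf0111c9000230430801159b006bf047f68051a8006df041bbc02d1a0031f042748023c70031f043efc01796001ff0442dc11add0018200d37010dd7001a3041470106c6001c201663411c4e00183043d2c118ac00162012aac116bf0018201764c0811a00162011fa80678700142007574105ea)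
noncomputable def Tp204 : Nat := (nat_lit 0xaff0480d41129f0018202287812c6f009210486701158b0091f045fb0125de0022104ba1012df90093f047a340042d00a6304afc012c5e0020104b7bc12e53001230478d01134c001a20203a8129b40016204260c111b40095f04b75c1277b0031f04403c11b9200003043c9811a0f00b830269d012b400093f0461c0004d2002c0043e1c10d790010204406411b4800182010c941141f0031f04961411b72006e2026d440c05400003040c9410703001a201bfe41244700182045eac123f90072304884c12bba0016304447c11c650093f042ac0002450093f044b6800722009220103d802e1600262048e7c12d6b008ff047c9411e02008ff045e20116960002304244c110fa0031f04423c108f3008ff042d50043500031f046b700173b001800468301264b001c3046ba010fe7006e304ad10126910076201d6a8083ec001e104a3101211c00003042dac1149c001820171a411d55001e204566c07e4a006bf049b8c118e7006df0085ac10b9c0031f0412f0016570031f046b7c025a2001e0043ef0110b7001820460e8124a000163006b6c102b0001c201f1d40a2f800023041d1c10e230016201ab94090700016200ffb8112700016200bda410c780014200b87c04630)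
noncomputable def Tp205 : Nat := (nat_lit 0xaff04518411e3f0018204830c12c0d00162047b2812a7f00901046650117ec00de104b23412e840093f04a91400721001820452cc12091001620033601012d001a201777c11e34001c2029d880caef001620446d411d36009410493201277b0031f049f1411b3d0064104a8ac1266c00c2202aaa409e430093f049370002d40093f043e1c023d80091f0491f012784000230440ac11b5a0031f0464e8127af0018201d470125c6001220401e410170001a20257d00bbae009830491c012d780072104884c12bbb0016104447811c660093f044dbc003e50093f042904009e700023019e481221d0018200eaf411003008ff044d84129d2008ff043550122cd00162041144109120031f046510110cc008ff00b2701143c0031f049c84025120031f044dfc1264b0018201646011c1200182044f7411fa2001a201f76c12880001c2016ddc11ce4001420046101025c00023019dbc12207001e00478a41289b006bf046a2012534006df0453b0014c90031f04078c00da00031f0468041083b0031f0420f800875001a201d0a012578001a104147010a37001220400601006200162040d541074600162012ae8116c00016201770c0814f0016201200c067ac001620076501060c)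
noncomputable def Tp206 : Nat := (nat_lit 0xae0044a7c1146100fff01956412c0d00b4104bb1812ed10093f045fb0004cc00dff04b7e412c8f0093f04a81c00c060002304824c12bf100162040cc810719001a1047c40129f5001c20203ec129ba001a2044b5011e870094304b76012e6b0031f01efc81277a006410499b012a2c001a2025fcc12de40093f0476c0001a00093f0435e4107a40091f046d2012db5001820440ac11b5b00301046dc81193a00182026dac0c06c00122040f5c108390018204602c12467001600435ec117ad002df043910122120014204148c10a8b0093f047cc0006a50093f0413e8005d9001a204887412cc40018004458411b30008e004780811361008e1045a5810d540016204244c110fb00303043a40110cc008e3010d4002c9c0031f0485301081a001c3044dfc113b3001c3049d041282500142002918100cb0000304607c12482001c2047394128db00142045270120450079f04881c1293f006df0210841289b006a104639c11a88006df04836c0216c0031f0402940081d0031f043c60108e30031f043ef0004f900023043bc0119c300122002764100b0001220404d01034400162041d1c10e260016201abe0090850018200fffc1128100181012740116240016200b9b40469a)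
noncomputable def Tp207 : Nat := (nat_lit 0xae204ba4012ef700fff04830c12166001c204a92c12ec70093f041508002d100dff0494c808aab0093f047918013d800a7f00b7e412bf2001620437641184200162042a381134b001c2029db80caf8000030446dc11d3700bdf049dac12e6b00302046cf407bf20065f01079c1266b00182026f2012e350093f044884002d30093f045ebc10ec9009010491f011b4800182046d681278f0091f00878c127b2001a00271100c07600140046b4c12718001e2042414110e700122041b6810d77002c30457dc10e4400142044d1c11f090093f04873c00b390093f0408140036b0018200a524109dc0018204458411b300018200a6a4109fc003bf045a7005a50001620443e811c62001a20423cc110cb00182019b80121c80031f04551010f890031f0497f4113b3001c1049d001282600183006e381023400023041f2010efb001e204846c128dc001820481141149c0079f0475540676e006df01f92812b25001220404fc1035a006df0483580220d0031f0400b4004c50031f041f5c104390031f0442dc008740016200df8810eee001a3041b1410a3000122041cb410dfd0016204388c118ae0018101be1012306001820177580816300183012744067fd0014200771c10619)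
noncomputable def Tp208 : Nat := (nat_lit 0x3042d181145900fe2019564120c300cff04b134002c90093f041bf4004cd00dff04639012c8e0093f044a9801ffc00a7f04824c045f50016204610c124ab008c00315f00cca9001c2020514129cf00162042610111b600bdf049dec12e6500300046cf407bf20065f046838113a60016200fc7c112110093f042738004d00093f048ff81199300901049e0c12db7000030439ec119230091f046dd8034d50018201d508125da001c104915812719001e204714012854001420435ec117ad002c30463681160c00140047c2c12ab20093f0456d4012950093f0402c8001fd0018200fd701123b00182047330128c5000230427fc11267003bf04330011c70001e104718807165001a204433011c27001a201ff94129430031f0117a411a9e0031f0466a811f7c0018204213410fd70018104157010561001c3049204124bd001e204a3701211b003bf044684120450079f0171a412206006c102108407e4a00123040d6810145006df0453a0035140031f040298002cc0031f043c64101a60031f0423a000e3100162008fec107c0001a30428c0106c3001800166dc1187e001630462b8056250018301be10090bd00182010014112930018200bf8c10c860014200baf00470e)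
noncomputable def Tp209 : Nat := (nat_lit 0x12204163810b4500fff02b68012c6f00cff04bb1c004bc0093f0436b00082b00de2022aac118e40093f0428880320b00a7f018a98115450064304ad8412df000182020ca412aba001c2029f100cb35001620446dc11d3800bc3049dac1277b003020289ac0c6980065f043c9011f7300023008fb8107b30093f044880008310093f045ec0125dd00023004504102450031f0439e0124f00091f04410804f8700182026e4c0c0880031f0401e4002f8001e304a15012b2a00162045ec8124010016204191c10c7100142047c2c12ab20093f04873801e040093f040810001260018201745811dc900003047338128c600182041364109fe003a101694010cc0001e10493081286a00023046f74127f8001c2042a0c1133800301043e24045e900300044ecc119aa00182043f6011afc006ff04a44412b4d001c10492040976c0002301fb64128dc003bf0485741115d00782019db805c690018201be541242900123041d7810e32006df01126010ddd0031f040790004c40031f041f64100910031f0410f40173a00163043bb8119bf00122040800104f3001820166dc1187e001a101e2081250b00162012b94116cb0018201776808165001820122c00688c00162007a341064f)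
noncomputable def Tp210 : Nat := (nat_lit 0x122042d181145a00fe20228780ada000cff04a92c0080f0093f042ac400db500dff01718012c900093f044a9c04ba900a610117d4062a6001820467cc1264d0018202a6280ccaa001c2020564129e0001620474dc1292000bdf015eec12e66001e201f0181283300640044e9810f240093f044844107b30093f0476a000dc00092104664c117b0001820409141057b0030104620c10e780091f00ece0118320002304464811d070031f0405c0001b6001620061141042800023013ed011844001620431c81160a0093f040b98010b60093f04b28402f1a0093f0413ec000a800023008360106c200182003e38101c5001820427fc11268008ff045d2012cea000030459a812293001e201f3a412864001c304aa6c12b9f0031f02272c126f30031f026ee412b1f001df049f0c1273c006e1047eac129110018204607412481007ff04547012991003bf04553c11cc80002301fba8128e4001820148dc1191900003043cc011a17006df04612802d100031f040760003d00031f040e88008f1002c20408b00173a0000304670012613001220413d010a300018201f2a80a32a001a1021f24078820016201acb0090c1001420100601129a0018200bfa410c8b0016200bf88048af)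
noncomputable def Tp211 : Nat := (nat_lit 0x1220451641202a00003045784121f200cff047a5400d890093f0415040167700dff04868007fda0093f0100c811702001a201946c1214e009020467cc0547d001e2020cb812abb001c2029f480cb3f0002300f8301118000bdf049db407a6d0018200f6d8111490064202a9800c4c10093f00fc7c10edb0093f04486c0168a00c1f043b44126f500102040fdc10874001a20438041188700901013e1c03b38001620425c0111910031f040f5c000fb001a3049f9c127f2001e204611011c30003020431c810aa30093f04042800a0f0093f048724047990093f0429080012700182041b0810d56001820412041095c008ff044dbc129d7008ff04896c123a3008a004a1a812cf7001a001ecd8127e1001c304ae7c12a9a0030201dfe8089cb0030202104409bb9001c1046e441273c006ff04a44012b4e001a2041f2010efc007ff0476fc10bba003a00445741154f001c204a39012925006c00478a4084210012200379c1015d006df0492cc01ca20031f040280002380031f041540005460031f0061c41022c00162043ba8119bd001a2041b0c10d57001c2009d5c1090a001a20143c4118b30002301acb81230a001420177cc08185001820122e0068940018000c95c04922)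
noncomputable def Tp212 : Nat := (nat_lit 0x182014cb41197d00162040a841063300cff044b94016330093f006ca01039400dff01976811c140093f048d6005e140014200a16010969001c102739c12e2a001e202a6400ccb0001a2020568129e1001a204460011cf700bdf01e8881277c00182016c8c11cae009a202592812daf00920041ecc03f1f0093f04272c0240a00c1f046a881199f001020421d41101c0018304621c118900018201d6f8126240016204464811d080031f0420e40008f0031f044f0003b89000230470c01283b001620078541062d0093f003100100c10093f04b2880672b0093f044b6c001ff001810477241178a0018204458811ccd008ff04781811f31008e1045d201225b008a3025e000b49c001820441f411bbe0031f04264802a8600023043fe811b26001c2044ecc11f7c001c20439f411927006e3047eac12910001a2040e70104b3007ff0448c01151d007ff04820c1215c00182043324116af0018201cfd01256300122005b20103a9006df049bec011b20031f040764001470031f042b4c003180031f04031c00efa001620466f812612001c1048f7012bb20020104242803c3c001a201c9a40989a001a1045db41230b001600100941129c0018200dacc10e6d00162007eb410673)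
noncomputable def Tp213 : Nat := (nat_lit 0x1830480a8125c500162043160115e000cff042920023910093f041ee002ada00de201ff68065da00aff04b4b011e480014200f854111840090304b89012e2c001a201760411dea001a2029f4c0cb40001a104a480128eb00bc301e9b407a22001820061f410442009a104b6bc12e5f00abf025fcc12e350093f00a480107c500c1f048298125f00079f0415ec127860079f0439ec1278f001820270540c0f50016204741c128fa0031f043ec8000f80031f01085011081000230066441048f00161040ba81062d0093f0408500143800023019cac121de0093f0429180036d000230418fc10c66001c004734c128c7008e3044dbc11e06008ff0471dc1239e001a201a560122960073f04424c11bea0031f00a34810a830018200d1b810d8a00302044ecc119aa001c201ef1012571001c1044f9806120001e00498bc12b00007ff04847011dc0007e20484881208300203048ba012a2f0071f0490ac1256300122041f9410f2f006df046aa001c9f0031f04129c000bb0031f041ca0001c90031f0408b4008f2001c30471581261200261046118117db00221028af80a3540016200d78410e27001a1048c2c06db0001620100941129c001c2012400068e20016200c66404b03)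
noncomputable def Tp214 : Nat := (nat_lit 0xfff042d0c1142c00162045784121f500cff044b900373f0093f043b8404176001a2015a3411ac400aff048bc412a0900142016e5411cfa0090104b88c12e2d00160048d0412d46001620478f4129fc007ff047a20128eb00023025e7812dd600182009bdc108f20080304b4d412e5f00abf026f2012de40093f043bd403f2100c0304667c120a60079f046d2c10b220079f046d6811924001c201d7701263400023040e60107be0031f046b48001b00031f046f10060570018204123c109780093f04043000a0e0093f04148c020910093f04a900121de0093f044b84005dd00142040a9c1063e0093f0483f4128c7008ff04a76012ad1008ff045d1411111001a2023a880b4d000721044274110930031f044ce003ec00018304362810fa00031f026f6c12ada000230439f411926006ff016f0812b5a002020498bc12b00007ff04a3101299200023019108121220031f0413cc019e40070001cfd01242b00122043cc011a1a006df043e2c02d0b0031f0426b8001480031f040d04003150031f04153c00988001c304984811c5500162045f6c124320002300ea1010fdd00162014418118b4001c0045e841230a001620178140819d0016200c18810ca200142007ec410676)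
noncomputable def Tp215 : Nat := (nat_lit 0x12204163410b43001620487c812cb900cff047a50052c40093f0466d01137300182011a581158c00ae1047920122f1001a10473e81121c00162047d4012aea0093f04b51812ac1003020478f40815e007ff04a480112d400bdf01c5ec12e690000304709812831009bf04b6bc0b67800aa2025fcc09bc80093f04672c1121a00c1f015718125ef0079f044070114210079f0440a812570001c20270ac0c10700142040554103970031f049c64002b10031f049f9c11f88001830425e003ac90093f040ba8010b50093f042a2c032e80093f047a1412cad0093f047a48009ee001420418fc10c680093f04733412c29008e1047cc0129d8008ff043494112f3001a2044fdc11fbe001620162b411bd90031f047bc005c6f001620410c4108d700303020db009bdb0018204425811bce006ff047ed411d22007bf0467641295c007e3047700128c4007e3021b68088c20031f0428bc029090071f013a1c125620012204685c12672006df00e61810b9a0031f0447c8002360031f041ca4001c70031f042b44008f4001c2047154128590016300cd4c10c73000230167bc11c5e0016201ca10098bb001df048c08117a00018201012c112aa00162012550069490014200c68004b0e)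
noncomputable def Tp216 : Nat := (nat_lit 0xfff047fc81058d001c2019d8c1220000cff04a9280749500160042ae0113730018204868412c9100aff04b12412d2b00a9f00fc8812c600016200ecdc1104000921048cf812ac100302029f5c0cb43007ff0474dc11e8700bdf049ddc0979e0018204432811c25009a20259280b6780002301d4f4125d90093f04987c11da600c0104667c055c600781042c881101c007830464901102a001c102ef100c12100142040e60107bf0031f0491580018d0031f049fc812b2c00183015e44111a60093f0418b401b210093f044d1c04cd6001c204877812cad0093f04a7fc0108400142043198115fe009230483f411ccd008e004b5b8129ce008ff047a90032c2002c2044fdc0696a0072304a190127f90031f04aa6807fe3001c3043e80108d700003044e5c11f5c001a00439f811925000230474881290f007bf0475e410efc0018200fce811230001a2042574111630031f044afc03f050071f04646406f9500122041f6410f1b006c100b42c039860031f047604003cd0031f0437dc003140031f044ec000efd000230141b0118720016200bd7c10c7300203028d040a36b00182014448118b7001c1045b0c117a0001820178d4081d9001a3041e0c04960000230076b010616)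
noncomputable def Tp217 : Nat := (nat_lit 0xfff0480e010b44001c104b2e412cc100cff04bb180686000162042ae01137300dff04b24411fee00ae0048bc412c4900a9f04853805cd80091f04aba8127b00092304b51c12edb001a1029f780cb48007e2044b5011d3700bdf01e95012dd60018204709812832001a201e81412764001a204976412e210016204489411da600c0302bf6c09ca800182042c8c114220079f005fe812b81001620090b8107cd00142041ef810ee90031f045fe8000e300303047e20127f2001c204469811d2b0093f007854105380093f047c2405b3a001a20173b411dbe0093f04790401ad20018200cb1c10d27001a2020588129e80016004188810c35008ff04a96c02077002c2023ad40b4e10020101f3a01282e0031f04ae7c12942001c10138a0110a600142042b1411396001e10443701192a006ff044fc01290f007bf0447a8119d8007ff00bcec12993001a301fae4128c80031f04799c111fb0071f0148dc1242900122043c6411a02007ff048354124300031f0472f8006800031f0461d8005400031f042c1801876001e20461c811c5600162011fd81160c001e201680811c5f0018201ca40098c9001df01ba1c123030012200415c101fe00182041e0c10e940018204185810c21)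
noncomputable def Tp218 : Nat := (nat_lit 0xfff0451881145900142040de81078800cff04bb440488e0093f04968c10ab800023015a3411ac300b7f00c82c12c0900a9f01946c11da900902047d40127b000142047c5c12ac100023010024112940094204a47c12c6800bc3025e7807a540018204a0c412e83001a202825c0c4ee001a304b88412dd00093f04b8f41122500023041e3410ea000183047f9c12b6d0079f047f9802640004bf0498f81263c00181043ba410ec80031f0436d0000810000304066c1041b00023044ea811f750093f042a8c02f2f0093f04aac803dc6001a2044ce811ef60093f044a84105170016304349c11565008ff04877c081620016204188810c35008ff04a7a4032c1001e00471601285d001c201648c11c210030004800c129420031f04263c110a600142044e5c11f5d0031f0464a80269c006ff04748411fb6007a1043bf0111ea007ff047704046610002304459411cd20020200fc14111fb0070201be5405237001230499c812663007e301bea4120d50031f044548007430031f045e38005c60031f044fcc026ea001e10495cc12859000230034e810144001e201f42c0a38900162040ce810724001c301ac9806e8700160010138112ab001a2012580069590018304308404b20)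
noncomputable def Tp219 : Nat := (nat_lit 0xfff042d241202a00142043a7811957001820458c01224f0093f04656c1137b001c2046b0c11fee00b7f0482e0029e300a820173600651b00182041c4410dc3009bf04bacc12eb500182044a5011e320016200bdb010c7900c1f04b75412e6a000030459c41229b00023015dc011b2900023042c3c113fc0093f049af411db600142008e201078c0091f04b6d812b6d000230099001087f004a10467a41263c00181046648119bc0031f041c1000049001220014c810028001a2044ea811f760093f0431c810c4d0093f047c2c05b39001a2047bdc12aa10093f04288010a6c00142040a04105f7008ff04b2c4129e80016004873812ca1008ff04787404ca3001420426d8111f8001c201efec1282e0002301ff94129420030304235c1098f00142047d7012af80031f0439f803b9b006e3044fc011d21007bf0475e812482007ff0173cc1156d001c204459411cd5002220172f411d8c0016200e76c10f9f0031f0468081043a007ff049a7c123070031f04253c004420031f04356c003600031f047ee803c0e001c201495c1192b0016204051010365001620168e011c610016200d7ac10df200003045b2812308001220413c010a2400142002e68100f70016204136c10a03)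
noncomputable def Tp220 : Nat := (nat_lit 0xfff049714114630014204967c12e0e0093f0458c0115890093f04968811f3b00dff04868411ac300b7f04533c0403000160014be411969001020404901031d009a104a70412eb3001a200dc6810e95001620458441222d00c01049de012dd50016204329c1167000aa30290bc0c4f0001020400dc100ce0093f04697c1298900142041e3410ea1009020491f412b6d0079f04507c1087f002820460141246000023043b1c119900031f040c9400080001220402341019a001a2047dd412b120093f04582c115d20093f017d5011cb300142040b30106860093f042cbc112a0001420417d410bef008e3048e74129e8000230451c41204c008ff0449f811743001420447e411d89001c304432c11c210091f019b80129430031f01e7dc12472001a304abe0120de0031f0464940588d006ff0296b012b5c007bf0460741295d007e201198405cf3001a104a2e4128cc00182011da8115b80016201596011ac0001c3040d6c1043a007e301db70123070031f0411e00027c0031f041b1c001f70031f0459800591c001c30464ac0742700162041d6c10e440016201f5580a3d5001620437c8035eb000230435bc117a100142010138112ab0018000c1dc10ca8001420402b0101f1)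
noncomputable def Tp221 : Nat := (nat_lit 0x2304518c1203600ce1043a7c040850093f0122381219b0093f046b2812ad700dff0456300568d00b7f0110f4112a50016200dd1c10eae00102040c68106f5009a1032c100cb05001a204653012595000230458701223b001a3049de00a5c7001620459c41229c001e203076812e62001a00415c010b0d009200476d811a5f00142043a80119590091f047f40125d70079f010c9411029002820491d812da900162041e8c10ec60031f0404a0000e00012204066c1041c00163042b3c10d780093f011fd8121e80093f04a2c00413c001420433e8116fa0092004288010b2f00160040440102ab0093f04a31412d6a00162042d3011470008e001328c1127e001c104acd41296600722049fe0128350091f01ff94121c80031f01c16c12760001820412601098a0031f01494811bce006e102149c0a5ac007a30475e81181d001c20212b812b4a001a304a2e8128cb00223047630113020018201559011a760031f04998c1035b007ff0242f81269e0031f040704004410031f040be80035f0031f0124d011c15001ff04985c12578001630463681251f001a201693811c6900162014458118b80016000ce1c10d43001620178e4081de00142040ad41065e00003040bac106af)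
noncomputable def Tp222 : Nat := (nat_lit 0xfff0465f41203600fff04b83812cc0009230456240488e00922047cec11aca00dff011a5811ac400b630100c00443d00162014be4119690018304370c10da300182020d5c12ac3001a304965408ddf001a20488ec1222e00c1f04b7500a5c700162048a6c12cf90096302dacc0c1da001020408f01056f0095f04933c11a5f0002301d568125f50091f04663012b6c007800421fc04325002800491d812da900162043b1c119910031f040174001880012204106c108b4001820043781022b00921045748047f60093f04858c1134900142041a1c10cfb009bf021b3012a000031f040444005c400921048e74128c5001620451c41204d0026201b5441239d00122040778104aa001800162b411bd900902019b8007fe50030301e7dc0705b001800446fc11d400031f044258036e3001e30495d412859007bf025db01288000181023b78122e9001220400381004a00122002a40100d90016204202410f710031f0499c81013f007e101db6c090be0031f0411e4007420031f041b20001f50030201647004934001e1046710125780016104636412520001a201f5ac0a3ec0016201ca50098ce00162008290106b20002304144810a620016200c1dc10ca8001400402b0101f1)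
noncomputable def Tp223 : Nat := (nat_lit 0xfff04af000532d00fe004967c12cc000cff04a9fc1158900c1f04667412ad900de2015a340469600160044a9411e420016201d378125b700183045f94118150018202a6d00cccc001a304897c12595001a20488b81223b00c01025e540a5c700003048a5412cf8001c201e8b41276e001820415c010b0d0095f04b77410f5f00023040598103b600902047f401198c00102040010100240090004ac7412db100162046640125db0031f040054002a8001610422d0108ca0018204153410ace0016200bcbc10c4d0093f04555011f0d00142045bec1234c009bf02065c12bea0031f040be4009c40093f015e0412d6b0016204813012bd000263048e7412cb1001220412b8109b400182046f70127f700182042614111b800300040db002bfd00023041318109dd0031f00eef410e7c001220410f0108e7007a201f76c0976c0002304173010bbb00122040410102d60012200460010259001800469dc126d30031f04685c1035a001a00435a4115cc0031f04253800c3b0031f042dcc0035e001830432680493f0031f0460f0037e300162046364125280018201694811c7300182014478118be00162043508117720016200716410512001820125cc06973001420407d4104e3)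
noncomputable def Tp224 : Nat := (nat_lit 0xfff04bbdc037870018004967812e0d0016204182810c0e00c1f047cf0125ec0018201e48c1271100b7f047908114ce001a204a41412e9200102043690117e400b5f02a6f812c3b006a004a7cc1225f0016204529812080001e201f3e012865001600430940495c001c20283000c511001a2042c3c113fd0095f04934411a5e001220401d0101650091f04a58812b6b00140040620103f60092104990c12e440018204464c11d090031f0011b810002001630441bc1109000182042b3c113ad00162045748121e70002300f4dc1111d00142003db0101b8009a2021b30081970031f040440010420093f048e7c07a1f001620456bc121c900023045718121df001c304a17c129640018201641411bfa001820474e81292600301005cdc1036c0018304750c11dcc0031f04649811095001420420f810fbb00160045fcc1244a001a00409b0104b200122041a5810d120012204167410b5e001620124ac115a60031f043cc01074e001a20435a4115cc0031f044544014310031f04169c005c3001c200c0f010c9a0031f013e5010ef0002df0494a010c640018201f5bc0a3ee0018201ca6c098d400003044ab811e4d00162040840105110016200c40410cbc001e30426e802f04)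
noncomputable def Tp225 : Nat := (nat_lit 0xfff04ba400532f001620419dc10ce40016204303c1158900c0104667411f3c00182015abc11ac800b7f044a8c11b38001a304ba4812ea200102045f941243900b430484400a9be006a002d07c0cb4a00023045dfc123d0001e2028dcc0c783001a20430940495c0031f04a17c05e77001a2044ff011fc30095f0461a0126bc00122040598103b700901047f3c1296200102040204101840093f047df412e430000304478011d6b0031f04005c00296001220441bc11bae001820435e0117ae0093f04888c121e7001820424b81111c0014204119810938001a2019e781222b0031f040aac01a6c0093f01b5481276c008a104af4012ca2008ff00a6f812cb2001c304a5901285e0018201ef80128140018304a49811d3b0031f04ac4c09e590018304773011d420031f0439f411bdf00142043ef011add00162045fcc1244a001c20409b0104b200122045c881237c0023f0447ec1148e001a3045698118d60031f041f9410e32001a3019d10120d70031f0472f4020870031f042dd0009c2001c20124fc116630031f0467101183b002df046364115f700182016aec11c84001a20144c0118ce001810407fc104cd0016204144801c59001620128f406a67000230407dc104e4)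
noncomputable def Tp226 : Nat := (nat_lit 0xfff04a3480751c00122004e98102c100cff047b2810c0f00c0304b89c12edc00180049c4812e54001420100b8112a30002301946c1214d001820460541247900b4102bb700ccd5001a104a8040aa4c00222048f4012081001a201f5801286e001420421a8110060031f04716411e6c006a104b88412b64009410469781186800122040ed8108010000304502811fce00122040620103f60093f04990012b1d001820475ac11d0a0031f0401800046d0016204424011bd8001a304ac48123fd0093f04a95812cb40018304a1f01287e001420444a811c8d001a20488b012ccb0031f004ae41020e0092101e87c06d52008ff00a5b812a3e008ff04878003ffd0031f04028c009d900182046fec12813003bf0407340196d0030302102809e5900162041318109df0030104425410e7d001e2043ef0110b70018200e68410f8f001c204173010bbc001c3048df0129ee0023f042d7811d8a001a2043170115e80031f041d78103a9001a30468e008c5a0031f04a2d8032da0063f0418bc00f89002c0045e300595e0031f0495e0124a2002df049480122110018201f7fc0a481001a201cad0098eb001e20479341177300162042988113020016200c4b810ccd00142004100101f6)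
noncomputable def Tp227 : Nat := (nat_lit 0xfff01fae0125c600120007edc1067500cff044c481158a001430409c0105d400183046b1011ac700b7f04402c0402e00a9f04a5fc1214d0093f047da80265800140006cf4105450002301eb6c127ab00222048204123d0001a2028f880c7d800023042378110ae003010179dc11c5900003043650117d1000030476d8129880018200e31410f4f00162042c501140700142040ff81087e001620467ac126400018204742811d6b0031f0404c40078b001c200e97010fc500681048ff00a0c70092304879c12a560018104a1f01287f00023003db0101b700162043354116be0031f04143800b530016204471811d4c008ff047a0c03f8d008ff04571805dd50031f040778010660072304a050127f7003bf04125002857001a202164412b78001620448f811dcc0018204425411bde00003043ef411ade00180043e4011aad001c2042eec1151e001c0048df4129f0002210447ec10b5e001a10457d4121fb00303040d9c103a900181045b7411efa0031f04845c04cc50063f040a7c019500031f0428c8005a00030201d0a0124a2001610488441222400182016ba811c98001820144f8118d2001e2045dcc11e4d00183044c08115b8001620129c006a9e001420407dc104e5)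
noncomputable def Tp228 : Nat := (nat_lit 0xfe201d47007eb800122007edc1067500cff04867011ec90012204175810bc800181046b1011ac900b7f00eb34112a400a9f04ba8812c5f0093f0491e403b370012200430c10228001a201eb64127aa007e0048f401204a001e2048f1812d72001430440181086f0030302a27812e580093f0401640061f001a3045b78121ad00181043d3c10f600016204502011fcd00780049b401278d0093f04b6c4119eb001a104976c125c90031f040d0000cb1001c1046eb811ae600681049dbc123fc001820425b81118c0016204477011d6a001420406dc1046500162048bec12d360031f042978006b40016204753412935008ff044b4005d4f008ff011e9011e1c0031f0412b8009db0002301ef8012812006df04261801c650018201dfdc126ec00003046e1c127bf001820423301109400143040db8107680031f043f0000cb6001c304547810cca0031f0478a811cc10031f04a8bc10b5e002df041d5c115f5000230427041120a00182044cf011ef900260045c9411e090063f004a841047c0031f0413d40034b0031f0492801257d002df046338122240018201f8cc0a4b50018201cb10098fc001420407fc104f1001a2019bd0081f50014200c5c810cd60014204139010a10)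
noncomputable def Tp229 : Nat := (nat_lit 0x1a202b27412ef800160045b581231300cff04562c12a7d00122042f241153500dff046b24065dc00b610100b803acd0002301d380125b80093f04605411040001c202a7cc0ccf9007c2049eac12e6e0018201356411789001e104b26412d720021f04366c11b420002301e6401272d0093f04048c00a5a0095f045b7811db500182046918126a40091f04acbc12b6a0079f049e3812ad6000030467ac1263e00aa004a3ec12e220031f041c9c014e4001c1049ca0127d50069f04ac481291500182047410128f3001220452341206d001420424d41112400003040860105270031f044bf4003ed001420479a812a30008ff01022c11dd5008e1017754047a40031f0426d0010690073f04ad4412812006df0446e402cb60031f021644126ec001620448fc11dcd00122040224101930012204051c1036e0031f046b840078f001c3045ac01211d0031f04a7c0128ba0031f048ba01148d002df0487ec10e40000230097a01085600182047be812aa4001620050b8102e30063f04255000b420031f0408040059f003010464c4124a0002df0458301251f00182016c7411cab00162014664118e000183042de0112ad0016201017c112b400142012b3806b13001e304189810a10)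
noncomputable def Tp230 : Nat := (nat_lit 0xae304bbe012e8f00122043388116d100cff04bb3c0468e00c0204bb7012c5b00dff015abc1159a001020401a81014a001a20496e012e1d0093f045f9411b73001c202a8f012ee100003049ed812e72007ff0488b8123da00142002ec0100f80021f044050117dc001c2049cb412e580093f040c6c011290095f04a620123220002301d554125ea00903047f3412b2f00783047cd81278e004a30467ac1263c00aa1049844128fa0031f041dac0219100023009154107d400681048ff412915006ff04a3cc1204800183044440111180014304723412887001c3042a44111400031f047aa40024a0014004027c101d1008e101753c0408b00162044b2011e730031f0447d801aa70073f047ebc11bf9006df0474ec0440e0031f01dfdc12b7800161040798104b100122041048108a700122041db010e630031f04999400cb5001a204474c11d6100300048df4128ba0031f045abc1206e002df0457a0118d6001a204215810fe700023043380116cc0002304004c100540063f044558006aa0031f0402c0009860031f0491fc1257e002c10463381160c0018201f9c00a4f80016201ccdc09984001ff00c6041208e0016201793c081fc0014200c5d010cd7001ff04138c106af)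
noncomputable def Tp231 : Nat := (nat_lit 0xfff04ba3c09b6b00162045b581231300cff04a9e802e6400162049cbc12e5900dff011b3c11ac8001020058ec10382001a304b87412c5f0093f049ec010da4001a2021cec12c0f00182046de8127b4007e3045e241222e00142040ae0106640020104366c110140022304b9600c53a0093f041ba801bd70095f0476d812d3d001a201d554125eb001620464c01257b00162041ec410ed60093f0491d81263c001420466f0126110031f0439880345c00142041f5010f150068204a0ec123fd006e00474101204800181044440111190002300653c10475001c1042a40111410031f0485d4001510014204027c101d1000230241f812d38001620479d012a350031f04761802a200073f044fa012811006df04a498062a100302021644077f7001a10427841122d0012104425011b9500122043990119090031f04681c014ea007e3042ee8112300031f04a7b802c4f00301045234116af002c3045698115e8001a004482811b0f0016200c65410cdf00102040004100120063f0430e4003e80031f04080000fe8003030464c41247f002df041b0c12432001a2016d6811cd600182014684118e1001ff0452c810cdc001c2010258112e300142012b4406b16001ff040bac10a0e)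
noncomputable def Tp232 : Nat := (nat_lit 0xfff04bbe00c06d00162048c5c12d3b00cff047b1c0468d00cff049cbc0066900dff049c481159b00003041e5410ea900a9f04ba4812e1d0093f047d40117e40002302a8f412ee200182049ed412e71007ff0488bc123d9001420432e01168c00162009b90108dc0094102988c0c53b0093f04364c02be100941048c8811db6001a20497a812e260016004960412e0300163043b58107b90093f0467a41181300abf01fc1c126100031f04642004edc0068304996812727006800492b412d79001e204463410d3e002210476301127e0016200653c104760002304194810c890031f045598002490014204074c1049b001620433001169b00162040ab8106490031f04a5900407c00720046fe4113e8006df0474e81208f0018201e52c12716001a204763811dce0012304425011b94001ff047014119090031f049998021920018204172c10bba0031f048df001c2100003042d841148f001a20457a4121fc00162009190103e400162043380116cd0010204004c100550063f041884006ab0031f0413d0019e500182043a0811931002df045f6c10d57001a201facc0a53c0018201ccf80998b001ff042de0116ca001c2017a2c082490016200c64410cdd001e104138c102eb)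
noncomputable def Tp233 : Nat := (nat_lit 0xfe202b2740c06d00003043388116d000cff04a9ec065d200cff046bc800ad500dff04b95007e4a001200058ec1038200a9f04a414125b80093f04978c1243800b9f02a8f012c0f001820177e411e40007e1045e241222f0018201a84c122c30018304237010c9e001a201e96c127780093f045f4410b0e0016204339c116de001a201d574125f90093f04b80c11fd0001630466dc125fc0093f04604804f4400abf01d654128f90031f04953c117ed00683049c9c126590099f025928124ae0093f040ba400206002210481b812967001620411d41094d0016304322010d470031f042fbc003ec00142042644111cb00162048b4012d200016204192810c760031f04a178112c4001c304630811bf8006c0018a8411d3a0002300e8bc10faf001a204773811d8e00183046f78127c6001e30442d8119090031f046acc014e3007ff0475841211d0031f045c880115b0012204167810b600016200944010818001bf04483011a1800162045b301230e00102040150101140063f040a6000b450031f0428c001ec7000030464d01257f002df0461181178c001a2016e6411cfd00182014688118e3001ff048c20112ad001620103ac1132600162012be406b4500122001d2410051)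
noncomputable def Tp234 : Nat := (nat_lit 0x1a2017b4011ec500122045b401231200cff04bb3808aa300cff043f3c011f500dff049c440842100122041e5410eaa00a9f047464074de00102041bcc10d9f00b9f021cec12ee10000304797012a1e007e3024f3012ccf008e004560c120430031f0085d410c9e001a20283c00c5420093f043650113fc00023043928118de001a104b89812e34000030495f012e02001a3043b5c10ff10093f013d0c1181400aa101fc1c075950031f046c70124450002300e1dc10f3b0098301c39c0964a0093f04138c003790022004a5441206e0016204454011cbc0018204194410c880031f0417d4006b200142047550129340018204499011e00001620458401222a0031f04716011e6d0073f04479c12518001c2018a841208f0037f027898127160031f040af4019e60014204416411b90001e2049540126130031f043e4002193007ff045ac01294a0031f048df400a7800122042d84114900002300449410239001a1043cbc1120c00183048c3812aa400161040b8c102fe0063f041880006ad0031f041b0c0303c00182043a0c11933002df016578123dc001a201fbec0a5830018201ccfc0998c001ff045b2011e4e00162017bc0082b30002300f64011136001e304280c10c21)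
noncomputable def Tp235 : Nat := (nat_lit 0x1a2020a5c12a7800a9f04194012d3900cff04bbd00b0da00cff04212401d0e001a20478a41289b00122043aa41196300a9f016ea4125b7001000490e012d9800b8202a8f00873b00003044acc11e54001620455401215e008e304b1f012c820031f0423700343500182046e20127c00093f047f0c117d2001a2043928118df001a2046670125e90093f04b8080231b0091f0466a41260d00923013d1004f430018201d5c41260100303045fb811b1c001c2043cec11a280018201bb60124060093f040bac005f1002200481b812951001630472f0128860018204351c117780031f0409fc00b500016204a4d011d5400182047804129d0001e20432f81169800303044b1011c580073f04630c11d72006c2018a8411d3a0036201e52c09e260031f0419ac0290b0030004a018127c4001e204984c125500031f046ab40345e007e1047584116b00031f04a2e80115a0012204523c1206f0016304273010b0a001a30499cc1297600023041fc810f480012204044c102fc0063f0430d800b480031f04355c10c9a001820464d012580002df04aec807c4400182016e6811d010018201470c118f3001e3044ab4116c8001620103b41132a001c301adf005afc001e2012c7003feb)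
noncomputable def Tp236 : Nat := (nat_lit 0x22202098412a6600a9f048c4810c8700ce302b0ac0b0da00cff0096f4105d4006c20478a408421001a20222d012c4500a8201d37805ba90093f04665c12d98001a2020f7812afd001620428a4112b20018204858012c67003bf044414111040031f009b9010d9b00023046d0c127800093f04ad9012426001a20463781253000c1f0454b412e250093f0495f0036970091f0466e8125fc00023013c9c1181000182026f080c0b40091f045fbc1260f0018201c06012459001820252e00ba8a0093f041ac000a0d0031f04a54410cc9001610472f0128880018200a01c109450031f0417d0012b4001400428e0112c100003047808129d1001e2048b3812d1f0030304a17412d080072204479c118c3006c2021b740ad2f001a20188d0120410031f043330109b80031f015c981280500023040f08108120031f043e3c04ee1007ff023b7812b4a0031f04a32c01c20000030416a810b7600163044eb811dab001220410081088f00162041fc810f4900142041b2810d580063f041aa0012a70031f045e300493f0031f04a5c012580002df048060079350018201fbf00a5840018201cd94099a900142042898112ad00162017bc8082b50014200c70410ce90014200801c1068c)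
noncomputable def Tp237 : Nat := (nat_lit 0x23020a5c12a7700a9f045b401163a001c204829012bfc00cff0409c0017a800dff01e48c11e290002304794412a12001420405241037d0093f0490d4125e2001a202a9040cd5800162044acc11e550093f04554002a7e003bf00f40011c6b0031f044050108dd0033f049f00127800093f04b88412d93001a104b7e012df7000030454b41212e0093f0464c00231c0091f0466dc10ee5001820460401246e0018201d5e8126070091f01d64812448003c3049a00124590018201bb741240b0093f0434f8010b400023043324116ae001420424d81112600180048f30128a60031f042fb801e3200023045d1c123a10018004499411687001020010cc1000d0031f04a17008eea007220492141295a0016204148810a87001e202109012b270031f045ac8111fd0031f046fa0079a7002df045038108120031f00e684117f0007e20212b808ede0031f04735402c4d00122040980105a9002df0476ac10f88002220410081070a00162043d2011a39001420401fc1017e0063f0434c001e1f0031f0165781166300301049c7812580002df0187ec12416001a2016ea411d190018201471c118fa001e3022be0080d8001c20103ec1133300142012cfc06b960014200c86c04bbe)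
noncomputable def Tp238 : Nat := (nat_lit 0xce1047b241158b00a9f0433881225a00023002a68100db00cff04175800e7a00de202108407923001a20222d412c46001420090001078f0093f04665412d99001a202100c12b100016204795012a150093f04857810a7e003a304441003d000031f0421bc110ae00322046e20127800092104b74012d930095f046ac012df800c1f0497a41212e0093f0495ec036980091f043b8c119b9001820460501247800182026f400c0bd00901045fbc0759200680049f5412da2001820252fc0ba910093f04463401b200031f0475a8116ae0014204449c11c8b003bf043224018f10031f04559402f55001820473c8128e7001c304a74012d3700102040124101020030101f35c08eea0072204a568124850016004336c1133d001a0045790120400031f0453c011d8e0031f0163b01273a002df042c64103c00002300e68410f8e00003040a44106120031f04459410b3d001220416a810b77002df04487411a9d00221049210127a9007ff048c401269a001420405fc103ed0063f0455b802f3b003020124fc0595e0031f005c681271d002c301e4d4061fb001a201fc380a5940018201cda4099af0018200c3d410cbb001c2017bf8082c200122040118100fc0016300c98c10ca1)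
noncomputable def Tp239 : Nat := (nat_lit 0xcff047b24114d600a810458e810ce20014204036c1026100cff042f24008a00002301d28c125b00099f04b1181276700142041e3c02400009230490d411995001a202a98c0cd77001a201c1401246f0093f04b19c1132f0000304247c111020031f04237811006003200285c40c5510093f01bd8c12dcf0018201588811ab000c1f04667012c540093f047f4010e6100901043b9410ee3001820491d412db00018201d68c126140018204380c1188900182013bf4117fe0016201bbcc1240c0093f0425b802ad30031f044770122e700003042900112d9003bf0419440279f0031f04349c10c66001a2045d1c123a2008ff042ec81126400120040b5010670001a201a908122c7001620475cc12958001e2021b7c11efb001a204579012040002c204412c114f00030201e69c058ec002df00aff4108110031f04912810f8e001020400001000a0031f0473481144a00122042dd8114af002c3043e201121d00223049214127a8007e10468f4123100014204218810ff60063f01198410c5f0016200ba0810c1f0031f046b60024e40018204798c12a2700182016f9c11d2900182014728118fb001820128c411693001820104681133e0016000c7a010cef001a300fa1c04c25)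
noncomputable def Tp240 : Nat := (nat_lit 0xcff04562c120c1001a20458e412259001a304afd012bfc00cff0454d400513000230409c4105d7009800222d41276700142043a8c1195d0093f04367c01123001a202103012b14001a30491bc127340093f04858011ee50031f044408101bd0031f0421a8110af00023017fa811f5e0093f0492f0095500095f0494c40562200c000484b81199c0093f0450240369800003041ef010ee40018104b6c012dae00182026ff80c0e70091f043b70124f30018204916012da1001620253580baa30093f0446300416e00300045ab8111dc00003044ba411e97003bf04322003d100031f00cb1c115fe0016200bc3010c43008ff0478041150c00142004df8102bf001a2023ef80b5ec00723049fa012958001e202a4dc0ad31001e30486e0125610031f0477381104b0018004213010fd1002c0040f0002bfd0031f045fcc11aac0010204002c100400031f04459012015001210481bc1208c000230457a4121fa0031f0412d801656007ff048c3c1269c00142043fdc11b230062300bcec0466100162011ad8115980031f043edc03923001e204378c118510018201fd580a5e90018201cdb0099b1001620116e01153800182017ca4082f000122040b141067d0014200811c1069b)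
noncomputable def Tp241 : Nat := (nat_lit 0xce10453581158b00a9f04b4ec12ce9001a304aff012bf300cff0484f0002fa001420409c4105d800c1f04a84812c4500162046704125a70093f045f8401bcf001a202a9a80cd7f001620428a0112b00093f01955012a920031f04247c1029e003000423781086a00023010628113820093f01c54012d920095f01ccfc11ab100c1f04b8cc126a40093f042c540231c00142040e58107bb0093f0491d4034a1001a2025ae012dbd0091f046224119ad0069f049fc812da10016201bbd01240d0093f04741005f8c0093f042d7801b2600162042928112e8003bf04351c0320500302043198032c7001620456fc121d9008ff04a7401210200142040b5010670001a201a914122c80073f04a560125d40020302a4dc0ad13000230199b0121bb0031f0448fc11b860018204213010fd10031f041da40173700300043e38117f3001020403b01029000303045128111640031f04097c009c1002c1043900115e80031f04078400eb3007e30468f81230f0002304217410ff00002300ed201104e0000304565c121ab0031f00e8fc10f6e002630492ec1251e001a0016fc411cea0016201473c1190000162005088102e000160010598113500014200c7a010cef0014200c9ec04c43)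
noncomputable def Tp242 : Nat := (nat_lit 0x1a2044c3c11ec300a82048c5c12ce9001e20425641115c00cff04b16c005120014204175c10bca001220496b012e1600182045460121060093f0490d402bd4001a202103812b1b00bdf04b6b412a1400921047b9406554003030411641029e0000304401c11b34001a2044e0811f440092102554007150009410158880733f00c010497e4126a40093f0415cc015e300142041ef010ee50093f04b6c0021c10018202556812d9400901043b701188900680049160127f20016202535c0baa50093f04812011f230093f04523401a2e00162044ba411e98003bf045de004ba100303024c5c12cc5009220456fc1117e008ff04b4dc12c2d00142041a5410d11001a2023f080b5ef007200475cc125d400182018ab012098001a20486ec1165c0031f049efc109df0016201bb10123ee0031f040db0103c00016204207c10f8d00102040a44106130031f00f778114490031f0416a0100ac00122040d90107590031f040290008c500023043d3411a3f00160040fa81085a0018200ed201104f00162040a4c106150030100e48c03a3f001220428bc112be00182016fc411cea0016201cdd0099bd00160041a8010cd9001620105981135000162012dc806bd6001420081f0106a2)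
noncomputable def Tp243 : Nat := (nat_lit 0x1820429b81131400cff047af40238600182040400102cd00cff04bb700089e001420454d81213d00b7f04a84812e1600182048418115180093f046654042d0001a202a9ac0cd8000bc30491b412a1400303047b641176c0093f0406f400b08008df0486dc12770001a0047d7812ae1001a201c01c1244f001a10196cc119a5001e20497d412e2b0093f042c5000d5300142043b90119b80093f04b6b810711002420443500710c00142043b74119ae001630436d81071000182018f48120e30093f01890812ac90093f045abc0297100162047a5c12a4d003bf048f3006c0b00301048e9012cc600162048e84121da008e0048bf812c2d00003041a5410d10001e201a928122cb0073f014d041295600182021ba40ad3c00023045974122820031f046e1c1123e0099f046bd4123ee0031f00aff41076800162046aa8126fd0010204184810c1800301042cf403dde0031f042dd8101f500122041d6810e430031f00262c10084001a2043d3411a40001220405ec103e60018204413811b8b0016000c19410c1e00023043bfc119da0012204799812a2e001a201fd800a5f3001820147e81190700003045b181230400162017e08083530014000c89010d070014200cb2404cad)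
noncomputable def Tp244 : Nat := (nat_lit 0x182047b3412a7600cff0458e40373000182041a2810cff00cff04ab6000e76001430484f412c4400b620496b012a1200003043a941195e0093f0497840613700b8304ba6412ee300bdf04794812d9d001a204459011cd10093f040a7801248008c3046ccc121b7001a2047d7812ae10002301843011fb300c1f04b8c409fa900c01049b0012e2b0093f045020015e20091f04ab541260b0002300870c10711000030470f01284600901049908126040069f04a14c124670018204839012c1e0093f04a94c120470093f04332403f920000304326411656003bf04a298123520030204a66812cc70093f016e2012d6c008ff04b48012d38001420434401171f001e2023f140b5f10073f0475c011989001a2018b38120ad001a20418d410c5b003030441301123e00023046bd4127320031f040db801beb00142040344102470018104306010c28001c10445f811cd40031f0452bc104e30016204192c10c7e0031f04062800fed001a20468fc1269d00142040fa81085a00003041044108a50016200c19410c1e0016200e00810efe001a3048f6c12a2e00182016fcc11d2a0018201ceb0099fc001620484fc116c600182010644113850014200c89010d07001420082f0106b9)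
noncomputable def Tp245 : Nat := (nat_lit 0x1a204a9d811ecd00cff048964052a4001820445601170100cff047cf0017a30002304037c1026d00c1f0222d0125ac00142041e4010ea40093f04b88c072a900b810328580cd8500bdf04911012a1300003045d58123ae0093f04116401d86008c104a06012c9b001a304ab8412b80001020408f41056400c010497e009fa900003043d9011a610093f047f340231a00901047cd81260b0093f0491b8021c30024304b650128480091f04978c126500068104713c1246700b0302c21412d8800923047a80120470093f045ab8112430018204195c10c98003a104729c123520031f04b310129c80093f048e8811cf2008e30241f812d20000230129041169900162007cfc106650073f044794125d5001a2021c500ad69001a2045794121f90031f01708812af80099f01babc127320031f041db001b6200142040920105810000304564c121a8001c3016e2411cd30031f048230102e9001620458781223d0031f04100c019eb001a1049a74126970016204217410ff1001420406481041000183043a501190b00162043bfc119dc002df0436681178b0018201fd840a5f40018201486811917001c00175641169200182017ed40838a00142012f2c06c420014200cc9804d2c)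
noncomputable def Tp246 : Nat := (nat_lit 0x1820429a810b3400cff04b3a41195600122040bb4106b300cff044df4025b800c1f002044100df00c1f04658c0643700142043a94119600093f04b8b4098e40018202106812b2100bc30479481244400122042a94113630093f04247802e58008c304a06412c9a001a20216cc12b80001220415901023d00c1f027ea012e320012204200c10f630093f04acbc0369500903049e3812e380093f046040034a4001a2009c50108f8009030467d0125e3001e204713c1285200b1f00cf1c12c1e001a204811c12bce001a200fe5411243001810472dc1227e0018201b02c1235200300048874129c80093f045d1c128e7008e1048bf812d20001a2045a64122cf001a001a93c122ca00722046624111e500162018b48120b0001a00124ac115a60031f04837807f9a0099f01e670123ef0031f043990010dd00142042cb41142a0016204185010c1b00003047a2412a410031f0481bc1010b00003044ee811f7f0031f04224802910007ff002f841269600162043fc011b1c00142041044108a600181043a501190d0016204676812630002df048f6c107520018201706411d3e0018201cf3809a160025f045a4812304001620106781138b0016200c96010d1400142008338106c0)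
noncomputable def Tp247 : Nat := (nat_lit 0xfff0450d00108400cff048c5c1259c001220435101177500cff042ae403a5f00c1f0409b400d8c00c1f043aa40454600142046578125a80093f026eac12df000bbf04a54812b2100bc3049ce412a150018304a2cc12acb0093f0444100467d001a201643c11bff001820421fc110290093f0400dc0029400c03026eb409fa800122043d9011a630093f047e30051f0001420466e81260c0093f013c9c10dc4001a204435411c3b0091f044e2c1264e001e1049f8c1285200b1f04839004e0c0093f047a7412bce0093f04477003f95001830472dc1227d00182040b1c1067f0018104887012a93009220473c81174700182048bf812d37001a3048b3c1171f001620432e411690000230119801156b00162021c600ad6d001a2045974122830031f018dac1292d0098301babc0799c0031f04642400a280014204160010b1e008bf04387c10614001a1047a28129cd001220031001010a00182042b6c113b90031f0440ec109c1007ff0468e4013a3001400406801042a001420422941105800182040dbc1076d001c300e904109bb002df04a8b810e3b0018201fe280a61d0018201486c119180025f045b1810cbb00162017f08083960016201305806c9b0014200ccf804d4e)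
noncomputable def Tp248 : Nat := (nat_lit 0xfff042cd01021300cff04b83412d3c0014204139c10a1500cff00ab7010fc900c1f0417340163700c1f041e5402d8b0002300dd1c10ead0092304ad8409bab00ba00210681295200bdf04a87812738001c304ab2c128c90093f00f4001158400180046e6411c00007820421fc043250093f04033800469001a20162f411be000122046984126c00095f044f0c05915009010466a4119ba0092100d29004f27001a204a11c12de50091f0467cc11a2a0068002593c0a1b800b1f018f48117bf0092204811c11e9d0093f0472000297300162005168102f500102001c68100470031f01769012a930002304074c1049a008e2048bf812c2d001e1048de812d1f0018201a93c122ca001a20455ac1217a001620110e0114cb002df045794122830030301fe680636b001c201e6f0127430031f0495400060100140047fc012b7b008bf041d0c10c1c0031f04a734113340012004042c102e700182044ee811f800031f046db81120c007ff043d2001faa001620406801042a00183046e2c11b93001c30439a41190c001c30498c011ad7002df047998118cd001a201709811d410018201cf3c09a170025f0484fc030f50018201076c113a00016200c98410d18001420084f0106e6)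
noncomputable def Tp249 : Nat := (nat_lit 0xfff0429a81051800ce004967812d3c00141045dd411e2c00ce100e97c02adc00c1f042ef40239600c1f040e0801cfa00162043ab41196800202025b4012dc400ba20210681295200bc104796c1273800162040b94106a70093f04865005a4f001a2046e6411c000016200ec4c110250093f0408f40078600023040c40106df0002300e3b410f530095f042b8403c0700162043e4411ab400023013d201181b00162044fd411fbc0091f0151f41264d001810258e40bbc700b03013830063d20093f040a08109770093f04a1f001a3000182008310106bd001020403f4102c40031f047b9811df30014204126810990001a204840c12c2e0012204863c12c80001a2023f280b5f8001a30485e808a7600162018b64120b2002df045974121f900023047d8812afb00162013724117a30031f04984c00a270014204090c10577008a1041850107430031f047a2811eea0031f04523c102e700182047dfc12b230031f049ea011d9a007ff041fc803194001620410b4108d40000304251c11143001c00486ac125580031f043ed403924002df044af81251e001a201fe740a634001620149781192e0025f0454e004a3100182018058083f10016201308806cad0014200cf8004e29)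
noncomputable def Tp250 : Nat := (nat_lit 0xfff04145810a6e00003048c6012d3c0031f042854101c300920047cec11aca00c1f0454800374600c1f0058ec105ce00182042ed4115130012204200810f6100ba202a9d00cd860016204212c10fd400162041aa010d300093f04b20807d6d008c204b3e0127c90079f04ae001278b0093f04159000ca9001a1049020127fc00182043d4c11a510095f00ad4c110be00183046ad01256d0000304602412462001e20438bc118c1009000467cc0547d0018200a91c10a65001420403f8102c90093f044670105f90093f04a1fc01b060018204353c11780001800433cc116e00031f044cc0129c6000230445f411cf1001220400f8100e30030204889812cc9001a201a97c122cc0072204ab4812c7600162021c7c0ad75002c20457941165d001c10168f0111230016201baa4123ec0031f0466f8010dc00142042c781058000023001a3c1004100303044cd011e8a0031f042d841010a0002300daa010e680031f04921412976007ff00923010cde00003040cf8107250014200638c10452001c2046440125570031f046b5c05560002df0492ec11e65001a201717411d500016201d07009a620025f0116e0116930018001090c113da00122040114100fa0014200858c106ec)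
noncomputable def Tp251 : Nat := (nat_lit 0xfff044c501021200fff04577812d3a0031f044a301047d00cff047cec03a6000c1f04847c052cd00c020073e80163b0018204844412c3c00122043d8811a60001a202108012b2200162046be8127380031f047c9c106a80093f04b1f012871008c304b3e412e770078304ab841278b0093f0408e0014d700122040c40106e200183049b00126b10095f044fa801b750031f046ad40345d0018204602412463001a10460ac118c10091f049a0809c83001820102a81130600023042e8c114f400003042fc8115670093f047208010a300182045e10123d100102002fb4100fb003010477cc11330001620473c4111ca001220409e8105d20018201ac6c12300001a2023f800b610000230075a0105f200182018ba0120bf002c0049584121f8001a204448c11c8600023013774117a50031f04984801b5f0014204506411fe3008bf001248121a8001c104782c129cb0031f041678102e6001c20439a01190e0031f0499cc11820007ff045b30016e30010204005c1005f001400411c810915001c20486ac125580031f0498c003934002df04614412a2d001a201ff580a66c001800149dc113eb002420128c4045b80016200adb810af10018000cae410cd80014200d06c04e7d)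
noncomputable def Tp252 : Nat := (nat_lit 0xfff047b3410515001c3043ac81173b0031f0478b01095500cff046b280570d00c1f04b110074a2000030479fc12a3c001a204a41812e930095f04619c126be001a202a9e40cd8a00920043f4c110430031f0472ec102e50092304861812871008c104b3e412e780078102a9000c5850093f041594103180012204360c117b900003046940126af0095f042bf4010ea0031f043e4404edf0018204918812daa001e30464d4124950090201da4c09c830018200bfdc10c8c000030433e0116f70093f042fc4101cb0093f04447001b05001620065201047400102040b10100fd0093f0477cc046210016004259011178001420417481027a00183048c0012d2e001c20475181292f001820417c810beb00182021cc40ad8a002df0188d012b27001a1041190104980002301baac123ed0031f04715402b2f00162005d80103c7008bf04564c002ad001c104821012a980031f040964106ab001c104ac8c125540030304686411820007ff048c3800dfa001020404c01033d001420411c810915001c004154c036ad0031f046768024ee002c1047994118510018201723811d65001a20149dc113eb00182043a74119550016201090c113da00122040b0010672001420085a4106ed)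
noncomputable def Tp253 : Nat := (nat_lit 0xfff04a9d810a6900162041e6410eb10031f045dd41115800ce3015ac40570d00c1f0484f4125b0001a2044b3c11e7e00b2304ba4c12c3c0094304697c11867001e20210e412b2900bc204a7f812e720031f04a2cc106a7001a20196d812186001810470741229a001c201eb10127970093f042bfc106f200122045ee81240a00c1f043ac0126af0095f044fa400a320031f046ad0117ef0002304222011032001a204214410fe1001a2047e2412b2d00181044c181163f00142041a1010cf70093f04559c1048d0093f0424b802aad001620425281114d001020419ec10ce80093f0176901154f0016204259011178001420417a410bdd008ff044a0412d2e0018201aa10122d500183042fac0465a00182018bdc120c5002df0210901204100323021f301292c0099f01e6f0123ec0031f04a164041ed001830415dc10823008bf04306800491001c304821012a9700301040b9810259006ff003dcc12b240018204372411820007ff04aa90016e000102040cf8107260014204251811142001c204154c036ad0031f043bfc039350018004799412a260018201fffc0a687001a201d0c809a7400162040a901063900182018234084670014200cae410cd80014200d09404e8b)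
noncomputable def Tp254 : Nat := (nat_lit 0xce30429a410b9000162043ac811971001800445601170100182042cc41142f00c0301d28c1213d001a20479fc12a3d00a9f04a418052f90095f0033d0126bf001e202aa500cd9d00bc204b9c8129fe0031f04ab2c10d2f0092204a1c412e870000304431811c1c001c202853c0c5a10093f044fb410d9e000230410c8108d800c1f0469381196d0095f04479c006070031f0495b41244900181049d48127db001a1047ef01274b00162043c30119ea0026301c7d012260001420433e0116f80093f0452ac114420093f0444740413c001620472e0128a9001820433cc116e00092301188405da4001620445f011cf00016004555412127008ff048bd411e21000230475181292e0018104558c1156a00182021d140ad9c002c20188d0084240033f04a20c12af90099f01baa4127430031f0495d4113a80018104506411ab9008bf04184c007c800023042a081133500023045d90123bc006ff047e000192c006bf049b8812489007ff047be80248800102041c9410df50014204114c10916001c20439a8119110031f00e00810f75002df00d48c12a2700023006808104c10016300e48010e8e00162043188115ee00162010a24113e50018201325806d3e00183041dd404ee7)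
noncomputable def Tp255 : Nat := (nat_lit 0xfff047b0c10b90001c2045cec123920031f04351011701001820450c011ff600162046be412736001a204a8f012ec500a9f04ba4c119690095f046980015500018202782812e4c00bc104b9b812eb90031f04a3241175600b2304ba1c12d0d0016204431811c1f00023048ae412d120093f010aa8117e0001c1046fd81240a0016200dd2c10eb00095f04630c00a31003000464841244900181049f6c127530002304214410fdf0091f0152541263f005c202a3140bbe500142045bdc123470093f0482201200b0093f00f4dc113490018204567c121b900182045bd81234600102040020100390016204754c128e60016204555412127008ff045ae8129ed001a0047514123e90018204558c1217300162040d5c10749001a20188481203200321047d7c128830098201e6f006ea90031f0464b411f740016200954010823008bf040a4400d15001e2042a0811336000230133501175f006ff044ee8027f5006a0046a2012489007ff045b740389f000230404dc10348001420443f411c64001c10486b0119110030100e4d403802002df04798c04ff7001c3029a440a41e00182026a100779a00161040a8c1052800162018374084cf0016200cc9c10d4d001c3013b9c04922)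
noncomputable def T : Tr := (Tr.node (Tr.node (Tr.node (Tr.node (Tr.node (Tr.node (Tr.node (Tr.node (Tr.leaf Tp0) (Tr.leaf Tp128)) (Tr.node (Tr.leaf Tp64) (Tr.leaf Tp192))) (Tr.node (Tr.node (Tr.leaf Tp32) (Tr.leaf Tp160)) (Tr.node (Tr.leaf Tp96) (Tr.leaf Tp224)))) (Tr.node (Tr.node (Tr.node (Tr.leaf Tp16) (Tr.leaf Tp144)) (Tr.node (Tr.leaf Tp80) (Tr.leaf Tp208))) (Tr.node (Tr.node (Tr.leaf Tp48) (Tr.leaf Tp176)) (Tr.node (Tr.leaf Tp112) (Tr.leaf Tp240))))) (Tr.node (Tr.node (Tr.node (Tr.node (Tr.leaf Tp8) (Tr.leaf Tp136)) (Tr.node (Tr.leaf Tp72) (Tr.leaf Tp200))) (Tr.node (Tr.node (Tr.leaf Tp40) (Tr.leaf Tp168)) (Tr.node (Tr.leaf Tp104) (Tr.leaf Tp232)))) (Tr.node (Tr.node (Tr.node (Tr.leaf Tp24) (Tr.leaf Tp152)) (Tr.node (Tr.leaf Tp88) (Tr.leaf Tp216))) (Tr.node (Tr.node (Tr.leaf Tp56) (Tr.leaf Tp184)) (Tr.node (Tr.leaf Tp120) (Tr.leaf Tp248)))))) (Tr.node (Tr.node (Tr.node (Tr.node (Tr.node (Tr.leaf Tp4) (Tr.leaf Tp132)) (Tr.node (Tr.leaf Tp68) (Tr.leaf Tp196))) (Tr.node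 (Tr.node (Tr.leaf Tp36) (Tr.leaf Tp164)) (Tr.node (Tr.leaf Tp100) (Tr.leaf Tp228)))) (Tr.node (Tr.node (Tr.node (Tr.leaf Tp20) (Tr.leaf Tp148)) (Tr.node (Tr.leaf Tp84) (Tr.leaf Tp212))) (Tr.node (Tr.node (Tr.leaf Tp52) (Tr.leaf Tp180)) (Tr.node (Tr.leaf Tp116) (Tr.leaf Tp244))))) (Tr.node (Tr.node (Tr.node (Tr.node (Tr.leaf Tp12) (Tr.leaf Tp140)) (Tr.node (Tr.leaf Tp76) (Tr.leaf Tp204))) (Tr.node (Tr.node (Tr.leaf Tp44) (Tr.leaf Tp172)) (Tr.node (Tr.leaf Tp108) (Tr.leaf Tp236)))) (Tr.node (Tr.node (Tr.node (Tr.leaf Tp28) (Tr.leaf Tp156)) (Tr.node (Tr.leaf Tp92) (Tr.leaf Tp220))) (Tr.node (Tr.node (Tr.leaf Tp60) (Tr.leaf Tp188)) (Tr.node (Tr.leaf Tp124) (Tr.leaf Tp252))))))) (Tr.node (Tr.node (Tr.node (Tr.node (Tr.node (Tr.node (Tr.leaf Tp2) (Tr.leaf Tp130)) (Tr.node (Tr.leaf Tp66) (Tr.leaf Tp194))) (Tr.node (Tr.node (Tr.leaf Tp34) (Tr.leaf Tp162)) (Tr.node (Tr.leaf Tp98) (Tr.leaf Tp226)))) (Tr.node (Tr.node (Tr.node (Tr.leaf Tp18) (Tr.leaf Tp146)) (Tr.node (Tr.leaf Tp82)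 (Tr.leaf Tp210))) (Tr.node (Tr.node (Tr.leaf Tp50) (Tr.leaf Tp178)) (Tr.node (Tr.leaf Tp114) (Tr.leaf Tp242))))) (Tr.node (Tr.node (Tr.node (Tr.node (Tr.leaf Tp10) (Tr.leaf Tp138)) (Tr.node (Tr.leaf Tp74) (Tr.leaf Tp202))) (Tr.node (Tr.node (Tr.leaf Tp42) (Tr.leaf Tp170)) (Tr.node (Tr.leaf Tp106) (Tr.leaf Tp234)))) (Tr.node (Tr.node (Tr.node (Tr.leaf Tp26) (Tr.leaf Tp154)) (Tr.node (Tr.leaf Tp90) (Tr.leaf Tp218))) (Tr.node (Tr.node (Tr.leaf Tp58) (Tr.leaf Tp186)) (Tr.node (Tr.leaf Tp122) (Tr.leaf Tp250)))))) (Tr.node (Tr.node (Tr.node (Tr.node (Tr.node (Tr.leaf Tp6) (Tr.leaf Tp134)) (Tr.node (Tr.leaf Tp70) (Tr.leaf Tp198))) (Tr.node (Tr.node (Tr.leaf Tp38) (Tr.leaf Tp166)) (Tr.node (Tr.leaf Tp102) (Tr.leaf Tp230)))) (Tr.node (Tr.node (Tr.node (Tr.leaf Tp22) (Tr.leaf Tp150)) (Tr.node (Tr.leaf Tp86) (Tr.leaf Tp214))) (Tr.node (Tr.node (Tr.leaf Tp54) (Tr.leaf Tp182)) (Tr.node (Tr.leaf Tp118) (Tr.leaf Tp246))))) (Tr.node (Tr.node (Tr.node (Tr.node (Tr.leaf Tp14) (Tr.leaf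 Tp142)) (Tr.node (Tr.leaf Tp78) (Tr.leaf Tp206))) (Tr.node (Tr.node (Tr.leaf Tp46) (Tr.leaf Tp174)) (Tr.node (Tr.leaf Tp110) (Tr.leaf Tp238)))) (Tr.node (Tr.node (Tr.node (Tr.leaf Tp30) (Tr.leaf Tp158)) (Tr.node (Tr.leaf Tp94) (Tr.leaf Tp222))) (Tr.node (Tr.node (Tr.leaf Tp62) (Tr.leaf Tp190)) (Tr.node (Tr.leaf Tp126) (Tr.leaf Tp254)))))))) (Tr.node (Tr.node (Tr.node (Tr.node (Tr.node (Tr.node (Tr.node (Tr.leaf Tp1) (Tr.leaf Tp129)) (Tr.node (Tr.leaf Tp65) (Tr.leaf Tp193))) (Tr.node (Tr.node (Tr.leaf Tp33) (Tr.leaf Tp161)) (Tr.node (Tr.leaf Tp97) (Tr.leaf Tp225)))) (Tr.node (Tr.node (Tr.node (Tr.leaf Tp17) (Tr.leaf Tp145)) (Tr.node (Tr.leaf Tp81) (Tr.leaf Tp209))) (Tr.node (Tr.node (Tr.leaf Tp49) (Tr.leaf Tp177)) (Tr.node (Tr.leaf Tp113) (Tr.leaf Tp241))))) (Tr.node (Tr.node (Tr.node (Tr.node (Tr.leaf Tp9) (Tr.leaf Tp137)) (Tr.node (Tr.leaf Tp73) (Tr.leaf Tp201))) (Tr.node (Tr.node (Tr.leaf Tp41) (Tr.leaf Tp169)) (Tr.node (Tr.leaf Tp105) (Tr.leaf Tp233)))) (Tr.node (Tr.node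 (Tr.node (Tr.leaf Tp25) (Tr.leaf Tp153)) (Tr.node (Tr.leaf Tp89) (Tr.leaf Tp217))) (Tr.node (Tr.node (Tr.leaf Tp57) (Tr.leaf Tp185)) (Tr.node (Tr.leaf Tp121) (Tr.leaf Tp249)))))) (Tr.node (Tr.node (Tr.node (Tr.node (Tr.node (Tr.leaf Tp5) (Tr.leaf Tp133)) (Tr.node (Tr.leaf Tp69) (Tr.leaf Tp197))) (Tr.node (Tr.node (Tr.leaf Tp37) (Tr.leaf Tp165)) (Tr.node (Tr.leaf Tp101) (Tr.leaf Tp229)))) (Tr.node (Tr.node (Tr.node (Tr.leaf Tp21) (Tr.leaf Tp149)) (Tr.node (Tr.leaf Tp85) (Tr.leaf Tp213))) (Tr.node (Tr.node (Tr.leaf Tp53) (Tr.leaf Tp181)) (Tr.node (Tr.leaf Tp117) (Tr.leaf Tp245))))) (Tr.node (Tr.node (Tr.node (Tr.node (Tr.leaf Tp13) (Tr.leaf Tp141)) (Tr.node (Tr.leaf Tp77) (Tr.leaf Tp205))) (Tr.node (Tr.node (Tr.leaf Tp45) (Tr.leaf Tp173)) (Tr.node (Tr.leaf Tp109) (Tr.leaf Tp237)))) (Tr.node (Tr.node (Tr.node (Tr.leaf Tp29) (Tr.leaf Tp157)) (Tr.node (Tr.leaf Tp93) (Tr.leaf Tp221))) (Tr.node (Tr.node (Tr.leaf Tp61) (Tr.leaf Tp189)) (Tr.node (Tr.leaf Tp125) (Tr.leaf Tp253)))))))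 (Tr.node (Tr.node (Tr.node (Tr.node (Tr.node (Tr.node (Tr.leaf Tp3) (Tr.leaf Tp131)) (Tr.node (Tr.leaf Tp67) (Tr.leaf Tp195))) (Tr.node (Tr.node (Tr.leaf Tp35) (Tr.leaf Tp163)) (Tr.node (Tr.leaf Tp99) (Tr.leaf Tp227)))) (Tr.node (Tr.node (Tr.node (Tr.leaf Tp19) (Tr.leaf Tp147)) (Tr.node (Tr.leaf Tp83) (Tr.leaf Tp211))) (Tr.node (Tr.node (Tr.leaf Tp51) (Tr.leaf Tp179)) (Tr.node (Tr.leaf Tp115) (Tr.leaf Tp243))))) (Tr.node (Tr.node (Tr.node (Tr.node (Tr.leaf Tp11) (Tr.leaf Tp139)) (Tr.node (Tr.leaf Tp75) (Tr.leaf Tp203))) (Tr.node (Tr.node (Tr.leaf Tp43) (Tr.leaf Tp171)) (Tr.node (Tr.leaf Tp107) (Tr.leaf Tp235)))) (Tr.node (Tr.node (Tr.node (Tr.leaf Tp27) (Tr.leaf Tp155)) (Tr.node (Tr.leaf Tp91) (Tr.leaf Tp219))) (Tr.node (Tr.node (Tr.leaf Tp59) (Tr.leaf Tp187)) (Tr.node (Tr.leaf Tp123) (Tr.leaf Tp251)))))) (Tr.node (Tr.node (Tr.node (Tr.node (Tr.node (Tr.leaf Tp7) (Tr.leaf Tp135)) (Tr.node (Tr.leaf Tp71) (Tr.leaf Tp199))) (Tr.node (Tr.node (Tr.leaf Tp39) (Tr.leaf Tp167))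 (Tr.node (Tr.leaf Tp103) (Tr.leaf Tp231)))) (Tr.node (Tr.node (Tr.node (Tr.leaf Tp23) (Tr.leaf Tp151)) (Tr.node (Tr.leaf Tp87) (Tr.leaf Tp215))) (Tr.node (Tr.node (Tr.leaf Tp55) (Tr.leaf Tp183)) (Tr.node (Tr.leaf Tp119) (Tr.leaf Tp247))))) (Tr.node (Tr.node (Tr.node (Tr.node (Tr.leaf Tp15) (Tr.leaf Tp143)) (Tr.node (Tr.leaf Tp79) (Tr.leaf Tp207))) (Tr.node (Tr.node (Tr.leaf Tp47) (Tr.leaf Tp175)) (Tr.node (Tr.leaf Tp111) (Tr.leaf Tp239)))) (Tr.node (Tr.node (Tr.node (Tr.leaf Tp31) (Tr.leaf Tp159)) (Tr.node (Tr.leaf Tp95) (Tr.leaf Tp223))) (Tr.node (Tr.node (Tr.leaf Tp63) (Tr.leaf Tp191)) (Tr.node (Tr.leaf Tp127) (Tr.leaf Tp255)))))))))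
noncomputable def DTp0 : Nat := (nat_lit 0x200000009a3b00002000000122a200001000000120aa00003000000083ec00001000000081900000100000011d130000300000011be30000100000011aaf000010000000756f000020000001189f00003000000117b10000200000006b1b0000200000006763000010000001150a0000100000011439000030000001134300002000000112640000200000011189000030000000590f0000200000010fdd0000300000010f1800002000000051cf0000300000010db80000200000010cfe0000300000010c6700001000000045020000100000010b100000300000010a6000002000000109bb000020000001091b00003000000108670000200000003804000030000001072e000010000000320b0000200000010600000030000001056600003000000029ab000010000001044800001000000103b5000020000000219900001000000102850000300000001ab900001000000017fb000020000001011600003000000100b00000100000000c05000030000000023c)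
noncomputable def DTp1 : Nat := (nat_lit 0x20000001256600002000000122a300002000000120ac0000300000011f66000020000000819c0000300000011d140000100000011be30000300000011ab00000200000007571000020000000724100002000000117b20000200000006b1d0000200000006764000010000001150b000020000001143b000020000001134400003000000112640000200000005b9a00002000000110b0000020000000573d0000100000010f1800001000000051d10000200000010db90000100000010cff0000100000010c69000030000000450300002000000042fc0000200000010a6100003000000109bc000030000001091c000020000001086800003000000107ca0000100000003582000020000001068b0000100000010600000020000001056700002000000104da000020000001044900002000000103b600003000000103220000300000001d7f0000100000001ab90000200000010189000010000001011600001000000100b000002000000100480000100000000285)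
noncomputable def DTp2 : Nat := (nat_lit 0x30000001257a00001000000122a300001000000120ae0000100000011f6600002000000081a70000200000011d160000300000007bb8000030000000788500003000000119ac000030000000724100002000000117b300003000000116c300003000000115eb000020000001150c000030000001143b0000200000005f3c0000100000011265000010000001118a00003000000110b3000020000000573f0000200000010f190000300000010e5f0000200000004f050000300000004ba90000300000010c6a000020000000450500002000000042fe0000200000010a6200001000000109bc000030000001091d000010000001086800003000000107cb000020000001072f00002000000032160000200000010601000030000001056700003000000104da000030000001044a00003000000103b700001000000103220000300000001d840000200000001abb0000300000010189000030000000147600002000000100b1000020000001004900003000000002a8)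
noncomputable def DTp3 : Nat := (nat_lit 0x10000001257b00003000000122a400003000000120b00000300000011f670000200000011e430000300000011d170000100000007bb80000200000011abb00003000000119ae000010000000724200003000000117b30000100000006b2600003000000115ec000030000001150c000030000001143d0000200000005f440000300000011266000020000001118b00003000000110b4000020000000575200002000000054450000100000010e5f0000100000004f070000100000010d000000200000010c6c0000200000010ba800003000000042ff0000300000010a630000200000003f0b000030000001091e0000200000003abd000030000000380f000030000000358500003000000032160000300000010601000030000001056900002000000104db000020000001044b00001000000103b7000030000001032300001000000102860000300000010207000020000001018a000020000001011700003000000100b10000100000000c1700001000000002f5)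
noncomputable def DTp4 : Nat := (nat_lit 0x30000001258300001000000122a5000030000000871d0000100000011f670000300000011e430000100000011d180000200000011be60000200000011abc00001000000119ae00003000000118a100003000000117b400003000000116c4000020000000676c000020000001150d000020000001143e0000100000005f4b0000100000011266000010000001118c00002000000110b5000030000000575200001000000054460000300000010e600000100000010dba0000300000004bb30000200000010c6e0000300000010ba80000200000010b120000200000010a6400002000000109bd000010000001091e00002000000108690000300000003811000030000001073100001000000032170000200000002e540000100000002bc700003000000104dc000010000000272d00002000000024d0000020000001032500002000000102870000200000010208000010000001018a000030000000147700002000000100b2000010000001004a0000300000000304)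
noncomputable def DTp5 : Nat := (nat_lit 0x2000000125840000200000008ee100003000000120b30000200000011f680000200000011e440000300000011d190000100000011be8000030000000788d000030000000757700001000000118a100001000000117b400003000000116c500001000000115ee000010000001150d00001000000061cd0000200000005f4e0000200000011267000030000001118f00001000000110b60000300000010fde00001000000054480000100000010e600000100000004f0d0000100000010d0100003000000047f10000100000010ba90000300000010b120000100000010a6400003000000109bd0000300000003d00000030000001086900003000000107cc000020000000358600001000000032180000200000002e550000200000002bd100003000000104dd000010000000273000002000000024d3000030000001032600002000000102880000100000010208000020000000180b000030000000147a00001000000100b2000020000001004c0000200000000327)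
noncomputable def DTp6 : Nat := (nat_lit 0x20000001258b0000300000008ee200003000000120b40000200000011f690000300000011e450000100000011d190000300000007bc40000200000011abe00001000000119af000020000000725b0000200000006ed800001000000116c7000020000000676e000030000000640500003000000061ce00003000000113450000300000011268000010000001119000002000000110b70000200000010fdf0000300000010f1c00002000000051f00000200000010dbb0000200000004bb700002000000047f50000200000010baa0000200000010b1300002000000040aa00002000000109be0000100000003d01000020000001086a00002000000038120000200000010732000030000001068c0000200000010602000010000001056a00001000000104dd000030000000273400003000000024d6000010000001032600003000000102880000300000010209000020000001018b00002000000101180000300000001072000030000001004d000020000000036a)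
noncomputable def DTp7 : Nat := (nat_lit 0x30000001258b00002000000122a900001000000120b50000300000011f690000100000011e460000200000011d1a0000300000011be900003000000078ac000020000000757a000030000000725c00002000000117b70000300000006b29000030000000676e0000100000006405000030000001143f000010000001134500001000000112680000300000005ba300003000000110b70000300000010fe00000100000010f1d00002000000051fa0000100000010dbb0000300000004bb70000200000010c6f0000200000010bab0000200000010b1400003000000040bf00002000000109bf0000200000010920000010000001086a00003000000107cd0000300000003591000010000001068c00002000000106030000300000002bd300002000000104de000010000000273500001000000024d6000030000001032800003000000102890000100000010209000030000001018b000030000000148200003000000100b3000010000001004d0000200000000394)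
noncomputable def DTp8 : Nat := (nat_lit 0x100000009a7400003000000122a900002000000120b70000100000011f6a0000100000011e470000300000011d1b0000100000011be900002000000078e500001000000119b000001000000118a800003000000117b800003000000116c800002000000115f0000030000001150e00003000000061d00000300000005f520000300000011269000020000001119200003000000110b80000300000010fe10000200000010f1e0000300000010e620000300000010dbc0000100000004bb80000300000010c7100003000000045190000300000010b1400001000000040c300003000000109bf0000200000010921000030000001086b00001000000107cd000010000000359d000020000001068d0000300000002e57000020000001056b00002000000104df000030000001044c00002000000103b900003000000021a70000200000001d87000020000001020a000010000001018c000020000001011900001000000100b3000020000001004e00003000000003a6)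
noncomputable def DTp9 : Nat := (nat_lit 0x3000000125920000300000008eeb00003000000120b80000200000011f6c0000300000011e480000100000011d1b0000100000011bee00002000000078f000002000000119b100003000000118ab00001000000117b80000200000006b2b00003000000115f0000030000001150f00001000000061d00000200000011347000010000001126a000020000001119300001000000110b80000200000010fe20000300000010f1f0000200000010e640000100000010dbd0000300000010d020000100000010c710000100000010bae0000200000010b1500003000000040c500001000000109c00000300000010921000010000001086b00002000000107cf0000300000010733000020000001068e0000200000010606000020000001056c00002000000029bf000020000000274000001000000024e8000020000001032a000010000001028a000020000001020b000030000000180d000010000001011900002000000100b4000010000001005000002000000003d1)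
noncomputable def DTp10 : Nat := (nat_lit 0x2000000125940000100000008eec00003000000120bb00003000000083f700003000000081af0000300000011d1c0000300000007bd900002000000078f100003000000119b800001000000118ab00002000000117ba0000300000006b2c00001000000115f1000030000000640700001000000114410000100000011348000020000001126b000030000001119300002000000110b90000100000010fe20000100000010f1f0000200000010e660000200000010dbe0000100000010d020000200000010c720000200000010bb00000100000010b150000200000010a660000300000003f0d0000100000003d020000200000003acd00001000000107d00000100000010733000030000001068f0000200000010607000020000001056d00002000000104e1000020000000275700001000000103ba000030000001032a0000300000001d88000030000001020c0000300000001812000010000001011a00003000000100b40000200000000c400000200000010000)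
noncomputable def DTp11 : Nat := (nat_lit 0x300000009a8300003000000122ab00002000000120bc00001000000083f70000100000011e490000100000011d1d0000100000011bef00002000000078f400001000000119b800002000000118ac0000200000006edd0000200000006b2e0000200000006776000020000001151000002000000114420000300000005f54000030000001126c000030000001119400002000000110ba0000300000010fe30000100000010f200000300000010e660000100000004f210000300000010d030000300000010c720000200000010bb10000300000010b160000300000010a660000300000003f0e0000100000003d030000100000003acd000030000000382d000020000001073400001000000106900000300000010608000010000001056d00002000000029c2000020000001044d00003000000103bb000020000001032b0000100000001d88000010000001020c000020000001018e000020000000149400001000000100b500003000000100510000300000010000)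
noncomputable def DTp12 : Nat := (nat_lit 0x100000009a8300003000000122ac00003000000120c00000300000011f6d00003000000081d30000300000007f1f0000200000011bf00000300000011ac200002000000119ba00003000000118af0000200000006ef30000200000006b3c000020000000677a000020000001151100002000000114450000200000011349000030000001126d000020000001119500003000000110bb0000200000010fe40000300000010f210000200000010e670000200000010dc00000200000010d0400002000000047f60000300000010bb20000300000010b180000200000010a6700002000000109c10000300000003d060000300000003ad1000010000000382d000010000001073400002000000106910000100000010608000010000001056e00003000000029c2000020000000276300002000000103bc00002000000021a90000200000001d94000030000001020d000030000001018e000030000000149600002000000100b6000010000001005100003000000003de)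
noncomputable def DTp13 : Nat := (nat_lit 0x30000001259c00002000000122af00002000000120c30000300000011f6e00003000000081d80000300000011d1f0000300000011bf4000020000000790900001000000119ba00002000000118b00000200000006ef40000200000006b4100002000000115f3000030000000640c00001000000114460000300000011349000010000001126d000010000001119500002000000110bc0000300000010fe40000100000010f220000100000010e670000300000010dc00000300000004bba0000100000010c740000100000010bb20000100000010b180000100000010a6700002000000109c200002000000109220000200000003ae500002000000107d1000010000001073500001000000106920000200000010609000010000001056f00002000000104e2000030000000276300003000000103bc00003000000021a9000020000001028c000010000001020d0000200000010190000010000000149600002000000100b70000200000000c4d0000200000000433)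
noncomputable def DTp14 : Nat := (nat_lit 0x20000001259f00003000000122b100001000000087390000100000011f6e0000300000011e4b0000200000011d200000100000007bdd0000300000007918000020000000758f00003000000118b00000300000006ef700002000000116cc00003000000115f3000020000001151200002000000061e0000010000001134a000020000001126e000030000001119600001000000110bc0000100000010fe50000200000010f240000200000010e680000100000004f230000200000010d050000200000010c75000030000000451d0000300000010b1900001000000040ce00003000000109c200002000000109230000200000003ae600001000000107d100003000000107360000300000010693000020000001060a0000300000002be100003000000104e3000010000001044e00001000000024ef000020000001032c000030000001028c000020000001020e0000200000010191000030000000149800003000000100b70000300000000c4d0000300000000434)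
noncomputable def DTp15 : Nat := (nat_lit 0x3000000125a000002000000122b3000020000000873b0000100000011f720000100000011e4b0000300000011d210000300000011bf70000100000007918000010000000759200002000000118b10000100000006ef800003000000116cf00001000000115f4000010000001151200003000000061e20000300000005f58000030000001126e000020000001119700003000000110bd0000100000010fe70000300000010f24000010000000520e0000200000010dc10000100000010d050000300000010c76000020000000451e0000100000010b1900003000000040d200003000000109c400003000000109230000300000003aea00002000000107d200003000000107380000100000010693000030000001060a000010000001057000001000000104e3000030000000277000002000000103bd000010000001032c000020000001028d000030000001020f0000300000010191000020000001011c00002000000010770000100000000c4e000030000000043d)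
noncomputable def DTp16 : Nat := (nat_lit 0x1000000125a000003000000122b700001000000120c4000020000000840300001000000081ea0000300000011d230000100000011bf7000020000000791c000010000000759500002000000118b20000200000006ef900001000000116cf00002000000115f6000010000000640f00002000000061e3000020000001134c000010000001126f000030000001119900001000000110bd0000300000010fe80000200000010f270000300000010e690000300000004f260000300000004bbd0000100000010c760000300000010bb30000200000010b1a0000200000010a6800002000000109c50000200000010924000030000001086c00001000000107d200001000000107380000300000010694000010000001060b0000200000002beb00002000000104e4000020000001044f00001000000103bf00002000000021b1000010000001028d000010000001020f0000200000010192000010000001011c00001000000010780000300000000c62000010000000043e)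
noncomputable def DTp17 : Nat := (nat_lit 0x200000009aae00001000000122b700002000000120c8000010000000840600002000000081f40000100000011d240000200000011bf9000020000000792300002000000119bc000020000000728900003000000117be0000100000006b5100003000000115f7000030000001151300002000000061f20000300000005f6a0000100000011270000010000001119a00002000000059150000200000010fe90000300000010f270000200000010e6a0000100000004f2e0000300000010d060000300000010c790000300000010bb40000100000010b1b0000300000010a6900003000000109c60000300000010925000020000001086d000030000000383b000030000001073a00002000000106950000200000002e600000200000002bf500003000000104e5000010000001044f00002000000103c000003000000021c1000030000001028e00002000000102100000100000010192000020000001011d00003000000010830000100000010052000030000000044f)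
noncomputable def DTp18 : Nat := (nat_lit 0x3000000125a800003000000122b800003000000120ca0000200000011f7500003000000081f60000200000007f3a0000300000011bf90000300000011ac800002000000119be00003000000118b500003000000117c100002000000116d000001000000115f700002000000115140000300000011448000020000001134e0000100000005dc4000030000001119b0000200000005918000030000000575d0000100000010f280000200000010e6b0000300000004f430000100000010d070000100000010c79000010000000452500003000000043080000100000010a6900001000000109c60000200000010926000030000001086d000010000000383b000030000001073b00002000000106960000200000002e65000030000001057100001000000104e5000020000001045100003000000103c000001000000021d1000030000001028f00001000000102100000100000010193000020000001011e00001000000100b800003000000100530000200000010001)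
noncomputable def DTp19 : Nat := (nat_lit 0x2000000125a900003000000122ba00003000000120cd000010000000840a0000100000011e520000200000011d250000300000011bfa0000100000011acc00003000000119be00002000000118b600001000000117c100003000000116d100002000000115f8000030000001151400001000000114480000200000005f7e0000300000011272000020000001119c000010000000591b0000200000010fea0000300000010f2a0000300000010e6c0000200000004f440000300000004bc100002000000048170000200000010bb500001000000043080000200000010a6b00003000000109c70000200000010927000020000001086e000020000000384b00002000000035ac0000200000010697000030000001060e000010000001057200003000000104e6000010000001045100003000000103c100003000000021db00002000000102910000200000001acd0000200000010194000010000001011e000010000000108400001000000100530000100000010001)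
noncomputable def DTp20 : Nat := (nat_lit 0x3000000125aa00001000000122bb00003000000120d0000020000000840c0000300000011e530000300000011d280000200000007be00000300000011acd00002000000075a300001000000118b600002000000117c20000100000006b5f00003000000115fb0000200000011515000020000001144a0000200000005f7f0000200000011273000020000001119d00003000000110bf0000100000010fea0000100000010f2a0000200000010e6e0000100000004f440000200000004bcd000030000000481b0000300000010bb5000020000000430a0000200000010a6e00001000000109c80000100000010927000010000001086f000030000000385400003000000035b20000200000003258000010000001060f000030000001057300001000000104e6000030000000278900001000000103c1000020000001032f000030000001029200002000000102110000100000001822000010000001011f00002000000010a20000200000010054000020000000046a)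
noncomputable def DTp21 : Nat := (nat_lit 0x2000000125ab0000300000008f2400001000000120d10000300000011f770000200000011e540000100000011d2b0000300000011bfd0000200000011acf00002000000075aa00002000000118ba0000100000006efd0000300000006b6c00001000000115fc0000200000011517000010000001144a000010000001134f0000100000011274000030000001119e000020000000591c0000300000010feb0000300000010f2b0000200000010e6f0000300000010dc30000300000010d090000200000010c7a00001000000045290000300000010b1c0000300000010a6f0000100000003f1800003000000109290000300000003afb00002000000107d400001000000035bc00002000000106990000200000010610000010000001057300002000000104e7000010000001045200002000000103c2000030000001032f00002000000102930000300000010211000020000000182300002000000014bb00001000000100b90000300000010055000010000000046e)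
noncomputable def DTp22 : Nat := (nat_lit 0x2000000125ac00003000000122bc00001000000087900000100000011f7800003000000082010000200000007f650000100000011bfd000020000000794b00003000000075aa00002000000118bd0000300000006f120000100000006b6d00002000000115fd000020000000641400003000000061f900002000000113520000200000011275000010000001119e00003000000110c00000100000010feb0000200000010f2d0000100000010e6f0000100000004f460000100000010d090000300000010c7a0000300000010bb700002000000043120000200000010a700000300000003f1c00001000000109290000200000003afc00003000000107d500002000000035c4000030000001069a0000200000010611000020000001057400001000000104e80000200000010453000030000000250f000030000001033000003000000102940000200000010212000030000001019600002000000014cb00003000000100ba00001000000100550000200000010002)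
noncomputable def DTp23 : Nat := (nat_lit 0x2000000125ad0000100000008f2700002000000120d20000200000011f7900002000000082050000200000011d2c0000200000007be7000020000000794c00003000000119c400003000000118bd00001000000117c300003000000116d600001000000115ff0000100000006418000020000001144c00003000000113530000300000011275000030000001119f00002000000110c10000200000010fec0000300000010f2e000020000000521a0000300000010dc40000200000004bf50000200000010c7b000030000000452b00001000000043120000100000010a7200002000000109c9000020000001092a000030000001087100001000000107d5000020000001073d000010000001069a00003000000106110000200000002bfb00002000000104e9000030000001045400002000000103c300002000000103310000100000001dbd0000200000001ad20000200000010197000030000001012000002000000100bb0000300000000c690000300000010002)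
noncomputable def DTp24 : Nat := (nat_lit 0x100000009add00002000000122bd00001000000087940000300000011f7a0000300000011e560000100000007f700000300000011bff0000300000011ad200002000000119c600002000000118c300003000000117c400001000000116d70000200000011600000030000001151900003000000061fb00001000000113530000200000011277000010000001119f00003000000110c10000300000010fed0000300000010f2f000020000000521b0000200000010dc50000200000004bf6000020000000481e000010000000452b00001000000043130000100000010a7300001000000109c9000030000001092a000020000001087200002000000107d7000020000001073e00002000000032610000200000010612000020000001057500003000000104ea0000300000010455000020000000251000003000000021e50000200000001dc00000200000010213000010000001019700001000000014d700001000000100bb0000300000000c6d000010000000048a)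
noncomputable def DTp25 : Nat := (nat_lit 0x2000000125b400003000000122be000020000000879f0000100000011f7a0000200000011e580000200000011d2d0000100000011bff0000100000011ad200003000000075ad00001000000072a70000100000006f1a00003000000116d80000200000011602000020000001151b000020000001144e000030000001135500003000000112780000200000005ba900002000000110c20000100000010fed0000100000010f2f00002000000052370000100000010dc50000200000010d0d00003000000048280000300000010bb90000300000010b1e0000200000010a740000200000003f1d000010000001092b000030000001087200003000000107d700003000000035c7000020000000326600003000000106130000200000002bfd00002000000104ec000030000001045700003000000103c400002000000103320000200000001dc700001000000102130000300000010198000020000001012200003000000100bc0000100000000c720000300000000493)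
noncomputable def DTp26 : Nat := (nat_lit 0x2000000125b50000300000008f5900001000000120e20000300000011f7b000030000000821d0000300000007f780000200000007bea0000300000011ad300001000000075ae00002000000118c700002000000117c700001000000116d800002000000067880000300000006429000030000001144e0000200000011356000010000001127900001000000111a000001000000110c20000200000010fee0000200000010f3000002000000052380000200000010dc60000300000004bfc0000300000010c7c000010000000452f0000200000010b1f0000300000010a740000200000003f21000030000001092c000020000001087300003000000107d80000200000010740000030000000327e0000100000010613000030000001057600003000000104ed000020000000278e0000300000002512000020000000220800003000000102950000300000001ad50000100000010198000030000001012200001000000100bc0000200000000c79000030000000049b)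
noncomputable def DTp27 : Nat := (nat_lit 0x3000000125b50000200000008fa30000300000008850000020000000840e000020000000821f0000100000011d2f0000300000011c010000100000011ad400002000000119c700002000000118c80000100000006f1d0000200000006b6f000020000000678c000030000001151c000010000001144f00003000000113580000200000005dd200002000000111a100002000000110c40000200000010fef0000200000010f330000200000010e740000300000010dc60000100000004bfc0000300000010c7d00001000000045340000300000010b2000001000000040d600002000000109cb000010000001092c000010000001087300002000000107d90000200000010741000010000000329400002000000106140000200000002bfe00003000000029c4000010000000278e0000300000002525000010000000221500001000000102950000100000001ad90000300000010199000030000001012300003000000010b10000300000010056000010000000049c)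
noncomputable def DTp28 : Nat := (nat_lit 0x1000000125b60000300000008fb400001000000088500000300000011f7d0000200000011e5a0000300000011d330000200000011c020000300000011ad500002000000119c900003000000118c900002000000117c90000200000006b720000200000011605000010000001151d00002000000061fe00002000000113590000300000005dd50000300000005bb400003000000110c40000200000010ff00000100000010f33000020000000523e0000200000010dc70000200000010d0e000010000000482a0000300000010bba0000100000010b2000002000000040d70000100000003f22000020000001092e000020000001087500003000000107da0000100000010741000030000000329600003000000106140000300000002c0600002000000029c700002000000104580000200000002526000020000001033600003000000102960000200000001adb000020000001019b000010000001012300002000000100be0000100000000c8000002000000004c5)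
noncomputable def DTp29 : Nat := (nat_lit 0x2000000125b800002000000122c400003000000088530000100000011f7d0000300000011e5a0000100000011d340000300000011c040000200000011ad800002000000075b700002000000118cb00003000000117c900001000000116da0000300000011605000030000001151e0000300000011450000020000001135a000020000001127e0000100000005bb400003000000110c50000300000010ff10000200000010f34000030000000523e0000300000010dc70000200000010d0f0000300000010c7e0000100000010bba0000200000010b210000200000010a7600003000000109cc000030000001092e000020000001087600001000000107da0000200000010742000010000000329700003000000106150000200000002c0700003000000029cc000030000001045800003000000103c5000010000000223100001000000102960000300000001ade0000200000001825000020000001012400003000000010b30000100000000c8300001000000004de)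
noncomputable def DTp30 : Nat := (nat_lit 0x100000009b8000001000000122c900002000000120e40000200000011f7e0000300000011e5b0000100000011d350000200000011c070000300000011ad900002000000075b800003000000118cd00003000000117ca00003000000116db0000300000006793000030000000642e0000100000011450000030000001135a000020000001127f00002000000111a200001000000110c50000100000010ff100001000000054630000100000010e750000200000010dc80000100000010d0f0000100000010c7e0000200000010bbb00002000000043230000300000010a7600002000000109cd000030000001092f0000300000010877000030000000385b0000200000010743000020000001069c0000100000010615000030000001057700001000000029d1000020000001045900001000000103c6000020000001033700002000000102970000300000001ae2000030000001019c00002000000014d900002000000100bf0000100000000c8e00001000000004ed)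
noncomputable def DTp31 : Nat := (nat_lit 0x300000009b8200002000000122ce00002000000120e500002000000084110000200000011e5e0000300000011d360000300000011c0a0000300000011ada00003000000119cb00003000000118ce00002000000117cb00001000000116dc000030000001160700003000000115200000300000011451000020000001135b000030000001127f00003000000111a200002000000110c600003000000057620000200000010f35000020000000524e0000100000010dc80000200000010d1000002000000048300000200000004540000020000000432500002000000040d900003000000109cd000010000001092f0000100000010878000020000000385c0000100000010743000010000001069c0000200000002e82000030000001057800003000000029d70000100000010459000030000000253700003000000103370000300000001de30000100000001ae3000020000001019d000020000001012500002000000100c000002000000100570000200000010003)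
noncomputable def DTp32 : Nat := (nat_lit 0x200000009b8900002000000122d000002000000120e700003000000084120000100000011e5e0000200000011d370000300000011c0c000020000000796900002000000119cc00001000000118ce0000200000006f220000100000006b77000020000001160800001000000115210000200000011452000030000001135c00001000000112800000100000005bbb00003000000059220000200000010ff20000300000010f35000030000000524e0000200000010dc90000300000010d110000300000010c7f0000200000010bbd000020000000432700002000000040dc00003000000109ce0000200000010931000020000001087a0000200000003865000030000001074400001000000032ae0000100000002e91000020000001057900003000000104ef000030000001045a000020000000254d000030000001033800003000000102980000200000001ae70000300000001826000030000001012600003000000100c00000300000000ca90000100000010003)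
noncomputable def DTp33 : Nat := (nat_lit 0x2000000125d900002000000122d300001000000120e7000020000000841a0000200000011e600000200000007f7f0000300000011c0d0000300000011adc00003000000119cd00003000000072b40000200000006f240000100000006b7b0000300000011608000020000000643b0000100000011452000030000001135d000010000001128100003000000111a300002000000059230000300000010ff200003000000054640000300000010e780000300000010dc90000100000010d110000100000010c7f0000200000010bbe0000300000010b2200003000000040dc00001000000109ce0000100000010931000030000001087a00003000000107db0000200000010745000020000001069d0000200000010616000030000001057900001000000029d9000030000000279300001000000103c7000010000001033800001000000102980000300000001af5000030000000182a000010000001012600001000000010b40000200000010058000030000000050d)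
noncomputable def DTp34 : Nat := (nat_lit 0x1000000125db000010000000900800003000000120e800002000000084200000300000011e600000200000007f820000300000011c0f000020000000797400001000000119ce00002000000118d00000200000006f4b00003000000116de000010000001160900003000000064410000200000011453000020000001135f00001000000112820000100000005bc200002000000110c70000300000010ff500001000000054640000100000010e780000300000004f570000100000010d120000200000004839000020000000454d0000200000010b2300002000000040de00002000000109cf0000200000010932000030000001087b00002000000107dc000010000001074500003000000032b70000200000002e9e000030000001057b00003000000029e3000030000000279e000010000000254e00003000000022440000300000001deb0000100000001af7000020000001019e000020000001012700003000000100c100003000000100580000100000000510)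
noncomputable def DTp35 : Nat := (nat_lit 0x3000000125e1000030000000900f00001000000120e80000200000011f7f0000300000011e610000300000007f850000200000011c10000020000000797e00001000000119d000002000000072bc00001000000117cd00002000000116df000020000001160b000030000001152200003000000114530000200000005f8c000030000001128300003000000111a400002000000059260000200000010ff70000200000010f370000300000010e790000200000010dca0000300000004c07000020000000483f0000300000010bbf0000200000010b260000300000010a790000300000003f260000100000003d60000010000001087b00002000000107dd00003000000035cf00003000000106a10000200000002e9f000010000001057b00003000000029f600003000000027a30000200000002550000020000001033900002000000102990000100000010214000030000000182d000030000001012700003000000100c200002000000100590000100000000519)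
noncomputable def DTp36 : Nat := (nat_lit 0x1000000125e100002000000122db00003000000120e90000100000011f800000100000011e610000200000011d390000300000011c11000030000000797f00002000000075be00002000000118d10000200000006f630000200000006b86000010000001160c0000300000011526000030000001145400003000000113600000200000005dd700001000000111a400003000000110c90000300000010ff70000300000010f370000200000010e7b0000100000010dcb0000300000004c09000010000000484200001000000045520000300000010b260000100000010a7900003000000109d00000200000010935000020000001087c00003000000107dd000030000001074600001000000106a10000200000002ea00000200000002c1a00002000000104f0000010000001045b00002000000103c9000020000001033a00003000000102990000300000001b07000030000000183d000020000001012800002000000100c300001000000100590000200000010004)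
noncomputable def DTp37 : Nat := (nat_lit 0x3000000125e900003000000122db00001000000120ea000030000000842100003000000082240000100000011d390000300000011c12000010000000797f00003000000119d100003000000072c700001000000117d00000300000006b8a000020000001160d000030000000645400001000000114540000200000011361000020000001128400003000000111a500002000000110ca0000100000010ff8000010000000546500001000000052520000300000010dcc0000300000010d13000020000000484a00002000000045540000200000010b2700003000000040e500001000000109d000003000000109350000200000003b1300002000000107de000010000001074600002000000032c20000100000010617000020000001057c00003000000104f1000020000001045c00003000000103c9000030000001033c0000300000001df50000200000010215000010000000183e000010000001012800001000000100c30000300000000cac0000300000010004)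
noncomputable def DTp38 : Nat := (nat_lit 0x2000000125ea00002000000122ec00002000000120eb000020000000842200001000000082260000200000011d3a0000100000011c120000100000011ae400002000000119d200001000000072c700001000000117d20000100000006b8a000030000001160e00002000000115290000200000011455000010000001136300003000000112840000200000005bdb00001000000110ca00003000000057650000300000010f390000300000010e7c0000100000004f690000300000004c150000300000010c800000300000010bc00000300000010b2800002000000040eb00002000000109d200002000000109360000200000003b1900001000000107de000020000001074700003000000032c40000300000010618000030000001057c00001000000104f1000030000001045e000020000000255b000020000001033e0000100000001df60000200000010216000010000000183f000020000001012900003000000100c4000020000001005a000030000000052e)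
noncomputable def DTp39 : Nat := (nat_lit 0x1000000125ed00003000000122ed000030000000886900002000000084240000200000011e630000200000011d3c0000200000011c140000200000011ae500003000000075c300002000000118d40000200000006f730000300000006b9b000010000001160e000030000001152a0000100000011456000020000001136500001000000112850000300000005bde00002000000110cc0000300000010ffb0000300000010f3a0000200000010e7d0000300000010dcd0000300000010d1500002000000048550000100000010bc00000200000010b2a0000300000010a7a0000300000003f2d0000100000010936000030000001087e00003000000107e000002000000035e100002000000032c70000100000010618000010000001057d00001000000029fe000010000001045e00003000000103ca0000100000010340000030000001029a00003000000102160000200000001841000030000001012900001000000100c4000030000001005d000010000000052f)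
noncomputable def DTp40 : Nat := (nat_lit 0x1000000125ee00002000000122ee00002000000120f60000300000011f860000200000011e640000200000007f8c0000100000011c170000300000011ae500003000000075c500003000000118d70000300000006f940000200000006b9c000020000001160f000030000001152b000030000001145700001000000113650000200000005dd80000300000005be600001000000110cd0000100000010ffb0000200000010f3b00002000000052550000100000010dcd0000200000010d160000300000004859000030000000455c0000300000010b2c0000100000010a7a00001000000109d40000300000010937000010000001087e00001000000107e0000020000001074800003000000032ca0000100000002ebb0000200000002c1e0000300000002a0600002000000027ad00001000000103ca0000300000010341000030000001029b00002000000102180000200000001845000020000001012a00002000000010c3000010000001005d0000200000000532)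
noncomputable def DTp41 : Nat := (nat_lit 0x2000000125f300003000000122ee00001000000120fd00002000000084390000300000011e640000100000007f8d0000200000011c180000200000011aea00002000000119d300001000000118d70000200000006f950000100000006ba8000030000001160f000020000000645b000010000001145800002000000113660000300000005dd80000200000005be7000020000000592e0000300000010ffc000030000000547000003000000052550000100000004f6c0000300000010d1600001000000048590000100000010bc20000100000010b2c0000200000010a7b0000200000003f310000200000003d76000020000001087f00003000000107e100002000000035ee00001000000032cb000030000001061a0000200000002c210000100000002a0600002000000027ae000020000000256e0000100000010341000020000001029c0000100000001b190000300000001858000020000001012b00002000000100c60000300000000cb70000300000010005)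
noncomputable def DTp42 : Nat := (nat_lit 0x100000009baa00001000000122ef00001000000120fe0000200000011f8700001000000082280000300000011d3f0000300000011c1b0000200000011aec00002000000119d400001000000118d80000100000006f9500001000000116e50000200000011610000010000000645b00002000000114590000200000011367000020000001128a0000200000005bf3000010000000593d0000300000010ffd000020000000547d0000100000010e7e0000200000004f6e0000200000010d17000020000000486100002000000045610000200000010b2d00002000000040ed00002000000109d60000300000010938000030000001088000002000000107e200003000000035ee00003000000106a3000020000001061b0000300000002c210000200000002a0c000030000001045f00003000000025750000200000010342000030000001029d0000300000010219000030000000185e000030000001012b00001000000100c60000100000000cb80000100000010005)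
noncomputable def DTp43 : Nat := (nat_lit 0x2000000125f500002000000122f100002000000121000000200000011f8800003000000082290000100000011d3f0000200000011c1c0000200000011aed00001000000119d500001000000072ff0000300000006f9600002000000116e7000020000000679e0000200000006466000030000000620a0000300000011367000030000001128a00002000000111a600003000000110ce0000100000010ffe000020000000548c00002000000052570000300000004f7a0000100000010d170000300000010c8100003000000045620000200000010b2e0000300000010a7c00003000000109d600001000000109380000100000003b1a000030000000386b000030000001074900002000000106a4000010000001061b000020000001057e00003000000104f2000010000001045f000020000000258000003000000022520000200000001e0b000020000001021a000020000000186400001000000014f200002000000010de0000300000000cbb000020000000058d)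
noncomputable def DTp44 : Nat := (nat_lit 0x300000009bab00001000000122f100002000000121010000100000011f88000010000000822a0000300000011d400000200000011c1d0000300000011aee00002000000075cf00002000000118db0000100000006f9600003000000116e7000010000000679e0000100000006467000010000000620b0000200000011369000020000001128c00003000000111a7000020000000593f00003000000057750000200000010f3d00003000000052590000100000010dce0000200000004c240000100000010c810000300000010bc30000300000010b2e0000100000010a7c00002000000109d70000300000010939000030000001088100002000000107e3000020000001074a00001000000106a40000300000002ecc000020000001057f0000200000002a14000020000001046000002000000103cb0000100000010343000030000001029e000010000001021a000020000001019f00001000000014f300003000000010de0000100000000cd1000020000000059e)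
noncomputable def DTp45 : Nat := (nat_lit 0x100000009bab00003000000122f400001000000121020000200000011f890000300000011e650000100000007f9a0000200000011c1e0000300000011aef00003000000075cf00003000000118dc00002000000117d500002000000116e80000200000011611000020000000647a000030000001145c000020000001136a000010000001128d0000100000005c00000020000000594100002000000110000000300000010f3d00001000000052590000300000010dcf0000300000010d190000100000010c830000100000010bc40000300000010b3000002000000040f200001000000109d7000030000001093a000020000001088300001000000107e3000020000001074b00002000000106a50000200000002ed700003000000105810000300000002a1500002000000027b000003000000103cb00001000000103440000200000001e150000200000001b1a00003000000101a0000020000000150d00002000000100c70000200000000cd800002000000005a7)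
noncomputable def DTp46 : Nat := (nat_lit 0x3000000125f600003000000122f500002000000121030000300000011f890000200000011e660000300000011d450000200000007bfb0000300000011af100003000000119d600003000000118dd0000200000006f9f00003000000116e90000300000011611000030000001152c000010000001145c000020000001136c000020000001128e00003000000111aa000020000000594600003000000110000000200000010f3e000020000000525e0000100000010dcf0000200000004c29000020000000487d000020000000458f000020000000433b0000300000010a7d00002000000109d8000010000001093b0000100000003b1c00003000000107e4000030000001074b00003000000106a70000200000002ee700003000000105820000200000002a1600003000000027bb00002000000103cc00003000000022580000200000001e160000100000001b1b00002000000101a1000010000000151200002000000010e0000020000001005e00001000000005c0)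
noncomputable def DTp47 : Nat := (nat_lit 0x1000000125f600003000000122f600001000000121040000300000011f8c0000300000011e670000200000011d460000100000011c220000100000011af200001000000119d900001000000118dd0000300000006f9f00001000000116e900001000000116120000100000006484000020000001145d000020000001136e00003000000112900000100000005c06000030000000594e00002000000110020000100000010f3e0000300000010e810000300000010dd20000100000004c2f000020000000488300001000000045900000200000010b310000100000010a7e0000200000003f39000030000001093c000030000001088400002000000107e500001000000035fa00001000000106a7000030000001061c000010000001058200003000000104f300002000000027bc00003000000103cd0000300000002259000010000001029f000030000001021c00001000000101a1000030000000151400002000000100c8000030000001005f00002000000005d5)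
noncomputable def DTp48 : Nat := (nat_lit 0x3000000125f700002000000122f700002000000121050000200000011f8e0000200000011e6a0000200000011d470000100000007c050000300000011af300002000000119da00002000000118de0000100000006fa90000200000006baf00002000000067b2000030000000649c000030000001145d000030000001136f000010000001129100001000000111ab000010000000594f00001000000110030000100000010f410000100000010e810000300000004f830000100000004c4c000030000000488e0000200000010bc50000300000010b3100002000000040f60000200000003f3a000030000001093d000020000001088500001000000107e5000030000001074c00002000000106a8000020000001061d000020000001058300002000000104f400003000000027bd00001000000103cd00002000000103450000200000001e17000010000001021c0000200000001868000030000000151800003000000100c9000010000001005f0000300000010006)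
noncomputable def DTp49 : Nat := (nat_lit 0x3000000125f8000030000000903c00002000000121070000100000011f8e0000100000011e6b0000300000011d480000300000011c240000200000011af400002000000119dd00003000000118e200001000000117d90000200000006bb400003000000067b4000030000001152e000030000001145f000010000001136f0000200000005ddc00003000000111ac00003000000110cf00003000000057860000100000010f420000200000010e820000200000010dd30000200000004c500000100000004893000030000000459c0000200000010b320000200000010a8000001000000109d90000200000003d80000030000001088600003000000107e6000010000001074c00003000000032df000010000001061d000030000001058400003000000104f400001000000027c100003000000103ce000020000000225c00003000000102a00000300000001b1d0000300000001869000010000001012c00002000000100ca00002000000100600000100000010006)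
noncomputable def DTp50 : Nat := (nat_lit 0x100000009bad000010000000903e00001000000121070000300000011f8f0000200000011e6e0000200000011d490000200000011c26000030000000799c00003000000119de00002000000118e400002000000117db00001000000116ea00003000000067b800002000000064a200002000000062120000300000011370000020000001129400001000000111ad00003000000110d0000030000001100400002000000054930000300000010e820000300000004f870000300000004c640000300000004897000020000000459d0000100000010b320000100000010a800000300000003f490000100000010940000030000001088700003000000107e7000030000001074e00003000000106a9000030000001061e000010000001058400003000000104f5000030000001046200002000000103d0000010000001034600001000000102a00000100000001b1e00001000000101a2000010000001012d00001000000100ca000030000001006100003000000005ea)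
noncomputable def DTp51 : Nat := (nat_lit 0x3000000125f900002000000122f80000200000012108000020000000843f0000100000011e6f0000200000011d4b0000200000007c060000200000011af600001000000119de00002000000118e50000200000006fb40000300000006bb800002000000067be000010000001153000003000000062140000100000011371000010000001129500002000000111ae00001000000110d0000020000001100500002000000054950000200000010e830000200000004f880000200000010d1b000030000000489e0000200000010bc60000200000010b3300002000000040fb0000100000003f490000300000010941000020000001088800001000000107e700001000000035fb00001000000106a9000020000001061f000010000001058500001000000104f500002000000027e100003000000103d0000020000000226f00002000000102a1000020000001021d00002000000101a3000010000000152700001000000011040000100000000cfe00001000000005ef)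
noncomputable def DTp52 : Nat := (nat_lit 0x1000000125f90000100000009045000030000001210a0000100000011f900000100000011e720000300000011d4c0000300000007c060000300000011af600002000000075dc00003000000118e700001000000117de00002000000116eb00002000000067cd0000300000011531000010000000621400003000000113740000200000005ddf00002000000111b0000020000000595000003000000110050000300000010f440000100000010e830000100000004f880000100000010d1b0000200000010c840000200000010bc70000300000010b3400001000000040ff0000300000003f4a0000100000010941000020000001088a0000300000003870000030000001074f00003000000106aa0000300000002ee9000030000001058600002000000104f600002000000027e300001000000103d1000010000001034700003000000102a1000010000001021e00003000000101a3000020000000153600003000000100cb000010000001006200002000000005f3)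
noncomputable def DTp53 : Nat := (nat_lit 0x200000009bc800001000000122fa000010000001210b0000200000011f910000200000011e740000200000011d4d0000300000011c270000200000011af800002000000075de00001000000118e800002000000117e100001000000116eb00002000000067d000002000000064b700002000000114610000300000011375000030000001129600002000000111b1000020000000595100002000000110080000100000010f44000020000000526a0000300000010dd40000300000010d1c0000300000010c850000200000010bc90000200000010b350000300000010a8100002000000109da00002000000109420000300000003b2700003000000107e8000010000001074f00001000000106aa0000100000002eec00001000000105860000200000002a1d000030000001046500002000000103d200002000000103480000300000001e1a0000200000010220000010000000186f000030000000153900001000000100cb0000300000000d0a000020000000060a)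
noncomputable def DTp54 : Nat := (nat_lit 0x100000009bca00002000000122fb000030000001210c0000200000011f920000100000011e760000300000011d4d0000100000007c1b0000200000011af900002000000119df00002000000118eb00002000000117e20000300000006bb9000030000001161500001000000064b700003000000114610000200000011377000010000001129600002000000111b500003000000110d100002000000110090000300000010f45000030000000526a0000100000010dd40000200000010d1d00003000000048a50000100000010bca0000100000010b350000200000010a8200003000000109da0000300000003d8e000030000001088b000010000000387100002000000035fd00003000000032e6000020000001062000003000000105870000300000002a1e000010000001046500003000000103d300002000000103490000300000001e1f000030000001022000003000000101a4000010000000153a00003000000011110000200000000d0b0000300000010007)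
noncomputable def DTp55 : Nat := (nat_lit 0x30000001260500002000000122fe000030000000888a0000300000011f92000010000000823a0000300000011d4e0000100000011c2a0000300000011af900003000000119e000003000000118eb00001000000117e30000300000006bc0000010000001161500002000000064b900003000000114620000100000011378000020000001129700003000000111b50000300000005956000030000001100a000010000000549d0000100000010e840000300000010dd50000100000004c6900001000000048a50000200000010bcb000030000000433f000030000000410100002000000109db0000200000003d93000010000001088b000030000000387200003000000035fd00002000000032e700003000000106200000200000002c360000100000002a1e00002000000027e500001000000103d4000030000001034900002000000102a2000020000001022100001000000101a4000030000000154d00002000000011120000100000000d0b0000100000010007)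
noncomputable def DTp56 : Nat := (nat_lit 0x30000001260a00003000000122fe000020000001210d0000200000011f930000200000011e780000200000007fcd0000300000011c2b0000200000011afa00001000000119e000002000000118ec00003000000117e400003000000116ed00002000000116160000100000011533000010000001146200002000000113790000300000005dee00002000000111b7000010000000595d000020000001100b0000200000010f470000200000010e870000200000004f8f0000200000004c7e00003000000048b100002000000045b80000200000010b360000200000010a8300001000000109db0000200000003d94000020000001088c00001000000107e9000030000001075000003000000106ab0000200000010621000020000001058800003000000104f7000020000001046600002000000103d5000020000001034a00003000000102a20000200000001b2100002000000101a5000020000000155000002000000011160000300000000d150000100000000633)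
noncomputable def DTp57 : Nat := (nat_lit 0x3000000126180000100000012312000030000001210d0000200000011f950000100000011e790000200000007fce0000300000011c2d0000100000011afa00002000000119e200001000000118ec00002000000117e50000100000006bc200003000000116190000100000011534000020000001146400003000000113790000300000005def0000100000005c140000200000005963000030000001100c0000200000010f480000300000010e880000300000010dd70000300000004c7e00001000000048b10000300000010bcd00001000000043440000100000010a840000200000003f5b0000300000010943000010000001088e0000300000003874000010000001075000003000000106ad0000100000010621000030000001058800001000000104f7000020000001046700002000000103d7000010000001034a00002000000102a4000020000001022200003000000101a5000010000000155700003000000011240000300000000d170000200000010008)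
noncomputable def DTp58 : Nat := (nat_lit 0x2000000126190000300000012315000020000001210f0000300000011f950000200000011e7b0000200000007fd70000300000007c2400002000000079a700001000000119e3000020000000735100002000000117e600002000000116ee000020000001161a00002000000064c70000300000011464000010000001137a000020000001129900001000000111b800003000000110d4000010000000579500002000000054a60000100000010e880000100000010dd70000100000010d1e0000200000010c870000100000010bcd0000200000004347000010000000410e00003000000109dc000010000001094300002000000108910000200000003876000030000001075100002000000106ae000030000001062300001000000105890000100000002a23000030000001046800001000000103d8000030000001034c0000300000001e2a000030000001022200002000000101a60000300000001558000020000000112500002000000100630000300000010008)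
noncomputable def DTp59 : Nat := (nat_lit 0x30000001261c0000200000012317000010000001211000001000000084450000100000011e7c0000200000007fd90000300000011c2f0000200000011afb00003000000119e400003000000118ed00003000000117e60000300000006bc3000030000001161b00002000000064ca0000200000011465000030000001137b0000200000005df100002000000111b900002000000110d500002000000057b600001000000054a70000200000010e890000200000004f940000300000004c810000300000010c8a00002000000045be00003000000043500000300000010a860000200000003f5c0000200000003d9700001000000108920000300000003876000010000001075200001000000106ae00001000000106230000200000002c3b0000200000002a2d000010000001046800003000000025a2000020000000227400003000000102a50000200000001b2300002000000101a7000030000001012e00003000000100cd00001000000100630000300000000644)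
noncomputable def DTp60 : Nat := (nat_lit 0x10000001261d000030000001231700002000000121110000100000011f970000300000011e7d0000300000007fd90000200000011c310000100000011afc00002000000119e600002000000118ee00001000000117e70000100000006bc4000030000001161d00003000000115350000100000011465000020000001137d000020000001129b00003000000111ba00001000000110d5000020000001100f0000100000010f4a0000300000010e8a0000300000004f940000200000004c8400002000000048b500001000000045c6000010000000435000001000000041160000200000003f5d00001000000109440000200000003b2f0000200000003887000010000000360100002000000032f200002000000106240000300000002c4b0000100000002a31000020000001046900002000000025a3000030000001034d0000300000001e2d0000300000001b2600003000000101a7000030000001012f00003000000100ce00001000000100640000300000000646)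
noncomputable def DTp61 : Nat := (nat_lit 0x20000001261f000030000001232200001000000121140000300000011f9a0000200000011e7f0000100000007fda0000300000011c320000300000011afd00002000000119e900003000000118ee0000200000006fca0000200000006bc5000020000001161e000020000001153600003000000114660000300000005f9e000010000001129b00002000000111bc000020000000596c000030000001100f00003000000054be0000200000010e8b0000100000004f950000200000010d2000001000000048b50000100000010bce00002000000043510000100000010a8700002000000109de0000200000003da40000100000003b3200003000000107eb000020000001075400001000000032fb0000200000002efa0000200000002c4d0000200000002a34000030000001046a00001000000025a3000010000001034e0000300000001e3000003000000102230000200000001871000020000001013000001000000100ce0000300000000d210000200000000676)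
noncomputable def DTp62 : Nat := (nat_lit 0x200000012622000030000001232300001000000121150000300000011f9b0000200000011e830000300000011d530000100000011c330000300000011afe00003000000119e9000020000000735600002000000117e90000200000006bda000030000001161f00002000000064d200002000000062290000200000005f9f000030000001129d0000200000005c1900003000000110d6000030000001101000001000000054be0000300000010e8c0000200000004f990000200000010d220000300000010c8c0000300000010bcf0000100000010b37000020000000411a00003000000109df0000200000003da5000010000001089400001000000107eb000010000000362700001000000106b000002000000106250000300000002c520000100000002a36000010000001046b00003000000103d9000030000001034f00002000000102a700003000000102240000100000001871000010000001013000002000000100cf0000300000010065000010000000067a)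
noncomputable def DTp63 : Nat := (nat_lit 0x200000012623000030000001232d00003000000121190000300000011f9c0000300000011e840000300000011d550000200000011c360000300000011aff00001000000119ea000030000000735a00003000000117ea00002000000116f1000010000001161f0000100000011538000010000000622a0000100000005f9f000020000001129f00002000000111be00002000000110d700001000000057ba0000300000010f4c0000100000010e8c0000200000004f9b0000300000010d220000100000010c8c00002000000045d80000200000004357000030000000411c00001000000109df0000100000003da5000030000001089500002000000107ee000020000000362f00003000000032fd00003000000106270000200000002c5a00003000000104f8000030000001046d00001000000103d9000020000001035000001000000102a7000010000001022400003000000018720000300000010131000030000000112900001000000100650000300000010009)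
noncomputable def DTp64 : Nat := (nat_lit 0x300000012629000020000001233200001000000088a900002000000084520000200000011e850000200000007fe10000200000007c3b0000300000011b0000002000000119eb00003000000118f10000100000006fd200003000000116f1000020000001162000003000000115390000100000006233000030000001137e0000200000005df90000300000005c2200001000000110d700001000000110110000200000010f4d0000200000010e8d0000200000010dd80000200000004c9300003000000048da0000200000010bd00000300000010b38000010000000411c00003000000109e000003000000109450000200000003b3700003000000107ee000030000001075700002000000106b10000300000002f09000030000001058b00001000000104f9000010000001046e00002000000103da000030000001035100003000000102a8000020000001022500003000000101a8000010000001013100002000000011310000200000010066000020000001000b)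
noncomputable def DTp65 : Nat := (nat_lit 0x10000001262b000030000000915800003000000088ab00002000000084540000300000011e880000300000011d560000100000007c3c0000100000011b00000020000000761800002000000118f200001000000117ec00003000000116f2000030000001162000003000000064dd0000200000006234000020000001137f00002000000112a10000200000005c2600002000000110d800002000000110120000300000010f4e000030000000526b0000300000010dd80000200000010d2400002000000048e00000300000010bd00000200000010b3a0000200000010a880000200000003f8900001000000109450000300000003b3800002000000107ef000010000001075700001000000106b10000200000010628000010000001058b00002000000104fa000020000001046f00003000000103db000010000001035100001000000102a80000300000001b2800002000000101a9000020000001013200002000000011320000300000010067000030000001000b)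
noncomputable def DTp66 : Nat := (nat_lit 0x3000000126310000200000012333000020000001211e0000200000011f9d0000300000011e8b0000300000007fe30000300000011c3700002000000079bb00002000000119ec00002000000073610000200000006fdd00001000000116f2000020000001162100003000000064e40000200000011468000030000001138000001000000112a300003000000111bf00003000000110d800001000000110140000100000010f4e000010000000526b0000200000010dd90000100000010d240000300000010c8d0000200000010bd10000100000010b3a0000200000010a890000200000003f8c00002000000109460000100000003b3800002000000107f0000020000001075800003000000106b20000100000010629000030000001058c00002000000104fb000010000001046f00001000000103db000030000001035300002000000102a90000200000010226000020000000187d000030000001013200001000000100d00000100000010067000020000001000c)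
noncomputable def DTp67 : Nat := (nat_lit 0x300000012640000030000001233300003000000088af0000100000011fa00000100000011e8b0000200000007fe50000200000011c3800002000000079bc00003000000119ed00003000000118f50000200000006fde0000200000006be60000100000011621000020000001153c000030000001146800001000000113810000300000005e1200001000000111c000002000000110d900001000000057c500002000000054cb0000200000010e900000100000010dd90000200000004ca300002000000048ea0000100000010bd10000300000010b3b0000300000010a890000100000003f9200003000000109460000300000003b3a00003000000107f0000020000001075a00001000000106b20000200000002f0c000020000001058d00003000000104fd000020000001047100003000000103dc000010000001035300002000000102aa000030000001022600002000000018890000200000010133000030000000113a0000200000010068000030000001000c)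
noncomputable def DTp68 : Nat := (nat_lit 0x100000012640000030000001233b000030000001211f0000100000011fa20000100000011e8c0000200000011d5a0000100000011c3800002000000079bd00001000000119ed00003000000118f60000300000006fe400001000000116f4000010000001162300002000000064e60000100000011469000020000001138200001000000112a500003000000111c1000020000000597b00003000000057ca00002000000054d00000100000010e900000300000004fb20000300000010d2500001000000048ee00003000000045e8000020000000435e000010000000412500002000000109e200002000000109470000200000003b3c0000200000003898000020000001075b00001000000106b3000020000001062a000030000001058d00001000000104fd000020000000280400002000000103dd000030000001035400003000000102ab0000100000010227000010000000188a0000200000010134000020000000113b000030000001006800002000000006a1)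
noncomputable def DTp69 : Nat := (nat_lit 0x300000012688000010000001233d00002000000088b400002000000084720000200000011e8d0000300000011d5a0000200000007c4a00001000000079bd000020000000762200001000000118f700003000000117ed00003000000116f5000020000000680700002000000064ea000030000001146a0000300000005fae00003000000112a60000300000005c29000020000000597c000020000001101500001000000054d40000300000010e910000200000004fce0000100000010d2500003000000048f000003000000045f5000030000000435f000020000000413800002000000109e50000100000003da70000200000010898000020000000389a000020000001075c00003000000106b60000200000002f15000020000001058e00003000000104fe000020000000280700002000000103df000010000001035400002000000102ac0000100000010228000030000000189c000010000000156600003000000011400000200000000d440000100000000705)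
noncomputable def DTp70 : Nat := (nat_lit 0x200000009d4b000030000001233e00002000000088b5000030000000847c0000200000011e8e0000200000011d5c0000300000011c3a00002000000079be000010000000762200003000000118f800002000000117ee00002000000116f60000300000011626000010000001153d000020000001146b000030000001138600001000000112a60000100000005c2a00002000000110dd00003000000110150000100000010f4f0000100000010e910000300000010dda0000300000004ca500002000000048f300003000000045fc00002000000043610000100000010a8a0000200000003f9b0000200000003da8000030000001089a000030000000389e000030000001075c00002000000106b70000300000002f15000010000001058e00001000000104fe000030000001047200003000000103df000020000001035500001000000102ac0000200000001b3c00002000000101aa000020000000156c00002000000011420000200000000d4d0000300000000717)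
noncomputable def DTp71 : Nat := (nat_lit 0x3000000126a6000010000001233e00003000000121210000300000011fa60000100000011e8f0000300000011d5c0000100000011c3b00002000000079d000003000000119ee00001000000118f90000200000006ff900002000000116f70000300000011627000020000001153e0000300000006242000020000001138700002000000112a70000300000005c3a00003000000110df00003000000110160000200000010f5000002000000052780000100000010dda0000100000004ca600002000000048f40000200000010bd300001000000043710000100000010a8b00001000000109e70000200000003daa000010000001089a000010000000389f000020000001075d00003000000106b7000030000001062b000010000001058f00003000000104ff000010000001047300003000000103e000001000000103550000300000001e380000200000001b3f00003000000101aa000020000001013500002000000100d10000300000010069000020000000071a)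
noncomputable def DTp72 : Nat := (nat_lit 0x1000000126b0000020000001234500002000000088bb0000100000011fa70000300000011e910000300000011d5d0000200000011c3c0000300000011b0300001000000119ef00002000000118fd00003000000117ef0000100000006bf1000010000001162700001000000064f9000010000000624200001000000113870000300000005e140000300000005c3d00001000000110e0000020000001101900002000000054f50000300000010e920000200000004fd70000200000010d2600003000000048f600001000000046050000200000010b3c0000200000010a8c00002000000109e800003000000109480000100000003b3d00003000000107f1000020000000363c00002000000106b8000020000001062c0000100000002c5c0000200000002a38000020000000281100001000000103e0000030000001035600003000000102ad0000300000001b4800002000000101ab000030000001013500001000000100d10000300000000d7f0000300000000727)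
noncomputable def DTp73 : Nat := (nat_lit 0x200000009daf000010000001234600001000000088c20000200000011fa90000100000011e910000300000011d5e0000300000011c3e0000300000011b0600003000000119f0000030000000737700001000000117ef00002000000116f900003000000116280000200000011541000030000001146c0000300000005fb80000100000005e2b0000100000005c3d00002000000110e1000030000001101900002000000054fd0000100000010e920000200000010ddc0000200000004cab0000300000010c8e000010000000460a0000300000010b3d000030000000413c00002000000109e90000200000003db6000020000001089c00002000000107f200003000000036440000200000003322000030000001062c0000100000002c640000300000002a39000020000000282000002000000025bd000020000001035700002000000102ae000020000001022a00001000000101ab000030000001013600003000000011490000300000000d8a000030000001000d)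
noncomputable def DTp74 : Nat := (nat_lit 0x2000000126b7000030000000918d000020000001212400002000000084ae0000200000011e940000300000011d610000200000011c400000200000011b0700001000000119f0000010000001190100001000000117f000003000000116fa00001000000116290000300000011541000010000001146c0000100000005fb80000100000005e3100001000000111c400003000000110e1000010000001101a0000200000005500000020000000528d0000300000010ddd0000300000004cae00001000000048f80000100000010bd40000100000010b3d0000200000010a8d00003000000109eb0000100000003dc5000030000001089d00001000000038ac000010000000364500001000000106b90000300000002f280000200000002c680000100000002a39000010000001047400003000000103e1000010000001035700001000000102ae0000100000001b5700003000000018a20000100000010136000010000000114a000020000001006a000020000001000e)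
noncomputable def DTp75 : Nat := (nat_lit 0x3000000126b9000010000001234c00002000000088d800002000000084b20000300000011e950000100000011d610000200000007c640000200000011b0800001000000119f2000020000000737e00002000000117f100001000000116fa00003000000068170000200000011543000020000001146e000020000001138800002000000112a800003000000111c50000200000005986000010000001101c000010000000550c00002000000052910000100000010dde0000300000010d2800002000000048fa0000200000010bd50000200000004379000030000000414500001000000109eb0000200000003dca000030000001089e00001000000038b1000030000000365800003000000033260000100000002f2a0000200000002c7a0000300000010500000020000000282500001000000103e100003000000022ae0000100000001e530000200000001b5900003000000018a30000200000010137000030000000114b000030000001006a000030000001000e)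
noncomputable def DTp76 : Nat := (nat_lit 0x200000009e0a000010000001234e00003000000121260000100000011faa0000100000011e960000300000007ffe0000300000011c460000200000011b0a0000300000007631000020000001190400003000000117f100002000000116fb000020000001162c0000200000011544000030000001146f000010000001138900001000000112a800002000000111c600003000000110e5000030000001101d000030000000550d0000100000010e950000300000004fe70000200000010d290000300000010c8f0000200000010bd600003000000043790000300000010a8e00003000000109ec0000300000010949000010000001089e00003000000038b5000020000000365900002000000106bb0000100000002f2c0000100000002c7b0000200000010501000020000000282600003000000025c400002000000103590000300000001e6f0000200000001b6100002000000018b2000030000000157600003000000011610000100000000d8c000010000000072f)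
noncomputable def DTp77 : Nat := (nat_lit 0x300000009e0a000030000001235300001000000121260000300000011fab0000200000011e970000300000011d670000100000011c460000100000011b0c00002000000119f3000020000000739e00001000000117f200002000000116fd0000200000006855000030000000651a0000200000011471000030000001138a00003000000112ac00003000000111c600001000000110e5000030000001101e0000200000010f510000200000010e960000100000004fe80000300000004cb60000300000010c900000100000010bd6000030000000437a0000100000010a8f00003000000109ed000020000001094a000020000001089f00001000000038b6000030000001075f00002000000033270000200000002f2f00003000000105900000100000010501000020000001047500001000000025c600003000000103590000100000001e70000010000001022b00003000000018c5000020000000157a00001000000100d2000020000001006b000020000001000f)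
noncomputable def DTp78 : Nat := (nat_lit 0x100000009e0b000020000001235400003000000121280000100000011fab0000300000011e980000100000011d670000300000011c470000100000011b0e00003000000119f30000200000011908000010000000700100002000000116fe0000200000006856000020000000651b0000200000006244000010000001138a00001000000112ad00002000000111c7000020000000598d00003000000110220000300000010f510000100000010e970000100000004ff30000300000010d2a0000100000010c90000010000000461f000030000000437c000030000000415300002000000109ee000030000001094b0000300000003b4600002000000107f30000200000010760000010000000332d000030000001062e00001000000105900000200000010503000030000001047700003000000103e2000030000001035a0000200000001e85000020000001022c00001000000018ca000020000001013800002000000100d3000030000001006b000030000001000f)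
noncomputable def DTp79 : Nat := (nat_lit 0x300000009e0f0000300000012358000020000001212a00002000000084e50000200000011e9a0000300000011d680000300000011c490000200000011b1000002000000119f4000030000001190800002000000070070000200000006c060000200000011630000020000000652500002000000114720000200000005fbc00002000000112af00001000000111c700003000000110e700002000000110230000200000010f520000300000010e990000200000010de20000200000010d2c0000300000010c920000300000004620000020000000437d0000200000010a9100002000000109ef000010000001094b0000200000003b4800002000000038c5000010000001076000001000000106bd000010000001062e00002000000105920000300000010503000030000001047800001000000025ce00002000000022b10000200000001e8d000030000001022d00001000000018d4000030000001013800003000000100d4000020000001006c0000200000010010)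
noncomputable def DTp80 : Nat := (nat_lit 0x2000000126f80000100000012358000010000001212c0000100000011fad0000300000011e9a0000100000011d690000100000011c490000300000011b1200001000000119f4000010000001190900002000000117f40000300000011700000030000001163000002000000115460000300000011473000030000001138b0000100000005e430000200000005c5d00001000000110e700001000000110230000100000010f520000100000010e990000300000004ff70000300000010d2d0000200000010c930000300000010bd70000200000010b3e000030000000416100002000000109f0000010000001094d00002000000108a000003000000038ce000010000001076100001000000033310000200000002f3000002000000105930000300000010504000020000001047900003000000025e200002000000022b400002000000102af000010000001022d00002000000018de00001000000015840000300000001175000010000001006c0000200000000741)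
noncomputable def DTp81 : Nat := (nat_lit 0x300000009ec3000010000001235b000020000000890b0000300000011faf000030000000824b0000300000011d6a0000200000011c4d0000300000011b1300003000000119f6000030000001190a00002000000117f500001000000117000000100000006860000020000000652800003000000114740000300000005fc20000100000005e4c00002000000111c800001000000110e800003000000110240000200000010f530000300000010e9a0000200000010de30000100000010d2d0000100000010c930000100000010bd70000300000004380000020000000416500001000000109f0000020000001094e00003000000108a000003000000107f5000020000000366000002000000106be00003000000106300000200000002c960000200000010505000030000001047a00001000000025e3000030000001035c0000300000001e90000030000001022e00001000000018e0000020000001013900002000000100d50000200000000da70000200000000749)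
noncomputable def DTp82 : Nat := (nat_lit 0x1000000126ff000020000001235c000030000001212d0000300000011fb00000100000011e9c00003000000080060000200000011c4f0000300000011b150000200000007641000020000001190b00003000000117f50000200000006c0b0000200000011632000010000000652b0000100000011474000030000001138c00001000000112b000001000000111c800001000000110ea00001000000110240000300000010f540000100000010e9b0000200000010de40000200000004cc50000300000010c950000200000010bd800001000000043800000100000010a9300001000000109f1000020000001094f00002000000108a100001000000107f5000030000000366000003000000106be000010000001063000002000000105960000300000010506000010000001047b00001000000025e4000010000001035c0000100000001e91000010000001022e00002000000018e3000030000001013900002000000011760000300000000db20000100000000759)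
noncomputable def DTp83 : Nat := (nat_lit 0x20000001270c000010000001235d000010000001212d0000200000011fb20000200000011e9d0000300000011d6c0000300000011c4f0000100000011b1600003000000119f7000030000001190e00001000000117f60000300000006c0b000030000001163400003000000115470000300000011476000030000001138d00002000000112b100003000000111cb00002000000110eb00003000000110250000200000010f5500002000000052950000200000004ffb0000200000004cc80000100000010c950000200000010bd900003000000043860000200000010a9400003000000109f4000030000001095100001000000108a100003000000107f6000020000001076200002000000106bf000020000001063100003000000105960000100000010507000030000001047c00002000000025e5000010000001035e00002000000102b1000030000001022f00001000000018e3000020000001013b00002000000100d6000030000001006d0000200000010011)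
noncomputable def DTp84 : Nat := (nat_lit 0x300000012711000020000001235e000020000001212e00003000000085080000100000011e9d0000100000011d6d0000200000011c500000100000011b1700002000000119f8000010000001190e00003000000117f80000100000006c0c000010000001163400002000000115480000100000011477000020000001138e00003000000112b100001000000111cb00001000000110ed000030000001102600002000000055260000200000010e9c00002000000050040000300000010d2e0000100000010c960000200000010bdc0000200000010b400000200000010a9600003000000109f5000020000001095300003000000108a200003000000107f7000010000001076200002000000106c100003000000106310000300000002c9c0000300000010508000010000001047c00003000000103e3000030000001035f00001000000102b1000030000001023000002000000101ac000020000001013c00003000000100d6000010000001006d0000300000010011)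
noncomputable def DTp85 : Nat := (nat_lit 0x1000000127250000300000012363000020000001212f000020000000850c0000100000011e9e0000200000011d6f0000200000007c980000200000011b1800001000000119f800002000000073bf00001000000117f80000200000006c12000030000001163500001000000115480000200000006261000030000001138f00002000000112b30000200000005c6900003000000110ee000010000001102600003000000055260000200000010e9d00003000000050070000200000010d2f0000200000010c970000300000010bdd0000300000010b400000300000010a9700001000000109f5000030000001095300002000000108a300001000000038f8000030000001076300003000000106c1000020000001063200002000000105970000100000010508000020000001047d00001000000103e300002000000103610000100000001ec3000020000001023200002000000101ad000010000000158a00002000000100d70000100000000db90000200000010013)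
noncomputable def DTp86 : Nat := (nat_lit 0x3000000127290000300000012365000010000001212f0000300000011fb40000300000011ea00000100000011d700000200000007c990000300000011b18000020000000765100003000000073bf00002000000117fa0000300000006c1700002000000116360000300000006536000020000001147a000020000001139000003000000112b50000200000005c6a00001000000110ef00003000000110270000200000010f5700001000000052a400001000000050080000100000010d2f0000300000010c970000300000010bde0000200000010b420000100000010a970000300000003fca000010000001095400001000000108a300002000000107f8000010000001076300002000000106c2000010000001063200001000000105990000100000010509000030000001047e00003000000103e4000030000001036200003000000102b20000200000001b7e00003000000018e6000020000001013d00001000000100d70000200000000dc1000020000000076b)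
noncomputable def DTp87 : Nat := (nat_lit 0x100000012729000010000001236500001000000121320000100000011fb40000200000011ea10000200000011d710000300000011c530000200000011b190000300000007655000020000001191000001000000117fb0000100000006c1700001000000116370000200000011549000030000001147a000010000001139000002000000112b60000300000005c6d00002000000110f10000200000011028000020000000552c0000200000010e9e00003000000050090000200000010d310000300000010c980000100000010bde0000300000010b430000300000010a980000200000003fcc000030000001095500001000000108a400001000000107f8000010000000366e00002000000106c30000300000010633000020000001059a000030000001050a000020000001047f00003000000025e7000020000001036300001000000102b20000200000001b7f00003000000018e7000010000000159900002000000100d8000030000001006e0000300000000775)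
noncomputable def DTp88 : Nat := (nat_lit 0x20000001272d00003000000123660000200000012134000020000000851d0000200000011ea20000200000011d730000100000011c540000300000011b1a00003000000119f9000030000001191000003000000117fe00002000000117020000300000011638000030000001154b000020000001147b000020000001139200001000000112b60000200000005c6e00003000000059de00001000000110280000200000010f580000300000010e9f00001000000050170000300000010d310000100000010c980000300000010bdf0000100000010b430000200000010a9a00003000000109f6000010000001095500002000000108a500003000000107f9000020000000367800003000000106c40000100000010633000030000001059a000010000001050b000010000001047f00003000000103e500003000000103630000300000001eca0000300000001b8100003000000101b1000020000001013e00001000000100d90000200000000dd20000300000010014)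
noncomputable def DTp89 : Nat := (nat_lit 0x20000001272f00002000000091da0000200000012136000020000000851e0000100000011ea20000200000011d740000200000011c550000300000011b1b00003000000119fa0000100000011912000020000000701800003000000117020000200000011639000030000001154c000010000001147c0000200000005fce00003000000112b70000100000005c6e00001000000059de000020000001102a0000200000010f5a0000200000010ea00000200000010de50000200000010d320000200000010c990000100000010bdf0000300000010b440000100000010a9c00003000000109f7000030000001095600003000000108a700002000000107fb000030000001076400001000000106c40000200000010634000020000001059b000020000001050c000010000000282a00001000000103e5000020000001036400003000000102b30000100000001b8100001000000101b1000030000001013e00002000000011800000200000000ddf0000100000010014)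
noncomputable def DTp90 : Nat := (nat_lit 0x300000012731000030000001236c00003000000121370000300000011fb50000100000011ea30000100000011d740000200000007ca90000300000011b1f00001000000119fb000020000001191300002000000117ff0000100000006c1f000030000001163a000010000001154c000030000001147d000010000001139300003000000112b800003000000111cf00002000000110f2000030000001102a0000300000010f5a0000300000010ea10000300000010de50000300000010d3200003000000049250000300000010be00000200000010b460000300000010a9d00002000000109f8000030000001095700001000000108a700003000000107fc000020000001076500001000000106c60000100000002f33000010000001059b000030000001050c000030000001048000001000000103e600001000000103640000300000001ede0000200000001b8800003000000018ea000020000001013f00003000000011810000300000000de50000100000000789)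
noncomputable def DTp91 : Nat := (nat_lit 0x1000000127310000100000012375000030000001213c0000300000011fb80000300000011ea40000200000011d770000300000011c5700002000000079f4000030000000765a000030000001191400003000000118020000200000011705000020000001163b000020000001154d000020000001147e000020000001139400003000000112b900001000000111cf00003000000110f2000020000001102b0000200000010f5c0000200000010ea20000200000010de60000100000010d330000200000010c9c0000100000010be1000030000000438b0000100000010a9e0000300000003fd200002000000109580000200000003b4c00002000000107fd000030000001076600002000000106c700002000000106350000300000002ca3000020000001050d000010000001048000003000000103e700001000000103650000200000001ee40000200000001b8b00001000000018f5000010000001013f0000200000001183000030000001006f000030000000078c)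
noncomputable def DTp92 : Nat := (nat_lit 0x100000012733000010000001237b000010000000898100003000000085270000100000011ea50000100000011d790000300000007cd700001000000079f400002000000119fd000020000001191600001000000118020000300000011706000030000001163c000010000001154e000010000001147e000030000001139500001000000112ba00003000000111d000002000000110f3000020000001102c0000200000010f5d00001000000052b20000100000010de60000200000010d340000300000010c9d0000200000010be30000200000010b470000300000010a9f00002000000109f900002000000109590000300000003b4d00001000000107fd000020000001076700002000000106c90000100000002f340000100000002ca3000010000001050d000020000001048100002000000103e900003000000022da0000300000001ee80000300000001b8e00003000000018f600002000000015a400002000000011840000200000010070000030000000078d)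
noncomputable def DTp93 : Nat := (nat_lit 0x1000000127470000100000009237000020000001214100003000000085280000200000011ea60000100000011d7a0000100000007cd70000200000011b2100003000000119fd00003000000073cb00003000000070240000100000011706000010000001163c000020000001154f000030000001147f000020000001139700003000000112bb00003000000111d100001000000110f3000010000001102e0000200000010f5e0000200000010ea3000030000000501e0000200000010d35000010000000492b0000300000010be4000030000000438c0000300000010aa000001000000109f90000100000003dd70000100000003b4d00001000000107fe000030000001076700002000000106cb0000200000010636000030000001059c000030000001050e000030000000283100001000000103ea000010000001036600002000000102b40000200000001ba000002000000101b3000030000001014000003000000011880000200000000de70000200000010015)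
noncomputable def DTp94 : Nat := (nat_lit 0x3000000127480000200000009245000020000001214a0000100000011fba0000100000011ead0000100000011d7d0000300000011c580000200000011b2200003000000119fe00003000000073de00002000000118030000300000011707000020000000689f0000200000011550000010000001147f0000300000005fe800001000000112bb00002000000111d200003000000059ed000020000001102f0000300000010f5f0000300000010ea300001000000050240000300000004cd3000020000000492c0000200000010be50000100000010b480000200000010aa100002000000109fa000030000001095a0000100000003b4e00003000000107ff000020000001076900002000000106cc0000300000010636000020000001059d000010000001050e000010000000283400002000000103eb000010000001036700002000000102b5000020000001023300002000000018fb0000100000010140000010000000118900002000000100710000100000010016)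
noncomputable def DTp95 : Nat := (nat_lit 0x20000000a07a0000300000012380000020000001214d0000100000011fbc00002000000082540000100000011d7e0000100000011c590000200000011b2400001000000119fe00001000000073de0000100000011803000020000001170800001000000068a10000200000011551000020000000627a000030000001139800002000000112bc00001000000111d20000200000005a0200003000000110300000100000010f5f0000300000010ea400002000000050250000300000010d360000300000004931000030000000464000002000000043900000100000010aa10000200000003fd6000020000001095b00002000000108a80000200000010800000020000000368900003000000033610000100000002f3b000030000001059d000030000001050f000010000000283a00003000000103eb000030000001036800003000000102b6000010000001023300002000000101b4000030000001014100003000000100da00003000000100710000200000010017)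
noncomputable def DTp96 : Nat := (nat_lit 0x2000000127630000200000012388000010000001214e0000200000011fbf0000300000008254000020000000802a0000200000007cdd00001000000079f700002000000119ff00002000000073e100002000000118050000300000011709000020000001163e00001000000065540000300000011480000010000001139800003000000112bc0000300000005c7d00002000000110f600001000000110300000200000010f620000200000010ea50000200000010de70000300000010d3700002000000049340000100000010be600002000000043990000200000010aa30000300000003fd6000010000001095b00003000000108a80000100000010801000020000000369400001000000106ce0000300000010637000020000001059e0000200000010510000020000000283b00002000000103ec000010000001036800001000000102b60000200000001ba300003000000101b4000020000001014200001000000100da0000100000000df30000300000010017)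
noncomputable def DTp97 : Nat := (nat_lit 0x30000000a098000020000001238a0000200000012152000010000000853d0000100000011eae0000300000011d7f0000100000007cde00003000000079f80000300000011a0000003000000073f20000200000011807000020000001170a0000200000011640000030000001155300001000000114800000300000005ff400002000000112bd00002000000111d30000200000005a3800003000000110330000300000010f620000300000010ea60000300000010de70000200000004cd400003000000049340000300000010be800003000000043990000300000010aa30000100000003fd7000030000001095c00001000000108a90000200000010802000010000000369800003000000106cf0000100000010637000010000001059e0000100000010510000030000001048200001000000103ec00002000000022f60000100000001f040000100000010235000020000000190c000010000001014200002000000100db000020000001007200003000000007bb)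
noncomputable def DTp98 : Nat := (nat_lit 0x30000000a09d000030000001238c0000200000012155000030000000853e0000200000011eaf0000200000011d800000200000007ce40000200000011b280000100000011a0100003000000119190000300000011808000010000001170a000030000001164000001000000115530000300000011481000010000001139900001000000112bd00001000000111d700002000000110fa00001000000110330000100000010f630000100000010ea70000300000010de80000300000004cd500002000000049350000300000010be90000200000010b490000200000010aa400003000000109fb000010000001095c0000300000003b630000300000010802000020000001076b00002000000033700000100000010639000020000001059f0000300000002a44000010000000283f00003000000103ed00001000000022f70000300000001f0b000030000001023600003000000101b500002000000015ae000030000000119000003000000100720000200000010018)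
noncomputable def DTp99 : Nat := (nat_lit 0x200000012766000010000001238c00003000000089ec000020000000854f0000300000011eb10000300000011d840000300000011c5b0000100000011b280000300000011a0200002000000073f40000200000011809000020000001170b00002000000068bc00001000000115540000300000011482000030000001139b0000100000005e6c00002000000111d800003000000110fc00003000000058010000200000010f640000200000010ea90000100000010de80000200000004cd6000020000000493f0000300000010beb0000100000010b490000200000010aa500001000000109fb000020000001095d0000300000003b680000200000010803000020000001076c00002000000106d0000020000001063c000030000001059f0000300000010511000010000000284d00001000000103ed00002000000022ff0000300000001f200000300000001bb5000020000000191000003000000101430000100000001190000020000001007300001000000007c9)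
noncomputable def DTp100 : Nat := (nat_lit 0x30000001276b000030000001238d00002000000121560000100000011fc3000010000000825a0000200000011d860000200000007ce90000200000007a05000030000000765d000030000001191a000010000001180a000030000001170d00002000000068bf00003000000115550000200000006281000030000000600b0000300000005e6e0000100000005c8c00002000000110fd0000300000011035000030000000553c0000300000010eab0000200000010de90000100000004cd60000200000010c9f0000300000010bec0000300000010b4a0000300000010aa600003000000109fc000030000001095d00002000000108ab0000100000010803000030000001076c00003000000106d1000030000001063c0000100000002ca50000100000010511000030000000284f00001000000103ee000020000001036900002000000102b8000030000001023800003000000101b6000010000001014300003000000100dc0000200000000e100000200000010019)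
noncomputable def DTp101 : Nat := (nat_lit 0x10000001276b000010000001238e00003000000121590000200000011fc5000020000000825b0000200000011d880000200000007cf80000200000007a0b0000300000011a0600002000000073f5000020000000703e000020000001170f00003000000068c200003000000065570000200000006284000020000001139c00003000000112be0000200000005c8e00003000000110fe0000100000005805000010000000553c0000200000010eac0000300000010dea0000300000010d39000020000000494a0000300000010bee0000100000010b4a0000100000010aa600001000000109fc0000100000003dde00002000000108ac000030000001080400002000000036a300002000000106d2000030000001063d0000200000002ca60000200000002a47000030000000285100002000000025f4000010000001036a0000200000001f3f000010000001023800002000000101b7000020000001014400001000000100dc000020000001007400002000000007d5)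
noncomputable def DTp102 : Nat := (nat_lit 0x20000001276d000030000001238f000010000001215a0000100000011fc700002000000082610000100000011d890000300000007d190000300000011b2a0000200000011a07000010000001191b000020000000703f000020000001171000003000000068d300002000000065590000200000011484000020000000601000001000000112be00002000000111d900001000000110fe000010000000580d0000200000010f650000100000010eac00002000000050370000200000010d3b0000300000010ca00000100000010bef000030000000439f000010000000416f00002000000109fd0000200000003de100001000000108ad0000100000010804000030000001076d00003000000106d30000300000002f550000300000002ca60000300000010513000030000001048400002000000025f6000020000001036b00001000000102b90000200000001bc000001000000101b800001000000015bb00002000000100dd0000100000010074000030000001001a)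
noncomputable def DTp103 : Nat := (nat_lit 0x30000001277400003000000092b5000010000001215e0000100000011fc800002000000082660000100000011d8b0000100000011c600000300000011b2c0000300000011a09000020000001191d000020000001180b000030000001171100001000000068d300002000000115580000300000011485000020000001139e00002000000112bf0000200000005c9100002000000110ff00002000000110360000300000010f6500002000000052cd0000300000010deb0000200000004cdf0000100000010ca00000300000010bf100002000000043a60000300000010aa700003000000109fd0000300000003de200002000000108ae000020000000390c000010000001076d00001000000106d3000030000001063e0000200000002ca70000100000010513000020000001048600003000000025fa000030000001036b00002000000102ba0000300000001bc000001000000101b9000010000001014500003000000100dd0000200000000e19000020000001001b)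
noncomputable def DTp104 : Nat := (nat_lit 0x10000001277400003000000123990000300000008a17000020000000856f0000300000011eb200001000000080340000100000007d430000300000011b2d0000100000011a0a000030000001191d00002000000070430000200000011712000030000001164700002000000115590000100000011485000030000001139f0000300000005e7300003000000111db0000100000005a4d00003000000110360000100000010f660000200000010ead0000100000010deb0000200000004ce20000200000010ca30000300000010bf300003000000043b20000200000010aa800002000000109ff0000100000003de700002000000108af0000100000010805000030000001076e00002000000106d4000020000001063f00002000000105a10000300000010514000020000000285700001000000025fa000020000001036c00003000000102bb0000200000001bc500002000000101ba00002000000015cb00003000000011910000100000000e2e00003000000007df)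
noncomputable def DTp105 : Nat := (nat_lit 0x3000000127770000300000009300000030000001216100002000000085830000100000011eb20000300000011d8f0000200000007d470000100000011b2d0000300000007662000020000001191e000030000001180c0000200000006c330000100000011647000020000000656f0000200000011486000030000000601800002000000112c000001000000111db0000200000005a4e00002000000110370000300000010f670000300000010eae0000300000010dec0000300000010d3c0000300000010ca30000100000010bf300001000000043b20000100000010aa80000300000010a000000300000003dea00003000000108b0000020000001080600002000000036ac00003000000106d4000020000001064000003000000105a20000200000010515000020000000285800003000000103ef000010000001036c0000100000001f5f0000300000001bc600003000000101ba00003000000015d700002000000011a50000200000000e5f00002000000007f1)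
noncomputable def DTp106 : Nat := (nat_lit 0x300000012778000030000001239d00001000000121620000100000011fcd00002000000082820000100000011d8f0000100000011c620000200000011b2e0000200000011a0d0000300000007400000010000001180c00003000000117130000200000011648000030000001155a000030000001148a00002000000113a100003000000112c200002000000111dc000030000001110300001000000110370000100000010f670000100000010eaf0000300000010ded0000100000010d3c0000100000010ca4000010000000465b00002000000043b30000300000010aa90000200000003fe4000020000001095f00001000000108b0000030000001080600001000000036ad00002000000106d5000030000001064000002000000105a30000300000010516000030000001048700001000000103ef000020000000230c0000200000001f630000200000001bce00003000000101bb00002000000015d800003000000011da0000100000000e650000300000000811)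
noncomputable def DTp107 : Nat := (nat_lit 0x30000001277b000020000001239f00002000000121630000300000011fcf00002000000082830000300000011d900000300000011c630000200000007a1b0000100000011a0e000010000001191f000020000001180d0000100000006c410000300000011648000020000001155b000020000001148b00001000000113a100001000000112c300003000000111df000010000001110400003000000110380000200000010f6800003000000052d20000200000010def0000200000004ce7000030000000495b0000300000010bf600001000000043b40000200000010aab0000100000003fe4000010000001095f0000300000003b6a0000200000010807000010000001076f00003000000106d5000020000001064100001000000105a30000100000010516000010000001048700002000000103f0000030000001036d00002000000102bd0000100000001bcf00001000000101bb000030000001014600003000000100de0000300000010076000030000001001c)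
noncomputable def DTp108 : Nat := (nat_lit 0x30000000a15400003000000123a200001000000121630000200000011fd00000100000011eb60000100000011d920000300000011c640000300000007a1f0000200000011a0f0000200000011920000010000001180e0000200000006c4300002000000116490000300000006570000020000001148c00003000000113a20000300000005e7700003000000111e2000030000001110500001000000110380000300000010f690000300000010eb000003000000050470000200000004ced000010000000495b0000100000010bf700002000000043bb0000300000010aac0000300000003fe6000030000001096000003000000108b10000100000010807000020000001077000001000000106d600001000000106410000300000002cab00001000000105170000300000010488000030000000261b000030000001036e00003000000102bd000030000001023a00002000000101bc000010000001014600001000000011e50000100000010076000010000001001c)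
noncomputable def DTp109 : Nat := (nat_lit 0x1000000127aa00002000000123a600002000000121640000300000011fd10000300000011eb90000200000011d930000100000011c640000300000007a220000300000011a11000020000001192100001000000070450000100000011714000020000001164c0000200000006573000020000001148d000020000000601e00001000000112c400001000000111e20000300000011107000030000001103a0000100000010f690000100000010eb0000030000000504e0000300000010d3f0000100000010ca5000020000000466100001000000043bb0000300000010aad0000200000003fed0000300000003dec00003000000108b2000020000000391d00002000000036b3000020000000337b0000200000002f560000100000002cab0000300000002a62000020000000285b000030000000261c000020000001036f00003000000102be000010000001023a000020000000192400002000000015e700003000000011e70000300000010077000020000000082a)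
noncomputable def DTp110 : Nat := (nat_lit 0x2000000127ab00003000000123a80000200000012165000020000000858c0000200000011eba0000300000011d940000200000007d600000200000007a2d0000200000011a12000030000001192100002000000118100000300000006c54000020000001164d000020000001155d000030000001148d00002000000113a30000100000005e7800001000000111e40000300000011109000020000001103b0000300000010f6a00002000000052d8000020000000504f0000300000010d400000200000010ca600003000000046610000100000010b4b0000300000010aae0000300000010a010000300000003def00002000000108b300003000000039230000300000010771000020000000338500001000000106420000100000002cad0000100000010518000030000000285f00001000000103f2000030000001036f00001000000102be000020000001023b0000200000001927000020000001014700002000000011ec0000100000010077000030000000083a)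
noncomputable def DTp111 : Nat := (nat_lit 0x1000000127ad00002000000123b10000200000008a1e0000300000011fd20000300000011eba0000100000011d940000300000011c670000300000007a330000200000011a14000010000001192200002000000070500000200000011715000030000001164d000030000001155d000020000001148f00003000000113a300002000000112c50000100000005c9c0000200000005a5000003000000058140000200000010f6c00003000000052e10000200000010df00000100000010d400000300000010ca60000200000010bfa00003000000043bc0000200000010ab00000100000010a010000200000003df000001000000108b400002000000039260000100000010771000010000000338700003000000106440000200000002cae0000200000010519000020000000286000002000000103f3000020000001037000003000000102bf000020000001023c00001000000101bd00003000000015eb00001000000011ed0000100000010078000020000001001d)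
noncomputable def DTp112 : Nat := (nat_lit 0x1000000127b300001000000123b800002000000121700000200000011fd40000200000011ebc0000100000011d950000200000011c680000100000011b330000100000011a14000010000001192400001000000118110000100000011716000020000001164e000010000001155e000020000001149100003000000113a400003000000112c500002000000111e50000300000005a50000020000001103d000030000000554b00001000000052e60000100000010df10000200000010d410000200000010ca70000100000010bfa0000200000010b4c00003000000041750000200000003fee0000100000003df000002000000108b6000030000001080800002000000036b400002000000106d7000020000001064600003000000105a40000300000002a6300001000000028640000100000002624000030000001037000001000000102bf0000100000001bd700003000000101be00003000000015ee00002000000012050000200000010079000010000001001d)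
noncomputable def DTp113 : Nat := (nat_lit 0x2000000127b500001000000123be00001000000121730000200000011fd80000100000011ebc0000300000011d960000300000007d6d0000100000011b350000200000011a15000030000001192700003000000070570000200000006c6f000010000001164e000030000001155f000030000001149100001000000113a400003000000112c600003000000111e5000010000001110b000020000001103e000020000000554d0000200000010eb200002000000050690000300000004cf10000100000010ca700003000000046620000100000010b4c00001000000041750000300000010a03000020000001096100001000000108b600002000000108090000300000010772000020000000338e000020000001064700001000000105a40000300000002a64000020000001048a00002000000103f400002000000023300000200000001f6f000030000001024100001000000019310000100000001605000010000000120600003000000100790000300000000849)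
noncomputable def DTp114 : Nat := (nat_lit 0x3000000127b500002000000123c600002000000121740000100000011fd90000100000011ebd0000300000011d980000300000011c6f0000300000011b360000200000011a170000300000011928000030000000705b0000200000006c70000020000001164f0000200000011560000010000001149300002000000113a500002000000112c700002000000111e70000200000005a51000020000001103f0000100000005560000010000000530c0000300000010df30000200000010d420000300000010ca800002000000046650000300000010b4d0000100000010ab10000200000003ff5000030000001096100003000000108b7000010000001080900002000000036bf0000200000003391000030000001064700002000000105a50000200000002a65000030000001048a00003000000103f5000030000000233500002000000102c0000010000001024100003000000101bf000020000000160700002000000100e0000020000001007a0000300000000860)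
noncomputable def DTp115 : Nat := (nat_lit 0x2000000127b800002000000123c800002000000121760000300000011fda0000200000011ebe0000200000011d990000100000011c6f0000100000011b380000100000011a19000030000001192c00002000000070650000200000006c75000030000001164f0000200000011563000020000001149400002000000113a600002000000112c800003000000111e80000200000005a5200003000000110400000300000010f6f00003000000053190000300000010df40000300000010d420000200000010ca900003000000046680000200000010b4e00001000000041760000300000003ff5000020000001096200001000000108b7000030000001080c00002000000036c800001000000033930000200000002f5f00003000000105a7000020000001051a000020000001048c00001000000103f500003000000023420000200000001fad0000200000001be800001000000101bf000030000000161100001000000100e00000300000000e6d000010000001001e)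
noncomputable def DTp116 : Nat := (nat_lit 0x1000000127ba00003000000093b000002000000121790000100000011fda0000200000011ebf00002000000080360000200000011c750000200000011b390000200000011a1c000020000001192d0000200000011812000030000001171900002000000116510000300000006578000030000001149400003000000113a800003000000112c800001000000111e8000020000001110c00002000000110410000100000010f6f0000200000010eb40000100000010df40000100000004d0e0000200000010caa0000200000010bfb00002000000043bf0000300000010ab20000200000010a050000200000003dfb00003000000108b9000030000001080d000030000001077300002000000106d9000020000001064800001000000105a7000030000001051a000020000001048d00002000000103f7000030000000234e00003000000102c10000300000001be800002000000019480000100000001611000030000000121c000020000001007b0000100000000861)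
noncomputable def DTp117 : Nat := (nat_lit 0x2000000127bb00002000000123cf0000300000008a620000200000011fdc000030000000829400003000000080370000200000007d710000300000011b390000300000011a1f000010000001192d0000300000011812000010000001171c00002000000068f90000100000011566000010000001149500003000000113a900003000000112c90000200000005cab0000100000005a5500002000000110420000200000010f70000030000000531a0000100000010df60000200000010d44000020000000497b0000200000010bff00002000000043c10000300000010ab30000300000010a050000300000003dfd00003000000108ba000030000000393500001000000036d300001000000033aa000030000001064800002000000105a80000100000002a66000030000001048d00001000000103f7000020000001037100001000000102c10000100000010242000030000000194d0000200000001612000020000000121f000030000001007c0000300000000893)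
noncomputable def DTp118 : Nat := (nat_lit 0x20000000a17d00003000000123f8000030000001217a0000300000011fdd0000300000011ec30000300000011d9a0000100000007d990000300000007a3c0000100000011a1f000020000000741a0000300000011813000030000001171d0000200000011652000030000000657f000020000001149700002000000113aa00002000000112ca0000300000005cae000010000001110d00001000000110420000200000005564000010000000531c0000300000010df70000200000004d14000010000000497c0000300000010bff00003000000043c60000100000010ab40000100000010a060000200000003dfe00003000000108bd000020000001080e000020000001077400002000000033ab000020000001064a00003000000105a80000300000002a68000020000001048e00003000000103f800003000000103720000200000001fb10000200000001bec000020000000194f000010000000161400003000000100e10000300000000e730000200000010020)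
noncomputable def DTp119 : Nat := (nat_lit 0x3000000127c900001000000123f9000030000001217c0000100000011fde0000300000011ec40000200000011da00000300000011c7a0000300000007a540000300000011a21000030000000741e0000100000011813000010000001171d00003000000116520000300000011568000010000001149800003000000113ab00002000000112cb0000100000005cae000020000001111100002000000058190000300000010f71000020000000531f0000100000010df70000100000010d4600002000000049860000200000010c0100001000000043c60000100000010ab50000300000010a070000100000003dfe00002000000108be000030000000393b000030000001077500002000000106da0000300000002f6100002000000105aa0000100000002a6a000010000001048e00003000000103f900001000000103720000100000001fb9000020000001024300003000000101c0000030000000162300001000000100e10000300000000e750000200000000896)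
noncomputable def DTp120 : Nat := (nat_lit 0x1000000127ca00002000000124000000300000012180000020000000859100002000000082970000100000011da00000100000007da10000200000007a5b0000200000011a2200002000000074280000200000011814000020000001171e00001000000116530000200000011569000020000001149900002000000113ac00003000000112cc0000200000005caf0000300000011112000030000000581a0000100000010f7100001000000053200000200000010df80000200000010d47000010000000498a000020000000466f00003000000043c80000200000010ab60000300000010a080000300000003e0000001000000108be0000200000003940000020000001077600003000000106da0000200000002f690000200000002cb4000010000001051b000020000001048f00001000000103f9000010000000235d0000100000001fbb000030000001024300002000000101c1000020000001014800003000000100e20000300000000e770000200000010021)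
noncomputable def DTp121 : Nat := (nat_lit 0x2000000127cb000010000001240100001000000121810000100000011fdf0000300000011ec60000200000011da10000300000011c7c0000200000007a5e0000100000011a22000020000001192f000020000001181500003000000117200000200000011654000030000000658c000020000001149d00001000000113ac00002000000112cd00001000000111ea000010000001111200002000000110430000200000010f720000300000010eb50000100000010dfa0000100000010d48000020000000498c0000100000010c0200002000000043d40000300000010ab70000100000010a08000020000001096300003000000108bf0000200000003942000030000001077600003000000033b20000200000002f6c00002000000105ab000020000001051d000010000000288c00002000000103fa000030000000235f00002000000102c2000030000001024400001000000101c1000030000001014800003000000100e30000300000000e8a0000300000010021)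
noncomputable def DTp122 : Nat := (nat_lit 0x20000000a18600003000000124020000100000008a7e0000100000011fe10000200000011ec70000100000011da30000200000011c7e0000200000011b3d0000300000011a23000030000001192f000030000001181700002000000117210000300000011655000020000001156b000030000001149e00002000000113af0000300000005e7d00002000000111eb0000300000011113000030000001104400002000000055710000100000010eb50000300000010dfb0000300000004d250000200000010cad0000300000010c0400003000000043d80000100000010ab70000200000003ffc000010000001096300003000000108c00000300000003945000020000001077700001000000033b20000300000002f7b00003000000105ab000020000001051e000020000000288f00003000000103fb000010000000236000001000000102c30000200000001bf900003000000101c2000030000000162b00001000000100e30000300000000e8b0000100000000897)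
noncomputable def DTp123 : Nat := (nat_lit 0x3000000127f5000020000001240400003000000121860000100000011fe30000100000011ec70000200000011da40000100000011c7f0000200000011b3e0000100000011a23000020000001193000002000000118190000200000006c800000100000011655000020000000659d00002000000114a100002000000113b10000100000005e7d00003000000111ed000020000001111500001000000110440000200000010f73000020000000532200001000000050760000100000010d490000300000010cad0000100000010c070000100000010b4f0000300000010ab80000300000003ffd0000300000003e0700001000000108c00000100000003945000010000001077700001000000033b30000100000002f7b00001000000105ac000030000001051e000020000000289000002000000103fc000020000001037300003000000102c4000020000001024500001000000101c2000020000000162c00002000000100e4000030000001007d000030000000089a)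
noncomputable def DTp124 : Nat := (nat_lit 0x1000000127fb000020000001240500001000000121860000200000011fe40000100000011ec80000300000011da60000200000011c800000100000007a6d0000300000011a240000100000011930000030000001181a00002000000117220000200000011656000020000001156c00003000000114a100002000000113b300002000000112ce00003000000111ee000030000001111500003000000110450000300000010f7300003000000053270000300000010dfc0000300000004d2c0000300000010cae0000200000010c080000100000010b500000200000010ab90000100000003ffe00003000000109640000200000003b7f000030000001080f00003000000036e300002000000106dc0000200000002f8300003000000105ad000020000001051f000030000001049000001000000103fc00003000000103730000100000001fd100003000000102460000200000001950000030000000162d000030000000122e000010000001007d0000200000010022)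
noncomputable def DTp125 : Nat := (nat_lit 0x20000001280100003000000094b60000200000012187000030000000859f0000300000011ec90000100000011da70000200000007dae0000100000007a6e0000200000011a250000300000011931000010000001181a00001000000117220000300000011657000030000001156f00003000000114a300002000000113b400003000000112ce00002000000111ef000010000001111600001000000110450000200000005574000020000000532d0000100000010dfc0000200000010d4b0000100000010cae0000300000010c080000300000010b510000100000010ab90000300000010a090000100000003e090000300000003b80000030000000396000001000000036e400003000000106dc0000300000002f8500003000000105ae0000300000002a7d000010000001049000003000000103fd000010000001037400002000000102c5000010000001024600003000000101c30000200000010149000030000000122f000020000001007e0000200000010023)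
noncomputable def DTp126 : Nat := (nat_lit 0x20000001281600003000000124070000300000012188000010000000859f0000100000011ec90000300000011da90000300000011c810000200000011b400000300000011a260000100000011931000020000001181b00002000000117240000100000011658000030000001157100001000000114a300003000000113b700002000000112cf0000200000005cb50000100000011117000030000001104600003000000055740000300000010eb60000100000010dfd0000300000004d350000300000010cb1000010000000467b0000100000010b510000200000010aba0000100000010a090000300000003e0a00002000000108c1000020000001081000001000000036e600003000000106dd000020000001064b00001000000105ae0000200000002a7e000020000001049100002000000103fe000030000001037500002000000102c60000100000001c0100003000000101c4000030000001014900003000000100e5000020000001007f0000100000010023)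
noncomputable def DTp127 : Nat := (nat_lit 0x10000001282b0000100000012407000010000001218800002000000085b00000200000011eca0000100000011da90000100000011c820000300000011b410000300000011a270000300000011932000030000001181c0000200000006c92000030000001165900001000000065a0000030000000629100003000000113b800001000000112cf00003000000111f1000020000001111b00002000000110470000200000010f75000020000000533300003000000050770000100000010d4e0000100000010cb10000300000010c090000200000010b530000100000010aba0000300000010a0a000020000001096500003000000108c1000010000000396200002000000036f000001000000106dd0000200000002f8d00002000000105af0000300000010520000030000001049100003000000103fe000010000001037500002000000102c70000300000001c0200001000000101c400002000000016350000300000001232000010000001007f00001000000008ac)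
noncomputable def DTp128 : Nat := (nat_lit 0x30000001282c00003000000094c5000020000001218f00002000000085b30000200000011ecb0000100000011daa0000200000007ddb0000300000007a790000100000011a280000200000011934000010000001181c0000200000006c96000010000001165900003000000065a500002000000114a600002000000113ba0000100000005e7e00001000000111f1000010000001111b0000100000011047000020000000557b0000300000010eb700002000000050790000200000010d4f00001000000049ae0000100000010c090000200000010b540000300000010abb0000100000010a0a00003000000109650000100000003b86000030000001081300003000000036f200002000000106e00000300000002fa500003000000105b000001000000105200000200000010492000030000000263f000020000001037600003000000102c700001000000102470000200000001955000010000000163500002000000012330000100000000e960000300000010024)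
noncomputable def DTp129 : Nat := (nat_lit 0x20000001282f000030000001240c00001000000121910000300000011fe60000300000011ecb0000300000011dae0000200000007e030000300000011b45000020000000767c0000300000011935000020000001181d0000300000006c9b000030000000691600001000000065a500003000000114a600002000000113bb0000200000005e8100002000000111f2000030000001111c000030000000581f0000200000010f770000200000010eb80000200000010dfe0000200000010d500000300000010cb20000300000010c0a0000300000010b540000100000010abb0000200000003fff0000300000003e0b0000100000003b890000200000010814000020000001077800002000000106e1000020000001064c00003000000105b10000300000002a84000010000001049200003000000103ff000020000000236600002000000102c8000020000001024800003000000101c5000030000001014a00001000000012330000200000000ea00000100000010024)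
noncomputable def DTp130 : Nat := (nat_lit 0x100000012830000030000001240d00003000000121940000200000011fe80000200000011ecc0000300000011daf0000300000011c860000300000011b46000010000000768b0000200000011937000030000001181d0000100000006c9b000030000001165c000010000001157400001000000114a700003000000113bb00002000000112d000003000000111f3000010000001111c000010000000581f0000100000010f790000200000010ebb000020000000507c0000100000010d500000100000010cb20000100000010c0a00002000000043ec000030000000418800002000000040000000200000003e0d0000200000003b8d000030000001081500003000000036f600003000000106e2000030000001064c00002000000105b20000100000002a8500002000000028950000200000010400000030000000236d00001000000102c80000200000010249000030000000195e000010000001014a000020000000123700002000000100800000200000010025)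
noncomputable def DTp131 : Nat := (nat_lit 0x20000001283100003000000094d9000010000001219400002000000085c20000200000011ecf0000300000011db00000100000011c860000300000011b48000020000000768e000030000001193800002000000070730000300000011727000020000001165d000010000001157500003000000114a800002000000113bc00001000000112d000001000000111f3000020000001112100001000000110490000300000010f7a000020000000533b0000300000010dff0000200000010d520000300000010cb3000030000000467c00002000000043f1000030000000418b000030000000400000002000000109660000200000003b90000010000001081500001000000036f600001000000106e2000020000001064d00003000000105b30000100000002a8600003000000104930000100000010400000010000000237600003000000102c9000030000001024900003000000101c6000030000001014b000020000000123e00003000000100800000300000010025)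
noncomputable def DTp132 : Nat := (nat_lit 0x20000001283600001000000094da00003000000121960000200000011fe90000100000011ed00000200000011db20000200000007e080000100000011b48000020000000769100001000000119380000300000011820000020000001172b000030000001165f000020000001157600002000000114a900001000000113bc0000200000005e8700003000000111f50000200000005abb000020000001104a0000100000010f7b000010000000533c0000100000010dff0000300000010d530000200000010cb4000010000000467d0000300000010b550000100000010abc0000300000010a0b0000200000003e150000300000003b90000010000000396300001000000036f700003000000106e3000010000001064e00002000000105b40000100000002a8d00001000000104930000300000002641000020000001037700001000000102c9000020000001024a00003000000101c7000020000001014c00003000000100e6000020000001008100002000000008c5)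
noncomputable def DTp133 : Nat := (nat_lit 0x30000000a351000020000001240e00002000000121970000200000011feb0000100000011ed20000300000011db20000300000007e0c0000200000011b4a0000300000007691000010000001193a0000100000011820000010000001172c000010000000691d000020000001157900003000000114a900001000000113bd00001000000112d200001000000111f50000300000005ac0000020000001104b00002000000055880000200000010ebf0000200000010e000000100000010d5300002000000049ca0000300000010c0b0000200000010b5600002000000041910000100000010a0b000010000001096b0000100000003b980000200000010816000030000001077900001000000106e40000200000002fd800001000000105b40000200000002a92000010000000289c0000100000002642000030000001037700002000000102cb000020000001024b00002000000101c8000020000000163a00002000000100e7000030000001008200002000000008c8)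
noncomputable def DTp134 : Nat := (nat_lit 0x20000001286600003000000094dc00003000000121970000300000011feb0000200000011ed30000100000011db30000300000011c870000100000011b4b0000300000011a2a000010000001193b0000200000011821000010000001172e000030000001166000002000000065b600003000000114aa00002000000113bf00003000000112d300003000000111f60000200000011123000030000001104b000010000000558c0000200000010ec10000300000010e000000200000004d460000100000010cb50000100000010c0c0000300000010b5800003000000041930000100000004003000020000001096c0000300000003b9b0000300000010817000020000001077a00002000000033ca0000200000002fe300003000000105b5000020000001052100002000000104940000200000002646000020000001037900002000000102cc0000200000001c0700001000000101c8000010000001014d00002000000100e8000010000001008200003000000008cc)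
noncomputable def DTp135 : Nat := (nat_lit 0x200000012871000010000001240f00002000000121990000200000011fef0000100000011ed40000100000011db40000200000011c880000300000011b4e0000300000011a2d000020000001193c00002000000070770000200000011730000010000001166000003000000065b600001000000114aa000030000000605700002000000112d400003000000111f70000300000011124000010000001104c000030000000559f000010000000533f0000200000010e010000300000010d5400001000000049d60000300000010c0d0000200000010b5a00001000000041930000300000010a11000030000001096d0000200000003b9c0000300000010818000010000001077b00003000000106e5000030000001065000002000000105b6000020000001052200003000000104950000300000002646000030000001037900003000000102cc0000200000001c09000020000000196e000020000001014e00001000000100e8000020000001008300001000000008cc)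
noncomputable def DTp136 : Nat := (nat_lit 0x30000001288100003000000094dd000020000001219a0000300000011fef0000100000011ed50000300000011db50000100000011c880000300000011b4f0000200000011a2f000030000001193d000030000000707700001000000117300000300000011661000020000001157b00002000000114ab000010000000605700003000000112d400001000000111f70000100000011124000030000001104d000010000000559f00002000000053410000300000010e020000100000010d540000300000010cb60000100000010c0d00002000000043f300003000000041940000100000010a12000010000001096d00003000000108c30000100000010818000020000001077c00001000000106e5000020000001065100003000000105b60000100000002a9a00001000000104950000100000002647000020000001037a0000200000001fec0000300000001c120000200000001970000030000001014e00003000000100e90000300000000ead0000200000010026)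
noncomputable def DTp137 : Nat := (nat_lit 0x1000000128810000100000012415000030000001219c0000100000011ff00000200000011ed60000200000011db60000300000011c890000300000011b510000200000011a31000010000001193d00001000000070780000200000006ce10000200000006921000030000001157c00003000000114ac000030000000605800001000000112d500002000000111f90000200000011125000010000001104d0000200000010f7c00003000000053410000200000010e030000200000004d590000100000010cb60000200000010c0f0000200000010b5b00001000000041950000200000010a130000300000003e1900002000000108c4000020000001081a000030000001077c00001000000033db000030000001065100003000000105b70000300000002a9d00002000000104960000300000002648000030000001037a0000100000001fec0000200000001c130000100000001974000010000001014f000020000000124800003000000100840000300000010026)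
noncomputable def DTp138 : Nat := (nat_lit 0x200000012885000010000001241c0000100000008a990000200000011ff100003000000082a10000200000011db90000100000011c890000100000011b5200003000000076a80000200000011941000020000000707b00003000000117320000100000006923000010000001157c00001000000114ad00003000000113c10000300000005e8800003000000111fb0000300000011125000030000000582200002000000055a400002000000053470000300000010e030000100000010d560000200000010cb70000300000010c0f0000300000010b5b0000200000010abd0000300000010a130000200000003e1b0000200000003b9e000030000001081b000020000001077d00001000000033df0000300000002fe70000200000002ccc0000200000002aab00002000000104980000100000002648000030000001037b00003000000102cd0000100000001c1300003000000101c90000200000010150000010000000124900001000000100840000200000010027)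
noncomputable def DTp139 : Nat := (nat_lit 0x300000012885000020000001241d000030000001219d0000300000011ff20000200000011ed70000300000011dba0000300000011c8b0000300000011b5300001000000076a80000300000011941000020000001182200002000000117340000300000011665000020000001157d00003000000114ae00001000000113c100002000000112d600001000000111fb0000200000011127000020000001104e0000200000010f7d0000300000010ec20000200000010e040000300000010d570000300000010cb7000020000000468e0000100000010b5c000020000000419e0000100000010a140000300000003e1d00003000000108c60000100000003986000030000001077e00003000000106e70000200000002fe90000300000002ccc00002000000105230000300000010499000020000000264f000030000001037c0000300000002001000020000001024c00002000000101ca0000200000001662000020000000124a000030000001008500002000000008d1)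
noncomputable def DTp140 : Nat := (nat_lit 0x30000000a4d30000100000012420000020000001219e0000200000011ff40000100000011ed90000300000011dbb0000300000011c8c0000300000011b540000100000011a330000100000011942000030000000709700002000000117350000100000011665000030000001157d00001000000114af00002000000113c300002000000112da0000200000005cbd000020000001112800003000000110500000300000010f7d0000100000010ec20000100000010e050000100000010d570000200000010cb800002000000046960000300000010b5d0000200000010abe0000300000010a15000020000001096e00001000000108c6000020000001081e000020000001077f00001000000106e70000200000002ff70000300000002cd6000010000001052300003000000028b9000010000000265000002000000023880000200000002007000020000001024d00001000000101ca000030000001015100003000000100ea00001000000100850000300000010028)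
noncomputable def DTp141 : Nat := (nat_lit 0x20000001289d0000300000009503000030000001219f0000300000011ff40000200000011edc0000200000011dbc0000300000011c8e0000300000011b560000300000011a34000010000001194300003000000118230000300000011736000020000000693e000030000001157f000010000000629c00003000000113c400001000000112da00001000000111fc000020000001112a000020000001105100002000000055ae0000100000010ec300002000000050870000300000010d5b0000100000010cb800001000000046970000300000010b5e00002000000041a50000200000010a16000030000001096e00002000000108c7000020000001081f000010000001077f00003000000106e8000020000000300900003000000105b80000100000002aad00002000000028bf0000300000010401000010000000238800001000000102ce000030000001024e00003000000101cb000010000001015100001000000100ea00002000000100860000100000010028)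
noncomputable def DTp142 : Nat := (nat_lit 0x20000000a52400003000000124210000200000008aab0000100000011ff500002000000082ad000010000000804f0000100000011c8f0000200000011b580000100000011a35000020000000742b000030000001182500001000000117360000200000011666000020000001158000003000000114b200001000000113c400003000000112dc00003000000111fd000030000001112a000020000001105300001000000055ae0000200000010ec40000100000010e060000100000010d5b0000100000004a1a0000300000010c150000100000010b5e00003000000041a50000100000010a160000100000003e200000200000003ba1000030000001081f00003000000036f900002000000033e8000030000000301800001000000105b8000030000001052500002000000028c00000100000010401000020000000238a00003000000102cf000010000001024e00001000000101cb000020000000166300002000000100eb000030000001008600003000000008d3)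
noncomputable def DTp143 : Nat := (nat_lit 0x3000000128d200002000000124230000100000008aab0000100000011ff600002000000082b200002000000080530000200000011c900000200000011b5a0000200000011a36000020000000742e00002000000118260000300000006d010000300000011666000010000001158000002000000062a100003000000113c600001000000112dc00002000000111fe000020000001112b00003000000110540000300000010f7e000020000000534d0000200000010e070000300000010d5c0000200000004a240000200000010c170000300000010b5f0000300000010abf0000300000010a17000030000001096f00003000000108c800002000000039a1000010000001078000003000000033f0000020000000301b00002000000105b9000010000001052500002000000028c40000200000010402000030000001037d00003000000102d00000100000001c2900003000000101cc000030000000166e00003000000100eb000020000001008700002000000008eb)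
noncomputable def DTp144 : Nat := (nat_lit 0x1000000128d2000020000000954e00003000000121a00000200000011ff80000300000011ede0000100000011dbe0000200000007e270000300000007ab400002000000076ad0000100000011947000030000001182700001000000117370000200000011667000030000001158100001000000062a3000020000000605d00003000000112dd00003000000111fe000010000001112b00003000000110550000100000010f7e00003000000053530000300000010e070000300000010d5d0000200000010cb90000300000010c170000200000010b610000100000010abf0000300000010a19000010000001096f00003000000108c9000030000001082000001000000036fc00003000000033fa000020000000301f0000300000002cda0000300000010526000020000001049a0000300000010402000010000001037d00001000000102d0000020000001024f0000200000001996000010000000166f00002000000100ec000010000001008700001000000008eb)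
noncomputable def DTp145 : Nat := (nat_lit 0x300000012903000020000000955000001000000121a00000200000011ffa0000300000011ee20000300000011dbf0000300000007e290000100000007ab500003000000076ae000020000000743b0000200000011828000020000001173a0000100000011667000020000001158200002000000114b3000030000000606200002000000112df00001000000111ff000030000001112d000020000001105600003000000055b00000200000010ec700002000000050970000200000004d860000300000010cbb0000100000010c180000300000010b6200002000000041a60000100000010a1900002000000109700000200000003bab000010000001082000002000000036ff00001000000033fb000030000000301f00002000000105ba0000100000010526000010000001049b0000300000010403000020000001037e000030000000202000003000000102510000300000001997000030000001015200001000000100ec000030000001008800001000000008f1)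
noncomputable def DTp146 : Nat := (nat_lit 0x200000012905000030000000955000002000000121a30000100000011ffa0000300000011ee50000100000011dc00000100000007e290000300000011b5c00001000000076ae00003000000119480000100000011828000020000001173b0000200000011669000020000001158300003000000114b3000030000000606300003000000112e000001000000112000000200000005ae100002000000110570000300000010f800000300000005354000020000000509f0000200000010d600000100000010cbb0000300000010c190000100000010b620000300000010ac00000200000010a1b000010000001097000002000000108cb0000200000010821000020000001078200001000000106e9000030000001065300001000000105ba0000200000002aca00003000000028d20000100000010403000030000001037e00002000000102d200003000000102520000100000001997000020000001015300002000000100ed000010000001008800001000000008f5)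
noncomputable def DTp147 : Nat := (nat_lit 0x200000012906000010000001242600003000000121a40000200000011ffb0000100000011ee60000300000011dc10000300000007e2f0000200000007ab700003000000076b2000020000001194900003000000070a10000300000006d240000300000011669000030000001158300001000000062a600003000000113ca00001000000112e20000300000011201000030000001113100003000000110580000200000010f820000300000010ec900003000000050a90000200000010d610000200000004a310000100000010c1a00002000000043f80000200000010ac200002000000040050000300000003e2400001000000108cb0000100000010821000030000001078200003000000106ea00001000000106530000200000002ce5000020000001052900002000000028d90000200000010404000020000001038000002000000102d30000300000001c4b0000200000001999000010000001015400003000000100ed00002000000100890000200000000903)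
noncomputable def DTp148 : Nat := (nat_lit 0x200000012910000020000000955a0000100000008ad70000300000011ffc0000100000011ee700002000000080640000200000011c930000300000007ab70000200000011a37000010000001194900001000000070a20000100000006d24000030000001166b000020000001158400002000000114b400002000000113cc00003000000112e40000200000011202000020000001113200003000000110590000300000010f820000300000010eca0000100000010e080000300000010d630000300000004a310000300000010c1b00003000000043f80000100000010ac30000300000004007000030000001097100002000000108cc0000200000010822000020000001078300001000000106eb00003000000030360000200000002cea000030000001052a00003000000028de0000200000002655000030000001038100003000000102d30000300000001c4e00003000000101cd000010000000167700003000000100ee000030000001008a0000200000010029)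
noncomputable def DTp149 : Nat := (nat_lit 0x30000000a5d5000030000000957b00001000000121a50000300000011ffd0000300000011eec000020000000806b0000300000011c940000300000011b5f0000100000011a37000020000001194c000020000001182b000030000001173c000010000001166c000030000001158500003000000114b5000030000000606500002000000112e500001000000112030000200000011133000010000001105a0000100000010f83000030000000535b0000100000010e0a0000100000010d630000200000004a370000100000010c1b0000200000010b640000300000010ac4000020000000400900001000000109710000300000003bbd0000100000010822000020000000371a00003000000106ee00002000000106550000100000002cf2000020000001052c00002000000028e20000300000002656000010000001038200001000000102d40000200000001c4f00002000000101ce000030000000167b0000200000001271000010000001008a0000300000010029)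
noncomputable def DTp150 : Nat := (nat_lit 0x20000000a5dd000030000001242b00003000000121a600003000000085cf0000100000011eec0000200000011dc30000300000011c960000100000011b600000300000011a39000030000001194d000030000001182d000030000001173d0000200000006958000020000001158600003000000114b700003000000113cd00001000000112e600002000000112050000200000011134000020000000582c00002000000055b1000020000000535c00002000000050bb0000200000010d640000300000010cbd0000300000010c1d0000100000010b640000200000010ac50000200000010a1d00002000000109720000100000003bbd0000100000010823000030000001078400002000000106ef000020000001065600002000000105bb0000300000002acb00001000000028e30000100000010405000020000001038300001000000102d60000300000001c5100003000000101ce000010000000167b00002000000100ef000030000001008b000020000001002a)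
noncomputable def DTp151 : Nat := (nat_lit 0x300000012916000010000001242c00003000000121ae00001000000085d00000300000011eed0000300000011dc40000200000007e3e0000200000007ac40000100000011a39000020000001194e000020000001182e0000200000006d2d0000300000006959000030000001158700001000000114b700002000000113ce00003000000112e700001000000112070000300000011135000020000001105c00003000000055b1000010000000535c0000200000010e0c0000100000010d650000100000004a3f0000100000010c1e0000300000010b650000100000010ac5000010000000400f00003000000109730000200000003bc90000300000010824000010000001078400001000000106ef000030000001065600001000000105bc000020000001052e000020000001049c0000200000010407000030000000239600003000000102d7000030000001025400002000000101d0000020000001015500003000000100f0000010000001008b000010000001002a)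
noncomputable def DTp152 : Nat := (nat_lit 0x20000001291c000030000001243500003000000121b00000300000011ffe0000100000011eee0000300000011dc70000300000011c990000200000011b6400003000000076bf000030000001194f000020000001182f0000200000006d2f000020000001166d000020000001158800002000000062ac00003000000113ce00002000000112e900002000000112080000200000005aea000030000001105c0000200000010f840000300000010ecd0000300000010e0e0000300000010d660000200000010cbe00002000000046b60000100000010b6500002000000041c10000200000010a1e000010000001097300003000000108ce00001000000108240000300000010785000010000000342b00002000000106570000200000002d04000030000001052f00002000000028eb0000300000010407000030000001038400002000000102d8000030000001025500001000000019a400001000000101550000200000001283000020000001008c0000300000000938)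
noncomputable def DTp153 : Nat := (nat_lit 0x10000000a667000010000001243500002000000121b10000200000011fff0000300000011eef0000100000011dc80000200000011c9a0000300000011b640000200000011a3c00001000000119500000100000011831000020000001173f000030000001166e000010000001158800001000000114b900003000000113cf00002000000112ea00001000000112090000300000005af8000010000001105d0000100000010f840000100000010ecd0000200000010e0f0000200000010d670000300000010cbe00002000000046cb0000300000010b6600001000000041c40000100000010a1e00003000000109740000200000003bdc0000200000010825000020000000371d00003000000106f0000010000001065700002000000105bd0000100000010530000020000001049d000020000001040800001000000023ab00003000000102d8000020000001025600002000000019a500003000000016860000300000001286000030000001008c0000200000000949)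
noncomputable def DTp154 : Nat := (nat_lit 0x10000001295f000010000001243700003000000121b60000100000011fff0000300000011ef00000100000011dc90000100000011c9a0000200000007ad00000300000011a3d00003000000119510000300000011832000030000001173f000010000001166e000030000001158900003000000114bb00002000000113d100003000000112ea000030000001120c0000100000005af8000030000001105f0000300000010f850000300000010ece0000300000010e0f0000100000010d670000300000010cbf00002000000046cf00002000000043f900002000000041d3000020000000401800001000000109740000300000003bde00002000000039c8000030000001078600001000000106f0000020000000303c0000300000002d0b0000300000010531000030000001049d000020000001040900001000000023b500002000000102d9000030000001025700003000000101d2000020000000168900002000000100f1000020000001008d0000200000000957)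
noncomputable def DTp155 : Nat := (nat_lit 0x30000000a6bb000010000001243a00001000000121b600003000000085d10000100000011ef100002000000080870000100000007e4a0000300000007ad00000200000011a3e000030000001195400002000000118340000200000006d4a000030000001166f000010000001158900001000000114bc00002000000113d20000100000005e8e0000200000005cc8000030000001113800003000000110600000200000010f870000100000010ece0000100000010e100000100000004d960000200000010cc000003000000046cf0000300000010b6800003000000041d3000010000000401a00002000000109750000100000003be0000020000001082700001000000107860000200000003435000010000000303e0000300000002d130000300000002acf000020000001049e000020000000265e00002000000103860000200000002047000010000001025700002000000101d3000010000001015600002000000100f2000010000001008d000020000000095b)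
noncomputable def DTp156 : Nat := (nat_lit 0x200000012968000030000001243e00003000000121bd000010000001200100002000000082cd000010000000808a0000200000011c9c0000300000007ad40000100000011a3e0000200000011956000020000001183500002000000117420000200000011671000020000001158a00003000000114be000020000000606c00002000000112eb0000200000005ccd000010000001113800002000000110610000300000010f8700003000000053610000200000010e110000200000004d9d0000100000010cc000001000000046d00000300000010b6900001000000041d4000030000000401c00003000000109750000300000003be80000300000010827000030000000371f000020000000343a000030000000303f0000300000002d1a0000200000010532000010000001049e000010000000265f00003000000103870000100000002065000020000001025800003000000101d4000030000000169100003000000100f2000020000001008e0000300000000965)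
noncomputable def DTp157 : Nat := (nat_lit 0x200000012975000030000001244400001000000121bd00002000000120020000300000011ef4000020000000809d0000100000011c9c0000200000011b660000200000011a3f000020000000746c00003000000118350000200000006d510000200000011672000030000001158b00002000000114bf00003000000113d700001000000112ed000030000001120d000030000001113900002000000058380000100000010f880000200000010ecf00001000000050bc0000200000010d6b0000300000010cc100002000000046d40000100000010b6a0000200000010ac60000300000010a1f000010000001097600002000000108cf00001000000108280000100000003723000020000000344000003000000030430000200000002d1b0000300000010533000030000001049f0000200000002660000020000001038800003000000102db000030000001025900003000000019ce000020000001015700002000000100f3000030000001008e000030000001002b)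
noncomputable def DTp158 : Nat := (nat_lit 0x300000012975000010000001244f00002000000121be00003000000120020000100000011ef400002000000080a30000300000011c9d0000100000011b6600003000000076db0000300000011957000020000001183700002000000117450000100000011673000010000001158b00002000000114c100002000000113d900001000000112ee000020000001120e000010000001113a00002000000058390000300000010f890000300000010ecf0000300000010e140000300000010d6b0000100000010cc100003000000046f50000200000010b6b0000300000010ac8000020000000401d00002000000109770000300000003bef00003000000039d2000010000001078800003000000106f200002000000030530000100000002d1d0000100000010533000010000001049f000020000001040a000010000001038900002000000102dd000010000001025900001000000019ce00002000000016a2000020000000129b0000100000000ecd000010000001002b)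
noncomputable def DTp159 : Nat := (nat_lit 0x20000001297c000020000000960200003000000121c100002000000120030000200000011ef50000300000011dcf0000300000011c9f0000300000011b6700001000000076dc000010000001195700003000000118390000100000006d52000030000000696300003000000065d800002000000114c2000010000000607f0000200000005e930000300000011210000030000001113b000020000000583a00002000000055b90000200000010ed100001000000050c80000200000010d6c0000300000010cc200001000000046fc00003000000043fc0000200000010aca000010000000401d0000200000003e2700001000000108d000002000000039db000020000001078900002000000106f300001000000030530000200000002d1f000020000001053400002000000028ef000030000001040a00001000000023c600003000000102de000030000001025a00002000000019cf000010000001015800002000000012a10000300000000ef00000100000000974)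
noncomputable def DTp160 : Nat := (nat_lit 0x30000001297c000030000001245000001000000121c200003000000120040000300000011ef60000200000011dd00000200000007e590000100000011b670000100000011a420000200000011958000020000001183a0000100000006d53000010000000696400002000000065da00001000000114c200001000000113db0000200000005e9500001000000112100000300000005b0b000020000000583c00002000000055bc000030000000536500002000000050cc0000100000004dad0000100000010cc20000200000010c270000200000010b6c00002000000041db0000200000010a200000200000003e3000001000000108d2000020000001082a000030000001078b00003000000106f3000020000001065900001000000105bf000030000001053500003000000104a0000030000001040d00002000000023c700003000000102e00000100000001c5a00002000000019d200003000000016ab00002000000100f4000030000001008f000030000001002c)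
noncomputable def DTp161 : Nat := (nat_lit 0x20000001297e000020000001245800003000000121c900001000000120050000200000011ef70000100000011dd00000200000011ca00000300000011b6800002000000076de000020000001195a000010000001183a00003000000117460000300000006965000010000001158c00002000000114c300003000000113dc00003000000112f00000300000011211000020000001113c000020000001106200003000000055c40000200000010ed20000200000010e150000300000004dae0000200000004a580000100000010c270000300000010b6c00001000000041dd0000300000010a200000300000003e3000002000000108d300003000000039fd000020000001078d00002000000106f4000030000001065a0000300000002d24000010000001053500001000000104a0000010000001040d00003000000023cd0000200000002076000030000001025b00003000000019d7000030000001015900003000000100f4000010000001008f000010000001002c)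
noncomputable def DTp162 : Nat := (nat_lit 0x20000001297f000010000001245900001000000121c9000030000001200600002000000082e800003000000080a90000300000011ca10000200000011b6a00002000000076f5000030000001195b000030000001183b0000200000011747000010000000697200002000000065e000003000000114c300002000000113dd00001000000112f00000300000011213000030000001113d000020000001106300001000000055c60000100000010ed20000300000010e170000100000010d700000200000004a590000300000010c290000100000010b6d00002000000041de0000200000010a210000300000003e3800003000000108d4000030000001082c000030000001078e00001000000106f400002000000030620000300000002d49000020000001053600002000000104a1000030000001040e00001000000023cd000020000000207c000030000001025c00002000000101d5000010000001015900003000000012a70000100000000ef30000200000000985)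
noncomputable def DTp163 : Nat := (nat_lit 0x20000001298c000020000000961700003000000121ce000030000001200700002000000082ec00001000000080bd0000300000011ca20000200000011b6b00002000000076fd000010000001195b000030000001183c0000300000011748000010000001167400003000000065e000001000000062be00001000000113dd00001000000112f200002000000112150000200000005b0e000030000001106500002000000055ca0000300000010ed30000300000010e180000200000004dc90000200000004a5a0000300000010c2c000020000000440100003000000041e5000020000000402e0000300000003e3e00001000000108d4000030000001082d000030000001078f00003000000106f5000030000001065b00001000000105c0000030000001053800002000000028f8000010000001040e00001000000023d300003000000102e2000010000001025c00003000000019df00002000000016c300003000000012a90000300000000ef50000200000000986)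
noncomputable def DTp164 : Nat := (nat_lit 0x30000001298c000010000000961700002000000121cf00003000000120080000200000011efa0000300000011dd10000300000011ca50000300000011b6b0000200000011a46000020000000747a000030000001183e0000300000006d58000030000001167500003000000065ff00003000000062c100002000000113df00002000000112f300003000000112160000300000005b0e000010000001106500002000000055db0000100000010ed30000300000010e190000300000010d740000300000010cc300001000000047280000200000010b6e0000200000010acb000030000000402e0000200000003e4200002000000108d50000300000003a17000020000001079000001000000106f5000010000001065b0000100000002d4c000010000001053800003000000104a2000020000001040f00002000000023d800001000000102e2000020000001025d00002000000101d600002000000016c400001000000012aa0000200000000ef9000020000000098b)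
noncomputable def DTp165 : Nat := (nat_lit 0x300000012997000020000001245b00001000000121cf000030000001200b0000300000011efc0000100000011dd10000100000011ca50000200000011b6c0000100000011a47000030000000749500003000000070c80000200000006d5c0000100000011675000020000001158e00001000000062c200002000000113e000001000000112f40000200000011218000020000001113f00002000000110660000200000010f8a000010000000536900003000000050e30000300000004ddb0000100000010cc30000300000010c2d0000100000010b6e0000100000010acb00001000000040300000300000003e4d0000200000003bf70000200000003a1f000010000001079000002000000106f6000020000001065c0000200000002d51000030000001053900001000000104a2000030000001040f000030000001038b00001000000102e3000030000001025d00002000000101d7000020000001015a00002000000012af0000300000000ef9000030000001002d)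
noncomputable def DTp166 : Nat := (nat_lit 0x30000000a708000030000001245b00003000000121d000001000000085ec0000300000011eff0000200000011dd20000300000011ca70000100000011b6c0000300000011a490000100000007495000010000001183f000030000001174a0000100000011676000020000001159000002000000114c400003000000113e100001000000112f7000030000001121a000020000001114000003000000110670000300000010f8a0000300000010ed40000300000010e1a0000300000004de00000200000010cc50000100000010c2d0000300000010b6f00003000000041e70000200000010a22000030000001097800001000000108d7000030000001082f000030000001079100003000000106f6000030000001065d0000100000002d51000020000001053a00002000000028fd0000200000010411000010000001038b00003000000102e4000020000001025e00001000000101d7000020000001015b00001000000012af0000100000010091000010000001002d)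
noncomputable def DTp167 : Nat := (nat_lit 0x3000000129a4000020000001245d00001000000121d0000010000001200c0000100000011eff0000300000011dd30000200000007e630000200000011b6d0000100000011a49000010000001195d00002000000070c90000100000006d5d0000300000011677000020000001159100002000000114c500001000000113e100003000000112fa0000200000005cd70000200000011141000010000001106700003000000055e30000100000010ed40000300000010e1b0000200000010d750000300000010cc5000020000000473a0000100000010b6f0000100000010acc0000300000010a22000020000001097900003000000108d90000200000010830000020000001079200002000000106f8000010000001065d0000100000002d54000030000001053b00003000000029010000200000010412000030000001038c00002000000102e5000020000001025f00002000000101d900003000000016c600001000000012b40000300000000efa0000200000000993)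
noncomputable def DTp168 : Nat := (nat_lit 0x2000000129a5000030000001245d00001000000121d100003000000085ef0000200000011f000000300000011dd40000100000007e6a0000300000011b6e0000100000011a4a000020000001195e00002000000070d0000020000001174b0000100000011678000030000001159200001000000062c300002000000060bc00003000000112fb000030000001121b000010000001114200003000000110680000200000010f8b0000300000010ed50000200000010e1c0000100000010d750000200000010cc60000300000010c2f0000200000010b7000003000000041ed00001000000040490000200000003e6200001000000108d90000100000010830000030000000374400002000000106f9000030000001065e00003000000105c1000010000001053b00001000000029010000300000010413000020000001038d00001000000102e5000030000001025f00003000000101d900001000000016c600002000000100f5000020000001009200003000000009af)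
noncomputable def DTp169 : Nat := (nat_lit 0x1000000129a500003000000124600000200000008c05000010000001200d0000300000011f010000200000011dd70000300000011cac0000100000011b6e000010000000773a000010000001196000003000000118410000200000006d710000300000006995000030000001159400001000000114c600003000000113e200002000000112fd0000200000005cd80000100000011145000010000001106800002000000055f00000300000010ed60000200000010e1f0000300000010d760000300000010cc70000300000010c300000300000010b700000300000010acd000020000000404a000030000001097a0000300000003bf80000200000010831000030000001079400003000000106fb000010000001065e00002000000105c2000030000001053c00002000000029030000100000010413000010000001038d000020000000208c000020000001026000003000000101da00002000000016c800003000000012b5000010000001009200002000000009b3)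
noncomputable def DTp170 : Nat := (nat_lit 0x3000000129a600002000000124620000100000008c05000020000001200f0000300000011f030000200000011dd80000300000011cae0000200000007ad9000020000000773b00002000000119610000100000011842000030000001174f000020000000699a000010000001159500002000000114c700002000000060c600003000000112fe000020000001121d0000200000005b1200002000000110690000300000010f8d00003000000053760000300000010e200000300000004de50000100000010cc70000100000010c300000200000010b7100001000000041ef000020000000404b0000300000003e680000200000003bfd0000300000010832000020000001079500002000000106fc000010000000307800001000000105c30000200000002ad700003000000104a40000200000010414000010000001038e000020000000208f000010000001026000001000000101da000010000001015e00001000000012b60000300000010093000020000001002e)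
noncomputable def DTp171 : Nat := (nat_lit 0x3000000129ae000010000001246300003000000121d6000030000001200f0000100000011f030000100000011dd80000100000011cae0000300000007ad90000200000011a4c000010000001196200002000000118430000300000011750000030000001167a000030000001159600002000000114c800002000000113e600001000000112fe000030000001121d0000200000005b1d00003000000110690000100000010f8d000030000000537b0000200000010e220000100000004de50000300000004a6a0000300000010c330000100000010b710000300000010ace0000100000010a24000020000001097c00003000000108db0000100000010832000030000001079600001000000106fc000020000000307d00003000000105c40000100000002ad700001000000104a4000010000001041400003000000023dc00003000000102e6000030000001026100003000000101dc000030000001015f00003000000012b90000100000010093000010000001002e)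
noncomputable def DTp172 : Nat := (nat_lit 0x1000000129ae000030000001246b00002000000121db000030000001201200002000000083160000200000011dd90000200000011caf0000300000011b700000300000011a4c000030000001196300002000000070e60000200000011751000030000001167c000030000001159800003000000062c500002000000060eb00002000000112ff000030000001121e0000200000011148000010000001106a0000200000010f8e0000200000010edc00003000000050ed0000200000004de70000100000004a6b0000300000010c340000300000010b720000100000010ace0000300000010a25000030000001097c0000300000003c010000200000010833000010000001079600002000000106fd000020000001065f00002000000105c5000020000001053d0000300000002905000030000001041500001000000023dc00001000000102e7000010000001026100002000000101dd00003000000016d800001000000012b9000010000001009400003000000009c1)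
noncomputable def DTp173 : Nat := (nat_lit 0x2000000129b0000010000001246d00002000000121de00001000000120130000100000011f040000100000011dda0000300000011cb00000100000011b700000200000007744000030000001196400003000000070e70000100000011751000020000001167d000020000000660800002000000062ce00001000000060ee0000200000011300000010000001121e0000300000011148000010000001106e0000300000010f8f0000300000010edc00001000000050ed0000100000010d770000200000004a6c00002000000047560000100000010b720000200000010acf0000200000010a26000020000001097d0000200000003c020000200000010834000030000001079700003000000106fd000030000001065f0000300000002d69000020000001053e00002000000104a6000010000001041500002000000023e100003000000102e8000030000001026200001000000101dd000010000001016000003000000012bb000030000001009500002000000009c2)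
noncomputable def DTp174 : Nat := (nat_lit 0x2000000129b2000010000001246e0000100000008c4000003000000086140000300000011f050000200000011ddb0000200000011cb10000100000011b710000200000007748000030000001196500001000000070e70000300000011754000010000001167d000030000000662800002000000114c900002000000113e70000100000005e96000020000001121f0000200000005b23000020000001106f00003000000056150000200000010edd0000200000010e230000200000010d780000300000010cc800001000000047560000300000010b750000200000010ad00000100000010a26000010000001097d00003000000108dd0000100000010834000020000000374700002000000106ff00002000000106600000200000002d6a000030000001053e00001000000104a7000030000001041600003000000023e100001000000102e8000020000001026300003000000101de00003000000016da00001000000012bb000030000001009600002000000009c3)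
noncomputable def DTp175 : Nat := (nat_lit 0x30000000a75d000020000000964a0000200000008c4500003000000120140000300000011f060000300000011ddc0000300000011cb20000300000011b720000300000011a4e000010000001196500003000000070f8000030000001175500003000000069a1000010000001159c00001000000062d100002000000113e8000030000001130300003000000112200000300000005b26000030000001107000001000000056150000200000010ede0000200000010e240000300000010d790000200000010cc90000100000010c350000200000010b760000100000010ad00000300000004052000010000001097e00002000000108de0000300000003a2d0000200000010798000020000000345f00001000000106600000100000002d6a000020000001053f00002000000104a90000100000010417000030000001038f00003000000102e9000010000001026300002000000101df00001000000016da00003000000012ee000020000001009700003000000009c3)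
noncomputable def DTp176 : Nat := (nat_lit 0x10000000a76600002000000124750000300000008c4b00001000000120140000200000011f070000300000011dde0000200000011cb30000300000011b730000100000011a4f00003000000074a200001000000118450000100000011757000020000001167e000030000001159d00002000000062d200003000000113eb00001000000113040000200000011221000020000001114a0000100000011070000020000000562200002000000053830000300000010e240000100000010d7a0000100000010ccb0000300000010c370000300000010b770000200000010ad10000200000010a28000030000001097f00003000000108df0000200000003a31000020000000374b0000100000010700000030000000309600003000000105c6000010000001053f00003000000104a9000020000001041800003000000023e800002000000102eb000030000001026400001000000101df00003000000016e300003000000012f90000100000000f4100002000000009d9)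
noncomputable def DTp177 : Nat := (nat_lit 0x20000000a768000030000001247600002000000121df00002000000120160000300000011f080000200000011ddf0000100000011cb30000100000011b740000300000011a51000030000001196c00001000000071180000300000011758000030000001167e000010000001159d00001000000062d600002000000113ec00002000000113050000100000011221000010000001114a0000200000011071000030000000562200003000000053830000100000010e250000200000004de90000200000010ccc0000300000010c380000100000010b770000300000010ad10000300000010a28000010000001098000003000000108e0000020000001083600002000000107990000200000010701000020000001066100001000000105c6000020000001054100001000000104aa000020000001041900001000000023e800001000000020a0000020000001026500001000000019e6000030000001016100001000000013060000200000000f43000030000001002f)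
noncomputable def DTp178 : Nat := (nat_lit 0x2000000129bb000020000001247700001000000121e000002000000120180000100000011f0900003000000080e30000200000011cb50000200000011b76000020000000775d00003000000074af00001000000118490000200000006d87000010000001167f000020000000662e00002000000062d900001000000113ec0000200000005ea600003000000112220000300000005b390000200000011074000020000000562800003000000053840000100000010e260000100000010d7b0000300000010ccc0000100000010c380000300000010b780000200000010ad30000200000010a29000020000001098100002000000108e1000010000001083900001000000107990000300000010701000020000001066200002000000105c70000300000002adb00003000000104ab000020000001041a000020000001039000002000000020a4000010000001026500001000000019e7000010000001016100002000000013110000300000000f43000010000001002f)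
noncomputable def DTp179 : Nat := (nat_lit 0x1000000129bf00003000000124790000200000008c5e000010000000861a0000200000011f0a0000300000011de10000200000011cbb0000200000011b780000200000011a5200002000000074c4000030000001184a000030000001175a00003000000069b7000030000000663200002000000114cc000030000000610a0000100000005ea600001000000112220000100000005b3900002000000058530000300000010f90000010000000538400002000000050f10000300000010d7e0000300000010ccd0000200000010c39000030000000441200003000000041f60000100000010a29000030000001098200002000000108e2000020000001083a000020000001079a0000100000010702000030000001066200003000000105c8000030000001054200002000000104ad000010000001041a000030000001039100002000000102ed000030000001026600003000000019e9000020000001016200002000000100f60000100000000f4d0000200000010030)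
noncomputable def DTp180 : Nat := (nat_lit 0x2000000129c0000020000001247a00001000000121e7000030000001201d0000100000011f0a0000100000011de30000200000007ea20000200000011b7a0000300000011a5400003000000074c4000030000000712b000020000001175b0000200000011680000010000000663200003000000114cc00002000000113ef0000200000005eae00002000000112240000300000005b3c00003000000058530000200000010f910000100000010ee100002000000051060000200000010d7f0000300000004a700000300000010c3a0000100000010b790000300000010ad4000020000000405f000020000001098300002000000108e60000200000003a3d000010000001079a000030000001070400001000000030a100002000000105c9000010000001054200002000000104ae000020000001041b00002000000023ef00003000000102ed000010000001026600002000000101e0000030000001016400001000000013280000300000000f530000300000010030)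
noncomputable def DTp181 : Nat := (nat_lit 0x3000000129c1000030000001247c00002000000121e9000010000001201e0000100000011f0c0000300000011de40000200000007ea50000300000011b7a0000100000011a5400003000000074d1000020000000712e000030000001175c0000300000011681000020000000663400002000000114cd00003000000113f00000200000005eb300003000000112240000100000005b3c00001000000058540000100000010f910000200000010ee20000300000010e280000100000010d7f0000300000004a710000200000010c3b0000200000010b7a0000200000010ad60000300000010a2a000030000001098300003000000108e60000300000003a3e000020000000377c000020000000347200002000000030b50000300000002d73000020000001054300003000000104ae000030000001041d000010000001039200001000000102ee000020000001026700003000000101e0000010000001016400001000000100f70000300000000f5e0000200000010031)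
noncomputable def DTp182 : Nat := (nat_lit 0x3000000129e2000020000001247d00003000000121eb000020000001201f0000200000011f0d00003000000080ec0000200000011cbd0000100000011b7b0000200000011a5500002000000074d3000020000001184c000010000001175c0000100000011682000020000001159e00001000000114cd00001000000113f000002000000113070000100000011225000030000001114b00002000000110750000300000010f920000300000010ee20000100000010e280000100000010d800000200000010cce0000100000010c3b0000300000010b7a0000200000010ad70000100000010a2a000020000001098400001000000108e70000200000003a3f00003000000037880000200000003474000020000001066300002000000105ca000030000001054300001000000104af000010000001041d000020000001039300002000000102f0000030000001026800002000000101e1000030000000170800002000000013380000300000000f650000100000010031)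
noncomputable def DTp183 : Nat := (nat_lit 0x2000000129f9000010000001247d00003000000121ee00002000000120210000100000011f0e00001000000080ec0000300000011cbf0000200000011b7d000010000000776100002000000074de000030000001184c000030000001175d0000200000011683000030000001159e00003000000114ce00002000000061220000100000005ebc0000100000005ce2000020000001114c00003000000110760000100000010f920000100000010ee300002000000051120000300000010d810000200000010cd10000300000010c3c0000200000010b7b0000300000010ad7000030000000406d000010000001098400003000000108e80000100000003a3f000030000001079b0000300000010705000030000001066400003000000105ca000020000001054400002000000104b0000020000001041e00002000000023f100003000000102f10000300000001c6f00001000000101e1000020000001016600002000000013460000300000000f6a00003000000009e3)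
noncomputable def DTp184 : Nat := (nat_lit 0x1000000129fa000020000001247f00003000000121f00000100000008623000020000000832100002000000080f80000200000011cc00000100000011b7d0000300000011a5800003000000074de0000200000007137000010000001175d00003000000069bc000010000000665700002000000114cf00002000000113f10000100000005ebd0000100000011226000010000001114d0000200000011078000030000000562d0000200000010ee400002000000051160000200000010d820000300000004a76000020000000476a000020000000441a0000300000010ada0000200000010a2b000020000001098500002000000108e9000010000001083c000010000001079b000020000001070600001000000106640000100000002d750000300000002adc000030000000290b000010000001041f000010000001039400001000000020b20000200000001c7900003000000019f0000030000001016700003000000100f80000200000000f6c00001000000009ed)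
noncomputable def DTp185 : Nat := (nat_lit 0x1000000129fe000020000001248000002000000121f200001000000120220000300000011f0f00001000000080f80000300000011cc10000200000011b7e0000300000011a5900002000000074ea000030000001184f000030000001175e00001000000069bd000020000001159f00003000000114d0000020000000612e00002000000113080000300000011227000030000001114e000030000001107a0000100000010f960000300000010ee50000300000010e290000200000010d830000200000010cd20000300000010c3d0000200000010b7c0000200000010adb0000300000010a2c000030000001098600001000000108e9000020000001083d000020000001079c000010000001070600001000000106650000300000002d790000100000002adc000020000000290c0000200000010420000020000001039500002000000020bc0000100000001c7900002000000019f1000010000000171b000020000000136700002000000100980000200000010032)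
noncomputable def DTp186 : Nat := (nat_lit 0x30000000a80c000020000000968300001000000121f40000300000012024000020000000832900002000000080fb0000100000011cc10000200000011b810000100000011a5b0000200000011972000010000001184f0000200000006d8c000030000001168400002000000115a100001000000114d000001000000113f300003000000113090000200000011228000020000001114f000010000001107b0000200000010f970000100000010ee50000100000010e290000100000010d830000200000010cd30000100000010c3d0000200000010b7d0000100000010adb0000100000010a2c000030000001098700001000000108ea0000100000003a42000030000001079d000020000001070700001000000030f100002000000105cb0000100000002ae200001000000104b20000300000002680000030000001039500002000000102f20000100000001c7c00003000000101e2000020000000171e000010000000136900003000000100980000300000000a06)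
noncomputable def DTp187 : Nat := (nat_lit 0x10000000a811000030000001249300002000000121f60000100000012025000020000000832e0000300000011de60000200000011cc20000300000011b810000300000011a5c00002000000074f600001000000118510000100000006d8c0000100000011684000030000000666a00003000000114d100003000000113f40000200000005ec20000200000005ce7000010000001114f000030000001107c0000300000010f970000100000010ee60000200000010e2a0000200000004dfb0000200000004a8900002000000047710000300000010b7d0000300000010adc0000200000010a2d000020000001098800003000000108eb000020000001083e000010000001079d000010000001070b00002000000030f500003000000105cb0000200000002ae900003000000104b30000200000010421000020000001039600001000000102f2000030000001026900001000000101e2000030000000171e00002000000100f90000200000000f6d0000100000000a06)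
noncomputable def DTp188 : Nat := (nat_lit 0x100000012a05000020000001249400003000000121f6000010000001202600002000000083300000200000011de70000200000011cc50000300000011b840000300000011a5e00001000000074f90000100000007150000030000001176200003000000069c6000010000000667600003000000114d200002000000113f5000010000001130a0000300000005ce80000200000011150000010000001107c0000300000010f990000100000010ee90000200000010e2b0000300000010d840000200000004a900000200000010c3f0000200000010b7e0000100000010adc0000300000010a2e000010000001098800001000000108eb000030000001083e0000300000003791000030000001070c000020000000310100002000000105cc0000100000002aec000020000000290e0000200000002683000010000001039600001000000102f30000200000001c8d00001000000101e3000030000000172100002000000013750000100000000f6d0000200000000a09)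
noncomputable def DTp189 : Nat := (nat_lit 0x30000000a86300002000000096b800001000000121f7000030000001202800001000000083320000100000011de80000300000011cc50000100000011b840000200000011a5f00002000000074fc000030000001185700003000000117630000100000011687000020000000669b00001000000114d300003000000113f6000020000001130b000010000001122e0000300000011151000020000000586800002000000056360000200000010eea000030000000511a0000200000004e090000300000010cd40000300000010c3f0000100000010b7e0000200000010add0000100000010a2e00001000000109890000200000003c06000010000001083f000010000001079f000010000001070c000020000001066600003000000105cd0000100000002af200003000000104b4000030000001042200003000000023f700002000000020c40000300000001c9d00002000000101e5000030000000173100003000000013780000200000000f700000200000010033)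
noncomputable def DTp190 : Nat := (nat_lit 0x200000012a18000030000001249700002000000121fd0000300000012033000010000000833500001000000081000000300000011cc70000100000011b850000100000011a5f00001000000074fd00002000000071570000200000011765000030000001168800003000000115a300002000000114d400002000000113f7000030000001130b0000200000005ced0000300000011152000020000001107d0000100000010f9b0000300000010eea000020000000511e0000300000004e0c0000200000010cd50000200000010c420000200000010b800000300000010add0000200000010a2f0000300000003e7d0000100000003c070000200000003a5300003000000107a0000030000001070d000030000000310500001000000105ce000010000001054600003000000104b5000010000001042200003000000023fa00003000000102f50000200000001ca900002000000101e60000100000001732000020000000137a0000200000000f730000100000010033)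
noncomputable def DTp191 : Nat := (nat_lit 0x10000000a87c000030000001249800003000000121fe00003000000120350000100000011f120000100000011dea0000100000011cc70000300000011b860000300000011a60000020000001197300002000000118580000100000011768000010000001168900002000000115a400002000000062e800003000000113f7000010000001130c00003000000112300000200000011153000030000001107d000010000000564a0000200000010eeb0000300000010e2d0000100000004e0c0000200000004aab0000300000010c430000300000010b830000100000010ade0000300000010a2f000030000001098a0000300000003c0d000020000001084100001000000107a0000020000001070f00003000000106670000200000002d8f0000200000002aff00003000000104b60000300000002689000020000001039800001000000102f50000200000001cad00003000000101e70000200000001736000020000000137e0000200000000f7b0000100000000a0c)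
noncomputable def DTp192 : Nat := (nat_lit 0x200000012a1d000020000001249a000030000001220000002000000120360000100000011f1600003000000081080000200000007ea80000200000011b880000200000011a6100001000000119760000300000011859000030000001176900002000000069fd00002000000066d400002000000114d500002000000113f8000020000001130d00001000000112300000300000011154000030000001107e00002000000056580000100000010eeb0000100000010e2d0000200000004e0d0000200000004aba00002000000047840000200000010b8500003000000042140000300000004078000010000001098a0000200000003c1000003000000108410000300000003792000030000000348b000010000001066700002000000105d0000030000001054700002000000104b7000020000000268a00002000000023fb00002000000020ce0000100000001cc60000200000001a01000030000000173700003000000100fa00003000000100990000300000000a0d)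
noncomputable def DTp193 : Nat := (nat_lit 0x30000000a899000030000001249f000010000001220000001000000120380000200000011f170000200000011dec0000100000007ea90000200000007ae90000100000011a62000030000000750a000020000001185c000020000001176a000030000001168a00003000000066d600003000000114d600002000000061380000200000005ecc0000200000005cf30000200000011155000030000001107f000020000000567e00001000000053a20000200000010e2f0000200000004e0e0000200000004ac40000100000010c440000300000010b870000200000010ae00000100000010a35000020000001098b00003000000108ef00001000000108420000300000003793000010000000348c00002000000106680000200000002d9800001000000105470000100000002910000030000000268f00002000000023fc00003000000020d00000200000001cd10000300000001a01000020000001016800002000000013a600001000000100990000200000000a0f)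
noncomputable def DTp194 : Nat := (nat_lit 0x200000012a3700001000000096cd0000300000008c87000020000000863f0000300000011f17000030000000811e0000300000007eac0000100000011b8e0000300000011a64000010000001197a0000300000007164000010000001176a000030000001168b00001000000066d600002000000114d70000200000006139000010000001130e000030000001123200003000000111550000200000011080000020000000568a00002000000053a50000200000010e310000300000010d860000200000004ad60000200000010c460000100000010b870000200000010ae100002000000040790000200000003e8d00001000000108ef0000300000003a59000020000000379b000020000000348f000020000000311500001000000105d10000300000002b0a00003000000029150000300000002691000020000001039900003000000102f60000100000001cd20000300000001a08000010000001016800003000000013b00000200000000f890000300000010034)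
noncomputable def DTp195 : Nat := (nat_lit 0x100000012a3700002000000124a40000300000008c8b000030000001203900002000000083570000200000011dee0000200000007ead0000300000011b910000200000011a65000030000001197c000020000000716b0000200000006da4000030000001168c00001000000066db00003000000062ed00002000000113fc000020000001130f0000100000011233000020000001115600002000000058730000300000010fa10000300000010eef0000100000010e310000200000010d870000300000004ade0000300000004795000030000000441b0000300000010ae10000200000010a360000100000003e9600002000000108f00000100000003a5a00002000000107a10000200000010711000020000000312600003000000105d3000020000001054800002000000029160000200000010424000030000001039a00003000000020dd0000200000001cda0000200000001a10000010000000173800002000000013b10000200000000f8a0000100000010034)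
noncomputable def DTp196 : Nat := (nat_lit 0x300000012a3a00002000000096d0000020000001221d000020000001203c0000200000011f1b0000100000011def0000200000011cc90000100000011b910000100000011a650000200000007513000030000000716d000030000001176c0000100000006a3400002000000115ac00002000000062f500002000000113fe000030000001130f000020000001123600002000000111570000200000011081000020000000568d0000200000010ef00000100000010e330000300000010d870000300000010cd900001000000047950000300000010b890000200000004216000010000000407c0000200000003e9700003000000108f00000200000003a5b00001000000107a200003000000034a4000030000000312600001000000105d3000030000001054900002000000104b80000300000010424000010000001039a00002000000102f70000300000001cdb0000300000001a19000020000000173a00003000000100fb0000200000000f8b0000200000000a12)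
noncomputable def DTp197 : Nat := (nat_lit 0x200000012a3c00003000000096db0000300000008ca6000030000001203d0000100000011f1c0000100000011df00000200000011ccc0000300000011b920000300000011a66000030000001197d000010000001185e000020000001176d000020000001168e00003000000115ac00002000000062f700003000000113fe0000200000005ed000003000000112360000300000011157000020000000587b00002000000056900000200000010ef10000200000010e340000100000010d880000200000010cda00003000000047980000300000004427000010000000421a0000300000010a38000030000001098c00002000000108f10000200000003a5c000030000000379e00001000000034a4000030000001066a0000100000002dbe000010000001054900003000000104b80000200000010425000030000000240a00001000000102f70000100000001cdc00002000000101e8000030000000174c00001000000100fc0000200000000f8e0000200000000a1a)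
noncomputable def DTp198 : Nat := (nat_lit 0x300000012a4a00001000000096db0000100000008ca6000010000001203e0000100000011f1d0000300000011df30000300000011ccc0000200000011b940000100000011a66000020000000751c000010000001185f0000300000006daf0000100000006a4000003000000115ad00003000000063010000200000006158000030000001131000003000000112370000100000011158000030000000587b000010000000569f0000100000010ef10000200000010e350000200000010d890000100000010cda00001000000047a400002000000044290000200000010ae20000200000010a39000030000001098d00001000000108f1000020000001084300002000000107a300003000000034a5000010000001066a00003000000105d50000300000002b1e00002000000029180000200000010426000020000001039b00002000000102f9000020000001026a00001000000101e8000010000000174c00003000000013c70000200000000f980000100000000a1d)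
noncomputable def DTp199 : Nat := (nat_lit 0x200000012a4b00003000000124ab000030000001221e000020000001203f0000200000011f200000200000011df40000300000011ccd0000200000007aef0000200000011a67000020000001197e000010000000717600003000000117700000200000006a4200001000000115ad00002000000114da000020000000615b00001000000113100000300000011239000020000001115900003000000110830000300000010fa400001000000053ad0000100000010e350000100000010d890000100000004ae00000300000010c4700003000000044290000300000010ae20000100000010a39000010000001098d0000300000003c16000030000001084300001000000107a300003000000034a700002000000031270000300000002dc80000100000002b1f00003000000104b90000100000010426000030000001039c00003000000102fa000030000001026a0000300000001a2d000020000000176000003000000013ca000030000001009a0000100000000a2a)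
noncomputable def DTp200 : Nat := (nat_lit 0x300000012a660000200000009704000020000001222200002000000120430000200000011f210000300000011df60000200000011cd00000200000007af50000300000011a67000030000001197e000030000001186000003000000117710000200000006a4500002000000066e00000300000006302000020000001140000002000000113110000100000011239000020000001115d000010000001108300002000000056af0000300000010ef30000100000010e360000200000010d8b0000300000010cdb0000300000010c48000010000000442a000020000000421f000030000000407f000010000001098f0000200000003c18000030000001084400001000000037a400001000000034a7000030000000312b00002000000105d60000300000002b2200001000000104b900003000000026a0000010000000241700001000000102fa0000200000001ce60000100000001a2e000010000000176100001000000013ca000010000001009a0000300000000a31)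
noncomputable def DTp201 : Nat := (nat_lit 0x100000012a6600002000000124b0000020000001222600003000000120430000300000011f230000200000011df70000300000011cd10000300000011b970000300000011a69000010000000752300001000000118600000300000006db1000010000001168f00002000000115af00002000000114db000010000001140000002000000113120000200000005d16000030000001115e000020000001108400001000000056af0000100000010ef30000200000010e370000300000010d8b0000200000010cdc0000100000010c480000100000010b8a0000300000010ae400003000000040800000300000003eb700003000000108f20000300000003a5f00003000000107a400003000000034ab000010000000312c00003000000105d6000020000001054a000010000000291c0000300000010428000030000000241900003000000102fb000030000001026b0000200000001a35000030000000176300002000000100fe000030000001009b0000300000010035)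
noncomputable def DTp202 : Nat := (nat_lit 0x300000012a6800001000000097540000200000008cac00003000000086600000100000011f230000300000011df80000200000011cd40000100000011b970000200000011a6a000020000001198000002000000118610000300000006dda000030000001169000003000000115b100003000000114db000020000000617400001000000113120000300000005d1f000030000001115f000030000000587d00001000000056b10000300000010ef40000200000010e380000200000010d8c0000100000010cdc0000200000010c490000300000010b8b0000300000010ae50000100000010a3a000030000001099000001000000108f2000010000001084500002000000107a600003000000034bb000030000000312d00002000000105d7000010000001054a000010000000291e0000100000010428000030000000241c00003000000102fc0000300000001cea00003000000101e9000020000000176b00002000000100ff000010000001009b0000100000010035)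
noncomputable def DTp203 : Nat := (nat_lit 0x300000012a6d00002000000124b9000020000001222c00001000000086610000200000011f260000100000011dfb0000300000011cd50000300000011b980000200000011a6c0000100000011981000030000001186200001000000117760000200000006a4a00001000000115b200001000000114dc00003000000114030000300000011313000010000001123d0000200000011160000030000000587f00001000000056bd0000200000010ef50000300000010e380000100000010d8c0000200000004ae500002000000047ab00002000000044380000200000010ae60000300000004083000020000001099100002000000108f3000030000001084700001000000107a60000200000010712000010000000312d0000300000002dcf0000100000002b29000010000000292000001000000026ab000020000000241e00003000000102fd0000300000001cf50000200000001a36000030000001016900001000000100ff0000200000000fa30000200000000a46)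
noncomputable def DTp204 : Nat := (nat_lit 0x100000012a7000003000000124b90000300000008cb800001000000120460000300000011f2c0000300000011dfc0000100000011cd50000200000011b9a0000300000011a6c0000100000011982000010000001186300003000000117780000200000006a5f00002000000066e500003000000114df00003000000114060000100000011313000020000001123e000030000001116100002000000110850000100000010fa70000300000010ef50000300000010e3a0000200000004e2c0000300000010cde00001000000047ac00003000000044390000100000010ae600003000000040840000300000003eba00003000000108f3000020000001084800003000000107a700003000000034bd000030000001066b00002000000105da0000200000002b2d00002000000104ba00003000000026b1000020000000242600003000000102ff000010000001026c0000100000001a36000030000000178a00003000000013cd000030000001009c0000200000010036)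
noncomputable def DTp205 : Nat := (nat_lit 0x300000012a7400002000000124ba0000300000008cc000002000000086660000100000011f2d0000100000011dfc0000200000011cd80000100000011b9c0000100000011a6f000010000001198300003000000118650000100000011779000030000001169600003000000115b400003000000114e100002000000114080000100000011314000020000001123f000020000001116200001000000110850000300000010faa00003000000053b60000200000010e3b0000200000010d900000200000010ce000002000000047b000001000000044390000200000010ae700001000000040840000200000003ebb00002000000108f40000300000003a6400002000000107a900002000000034be000020000000312e0000200000002dd30000300000002b3000003000000104ba00002000000026bd000020000000242e0000200000010301000020000001026d0000100000001a39000020000001016a0000200000010100000020000001009d0000300000010036)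
noncomputable def DTp206 : Nat := (nat_lit 0x300000012a7900002000000124bc0000100000008cc100002000000120470000300000011f2e0000300000011dfd0000300000011cd90000100000011b9f0000300000007798000020000000752a0000200000011867000030000001177a000030000001169800003000000115b500001000000114e200003000000114080000200000011315000010000001123f0000100000011162000030000000588d0000100000010fab0000200000010ef600002000000051300000300000010d900000300000004b0000003000000047b0000020000000443d0000300000010ae700003000000040860000200000003ebd0000300000003c2a0000200000003a6600002000000107aa00001000000034cb000010000000312f0000200000002de1000020000001054d00002000000104bb0000200000010429000010000001039d00002000000103020000200000001cfa00003000000101ea000030000000178b00002000000013e6000030000001009d0000200000010037)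
noncomputable def DTp207 : Nat := (nat_lit 0x300000012a7a00001000000124bc0000300000012231000010000001204b0000100000011f2f00002000000081450000100000011cd90000300000007b110000100000007798000030000000752a0000300000011867000010000001177d000020000001169900001000000115b5000020000000631d000030000001140900003000000113150000300000005d30000030000001116300003000000110860000300000010fac0000100000010ef60000200000010e3c0000200000004e550000200000004b050000100000010c4b000030000000443d0000200000010ae8000010000000408600002000000109920000200000003c36000030000001084900003000000107ab0000200000010713000020000001066d00003000000105db000010000001054d00001000000104bb00001000000026d0000010000001039e0000300000010302000010000001026e00001000000101eb000020000001016b0000300000010101000020000001009e0000100000010037)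
noncomputable def DTp208 : Nat := (nat_lit 0x200000012a7c00002000000097690000200000008cd5000020000001204c0000200000011f300000200000011e010000300000011cda0000300000011ba10000100000011a7200001000000119840000200000011868000030000001177e000030000001169b00002000000115b700003000000114e3000010000001140900001000000113160000100000005d30000010000001116300003000000110870000200000010fae0000200000010ef80000100000010e3c0000200000010d920000300000010ce10000200000010c4c0000200000010b8c0000100000010ae8000010000000408b0000200000003ec600002000000108f5000010000001084900002000000107ac00002000000034ce000020000001066e00003000000105dc000010000001054e000020000000292600002000000026d4000020000001039f00001000000103030000300000001d0100002000000101ec000030000001016b00002000000013ed000010000001009e0000200000000a61)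
noncomputable def DTp209 : Nat := (nat_lit 0x100000012a7f000030000000977e0000200000008cd6000010000000866c0000300000011f300000300000011e010000200000011cdb0000300000011ba20000200000011a730000100000011985000010000001186800003000000117800000100000006a7300002000000066f200001000000114e3000020000001140b00002000000113180000200000011240000020000001116400002000000110880000100000010fb100003000000053bb0000300000010e3d0000300000010d930000200000010ce20000100000010c4c0000200000010b8d0000300000010ae9000020000000408c000030000001099300002000000108f60000100000003a6a00001000000107ac0000100000010714000010000001066e00001000000105dc000030000001054f00002000000104bc00003000000026d6000010000000243a0000200000010304000020000001026f00003000000101ec000020000001016c00002000000013ef0000100000000fc60000100000000a6d)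
noncomputable def DTp210 : Nat := (nat_lit 0x200000012a81000020000000977f0000200000008cea000010000001204f0000300000011f320000200000011e020000200000007eb80000300000011ba60000200000011a74000030000001198600002000000071940000300000006e0b000030000001169d00003000000066f70000300000006336000030000001140c000020000001131b0000300000011241000030000001116400003000000110880000200000010fb200001000000053bc000020000000513e0000200000010d940000200000004b080000300000010c4d0000300000010b8d0000300000010aea0000200000010a3c000010000001099300003000000108f7000020000001084a00001000000037b00000200000010715000030000001066f0000200000002df0000020000001055000001000000104bc000010000001042b000010000000243e00001000000020f10000300000001d0300002000000101ed000010000001016c00003000000013f10000300000000fcb0000200000010038)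
noncomputable def DTp211 : Nat := (nat_lit 0x100000012a82000010000000977f000030000001223600003000000120510000200000011f340000300000011e030000300000007eb90000200000011ba70000300000011a76000010000001198600002000000071980000300000011781000010000001169e00002000000115ba00003000000114e5000010000001140d000030000001131c0000300000005d4e0000300000005b5900003000000110890000300000010fb30000300000010ef90000100000010e3e0000200000004e730000200000004b0c00002000000047b70000200000010b8e0000300000010aeb000020000000409100003000000109940000200000003c3d000030000001084a00002000000107ae00001000000034d2000030000001067100001000000105de000010000001055000001000000104bd000010000001042c00003000000103a000002000000103050000200000001d0d00002000000101ee000030000001016d0000300000010102000010000001009f0000100000010038)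
noncomputable def DTp212 : Nat := (nat_lit 0x30000000a8fe000030000000979500001000000122370000100000012052000010000000836a0000200000011e040000300000007ec00000200000011ba80000300000011a77000030000001198800002000000118690000200000006e0e000030000001169f00001000000115ba00003000000114e6000030000001140e000010000001131c00003000000112420000100000005b5900002000000058940000100000010fb30000300000010efa0000100000010e3f0000200000004e740000200000010ce30000200000010c4e0000100000010b8e0000200000010aec00003000000040920000200000003ecf00003000000108f8000020000001084b00002000000107af0000200000010716000030000000315000002000000105df00003000000105510000100000002929000020000001042d000030000000245300003000000103050000200000001d0e00003000000101ee000020000001016e00001000000101020000200000000fd60000200000000a84)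
noncomputable def DTp213 : Nat := (nat_lit 0x10000000a90400001000000124c70000300000012238000020000000866f0000300000011f360000300000011e050000200000011cdd0000100000011bae0000100000011a780000200000011989000020000001186a0000200000006e1f0000200000006a8400001000000115bc0000300000006349000010000001140f000020000001131e0000300000005d4f0000200000011165000030000001108e0000300000010fb400002000000053c10000200000010e400000300000010d950000300000010ce30000300000010c4e0000300000004447000020000000422a00001000000040920000100000003ecf00001000000108f8000010000001084b00003000000107b00000200000010718000010000000315100003000000105e10000200000010552000020000000292b000030000001042d000020000000245500003000000103060000200000001d2100002000000101ef000010000001016e00003000000013f50000100000000fde0000100000000a89)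
noncomputable def DTp214 : Nat := (nat_lit 0x200000012a88000030000000979c000020000001223f00003000000120530000100000011f360000100000011e050000100000011cdf0000300000011bb20000300000011a79000020000001198b000030000001186c000030000001178700001000000116a100002000000115bd00002000000114e80000300000011410000010000001131f00003000000112440000200000005b5a00002000000058980000100000010fb400002000000053ca0000300000010e400000200000010d970000300000010ce40000300000010c500000200000010b900000100000010aee00003000000040930000200000003ed20000300000003c510000200000003a7300002000000107b10000300000010718000020000000317200001000000105e1000010000001055200003000000104be000020000001042f00002000000103a10000100000010306000030000001027000001000000101ef000020000001016f00002000000101040000100000000fe40000300000010039)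
noncomputable def DTp215 : Nat := (nat_lit 0x100000012a8e00003000000124c80000100000012242000020000000867e0000200000011f3b0000300000011e060000200000011ce00000300000011bb30000100000011a79000020000001198c000030000001186d000020000001178800003000000116a300003000000115be00002000000114ea00002000000114110000100000005eda00003000000112450000100000005b5b000020000000589d0000200000010fb500001000000053ca0000200000010e410000100000010d980000100000010ce40000300000010c510000300000010b900000300000010aef0000200000010a3e00002000000109960000100000003c51000020000001084d00001000000107b100002000000034dc00002000000031740000200000002e160000300000002b3700001000000104be000020000001043100003000000103a100003000000103070000300000001d250000100000001a4b000030000001017000002000000013f90000100000000fe50000100000010039)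
noncomputable def DTp216 : Nat := (nat_lit 0x200000012a9d00001000000124c9000020000001224400002000000086890000300000011f3c0000100000011e070000300000011ce30000200000011bb400002000000077b4000030000001198e000030000001186e00001000000117880000200000006a8700001000000115be0000200000006363000030000000617e0000200000005edd0000100000011245000010000001116600002000000110900000300000010fb50000300000010efc0000100000010e430000300000004e9b0000200000004b210000200000010c520000200000010b920000200000010af00000200000010a3f000010000001099600003000000108f9000010000001084d00003000000107b20000300000010719000010000001067200003000000105e30000200000002b3d00003000000104bf000030000001043100002000000103a20000200000010309000020000001027100003000000101f00000200000010171000030000001010500002000000100a0000030000001003a)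
noncomputable def DTp217 : Nat := (nat_lit 0x200000012aab00003000000124ca000010000001224400002000000120570000100000011f3c0000200000011e080000100000011ce30000300000011bb60000200000011a7c000030000000753b00002000000071a700003000000117890000300000006a8700002000000115bf0000300000006363000010000000617e00001000000113220000300000005d5a000020000001116700003000000110920000300000010fb60000100000010efc0000300000010e440000200000010d990000200000004b230000100000010c5200002000000044560000100000010af00000300000010a3f000030000001099700001000000108fa000030000001084e00001000000107b20000100000010719000030000000317e00003000000105e40000200000002b3e00002000000104c2000020000001043200001000000103a2000010000001030a0000200000001d270000100000001a550000200000010173000010000001010500003000000100a00000200000000a90)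
noncomputable def DTp218 : Nat := (nat_lit 0x300000012aac00001000000124ca0000300000008d200000300000012058000010000000836c0000300000011e0c0000100000007ed70000200000011bb70000300000011a7c000020000000754200002000000071a800001000000117890000200000006a8800003000000115bf0000300000006364000020000000617f0000200000005edf0000100000005d5a000030000001116700002000000110930000200000010fb70000300000010efd0000100000010e440000300000010d990000200000010ce50000300000010c5300001000000044570000300000010af10000100000010a41000010000001099700003000000108fb0000200000003a7800002000000037bd0000200000003509000010000000317e00002000000105e50000300000002b4100003000000104c300001000000104330000200000002458000030000001030b0000100000001d2800003000000101f10000100000010174000020000000140600002000000100a10000200000000a96)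
noncomputable def DTp219 : Nat := (nat_lit 0x20000000a9ab00002000000124cd0000100000008d3000002000000086960000200000011f3d0000100000011e0d0000200000011ce50000200000011bba0000300000011a7d0000200000011990000010000001186f000020000001178b0000300000006a9600001000000115c000003000000114ec0000200000011412000030000001132300001000000112480000100000005b5c00002000000058ab0000100000010fb80000100000010efe0000100000010e470000100000010d9a0000300000010ce60000100000010c530000300000010b940000200000010af20000100000010a420000200000003edf0000200000003c580000300000003a7c00002000000107b3000030000000350a000030000000318100001000000105e60000100000002b4100001000000104c3000020000001043400003000000103a3000020000001030c0000300000001d350000100000001a5c0000200000010175000030000001010600001000000100a1000030000001003b)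
noncomputable def DTp220 : Nat := (nat_lit 0x300000012ad800002000000124cf0000200000008d33000010000001205e0000300000011f3d0000300000011e0e0000300000011ce50000200000011bbb0000200000011a7e000010000000754b0000200000011870000020000001178c0000100000006a9700001000000115c200002000000114ed000030000001141200001000000113240000300000011249000010000001116800003000000058ad0000300000010fbb0000200000010eff00003000000051800000300000010d9b0000100000010ce60000300000010c540000100000010b940000300000010af30000200000010a4300003000000109980000200000003c590000300000003a7d00003000000107b4000030000001071a000010000000318100003000000105e80000200000002b44000020000000294900002000000026e400001000000103a4000030000001030c0000200000001d3900003000000101f20000200000010176000020000001010700003000000100a2000020000001003c)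
noncomputable def DTp221 : Nat := (nat_lit 0x20000000aa0600003000000124cf000030000001224700003000000086b10000300000011f3e00002000000081510000200000007ed90000200000011bbc00002000000077c4000030000001199300002000000118730000100000006e4200003000000116a400001000000115c4000020000000636a000030000000618000002000000113250000100000011249000030000001116900001000000058ae0000200000010fbc0000300000010f000000200000010e490000100000004ea50000300000004b2b0000200000010c5600002000000044610000100000010af30000300000010a43000030000001099a00003000000108fd0000300000003a8200001000000107b40000300000003514000020000000319100002000000105e90000300000002b4500003000000104c400003000000026e400003000000103a5000020000001030d000020000001027300002000000101f30000300000010177000010000001010700001000000100a2000030000001003c)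
noncomputable def DTp222 : Nat := (nat_lit 0x300000012af300003000000124d4000010000001224800002000000120630000100000011f410000100000011e120000200000011ce70000100000011bbc0000200000011a82000030000001199400003000000118730000200000006e4800001000000116a500003000000115c5000030000000636b000010000000618000003000000113270000300000005d62000020000001116b00002000000110950000300000010fbc0000200000010f020000300000010e490000200000004eb20000200000010ce70000200000010c5700001000000044620000200000010af40000200000010a44000020000001099c00001000000108fd0000200000003a9900003000000037c5000010000000351400003000000031940000200000002e230000100000002b4500003000000104c5000010000001043500001000000103a5000010000001030d000020000001027400001000000101f30000200000010178000030000001010800003000000100a30000200000000ac6)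
noncomputable def DTp223 : Nat := (nat_lit 0x300000012af600001000000124d50000100000008d4200003000000120660000200000011f420000200000011e130000300000011ce80000300000011bbd0000300000011a83000030000000754c0000100000011874000030000001179200002000000116a7000030000000673b00003000000114ee000020000001141500001000000113280000100000005d63000020000001116d00003000000110950000300000010fbf0000300000010f030000200000010e4a0000200000004eb40000300000010ce70000300000010c5700003000000044670000300000010af40000100000010a44000030000001099d00002000000108fe000030000001085000003000000107b6000020000000351900002000000031950000200000002e270000300000002b4600002000000104c6000030000001043600001000000103a6000030000001030e000010000001027500003000000101f40000300000010178000010000001010800001000000100a30000100000000acd)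
noncomputable def DTp224 : Nat := (nat_lit 0x100000012af600002000000124d60000300000008d6900001000000120660000200000011f4300002000000081590000200000007edd0000100000011bbd00002000000077d6000010000000754c0000100000011878000030000001179400003000000116a900002000000115c600002000000114f0000030000001141500001000000113290000200000005d69000030000001116e00002000000058bd0000100000010fbf00002000000053df00002000000051990000200000010d9e0000100000010ce80000200000010c580000100000010b9500003000000042560000300000010a45000010000001099e00002000000108ff0000300000003a9d00003000000037c8000020000000351f000010000000319500003000000105eb0000100000002b520000200000002968000020000001043700002000000103a7000030000001030f0000200000001d4c0000300000001a6600002000000017a4000020000000142200003000000100a4000010000001003d)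
noncomputable def DTp225 : Nat := (nat_lit 0x20000000aa3c00002000000124d8000030000001224e00002000000120670000100000011f44000020000000815a0000200000011ce90000100000011bbe0000300000011a8700002000000119950000200000011879000010000001179500001000000116aa00001000000115ca00002000000114f100001000000114160000100000005ef30000300000005d69000020000001117000002000000058c30000300000010fc000002000000053e000002000000051a10000100000010d9f0000300000004b3e0000100000010c580000300000010b960000200000010af60000100000010a460000200000003ee000003000000108ff000020000001085100002000000107b8000010000001071b000030000001067400001000000105eb0000300000002b5300002000000104c7000010000001043700003000000103a7000010000001030f0000200000001d4d0000100000001a6600002000000017a8000020000000142600001000000100a40000200000000af2)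
noncomputable def DTp226 : Nat := (nat_lit 0x30000000aa3c00001000000124da000010000001224f00003000000120670000200000011f450000300000011e160000200000011ceb0000200000011bbf0000200000011a8800003000000119950000100000011879000030000001179600003000000116ab000030000000674700001000000063af0000200000011417000030000001132b0000100000005d6a000010000001117100003000000058c400002000000057070000300000010f050000300000010e4b0000300000010da00000300000010ce90000100000010c590000100000010b960000300000010af70000200000010a4700002000000109a00000100000010900000010000001085300003000000037c9000010000000352200001000000106750000100000002e2a0000300000002b570000300000002971000030000001043800001000000103a800002000000103100000200000001d520000100000001a6900003000000017ad00002000000101090000200000000ff50000300000000af2)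
noncomputable def DTp227 : Nat := (nat_lit 0x30000000aa7200002000000124db000020000001225000002000000120680000300000011f450000100000011e160000100000011ced0000200000007b390000100000011a880000200000011997000020000001187a000010000001179700003000000116ad00001000000115cc00002000000063d20000200000011419000010000001132c000020000001124a000020000001117200002000000058d80000200000010fc200002000000053e500002000000051a20000200000010da20000200000004b450000200000010c5a00002000000044820000100000010af8000020000000409600003000000109a00000100000003c5a000020000001085400001000000107b9000030000001071c00003000000031ad00001000000105ec0000200000002b5c00002000000104c8000020000001043900001000000024630000300000010311000020000001027600002000000101f50000200000010179000020000000142e00002000000100a5000020000001003e)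
noncomputable def DTp228 : Nat := (nat_lit 0x200000012b3c00002000000097f30000300000012250000010000001206800001000000083810000100000011e180000300000011cef0000300000011bc000003000000077ea0000200000011998000030000001187a00003000000117980000200000006a9b00003000000115cd00003000000063d2000010000001141a000010000001132d000020000001124b0000200000005b7700002000000058dc0000200000010fc30000300000010f070000300000010e4c0000200000010da40000300000010cea0000300000010c5b0000100000010b980000200000010af90000300000010a4800002000000109a10000300000003c67000030000001085400003000000107ba000010000001071c000020000001067700002000000105ee000020000001055400001000000104c8000030000001043a00003000000103a90000100000010311000030000001027600003000000101f50000300000010179000030000000143200002000000100a6000010000001003e)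
noncomputable def DTp229 : Nat := (nat_lit 0x200000012b4c00003000000124dd0000300000008d9a000020000001206a0000300000011f460000200000011e1a0000200000007eea0000200000011bc100002000000077eb0000300000011998000020000001187c00001000000117990000300000006a9c00001000000115cd00003000000063d7000020000000619d000020000001132f0000200000005d740000300000005b7700001000000058df0000300000010fc50000200000010f080000300000010e4d0000100000010da40000200000010ceb0000100000010c5b000020000000448b00002000000042890000100000010a4800003000000109a20000200000003c68000020000001085500002000000107bc0000300000003538000030000001067900003000000105ee00003000000105550000300000002973000010000001043a00001000000103a90000200000002136000010000001027700002000000101f7000020000001017a000010000000143200003000000100a70000300000000af9)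
noncomputable def DTp230 : Nat := (nat_lit 0x300000012b4f00001000000124dd0000100000008d9d000030000001206b0000300000011f490000300000011e1b0000300000011cf00000300000011bc200002000000077f20000100000011999000030000001187c000020000001179a0000100000006a9d00002000000115d100002000000063d8000030000001141f0000100000011330000020000001124d0000200000005b78000030000001109a0000100000010fc50000100000010f080000200000010e4f0000300000010da50000200000010cec00002000000047bb0000300000010b9900003000000042910000200000010a4900001000000109a20000100000010903000010000001085500002000000107bd0000100000003538000020000001067a0000100000002e2b000010000001055500003000000104c9000030000001043b00002000000103aa000020000000213c000020000001027800002000000101f8000020000001017b000030000001010a0000300000000ffa000020000001003f)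
noncomputable def DTp231 : Nat := (nat_lit 0x200000012b5d00002000000124f4000030000001225200003000000120760000100000011f4a0000100000011e1b0000200000011cf20000100000011bc40000200000011a8c000020000001199a000010000001187d0000200000006e7600002000000116ae00002000000115d200001000000114f700001000000114220000200000011332000030000001124f000030000001117500002000000058ea0000300000010fc60000300000010f0900003000000051a80000200000010da60000300000010cec00003000000047bb000010000000448f0000100000010afb0000300000010a4900003000000109a40000200000010905000020000001085600003000000107bd000030000000354900003000000031b900002000000105ef000030000001055700001000000104c9000020000001043c00002000000103ab0000200000010313000020000001027900003000000101f8000030000001017b000010000001010a0000300000000ffb000030000001003f)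
noncomputable def DTp232 : Nat := (nat_lit 0x200000012b6100001000000124fc0000100000008dae00003000000086c70000300000011f4b00002000000081620000100000011cf30000100000011bc50000300000011a8c000010000001199b000020000001187f0000200000006e8700001000000116af00003000000115d200002000000114f800001000000114250000200000005ef80000200000011251000020000001117700002000000058ec0000200000010fc700002000000054030000200000010e500000200000010da90000100000010ced0000200000010c5c00003000000044960000300000010afc0000200000010a4a00002000000109a50000200000010906000030000001085700003000000037d1000020000001071d000020000001067b00003000000105f0000010000001055700003000000104ca000030000001043d00003000000024690000200000010314000030000001027900002000000101f9000020000001017c0000200000001438000010000000100c0000100000000b06)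
noncomputable def DTp233 : Nat := (nat_lit 0x300000012b8a00002000000124fe0000100000012259000020000001207f0000100000011f4b0000100000011e1d0000200000011cf60000300000011bc70000300000011a8d000020000001199c00001000000071d70000100000006e8800002000000116b000001000000115d300003000000114f900001000000114270000300000005f0200002000000112520000100000005b80000020000001109c0000200000010fc80000300000010f0b0000200000010e520000300000010da90000200000004b510000100000010c5c00002000000044980000200000010afd0000100000010a4a00001000000109a500003000000109060000100000003aa000002000000107be000010000001071d00002000000031c100002000000105f1000020000001055800003000000104cb000010000001043d000020000000246b0000200000002154000010000001027a00001000000101f9000010000001017c000030000001010b000030000000101d0000200000000b08)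
noncomputable def DTp234 : Nat := (nat_lit 0x100000012b8a000010000001250a000010000001225b00002000000086cc0000200000011f500000100000011e1e0000300000011cf70000100000011bc80000200000011a8f000030000001199c00002000000071d90000300000006e9400001000000116b100002000000115d500002000000114fa000020000001142800001000000113340000200000005d810000300000005b81000030000001109d0000300000010fc80000200000010f0c0000300000010e520000200000010dab0000200000004b5700003000000047c00000300000010b9b0000300000010afd00003000000040990000200000003ef800002000000109080000100000003aa300003000000107c0000030000000354c000020000001067c00001000000105f1000030000001055800002000000104cc000020000001043e000010000000247e00003000000103150000200000001d5d00003000000101fa00001000000017c3000020000001010c00002000000010210000200000000b12)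
noncomputable def DTp235 : Nat := (nat_lit 0x300000012b8b00001000000125150000300000008dea00002000000120890000300000011f500000200000011e1f0000100000011cf70000300000011bcb0000100000011a90000020000000755500003000000118810000300000006e9a00002000000116b200002000000115d600001000000114fa000030000001142800002000000113350000200000005d840000300000005b86000010000001109d0000200000010fca0000100000010f0c0000300000010e530000300000010dac0000100000004b590000300000010c60000010000000449d000030000000429a0000300000010a4b0000300000003efa0000300000010908000020000001085800001000000107c0000020000001071f000010000001067c00002000000105f2000020000001055900002000000104cd000020000001043f00002000000103ac00001000000103150000200000001d6300002000000101fb000030000001017e000010000001010c00002000000100a80000300000010040)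
noncomputable def DTp236 : Nat := (nat_lit 0x300000012b8d0000300000012516000020000001226f00003000000086da0000200000011f510000300000011e1f0000100000011cf80000200000007b5000002000000077f7000030000001199d00001000000118810000200000006ea900003000000116b300003000000115d700002000000114fd00002000000114290000200000005f040000100000005d85000030000001117900003000000058f40000100000010fca000030000000540c0000100000010e530000200000010dad0000200000010cee0000200000010c610000200000010b9c000010000000429a0000200000010a4d0000100000003efa0000100000010909000030000001085800002000000037de000020000001072000003000000031d00000300000002e2f000010000001055900002000000104ce000030000001043f00003000000103ac0000200000002163000020000001027c00001000000101fb000010000001017e000010000000144200003000000100a80000100000010040)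
noncomputable def DTp237 : Nat := (nat_lit 0x200000012b920000200000012517000030000001226f000020000001208d00003000000083980000100000011e210000300000011cfb0000100000007b510000100000011a93000010000001199d00002000000071dd0000300000006ea900003000000116b500003000000115da00003000000114fe000010000001142900003000000113360000200000005d8b000010000001117900002000000058f90000100000010fcc0000200000010f0e0000200000010e550000300000004edc0000300000010cee0000100000010c6100003000000044ab0000300000010aff000020000000409a00003000000109a70000200000003c89000020000001085b00002000000037e1000030000001072000001000000031d000001000000105f30000200000002b66000030000000298500002000000026eb00002000000103ae0000200000002169000020000001027d00002000000101fc000020000001017f000030000001010d00001000000010250000300000000b13)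
noncomputable def DTp238 : Nat := (nat_lit 0x100000012b9300003000000098d4000020000001227100002000000120900000200000011f550000200000011e230000100000011cfb0000200000011bcd0000300000011a94000020000001199e00001000000071de0000300000006eaf00003000000116b600002000000115db00001000000114fe00003000000061b500001000000113360000300000011253000020000001117a000020000001109e00002000000057100000300000010f0f0000300000010e550000100000004edd0000100000004b610000200000010c620000300000010b9f000020000000429f000020000000409c00002000000109a80000300000003c8f000030000001085c00002000000037e2000020000001072100003000000031dc00003000000105f40000200000002b6c000010000000298600003000000026eb00003000000103ae000030000000216b000030000001027d00001000000101fd00002000000017c8000010000001010d00003000000100a90000300000000b18)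
noncomputable def DTp239 : Nat := (nat_lit 0x200000012b940000200000012519000030000001227200003000000120910000300000011f550000300000011e280000300000011cfe0000200000011bd20000300000011a96000030000001199f00002000000118830000100000006eaf00001000000116b600002000000115dc00003000000114ff000030000001142a00002000000113370000200000011255000030000001117b00002000000110a00000300000010fcd0000100000010f0f0000200000010e560000200000004edf0000200000004b6200002000000047cc0000200000010ba00000100000010b010000100000010a4e00001000000109a80000100000003c8f0000100000003aa500003000000037e20000100000010721000030000001067d00002000000105f5000030000001055a00003000000104d000002000000026ed00001000000103af000010000000216b0000100000001d650000300000001a7a0000200000010180000020000001010e00001000000100a90000100000010042)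
noncomputable def DTp240 : Nat := (nat_lit 0x200000012b9500003000000098e4000020000001227300001000000120910000300000011f560000100000011e2a0000200000011cff0000300000011bd20000100000011a96000010000001199f00003000000118830000200000006eb700001000000116b700003000000115de0000100000011500000010000001142a00003000000113380000200000011258000020000001117c00001000000110a100002000000057140000200000010f110000100000010e560000200000004ee10000200000010cf000003000000047cd0000100000010ba000002000000042bd0000200000010a4f00002000000109aa0000200000003caa0000300000003aa600001000000037e30000300000003565000030000001067e00001000000105f6000010000001055a00001000000104d00000300000010441000030000000248000002000000021750000300000001d6600003000000101fe0000100000010180000030000001010e000020000000102e0000200000010043)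
noncomputable def DTp241 : Nat := (nat_lit 0x300000012b99000010000001251b000020000001227700003000000120920000100000011f5600001000000081660000300000011d000000300000011bd50000300000011a9700003000000119a000002000000118840000300000006ec80000100000006a9f00001000000115de0000200000011501000030000001142b00001000000113380000200000011259000030000001117c00003000000110a20000300000010fce0000300000010f110000200000010e570000300000010daf0000300000010cf000001000000047cd0000300000010ba10000300000010b030000300000010a5200002000000109ac000010000001090a000020000001085d00001000000107c20000100000010723000010000001067e00003000000105f80000200000002b6e00002000000104d1000010000001044100003000000103b000003000000103170000100000001d6600002000000101ff0000300000010181000020000001010f00003000000010370000300000010044)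
noncomputable def DTp242 : Nat := (nat_lit 0x300000012b9b000020000001251c000030000001227700002000000120930000300000011f5800002000000081680000300000011d030000300000011bd80000200000011a9900003000000119a1000020000001188600002000000117a600002000000116b800003000000115df00001000000063e6000020000001142c0000200000005f060000200000005da00000100000005b8800001000000110a30000200000010fcf000020000000541c0000100000010e570000100000010daf0000200000010cf100002000000047d800002000000044de0000200000010b040000200000010a5500001000000109ae000030000001090b000030000001085e00002000000037e90000300000010724000030000001067f00001000000105f9000010000001055b00003000000104d200002000000026f7000010000000248c0000200000010318000030000001027e0000200000001aa000001000000017e4000010000000145300003000000100aa0000300000000b35)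
noncomputable def DTp243 : Nat := (nat_lit 0x10000000ac21000030000001252d000030000001228400003000000120960000200000011f5a0000300000011e320000200000011d040000300000011bda00002000000077fa00001000000119a1000010000001188900003000000117a60000300000006aa400003000000115e00000300000011502000020000001142d0000200000005f100000300000005da4000020000001117e00002000000059000000300000010fcf000030000000541f00002000000051c30000300000004ee50000100000010cf100003000000047db00002000000044e40000200000010b060000100000010a5500002000000109b0000010000001090b000030000001085f00002000000107c30000300000003571000010000001067f0000200000002e36000020000001055c00003000000104d400003000000026f8000010000000249800003000000103190000100000001d69000020000001020000003000000017e8000020000000145500001000000100aa0000100000000b36)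
noncomputable def DTp244 : Nat := (nat_lit 0x10000000ac2b000030000001252e000020000001228800001000000120970000100000011f5a0000200000011e330000200000007f040000100000011bda000020000000780800002000000119a2000030000001188a00003000000117a700003000000116b900001000000115e00000100000011502000030000001142e0000200000005f14000030000001125b0000200000005b8900003000000059020000100000010fd0000010000000541f00003000000051c50000300000004ef20000200000004b8300002000000047dc0000300000010ba200003000000042ce0000200000010a5600003000000109b0000010000001090c000010000001086000002000000107c4000020000000357700003000000106800000200000002e3b0000300000002b7f00003000000104d500001000000026f800003000000024a10000100000010319000020000001027f00003000000102000000100000010182000020000000145800002000000100ab0000300000000b44)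
noncomputable def DTp245 : Nat := (nat_lit 0x30000000ac64000010000001252f0000100000012289000020000001209c00003000000083b9000020000000816e0000100000007f040000200000007b6e0000200000011aa2000030000000755900002000000071e900002000000117a900003000000116ba00002000000115e10000200000011504000010000001142e0000300000005f16000020000001125d000030000001117f00003000000110a50000100000010fd1000020000000542700002000000051c60000300000010db10000200000010cf20000300000010c630000200000010ba400001000000042ce0000300000010a5700002000000109b2000030000001090d000020000001086100003000000107c5000020000001072500002000000106820000300000002e3b0000100000002b8200002000000104d6000010000001044300002000000024bb000020000001031a000030000001027f00002000000102010000200000010183000020000000145a00003000000100ac0000100000000b50)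
noncomputable def DTp246 : Nat := (nat_lit 0x10000000ac6e0000300000012530000020000001228c000030000001209e00002000000083bb000010000000817a0000200000011d050000100000007b740000100000011aa200002000000119a300002000000071ee00003000000117a90000300000006ab300003000000115e300003000000115040000200000011430000020000001133a0000200000005da5000010000001117f00003000000110a70000300000010fd2000020000000542b0000300000010e580000100000010db10000100000010cf30000100000010c630000100000010ba40000200000010b070000300000010a5900003000000109b40000300000003cd2000020000001086200001000000037ed0000200000010728000030000001068300003000000105fa0000100000002b89000030000000299a000030000000270900003000000024bb000030000001031b000010000001028000001000000102010000300000010184000030000000146500002000000010400000300000000b94)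
noncomputable def DTp247 : Nat := (nat_lit 0x300000012bc00000100000012530000010000001229200002000000120a00000300000011f5b000030000000817e0000300000011d050000200000011bdc0000300000011aa300002000000119a4000030000001188f0000100000006ecc0000100000006ab400001000000115e300002000000115050000300000011430000010000001133a000030000001125e000020000001118000002000000110a80000200000010fd30000300000010f130000100000010e580000300000010db20000300000010cf60000200000010c6400002000000044f800003000000042cf0000200000010a5a00002000000109b50000200000010911000030000001086200003000000107c60000200000010729000020000001068400002000000105fb000030000001055d00002000000104d7000030000000270c00003000000024c3000020000001031c00002000000102810000200000001aa90000100000010184000010000000146a00001000000010400000200000000b9a)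
noncomputable def DTp248 : Nat := (nat_lit 0x20000000ac9d0000200000012531000030000001229400003000000120a10000200000011f5c0000300000011e380000200000011d060000300000011bdc0000300000011aa5000030000000755c000010000001188f00003000000117aa00003000000116bb00003000000115e400003000000063ea00001000000114310000100000005f1b000030000001125f0000100000005b8a00002000000110a90000300000010fd30000100000010f130000200000010e590000200000010db30000200000010cf80000300000010c6400003000000044fd00001000000042d00000300000010a5a00002000000109b60000100000003cd4000020000001086300001000000107c6000030000001072a000010000001068400003000000105fb000010000001055d00001000000104d7000020000000271400001000000024c4000010000001031c000030000001028200003000000102020000300000010185000020000001011000003000000100ad0000200000000bb0)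
noncomputable def DTp249 : Nat := (nat_lit 0x300000012bd50000100000012532000020000001229b00002000000120a20000300000011f5f00003000000081800000300000007f070000200000011bdd0000100000011aa5000020000000755d000010000001189200002000000117ab0000200000006ad200002000000115e500003000000063f10000300000011433000020000001133c0000200000011260000030000001118300003000000110a90000300000010fd40000200000010f140000100000010e5a0000200000010db40000100000010cf900002000000047e20000300000010ba50000100000010b090000300000010a5b00001000000109b60000200000003ce4000010000001086300002000000037f3000010000000357a000010000001068500001000000105fc0000300000002b93000010000000299d000030000000272100003000000103b10000300000002180000010000001028200001000000102020000200000010186000030000001011000001000000100ad0000100000000bc0)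
noncomputable def DTp250 : Nat := (nat_lit 0x300000012bd70000300000012533000030000001229d00003000000086ef0000100000011f600000200000011e390000200000011d070000300000007b880000300000011aa700003000000119a6000010000000721900001000000117ab0000100000006ad300003000000115e700003000000115060000100000011433000010000001133c00003000000112600000200000005b9500002000000059050000100000010fd40000300000010f1500002000000051c70000300000010db40000200000010cfa0000200000010c650000100000010ba50000100000010b0a0000200000010a5d0000100000003f040000300000003cf00000100000003aaa00002000000037f4000020000001072b00003000000106860000100000002e45000020000001055f00003000000104d8000010000000272100002000000103b2000010000001031e0000300000001d7800003000000102030000100000010186000020000001011100003000000100ae0000200000010045)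
noncomputable def DTp251 : Nat := (nat_lit 0x30000000acda0000100000012538000020000001229e00003000000086f10000300000011f61000030000000818a0000300000011d0a0000200000007b890000300000011aa800001000000119a7000030000001189300003000000117ac00003000000116be00001000000115e8000010000001150600003000000114340000300000005f280000100000005da9000020000001118500003000000110aa0000300000010fd60000100000010f1500002000000051ca0000200000004efa0000100000010cfb00003000000047e70000200000010ba60000100000010b0c0000300000010a5d0000200000003f050000200000010913000020000001086400003000000107c7000030000000357b00002000000106870000100000002e4a000020000001056200002000000029a2000020000001044500001000000103b2000030000001031f000030000001028300003000000102040000300000010187000020000001011200001000000100ae0000200000000bed)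
noncomputable def DTp252 : Nat := (nat_lit 0x300000012bdf000030000001253b0000300000008ead00002000000120a400003000000083cb0000200000011e3d0000300000011d0f0000100000011be0000020000000784900003000000119a900001000000118960000200000006ed00000200000006ae900002000000115e900003000000115070000200000011436000030000001133f0000200000011261000010000001118600001000000110aa0000200000010fd80000200000010f160000300000010e5c0000300000010db50000200000010cfd00002000000047e800002000000044fe0000300000010b0e0000200000010a5e00002000000109b80000200000003cf10000300000003ab100002000000107c8000020000001072c000030000001068700003000000105fd000020000001056300002000000029a9000020000000272200003000000103b3000010000001031f000010000001028300001000000102040000100000010187000020000001011300003000000100af0000200000010046)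
noncomputable def DTp253 : Nat := (nat_lit 0x200000012be0000020000001253f000020000001229f00003000000120a400002000000083de0000200000011e3e0000300000011d100000300000011be20000200000011aaa00002000000119aa000010000001189700003000000117ae0000100000006ae9000010000000675e00001000000064000000300000011437000020000001134000003000000112620000200000005b9900002000000110ab0000300000010fda0000300000010f160000100000010e5c0000100000010db50000100000010cfd00001000000047e800003000000044ff0000200000010b0f0000100000010a5e00003000000109b80000300000010916000030000001086600003000000107c9000020000001072d000010000001068800002000000105fe000030000001056300003000000029a9000020000001044700001000000103b300003000000103200000200000010284000020000001020500002000000017f7000030000001011400002000000010470000100000010047)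
noncomputable def DTp254 : Nat := (nat_lit 0x100000012be0000020000001254a00002000000122a100003000000120a60000200000011f630000100000011e400000300000011d120000200000007b9c0000300000011aae00002000000119ab000030000001189c00003000000117af0000300000006af100002000000115ea0000200000011509000030000001143800001000000113400000100000011263000020000001118700001000000110ad0000200000010fdc0000200000010f170000300000010e5e0000200000004efd0000300000004b910000200000010c66000020000000450000003000000042e40000200000010a5f00003000000109b900002000000109180000200000003ab40000200000003802000010000000357f000010000000320400002000000105ff0000100000002baf00002000000104d9000030000001044700002000000103b40000200000010321000030000001028400002000000102060000300000010188000010000001011400002000000010570000300000000bfc)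
noncomputable def DTp255 : Nat := (nat_lit 0x1000000099ec00003000000122a100001000000120a700002000000083ec0000100000011e410000300000011d130000200000007bac0000200000011aaf00003000000119ab000030000001189e00002000000117b000001000000116c10000100000006762000030000001150a000010000001143800002000000113430000200000005dba0000100000011188000020000000590f00003000000057350000100000010f170000100000010e5e0000300000010db70000200000004ba00000200000010c67000030000000450200001000000042e50000300000010a5f00001000000109b9000030000001091900002000000108670000100000003802000020000001072e000020000001068a00003000000105ff000020000001056500001000000104d9000030000001044800003000000103b400001000000103210000300000010285000030000001020600003000000017fb000030000001011500003000000010590000100000000bfe)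
noncomputable def DT : Tr := (Tr.node (Tr.node (Tr.node (Tr.node (Tr.node (Tr.node (Tr.node (Tr.node (Tr.leaf DTp0) (Tr.leaf DTp128)) (Tr.node (Tr.leaf DTp64) (Tr.leaf DTp192))) (Tr.node (Tr.node (Tr.leaf DTp32) (Tr.leaf DTp160)) (Tr.node (Tr.leaf DTp96) (Tr.leaf DTp224)))) (Tr.node (Tr.node (Tr.node (Tr.leaf DTp16) (Tr.leaf DTp144)) (Tr.node (Tr.leaf DTp80) (Tr.leaf DTp208))) (Tr.node (Tr.node (Tr.leaf DTp48) (Tr.leaf DTp176)) (Tr.node (Tr.leaf DTp112) (Tr.leaf DTp240))))) (Tr.node (Tr.node (Tr.node (Tr.node (Tr.leaf DTp8) (Tr.leaf DTp136)) (Tr.node (Tr.leaf DTp72) (Tr.leaf DTp200))) (Tr.node (Tr.node (Tr.leaf DTp40) (Tr.leaf DTp168)) (Tr.node (Tr.leaf DTp104) (Tr.leaf DTp232)))) (Tr.node (Tr.node (Tr.node (Tr.leaf DTp24) (Tr.leaf DTp152)) (Tr.node (Tr.leaf DTp88) (Tr.leaf DTp216))) (Tr.node (Tr.node (Tr.leaf DTp56) (Tr.leaf DTp184)) (Tr.node (Tr.leaf DTp120) (Tr.leaf DTp248)))))) (Tr.node (Tr.node (Tr.node (Tr.node (Tr.node (Tr.leaf DTp4) (Tr.leaf DTp132)) (Tr.node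 (Tr.leaf DTp68) (Tr.leaf DTp196))) (Tr.node (Tr.node (Tr.leaf DTp36) (Tr.leaf DTp164)) (Tr.node (Tr.leaf DTp100) (Tr.leaf DTp228)))) (Tr.node (Tr.node (Tr.node (Tr.leaf DTp20) (Tr.leaf DTp148)) (Tr.node (Tr.leaf DTp84) (Tr.leaf DTp212))) (Tr.node (Tr.node (Tr.leaf DTp52) (Tr.leaf DTp180)) (Tr.node (Tr.leaf DTp116) (Tr.leaf DTp244))))) (Tr.node (Tr.node (Tr.node (Tr.node (Tr.leaf DTp12) (Tr.leaf DTp140)) (Tr.node (Tr.leaf DTp76) (Tr.leaf DTp204))) (Tr.node (Tr.node (Tr.leaf DTp44) (Tr.leaf DTp172)) (Tr.node (Tr.leaf DTp108) (Tr.leaf DTp236)))) (Tr.node (Tr.node (Tr.node (Tr.leaf DTp28) (Tr.leaf DTp156)) (Tr.node (Tr.leaf DTp92) (Tr.leaf DTp220))) (Tr.node (Tr.node (Tr.leaf DTp60) (Tr.leaf DTp188)) (Tr.node (Tr.leaf DTp124) (Tr.leaf DTp252))))))) (Tr.node (Tr.node (Tr.node (Tr.node (Tr.node (Tr.node (Tr.leaf DTp2) (Tr.leaf DTp130)) (Tr.node (Tr.leaf DTp66) (Tr.leaf DTp194))) (Tr.node (Tr.node (Tr.leaf DTp34) (Tr.leaf DTp162)) (Tr.node (Tr.leaf DTp98) (Tr.leaf DTp226))))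 (Tr.node (Tr.node (Tr.node (Tr.leaf DTp18) (Tr.leaf DTp146)) (Tr.node (Tr.leaf DTp82) (Tr.leaf DTp210))) (Tr.node (Tr.node (Tr.leaf DTp50) (Tr.leaf DTp178)) (Tr.node (Tr.leaf DTp114) (Tr.leaf DTp242))))) (Tr.node (Tr.node (Tr.node (Tr.node (Tr.leaf DTp10) (Tr.leaf DTp138)) (Tr.node (Tr.leaf DTp74) (Tr.leaf DTp202))) (Tr.node (Tr.node (Tr.leaf DTp42) (Tr.leaf DTp170)) (Tr.node (Tr.leaf DTp106) (Tr.leaf DTp234)))) (Tr.node (Tr.node (Tr.node (Tr.leaf DTp26) (Tr.leaf DTp154)) (Tr.node (Tr.leaf DTp90) (Tr.leaf DTp218))) (Tr.node (Tr.node (Tr.leaf DTp58) (Tr.leaf DTp186)) (Tr.node (Tr.leaf DTp122) (Tr.leaf DTp250)))))) (Tr.node (Tr.node (Tr.node (Tr.node (Tr.node (Tr.leaf DTp6) (Tr.leaf DTp134)) (Tr.node (Tr.leaf DTp70) (Tr.leaf DTp198))) (Tr.node (Tr.node (Tr.leaf DTp38) (Tr.leaf DTp166)) (Tr.node (Tr.leaf DTp102) (Tr.leaf DTp230)))) (Tr.node (Tr.node (Tr.node (Tr.leaf DTp22) (Tr.leaf DTp150)) (Tr.node (Tr.leaf DTp86) (Tr.leaf DTp214))) (Tr.node (Tr.node (Tr.leaf DTp54) (Tr.leaf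 DTp182)) (Tr.node (Tr.leaf DTp118) (Tr.leaf DTp246))))) (Tr.node (Tr.node (Tr.node (Tr.node (Tr.leaf DTp14) (Tr.leaf DTp142)) (Tr.node (Tr.leaf DTp78) (Tr.leaf DTp206))) (Tr.node (Tr.node (Tr.leaf DTp46) (Tr.leaf DTp174)) (Tr.node (Tr.leaf DTp110) (Tr.leaf DTp238)))) (Tr.node (Tr.node (Tr.node (Tr.leaf DTp30) (Tr.leaf DTp158)) (Tr.node (Tr.leaf DTp94) (Tr.leaf DTp222))) (Tr.node (Tr.node (Tr.leaf DTp62) (Tr.leaf DTp190)) (Tr.node (Tr.leaf DTp126) (Tr.leaf DTp254)))))))) (Tr.node (Tr.node (Tr.node (Tr.node (Tr.node (Tr.node (Tr.node (Tr.leaf DTp1) (Tr.leaf DTp129)) (Tr.node (Tr.leaf DTp65) (Tr.leaf DTp193))) (Tr.node (Tr.node (Tr.leaf DTp33) (Tr.leaf DTp161)) (Tr.node (Tr.leaf DTp97) (Tr.leaf DTp225)))) (Tr.node (Tr.node (Tr.node (Tr.leaf DTp17) (Tr.leaf DTp145)) (Tr.node (Tr.leaf DTp81) (Tr.leaf DTp209))) (Tr.node (Tr.node (Tr.leaf DTp49) (Tr.leaf DTp177)) (Tr.node (Tr.leaf DTp113) (Tr.leaf DTp241))))) (Tr.node (Tr.node (Tr.node (Tr.node (Tr.leaf DTp9) (Tr.leaf DTp137))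 (Tr.node (Tr.leaf DTp73) (Tr.leaf DTp201))) (Tr.node (Tr.node (Tr.leaf DTp41) (Tr.leaf DTp169)) (Tr.node (Tr.leaf DTp105) (Tr.leaf DTp233)))) (Tr.node (Tr.node (Tr.node (Tr.leaf DTp25) (Tr.leaf DTp153)) (Tr.node (Tr.leaf DTp89) (Tr.leaf DTp217))) (Tr.node (Tr.node (Tr.leaf DTp57) (Tr.leaf DTp185)) (Tr.node (Tr.leaf DTp121) (Tr.leaf DTp249)))))) (Tr.node (Tr.node (Tr.node (Tr.node (Tr.node (Tr.leaf DTp5) (Tr.leaf DTp133)) (Tr.node (Tr.leaf DTp69) (Tr.leaf DTp197))) (Tr.node (Tr.node (Tr.leaf DTp37) (Tr.leaf DTp165)) (Tr.node (Tr.leaf DTp101) (Tr.leaf DTp229)))) (Tr.node (Tr.node (Tr.node (Tr.leaf DTp21) (Tr.leaf DTp149)) (Tr.node (Tr.leaf DTp85) (Tr.leaf DTp213))) (Tr.node (Tr.node (Tr.leaf DTp53) (Tr.leaf DTp181)) (Tr.node (Tr.leaf DTp117) (Tr.leaf DTp245))))) (Tr.node (Tr.node (Tr.node (Tr.node (Tr.leaf DTp13) (Tr.leaf DTp141)) (Tr.node (Tr.leaf DTp77) (Tr.leaf DTp205))) (Tr.node (Tr.node (Tr.leaf DTp45) (Tr.leaf DTp173)) (Tr.node (Tr.leaf DTp109) (Tr.leaf DTp237))))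 (Tr.node (Tr.node (Tr.node (Tr.leaf DTp29) (Tr.leaf DTp157)) (Tr.node (Tr.leaf DTp93) (Tr.leaf DTp221))) (Tr.node (Tr.node (Tr.leaf DTp61) (Tr.leaf DTp189)) (Tr.node (Tr.leaf DTp125) (Tr.leaf DTp253))))))) (Tr.node (Tr.node (Tr.node (Tr.node (Tr.node (Tr.node (Tr.leaf DTp3) (Tr.leaf DTp131)) (Tr.node (Tr.leaf DTp67) (Tr.leaf DTp195))) (Tr.node (Tr.node (Tr.leaf DTp35) (Tr.leaf DTp163)) (Tr.node (Tr.leaf DTp99) (Tr.leaf DTp227)))) (Tr.node (Tr.node (Tr.node (Tr.leaf DTp19) (Tr.leaf DTp147)) (Tr.node (Tr.leaf DTp83) (Tr.leaf DTp211))) (Tr.node (Tr.node (Tr.leaf DTp51) (Tr.leaf DTp179)) (Tr.node (Tr.leaf DTp115) (Tr.leaf DTp243))))) (Tr.node (Tr.node (Tr.node (Tr.node (Tr.leaf DTp11) (Tr.leaf DTp139)) (Tr.node (Tr.leaf DTp75) (Tr.leaf DTp203))) (Tr.node (Tr.node (Tr.leaf DTp43) (Tr.leaf DTp171)) (Tr.node (Tr.leaf DTp107) (Tr.leaf DTp235)))) (Tr.node (Tr.node (Tr.node (Tr.leaf DTp27) (Tr.leaf DTp155)) (Tr.node (Tr.leaf DTp91) (Tr.leaf DTp219))) (Tr.node (Tr.node (Tr.leaf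 DTp59) (Tr.leaf DTp187)) (Tr.node (Tr.leaf DTp123) (Tr.leaf DTp251)))))) (Tr.node (Tr.node (Tr.node (Tr.node (Tr.node (Tr.leaf DTp7) (Tr.leaf DTp135)) (Tr.node (Tr.leaf DTp71) (Tr.leaf DTp199))) (Tr.node (Tr.node (Tr.leaf DTp39) (Tr.leaf DTp167)) (Tr.node (Tr.leaf DTp103) (Tr.leaf DTp231)))) (Tr.node (Tr.node (Tr.node (Tr.leaf DTp23) (Tr.leaf DTp151)) (Tr.node (Tr.leaf DTp87) (Tr.leaf DTp215))) (Tr.node (Tr.node (Tr.leaf DTp55) (Tr.leaf DTp183)) (Tr.node (Tr.leaf DTp119) (Tr.leaf DTp247))))) (Tr.node (Tr.node (Tr.node (Tr.node (Tr.leaf DTp15) (Tr.leaf DTp143)) (Tr.node (Tr.leaf DTp79) (Tr.leaf DTp207))) (Tr.node (Tr.node (Tr.leaf DTp47) (Tr.leaf DTp175)) (Tr.node (Tr.leaf DTp111) (Tr.leaf DTp239)))) (Tr.node (Tr.node (Tr.node (Tr.leaf DTp31) (Tr.leaf DTp159)) (Tr.node (Tr.leaf DTp95) (Tr.leaf DTp223))) (Tr.node (Tr.node (Tr.leaf DTp63) (Tr.leaf DTp191)) (Tr.node (Tr.leaf DTp127) (Tr.leaf DTp255)))))))))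
noncomputable def s0 : Scr := (Scr.cons (nat_lit 20) (nat_lit 2) (Step.F (nat_lit 2) (Step.L Step.done)) (Scr.cons (nat_lit 19) (nat_lit 2) (Step.F (nat_lit 1) (Step.L Step.done)) (Scr.cons (nat_lit 18) (nat_lit 3) (Step.L (Step.L (Step.F (nat_lit 0) (Step.L (Step.L Step.done))))) (Scr.cons (nat_lit 12) (nat_lit 4) (Step.L (Step.L (Step.L (Step.L (Step.D (nat_lit 80) Step.done))))) (Scr.cons (nat_lit 12) (nat_lit 4) (Step.L (Step.D (nat_lit 80) (Step.F (nat_lit 6) (Step.L (Step.L Step.done))))) (Scr.cons (nat_lit 12) (nat_lit 1) (Step.L (Step.L (Step.L (Step.L (Step.D (nat_lit 105) Step.done))))) (Scr.cons (nat_lit 12) (nat_lit 1) (Step.L (Step.D (nat_lit 105) (Step.F (nat_lit 8) (Step.L (Step.L Step.done))))) (Scr.cons (nat_lit 12) (nat_lit 1) (Step.L (Step.L (Step.L (Step.L (Step.D (nat_lit 139) Step.done))))) (Scr.cons (nat_lit 12) (nat_lit 1) (Step.L (Step.D (nat_lit 139) (Step.F (nat_lit 10) (Step.L (Step.L Step.done))))) (Scr.cons (nat_lit 14) (nat_lit 4) (Step.U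 (nat_lit 383) (Step.U (nat_lit 127) (Step.L (Step.L (Step.L (Step.L (Step.L (Step.L (Step.L (Step.L (Step.L (Step.L (Step.L (Step.L (Step.L (Step.L (Step.L (Step.L (Step.L (Step.L Step.done)))))))))))))))))))) (Scr.cons (nat_lit 11) (nat_lit 0) (Step.F (nat_lit 12) (Step.U (nat_lit 383) (Step.U (nat_lit 127) (Step.L (Step.L Step.done))))) (Scr.cons (nat_lit 12) (nat_lit 4) (Step.L (Step.L (Step.L (Step.L (Step.D (nat_lit 154) Step.done))))) (Scr.cons (nat_lit 12) (nat_lit 4) (Step.L (Step.D (nat_lit 154) (Step.F (nat_lit 14) (Step.L (Step.L Step.done))))) (Scr.cons (nat_lit 14) (nat_lit 6) (Step.L (Step.L (Step.L (Step.L (Step.L (Step.L (Step.L (Step.L (Step.L (Step.L (Step.L (Step.L (Step.L (Step.L (Step.L (Step.L (Step.L (Step.L (Step.D (nat_lit 183) (Step.D (nat_lit 526) Step.done)))))))))))))))))))) (Scr.cons (nat_lit 4) (nat_lit 0) (Step.B (nat_lit 16) (Step.U (nat_lit 526) (Step.U (nat_lit 183) (Step.L (Step.L Step.done))))) (Scr.cons (nat_lit 12) (nat_lit 4) (Step.L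 (Step.L (Step.L (Step.L (Step.D (nat_lit 193) Step.done))))) (Scr.cons (nat_lit 12) (nat_lit 4) (Step.L (Step.D (nat_lit 193) (Step.F (nat_lit 18) (Step.L (Step.L Step.done))))) (Scr.cons (nat_lit 12) (nat_lit 1) (Step.L (Step.L (Step.L (Step.L (Step.D (nat_lit 197) Step.done))))) (Scr.cons (nat_lit 12) (nat_lit 1) (Step.L (Step.D (nat_lit 197) (Step.F (nat_lit 20) (Step.L (Step.L Step.done))))) (Scr.cons (nat_lit 12) (nat_lit 1) (Step.L (Step.L (Step.L (Step.L (Step.D (nat_lit 222) Step.done))))) (Scr.cons (nat_lit 12) (nat_lit 1) (Step.L (Step.D (nat_lit 222) (Step.F (nat_lit 22) (Step.L (Step.L Step.done))))) (Scr.cons (nat_lit 12) (nat_lit 4) (Step.L (Step.L (Step.L (Step.L (Step.D (nat_lit 356) Step.done))))) (Scr.cons (nat_lit 12) (nat_lit 4) (Step.L (Step.D (nat_lit 356) (Step.F (nat_lit 24) (Step.L (Step.L Step.done))))) (Scr.cons (nat_lit 13) (nat_lit 0) (Step.L (Step.L (Step.L (Step.L (Step.L (Step.L (Step.L (Step.L (Step.L (Step.D (nat_lit 139) (Step.D (nat_lit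 406) Step.done))))))))))) (Scr.cons (nat_lit 6) (nat_lit 3) (Step.L (Step.L (Step.L (Step.L (Step.L (Step.L (Step.L (Step.L (Step.L (Step.B (nat_lit 10) (Step.D (nat_lit 406) Step.done))))))))))) (Scr.cons (nat_lit 12) (nat_lit 4) (Step.L (Step.B (nat_lit 26) (Step.F (nat_lit 27) (Step.L (Step.L Step.done))))) (Scr.cons (nat_lit 11) (nat_lit 0) (Step.L (Step.L (Step.L (Step.L (Step.D (nat_lit 434) Step.done))))) (Scr.cons (nat_lit 16) (nat_lit 2) (Step.F (nat_lit 29) (Step.L (Step.L (Step.L (Step.L (Step.L (Step.L (Step.L (Step.L (Step.L (Step.L (Step.L (Step.L (Step.L (Step.L (Step.L (Step.L (Step.L (Step.L (Step.L (Step.L (Step.D (nat_lit 155) (Step.D (nat_lit 457) Step.done))))))))))))))))))))))) (Scr.cons (nat_lit 15) (nat_lit 0) (Step.L (Step.L (Step.L (Step.L (Step.L (Step.L (Step.L (Step.L (Step.L (Step.D (nat_lit 155) (Step.D (nat_lit 457) (Step.F (nat_lit 30) (Step.F (nat_lit 29) (Step.L (Step.L Step.done))))))))))))))) (Scr.cons (nat_lit 12) (nat_lit 4) (Step.L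 (Step.L (Step.L (Step.L (Step.D (nat_lit 5) Step.done))))) (Scr.cons (nat_lit 13) (nat_lit 0) (Step.L (Step.L (Step.L (Step.L (Step.L (Step.L (Step.L (Step.B (nat_lit 32) (Step.D (nat_lit 42) (Step.D (nat_lit 150) (Step.D (nat_lit 430) Step.done))))))))))) (Scr.cons (nat_lit 12) (nat_lit 1) (Step.U (nat_lit 42) (Step.F (nat_lit 32) (Step.D (nat_lit 5) (Step.D (nat_lit 42) (Step.D (nat_lit 150) Step.done))))) (Scr.cons (nat_lit 6) (nat_lit 3) (Step.L (Step.L (Step.L (Step.L (Step.L (Step.L (Step.L (Step.D (nat_lit 5) (Step.D (nat_lit 42) (Step.B (nat_lit 34) (Step.D (nat_lit 430) Step.done))))))))))) (Scr.cons (nat_lit 12) (nat_lit 4) (Step.L (Step.B (nat_lit 33) (Step.F (nat_lit 35) (Step.L (Step.L Step.done))))) (Scr.cons (nat_lit 12) (nat_lit 4) (Step.L (Step.L (Step.L (Step.L (Step.D (nat_lit 446) Step.done))))) (Scr.cons (nat_lit 12) (nat_lit 4) (Step.L (Step.D (nat_lit 446) (Step.F (nat_lit 37) (Step.L (Step.L Step.done))))) (Scr.cons (nat_lit 12) (nat_lit 4) (Step.L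 (Step.L (Step.L (Step.L (Step.D (nat_lit 447) Step.done))))) (Scr.cons (nat_lit 12) (nat_lit 4) (Step.L (Step.D (nat_lit 447) (Step.F (nat_lit 39) (Step.L (Step.L Step.done))))) (Scr.cons (nat_lit 12) (nat_lit 1) (Step.L (Step.L (Step.L (Step.L (Step.D (nat_lit 567) Step.done))))) (Scr.cons (nat_lit 12) (nat_lit 1) (Step.L (Step.D (nat_lit 567) (Step.F (nat_lit 41) (Step.L (Step.L Step.done))))) Scr.nil))))))))))))))))))))))))))))))))))))))))
noncomputable def s1 : Scr := (Scr.cons (nat_lit 12) (nat_lit 1) (Step.L (Step.L (Step.L (Step.L (Step.D (nat_lit 196) Step.done))))) (Scr.cons (nat_lit 16) (nat_lit 0) (Step.U (nat_lit 551) (Step.F (nat_lit 43) (Step.L (Step.L (Step.L (Step.L (Step.L (Step.L (Step.L (Step.L (Step.L (Step.L (Step.L (Step.L (Step.L (Step.L (Step.L (Step.L (Step.L (Step.L (Step.L (Step.L (Step.D (nat_lit 569) Step.done))))))))))))))))))))))) (Scr.cons (nat_lit 8) (nat_lit 1) (Step.L (Step.L (Step.L (Step.L (Step.L (Step.L (Step.L (Step.L (Step.L (Step.B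 (nat_lit 43) (Step.D (nat_lit 551) (Step.B (nat_lit 44) (Step.U (nat_lit 569) (Step.L (Step.L Step.done))))))))))))))) (Scr.cons (nat_lit 12) (nat_lit 4) (Step.L (Step.L (Step.L (Step.L (Step.D (nat_lit 576) Step.done))))) (Scr.cons (nat_lit 12) (nat_lit 4) (Step.L (Step.D (nat_lit 576) (Step.F (nat_lit 46) (Step.L (Step.L Step.done))))) (Scr.cons (nat_lit 12) (nat_lit 4) (Step.L (Step.L (Step.L (Step.L (Step.D (nat_lit 594) Step.done))))) (Scr.cons (nat_lit 12) (nat_lit 4) (Step.L (Step.D (nat_lit 594) (Step.F (nat_lit 48) (Step.L (Step.L Step.done))))) (Scr.cons (nat_lit 12) (nat_lit 4) (Step.L (Step.L (Step.L (Step.L (Step.D (nat_lit 622) Step.done))))) (Scr.cons (nat_lit 12) (nat_lit 4) (Step.L (Step.D (nat_lit 622) (Step.F (nat_lit 50) (Step.L (Step.L Step.done))))) (Scr.cons (nat_lit 12) (nat_lit 4) (Step.L (Step.L (Step.L (Step.L (Step.D (nat_lit 624) Step.done))))) (Scr.cons (nat_lit 12) (nat_lit 4) (Step.L (Step.D (nat_lit 624) (Step.F (nat_lit 52) (Step.L (Step.L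 Step.done))))) (Scr.cons (nat_lit 12) (nat_lit 4) (Step.L (Step.L (Step.L (Step.L (Step.D (nat_lit 642) Step.done))))) (Scr.cons (nat_lit 12) (nat_lit 4) (Step.L (Step.D (nat_lit 642) (Step.F (nat_lit 54) (Step.L (Step.L Step.done))))) (Scr.cons (nat_lit 12) (nat_lit 1) (Step.L (Step.L (Step.L (Step.L (Step.D (nat_lit 651) Step.done))))) (Scr.cons (nat_lit 12) (nat_lit 1) (Step.L (Step.D (nat_lit 651) (Step.F (nat_lit 56) (Step.L (Step.L Step.done))))) (Scr.cons (nat_lit 12) (nat_lit 1) (Step.U (nat_lit 187) (Step.L (Step.L (Step.D (nat_lit 187) (Step.D (nat_lit 535) Step.done))))) (Scr.cons (nat_lit 16) (nat_lit 5) (Step.F (nat_lit 58) (Step.U (nat_lit 187) (Step.L (Step.L (Step.L (Step.L (Step.L (Step.L (Step.L (Step.L (Step.L (Step.L (Step.L (Step.L (Step.L (Step.L (Step.L (Step.L (Step.L (Step.L (Step.L (Step.L (Step.L Step.done))))))))))))))))))))))) (Scr.cons (nat_lit 4) (nat_lit 0) (Step.B (nat_lit 59) (Step.L (Step.L (Step.L (Step.L Step.done))))) (Scr.cons (nat_lit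 6) (nat_lit 0) (Step.L (Step.L (Step.L (Step.L (Step.L (Step.L (Step.L (Step.D (nat_lit 187) (Step.B (nat_lit 58) (Step.B (nat_lit 60) (Step.L Step.done))))))))))) (Scr.cons (nat_lit 12) (nat_lit 1) (Step.L (Step.L (Step.L (Step.L (Step.D (nat_lit 695) Step.done))))) (Scr.cons (nat_lit 12) (nat_lit 1) (Step.L (Step.D (nat_lit 695) (Step.F (nat_lit 62) (Step.L (Step.L Step.done))))) (Scr.cons (nat_lit 12) (nat_lit 4) (Step.L (Step.L (Step.L (Step.L (Step.D (nat_lit 697) Step.done))))) (Scr.cons (nat_lit 12) (nat_lit 4) (Step.L (Step.D (nat_lit 697) (Step.F (nat_lit 64) (Step.L (Step.L Step.done))))) (Scr.cons (nat_lit 12) (nat_lit 4) (Step.L (Step.L (Step.L (Step.L (Step.D (nat_lit 720) Step.done))))) (Scr.cons (nat_lit 12) (nat_lit 4) (Step.L (Step.D (nat_lit 720) (Step.F (nat_lit 66) (Step.L (Step.L Step.done))))) (Scr.cons (nat_lit 12) (nat_lit 4) (Step.L (Step.L (Step.L (Step.L (Step.D (nat_lit 721) Step.done))))) (Scr.cons (nat_lit 12) (nat_lit 4) (Step.L (Step.D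 (nat_lit 721) (Step.F (nat_lit 68) (Step.L (Step.L Step.done))))) (Scr.cons (nat_lit 12) (nat_lit 4) (Step.L (Step.L (Step.L (Step.L (Step.D (nat_lit 730) Step.done))))) (Scr.cons (nat_lit 12) (nat_lit 4) (Step.L (Step.D (nat_lit 730) (Step.F (nat_lit 70) (Step.L (Step.L Step.done))))) (Scr.cons (nat_lit 12) (nat_lit 1) (Step.L (Step.L (Step.L (Step.L (Step.D (nat_lit 756) Step.done))))) (Scr.cons (nat_lit 12) (nat_lit 1) (Step.L (Step.D (nat_lit 756) (Step.F (nat_lit 72) (Step.L (Step.L Step.done))))) (Scr.cons (nat_lit 12) (nat_lit 4) (Step.L (Step.L (Step.L (Step.L (Step.D (nat_lit 790) Step.done))))) (Scr.cons (nat_lit 12) (nat_lit 4) (Step.L (Step.D (nat_lit 790) (Step.F (nat_lit 74) (Step.L (Step.L Step.done))))) (Scr.cons (nat_lit 12) (nat_lit 1) (Step.L (Step.L (Step.L (Step.L (Step.D (nat_lit 798) Step.done))))) (Scr.cons (nat_lit 12) (nat_lit 1) (Step.L (Step.D (nat_lit 798) (Step.F (nat_lit 76) (Step.L (Step.L Step.done))))) (Scr.cons (nat_lit 12) (nat_lit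 4) (Step.L (Step.L (Step.L (Step.L (Step.D (nat_lit 820) Step.done))))) (Scr.cons (nat_lit 12) (nat_lit 4) (Step.L (Step.D (nat_lit 820) (Step.F (nat_lit 78) (Step.L (Step.L Step.done))))) (Scr.cons (nat_lit 12) (nat_lit 4) (Step.U (nat_lit 2) (Step.L (Step.L (Step.D (nat_lit 2) (Step.D (nat_lit 22) Step.done))))) (Scr.cons (nat_lit 13) (nat_lit 0) (Step.L (Step.L (Step.L (Step.L (Step.L (Step.L (Step.D (nat_lit 2) (Step.B (nat_lit 80) (Step.D (nat_lit 94) (Step.D (nat_lit 302) (Step.D (nat_lit 827) Step.done))))))))))) (Scr.cons (nat_lit 12) (nat_lit 1) (Step.U (nat_lit 94) (Step.F (nat_lit 80) (Step.D (nat_lit 22) (Step.D (nat_lit 94) (Step.D (nat_lit 302) Step.done))))) Scr.nil))))))))))))))))))))))))))))))))))))))))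
noncomputable def s2 : Scr := (Scr.cons (nat_lit 6) (nat_lit 3) (Step.L (Step.L (Step.L (Step.L (Step.L (Step.L (Step.D (nat_lit 2) (Step.D (nat_lit 22) (Step.D (nat_lit 94) (Step.B (nat_lit 82) (Step.D (nat_lit 827) Step.done))))))))))) (Scr.cons (nat_lit 12) (nat_lit 4) (Step.L (Step.B (nat_lit 81) (Step.F (nat_lit 83) (Step.L (Step.L Step.done))))) (Scr.cons (nat_lit 12) (nat_lit 1) (Step.L (Step.L (Step.L (Step.L (Step.D (nat_lit 342) Step.done))))) (Scr.cons (nat_lit 7) (nat_lit 5) (Step.F (nat_lit 85) (Step.L (Step.L (Step.L (Step.L (Step.L (Step.L (Step.L (Step.L (Step.L (Step.L (Step.L (Step.L (Step.L (Step.L (Step.L (Step.L (Step.L (Step.L (Step.L Step.done)))))))))))))))))))) (Scr.cons (nat_lit 6) (nat_lit 0) (Step.L (Step.L (Step.L (Step.L (Step.B (nat_lit 85) (Step.B (nat_lit 86) (Step.L (Step.L (Step.L (Step.L (Step.L Step.done))))))))))) (Scr.cons (nat_lit 12) (nat_lit 1) (Step.L (Step.L (Step.L (Step.L (Step.D (nat_lit 866) Step.done))))) (Scr.cons (nat_lit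 12) (nat_lit 1) (Step.L (Step.D (nat_lit 866) (Step.F (nat_lit 88) (Step.L (Step.L Step.done))))) (Scr.cons (nat_lit 12) (nat_lit 1) (Step.L (Step.L (Step.L (Step.L (Step.D (nat_lit 891) Step.done))))) (Scr.cons (nat_lit 12) (nat_lit 1) (Step.L (Step.D (nat_lit 891) (Step.F (nat_lit 90) (Step.L (Step.L Step.done))))) (Scr.cons (nat_lit 12) (nat_lit 4) (Step.L (Step.L (Step.L (Step.L (Step.D (nat_lit 901) Step.done))))) (Scr.cons (nat_lit 12) (nat_lit 4) (Step.L (Step.D (nat_lit 901) (Step.F (nat_lit 92) (Step.L (Step.L Step.done))))) (Scr.cons (nat_lit 12) (nat_lit 1) (Step.L (Step.L (Step.L (Step.L (Step.D (nat_lit 337) Step.done))))) (Scr.cons (nat_lit 12) (nat_lit 1) (Step.L (Step.D (nat_lit 337) (Step.F (nat_lit 94) (Step.L (Step.D (nat_lit 910) Step.done))))) (Scr.cons (nat_lit 12) (nat_lit 1) (Step.L (Step.D (nat_lit 910) (Step.F (nat_lit 95) (Step.L (Step.L Step.done))))) (Scr.cons (nat_lit 12) (nat_lit 4) (Step.L (Step.L (Step.L (Step.L (Step.D (nat_lit 926) Step.done)))))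 (Scr.cons (nat_lit 12) (nat_lit 4) (Step.L (Step.D (nat_lit 926) (Step.F (nat_lit 97) (Step.L (Step.L Step.done))))) (Scr.cons (nat_lit 12) (nat_lit 1) (Step.L (Step.L (Step.L (Step.L (Step.D (nat_lit 992) Step.done))))) (Scr.cons (nat_lit 12) (nat_lit 1) (Step.L (Step.D (nat_lit 992) (Step.F (nat_lit 99) (Step.L (Step.L Step.done))))) (Scr.cons (nat_lit 12) (nat_lit 1) (Step.L (Step.L (Step.L (Step.L (Step.D (nat_lit 1021) Step.done))))) (Scr.cons (nat_lit 12) (nat_lit 1) (Step.L (Step.D (nat_lit 1021) (Step.F (nat_lit 101) (Step.L (Step.L Step.done))))) (Scr.cons (nat_lit 11) (nat_lit 0) (Step.U (nat_lit 811) (Step.L (Step.D (nat_lit 299) (Step.D (nat_lit 810) (Step.D (nat_lit 1802) Step.done))))) (Scr.cons (nat_lit 6) (nat_lit 3) (Step.L (Step.L (Step.L (Step.L (Step.L (Step.L (Step.L (Step.L (Step.L (Step.L (Step.D (nat_lit 97) Step.done))))))))))) (Scr.cons (nat_lit 11) (nat_lit 0) (Step.U (nat_lit 307) (Step.L (Step.D (nat_lit 97) (Step.D (nat_lit 306) (Step.D (nat_lit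 834) Step.done))))) (Scr.cons (nat_lit 12) (nat_lit 1) (Step.U (nat_lit 307) (Step.L (Step.L (Step.D (nat_lit 307) (Step.D (nat_lit 835) Step.done))))) (Scr.cons (nat_lit 12) (nat_lit 1) (Step.F (nat_lit 105) (Step.D (nat_lit 835) (Step.F (nat_lit 106) (Step.B (nat_lit 105) (Step.D (nat_lit 1834) Step.done))))) (Scr.cons (nat_lit 12) (nat_lit 1) (Step.L (Step.L (Step.L (Step.L (Step.D (nat_lit 359) Step.done))))) (Scr.cons (nat_lit 13) (nat_lit 0) (Step.L (Step.L (Step.L (Step.L (Step.L (Step.L (Step.L (Step.L (Step.L (Step.L (Step.D (nat_lit 97) Step.done))))))))))) (Scr.cons (nat_lit 16) (nat_lit 1) (Step.F (nat_lit 108) (Step.L (Step.L (Step.L (Step.L (Step.L (Step.L (Step.L (Step.L (Step.L (Step.L (Step.L (Step.L (Step.L (Step.L (Step.L (Step.L (Step.L (Step.B (nat_lit 109) (Step.D (nat_lit 306) (Step.D (nat_lit 834) (Step.F (nat_lit 105) (Step.D (nat_lit 835) Step.done))))))))))))))))))))))) (Scr.cons (nat_lit 15) (nat_lit 1) (Step.F (nat_lit 107) (Step.F (nat_lit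 105) (Step.D (nat_lit 835) (Step.F (nat_lit 110) (Step.F (nat_lit 108) (Step.L (Step.L (Step.L (Step.L (Step.L (Step.L (Step.L (Step.L (Step.L (Step.D (nat_lit 1063) Step.done))))))))))))))) (Scr.cons (nat_lit 12) (nat_lit 4) (Step.L (Step.L (Step.L (Step.L (Step.D (nat_lit 1063) Step.done))))) (Scr.cons (nat_lit 4) (nat_lit 0) (Step.L (Step.L (Step.L (Step.L (Step.D (nat_lit 886) Step.done))))) (Scr.cons (nat_lit 14) (nat_lit 2) (Step.F (nat_lit 112) (Step.B (nat_lit 113) (Step.U (nat_lit 886) (Step.L (Step.L (Step.L (Step.L (Step.L (Step.L (Step.L (Step.L (Step.L (Step.L (Step.L (Step.L (Step.L (Step.L (Step.L (Step.L (Step.D (nat_lit 2185) Step.done)))))))))))))))))))) (Scr.cons (nat_lit 12) (nat_lit 1) (Step.L (Step.L (Step.L (Step.L (Step.D (nat_lit 132) Step.done))))) (Scr.cons (nat_lit 7) (nat_lit 0) (Step.U (nat_lit 1835) (Step.L (Step.L (Step.D (nat_lit 307) (Step.B (nat_lit 105) (Step.D (nat_lit 1834) (Step.B (nat_lit 111) (Step.B (nat_lit 114) (Step.U (nat_lit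 2185) (Step.L (Step.L (Step.L (Step.L (Step.L (Step.L (Step.L (Step.B (nat_lit 115) (Step.D (nat_lit 394) (Step.D (nat_lit 1028) (Step.D (nat_lit 2195) Step.done)))))))))))))))))))) (Scr.cons (nat_lit 4) (nat_lit 0) (Step.F (nat_lit 116) (Step.U (nat_lit 1835) (Step.L (Step.L (Step.L Step.done))))) (Scr.cons (nat_lit 11) (nat_lit 0) (Step.U (nat_lit 1028) (Step.U (nat_lit 394) (Step.D (nat_lit 393) (Step.D (nat_lit 1026) (Step.D (nat_lit 2192) Step.done))))) (Scr.cons (nat_lit 7) (nat_lit 0) (Step.U (nat_lit 1802) (Step.U (nat_lit 810) (Step.U (nat_lit 299) (Step.L (Step.L (Step.L (Step.L (Step.L (Step.L (Step.L (Step.B (nat_lit 104) (Step.U (nat_lit 97) (Step.L (Step.L (Step.L (Step.L (Step.F (nat_lit 117) (Step.U (nat_lit 2195) (Step.B (nat_lit 118) (Step.U (nat_lit 2192) (Step.D (nat_lit 2191) Step.done))))))))))))))))))))) (Scr.cons (nat_lit 0) (nat_lit 1) (Step.D (nat_lit 2191) (Step.F (nat_lit 119) Step.done)) (Scr.cons (nat_lit 7) (nat_lit 1) (Step.L (Step.L (Step.L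 (Step.L (Step.L (Step.L (Step.L (Step.D (nat_lit 811) (Step.B (nat_lit 103) (Step.F (nat_lit 120) (Step.U (nat_lit 1026) (Step.U (nat_lit 393) (Step.F (nat_lit 115) (Step.L (Step.L (Step.L (Step.L (Step.L (Step.L (Step.L (Step.D (nat_lit 2130) Step.done))))))))))))))))))))) (Scr.cons (nat_lit 1) (nat_lit 1) (Step.D (nat_lit 2130) (Step.F (nat_lit 121) (Step.D (nat_lit 1800) Step.done))) Scr.nil))))))))))))))))))))))))))))))))))))))))
noncomputable def s3 : Scr := (Scr.cons (nat_lit 1) (nat_lit 1) (Step.D (nat_lit 1800) (Step.F (nat_lit 122) Step.done)) (Scr.cons (nat_lit 12) (nat_lit 1) (Step.L (Step.L (Step.L (Step.L (Step.D (nat_lit 1029) Step.done))))) (Scr.cons (nat_lit 12) (nat_lit 1) (Step.L (Step.D (nat_lit 1029) (Step.F (nat_lit 124) (Step.L (Step.L Step.done))))) (Scr.cons (nat_lit 12) (nat_lit 1) (Step.L (Step.L (Step.L (Step.L (Step.D (nat_lit 1072) Step.done))))) (Scr.cons (nat_lit 12) (nat_lit 1) (Step.L (Step.D (nat_lit 1072) (Step.F (nat_lit 126) (Step.L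 (Step.L Step.done))))) (Scr.cons (nat_lit 12) (nat_lit 4) (Step.L (Step.L (Step.L (Step.L (Step.D (nat_lit 1091) Step.done))))) (Scr.cons (nat_lit 12) (nat_lit 4) (Step.L (Step.D (nat_lit 1091) (Step.F (nat_lit 128) (Step.L (Step.L Step.done))))) (Scr.cons (nat_lit 16) (nat_lit 5) (Step.L (Step.L (Step.L (Step.L (Step.L (Step.L (Step.L (Step.L (Step.L (Step.L (Step.L (Step.L (Step.L (Step.L (Step.L (Step.L (Step.L (Step.L (Step.L (Step.L (Step.L (Step.L (Step.D (nat_lit 2319) Step.done))))))))))))))))))))))) (Scr.cons (nat_lit 4) (nat_lit 0) (Step.B (nat_lit 130) (Step.U (nat_lit 2319) (Step.L (Step.L (Step.L Step.done))))) (Scr.cons (nat_lit 12) (nat_lit 4) (Step.L (Step.L (Step.L (Step.L (Step.D (nat_lit 1104) Step.done))))) (Scr.cons (nat_lit 12) (nat_lit 4) (Step.L (Step.D (nat_lit 1104) (Step.F (nat_lit 132) (Step.L (Step.L Step.done))))) (Scr.cons (nat_lit 12) (nat_lit 1) (Step.L (Step.L (Step.L (Step.L (Step.D (nat_lit 1123) Step.done))))) (Scr.cons (nat_lit 12)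 (nat_lit 1) (Step.L (Step.D (nat_lit 1123) (Step.F (nat_lit 134) (Step.L (Step.L Step.done))))) (Scr.cons (nat_lit 12) (nat_lit 4) (Step.L (Step.L (Step.L (Step.L (Step.D (nat_lit 1133) Step.done))))) (Scr.cons (nat_lit 12) (nat_lit 4) (Step.L (Step.D (nat_lit 1133) (Step.F (nat_lit 136) (Step.L (Step.L Step.done))))) (Scr.cons (nat_lit 12) (nat_lit 1) (Step.L (Step.L (Step.L (Step.L (Step.D (nat_lit 1134) Step.done))))) (Scr.cons (nat_lit 12) (nat_lit 1) (Step.L (Step.D (nat_lit 1134) (Step.F (nat_lit 138) (Step.L (Step.L Step.done))))) (Scr.cons (nat_lit 12) (nat_lit 1) (Step.L (Step.L (Step.L (Step.L (Step.D (nat_lit 1152) Step.done))))) (Scr.cons (nat_lit 12) (nat_lit 1) (Step.L (Step.D (nat_lit 1152) (Step.F (nat_lit 140) (Step.L (Step.L Step.done))))) (Scr.cons (nat_lit 13) (nat_lit 0) (Step.L (Step.L (Step.L (Step.L (Step.L (Step.L (Step.L (Step.L (Step.L (Step.D (nat_lit 454) (Step.D (nat_lit 1155) Step.done))))))))))) (Scr.cons (nat_lit 12) (nat_lit 1) (Step.L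 (Step.L (Step.L (Step.L (Step.D (nat_lit 454) Step.done))))) (Scr.cons (nat_lit 6) (nat_lit 3) (Step.L (Step.L (Step.L (Step.L (Step.L (Step.L (Step.L (Step.L (Step.L (Step.B (nat_lit 143) (Step.D (nat_lit 1155) Step.done))))))))))) (Scr.cons (nat_lit 12) (nat_lit 4) (Step.L (Step.B (nat_lit 142) (Step.F (nat_lit 144) (Step.L (Step.L Step.done))))) (Scr.cons (nat_lit 11) (nat_lit 0) (Step.U (nat_lit 21) (Step.L (Step.L (Step.L (Step.D (nat_lit 91) Step.done))))) (Scr.cons (nat_lit 7) (nat_lit 6) (Step.U (nat_lit 91) (Step.L (Step.L (Step.L (Step.L (Step.L (Step.L (Step.L (Step.L (Step.L (Step.L (Step.L (Step.L (Step.L (Step.L (Step.L (Step.L (Step.L (Step.L (Step.D (nat_lit 144) Step.done)))))))))))))))))))) (Scr.cons (nat_lit 11) (nat_lit 0) (Step.U (nat_lit 144) (Step.L (Step.L (Step.L (Step.D (nat_lit 415) Step.done))))) (Scr.cons (nat_lit 12) (nat_lit 1) (Step.L (Step.L (Step.L (Step.L (Step.D (nat_lit 143) Step.done))))) (Scr.cons (nat_lit 12) (nat_lit 1) (Step.U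 (nat_lit 144) (Step.D (nat_lit 143) (Step.F (nat_lit 149) (Step.D (nat_lit 144) (Step.F (nat_lit 147) Step.done))))) (Scr.cons (nat_lit 12) (nat_lit 1) (Step.F (nat_lit 148) (Step.F (nat_lit 147) (Step.F (nat_lit 150) (Step.B (nat_lit 148) (Step.D (nat_lit 1068) Step.done))))) (Scr.cons (nat_lit 7) (nat_lit 5) (Step.F (nat_lit 151) (Step.U (nat_lit 415) (Step.L (Step.L (Step.L (Step.L (Step.L (Step.L (Step.L (Step.L (Step.L (Step.L (Step.L (Step.L (Step.L (Step.L (Step.L (Step.L (Step.L (Step.D (nat_lit 881) Step.done)))))))))))))))))))) (Scr.cons (nat_lit 4) (nat_lit 0) (Step.U (nat_lit 1908) (Step.L (Step.D (nat_lit 881) (Step.F (nat_lit 152) (Step.D (nat_lit 2259) Step.done))))) (Scr.cons (nat_lit 9) (nat_lit 2) (Step.L (Step.L (Step.L (Step.L (Step.L (Step.L (Step.L (Step.L (Step.L (Step.L (Step.D (nat_lit 21) (Step.B (nat_lit 146) (Step.B (nat_lit 147) (Step.B (nat_lit 148) (Step.B (nat_lit 151) (Step.D (nat_lit 2259) (Step.F (nat_lit 153) (Step.U (nat_lit 1908)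 (Step.L (Step.L (Step.L (Step.L (Step.L Step.done))))))))))))))))))))))) (Scr.cons (nat_lit 12) (nat_lit 4) (Step.L (Step.L (Step.L (Step.L (Step.D (nat_lit 174) Step.done))))) (Scr.cons (nat_lit 11) (nat_lit 0) (Step.L (Step.L (Step.L (Step.D (nat_lit 14) (Step.D (nat_lit 75) Step.done))))) (Scr.cons (nat_lit 14) (nat_lit 3) (Step.F (nat_lit 156) (Step.L (Step.L (Step.L (Step.L (Step.L (Step.L (Step.L (Step.L (Step.L (Step.L (Step.L (Step.L (Step.L (Step.L (Step.L (Step.L (Step.L (Step.L (Step.D (nat_lit 175) Step.done)))))))))))))))))))) (Scr.cons (nat_lit 12) (nat_lit 4) (Step.U (nat_lit 175) (Step.D (nat_lit 174) (Step.F (nat_lit 155) (Step.D (nat_lit 175) (Step.F (nat_lit 157) Step.done))))) (Scr.cons (nat_lit 11) (nat_lit 0) (Step.L (Step.L (Step.L (Step.D (nat_lit 175) (Step.D (nat_lit 508) Step.done))))) (Scr.cons (nat_lit 12) (nat_lit 1) (Step.F (nat_lit 159) (Step.L (Step.L (Step.B (nat_lit 159) (Step.D (nat_lit 1261) Step.done))))) (Scr.cons (nat_lit 14) (nat_lit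 2) (Step.F (nat_lit 160) (Step.F (nat_lit 159) (Step.L (Step.L (Step.L (Step.L (Step.L (Step.L (Step.L (Step.L (Step.L (Step.L (Step.L (Step.L (Step.L (Step.L (Step.L (Step.L (Step.L (Step.L Step.done)))))))))))))))))))) (Scr.cons (nat_lit 11) (nat_lit 0) (Step.L (Step.L (Step.L (Step.F (nat_lit 161) (Step.D (nat_lit 2586) Step.done))))) Scr.nil))))))))))))))))))))))))))))))))))))))))
noncomputable def s4 : Scr := (Scr.cons (nat_lit 16) (nat_lit 5) (Step.L (Step.L (Step.L (Step.L (Step.L (Step.L (Step.L (Step.L (Step.L (Step.L (Step.D (nat_lit 14) (Step.D (nat_lit 75) (Step.F (nat_lit 158) (Step.D (nat_lit 508) (Step.D (nat_lit 1261) (Step.D (nat_lit 2586) (Step.F (nat_lit 162) (Step.L (Step.L (Step.L (Step.L (Step.L (Step.L Step.done))))))))))))))))))))))) (Scr.cons (nat_lit 12) (nat_lit 4) (Step.L (Step.L (Step.L (Step.L (Step.D (nat_lit 1271) Step.done))))) (Scr.cons (nat_lit 12) (nat_lit 4) (Step.L (Step.D (nat_lit 1271) (Step.F (nat_lit 164) (Step.L (Step.L Step.done)))))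 (Scr.cons (nat_lit 12) (nat_lit 1) (Step.L (Step.L (Step.L (Step.L (Step.D (nat_lit 47) Step.done))))) (Scr.cons (nat_lit 6) (nat_lit 1) (Step.L (Step.L (Step.L (Step.L (Step.L (Step.L (Step.L (Step.B (nat_lit 166) (Step.D (nat_lit 177) (Step.D (nat_lit 514) (Step.D (nat_lit 1273) Step.done))))))))))) (Scr.cons (nat_lit 12) (nat_lit 4) (Step.U (nat_lit 177) (Step.F (nat_lit 166) (Step.D (nat_lit 47) (Step.D (nat_lit 177) (Step.D (nat_lit 514) Step.done))))) (Scr.cons (nat_lit 13) (nat_lit 2) (Step.L (Step.L (Step.L (Step.L (Step.L (Step.L (Step.L (Step.D (nat_lit 47) (Step.D (nat_lit 177) (Step.B (nat_lit 168) (Step.D (nat_lit 1273) Step.done))))))))))) (Scr.cons (nat_lit 12) (nat_lit 1) (Step.L (Step.B (nat_lit 167) (Step.F (nat_lit 169) (Step.L (Step.L Step.done))))) (Scr.cons (nat_lit 12) (nat_lit 4) (Step.L (Step.L (Step.L (Step.L (Step.D (nat_lit 1282) Step.done))))) (Scr.cons (nat_lit 12) (nat_lit 4) (Step.L (Step.D (nat_lit 1282) (Step.F (nat_lit 171) (Step.L (Step.L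 Step.done))))) (Scr.cons (nat_lit 12) (nat_lit 4) (Step.L (Step.L (Step.L (Step.L (Step.D (nat_lit 1303) Step.done))))) (Scr.cons (nat_lit 12) (nat_lit 4) (Step.L (Step.D (nat_lit 1303) (Step.F (nat_lit 173) (Step.L (Step.L Step.done))))) (Scr.cons (nat_lit 12) (nat_lit 4) (Step.L (Step.L (Step.L (Step.L (Step.D (nat_lit 1325) Step.done))))) (Scr.cons (nat_lit 12) (nat_lit 4) (Step.L (Step.D (nat_lit 1325) (Step.F (nat_lit 175) (Step.L (Step.L Step.done))))) (Scr.cons (nat_lit 12) (nat_lit 4) (Step.L (Step.L (Step.L (Step.L (Step.D (nat_lit 1350) Step.done))))) (Scr.cons (nat_lit 12) (nat_lit 4) (Step.L (Step.D (nat_lit 1350) (Step.F (nat_lit 177) (Step.L (Step.L Step.done))))) (Scr.cons (nat_lit 12) (nat_lit 4) (Step.L (Step.L (Step.L (Step.L (Step.D (nat_lit 1355) Step.done))))) (Scr.cons (nat_lit 12) (nat_lit 4) (Step.L (Step.D (nat_lit 1355) (Step.F (nat_lit 179) (Step.L (Step.L Step.done))))) (Scr.cons (nat_lit 12) (nat_lit 4) (Step.L (Step.L (Step.L (Step.L (Step.D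 (nat_lit 1356) Step.done))))) (Scr.cons (nat_lit 12) (nat_lit 4) (Step.L (Step.D (nat_lit 1356) (Step.F (nat_lit 181) (Step.L (Step.L Step.done))))) (Scr.cons (nat_lit 16) (nat_lit 4) (Step.L (Step.L (Step.L (Step.L (Step.L (Step.L (Step.L (Step.L (Step.L (Step.L (Step.L (Step.L (Step.L (Step.L (Step.L (Step.L (Step.L (Step.L (Step.L (Step.L (Step.L (Step.L (Step.D (nat_lit 2783) Step.done))))))))))))))))))))))) (Scr.cons (nat_lit 4) (nat_lit 0) (Step.L (Step.L (Step.B (nat_lit 183) (Step.U (nat_lit 2783) (Step.L Step.done))))) (Scr.cons (nat_lit 12) (nat_lit 4) (Step.L (Step.L (Step.L (Step.L (Step.D (nat_lit 1373) Step.done))))) (Scr.cons (nat_lit 12) (nat_lit 4) (Step.L (Step.D (nat_lit 1373) (Step.F (nat_lit 185) (Step.L (Step.L Step.done))))) (Scr.cons (nat_lit 12) (nat_lit 1) (Step.L (Step.L (Step.L (Step.L (Step.D (nat_lit 1384) Step.done))))) (Scr.cons (nat_lit 12) (nat_lit 1) (Step.L (Step.D (nat_lit 1384) (Step.F (nat_lit 187) (Step.L (Step.L Step.done)))))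 (Scr.cons (nat_lit 12) (nat_lit 4) (Step.L (Step.L (Step.L (Step.L (Step.D (nat_lit 1386) Step.done))))) (Scr.cons (nat_lit 12) (nat_lit 4) (Step.L (Step.D (nat_lit 1386) (Step.F (nat_lit 189) (Step.L (Step.L Step.done))))) (Scr.cons (nat_lit 12) (nat_lit 1) (Step.L (Step.L (Step.L (Step.L (Step.D (nat_lit 1402) Step.done))))) (Scr.cons (nat_lit 12) (nat_lit 1) (Step.L (Step.D (nat_lit 1402) (Step.F (nat_lit 191) (Step.L (Step.L Step.done))))) (Scr.cons (nat_lit 12) (nat_lit 1) (Step.L (Step.L (Step.L (Step.L (Step.D (nat_lit 1414) Step.done))))) (Scr.cons (nat_lit 12) (nat_lit 1) (Step.L (Step.D (nat_lit 1414) (Step.F (nat_lit 193) (Step.L (Step.L Step.done))))) (Scr.cons (nat_lit 12) (nat_lit 1) (Step.L (Step.L (Step.L (Step.L (Step.D (nat_lit 1429) Step.done))))) (Scr.cons (nat_lit 12) (nat_lit 1) (Step.L (Step.D (nat_lit 1429) (Step.F (nat_lit 195) (Step.L (Step.L Step.done))))) (Scr.cons (nat_lit 12) (nat_lit 4) (Step.L (Step.L (Step.L (Step.L (Step.D (nat_lit 1497)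 Step.done))))) (Scr.cons (nat_lit 12) (nat_lit 4) (Step.L (Step.D (nat_lit 1497) (Step.F (nat_lit 197) (Step.L (Step.L Step.done))))) (Scr.cons (nat_lit 12) (nat_lit 4) (Step.L (Step.L (Step.L (Step.L (Step.D (nat_lit 1504) Step.done))))) (Scr.cons (nat_lit 12) (nat_lit 4) (Step.L (Step.D (nat_lit 1504) (Step.F (nat_lit 199) (Step.L (Step.L Step.done))))) (Scr.cons (nat_lit 12) (nat_lit 1) (Step.L (Step.L (Step.L (Step.L (Step.D (nat_lit 1506) Step.done))))) (Scr.cons (nat_lit 12) (nat_lit 1) (Step.L (Step.D (nat_lit 1506) (Step.F (nat_lit 201) (Step.L (Step.L Step.done))))) Scr.nil))))))))))))))))))))))))))))))))))))))))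
noncomputable def s5 : Scr := (Scr.cons (nat_lit 12) (nat_lit 1) (Step.L (Step.L (Step.L (Step.L (Step.D (nat_lit 1514) Step.done))))) (Scr.cons (nat_lit 12) (nat_lit 1) (Step.L (Step.D (nat_lit 1514) (Step.F (nat_lit 203) (Step.L (Step.L Step.done))))) (Scr.cons (nat_lit 12) (nat_lit 1) (Step.L (Step.L (Step.L (Step.L (Step.D (nat_lit 1548) Step.done))))) (Scr.cons (nat_lit 12) (nat_lit 1) (Step.L (Step.D (nat_lit 1548) (Step.F (nat_lit 205) (Step.L (Step.L Step.done))))) (Scr.cons (nat_lit 12) (nat_lit 4) (Step.L (Step.L (Step.L (Step.L (Step.D (nat_lit 1561) Step.done))))) (Scr.cons (nat_lit 12) (nat_lit 4) (Step.L (Step.D (nat_lit 1561) (Step.F (nat_lit 207) (Step.L (Step.L Step.done))))) (Scr.cons (nat_lit 12) (nat_lit 1) (Step.L (Step.L (Step.L (Step.L (Step.D (nat_lit 1615) Step.done))))) (Scr.cons (nat_lit 12) (nat_lit 1) (Step.L (Step.D (nat_lit 1615) (Step.F (nat_lit 209) (Step.L (Step.L Step.done))))) (Scr.cons (nat_lit 13) (nat_lit 0) (Step.L (Step.L (Step.L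 (Step.L (Step.B (nat_lit 156) (Step.F (nat_lit 158) (Step.D (nat_lit 508) (Step.B (nat_lit 160) (Step.B (nat_lit 161) (Step.L (Step.L Step.done))))))))))) (Scr.cons (nat_lit 12) (nat_lit 1) (Step.L (Step.L (Step.L (Step.L (Step.D (nat_lit 1651) Step.done))))) (Scr.cons (nat_lit 12) (nat_lit 1) (Step.L (Step.D (nat_lit 1651) (Step.F (nat_lit 212) (Step.L (Step.L Step.done))))) (Scr.cons (nat_lit 12) (nat_lit 4) (Step.L (Step.L (Step.L (Step.L (Step.D (nat_lit 1654) Step.done))))) (Scr.cons (nat_lit 12) (nat_lit 4) (Step.L (Step.D (nat_lit 1654) (Step.F (nat_lit 214) (Step.L (Step.L Step.done))))) (Scr.cons (nat_lit 11) (nat_lit 0) (Step.L (Step.L (Step.D (nat_lit 238) (Step.D (nat_lit 660) (Step.D (nat_lit 1558) Step.done))))) (Scr.cons (nat_lit 12) (nat_lit 1) (Step.F (nat_lit 216) (Step.L (Step.L (Step.B (nat_lit 216) (Step.D (nat_lit 3105) Step.done))))) (Scr.cons (nat_lit 14) (nat_lit 2) (Step.F (nat_lit 217) (Step.F (nat_lit 216) (Step.L (Step.L (Step.L (Step.L (Step.L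 (Step.L (Step.L (Step.L (Step.L (Step.L (Step.L (Step.L (Step.L (Step.L (Step.L (Step.L (Step.L (Step.L Step.done)))))))))))))))))))) (Scr.cons (nat_lit 12) (nat_lit 1) (Step.U (nat_lit 1243) (Step.L (Step.L (Step.D (nat_lit 1243) (Step.D (nat_lit 2563) Step.done))))) (Scr.cons (nat_lit 6) (nat_lit 3) (Step.U (nat_lit 172) (Step.L (Step.L (Step.L (Step.L (Step.L (Step.L (Step.L (Step.L (Step.L (Step.D (nat_lit 497) Step.done))))))))))) (Scr.cons (nat_lit 11) (nat_lit 0) (Step.U (nat_lit 747) (Step.U (nat_lit 268) (Step.D (nat_lit 267) (Step.D (nat_lit 745) (Step.D (nat_lit 1711) Step.done))))) (Scr.cons (nat_lit 13) (nat_lit 0) (Step.U (nat_lit 172) (Step.L (Step.L (Step.L (Step.L (Step.L (Step.L (Step.L (Step.L (Step.L (Step.D (nat_lit 497) Step.done))))))))))) (Scr.cons (nat_lit 12) (nat_lit 4) (Step.U (nat_lit 501) (Step.B (nat_lit 222) (Step.F (nat_lit 220) (Step.D (nat_lit 501) (Step.D (nat_lit 1251) Step.done))))) (Scr.cons (nat_lit 11) (nat_lit 0) (Step.U (nat_lit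 2490) (Step.U (nat_lit 1202) (Step.L (Step.L (Step.L Step.done))))) (Scr.cons (nat_lit 11) (nat_lit 0) (Step.U (nat_lit 503) (Step.L (Step.D (nat_lit 172) (Step.D (nat_lit 501) (Step.D (nat_lit 1252) Step.done))))) (Scr.cons (nat_lit 12) (nat_lit 1) (Step.L (Step.L (Step.L (Step.L (Step.D (nat_lit 502) Step.done))))) (Scr.cons (nat_lit 12) (nat_lit 1) (Step.U (nat_lit 503) (Step.D (nat_lit 502) (Step.F (nat_lit 226) (Step.D (nat_lit 503) (Step.D (nat_lit 1253) Step.done))))) (Scr.cons (nat_lit 12) (nat_lit 1) (Step.F (nat_lit 225) (Step.D (nat_lit 1253) (Step.F (nat_lit 227) (Step.B (nat_lit 225) (Step.D (nat_lit 2576) Step.done))))) (Scr.cons (nat_lit 14) (nat_lit 1) (Step.U (nat_lit 1574) (Step.L (Step.F (nat_lit 224) (Step.U (nat_lit 2490) (Step.U (nat_lit 1202) (Step.L (Step.L (Step.L (Step.L (Step.L (Step.L (Step.L (Step.L (Step.L (Step.L (Step.L (Step.D (nat_lit 172) (Step.D (nat_lit 501) (Step.D (nat_lit 1252) (Step.B (nat_lit 228) Step.done))))))))))))))))))))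 (Scr.cons (nat_lit 16) (nat_lit 0) (Step.F (nat_lit 223) (Step.D (nat_lit 1252) (Step.D (nat_lit 2576) (Step.F (nat_lit 229) (Step.U (nat_lit 1574) (Step.L (Step.L (Step.L (Step.L (Step.L (Step.L (Step.L (Step.L (Step.L (Step.L (Step.L (Step.L (Step.L (Step.L (Step.L (Step.D (nat_lit 81) (Step.D (nat_lit 267) (Step.D (nat_lit 745) (Step.D (nat_lit 1711) Step.done)))))))))))))))))))))))) (Scr.cons (nat_lit 1) (nat_lit 1) (Step.B (nat_lit 221) (Step.F (nat_lit 230) (Step.D (nat_lit 2574) Step.done))) (Scr.cons (nat_lit 1) (nat_lit 1) (Step.D (nat_lit 2574) (Step.F (nat_lit 231) Step.done)) (Scr.cons (nat_lit 12) (nat_lit 4) (Step.L (Step.L (Step.L (Step.L (Step.D (nat_lit 81) Step.done))))) (Scr.cons (nat_lit 16) (nat_lit 1) (Step.F (nat_lit 219) (Step.U (nat_lit 1243) (Step.L (Step.D (nat_lit 497) (Step.F (nat_lit 220) (Step.D (nat_lit 501) (Step.D (nat_lit 1251) (Step.B (nat_lit 232) (Step.U (nat_lit 747) (Step.U (nat_lit 268) (Step.F (nat_lit 233) (Step.L (Step.L (Step.L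 (Step.L (Step.L (Step.L (Step.L (Step.L (Step.D (nat_lit 238) (Step.D (nat_lit 660) (Step.D (nat_lit 1558) (Step.D (nat_lit 3105) Step.done))))))))))))))))))))))) (Scr.cons (nat_lit 14) (nat_lit 3) (Step.L (Step.L (Step.L (Step.L (Step.L (Step.L (Step.L (Step.L (Step.F (nat_lit 218) (Step.F (nat_lit 234) (Step.U (nat_lit 2563) (Step.U (nat_lit 1243) (Step.L (Step.L (Step.L (Step.L (Step.L (Step.L (Step.L (Step.L Step.done)))))))))))))))))))) (Scr.cons (nat_lit 12) (nat_lit 1) (Step.L (Step.L (Step.L (Step.L (Step.D (nat_lit 1676) Step.done))))) (Scr.cons (nat_lit 12) (nat_lit 1) (Step.L (Step.D (nat_lit 1676) (Step.F (nat_lit 236) (Step.L (Step.L Step.done))))) (Scr.cons (nat_lit 11) (nat_lit 0) (Step.L (Step.L (Step.L (Step.D (nat_lit 1626) (Step.D (nat_lit 3233) Step.done))))) (Scr.cons (nat_lit 16) (nat_lit 1) (Step.L (Step.L (Step.L (Step.L (Step.L (Step.L (Step.L (Step.L (Step.L (Step.L (Step.L (Step.L (Step.L (Step.L (Step.L (Step.L (Step.L (Step.L (Step.L (Step.D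 (nat_lit 1626) (Step.D (nat_lit 3233) (Step.F (nat_lit 238) (Step.L Step.done))))))))))))))))))))))) (Scr.cons (nat_lit 12) (nat_lit 4) (Step.L (Step.L (Step.L (Step.L (Step.D (nat_lit 1691) Step.done))))) (Scr.cons (nat_lit 12) (nat_lit 4) (Step.L (Step.D (nat_lit 1691) (Step.F (nat_lit 240) (Step.L (Step.L Step.done))))) (Scr.cons (nat_lit 12) (nat_lit 1) (Step.L (Step.L (Step.L (Step.L (Step.D (nat_lit 1698) Step.done))))) Scr.nil))))))))))))))))))))))))))))))))))))))))
noncomputable def s6 : Scr := (Scr.cons (nat_lit 12) (nat_lit 1) (Step.L (Step.D (nat_lit 1698) (Step.F (nat_lit 242) (Step.L (Step.L Step.done))))) (Scr.cons (nat_lit 12) (nat_lit 4) (Step.L (Step.L (Step.L (Step.L (Step.D (nat_lit 1721) Step.done))))) (Scr.cons (nat_lit 12) (nat_lit 4) (Step.L (Step.D (nat_lit 1721) (Step.F (nat_lit 244) (Step.L (Step.L Step.done))))) (Scr.cons (nat_lit 12) (nat_lit 4) (Step.L (Step.L (Step.L (Step.L (Step.D (nat_lit 1728) Step.done))))) (Scr.cons (nat_lit 12) (nat_lit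 4) (Step.L (Step.D (nat_lit 1728) (Step.F (nat_lit 246) (Step.L (Step.L Step.done))))) (Scr.cons (nat_lit 12) (nat_lit 4) (Step.L (Step.L (Step.L (Step.L (Step.D (nat_lit 1766) Step.done))))) (Scr.cons (nat_lit 12) (nat_lit 4) (Step.L (Step.D (nat_lit 1766) (Step.F (nat_lit 248) (Step.L (Step.L Step.done))))) (Scr.cons (nat_lit 12) (nat_lit 4) (Step.L (Step.L (Step.L (Step.L (Step.D (nat_lit 1772) Step.done))))) (Scr.cons (nat_lit 12) (nat_lit 4) (Step.L (Step.D (nat_lit 1772) (Step.F (nat_lit 250) (Step.L (Step.L Step.done))))) (Scr.cons (nat_lit 12) (nat_lit 1) (Step.L (Step.L (Step.L (Step.L (Step.D (nat_lit 1773) Step.done))))) (Scr.cons (nat_lit 12) (nat_lit 1) (Step.L (Step.D (nat_lit 1773) (Step.F (nat_lit 252) (Step.L (Step.L Step.done))))) (Scr.cons (nat_lit 13) (nat_lit 3) (Step.U (nat_lit 1909) (Step.F (nat_lit 152) (Step.F (nat_lit 151) (Step.F (nat_lit 148) (Step.B (nat_lit 150) (Step.U (nat_lit 91) (Step.L (Step.L (Step.L (Step.L (Step.L Step.done)))))))))))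 (Scr.cons (nat_lit 14) (nat_lit 5) (Step.F (nat_lit 254) (Step.U (nat_lit 1909) (Step.U (nat_lit 881) (Step.L (Step.L (Step.L (Step.L (Step.L (Step.L (Step.L (Step.L (Step.L (Step.L (Step.L (Step.L (Step.L (Step.L (Step.L (Step.L (Step.L Step.done)))))))))))))))))))) (Scr.cons (nat_lit 12) (nat_lit 4) (Step.L (Step.L (Step.L (Step.L (Step.D (nat_lit 1808) Step.done))))) (Scr.cons (nat_lit 12) (nat_lit 4) (Step.L (Step.D (nat_lit 1808) (Step.F (nat_lit 256) (Step.L (Step.L Step.done))))) (Scr.cons (nat_lit 12) (nat_lit 1) (Step.L (Step.L (Step.L (Step.L (Step.D (nat_lit 1851) Step.done))))) (Scr.cons (nat_lit 12) (nat_lit 1) (Step.L (Step.D (nat_lit 1851) (Step.F (nat_lit 258) (Step.L (Step.L Step.done))))) (Scr.cons (nat_lit 12) (nat_lit 4) (Step.U (nat_lit 25) (Step.L (Step.L (Step.D (nat_lit 25) (Step.D (nat_lit 100) Step.done))))) (Scr.cons (nat_lit 13) (nat_lit 0) (Step.L (Step.L (Step.L (Step.L (Step.L (Step.L (Step.D (nat_lit 25) (Step.B (nat_lit 260) (Step.D (nat_lit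 316) (Step.D (nat_lit 852) (Step.D (nat_lit 1860) Step.done))))))))))) (Scr.cons (nat_lit 12) (nat_lit 1) (Step.U (nat_lit 316) (Step.F (nat_lit 260) (Step.D (nat_lit 100) (Step.D (nat_lit 316) (Step.D (nat_lit 852) Step.done))))) (Scr.cons (nat_lit 6) (nat_lit 3) (Step.L (Step.L (Step.L (Step.L (Step.L (Step.L (Step.D (nat_lit 25) (Step.D (nat_lit 100) (Step.D (nat_lit 316) (Step.B (nat_lit 262) (Step.D (nat_lit 1860) Step.done))))))))))) (Scr.cons (nat_lit 12) (nat_lit 4) (Step.L (Step.B (nat_lit 261) (Step.F (nat_lit 263) (Step.L (Step.L Step.done))))) (Scr.cons (nat_lit 13) (nat_lit 0) (Step.L (Step.L (Step.L (Step.L (Step.L (Step.L (Step.L (Step.L (Step.L (Step.D (nat_lit 866) (Step.D (nat_lit 1878) Step.done))))))))))) (Scr.cons (nat_lit 6) (nat_lit 3) (Step.L (Step.L (Step.L (Step.L (Step.L (Step.L (Step.L (Step.L (Step.L (Step.B (nat_lit 88) (Step.D (nat_lit 1878) Step.done))))))))))) (Scr.cons (nat_lit 12) (nat_lit 4) (Step.L (Step.B (nat_lit 265) (Step.F (nat_lit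 266) (Step.L (Step.L Step.done))))) (Scr.cons (nat_lit 11) (nat_lit 0) (Step.L (Step.L (Step.L (Step.D (nat_lit 237) (Step.D (nat_lit 659) Step.done))))) (Scr.cons (nat_lit 9) (nat_lit 2) (Step.L (Step.L (Step.L (Step.B (nat_lit 268) (Step.U (nat_lit 659) (Step.U (nat_lit 237) (Step.L (Step.L (Step.L (Step.L (Step.L (Step.L (Step.L (Step.L (Step.L (Step.L (Step.L (Step.L (Step.L (Step.L (Step.L (Step.L (Step.L Step.done))))))))))))))))))))))) (Scr.cons (nat_lit 12) (nat_lit 4) (Step.L (Step.L (Step.L (Step.L (Step.D (nat_lit 1898) Step.done))))) (Scr.cons (nat_lit 12) (nat_lit 4) (Step.L (Step.D (nat_lit 1898) (Step.F (nat_lit 270) (Step.L (Step.L Step.done))))) (Scr.cons (nat_lit 16) (nat_lit 4) (Step.U (nat_lit 3013) (Step.L (Step.L (Step.L (Step.L (Step.L (Step.L (Step.L (Step.L (Step.L (Step.L (Step.L (Step.L (Step.L (Step.L (Step.L (Step.L (Step.L (Step.L (Step.L (Step.L (Step.L (Step.D (nat_lit 3740) Step.done))))))))))))))))))))))) (Scr.cons (nat_lit 4) (nat_lit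 0) (Step.L (Step.D (nat_lit 3013) (Step.B (nat_lit 272) (Step.U (nat_lit 3740) (Step.L Step.done))))) (Scr.cons (nat_lit 13) (nat_lit 0) (Step.L (Step.L (Step.L (Step.L (Step.L (Step.L (Step.L (Step.L (Step.L (Step.D (nat_lit 891) (Step.D (nat_lit 1930) Step.done))))))))))) (Scr.cons (nat_lit 6) (nat_lit 3) (Step.L (Step.L (Step.L (Step.L (Step.L (Step.L (Step.L (Step.L (Step.L (Step.B (nat_lit 90) (Step.D (nat_lit 1930) Step.done))))))))))) (Scr.cons (nat_lit 12) (nat_lit 4) (Step.L (Step.B (nat_lit 274) (Step.F (nat_lit 275) (Step.L (Step.L Step.done))))) (Scr.cons (nat_lit 8) (nat_lit 1) (Step.L (Step.L (Step.L (Step.L (Step.L (Step.L (Step.L (Step.L (Step.L (Step.L (Step.L (Step.L (Step.L (Step.L (Step.D (nat_lit 1954) Step.done))))))))))))))) (Scr.cons (nat_lit 12) (nat_lit 0) (Step.B (nat_lit 277) (Step.U (nat_lit 1954) (Step.L (Step.L (Step.D (nat_lit 1954) Step.done))))) (Scr.cons (nat_lit 12) (nat_lit 4) (Step.L (Step.B (nat_lit 277) (Step.F (nat_lit 278) (Step.L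 (Step.L Step.done))))) (Scr.cons (nat_lit 12) (nat_lit 4) (Step.L (Step.L (Step.L (Step.L (Step.D (nat_lit 1972) Step.done))))) (Scr.cons (nat_lit 12) (nat_lit 4) (Step.L (Step.D (nat_lit 1972) (Step.F (nat_lit 280) (Step.L (Step.L Step.done))))) (Scr.cons (nat_lit 12) (nat_lit 4) (Step.L (Step.L (Step.L (Step.L (Step.D (nat_lit 1975) Step.done))))) Scr.nil))))))))))))))))))))))))))))))))))))))))
noncomputable def s7 : Scr := (Scr.cons (nat_lit 12) (nat_lit 4) (Step.L (Step.D (nat_lit 1975) (Step.F (nat_lit 282) (Step.L (Step.L Step.done))))) (Scr.cons (nat_lit 12) (nat_lit 4) (Step.L (Step.L (Step.L (Step.L (Step.D (nat_lit 1985) Step.done))))) (Scr.cons (nat_lit 12) (nat_lit 4) (Step.L (Step.D (nat_lit 1985) (Step.F (nat_lit 284) (Step.L (Step.L Step.done))))) (Scr.cons (nat_lit 12) (nat_lit 4) (Step.L (Step.L (Step.L (Step.L (Step.D (nat_lit 2076) Step.done))))) (Scr.cons (nat_lit 12) (nat_lit 4) (Step.L (Step.D (nat_lit 2076) (Step.F (nat_lit 286) (Step.L (Step.L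 Step.done))))) (Scr.cons (nat_lit 12) (nat_lit 4) (Step.L (Step.L (Step.L (Step.L (Step.D (nat_lit 2086) Step.done))))) (Scr.cons (nat_lit 12) (nat_lit 4) (Step.L (Step.D (nat_lit 2086) (Step.F (nat_lit 288) (Step.L (Step.L Step.done))))) (Scr.cons (nat_lit 12) (nat_lit 1) (Step.L (Step.L (Step.L (Step.L (Step.D (nat_lit 2089) Step.done))))) (Scr.cons (nat_lit 12) (nat_lit 1) (Step.L (Step.D (nat_lit 2089) (Step.F (nat_lit 290) (Step.L (Step.L Step.done))))) (Scr.cons (nat_lit 12) (nat_lit 4) (Step.L (Step.L (Step.L (Step.L (Step.D (nat_lit 2091) Step.done))))) (Scr.cons (nat_lit 12) (nat_lit 4) (Step.L (Step.D (nat_lit 2091) (Step.F (nat_lit 292) (Step.L (Step.L Step.done))))) (Scr.cons (nat_lit 11) (nat_lit 0) (Step.U (nat_lit 362) (Step.L (Step.L (Step.L (Step.D (nat_lit 972) Step.done))))) (Scr.cons (nat_lit 16) (nat_lit 5) (Step.L (Step.L (Step.L (Step.D (nat_lit 972) (Step.F (nat_lit 294) (Step.U (nat_lit 362) (Step.L (Step.L (Step.L (Step.L (Step.L (Step.L (Step.L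 (Step.L (Step.L (Step.L (Step.L (Step.L (Step.L (Step.L (Step.L (Step.L (Step.L Step.done))))))))))))))))))))))) (Scr.cons (nat_lit 11) (nat_lit 0) (Step.L (Step.L (Step.L (Step.D (nat_lit 928) (Step.D (nat_lit 2003) Step.done))))) (Scr.cons (nat_lit 16) (nat_lit 2) (Step.F (nat_lit 296) (Step.L (Step.L (Step.L (Step.L (Step.L (Step.L (Step.L (Step.L (Step.L (Step.L (Step.L (Step.L (Step.L (Step.L (Step.L (Step.L (Step.L (Step.L (Step.L (Step.L (Step.L (Step.L Step.done))))))))))))))))))))))) (Scr.cons (nat_lit 12) (nat_lit 4) (Step.L (Step.L (Step.L (Step.L (Step.F (nat_lit 297) Step.done))))) (Scr.cons (nat_lit 12) (nat_lit 4) (Step.L (Step.F (nat_lit 297) (Step.F (nat_lit 298) (Step.L (Step.L Step.done))))) (Scr.cons (nat_lit 12) (nat_lit 1) (Step.L (Step.L (Step.L (Step.L (Step.D (nat_lit 2149) Step.done))))) (Scr.cons (nat_lit 12) (nat_lit 1) (Step.L (Step.D (nat_lit 2149) (Step.F (nat_lit 300) (Step.L (Step.L Step.done))))) (Scr.cons (nat_lit 13) (nat_lit 0) (Step.L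 (Step.L (Step.L (Step.L (Step.L (Step.L (Step.L (Step.L (Step.L (Step.D (nat_lit 1021) (Step.D (nat_lit 2173) Step.done))))))))))) (Scr.cons (nat_lit 6) (nat_lit 3) (Step.L (Step.L (Step.L (Step.L (Step.L (Step.L (Step.L (Step.L (Step.L (Step.B (nat_lit 101) (Step.D (nat_lit 2173) Step.done))))))))))) (Scr.cons (nat_lit 12) (nat_lit 4) (Step.L (Step.B (nat_lit 302) (Step.F (nat_lit 303) (Step.L (Step.L Step.done))))) (Scr.cons (nat_lit 12) (nat_lit 1) (Step.L (Step.L (Step.L (Step.L (Step.D (nat_lit 2205) Step.done))))) (Scr.cons (nat_lit 12) (nat_lit 1) (Step.L (Step.D (nat_lit 2205) (Step.F (nat_lit 305) (Step.L (Step.L Step.done))))) (Scr.cons (nat_lit 12) (nat_lit 4) (Step.L (Step.L (Step.L (Step.L (Step.D (nat_lit 2253) Step.done))))) (Scr.cons (nat_lit 12) (nat_lit 4) (Step.L (Step.D (nat_lit 2253) (Step.F (nat_lit 307) (Step.L (Step.L Step.done))))) (Scr.cons (nat_lit 12) (nat_lit 1) (Step.L (Step.L (Step.L (Step.L (Step.D (nat_lit 2256) Step.done))))) (Scr.cons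 (nat_lit 12) (nat_lit 1) (Step.L (Step.D (nat_lit 2256) (Step.F (nat_lit 309) (Step.L (Step.L Step.done))))) (Scr.cons (nat_lit 12) (nat_lit 4) (Step.U (nat_lit 38) (Step.L (Step.L (Step.D (nat_lit 38) (Step.D (nat_lit 136) Step.done))))) (Scr.cons (nat_lit 12) (nat_lit 4) (Step.U (nat_lit 401) (Step.F (nat_lit 311) (Step.D (nat_lit 136) (Step.D (nat_lit 401) (Step.D (nat_lit 1038) Step.done))))) (Scr.cons (nat_lit 15) (nat_lit 0) (Step.L (Step.L (Step.L (Step.L (Step.L (Step.L (Step.L (Step.L (Step.L (Step.L (Step.D (nat_lit 38) (Step.D (nat_lit 136) (Step.D (nat_lit 401) (Step.D (nat_lit 1038) (Step.D (nat_lit 2210) Step.done))))))))))))))) (Scr.cons (nat_lit 12) (nat_lit 4) (Step.U (nat_lit 2210) (Step.F (nat_lit 312) (Step.D (nat_lit 1038) (Step.D (nat_lit 2210) (Step.F (nat_lit 313) Step.done))))) (Scr.cons (nat_lit 12) (nat_lit 1) (Step.L (Step.F (nat_lit 314) (Step.F (nat_lit 313) (Step.L (Step.L Step.done))))) (Scr.cons (nat_lit 7) (nat_lit 0) (Step.U (nat_lit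 1110) (Step.L (Step.L (Step.L (Step.L (Step.L (Step.L (Step.L (Step.L (Step.L (Step.L (Step.L (Step.L (Step.L (Step.L (Step.L (Step.L (Step.L (Step.L (Step.L (Step.D (nat_lit 1121) Step.done))))))))))))))))))))) (Scr.cons (nat_lit 0) (nat_lit 1) (Step.D (nat_lit 1121) (Step.F (nat_lit 316) Step.done)) (Scr.cons (nat_lit 6) (nat_lit 0) (Step.L (Step.L (Step.L (Step.L (Step.L (Step.L (Step.B (nat_lit 317) (Step.U (nat_lit 1110) (Step.L (Step.L (Step.L Step.done))))))))))) (Scr.cons (nat_lit 12) (nat_lit 4) (Step.L (Step.L (Step.L (Step.L (Step.D (nat_lit 2344) Step.done))))) (Scr.cons (nat_lit 12) (nat_lit 4) (Step.L (Step.D (nat_lit 2344) (Step.F (nat_lit 319) (Step.L (Step.L Step.done))))) (Scr.cons (nat_lit 12) (nat_lit 1) (Step.L (Step.L (Step.L (Step.L (Step.D (nat_lit 2349) Step.done))))) (Scr.cons (nat_lit 12) (nat_lit 1) (Step.L (Step.D (nat_lit 2349) (Step.F (nat_lit 321) (Step.L (Step.L Step.done))))) Scr.nil))))))))))))))))))))))))))))))))))))))))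
noncomputable def s8 : Scr := (Scr.cons (nat_lit 12) (nat_lit 4) (Step.L (Step.L (Step.L (Step.L (Step.D (nat_lit 2355) Step.done))))) (Scr.cons (nat_lit 12) (nat_lit 4) (Step.L (Step.D (nat_lit 2355) (Step.F (nat_lit 323) (Step.L (Step.L Step.done))))) (Scr.cons (nat_lit 12) (nat_lit 4) (Step.L (Step.L (Step.L (Step.L (Step.D (nat_lit 2356) Step.done))))) (Scr.cons (nat_lit 12) (nat_lit 4) (Step.L (Step.D (nat_lit 2356) (Step.F (nat_lit 325) (Step.L (Step.L Step.done))))) (Scr.cons (nat_lit 12) (nat_lit 1) (Step.L (Step.L (Step.L (Step.L (Step.D (nat_lit 2372) Step.done))))) (Scr.cons (nat_lit 12) (nat_lit 1) (Step.L (Step.D (nat_lit 2372) (Step.F (nat_lit 327) (Step.L (Step.L Step.done))))) (Scr.cons (nat_lit 12) (nat_lit 4) (Step.L (Step.L (Step.L (Step.L (Step.D (nat_lit 2376) Step.done))))) (Scr.cons (nat_lit 12) (nat_lit 4) (Step.L (Step.D (nat_lit 2376) (Step.F (nat_lit 329) (Step.L (Step.L Step.done))))) (Scr.cons (nat_lit 12) (nat_lit 4) (Step.L (Step.L (Step.L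 (Step.L (Step.D (nat_lit 2380) Step.done))))) (Scr.cons (nat_lit 12) (nat_lit 4) (Step.L (Step.D (nat_lit 2380) (Step.F (nat_lit 331) (Step.L (Step.L Step.done))))) (Scr.cons (nat_lit 12) (nat_lit 4) (Step.L (Step.L (Step.L (Step.L (Step.D (nat_lit 2408) Step.done))))) (Scr.cons (nat_lit 12) (nat_lit 4) (Step.L (Step.D (nat_lit 2408) (Step.F (nat_lit 333) (Step.L (Step.L Step.done))))) (Scr.cons (nat_lit 12) (nat_lit 4) (Step.L (Step.L (Step.L (Step.L (Step.D (nat_lit 2427) Step.done))))) (Scr.cons (nat_lit 12) (nat_lit 4) (Step.L (Step.D (nat_lit 2427) (Step.F (nat_lit 335) (Step.L (Step.L Step.done))))) (Scr.cons (nat_lit 12) (nat_lit 4) (Step.L (Step.L (Step.L (Step.L (Step.D (nat_lit 2434) Step.done))))) (Scr.cons (nat_lit 12) (nat_lit 4) (Step.L (Step.D (nat_lit 2434) (Step.F (nat_lit 337) (Step.L (Step.L Step.done))))) (Scr.cons (nat_lit 12) (nat_lit 4) (Step.L (Step.L (Step.L (Step.L (Step.D (nat_lit 2445) Step.done))))) (Scr.cons (nat_lit 12) (nat_lit 4) (Step.L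 (Step.D (nat_lit 2445) (Step.F (nat_lit 339) (Step.L (Step.L Step.done))))) (Scr.cons (nat_lit 12) (nat_lit 1) (Step.L (Step.L (Step.L (Step.L (Step.D (nat_lit 2446) Step.done))))) (Scr.cons (nat_lit 12) (nat_lit 1) (Step.L (Step.D (nat_lit 2446) (Step.F (nat_lit 341) (Step.L (Step.L Step.done))))) (Scr.cons (nat_lit 11) (nat_lit 0) (Step.U (nat_lit 432) (Step.L (Step.L (Step.L (Step.D (nat_lit 1110) Step.done))))) (Scr.cons (nat_lit 16) (nat_lit 2) (Step.L (Step.L (Step.L (Step.L (Step.L (Step.L (Step.L (Step.L (Step.L (Step.L (Step.L (Step.B (nat_lit 317) (Step.F (nat_lit 343) (Step.U (nat_lit 432) (Step.L (Step.L (Step.L (Step.L (Step.L (Step.L (Step.L (Step.L (Step.L Step.done))))))))))))))))))))))) (Scr.cons (nat_lit 12) (nat_lit 4) (Step.L (Step.L (Step.L (Step.L (Step.D (nat_lit 2451) Step.done))))) (Scr.cons (nat_lit 12) (nat_lit 4) (Step.L (Step.D (nat_lit 2451) (Step.F (nat_lit 345) (Step.L (Step.L Step.done))))) (Scr.cons (nat_lit 12) (nat_lit 1) (Step.L (Step.L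 (Step.L (Step.L (Step.D (nat_lit 2453) Step.done))))) (Scr.cons (nat_lit 12) (nat_lit 1) (Step.L (Step.D (nat_lit 2453) (Step.F (nat_lit 347) (Step.L (Step.L Step.done))))) (Scr.cons (nat_lit 12) (nat_lit 1) (Step.L (Step.L (Step.L (Step.L (Step.D (nat_lit 2463) Step.done))))) (Scr.cons (nat_lit 12) (nat_lit 1) (Step.L (Step.D (nat_lit 2463) (Step.F (nat_lit 349) (Step.L (Step.L Step.done))))) (Scr.cons (nat_lit 12) (nat_lit 1) (Step.L (Step.L (Step.L (Step.L (Step.D (nat_lit 1366) Step.done))))) (Scr.cons (nat_lit 16) (nat_lit 5) (Step.F (nat_lit 351) (Step.L (Step.L (Step.L (Step.L (Step.L (Step.L (Step.L (Step.L (Step.L (Step.L (Step.L (Step.L (Step.L (Step.L (Step.L (Step.L (Step.L (Step.L (Step.L (Step.L (Step.L (Step.L Step.done))))))))))))))))))))))) (Scr.cons (nat_lit 12) (nat_lit 1) (Step.F (nat_lit 352) (Step.F (nat_lit 351) (Step.D (nat_lit 1366) (Step.B (nat_lit 352) (Step.L Step.done))))) (Scr.cons (nat_lit 12) (nat_lit 4) (Step.L (Step.L (Step.L (Step.L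 (Step.D (nat_lit 2467) Step.done))))) (Scr.cons (nat_lit 12) (nat_lit 4) (Step.L (Step.D (nat_lit 2467) (Step.F (nat_lit 354) (Step.L (Step.L Step.done))))) (Scr.cons (nat_lit 12) (nat_lit 1) (Step.L (Step.L (Step.L (Step.L (Step.D (nat_lit 2473) Step.done))))) (Scr.cons (nat_lit 12) (nat_lit 1) (Step.L (Step.D (nat_lit 2473) (Step.F (nat_lit 356) (Step.L (Step.L Step.done))))) (Scr.cons (nat_lit 12) (nat_lit 4) (Step.L (Step.L (Step.L (Step.L (Step.D (nat_lit 2499) Step.done))))) (Scr.cons (nat_lit 12) (nat_lit 4) (Step.L (Step.D (nat_lit 2499) (Step.F (nat_lit 358) (Step.L (Step.L Step.done))))) (Scr.cons (nat_lit 12) (nat_lit 1) (Step.L (Step.L (Step.L (Step.L (Step.D (nat_lit 2512) Step.done))))) (Scr.cons (nat_lit 12) (nat_lit 1) (Step.L (Step.D (nat_lit 2512) (Step.F (nat_lit 360) (Step.L (Step.L Step.done))))) (Scr.cons (nat_lit 14) (nat_lit 4) (Step.L (Step.L (Step.L (Step.L (Step.L (Step.L (Step.L (Step.L (Step.L (Step.L (Step.L (Step.L (Step.L (Step.L (Step.L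 (Step.L (Step.L (Step.L (Step.L (Step.D (nat_lit 1376) Step.done)))))))))))))))))))) Scr.nil))))))))))))))))))))))))))))))))))))))))
noncomputable def s9 : Scr := (Scr.cons (nat_lit 11) (nat_lit 0) (Step.F (nat_lit 362) (Step.L (Step.L (Step.L (Step.D (nat_lit 575) Step.done))))) (Scr.cons (nat_lit 12) (nat_lit 1) (Step.L (Step.L (Step.L (Step.L (Step.D (nat_lit 1376) Step.done))))) (Scr.cons (nat_lit 16) (nat_lit 1) (Step.L (Step.L (Step.L (Step.L (Step.L (Step.L (Step.L (Step.L (Step.D (nat_lit 575) (Step.F (nat_lit 363) (Step.F (nat_lit 364) (Step.L (Step.L (Step.L (Step.L (Step.L (Step.L (Step.L (Step.L (Step.L (Step.L (Step.L (Step.L Step.done))))))))))))))))))))))) (Scr.cons (nat_lit 12) (nat_lit 4) (Step.L (Step.L (Step.L (Step.L (Step.D (nat_lit 2517) Step.done))))) (Scr.cons (nat_lit 12) (nat_lit 4) (Step.L (Step.D (nat_lit 2517) (Step.F (nat_lit 366) (Step.L (Step.L Step.done))))) (Scr.cons (nat_lit 12) (nat_lit 1) (Step.U (nat_lit 46) (Step.L (Step.L (Step.D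 (nat_lit 46) (Step.D (nat_lit 170) Step.done))))) (Scr.cons (nat_lit 12) (nat_lit 1) (Step.U (nat_lit 499) (Step.F (nat_lit 368) (Step.D (nat_lit 170) (Step.D (nat_lit 499) (Step.D (nat_lit 1245) Step.done))))) (Scr.cons (nat_lit 8) (nat_lit 1) (Step.L (Step.L (Step.L (Step.L (Step.L (Step.L (Step.L (Step.L (Step.L (Step.L (Step.D (nat_lit 46) (Step.B (nat_lit 368) (Step.D (nat_lit 499) (Step.B (nat_lit 369) (Step.D (nat_lit 2566) Step.done))))))))))))))) (Scr.cons (nat_lit 12) (nat_lit 0) (Step.B (nat_lit 370) (Step.U (nat_lit 2566) (Step.F (nat_lit 369) (Step.D (nat_lit 1245) (Step.D (nat_lit 2566) Step.done))))) (Scr.cons (nat_lit 12) (nat_lit 4) (Step.L (Step.B (nat_lit 370) (Step.F (nat_lit 371) (Step.L (Step.L Step.done))))) (Scr.cons (nat_lit 12) (nat_lit 4) (Step.L (Step.L (Step.L (Step.L (Step.D (nat_lit 2588) Step.done))))) (Scr.cons (nat_lit 12) (nat_lit 4) (Step.L (Step.D (nat_lit 2588) (Step.F (nat_lit 373) (Step.L (Step.L Step.done))))) (Scr.cons (nat_lit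 12) (nat_lit 1) (Step.L (Step.L (Step.L (Step.L (Step.D (nat_lit 1266) Step.done))))) (Scr.cons (nat_lit 12) (nat_lit 1) (Step.L (Step.D (nat_lit 1266) (Step.F (nat_lit 375) (Step.L (Step.D (nat_lit 2604) Step.done))))) (Scr.cons (nat_lit 12) (nat_lit 1) (Step.L (Step.D (nat_lit 2604) (Step.F (nat_lit 376) (Step.L (Step.L Step.done))))) (Scr.cons (nat_lit 12) (nat_lit 1) (Step.L (Step.L (Step.L (Step.L (Step.D (nat_lit 2619) Step.done))))) (Scr.cons (nat_lit 12) (nat_lit 1) (Step.L (Step.D (nat_lit 2619) (Step.F (nat_lit 378) (Step.L (Step.L Step.done))))) (Scr.cons (nat_lit 12) (nat_lit 1) (Step.L (Step.L (Step.L (Step.L (Step.D (nat_lit 2693) Step.done))))) (Scr.cons (nat_lit 12) (nat_lit 1) (Step.L (Step.D (nat_lit 2693) (Step.F (nat_lit 380) (Step.L (Step.L Step.done))))) (Scr.cons (nat_lit 11) (nat_lit 0) (Step.U (nat_lit 435) (Step.L (Step.L (Step.L (Step.D (nat_lit 1116) Step.done))))) (Scr.cons (nat_lit 12) (nat_lit 1) (Step.U (nat_lit 435) (Step.L (Step.L (Step.D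 (nat_lit 435) (Step.D (nat_lit 1117) Step.done))))) (Scr.cons (nat_lit 12) (nat_lit 1) (Step.F (nat_lit 382) (Step.D (nat_lit 1117) (Step.F (nat_lit 383) (Step.B (nat_lit 382) (Step.D (nat_lit 2341) Step.done))))) (Scr.cons (nat_lit 11) (nat_lit 0) (Step.U (nat_lit 182) (Step.U (nat_lit 49) (Step.D (nat_lit 48) (Step.D (nat_lit 180) (Step.D (nat_lit 522) Step.done))))) (Scr.cons (nat_lit 12) (nat_lit 4) (Step.L (Step.L (Step.L (Step.L (Step.D (nat_lit 6) Step.done))))) (Scr.cons (nat_lit 12) (nat_lit 1) (Step.U (nat_lit 49) (Step.F (nat_lit 386) (Step.D (nat_lit 6) (Step.D (nat_lit 49) (Step.D (nat_lit 181) Step.done))))) (Scr.cons (nat_lit 12) (nat_lit 1) (Step.U (nat_lit 182) (Step.D (nat_lit 181) (Step.F (nat_lit 387) (Step.D (nat_lit 182) (Step.D (nat_lit 524) Step.done))))) (Scr.cons (nat_lit 12) (nat_lit 1) (Step.F (nat_lit 385) (Step.D (nat_lit 524) (Step.F (nat_lit 388) (Step.B (nat_lit 385) (Step.D (nat_lit 1288) Step.done))))) (Scr.cons (nat_lit 14) (nat_lit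 2) (Step.F (nat_lit 384) (Step.F (nat_lit 382) (Step.U (nat_lit 435) (Step.L (Step.L (Step.L (Step.L (Step.L (Step.L (Step.L (Step.L (Step.L (Step.L (Step.L (Step.D (nat_lit 6) (Step.D (nat_lit 48) (Step.D (nat_lit 180) (Step.D (nat_lit 522) (Step.B (nat_lit 389) (Step.D (nat_lit 2644) Step.done)))))))))))))))))))) (Scr.cons (nat_lit 11) (nat_lit 0) (Step.L (Step.L (Step.L (Step.L (Step.D (nat_lit 1316) Step.done))))) (Scr.cons (nat_lit 16) (nat_lit 2) (Step.F (nat_lit 391) (Step.L (Step.L (Step.L (Step.L (Step.L (Step.L (Step.L (Step.L (Step.L (Step.L (Step.L (Step.L (Step.L (Step.L (Step.L (Step.L (Step.D (nat_lit 6) (Step.D (nat_lit 48) (Step.D (nat_lit 180) (Step.D (nat_lit 522) (Step.D (nat_lit 1288) (Step.D (nat_lit 2644) Step.done))))))))))))))))))))))) (Scr.cons (nat_lit 13) (nat_lit 3) (Step.L (Step.L (Step.L (Step.D (nat_lit 1116) (Step.B (nat_lit 384) (Step.B (nat_lit 390) (Step.F (nat_lit 392) (Step.F (nat_lit 391) (Step.L (Step.L (Step.L Step.done)))))))))))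 (Scr.cons (nat_lit 12) (nat_lit 4) (Step.L (Step.L (Step.L (Step.L (Step.D (nat_lit 2776) Step.done))))) (Scr.cons (nat_lit 12) (nat_lit 4) (Step.L (Step.D (nat_lit 2776) (Step.F (nat_lit 394) (Step.L (Step.L Step.done))))) (Scr.cons (nat_lit 12) (nat_lit 1) (Step.L (Step.L (Step.L (Step.L (Step.D (nat_lit 2777) Step.done))))) (Scr.cons (nat_lit 12) (nat_lit 1) (Step.L (Step.D (nat_lit 2777) (Step.F (nat_lit 396) (Step.L (Step.L Step.done))))) (Scr.cons (nat_lit 12) (nat_lit 1) (Step.L (Step.L (Step.L (Step.L (Step.D (nat_lit 2797) Step.done))))) (Scr.cons (nat_lit 12) (nat_lit 1) (Step.L (Step.D (nat_lit 2797) (Step.F (nat_lit 398) (Step.L (Step.L Step.done))))) (Scr.cons (nat_lit 12) (nat_lit 1) (Step.L (Step.L (Step.L (Step.L (Step.D (nat_lit 2798) Step.done))))) (Scr.cons (nat_lit 12) (nat_lit 1) (Step.L (Step.D (nat_lit 2798) (Step.F (nat_lit 400) (Step.L (Step.L Step.done))))) (Scr.cons (nat_lit 13) (nat_lit 2) (Step.L (Step.L (Step.B (nat_lit 362) (Step.F (nat_lit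 364) (Step.L (Step.L (Step.L (Step.L (Step.L (Step.L (Step.L Step.done))))))))))) Scr.nil))))))))))))))))))))))))))))))))))))))))
noncomputable def s10 : Scr := (Scr.cons (nat_lit 11) (nat_lit 0) (Step.U (nat_lit 126) (Step.U (nat_lit 35) (Step.L (Step.L (Step.D (nat_lit 378) Step.done))))) (Scr.cons (nat_lit 12) (nat_lit 1) (Step.U (nat_lit 35) (Step.L (Step.L (Step.D (nat_lit 35) (Step.D (nat_lit 125) Step.done))))) (Scr.cons (nat_lit 12) (nat_lit 1) (Step.U (nat_lit 126) (Step.D (nat_lit 125) (Step.F (nat_lit 404) (Step.D (nat_lit 126) (Step.D (nat_lit 381) Step.done))))) (Scr.cons (nat_lit 12) (nat_lit 1) (Step.F (nat_lit 403) (Step.D (nat_lit 381) (Step.F (nat_lit 405) (Step.B (nat_lit 403) (Step.D (nat_lit 997) Step.done))))) (Scr.cons (nat_lit 9) (nat_lit 5) (Step.U (nat_lit 1059) (Step.L (Step.L (Step.L (Step.L (Step.L (Step.L (Step.L (Step.L (Step.L (Step.L (Step.L (Step.L (Step.L (Step.L (Step.L (Step.L (Step.L (Step.D (nat_lit 35) (Step.D (nat_lit 126) (Step.B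 (nat_lit 403) (Step.B (nat_lit 406) (Step.D (nat_lit 2137) Step.done))))))))))))))))))))))) (Scr.cons (nat_lit 12) (nat_lit 0) (Step.B (nat_lit 407) (Step.U (nat_lit 2137) (Step.F (nat_lit 406) (Step.D (nat_lit 997) (Step.D (nat_lit 2137) Step.done))))) (Scr.cons (nat_lit 11) (nat_lit 0) (Step.L (Step.L (Step.L (Step.L (Step.D (nat_lit 1059) Step.done))))) (Scr.cons (nat_lit 16) (nat_lit 1) (Step.F (nat_lit 408) (Step.F (nat_lit 409) (Step.L (Step.L (Step.L (Step.L (Step.L (Step.L (Step.L (Step.L (Step.L (Step.L (Step.L (Step.L (Step.L (Step.L (Step.L (Step.L (Step.L (Step.L (Step.D (nat_lit 566) (Step.D (nat_lit 1378) (Step.D (nat_lit 2811) Step.done))))))))))))))))))))))) (Scr.cons (nat_lit 11) (nat_lit 0) (Step.L (Step.L (Step.L (Step.D (nat_lit 566) (Step.D (nat_lit 1378) Step.done))))) (Scr.cons (nat_lit 12) (nat_lit 1) (Step.F (nat_lit 411) (Step.L (Step.L (Step.B (nat_lit 411) (Step.D (nat_lit 2811) Step.done))))) (Scr.cons (nat_lit 13) (nat_lit 3) (Step.L (Step.L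 (Step.L (Step.D (nat_lit 1059) (Step.B (nat_lit 408) (Step.B (nat_lit 410) (Step.F (nat_lit 412) (Step.F (nat_lit 411) (Step.L (Step.L (Step.L Step.done))))))))))) (Scr.cons (nat_lit 12) (nat_lit 4) (Step.L (Step.L (Step.L (Step.L (Step.D (nat_lit 2821) Step.done))))) (Scr.cons (nat_lit 12) (nat_lit 4) (Step.L (Step.D (nat_lit 2821) (Step.F (nat_lit 414) (Step.L (Step.L Step.done))))) (Scr.cons (nat_lit 12) (nat_lit 1) (Step.L (Step.L (Step.L (Step.L (Step.D (nat_lit 2832) Step.done))))) (Scr.cons (nat_lit 12) (nat_lit 1) (Step.L (Step.D (nat_lit 2832) (Step.F (nat_lit 416) (Step.L (Step.L Step.done))))) (Scr.cons (nat_lit 12) (nat_lit 1) (Step.L (Step.L (Step.L (Step.L (Step.D (nat_lit 2839) Step.done))))) (Scr.cons (nat_lit 12) (nat_lit 1) (Step.L (Step.D (nat_lit 2839) (Step.F (nat_lit 418) (Step.L (Step.L Step.done))))) (Scr.cons (nat_lit 12) (nat_lit 1) (Step.L (Step.L (Step.L (Step.L (Step.D (nat_lit 2852) Step.done))))) (Scr.cons (nat_lit 12) (nat_lit 1) (Step.L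 (Step.D (nat_lit 2852) (Step.F (nat_lit 420) (Step.L (Step.L Step.done))))) (Scr.cons (nat_lit 12) (nat_lit 1) (Step.L (Step.L (Step.L (Step.L (Step.D (nat_lit 2879) Step.done))))) (Scr.cons (nat_lit 12) (nat_lit 1) (Step.L (Step.D (nat_lit 2879) (Step.F (nat_lit 422) (Step.L (Step.L Step.done))))) (Scr.cons (nat_lit 12) (nat_lit 4) (Step.L (Step.L (Step.L (Step.L (Step.D (nat_lit 212) Step.done))))) (Scr.cons (nat_lit 12) (nat_lit 4) (Step.U (nat_lit 591) (Step.F (nat_lit 424) (Step.D (nat_lit 212) (Step.D (nat_lit 591) (Step.D (nat_lit 1424) Step.done))))) (Scr.cons (nat_lit 15) (nat_lit 0) (Step.L (Step.L (Step.L (Step.L (Step.L (Step.L (Step.L (Step.L (Step.L (Step.L (Step.L (Step.D (nat_lit 212) (Step.D (nat_lit 591) (Step.D (nat_lit 1424) (Step.D (nat_lit 2893) Step.done))))))))))))))) (Scr.cons (nat_lit 12) (nat_lit 4) (Step.U (nat_lit 2893) (Step.F (nat_lit 425) (Step.D (nat_lit 1424) (Step.D (nat_lit 2893) (Step.F (nat_lit 426) Step.done))))) (Scr.cons (nat_lit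 12) (nat_lit 1) (Step.L (Step.F (nat_lit 427) (Step.F (nat_lit 426) (Step.L (Step.L Step.done))))) (Scr.cons (nat_lit 12) (nat_lit 4) (Step.L (Step.L (Step.L (Step.L (Step.D (nat_lit 2936) Step.done))))) (Scr.cons (nat_lit 12) (nat_lit 4) (Step.L (Step.D (nat_lit 2936) (Step.F (nat_lit 429) (Step.L (Step.L Step.done))))) (Scr.cons (nat_lit 8) (nat_lit 1) (Step.L (Step.L (Step.L (Step.L (Step.L (Step.L (Step.L (Step.L (Step.L (Step.L (Step.L (Step.L (Step.L (Step.L (Step.D (nat_lit 2983) Step.done))))))))))))))) (Scr.cons (nat_lit 12) (nat_lit 0) (Step.B (nat_lit 431) (Step.U (nat_lit 2983) (Step.L (Step.L (Step.D (nat_lit 2983) Step.done))))) (Scr.cons (nat_lit 12) (nat_lit 4) (Step.L (Step.B (nat_lit 431) (Step.F (nat_lit 432) (Step.L (Step.L Step.done))))) (Scr.cons (nat_lit 12) (nat_lit 4) (Step.L (Step.L (Step.L (Step.L (Step.D (nat_lit 3009) Step.done))))) (Scr.cons (nat_lit 12) (nat_lit 4) (Step.L (Step.D (nat_lit 3009) (Step.F (nat_lit 434) (Step.L (Step.L Step.done)))))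 (Scr.cons (nat_lit 12) (nat_lit 4) (Step.L (Step.L (Step.L (Step.L (Step.D (nat_lit 3026) Step.done))))) (Scr.cons (nat_lit 12) (nat_lit 4) (Step.L (Step.D (nat_lit 3026) (Step.F (nat_lit 436) (Step.L (Step.L Step.done))))) (Scr.cons (nat_lit 14) (nat_lit 4) (Step.U (nat_lit 5412) (Step.L (Step.L (Step.L (Step.L (Step.L (Step.L (Step.L (Step.L (Step.L (Step.L (Step.L (Step.L (Step.L (Step.L (Step.L (Step.L (Step.L (Step.L (Step.L Step.done)))))))))))))))))))) (Scr.cons (nat_lit 11) (nat_lit 0) (Step.F (nat_lit 438) (Step.U (nat_lit 5412) (Step.L (Step.L (Step.L Step.done))))) (Scr.cons (nat_lit 12) (nat_lit 1) (Step.L (Step.L (Step.L (Step.L (Step.D (nat_lit 3031) Step.done))))) (Scr.cons (nat_lit 12) (nat_lit 1) (Step.L (Step.D (nat_lit 3031) (Step.F (nat_lit 440) (Step.L (Step.L Step.done))))) (Scr.cons (nat_lit 12) (nat_lit 1) (Step.L (Step.L (Step.L (Step.L (Step.D (nat_lit 3038) Step.done))))) Scr.nil))))))))))))))))))))))))))))))))))))))))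
noncomputable def s11 : Scr := (Scr.cons (nat_lit 12) (nat_lit 1) (Step.L (Step.D (nat_lit 3038) (Step.F (nat_lit 442) (Step.L (Step.L Step.done))))) (Scr.cons (nat_lit 12) (nat_lit 1) (Step.L (Step.L (Step.L (Step.L (Step.D (nat_lit 3039) Step.done))))) (Scr.cons (nat_lit 12) (nat_lit 1) (Step.L (Step.D (nat_lit 3039) (Step.F (nat_lit 444) (Step.L (Step.L Step.done))))) (Scr.cons (nat_lit 12) (nat_lit 1) (Step.L (Step.L (Step.L (Step.L (Step.D (nat_lit 3077) Step.done))))) (Scr.cons (nat_lit 12) (nat_lit 1) (Step.L (Step.D (nat_lit 3077) (Step.F (nat_lit 446) (Step.L (Step.L Step.done))))) (Scr.cons (nat_lit 12) (nat_lit 1) (Step.L (Step.L (Step.L (Step.L (Step.D (nat_lit 3089) Step.done))))) (Scr.cons (nat_lit 12) (nat_lit 1) (Step.L (Step.D (nat_lit 3089) (Step.F (nat_lit 448) (Step.L (Step.L Step.done))))) (Scr.cons (nat_lit 12) (nat_lit 1) (Step.L (Step.L (Step.L (Step.L (Step.D (nat_lit 3106) Step.done))))) (Scr.cons (nat_lit 12) (nat_lit 1) (Step.L (Step.D (nat_lit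 3106) (Step.F (nat_lit 450) (Step.L (Step.L Step.done))))) (Scr.cons (nat_lit 12) (nat_lit 4) (Step.L (Step.L (Step.L (Step.L (Step.D (nat_lit 3107) Step.done))))) (Scr.cons (nat_lit 12) (nat_lit 4) (Step.L (Step.D (nat_lit 3107) (Step.F (nat_lit 452) (Step.L (Step.L Step.done))))) (Scr.cons (nat_lit 12) (nat_lit 1) (Step.L (Step.L (Step.L (Step.L (Step.D (nat_lit 3108) Step.done))))) (Scr.cons (nat_lit 12) (nat_lit 1) (Step.L (Step.D (nat_lit 3108) (Step.F (nat_lit 454) (Step.L (Step.L Step.done))))) (Scr.cons (nat_lit 12) (nat_lit 1) (Step.L (Step.L (Step.L (Step.L (Step.D (nat_lit 3118) Step.done))))) (Scr.cons (nat_lit 12) (nat_lit 1) (Step.L (Step.D (nat_lit 3118) (Step.F (nat_lit 456) (Step.L (Step.L Step.done))))) (Scr.cons (nat_lit 12) (nat_lit 4) (Step.L (Step.L (Step.L (Step.L (Step.D (nat_lit 3181) Step.done))))) (Scr.cons (nat_lit 12) (nat_lit 4) (Step.L (Step.D (nat_lit 3181) (Step.F (nat_lit 458) (Step.L (Step.L Step.done))))) (Scr.cons (nat_lit 12) (nat_lit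 1) (Step.L (Step.L (Step.L (Step.L (Step.D (nat_lit 3192) Step.done))))) (Scr.cons (nat_lit 12) (nat_lit 1) (Step.L (Step.D (nat_lit 3192) (Step.F (nat_lit 460) (Step.L (Step.L Step.done))))) (Scr.cons (nat_lit 7) (nat_lit 1) (Step.L (Step.L (Step.L (Step.L (Step.L (Step.L (Step.L (Step.L (Step.L (Step.L (Step.L (Step.L (Step.L (Step.L (Step.L (Step.L (Step.L (Step.L (Step.L (Step.D (nat_lit 5668) Step.done)))))))))))))))))))) (Scr.cons (nat_lit 11) (nat_lit 0) (Step.L (Step.L (Step.B (nat_lit 462) (Step.U (nat_lit 5668) (Step.L Step.done))))) (Scr.cons (nat_lit 12) (nat_lit 4) (Step.L (Step.L (Step.L (Step.L (Step.D (nat_lit 3206) Step.done))))) (Scr.cons (nat_lit 12) (nat_lit 4) (Step.L (Step.D (nat_lit 3206) (Step.F (nat_lit 464) (Step.L (Step.L Step.done))))) (Scr.cons (nat_lit 12) (nat_lit 1) (Step.L (Step.L (Step.L (Step.L (Step.D (nat_lit 3211) Step.done))))) (Scr.cons (nat_lit 12) (nat_lit 1) (Step.L (Step.D (nat_lit 3211) (Step.F (nat_lit 466) (Step.L (Step.L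 Step.done))))) (Scr.cons (nat_lit 12) (nat_lit 1) (Step.L (Step.L (Step.L (Step.L (Step.D (nat_lit 3693) Step.done))))) (Scr.cons (nat_lit 12) (nat_lit 1) (Step.L (Step.D (nat_lit 3693) (Step.F (nat_lit 468) (Step.L (Step.L Step.done))))) (Scr.cons (nat_lit 12) (nat_lit 1) (Step.L (Step.L (Step.L (Step.L (Step.D (nat_lit 3234) Step.done))))) (Scr.cons (nat_lit 12) (nat_lit 1) (Step.L (Step.D (nat_lit 3234) (Step.F (nat_lit 470) (Step.L (Step.L Step.done))))) (Scr.cons (nat_lit 11) (nat_lit 0) (Step.U (nat_lit 1923) (Step.L (Step.L (Step.L (Step.L Step.done))))) (Scr.cons (nat_lit 12) (nat_lit 1) (Step.U (nat_lit 1923) (Step.L (Step.L (Step.D (nat_lit 1923) (Step.D (nat_lit 3732) Step.done))))) (Scr.cons (nat_lit 12) (nat_lit 1) (Step.F (nat_lit 472) (Step.D (nat_lit 3732) (Step.F (nat_lit 473) (Step.B (nat_lit 472) (Step.L Step.done))))) (Scr.cons (nat_lit 12) (nat_lit 4) (Step.L (Step.L (Step.L (Step.L (Step.D (nat_lit 247) Step.done))))) (Scr.cons (nat_lit 13) (nat_lit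 0) (Step.L (Step.L (Step.L (Step.L (Step.L (Step.L (Step.L (Step.B (nat_lit 475) (Step.D (nat_lit 693) (Step.D (nat_lit 1630) (Step.D (nat_lit 3240) Step.done))))))))))) (Scr.cons (nat_lit 12) (nat_lit 1) (Step.U (nat_lit 693) (Step.F (nat_lit 475) (Step.D (nat_lit 247) (Step.D (nat_lit 693) (Step.D (nat_lit 1630) Step.done))))) (Scr.cons (nat_lit 6) (nat_lit 3) (Step.L (Step.L (Step.L (Step.L (Step.L (Step.L (Step.L (Step.D (nat_lit 247) (Step.D (nat_lit 693) (Step.B (nat_lit 477) (Step.D (nat_lit 3240) Step.done))))))))))) (Scr.cons (nat_lit 12) (nat_lit 4) (Step.L (Step.B (nat_lit 476) (Step.F (nat_lit 478) (Step.L (Step.L Step.done))))) (Scr.cons (nat_lit 12) (nat_lit 4) (Step.L (Step.L (Step.L (Step.L (Step.D (nat_lit 3260) Step.done))))) (Scr.cons (nat_lit 12) (nat_lit 4) (Step.L (Step.D (nat_lit 3260) (Step.F (nat_lit 480) (Step.L (Step.L Step.done))))) (Scr.cons (nat_lit 12) (nat_lit 4) (Step.L (Step.L (Step.L (Step.L (Step.D (nat_lit 3277) Step.done))))) Scr.nil))))))))))))))))))))))))))))))))))))))))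
noncomputable def s12 : Scr := (Scr.cons (nat_lit 12) (nat_lit 4) (Step.L (Step.D (nat_lit 3277) (Step.F (nat_lit 482) (Step.L (Step.L Step.done))))) (Scr.cons (nat_lit 12) (nat_lit 1) (Step.L (Step.L (Step.L (Step.L (Step.D (nat_lit 3286) Step.done))))) (Scr.cons (nat_lit 12) (nat_lit 1) (Step.L (Step.D (nat_lit 3286) (Step.F (nat_lit 484) (Step.L (Step.L Step.done))))) (Scr.cons (nat_lit 12) (nat_lit 4) (Step.L (Step.L (Step.L (Step.L (Step.D (nat_lit 3287) Step.done))))) (Scr.cons (nat_lit 12) (nat_lit 4) (Step.L (Step.D (nat_lit 3287) (Step.F (nat_lit 486) (Step.L (Step.L Step.done))))) (Scr.cons (nat_lit 12) (nat_lit 1) (Step.L (Step.L (Step.L (Step.L (Step.D (nat_lit 3293) Step.done))))) (Scr.cons (nat_lit 12) (nat_lit 1) (Step.L (Step.D (nat_lit 3293) (Step.F (nat_lit 488) (Step.L (Step.L Step.done))))) (Scr.cons (nat_lit 11) (nat_lit 0) (Step.L (Step.L (Step.L (Step.L (Step.D (nat_lit 4406) Step.done))))) (Scr.cons (nat_lit 16) (nat_lit 1) (Step.L (Step.L (Step.L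 (Step.L (Step.L (Step.L (Step.L (Step.L (Step.L (Step.L (Step.L (Step.L (Step.L (Step.L (Step.L (Step.L (Step.L (Step.L (Step.L (Step.L (Step.D (nat_lit 4406) (Step.F (nat_lit 490) (Step.L Step.done))))))))))))))))))))))) (Scr.cons (nat_lit 12) (nat_lit 1) (Step.L (Step.L (Step.L (Step.L (Step.D (nat_lit 3305) Step.done))))) (Scr.cons (nat_lit 12) (nat_lit 1) (Step.L (Step.D (nat_lit 3305) (Step.F (nat_lit 492) (Step.L (Step.L Step.done))))) (Scr.cons (nat_lit 12) (nat_lit 4) (Step.U (nat_lit 70) (Step.L (Step.L (Step.D (nat_lit 70) (Step.D (nat_lit 252) Step.done))))) (Scr.cons (nat_lit 13) (nat_lit 0) (Step.L (Step.L (Step.L (Step.L (Step.L (Step.L (Step.D (nat_lit 70) (Step.B (nat_lit 494) (Step.D (nat_lit 709) (Step.D (nat_lit 1661) (Step.D (nat_lit 3311) Step.done))))))))))) (Scr.cons (nat_lit 12) (nat_lit 1) (Step.U (nat_lit 709) (Step.F (nat_lit 494) (Step.D (nat_lit 252) (Step.D (nat_lit 709) (Step.D (nat_lit 1661) Step.done))))) (Scr.cons (nat_lit 6) (nat_lit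 3) (Step.L (Step.L (Step.L (Step.L (Step.L (Step.L (Step.D (nat_lit 70) (Step.D (nat_lit 252) (Step.D (nat_lit 709) (Step.B (nat_lit 496) (Step.D (nat_lit 3311) Step.done))))))))))) (Scr.cons (nat_lit 12) (nat_lit 4) (Step.L (Step.B (nat_lit 495) (Step.F (nat_lit 497) (Step.L (Step.L Step.done))))) (Scr.cons (nat_lit 8) (nat_lit 1) (Step.L (Step.L (Step.L (Step.L (Step.L (Step.L (Step.L (Step.L (Step.L (Step.L (Step.L (Step.L (Step.L (Step.B (nat_lit 236) (Step.D (nat_lit 3335) Step.done))))))))))))))) (Scr.cons (nat_lit 12) (nat_lit 0) (Step.B (nat_lit 499) (Step.U (nat_lit 3335) (Step.F (nat_lit 236) (Step.D (nat_lit 1676) (Step.D (nat_lit 3335) Step.done))))) (Scr.cons (nat_lit 12) (nat_lit 4) (Step.L (Step.B (nat_lit 499) (Step.F (nat_lit 500) (Step.L (Step.L Step.done))))) (Scr.cons (nat_lit 12) (nat_lit 1) (Step.L (Step.L (Step.L (Step.L (Step.D (nat_lit 3348) Step.done))))) (Scr.cons (nat_lit 12) (nat_lit 1) (Step.L (Step.D (nat_lit 3348) (Step.F (nat_lit 502)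 (Step.L (Step.L Step.done))))) (Scr.cons (nat_lit 12) (nat_lit 1) (Step.L (Step.L (Step.L (Step.L (Step.D (nat_lit 3352) Step.done))))) (Scr.cons (nat_lit 12) (nat_lit 1) (Step.L (Step.D (nat_lit 3352) (Step.F (nat_lit 504) (Step.L (Step.L Step.done))))) (Scr.cons (nat_lit 12) (nat_lit 1) (Step.U (nat_lit 69) (Step.L (Step.L (Step.D (nat_lit 69) (Step.D (nat_lit 250) Step.done))))) (Scr.cons (nat_lit 6) (nat_lit 1) (Step.L (Step.L (Step.L (Step.L (Step.L (Step.L (Step.D (nat_lit 69) (Step.B (nat_lit 506) (Step.D (nat_lit 704) (Step.D (nat_lit 1650) (Step.D (nat_lit 3288) Step.done))))))))))) (Scr.cons (nat_lit 12) (nat_lit 4) (Step.U (nat_lit 704) (Step.F (nat_lit 506) (Step.D (nat_lit 250) (Step.D (nat_lit 704) (Step.D (nat_lit 1650) Step.done))))) (Scr.cons (nat_lit 13) (nat_lit 2) (Step.L (Step.L (Step.L (Step.L (Step.L (Step.L (Step.D (nat_lit 69) (Step.D (nat_lit 250) (Step.D (nat_lit 704) (Step.B (nat_lit 508) (Step.D (nat_lit 3288) Step.done))))))))))) (Scr.cons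 (nat_lit 12) (nat_lit 1) (Step.L (Step.B (nat_lit 507) (Step.F (nat_lit 509) (Step.L (Step.L Step.done))))) (Scr.cons (nat_lit 12) (nat_lit 4) (Step.L (Step.L (Step.L (Step.L (Step.D (nat_lit 3405) Step.done))))) (Scr.cons (nat_lit 12) (nat_lit 4) (Step.L (Step.D (nat_lit 3405) (Step.F (nat_lit 511) (Step.L (Step.L Step.done))))) (Scr.cons (nat_lit 11) (nat_lit 0) (Step.U (nat_lit 211) (Step.U (nat_lit 56) (Step.L (Step.L (Step.D (nat_lit 588) Step.done))))) (Scr.cons (nat_lit 12) (nat_lit 1) (Step.U (nat_lit 56) (Step.L (Step.L (Step.D (nat_lit 56) (Step.D (nat_lit 210) Step.done))))) (Scr.cons (nat_lit 12) (nat_lit 1) (Step.U (nat_lit 211) (Step.D (nat_lit 210) (Step.F (nat_lit 514) (Step.D (nat_lit 211) (Step.D (nat_lit 590) Step.done))))) (Scr.cons (nat_lit 12) (nat_lit 1) (Step.F (nat_lit 513) (Step.D (nat_lit 590) (Step.F (nat_lit 515) (Step.B (nat_lit 513) (Step.D (nat_lit 1419) Step.done))))) (Scr.cons (nat_lit 9) (nat_lit 5) (Step.L (Step.L (Step.L (Step.L (Step.L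 (Step.L (Step.L (Step.L (Step.L (Step.L (Step.L (Step.L (Step.L (Step.L (Step.L (Step.L (Step.L (Step.L (Step.D (nat_lit 56) (Step.D (nat_lit 211) (Step.B (nat_lit 513) (Step.B (nat_lit 516) (Step.D (nat_lit 2881) Step.done))))))))))))))))))))))) (Scr.cons (nat_lit 12) (nat_lit 0) (Step.B (nat_lit 517) (Step.U (nat_lit 2881) (Step.F (nat_lit 516) (Step.D (nat_lit 1419) (Step.D (nat_lit 2881) Step.done))))) (Scr.cons (nat_lit 16) (nat_lit 1) (Step.F (nat_lit 518) (Step.L (Step.L (Step.L (Step.L (Step.L (Step.L (Step.L (Step.L (Step.L (Step.L (Step.L (Step.L (Step.L (Step.L (Step.L (Step.L (Step.L (Step.L (Step.L (Step.L (Step.L (Step.L Step.done))))))))))))))))))))))) (Scr.cons (nat_lit 13) (nat_lit 3) (Step.L (Step.L (Step.L (Step.L (Step.B (nat_lit 518) (Step.B (nat_lit 519) (Step.L (Step.L (Step.L (Step.L (Step.L Step.done))))))))))) (Scr.cons (nat_lit 12) (nat_lit 1) (Step.L (Step.L (Step.L (Step.L (Step.D (nat_lit 3437) Step.done))))) (Scr.cons (nat_lit 12) (nat_lit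 1) (Step.L (Step.D (nat_lit 3437) (Step.F (nat_lit 521) (Step.L (Step.L Step.done))))) Scr.nil))))))))))))))))))))))))))))))))))))))))
noncomputable def s13 : Scr := (Scr.cons (nat_lit 12) (nat_lit 1) (Step.L (Step.L (Step.L (Step.L (Step.D (nat_lit 3438) Step.done))))) (Scr.cons (nat_lit 12) (nat_lit 1) (Step.L (Step.D (nat_lit 3438) (Step.F (nat_lit 523) (Step.L (Step.L Step.done))))) (Scr.cons (nat_lit 12) (nat_lit 4) (Step.L (Step.L (Step.L (Step.L (Step.D (nat_lit 3441) Step.done))))) (Scr.cons (nat_lit 12) (nat_lit 4) (Step.L (Step.D (nat_lit 3441) (Step.F (nat_lit 525) (Step.L (Step.L Step.done))))) (Scr.cons (nat_lit 12) (nat_lit 4) (Step.L (Step.L (Step.L (Step.L (Step.D (nat_lit 3442) Step.done))))) (Scr.cons (nat_lit 12) (nat_lit 4) (Step.L (Step.D (nat_lit 3442) (Step.F (nat_lit 527) (Step.L (Step.L Step.done))))) (Scr.cons (nat_lit 4) (nat_lit 0) (Step.L (Step.L (Step.L (Step.L (Step.D (nat_lit 5144) Step.done))))) (Scr.cons (nat_lit 16) (nat_lit 1) (Step.L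 (Step.B (nat_lit 529) (Step.U (nat_lit 5144) (Step.L (Step.L (Step.L (Step.L (Step.L (Step.L (Step.L (Step.L (Step.L (Step.L (Step.L (Step.L (Step.L (Step.L (Step.L (Step.L (Step.L (Step.L (Step.L (Step.L Step.done))))))))))))))))))))))) (Scr.cons (nat_lit 9) (nat_lit 5) (Step.L (Step.L (Step.L (Step.L (Step.L (Step.L (Step.L (Step.L (Step.L (Step.L (Step.L (Step.L (Step.L (Step.L (Step.L (Step.L (Step.L (Step.L (Step.L (Step.L (Step.L (Step.L (Step.D (nat_lit 3466) Step.done))))))))))))))))))))))) (Scr.cons (nat_lit 13) (nat_lit 2) (Step.L (Step.L (Step.L (Step.B (nat_lit 531) (Step.U (nat_lit 3466) (Step.L (Step.L (Step.L (Step.L (Step.L (Step.L Step.done))))))))))) (Scr.cons (nat_lit 12) (nat_lit 4) (Step.L (Step.L (Step.L (Step.L (Step.D (nat_lit 3470) Step.done))))) (Scr.cons (nat_lit 12) (nat_lit 4) (Step.L (Step.D (nat_lit 3470) (Step.F (nat_lit 533) (Step.L (Step.L Step.done))))) (Scr.cons (nat_lit 12) (nat_lit 4) (Step.L (Step.L (Step.L (Step.L (Step.D (nat_lit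 3484) Step.done))))) (Scr.cons (nat_lit 12) (nat_lit 4) (Step.L (Step.D (nat_lit 3484) (Step.F (nat_lit 535) (Step.L (Step.L Step.done))))) (Scr.cons (nat_lit 12) (nat_lit 1) (Step.L (Step.L (Step.L (Step.L (Step.D (nat_lit 3510) Step.done))))) (Scr.cons (nat_lit 12) (nat_lit 1) (Step.L (Step.D (nat_lit 3510) (Step.F (nat_lit 537) (Step.L (Step.L Step.done))))) (Scr.cons (nat_lit 12) (nat_lit 1) (Step.L (Step.L (Step.L (Step.L (Step.D (nat_lit 3522) Step.done))))) (Scr.cons (nat_lit 12) (nat_lit 1) (Step.L (Step.D (nat_lit 3522) (Step.F (nat_lit 539) (Step.L (Step.L Step.done))))) (Scr.cons (nat_lit 13) (nat_lit 0) (Step.L (Step.L (Step.L (Step.L (Step.L (Step.L (Step.L (Step.L (Step.L (Step.L (Step.D (nat_lit 2135) Step.done))))))))))) (Scr.cons (nat_lit 6) (nat_lit 3) (Step.L (Step.L (Step.L (Step.L (Step.L (Step.L (Step.L (Step.L (Step.L (Step.L (Step.D (nat_lit 2135) Step.done))))))))))) (Scr.cons (nat_lit 12) (nat_lit 4) (Step.L (Step.B (nat_lit 541) (Step.F (nat_lit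 542) (Step.L (Step.L Step.done))))) (Scr.cons (nat_lit 6) (nat_lit 1) (Step.L (Step.L (Step.L (Step.L (Step.L (Step.L (Step.L (Step.L (Step.L (Step.D (nat_lit 1804) (Step.D (nat_lit 3517) Step.done))))))))))) (Scr.cons (nat_lit 12) (nat_lit 4) (Step.L (Step.L (Step.L (Step.L (Step.D (nat_lit 1804) Step.done))))) (Scr.cons (nat_lit 13) (nat_lit 2) (Step.L (Step.L (Step.L (Step.L (Step.L (Step.L (Step.L (Step.L (Step.L (Step.B (nat_lit 545) (Step.D (nat_lit 3517) Step.done))))))))))) (Scr.cons (nat_lit 12) (nat_lit 1) (Step.L (Step.B (nat_lit 544) (Step.F (nat_lit 546) (Step.L (Step.L Step.done))))) (Scr.cons (nat_lit 12) (nat_lit 1) (Step.L (Step.L (Step.L (Step.L (Step.D (nat_lit 3536) Step.done))))) (Scr.cons (nat_lit 12) (nat_lit 1) (Step.L (Step.D (nat_lit 3536) (Step.F (nat_lit 548) (Step.L (Step.L Step.done))))) (Scr.cons (nat_lit 11) (nat_lit 0) (Step.U (nat_lit 1107) (Step.L (Step.L (Step.L (Step.D (nat_lit 2324) Step.done))))) (Scr.cons (nat_lit 16) (nat_lit 2)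 (Step.F (nat_lit 550) (Step.U (nat_lit 1107) (Step.L (Step.L (Step.L (Step.L (Step.L (Step.L (Step.L (Step.L (Step.L (Step.L (Step.L (Step.L (Step.L (Step.L (Step.L (Step.L (Step.L (Step.L (Step.L (Step.L (Step.D (nat_lit 3547) Step.done))))))))))))))))))))))) (Scr.cons (nat_lit 13) (nat_lit 0) (Step.L (Step.L (Step.D (nat_lit 2324) (Step.B (nat_lit 551) (Step.U (nat_lit 3547) (Step.L (Step.L (Step.L (Step.L (Step.L (Step.L Step.done))))))))))) (Scr.cons (nat_lit 12) (nat_lit 1) (Step.L (Step.L (Step.L (Step.L (Step.D (nat_lit 3551) Step.done))))) (Scr.cons (nat_lit 12) (nat_lit 1) (Step.L (Step.D (nat_lit 3551) (Step.F (nat_lit 553) (Step.L (Step.L Step.done))))) (Scr.cons (nat_lit 7) (nat_lit 2) (Step.L (Step.L (Step.L (Step.L (Step.L (Step.L (Step.L (Step.L (Step.L (Step.L (Step.L (Step.L (Step.L (Step.L (Step.L (Step.L (Step.L (Step.L (Step.L (Step.D (nat_lit 6222) Step.done)))))))))))))))))))) (Scr.cons (nat_lit 11) (nat_lit 0) (Step.B (nat_lit 555) (Step.U (nat_lit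 6222) (Step.L (Step.L (Step.L Step.done))))) (Scr.cons (nat_lit 12) (nat_lit 1) (Step.L (Step.L (Step.L (Step.L (Step.D (nat_lit 3603) Step.done))))) (Scr.cons (nat_lit 12) (nat_lit 1) (Step.L (Step.D (nat_lit 3603) (Step.F (nat_lit 557) (Step.L (Step.L Step.done))))) (Scr.cons (nat_lit 12) (nat_lit 4) (Step.L (Step.L (Step.L (Step.L (Step.D (nat_lit 3606) Step.done))))) (Scr.cons (nat_lit 12) (nat_lit 4) (Step.L (Step.D (nat_lit 3606) (Step.F (nat_lit 559) (Step.L (Step.L Step.done))))) (Scr.cons (nat_lit 15) (nat_lit 1) (Step.L (Step.L (Step.L (Step.L (Step.L (Step.L (Step.D (nat_lit 342) (Step.B (nat_lit 86) (Step.L (Step.L (Step.L (Step.L (Step.L (Step.L (Step.L Step.done))))))))))))))) (Scr.cons (nat_lit 12) (nat_lit 4) (Step.L (Step.L (Step.L (Step.L (Step.D (nat_lit 3656) Step.done))))) Scr.nil))))))))))))))))))))))))))))))))))))))))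
noncomputable def s14 : Scr := (Scr.cons (nat_lit 12) (nat_lit 4) (Step.L (Step.D (nat_lit 3656) (Step.F (nat_lit 562) (Step.L (Step.L Step.done))))) (Scr.cons (nat_lit 11) (nat_lit 0) (Step.U (nat_lit 76) (Step.L (Step.L (Step.L (Step.D (nat_lit 246) Step.done))))) (Scr.cons (nat_lit 16) (nat_lit 5) (Step.L (Step.L (Step.L (Step.L (Step.L (Step.L (Step.L (Step.L (Step.L (Step.D (nat_lit 246) (Step.F (nat_lit 564) (Step.U (nat_lit 76) (Step.L (Step.L (Step.L (Step.L (Step.L (Step.L (Step.L (Step.L (Step.L (Step.L (Step.L Step.done))))))))))))))))))))))) (Scr.cons (nat_lit 12) (nat_lit 4) (Step.U (nat_lit 87) (Step.L (Step.L (Step.D (nat_lit 87) (Step.D (nat_lit 287) Step.done))))) (Scr.cons (nat_lit 13) (nat_lit 0) (Step.L (Step.L (Step.L (Step.L (Step.L (Step.L (Step.D (nat_lit 87) (Step.B (nat_lit 566) (Step.D (nat_lit 788) (Step.D (nat_lit 1768) (Step.D (nat_lit 3469) Step.done))))))))))) (Scr.cons (nat_lit 12) (nat_lit 1) (Step.U (nat_lit 788) (Step.F (nat_lit 566)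 (Step.D (nat_lit 287) (Step.D (nat_lit 788) (Step.D (nat_lit 1768) Step.done))))) (Scr.cons (nat_lit 6) (nat_lit 3) (Step.L (Step.L (Step.L (Step.L (Step.L (Step.L (Step.D (nat_lit 87) (Step.D (nat_lit 287) (Step.D (nat_lit 788) (Step.B (nat_lit 568) (Step.D (nat_lit 3469) Step.done))))))))))) (Scr.cons (nat_lit 12) (nat_lit 4) (Step.L (Step.B (nat_lit 567) (Step.F (nat_lit 569) (Step.L (Step.L Step.done))))) (Scr.cons (nat_lit 12) (nat_lit 4) (Step.L (Step.L (Step.L (Step.L (Step.D (nat_lit 3680) Step.done))))) (Scr.cons (nat_lit 12) (nat_lit 4) (Step.L (Step.D (nat_lit 3680) (Step.F (nat_lit 571) (Step.L (Step.L Step.done))))) (Scr.cons (nat_lit 12) (nat_lit 4) (Step.L (Step.L (Step.L (Step.L (Step.D (nat_lit 3685) Step.done))))) (Scr.cons (nat_lit 12) (nat_lit 4) (Step.L (Step.D (nat_lit 3685) (Step.F (nat_lit 573) (Step.L (Step.L Step.done))))) (Scr.cons (nat_lit 12) (nat_lit 4) (Step.L (Step.L (Step.L (Step.L (Step.D (nat_lit 3689) Step.done))))) (Scr.cons (nat_lit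 12) (nat_lit 4) (Step.L (Step.D (nat_lit 3689) (Step.F (nat_lit 575) (Step.L (Step.L Step.done))))) (Scr.cons (nat_lit 12) (nat_lit 4) (Step.L (Step.L (Step.L (Step.L (Step.D (nat_lit 3698) Step.done))))) (Scr.cons (nat_lit 12) (nat_lit 4) (Step.L (Step.D (nat_lit 3698) (Step.F (nat_lit 577) (Step.L (Step.L Step.done))))) (Scr.cons (nat_lit 12) (nat_lit 1) (Step.L (Step.L (Step.L (Step.L (Step.D (nat_lit 3699) Step.done))))) (Scr.cons (nat_lit 12) (nat_lit 1) (Step.L (Step.D (nat_lit 3699) (Step.F (nat_lit 579) (Step.L (Step.L Step.done))))) (Scr.cons (nat_lit 12) (nat_lit 4) (Step.L (Step.L (Step.L (Step.L (Step.D (nat_lit 3711) Step.done))))) (Scr.cons (nat_lit 12) (nat_lit 4) (Step.L (Step.D (nat_lit 3711) (Step.F (nat_lit 581) (Step.L (Step.L Step.done))))) (Scr.cons (nat_lit 12) (nat_lit 4) (Step.L (Step.L (Step.L (Step.L (Step.D (nat_lit 3802) Step.done))))) (Scr.cons (nat_lit 12) (nat_lit 4) (Step.L (Step.D (nat_lit 3802) (Step.F (nat_lit 583) (Step.L (Step.L Step.done)))))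 (Scr.cons (nat_lit 7) (nat_lit 0) (Step.U (nat_lit 6507) (Step.L (Step.L (Step.L (Step.L (Step.L (Step.L (Step.L (Step.L (Step.L (Step.L (Step.L (Step.L (Step.L (Step.L (Step.L (Step.L (Step.L (Step.L (Step.L Step.done)))))))))))))))))))) (Scr.cons (nat_lit 4) (nat_lit 0) (Step.F (nat_lit 585) (Step.U (nat_lit 6507) (Step.L (Step.L (Step.L Step.done))))) (Scr.cons (nat_lit 12) (nat_lit 4) (Step.L (Step.L (Step.L (Step.L (Step.D (nat_lit 3820) Step.done))))) (Scr.cons (nat_lit 12) (nat_lit 4) (Step.L (Step.D (nat_lit 3820) (Step.F (nat_lit 587) (Step.L (Step.L Step.done))))) (Scr.cons (nat_lit 12) (nat_lit 1) (Step.L (Step.L (Step.L (Step.L (Step.D (nat_lit 3826) Step.done))))) (Scr.cons (nat_lit 12) (nat_lit 1) (Step.L (Step.D (nat_lit 3826) (Step.F (nat_lit 589) (Step.L (Step.L Step.done))))) (Scr.cons (nat_lit 12) (nat_lit 4) (Step.L (Step.L (Step.L (Step.L (Step.D (nat_lit 3834) Step.done))))) (Scr.cons (nat_lit 12) (nat_lit 4) (Step.L (Step.D (nat_lit 3834) (Step.F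 (nat_lit 591) (Step.L (Step.L Step.done))))) (Scr.cons (nat_lit 12) (nat_lit 1) (Step.U (nat_lit 881) (Step.L (Step.L (Step.D (nat_lit 881) (Step.D (nat_lit 1909) Step.done))))) (Scr.cons (nat_lit 15) (nat_lit 1) (Step.L (Step.L (Step.L (Step.F (nat_lit 254) (Step.F (nat_lit 593) (Step.U (nat_lit 881) (Step.L (Step.L (Step.L (Step.L (Step.L (Step.L (Step.L (Step.L (Step.L Step.done))))))))))))))) (Scr.cons (nat_lit 15) (nat_lit 0) (Step.L (Step.L (Step.L (Step.L (Step.L (Step.L (Step.L (Step.L (Step.L (Step.L (Step.L (Step.L (Step.L (Step.L (Step.D (nat_lit 3776) Step.done))))))))))))))) (Scr.cons (nat_lit 12) (nat_lit 4) (Step.U (nat_lit 3776) (Step.L (Step.L (Step.D (nat_lit 3776) (Step.F (nat_lit 595) Step.done))))) (Scr.cons (nat_lit 12) (nat_lit 1) (Step.L (Step.F (nat_lit 596) (Step.F (nat_lit 595) (Step.L (Step.L Step.done))))) (Scr.cons (nat_lit 12) (nat_lit 1) (Step.L (Step.L (Step.L (Step.L (Step.D (nat_lit 344) Step.done))))) (Scr.cons (nat_lit 12) (nat_lit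 1) (Step.U (nat_lit 927) (Step.F (nat_lit 598) (Step.D (nat_lit 344) (Step.D (nat_lit 927) (Step.D (nat_lit 2000) Step.done))))) (Scr.cons (nat_lit 8) (nat_lit 1) (Step.L (Step.L (Step.L (Step.L (Step.L (Step.L (Step.L (Step.L (Step.L (Step.L (Step.L (Step.B (nat_lit 598) (Step.D (nat_lit 927) (Step.B (nat_lit 599) (Step.D (nat_lit 3850) Step.done))))))))))))))) (Scr.cons (nat_lit 12) (nat_lit 0) (Step.B (nat_lit 600) (Step.U (nat_lit 3850) (Step.F (nat_lit 599) (Step.D (nat_lit 2000) (Step.D (nat_lit 3850) Step.done))))) (Scr.cons (nat_lit 12) (nat_lit 4) (Step.L (Step.B (nat_lit 600) (Step.F (nat_lit 601) (Step.L (Step.L Step.done))))) Scr.nil))))))))))))))))))))))))))))))))))))))))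
noncomputable def s15 : Scr := (Scr.cons (nat_lit 12) (nat_lit 1) (Step.L (Step.L (Step.L (Step.L (Step.D (nat_lit 3872) Step.done))))) (Scr.cons (nat_lit 12) (nat_lit 1) (Step.L (Step.D (nat_lit 3872) (Step.F (nat_lit 603) (Step.L (Step.L Step.done))))) (Scr.cons (nat_lit 12) (nat_lit 1) (Step.L (Step.L (Step.L (Step.L (Step.D (nat_lit 3900) Step.done))))) (Scr.cons (nat_lit 12) (nat_lit 1) (Step.L (Step.D (nat_lit 3900) (Step.F (nat_lit 605) (Step.L (Step.L Step.done))))) (Scr.cons (nat_lit 11) (nat_lit 0) (Step.U (nat_lit 837) (Step.L (Step.L (Step.L (Step.D (nat_lit 1839) Step.done))))) (Scr.cons (nat_lit 12) (nat_lit 1) (Step.U (nat_lit 837) (Step.L (Step.L (Step.D (nat_lit 837) (Step.D (nat_lit 1840) Step.done))))) (Scr.cons (nat_lit 12) (nat_lit 1) (Step.F (nat_lit 607) (Step.D (nat_lit 1840) (Step.F (nat_lit 608) (Step.B (nat_lit 607) (Step.D (nat_lit 3586) Step.done))))) (Scr.cons (nat_lit 11) (nat_lit 0) (Step.L (Step.L (Step.D (nat_lit 113) (Step.D (nat_lit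 351) (Step.D (nat_lit 939) Step.done))))) (Scr.cons (nat_lit 12) (nat_lit 1) (Step.F (nat_lit 610) (Step.L (Step.L (Step.B (nat_lit 610) (Step.D (nat_lit 2023) Step.done))))) (Scr.cons (nat_lit 14) (nat_lit 2) (Step.F (nat_lit 609) (Step.F (nat_lit 607) (Step.U (nat_lit 837) (Step.L (Step.L (Step.L (Step.L (Step.L (Step.L (Step.L (Step.L (Step.L (Step.L (Step.L (Step.L (Step.D (nat_lit 113) (Step.D (nat_lit 351) (Step.D (nat_lit 939) (Step.B (nat_lit 611) (Step.D (nat_lit 3890) Step.done)))))))))))))))))))) (Scr.cons (nat_lit 16) (nat_lit 2) (Step.L (Step.L (Step.L (Step.L (Step.L (Step.L (Step.L (Step.L (Step.L (Step.L (Step.L (Step.L (Step.L (Step.L (Step.L (Step.L (Step.L (Step.L (Step.D (nat_lit 113) (Step.D (nat_lit 351) (Step.D (nat_lit 939) (Step.D (nat_lit 2023) (Step.D (nat_lit 3890) Step.done))))))))))))))))))))))) (Scr.cons (nat_lit 13) (nat_lit 3) (Step.L (Step.L (Step.L (Step.D (nat_lit 1839) (Step.B (nat_lit 609) (Step.B (nat_lit 612) (Step.F (nat_lit 613)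 (Step.L (Step.L (Step.L (Step.L Step.done))))))))))) (Scr.cons (nat_lit 12) (nat_lit 4) (Step.L (Step.L (Step.L (Step.L (Step.D (nat_lit 3949) Step.done))))) (Scr.cons (nat_lit 12) (nat_lit 4) (Step.L (Step.D (nat_lit 3949) (Step.F (nat_lit 615) (Step.L (Step.L Step.done))))) (Scr.cons (nat_lit 12) (nat_lit 1) (Step.L (Step.L (Step.L (Step.L (Step.D (nat_lit 3951) Step.done))))) (Scr.cons (nat_lit 12) (nat_lit 1) (Step.L (Step.D (nat_lit 3951) (Step.F (nat_lit 617) (Step.L (Step.L Step.done))))) (Scr.cons (nat_lit 12) (nat_lit 1) (Step.L (Step.L (Step.L (Step.L (Step.D (nat_lit 3960) Step.done))))) (Scr.cons (nat_lit 12) (nat_lit 1) (Step.L (Step.D (nat_lit 3960) (Step.F (nat_lit 619) (Step.L (Step.L Step.done))))) (Scr.cons (nat_lit 12) (nat_lit 1) (Step.L (Step.L (Step.L (Step.L (Step.D (nat_lit 3994) Step.done))))) (Scr.cons (nat_lit 12) (nat_lit 1) (Step.L (Step.D (nat_lit 3994) (Step.F (nat_lit 621) (Step.L (Step.L Step.done))))) (Scr.cons (nat_lit 12) (nat_lit 4)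 (Step.L (Step.L (Step.L (Step.L (Step.D (nat_lit 4005) Step.done))))) (Scr.cons (nat_lit 12) (nat_lit 4) (Step.L (Step.D (nat_lit 4005) (Step.F (nat_lit 623) (Step.L (Step.L Step.done))))) (Scr.cons (nat_lit 12) (nat_lit 1) (Step.L (Step.L (Step.L (Step.L (Step.D (nat_lit 4016) Step.done))))) (Scr.cons (nat_lit 12) (nat_lit 1) (Step.L (Step.D (nat_lit 4016) (Step.F (nat_lit 625) (Step.L (Step.L Step.done))))) (Scr.cons (nat_lit 12) (nat_lit 1) (Step.L (Step.L (Step.L (Step.L (Step.D (nat_lit 4030) Step.done))))) (Scr.cons (nat_lit 12) (nat_lit 1) (Step.L (Step.D (nat_lit 4030) (Step.F (nat_lit 627) (Step.L (Step.L Step.done))))) (Scr.cons (nat_lit 12) (nat_lit 4) (Step.L (Step.L (Step.L (Step.L (Step.D (nat_lit 4109) Step.done))))) (Scr.cons (nat_lit 12) (nat_lit 4) (Step.L (Step.D (nat_lit 4109) (Step.F (nat_lit 629) (Step.L (Step.L Step.done))))) (Scr.cons (nat_lit 12) (nat_lit 1) (Step.L (Step.L (Step.L (Step.L (Step.D (nat_lit 4110) Step.done))))) (Scr.cons (nat_lit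 12) (nat_lit 1) (Step.L (Step.D (nat_lit 4110) (Step.F (nat_lit 631) (Step.L (Step.L Step.done))))) (Scr.cons (nat_lit 11) (nat_lit 0) (Step.F (nat_lit 229) (Step.U (nat_lit 1574) (Step.L (Step.L (Step.D (nat_lit 1573) Step.done))))) (Scr.cons (nat_lit 12) (nat_lit 1) (Step.F (nat_lit 633) (Step.F (nat_lit 228) (Step.D (nat_lit 2576) (Step.B (nat_lit 633) (Step.D (nat_lit 3134) Step.done))))) (Scr.cons (nat_lit 14) (nat_lit 4) (Step.L (Step.L (Step.L (Step.L (Step.L (Step.L (Step.L (Step.L (Step.L (Step.L (Step.L (Step.L (Step.L (Step.L (Step.L (Step.L (Step.L (Step.L (Step.D (nat_lit 1573) (Step.D (nat_lit 3134) Step.done)))))))))))))))))))) (Scr.cons (nat_lit 11) (nat_lit 0) (Step.F (nat_lit 635) (Step.L (Step.L (Step.L (Step.L Step.done))))) (Scr.cons (nat_lit 13) (nat_lit 3) (Step.L (Step.L (Step.L (Step.D (nat_lit 1573) (Step.B (nat_lit 634) (Step.B (nat_lit 636) (Step.L (Step.L (Step.L (Step.L (Step.L Step.done))))))))))) (Scr.cons (nat_lit 12) (nat_lit 1) (Step.L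 (Step.L (Step.L (Step.L (Step.D (nat_lit 4156) Step.done))))) (Scr.cons (nat_lit 12) (nat_lit 1) (Step.L (Step.D (nat_lit 4156) (Step.F (nat_lit 638) (Step.L (Step.L Step.done))))) (Scr.cons (nat_lit 6) (nat_lit 1) (Step.L (Step.L (Step.L (Step.L (Step.L (Step.L (Step.L (Step.L (Step.L (Step.L (Step.D (nat_lit 4168) Step.done))))))))))) (Scr.cons (nat_lit 13) (nat_lit 2) (Step.L (Step.L (Step.L (Step.L (Step.L (Step.L (Step.L (Step.L (Step.L (Step.L (Step.D (nat_lit 4168) Step.done))))))))))) (Scr.cons (nat_lit 12) (nat_lit 1) (Step.L (Step.B (nat_lit 640) (Step.F (nat_lit 641) (Step.L (Step.L Step.done))))) Scr.nil))))))))))))))))))))))))))))))))))))))))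
noncomputable def s16 : Scr := (Scr.cons (nat_lit 12) (nat_lit 1) (Step.L (Step.L (Step.L (Step.L (Step.D (nat_lit 4226) Step.done))))) (Scr.cons (nat_lit 12) (nat_lit 1) (Step.L (Step.D (nat_lit 4226) (Step.F (nat_lit 643) (Step.L (Step.L Step.done))))) (Scr.cons (nat_lit 12) (nat_lit 1) (Step.L (Step.L (Step.L (Step.L (Step.D (nat_lit 4231) Step.done))))) (Scr.cons (nat_lit 12) (nat_lit 1) (Step.L (Step.D (nat_lit 4231) (Step.F (nat_lit 645) (Step.L (Step.L Step.done))))) (Scr.cons (nat_lit 12) (nat_lit 1) (Step.L (Step.L (Step.L (Step.L (Step.D (nat_lit 4234) Step.done))))) (Scr.cons (nat_lit 12) (nat_lit 1) (Step.L (Step.D (nat_lit 4234) (Step.F (nat_lit 647) (Step.L (Step.L Step.done))))) (Scr.cons (nat_lit 12) (nat_lit 1) (Step.L (Step.L (Step.L (Step.L (Step.D (nat_lit 4249) Step.done))))) (Scr.cons (nat_lit 12) (nat_lit 1) (Step.L (Step.D (nat_lit 4249) (Step.F (nat_lit 649) (Step.L (Step.L Step.done))))) (Scr.cons (nat_lit 8) (nat_lit 1) (Step.L (Step.L (Step.L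 (Step.L (Step.L (Step.L (Step.L (Step.L (Step.L (Step.L (Step.L (Step.L (Step.L (Step.B (nat_lit 309) (Step.D (nat_lit 4255) Step.done))))))))))))))) (Scr.cons (nat_lit 12) (nat_lit 0) (Step.B (nat_lit 651) (Step.U (nat_lit 4255) (Step.F (nat_lit 309) (Step.D (nat_lit 2256) (Step.D (nat_lit 4255) Step.done))))) (Scr.cons (nat_lit 12) (nat_lit 4) (Step.L (Step.B (nat_lit 651) (Step.F (nat_lit 652) (Step.L (Step.L Step.done))))) (Scr.cons (nat_lit 12) (nat_lit 1) (Step.L (Step.L (Step.L (Step.L (Step.D (nat_lit 4261) Step.done))))) (Scr.cons (nat_lit 12) (nat_lit 1) (Step.L (Step.D (nat_lit 4261) (Step.F (nat_lit 654) (Step.L (Step.L Step.done))))) (Scr.cons (nat_lit 12) (nat_lit 1) (Step.L (Step.L (Step.L (Step.L (Step.D (nat_lit 4285) Step.done))))) (Scr.cons (nat_lit 12) (nat_lit 1) (Step.L (Step.D (nat_lit 4285) (Step.F (nat_lit 656) (Step.L (Step.L Step.done))))) (Scr.cons (nat_lit 16) (nat_lit 5) (Step.L (Step.L (Step.L (Step.L (Step.L (Step.L (Step.L (Step.L (Step.L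 (Step.L (Step.L (Step.L (Step.L (Step.L (Step.L (Step.L (Step.L (Step.L (Step.L (Step.L (Step.L (Step.L (Step.D (nat_lit 7200) Step.done))))))))))))))))))))))) (Scr.cons (nat_lit 4) (nat_lit 0) (Step.B (nat_lit 658) (Step.U (nat_lit 7200) (Step.L (Step.L (Step.L Step.done))))) (Scr.cons (nat_lit 12) (nat_lit 4) (Step.L (Step.L (Step.L (Step.L (Step.D (nat_lit 4307) Step.done))))) (Scr.cons (nat_lit 12) (nat_lit 4) (Step.L (Step.D (nat_lit 4307) (Step.F (nat_lit 660) (Step.L (Step.L Step.done))))) (Scr.cons (nat_lit 12) (nat_lit 4) (Step.L (Step.L (Step.L (Step.L (Step.D (nat_lit 4336) Step.done))))) (Scr.cons (nat_lit 12) (nat_lit 4) (Step.L (Step.D (nat_lit 4336) (Step.F (nat_lit 662) (Step.L (Step.L Step.done))))) (Scr.cons (nat_lit 14) (nat_lit 4) (Step.U (nat_lit 4344) (Step.L (Step.L (Step.L (Step.L (Step.L (Step.L (Step.L (Step.L (Step.L (Step.L (Step.L (Step.L (Step.L (Step.L (Step.L (Step.L (Step.L (Step.D (nat_lit 2339) (Step.D (nat_lit 4366) Step.done))))))))))))))))))))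 (Scr.cons (nat_lit 11) (nat_lit 0) (Step.F (nat_lit 664) (Step.U (nat_lit 4344) (Step.L (Step.L (Step.L Step.done))))) (Scr.cons (nat_lit 12) (nat_lit 4) (Step.U (nat_lit 2339) (Step.L (Step.L (Step.D (nat_lit 2339) (Step.D (nat_lit 4366) Step.done))))) (Scr.cons (nat_lit 12) (nat_lit 1) (Step.F (nat_lit 665) (Step.F (nat_lit 666) (Step.D (nat_lit 4366) (Step.B (nat_lit 665) (Step.L Step.done))))) (Scr.cons (nat_lit 12) (nat_lit 4) (Step.L (Step.L (Step.L (Step.L (Step.D (nat_lit 4345) Step.done))))) (Scr.cons (nat_lit 12) (nat_lit 4) (Step.L (Step.D (nat_lit 4345) (Step.F (nat_lit 668) (Step.L (Step.L Step.done))))) (Scr.cons (nat_lit 12) (nat_lit 4) (Step.L (Step.L (Step.L (Step.L (Step.D (nat_lit 4348) Step.done))))) (Scr.cons (nat_lit 12) (nat_lit 4) (Step.L (Step.D (nat_lit 4348) (Step.F (nat_lit 670) (Step.L (Step.L Step.done))))) (Scr.cons (nat_lit 12) (nat_lit 1) (Step.L (Step.L (Step.L (Step.L (Step.D (nat_lit 4393) Step.done))))) (Scr.cons (nat_lit 12) (nat_lit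 1) (Step.L (Step.D (nat_lit 4393) (Step.F (nat_lit 672) (Step.L (Step.L Step.done))))) (Scr.cons (nat_lit 12) (nat_lit 4) (Step.U (nat_lit 152) (Step.L (Step.L (Step.D (nat_lit 152) (Step.D (nat_lit 441) Step.done))))) (Scr.cons (nat_lit 13) (nat_lit 0) (Step.L (Step.L (Step.L (Step.L (Step.L (Step.L (Step.D (nat_lit 152) (Step.B (nat_lit 674) (Step.D (nat_lit 1127) (Step.D (nat_lit 2361) (Step.D (nat_lit 4396) Step.done))))))))))) (Scr.cons (nat_lit 12) (nat_lit 1) (Step.U (nat_lit 1127) (Step.F (nat_lit 674) (Step.D (nat_lit 441) (Step.D (nat_lit 1127) (Step.D (nat_lit 2361) Step.done))))) (Scr.cons (nat_lit 6) (nat_lit 3) (Step.L (Step.L (Step.L (Step.L (Step.L (Step.L (Step.D (nat_lit 152) (Step.D (nat_lit 441) (Step.D (nat_lit 1127) (Step.B (nat_lit 676) (Step.D (nat_lit 4396) Step.done))))))))))) (Scr.cons (nat_lit 12) (nat_lit 4) (Step.L (Step.B (nat_lit 675) (Step.F (nat_lit 677) (Step.L (Step.L Step.done))))) (Scr.cons (nat_lit 12) (nat_lit 4) (Step.L (Step.L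 (Step.L (Step.L (Step.D (nat_lit 4407) Step.done))))) (Scr.cons (nat_lit 12) (nat_lit 4) (Step.L (Step.D (nat_lit 4407) (Step.F (nat_lit 679) (Step.L (Step.L Step.done))))) (Scr.cons (nat_lit 12) (nat_lit 1) (Step.L (Step.L (Step.L (Step.L (Step.D (nat_lit 4408) Step.done))))) (Scr.cons (nat_lit 12) (nat_lit 1) (Step.L (Step.D (nat_lit 4408) (Step.F (nat_lit 681) (Step.L (Step.L Step.done))))) Scr.nil))))))))))))))))))))))))))))))))))))))))
noncomputable def s17 : Scr := (Scr.cons (nat_lit 12) (nat_lit 4) (Step.L (Step.L (Step.L (Step.L (Step.D (nat_lit 4422) Step.done))))) (Scr.cons (nat_lit 12) (nat_lit 4) (Step.L (Step.D (nat_lit 4422) (Step.F (nat_lit 683) (Step.L (Step.L Step.done))))) (Scr.cons (nat_lit 12) (nat_lit 4) (Step.L (Step.L (Step.L (Step.L (Step.D (nat_lit 4423) Step.done))))) (Scr.cons (nat_lit 12) (nat_lit 4) (Step.L (Step.D (nat_lit 4423) (Step.F (nat_lit 685) (Step.L (Step.L Step.done))))) (Scr.cons (nat_lit 12) (nat_lit 1) (Step.L (Step.L (Step.L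 (Step.L (Step.D (nat_lit 4427) Step.done))))) (Scr.cons (nat_lit 12) (nat_lit 1) (Step.L (Step.D (nat_lit 4427) (Step.F (nat_lit 687) (Step.L (Step.L Step.done))))) (Scr.cons (nat_lit 12) (nat_lit 4) (Step.L (Step.L (Step.L (Step.L (Step.D (nat_lit 4482) Step.done))))) (Scr.cons (nat_lit 12) (nat_lit 4) (Step.L (Step.D (nat_lit 4482) (Step.F (nat_lit 689) (Step.L (Step.L Step.done))))) (Scr.cons (nat_lit 12) (nat_lit 1) (Step.L (Step.L (Step.L (Step.L (Step.D (nat_lit 4520) Step.done))))) (Scr.cons (nat_lit 12) (nat_lit 1) (Step.L (Step.D (nat_lit 4520) (Step.F (nat_lit 691) (Step.L (Step.L Step.done))))) (Scr.cons (nat_lit 12) (nat_lit 4) (Step.L (Step.L (Step.L (Step.L (Step.D (nat_lit 4546) Step.done))))) (Scr.cons (nat_lit 12) (nat_lit 4) (Step.L (Step.D (nat_lit 4546) (Step.F (nat_lit 693) (Step.L (Step.L Step.done))))) (Scr.cons (nat_lit 12) (nat_lit 1) (Step.L (Step.L (Step.L (Step.L (Step.D (nat_lit 4566) Step.done))))) (Scr.cons (nat_lit 12) (nat_lit 1) (Step.L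 (Step.D (nat_lit 4566) (Step.F (nat_lit 695) (Step.L (Step.L Step.done))))) (Scr.cons (nat_lit 12) (nat_lit 4) (Step.L (Step.L (Step.L (Step.L (Step.D (nat_lit 4577) Step.done))))) (Scr.cons (nat_lit 12) (nat_lit 4) (Step.L (Step.D (nat_lit 4577) (Step.F (nat_lit 697) (Step.L (Step.L Step.done))))) (Scr.cons (nat_lit 12) (nat_lit 1) (Step.L (Step.L (Step.L (Step.L (Step.D (nat_lit 4586) Step.done))))) (Scr.cons (nat_lit 12) (nat_lit 1) (Step.L (Step.D (nat_lit 4586) (Step.F (nat_lit 699) (Step.L (Step.L Step.done))))) (Scr.cons (nat_lit 12) (nat_lit 4) (Step.L (Step.L (Step.L (Step.L (Step.D (nat_lit 4633) Step.done))))) (Scr.cons (nat_lit 12) (nat_lit 4) (Step.L (Step.D (nat_lit 4633) (Step.F (nat_lit 701) (Step.L (Step.L Step.done))))) (Scr.cons (nat_lit 12) (nat_lit 1) (Step.L (Step.L (Step.L (Step.L (Step.D (nat_lit 4655) Step.done))))) (Scr.cons (nat_lit 12) (nat_lit 1) (Step.L (Step.D (nat_lit 4655) (Step.F (nat_lit 703) (Step.L (Step.L Step.done))))) (Scr.cons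 (nat_lit 12) (nat_lit 4) (Step.L (Step.L (Step.L (Step.L (Step.D (nat_lit 4668) Step.done))))) (Scr.cons (nat_lit 12) (nat_lit 4) (Step.L (Step.D (nat_lit 4668) (Step.F (nat_lit 705) (Step.L (Step.L Step.done))))) (Scr.cons (nat_lit 16) (nat_lit 4) (Step.L (Step.L (Step.L (Step.L (Step.L (Step.L (Step.L (Step.L (Step.L (Step.L (Step.L (Step.L (Step.L (Step.L (Step.L (Step.L (Step.L (Step.L (Step.L (Step.L (Step.L (Step.L (Step.D (nat_lit 7626) Step.done))))))))))))))))))))))) (Scr.cons (nat_lit 4) (nat_lit 0) (Step.L (Step.L (Step.B (nat_lit 707) (Step.U (nat_lit 7626) (Step.L Step.done))))) (Scr.cons (nat_lit 12) (nat_lit 1) (Step.L (Step.L (Step.L (Step.L (Step.D (nat_lit 4678) Step.done))))) (Scr.cons (nat_lit 12) (nat_lit 1) (Step.L (Step.D (nat_lit 4678) (Step.F (nat_lit 709) (Step.L (Step.L Step.done))))) (Scr.cons (nat_lit 12) (nat_lit 4) (Step.L (Step.L (Step.L (Step.L (Step.D (nat_lit 490) Step.done))))) (Scr.cons (nat_lit 12) (nat_lit 4) (Step.U (nat_lit 1230)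 (Step.F (nat_lit 711) (Step.D (nat_lit 490) (Step.D (nat_lit 1230) (Step.D (nat_lit 2540) Step.done))))) (Scr.cons (nat_lit 15) (nat_lit 0) (Step.L (Step.L (Step.L (Step.L (Step.L (Step.L (Step.L (Step.L (Step.L (Step.L (Step.L (Step.D (nat_lit 490) (Step.D (nat_lit 1230) (Step.D (nat_lit 2540) (Step.D (nat_lit 4684) Step.done))))))))))))))) (Scr.cons (nat_lit 12) (nat_lit 4) (Step.U (nat_lit 4684) (Step.F (nat_lit 712) (Step.D (nat_lit 2540) (Step.D (nat_lit 4684) (Step.F (nat_lit 713) Step.done))))) (Scr.cons (nat_lit 12) (nat_lit 1) (Step.L (Step.F (nat_lit 714) (Step.F (nat_lit 713) (Step.L (Step.L Step.done))))) (Scr.cons (nat_lit 12) (nat_lit 4) (Step.L (Step.L (Step.L (Step.L (Step.D (nat_lit 4720) Step.done))))) (Scr.cons (nat_lit 12) (nat_lit 4) (Step.L (Step.D (nat_lit 4720) (Step.F (nat_lit 716) (Step.L (Step.L Step.done))))) (Scr.cons (nat_lit 12) (nat_lit 4) (Step.L (Step.L (Step.L (Step.L (Step.D (nat_lit 4737) Step.done))))) (Scr.cons (nat_lit 12) (nat_lit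 4) (Step.L (Step.D (nat_lit 4737) (Step.F (nat_lit 718) (Step.L (Step.L Step.done))))) (Scr.cons (nat_lit 12) (nat_lit 1) (Step.L (Step.L (Step.L (Step.L (Step.D (nat_lit 4755) Step.done))))) (Scr.cons (nat_lit 12) (nat_lit 1) (Step.L (Step.D (nat_lit 4755) (Step.F (nat_lit 720) (Step.L (Step.L Step.done))))) (Scr.cons (nat_lit 12) (nat_lit 4) (Step.L (Step.L (Step.L (Step.L (Step.D (nat_lit 4762) Step.done))))) Scr.nil))))))))))))))))))))))))))))))))))))))))
noncomputable def s18 : Scr := (Scr.cons (nat_lit 12) (nat_lit 4) (Step.L (Step.D (nat_lit 4762) (Step.F (nat_lit 722) (Step.L (Step.L Step.done))))) (Scr.cons (nat_lit 13) (nat_lit 0) (Step.L (Step.L (Step.L (Step.L (Step.L (Step.L (Step.L (Step.L (Step.L (Step.L (Step.D (nat_lit 4764) Step.done))))))))))) (Scr.cons (nat_lit 6) (nat_lit 3) (Step.L (Step.L (Step.L (Step.L (Step.L (Step.L (Step.L (Step.L (Step.L (Step.L (Step.D (nat_lit 4764) Step.done))))))))))) (Scr.cons (nat_lit 12) (nat_lit 4) (Step.L (Step.B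 (nat_lit 724) (Step.F (nat_lit 725) (Step.L (Step.L Step.done))))) (Scr.cons (nat_lit 12) (nat_lit 1) (Step.L (Step.L (Step.L (Step.L (Step.D (nat_lit 4778) Step.done))))) (Scr.cons (nat_lit 12) (nat_lit 1) (Step.L (Step.D (nat_lit 4778) (Step.F (nat_lit 727) (Step.L (Step.L Step.done))))) (Scr.cons (nat_lit 12) (nat_lit 1) (Step.L (Step.L (Step.L (Step.L (Step.D (nat_lit 510) Step.done))))) (Scr.cons (nat_lit 6) (nat_lit 1) (Step.L (Step.L (Step.L (Step.L (Step.L (Step.L (Step.L (Step.B (nat_lit 729) (Step.D (nat_lit 1264) (Step.D (nat_lit 2596) (Step.D (nat_lit 4779) Step.done))))))))))) (Scr.cons (nat_lit 12) (nat_lit 4) (Step.U (nat_lit 1264) (Step.F (nat_lit 729) (Step.D (nat_lit 510) (Step.D (nat_lit 1264) (Step.D (nat_lit 2596) Step.done))))) (Scr.cons (nat_lit 13) (nat_lit 2) (Step.L (Step.L (Step.L (Step.L (Step.L (Step.L (Step.L (Step.D (nat_lit 510) (Step.D (nat_lit 1264) (Step.B (nat_lit 731) (Step.D (nat_lit 4779) Step.done))))))))))) (Scr.cons (nat_lit 12)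 (nat_lit 1) (Step.L (Step.B (nat_lit 730) (Step.F (nat_lit 732) (Step.L (Step.L Step.done))))) (Scr.cons (nat_lit 11) (nat_lit 0) (Step.U (nat_lit 1298) (Step.U (nat_lit 528) (Step.L (Step.L (Step.D (nat_lit 2658) Step.done))))) (Scr.cons (nat_lit 7) (nat_lit 6) (Step.L (Step.L (Step.L (Step.L (Step.L (Step.L (Step.L (Step.L (Step.L (Step.L (Step.L (Step.L (Step.L (Step.L (Step.L (Step.L (Step.L (Step.L (Step.D (nat_lit 528) (Step.D (nat_lit 1298) Step.done)))))))))))))))))))) (Scr.cons (nat_lit 12) (nat_lit 1) (Step.U (nat_lit 528) (Step.L (Step.L (Step.D (nat_lit 528) (Step.D (nat_lit 1297) Step.done))))) (Scr.cons (nat_lit 12) (nat_lit 1) (Step.U (nat_lit 1298) (Step.D (nat_lit 1297) (Step.F (nat_lit 736) (Step.D (nat_lit 1298) (Step.F (nat_lit 735) Step.done))))) (Scr.cons (nat_lit 12) (nat_lit 1) (Step.F (nat_lit 734) (Step.F (nat_lit 735) (Step.F (nat_lit 737) (Step.B (nat_lit 734) (Step.D (nat_lit 4866) Step.done))))) (Scr.cons (nat_lit 16) (nat_lit 1) (Step.F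 (nat_lit 738) (Step.F (nat_lit 734) (Step.U (nat_lit 1298) (Step.U (nat_lit 528) (Step.L (Step.L (Step.L (Step.L (Step.L (Step.L (Step.L (Step.L (Step.L (Step.L (Step.L (Step.L (Step.L (Step.L (Step.L (Step.L (Step.L (Step.L (Step.D (nat_lit 5560) Step.done))))))))))))))))))))))) (Scr.cons (nat_lit 13) (nat_lit 2) (Step.L (Step.L (Step.L (Step.D (nat_lit 5560) (Step.F (nat_lit 739) (Step.U (nat_lit 4866) (Step.U (nat_lit 2658) (Step.L (Step.L (Step.L (Step.L Step.done))))))))))) (Scr.cons (nat_lit 12) (nat_lit 4) (Step.L (Step.L (Step.L (Step.L (Step.D (nat_lit 4788) Step.done))))) (Scr.cons (nat_lit 12) (nat_lit 4) (Step.L (Step.D (nat_lit 4788) (Step.F (nat_lit 741) (Step.L (Step.L Step.done))))) (Scr.cons (nat_lit 12) (nat_lit 1) (Step.L (Step.L (Step.L (Step.L (Step.D (nat_lit 4835) Step.done))))) (Scr.cons (nat_lit 12) (nat_lit 1) (Step.L (Step.D (nat_lit 4835) (Step.F (nat_lit 743) (Step.L (Step.L Step.done))))) (Scr.cons (nat_lit 12) (nat_lit 4) (Step.L (Step.L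 (Step.L (Step.L (Step.D (nat_lit 4902) Step.done))))) (Scr.cons (nat_lit 12) (nat_lit 4) (Step.L (Step.D (nat_lit 4902) (Step.F (nat_lit 745) (Step.L (Step.L Step.done))))) (Scr.cons (nat_lit 12) (nat_lit 4) (Step.L (Step.L (Step.L (Step.L (Step.D (nat_lit 4906) Step.done))))) (Scr.cons (nat_lit 12) (nat_lit 4) (Step.L (Step.D (nat_lit 4906) (Step.F (nat_lit 747) (Step.L (Step.L Step.done))))) (Scr.cons (nat_lit 12) (nat_lit 4) (Step.L (Step.L (Step.L (Step.L (Step.D (nat_lit 4915) Step.done))))) (Scr.cons (nat_lit 12) (nat_lit 4) (Step.L (Step.D (nat_lit 4915) (Step.F (nat_lit 749) (Step.L (Step.L Step.done))))) (Scr.cons (nat_lit 12) (nat_lit 4) (Step.L (Step.L (Step.L (Step.L (Step.D (nat_lit 4926) Step.done))))) (Scr.cons (nat_lit 12) (nat_lit 4) (Step.L (Step.D (nat_lit 4926) (Step.F (nat_lit 751) (Step.L (Step.L Step.done))))) (Scr.cons (nat_lit 13) (nat_lit 0) (Step.L (Step.L (Step.L (Step.L (Step.L (Step.L (Step.L (Step.L (Step.L (Step.L (Step.D (nat_lit 4944)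 Step.done))))))))))) (Scr.cons (nat_lit 6) (nat_lit 3) (Step.L (Step.L (Step.L (Step.L (Step.L (Step.L (Step.L (Step.L (Step.L (Step.L (Step.D (nat_lit 4944) Step.done))))))))))) (Scr.cons (nat_lit 12) (nat_lit 4) (Step.L (Step.B (nat_lit 753) (Step.F (nat_lit 754) (Step.L (Step.L Step.done))))) (Scr.cons (nat_lit 12) (nat_lit 1) (Step.L (Step.L (Step.L (Step.L (Step.D (nat_lit 4997) Step.done))))) (Scr.cons (nat_lit 12) (nat_lit 1) (Step.L (Step.D (nat_lit 4997) (Step.F (nat_lit 756) (Step.L (Step.L Step.done))))) (Scr.cons (nat_lit 12) (nat_lit 4) (Step.L (Step.L (Step.L (Step.L (Step.D (nat_lit 5003) Step.done))))) (Scr.cons (nat_lit 12) (nat_lit 4) (Step.L (Step.D (nat_lit 5003) (Step.F (nat_lit 758) (Step.L (Step.L Step.done))))) (Scr.cons (nat_lit 12) (nat_lit 4) (Step.L (Step.L (Step.L (Step.L (Step.D (nat_lit 5024) Step.done))))) (Scr.cons (nat_lit 12) (nat_lit 4) (Step.L (Step.D (nat_lit 5024) (Step.F (nat_lit 760) (Step.L (Step.L Step.done))))) (Scr.cons (nat_lit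 13) (nat_lit 0) (Step.L (Step.L (Step.L (Step.L (Step.L (Step.L (Step.L (Step.L (Step.L (Step.D (nat_lit 2801) (Step.D (nat_lit 5082) Step.done))))))))))) Scr.nil))))))))))))))))))))))))))))))))))))))))
noncomputable def s19 : Scr := (Scr.cons (nat_lit 12) (nat_lit 1) (Step.L (Step.L (Step.L (Step.L (Step.D (nat_lit 2801) Step.done))))) (Scr.cons (nat_lit 6) (nat_lit 3) (Step.L (Step.L (Step.L (Step.L (Step.L (Step.L (Step.L (Step.L (Step.L (Step.B (nat_lit 763) (Step.D (nat_lit 5082) Step.done))))))))))) (Scr.cons (nat_lit 12) (nat_lit 4) (Step.L (Step.B (nat_lit 762) (Step.F (nat_lit 764) (Step.L (Step.L Step.done))))) (Scr.cons (nat_lit 12) (nat_lit 4) (Step.L (Step.L (Step.L (Step.L (Step.D (nat_lit 5093) Step.done))))) (Scr.cons (nat_lit 12) (nat_lit 4) (Step.L (Step.D (nat_lit 5093) (Step.F (nat_lit 766) (Step.L (Step.L Step.done))))) (Scr.cons (nat_lit 12) (nat_lit 1) (Step.L (Step.L (Step.L (Step.L (Step.D (nat_lit 5102) Step.done))))) (Scr.cons (nat_lit 12) (nat_lit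 1) (Step.L (Step.D (nat_lit 5102) (Step.F (nat_lit 768) (Step.L (Step.L Step.done))))) (Scr.cons (nat_lit 12) (nat_lit 4) (Step.L (Step.L (Step.L (Step.L (Step.D (nat_lit 568) Step.done))))) (Scr.cons (nat_lit 13) (nat_lit 0) (Step.L (Step.L (Step.L (Step.L (Step.L (Step.L (Step.L (Step.B (nat_lit 770) (Step.D (nat_lit 1381) (Step.D (nat_lit 2815) (Step.D (nat_lit 5101) Step.done))))))))))) (Scr.cons (nat_lit 12) (nat_lit 1) (Step.U (nat_lit 1381) (Step.F (nat_lit 770) (Step.D (nat_lit 568) (Step.D (nat_lit 1381) (Step.D (nat_lit 2815) Step.done))))) (Scr.cons (nat_lit 6) (nat_lit 3) (Step.L (Step.L (Step.L (Step.L (Step.L (Step.L (Step.L (Step.D (nat_lit 568) (Step.D (nat_lit 1381) (Step.B (nat_lit 772) (Step.D (nat_lit 5101) Step.done))))))))))) (Scr.cons (nat_lit 12) (nat_lit 4) (Step.L (Step.B (nat_lit 771) (Step.F (nat_lit 773) (Step.L (Step.L Step.done))))) (Scr.cons (nat_lit 12) (nat_lit 1) (Step.L (Step.L (Step.L (Step.L (Step.D (nat_lit 5104) Step.done))))) (Scr.cons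 (nat_lit 12) (nat_lit 1) (Step.L (Step.D (nat_lit 5104) (Step.F (nat_lit 775) (Step.L (Step.L Step.done))))) (Scr.cons (nat_lit 12) (nat_lit 1) (Step.L (Step.L (Step.L (Step.L (Step.D (nat_lit 5121) Step.done))))) (Scr.cons (nat_lit 12) (nat_lit 1) (Step.L (Step.D (nat_lit 5121) (Step.F (nat_lit 777) (Step.L (Step.L Step.done))))) (Scr.cons (nat_lit 12) (nat_lit 1) (Step.L (Step.L (Step.L (Step.L (Step.D (nat_lit 5122) Step.done))))) (Scr.cons (nat_lit 12) (nat_lit 1) (Step.L (Step.D (nat_lit 5122) (Step.F (nat_lit 779) (Step.L (Step.L Step.done))))) (Scr.cons (nat_lit 12) (nat_lit 4) (Step.L (Step.L (Step.L (Step.L (Step.D (nat_lit 5140) Step.done))))) (Scr.cons (nat_lit 12) (nat_lit 4) (Step.L (Step.D (nat_lit 5140) (Step.F (nat_lit 781) (Step.L (Step.L Step.done))))) (Scr.cons (nat_lit 12) (nat_lit 1) (Step.L (Step.L (Step.L (Step.L (Step.D (nat_lit 5150) Step.done))))) (Scr.cons (nat_lit 12) (nat_lit 1) (Step.L (Step.D (nat_lit 5150) (Step.F (nat_lit 783) (Step.L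 (Step.L Step.done))))) (Scr.cons (nat_lit 12) (nat_lit 4) (Step.L (Step.L (Step.L (Step.L (Step.D (nat_lit 5152) Step.done))))) (Scr.cons (nat_lit 12) (nat_lit 4) (Step.L (Step.D (nat_lit 5152) (Step.F (nat_lit 785) (Step.L (Step.L Step.done))))) (Scr.cons (nat_lit 12) (nat_lit 4) (Step.L (Step.L (Step.L (Step.L (Step.D (nat_lit 5178) Step.done))))) (Scr.cons (nat_lit 12) (nat_lit 4) (Step.L (Step.D (nat_lit 5178) (Step.F (nat_lit 787) (Step.L (Step.L Step.done))))) (Scr.cons (nat_lit 12) (nat_lit 1) (Step.L (Step.L (Step.L (Step.L (Step.D (nat_lit 5199) Step.done))))) (Scr.cons (nat_lit 12) (nat_lit 1) (Step.L (Step.D (nat_lit 5199) (Step.F (nat_lit 789) (Step.L (Step.L Step.done))))) (Scr.cons (nat_lit 12) (nat_lit 1) (Step.L (Step.L (Step.L (Step.L (Step.D (nat_lit 5223) Step.done))))) (Scr.cons (nat_lit 12) (nat_lit 1) (Step.L (Step.D (nat_lit 5223) (Step.F (nat_lit 791) (Step.L (Step.L Step.done))))) (Scr.cons (nat_lit 12) (nat_lit 1) (Step.L (Step.L (Step.L (Step.L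 (Step.D (nat_lit 5237) Step.done))))) (Scr.cons (nat_lit 12) (nat_lit 1) (Step.L (Step.D (nat_lit 5237) (Step.F (nat_lit 793) (Step.L (Step.L Step.done))))) (Scr.cons (nat_lit 12) (nat_lit 4) (Step.L (Step.L (Step.L (Step.L (Step.D (nat_lit 5241) Step.done))))) (Scr.cons (nat_lit 12) (nat_lit 4) (Step.L (Step.D (nat_lit 5241) (Step.F (nat_lit 795) (Step.L (Step.L Step.done))))) (Scr.cons (nat_lit 12) (nat_lit 4) (Step.L (Step.L (Step.L (Step.L (Step.D (nat_lit 5256) Step.done))))) (Scr.cons (nat_lit 12) (nat_lit 4) (Step.L (Step.D (nat_lit 5256) (Step.F (nat_lit 797) (Step.L (Step.L Step.done))))) (Scr.cons (nat_lit 15) (nat_lit 0) (Step.L (Step.L (Step.L (Step.L (Step.L (Step.L (Step.L (Step.L (Step.L (Step.L (Step.L (Step.L (Step.L (Step.L (Step.D (nat_lit 5279) Step.done))))))))))))))) (Scr.cons (nat_lit 12) (nat_lit 4) (Step.U (nat_lit 5279) (Step.L (Step.L (Step.D (nat_lit 5279) (Step.F (nat_lit 799) Step.done))))) (Scr.cons (nat_lit 12) (nat_lit 1) (Step.L (Step.F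 (nat_lit 800) (Step.F (nat_lit 799) (Step.L (Step.L Step.done))))) (Scr.cons (nat_lit 12) (nat_lit 1) (Step.L (Step.L (Step.L (Step.L (Step.D (nat_lit 5304) Step.done))))) Scr.nil))))))))))))))))))))))))))))))))))))))))
noncomputable def s20 : Scr := (Scr.cons (nat_lit 12) (nat_lit 1) (Step.L (Step.D (nat_lit 5304) (Step.F (nat_lit 802) (Step.L (Step.L Step.done))))) (Scr.cons (nat_lit 16) (nat_lit 4) (Step.L (Step.L (Step.L (Step.L (Step.L (Step.L (Step.L (Step.L (Step.L (Step.L (Step.L (Step.L (Step.L (Step.L (Step.L (Step.L (Step.L (Step.L (Step.L (Step.L (Step.L (Step.L (Step.D (nat_lit 8392) Step.done))))))))))))))))))))))) (Scr.cons (nat_lit 4) (nat_lit 0) (Step.L (Step.L (Step.B (nat_lit 804) (Step.U (nat_lit 8392) (Step.L Step.done))))) (Scr.cons (nat_lit 12) (nat_lit 1) (Step.L (Step.L (Step.L (Step.L (Step.D (nat_lit 5341) Step.done))))) (Scr.cons (nat_lit 12) (nat_lit 1) (Step.L (Step.D (nat_lit 5341) (Step.F (nat_lit 806) (Step.L (Step.L Step.done))))) (Scr.cons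 (nat_lit 12) (nat_lit 1) (Step.L (Step.L (Step.L (Step.L (Step.D (nat_lit 2968) Step.done))))) (Scr.cons (nat_lit 9) (nat_lit 5) (Step.L (Step.L (Step.L (Step.L (Step.L (Step.L (Step.L (Step.L (Step.L (Step.L (Step.L (Step.L (Step.L (Step.L (Step.L (Step.L (Step.L (Step.L (Step.L (Step.L (Step.L (Step.B (nat_lit 808) (Step.D (nat_lit 5348) Step.done))))))))))))))))))))))) (Scr.cons (nat_lit 13) (nat_lit 2) (Step.L (Step.L (Step.L (Step.B (nat_lit 809) (Step.U (nat_lit 5348) (Step.U (nat_lit 2968) (Step.L (Step.L (Step.L (Step.L (Step.L Step.done))))))))))) (Scr.cons (nat_lit 12) (nat_lit 4) (Step.L (Step.L (Step.L (Step.L (Step.D (nat_lit 5362) Step.done))))) (Scr.cons (nat_lit 12) (nat_lit 4) (Step.L (Step.D (nat_lit 5362) (Step.F (nat_lit 811) (Step.L (Step.L Step.done))))) (Scr.cons (nat_lit 12) (nat_lit 1) (Step.L (Step.L (Step.L (Step.L (Step.D (nat_lit 5363) Step.done))))) (Scr.cons (nat_lit 12) (nat_lit 1) (Step.L (Step.D (nat_lit 5363) (Step.F (nat_lit 813) (Step.L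 (Step.L Step.done))))) (Scr.cons (nat_lit 12) (nat_lit 4) (Step.L (Step.L (Step.L (Step.L (Step.D (nat_lit 5372) Step.done))))) (Scr.cons (nat_lit 12) (nat_lit 4) (Step.L (Step.D (nat_lit 5372) (Step.F (nat_lit 815) (Step.L (Step.L Step.done))))) (Scr.cons (nat_lit 12) (nat_lit 4) (Step.L (Step.L (Step.L (Step.L (Step.D (nat_lit 7282) Step.done))))) (Scr.cons (nat_lit 12) (nat_lit 4) (Step.L (Step.L (Step.L (Step.L (Step.D (nat_lit 155) Step.done))))) (Scr.cons (nat_lit 12) (nat_lit 4) (Step.U (nat_lit 457) (Step.F (nat_lit 818) (Step.D (nat_lit 155) (Step.D (nat_lit 457) (Step.F (nat_lit 30) Step.done))))) (Scr.cons (nat_lit 12) (nat_lit 4) (Step.U (nat_lit 1162) (Step.F (nat_lit 30) (Step.F (nat_lit 819) (Step.D (nat_lit 1162) (Step.D (nat_lit 2417) Step.done))))) (Scr.cons (nat_lit 13) (nat_lit 3) (Step.U (nat_lit 7282) (Step.L (Step.L (Step.L (Step.L (Step.B (nat_lit 29) (Step.F (nat_lit 819) (Step.D (nat_lit 1162) (Step.B (nat_lit 820) (Step.D (nat_lit 4501) (Step.D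 (nat_lit 7436) Step.done))))))))))) (Scr.cons (nat_lit 7) (nat_lit 0) (Step.U (nat_lit 7435) (Step.U (nat_lit 4500) (Step.U (nat_lit 2417) (Step.U (nat_lit 1162) (Step.U (nat_lit 457) (Step.F (nat_lit 818) (Step.L (Step.L (Step.L (Step.L (Step.L (Step.L (Step.L (Step.L (Step.L (Step.L (Step.L (Step.D (nat_lit 2454) (Step.D (nat_lit 4568) (Step.D (nat_lit 7523) Step.done)))))))))))))))))))) (Scr.cons (nat_lit 4) (nat_lit 0) (Step.F (nat_lit 822) (Step.U (nat_lit 7435) (Step.U (nat_lit 4500) (Step.D (nat_lit 4501) (Step.D (nat_lit 7437) Step.done))))) (Scr.cons (nat_lit 12) (nat_lit 1) (Step.U (nat_lit 2454) (Step.L (Step.L (Step.D (nat_lit 2454) (Step.D (nat_lit 4567) Step.done))))) (Scr.cons (nat_lit 12) (nat_lit 1) (Step.U (nat_lit 4568) (Step.D (nat_lit 4567) (Step.F (nat_lit 824) (Step.D (nat_lit 4568) (Step.D (nat_lit 7523) Step.done))))) (Scr.cons (nat_lit 9) (nat_lit 1) (Step.U (nat_lit 7288) (Step.U (nat_lit 4370) (Step.U (nat_lit 2342) (Step.U (nat_lit 1118) (Step.L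 (Step.L (Step.L (Step.L (Step.L (Step.L (Step.L (Step.L (Step.L (Step.L (Step.L (Step.L (Step.L (Step.L (Step.L (Step.L (Step.D (nat_lit 2454) (Step.B (nat_lit 824) (Step.D (nat_lit 7522) Step.done))))))))))))))))))))))) (Scr.cons (nat_lit 12) (nat_lit 1) (Step.L (Step.L (Step.L (Step.L (Step.D (nat_lit 1118) Step.done))))) (Scr.cons (nat_lit 14) (nat_lit 2) (Step.L (Step.L (Step.L (Step.L (Step.L (Step.L (Step.L (Step.L (Step.L (Step.L (Step.L (Step.L (Step.L (Step.L (Step.L (Step.L (Step.L (Step.L (Step.B (nat_lit 827) (Step.D (nat_lit 2342) Step.done)))))))))))))))))))) (Scr.cons (nat_lit 12) (nat_lit 1) (Step.F (nat_lit 828) (Step.L (Step.L (Step.B (nat_lit 828) (Step.D (nat_lit 4370) Step.done))))) (Scr.cons (nat_lit 12) (nat_lit 1) (Step.U (nat_lit 2343) (Step.F (nat_lit 827) (Step.D (nat_lit 1118) (Step.D (nat_lit 2343) (Step.D (nat_lit 4371) Step.done))))) (Scr.cons (nat_lit 7) (nat_lit 6) (Step.U (nat_lit 2352) (Step.L (Step.L (Step.L (Step.L (Step.L (Step.L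 (Step.L (Step.L (Step.L (Step.L (Step.L (Step.L (Step.L (Step.L (Step.L (Step.L (Step.B (nat_lit 827) (Step.D (nat_lit 2343) (Step.D (nat_lit 4372) Step.done)))))))))))))))))))) (Scr.cons (nat_lit 12) (nat_lit 1) (Step.U (nat_lit 4372) (Step.D (nat_lit 4371) (Step.F (nat_lit 830) (Step.D (nat_lit 4372) (Step.F (nat_lit 831) Step.done))))) (Scr.cons (nat_lit 12) (nat_lit 1) (Step.U (nat_lit 2353) (Step.L (Step.L (Step.D (nat_lit 2353) (Step.D (nat_lit 4384) Step.done))))) (Scr.cons (nat_lit 12) (nat_lit 1) (Step.U (nat_lit 4385) (Step.D (nat_lit 4384) (Step.F (nat_lit 833) (Step.D (nat_lit 4385) (Step.D (nat_lit 7299) Step.done))))) (Scr.cons (nat_lit 12) (nat_lit 1) (Step.L (Step.L (Step.L (Step.L (Step.D (nat_lit 443) Step.done))))) (Scr.cons (nat_lit 13) (nat_lit 0) (Step.U (nat_lit 1130) (Step.F (nat_lit 835) (Step.L (Step.L (Step.L (Step.L (Step.L (Step.L (Step.L (Step.L (Step.L Step.done))))))))))) (Scr.cons (nat_lit 11) (nat_lit 0) (Step.L (Step.L (Step.L (Step.L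 (Step.D (nat_lit 3061) Step.done))))) (Scr.cons (nat_lit 11) (nat_lit 0) (Step.U (nat_lit 2366) (Step.U (nat_lit 1131) (Step.D (nat_lit 1130) (Step.D (nat_lit 2365) (Step.D (nat_lit 4400) Step.done))))) (Scr.cons (nat_lit 14) (nat_lit 4) (Step.U (nat_lit 1641) (Step.L (Step.L (Step.L (Step.L (Step.L (Step.L (Step.L (Step.L (Step.L (Step.L (Step.L (Step.L (Step.L (Step.L (Step.L (Step.L (Step.L (Step.L (Step.D (nat_lit 3060) Step.done)))))))))))))))))))) (Scr.cons (nat_lit 11) (nat_lit 0) (Step.F (nat_lit 839) (Step.U (nat_lit 1641) (Step.L (Step.L (Step.L Step.done))))) (Scr.cons (nat_lit 12) (nat_lit 4) (Step.L (Step.L (Step.L (Step.L (Step.D (nat_lit 3060) Step.done))))) (Scr.cons (nat_lit 16) (nat_lit 2) (Step.F (nat_lit 838) (Step.U (nat_lit 2366) (Step.U (nat_lit 1131) (Step.F (nat_lit 835) (Step.L (Step.L (Step.L (Step.L (Step.L (Step.L (Step.L (Step.L (Step.L (Step.L (Step.L (Step.L (Step.L (Step.L (Step.L (Step.L (Step.F (nat_lit 840) (Step.F (nat_lit 841) (Step.D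 (nat_lit 3061) Step.done))))))))))))))))))))))) Scr.nil))))))))))))))))))))))))))))))))))))))))
noncomputable def s21 : Scr := (Scr.cons (nat_lit 12) (nat_lit 1) (Step.F (nat_lit 837) (Step.L (Step.L (Step.B (nat_lit 837) (Step.F (nat_lit 842) Step.done))))) (Scr.cons (nat_lit 12) (nat_lit 1) (Step.L (Step.L (Step.L (Step.L (Step.D (nat_lit 5374) Step.done))))) (Scr.cons (nat_lit 14) (nat_lit 2) (Step.F (nat_lit 834) (Step.U (nat_lit 4385) (Step.U (nat_lit 2353) (Step.L (Step.F (nat_lit 836) (Step.D (nat_lit 2365) (Step.D (nat_lit 4400) (Step.F (nat_lit 843) (Step.F (nat_lit 837) (Step.L (Step.L (Step.L (Step.L (Step.L (Step.L (Step.L (Step.L (Step.L (Step.B (nat_lit 844) (Step.D (nat_lit 8429) Step.done)))))))))))))))))))) (Scr.cons (nat_lit 7) (nat_lit 3) (Step.F (nat_lit 826) (Step.U (nat_lit 7288) (Step.F (nat_lit 829) (Step.U (nat_lit 2342) (Step.D (nat_lit 2343) (Step.D (nat_lit 4372) (Step.B (nat_lit 832) (Step.U (nat_lit 2352) (Step.L (Step.L (Step.L (Step.L (Step.L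 (Step.L (Step.D (nat_lit 2353) (Step.D (nat_lit 4385) (Step.D (nat_lit 7299) (Step.B (nat_lit 845) (Step.U (nat_lit 8429) (Step.D (nat_lit 8430) Step.done)))))))))))))))))))) (Scr.cons (nat_lit 12) (nat_lit 4) (Step.U (nat_lit 5373) (Step.L (Step.L (Step.D (nat_lit 5373) (Step.D (nat_lit 8428) Step.done))))) (Scr.cons (nat_lit 13) (nat_lit 1) (Step.F (nat_lit 823) (Step.F (nat_lit 825) (Step.U (nat_lit 4568) (Step.B (nat_lit 824) (Step.D (nat_lit 7522) (Step.B (nat_lit 846) (Step.U (nat_lit 8430) (Step.U (nat_lit 5374) (Step.L (Step.L (Step.D (nat_lit 5373) (Step.B (nat_lit 847) Step.done)))))))))))) (Scr.cons (nat_lit 0) (nat_lit 1) (Step.D (nat_lit 8428) (Step.F (nat_lit 848) Step.done)) (Scr.cons (nat_lit 8) (nat_lit 1) (Step.L (Step.B (nat_lit 817) (Step.B (nat_lit 821) (Step.U (nat_lit 7436) (Step.D (nat_lit 7437) (Step.F (nat_lit 849) (Step.U (nat_lit 5373) (Step.L (Step.L (Step.L (Step.L (Step.L (Step.L (Step.L (Step.L Step.done))))))))))))))) (Scr.cons (nat_lit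 12) (nat_lit 4) (Step.L (Step.L (Step.L (Step.L (Step.D (nat_lit 4413) Step.done))))) (Scr.cons (nat_lit 12) (nat_lit 4) (Step.L (Step.D (nat_lit 4413) (Step.F (nat_lit 851) (Step.L (Step.D (nat_lit 7331) Step.done))))) (Scr.cons (nat_lit 12) (nat_lit 1) (Step.L (Step.L (Step.L (Step.L (Step.D (nat_lit 5215) Step.done))))) (Scr.cons (nat_lit 11) (nat_lit 0) (Step.U (nat_lit 4415) (Step.L (Step.L (Step.L (Step.D (nat_lit 7332) Step.done))))) (Scr.cons (nat_lit 12) (nat_lit 1) (Step.L (Step.L (Step.L (Step.L (Step.D (nat_lit 1475) Step.done))))) (Scr.cons (nat_lit 12) (nat_lit 1) (Step.L (Step.L (Step.L (Step.L (Step.D (nat_lit 700) Step.done))))) (Scr.cons (nat_lit 12) (nat_lit 1) (Step.L (Step.D (nat_lit 700) (Step.F (nat_lit 856) (Step.L (Step.D (nat_lit 1336) Step.done))))) (Scr.cons (nat_lit 7) (nat_lit 5) (Step.F (nat_lit 855) (Step.L (Step.L (Step.L (Step.L (Step.L (Step.L (Step.L (Step.L (Step.L (Step.L (Step.L (Step.L (Step.L (Step.L (Step.L (Step.L (Step.L (Step.B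 (nat_lit 857) (Step.D (nat_lit 2724) Step.done)))))))))))))))))))) (Scr.cons (nat_lit 11) (nat_lit 0) (Step.U (nat_lit 2986) (Step.B (nat_lit 858) (Step.U (nat_lit 2724) (Step.D (nat_lit 2723) (Step.D (nat_lit 4961) Step.done))))) (Scr.cons (nat_lit 12) (nat_lit 1) (Step.U (nat_lit 2986) (Step.F (nat_lit 855) (Step.D (nat_lit 1475) (Step.D (nat_lit 2986) (Step.D (nat_lit 5382) Step.done))))) (Scr.cons (nat_lit 6) (nat_lit 3) (Step.U (nat_lit 8241) (Step.U (nat_lit 5215) (Step.L (Step.L (Step.L (Step.L (Step.L (Step.D (nat_lit 1475) (Step.D (nat_lit 2986) (Step.B (nat_lit 860) (Step.D (nat_lit 8442) Step.done))))))))))) (Scr.cons (nat_lit 16) (nat_lit 3) (Step.F (nat_lit 854) (Step.U (nat_lit 4415) (Step.L (Step.L (Step.L (Step.L (Step.L (Step.L (Step.L (Step.L (Step.L (Step.L (Step.L (Step.L (Step.L (Step.L (Step.L (Step.D (nat_lit 1336) (Step.D (nat_lit 2723) (Step.D (nat_lit 4961) (Step.F (nat_lit 859) (Step.D (nat_lit 5382) (Step.D (nat_lit 8442) (Step.F (nat_lit 861)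 Step.done)))))))))))))))))))))))) (Scr.cons (nat_lit 1) (nat_lit 0) (Step.D (nat_lit 8241) (Step.F (nat_lit 862) (Step.U (nat_lit 7332) Step.done))) (Scr.cons (nat_lit 0) (nat_lit 1) (Step.B (nat_lit 853) (Step.B (nat_lit 863) (Step.D (nat_lit 7331) Step.done))) (Scr.cons (nat_lit 0) (nat_lit 0) (Step.B (nat_lit 852) (Step.F (nat_lit 864) Step.done)) (Scr.cons (nat_lit 12) (nat_lit 1) (Step.L (Step.L (Step.L (Step.L (Step.D (nat_lit 5391) Step.done))))) (Scr.cons (nat_lit 12) (nat_lit 1) (Step.L (Step.D (nat_lit 5391) (Step.F (nat_lit 866) (Step.L (Step.L Step.done))))) (Scr.cons (nat_lit 12) (nat_lit 1) (Step.L (Step.L (Step.L (Step.L (Step.D (nat_lit 5410) Step.done))))) (Scr.cons (nat_lit 12) (nat_lit 1) (Step.L (Step.D (nat_lit 5410) (Step.F (nat_lit 868) (Step.L (Step.L Step.done))))) (Scr.cons (nat_lit 12) (nat_lit 1) (Step.L (Step.L (Step.L (Step.L (Step.D (nat_lit 5418) Step.done))))) (Scr.cons (nat_lit 12) (nat_lit 1) (Step.L (Step.D (nat_lit 5418) (Step.F (nat_lit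 870) (Step.L (Step.L Step.done))))) (Scr.cons (nat_lit 12) (nat_lit 1) (Step.L (Step.L (Step.L (Step.L (Step.D (nat_lit 5426) Step.done))))) (Scr.cons (nat_lit 12) (nat_lit 1) (Step.L (Step.D (nat_lit 5426) (Step.F (nat_lit 872) (Step.L (Step.L Step.done))))) (Scr.cons (nat_lit 12) (nat_lit 1) (Step.L (Step.L (Step.L (Step.L (Step.D (nat_lit 5435) Step.done))))) (Scr.cons (nat_lit 12) (nat_lit 1) (Step.L (Step.D (nat_lit 5435) (Step.F (nat_lit 874) (Step.L (Step.L Step.done))))) (Scr.cons (nat_lit 8) (nat_lit 1) (Step.L (Step.L (Step.L (Step.L (Step.L (Step.L (Step.L (Step.L (Step.L (Step.L (Step.L (Step.L (Step.L (Step.L (Step.D (nat_lit 5423) Step.done))))))))))))))) (Scr.cons (nat_lit 12) (nat_lit 0) (Step.B (nat_lit 876) (Step.U (nat_lit 5423) (Step.L (Step.L (Step.D (nat_lit 5423) Step.done))))) (Scr.cons (nat_lit 12) (nat_lit 4) (Step.L (Step.B (nat_lit 876) (Step.F (nat_lit 877) (Step.L (Step.L Step.done))))) (Scr.cons (nat_lit 12) (nat_lit 1) (Step.L (Step.L (Step.L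 (Step.L (Step.D (nat_lit 629) Step.done))))) (Scr.cons (nat_lit 12) (nat_lit 1) (Step.U (nat_lit 1503) (Step.F (nat_lit 879) (Step.D (nat_lit 629) (Step.D (nat_lit 1503) (Step.D (nat_lit 3028) Step.done))))) (Scr.cons (nat_lit 8) (nat_lit 1) (Step.L (Step.L (Step.L (Step.L (Step.L (Step.L (Step.L (Step.L (Step.L (Step.L (Step.L (Step.B (nat_lit 879) (Step.D (nat_lit 1503) (Step.B (nat_lit 880) (Step.D (nat_lit 5450) Step.done))))))))))))))) (Scr.cons (nat_lit 12) (nat_lit 0) (Step.B (nat_lit 881) (Step.U (nat_lit 5450) (Step.F (nat_lit 880) (Step.D (nat_lit 3028) (Step.D (nat_lit 5450) Step.done))))) Scr.nil))))))))))))))))))))))))))))))))))))))))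
noncomputable def s22 : Scr := (Scr.cons (nat_lit 12) (nat_lit 4) (Step.L (Step.B (nat_lit 881) (Step.F (nat_lit 882) (Step.L (Step.L Step.done))))) (Scr.cons (nat_lit 12) (nat_lit 4) (Step.L (Step.L (Step.L (Step.L (Step.D (nat_lit 5490) Step.done))))) (Scr.cons (nat_lit 12) (nat_lit 4) (Step.L (Step.D (nat_lit 5490) (Step.F (nat_lit 884) (Step.L (Step.L Step.done))))) (Scr.cons (nat_lit 12) (nat_lit 1) (Step.L (Step.L (Step.L (Step.L (Step.D (nat_lit 5496) Step.done))))) (Scr.cons (nat_lit 12) (nat_lit 1) (Step.L (Step.D (nat_lit 5496) (Step.F (nat_lit 886) (Step.L (Step.L Step.done))))) (Scr.cons (nat_lit 14) (nat_lit 4) (Step.U (nat_lit 5517) (Step.L (Step.L (Step.L (Step.L (Step.L (Step.L (Step.L (Step.L (Step.L (Step.L (Step.L (Step.L (Step.L (Step.L (Step.L (Step.L (Step.L (Step.L (Step.D (nat_lit 5530) Step.done)))))))))))))))))))) (Scr.cons (nat_lit 11) (nat_lit 0) (Step.F (nat_lit 888) (Step.U (nat_lit 5517) (Step.L (Step.L (Step.L Step.done))))) (Scr.cons (nat_lit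 12) (nat_lit 4) (Step.L (Step.L (Step.L (Step.L (Step.D (nat_lit 5530) Step.done))))) (Scr.cons (nat_lit 12) (nat_lit 1) (Step.F (nat_lit 889) (Step.F (nat_lit 890) (Step.D (nat_lit 5530) (Step.B (nat_lit 889) (Step.L Step.done))))) (Scr.cons (nat_lit 12) (nat_lit 1) (Step.L (Step.L (Step.L (Step.L (Step.D (nat_lit 5529) Step.done))))) (Scr.cons (nat_lit 12) (nat_lit 1) (Step.L (Step.D (nat_lit 5529) (Step.F (nat_lit 892) (Step.L (Step.L Step.done))))) (Scr.cons (nat_lit 12) (nat_lit 4) (Step.L (Step.L (Step.L (Step.L (Step.D (nat_lit 5533) Step.done))))) (Scr.cons (nat_lit 12) (nat_lit 4) (Step.L (Step.D (nat_lit 5533) (Step.F (nat_lit 894) (Step.L (Step.L Step.done))))) (Scr.cons (nat_lit 12) (nat_lit 1) (Step.L (Step.L (Step.L (Step.L (Step.D (nat_lit 5563) Step.done))))) (Scr.cons (nat_lit 12) (nat_lit 1) (Step.L (Step.D (nat_lit 5563) (Step.F (nat_lit 896) (Step.L (Step.L Step.done))))) (Scr.cons (nat_lit 12) (nat_lit 1) (Step.U (nat_lit 243) (Step.L (Step.L (Step.D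 (nat_lit 243) (Step.D (nat_lit 669) Step.done))))) (Scr.cons (nat_lit 6) (nat_lit 1) (Step.L (Step.L (Step.L (Step.L (Step.L (Step.L (Step.D (nat_lit 243) (Step.B (nat_lit 898) (Step.D (nat_lit 1578) (Step.D (nat_lit 3140) (Step.D (nat_lit 5569) Step.done))))))))))) (Scr.cons (nat_lit 12) (nat_lit 4) (Step.U (nat_lit 1578) (Step.F (nat_lit 898) (Step.D (nat_lit 669) (Step.D (nat_lit 1578) (Step.D (nat_lit 3140) Step.done))))) (Scr.cons (nat_lit 13) (nat_lit 2) (Step.L (Step.L (Step.L (Step.L (Step.L (Step.L (Step.D (nat_lit 243) (Step.D (nat_lit 669) (Step.D (nat_lit 1578) (Step.B (nat_lit 900) (Step.D (nat_lit 5569) Step.done))))))))))) (Scr.cons (nat_lit 12) (nat_lit 1) (Step.L (Step.B (nat_lit 899) (Step.F (nat_lit 901) (Step.L (Step.L Step.done))))) (Scr.cons (nat_lit 12) (nat_lit 1) (Step.L (Step.L (Step.L (Step.L (Step.D (nat_lit 5579) Step.done))))) (Scr.cons (nat_lit 12) (nat_lit 1) (Step.L (Step.D (nat_lit 5579) (Step.F (nat_lit 903) (Step.L (Step.L Step.done)))))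 (Scr.cons (nat_lit 12) (nat_lit 1) (Step.L (Step.L (Step.L (Step.L (Step.D (nat_lit 5615) Step.done))))) (Scr.cons (nat_lit 12) (nat_lit 1) (Step.L (Step.D (nat_lit 5615) (Step.F (nat_lit 905) (Step.L (Step.L Step.done))))) (Scr.cons (nat_lit 12) (nat_lit 1) (Step.L (Step.L (Step.L (Step.L (Step.D (nat_lit 5618) Step.done))))) (Scr.cons (nat_lit 12) (nat_lit 1) (Step.L (Step.D (nat_lit 5618) (Step.F (nat_lit 907) (Step.L (Step.L Step.done))))) (Scr.cons (nat_lit 12) (nat_lit 1) (Step.L (Step.L (Step.L (Step.L (Step.D (nat_lit 5620) Step.done))))) (Scr.cons (nat_lit 12) (nat_lit 1) (Step.L (Step.D (nat_lit 5620) (Step.F (nat_lit 909) (Step.L (Step.L Step.done))))) (Scr.cons (nat_lit 7) (nat_lit 0) (Step.U (nat_lit 1428) (Step.L (Step.L (Step.L (Step.L (Step.L (Step.L (Step.L (Step.L (Step.L (Step.L (Step.L (Step.L (Step.L (Step.L (Step.L (Step.L (Step.L (Step.D (nat_lit 682) (Step.D (nat_lit 1603) Step.done)))))))))))))))))))) (Scr.cons (nat_lit 4) (nat_lit 0) (Step.F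 (nat_lit 911) (Step.U (nat_lit 1428) (Step.L (Step.L (Step.L Step.done))))) (Scr.cons (nat_lit 6) (nat_lit 0) (Step.L (Step.L (Step.L (Step.F (nat_lit 912) (Step.U (nat_lit 1603) (Step.U (nat_lit 682) (Step.L (Step.L (Step.L (Step.L (Step.L Step.done))))))))))) (Scr.cons (nat_lit 12) (nat_lit 1) (Step.L (Step.L (Step.L (Step.L (Step.D (nat_lit 5638) Step.done))))) (Scr.cons (nat_lit 12) (nat_lit 1) (Step.L (Step.D (nat_lit 5638) (Step.F (nat_lit 914) (Step.L (Step.L Step.done))))) (Scr.cons (nat_lit 11) (nat_lit 0) (Step.L (Step.L (Step.L (Step.L (Step.D (nat_lit 3191) Step.done))))) (Scr.cons (nat_lit 16) (nat_lit 5) (Step.L (Step.L (Step.L (Step.D (nat_lit 3191) (Step.F (nat_lit 916) (Step.L (Step.L (Step.L (Step.L (Step.L (Step.L (Step.L (Step.L (Step.L (Step.L (Step.L (Step.L (Step.L (Step.L (Step.L (Step.L (Step.L (Step.L Step.done))))))))))))))))))))))) (Scr.cons (nat_lit 12) (nat_lit 1) (Step.L (Step.L (Step.L (Step.L (Step.D (nat_lit 5651) Step.done))))) (Scr.cons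 (nat_lit 12) (nat_lit 1) (Step.L (Step.D (nat_lit 5651) (Step.F (nat_lit 918) (Step.L (Step.L Step.done))))) (Scr.cons (nat_lit 12) (nat_lit 4) (Step.L (Step.L (Step.L (Step.L (Step.D (nat_lit 5656) Step.done))))) (Scr.cons (nat_lit 12) (nat_lit 4) (Step.L (Step.D (nat_lit 5656) (Step.F (nat_lit 920) (Step.L (Step.L Step.done))))) (Scr.cons (nat_lit 12) (nat_lit 1) (Step.L (Step.L (Step.L (Step.L (Step.D (nat_lit 5666) Step.done))))) Scr.nil))))))))))))))))))))))))))))))))))))))))
noncomputable def s23 : Scr := (Scr.cons (nat_lit 12) (nat_lit 1) (Step.L (Step.D (nat_lit 5666) (Step.F (nat_lit 922) (Step.L (Step.L Step.done))))) (Scr.cons (nat_lit 12) (nat_lit 1) (Step.L (Step.L (Step.L (Step.L (Step.D (nat_lit 5671) Step.done))))) (Scr.cons (nat_lit 12) (nat_lit 1) (Step.L (Step.D (nat_lit 5671) (Step.F (nat_lit 924) (Step.L (Step.L Step.done))))) (Scr.cons (nat_lit 12) (nat_lit 4) (Step.L (Step.L (Step.L (Step.L (Step.D (nat_lit 5674) Step.done))))) (Scr.cons (nat_lit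 12) (nat_lit 4) (Step.L (Step.D (nat_lit 5674) (Step.F (nat_lit 926) (Step.L (Step.L Step.done))))) (Scr.cons (nat_lit 12) (nat_lit 1) (Step.L (Step.L (Step.L (Step.L (Step.D (nat_lit 5678) Step.done))))) (Scr.cons (nat_lit 12) (nat_lit 1) (Step.L (Step.D (nat_lit 5678) (Step.F (nat_lit 928) (Step.L (Step.L Step.done))))) (Scr.cons (nat_lit 12) (nat_lit 1) (Step.L (Step.L (Step.L (Step.L (Step.D (nat_lit 5679) Step.done))))) (Scr.cons (nat_lit 12) (nat_lit 1) (Step.L (Step.D (nat_lit 5679) (Step.F (nat_lit 930) (Step.L (Step.L Step.done))))) (Scr.cons (nat_lit 7) (nat_lit 5) (Step.L (Step.L (Step.L (Step.L (Step.L (Step.L (Step.L (Step.L (Step.L (Step.L (Step.L (Step.L (Step.L (Step.L (Step.L (Step.L (Step.L (Step.L (Step.L (Step.D (nat_lit 5681) Step.done)))))))))))))))))))) (Scr.cons (nat_lit 11) (nat_lit 0) (Step.L (Step.B (nat_lit 932) (Step.U (nat_lit 5681) (Step.L (Step.L Step.done))))) (Scr.cons (nat_lit 14) (nat_lit 4) (Step.L (Step.L (Step.L (Step.L (Step.L (Step.L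 (Step.L (Step.L (Step.L (Step.L (Step.L (Step.L (Step.L (Step.L (Step.L (Step.L (Step.L (Step.L (Step.D (nat_lit 681) (Step.D (nat_lit 1602) Step.done)))))))))))))))))))) (Scr.cons (nat_lit 11) (nat_lit 0) (Step.U (nat_lit 3182) (Step.F (nat_lit 934) (Step.L (Step.L (Step.L Step.done))))) (Scr.cons (nat_lit 12) (nat_lit 4) (Step.U (nat_lit 681) (Step.L (Step.L (Step.D (nat_lit 681) (Step.D (nat_lit 1602) Step.done))))) (Scr.cons (nat_lit 12) (nat_lit 1) (Step.U (nat_lit 3182) (Step.F (nat_lit 936) (Step.D (nat_lit 1602) (Step.D (nat_lit 3182) (Step.D (nat_lit 5636) Step.done))))) (Scr.cons (nat_lit 16) (nat_lit 1) (Step.F (nat_lit 937) (Step.U (nat_lit 3182) (Step.F (nat_lit 934) (Step.L (Step.L (Step.L (Step.L (Step.L (Step.L (Step.L (Step.L (Step.L (Step.L (Step.L (Step.L (Step.L (Step.L (Step.L (Step.L (Step.L (Step.D (nat_lit 1597) (Step.D (nat_lit 3173) (Step.D (nat_lit 5626) Step.done))))))))))))))))))))))) (Scr.cons (nat_lit 11) (nat_lit 0) (Step.L (Step.L (Step.L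 (Step.D (nat_lit 1597) (Step.D (nat_lit 3173) Step.done))))) (Scr.cons (nat_lit 12) (nat_lit 1) (Step.F (nat_lit 939) (Step.L (Step.L (Step.B (nat_lit 939) (Step.D (nat_lit 5626) Step.done))))) (Scr.cons (nat_lit 13) (nat_lit 3) (Step.L (Step.L (Step.L (Step.F (nat_lit 935) (Step.B (nat_lit 937) (Step.B (nat_lit 938) (Step.F (nat_lit 940) (Step.F (nat_lit 939) (Step.L (Step.L (Step.L Step.done))))))))))) (Scr.cons (nat_lit 12) (nat_lit 4) (Step.L (Step.L (Step.L (Step.L (Step.D (nat_lit 5697) Step.done))))) (Scr.cons (nat_lit 12) (nat_lit 4) (Step.L (Step.D (nat_lit 5697) (Step.F (nat_lit 942) (Step.L (Step.L Step.done))))) (Scr.cons (nat_lit 12) (nat_lit 4) (Step.L (Step.L (Step.L (Step.L (Step.D (nat_lit 5702) Step.done))))) (Scr.cons (nat_lit 12) (nat_lit 4) (Step.L (Step.D (nat_lit 5702) (Step.F (nat_lit 944) (Step.L (Step.L Step.done))))) (Scr.cons (nat_lit 12) (nat_lit 4) (Step.L (Step.L (Step.L (Step.L (Step.D (nat_lit 5707) Step.done))))) (Scr.cons (nat_lit 12)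 (nat_lit 4) (Step.L (Step.D (nat_lit 5707) (Step.F (nat_lit 946) (Step.L (Step.L Step.done))))) (Scr.cons (nat_lit 12) (nat_lit 1) (Step.L (Step.L (Step.L (Step.L (Step.D (nat_lit 5726) Step.done))))) (Scr.cons (nat_lit 12) (nat_lit 1) (Step.L (Step.D (nat_lit 5726) (Step.F (nat_lit 948) (Step.L (Step.L Step.done))))) (Scr.cons (nat_lit 14) (nat_lit 5) (Step.L (Step.L (Step.L (Step.L (Step.L (Step.L (Step.L (Step.L (Step.L (Step.L (Step.L (Step.L (Step.L (Step.L (Step.L (Step.L (Step.L (Step.L (Step.L (Step.D (nat_lit 8855) Step.done)))))))))))))))))))) (Scr.cons (nat_lit 4) (nat_lit 0) (Step.L (Step.L (Step.B (nat_lit 950) (Step.U (nat_lit 8855) (Step.L Step.done))))) (Scr.cons (nat_lit 9) (nat_lit 2) (Step.L (Step.L (Step.L (Step.L (Step.L (Step.L (Step.L (Step.L (Step.L (Step.L (Step.L (Step.L (Step.L (Step.L (Step.L (Step.L (Step.L (Step.L (Step.L (Step.L (Step.L (Step.D (nat_lit 5750) (Step.D (nat_lit 8870) Step.done))))))))))))))))))))))) (Scr.cons (nat_lit 11)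 (nat_lit 0) (Step.B (nat_lit 952) (Step.U (nat_lit 8870) (Step.U (nat_lit 5750) (Step.L (Step.L Step.done))))) (Scr.cons (nat_lit 12) (nat_lit 4) (Step.L (Step.L (Step.L (Step.L (Step.D (nat_lit 5753) Step.done))))) (Scr.cons (nat_lit 12) (nat_lit 4) (Step.L (Step.D (nat_lit 5753) (Step.F (nat_lit 954) (Step.L (Step.L Step.done))))) (Scr.cons (nat_lit 16) (nat_lit 4) (Step.L (Step.L (Step.L (Step.L (Step.L (Step.L (Step.L (Step.L (Step.L (Step.L (Step.L (Step.L (Step.L (Step.L (Step.L (Step.L (Step.L (Step.L (Step.L (Step.L (Step.L (Step.L (Step.D (nat_lit 8879) Step.done))))))))))))))))))))))) (Scr.cons (nat_lit 4) (nat_lit 0) (Step.L (Step.L (Step.B (nat_lit 956) (Step.U (nat_lit 8879) (Step.L Step.done))))) (Scr.cons (nat_lit 12) (nat_lit 1) (Step.L (Step.L (Step.L (Step.L (Step.D (nat_lit 5765) Step.done))))) (Scr.cons (nat_lit 12) (nat_lit 1) (Step.L (Step.D (nat_lit 5765) (Step.F (nat_lit 958) (Step.L (Step.L Step.done))))) (Scr.cons (nat_lit 12) (nat_lit 1) (Step.L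 (Step.L (Step.L (Step.L (Step.D (nat_lit 3253) Step.done))))) (Scr.cons (nat_lit 9) (nat_lit 5) (Step.L (Step.L (Step.L (Step.L (Step.L (Step.L (Step.L (Step.L (Step.L (Step.L (Step.L (Step.L (Step.L (Step.L (Step.L (Step.L (Step.L (Step.L (Step.L (Step.L (Step.L (Step.B (nat_lit 960) (Step.D (nat_lit 5766) Step.done))))))))))))))))))))))) (Scr.cons (nat_lit 13) (nat_lit 2) (Step.L (Step.L (Step.L (Step.B (nat_lit 961) (Step.U (nat_lit 5766) (Step.U (nat_lit 3253) (Step.L (Step.L (Step.L (Step.L (Step.L Step.done))))))))))) Scr.nil))))))))))))))))))))))))))))))))))))))))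
noncomputable def s24 : Scr := (Scr.cons (nat_lit 12) (nat_lit 1) (Step.L (Step.L (Step.L (Step.L (Step.D (nat_lit 5781) Step.done))))) (Scr.cons (nat_lit 12) (nat_lit 1) (Step.L (Step.D (nat_lit 5781) (Step.F (nat_lit 963) (Step.L (Step.L Step.done))))) (Scr.cons (nat_lit 12) (nat_lit 1) (Step.L (Step.L (Step.L (Step.L (Step.D (nat_lit 5794) Step.done))))) (Scr.cons (nat_lit 12) (nat_lit 1) (Step.L (Step.D (nat_lit 5794) (Step.F (nat_lit 965) (Step.L (Step.L Step.done))))) (Scr.cons (nat_lit 12) (nat_lit 1) (Step.L (Step.L (Step.L (Step.L (Step.D (nat_lit 5819) Step.done))))) (Scr.cons (nat_lit 12) (nat_lit 1) (Step.L (Step.D (nat_lit 5819) (Step.F (nat_lit 967) (Step.L (Step.L Step.done))))) (Scr.cons (nat_lit 12) (nat_lit 1) (Step.L (Step.L (Step.L (Step.L (Step.D (nat_lit 5820) Step.done))))) (Scr.cons (nat_lit 12) (nat_lit 1) (Step.L (Step.D (nat_lit 5820) (Step.F (nat_lit 969) (Step.L (Step.L Step.done))))) (Scr.cons (nat_lit 12) (nat_lit 4) (Step.L (Step.L (Step.L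 (Step.L (Step.D (nat_lit 5823) Step.done))))) (Scr.cons (nat_lit 12) (nat_lit 4) (Step.L (Step.D (nat_lit 5823) (Step.F (nat_lit 971) (Step.L (Step.L Step.done))))) (Scr.cons (nat_lit 12) (nat_lit 4) (Step.L (Step.L (Step.L (Step.L (Step.D (nat_lit 5824) Step.done))))) (Scr.cons (nat_lit 12) (nat_lit 4) (Step.L (Step.D (nat_lit 5824) (Step.F (nat_lit 973) (Step.L (Step.L Step.done))))) (Scr.cons (nat_lit 7) (nat_lit 2) (Step.L (Step.L (Step.L (Step.L (Step.L (Step.L (Step.L (Step.L (Step.L (Step.L (Step.L (Step.L (Step.L (Step.L (Step.L (Step.L (Step.L (Step.L (Step.D (nat_lit 5831) (Step.D (nat_lit 8966) Step.done)))))))))))))))))))) (Scr.cons (nat_lit 11) (nat_lit 0) (Step.B (nat_lit 975) (Step.U (nat_lit 8966) (Step.U (nat_lit 5831) (Step.L (Step.L Step.done))))) (Scr.cons (nat_lit 12) (nat_lit 4) (Step.L (Step.L (Step.L (Step.L (Step.D (nat_lit 5835) Step.done))))) (Scr.cons (nat_lit 12) (nat_lit 4) (Step.L (Step.D (nat_lit 5835) (Step.F (nat_lit 977) (Step.L (Step.L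 Step.done))))) (Scr.cons (nat_lit 11) (nat_lit 0) (Step.L (Step.L (Step.L (Step.L (Step.D (nat_lit 8970) Step.done))))) (Scr.cons (nat_lit 7) (nat_lit 0) (Step.U (nat_lit 5997) (Step.U (nat_lit 3391) (Step.L (Step.L (Step.L (Step.L (Step.L (Step.L (Step.L (Step.L (Step.L (Step.L (Step.L (Step.L (Step.L (Step.L (Step.L (Step.L (Step.L (Step.D (nat_lit 8971) Step.done)))))))))))))))))))) (Scr.cons (nat_lit 4) (nat_lit 0) (Step.F (nat_lit 980) (Step.U (nat_lit 5997) (Step.U (nat_lit 3391) (Step.L (Step.L Step.done))))) (Scr.cons (nat_lit 9) (nat_lit 5) (Step.U (nat_lit 6049) (Step.L (Step.L (Step.L (Step.L (Step.L (Step.L (Step.L (Step.L (Step.L (Step.L (Step.L (Step.L (Step.L (Step.L (Step.L (Step.L (Step.L (Step.L (Step.L (Step.F (nat_lit 981) (Step.U (nat_lit 8971) (Step.B (nat_lit 979) Step.done))))))))))))))))))))))) (Scr.cons (nat_lit 7) (nat_lit 1) (Step.U (nat_lit 8962) (Step.U (nat_lit 5827) (Step.L (Step.L (Step.L (Step.L (Step.L (Step.L (Step.L (Step.L (Step.L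 (Step.L (Step.L (Step.L (Step.L (Step.B (nat_lit 979) (Step.F (nat_lit 982) (Step.U (nat_lit 6049) (Step.L (Step.L (Step.D (nat_lit 6048) Step.done))))))))))))))))))))) (Scr.cons (nat_lit 1) (nat_lit 1) (Step.D (nat_lit 8962) (Step.B (nat_lit 983) Step.done)) (Scr.cons (nat_lit 4) (nat_lit 0) (Step.L (Step.D (nat_lit 6048) (Step.F (nat_lit 984) (Step.U (nat_lit 5827) (Step.L (Step.D (nat_lit 8963) Step.done)))))) (Scr.cons (nat_lit 1) (nat_lit 0) (Step.D (nat_lit 8963) (Step.F (nat_lit 985) Step.done)) (Scr.cons (nat_lit 11) (nat_lit 0) (Step.U (nat_lit 5834) (Step.U (nat_lit 3292) (Step.D (nat_lit 3291) (Step.D (nat_lit 5832) (Step.D (nat_lit 8968) Step.done))))) (Scr.cons (nat_lit 11) (nat_lit 0) (Step.U (nat_lit 3439) (Step.L (Step.L (Step.L (Step.D (nat_lit 6049) Step.done))))) (Scr.cons (nat_lit 6) (nat_lit 1) (Step.L (Step.L (Step.L (Step.L (Step.L (Step.L (Step.L (Step.L (Step.L (Step.D (nat_lit 1714) (Step.D (nat_lit 3395) Step.done))))))))))) (Scr.cons (nat_lit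 12) (nat_lit 4) (Step.L (Step.L (Step.L (Step.L (Step.D (nat_lit 1714) Step.done))))) (Scr.cons (nat_lit 12) (nat_lit 4) (Step.U (nat_lit 3394) (Step.F (nat_lit 990) (Step.D (nat_lit 1714) (Step.D (nat_lit 3394) (Step.D (nat_lit 6002) Step.done))))) (Scr.cons (nat_lit 11) (nat_lit 0) (Step.U (nat_lit 4782) (Step.U (nat_lit 2598) (Step.D (nat_lit 2597) (Step.D (nat_lit 4780) (Step.D (nat_lit 7757) Step.done))))) (Scr.cons (nat_lit 9) (nat_lit 1) (Step.U (nat_lit 511) (Step.L (Step.L (Step.L (Step.L (Step.L (Step.L (Step.L (Step.L (Step.L (Step.L (Step.L (Step.L (Step.L (Step.L (Step.L (Step.L (Step.L (Step.L (Step.L (Step.L (Step.L (Step.D (nat_lit 1229) Step.done))))))))))))))))))))))) (Scr.cons (nat_lit 14) (nat_lit 3) (Step.F (nat_lit 992) (Step.U (nat_lit 4782) (Step.U (nat_lit 2598) (Step.U (nat_lit 1265) (Step.B (nat_lit 993) (Step.U (nat_lit 1229) (Step.L (Step.L (Step.L (Step.L (Step.L (Step.L (Step.L (Step.L (Step.L (Step.L (Step.L (Step.B (nat_lit 990) (Step.D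 (nat_lit 3394) (Step.D (nat_lit 6003) Step.done)))))))))))))))))))) (Scr.cons (nat_lit 12) (nat_lit 4) (Step.U (nat_lit 6003) (Step.D (nat_lit 6002) (Step.F (nat_lit 991) (Step.D (nat_lit 6003) (Step.F (nat_lit 994) Step.done))))) (Scr.cons (nat_lit 12) (nat_lit 4) (Step.U (nat_lit 511) (Step.L (Step.L (Step.D (nat_lit 511) (Step.D (nat_lit 1265) Step.done))))) (Scr.cons (nat_lit 13) (nat_lit 3) (Step.U (nat_lit 2936) (Step.L (Step.L (Step.L (Step.L (Step.L (Step.L (Step.D (nat_lit 511) (Step.B (nat_lit 996) (Step.D (nat_lit 2598) (Step.D (nat_lit 4781) Step.done))))))))))) (Scr.cons (nat_lit 14) (nat_lit 0) (Step.L (Step.L (Step.L (Step.L (Step.L (Step.L (Step.D (nat_lit 8970) (Step.F (nat_lit 982) (Step.F (nat_lit 988) (Step.U (nat_lit 3439) (Step.B (nat_lit 989) (Step.U (nat_lit 3395) (Step.D (nat_lit 3394) (Step.D (nat_lit 6003) (Step.B (nat_lit 995) (Step.F (nat_lit 992) (Step.U (nat_lit 4782) (Step.D (nat_lit 4781) (Step.F (nat_lit 997) (Step.D (nat_lit 5298) (Step.D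 (nat_lit 8334) Step.done))))))))))))))))))))) (Scr.cons (nat_lit 1) (nat_lit 0) (Step.D (nat_lit 8334) (Step.F (nat_lit 998) (Step.D (nat_lit 3292) Step.done))) (Scr.cons (nat_lit 1) (nat_lit 0) (Step.D (nat_lit 5298) (Step.B (nat_lit 999) (Step.D (nat_lit 5834) Step.done))) (Scr.cons (nat_lit 1) (nat_lit 0) (Step.F (nat_lit 987) (Step.F (nat_lit 1000) (Step.B (nat_lit 997) Step.done))) (Scr.cons (nat_lit 1) (nat_lit 0) (Step.D (nat_lit 8968) (Step.B (nat_lit 1001) (Step.D (nat_lit 7758) Step.done))) Scr.nil))))))))))))))))))))))))))))))))))))))))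
noncomputable def s25 : Scr := (Scr.cons (nat_lit 1) (nat_lit 0) (Step.D (nat_lit 7758) (Step.F (nat_lit 1002) Step.done)) (Scr.cons (nat_lit 12) (nat_lit 1) (Step.U (nat_lit 2598) (Step.F (nat_lit 996) (Step.D (nat_lit 1265) (Step.D (nat_lit 2598) (Step.D (nat_lit 4781) Step.done))))) (Scr.cons (nat_lit 16) (nat_lit 3) (Step.L (Step.L (Step.L (Step.L (Step.L (Step.L (Step.L (Step.L (Step.L (Step.L (Step.L (Step.D (nat_lit 3291) (Step.D (nat_lit 5832) (Step.F (nat_lit 1003) (Step.F (nat_lit 1004) (Step.U (nat_lit 2598) (Step.F (nat_lit 996) (Step.B (nat_lit 993) (Step.U (nat_lit 1229) (Step.L (Step.L (Step.L (Step.L Step.done))))))))))))))))))))))) (Scr.cons (nat_lit 12) (nat_lit 4) (Step.L (Step.L (Step.L (Step.L (Step.D (nat_lit 3259) Step.done))))) (Scr.cons (nat_lit 12) (nat_lit 4) (Step.L (Step.D (nat_lit 3259) (Step.F (nat_lit 1006) (Step.L (Step.D (nat_lit 5779) Step.done))))) (Scr.cons (nat_lit 12) (nat_lit 1) (Step.L (Step.L (Step.L (Step.L (Step.D (nat_lit 5432)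 Step.done))))) (Scr.cons (nat_lit 12) (nat_lit 1) (Step.L (Step.L (Step.L (Step.L (Step.D (nat_lit 736) Step.done))))) (Scr.cons (nat_lit 13) (nat_lit 0) (Step.U (nat_lit 1696) (Step.F (nat_lit 1009) (Step.L (Step.L (Step.L (Step.L (Step.L (Step.L (Step.L (Step.L (Step.D (nat_lit 3289) Step.done))))))))))) (Scr.cons (nat_lit 11) (nat_lit 0) (Step.U (nat_lit 5830) (Step.U (nat_lit 3290) (Step.D (nat_lit 3289) (Step.D (nat_lit 5828) (Step.D (nat_lit 8964) Step.done))))) (Scr.cons (nat_lit 16) (nat_lit 0) (Step.U (nat_lit 8511) (Step.F (nat_lit 1008) (Step.L (Step.L (Step.L (Step.L (Step.L (Step.L (Step.L (Step.L (Step.L (Step.L (Step.L (Step.L (Step.L (Step.L (Step.L (Step.D (nat_lit 736) (Step.D (nat_lit 1696) (Step.B (nat_lit 1010) (Step.D (nat_lit 5828) (Step.D (nat_lit 8964) (Step.F (nat_lit 1011) Step.done))))))))))))))))))))))) (Scr.cons (nat_lit 6) (nat_lit 1) (Step.L (Step.L (Step.L (Step.L (Step.L (Step.L (Step.L (Step.L (Step.L (Step.D (nat_lit 3259) (Step.D (nat_lit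 5778) Step.done))))))))))) (Scr.cons (nat_lit 8) (nat_lit 1) (Step.F (nat_lit 1013) (Step.L (Step.L (Step.L (Step.L (Step.L (Step.L (Step.L (Step.L (Step.L (Step.L (Step.L (Step.B (nat_lit 1008) (Step.D (nat_lit 8511) (Step.B (nat_lit 1012) (Step.B (nat_lit 1011) Step.done)))))))))))))))) (Scr.cons (nat_lit 1) (nat_lit 1) (Step.B (nat_lit 1011) (Step.F (nat_lit 1014) (Step.U (nat_lit 5778) Step.done))) (Scr.cons (nat_lit 0) (nat_lit 1) (Step.B (nat_lit 1012) (Step.B (nat_lit 1015) (Step.F (nat_lit 1006) Step.done))) (Scr.cons (nat_lit 1) (nat_lit 1) (Step.D (nat_lit 8511) (Step.B (nat_lit 1016) (Step.L Step.done))) (Scr.cons (nat_lit 0) (nat_lit 1) (Step.B (nat_lit 1008) (Step.B (nat_lit 1017) (Step.D (nat_lit 5779) Step.done))) (Scr.cons (nat_lit 0) (nat_lit 0) (Step.B (nat_lit 1007) (Step.F (nat_lit 1018) Step.done)) (Scr.cons (nat_lit 12) (nat_lit 1) (Step.U (nat_lit 3741) (Step.L (Step.L (Step.D (nat_lit 3741) (Step.D (nat_lit 6485) Step.done))))) (Scr.cons (nat_lit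 12) (nat_lit 1) (Step.U (nat_lit 676) (Step.L (Step.L (Step.D (nat_lit 676) (Step.D (nat_lit 1593) Step.done))))) (Scr.cons (nat_lit 12) (nat_lit 1) (Step.U (nat_lit 3170) (Step.F (nat_lit 1021) (Step.D (nat_lit 1593) (Step.D (nat_lit 3170) (Step.D (nat_lit 5614) Step.done))))) (Scr.cons (nat_lit 7) (nat_lit 0) (Step.U (nat_lit 675) (Step.L (Step.L (Step.L (Step.L (Step.L (Step.L (Step.L (Step.L (Step.L (Step.L (Step.L (Step.L (Step.L (Step.L (Step.L (Step.L (Step.D (nat_lit 187) (Step.D (nat_lit 536) (Step.D (nat_lit 1320) Step.done)))))))))))))))))))) (Scr.cons (nat_lit 4) (nat_lit 0) (Step.F (nat_lit 1023) (Step.U (nat_lit 675) (Step.L (Step.L (Step.D (nat_lit 676) Step.done))))) (Scr.cons (nat_lit 6) (nat_lit 0) (Step.U (nat_lit 5614) (Step.U (nat_lit 3170) (Step.F (nat_lit 1021) (Step.F (nat_lit 1024) (Step.U (nat_lit 1320) (Step.U (nat_lit 536) (Step.D (nat_lit 535) (Step.B (nat_lit 59) (Step.L (Step.L (Step.L Step.done))))))))))) (Scr.cons (nat_lit 4) (nat_lit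 0) (Step.L (Step.L (Step.L (Step.L (Step.F (nat_lit 1025) (Step.D (nat_lit 8709) Step.done)))))) (Scr.cons (nat_lit 1) (nat_lit 1) (Step.D (nat_lit 8709) (Step.F (nat_lit 1026) (Step.D (nat_lit 6517) Step.done))) (Scr.cons (nat_lit 1) (nat_lit 1) (Step.D (nat_lit 6517) (Step.F (nat_lit 1027) Step.done)) (Scr.cons (nat_lit 8) (nat_lit 0) (Step.L (Step.L (Step.L (Step.L (Step.L (Step.L (Step.D (nat_lit 676) (Step.B (nat_lit 1021) (Step.D (nat_lit 3170) (Step.B (nat_lit 1022) (Step.F (nat_lit 1028) (Step.L (Step.L (Step.L (Step.D (nat_lit 3741) (Step.B (nat_lit 1020) Step.done)))))))))))))))) (Scr.cons (nat_lit 0) (nat_lit 1) (Step.B (nat_lit 1020) (Step.F (nat_lit 1029) (Step.L Step.done))) (Scr.cons (nat_lit 1) (nat_lit 1) (Step.D (nat_lit 3741) (Step.B (nat_lit 1030) (Step.D (nat_lit 5652) Step.done))) (Scr.cons (nat_lit 1) (nat_lit 1) (Step.D (nat_lit 5652) (Step.F (nat_lit 1031) Step.done)) (Scr.cons (nat_lit 1) (nat_lit 0) (Step.D (nat_lit 5834) (Step.F (nat_lit 1000)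 Step.done)) (Scr.cons (nat_lit 6) (nat_lit 0) (Step.U (nat_lit 5833) (Step.U (nat_lit 3292) (Step.L (Step.L (Step.L (Step.L (Step.L (Step.L (Step.L (Step.L (Step.L Step.done))))))))))) (Scr.cons (nat_lit 15) (nat_lit 0) (Step.L (Step.L (Step.L (Step.L (Step.L (Step.L (Step.L (Step.L (Step.L (Step.D (nat_lit 2936) (Step.F (nat_lit 1033) (Step.D (nat_lit 5833) (Step.B (nat_lit 1034) (Step.L (Step.L Step.done))))))))))))))) (Scr.cons (nat_lit 7) (nat_lit 1) (Step.U (nat_lit 6104) (Step.L (Step.L (Step.L (Step.L (Step.L (Step.L (Step.L (Step.L (Step.L (Step.L (Step.L (Step.L (Step.L (Step.L (Step.L (Step.L (Step.L (Step.L (Step.D (nat_lit 8977) Step.done)))))))))))))))))))) (Scr.cons (nat_lit 11) (nat_lit 0) (Step.L (Step.D (nat_lit 6104) (Step.B (nat_lit 1036) (Step.U (nat_lit 8977) (Step.L Step.done))))) (Scr.cons (nat_lit 12) (nat_lit 4) (Step.L (Step.L (Step.L (Step.L (Step.D (nat_lit 5842) Step.done))))) (Scr.cons (nat_lit 12) (nat_lit 4) (Step.L (Step.D (nat_lit 5842)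 (Step.F (nat_lit 1038) (Step.L (Step.L Step.done))))) (Scr.cons (nat_lit 12) (nat_lit 1) (Step.L (Step.L (Step.L (Step.L (Step.D (nat_lit 5843) Step.done))))) (Scr.cons (nat_lit 12) (nat_lit 1) (Step.L (Step.D (nat_lit 5843) (Step.F (nat_lit 1040) (Step.L (Step.L Step.done))))) (Scr.cons (nat_lit 13) (nat_lit 0) (Step.L (Step.L (Step.L (Step.L (Step.L (Step.L (Step.L (Step.L (Step.L (Step.D (nat_lit 3305) (Step.D (nat_lit 5858) Step.done))))))))))) Scr.nil))))))))))))))))))))))))))))))))))))))))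
noncomputable def s26 : Scr := (Scr.cons (nat_lit 6) (nat_lit 3) (Step.L (Step.L (Step.L (Step.L (Step.L (Step.L (Step.L (Step.L (Step.L (Step.B (nat_lit 492) (Step.D (nat_lit 5858) Step.done))))))))))) (Scr.cons (nat_lit 12) (nat_lit 4) (Step.L (Step.B (nat_lit 1042) (Step.F (nat_lit 1043) (Step.L (Step.L Step.done))))) (Scr.cons (nat_lit 12) (nat_lit 1) (Step.L (Step.L (Step.L (Step.L (Step.D (nat_lit 5866) Step.done))))) (Scr.cons (nat_lit 12) (nat_lit 1) (Step.L (Step.D (nat_lit 5866) (Step.F (nat_lit 1045) (Step.L (Step.L Step.done))))) (Scr.cons (nat_lit 12) (nat_lit 4) (Step.L (Step.L (Step.L (Step.L (Step.D (nat_lit 5911) Step.done))))) (Scr.cons (nat_lit 12) (nat_lit 4) (Step.L (Step.D (nat_lit 5911) (Step.F (nat_lit 1047) (Step.L (Step.L Step.done))))) (Scr.cons (nat_lit 12) (nat_lit 1) (Step.L (Step.L (Step.L (Step.L (Step.D (nat_lit 5912) Step.done))))) (Scr.cons (nat_lit 12) (nat_lit 1) (Step.L (Step.D (nat_lit 5912) (Step.F (nat_lit 1049) (Step.L (Step.L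 Step.done))))) (Scr.cons (nat_lit 12) (nat_lit 1) (Step.L (Step.L (Step.L (Step.L (Step.D (nat_lit 5932) Step.done))))) (Scr.cons (nat_lit 12) (nat_lit 1) (Step.L (Step.D (nat_lit 5932) (Step.F (nat_lit 1051) (Step.L (Step.L Step.done))))) (Scr.cons (nat_lit 14) (nat_lit 4) (Step.U (nat_lit 5935) (Step.L (Step.L (Step.L (Step.L (Step.L (Step.L (Step.L (Step.L (Step.L (Step.L (Step.L (Step.L (Step.L (Step.L (Step.L (Step.L (Step.L (Step.L (Step.D (nat_lit 5944) Step.done)))))))))))))))))))) (Scr.cons (nat_lit 11) (nat_lit 0) (Step.F (nat_lit 1053) (Step.U (nat_lit 5935) (Step.L (Step.L (Step.L Step.done))))) (Scr.cons (nat_lit 12) (nat_lit 4) (Step.L (Step.L (Step.L (Step.L (Step.D (nat_lit 5944) Step.done))))) (Scr.cons (nat_lit 12) (nat_lit 1) (Step.F (nat_lit 1054) (Step.F (nat_lit 1055) (Step.D (nat_lit 5944) (Step.B (nat_lit 1054) (Step.L Step.done))))) (Scr.cons (nat_lit 12) (nat_lit 1) (Step.L (Step.L (Step.L (Step.L (Step.D (nat_lit 5952) Step.done))))) (Scr.cons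 (nat_lit 12) (nat_lit 1) (Step.L (Step.D (nat_lit 5952) (Step.F (nat_lit 1057) (Step.L (Step.L Step.done))))) (Scr.cons (nat_lit 12) (nat_lit 4) (Step.L (Step.L (Step.L (Step.L (Step.D (nat_lit 5961) Step.done))))) (Scr.cons (nat_lit 12) (nat_lit 4) (Step.L (Step.D (nat_lit 5961) (Step.F (nat_lit 1059) (Step.L (Step.L Step.done))))) (Scr.cons (nat_lit 12) (nat_lit 4) (Step.L (Step.L (Step.L (Step.L (Step.D (nat_lit 5971) Step.done))))) (Scr.cons (nat_lit 12) (nat_lit 4) (Step.L (Step.D (nat_lit 5971) (Step.F (nat_lit 1061) (Step.L (Step.L Step.done))))) (Scr.cons (nat_lit 12) (nat_lit 1) (Step.L (Step.L (Step.L (Step.L (Step.D (nat_lit 5991) Step.done))))) (Scr.cons (nat_lit 12) (nat_lit 1) (Step.L (Step.D (nat_lit 5991) (Step.F (nat_lit 1063) (Step.L (Step.L Step.done))))) (Scr.cons (nat_lit 12) (nat_lit 1) (Step.L (Step.L (Step.L (Step.L (Step.D (nat_lit 5992) Step.done))))) (Scr.cons (nat_lit 12) (nat_lit 1) (Step.L (Step.D (nat_lit 5992) (Step.F (nat_lit 1065) (Step.L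 (Step.L Step.done))))) (Scr.cons (nat_lit 12) (nat_lit 1) (Step.L (Step.L (Step.L (Step.L (Step.D (nat_lit 5995) Step.done))))) (Scr.cons (nat_lit 12) (nat_lit 1) (Step.L (Step.D (nat_lit 5995) (Step.F (nat_lit 1067) (Step.L (Step.L Step.done))))) (Scr.cons (nat_lit 12) (nat_lit 1) (Step.L (Step.L (Step.L (Step.L (Step.D (nat_lit 6022) Step.done))))) (Scr.cons (nat_lit 12) (nat_lit 1) (Step.L (Step.D (nat_lit 6022) (Step.F (nat_lit 1069) (Step.L (Step.L Step.done))))) (Scr.cons (nat_lit 12) (nat_lit 4) (Step.L (Step.L (Step.L (Step.L (Step.D (nat_lit 6033) Step.done))))) (Scr.cons (nat_lit 12) (nat_lit 4) (Step.L (Step.D (nat_lit 6033) (Step.F (nat_lit 1071) (Step.L (Step.L Step.done))))) (Scr.cons (nat_lit 12) (nat_lit 4) (Step.U (nat_lit 280) (Step.L (Step.L (Step.D (nat_lit 280) (Step.D (nat_lit 774) Step.done))))) (Scr.cons (nat_lit 4) (nat_lit 0) (Step.U (nat_lit 280) (Step.L (Step.L (Step.L (Step.D (nat_lit 748) Step.done))))) (Scr.cons (nat_lit 16) (nat_lit 0)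 (Step.U (nat_lit 1750) (Step.F (nat_lit 1073) (Step.B (nat_lit 1074) (Step.U (nat_lit 748) (Step.L (Step.L (Step.L (Step.L (Step.L (Step.L (Step.L (Step.L (Step.L (Step.L (Step.L (Step.L (Step.L (Step.L (Step.L (Step.L (Step.L (Step.D (nat_lit 1612) (Step.D (nat_lit 3202) Step.done))))))))))))))))))))))) (Scr.cons (nat_lit 11) (nat_lit 0) (Step.U (nat_lit 1613) (Step.L (Step.L (Step.D (nat_lit 1612) (Step.D (nat_lit 3202) Step.done))))) (Scr.cons (nat_lit 6) (nat_lit 1) (Step.L (Step.L (Step.L (Step.L (Step.D (nat_lit 280) (Step.D (nat_lit 774) (Step.D (nat_lit 1750) (Step.B (nat_lit 1075) (Step.F (nat_lit 1076) (Step.D (nat_lit 3203) (Step.D (nat_lit 5677) Step.done))))))))))) (Scr.cons (nat_lit 12) (nat_lit 4) (Step.U (nat_lit 1612) (Step.L (Step.L (Step.D (nat_lit 1612) (Step.D (nat_lit 3201) Step.done))))) (Scr.cons (nat_lit 12) (nat_lit 4) (Step.U (nat_lit 3202) (Step.D (nat_lit 3201) (Step.F (nat_lit 1078) (Step.D (nat_lit 3202) (Step.F (nat_lit 1075) Step.done)))))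 (Scr.cons (nat_lit 12) (nat_lit 1) (Step.U (nat_lit 1613) (Step.L (Step.L (Step.D (nat_lit 1613) (Step.D (nat_lit 3203) Step.done))))) (Scr.cons (nat_lit 13) (nat_lit 2) (Step.L (Step.L (Step.L (Step.L (Step.D (nat_lit 280) (Step.B (nat_lit 1073) (Step.D (nat_lit 1750) (Step.F (nat_lit 1079) (Step.F (nat_lit 1076) (Step.B (nat_lit 1080) (Step.D (nat_lit 5677) Step.done))))))))))) (Scr.cons (nat_lit 12) (nat_lit 1) (Step.L (Step.B (nat_lit 1077) (Step.F (nat_lit 1081) (Step.L (Step.L Step.done))))) Scr.nil))))))))))))))))))))))))))))))))))))))))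
noncomputable def s27 : Scr := (Scr.cons (nat_lit 12) (nat_lit 1) (Step.L (Step.L (Step.L (Step.L (Step.D (nat_lit 6044) Step.done))))) (Scr.cons (nat_lit 12) (nat_lit 1) (Step.L (Step.D (nat_lit 6044) (Step.F (nat_lit 1083) (Step.L (Step.L Step.done))))) (Scr.cons (nat_lit 4) (nat_lit 0) (Step.L (Step.L (Step.L (Step.L (Step.D (nat_lit 6043) Step.done))))) (Scr.cons (nat_lit 9) (nat_lit 5) (Step.L (Step.L (Step.L (Step.L (Step.L (Step.L (Step.L (Step.L (Step.L (Step.L (Step.L (Step.L (Step.L (Step.L (Step.L (Step.L (Step.L (Step.L (Step.L (Step.D (nat_lit 6043) (Step.F (nat_lit 1085) (Step.L (Step.L Step.done))))))))))))))))))))))) (Scr.cons (nat_lit 12) (nat_lit 4) (Step.L (Step.L (Step.L (Step.L (Step.D (nat_lit 6065) Step.done))))) (Scr.cons (nat_lit 12) (nat_lit 4) (Step.L (Step.D (nat_lit 6065) (Step.F (nat_lit 1087) (Step.L (Step.L Step.done))))) (Scr.cons (nat_lit 12) (nat_lit 1) (Step.U (nat_lit 284) (Step.L (Step.L (Step.D (nat_lit 284) (Step.D (nat_lit 783)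 Step.done))))) (Scr.cons (nat_lit 6) (nat_lit 1) (Step.L (Step.L (Step.L (Step.L (Step.L (Step.L (Step.D (nat_lit 284) (Step.B (nat_lit 1089) (Step.D (nat_lit 1760) (Step.D (nat_lit 3456) (Step.D (nat_lit 6070) Step.done))))))))))) (Scr.cons (nat_lit 12) (nat_lit 4) (Step.U (nat_lit 1760) (Step.F (nat_lit 1089) (Step.D (nat_lit 783) (Step.D (nat_lit 1760) (Step.D (nat_lit 3456) Step.done))))) (Scr.cons (nat_lit 13) (nat_lit 2) (Step.L (Step.L (Step.L (Step.L (Step.L (Step.L (Step.D (nat_lit 284) (Step.D (nat_lit 783) (Step.D (nat_lit 1760) (Step.B (nat_lit 1091) (Step.D (nat_lit 6070) Step.done))))))))))) (Scr.cons (nat_lit 12) (nat_lit 1) (Step.L (Step.B (nat_lit 1090) (Step.F (nat_lit 1092) (Step.L (Step.L Step.done))))) (Scr.cons (nat_lit 12) (nat_lit 1) (Step.L (Step.L (Step.L (Step.L (Step.D (nat_lit 6075) Step.done))))) (Scr.cons (nat_lit 12) (nat_lit 1) (Step.L (Step.D (nat_lit 6075) (Step.F (nat_lit 1094) (Step.L (Step.L Step.done))))) (Scr.cons (nat_lit 12) (nat_lit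 1) (Step.L (Step.L (Step.L (Step.L (Step.D (nat_lit 6077) Step.done))))) (Scr.cons (nat_lit 12) (nat_lit 1) (Step.L (Step.D (nat_lit 6077) (Step.F (nat_lit 1096) (Step.L (Step.L Step.done))))) (Scr.cons (nat_lit 12) (nat_lit 1) (Step.L (Step.L (Step.L (Step.L (Step.D (nat_lit 6081) Step.done))))) (Scr.cons (nat_lit 12) (nat_lit 1) (Step.L (Step.D (nat_lit 6081) (Step.F (nat_lit 1098) (Step.L (Step.L Step.done))))) (Scr.cons (nat_lit 12) (nat_lit 4) (Step.L (Step.L (Step.L (Step.L (Step.D (nat_lit 6095) Step.done))))) (Scr.cons (nat_lit 12) (nat_lit 4) (Step.L (Step.D (nat_lit 6095) (Step.F (nat_lit 1100) (Step.L (Step.L Step.done))))) (Scr.cons (nat_lit 12) (nat_lit 1) (Step.L (Step.L (Step.L (Step.L (Step.D (nat_lit 6099) Step.done))))) (Scr.cons (nat_lit 12) (nat_lit 1) (Step.L (Step.D (nat_lit 6099) (Step.F (nat_lit 1102) (Step.L (Step.L Step.done))))) (Scr.cons (nat_lit 12) (nat_lit 4) (Step.L (Step.L (Step.L (Step.L (Step.D (nat_lit 6100) Step.done))))) (Scr.cons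 (nat_lit 12) (nat_lit 4) (Step.L (Step.D (nat_lit 6100) (Step.F (nat_lit 1104) (Step.L (Step.L Step.done))))) (Scr.cons (nat_lit 11) (nat_lit 0) (Step.L (Step.L (Step.L (Step.D (nat_lit 3609) (Step.D (nat_lit 6308) Step.done))))) (Scr.cons (nat_lit 12) (nat_lit 4) (Step.L (Step.L (Step.L (Step.L (Step.D (nat_lit 9262) Step.done))))) (Scr.cons (nat_lit 14) (nat_lit 4) (Step.U (nat_lit 6340) (Step.U (nat_lit 3635) (Step.L (Step.L (Step.L (Step.L (Step.L (Step.L (Step.L (Step.L (Step.L (Step.L (Step.L (Step.L (Step.L (Step.L (Step.L (Step.L (Step.L (Step.D (nat_lit 9262) Step.done)))))))))))))))))))) (Scr.cons (nat_lit 11) (nat_lit 0) (Step.F (nat_lit 1108) (Step.U (nat_lit 6340) (Step.U (nat_lit 3635) (Step.L (Step.L Step.done))))) (Scr.cons (nat_lit 16) (nat_lit 2) (Step.F (nat_lit 1106) (Step.L (Step.L (Step.L (Step.L (Step.L (Step.L (Step.L (Step.L (Step.L (Step.L (Step.L (Step.L (Step.L (Step.L (Step.L (Step.L (Step.L (Step.L (Step.L (Step.F (nat_lit 1109) (Step.F (nat_lit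 1107) (Step.D (nat_lit 9263) Step.done))))))))))))))))))))))) (Scr.cons (nat_lit 12) (nat_lit 4) (Step.U (nat_lit 9263) (Step.D (nat_lit 9262) (Step.F (nat_lit 1107) (Step.D (nat_lit 9263) (Step.F (nat_lit 1110) Step.done))))) (Scr.cons (nat_lit 7) (nat_lit 1) (Step.U (nat_lit 6309) (Step.L (Step.L (Step.B (nat_lit 1106) (Step.F (nat_lit 1111) (Step.U (nat_lit 9263) (Step.L (Step.L (Step.L (Step.L (Step.L (Step.L (Step.L (Step.L (Step.L (Step.L (Step.L (Step.L (Step.L (Step.D (nat_lit 6109) Step.done)))))))))))))))))))) (Scr.cons (nat_lit 4) (nat_lit 0) (Step.L (Step.D (nat_lit 6109) (Step.F (nat_lit 1112) (Step.U (nat_lit 6309) (Step.L Step.done))))) (Scr.cons (nat_lit 12) (nat_lit 1) (Step.L (Step.L (Step.L (Step.L (Step.D (nat_lit 1765) Step.done))))) (Scr.cons (nat_lit 11) (nat_lit 0) (Step.U (nat_lit 6085) (Step.U (nat_lit 3464) (Step.D (nat_lit 3463) (Step.D (nat_lit 6084) (Step.D (nat_lit 9240) Step.done))))) (Scr.cons (nat_lit 12) (nat_lit 1) (Step.L (Step.L (Step.L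 (Step.L (Step.D (nat_lit 1843) Step.done))))) (Scr.cons (nat_lit 9) (nat_lit 2) (Step.L (Step.L (Step.L (Step.L (Step.L (Step.L (Step.L (Step.L (Step.L (Step.L (Step.L (Step.L (Step.L (Step.L (Step.L (Step.L (Step.L (Step.L (Step.L (Step.L (Step.L (Step.D (nat_lit 384) (Step.D (nat_lit 1008) Step.done))))))))))))))))))))))) (Scr.cons (nat_lit 14) (nat_lit 0) (Step.U (nat_lit 6293) (Step.U (nat_lit 3594) (Step.F (nat_lit 1116) (Step.L (Step.L (Step.L (Step.L (Step.L (Step.L (Step.L (Step.L (Step.L (Step.L (Step.L (Step.B (nat_lit 1117) (Step.U (nat_lit 1008) (Step.D (nat_lit 1007) (Step.D (nat_lit 2153) (Step.D (nat_lit 4101) (Step.D (nat_lit 6964) Step.done)))))))))))))))))))) (Scr.cons (nat_lit 12) (nat_lit 1) (Step.U (nat_lit 384) (Step.L (Step.L (Step.D (nat_lit 384) (Step.D (nat_lit 1007) Step.done))))) (Scr.cons (nat_lit 12) (nat_lit 4) (Step.U (nat_lit 2153) (Step.F (nat_lit 1119) (Step.D (nat_lit 1007) (Step.D (nat_lit 2153) (Step.D (nat_lit 4100) Step.done)))))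 (Scr.cons (nat_lit 12) (nat_lit 4) (Step.U (nat_lit 4101) (Step.D (nat_lit 4100) (Step.F (nat_lit 1120) (Step.D (nat_lit 4101) (Step.D (nat_lit 6963) Step.done))))) (Scr.cons (nat_lit 12) (nat_lit 3) (Step.B (nat_lit 1118) (Step.U (nat_lit 6964) (Step.D (nat_lit 6963) (Step.F (nat_lit 1121) (Step.D (nat_lit 6964) Step.done))))) Scr.nil))))))))))))))))))))))))))))))))))))))))
noncomputable def s28 : Scr := (Scr.cons (nat_lit 13) (nat_lit 0) (Step.L (Step.L (Step.L (Step.L (Step.L (Step.L (Step.L (Step.L (Step.L (Step.D (nat_lit 1843) (Step.D (nat_lit 3593) Step.done))))))))))) (Scr.cons (nat_lit 11) (nat_lit 0) (Step.U (nat_lit 6103) (Step.U (nat_lit 3480) (Step.L (Step.L (Step.D (nat_lit 9263) Step.done))))) (Scr.cons (nat_lit 14) (nat_lit 0) (Step.U (nat_lit 4100) (Step.D (nat_lit 4101) (Step.D (nat_lit 6964) (Step.F (nat_lit 1122) (Step.U (nat_lit 6293) (Step.U (nat_lit 3594) (Step.D (nat_lit 3593) (Step.F (nat_lit 1123) (Step.D (nat_lit 3609) (Step.D (nat_lit 6308)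 (Step.F (nat_lit 1111) (Step.F (nat_lit 1124) (Step.U (nat_lit 6103) (Step.U (nat_lit 3480) (Step.L (Step.L (Step.L (Step.D (nat_lit 1765) (Step.D (nat_lit 3463) (Step.D (nat_lit 6084) (Step.D (nat_lit 9240) Step.done))))))))))))))))))))) (Scr.cons (nat_lit 1) (nat_lit 1) (Step.B (nat_lit 1115) (Step.F (nat_lit 1125) (Step.D (nat_lit 6962) Step.done))) (Scr.cons (nat_lit 1) (nat_lit 1) (Step.D (nat_lit 6962) (Step.F (nat_lit 1126) Step.done)) (Scr.cons (nat_lit 9) (nat_lit 0) (Step.L (Step.L (Step.L (Step.L (Step.L (Step.L (Step.L (Step.L (Step.L (Step.L (Step.B (nat_lit 1114) (Step.D (nat_lit 3464) (Step.D (nat_lit 6085) (Step.F (nat_lit 1127) (Step.U (nat_lit 4100) (Step.U (nat_lit 2153) (Step.U (nat_lit 1007) (Step.D (nat_lit 1008) (Step.F (nat_lit 1117) (Step.L (Step.L (Step.L (Step.L Step.done))))))))))))))))))))))) (Scr.cons (nat_lit 12) (nat_lit 1) (Step.L (Step.L (Step.L (Step.L (Step.D (nat_lit 3546) Step.done))))) (Scr.cons (nat_lit 12) (nat_lit 1) (Step.L (Step.D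 (nat_lit 3546) (Step.F (nat_lit 1129) (Step.L (Step.D (nat_lit 6216) Step.done))))) (Scr.cons (nat_lit 12) (nat_lit 1) (Step.L (Step.D (nat_lit 5432) (Step.F (nat_lit 1008) (Step.L (Step.D (nat_lit 6523) Step.done))))) (Scr.cons (nat_lit 6) (nat_lit 3) (Step.L (Step.L (Step.L (Step.L (Step.L (Step.L (Step.L (Step.L (Step.L (Step.B (nat_lit 1129) (Step.D (nat_lit 6214) Step.done))))))))))) (Scr.cons (nat_lit 9) (nat_lit 2) (Step.U (nat_lit 3481) (Step.U (nat_lit 1776) (Step.L (Step.L (Step.L (Step.L (Step.L (Step.L (Step.L (Step.L (Step.L (Step.L (Step.L (Step.L (Step.L (Step.L (Step.L (Step.L (Step.L (Step.L (Step.L (Step.B (nat_lit 1132) (Step.U (nat_lit 6214) (Step.D (nat_lit 6215) Step.done)))))))))))))))))))))))) (Scr.cons (nat_lit 1) (nat_lit 1) (Step.D (nat_lit 6215) (Step.F (nat_lit 1133) (Step.D (nat_lit 6106) Step.done))) (Scr.cons (nat_lit 1) (nat_lit 1) (Step.D (nat_lit 6106) (Step.F (nat_lit 1134) Step.done)) (Scr.cons (nat_lit 12) (nat_lit 1) (Step.U (nat_lit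 3290) (Step.L (Step.L (Step.D (nat_lit 3290) (Step.D (nat_lit 5829) Step.done))))) (Scr.cons (nat_lit 15) (nat_lit 1) (Step.F (nat_lit 1136) (Step.U (nat_lit 3290) (Step.L (Step.L (Step.L (Step.L (Step.L (Step.L (Step.L (Step.L (Step.L (Step.L (Step.D (nat_lit 1776) (Step.D (nat_lit 3481) (Step.D (nat_lit 6105) Step.done))))))))))))))) (Scr.cons (nat_lit 1) (nat_lit 1) (Step.D (nat_lit 5830) (Step.B (nat_lit 1015) (Step.D (nat_lit 5777) Step.done))) (Scr.cons (nat_lit 1) (nat_lit 1) (Step.D (nat_lit 5777) (Step.F (nat_lit 1138) Step.done)) (Scr.cons (nat_lit 13) (nat_lit 3) (Step.L (Step.B (nat_lit 1129) (Step.F (nat_lit 1135) (Step.D (nat_lit 6105) (Step.F (nat_lit 1137) (Step.U (nat_lit 5829) (Step.F (nat_lit 1139) (Step.F (nat_lit 1006) (Step.L (Step.L (Step.L (Step.D (nat_lit 6523) Step.done)))))))))))) (Scr.cons (nat_lit 0) (nat_lit 1) (Step.B (nat_lit 1131) (Step.F (nat_lit 1140) (Step.D (nat_lit 6216) Step.done))) (Scr.cons (nat_lit 0) (nat_lit 0) (Step.B (nat_lit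 1130) (Step.F (nat_lit 1141) Step.done)) (Scr.cons (nat_lit 12) (nat_lit 4) (Step.L (Step.L (Step.L (Step.L (Step.D (nat_lit 5422) Step.done))))) (Scr.cons (nat_lit 12) (nat_lit 1) (Step.U (nat_lit 5436) (Step.L (Step.L (Step.D (nat_lit 5436) (Step.D (nat_lit 8515) Step.done))))) (Scr.cons (nat_lit 14) (nat_lit 4) (Step.U (nat_lit 958) (Step.L (Step.L (Step.L (Step.L (Step.L (Step.L (Step.L (Step.L (Step.L (Step.L (Step.L (Step.L (Step.L (Step.L (Step.L (Step.L (Step.D (nat_lit 134) (Step.D (nat_lit 398) (Step.D (nat_lit 1035) Step.done)))))))))))))))))))) (Scr.cons (nat_lit 11) (nat_lit 0) (Step.F (nat_lit 1145) (Step.U (nat_lit 958) (Step.L (Step.L (Step.D (nat_lit 957) Step.done))))) (Scr.cons (nat_lit 12) (nat_lit 4) (Step.U (nat_lit 134) (Step.L (Step.L (Step.D (nat_lit 134) (Step.D (nat_lit 397) Step.done))))) (Scr.cons (nat_lit 12) (nat_lit 4) (Step.U (nat_lit 398) (Step.D (nat_lit 397) (Step.F (nat_lit 1147) (Step.D (nat_lit 398) (Step.D (nat_lit 1035) Step.done)))))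 (Scr.cons (nat_lit 12) (nat_lit 1) (Step.F (nat_lit 1146) (Step.F (nat_lit 1148) (Step.D (nat_lit 1035) (Step.B (nat_lit 1146) (Step.D (nat_lit 2063) Step.done))))) (Scr.cons (nat_lit 12) (nat_lit 4) (Step.U (nat_lit 3964) (Step.F (nat_lit 1149) (Step.D (nat_lit 2063) (Step.D (nat_lit 3964) (Step.D (nat_lit 6793) Step.done))))) (Scr.cons (nat_lit 11) (nat_lit 0) (Step.U (nat_lit 5436) (Step.L (Step.L (Step.L (Step.D (nat_lit 8514) Step.done))))) (Scr.cons (nat_lit 12) (nat_lit 4) (Step.L (Step.L (Step.L (Step.L (Step.D (nat_lit 860) Step.done))))) (Scr.cons (nat_lit 9) (nat_lit 2) (Step.U (nat_lit 397) (Step.U (nat_lit 134) (Step.L (Step.L (Step.L (Step.L (Step.L (Step.L (Step.L (Step.L (Step.L (Step.L (Step.L (Step.L (Step.L (Step.L (Step.L (Step.L (Step.L (Step.L (Step.L (Step.L (Step.D (nat_lit 822) Step.done))))))))))))))))))))))) (Scr.cons (nat_lit 15) (nat_lit 1) (Step.L (Step.L (Step.L (Step.L (Step.L (Step.L (Step.L (Step.L (Step.L (Step.D (nat_lit 134) (Step.D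 (nat_lit 397) (Step.B (nat_lit 1153) (Step.D (nat_lit 1820) (Step.D (nat_lit 3555) (Step.D (nat_lit 6225) Step.done))))))))))))))) (Scr.cons (nat_lit 11) (nat_lit 0) (Step.B (nat_lit 1153) (Step.U (nat_lit 822) (Step.L (Step.L (Step.D (nat_lit 821) Step.done))))) (Scr.cons (nat_lit 6) (nat_lit 1) (Step.U (nat_lit 1874) (Step.F (nat_lit 1152) (Step.L (Step.L (Step.L (Step.L (Step.L (Step.L (Step.L (Step.D (nat_lit 1776) (Step.D (nat_lit 3482) Step.done))))))))))) (Scr.cons (nat_lit 12) (nat_lit 4) (Step.L (Step.L (Step.L (Step.L (Step.D (nat_lit 1776) Step.done))))) (Scr.cons (nat_lit 13) (nat_lit 2) (Step.U (nat_lit 1874) (Step.U (nat_lit 860) (Step.L (Step.L (Step.L (Step.L (Step.L (Step.L (Step.L (Step.B (nat_lit 1157) (Step.D (nat_lit 3482) Step.done))))))))))) (Scr.cons (nat_lit 12) (nat_lit 1) (Step.U (nat_lit 3643) (Step.B (nat_lit 1156) (Step.F (nat_lit 1158) (Step.D (nat_lit 3643) (Step.D (nat_lit 6349) Step.done))))) (Scr.cons (nat_lit 9) (nat_lit 0) (Step.U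 (nat_lit 7050) (Step.B (nat_lit 1154) (Step.U (nat_lit 6225) (Step.U (nat_lit 3555) (Step.U (nat_lit 1820) (Step.F (nat_lit 1153) (Step.B (nat_lit 1155) (Step.U (nat_lit 821) (Step.L (Step.L (Step.L (Step.L (Step.L (Step.L (Step.L (Step.L (Step.B (nat_lit 1129) (Step.F (nat_lit 1135) (Step.U (nat_lit 3481) (Step.D (nat_lit 3482) (Step.F (nat_lit 1156) (Step.D (nat_lit 3643) (Step.B (nat_lit 1159) Step.done))))))))))))))))))))))) (Scr.cons (nat_lit 7) (nat_lit 0) (Step.U (nat_lit 8514) (Step.L (Step.L (Step.L (Step.L (Step.L (Step.L (Step.L (Step.L (Step.L (Step.B (nat_lit 1152) (Step.D (nat_lit 1874) (Step.D (nat_lit 3643) (Step.D (nat_lit 6349) (Step.F (nat_lit 1160) (Step.U (nat_lit 7050) (Step.B (nat_lit 1154) (Step.U (nat_lit 6225) (Step.U (nat_lit 3555) (Step.D (nat_lit 3556) (Step.D (nat_lit 6226) Step.done))))))))))))))))))))) (Scr.cons (nat_lit 12) (nat_lit 1) (Step.U (nat_lit 822) (Step.L (Step.L (Step.D (nat_lit 822) (Step.D (nat_lit 1820) Step.done))))) Scr.nil))))))))))))))))))))))))))))))))))))))))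
noncomputable def s29 : Scr := (Scr.cons (nat_lit 6) (nat_lit 0) (Step.U (nat_lit 6226) (Step.U (nat_lit 3556) (Step.F (nat_lit 1162) (Step.F (nat_lit 1153) (Step.U (nat_lit 397) (Step.D (nat_lit 398) (Step.D (nat_lit 1035) (Step.B (nat_lit 1146) (Step.B (nat_lit 1149) (Step.D (nat_lit 3964) (Step.D (nat_lit 6793) Step.done))))))))))) (Scr.cons (nat_lit 1) (nat_lit 1) (Step.B (nat_lit 1151) (Step.B (nat_lit 1161) (Step.B (nat_lit 1163) Step.done))) (Scr.cons (nat_lit 0) (nat_lit 1) (Step.B (nat_lit 1150) (Step.F (nat_lit 1164) (Step.D (nat_lit 8515) Step.done))) (Scr.cons (nat_lit 0) (nat_lit 0) (Step.B (nat_lit 1144) (Step.F (nat_lit 1165) Step.done)) (Scr.cons (nat_lit 15) (nat_lit 0) (Step.L (Step.L (Step.L (Step.L (Step.L (Step.D (nat_lit 957) (Step.D (nat_lit 2063) (Step.D (nat_lit 3964) (Step.F (nat_lit 1166) (Step.U (nat_lit 5436) (Step.L (Step.L (Step.L (Step.L (Step.D (nat_lit 5422) (Step.D (nat_lit 8497) Step.done)))))))))))))))) (Scr.cons (nat_lit 1) (nat_lit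 0) (Step.D (nat_lit 8497) (Step.F (nat_lit 1167) (Step.L Step.done))) (Scr.cons (nat_lit 0) (nat_lit 1) (Step.B (nat_lit 1143) (Step.B (nat_lit 1168) (Step.D (nat_lit 3960) Step.done))) (Scr.cons (nat_lit 0) (nat_lit 0) (Step.B (nat_lit 619) (Step.F (nat_lit 1169) Step.done)) (Scr.cons (nat_lit 12) (nat_lit 1) (Step.L (Step.L (Step.L (Step.L (Step.D (nat_lit 6111) Step.done))))) (Scr.cons (nat_lit 12) (nat_lit 1) (Step.L (Step.D (nat_lit 6111) (Step.F (nat_lit 1171) (Step.L (Step.L Step.done))))) (Scr.cons (nat_lit 12) (nat_lit 1) (Step.L (Step.L (Step.L (Step.L (Step.D (nat_lit 6128) Step.done))))) (Scr.cons (nat_lit 12) (nat_lit 1) (Step.L (Step.D (nat_lit 6128) (Step.F (nat_lit 1173) (Step.L (Step.L Step.done))))) (Scr.cons (nat_lit 12) (nat_lit 1) (Step.L (Step.L (Step.L (Step.L (Step.D (nat_lit 3552) Step.done))))) (Scr.cons (nat_lit 12) (nat_lit 1) (Step.L (Step.L (Step.L (Step.L (Step.D (nat_lit 6186) Step.done))))) (Scr.cons (nat_lit 16) (nat_lit 1) (Step.F (nat_lit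 1176) (Step.L (Step.L (Step.L (Step.L (Step.L (Step.L (Step.L (Step.L (Step.L (Step.L (Step.L (Step.L (Step.L (Step.L (Step.L (Step.L (Step.L (Step.L (Step.L (Step.L (Step.L (Step.D (nat_lit 3552) Step.done))))))))))))))))))))))) (Scr.cons (nat_lit 6) (nat_lit 0) (Step.L (Step.L (Step.L (Step.L (Step.B (nat_lit 1175) (Step.F (nat_lit 1177) (Step.F (nat_lit 1176) (Step.L (Step.L (Step.L (Step.L Step.done))))))))))) (Scr.cons (nat_lit 12) (nat_lit 4) (Step.L (Step.L (Step.L (Step.L (Step.D (nat_lit 6200) Step.done))))) (Scr.cons (nat_lit 12) (nat_lit 4) (Step.L (Step.D (nat_lit 6200) (Step.F (nat_lit 1179) (Step.L (Step.L Step.done))))) (Scr.cons (nat_lit 13) (nat_lit 0) (Step.L (Step.L (Step.L (Step.L (Step.L (Step.L (Step.L (Step.L (Step.D (nat_lit 881) (Step.D (nat_lit 1909) (Step.D (nat_lit 3703) Step.done))))))))))) (Scr.cons (nat_lit 6) (nat_lit 3) (Step.L (Step.L (Step.L (Step.L (Step.L (Step.L (Step.L (Step.L (Step.D (nat_lit 881) (Step.B (nat_lit 593) (Step.D (nat_lit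 3703) Step.done))))))))))) (Scr.cons (nat_lit 12) (nat_lit 4) (Step.L (Step.B (nat_lit 1181) (Step.F (nat_lit 1182) (Step.L (Step.L Step.done))))) (Scr.cons (nat_lit 12) (nat_lit 4) (Step.L (Step.L (Step.L (Step.L (Step.D (nat_lit 6227) Step.done))))) (Scr.cons (nat_lit 12) (nat_lit 4) (Step.L (Step.D (nat_lit 6227) (Step.F (nat_lit 1184) (Step.L (Step.L Step.done))))) (Scr.cons (nat_lit 12) (nat_lit 1) (Step.L (Step.L (Step.L (Step.L (Step.D (nat_lit 6228) Step.done))))) (Scr.cons (nat_lit 12) (nat_lit 1) (Step.L (Step.D (nat_lit 6228) (Step.F (nat_lit 1186) (Step.L (Step.L Step.done))))) (Scr.cons (nat_lit 12) (nat_lit 1) (Step.L (Step.L (Step.L (Step.L (Step.D (nat_lit 6246) Step.done))))) (Scr.cons (nat_lit 12) (nat_lit 1) (Step.L (Step.D (nat_lit 6246) (Step.F (nat_lit 1188) (Step.L (Step.L Step.done))))) (Scr.cons (nat_lit 12) (nat_lit 1) (Step.L (Step.L (Step.L (Step.L (Step.D (nat_lit 6257) Step.done))))) (Scr.cons (nat_lit 12) (nat_lit 1) (Step.L (Step.D (nat_lit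 6257) (Step.F (nat_lit 1190) (Step.L (Step.L Step.done))))) (Scr.cons (nat_lit 12) (nat_lit 1) (Step.L (Step.L (Step.L (Step.L (Step.D (nat_lit 4062) Step.done))))) (Scr.cons (nat_lit 11) (nat_lit 0) (Step.U (nat_lit 2186) (Step.D (nat_lit 2185) (Step.F (nat_lit 114) (Step.F (nat_lit 111) (Step.D (nat_lit 3576) Step.done))))) (Scr.cons (nat_lit 12) (nat_lit 1) (Step.U (nat_lit 1836) (Step.F (nat_lit 106) (Step.D (nat_lit 835) (Step.D (nat_lit 1836) (Step.D (nat_lit 3580) Step.done))))) (Scr.cons (nat_lit 12) (nat_lit 4) (Step.U (nat_lit 6268) (Step.F (nat_lit 1194) (Step.D (nat_lit 3580) (Step.D (nat_lit 6268) (Step.D (nat_lit 9445) Step.done))))) (Scr.cons (nat_lit 13) (nat_lit 0) (Step.L (Step.L (Step.L (Step.L (Step.L (Step.L (Step.L (Step.L (Step.L (Step.D (nat_lit 5703) (Step.D (nat_lit 8808) Step.done))))))))))) (Scr.cons (nat_lit 7) (nat_lit 2) (Step.F (nat_lit 1196) (Step.L (Step.L (Step.L (Step.L (Step.L (Step.L (Step.L (Step.L (Step.L (Step.L (Step.L (Step.L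 (Step.L (Step.B (nat_lit 108) (Step.B (nat_lit 110) (Step.D (nat_lit 1836) (Step.D (nat_lit 3580) (Step.D (nat_lit 6269) (Step.D (nat_lit 9447) Step.done)))))))))))))))))))) (Scr.cons (nat_lit 11) (nat_lit 0) (Step.D (nat_lit 8808) (Step.B (nat_lit 1197) (Step.U (nat_lit 9447) (Step.U (nat_lit 6269) (Step.D (nat_lit 6268) (Step.D (nat_lit 9446) Step.done)))))) (Scr.cons (nat_lit 1) (nat_lit 0) (Step.D (nat_lit 9446) (Step.F (nat_lit 1198) (Step.D (nat_lit 8809) Step.done))) (Scr.cons (nat_lit 1) (nat_lit 0) (Step.D (nat_lit 8809) (Step.F (nat_lit 1199) Step.done)) (Scr.cons (nat_lit 12) (nat_lit 1) (Step.L (Step.L (Step.L (Step.L (Step.D (nat_lit 5703) Step.done))))) (Scr.cons (nat_lit 15) (nat_lit 1) (Step.F (nat_lit 1195) (Step.F (nat_lit 1200) (Step.F (nat_lit 1201) (Step.L (Step.L (Step.L (Step.L (Step.L (Step.L (Step.L (Step.L (Step.L (Step.L (Step.D (nat_lit 5696) (Step.D (nat_lit 8801) Step.done))))))))))))))) Scr.nil))))))))))))))))))))))))))))))))))))))))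
noncomputable def s30 : Scr := (Scr.cons (nat_lit 12) (nat_lit 1) (Step.U (nat_lit 2186) (Step.L (Step.L (Step.D (nat_lit 2186) (Step.D (nat_lit 4148) Step.done))))) (Scr.cons (nat_lit 12) (nat_lit 1) (Step.F (nat_lit 1193) (Step.D (nat_lit 4148) (Step.F (nat_lit 1203) (Step.B (nat_lit 1193) (Step.D (nat_lit 6264) Step.done))))) (Scr.cons (nat_lit 13) (nat_lit 2) (Step.D (nat_lit 8801) (Step.F (nat_lit 1202) (Step.U (nat_lit 9445) (Step.U (nat_lit 6268) (Step.F (nat_lit 1194) (Step.U (nat_lit 1836) (Step.U (nat_lit 835) (Step.B (nat_lit 105) (Step.D (nat_lit 1834) (Step.D (nat_lit 3576) (Step.B (nat_lit 1204) (Step.D (nat_lit 9440) Step.done)))))))))))) (Scr.cons (nat_lit 1) (nat_lit 1) (Step.D (nat_lit 9440) (Step.F (nat_lit 1205) (Step.D (nat_lit 8802) Step.done))) (Scr.cons (nat_lit 1) (nat_lit 1) (Step.D (nat_lit 8802) (Step.F (nat_lit 1206) Step.done)) (Scr.cons (nat_lit 12) (nat_lit 1) (Step.L (Step.L (Step.L (Step.L (Step.D (nat_lit 8803) Step.done))))) (Scr.cons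 (nat_lit 7) (nat_lit 4) (Step.U (nat_lit 6917) (Step.F (nat_lit 1192) (Step.L (Step.L (Step.L (Step.L (Step.L (Step.L (Step.L (Step.L (Step.L (Step.L (Step.L (Step.D (nat_lit 2186) (Step.B (nat_lit 1193) (Step.D (nat_lit 6264) (Step.F (nat_lit 1207) (Step.U (nat_lit 5696) (Step.L (Step.B (nat_lit 1208) Step.done)))))))))))))))))))) (Scr.cons (nat_lit 12) (nat_lit 1) (Step.L (Step.L (Step.L (Step.L (Step.D (nat_lit 1921) Step.done))))) (Scr.cons (nat_lit 12) (nat_lit 1) (Step.L (Step.D (nat_lit 1921) (Step.F (nat_lit 1210) (Step.L (Step.D (nat_lit 3729) Step.done))))) (Scr.cons (nat_lit 14) (nat_lit 2) (Step.F (nat_lit 1192) (Step.L (Step.L (Step.L (Step.L (Step.L (Step.L (Step.L (Step.L (Step.L (Step.L (Step.L (Step.L (Step.L (Step.L (Step.L (Step.L (Step.L (Step.B (nat_lit 1211) (Step.D (nat_lit 6469) Step.done)))))))))))))))))))) (Scr.cons (nat_lit 4) (nat_lit 0) (Step.F (nat_lit 1209) (Step.U (nat_lit 6917) (Step.B (nat_lit 1212) (Step.U (nat_lit 6469) (Step.D (nat_lit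 6470) Step.done))))) (Scr.cons (nat_lit 6) (nat_lit 3) (Step.F (nat_lit 1213) (Step.U (nat_lit 8803) (Step.L (Step.L (Step.L (Step.L (Step.L (Step.L (Step.L (Step.L (Step.D (nat_lit 8805) Step.done))))))))))) (Scr.cons (nat_lit 16) (nat_lit 3) (Step.L (Step.D (nat_lit 8805) (Step.F (nat_lit 1214) (Step.U (nat_lit 6470) (Step.F (nat_lit 1211) (Step.L (Step.L (Step.L (Step.L (Step.L (Step.L (Step.L (Step.L (Step.L (Step.L (Step.L (Step.L (Step.L (Step.L (Step.L (Step.L (Step.L (Step.L Step.done))))))))))))))))))))))) (Scr.cons (nat_lit 12) (nat_lit 1) (Step.L (Step.L (Step.L (Step.L (Step.D (nat_lit 6274) Step.done))))) (Scr.cons (nat_lit 12) (nat_lit 1) (Step.L (Step.D (nat_lit 6274) (Step.F (nat_lit 1216) (Step.L (Step.L Step.done))))) (Scr.cons (nat_lit 12) (nat_lit 1) (Step.L (Step.L (Step.L (Step.L (Step.D (nat_lit 6285) Step.done))))) (Scr.cons (nat_lit 12) (nat_lit 1) (Step.L (Step.D (nat_lit 6285) (Step.F (nat_lit 1218) (Step.L (Step.L Step.done))))) (Scr.cons (nat_lit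 12) (nat_lit 4) (Step.L (Step.L (Step.L (Step.L (Step.D (nat_lit 6304) Step.done))))) (Scr.cons (nat_lit 12) (nat_lit 4) (Step.L (Step.D (nat_lit 6304) (Step.F (nat_lit 1220) (Step.L (Step.L Step.done))))) (Scr.cons (nat_lit 12) (nat_lit 4) (Step.U (nat_lit 312) (Step.L (Step.L (Step.D (nat_lit 312) (Step.D (nat_lit 846) Step.done))))) (Scr.cons (nat_lit 13) (nat_lit 0) (Step.L (Step.L (Step.L (Step.L (Step.L (Step.L (Step.D (nat_lit 312) (Step.B (nat_lit 1222) (Step.D (nat_lit 1853) (Step.D (nat_lit 3607) (Step.D (nat_lit 6306) Step.done))))))))))) (Scr.cons (nat_lit 12) (nat_lit 1) (Step.U (nat_lit 1853) (Step.F (nat_lit 1222) (Step.D (nat_lit 846) (Step.D (nat_lit 1853) (Step.D (nat_lit 3607) Step.done))))) (Scr.cons (nat_lit 6) (nat_lit 3) (Step.L (Step.L (Step.L (Step.L (Step.L (Step.L (Step.D (nat_lit 312) (Step.D (nat_lit 846) (Step.D (nat_lit 1853) (Step.B (nat_lit 1224) (Step.D (nat_lit 6306) Step.done))))))))))) (Scr.cons (nat_lit 12) (nat_lit 4) (Step.L (Step.B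 (nat_lit 1223) (Step.F (nat_lit 1225) (Step.L (Step.L Step.done))))) (Scr.cons (nat_lit 14) (nat_lit 5) (Step.U (nat_lit 3915) (Step.L (Step.L (Step.L (Step.L (Step.L (Step.L (Step.L (Step.L (Step.L (Step.L (Step.L (Step.L (Step.L (Step.L (Step.L (Step.L (Step.L (Step.L (Step.D (nat_lit 6316) Step.done)))))))))))))))))))) (Scr.cons (nat_lit 11) (nat_lit 0) (Step.U (nat_lit 1863) (Step.U (nat_lit 853) (Step.L (Step.L (Step.D (nat_lit 3619) Step.done))))) (Scr.cons (nat_lit 12) (nat_lit 1) (Step.U (nat_lit 853) (Step.L (Step.L (Step.D (nat_lit 853) (Step.D (nat_lit 1862) Step.done))))) (Scr.cons (nat_lit 12) (nat_lit 1) (Step.U (nat_lit 1863) (Step.D (nat_lit 1862) (Step.F (nat_lit 1229) (Step.D (nat_lit 1863) (Step.D (nat_lit 3622) Step.done))))) (Scr.cons (nat_lit 12) (nat_lit 1) (Step.F (nat_lit 1228) (Step.D (nat_lit 3622) (Step.F (nat_lit 1230) (Step.B (nat_lit 1228) (Step.D (nat_lit 6318) Step.done))))) (Scr.cons (nat_lit 16) (nat_lit 1) (Step.F (nat_lit 1231) (Step.F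 (nat_lit 1228) (Step.U (nat_lit 1863) (Step.U (nat_lit 853) (Step.L (Step.L (Step.L (Step.L (Step.L (Step.L (Step.L (Step.L (Step.L (Step.L (Step.L (Step.L (Step.L (Step.L (Step.L (Step.L (Step.L (Step.L (Step.L Step.done))))))))))))))))))))))) (Scr.cons (nat_lit 6) (nat_lit 0) (Step.L (Step.L (Step.L (Step.L (Step.L (Step.F (nat_lit 1232) (Step.F (nat_lit 1231) (Step.U (nat_lit 3619) (Step.L (Step.D (nat_lit 6316) (Step.D (nat_lit 9483) Step.done))))))))))) (Scr.cons (nat_lit 7) (nat_lit 1) (Step.L (Step.L (Step.L (Step.L (Step.L (Step.L (Step.L (Step.L (Step.L (Step.L (Step.L (Step.L (Step.L (Step.L (Step.L (Step.L (Step.D (nat_lit 3915) (Step.B (nat_lit 1227) (Step.D (nat_lit 9483) (Step.F (nat_lit 1233) Step.done)))))))))))))))))))) (Scr.cons (nat_lit 12) (nat_lit 1) (Step.L (Step.L (Step.L (Step.L (Step.D (nat_lit 6323) Step.done))))) (Scr.cons (nat_lit 12) (nat_lit 1) (Step.L (Step.D (nat_lit 6323) (Step.F (nat_lit 1235) (Step.L (Step.L Step.done))))) (Scr.cons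 (nat_lit 12) (nat_lit 1) (Step.L (Step.L (Step.L (Step.L (Step.D (nat_lit 3623) Step.done))))) (Scr.cons (nat_lit 12) (nat_lit 1) (Step.L (Step.D (nat_lit 3623) (Step.F (nat_lit 1237) (Step.L (Step.D (nat_lit 6324) Step.done))))) (Scr.cons (nat_lit 12) (nat_lit 1) (Step.L (Step.D (nat_lit 6324) (Step.F (nat_lit 1238) (Step.L (Step.L Step.done))))) (Scr.cons (nat_lit 12) (nat_lit 4) (Step.L (Step.L (Step.L (Step.L (Step.D (nat_lit 6327) Step.done))))) (Scr.cons (nat_lit 12) (nat_lit 4) (Step.L (Step.D (nat_lit 6327) (Step.F (nat_lit 1240) (Step.L (Step.L Step.done))))) (Scr.cons (nat_lit 12) (nat_lit 4) (Step.U (nat_lit 826) (Step.L (Step.L (Step.D (nat_lit 826) (Step.D (nat_lit 1828) Step.done))))) Scr.nil))))))))))))))))))))))))))))))))))))))))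
noncomputable def s31 : Scr := (Scr.cons (nat_lit 15) (nat_lit 0) (Step.L (Step.L (Step.L (Step.L (Step.L (Step.L (Step.L (Step.L (Step.L (Step.L (Step.L (Step.L (Step.D (nat_lit 826) (Step.D (nat_lit 1828) (Step.D (nat_lit 3570) Step.done))))))))))))))) (Scr.cons (nat_lit 12) (nat_lit 4) (Step.U (nat_lit 3570) (Step.F (nat_lit 1242) (Step.D (nat_lit 1828) (Step.D (nat_lit 3570) (Step.F (nat_lit 1243) Step.done))))) (Scr.cons (nat_lit 12) (nat_lit 1) (Step.L (Step.F (nat_lit 1244) (Step.F (nat_lit 1243) (Step.L (Step.D (nat_lit 6328) Step.done))))) (Scr.cons (nat_lit 12) (nat_lit 1) (Step.L (Step.D (nat_lit 6328) (Step.F (nat_lit 1245) (Step.L (Step.L Step.done))))) (Scr.cons (nat_lit 12) (nat_lit 4) (Step.L (Step.L (Step.L (Step.L (Step.D (nat_lit 6334) Step.done))))) (Scr.cons (nat_lit 12) (nat_lit 4) (Step.L (Step.D (nat_lit 6334) (Step.F (nat_lit 1247) (Step.L (Step.L Step.done))))) (Scr.cons (nat_lit 12) (nat_lit 4) (Step.L (Step.L (Step.L (Step.L (Step.D (nat_lit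 6350) Step.done))))) (Scr.cons (nat_lit 12) (nat_lit 4) (Step.L (Step.D (nat_lit 6350) (Step.F (nat_lit 1249) (Step.L (Step.L Step.done))))) (Scr.cons (nat_lit 12) (nat_lit 4) (Step.L (Step.L (Step.L (Step.L (Step.D (nat_lit 6354) Step.done))))) (Scr.cons (nat_lit 12) (nat_lit 4) (Step.L (Step.D (nat_lit 6354) (Step.F (nat_lit 1251) (Step.L (Step.L Step.done))))) (Scr.cons (nat_lit 12) (nat_lit 4) (Step.L (Step.L (Step.L (Step.L (Step.D (nat_lit 6368) Step.done))))) (Scr.cons (nat_lit 12) (nat_lit 4) (Step.L (Step.D (nat_lit 6368) (Step.F (nat_lit 1253) (Step.L (Step.L Step.done))))) (Scr.cons (nat_lit 12) (nat_lit 1) (Step.L (Step.L (Step.L (Step.L (Step.D (nat_lit 6369) Step.done))))) (Scr.cons (nat_lit 12) (nat_lit 1) (Step.L (Step.D (nat_lit 6369) (Step.F (nat_lit 1255) (Step.L (Step.L Step.done))))) (Scr.cons (nat_lit 12) (nat_lit 1) (Step.L (Step.L (Step.L (Step.L (Step.D (nat_lit 6371) Step.done))))) (Scr.cons (nat_lit 12) (nat_lit 1) (Step.L (Step.D (nat_lit 6371)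 (Step.F (nat_lit 1257) (Step.L (Step.L Step.done))))) (Scr.cons (nat_lit 12) (nat_lit 4) (Step.L (Step.L (Step.L (Step.L (Step.D (nat_lit 6387) Step.done))))) (Scr.cons (nat_lit 12) (nat_lit 4) (Step.L (Step.D (nat_lit 6387) (Step.F (nat_lit 1259) (Step.L (Step.L Step.done))))) (Scr.cons (nat_lit 12) (nat_lit 4) (Step.L (Step.L (Step.L (Step.L (Step.D (nat_lit 6394) Step.done))))) (Scr.cons (nat_lit 12) (nat_lit 4) (Step.L (Step.D (nat_lit 6394) (Step.F (nat_lit 1261) (Step.L (Step.L Step.done))))) (Scr.cons (nat_lit 12) (nat_lit 4) (Step.L (Step.L (Step.L (Step.L (Step.D (nat_lit 6395) Step.done))))) (Scr.cons (nat_lit 12) (nat_lit 4) (Step.L (Step.D (nat_lit 6395) (Step.F (nat_lit 1263) (Step.L (Step.L Step.done))))) (Scr.cons (nat_lit 12) (nat_lit 1) (Step.L (Step.L (Step.L (Step.L (Step.D (nat_lit 6400) Step.done))))) (Scr.cons (nat_lit 12) (nat_lit 1) (Step.L (Step.D (nat_lit 6400) (Step.F (nat_lit 1265) (Step.L (Step.L Step.done))))) (Scr.cons (nat_lit 12) (nat_lit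 1) (Step.L (Step.L (Step.L (Step.L (Step.D (nat_lit 6407) Step.done))))) (Scr.cons (nat_lit 12) (nat_lit 1) (Step.L (Step.D (nat_lit 6407) (Step.F (nat_lit 1267) (Step.L (Step.L Step.done))))) (Scr.cons (nat_lit 12) (nat_lit 1) (Step.L (Step.L (Step.L (Step.L (Step.D (nat_lit 6423) Step.done))))) (Scr.cons (nat_lit 12) (nat_lit 1) (Step.L (Step.D (nat_lit 6423) (Step.F (nat_lit 1269) (Step.L (Step.L Step.done))))) (Scr.cons (nat_lit 12) (nat_lit 4) (Step.L (Step.L (Step.L (Step.L (Step.D (nat_lit 6424) Step.done))))) (Scr.cons (nat_lit 12) (nat_lit 4) (Step.L (Step.D (nat_lit 6424) (Step.F (nat_lit 1271) (Step.L (Step.L Step.done))))) (Scr.cons (nat_lit 12) (nat_lit 1) (Step.L (Step.L (Step.L (Step.L (Step.D (nat_lit 6446) Step.done))))) (Scr.cons (nat_lit 12) (nat_lit 1) (Step.L (Step.D (nat_lit 6446) (Step.F (nat_lit 1273) (Step.L (Step.L Step.done))))) (Scr.cons (nat_lit 13) (nat_lit 0) (Step.L (Step.L (Step.L (Step.L (Step.L (Step.L (Step.L (Step.L (Step.L (Step.L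 (Step.D (nat_lit 5099) Step.done))))))))))) (Scr.cons (nat_lit 6) (nat_lit 3) (Step.L (Step.L (Step.L (Step.L (Step.L (Step.L (Step.L (Step.L (Step.L (Step.L (Step.D (nat_lit 5099) Step.done))))))))))) (Scr.cons (nat_lit 12) (nat_lit 4) (Step.L (Step.B (nat_lit 1275) (Step.F (nat_lit 1276) (Step.L (Step.L Step.done))))) (Scr.cons (nat_lit 11) (nat_lit 0) (Step.L (Step.L (Step.L (Step.L (Step.D (nat_lit 3726) Step.done))))) (Scr.cons (nat_lit 16) (nat_lit 2) (Step.L (Step.L (Step.L (Step.L (Step.L (Step.L (Step.L (Step.L (Step.L (Step.L (Step.L (Step.L (Step.L (Step.L (Step.L (Step.L (Step.L (Step.L (Step.L (Step.D (nat_lit 3726) (Step.F (nat_lit 1278) (Step.L (Step.L Step.done))))))))))))))))))))))) (Scr.cons (nat_lit 12) (nat_lit 1) (Step.L (Step.L (Step.L (Step.L (Step.D (nat_lit 6474) Step.done))))) (Scr.cons (nat_lit 12) (nat_lit 1) (Step.L (Step.D (nat_lit 6474) (Step.F (nat_lit 1280) (Step.L (Step.L Step.done))))) (Scr.cons (nat_lit 12) (nat_lit 4) (Step.L (Step.L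 (Step.L (Step.L (Step.D (nat_lit 6483) Step.done))))) Scr.nil))))))))))))))))))))))))))))))))))))))))
noncomputable def s32 : Scr := (Scr.cons (nat_lit 12) (nat_lit 4) (Step.L (Step.D (nat_lit 6483) (Step.F (nat_lit 1282) (Step.L (Step.L Step.done))))) (Scr.cons (nat_lit 12) (nat_lit 4) (Step.L (Step.L (Step.L (Step.L (Step.D (nat_lit 6503) Step.done))))) (Scr.cons (nat_lit 12) (nat_lit 4) (Step.L (Step.D (nat_lit 6503) (Step.F (nat_lit 1284) (Step.L (Step.L Step.done))))) (Scr.cons (nat_lit 12) (nat_lit 4) (Step.L (Step.L (Step.L (Step.L (Step.D (nat_lit 6510) Step.done))))) (Scr.cons (nat_lit 12) (nat_lit 4) (Step.L (Step.D (nat_lit 6510) (Step.F (nat_lit 1286) (Step.L (Step.L Step.done))))) (Scr.cons (nat_lit 12) (nat_lit 1) (Step.U (nat_lit 332) (Step.L (Step.L (Step.D (nat_lit 332) (Step.D (nat_lit 900) Step.done))))) (Scr.cons (nat_lit 6) (nat_lit 1) (Step.L (Step.L (Step.L (Step.L (Step.L (Step.L (Step.D (nat_lit 332) (Step.B (nat_lit 1288) (Step.D (nat_lit 1944)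 (Step.D (nat_lit 3759) (Step.D (nat_lit 6506) Step.done))))))))))) (Scr.cons (nat_lit 12) (nat_lit 4) (Step.U (nat_lit 1944) (Step.F (nat_lit 1288) (Step.D (nat_lit 900) (Step.D (nat_lit 1944) (Step.D (nat_lit 3759) Step.done))))) (Scr.cons (nat_lit 13) (nat_lit 2) (Step.L (Step.L (Step.L (Step.L (Step.L (Step.L (Step.D (nat_lit 332) (Step.D (nat_lit 900) (Step.D (nat_lit 1944) (Step.B (nat_lit 1290) (Step.D (nat_lit 6506) Step.done))))))))))) (Scr.cons (nat_lit 12) (nat_lit 1) (Step.L (Step.B (nat_lit 1289) (Step.F (nat_lit 1291) (Step.L (Step.L Step.done))))) (Scr.cons (nat_lit 12) (nat_lit 4) (Step.L (Step.L (Step.L (Step.L (Step.D (nat_lit 6519) Step.done))))) (Scr.cons (nat_lit 12) (nat_lit 4) (Step.L (Step.D (nat_lit 6519) (Step.F (nat_lit 1293) (Step.L (Step.L Step.done))))) (Scr.cons (nat_lit 12) (nat_lit 1) (Step.L (Step.L (Step.L (Step.L (Step.D (nat_lit 6527) Step.done))))) (Scr.cons (nat_lit 12) (nat_lit 1) (Step.L (Step.D (nat_lit 6527) (Step.F (nat_lit 1295)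 (Step.L (Step.L Step.done))))) (Scr.cons (nat_lit 12) (nat_lit 4) (Step.L (Step.L (Step.L (Step.L (Step.D (nat_lit 9354) Step.done))))) (Scr.cons (nat_lit 12) (nat_lit 4) (Step.U (nat_lit 569) (Step.L (Step.L (Step.D (nat_lit 569) (Step.F (nat_lit 44) Step.done))))) (Scr.cons (nat_lit 12) (nat_lit 1) (Step.U (nat_lit 1348) (Step.F (nat_lit 1298) (Step.F (nat_lit 44) (Step.D (nat_lit 1348) (Step.D (nat_lit 2743) Step.done))))) (Scr.cons (nat_lit 13) (nat_lit 3) (Step.U (nat_lit 7992) (Step.U (nat_lit 4985) (Step.F (nat_lit 1299) (Step.U (nat_lit 1348) (Step.B (nat_lit 44) (Step.U (nat_lit 569) (Step.L (Step.L (Step.L (Step.L (Step.D (nat_lit 8130) Step.done))))))))))) (Scr.cons (nat_lit 12) (nat_lit 4) (Step.U (nat_lit 4985) (Step.F (nat_lit 1299) (Step.D (nat_lit 2743) (Step.D (nat_lit 4985) (Step.D (nat_lit 7992) Step.done))))) (Scr.cons (nat_lit 11) (nat_lit 0) (Step.L (Step.L (Step.L (Step.L (Step.D (nat_lit 3777) Step.done))))) (Scr.cons (nat_lit 12) (nat_lit 1) (Step.L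 (Step.L (Step.L (Step.L (Step.D (nat_lit 1184) Step.done))))) (Scr.cons (nat_lit 12) (nat_lit 1) (Step.U (nat_lit 2465) (Step.F (nat_lit 1303) (Step.D (nat_lit 1184) (Step.D (nat_lit 2465) (Step.D (nat_lit 4580) Step.done))))) (Scr.cons (nat_lit 16) (nat_lit 4) (Step.U (nat_lit 7534) (Step.F (nat_lit 1304) (Step.U (nat_lit 2465) (Step.F (nat_lit 1303) (Step.L (Step.L (Step.L (Step.L (Step.L (Step.L (Step.L (Step.L (Step.L (Step.L (Step.L (Step.L (Step.L (Step.L (Step.L (Step.L (Step.D (nat_lit 2498) (Step.D (nat_lit 4621) (Step.D (nat_lit 7581) Step.done))))))))))))))))))))))) (Scr.cons (nat_lit 12) (nat_lit 4) (Step.U (nat_lit 2464) (Step.F (nat_lit 1303) (Step.D (nat_lit 1184) (Step.D (nat_lit 2464) (Step.D (nat_lit 4578) Step.done))))) (Scr.cons (nat_lit 14) (nat_lit 3) (Step.U (nat_lit 2805) (Step.L (Step.L (Step.L (Step.L (Step.L (Step.L (Step.L (Step.L (Step.L (Step.L (Step.L (Step.L (Step.L (Step.L (Step.L (Step.L (Step.B (nat_lit 1303) (Step.D (nat_lit 2464) (Step.D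 (nat_lit 4579) Step.done)))))))))))))))))))) (Scr.cons (nat_lit 12) (nat_lit 4) (Step.U (nat_lit 4579) (Step.D (nat_lit 4578) (Step.F (nat_lit 1306) (Step.D (nat_lit 4579) (Step.F (nat_lit 1307) Step.done))))) (Scr.cons (nat_lit 12) (nat_lit 4) (Step.U (nat_lit 2804) (Step.L (Step.L (Step.D (nat_lit 2804) (Step.D (nat_lit 5086) Step.done))))) (Scr.cons (nat_lit 12) (nat_lit 4) (Step.U (nat_lit 5087) (Step.D (nat_lit 5086) (Step.F (nat_lit 1309) (Step.D (nat_lit 5087) (Step.D (nat_lit 8100) Step.done))))) (Scr.cons (nat_lit 12) (nat_lit 4) (Step.L (Step.L (Step.L (Step.L (Step.D (nat_lit 582) Step.done))))) (Scr.cons (nat_lit 6) (nat_lit 1) (Step.U (nat_lit 1405) (Step.F (nat_lit 1311) (Step.L (Step.L (Step.L (Step.L (Step.L (Step.L (Step.L (Step.L (Step.L Step.done))))))))))) (Scr.cons (nat_lit 11) (nat_lit 0) (Step.U (nat_lit 2855) (Step.U (nat_lit 1405) (Step.D (nat_lit 1404) (Step.D (nat_lit 2854) (Step.D (nat_lit 5156) Step.done))))) (Scr.cons (nat_lit 11) (nat_lit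 0) (Step.L (Step.L (Step.L (Step.L (Step.D (nat_lit 3781) Step.done))))) (Scr.cons (nat_lit 14) (nat_lit 0) (Step.L (Step.L (Step.L (Step.L (Step.L (Step.L (Step.L (Step.L (Step.L (Step.L (Step.L (Step.L (Step.L (Step.L (Step.L (Step.L (Step.L (Step.L (Step.D (nat_lit 1816) (Step.D (nat_lit 3542) Step.done)))))))))))))))))))) (Scr.cons (nat_lit 11) (nat_lit 0) (Step.L (Step.L (Step.L (Step.D (nat_lit 1816) (Step.D (nat_lit 3542) Step.done))))) (Scr.cons (nat_lit 16) (nat_lit 0) (Step.F (nat_lit 1314) (Step.B (nat_lit 1315) (Step.F (nat_lit 1316) (Step.L (Step.L (Step.L (Step.L (Step.L (Step.L (Step.L (Step.L (Step.L (Step.L (Step.L (Step.L (Step.L (Step.L (Step.L (Step.L (Step.D (nat_lit 582) (Step.D (nat_lit 1404) (Step.D (nat_lit 2854) (Step.D (nat_lit 5156) Step.done))))))))))))))))))))))) (Scr.cons (nat_lit 12) (nat_lit 1) (Step.F (nat_lit 1302) (Step.L (Step.L (Step.B (nat_lit 1302) (Step.D (nat_lit 6534) Step.done))))) (Scr.cons (nat_lit 7) (nat_lit 5) (Step.F (nat_lit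 1310) (Step.U (nat_lit 5087) (Step.U (nat_lit 2804) (Step.L (Step.F (nat_lit 1312) (Step.D (nat_lit 2855) (Step.B (nat_lit 1313) (Step.F (nat_lit 1317) (Step.U (nat_lit 3781) (Step.L (Step.L (Step.L (Step.L (Step.L (Step.L (Step.L (Step.L (Step.B (nat_lit 1302) (Step.B (nat_lit 1318) (Step.D (nat_lit 9683) Step.done)))))))))))))))))))) (Scr.cons (nat_lit 14) (nat_lit 0) (Step.F (nat_lit 1305) (Step.U (nat_lit 7534) (Step.F (nat_lit 1304) (Step.U (nat_lit 2465) (Step.D (nat_lit 2464) (Step.D (nat_lit 4579) (Step.B (nat_lit 1308) (Step.U (nat_lit 2805) (Step.L (Step.L (Step.L (Step.L (Step.L (Step.L (Step.D (nat_lit 2804) (Step.D (nat_lit 5087) (Step.D (nat_lit 8100) (Step.B (nat_lit 1319) (Step.U (nat_lit 9683) (Step.D (nat_lit 9682) Step.done)))))))))))))))))))) (Scr.cons (nat_lit 12) (nat_lit 4) (Step.U (nat_lit 2498) (Step.L (Step.L (Step.D (nat_lit 2498) (Step.D (nat_lit 4621) Step.done))))) (Scr.cons (nat_lit 12) (nat_lit 4) (Step.U (nat_lit 4622) (Step.D (nat_lit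 4621) (Step.F (nat_lit 1321) (Step.D (nat_lit 4622) (Step.D (nat_lit 7582) Step.done))))) Scr.nil))))))))))))))))))))))))))))))))))))))))
noncomputable def s33 : Scr := (Scr.cons (nat_lit 7) (nat_lit 2) (Step.U (nat_lit 7582) (Step.U (nat_lit 4622) (Step.U (nat_lit 2498) (Step.L (Step.L (Step.L (Step.L (Step.L (Step.L (Step.L (Step.L (Step.L (Step.L (Step.L (Step.B (nat_lit 43) (Step.D (nat_lit 551) (Step.D (nat_lit 1348) (Step.D (nat_lit 2743) (Step.D (nat_lit 4986) (Step.D (nat_lit 7994) Step.done)))))))))))))))))))) (Scr.cons (nat_lit 11) (nat_lit 0) (Step.B (nat_lit 1323) (Step.U (nat_lit 7994) (Step.U (nat_lit 4986) (Step.D (nat_lit 4985) (Step.D (nat_lit 7993) Step.done))))) (Scr.cons (nat_lit 13) (nat_lit 2) (Step.U (nat_lit 6535) (Step.L (Step.B (nat_lit 1302) (Step.D (nat_lit 6534) (Step.D (nat_lit 9682) (Step.F (nat_lit 1320) (Step.U (nat_lit 7581) (Step.F (nat_lit 1321) (Step.D (nat_lit 4622) (Step.B (nat_lit 1322) (Step.B (nat_lit 1324) Step.done)))))))))))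 (Scr.cons (nat_lit 15) (nat_lit 1) (Step.L (Step.D (nat_lit 8130) (Step.F (nat_lit 1300) (Step.F (nat_lit 1301) (Step.D (nat_lit 7993) (Step.F (nat_lit 1325) (Step.U (nat_lit 6535) (Step.L (Step.L (Step.L (Step.L (Step.L (Step.L (Step.L (Step.L (Step.D (nat_lit 9354) Step.done)))))))))))))))) (Scr.cons (nat_lit 0) (nat_lit 0) (Step.B (nat_lit 1297) (Step.F (nat_lit 1326) Step.done)) (Scr.cons (nat_lit 13) (nat_lit 2) (Step.L (Step.L (Step.L (Step.B (nat_lit 277) (Step.U (nat_lit 1954) (Step.L (Step.L (Step.L (Step.L (Step.L (Step.L Step.done))))))))))) (Scr.cons (nat_lit 6) (nat_lit 1) (Step.L (Step.L (Step.L (Step.L (Step.L (Step.L (Step.L (Step.L (Step.D (nat_lit 1953) (Step.D (nat_lit 3779) (Step.D (nat_lit 6541) Step.done))))))))))) (Scr.cons (nat_lit 12) (nat_lit 4) (Step.U (nat_lit 1953) (Step.L (Step.L (Step.D (nat_lit 1953) (Step.D (nat_lit 3779) Step.done))))) (Scr.cons (nat_lit 13) (nat_lit 2) (Step.L (Step.L (Step.L (Step.L (Step.L (Step.L (Step.L (Step.L (Step.D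 (nat_lit 1953) (Step.B (nat_lit 1330) (Step.D (nat_lit 6541) Step.done))))))))))) (Scr.cons (nat_lit 12) (nat_lit 1) (Step.L (Step.B (nat_lit 1329) (Step.F (nat_lit 1331) (Step.L (Step.L Step.done))))) (Scr.cons (nat_lit 12) (nat_lit 4) (Step.L (Step.L (Step.L (Step.L (Step.D (nat_lit 6543) Step.done))))) (Scr.cons (nat_lit 12) (nat_lit 4) (Step.L (Step.D (nat_lit 6543) (Step.F (nat_lit 1333) (Step.L (Step.L Step.done))))) (Scr.cons (nat_lit 12) (nat_lit 1) (Step.L (Step.L (Step.L (Step.L (Step.D (nat_lit 6594) Step.done))))) (Scr.cons (nat_lit 12) (nat_lit 1) (Step.L (Step.D (nat_lit 6594) (Step.F (nat_lit 1335) (Step.L (Step.L Step.done))))) (Scr.cons (nat_lit 16) (nat_lit 5) (Step.L (Step.L (Step.L (Step.L (Step.L (Step.L (Step.L (Step.L (Step.L (Step.L (Step.L (Step.L (Step.L (Step.L (Step.L (Step.L (Step.L (Step.L (Step.L (Step.L (Step.L (Step.L (Step.D (nat_lit 9767) Step.done))))))))))))))))))))))) (Scr.cons (nat_lit 4) (nat_lit 0) (Step.B (nat_lit 1337) (Step.U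 (nat_lit 9767) (Step.L (Step.L (Step.L Step.done))))) (Scr.cons (nat_lit 12) (nat_lit 1) (Step.L (Step.L (Step.L (Step.L (Step.D (nat_lit 6625) Step.done))))) (Scr.cons (nat_lit 12) (nat_lit 1) (Step.L (Step.D (nat_lit 6625) (Step.F (nat_lit 1339) (Step.L (Step.L Step.done))))) (Scr.cons (nat_lit 12) (nat_lit 1) (Step.L (Step.L (Step.L (Step.L (Step.D (nat_lit 6627) Step.done))))) (Scr.cons (nat_lit 12) (nat_lit 1) (Step.L (Step.D (nat_lit 6627) (Step.F (nat_lit 1341) (Step.L (Step.L Step.done))))) (Scr.cons (nat_lit 13) (nat_lit 0) (Step.L (Step.L (Step.L (Step.L (Step.L (Step.L (Step.L (Step.B (nat_lit 97) (Step.D (nat_lit 1999) (Step.D (nat_lit 3849) (Step.D (nat_lit 6631) Step.done))))))))))) (Scr.cons (nat_lit 12) (nat_lit 1) (Step.U (nat_lit 1999) (Step.F (nat_lit 97) (Step.D (nat_lit 926) (Step.D (nat_lit 1999) (Step.D (nat_lit 3849) Step.done))))) (Scr.cons (nat_lit 6) (nat_lit 3) (Step.L (Step.L (Step.L (Step.L (Step.L (Step.L (Step.L (Step.D (nat_lit 926) (Step.D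 (nat_lit 1999) (Step.B (nat_lit 1344) (Step.D (nat_lit 6631) Step.done))))))))))) (Scr.cons (nat_lit 12) (nat_lit 4) (Step.L (Step.B (nat_lit 1343) (Step.F (nat_lit 1345) (Step.L (Step.L Step.done))))) (Scr.cons (nat_lit 12) (nat_lit 1) (Step.L (Step.L (Step.L (Step.L (Step.D (nat_lit 6632) Step.done))))) (Scr.cons (nat_lit 12) (nat_lit 1) (Step.L (Step.D (nat_lit 6632) (Step.F (nat_lit 1347) (Step.L (Step.L Step.done))))) (Scr.cons (nat_lit 15) (nat_lit 0) (Step.L (Step.L (Step.L (Step.L (Step.L (Step.L (Step.L (Step.L (Step.L (Step.F (nat_lit 297) (Step.F (nat_lit 296) (Step.L (Step.L (Step.L (Step.L Step.done))))))))))))))) (Scr.cons (nat_lit 12) (nat_lit 1) (Step.L (Step.L (Step.L (Step.L (Step.D (nat_lit 6645) Step.done))))) (Scr.cons (nat_lit 12) (nat_lit 1) (Step.L (Step.D (nat_lit 6645) (Step.F (nat_lit 1350) (Step.L (Step.L Step.done))))) (Scr.cons (nat_lit 6) (nat_lit 1) (Step.L (Step.L (Step.L (Step.L (Step.L (Step.L (Step.L (Step.B (nat_lit 1114) (Step.D (nat_lit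 3463) (Step.D (nat_lit 6083) (Step.D (nat_lit 9239) Step.done))))))))))) (Scr.cons (nat_lit 12) (nat_lit 4) (Step.U (nat_lit 3463) (Step.F (nat_lit 1114) (Step.D (nat_lit 1765) (Step.D (nat_lit 3463) (Step.D (nat_lit 6083) Step.done))))) (Scr.cons (nat_lit 6) (nat_lit 0) (Step.U (nat_lit 3872) (Step.L (Step.L (Step.L (Step.L (Step.L (Step.L (Step.D (nat_lit 384) (Step.B (nat_lit 1119) (Step.D (nat_lit 2153) (Step.D (nat_lit 4100) Step.done))))))))))) (Scr.cons (nat_lit 1) (nat_lit 0) (Step.D (nat_lit 9240) (Step.F (nat_lit 1125) (Step.F (nat_lit 1354) Step.done))) (Scr.cons (nat_lit 1) (nat_lit 0) (Step.D (nat_lit 6084) (Step.B (nat_lit 1355) (Step.D (nat_lit 6667) Step.done))) (Scr.cons (nat_lit 1) (nat_lit 0) (Step.D (nat_lit 6667) (Step.F (nat_lit 1356) Step.done)) (Scr.cons (nat_lit 15) (nat_lit 0) (Step.L (Step.B (nat_lit 1352) (Step.U (nat_lit 9239) (Step.F (nat_lit 1353) (Step.F (nat_lit 1357) (Step.F (nat_lit 603) (Step.L (Step.L (Step.L (Step.L (Step.L (Step.L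 (Step.L (Step.L (Step.L Step.done))))))))))))))) (Scr.cons (nat_lit 12) (nat_lit 4) (Step.L (Step.L (Step.L (Step.L (Step.D (nat_lit 6659) Step.done))))) (Scr.cons (nat_lit 12) (nat_lit 4) (Step.L (Step.D (nat_lit 6659) (Step.F (nat_lit 1359) (Step.L (Step.L Step.done))))) (Scr.cons (nat_lit 8) (nat_lit 1) (Step.L (Step.L (Step.L (Step.L (Step.L (Step.L (Step.L (Step.L (Step.L (Step.L (Step.L (Step.L (Step.L (Step.L (Step.D (nat_lit 6661) Step.done))))))))))))))) (Scr.cons (nat_lit 12) (nat_lit 0) (Step.B (nat_lit 1361) (Step.U (nat_lit 6661) (Step.L (Step.L (Step.D (nat_lit 6661) Step.done))))) Scr.nil))))))))))))))))))))))))))))))))))))))))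
noncomputable def s34 : Scr := (Scr.cons (nat_lit 12) (nat_lit 4) (Step.L (Step.B (nat_lit 1361) (Step.F (nat_lit 1362) (Step.L (Step.L Step.done))))) (Scr.cons (nat_lit 12) (nat_lit 1) (Step.L (Step.L (Step.L (Step.L (Step.D (nat_lit 6699) Step.done))))) (Scr.cons (nat_lit 12) (nat_lit 1) (Step.L (Step.D (nat_lit 6699) (Step.F (nat_lit 1364) (Step.L (Step.L Step.done))))) (Scr.cons (nat_lit 12) (nat_lit 4) (Step.L (Step.L (Step.L (Step.L (Step.D (nat_lit 6714) Step.done))))) (Scr.cons (nat_lit 12) (nat_lit 4) (Step.L (Step.D (nat_lit 6714) (Step.F (nat_lit 1366) (Step.L (Step.L Step.done))))) (Scr.cons (nat_lit 12) (nat_lit 4) (Step.L (Step.L (Step.L (Step.L (Step.D (nat_lit 6723) Step.done))))) (Scr.cons (nat_lit 12) (nat_lit 4) (Step.L (Step.D (nat_lit 6723) (Step.F (nat_lit 1368) (Step.L (Step.L Step.done))))) (Scr.cons (nat_lit 12) (nat_lit 1) (Step.L (Step.L (Step.L (Step.L (Step.D (nat_lit 6724) Step.done))))) (Scr.cons (nat_lit 12) (nat_lit 1) (Step.L (Step.D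 (nat_lit 6724) (Step.F (nat_lit 1370) (Step.L (Step.L Step.done))))) (Scr.cons (nat_lit 12) (nat_lit 1) (Step.L (Step.L (Step.L (Step.L (Step.D (nat_lit 6728) Step.done))))) (Scr.cons (nat_lit 12) (nat_lit 1) (Step.L (Step.D (nat_lit 6728) (Step.F (nat_lit 1372) (Step.L (Step.L Step.done))))) (Scr.cons (nat_lit 12) (nat_lit 4) (Step.L (Step.L (Step.L (Step.L (Step.D (nat_lit 6743) Step.done))))) (Scr.cons (nat_lit 12) (nat_lit 4) (Step.L (Step.D (nat_lit 6743) (Step.F (nat_lit 1374) (Step.L (Step.L Step.done))))) (Scr.cons (nat_lit 12) (nat_lit 4) (Step.L (Step.L (Step.L (Step.L (Step.D (nat_lit 6769) Step.done))))) (Scr.cons (nat_lit 12) (nat_lit 4) (Step.L (Step.D (nat_lit 6769) (Step.F (nat_lit 1376) (Step.L (Step.L Step.done))))) (Scr.cons (nat_lit 12) (nat_lit 4) (Step.L (Step.L (Step.L (Step.L (Step.D (nat_lit 6778) Step.done))))) (Scr.cons (nat_lit 12) (nat_lit 4) (Step.L (Step.D (nat_lit 6778) (Step.F (nat_lit 1378) (Step.L (Step.L Step.done))))) (Scr.cons (nat_lit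 12) (nat_lit 1) (Step.L (Step.L (Step.L (Step.L (Step.D (nat_lit 6784) Step.done))))) (Scr.cons (nat_lit 12) (nat_lit 1) (Step.L (Step.D (nat_lit 6784) (Step.F (nat_lit 1380) (Step.L (Step.L Step.done))))) (Scr.cons (nat_lit 12) (nat_lit 4) (Step.L (Step.L (Step.L (Step.L (Step.D (nat_lit 6789) Step.done))))) (Scr.cons (nat_lit 12) (nat_lit 4) (Step.L (Step.D (nat_lit 6789) (Step.F (nat_lit 1382) (Step.L (Step.L Step.done))))) (Scr.cons (nat_lit 12) (nat_lit 4) (Step.L (Step.L (Step.L (Step.L (Step.D (nat_lit 6794) Step.done))))) (Scr.cons (nat_lit 12) (nat_lit 4) (Step.L (Step.D (nat_lit 6794) (Step.F (nat_lit 1384) (Step.L (Step.L Step.done))))) (Scr.cons (nat_lit 12) (nat_lit 1) (Step.L (Step.L (Step.L (Step.L (Step.D (nat_lit 6815) Step.done))))) (Scr.cons (nat_lit 12) (nat_lit 1) (Step.L (Step.D (nat_lit 6815) (Step.F (nat_lit 1386) (Step.L (Step.L Step.done))))) (Scr.cons (nat_lit 12) (nat_lit 4) (Step.L (Step.L (Step.L (Step.L (Step.D (nat_lit 6816) Step.done)))))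 (Scr.cons (nat_lit 12) (nat_lit 4) (Step.L (Step.D (nat_lit 6816) (Step.F (nat_lit 1388) (Step.L (Step.L Step.done))))) (Scr.cons (nat_lit 12) (nat_lit 4) (Step.L (Step.L (Step.L (Step.L (Step.D (nat_lit 6820) Step.done))))) (Scr.cons (nat_lit 12) (nat_lit 4) (Step.L (Step.D (nat_lit 6820) (Step.F (nat_lit 1390) (Step.L (Step.L Step.done))))) (Scr.cons (nat_lit 12) (nat_lit 4) (Step.L (Step.L (Step.L (Step.L (Step.D (nat_lit 6825) Step.done))))) (Scr.cons (nat_lit 12) (nat_lit 4) (Step.L (Step.D (nat_lit 6825) (Step.F (nat_lit 1392) (Step.L (Step.L Step.done))))) (Scr.cons (nat_lit 14) (nat_lit 2) (Step.L (Step.L (Step.L (Step.L (Step.L (Step.L (Step.L (Step.L (Step.L (Step.L (Step.L (Step.L (Step.L (Step.L (Step.L (Step.L (Step.L (Step.L (Step.L (Step.D (nat_lit 6817) Step.done)))))))))))))))))))) (Scr.cons (nat_lit 11) (nat_lit 0) (Step.L (Step.L (Step.D (nat_lit 6817) (Step.F (nat_lit 1394) (Step.L Step.done))))) (Scr.cons (nat_lit 12) (nat_lit 4) (Step.L (Step.L (Step.L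 (Step.L (Step.D (nat_lit 6834) Step.done))))) (Scr.cons (nat_lit 12) (nat_lit 4) (Step.L (Step.D (nat_lit 6834) (Step.F (nat_lit 1396) (Step.L (Step.L Step.done))))) (Scr.cons (nat_lit 12) (nat_lit 1) (Step.L (Step.L (Step.L (Step.L (Step.D (nat_lit 6845) Step.done))))) (Scr.cons (nat_lit 12) (nat_lit 1) (Step.L (Step.D (nat_lit 6845) (Step.F (nat_lit 1398) (Step.L (Step.L Step.done))))) (Scr.cons (nat_lit 12) (nat_lit 1) (Step.L (Step.L (Step.L (Step.L (Step.D (nat_lit 6849) Step.done))))) (Scr.cons (nat_lit 12) (nat_lit 1) (Step.L (Step.D (nat_lit 6849) (Step.F (nat_lit 1400) (Step.L (Step.L Step.done))))) (Scr.cons (nat_lit 12) (nat_lit 1) (Step.L (Step.L (Step.L (Step.L (Step.D (nat_lit 6850) Step.done))))) Scr.nil))))))))))))))))))))))))))))))))))))))))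
noncomputable def s35 : Scr := (Scr.cons (nat_lit 12) (nat_lit 1) (Step.L (Step.D (nat_lit 6850) (Step.F (nat_lit 1402) (Step.L (Step.L Step.done))))) (Scr.cons (nat_lit 12) (nat_lit 4) (Step.L (Step.L (Step.L (Step.L (Step.D (nat_lit 6853) Step.done))))) (Scr.cons (nat_lit 12) (nat_lit 4) (Step.L (Step.D (nat_lit 6853) (Step.F (nat_lit 1404) (Step.L (Step.L Step.done))))) (Scr.cons (nat_lit 12) (nat_lit 4) (Step.L (Step.L (Step.L (Step.L (Step.D (nat_lit 6882) Step.done))))) (Scr.cons (nat_lit 12) (nat_lit 4) (Step.L (Step.D (nat_lit 6882) (Step.F (nat_lit 1406) (Step.L (Step.L Step.done))))) (Scr.cons (nat_lit 12) (nat_lit 1) (Step.L (Step.L (Step.L (Step.L (Step.D (nat_lit 6896) Step.done))))) (Scr.cons (nat_lit 12) (nat_lit 1) (Step.L (Step.D (nat_lit 6896) (Step.F (nat_lit 1408) (Step.L (Step.L Step.done))))) (Scr.cons (nat_lit 14) (nat_lit 6) (Step.L (Step.L (Step.L (Step.L (Step.L (Step.L (Step.L (Step.L (Step.L (Step.L (Step.L (Step.L (Step.L (Step.L (Step.L (Step.L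 (Step.L (Step.L (Step.D (nat_lit 6911) (Step.D (nat_lit 10047) Step.done)))))))))))))))))))) (Scr.cons (nat_lit 4) (nat_lit 0) (Step.B (nat_lit 1410) (Step.U (nat_lit 10047) (Step.U (nat_lit 6911) (Step.L (Step.L Step.done))))) (Scr.cons (nat_lit 7) (nat_lit 2) (Step.L (Step.L (Step.L (Step.L (Step.L (Step.L (Step.L (Step.L (Step.L (Step.L (Step.L (Step.L (Step.L (Step.L (Step.L (Step.L (Step.L (Step.L (Step.L (Step.D (nat_lit 10053) Step.done)))))))))))))))))))) (Scr.cons (nat_lit 11) (nat_lit 0) (Step.B (nat_lit 1412) (Step.U (nat_lit 10053) (Step.L (Step.L (Step.L Step.done))))) (Scr.cons (nat_lit 12) (nat_lit 4) (Step.L (Step.L (Step.L (Step.L (Step.D (nat_lit 6913) Step.done))))) (Scr.cons (nat_lit 12) (nat_lit 4) (Step.L (Step.D (nat_lit 6913) (Step.F (nat_lit 1414) (Step.L (Step.L Step.done))))) (Scr.cons (nat_lit 12) (nat_lit 4) (Step.L (Step.L (Step.L (Step.L (Step.D (nat_lit 6914) Step.done))))) (Scr.cons (nat_lit 12) (nat_lit 4) (Step.L (Step.D (nat_lit 6914)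 (Step.F (nat_lit 1416) (Step.L (Step.L Step.done))))) (Scr.cons (nat_lit 16) (nat_lit 4) (Step.U (nat_lit 6975) (Step.L (Step.L (Step.L (Step.L (Step.L (Step.L (Step.L (Step.L (Step.L (Step.L (Step.L (Step.L (Step.L (Step.L (Step.L (Step.L (Step.L (Step.L (Step.L (Step.L (Step.L (Step.D (nat_lit 10081) Step.done))))))))))))))))))))))) (Scr.cons (nat_lit 4) (nat_lit 0) (Step.L (Step.D (nat_lit 6975) (Step.B (nat_lit 1418) (Step.U (nat_lit 10081) (Step.L Step.done))))) (Scr.cons (nat_lit 16) (nat_lit 2) (Step.L (Step.L (Step.L (Step.L (Step.L (Step.L (Step.L (Step.L (Step.L (Step.L (Step.L (Step.L (Step.L (Step.L (Step.L (Step.L (Step.L (Step.L (Step.L (Step.L (Step.L (Step.L (Step.D (nat_lit 6961) Step.done))))))))))))))))))))))) (Scr.cons (nat_lit 13) (nat_lit 0) (Step.L (Step.L (Step.L (Step.B (nat_lit 1420) (Step.U (nat_lit 6961) (Step.L (Step.L (Step.L (Step.L (Step.L (Step.L Step.done))))))))))) (Scr.cons (nat_lit 12) (nat_lit 4) (Step.L (Step.L (Step.L (Step.L (Step.D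 (nat_lit 6971) Step.done))))) (Scr.cons (nat_lit 12) (nat_lit 4) (Step.L (Step.D (nat_lit 6971) (Step.F (nat_lit 1422) (Step.L (Step.L Step.done))))) (Scr.cons (nat_lit 7) (nat_lit 1) (Step.U (nat_lit 10102) (Step.L (Step.L (Step.L (Step.L (Step.L (Step.L (Step.L (Step.L (Step.L (Step.L (Step.L (Step.L (Step.L (Step.L (Step.L (Step.L (Step.L (Step.L (Step.D (nat_lit 10108) Step.done)))))))))))))))))))) (Scr.cons (nat_lit 11) (nat_lit 0) (Step.L (Step.D (nat_lit 10102) (Step.B (nat_lit 1424) (Step.U (nat_lit 10108) (Step.L Step.done))))) (Scr.cons (nat_lit 11) (nat_lit 0) (Step.L (Step.L (Step.L (Step.D (nat_lit 1034) (Step.D (nat_lit 2207) Step.done))))) (Scr.cons (nat_lit 12) (nat_lit 1) (Step.L (Step.L (Step.L (Step.L (Step.D (nat_lit 385) Step.done))))) (Scr.cons (nat_lit 6) (nat_lit 3) (Step.L (Step.L (Step.L (Step.L (Step.L (Step.L (Step.L (Step.L (Step.L (Step.B (nat_lit 1427) (Step.D (nat_lit 1009) Step.done))))))))))) (Scr.cons (nat_lit 9) (nat_lit 2) (Step.L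 (Step.L (Step.L (Step.B (nat_lit 1426) (Step.U (nat_lit 2207) (Step.U (nat_lit 1034) (Step.B (nat_lit 1428) (Step.U (nat_lit 1009) (Step.U (nat_lit 385) (Step.L (Step.L (Step.L (Step.L (Step.L (Step.L (Step.L (Step.L (Step.L (Step.L (Step.L (Step.L (Step.L (Step.L Step.done))))))))))))))))))))))) (Scr.cons (nat_lit 12) (nat_lit 4) (Step.L (Step.L (Step.L (Step.L (Step.D (nat_lit 7031) Step.done))))) (Scr.cons (nat_lit 12) (nat_lit 4) (Step.L (Step.D (nat_lit 7031) (Step.F (nat_lit 1430) (Step.L (Step.L Step.done))))) (Scr.cons (nat_lit 12) (nat_lit 4) (Step.L (Step.L (Step.L (Step.L (Step.D (nat_lit 7069) Step.done))))) (Scr.cons (nat_lit 12) (nat_lit 4) (Step.L (Step.D (nat_lit 7069) (Step.F (nat_lit 1432) (Step.L (Step.L Step.done))))) (Scr.cons (nat_lit 12) (nat_lit 1) (Step.L (Step.L (Step.L (Step.L (Step.D (nat_lit 7070) Step.done))))) (Scr.cons (nat_lit 12) (nat_lit 1) (Step.L (Step.D (nat_lit 7070) (Step.F (nat_lit 1434) (Step.L (Step.L Step.done))))) (Scr.cons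 (nat_lit 12) (nat_lit 1) (Step.L (Step.L (Step.L (Step.L (Step.D (nat_lit 7072) Step.done))))) (Scr.cons (nat_lit 12) (nat_lit 1) (Step.L (Step.D (nat_lit 7072) (Step.F (nat_lit 1436) (Step.L (Step.L Step.done))))) (Scr.cons (nat_lit 12) (nat_lit 1) (Step.L (Step.L (Step.L (Step.L (Step.D (nat_lit 7107) Step.done))))) (Scr.cons (nat_lit 12) (nat_lit 1) (Step.L (Step.D (nat_lit 7107) (Step.F (nat_lit 1438) (Step.L (Step.L Step.done))))) (Scr.cons (nat_lit 12) (nat_lit 1) (Step.L (Step.L (Step.L (Step.L (Step.D (nat_lit 7124) Step.done))))) (Scr.cons (nat_lit 12) (nat_lit 1) (Step.L (Step.D (nat_lit 7124) (Step.F (nat_lit 1440) (Step.L (Step.L Step.done))))) (Scr.cons (nat_lit 12) (nat_lit 1) (Step.L (Step.L (Step.L (Step.L (Step.D (nat_lit 7126) Step.done))))) Scr.nil))))))))))))))))))))))))))))))))))))))))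
noncomputable def s36 : Scr := (Scr.cons (nat_lit 12) (nat_lit 1) (Step.L (Step.D (nat_lit 7126) (Step.F (nat_lit 1442) (Step.L (Step.L Step.done))))) (Scr.cons (nat_lit 12) (nat_lit 1) (Step.L (Step.L (Step.L (Step.L (Step.D (nat_lit 7127) Step.done))))) (Scr.cons (nat_lit 12) (nat_lit 1) (Step.L (Step.D (nat_lit 7127) (Step.F (nat_lit 1444) (Step.L (Step.L Step.done))))) (Scr.cons (nat_lit 12) (nat_lit 1) (Step.L (Step.L (Step.L (Step.L (Step.D (nat_lit 7131) Step.done))))) (Scr.cons (nat_lit 12) (nat_lit 1) (Step.L (Step.D (nat_lit 7131) (Step.F (nat_lit 1446) (Step.L (Step.L Step.done))))) (Scr.cons (nat_lit 12) (nat_lit 1) (Step.L (Step.L (Step.L (Step.L (Step.D (nat_lit 4247) Step.done))))) (Scr.cons (nat_lit 12) (nat_lit 1) (Step.L (Step.D (nat_lit 4247) (Step.F (nat_lit 1448) (Step.L (Step.D (nat_lit 7137) Step.done))))) (Scr.cons (nat_lit 12) (nat_lit 1) (Step.L (Step.D (nat_lit 7137) (Step.F (nat_lit 1449) (Step.L (Step.L Step.done))))) (Scr.cons (nat_lit 13)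 (nat_lit 0) (Step.L (Step.L (Step.L (Step.L (Step.L (Step.L (Step.L (Step.L (Step.L (Step.L (Step.D (nat_lit 6697) Step.done))))))))))) (Scr.cons (nat_lit 6) (nat_lit 3) (Step.L (Step.L (Step.L (Step.L (Step.L (Step.L (Step.L (Step.L (Step.L (Step.L (Step.D (nat_lit 6697) Step.done))))))))))) (Scr.cons (nat_lit 12) (nat_lit 4) (Step.L (Step.B (nat_lit 1451) (Step.F (nat_lit 1452) (Step.L (Step.L Step.done))))) (Scr.cons (nat_lit 12) (nat_lit 4) (Step.L (Step.L (Step.L (Step.L (Step.D (nat_lit 7140) Step.done))))) (Scr.cons (nat_lit 12) (nat_lit 4) (Step.L (Step.D (nat_lit 7140) (Step.F (nat_lit 1454) (Step.L (Step.L Step.done))))) (Scr.cons (nat_lit 12) (nat_lit 1) (Step.L (Step.L (Step.L (Step.L (Step.D (nat_lit 7143) Step.done))))) (Scr.cons (nat_lit 12) (nat_lit 1) (Step.L (Step.D (nat_lit 7143) (Step.F (nat_lit 1456) (Step.L (Step.L Step.done))))) (Scr.cons (nat_lit 12) (nat_lit 4) (Step.L (Step.L (Step.L (Step.L (Step.D (nat_lit 7149) Step.done))))) (Scr.cons (nat_lit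 12) (nat_lit 4) (Step.L (Step.D (nat_lit 7149) (Step.F (nat_lit 1458) (Step.L (Step.L Step.done))))) (Scr.cons (nat_lit 12) (nat_lit 1) (Step.L (Step.L (Step.L (Step.L (Step.D (nat_lit 7155) Step.done))))) (Scr.cons (nat_lit 12) (nat_lit 1) (Step.L (Step.D (nat_lit 7155) (Step.F (nat_lit 1460) (Step.L (Step.L Step.done))))) (Scr.cons (nat_lit 13) (nat_lit 0) (Step.L (Step.L (Step.L (Step.L (Step.L (Step.L (Step.L (Step.L (Step.L (Step.D (nat_lit 4261) (Step.D (nat_lit 7157) Step.done))))))))))) (Scr.cons (nat_lit 6) (nat_lit 3) (Step.L (Step.L (Step.L (Step.L (Step.L (Step.L (Step.L (Step.L (Step.L (Step.B (nat_lit 654) (Step.D (nat_lit 7157) Step.done))))))))))) (Scr.cons (nat_lit 12) (nat_lit 4) (Step.L (Step.B (nat_lit 1462) (Step.F (nat_lit 1463) (Step.L (Step.L Step.done))))) (Scr.cons (nat_lit 12) (nat_lit 1) (Step.L (Step.L (Step.L (Step.L (Step.D (nat_lit 7203) Step.done))))) (Scr.cons (nat_lit 12) (nat_lit 1) (Step.L (Step.D (nat_lit 7203) (Step.F (nat_lit 1465)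 (Step.L (Step.L Step.done))))) (Scr.cons (nat_lit 12) (nat_lit 4) (Step.L (Step.L (Step.L (Step.L (Step.D (nat_lit 7209) Step.done))))) (Scr.cons (nat_lit 12) (nat_lit 4) (Step.L (Step.D (nat_lit 7209) (Step.F (nat_lit 1467) (Step.L (Step.L Step.done))))) (Scr.cons (nat_lit 12) (nat_lit 1) (Step.L (Step.L (Step.L (Step.L (Step.D (nat_lit 7212) Step.done))))) (Scr.cons (nat_lit 12) (nat_lit 1) (Step.L (Step.D (nat_lit 7212) (Step.F (nat_lit 1469) (Step.L (Step.L Step.done))))) (Scr.cons (nat_lit 12) (nat_lit 4) (Step.L (Step.L (Step.L (Step.L (Step.D (nat_lit 7214) Step.done))))) (Scr.cons (nat_lit 12) (nat_lit 4) (Step.L (Step.D (nat_lit 7214) (Step.F (nat_lit 1471) (Step.L (Step.L Step.done))))) (Scr.cons (nat_lit 12) (nat_lit 4) (Step.L (Step.L (Step.L (Step.L (Step.D (nat_lit 7220) Step.done))))) (Scr.cons (nat_lit 12) (nat_lit 4) (Step.L (Step.D (nat_lit 7220) (Step.F (nat_lit 1473) (Step.L (Step.L Step.done))))) (Scr.cons (nat_lit 12) (nat_lit 1) (Step.L (Step.L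 (Step.L (Step.L (Step.D (nat_lit 7221) Step.done))))) (Scr.cons (nat_lit 12) (nat_lit 1) (Step.L (Step.D (nat_lit 7221) (Step.F (nat_lit 1475) (Step.L (Step.L Step.done))))) (Scr.cons (nat_lit 12) (nat_lit 4) (Step.L (Step.L (Step.L (Step.L (Step.D (nat_lit 7225) Step.done))))) (Scr.cons (nat_lit 12) (nat_lit 4) (Step.L (Step.D (nat_lit 7225) (Step.F (nat_lit 1477) (Step.L (Step.L Step.done))))) (Scr.cons (nat_lit 12) (nat_lit 1) (Step.L (Step.L (Step.L (Step.L (Step.D (nat_lit 7229) Step.done))))) (Scr.cons (nat_lit 12) (nat_lit 1) (Step.L (Step.D (nat_lit 7229) (Step.F (nat_lit 1479) (Step.L (Step.L Step.done))))) (Scr.cons (nat_lit 12) (nat_lit 4) (Step.L (Step.L (Step.L (Step.L (Step.D (nat_lit 7243) Step.done))))) (Scr.cons (nat_lit 12) (nat_lit 4) (Step.L (Step.D (nat_lit 7243) (Step.F (nat_lit 1481) (Step.L (Step.L Step.done))))) Scr.nil))))))))))))))))))))))))))))))))))))))))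
noncomputable def s37 : Scr := (Scr.cons (nat_lit 12) (nat_lit 4) (Step.L (Step.L (Step.L (Step.L (Step.D (nat_lit 7246) Step.done))))) (Scr.cons (nat_lit 12) (nat_lit 4) (Step.L (Step.D (nat_lit 7246) (Step.F (nat_lit 1483) (Step.L (Step.L Step.done))))) (Scr.cons (nat_lit 12) (nat_lit 1) (Step.U (nat_lit 24) (Step.L (Step.L (Step.D (nat_lit 24) (Step.D (nat_lit 98) Step.done))))) (Scr.cons (nat_lit 12) (nat_lit 1) (Step.U (nat_lit 308) (Step.F (nat_lit 1485) (Step.D (nat_lit 98) (Step.D (nat_lit 308) (Step.D (nat_lit 836) Step.done))))) (Scr.cons (nat_lit 12) (nat_lit 1) (Step.U (nat_lit 1837) (Step.F (nat_lit 1486) (Step.D (nat_lit 836) (Step.D (nat_lit 1837) (Step.D (nat_lit 3581) Step.done))))) (Scr.cons (nat_lit 8) (nat_lit 1) (Step.L (Step.L (Step.L (Step.L (Step.L (Step.B (nat_lit 104) (Step.U (nat_lit 97) (Step.L (Step.D (nat_lit 24) (Step.B (nat_lit 1485) (Step.D (nat_lit 308) (Step.B (nat_lit 1486) (Step.D (nat_lit 1837) (Step.B (nat_lit 1487) (Step.D (nat_lit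 6270) Step.done))))))))))))))) (Scr.cons (nat_lit 12) (nat_lit 0) (Step.B (nat_lit 1488) (Step.U (nat_lit 6270) (Step.F (nat_lit 1487) (Step.D (nat_lit 3581) (Step.D (nat_lit 6270) Step.done))))) (Scr.cons (nat_lit 12) (nat_lit 4) (Step.L (Step.B (nat_lit 1488) (Step.F (nat_lit 1489) (Step.L (Step.L Step.done))))) (Scr.cons (nat_lit 12) (nat_lit 1) (Step.L (Step.L (Step.L (Step.L (Step.D (nat_lit 2314) Step.done))))) (Scr.cons (nat_lit 7) (nat_lit 5) (Step.F (nat_lit 1491) (Step.L (Step.L (Step.L (Step.L (Step.L (Step.L (Step.L (Step.L (Step.L (Step.L (Step.L (Step.L (Step.L (Step.L (Step.L (Step.L (Step.L (Step.L (Step.L Step.done)))))))))))))))))))) (Scr.cons (nat_lit 6) (nat_lit 0) (Step.L (Step.L (Step.L (Step.F (nat_lit 1492) (Step.U (nat_lit 2314) (Step.L (Step.L (Step.L (Step.L (Step.L (Step.L Step.done))))))))))) (Scr.cons (nat_lit 11) (nat_lit 0) (Step.L (Step.L (Step.L (Step.L (Step.D (nat_lit 4061) Step.done))))) (Scr.cons (nat_lit 11) (nat_lit 0) (Step.L (Step.L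 (Step.L (Step.L (Step.D (nat_lit 7262) Step.done))))) (Scr.cons (nat_lit 14) (nat_lit 5) (Step.L (Step.L (Step.L (Step.L (Step.L (Step.L (Step.L (Step.L (Step.L (Step.D (nat_lit 4061) (Step.F (nat_lit 1494) (Step.L (Step.L (Step.L (Step.L (Step.L (Step.D (nat_lit 7262) (Step.F (nat_lit 1495) (Step.L (Step.L Step.done)))))))))))))))))))) (Scr.cons (nat_lit 12) (nat_lit 4) (Step.L (Step.L (Step.L (Step.L (Step.D (nat_lit 7263) Step.done))))) (Scr.cons (nat_lit 12) (nat_lit 4) (Step.L (Step.D (nat_lit 7263) (Step.F (nat_lit 1497) (Step.L (Step.L Step.done))))) (Scr.cons (nat_lit 12) (nat_lit 1) (Step.L (Step.L (Step.L (Step.L (Step.D (nat_lit 7265) Step.done))))) (Scr.cons (nat_lit 12) (nat_lit 1) (Step.L (Step.D (nat_lit 7265) (Step.F (nat_lit 1499) (Step.L (Step.L Step.done))))) (Scr.cons (nat_lit 12) (nat_lit 1) (Step.L (Step.L (Step.L (Step.L (Step.D (nat_lit 7273) Step.done))))) (Scr.cons (nat_lit 12) (nat_lit 1) (Step.L (Step.D (nat_lit 7273) (Step.F (nat_lit 1501)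 (Step.L (Step.L Step.done))))) (Scr.cons (nat_lit 12) (nat_lit 1) (Step.L (Step.L (Step.L (Step.L (Step.D (nat_lit 7283) Step.done))))) (Scr.cons (nat_lit 12) (nat_lit 1) (Step.L (Step.D (nat_lit 7283) (Step.F (nat_lit 1503) (Step.L (Step.L Step.done))))) (Scr.cons (nat_lit 12) (nat_lit 1) (Step.L (Step.L (Step.L (Step.L (Step.D (nat_lit 7300) Step.done))))) (Scr.cons (nat_lit 12) (nat_lit 1) (Step.L (Step.D (nat_lit 7300) (Step.F (nat_lit 1505) (Step.L (Step.L Step.done))))) (Scr.cons (nat_lit 12) (nat_lit 4) (Step.L (Step.L (Step.L (Step.L (Step.D (nat_lit 7320) Step.done))))) (Scr.cons (nat_lit 12) (nat_lit 4) (Step.L (Step.D (nat_lit 7320) (Step.F (nat_lit 1507) (Step.L (Step.L Step.done))))) (Scr.cons (nat_lit 12) (nat_lit 4) (Step.L (Step.L (Step.L (Step.L (Step.D (nat_lit 7339) Step.done))))) (Scr.cons (nat_lit 12) (nat_lit 4) (Step.L (Step.D (nat_lit 7339) (Step.F (nat_lit 1509) (Step.L (Step.L Step.done))))) (Scr.cons (nat_lit 12) (nat_lit 4) (Step.L (Step.L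 (Step.L (Step.L (Step.D (nat_lit 7382) Step.done))))) (Scr.cons (nat_lit 12) (nat_lit 4) (Step.L (Step.D (nat_lit 7382) (Step.F (nat_lit 1511) (Step.L (Step.L Step.done))))) (Scr.cons (nat_lit 12) (nat_lit 1) (Step.L (Step.L (Step.L (Step.L (Step.D (nat_lit 7421) Step.done))))) (Scr.cons (nat_lit 12) (nat_lit 1) (Step.L (Step.D (nat_lit 7421) (Step.F (nat_lit 1513) (Step.L (Step.L Step.done))))) (Scr.cons (nat_lit 12) (nat_lit 4) (Step.L (Step.L (Step.L (Step.L (Step.D (nat_lit 7425) Step.done))))) (Scr.cons (nat_lit 12) (nat_lit 4) (Step.L (Step.D (nat_lit 7425) (Step.F (nat_lit 1515) (Step.L (Step.L Step.done))))) (Scr.cons (nat_lit 12) (nat_lit 1) (Step.L (Step.L (Step.L (Step.L (Step.D (nat_lit 7449) Step.done))))) (Scr.cons (nat_lit 12) (nat_lit 1) (Step.L (Step.D (nat_lit 7449) (Step.F (nat_lit 1517) (Step.L (Step.L Step.done))))) (Scr.cons (nat_lit 12) (nat_lit 1) (Step.L (Step.L (Step.L (Step.L (Step.D (nat_lit 7465) Step.done))))) (Scr.cons (nat_lit 12) (nat_lit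 1) (Step.L (Step.D (nat_lit 7465) (Step.F (nat_lit 1519) (Step.L (Step.L Step.done))))) (Scr.cons (nat_lit 13) (nat_lit 0) (Step.L (Step.L (Step.L (Step.L (Step.L (Step.L (Step.L (Step.L (Step.L (Step.L (Step.D (nat_lit 7402) Step.done))))))))))) (Scr.cons (nat_lit 6) (nat_lit 3) (Step.L (Step.L (Step.L (Step.L (Step.L (Step.L (Step.L (Step.L (Step.L (Step.L (Step.D (nat_lit 7402) Step.done))))))))))) Scr.nil))))))))))))))))))))))))))))))))))))))))
noncomputable def s38 : Scr := (Scr.cons (nat_lit 12) (nat_lit 4) (Step.L (Step.B (nat_lit 1521) (Step.F (nat_lit 1522) (Step.L (Step.L Step.done))))) (Scr.cons (nat_lit 12) (nat_lit 4) (Step.L (Step.L (Step.L (Step.L (Step.D (nat_lit 7466) Step.done))))) (Scr.cons (nat_lit 12) (nat_lit 4) (Step.L (Step.D (nat_lit 7466) (Step.F (nat_lit 1524) (Step.L (Step.L Step.done))))) (Scr.cons (nat_lit 12) (nat_lit 1) (Step.L (Step.L (Step.L (Step.L (Step.D (nat_lit 7486) Step.done))))) (Scr.cons (nat_lit 12) (nat_lit 1) (Step.L (Step.D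 (nat_lit 7486) (Step.F (nat_lit 1526) (Step.L (Step.L Step.done))))) (Scr.cons (nat_lit 12) (nat_lit 4) (Step.L (Step.L (Step.L (Step.L (Step.D (nat_lit 7489) Step.done))))) (Scr.cons (nat_lit 12) (nat_lit 4) (Step.L (Step.D (nat_lit 7489) (Step.F (nat_lit 1528) (Step.L (Step.L Step.done))))) (Scr.cons (nat_lit 12) (nat_lit 4) (Step.L (Step.L (Step.L (Step.L (Step.D (nat_lit 7504) Step.done))))) (Scr.cons (nat_lit 12) (nat_lit 4) (Step.L (Step.D (nat_lit 7504) (Step.F (nat_lit 1530) (Step.L (Step.L Step.done))))) (Scr.cons (nat_lit 12) (nat_lit 4) (Step.L (Step.L (Step.L (Step.L (Step.D (nat_lit 7525) Step.done))))) (Scr.cons (nat_lit 12) (nat_lit 4) (Step.L (Step.D (nat_lit 7525) (Step.F (nat_lit 1532) (Step.L (Step.L Step.done))))) (Scr.cons (nat_lit 11) (nat_lit 0) (Step.L (Step.L (Step.L (Step.L (Step.D (nat_lit 1217) Step.done))))) (Scr.cons (nat_lit 16) (nat_lit 1) (Step.L (Step.L (Step.L (Step.L (Step.L (Step.L (Step.L (Step.L (Step.L (Step.L (Step.L (Step.L (Step.L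 (Step.L (Step.D (nat_lit 1217) (Step.F (nat_lit 1534) (Step.L (Step.L (Step.L (Step.L (Step.L (Step.L (Step.L Step.done))))))))))))))))))))))) (Scr.cons (nat_lit 12) (nat_lit 4) (Step.L (Step.L (Step.L (Step.L (Step.D (nat_lit 7541) Step.done))))) (Scr.cons (nat_lit 12) (nat_lit 4) (Step.L (Step.D (nat_lit 7541) (Step.F (nat_lit 1536) (Step.L (Step.L Step.done))))) (Scr.cons (nat_lit 12) (nat_lit 1) (Step.L (Step.L (Step.L (Step.L (Step.D (nat_lit 7579) Step.done))))) (Scr.cons (nat_lit 12) (nat_lit 1) (Step.L (Step.D (nat_lit 7579) (Step.F (nat_lit 1538) (Step.L (Step.L Step.done))))) (Scr.cons (nat_lit 12) (nat_lit 1) (Step.L (Step.L (Step.L (Step.L (Step.D (nat_lit 7580) Step.done))))) (Scr.cons (nat_lit 12) (nat_lit 1) (Step.L (Step.D (nat_lit 7580) (Step.F (nat_lit 1540) (Step.L (Step.L Step.done))))) (Scr.cons (nat_lit 12) (nat_lit 4) (Step.L (Step.L (Step.L (Step.L (Step.D (nat_lit 7593) Step.done))))) (Scr.cons (nat_lit 12) (nat_lit 4) (Step.L (Step.D (nat_lit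 7593) (Step.F (nat_lit 1542) (Step.L (Step.L Step.done))))) (Scr.cons (nat_lit 12) (nat_lit 1) (Step.L (Step.L (Step.L (Step.L (Step.D (nat_lit 7617) Step.done))))) (Scr.cons (nat_lit 12) (nat_lit 1) (Step.L (Step.D (nat_lit 7617) (Step.F (nat_lit 1544) (Step.L (Step.L Step.done))))) (Scr.cons (nat_lit 12) (nat_lit 4) (Step.U (nat_lit 17) (Step.L (Step.L (Step.D (nat_lit 17) (Step.D (nat_lit 83) Step.done))))) (Scr.cons (nat_lit 12) (nat_lit 4) (Step.U (nat_lit 274) (Step.F (nat_lit 1546) (Step.D (nat_lit 83) (Step.D (nat_lit 274) (Step.D (nat_lit 763) Step.done))))) (Scr.cons (nat_lit 12) (nat_lit 4) (Step.U (nat_lit 1737) (Step.F (nat_lit 1547) (Step.D (nat_lit 763) (Step.D (nat_lit 1737) (Step.D (nat_lit 3420) Step.done))))) (Scr.cons (nat_lit 6) (nat_lit 1) (Step.L (Step.L (Step.L (Step.L (Step.L (Step.L (Step.L (Step.L (Step.L (Step.L (Step.D (nat_lit 82) Step.done))))))))))) (Scr.cons (nat_lit 15) (nat_lit 0) (Step.L (Step.L (Step.L (Step.L (Step.L (Step.B (nat_lit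 1549) (Step.U (nat_lit 82) (Step.L (Step.D (nat_lit 17) (Step.D (nat_lit 83) (Step.D (nat_lit 274) (Step.D (nat_lit 763) (Step.D (nat_lit 1737) (Step.D (nat_lit 3420) (Step.D (nat_lit 6031) Step.done))))))))))))))) (Scr.cons (nat_lit 12) (nat_lit 4) (Step.U (nat_lit 6031) (Step.F (nat_lit 1548) (Step.D (nat_lit 3420) (Step.D (nat_lit 6031) (Step.F (nat_lit 1550) Step.done))))) (Scr.cons (nat_lit 12) (nat_lit 1) (Step.L (Step.F (nat_lit 1551) (Step.F (nat_lit 1550) (Step.L (Step.L Step.done))))) (Scr.cons (nat_lit 12) (nat_lit 1) (Step.U (nat_lit 488) (Step.L (Step.L (Step.D (nat_lit 488) (Step.D (nat_lit 1221) Step.done))))) (Scr.cons (nat_lit 6) (nat_lit 1) (Step.L (Step.L (Step.L (Step.L (Step.L (Step.L (Step.D (nat_lit 488) (Step.B (nat_lit 1553) (Step.D (nat_lit 2526) (Step.D (nat_lit 4669) (Step.D (nat_lit 7627) Step.done))))))))))) (Scr.cons (nat_lit 12) (nat_lit 4) (Step.U (nat_lit 2526) (Step.F (nat_lit 1553) (Step.D (nat_lit 1221) (Step.D (nat_lit 2526) (Step.D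 (nat_lit 4669) Step.done))))) (Scr.cons (nat_lit 13) (nat_lit 2) (Step.L (Step.L (Step.L (Step.L (Step.L (Step.L (Step.D (nat_lit 488) (Step.D (nat_lit 1221) (Step.D (nat_lit 2526) (Step.B (nat_lit 1555) (Step.D (nat_lit 7627) Step.done))))))))))) (Scr.cons (nat_lit 12) (nat_lit 1) (Step.L (Step.B (nat_lit 1554) (Step.F (nat_lit 1556) (Step.L (Step.L Step.done))))) (Scr.cons (nat_lit 12) (nat_lit 1) (Step.L (Step.L (Step.L (Step.L (Step.D (nat_lit 10654) Step.done))))) (Scr.cons (nat_lit 16) (nat_lit 1) (Step.F (nat_lit 1558) (Step.L (Step.L (Step.L (Step.L (Step.L (Step.L (Step.L (Step.L (Step.L (Step.L (Step.L (Step.L (Step.L (Step.L (Step.L (Step.L (Step.L (Step.L (Step.L (Step.L (Step.D (nat_lit 7495) (Step.D (nat_lit 10544) Step.done))))))))))))))))))))))) (Scr.cons (nat_lit 11) (nat_lit 0) (Step.L (Step.L (Step.L (Step.L (Step.D (nat_lit 7495) Step.done))))) (Scr.cons (nat_lit 12) (nat_lit 1) (Step.F (nat_lit 1560) (Step.L (Step.L (Step.B (nat_lit 1560) (Step.D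 (nat_lit 10544) Step.done))))) (Scr.cons (nat_lit 13) (nat_lit 2) (Step.L (Step.L (Step.L (Step.L (Step.L (Step.B (nat_lit 1558) (Step.B (nat_lit 1559) (Step.F (nat_lit 1561) (Step.F (nat_lit 1560) (Step.L (Step.L Step.done))))))))))) Scr.nil))))))))))))))))))))))))))))))))))))))))
noncomputable def s39 : Scr := (Scr.cons (nat_lit 14) (nat_lit 5) (Step.U (nat_lit 7864) (Step.L (Step.L (Step.L (Step.L (Step.L (Step.L (Step.L (Step.L (Step.L (Step.L (Step.L (Step.L (Step.L (Step.L (Step.L (Step.L (Step.L (Step.L (Step.D (nat_lit 10658) Step.done)))))))))))))))))))) (Scr.cons (nat_lit 4) (nat_lit 0) (Step.L (Step.D (nat_lit 7864) (Step.B (nat_lit 1563) (Step.U (nat_lit 10658) (Step.L Step.done))))) (Scr.cons (nat_lit 12) (nat_lit 1) (Step.L (Step.L (Step.L (Step.L (Step.D (nat_lit 7653) Step.done))))) (Scr.cons (nat_lit 12) (nat_lit 1) (Step.L (Step.D (nat_lit 7653) (Step.F (nat_lit 1565) (Step.L (Step.L Step.done))))) (Scr.cons (nat_lit 12) (nat_lit 4) (Step.L (Step.L (Step.L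 (Step.L (Step.D (nat_lit 7659) Step.done))))) (Scr.cons (nat_lit 12) (nat_lit 4) (Step.L (Step.D (nat_lit 7659) (Step.F (nat_lit 1567) (Step.L (Step.L Step.done))))) (Scr.cons (nat_lit 12) (nat_lit 1) (Step.L (Step.L (Step.L (Step.L (Step.D (nat_lit 7661) Step.done))))) (Scr.cons (nat_lit 12) (nat_lit 1) (Step.L (Step.D (nat_lit 7661) (Step.F (nat_lit 1569) (Step.L (Step.L Step.done))))) (Scr.cons (nat_lit 12) (nat_lit 1) (Step.L (Step.L (Step.L (Step.L (Step.D (nat_lit 7666) Step.done))))) (Scr.cons (nat_lit 12) (nat_lit 1) (Step.L (Step.D (nat_lit 7666) (Step.F (nat_lit 1571) (Step.L (Step.L Step.done))))) (Scr.cons (nat_lit 12) (nat_lit 1) (Step.L (Step.L (Step.L (Step.L (Step.D (nat_lit 7679) Step.done))))) (Scr.cons (nat_lit 12) (nat_lit 1) (Step.L (Step.D (nat_lit 7679) (Step.F (nat_lit 1573) (Step.L (Step.L Step.done))))) (Scr.cons (nat_lit 6) (nat_lit 1) (Step.L (Step.L (Step.L (Step.L (Step.L (Step.L (Step.L (Step.L (Step.L (Step.D (nat_lit 4720) (Step.D (nat_lit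 7697) Step.done))))))))))) (Scr.cons (nat_lit 13) (nat_lit 2) (Step.L (Step.L (Step.L (Step.L (Step.L (Step.L (Step.L (Step.L (Step.L (Step.B (nat_lit 716) (Step.D (nat_lit 7697) Step.done))))))))))) (Scr.cons (nat_lit 12) (nat_lit 1) (Step.L (Step.B (nat_lit 1575) (Step.F (nat_lit 1576) (Step.L (Step.L Step.done))))) (Scr.cons (nat_lit 16) (nat_lit 5) (Step.L (Step.L (Step.L (Step.L (Step.L (Step.L (Step.L (Step.L (Step.L (Step.L (Step.L (Step.L (Step.L (Step.L (Step.L (Step.L (Step.L (Step.L (Step.L (Step.L (Step.L (Step.D (nat_lit 7736) (Step.D (nat_lit 10744) Step.done))))))))))))))))))))))) (Scr.cons (nat_lit 4) (nat_lit 0) (Step.B (nat_lit 1578) (Step.U (nat_lit 10744) (Step.U (nat_lit 7736) (Step.L (Step.L Step.done))))) (Scr.cons (nat_lit 12) (nat_lit 1) (Step.L (Step.L (Step.L (Step.L (Step.D (nat_lit 7739) Step.done))))) (Scr.cons (nat_lit 12) (nat_lit 1) (Step.L (Step.D (nat_lit 7739) (Step.F (nat_lit 1580) (Step.L (Step.L Step.done))))) (Scr.cons (nat_lit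 14) (nat_lit 6) (Step.U (nat_lit 2833) (Step.L (Step.L (Step.L (Step.L (Step.L (Step.L (Step.L (Step.L (Step.L (Step.L (Step.L (Step.L (Step.L (Step.L (Step.L (Step.L (Step.L (Step.D (nat_lit 2239) (Step.D (nat_lit 4217) Step.done)))))))))))))))))))) (Scr.cons (nat_lit 4) (nat_lit 0) (Step.B (nat_lit 1582) (Step.U (nat_lit 4217) (Step.U (nat_lit 2239) (Step.L (Step.L Step.done))))) (Scr.cons (nat_lit 12) (nat_lit 1) (Step.L (Step.L (Step.L (Step.L (Step.D (nat_lit 2833) Step.done))))) (Scr.cons (nat_lit 7) (nat_lit 0) (Step.L (Step.L (Step.L (Step.L (Step.F (nat_lit 1583) (Step.F (nat_lit 1584) (Step.L (Step.L (Step.L (Step.L (Step.L (Step.L (Step.L (Step.L (Step.L (Step.L (Step.L (Step.L (Step.L (Step.L Step.done)))))))))))))))))))) (Scr.cons (nat_lit 11) (nat_lit 0) (Step.U (nat_lit 554) (Step.U (nat_lit 198) (Step.L (Step.L (Step.D (nat_lit 1352) Step.done))))) (Scr.cons (nat_lit 12) (nat_lit 1) (Step.U (nat_lit 198) (Step.L (Step.L (Step.D (nat_lit 198) (Step.D (nat_lit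 553) Step.done))))) (Scr.cons (nat_lit 12) (nat_lit 1) (Step.U (nat_lit 554) (Step.D (nat_lit 553) (Step.F (nat_lit 1587) (Step.D (nat_lit 554) (Step.D (nat_lit 1353) Step.done))))) (Scr.cons (nat_lit 12) (nat_lit 1) (Step.F (nat_lit 1586) (Step.D (nat_lit 1353) (Step.F (nat_lit 1588) (Step.B (nat_lit 1586) (Step.D (nat_lit 2755) Step.done))))) (Scr.cons (nat_lit 7) (nat_lit 5) (Step.F (nat_lit 1589) (Step.U (nat_lit 1352) (Step.L (Step.L (Step.L (Step.L (Step.L (Step.L (Step.L (Step.L (Step.L (Step.L (Step.L (Step.L (Step.L (Step.L (Step.L (Step.L (Step.L (Step.D (nat_lit 2599) Step.done)))))))))))))))))))) (Scr.cons (nat_lit 4) (nat_lit 0) (Step.U (nat_lit 4783) (Step.L (Step.D (nat_lit 2599) (Step.F (nat_lit 1590) (Step.D (nat_lit 5012) Step.done))))) (Scr.cons (nat_lit 7) (nat_lit 0) (Step.L (Step.L (Step.L (Step.L (Step.L (Step.L (Step.L (Step.L (Step.L (Step.L (Step.L (Step.L (Step.L (Step.D (nat_lit 198) (Step.D (nat_lit 554) (Step.B (nat_lit 1586) (Step.B (nat_lit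 1589) (Step.D (nat_lit 5012) (Step.F (nat_lit 1591) (Step.D (nat_lit 7759) Step.done)))))))))))))))))))) (Scr.cons (nat_lit 12) (nat_lit 4) (Step.U (nat_lit 4783) (Step.L (Step.L (Step.D (nat_lit 4783) (Step.D (nat_lit 7759) Step.done))))) (Scr.cons (nat_lit 12) (nat_lit 1) (Step.B (nat_lit 1592) (Step.F (nat_lit 1593) (Step.D (nat_lit 7759) (Step.F (nat_lit 1592) (Step.L Step.done))))) (Scr.cons (nat_lit 7) (nat_lit 1) (Step.U (nat_lit 10745) (Step.L (Step.L (Step.L (Step.L (Step.L (Step.L (Step.L (Step.L (Step.L (Step.L (Step.L (Step.L (Step.L (Step.L (Step.L (Step.L (Step.L (Step.L (Step.L Step.done)))))))))))))))))))) (Scr.cons (nat_lit 11) (nat_lit 0) (Step.L (Step.D (nat_lit 10745) (Step.B (nat_lit 1595) (Step.L (Step.L Step.done))))) (Scr.cons (nat_lit 11) (nat_lit 0) (Step.U (nat_lit 1326) (Step.L (Step.L (Step.L (Step.D (nat_lit 2710) Step.done))))) (Scr.cons (nat_lit 6) (nat_lit 1) (Step.L (Step.L (Step.L (Step.L (Step.L (Step.L (Step.L (Step.L (Step.L (Step.D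 (nat_lit 509) (Step.D (nat_lit 1262) Step.done))))))))))) (Scr.cons (nat_lit 12) (nat_lit 4) (Step.L (Step.L (Step.L (Step.L (Step.D (nat_lit 509) Step.done))))) (Scr.cons (nat_lit 16) (nat_lit 5) (Step.L (Step.L (Step.L (Step.D (nat_lit 2710) (Step.F (nat_lit 1597) (Step.U (nat_lit 1326) (Step.B (nat_lit 1598) (Step.U (nat_lit 1262) (Step.F (nat_lit 1599) (Step.L (Step.L (Step.L (Step.L (Step.L (Step.L (Step.L (Step.L (Step.L (Step.L (Step.L (Step.L (Step.L (Step.L Step.done))))))))))))))))))))))) (Scr.cons (nat_lit 9) (nat_lit 5) (Step.L (Step.L (Step.L (Step.L (Step.L (Step.L (Step.L (Step.L (Step.L (Step.L (Step.L (Step.L (Step.L (Step.L (Step.L (Step.L (Step.L (Step.L (Step.L (Step.L (Step.L (Step.L (Step.D (nat_lit 7760) Step.done))))))))))))))))))))))) (Scr.cons (nat_lit 13) (nat_lit 2) (Step.L (Step.L (Step.L (Step.B (nat_lit 1601) (Step.U (nat_lit 7760) (Step.L (Step.L (Step.L (Step.L (Step.L (Step.L Step.done))))))))))) Scr.nil))))))))))))))))))))))))))))))))))))))))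
noncomputable def s40 : Scr := (Scr.cons (nat_lit 12) (nat_lit 4) (Step.L (Step.L (Step.L (Step.L (Step.D (nat_lit 7839) Step.done))))) (Scr.cons (nat_lit 12) (nat_lit 4) (Step.L (Step.D (nat_lit 7839) (Step.F (nat_lit 1603) (Step.L (Step.L Step.done))))) (Scr.cons (nat_lit 12) (nat_lit 1) (Step.L (Step.L (Step.L (Step.L (Step.D (nat_lit 7860) Step.done))))) (Scr.cons (nat_lit 12) (nat_lit 1) (Step.L (Step.D (nat_lit 7860) (Step.F (nat_lit 1605) (Step.L (Step.L Step.done))))) (Scr.cons (nat_lit 12) (nat_lit 1) (Step.L (Step.L (Step.L (Step.L (Step.D (nat_lit 7861) Step.done))))) (Scr.cons (nat_lit 12) (nat_lit 1) (Step.L (Step.D (nat_lit 7861) (Step.F (nat_lit 1607) (Step.L (Step.L Step.done))))) (Scr.cons (nat_lit 12) (nat_lit 1) (Step.L (Step.L (Step.L (Step.L (Step.D (nat_lit 7867) Step.done))))) (Scr.cons (nat_lit 12) (nat_lit 1) (Step.L (Step.D (nat_lit 7867) (Step.F (nat_lit 1609) (Step.L (Step.L Step.done))))) (Scr.cons (nat_lit 12) (nat_lit 4) (Step.L (Step.L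 (Step.L (Step.L (Step.D (nat_lit 7873) Step.done))))) (Scr.cons (nat_lit 12) (nat_lit 4) (Step.L (Step.D (nat_lit 7873) (Step.F (nat_lit 1611) (Step.L (Step.L Step.done))))) (Scr.cons (nat_lit 12) (nat_lit 4) (Step.L (Step.L (Step.L (Step.L (Step.D (nat_lit 7896) Step.done))))) (Scr.cons (nat_lit 12) (nat_lit 4) (Step.L (Step.D (nat_lit 7896) (Step.F (nat_lit 1613) (Step.L (Step.L Step.done))))) (Scr.cons (nat_lit 12) (nat_lit 4) (Step.L (Step.L (Step.L (Step.L (Step.D (nat_lit 7898) Step.done))))) (Scr.cons (nat_lit 12) (nat_lit 4) (Step.L (Step.D (nat_lit 7898) (Step.F (nat_lit 1615) (Step.L (Step.L Step.done))))) (Scr.cons (nat_lit 12) (nat_lit 4) (Step.L (Step.L (Step.L (Step.L (Step.D (nat_lit 7912) Step.done))))) (Scr.cons (nat_lit 12) (nat_lit 4) (Step.L (Step.D (nat_lit 7912) (Step.F (nat_lit 1617) (Step.L (Step.L Step.done))))) (Scr.cons (nat_lit 12) (nat_lit 4) (Step.L (Step.L (Step.L (Step.L (Step.D (nat_lit 7922) Step.done))))) (Scr.cons (nat_lit 12) (nat_lit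 4) (Step.L (Step.D (nat_lit 7922) (Step.F (nat_lit 1619) (Step.L (Step.L Step.done))))) (Scr.cons (nat_lit 6) (nat_lit 1) (Step.L (Step.L (Step.L (Step.L (Step.L (Step.L (Step.L (Step.L (Step.L (Step.L (Step.D (nat_lit 5191) Step.done))))))))))) (Scr.cons (nat_lit 13) (nat_lit 2) (Step.L (Step.L (Step.L (Step.L (Step.L (Step.L (Step.L (Step.L (Step.L (Step.L (Step.D (nat_lit 5191) Step.done))))))))))) (Scr.cons (nat_lit 12) (nat_lit 1) (Step.L (Step.B (nat_lit 1621) (Step.F (nat_lit 1622) (Step.L (Step.L Step.done))))) (Scr.cons (nat_lit 12) (nat_lit 1) (Step.L (Step.L (Step.L (Step.L (Step.D (nat_lit 7923) Step.done))))) (Scr.cons (nat_lit 12) (nat_lit 1) (Step.L (Step.D (nat_lit 7923) (Step.F (nat_lit 1624) (Step.L (Step.L Step.done))))) (Scr.cons (nat_lit 12) (nat_lit 4) (Step.L (Step.L (Step.L (Step.L (Step.D (nat_lit 7938) Step.done))))) (Scr.cons (nat_lit 12) (nat_lit 4) (Step.L (Step.D (nat_lit 7938) (Step.F (nat_lit 1626) (Step.L (Step.L Step.done))))) (Scr.cons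 (nat_lit 12) (nat_lit 4) (Step.L (Step.L (Step.L (Step.L (Step.D (nat_lit 7955) Step.done))))) (Scr.cons (nat_lit 12) (nat_lit 4) (Step.L (Step.D (nat_lit 7955) (Step.F (nat_lit 1628) (Step.L (Step.L Step.done))))) (Scr.cons (nat_lit 12) (nat_lit 1) (Step.L (Step.L (Step.L (Step.L (Step.D (nat_lit 7956) Step.done))))) (Scr.cons (nat_lit 12) (nat_lit 1) (Step.L (Step.D (nat_lit 7956) (Step.F (nat_lit 1630) (Step.L (Step.L Step.done))))) (Scr.cons (nat_lit 7) (nat_lit 1) (Step.L (Step.L (Step.L (Step.L (Step.L (Step.L (Step.L (Step.L (Step.L (Step.L (Step.L (Step.L (Step.L (Step.L (Step.L (Step.L (Step.L (Step.L (Step.L (Step.D (nat_lit 10964) Step.done)))))))))))))))))))) (Scr.cons (nat_lit 11) (nat_lit 0) (Step.L (Step.L (Step.B (nat_lit 1632) (Step.U (nat_lit 10964) (Step.L Step.done))))) (Scr.cons (nat_lit 12) (nat_lit 4) (Step.L (Step.L (Step.L (Step.L (Step.D (nat_lit 8015) Step.done))))) (Scr.cons (nat_lit 12) (nat_lit 4) (Step.L (Step.D (nat_lit 8015) (Step.F (nat_lit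 1634) (Step.L (Step.L Step.done))))) (Scr.cons (nat_lit 12) (nat_lit 1) (Step.L (Step.L (Step.L (Step.L (Step.D (nat_lit 8025) Step.done))))) (Scr.cons (nat_lit 12) (nat_lit 1) (Step.L (Step.D (nat_lit 8025) (Step.F (nat_lit 1636) (Step.L (Step.L Step.done))))) (Scr.cons (nat_lit 11) (nat_lit 0) (Step.L (Step.L (Step.L (Step.L (Step.D (nat_lit 8081) Step.done))))) (Scr.cons (nat_lit 12) (nat_lit 1) (Step.F (nat_lit 1638) (Step.L (Step.L (Step.B (nat_lit 1638) (Step.D (nat_lit 11061) Step.done))))) (Scr.cons (nat_lit 16) (nat_lit 1) (Step.F (nat_lit 1639) (Step.F (nat_lit 1638) (Step.L (Step.L (Step.L (Step.L (Step.L (Step.L (Step.L (Step.L (Step.L (Step.L (Step.L (Step.L (Step.L (Step.L (Step.L (Step.L (Step.L (Step.L (Step.L (Step.L (Step.D (nat_lit 10336) Step.done))))))))))))))))))))))) (Scr.cons (nat_lit 12) (nat_lit 1) (Step.L (Step.L (Step.L (Step.L (Step.D (nat_lit 10336) Step.done))))) (Scr.cons (nat_lit 13) (nat_lit 0) (Step.L (Step.L (Step.D (nat_lit 8081) (Step.B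 (nat_lit 1639) (Step.B (nat_lit 1640) (Step.F (nat_lit 1641) (Step.L (Step.L (Step.L (Step.L (Step.L Step.done))))))))))) Scr.nil))))))))))))))))))))))))))))))))))))))))
noncomputable def s41 : Scr := (Scr.cons (nat_lit 12) (nat_lit 1) (Step.L (Step.L (Step.L (Step.L (Step.D (nat_lit 8104) Step.done))))) (Scr.cons (nat_lit 12) (nat_lit 1) (Step.L (Step.D (nat_lit 8104) (Step.F (nat_lit 1643) (Step.L (Step.L Step.done))))) (Scr.cons (nat_lit 12) (nat_lit 4) (Step.L (Step.L (Step.L (Step.L (Step.D (nat_lit 8108) Step.done))))) (Scr.cons (nat_lit 12) (nat_lit 4) (Step.L (Step.D (nat_lit 8108) (Step.F (nat_lit 1645) (Step.L (Step.L Step.done))))) (Scr.cons (nat_lit 12) (nat_lit 4) (Step.L (Step.L (Step.L (Step.L (Step.D (nat_lit 8119) Step.done))))) (Scr.cons (nat_lit 12) (nat_lit 4) (Step.L (Step.D (nat_lit 8119) (Step.F (nat_lit 1647) (Step.L (Step.L Step.done))))) (Scr.cons (nat_lit 12) (nat_lit 1) (Step.L (Step.L (Step.L (Step.L (Step.D (nat_lit 8121) Step.done))))) (Scr.cons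 (nat_lit 12) (nat_lit 1) (Step.L (Step.D (nat_lit 8121) (Step.F (nat_lit 1649) (Step.L (Step.L Step.done))))) (Scr.cons (nat_lit 12) (nat_lit 4) (Step.L (Step.L (Step.L (Step.L (Step.D (nat_lit 8129) Step.done))))) (Scr.cons (nat_lit 12) (nat_lit 4) (Step.L (Step.D (nat_lit 8129) (Step.F (nat_lit 1651) (Step.L (Step.L Step.done))))) (Scr.cons (nat_lit 12) (nat_lit 1) (Step.L (Step.L (Step.L (Step.L (Step.D (nat_lit 8134) Step.done))))) (Scr.cons (nat_lit 12) (nat_lit 1) (Step.L (Step.D (nat_lit 8134) (Step.F (nat_lit 1653) (Step.L (Step.L Step.done))))) (Scr.cons (nat_lit 12) (nat_lit 1) (Step.L (Step.L (Step.L (Step.L (Step.D (nat_lit 8165) Step.done))))) (Scr.cons (nat_lit 12) (nat_lit 1) (Step.L (Step.D (nat_lit 8165) (Step.F (nat_lit 1655) (Step.L (Step.L Step.done))))) (Scr.cons (nat_lit 12) (nat_lit 4) (Step.L (Step.L (Step.L (Step.L (Step.D (nat_lit 8206) Step.done))))) (Scr.cons (nat_lit 12) (nat_lit 4) (Step.L (Step.D (nat_lit 8206) (Step.F (nat_lit 1657) (Step.L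 (Step.L Step.done))))) (Scr.cons (nat_lit 12) (nat_lit 1) (Step.L (Step.L (Step.L (Step.L (Step.D (nat_lit 8208) Step.done))))) (Scr.cons (nat_lit 12) (nat_lit 1) (Step.L (Step.D (nat_lit 8208) (Step.F (nat_lit 1659) (Step.L (Step.L Step.done))))) (Scr.cons (nat_lit 12) (nat_lit 4) (Step.L (Step.L (Step.L (Step.L (Step.D (nat_lit 8209) Step.done))))) (Scr.cons (nat_lit 12) (nat_lit 4) (Step.L (Step.D (nat_lit 8209) (Step.F (nat_lit 1661) (Step.L (Step.L Step.done))))) (Scr.cons (nat_lit 12) (nat_lit 4) (Step.L (Step.L (Step.L (Step.L (Step.D (nat_lit 8220) Step.done))))) (Scr.cons (nat_lit 12) (nat_lit 4) (Step.L (Step.D (nat_lit 8220) (Step.F (nat_lit 1663) (Step.L (Step.L Step.done))))) (Scr.cons (nat_lit 8) (nat_lit 1) (Step.U (nat_lit 5201) (Step.L (Step.L (Step.L (Step.L (Step.L (Step.L (Step.L (Step.L (Step.L (Step.L (Step.L (Step.L (Step.B (nat_lit 789) (Step.D (nat_lit 8219) Step.done))))))))))))))) (Scr.cons (nat_lit 12) (nat_lit 0) (Step.B (nat_lit 1665) (Step.U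 (nat_lit 8219) (Step.F (nat_lit 789) (Step.D (nat_lit 5199) (Step.D (nat_lit 8219) Step.done))))) (Scr.cons (nat_lit 12) (nat_lit 1) (Step.L (Step.L (Step.L (Step.L (Step.D (nat_lit 1614) Step.done))))) (Scr.cons (nat_lit 12) (nat_lit 1) (Step.U (nat_lit 3204) (Step.F (nat_lit 1667) (Step.D (nat_lit 1614) (Step.D (nat_lit 3204) (Step.D (nat_lit 5684) Step.done))))) (Scr.cons (nat_lit 16) (nat_lit 5) (Step.U (nat_lit 8788) (Step.F (nat_lit 1668) (Step.U (nat_lit 3204) (Step.F (nat_lit 1667) (Step.L (Step.L (Step.L (Step.L (Step.L (Step.L (Step.L (Step.L (Step.L (Step.L (Step.L (Step.L (Step.L (Step.L (Step.L (Step.L (Step.L (Step.L (Step.D (nat_lit 5201) (Step.D (nat_lit 8223) Step.done)))))))))))))))))))))))) (Scr.cons (nat_lit 1) (nat_lit 0) (Step.D (nat_lit 8788) (Step.B (nat_lit 1669) Step.done)) (Scr.cons (nat_lit 12) (nat_lit 1) (Step.F (nat_lit 1670) (Step.F (nat_lit 1668) (Step.D (nat_lit 5684) (Step.B (nat_lit 1670) (Step.D (nat_lit 11190) Step.done))))) (Scr.cons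 (nat_lit 15) (nat_lit 1) (Step.F (nat_lit 1671) (Step.F (nat_lit 1670) (Step.F (nat_lit 1668) (Step.U (nat_lit 3204) (Step.F (nat_lit 1667) (Step.L (Step.L (Step.L (Step.L (Step.L (Step.L (Step.L (Step.L (Step.L (Step.D (nat_lit 8781) Step.done))))))))))))))) (Scr.cons (nat_lit 12) (nat_lit 4) (Step.L (Step.L (Step.L (Step.L (Step.D (nat_lit 8781) Step.done))))) (Scr.cons (nat_lit 13) (nat_lit 0) (Step.L (Step.L (Step.L (Step.B (nat_lit 789) (Step.D (nat_lit 8219) (Step.F (nat_lit 1666) (Step.D (nat_lit 8223) (Step.B (nat_lit 1671) (Step.B (nat_lit 1672) (Step.F (nat_lit 1673) (Step.L Step.done))))))))))) (Scr.cons (nat_lit 12) (nat_lit 4) (Step.L (Step.L (Step.L (Step.L (Step.D (nat_lit 3117) Step.done))))) (Scr.cons (nat_lit 12) (nat_lit 4) (Step.L (Step.D (nat_lit 3117) (Step.F (nat_lit 1675) (Step.L (Step.D (nat_lit 5543) Step.done))))) (Scr.cons (nat_lit 12) (nat_lit 4) (Step.L (Step.L (Step.L (Step.L (Step.D (nat_lit 5625) Step.done))))) (Scr.cons (nat_lit 12) (nat_lit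 4) (Step.U (nat_lit 1596) (Step.L (Step.L (Step.D (nat_lit 1596) (Step.D (nat_lit 3171) Step.done))))) (Scr.cons (nat_lit 13) (nat_lit 3) (Step.U (nat_lit 5625) (Step.L (Step.L (Step.L (Step.L (Step.L (Step.L (Step.D (nat_lit 1596) (Step.B (nat_lit 1678) (Step.D (nat_lit 5622) (Step.D (nat_lit 8720) Step.done))))))))))) (Scr.cons (nat_lit 12) (nat_lit 1) (Step.L (Step.L (Step.L (Step.L (Step.D (nat_lit 5871) Step.done))))) (Scr.cons (nat_lit 15) (nat_lit 1) (Step.F (nat_lit 1680) (Step.L (Step.L (Step.L (Step.L (Step.L (Step.L (Step.L (Step.L (Step.D (nat_lit 104) (Step.D (nat_lit 323) (Step.D (nat_lit 867) (Step.D (nat_lit 1879) (Step.D (nat_lit 3648) (Step.D (nat_lit 6357) Step.done))))))))))))))) (Scr.cons (nat_lit 16) (nat_lit 4) (Step.U (nat_lit 3649) (Step.D (nat_lit 3648) (Step.D (nat_lit 6357) (Step.F (nat_lit 1681) (Step.F (nat_lit 1680) (Step.L (Step.L (Step.L (Step.L (Step.L (Step.L (Step.L (Step.L (Step.L (Step.L (Step.L (Step.L (Step.L (Step.L (Step.L (Step.L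 (Step.L (Step.D (nat_lit 3117) (Step.D (nat_lit 5541) Step.done)))))))))))))))))))))))) Scr.nil))))))))))))))))))))))))))))))))))))))))
noncomputable def s42 : Scr := (Scr.cons (nat_lit 1) (nat_lit 1) (Step.D (nat_lit 5541) (Step.F (nat_lit 1682) Step.done)) (Scr.cons (nat_lit 12) (nat_lit 4) (Step.U (nat_lit 104) (Step.L (Step.L (Step.D (nat_lit 104) (Step.D (nat_lit 323) Step.done))))) (Scr.cons (nat_lit 12) (nat_lit 4) (Step.U (nat_lit 867) (Step.F (nat_lit 1684) (Step.D (nat_lit 323) (Step.D (nat_lit 867) (Step.D (nat_lit 1879) Step.done))))) (Scr.cons (nat_lit 12) (nat_lit 1) (Step.U (nat_lit 3649) (Step.F (nat_lit 1685) (Step.D (nat_lit 1879) (Step.D (nat_lit 3649) (Step.D (nat_lit 6359) Step.done))))) (Scr.cons (nat_lit 7) (nat_lit 2) (Step.U (nat_lit 3650) (Step.U (nat_lit 1880) (Step.U (nat_lit 867) (Step.F (nat_lit 1684) (Step.U (nat_lit 104) (Step.L (Step.L (Step.L (Step.L (Step.L (Step.L (Step.L (Step.L (Step.L (Step.L (Step.L (Step.L (Step.L (Step.D (nat_lit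 2782) (Step.D (nat_lit 5055) Step.done)))))))))))))))))))) (Scr.cons (nat_lit 11) (nat_lit 0) (Step.B (nat_lit 1687) (Step.U (nat_lit 5055) (Step.U (nat_lit 2782) (Step.D (nat_lit 2781) (Step.D (nat_lit 5054) Step.done))))) (Scr.cons (nat_lit 12) (nat_lit 4) (Step.U (nat_lit 2781) (Step.L (Step.L (Step.D (nat_lit 2781) (Step.D (nat_lit 5053) Step.done))))) (Scr.cons (nat_lit 12) (nat_lit 1) (Step.L (Step.L (Step.L (Step.L (Step.D (nat_lit 2780) Step.done))))) (Scr.cons (nat_lit 12) (nat_lit 4) (Step.U (nat_lit 5051) (Step.F (nat_lit 1690) (Step.D (nat_lit 2780) (Step.D (nat_lit 5051) (Step.D (nat_lit 8065) Step.done))))) (Scr.cons (nat_lit 11) (nat_lit 0) (Step.U (nat_lit 5282) (Step.U (nat_lit 2925) (Step.D (nat_lit 2924) (Step.D (nat_lit 5281) (Step.D (nat_lit 8316) Step.done))))) (Scr.cons (nat_lit 12) (nat_lit 4) (Step.U (nat_lit 2924) (Step.L (Step.L (Step.D (nat_lit 2924) (Step.D (nat_lit 5280) Step.done))))) (Scr.cons (nat_lit 12) (nat_lit 4) (Step.U (nat_lit 5281)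 (Step.D (nat_lit 5280) (Step.F (nat_lit 1693) (Step.D (nat_lit 5281) (Step.D (nat_lit 8315) Step.done))))) (Scr.cons (nat_lit 11) (nat_lit 0) (Step.U (nat_lit 3121) (Step.U (nat_lit 1565) (Step.D (nat_lit 1564) (Step.D (nat_lit 3119) (Step.D (nat_lit 5544) Step.done))))) (Scr.cons (nat_lit 12) (nat_lit 4) (Step.U (nat_lit 12) (Step.L (Step.L (Step.D (nat_lit 12) (Step.D (nat_lit 66) Step.done))))) (Scr.cons (nat_lit 12) (nat_lit 1) (Step.U (nat_lit 239) (Step.F (nat_lit 1696) (Step.D (nat_lit 66) (Step.D (nat_lit 239) (Step.D (nat_lit 662) Step.done))))) (Scr.cons (nat_lit 11) (nat_lit 0) (Step.L (Step.L (Step.L (Step.D (nat_lit 12) (Step.D (nat_lit 67) Step.done))))) (Scr.cons (nat_lit 14) (nat_lit 4) (Step.U (nat_lit 5583) (Step.U (nat_lit 3147) (Step.L (Step.L (Step.L (Step.L (Step.L (Step.L (Step.L (Step.L (Step.L (Step.L (Step.L (Step.L (Step.L (Step.L (Step.L (Step.D (nat_lit 2924) (Step.D (nat_lit 5281) (Step.D (nat_lit 8315) Step.done)))))))))))))))))))) (Scr.cons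 (nat_lit 11) (nat_lit 0) (Step.F (nat_lit 1699) (Step.U (nat_lit 5583) (Step.U (nat_lit 3147) (Step.L (Step.D (nat_lit 5582) Step.done))))) (Scr.cons (nat_lit 16) (nat_lit 2) (Step.F (nat_lit 1695) (Step.U (nat_lit 3121) (Step.U (nat_lit 1565) (Step.F (nat_lit 1697) (Step.U (nat_lit 239) (Step.F (nat_lit 1696) (Step.D (nat_lit 67) (Step.F (nat_lit 1698) (Step.L (Step.L (Step.L (Step.L (Step.L (Step.L (Step.L (Step.L (Step.L (Step.L (Step.L (Step.D (nat_lit 5582) (Step.F (nat_lit 1700) (Step.F (nat_lit 1694) (Step.D (nat_lit 8316) Step.done))))))))))))))))))))))) (Scr.cons (nat_lit 12) (nat_lit 4) (Step.U (nat_lit 8316) (Step.D (nat_lit 8315) (Step.F (nat_lit 1694) (Step.D (nat_lit 8316) (Step.F (nat_lit 1701) Step.done))))) (Scr.cons (nat_lit 13) (nat_lit 0) (Step.U (nat_lit 1564) (Step.F (nat_lit 1697) (Step.U (nat_lit 239) (Step.U (nat_lit 66) (Step.U (nat_lit 12) (Step.L (Step.L (Step.L (Step.L (Step.D (nat_lit 1560) (Step.D (nat_lit 3110) Step.done))))))))))) (Scr.cons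 (nat_lit 12) (nat_lit 1) (Step.L (Step.L (Step.L (Step.L (Step.D (nat_lit 1560) Step.done))))) (Scr.cons (nat_lit 12) (nat_lit 1) (Step.U (nat_lit 3111) (Step.F (nat_lit 1704) (Step.D (nat_lit 1560) (Step.D (nat_lit 3111) (Step.D (nat_lit 5536) Step.done))))) (Scr.cons (nat_lit 12) (nat_lit 1) (Step.U (nat_lit 5537) (Step.D (nat_lit 5536) (Step.F (nat_lit 1705) (Step.D (nat_lit 5537) (Step.D (nat_lit 8634) Step.done))))) (Scr.cons (nat_lit 7) (nat_lit 0) (Step.U (nat_lit 8066) (Step.U (nat_lit 5051) (Step.U (nat_lit 2780) (Step.L (Step.L (Step.L (Step.L (Step.L (Step.L (Step.L (Step.L (Step.L (Step.L (Step.L (Step.L (Step.L (Step.B (nat_lit 1704) (Step.D (nat_lit 3111) (Step.D (nat_lit 5537) (Step.D (nat_lit 8634) Step.done)))))))))))))))))))) (Scr.cons (nat_lit 7) (nat_lit 0) (Step.U (nat_lit 8218) (Step.U (nat_lit 5198) (Step.L (Step.L (Step.L (Step.L (Step.L (Step.D (nat_lit 2925) (Step.D (nat_lit 5282) (Step.B (nat_lit 1692) (Step.B (nat_lit 1702) (Step.U (nat_lit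 5544) (Step.U (nat_lit 3119) (Step.B (nat_lit 1703) (Step.U (nat_lit 3110) (Step.D (nat_lit 3111) (Step.D (nat_lit 5537) (Step.B (nat_lit 1706) (Step.F (nat_lit 1707) (Step.U (nat_lit 8066) (Step.D (nat_lit 8065) Step.done))))))))))))))))))))) (Scr.cons (nat_lit 1) (nat_lit 1) (Step.D (nat_lit 8218) (Step.B (nat_lit 1708) Step.done)) (Scr.cons (nat_lit 13) (nat_lit 3) (Step.U (nat_lit 8069) (Step.U (nat_lit 5053) (Step.U (nat_lit 2781) (Step.L (Step.L (Step.L (Step.L (Step.D (nat_lit 2780) (Step.D (nat_lit 5051) (Step.B (nat_lit 1691) (Step.F (nat_lit 1709) (Step.D (nat_lit 8217) Step.done)))))))))))) (Scr.cons (nat_lit 0) (nat_lit 1) (Step.D (nat_lit 8217) (Step.F (nat_lit 1710) Step.done)) (Scr.cons (nat_lit 12) (nat_lit 1) (Step.U (nat_lit 5202) (Step.L (Step.L (Step.D (nat_lit 5202) (Step.D (nat_lit 8224) Step.done))))) (Scr.cons (nat_lit 12) (nat_lit 1) (Step.U (nat_lit 8225) (Step.D (nat_lit 8224) (Step.F (nat_lit 1712) (Step.D (nat_lit 8225) (Step.D (nat_lit 11191)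 Step.done))))) (Scr.cons (nat_lit 11) (nat_lit 0) (Step.L (Step.L (Step.L (Step.D (nat_lit 5619) (Step.D (nat_lit 8718) Step.done))))) (Scr.cons (nat_lit 16) (nat_lit 2) (Step.F (nat_lit 1714) (Step.L (Step.L (Step.L (Step.L (Step.L (Step.L (Step.L (Step.L (Step.L (Step.L (Step.L (Step.L (Step.L (Step.L (Step.L (Step.L (Step.L (Step.L (Step.L (Step.L (Step.L (Step.D (nat_lit 5683) Step.done))))))))))))))))))))))) (Scr.cons (nat_lit 12) (nat_lit 4) (Step.U (nat_lit 5683) (Step.L (Step.L (Step.D (nat_lit 5683) (Step.F (nat_lit 1715) Step.done))))) (Scr.cons (nat_lit 11) (nat_lit 0) (Step.U (nat_lit 8225) (Step.U (nat_lit 5202) (Step.D (nat_lit 5201) (Step.D (nat_lit 8223) (Step.F (nat_lit 1670) (Step.D (nat_lit 8787) Step.done)))))) (Scr.cons (nat_lit 1) (nat_lit 1) (Step.D (nat_lit 8787) (Step.F (nat_lit 1717) Step.done)) (Scr.cons (nat_lit 6) (nat_lit 0) (Step.U (nat_lit 8717) (Step.D (nat_lit 8718) (Step.F (nat_lit 1716) (Step.U (nat_lit 5683) (Step.L (Step.L (Step.D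 (nat_lit 1614) (Step.D (nat_lit 3204) (Step.B (nat_lit 1668) (Step.B (nat_lit 1718) (Step.D (nat_lit 11191) Step.done))))))))))) (Scr.cons (nat_lit 9) (nat_lit 5) (Step.U (nat_lit 8070) (Step.F (nat_lit 1687) (Step.B (nat_lit 1688) (Step.U (nat_lit 5054) (Step.B (nat_lit 1689) (Step.D (nat_lit 8069) (Step.F (nat_lit 1711) (Step.U (nat_lit 5198) (Step.L (Step.L (Step.B (nat_lit 789) (Step.D (nat_lit 8219) (Step.F (nat_lit 1665) (Step.U (nat_lit 5201) (Step.D (nat_lit 5202) (Step.D (nat_lit 8225) (Step.B (nat_lit 1713) (Step.F (nat_lit 1719) (Step.U (nat_lit 8717) (Step.U (nat_lit 5619) (Step.L (Step.L (Step.B (nat_lit 909) (Step.D (nat_lit 8719) Step.done)))))))))))))))))))))))) (Scr.cons (nat_lit 1) (nat_lit 1) (Step.D (nat_lit 8719) (Step.F (nat_lit 1720) (Step.D (nat_lit 11048) Step.done))) (Scr.cons (nat_lit 1) (nat_lit 1) (Step.D (nat_lit 11048) (Step.F (nat_lit 1721) Step.done)) Scr.nil))))))))))))))))))))))))))))))))))))))))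
noncomputable def s43 : Scr := (Scr.cons (nat_lit 8) (nat_lit 1) (Step.L (Step.L (Step.L (Step.L (Step.L (Step.L (Step.B (nat_lit 909) (Step.F (nat_lit 1722) (Step.U (nat_lit 8070) (Step.F (nat_lit 1687) (Step.U (nat_lit 3650) (Step.U (nat_lit 1880) (Step.B (nat_lit 1685) (Step.D (nat_lit 3649) (Step.B (nat_lit 1686) (Step.D (nat_lit 9513) Step.done)))))))))))))))) (Scr.cons (nat_lit 1) (nat_lit 1) (Step.D (nat_lit 9513) (Step.F (nat_lit 1723) (Step.D (nat_lit 1596) Step.done))) (Scr.cons (nat_lit 0) (nat_lit 1) (Step.B (nat_lit 1686) (Step.B (nat_lit 1724) (Step.D (nat_lit 3171) Step.done))) (Scr.cons (nat_lit 1) (nat_lit 0) (Step.B (nat_lit 1683) (Step.B (nat_lit 1725) (Step.D (nat_lit 5622) Step.done))) (Scr.cons (nat_lit 0) (nat_lit 1) (Step.U (nat_lit 8720) (Step.F (nat_lit 1726) (Step.F (nat_lit 1675) Step.done))) (Scr.cons (nat_lit 1) (nat_lit 1) (Step.B (nat_lit 1679) (Step.B (nat_lit 1727) (Step.L Step.done))) (Scr.cons (nat_lit 0) (nat_lit 1) (Step.B (nat_lit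 1677) (Step.B (nat_lit 1728) (Step.D (nat_lit 5543) Step.done))) (Scr.cons (nat_lit 0) (nat_lit 0) (Step.B (nat_lit 1676) (Step.F (nat_lit 1729) Step.done)) (Scr.cons (nat_lit 11) (nat_lit 0) (Step.L (Step.L (Step.L (Step.L (Step.D (nat_lit 9238) Step.done))))) (Scr.cons (nat_lit 12) (nat_lit 4) (Step.U (nat_lit 8216) (Step.L (Step.L (Step.D (nat_lit 8216) (Step.D (nat_lit 11186) Step.done))))) (Scr.cons (nat_lit 12) (nat_lit 1) (Step.L (Step.L (Step.L (Step.L (Step.D (nat_lit 1308) Step.done))))) (Scr.cons (nat_lit 12) (nat_lit 4) (Step.U (nat_lit 272) (Step.L (Step.L (Step.D (nat_lit 272) (Step.D (nat_lit 760) Step.done))))) (Scr.cons (nat_lit 11) (nat_lit 0) (Step.U (nat_lit 273) (Step.U (nat_lit 82) (Step.L (Step.D (nat_lit 272) (Step.D (nat_lit 761) Step.done))))) (Scr.cons (nat_lit 13) (nat_lit 2) (Step.L (Step.L (Step.L (Step.L (Step.L (Step.L (Step.L (Step.L (Step.L (Step.L (Step.D (nat_lit 82) Step.done))))))))))) (Scr.cons (nat_lit 16) (nat_lit 2) (Step.F (nat_lit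 1734) (Step.D (nat_lit 761) (Step.F (nat_lit 1735) (Step.U (nat_lit 273) (Step.F (nat_lit 1736) (Step.L (Step.L (Step.L (Step.L (Step.L (Step.L (Step.L (Step.L (Step.L (Step.L (Step.L (Step.L (Step.L (Step.L (Step.L (Step.L (Step.L (Step.L (Step.D (nat_lit 683) Step.done)))))))))))))))))))))))) (Scr.cons (nat_lit 0) (nat_lit 0) (Step.B (nat_lit 1734) (Step.B (nat_lit 1737) Step.done)) (Scr.cons (nat_lit 15) (nat_lit 1) (Step.F (nat_lit 1733) (Step.L (Step.L (Step.L (Step.L (Step.L (Step.L (Step.L (Step.L (Step.L (Step.L (Step.D (nat_lit 683) (Step.F (nat_lit 1738) (Step.D (nat_lit 761) (Step.D (nat_lit 1734) Step.done))))))))))))))) (Scr.cons (nat_lit 11) (nat_lit 0) (Step.L (Step.L (Step.L (Step.L (Step.D (nat_lit 688) Step.done))))) (Scr.cons (nat_lit 7) (nat_lit 5) (Step.F (nat_lit 1733) (Step.B (nat_lit 1740) (Step.U (nat_lit 688) (Step.L (Step.L (Step.L (Step.L (Step.L (Step.L (Step.L (Step.L (Step.L (Step.L (Step.L (Step.L (Step.L (Step.L (Step.L (Step.L (Step.D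 (nat_lit 2615) Step.done)))))))))))))))))))) (Scr.cons (nat_lit 12) (nat_lit 4) (Step.L (Step.L (Step.L (Step.L (Step.D (nat_lit 176) Step.done))))) (Scr.cons (nat_lit 14) (nat_lit 4) (Step.U (nat_lit 1733) (Step.U (nat_lit 759) (Step.L (Step.D (nat_lit 272) (Step.D (nat_lit 761) (Step.D (nat_lit 1734) (Step.F (nat_lit 1739) (Step.B (nat_lit 1741) (Step.U (nat_lit 2615) (Step.L (Step.L (Step.L (Step.L (Step.L (Step.L (Step.L (Step.B (nat_lit 1742) (Step.D (nat_lit 512) (Step.D (nat_lit 1268) (Step.D (nat_lit 2608) Step.done)))))))))))))))))))) (Scr.cons (nat_lit 11) (nat_lit 0) (Step.F (nat_lit 1743) (Step.U (nat_lit 1733) (Step.U (nat_lit 759) (Step.L (Step.D (nat_lit 1731) Step.done))))) (Scr.cons (nat_lit 12) (nat_lit 4) (Step.U (nat_lit 512) (Step.F (nat_lit 1742) (Step.D (nat_lit 176) (Step.D (nat_lit 512) (Step.D (nat_lit 1267) Step.done))))) (Scr.cons (nat_lit 12) (nat_lit 4) (Step.U (nat_lit 1268) (Step.D (nat_lit 1267) (Step.F (nat_lit 1745) (Step.D (nat_lit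 1268) (Step.D (nat_lit 2608) Step.done))))) (Scr.cons (nat_lit 12) (nat_lit 1) (Step.F (nat_lit 1744) (Step.F (nat_lit 1746) (Step.D (nat_lit 2608) (Step.B (nat_lit 1744) (Step.D (nat_lit 3415) Step.done))))) (Scr.cons (nat_lit 6) (nat_lit 0) (Step.U (nat_lit 9180) (Step.U (nat_lit 6028) (Step.F (nat_lit 1747) (Step.U (nat_lit 1731) (Step.L (Step.L (Step.L (Step.L (Step.L (Step.D (nat_lit 8216) (Step.D (nat_lit 11186) Step.done))))))))))) (Scr.cons (nat_lit 4) (nat_lit 0) (Step.U (nat_lit 6214) (Step.F (nat_lit 1135) (Step.U (nat_lit 3481) (Step.D (nat_lit 3482) (Step.D (nat_lit 6107) Step.done))))) (Scr.cons (nat_lit 12) (nat_lit 1) (Step.U (nat_lit 6107) (Step.F (nat_lit 1158) (Step.B (nat_lit 1156) (Step.D (nat_lit 6107) (Step.D (nat_lit 9266) Step.done))))) (Scr.cons (nat_lit 13) (nat_lit 3) (Step.L (Step.L (Step.L (Step.D (nat_lit 272) (Step.B (nat_lit 1738) (Step.U (nat_lit 683) (Step.L (Step.L (Step.L (Step.L (Step.D (nat_lit 3187) Step.done))))))))))) (Scr.cons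 (nat_lit 12) (nat_lit 1) (Step.L (Step.L (Step.L (Step.L (Step.D (nat_lit 3187) Step.done))))) (Scr.cons (nat_lit 12) (nat_lit 1) (Step.L (Step.D (nat_lit 3187) (Step.F (nat_lit 1752) (Step.L (Step.D (nat_lit 5644) Step.done))))) (Scr.cons (nat_lit 11) (nat_lit 0) (Step.L (Step.L (Step.L (Step.D (nat_lit 104) (Step.D (nat_lit 324) Step.done))))) (Scr.cons (nat_lit 12) (nat_lit 1) (Step.F (nat_lit 1754) (Step.L (Step.L (Step.B (nat_lit 1754) (Step.D (nat_lit 869) Step.done))))) (Scr.cons (nat_lit 12) (nat_lit 1) (Step.U (nat_lit 1883) (Step.F (nat_lit 1755) (Step.D (nat_lit 869) (Step.D (nat_lit 1883) (Step.D (nat_lit 3652) Step.done))))) (Scr.cons (nat_lit 16) (nat_lit 4) (Step.U (nat_lit 6362) (Step.F (nat_lit 1756) (Step.U (nat_lit 1883) (Step.F (nat_lit 1755) (Step.F (nat_lit 1754) (Step.L (Step.L (Step.L (Step.L (Step.L (Step.L (Step.L (Step.L (Step.L (Step.L (Step.L (Step.L (Step.L (Step.L (Step.L (Step.L (Step.D (nat_lit 6350) (Step.D (nat_lit 9503) Step.done)))))))))))))))))))))))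 (Scr.cons (nat_lit 4) (nat_lit 0) (Step.U (nat_lit 6361) (Step.D (nat_lit 6362) (Step.B (nat_lit 1757) (Step.U (nat_lit 9503) (Step.D (nat_lit 9504) Step.done))))) (Scr.cons (nat_lit 6) (nat_lit 3) (Step.U (nat_lit 6361) (Step.U (nat_lit 3652) (Step.U (nat_lit 1883) (Step.F (nat_lit 1755) (Step.U (nat_lit 324) (Step.B (nat_lit 1684) (Step.D (nat_lit 867) (Step.D (nat_lit 1879) (Step.D (nat_lit 3649) (Step.B (nat_lit 1686) (Step.D (nat_lit 9512) Step.done))))))))))) (Scr.cons (nat_lit 1) (nat_lit 1) (Step.U (nat_lit 9512) (Step.B (nat_lit 1724) (Step.D (nat_lit 3172) Step.done))) (Scr.cons (nat_lit 0) (nat_lit 1) (Step.B (nat_lit 1759) (Step.B (nat_lit 1760) (Step.D (nat_lit 5623) Step.done))) (Scr.cons (nat_lit 1) (nat_lit 1) (Step.F (nat_lit 1758) (Step.B (nat_lit 1761) (Step.D (nat_lit 8721) Step.done))) Scr.nil))))))))))))))))))))))))))))))))))))))))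
noncomputable def s44 : Scr := (Scr.cons (nat_lit 7) (nat_lit 1) (Step.U (nat_lit 8721) (Step.U (nat_lit 5623) (Step.U (nat_lit 3172) (Step.U (nat_lit 1596) (Step.L (Step.L (Step.L (Step.L (Step.L (Step.L (Step.L (Step.L (Step.L (Step.L (Step.L (Step.L (Step.L (Step.L (Step.D (nat_lit 5644) (Step.D (nat_lit 8740) Step.done)))))))))))))))))))) (Scr.cons (nat_lit 1) (nat_lit 1) (Step.D (nat_lit 9504) (Step.B (nat_lit 1762) (Step.B (nat_lit 1763) Step.done))) (Scr.cons (nat_lit 1) (nat_lit 1) (Step.D (nat_lit 8740) (Step.F (nat_lit 1764) (Step.D (nat_lit 9503) Step.done))) (Scr.cons (nat_lit 1) (nat_lit 1) (Step.D (nat_lit 9503) (Step.F (nat_lit 1765) Step.done)) (Scr.cons (nat_lit 8) (nat_lit 0) (Step.U (nat_lit 1731) (Step.L (Step.B (nat_lit 1751) (Step.U (nat_lit 3187) (Step.L (Step.B (nat_lit 1753) (Step.F (nat_lit 1766) (Step.U (nat_lit 6350) (Step.L (Step.L (Step.L (Step.B (nat_lit 1152) (Step.D (nat_lit 1874) (Step.B (nat_lit 1158) (Step.D (nat_lit 6107) (Step.B (nat_lit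 1750) Step.done)))))))))))))))) (Scr.cons (nat_lit 0) (nat_lit 1) (Step.B (nat_lit 1750) (Step.F (nat_lit 1767) (Step.D (nat_lit 3415) Step.done))) (Scr.cons (nat_lit 1) (nat_lit 0) (Step.B (nat_lit 1749) (Step.B (nat_lit 1768) (Step.D (nat_lit 6028) Step.done))) (Scr.cons (nat_lit 0) (nat_lit 1) (Step.B (nat_lit 1132) (Step.B (nat_lit 1769) (Step.D (nat_lit 9180) Step.done))) (Scr.cons (nat_lit 1) (nat_lit 1) (Step.F (nat_lit 1748) (Step.F (nat_lit 1770) (Step.L Step.done))) (Scr.cons (nat_lit 0) (nat_lit 1) (Step.B (nat_lit 1732) (Step.B (nat_lit 1771) (Step.L Step.done))) (Scr.cons (nat_lit 1) (nat_lit 0) (Step.D (nat_lit 8216) (Step.B (nat_lit 1772) (Step.B (nat_lit 1731) Step.done))) (Scr.cons (nat_lit 1) (nat_lit 0) (Step.B (nat_lit 1731) (Step.F (nat_lit 1773) Step.done)) (Scr.cons (nat_lit 12) (nat_lit 1) (Step.U (nat_lit 7779) (Step.L (Step.L (Step.D (nat_lit 7779) (Step.D (nat_lit 10791) Step.done))))) (Scr.cons (nat_lit 12) (nat_lit 4) (Step.U (nat_lit 3555)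 (Step.F (nat_lit 1162) (Step.D (nat_lit 1820) (Step.D (nat_lit 3555) (Step.D (nat_lit 6225) Step.done))))) (Scr.cons (nat_lit 11) (nat_lit 0) (Step.U (nat_lit 9403) (Step.F (nat_lit 1154) (Step.D (nat_lit 7050) (Step.B (nat_lit 1160) (Step.D (nat_lit 9502) Step.done))))) (Scr.cons (nat_lit 12) (nat_lit 4) (Step.U (nat_lit 2607) (Step.F (nat_lit 1745) (Step.D (nat_lit 1267) (Step.D (nat_lit 2607) (Step.D (nat_lit 4798) Step.done))))) (Scr.cons (nat_lit 12) (nat_lit 1) (Step.U (nat_lit 7782) (Step.F (nat_lit 1778) (Step.D (nat_lit 4798) (Step.D (nat_lit 7782) (Step.D (nat_lit 10798) Step.done))))) (Scr.cons (nat_lit 13) (nat_lit 3) (Step.U (nat_lit 9179) (Step.U (nat_lit 6027) (Step.F (nat_lit 1747) (Step.F (nat_lit 1744) (Step.U (nat_lit 2608) (Step.U (nat_lit 1268) (Step.D (nat_lit 1267) (Step.D (nat_lit 2607) (Step.B (nat_lit 1778) (Step.D (nat_lit 7782) (Step.D (nat_lit 10798) Step.done))))))))))) (Scr.cons (nat_lit 1) (nat_lit 1) (Step.D (nat_lit 6107) (Step.B (nat_lit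 1768) (Step.D (nat_lit 6027) Step.done))) (Scr.cons (nat_lit 0) (nat_lit 1) (Step.U (nat_lit 9179) (Step.F (nat_lit 1781) (Step.F (nat_lit 1158) Step.done))) (Scr.cons (nat_lit 1) (nat_lit 0) (Step.F (nat_lit 1780) (Step.B (nat_lit 1782) (Step.D (nat_lit 3643) Step.done))) (Scr.cons (nat_lit 0) (nat_lit 1) (Step.B (nat_lit 1779) (Step.B (nat_lit 1783) (Step.D (nat_lit 6349) Step.done))) (Scr.cons (nat_lit 1) (nat_lit 1) (Step.D (nat_lit 7782) (Step.B (nat_lit 1784) (Step.D (nat_lit 9502) Step.done))) (Scr.cons (nat_lit 1) (nat_lit 1) (Step.B (nat_lit 1777) (Step.F (nat_lit 1785) (Step.D (nat_lit 7781) Step.done))) (Scr.cons (nat_lit 1) (nat_lit 1) (Step.D (nat_lit 9403) (Step.B (nat_lit 1786) (Step.D (nat_lit 10797) Step.done))) (Scr.cons (nat_lit 1) (nat_lit 1) (Step.D (nat_lit 10797) (Step.F (nat_lit 1787) Step.done)) (Scr.cons (nat_lit 8) (nat_lit 1) (Step.U (nat_lit 7781) (Step.U (nat_lit 4798) (Step.U (nat_lit 2607) (Step.U (nat_lit 1267) (Step.U (nat_lit 512) (Step.U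 (nat_lit 176) (Step.L (Step.L (Step.L (Step.L (Step.L (Step.L (Step.L (Step.L (Step.D (nat_lit 10790) Step.done))))))))))))))) (Scr.cons (nat_lit 13) (nat_lit 3) (Step.L (Step.L (Step.D (nat_lit 822) (Step.D (nat_lit 1820) (Step.D (nat_lit 3555) (Step.B (nat_lit 1776) (Step.F (nat_lit 1788) (Step.B (nat_lit 1789) (Step.U (nat_lit 10790) (Step.L (Step.D (nat_lit 7779) (Step.D (nat_lit 10791) Step.done)))))))))))) (Scr.cons (nat_lit 0) (nat_lit 1) (Step.B (nat_lit 1775) (Step.F (nat_lit 1790) (Step.L Step.done))) (Scr.cons (nat_lit 1) (nat_lit 1) (Step.D (nat_lit 7779) (Step.B (nat_lit 1791) (Step.D (nat_lit 6224) Step.done))) (Scr.cons (nat_lit 1) (nat_lit 1) (Step.D (nat_lit 6224) (Step.F (nat_lit 1792) Step.done)) (Scr.cons (nat_lit 12) (nat_lit 1) (Step.L (Step.L (Step.L (Step.L (Step.D (nat_lit 11107) Step.done))))) (Scr.cons (nat_lit 12) (nat_lit 1) (Step.L (Step.L (Step.L (Step.L (Step.D (nat_lit 570) Step.done))))) (Scr.cons (nat_lit 12) (nat_lit 4) (Step.U (nat_lit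 1388) (Step.F (nat_lit 1795) (Step.D (nat_lit 570) (Step.D (nat_lit 1388) (Step.D (nat_lit 2825) Step.done))))) (Scr.cons (nat_lit 6) (nat_lit 1) (Step.U (nat_lit 5113) (Step.F (nat_lit 1796) (Step.U (nat_lit 1388) (Step.U (nat_lit 570) (Step.L (Step.L (Step.L (Step.L (Step.L (Step.L (Step.L Step.done))))))))))) (Scr.cons (nat_lit 11) (nat_lit 0) (Step.U (nat_lit 5112) (Step.L (Step.L (Step.D (nat_lit 5111) (Step.D (nat_lit 8127) Step.done))))) (Scr.cons (nat_lit 12) (nat_lit 1) (Step.U (nat_lit 5112) (Step.L (Step.L (Step.D (nat_lit 5112) (Step.D (nat_lit 8128) Step.done))))) (Scr.cons (nat_lit 12) (nat_lit 1) (Step.F (nat_lit 1798) (Step.D (nat_lit 8128) (Step.F (nat_lit 1799) (Step.B (nat_lit 1798) (Step.D (nat_lit 11104) Step.done))))) (Scr.cons (nat_lit 12) (nat_lit 1) (Step.U (nat_lit 1389) (Step.F (nat_lit 1795) (Step.D (nat_lit 570) (Step.D (nat_lit 1389) (Step.D (nat_lit 2826) Step.done))))) (Scr.cons (nat_lit 8) (nat_lit 1) (Step.U (nat_lit 3449) (Step.L (Step.L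 (Step.L (Step.L (Step.L (Step.L (Step.L (Step.L (Step.L (Step.L (Step.B (nat_lit 1795) (Step.D (nat_lit 1389) (Step.B (nat_lit 1801) (Step.D (nat_lit 5114) Step.done))))))))))))))) Scr.nil))))))))))))))))))))))))))))))))))))))))
noncomputable def s45 : Scr := (Scr.cons (nat_lit 12) (nat_lit 0) (Step.B (nat_lit 1802) (Step.U (nat_lit 5114) (Step.F (nat_lit 1801) (Step.D (nat_lit 2826) (Step.D (nat_lit 5114) Step.done))))) (Scr.cons (nat_lit 12) (nat_lit 1) (Step.L (Step.L (Step.L (Step.L (Step.D (nat_lit 779) Step.done))))) (Scr.cons (nat_lit 15) (nat_lit 1) (Step.F (nat_lit 1804) (Step.L (Step.L (Step.L (Step.L (Step.L (Step.L (Step.L (Step.L (Step.L (Step.L (Step.L (Step.L (Step.L (Step.D (nat_lit 555) Step.done))))))))))))))) (Scr.cons (nat_lit 11) (nat_lit 0) (Step.U (nat_lit 199) (Step.L (Step.L (Step.L (Step.D (nat_lit 556) Step.done))))) (Scr.cons (nat_lit 12) (nat_lit 1) (Step.U (nat_lit 199) (Step.L (Step.L (Step.D (nat_lit 199) (Step.D (nat_lit 557) Step.done)))))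 (Scr.cons (nat_lit 12) (nat_lit 1) (Step.F (nat_lit 1806) (Step.D (nat_lit 557) (Step.F (nat_lit 1807) (Step.B (nat_lit 1806) (Step.D (nat_lit 1358) Step.done))))) (Scr.cons (nat_lit 12) (nat_lit 1) (Step.U (nat_lit 2768) (Step.F (nat_lit 1808) (Step.D (nat_lit 1358) (Step.D (nat_lit 2768) (Step.D (nat_lit 5038) Step.done))))) (Scr.cons (nat_lit 6) (nat_lit 2) (Step.F (nat_lit 1803) (Step.U (nat_lit 3449) (Step.L (Step.L (Step.D (nat_lit 779) (Step.B (nat_lit 1805) (Step.U (nat_lit 555) (Step.D (nat_lit 556) (Step.D (nat_lit 1358) (Step.D (nat_lit 2768) (Step.B (nat_lit 1809) Step.done))))))))))) (Scr.cons (nat_lit 12) (nat_lit 1) (Step.L (Step.L (Step.L (Step.L (Step.D (nat_lit 964) Step.done))))) (Scr.cons (nat_lit 12) (nat_lit 4) (Step.L (Step.L (Step.L (Step.L (Step.D (nat_lit 345) Step.done))))) (Scr.cons (nat_lit 12) (nat_lit 1) (Step.U (nat_lit 930) (Step.F (nat_lit 1812) (Step.D (nat_lit 345) (Step.D (nat_lit 930) (Step.D (nat_lit 2008) Step.done))))) (Scr.cons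 (nat_lit 6) (nat_lit 3) (Step.U (nat_lit 2073) (Step.U (nat_lit 964) (Step.L (Step.L (Step.L (Step.L (Step.L (Step.D (nat_lit 345) (Step.D (nat_lit 930) (Step.B (nat_lit 1813) (Step.D (nat_lit 3866) Step.done))))))))))) (Scr.cons (nat_lit 15) (nat_lit 1) (Step.F (nat_lit 1813) (Step.U (nat_lit 930) (Step.F (nat_lit 1812) (Step.L (Step.L (Step.L (Step.L (Step.L (Step.L (Step.L (Step.B (nat_lit 109) (Step.D (nat_lit 306) (Step.D (nat_lit 833) (Step.D (nat_lit 1832) (Step.D (nat_lit 3574) Step.done))))))))))))))) (Scr.cons (nat_lit 11) (nat_lit 0) (Step.U (nat_lit 2771) (Step.U (nat_lit 1360) (Step.D (nat_lit 1359) (Step.D (nat_lit 2769) (Step.D (nat_lit 5041) Step.done))))) (Scr.cons (nat_lit 12) (nat_lit 1) (Step.U (nat_lit 1360) (Step.F (nat_lit 1807) (Step.D (nat_lit 557) (Step.D (nat_lit 1360) (Step.D (nat_lit 2770) Step.done))))) (Scr.cons (nat_lit 12) (nat_lit 1) (Step.U (nat_lit 2771) (Step.D (nat_lit 2770) (Step.F (nat_lit 1817) (Step.D (nat_lit 2771) (Step.D (nat_lit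 5042) Step.done))))) (Scr.cons (nat_lit 12) (nat_lit 1) (Step.F (nat_lit 1816) (Step.D (nat_lit 5042) (Step.F (nat_lit 1818) (Step.B (nat_lit 1816) (Step.D (nat_lit 8059) Step.done))))) (Scr.cons (nat_lit 6) (nat_lit 1) (Step.L (Step.L (Step.L (Step.L (Step.L (Step.L (Step.L (Step.L (Step.L (Step.L (Step.D (nat_lit 884) Step.done))))))))))) (Scr.cons (nat_lit 13) (nat_lit 2) (Step.L (Step.L (Step.L (Step.L (Step.L (Step.L (Step.L (Step.L (Step.L (Step.L (Step.D (nat_lit 884) Step.done))))))))))) (Scr.cons (nat_lit 12) (nat_lit 1) (Step.U (nat_lit 886) (Step.B (nat_lit 1820) (Step.F (nat_lit 1821) (Step.D (nat_lit 886) (Step.D (nat_lit 1920) Step.done))))) (Scr.cons (nat_lit 12) (nat_lit 1) (Step.L (Step.D (nat_lit 359) (Step.F (nat_lit 108) (Step.L (Step.D (nat_lit 885) Step.done))))) (Scr.cons (nat_lit 13) (nat_lit 0) (Step.U (nat_lit 1918) (Step.F (nat_lit 1823) (Step.L (Step.B (nat_lit 108) (Step.B (nat_lit 110) (Step.F (nat_lit 106) (Step.U (nat_lit 307) (Step.L (Step.L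 (Step.L (Step.D (nat_lit 3579) Step.done))))))))))) (Scr.cons (nat_lit 15) (nat_lit 1) (Step.L (Step.L (Step.L (Step.L (Step.L (Step.L (Step.L (Step.L (Step.L (Step.L (Step.L (Step.L (Step.L (Step.L (Step.D (nat_lit 1386) Step.done))))))))))))))) (Scr.cons (nat_lit 14) (nat_lit 4) (Step.U (nat_lit 2822) (Step.F (nat_lit 1825) (Step.L (Step.L (Step.L (Step.L (Step.L (Step.L (Step.L (Step.L (Step.L (Step.L (Step.L (Step.L (Step.D (nat_lit 556) (Step.F (nat_lit 1806) (Step.B (nat_lit 1807) (Step.D (nat_lit 1359) (Step.D (nat_lit 2769) (Step.D (nat_lit 5040) Step.done)))))))))))))))))))) (Scr.cons (nat_lit 11) (nat_lit 0) (Step.F (nat_lit 1826) (Step.U (nat_lit 2822) (Step.F (nat_lit 1825) (Step.D (nat_lit 4064) (Step.D (nat_lit 6919) Step.done))))) (Scr.cons (nat_lit 13) (nat_lit 0) (Step.U (nat_lit 1359) (Step.F (nat_lit 1807) (Step.U (nat_lit 199) (Step.L (Step.L (Step.L (Step.L (Step.B (nat_lit 1742) (Step.D (nat_lit 513) (Step.D (nat_lit 1269) (Step.D (nat_lit 2610)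 Step.done))))))))))) (Scr.cons (nat_lit 12) (nat_lit 1) (Step.U (nat_lit 513) (Step.F (nat_lit 1742) (Step.D (nat_lit 176) (Step.D (nat_lit 513) (Step.D (nat_lit 1269) Step.done))))) (Scr.cons (nat_lit 6) (nat_lit 3) (Step.U (nat_lit 1359) (Step.U (nat_lit 557) (Step.U (nat_lit 199) (Step.L (Step.L (Step.L (Step.L (Step.D (nat_lit 176) (Step.D (nat_lit 513) (Step.B (nat_lit 1829) (Step.D (nat_lit 2610) Step.done))))))))))) (Scr.cons (nat_lit 12) (nat_lit 4) (Step.U (nat_lit 2769) (Step.B (nat_lit 1828) (Step.F (nat_lit 1830) (Step.D (nat_lit 2769) (Step.D (nat_lit 5040) Step.done))))) (Scr.cons (nat_lit 12) (nat_lit 1) (Step.F (nat_lit 1827) (Step.F (nat_lit 1831) (Step.D (nat_lit 5040) (Step.B (nat_lit 1827) (Step.D (nat_lit 10058) Step.done))))) (Scr.cons (nat_lit 6) (nat_lit 3) (Step.U (nat_lit 1918) (Step.U (nat_lit 885) (Step.L (Step.D (nat_lit 359) (Step.B (nat_lit 110) (Step.U (nat_lit 835) (Step.U (nat_lit 307) (Step.L (Step.L (Step.L (Step.D (nat_lit 3579) Step.done)))))))))))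 (Scr.cons (nat_lit 12) (nat_lit 4) (Step.U (nat_lit 6266) (Step.F (nat_lit 1833) (Step.B (nat_lit 1824) (Step.D (nat_lit 6266) (Step.D (nat_lit 9443) Step.done))))) (Scr.cons (nat_lit 13) (nat_lit 3) (Step.U (nat_lit 2975) (Step.L (Step.L (Step.L (Step.L (Step.L (Step.L (Step.L (Step.B (nat_lit 189) (Step.D (nat_lit 2822) (Step.D (nat_lit 5107) Step.done))))))))))) (Scr.cons (nat_lit 6) (nat_lit 1) (Step.L (Step.L (Step.L (Step.L (Step.L (Step.L (Step.L (Step.L (Step.L (Step.D (nat_lit 5728) (Step.D (nat_lit 8839) Step.done))))))))))) (Scr.cons (nat_lit 4) (nat_lit 0) (Step.U (nat_lit 8415) (Step.U (nat_lit 5358) (Step.B (nat_lit 1835) (Step.D (nat_lit 8122) (Step.D (nat_lit 11102) Step.done))))) (Scr.cons (nat_lit 6) (nat_lit 1) (Step.L (Step.L (Step.L (Step.L (Step.L (Step.L (Step.L (Step.L (Step.D (nat_lit 419) (Step.D (nat_lit 1075) (Step.D (nat_lit 2266) Step.done))))))))))) (Scr.cons (nat_lit 12) (nat_lit 4) (Step.U (nat_lit 419) (Step.L (Step.L (Step.D (nat_lit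 419) (Step.D (nat_lit 1075) Step.done))))) (Scr.cons (nat_lit 13) (nat_lit 2) (Step.L (Step.L (Step.L (Step.L (Step.L (Step.L (Step.L (Step.L (Step.D (nat_lit 419) (Step.B (nat_lit 1839) (Step.D (nat_lit 2266) Step.done))))))))))) (Scr.cons (nat_lit 12) (nat_lit 1) (Step.L (Step.B (nat_lit 1838) (Step.F (nat_lit 1840) (Step.L (Step.D (nat_lit 4269) Step.done))))) (Scr.cons (nat_lit 11) (nat_lit 0) (Step.L (Step.L (Step.L (Step.L (Step.D (nat_lit 4268) Step.done))))) Scr.nil))))))))))))))))))))))))))))))))))))))))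
noncomputable def s46 : Scr := (Scr.cons (nat_lit 12) (nat_lit 1) (Step.F (nat_lit 1426) (Step.L (Step.L (Step.B (nat_lit 1426) (Step.D (nat_lit 4173) Step.done))))) (Scr.cons (nat_lit 9) (nat_lit 5) (Step.U (nat_lit 4268) (Step.L (Step.L (Step.L (Step.L (Step.L (Step.L (Step.L (Step.L (Step.L (Step.L (Step.L (Step.L (Step.L (Step.L (Step.L (Step.L (Step.L (Step.L (Step.L (Step.B (nat_lit 1426) (Step.B (nat_lit 1843) (Step.D (nat_lit 7049) Step.done))))))))))))))))))))))) (Scr.cons (nat_lit 13) (nat_lit 0) (Step.L (Step.L (Step.L (Step.L (Step.L (Step.L (Step.L (Step.L (Step.L (Step.D (nat_lit 385) (Step.D (nat_lit 1009) Step.done))))))))))) (Scr.cons (nat_lit 12) (nat_lit 4) (Step.U (nat_lit 1034) (Step.B (nat_lit 1845) (Step.F (nat_lit 1428) (Step.D (nat_lit 1034) (Step.D (nat_lit 2206) Step.done))))) (Scr.cons (nat_lit 12) (nat_lit 4) (Step.U (nat_lit 4171) (Step.F (nat_lit 1846) (Step.D (nat_lit 2206) (Step.D (nat_lit 4171) (Step.D (nat_lit 7045) Step.done))))) (Scr.cons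 (nat_lit 13) (nat_lit 2) (Step.U (nat_lit 7166) (Step.U (nat_lit 4269) (Step.B (nat_lit 1842) (Step.B (nat_lit 1844) (Step.U (nat_lit 7049) (Step.U (nat_lit 4173) (Step.U (nat_lit 2207) (Step.D (nat_lit 2206) (Step.D (nat_lit 4171) (Step.B (nat_lit 1847) (Step.D (nat_lit 10174) Step.done))))))))))) (Scr.cons (nat_lit 12) (nat_lit 1) (Step.L (Step.L (Step.L (Step.L (Step.D (nat_lit 1471) Step.done))))) (Scr.cons (nat_lit 12) (nat_lit 1) (Step.U (nat_lit 2976) (Step.F (nat_lit 1849) (Step.D (nat_lit 1471) (Step.D (nat_lit 2976) (Step.D (nat_lit 5359) Step.done))))) (Scr.cons (nat_lit 12) (nat_lit 1) (Step.U (nat_lit 5360) (Step.D (nat_lit 5359) (Step.F (nat_lit 1850) (Step.D (nat_lit 5360) (Step.D (nat_lit 8416) Step.done))))) (Scr.cons (nat_lit 12) (nat_lit 1) (Step.U (nat_lit 1270) (Step.D (nat_lit 1269) (Step.F (nat_lit 1829) (Step.D (nat_lit 1270) (Step.D (nat_lit 2612) Step.done))))) (Scr.cons (nat_lit 11) (nat_lit 0) (Step.U (nat_lit 715) (Step.U (nat_lit 255) (Step.L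 (Step.D (nat_lit 701) (Step.D (nat_lit 1644) Step.done))))) (Scr.cons (nat_lit 11) (nat_lit 0) (Step.U (nat_lit 1270) (Step.U (nat_lit 513) (Step.D (nat_lit 512) (Step.D (nat_lit 1268) (Step.D (nat_lit 2609) Step.done))))) (Scr.cons (nat_lit 14) (nat_lit 4) (Step.F (nat_lit 1853) (Step.U (nat_lit 715) (Step.U (nat_lit 255) (Step.L (Step.L (Step.L (Step.L (Step.L (Step.L (Step.L (Step.B (nat_lit 1736) (Step.U (nat_lit 82) (Step.L (Step.L (Step.L (Step.D (nat_lit 1731) (Step.F (nat_lit 1744) (Step.U (nat_lit 2608) (Step.D (nat_lit 2609) (Step.F (nat_lit 1854) (Step.D (nat_lit 2612) Step.done))))))))))))))))))))) (Scr.cons (nat_lit 0) (nat_lit 0) (Step.B (nat_lit 1852) (Step.F (nat_lit 1855) Step.done)) (Scr.cons (nat_lit 12) (nat_lit 4) (Step.U (nat_lit 701) (Step.L (Step.L (Step.D (nat_lit 701) (Step.D (nat_lit 1643) Step.done))))) (Scr.cons (nat_lit 6) (nat_lit 0) (Step.U (nat_lit 1471) (Step.L (Step.L (Step.L (Step.L (Step.L (Step.L (Step.L (Step.L (Step.D (nat_lit 701)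 (Step.D (nat_lit 1643) Step.done))))))))))) (Scr.cons (nat_lit 9) (nat_lit 4) (Step.U (nat_lit 4171) (Step.U (nat_lit 2206) (Step.U (nat_lit 1034) (Step.L (Step.L (Step.L (Step.L (Step.L (Step.B (nat_lit 1154) (Step.F (nat_lit 1788) (Step.U (nat_lit 7781) (Step.U (nat_lit 4798) (Step.U (nat_lit 2607) (Step.U (nat_lit 1267) (Step.U (nat_lit 512) (Step.D (nat_lit 513) (Step.D (nat_lit 1270) (Step.B (nat_lit 1856) (Step.U (nat_lit 1644) (Step.B (nat_lit 1857) (Step.F (nat_lit 1858) (Step.D (nat_lit 2976) (Step.D (nat_lit 5360) (Step.B (nat_lit 1851) Step.done)))))))))))))))))))))))) (Scr.cons (nat_lit 0) (nat_lit 1) (Step.B (nat_lit 1851) (Step.F (nat_lit 1859) (Step.D (nat_lit 7045) Step.done))) (Scr.cons (nat_lit 11) (nat_lit 0) (Step.U (nat_lit 5360) (Step.U (nat_lit 2976) (Step.B (nat_lit 1858) (Step.D (nat_lit 3276) (Step.D (nat_lit 5810) Step.done))))) (Scr.cons (nat_lit 1) (nat_lit 0) (Step.U (nat_lit 10174) (Step.F (nat_lit 1860) (Step.B (nat_lit 1861) Step.done)))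 (Scr.cons (nat_lit 0) (nat_lit 1) (Step.B (nat_lit 1848) (Step.B (nat_lit 1862) (Step.D (nat_lit 8939) Step.done))) (Scr.cons (nat_lit 0) (nat_lit 1) (Step.D (nat_lit 8939) (Step.F (nat_lit 1863) Step.done)) (Scr.cons (nat_lit 12) (nat_lit 1) (Step.L (Step.D (nat_lit 1471) (Step.F (nat_lit 1849) (Step.L (Step.D (nat_lit 2975) Step.done))))) (Scr.cons (nat_lit 9) (nat_lit 3) (Step.U (nat_lit 5728) (Step.L (Step.L (Step.L (Step.L (Step.L (Step.L (Step.L (Step.L (Step.L (Step.L (Step.L (Step.B (nat_lit 1841) (Step.D (nat_lit 7166) (Step.F (nat_lit 1864) (Step.U (nat_lit 5810) (Step.U (nat_lit 3276) (Step.F (nat_lit 1858) (Step.U (nat_lit 1471) (Step.L (Step.B (nat_lit 1865) (Step.B (nat_lit 1835) (Step.D (nat_lit 8122) (Step.D (nat_lit 11102) Step.done)))))))))))))))))))))))) (Scr.cons (nat_lit 1) (nat_lit 0) (Step.B (nat_lit 1837) (Step.F (nat_lit 1866) (Step.D (nat_lit 8839) Step.done))) (Scr.cons (nat_lit 0) (nat_lit 1) (Step.B (nat_lit 1836) (Step.F (nat_lit 1867) Step.done))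 (Scr.cons (nat_lit 11) (nat_lit 0) (Step.U (nat_lit 6660) (Step.L (Step.L (Step.L (Step.D (nat_lit 9828) Step.done))))) (Scr.cons (nat_lit 11) (nat_lit 0) (Step.U (nat_lit 34) (Step.L (Step.L (Step.L (Step.D (nat_lit 123) Step.done))))) (Scr.cons (nat_lit 12) (nat_lit 1) (Step.L (Step.L (Step.L (Step.L (Step.D (nat_lit 2080) Step.done))))) (Scr.cons (nat_lit 12) (nat_lit 1) (Step.L (Step.L (Step.L (Step.L (Step.D (nat_lit 2010) Step.done))))) (Scr.cons (nat_lit 7) (nat_lit 0) (Step.U (nat_lit 6835) (Step.U (nat_lit 3984) (Step.U (nat_lit 2080) (Step.L (Step.L (Step.L (Step.L (Step.L (Step.L (Step.L (Step.L (Step.L (Step.L (Step.L (Step.L (Step.L (Step.B (nat_lit 1872) (Step.D (nat_lit 3869) (Step.D (nat_lit 6663) (Step.D (nat_lit 9830) Step.done)))))))))))))))))))) (Scr.cons (nat_lit 4) (nat_lit 0) (Step.F (nat_lit 1873) (Step.U (nat_lit 6835) (Step.U (nat_lit 3984) (Step.D (nat_lit 3985) (Step.D (nat_lit 6837) Step.done))))) (Scr.cons (nat_lit 11) (nat_lit 0) (Step.U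 (nat_lit 6663) (Step.U (nat_lit 3869) (Step.D (nat_lit 3868) (Step.D (nat_lit 6662) (Step.D (nat_lit 9829) Step.done))))) (Scr.cons (nat_lit 9) (nat_lit 5) (Step.U (nat_lit 6881) (Step.U (nat_lit 4032) (Step.U (nat_lit 2113) (Step.U (nat_lit 987) (Step.U (nat_lit 373) (Step.U (nat_lit 124) (Step.B (nat_lit 1870) (Step.U (nat_lit 123) (Step.L (Step.L (Step.L (Step.L (Step.L (Step.L (Step.L (Step.L (Step.L (Step.B (nat_lit 1871) (Step.D (nat_lit 3985) (Step.D (nat_lit 6837) (Step.F (nat_lit 1874) (Step.U (nat_lit 9830) (Step.B (nat_lit 1875) Step.done))))))))))))))))))))))) (Scr.cons (nat_lit 11) (nat_lit 0) (Step.U (nat_lit 4033) (Step.U (nat_lit 2114) (Step.D (nat_lit 2113) (Step.D (nat_lit 4032) (Step.D (nat_lit 6881) Step.done))))) (Scr.cons (nat_lit 12) (nat_lit 1) (Step.U (nat_lit 34) (Step.L (Step.L (Step.D (nat_lit 34) (Step.D (nat_lit 124) Step.done))))) (Scr.cons (nat_lit 12) (nat_lit 4) (Step.U (nat_lit 373) (Step.F (nat_lit 1878) (Step.D (nat_lit 124) (Step.D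 (nat_lit 373) (Step.D (nat_lit 987) Step.done))))) (Scr.cons (nat_lit 6) (nat_lit 1) (Step.U (nat_lit 2114) (Step.F (nat_lit 1879) (Step.U (nat_lit 373) (Step.U (nat_lit 124) (Step.U (nat_lit 34) (Step.L (Step.L (Step.L (Step.D (nat_lit 969) (Step.D (nat_lit 2084) (Step.D (nat_lit 3992) Step.done))))))))))) (Scr.cons (nat_lit 12) (nat_lit 4) (Step.U (nat_lit 969) (Step.L (Step.L (Step.D (nat_lit 969) (Step.D (nat_lit 2084) Step.done))))) (Scr.cons (nat_lit 12) (nat_lit 4) (Step.U (nat_lit 3991) (Step.F (nat_lit 1881) (Step.D (nat_lit 2084) (Step.D (nat_lit 3991) (Step.D (nat_lit 6842) Step.done))))) Scr.nil))))))))))))))))))))))))))))))))))))))))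
noncomputable def s47 : Scr := (Scr.cons (nat_lit 12) (nat_lit 4) (Step.U (nat_lit 6843) (Step.D (nat_lit 6842) (Step.F (nat_lit 1882) (Step.D (nat_lit 6843) (Step.D (nat_lit 9987) Step.done))))) (Scr.cons (nat_lit 14) (nat_lit 4) (Step.U (nat_lit 7506) (Step.U (nat_lit 4552) (Step.U (nat_lit 2447) (Step.L (Step.L (Step.L (Step.L (Step.L (Step.L (Step.L (Step.L (Step.L (Step.L (Step.L (Step.L (Step.D (nat_lit 969) (Step.B (nat_lit 1881) (Step.D (nat_lit 3991) (Step.D (nat_lit 6843) (Step.D (nat_lit 9987) Step.done)))))))))))))))))))) (Scr.cons (nat_lit 14) (nat_lit 4) (Step.F (nat_lit 1869) (Step.U (nat_lit 6660) (Step.L (Step.L (Step.L (Step.L (Step.D (nat_lit 2010) (Step.D (nat_lit 3868) (Step.D (nat_lit 6662) (Step.D (nat_lit 9829) (Step.F (nat_lit 1876) (Step.F (nat_lit 1877) (Step.U (nat_lit 4033) (Step.B (nat_lit 1880) (Step.U (nat_lit 3992) (Step.D (nat_lit 3991) (Step.D (nat_lit 6843) (Step.B (nat_lit 1883) (Step.F (nat_lit 1884) (Step.U (nat_lit 7506) (Step.D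 (nat_lit 7505) Step.done))))))))))))))))))))) (Scr.cons (nat_lit 1) (nat_lit 1) (Step.D (nat_lit 9828) (Step.B (nat_lit 1885) Step.done)) (Scr.cons (nat_lit 12) (nat_lit 4) (Step.L (Step.L (Step.L (Step.L (Step.D (nat_lit 2447) Step.done))))) (Scr.cons (nat_lit 12) (nat_lit 1) (Step.U (nat_lit 4552) (Step.F (nat_lit 1887) (Step.D (nat_lit 2447) (Step.D (nat_lit 4552) (Step.D (nat_lit 7505) Step.done))))) (Scr.cons (nat_lit 16) (nat_lit 3) (Step.U (nat_lit 9449) (Step.L (Step.L (Step.L (Step.L (Step.L (Step.L (Step.L (Step.L (Step.L (Step.L (Step.L (Step.L (Step.B (nat_lit 1886) (Step.F (nat_lit 1888) (Step.U (nat_lit 4552) (Step.F (nat_lit 1887) (Step.L (Step.L (Step.L (Step.L (Step.L (Step.D (nat_lit 10555) Step.done))))))))))))))))))))))) (Scr.cons (nat_lit 14) (nat_lit 1) (Step.F (nat_lit 1827) (Step.F (nat_lit 1826) (Step.D (nat_lit 5107) (Step.F (nat_lit 1835) (Step.D (nat_lit 5358) (Step.D (nat_lit 8415) (Step.F (nat_lit 1868) (Step.L (Step.L (Step.D (nat_lit 10555)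 (Step.F (nat_lit 1889) (Step.U (nat_lit 9449) (Step.L (Step.L (Step.L (Step.L (Step.L (Step.L (Step.D (nat_lit 3579) (Step.D (nat_lit 6266) (Step.B (nat_lit 1834) Step.done))))))))))))))))))))) (Scr.cons (nat_lit 0) (nat_lit 1) (Step.B (nat_lit 1834) (Step.F (nat_lit 1890) (Step.D (nat_lit 10058) Step.done))) (Scr.cons (nat_lit 0) (nat_lit 0) (Step.B (nat_lit 1832) (Step.F (nat_lit 1891) Step.done)) (Scr.cons (nat_lit 15) (nat_lit 0) (Step.F (nat_lit 1822) (Step.U (nat_lit 886) (Step.B (nat_lit 1820) (Step.U (nat_lit 884) (Step.L (Step.L (Step.D (nat_lit 885) (Step.D (nat_lit 1918) (Step.B (nat_lit 1824) (Step.D (nat_lit 6266) (Step.F (nat_lit 1892) (Step.F (nat_lit 1827) (Step.F (nat_lit 1831) (Step.D (nat_lit 5041) (Step.D (nat_lit 8059) (Step.D (nat_lit 11034) Step.done)))))))))))))))) (Scr.cons (nat_lit 1) (nat_lit 0) (Step.D (nat_lit 11034) (Step.F (nat_lit 1893) (Step.D (nat_lit 3727) Step.done))) (Scr.cons (nat_lit 12) (nat_lit 4) (Step.U (nat_lit 306) (Step.F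 (nat_lit 104) (Step.B (nat_lit 109) (Step.D (nat_lit 306) (Step.D (nat_lit 833) Step.done))))) (Scr.cons (nat_lit 6) (nat_lit 1) (Step.U (nat_lit 3727) (Step.F (nat_lit 1822) (Step.F (nat_lit 113) (Step.B (nat_lit 112) (Step.F (nat_lit 111) (Step.F (nat_lit 107) (Step.U (nat_lit 834) (Step.B (nat_lit 1895) (Step.D (nat_lit 1832) (Step.D (nat_lit 3574) (Step.D (nat_lit 6261) Step.done))))))))))) (Scr.cons (nat_lit 0) (nat_lit 1) (Step.B (nat_lit 1819) (Step.B (nat_lit 1894) (Step.B (nat_lit 1896) Step.done))) (Scr.cons (nat_lit 1) (nat_lit 1) (Step.D (nat_lit 6261) (Step.F (nat_lit 1897) (Step.F (nat_lit 1816) Step.done))) (Scr.cons (nat_lit 1) (nat_lit 1) (Step.B (nat_lit 1815) (Step.B (nat_lit 1898) (Step.U (nat_lit 2771) Step.done))) (Scr.cons (nat_lit 1) (nat_lit 1) (Step.U (nat_lit 3866) (Step.B (nat_lit 1899) (Step.U (nat_lit 1360) Step.done))) (Scr.cons (nat_lit 0) (nat_lit 1) (Step.B (nat_lit 1814) (Step.B (nat_lit 1900) (Step.F (nat_lit 1807) Step.done))) (Scr.cons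 (nat_lit 1) (nat_lit 0) (Step.D (nat_lit 2073) (Step.B (nat_lit 1901) (Step.B (nat_lit 1806) Step.done))) (Scr.cons (nat_lit 0) (nat_lit 1) (Step.B (nat_lit 1811) (Step.B (nat_lit 1902) (Step.D (nat_lit 1358) Step.done))) (Scr.cons (nat_lit 1) (nat_lit 0) (Step.U (nat_lit 2768) (Step.F (nat_lit 1903) (Step.L Step.done))) (Scr.cons (nat_lit 0) (nat_lit 1) (Step.U (nat_lit 5038) (Step.B (nat_lit 1904) (Step.D (nat_lit 2072) Step.done))) (Scr.cons (nat_lit 1) (nat_lit 1) (Step.B (nat_lit 1810) (Step.B (nat_lit 1905) (Step.D (nat_lit 3975) Step.done))) (Scr.cons (nat_lit 1) (nat_lit 1) (Step.D (nat_lit 5114) (Step.B (nat_lit 1906) (Step.D (nat_lit 6812) Step.done))) (Scr.cons (nat_lit 1) (nat_lit 1) (Step.D (nat_lit 6812) (Step.F (nat_lit 1907) Step.done)) (Scr.cons (nat_lit 13) (nat_lit 2) (Step.U (nat_lit 3976) (Step.U (nat_lit 2072) (Step.L (Step.L (Step.L (Step.L (Step.L (Step.L (Step.L (Step.L (Step.D (nat_lit 6267) Step.done))))))))))) (Scr.cons (nat_lit 11) (nat_lit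 0) (Step.U (nat_lit 6267) (Step.L (Step.D (nat_lit 3579) (Step.D (nat_lit 6266) (Step.D (nat_lit 9444) Step.done))))) (Scr.cons (nat_lit 7) (nat_lit 4) (Step.U (nat_lit 1388) (Step.D (nat_lit 1389) (Step.D (nat_lit 2826) (Step.F (nat_lit 1908) (Step.U (nat_lit 3975) (Step.D (nat_lit 3976) (Step.B (nat_lit 1909) (Step.B (nat_lit 1910) (Step.U (nat_lit 9444) (Step.F (nat_lit 1892) (Step.U (nat_lit 6919) (Step.U (nat_lit 4064) (Step.B (nat_lit 1825) (Step.U (nat_lit 1386) (Step.L (Step.L (Step.L (Step.L (Step.D (nat_lit 5112) (Step.B (nat_lit 1798) (Step.B (nat_lit 1800) Step.done))))))))))))))))))))) (Scr.cons (nat_lit 0) (nat_lit 1) (Step.B (nat_lit 1800) (Step.F (nat_lit 1911) (Step.D (nat_lit 2825) Step.done))) (Scr.cons (nat_lit 1) (nat_lit 0) (Step.D (nat_lit 8127) (Step.B (nat_lit 1912) (Step.D (nat_lit 5113) Step.done))) (Scr.cons (nat_lit 0) (nat_lit 1) (Step.F (nat_lit 1797) (Step.F (nat_lit 1913) (Step.D (nat_lit 8126) Step.done))) (Scr.cons (nat_lit 0) (nat_lit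 1) (Step.D (nat_lit 8126) (Step.F (nat_lit 1914) Step.done)) (Scr.cons (nat_lit 8) (nat_lit 0) (Step.L (Step.L (Step.L (Step.L (Step.L (Step.F (nat_lit 1915) (Step.U (nat_lit 5111) (Step.L (Step.L (Step.L (Step.L (Step.L (Step.L (Step.L (Step.L (Step.B (nat_lit 1794) Step.done)))))))))))))))) (Scr.cons (nat_lit 0) (nat_lit 0) (Step.B (nat_lit 1794) (Step.F (nat_lit 1916) Step.done)) (Scr.cons (nat_lit 12) (nat_lit 4) (Step.L (Step.L (Step.L (Step.L (Step.D (nat_lit 9678) Step.done))))) (Scr.cons (nat_lit 12) (nat_lit 1) (Step.L (Step.L (Step.L (Step.L (Step.D (nat_lit 164) Step.done))))) (Scr.cons (nat_lit 12) (nat_lit 1) (Step.U (nat_lit 481) (Step.F (nat_lit 1919) (Step.D (nat_lit 164) (Step.D (nat_lit 481) (Step.D (nat_lit 1206) Step.done))))) (Scr.cons (nat_lit 6) (nat_lit 1) (Step.L (Step.L (Step.L (Step.L (Step.L (Step.D (nat_lit 164) (Step.D (nat_lit 481) (Step.B (nat_lit 1920) (Step.D (nat_lit 2495) (Step.D (nat_lit 4615) (Step.D (nat_lit 7575) Step.done)))))))))))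 (Scr.cons (nat_lit 12) (nat_lit 4) (Step.U (nat_lit 2495) (Step.F (nat_lit 1920) (Step.D (nat_lit 1206) (Step.D (nat_lit 2495) (Step.D (nat_lit 4615) Step.done))))) Scr.nil))))))))))))))))))))))))))))))))))))))))
noncomputable def s48 : Scr := (Scr.cons (nat_lit 13) (nat_lit 2) (Step.L (Step.L (Step.L (Step.L (Step.L (Step.B (nat_lit 1919) (Step.D (nat_lit 481) (Step.D (nat_lit 1206) (Step.D (nat_lit 2495) (Step.B (nat_lit 1922) (Step.D (nat_lit 7575) Step.done))))))))))) (Scr.cons (nat_lit 12) (nat_lit 1) (Step.L (Step.B (nat_lit 1921) (Step.F (nat_lit 1923) (Step.L (Step.D (nat_lit 10612) Step.done))))) (Scr.cons (nat_lit 12) (nat_lit 1) (Step.L (Step.L (Step.L (Step.L (Step.D (nat_lit 6531) Step.done))))) (Scr.cons (nat_lit 15) (nat_lit 1) (Step.F (nat_lit 1920) (Step.U (nat_lit 481) (Step.F (nat_lit 1919) (Step.L (Step.L (Step.L (Step.L (Step.L (Step.L (Step.L (Step.L (Step.L (Step.D (nat_lit 45) (Step.D (nat_lit 165) (Step.D (nat_lit 483) Step.done)))))))))))))))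 (Scr.cons (nat_lit 11) (nat_lit 0) (Step.U (nat_lit 4648) (Step.U (nat_lit 2516) (Step.L (Step.D (nat_lit 4647) (Step.D (nat_lit 7609) Step.done))))) (Scr.cons (nat_lit 12) (nat_lit 4) (Step.U (nat_lit 1208) (Step.L (Step.L (Step.D (nat_lit 1208) (Step.D (nat_lit 2500) Step.done))))) (Scr.cons (nat_lit 15) (nat_lit 0) (Step.U (nat_lit 2516) (Step.L (Step.L (Step.L (Step.L (Step.L (Step.L (Step.L (Step.L (Step.L (Step.L (Step.L (Step.D (nat_lit 1208) (Step.D (nat_lit 2500) (Step.D (nat_lit 4623) Step.done))))))))))))))) (Scr.cons (nat_lit 12) (nat_lit 4) (Step.U (nat_lit 4623) (Step.F (nat_lit 1928) (Step.D (nat_lit 2500) (Step.D (nat_lit 4623) (Step.F (nat_lit 1929) Step.done))))) (Scr.cons (nat_lit 12) (nat_lit 1) (Step.U (nat_lit 4648) (Step.F (nat_lit 1930) (Step.F (nat_lit 1929) (Step.D (nat_lit 4648) (Step.D (nat_lit 7610) Step.done))))) (Scr.cons (nat_lit 12) (nat_lit 1) (Step.F (nat_lit 1927) (Step.D (nat_lit 7610) (Step.F (nat_lit 1931) (Step.B (nat_lit 1927)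 (Step.D (nat_lit 10634) Step.done))))) (Scr.cons (nat_lit 12) (nat_lit 1) (Step.U (nat_lit 394) (Step.F (nat_lit 115) (Step.D (nat_lit 132) (Step.D (nat_lit 394) (Step.D (nat_lit 1027) Step.done))))) (Scr.cons (nat_lit 12) (nat_lit 1) (Step.U (nat_lit 1028) (Step.D (nat_lit 1027) (Step.F (nat_lit 1933) (Step.D (nat_lit 1028) (Step.D (nat_lit 2195) Step.done))))) (Scr.cons (nat_lit 12) (nat_lit 1) (Step.B (nat_lit 116) (Step.F (nat_lit 1934) (Step.D (nat_lit 2195) (Step.F (nat_lit 116) (Step.D (nat_lit 3578) Step.done))))) (Scr.cons (nat_lit 12) (nat_lit 1) (Step.U (nat_lit 6265) (Step.F (nat_lit 1935) (Step.D (nat_lit 3578) (Step.D (nat_lit 6265) (Step.D (nat_lit 9441) Step.done))))) (Scr.cons (nat_lit 11) (nat_lit 0) (Step.U (nat_lit 1387) (Step.L (Step.L (Step.L (Step.D (nat_lit 2823) Step.done))))) (Scr.cons (nat_lit 12) (nat_lit 1) (Step.U (nat_lit 1387) (Step.L (Step.L (Step.D (nat_lit 1387) (Step.D (nat_lit 2824) Step.done))))) (Scr.cons (nat_lit 12) (nat_lit 1)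 (Step.F (nat_lit 1937) (Step.D (nat_lit 2824) (Step.F (nat_lit 1938) (Step.B (nat_lit 1937) (Step.D (nat_lit 5110) Step.done))))) (Scr.cons (nat_lit 12) (nat_lit 4) (Step.U (nat_lit 550) (Step.F (nat_lit 43) (Step.D (nat_lit 196) (Step.D (nat_lit 550) (Step.D (nat_lit 1346) Step.done))))) (Scr.cons (nat_lit 12) (nat_lit 4) (Step.U (nat_lit 1347) (Step.D (nat_lit 1346) (Step.F (nat_lit 1940) (Step.D (nat_lit 1347) (Step.D (nat_lit 2741) Step.done))))) (Scr.cons (nat_lit 16) (nat_lit 4) (Step.U (nat_lit 2506) (Step.L (Step.L (Step.L (Step.L (Step.L (Step.L (Step.L (Step.L (Step.L (Step.L (Step.L (Step.L (Step.L (Step.L (Step.L (Step.L (Step.L (Step.L (Step.L (Step.L (Step.L (Step.D (nat_lit 4587) Step.done))))))))))))))))))))))) (Scr.cons (nat_lit 4) (nat_lit 0) (Step.L (Step.D (nat_lit 2506) (Step.B (nat_lit 1942) (Step.U (nat_lit 4587) (Step.D (nat_lit 4588) Step.done))))) (Scr.cons (nat_lit 13) (nat_lit 0) (Step.L (Step.L (Step.L (Step.L (Step.L (Step.L (Step.L (Step.L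 (Step.L (Step.D (nat_lit 2502) (Step.D (nat_lit 4625) Step.done))))))))))) (Scr.cons (nat_lit 7) (nat_lit 2) (Step.U (nat_lit 2741) (Step.U (nat_lit 1347) (Step.U (nat_lit 550) (Step.F (nat_lit 43) (Step.L (Step.L (Step.L (Step.L (Step.L (Step.L (Step.L (Step.L (Step.L (Step.L (Step.L (Step.D (nat_lit 4588) (Step.F (nat_lit 1943) (Step.B (nat_lit 1944) (Step.U (nat_lit 4625) (Step.D (nat_lit 4626) Step.done)))))))))))))))))))) (Scr.cons (nat_lit 12) (nat_lit 1) (Step.L (Step.L (Step.L (Step.L (Step.D (nat_lit 2502) Step.done))))) (Scr.cons (nat_lit 12) (nat_lit 4) (Step.U (nat_lit 2501) (Step.D (nat_lit 2500) (Step.F (nat_lit 1928) (Step.D (nat_lit 2501) (Step.D (nat_lit 4624) Step.done))))) (Scr.cons (nat_lit 14) (nat_lit 2) (Step.F (nat_lit 1939) (Step.F (nat_lit 1937) (Step.U (nat_lit 1387) (Step.L (Step.L (Step.L (Step.D (nat_lit 569) (Step.F (nat_lit 44) (Step.U (nat_lit 551) (Step.D (nat_lit 550) (Step.D (nat_lit 1347) (Step.B (nat_lit 1941) (Step.B (nat_lit 1945)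 (Step.U (nat_lit 4626) (Step.F (nat_lit 1946) (Step.L (Step.D (nat_lit 1208) (Step.D (nat_lit 2501) (Step.B (nat_lit 1947) (Step.D (nat_lit 7583) Step.done)))))))))))))))))))) (Scr.cons (nat_lit 4) (nat_lit 0) (Step.U (nat_lit 8125) (Step.B (nat_lit 1948) (Step.U (nat_lit 7583) (Step.D (nat_lit 7584) (Step.D (nat_lit 10616) Step.done))))) (Scr.cons (nat_lit 12) (nat_lit 1) (Step.U (nat_lit 7584) (Step.F (nat_lit 1947) (Step.D (nat_lit 4624) (Step.D (nat_lit 7584) (Step.D (nat_lit 10615) Step.done))))) (Scr.cons (nat_lit 14) (nat_lit 1) (Step.U (nat_lit 9442) (Step.U (nat_lit 6265) (Step.F (nat_lit 1935) (Step.B (nat_lit 116) (Step.B (nat_lit 117) (Step.L (Step.L (Step.D (nat_lit 3579) (Step.D (nat_lit 6266) (Step.F (nat_lit 1892) (Step.F (nat_lit 1827) (Step.F (nat_lit 1826) (Step.U (nat_lit 2822) (Step.U (nat_lit 1386) (Step.L (Step.D (nat_lit 2823) (Step.D (nat_lit 5110) (Step.D (nat_lit 8125) (Step.B (nat_lit 1949) (Step.U (nat_lit 10616) (Step.B (nat_lit 1950) Step.done)))))))))))))))))))))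 (Scr.cons (nat_lit 0) (nat_lit 1) (Step.D (nat_lit 10615) (Step.F (nat_lit 1951) Step.done)) (Scr.cons (nat_lit 6) (nat_lit 3) (Step.F (nat_lit 1936) (Step.D (nat_lit 9442) (Step.F (nat_lit 1952) (Step.U (nat_lit 7584) (Step.F (nat_lit 1947) (Step.U (nat_lit 2501) (Step.B (nat_lit 1928) (Step.D (nat_lit 4623) (Step.F (nat_lit 1929) (Step.D (nat_lit 4648) (Step.B (nat_lit 1931) (Step.D (nat_lit 10635) Step.done)))))))))))) (Scr.cons (nat_lit 1) (nat_lit 1) (Step.D (nat_lit 10635) (Step.F (nat_lit 1953) Step.done)) (Scr.cons (nat_lit 8) (nat_lit 0) (Step.U (nat_lit 10151) (Step.U (nat_lit 7021) (Step.U (nat_lit 4154) (Step.U (nat_lit 2193) (Step.U (nat_lit 1027) (Step.D (nat_lit 1028) (Step.B (nat_lit 1934) (Step.F (nat_lit 116) (Step.B (nat_lit 1935) (Step.D (nat_lit 6265) (Step.B (nat_lit 1936) (Step.F (nat_lit 1954) (Step.U (nat_lit 7610) (Step.B (nat_lit 1927) (Step.B (nat_lit 1932) Step.done))))))))))))))) (Scr.cons (nat_lit 13) (nat_lit 3) (Step.U (nat_lit 4154) (Step.U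 (nat_lit 2193) (Step.F (nat_lit 1933) (Step.U (nat_lit 394) (Step.U (nat_lit 132) (Step.L (Step.L (Step.L (Step.L (Step.L (Step.D (nat_lit 6531) Step.done))))))))))) (Scr.cons (nat_lit 9) (nat_lit 3) (Step.U (nat_lit 10610) (Step.U (nat_lit 7576) (Step.U (nat_lit 4616) (Step.U (nat_lit 2495) (Step.B (nat_lit 1926) (Step.U (nat_lit 483) (Step.U (nat_lit 165) (Step.U (nat_lit 45) (Step.L (Step.L (Step.L (Step.L (Step.L (Step.L (Step.D (nat_lit 2516) (Step.D (nat_lit 4648) (Step.B (nat_lit 1927) (Step.B (nat_lit 1932) (Step.F (nat_lit 1955) (Step.U (nat_lit 10151) (Step.U (nat_lit 7021) (Step.B (nat_lit 1956) (Step.D (nat_lit 9677) Step.done))))))))))))))))))))))) (Scr.cons (nat_lit 8) (nat_lit 0) (Step.L (Step.L (Step.L (Step.L (Step.L (Step.B (nat_lit 1925) (Step.D (nat_lit 9677) (Step.F (nat_lit 1957) (Step.U (nat_lit 10610) (Step.U (nat_lit 7576) (Step.U (nat_lit 4616) (Step.B (nat_lit 1922) (Step.D (nat_lit 7575) (Step.F (nat_lit 1921) (Step.L (Step.B (nat_lit 1924)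 Step.done)))))))))))))))) (Scr.cons (nat_lit 0) (nat_lit 1) (Step.B (nat_lit 1924) (Step.F (nat_lit 1958) (Step.D (nat_lit 9678) Step.done))) (Scr.cons (nat_lit 0) (nat_lit 0) (Step.B (nat_lit 1918) (Step.F (nat_lit 1959) Step.done)) (Scr.cons (nat_lit 11) (nat_lit 0) (Step.U (nat_lit 6205) (Step.L (Step.L (Step.D (nat_lit 6204) (Step.D (nat_lit 9379) Step.done))))) (Scr.cons (nat_lit 12) (nat_lit 1) (Step.L (Step.L (Step.L (Step.L (Step.D (nat_lit 3821) Step.done))))) Scr.nil))))))))))))))))))))))))))))))))))))))))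
noncomputable def s49 : Scr := (Scr.cons (nat_lit 11) (nat_lit 0) (Step.U (nat_lit 336) (Step.U (nat_lit 108) (Step.D (nat_lit 107) (Step.D (nat_lit 334) (Step.D (nat_lit 904) Step.done))))) (Scr.cons (nat_lit 12) (nat_lit 4) (Step.L (Step.L (Step.L (Step.L (Step.D (nat_lit 28) Step.done))))) (Scr.cons (nat_lit 12) (nat_lit 1) (Step.U (nat_lit 108) (Step.F (nat_lit 1964) (Step.D (nat_lit 28) (Step.D (nat_lit 108) (Step.D (nat_lit 335) Step.done))))) (Scr.cons (nat_lit 12) (nat_lit 1) (Step.U (nat_lit 336) (Step.D (nat_lit 335) (Step.F (nat_lit 1965) (Step.D (nat_lit 336) (Step.D (nat_lit 906) Step.done))))) (Scr.cons (nat_lit 12) (nat_lit 1) (Step.F (nat_lit 1963) (Step.D (nat_lit 906) (Step.F (nat_lit 1966) (Step.B (nat_lit 1963) (Step.D (nat_lit 1949) Step.done))))) (Scr.cons (nat_lit 14) (nat_lit 2) (Step.F (nat_lit 1962) (Step.L (Step.L (Step.L (Step.L (Step.L (Step.L (Step.L (Step.L (Step.L (Step.L (Step.L (Step.L (Step.L (Step.D (nat_lit 28) (Step.D (nat_lit 107)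 (Step.D (nat_lit 334) (Step.D (nat_lit 904) (Step.B (nat_lit 1967) (Step.D (nat_lit 3770) Step.done)))))))))))))))))))) (Scr.cons (nat_lit 12) (nat_lit 1) (Step.U (nat_lit 3771) (Step.F (nat_lit 1967) (Step.D (nat_lit 1949) (Step.D (nat_lit 3771) (Step.D (nat_lit 6530) Step.done))))) (Scr.cons (nat_lit 9) (nat_lit 1) (Step.L (Step.L (Step.L (Step.L (Step.L (Step.L (Step.L (Step.L (Step.L (Step.L (Step.L (Step.L (Step.L (Step.L (Step.L (Step.L (Step.B (nat_lit 1964) (Step.D (nat_lit 108) (Step.D (nat_lit 336) (Step.B (nat_lit 1963) (Step.B (nat_lit 1967) (Step.D (nat_lit 3771) (Step.B (nat_lit 1969) (Step.D (nat_lit 9676) Step.done)))))))))))))))))))))))) (Scr.cons (nat_lit 1) (nat_lit 1) (Step.D (nat_lit 9676) (Step.F (nat_lit 1970) (Step.D (nat_lit 1816) Step.done))) (Scr.cons (nat_lit 0) (nat_lit 1) (Step.B (nat_lit 1969) (Step.B (nat_lit 1971) (Step.D (nat_lit 3541) Step.done))) (Scr.cons (nat_lit 1) (nat_lit 1) (Step.D (nat_lit 3771) (Step.B (nat_lit 1972) (Step.D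 (nat_lit 6199) Step.done))) (Scr.cons (nat_lit 1) (nat_lit 1) (Step.D (nat_lit 6199) (Step.F (nat_lit 1973) Step.done)) (Scr.cons (nat_lit 7) (nat_lit 3) (Step.L (Step.L (Step.L (Step.D (nat_lit 3821) (Step.B (nat_lit 1968) (Step.U (nat_lit 3770) (Step.F (nat_lit 1974) (Step.U (nat_lit 3541) (Step.U (nat_lit 1816) (Step.L (Step.L (Step.L (Step.L (Step.L (Step.L (Step.L (Step.L (Step.L (Step.L (Step.D (nat_lit 6205) (Step.B (nat_lit 1961) Step.done))))))))))))))))))))) (Scr.cons (nat_lit 1) (nat_lit 1) (Step.B (nat_lit 1961) (Step.F (nat_lit 1975) (Step.L Step.done))) (Scr.cons (nat_lit 1) (nat_lit 1) (Step.D (nat_lit 6205) (Step.B (nat_lit 1976) (Step.D (nat_lit 3823) Step.done))) (Scr.cons (nat_lit 1) (nat_lit 1) (Step.D (nat_lit 3823) (Step.F (nat_lit 1977) Step.done)) (Scr.cons (nat_lit 11) (nat_lit 0) (Step.U (nat_lit 4023) (Step.L (Step.L (Step.D (nat_lit 4021) (Step.D (nat_lit 6872) Step.done))))) (Scr.cons (nat_lit 12) (nat_lit 1) (Step.L (Step.L (Step.L (Step.L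 (Step.D (nat_lit 4022) Step.done))))) (Scr.cons (nat_lit 12) (nat_lit 1) (Step.U (nat_lit 4023) (Step.D (nat_lit 4022) (Step.F (nat_lit 1980) (Step.D (nat_lit 4023) (Step.D (nat_lit 6874) Step.done))))) (Scr.cons (nat_lit 12) (nat_lit 1) (Step.F (nat_lit 1979) (Step.D (nat_lit 6874) (Step.F (nat_lit 1981) (Step.B (nat_lit 1979) (Step.D (nat_lit 10013) Step.done))))) (Scr.cons (nat_lit 12) (nat_lit 1) (Step.U (nat_lit 953) (Step.L (Step.L (Step.D (nat_lit 953) (Step.D (nat_lit 2056) Step.done))))) (Scr.cons (nat_lit 14) (nat_lit 0) (Step.U (nat_lit 2056) (Step.U (nat_lit 953) (Step.L (Step.L (Step.L (Step.L (Step.L (Step.L (Step.L (Step.L (Step.L (Step.L (Step.L (Step.L (Step.L (Step.L (Step.L (Step.L (Step.L (Step.L (Step.D (nat_lit 3712) Step.done))))))))))))))))))))) (Scr.cons (nat_lit 1) (nat_lit 1) (Step.D (nat_lit 3712) (Step.F (nat_lit 1984) Step.done)) (Scr.cons (nat_lit 15) (nat_lit 1) (Step.F (nat_lit 1980) (Step.L (Step.L (Step.L (Step.L (Step.L (Step.L (Step.L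 (Step.L (Step.L (Step.L (Step.L (Step.L (Step.L (Step.D (nat_lit 4611) Step.done))))))))))))))) (Scr.cons (nat_lit 4) (nat_lit 0) (Step.U (nat_lit 10014) (Step.U (nat_lit 6873) (Step.B (nat_lit 1986) (Step.D (nat_lit 7573) (Step.D (nat_lit 10608) Step.done))))) (Scr.cons (nat_lit 12) (nat_lit 1) (Step.L (Step.L (Step.L (Step.L (Step.D (nat_lit 2492) Step.done))))) (Scr.cons (nat_lit 12) (nat_lit 1) (Step.L (Step.D (nat_lit 2492) (Step.F (nat_lit 1988) (Step.L (Step.D (nat_lit 4611) Step.done))))) (Scr.cons (nat_lit 13) (nat_lit 0) (Step.U (nat_lit 924) (Step.L (Step.L (Step.L (Step.L (Step.L (Step.L (Step.L (Step.L (Step.L (Step.D (nat_lit 1203) Step.done))))))))))) (Scr.cons (nat_lit 12) (nat_lit 1) (Step.U (nat_lit 3528) (Step.L (Step.L (Step.D (nat_lit 3528) (Step.D (nat_lit 6174) Step.done))))) (Scr.cons (nat_lit 7) (nat_lit 6) (Step.U (nat_lit 3835) (Step.U (nat_lit 1991) (Step.U (nat_lit 924) (Step.L (Step.L (Step.L (Step.L (Step.L (Step.L (Step.L (Step.L (Step.L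 (Step.L (Step.L (Step.L (Step.L (Step.L (Step.L (Step.D (nat_lit 3528) (Step.D (nat_lit 6175) Step.done)))))))))))))))))))) (Scr.cons (nat_lit 12) (nat_lit 1) (Step.U (nat_lit 6175) (Step.D (nat_lit 6174) (Step.F (nat_lit 1991) (Step.D (nat_lit 6175) (Step.F (nat_lit 1992) Step.done))))) (Scr.cons (nat_lit 12) (nat_lit 4) (Step.U (nat_lit 3527) (Step.L (Step.L (Step.D (nat_lit 3527) (Step.D (nat_lit 6172) Step.done))))) (Scr.cons (nat_lit 12) (nat_lit 1) (Step.L (Step.L (Step.L (Step.L (Step.D (nat_lit 3543) Step.done))))) (Scr.cons (nat_lit 12) (nat_lit 1) (Step.U (nat_lit 6202) (Step.F (nat_lit 1995) (Step.D (nat_lit 3543) (Step.D (nat_lit 6202) (Step.D (nat_lit 9376) Step.done))))) (Scr.cons (nat_lit 12) (nat_lit 1) (Step.L (Step.L (Step.L (Step.L (Step.D (nat_lit 9592) Step.done))))) (Scr.cons (nat_lit 11) (nat_lit 0) (Step.U (nat_lit 3824) (Step.L (Step.L (Step.D (nat_lit 3823) (Step.D (nat_lit 6595) Step.done))))) (Scr.cons (nat_lit 12) (nat_lit 4) (Step.L (Step.L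 (Step.L (Step.L (Step.D (nat_lit 3822) Step.done))))) (Scr.cons (nat_lit 12) (nat_lit 4) (Step.L (Step.L (Step.L (Step.L (Step.D (nat_lit 1984) Step.done))))) (Scr.cons (nat_lit 13) (nat_lit 3) (Step.U (nat_lit 3822) (Step.L (Step.L (Step.L (Step.L (Step.L (Step.L (Step.L (Step.B (nat_lit 2000) (Step.D (nat_lit 3819) (Step.D (nat_lit 6591) Step.done))))))))))) (Scr.cons (nat_lit 11) (nat_lit 0) (Step.U (nat_lit 6592) (Step.U (nat_lit 3819) (Step.D (nat_lit 3818) (Step.D (nat_lit 6590) (Step.D (nat_lit 9747) Step.done))))) Scr.nil))))))))))))))))))))))))))))))))))))))))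
noncomputable def s50 : Scr := (Scr.cons (nat_lit 12) (nat_lit 4) (Step.U (nat_lit 3818) (Step.F (nat_lit 2000) (Step.D (nat_lit 1984) (Step.D (nat_lit 3818) (Step.D (nat_lit 6589) Step.done))))) (Scr.cons (nat_lit 12) (nat_lit 4) (Step.U (nat_lit 6590) (Step.D (nat_lit 6589) (Step.F (nat_lit 2003) (Step.D (nat_lit 6590) (Step.D (nat_lit 9746) Step.done))))) (Scr.cons (nat_lit 14) (nat_lit 4) (Step.U (nat_lit 7254) (Step.U (nat_lit 4335) (Step.L (Step.L (Step.L (Step.L (Step.L (Step.L (Step.L (Step.L (Step.L (Step.L (Step.L (Step.L (Step.L (Step.L (Step.B (nat_lit 2000) (Step.D (nat_lit 3818) (Step.D (nat_lit 6590) (Step.D (nat_lit 9746) Step.done)))))))))))))))))))) (Scr.cons (nat_lit 11) (nat_lit 0) (Step.F (nat_lit 2005) (Step.U (nat_lit 7254) (Step.U (nat_lit 4335) (Step.D (nat_lit 4334) (Step.D (nat_lit 7253) Step.done))))) (Scr.cons (nat_lit 12) (nat_lit 1) (Step.F (nat_lit 2006) (Step.F (nat_lit 2004) (Step.D (nat_lit 9746) (Step.B (nat_lit 2006) (Step.D (nat_lit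 10329) Step.done))))) (Scr.cons (nat_lit 11) (nat_lit 0) (Step.L (Step.L (Step.L (Step.D (nat_lit 3571) (Step.D (nat_lit 6258) Step.done))))) (Scr.cons (nat_lit 7) (nat_lit 6) (Step.U (nat_lit 6258) (Step.U (nat_lit 3571) (Step.L (Step.L (Step.L (Step.L (Step.L (Step.L (Step.L (Step.L (Step.L (Step.L (Step.L (Step.L (Step.L (Step.L (Step.L (Step.L (Step.D (nat_lit 4335) (Step.D (nat_lit 7254) Step.done)))))))))))))))))))) (Scr.cons (nat_lit 7) (nat_lit 0) (Step.U (nat_lit 9587) (Step.U (nat_lit 6444) (Step.L (Step.L (Step.L (Step.L (Step.L (Step.L (Step.L (Step.L (Step.L (Step.L (Step.L (Step.L (Step.L (Step.B (nat_lit 2008) (Step.B (nat_lit 2009) (Step.B (nat_lit 2005) (Step.B (nat_lit 2006) (Step.D (nat_lit 10329) Step.done)))))))))))))))))))) (Scr.cons (nat_lit 12) (nat_lit 1) (Step.L (Step.L (Step.L (Step.L (Step.D (nat_lit 6443) Step.done))))) (Scr.cons (nat_lit 14) (nat_lit 2) (Step.F (nat_lit 2011) (Step.L (Step.L (Step.L (Step.L (Step.L (Step.L (Step.L (Step.L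 (Step.L (Step.L (Step.L (Step.L (Step.L (Step.L (Step.L (Step.L (Step.L (Step.L (Step.L Step.done)))))))))))))))))))) (Scr.cons (nat_lit 9) (nat_lit 4) (Step.U (nat_lit 9751) (Step.U (nat_lit 6596) (Step.B (nat_lit 1998) (Step.U (nat_lit 6595) (Step.U (nat_lit 3823) (Step.B (nat_lit 1999) (Step.B (nat_lit 2001) (Step.U (nat_lit 6591) (Step.D (nat_lit 6592) (Step.B (nat_lit 2002) (Step.U (nat_lit 9747) (Step.B (nat_lit 2004) (Step.B (nat_lit 2006) (Step.B (nat_lit 2007) (Step.F (nat_lit 2010) (Step.U (nat_lit 9587) (Step.U (nat_lit 6444) (Step.L (Step.L (Step.B (nat_lit 2011) (Step.B (nat_lit 2012) (Step.L (Step.L (Step.B (nat_lit 1997) Step.done)))))))))))))))))))))))) (Scr.cons (nat_lit 1) (nat_lit 1) (Step.D (nat_lit 9751) (Step.B (nat_lit 2013) Step.done)) (Scr.cons (nat_lit 1) (nat_lit 0) (Step.D (nat_lit 9379) (Step.F (nat_lit 1975) (Step.L Step.done))) (Scr.cons (nat_lit 1) (nat_lit 0) (Step.D (nat_lit 6204) (Step.B (nat_lit 2015) (Step.D (nat_lit 3824) Step.done)))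 (Scr.cons (nat_lit 0) (nat_lit 1) (Step.U (nat_lit 6596) (Step.F (nat_lit 2016) (Step.D (nat_lit 6203) Step.done))) (Scr.cons (nat_lit 1) (nat_lit 1) (Step.F (nat_lit 2014) (Step.B (nat_lit 2017) (Step.D (nat_lit 9378) Step.done))) (Scr.cons (nat_lit 0) (nat_lit 0) (Step.B (nat_lit 1997) (Step.B (nat_lit 2018) Step.done)) (Scr.cons (nat_lit 15) (nat_lit 0) (Step.F (nat_lit 1996) (Step.U (nat_lit 6202) (Step.F (nat_lit 1995) (Step.L (Step.L (Step.L (Step.D (nat_lit 6203) (Step.D (nat_lit 9378) (Step.F (nat_lit 2019) (Step.L (Step.L (Step.L (Step.L (Step.D (nat_lit 3714) (Step.D (nat_lit 6449) (Step.D (nat_lit 9597) Step.done)))))))))))))))) (Scr.cons (nat_lit 1) (nat_lit 1) (Step.D (nat_lit 9597) (Step.F (nat_lit 2020) Step.done)) (Scr.cons (nat_lit 9) (nat_lit 2) (Step.U (nat_lit 9343) (Step.U (nat_lit 6172) (Step.U (nat_lit 3527) (Step.L (Step.L (Step.L (Step.L (Step.L (Step.L (Step.L (Step.L (Step.L (Step.L (Step.L (Step.L (Step.L (Step.L (Step.L (Step.L (Step.B (nat_lit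 1995) (Step.D (nat_lit 6202) (Step.B (nat_lit 1996) (Step.F (nat_lit 2021) (Step.D (nat_lit 9598) Step.done)))))))))))))))))))))))) (Scr.cons (nat_lit 1) (nat_lit 0) (Step.D (nat_lit 9598) (Step.F (nat_lit 2022) Step.done)) (Scr.cons (nat_lit 12) (nat_lit 4) (Step.U (nat_lit 3714) (Step.L (Step.L (Step.D (nat_lit 3714) (Step.D (nat_lit 6449) Step.done))))) (Scr.cons (nat_lit 11) (nat_lit 0) (Step.U (nat_lit 6452) (Step.U (nat_lit 3715) (Step.D (nat_lit 3714) (Step.D (nat_lit 6450) (Step.D (nat_lit 9599) Step.done))))) (Scr.cons (nat_lit 12) (nat_lit 1) (Step.U (nat_lit 3715) (Step.L (Step.L (Step.D (nat_lit 3715) (Step.D (nat_lit 6451) Step.done))))) (Scr.cons (nat_lit 12) (nat_lit 1) (Step.U (nat_lit 6452) (Step.D (nat_lit 6451) (Step.F (nat_lit 2026) (Step.D (nat_lit 6452) (Step.D (nat_lit 9600) Step.done))))) (Scr.cons (nat_lit 14) (nat_lit 1) (Step.U (nat_lit 10608) (Step.U (nat_lit 7573) (Step.F (nat_lit 1989) (Step.L (Step.L (Step.D (nat_lit 1203) (Step.F (nat_lit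 1990) (Step.D (nat_lit 1991) (Step.D (nat_lit 3835) (Step.F (nat_lit 1993) (Step.U (nat_lit 6175) (Step.U (nat_lit 3528) (Step.D (nat_lit 3527) (Step.B (nat_lit 1994) (Step.D (nat_lit 9343) (Step.F (nat_lit 2023) (Step.F (nat_lit 2024) (Step.D (nat_lit 6450) (Step.D (nat_lit 9599) (Step.F (nat_lit 2025) (Step.B (nat_lit 2027) Step.done))))))))))))))))))))) (Scr.cons (nat_lit 1) (nat_lit 1) (Step.B (nat_lit 1987) (Step.B (nat_lit 2028) Step.done)) (Scr.cons (nat_lit 7) (nat_lit 0) (Step.L (Step.L (Step.D (nat_lit 953) (Step.B (nat_lit 1983) (Step.F (nat_lit 1985) (Step.L (Step.L (Step.L (Step.L (Step.L (Step.L (Step.D (nat_lit 3715) (Step.D (nat_lit 6452) (Step.D (nat_lit 9600) (Step.F (nat_lit 2029) (Step.U (nat_lit 10014) (Step.U (nat_lit 6873) (Step.U (nat_lit 4022) (Step.D (nat_lit 4023) (Step.B (nat_lit 1979) (Step.D (nat_lit 10013) Step.done))))))))))))))))))))) (Scr.cons (nat_lit 0) (nat_lit 1) (Step.B (nat_lit 1982) (Step.F (nat_lit 2030) (Step.L Step.done))) (Scr.cons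 (nat_lit 1) (nat_lit 1) (Step.B (nat_lit 1979) (Step.B (nat_lit 2031) (Step.L Step.done))) (Scr.cons (nat_lit 1) (nat_lit 1) (Step.D (nat_lit 4023) (Step.B (nat_lit 2032) (Step.D (nat_lit 3950) Step.done))) (Scr.cons (nat_lit 1) (nat_lit 1) (Step.D (nat_lit 3950) (Step.F (nat_lit 2033) Step.done)) (Scr.cons (nat_lit 11) (nat_lit 0) (Step.U (nat_lit 3839) (Step.L (Step.D (nat_lit 1993) (Step.D (nat_lit 3837) (Step.D (nat_lit 6618) Step.done))))) (Scr.cons (nat_lit 12) (nat_lit 1) (Step.L (Step.L (Step.L (Step.L (Step.D (nat_lit 3838) Step.done))))) (Scr.cons (nat_lit 12) (nat_lit 1) (Step.U (nat_lit 3839) (Step.D (nat_lit 3838) (Step.F (nat_lit 2036) (Step.D (nat_lit 3839) (Step.D (nat_lit 6620) Step.done))))) (Scr.cons (nat_lit 12) (nat_lit 1) (Step.F (nat_lit 2035) (Step.D (nat_lit 6620) (Step.F (nat_lit 2037) (Step.B (nat_lit 2035) (Step.D (nat_lit 9776) Step.done))))) (Scr.cons (nat_lit 11) (nat_lit 0) (Step.L (Step.L (Step.L (Step.D (nat_lit 1203) (Step.D (nat_lit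 2491) Step.done))))) (Scr.cons (nat_lit 16) (nat_lit 1) (Step.F (nat_lit 2038) (Step.F (nat_lit 2035) (Step.U (nat_lit 3839) (Step.L (Step.L (Step.L (Step.L (Step.L (Step.L (Step.L (Step.L (Step.D (nat_lit 924) (Step.B (nat_lit 1990) (Step.D (nat_lit 2491) (Step.F (nat_lit 2039) (Step.L (Step.D (nat_lit 4611) (Step.F (nat_lit 1986) (Step.F (nat_lit 1980) (Step.L (Step.L (Step.D (nat_lit 4021) (Step.D (nat_lit 6871) Step.done))))))))))))))))))))))) (Scr.cons (nat_lit 1) (nat_lit 0) (Step.D (nat_lit 6872) (Step.B (nat_lit 2031) (Step.L Step.done))) (Scr.cons (nat_lit 0) (nat_lit 1) (Step.U (nat_lit 6871) (Step.B (nat_lit 2041) (Step.L Step.done))) Scr.nil))))))))))))))))))))))))))))))))))))))))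
noncomputable def s51 : Scr := (Scr.cons (nat_lit 1) (nat_lit 1) (Step.B (nat_lit 2040) (Step.B (nat_lit 2042) (Step.L Step.done))) (Scr.cons (nat_lit 0) (nat_lit 1) (Step.B (nat_lit 2038) (Step.B (nat_lit 2043) (Step.L Step.done))) (Scr.cons (nat_lit 1) (nat_lit 1) (Step.B (nat_lit 2035) (Step.B (nat_lit 2044) (Step.L Step.done))) (Scr.cons (nat_lit 1) (nat_lit 1) (Step.D (nat_lit 3839) (Step.B (nat_lit 2045) (Step.D (nat_lit 3957) Step.done))) (Scr.cons (nat_lit 1) (nat_lit 1) (Step.D (nat_lit 3957) (Step.F (nat_lit 2046) Step.done)) (Scr.cons (nat_lit 12) (nat_lit 4) (Step.L (Step.L (Step.L (Step.L (Step.D (nat_lit 326) Step.done))))) (Scr.cons (nat_lit 14) (nat_lit 5) (Step.U (nat_lit 3775) (Step.U (nat_lit 1952) (Step.L (Step.L (Step.L (Step.L (Step.L (Step.L (Step.L (Step.L (Step.L (Step.L (Step.L (Step.L (Step.L (Step.B (nat_lit 2048) (Step.D (nat_lit 875) (Step.D (nat_lit 1895) (Step.D (nat_lit 3676) (Step.D (nat_lit 6396) Step.done)))))))))))))))))))) (Scr.cons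 (nat_lit 4) (nat_lit 0) (Step.U (nat_lit 3774) (Step.D (nat_lit 3775) (Step.B (nat_lit 2049) (Step.U (nat_lit 6396) (Step.D (nat_lit 6397) Step.done))))) (Scr.cons (nat_lit 11) (nat_lit 0) (Step.U (nat_lit 1897) (Step.U (nat_lit 876) (Step.D (nat_lit 875) (Step.D (nat_lit 1895) (Step.D (nat_lit 3677) Step.done))))) (Scr.cons (nat_lit 14) (nat_lit 5) (Step.L (Step.L (Step.L (Step.L (Step.L (Step.L (Step.L (Step.L (Step.L (Step.L (Step.L (Step.D (nat_lit 1952) (Step.D (nat_lit 3774) (Step.B (nat_lit 2050) (Step.U (nat_lit 6397) (Step.U (nat_lit 3676) (Step.D (nat_lit 3677) (Step.F (nat_lit 2051) (Step.D (nat_lit 3678) (Step.D (nat_lit 6398) Step.done)))))))))))))))))))) (Scr.cons (nat_lit 4) (nat_lit 0) (Step.L (Step.L (Step.B (nat_lit 2052) (Step.U (nat_lit 6398) (Step.D (nat_lit 6399) Step.done))))) (Scr.cons (nat_lit 12) (nat_lit 4) (Step.U (nat_lit 371) (Step.L (Step.L (Step.D (nat_lit 371) (Step.D (nat_lit 985) Step.done))))) (Scr.cons (nat_lit 4) (nat_lit 0) (Step.U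 (nat_lit 371) (Step.L (Step.L (Step.L (Step.D (nat_lit 968) Step.done))))) (Scr.cons (nat_lit 16) (nat_lit 0) (Step.U (nat_lit 2111) (Step.F (nat_lit 2054) (Step.B (nat_lit 2055) (Step.U (nat_lit 968) (Step.L (Step.L (Step.L (Step.L (Step.L (Step.L (Step.L (Step.L (Step.L (Step.L (Step.L (Step.L (Step.L (Step.L (Step.L (Step.D (nat_lit 326) (Step.D (nat_lit 875) (Step.D (nat_lit 1895) (Step.D (nat_lit 3677) Step.done))))))))))))))))))))))) (Scr.cons (nat_lit 6) (nat_lit 1) (Step.U (nat_lit 4026) (Step.L (Step.L (Step.L (Step.D (nat_lit 371) (Step.D (nat_lit 985) (Step.D (nat_lit 2111) (Step.B (nat_lit 2056) (Step.F (nat_lit 2051) (Step.D (nat_lit 3678) (Step.D (nat_lit 6399) Step.done))))))))))) (Scr.cons (nat_lit 12) (nat_lit 1) (Step.U (nat_lit 963) (Step.L (Step.L (Step.D (nat_lit 963) (Step.D (nat_lit 2071) Step.done))))) (Scr.cons (nat_lit 13) (nat_lit 0) (Step.U (nat_lit 3974) (Step.F (nat_lit 2058) (Step.U (nat_lit 963) (Step.L (Step.L (Step.L (Step.L (Step.L (Step.L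 (Step.L (Step.D (nat_lit 6801) Step.done))))))))))) (Scr.cons (nat_lit 11) (nat_lit 0) (Step.U (nat_lit 122) (Step.L (Step.D (nat_lit 33) (Step.D (nat_lit 121) (Step.D (nat_lit 369) Step.done))))) (Scr.cons (nat_lit 12) (nat_lit 1) (Step.U (nat_lit 122) (Step.L (Step.L (Step.D (nat_lit 122) (Step.D (nat_lit 370) Step.done))))) (Scr.cons (nat_lit 12) (nat_lit 1) (Step.F (nat_lit 2060) (Step.D (nat_lit 370) (Step.F (nat_lit 2061) (Step.B (nat_lit 2060) (Step.D (nat_lit 984) Step.done))))) (Scr.cons (nat_lit 7) (nat_lit 5) (Step.F (nat_lit 2062) (Step.U (nat_lit 369) (Step.U (nat_lit 121) (Step.U (nat_lit 33) (Step.L (Step.L (Step.L (Step.L (Step.L (Step.L (Step.L (Step.L (Step.L (Step.L (Step.L (Step.L (Step.L (Step.L (Step.L (Step.D (nat_lit 963) Step.done)))))))))))))))))))) (Scr.cons (nat_lit 12) (nat_lit 1) (Step.F (nat_lit 1870) (Step.D (nat_lit 124) (Step.F (nat_lit 1878) (Step.B (nat_lit 1870) (Step.D (nat_lit 372) Step.done))))) (Scr.cons (nat_lit 12) (nat_lit 1)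 (Step.U (nat_lit 986) (Step.F (nat_lit 2064) (Step.D (nat_lit 372) (Step.D (nat_lit 986) (Step.D (nat_lit 2112) Step.done))))) (Scr.cons (nat_lit 16) (nat_lit 5) (Step.F (nat_lit 2065) (Step.U (nat_lit 986) (Step.F (nat_lit 2064) (Step.F (nat_lit 1870) (Step.U (nat_lit 34) (Step.L (Step.L (Step.L (Step.L (Step.L (Step.L (Step.L (Step.L (Step.L (Step.L (Step.L (Step.L (Step.L (Step.L (Step.L (Step.L (Step.L (Step.D (nat_lit 3950) Step.done))))))))))))))))))))))) (Scr.cons (nat_lit 1) (nat_lit 1) (Step.B (nat_lit 2066) (Step.F (nat_lit 2033) (Step.L Step.done))) (Scr.cons (nat_lit 0) (nat_lit 1) (Step.B (nat_lit 2065) (Step.B (nat_lit 2067) (Step.L Step.done))) (Scr.cons (nat_lit 1) (nat_lit 1) (Step.D (nat_lit 986) (Step.B (nat_lit 2068) (Step.L Step.done))) (Scr.cons (nat_lit 0) (nat_lit 1) (Step.B (nat_lit 2064) (Step.B (nat_lit 2069) (Step.L Step.done))) (Scr.cons (nat_lit 1) (nat_lit 0) (Step.D (nat_lit 123) (Step.B (nat_lit 2070) (Step.D (nat_lit 122) Step.done)))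 (Scr.cons (nat_lit 1) (nat_lit 0) (Step.F (nat_lit 2060) (Step.F (nat_lit 2071) (Step.L Step.done))) (Scr.cons (nat_lit 0) (nat_lit 1) (Step.U (nat_lit 984) (Step.B (nat_lit 2072) (Step.L Step.done))) (Scr.cons (nat_lit 1) (nat_lit 1) (Step.F (nat_lit 2063) (Step.B (nat_lit 2073) (Step.L Step.done))) (Scr.cons (nat_lit 0) (nat_lit 1) (Step.U (nat_lit 2071) (Step.B (nat_lit 2074) (Step.L Step.done))) (Scr.cons (nat_lit 1) (nat_lit 1) (Step.U (nat_lit 3974) (Step.B (nat_lit 2075) (Step.L Step.done))) (Scr.cons (nat_lit 0) (nat_lit 1) (Step.F (nat_lit 2059) (Step.B (nat_lit 2076) (Step.L Step.done))) (Scr.cons (nat_lit 1) (nat_lit 0) (Step.D (nat_lit 6801) (Step.B (nat_lit 2077) (Step.D (nat_lit 4026) Step.done))) (Scr.cons (nat_lit 0) (nat_lit 1) (Step.F (nat_lit 2057) (Step.F (nat_lit 2078) (Step.L Step.done))) (Scr.cons (nat_lit 1) (nat_lit 0) (Step.B (nat_lit 2053) (Step.B (nat_lit 2079) (Step.D (nat_lit 3967) Step.done))) (Scr.cons (nat_lit 1) (nat_lit 0) (Step.D (nat_lit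 3967) (Step.F (nat_lit 2080) Step.done)) (Scr.cons (nat_lit 1) (nat_lit 1) (Step.B (nat_lit 1870) (Step.B (nat_lit 2070) (Step.L Step.done))) Scr.nil))))))))))))))))))))))))))))))))))))))))
noncomputable def s52 : Scr := (Scr.cons (nat_lit 0) (nat_lit 1) (Step.U (nat_lit 124) (Step.B (nat_lit 2082) (Step.L Step.done))) (Scr.cons (nat_lit 1) (nat_lit 1) (Step.U (nat_lit 373) (Step.B (nat_lit 2083) (Step.L Step.done))) (Scr.cons (nat_lit 0) (nat_lit 1) (Step.U (nat_lit 987) (Step.B (nat_lit 2084) (Step.L Step.done))) (Scr.cons (nat_lit 1) (nat_lit 0) (Step.U (nat_lit 2114) (Step.B (nat_lit 2085) (Step.L Step.done))) (Scr.cons (nat_lit 0) (nat_lit 1) (Step.F (nat_lit 1880) (Step.B (nat_lit 2086) (Step.L Step.done))) (Scr.cons (nat_lit 1) (nat_lit 1) (Step.D (nat_lit 3992) (Step.B (nat_lit 2087) (Step.L Step.done))) (Scr.cons (nat_lit 1) (nat_lit 1) (Step.U (nat_lit 3991) (Step.B (nat_lit 2088) (Step.L Step.done))) (Scr.cons (nat_lit 1) (nat_lit 1) (Step.U (nat_lit 6843)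 (Step.B (nat_lit 2089) (Step.L Step.done))) (Scr.cons (nat_lit 0) (nat_lit 1) (Step.U (nat_lit 9987) (Step.B (nat_lit 2090) (Step.B (nat_lit 531) Step.done))) (Scr.cons (nat_lit 1) (nat_lit 1) (Step.B (nat_lit 1884) (Step.B (nat_lit 2091) (Step.U (nat_lit 3466) Step.done))) (Scr.cons (nat_lit 1) (nat_lit 1) (Step.D (nat_lit 7506) (Step.B (nat_lit 2092) (Step.L Step.done))) (Scr.cons (nat_lit 0) (nat_lit 1) (Step.U (nat_lit 7505) (Step.B (nat_lit 2093) (Step.L Step.done))) (Scr.cons (nat_lit 1) (nat_lit 0) (Step.B (nat_lit 1886) (Step.B (nat_lit 2094) (Step.D (nat_lit 9243) Step.done))) (Scr.cons (nat_lit 1) (nat_lit 0) (Step.D (nat_lit 9243) (Step.F (nat_lit 2095) Step.done)) (Scr.cons (nat_lit 12) (nat_lit 1) (Step.L (Step.L (Step.L (Step.L (Step.D (nat_lit 147) Step.done))))) (Scr.cons (nat_lit 12) (nat_lit 1) (Step.U (nat_lit 427) (Step.F (nat_lit 2097) (Step.D (nat_lit 147) (Step.D (nat_lit 427) (Step.D (nat_lit 1096) Step.done))))) (Scr.cons (nat_lit 8) (nat_lit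 1) (Step.U (nat_lit 1098) (Step.L (Step.L (Step.L (Step.L (Step.L (Step.L (Step.L (Step.L (Step.L (Step.L (Step.B (nat_lit 2097) (Step.D (nat_lit 427) (Step.B (nat_lit 2098) (Step.D (nat_lit 2304) Step.done))))))))))))))) (Scr.cons (nat_lit 12) (nat_lit 0) (Step.B (nat_lit 2099) (Step.U (nat_lit 2304) (Step.F (nat_lit 2098) (Step.D (nat_lit 1096) (Step.D (nat_lit 2304) Step.done))))) (Scr.cons (nat_lit 11) (nat_lit 0) (Step.U (nat_lit 4322) (Step.U (nat_lit 2304) (Step.D (nat_lit 2303) (Step.D (nat_lit 4321) (Step.D (nat_lit 7242) Step.done))))) (Scr.cons (nat_lit 12) (nat_lit 4) (Step.U (nat_lit 2303) (Step.F (nat_lit 2098) (Step.D (nat_lit 1096) (Step.D (nat_lit 2303) (Step.D (nat_lit 4320) Step.done))))) (Scr.cons (nat_lit 12) (nat_lit 4) (Step.U (nat_lit 4321) (Step.D (nat_lit 4320) (Step.F (nat_lit 2102) (Step.D (nat_lit 4321) (Step.D (nat_lit 7241) Step.done))))) (Scr.cons (nat_lit 12) (nat_lit 4) (Step.U (nat_lit 875) (Step.F (nat_lit 2048) (Step.D (nat_lit 326)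 (Step.D (nat_lit 875) (Step.D (nat_lit 1894) Step.done))))) (Scr.cons (nat_lit 12) (nat_lit 4) (Step.U (nat_lit 1895) (Step.D (nat_lit 1894) (Step.F (nat_lit 2104) (Step.D (nat_lit 1895) (Step.D (nat_lit 3676) Step.done))))) (Scr.cons (nat_lit 12) (nat_lit 1) (Step.U (nat_lit 6397) (Step.F (nat_lit 2105) (Step.D (nat_lit 3676) (Step.D (nat_lit 6397) (Step.D (nat_lit 9544) Step.done))))) (Scr.cons (nat_lit 12) (nat_lit 1) (Step.L (Step.L (Step.L (Step.L (Step.D (nat_lit 1952) Step.done))))) (Scr.cons (nat_lit 12) (nat_lit 1) (Step.U (nat_lit 3775) (Step.F (nat_lit 2107) (Step.D (nat_lit 1952) (Step.D (nat_lit 3775) (Step.D (nat_lit 6533) Step.done))))) (Scr.cons (nat_lit 12) (nat_lit 1) (Step.U (nat_lit 7535) (Step.L (Step.L (Step.D (nat_lit 7535) (Step.D (nat_lit 10581) Step.done))))) (Scr.cons (nat_lit 12) (nat_lit 4) (Step.U (nat_lit 107) (Step.F (nat_lit 1964) (Step.D (nat_lit 28) (Step.D (nat_lit 107) (Step.D (nat_lit 333) Step.done))))) (Scr.cons (nat_lit 12) (nat_lit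 1) (Step.U (nat_lit 902) (Step.F (nat_lit 2110) (Step.D (nat_lit 333) (Step.D (nat_lit 902) (Step.D (nat_lit 1947) Step.done))))) (Scr.cons (nat_lit 12) (nat_lit 1) (Step.U (nat_lit 3768) (Step.F (nat_lit 2111) (Step.D (nat_lit 1947) (Step.D (nat_lit 3768) (Step.D (nat_lit 6529) Step.done))))) (Scr.cons (nat_lit 13) (nat_lit 2) (Step.U (nat_lit 1405) (Step.U (nat_lit 582) (Step.L (Step.L (Step.L (Step.L (Step.L (Step.L (Step.L (Step.L (Step.L Step.done))))))))))) (Scr.cons (nat_lit 12) (nat_lit 1) (Step.U (nat_lit 2855) (Step.B (nat_lit 1312) (Step.F (nat_lit 2113) (Step.D (nat_lit 2855) (Step.D (nat_lit 5157) Step.done))))) (Scr.cons (nat_lit 12) (nat_lit 1) (Step.U (nat_lit 8168) (Step.F (nat_lit 2114) (Step.D (nat_lit 5157) (Step.D (nat_lit 8168) (Step.D (nat_lit 11138) Step.done))))) (Scr.cons (nat_lit 12) (nat_lit 4) (Step.U (nat_lit 1816) (Step.L (Step.L (Step.D (nat_lit 1816) (Step.D (nat_lit 3541) Step.done))))) (Scr.cons (nat_lit 12) (nat_lit 4) (Step.U (nat_lit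 1404) (Step.F (nat_lit 1311) (Step.D (nat_lit 582) (Step.D (nat_lit 1404) (Step.D (nat_lit 2853) Step.done))))) (Scr.cons (nat_lit 12) (nat_lit 4) (Step.U (nat_lit 2854) (Step.D (nat_lit 2853) (Step.F (nat_lit 2117) (Step.D (nat_lit 2854) (Step.D (nat_lit 5155) Step.done))))) (Scr.cons (nat_lit 12) (nat_lit 4) (Step.U (nat_lit 5156) (Step.D (nat_lit 5155) (Step.F (nat_lit 2118) (Step.D (nat_lit 5156) (Step.F (nat_lit 1317) Step.done))))) (Scr.cons (nat_lit 13) (nat_lit 3) (Step.U (nat_lit 9374) (Step.U (nat_lit 6199) (Step.F (nat_lit 2116) (Step.D (nat_lit 3542) (Step.F (nat_lit 1315) (Step.B (nat_lit 1314) (Step.F (nat_lit 2119) (Step.F (nat_lit 1313) (Step.B (nat_lit 2114) (Step.D (nat_lit 8168) (Step.D (nat_lit 11138) Step.done))))))))))) (Scr.cons (nat_lit 0) (nat_lit 1) (Step.U (nat_lit 9374) (Step.F (nat_lit 1973) (Step.F (nat_lit 1967) Step.done))) (Scr.cons (nat_lit 1) (nat_lit 0) (Step.F (nat_lit 2120) (Step.B (nat_lit 2121) (Step.U (nat_lit 904) Step.done)))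 Scr.nil))))))))))))))))))))))))))))))))))))))))
noncomputable def s53 : Scr := (Scr.cons (nat_lit 0) (nat_lit 1) (Step.B (nat_lit 2115) (Step.B (nat_lit 2122) (Step.D (nat_lit 903) Step.done))) (Scr.cons (nat_lit 1) (nat_lit 1) (Step.D (nat_lit 8168) (Step.B (nat_lit 2123) (Step.D (nat_lit 1948) Step.done))) (Scr.cons (nat_lit 0) (nat_lit 1) (Step.B (nat_lit 2114) (Step.B (nat_lit 2124) (Step.D (nat_lit 3769) Step.done))) (Scr.cons (nat_lit 0) (nat_lit 1) (Step.D (nat_lit 3769) (Step.F (nat_lit 2125) Step.done)) (Scr.cons (nat_lit 8) (nat_lit 1) (Step.L (Step.L (Step.L (Step.L (Step.F (nat_lit 1312) (Step.D (nat_lit 2855) (Step.F (nat_lit 2126) (Step.U (nat_lit 1948) (Step.U (nat_lit 903) (Step.U (nat_lit 334) (Step.B (nat_lit 2110) (Step.D (nat_lit 902) (Step.B (nat_lit 2111) (Step.D (nat_lit 3768) (Step.B (nat_lit 2112) (Step.D (nat_lit 9675) Step.done)))))))))))))))) (Scr.cons (nat_lit 1) (nat_lit 1) (Step.D (nat_lit 9675) (Step.F (nat_lit 2127) (Step.D (nat_lit 5088)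 Step.done))) (Scr.cons (nat_lit 0) (nat_lit 1) (Step.B (nat_lit 2112) (Step.B (nat_lit 2128) (Step.D (nat_lit 8101) Step.done))) (Scr.cons (nat_lit 0) (nat_lit 1) (Step.D (nat_lit 8101) (Step.F (nat_lit 2129) Step.done)) (Scr.cons (nat_lit 9) (nat_lit 0) (Step.U (nat_lit 6528) (Step.U (nat_lit 3767) (Step.D (nat_lit 3768) (Step.F (nat_lit 2130) (Step.U (nat_lit 5088) (Step.L (Step.L (Step.L (Step.L (Step.L (Step.L (Step.L (Step.L (Step.L (Step.L (Step.L (Step.L (Step.L (Step.L (Step.L (Step.L (Step.L (Step.D (nat_lit 7535) (Step.B (nat_lit 2109) Step.done)))))))))))))))))))))))) (Scr.cons (nat_lit 0) (nat_lit 1) (Step.B (nat_lit 2109) (Step.F (nat_lit 2131) (Step.D (nat_lit 9674) Step.done))) (Scr.cons (nat_lit 0) (nat_lit 1) (Step.D (nat_lit 9674) (Step.F (nat_lit 2132) Step.done)) (Scr.cons (nat_lit 13) (nat_lit 0) (Step.L (Step.L (Step.L (Step.L (Step.L (Step.D (nat_lit 28) (Step.D (nat_lit 107) (Step.B (nat_lit 2110) (Step.D (nat_lit 902) (Step.D (nat_lit 1947) (Step.D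 (nat_lit 3767) Step.done))))))))))) (Scr.cons (nat_lit 8) (nat_lit 1) (Step.L (Step.L (Step.L (Step.L (Step.L (Step.D (nat_lit 7535) (Step.F (nat_lit 2133) (Step.U (nat_lit 6528) (Step.F (nat_lit 2134) (Step.L (Step.L (Step.L (Step.B (nat_lit 2107) (Step.D (nat_lit 3775) (Step.B (nat_lit 2108) (Step.D (nat_lit 9681) Step.done)))))))))))))))) (Scr.cons (nat_lit 1) (nat_lit 1) (Step.D (nat_lit 9681) (Step.F (nat_lit 2135) (Step.L Step.done))) (Scr.cons (nat_lit 0) (nat_lit 1) (Step.B (nat_lit 2108) (Step.B (nat_lit 2136) (Step.D (nat_lit 7544) Step.done))) (Scr.cons (nat_lit 0) (nat_lit 1) (Step.D (nat_lit 7544) (Step.F (nat_lit 2137) Step.done)) (Scr.cons (nat_lit 12) (nat_lit 4) (Step.L (Step.L (Step.L (Step.L (Step.D (nat_lit 2470) Step.done))))) (Scr.cons (nat_lit 11) (nat_lit 0) (Step.U (nat_lit 1071) (Step.U (nat_lit 417) (Step.D (nat_lit 416) (Step.D (nat_lit 1069) (Step.D (nat_lit 2261) Step.done))))) (Scr.cons (nat_lit 12) (nat_lit 1) (Step.U (nat_lit 417) (Step.F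 (nat_lit 149) (Step.D (nat_lit 143) (Step.D (nat_lit 417) (Step.D (nat_lit 1070) Step.done))))) (Scr.cons (nat_lit 12) (nat_lit 1) (Step.U (nat_lit 1071) (Step.D (nat_lit 1070) (Step.F (nat_lit 2141) (Step.D (nat_lit 1071) (Step.D (nat_lit 2262) Step.done))))) (Scr.cons (nat_lit 12) (nat_lit 1) (Step.F (nat_lit 2140) (Step.D (nat_lit 2262) (Step.F (nat_lit 2142) (Step.B (nat_lit 2140) (Step.D (nat_lit 4260) Step.done))))) (Scr.cons (nat_lit 16) (nat_lit 1) (Step.F (nat_lit 2143) (Step.F (nat_lit 2140) (Step.U (nat_lit 1071) (Step.U (nat_lit 417) (Step.F (nat_lit 149) (Step.L (Step.L (Step.L (Step.L (Step.L (Step.L (Step.L (Step.L (Step.L (Step.L (Step.L (Step.L (Step.L (Step.L (Step.L (Step.L (Step.D (nat_lit 1099) (Step.D (nat_lit 2307) Step.done))))))))))))))))))))))) (Scr.cons (nat_lit 12) (nat_lit 1) (Step.U (nat_lit 470) (Step.L (Step.L (Step.D (nat_lit 470) (Step.D (nat_lit 1188) Step.done))))) (Scr.cons (nat_lit 7) (nat_lit 5) (Step.F (nat_lit 2143) (Step.U (nat_lit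 2261) (Step.U (nat_lit 1069) (Step.U (nat_lit 416) (Step.U (nat_lit 143) (Step.D (nat_lit 144) (Step.B (nat_lit 148) (Step.D (nat_lit 1068) (Step.D (nat_lit 2259) (Step.F (nat_lit 153) (Step.U (nat_lit 1908) (Step.L (Step.L (Step.L (Step.L (Step.L (Step.L (Step.D (nat_lit 470) (Step.B (nat_lit 2145) (Step.D (nat_lit 2475) Step.done)))))))))))))))))))) (Scr.cons (nat_lit 14) (nat_lit 4) (Step.L (Step.L (Step.L (Step.L (Step.D (nat_lit 1099) (Step.D (nat_lit 2307) (Step.F (nat_lit 2144) (Step.B (nat_lit 2146) (Step.U (nat_lit 2475) (Step.U (nat_lit 1188) (Step.U (nat_lit 470) (Step.L (Step.L (Step.L (Step.L (Step.L (Step.L (Step.L (Step.L (Step.D (nat_lit 2470) Step.done)))))))))))))))))))) (Scr.cons (nat_lit 11) (nat_lit 0) (Step.F (nat_lit 2147) (Step.L (Step.L (Step.D (nat_lit 1098) (Step.D (nat_lit 2306) Step.done))))) (Scr.cons (nat_lit 7) (nat_lit 5) (Step.F (nat_lit 2106) (Step.F (nat_lit 2050) (Step.U (nat_lit 3774) (Step.D (nat_lit 3775) (Step.F (nat_lit 2138)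 (Step.L (Step.L (Step.L (Step.L (Step.L (Step.L (Step.B (nat_lit 2139) (Step.B (nat_lit 2148) (Step.U (nat_lit 2306) (Step.B (nat_lit 2099) (Step.D (nat_lit 4322) (Step.B (nat_lit 2101) (Step.U (nat_lit 7242) (Step.B (nat_lit 2103) (Step.D (nat_lit 10320) Step.done)))))))))))))))))))) (Scr.cons (nat_lit 12) (nat_lit 4) (Step.U (nat_lit 3677) (Step.D (nat_lit 3676) (Step.F (nat_lit 2105) (Step.D (nat_lit 3677) (Step.F (nat_lit 2056) Step.done))))) (Scr.cons (nat_lit 1) (nat_lit 1) (Step.D (nat_lit 963) (Step.B (nat_lit 2074) (Step.D (nat_lit 371) Step.done))) (Scr.cons (nat_lit 0) (nat_lit 1) (Step.U (nat_lit 985) (Step.F (nat_lit 2151) (Step.L Step.done))) (Scr.cons (nat_lit 1) (nat_lit 0) (Step.U (nat_lit 2111) (Step.B (nat_lit 2152) (Step.L Step.done))) (Scr.cons (nat_lit 0) (nat_lit 1) (Step.B (nat_lit 2150) (Step.B (nat_lit 2153) (Step.L Step.done))) (Scr.cons (nat_lit 1) (nat_lit 0) (Step.D (nat_lit 3677) (Step.B (nat_lit 2154) (Step.D (nat_lit 360) Step.done)))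 (Scr.cons (nat_lit 0) (nat_lit 1) (Step.U (nat_lit 3676) (Step.B (nat_lit 2155) (Step.D (nat_lit 961) Step.done))) (Scr.cons (nat_lit 1) (nat_lit 0) (Step.U (nat_lit 6397) (Step.B (nat_lit 2156) (Step.D (nat_lit 2068) Step.done))) (Scr.cons (nat_lit 12) (nat_lit 1) (Step.U (nat_lit 407) (Step.F (nat_lit 10) (Step.D (nat_lit 139) (Step.D (nat_lit 407) (Step.D (nat_lit 1047) Step.done))))) (Scr.cons (nat_lit 12) (nat_lit 1) (Step.U (nat_lit 1048) (Step.D (nat_lit 1047) (Step.F (nat_lit 2158) (Step.D (nat_lit 1048) (Step.D (nat_lit 2224) Step.done))))) (Scr.cons (nat_lit 12) (nat_lit 4) (Step.U (nat_lit 4201) (Step.F (nat_lit 2159) (Step.D (nat_lit 2224) (Step.D (nat_lit 4201) (Step.D (nat_lit 7082) Step.done))))) (Scr.cons (nat_lit 11) (nat_lit 0) (Step.U (nat_lit 1048) (Step.U (nat_lit 407) (Step.D (nat_lit 406) (Step.D (nat_lit 1046) (Step.D (nat_lit 2222) Step.done))))) (Scr.cons (nat_lit 12) (nat_lit 1) (Step.L (Step.L (Step.L (Step.L (Step.D (nat_lit 2841) Step.done)))))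 Scr.nil))))))))))))))))))))))))))))))))))))))))
noncomputable def s54 : Scr := (Scr.cons (nat_lit 9) (nat_lit 2) (Step.U (nat_lit 7082) (Step.U (nat_lit 4201) (Step.U (nat_lit 2224) (Step.B (nat_lit 2161) (Step.U (nat_lit 2222) (Step.U (nat_lit 1046) (Step.F (nat_lit 26) (Step.L (Step.L (Step.L (Step.L (Step.L (Step.L (Step.L (Step.L (Step.L (Step.L (Step.L (Step.L (Step.L (Step.B (nat_lit 2162) (Step.D (nat_lit 5135) (Step.D (nat_lit 8149) Step.done))))))))))))))))))))))) (Scr.cons (nat_lit 11) (nat_lit 0) (Step.B (nat_lit 2163) (Step.U (nat_lit 8149) (Step.U (nat_lit 5135) (Step.D (nat_lit 5134) (Step.D (nat_lit 8148) Step.done))))) (Scr.cons (nat_lit 12) (nat_lit 1) (Step.F (nat_lit 2164) (Step.F (nat_lit 2160) (Step.D (nat_lit 7082) (Step.B (nat_lit 2164) (Step.D (nat_lit 11120) Step.done))))) (Scr.cons (nat_lit 12) (nat_lit 1) (Step.U (nat_lit 2223) (Step.F (nat_lit 2158) (Step.D (nat_lit 1047) (Step.D (nat_lit 2223) (Step.D (nat_lit 4200) Step.done))))) (Scr.cons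 (nat_lit 13) (nat_lit 3) (Step.U (nat_lit 10196) (Step.U (nat_lit 7080) (Step.F (nat_lit 2166) (Step.U (nat_lit 2223) (Step.U (nat_lit 1047) (Step.D (nat_lit 1048) (Step.D (nat_lit 2224) (Step.D (nat_lit 4201) (Step.B (nat_lit 2160) (Step.B (nat_lit 2164) (Step.D (nat_lit 11120) Step.done))))))))))) (Scr.cons (nat_lit 14) (nat_lit 5) (Step.U (nat_lit 11023) (Step.U (nat_lit 8050) (Step.U (nat_lit 5029) (Step.U (nat_lit 2763) (Step.L (Step.L (Step.L (Step.L (Step.L (Step.L (Step.L (Step.L (Step.L (Step.L (Step.L (Step.B (nat_lit 2162) (Step.D (nat_lit 5134) (Step.D (nat_lit 8148) (Step.D (nat_lit 11120) (Step.F (nat_lit 2167) Step.done)))))))))))))))))))) (Scr.cons (nat_lit 11) (nat_lit 0) (Step.U (nat_lit 6805) (Step.U (nat_lit 3971) (Step.D (nat_lit 3970) (Step.D (nat_lit 6804) (Step.D (nat_lit 9966) Step.done))))) (Scr.cons (nat_lit 12) (nat_lit 4) (Step.L (Step.L (Step.L (Step.L (Step.D (nat_lit 3898) Step.done))))) (Scr.cons (nat_lit 14) (nat_lit 3) (Step.F (nat_lit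 2169) (Step.U (nat_lit 6805) (Step.U (nat_lit 3971) (Step.U (nat_lit 2069) (Step.U (nat_lit 962) (Step.U (nat_lit 360) (Step.L (Step.L (Step.L (Step.L (Step.L (Step.L (Step.L (Step.L (Step.L (Step.L (Step.L (Step.B (nat_lit 2170) (Step.D (nat_lit 6695) (Step.D (nat_lit 9855) Step.done)))))))))))))))))))) (Scr.cons (nat_lit 11) (nat_lit 0) (Step.U (nat_lit 5029) (Step.U (nat_lit 2763) (Step.L (Step.D (nat_lit 5027) (Step.D (nat_lit 8047) Step.done))))) (Scr.cons (nat_lit 12) (nat_lit 4) (Step.U (nat_lit 5027) (Step.L (Step.L (Step.D (nat_lit 5027) (Step.D (nat_lit 8046) Step.done))))) (Scr.cons (nat_lit 7) (nat_lit 1) (Step.U (nat_lit 11021) (Step.U (nat_lit 8046) (Step.U (nat_lit 5027) (Step.L (Step.L (Step.L (Step.L (Step.L (Step.L (Step.L (Step.L (Step.L (Step.L (Step.D (nat_lit 199) (Step.B (nat_lit 1806) (Step.B (nat_lit 1808) (Step.D (nat_lit 2768) (Step.D (nat_lit 5039) (Step.D (nat_lit 8058) (Step.D (nat_lit 11033) Step.done)))))))))))))))))))) (Scr.cons (nat_lit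 11) (nat_lit 0) (Step.U (nat_lit 11022) (Step.D (nat_lit 11021) (Step.B (nat_lit 2174) (Step.U (nat_lit 11033) (Step.D (nat_lit 11032) Step.done))))) (Scr.cons (nat_lit 1) (nat_lit 0) (Step.U (nat_lit 5039) (Step.B (nat_lit 1904) (Step.L Step.done))) (Scr.cons (nat_lit 0) (nat_lit 1) (Step.U (nat_lit 8058) (Step.B (nat_lit 2176) (Step.L Step.done))) (Scr.cons (nat_lit 1) (nat_lit 1) (Step.U (nat_lit 11032) (Step.B (nat_lit 2177) (Step.L Step.done))) (Scr.cons (nat_lit 1) (nat_lit 1) (Step.B (nat_lit 2175) (Step.B (nat_lit 2178) (Step.L Step.done))) (Scr.cons (nat_lit 1) (nat_lit 1) (Step.D (nat_lit 11022) (Step.B (nat_lit 2179) (Step.L Step.done))) (Scr.cons (nat_lit 0) (nat_lit 1) (Step.B (nat_lit 2173) (Step.B (nat_lit 2180) (Step.D (nat_lit 3898) Step.done))) (Scr.cons (nat_lit 1) (nat_lit 1) (Step.U (nat_lit 8047) (Step.B (nat_lit 2181) (Step.D (nat_lit 6695) Step.done))) (Scr.cons (nat_lit 1) (nat_lit 1) (Step.B (nat_lit 2172) (Step.B (nat_lit 2182) (Step.D (nat_lit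 9855) Step.done))) (Scr.cons (nat_lit 0) (nat_lit 1) (Step.B (nat_lit 2171) (Step.F (nat_lit 2183) (Step.D (nat_lit 8050) Step.done))) (Scr.cons (nat_lit 1) (nat_lit 0) (Step.D (nat_lit 9966) (Step.B (nat_lit 2184) (Step.D (nat_lit 11023) Step.done))) (Scr.cons (nat_lit 1) (nat_lit 0) (Step.F (nat_lit 2168) (Step.F (nat_lit 2185) (Step.U (nat_lit 6804) Step.done))) (Scr.cons (nat_lit 1) (nat_lit 0) (Step.F (nat_lit 2167) (Step.B (nat_lit 2186) (Step.U (nat_lit 3970) Step.done))) (Scr.cons (nat_lit 12) (nat_lit 1) (Step.U (nat_lit 360) (Step.L (Step.L (Step.D (nat_lit 360) (Step.D (nat_lit 961) Step.done))))) (Scr.cons (nat_lit 12) (nat_lit 1) (Step.U (nat_lit 962) (Step.D (nat_lit 961) (Step.F (nat_lit 2188) (Step.D (nat_lit 962) (Step.D (nat_lit 2069) Step.done))))) (Scr.cons (nat_lit 0) (nat_lit 1) (Step.B (nat_lit 2165) (Step.B (nat_lit 2187) (Step.F (nat_lit 2189) Step.done))) (Scr.cons (nat_lit 1) (nat_lit 1) (Step.B (nat_lit 2164) (Step.B (nat_lit 2190) (Step.U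 (nat_lit 962) Step.done))) (Scr.cons (nat_lit 0) (nat_lit 1) (Step.B (nat_lit 2160) (Step.B (nat_lit 2191) (Step.D (nat_lit 961) Step.done))) (Scr.cons (nat_lit 1) (nat_lit 0) (Step.D (nat_lit 4201) (Step.B (nat_lit 2192) (Step.D (nat_lit 2068) Step.done))) (Scr.cons (nat_lit 0) (nat_lit 1) (Step.B (nat_lit 2159) (Step.B (nat_lit 2193) (Step.D (nat_lit 3969) Step.done))) (Scr.cons (nat_lit 0) (nat_lit 1) (Step.D (nat_lit 3969) (Step.F (nat_lit 2194) Step.done)) (Scr.cons (nat_lit 0) (nat_lit 1) (Step.U (nat_lit 9544) (Step.B (nat_lit 2157) (Step.B (nat_lit 2195) Step.done))) (Scr.cons (nat_lit 1) (nat_lit 1) (Step.F (nat_lit 2149) (Step.B (nat_lit 2196) (Step.U (nat_lit 1048) Step.done))) (Scr.cons (nat_lit 1) (nat_lit 1) (Step.D (nat_lit 10320) (Step.B (nat_lit 2197) (Step.U (nat_lit 407) Step.done))) (Scr.cons (nat_lit 0) (nat_lit 1) (Step.B (nat_lit 2103) (Step.B (nat_lit 2198) (Step.F (nat_lit 10) Step.done))) (Scr.cons (nat_lit 1) (nat_lit 1) (Step.U (nat_lit 7242)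 (Step.B (nat_lit 2199) (Step.L Step.done))) (Scr.cons (nat_lit 1) (nat_lit 1) (Step.B (nat_lit 2101) (Step.B (nat_lit 2200) (Step.L Step.done))) (Scr.cons (nat_lit 1) (nat_lit 1) (Step.D (nat_lit 4322) (Step.B (nat_lit 2201) (Step.L Step.done))) Scr.nil))))))))))))))))))))))))))))))))))))))))
noncomputable def s55 : Scr := (Scr.cons (nat_lit 0) (nat_lit 1) (Step.B (nat_lit 2100) (Step.B (nat_lit 2202) (Step.L Step.done))) (Scr.cons (nat_lit 1) (nat_lit 0) (Step.D (nat_lit 1098) (Step.B (nat_lit 2203) (Step.D (nat_lit 1044) Step.done))) (Scr.cons (nat_lit 1) (nat_lit 0) (Step.D (nat_lit 1044) (Step.F (nat_lit 2204) Step.done)) (Scr.cons (nat_lit 13) (nat_lit 2) (Step.U (nat_lit 4323) (Step.L (Step.L (Step.L (Step.L (Step.B (nat_lit 2097) (Step.D (nat_lit 427) (Step.D (nat_lit 1096) (Step.D (nat_lit 2303) (Step.B (nat_lit 2102) (Step.D (nat_lit 7240) Step.done))))))))))) (Scr.cons (nat_lit 1) (nat_lit 0) (Step.D (nat_lit 4321) (Step.B (nat_lit 2199) (Step.L Step.done)))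 (Scr.cons (nat_lit 0) (nat_lit 1) (Step.U (nat_lit 4320) (Step.B (nat_lit 2207) (Step.L Step.done))) (Scr.cons (nat_lit 1) (nat_lit 0) (Step.U (nat_lit 7240) (Step.B (nat_lit 2208) (Step.L Step.done))) (Scr.cons (nat_lit 0) (nat_lit 1) (Step.B (nat_lit 2206) (Step.B (nat_lit 2209) (Step.L Step.done))) (Scr.cons (nat_lit 1) (nat_lit 1) (Step.D (nat_lit 4323) (Step.B (nat_lit 2210) (Step.D (nat_lit 4203) Step.done))) (Scr.cons (nat_lit 1) (nat_lit 1) (Step.D (nat_lit 4203) (Step.F (nat_lit 2211) Step.done)) (Scr.cons (nat_lit 12) (nat_lit 1) (Step.L (Step.L (Step.L (Step.L (Step.D (nat_lit 7189) Step.done))))) (Scr.cons (nat_lit 12) (nat_lit 4) (Step.L (Step.L (Step.L (Step.L (Step.D (nat_lit 5728) Step.done))))) (Scr.cons (nat_lit 1) (nat_lit 1) (Step.D (nat_lit 11102) (Step.F (nat_lit 1866) (Step.D (nat_lit 8838) Step.done))) (Scr.cons (nat_lit 1) (nat_lit 1) (Step.D (nat_lit 8838) (Step.F (nat_lit 2215) Step.done)) (Scr.cons (nat_lit 12) (nat_lit 1) (Step.L (Step.L (Step.L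 (Step.L (Step.D (nat_lit 1085) Step.done))))) (Scr.cons (nat_lit 12) (nat_lit 4) (Step.L (Step.L (Step.L (Step.L (Step.D (nat_lit 420) Step.done))))) (Scr.cons (nat_lit 13) (nat_lit 0) (Step.U (nat_lit 2280) (Step.F (nat_lit 2217) (Step.L (Step.L (Step.L (Step.L (Step.L (Step.B (nat_lit 2218) (Step.D (nat_lit 1079) (Step.D (nat_lit 2272) (Step.D (nat_lit 4273) Step.done))))))))))) (Scr.cons (nat_lit 12) (nat_lit 1) (Step.U (nat_lit 1079) (Step.F (nat_lit 2218) (Step.D (nat_lit 420) (Step.D (nat_lit 1079) (Step.D (nat_lit 2272) Step.done))))) (Scr.cons (nat_lit 6) (nat_lit 3) (Step.U (nat_lit 2280) (Step.U (nat_lit 1085) (Step.L (Step.L (Step.L (Step.L (Step.L (Step.D (nat_lit 420) (Step.D (nat_lit 1079) (Step.B (nat_lit 2220) (Step.D (nat_lit 4273) Step.done))))))))))) (Scr.cons (nat_lit 12) (nat_lit 4) (Step.U (nat_lit 4279) (Step.B (nat_lit 2219) (Step.F (nat_lit 2221) (Step.D (nat_lit 4279) (Step.D (nat_lit 7174) Step.done))))) (Scr.cons (nat_lit 12) (nat_lit 4) (Step.L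 (Step.L (Step.L (Step.L (Step.D (nat_lit 580) Step.done))))) (Scr.cons (nat_lit 16) (nat_lit 1) (Step.F (nat_lit 2223) (Step.L (Step.L (Step.L (Step.L (Step.L (Step.L (Step.L (Step.L (Step.L (Step.L (Step.L (Step.L (Step.L (Step.L (Step.L (Step.L (Step.L (Step.L (Step.L (Step.L (Step.L (Step.D (nat_lit 967) Step.done))))))))))))))))))))))) (Scr.cons (nat_lit 4) (nat_lit 0) (Step.U (nat_lit 2849) (Step.U (nat_lit 1401) (Step.B (nat_lit 2224) (Step.D (nat_lit 2081) (Step.D (nat_lit 3987) Step.done))))) (Scr.cons (nat_lit 12) (nat_lit 4) (Step.U (nat_lit 1401) (Step.F (nat_lit 2223) (Step.D (nat_lit 580) (Step.D (nat_lit 1401) (Step.D (nat_lit 2848) Step.done))))) (Scr.cons (nat_lit 12) (nat_lit 4) (Step.U (nat_lit 2849) (Step.D (nat_lit 2848) (Step.F (nat_lit 2226) (Step.D (nat_lit 2849) (Step.D (nat_lit 5149) Step.done))))) (Scr.cons (nat_lit 12) (nat_lit 1) (Step.U (nat_lit 2281) (Step.F (nat_lit 2217) (Step.D (nat_lit 1085) (Step.D (nat_lit 2281) (Step.D (nat_lit 4280)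 Step.done))))) (Scr.cons (nat_lit 8) (nat_lit 1) (Step.L (Step.L (Step.L (Step.L (Step.L (Step.L (Step.L (Step.L (Step.L (Step.L (Step.L (Step.B (nat_lit 2217) (Step.D (nat_lit 2281) (Step.B (nat_lit 2228) (Step.D (nat_lit 7177) Step.done))))))))))))))) (Scr.cons (nat_lit 11) (nat_lit 0) (Step.L (Step.L (Step.L (Step.L (Step.D (nat_lit 2286) Step.done))))) (Scr.cons (nat_lit 12) (nat_lit 4) (Step.L (Step.L (Step.L (Step.L (Step.D (nat_lit 2285) Step.done))))) (Scr.cons (nat_lit 12) (nat_lit 1) (Step.L (Step.L (Step.L (Step.L (Step.D (nat_lit 101) Step.done))))) (Scr.cons (nat_lit 11) (nat_lit 0) (Step.U (nat_lit 422) (Step.U (nat_lit 145) (Step.L (Step.D (nat_lit 421) (Step.D (nat_lit 1081) Step.done))))) (Scr.cons (nat_lit 6) (nat_lit 1) (Step.U (nat_lit 145) (Step.L (Step.L (Step.L (Step.L (Step.L (Step.L (Step.L (Step.L (Step.L (Step.D (nat_lit 418) Step.done))))))))))) (Scr.cons (nat_lit 13) (nat_lit 2) (Step.U (nat_lit 145) (Step.L (Step.L (Step.L (Step.L (Step.L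 (Step.L (Step.L (Step.L (Step.L (Step.D (nat_lit 418) Step.done))))))))))) (Scr.cons (nat_lit 12) (nat_lit 1) (Step.U (nat_lit 422) (Step.B (nat_lit 2234) (Step.F (nat_lit 2235) (Step.D (nat_lit 422) (Step.D (nat_lit 1082) Step.done))))) (Scr.cons (nat_lit 12) (nat_lit 1) (Step.F (nat_lit 2233) (Step.D (nat_lit 1082) (Step.F (nat_lit 2236) (Step.B (nat_lit 2233) (Step.D (nat_lit 2275) Step.done))))) (Scr.cons (nat_lit 14) (nat_lit 2) (Step.F (nat_lit 2237) (Step.F (nat_lit 2233) (Step.U (nat_lit 422) (Step.U (nat_lit 145) (Step.L (Step.L (Step.L (Step.L (Step.L (Step.L (Step.L (Step.L (Step.L (Step.L (Step.L (Step.D (nat_lit 1203) (Step.D (nat_lit 2491) (Step.F (nat_lit 2039) (Step.L (Step.D (nat_lit 2107) Step.done)))))))))))))))))))) (Scr.cons (nat_lit 16) (nat_lit 4) (Step.U (nat_lit 859) (Step.U (nat_lit 319) (Step.F (nat_lit 2232) (Step.L (Step.L (Step.L (Step.L (Step.L (Step.L (Step.L (Step.L (Step.L (Step.L (Step.L (Step.L (Step.L (Step.L (Step.L (Step.D (nat_lit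 2107) (Step.F (nat_lit 2238) (Step.F (nat_lit 2237) (Step.F (nat_lit 2233) (Step.D (nat_lit 1082) (Step.D (nat_lit 2276) Step.done)))))))))))))))))))))))) (Scr.cons (nat_lit 11) (nat_lit 0) (Step.U (nat_lit 859) (Step.U (nat_lit 319) (Step.D (nat_lit 318) (Step.D (nat_lit 857) (Step.D (nat_lit 1869) Step.done))))) (Scr.cons (nat_lit 1) (nat_lit 0) (Step.D (nat_lit 2276) (Step.F (nat_lit 2239) (Step.B (nat_lit 2240) Step.done))) (Scr.cons (nat_lit 1) (nat_lit 0) (Step.D (nat_lit 1869) (Step.F (nat_lit 2241) (Step.D (nat_lit 2277) Step.done))) Scr.nil))))))))))))))))))))))))))))))))))))))))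
noncomputable def s56 : Scr := (Scr.cons (nat_lit 1) (nat_lit 0) (Step.D (nat_lit 2277) (Step.F (nat_lit 2242) Step.done)) (Scr.cons (nat_lit 7) (nat_lit 2) (Step.U (nat_lit 2285) (Step.L (Step.L (Step.L (Step.L (Step.L (Step.L (Step.L (Step.D (nat_lit 145) (Step.D (nat_lit 422) (Step.D (nat_lit 1082) (Step.B (nat_lit 2243) (Step.U (nat_lit 857) (Step.U (nat_lit 318) (Step.U (nat_lit 101) (Step.L (Step.L (Step.L (Step.L (Step.D (nat_lit 3631) Step.done)))))))))))))))))))) (Scr.cons (nat_lit 11) (nat_lit 0) (Step.B (nat_lit 2244) (Step.U (nat_lit 3631) (Step.L (Step.D (nat_lit 1867) (Step.D (nat_lit 3630) Step.done))))) (Scr.cons (nat_lit 7) (nat_lit 1) (Step.U (nat_lit 6335) (Step.U (nat_lit 3629) (Step.U (nat_lit 1867) (Step.L (Step.L (Step.L (Step.L (Step.L (Step.L (Step.L (Step.L (Step.L (Step.L (Step.L (Step.L (Step.B (nat_lit 2223) (Step.B (nat_lit 2224) (Step.D (nat_lit 2081) (Step.D (nat_lit 3986) (Step.D (nat_lit 6839) Step.done)))))))))))))))))))) (Scr.cons (nat_lit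 11) (nat_lit 0) (Step.U (nat_lit 6336) (Step.D (nat_lit 6335) (Step.B (nat_lit 2246) (Step.U (nat_lit 6839) (Step.D (nat_lit 6838) Step.done))))) (Scr.cons (nat_lit 7) (nat_lit 0) (Step.U (nat_lit 7176) (Step.D (nat_lit 7177) (Step.F (nat_lit 2229) (Step.L (Step.L (Step.L (Step.L (Step.B (nat_lit 2230) (Step.U (nat_lit 2286) (Step.B (nat_lit 2231) (Step.B (nat_lit 2245) (Step.U (nat_lit 3630) (Step.D (nat_lit 3629) (Step.D (nat_lit 6336) (Step.B (nat_lit 2247) (Step.U (nat_lit 6838) (Step.U (nat_lit 3986) (Step.D (nat_lit 3987) (Step.F (nat_lit 2225) (Step.D (nat_lit 5149) Step.done)))))))))))))))))))) (Scr.cons (nat_lit 11) (nat_lit 0) (Step.U (nat_lit 4281) (Step.U (nat_lit 2281) (Step.D (nat_lit 2280) (Step.D (nat_lit 4279) (Step.D (nat_lit 7175) Step.done))))) (Scr.cons (nat_lit 7) (nat_lit 4) (Step.U (nat_lit 4028) (Step.U (nat_lit 2110) (Step.F (nat_lit 2054) (Step.U (nat_lit 371) (Step.L (Step.L (Step.L (Step.L (Step.L (Step.D (nat_lit 967) (Step.D (nat_lit 2081)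 (Step.D (nat_lit 3987) (Step.F (nat_lit 2225) (Step.B (nat_lit 2227) (Step.F (nat_lit 2248) (Step.U (nat_lit 7176) (Step.F (nat_lit 2228) (Step.D (nat_lit 4281) (Step.B (nat_lit 2249) (Step.U (nat_lit 7175) (Step.B (nat_lit 2222) Step.done))))))))))))))))))))) (Scr.cons (nat_lit 0) (nat_lit 1) (Step.B (nat_lit 2222) (Step.F (nat_lit 2250) (Step.D (nat_lit 6877) Step.done))) (Scr.cons (nat_lit 0) (nat_lit 1) (Step.D (nat_lit 6877) (Step.F (nat_lit 2251) Step.done)) (Scr.cons (nat_lit 1) (nat_lit 1) (Step.U (nat_lit 2110) (Step.B (nat_lit 2152) (Step.L Step.done))) (Scr.cons (nat_lit 1) (nat_lit 1) (Step.U (nat_lit 4028) (Step.B (nat_lit 2253) (Step.L Step.done))) (Scr.cons (nat_lit 0) (nat_lit 1) (Step.F (nat_lit 2252) (Step.B (nat_lit 2254) (Step.L Step.done))) (Scr.cons (nat_lit 1) (nat_lit 0) (Step.D (nat_lit 4279) (Step.B (nat_lit 2255) (Step.L Step.done))) (Scr.cons (nat_lit 1) (nat_lit 0) (Step.D (nat_lit 2280) (Step.B (nat_lit 2256) (Step.L Step.done))) (Scr.cons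 (nat_lit 0) (nat_lit 0) (Step.B (nat_lit 1808) (Step.F (nat_lit 1903) Step.done)) (Scr.cons (nat_lit 0) (nat_lit 1) (Step.B (nat_lit 2217) (Step.B (nat_lit 2257) (Step.F (nat_lit 2258) Step.done))) (Scr.cons (nat_lit 1) (nat_lit 1) (Step.B (nat_lit 1806) (Step.F (nat_lit 2259) (Step.L Step.done))) (Scr.cons (nat_lit 0) (nat_lit 1) (Step.U (nat_lit 557) (Step.B (nat_lit 2260) (Step.L Step.done))) (Scr.cons (nat_lit 1) (nat_lit 1) (Step.U (nat_lit 1359) (Step.B (nat_lit 2261) (Step.L Step.done))) (Scr.cons (nat_lit 1) (nat_lit 1) (Step.U (nat_lit 2769) (Step.B (nat_lit 2262) (Step.L Step.done))) (Scr.cons (nat_lit 0) (nat_lit 1) (Step.U (nat_lit 5040) (Step.B (nat_lit 2263) (Step.L Step.done))) (Scr.cons (nat_lit 1) (nat_lit 1) (Step.B (nat_lit 1826) (Step.B (nat_lit 2264) (Step.L Step.done))) (Scr.cons (nat_lit 0) (nat_lit 1) (Step.U (nat_lit 5107) (Step.B (nat_lit 2265) (Step.L Step.done))) (Scr.cons (nat_lit 1) (nat_lit 0) (Step.U (nat_lit 8122) (Step.B (nat_lit 2266)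 (Step.L Step.done))) (Scr.cons (nat_lit 1) (nat_lit 0) (Step.B (nat_lit 2216) (Step.B (nat_lit 2267) (Step.L Step.done))) (Scr.cons (nat_lit 0) (nat_lit 1) (Step.B (nat_lit 2214) (Step.B (nat_lit 2268) (Step.D (nat_lit 7189) Step.done))) (Scr.cons (nat_lit 0) (nat_lit 0) (Step.B (nat_lit 2213) (Step.F (nat_lit 2269) Step.done)) (Scr.cons (nat_lit 14) (nat_lit 6) (Step.U (nat_lit 3226) (Step.L (Step.L (Step.L (Step.L (Step.L (Step.L (Step.L (Step.L (Step.L (Step.L (Step.L (Step.L (Step.L (Step.L (Step.L (Step.L (Step.L (Step.L (Step.L Step.done)))))))))))))))))))) (Scr.cons (nat_lit 12) (nat_lit 1) (Step.L (Step.L (Step.L (Step.L (Step.D (nat_lit 3226) Step.done))))) (Scr.cons (nat_lit 12) (nat_lit 1) (Step.F (nat_lit 2271) (Step.F (nat_lit 2272) (Step.D (nat_lit 3226) (Step.B (nat_lit 2271) (Step.D (nat_lit 5731) Step.done))))) (Scr.cons (nat_lit 0) (nat_lit 1) (Step.D (nat_lit 9180) (Step.F (nat_lit 1770) Step.done)) (Scr.cons (nat_lit 0) (nat_lit 1) (Step.F (nat_lit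 1828) (Step.B (nat_lit 2262) (Step.L Step.done))) (Scr.cons (nat_lit 1) (nat_lit 0) (Step.D (nat_lit 2610) (Step.B (nat_lit 2275) (Step.L Step.done))) (Scr.cons (nat_lit 0) (nat_lit 1) (Step.B (nat_lit 1829) (Step.B (nat_lit 2276) (Step.L Step.done))) (Scr.cons (nat_lit 1) (nat_lit 1) (Step.D (nat_lit 513) (Step.B (nat_lit 2277) (Step.L Step.done))) (Scr.cons (nat_lit 1) (nat_lit 1) (Step.U (nat_lit 512) (Step.B (nat_lit 2278) (Step.L Step.done))) (Scr.cons (nat_lit 1) (nat_lit 1) (Step.U (nat_lit 1268) (Step.B (nat_lit 2279) (Step.L Step.done))) (Scr.cons (nat_lit 0) (nat_lit 1) (Step.U (nat_lit 2608) (Step.B (nat_lit 2280) (Step.L Step.done))) (Scr.cons (nat_lit 1) (nat_lit 0) (Step.F (nat_lit 1744) (Step.B (nat_lit 2281) (Step.L Step.done))) Scr.nil))))))))))))))))))))))))))))))))))))))))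
noncomputable def s57 : Scr := (Scr.cons (nat_lit 0) (nat_lit 1) (Step.U (nat_lit 3415) (Step.B (nat_lit 2282) (Step.D (nat_lit 3226) Step.done))) (Scr.cons (nat_lit 1) (nat_lit 0) (Step.U (nat_lit 6028) (Step.B (nat_lit 2283) (Step.B (nat_lit 2271) Step.done))) (Scr.cons (nat_lit 0) (nat_lit 1) (Step.F (nat_lit 2274) (Step.B (nat_lit 2284) (Step.D (nat_lit 5731) Step.done))) (Scr.cons (nat_lit 0) (nat_lit 0) (Step.B (nat_lit 2273) (Step.F (nat_lit 2285) Step.done)) (Scr.cons (nat_lit 12) (nat_lit 1) (Step.L (Step.L (Step.L (Step.L (Step.D (nat_lit 3103) Step.done))))) (Scr.cons (nat_lit 12) (nat_lit 1) (Step.L (Step.D (nat_lit 3103) (Step.F (nat_lit 2287) (Step.L (Step.D (nat_lit 5528) Step.done))))) (Scr.cons (nat_lit 11) (nat_lit 0) (Step.U (nat_lit 5527) (Step.U (nat_lit 3102) (Step.D (nat_lit 3101) (Step.D (nat_lit 5526) (Step.D (nat_lit 8619) Step.done))))) (Scr.cons (nat_lit 12) (nat_lit 1) (Step.F (nat_lit 268) (Step.L (Step.L (Step.B (nat_lit 268) (Step.D (nat_lit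 1557) Step.done))))) (Scr.cons (nat_lit 9) (nat_lit 5) (Step.L (Step.L (Step.L (Step.L (Step.L (Step.L (Step.L (Step.L (Step.L (Step.L (Step.L (Step.L (Step.L (Step.L (Step.L (Step.L (Step.L (Step.L (Step.L (Step.L (Step.B (nat_lit 268) (Step.B (nat_lit 2290) (Step.D (nat_lit 3102) Step.done))))))))))))))))))))))) (Scr.cons (nat_lit 12) (nat_lit 0) (Step.B (nat_lit 2291) (Step.U (nat_lit 3102) (Step.F (nat_lit 2290) (Step.D (nat_lit 1557) (Step.D (nat_lit 3102) Step.done))))) (Scr.cons (nat_lit 16) (nat_lit 5) (Step.F (nat_lit 473) (Step.U (nat_lit 1923) (Step.L (Step.L (Step.L (Step.L (Step.L (Step.L (Step.L (Step.L (Step.L (Step.L (Step.L (Step.L (Step.L (Step.L (Step.L (Step.L (Step.L (Step.D (nat_lit 879) (Step.D (nat_lit 1901) (Step.D (nat_lit 3686) (Step.D (nat_lit 6411) Step.done))))))))))))))))))))))) (Scr.cons (nat_lit 4) (nat_lit 0) (Step.B (nat_lit 2293) (Step.U (nat_lit 6411) (Step.U (nat_lit 3686) (Step.D (nat_lit 3687) (Step.D (nat_lit 6413) Step.done)))))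 (Scr.cons (nat_lit 12) (nat_lit 4) (Step.U (nat_lit 879) (Step.L (Step.L (Step.D (nat_lit 879) (Step.D (nat_lit 1901) Step.done))))) (Scr.cons (nat_lit 13) (nat_lit 3) (Step.U (nat_lit 3689) (Step.L (Step.L (Step.L (Step.L (Step.L (Step.L (Step.D (nat_lit 879) (Step.B (nat_lit 2295) (Step.D (nat_lit 3687) (Step.D (nat_lit 6412) Step.done))))))))))) (Scr.cons (nat_lit 14) (nat_lit 0) (Step.F (nat_lit 2289) (Step.U (nat_lit 5527) (Step.F (nat_lit 2292) (Step.L (Step.L (Step.L (Step.L (Step.L (Step.L (Step.L (Step.L (Step.L (Step.F (nat_lit 472) (Step.B (nat_lit 473) (Step.B (nat_lit 2294) (Step.U (nat_lit 6413) (Step.D (nat_lit 6412) (Step.F (nat_lit 2296) (Step.D (nat_lit 6416) (Step.D (nat_lit 9560) Step.done)))))))))))))))))))) (Scr.cons (nat_lit 12) (nat_lit 4) (Step.U (nat_lit 6416) (Step.F (nat_lit 575) (Step.D (nat_lit 3689) (Step.D (nat_lit 6416) (Step.D (nat_lit 9559) Step.done))))) (Scr.cons (nat_lit 12) (nat_lit 3) (Step.B (nat_lit 2297) (Step.U (nat_lit 9560)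 (Step.D (nat_lit 9559) (Step.F (nat_lit 2298) (Step.D (nat_lit 9560) Step.done))))) (Scr.cons (nat_lit 8) (nat_lit 1) (Step.U (nat_lit 1363) (Step.U (nat_lit 559) (Step.U (nat_lit 200) (Step.L (Step.L (Step.L (Step.L (Step.L (Step.L (Step.L (Step.L (Step.L (Step.L (Step.L (Step.L Step.done))))))))))))))) (Scr.cons (nat_lit 12) (nat_lit 0) (Step.B (nat_lit 2300) (Step.L (Step.L (Step.L (Step.L Step.done))))) (Scr.cons (nat_lit 12) (nat_lit 1) (Step.U (nat_lit 3690) (Step.F (nat_lit 2301) (Step.B (nat_lit 2300) (Step.D (nat_lit 3690) (Step.D (nat_lit 6417) Step.done))))) (Scr.cons (nat_lit 7) (nat_lit 4) (Step.U (nat_lit 8620) (Step.F (nat_lit 2288) (Step.L (Step.L (Step.L (Step.L (Step.L (Step.B (nat_lit 268) (Step.D (nat_lit 1557) (Step.D (nat_lit 3102) (Step.D (nat_lit 5527) (Step.B (nat_lit 2289) (Step.B (nat_lit 2299) (Step.U (nat_lit 9560) (Step.U (nat_lit 6416) (Step.F (nat_lit 575) (Step.L (Step.L (Step.D (nat_lit 3690) (Step.B (nat_lit 2302) Step.done))))))))))))))))))))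 (Scr.cons (nat_lit 6) (nat_lit 0) (Step.L (Step.L (Step.L (Step.L (Step.L (Step.L (Step.L (Step.L (Step.L (Step.L (Step.D (nat_lit 2236) Step.done))))))))))) (Scr.cons (nat_lit 11) (nat_lit 0) (Step.U (nat_lit 414) (Step.L (Step.L (Step.L (Step.D (nat_lit 1057) Step.done))))) (Scr.cons (nat_lit 12) (nat_lit 1) (Step.U (nat_lit 414) (Step.L (Step.L (Step.D (nat_lit 414) (Step.D (nat_lit 1058) Step.done))))) (Scr.cons (nat_lit 12) (nat_lit 1) (Step.F (nat_lit 2305) (Step.D (nat_lit 1058) (Step.F (nat_lit 2306) (Step.B (nat_lit 2305) (Step.D (nat_lit 2235) Step.done))))) (Scr.cons (nat_lit 14) (nat_lit 2) (Step.F (nat_lit 2307) (Step.F (nat_lit 2305) (Step.U (nat_lit 414) (Step.L (Step.L (Step.L (Step.L (Step.L (Step.L (Step.L (Step.L (Step.L (Step.L (Step.L (Step.L (Step.L (Step.L (Step.L (Step.L (Step.D (nat_lit 2242) Step.done)))))))))))))))))))) (Scr.cons (nat_lit 12) (nat_lit 1) (Step.U (nat_lit 2784) (Step.L (Step.L (Step.D (nat_lit 2784) (Step.D (nat_lit 5057) Step.done)))))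 (Scr.cons (nat_lit 11) (nat_lit 0) (Step.U (nat_lit 4313) (Step.U (nat_lit 2298) (Step.D (nat_lit 2297) (Step.D (nat_lit 4312) (Step.D (nat_lit 7234) Step.done))))) (Scr.cons (nat_lit 11) (nat_lit 0) (Step.U (nat_lit 2784) (Step.L (Step.L (Step.L (Step.D (nat_lit 5056) Step.done))))) (Scr.cons (nat_lit 16) (nat_lit 2) (Step.F (nat_lit 2310) (Step.U (nat_lit 4313) (Step.U (nat_lit 2298) (Step.L (Step.L (Step.L (Step.L (Step.L (Step.L (Step.L (Step.L (Step.L (Step.L (Step.L (Step.L (Step.L (Step.L (Step.L (Step.L (Step.D (nat_lit 5056) (Step.F (nat_lit 2311) (Step.D (nat_lit 5057) (Step.D (nat_lit 8074) Step.done))))))))))))))))))))))) (Scr.cons (nat_lit 14) (nat_lit 6) (Step.U (nat_lit 7235) (Step.U (nat_lit 4313) (Step.U (nat_lit 2298) (Step.L (Step.L (Step.L (Step.L (Step.L (Step.L (Step.L (Step.L (Step.L (Step.L (Step.L (Step.L (Step.L (Step.L (Step.L (Step.L (Step.D (nat_lit 9679) Step.done)))))))))))))))))))) (Scr.cons (nat_lit 4) (nat_lit 0) (Step.B (nat_lit 2313)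 (Step.U (nat_lit 9679) (Step.L (Step.D (nat_lit 6532) (Step.D (nat_lit 9680) Step.done))))) (Scr.cons (nat_lit 16) (nat_lit 3) (Step.U (nat_lit 8075) (Step.D (nat_lit 8074) (Step.F (nat_lit 2312) (Step.F (nat_lit 2310) (Step.D (nat_lit 7235) (Step.B (nat_lit 2314) (Step.U (nat_lit 9680) (Step.U (nat_lit 6532) (Step.L (Step.L (Step.D (nat_lit 1952) (Step.D (nat_lit 3774) (Step.B (nat_lit 2050) (Step.U (nat_lit 6397) (Step.F (nat_lit 2105) (Step.D (nat_lit 3677) (Step.F (nat_lit 2056) (Step.U (nat_lit 2111) (Step.D (nat_lit 2110) (Step.D (nat_lit 4028) (Step.B (nat_lit 2252) (Step.D (nat_lit 7175) (Step.D (nat_lit 10270) Step.done))))))))))))))))))))))) (Scr.cons (nat_lit 1) (nat_lit 1) (Step.U (nat_lit 7175) (Step.B (nat_lit 2255) (Step.L Step.done))) (Scr.cons (nat_lit 0) (nat_lit 1) (Step.U (nat_lit 10270) (Step.B (nat_lit 2316) (Step.L Step.done))) (Scr.cons (nat_lit 1) (nat_lit 1) (Step.B (nat_lit 2315) (Step.B (nat_lit 2317) (Step.L Step.done))) (Scr.cons (nat_lit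 1) (nat_lit 1) (Step.D (nat_lit 8075) (Step.B (nat_lit 2318) (Step.L Step.done))) (Scr.cons (nat_lit 0) (nat_lit 1) (Step.B (nat_lit 2309) (Step.B (nat_lit 2319) (Step.L Step.done))) (Scr.cons (nat_lit 1) (nat_lit 1) (Step.D (nat_lit 2784) (Step.B (nat_lit 2320) (Step.D (nat_lit 2242) Step.done))) (Scr.cons (nat_lit 1) (nat_lit 1) (Step.B (nat_lit 2308) (Step.F (nat_lit 2321) (Step.L Step.done))) Scr.nil))))))))))))))))))))))))))))))))))))))))
noncomputable def s58 : Scr := (Scr.cons (nat_lit 0) (nat_lit 1) (Step.B (nat_lit 2307) (Step.B (nat_lit 2322) (Step.L Step.done))) (Scr.cons (nat_lit 1) (nat_lit 1) (Step.B (nat_lit 2305) (Step.B (nat_lit 2323) (Step.L Step.done))) (Scr.cons (nat_lit 1) (nat_lit 1) (Step.D (nat_lit 414) (Step.B (nat_lit 2324) (Step.D (nat_lit 200) Step.done))) (Scr.cons (nat_lit 0) (nat_lit 1) (Step.U (nat_lit 559) (Step.F (nat_lit 2325) (Step.L Step.done))) (Scr.cons (nat_lit 1) (nat_lit 1) (Step.U (nat_lit 1363) (Step.B (nat_lit 2326) (Step.L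 Step.done))) (Scr.cons (nat_lit 0) (nat_lit 1) (Step.F (nat_lit 2300) (Step.B (nat_lit 2327) (Step.D (nat_lit 2236) Step.done))) (Scr.cons (nat_lit 1) (nat_lit 0) (Step.B (nat_lit 2304) (Step.F (nat_lit 2328) (Step.D (nat_lit 3690) Step.done))) (Scr.cons (nat_lit 0) (nat_lit 1) (Step.U (nat_lit 6417) (Step.F (nat_lit 2329) (Step.L Step.done))) (Scr.cons (nat_lit 1) (nat_lit 0) (Step.B (nat_lit 2303) (Step.B (nat_lit 2330) (Step.L Step.done))) (Scr.cons (nat_lit 1) (nat_lit 0) (Step.D (nat_lit 8620) (Step.B (nat_lit 2331) (Step.L Step.done))) (Scr.cons (nat_lit 0) (nat_lit 1) (Step.B (nat_lit 2288) (Step.B (nat_lit 2332) (Step.D (nat_lit 6186) Step.done))) (Scr.cons (nat_lit 0) (nat_lit 0) (Step.B (nat_lit 1176) (Step.F (nat_lit 2333) Step.done)) (Scr.cons (nat_lit 12) (nat_lit 4) (Step.L (Step.L (Step.L (Step.L (Step.D (nat_lit 1216) Step.done))))) (Scr.cons (nat_lit 12) (nat_lit 1) (Step.L (Step.L (Step.L (Step.L (Step.D (nat_lit 2345) Step.done))))) (Scr.cons (nat_lit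 12) (nat_lit 1) (Step.U (nat_lit 255) (Step.L (Step.L (Step.D (nat_lit 255) (Step.D (nat_lit 714) Step.done))))) (Scr.cons (nat_lit 12) (nat_lit 1) (Step.U (nat_lit 715) (Step.D (nat_lit 714) (Step.F (nat_lit 2337) (Step.D (nat_lit 715) (Step.D (nat_lit 1669) Step.done))))) (Scr.cons (nat_lit 12) (nat_lit 1) (Step.L (Step.L (Step.L (Step.L (Step.D (nat_lit 5805) Step.done))))) (Scr.cons (nat_lit 16) (nat_lit 2) (Step.U (nat_lit 7289) (Step.D (nat_lit 7288) (Step.B (nat_lit 826) (Step.B (nat_lit 846) (Step.U (nat_lit 8430) (Step.F (nat_lit 844) (Step.L (Step.L (Step.L (Step.L (Step.L (Step.L (Step.L (Step.L (Step.L (Step.L (Step.L (Step.L (Step.L (Step.L (Step.L (Step.D (nat_lit 5805) (Step.D (nat_lit 8931) Step.done))))))))))))))))))))))) (Scr.cons (nat_lit 12) (nat_lit 4) (Step.U (nat_lit 8931) (Step.F (nat_lit 2339) (Step.D (nat_lit 5805) (Step.D (nat_lit 8931) (Step.F (nat_lit 2340) Step.done))))) (Scr.cons (nat_lit 13) (nat_lit 3) (Step.U (nat_lit 7291) (Step.U (nat_lit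 4373) (Step.F (nat_lit 2336) (Step.L (Step.L (Step.L (Step.D (nat_lit 1118) (Step.D (nat_lit 2342) (Step.B (nat_lit 829) (Step.D (nat_lit 7289) (Step.F (nat_lit 2341) Step.done))))))))))) (Scr.cons (nat_lit 12) (nat_lit 4) (Step.U (nat_lit 4373) (Step.F (nat_lit 2336) (Step.D (nat_lit 2345) (Step.D (nat_lit 4373) (Step.D (nat_lit 7291) Step.done))))) (Scr.cons (nat_lit 11) (nat_lit 0) (Step.U (nat_lit 7293) (Step.U (nat_lit 4374) (Step.D (nat_lit 4373) (Step.D (nat_lit 7292) (Step.D (nat_lit 10361) Step.done))))) (Scr.cons (nat_lit 14) (nat_lit 0) (Step.U (nat_lit 9033) (Step.U (nat_lit 5881) (Step.U (nat_lit 3321) (Step.F (nat_lit 2338) (Step.U (nat_lit 715) (Step.U (nat_lit 255) (Step.L (Step.L (Step.L (Step.L (Step.L (Step.L (Step.L (Step.L (Step.B (nat_lit 2339) (Step.D (nat_lit 8931) (Step.F (nat_lit 2342) (Step.F (nat_lit 2343) (Step.D (nat_lit 7292) (Step.D (nat_lit 10361) (Step.F (nat_lit 2344) Step.done))))))))))))))))))))) (Scr.cons (nat_lit 0) (nat_lit 1) (Step.D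 (nat_lit 9033) (Step.B (nat_lit 2345) Step.done)) (Scr.cons (nat_lit 0) (nat_lit 1) (Step.D (nat_lit 2612) (Step.F (nat_lit 1855) Step.done)) (Scr.cons (nat_lit 1) (nat_lit 0) (Step.U (nat_lit 1270) (Step.B (nat_lit 2277) (Step.L Step.done))) (Scr.cons (nat_lit 0) (nat_lit 1) (Step.F (nat_lit 2347) (Step.B (nat_lit 2348) (Step.L Step.done))) (Scr.cons (nat_lit 1) (nat_lit 1) (Step.B (nat_lit 1853) (Step.B (nat_lit 2349) (Step.L Step.done))) (Scr.cons (nat_lit 0) (nat_lit 1) (Step.U (nat_lit 1669) (Step.B (nat_lit 2350) (Step.L Step.done))) (Scr.cons (nat_lit 1) (nat_lit 0) (Step.U (nat_lit 3321) (Step.B (nat_lit 2351) (Step.L Step.done))) (Scr.cons (nat_lit 1) (nat_lit 0) (Step.U (nat_lit 5881) (Step.B (nat_lit 2352) (Step.L Step.done))) (Scr.cons (nat_lit 0) (nat_lit 1) (Step.F (nat_lit 2346) (Step.B (nat_lit 2353) (Step.L Step.done))) (Scr.cons (nat_lit 1) (nat_lit 1) (Step.D (nat_lit 7293) (Step.B (nat_lit 2354) (Step.L Step.done))) (Scr.cons (nat_lit 1) (nat_lit 1)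 (Step.D (nat_lit 4374) (Step.B (nat_lit 2355) (Step.L Step.done))) (Scr.cons (nat_lit 0) (nat_lit 1) (Step.B (nat_lit 2336) (Step.B (nat_lit 2356) (Step.D (nat_lit 1216) Step.done))) (Scr.cons (nat_lit 0) (nat_lit 0) (Step.B (nat_lit 2335) (Step.F (nat_lit 2357) Step.done)) (Scr.cons (nat_lit 11) (nat_lit 0) (Step.U (nat_lit 2622) (Step.L (Step.L (Step.L (Step.D (nat_lit 4822) Step.done))))) (Scr.cons (nat_lit 7) (nat_lit 0) (Step.U (nat_lit 3064) (Step.U (nat_lit 1531) (Step.U (nat_lit 643) (Step.L (Step.L (Step.L (Step.L (Step.L (Step.L (Step.L (Step.L (Step.L (Step.L (Step.L (Step.L (Step.L (Step.L (Step.L (Step.D (nat_lit 2622) (Step.D (nat_lit 4823) Step.done)))))))))))))))))))) (Scr.cons (nat_lit 4) (nat_lit 0) (Step.F (nat_lit 2360) (Step.U (nat_lit 3064) (Step.U (nat_lit 1531) (Step.D (nat_lit 1532) (Step.D (nat_lit 3065) Step.done))))) (Scr.cons (nat_lit 7) (nat_lit 2) (Step.U (nat_lit 7673) (Step.U (nat_lit 4704) (Step.L (Step.L (Step.L (Step.L (Step.L (Step.L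 (Step.L (Step.L (Step.L (Step.L (Step.L (Step.L (Step.L (Step.L (Step.L (Step.L (Step.L (Step.D (nat_lit 8575) Step.done)))))))))))))))))))) Scr.nil))))))))))))))))))))))))))))))))))))))))
noncomputable def s59 : Scr := (Scr.cons (nat_lit 11) (nat_lit 0) (Step.B (nat_lit 2362) (Step.U (nat_lit 8575) (Step.L (Step.D (nat_lit 5489) (Step.D (nat_lit 8574) Step.done))))) (Scr.cons (nat_lit 11) (nat_lit 0) (Step.U (nat_lit 4705) (Step.L (Step.L (Step.D (nat_lit 4704) (Step.D (nat_lit 7674) Step.done))))) (Scr.cons (nat_lit 14) (nat_lit 5) (Step.L (Step.L (Step.D (nat_lit 4822) (Step.F (nat_lit 2359) (Step.D (nat_lit 4823) (Step.B (nat_lit 2361) (Step.U (nat_lit 3065) (Step.U (nat_lit 1532) (Step.U (nat_lit 643) (Step.L (Step.L (Step.L (Step.D (nat_lit 5489) (Step.D (nat_lit 8574) (Step.F (nat_lit 2363) (Step.U (nat_lit 7673) (Step.D (nat_lit 7674) (Step.F (nat_lit 2364) (Step.D (nat_lit 7676) (Step.D (nat_lit 10700) Step.done)))))))))))))))))))) (Scr.cons (nat_lit 12) (nat_lit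 4) (Step.L (Step.L (Step.L (Step.L (Step.D (nat_lit 4703) Step.done))))) (Scr.cons (nat_lit 12) (nat_lit 4) (Step.U (nat_lit 4704) (Step.D (nat_lit 4703) (Step.F (nat_lit 2366) (Step.D (nat_lit 4704) (Step.D (nat_lit 7673) Step.done))))) (Scr.cons (nat_lit 12) (nat_lit 4) (Step.U (nat_lit 2450) (Step.L (Step.L (Step.D (nat_lit 2450) (Step.D (nat_lit 4559) Step.done))))) (Scr.cons (nat_lit 4) (nat_lit 0) (Step.U (nat_lit 2450) (Step.L (Step.L (Step.L (Step.D (nat_lit 4547) Step.done))))) (Scr.cons (nat_lit 16) (nat_lit 0) (Step.U (nat_lit 7515) (Step.F (nat_lit 2368) (Step.B (nat_lit 2369) (Step.U (nat_lit 4547) (Step.L (Step.L (Step.L (Step.L (Step.L (Step.L (Step.L (Step.L (Step.L (Step.L (Step.L (Step.L (Step.L (Step.L (Step.L (Step.L (Step.L (Step.D (nat_lit 4704) (Step.D (nat_lit 7674) Step.done))))))))))))))))))))))) (Scr.cons (nat_lit 12) (nat_lit 4) (Step.U (nat_lit 7674) (Step.D (nat_lit 7673) (Step.F (nat_lit 2367) (Step.D (nat_lit 7674) (Step.F (nat_lit 2370)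 Step.done))))) (Scr.cons (nat_lit 12) (nat_lit 4) (Step.U (nat_lit 7514) (Step.F (nat_lit 2368) (Step.D (nat_lit 4559) (Step.D (nat_lit 7514) (Step.D (nat_lit 10564) Step.done))))) (Scr.cons (nat_lit 11) (nat_lit 0) (Step.U (nat_lit 4747) (Step.U (nat_lit 2580) (Step.D (nat_lit 2579) (Step.D (nat_lit 4746) (Step.D (nat_lit 7723) Step.done))))) (Scr.cons (nat_lit 7) (nat_lit 2) (Step.U (nat_lit 751) (Step.U (nat_lit 270) (Step.L (Step.L (Step.L (Step.L (Step.L (Step.L (Step.L (Step.L (Step.L (Step.L (Step.L (Step.L (Step.L (Step.L (Step.L (Step.D (nat_lit 173) (Step.D (nat_lit 505) (Step.D (nat_lit 1257) Step.done)))))))))))))))))))) (Scr.cons (nat_lit 11) (nat_lit 0) (Step.B (nat_lit 2374) (Step.U (nat_lit 1257) (Step.U (nat_lit 505) (Step.D (nat_lit 504) (Step.D (nat_lit 1255) Step.done))))) (Scr.cons (nat_lit 12) (nat_lit 4) (Step.L (Step.L (Step.L (Step.L (Step.D (nat_lit 269) Step.done))))) (Scr.cons (nat_lit 12) (nat_lit 4) (Step.U (nat_lit 270) (Step.D (nat_lit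 269) (Step.F (nat_lit 2376) (Step.D (nat_lit 270) (Step.D (nat_lit 751) Step.done))))) (Scr.cons (nat_lit 11) (nat_lit 0) (Step.U (nat_lit 271) (Step.L (Step.L (Step.D (nat_lit 270) (Step.D (nat_lit 752) Step.done))))) (Scr.cons (nat_lit 14) (nat_lit 3) (Step.F (nat_lit 2373) (Step.U (nat_lit 4747) (Step.U (nat_lit 2580) (Step.U (nat_lit 1254) (Step.D (nat_lit 1255) (Step.F (nat_lit 2375) (Step.F (nat_lit 2377) (Step.D (nat_lit 752) (Step.F (nat_lit 2378) (Step.U (nat_lit 271) (Step.L (Step.L (Step.L (Step.L (Step.L (Step.L (Step.D (nat_lit 2450) (Step.B (nat_lit 2368) (Step.D (nat_lit 7514) (Step.D (nat_lit 10565) Step.done)))))))))))))))))))) (Scr.cons (nat_lit 12) (nat_lit 4) (Step.U (nat_lit 10565) (Step.D (nat_lit 10564) (Step.F (nat_lit 2372) (Step.D (nat_lit 10565) (Step.F (nat_lit 2379) Step.done))))) (Scr.cons (nat_lit 12) (nat_lit 4) (Step.L (Step.L (Step.L (Step.L (Step.D (nat_lit 450) Step.done))))) (Scr.cons (nat_lit 12) (nat_lit 4) (Step.U (nat_lit 393)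 (Step.F (nat_lit 115) (Step.D (nat_lit 132) (Step.D (nat_lit 393) (Step.D (nat_lit 1025) Step.done))))) (Scr.cons (nat_lit 13) (nat_lit 2) (Step.U (nat_lit 1147) (Step.U (nat_lit 450) (Step.L (Step.L (Step.L (Step.L (Step.L (Step.D (nat_lit 132) (Step.D (nat_lit 393) (Step.B (nat_lit 2382) (Step.D (nat_lit 2190) Step.done))))))))))) (Scr.cons (nat_lit 15) (nat_lit 0) (Step.U (nat_lit 2611) (Step.F (nat_lit 1829) (Step.U (nat_lit 513) (Step.F (nat_lit 1742) (Step.L (Step.L (Step.L (Step.L (Step.L (Step.D (nat_lit 9) (Step.D (nat_lit 63) (Step.D (nat_lit 230) (Step.D (nat_lit 644) (Step.D (nat_lit 1533) (Step.D (nat_lit 3068) Step.done))))))))))))))) (Scr.cons (nat_lit 12) (nat_lit 1) (Step.L (Step.L (Step.L (Step.L (Step.D (nat_lit 9) Step.done))))) (Scr.cons (nat_lit 12) (nat_lit 4) (Step.U (nat_lit 63) (Step.F (nat_lit 2385) (Step.D (nat_lit 9) (Step.D (nat_lit 63) (Step.D (nat_lit 230) Step.done))))) (Scr.cons (nat_lit 12) (nat_lit 4) (Step.U (nat_lit 644) (Step.F (nat_lit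 2386) (Step.D (nat_lit 230) (Step.D (nat_lit 644) (Step.D (nat_lit 1533) Step.done))))) (Scr.cons (nat_lit 12) (nat_lit 4) (Step.U (nat_lit 1534) (Step.D (nat_lit 1533) (Step.F (nat_lit 2387) (Step.D (nat_lit 1534) (Step.D (nat_lit 3069) Step.done))))) (Scr.cons (nat_lit 13) (nat_lit 3) (Step.U (nat_lit 230) (Step.U (nat_lit 63) (Step.F (nat_lit 2385) (Step.L (Step.L (Step.L (Step.L (Step.L (Step.B (nat_lit 1964) (Step.D (nat_lit 108) (Step.D (nat_lit 335) Step.done))))))))))) (Scr.cons (nat_lit 4) (nat_lit 0) (Step.U (nat_lit 1534) (Step.U (nat_lit 644) (Step.B (nat_lit 2389) (Step.D (nat_lit 905) (Step.D (nat_lit 1950) Step.done))))) (Scr.cons (nat_lit 16) (nat_lit 1) (Step.F (nat_lit 2388) (Step.B (nat_lit 2390) (Step.U (nat_lit 1950) (Step.U (nat_lit 905) (Step.F (nat_lit 1965) (Step.U (nat_lit 108) (Step.F (nat_lit 1964) (Step.L (Step.L (Step.L (Step.L (Step.L (Step.L (Step.L (Step.L (Step.L (Step.L (Step.L (Step.L (Step.L (Step.D (nat_lit 299) (Step.D (nat_lit 810)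 (Step.D (nat_lit 1801) Step.done))))))))))))))))))))))) (Scr.cons (nat_lit 12) (nat_lit 4) (Step.U (nat_lit 299) (Step.L (Step.L (Step.D (nat_lit 299) (Step.D (nat_lit 809) Step.done))))) (Scr.cons (nat_lit 12) (nat_lit 4) (Step.U (nat_lit 810) (Step.D (nat_lit 809) (Step.F (nat_lit 2392) (Step.D (nat_lit 810) (Step.D (nat_lit 1801) Step.done))))) (Scr.cons (nat_lit 13) (nat_lit 0) (Step.B (nat_lit 2384) (Step.U (nat_lit 3068) (Step.F (nat_lit 2387) (Step.D (nat_lit 1534) (Step.B (nat_lit 2388) (Step.B (nat_lit 2391) (Step.F (nat_lit 2393) (Step.D (nat_lit 1802) (Step.F (nat_lit 120) (Step.U (nat_lit 1026) (Step.D (nat_lit 1025) (Step.D (nat_lit 2189) Step.done)))))))))))) (Scr.cons (nat_lit 1) (nat_lit 0) (Step.D (nat_lit 2611) (Step.B (nat_lit 2394) Step.done)) (Scr.cons (nat_lit 4) (nat_lit 0) (Step.U (nat_lit 2610) (Step.B (nat_lit 2395) (Step.U (nat_lit 2189) (Step.D (nat_lit 2190) (Step.D (nat_lit 4153) Step.done))))) (Scr.cons (nat_lit 1) (nat_lit 1) (Step.F (nat_lit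 2396) (Step.B (nat_lit 2275) (Step.L Step.done))) (Scr.cons (nat_lit 1) (nat_lit 1) (Step.D (nat_lit 4153) (Step.B (nat_lit 2397) (Step.L Step.done))) (Scr.cons (nat_lit 0) (nat_lit 1) (Step.B (nat_lit 2383) (Step.B (nat_lit 2398) (Step.L Step.done))) (Scr.cons (nat_lit 1) (nat_lit 1) (Step.D (nat_lit 1147) (Step.B (nat_lit 2399) (Step.L Step.done))) (Scr.cons (nat_lit 0) (nat_lit 1) (Step.B (nat_lit 2381) (Step.B (nat_lit 2400) (Step.D (nat_lit 173) Step.done))) (Scr.cons (nat_lit 1) (nat_lit 1) (Step.U (nat_lit 504) (Step.F (nat_lit 2401) (Step.L Step.done))) Scr.nil))))))))))))))))))))))))))))))))))))))))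
noncomputable def s60 : Scr := (Scr.cons (nat_lit 0) (nat_lit 1) (Step.U (nat_lit 1254) (Step.B (nat_lit 2402) (Step.D (nat_lit 1148) Step.done))) (Scr.cons (nat_lit 1) (nat_lit 1) (Step.U (nat_lit 2579) (Step.B (nat_lit 2403) (Step.D (nat_lit 2387) Step.done))) (Scr.cons (nat_lit 1) (nat_lit 1) (Step.U (nat_lit 4746) (Step.B (nat_lit 2404) (Step.D (nat_lit 4437) Step.done))) (Scr.cons (nat_lit 1) (nat_lit 1) (Step.U (nat_lit 7723) (Step.B (nat_lit 2405) (Step.D (nat_lit 7362) Step.done))) (Scr.cons (nat_lit 0) (nat_lit 1) (Step.B (nat_lit 2380) (Step.B (nat_lit 2406) (Step.D (nat_lit 10427) Step.done))) (Scr.cons (nat_lit 1) (nat_lit 1) (Step.D (nat_lit 10565) (Step.B (nat_lit 2407) Step.done)) (Scr.cons (nat_lit 12) (nat_lit 1) (Step.L (Step.L (Step.L (Step.L (Step.D (nat_lit 451) Step.done))))) (Scr.cons (nat_lit 12) (nat_lit 1) (Step.L (Step.D (nat_lit 451) (Step.F (nat_lit 2409) (Step.L (Step.D (nat_lit 1148) Step.done))))) (Scr.cons (nat_lit 12) (nat_lit 4) (Step.U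 (nat_lit 2387) (Step.F (nat_lit 2410) (Step.D (nat_lit 1148) (Step.D (nat_lit 2387) (Step.D (nat_lit 4436) Step.done))))) (Scr.cons (nat_lit 6) (nat_lit 3) (Step.U (nat_lit 3153) (Step.U (nat_lit 1584) (Step.L (Step.L (Step.L (Step.L (Step.L (Step.L (Step.L (Step.L (Step.D (nat_lit 5197) Step.done))))))))))) (Scr.cons (nat_lit 11) (nat_lit 0) (Step.L (Step.L (Step.L (Step.D (nat_lit 4739) (Step.D (nat_lit 7715) Step.done))))) (Scr.cons (nat_lit 14) (nat_lit 0) (Step.F (nat_lit 162) (Step.L (Step.L (Step.L (Step.L (Step.L (Step.L (Step.L (Step.L (Step.L (Step.L (Step.L (Step.L (Step.L (Step.L (Step.L (Step.L (Step.L (Step.L (Step.D (nat_lit 4739) Step.done)))))))))))))))))))) (Scr.cons (nat_lit 1) (nat_lit 0) (Step.D (nat_lit 1731) (Step.B (nat_lit 2282) (Step.B (nat_lit 162) Step.done))) (Scr.cons (nat_lit 0) (nat_lit 1) (Step.F (nat_lit 2414) (Step.F (nat_lit 2415) (Step.L Step.done))) (Scr.cons (nat_lit 1) (nat_lit 1) (Step.U (nat_lit 7715) (Step.B (nat_lit 2416) (Step.L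 Step.done))) (Scr.cons (nat_lit 1) (nat_lit 1) (Step.B (nat_lit 2413) (Step.B (nat_lit 2417) (Step.D (nat_lit 5197) Step.done))) (Scr.cons (nat_lit 12) (nat_lit 4) (Step.L (Step.L (Step.L (Step.L (Step.D (nat_lit 433) Step.done))))) (Scr.cons (nat_lit 12) (nat_lit 1) (Step.L (Step.L (Step.L (Step.L (Step.D (nat_lit 459) Step.done))))) (Scr.cons (nat_lit 13) (nat_lit 3) (Step.U (nat_lit 2332) (Step.U (nat_lit 1112) (Step.F (nat_lit 2419) (Step.D (nat_lit 434) (Step.B (nat_lit 30) (Step.U (nat_lit 457) (Step.F (nat_lit 818) (Step.L (Step.B (nat_lit 2420) (Step.D (nat_lit 1166) (Step.D (nat_lit 2422) Step.done))))))))))) (Scr.cons (nat_lit 12) (nat_lit 4) (Step.U (nat_lit 1112) (Step.F (nat_lit 2419) (Step.D (nat_lit 433) (Step.D (nat_lit 1112) (Step.D (nat_lit 2332) Step.done))))) (Scr.cons (nat_lit 15) (nat_lit 0) (Step.U (nat_lit 3309) (Step.L (Step.L (Step.L (Step.L (Step.L (Step.L (Step.L (Step.L (Step.L (Step.L (Step.D (nat_lit 433) (Step.D (nat_lit 1112) (Step.D (nat_lit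 2332) (Step.D (nat_lit 4353) Step.done))))))))))))))) (Scr.cons (nat_lit 12) (nat_lit 4) (Step.U (nat_lit 4353) (Step.F (nat_lit 2422) (Step.D (nat_lit 2332) (Step.D (nat_lit 4353) (Step.F (nat_lit 2423) Step.done))))) (Scr.cons (nat_lit 15) (nat_lit 1) (Step.F (nat_lit 2409) (Step.L (Step.L (Step.L (Step.L (Step.L (Step.L (Step.L (Step.L (Step.L (Step.L (Step.L (Step.L (Step.L (Step.L Step.done))))))))))))))) (Scr.cons (nat_lit 6) (nat_lit 0) (Step.B (nat_lit 2424) (Step.U (nat_lit 3309) (Step.L (Step.L (Step.L (Step.F (nat_lit 2425) (Step.F (nat_lit 2409) (Step.L (Step.B (nat_lit 2410) (Step.D (nat_lit 2387) (Step.D (nat_lit 4436) Step.done))))))))))) (Scr.cons (nat_lit 11) (nat_lit 0) (Step.U (nat_lit 4509) (Step.F (nat_lit 2421) (Step.D (nat_lit 4353) (Step.B (nat_lit 2426) (Step.D (nat_lit 7360) Step.done))))) (Scr.cons (nat_lit 12) (nat_lit 1) (Step.U (nat_lit 1166) (Step.F (nat_lit 2420) (Step.D (nat_lit 459) (Step.D (nat_lit 1166) (Step.D (nat_lit 2422) Step.done)))))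 (Scr.cons (nat_lit 12) (nat_lit 1) (Step.U (nat_lit 4509) (Step.F (nat_lit 2428) (Step.D (nat_lit 2422) (Step.D (nat_lit 4509) (Step.D (nat_lit 7444) Step.done))))) (Scr.cons (nat_lit 12) (nat_lit 1) (Step.F (nat_lit 2427) (Step.D (nat_lit 7444) (Step.F (nat_lit 2429) (Step.B (nat_lit 2427) (Step.D (nat_lit 10424) Step.done))))) (Scr.cons (nat_lit 12) (nat_lit 1) (Step.L (Step.L (Step.L (Step.L (Step.D (nat_lit 7716) Step.done))))) (Scr.cons (nat_lit 15) (nat_lit 1) (Step.F (nat_lit 2431) (Step.L (Step.L (Step.L (Step.L (Step.L (Step.L (Step.L (Step.L (Step.L (Step.D (nat_lit 173) (Step.D (nat_lit 504) (Step.D (nat_lit 1254) (Step.D (nat_lit 2579) (Step.D (nat_lit 4745) Step.done))))))))))))))) (Scr.cons (nat_lit 0) (nat_lit 1) (Step.U (nat_lit 4745) (Step.B (nat_lit 2404) (Step.D (nat_lit 4436) Step.done))) (Scr.cons (nat_lit 1) (nat_lit 1) (Step.B (nat_lit 2432) (Step.B (nat_lit 2433) (Step.D (nat_lit 7360) Step.done))) (Scr.cons (nat_lit 0) (nat_lit 1) (Step.B (nat_lit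 2431) (Step.B (nat_lit 2434) (Step.D (nat_lit 10424) Step.done))) (Scr.cons (nat_lit 0) (nat_lit 0) (Step.B (nat_lit 2430) (Step.F (nat_lit 2435) Step.done)) (Scr.cons (nat_lit 0) (nat_lit 1) (Step.B (nat_lit 2412) (Step.F (nat_lit 2418) (Step.F (nat_lit 2436) Step.done))) (Scr.cons (nat_lit 1) (nat_lit 0) (Step.D (nat_lit 7360) (Step.F (nat_lit 2437) (Step.U (nat_lit 3153) Step.done))) (Scr.cons (nat_lit 12) (nat_lit 1) (Step.L (Step.L (Step.L (Step.L (Step.D (nat_lit 1584) Step.done))))) (Scr.cons (nat_lit 0) (nat_lit 1) (Step.B (nat_lit 2411) (Step.B (nat_lit 2438) (Step.F (nat_lit 2439) Step.done))) (Scr.cons (nat_lit 1) (nat_lit 1) (Step.U (nat_lit 4437) (Step.B (nat_lit 2440) (Step.L Step.done))) (Scr.cons (nat_lit 1) (nat_lit 1) (Step.U (nat_lit 7362) (Step.B (nat_lit 2441) (Step.L Step.done))) Scr.nil))))))))))))))))))))))))))))))))))))))))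
noncomputable def s61 : Scr := (Scr.cons (nat_lit 0) (nat_lit 1) (Step.U (nat_lit 10427) (Step.B (nat_lit 2442) (Step.L Step.done))) (Scr.cons (nat_lit 1) (nat_lit 0) (Step.B (nat_lit 2408) (Step.B (nat_lit 2443) (Step.L Step.done))) (Scr.cons (nat_lit 1) (nat_lit 0) (Step.D (nat_lit 7514) (Step.B (nat_lit 2444) (Step.L Step.done))) (Scr.cons (nat_lit 1) (nat_lit 0) (Step.U (nat_lit 7515) (Step.B (nat_lit 2445) (Step.L Step.done))) (Scr.cons (nat_lit 0) (nat_lit 1) (Step.B (nat_lit 2371) (Step.B (nat_lit 2446) (Step.L Step.done))) (Scr.cons (nat_lit 1) (nat_lit 1) (Step.B (nat_lit 2364) (Step.B (nat_lit 2447) (Step.L Step.done))) (Scr.cons (nat_lit 0) (nat_lit 1) (Step.U (nat_lit 7676) (Step.B (nat_lit 2448) (Step.L Step.done))) (Scr.cons (nat_lit 1) (nat_lit 1) (Step.U (nat_lit 10700) (Step.B (nat_lit 2449) (Step.L Step.done))) (Scr.cons (nat_lit 1) (nat_lit 1) (Step.B (nat_lit 2365) (Step.B (nat_lit 2450) (Step.D (nat_lit 7913) Step.done))) (Scr.cons (nat_lit 1) (nat_lit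 1) (Step.D (nat_lit 7913) (Step.F (nat_lit 2451) Step.done)) (Scr.cons (nat_lit 14) (nat_lit 6) (Step.U (nat_lit 3376) (Step.U (nat_lit 1704) (Step.U (nat_lit 741) (Step.L (Step.L (Step.L (Step.L (Step.L (Step.L (Step.L (Step.L (Step.L (Step.L (Step.L (Step.L (Step.L (Step.L (Step.L (Step.L (Step.D (nat_lit 5486) Step.done)))))))))))))))))))) (Scr.cons (nat_lit 16) (nat_lit 3) (Step.U (nat_lit 1704) (Step.U (nat_lit 741) (Step.L (Step.L (Step.L (Step.L (Step.L (Step.L (Step.L (Step.L (Step.L (Step.L (Step.L (Step.L (Step.L (Step.L (Step.L (Step.L (Step.L (Step.L (Step.D (nat_lit 664) (Step.D (nat_lit 1568) (Step.D (nat_lit 3126) Step.done))))))))))))))))))))))) (Scr.cons (nat_lit 12) (nat_lit 1) (Step.L (Step.L (Step.L (Step.L (Step.D (nat_lit 664) Step.done))))) (Scr.cons (nat_lit 12) (nat_lit 1) (Step.U (nat_lit 1569) (Step.F (nat_lit 2455) (Step.D (nat_lit 664) (Step.D (nat_lit 1569) (Step.D (nat_lit 3128) Step.done))))) (Scr.cons (nat_lit 12) (nat_lit 1) (Step.U (nat_lit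 3129) (Step.D (nat_lit 3128) (Step.F (nat_lit 2456) (Step.D (nat_lit 3129) (Step.D (nat_lit 5555) Step.done))))) (Scr.cons (nat_lit 12) (nat_lit 1) (Step.L (Step.L (Step.L (Step.L (Step.D (nat_lit 670) Step.done))))) (Scr.cons (nat_lit 16) (nat_lit 1) (Step.F (nat_lit 2458) (Step.L (Step.L (Step.L (Step.L (Step.L (Step.L (Step.L (Step.L (Step.L (Step.L (Step.L (Step.L (Step.L (Step.L (Step.L (Step.L (Step.L (Step.L (Step.L (Step.L (Step.L (Step.D (nat_lit 445) Step.done))))))))))))))))))))))) (Scr.cons (nat_lit 11) (nat_lit 0) (Step.U (nat_lit 2370) (Step.U (nat_lit 1135) (Step.F (nat_lit 2459) (Step.D (nat_lit 1580) (Step.D (nat_lit 3145) Step.done))))) (Scr.cons (nat_lit 12) (nat_lit 1) (Step.L (Step.L (Step.L (Step.L (Step.D (nat_lit 445) Step.done))))) (Scr.cons (nat_lit 12) (nat_lit 1) (Step.U (nat_lit 1135) (Step.F (nat_lit 2461) (Step.D (nat_lit 445) (Step.D (nat_lit 1135) (Step.D (nat_lit 2369) Step.done))))) (Scr.cons (nat_lit 12) (nat_lit 1) (Step.U (nat_lit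 2370) (Step.D (nat_lit 2369) (Step.F (nat_lit 2462) (Step.D (nat_lit 2370) (Step.D (nat_lit 4405) Step.done))))) (Scr.cons (nat_lit 11) (nat_lit 0) (Step.U (nat_lit 1250) (Step.L (Step.L (Step.L (Step.D (nat_lit 2572) Step.done))))) (Scr.cons (nat_lit 12) (nat_lit 1) (Step.U (nat_lit 1250) (Step.L (Step.L (Step.D (nat_lit 1250) (Step.D (nat_lit 2573) Step.done))))) (Scr.cons (nat_lit 14) (nat_lit 6) (Step.U (nat_lit 2573) (Step.U (nat_lit 1250) (Step.L (Step.L (Step.L (Step.L (Step.L (Step.L (Step.D (nat_lit 172) (Step.D (nat_lit 501) (Step.D (nat_lit 1251) (Step.B (nat_lit 232) (Step.U (nat_lit 747) (Step.U (nat_lit 268) (Step.U (nat_lit 81) (Step.L (Step.L (Step.L (Step.L (Step.D (nat_lit 3228) Step.done)))))))))))))))))))) (Scr.cons (nat_lit 4) (nat_lit 0) (Step.B (nat_lit 2466) (Step.U (nat_lit 3228) (Step.L (Step.D (nat_lit 1713) (Step.D (nat_lit 3393) Step.done))))) (Scr.cons (nat_lit 7) (nat_lit 1) (Step.U (nat_lit 5576) (Step.U (nat_lit 3144) (Step.U (nat_lit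 1580) (Step.B (nat_lit 2459) (Step.F (nat_lit 2461) (Step.L (Step.L (Step.L (Step.L (Step.L (Step.L (Step.L (Step.L (Step.L (Step.L (Step.L (Step.L (Step.D (nat_lit 1713) (Step.D (nat_lit 3392) (Step.D (nat_lit 5999) Step.done)))))))))))))))))))) (Scr.cons (nat_lit 11) (nat_lit 0) (Step.U (nat_lit 5577) (Step.D (nat_lit 5576) (Step.B (nat_lit 2468) (Step.U (nat_lit 5999) (Step.D (nat_lit 5998) Step.done))))) (Scr.cons (nat_lit 14) (nat_lit 5) (Step.F (nat_lit 2432) (Step.U (nat_lit 7716) (Step.L (Step.L (Step.L (Step.L (Step.D (nat_lit 2572) (Step.F (nat_lit 2464) (Step.B (nat_lit 2465) (Step.B (nat_lit 2467) (Step.U (nat_lit 3393) (Step.D (nat_lit 3392) (Step.D (nat_lit 5998) (Step.F (nat_lit 2469) (Step.U (nat_lit 5577) (Step.U (nat_lit 3144) (Step.D (nat_lit 3145) (Step.F (nat_lit 2460) (Step.D (nat_lit 4405) (Step.D (nat_lit 7319) Step.done)))))))))))))))))))) (Scr.cons (nat_lit 12) (nat_lit 1) (Step.L (Step.L (Step.L (Step.L (Step.D (nat_lit 173) Step.done))))) (Scr.cons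 (nat_lit 12) (nat_lit 4) (Step.U (nat_lit 504) (Step.F (nat_lit 2471) (Step.D (nat_lit 173) (Step.D (nat_lit 504) (Step.D (nat_lit 1254) Step.done))))) (Scr.cons (nat_lit 12) (nat_lit 4) (Step.U (nat_lit 2579) (Step.F (nat_lit 2472) (Step.D (nat_lit 1254) (Step.D (nat_lit 2579) (Step.D (nat_lit 4745) Step.done))))) (Scr.cons (nat_lit 14) (nat_lit 0) (Step.U (nat_lit 5555) (Step.U (nat_lit 3129) (Step.U (nat_lit 1569) (Step.F (nat_lit 2455) (Step.L (Step.L (Step.L (Step.L (Step.L (Step.L (Step.D (nat_lit 670) (Step.D (nat_lit 1580) (Step.D (nat_lit 3145) (Step.F (nat_lit 2460) (Step.B (nat_lit 2463) (Step.D (nat_lit 7319) (Step.F (nat_lit 2470) (Step.F (nat_lit 2473) (Step.D (nat_lit 4746) (Step.D (nat_lit 7723) (Step.F (nat_lit 2373) Step.done))))))))))))))))))))) (Scr.cons (nat_lit 0) (nat_lit 0) (Step.B (nat_lit 2457) (Step.B (nat_lit 2474) Step.done)) (Scr.cons (nat_lit 1) (nat_lit 0) (Step.U (nat_lit 2580) (Step.B (nat_lit 2403) (Step.D (nat_lit 2388) Step.done)))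 (Scr.cons (nat_lit 1) (nat_lit 0) (Step.U (nat_lit 4747) (Step.B (nat_lit 2476) (Step.D (nat_lit 4438) Step.done))) (Scr.cons (nat_lit 0) (nat_lit 1) (Step.B (nat_lit 2475) (Step.B (nat_lit 2477) (Step.D (nat_lit 7363) Step.done))) (Scr.cons (nat_lit 0) (nat_lit 1) (Step.D (nat_lit 7363) (Step.F (nat_lit 2478) Step.done)) (Scr.cons (nat_lit 12) (nat_lit 4) (Step.L (Step.L (Step.L (Step.L (Step.D (nat_lit 671) Step.done))))) (Scr.cons (nat_lit 12) (nat_lit 1) (Step.L (Step.L (Step.L (Step.L (Step.D (nat_lit 218) Step.done))))) (Scr.cons (nat_lit 12) (nat_lit 4) (Step.U (nat_lit 607) (Step.F (nat_lit 2481) (Step.D (nat_lit 218) (Step.D (nat_lit 607) (Step.D (nat_lit 1447) Step.done))))) Scr.nil))))))))))))))))))))))))))))))))))))))))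
noncomputable def s62 : Scr := (Scr.cons (nat_lit 13) (nat_lit 2) (Step.U (nat_lit 1583) (Step.U (nat_lit 671) (Step.L (Step.L (Step.L (Step.L (Step.L (Step.D (nat_lit 218) (Step.D (nat_lit 607) (Step.B (nat_lit 2482) (Step.D (nat_lit 2932) Step.done))))))))))) (Scr.cons (nat_lit 12) (nat_lit 1) (Step.U (nat_lit 273) (Step.F (nat_lit 1736) (Step.B (nat_lit 1549) (Step.D (nat_lit 273) (Step.D (nat_lit 762) Step.done))))) (Scr.cons (nat_lit 15) (nat_lit 0) (Step.U (nat_lit 1736) (Step.F (nat_lit 2484) (Step.U (nat_lit 273) (Step.F (nat_lit 1736) (Step.L (Step.L (Step.L (Step.L (Step.L (Step.L (Step.L (Step.D (nat_lit 218) (Step.D (nat_lit 607) (Step.D (nat_lit 1447) (Step.D (nat_lit 2931) Step.done))))))))))))))) (Scr.cons (nat_lit 12) (nat_lit 4) (Step.U (nat_lit 2931) (Step.F (nat_lit 2482) (Step.D (nat_lit 1447) (Step.D (nat_lit 2931) (Step.F (nat_lit 2485) Step.done))))) (Scr.cons (nat_lit 12) (nat_lit 4) (Step.U (nat_lit 1735) (Step.F (nat_lit 2484) (Step.D (nat_lit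 762) (Step.D (nat_lit 1735) (Step.D (nat_lit 3419) Step.done))))) (Scr.cons (nat_lit 12) (nat_lit 1) (Step.U (nat_lit 759) (Step.L (Step.L (Step.D (nat_lit 759) (Step.D (nat_lit 1732) Step.done))))) (Scr.cons (nat_lit 7) (nat_lit 1) (Step.U (nat_lit 3416) (Step.U (nat_lit 1732) (Step.D (nat_lit 1733) (Step.B (nat_lit 1743) (Step.F (nat_lit 1746) (Step.U (nat_lit 1268) (Step.U (nat_lit 512) (Step.D (nat_lit 513) (Step.B (nat_lit 1829) (Step.B (nat_lit 2395) (Step.U (nat_lit 2189) (Step.F (nat_lit 2382) (Step.U (nat_lit 393) (Step.D (nat_lit 394) (Step.D (nat_lit 1028) (Step.B (nat_lit 1934) (Step.F (nat_lit 116) (Step.U (nat_lit 1835) (Step.L (Step.D (nat_lit 3577) Step.done)))))))))))))))))))) (Scr.cons (nat_lit 11) (nat_lit 0) (Step.U (nat_lit 3417) (Step.D (nat_lit 3416) (Step.B (nat_lit 2489) (Step.U (nat_lit 3577) (Step.L Step.done))))) (Scr.cons (nat_lit 12) (nat_lit 1) (Step.U (nat_lit 1833) (Step.F (nat_lit 1895) (Step.D (nat_lit 833) (Step.D (nat_lit 1833) (Step.D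 (nat_lit 3575) Step.done))))) (Scr.cons (nat_lit 9) (nat_lit 1) (Step.U (nat_lit 6029) (Step.U (nat_lit 3419) (Step.U (nat_lit 1735) (Step.U (nat_lit 762) (Step.B (nat_lit 1735) (Step.U (nat_lit 761) (Step.U (nat_lit 272) (Step.L (Step.D (nat_lit 759) (Step.B (nat_lit 2488) (Step.D (nat_lit 3417) (Step.B (nat_lit 2490) (Step.L (Step.L (Step.L (Step.L (Step.D (nat_lit 307) (Step.B (nat_lit 105) (Step.U (nat_lit 834) (Step.B (nat_lit 1895) (Step.D (nat_lit 1833) (Step.B (nat_lit 2491) (Step.D (nat_lit 6263) Step.done))))))))))))))))))))))) (Scr.cons (nat_lit 11) (nat_lit 0) (Step.U (nat_lit 6030) (Step.D (nat_lit 6029) (Step.B (nat_lit 2492) (Step.U (nat_lit 6263) (Step.D (nat_lit 6262) Step.done))))) (Scr.cons (nat_lit 12) (nat_lit 4) (Step.U (nat_lit 1832) (Step.F (nat_lit 1895) (Step.D (nat_lit 833) (Step.D (nat_lit 1832) (Step.D (nat_lit 3574) Step.done))))) (Scr.cons (nat_lit 0) (nat_lit 1) (Step.B (nat_lit 2494) (Step.B (nat_lit 1898) (Step.D (nat_lit 5042) Step.done)))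 (Scr.cons (nat_lit 0) (nat_lit 1) (Step.D (nat_lit 5042) (Step.F (nat_lit 2495) Step.done)) (Scr.cons (nat_lit 0) (nat_lit 1) (Step.B (nat_lit 1813) (Step.B (nat_lit 1899) (Step.D (nat_lit 2770) Step.done))) (Scr.cons (nat_lit 0) (nat_lit 0) (Step.B (nat_lit 1817) (Step.F (nat_lit 2497) Step.done)) (Scr.cons (nat_lit 11) (nat_lit 0) (Step.U (nat_lit 2009) (Step.U (nat_lit 930) (Step.D (nat_lit 929) (Step.D (nat_lit 2007) (Step.D (nat_lit 3865) Step.done))))) (Scr.cons (nat_lit 12) (nat_lit 4) (Step.U (nat_lit 929) (Step.F (nat_lit 1812) (Step.D (nat_lit 345) (Step.D (nat_lit 929) (Step.D (nat_lit 2006) Step.done))))) (Scr.cons (nat_lit 12) (nat_lit 4) (Step.U (nat_lit 2007) (Step.D (nat_lit 2006) (Step.F (nat_lit 2500) (Step.D (nat_lit 2007) (Step.D (nat_lit 3864) Step.done))))) (Scr.cons (nat_lit 7) (nat_lit 1) (Step.U (nat_lit 9825) (Step.U (nat_lit 6656) (Step.U (nat_lit 3864) (Step.U (nat_lit 2007) (Step.U (nat_lit 929) (Step.F (nat_lit 1812) (Step.L (Step.L (Step.L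 (Step.L (Step.L (Step.L (Step.D (nat_lit 2010) (Step.D (nat_lit 3869) (Step.D (nat_lit 6663) (Step.B (nat_lit 1875) (Step.F (nat_lit 1876) (Step.U (nat_lit 6881) (Step.U (nat_lit 4032) (Step.D (nat_lit 4031) (Step.D (nat_lit 6880) Step.done))))))))))))))))))))) (Scr.cons (nat_lit 1) (nat_lit 1) (Step.D (nat_lit 9825) (Step.B (nat_lit 2502) Step.done)) (Scr.cons (nat_lit 4) (nat_lit 0) (Step.U (nat_lit 6879) (Step.D (nat_lit 6880) (Step.F (nat_lit 2503) (Step.U (nat_lit 6656) (Step.D (nat_lit 6657) (Step.D (nat_lit 9826) Step.done)))))) (Scr.cons (nat_lit 1) (nat_lit 0) (Step.D (nat_lit 9826) (Step.F (nat_lit 2504) Step.done)) (Scr.cons (nat_lit 1) (nat_lit 1) (Step.U (nat_lit 2113) (Step.B (nat_lit 2085) (Step.L Step.done))) (Scr.cons (nat_lit 0) (nat_lit 1) (Step.U (nat_lit 4031) (Step.B (nat_lit 2506) (Step.L Step.done))) (Scr.cons (nat_lit 1) (nat_lit 1) (Step.U (nat_lit 6879) (Step.B (nat_lit 2507) (Step.L Step.done))) (Scr.cons (nat_lit 1) (nat_lit 1) (Step.B (nat_lit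 2505) (Step.B (nat_lit 2508) (Step.D (nat_lit 2107) Step.done))) (Scr.cons (nat_lit 1) (nat_lit 1) (Step.D (nat_lit 6657) (Step.B (nat_lit 2509) (Step.F (nat_lit 2238) Step.done))) (Scr.cons (nat_lit 0) (nat_lit 1) (Step.B (nat_lit 2501) (Step.B (nat_lit 2510) (Step.F (nat_lit 2237) Step.done))) (Scr.cons (nat_lit 1) (nat_lit 1) (Step.U (nat_lit 3865) (Step.B (nat_lit 2511) (Step.F (nat_lit 2233) Step.done))) (Scr.cons (nat_lit 1) (nat_lit 1) (Step.B (nat_lit 2499) (Step.B (nat_lit 2512) (Step.U (nat_lit 422) Step.done))) (Scr.cons (nat_lit 1) (nat_lit 1) (Step.D (nat_lit 2009) (Step.B (nat_lit 2513) (Step.U (nat_lit 145) Step.done))) (Scr.cons (nat_lit 0) (nat_lit 1) (Step.B (nat_lit 2498) (Step.B (nat_lit 2514) (Step.L Step.done))) (Scr.cons (nat_lit 1) (nat_lit 0) (Step.U (nat_lit 2771) (Step.B (nat_lit 2515) (Step.L Step.done))) (Scr.cons (nat_lit 0) (nat_lit 1) (Step.F (nat_lit 2496) (Step.B (nat_lit 2516) (Step.L Step.done))) (Scr.cons (nat_lit 1) (nat_lit 0) (Step.D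 (nat_lit 1832) (Step.B (nat_lit 2517) (Step.L Step.done))) (Scr.cons (nat_lit 1) (nat_lit 0) (Step.U (nat_lit 1833) (Step.B (nat_lit 2518) (Step.L Step.done))) (Scr.cons (nat_lit 0) (nat_lit 1) (Step.U (nat_lit 3575) (Step.B (nat_lit 2519) (Step.L Step.done))) (Scr.cons (nat_lit 1) (nat_lit 1) (Step.U (nat_lit 6262) (Step.B (nat_lit 2520) (Step.L Step.done))) (Scr.cons (nat_lit 1) (nat_lit 1) (Step.B (nat_lit 2493) (Step.B (nat_lit 2521) (Step.L Step.done))) Scr.nil))))))))))))))))))))))))))))))))))))))))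
noncomputable def s63 : Scr := (Scr.cons (nat_lit 1) (nat_lit 1) (Step.D (nat_lit 6030) (Step.B (nat_lit 2522) (Step.L Step.done))) (Scr.cons (nat_lit 0) (nat_lit 1) (Step.B (nat_lit 2487) (Step.B (nat_lit 2523) (Step.L Step.done))) (Scr.cons (nat_lit 1) (nat_lit 0) (Step.D (nat_lit 1735) (Step.B (nat_lit 2524) (Step.L Step.done))) (Scr.cons (nat_lit 1) (nat_lit 0) (Step.U (nat_lit 1736) (Step.B (nat_lit 2525) (Step.L Step.done))) (Scr.cons (nat_lit 0) (nat_lit 1) (Step.B (nat_lit 2486) (Step.B (nat_lit 2526) (Step.L Step.done))) (Scr.cons (nat_lit 1) (nat_lit 0) (Step.D (nat_lit 2931) (Step.B (nat_lit 2527) (Step.L Step.done))) (Scr.cons (nat_lit 1) (nat_lit 0) (Step.U (nat_lit 2932) (Step.B (nat_lit 2528) (Step.L Step.done))) (Scr.cons (nat_lit 0) (nat_lit 1) (Step.B (nat_lit 2483) (Step.B (nat_lit 2529) (Step.L Step.done))) (Scr.cons (nat_lit 1) (nat_lit 1) (Step.D (nat_lit 1583) (Step.B (nat_lit 2530) (Step.L Step.done))) (Scr.cons (nat_lit 0) (nat_lit 1) (Step.B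 (nat_lit 2480) (Step.B (nat_lit 2531) (Step.D (nat_lit 1148) Step.done))) (Scr.cons (nat_lit 1) (nat_lit 0) (Step.U (nat_lit 2388) (Step.F (nat_lit 2532) (Step.L Step.done))) (Scr.cons (nat_lit 1) (nat_lit 0) (Step.U (nat_lit 4438) (Step.B (nat_lit 2533) (Step.L Step.done))) (Scr.cons (nat_lit 0) (nat_lit 1) (Step.F (nat_lit 2479) (Step.B (nat_lit 2534) (Step.L Step.done))) (Scr.cons (nat_lit 1) (nat_lit 1) (Step.D (nat_lit 3129) (Step.B (nat_lit 2535) (Step.L Step.done))) (Scr.cons (nat_lit 1) (nat_lit 1) (Step.D (nat_lit 1569) (Step.B (nat_lit 2536) (Step.L Step.done))) (Scr.cons (nat_lit 1) (nat_lit 1) (Step.U (nat_lit 1568) (Step.B (nat_lit 2537) (Step.L Step.done))) (Scr.cons (nat_lit 0) (nat_lit 1) (Step.U (nat_lit 3126) (Step.B (nat_lit 2538) (Step.L Step.done))) (Scr.cons (nat_lit 1) (nat_lit 1) (Step.B (nat_lit 2454) (Step.B (nat_lit 2539) (Step.L Step.done))) (Scr.cons (nat_lit 0) (nat_lit 1) (Step.U (nat_lit 3376) (Step.B (nat_lit 2540) (Step.L Step.done)))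 (Scr.cons (nat_lit 1) (nat_lit 0) (Step.F (nat_lit 2453) (Step.B (nat_lit 2541) (Step.L Step.done))) (Scr.cons (nat_lit 1) (nat_lit 0) (Step.D (nat_lit 5486) (Step.B (nat_lit 2542) (Step.D (nat_lit 3167) Step.done))) (Scr.cons (nat_lit 1) (nat_lit 0) (Step.D (nat_lit 3167) (Step.F (nat_lit 2543) Step.done)) (Scr.cons (nat_lit 11) (nat_lit 0) (Step.L (Step.L (Step.L (Step.L (Step.D (nat_lit 4174) Step.done))))) (Scr.cons (nat_lit 12) (nat_lit 1) (Step.L (Step.L (Step.L (Step.L (Step.D (nat_lit 4175) Step.done))))) (Scr.cons (nat_lit 12) (nat_lit 1) (Step.F (nat_lit 2545) (Step.D (nat_lit 4175) (Step.F (nat_lit 2546) (Step.B (nat_lit 2545) (Step.D (nat_lit 7051) Step.done))))) (Scr.cons (nat_lit 11) (nat_lit 0) (Step.U (nat_lit 1041) (Step.U (nat_lit 402) (Step.D (nat_lit 401) (Step.D (nat_lit 1039) (Step.D (nat_lit 2213) Step.done))))) (Scr.cons (nat_lit 12) (nat_lit 1) (Step.U (nat_lit 402) (Step.F (nat_lit 311) (Step.D (nat_lit 136) (Step.D (nat_lit 402) (Step.D (nat_lit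 1040) Step.done))))) (Scr.cons (nat_lit 12) (nat_lit 1) (Step.U (nat_lit 1041) (Step.D (nat_lit 1040) (Step.F (nat_lit 2549) (Step.D (nat_lit 1041) (Step.D (nat_lit 2214) Step.done))))) (Scr.cons (nat_lit 12) (nat_lit 1) (Step.F (nat_lit 2548) (Step.D (nat_lit 2214) (Step.F (nat_lit 2550) (Step.B (nat_lit 2548) (Step.D (nat_lit 4184) Step.done))))) (Scr.cons (nat_lit 14) (nat_lit 2) (Step.F (nat_lit 2547) (Step.F (nat_lit 2545) (Step.L (Step.L (Step.L (Step.L (Step.L (Step.L (Step.L (Step.L (Step.L (Step.L (Step.L (Step.D (nat_lit 38) (Step.D (nat_lit 136) (Step.D (nat_lit 401) (Step.D (nat_lit 1039) (Step.D (nat_lit 2213) (Step.B (nat_lit 2551) (Step.D (nat_lit 7059) Step.done)))))))))))))))))))) (Scr.cons (nat_lit 11) (nat_lit 0) (Step.U (nat_lit 2375) (Step.U (nat_lit 1139) (Step.D (nat_lit 1138) (Step.D (nat_lit 2374) (Step.D (nat_lit 4419) Step.done))))) (Scr.cons (nat_lit 12) (nat_lit 1) (Step.L (Step.L (Step.L (Step.L (Step.D (nat_lit 1106) Step.done))))) (Scr.cons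 (nat_lit 8) (nat_lit 1) (Step.U (nat_lit 1138) (Step.U (nat_lit 447) (Step.L (Step.L (Step.L (Step.L (Step.L (Step.L (Step.L (Step.L (Step.L (Step.L (Step.L (Step.B (nat_lit 2554) (Step.D (nat_lit 2325) Step.done))))))))))))))) (Scr.cons (nat_lit 12) (nat_lit 0) (Step.B (nat_lit 2555) (Step.U (nat_lit 2325) (Step.F (nat_lit 2554) (Step.D (nat_lit 1106) (Step.D (nat_lit 2325) Step.done))))) (Scr.cons (nat_lit 12) (nat_lit 4) (Step.U (nat_lit 2374) (Step.B (nat_lit 2555) (Step.F (nat_lit 2556) (Step.D (nat_lit 2374) (Step.D (nat_lit 4418) Step.done))))) (Scr.cons (nat_lit 12) (nat_lit 1) (Step.U (nat_lit 1107) (Step.D (nat_lit 1106) (Step.F (nat_lit 2554) (Step.D (nat_lit 1107) (Step.D (nat_lit 2326) Step.done))))) (Scr.cons (nat_lit 12) (nat_lit 4) (Step.U (nat_lit 4349) (Step.F (nat_lit 2558) (Step.D (nat_lit 2326) (Step.D (nat_lit 4349) (Step.D (nat_lit 7268) Step.done))))) (Scr.cons (nat_lit 13) (nat_lit 2) (Step.U (nat_lit 7336) (Step.U (nat_lit 4418) (Step.U (nat_lit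 2374) (Step.B (nat_lit 2555) (Step.U (nat_lit 2325) (Step.U (nat_lit 1106) (Step.D (nat_lit 1107) (Step.D (nat_lit 2326) (Step.D (nat_lit 4349) (Step.B (nat_lit 2559) (Step.D (nat_lit 10349) Step.done))))))))))) (Scr.cons (nat_lit 12) (nat_lit 4) (Step.U (nat_lit 3481) (Step.F (nat_lit 1157) (Step.D (nat_lit 1776) (Step.D (nat_lit 3481) (Step.D (nat_lit 6105) Step.done))))) (Scr.cons (nat_lit 15) (nat_lit 0) (Step.U (nat_lit 9265) (Step.F (nat_lit 2561) (Step.B (nat_lit 1135) (Step.F (nat_lit 1129) (Step.L (Step.L (Step.L (Step.L (Step.D (nat_lit 3547) (Step.F (nat_lit 551) (Step.F (nat_lit 550) (Step.D (nat_lit 2326) (Step.D (nat_lit 4349) (Step.D (nat_lit 7268) (Step.D (nat_lit 10348) Step.done))))))))))))))) Scr.nil))))))))))))))))))))))))))))))))))))))))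
noncomputable def s64 : Scr := (Scr.cons (nat_lit 12) (nat_lit 4) (Step.U (nat_lit 10348) (Step.F (nat_lit 2559) (Step.D (nat_lit 7268) (Step.D (nat_lit 10348) (Step.F (nat_lit 2562) Step.done))))) (Scr.cons (nat_lit 1) (nat_lit 1) (Step.D (nat_lit 6027) (Step.F (nat_lit 1781) Step.done)) (Scr.cons (nat_lit 4) (nat_lit 0) (Step.B (nat_lit 2271) (Step.L (Step.L (Step.L (Step.D (nat_lit 3231) Step.done))))) (Scr.cons (nat_lit 1) (nat_lit 1) (Step.F (nat_lit 2564) (Step.B (nat_lit 2283) (Step.B (nat_lit 2565) Step.done))) (Scr.cons (nat_lit 1) (nat_lit 1) (Step.D (nat_lit 3482) (Step.B (nat_lit 2566) (Step.U (nat_lit 3231) Step.done))) (Scr.cons (nat_lit 1) (nat_lit 1) (Step.U (nat_lit 3481) (Step.B (nat_lit 2567) (Step.L Step.done))) (Scr.cons (nat_lit 0) (nat_lit 1) (Step.U (nat_lit 6105) (Step.B (nat_lit 2568) (Step.L Step.done))) (Scr.cons (nat_lit 1) (nat_lit 0) (Step.U (nat_lit 9265) (Step.B (nat_lit 2569) (Step.L Step.done))) (Scr.cons (nat_lit 0) (nat_lit 1) (Step.B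 (nat_lit 2563) (Step.B (nat_lit 2570) (Step.L Step.done))) (Scr.cons (nat_lit 1) (nat_lit 0) (Step.D (nat_lit 10348) (Step.B (nat_lit 2571) (Step.L Step.done))) (Scr.cons (nat_lit 1) (nat_lit 0) (Step.U (nat_lit 10349) (Step.B (nat_lit 2572) (Step.L Step.done))) (Scr.cons (nat_lit 0) (nat_lit 1) (Step.B (nat_lit 2560) (Step.B (nat_lit 2573) (Step.L Step.done))) (Scr.cons (nat_lit 1) (nat_lit 1) (Step.D (nat_lit 7336) (Step.B (nat_lit 2574) (Step.D (nat_lit 38) Step.done))) (Scr.cons (nat_lit 0) (nat_lit 1) (Step.B (nat_lit 2557) (Step.B (nat_lit 2575) (Step.D (nat_lit 136) Step.done))) (Scr.cons (nat_lit 1) (nat_lit 1) (Step.U (nat_lit 4419) (Step.B (nat_lit 2576) (Step.D (nat_lit 401) Step.done))) (Scr.cons (nat_lit 1) (nat_lit 1) (Step.B (nat_lit 2553) (Step.B (nat_lit 2577) (Step.D (nat_lit 1039) Step.done))) (Scr.cons (nat_lit 1) (nat_lit 1) (Step.D (nat_lit 2375) (Step.B (nat_lit 2578) (Step.D (nat_lit 2213) Step.done))) (Scr.cons (nat_lit 6) (nat_lit 1) (Step.U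 (nat_lit 1139) (Step.F (nat_lit 39) (Step.L (Step.L (Step.L (Step.L (Step.L (Step.L (Step.L (Step.L (Step.D (nat_lit 2160) Step.done))))))))))) (Scr.cons (nat_lit 0) (nat_lit 1) (Step.U (nat_lit 4184) (Step.F (nat_lit 2579) (Step.B (nat_lit 2580) Step.done))) (Scr.cons (nat_lit 1) (nat_lit 1) (Step.U (nat_lit 7059) (Step.B (nat_lit 2581) (Step.U (nat_lit 2160) Step.done))) (Scr.cons (nat_lit 1) (nat_lit 1) (Step.B (nat_lit 2552) (Step.B (nat_lit 2582) (Step.L Step.done))) (Scr.cons (nat_lit 0) (nat_lit 1) (Step.B (nat_lit 2547) (Step.B (nat_lit 2583) (Step.L Step.done))) (Scr.cons (nat_lit 1) (nat_lit 1) (Step.B (nat_lit 2545) (Step.B (nat_lit 2584) (Step.D (nat_lit 6980) Step.done))) (Scr.cons (nat_lit 1) (nat_lit 1) (Step.D (nat_lit 6980) (Step.F (nat_lit 2585) Step.done)) (Scr.cons (nat_lit 11) (nat_lit 0) (Step.L (Step.L (Step.L (Step.L (Step.D (nat_lit 1223) Step.done))))) (Scr.cons (nat_lit 12) (nat_lit 4) (Step.U (nat_lit 486) (Step.L (Step.L (Step.D (nat_lit 486)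 (Step.D (nat_lit 1214) Step.done))))) (Scr.cons (nat_lit 12) (nat_lit 4) (Step.U (nat_lit 2518) (Step.F (nat_lit 2588) (Step.D (nat_lit 1214) (Step.D (nat_lit 2518) (Step.D (nat_lit 4650) Step.done))))) (Scr.cons (nat_lit 11) (nat_lit 0) (Step.U (nat_lit 1260) (Step.U (nat_lit 507) (Step.D (nat_lit 506) (Step.D (nat_lit 1258) (Step.D (nat_lit 2584) Step.done))))) (Scr.cons (nat_lit 14) (nat_lit 3) (Step.F (nat_lit 2590) (Step.U (nat_lit 1260) (Step.U (nat_lit 507) (Step.U (nat_lit 174) (Step.D (nat_lit 175) (Step.D (nat_lit 508) (Step.D (nat_lit 1261) (Step.D (nat_lit 2586) (Step.F (nat_lit 162) (Step.L (Step.L (Step.L (Step.L (Step.L (Step.L (Step.L (Step.D (nat_lit 486) (Step.B (nat_lit 2588) (Step.D (nat_lit 2518) (Step.D (nat_lit 4651) Step.done)))))))))))))))))))) (Scr.cons (nat_lit 16) (nat_lit 5) (Step.F (nat_lit 2589) (Step.D (nat_lit 4651) (Step.F (nat_lit 2591) (Step.F (nat_lit 2590) (Step.U (nat_lit 1260) (Step.U (nat_lit 507) (Step.F (nat_lit 155) (Step.D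 (nat_lit 175) (Step.F (nat_lit 157) (Step.F (nat_lit 156) (Step.L (Step.L (Step.L (Step.L (Step.L (Step.L (Step.L (Step.L (Step.L (Step.L (Step.D (nat_lit 720) (Step.D (nat_lit 1679) (Step.D (nat_lit 3338) Step.done))))))))))))))))))))))) (Scr.cons (nat_lit 12) (nat_lit 1) (Step.F (nat_lit 2587) (Step.L (Step.L (Step.B (nat_lit 2587) (Step.D (nat_lit 2529) Step.done))))) (Scr.cons (nat_lit 7) (nat_lit 4) (Step.U (nat_lit 4651) (Step.D (nat_lit 4650) (Step.B (nat_lit 2592) (Step.U (nat_lit 3338) (Step.U (nat_lit 1679) (Step.U (nat_lit 720) (Step.L (Step.L (Step.L (Step.L (Step.L (Step.L (Step.L (Step.L (Step.L (Step.L (Step.L (Step.L (Step.B (nat_lit 2587) (Step.B (nat_lit 2593) Step.done)))))))))))))))))))) (Scr.cons (nat_lit 7) (nat_lit 0) (Step.U (nat_lit 2530) (Step.L (Step.L (Step.L (Step.B (nat_lit 2587) (Step.D (nat_lit 2529) (Step.F (nat_lit 2594) (Step.U (nat_lit 4651) (Step.U (nat_lit 2518) (Step.U (nat_lit 1214) (Step.U (nat_lit 486) (Step.L (Step.L (Step.L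 (Step.L (Step.L (Step.L (Step.L (Step.L (Step.L Step.done)))))))))))))))))))) (Scr.cons (nat_lit 12) (nat_lit 1) (Step.B (nat_lit 2595) (Step.L (Step.L (Step.F (nat_lit 2595) (Step.D (nat_lit 4676) Step.done))))) (Scr.cons (nat_lit 14) (nat_lit 2) (Step.L (Step.L (Step.L (Step.L (Step.L (Step.L (Step.L (Step.L (Step.L (Step.L (Step.L (Step.L (Step.L (Step.L (Step.L (Step.L (Step.L (Step.L (Step.L (Step.D (nat_lit 7511) Step.done)))))))))))))))))))) (Scr.cons (nat_lit 4) (nat_lit 0) (Step.B (nat_lit 2597) (Step.U (nat_lit 7511) (Step.L (Step.L (Step.D (nat_lit 7513) Step.done))))) (Scr.cons (nat_lit 11) (nat_lit 0) (Step.L (Step.L (Step.L (Step.L (Step.D (nat_lit 4489) Step.done))))) (Scr.cons (nat_lit 12) (nat_lit 1) (Step.L (Step.L (Step.L (Step.L (Step.D (nat_lit 4490) Step.done))))) (Scr.cons (nat_lit 12) (nat_lit 1) (Step.F (nat_lit 2599) (Step.D (nat_lit 4490) (Step.F (nat_lit 2600) (Step.B (nat_lit 2599) (Step.D (nat_lit 7424) Step.done))))) (Scr.cons (nat_lit 11)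 (nat_lit 0) (Step.U (nat_lit 1164) (Step.U (nat_lit 458) (Step.D (nat_lit 457) (Step.D (nat_lit 1162) (Step.D (nat_lit 2418) Step.done))))) Scr.nil))))))))))))))))))))))))))))))))))))))))
noncomputable def s65 : Scr := (Scr.cons (nat_lit 12) (nat_lit 1) (Step.U (nat_lit 458) (Step.F (nat_lit 818) (Step.D (nat_lit 155) (Step.D (nat_lit 458) (Step.D (nat_lit 1163) Step.done))))) (Scr.cons (nat_lit 12) (nat_lit 1) (Step.U (nat_lit 1164) (Step.D (nat_lit 1163) (Step.F (nat_lit 2603) (Step.D (nat_lit 1164) (Step.D (nat_lit 2419) Step.done))))) (Scr.cons (nat_lit 12) (nat_lit 1) (Step.F (nat_lit 2602) (Step.D (nat_lit 2419) (Step.F (nat_lit 2604) (Step.B (nat_lit 2602) (Step.D (nat_lit 4502) Step.done))))) (Scr.cons (nat_lit 14) (nat_lit 2) (Step.F (nat_lit 2601) (Step.F (nat_lit 2599) (Step.L (Step.L (Step.L (Step.L (Step.L (Step.L (Step.L (Step.L (Step.L (Step.L (Step.L (Step.L (Step.D (nat_lit 155) (Step.D (nat_lit 457) (Step.D (nat_lit 1162) (Step.D (nat_lit 2418) (Step.B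 (nat_lit 2605) (Step.D (nat_lit 7438) Step.done)))))))))))))))))))) (Scr.cons (nat_lit 14) (nat_lit 0) (Step.U (nat_lit 7513) (Step.L (Step.L (Step.L (Step.L (Step.L (Step.L (Step.L (Step.L (Step.L (Step.L (Step.L (Step.D (nat_lit 434) (Step.B (nat_lit 30) (Step.D (nat_lit 1162) (Step.D (nat_lit 2418) (Step.D (nat_lit 4502) (Step.D (nat_lit 7438) (Step.F (nat_lit 2606) (Step.D (nat_lit 10481) Step.done)))))))))))))))))))) (Scr.cons (nat_lit 12) (nat_lit 3) (Step.B (nat_lit 2607) (Step.U (nat_lit 10481) (Step.F (nat_lit 2601) (Step.D (nat_lit 7424) (Step.D (nat_lit 10481) Step.done))))) (Scr.cons (nat_lit 13) (nat_lit 2) (Step.F (nat_lit 2596) (Step.B (nat_lit 2595) (Step.L (Step.L (Step.L (Step.B (nat_lit 2598) (Step.B (nat_lit 2608) (Step.U (nat_lit 10481) (Step.F (nat_lit 2601) (Step.F (nat_lit 2599) (Step.B (nat_lit 2600) (Step.D (nat_lit 7426) Step.done)))))))))))) (Scr.cons (nat_lit 1) (nat_lit 1) (Step.D (nat_lit 7426) (Step.F (nat_lit 2609) (Step.D (nat_lit 7638)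 Step.done))) (Scr.cons (nat_lit 1) (nat_lit 1) (Step.D (nat_lit 7638) (Step.F (nat_lit 2610) Step.done)) (Scr.cons (nat_lit 12) (nat_lit 1) (Step.L (Step.L (Step.L (Step.L (Step.D (nat_lit 4557) Step.done))))) (Scr.cons (nat_lit 11) (nat_lit 0) (Step.U (nat_lit 464) (Step.U (nat_lit 158) (Step.D (nat_lit 157) (Step.D (nat_lit 462) (Step.D (nat_lit 1174) Step.done))))) (Scr.cons (nat_lit 12) (nat_lit 1) (Step.L (Step.L (Step.L (Step.L (Step.D (nat_lit 43) Step.done))))) (Scr.cons (nat_lit 12) (nat_lit 1) (Step.U (nat_lit 158) (Step.F (nat_lit 2614) (Step.D (nat_lit 43) (Step.D (nat_lit 158) (Step.D (nat_lit 463) Step.done))))) (Scr.cons (nat_lit 12) (nat_lit 1) (Step.U (nat_lit 464) (Step.D (nat_lit 463) (Step.F (nat_lit 2615) (Step.D (nat_lit 464) (Step.D (nat_lit 1175) Step.done))))) (Scr.cons (nat_lit 12) (nat_lit 1) (Step.F (nat_lit 2613) (Step.D (nat_lit 1175) (Step.F (nat_lit 2616) (Step.B (nat_lit 2613) (Step.D (nat_lit 2441) Step.done))))) (Scr.cons (nat_lit 7)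 (nat_lit 5) (Step.F (nat_lit 2612) (Step.L (Step.L (Step.L (Step.L (Step.L (Step.L (Step.L (Step.L (Step.L (Step.L (Step.L (Step.L (Step.L (Step.D (nat_lit 43) (Step.D (nat_lit 158) (Step.D (nat_lit 464) (Step.B (nat_lit 2613) (Step.B (nat_lit 2617) (Step.D (nat_lit 4541) Step.done)))))))))))))))))))) (Scr.cons (nat_lit 11) (nat_lit 0) (Step.U (nat_lit 1158) (Step.U (nat_lit 456) (Step.D (nat_lit 455) (Step.D (nat_lit 1156) (Step.D (nat_lit 2406) Step.done))))) (Scr.cons (nat_lit 12) (nat_lit 1) (Step.U (nat_lit 456) (Step.F (nat_lit 14) (Step.D (nat_lit 154) (Step.D (nat_lit 456) (Step.D (nat_lit 1157) Step.done))))) (Scr.cons (nat_lit 12) (nat_lit 1) (Step.U (nat_lit 1158) (Step.D (nat_lit 1157) (Step.F (nat_lit 2620) (Step.D (nat_lit 1158) (Step.D (nat_lit 2407) Step.done))))) (Scr.cons (nat_lit 12) (nat_lit 1) (Step.F (nat_lit 2619) (Step.D (nat_lit 2407) (Step.F (nat_lit 2621) (Step.B (nat_lit 2619) (Step.D (nat_lit 4483) Step.done))))) (Scr.cons (nat_lit 11) (nat_lit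 0) (Step.U (nat_lit 2460) (Step.U (nat_lit 1182) (Step.D (nat_lit 1181) (Step.D (nat_lit 2458) (Step.D (nat_lit 4573) Step.done))))) (Scr.cons (nat_lit 16) (nat_lit 2) (Step.F (nat_lit 2623) (Step.U (nat_lit 2460) (Step.U (nat_lit 1182) (Step.L (Step.L (Step.L (Step.L (Step.L (Step.L (Step.L (Step.L (Step.L (Step.L (Step.L (Step.L (Step.L (Step.L (Step.D (nat_lit 154) (Step.D (nat_lit 455) (Step.D (nat_lit 1156) (Step.D (nat_lit 2406) (Step.D (nat_lit 4483) (Step.D (nat_lit 7417) Step.done))))))))))))))))))))))) (Scr.cons (nat_lit 12) (nat_lit 4) (Step.U (nat_lit 7417) (Step.F (nat_lit 2622) (Step.D (nat_lit 4483) (Step.D (nat_lit 7417) (Step.F (nat_lit 2624) Step.done))))) (Scr.cons (nat_lit 12) (nat_lit 1) (Step.U (nat_lit 1182) (Step.L (Step.L (Step.D (nat_lit 1182) (Step.D (nat_lit 2459) Step.done))))) (Scr.cons (nat_lit 12) (nat_lit 1) (Step.U (nat_lit 2460) (Step.D (nat_lit 2459) (Step.F (nat_lit 2626) (Step.D (nat_lit 2460) (Step.D (nat_lit 4574) Step.done)))))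 (Scr.cons (nat_lit 12) (nat_lit 4) (Step.U (nat_lit 1181) (Step.L (Step.L (Step.D (nat_lit 1181) (Step.D (nat_lit 2457) Step.done))))) (Scr.cons (nat_lit 13) (nat_lit 3) (Step.U (nat_lit 2457) (Step.U (nat_lit 1181) (Step.L (Step.L (Step.L (Step.L (Step.L (Step.L (Step.L (Step.L (Step.D (nat_lit 4564) Step.done))))))))))) (Scr.cons (nat_lit 16) (nat_lit 5) (Step.L (Step.L (Step.L (Step.L (Step.L (Step.L (Step.L (Step.L (Step.L (Step.L (Step.L (Step.L (Step.L (Step.L (Step.L (Step.L (Step.L (Step.L (Step.L (Step.L (Step.L (Step.D (nat_lit 2452) (Step.D (nat_lit 4563) Step.done))))))))))))))))))))))) (Scr.cons (nat_lit 4) (nat_lit 0) (Step.B (nat_lit 2630) (Step.U (nat_lit 4563) (Step.U (nat_lit 2452) (Step.L (Step.D (nat_lit 4565) Step.done))))) (Scr.cons (nat_lit 7) (nat_lit 1) (Step.B (nat_lit 2629) (Step.U (nat_lit 4564) (Step.D (nat_lit 4565) (Step.F (nat_lit 2631) (Step.L (Step.L (Step.L (Step.L (Step.L (Step.L (Step.L (Step.L (Step.L (Step.L (Step.L (Step.B (nat_lit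 818) (Step.D (nat_lit 458) (Step.D (nat_lit 1164) (Step.D (nat_lit 2419) (Step.D (nat_lit 4504) Step.done)))))))))))))))))))) (Scr.cons (nat_lit 11) (nat_lit 0) (Step.L (Step.L (Step.L (Step.D (nat_lit 1114) (Step.D (nat_lit 2336) Step.done))))) (Scr.cons (nat_lit 12) (nat_lit 1) (Step.F (nat_lit 2633) (Step.L (Step.L (Step.B (nat_lit 2633) (Step.D (nat_lit 4359) Step.done))))) (Scr.cons (nat_lit 14) (nat_lit 2) (Step.F (nat_lit 2627) (Step.U (nat_lit 2460) (Step.U (nat_lit 1182) (Step.D (nat_lit 1181) (Step.B (nat_lit 2628) (Step.B (nat_lit 2632) (Step.U (nat_lit 4504) (Step.F (nat_lit 2604) (Step.U (nat_lit 1164) (Step.U (nat_lit 458) (Step.D (nat_lit 457) (Step.B (nat_lit 819) (Step.F (nat_lit 29) (Step.L (Step.L (Step.L (Step.D (nat_lit 1114) (Step.D (nat_lit 2336) (Step.B (nat_lit 2634) (Step.D (nat_lit 7277) Step.done)))))))))))))))))))) (Scr.cons (nat_lit 14) (nat_lit 0) (Step.U (nat_lit 2386) (Step.U (nat_lit 1147) (Step.F (nat_lit 2381) (Step.L (Step.L (Step.L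 (Step.L (Step.L (Step.L (Step.L (Step.L (Step.L (Step.L (Step.L (Step.L (Step.L (Step.L (Step.L (Step.D (nat_lit 2337) (Step.D (nat_lit 4361) Step.done)))))))))))))))))))) (Scr.cons (nat_lit 1) (nat_lit 0) (Step.U (nat_lit 2386) (Step.B (nat_lit 2399) (Step.L Step.done))) (Scr.cons (nat_lit 0) (nat_lit 1) (Step.F (nat_lit 2636) (Step.B (nat_lit 2637) (Step.L Step.done))) (Scr.cons (nat_lit 1) (nat_lit 0) (Step.D (nat_lit 4361) (Step.B (nat_lit 2638) (Step.L Step.done))) (Scr.cons (nat_lit 1) (nat_lit 0) (Step.D (nat_lit 2337) (Step.B (nat_lit 2639) (Step.D (nat_lit 1250) Step.done))) (Scr.cons (nat_lit 0) (nat_lit 1) (Step.U (nat_lit 2573) (Step.F (nat_lit 2640) (Step.L Step.done))) (Scr.cons (nat_lit 1) (nat_lit 0) (Step.F (nat_lit 2466) (Step.B (nat_lit 2641) (Step.L Step.done))) Scr.nil))))))))))))))))))))))))))))))))))))))))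
noncomputable def s66 : Scr := (Scr.cons (nat_lit 1) (nat_lit 0) (Step.D (nat_lit 3228) (Step.B (nat_lit 2642) (Step.B (nat_lit 2633) Step.done))) (Scr.cons (nat_lit 0) (nat_lit 1) (Step.U (nat_lit 4359) (Step.F (nat_lit 2643) (Step.L Step.done))) (Scr.cons (nat_lit 1) (nat_lit 1) (Step.U (nat_lit 7277) (Step.B (nat_lit 2644) (Step.L Step.done))) (Scr.cons (nat_lit 1) (nat_lit 1) (Step.B (nat_lit 2635) (Step.B (nat_lit 2645) (Step.L Step.done))) (Scr.cons (nat_lit 0) (nat_lit 1) (Step.B (nat_lit 2627) (Step.B (nat_lit 2646) (Step.L Step.done))) (Scr.cons (nat_lit 1) (nat_lit 0) (Step.F (nat_lit 2623) (Step.B (nat_lit 2647) (Step.L Step.done))) (Scr.cons (nat_lit 0) (nat_lit 1) (Step.B (nat_lit 2625) (Step.B (nat_lit 2648) (Step.L Step.done))) (Scr.cons (nat_lit 1) (nat_lit 0) (Step.D (nat_lit 7417) (Step.B (nat_lit 2649) (Step.L Step.done))) (Scr.cons (nat_lit 0) (nat_lit 1) (Step.B (nat_lit 2622) (Step.B (nat_lit 2650) (Step.L Step.done))) (Scr.cons (nat_lit 1) (nat_lit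 1) (Step.B (nat_lit 2619) (Step.B (nat_lit 2651) (Step.L Step.done))) (Scr.cons (nat_lit 1) (nat_lit 1) (Step.D (nat_lit 1158) (Step.B (nat_lit 2652) (Step.L Step.done))) (Scr.cons (nat_lit 1) (nat_lit 1) (Step.D (nat_lit 456) (Step.B (nat_lit 2653) (Step.L Step.done))) (Scr.cons (nat_lit 0) (nat_lit 1) (Step.B (nat_lit 14) (Step.B (nat_lit 2654) (Step.D (nat_lit 43) Step.done))) (Scr.cons (nat_lit 1) (nat_lit 1) (Step.U (nat_lit 157) (Step.F (nat_lit 2655) (Step.L Step.done))) (Scr.cons (nat_lit 1) (nat_lit 1) (Step.U (nat_lit 462) (Step.B (nat_lit 2656) (Step.L Step.done))) (Scr.cons (nat_lit 1) (nat_lit 1) (Step.U (nat_lit 1174) (Step.B (nat_lit 2657) (Step.L Step.done))) (Scr.cons (nat_lit 0) (nat_lit 1) (Step.U (nat_lit 2441) (Step.B (nat_lit 2658) (Step.L Step.done))) (Scr.cons (nat_lit 1) (nat_lit 0) (Step.U (nat_lit 4541) (Step.B (nat_lit 2659) (Step.L Step.done))) (Scr.cons (nat_lit 1) (nat_lit 0) (Step.B (nat_lit 2618) (Step.B (nat_lit 2660) (Step.L Step.done)))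 (Scr.cons (nat_lit 0) (nat_lit 1) (Step.B (nat_lit 2612) (Step.B (nat_lit 2661) (Step.D (nat_lit 4490) Step.done))) (Scr.cons (nat_lit 1) (nat_lit 0) (Step.B (nat_lit 2611) (Step.F (nat_lit 2662) (Step.L Step.done))) (Scr.cons (nat_lit 0) (nat_lit 1) (Step.B (nat_lit 2596) (Step.B (nat_lit 2663) (Step.L Step.done))) (Scr.cons (nat_lit 1) (nat_lit 1) (Step.F (nat_lit 2595) (Step.B (nat_lit 2664) (Step.D (nat_lit 4556) Step.done))) (Scr.cons (nat_lit 1) (nat_lit 1) (Step.D (nat_lit 4556) (Step.F (nat_lit 2665) Step.done)) (Scr.cons (nat_lit 12) (nat_lit 1) (Step.U (nat_lit 4966) (Step.L (Step.L (Step.D (nat_lit 4966) (Step.D (nat_lit 7977) Step.done))))) (Scr.cons (nat_lit 12) (nat_lit 1) (Step.L (Step.L (Step.L (Step.L (Step.D (nat_lit 1339) Step.done))))) (Scr.cons (nat_lit 12) (nat_lit 1) (Step.U (nat_lit 2728) (Step.F (nat_lit 2668) (Step.D (nat_lit 1339) (Step.D (nat_lit 2728) (Step.D (nat_lit 4968) Step.done))))) (Scr.cons (nat_lit 16) (nat_lit 5) (Step.F (nat_lit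 2669) (Step.U (nat_lit 2728) (Step.F (nat_lit 2668) (Step.L (Step.L (Step.L (Step.L (Step.L (Step.L (Step.L (Step.L (Step.L (Step.L (Step.L (Step.L (Step.L (Step.L (Step.L (Step.L (Step.D (nat_lit 1309) (Step.D (nat_lit 2681) (Step.D (nat_lit 4899) (Step.D (nat_lit 7899) Step.done))))))))))))))))))))))) (Scr.cons (nat_lit 4) (nat_lit 0) (Step.B (nat_lit 2670) (Step.U (nat_lit 7899) (Step.U (nat_lit 4899) (Step.D (nat_lit 4900) (Step.D (nat_lit 7900) Step.done))))) (Scr.cons (nat_lit 6) (nat_lit 0) (Step.U (nat_lit 7977) (Step.U (nat_lit 4966) (Step.L (Step.L (Step.L (Step.L (Step.D (nat_lit 1339) (Step.D (nat_lit 2728) (Step.B (nat_lit 2669) (Step.B (nat_lit 2671) (Step.D (nat_lit 10893) Step.done))))))))))) (Scr.cons (nat_lit 11) (nat_lit 0) (Step.U (nat_lit 2552) (Step.U (nat_lit 1239) (Step.L (Step.D (nat_lit 2550) (Step.D (nat_lit 4696) Step.done))))) (Scr.cons (nat_lit 12) (nat_lit 1) (Step.U (nat_lit 1239) (Step.L (Step.L (Step.D (nat_lit 1239) (Step.D (nat_lit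 2551) Step.done))))) (Scr.cons (nat_lit 12) (nat_lit 1) (Step.U (nat_lit 2552) (Step.D (nat_lit 2551) (Step.F (nat_lit 2674) (Step.D (nat_lit 2552) (Step.D (nat_lit 4698) Step.done))))) (Scr.cons (nat_lit 12) (nat_lit 1) (Step.F (nat_lit 2673) (Step.D (nat_lit 4698) (Step.F (nat_lit 2675) (Step.B (nat_lit 2673) (Step.D (nat_lit 7664) Step.done))))) (Scr.cons (nat_lit 11) (nat_lit 0) (Step.U (nat_lit 4715) (Step.L (Step.D (nat_lit 2560) (Step.D (nat_lit 4713) (Step.D (nat_lit 7688) Step.done))))) (Scr.cons (nat_lit 12) (nat_lit 1) (Step.L (Step.L (Step.L (Step.L (Step.D (nat_lit 4714) Step.done))))) (Scr.cons (nat_lit 12) (nat_lit 1) (Step.U (nat_lit 4715) (Step.D (nat_lit 4714) (Step.F (nat_lit 2678) (Step.D (nat_lit 4715) (Step.D (nat_lit 7690) Step.done))))) (Scr.cons (nat_lit 12) (nat_lit 1) (Step.F (nat_lit 2677) (Step.D (nat_lit 7690) (Step.F (nat_lit 2679) (Step.B (nat_lit 2677) (Step.D (nat_lit 10713) Step.done))))) (Scr.cons (nat_lit 7) (nat_lit 5) (Step.F (nat_lit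 2680) (Step.U (nat_lit 7688) (Step.U (nat_lit 4713) (Step.U (nat_lit 2560) (Step.L (Step.L (Step.L (Step.L (Step.L (Step.L (Step.L (Step.L (Step.L (Step.L (Step.L (Step.D (nat_lit 1239) (Step.D (nat_lit 2552) (Step.B (nat_lit 2673) (Step.B (nat_lit 2676) (Step.D (nat_lit 10693) Step.done)))))))))))))))))))) (Scr.cons (nat_lit 7) (nat_lit 6) (Step.U (nat_lit 5722) (Step.L (Step.L (Step.L (Step.L (Step.L (Step.L (Step.L (Step.L (Step.L (Step.L (Step.L (Step.L (Step.L (Step.L (Step.L (Step.L (Step.L (Step.L (Step.D (nat_lit 8471) Step.done)))))))))))))))))))) Scr.nil))))))))))))))))))))))))))))))))))))))))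
noncomputable def s67 : Scr := (Scr.cons (nat_lit 11) (nat_lit 0) (Step.U (nat_lit 3227) (Step.L (Step.L (Step.L (Step.D (nat_lit 5722) Step.done))))) (Scr.cons (nat_lit 7) (nat_lit 1) (Step.U (nat_lit 2992) (Step.U (nat_lit 1478) (Step.U (nat_lit 618) (Step.L (Step.L (Step.L (Step.L (Step.L (Step.L (Step.L (Step.L (Step.L (Step.L (Step.L (Step.L (Step.B (nat_lit 2458) (Step.B (nat_lit 2459) (Step.D (nat_lit 1135) (Step.D (nat_lit 2369) (Step.D (nat_lit 4404) Step.done)))))))))))))))))))) (Scr.cons (nat_lit 11) (nat_lit 0) (Step.U (nat_lit 2993) (Step.D (nat_lit 2992) (Step.B (nat_lit 2684) (Step.U (nat_lit 4404) (Step.D (nat_lit 4403) Step.done))))) (Scr.cons (nat_lit 11) (nat_lit 0) (Step.U (nat_lit 698) (Step.L (Step.L (Step.D (nat_lit 618) (Step.D (nat_lit 1479) Step.done))))) (Scr.cons (nat_lit 7) (nat_lit 2) (Step.U (nat_lit 5723) (Step.U (nat_lit 3228) (Step.L (Step.L (Step.L (Step.L (Step.L (Step.L (Step.L (Step.L (Step.L (Step.L (Step.L (Step.L (Step.L (Step.L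 (Step.D (nat_lit 698) (Step.D (nat_lit 1639) (Step.D (nat_lit 3264) (Step.D (nat_lit 5788) Step.done)))))))))))))))))))) (Scr.cons (nat_lit 11) (nat_lit 0) (Step.B (nat_lit 2687) (Step.U (nat_lit 5788) (Step.U (nat_lit 3264) (Step.D (nat_lit 3263) (Step.D (nat_lit 5786) Step.done))))) (Scr.cons (nat_lit 14) (nat_lit 5) (Step.U (nat_lit 8673) (Step.U (nat_lit 5578) (Step.F (nat_lit 2460) (Step.U (nat_lit 2370) (Step.D (nat_lit 2369) (Step.D (nat_lit 4403) (Step.F (nat_lit 2685) (Step.U (nat_lit 2993) (Step.U (nat_lit 1478) (Step.D (nat_lit 1479) (Step.F (nat_lit 2686) (Step.D (nat_lit 1639) (Step.D (nat_lit 3263) (Step.D (nat_lit 5786) (Step.F (nat_lit 2688) (Step.U (nat_lit 5723) (Step.F (nat_lit 2466) (Step.B (nat_lit 2467) (Step.D (nat_lit 6000) (Step.D (nat_lit 9159) Step.done)))))))))))))))))))) (Scr.cons (nat_lit 12) (nat_lit 1) (Step.F (nat_lit 2460) (Step.D (nat_lit 4405) (Step.F (nat_lit 2463) (Step.B (nat_lit 2460) (Step.D (nat_lit 5578) Step.done))))) (Scr.cons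 (nat_lit 14) (nat_lit 0) (Step.F (nat_lit 2689) (Step.U (nat_lit 8673) (Step.F (nat_lit 2690) (Step.F (nat_lit 2460) (Step.U (nat_lit 2370) (Step.U (nat_lit 1135) (Step.U (nat_lit 445) (Step.L (Step.L (Step.L (Step.L (Step.L (Step.L (Step.L (Step.D (nat_lit 152) (Step.D (nat_lit 442) (Step.D (nat_lit 1128) (Step.D (nat_lit 2362) (Step.D (nat_lit 4397) (Step.D (nat_lit 7313) Step.done)))))))))))))))))))) (Scr.cons (nat_lit 11) (nat_lit 0) (Step.U (nat_lit 4398) (Step.U (nat_lit 2363) (Step.D (nat_lit 2362) (Step.D (nat_lit 4397) (Step.D (nat_lit 7313) Step.done))))) (Scr.cons (nat_lit 12) (nat_lit 4) (Step.U (nat_lit 442) (Step.D (nat_lit 441) (Step.F (nat_lit 674) (Step.D (nat_lit 442) (Step.D (nat_lit 1128) Step.done))))) (Scr.cons (nat_lit 11) (nat_lit 0) (Step.U (nat_lit 1145) (Step.U (nat_lit 449) (Step.D (nat_lit 448) (Step.D (nat_lit 1143) (Step.D (nat_lit 2382) Step.done))))) (Scr.cons (nat_lit 12) (nat_lit 1) (Step.L (Step.L (Step.L (Step.L (Step.D (nat_lit 153)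 Step.done))))) (Scr.cons (nat_lit 12) (nat_lit 1) (Step.U (nat_lit 449) (Step.F (nat_lit 2695) (Step.D (nat_lit 153) (Step.D (nat_lit 449) (Step.D (nat_lit 1144) Step.done))))) (Scr.cons (nat_lit 12) (nat_lit 1) (Step.U (nat_lit 1145) (Step.D (nat_lit 1144) (Step.F (nat_lit 2696) (Step.D (nat_lit 1145) (Step.D (nat_lit 2384) Step.done))))) (Scr.cons (nat_lit 12) (nat_lit 1) (Step.F (nat_lit 2694) (Step.D (nat_lit 2384) (Step.F (nat_lit 2697) (Step.B (nat_lit 2694) (Step.D (nat_lit 4433) Step.done))))) (Scr.cons (nat_lit 11) (nat_lit 0) (Step.U (nat_lit 444) (Step.L (Step.D (nat_lit 152) (Step.D (nat_lit 442) (Step.D (nat_lit 1129) Step.done))))) (Scr.cons (nat_lit 12) (nat_lit 1) (Step.U (nat_lit 444) (Step.D (nat_lit 443) (Step.F (nat_lit 835) (Step.D (nat_lit 444) (Step.D (nat_lit 1132) Step.done))))) (Scr.cons (nat_lit 12) (nat_lit 1) (Step.F (nat_lit 2699) (Step.D (nat_lit 1132) (Step.F (nat_lit 2700) (Step.B (nat_lit 2699) (Step.D (nat_lit 2364) Step.done))))) (Scr.cons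 (nat_lit 14) (nat_lit 2) (Step.F (nat_lit 2698) (Step.F (nat_lit 2694) (Step.U (nat_lit 1145) (Step.U (nat_lit 449) (Step.U (nat_lit 153) (Step.L (Step.L (Step.L (Step.L (Step.L (Step.L (Step.L (Step.L (Step.L (Step.L (Step.D (nat_lit 152) (Step.D (nat_lit 442) (Step.D (nat_lit 1129) (Step.B (nat_lit 2701) (Step.D (nat_lit 4399) Step.done)))))))))))))))))))) (Scr.cons (nat_lit 16) (nat_lit 1) (Step.F (nat_lit 2682) (Step.F (nat_lit 2683) (Step.U (nat_lit 3227) (Step.L (Step.L (Step.L (Step.L (Step.D (nat_lit 3228) (Step.F (nat_lit 2466) (Step.B (nat_lit 2467) (Step.D (nat_lit 6000) (Step.D (nat_lit 9159) (Step.B (nat_lit 2691) (Step.F (nat_lit 2692) (Step.U (nat_lit 4398) (Step.U (nat_lit 2363) (Step.F (nat_lit 2693) (Step.D (nat_lit 1129) (Step.D (nat_lit 2364) (Step.D (nat_lit 4399) (Step.F (nat_lit 2702) (Step.D (nat_lit 7357) (Step.D (nat_lit 10422) Step.done))))))))))))))))))))))) (Scr.cons (nat_lit 12) (nat_lit 4) (Step.U (nat_lit 2383) (Step.F (nat_lit 2696) (Step.D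 (nat_lit 1144) (Step.D (nat_lit 2383) (Step.D (nat_lit 4434) Step.done))))) (Scr.cons (nat_lit 12) (nat_lit 4) (Step.L (Step.L (Step.L (Step.L (Step.D (nat_lit 2379) Step.done))))) (Scr.cons (nat_lit 13) (nat_lit 3) (Step.U (nat_lit 4434) (Step.U (nat_lit 2383) (Step.F (nat_lit 2696) (Step.U (nat_lit 449) (Step.U (nat_lit 153) (Step.L (Step.L (Step.L (Step.B (nat_lit 2705) (Step.D (nat_lit 4431) (Step.D (nat_lit 7354) Step.done))))))))))) (Scr.cons (nat_lit 12) (nat_lit 4) (Step.U (nat_lit 546) (Step.F (nat_lit 18) (Step.D (nat_lit 193) (Step.D (nat_lit 546) (Step.D (nat_lit 1337) Step.done))))) (Scr.cons (nat_lit 12) (nat_lit 4) (Step.U (nat_lit 1338) (Step.D (nat_lit 1337) (Step.F (nat_lit 2707) (Step.D (nat_lit 1338) (Step.D (nat_lit 2726) Step.done))))) (Scr.cons (nat_lit 12) (nat_lit 1) (Step.U (nat_lit 4965) (Step.F (nat_lit 2708) (Step.D (nat_lit 2726) (Step.D (nat_lit 4965) (Step.D (nat_lit 7975) Step.done))))) (Scr.cons (nat_lit 13) (nat_lit 3) (Step.U (nat_lit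 193) (Step.L (Step.L (Step.L (Step.L (Step.L (Step.L (Step.L (Step.L (Step.L (Step.D (nat_lit 532) Step.done))))))))))) (Scr.cons (nat_lit 4) (nat_lit 0) (Step.U (nat_lit 1338) (Step.U (nat_lit 546) (Step.B (nat_lit 2710) (Step.D (nat_lit 1315) (Step.D (nat_lit 2700) Step.done))))) (Scr.cons (nat_lit 12) (nat_lit 1) (Step.L (Step.L (Step.L (Step.L (Step.D (nat_lit 532) Step.done))))) (Scr.cons (nat_lit 16) (nat_lit 5) (Step.F (nat_lit 2709) (Step.U (nat_lit 4965) (Step.F (nat_lit 2708) (Step.B (nat_lit 2711) (Step.U (nat_lit 2700) (Step.U (nat_lit 1315) (Step.F (nat_lit 2712) (Step.L (Step.L (Step.L (Step.L (Step.L (Step.L (Step.L (Step.L (Step.L (Step.L (Step.L (Step.L (Step.L (Step.D (nat_lit 2379) (Step.D (nat_lit 4430) (Step.D (nat_lit 7353) Step.done))))))))))))))))))))))) (Scr.cons (nat_lit 11) (nat_lit 0) (Step.U (nat_lit 7355) (Step.U (nat_lit 4431) (Step.D (nat_lit 4430) (Step.D (nat_lit 7353) (Step.F (nat_lit 2713) Step.done))))) (Scr.cons (nat_lit 12) (nat_lit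 1) (Step.L (Step.L (Step.L (Step.L (Step.D (nat_lit 44) Step.done))))) (Scr.cons (nat_lit 12) (nat_lit 1) (Step.U (nat_lit 161) (Step.F (nat_lit 2715) (Step.D (nat_lit 44) (Step.D (nat_lit 161) (Step.D (nat_lit 474) Step.done))))) (Scr.cons (nat_lit 12) (nat_lit 4) (Step.U (nat_lit 1193) (Step.F (nat_lit 2716) (Step.D (nat_lit 474) (Step.D (nat_lit 1193) (Step.D (nat_lit 2479) Step.done))))) (Scr.cons (nat_lit 12) (nat_lit 4) (Step.U (nat_lit 2480) (Step.D (nat_lit 2479) (Step.F (nat_lit 2717) (Step.D (nat_lit 2480) (Step.D (nat_lit 4595) Step.done))))) (Scr.cons (nat_lit 11) (nat_lit 0) (Step.U (nat_lit 2481) (Step.U (nat_lit 1194) (Step.D (nat_lit 1193) (Step.D (nat_lit 2480) (Step.D (nat_lit 4596) Step.done))))) (Scr.cons (nat_lit 8) (nat_lit 1) (Step.U (nat_lit 478) (Step.U (nat_lit 163) (Step.L (Step.L (Step.L (Step.L (Step.L (Step.L (Step.L (Step.L (Step.L (Step.B (nat_lit 2715) (Step.D (nat_lit 161) (Step.B (nat_lit 2716) (Step.D (nat_lit 1194) Step.done)))))))))))))))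 (Scr.cons (nat_lit 11) (nat_lit 0) (Step.L (Step.L (Step.L (Step.L (Step.D (nat_lit 2587) Step.done))))) (Scr.cons (nat_lit 12) (nat_lit 1) (Step.F (nat_lit 2721) (Step.L (Step.L (Step.B (nat_lit 2721) (Step.D (nat_lit 4754) Step.done))))) Scr.nil))))))))))))))))))))))))))))))))))))))))
noncomputable def s68 : Scr := (Scr.cons (nat_lit 16) (nat_lit 1) (Step.F (nat_lit 2722) (Step.F (nat_lit 2721) (Step.L (Step.L (Step.L (Step.L (Step.L (Step.L (Step.L (Step.L (Step.L (Step.L (Step.L (Step.L (Step.L (Step.L (Step.L (Step.L (Step.L (Step.L (Step.L (Step.L (Step.D (nat_lit 2698) Step.done))))))))))))))))))))))) (Scr.cons (nat_lit 11) (nat_lit 0) (Step.U (nat_lit 1200) (Step.U (nat_lit 479) (Step.D (nat_lit 478) (Step.D (nat_lit 1198) (Step.D (nat_lit 2485) Step.done))))) (Scr.cons (nat_lit 12) (nat_lit 4) (Step.L (Step.L (Step.L (Step.L (Step.D (nat_lit 163) Step.done))))) (Scr.cons (nat_lit 12) (nat_lit 1) (Step.U (nat_lit 479) (Step.F (nat_lit 2725) (Step.D (nat_lit 163)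 (Step.D (nat_lit 479) (Step.D (nat_lit 1199) Step.done))))) (Scr.cons (nat_lit 12) (nat_lit 1) (Step.U (nat_lit 1200) (Step.D (nat_lit 1199) (Step.F (nat_lit 2726) (Step.D (nat_lit 1200) (Step.D (nat_lit 2487) Step.done))))) (Scr.cons (nat_lit 12) (nat_lit 1) (Step.F (nat_lit 2724) (Step.D (nat_lit 2487) (Step.F (nat_lit 2727) (Step.B (nat_lit 2724) (Step.D (nat_lit 4599) Step.done))))) (Scr.cons (nat_lit 7) (nat_lit 5) (Step.F (nat_lit 2722) (Step.U (nat_lit 2587) (Step.L (Step.L (Step.L (Step.L (Step.B (nat_lit 159) (Step.D (nat_lit 1261) (Step.B (nat_lit 161) (Step.L (Step.L (Step.L (Step.L (Step.L (Step.D (nat_lit 163) (Step.D (nat_lit 479) (Step.D (nat_lit 1200) (Step.B (nat_lit 2724) (Step.B (nat_lit 2728) (Step.D (nat_lit 7560) Step.done)))))))))))))))))))) (Scr.cons (nat_lit 11) (nat_lit 0) (Step.U (nat_lit 4934) (Step.F (nat_lit 2723) (Step.B (nat_lit 2729) (Step.U (nat_lit 7560) (Step.D (nat_lit 7559) Step.done))))) (Scr.cons (nat_lit 14) (nat_lit 2) (Step.U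 (nat_lit 7555) (Step.F (nat_lit 2718) (Step.D (nat_lit 4596) (Step.F (nat_lit 2719) (Step.U (nat_lit 2481) (Step.F (nat_lit 2720) (Step.D (nat_lit 1198) (Step.D (nat_lit 2485) (Step.D (nat_lit 4599) (Step.D (nat_lit 7559) (Step.F (nat_lit 2730) (Step.U (nat_lit 4934) (Step.U (nat_lit 2698) (Step.L (Step.L (Step.D (nat_lit 532) (Step.F (nat_lit 2710) (Step.D (nat_lit 546) (Step.D (nat_lit 1338) (Step.B (nat_lit 2708) (Step.D (nat_lit 4964) Step.done))))))))))))))))))))) (Scr.cons (nat_lit 1) (nat_lit 0) (Step.D (nat_lit 7555) (Step.B (nat_lit 2731) Step.done)) (Scr.cons (nat_lit 4) (nat_lit 0) (Step.U (nat_lit 7554) (Step.B (nat_lit 2732) (Step.U (nat_lit 4964) (Step.D (nat_lit 4965) (Step.D (nat_lit 7976) Step.done))))) (Scr.cons (nat_lit 11) (nat_lit 0) (Step.U (nat_lit 475) (Step.U (nat_lit 161) (Step.D (nat_lit 160) (Step.D (nat_lit 473) (Step.D (nat_lit 1192) Step.done))))) (Scr.cons (nat_lit 12) (nat_lit 4) (Step.U (nat_lit 160) (Step.F (nat_lit 2715) (Step.D (nat_lit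 44) (Step.D (nat_lit 160) (Step.D (nat_lit 472) Step.done))))) (Scr.cons (nat_lit 12) (nat_lit 4) (Step.U (nat_lit 473) (Step.D (nat_lit 472) (Step.F (nat_lit 2735) (Step.D (nat_lit 473) (Step.D (nat_lit 1191) Step.done))))) (Scr.cons (nat_lit 7) (nat_lit 0) (Step.U (nat_lit 7358) (Step.B (nat_lit 2706) (Step.U (nat_lit 7354) (Step.D (nat_lit 7355) (Step.B (nat_lit 2714) (Step.F (nat_lit 2709) (Step.D (nat_lit 7976) (Step.F (nat_lit 2733) (Step.U (nat_lit 7554) (Step.U (nat_lit 4595) (Step.U (nat_lit 2480) (Step.U (nat_lit 1193) (Step.F (nat_lit 2716) (Step.D (nat_lit 475) (Step.B (nat_lit 2734) (Step.U (nat_lit 1192) (Step.B (nat_lit 2736) (Step.D (nat_lit 2478) (Step.D (nat_lit 4594) (Step.D (nat_lit 7553) Step.done)))))))))))))))))))) (Scr.cons (nat_lit 12) (nat_lit 4) (Step.L (Step.L (Step.L (Step.L (Step.D (nat_lit 45) Step.done))))) (Scr.cons (nat_lit 13) (nat_lit 3) (Step.U (nat_lit 472) (Step.U (nat_lit 160) (Step.F (nat_lit 2715) (Step.L (Step.L (Step.L (Step.L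 (Step.L (Step.B (nat_lit 2738) (Step.D (nat_lit 166) (Step.D (nat_lit 484) Step.done))))))))))) (Scr.cons (nat_lit 12) (nat_lit 4) (Step.U (nat_lit 165) (Step.F (nat_lit 2738) (Step.D (nat_lit 45) (Step.D (nat_lit 165) (Step.D (nat_lit 483) Step.done))))) (Scr.cons (nat_lit 12) (nat_lit 1) (Step.U (nat_lit 1212) (Step.F (nat_lit 2740) (Step.D (nat_lit 483) (Step.D (nat_lit 1212) (Step.D (nat_lit 2513) Step.done))))) (Scr.cons (nat_lit 12) (nat_lit 1) (Step.U (nat_lit 2514) (Step.D (nat_lit 2513) (Step.F (nat_lit 2741) (Step.D (nat_lit 2514) (Step.D (nat_lit 4646) Step.done))))) (Scr.cons (nat_lit 11) (nat_lit 0) (Step.U (nat_lit 1207) (Step.U (nat_lit 481) (Step.D (nat_lit 480) (Step.D (nat_lit 1205) (Step.D (nat_lit 2494) Step.done))))) (Scr.cons (nat_lit 12) (nat_lit 1) (Step.U (nat_lit 1207) (Step.D (nat_lit 1206) (Step.F (nat_lit 1920) (Step.D (nat_lit 1207) (Step.D (nat_lit 2496) Step.done))))) (Scr.cons (nat_lit 12) (nat_lit 1) (Step.F (nat_lit 2743) (Step.D (nat_lit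 2496) (Step.F (nat_lit 2744) (Step.B (nat_lit 2743) (Step.D (nat_lit 4614) Step.done))))) (Scr.cons (nat_lit 11) (nat_lit 0) (Step.L (Step.L (Step.L (Step.L (Step.D (nat_lit 2257) Step.done))))) (Scr.cons (nat_lit 12) (nat_lit 1) (Step.L (Step.L (Step.L (Step.L (Step.D (nat_lit 2240) Step.done))))) (Scr.cons (nat_lit 9) (nat_lit 5) (Step.U (nat_lit 2257) (Step.L (Step.L (Step.L (Step.L (Step.L (Step.L (Step.L (Step.L (Step.L (Step.L (Step.L (Step.L (Step.L (Step.L (Step.L (Step.L (Step.L (Step.L (Step.L (Step.L (Step.B (nat_lit 2747) (Step.D (nat_lit 4219) Step.done))))))))))))))))))))))) (Scr.cons (nat_lit 12) (nat_lit 0) (Step.B (nat_lit 2748) (Step.U (nat_lit 4219) (Step.F (nat_lit 2747) (Step.D (nat_lit 2240) (Step.D (nat_lit 4219) Step.done))))) (Scr.cons (nat_lit 7) (nat_lit 5) (Step.F (nat_lit 2745) (Step.U (nat_lit 2494) (Step.U (nat_lit 1205) (Step.U (nat_lit 480) (Step.U (nat_lit 164) (Step.L (Step.L (Step.L (Step.L (Step.D (nat_lit 881) (Step.F (nat_lit 152)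 (Step.U (nat_lit 1068) (Step.U (nat_lit 415) (Step.L (Step.L (Step.L (Step.L (Step.B (nat_lit 2746) (Step.B (nat_lit 2749) (Step.D (nat_lit 7098) Step.done)))))))))))))))))))) (Scr.cons (nat_lit 11) (nat_lit 0) (Step.B (nat_lit 2750) (Step.U (nat_lit 7098) (Step.U (nat_lit 4219) (Step.D (nat_lit 4218) (Step.D (nat_lit 7097) Step.done))))) (Scr.cons (nat_lit 11) (nat_lit 0) (Step.U (nat_lit 2514) (Step.U (nat_lit 1212) (Step.F (nat_lit 1926) (Step.D (nat_lit 2495) (Step.D (nat_lit 4616) Step.done))))) (Scr.cons (nat_lit 14) (nat_lit 1) (Step.U (nat_lit 7084) (Step.U (nat_lit 4202) (Step.F (nat_lit 2159) (Step.U (nat_lit 1048) (Step.U (nat_lit 407) (Step.D (nat_lit 406) (Step.F (nat_lit 26) (Step.L (Step.L (Step.D (nat_lit 2240) (Step.D (nat_lit 4218) (Step.D (nat_lit 7097) (Step.F (nat_lit 2751) (Step.U (nat_lit 4614) (Step.F (nat_lit 2743) (Step.U (nat_lit 1207) (Step.D (nat_lit 1206) (Step.D (nat_lit 2495) (Step.D (nat_lit 4616) (Step.F (nat_lit 2752) (Step.B (nat_lit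 2742) Step.done))))))))))))))))))))) (Scr.cons (nat_lit 1) (nat_lit 0) (Step.D (nat_lit 7084) (Step.B (nat_lit 2753) Step.done)) (Scr.cons (nat_lit 4) (nat_lit 0) (Step.U (nat_lit 7083) (Step.U (nat_lit 4201) (Step.D (nat_lit 4202) (Step.B (nat_lit 2754) (Step.D (nat_lit 7608) Step.done))))) (Scr.cons (nat_lit 1) (nat_lit 1) (Step.U (nat_lit 7083) (Step.B (nat_lit 2192) (Step.D (nat_lit 2067) Step.done))) (Scr.cons (nat_lit 1) (nat_lit 1) (Step.F (nat_lit 2755) (Step.B (nat_lit 2756) (Step.D (nat_lit 3968) Step.done))) (Scr.cons (nat_lit 1) (nat_lit 1) (Step.D (nat_lit 7608) (Step.B (nat_lit 2757) (Step.D (nat_lit 6802) Step.done))) (Scr.cons (nat_lit 1) (nat_lit 1) (Step.D (nat_lit 6802) (Step.F (nat_lit 2758) Step.done)) (Scr.cons (nat_lit 1) (nat_lit 1) (Step.U (nat_lit 6396) (Step.B (nat_lit 2156) (Step.D (nat_lit 2067) Step.done))) (Scr.cons (nat_lit 1) (nat_lit 1) (Step.B (nat_lit 2049) (Step.B (nat_lit 2760) (Step.D (nat_lit 3968) Step.done))) (Scr.cons (nat_lit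 1) (nat_lit 1) (Step.F (nat_lit 2759) (Step.F (nat_lit 2761) (Step.U (nat_lit 3775) Step.done))) Scr.nil))))))))))))))))))))))))))))))))))))))))
noncomputable def s69 : Scr := (Scr.cons (nat_lit 0) (nat_lit 1) (Step.B (nat_lit 2742) (Step.B (nat_lit 2762) (Step.F (nat_lit 2107) Step.done))) (Scr.cons (nat_lit 1) (nat_lit 1) (Step.D (nat_lit 2514) (Step.B (nat_lit 2763) (Step.L Step.done))) (Scr.cons (nat_lit 1) (nat_lit 1) (Step.D (nat_lit 1212) (Step.B (nat_lit 2764) (Step.L Step.done))) (Scr.cons (nat_lit 0) (nat_lit 1) (Step.B (nat_lit 2740) (Step.B (nat_lit 2765) (Step.L Step.done))) (Scr.cons (nat_lit 1) (nat_lit 0) (Step.D (nat_lit 165) (Step.B (nat_lit 2766) (Step.L Step.done))) (Scr.cons (nat_lit 1) (nat_lit 0) (Step.U (nat_lit 166) (Step.B (nat_lit 2767) (Step.L Step.done))) (Scr.cons (nat_lit 0) (nat_lit 1) (Step.U (nat_lit 484) (Step.B (nat_lit 2768) (Step.L Step.done))) (Scr.cons (nat_lit 1) (nat_lit 1) (Step.B (nat_lit 2739) (Step.B (nat_lit 2769) (Step.L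 Step.done))) (Scr.cons (nat_lit 0) (nat_lit 1) (Step.B (nat_lit 2735) (Step.B (nat_lit 2770) (Step.L Step.done))) (Scr.cons (nat_lit 1) (nat_lit 1) (Step.U (nat_lit 473) (Step.B (nat_lit 2771) (Step.L Step.done))) (Scr.cons (nat_lit 0) (nat_lit 1) (Step.U (nat_lit 1191) (Step.B (nat_lit 2772) (Step.L Step.done))) (Scr.cons (nat_lit 1) (nat_lit 0) (Step.U (nat_lit 2478) (Step.B (nat_lit 2773) (Step.L Step.done))) (Scr.cons (nat_lit 1) (nat_lit 0) (Step.U (nat_lit 4594) (Step.B (nat_lit 2774) (Step.L Step.done))) (Scr.cons (nat_lit 0) (nat_lit 1) (Step.U (nat_lit 7553) (Step.B (nat_lit 2775) (Step.L Step.done))) (Scr.cons (nat_lit 1) (nat_lit 0) (Step.B (nat_lit 2737) (Step.B (nat_lit 2776) (Step.L Step.done))) (Scr.cons (nat_lit 1) (nat_lit 0) (Step.D (nat_lit 7358) (Step.B (nat_lit 2777) (Step.L Step.done))) (Scr.cons (nat_lit 0) (nat_lit 1) (Step.B (nat_lit 2704) (Step.B (nat_lit 2778) (Step.L Step.done))) (Scr.cons (nat_lit 1) (nat_lit 0) (Step.D (nat_lit 2383) (Step.B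 (nat_lit 2779) (Step.L Step.done))) (Scr.cons (nat_lit 0) (nat_lit 1) (Step.B (nat_lit 2696) (Step.B (nat_lit 2780) (Step.L Step.done))) (Scr.cons (nat_lit 1) (nat_lit 0) (Step.U (nat_lit 1145) (Step.B (nat_lit 2781) (Step.L Step.done))) (Scr.cons (nat_lit 1) (nat_lit 0) (Step.F (nat_lit 2694) (Step.B (nat_lit 2782) (Step.L Step.done))) (Scr.cons (nat_lit 0) (nat_lit 1) (Step.U (nat_lit 4433) (Step.B (nat_lit 2783) (Step.L Step.done))) (Scr.cons (nat_lit 1) (nat_lit 1) (Step.U (nat_lit 7357) (Step.B (nat_lit 2784) (Step.L Step.done))) (Scr.cons (nat_lit 0) (nat_lit 1) (Step.U (nat_lit 10422) (Step.B (nat_lit 2785) (Step.L Step.done))) (Scr.cons (nat_lit 1) (nat_lit 1) (Step.B (nat_lit 2703) (Step.B (nat_lit 2786) (Step.L Step.done))) (Scr.cons (nat_lit 8) (nat_lit 1) (Step.U (nat_lit 5925) (Step.U (nat_lit 3347) (Step.U (nat_lit 1687) (Step.U (nat_lit 727) (Step.L (Step.L (Step.L (Step.L (Step.L (Step.L (Step.L (Step.L (Step.L (Step.B (nat_lit 2678) (Step.D (nat_lit 7689)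 Step.done))))))))))))))) (Scr.cons (nat_lit 12) (nat_lit 1) (Step.L (Step.L (Step.L (Step.L (Step.D (nat_lit 739) Step.done))))) (Scr.cons (nat_lit 11) (nat_lit 0) (Step.U (nat_lit 19) (Step.U (nat_lit 1) (Step.L (Step.D (nat_lit 17) (Step.D (nat_lit 84) Step.done))))) (Scr.cons (nat_lit 12) (nat_lit 1) (Step.U (nat_lit 1) (Step.L (Step.L (Step.D (nat_lit 1) (Step.D (nat_lit 18) Step.done))))) (Scr.cons (nat_lit 12) (nat_lit 1) (Step.U (nat_lit 19) (Step.D (nat_lit 18) (Step.F (nat_lit 2791) (Step.D (nat_lit 19) (Step.D (nat_lit 85) Step.done))))) (Scr.cons (nat_lit 12) (nat_lit 1) (Step.F (nat_lit 2790) (Step.D (nat_lit 85) (Step.F (nat_lit 2792) (Step.B (nat_lit 2790) (Step.D (nat_lit 276) Step.done))))) (Scr.cons (nat_lit 7) (nat_lit 5) (Step.F (nat_lit 2789) (Step.L (Step.L (Step.L (Step.L (Step.L (Step.L (Step.L (Step.L (Step.L (Step.L (Step.L (Step.L (Step.L (Step.L (Step.D (nat_lit 1) (Step.D (nat_lit 19) (Step.B (nat_lit 2790) (Step.B (nat_lit 2793) (Step.D (nat_lit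 766) Step.done)))))))))))))))))))) (Scr.cons (nat_lit 12) (nat_lit 1) (Step.U (nat_lit 275) (Step.F (nat_lit 1546) (Step.D (nat_lit 83) (Step.D (nat_lit 275) (Step.D (nat_lit 764) Step.done))))) (Scr.cons (nat_lit 6) (nat_lit 3) (Step.U (nat_lit 1738) (Step.U (nat_lit 764) (Step.U (nat_lit 275) (Step.F (nat_lit 1546) (Step.U (nat_lit 17) (Step.L (Step.L (Step.L (Step.D (nat_lit 759) (Step.B (nat_lit 2488) (Step.D (nat_lit 3416) Step.done))))))))))) (Scr.cons (nat_lit 12) (nat_lit 1) (Step.U (nat_lit 127) (Step.L (Step.L (Step.D (nat_lit 127) (Step.D (nat_lit 382) Step.done))))) (Scr.cons (nat_lit 12) (nat_lit 1) (Step.U (nat_lit 383) (Step.D (nat_lit 382) (Step.F (nat_lit 2797) (Step.D (nat_lit 383) (Step.D (nat_lit 1005) Step.done))))) (Scr.cons (nat_lit 12) (nat_lit 4) (Step.U (nat_lit 2146) (Step.F (nat_lit 2798) (Step.D (nat_lit 1005) (Step.D (nat_lit 2146) (Step.D (nat_lit 4086) Step.done))))) (Scr.cons (nat_lit 12) (nat_lit 4) (Step.U (nat_lit 4087) (Step.D (nat_lit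 4086) (Step.F (nat_lit 2799) (Step.D (nat_lit 4087) (Step.D (nat_lit 6947) Step.done))))) (Scr.cons (nat_lit 11) (nat_lit 0) (Step.U (nat_lit 2141) (Step.U (nat_lit 1002) (Step.L (Step.L (Step.D (nat_lit 4080) Step.done))))) (Scr.cons (nat_lit 6) (nat_lit 1) (Step.U (nat_lit 1002) (Step.L (Step.L (Step.L (Step.L (Step.L (Step.D (nat_lit 35) (Step.B (nat_lit 404) (Step.D (nat_lit 379) (Step.D (nat_lit 998) (Step.D (nat_lit 2138) Step.done))))))))))) Scr.nil))))))))))))))))))))))))))))))))))))))))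
noncomputable def s70 : Scr := (Scr.cons (nat_lit 12) (nat_lit 4) (Step.U (nat_lit 379) (Step.F (nat_lit 404) (Step.D (nat_lit 125) (Step.D (nat_lit 379) (Step.D (nat_lit 998) Step.done))))) (Scr.cons (nat_lit 13) (nat_lit 2) (Step.U (nat_lit 1002) (Step.L (Step.L (Step.L (Step.L (Step.L (Step.D (nat_lit 35) (Step.D (nat_lit 125) (Step.D (nat_lit 379) (Step.B (nat_lit 2803) (Step.D (nat_lit 2138) Step.done))))))))))) (Scr.cons (nat_lit 12) (nat_lit 1) (Step.U (nat_lit 2141) (Step.B (nat_lit 2802) (Step.F (nat_lit 2804) (Step.D (nat_lit 2141) (Step.D (nat_lit 4081) Step.done))))) (Scr.cons (nat_lit 12) (nat_lit 1) (Step.F (nat_lit 2801) (Step.D (nat_lit 4081) (Step.F (nat_lit 2805) (Step.B (nat_lit 2801) (Step.D (nat_lit 6940) Step.done))))) (Scr.cons (nat_lit 13) (nat_lit 0) (Step.U (nat_lit 416) (Step.F (nat_lit 149) (Step.L (Step.L (Step.L (Step.L (Step.L (Step.L (Step.L (Step.L (Step.D (nat_lit 1066) Step.done))))))))))) (Scr.cons (nat_lit 6) (nat_lit 3) (Step.U (nat_lit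 416) (Step.U (nat_lit 143) (Step.L (Step.L (Step.L (Step.L (Step.L (Step.L (Step.L (Step.L (Step.D (nat_lit 1066) Step.done))))))))))) (Scr.cons (nat_lit 12) (nat_lit 4) (Step.U (nat_lit 1069) (Step.B (nat_lit 2807) (Step.F (nat_lit 2808) (Step.D (nat_lit 1069) (Step.D (nat_lit 2260) Step.done))))) (Scr.cons (nat_lit 11) (nat_lit 0) (Step.U (nat_lit 830) (Step.U (nat_lit 304) (Step.D (nat_lit 303) (Step.D (nat_lit 828) (Step.D (nat_lit 1829) Step.done))))) (Scr.cons (nat_lit 12) (nat_lit 4) (Step.U (nat_lit 23) (Step.D (nat_lit 22) (Step.F (nat_lit 80) (Step.D (nat_lit 23) (Step.D (nat_lit 95) Step.done))))) (Scr.cons (nat_lit 12) (nat_lit 1) (Step.U (nat_lit 304) (Step.F (nat_lit 2811) (Step.D (nat_lit 95) (Step.D (nat_lit 304) (Step.D (nat_lit 829) Step.done))))) (Scr.cons (nat_lit 12) (nat_lit 1) (Step.U (nat_lit 830) (Step.D (nat_lit 829) (Step.F (nat_lit 2812) (Step.D (nat_lit 830) (Step.D (nat_lit 1830) Step.done))))) (Scr.cons (nat_lit 12) (nat_lit 1) (Step.F (nat_lit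 2810) (Step.D (nat_lit 1830) (Step.F (nat_lit 2813) (Step.B (nat_lit 2810) (Step.D (nat_lit 3573) Step.done))))) (Scr.cons (nat_lit 11) (nat_lit 0) (Step.U (nat_lit 311) (Step.L (Step.L (Step.D (nat_lit 309) (Step.D (nat_lit 840) Step.done))))) (Scr.cons (nat_lit 12) (nat_lit 1) (Step.L (Step.L (Step.L (Step.L (Step.D (nat_lit 310) Step.done))))) (Scr.cons (nat_lit 12) (nat_lit 1) (Step.U (nat_lit 311) (Step.D (nat_lit 310) (Step.F (nat_lit 2816) (Step.D (nat_lit 311) (Step.D (nat_lit 843) Step.done))))) (Scr.cons (nat_lit 12) (nat_lit 1) (Step.F (nat_lit 2815) (Step.D (nat_lit 843) (Step.F (nat_lit 2817) (Step.B (nat_lit 2815) (Step.D (nat_lit 1845) Step.done))))) (Scr.cons (nat_lit 7) (nat_lit 5) (Step.F (nat_lit 2814) (Step.U (nat_lit 1829) (Step.U (nat_lit 828) (Step.U (nat_lit 303) (Step.U (nat_lit 95) (Step.U (nat_lit 23) (Step.U (nat_lit 2) (Step.L (Step.L (Step.L (Step.L (Step.L (Step.L (Step.L (Step.L (Step.L (Step.D (nat_lit 311) (Step.B (nat_lit 2815) (Step.B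 (nat_lit 2818) (Step.D (nat_lit 3597) Step.done)))))))))))))))))))) (Scr.cons (nat_lit 14) (nat_lit 6) (Step.U (nat_lit 843) (Step.U (nat_lit 311) (Step.L (Step.L (Step.L (Step.L (Step.L (Step.L (Step.L (Step.L (Step.L (Step.L (Step.L (Step.L (Step.L (Step.L (Step.L (Step.L (Step.D (nat_lit 423) (Step.D (nat_lit 1084) Step.done)))))))))))))))))))) (Scr.cons (nat_lit 4) (nat_lit 0) (Step.B (nat_lit 2820) (Step.U (nat_lit 1084) (Step.U (nat_lit 423) (Step.L (Step.D (nat_lit 1086) Step.done))))) (Scr.cons (nat_lit 11) (nat_lit 0) (Step.U (nat_lit 470) (Step.L (Step.L (Step.L (Step.D (nat_lit 1187) Step.done))))) (Scr.cons (nat_lit 16) (nat_lit 3) (Step.B (nat_lit 2819) (Step.U (nat_lit 3597) (Step.F (nat_lit 2818) (Step.F (nat_lit 2815) (Step.D (nat_lit 843) (Step.B (nat_lit 2821) (Step.U (nat_lit 1086) (Step.L (Step.L (Step.L (Step.L (Step.L (Step.L (Step.L (Step.L (Step.L (Step.L (Step.L (Step.D (nat_lit 1187) (Step.F (nat_lit 2822) (Step.D (nat_lit 1188) (Step.D (nat_lit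 2474) (Step.D (nat_lit 4592) Step.done))))))))))))))))))))))) (Scr.cons (nat_lit 12) (nat_lit 1) (Step.L (Step.L (Step.L (Step.L (Step.D (nat_lit 877) Step.done))))) (Scr.cons (nat_lit 11) (nat_lit 0) (Step.U (nat_lit 24) (Step.L (Step.D (nat_lit 2) (Step.D (nat_lit 23) (Step.D (nat_lit 96) Step.done))))) (Scr.cons (nat_lit 12) (nat_lit 1) (Step.F (nat_lit 2825) (Step.D (nat_lit 98) (Step.F (nat_lit 1485) (Step.B (nat_lit 2825) (Step.D (nat_lit 305) Step.done))))) (Scr.cons (nat_lit 14) (nat_lit 2) (Step.F (nat_lit 2824) (Step.L (Step.L (Step.L (Step.L (Step.L (Step.L (Step.L (Step.L (Step.L (Step.L (Step.L (Step.L (Step.L (Step.L (Step.D (nat_lit 2) (Step.D (nat_lit 23) (Step.D (nat_lit 96) (Step.B (nat_lit 2826) (Step.D (nat_lit 831) Step.done)))))))))))))))))))) (Scr.cons (nat_lit 16) (nat_lit 3) (Step.U (nat_lit 7154) (Step.U (nat_lit 4259) (Step.F (nat_lit 2809) (Step.D (nat_lit 2261) (Step.D (nat_lit 4260) (Step.B (nat_lit 2146) (Step.U (nat_lit 2475) (Step.D (nat_lit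 2474) (Step.D (nat_lit 4592) (Step.F (nat_lit 2823) (Step.F (nat_lit 2814) (Step.F (nat_lit 2810) (Step.U (nat_lit 830) (Step.U (nat_lit 304) (Step.F (nat_lit 2811) (Step.D (nat_lit 96) (Step.D (nat_lit 305) (Step.D (nat_lit 831) (Step.F (nat_lit 2827) (Step.D (nat_lit 1899) (Step.D (nat_lit 3682) (Step.D (nat_lit 6408) (Step.D (nat_lit 9550) Step.done))))))))))))))))))))))) (Scr.cons (nat_lit 11) (nat_lit 0) (Step.F (nat_lit 2828) (Step.U (nat_lit 7154) (Step.U (nat_lit 4259) (Step.D (nat_lit 4258) (Step.D (nat_lit 7153) Step.done))))) (Scr.cons (nat_lit 14) (nat_lit 2) (Step.F (nat_lit 2806) (Step.F (nat_lit 2801) (Step.U (nat_lit 2141) (Step.U (nat_lit 1002) (Step.L (Step.L (Step.L (Step.L (Step.D (nat_lit 415) (Step.F (nat_lit 148) (Step.U (nat_lit 144) (Step.B (nat_lit 149) (Step.D (nat_lit 416) (Step.D (nat_lit 1069) (Step.D (nat_lit 2260) (Step.D (nat_lit 4258) (Step.D (nat_lit 7153) (Step.F (nat_lit 2829) (Step.U (nat_lit 9550) (Step.D (nat_lit 9551) Step.done))))))))))))))))))))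 (Scr.cons (nat_lit 16) (nat_lit 4) (Step.U (nat_lit 3799) (Step.U (nat_lit 1969) (Step.L (Step.L (Step.L (Step.L (Step.L (Step.L (Step.L (Step.L (Step.L (Step.L (Step.L (Step.L (Step.D (nat_lit 877) (Step.D (nat_lit 1899) (Step.D (nat_lit 3682) (Step.D (nat_lit 6408) (Step.D (nat_lit 9551) (Step.F (nat_lit 2830) (Step.F (nat_lit 2806) (Step.F (nat_lit 2801) (Step.D (nat_lit 4081) (Step.D (nat_lit 6941) Step.done)))))))))))))))))))))))) (Scr.cons (nat_lit 11) (nat_lit 0) (Step.U (nat_lit 3799) (Step.U (nat_lit 1969) (Step.D (nat_lit 1968) (Step.D (nat_lit 3797) (Step.D (nat_lit 6568) Step.done))))) (Scr.cons (nat_lit 1) (nat_lit 0) (Step.D (nat_lit 6941) (Step.F (nat_lit 2831) (Step.B (nat_lit 2832) Step.done))) (Scr.cons (nat_lit 1) (nat_lit 0) (Step.D (nat_lit 6568) (Step.F (nat_lit 2833) (Step.D (nat_lit 6942) Step.done))) (Scr.cons (nat_lit 1) (nat_lit 0) (Step.D (nat_lit 6942) (Step.F (nat_lit 2834) Step.done)) (Scr.cons (nat_lit 11) (nat_lit 0) (Step.U (nat_lit 912)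 (Step.L (Step.L (Step.D (nat_lit 911) (Step.D (nat_lit 1967) Step.done))))) (Scr.cons (nat_lit 7) (nat_lit 2) (Step.U (nat_lit 6947) (Step.U (nat_lit 4087) (Step.U (nat_lit 2146) (Step.F (nat_lit 2798) (Step.B (nat_lit 12) (Step.L (Step.L (Step.L (Step.D (nat_lit 1002) (Step.D (nat_lit 2141) (Step.D (nat_lit 4081) (Step.B (nat_lit 2835) (Step.U (nat_lit 3797) (Step.U (nat_lit 1968) (Step.L (Step.D (nat_lit 912) (Step.B (nat_lit 2836) (Step.D (nat_lit 3796) (Step.D (nat_lit 6567) (Step.D (nat_lit 9723) Step.done)))))))))))))))))))) (Scr.cons (nat_lit 12) (nat_lit 1) (Step.U (nat_lit 912) (Step.L (Step.L (Step.D (nat_lit 912) (Step.D (nat_lit 1970) Step.done))))) (Scr.cons (nat_lit 12) (nat_lit 1) (Step.F (nat_lit 2836) (Step.D (nat_lit 1970) (Step.F (nat_lit 2838) (Step.B (nat_lit 2836) (Step.D (nat_lit 3796) Step.done))))) (Scr.cons (nat_lit 9) (nat_lit 5) (Step.U (nat_lit 3841) (Step.U (nat_lit 1994) (Step.L (Step.L (Step.L (Step.L (Step.L (Step.L (Step.L (Step.L (Step.L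 (Step.L (Step.L (Step.L (Step.L (Step.L (Step.L (Step.L (Step.L (Step.D (nat_lit 912) (Step.B (nat_lit 2836) (Step.B (nat_lit 2839) (Step.D (nat_lit 6567) Step.done))))))))))))))))))))))) (Scr.cons (nat_lit 11) (nat_lit 0) (Step.L (Step.L (Step.L (Step.B (nat_lit 1985) (Step.D (nat_lit 3952) Step.done))))) (Scr.cons (nat_lit 12) (nat_lit 1) (Step.F (nat_lit 2841) (Step.L (Step.L (Step.B (nat_lit 2841) (Step.D (nat_lit 6773) Step.done))))) Scr.nil))))))))))))))))))))))))))))))))))))))))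
noncomputable def s71 : Scr := (Scr.cons (nat_lit 11) (nat_lit 0) (Step.U (nat_lit 2062) (Step.L (Step.L (Step.L (Step.D (nat_lit 3957) Step.done))))) (Scr.cons (nat_lit 12) (nat_lit 1) (Step.U (nat_lit 2062) (Step.L (Step.L (Step.D (nat_lit 2062) (Step.D (nat_lit 3958) Step.done))))) (Scr.cons (nat_lit 12) (nat_lit 1) (Step.F (nat_lit 2843) (Step.D (nat_lit 3958) (Step.F (nat_lit 2844) (Step.B (nat_lit 2843) (Step.D (nat_lit 6783) Step.done))))) (Scr.cons (nat_lit 16) (nat_lit 1) (Step.F (nat_lit 2845) (Step.F (nat_lit 2843) (Step.U (nat_lit 2062) (Step.L (Step.L (Step.L (Step.L (Step.L (Step.L (Step.L (Step.L (Step.L (Step.L (Step.L (Step.L (Step.L (Step.L (Step.L (Step.L (Step.L (Step.B (nat_lit 1985) (Step.D (nat_lit 3952) (Step.D (nat_lit 6773) Step.done))))))))))))))))))))))) (Scr.cons (nat_lit 0) (nat_lit 1) (Step.U (nat_lit 6783) (Step.F (nat_lit 2046) (Step.D (nat_lit 3838) Step.done))) (Scr.cons (nat_lit 1) (nat_lit 0) (Step.F (nat_lit 2846) (Step.B (nat_lit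 2847) (Step.D (nat_lit 6619) Step.done))) (Scr.cons (nat_lit 8) (nat_lit 1) (Step.L (Step.L (Step.L (Step.L (Step.L (Step.L (Step.L (Step.L (Step.L (Step.L (Step.L (Step.L (Step.L (Step.B (nat_lit 2036) (Step.D (nat_lit 6619) Step.done))))))))))))))) (Scr.cons (nat_lit 12) (nat_lit 0) (Step.B (nat_lit 2849) (Step.U (nat_lit 6619) (Step.F (nat_lit 2036) (Step.D (nat_lit 3838) (Step.D (nat_lit 6619) Step.done))))) (Scr.cons (nat_lit 0) (nat_lit 1) (Step.B (nat_lit 2842) (Step.B (nat_lit 2848) (Step.F (nat_lit 2850) Step.done))) (Scr.cons (nat_lit 1) (nat_lit 0) (Step.D (nat_lit 3952) (Step.B (nat_lit 2851) (Step.L Step.done))) (Scr.cons (nat_lit 0) (nat_lit 1) (Step.B (nat_lit 1983) (Step.B (nat_lit 2852) (Step.L Step.done))) (Scr.cons (nat_lit 1) (nat_lit 1) (Step.D (nat_lit 953) (Step.B (nat_lit 2853) (Step.D (nat_lit 1994) Step.done))) (Scr.cons (nat_lit 1) (nat_lit 1) (Step.U (nat_lit 3841) (Step.F (nat_lit 2854) (Step.L Step.done))) (Scr.cons (nat_lit 0) (nat_lit 1)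 (Step.F (nat_lit 2840) (Step.B (nat_lit 2855) (Step.L Step.done))) (Scr.cons (nat_lit 1) (nat_lit 0) (Step.U (nat_lit 9723) (Step.B (nat_lit 2856) (Step.L Step.done))) (Scr.cons (nat_lit 1) (nat_lit 0) (Step.B (nat_lit 2837) (Step.B (nat_lit 2857) (Step.L Step.done))) (Scr.cons (nat_lit 0) (nat_lit 1) (Step.B (nat_lit 2800) (Step.B (nat_lit 2858) (Step.L Step.done))) (Scr.cons (nat_lit 1) (nat_lit 0) (Step.D (nat_lit 4087) (Step.B (nat_lit 2859) (Step.L Step.done))) (Scr.cons (nat_lit 1) (nat_lit 0) (Step.D (nat_lit 2146) (Step.B (nat_lit 2860) (Step.L Step.done))) (Scr.cons (nat_lit 0) (nat_lit 1) (Step.B (nat_lit 2798) (Step.B (nat_lit 2861) (Step.D (nat_lit 359) Step.done))) (Scr.cons (nat_lit 1) (nat_lit 0) (Step.F (nat_lit 12) (Step.B (nat_lit 2862) (Step.B (nat_lit 110) Step.done))) (Scr.cons (nat_lit 0) (nat_lit 1) (Step.B (nat_lit 106) (Step.F (nat_lit 2863) (Step.L Step.done))) (Scr.cons (nat_lit 1) (nat_lit 1) (Step.D (nat_lit 307) (Step.B (nat_lit 2864) (Step.D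 (nat_lit 415) Step.done))) (Scr.cons (nat_lit 0) (nat_lit 1) (Step.U (nat_lit 1068) (Step.F (nat_lit 2865) (Step.L Step.done))) (Scr.cons (nat_lit 1) (nat_lit 1) (Step.F (nat_lit 152) (Step.B (nat_lit 2866) (Step.L Step.done))) (Scr.cons (nat_lit 0) (nat_lit 1) (Step.U (nat_lit 1909) (Step.B (nat_lit 2867) (Step.L Step.done))) (Scr.cons (nat_lit 1) (nat_lit 0) (Step.F (nat_lit 254) (Step.B (nat_lit 2868) (Step.D (nat_lit 3577) Step.done))) (Scr.cons (nat_lit 1) (nat_lit 0) (Step.B (nat_lit 2489) (Step.F (nat_lit 2869) (Step.L Step.done))) (Scr.cons (nat_lit 0) (nat_lit 1) (Step.B (nat_lit 2796) (Step.B (nat_lit 2870) (Step.L Step.done))) (Scr.cons (nat_lit 1) (nat_lit 0) (Step.D (nat_lit 1738) (Step.B (nat_lit 2871) (Step.L Step.done))) (Scr.cons (nat_lit 0) (nat_lit 1) (Step.B (nat_lit 2795) (Step.B (nat_lit 2872) (Step.L Step.done))) (Scr.cons (nat_lit 1) (nat_lit 1) (Step.D (nat_lit 275) (Step.B (nat_lit 2873) (Step.L Step.done))) (Scr.cons (nat_lit 0) (nat_lit 1)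 (Step.B (nat_lit 1546) (Step.B (nat_lit 2874) (Step.L Step.done))) (Scr.cons (nat_lit 1) (nat_lit 1) (Step.U (nat_lit 84) (Step.B (nat_lit 2875) (Step.L Step.done))) (Scr.cons (nat_lit 0) (nat_lit 1) (Step.U (nat_lit 276) (Step.B (nat_lit 2876) (Step.L Step.done))) (Scr.cons (nat_lit 1) (nat_lit 0) (Step.U (nat_lit 766) (Step.B (nat_lit 2877) (Step.L Step.done))) (Scr.cons (nat_lit 1) (nat_lit 0) (Step.B (nat_lit 2794) (Step.B (nat_lit 2878) (Step.L Step.done))) (Scr.cons (nat_lit 0) (nat_lit 1) (Step.B (nat_lit 2789) (Step.B (nat_lit 2879) (Step.D (nat_lit 727) Step.done))) (Scr.cons (nat_lit 1) (nat_lit 1) (Step.U (nat_lit 1687) (Step.F (nat_lit 2880) (Step.L Step.done))) (Scr.cons (nat_lit 0) (nat_lit 1) (Step.U (nat_lit 3347) (Step.B (nat_lit 2881) (Step.L Step.done))) Scr.nil))))))))))))))))))))))))))))))))))))))))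
noncomputable def s72 : Scr := (Scr.cons (nat_lit 1) (nat_lit 1) (Step.U (nat_lit 5925) (Step.B (nat_lit 2882) (Step.L Step.done))) (Scr.cons (nat_lit 0) (nat_lit 1) (Step.F (nat_lit 2788) (Step.B (nat_lit 2883) (Step.L Step.done))) (Scr.cons (nat_lit 1) (nat_lit 1) (Step.D (nat_lit 7689) (Step.B (nat_lit 2884) (Step.L Step.done))) (Scr.cons (nat_lit 0) (nat_lit 1) (Step.B (nat_lit 2678) (Step.B (nat_lit 2885) (Step.D (nat_lit 5970) Step.done))) (Scr.cons (nat_lit 0) (nat_lit 1) (Step.B (nat_lit 2682) (Step.B (nat_lit 2787) (Step.D (nat_lit 5970) (Step.F (nat_lit 2886) Step.done)))) (Scr.cons (nat_lit 1) (nat_lit 0) (Step.D (nat_lit 5722) (Step.B (nat_lit 2887) (Step.D (nat_lit 4715) Step.done))) (Scr.cons (nat_lit 1) (nat_lit 0) (Step.F (nat_lit 2677) (Step.F (nat_lit 2888) (Step.L Step.done))) (Scr.cons (nat_lit 0) (nat_lit 1) (Step.U (nat_lit 10713) (Step.B (nat_lit 2889) (Step.L Step.done))) (Scr.cons (nat_lit 1) (nat_lit 1) (Step.F (nat_lit 2681) (Step.B (nat_lit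 2890) (Step.L Step.done))) (Scr.cons (nat_lit 1) (nat_lit 1) (Step.D (nat_lit 10693) (Step.B (nat_lit 2891) (Step.L Step.done))) (Scr.cons (nat_lit 0) (nat_lit 1) (Step.B (nat_lit 2676) (Step.B (nat_lit 2892) (Step.L Step.done))) (Scr.cons (nat_lit 1) (nat_lit 1) (Step.B (nat_lit 2673) (Step.B (nat_lit 2893) (Step.L Step.done))) (Scr.cons (nat_lit 1) (nat_lit 1) (Step.D (nat_lit 2552) (Step.B (nat_lit 2894) (Step.L Step.done))) (Scr.cons (nat_lit 1) (nat_lit 1) (Step.D (nat_lit 1239) (Step.B (nat_lit 2895) (Step.D (nat_lit 1309) Step.done))) (Scr.cons (nat_lit 0) (nat_lit 1) (Step.U (nat_lit 2681) (Step.F (nat_lit 2896) (Step.L Step.done))) (Scr.cons (nat_lit 1) (nat_lit 0) (Step.U (nat_lit 4900) (Step.B (nat_lit 2897) (Step.L Step.done))) (Scr.cons (nat_lit 1) (nat_lit 0) (Step.U (nat_lit 7900) (Step.B (nat_lit 2898) (Step.L Step.done))) (Scr.cons (nat_lit 0) (nat_lit 1) (Step.U (nat_lit 10893) (Step.B (nat_lit 2899) (Step.L Step.done))) (Scr.cons (nat_lit 1) (nat_lit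 0) (Step.B (nat_lit 2672) (Step.B (nat_lit 2900) (Step.L Step.done))) (Scr.cons (nat_lit 0) (nat_lit 1) (Step.B (nat_lit 2667) (Step.B (nat_lit 2901) (Step.L Step.done))) (Scr.cons (nat_lit 1) (nat_lit 1) (Step.D (nat_lit 4966) (Step.B (nat_lit 2902) (Step.D (nat_lit 4694) Step.done))) (Scr.cons (nat_lit 1) (nat_lit 1) (Step.D (nat_lit 4694) (Step.F (nat_lit 2903) Step.done)) (Scr.cons (nat_lit 12) (nat_lit 1) (Step.L (Step.L (Step.L (Step.L (Step.D (nat_lit 9406) Step.done))))) (Scr.cons (nat_lit 11) (nat_lit 0) (Step.U (nat_lit 5864) (Step.U (nat_lit 3309) (Step.D (nat_lit 3308) (Step.D (nat_lit 5863) (Step.D (nat_lit 9004) Step.done))))) (Scr.cons (nat_lit 12) (nat_lit 4) (Step.U (nat_lit 3620) (Step.F (nat_lit 1229) (Step.D (nat_lit 1862) (Step.D (nat_lit 3620) (Step.D (nat_lit 6319) Step.done))))) (Scr.cons (nat_lit 12) (nat_lit 4) (Step.U (nat_lit 6320) (Step.D (nat_lit 6319) (Step.F (nat_lit 2907) (Step.D (nat_lit 6320) (Step.D (nat_lit 9485) Step.done))))) (Scr.cons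 (nat_lit 12) (nat_lit 4) (Step.U (nat_lit 3308) (Step.L (Step.L (Step.D (nat_lit 3308) (Step.D (nat_lit 5862) Step.done))))) (Scr.cons (nat_lit 12) (nat_lit 4) (Step.U (nat_lit 5863) (Step.D (nat_lit 5862) (Step.F (nat_lit 2909) (Step.D (nat_lit 5863) (Step.D (nat_lit 9003) Step.done))))) (Scr.cons (nat_lit 11) (nat_lit 0) (Step.U (nat_lit 6760) (Step.U (nat_lit 3942) (Step.D (nat_lit 3941) (Step.D (nat_lit 6759) (Step.D (nat_lit 9928) Step.done))))) (Scr.cons (nat_lit 11) (nat_lit 0) (Step.U (nat_lit 3764) (Step.U (nat_lit 1946) (Step.L (Step.L (Step.D (nat_lit 6515) Step.done))))) (Scr.cons (nat_lit 12) (nat_lit 1) (Step.U (nat_lit 1946) (Step.L (Step.L (Step.D (nat_lit 1946) (Step.D (nat_lit 3763) Step.done))))) (Scr.cons (nat_lit 12) (nat_lit 1) (Step.U (nat_lit 3764) (Step.D (nat_lit 3763) (Step.F (nat_lit 2913) (Step.D (nat_lit 3764) (Step.D (nat_lit 6516) Step.done))))) (Scr.cons (nat_lit 12) (nat_lit 1) (Step.F (nat_lit 2912) (Step.D (nat_lit 6516) (Step.F (nat_lit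 2914) (Step.B (nat_lit 2912) (Step.D (nat_lit 9663) Step.done))))) (Scr.cons (nat_lit 16) (nat_lit 1) (Step.F (nat_lit 2915) (Step.F (nat_lit 2912) (Step.U (nat_lit 3764) (Step.U (nat_lit 1946) (Step.L (Step.L (Step.L (Step.L (Step.L (Step.L (Step.L (Step.L (Step.L (Step.L (Step.L (Step.L (Step.L (Step.L (Step.L (Step.D (nat_lit 1499) (Step.D (nat_lit 3023) (Step.D (nat_lit 5438) (Step.D (nat_lit 8519) Step.done))))))))))))))))))))))) (Scr.cons (nat_lit 12) (nat_lit 1) (Step.L (Step.L (Step.L (Step.L (Step.D (nat_lit 5865) Step.done))))) (Scr.cons (nat_lit 12) (nat_lit 1) (Step.L (Step.D (nat_lit 5865) (Step.F (nat_lit 2917) (Step.L (Step.D (nat_lit 6060) Step.done))))) (Scr.cons (nat_lit 11) (nat_lit 0) (Step.U (nat_lit 5344) (Step.U (nat_lit 2965) (Step.L (Step.D (nat_lit 5343) (Step.D (nat_lit 8396) Step.done))))) (Scr.cons (nat_lit 12) (nat_lit 4) (Step.L (Step.L (Step.L (Step.L (Step.D (nat_lit 8874) Step.done))))) (Scr.cons (nat_lit 11) (nat_lit 0) (Step.U (nat_lit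 2637) (Step.U (nat_lit 1281) (Step.D (nat_lit 1280) (Step.D (nat_lit 2635) (Step.D (nat_lit 4843) Step.done))))) (Scr.cons (nat_lit 12) (nat_lit 1) (Step.U (nat_lit 1281) (Step.L (Step.L (Step.D (nat_lit 1281) (Step.D (nat_lit 2636) Step.done))))) Scr.nil))))))))))))))))))))))))))))))))))))))))
noncomputable def s73 : Scr := (Scr.cons (nat_lit 12) (nat_lit 1) (Step.U (nat_lit 2637) (Step.D (nat_lit 2636) (Step.F (nat_lit 2922) (Step.D (nat_lit 2637) (Step.D (nat_lit 4844) Step.done))))) (Scr.cons (nat_lit 12) (nat_lit 1) (Step.F (nat_lit 2921) (Step.D (nat_lit 4844) (Step.F (nat_lit 2923) (Step.B (nat_lit 2921) (Step.D (nat_lit 7836) Step.done))))) (Scr.cons (nat_lit 7) (nat_lit 5) (Step.F (nat_lit 2924) (Step.U (nat_lit 4843) (Step.U (nat_lit 2635) (Step.U (nat_lit 1280) (Step.L (Step.L (Step.L (Step.L (Step.L (Step.L (Step.L (Step.L (Step.L (Step.L (Step.L (Step.L (Step.L (Step.L (Step.L (Step.D (nat_lit 7790) Step.done)))))))))))))))))))) (Scr.cons (nat_lit 12) (nat_lit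 1) (Step.L (Step.L (Step.L (Step.L (Step.D (nat_lit 4058) Step.done))))) (Scr.cons (nat_lit 9) (nat_lit 2) (Step.U (nat_lit 10802) (Step.F (nat_lit 2925) (Step.U (nat_lit 7836) (Step.U (nat_lit 4843) (Step.U (nat_lit 2635) (Step.U (nat_lit 1280) (Step.L (Step.L (Step.L (Step.L (Step.L (Step.L (Step.L (Step.L (Step.L (Step.L (Step.L (Step.L (Step.L (Step.L (Step.L (Step.L (Step.D (nat_lit 10408) Step.done))))))))))))))))))))))) (Scr.cons (nat_lit 7) (nat_lit 6) (Step.F (nat_lit 2926) (Step.L (Step.L (Step.L (Step.L (Step.L (Step.L (Step.L (Step.L (Step.L (Step.L (Step.L (Step.L (Step.L (Step.L (Step.L (Step.D (nat_lit 10408) (Step.F (nat_lit 2927) (Step.U (nat_lit 10802) (Step.F (nat_lit 2925) (Step.D (nat_lit 10834) Step.done))))))))))))))))))))) (Scr.cons (nat_lit 1) (nat_lit 1) (Step.D (nat_lit 10834) (Step.F (nat_lit 2928) (Step.D (nat_lit 6909) Step.done))) (Scr.cons (nat_lit 1) (nat_lit 1) (Step.F (nat_lit 2925) (Step.B (nat_lit 2929) (Step.D (nat_lit 10045) Step.done)))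 (Scr.cons (nat_lit 1) (nat_lit 1) (Step.D (nat_lit 10045) (Step.F (nat_lit 2930) Step.done)) (Scr.cons (nat_lit 11) (nat_lit 0) (Step.L (Step.L (Step.D (nat_lit 4117) (Step.D (nat_lit 6982) (Step.D (nat_lit 10114) Step.done))))) (Scr.cons (nat_lit 7) (nat_lit 3) (Step.U (nat_lit 8874) (Step.L (Step.L (Step.L (Step.L (Step.L (Step.L (Step.L (Step.L (Step.L (Step.L (Step.D (nat_lit 7790) (Step.F (nat_lit 2931) (Step.U (nat_lit 6909) (Step.U (nat_lit 4058) (Step.L (Step.L (Step.L (Step.L (Step.L (Step.B (nat_lit 2932) Step.done))))))))))))))))))))) (Scr.cons (nat_lit 1) (nat_lit 1) (Step.D (nat_lit 10114) (Step.F (nat_lit 2933) Step.done)) (Scr.cons (nat_lit 12) (nat_lit 4) (Step.U (nat_lit 773) (Step.L (Step.L (Step.D (nat_lit 773) (Step.D (nat_lit 1747) Step.done))))) (Scr.cons (nat_lit 13) (nat_lit 3) (Step.U (nat_lit 5349) (Step.L (Step.L (Step.L (Step.L (Step.L (Step.L (Step.D (nat_lit 773) (Step.B (nat_lit 2935) (Step.D (nat_lit 3431) (Step.D (nat_lit 6041) Step.done)))))))))))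 (Scr.cons (nat_lit 12) (nat_lit 1) (Step.U (nat_lit 3431) (Step.F (nat_lit 2935) (Step.D (nat_lit 1747) (Step.D (nat_lit 3431) (Step.D (nat_lit 6041) Step.done))))) (Scr.cons (nat_lit 11) (nat_lit 0) (Step.L (Step.L (Step.D (nat_lit 773) (Step.D (nat_lit 1748) (Step.D (nat_lit 3433) Step.done))))) (Scr.cons (nat_lit 14) (nat_lit 6) (Step.L (Step.L (Step.L (Step.L (Step.L (Step.L (Step.L (Step.L (Step.L (Step.L (Step.L (Step.L (Step.L (Step.L (Step.L (Step.L (Step.L (Step.L (Step.D (nat_lit 2971) (Step.D (nat_lit 5354) Step.done)))))))))))))))))))) (Scr.cons (nat_lit 4) (nat_lit 0) (Step.B (nat_lit 2939) (Step.U (nat_lit 5354) (Step.U (nat_lit 2971) (Step.L (Step.D (nat_lit 5355) Step.done))))) (Scr.cons (nat_lit 7) (nat_lit 6) (Step.U (nat_lit 4057) (Step.U (nat_lit 2126) (Step.U (nat_lit 994) (Step.L (Step.L (Step.L (Step.L (Step.L (Step.L (Step.L (Step.L (Step.L (Step.L (Step.L (Step.L (Step.L (Step.L (Step.L (Step.L (Step.D (nat_lit 5355) Step.done))))))))))))))))))))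 (Scr.cons (nat_lit 11) (nat_lit 0) (Step.L (Step.L (Step.D (nat_lit 994) (Step.D (nat_lit 2126) (Step.D (nat_lit 4057) Step.done))))) (Scr.cons (nat_lit 16) (nat_lit 4) (Step.U (nat_lit 9189) (Step.F (nat_lit 2937) (Step.U (nat_lit 3431) (Step.F (nat_lit 2935) (Step.D (nat_lit 1748) (Step.D (nat_lit 3433) (Step.F (nat_lit 2938) (Step.L (Step.B (nat_lit 2940) (Step.F (nat_lit 2941) (Step.F (nat_lit 2942) (Step.L (Step.L (Step.L (Step.L (Step.L (Step.L (Step.L (Step.L (Step.L (Step.D (nat_lit 4117) (Step.D (nat_lit 6981) (Step.D (nat_lit 10113) Step.done))))))))))))))))))))))) (Scr.cons (nat_lit 4) (nat_lit 0) (Step.U (nat_lit 8403) (Step.B (nat_lit 2936) (Step.D (nat_lit 9189) (Step.B (nat_lit 2943) (Step.U (nat_lit 10113) Step.done))))) (Scr.cons (nat_lit 11) (nat_lit 0) (Step.U (nat_lit 6042) (Step.U (nat_lit 3431) (Step.D (nat_lit 3430) (Step.D (nat_lit 6040) (Step.D (nat_lit 9188) Step.done))))) (Scr.cons (nat_lit 7) (nat_lit 6) (Step.U (nat_lit 9214) (Step.U (nat_lit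 6063) (Step.U (nat_lit 3449) (Step.L (Step.L (Step.L (Step.L (Step.L (Step.L (Step.L (Step.B (nat_lit 2920) (Step.F (nat_lit 2934) (Step.U (nat_lit 6982) (Step.D (nat_lit 6981) (Step.F (nat_lit 2944) (Step.U (nat_lit 8403) (Step.B (nat_lit 2936) (Step.U (nat_lit 6041) (Step.D (nat_lit 6042) (Step.B (nat_lit 2945) Step.done)))))))))))))))))))) (Scr.cons (nat_lit 11) (nat_lit 0) (Step.U (nat_lit 6064) (Step.U (nat_lit 3450) (Step.D (nat_lit 3449) (Step.D (nat_lit 6063) (Step.D (nat_lit 9214) Step.done))))) (Scr.cons (nat_lit 16) (nat_lit 3) (Step.F (nat_lit 2919) (Step.U (nat_lit 5344) (Step.U (nat_lit 2965) (Step.L (Step.L (Step.L (Step.L (Step.L (Step.L (Step.L (Step.L (Step.L (Step.L (Step.L (Step.L (Step.L (Step.D (nat_lit 773) (Step.D (nat_lit 1747) (Step.D (nat_lit 3430) (Step.D (nat_lit 6040) (Step.D (nat_lit 9188) (Step.F (nat_lit 2946) (Step.F (nat_lit 2947) (Step.D (nat_lit 9215) Step.done)))))))))))))))))))))))) (Scr.cons (nat_lit 0) (nat_lit 1) (Step.D (nat_lit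 9215) (Step.F (nat_lit 2948) Step.done)) (Scr.cons (nat_lit 14) (nat_lit 5) (Step.L (Step.L (Step.L (Step.L (Step.L (Step.L (Step.L (Step.D (nat_lit 5343) (Step.D (nat_lit 8396) (Step.F (nat_lit 2949) (Step.U (nat_lit 6064) (Step.U (nat_lit 3450) (Step.L (Step.L (Step.L (Step.L (Step.L (Step.L (Step.L (Step.D (nat_lit 6060) (Step.D (nat_lit 9211) Step.done))))))))))))))))))))) (Scr.cons (nat_lit 11) (nat_lit 0) (Step.L (Step.L (Step.D (nat_lit 1499) (Step.D (nat_lit 3023) (Step.D (nat_lit 5438) Step.done))))) (Scr.cons (nat_lit 1) (nat_lit 0) (Step.D (nat_lit 9211) (Step.F (nat_lit 2950) (Step.B (nat_lit 2951) Step.done))) (Scr.cons (nat_lit 0) (nat_lit 1) (Step.B (nat_lit 2918) (Step.B (nat_lit 2952) (Step.D (nat_lit 8519) Step.done))) (Scr.cons (nat_lit 1) (nat_lit 1) (Step.B (nat_lit 2916) (Step.F (nat_lit 2953) (Step.L Step.done))) (Scr.cons (nat_lit 0) (nat_lit 1) (Step.B (nat_lit 2915) (Step.B (nat_lit 2954) (Step.D (nat_lit 5865) Step.done))) (Scr.cons (nat_lit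 1) (nat_lit 0) (Step.D (nat_lit 6515) (Step.B (nat_lit 2955) (Step.D (nat_lit 9007) Step.done))) (Scr.cons (nat_lit 1) (nat_lit 0) (Step.D (nat_lit 9007) (Step.F (nat_lit 2956) Step.done)) (Scr.cons (nat_lit 14) (nat_lit 4) (Step.F (nat_lit 2911) (Step.U (nat_lit 6760) (Step.U (nat_lit 3942) (Step.U (nat_lit 2052) (Step.L (Step.L (Step.L (Step.L (Step.L (Step.F (nat_lit 2957) (Step.U (nat_lit 5865) (Step.L (Step.L (Step.L (Step.L (Step.L (Step.L (Step.L (Step.D (nat_lit 3308) (Step.D (nat_lit 5863) (Step.D (nat_lit 9003) Step.done))))))))))))))))))))) (Scr.cons (nat_lit 1) (nat_lit 1) (Step.D (nat_lit 9928) (Step.B (nat_lit 2958) Step.done)) (Scr.cons (nat_lit 11) (nat_lit 0) (Step.U (nat_lit 6321) (Step.U (nat_lit 3621) (Step.D (nat_lit 3620) (Step.D (nat_lit 6320) (Step.D (nat_lit 9486) Step.done))))) (Scr.cons (nat_lit 9) (nat_lit 3) (Step.U (nat_lit 9004) (Step.B (nat_lit 2910) (Step.F (nat_lit 2959) (Step.U (nat_lit 6759) (Step.U (nat_lit 3941) (Step.U (nat_lit 2052)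 (Step.L (Step.L (Step.L (Step.L (Step.L (Step.L (Step.L (Step.L (Step.L (Step.L (Step.L (Step.L (Step.D (nat_lit 853) (Step.B (nat_lit 1229) (Step.D (nat_lit 3621) (Step.D (nat_lit 6321) (Step.B (nat_lit 2960) Step.done))))))))))))))))))))))) (Scr.cons (nat_lit 5) (nat_lit 2) (Step.U (nat_lit 9486) (Step.B (nat_lit 2908) (Step.U (nat_lit 9485) (Step.D (nat_lit 9486) (Step.F (nat_lit 2961) Step.done))))) Scr.nil))))))))))))))))))))))))))))))))))))))))
noncomputable def s74 : Scr := (Scr.cons (nat_lit 13) (nat_lit 3) (Step.U (nat_lit 6319) (Step.U (nat_lit 3620) (Step.F (nat_lit 1229) (Step.U (nat_lit 853) (Step.L (Step.L (Step.L (Step.L (Step.L (Step.L (Step.D (nat_lit 6730) Step.done))))))))))) (Scr.cons (nat_lit 12) (nat_lit 4) (Step.L (Step.L (Step.L (Step.L (Step.D (nat_lit 4896) Step.done))))) (Scr.cons (nat_lit 4) (nat_lit 0) (Step.L (Step.D (nat_lit 3915) (Step.B (nat_lit 1227) (Step.U (nat_lit 6316) (Step.D (nat_lit 6317) Step.done))))) (Scr.cons (nat_lit 11) (nat_lit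 0) (Step.U (nat_lit 2680) (Step.U (nat_lit 1307) (Step.L (Step.L (Step.D (nat_lit 4897) Step.done))))) (Scr.cons (nat_lit 7) (nat_lit 3) (Step.F (nat_lit 2965) (Step.L (Step.L (Step.L (Step.L (Step.L (Step.L (Step.L (Step.L (Step.L (Step.L (Step.L (Step.L (Step.L (Step.L (Step.L (Step.L (Step.D (nat_lit 1307) (Step.D (nat_lit 2680) (Step.B (nat_lit 2966) Step.done)))))))))))))))))))) (Scr.cons (nat_lit 5) (nat_lit 2) (Step.U (nat_lit 4897) (Step.B (nat_lit 2964) (Step.U (nat_lit 4896) (Step.D (nat_lit 4897) (Step.F (nat_lit 2967) Step.done))))) (Scr.cons (nat_lit 12) (nat_lit 1) (Step.U (nat_lit 4776) (Step.L (Step.L (Step.D (nat_lit 4776) (Step.D (nat_lit 7755) Step.done))))) (Scr.cons (nat_lit 9) (nat_lit 1) (Step.U (nat_lit 9484) (Step.U (nat_lit 6319) (Step.U (nat_lit 3620) (Step.U (nat_lit 1862) (Step.D (nat_lit 1863) (Step.B (nat_lit 1228) (Step.U (nat_lit 3619) (Step.L (Step.D (nat_lit 6317) (Step.F (nat_lit 2968) (Step.U (nat_lit 4897) (Step.L (Step.L (Step.L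 (Step.L (Step.L (Step.L (Step.L (Step.L (Step.L (Step.D (nat_lit 4776) (Step.B (nat_lit 2969) (Step.D (nat_lit 10767) Step.done))))))))))))))))))))))) (Scr.cons (nat_lit 11) (nat_lit 0) (Step.U (nat_lit 9896) (Step.F (nat_lit 2963) (Step.D (nat_lit 9484) (Step.B (nat_lit 2970) (Step.U (nat_lit 10767) (Step.D (nat_lit 10766) Step.done)))))) (Scr.cons (nat_lit 1) (nat_lit 1) (Step.D (nat_lit 10766) (Step.F (nat_lit 2971) Step.done)) (Scr.cons (nat_lit 11) (nat_lit 0) (Step.U (nat_lit 7756) (Step.U (nat_lit 4776) (Step.L (Step.L (Step.D (nat_lit 10765) Step.done))))) (Scr.cons (nat_lit 7) (nat_lit 6) (Step.F (nat_lit 2905) (Step.L (Step.L (Step.L (Step.L (Step.L (Step.L (Step.L (Step.D (nat_lit 3309) (Step.D (nat_lit 5864) (Step.B (nat_lit 2906) (Step.F (nat_lit 2962) (Step.U (nat_lit 9486) (Step.U (nat_lit 6320) (Step.D (nat_lit 6319) (Step.B (nat_lit 2963) (Step.D (nat_lit 9896) (Step.F (nat_lit 2972) (Step.U (nat_lit 7755) (Step.D (nat_lit 7756) (Step.B (nat_lit 2973)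 Step.done))))))))))))))))))))) (Scr.cons (nat_lit 1) (nat_lit 1) (Step.D (nat_lit 10765) (Step.F (nat_lit 2974) Step.done)) (Scr.cons (nat_lit 7) (nat_lit 3) (Step.L (Step.L (Step.L (Step.L (Step.L (Step.L (Step.L (Step.L (Step.L (Step.L (Step.L (Step.L (Step.L (Step.L (Step.B (nat_lit 2905) (Step.F (nat_lit 2975) (Step.L (Step.L (Step.L (Step.D (nat_lit 7753) (Step.D (nat_lit 10763) Step.done))))))))))))))))))))) (Scr.cons (nat_lit 1) (nat_lit 1) (Step.D (nat_lit 10763) (Step.F (nat_lit 2976) (Step.L Step.done))) (Scr.cons (nat_lit 1) (nat_lit 1) (Step.D (nat_lit 7753) (Step.B (nat_lit 2977) (Step.D (nat_lit 9015) Step.done))) (Scr.cons (nat_lit 1) (nat_lit 1) (Step.D (nat_lit 9015) (Step.F (nat_lit 2978) Step.done)) (Scr.cons (nat_lit 12) (nat_lit 1) (Step.U (nat_lit 3979) (Step.L (Step.L (Step.D (nat_lit 3979) (Step.D (nat_lit 6824) Step.done))))) (Scr.cons (nat_lit 11) (nat_lit 0) (Step.U (nat_lit 6219) (Step.U (nat_lit 3550) (Step.D (nat_lit 3549) (Step.D (nat_lit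 6218) (Step.D (nat_lit 9395) Step.done))))) (Scr.cons (nat_lit 13) (nat_lit 0) (Step.U (nat_lit 965) (Step.L (Step.L (Step.L (Step.L (Step.L (Step.L (Step.L (Step.L (Step.L (Step.D (nat_lit 2075) Step.done))))))))))) (Scr.cons (nat_lit 11) (nat_lit 0) (Step.U (nat_lit 3979) (Step.L (Step.D (nat_lit 2075) (Step.D (nat_lit 3978) (Step.D (nat_lit 6822) Step.done))))) (Scr.cons (nat_lit 16) (nat_lit 2) (Step.F (nat_lit 2981) (Step.U (nat_lit 6219) (Step.U (nat_lit 3550) (Step.L (Step.L (Step.L (Step.L (Step.L (Step.L (Step.L (Step.L (Step.L (Step.L (Step.L (Step.L (Step.L (Step.D (nat_lit 965) (Step.B (nat_lit 2982) (Step.D (nat_lit 3978) (Step.D (nat_lit 6822) (Step.F (nat_lit 2983) (Step.D (nat_lit 6824) (Step.D (nat_lit 9979) Step.done))))))))))))))))))))))) (Scr.cons (nat_lit 12) (nat_lit 4) (Step.U (nat_lit 9979) (Step.F (nat_lit 2980) (Step.D (nat_lit 6824) (Step.D (nat_lit 9979) (Step.F (nat_lit 2984) Step.done))))) (Scr.cons (nat_lit 11) (nat_lit 0) (Step.L (Step.L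 (Step.L (Step.L (Step.D (nat_lit 5352) Step.done))))) (Scr.cons (nat_lit 12) (nat_lit 1) (Step.L (Step.L (Step.L (Step.L (Step.D (nat_lit 5353) Step.done))))) (Scr.cons (nat_lit 12) (nat_lit 1) (Step.F (nat_lit 2986) (Step.D (nat_lit 5353) (Step.F (nat_lit 2987) (Step.B (nat_lit 2986) (Step.D (nat_lit 8406) Step.done))))) (Scr.cons (nat_lit 11) (nat_lit 0) (Step.L (Step.L (Step.L (Step.L (Step.D (nat_lit 2972) Step.done))))) (Scr.cons (nat_lit 12) (nat_lit 1) (Step.L (Step.L (Step.L (Step.L (Step.D (nat_lit 1470) Step.done))))) (Scr.cons (nat_lit 12) (nat_lit 1) (Step.L (Step.D (nat_lit 1470) (Step.F (nat_lit 2990) (Step.L (Step.D (nat_lit 2973) Step.done))))) (Scr.cons (nat_lit 12) (nat_lit 1) (Step.F (nat_lit 2989) (Step.D (nat_lit 2973) (Step.F (nat_lit 2991) (Step.B (nat_lit 2989) (Step.D (nat_lit 5356) Step.done))))) (Scr.cons (nat_lit 14) (nat_lit 2) (Step.F (nat_lit 2988) (Step.F (nat_lit 2986) (Step.L (Step.L (Step.L (Step.L (Step.L (Step.L (Step.L (Step.L (Step.L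 (Step.L (Step.L (Step.L (Step.L (Step.L (Step.L (Step.D (nat_lit 2972) (Step.B (nat_lit 2992) (Step.D (nat_lit 8411) Step.done)))))))))))))))))))) (Scr.cons (nat_lit 11) (nat_lit 0) (Step.U (nat_lit 3479) (Step.U (nat_lit 1775) (Step.D (nat_lit 1774) (Step.D (nat_lit 3477) (Step.D (nat_lit 6101) Step.done))))) (Scr.cons (nat_lit 12) (nat_lit 1) (Step.U (nat_lit 1775) (Step.L (Step.L (Step.D (nat_lit 1775) (Step.D (nat_lit 3478) Step.done))))) (Scr.cons (nat_lit 12) (nat_lit 1) (Step.U (nat_lit 3479) (Step.D (nat_lit 3478) (Step.F (nat_lit 2995) (Step.D (nat_lit 3479) (Step.D (nat_lit 6102) Step.done))))) (Scr.cons (nat_lit 12) (nat_lit 1) (Step.F (nat_lit 2994) (Step.D (nat_lit 6102) (Step.F (nat_lit 2996) (Step.B (nat_lit 2994) (Step.D (nat_lit 9261) Step.done))))) (Scr.cons (nat_lit 11) (nat_lit 0) (Step.U (nat_lit 6087) (Step.U (nat_lit 3465) (Step.L (Step.D (nat_lit 4250) (Step.D (nat_lit 7142) Step.done))))) (Scr.cons (nat_lit 12) (nat_lit 1) (Step.U (nat_lit 3465)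 (Step.L (Step.L (Step.D (nat_lit 3465) (Step.D (nat_lit 6086) Step.done))))) (Scr.cons (nat_lit 12) (nat_lit 1) (Step.U (nat_lit 6087) (Step.D (nat_lit 6086) (Step.F (nat_lit 2999) (Step.D (nat_lit 6087) (Step.D (nat_lit 9242) Step.done))))) (Scr.cons (nat_lit 12) (nat_lit 1) (Step.F (nat_lit 2998) (Step.D (nat_lit 9242) (Step.F (nat_lit 3000) (Step.B (nat_lit 2998) (Step.D (nat_lit 10244) Step.done))))) (Scr.cons (nat_lit 16) (nat_lit 1) (Step.F (nat_lit 3001) (Step.F (nat_lit 2998) (Step.U (nat_lit 6087) (Step.U (nat_lit 3465) (Step.L (Step.L (Step.L (Step.L (Step.L (Step.L (Step.L (Step.L (Step.L (Step.L (Step.L (Step.L (Step.L (Step.L (Step.L (Step.D (nat_lit 1774) (Step.D (nat_lit 3477) (Step.D (nat_lit 6101) (Step.D (nat_lit 9261) Step.done))))))))))))))))))))))) Scr.nil))))))))))))))))))))))))))))))))))))))))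
noncomputable def s75 : Scr := (Scr.cons (nat_lit 11) (nat_lit 0) (Step.U (nat_lit 2974) (Step.L (Step.L (Step.L (Step.D (nat_lit 5357) Step.done))))) (Scr.cons (nat_lit 14) (nat_lit 0) (Step.U (nat_lit 2974) (Step.L (Step.L (Step.L (Step.L (Step.L (Step.L (Step.L (Step.L (Step.L (Step.L (Step.L (Step.L (Step.L (Step.L (Step.L (Step.L (Step.D (nat_lit 1306) (Step.D (nat_lit 2676) (Step.D (nat_lit 4890) Step.done)))))))))))))))))))) (Scr.cons (nat_lit 12) (nat_lit 4) (Step.U (nat_lit 1306) (Step.L (Step.L (Step.D (nat_lit 1306) (Step.D (nat_lit 2675) Step.done))))) (Scr.cons (nat_lit 12) (nat_lit 4) (Step.U (nat_lit 2676) (Step.D (nat_lit 2675) (Step.F (nat_lit 3005) (Step.D (nat_lit 2676) (Step.D (nat_lit 4889) Step.done))))) (Scr.cons (nat_lit 12) (nat_lit 3) (Step.B (nat_lit 3004) (Step.U (nat_lit 4890) (Step.D (nat_lit 4889) (Step.F (nat_lit 3006) (Step.D (nat_lit 4890) Step.done))))) (Scr.cons (nat_lit 12) (nat_lit 1) (Step.F (nat_lit 3003) (Step.B (nat_lit 3004)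 (Step.F (nat_lit 3007) (Step.B (nat_lit 3003) (Step.D (nat_lit 8412) Step.done))))) (Scr.cons (nat_lit 11) (nat_lit 0) (Step.U (nat_lit 2677) (Step.L (Step.D (nat_lit 1306) (Step.D (nat_lit 2676) (Step.D (nat_lit 4890) Step.done))))) (Scr.cons (nat_lit 9) (nat_lit 0) (Step.L (Step.L (Step.L (Step.L (Step.L (Step.L (Step.L (Step.L (Step.L (Step.L (Step.L (Step.L (Step.L (Step.L (Step.L (Step.L (Step.L (Step.L (Step.L (Step.D (nat_lit 2677) (Step.B (nat_lit 3009) (Step.F (nat_lit 3004) (Step.B (nat_lit 3003) (Step.B (nat_lit 3008) Step.done)))))))))))))))))))))))) (Scr.cons (nat_lit 0) (nat_lit 1) (Step.B (nat_lit 3008) (Step.F (nat_lit 3010) (Step.L Step.done))) (Scr.cons (nat_lit 1) (nat_lit 1) (Step.B (nat_lit 3003) (Step.B (nat_lit 3011) (Step.L Step.done))) (Scr.cons (nat_lit 1) (nat_lit 1) (Step.D (nat_lit 2974) (Step.B (nat_lit 3012) (Step.D (nat_lit 4250) Step.done))) (Scr.cons (nat_lit 1) (nat_lit 1) (Step.U (nat_lit 7142) (Step.F (nat_lit 3013) (Step.L Step.done)))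 (Scr.cons (nat_lit 0) (nat_lit 1) (Step.U (nat_lit 10244) (Step.B (nat_lit 3014) (Step.L Step.done))) (Scr.cons (nat_lit 1) (nat_lit 0) (Step.F (nat_lit 3002) (Step.B (nat_lit 3015) (Step.L Step.done))) (Scr.cons (nat_lit 0) (nat_lit 1) (Step.B (nat_lit 2997) (Step.B (nat_lit 3016) (Step.L Step.done))) (Scr.cons (nat_lit 1) (nat_lit 1) (Step.B (nat_lit 2994) (Step.B (nat_lit 3017) (Step.L Step.done))) (Scr.cons (nat_lit 1) (nat_lit 1) (Step.D (nat_lit 3479) (Step.B (nat_lit 3018) (Step.L Step.done))) (Scr.cons (nat_lit 1) (nat_lit 1) (Step.D (nat_lit 1775) (Step.B (nat_lit 3019) (Step.D (nat_lit 2972) Step.done))) (Scr.cons (nat_lit 0) (nat_lit 1) (Step.U (nat_lit 5356) (Step.F (nat_lit 3020) (Step.L Step.done))) (Scr.cons (nat_lit 1) (nat_lit 1) (Step.U (nat_lit 8411) (Step.B (nat_lit 3021) (Step.L Step.done))) (Scr.cons (nat_lit 1) (nat_lit 1) (Step.B (nat_lit 2993) (Step.B (nat_lit 3022) (Step.L Step.done))) (Scr.cons (nat_lit 0) (nat_lit 1) (Step.B (nat_lit 2988)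 (Step.B (nat_lit 3023) (Step.L Step.done))) (Scr.cons (nat_lit 1) (nat_lit 1) (Step.B (nat_lit 2986) (Step.B (nat_lit 3024) (Step.D (nat_lit 3549) Step.done))) (Scr.cons (nat_lit 1) (nat_lit 1) (Step.U (nat_lit 6218) (Step.F (nat_lit 3025) (Step.L Step.done))) (Scr.cons (nat_lit 1) (nat_lit 1) (Step.U (nat_lit 9395) (Step.B (nat_lit 3026) (Step.L Step.done))) (Scr.cons (nat_lit 0) (nat_lit 1) (Step.B (nat_lit 2985) (Step.B (nat_lit 3027) (Step.L Step.done))) (Scr.cons (nat_lit 1) (nat_lit 0) (Step.D (nat_lit 9979) (Step.B (nat_lit 3028) (Step.L Step.done))) (Scr.cons (nat_lit 0) (nat_lit 1) (Step.B (nat_lit 2980) (Step.B (nat_lit 3029) (Step.L Step.done))) (Scr.cons (nat_lit 1) (nat_lit 1) (Step.D (nat_lit 3979) (Step.B (nat_lit 3030) (Step.D (nat_lit 2970) Step.done))) (Scr.cons (nat_lit 1) (nat_lit 1) (Step.D (nat_lit 2970) (Step.F (nat_lit 3031) Step.done)) (Scr.cons (nat_lit 4) (nat_lit 0) (Step.U (nat_lit 8405) (Step.L (Step.L (Step.L (Step.L (Step.D (nat_lit 9264)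 Step.done)))))) (Scr.cons (nat_lit 1) (nat_lit 0) (Step.D (nat_lit 9264) (Step.F (nat_lit 3033) Step.done)) (Scr.cons (nat_lit 16) (nat_lit 4) (Step.U (nat_lit 9887) (Step.L (Step.L (Step.L (Step.L (Step.L (Step.L (Step.L (Step.L (Step.L (Step.L (Step.L (Step.L (Step.L (Step.L (Step.L (Step.L (Step.L (Step.D (nat_lit 8405) (Step.F (nat_lit 3034) (Step.L (Step.L (Step.L (Step.D (nat_lit 8967) Step.done)))))))))))))))))))))))) (Scr.cons (nat_lit 1) (nat_lit 0) (Step.D (nat_lit 9887) (Step.B (nat_lit 3035) Step.done)) (Scr.cons (nat_lit 11) (nat_lit 0) (Step.L (Step.D (nat_lit 8967) (Step.F (nat_lit 3036) (Step.L (Step.L (Step.D (nat_lit 9886) Step.done)))))) (Scr.cons (nat_lit 1) (nat_lit 1) (Step.D (nat_lit 9886) (Step.F (nat_lit 3037) Step.done)) (Scr.cons (nat_lit 9) (nat_lit 5) (Step.U (nat_lit 3433) (Step.U (nat_lit 1748) (Step.U (nat_lit 773) (Step.L (Step.L (Step.L (Step.L (Step.L (Step.L (Step.L (Step.L (Step.L (Step.L (Step.L (Step.L (Step.L (Step.L (Step.L (Step.L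 (Step.L (Step.L (Step.L (Step.D (nat_lit 5580) Step.done))))))))))))))))))))))) (Scr.cons (nat_lit 12) (nat_lit 0) (Step.B (nat_lit 3039) (Step.U (nat_lit 5580) (Step.L (Step.L (Step.D (nat_lit 5580) Step.done))))) (Scr.cons (nat_lit 13) (nat_lit 3) (Step.L (Step.L (Step.L (Step.L (Step.L (Step.D (nat_lit 5580) (Step.F (nat_lit 3040) (Step.F (nat_lit 2938) (Step.L (Step.B (nat_lit 2939) (Step.D (nat_lit 8407) Step.done))))))))))) (Scr.cons (nat_lit 14) (nat_lit 6) (Step.U (nat_lit 6712) (Step.U (nat_lit 3911) (Step.L (Step.L (Step.L (Step.L (Step.L (Step.L (Step.L (Step.L (Step.L (Step.L (Step.L (Step.L (Step.L (Step.D (nat_lit 2971) (Step.D (nat_lit 5354) (Step.D (nat_lit 8407) (Step.F (nat_lit 3041) (Step.L Step.done)))))))))))))))))))) Scr.nil))))))))))))))))))))))))))))))))))))))))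
noncomputable def s76 : Scr := (Scr.cons (nat_lit 4) (nat_lit 0) (Step.U (nat_lit 5853) (Step.L (Step.L (Step.D (nat_lit 4924) (Step.D (nat_lit 7930) Step.done))))) (Scr.cons (nat_lit 12) (nat_lit 1) (Step.U (nat_lit 4924) (Step.L (Step.L (Step.D (nat_lit 4924) (Step.D (nat_lit 7929) Step.done))))) (Scr.cons (nat_lit 12) (nat_lit 1) (Step.U (nat_lit 7930) (Step.D (nat_lit 7929) (Step.F (nat_lit 3044) (Step.D (nat_lit 7930) (Step.D (nat_lit 10916) Step.done))))) (Scr.cons (nat_lit 11) (nat_lit 0) (Step.U (nat_lit 3296) (Step.L (Step.L (Step.D (nat_lit 3294) (Step.D (nat_lit 5836) Step.done))))) (Scr.cons (nat_lit 12) (nat_lit 1) (Step.L (Step.L (Step.L (Step.L (Step.D (nat_lit 3295) Step.done))))) (Scr.cons (nat_lit 12) (nat_lit 1) (Step.U (nat_lit 3296) (Step.D (nat_lit 3295) (Step.F (nat_lit 3047) (Step.D (nat_lit 3296) (Step.D (nat_lit 5837) Step.done))))) (Scr.cons (nat_lit 12) (nat_lit 1) (Step.F (nat_lit 3046) (Step.D (nat_lit 5837) (Step.F (nat_lit 3048) (Step.B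 (nat_lit 3046) (Step.D (nat_lit 8974) Step.done))))) (Scr.cons (nat_lit 16) (nat_lit 1) (Step.F (nat_lit 3049) (Step.F (nat_lit 3046) (Step.U (nat_lit 3296) (Step.L (Step.L (Step.L (Step.L (Step.L (Step.L (Step.L (Step.L (Step.L (Step.L (Step.L (Step.L (Step.L (Step.L (Step.L (Step.L (Step.L (Step.D (nat_lit 5853) (Step.B (nat_lit 3043) (Step.D (nat_lit 10916) Step.done))))))))))))))))))))))) (Scr.cons (nat_lit 11) (nat_lit 0) (Step.U (nat_lit 2034) (Step.L (Step.D (nat_lit 944) (Step.D (nat_lit 2033) (Step.D (nat_lit 3912) Step.done))))) (Scr.cons (nat_lit 12) (nat_lit 1) (Step.U (nat_lit 2034) (Step.L (Step.L (Step.D (nat_lit 2034) (Step.D (nat_lit 3913) Step.done))))) (Scr.cons (nat_lit 12) (nat_lit 1) (Step.F (nat_lit 3051) (Step.D (nat_lit 3913) (Step.F (nat_lit 3052) (Step.B (nat_lit 3051) (Step.D (nat_lit 6713) Step.done))))) (Scr.cons (nat_lit 14) (nat_lit 6) (Step.U (nat_lit 8976) (Step.U (nat_lit 5839) (Step.L (Step.L (Step.L (Step.L (Step.L (Step.L (Step.L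 (Step.L (Step.L (Step.L (Step.D (nat_lit 8967) (Step.F (nat_lit 3036) (Step.L (Step.L (Step.L (Step.L (Step.L (Step.D (nat_lit 6717) (Step.D (nat_lit 9882) Step.done))))))))))))))))))))) (Scr.cons (nat_lit 1) (nat_lit 1) (Step.D (nat_lit 9882) (Step.F (nat_lit 3054) Step.done)) (Scr.cons (nat_lit 4) (nat_lit 0) (Step.U (nat_lit 8975) (Step.D (nat_lit 8976) (Step.F (nat_lit 3055) (Step.U (nat_lit 6717) (Step.D (nat_lit 6718) (Step.D (nat_lit 9884) Step.done)))))) (Scr.cons (nat_lit 1) (nat_lit 0) (Step.D (nat_lit 9884) (Step.F (nat_lit 3056) Step.done)) (Scr.cons (nat_lit 11) (nat_lit 0) (Step.U (nat_lit 3917) (Step.L (Step.L (Step.D (nat_lit 3916) (Step.D (nat_lit 6719) Step.done))))) (Scr.cons (nat_lit 12) (nat_lit 1) (Step.U (nat_lit 3917) (Step.L (Step.L (Step.D (nat_lit 3917) (Step.D (nat_lit 6720) Step.done))))) (Scr.cons (nat_lit 12) (nat_lit 1) (Step.F (nat_lit 3058) (Step.D (nat_lit 6720) (Step.F (nat_lit 3059) (Step.B (nat_lit 3058) (Step.D (nat_lit 9885) Step.done)))))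 (Scr.cons (nat_lit 7) (nat_lit 5) (Step.F (nat_lit 3060) (Step.U (nat_lit 6719) (Step.U (nat_lit 3916) (Step.L (Step.L (Step.L (Step.L (Step.L (Step.L (Step.L (Step.L (Step.L (Step.L (Step.L (Step.L (Step.L (Step.D (nat_lit 2034) (Step.B (nat_lit 3051) (Step.B (nat_lit 3053) (Step.D (nat_lit 9879) Step.done)))))))))))))))))))) (Scr.cons (nat_lit 14) (nat_lit 0) (Step.L (Step.L (Step.L (Step.L (Step.L (Step.L (Step.L (Step.L (Step.L (Step.L (Step.D (nat_lit 5839) (Step.D (nat_lit 8975) (Step.F (nat_lit 3057) (Step.U (nat_lit 6718) (Step.L (Step.D (nat_lit 3916) (Step.D (nat_lit 6719) (Step.D (nat_lit 9885) (Step.B (nat_lit 3061) (Step.U (nat_lit 9879) (Step.D (nat_lit 9878) Step.done))))))))))))))))))))) (Scr.cons (nat_lit 1) (nat_lit 0) (Step.D (nat_lit 9878) (Step.F (nat_lit 3062) (Step.L Step.done))) (Scr.cons (nat_lit 0) (nat_lit 1) (Step.B (nat_lit 3053) (Step.B (nat_lit 3063) (Step.L Step.done))) (Scr.cons (nat_lit 1) (nat_lit 1) (Step.B (nat_lit 3051) (Step.B (nat_lit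 3064) (Step.L Step.done))) (Scr.cons (nat_lit 1) (nat_lit 1) (Step.D (nat_lit 2034) (Step.B (nat_lit 3065) (Step.D (nat_lit 3294) Step.done))) (Scr.cons (nat_lit 1) (nat_lit 1) (Step.U (nat_lit 5836) (Step.F (nat_lit 3066) (Step.L Step.done))) (Scr.cons (nat_lit 0) (nat_lit 1) (Step.U (nat_lit 8974) (Step.B (nat_lit 3067) (Step.L Step.done))) (Scr.cons (nat_lit 1) (nat_lit 0) (Step.F (nat_lit 3050) (Step.B (nat_lit 3068) (Step.L Step.done))) (Scr.cons (nat_lit 0) (nat_lit 1) (Step.B (nat_lit 3045) (Step.B (nat_lit 3069) (Step.L Step.done))) (Scr.cons (nat_lit 1) (nat_lit 0) (Step.B (nat_lit 3043) (Step.B (nat_lit 3070) (Step.L Step.done))) (Scr.cons (nat_lit 1) (nat_lit 0) (Step.D (nat_lit 5853) (Step.B (nat_lit 3071) (Step.D (nat_lit 3911) Step.done))) (Scr.cons (nat_lit 0) (nat_lit 1) (Step.U (nat_lit 6712) (Step.F (nat_lit 3072) (Step.L Step.done))) (Scr.cons (nat_lit 1) (nat_lit 0) (Step.F (nat_lit 3042) (Step.B (nat_lit 3073) (Step.D (nat_lit 8993) Step.done))) (Scr.cons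 (nat_lit 1) (nat_lit 0) (Step.D (nat_lit 8993) (Step.F (nat_lit 3074) Step.done)) (Scr.cons (nat_lit 8) (nat_lit 1) (Step.U (nat_lit 4923) (Step.U (nat_lit 2694) (Step.U (nat_lit 1313) (Step.L (Step.L (Step.L (Step.L (Step.L (Step.L (Step.L (Step.L (Step.L (Step.L (Step.L (Step.D (nat_lit 7928) Step.done))))))))))))))) (Scr.cons (nat_lit 11) (nat_lit 0) (Step.U (nat_lit 2127) (Step.L (Step.L (Step.L (Step.D (nat_lit 4059) Step.done))))) (Scr.cons (nat_lit 14) (nat_lit 3) (Step.F (nat_lit 3077) (Step.U (nat_lit 2127) (Step.L (Step.L (Step.L (Step.L (Step.L (Step.L (Step.L (Step.L (Step.L (Step.L (Step.L (Step.L (Step.L (Step.L (Step.L (Step.L (Step.L (Step.D (nat_lit 3910) Step.done)))))))))))))))))))) (Scr.cons (nat_lit 1) (nat_lit 1) (Step.D (nat_lit 7930) (Step.B (nat_lit 3070) (Step.L Step.done))) (Scr.cons (nat_lit 1) (nat_lit 1) (Step.D (nat_lit 4924) (Step.B (nat_lit 3079) (Step.D (nat_lit 3910) Step.done))) (Scr.cons (nat_lit 0) (nat_lit 1) (Step.B (nat_lit 3078)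 (Step.F (nat_lit 3080) (Step.L Step.done))) (Scr.cons (nat_lit 1) (nat_lit 1) (Step.B (nat_lit 3077) (Step.B (nat_lit 3081) (Step.L Step.done))) Scr.nil))))))))))))))))))))))))))))))))))))))))
noncomputable def s77 : Scr := (Scr.cons (nat_lit 1) (nat_lit 1) (Step.D (nat_lit 2127) (Step.B (nat_lit 3082) (Step.D (nat_lit 1313) Step.done))) (Scr.cons (nat_lit 0) (nat_lit 1) (Step.U (nat_lit 2694) (Step.F (nat_lit 3083) (Step.L Step.done))) (Scr.cons (nat_lit 1) (nat_lit 1) (Step.U (nat_lit 4923) (Step.B (nat_lit 3084) (Step.D (nat_lit 4060) Step.done))) (Scr.cons (nat_lit 0) (nat_lit 1) (Step.F (nat_lit 3076) (Step.B (nat_lit 3085) (Step.D (nat_lit 6910) Step.done))) (Scr.cons (nat_lit 1) (nat_lit 1) (Step.D (nat_lit 7928) (Step.B (nat_lit 3086) (Step.D (nat_lit 10046) Step.done))) (Scr.cons (nat_lit 1) (nat_lit 1) (Step.D (nat_lit 10046) (Step.F (nat_lit 3087) Step.done)) (Scr.cons (nat_lit 13) (nat_lit 3) (Step.U (nat_lit 6910) (Step.U (nat_lit 4060) (Step.L (Step.L (Step.L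 (Step.L (Step.L (Step.L (Step.L (Step.L (Step.L Step.done))))))))))) (Scr.cons (nat_lit 4) (nat_lit 0) (Step.L (Step.L (Step.F (nat_lit 3088) (Step.B (nat_lit 3089) (Step.L Step.done))))) (Scr.cons (nat_lit 13) (nat_lit 3) (Step.L (Step.L (Step.L (Step.L (Step.L (Step.L (Step.L (Step.D (nat_lit 1306) (Step.B (nat_lit 3005) (Step.D (nat_lit 4888) (Step.D (nat_lit 7889) Step.done))))))))))) (Scr.cons (nat_lit 0) (nat_lit 1) (Step.F (nat_lit 3004) (Step.B (nat_lit 3012) (Step.L Step.done))) (Scr.cons (nat_lit 1) (nat_lit 0) (Step.D (nat_lit 4890) (Step.B (nat_lit 3092) (Step.L Step.done))) (Scr.cons (nat_lit 1) (nat_lit 0) (Step.D (nat_lit 2676) (Step.B (nat_lit 3093) (Step.L Step.done))) (Scr.cons (nat_lit 0) (nat_lit 1) (Step.U (nat_lit 2675) (Step.B (nat_lit 3094) (Step.L Step.done))) (Scr.cons (nat_lit 1) (nat_lit 0) (Step.U (nat_lit 4888) (Step.B (nat_lit 3095) (Step.D (nat_lit 4251) Step.done))) (Scr.cons (nat_lit 15) (nat_lit 0) (Step.U (nat_lit 4251) (Step.L (Step.L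 (Step.L (Step.L (Step.L (Step.L (Step.L (Step.L (Step.L (Step.L (Step.L (Step.L (Step.L (Step.D (nat_lit 7138) Step.done))))))))))))))) (Scr.cons (nat_lit 12) (nat_lit 4) (Step.U (nat_lit 7138) (Step.L (Step.L (Step.D (nat_lit 7138) (Step.F (nat_lit 3097) Step.done))))) (Scr.cons (nat_lit 0) (nat_lit 1) (Step.U (nat_lit 7889) (Step.B (nat_lit 3096) (Step.F (nat_lit 3098) Step.done))) (Scr.cons (nat_lit 1) (nat_lit 1) (Step.B (nat_lit 3091) (Step.B (nat_lit 3099) (Step.D (nat_lit 10237) Step.done))) (Scr.cons (nat_lit 1) (nat_lit 1) (Step.D (nat_lit 10237) (Step.F (nat_lit 3100) Step.done)) (Scr.cons (nat_lit 4) (nat_lit 0) (Step.L (Step.F (nat_lit 3101) (Step.U (nat_lit 7138) (Step.L (Step.L Step.done))))) (Scr.cons (nat_lit 14) (nat_lit 5) (Step.U (nat_lit 7895) (Step.L (Step.L (Step.L (Step.L (Step.L (Step.L (Step.L (Step.L (Step.L (Step.L (Step.L (Step.L (Step.L (Step.L (Step.L (Step.L (Step.L (Step.L (Step.L (Step.D (nat_lit 10242) Step.done))))))))))))))))))))) (Scr.cons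 (nat_lit 11) (nat_lit 0) (Step.U (nat_lit 7895) (Step.L (Step.L (Step.L (Step.D (nat_lit 10890) Step.done))))) (Scr.cons (nat_lit 1) (nat_lit 0) (Step.D (nat_lit 10242) (Step.F (nat_lit 3103) (Step.B (nat_lit 3104) Step.done))) (Scr.cons (nat_lit 1) (nat_lit 0) (Step.D (nat_lit 10890) (Step.F (nat_lit 3105) (Step.D (nat_lit 10243) Step.done))) (Scr.cons (nat_lit 1) (nat_lit 0) (Step.D (nat_lit 10243) (Step.F (nat_lit 3106) Step.done)) (Scr.cons (nat_lit 13) (nat_lit 2) (Step.L (Step.L (Step.L (Step.L (Step.L (Step.L (Step.L (Step.L (Step.L (Step.B (nat_lit 2214) (Step.D (nat_lit 8839) Step.done))))))))))) (Scr.cons (nat_lit 0) (nat_lit 0) (Step.B (nat_lit 3108) (Step.F (nat_lit 1867) Step.done)) (Scr.cons (nat_lit 1) (nat_lit 1) (Step.B (nat_lit 1835) (Step.B (nat_lit 2266) (Step.L Step.done))) (Scr.cons (nat_lit 1) (nat_lit 1) (Step.U (nat_lit 5358) (Step.B (nat_lit 3110) (Step.D (nat_lit 4287) Step.done))) (Scr.cons (nat_lit 1) (nat_lit 1) (Step.U (nat_lit 8415) (Step.B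 (nat_lit 3111) (Step.D (nat_lit 7188) Step.done))) (Scr.cons (nat_lit 0) (nat_lit 1) (Step.B (nat_lit 3109) (Step.B (nat_lit 3112) (Step.D (nat_lit 10279) Step.done))) (Scr.cons (nat_lit 0) (nat_lit 1) (Step.D (nat_lit 10279) (Step.F (nat_lit 3113) Step.done)) (Scr.cons (nat_lit 7) (nat_lit 1) (Step.L (Step.L (Step.F (nat_lit 3114) (Step.U (nat_lit 7188) (Step.U (nat_lit 4287) (Step.L (Step.L (Step.L (Step.L (Step.L (Step.L (Step.L (Step.L (Step.L (Step.L (Step.L (Step.L (Step.L (Step.L (Step.L (Step.D (nat_lit 9241) Step.done))))))))))))))))))))) (Scr.cons (nat_lit 1) (nat_lit 1) (Step.D (nat_lit 9241) (Step.F (nat_lit 3115) (Step.D (nat_lit 10556) Step.done))) (Scr.cons (nat_lit 1) (nat_lit 1) (Step.D (nat_lit 10556) (Step.F (nat_lit 3116) Step.done)) (Scr.cons (nat_lit 12) (nat_lit 4) (Step.U (nat_lit 5138) (Step.L (Step.L (Step.D (nat_lit 5138) (Step.D (nat_lit 8155) Step.done))))) (Scr.cons (nat_lit 12) (nat_lit 4) (Step.U (nat_lit 8156) (Step.D (nat_lit 8155) (Step.F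 (nat_lit 3118) (Step.D (nat_lit 8156) (Step.D (nat_lit 11125) Step.done))))) (Scr.cons (nat_lit 11) (nat_lit 0) (Step.U (nat_lit 6693) (Step.L (Step.D (nat_lit 3895) (Step.D (nat_lit 6692) (Step.D (nat_lit 9852) Step.done))))) (Scr.cons (nat_lit 14) (nat_lit 3) (Step.F (nat_lit 3120) (Step.U (nat_lit 6693) (Step.L (Step.L (Step.L (Step.L (Step.L (Step.L (Step.L (Step.L (Step.L (Step.L (Step.L (Step.L (Step.L (Step.L (Step.L (Step.L (Step.L (Step.D (nat_lit 9474) Step.done)))))))))))))))))))) (Scr.cons (nat_lit 11) (nat_lit 0) (Step.U (nat_lit 3856) (Step.U (nat_lit 2002) (Step.L (Step.L (Step.L Step.done))))) Scr.nil))))))))))))))))))))))))))))))))))))))))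
noncomputable def s78 : Scr := (Scr.cons (nat_lit 11) (nat_lit 0) (Step.U (nat_lit 3885) (Step.U (nat_lit 2019) (Step.L (Step.D (nat_lit 3883) (Step.D (nat_lit 6677) Step.done))))) (Scr.cons (nat_lit 12) (nat_lit 1) (Step.U (nat_lit 2019) (Step.L (Step.L (Step.D (nat_lit 2019) (Step.D (nat_lit 3884) Step.done))))) (Scr.cons (nat_lit 12) (nat_lit 1) (Step.U (nat_lit 3885) (Step.D (nat_lit 3884) (Step.F (nat_lit 3124) (Step.D (nat_lit 3885) (Step.D (nat_lit 6678) Step.done))))) (Scr.cons (nat_lit 12) (nat_lit 1) (Step.F (nat_lit 3123) (Step.D (nat_lit 6678) (Step.F (nat_lit 3125) (Step.B (nat_lit 3123) (Step.D (nat_lit 9841) Step.done))))) (Scr.cons (nat_lit 12) (nat_lit 1) (Step.U (nat_lit 3605) (Step.L (Step.L (Step.D (nat_lit 3605) (Step.D (nat_lit 6305) Step.done))))) (Scr.cons (nat_lit 7) (nat_lit 5) (Step.F (nat_lit 3126) (Step.U (nat_lit 6677) (Step.U (nat_lit 3883) (Step.L (Step.L (Step.L (Step.L (Step.L (Step.L (Step.L (Step.L (Step.L (Step.L (Step.L (Step.L (Step.L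 (Step.L (Step.D (nat_lit 3605) (Step.B (nat_lit 3127) (Step.D (nat_lit 9477) Step.done)))))))))))))))))))) (Scr.cons (nat_lit 12) (nat_lit 1) (Step.U (nat_lit 2002) (Step.L (Step.L (Step.D (nat_lit 2002) (Step.D (nat_lit 3855) Step.done))))) (Scr.cons (nat_lit 11) (nat_lit 0) (Step.U (nat_lit 6655) (Step.U (nat_lit 3863) (Step.D (nat_lit 3862) (Step.D (nat_lit 6653) (Step.D (nat_lit 9821) Step.done))))) (Scr.cons (nat_lit 12) (nat_lit 1) (Step.L (Step.L (Step.L (Step.L (Step.D (nat_lit 2005) Step.done))))) (Scr.cons (nat_lit 12) (nat_lit 4) (Step.U (nat_lit 3862) (Step.F (nat_lit 3131) (Step.D (nat_lit 2005) (Step.D (nat_lit 3862) (Step.D (nat_lit 6652) Step.done))))) (Scr.cons (nat_lit 12) (nat_lit 4) (Step.U (nat_lit 6653) (Step.D (nat_lit 6652) (Step.F (nat_lit 3132) (Step.D (nat_lit 6653) (Step.D (nat_lit 9820) Step.done))))) (Scr.cons (nat_lit 11) (nat_lit 0) (Step.U (nat_lit 2511) (Step.U (nat_lit 1211) (Step.D (nat_lit 1210) (Step.D (nat_lit 2509) (Step.D (nat_lit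 4639) Step.done))))) (Scr.cons (nat_lit 12) (nat_lit 1) (Step.U (nat_lit 4311) (Step.L (Step.L (Step.D (nat_lit 4311) (Step.D (nat_lit 7231) Step.done))))) (Scr.cons (nat_lit 12) (nat_lit 1) (Step.U (nat_lit 7232) (Step.D (nat_lit 7231) (Step.F (nat_lit 3135) (Step.D (nat_lit 7232) (Step.D (nat_lit 10314) Step.done))))) (Scr.cons (nat_lit 12) (nat_lit 1) (Step.L (Step.D (nat_lit 196) (Step.F (nat_lit 43) (Step.L (Step.D (nat_lit 482) Step.done))))) (Scr.cons (nat_lit 12) (nat_lit 1) (Step.U (nat_lit 1211) (Step.F (nat_lit 3137) (Step.D (nat_lit 482) (Step.D (nat_lit 1211) (Step.D (nat_lit 2510) Step.done))))) (Scr.cons (nat_lit 12) (nat_lit 1) (Step.U (nat_lit 2511) (Step.D (nat_lit 2510) (Step.F (nat_lit 3138) (Step.D (nat_lit 2511) (Step.D (nat_lit 4642) Step.done))))) (Scr.cons (nat_lit 12) (nat_lit 1) (Step.F (nat_lit 3134) (Step.D (nat_lit 4642) (Step.F (nat_lit 3139) (Step.B (nat_lit 3134) (Step.D (nat_lit 7598) Step.done))))) (Scr.cons (nat_lit 11) (nat_lit 0)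 (Step.U (nat_lit 4632) (Step.U (nat_lit 2505) (Step.L (Step.D (nat_lit 4630) (Step.D (nat_lit 7588) Step.done))))) (Scr.cons (nat_lit 12) (nat_lit 1) (Step.U (nat_lit 2505) (Step.L (Step.L (Step.D (nat_lit 2505) (Step.D (nat_lit 4631) Step.done))))) (Scr.cons (nat_lit 12) (nat_lit 1) (Step.U (nat_lit 4632) (Step.D (nat_lit 4631) (Step.F (nat_lit 3142) (Step.D (nat_lit 4632) (Step.D (nat_lit 7589) Step.done))))) (Scr.cons (nat_lit 12) (nat_lit 1) (Step.F (nat_lit 3141) (Step.D (nat_lit 7589) (Step.F (nat_lit 3143) (Step.B (nat_lit 3141) (Step.D (nat_lit 10619) Step.done))))) (Scr.cons (nat_lit 14) (nat_lit 2) (Step.F (nat_lit 3144) (Step.F (nat_lit 3141) (Step.U (nat_lit 4632) (Step.U (nat_lit 2505) (Step.L (Step.L (Step.L (Step.L (Step.L (Step.L (Step.L (Step.L (Step.L (Step.L (Step.D (nat_lit 482) (Step.D (nat_lit 1210) (Step.D (nat_lit 2509) (Step.D (nat_lit 4639) (Step.B (nat_lit 3140) (Step.D (nat_lit 10625) Step.done)))))))))))))))))))) (Scr.cons (nat_lit 11) (nat_lit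 0) (Step.L (Step.L (Step.D (nat_lit 4) (Step.D (nat_lit 37) (Step.D (nat_lit 131) Step.done))))) (Scr.cons (nat_lit 12) (nat_lit 1) (Step.F (nat_lit 3146) (Step.L (Step.L (Step.B (nat_lit 3146) (Step.D (nat_lit 391) Step.done))))) (Scr.cons (nat_lit 14) (nat_lit 4) (Step.U (nat_lit 3773) (Step.U (nat_lit 1951) (Step.L (Step.L (Step.L (Step.L (Step.L (Step.L (Step.L (Step.L (Step.L (Step.L (Step.L (Step.D (nat_lit 4) (Step.D (nat_lit 37) (Step.D (nat_lit 131) (Step.B (nat_lit 3147) (Step.D (nat_lit 1019) (Step.D (nat_lit 2170) (Step.D (nat_lit 4128) Step.done)))))))))))))))))))) (Scr.cons (nat_lit 11) (nat_lit 0) (Step.F (nat_lit 3148) (Step.U (nat_lit 3773) (Step.U (nat_lit 1951) (Step.L (Step.D (nat_lit 3772) Step.done))))) (Scr.cons (nat_lit 11) (nat_lit 0) (Step.U (nat_lit 2172) (Step.U (nat_lit 1020) (Step.D (nat_lit 1019) (Step.D (nat_lit 2170) (Step.D (nat_lit 4129) Step.done))))) (Scr.cons (nat_lit 14) (nat_lit 6) (Step.U (nat_lit 7233) (Step.D (nat_lit 7234) (Step.F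 (nat_lit 2310) (Step.D (nat_lit 7235) (Step.B (nat_lit 2314) (Step.U (nat_lit 9680) (Step.U (nat_lit 6532) (Step.L (Step.L (Step.L (Step.L (Step.L (Step.D (nat_lit 3772) (Step.F (nat_lit 3149) (Step.U (nat_lit 4128) (Step.D (nat_lit 4129) (Step.F (nat_lit 3150) (Step.D (nat_lit 4132) (Step.D (nat_lit 6993) (Step.D (nat_lit 10121) Step.done)))))))))))))))))))) (Scr.cons (nat_lit 4) (nat_lit 0) (Step.B (nat_lit 3151) (Step.U (nat_lit 10121) (Step.U (nat_lit 6993) (Step.D (nat_lit 6994) (Step.D (nat_lit 10122) Step.done))))) (Scr.cons (nat_lit 1) (nat_lit 1) (Step.U (nat_lit 8074) (Step.B (nat_lit 2319) (Step.L Step.done))) (Scr.cons (nat_lit 0) (nat_lit 1) (Step.B (nat_lit 2312) (Step.B (nat_lit 3153) (Step.L Step.done))) (Scr.cons (nat_lit 1) (nat_lit 0) (Step.D (nat_lit 7234) (Step.B (nat_lit 3154) (Step.L Step.done))) (Scr.cons (nat_lit 0) (nat_lit 1) (Step.U (nat_lit 7233) (Step.B (nat_lit 3155) (Step.L Step.done))) (Scr.cons (nat_lit 1) (nat_lit 1) (Step.F (nat_lit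 3152) (Step.B (nat_lit 3156) (Step.L Step.done))) (Scr.cons (nat_lit 1) (nat_lit 1) (Step.D (nat_lit 10122) (Step.B (nat_lit 3157) (Step.D (nat_lit 7114) Step.done))) (Scr.cons (nat_lit 1) (nat_lit 1) (Step.D (nat_lit 7114) (Step.F (nat_lit 3158) Step.done)) (Scr.cons (nat_lit 12) (nat_lit 1) (Step.U (nat_lit 1020) (Step.F (nat_lit 3147) (Step.D (nat_lit 391) (Step.D (nat_lit 1020) (Step.D (nat_lit 2171) Step.done))))) (Scr.cons (nat_lit 12) (nat_lit 1) (Step.U (nat_lit 2172) (Step.D (nat_lit 2171) (Step.F (nat_lit 3160) (Step.D (nat_lit 2172) (Step.D (nat_lit 4132) Step.done))))) (Scr.cons (nat_lit 12) (nat_lit 1) (Step.L (Step.L (Step.L (Step.L (Step.D (nat_lit 2747) Step.done))))) Scr.nil))))))))))))))))))))))))))))))))))))))))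
noncomputable def s79 : Scr := (Scr.cons (nat_lit 14) (nat_lit 6) (Step.U (nat_lit 10976) (Step.U (nat_lit 8003) (Step.U (nat_lit 4993) (Step.F (nat_lit 3162) (Step.L (Step.L (Step.L (Step.L (Step.L (Step.L (Step.L (Step.L (Step.L (Step.L (Step.L (Step.L (Step.L (Step.L (Step.D (nat_lit 8009) (Step.D (nat_lit 10982) Step.done)))))))))))))))))))) (Scr.cons (nat_lit 4) (nat_lit 0) (Step.B (nat_lit 3163) (Step.U (nat_lit 10982) (Step.U (nat_lit 8009) (Step.D (nat_lit 8010) (Step.D (nat_lit 10983) Step.done))))) (Scr.cons (nat_lit 12) (nat_lit 4) (Step.L (Step.L (Step.L (Step.L (Step.D (nat_lit 2025) Step.done))))) (Scr.cons (nat_lit 12) (nat_lit 4) (Step.L (Step.L (Step.L (Step.L (Step.D (nat_lit 3022) Step.done))))) (Scr.cons (nat_lit 13) (nat_lit 2) (Step.U (nat_lit 3896) (Step.U (nat_lit 2025) (Step.L (Step.L (Step.L (Step.L (Step.L (Step.L (Step.L (Step.B (nat_lit 3166) (Step.D (nat_lit 5437) Step.done))))))))))) (Scr.cons (nat_lit 12) (nat_lit 1) (Step.L (Step.L (Step.L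 (Step.L (Step.D (nat_lit 4777) Step.done))))) (Scr.cons (nat_lit 12) (nat_lit 1) (Step.L (Step.D (nat_lit 4777) (Step.F (nat_lit 3168) (Step.L (Step.D (nat_lit 4892) Step.done))))) (Scr.cons (nat_lit 7) (nat_lit 2) (Step.U (nat_lit 7011) (Step.L (Step.L (Step.L (Step.L (Step.L (Step.L (Step.L (Step.L (Step.L (Step.L (Step.D (nat_lit 9406) (Step.F (nat_lit 2975) (Step.L (Step.L (Step.L (Step.L (Step.L (Step.D (nat_lit 4892) (Step.D (nat_lit 7892) (Step.D (nat_lit 10887) Step.done))))))))))))))))))))) (Scr.cons (nat_lit 11) (nat_lit 0) (Step.U (nat_lit 2179) (Step.U (nat_lit 1024) (Step.D (nat_lit 1023) (Step.D (nat_lit 2177) (Step.D (nat_lit 4140) Step.done))))) (Scr.cons (nat_lit 12) (nat_lit 1) (Step.U (nat_lit 1024) (Step.L (Step.L (Step.D (nat_lit 1024) (Step.D (nat_lit 2178) Step.done))))) (Scr.cons (nat_lit 12) (nat_lit 1) (Step.U (nat_lit 2179) (Step.D (nat_lit 2178) (Step.F (nat_lit 3172) (Step.D (nat_lit 2179) (Step.D (nat_lit 4141) Step.done))))) (Scr.cons (nat_lit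 12) (nat_lit 1) (Step.F (nat_lit 3171) (Step.D (nat_lit 4141) (Step.F (nat_lit 3173) (Step.B (nat_lit 3171) (Step.D (nat_lit 7004) Step.done))))) (Scr.cons (nat_lit 14) (nat_lit 2) (Step.F (nat_lit 3174) (Step.F (nat_lit 3171) (Step.U (nat_lit 2179) (Step.U (nat_lit 1024) (Step.L (Step.L (Step.L (Step.L (Step.L (Step.L (Step.L (Step.L (Step.L (Step.L (Step.L (Step.L (Step.L (Step.L (Step.L (Step.D (nat_lit 7011) Step.done)))))))))))))))))))) (Scr.cons (nat_lit 1) (nat_lit 1) (Step.D (nat_lit 10887) (Step.F (nat_lit 3170) (Step.F (nat_lit 3175) Step.done))) (Scr.cons (nat_lit 1) (nat_lit 1) (Step.D (nat_lit 7892) (Step.B (nat_lit 3176) (Step.D (nat_lit 10130) Step.done))) (Scr.cons (nat_lit 1) (nat_lit 1) (Step.D (nat_lit 10130) (Step.F (nat_lit 3177) Step.done)) (Scr.cons (nat_lit 9) (nat_lit 1) (Step.L (Step.L (Step.L (Step.L (Step.L (Step.L (Step.L (Step.L (Step.B (nat_lit 3169) (Step.F (nat_lit 3178) (Step.U (nat_lit 7004) (Step.U (nat_lit 4140) (Step.U (nat_lit 2177)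 (Step.U (nat_lit 1023) (Step.L (Step.L (Step.L (Step.L (Step.L (Step.L (Step.B (nat_lit 3165) (Step.D (nat_lit 3896) (Step.B (nat_lit 3167) (Step.D (nat_lit 8518) Step.done)))))))))))))))))))))))) (Scr.cons (nat_lit 1) (nat_lit 1) (Step.D (nat_lit 8518) (Step.F (nat_lit 3179) (Step.L Step.done))) (Scr.cons (nat_lit 0) (nat_lit 1) (Step.B (nat_lit 3167) (Step.B (nat_lit 3180) (Step.L Step.done))) (Scr.cons (nat_lit 1) (nat_lit 1) (Step.D (nat_lit 3896) (Step.B (nat_lit 3181) (Step.L Step.done))) (Scr.cons (nat_lit 0) (nat_lit 1) (Step.B (nat_lit 3165) (Step.B (nat_lit 3182) (Step.D (nat_lit 2747) Step.done))) (Scr.cons (nat_lit 1) (nat_lit 0) (Step.U (nat_lit 4993) (Step.F (nat_lit 3183) (Step.L Step.done))) (Scr.cons (nat_lit 1) (nat_lit 0) (Step.U (nat_lit 8003) (Step.B (nat_lit 3184) (Step.L Step.done))) (Scr.cons (nat_lit 0) (nat_lit 1) (Step.U (nat_lit 10976) (Step.B (nat_lit 3185) (Step.L Step.done))) (Scr.cons (nat_lit 1) (nat_lit 1) (Step.F (nat_lit 3164) (Step.B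 (nat_lit 3186) (Step.D (nat_lit 3897) Step.done))) (Scr.cons (nat_lit 1) (nat_lit 1) (Step.D (nat_lit 10983) (Step.B (nat_lit 3187) (Step.D (nat_lit 6694) Step.done))) (Scr.cons (nat_lit 1) (nat_lit 1) (Step.D (nat_lit 8010) (Step.B (nat_lit 3188) (Step.D (nat_lit 9854) Step.done))) (Scr.cons (nat_lit 1) (nat_lit 1) (Step.D (nat_lit 9854) (Step.F (nat_lit 3189) Step.done)) (Scr.cons (nat_lit 11) (nat_lit 0) (Step.U (nat_lit 6992) (Step.U (nat_lit 4131) (Step.D (nat_lit 4130) (Step.D (nat_lit 6990) (Step.D (nat_lit 10119) Step.done))))) (Scr.cons (nat_lit 9) (nat_lit 3) (Step.U (nat_lit 8011) (Step.U (nat_lit 5000) (Step.L (Step.F (nat_lit 3190) (Step.U (nat_lit 6694) (Step.U (nat_lit 3897) (Step.L (Step.L (Step.L (Step.L (Step.L (Step.L (Step.L (Step.L (Step.L (Step.L (Step.L (Step.B (nat_lit 3146) (Step.B (nat_lit 3147) (Step.D (nat_lit 1020) (Step.B (nat_lit 3160) (Step.D (nat_lit 4131) (Step.D (nat_lit 6992) (Step.B (nat_lit 3191) Step.done))))))))))))))))))))))))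 (Scr.cons (nat_lit 1) (nat_lit 0) (Step.D (nat_lit 10119) (Step.F (nat_lit 3192) (Step.D (nat_lit 10985) Step.done))) (Scr.cons (nat_lit 1) (nat_lit 0) (Step.D (nat_lit 10985) (Step.F (nat_lit 3193) Step.done)) (Scr.cons (nat_lit 11) (nat_lit 0) (Step.U (nat_lit 2749) (Step.L (Step.L (Step.L (Step.D (nat_lit 5000) Step.done))))) (Scr.cons (nat_lit 12) (nat_lit 1) (Step.U (nat_lit 2749) (Step.L (Step.L (Step.D (nat_lit 2749) (Step.D (nat_lit 5002) Step.done))))) (Scr.cons (nat_lit 12) (nat_lit 1) (Step.F (nat_lit 3195) (Step.D (nat_lit 5002) (Step.F (nat_lit 3196) (Step.B (nat_lit 3195) (Step.D (nat_lit 8011) Step.done))))) (Scr.cons (nat_lit 7) (nat_lit 1) (Step.U (nat_lit 7596) (Step.U (nat_lit 4638) (Step.U (nat_lit 2509) (Step.U (nat_lit 1210) (Step.F (nat_lit 3137) (Step.L (Step.L (Step.L (Step.L (Step.L (Step.L (Step.L (Step.L (Step.L (Step.L (Step.L (Step.L (Step.D (nat_lit 2749) (Step.D (nat_lit 5002) (Step.D (nat_lit 8014) Step.done)))))))))))))))))))) (Scr.cons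 (nat_lit 11) (nat_lit 0) (Step.U (nat_lit 7597) (Step.D (nat_lit 7596) (Step.B (nat_lit 3198) (Step.U (nat_lit 8014) (Step.D (nat_lit 8013) Step.done))))) (Scr.cons (nat_lit 12) (nat_lit 4) (Step.U (nat_lit 1210) (Step.F (nat_lit 3137) (Step.D (nat_lit 482) (Step.D (nat_lit 1210) (Step.D (nat_lit 2508) Step.done))))) (Scr.cons (nat_lit 12) (nat_lit 4) (Step.U (nat_lit 2509) (Step.D (nat_lit 2508) (Step.F (nat_lit 3200) (Step.D (nat_lit 2509) (Step.D (nat_lit 4638) Step.done))))) (Scr.cons (nat_lit 16) (nat_lit 5) (Step.L (Step.L (Step.L (Step.L (Step.L (Step.B (nat_lit 3159) (Step.U (nat_lit 6994) (Step.F (nat_lit 3161) (Step.U (nat_lit 2172) (Step.D (nat_lit 2171) (Step.D (nat_lit 4130) (Step.D (nat_lit 6990) (Step.F (nat_lit 3194) (Step.F (nat_lit 3197) (Step.F (nat_lit 3195) (Step.D (nat_lit 5002) (Step.D (nat_lit 8013) (Step.F (nat_lit 3199) (Step.U (nat_lit 7597) (Step.F (nat_lit 3201) (Step.D (nat_lit 4639) (Step.D (nat_lit 7598) (Step.D (nat_lit 10625) (Step.F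 (nat_lit 3145) Step.done)))))))))))))))))))))))) Scr.nil))))))))))))))))))))))))))))))))))))))))
noncomputable def s80 : Scr := (Scr.cons (nat_lit 1) (nat_lit 0) (Step.F (nat_lit 3145) (Step.F (nat_lit 3202) (Step.D (nat_lit 4311) Step.done))) (Scr.cons (nat_lit 1) (nat_lit 0) (Step.D (nat_lit 10625) (Step.B (nat_lit 3203) (Step.D (nat_lit 7232) Step.done))) (Scr.cons (nat_lit 0) (nat_lit 1) (Step.B (nat_lit 3140) (Step.B (nat_lit 3204) (Step.D (nat_lit 10314) Step.done))) (Scr.cons (nat_lit 0) (nat_lit 0) (Step.B (nat_lit 3136) (Step.F (nat_lit 3205) Step.done)) (Scr.cons (nat_lit 11) (nat_lit 0) (Step.U (nat_lit 7232) (Step.U (nat_lit 4311) (Step.D (nat_lit 4310) (Step.D (nat_lit 7230) (Step.D (nat_lit 10313) Step.done))))) (Scr.cons (nat_lit 13) (nat_lit 0) (Step.U (nat_lit 2297) (Step.L (Step.L (Step.L (Step.L (Step.L (Step.L (Step.L (Step.L (Step.L (Step.D (nat_lit 4310) Step.done))))))))))) (Scr.cons (nat_lit 1) (nat_lit 0) (Step.D (nat_lit 4312) (Step.B (nat_lit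 3155) (Step.L Step.done))) (Scr.cons (nat_lit 0) (nat_lit 1) (Step.F (nat_lit 3208) (Step.B (nat_lit 3209) (Step.L Step.done))) (Scr.cons (nat_lit 1) (nat_lit 1) (Step.U (nat_lit 7230) (Step.B (nat_lit 3210) (Step.D (nat_lit 7115) Step.done))) (Scr.cons (nat_lit 1) (nat_lit 1) (Step.U (nat_lit 10313) (Step.B (nat_lit 3211) (Step.D (nat_lit 10219) Step.done))) (Scr.cons (nat_lit 1) (nat_lit 0) (Step.B (nat_lit 3207) (Step.B (nat_lit 3212) Step.done)) (Scr.cons (nat_lit 14) (nat_lit 6) (Step.U (nat_lit 9824) (Step.U (nat_lit 6655) (Step.U (nat_lit 3863) (Step.F (nat_lit 3131) (Step.L (Step.L (Step.L (Step.L (Step.L (Step.L (Step.L (Step.L (Step.L (Step.L (Step.L (Step.L (Step.L (Step.D (nat_lit 4227) (Step.D (nat_lit 7111) (Step.D (nat_lit 10217) Step.done)))))))))))))))))))) (Scr.cons (nat_lit 4) (nat_lit 0) (Step.B (nat_lit 3214) (Step.U (nat_lit 10217) (Step.U (nat_lit 7111) (Step.D (nat_lit 7112) (Step.D (nat_lit 10218) Step.done))))) (Scr.cons (nat_lit 7) (nat_lit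 0) (Step.U (nat_lit 10626) (Step.U (nat_lit 7599) (Step.U (nat_lit 4640) (Step.U (nat_lit 2510) (Step.D (nat_lit 2511) (Step.B (nat_lit 3134) (Step.F (nat_lit 3206) (Step.B (nat_lit 3213) (Step.U (nat_lit 10219) (Step.U (nat_lit 7115) (Step.L (Step.L (Step.L (Step.D (nat_lit 4227) (Step.D (nat_lit 7112) (Step.D (nat_lit 10218) (Step.F (nat_lit 3215) (Step.U (nat_lit 9824) (Step.B (nat_lit 3130) (Step.U (nat_lit 9821) (Step.D (nat_lit 9820) Step.done))))))))))))))))))))) (Scr.cons (nat_lit 1) (nat_lit 1) (Step.D (nat_lit 10626) (Step.B (nat_lit 3216) Step.done)) (Scr.cons (nat_lit 14) (nat_lit 4) (Step.U (nat_lit 10630) (Step.U (nat_lit 7603) (Step.U (nat_lit 4642) (Step.U (nat_lit 2511) (Step.U (nat_lit 1211) (Step.F (nat_lit 3137) (Step.L (Step.L (Step.L (Step.L (Step.L (Step.L (Step.L (Step.L (Step.L (Step.L (Step.B (nat_lit 3162) (Step.D (nat_lit 4992) (Step.D (nat_lit 8002) (Step.D (nat_lit 10975) Step.done)))))))))))))))))))) (Scr.cons (nat_lit 1) (nat_lit 1) (Step.U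 (nat_lit 4992) (Step.F (nat_lit 3183) (Step.L Step.done))) (Scr.cons (nat_lit 1) (nat_lit 1) (Step.U (nat_lit 8002) (Step.B (nat_lit 3219) (Step.L Step.done))) (Scr.cons (nat_lit 0) (nat_lit 1) (Step.U (nat_lit 10975) (Step.B (nat_lit 3220) (Step.D (nat_lit 4134) Step.done))) (Scr.cons (nat_lit 1) (nat_lit 1) (Step.B (nat_lit 3218) (Step.B (nat_lit 3221) (Step.D (nat_lit 6996) Step.done))) (Scr.cons (nat_lit 1) (nat_lit 1) (Step.D (nat_lit 10630) (Step.B (nat_lit 3222) (Step.D (nat_lit 10124) Step.done))) (Scr.cons (nat_lit 1) (nat_lit 1) (Step.D (nat_lit 10124) (Step.F (nat_lit 3223) Step.done)) (Scr.cons (nat_lit 12) (nat_lit 1) (Step.L (Step.L (Step.L (Step.L (Step.D (nat_lit 3961) Step.done))))) (Scr.cons (nat_lit 7) (nat_lit 5) (Step.F (nat_lit 3225) (Step.L (Step.L (Step.L (Step.L (Step.L (Step.L (Step.L (Step.L (Step.L (Step.L (Step.L (Step.L (Step.L (Step.L (Step.L (Step.L (Step.L (Step.L (Step.D (nat_lit 3858) Step.done)))))))))))))))))))) (Scr.cons (nat_lit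 12) (nat_lit 1) (Step.U (nat_lit 6786) (Step.F (nat_lit 3225) (Step.D (nat_lit 3961) (Step.D (nat_lit 6786) (Step.D (nat_lit 9950) Step.done))))) (Scr.cons (nat_lit 9) (nat_lit 4) (Step.U (nat_lit 9821) (Step.B (nat_lit 3133) (Step.F (nat_lit 3217) (Step.U (nat_lit 7599) (Step.U (nat_lit 4640) (Step.U (nat_lit 2510) (Step.D (nat_lit 2511) (Step.B (nat_lit 3139) (Step.D (nat_lit 7603) (Step.F (nat_lit 3224) (Step.U (nat_lit 6996) (Step.U (nat_lit 4134) (Step.L (Step.L (Step.L (Step.L (Step.L (Step.L (Step.L (Step.L (Step.D (nat_lit 3858) (Step.F (nat_lit 3226) (Step.D (nat_lit 6786) (Step.B (nat_lit 3227) Step.done)))))))))))))))))))))))) (Scr.cons (nat_lit 0) (nat_lit 1) (Step.D (nat_lit 9950) (Step.F (nat_lit 3228) Step.done)) (Scr.cons (nat_lit 4) (nat_lit 0) (Step.U (nat_lit 6641) (Step.U (nat_lit 3857) (Step.D (nat_lit 3858) (Step.F (nat_lit 3226) (Step.D (nat_lit 6786) Step.done))))) (Scr.cons (nat_lit 7) (nat_lit 1) (Step.U (nat_lit 9831) (Step.U (nat_lit 6665)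 (Step.U (nat_lit 3871) (Step.L (Step.L (Step.L (Step.L (Step.L (Step.L (Step.L (Step.L (Step.L (Step.D (nat_lit 2005) (Step.D (nat_lit 3863) (Step.D (nat_lit 6655) (Step.B (nat_lit 3130) (Step.F (nat_lit 3229) (Step.F (nat_lit 3230) (Step.U (nat_lit 6641) (Step.D (nat_lit 6640) (Step.D (nat_lit 9802) Step.done))))))))))))))))))))) (Scr.cons (nat_lit 1) (nat_lit 1) (Step.D (nat_lit 9831) (Step.B (nat_lit 3231) Step.done)) (Scr.cons (nat_lit 4) (nat_lit 0) (Step.U (nat_lit 9801) (Step.D (nat_lit 9802) (Step.F (nat_lit 3232) (Step.U (nat_lit 6665) (Step.D (nat_lit 6666) (Step.D (nat_lit 9832) Step.done)))))) (Scr.cons (nat_lit 1) (nat_lit 0) (Step.D (nat_lit 9832) (Step.F (nat_lit 3233) Step.done)) (Scr.cons (nat_lit 12) (nat_lit 4) (Step.L (Step.L (Step.L (Step.L (Step.D (nat_lit 3871) Step.done))))) (Scr.cons (nat_lit 4) (nat_lit 0) (Step.L (Step.L (Step.L (Step.L (Step.D (nat_lit 3605) Step.done))))) (Scr.cons (nat_lit 16) (nat_lit 4) (Step.U (nat_lit 9800) (Step.U (nat_lit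 6639) (Step.F (nat_lit 3129) (Step.U (nat_lit 2002) (Step.L (Step.L (Step.L (Step.L (Step.L (Step.L (Step.L (Step.L (Step.L (Step.L (Step.L (Step.D (nat_lit 3857) (Step.D (nat_lit 6640) (Step.D (nat_lit 9801) (Step.F (nat_lit 3234) (Step.U (nat_lit 6666) (Step.F (nat_lit 3235) (Step.B (nat_lit 3236) (Step.D (nat_lit 6305) (Step.D (nat_lit 9476) Step.done)))))))))))))))))))))))) (Scr.cons (nat_lit 1) (nat_lit 0) (Step.D (nat_lit 9800) (Step.B (nat_lit 3237) Step.done)) (Scr.cons (nat_lit 11) (nat_lit 0) (Step.U (nat_lit 9477) (Step.D (nat_lit 9476) (Step.F (nat_lit 3238) (Step.U (nat_lit 6639) (Step.D (nat_lit 6638) (Step.D (nat_lit 9799) Step.done)))))) (Scr.cons (nat_lit 1) (nat_lit 0) (Step.D (nat_lit 9799) (Step.F (nat_lit 3239) (Step.F (nat_lit 3128) Step.done))) (Scr.cons (nat_lit 1) (nat_lit 0) (Step.F (nat_lit 3128) (Step.F (nat_lit 3240) Step.done)) (Scr.cons (nat_lit 14) (nat_lit 6) (Step.U (nat_lit 9867) (Step.L (Step.F (nat_lit 3122) (Step.U (nat_lit 3856)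 (Step.D (nat_lit 3855) (Step.D (nat_lit 6638) (Step.F (nat_lit 3241) (Step.U (nat_lit 9477) (Step.U (nat_lit 6305) (Step.U (nat_lit 3605) (Step.L (Step.L (Step.L (Step.L (Step.L (Step.L (Step.L (Step.L (Step.L (Step.L (Step.D (nat_lit 9474) Step.done))))))))))))))))))))) Scr.nil))))))))))))))))))))))))))))))))))))))))
noncomputable def s81 : Scr := (Scr.cons (nat_lit 1) (nat_lit 0) (Step.D (nat_lit 9867) (Step.B (nat_lit 3242) Step.done)) (Scr.cons (nat_lit 11) (nat_lit 0) (Step.U (nat_lit 9475) (Step.L (Step.L (Step.D (nat_lit 9474) (Step.F (nat_lit 3243) (Step.D (nat_lit 9866) Step.done)))))) (Scr.cons (nat_lit 1) (nat_lit 1) (Step.D (nat_lit 9866) (Step.F (nat_lit 3244) Step.done)) (Scr.cons (nat_lit 12) (nat_lit 1) (Step.L (Step.L (Step.L (Step.L (Step.D (nat_lit 5142) Step.done))))) (Scr.cons (nat_lit 13) (nat_lit 3) (Step.U (nat_lit 4222) (Step.U (nat_lit 2241) (Step.L (Step.L (Step.L (Step.L (Step.L (Step.L (Step.L (Step.L (Step.D (nat_lit 5142) Step.done)))))))))))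 (Scr.cons (nat_lit 4) (nat_lit 0) (Step.U (nat_lit 10212) (Step.U (nat_lit 7104) (Step.B (nat_lit 3247) (Step.D (nat_lit 8161) (Step.D (nat_lit 11130) Step.done))))) (Scr.cons (nat_lit 9) (nat_lit 3) (Step.U (nat_lit 9866) (Step.L (Step.L (Step.L (Step.L (Step.L (Step.L (Step.L (Step.L (Step.L (Step.L (Step.L (Step.L (Step.L (Step.L (Step.L (Step.L (Step.L (Step.L (Step.B (nat_lit 3246) (Step.D (nat_lit 8161) (Step.D (nat_lit 11130) (Step.F (nat_lit 3248) Step.done))))))))))))))))))))))) (Scr.cons (nat_lit 0) (nat_lit 0) (Step.F (nat_lit 3249) (Step.F (nat_lit 3244) Step.done)) (Scr.cons (nat_lit 8) (nat_lit 1) (Step.U (nat_lit 2844) (Step.L (Step.L (Step.L (Step.L (Step.L (Step.L (Step.L (Step.L (Step.L (Step.L (Step.L (Step.L (Step.L (Step.D (nat_lit 5139) Step.done))))))))))))))) (Scr.cons (nat_lit 14) (nat_lit 1) (Step.L (Step.L (Step.L (Step.D (nat_lit 3895) (Step.D (nat_lit 6692) (Step.D (nat_lit 9852) (Step.B (nat_lit 3121) (Step.F (nat_lit 3243) (Step.B (nat_lit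 3245) (Step.F (nat_lit 3250) (Step.B (nat_lit 3248) (Step.U (nat_lit 11130) (Step.U (nat_lit 8161) (Step.U (nat_lit 5142) (Step.L (Step.D (nat_lit 2844) (Step.B (nat_lit 3251) (Step.U (nat_lit 5139) (Step.D (nat_lit 5138) (Step.D (nat_lit 8156) (Step.B (nat_lit 3119) Step.done))))))))))))))))))))) (Scr.cons (nat_lit 0) (nat_lit 1) (Step.B (nat_lit 3119) (Step.F (nat_lit 3252) (Step.L Step.done))) (Scr.cons (nat_lit 1) (nat_lit 0) (Step.D (nat_lit 8156) (Step.B (nat_lit 3253) (Step.L Step.done))) (Scr.cons (nat_lit 1) (nat_lit 0) (Step.D (nat_lit 5138) (Step.B (nat_lit 3254) (Step.D (nat_lit 6686) Step.done))) (Scr.cons (nat_lit 1) (nat_lit 0) (Step.D (nat_lit 6686) (Step.F (nat_lit 3255) Step.done)) (Scr.cons (nat_lit 12) (nat_lit 1) (Step.U (nat_lit 6792) (Step.L (Step.L (Step.D (nat_lit 6792) (Step.D (nat_lit 9954) Step.done))))) (Scr.cons (nat_lit 12) (nat_lit 4) (Step.U (nat_lit 3892) (Step.L (Step.L (Step.D (nat_lit 3892) (Step.D (nat_lit 6685) Step.done))))) (Scr.cons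 (nat_lit 11) (nat_lit 0) (Step.U (nat_lit 5143) (Step.L (Step.D (nat_lit 2844) (Step.D (nat_lit 5141) (Step.D (nat_lit 8160) Step.done))))) (Scr.cons (nat_lit 12) (nat_lit 1) (Step.L (Step.L (Step.L (Step.L (Step.D (nat_lit 1053) Step.done))))) (Scr.cons (nat_lit 12) (nat_lit 1) (Step.L (Step.L (Step.L (Step.L (Step.D (nat_lit 1995) Step.done))))) (Scr.cons (nat_lit 14) (nat_lit 2) (Step.F (nat_lit 3261) (Step.L (Step.L (Step.L (Step.L (Step.L (Step.L (Step.L (Step.L (Step.L (Step.L (Step.L (Step.L (Step.L (Step.L (Step.L (Step.L (Step.L (Step.B (nat_lit 3260) (Step.D (nat_lit 2229) Step.done)))))))))))))))))))) (Scr.cons (nat_lit 4) (nat_lit 0) (Step.U (nat_lit 3842) (Step.B (nat_lit 3262) (Step.U (nat_lit 2229) (Step.D (nat_lit 2230) (Step.D (nat_lit 4209) Step.done))))) (Scr.cons (nat_lit 12) (nat_lit 4) (Step.U (nat_lit 3842) (Step.F (nat_lit 3261) (Step.D (nat_lit 1995) (Step.D (nat_lit 3842) (Step.D (nat_lit 6622) Step.done))))) (Scr.cons (nat_lit 9) (nat_lit 5)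 (Step.U (nat_lit 8160) (Step.U (nat_lit 5141) (Step.U (nat_lit 2844) (Step.L (Step.L (Step.L (Step.L (Step.L (Step.L (Step.L (Step.L (Step.L (Step.L (Step.L (Step.L (Step.L (Step.L (Step.B (nat_lit 3260) (Step.D (nat_lit 2230) (Step.D (nat_lit 4209) (Step.F (nat_lit 3263) (Step.B (nat_lit 3264) (Step.D (nat_lit 9779) Step.done))))))))))))))))))))))) (Scr.cons (nat_lit 13) (nat_lit 1) (Step.B (nat_lit 3259) (Step.B (nat_lit 3265) (Step.U (nat_lit 9779) (Step.U (nat_lit 6622) (Step.U (nat_lit 3842) (Step.F (nat_lit 3261) (Step.L (Step.L (Step.L (Step.L (Step.D (nat_lit 3892) (Step.B (nat_lit 3258) Step.done)))))))))))) (Scr.cons (nat_lit 0) (nat_lit 1) (Step.B (nat_lit 3258) (Step.F (nat_lit 3266) (Step.D (nat_lit 8162) Step.done))) (Scr.cons (nat_lit 0) (nat_lit 1) (Step.D (nat_lit 8162) (Step.F (nat_lit 3267) Step.done)) (Scr.cons (nat_lit 14) (nat_lit 6) (Step.U (nat_lit 11124) (Step.U (nat_lit 8154) (Step.L (Step.L (Step.L (Step.L (Step.L (Step.D (nat_lit 3892) (Step.F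 (nat_lit 3268) (Step.U (nat_lit 5143) (Step.L (Step.L (Step.L (Step.L (Step.L (Step.L (Step.L (Step.L (Step.L (Step.D (nat_lit 6791) (Step.D (nat_lit 9953) Step.done))))))))))))))))))))) (Scr.cons (nat_lit 1) (nat_lit 0) (Step.D (nat_lit 11124) (Step.B (nat_lit 3269) Step.done)) (Scr.cons (nat_lit 11) (nat_lit 0) (Step.U (nat_lit 9955) (Step.U (nat_lit 6792) (Step.D (nat_lit 6791) (Step.D (nat_lit 9953) (Step.F (nat_lit 3270) (Step.D (nat_lit 11123) Step.done)))))) (Scr.cons (nat_lit 1) (nat_lit 1) (Step.D (nat_lit 11123) (Step.F (nat_lit 3271) Step.done)) (Scr.cons (nat_lit 12) (nat_lit 1) (Step.L (Step.L (Step.L (Step.L (Step.D (nat_lit 8154) Step.done))))) (Scr.cons (nat_lit 16) (nat_lit 1) (Step.F (nat_lit 3270) (Step.F (nat_lit 3273) (Step.L (Step.L (Step.L (Step.L (Step.L (Step.L (Step.L (Step.L (Step.L (Step.L (Step.L (Step.L (Step.L (Step.L (Step.L (Step.L (Step.L (Step.L (Step.L (Step.L (Step.L (Step.L Step.done)))))))))))))))))))))))) (Scr.cons (nat_lit 1) (nat_lit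 1) (Step.B (nat_lit 3270) (Step.B (nat_lit 3274) (Step.L Step.done))) (Scr.cons (nat_lit 1) (nat_lit 1) (Step.F (nat_lit 3272) (Step.B (nat_lit 3275) (Step.D (nat_lit 6375) Step.done))) (Scr.cons (nat_lit 1) (nat_lit 1) (Step.D (nat_lit 9955) (Step.B (nat_lit 3276) (Step.D (nat_lit 9524) Step.done))) (Scr.cons (nat_lit 1) (nat_lit 1) (Step.D (nat_lit 9524) (Step.F (nat_lit 3277) Step.done)) (Scr.cons (nat_lit 12) (nat_lit 1) (Step.U (nat_lit 319) (Step.F (nat_lit 2232) (Step.D (nat_lit 101) (Step.D (nat_lit 319) (Step.D (nat_lit 858) Step.done))))) (Scr.cons (nat_lit 15) (nat_lit 1) (Step.F (nat_lit 3279) (Step.U (nat_lit 319) (Step.F (nat_lit 2232) (Step.L (Step.L (Step.L (Step.L (Step.L (Step.L (Step.L (Step.L (Step.L (Step.L (Step.L (Step.D (nat_lit 325) Step.done))))))))))))))) (Scr.cons (nat_lit 11) (nat_lit 0) (Step.U (nat_lit 1886) (Step.U (nat_lit 871) (Step.F (nat_lit 3280) (Step.D (nat_lit 1870) (Step.D (nat_lit 3634) Step.done))))) (Scr.cons (nat_lit 11) (nat_lit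 0) (Step.U (nat_lit 3888) (Step.U (nat_lit 2021) (Step.D (nat_lit 2020) (Step.D (nat_lit 3886) (Step.D (nat_lit 6679) Step.done))))) Scr.nil))))))))))))))))))))))))))))))))))))))))
noncomputable def s82 : Scr := (Scr.cons (nat_lit 12) (nat_lit 1) (Step.L (Step.L (Step.L (Step.L (Step.D (nat_lit 349) Step.done))))) (Scr.cons (nat_lit 12) (nat_lit 1) (Step.L (Step.D (nat_lit 349) (Step.F (nat_lit 3283) (Step.L (Step.D (nat_lit 937) Step.done))))) (Scr.cons (nat_lit 12) (nat_lit 1) (Step.U (nat_lit 2021) (Step.F (nat_lit 3284) (Step.D (nat_lit 937) (Step.D (nat_lit 2021) (Step.D (nat_lit 3887) Step.done))))) (Scr.cons (nat_lit 12) (nat_lit 1) (Step.U (nat_lit 3888) (Step.D (nat_lit 3887) (Step.F (nat_lit 3285) (Step.D (nat_lit 3888) (Step.D (nat_lit 6682) Step.done))))) (Scr.cons (nat_lit 12) (nat_lit 1) (Step.F (nat_lit 3282) (Step.D (nat_lit 6682) (Step.F (nat_lit 3286) (Step.B (nat_lit 3282) (Step.D (nat_lit 9842) Step.done))))) (Scr.cons (nat_lit 12) (nat_lit 1) (Step.U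 (nat_lit 2009) (Step.D (nat_lit 2008) (Step.F (nat_lit 1813) (Step.D (nat_lit 2009) (Step.D (nat_lit 3867) Step.done))))) (Scr.cons (nat_lit 12) (nat_lit 1) (Step.F (nat_lit 2499) (Step.D (nat_lit 3867) (Step.F (nat_lit 3288) (Step.B (nat_lit 2499) (Step.D (nat_lit 6658) Step.done))))) (Scr.cons (nat_lit 14) (nat_lit 2) (Step.F (nat_lit 3287) (Step.F (nat_lit 3282) (Step.U (nat_lit 3888) (Step.U (nat_lit 2021) (Step.U (nat_lit 937) (Step.L (Step.L (Step.L (Step.L (Step.L (Step.L (Step.L (Step.L (Step.L (Step.D (nat_lit 345) (Step.D (nat_lit 929) (Step.D (nat_lit 2007) (Step.D (nat_lit 3865) (Step.B (nat_lit 3289) (Step.D (nat_lit 9827) Step.done)))))))))))))))))))) (Scr.cons (nat_lit 0) (nat_lit 1) (Step.U (nat_lit 6658) (Step.B (nat_lit 2512) (Step.D (nat_lit 1082) Step.done))) (Scr.cons (nat_lit 1) (nat_lit 0) (Step.B (nat_lit 2240) (Step.F (nat_lit 2241) Step.done)) (Scr.cons (nat_lit 1) (nat_lit 1) (Step.U (nat_lit 9827) (Step.B (nat_lit 3291) (Step.F (nat_lit 3292)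 Step.done))) (Scr.cons (nat_lit 1) (nat_lit 1) (Step.B (nat_lit 3290) (Step.B (nat_lit 3293) (Step.U (nat_lit 859) Step.done))) (Scr.cons (nat_lit 0) (nat_lit 1) (Step.B (nat_lit 3287) (Step.B (nat_lit 3294) (Step.D (nat_lit 858) Step.done))) (Scr.cons (nat_lit 1) (nat_lit 1) (Step.B (nat_lit 3282) (Step.B (nat_lit 3295) (Step.D (nat_lit 1870) Step.done))) (Scr.cons (nat_lit 1) (nat_lit 1) (Step.D (nat_lit 3888) (Step.B (nat_lit 3296) (Step.D (nat_lit 3634) Step.done))) (Scr.cons (nat_lit 1) (nat_lit 1) (Step.B (nat_lit 3281) (Step.F (nat_lit 3297) (Step.U (nat_lit 2021) Step.done))) (Scr.cons (nat_lit 1) (nat_lit 0) (Step.D (nat_lit 1886) (Step.B (nat_lit 3298) Step.done)) (Scr.cons (nat_lit 11) (nat_lit 0) (Step.U (nat_lit 2497) (Step.L (Step.L (Step.L (Step.D (nat_lit 4618) Step.done))))) (Scr.cons (nat_lit 11) (nat_lit 0) (Step.L (Step.L (Step.D (nat_lit 377) (Step.D (nat_lit 996) (Step.D (nat_lit 2134) Step.done))))) (Scr.cons (nat_lit 12) (nat_lit 1) (Step.F (nat_lit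 3301) (Step.L (Step.L (Step.B (nat_lit 3301) (Step.D (nat_lit 4071) Step.done))))) (Scr.cons (nat_lit 9) (nat_lit 5) (Step.U (nat_lit 4618) (Step.L (Step.L (Step.L (Step.L (Step.L (Step.L (Step.D (nat_lit 881) (Step.F (nat_lit 152) (Step.U (nat_lit 1068) (Step.U (nat_lit 415) (Step.L (Step.L (Step.L (Step.L (Step.L (Step.L (Step.L (Step.L (Step.L (Step.B (nat_lit 3301) (Step.B (nat_lit 3302) (Step.D (nat_lit 6927) Step.done))))))))))))))))))))))) (Scr.cons (nat_lit 14) (nat_lit 3) (Step.L (Step.L (Step.L (Step.L (Step.L (Step.L (Step.L (Step.L (Step.L (Step.L (Step.L (Step.L (Step.L (Step.L (Step.L (Step.L (Step.L (Step.L (Step.D (nat_lit 377) (Step.D (nat_lit 996) Step.done)))))))))))))))))))) (Scr.cons (nat_lit 13) (nat_lit 0) (Step.U (nat_lit 4620) (Step.B (nat_lit 3300) (Step.B (nat_lit 3303) (Step.U (nat_lit 6927) (Step.U (nat_lit 4071) (Step.U (nat_lit 2134) (Step.F (nat_lit 3304) (Step.L (Step.B (nat_lit 3284) (Step.D (nat_lit 2021) (Step.D (nat_lit 3887) (Step.D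 (nat_lit 6680) Step.done)))))))))))) (Scr.cons (nat_lit 1) (nat_lit 1) (Step.D (nat_lit 6680) (Step.F (nat_lit 3305) Step.done)) (Scr.cons (nat_lit 11) (nat_lit 0) (Step.U (nat_lit 9843) (Step.U (nat_lit 6681) (Step.B (nat_lit 3306) (Step.D (nat_lit 7578) (Step.D (nat_lit 10614) Step.done))))) (Scr.cons (nat_lit 12) (nat_lit 4) (Step.U (nat_lit 1026) (Step.D (nat_lit 1025) (Step.F (nat_lit 2382) (Step.D (nat_lit 1026) (Step.D (nat_lit 2191) Step.done))))) (Scr.cons (nat_lit 0) (nat_lit 0) (Step.B (nat_lit 3308) (Step.F (nat_lit 119) Step.done)) (Scr.cons (nat_lit 7) (nat_lit 1) (Step.U (nat_lit 9348) (Step.U (nat_lit 6176) (Step.U (nat_lit 3529) (Step.L (Step.L (Step.L (Step.L (Step.L (Step.L (Step.D (nat_lit 811) (Step.B (nat_lit 103) (Step.F (nat_lit 3309) (Step.U (nat_lit 1026) (Step.U (nat_lit 393) (Step.D (nat_lit 394) (Step.B (nat_lit 1933) (Step.D (nat_lit 2194) (Step.D (nat_lit 4155) (Step.D (nat_lit 7022) (Step.D (nat_lit 10153) Step.done))))))))))))))))))))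 (Scr.cons (nat_lit 11) (nat_lit 0) (Step.U (nat_lit 9349) (Step.D (nat_lit 9348) (Step.B (nat_lit 3310) (Step.U (nat_lit 10153) (Step.D (nat_lit 10152) Step.done))))) (Scr.cons (nat_lit 1) (nat_lit 1) (Step.B (nat_lit 1926) (Step.B (nat_lit 2765) (Step.L Step.done))) (Scr.cons (nat_lit 0) (nat_lit 1) (Step.B (nat_lit 1920) (Step.B (nat_lit 3312) (Step.L Step.done))) (Scr.cons (nat_lit 1) (nat_lit 1) (Step.D (nat_lit 481) (Step.B (nat_lit 3313) (Step.L Step.done))) (Scr.cons (nat_lit 0) (nat_lit 1) (Step.B (nat_lit 1919) (Step.B (nat_lit 3314) (Step.D (nat_lit 132) Step.done))) (Scr.cons (nat_lit 1) (nat_lit 0) (Step.U (nat_lit 394) (Step.F (nat_lit 3315) (Step.L Step.done))) (Scr.cons (nat_lit 0) (nat_lit 1) (Step.U (nat_lit 1027) (Step.B (nat_lit 3316) (Step.L Step.done))) (Scr.cons (nat_lit 1) (nat_lit 0) (Step.U (nat_lit 2194) (Step.B (nat_lit 3317) (Step.L Step.done))) (Scr.cons (nat_lit 1) (nat_lit 0) (Step.U (nat_lit 4155) (Step.B (nat_lit 3318) (Step.D (nat_lit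 2497) Step.done))) (Scr.cons (nat_lit 0) (nat_lit 1) (Step.U (nat_lit 7022) (Step.B (nat_lit 3319) (Step.D (nat_lit 4620) Step.done))) (Scr.cons (nat_lit 1) (nat_lit 1) (Step.U (nat_lit 10152) (Step.B (nat_lit 3320) (Step.D (nat_lit 7578) Step.done))) (Scr.cons (nat_lit 1) (nat_lit 1) (Step.B (nat_lit 3311) (Step.B (nat_lit 3321) (Step.D (nat_lit 10614) Step.done))) Scr.nil))))))))))))))))))))))))))))))))))))))))
noncomputable def s83 : Scr := (Scr.cons (nat_lit 1) (nat_lit 1) (Step.B (nat_lit 3307) (Step.F (nat_lit 3322) (Step.U (nat_lit 9349) Step.done))) (Scr.cons (nat_lit 1) (nat_lit 0) (Step.D (nat_lit 9843) (Step.B (nat_lit 3323) Step.done)) (Scr.cons (nat_lit 12) (nat_lit 4) (Step.U (nat_lit 3529) (Step.L (Step.L (Step.D (nat_lit 3529) (Step.D (nat_lit 6176) Step.done))))) (Scr.cons (nat_lit 7) (nat_lit 6) (Step.F (nat_lit 3257) (Step.F (nat_lit 3278) (Step.U (nat_lit 6375) (Step.L (Step.L (Step.L (Step.L (Step.D (nat_lit 325) (Step.D (nat_lit 871) (Step.B (nat_lit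 3299) (Step.D (nat_lit 2021) (Step.B (nat_lit 3285) (Step.D (nat_lit 6681) (Step.B (nat_lit 3324) (Step.F (nat_lit 3325) (Step.U (nat_lit 3529) (Step.L (Step.L (Step.L (Step.L (Step.D (nat_lit 9353) Step.done))))))))))))))))))))) (Scr.cons (nat_lit 0) (nat_lit 1) (Step.D (nat_lit 9954) (Step.B (nat_lit 3326) Step.done)) (Scr.cons (nat_lit 12) (nat_lit 1) (Step.L (Step.L (Step.L (Step.L (Step.D (nat_lit 9797) Step.done))))) (Scr.cons (nat_lit 6) (nat_lit 2) (Step.L (Step.D (nat_lit 9353) (Step.F (nat_lit 3327) (Step.U (nat_lit 6792) (Step.L (Step.L (Step.L (Step.L (Step.L (Step.L (Step.B (nat_lit 3328) Step.done))))))))))) (Scr.cons (nat_lit 15) (nat_lit 0) (Step.D (nat_lit 9797) (Step.F (nat_lit 3329) (Step.L (Step.L (Step.L (Step.L (Step.L (Step.L (Step.L (Step.L (Step.L (Step.L (Step.L (Step.L (Step.L (Step.D (nat_lit 9356) Step.done)))))))))))))))) (Scr.cons (nat_lit 1) (nat_lit 0) (Step.D (nat_lit 9356) (Step.F (nat_lit 3330) (Step.D (nat_lit 9798) Step.done))) (Scr.cons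 (nat_lit 1) (nat_lit 0) (Step.D (nat_lit 9798) (Step.F (nat_lit 3331) Step.done)) (Scr.cons (nat_lit 12) (nat_lit 1) (Step.U (nat_lit 2763) (Step.L (Step.L (Step.D (nat_lit 2763) (Step.D (nat_lit 5028) Step.done))))) (Scr.cons (nat_lit 13) (nat_lit 0) (Step.U (nat_lit 8048) (Step.F (nat_lit 3333) (Step.U (nat_lit 2763) (Step.L (Step.L (Step.L (Step.L (Step.L (Step.L (Step.L (Step.D (nat_lit 11018) Step.done))))))))))) (Scr.cons (nat_lit 11) (nat_lit 0) (Step.U (nat_lit 6562) (Step.U (nat_lit 3794) (Step.L (Step.D (nat_lit 6560) (Step.D (nat_lit 9713) Step.done))))) (Scr.cons (nat_lit 1) (nat_lit 1) (Step.D (nat_lit 9855) (Step.F (nat_lit 2183) Step.done)) (Scr.cons (nat_lit 4) (nat_lit 0) (Step.L (Step.L (Step.L (Step.L (Step.D (nat_lit 3582) Step.done))))) (Scr.cons (nat_lit 12) (nat_lit 1) (Step.U (nat_lit 3794) (Step.L (Step.L (Step.D (nat_lit 3794) (Step.D (nat_lit 6561) Step.done))))) (Scr.cons (nat_lit 9) (nat_lit 1) (Step.U (nat_lit 9451) (Step.U (nat_lit 6273)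 (Step.F (nat_lit 3337) (Step.L (Step.L (Step.D (nat_lit 9475) (Step.F (nat_lit 3245) (Step.L (Step.L (Step.L (Step.L (Step.L (Step.L (Step.L (Step.L (Step.L (Step.L (Step.L (Step.L (Step.L (Step.D (nat_lit 3794) (Step.B (nat_lit 3338) (Step.D (nat_lit 9715) Step.done))))))))))))))))))))))) (Scr.cons (nat_lit 4) (nat_lit 0) (Step.U (nat_lit 9714) (Step.D (nat_lit 9715) (Step.F (nat_lit 3339) (Step.U (nat_lit 9451) (Step.D (nat_lit 9452) Step.done))))) (Scr.cons (nat_lit 7) (nat_lit 6) (Step.F (nat_lit 3333) (Step.D (nat_lit 5029) (Step.F (nat_lit 3336) (Step.U (nat_lit 6695) (Step.U (nat_lit 3898) (Step.L (Step.L (Step.L (Step.L (Step.L (Step.L (Step.L (Step.L (Step.D (nat_lit 3582) (Step.D (nat_lit 6273) (Step.D (nat_lit 9452) (Step.F (nat_lit 3340) (Step.U (nat_lit 9714) (Step.U (nat_lit 6561) (Step.D (nat_lit 6562) (Step.B (nat_lit 3335) Step.done))))))))))))))))))))) (Scr.cons (nat_lit 1) (nat_lit 1) (Step.B (nat_lit 3335) (Step.F (nat_lit 3341) (Step.D (nat_lit 8048)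 Step.done))) (Scr.cons (nat_lit 0) (nat_lit 1) (Step.F (nat_lit 3334) (Step.F (nat_lit 3342) (Step.D (nat_lit 9716) Step.done))) (Scr.cons (nat_lit 1) (nat_lit 1) (Step.D (nat_lit 11018) (Step.B (nat_lit 3343) Step.done)) (Scr.cons (nat_lit 7) (nat_lit 2) (Step.L (Step.L (Step.L (Step.L (Step.L (Step.L (Step.L (Step.L (Step.L (Step.L (Step.L (Step.L (Step.L (Step.L (Step.L (Step.L (Step.D (nat_lit 3794) (Step.D (nat_lit 6562) (Step.D (nat_lit 9716) (Step.F (nat_lit 3344) (Step.D (nat_lit 11019) Step.done))))))))))))))))))))) (Scr.cons (nat_lit 1) (nat_lit 0) (Step.D (nat_lit 11019) (Step.F (nat_lit 3345) Step.done)) (Scr.cons (nat_lit 12) (nat_lit 4) (Step.U (nat_lit 6571) (Step.L (Step.L (Step.D (nat_lit 6571) (Step.D (nat_lit 9726) Step.done))))) (Scr.cons (nat_lit 11) (nat_lit 0) (Step.L (Step.L (Step.L (Step.L (Step.D (nat_lit 9650) Step.done))))) (Scr.cons (nat_lit 14) (nat_lit 3) (Step.F (nat_lit 3348) (Step.L (Step.L (Step.L (Step.L (Step.L (Step.L (Step.L (Step.L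 (Step.L (Step.L (Step.L (Step.L (Step.L (Step.L (Step.L (Step.L (Step.L (Step.D (nat_lit 6571) (Step.D (nat_lit 9727) Step.done)))))))))))))))))))) (Scr.cons (nat_lit 12) (nat_lit 4) (Step.U (nat_lit 9727) (Step.D (nat_lit 9726) (Step.F (nat_lit 3347) (Step.D (nat_lit 9727) (Step.F (nat_lit 3349) Step.done))))) (Scr.cons (nat_lit 0) (nat_lit 0) (Step.B (nat_lit 3227) (Step.F (nat_lit 3228) Step.done)) (Scr.cons (nat_lit 7) (nat_lit 2) (Step.U (nat_lit 9822) (Step.U (nat_lit 6654) (Step.D (nat_lit 6655) (Step.B (nat_lit 3130) (Step.F (nat_lit 3351) (Step.F (nat_lit 3230) (Step.U (nat_lit 6641) (Step.U (nat_lit 3857) (Step.L (Step.L (Step.L (Step.L (Step.L (Step.L (Step.L (Step.L (Step.L (Step.L (Step.L (Step.L (Step.D (nat_lit 9728) Step.done))))))))))))))))))))) (Scr.cons (nat_lit 1) (nat_lit 1) (Step.D (nat_lit 9822) (Step.B (nat_lit 3352) Step.done)) (Scr.cons (nat_lit 4) (nat_lit 0) (Step.U (nat_lit 9727) (Step.U (nat_lit 6571) (Step.L (Step.D (nat_lit 9728) (Step.F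 (nat_lit 3353) (Step.D (nat_lit 9823) Step.done)))))) (Scr.cons (nat_lit 1) (nat_lit 0) (Step.D (nat_lit 9823) (Step.F (nat_lit 3354) Step.done)) (Scr.cons (nat_lit 12) (nat_lit 1) (Step.U (nat_lit 3863) (Step.F (nat_lit 3131) (Step.D (nat_lit 2005) (Step.D (nat_lit 3863) (Step.D (nat_lit 6654) Step.done))))) (Scr.cons (nat_lit 15) (nat_lit 1) (Step.L (Step.D (nat_lit 9650) (Step.F (nat_lit 3350) (Step.F (nat_lit 3355) (Step.F (nat_lit 3356) (Step.U (nat_lit 3863) (Step.F (nat_lit 3131) (Step.L (Step.L (Step.L (Step.L (Step.L (Step.L (Step.L (Step.L Step.done))))))))))))))) (Scr.cons (nat_lit 12) (nat_lit 1) (Step.L (Step.L (Step.L (Step.L (Step.D (nat_lit 6471) Step.done))))) (Scr.cons (nat_lit 8) (nat_lit 1) (Step.U (nat_lit 7148) (Step.L (Step.L (Step.L (Step.L (Step.L (Step.L (Step.L (Step.L (Step.L (Step.L (Step.L (Step.L (Step.B (nat_lit 3358) (Step.D (nat_lit 9616) Step.done))))))))))))))) (Scr.cons (nat_lit 12) (nat_lit 0) (Step.B (nat_lit 3359) (Step.U (nat_lit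 9616) (Step.F (nat_lit 3358) (Step.D (nat_lit 6471) (Step.D (nat_lit 9616) Step.done))))) (Scr.cons (nat_lit 7) (nat_lit 6) (Step.L (Step.L (Step.L (Step.L (Step.L (Step.L (Step.L (Step.L (Step.L (Step.L (Step.L (Step.L (Step.L (Step.L (Step.L (Step.L (Step.L (Step.L (Step.L (Step.D (nat_lit 2759) Step.done)))))))))))))))))))) (Scr.cons (nat_lit 12) (nat_lit 1) (Step.L (Step.L (Step.L (Step.L (Step.D (nat_lit 8038) Step.done))))) Scr.nil))))))))))))))))))))))))))))))))))))))))
noncomputable def s84 : Scr := (Scr.cons (nat_lit 6) (nat_lit 3) (Step.U (nat_lit 10764) (Step.L (Step.L (Step.L (Step.L (Step.B (nat_lit 3361) (Step.U (nat_lit 2759) (Step.L (Step.L (Step.B (nat_lit 3362) (Step.D (nat_lit 11009) Step.done))))))))))) (Scr.cons (nat_lit 8) (nat_lit 1) (Step.U (nat_lit 9586) (Step.U (nat_lit 6440) (Step.L (Step.L (Step.L (Step.L (Step.L (Step.L (Step.L (Step.L (Step.L (Step.L (Step.L (Step.B (nat_lit 3362) (Step.D (nat_lit 11010) Step.done))))))))))))))) (Scr.cons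 (nat_lit 12) (nat_lit 4) (Step.L (Step.L (Step.L (Step.L (Step.D (nat_lit 4315) Step.done))))) (Scr.cons (nat_lit 12) (nat_lit 4) (Step.L (Step.D (nat_lit 4315) (Step.F (nat_lit 3365) (Step.L (Step.D (nat_lit 7236) Step.done))))) (Scr.cons (nat_lit 7) (nat_lit 2) (Step.U (nat_lit 7236) (Step.L (Step.L (Step.L (Step.L (Step.L (Step.L (Step.L (Step.L (Step.L (Step.L (Step.L (Step.L (Step.L (Step.L (Step.L (Step.D (nat_lit 2181) (Step.D (nat_lit 4144) (Step.D (nat_lit 7008) (Step.D (nat_lit 10134) Step.done)))))))))))))))))))) (Scr.cons (nat_lit 11) (nat_lit 0) (Step.B (nat_lit 3367) (Step.U (nat_lit 10134) (Step.U (nat_lit 7008) (Step.D (nat_lit 7007) (Step.D (nat_lit 10133) Step.done))))) (Scr.cons (nat_lit 11) (nat_lit 0) (Step.U (nat_lit 1061) (Step.L (Step.L (Step.D (nat_lit 1060) (Step.D (nat_lit 2244) Step.done))))) (Scr.cons (nat_lit 12) (nat_lit 1) (Step.U (nat_lit 1061) (Step.L (Step.L (Step.D (nat_lit 1061) (Step.D (nat_lit 2245) Step.done))))) (Scr.cons (nat_lit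 12) (nat_lit 1) (Step.F (nat_lit 3369) (Step.D (nat_lit 2245) (Step.F (nat_lit 3370) (Step.B (nat_lit 3369) (Step.D (nat_lit 4233) Step.done))))) (Scr.cons (nat_lit 11) (nat_lit 0) (Step.L (Step.L (Step.L (Step.L (Step.D (nat_lit 4228) Step.done))))) (Scr.cons (nat_lit 12) (nat_lit 1) (Step.F (nat_lit 3372) (Step.L (Step.L (Step.B (nat_lit 3372) (Step.D (nat_lit 7113) Step.done))))) (Scr.cons (nat_lit 14) (nat_lit 2) (Step.F (nat_lit 3373) (Step.F (nat_lit 3372) (Step.L (Step.L (Step.L (Step.L (Step.L (Step.L (Step.L (Step.L (Step.L (Step.L (Step.L (Step.L (Step.L (Step.L (Step.D (nat_lit 1060) (Step.D (nat_lit 2244) (Step.B (nat_lit 3371) (Step.D (nat_lit 7123) Step.done)))))))))))))))))))) (Scr.cons (nat_lit 1) (nat_lit 1) (Step.B (nat_lit 2310) (Step.B (nat_lit 3154) (Step.L Step.done))) (Scr.cons (nat_lit 1) (nat_lit 1) (Step.D (nat_lit 4313) (Step.B (nat_lit 3375) (Step.L Step.done))) (Scr.cons (nat_lit 1) (nat_lit 1) (Step.D (nat_lit 2298) (Step.B (nat_lit 3376)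 (Step.D (nat_lit 4228) Step.done))) (Scr.cons (nat_lit 0) (nat_lit 1) (Step.U (nat_lit 7113) (Step.F (nat_lit 3377) (Step.L Step.done))) (Scr.cons (nat_lit 1) (nat_lit 0) (Step.F (nat_lit 3374) (Step.B (nat_lit 3378) (Step.L Step.done))) (Scr.cons (nat_lit 1) (nat_lit 0) (Step.D (nat_lit 7123) (Step.B (nat_lit 3379) (Step.L Step.done))) (Scr.cons (nat_lit 0) (nat_lit 1) (Step.B (nat_lit 3371) (Step.B (nat_lit 3380) (Step.L Step.done))) (Scr.cons (nat_lit 1) (nat_lit 0) (Step.D (nat_lit 2244) (Step.B (nat_lit 3381) (Step.L Step.done))) (Scr.cons (nat_lit 1) (nat_lit 0) (Step.D (nat_lit 1060) (Step.B (nat_lit 3382) (Step.D (nat_lit 2181) Step.done))) (Scr.cons (nat_lit 0) (nat_lit 1) (Step.U (nat_lit 4144) (Step.F (nat_lit 3383) (Step.L Step.done))) (Scr.cons (nat_lit 1) (nat_lit 1) (Step.U (nat_lit 7007) (Step.B (nat_lit 3384) (Step.L Step.done))) (Scr.cons (nat_lit 1) (nat_lit 1) (Step.U (nat_lit 10133) (Step.B (nat_lit 3385) (Step.D (nat_lit 4230) Step.done))) (Scr.cons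 (nat_lit 12) (nat_lit 1) (Step.L (Step.L (Step.L (Step.L (Step.D (nat_lit 4316) Step.done))))) (Scr.cons (nat_lit 16) (nat_lit 5) (Step.F (nat_lit 3387) (Step.L (Step.L (Step.L (Step.L (Step.L (Step.L (Step.L (Step.L (Step.L (Step.L (Step.L (Step.L (Step.L (Step.L (Step.L (Step.L (Step.L (Step.L (Step.L (Step.L (Step.L (Step.D (nat_lit 6441) Step.done))))))))))))))))))))))) (Scr.cons (nat_lit 12) (nat_lit 1) (Step.U (nat_lit 1062) (Step.L (Step.L (Step.D (nat_lit 1062) (Step.D (nat_lit 2246) Step.done))))) (Scr.cons (nat_lit 13) (nat_lit 0) (Step.U (nat_lit 4235) (Step.F (nat_lit 3389) (Step.U (nat_lit 1062) (Step.L (Step.L (Step.L (Step.L (Step.L (Step.L (Step.D (nat_lit 4231) (Step.D (nat_lit 7120) Step.done))))))))))) (Scr.cons (nat_lit 16) (nat_lit 4) (Step.U (nat_lit 4236) (Step.F (nat_lit 3389) (Step.U (nat_lit 1062) (Step.L (Step.L (Step.L (Step.L (Step.L (Step.L (Step.L (Step.L (Step.L (Step.L (Step.L (Step.L (Step.L (Step.L (Step.L (Step.L (Step.D (nat_lit 1045)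 (Step.D (nat_lit 2220) (Step.D (nat_lit 4197) (Step.D (nat_lit 7075) Step.done))))))))))))))))))))))) (Scr.cons (nat_lit 4) (nat_lit 0) (Step.U (nat_lit 4235) (Step.D (nat_lit 4236) (Step.B (nat_lit 3391) (Step.U (nat_lit 7075) (Step.D (nat_lit 7076) Step.done))))) (Scr.cons (nat_lit 1) (nat_lit 0) (Step.D (nat_lit 2303) (Step.B (nat_lit 2207) (Step.L Step.done))) (Scr.cons (nat_lit 0) (nat_lit 1) (Step.B (nat_lit 2098) (Step.B (nat_lit 3393) (Step.D (nat_lit 1045) Step.done))) (Scr.cons (nat_lit 1) (nat_lit 1) (Step.U (nat_lit 2220) (Step.F (nat_lit 3394) (Step.U (nat_lit 427) Step.done))) (Scr.cons (nat_lit 0) (nat_lit 1) (Step.U (nat_lit 4197) (Step.B (nat_lit 3395) (Step.F (nat_lit 2097) Step.done))) (Scr.cons (nat_lit 1) (nat_lit 0) (Step.U (nat_lit 7076) (Step.B (nat_lit 3396) (Step.L Step.done))) (Scr.cons (nat_lit 1) (nat_lit 0) (Step.B (nat_lit 3392) (Step.B (nat_lit 3397) (Step.L Step.done))) (Scr.cons (nat_lit 0) (nat_lit 1) (Step.F (nat_lit 3390) (Step.B (nat_lit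 3398) (Step.L Step.done))) (Scr.cons (nat_lit 1) (nat_lit 0) (Step.D (nat_lit 7120) (Step.B (nat_lit 3399) (Step.L Step.done))) (Scr.cons (nat_lit 0) (nat_lit 1) (Step.B (nat_lit 645) (Step.B (nat_lit 3400) (Step.D (nat_lit 4316) Step.done))) (Scr.cons (nat_lit 1) (nat_lit 0) (Step.F (nat_lit 3388) (Step.F (nat_lit 3401) (Step.L Step.done))) Scr.nil))))))))))))))))))))))))))))))))))))))))
noncomputable def s85 : Scr := (Scr.cons (nat_lit 11) (nat_lit 0) (Step.L (Step.L (Step.L (Step.D (nat_lit 4230) (Step.D (nat_lit 7119) Step.done))))) (Scr.cons (nat_lit 1) (nat_lit 0) (Step.D (nat_lit 6441) (Step.B (nat_lit 3402) (Step.B (nat_lit 3403) Step.done))) (Scr.cons (nat_lit 1) (nat_lit 1) (Step.B (nat_lit 3368) (Step.B (nat_lit 3386) (Step.D (nat_lit 7119) (Step.F (nat_lit 3404) Step.done)))) (Scr.cons (nat_lit 0) (nat_lit 1) (Step.B (nat_lit 3366) (Step.B (nat_lit 3405) (Step.D (nat_lit 6440) Step.done))) (Scr.cons (nat_lit 1) (nat_lit 1) (Step.U (nat_lit 9586) (Step.F (nat_lit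 3406) (Step.L Step.done))) (Scr.cons (nat_lit 0) (nat_lit 1) (Step.F (nat_lit 3364) (Step.B (nat_lit 3407) (Step.D (nat_lit 10315) Step.done))) (Scr.cons (nat_lit 1) (nat_lit 0) (Step.D (nat_lit 11010) (Step.B (nat_lit 3408) Step.done)) (Scr.cons (nat_lit 12) (nat_lit 1) (Step.U (nat_lit 5100) (Step.L (Step.L (Step.D (nat_lit 5100) (Step.D (nat_lit 8113) Step.done))))) (Scr.cons (nat_lit 12) (nat_lit 1) (Step.U (nat_lit 8114) (Step.D (nat_lit 8113) (Step.F (nat_lit 3410) (Step.D (nat_lit 8114) (Step.D (nat_lit 11091) Step.done))))) (Scr.cons (nat_lit 12) (nat_lit 4) (Step.L (Step.L (Step.L (Step.L (Step.D (nat_lit 3533) Step.done))))) (Scr.cons (nat_lit 11) (nat_lit 0) (Step.U (nat_lit 8114) (Step.U (nat_lit 5100) (Step.D (nat_lit 5099) (Step.D (nat_lit 8112) (Step.D (nat_lit 11090) Step.done))))) (Scr.cons (nat_lit 16) (nat_lit 1) (Step.U (nat_lit 6184) (Step.F (nat_lit 3412) (Step.L (Step.L (Step.L (Step.L (Step.L (Step.L (Step.L (Step.L (Step.L (Step.L (Step.L (Step.L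 (Step.L (Step.L (Step.L (Step.L (Step.L (Step.B (nat_lit 1275) (Step.D (nat_lit 8112) (Step.D (nat_lit 11090) (Step.F (nat_lit 3413) (Step.D (nat_lit 11091) Step.done)))))))))))))))))))))))) (Scr.cons (nat_lit 0) (nat_lit 1) (Step.B (nat_lit 3411) (Step.F (nat_lit 3414) (Step.D (nat_lit 9361) Step.done))) (Scr.cons (nat_lit 0) (nat_lit 1) (Step.D (nat_lit 9361) (Step.F (nat_lit 3415) Step.done)) (Scr.cons (nat_lit 12) (nat_lit 1) (Step.L (Step.L (Step.L (Step.L (Step.D (nat_lit 1045) Step.done))))) (Scr.cons (nat_lit 14) (nat_lit 6) (Step.U (nat_lit 7077) (Step.U (nat_lit 4198) (Step.U (nat_lit 2221) (Step.F (nat_lit 3417) (Step.L (Step.L (Step.L (Step.L (Step.L (Step.L (Step.L (Step.L (Step.L (Step.L (Step.L (Step.L (Step.L (Step.D (nat_lit 3533) (Step.D (nat_lit 6183) (Step.D (nat_lit 9360) Step.done)))))))))))))))))))) (Scr.cons (nat_lit 4) (nat_lit 0) (Step.B (nat_lit 3418) (Step.U (nat_lit 9360) (Step.U (nat_lit 6183) (Step.D (nat_lit 6184) (Step.D (nat_lit 9362)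 Step.done))))) (Scr.cons (nat_lit 1) (nat_lit 0) (Step.U (nat_lit 2221) (Step.F (nat_lit 3394) (Step.D (nat_lit 1097) Step.done))) (Scr.cons (nat_lit 11) (nat_lit 0) (Step.U (nat_lit 1097) (Step.U (nat_lit 427) (Step.D (nat_lit 426) (Step.D (nat_lit 1095) (Step.D (nat_lit 2302) Step.done))))) (Scr.cons (nat_lit 1) (nat_lit 0) (Step.U (nat_lit 4198) (Step.B (nat_lit 3420) (Step.B (nat_lit 3421) Step.done))) (Scr.cons (nat_lit 0) (nat_lit 1) (Step.U (nat_lit 7077) (Step.B (nat_lit 3422) (Step.D (nat_lit 4319) Step.done))) (Scr.cons (nat_lit 1) (nat_lit 1) (Step.F (nat_lit 3419) (Step.B (nat_lit 3423) (Step.D (nat_lit 7239) Step.done))) (Scr.cons (nat_lit 1) (nat_lit 1) (Step.D (nat_lit 9362) (Step.B (nat_lit 3424) (Step.D (nat_lit 10318) Step.done))) (Scr.cons (nat_lit 1) (nat_lit 1) (Step.D (nat_lit 10318) (Step.F (nat_lit 3425) Step.done)) (Scr.cons (nat_lit 12) (nat_lit 1) (Step.U (nat_lit 1097) (Step.D (nat_lit 1096) (Step.F (nat_lit 2098) (Step.D (nat_lit 1097) (Step.D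 (nat_lit 2305) Step.done))))) (Scr.cons (nat_lit 12) (nat_lit 1) (Step.F (nat_lit 3421) (Step.D (nat_lit 2305) (Step.F (nat_lit 3427) (Step.B (nat_lit 3421) (Step.D (nat_lit 4319) Step.done))))) (Scr.cons (nat_lit 12) (nat_lit 1) (Step.L (Step.D (nat_lit 4316) (Step.F (nat_lit 3387) (Step.L (Step.D (nat_lit 7237) Step.done))))) (Scr.cons (nat_lit 12) (nat_lit 1) (Step.L (Step.D (nat_lit 7237) (Step.F (nat_lit 3429) (Step.L (Step.D (nat_lit 10315) Step.done))))) (Scr.cons (nat_lit 7) (nat_lit 4) (Step.L (Step.L (Step.B (nat_lit 1275) (Step.U (nat_lit 5099) (Step.D (nat_lit 5100) (Step.D (nat_lit 8114) (Step.F (nat_lit 3416) (Step.F (nat_lit 3426) (Step.U (nat_lit 7239) (Step.F (nat_lit 3428) (Step.U (nat_lit 2302) (Step.U (nat_lit 1095) (Step.U (nat_lit 426) (Step.U (nat_lit 147) (Step.L (Step.L (Step.L (Step.L (Step.L (Step.L (Step.B (nat_lit 3430) Step.done))))))))))))))))))))) (Scr.cons (nat_lit 1) (nat_lit 1) (Step.B (nat_lit 3409) (Step.F (nat_lit 3431) (Step.L Step.done)))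 (Scr.cons (nat_lit 1) (nat_lit 1) (Step.U (nat_lit 11009) (Step.B (nat_lit 3432) (Step.L Step.done))) (Scr.cons (nat_lit 0) (nat_lit 1) (Step.B (nat_lit 3363) (Step.B (nat_lit 3433) (Step.D (nat_lit 6471) Step.done))) (Scr.cons (nat_lit 1) (nat_lit 0) (Step.D (nat_lit 10764) (Step.B (nat_lit 3434) (Step.D (nat_lit 9616) Step.done))) (Scr.cons (nat_lit 0) (nat_lit 1) (Step.B (nat_lit 3360) (Step.F (nat_lit 3435) (Step.L Step.done))) (Scr.cons (nat_lit 1) (nat_lit 0) (Step.D (nat_lit 7148) (Step.B (nat_lit 3436) (Step.D (nat_lit 7754) Step.done))) (Scr.cons (nat_lit 1) (nat_lit 0) (Step.D (nat_lit 7754) (Step.F (nat_lit 3437) Step.done)) (Scr.cons (nat_lit 12) (nat_lit 1) (Step.L (Step.L (Step.L (Step.L (Step.D (nat_lit 6426) Step.done))))) (Scr.cons (nat_lit 12) (nat_lit 4) (Step.L (Step.L (Step.L (Step.L (Step.D (nat_lit 7720) Step.done))))) (Scr.cons (nat_lit 13) (nat_lit 0) (Step.L (Step.L (Step.L (Step.L (Step.L (Step.L (Step.L (Step.L (Step.D (nat_lit 493) (Step.D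 (nat_lit 1234) (Step.D (nat_lit 2546) Step.done))))))))))) (Scr.cons (nat_lit 12) (nat_lit 1) (Step.U (nat_lit 493) (Step.L (Step.L (Step.D (nat_lit 493) (Step.D (nat_lit 1234) Step.done))))) Scr.nil))))))))))))))))))))))))))))))))))))))))
noncomputable def s86 : Scr := (Scr.cons (nat_lit 6) (nat_lit 3) (Step.L (Step.L (Step.L (Step.L (Step.L (Step.L (Step.L (Step.L (Step.D (nat_lit 493) (Step.B (nat_lit 3442) (Step.D (nat_lit 2546) Step.done))))))))))) (Scr.cons (nat_lit 12) (nat_lit 4) (Step.L (Step.B (nat_lit 3441) (Step.F (nat_lit 3443) (Step.L (Step.D (nat_lit 4722) Step.done))))) (Scr.cons (nat_lit 12) (nat_lit 4) (Step.U (nat_lit 7699) (Step.F (nat_lit 3444) (Step.D (nat_lit 4722) (Step.D (nat_lit 7699) (Step.D (nat_lit 10719) Step.done))))) (Scr.cons (nat_lit 13) (nat_lit 2) (Step.L (Step.L (Step.L (Step.L (Step.L (Step.L (Step.L (Step.L (Step.L (Step.B (nat_lit 1599) (Step.D (nat_lit 1262) Step.done))))))))))) (Scr.cons (nat_lit 12) (nat_lit 1) (Step.U (nat_lit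 1326) (Step.B (nat_lit 1598) (Step.F (nat_lit 3446) (Step.D (nat_lit 1326) (Step.D (nat_lit 2711) Step.done))))) (Scr.cons (nat_lit 12) (nat_lit 1) (Step.F (nat_lit 1597) (Step.D (nat_lit 2711) (Step.F (nat_lit 3447) (Step.B (nat_lit 1597) (Step.D (nat_lit 4948) Step.done))))) (Scr.cons (nat_lit 11) (nat_lit 0) (Step.L (Step.L (Step.L (Step.L (Step.D (nat_lit 4723) Step.done))))) (Scr.cons (nat_lit 12) (nat_lit 1) (Step.F (nat_lit 3449) (Step.L (Step.L (Step.B (nat_lit 3449) (Step.D (nat_lit 7700) Step.done))))) (Scr.cons (nat_lit 16) (nat_lit 1) (Step.F (nat_lit 3450) (Step.F (nat_lit 3449) (Step.L (Step.L (Step.L (Step.L (Step.L (Step.L (Step.L (Step.L (Step.L (Step.L (Step.L (Step.L (Step.L (Step.L (Step.L (Step.L (Step.L (Step.L (Step.L (Step.D (nat_lit 2710) (Step.D (nat_lit 4948) Step.done))))))))))))))))))))))) (Scr.cons (nat_lit 6) (nat_lit 0) (Step.U (nat_lit 7962) (Step.U (nat_lit 4950) (Step.F (nat_lit 3447) (Step.B (nat_lit 1597) (Step.B (nat_lit 3448) (Step.F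 (nat_lit 3451) (Step.F (nat_lit 3450) (Step.U (nat_lit 4723) (Step.B (nat_lit 3444) (Step.D (nat_lit 7699) (Step.D (nat_lit 10719) Step.done))))))))))) (Scr.cons (nat_lit 6) (nat_lit 0) (Step.U (nat_lit 1803) (Step.U (nat_lit 811) (Step.L (Step.L (Step.L (Step.L (Step.L (Step.L (Step.L (Step.L (Step.D (nat_lit 1996) Step.done))))))))))) (Scr.cons (nat_lit 11) (nat_lit 0) (Step.U (nat_lit 6151) (Step.U (nat_lit 3515) (Step.B (nat_lit 3453) (Step.D (nat_lit 3845) (Step.D (nat_lit 6626) Step.done))))) (Scr.cons (nat_lit 12) (nat_lit 1) (Step.U (nat_lit 811) (Step.L (Step.L (Step.D (nat_lit 811) (Step.D (nat_lit 1803) Step.done))))) (Scr.cons (nat_lit 12) (nat_lit 1) (Step.U (nat_lit 3515) (Step.F (nat_lit 3455) (Step.D (nat_lit 1803) (Step.D (nat_lit 3515) (Step.D (nat_lit 6150) Step.done))))) (Scr.cons (nat_lit 12) (nat_lit 1) (Step.U (nat_lit 6151) (Step.D (nat_lit 6150) (Step.F (nat_lit 3456) (Step.D (nat_lit 6151) (Step.D (nat_lit 9313) Step.done))))) (Scr.cons (nat_lit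 12) (nat_lit 1) (Step.F (nat_lit 3454) (Step.D (nat_lit 9313) (Step.F (nat_lit 3457) (Step.B (nat_lit 3454) (Step.D (nat_lit 9785) Step.done))))) (Scr.cons (nat_lit 12) (nat_lit 4) (Step.U (nat_lit 1101) (Step.L (Step.L (Step.D (nat_lit 1101) (Step.D (nat_lit 2315) Step.done))))) (Scr.cons (nat_lit 12) (nat_lit 4) (Step.U (nat_lit 4338) (Step.F (nat_lit 3459) (Step.D (nat_lit 2315) (Step.D (nat_lit 4338) (Step.D (nat_lit 7258) Step.done))))) (Scr.cons (nat_lit 11) (nat_lit 0) (Step.U (nat_lit 4591) (Step.U (nat_lit 2472) (Step.D (nat_lit 2471) (Step.D (nat_lit 4589) (Step.D (nat_lit 7547) Step.done))))) (Scr.cons (nat_lit 4) (nat_lit 0) (Step.U (nat_lit 2474) (Step.D (nat_lit 2475) (Step.F (nat_lit 2146) (Step.B (nat_lit 2144) (Step.D (nat_lit 4326) Step.done))))) (Scr.cons (nat_lit 11) (nat_lit 0) (Step.L (Step.L (Step.L (Step.L (Step.D (nat_lit 1099) Step.done))))) (Scr.cons (nat_lit 14) (nat_lit 3) (Step.F (nat_lit 3461) (Step.U (nat_lit 4591) (Step.U (nat_lit 2472)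 (Step.L (Step.D (nat_lit 1187) (Step.F (nat_lit 2822) (Step.D (nat_lit 1188) (Step.D (nat_lit 2474) (Step.B (nat_lit 3462) (Step.U (nat_lit 4326) (Step.U (nat_lit 2307) (Step.F (nat_lit 3463) (Step.L (Step.L (Step.L (Step.L (Step.D (nat_lit 1101) (Step.B (nat_lit 3459) (Step.D (nat_lit 4338) (Step.D (nat_lit 7259) Step.done)))))))))))))))))))) (Scr.cons (nat_lit 12) (nat_lit 4) (Step.U (nat_lit 7259) (Step.D (nat_lit 7258) (Step.F (nat_lit 3460) (Step.D (nat_lit 7259) (Step.F (nat_lit 3464) Step.done))))) (Scr.cons (nat_lit 1) (nat_lit 1) (Step.D (nat_lit 2190) (Step.B (nat_lit 2398) (Step.L Step.done))) (Scr.cons (nat_lit 0) (nat_lit 1) (Step.B (nat_lit 2382) (Step.B (nat_lit 3466) (Step.L Step.done))) (Scr.cons (nat_lit 1) (nat_lit 1) (Step.U (nat_lit 1026) (Step.B (nat_lit 3467) (Step.L Step.done))) (Scr.cons (nat_lit 0) (nat_lit 1) (Step.F (nat_lit 120) (Step.B (nat_lit 3468) (Step.L Step.done))) (Scr.cons (nat_lit 1) (nat_lit 1) (Step.B (nat_lit 103) (Step.B (nat_lit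 3469) (Step.L Step.done))) (Scr.cons (nat_lit 0) (nat_lit 1) (Step.U (nat_lit 1803) (Step.B (nat_lit 3470) (Step.L Step.done))) (Scr.cons (nat_lit 1) (nat_lit 1) (Step.F (nat_lit 3453) (Step.B (nat_lit 3471) (Step.D (nat_lit 2471) Step.done))) (Scr.cons (nat_lit 1) (nat_lit 1) (Step.U (nat_lit 4589) (Step.F (nat_lit 3472) (Step.D (nat_lit 3845) Step.done))) (Scr.cons (nat_lit 1) (nat_lit 1) (Step.U (nat_lit 7547) (Step.B (nat_lit 3473) (Step.D (nat_lit 6626) Step.done))) (Scr.cons (nat_lit 0) (nat_lit 1) (Step.B (nat_lit 3465) (Step.B (nat_lit 3474) (Step.D (nat_lit 9785) Step.done))) (Scr.cons (nat_lit 0) (nat_lit 0) (Step.B (nat_lit 3458) (Step.F (nat_lit 3475) Step.done)) (Scr.cons (nat_lit 11) (nat_lit 0) (Step.U (nat_lit 190) (Step.U (nat_lit 51) (Step.L (Step.L (Step.D (nat_lit 539) Step.done))))) (Scr.cons (nat_lit 12) (nat_lit 1) (Step.U (nat_lit 51) (Step.L (Step.L (Step.D (nat_lit 51) (Step.D (nat_lit 189) Step.done))))) (Scr.cons (nat_lit 12) (nat_lit 1) (Step.U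 (nat_lit 190) (Step.D (nat_lit 189) (Step.F (nat_lit 3478) (Step.D (nat_lit 190) (Step.D (nat_lit 540) Step.done))))) (Scr.cons (nat_lit 11) (nat_lit 0) (Step.U (nat_lit 2318) (Step.U (nat_lit 1102) (Step.L (Step.D (nat_lit 2317) (Step.D (nat_lit 4341) Step.done))))) (Scr.cons (nat_lit 11) (nat_lit 0) (Step.U (nat_lit 2713) (Step.U (nat_lit 1328) (Step.D (nat_lit 1327) (Step.D (nat_lit 2712) (Step.D (nat_lit 4951) Step.done))))) (Scr.cons (nat_lit 12) (nat_lit 4) (Step.U (nat_lit 50) (Step.L (Step.L (Step.D (nat_lit 50) (Step.D (nat_lit 185) Step.done))))) Scr.nil))))))))))))))))))))))))))))))))))))))))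
noncomputable def s87 : Scr := (Scr.cons (nat_lit 12) (nat_lit 1) (Step.U (nat_lit 39) (Step.L (Step.L (Step.D (nat_lit 39) (Step.D (nat_lit 138) Step.done))))) (Scr.cons (nat_lit 7) (nat_lit 5) (Step.F (nat_lit 3482) (Step.U (nat_lit 50) (Step.L (Step.L (Step.L (Step.L (Step.L (Step.L (Step.L (Step.L (Step.L (Step.L (Step.L (Step.L (Step.L (Step.L (Step.L (Step.D (nat_lit 39) (Step.B (nat_lit 3483) (Step.D (nat_lit 405) Step.done)))))))))))))))))))) (Scr.cons (nat_lit 12) (nat_lit 4) (Step.U (nat_lit 404) (Step.F (nat_lit 3483) (Step.D (nat_lit 138) (Step.D (nat_lit 404) (Step.D (nat_lit 1043) Step.done))))) (Scr.cons (nat_lit 14) (nat_lit 3) (Step.F (nat_lit 3481) (Step.U (nat_lit 2713) (Step.U (nat_lit 1328) (Step.U (nat_lit 540) (Step.U (nat_lit 190) (Step.U (nat_lit 51) (Step.L (Step.L (Step.L (Step.L (Step.L (Step.L (Step.D (nat_lit 50) (Step.D (nat_lit 185) (Step.B (nat_lit 3484) (Step.U (nat_lit 405) (Step.D (nat_lit 404) (Step.B (nat_lit 3485) (Step.D (nat_lit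 2216) (Step.D (nat_lit 4192) Step.done)))))))))))))))))))) (Scr.cons (nat_lit 12) (nat_lit 4) (Step.U (nat_lit 2310) (Step.L (Step.L (Step.D (nat_lit 2310) (Step.D (nat_lit 4328) Step.done))))) (Scr.cons (nat_lit 13) (nat_lit 2) (Step.U (nat_lit 4340) (Step.U (nat_lit 2316) (Step.L (Step.L (Step.L (Step.L (Step.L (Step.L (Step.D (nat_lit 2310) (Step.B (nat_lit 3487) (Step.D (nat_lit 7249) Step.done))))))))))) (Scr.cons (nat_lit 12) (nat_lit 4) (Step.U (nat_lit 2216) (Step.F (nat_lit 3485) (Step.D (nat_lit 1043) (Step.D (nat_lit 2216) (Step.D (nat_lit 4191) Step.done))))) (Scr.cons (nat_lit 12) (nat_lit 4) (Step.U (nat_lit 7066) (Step.F (nat_lit 3489) (Step.D (nat_lit 4191) (Step.D (nat_lit 7066) (Step.D (nat_lit 10188) Step.done))))) (Scr.cons (nat_lit 11) (nat_lit 0) (Step.U (nat_lit 2311) (Step.L (Step.L (Step.D (nat_lit 2310) (Step.D (nat_lit 4329) Step.done))))) (Scr.cons (nat_lit 7) (nat_lit 0) (Step.U (nat_lit 2758) (Step.L (Step.L (Step.L (Step.L (Step.L (Step.L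 (Step.L (Step.L (Step.L (Step.L (Step.L (Step.L (Step.L (Step.L (Step.L (Step.L (Step.L (Step.D (nat_lit 2109) (Step.D (nat_lit 4025) Step.done)))))))))))))))))))) (Scr.cons (nat_lit 11) (nat_lit 0) (Step.U (nat_lit 2109) (Step.L (Step.L (Step.D (nat_lit 2107) (Step.F (nat_lit 2238) Step.done))))) (Scr.cons (nat_lit 16) (nat_lit 3) (Step.U (nat_lit 2759) (Step.L (Step.L (Step.L (Step.L (Step.L (Step.L (Step.L (Step.L (Step.L (Step.L (Step.L (Step.L (Step.L (Step.L (Step.L (Step.L (Step.L (Step.D (nat_lit 421) (Step.D (nat_lit 1081) (Step.D (nat_lit 2275) (Step.F (nat_lit 3493) (Step.D (nat_lit 4025) Step.done))))))))))))))))))))))) (Scr.cons (nat_lit 11) (nat_lit 0) (Step.U (nat_lit 39) (Step.L (Step.L (Step.D (nat_lit 38) (Step.D (nat_lit 137) Step.done))))) (Scr.cons (nat_lit 16) (nat_lit 0) (Step.L (Step.L (Step.L (Step.L (Step.L (Step.L (Step.L (Step.L (Step.L (Step.L (Step.L (Step.L (Step.L (Step.L (Step.D (nat_lit 38) (Step.D (nat_lit 137) (Step.F (nat_lit 3495)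 (Step.D (nat_lit 138) (Step.D (nat_lit 404) (Step.D (nat_lit 1043) (Step.D (nat_lit 2216) (Step.D (nat_lit 4192) (Step.D (nat_lit 7067) Step.done))))))))))))))))))))))) (Scr.cons (nat_lit 11) (nat_lit 0) (Step.U (nat_lit 4193) (Step.U (nat_lit 2217) (Step.D (nat_lit 2216) (Step.D (nat_lit 4192) (Step.D (nat_lit 7067) Step.done))))) (Scr.cons (nat_lit 6) (nat_lit 1) (Step.L (Step.L (Step.L (Step.L (Step.L (Step.L (Step.L (Step.B (nat_lit 3496) (Step.F (nat_lit 3497) (Step.D (nat_lit 7068) (Step.D (nat_lit 10189) Step.done))))))))))) (Scr.cons (nat_lit 6) (nat_lit 1) (Step.U (nat_lit 2217) (Step.F (nat_lit 3485) (Step.U (nat_lit 404) (Step.U (nat_lit 138) (Step.U (nat_lit 39) (Step.L (Step.L (Step.L (Step.L (Step.L (Step.D (nat_lit 4190) Step.done))))))))))) (Scr.cons (nat_lit 13) (nat_lit 2) (Step.U (nat_lit 2217) (Step.U (nat_lit 1043) (Step.U (nat_lit 404) (Step.F (nat_lit 3483) (Step.U (nat_lit 39) (Step.L (Step.L (Step.L (Step.L (Step.L (Step.D (nat_lit 4190) Step.done)))))))))))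 (Scr.cons (nat_lit 12) (nat_lit 1) (Step.U (nat_lit 4193) (Step.B (nat_lit 3499) (Step.F (nat_lit 3500) (Step.D (nat_lit 4193) (Step.D (nat_lit 7068) Step.done))))) (Scr.cons (nat_lit 16) (nat_lit 3) (Step.D (nat_lit 4329) (Step.F (nat_lit 3491) (Step.U (nat_lit 2311) (Step.L (Step.L (Step.L (Step.D (nat_lit 2758) (Step.B (nat_lit 3492) (Step.F (nat_lit 3494) (Step.F (nat_lit 3361) (Step.L (Step.L (Step.L (Step.L (Step.L (Step.B (nat_lit 3498) (Step.U (nat_lit 10189) (Step.F (nat_lit 3501) (Step.U (nat_lit 4193) (Step.U (nat_lit 2217) (Step.D (nat_lit 2216) (Step.D (nat_lit 4191) (Step.D (nat_lit 7066) (Step.D (nat_lit 10188) Step.done)))))))))))))))))))))))) (Scr.cons (nat_lit 0) (nat_lit 1) (Step.B (nat_lit 3490) (Step.F (nat_lit 3502) (Step.D (nat_lit 4328) Step.done))) (Scr.cons (nat_lit 1) (nat_lit 0) (Step.D (nat_lit 7066) (Step.B (nat_lit 3503) (Step.D (nat_lit 7249) Step.done))) (Scr.cons (nat_lit 0) (nat_lit 1) (Step.B (nat_lit 3488) (Step.F (nat_lit 3504) (Step.F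 (nat_lit 3489) Step.done))) (Scr.cons (nat_lit 1) (nat_lit 1) (Step.D (nat_lit 4340) (Step.B (nat_lit 3505) (Step.D (nat_lit 4192) Step.done))) (Scr.cons (nat_lit 12) (nat_lit 4) (Step.L (Step.L (Step.L (Step.L (Step.D (nat_lit 2316) Step.done))))) (Scr.cons (nat_lit 0) (nat_lit 1) (Step.B (nat_lit 3486) (Step.F (nat_lit 3506) (Step.F (nat_lit 3507) Step.done))) (Scr.cons (nat_lit 1) (nat_lit 1) (Step.B (nat_lit 3481) (Step.B (nat_lit 3508) (Step.D (nat_lit 2317) Step.done))) (Scr.cons (nat_lit 1) (nat_lit 1) (Step.D (nat_lit 2713) (Step.B (nat_lit 3509) (Step.D (nat_lit 4341) Step.done))) (Scr.cons (nat_lit 1) (nat_lit 1) (Step.B (nat_lit 3480) (Step.F (nat_lit 3510) (Step.U (nat_lit 1328) Step.done))) (Scr.cons (nat_lit 1) (nat_lit 0) (Step.D (nat_lit 2318) (Step.B (nat_lit 3511) Step.done)) (Scr.cons (nat_lit 14) (nat_lit 0) (Step.U (nat_lit 2711) (Step.U (nat_lit 1326) (Step.L (Step.L (Step.L (Step.D (nat_lit 539) (Step.F (nat_lit 3477) (Step.B (nat_lit 3479) (Step.F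 (nat_lit 3512) (Step.U (nat_lit 1102) (Step.L (Step.L (Step.L (Step.L (Step.L (Step.L (Step.D (nat_lit 1101) (Step.D (nat_lit 2315) (Step.D (nat_lit 4338) (Step.D (nat_lit 7259) (Step.D (nat_lit 10339) Step.done))))))))))))))))))))) (Scr.cons (nat_lit 1) (nat_lit 0) (Step.D (nat_lit 10339) (Step.F (nat_lit 3513) (Step.D (nat_lit 4950) Step.done))) (Scr.cons (nat_lit 0) (nat_lit 1) (Step.B (nat_lit 3476) (Step.B (nat_lit 3514) (Step.D (nat_lit 7962) Step.done))) (Scr.cons (nat_lit 1) (nat_lit 0) (Step.B (nat_lit 3461) (Step.B (nat_lit 3474) Step.done)) (Scr.cons (nat_lit 1) (nat_lit 1) (Step.F (nat_lit 3452) (Step.F (nat_lit 3515) (Step.F (nat_lit 3516) Step.done))) (Scr.cons (nat_lit 0) (nat_lit 1) (Step.B (nat_lit 3445) (Step.B (nat_lit 3517) (Step.D (nat_lit 7549) Step.done))) (Scr.cons (nat_lit 1) (nat_lit 0) (Step.D (nat_lit 7699) (Step.B (nat_lit 3518) (Step.D (nat_lit 10590) Step.done))) (Scr.cons (nat_lit 1) (nat_lit 0) (Step.D (nat_lit 10590) (Step.F (nat_lit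 3519) Step.done)) (Scr.cons (nat_lit 12) (nat_lit 1) (Step.U (nat_lit 2472) (Step.L (Step.L (Step.D (nat_lit 2472) (Step.D (nat_lit 4590) Step.done))))) (Scr.cons (nat_lit 12) (nat_lit 1) (Step.U (nat_lit 4591) (Step.D (nat_lit 4590) (Step.F (nat_lit 3521) (Step.D (nat_lit 4591) (Step.D (nat_lit 7549) Step.done))))) Scr.nil))))))))))))))))))))))))))))))))))))))))
noncomputable def s88 : Scr := (Scr.cons (nat_lit 1) (nat_lit 1) (Step.D (nat_lit 2471) (Step.F (nat_lit 3472) Step.done)) (Scr.cons (nat_lit 12) (nat_lit 4) (Step.L (Step.L (Step.L (Step.L (Step.D (nat_lit 1996) Step.done))))) (Scr.cons (nat_lit 16) (nat_lit 2) (Step.L (Step.L (Step.L (Step.L (Step.L (Step.L (Step.L (Step.L (Step.L (Step.L (Step.D (nat_lit 4722) (Step.F (nat_lit 3520) (Step.F (nat_lit 3522) (Step.U (nat_lit 4591) (Step.U (nat_lit 2472) (Step.B (nat_lit 3523) (Step.F (nat_lit 3524) (Step.L (Step.L (Step.L (Step.L (Step.L (Step.D (nat_lit 7720) (Step.D (nat_lit 10735) Step.done))))))))))))))))))))))))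 (Scr.cons (nat_lit 1) (nat_lit 0) (Step.D (nat_lit 10735) (Step.F (nat_lit 3525) (Step.L Step.done))) (Scr.cons (nat_lit 0) (nat_lit 1) (Step.B (nat_lit 3440) (Step.B (nat_lit 3526) (Step.D (nat_lit 6426) Step.done))) (Scr.cons (nat_lit 0) (nat_lit 0) (Step.B (nat_lit 3439) (Step.F (nat_lit 3527) Step.done)) (Scr.cons (nat_lit 6) (nat_lit 3) (Step.L (Step.L (Step.L (Step.L (Step.L (Step.L (Step.L (Step.L (Step.L (Step.B (nat_lit 3439) (Step.D (nat_lit 9572) Step.done))))))))))) (Scr.cons (nat_lit 1) (nat_lit 1) (Step.U (nat_lit 9572) (Step.F (nat_lit 3527) (Step.D (nat_lit 7721) Step.done))) (Scr.cons (nat_lit 11) (nat_lit 0) (Step.U (nat_lit 3104) (Step.L (Step.L (Step.L (Step.D (nat_lit 5531) Step.done))))) (Scr.cons (nat_lit 7) (nat_lit 6) (Step.U (nat_lit 5531) (Step.L (Step.L (Step.L (Step.L (Step.L (Step.L (Step.L (Step.L (Step.L (Step.L (Step.L (Step.L (Step.L (Step.L (Step.L (Step.L (Step.L (Step.L (Step.L Step.done)))))))))))))))))))) (Scr.cons (nat_lit 9) (nat_lit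 5) (Step.U (nat_lit 7721) (Step.L (Step.L (Step.L (Step.D (nat_lit 1250) (Step.B (nat_lit 2465) (Step.B (nat_lit 2466) (Step.U (nat_lit 3228) (Step.L (Step.L (Step.L (Step.L (Step.L (Step.L (Step.L (Step.L (Step.L (Step.L (Step.L (Step.D (nat_lit 3104) (Step.B (nat_lit 3531) (Step.B (nat_lit 3532) (Step.D (nat_lit 10395) Step.done))))))))))))))))))))))) (Scr.cons (nat_lit 0) (nat_lit 1) (Step.B (nat_lit 3529) (Step.B (nat_lit 3530) (Step.B (nat_lit 3533) Step.done))) (Scr.cons (nat_lit 1) (nat_lit 1) (Step.D (nat_lit 10395) (Step.F (nat_lit 3534) (Step.D (nat_lit 11045) Step.done))) (Scr.cons (nat_lit 1) (nat_lit 1) (Step.D (nat_lit 11045) (Step.F (nat_lit 3535) Step.done)) (Scr.cons (nat_lit 12) (nat_lit 1) (Step.L (Step.L (Step.L (Step.L (Step.D (nat_lit 9257) Step.done))))) (Scr.cons (nat_lit 12) (nat_lit 4) (Step.L (Step.L (Step.L (Step.L (Step.D (nat_lit 6425) Step.done))))) (Scr.cons (nat_lit 0) (nat_lit 1) (Step.B (nat_lit 3533) (Step.F (nat_lit 3534) Step.done))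 (Scr.cons (nat_lit 12) (nat_lit 4) (Step.L (Step.D (nat_lit 6425) (Step.F (nat_lit 3538) (Step.L (Step.D (nat_lit 9571) Step.done))))) (Scr.cons (nat_lit 9) (nat_lit 4) (Step.U (nat_lit 9259) (Step.L (Step.L (Step.L (Step.L (Step.L (Step.L (Step.L (Step.L (Step.L (Step.L (Step.L (Step.L (Step.L (Step.L (Step.L (Step.L (Step.F (nat_lit 3539) (Step.U (nat_lit 7721) (Step.L (Step.L (Step.L (Step.L (Step.B (nat_lit 3540) Step.done)))))))))))))))))))))))) (Scr.cons (nat_lit 0) (nat_lit 1) (Step.D (nat_lit 9571) (Step.F (nat_lit 3541) Step.done)) (Scr.cons (nat_lit 13) (nat_lit 0) (Step.L (Step.L (Step.L (Step.L (Step.L (Step.L (Step.L (Step.D (nat_lit 9259) (Step.F (nat_lit 3542) (Step.L (Step.D (nat_lit 6425) (Step.D (nat_lit 9570) Step.done)))))))))))) (Scr.cons (nat_lit 1) (nat_lit 0) (Step.D (nat_lit 9570) (Step.F (nat_lit 3543) (Step.L Step.done))) (Scr.cons (nat_lit 0) (nat_lit 1) (Step.B (nat_lit 3538) (Step.B (nat_lit 3544) (Step.D (nat_lit 9257) Step.done))) (Scr.cons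 (nat_lit 0) (nat_lit 0) (Step.B (nat_lit 3537) (Step.F (nat_lit 3545) Step.done)) (Scr.cons (nat_lit 12) (nat_lit 1) (Step.L (Step.L (Step.L (Step.L (Step.D (nat_lit 3999) Step.done))))) (Scr.cons (nat_lit 12) (nat_lit 1) (Step.L (Step.D (nat_lit 3999) (Step.F (nat_lit 3547) (Step.L (Step.D (nat_lit 6848) Step.done))))) (Scr.cons (nat_lit 12) (nat_lit 1) (Step.L (Step.L (Step.L (Step.L (Step.D (nat_lit 6774) Step.done))))) (Scr.cons (nat_lit 12) (nat_lit 1) (Step.U (nat_lit 2057) (Step.L (Step.L (Step.D (nat_lit 2057) (Step.D (nat_lit 3953) Step.done))))) (Scr.cons (nat_lit 13) (nat_lit 0) (Step.U (nat_lit 6775) (Step.F (nat_lit 3550) (Step.U (nat_lit 2057) (Step.L (Step.L (Step.L (Step.L (Step.L (Step.L (Step.D (nat_lit 6774) (Step.D (nat_lit 9939) Step.done))))))))))) (Scr.cons (nat_lit 13) (nat_lit 2) (Step.L (Step.L (Step.L (Step.L (Step.L (Step.L (Step.L (Step.L (Step.L (Step.B (nat_lit 1675) (Step.D (nat_lit 5542) Step.done))))))))))) (Scr.cons (nat_lit 11) (nat_lit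 0) (Step.U (nat_lit 5542) (Step.B (nat_lit 1683) (Step.U (nat_lit 3649) (Step.D (nat_lit 3648) (Step.D (nat_lit 6358) Step.done))))) (Scr.cons (nat_lit 12) (nat_lit 1) (Step.U (nat_lit 3164) (Step.L (Step.L (Step.D (nat_lit 3164) (Step.D (nat_lit 5608) Step.done))))) (Scr.cons (nat_lit 9) (nat_lit 1) (Step.U (nat_lit 5621) (Step.U (nat_lit 3171) (Step.U (nat_lit 1596) (Step.L (Step.L (Step.L (Step.L (Step.L (Step.L (Step.L (Step.L (Step.L (Step.L (Step.L (Step.L (Step.L (Step.L (Step.L (Step.L (Step.L (Step.D (nat_lit 3164) (Step.B (nat_lit 3554) (Step.D (nat_lit 8699) Step.done))))))))))))))))))))))) (Scr.cons (nat_lit 1) (nat_lit 1) (Step.D (nat_lit 3649) (Step.B (nat_lit 1725) (Step.D (nat_lit 5621) Step.done))) (Scr.cons (nat_lit 1) (nat_lit 1) (Step.F (nat_lit 3555) (Step.F (nat_lit 3556) (Step.D (nat_lit 3648) Step.done))) (Scr.cons (nat_lit 1) (nat_lit 1) (Step.D (nat_lit 8699) (Step.B (nat_lit 3557) (Step.D (nat_lit 6358) Step.done))) (Scr.cons (nat_lit 1) (nat_lit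 0) (Step.B (nat_lit 3553) (Step.F (nat_lit 3558) Step.done)) (Scr.cons (nat_lit 12) (nat_lit 1) (Step.U (nat_lit 5609) (Step.D (nat_lit 5608) (Step.F (nat_lit 3554) (Step.D (nat_lit 5609) (Step.D (nat_lit 8700) Step.done))))) (Scr.cons (nat_lit 12) (nat_lit 1) (Step.L (Step.D (nat_lit 964) (Step.F (nat_lit 1811) (Step.L (Step.D (nat_lit 2072) Step.done))))) (Scr.cons (nat_lit 11) (nat_lit 0) (Step.L (Step.L (Step.L (Step.L (Step.D (nat_lit 569) Step.done))))) Scr.nil))))))))))))))))))))))))))))))))))))))))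
noncomputable def s89 : Scr := (Scr.cons (nat_lit 13) (nat_lit 3) (Step.U (nat_lit 2508) (Step.U (nat_lit 1210) (Step.F (nat_lit 3137) (Step.L (Step.B (nat_lit 43) (Step.D (nat_lit 551) (Step.F (nat_lit 1298) (Step.F (nat_lit 3562) (Step.B (nat_lit 1795) (Step.D (nat_lit 1389) (Step.D (nat_lit 2826) Step.done))))))))))) (Scr.cons (nat_lit 11) (nat_lit 0) (Step.F (nat_lit 1810) (Step.U (nat_lit 5114) (Step.F (nat_lit 3563) (Step.D (nat_lit 4637) (Step.D (nat_lit 7595) Step.done))))) (Scr.cons (nat_lit 1) (nat_lit 0) (Step.F (nat_lit 3564) (Step.B (nat_lit 1905) (Step.D (nat_lit 3976) Step.done))) (Scr.cons (nat_lit 1) (nat_lit 0) (Step.D (nat_lit 7595) (Step.B (nat_lit 3565) (Step.D (nat_lit 6813) Step.done))) (Scr.cons (nat_lit 1) (nat_lit 0) (Step.D (nat_lit 6813) (Step.F (nat_lit 3566) Step.done)) (Scr.cons (nat_lit 11) (nat_lit 0) (Step.U (nat_lit 5609) (Step.U (nat_lit 3164) (Step.L (Step.D (nat_lit 5607) (Step.D (nat_lit 8698) Step.done))))) (Scr.cons (nat_lit 1)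 (nat_lit 1) (Step.D (nat_lit 6358) (Step.F (nat_lit 3558) Step.done)) (Scr.cons (nat_lit 12) (nat_lit 1) (Step.U (nat_lit 868) (Step.F (nat_lit 1684) (Step.D (nat_lit 323) (Step.D (nat_lit 868) (Step.D (nat_lit 1881) Step.done))))) (Scr.cons (nat_lit 12) (nat_lit 1) (Step.U (nat_lit 1882) (Step.D (nat_lit 1881) (Step.F (nat_lit 3570) (Step.D (nat_lit 1882) (Step.D (nat_lit 3651) Step.done))))) (Scr.cons (nat_lit 12) (nat_lit 1) (Step.U (nat_lit 1611) (Step.L (Step.L (Step.D (nat_lit 1611) (Step.D (nat_lit 3198) Step.done))))) (Scr.cons (nat_lit 12) (nat_lit 1) (Step.U (nat_lit 5662) (Step.F (nat_lit 3572) (Step.D (nat_lit 3198) (Step.D (nat_lit 5662) (Step.D (nat_lit 8765) Step.done))))) (Scr.cons (nat_lit 11) (nat_lit 0) (Step.U (nat_lit 5050) (Step.U (nat_lit 2779) (Step.D (nat_lit 2778) (Step.D (nat_lit 5048) (Step.D (nat_lit 8063) Step.done))))) (Scr.cons (nat_lit 12) (nat_lit 1) (Step.U (nat_lit 2779) (Step.L (Step.L (Step.D (nat_lit 2779) (Step.D (nat_lit 5049)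 Step.done))))) (Scr.cons (nat_lit 12) (nat_lit 1) (Step.U (nat_lit 5050) (Step.D (nat_lit 5049) (Step.F (nat_lit 3575) (Step.D (nat_lit 5050) (Step.D (nat_lit 8064) Step.done))))) (Scr.cons (nat_lit 12) (nat_lit 1) (Step.F (nat_lit 3574) (Step.D (nat_lit 8064) (Step.F (nat_lit 3576) (Step.B (nat_lit 3574) (Step.D (nat_lit 11043) Step.done))))) (Scr.cons (nat_lit 11) (nat_lit 0) (Step.L (Step.L (Step.D (nat_lit 879) (Step.D (nat_lit 1902) (Step.D (nat_lit 3688) Step.done))))) (Scr.cons (nat_lit 12) (nat_lit 1) (Step.F (nat_lit 3578) (Step.L (Step.L (Step.B (nat_lit 3578) (Step.D (nat_lit 6414) Step.done))))) (Scr.cons (nat_lit 7) (nat_lit 5) (Step.F (nat_lit 3577) (Step.U (nat_lit 8063) (Step.U (nat_lit 5048) (Step.U (nat_lit 2778) (Step.L (Step.L (Step.L (Step.L (Step.L (Step.L (Step.L (Step.L (Step.L (Step.L (Step.L (Step.L (Step.L (Step.B (nat_lit 3578) (Step.B (nat_lit 3579) (Step.D (nat_lit 9556) Step.done)))))))))))))))))))) (Scr.cons (nat_lit 7) (nat_lit 1) (Step.L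 (Step.L (Step.L (Step.L (Step.L (Step.L (Step.L (Step.L (Step.L (Step.L (Step.L (Step.L (Step.L (Step.L (Step.L (Step.L (Step.L (Step.D (nat_lit 2779) (Step.D (nat_lit 5050) (Step.D (nat_lit 8064) (Step.D (nat_lit 11044) Step.done))))))))))))))))))))) (Scr.cons (nat_lit 1) (nat_lit 1) (Step.D (nat_lit 11044) (Step.F (nat_lit 3581) (Step.L Step.done))) (Scr.cons (nat_lit 0) (nat_lit 1) (Step.B (nat_lit 3576) (Step.B (nat_lit 3582) (Step.L Step.done))) (Scr.cons (nat_lit 1) (nat_lit 0) (Step.F (nat_lit 3574) (Step.B (nat_lit 3583) (Step.L Step.done))) (Scr.cons (nat_lit 0) (nat_lit 1) (Step.U (nat_lit 11043) (Step.B (nat_lit 3584) (Step.L Step.done))) (Scr.cons (nat_lit 1) (nat_lit 1) (Step.F (nat_lit 3580) (Step.B (nat_lit 3585) (Step.D (nat_lit 7321) Step.done))) (Scr.cons (nat_lit 1) (nat_lit 1) (Step.D (nat_lit 9556) (Step.B (nat_lit 3586) (Step.D (nat_lit 10392) Step.done))) (Scr.cons (nat_lit 1) (nat_lit 1) (Step.D (nat_lit 10392) (Step.F (nat_lit 3587) Step.done))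 (Scr.cons (nat_lit 4) (nat_lit 0) (Step.U (nat_lit 9555) (Step.F (nat_lit 3588) (Step.U (nat_lit 7321) (Step.D (nat_lit 7322) (Step.D (nat_lit 10394) Step.done))))) (Scr.cons (nat_lit 8) (nat_lit 1) (Step.U (nat_lit 1136) (Step.U (nat_lit 446) (Step.L (Step.L (Step.L (Step.L (Step.L (Step.L (Step.L (Step.L (Step.L (Step.L (Step.L (Step.B (nat_lit 138) (Step.D (nat_lit 2368) Step.done))))))))))))))) (Scr.cons (nat_lit 12) (nat_lit 0) (Step.B (nat_lit 3590) (Step.U (nat_lit 2368) (Step.F (nat_lit 138) (Step.D (nat_lit 1134) (Step.D (nat_lit 2368) Step.done))))) (Scr.cons (nat_lit 12) (nat_lit 1) (Step.U (nat_lit 4402) (Step.F (nat_lit 3591) (Step.B (nat_lit 3590) (Step.D (nat_lit 4402) (Step.D (nat_lit 7316) Step.done))))) (Scr.cons (nat_lit 6) (nat_lit 3) (Step.U (nat_lit 7321) (Step.L (Step.L (Step.L (Step.L (Step.B (nat_lit 37) (Step.D (nat_lit 1136) (Step.B (nat_lit 3590) (Step.D (nat_lit 4402) (Step.B (nat_lit 3592) (Step.D (nat_lit 10389) Step.done))))))))))) (Scr.cons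 (nat_lit 6) (nat_lit 0) (Step.U (nat_lit 1134) (Step.L (Step.L (Step.L (Step.B (nat_lit 2461) (Step.F (nat_lit 2459) (Step.F (nat_lit 2458) (Step.L (Step.L (Step.L (Step.D (nat_lit 1579) Step.done))))))))))) (Scr.cons (nat_lit 11) (nat_lit 0) (Step.U (nat_lit 4402) (Step.U (nat_lit 2368) (Step.B (nat_lit 3594) (Step.D (nat_lit 3143) (Step.D (nat_lit 5575) Step.done))))) (Scr.cons (nat_lit 9) (nat_lit 0) (Step.F (nat_lit 3589) (Step.U (nat_lit 9555) (Step.F (nat_lit 3588) (Step.B (nat_lit 3593) (Step.U (nat_lit 10389) (Step.U (nat_lit 7316) (Step.B (nat_lit 3595) (Step.U (nat_lit 5575) (Step.U (nat_lit 3143) (Step.U (nat_lit 1579) (Step.L (Step.L (Step.L (Step.L (Step.L (Step.L (Step.L (Step.L (Step.L (Step.L (Step.D (nat_lit 1611) (Step.B (nat_lit 3572) (Step.D (nat_lit 5662) (Step.B (nat_lit 3573) Step.done)))))))))))))))))))))))) (Scr.cons (nat_lit 1) (nat_lit 1) (Step.B (nat_lit 3589) (Step.B (nat_lit 3596) Step.done)) (Scr.cons (nat_lit 7) (nat_lit 2) (Step.D (nat_lit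 5662) (Step.B (nat_lit 3573) (Step.F (nat_lit 3597) (Step.U (nat_lit 9555) (Step.F (nat_lit 3579) (Step.U (nat_lit 3688) (Step.U (nat_lit 1902) (Step.U (nat_lit 879) (Step.L (Step.L (Step.L (Step.L (Step.L (Step.B (nat_lit 1754) (Step.U (nat_lit 324) (Step.B (nat_lit 1684) (Step.D (nat_lit 868) (Step.D (nat_lit 1882) (Step.D (nat_lit 3651) (Step.D (nat_lit 6360) (Step.D (nat_lit 9514) Step.done))))))))))))))))))))) (Scr.cons (nat_lit 1) (nat_lit 1) (Step.D (nat_lit 9514) (Step.F (nat_lit 3598) (Step.D (nat_lit 5661) Step.done))) (Scr.cons (nat_lit 1) (nat_lit 1) (Step.D (nat_lit 6360) (Step.B (nat_lit 3599) (Step.D (nat_lit 8764) Step.done))) (Scr.cons (nat_lit 1) (nat_lit 1) (Step.D (nat_lit 8764) (Step.F (nat_lit 3600) Step.done)) (Scr.cons (nat_lit 11) (nat_lit 0) (Step.U (nat_lit 1611) (Step.L (Step.L (Step.L (Step.D (nat_lit 3146) Step.done))))) Scr.nil))))))))))))))))))))))))))))))))))))))))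
noncomputable def s90 : Scr := (Scr.cons (nat_lit 7) (nat_lit 2) (Step.D (nat_lit 3164) (Step.B (nat_lit 3554) (Step.F (nat_lit 3569) (Step.U (nat_lit 3648) (Step.F (nat_lit 1685) (Step.U (nat_lit 867) (Step.D (nat_lit 868) (Step.D (nat_lit 1882) (Step.B (nat_lit 3571) (Step.F (nat_lit 3601) (Step.U (nat_lit 5661) (Step.F (nat_lit 3572) (Step.B (nat_lit 3602) (Step.U (nat_lit 3146) (Step.L (Step.L (Step.L (Step.L (Step.L (Step.D (nat_lit 5580) (Step.D (nat_lit 8675) Step.done))))))))))))))))))))) (Scr.cons (nat_lit 1) (nat_lit 1) (Step.D (nat_lit 8675) (Step.F (nat_lit 3603) (Step.L Step.done))) (Scr.cons (nat_lit 1) (nat_lit 1) (Step.D (nat_lit 5580) (Step.B (nat_lit 3604) (Step.D (nat_lit 5607) Step.done))) (Scr.cons (nat_lit 1) (nat_lit 1) (Step.U (nat_lit 8698) (Step.F (nat_lit 3605) (Step.L Step.done))) (Scr.cons (nat_lit 1) (nat_lit 1) (Step.B (nat_lit 3568) (Step.B (nat_lit 3606) (Step.D (nat_lit 8674) Step.done))) (Scr.cons (nat_lit 1) (nat_lit 1) (Step.D (nat_lit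 8674) (Step.F (nat_lit 3607) Step.done)) (Scr.cons (nat_lit 12) (nat_lit 4) (Step.L (Step.L (Step.L (Step.L (Step.D (nat_lit 5606) Step.done))))) (Scr.cons (nat_lit 0) (nat_lit 1) (Step.B (nat_lit 3040) (Step.B (nat_lit 3604) (Step.D (nat_lit 5606) Step.done))) (Scr.cons (nat_lit 0) (nat_lit 0) (Step.B (nat_lit 3609) (Step.F (nat_lit 3610) Step.done)) (Scr.cons (nat_lit 12) (nat_lit 1) (Step.U (nat_lit 6042) (Step.D (nat_lit 6041) (Step.F (nat_lit 2937) (Step.D (nat_lit 6042) (Step.D (nat_lit 9190) Step.done))))) (Scr.cons (nat_lit 12) (nat_lit 1) (Step.F (nat_lit 2945) (Step.D (nat_lit 9190) (Step.F (nat_lit 3612) (Step.B (nat_lit 2945) (Step.F (nat_lit 2946) Step.done))))) (Scr.cons (nat_lit 12) (nat_lit 4) (Step.U (nat_lit 3975) (Step.F (nat_lit 3561) (Step.D (nat_lit 2072) (Step.D (nat_lit 3975) (Step.D (nat_lit 6811) Step.done))))) (Scr.cons (nat_lit 0) (nat_lit 1) (Step.B (nat_lit 1803) (Step.B (nat_lit 1906) (Step.D (nat_lit 6811) Step.done))) (Scr.cons (nat_lit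 0) (nat_lit 0) (Step.B (nat_lit 3614) (Step.F (nat_lit 3615) Step.done)) (Scr.cons (nat_lit 12) (nat_lit 4) (Step.U (nat_lit 4637) (Step.F (nat_lit 3200) (Step.D (nat_lit 2508) (Step.D (nat_lit 4637) (Step.D (nat_lit 7594) Step.done))))) (Scr.cons (nat_lit 7) (nat_lit 5) (Step.F (nat_lit 3560) (Step.F (nat_lit 3608) (Step.L (Step.L (Step.B (nat_lit 3611) (Step.U (nat_lit 3433) (Step.U (nat_lit 1748) (Step.D (nat_lit 1747) (Step.D (nat_lit 3431) (Step.D (nat_lit 6042) (Step.B (nat_lit 2945) (Step.B (nat_lit 3613) (Step.U (nat_lit 9214) (Step.U (nat_lit 6063) (Step.F (nat_lit 3616) (Step.U (nat_lit 3975) (Step.D (nat_lit 3976) (Step.B (nat_lit 3567) (Step.B (nat_lit 3617) (Step.D (nat_lit 10624) Step.done)))))))))))))))))))) (Scr.cons (nat_lit 7) (nat_lit 2) (Step.U (nat_lit 9959) (Step.U (nat_lit 6796) (Step.U (nat_lit 3965) (Step.L (Step.L (Step.L (Step.L (Step.L (Step.L (Step.L (Step.L (Step.L (Step.L (Step.L (Step.B (nat_lit 3561) (Step.D (nat_lit 3976) (Step.B (nat_lit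 3567) (Step.D (nat_lit 7594) (Step.D (nat_lit 10624) (Step.F (nat_lit 3618) Step.done)))))))))))))))))))) (Scr.cons (nat_lit 12) (nat_lit 4) (Step.U (nat_lit 3965) (Step.L (Step.L (Step.D (nat_lit 3965) (Step.D (nat_lit 6795) Step.done))))) (Scr.cons (nat_lit 9) (nat_lit 2) (Step.U (nat_lit 6795) (Step.U (nat_lit 3965) (Step.L (Step.L (Step.L (Step.L (Step.L (Step.L (Step.L (Step.L (Step.L (Step.L (Step.L (Step.L (Step.L (Step.L (Step.L (Step.L (Step.L (Step.D (nat_lit 2057) (Step.B (nat_lit 3550) (Step.D (nat_lit 6776) (Step.D (nat_lit 9941) Step.done))))))))))))))))))))))) (Scr.cons (nat_lit 11) (nat_lit 0) (Step.B (nat_lit 3621) (Step.U (nat_lit 9941) (Step.U (nat_lit 6776) (Step.D (nat_lit 6775) (Step.D (nat_lit 9940) Step.done))))) (Scr.cons (nat_lit 8) (nat_lit 1) (Step.U (nat_lit 6428) (Step.L (Step.L (Step.L (Step.L (Step.L (Step.B (nat_lit 3552) (Step.B (nat_lit 3559) (Step.U (nat_lit 5608) (Step.D (nat_lit 5609) (Step.B (nat_lit 3560) (Step.F (nat_lit 3619)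 (Step.U (nat_lit 9959) (Step.U (nat_lit 6796) (Step.B (nat_lit 3620) (Step.B (nat_lit 3622) Step.done)))))))))))))))) (Scr.cons (nat_lit 6) (nat_lit 0) (Step.U (nat_lit 3999) (Step.L (Step.L (Step.L (Step.L (Step.L (Step.L (Step.L (Step.L (Step.L (Step.D (nat_lit 6428) Step.done))))))))))) (Scr.cons (nat_lit 1) (nat_lit 0) (Step.D (nat_lit 9940) (Step.F (nat_lit 3623) (Step.F (nat_lit 3624) Step.done))) (Scr.cons (nat_lit 0) (nat_lit 1) (Step.F (nat_lit 3551) (Step.B (nat_lit 3625) (Step.F (nat_lit 3547) Step.done))) (Scr.cons (nat_lit 1) (nat_lit 0) (Step.D (nat_lit 9939) (Step.B (nat_lit 3626) (Step.L Step.done))) (Scr.cons (nat_lit 0) (nat_lit 1) (Step.B (nat_lit 3549) (Step.B (nat_lit 3627) (Step.D (nat_lit 6848) Step.done))) (Scr.cons (nat_lit 0) (nat_lit 0) (Step.B (nat_lit 3548) (Step.F (nat_lit 3628) Step.done)) (Scr.cons (nat_lit 11) (nat_lit 0) (Step.U (nat_lit 978) (Step.U (nat_lit 364) (Step.D (nat_lit 363) (Step.D (nat_lit 976) (Step.D (nat_lit 2099) Step.done)))))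 (Scr.cons (nat_lit 12) (nat_lit 1) (Step.U (nat_lit 3) (Step.L (Step.L (Step.D (nat_lit 3) (Step.D (nat_lit 31) Step.done))))) (Scr.cons (nat_lit 12) (nat_lit 1) (Step.U (nat_lit 32) (Step.D (nat_lit 31) (Step.F (nat_lit 3631) (Step.D (nat_lit 32) (Step.D (nat_lit 118) Step.done))))) (Scr.cons (nat_lit 12) (nat_lit 1) (Step.U (nat_lit 364) (Step.F (nat_lit 3632) (Step.D (nat_lit 118) (Step.D (nat_lit 364) (Step.D (nat_lit 977) Step.done))))) (Scr.cons (nat_lit 12) (nat_lit 1) (Step.U (nat_lit 978) (Step.D (nat_lit 977) (Step.F (nat_lit 3633) (Step.D (nat_lit 978) (Step.D (nat_lit 2101) Step.done))))) (Scr.cons (nat_lit 12) (nat_lit 1) (Step.F (nat_lit 3630) (Step.D (nat_lit 2101) (Step.F (nat_lit 3634) (Step.B (nat_lit 3630) (Step.D (nat_lit 4012) Step.done))))) (Scr.cons (nat_lit 14) (nat_lit 2) (Step.F (nat_lit 3635) (Step.F (nat_lit 3630) (Step.U (nat_lit 978) (Step.U (nat_lit 364) (Step.U (nat_lit 118) (Step.U (nat_lit 32) (Step.U (nat_lit 3) (Step.L (Step.L (Step.L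 (Step.L (Step.L (Step.L (Step.L (Step.L (Step.L (Step.L (Step.L (Step.L (Step.D (nat_lit 3998) Step.done)))))))))))))))))))) (Scr.cons (nat_lit 12) (nat_lit 4) (Step.U (nat_lit 363) (Step.F (nat_lit 3632) (Step.D (nat_lit 118) (Step.D (nat_lit 363) (Step.D (nat_lit 975) Step.done))))) (Scr.cons (nat_lit 12) (nat_lit 4) (Step.U (nat_lit 976) (Step.D (nat_lit 975) (Step.F (nat_lit 3637) (Step.D (nat_lit 976) (Step.D (nat_lit 2098) Step.done))))) (Scr.cons (nat_lit 11) (nat_lit 0) (Step.U (nat_lit 6862) (Step.U (nat_lit 4011) (Step.D (nat_lit 4010) (Step.D (nat_lit 6861) (Step.D (nat_lit 10004) Step.done))))) (Scr.cons (nat_lit 12) (nat_lit 4) (Step.U (nat_lit 1749) (Step.F (nat_lit 1073) (Step.D (nat_lit 774) (Step.D (nat_lit 1749) (Step.D (nat_lit 3434) Step.done))))) (Scr.cons (nat_lit 12) (nat_lit 4) (Step.U (nat_lit 3435) (Step.D (nat_lit 3434) (Step.F (nat_lit 3640) (Step.D (nat_lit 3435) (Step.D (nat_lit 6045) Step.done))))) (Scr.cons (nat_lit 12) (nat_lit 4) (Step.U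 (nat_lit 1469) (Step.L (Step.L (Step.D (nat_lit 1469) (Step.D (nat_lit 2969) Step.done))))) Scr.nil))))))))))))))))))))))))))))))))))))))))
noncomputable def s91 : Scr := (Scr.cons (nat_lit 4) (nat_lit 0) (Step.U (nat_lit 1469) (Step.L (Step.L (Step.L (Step.D (nat_lit 2035) Step.done))))) (Scr.cons (nat_lit 12) (nat_lit 1) (Step.U (nat_lit 2035) (Step.L (Step.L (Step.D (nat_lit 2035) (Step.D (nat_lit 3918) Step.done))))) (Scr.cons (nat_lit 12) (nat_lit 1) (Step.U (nat_lit 99) (Step.L (Step.L (Step.D (nat_lit 99) (Step.D (nat_lit 314) Step.done))))) (Scr.cons (nat_lit 12) (nat_lit 1) (Step.U (nat_lit 315) (Step.D (nat_lit 314) (Step.F (nat_lit 3645) (Step.D (nat_lit 315) (Step.D (nat_lit 851) Step.done))))) (Scr.cons (nat_lit 14) (nat_lit 6) (Step.U (nat_lit 6313) (Step.U (nat_lit 3615) (Step.U (nat_lit 1859) (Step.F (nat_lit 3646) (Step.U (nat_lit 315) (Step.U (nat_lit 99) (Step.L (Step.L (Step.L (Step.L (Step.L (Step.D (nat_lit 1867) (Step.D (nat_lit 3630) (Step.F (nat_lit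 2245) (Step.U (nat_lit 2285) (Step.D (nat_lit 2286) (Step.F (nat_lit 2230) (Step.D (nat_lit 2287) (Step.D (nat_lit 4289) (Step.D (nat_lit 7192) Step.done)))))))))))))))))))) (Scr.cons (nat_lit 4) (nat_lit 0) (Step.B (nat_lit 3647) (Step.U (nat_lit 7192) (Step.U (nat_lit 4289) (Step.D (nat_lit 4290) (Step.D (nat_lit 7194) Step.done))))) (Scr.cons (nat_lit 13) (nat_lit 0) (Step.U (nat_lit 4064) (Step.L (Step.L (Step.L (Step.L (Step.L (Step.L (Step.L (Step.D (nat_lit 2035) (Step.D (nat_lit 3918) (Step.D (nat_lit 6721) Step.done))))))))))) (Scr.cons (nat_lit 12) (nat_lit 0) (Step.B (nat_lit 2229) (Step.U (nat_lit 7177) (Step.F (nat_lit 2228) (Step.D (nat_lit 4280) (Step.D (nat_lit 7177) Step.done))))) (Scr.cons (nat_lit 1) (nat_lit 1) (Step.B (nat_lit 2249) (Step.B (nat_lit 2316) (Step.L Step.done))) (Scr.cons (nat_lit 1) (nat_lit 1) (Step.D (nat_lit 4281) (Step.B (nat_lit 3651) (Step.L Step.done))) (Scr.cons (nat_lit 0) (nat_lit 1) (Step.U (nat_lit 4280) (Step.B (nat_lit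 3652) (Step.D (nat_lit 2072) Step.done))) (Scr.cons (nat_lit 1) (nat_lit 0) (Step.U (nat_lit 7177) (Step.B (nat_lit 3653) (Step.D (nat_lit 3976) Step.done))) (Scr.cons (nat_lit 6) (nat_lit 1) (Step.U (nat_lit 3976) (Step.F (nat_lit 3561) (Step.L (Step.L (Step.L (Step.L (Step.L (Step.L (Step.L (Step.L (Step.D (nat_lit 6267) Step.done))))))))))) (Scr.cons (nat_lit 0) (nat_lit 1) (Step.B (nat_lit 3650) (Step.B (nat_lit 3654) (Step.B (nat_lit 3655) Step.done))) (Scr.cons (nat_lit 1) (nat_lit 0) (Step.F (nat_lit 1910) (Step.F (nat_lit 3656) (Step.L Step.done))) (Scr.cons (nat_lit 1) (nat_lit 0) (Step.D (nat_lit 9444) (Step.B (nat_lit 3657) (Step.L Step.done))) (Scr.cons (nat_lit 0) (nat_lit 1) (Step.B (nat_lit 1892) (Step.B (nat_lit 3658) (Step.L Step.done))) (Scr.cons (nat_lit 1) (nat_lit 0) (Step.D (nat_lit 6919) (Step.B (nat_lit 3659) (Step.L Step.done))) (Scr.cons (nat_lit 0) (nat_lit 1) (Step.F (nat_lit 3649) (Step.B (nat_lit 3660) (Step.D (nat_lit 2287) Step.done)))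 (Scr.cons (nat_lit 1) (nat_lit 0) (Step.D (nat_lit 6721) (Step.B (nat_lit 3661) (Step.D (nat_lit 4290) Step.done))) (Scr.cons (nat_lit 1) (nat_lit 0) (Step.U (nat_lit 7194) (Step.F (nat_lit 3662) (Step.D (nat_lit 6722) Step.done))) (Scr.cons (nat_lit 1) (nat_lit 0) (Step.B (nat_lit 3648) (Step.B (nat_lit 3663) (Step.D (nat_lit 9888) Step.done))) (Scr.cons (nat_lit 1) (nat_lit 0) (Step.D (nat_lit 9888) (Step.F (nat_lit 3664) Step.done)) (Scr.cons (nat_lit 12) (nat_lit 1) (Step.U (nat_lit 1859) (Step.F (nat_lit 3646) (Step.D (nat_lit 851) (Step.D (nat_lit 1859) (Step.D (nat_lit 3614) Step.done))))) (Scr.cons (nat_lit 12) (nat_lit 1) (Step.U (nat_lit 3615) (Step.D (nat_lit 3614) (Step.F (nat_lit 3666) (Step.D (nat_lit 3615) (Step.D (nat_lit 6313) Step.done))))) (Scr.cons (nat_lit 12) (nat_lit 1) (Step.F (nat_lit 3647) (Step.F (nat_lit 3667) (Step.D (nat_lit 6313) (Step.B (nat_lit 3647) (Step.D (nat_lit 10281) Step.done))))) (Scr.cons (nat_lit 12) (nat_lit 1) (Step.L (Step.L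 (Step.L (Step.L (Step.D (nat_lit 1627) Step.done))))) (Scr.cons (nat_lit 12) (nat_lit 1) (Step.L (Step.L (Step.L (Step.L (Step.D (nat_lit 2287) Step.done))))) (Scr.cons (nat_lit 12) (nat_lit 1) (Step.L (Step.L (Step.L (Step.L (Step.D (nat_lit 4288) Step.done))))) (Scr.cons (nat_lit 12) (nat_lit 1) (Step.U (nat_lit 2259) (Step.F (nat_lit 151) (Step.D (nat_lit 1068) (Step.D (nat_lit 2259) (Step.D (nat_lit 4257) Step.done))))) (Scr.cons (nat_lit 14) (nat_lit 4) (Step.L (Step.L (Step.L (Step.L (Step.L (Step.L (Step.L (Step.L (Step.L (Step.L (Step.L (Step.L (Step.L (Step.L (Step.L (Step.L (Step.L (Step.D (nat_lit 1908) (Step.B (nat_lit 153) (Step.D (nat_lit 4257) Step.done)))))))))))))))))))) (Scr.cons (nat_lit 6) (nat_lit 0) (Step.U (nat_lit 4088) (Step.U (nat_lit 2147) (Step.F (nat_lit 2798) (Step.B (nat_lit 12) (Step.L (Step.D (nat_lit 415) (Step.D (nat_lit 1068) (Step.D (nat_lit 2259) (Step.B (nat_lit 3672) (Step.F (nat_lit 3673) (Step.D (nat_lit 4288) Step.done)))))))))))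 (Scr.cons (nat_lit 11) (nat_lit 0) (Step.U (nat_lit 4089) (Step.U (nat_lit 2147) (Step.D (nat_lit 2146) (Step.D (nat_lit 4087) (Step.D (nat_lit 6948) Step.done))))) (Scr.cons (nat_lit 1) (nat_lit 1) (Step.U (nat_lit 6948) (Step.B (nat_lit 2859) (Step.L Step.done))) (Scr.cons (nat_lit 1) (nat_lit 1) (Step.B (nat_lit 3675) (Step.B (nat_lit 3676) (Step.L Step.done))) (Scr.cons (nat_lit 1) (nat_lit 1) (Step.D (nat_lit 4089) (Step.B (nat_lit 3677) (Step.L Step.done))) (Scr.cons (nat_lit 0) (nat_lit 1) (Step.U (nat_lit 4088) (Step.B (nat_lit 3678) (Step.D (nat_lit 885) Step.done))) (Scr.cons (nat_lit 1) (nat_lit 1) (Step.F (nat_lit 3674) (Step.B (nat_lit 3679) (Step.D (nat_lit 1918) Step.done))) (Scr.cons (nat_lit 0) (nat_lit 1) (Step.B (nat_lit 3671) (Step.B (nat_lit 3680) (Step.B (nat_lit 1824) Step.done))) (Scr.cons (nat_lit 0) (nat_lit 0) (Step.B (nat_lit 1833) (Step.F (nat_lit 3681) Step.done)) Scr.nil))))))))))))))))))))))))))))))))))))))))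
noncomputable def s92 : Scr := (Scr.cons (nat_lit 12) (nat_lit 4) (Step.U (nat_lit 3723) (Step.B (nat_lit 1824) (Step.F (nat_lit 1833) (Step.D (nat_lit 3723) (Step.D (nat_lit 6461) Step.done))))) (Scr.cons (nat_lit 7) (nat_lit 1) (Step.U (nat_lit 9608) (Step.U (nat_lit 6461) (Step.U (nat_lit 3723) (Step.U (nat_lit 1918) (Step.F (nat_lit 1823) (Step.L (Step.L (Step.L (Step.L (Step.L (Step.L (Step.L (Step.L (Step.L (Step.L (Step.L (Step.D (nat_lit 2057) (Step.D (nat_lit 3954) (Step.D (nat_lit 6777) (Step.D (nat_lit 9943) Step.done)))))))))))))))))))) (Scr.cons (nat_lit 11) (nat_lit 0) (Step.U (nat_lit 9609) (Step.D (nat_lit 9608) (Step.B (nat_lit 3684) (Step.U (nat_lit 9943) (Step.D (nat_lit 9942) Step.done))))) (Scr.cons (nat_lit 12) (nat_lit 1) (Step.U (nat_lit 76) (Step.L (Step.L (Step.D (nat_lit 76) (Step.D (nat_lit 261) Step.done))))) (Scr.cons (nat_lit 12) (nat_lit 1) (Step.F (nat_lit 564) (Step.D (nat_lit 261) (Step.F (nat_lit 3686) (Step.B (nat_lit 564) (Step.D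 (nat_lit 691) Step.done))))) (Scr.cons (nat_lit 12) (nat_lit 4) (Step.U (nat_lit 1625) (Step.F (nat_lit 3687) (Step.D (nat_lit 691) (Step.D (nat_lit 1625) (Step.D (nat_lit 3232) Step.done))))) (Scr.cons (nat_lit 12) (nat_lit 1) (Step.U (nat_lit 5735) (Step.F (nat_lit 3688) (Step.D (nat_lit 3232) (Step.D (nat_lit 5735) (Step.D (nat_lit 8848) Step.done))))) (Scr.cons (nat_lit 12) (nat_lit 1) (Step.U (nat_lit 729) (Step.F (nat_lit 3686) (Step.D (nat_lit 261) (Step.D (nat_lit 729) (Step.D (nat_lit 1690) Step.done))))) (Scr.cons (nat_lit 13) (nat_lit 3) (Step.U (nat_lit 5928) (Step.U (nat_lit 3350) (Step.F (nat_lit 3690) (Step.U (nat_lit 729) (Step.U (nat_lit 261) (Step.B (nat_lit 564) (Step.D (nat_lit 691) (Step.D (nat_lit 1625) (Step.B (nat_lit 3688) (Step.D (nat_lit 5735) (Step.D (nat_lit 8848) Step.done))))))))))) (Scr.cons (nat_lit 12) (nat_lit 1) (Step.U (nat_lit 3351) (Step.F (nat_lit 3690) (Step.D (nat_lit 1690) (Step.D (nat_lit 3351) (Step.D (nat_lit 5930) Step.done)))))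 (Scr.cons (nat_lit 15) (nat_lit 1) (Step.F (nat_lit 3692) (Step.U (nat_lit 3351) (Step.F (nat_lit 3690) (Step.U (nat_lit 729) (Step.F (nat_lit 3686) (Step.U (nat_lit 76) (Step.L (Step.L (Step.L (Step.L (Step.L (Step.L (Step.L (Step.L (Step.D (nat_lit 6080) Step.done))))))))))))))) (Scr.cons (nat_lit 16) (nat_lit 0) (Step.F (nat_lit 3547) (Step.L (Step.L (Step.L (Step.L (Step.L (Step.L (Step.L (Step.L (Step.L (Step.L (Step.L (Step.L (Step.L (Step.L (Step.L (Step.L (Step.L (Step.D (nat_lit 6080) (Step.F (nat_lit 3693) (Step.F (nat_lit 3692) (Step.U (nat_lit 3351) (Step.D (nat_lit 3350) (Step.D (nat_lit 5929) Step.done)))))))))))))))))))))))) (Scr.cons (nat_lit 1) (nat_lit 1) (Step.D (nat_lit 5929) (Step.F (nat_lit 3694) Step.done)) (Scr.cons (nat_lit 1) (nat_lit 0) (Step.D (nat_lit 6775) (Step.B (nat_lit 3625) (Step.F (nat_lit 3695) Step.done))) (Scr.cons (nat_lit 0) (nat_lit 1) (Step.B (nat_lit 3550) (Step.B (nat_lit 3696) (Step.D (nat_lit 5928) Step.done))) (Scr.cons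 (nat_lit 1) (nat_lit 0) (Step.F (nat_lit 3691) (Step.F (nat_lit 3697) (Step.D (nat_lit 3954) Step.done))) (Scr.cons (nat_lit 0) (nat_lit 1) (Step.B (nat_lit 3689) (Step.B (nat_lit 3698) (Step.D (nat_lit 6777) Step.done))) (Scr.cons (nat_lit 1) (nat_lit 1) (Step.U (nat_lit 9942) (Step.F (nat_lit 3699) (Step.U (nat_lit 5735) Step.done))) (Scr.cons (nat_lit 1) (nat_lit 1) (Step.B (nat_lit 3685) (Step.B (nat_lit 3700) (Step.D (nat_lit 5734) Step.done))) (Scr.cons (nat_lit 1) (nat_lit 1) (Step.D (nat_lit 9609) (Step.B (nat_lit 3701) (Step.D (nat_lit 8847) Step.done))) (Scr.cons (nat_lit 1) (nat_lit 1) (Step.D (nat_lit 8847) (Step.F (nat_lit 3702) Step.done)) (Scr.cons (nat_lit 13) (nat_lit 3) (Step.U (nat_lit 10280) (Step.U (nat_lit 7191) (Step.U (nat_lit 4289) (Step.F (nat_lit 3670) (Step.L (Step.L (Step.L (Step.F (nat_lit 3682) (Step.D (nat_lit 3723) (Step.B (nat_lit 3683) (Step.F (nat_lit 3703) (Step.D (nat_lit 8846) Step.done)))))))))))) (Scr.cons (nat_lit 1) (nat_lit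 0) (Step.D (nat_lit 10280) (Step.B (nat_lit 3704) Step.done)) (Scr.cons (nat_lit 12) (nat_lit 4) (Step.U (nat_lit 4289) (Step.F (nat_lit 3670) (Step.D (nat_lit 2287) (Step.D (nat_lit 4289) (Step.D (nat_lit 7191) Step.done))))) (Scr.cons (nat_lit 15) (nat_lit 1) (Step.U (nat_lit 3236) (Step.F (nat_lit 3669) (Step.L (Step.L (Step.L (Step.L (Step.D (nat_lit 246) (Step.D (nat_lit 691) (Step.D (nat_lit 1625) (Step.D (nat_lit 3232) (Step.D (nat_lit 5734) (Step.D (nat_lit 8846) (Step.F (nat_lit 3705) (Step.F (nat_lit 3706) (Step.D (nat_lit 7192) (Step.D (nat_lit 10281) Step.done)))))))))))))))) (Scr.cons (nat_lit 12) (nat_lit 4) (Step.U (nat_lit 237) (Step.L (Step.L (Step.D (nat_lit 237) (Step.D (nat_lit 658) Step.done))))) (Scr.cons (nat_lit 6) (nat_lit 1) (Step.U (nat_lit 3236) (Step.F (nat_lit 3669) (Step.L (Step.B (nat_lit 2292) (Step.U (nat_lit 3102) (Step.F (nat_lit 2290) (Step.U (nat_lit 659) (Step.B (nat_lit 3708) (Step.D (nat_lit 1556) (Step.D (nat_lit 3099) (Step.D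 (nat_lit 5525) Step.done))))))))))) (Scr.cons (nat_lit 0) (nat_lit 1) (Step.B (nat_lit 3668) (Step.F (nat_lit 3707) (Step.B (nat_lit 3709) Step.done))) (Scr.cons (nat_lit 1) (nat_lit 1) (Step.B (nat_lit 3647) (Step.B (nat_lit 3710) (Step.U (nat_lit 5525) Step.done))) (Scr.cons (nat_lit 1) (nat_lit 1) (Step.B (nat_lit 3665) (Step.B (nat_lit 3711) (Step.D (nat_lit 5524) Step.done))) (Scr.cons (nat_lit 1) (nat_lit 1) (Step.D (nat_lit 6722) (Step.B (nat_lit 3712) (Step.D (nat_lit 8617) Step.done))) (Scr.cons (nat_lit 1) (nat_lit 1) (Step.D (nat_lit 8617) (Step.F (nat_lit 3713) Step.done)) (Scr.cons (nat_lit 12) (nat_lit 1) (Step.U (nat_lit 3013) (Step.L (Step.L (Step.D (nat_lit 3013) (Step.D (nat_lit 5424) Step.done))))) (Scr.cons (nat_lit 8) (nat_lit 1) (Step.U (nat_lit 5524) (Step.U (nat_lit 3099) (Step.U (nat_lit 1556) (Step.U (nat_lit 658) (Step.U (nat_lit 237) (Step.L (Step.L (Step.L (Step.L (Step.L (Step.L (Step.L (Step.D (nat_lit 3013) (Step.B (nat_lit 3715) (Step.D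 (nat_lit 8499) Step.done))))))))))))))) (Scr.cons (nat_lit 12) (nat_lit 1) (Step.F (nat_lit 272) (Step.D (nat_lit 5424) (Step.F (nat_lit 3715) (Step.B (nat_lit 272) (Step.D (nat_lit 6484) Step.done))))) (Scr.cons (nat_lit 12) (nat_lit 1) (Step.U (nat_lit 362) (Step.L (Step.L (Step.D (nat_lit 362) (Step.D (nat_lit 973) Step.done))))) (Scr.cons (nat_lit 12) (nat_lit 1) (Step.U (nat_lit 2096) (Step.F (nat_lit 3718) (Step.D (nat_lit 973) (Step.D (nat_lit 2096) (Step.D (nat_lit 4007) Step.done))))) (Scr.cons (nat_lit 15) (nat_lit 0) (Step.U (nat_lit 6860) (Step.F (nat_lit 3719) (Step.U (nat_lit 2096) (Step.F (nat_lit 3718) (Step.U (nat_lit 362) (Step.L (Step.L (Step.L (Step.L (Step.L (Step.L (Step.L (Step.D (nat_lit 3740) (Step.D (nat_lit 6484) (Step.D (nat_lit 9627) Step.done))))))))))))))) (Scr.cons (nat_lit 12) (nat_lit 4) (Step.U (nat_lit 9627) (Step.F (nat_lit 3717) (Step.D (nat_lit 6484) (Step.D (nat_lit 9627) (Step.F (nat_lit 3720) Step.done))))) (Scr.cons (nat_lit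 13) (nat_lit 2) (Step.F (nat_lit 3642) (Step.B (nat_lit 3643) (Step.B (nat_lit 3644) (Step.F (nat_lit 3714) (Step.B (nat_lit 3716) (Step.U (nat_lit 8499) (Step.U (nat_lit 5424) (Step.B (nat_lit 272) (Step.D (nat_lit 6484) (Step.D (nat_lit 9627) (Step.B (nat_lit 3721) (Step.D (nat_lit 10003) Step.done)))))))))))) Scr.nil))))))))))))))))))))))))))))))))))))))))
noncomputable def s93 : Scr := (Scr.cons (nat_lit 1) (nat_lit 1) (Step.D (nat_lit 10003) (Step.F (nat_lit 3722) (Step.D (nat_lit 5350) Step.done))) (Scr.cons (nat_lit 11) (nat_lit 0) (Step.U (nat_lit 3436) (Step.U (nat_lit 1750) (Step.D (nat_lit 1749) (Step.D (nat_lit 3435) (Step.D (nat_lit 6046) Step.done))))) (Scr.cons (nat_lit 1) (nat_lit 0) (Step.D (nat_lit 1711) (Step.F (nat_lit 230) (Step.D (nat_lit 2575) Step.done))) (Scr.cons (nat_lit 1) (nat_lit 0) (Step.D (nat_lit 2575) (Step.F (nat_lit 3725) Step.done)) (Scr.cons (nat_lit 7) (nat_lit 0) (Step.U (nat_lit 4743) (Step.U (nat_lit 2577) (Step.U (nat_lit 1253)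 (Step.B (nat_lit 225) (Step.U (nat_lit 1252) (Step.D (nat_lit 1251) (Step.B (nat_lit 3726) (Step.U (nat_lit 745) (Step.U (nat_lit 267) (Step.U (nat_lit 81) (Step.L (Step.L (Step.L (Step.L (Step.D (nat_lit 748) (Step.F (nat_lit 1074) (Step.B (nat_lit 1073) (Step.D (nat_lit 1750) (Step.D (nat_lit 3436) (Step.D (nat_lit 6047) Step.done)))))))))))))))))))) (Scr.cons (nat_lit 4) (nat_lit 0) (Step.F (nat_lit 3727) (Step.U (nat_lit 4743) (Step.U (nat_lit 2577) (Step.D (nat_lit 2578) (Step.D (nat_lit 4744) Step.done))))) (Scr.cons (nat_lit 14) (nat_lit 6) (Step.U (nat_lit 6045) (Step.D (nat_lit 6046) (Step.F (nat_lit 3724) (Step.D (nat_lit 6047) (Step.B (nat_lit 3728) (Step.U (nat_lit 4744) (Step.U (nat_lit 2578) (Step.U (nat_lit 1253) (Step.U (nat_lit 503) (Step.L (Step.L (Step.L (Step.L (Step.L (Step.L (Step.L (Step.L (Step.D (nat_lit 2571) (Step.D (nat_lit 4740) (Step.D (nat_lit 7718) Step.done)))))))))))))))))))) (Scr.cons (nat_lit 12) (nat_lit 4) (Step.L (Step.L (Step.L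 (Step.L (Step.D (nat_lit 2571) Step.done))))) (Scr.cons (nat_lit 12) (nat_lit 4) (Step.U (nat_lit 4740) (Step.F (nat_lit 3730) (Step.D (nat_lit 2571) (Step.D (nat_lit 4740) (Step.D (nat_lit 7717) Step.done))))) (Scr.cons (nat_lit 12) (nat_lit 1) (Step.U (nat_lit 4290) (Step.F (nat_lit 3670) (Step.D (nat_lit 2287) (Step.D (nat_lit 4290) (Step.D (nat_lit 7193) Step.done))))) (Scr.cons (nat_lit 15) (nat_lit 1) (Step.F (nat_lit 3732) (Step.U (nat_lit 4290) (Step.F (nat_lit 3670) (Step.L (Step.L (Step.L (Step.L (Step.L (Step.L (Step.L (Step.L (Step.L (Step.D (nat_lit 2571) (Step.D (nat_lit 4740) (Step.D (nat_lit 7717) Step.done))))))))))))))) (Scr.cons (nat_lit 0) (nat_lit 1) (Step.U (nat_lit 7193) (Step.F (nat_lit 3662) (Step.F (nat_lit 3644) Step.done))) (Scr.cons (nat_lit 1) (nat_lit 0) (Step.F (nat_lit 3733) (Step.B (nat_lit 3734) (Step.F (nat_lit 3643) Step.done))) (Scr.cons (nat_lit 0) (nat_lit 1) (Step.B (nat_lit 3731) (Step.B (nat_lit 3735) (Step.D (nat_lit 2969) Step.done)))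 (Scr.cons (nat_lit 1) (nat_lit 1) (Step.U (nat_lit 7718) (Step.B (nat_lit 3736) (Step.D (nat_lit 5350) Step.done))) (Scr.cons (nat_lit 1) (nat_lit 1) (Step.B (nat_lit 3729) (Step.B (nat_lit 3737) (Step.D (nat_lit 8404) Step.done))) (Scr.cons (nat_lit 1) (nat_lit 1) (Step.D (nat_lit 8404) (Step.F (nat_lit 3738) Step.done)) (Scr.cons (nat_lit 1) (nat_lit 1) (Step.D (nat_lit 6860) (Step.B (nat_lit 3723) (Step.B (nat_lit 3739) Step.done))) (Scr.cons (nat_lit 0) (nat_lit 1) (Step.B (nat_lit 3641) (Step.F (nat_lit 3740) (Step.F (nat_lit 3719) Step.done))) (Scr.cons (nat_lit 1) (nat_lit 0) (Step.D (nat_lit 3435) (Step.B (nat_lit 3741) (Step.D (nat_lit 4008) Step.done))) (Scr.cons (nat_lit 1) (nat_lit 0) (Step.D (nat_lit 4008) (Step.F (nat_lit 3742) Step.done)) (Scr.cons (nat_lit 11) (nat_lit 0) (Step.U (nat_lit 32) (Step.U (nat_lit 3) (Step.L (Step.L (Step.D (nat_lit 117) Step.done))))) (Scr.cons (nat_lit 14) (nat_lit 0) (Step.L (Step.L (Step.D (nat_lit 280) (Step.D (nat_lit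 774) (Step.D (nat_lit 1749) (Step.F (nat_lit 3743) (Step.U (nat_lit 2096) (Step.U (nat_lit 973) (Step.U (nat_lit 362) (Step.L (Step.L (Step.L (Step.D (nat_lit 117) (Step.F (nat_lit 3744) (Step.B (nat_lit 3632) (Step.D (nat_lit 363) (Step.D (nat_lit 976) (Step.D (nat_lit 2098) (Step.D (nat_lit 4010) (Step.D (nat_lit 6861) (Step.D (nat_lit 10004) Step.done))))))))))))))))))))) (Scr.cons (nat_lit 1) (nat_lit 1) (Step.B (nat_lit 3639) (Step.F (nat_lit 3745) (Step.L Step.done))) (Scr.cons (nat_lit 1) (nat_lit 1) (Step.D (nat_lit 6862) (Step.B (nat_lit 3746) (Step.L Step.done))) (Scr.cons (nat_lit 1) (nat_lit 1) (Step.D (nat_lit 4011) (Step.B (nat_lit 3747) (Step.L Step.done))) (Scr.cons (nat_lit 0) (nat_lit 1) (Step.B (nat_lit 3638) (Step.B (nat_lit 3748) (Step.L Step.done))) (Scr.cons (nat_lit 1) (nat_lit 1) (Step.U (nat_lit 2099) (Step.B (nat_lit 3749) (Step.L Step.done))) (Scr.cons (nat_lit 0) (nat_lit 1) (Step.U (nat_lit 4012) (Step.B (nat_lit 3750) (Step.L Step.done)))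 (Scr.cons (nat_lit 1) (nat_lit 0) (Step.F (nat_lit 3636) (Step.B (nat_lit 3751) (Step.L Step.done))) (Scr.cons (nat_lit 1) (nat_lit 0) (Step.D (nat_lit 3998) (Step.B (nat_lit 3752) (Step.D (nat_lit 3439) Step.done))) (Scr.cons (nat_lit 1) (nat_lit 0) (Step.D (nat_lit 3439) (Step.F (nat_lit 3753) Step.done)) (Scr.cons (nat_lit 12) (nat_lit 1) (Step.L (Step.L (Step.L (Step.L (Step.D (nat_lit 9192) Step.done))))) (Scr.cons (nat_lit 12) (nat_lit 4) (Step.L (Step.L (Step.L (Step.L (Step.D (nat_lit 5795) Step.done))))) (Scr.cons (nat_lit 12) (nat_lit 4) (Step.L (Step.D (nat_lit 5795) (Step.F (nat_lit 3756) (Step.L (Step.D (nat_lit 8920) Step.done))))) (Scr.cons (nat_lit 11) (nat_lit 0) (Step.L (Step.L (Step.L (Step.L (Step.D (nat_lit 8921) Step.done))))) (Scr.cons (nat_lit 7) (nat_lit 0) (Step.U (nat_lit 3996) (Step.U (nat_lit 2087) (Step.U (nat_lit 970) (Step.L (Step.L (Step.L (Step.L (Step.L (Step.L (Step.L (Step.L (Step.L (Step.L (Step.L (Step.L (Step.L (Step.L (Step.L (Step.D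 (nat_lit 3231) (Step.D (nat_lit 5732) Step.done)))))))))))))))))))) (Scr.cons (nat_lit 4) (nat_lit 0) (Step.F (nat_lit 3759) (Step.U (nat_lit 3996) (Step.U (nat_lit 2087) (Step.D (nat_lit 2088) (Step.D (nat_lit 3997) Step.done))))) (Scr.cons (nat_lit 12) (nat_lit 4) (Step.L (Step.L (Step.L (Step.L (Step.D (nat_lit 970) Step.done))))) (Scr.cons (nat_lit 16) (nat_lit 1) (Step.F (nat_lit 3757) (Step.D (nat_lit 8921) (Step.F (nat_lit 3758) (Step.L (Step.L (Step.L (Step.L (Step.F (nat_lit 161) (Step.D (nat_lit 2586) (Step.F (nat_lit 162) (Step.D (nat_lit 3226) (Step.B (nat_lit 2565) (Step.D (nat_lit 5732) (Step.B (nat_lit 3760) (Step.U (nat_lit 3997) (Step.U (nat_lit 2088) (Step.F (nat_lit 3761) (Step.L (Step.L (Step.D (nat_lit 3998) (Step.F (nat_lit 3636) (Step.D (nat_lit 6863) (Step.D (nat_lit 10005) Step.done))))))))))))))))))))))) Scr.nil))))))))))))))))))))))))))))))))))))))))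
noncomputable def s94 : Scr := (Scr.cons (nat_lit 1) (nat_lit 1) (Step.U (nat_lit 6863) (Step.B (nat_lit 3751) (Step.L Step.done))) (Scr.cons (nat_lit 0) (nat_lit 1) (Step.U (nat_lit 10005) (Step.B (nat_lit 3763) (Step.L Step.done))) (Scr.cons (nat_lit 1) (nat_lit 1) (Step.B (nat_lit 3762) (Step.B (nat_lit 3764) (Step.L Step.done))) (Scr.cons (nat_lit 0) (nat_lit 1) (Step.B (nat_lit 3757) (Step.B (nat_lit 3765) (Step.D (nat_lit 9192) Step.done))) (Scr.cons (nat_lit 0) (nat_lit 0) (Step.B (nat_lit 3755) (Step.F (nat_lit 3766) Step.done)) (Scr.cons (nat_lit 11) (nat_lit 0) (Step.U (nat_lit 6847) (Step.L (Step.D (nat_lit 3998) (Step.F (nat_lit 3636) (Step.D (nat_lit 6863) Step.done))))) (Scr.cons (nat_lit 1) (nat_lit 1) (Step.B (nat_lit 3768) (Step.B (nat_lit 3763) (Step.L Step.done))) (Scr.cons (nat_lit 1) (nat_lit 1) (Step.D (nat_lit 6847) (Step.B (nat_lit 3769) (Step.D (nat_lit 6049) Step.done))) (Scr.cons (nat_lit 0) (nat_lit 1) (Step.F (nat_lit 982) (Step.F (nat_lit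 3770) (Step.L Step.done))) (Scr.cons (nat_lit 1) (nat_lit 1) (Step.B (nat_lit 979) (Step.B (nat_lit 3771) (Step.D (nat_lit 9991) Step.done))) (Scr.cons (nat_lit 1) (nat_lit 1) (Step.D (nat_lit 9991) (Step.F (nat_lit 3772) Step.done)) (Scr.cons (nat_lit 11) (nat_lit 0) (Step.U (nat_lit 7835) (Step.L (Step.D (nat_lit 4842) (Step.D (nat_lit 7834) (Step.D (nat_lit 10832) Step.done))))) (Scr.cons (nat_lit 11) (nat_lit 0) (Step.U (nat_lit 5629) (Step.L (Step.L (Step.D (nat_lit 5627) (Step.D (nat_lit 8724) Step.done))))) (Scr.cons (nat_lit 12) (nat_lit 1) (Step.L (Step.L (Step.L (Step.L (Step.D (nat_lit 9138) Step.done))))) (Scr.cons (nat_lit 12) (nat_lit 1) (Step.L (Step.L (Step.L (Step.L (Step.D (nat_lit 5628) Step.done))))) (Scr.cons (nat_lit 12) (nat_lit 1) (Step.U (nat_lit 5629) (Step.D (nat_lit 5628) (Step.F (nat_lit 3777) (Step.D (nat_lit 5629) (Step.D (nat_lit 8726) Step.done))))) (Scr.cons (nat_lit 7) (nat_lit 4) (Step.L (Step.L (Step.L (Step.L (Step.L (Step.L (Step.L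 (Step.L (Step.L (Step.L (Step.L (Step.L (Step.L (Step.L (Step.L (Step.L (Step.L (Step.L (Step.L (Step.D (nat_lit 5629) (Step.B (nat_lit 3778) Step.done))))))))))))))))))))) (Scr.cons (nat_lit 0) (nat_lit 1) (Step.B (nat_lit 3778) (Step.F (nat_lit 3779) (Step.D (nat_lit 9138) Step.done))) (Scr.cons (nat_lit 0) (nat_lit 0) (Step.B (nat_lit 3776) (Step.F (nat_lit 3780) Step.done)) (Scr.cons (nat_lit 16) (nat_lit 0) (Step.F (nat_lit 3775) (Step.F (nat_lit 3781) (Step.L (Step.L (Step.L (Step.L (Step.L (Step.L (Step.L (Step.L (Step.L (Step.L (Step.L (Step.L (Step.L (Step.L (Step.L (Step.L (Step.L (Step.L (Step.D (nat_lit 4842) (Step.D (nat_lit 7834) (Step.D (nat_lit 10832) Step.done))))))))))))))))))))))) (Scr.cons (nat_lit 7) (nat_lit 2) (Step.U (nat_lit 10833) (Step.L (Step.D (nat_lit 7835) (Step.B (nat_lit 3774) (Step.F (nat_lit 3782) (Step.U (nat_lit 8724) (Step.U (nat_lit 5627) (Step.L (Step.L (Step.L (Step.L (Step.L (Step.L (Step.L (Step.L (Step.L (Step.L (Step.L (Step.L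 (Step.L (Step.L Step.done))))))))))))))))))))) (Scr.cons (nat_lit 1) (nat_lit 1) (Step.D (nat_lit 10833) (Step.B (nat_lit 3783) Step.done)) (Scr.cons (nat_lit 12) (nat_lit 4) (Step.L (Step.L (Step.L (Step.L (Step.D (nat_lit 8710) Step.done))))) (Scr.cons (nat_lit 13) (nat_lit 0) (Step.L (Step.L (Step.L (Step.L (Step.L (Step.L (Step.L (Step.L (Step.L (Step.L (Step.D (nat_lit 4553) Step.done))))))))))) (Scr.cons (nat_lit 6) (nat_lit 3) (Step.L (Step.L (Step.L (Step.L (Step.L (Step.L (Step.L (Step.L (Step.L (Step.L (Step.D (nat_lit 4553) Step.done))))))))))) (Scr.cons (nat_lit 12) (nat_lit 4) (Step.L (Step.B (nat_lit 3786) (Step.F (nat_lit 3787) (Step.L (Step.D (nat_lit 7509) Step.done))))) (Scr.cons (nat_lit 11) (nat_lit 0) (Step.L (Step.L (Step.L (Step.L (Step.D (nat_lit 8711) Step.done))))) (Scr.cons (nat_lit 14) (nat_lit 5) (Step.F (nat_lit 3789) (Step.L (Step.L (Step.L (Step.L (Step.L (Step.L (Step.L (Step.L (Step.L (Step.L (Step.L (Step.L (Step.L (Step.L (Step.L (Step.L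 (Step.L (Step.L (Step.D (nat_lit 7509) (Step.D (nat_lit 10559) Step.done))))))))))))))))))))) (Scr.cons (nat_lit 1) (nat_lit 0) (Step.D (nat_lit 10559) (Step.F (nat_lit 3790) (Step.U (nat_lit 8711) Step.done))) (Scr.cons (nat_lit 0) (nat_lit 1) (Step.B (nat_lit 3788) (Step.B (nat_lit 3791) (Step.D (nat_lit 8710) Step.done))) (Scr.cons (nat_lit 0) (nat_lit 0) (Step.B (nat_lit 3785) (Step.F (nat_lit 3792) Step.done)) (Scr.cons (nat_lit 11) (nat_lit 0) (Step.L (Step.L (Step.D (nat_lit 4475) (Step.D (nat_lit 7407) (Step.D (nat_lit 10468) Step.done))))) (Scr.cons (nat_lit 7) (nat_lit 6) (Step.U (nat_lit 10468) (Step.U (nat_lit 7407) (Step.U (nat_lit 4475) (Step.L (Step.L (Step.L (Step.L (Step.L (Step.L (Step.L (Step.L (Step.L (Step.L (Step.L (Step.L (Step.L (Step.L (Step.L (Step.D (nat_lit 7481) (Step.D (nat_lit 10533) Step.done)))))))))))))))))))) (Scr.cons (nat_lit 12) (nat_lit 1) (Step.U (nat_lit 3273) (Step.L (Step.L (Step.D (nat_lit 3273) (Step.D (nat_lit 5807) Step.done)))))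 (Scr.cons (nat_lit 14) (nat_lit 5) (Step.U (nat_lit 8936) (Step.U (nat_lit 5807) (Step.U (nat_lit 3273) (Step.L (Step.L (Step.L (Step.L (Step.L (Step.L (Step.D (nat_lit 701) (Step.D (nat_lit 1644) (Step.F (nat_lit 1856) (Step.U (nat_lit 1270) (Step.U (nat_lit 513) (Step.D (nat_lit 512) (Step.B (nat_lit 1745) (Step.D (nat_lit 2607) (Step.D (nat_lit 4799) (Step.D (nat_lit 7783) (Step.D (nat_lit 10799) Step.done)))))))))))))))))))) (Scr.cons (nat_lit 0) (nat_lit 1) (Step.U (nat_lit 1267) (Step.B (nat_lit 2279) (Step.L Step.done))) (Scr.cons (nat_lit 1) (nat_lit 1) (Step.U (nat_lit 2607) (Step.B (nat_lit 3798) (Step.L Step.done))) (Scr.cons (nat_lit 1) (nat_lit 1) (Step.U (nat_lit 4799) (Step.B (nat_lit 3799) (Step.L Step.done))) (Scr.cons (nat_lit 0) (nat_lit 1) (Step.U (nat_lit 7783) (Step.B (nat_lit 3800) (Step.D (nat_lit 4603) Step.done))) (Scr.cons (nat_lit 12) (nat_lit 4) (Step.L (Step.L (Step.L (Step.L (Step.D (nat_lit 4603) Step.done))))) Scr.nil))))))))))))))))))))))))))))))))))))))))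
noncomputable def s95 : Scr := (Scr.cons (nat_lit 12) (nat_lit 1) (Step.L (Step.L (Step.L (Step.L (Step.D (nat_lit 7564) Step.done))))) (Scr.cons (nat_lit 12) (nat_lit 1) (Step.L (Step.L (Step.L (Step.L (Step.D (nat_lit 5560) Step.done))))) (Scr.cons (nat_lit 14) (nat_lit 2) (Step.F (nat_lit 3803) (Step.L (Step.L (Step.L (Step.L (Step.L (Step.L (Step.L (Step.L (Step.L (Step.L (Step.L (Step.L (Step.L (Step.L (Step.L (Step.L (Step.L (Step.B (nat_lit 3804) (Step.F (nat_lit 739) Step.done)))))))))))))))))))) (Scr.cons (nat_lit 12) (nat_lit 4) (Step.L (Step.L (Step.L (Step.L (Step.D (nat_lit 217) Step.done))))) (Scr.cons (nat_lit 12) (nat_lit 4) (Step.L (Step.D (nat_lit 217) (Step.F (nat_lit 3806) (Step.L (Step.D (nat_lit 601) Step.done))))) (Scr.cons (nat_lit 12) (nat_lit 4) (Step.U (nat_lit 1437) (Step.F (nat_lit 3807) (Step.D (nat_lit 601) (Step.D (nat_lit 1437) (Step.D (nat_lit 2910) Step.done))))) (Scr.cons (nat_lit 13) (nat_lit 2) (Step.F (nat_lit 3802) (Step.L (Step.B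 (nat_lit 3803) (Step.B (nat_lit 3805) (Step.F (nat_lit 738) (Step.F (nat_lit 734) (Step.B (nat_lit 737) (Step.L (Step.D (nat_lit 601) (Step.D (nat_lit 1437) (Step.B (nat_lit 3808) (Step.D (nat_lit 5262) Step.done)))))))))))) (Scr.cons (nat_lit 1) (nat_lit 1) (Step.D (nat_lit 5262) (Step.F (nat_lit 3809) (Step.D (nat_lit 7562) Step.done))) (Scr.cons (nat_lit 1) (nat_lit 1) (Step.D (nat_lit 7562) (Step.F (nat_lit 3810) Step.done)) (Scr.cons (nat_lit 1) (nat_lit 1) (Step.U (nat_lit 10799) (Step.B (nat_lit 3801) (Step.B (nat_lit 3811) Step.done))) (Scr.cons (nat_lit 1) (nat_lit 1) (Step.B (nat_lit 3797) (Step.B (nat_lit 3812) (Step.D (nat_lit 5261) Step.done))) (Scr.cons (nat_lit 1) (nat_lit 1) (Step.D (nat_lit 8936) (Step.B (nat_lit 3813) (Step.D (nat_lit 8302) Step.done))) (Scr.cons (nat_lit 1) (nat_lit 1) (Step.D (nat_lit 8302) (Step.F (nat_lit 3814) Step.done)) (Scr.cons (nat_lit 11) (nat_lit 0) (Step.U (nat_lit 2913) (Step.U (nat_lit 1438) (Step.D (nat_lit 1437) (Step.D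 (nat_lit 2911) (Step.D (nat_lit 5263) Step.done))))) (Scr.cons (nat_lit 12) (nat_lit 1) (Step.U (nat_lit 1438) (Step.F (nat_lit 3807) (Step.D (nat_lit 601) (Step.D (nat_lit 1438) (Step.D (nat_lit 2912) Step.done))))) (Scr.cons (nat_lit 12) (nat_lit 1) (Step.U (nat_lit 2913) (Step.D (nat_lit 2912) (Step.F (nat_lit 3817) (Step.D (nat_lit 2913) (Step.D (nat_lit 5264) Step.done))))) (Scr.cons (nat_lit 12) (nat_lit 1) (Step.F (nat_lit 3816) (Step.D (nat_lit 5264) (Step.F (nat_lit 3818) (Step.B (nat_lit 3816) (Step.D (nat_lit 8303) Step.done))))) (Scr.cons (nat_lit 11) (nat_lit 0) (Step.U (nat_lit 1450) (Step.U (nat_lit 608) (Step.D (nat_lit 607) (Step.D (nat_lit 1448) (Step.D (nat_lit 2934) Step.done))))) (Scr.cons (nat_lit 12) (nat_lit 1) (Step.U (nat_lit 608) (Step.F (nat_lit 2481) (Step.D (nat_lit 218) (Step.D (nat_lit 608) (Step.D (nat_lit 1449) Step.done))))) (Scr.cons (nat_lit 12) (nat_lit 1) (Step.U (nat_lit 1450) (Step.D (nat_lit 1449) (Step.F (nat_lit 3821) (Step.D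 (nat_lit 1450) (Step.D (nat_lit 2935) Step.done))))) (Scr.cons (nat_lit 12) (nat_lit 1) (Step.F (nat_lit 3820) (Step.D (nat_lit 2935) (Step.F (nat_lit 3822) (Step.B (nat_lit 3820) (Step.D (nat_lit 5295) Step.done))))) (Scr.cons (nat_lit 7) (nat_lit 5) (Step.F (nat_lit 3819) (Step.U (nat_lit 5263) (Step.U (nat_lit 2911) (Step.U (nat_lit 1437) (Step.U (nat_lit 601) (Step.L (Step.L (Step.L (Step.L (Step.L (Step.L (Step.L (Step.L (Step.L (Step.D (nat_lit 218) (Step.D (nat_lit 608) (Step.D (nat_lit 1450) (Step.B (nat_lit 3820) (Step.B (nat_lit 3823) (Step.D (nat_lit 8332) Step.done)))))))))))))))))))) (Scr.cons (nat_lit 0) (nat_lit 1) (Step.B (nat_lit 2482) (Step.B (nat_lit 2528) (Step.L Step.done))) (Scr.cons (nat_lit 1) (nat_lit 1) (Step.U (nat_lit 1448) (Step.B (nat_lit 3825) (Step.D (nat_lit 172) Step.done))) (Scr.cons (nat_lit 1) (nat_lit 1) (Step.U (nat_lit 2934) (Step.B (nat_lit 3826) (Step.D (nat_lit 501) Step.done))) (Scr.cons (nat_lit 0) (nat_lit 1) (Step.U (nat_lit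 5295) (Step.B (nat_lit 3827) (Step.D (nat_lit 1251) Step.done))) (Scr.cons (nat_lit 1) (nat_lit 0) (Step.U (nat_lit 8332) (Step.B (nat_lit 3828) (Step.B (nat_lit 3726) Step.done))) (Scr.cons (nat_lit 1) (nat_lit 0) (Step.B (nat_lit 3824) (Step.B (nat_lit 3829) (Step.U (nat_lit 745) Step.done))) (Scr.cons (nat_lit 12) (nat_lit 1) (Step.L (Step.L (Step.L (Step.L (Step.D (nat_lit 266) Step.done))))) (Scr.cons (nat_lit 8) (nat_lit 1) (Step.U (nat_lit 267) (Step.U (nat_lit 81) (Step.L (Step.L (Step.L (Step.L (Step.L (Step.L (Step.L (Step.L (Step.L (Step.L (Step.L (Step.B (nat_lit 3831) (Step.D (nat_lit 743) Step.done))))))))))))))) (Scr.cons (nat_lit 0) (nat_lit 1) (Step.B (nat_lit 3819) (Step.B (nat_lit 3830) (Step.B (nat_lit 3832) Step.done))) (Scr.cons (nat_lit 1) (nat_lit 1) (Step.B (nat_lit 3816) (Step.B (nat_lit 3833) (Step.U (nat_lit 743) Step.done))) (Scr.cons (nat_lit 1) (nat_lit 1) (Step.D (nat_lit 2913) (Step.B (nat_lit 3834) (Step.D (nat_lit 742) Step.done))) (Scr.cons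 (nat_lit 1) (nat_lit 1) (Step.D (nat_lit 1438) (Step.B (nat_lit 3835) (Step.D (nat_lit 1707) Step.done))) (Scr.cons (nat_lit 1) (nat_lit 1) (Step.D (nat_lit 1707) (Step.F (nat_lit 3836) Step.done)) (Scr.cons (nat_lit 11) (nat_lit 0) (Step.U (nat_lit 5988) (Step.L (Step.L (Step.D (nat_lit 5986) (Step.D (nat_lit 9148) Step.done))))) (Scr.cons (nat_lit 11) (nat_lit 0) (Step.L (Step.L (Step.L (Step.D (nat_lit 3382) (Step.D (nat_lit 5983) Step.done))))) (Scr.cons (nat_lit 12) (nat_lit 4) (Step.L (Step.L (Step.L (Step.L (Step.D (nat_lit 2413) Step.done))))) (Scr.cons (nat_lit 12) (nat_lit 1) (Step.L (Step.L (Step.L (Step.L (Step.D (nat_lit 1160) Step.done))))) (Scr.cons (nat_lit 6) (nat_lit 1) (Step.U (nat_lit 4488) (Step.F (nat_lit 3840) (Step.L (Step.L (Step.L (Step.L (Step.L (Step.B (nat_lit 3841) (Step.D (nat_lit 2412) (Step.D (nat_lit 4486) (Step.D (nat_lit 7420) Step.done))))))))))) Scr.nil))))))))))))))))))))))))))))))))))))))))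
noncomputable def s96 : Scr := (Scr.cons (nat_lit 12) (nat_lit 4) (Step.U (nat_lit 2412) (Step.F (nat_lit 3841) (Step.D (nat_lit 1160) (Step.D (nat_lit 2412) (Step.D (nat_lit 4486) Step.done))))) (Scr.cons (nat_lit 13) (nat_lit 2) (Step.U (nat_lit 4488) (Step.U (nat_lit 2413) (Step.L (Step.L (Step.L (Step.L (Step.L (Step.D (nat_lit 1160) (Step.D (nat_lit 2412) (Step.B (nat_lit 3843) (Step.D (nat_lit 7420) Step.done))))))))))) (Scr.cons (nat_lit 12) (nat_lit 1) (Step.U (nat_lit 7423) (Step.B (nat_lit 3842) (Step.F (nat_lit 3844) (Step.D (nat_lit 7423) (Step.D (nat_lit 10480) Step.done))))) (Scr.cons (nat_lit 12) (nat_lit 1) (Step.L (Step.L (Step.L (Step.L (Step.D (nat_lit 10484) Step.done))))) (Scr.cons (nat_lit 14) (nat_lit 6) (Step.U (nat_lit 4468) (Step.L (Step.L (Step.L (Step.L (Step.L (Step.L (Step.L (Step.L (Step.L (Step.L (Step.L (Step.L (Step.L (Step.L (Step.L (Step.L (Step.L (Step.D (nat_lit 2414) (Step.D (nat_lit 4493) Step.done)))))))))))))))))))) (Scr.cons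 (nat_lit 12) (nat_lit 1) (Step.L (Step.L (Step.L (Step.L (Step.D (nat_lit 4468) Step.done))))) (Scr.cons (nat_lit 6) (nat_lit 1) (Step.F (nat_lit 3847) (Step.F (nat_lit 3848) (Step.B (nat_lit 635) (Step.U (nat_lit 3134) (Step.F (nat_lit 633) (Step.F (nat_lit 228) (Step.U (nat_lit 1252) (Step.B (nat_lit 223) (Step.B (nat_lit 232) (Step.D (nat_lit 1712) (Step.D (nat_lit 3390) Step.done))))))))))) (Scr.cons (nat_lit 12) (nat_lit 1) (Step.U (nat_lit 268) (Step.F (nat_lit 233) (Step.D (nat_lit 81) (Step.D (nat_lit 268) (Step.D (nat_lit 746) Step.done))))) (Scr.cons (nat_lit 12) (nat_lit 1) (Step.U (nat_lit 747) (Step.D (nat_lit 746) (Step.F (nat_lit 3850) (Step.D (nat_lit 747) (Step.D (nat_lit 1712) Step.done))))) (Scr.cons (nat_lit 16) (nat_lit 5) (Step.F (nat_lit 3846) (Step.L (Step.L (Step.L (Step.D (nat_lit 2414) (Step.D (nat_lit 4493) (Step.B (nat_lit 3849) (Step.U (nat_lit 3390) (Step.F (nat_lit 3851) (Step.U (nat_lit 747) (Step.U (nat_lit 268) (Step.D (nat_lit 267)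 (Step.B (nat_lit 3832) (Step.U (nat_lit 743) (Step.F (nat_lit 3831) (Step.L (Step.L (Step.L (Step.L (Step.L (Step.L (Step.D (nat_lit 5982) (Step.D (nat_lit 9145) Step.done))))))))))))))))))))))) (Scr.cons (nat_lit 11) (nat_lit 0) (Step.U (nat_lit 9147) (Step.L (Step.D (nat_lit 5982) (Step.D (nat_lit 9145) (Step.F (nat_lit 3852) Step.done))))) (Scr.cons (nat_lit 9) (nat_lit 2) (Step.U (nat_lit 10560) (Step.L (Step.L (Step.L (Step.L (Step.L (Step.L (Step.L (Step.L (Step.L (Step.L (Step.L (Step.L (Step.L (Step.L (Step.L (Step.L (Step.L (Step.L (Step.L (Step.L (Step.L (Step.D (nat_lit 10485) Step.done))))))))))))))))))))))) (Scr.cons (nat_lit 12) (nat_lit 1) (Step.L (Step.L (Step.L (Step.L (Step.D (nat_lit 4558) Step.done))))) (Scr.cons (nat_lit 12) (nat_lit 1) (Step.L (Step.D (nat_lit 4558) (Step.F (nat_lit 3855) (Step.L (Step.D (nat_lit 7510) Step.done))))) (Scr.cons (nat_lit 12) (nat_lit 1) (Step.L (Step.D (nat_lit 7510) (Step.F (nat_lit 3856) (Step.L (Step.D (nat_lit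 10560) Step.done))))) (Scr.cons (nat_lit 7) (nat_lit 0) (Step.L (Step.D (nat_lit 9147) (Step.B (nat_lit 3853) (Step.U (nat_lit 10484) (Step.D (nat_lit 10485) (Step.F (nat_lit 3854) (Step.F (nat_lit 3857) (Step.L (Step.L (Step.L (Step.L (Step.L (Step.L (Step.L (Step.B (nat_lit 2599) (Step.U (nat_lit 4489) (Step.L (Step.B (nat_lit 3840) (Step.D (nat_lit 4488) (Step.D (nat_lit 7423) (Step.D (nat_lit 10480) Step.done))))))))))))))))))))) (Scr.cons (nat_lit 0) (nat_lit 1) (Step.B (nat_lit 3845) (Step.F (nat_lit 3858) (Step.L Step.done))) (Scr.cons (nat_lit 1) (nat_lit 1) (Step.D (nat_lit 7423) (Step.B (nat_lit 3859) (Step.D (nat_lit 3382) Step.done))) (Scr.cons (nat_lit 1) (nat_lit 1) (Step.D (nat_lit 4488) (Step.B (nat_lit 3860) (Step.D (nat_lit 5983) Step.done))) (Scr.cons (nat_lit 1) (nat_lit 1) (Step.B (nat_lit 3839) (Step.F (nat_lit 3861) (Step.D (nat_lit 4487) Step.done))) (Scr.cons (nat_lit 1) (nat_lit 1) (Step.D (nat_lit 4487) (Step.F (nat_lit 3862) Step.done)) (Scr.cons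 (nat_lit 12) (nat_lit 1) (Step.U (nat_lit 7481) (Step.L (Step.L (Step.D (nat_lit 7481) (Step.D (nat_lit 10532) Step.done))))) (Scr.cons (nat_lit 8) (nat_lit 0) (Step.U (nat_lit 5616) (Step.L (Step.L (Step.L (Step.L (Step.L (Step.L (Step.L (Step.L (Step.L (Step.L (Step.L (Step.L (Step.L (Step.D (nat_lit 7481) (Step.B (nat_lit 3864) Step.done)))))))))))))))) (Scr.cons (nat_lit 0) (nat_lit 1) (Step.B (nat_lit 3864) (Step.F (nat_lit 3865) (Step.D (nat_lit 8712) Step.done))) (Scr.cons (nat_lit 0) (nat_lit 1) (Step.D (nat_lit 8712) (Step.F (nat_lit 3866) Step.done)) (Scr.cons (nat_lit 9) (nat_lit 3) (Step.L (Step.L (Step.L (Step.L (Step.L (Step.F (nat_lit 3863) (Step.U (nat_lit 2413) (Step.L (Step.L (Step.L (Step.L (Step.L (Step.L (Step.L (Step.L (Step.L (Step.L (Step.L (Step.L (Step.D (nat_lit 7481) (Step.F (nat_lit 3867) (Step.U (nat_lit 5616) (Step.D (nat_lit 5617) (Step.D (nat_lit 8714) Step.done)))))))))))))))))))))))) (Scr.cons (nat_lit 1) (nat_lit 1) (Step.D (nat_lit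 8714) (Step.F (nat_lit 3868) (Step.L Step.done))) (Scr.cons (nat_lit 1) (nat_lit 1) (Step.D (nat_lit 5617) (Step.B (nat_lit 3869) (Step.D (nat_lit 5986) Step.done))) (Scr.cons (nat_lit 1) (nat_lit 1) (Step.U (nat_lit 9148) (Step.F (nat_lit 3870) (Step.D (nat_lit 5616) Step.done))) (Scr.cons (nat_lit 1) (nat_lit 1) (Step.B (nat_lit 3838) (Step.B (nat_lit 3871) (Step.D (nat_lit 8713) Step.done))) (Scr.cons (nat_lit 1) (nat_lit 1) (Step.D (nat_lit 8713) (Step.F (nat_lit 3872) Step.done)) (Scr.cons (nat_lit 12) (nat_lit 4) (Step.U (nat_lit 5616) (Step.L (Step.L (Step.D (nat_lit 5616) (Step.D (nat_lit 8712) Step.done))))) (Scr.cons (nat_lit 0) (nat_lit 0) (Step.B (nat_lit 3874) (Step.F (nat_lit 3866) Step.done)) (Scr.cons (nat_lit 7) (nat_lit 5) (Step.L (Step.L (Step.L (Step.L (Step.D (nat_lit 3273) (Step.B (nat_lit 3796) (Step.F (nat_lit 3815) (Step.U (nat_lit 5261) (Step.F (nat_lit 3808) (Step.U (nat_lit 1437) (Step.F (nat_lit 3837) (Step.U (nat_lit 742) (Step.U (nat_lit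 266) (Step.L (Step.L (Step.L (Step.L (Step.D (nat_lit 5988) (Step.F (nat_lit 3873) (Step.B (nat_lit 3875) (Step.D (nat_lit 10533) Step.done))))))))))))))))))))) (Scr.cons (nat_lit 0) (nat_lit 1) (Step.B (nat_lit 3795) (Step.F (nat_lit 3876) (Step.L Step.done))) (Scr.cons (nat_lit 1) (nat_lit 0) (Step.B (nat_lit 3794) (Step.B (nat_lit 3877) Step.done)) (Scr.cons (nat_lit 12) (nat_lit 1) (Step.U (nat_lit 7349) (Step.L (Step.L (Step.D (nat_lit 7349) (Step.D (nat_lit 10418) Step.done))))) (Scr.cons (nat_lit 12) (nat_lit 1) (Step.L (Step.L (Step.L (Step.L (Step.D (nat_lit 4414) Step.done))))) (Scr.cons (nat_lit 15) (nat_lit 1) (Step.F (nat_lit 3880) (Step.L (Step.L (Step.L (Step.L (Step.L (Step.L (Step.L (Step.L (Step.L (Step.L (Step.L (Step.L (Step.L (Step.L Step.done))))))))))))))) (Scr.cons (nat_lit 16) (nat_lit 5) (Step.F (nat_lit 3879) (Step.U (nat_lit 7349) (Step.L (Step.L (Step.L (Step.L (Step.L (Step.F (nat_lit 3881) (Step.F (nat_lit 3880) (Step.L (Step.L (Step.L (Step.L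 (Step.L (Step.L (Step.L (Step.L (Step.L (Step.L (Step.L (Step.L (Step.L (Step.D (nat_lit 8235) Step.done))))))))))))))))))))))) Scr.nil))))))))))))))))))))))))))))))))))))))))
noncomputable def s97 : Scr := (Scr.cons (nat_lit 11) (nat_lit 0) (Step.U (nat_lit 8236) (Step.L (Step.L (Step.D (nat_lit 8235) (Step.F (nat_lit 3882) Step.done))))) (Scr.cons (nat_lit 11) (nat_lit 0) (Step.U (nat_lit 5550) (Step.L (Step.D (nat_lit 3124) (Step.D (nat_lit 5548) (Step.D (nat_lit 8645) Step.done))))) (Scr.cons (nat_lit 9) (nat_lit 3) (Step.U (nat_lit 9149) (Step.U (nat_lit 5987) (Step.D (nat_lit 5988) (Step.F (nat_lit 3873) (Step.U (nat_lit 5616) (Step.L (Step.L (Step.L (Step.L (Step.L (Step.L (Step.L (Step.L (Step.L (Step.L (Step.L (Step.L (Step.L (Step.L (Step.L (Step.L (Step.D (nat_lit 5550) (Step.B (nat_lit 3884) Step.done))))))))))))))))))))))) (Scr.cons (nat_lit 14) (nat_lit 1) (Step.L (Step.L (Step.L (Step.L (Step.L (Step.L (Step.L (Step.L (Step.L (Step.L (Step.L (Step.L (Step.L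 (Step.L (Step.L (Step.L (Step.L (Step.D (nat_lit 3124) (Step.D (nat_lit 5548) (Step.D (nat_lit 8645) (Step.F (nat_lit 3885) Step.done))))))))))))))))))))) (Scr.cons (nat_lit 0) (nat_lit 1) (Step.F (nat_lit 3885) (Step.F (nat_lit 3886) (Step.L Step.done))) (Scr.cons (nat_lit 1) (nat_lit 0) (Step.D (nat_lit 8645) (Step.B (nat_lit 3887) (Step.D (nat_lit 7349) Step.done))) (Scr.cons (nat_lit 12) (nat_lit 1) (Step.L (Step.L (Step.L (Step.L (Step.D (nat_lit 9146) Step.done))))) (Scr.cons (nat_lit 12) (nat_lit 1) (Step.L (Step.L (Step.L (Step.L (Step.D (nat_lit 5987) Step.done))))) (Scr.cons (nat_lit 13) (nat_lit 3) (Step.D (nat_lit 8645) (Step.F (nat_lit 3885) (Step.U (nat_lit 9149) (Step.F (nat_lit 3890) (Step.L (Step.L (Step.L (Step.L (Step.L (Step.L (Step.L (Step.D (nat_lit 9146) Step.done)))))))))))) (Scr.cons (nat_lit 0) (nat_lit 1) (Step.B (nat_lit 3889) (Step.F (nat_lit 3891) (Step.D (nat_lit 8644) Step.done))) (Scr.cons (nat_lit 0) (nat_lit 1) (Step.D (nat_lit 8644)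 (Step.F (nat_lit 3892) Step.done)) (Scr.cons (nat_lit 0) (nat_lit 1) (Step.U (nat_lit 10418) (Step.F (nat_lit 3888) (Step.B (nat_lit 3893) Step.done))) (Scr.cons (nat_lit 1) (nat_lit 1) (Step.B (nat_lit 3883) (Step.B (nat_lit 3894) (Step.L Step.done))) (Scr.cons (nat_lit 1) (nat_lit 1) (Step.D (nat_lit 8236) (Step.B (nat_lit 3895) (Step.D (nat_lit 5982) Step.done))) (Scr.cons (nat_lit 1) (nat_lit 1) (Step.D (nat_lit 5982) (Step.F (nat_lit 3896) Step.done)) (Scr.cons (nat_lit 12) (nat_lit 4) (Step.L (Step.L (Step.L (Step.L (Step.D (nat_lit 2871) Step.done))))) (Scr.cons (nat_lit 12) (nat_lit 1) (Step.U (nat_lit 5182) (Step.F (nat_lit 3898) (Step.D (nat_lit 2871) (Step.D (nat_lit 5182) (Step.D (nat_lit 8196) Step.done))))) (Scr.cons (nat_lit 12) (nat_lit 1) (Step.U (nat_lit 1720) (Step.L (Step.L (Step.D (nat_lit 1720) (Step.D (nat_lit 3400) Step.done))))) (Scr.cons (nat_lit 7) (nat_lit 6) (Step.U (nat_lit 8240) (Step.U (nat_lit 5213) (Step.L (Step.L (Step.L (Step.L (Step.L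 (Step.L (Step.L (Step.L (Step.L (Step.L (Step.L (Step.L (Step.L (Step.L (Step.D (nat_lit 1720) (Step.B (nat_lit 3900) (Step.D (nat_lit 6009) (Step.D (nat_lit 9165) Step.done)))))))))))))))))))) (Scr.cons (nat_lit 13) (nat_lit 3) (Step.U (nat_lit 4413) (Step.L (Step.L (Step.L (Step.L (Step.L (Step.L (Step.L (Step.L (Step.D (nat_lit 2701) (Step.D (nat_lit 4938) Step.done))))))))))) (Scr.cons (nat_lit 4) (nat_lit 0) (Step.U (nat_lit 10403) (Step.U (nat_lit 7330) (Step.B (nat_lit 3902) (Step.D (nat_lit 7950) (Step.D (nat_lit 10935) Step.done))))) (Scr.cons (nat_lit 9) (nat_lit 5) (Step.F (nat_lit 3903) (Step.U (nat_lit 10403) (Step.U (nat_lit 7330) (Step.U (nat_lit 4413) (Step.L (Step.L (Step.L (Step.L (Step.L (Step.L (Step.L (Step.L (Step.L (Step.L (Step.L (Step.L (Step.L (Step.L (Step.L (Step.L (Step.L (Step.L (Step.D (nat_lit 8201) Step.done))))))))))))))))))))))) (Scr.cons (nat_lit 5) (nat_lit 5) (Step.U (nat_lit 8201) (Step.L (Step.L (Step.D (nat_lit 8201) (Step.F (nat_lit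 3904) Step.done))))) (Scr.cons (nat_lit 11) (nat_lit 0) (Step.U (nat_lit 5214) (Step.U (nat_lit 2888) (Step.L (Step.D (nat_lit 5213) (Step.D (nat_lit 8240) Step.done))))) (Scr.cons (nat_lit 7) (nat_lit 4) (Step.U (nat_lit 8200) (Step.D (nat_lit 8201) (Step.B (nat_lit 3905) (Step.F (nat_lit 3903) (Step.U (nat_lit 10403) (Step.U (nat_lit 7330) (Step.U (nat_lit 4413) (Step.L (Step.L (Step.D (nat_lit 4414) (Step.B (nat_lit 3881) (Step.L (Step.L (Step.L (Step.L (Step.L (Step.L (Step.D (nat_lit 2888) (Step.D (nat_lit 5214) (Step.B (nat_lit 3906) (Step.B (nat_lit 3901) Step.done))))))))))))))))))))) (Scr.cons (nat_lit 13) (nat_lit 0) (Step.U (nat_lit 8200) (Step.L (Step.L (Step.L (Step.L (Step.L (Step.L (Step.B (nat_lit 3898) (Step.D (nat_lit 5182) (Step.D (nat_lit 8196) (Step.D (nat_lit 11168) Step.done))))))))))) (Scr.cons (nat_lit 0) (nat_lit 1) (Step.B (nat_lit 3901) (Step.F (nat_lit 3907) (Step.B (nat_lit 3908) Step.done))) (Scr.cons (nat_lit 1) (nat_lit 0) (Step.D (nat_lit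 11168) (Step.F (nat_lit 3909) (Step.U (nat_lit 8240) Step.done))) (Scr.cons (nat_lit 0) (nat_lit 1) (Step.B (nat_lit 3899) (Step.B (nat_lit 3910) (Step.D (nat_lit 8239) Step.done))) (Scr.cons (nat_lit 0) (nat_lit 1) (Step.D (nat_lit 8239) (Step.F (nat_lit 3911) Step.done)) (Scr.cons (nat_lit 8) (nat_lit 0) (Step.U (nat_lit 9161) (Step.L (Step.L (Step.L (Step.L (Step.L (Step.L (Step.B (nat_lit 3898) (Step.D (nat_lit 5182) (Step.F (nat_lit 3912) (Step.U (nat_lit 5213) (Step.L (Step.L (Step.L (Step.L (Step.L Step.done)))))))))))))))) (Scr.cons (nat_lit 1) (nat_lit 1) (Step.D (nat_lit 9161) (Step.B (nat_lit 3913) Step.done)) (Scr.cons (nat_lit 12) (nat_lit 1) (Step.L (Step.L (Step.L (Step.L (Step.D (nat_lit 1582) Step.done))))) (Scr.cons (nat_lit 15) (nat_lit 0) (Step.U (nat_lit 3151) (Step.F (nat_lit 3915) (Step.L (Step.L (Step.L (Step.L (Step.L (Step.L (Step.L (Step.L (Step.L (Step.L (Step.D (nat_lit 1567) (Step.D (nat_lit 3123) (Step.D (nat_lit 5547) Step.done)))))))))))))))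 (Scr.cons (nat_lit 12) (nat_lit 4) (Step.L (Step.L (Step.L (Step.L (Step.D (nat_lit 702) Step.done))))) (Scr.cons (nat_lit 12) (nat_lit 1) (Step.U (nat_lit 1646) (Step.F (nat_lit 3917) (Step.D (nat_lit 702) (Step.D (nat_lit 1646) (Step.D (nat_lit 3280) Step.done))))) (Scr.cons (nat_lit 12) (nat_lit 1) (Step.U (nat_lit 3281) (Step.D (nat_lit 3280) (Step.F (nat_lit 3918) (Step.D (nat_lit 3281) (Step.D (nat_lit 5815) Step.done))))) (Scr.cons (nat_lit 13) (nat_lit 3) (Step.L (Step.L (Step.L (Step.L (Step.L (Step.L (Step.L (Step.L (Step.B (nat_lit 3917) (Step.D (nat_lit 1646) (Step.D (nat_lit 3280) Step.done))))))))))) (Scr.cons (nat_lit 12) (nat_lit 1) (Step.U (nat_lit 3148) (Step.L (Step.L (Step.D (nat_lit 3148) (Step.D (nat_lit 5584) Step.done))))) (Scr.cons (nat_lit 12) (nat_lit 1) (Step.U (nat_lit 5585) (Step.D (nat_lit 5584) (Step.F (nat_lit 3921) (Step.D (nat_lit 5585) (Step.D (nat_lit 8678) Step.done))))) Scr.nil))))))))))))))))))))))))))))))))))))))))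
noncomputable def s98 : Scr := (Scr.cons (nat_lit 9) (nat_lit 4) (Step.U (nat_lit 8441) (Step.L (Step.L (Step.L (Step.L (Step.L (Step.L (Step.L (Step.L (Step.L (Step.L (Step.L (Step.L (Step.L (Step.L (Step.L (Step.L (Step.L (Step.L (Step.L (Step.L (Step.D (nat_lit 3148) (Step.D (nat_lit 5585) (Step.B (nat_lit 3922) Step.done)))))))))))))))))))))))) (Scr.cons (nat_lit 0) (nat_lit 0) (Step.B (nat_lit 3922) (Step.F (nat_lit 3923) Step.done)) (Scr.cons (nat_lit 6) (nat_lit 0) (Step.U (nat_lit 5584) (Step.U (nat_lit 3148) (Step.L (Step.L (Step.L (Step.L (Step.L (Step.L (Step.B (nat_lit 3915) (Step.D (nat_lit 3150) (Step.D (nat_lit 5588) Step.done))))))))))) (Scr.cons (nat_lit 12) (nat_lit 4) (Step.U (nat_lit 3150) (Step.F (nat_lit 3915) (Step.D (nat_lit 1582) (Step.D (nat_lit 3150) (Step.D (nat_lit 5588) Step.done))))) (Scr.cons (nat_lit 15) (nat_lit 1) (Step.U (nat_lit 8944) (Step.F (nat_lit 3919) (Step.U (nat_lit 3281) (Step.D (nat_lit 3280) (Step.F (nat_lit 3920) (Step.L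 (Step.L (Step.L (Step.D (nat_lit 8441) (Step.F (nat_lit 3924) (Step.U (nat_lit 5585) (Step.D (nat_lit 5584) (Step.B (nat_lit 3925) (Step.F (nat_lit 3926) (Step.D (nat_lit 5589) (Step.D (nat_lit 8682) Step.done)))))))))))))))) (Scr.cons (nat_lit 1) (nat_lit 0) (Step.D (nat_lit 8944) (Step.B (nat_lit 3927) Step.done)) (Scr.cons (nat_lit 12) (nat_lit 1) (Step.L (Step.L (Step.L (Step.L (Step.D (nat_lit 1642) Step.done))))) (Scr.cons (nat_lit 12) (nat_lit 1) (Step.U (nat_lit 3270) (Step.F (nat_lit 3929) (Step.D (nat_lit 1642) (Step.D (nat_lit 3270) (Step.D (nat_lit 5800) Step.done))))) (Scr.cons (nat_lit 15) (nat_lit 1) (Step.F (nat_lit 3930) (Step.U (nat_lit 3270) (Step.F (nat_lit 3929) (Step.L (Step.L (Step.L (Step.L (Step.L (Step.L (Step.L (Step.L (Step.L (Step.D (nat_lit 702) (Step.D (nat_lit 1645) (Step.D (nat_lit 3279) Step.done))))))))))))))) (Scr.cons (nat_lit 16) (nat_lit 1) (Step.U (nat_lit 8643) (Step.L (Step.L (Step.L (Step.D (nat_lit 1567) (Step.D (nat_lit 3123)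 (Step.D (nat_lit 5547) (Step.F (nat_lit 3916) (Step.U (nat_lit 3151) (Step.D (nat_lit 3150) (Step.D (nat_lit 5589) (Step.D (nat_lit 8682) (Step.F (nat_lit 3928) (Step.F (nat_lit 3919) (Step.U (nat_lit 3281) (Step.U (nat_lit 1646) (Step.D (nat_lit 1645) (Step.D (nat_lit 3279) (Step.F (nat_lit 3931) (Step.F (nat_lit 3930) (Step.U (nat_lit 3270) (Step.D (nat_lit 3269) (Step.D (nat_lit 5799) (Step.D (nat_lit 8927) Step.done)))))))))))))))))))))))) (Scr.cons (nat_lit 0) (nat_lit 1) (Step.D (nat_lit 8927) (Step.F (nat_lit 3932) Step.done)) (Scr.cons (nat_lit 12) (nat_lit 4) (Step.U (nat_lit 3269) (Step.F (nat_lit 3929) (Step.D (nat_lit 1642) (Step.D (nat_lit 3269) (Step.D (nat_lit 5798) Step.done))))) (Scr.cons (nat_lit 14) (nat_lit 6) (Step.U (nat_lit 700) (Step.L (Step.L (Step.L (Step.L (Step.L (Step.L (Step.L (Step.L (Step.L (Step.L (Step.L (Step.L (Step.L (Step.L (Step.L (Step.L (Step.L (Step.L (Step.D (nat_lit 706) Step.done)))))))))))))))))))) (Scr.cons (nat_lit 4) (nat_lit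 0) (Step.B (nat_lit 3935) (Step.U (nat_lit 706) (Step.L (Step.L (Step.L Step.done))))) (Scr.cons (nat_lit 13) (nat_lit 3) (Step.U (nat_lit 5798) (Step.U (nat_lit 3269) (Step.F (nat_lit 3929) (Step.L (Step.L (Step.L (Step.D (nat_lit 700) (Step.B (nat_lit 3936) (Step.L (Step.L (Step.L Step.done))))))))))) (Scr.cons (nat_lit 8) (nat_lit 0) (Step.L (Step.L (Step.L (Step.L (Step.L (Step.L (Step.L (Step.D (nat_lit 8643) (Step.F (nat_lit 3933) (Step.U (nat_lit 5799) (Step.B (nat_lit 3934) (Step.B (nat_lit 3937) (Step.L (Step.L (Step.L Step.done))))))))))))))) (Scr.cons (nat_lit 12) (nat_lit 1) (Step.L (Step.L (Step.L (Step.L (Step.D (nat_lit 2919) Step.done))))) (Scr.cons (nat_lit 12) (nat_lit 1) (Step.L (Step.D (nat_lit 2919) (Step.F (nat_lit 3939) (Step.L (Step.D (nat_lit 5274) Step.done))))) (Scr.cons (nat_lit 12) (nat_lit 4) (Step.L (Step.L (Step.L (Step.L (Step.D (nat_lit 5251) Step.done))))) (Scr.cons (nat_lit 12) (nat_lit 4) (Step.L (Step.L (Step.L (Step.L (Step.D (nat_lit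 2897) Step.done))))) (Scr.cons (nat_lit 13) (nat_lit 3) (Step.U (nat_lit 5251) (Step.L (Step.L (Step.L (Step.L (Step.L (Step.L (Step.L (Step.B (nat_lit 3942) (Step.D (nat_lit 5246) (Step.D (nat_lit 8283) Step.done))))))))))) (Scr.cons (nat_lit 11) (nat_lit 0) (Step.L (Step.L (Step.L (Step.D (nat_lit 2918) (Step.D (nat_lit 5273) Step.done))))) (Scr.cons (nat_lit 12) (nat_lit 1) (Step.F (nat_lit 3944) (Step.D (nat_lit 5274) (Step.F (nat_lit 3940) (Step.B (nat_lit 3944) (Step.D (nat_lit 8312) Step.done))))) (Scr.cons (nat_lit 12) (nat_lit 1) (Step.L (Step.L (Step.L (Step.L (Step.D (nat_lit 2927) Step.done))))) (Scr.cons (nat_lit 12) (nat_lit 1) (Step.L (Step.D (nat_lit 2927) (Step.F (nat_lit 3946) (Step.L (Step.D (nat_lit 5283) Step.done))))) (Scr.cons (nat_lit 14) (nat_lit 2) (Step.F (nat_lit 3945) (Step.F (nat_lit 3944) (Step.L (Step.L (Step.L (Step.L (Step.L (Step.L (Step.L (Step.L (Step.L (Step.L (Step.L (Step.L (Step.L (Step.L (Step.L (Step.L (Step.B (nat_lit 3947)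 (Step.D (nat_lit 8317) Step.done)))))))))))))))))))) (Scr.cons (nat_lit 1) (nat_lit 1) (Step.D (nat_lit 9165) (Step.F (nat_lit 3907) (Step.D (nat_lit 11172) Step.done))) (Scr.cons (nat_lit 1) (nat_lit 1) (Step.D (nat_lit 11172) (Step.F (nat_lit 3949) Step.done)) (Scr.cons (nat_lit 7) (nat_lit 2) (Step.U (nat_lit 8317) (Step.U (nat_lit 5283) (Step.L (Step.L (Step.L (Step.L (Step.L (Step.L (Step.L (Step.L (Step.D (nat_lit 1720) (Step.D (nat_lit 3400) (Step.D (nat_lit 6009) (Step.F (nat_lit 3950) (Step.U (nat_lit 8200) (Step.L (Step.L (Step.L (Step.D (nat_lit 2897) (Step.D (nat_lit 5246) (Step.D (nat_lit 8284) Step.done))))))))))))))))))))) (Scr.cons (nat_lit 1) (nat_lit 1) (Step.B (nat_lit 3948) (Step.B (nat_lit 3951) (Step.U (nat_lit 8284) Step.done))) (Scr.cons (nat_lit 0) (nat_lit 1) (Step.B (nat_lit 3945) (Step.B (nat_lit 3952) (Step.D (nat_lit 8283) Step.done))) (Scr.cons (nat_lit 1) (nat_lit 1) (Step.B (nat_lit 3943) (Step.F (nat_lit 3953) (Step.F (nat_lit 3944) Step.done)))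 (Scr.cons (nat_lit 0) (nat_lit 1) (Step.B (nat_lit 3941) (Step.B (nat_lit 3954) (Step.D (nat_lit 5274) Step.done))) (Scr.cons (nat_lit 0) (nat_lit 0) (Step.B (nat_lit 3940) (Step.F (nat_lit 3955) Step.done)) (Scr.cons (nat_lit 7) (nat_lit 6) (Step.U (nat_lit 8482) (Step.L (Step.L (Step.L (Step.L (Step.L (Step.L (Step.L (Step.L (Step.L (Step.L (Step.L (Step.L (Step.L (Step.L (Step.L (Step.L (Step.L (Step.D (nat_lit 5454) (Step.D (nat_lit 8540) Step.done)))))))))))))))))))) (Scr.cons (nat_lit 12) (nat_lit 4) (Step.U (nat_lit 605) (Step.L (Step.L (Step.D (nat_lit 605) (Step.D (nat_lit 1444) Step.done))))) (Scr.cons (nat_lit 12) (nat_lit 1) (Step.U (nat_lit 2929) (Step.F (nat_lit 3958) (Step.D (nat_lit 1444) (Step.D (nat_lit 2929) (Step.D (nat_lit 5290) Step.done))))) (Scr.cons (nat_lit 12) (nat_lit 1) (Step.U (nat_lit 5291) (Step.D (nat_lit 5290) (Step.F (nat_lit 3959) (Step.D (nat_lit 5291) (Step.D (nat_lit 8328) Step.done))))) (Scr.cons (nat_lit 11) (nat_lit 0) (Step.U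 (nat_lit 5291) (Step.U (nat_lit 2929) (Step.D (nat_lit 2928) (Step.D (nat_lit 5289) (Step.D (nat_lit 8325) Step.done))))) (Scr.cons (nat_lit 12) (nat_lit 1) (Step.L (Step.L (Step.L (Step.L (Step.D (nat_lit 3196) Step.done))))) Scr.nil))))))))))))))))))))))))))))))))))))))))
noncomputable def s99 : Scr := (Scr.cons (nat_lit 14) (nat_lit 2) (Step.F (nat_lit 3962) (Step.L (Step.L (Step.L (Step.L (Step.L (Step.L (Step.L (Step.L (Step.L (Step.L (Step.L (Step.L (Step.L (Step.L (Step.L (Step.L (Step.L (Step.L (Step.L Step.done)))))))))))))))))))) (Scr.cons (nat_lit 11) (nat_lit 0) (Step.U (nat_lit 5229) (Step.L (Step.L (Step.F (nat_lit 3963) (Step.D (nat_lit 5658) Step.done))))) (Scr.cons (nat_lit 12) (nat_lit 1) (Step.L (Step.L (Step.L (Step.L (Step.D (nat_lit 5228) Step.done))))) (Scr.cons (nat_lit 1) (nat_lit 1) (Step.D (nat_lit 8317) (Step.B (nat_lit 3951) Step.done)) (Scr.cons (nat_lit 4) (nat_lit 0) (Step.U (nat_lit 8282) (Step.U (nat_lit 5245) (Step.D (nat_lit 5246) (Step.D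 (nat_lit 8284) (Step.F (nat_lit 3966) (Step.D (nat_lit 8318) Step.done)))))) (Scr.cons (nat_lit 1) (nat_lit 0) (Step.D (nat_lit 8318) (Step.F (nat_lit 3967) Step.done)) (Scr.cons (nat_lit 16) (nat_lit 5) (Step.U (nat_lit 8266) (Step.F (nat_lit 3965) (Step.L (Step.L (Step.L (Step.L (Step.L (Step.L (Step.L (Step.L (Step.L (Step.L (Step.L (Step.L (Step.L (Step.D (nat_lit 2897) (Step.D (nat_lit 5245) (Step.D (nat_lit 8282) (Step.F (nat_lit 3968) (Step.F (nat_lit 3947) (Step.L (Step.D (nat_lit 2927) (Step.D (nat_lit 5286) (Step.D (nat_lit 8321) Step.done)))))))))))))))))))))))) (Scr.cons (nat_lit 1) (nat_lit 1) (Step.D (nat_lit 8321) (Step.F (nat_lit 3969) Step.done)) (Scr.cons (nat_lit 4) (nat_lit 0) (Step.U (nat_lit 8265) (Step.D (nat_lit 8266) (Step.F (nat_lit 3970) (Step.U (nat_lit 5286) (Step.D (nat_lit 5287) (Step.D (nat_lit 8322) Step.done)))))) (Scr.cons (nat_lit 1) (nat_lit 0) (Step.D (nat_lit 8322) (Step.F (nat_lit 3971) Step.done)) (Scr.cons (nat_lit 14) (nat_lit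 0) (Step.U (nat_lit 8762) (Step.F (nat_lit 3964) (Step.U (nat_lit 5229) (Step.D (nat_lit 5228) (Step.D (nat_lit 8265) (Step.F (nat_lit 3972) (Step.U (nat_lit 5287) (Step.U (nat_lit 2927) (Step.L (Step.L (Step.L (Step.L (Step.L (Step.L (Step.L (Step.L (Step.D (nat_lit 605) (Step.D (nat_lit 1444) (Step.D (nat_lit 2928) (Step.D (nat_lit 5289) (Step.D (nat_lit 8325) Step.done))))))))))))))))))))) (Scr.cons (nat_lit 0) (nat_lit 1) (Step.D (nat_lit 8762) (Step.B (nat_lit 3973) Step.done)) (Scr.cons (nat_lit 12) (nat_lit 1) (Step.L (Step.L (Step.L (Step.L (Step.D (nat_lit 4845) Step.done))))) (Scr.cons (nat_lit 12) (nat_lit 1) (Step.L (Step.L (Step.L (Step.L (Step.D (nat_lit 2415) Step.done))))) (Scr.cons (nat_lit 14) (nat_lit 6) (Step.U (nat_lit 10488) (Step.U (nat_lit 7430) (Step.U (nat_lit 4496) (Step.F (nat_lit 3976) (Step.L (Step.L (Step.L (Step.L (Step.L (Step.L (Step.L (Step.L (Step.L (Step.L (Step.B (nat_lit 2420) (Step.D (nat_lit 1165) (Step.D (nat_lit 2421) (Step.D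 (nat_lit 4507) (Step.D (nat_lit 7442) (Step.D (nat_lit 10494) Step.done)))))))))))))))))))) (Scr.cons (nat_lit 11) (nat_lit 0) (Step.U (nat_lit 7430) (Step.U (nat_lit 4496) (Step.D (nat_lit 4495) (Step.D (nat_lit 7429) (Step.D (nat_lit 10487) Step.done))))) (Scr.cons (nat_lit 7) (nat_lit 3) (Step.L (Step.L (Step.L (Step.L (Step.L (Step.L (Step.L (Step.L (Step.L (Step.L (Step.L (Step.L (Step.L (Step.L (Step.L (Step.L (Step.L (Step.D (nat_lit 2415) (Step.D (nat_lit 4496) (Step.D (nat_lit 7430) (Step.B (nat_lit 3978) Step.done))))))))))))))))))))) (Scr.cons (nat_lit 1) (nat_lit 1) (Step.B (nat_lit 3978) (Step.F (nat_lit 3979) (Step.L Step.done))) (Scr.cons (nat_lit 0) (nat_lit 1) (Step.U (nat_lit 10488) (Step.B (nat_lit 3980) (Step.D (nat_lit 4845) Step.done))) (Scr.cons (nat_lit 1) (nat_lit 0) (Step.F (nat_lit 3977) (Step.B (nat_lit 3981) (Step.D (nat_lit 7837) Step.done))) (Scr.cons (nat_lit 1) (nat_lit 0) (Step.D (nat_lit 10494) (Step.B (nat_lit 3982) (Step.D (nat_lit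 10836) Step.done))) (Scr.cons (nat_lit 1) (nat_lit 0) (Step.D (nat_lit 10836) (Step.F (nat_lit 3983) Step.done)) (Scr.cons (nat_lit 12) (nat_lit 4) (Step.U (nat_lit 1165) (Step.F (nat_lit 2420) (Step.D (nat_lit 459) (Step.D (nat_lit 1165) (Step.D (nat_lit 2420) Step.done))))) (Scr.cons (nat_lit 11) (nat_lit 0) (Step.U (nat_lit 7441) (Step.U (nat_lit 4506) (Step.D (nat_lit 4505) (Step.D (nat_lit 7440) (Step.D (nat_lit 10493) Step.done))))) (Scr.cons (nat_lit 9) (nat_lit 3) (Step.U (nat_lit 8328) (Step.B (nat_lit 3961) (Step.F (nat_lit 3974) (Step.U (nat_lit 5658) (Step.B (nat_lit 3963) (Step.L (Step.L (Step.L (Step.L (Step.L (Step.L (Step.L (Step.L (Step.L (Step.B (nat_lit 3975) (Step.D (nat_lit 7837) (Step.B (nat_lit 3984) (Step.U (nat_lit 7442) (Step.U (nat_lit 4507) (Step.U (nat_lit 2421) (Step.B (nat_lit 3985) (Step.D (nat_lit 4506) (Step.D (nat_lit 7441) (Step.B (nat_lit 3986) Step.done)))))))))))))))))))))))) (Scr.cons (nat_lit 1) (nat_lit 1) (Step.D (nat_lit 10493)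 (Step.F (nat_lit 3987) Step.done)) (Scr.cons (nat_lit 9) (nat_lit 2) (Step.U (nat_lit 8326) (Step.U (nat_lit 5290) (Step.D (nat_lit 5291) (Step.B (nat_lit 3960) (Step.F (nat_lit 3988) (Step.U (nat_lit 7440) (Step.U (nat_lit 4505) (Step.U (nat_lit 2420) (Step.U (nat_lit 1165) (Step.U (nat_lit 459) (Step.L (Step.L (Step.L (Step.L (Step.L (Step.L (Step.L (Step.L (Step.L (Step.L (Step.L (Step.L (Step.D (nat_lit 7453) (Step.D (nat_lit 10507) Step.done)))))))))))))))))))))))) (Scr.cons (nat_lit 1) (nat_lit 0) (Step.D (nat_lit 10507) (Step.F (nat_lit 3989) Step.done)) (Scr.cons (nat_lit 11) (nat_lit 0) (Step.U (nat_lit 8327) (Step.D (nat_lit 8326) (Step.F (nat_lit 3990) (Step.U (nat_lit 7453) (Step.D (nat_lit 7452) (Step.D (nat_lit 10506) Step.done)))))) (Scr.cons (nat_lit 1) (nat_lit 1) (Step.D (nat_lit 10506) (Step.F (nat_lit 3991) Step.done)) (Scr.cons (nat_lit 11) (nat_lit 0) (Step.L (Step.L (Step.L (Step.L (Step.D (nat_lit 5455) Step.done))))) (Scr.cons (nat_lit 12) (nat_lit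 1) (Step.F (nat_lit 3993) (Step.L (Step.L (Step.B (nat_lit 3993) (Step.D (nat_lit 8541) Step.done))))) (Scr.cons (nat_lit 12) (nat_lit 1) (Step.L (Step.L (Step.L (Step.L (Step.D (nat_lit 5226) Step.done))))) (Scr.cons (nat_lit 14) (nat_lit 2) (Step.F (nat_lit 3994) (Step.F (nat_lit 3993) (Step.L (Step.L (Step.L (Step.L (Step.L (Step.L (Step.L (Step.L (Step.L (Step.L (Step.L (Step.L (Step.L (Step.L (Step.L (Step.L (Step.B (nat_lit 3995) (Step.D (nat_lit 8261) Step.done)))))))))))))))))))) (Scr.cons (nat_lit 11) (nat_lit 0) (Step.U (nat_lit 4445) (Step.L (Step.L (Step.L (Step.D (nat_lit 4513) Step.done))))) (Scr.cons (nat_lit 12) (nat_lit 1) (Step.U (nat_lit 4445) (Step.L (Step.L (Step.D (nat_lit 4445) (Step.D (nat_lit 7368) Step.done))))) (Scr.cons (nat_lit 12) (nat_lit 1) (Step.F (nat_lit 3997) (Step.D (nat_lit 7368) (Step.F (nat_lit 3998) (Step.B (nat_lit 3997) (Step.D (nat_lit 7451) Step.done))))) (Scr.cons (nat_lit 12) (nat_lit 1) (Step.L (Step.L (Step.L (Step.L (Step.D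 (nat_lit 1159) Step.done))))) (Scr.cons (nat_lit 14) (nat_lit 5) (Step.U (nat_lit 10478) (Step.U (nat_lit 7419) (Step.U (nat_lit 4485) (Step.U (nat_lit 2411) (Step.F (nat_lit 4000) (Step.L (Step.L (Step.L (Step.L (Step.L (Step.L (Step.L (Step.L (Step.L (Step.L (Step.L (Step.L (Step.D (nat_lit 4513) (Step.D (nat_lit 7451) (Step.D (nat_lit 10504) Step.done)))))))))))))))))))) (Scr.cons (nat_lit 4) (nat_lit 0) (Step.U (nat_lit 10477) (Step.D (nat_lit 10478) (Step.B (nat_lit 4001) (Step.U (nat_lit 10504) (Step.D (nat_lit 10505) Step.done))))) Scr.nil))))))))))))))))))))))))))))))))))))))))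
noncomputable def s100 : Scr := (Scr.cons (nat_lit 12) (nat_lit 1) (Step.L (Step.L (Step.L (Step.L (Step.D (nat_lit 2400) Step.done))))) (Scr.cons (nat_lit 14) (nat_lit 2) (Step.F (nat_lit 4003) (Step.L (Step.L (Step.L (Step.L (Step.L (Step.L (Step.L (Step.L (Step.L (Step.L (Step.L (Step.L (Step.L (Step.L (Step.L (Step.L (Step.L (Step.B (nat_lit 4000) (Step.D (nat_lit 2410) Step.done)))))))))))))))))))) (Scr.cons (nat_lit 4) (nat_lit 0) (Step.U (nat_lit 4460) (Step.B (nat_lit 4004) (Step.U (nat_lit 2410) (Step.D (nat_lit 2411) (Step.D (nat_lit 4485) Step.done))))) (Scr.cons (nat_lit 12) (nat_lit 1) (Step.L (Step.L (Step.L (Step.L (Step.D (nat_lit 1515) Step.done))))) (Scr.cons (nat_lit 6) (nat_lit 3) (Step.U (nat_lit 3040) (Step.U (nat_lit 1515) (Step.L (Step.L (Step.L (Step.L (Step.L (Step.L (Step.L (Step.B (nat_lit 442) (Step.D (nat_lit 5462) Step.done))))))))))) (Scr.cons (nat_lit 11) (nat_lit 0) (Step.U (nat_lit 4464) (Step.L (Step.L (Step.D (nat_lit 4462) (Step.D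 (nat_lit 7392) Step.done))))) (Scr.cons (nat_lit 12) (nat_lit 1) (Step.L (Step.L (Step.L (Step.L (Step.D (nat_lit 4463) Step.done))))) (Scr.cons (nat_lit 12) (nat_lit 1) (Step.U (nat_lit 4464) (Step.D (nat_lit 4463) (Step.F (nat_lit 4009) (Step.D (nat_lit 4464) (Step.D (nat_lit 7393) Step.done))))) (Scr.cons (nat_lit 12) (nat_lit 1) (Step.F (nat_lit 4008) (Step.D (nat_lit 7393) (Step.F (nat_lit 4010) (Step.B (nat_lit 4008) (Step.D (nat_lit 10455) Step.done))))) (Scr.cons (nat_lit 11) (nat_lit 0) (Step.U (nat_lit 2386) (Step.U (nat_lit 1147) (Step.D (nat_lit 1146) (Step.D (nat_lit 2385) (Step.D (nat_lit 4435) Step.done))))) (Scr.cons (nat_lit 6) (nat_lit 1) (Step.U (nat_lit 1147) (Step.F (nat_lit 2381) (Step.L (Step.L (Step.L (Step.L (Step.L (Step.B (nat_lit 115) (Step.D (nat_lit 393) (Step.D (nat_lit 1025) (Step.D (nat_lit 2190) Step.done))))))))))) (Scr.cons (nat_lit 6) (nat_lit 0) (Step.U (nat_lit 3846) (Step.L (Step.L (Step.L (Step.L (Step.L (Step.L (Step.L (Step.L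 (Step.D (nat_lit 2337) (Step.D (nat_lit 4360) Step.done))))))))))) (Scr.cons (nat_lit 12) (nat_lit 4) (Step.U (nat_lit 2337) (Step.L (Step.L (Step.D (nat_lit 2337) (Step.D (nat_lit 4360) Step.done))))) (Scr.cons (nat_lit 15) (nat_lit 0) (Step.U (nat_lit 2386) (Step.B (nat_lit 4013) (Step.U (nat_lit 2190) (Step.F (nat_lit 2382) (Step.D (nat_lit 1026) (Step.B (nat_lit 120) (Step.F (nat_lit 103) (Step.D (nat_lit 1803) (Step.B (nat_lit 3453) (Step.F (nat_lit 3524) (Step.L (Step.D (nat_lit 3846) (Step.B (nat_lit 4014) (Step.F (nat_lit 4015) (Step.D (nat_lit 4361) Step.done))))))))))))))) (Scr.cons (nat_lit 12) (nat_lit 1) (Step.F (nat_lit 4012) (Step.B (nat_lit 2636) (Step.F (nat_lit 4016) (Step.B (nat_lit 4012) (Step.D (nat_lit 7359) Step.done))))) (Scr.cons (nat_lit 14) (nat_lit 2) (Step.F (nat_lit 4011) (Step.F (nat_lit 4008) (Step.U (nat_lit 4464) (Step.L (Step.L (Step.L (Step.L (Step.L (Step.L (Step.L (Step.L (Step.L (Step.L (Step.L (Step.D (nat_lit 450) (Step.D (nat_lit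 1146) (Step.D (nat_lit 2385) (Step.D (nat_lit 4435) (Step.B (nat_lit 4017) (Step.D (nat_lit 10423) Step.done)))))))))))))))))))) (Scr.cons (nat_lit 1) (nat_lit 0) (Step.F (nat_lit 4012) (Step.B (nat_lit 2637) (Step.L Step.done))) (Scr.cons (nat_lit 0) (nat_lit 1) (Step.U (nat_lit 7359) (Step.B (nat_lit 4019) (Step.L Step.done))) (Scr.cons (nat_lit 1) (nat_lit 1) (Step.U (nat_lit 10423) (Step.B (nat_lit 4020) (Step.L Step.done))) (Scr.cons (nat_lit 1) (nat_lit 1) (Step.B (nat_lit 4018) (Step.B (nat_lit 4021) (Step.L Step.done))) (Scr.cons (nat_lit 0) (nat_lit 1) (Step.B (nat_lit 4011) (Step.B (nat_lit 4022) (Step.L Step.done))) (Scr.cons (nat_lit 1) (nat_lit 1) (Step.B (nat_lit 4008) (Step.B (nat_lit 4023) (Step.L Step.done))) (Scr.cons (nat_lit 11) (nat_lit 0) (Step.U (nat_lit 2340) (Step.U (nat_lit 1115) (Step.L (Step.D (nat_lit 2339) (Step.D (nat_lit 4367) Step.done))))) (Scr.cons (nat_lit 16) (nat_lit 2) (Step.F (nat_lit 4025) (Step.U (nat_lit 2340) (Step.U (nat_lit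 1115) (Step.L (Step.L (Step.L (Step.L (Step.L (Step.L (Step.L (Step.L (Step.L (Step.L (Step.L (Step.L (Step.L (Step.L (Step.L (Step.L (Step.L (Step.L (Step.D (nat_lit 2569) (Step.D (nat_lit 4733) Step.done))))))))))))))))))))))) (Scr.cons (nat_lit 14) (nat_lit 1) (Step.F (nat_lit 739) (Step.F (nat_lit 738) (Step.F (nat_lit 734) (Step.U (nat_lit 1298) (Step.U (nat_lit 528) (Step.L (Step.L (Step.L (Step.L (Step.L (Step.L (Step.L (Step.L (Step.L (Step.L (Step.L (Step.L (Step.D (nat_lit 2339) (Step.D (nat_lit 4367) (Step.B (nat_lit 4026) Step.done)))))))))))))))))))) (Scr.cons (nat_lit 13) (nat_lit 0) (Step.U (nat_lit 3040) (Step.F (nat_lit 4006) (Step.L (Step.L (Step.L (Step.L (Step.L (Step.L (Step.L (Step.D (nat_lit 3038) (Step.D (nat_lit 5462) Step.done))))))))))) (Scr.cons (nat_lit 16) (nat_lit 3) (Step.U (nat_lit 4732) (Step.L (Step.L (Step.L (Step.D (nat_lit 2569) (Step.D (nat_lit 4733) (Step.F (nat_lit 4027) (Step.F (nat_lit 739) (Step.F (nat_lit 738) (Step.F (nat_lit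 734) (Step.F (nat_lit 735) (Step.L (Step.L (Step.L (Step.L (Step.L (Step.L (Step.L (Step.L (Step.L (Step.D (nat_lit 1515) (Step.D (nat_lit 3040) (Step.B (nat_lit 4028) Step.done))))))))))))))))))))))) (Scr.cons (nat_lit 11) (nat_lit 0) (Step.D (nat_lit 5462) (Step.F (nat_lit 4029) (Step.U (nat_lit 4732) (Step.L (Step.L (Step.D (nat_lit 4731) Step.done)))))) (Scr.cons (nat_lit 1) (nat_lit 0) (Step.D (nat_lit 4731) (Step.F (nat_lit 4030) (Step.D (nat_lit 5463) Step.done))) (Scr.cons (nat_lit 1) (nat_lit 0) (Step.D (nat_lit 5463) (Step.F (nat_lit 4031) Step.done)) (Scr.cons (nat_lit 1) (nat_lit 1) (Step.D (nat_lit 4464) (Step.B (nat_lit 4024) (Step.F (nat_lit 4032) Step.done))) (Scr.cons (nat_lit 1) (nat_lit 1) (Step.U (nat_lit 5462) (Step.F (nat_lit 4033) (Step.L Step.done))) (Scr.cons (nat_lit 0) (nat_lit 1) (Step.B (nat_lit 4007) (Step.B (nat_lit 4034) (Step.L Step.done))) (Scr.cons (nat_lit 1) (nat_lit 0) (Step.D (nat_lit 3040) (Step.B (nat_lit 4035) (Step.L Step.done)))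 (Scr.cons (nat_lit 0) (nat_lit 1) (Step.B (nat_lit 4006) (Step.B (nat_lit 4036) (Step.D (nat_lit 2400) Step.done))) (Scr.cons (nat_lit 1) (nat_lit 1) (Step.U (nat_lit 4460) (Step.F (nat_lit 4037) (Step.L Step.done))) (Scr.cons (nat_lit 1) (nat_lit 1) (Step.F (nat_lit 4005) (Step.B (nat_lit 4038) (Step.L Step.done))) (Scr.cons (nat_lit 0) (nat_lit 1) (Step.U (nat_lit 7419) (Step.B (nat_lit 4039) (Step.D (nat_lit 604) Step.done))) (Scr.cons (nat_lit 1) (nat_lit 1) (Step.U (nat_lit 10477) (Step.B (nat_lit 4040) (Step.D (nat_lit 1442) Step.done))) (Scr.cons (nat_lit 1) (nat_lit 1) (Step.F (nat_lit 4002) (Step.B (nat_lit 4041) (Step.D (nat_lit 2921) Step.done))) Scr.nil))))))))))))))))))))))))))))))))))))))))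
noncomputable def s101 : Scr := (Scr.cons (nat_lit 1) (nat_lit 1) (Step.D (nat_lit 10505) (Step.B (nat_lit 4042) (Step.D (nat_lit 5276) Step.done))) (Scr.cons (nat_lit 11) (nat_lit 0) (Step.U (nat_lit 2923) (Step.U (nat_lit 1443) (Step.D (nat_lit 1442) (Step.D (nat_lit 2921) (Step.D (nat_lit 5276) Step.done))))) (Scr.cons (nat_lit 12) (nat_lit 1) (Step.L (Step.L (Step.L (Step.L (Step.D (nat_lit 604) Step.done))))) (Scr.cons (nat_lit 16) (nat_lit 2) (Step.F (nat_lit 4044) (Step.U (nat_lit 2923) (Step.U (nat_lit 1443) (Step.F (nat_lit 4045) (Step.L (Step.L (Step.L (Step.L (Step.L (Step.L (Step.L (Step.L (Step.L (Step.L (Step.L (Step.L (Step.L (Step.L (Step.L (Step.L (Step.L (Step.D (nat_lit 5226) (Step.D (nat_lit 8261) Step.done))))))))))))))))))))))) (Scr.cons (nat_lit 12) (nat_lit 4) (Step.U (nat_lit 8261) (Step.F (nat_lit 3995) (Step.D (nat_lit 5226) (Step.D (nat_lit 8261) (Step.F (nat_lit 4046) Step.done))))) (Scr.cons (nat_lit 0) (nat_lit 1) (Step.B (nat_lit 3999)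 (Step.B (nat_lit 4043) (Step.F (nat_lit 4047) Step.done))) (Scr.cons (nat_lit 1) (nat_lit 1) (Step.B (nat_lit 3996) (Step.F (nat_lit 4048) (Step.F (nat_lit 3997) Step.done))) (Scr.cons (nat_lit 0) (nat_lit 1) (Step.B (nat_lit 3994) (Step.B (nat_lit 4049) (Step.D (nat_lit 7368) Step.done))) (Scr.cons (nat_lit 0) (nat_lit 1) (Step.D (nat_lit 7368) (Step.F (nat_lit 4050) Step.done)) (Scr.cons (nat_lit 7) (nat_lit 2) (Step.U (nat_lit 8323) (Step.U (nat_lit 5288) (Step.U (nat_lit 2928) (Step.D (nat_lit 2929) (Step.D (nat_lit 5290) (Step.D (nat_lit 8327) (Step.F (nat_lit 3992) (Step.U (nat_lit 7452) (Step.L (Step.L (Step.D (nat_lit 4445) (Step.B (nat_lit 4051) (Step.U (nat_lit 5455) (Step.L (Step.L (Step.L (Step.L (Step.L (Step.L (Step.D (nat_lit 5454) (Step.D (nat_lit 8540) Step.done))))))))))))))))))))) (Scr.cons (nat_lit 0) (nat_lit 0) (Step.B (nat_lit 3957) (Step.F (nat_lit 4052) Step.done)) (Scr.cons (nat_lit 11) (nat_lit 0) (Step.L (Step.L (Step.L (Step.L (Step.D (nat_lit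 8482) Step.done))))) (Scr.cons (nat_lit 15) (nat_lit 1) (Step.L (Step.L (Step.L (Step.L (Step.L (Step.L (Step.L (Step.D (nat_lit 605) (Step.D (nat_lit 1444) (Step.D (nat_lit 2928) (Step.D (nat_lit 5288) (Step.D (nat_lit 8323) (Step.F (nat_lit 4053) (Step.F (nat_lit 4054) (Step.L Step.done))))))))))))))) (Scr.cons (nat_lit 12) (nat_lit 4) (Step.U (nat_lit 2397) (Step.L (Step.L (Step.D (nat_lit 2397) (Step.D (nat_lit 4451) Step.done))))) (Scr.cons (nat_lit 13) (nat_lit 3) (Step.L (Step.L (Step.L (Step.L (Step.L (Step.L (Step.L (Step.D (nat_lit 2397) (Step.B (nat_lit 4056) (Step.D (nat_lit 7376) (Step.D (nat_lit 10440) Step.done))))))))))) (Scr.cons (nat_lit 11) (nat_lit 0) (Step.U (nat_lit 4453) (Step.L (Step.D (nat_lit 2397) (Step.D (nat_lit 4452) (Step.D (nat_lit 7378) Step.done))))) (Scr.cons (nat_lit 12) (nat_lit 1) (Step.U (nat_lit 4453) (Step.L (Step.L (Step.D (nat_lit 4453) (Step.D (nat_lit 7381) Step.done))))) (Scr.cons (nat_lit 7) (nat_lit 1) (Step.U (nat_lit 10425)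 (Step.U (nat_lit 7361) (Step.U (nat_lit 4437) (Step.U (nat_lit 2387) (Step.F (nat_lit 2410) (Step.L (Step.L (Step.L (Step.L (Step.L (Step.L (Step.L (Step.L (Step.L (Step.L (Step.L (Step.L (Step.D (nat_lit 4453) (Step.D (nat_lit 7381) (Step.D (nat_lit 10444) Step.done)))))))))))))))))))) (Scr.cons (nat_lit 11) (nat_lit 0) (Step.U (nat_lit 10426) (Step.D (nat_lit 10425) (Step.B (nat_lit 4060) (Step.U (nat_lit 10444) (Step.D (nat_lit 10443) Step.done))))) (Scr.cons (nat_lit 12) (nat_lit 4) (Step.U (nat_lit 14) (Step.L (Step.L (Step.D (nat_lit 14) (Step.D (nat_lit 74) Step.done))))) (Scr.cons (nat_lit 12) (nat_lit 1) (Step.U (nat_lit 260) (Step.F (nat_lit 4062) (Step.D (nat_lit 74) (Step.D (nat_lit 260) (Step.D (nat_lit 726) Step.done))))) (Scr.cons (nat_lit 12) (nat_lit 1) (Step.U (nat_lit 1686) (Step.F (nat_lit 4063) (Step.D (nat_lit 726) (Step.D (nat_lit 1686) (Step.D (nat_lit 3346) Step.done))))) (Scr.cons (nat_lit 12) (nat_lit 1) (Step.U (nat_lit 5922) (Step.F (nat_lit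 4064) (Step.D (nat_lit 3346) (Step.D (nat_lit 5922) (Step.D (nat_lit 9084) Step.done))))) (Scr.cons (nat_lit 15) (nat_lit 1) (Step.F (nat_lit 4065) (Step.U (nat_lit 5922) (Step.F (nat_lit 4064) (Step.U (nat_lit 1686) (Step.F (nat_lit 4063) (Step.U (nat_lit 260) (Step.F (nat_lit 4062) (Step.D (nat_lit 75) (Step.F (nat_lit 158) (Step.D (nat_lit 508) (Step.D (nat_lit 1261) (Step.D (nat_lit 2586) (Step.B (nat_lit 2414) (Step.D (nat_lit 7715) (Step.D (nat_lit 10734) Step.done))))))))))))))) (Scr.cons (nat_lit 6) (nat_lit 1) (Step.U (nat_lit 9085) (Step.D (nat_lit 9084) (Step.B (nat_lit 4066) (Step.U (nat_lit 10734) (Step.F (nat_lit 2413) (Step.D (nat_lit 7716) (Step.B (nat_lit 2432) (Step.U (nat_lit 4745) (Step.D (nat_lit 4746) (Step.D (nat_lit 7722) (Step.D (nat_lit 10736) Step.done))))))))))) (Scr.cons (nat_lit 0) (nat_lit 1) (Step.U (nat_lit 7722) (Step.B (nat_lit 2405) (Step.D (nat_lit 7361) Step.done))) (Scr.cons (nat_lit 1) (nat_lit 0) (Step.U (nat_lit 10736) (Step.B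 (nat_lit 4068) (Step.D (nat_lit 10426) Step.done))) (Scr.cons (nat_lit 0) (nat_lit 1) (Step.B (nat_lit 4067) (Step.B (nat_lit 4069) Step.done)) (Scr.cons (nat_lit 0) (nat_lit 1) (Step.U (nat_lit 10734) (Step.B (nat_lit 2417) (Step.L Step.done))) (Scr.cons (nat_lit 1) (nat_lit 1) (Step.B (nat_lit 4066) (Step.B (nat_lit 4071) (Step.L Step.done))) (Scr.cons (nat_lit 0) (nat_lit 1) (Step.B (nat_lit 4065) (Step.B (nat_lit 4072) (Step.L Step.done))) (Scr.cons (nat_lit 1) (nat_lit 0) (Step.U (nat_lit 9085) (Step.B (nat_lit 4073) (Step.L Step.done))) (Scr.cons (nat_lit 0) (nat_lit 1) (Step.F (nat_lit 4070) (Step.B (nat_lit 4074) (Step.L Step.done))) (Scr.cons (nat_lit 1) (nat_lit 0) (Step.F (nat_lit 4061) (Step.B (nat_lit 4075) (Step.L Step.done))) (Scr.cons (nat_lit 1) (nat_lit 0) (Step.D (nat_lit 10443) (Step.B (nat_lit 4076) (Step.L Step.done))) (Scr.cons (nat_lit 0) (nat_lit 1) (Step.B (nat_lit 4059) (Step.B (nat_lit 4077) (Step.D (nat_lit 2877) Step.done))) (Scr.cons (nat_lit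 1) (nat_lit 0) (Step.F (nat_lit 4058) (Step.B (nat_lit 4078) (Step.D (nat_lit 5194) Step.done))) (Scr.cons (nat_lit 1) (nat_lit 0) (Step.D (nat_lit 7378) (Step.B (nat_lit 4079) (Step.D (nat_lit 8213) Step.done))) (Scr.cons (nat_lit 1) (nat_lit 0) (Step.D (nat_lit 8213) (Step.F (nat_lit 4080) Step.done)) (Scr.cons (nat_lit 1) (nat_lit 1) (Step.D (nat_lit 4453) (Step.B (nat_lit 4078) (Step.D (nat_lit 5193) Step.done))) Scr.nil))))))))))))))))))))))))))))))))))))))))
noncomputable def s102 : Scr := (Scr.cons (nat_lit 1) (nat_lit 1) (Step.D (nat_lit 5193) (Step.F (nat_lit 4082) Step.done)) (Scr.cons (nat_lit 9) (nat_lit 1) (Step.U (nat_lit 4478) (Step.L (Step.L (Step.L (Step.L (Step.L (Step.L (Step.L (Step.L (Step.L (Step.L (Step.L (Step.L (Step.L (Step.L (Step.L (Step.L (Step.L (Step.L (Step.L (Step.L (Step.L (Step.D (nat_lit 7380) Step.done))))))))))))))))))))))) (Scr.cons (nat_lit 11) (nat_lit 0) (Step.L (Step.D (nat_lit 4478) (Step.B (nat_lit 4084) (Step.U (nat_lit 7380)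 (Step.D (nat_lit 7379) Step.done))))) (Scr.cons (nat_lit 11) (nat_lit 0) (Step.U (nat_lit 7817) (Step.U (nat_lit 4821) (Step.D (nat_lit 4820) (Step.D (nat_lit 7816) (Step.D (nat_lit 10817) Step.done))))) (Scr.cons (nat_lit 4) (nat_lit 0) (Step.U (nat_lit 7818) (Step.L (Step.B (nat_lit 2365) (Step.U (nat_lit 10700) (Step.D (nat_lit 10701) Step.done))))) (Scr.cons (nat_lit 1) (nat_lit 0) (Step.U (nat_lit 10701) (Step.B (nat_lit 2449) (Step.D (nat_lit 4916) Step.done))) (Scr.cons (nat_lit 1) (nat_lit 0) (Step.B (nat_lit 4087) (Step.B (nat_lit 4088) (Step.D (nat_lit 7914) Step.done))) (Scr.cons (nat_lit 1) (nat_lit 0) (Step.D (nat_lit 7914) (Step.F (nat_lit 4089) Step.done)) (Scr.cons (nat_lit 4) (nat_lit 0) (Step.U (nat_lit 7691) (Step.U (nat_lit 4716) (Step.L (Step.D (nat_lit 7675) (Step.D (nat_lit 10699) Step.done))))) (Scr.cons (nat_lit 7) (nat_lit 2) (Step.U (nat_lit 8324) (Step.U (nat_lit 5289) (Step.U (nat_lit 2928) (Step.F (nat_lit 3958) (Step.U (nat_lit 605) (Step.L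 (Step.L (Step.L (Step.L (Step.L (Step.L (Step.L (Step.L (Step.L (Step.L (Step.L (Step.D (nat_lit 2690) (Step.D (nat_lit 4918) (Step.D (nat_lit 7918) (Step.D (nat_lit 10904) Step.done)))))))))))))))))))) (Scr.cons (nat_lit 11) (nat_lit 0) (Step.B (nat_lit 4092) (Step.U (nat_lit 10904) (Step.U (nat_lit 7918) (Step.D (nat_lit 7917) (Step.D (nat_lit 10903) Step.done))))) (Scr.cons (nat_lit 11) (nat_lit 0) (Step.U (nat_lit 2690) (Step.L (Step.L (Step.D (nat_lit 2689) (Step.D (nat_lit 4917) Step.done))))) (Scr.cons (nat_lit 12) (nat_lit 1) (Step.U (nat_lit 2690) (Step.L (Step.L (Step.D (nat_lit 2690) (Step.D (nat_lit 4918) Step.done))))) (Scr.cons (nat_lit 12) (nat_lit 1) (Step.F (nat_lit 4094) (Step.D (nat_lit 4918) (Step.F (nat_lit 4095) (Step.B (nat_lit 4094) (Step.D (nat_lit 7915) Step.done))))) (Scr.cons (nat_lit 11) (nat_lit 0) (Step.U (nat_lit 1311) (Step.L (Step.L (Step.D (nat_lit 1310) (Step.D (nat_lit 2683) Step.done))))) (Scr.cons (nat_lit 12) (nat_lit 1) (Step.U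 (nat_lit 1311) (Step.L (Step.L (Step.D (nat_lit 1311) (Step.D (nat_lit 2684) Step.done))))) (Scr.cons (nat_lit 12) (nat_lit 1) (Step.F (nat_lit 4097) (Step.D (nat_lit 2684) (Step.F (nat_lit 4098) (Step.B (nat_lit 4097) (Step.D (nat_lit 4905) Step.done))))) (Scr.cons (nat_lit 7) (nat_lit 5) (Step.F (nat_lit 4096) (Step.U (nat_lit 4917) (Step.U (nat_lit 2689) (Step.L (Step.L (Step.L (Step.L (Step.L (Step.L (Step.L (Step.L (Step.L (Step.L (Step.L (Step.L (Step.L (Step.D (nat_lit 1311) (Step.B (nat_lit 4097) (Step.B (nat_lit 4099) (Step.D (nat_lit 7904) Step.done)))))))))))))))))))) (Scr.cons (nat_lit 12) (nat_lit 4) (Step.U (nat_lit 1310) (Step.L (Step.L (Step.D (nat_lit 1310) (Step.D (nat_lit 2682) Step.done))))) (Scr.cons (nat_lit 11) (nat_lit 0) (Step.U (nat_lit 7903) (Step.U (nat_lit 4904) (Step.D (nat_lit 4903) (Step.D (nat_lit 7902) (Step.D (nat_lit 10896) Step.done))))) (Scr.cons (nat_lit 12) (nat_lit 4) (Step.U (nat_lit 2614) (Step.L (Step.L (Step.D (nat_lit 2614)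 (Step.D (nat_lit 4803) Step.done))))) (Scr.cons (nat_lit 4) (nat_lit 0) (Step.U (nat_lit 2614) (Step.D (nat_lit 2615) (Step.F (nat_lit 1741) (Step.B (nat_lit 1739) (Step.D (nat_lit 3418) Step.done))))) (Scr.cons (nat_lit 14) (nat_lit 0) (Step.U (nat_lit 10801) (Step.U (nat_lit 7787) (Step.F (nat_lit 4103) (Step.B (nat_lit 4104) (Step.U (nat_lit 3418) (Step.F (nat_lit 1739) (Step.U (nat_lit 1308) (Step.L (Step.L (Step.L (Step.L (Step.L (Step.L (Step.L (Step.L (Step.D (nat_lit 1310) (Step.D (nat_lit 2682) (Step.D (nat_lit 4903) (Step.D (nat_lit 7902) (Step.D (nat_lit 10896) Step.done)))))))))))))))))))) (Scr.cons (nat_lit 13) (nat_lit 3) (Step.U (nat_lit 1083) (Step.U (nat_lit 423) (Step.L (Step.L (Step.L (Step.L (Step.L (Step.L (Step.B (nat_lit 2725) (Step.D (nat_lit 479) (Step.D (nat_lit 1199) Step.done))))))))))) (Scr.cons (nat_lit 1) (nat_lit 1) (Step.D (nat_lit 199) (Step.B (nat_lit 2260) (Step.D (nat_lit 423) Step.done))) (Scr.cons (nat_lit 0) (nat_lit 1) (Step.U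 (nat_lit 1083) (Step.F (nat_lit 4107) (Step.L Step.done))) (Scr.cons (nat_lit 1) (nat_lit 0) (Step.F (nat_lit 4106) (Step.B (nat_lit 4108) (Step.L Step.done))) (Scr.cons (nat_lit 0) (nat_lit 1) (Step.B (nat_lit 2726) (Step.B (nat_lit 4109) (Step.L Step.done))) (Scr.cons (nat_lit 1) (nat_lit 0) (Step.U (nat_lit 1200) (Step.B (nat_lit 4110) (Step.L Step.done))) (Scr.cons (nat_lit 1) (nat_lit 0) (Step.F (nat_lit 2724) (Step.B (nat_lit 4111) (Step.L Step.done))) (Scr.cons (nat_lit 0) (nat_lit 1) (Step.U (nat_lit 4599) (Step.B (nat_lit 4112) (Step.L Step.done))) (Scr.cons (nat_lit 1) (nat_lit 0) (Step.U (nat_lit 7560) (Step.B (nat_lit 4113) (Step.L Step.done))) (Scr.cons (nat_lit 1) (nat_lit 0) (Step.B (nat_lit 2729) (Step.B (nat_lit 4114) (Step.L Step.done))) (Scr.cons (nat_lit 0) (nat_lit 1) (Step.B (nat_lit 2722) (Step.B (nat_lit 4115) (Step.L Step.done))) (Scr.cons (nat_lit 1) (nat_lit 1) (Step.B (nat_lit 2721) (Step.B (nat_lit 4116) (Step.D (nat_lit 2614) Step.done)))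 (Scr.cons (nat_lit 0) (nat_lit 1) (Step.U (nat_lit 4803) (Step.F (nat_lit 4117) (Step.L Step.done))) (Scr.cons (nat_lit 1) (nat_lit 0) (Step.U (nat_lit 7787) (Step.B (nat_lit 4118) (Step.L Step.done))) (Scr.cons (nat_lit 1) (nat_lit 0) (Step.U (nat_lit 10801) (Step.B (nat_lit 4119) (Step.L Step.done))) (Scr.cons (nat_lit 0) (nat_lit 1) (Step.F (nat_lit 4105) (Step.B (nat_lit 4120) (Step.D (nat_lit 10738) Step.done))) (Scr.cons (nat_lit 14) (nat_lit 4) (Step.L (Step.L (Step.L (Step.L (Step.L (Step.L (Step.L (Step.L (Step.D (nat_lit 175) (Step.B (nat_lit 158) (Step.F (nat_lit 156) (Step.L (Step.L (Step.L (Step.L (Step.L (Step.L (Step.L (Step.D (nat_lit 5924) (Step.D (nat_lit 9086) Step.done)))))))))))))))))))) Scr.nil))))))))))))))))))))))))))))))))))))))))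
noncomputable def s103 : Scr := (Scr.cons (nat_lit 16) (nat_lit 3) (Step.L (Step.L (Step.L (Step.L (Step.L (Step.L (Step.L (Step.L (Step.L (Step.L (Step.L (Step.L (Step.L (Step.L (Step.L (Step.L (Step.L (Step.L (Step.L (Step.D (nat_lit 5924) (Step.D (nat_lit 9086) (Step.F (nat_lit 4122) (Step.D (nat_lit 10738) Step.done))))))))))))))))))))))) (Scr.cons (nat_lit 1) (nat_lit 1) (Step.B (nat_lit 4102) (Step.B (nat_lit 4121) (Step.F (nat_lit 4123) Step.done))) (Scr.cons (nat_lit 1) (nat_lit 1) (Step.D (nat_lit 7903) (Step.B (nat_lit 4124) (Step.L Step.done))) (Scr.cons (nat_lit 1) (nat_lit 1) (Step.D (nat_lit 4904) (Step.B (nat_lit 4125) (Step.L Step.done))) (Scr.cons (nat_lit 0) (nat_lit 1) (Step.B (nat_lit 4101) (Step.B (nat_lit 4126) (Step.L Step.done))) (Scr.cons (nat_lit 1) (nat_lit 1) (Step.U (nat_lit 2683) (Step.B (nat_lit 4127) (Step.L Step.done))) (Scr.cons (nat_lit 0) (nat_lit 1) (Step.U (nat_lit 4905) (Step.B (nat_lit 4128) (Step.L Step.done))) (Scr.cons (nat_lit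 1) (nat_lit 0) (Step.U (nat_lit 7904) (Step.B (nat_lit 4129) (Step.L Step.done))) (Scr.cons (nat_lit 1) (nat_lit 0) (Step.B (nat_lit 4100) (Step.B (nat_lit 4130) (Step.L Step.done))) (Scr.cons (nat_lit 0) (nat_lit 1) (Step.B (nat_lit 4096) (Step.B (nat_lit 4131) (Step.L Step.done))) (Scr.cons (nat_lit 1) (nat_lit 1) (Step.B (nat_lit 4094) (Step.B (nat_lit 4132) (Step.L Step.done))) (Scr.cons (nat_lit 0) (nat_lit 1) (Step.U (nat_lit 4918) (Step.B (nat_lit 4133) (Step.D (nat_lit 4703) Step.done))) (Scr.cons (nat_lit 1) (nat_lit 1) (Step.U (nat_lit 7917) (Step.B (nat_lit 4134) (Step.D (nat_lit 7672) Step.done))) (Scr.cons (nat_lit 1) (nat_lit 1) (Step.U (nat_lit 10903) (Step.B (nat_lit 4135) (Step.D (nat_lit 10698) Step.done))) (Scr.cons (nat_lit 1) (nat_lit 0) (Step.B (nat_lit 4093) (Step.B (nat_lit 4136) Step.done)) (Scr.cons (nat_lit 1) (nat_lit 0) (Step.B (nat_lit 3986) (Step.F (nat_lit 3987) Step.done)) (Scr.cons (nat_lit 14) (nat_lit 5) (Step.U (nat_lit 10699) (Step.U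 (nat_lit 7675) (Step.L (Step.L (Step.L (Step.D (nat_lit 4703) (Step.D (nat_lit 7672) (Step.D (nat_lit 10698) (Step.F (nat_lit 4137) (Step.U (nat_lit 8324) (Step.D (nat_lit 8325) (Step.F (nat_lit 3961) (Step.D (nat_lit 8328) (Step.F (nat_lit 4138) (Step.U (nat_lit 7441) (Step.U (nat_lit 4506) (Step.U (nat_lit 2420) (Step.D (nat_lit 2421) (Step.D (nat_lit 4508) (Step.D (nat_lit 7443) (Step.D (nat_lit 10495) Step.done))))))))))))))))))))) (Scr.cons (nat_lit 1) (nat_lit 0) (Step.B (nat_lit 4091) (Step.B (nat_lit 4139) (Step.U (nat_lit 10495) Step.done))) (Scr.cons (nat_lit 1) (nat_lit 0) (Step.D (nat_lit 7691) (Step.B (nat_lit 4140) (Step.D (nat_lit 10496) Step.done))) (Scr.cons (nat_lit 1) (nat_lit 0) (Step.D (nat_lit 10496) (Step.F (nat_lit 4141) Step.done)) (Scr.cons (nat_lit 11) (nat_lit 0) (Step.U (nat_lit 2423) (Step.U (nat_lit 1166) (Step.D (nat_lit 1165) (Step.D (nat_lit 2421) (Step.D (nat_lit 4508) Step.done))))) (Scr.cons (nat_lit 12) (nat_lit 1) (Step.U (nat_lit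 2423) (Step.D (nat_lit 2422) (Step.F (nat_lit 2428) (Step.D (nat_lit 2423) (Step.D (nat_lit 4510) Step.done))))) (Scr.cons (nat_lit 12) (nat_lit 1) (Step.F (nat_lit 4143) (Step.D (nat_lit 4510) (Step.F (nat_lit 4144) (Step.B (nat_lit 4143) (Step.D (nat_lit 7443) Step.done))))) (Scr.cons (nat_lit 7) (nat_lit 1) (Step.U (nat_lit 7413) (Step.U (nat_lit 4479) (Step.U (nat_lit 2405) (Step.L (Step.L (Step.L (Step.L (Step.L (Step.L (Step.L (Step.L (Step.L (Step.L (Step.L (Step.L (Step.B (nat_lit 2420) (Step.D (nat_lit 1166) (Step.D (nat_lit 2423) (Step.D (nat_lit 4510) (Step.D (nat_lit 7446) Step.done)))))))))))))))))))) (Scr.cons (nat_lit 11) (nat_lit 0) (Step.U (nat_lit 7414) (Step.D (nat_lit 7413) (Step.B (nat_lit 4146) (Step.U (nat_lit 7446) (Step.D (nat_lit 7445) Step.done))))) (Scr.cons (nat_lit 12) (nat_lit 4) (Step.U (nat_lit 2405) (Step.L (Step.L (Step.D (nat_lit 2405) (Step.D (nat_lit 4479) Step.done))))) (Scr.cons (nat_lit 16) (nat_lit 4) (Step.U (nat_lit 7817) (Step.U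 (nat_lit 4821) (Step.L (Step.L (Step.L (Step.D (nat_lit 7818) (Step.F (nat_lit 4090) (Step.U (nat_lit 4916) (Step.L (Step.L (Step.L (Step.L (Step.D (nat_lit 4716) (Step.F (nat_lit 4142) (Step.F (nat_lit 4145) (Step.F (nat_lit 4143) (Step.D (nat_lit 4510) (Step.D (nat_lit 7445) (Step.F (nat_lit 4147) (Step.U (nat_lit 7414) (Step.F (nat_lit 4148) (Step.D (nat_lit 4480) (Step.D (nat_lit 7415) (Step.D (nat_lit 10474) Step.done)))))))))))))))))))))))) (Scr.cons (nat_lit 1) (nat_lit 0) (Step.D (nat_lit 10474) (Step.F (nat_lit 4149) (Step.B (nat_lit 4086) Step.done))) (Scr.cons (nat_lit 1) (nat_lit 0) (Step.B (nat_lit 4086) (Step.F (nat_lit 4150) Step.done)) (Scr.cons (nat_lit 14) (nat_lit 5) (Step.U (nat_lit 11184) (Step.U (nat_lit 8212) (Step.U (nat_lit 5194) (Step.B (nat_lit 4083) (Step.L (Step.D (nat_lit 7379) (Step.F (nat_lit 4085) (Step.L (Step.L (Step.D (nat_lit 2405) (Step.D (nat_lit 4480) (Step.D (nat_lit 7415) (Step.F (nat_lit 4151) (Step.U (nat_lit 7817) (Step.U (nat_lit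 4821) (Step.L (Step.L (Step.D (nat_lit 4822) (Step.D (nat_lit 7819) (Step.D (nat_lit 10818) Step.done)))))))))))))))))))) (Scr.cons (nat_lit 11) (nat_lit 0) (Step.U (nat_lit 10819) (Step.D (nat_lit 10818) (Step.F (nat_lit 4152) (Step.U (nat_lit 11184) (Step.D (nat_lit 11183) Step.done))))) (Scr.cons (nat_lit 14) (nat_lit 0) (Step.U (nat_lit 4451) (Step.D (nat_lit 4452) (Step.F (nat_lit 4081) (Step.D (nat_lit 8212) (Step.D (nat_lit 11183) (Step.F (nat_lit 4153) (Step.U (nat_lit 10819) (Step.U (nat_lit 7819) (Step.F (nat_lit 2359) (Step.U (nat_lit 2622) (Step.L (Step.L (Step.L (Step.L (Step.L (Step.L (Step.L (Step.L (Step.D (nat_lit 3080) (Step.D (nat_lit 5501) (Step.D (nat_lit 8588) Step.done))))))))))))))))))))) (Scr.cons (nat_lit 1) (nat_lit 0) (Step.D (nat_lit 8588) (Step.F (nat_lit 4154) (Step.D (nat_lit 7376) Step.done))) (Scr.cons (nat_lit 0) (nat_lit 1) (Step.U (nat_lit 10440) (Step.F (nat_lit 4155) (Step.D (nat_lit 8587) Step.done))) (Scr.cons (nat_lit 11) (nat_lit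 0) (Step.U (nat_lit 5502) (Step.L (Step.D (nat_lit 3080) (Step.D (nat_lit 5501) (Step.D (nat_lit 8588) Step.done))))) (Scr.cons (nat_lit 7) (nat_lit 6) (Step.U (nat_lit 4910) (Step.U (nat_lit 2685) (Step.L (Step.L (Step.L (Step.L (Step.L (Step.L (Step.L (Step.L (Step.L (Step.L (Step.L (Step.L (Step.L (Step.L (Step.L (Step.L (Step.L (Step.D (nat_lit 5502) Step.done)))))))))))))))))))) (Scr.cons (nat_lit 11) (nat_lit 0) (Step.L (Step.L (Step.L (Step.D (nat_lit 2685) (Step.D (nat_lit 4910) Step.done))))) (Scr.cons (nat_lit 14) (nat_lit 6) (Step.U (nat_lit 8587) (Step.D (nat_lit 8588) (Step.F (nat_lit 4157) (Step.F (nat_lit 4158) (Step.F (nat_lit 4159) (Step.L (Step.L (Step.L (Step.L (Step.L (Step.L (Step.L (Step.L (Step.L (Step.L (Step.L (Step.L (Step.L (Step.L (Step.D (nat_lit 11158) Step.done)))))))))))))))))))) (Scr.cons (nat_lit 4) (nat_lit 0) (Step.B (nat_lit 4160) (Step.U (nat_lit 11158) (Step.L (Step.L (Step.D (nat_lit 11159) Step.done))))) (Scr.cons (nat_lit 1) (nat_lit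 1) (Step.B (nat_lit 4057) (Step.B (nat_lit 4156) (Step.B (nat_lit 4161) Step.done))) Scr.nil))))))))))))))))))))))))))))))))))))))))
noncomputable def s104 : Scr := (Scr.cons (nat_lit 1) (nat_lit 1) (Step.D (nat_lit 11159) (Step.F (nat_lit 4162) (Step.D (nat_lit 10451) Step.done))) (Scr.cons (nat_lit 1) (nat_lit 1) (Step.D (nat_lit 10451) (Step.F (nat_lit 4163) Step.done)) (Scr.cons (nat_lit 1) (nat_lit 1) (Step.D (nat_lit 10533) (Step.F (nat_lit 3876) (Step.D (nat_lit 8933) Step.done))) (Scr.cons (nat_lit 1) (nat_lit 1) (Step.D (nat_lit 8933) (Step.F (nat_lit 4165) Step.done)) (Scr.cons (nat_lit 4) (nat_lit 0) (Step.L (Step.D (nat_lit 7481) (Step.F (nat_lit 4166) (Step.L (Step.L (Step.D (nat_lit 8934) Step.done)))))) (Scr.cons (nat_lit 1) (nat_lit 1) (Step.D (nat_lit 8934) (Step.F (nat_lit 4167) (Step.D (nat_lit 10531) Step.done))) (Scr.cons (nat_lit 1) (nat_lit 1) (Step.D (nat_lit 10531) (Step.F (nat_lit 4168) Step.done)) (Scr.cons (nat_lit 12) (nat_lit 4) (Step.L (Step.L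 (Step.L (Step.L (Step.D (nat_lit 8293) Step.done))))) (Scr.cons (nat_lit 12) (nat_lit 1) (Step.L (Step.L (Step.L (Step.L (Step.D (nat_lit 10469) Step.done))))) (Scr.cons (nat_lit 13) (nat_lit 1) (Step.L (Step.L (Step.L (Step.L (Step.L (Step.L (Step.D (nat_lit 5616) (Step.B (nat_lit 3875) (Step.F (nat_lit 4166) (Step.L (Step.L (Step.B (nat_lit 4171) Step.done)))))))))))) (Scr.cons (nat_lit 0) (nat_lit 1) (Step.B (nat_lit 4171) (Step.F (nat_lit 4172) (Step.D (nat_lit 8293) Step.done))) (Scr.cons (nat_lit 0) (nat_lit 0) (Step.B (nat_lit 4170) (Step.F (nat_lit 4173) Step.done)) (Scr.cons (nat_lit 15) (nat_lit 1) (Step.L (Step.L (Step.L (Step.L (Step.L (Step.L (Step.L (Step.L (Step.L (Step.L (Step.L (Step.B (nat_lit 1117) (Step.D (nat_lit 2155) (Step.D (nat_lit 4104) (Step.D (nat_lit 6965) Step.done))))))))))))))) (Scr.cons (nat_lit 12) (nat_lit 1) (Step.U (nat_lit 1074) (Step.F (nat_lit 2235) (Step.B (nat_lit 2234) (Step.D (nat_lit 1074) (Step.D (nat_lit 2265) Step.done)))))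 (Scr.cons (nat_lit 12) (nat_lit 1) (Step.U (nat_lit 4264) (Step.F (nat_lit 4176) (Step.D (nat_lit 2265) (Step.D (nat_lit 4264) (Step.D (nat_lit 7159) Step.done))))) (Scr.cons (nat_lit 8) (nat_lit 1) (Step.U (nat_lit 7171) (Step.U (nat_lit 4276) (Step.U (nat_lit 2278) (Step.U (nat_lit 1083) (Step.U (nat_lit 423) (Step.L (Step.L (Step.L (Step.D (nat_lit 145) (Step.B (nat_lit 2235) (Step.D (nat_lit 1074) (Step.B (nat_lit 4176) (Step.D (nat_lit 4264) (Step.B (nat_lit 4177) (Step.D (nat_lit 10256) Step.done))))))))))))))) (Scr.cons (nat_lit 1) (nat_lit 1) (Step.U (nat_lit 2278) (Step.B (nat_lit 4108) (Step.L Step.done))) (Scr.cons (nat_lit 0) (nat_lit 1) (Step.U (nat_lit 4276) (Step.B (nat_lit 4179) (Step.L Step.done))) (Scr.cons (nat_lit 1) (nat_lit 1) (Step.U (nat_lit 7171) (Step.B (nat_lit 4180) (Step.D (nat_lit 2605) Step.done))) (Scr.cons (nat_lit 0) (nat_lit 1) (Step.F (nat_lit 4178) (Step.B (nat_lit 4181) (Step.D (nat_lit 4795) Step.done))) (Scr.cons (nat_lit 1) (nat_lit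 1) (Step.D (nat_lit 10256) (Step.B (nat_lit 4182) (Step.D (nat_lit 7773) Step.done))) (Scr.cons (nat_lit 1) (nat_lit 1) (Step.D (nat_lit 7773) (Step.F (nat_lit 4183) Step.done)) (Scr.cons (nat_lit 13) (nat_lit 0) (Step.U (nat_lit 4302) (Step.L (Step.L (Step.L (Step.L (Step.L (Step.L (Step.L (Step.D (nat_lit 1821) (Step.D (nat_lit 3560) (Step.D (nat_lit 6242) Step.done))))))))))) (Scr.cons (nat_lit 12) (nat_lit 1) (Step.U (nat_lit 146) (Step.L (Step.L (Step.D (nat_lit 146) (Step.D (nat_lit 424) Step.done))))) (Scr.cons (nat_lit 6) (nat_lit 3) (Step.L (Step.L (Step.L (Step.L (Step.L (Step.L (Step.L (Step.L (Step.D (nat_lit 146) (Step.B (nat_lit 4186) (Step.D (nat_lit 1088) Step.done))))))))))) (Scr.cons (nat_lit 12) (nat_lit 1) (Step.U (nat_lit 425) (Step.D (nat_lit 424) (Step.F (nat_lit 4186) (Step.D (nat_lit 425) (Step.D (nat_lit 1089) Step.done))))) (Scr.cons (nat_lit 12) (nat_lit 1) (Step.U (nat_lit 2289) (Step.F (nat_lit 4188) (Step.D (nat_lit 1089) (Step.D (nat_lit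 2289) (Step.D (nat_lit 4293) Step.done))))) (Scr.cons (nat_lit 12) (nat_lit 1) (Step.U (nat_lit 7198) (Step.F (nat_lit 4189) (Step.D (nat_lit 4293) (Step.D (nat_lit 7198) (Step.D (nat_lit 10285) Step.done))))) (Scr.cons (nat_lit 12) (nat_lit 4) (Step.U (nat_lit 2605) (Step.L (Step.L (Step.D (nat_lit 2605) (Step.D (nat_lit 4795) Step.done))))) (Scr.cons (nat_lit 12) (nat_lit 1) (Step.U (nat_lit 7774) (Step.F (nat_lit 4191) (Step.D (nat_lit 4795) (Step.D (nat_lit 7774) (Step.D (nat_lit 10783) Step.done))))) (Scr.cons (nat_lit 12) (nat_lit 1) (Step.L (Step.L (Step.L (Step.L (Step.D (nat_lit 2606) Step.done))))) (Scr.cons (nat_lit 11) (nat_lit 0) (Step.U (nat_lit 692) (Step.L (Step.L (Step.L (Step.D (nat_lit 1628) Step.done))))) (Scr.cons (nat_lit 16) (nat_lit 4) (Step.U (nat_lit 7198) (Step.F (nat_lit 4189) (Step.U (nat_lit 2289) (Step.F (nat_lit 4188) (Step.U (nat_lit 425) (Step.U (nat_lit 146) (Step.L (Step.L (Step.L (Step.L (Step.L (Step.L (Step.L (Step.L (Step.L (Step.L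 (Step.L (Step.D (nat_lit 1628) (Step.F (nat_lit 4194) (Step.D (nat_lit 1629) (Step.D (nat_lit 3238) (Step.D (nat_lit 5742) (Step.D (nat_lit 8857) Step.done))))))))))))))))))))))) (Scr.cons (nat_lit 12) (nat_lit 4) (Step.U (nat_lit 2288) (Step.F (nat_lit 4188) (Step.D (nat_lit 1089) (Step.D (nat_lit 2288) (Step.D (nat_lit 4291) Step.done))))) (Scr.cons (nat_lit 12) (nat_lit 4) (Step.U (nat_lit 4292) (Step.D (nat_lit 4291) (Step.F (nat_lit 4196) (Step.D (nat_lit 4292) (Step.D (nat_lit 7195) Step.done))))) (Scr.cons (nat_lit 11) (nat_lit 0) (Step.U (nat_lit 425) (Step.U (nat_lit 146) (Step.L (Step.D (nat_lit 419) (Step.D (nat_lit 1076) Step.done))))) (Scr.cons (nat_lit 12) (nat_lit 4) (Step.L (Step.L (Step.L (Step.L (Step.D (nat_lit 4717) Step.done))))) (Scr.cons (nat_lit 11) (nat_lit 0) (Step.U (nat_lit 4932) (Step.L (Step.D (nat_lit 2697) (Step.D (nat_lit 4931) (Step.D (nat_lit 7936) Step.done))))) (Scr.cons (nat_lit 12) (nat_lit 1) (Step.U (nat_lit 4932) (Step.L (Step.L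 (Step.D (nat_lit 4932) (Step.D (nat_lit 7937) Step.done))))) (Scr.cons (nat_lit 12) (nat_lit 1) (Step.F (nat_lit 4200) (Step.D (nat_lit 7937) (Step.F (nat_lit 4201) (Step.B (nat_lit 4200) (Step.D (nat_lit 10920) Step.done))))) Scr.nil))))))))))))))))))))))))))))))))))))))))
noncomputable def s105 : Scr := (Scr.cons (nat_lit 12) (nat_lit 1) (Step.L (Step.L (Step.L (Step.L (Step.D (nat_lit 10644) Step.done))))) (Scr.cons (nat_lit 13) (nat_lit 0) (Step.U (nat_lit 7944) (Step.L (Step.L (Step.L (Step.L (Step.L (Step.L (Step.L (Step.D (nat_lit 4932) (Step.D (nat_lit 7937) (Step.D (nat_lit 10921) Step.done))))))))))) (Scr.cons (nat_lit 12) (nat_lit 1) (Step.L (Step.L (Step.L (Step.L (Step.D (nat_lit 4571) Step.done))))) (Scr.cons (nat_lit 11) (nat_lit 0) (Step.L (Step.L (Step.L (Step.L (Step.D (nat_lit 1624) Step.done))))) (Scr.cons (nat_lit 1) (nat_lit 1) (Step.D (nat_lit 2460) (Step.B (nat_lit 2647) (Step.L Step.done))) (Scr.cons (nat_lit 1) (nat_lit 1) (Step.D (nat_lit 1182)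 (Step.B (nat_lit 4207) (Step.D (nat_lit 1624) Step.done))) (Scr.cons (nat_lit 1) (nat_lit 1) (Step.B (nat_lit 4206) (Step.F (nat_lit 4208) (Step.D (nat_lit 1181) Step.done))) (Scr.cons (nat_lit 0) (nat_lit 1) (Step.U (nat_lit 2457) (Step.F (nat_lit 4209) (Step.D (nat_lit 2426) Step.done))) (Scr.cons (nat_lit 1) (nat_lit 1) (Step.F (nat_lit 2632) (Step.B (nat_lit 4210) (Step.D (nat_lit 4521) Step.done))) (Scr.cons (nat_lit 1) (nat_lit 1) (Step.D (nat_lit 4521) (Step.F (nat_lit 4211) Step.done)) (Scr.cons (nat_lit 12) (nat_lit 4) (Step.U (nat_lit 4842) (Step.L (Step.L (Step.D (nat_lit 4842) (Step.D (nat_lit 7833) Step.done))))) (Scr.cons (nat_lit 12) (nat_lit 4) (Step.U (nat_lit 7834) (Step.D (nat_lit 7833) (Step.F (nat_lit 4213) (Step.D (nat_lit 7834) (Step.D (nat_lit 10831) Step.done))))) (Scr.cons (nat_lit 1) (nat_lit 1) (Step.D (nat_lit 5983) (Step.F (nat_lit 3861) Step.done)) (Scr.cons (nat_lit 11) (nat_lit 0) (Step.U (nat_lit 5979) (Step.U (nat_lit 3379) (Step.D (nat_lit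 3378) (Step.D (nat_lit 5978) (Step.D (nat_lit 9139) Step.done))))) (Scr.cons (nat_lit 7) (nat_lit 3) (Step.U (nat_lit 7424) (Step.U (nat_lit 4489) (Step.L (Step.D (nat_lit 2413) (Step.F (nat_lit 4215) (Step.U (nat_lit 3382) (Step.L (Step.L (Step.L (Step.L (Step.L (Step.L (Step.L (Step.L (Step.L (Step.L (Step.L (Step.D (nat_lit 1705) (Step.D (nat_lit 3379) (Step.D (nat_lit 5979) (Step.B (nat_lit 4216) Step.done))))))))))))))))))))) (Scr.cons (nat_lit 1) (nat_lit 0) (Step.D (nat_lit 9139) (Step.F (nat_lit 4217) (Step.B (nat_lit 2606) Step.done))) (Scr.cons (nat_lit 1) (nat_lit 0) (Step.D (nat_lit 7438) (Step.F (nat_lit 4218) (Step.U (nat_lit 5978) Step.done))) (Scr.cons (nat_lit 0) (nat_lit 1) (Step.B (nat_lit 2605) (Step.B (nat_lit 4219) (Step.D (nat_lit 5977) Step.done))) (Scr.cons (nat_lit 0) (nat_lit 1) (Step.D (nat_lit 5977) (Step.F (nat_lit 4220) Step.done)) (Scr.cons (nat_lit 8) (nat_lit 0) (Step.U (nat_lit 10492) (Step.U (nat_lit 7439) (Step.U (nat_lit 4503) (Step.U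 (nat_lit 2419) (Step.B (nat_lit 2602) (Step.F (nat_lit 4221) (Step.U (nat_lit 3378) (Step.U (nat_lit 1705) (Step.L (Step.L (Step.L (Step.B (nat_lit 3781) (Step.B (nat_lit 3775) (Step.B (nat_lit 3782) (Step.U (nat_lit 10832) (Step.B (nat_lit 4214) Step.done)))))))))))))))) (Scr.cons (nat_lit 0) (nat_lit 0) (Step.B (nat_lit 4214) (Step.F (nat_lit 4222) Step.done)) (Scr.cons (nat_lit 6) (nat_lit 3) (Step.U (nat_lit 10833) (Step.L (Step.L (Step.L (Step.L (Step.L (Step.L (Step.L (Step.L (Step.L (Step.D (nat_lit 10385) Step.done))))))))))) (Scr.cons (nat_lit 0) (nat_lit 1) (Step.F (nat_lit 4224) (Step.B (nat_lit 3783) Step.done)) (Scr.cons (nat_lit 12) (nat_lit 3) (Step.B (nat_lit 4225) (Step.L (Step.L (Step.L (Step.L Step.done))))) (Scr.cons (nat_lit 16) (nat_lit 3) (Step.U (nat_lit 10576) (Step.U (nat_lit 7529) (Step.F (nat_lit 4205) (Step.L (Step.L (Step.L (Step.L (Step.L (Step.L (Step.L (Step.D (nat_lit 2426) (Step.B (nat_lit 4212) (Step.U (nat_lit 4504) (Step.D (nat_lit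 4503) (Step.D (nat_lit 7439) (Step.D (nat_lit 10492) (Step.F (nat_lit 4223) (Step.D (nat_lit 10832) (Step.F (nat_lit 3774) (Step.U (nat_lit 7835) (Step.L (Step.L (Step.F (nat_lit 4226) Step.done))))))))))))))))))))))) (Scr.cons (nat_lit 11) (nat_lit 0) (Step.D (nat_lit 10385) (Step.F (nat_lit 4227) (Step.U (nat_lit 10576) (Step.U (nat_lit 7529) (Step.D (nat_lit 7528) (Step.D (nat_lit 10575) Step.done)))))) (Scr.cons (nat_lit 1) (nat_lit 0) (Step.D (nat_lit 10575) (Step.F (nat_lit 4228) (Step.D (nat_lit 10386) Step.done))) (Scr.cons (nat_lit 1) (nat_lit 0) (Step.D (nat_lit 10386) (Step.F (nat_lit 4229) Step.done)) (Scr.cons (nat_lit 14) (nat_lit 3) (Step.L (Step.L (Step.L (Step.L (Step.L (Step.L (Step.L (Step.L (Step.L (Step.L (Step.L (Step.B (nat_lit 4205) (Step.D (nat_lit 7528) (Step.F (nat_lit 4230) (Step.L (Step.L (Step.L (Step.L (Step.L (Step.D (nat_lit 7944) (Step.D (nat_lit 10929) Step.done))))))))))))))))))))) (Scr.cons (nat_lit 1) (nat_lit 0) (Step.D (nat_lit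 10929) (Step.F (nat_lit 4231) (Step.L Step.done))) (Scr.cons (nat_lit 0) (nat_lit 1) (Step.F (nat_lit 4204) (Step.B (nat_lit 4232) (Step.D (nat_lit 10644) Step.done))) (Scr.cons (nat_lit 1) (nat_lit 1) (Step.D (nat_lit 10921) (Step.B (nat_lit 4233) Step.done)) (Scr.cons (nat_lit 8) (nat_lit 0) (Step.U (nat_lit 2589) (Step.L (Step.L (Step.L (Step.L (Step.L (Step.L (Step.L (Step.L (Step.L (Step.L (Step.B (nat_lit 4203) (Step.F (nat_lit 4234) (Step.U (nat_lit 7937) (Step.B (nat_lit 4200) (Step.B (nat_lit 4202) Step.done)))))))))))))))) (Scr.cons (nat_lit 0) (nat_lit 1) (Step.B (nat_lit 4202) (Step.F (nat_lit 4235) (Step.D (nat_lit 4758) Step.done))) (Scr.cons (nat_lit 1) (nat_lit 0) (Step.D (nat_lit 7936) (Step.B (nat_lit 4236) (Step.D (nat_lit 7734) Step.done))) (Scr.cons (nat_lit 1) (nat_lit 0) (Step.D (nat_lit 7734) (Step.F (nat_lit 4237) Step.done)) (Scr.cons (nat_lit 12) (nat_lit 4) (Step.U (nat_lit 2589) (Step.L (Step.L (Step.D (nat_lit 2589) (Step.D (nat_lit 4758)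 Step.done))))) (Scr.cons (nat_lit 12) (nat_lit 1) (Step.U (nat_lit 4759) (Step.L (Step.L (Step.D (nat_lit 4759) (Step.D (nat_lit 7735) Step.done))))) (Scr.cons (nat_lit 16) (nat_lit 5) (Step.F (nat_lit 4240) (Step.U (nat_lit 4759) (Step.L (Step.L (Step.L (Step.L (Step.L (Step.L (Step.L (Step.L (Step.L (Step.L (Step.L (Step.L (Step.L (Step.L (Step.L (Step.L (Step.L (Step.L (Step.D (nat_lit 4717) (Step.D (nat_lit 7692) (Step.D (nat_lit 10714) Step.done))))))))))))))))))))))) (Scr.cons (nat_lit 4) (nat_lit 0) (Step.B (nat_lit 4241) (Step.U (nat_lit 10714) (Step.U (nat_lit 7692) (Step.D (nat_lit 7693) (Step.D (nat_lit 10715) Step.done))))) Scr.nil))))))))))))))))))))))))))))))))))))))))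
noncomputable def s106 : Scr := (Scr.cons (nat_lit 6) (nat_lit 3) (Step.U (nat_lit 10918) (Step.U (nat_lit 7935) (Step.F (nat_lit 4238) (Step.F (nat_lit 4239) (Step.U (nat_lit 2589) (Step.L (Step.L (Step.L (Step.D (nat_lit 4759) (Step.B (nat_lit 4240) (Step.B (nat_lit 4242) Step.done))))))))))) (Scr.cons (nat_lit 7) (nat_lit 2) (Step.U (nat_lit 10282) (Step.U (nat_lit 7195) (Step.U (nat_lit 4292) (Step.U (nat_lit 2288) (Step.F (nat_lit 4188) (Step.B (nat_lit 4198) (Step.U (nat_lit 1076) (Step.U (nat_lit 419) (Step.L (Step.L (Step.L (Step.L (Step.L (Step.L (Step.L (Step.B (nat_lit 4199) (Step.D (nat_lit 7693) (Step.D (nat_lit 10715) (Step.F (nat_lit 4243) (Step.U (nat_lit 10918) (Step.D (nat_lit 10919) Step.done))))))))))))))))))))) (Scr.cons (nat_lit 1) (nat_lit 0) (Step.D (nat_lit 10919) (Step.F (nat_lit 4244) Step.done)) (Scr.cons (nat_lit 12) (nat_lit 4) (Step.U (nat_lit 2697) (Step.L (Step.L (Step.D (nat_lit 2697) (Step.D (nat_lit 4930) Step.done))))) (Scr.cons (nat_lit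 12) (nat_lit 4) (Step.U (nat_lit 4931) (Step.D (nat_lit 4930) (Step.F (nat_lit 4246) (Step.D (nat_lit 4931) (Step.D (nat_lit 7935) Step.done))))) (Scr.cons (nat_lit 1) (nat_lit 1) (Step.B (nat_lit 4200) (Step.B (nat_lit 4236) (Step.D (nat_lit 7733) Step.done))) (Scr.cons (nat_lit 1) (nat_lit 1) (Step.D (nat_lit 7733) (Step.F (nat_lit 4248) Step.done)) (Scr.cons (nat_lit 12) (nat_lit 4) (Step.U (nat_lit 4796) (Step.F (nat_lit 4193) (Step.D (nat_lit 2606) (Step.D (nat_lit 4796) (Step.D (nat_lit 7775) Step.done))))) (Scr.cons (nat_lit 12) (nat_lit 4) (Step.U (nat_lit 7776) (Step.D (nat_lit 7775) (Step.F (nat_lit 4250) (Step.D (nat_lit 7776) (Step.D (nat_lit 10785) Step.done))))) (Scr.cons (nat_lit 12) (nat_lit 1) (Step.L (Step.L (Step.L (Step.L (Step.D (nat_lit 4933) Step.done))))) (Scr.cons (nat_lit 12) (nat_lit 1) (Step.L (Step.D (nat_lit 4933) (Step.F (nat_lit 4252) (Step.L (Step.D (nat_lit 7941) Step.done))))) (Scr.cons (nat_lit 12) (nat_lit 4) (Step.U (nat_lit 423)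 (Step.L (Step.L (Step.D (nat_lit 423) (Step.D (nat_lit 1083) Step.done))))) (Scr.cons (nat_lit 12) (nat_lit 4) (Step.U (nat_lit 2278) (Step.F (nat_lit 4254) (Step.D (nat_lit 1083) (Step.D (nat_lit 2278) (Step.D (nat_lit 4276) Step.done))))) (Scr.cons (nat_lit 12) (nat_lit 4) (Step.U (nat_lit 4277) (Step.D (nat_lit 4276) (Step.F (nat_lit 4255) (Step.D (nat_lit 4277) (Step.D (nat_lit 7172) Step.done))))) (Scr.cons (nat_lit 14) (nat_lit 2) (Step.F (nat_lit 4253) (Step.L (Step.L (Step.L (Step.L (Step.L (Step.L (Step.D (nat_lit 2698) (Step.F (nat_lit 2723) (Step.B (nat_lit 2729) (Step.U (nat_lit 7560) (Step.U (nat_lit 4599) (Step.F (nat_lit 2724) (Step.U (nat_lit 1200) (Step.D (nat_lit 1199) (Step.F (nat_lit 4106) (Step.D (nat_lit 2278) (Step.D (nat_lit 4277) (Step.B (nat_lit 4256) (Step.D (nat_lit 10269) Step.done)))))))))))))))))))) (Scr.cons (nat_lit 1) (nat_lit 1) (Step.U (nat_lit 4277) (Step.B (nat_lit 4179) (Step.L Step.done))) (Scr.cons (nat_lit 0) (nat_lit 1) (Step.U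 (nat_lit 7172) (Step.B (nat_lit 4258) (Step.D (nat_lit 2606) Step.done))) (Scr.cons (nat_lit 1) (nat_lit 1) (Step.U (nat_lit 10269) (Step.B (nat_lit 4259) (Step.D (nat_lit 4796) Step.done))) (Scr.cons (nat_lit 1) (nat_lit 1) (Step.B (nat_lit 4257) (Step.B (nat_lit 4260) (Step.D (nat_lit 7776) Step.done))) (Scr.cons (nat_lit 0) (nat_lit 1) (Step.B (nat_lit 4253) (Step.B (nat_lit 4261) (Step.D (nat_lit 10785) Step.done))) (Scr.cons (nat_lit 0) (nat_lit 0) (Step.B (nat_lit 4251) (Step.F (nat_lit 4262) Step.done)) (Scr.cons (nat_lit 11) (nat_lit 0) (Step.U (nat_lit 7778) (Step.U (nat_lit 4797) (Step.D (nat_lit 4796) (Step.D (nat_lit 7776) (Step.D (nat_lit 10786) Step.done))))) (Scr.cons (nat_lit 12) (nat_lit 1) (Step.U (nat_lit 4797) (Step.F (nat_lit 4193) (Step.D (nat_lit 2606) (Step.D (nat_lit 4797) (Step.D (nat_lit 7777) Step.done))))) (Scr.cons (nat_lit 14) (nat_lit 2) (Step.U (nat_lit 7198) (Step.F (nat_lit 4189) (Step.U (nat_lit 2289) (Step.D (nat_lit 2288) (Step.D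 (nat_lit 4292) (Step.B (nat_lit 4197) (Step.D (nat_lit 10282) (Step.F (nat_lit 4245) (Step.F (nat_lit 4247) (Step.F (nat_lit 4238) (Step.B (nat_lit 4249) (Step.U (nat_lit 4932) (Step.L (Step.L (Step.L (Step.F (nat_lit 4263) (Step.D (nat_lit 10786) (Step.F (nat_lit 4264) (Step.U (nat_lit 7778) (Step.B (nat_lit 4265) (Step.D (nat_lit 10787) Step.done))))))))))))))))))))) (Scr.cons (nat_lit 1) (nat_lit 0) (Step.D (nat_lit 10787) (Step.F (nat_lit 4266) (Step.B (nat_lit 4195) Step.done))) (Scr.cons (nat_lit 1) (nat_lit 0) (Step.B (nat_lit 4195) (Step.F (nat_lit 4267) Step.done)) (Scr.cons (nat_lit 13) (nat_lit 1) (Step.F (nat_lit 4192) (Step.U (nat_lit 7774) (Step.U (nat_lit 4795) (Step.U (nat_lit 2605) (Step.L (Step.L (Step.B (nat_lit 4193) (Step.D (nat_lit 4797) (Step.D (nat_lit 7777) (Step.F (nat_lit 4268) (Step.B (nat_lit 4190) Step.done))))))))))) (Scr.cons (nat_lit 8) (nat_lit 1) (Step.F (nat_lit 4185) (Step.U (nat_lit 4302) (Step.L (Step.L (Step.B (nat_lit 4187) (Step.U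 (nat_lit 1088) (Step.U (nat_lit 424) (Step.D (nat_lit 425) (Step.B (nat_lit 4188) (Step.D (nat_lit 2289) (Step.B (nat_lit 4189) (Step.D (nat_lit 7198) (Step.B (nat_lit 4190) (Step.F (nat_lit 4269) (Step.U (nat_lit 10783) (Step.D (nat_lit 10784) Step.done)))))))))))))))) (Scr.cons (nat_lit 1) (nat_lit 1) (Step.D (nat_lit 10784) (Step.F (nat_lit 4270) (Step.D (nat_lit 9419) Step.done))) (Scr.cons (nat_lit 1) (nat_lit 1) (Step.D (nat_lit 9419) (Step.F (nat_lit 4271) Step.done)) (Scr.cons (nat_lit 9) (nat_lit 2) (Step.U (nat_lit 7156) (Step.L (Step.L (Step.L (Step.L (Step.D (nat_lit 418) (Step.D (nat_lit 1074) (Step.B (nat_lit 4176) (Step.D (nat_lit 4264) (Step.B (nat_lit 4177) (Step.F (nat_lit 4184) (Step.D (nat_lit 7774) (Step.F (nat_lit 4272) (Step.F (nat_lit 4185) (Step.U (nat_lit 4302) (Step.L (Step.L (Step.L (Step.L (Step.L (Step.L (Step.L (Step.B (nat_lit 4175) (Step.D (nat_lit 10097) Step.done)))))))))))))))))))))))) (Scr.cons (nat_lit 1) (nat_lit 1) (Step.D (nat_lit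 10097) (Step.F (nat_lit 4273) (Step.D (nat_lit 10253) Step.done))) (Scr.cons (nat_lit 1) (nat_lit 1) (Step.D (nat_lit 10253) (Step.F (nat_lit 4274) Step.done)) (Scr.cons (nat_lit 4) (nat_lit 0) (Step.L (Step.B (nat_lit 4175) (Step.F (nat_lit 4275) (Step.U (nat_lit 7156) (Step.L (Step.D (nat_lit 10254) Step.done)))))) (Scr.cons (nat_lit 1) (nat_lit 1) (Step.D (nat_lit 10254) (Step.F (nat_lit 4276) (Step.D (nat_lit 10298) Step.done))) (Scr.cons (nat_lit 1) (nat_lit 1) (Step.D (nat_lit 10298) (Step.F (nat_lit 4277) Step.done)) (Scr.cons (nat_lit 12) (nat_lit 1) (Step.L (Step.L (Step.L (Step.L (Step.D (nat_lit 8553) Step.done))))) (Scr.cons (nat_lit 12) (nat_lit 1) (Step.L (Step.L (Step.L (Step.L (Step.D (nat_lit 7398) Step.done))))) (Scr.cons (nat_lit 12) (nat_lit 1) (Step.L (Step.D (nat_lit 7398) (Step.F (nat_lit 4280) (Step.L (Step.D (nat_lit 10461) Step.done))))) (Scr.cons (nat_lit 4) (nat_lit 0) (Step.L (Step.L (Step.L (Step.D (nat_lit 10485) (Step.F (nat_lit 3854) Step.done)))))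 Scr.nil))))))))))))))))))))))))))))))))))))))))
noncomputable def s107 : Scr := (Scr.cons (nat_lit 4) (nat_lit 0) (Step.B (nat_lit 3847) (Step.U (nat_lit 4493) (Step.U (nat_lit 2414) (Step.L (Step.D (nat_lit 4494) Step.done))))) (Scr.cons (nat_lit 7) (nat_lit 0) (Step.L (Step.L (Step.L (Step.L (Step.L (Step.L (Step.D (nat_lit 10560) (Step.F (nat_lit 4282) (Step.L (Step.L (Step.L (Step.D (nat_lit 4494) (Step.F (nat_lit 4283) (Step.F (nat_lit 3848) (Step.B (nat_lit 635) (Step.B (nat_lit 636) (Step.L (Step.L (Step.L (Step.L (Step.D (nat_lit 10461) Step.done))))))))))))))))))))) (Scr.cons (nat_lit 0) (nat_lit 1) (Step.B (nat_lit 4281) (Step.F (nat_lit 4284) (Step.D (nat_lit 8553) Step.done))) (Scr.cons (nat_lit 0) (nat_lit 0) (Step.B (nat_lit 4279) (Step.F (nat_lit 4285) Step.done)) (Scr.cons (nat_lit 12) (nat_lit 4) (Step.L (Step.L (Step.L (Step.L (Step.D (nat_lit 5485) Step.done))))) (Scr.cons (nat_lit 1) (nat_lit 1) (Step.D (nat_lit 1704) (Step.B (nat_lit 2540) (Step.D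 (nat_lit 674) Step.done))) (Scr.cons (nat_lit 1) (nat_lit 1) (Step.D (nat_lit 741) (Step.B (nat_lit 4288) (Step.D (nat_lit 1592) Step.done))) (Scr.cons (nat_lit 1) (nat_lit 1) (Step.D (nat_lit 1592) (Step.F (nat_lit 4289) Step.done)) (Scr.cons (nat_lit 11) (nat_lit 0) (Step.U (nat_lit 4448) (Step.U (nat_lit 2395) (Step.D (nat_lit 2394) (Step.D (nat_lit 4446) (Step.D (nat_lit 7369) Step.done))))) (Scr.cons (nat_lit 12) (nat_lit 1) (Step.U (nat_lit 2395) (Step.F (nat_lit 140) (Step.D (nat_lit 1152) (Step.D (nat_lit 2395) (Step.D (nat_lit 4447) Step.done))))) (Scr.cons (nat_lit 12) (nat_lit 1) (Step.U (nat_lit 4448) (Step.D (nat_lit 4447) (Step.F (nat_lit 4292) (Step.D (nat_lit 4448) (Step.D (nat_lit 7371) Step.done))))) (Scr.cons (nat_lit 12) (nat_lit 1) (Step.F (nat_lit 4291) (Step.D (nat_lit 7371) (Step.F (nat_lit 4293) (Step.B (nat_lit 4291) (Step.D (nat_lit 10436) Step.done))))) (Scr.cons (nat_lit 11) (nat_lit 0) (Step.U (nat_lit 5402) (Step.L (Step.D (nat_lit 3001)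 (Step.D (nat_lit 5401) (Step.D (nat_lit 8472) Step.done))))) (Scr.cons (nat_lit 16) (nat_lit 0) (Step.F (nat_lit 4292) (Step.U (nat_lit 2395) (Step.F (nat_lit 140) (Step.L (Step.L (Step.L (Step.L (Step.L (Step.D (nat_lit 153) (Step.D (nat_lit 448) (Step.D (nat_lit 1143) (Step.D (nat_lit 2382) (Step.D (nat_lit 4433) (Step.D (nat_lit 7357) (Step.D (nat_lit 10422) (Step.F (nat_lit 2703) (Step.U (nat_lit 8471) (Step.L (Step.L (Step.L (Step.L (Step.D (nat_lit 3001) (Step.D (nat_lit 5401) (Step.D (nat_lit 8472) Step.done)))))))))))))))))))))))) (Scr.cons (nat_lit 1) (nat_lit 1) (Step.B (nat_lit 4295) (Step.F (nat_lit 4296) (Step.D (nat_lit 7370) Step.done))) (Scr.cons (nat_lit 1) (nat_lit 1) (Step.D (nat_lit 7370) (Step.F (nat_lit 4297) Step.done)) (Scr.cons (nat_lit 7) (nat_lit 0) (Step.U (nat_lit 8475) (Step.U (nat_lit 5404) (Step.U (nat_lit 3002) (Step.U (nat_lit 1483) (Step.L (Step.L (Step.L (Step.L (Step.L (Step.L (Step.L (Step.L (Step.L (Step.L (Step.D (nat_lit 5402)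 (Step.F (nat_lit 4298) (Step.U (nat_lit 4447) (Step.D (nat_lit 4448) (Step.B (nat_lit 4291) (Step.D (nat_lit 10436) Step.done)))))))))))))))))))) (Scr.cons (nat_lit 4) (nat_lit 0) (Step.F (nat_lit 4299) (Step.U (nat_lit 8475) (Step.U (nat_lit 5404) (Step.D (nat_lit 5405) (Step.D (nat_lit 8476) Step.done))))) (Scr.cons (nat_lit 12) (nat_lit 4) (Step.L (Step.L (Step.L (Step.L (Step.D (nat_lit 7396) Step.done))))) (Scr.cons (nat_lit 12) (nat_lit 4) (Step.U (nat_lit 7397) (Step.D (nat_lit 7396) (Step.F (nat_lit 4301) (Step.D (nat_lit 7397) (Step.D (nat_lit 10459) Step.done))))) (Scr.cons (nat_lit 16) (nat_lit 0) (Step.B (nat_lit 4299) (Step.F (nat_lit 4294) (Step.F (nat_lit 4291) (Step.U (nat_lit 4448) (Step.U (nat_lit 2395) (Step.F (nat_lit 140) (Step.L (Step.L (Step.L (Step.L (Step.L (Step.L (Step.L (Step.L (Step.L (Step.L (Step.L (Step.L (Step.L (Step.L (Step.L (Step.D (nat_lit 7397) (Step.D (nat_lit 10460) Step.done))))))))))))))))))))))) (Scr.cons (nat_lit 12) (nat_lit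 4) (Step.U (nat_lit 10460) (Step.D (nat_lit 10459) (Step.F (nat_lit 4302) (Step.D (nat_lit 10460) (Step.F (nat_lit 4303) Step.done))))) (Scr.cons (nat_lit 11) (nat_lit 0) (Step.L (Step.L (Step.L (Step.D (nat_lit 7397) (Step.D (nat_lit 10460) Step.done))))) (Scr.cons (nat_lit 16) (nat_lit 5) (Step.D (nat_lit 8475) (Step.F (nat_lit 4304) (Step.F (nat_lit 4305) (Step.L (Step.L (Step.L (Step.L (Step.L (Step.L (Step.L (Step.L (Step.L (Step.L (Step.L (Step.L (Step.L (Step.L (Step.L (Step.L (Step.L (Step.L (Step.D (nat_lit 4656) (Step.D (nat_lit 7615) (Step.D (nat_lit 10641) Step.done)))))))))))))))))))))))) (Scr.cons (nat_lit 1) (nat_lit 0) (Step.D (nat_lit 10641) (Step.F (nat_lit 4306) (Step.U (nat_lit 5404) Step.done))) (Scr.cons (nat_lit 1) (nat_lit 0) (Step.D (nat_lit 7615) (Step.B (nat_lit 4307) (Step.D (nat_lit 5405) Step.done))) (Scr.cons (nat_lit 1) (nat_lit 0) (Step.U (nat_lit 8476) (Step.F (nat_lit 4308) (Step.D (nat_lit 7616) Step.done))) (Scr.cons (nat_lit 1) (nat_lit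 0) (Step.B (nat_lit 4300) (Step.B (nat_lit 4309) (Step.D (nat_lit 10642) Step.done))) (Scr.cons (nat_lit 1) (nat_lit 0) (Step.D (nat_lit 10642) (Step.F (nat_lit 4310) Step.done)) (Scr.cons (nat_lit 12) (nat_lit 4) (Step.L (Step.L (Step.L (Step.L (Step.D (nat_lit 4656) Step.done))))) (Scr.cons (nat_lit 14) (nat_lit 2) (Step.L (Step.L (Step.D (nat_lit 674) (Step.B (nat_lit 4290) (Step.L (Step.L (Step.L (Step.L (Step.D (nat_lit 1152) (Step.D (nat_lit 2394) (Step.D (nat_lit 4446) (Step.D (nat_lit 7369) (Step.B (nat_lit 4294) (Step.F (nat_lit 4311) (Step.U (nat_lit 7616) (Step.F (nat_lit 4312) (Step.L (Step.L (Step.L (Step.B (nat_lit 1544) (Step.D (nat_lit 10643) Step.done))))))))))))))))))))) (Scr.cons (nat_lit 1) (nat_lit 0) (Step.D (nat_lit 10643) (Step.F (nat_lit 4313) (Step.L Step.done))) (Scr.cons (nat_lit 0) (nat_lit 1) (Step.B (nat_lit 1544) (Step.B (nat_lit 4314) (Step.D (nat_lit 5485) Step.done))) (Scr.cons (nat_lit 0) (nat_lit 0) (Step.B (nat_lit 4287) (Step.F (nat_lit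 4315) Step.done)) (Scr.cons (nat_lit 12) (nat_lit 1) (Step.L (Step.L (Step.L (Step.L (Step.D (nat_lit 11082) Step.done))))) (Scr.cons (nat_lit 7) (nat_lit 0) (Step.L (Step.L (Step.L (Step.L (Step.L (Step.L (Step.L (Step.L (Step.L (Step.L (Step.L (Step.L (Step.L (Step.L (Step.L (Step.L (Step.L (Step.D (nat_lit 3275) (Step.D (nat_lit 5808) (Step.D (nat_lit 8937) Step.done)))))))))))))))))))) (Scr.cons (nat_lit 11) (nat_lit 0) (Step.U (nat_lit 1484) (Step.U (nat_lit 620) (Step.L (Step.D (nat_lit 1483) (Step.D (nat_lit 3003) Step.done))))) (Scr.cons (nat_lit 6) (nat_lit 1) (Step.U (nat_lit 620) (Step.L (Step.L (Step.L (Step.L (Step.L (Step.L (Step.L (Step.L (Step.L (Step.D (nat_lit 1202) Step.done))))))))))) (Scr.cons (nat_lit 13) (nat_lit 2) (Step.U (nat_lit 620) (Step.L (Step.L (Step.L (Step.L (Step.L (Step.L (Step.L (Step.L (Step.L (Step.D (nat_lit 1202) Step.done))))))))))) (Scr.cons (nat_lit 12) (nat_lit 1) (Step.U (nat_lit 1484) (Step.B (nat_lit 4320) (Step.F (nat_lit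 4321) (Step.D (nat_lit 1484) (Step.D (nat_lit 3004) Step.done))))) Scr.nil))))))))))))))))))))))))))))))))))))))))
noncomputable def s108 : Scr := (Scr.cons (nat_lit 12) (nat_lit 1) (Step.F (nat_lit 4319) (Step.D (nat_lit 3004) (Step.F (nat_lit 4322) (Step.B (nat_lit 4319) (Step.D (nat_lit 5406) Step.done))))) (Scr.cons (nat_lit 14) (nat_lit 2) (Step.F (nat_lit 4323) (Step.F (nat_lit 4319) (Step.U (nat_lit 1484) (Step.U (nat_lit 620) (Step.L (Step.L (Step.L (Step.L (Step.L (Step.L (Step.L (Step.L (Step.L (Step.L (Step.L (Step.L (Step.L (Step.L (Step.L (Step.D (nat_lit 3274) Step.done)))))))))))))))))))) (Scr.cons (nat_lit 11) (nat_lit 0) (Step.U (nat_lit 5808) (Step.U (nat_lit 3275) (Step.D (nat_lit 3274) (Step.F (nat_lit 4324) (Step.D (nat_lit 8477) Step.done))))) (Scr.cons (nat_lit 12) (nat_lit 1) (Step.F (nat_lit 2630) (Step.L (Step.L (Step.B (nat_lit 2630) (Step.D (nat_lit 7521) Step.done))))) (Scr.cons (nat_lit 1) (nat_lit 0) (Step.D (nat_lit 5405) (Step.F (nat_lit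 4308) Step.done)) (Scr.cons (nat_lit 12) (nat_lit 4) (Step.U (nat_lit 1483) (Step.L (Step.L (Step.D (nat_lit 1483) (Step.D (nat_lit 3002) Step.done))))) (Scr.cons (nat_lit 15) (nat_lit 0) (Step.F (nat_lit 4326) (Step.F (nat_lit 2630) (Step.L (Step.L (Step.L (Step.L (Step.L (Step.L (Step.L (Step.L (Step.D (nat_lit 4656) (Step.F (nat_lit 4327) (Step.F (nat_lit 4328) (Step.D (nat_lit 3003) (Step.D (nat_lit 5406) (Step.D (nat_lit 8477) Step.done)))))))))))))))) (Scr.cons (nat_lit 1) (nat_lit 1) (Step.B (nat_lit 4325) (Step.F (nat_lit 4329) (Step.D (nat_lit 10570) Step.done))) (Scr.cons (nat_lit 1) (nat_lit 1) (Step.D (nat_lit 10570) (Step.F (nat_lit 4330) Step.done)) (Scr.cons (nat_lit 13) (nat_lit 3) (Step.B (nat_lit 4318) (Step.U (nat_lit 8937) (Step.F (nat_lit 4331) (Step.F (nat_lit 4326) (Step.F (nat_lit 2630) (Step.L (Step.L (Step.L (Step.L (Step.L (Step.L (Step.D (nat_lit 11082) Step.done)))))))))))) (Scr.cons (nat_lit 0) (nat_lit 0) (Step.B (nat_lit 4317) (Step.F (nat_lit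 4332) Step.done)) (Scr.cons (nat_lit 11) (nat_lit 0) (Step.U (nat_lit 657) (Step.U (nat_lit 236) (Step.D (nat_lit 235) (Step.D (nat_lit 655) (Step.D (nat_lit 1554) Step.done))))) (Scr.cons (nat_lit 12) (nat_lit 4) (Step.U (nat_lit 0) (Step.L (Step.L (Step.D (nat_lit 0) (Step.D (nat_lit 10) Step.done))))) (Scr.cons (nat_lit 12) (nat_lit 4) (Step.U (nat_lit 11) (Step.D (nat_lit 10) (Step.F (nat_lit 4335) (Step.D (nat_lit 11) (Step.D (nat_lit 64) Step.done))))) (Scr.cons (nat_lit 12) (nat_lit 1) (Step.U (nat_lit 236) (Step.F (nat_lit 4336) (Step.D (nat_lit 64) (Step.D (nat_lit 236) (Step.D (nat_lit 656) Step.done))))) (Scr.cons (nat_lit 12) (nat_lit 1) (Step.U (nat_lit 657) (Step.D (nat_lit 656) (Step.F (nat_lit 4337) (Step.D (nat_lit 657) (Step.D (nat_lit 1555) Step.done))))) (Scr.cons (nat_lit 12) (nat_lit 1) (Step.F (nat_lit 4334) (Step.D (nat_lit 1555) (Step.F (nat_lit 4338) (Step.B (nat_lit 4334) (Step.D (nat_lit 3096) Step.done))))) (Scr.cons (nat_lit 7) (nat_lit 5)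 (Step.F (nat_lit 4339) (Step.U (nat_lit 1554) (Step.U (nat_lit 655) (Step.U (nat_lit 235) (Step.U (nat_lit 64) (Step.U (nat_lit 11) (Step.U (nat_lit 0) (Step.L (Step.L (Step.L (Step.L (Step.L (Step.L (Step.L (Step.L (Step.L (Step.L (Step.L (Step.L (Step.D (nat_lit 3112) Step.done)))))))))))))))))))) (Scr.cons (nat_lit 11) (nat_lit 0) (Step.U (nat_lit 5523) (Step.U (nat_lit 3098) (Step.D (nat_lit 3097) (Step.D (nat_lit 5522) (Step.D (nat_lit 8616) Step.done))))) (Scr.cons (nat_lit 12) (nat_lit 4) (Step.U (nat_lit 1556) (Step.F (nat_lit 3708) (Step.D (nat_lit 658) (Step.D (nat_lit 1556) (Step.D (nat_lit 3099) Step.done))))) (Scr.cons (nat_lit 0) (nat_lit 1) (Step.B (nat_lit 3667) (Step.B (nat_lit 3711) (Step.F (nat_lit 4342) Step.done))) (Scr.cons (nat_lit 1) (nat_lit 1) (Step.D (nat_lit 3615) (Step.B (nat_lit 4343) (Step.D (nat_lit 3100) Step.done))) (Scr.cons (nat_lit 1) (nat_lit 1) (Step.D (nat_lit 3100) (Step.F (nat_lit 4344) Step.done)) (Scr.cons (nat_lit 11) (nat_lit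 0) (Step.L (Step.L (Step.D (nat_lit 0) (Step.D (nat_lit 11) (Step.D (nat_lit 65) Step.done))))) (Scr.cons (nat_lit 7) (nat_lit 3) (Step.L (Step.D (nat_lit 99) (Step.D (nat_lit 315) (Step.D (nat_lit 851) (Step.D (nat_lit 1859) (Step.F (nat_lit 4345) (Step.U (nat_lit 1556) (Step.U (nat_lit 658) (Step.U (nat_lit 237) (Step.L (Step.L (Step.L (Step.B (nat_lit 4346) (Step.U (nat_lit 65) (Step.B (nat_lit 4336) (Step.D (nat_lit 236) (Step.D (nat_lit 657) (Step.D (nat_lit 1555) (Step.D (nat_lit 3098) (Step.D (nat_lit 5523) (Step.B (nat_lit 4341) Step.done))))))))))))))))))))) (Scr.cons (nat_lit 1) (nat_lit 1) (Step.B (nat_lit 4341) (Step.F (nat_lit 4347) (Step.L Step.done))) (Scr.cons (nat_lit 1) (nat_lit 1) (Step.D (nat_lit 5523) (Step.B (nat_lit 4348) (Step.L Step.done))) (Scr.cons (nat_lit 1) (nat_lit 1) (Step.D (nat_lit 3098) (Step.B (nat_lit 4349) (Step.L Step.done))) (Scr.cons (nat_lit 0) (nat_lit 1) (Step.B (nat_lit 4338) (Step.B (nat_lit 4350) (Step.L Step.done))) (Scr.cons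 (nat_lit 1) (nat_lit 0) (Step.F (nat_lit 4334) (Step.B (nat_lit 4351) (Step.L Step.done))) (Scr.cons (nat_lit 0) (nat_lit 1) (Step.U (nat_lit 3096) (Step.B (nat_lit 4352) (Step.L Step.done))) (Scr.cons (nat_lit 1) (nat_lit 1) (Step.F (nat_lit 4340) (Step.B (nat_lit 4353) (Step.L Step.done))) (Scr.cons (nat_lit 1) (nat_lit 1) (Step.D (nat_lit 3112) (Step.B (nat_lit 4354) (Step.D (nat_lit 3609) Step.done))) (Scr.cons (nat_lit 1) (nat_lit 1) (Step.D (nat_lit 3609) (Step.F (nat_lit 4355) Step.done)) (Scr.cons (nat_lit 12) (nat_lit 1) (Step.L (Step.L (Step.L (Step.L (Step.D (nat_lit 9478) Step.done))))) (Scr.cons (nat_lit 12) (nat_lit 1) (Step.L (Step.L (Step.L (Step.L (Step.D (nat_lit 6207) Step.done))))) (Scr.cons (nat_lit 12) (nat_lit 1) (Step.L (Step.D (nat_lit 6207) (Step.F (nat_lit 4358) (Step.L (Step.D (nat_lit 9383) Step.done))))) (Scr.cons (nat_lit 12) (nat_lit 1) (Step.U (nat_lit 5521) (Step.F (nat_lit 4339) (Step.D (nat_lit 3096) (Step.D (nat_lit 5521) (Step.D (nat_lit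 8615) Step.done))))) (Scr.cons (nat_lit 11) (nat_lit 0) (Step.U (nat_lit 3115) (Step.U (nat_lit 1563) (Step.D (nat_lit 1562) (Step.D (nat_lit 3113) (Step.D (nat_lit 5538) Step.done))))) (Scr.cons (nat_lit 14) (nat_lit 3) (Step.F (nat_lit 4361) (Step.U (nat_lit 3115) (Step.U (nat_lit 1563) (Step.U (nat_lit 661) (Step.L (Step.L (Step.L (Step.L (Step.L (Step.L (Step.L (Step.L (Step.L (Step.L (Step.L (Step.L (Step.L (Step.L (Step.D (nat_lit 1906) (Step.D (nat_lit 3697) Step.done)))))))))))))))))))) Scr.nil))))))))))))))))))))))))))))))))))))))))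
noncomputable def s109 : Scr := (Scr.cons (nat_lit 7) (nat_lit 0) (Step.U (nat_lit 3697) (Step.U (nat_lit 1906) (Step.L (Step.L (Step.L (Step.L (Step.L (Step.L (Step.L (Step.L (Step.L (Step.L (Step.L (Step.L (Step.D (nat_lit 144) (Step.B (nat_lit 148) (Step.B (nat_lit 151) (Step.D (nat_lit 2259) (Step.F (nat_lit 153) (Step.D (nat_lit 3702) Step.done)))))))))))))))))))) (Scr.cons (nat_lit 12) (nat_lit 4) (Step.U (nat_lit 1908) (Step.L (Step.L (Step.D (nat_lit 1908) (Step.D (nat_lit 3702) Step.done))))) (Scr.cons (nat_lit 6) (nat_lit 3) (Step.B (nat_lit 4361) (Step.B (nat_lit 4362) (Step.B (nat_lit 4363) (Step.F (nat_lit 4364) (Step.U (nat_lit 1908) (Step.L (Step.L (Step.L (Step.L (Step.L (Step.D (nat_lit 4619) Step.done))))))))))) (Scr.cons (nat_lit 12) (nat_lit 1) (Step.L (Step.L (Step.L (Step.L (Step.D (nat_lit 661) Step.done))))) (Scr.cons (nat_lit 12) (nat_lit 1) (Step.U (nat_lit 1563) (Step.F (nat_lit 4366) (Step.D (nat_lit 661) (Step.D (nat_lit 1563) (Step.D (nat_lit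 3114) Step.done))))) (Scr.cons (nat_lit 12) (nat_lit 0) (Step.F (nat_lit 4365) (Step.U (nat_lit 3115) (Step.D (nat_lit 3114) (Step.F (nat_lit 4367) (Step.D (nat_lit 3115) Step.done))))) (Scr.cons (nat_lit 12) (nat_lit 0) (Step.F (nat_lit 4362) (Step.F (nat_lit 4361) (Step.F (nat_lit 4368) (Step.F (nat_lit 4365) (Step.B (nat_lit 4361) Step.done))))) (Scr.cons (nat_lit 11) (nat_lit 0) (Step.L (Step.L (Step.L (Step.L (Step.D (nat_lit 9381) Step.done))))) (Scr.cons (nat_lit 16) (nat_lit 1) (Step.F (nat_lit 4360) (Step.U (nat_lit 5521) (Step.B (nat_lit 4340) (Step.U (nat_lit 3112) (Step.L (Step.L (Step.D (nat_lit 661) (Step.D (nat_lit 1562) (Step.D (nat_lit 3113) (Step.D (nat_lit 5538) (Step.F (nat_lit 4369) (Step.B (nat_lit 4363) (Step.F (nat_lit 4364) (Step.B (nat_lit 153) (Step.U (nat_lit 2259) (Step.B (nat_lit 152) (Step.D (nat_lit 1909) (Step.D (nat_lit 3703) (Step.F (nat_lit 1182) (Step.L (Step.D (nat_lit 9381) (Step.F (nat_lit 4370) (Step.D (nat_lit 9383) Step.done)))))))))))))))))))))))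 (Scr.cons (nat_lit 1) (nat_lit 0) (Step.U (nat_lit 5521) (Step.B (nat_lit 4353) (Step.L Step.done))) (Scr.cons (nat_lit 0) (nat_lit 1) (Step.U (nat_lit 8615) (Step.B (nat_lit 4372) (Step.L Step.done))) (Scr.cons (nat_lit 1) (nat_lit 0) (Step.F (nat_lit 4371) (Step.B (nat_lit 4373) (Step.L Step.done))) (Scr.cons (nat_lit 0) (nat_lit 1) (Step.B (nat_lit 4359) (Step.B (nat_lit 4374) (Step.D (nat_lit 9478) Step.done))) (Scr.cons (nat_lit 0) (nat_lit 0) (Step.B (nat_lit 4357) (Step.F (nat_lit 4375) Step.done)) (Scr.cons (nat_lit 1) (nat_lit 1) (Step.U (nat_lit 6308) (Step.F (nat_lit 4355) (Step.L Step.done))) (Scr.cons (nat_lit 0) (nat_lit 1) (Step.B (nat_lit 1111) (Step.B (nat_lit 4377) (Step.L Step.done))) (Scr.cons (nat_lit 1) (nat_lit 0) (Step.D (nat_lit 9263) (Step.B (nat_lit 4378) (Step.D (nat_lit 8636) Step.done))) (Scr.cons (nat_lit 1) (nat_lit 0) (Step.D (nat_lit 8636) (Step.F (nat_lit 4379) Step.done)) (Scr.cons (nat_lit 12) (nat_lit 1) (Step.U (nat_lit 4079) (Step.L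 (Step.L (Step.D (nat_lit 4079) (Step.D (nat_lit 6939) Step.done))))) (Scr.cons (nat_lit 12) (nat_lit 4) (Step.L (Step.L (Step.L (Step.L (Step.D (nat_lit 9742) Step.done))))) (Scr.cons (nat_lit 12) (nat_lit 1) (Step.L (Step.L (Step.L (Step.L (Step.D (nat_lit 1371) Step.done))))) (Scr.cons (nat_lit 12) (nat_lit 1) (Step.U (nat_lit 2802) (Step.F (nat_lit 4383) (Step.D (nat_lit 1371) (Step.D (nat_lit 2802) (Step.D (nat_lit 5083) Step.done))))) (Scr.cons (nat_lit 15) (nat_lit 0) (Step.U (nat_lit 8096) (Step.F (nat_lit 4384) (Step.U (nat_lit 2802) (Step.F (nat_lit 4383) (Step.L (Step.L (Step.L (Step.L (Step.L (Step.L (Step.D (nat_lit 1368) (Step.D (nat_lit 2793) (Step.D (nat_lit 5073) (Step.D (nat_lit 8090) (Step.D (nat_lit 11069) Step.done))))))))))))))) (Scr.cons (nat_lit 11) (nat_lit 0) (Step.U (nat_lit 2796) (Step.U (nat_lit 1369) (Step.D (nat_lit 1368) (Step.D (nat_lit 2794) (Step.D (nat_lit 5074) Step.done))))) (Scr.cons (nat_lit 12) (nat_lit 1) (Step.U (nat_lit 1369)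 (Step.L (Step.L (Step.D (nat_lit 1369) (Step.D (nat_lit 2795) Step.done))))) (Scr.cons (nat_lit 12) (nat_lit 1) (Step.U (nat_lit 2796) (Step.D (nat_lit 2795) (Step.F (nat_lit 4387) (Step.D (nat_lit 2796) (Step.D (nat_lit 5076) Step.done))))) (Scr.cons (nat_lit 12) (nat_lit 1) (Step.F (nat_lit 4386) (Step.D (nat_lit 5076) (Step.F (nat_lit 4388) (Step.B (nat_lit 4386) (Step.D (nat_lit 8091) Step.done))))) (Scr.cons (nat_lit 11) (nat_lit 0) (Step.U (nat_lit 5068) (Step.U (nat_lit 2790) (Step.D (nat_lit 2789) (Step.D (nat_lit 5066) (Step.D (nat_lit 8083) Step.done))))) (Scr.cons (nat_lit 12) (nat_lit 4) (Step.L (Step.L (Step.L (Step.L (Step.D (nat_lit 53) Step.done))))) (Scr.cons (nat_lit 12) (nat_lit 1) (Step.U (nat_lit 202) (Step.F (nat_lit 4391) (Step.D (nat_lit 53) (Step.D (nat_lit 202) (Step.D (nat_lit 561) Step.done))))) (Scr.cons (nat_lit 12) (nat_lit 1) (Step.U (nat_lit 562) (Step.D (nat_lit 561) (Step.F (nat_lit 4392) (Step.D (nat_lit 562) (Step.D (nat_lit 1365)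 Step.done))))) (Scr.cons (nat_lit 12) (nat_lit 1) (Step.U (nat_lit 2790) (Step.F (nat_lit 4393) (Step.D (nat_lit 1365) (Step.D (nat_lit 2790) (Step.D (nat_lit 5067) Step.done))))) (Scr.cons (nat_lit 12) (nat_lit 1) (Step.U (nat_lit 5068) (Step.D (nat_lit 5067) (Step.F (nat_lit 4394) (Step.D (nat_lit 5068) (Step.D (nat_lit 8084) Step.done))))) (Scr.cons (nat_lit 12) (nat_lit 1) (Step.F (nat_lit 4390) (Step.D (nat_lit 8084) (Step.F (nat_lit 4395) (Step.B (nat_lit 4390) (Step.D (nat_lit 11064) Step.done))))) (Scr.cons (nat_lit 14) (nat_lit 2) (Step.F (nat_lit 4396) (Step.F (nat_lit 4390) (Step.U (nat_lit 5068) (Step.U (nat_lit 2790) (Step.U (nat_lit 1365) (Step.U (nat_lit 562) (Step.U (nat_lit 202) (Step.F (nat_lit 4391) (Step.L (Step.L (Step.L (Step.L (Step.L (Step.L (Step.L (Step.D (nat_lit 1368) (Step.D (nat_lit 2794) (Step.D (nat_lit 5074) (Step.B (nat_lit 4389) (Step.D (nat_lit 11070) Step.done)))))))))))))))))))) (Scr.cons (nat_lit 11) (nat_lit 0) (Step.U (nat_lit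 562) (Step.U (nat_lit 202) (Step.D (nat_lit 201) (Step.D (nat_lit 560) (Step.D (nat_lit 1364) Step.done))))) (Scr.cons (nat_lit 12) (nat_lit 1) (Step.F (nat_lit 4398) (Step.D (nat_lit 1365) (Step.F (nat_lit 4393) (Step.B (nat_lit 4398) (Step.D (nat_lit 2788) Step.done))))) (Scr.cons (nat_lit 12) (nat_lit 1) (Step.L (Step.L (Step.L (Step.L (Step.D (nat_lit 2787) Step.done))))) (Scr.cons (nat_lit 12) (nat_lit 1) (Step.L (Step.D (nat_lit 2787) (Step.F (nat_lit 4400) (Step.L (Step.D (nat_lit 5064) Step.done))))) (Scr.cons (nat_lit 14) (nat_lit 2) (Step.F (nat_lit 4401) (Step.L (Step.L (Step.L (Step.L (Step.L (Step.L (Step.L (Step.L (Step.L (Step.L (Step.L (Step.L (Step.L (Step.D (nat_lit 53) (Step.D (nat_lit 201) (Step.D (nat_lit 560) (Step.D (nat_lit 1364) (Step.B (nat_lit 4399) (Step.D (nat_lit 5065) Step.done)))))))))))))))))))) Scr.nil))))))))))))))))))))))))))))))))))))))))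
noncomputable def s110 : Scr := (Scr.cons (nat_lit 12) (nat_lit 4) (Step.L (Step.L (Step.L (Step.L (Step.D (nat_lit 5005) Step.done))))) (Scr.cons (nat_lit 12) (nat_lit 1) (Step.L (Step.L (Step.L (Step.L (Step.D (nat_lit 4325) Step.done))))) (Scr.cons (nat_lit 12) (nat_lit 1) (Step.U (nat_lit 7245) (Step.F (nat_lit 4404) (Step.D (nat_lit 4325) (Step.D (nat_lit 7245) (Step.D (nat_lit 10321) Step.done))))) (Scr.cons (nat_lit 11) (nat_lit 0) (Step.L (Step.L (Step.L (Step.L (Step.D (nat_lit 5006) Step.done))))) (Scr.cons (nat_lit 12) (nat_lit 1) (Step.L (Step.L (Step.L (Step.L (Step.D (nat_lit 2751) Step.done))))) (Scr.cons (nat_lit 12) (nat_lit 1) (Step.L (Step.D (nat_lit 2751) (Step.F (nat_lit 4407) (Step.L (Step.D (nat_lit 5009) Step.done))))) (Scr.cons (nat_lit 12) (nat_lit 1) (Step.F (nat_lit 4406) (Step.D (nat_lit 5009) (Step.F (nat_lit 4408) (Step.B (nat_lit 4406) (Step.D (nat_lit 8020) Step.done))))) (Scr.cons (nat_lit 11) (nat_lit 0) (Step.U (nat_lit 1348) (Step.U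 (nat_lit 551) (Step.D (nat_lit 550) (Step.D (nat_lit 1347) (Step.D (nat_lit 2742) Step.done))))) (Scr.cons (nat_lit 12) (nat_lit 1) (Step.F (nat_lit 4410) (Step.D (nat_lit 2743) (Step.F (nat_lit 1299) (Step.B (nat_lit 4410) (Step.D (nat_lit 4984) Step.done))))) (Scr.cons (nat_lit 7) (nat_lit 5) (Step.F (nat_lit 4409) (Step.U (nat_lit 5006) (Step.L (Step.L (Step.L (Step.L (Step.L (Step.L (Step.L (Step.L (Step.L (Step.L (Step.L (Step.L (Step.D (nat_lit 196) (Step.D (nat_lit 551) (Step.D (nat_lit 1348) (Step.B (nat_lit 4410) (Step.B (nat_lit 4411) (Step.D (nat_lit 7991) Step.done)))))))))))))))))))) (Scr.cons (nat_lit 14) (nat_lit 2) (Step.L (Step.L (Step.L (Step.L (Step.L (Step.L (Step.L (Step.L (Step.L (Step.L (Step.L (Step.L (Step.L (Step.L (Step.L (Step.L (Step.L (Step.L (Step.L (Step.D (nat_lit 7542) Step.done)))))))))))))))))))) (Scr.cons (nat_lit 4) (nat_lit 0) (Step.L (Step.L (Step.B (nat_lit 4413) (Step.U (nat_lit 7542) (Step.D (nat_lit 7543) Step.done))))) (Scr.cons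 (nat_lit 14) (nat_lit 4) (Step.B (nat_lit 4412) (Step.U (nat_lit 7991) (Step.U (nat_lit 4984) (Step.F (nat_lit 4410) (Step.U (nat_lit 1348) (Step.F (nat_lit 1298) (Step.F (nat_lit 3562) (Step.L (Step.L (Step.L (Step.L (Step.L (Step.L (Step.L (Step.L (Step.L (Step.L (Step.L (Step.B (nat_lit 4414) (Step.D (nat_lit 10587) Step.done)))))))))))))))))))) (Scr.cons (nat_lit 6) (nat_lit 2) (Step.D (nat_lit 5006) (Step.D (nat_lit 8020) (Step.B (nat_lit 4415) (Step.U (nat_lit 10587) (Step.U (nat_lit 7543) (Step.L (Step.L (Step.B (nat_lit 2139) (Step.F (nat_lit 2147) (Step.D (nat_lit 4325) (Step.D (nat_lit 7245) (Step.B (nat_lit 4405) Step.done)))))))))))) (Scr.cons (nat_lit 0) (nat_lit 1) (Step.B (nat_lit 4405) (Step.F (nat_lit 4416) (Step.D (nat_lit 5005) Step.done))) (Scr.cons (nat_lit 1) (nat_lit 1) (Step.D (nat_lit 7245) (Step.B (nat_lit 4417) (Step.D (nat_lit 8019) Step.done))) (Scr.cons (nat_lit 1) (nat_lit 1) (Step.D (nat_lit 8019) (Step.F (nat_lit 4418) Step.done)) (Scr.cons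 (nat_lit 11) (nat_lit 0) (Step.U (nat_lit 4216) (Step.U (nat_lit 2238) (Step.D (nat_lit 2237) (Step.D (nat_lit 4214) (Step.D (nat_lit 7095) Step.done))))) (Scr.cons (nat_lit 12) (nat_lit 1) (Step.U (nat_lit 2238) (Step.F (nat_lit 2306) (Step.D (nat_lit 1058) (Step.D (nat_lit 2238) (Step.D (nat_lit 4215) Step.done))))) (Scr.cons (nat_lit 12) (nat_lit 1) (Step.U (nat_lit 4216) (Step.D (nat_lit 4215) (Step.F (nat_lit 4421) (Step.D (nat_lit 4216) (Step.D (nat_lit 7096) Step.done))))) (Scr.cons (nat_lit 12) (nat_lit 1) (Step.F (nat_lit 4420) (Step.D (nat_lit 7096) (Step.F (nat_lit 4422) (Step.B (nat_lit 4420) (Step.D (nat_lit 10202) Step.done))))) (Scr.cons (nat_lit 11) (nat_lit 0) (Step.U (nat_lit 2219) (Step.U (nat_lit 1044) (Step.L (Step.L (Step.D (nat_lit 4195) Step.done))))) (Scr.cons (nat_lit 12) (nat_lit 1) (Step.U (nat_lit 1044) (Step.L (Step.L (Step.D (nat_lit 1044) (Step.D (nat_lit 2218) Step.done))))) (Scr.cons (nat_lit 12) (nat_lit 1) (Step.U (nat_lit 2219) (Step.D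 (nat_lit 2218) (Step.F (nat_lit 4425) (Step.D (nat_lit 2219) (Step.D (nat_lit 4196) Step.done))))) (Scr.cons (nat_lit 12) (nat_lit 1) (Step.F (nat_lit 4424) (Step.D (nat_lit 4196) (Step.F (nat_lit 4426) (Step.B (nat_lit 4424) (Step.D (nat_lit 7074) Step.done))))) (Scr.cons (nat_lit 14) (nat_lit 2) (Step.F (nat_lit 4423) (Step.F (nat_lit 4420) (Step.U (nat_lit 4216) (Step.U (nat_lit 2238) (Step.U (nat_lit 1058) (Step.U (nat_lit 414) (Step.L (Step.L (Step.L (Step.L (Step.L (Step.L (Step.L (Step.L (Step.L (Step.L (Step.L (Step.D (nat_lit 4195) (Step.B (nat_lit 4427) (Step.D (nat_lit 10193) Step.done)))))))))))))))))))) (Scr.cons (nat_lit 0) (nat_lit 1) (Step.U (nat_lit 1058) (Step.B (nat_lit 2324) (Step.L Step.done))) (Scr.cons (nat_lit 1) (nat_lit 1) (Step.U (nat_lit 2237) (Step.B (nat_lit 4429) (Step.L Step.done))) (Scr.cons (nat_lit 1) (nat_lit 1) (Step.U (nat_lit 4214) (Step.B (nat_lit 4430) (Step.L Step.done))) (Scr.cons (nat_lit 1) (nat_lit 1) (Step.U (nat_lit 7095)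 (Step.B (nat_lit 4431) (Step.L Step.done))) (Scr.cons (nat_lit 0) (nat_lit 1) (Step.U (nat_lit 10202) (Step.B (nat_lit 4432) (Step.L Step.done))) (Scr.cons (nat_lit 1) (nat_lit 0) (Step.F (nat_lit 4428) (Step.B (nat_lit 4433) (Step.L Step.done))) (Scr.cons (nat_lit 1) (nat_lit 1) (Step.U (nat_lit 2306) (Step.B (nat_lit 2203) (Step.L Step.done))) (Scr.cons (nat_lit 1) (nat_lit 1) (Step.B (nat_lit 2148) (Step.B (nat_lit 4435) (Step.L Step.done))) (Scr.cons (nat_lit 1) (nat_lit 1) (Step.B (nat_lit 2147) (Step.B (nat_lit 4436) (Step.D (nat_lit 4195) Step.done))) (Scr.cons (nat_lit 0) (nat_lit 1) (Step.U (nat_lit 7074) (Step.F (nat_lit 4437) (Step.D (nat_lit 4325) Step.done))) (Scr.cons (nat_lit 1) (nat_lit 1) (Step.F (nat_lit 4434) (Step.U (nat_lit 10193) (Step.B (nat_lit 4438) (Step.D (nat_lit 7244) Step.done)))) (Scr.cons (nat_lit 1) (nat_lit 0) (Step.D (nat_lit 7244) (Step.F (nat_lit 4439) (Step.L Step.done))) (Scr.cons (nat_lit 1) (nat_lit 0) (Step.B (nat_lit 4419) (Step.B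 (nat_lit 4440) (Step.L Step.done))) (Scr.cons (nat_lit 0) (nat_lit 1) (Step.B (nat_lit 4403) (Step.B (nat_lit 4441) (Step.D (nat_lit 5064) Step.done))) Scr.nil))))))))))))))))))))))))))))))))))))))))
noncomputable def s111 : Scr := (Scr.cons (nat_lit 1) (nat_lit 0) (Step.F (nat_lit 4402) (Step.F (nat_lit 4442) (Step.L Step.done))) (Scr.cons (nat_lit 1) (nat_lit 0) (Step.D (nat_lit 5065) (Step.B (nat_lit 4443) (Step.L Step.done))) (Scr.cons (nat_lit 0) (nat_lit 1) (Step.B (nat_lit 4399) (Step.B (nat_lit 4444) (Step.L Step.done))) (Scr.cons (nat_lit 1) (nat_lit 1) (Step.B (nat_lit 4398) (Step.B (nat_lit 4445) (Step.L Step.done))) (Scr.cons (nat_lit 0) (nat_lit 1) (Step.U (nat_lit 1365) (Step.B (nat_lit 4446) (Step.L Step.done))) (Scr.cons (nat_lit 1) (nat_lit 1) (Step.U (nat_lit 2789) (Step.B (nat_lit 4447) (Step.L Step.done))) (Scr.cons (nat_lit 1) (nat_lit 1) (Step.U (nat_lit 5066) (Step.B (nat_lit 4448) (Step.L Step.done))) (Scr.cons (nat_lit 1) (nat_lit 1) (Step.U (nat_lit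 8083) (Step.B (nat_lit 4449) (Step.L Step.done))) (Scr.cons (nat_lit 0) (nat_lit 1) (Step.U (nat_lit 11064) (Step.B (nat_lit 4450) (Step.L Step.done))) (Scr.cons (nat_lit 1) (nat_lit 0) (Step.F (nat_lit 4397) (Step.B (nat_lit 4451) (Step.L Step.done))) (Scr.cons (nat_lit 1) (nat_lit 0) (Step.D (nat_lit 11070) (Step.B (nat_lit 4452) (Step.L Step.done))) (Scr.cons (nat_lit 0) (nat_lit 1) (Step.B (nat_lit 4389) (Step.B (nat_lit 4453) (Step.L Step.done))) (Scr.cons (nat_lit 1) (nat_lit 0) (Step.D (nat_lit 5074) (Step.B (nat_lit 4454) (Step.L Step.done))) (Scr.cons (nat_lit 1) (nat_lit 0) (Step.D (nat_lit 2794) (Step.B (nat_lit 4455) (Step.L Step.done))) (Scr.cons (nat_lit 0) (nat_lit 1) (Step.U (nat_lit 2793) (Step.B (nat_lit 4456) (Step.L Step.done))) (Scr.cons (nat_lit 1) (nat_lit 1) (Step.U (nat_lit 5073) (Step.B (nat_lit 4457) (Step.L Step.done))) (Scr.cons (nat_lit 0) (nat_lit 1) (Step.U (nat_lit 8090) (Step.B (nat_lit 4458) (Step.L Step.done))) (Scr.cons (nat_lit 1)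 (nat_lit 1) (Step.U (nat_lit 11069) (Step.B (nat_lit 4459) (Step.L Step.done))) (Scr.cons (nat_lit 0) (nat_lit 1) (Step.B (nat_lit 4385) (Step.B (nat_lit 4460) (Step.D (nat_lit 9742) Step.done))) (Scr.cons (nat_lit 0) (nat_lit 0) (Step.B (nat_lit 4382) (Step.F (nat_lit 4461) Step.done)) (Scr.cons (nat_lit 12) (nat_lit 1) (Step.L (Step.L (Step.L (Step.L (Step.D (nat_lit 10075) Step.done))))) (Scr.cons (nat_lit 15) (nat_lit 1) (Step.F (nat_lit 4463) (Step.L (Step.L (Step.L (Step.L (Step.L (Step.L (Step.D (nat_lit 415) (Step.D (nat_lit 1068) (Step.B (nat_lit 152) (Step.D (nat_lit 1909) (Step.D (nat_lit 3703) (Step.F (nat_lit 1182) (Step.L (Step.L Step.done))))))))))))))) (Scr.cons (nat_lit 12) (nat_lit 4) (Step.U (nat_lit 8082) (Step.L (Step.L (Step.D (nat_lit 8082) (Step.D (nat_lit 11062) Step.done))))) (Scr.cons (nat_lit 6) (nat_lit 3) (Step.L (Step.L (Step.L (Step.L (Step.L (Step.L (Step.L (Step.L (Step.L (Step.B (nat_lit 1116) (Step.D (nat_lit 3593) Step.done)))))))))))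 (Scr.cons (nat_lit 16) (nat_lit 2) (Step.U (nat_lit 8095) (Step.L (Step.L (Step.L (Step.L (Step.L (Step.L (Step.L (Step.L (Step.L (Step.L (Step.L (Step.L (Step.L (Step.L (Step.D (nat_lit 1843) (Step.D (nat_lit 3593) (Step.F (nat_lit 4466) (Step.D (nat_lit 3609) (Step.D (nat_lit 6308) (Step.F (nat_lit 1106) (Step.L (Step.D (nat_lit 9479) Step.done))))))))))))))))))))))) (Scr.cons (nat_lit 11) (nat_lit 0) (Step.U (nat_lit 8095) (Step.L (Step.L (Step.D (nat_lit 8082) (Step.D (nat_lit 11063) Step.done))))) (Scr.cons (nat_lit 6) (nat_lit 1) (Step.U (nat_lit 9382) (Step.F (nat_lit 4358) (Step.L (Step.L (Step.L (Step.L (Step.L (Step.L (Step.D (nat_lit 9479) (Step.F (nat_lit 4467) (Step.B (nat_lit 4468) Step.done))))))))))) (Scr.cons (nat_lit 5) (nat_lit 2) (Step.U (nat_lit 11063) (Step.B (nat_lit 4465) (Step.U (nat_lit 11062) (Step.D (nat_lit 11063) (Step.F (nat_lit 4469) Step.done))))) (Scr.cons (nat_lit 9) (nat_lit 2) (Step.L (Step.B (nat_lit 4463) (Step.B (nat_lit 4464) (Step.L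 (Step.L (Step.L (Step.L (Step.B (nat_lit 4358) (Step.D (nat_lit 9382) (Step.F (nat_lit 4470) (Step.U (nat_lit 11063) (Step.U (nat_lit 8082) (Step.L (Step.L (Step.L (Step.L (Step.L (Step.L (Step.L (Step.B (nat_lit 4383) (Step.D (nat_lit 2802) (Step.B (nat_lit 4384) (Step.D (nat_lit 8096) (Step.D (nat_lit 11075) Step.done)))))))))))))))))))))))) (Scr.cons (nat_lit 1) (nat_lit 1) (Step.D (nat_lit 11075) (Step.F (nat_lit 4471) (Step.D (nat_lit 6943) Step.done))) (Scr.cons (nat_lit 13) (nat_lit 0) (Step.U (nat_lit 6943) (Step.L (Step.L (Step.L (Step.L (Step.L (Step.L (Step.L (Step.D (nat_lit 4079) (Step.D (nat_lit 6939) (Step.D (nat_lit 10073) Step.done))))))))))) (Scr.cons (nat_lit 0) (nat_lit 1) (Step.B (nat_lit 4462) (Step.B (nat_lit 4472) (Step.B (nat_lit 4473) Step.done))) (Scr.cons (nat_lit 1) (nat_lit 0) (Step.D (nat_lit 10073) (Step.F (nat_lit 4474) (Step.L Step.done))) (Scr.cons (nat_lit 0) (nat_lit 1) (Step.B (nat_lit 4381) (Step.B (nat_lit 4475) (Step.L Step.done)))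 (Scr.cons (nat_lit 1) (nat_lit 1) (Step.D (nat_lit 4079) (Step.B (nat_lit 4476) (Step.D (nat_lit 3816) Step.done))) (Scr.cons (nat_lit 1) (nat_lit 1) (Step.D (nat_lit 3816) (Step.F (nat_lit 4477) Step.done)) (Scr.cons (nat_lit 12) (nat_lit 1) (Step.L (Step.L (Step.L (Step.L (Step.D (nat_lit 9957) Step.done))))) (Scr.cons (nat_lit 6) (nat_lit 1) (Step.L (Step.L (Step.L (Step.L (Step.L (Step.L (Step.L (Step.L (Step.L (Step.L (Step.D (nat_lit 5061) Step.done))))))))))) (Scr.cons (nat_lit 13) (nat_lit 2) (Step.L (Step.L (Step.L (Step.L (Step.L (Step.L (Step.L (Step.L (Step.L (Step.L (Step.D (nat_lit 5061) Step.done))))))))))) (Scr.cons (nat_lit 12) (nat_lit 1) (Step.L (Step.B (nat_lit 4480) (Step.F (nat_lit 4481) (Step.L (Step.D (nat_lit 8080) Step.done))))) Scr.nil))))))))))))))))))))))))))))))))))))))))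
noncomputable def s112 : Scr := (Scr.cons (nat_lit 7) (nat_lit 1) (Step.U (nat_lit 9956) (Step.L (Step.L (Step.L (Step.L (Step.L (Step.L (Step.L (Step.L (Step.L (Step.L (Step.L (Step.L (Step.L (Step.L (Step.L (Step.L (Step.L (Step.L (Step.D (nat_lit 8080) (Step.D (nat_lit 11060) Step.done))))))))))))))))))))) (Scr.cons (nat_lit 11) (nat_lit 0) (Step.L (Step.L (Step.L (Step.L (Step.D (nat_lit 9956) Step.done))))) (Scr.cons (nat_lit 1) (nat_lit 1) (Step.D (nat_lit 11060) (Step.F (nat_lit 4483) (Step.F (nat_lit 4484) Step.done))) (Scr.cons (nat_lit 0) (nat_lit 1) (Step.B (nat_lit 4482) (Step.B (nat_lit 4485) (Step.D (nat_lit 9957) Step.done))) (Scr.cons (nat_lit 0) (nat_lit 0) (Step.B (nat_lit 4479) (Step.F (nat_lit 4486) Step.done)) (Scr.cons (nat_lit 11) (nat_lit 0) (Step.L (Step.L (Step.L (Step.L (Step.D (nat_lit 10989) Step.done))))) (Scr.cons (nat_lit 14) (nat_lit 3) (Step.F (nat_lit 4488) (Step.L (Step.L (Step.L (Step.L (Step.L (Step.L (Step.L (Step.L (Step.L (Step.L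 (Step.L (Step.L (Step.L (Step.L (Step.L (Step.L (Step.L (Step.D (nat_lit 8085) (Step.D (nat_lit 11066) Step.done)))))))))))))))))))) (Scr.cons (nat_lit 12) (nat_lit 4) (Step.U (nat_lit 8085) (Step.L (Step.L (Step.D (nat_lit 8085) (Step.D (nat_lit 11065) Step.done))))) (Scr.cons (nat_lit 11) (nat_lit 0) (Step.U (nat_lit 8023) (Step.U (nat_lit 5008) (Step.D (nat_lit 5007) (Step.D (nat_lit 8021) (Step.D (nat_lit 10991) Step.done))))) (Scr.cons (nat_lit 13) (nat_lit 0) (Step.U (nat_lit 5007) (Step.F (nat_lit 4407) (Step.L (Step.L (Step.L (Step.L (Step.L (Step.B (nat_lit 177) (Step.D (nat_lit 2750) (Step.D (nat_lit 5004) (Step.D (nat_lit 8018) Step.done))))))))))) (Scr.cons (nat_lit 12) (nat_lit 1) (Step.U (nat_lit 2750) (Step.F (nat_lit 177) (Step.D (nat_lit 1350) (Step.D (nat_lit 2750) (Step.D (nat_lit 5004) Step.done))))) (Scr.cons (nat_lit 6) (nat_lit 3) (Step.U (nat_lit 5007) (Step.U (nat_lit 2751) (Step.L (Step.L (Step.L (Step.L (Step.L (Step.D (nat_lit 1350) (Step.D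 (nat_lit 2750) (Step.B (nat_lit 4493) (Step.D (nat_lit 8018) Step.done))))))))))) (Scr.cons (nat_lit 12) (nat_lit 4) (Step.U (nat_lit 8021) (Step.B (nat_lit 4492) (Step.F (nat_lit 4494) (Step.D (nat_lit 8021) (Step.D (nat_lit 10990) Step.done))))) (Scr.cons (nat_lit 12) (nat_lit 1) (Step.U (nat_lit 1890) (Step.L (Step.L (Step.D (nat_lit 1890) (Step.D (nat_lit 3667) Step.done))))) (Scr.cons (nat_lit 14) (nat_lit 4) (Step.U (nat_lit 4996) (Step.U (nat_lit 2748) (Step.L (Step.L (Step.L (Step.L (Step.L (Step.L (Step.L (Step.L (Step.L (Step.L (Step.L (Step.L (Step.L (Step.L (Step.L (Step.L (Step.D (nat_lit 2758) (Step.D (nat_lit 5021) Step.done)))))))))))))))))))) (Scr.cons (nat_lit 12) (nat_lit 1) (Step.L (Step.L (Step.L (Step.L (Step.D (nat_lit 2108) Step.done))))) (Scr.cons (nat_lit 12) (nat_lit 1) (Step.U (nat_lit 2109) (Step.D (nat_lit 2108) (Step.F (nat_lit 4498) (Step.D (nat_lit 2109) (Step.D (nat_lit 4025) Step.done))))) (Scr.cons (nat_lit 12) (nat_lit 4) (Step.U (nat_lit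 318) (Step.F (nat_lit 2232) (Step.D (nat_lit 101) (Step.D (nat_lit 318) (Step.D (nat_lit 856) Step.done))))) (Scr.cons (nat_lit 12) (nat_lit 4) (Step.U (nat_lit 857) (Step.D (nat_lit 856) (Step.F (nat_lit 4500) (Step.D (nat_lit 857) (Step.D (nat_lit 1868) Step.done))))) (Scr.cons (nat_lit 6) (nat_lit 3) (Step.B (nat_lit 4497) (Step.U (nat_lit 5021) (Step.B (nat_lit 3492) (Step.F (nat_lit 4499) (Step.B (nat_lit 3493) (Step.U (nat_lit 2275) (Step.F (nat_lit 2233) (Step.D (nat_lit 1082) (Step.B (nat_lit 2243) (Step.B (nat_lit 4501) (Step.D (nat_lit 3632) Step.done))))))))))) (Scr.cons (nat_lit 16) (nat_lit 3) (Step.U (nat_lit 9529) (Step.U (nat_lit 6380) (Step.F (nat_lit 4496) (Step.U (nat_lit 1890) (Step.L (Step.L (Step.L (Step.L (Step.D (nat_lit 325) (Step.F (nat_lit 3280) (Step.F (nat_lit 3279) (Step.U (nat_lit 319) (Step.D (nat_lit 318) (Step.D (nat_lit 857) (Step.D (nat_lit 1868) (Step.D (nat_lit 3632) (Step.F (nat_lit 4502) (Step.U (nat_lit 4996) (Step.U (nat_lit 2748)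 (Step.L (Step.L (Step.D (nat_lit 8005) (Step.D (nat_lit 10978) Step.done))))))))))))))))))))))) (Scr.cons (nat_lit 11) (nat_lit 0) (Step.F (nat_lit 4503) (Step.U (nat_lit 9529) (Step.U (nat_lit 6380) (Step.D (nat_lit 6379) (Step.D (nat_lit 9527) Step.done))))) (Scr.cons (nat_lit 12) (nat_lit 1) (Step.U (nat_lit 5143) (Step.D (nat_lit 5142) (Step.F (nat_lit 3246) (Step.D (nat_lit 5143) (Step.D (nat_lit 8162) Step.done))))) (Scr.cons (nat_lit 0) (nat_lit 0) (Step.B (nat_lit 4505) (Step.F (nat_lit 3267) Step.done)) (Scr.cons (nat_lit 16) (nat_lit 3) (Step.U (nat_lit 9849) (Step.U (nat_lit 6690) (Step.L (Step.L (Step.L (Step.L (Step.L (Step.L (Step.L (Step.D (nat_lit 3892) (Step.F (nat_lit 4506) (Step.U (nat_lit 5143) (Step.L (Step.D (nat_lit 2844) (Step.B (nat_lit 3251) (Step.U (nat_lit 5139) (Step.L (Step.L (Step.L (Step.L (Step.L (Step.D (nat_lit 8152) (Step.D (nat_lit 11121) Step.done))))))))))))))))))))))) (Scr.cons (nat_lit 11) (nat_lit 0) (Step.U (nat_lit 6809) (Step.U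 (nat_lit 3972) (Step.L (Step.D (nat_lit 6807) (Step.D (nat_lit 9969) Step.done))))) (Scr.cons (nat_lit 9) (nat_lit 2) (Step.L (Step.L (Step.L (Step.L (Step.L (Step.L (Step.L (Step.L (Step.L (Step.L (Step.L (Step.L (Step.L (Step.L (Step.L (Step.L (Step.D (nat_lit 6792) (Step.F (nat_lit 3278) (Step.U (nat_lit 6375) (Step.L (Step.L (Step.L (Step.D (nat_lit 8153) (Step.D (nat_lit 11122) Step.done)))))))))))))))))))))))) (Scr.cons (nat_lit 1) (nat_lit 1) (Step.D (nat_lit 11122) (Step.F (nat_lit 4509) (Step.D (nat_lit 6807) Step.done))) (Scr.cons (nat_lit 1) (nat_lit 1) (Step.D (nat_lit 8153) (Step.B (nat_lit 4510) (Step.D (nat_lit 9969) Step.done))) (Scr.cons (nat_lit 1) (nat_lit 1) (Step.B (nat_lit 4508) (Step.F (nat_lit 4511) (Step.D (nat_lit 8152) Step.done))) (Scr.cons (nat_lit 0) (nat_lit 1) (Step.U (nat_lit 11121) (Step.F (nat_lit 4512) (Step.D (nat_lit 9970) Step.done))) (Scr.cons (nat_lit 1) (nat_lit 0) (Step.B (nat_lit 4507) (Step.B (nat_lit 4513) Step.done)) (Scr.cons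 (nat_lit 11) (nat_lit 0) (Step.F (nat_lit 4507) (Step.U (nat_lit 9849) (Step.U (nat_lit 6690) (Step.D (nat_lit 6689) (Step.D (nat_lit 9847) Step.done))))) (Scr.cons (nat_lit 1) (nat_lit 1) (Step.F (nat_lit 4515) (Step.B (nat_lit 4513) Step.done)) (Scr.cons (nat_lit 1) (nat_lit 1) (Step.D (nat_lit 8152) (Step.F (nat_lit 4512) Step.done)) (Scr.cons (nat_lit 12) (nat_lit 1) (Step.U (nat_lit 3972) (Step.L (Step.L (Step.D (nat_lit 3972) (Step.D (nat_lit 6808) Step.done))))) (Scr.cons (nat_lit 12) (nat_lit 1) (Step.U (nat_lit 6809) (Step.D (nat_lit 6808) (Step.F (nat_lit 4518) (Step.D (nat_lit 6809) (Step.D (nat_lit 9970) Step.done))))) (Scr.cons (nat_lit 13) (nat_lit 2) (Step.F (nat_lit 4496) (Step.U (nat_lit 1890) (Step.L (Step.L (Step.L (Step.L (Step.L (Step.L (Step.L (Step.B (nat_lit 4517) (Step.B (nat_lit 4519) (Step.F (nat_lit 4516) Step.done)))))))))))) (Scr.cons (nat_lit 1) (nat_lit 1) (Step.F (nat_lit 4516) (Step.F (nat_lit 4520) (Step.D (nat_lit 6379) Step.done)))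 (Scr.cons (nat_lit 1) (nat_lit 1) (Step.B (nat_lit 4514) (Step.B (nat_lit 4521) (Step.D (nat_lit 9527) Step.done))) Scr.nil))))))))))))))))))))))))))))))))))))))))
noncomputable def s113 : Scr := (Scr.cons (nat_lit 1) (nat_lit 1) (Step.D (nat_lit 9849) (Step.B (nat_lit 4522) (Step.F (nat_lit 4504) Step.done))) (Scr.cons (nat_lit 1) (nat_lit 1) (Step.F (nat_lit 4504) (Step.F (nat_lit 4523) Step.done)) (Scr.cons (nat_lit 12) (nat_lit 1) (Step.U (nat_lit 6690) (Step.L (Step.L (Step.D (nat_lit 6690) (Step.D (nat_lit 9848) Step.done))))) (Scr.cons (nat_lit 12) (nat_lit 4) (Step.U (nat_lit 8005) (Step.L (Step.L (Step.D (nat_lit 8005) (Step.D (nat_lit 10978) Step.done))))) (Scr.cons (nat_lit 0) (nat_lit 1) (Step.B (nat_lit 4526) (Step.F (nat_lit 4523) (Step.D (nat_lit 9848) Step.done))) (Scr.cons (nat_lit 0) (nat_lit 0) (Step.B (nat_lit 4525) (Step.F (nat_lit 4527) Step.done)) (Scr.cons (nat_lit 12) (nat_lit 1) (Step.L (Step.D (nat_lit 8080) (Step.F (nat_lit 4482) (Step.L (Step.D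 (nat_lit 11059) Step.done))))) (Scr.cons (nat_lit 16) (nat_lit 5) (Step.F (nat_lit 4529) (Step.L (Step.L (Step.L (Step.L (Step.L (Step.L (Step.L (Step.L (Step.L (Step.L (Step.L (Step.L (Step.L (Step.L (Step.L (Step.L (Step.L (Step.L (Step.L (Step.L (Step.D (nat_lit 8005) (Step.D (nat_lit 10979) Step.done))))))))))))))))))))))) (Scr.cons (nat_lit 14) (nat_lit 4) (Step.D (nat_lit 6379) (Step.D (nat_lit 9527) (Step.B (nat_lit 4524) (Step.B (nat_lit 4528) (Step.D (nat_lit 10979) (Step.F (nat_lit 4530) (Step.F (nat_lit 4529) (Step.L (Step.L (Step.L (Step.L (Step.L (Step.L (Step.L (Step.D (nat_lit 5006) (Step.F (nat_lit 4406) (Step.L (Step.B (nat_lit 4407) (Step.D (nat_lit 5007) (Step.D (nat_lit 8021) (Step.D (nat_lit 10990) Step.done))))))))))))))))))))) (Scr.cons (nat_lit 0) (nat_lit 1) (Step.B (nat_lit 4495) (Step.F (nat_lit 4531) (Step.F (nat_lit 4496) Step.done))) (Scr.cons (nat_lit 1) (nat_lit 1) (Step.U (nat_lit 10991) (Step.B (nat_lit 4532) (Step.U (nat_lit 1890) Step.done)))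 (Scr.cons (nat_lit 1) (nat_lit 1) (Step.B (nat_lit 4491) (Step.B (nat_lit 4533) (Step.L Step.done))) (Scr.cons (nat_lit 1) (nat_lit 1) (Step.D (nat_lit 8023) (Step.B (nat_lit 4534) (Step.D (nat_lit 3666) Step.done))) (Scr.cons (nat_lit 1) (nat_lit 0) (Step.D (nat_lit 5008) (Step.B (nat_lit 4535) Step.done)) (Scr.cons (nat_lit 16) (nat_lit 3) (Step.U (nat_lit 6792) (Step.L (Step.L (Step.L (Step.L (Step.L (Step.L (Step.D (nat_lit 3666) (Step.F (nat_lit 4536) (Step.F (nat_lit 4407) (Step.L (Step.L (Step.L (Step.L (Step.L (Step.L (Step.L (Step.L (Step.L (Step.L (Step.L (Step.L (Step.D (nat_lit 8085) (Step.D (nat_lit 11065) Step.done)))))))))))))))))))))))) (Scr.cons (nat_lit 0) (nat_lit 1) (Step.B (nat_lit 4490) (Step.F (nat_lit 4537) (Step.B (nat_lit 3327) Step.done))) (Scr.cons (nat_lit 1) (nat_lit 1) (Step.D (nat_lit 9353) (Step.F (nat_lit 4538) (Step.D (nat_lit 11066) Step.done))) (Scr.cons (nat_lit 0) (nat_lit 1) (Step.B (nat_lit 4489) (Step.F (nat_lit 4539) (Step.L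 Step.done))) (Scr.cons (nat_lit 1) (nat_lit 0) (Step.B (nat_lit 4488) (Step.B (nat_lit 4540) Step.done)) (Scr.cons (nat_lit 1) (nat_lit 1) (Step.D (nat_lit 11066) (Step.F (nat_lit 4539) Step.done)) (Scr.cons (nat_lit 4) (nat_lit 0) (Step.L (Step.L (Step.F (nat_lit 4542) (Step.U (nat_lit 8085) (Step.L (Step.D (nat_lit 11067) Step.done)))))) (Scr.cons (nat_lit 1) (nat_lit 1) (Step.D (nat_lit 11067) (Step.F (nat_lit 4543) (Step.D (nat_lit 9352) Step.done))) (Scr.cons (nat_lit 1) (nat_lit 1) (Step.D (nat_lit 9352) (Step.F (nat_lit 4544) Step.done)) (Scr.cons (nat_lit 12) (nat_lit 4) (Step.L (Step.L (Step.L (Step.L (Step.D (nat_lit 9749) Step.done))))) (Scr.cons (nat_lit 13) (nat_lit 0) (Step.L (Step.L (Step.L (Step.L (Step.L (Step.L (Step.L (Step.L (Step.L (Step.L (Step.D (nat_lit 8036) Step.done))))))))))) (Scr.cons (nat_lit 6) (nat_lit 3) (Step.L (Step.L (Step.L (Step.L (Step.L (Step.L (Step.L (Step.L (Step.L (Step.L (Step.D (nat_lit 8036) Step.done))))))))))) (Scr.cons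 (nat_lit 12) (nat_lit 4) (Step.L (Step.B (nat_lit 4547) (Step.F (nat_lit 4548) (Step.L (Step.D (nat_lit 11007) Step.done))))) (Scr.cons (nat_lit 11) (nat_lit 0) (Step.L (Step.L (Step.L (Step.L (Step.D (nat_lit 9750) Step.done))))) (Scr.cons (nat_lit 11) (nat_lit 0) (Step.U (nat_lit 10980) (Step.L (Step.D (nat_lit 8005) (Step.D (nat_lit 10979) (Step.F (nat_lit 4530) Step.done))))) (Scr.cons (nat_lit 7) (nat_lit 0) (Step.U (nat_lit 4995) (Step.L (Step.L (Step.L (Step.L (Step.L (Step.L (Step.L (Step.L (Step.L (Step.L (Step.L (Step.L (Step.L (Step.L (Step.L (Step.B (nat_lit 3361) (Step.B (nat_lit 3494) (Step.F (nat_lit 3492) (Step.D (nat_lit 5021) Step.done)))))))))))))))))))) (Scr.cons (nat_lit 12) (nat_lit 1) (Step.B (nat_lit 3492) (Step.F (nat_lit 4499) (Step.D (nat_lit 4025) (Step.F (nat_lit 3492) (Step.D (nat_lit 5021) Step.done))))) (Scr.cons (nat_lit 14) (nat_lit 4) (Step.D (nat_lit 9750) (Step.F (nat_lit 4550) (Step.L (Step.L (Step.L (Step.L (Step.D (nat_lit 11059)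 (Step.F (nat_lit 4551) (Step.U (nat_lit 10980) (Step.L (Step.L (Step.D (nat_lit 4995) (Step.B (nat_lit 4552) (Step.F (nat_lit 4553) (Step.B (nat_lit 3492) (Step.F (nat_lit 3494) (Step.U (nat_lit 2759) (Step.L (Step.L (Step.L (Step.D (nat_lit 11007) Step.done))))))))))))))))))))) (Scr.cons (nat_lit 0) (nat_lit 1) (Step.B (nat_lit 4549) (Step.F (nat_lit 4554) (Step.D (nat_lit 9749) Step.done))) (Scr.cons (nat_lit 0) (nat_lit 0) (Step.B (nat_lit 4546) (Step.F (nat_lit 4555) Step.done)) (Scr.cons (nat_lit 12) (nat_lit 4) (Step.L (Step.L (Step.L (Step.L (Step.D (nat_lit 10368) Step.done))))) (Scr.cons (nat_lit 11) (nat_lit 0) (Step.U (nat_lit 6175) (Step.U (nat_lit 3528) (Step.D (nat_lit 3527) (Step.D (nat_lit 6173) (Step.D (nat_lit 9346) Step.done))))) (Scr.cons (nat_lit 11) (nat_lit 0) (Step.U (nat_lit 1992) (Step.L (Step.D (nat_lit 924) (Step.D (nat_lit 1991) (Step.D (nat_lit 3835) Step.done))))) (Scr.cons (nat_lit 14) (nat_lit 6) (Step.U (nat_lit 9345) (Step.D (nat_lit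 9346) (Step.F (nat_lit 4558) (Step.F (nat_lit 1992) (Step.F (nat_lit 4559) (Step.U (nat_lit 1992) (Step.L (Step.L (Step.L (Step.L (Step.L (Step.L (Step.L (Step.L (Step.L (Step.L (Step.L (Step.L (Step.D (nat_lit 6231) (Step.D (nat_lit 9405) Step.done)))))))))))))))))))) (Scr.cons (nat_lit 4) (nat_lit 0) (Step.B (nat_lit 4560) (Step.U (nat_lit 9405) (Step.U (nat_lit 6231) (Step.L (Step.L Step.done))))) (Scr.cons (nat_lit 12) (nat_lit 4) (Step.U (nat_lit 6173) (Step.D (nat_lit 6172) (Step.F (nat_lit 1994) (Step.D (nat_lit 6173) (Step.D (nat_lit 9345) Step.done))))) Scr.nil))))))))))))))))))))))))))))))))))))))))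
noncomputable def s114 : Scr := (Scr.cons (nat_lit 12) (nat_lit 1) (Step.U (nat_lit 1992) (Step.L (Step.L (Step.D (nat_lit 1992) (Step.D (nat_lit 3836) Step.done))))) (Scr.cons (nat_lit 6) (nat_lit 3) (Step.U (nat_lit 924) (Step.L (Step.L (Step.L (Step.L (Step.L (Step.L (Step.L (Step.L (Step.L (Step.D (nat_lit 1203) Step.done))))))))))) (Scr.cons (nat_lit 14) (nat_lit 0) (Step.U (nat_lit 9775) (Step.U (nat_lit 6617) (Step.F (nat_lit 4563) (Step.U (nat_lit 1992) (Step.L (Step.D (nat_lit 924) (Step.B (nat_lit 4564) (Step.D (nat_lit 2491) (Step.F (nat_lit 2039) (Step.L (Step.D (nat_lit 2107) (Step.F (nat_lit 2238) (Step.F (nat_lit 3493) (Step.B (nat_lit 4499) (Step.F (nat_lit 3494) (Step.U (nat_lit 2759) (Step.L (Step.L (Step.L (Step.D (nat_lit 11008) Step.done)))))))))))))))))))) (Scr.cons (nat_lit 12) (nat_lit 3) (Step.B (nat_lit 4565) (Step.U (nat_lit 11008) (Step.D (nat_lit 11007) (Step.F (nat_lit 4549) (Step.D (nat_lit 11008) Step.done))))) (Scr.cons (nat_lit 9) (nat_lit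 2) (Step.D (nat_lit 9775) (Step.B (nat_lit 4566) (Step.U (nat_lit 11008) (Step.L (Step.L (Step.L (Step.L (Step.L (Step.L (Step.L (Step.L (Step.L (Step.L (Step.L (Step.L (Step.L (Step.L (Step.L (Step.L (Step.L (Step.L (Step.B (nat_lit 699) (Step.D (nat_lit 7545) (Step.D (nat_lit 10588) Step.done)))))))))))))))))))))))) (Scr.cons (nat_lit 1) (nat_lit 1) (Step.D (nat_lit 10588) (Step.F (nat_lit 4567) (Step.U (nat_lit 6617) Step.done))) (Scr.cons (nat_lit 1) (nat_lit 1) (Step.D (nat_lit 7545) (Step.B (nat_lit 4568) (Step.D (nat_lit 6616) Step.done))) (Scr.cons (nat_lit 1) (nat_lit 1) (Step.D (nat_lit 6616) (Step.F (nat_lit 4569) Step.done)) (Scr.cons (nat_lit 8) (nat_lit 1) (Step.U (nat_lit 7546) (Step.U (nat_lit 4587) (Step.L (Step.L (Step.L (Step.L (Step.L (Step.L (Step.L (Step.L (Step.B (nat_lit 699) (Step.F (nat_lit 4570) (Step.U (nat_lit 3836) (Step.B (nat_lit 4559) (Step.B (nat_lit 1992) (Step.B (nat_lit 4558) Step.done)))))))))))))))) (Scr.cons (nat_lit 1) (nat_lit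 0) (Step.D (nat_lit 9346) (Step.F (nat_lit 4571) (Step.D (nat_lit 10589) Step.done))) (Scr.cons (nat_lit 1) (nat_lit 0) (Step.D (nat_lit 10589) (Step.F (nat_lit 4572) Step.done)) (Scr.cons (nat_lit 13) (nat_lit 1) (Step.F (nat_lit 4561) (Step.F (nat_lit 4562) (Step.F (nat_lit 4573) (Step.U (nat_lit 7546) (Step.U (nat_lit 4587) (Step.L (Step.L (Step.L (Step.L (Step.L (Step.L (Step.B (nat_lit 4557) Step.done)))))))))))) (Scr.cons (nat_lit 0) (nat_lit 0) (Step.B (nat_lit 4557) (Step.F (nat_lit 4574) Step.done)) (Scr.cons (nat_lit 8) (nat_lit 1) (Step.U (nat_lit 6131) (Step.L (Step.L (Step.L (Step.L (Step.L (Step.L (Step.L (Step.L (Step.L (Step.L (Step.L (Step.L (Step.B (nat_lit 1173) (Step.D (nat_lit 9290) Step.done))))))))))))))) (Scr.cons (nat_lit 12) (nat_lit 0) (Step.B (nat_lit 4576) (Step.U (nat_lit 9290) (Step.F (nat_lit 1173) (Step.D (nat_lit 6128) (Step.D (nat_lit 9290) Step.done))))) (Scr.cons (nat_lit 12) (nat_lit 1) (Step.L (Step.L (Step.L (Step.L (Step.D (nat_lit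 3983) Step.done))))) (Scr.cons (nat_lit 13) (nat_lit 0) (Step.U (nat_lit 3984) (Step.F (nat_lit 1871) (Step.L (Step.L (Step.L (Step.L (Step.L (Step.L (Step.L (Step.D (nat_lit 3983) (Step.D (nat_lit 6829) Step.done))))))))))) (Scr.cons (nat_lit 1) (nat_lit 1) (Step.U (nat_lit 4032) (Step.B (nat_lit 2506) (Step.L Step.done))) (Scr.cons (nat_lit 1) (nat_lit 1) (Step.U (nat_lit 6881) (Step.B (nat_lit 4580) (Step.L Step.done))) (Scr.cons (nat_lit 0) (nat_lit 1) (Step.F (nat_lit 1876) (Step.B (nat_lit 4581) (Step.L Step.done))) (Scr.cons (nat_lit 1) (nat_lit 1) (Step.B (nat_lit 1875) (Step.B (nat_lit 4582) (Step.L Step.done))) (Scr.cons (nat_lit 0) (nat_lit 1) (Step.U (nat_lit 9830) (Step.B (nat_lit 4583) (Step.L Step.done))) (Scr.cons (nat_lit 1) (nat_lit 0) (Step.B (nat_lit 1873) (Step.B (nat_lit 4584) (Step.L Step.done))) (Scr.cons (nat_lit 1) (nat_lit 0) (Step.D (nat_lit 6835) (Step.B (nat_lit 4585) (Step.L Step.done))) (Scr.cons (nat_lit 0) (nat_lit 1) (Step.F (nat_lit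 4579) (Step.B (nat_lit 4586) (Step.L Step.done))) (Scr.cons (nat_lit 1) (nat_lit 0) (Step.D (nat_lit 6829) (Step.B (nat_lit 4587) (Step.L Step.done))) (Scr.cons (nat_lit 0) (nat_lit 1) (Step.B (nat_lit 4578) (Step.B (nat_lit 4588) (Step.D (nat_lit 6128) Step.done))) (Scr.cons (nat_lit 11) (nat_lit 0) (Step.L (Step.L (Step.L (Step.D (nat_lit 2079) (Step.D (nat_lit 3982) Step.done))))) (Scr.cons (nat_lit 1) (nat_lit 0) (Step.U (nat_lit 9290) (Step.F (nat_lit 4589) (Step.B (nat_lit 4590) Step.done))) (Scr.cons (nat_lit 0) (nat_lit 1) (Step.B (nat_lit 4577) (Step.B (nat_lit 4591) (Step.D (nat_lit 6828) Step.done))) (Scr.cons (nat_lit 0) (nat_lit 1) (Step.D (nat_lit 6828) (Step.F (nat_lit 4592) Step.done)) (Scr.cons (nat_lit 12) (nat_lit 4) (Step.U (nat_lit 2079) (Step.L (Step.L (Step.D (nat_lit 2079) (Step.D (nat_lit 3981) Step.done))))) (Scr.cons (nat_lit 12) (nat_lit 4) (Step.U (nat_lit 6826) (Step.F (nat_lit 4594) (Step.D (nat_lit 3981) (Step.D (nat_lit 6826) (Step.D (nat_lit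 9981) Step.done))))) (Scr.cons (nat_lit 12) (nat_lit 1) (Step.U (nat_lit 209) (Step.L (Step.L (Step.D (nat_lit 209) (Step.D (nat_lit 583) Step.done))))) (Scr.cons (nat_lit 12) (nat_lit 1) (Step.U (nat_lit 584) (Step.D (nat_lit 583) (Step.F (nat_lit 4596) (Step.D (nat_lit 584) (Step.D (nat_lit 1409) Step.done))))) (Scr.cons (nat_lit 12) (nat_lit 4) (Step.U (nat_lit 2861) (Step.F (nat_lit 4597) (Step.D (nat_lit 1409) (Step.D (nat_lit 2861) (Step.D (nat_lit 5162) Step.done))))) (Scr.cons (nat_lit 15) (nat_lit 0) (Step.U (nat_lit 1408) (Step.F (nat_lit 4596) (Step.U (nat_lit 209) (Step.L (Step.L (Step.L (Step.L (Step.L (Step.L (Step.L (Step.L (Step.L (Step.D (nat_lit 579) (Step.D (nat_lit 1399) (Step.D (nat_lit 2846) Step.done))))))))))))))) (Scr.cons (nat_lit 6) (nat_lit 1) (Step.U (nat_lit 8176) (Step.F (nat_lit 4598) (Step.U (nat_lit 2861) (Step.U (nat_lit 1409) (Step.U (nat_lit 584) (Step.D (nat_lit 583) (Step.D (nat_lit 1408) (Step.B (nat_lit 4599) (Step.D (nat_lit 5145)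 (Step.D (nat_lit 8163) (Step.D (nat_lit 11131) Step.done))))))))))) (Scr.cons (nat_lit 12) (nat_lit 4) (Step.U (nat_lit 579) (Step.L (Step.L (Step.D (nat_lit 579) (Step.D (nat_lit 1399) Step.done))))) (Scr.cons (nat_lit 12) (nat_lit 4) (Step.U (nat_lit 2846) (Step.F (nat_lit 4601) (Step.D (nat_lit 1399) (Step.D (nat_lit 2846) (Step.F (nat_lit 4599) Step.done))))) Scr.nil))))))))))))))))))))))))))))))))))))))))
noncomputable def s115 : Scr := (Scr.cons (nat_lit 12) (nat_lit 4) (Step.U (nat_lit 5145) (Step.F (nat_lit 4599) (Step.F (nat_lit 4602) (Step.D (nat_lit 5145) (Step.D (nat_lit 8163) Step.done))))) (Scr.cons (nat_lit 12) (nat_lit 1) (Step.L (Step.L (Step.L (Step.L (Step.D (nat_lit 967) Step.done))))) (Scr.cons (nat_lit 13) (nat_lit 3) (Step.U (nat_lit 1399) (Step.U (nat_lit 579) (Step.L (Step.L (Step.B (nat_lit 2223) (Step.B (nat_lit 2224) (Step.F (nat_lit 4604) (Step.L (Step.L (Step.L (Step.D (nat_lit 2083) Step.done))))))))))) (Scr.cons (nat_lit 4) (nat_lit 0)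 (Step.U (nat_lit 5145) (Step.U (nat_lit 2846) (Step.B (nat_lit 4605) (Step.D (nat_lit 3990) (Step.D (nat_lit 6841) Step.done))))) (Scr.cons (nat_lit 12) (nat_lit 1) (Step.L (Step.L (Step.L (Step.L (Step.D (nat_lit 2083) Step.done))))) (Scr.cons (nat_lit 12) (nat_lit 1) (Step.L (Step.L (Step.L (Step.L (Step.D (nat_lit 5733) Step.done))))) (Scr.cons (nat_lit 16) (nat_lit 3) (Step.U (nat_lit 5931) (Step.U (nat_lit 3351) (Step.F (nat_lit 3690) (Step.U (nat_lit 729) (Step.F (nat_lit 3686) (Step.U (nat_lit 76) (Step.L (Step.L (Step.L (Step.L (Step.L (Step.L (Step.L (Step.L (Step.L (Step.L (Step.L (Step.L (Step.L (Step.L (Step.L (Step.L (Step.D (nat_lit 6428) Step.done))))))))))))))))))))))) (Scr.cons (nat_lit 1) (nat_lit 1) (Step.B (nat_lit 3622) (Step.F (nat_lit 3623) (Step.F (nat_lit 4609) Step.done))) (Scr.cons (nat_lit 0) (nat_lit 1) (Step.B (nat_lit 3620) (Step.B (nat_lit 4610) (Step.D (nat_lit 9092) Step.done))) (Scr.cons (nat_lit 0) (nat_lit 1) (Step.D (nat_lit 9092)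 (Step.F (nat_lit 4611) Step.done)) (Scr.cons (nat_lit 12) (nat_lit 4) (Step.U (nat_lit 728) (Step.F (nat_lit 3686) (Step.D (nat_lit 261) (Step.D (nat_lit 728) (Step.D (nat_lit 1688) Step.done))))) (Scr.cons (nat_lit 12) (nat_lit 4) (Step.U (nat_lit 1689) (Step.D (nat_lit 1688) (Step.F (nat_lit 4613) (Step.D (nat_lit 1689) (Step.D (nat_lit 3349) Step.done))))) (Scr.cons (nat_lit 14) (nat_lit 3) (Step.F (nat_lit 4594) (Step.D (nat_lit 3982) (Step.F (nat_lit 4590) (Step.L (Step.L (Step.L (Step.L (Step.L (Step.L (Step.L (Step.D (nat_lit 3965) (Step.F (nat_lit 4612) (Step.U (nat_lit 5931) (Step.U (nat_lit 3351) (Step.F (nat_lit 3690) (Step.U (nat_lit 729) (Step.D (nat_lit 728) (Step.D (nat_lit 1689) (Step.B (nat_lit 4614) (Step.D (nat_lit 5927) (Step.D (nat_lit 9091) Step.done))))))))))))))))))))) (Scr.cons (nat_lit 1) (nat_lit 0) (Step.D (nat_lit 9091) (Step.F (nat_lit 4615) (Step.D (nat_lit 6827) Step.done))) (Scr.cons (nat_lit 1) (nat_lit 0) (Step.D (nat_lit 6827) (Step.F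 (nat_lit 4616) Step.done)) (Scr.cons (nat_lit 14) (nat_lit 1) (Step.U (nat_lit 8844) (Step.F (nat_lit 4608) (Step.L (Step.L (Step.L (Step.L (Step.L (Step.L (Step.L (Step.L (Step.D (nat_lit 246) (Step.F (nat_lit 564) (Step.B (nat_lit 3686) (Step.D (nat_lit 728) (Step.D (nat_lit 1689) (Step.D (nat_lit 3349) (Step.D (nat_lit 5927) (Step.F (nat_lit 4617) (Step.D (nat_lit 6826) (Step.B (nat_lit 4595) Step.done)))))))))))))))))))) (Scr.cons (nat_lit 16) (nat_lit 0) (Step.B (nat_lit 4600) (Step.U (nat_lit 11131) (Step.F (nat_lit 4603) (Step.B (nat_lit 4606) (Step.U (nat_lit 6841) (Step.U (nat_lit 3990) (Step.F (nat_lit 4607) (Step.L (Step.L (Step.L (Step.L (Step.L (Step.L (Step.L (Step.L (Step.L (Step.L (Step.D (nat_lit 2079) (Step.D (nat_lit 3981) (Step.D (nat_lit 6826) (Step.D (nat_lit 9981) (Step.F (nat_lit 4618) (Step.U (nat_lit 8844) (Step.D (nat_lit 8843) Step.done)))))))))))))))))))))))) (Scr.cons (nat_lit 1) (nat_lit 0) (Step.D (nat_lit 8843) (Step.F (nat_lit 4619) (Step.D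 (nat_lit 11145) Step.done))) (Scr.cons (nat_lit 1) (nat_lit 0) (Step.D (nat_lit 11145) (Step.F (nat_lit 4620) Step.done)) (Scr.cons (nat_lit 4) (nat_lit 0) (Step.U (nat_lit 11144) (Step.U (nat_lit 8175) (Step.D (nat_lit 8176) (Step.B (nat_lit 4621) (Step.D (nat_lit 8844) (Step.B (nat_lit 4618) Step.done)))))) (Scr.cons (nat_lit 1) (nat_lit 1) (Step.D (nat_lit 11144) (Step.B (nat_lit 4622) Step.done)) (Scr.cons (nat_lit 13) (nat_lit 3) (Step.U (nat_lit 9294) (Step.L (Step.L (Step.L (Step.D (nat_lit 6131) (Step.F (nat_lit 4593) (Step.U (nat_lit 3982) (Step.D (nat_lit 3981) (Step.D (nat_lit 6826) (Step.B (nat_lit 4595) (Step.F (nat_lit 4623) (Step.D (nat_lit 11143) Step.done)))))))))))) (Scr.cons (nat_lit 0) (nat_lit 1) (Step.D (nat_lit 11143) (Step.F (nat_lit 4624) Step.done)) (Scr.cons (nat_lit 12) (nat_lit 1) (Step.L (Step.L (Step.L (Step.L (Step.D (nat_lit 3021) Step.done))))) (Scr.cons (nat_lit 7) (nat_lit 5) (Step.F (nat_lit 4603) (Step.U (nat_lit 5145) (Step.U (nat_lit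 2846) (Step.B (nat_lit 4605) (Step.U (nat_lit 2083) (Step.L (Step.L (Step.L (Step.L (Step.L (Step.L (Step.L (Step.L (Step.L (Step.L (Step.L (Step.L (Step.L (Step.B (nat_lit 4626) (Step.D (nat_lit 5434) Step.done)))))))))))))))))))) (Scr.cons (nat_lit 4) (nat_lit 0) (Step.U (nat_lit 8512) (Step.U (nat_lit 5433) (Step.D (nat_lit 5434) (Step.F (nat_lit 4627) (Step.D (nat_lit 11131) Step.done))))) (Scr.cons (nat_lit 7) (nat_lit 1) (Step.L (Step.D (nat_lit 9294) (Step.F (nat_lit 4625) (Step.U (nat_lit 8175) (Step.D (nat_lit 8176) (Step.B (nat_lit 4600) (Step.F (nat_lit 4628) (Step.U (nat_lit 8512) (Step.U (nat_lit 5433) (Step.U (nat_lit 3021) (Step.L (Step.L (Step.L (Step.L (Step.L (Step.L (Step.L (Step.L (Step.L (Step.L (Step.D (nat_lit 9393) Step.done))))))))))))))))))))) (Scr.cons (nat_lit 1) (nat_lit 0) (Step.D (nat_lit 9393) (Step.F (nat_lit 4629) Step.done)) (Scr.cons (nat_lit 12) (nat_lit 4) (Step.L (Step.L (Step.L (Step.L (Step.D (nat_lit 6646) Step.done))))) (Scr.cons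 (nat_lit 12) (nat_lit 4) (Step.L (Step.D (nat_lit 6646) (Step.F (nat_lit 4631) (Step.L (Step.D (nat_lit 9810) Step.done))))) (Scr.cons (nat_lit 12) (nat_lit 4) (Step.L (Step.L (Step.L (Step.L (Step.D (nat_lit 10554) Step.done))))) (Scr.cons (nat_lit 12) (nat_lit 1) (Step.L (Step.L (Step.L (Step.L (Step.D (nat_lit 959) Step.done))))) (Scr.cons (nat_lit 12) (nat_lit 1) (Step.U (nat_lit 2064) (Step.F (nat_lit 4634) (Step.D (nat_lit 959) (Step.D (nat_lit 2064) (Step.D (nat_lit 3966) Step.done))))) (Scr.cons (nat_lit 15) (nat_lit 0) (Step.U (nat_lit 6800) (Step.F (nat_lit 4635) (Step.U (nat_lit 2064) (Step.F (nat_lit 4634) (Step.L (Step.L (Step.L (Step.L (Step.L (Step.L (Step.L (Step.L (Step.L (Step.D (nat_lit 6646) (Step.D (nat_lit 9809) Step.done))))))))))))))) (Scr.cons (nat_lit 11) (nat_lit 0) (Step.U (nat_lit 8842) (Step.L (Step.L (Step.L (Step.D (nat_lit 9989) Step.done))))) (Scr.cons (nat_lit 7) (nat_lit 0) (Step.L (Step.L (Step.L (Step.L (Step.L (Step.L (Step.L (Step.L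 (Step.L (Step.L (Step.L (Step.L (Step.L (Step.L (Step.L (Step.L (Step.L (Step.D (nat_lit 3701) (Step.D (nat_lit 6430) (Step.D (nat_lit 9577) Step.done)))))))))))))))))))) (Scr.cons (nat_lit 4) (nat_lit 0) (Step.F (nat_lit 4638) (Step.L (Step.L (Step.L (Step.L Step.done))))) (Scr.cons (nat_lit 11) (nat_lit 0) (Step.U (nat_lit 6430) (Step.U (nat_lit 3701) (Step.L (Step.D (nat_lit 6429) (Step.D (nat_lit 9576) Step.done))))) (Scr.cons (nat_lit 12) (nat_lit 4) (Step.U (nat_lit 6799) (Step.F (nat_lit 4635) (Step.D (nat_lit 3966) (Step.D (nat_lit 6799) (Step.D (nat_lit 9962) Step.done))))) (Scr.cons (nat_lit 12) (nat_lit 4) (Step.L (Step.L (Step.L (Step.L (Step.D (nat_lit 6428) Step.done))))) Scr.nil))))))))))))))))))))))))))))))))))))))))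
noncomputable def s116 : Scr := (Scr.cons (nat_lit 12) (nat_lit 4) (Step.U (nat_lit 6429) (Step.D (nat_lit 6428) (Step.F (nat_lit 4642) (Step.D (nat_lit 6429) (Step.D (nat_lit 9575) Step.done))))) (Scr.cons (nat_lit 13) (nat_lit 1) (Step.U (nat_lit 6799) (Step.F (nat_lit 4635) (Step.U (nat_lit 2064) (Step.U (nat_lit 959) (Step.L (Step.L (Step.D (nat_lit 3965) (Step.F (nat_lit 4612) (Step.B (nat_lit 4609) (Step.F (nat_lit 4642) (Step.D (nat_lit 6429) (Step.B (nat_lit 4643) Step.done)))))))))))) (Scr.cons (nat_lit 0) (nat_lit 1) (Step.B (nat_lit 4643) (Step.F (nat_lit 4644) (Step.D (nat_lit 9962) Step.done))) (Scr.cons (nat_lit 0) (nat_lit 0) (Step.B (nat_lit 4641) (Step.F (nat_lit 4645) Step.done)) (Scr.cons (nat_lit 7) (nat_lit 3) (Step.B (nat_lit 4637) (Step.U (nat_lit 9989) (Step.L (Step.L (Step.L (Step.L (Step.L (Step.L (Step.L (Step.L (Step.L (Step.L (Step.F (nat_lit 4639) (Step.U (nat_lit 9577) (Step.B (nat_lit 4640) (Step.U (nat_lit 9576) (Step.F (nat_lit 4646)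 (Step.U (nat_lit 6799) (Step.D (nat_lit 6800) (Step.D (nat_lit 9963) Step.done)))))))))))))))))))) (Scr.cons (nat_lit 6) (nat_lit 0) (Step.L (Step.B (nat_lit 4631) (Step.D (nat_lit 9809) (Step.F (nat_lit 4636) (Step.D (nat_lit 9963) (Step.F (nat_lit 4647) (Step.U (nat_lit 8842) (Step.L (Step.L (Step.L (Step.L (Step.D (nat_lit 10554) Step.done)))))))))))) (Scr.cons (nat_lit 0) (nat_lit 1) (Step.B (nat_lit 4633) (Step.F (nat_lit 4648) (Step.D (nat_lit 9810) Step.done))) (Scr.cons (nat_lit 0) (nat_lit 0) (Step.B (nat_lit 4632) (Step.F (nat_lit 4649) Step.done)) (Scr.cons (nat_lit 11) (nat_lit 0) (Step.L (Step.L (Step.L (Step.L (Step.D (nat_lit 5926) Step.done))))) (Scr.cons (nat_lit 12) (nat_lit 1) (Step.U (nat_lit 7322) (Step.L (Step.L (Step.D (nat_lit 7322) (Step.D (nat_lit 10393) Step.done))))) (Scr.cons (nat_lit 9) (nat_lit 4) (Step.U (nat_lit 9089) (Step.L (Step.B (nat_lit 4651) (Step.U (nat_lit 5926) (Step.L (Step.L (Step.L (Step.L (Step.L (Step.L (Step.L (Step.B (nat_lit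 2272) (Step.B (nat_lit 2271) (Step.L (Step.L (Step.L (Step.L (Step.L (Step.B (nat_lit 3578) (Step.B (nat_lit 3579) (Step.F (nat_lit 3588) (Step.U (nat_lit 7321) (Step.D (nat_lit 7322) (Step.B (nat_lit 4652) Step.done)))))))))))))))))))))))) (Scr.cons (nat_lit 0) (nat_lit 1) (Step.D (nat_lit 10393) (Step.F (nat_lit 4653) Step.done)) (Scr.cons (nat_lit 13) (nat_lit 0) (Step.U (nat_lit 7321) (Step.L (Step.L (Step.L (Step.L (Step.D (nat_lit 446) (Step.D (nat_lit 1136) (Step.B (nat_lit 3591) (Step.D (nat_lit 4402) (Step.D (nat_lit 7316) (Step.D (nat_lit 10389) Step.done))))))))))) (Scr.cons (nat_lit 12) (nat_lit 1) (Step.L (Step.L (Step.L (Step.L (Step.D (nat_lit 3765) Step.done))))) (Scr.cons (nat_lit 14) (nat_lit 2) (Step.F (nat_lit 3592) (Step.U (nat_lit 4402) (Step.U (nat_lit 2368) (Step.B (nat_lit 3594) (Step.U (nat_lit 1579) (Step.L (Step.L (Step.L (Step.L (Step.L (Step.L (Step.L (Step.L (Step.L (Step.L (Step.L (Step.L (Step.L (Step.B (nat_lit 4656) (Step.D (nat_lit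 6521) Step.done)))))))))))))))))))) (Scr.cons (nat_lit 11) (nat_lit 0) (Step.U (nat_lit 9666) (Step.U (nat_lit 6522) (Step.D (nat_lit 6521) (Step.F (nat_lit 4657) (Step.D (nat_lit 10389) Step.done))))) (Scr.cons (nat_lit 11) (nat_lit 0) (Step.L (Step.L (Step.L (Step.L (Step.D (nat_lit 5780) Step.done))))) (Scr.cons (nat_lit 14) (nat_lit 5) (Step.U (nat_lit 9090) (Step.D (nat_lit 9089) (Step.F (nat_lit 4654) (Step.U (nat_lit 7322) (Step.D (nat_lit 7321) (Step.B (nat_lit 4655) (Step.F (nat_lit 4658) (Step.U (nat_lit 9666) (Step.U (nat_lit 6522) (Step.U (nat_lit 3765) (Step.L (Step.L (Step.L (Step.L (Step.L (Step.L (Step.L (Step.D (nat_lit 5780) (Step.F (nat_lit 4659) (Step.L (Step.L Step.done))))))))))))))))))))) (Scr.cons (nat_lit 1) (nat_lit 0) (Step.D (nat_lit 9090) (Step.B (nat_lit 4660) Step.done)) (Scr.cons (nat_lit 12) (nat_lit 4) (Step.L (Step.L (Step.L (Step.L (Step.D (nat_lit 9661) Step.done))))) (Scr.cons (nat_lit 12) (nat_lit 1) (Step.L (Step.L (Step.L (Step.L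 (Step.D (nat_lit 9172) Step.done))))) (Scr.cons (nat_lit 6) (nat_lit 1) (Step.L (Step.L (Step.L (Step.L (Step.L (Step.L (Step.L (Step.L (Step.L (Step.L (Step.D (nat_lit 9660) Step.done))))))))))) (Scr.cons (nat_lit 8) (nat_lit 1) (Step.U (nat_lit 6038) (Step.U (nat_lit 3428) (Step.U (nat_lit 1745) (Step.U (nat_lit 772) (Step.L (Step.L (Step.L (Step.L (Step.L (Step.L (Step.L (Step.L (Step.L (Step.D (nat_lit 9660) (Step.F (nat_lit 4664) (Step.D (nat_lit 9662) Step.done)))))))))))))))) (Scr.cons (nat_lit 1) (nat_lit 1) (Step.D (nat_lit 9662) (Step.F (nat_lit 4665) (Step.D (nat_lit 9186) Step.done))) (Scr.cons (nat_lit 1) (nat_lit 1) (Step.D (nat_lit 9186) (Step.F (nat_lit 4666) Step.done)) (Scr.cons (nat_lit 12) (nat_lit 1) (Step.U (nat_lit 1746) (Step.L (Step.L (Step.D (nat_lit 1746) (Step.D (nat_lit 3429) Step.done))))) (Scr.cons (nat_lit 8) (nat_lit 1) (Step.U (nat_lit 3430) (Step.U (nat_lit 1747) (Step.U (nat_lit 773) (Step.L (Step.L (Step.L (Step.L (Step.L (Step.L (Step.L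 (Step.L (Step.L (Step.D (nat_lit 1746) (Step.B (nat_lit 4668) (Step.D (nat_lit 6039) Step.done))))))))))))))) (Scr.cons (nat_lit 14) (nat_lit 6) (Step.U (nat_lit 9187) (Step.F (nat_lit 4669) (Step.D (nat_lit 6040) (Step.D (nat_lit 9188) (Step.F (nat_lit 2946) (Step.F (nat_lit 2947) (Step.U (nat_lit 6064) (Step.U (nat_lit 3450) (Step.L (Step.L (Step.L (Step.L (Step.L (Step.L (Step.L (Step.L (Step.L (Step.L (Step.D (nat_lit 3446) (Step.D (nat_lit 6057) (Step.D (nat_lit 9206) Step.done))))))))))))))))))))) (Scr.cons (nat_lit 1) (nat_lit 1) (Step.D (nat_lit 9206) (Step.F (nat_lit 4670) Step.done)) (Scr.cons (nat_lit 12) (nat_lit 1) (Step.L (Step.L (Step.L (Step.L (Step.D (nat_lit 3446) Step.done))))) (Scr.cons (nat_lit 12) (nat_lit 4) (Step.U (nat_lit 6057) (Step.F (nat_lit 4672) (Step.D (nat_lit 3446) (Step.D (nat_lit 6057) (Step.D (nat_lit 9205) Step.done))))) (Scr.cons (nat_lit 12) (nat_lit 1) (Step.L (Step.L (Step.L (Step.L (Step.D (nat_lit 11046) Step.done))))) (Scr.cons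 (nat_lit 11) (nat_lit 0) (Step.L (Step.L (Step.L (Step.D (nat_lit 5198) (Step.D (nat_lit 8218) Step.done))))) (Scr.cons (nat_lit 1) (nat_lit 0) (Step.B (nat_lit 4675) (Step.B (nat_lit 1708) Step.done)) (Scr.cons (nat_lit 16) (nat_lit 5) (Step.F (nat_lit 4674) (Step.L (Step.L (Step.L (Step.L (Step.L (Step.D (nat_lit 2780) (Step.D (nat_lit 5051) (Step.D (nat_lit 8065) (Step.F (nat_lit 4676) (Step.L (Step.L (Step.L (Step.L (Step.L (Step.L (Step.L (Step.L (Step.L (Step.L (Step.L (Step.L (Step.D (nat_lit 8214) Step.done))))))))))))))))))))))) (Scr.cons (nat_lit 12) (nat_lit 1) (Step.F (nat_lit 4677) (Step.F (nat_lit 4674) (Step.D (nat_lit 11046) (Step.B (nat_lit 4677) (Step.D (nat_lit 11185) Step.done))))) (Scr.cons (nat_lit 13) (nat_lit 1) (Step.F (nat_lit 4678) (Step.F (nat_lit 4677) (Step.U (nat_lit 11046) (Step.L (Step.L (Step.L (Step.L (Step.L (Step.D (nat_lit 3446) (Step.D (nat_lit 6057) (Step.B (nat_lit 4673) Step.done))))))))))) (Scr.cons (nat_lit 9) (nat_lit 0) (Step.L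 (Step.L (Step.F (nat_lit 4667) (Step.U (nat_lit 6038) (Step.U (nat_lit 3428) (Step.U (nat_lit 1745) (Step.U (nat_lit 772) (Step.L (Step.L (Step.L (Step.D (nat_lit 1746) (Step.B (nat_lit 4668) (Step.D (nat_lit 6039) (Step.D (nat_lit 9187) (Step.F (nat_lit 4671) (Step.B (nat_lit 4673) (Step.F (nat_lit 4679) (Step.U (nat_lit 11185) (Step.U (nat_lit 8214) (Step.L (Step.L (Step.L (Step.L (Step.B (nat_lit 4663) Step.done)))))))))))))))))))))))) (Scr.cons (nat_lit 0) (nat_lit 1) (Step.B (nat_lit 4663) (Step.F (nat_lit 4680) (Step.D (nat_lit 9661) Step.done))) (Scr.cons (nat_lit 0) (nat_lit 0) (Step.B (nat_lit 4662) (Step.F (nat_lit 4681) Step.done)) Scr.nil))))))))))))))))))))))))))))))))))))))))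
noncomputable def s117 : Scr := (Scr.cons (nat_lit 12) (nat_lit 1) (Step.L (Step.L (Step.L (Step.L (Step.D (nat_lit 4730) Step.done))))) (Scr.cons (nat_lit 12) (nat_lit 1) (Step.L (Step.D (nat_lit 4730) (Step.F (nat_lit 4683) (Step.L (Step.D (nat_lit 7707) Step.done))))) (Scr.cons (nat_lit 13) (nat_lit 0) (Step.U (nat_lit 9566) (Step.L (Step.L (Step.L (Step.L (Step.L (Step.L (Step.L (Step.L (Step.D (nat_lit 7707) (Step.D (nat_lit 10726) Step.done))))))))))) (Scr.cons (nat_lit 5) (nat_lit 2) (Step.U (nat_lit 10726) (Step.U (nat_lit 7707) (Step.B (nat_lit 4684) (Step.D (nat_lit 10726) (Step.F (nat_lit 4685) Step.done))))) (Scr.cons (nat_lit 11) (nat_lit 0) (Step.U (nat_lit 4869) (Step.U (nat_lit 2660) (Step.D (nat_lit 2659) (Step.D (nat_lit 4867) (Step.D (nat_lit 7855) Step.done))))) (Scr.cons (nat_lit 12) (nat_lit 1) (Step.U (nat_lit 2660) (Step.F (nat_lit 736) (Step.D (nat_lit 1297) (Step.D (nat_lit 2660) (Step.D (nat_lit 4868) Step.done))))) (Scr.cons (nat_lit 12) (nat_lit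 1) (Step.U (nat_lit 4869) (Step.D (nat_lit 4868) (Step.F (nat_lit 4688) (Step.D (nat_lit 4869) (Step.D (nat_lit 7857) Step.done))))) (Scr.cons (nat_lit 12) (nat_lit 1) (Step.F (nat_lit 4687) (Step.D (nat_lit 7857) (Step.F (nat_lit 4689) (Step.B (nat_lit 4687) (Step.D (nat_lit 10850) Step.done))))) (Scr.cons (nat_lit 7) (nat_lit 5) (Step.F (nat_lit 4690) (Step.U (nat_lit 7855) (Step.U (nat_lit 4867) (Step.U (nat_lit 2659) (Step.U (nat_lit 1297) (Step.D (nat_lit 1298) (Step.B (nat_lit 734) (Step.D (nat_lit 4866) (Step.B (nat_lit 739) (Step.B (nat_lit 4027) (Step.U (nat_lit 4733) (Step.U (nat_lit 2569) (Step.L (Step.L (Step.L (Step.L (Step.L (Step.L (Step.B (nat_lit 4684) (Step.D (nat_lit 10727) Step.done)))))))))))))))))))) (Scr.cons (nat_lit 16) (nat_lit 1) (Step.F (nat_lit 4690) (Step.F (nat_lit 4687) (Step.U (nat_lit 4869) (Step.U (nat_lit 2660) (Step.F (nat_lit 736) (Step.U (nat_lit 528) (Step.L (Step.L (Step.L (Step.L (Step.L (Step.L (Step.L (Step.L (Step.L (Step.L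 (Step.L (Step.L (Step.L (Step.L (Step.L (Step.D (nat_lit 4871) (Step.D (nat_lit 7862) Step.done))))))))))))))))))))))) (Scr.cons (nat_lit 4) (nat_lit 0) (Step.U (nat_lit 10726) (Step.D (nat_lit 10727) (Step.F (nat_lit 4691) (Step.B (nat_lit 4692) (Step.D (nat_lit 10860) Step.done))))) (Scr.cons (nat_lit 11) (nat_lit 0) (Step.L (Step.L (Step.L (Step.L (Step.D (nat_lit 4871) Step.done))))) (Scr.cons (nat_lit 12) (nat_lit 1) (Step.F (nat_lit 4694) (Step.L (Step.L (Step.B (nat_lit 4694) (Step.D (nat_lit 7862) Step.done))))) (Scr.cons (nat_lit 14) (nat_lit 6) (Step.D (nat_lit 9566) (Step.F (nat_lit 4686) (Step.B (nat_lit 4693) (Step.U (nat_lit 10860) (Step.F (nat_lit 4695) (Step.F (nat_lit 4694) (Step.L (Step.L (Step.L (Step.L (Step.L (Step.L (Step.L (Step.L (Step.L (Step.L (Step.L (Step.L (Step.L (Step.L (Step.D (nat_lit 10140) Step.done))))))))))))))))))))) (Scr.cons (nat_lit 1) (nat_lit 0) (Step.D (nat_lit 10140) (Step.F (nat_lit 4696) (Step.D (nat_lit 9567) Step.done)))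 (Scr.cons (nat_lit 1) (nat_lit 0) (Step.D (nat_lit 9567) (Step.F (nat_lit 4697) Step.done)) (Scr.cons (nat_lit 12) (nat_lit 4) (Step.L (Step.L (Step.L (Step.L (Step.D (nat_lit 10717) Step.done))))) (Scr.cons (nat_lit 12) (nat_lit 1) (Step.U (nat_lit 1229) (Step.L (Step.L (Step.D (nat_lit 1229) (Step.D (nat_lit 2539) Step.done))))) (Scr.cons (nat_lit 12) (nat_lit 1) (Step.U (nat_lit 4683) (Step.F (nat_lit 4700) (Step.D (nat_lit 2539) (Step.D (nat_lit 4683) (Step.D (nat_lit 7652) Step.done))))) (Scr.cons (nat_lit 15) (nat_lit 1) (Step.F (nat_lit 4701) (Step.U (nat_lit 4683) (Step.F (nat_lit 4700) (Step.U (nat_lit 1229) (Step.L (Step.L (Step.L (Step.L (Step.L (Step.L (Step.L (Step.L (Step.L (Step.L (Step.L Step.done))))))))))))))) (Scr.cons (nat_lit 9) (nat_lit 3) (Step.L (Step.L (Step.L (Step.L (Step.L (Step.L (Step.L (Step.L (Step.L (Step.L (Step.L (Step.L (Step.L (Step.L (Step.L (Step.L (Step.D (nat_lit 1229) (Step.B (nat_lit 4700) (Step.D (nat_lit 4683) (Step.B (nat_lit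 4701) (Step.B (nat_lit 4702) (Step.L (Step.D (nat_lit 10686) Step.done))))))))))))))))))))))) (Scr.cons (nat_lit 12) (nat_lit 0) (Step.B (nat_lit 4703) (Step.U (nat_lit 10686) (Step.L (Step.L (Step.D (nat_lit 10686) Step.done))))) (Scr.cons (nat_lit 12) (nat_lit 4) (Step.U (nat_lit 1634) (Step.L (Step.L (Step.D (nat_lit 1634) (Step.D (nat_lit 3250) Step.done))))) (Scr.cons (nat_lit 13) (nat_lit 2) (Step.L (Step.L (Step.L (Step.L (Step.L (Step.L (Step.L (Step.L (Step.D (nat_lit 1634) (Step.B (nat_lit 4705) (Step.D (nat_lit 5762) Step.done))))))))))) (Scr.cons (nat_lit 12) (nat_lit 1) (Step.U (nat_lit 2188) (Step.L (Step.L (Step.D (nat_lit 2188) (Step.D (nat_lit 4152) Step.done))))) (Scr.cons (nat_lit 12) (nat_lit 4) (Step.U (nat_lit 7019) (Step.F (nat_lit 4707) (Step.D (nat_lit 4152) (Step.D (nat_lit 7019) (Step.D (nat_lit 10147) Step.done))))) (Scr.cons (nat_lit 12) (nat_lit 4) (Step.U (nat_lit 168) (Step.L (Step.L (Step.D (nat_lit 168) (Step.D (nat_lit 491) Step.done)))))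 (Scr.cons (nat_lit 12) (nat_lit 4) (Step.U (nat_lit 492) (Step.D (nat_lit 491) (Step.F (nat_lit 4709) (Step.D (nat_lit 492) (Step.D (nat_lit 1232) Step.done))))) (Scr.cons (nat_lit 12) (nat_lit 4) (Step.U (nat_lit 2543) (Step.F (nat_lit 4710) (Step.D (nat_lit 1232) (Step.D (nat_lit 2543) (Step.D (nat_lit 4687) Step.done))))) (Scr.cons (nat_lit 12) (nat_lit 4) (Step.U (nat_lit 7655) (Step.F (nat_lit 4711) (Step.D (nat_lit 4687) (Step.D (nat_lit 7655) (Step.D (nat_lit 10684) Step.done))))) (Scr.cons (nat_lit 11) (nat_lit 0) (Step.L (Step.L (Step.L (Step.D (nat_lit 880) (Step.D (nat_lit 1904) Step.done))))) (Scr.cons (nat_lit 12) (nat_lit 4) (Step.U (nat_lit 880) (Step.L (Step.L (Step.D (nat_lit 880) (Step.D (nat_lit 1903) Step.done))))) (Scr.cons (nat_lit 12) (nat_lit 1) (Step.U (nat_lit 3691) (Step.F (nat_lit 4714) (Step.D (nat_lit 1903) (Step.D (nat_lit 3691) (Step.D (nat_lit 6418) Step.done))))) (Scr.cons (nat_lit 9) (nat_lit 1) (Step.U (nat_lit 7655) (Step.U (nat_lit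 4687) (Step.U (nat_lit 2543) (Step.U (nat_lit 1232) (Step.U (nat_lit 492) (Step.U (nat_lit 168) (Step.L (Step.L (Step.L (Step.L (Step.L (Step.L (Step.L (Step.L (Step.L (Step.L (Step.L (Step.B (nat_lit 4713) (Step.U (nat_lit 1904) (Step.B (nat_lit 4714) (Step.D (nat_lit 3691) (Step.B (nat_lit 4715) (Step.D (nat_lit 9561) Step.done))))))))))))))))))))))) (Scr.cons (nat_lit 12) (nat_lit 1) (Step.U (nat_lit 7014) (Step.L (Step.L (Step.D (nat_lit 7014) (Step.D (nat_lit 10141) Step.done))))) (Scr.cons (nat_lit 12) (nat_lit 1) (Step.F (nat_lit 4713) (Step.L (Step.L (Step.B (nat_lit 4713) (Step.D (nat_lit 3692) Step.done))))) (Scr.cons (nat_lit 12) (nat_lit 4) (Step.U (nat_lit 6419) (Step.F (nat_lit 4718) (Step.D (nat_lit 3692) (Step.D (nat_lit 6419) (Step.D (nat_lit 9562) Step.done))))) (Scr.cons (nat_lit 12) (nat_lit 1) (Step.U (nat_lit 1246) (Step.D (nat_lit 1245) (Step.F (nat_lit 369) (Step.D (nat_lit 1246) (Step.D (nat_lit 2567) Step.done))))) (Scr.cons (nat_lit 12) (nat_lit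 4) (Step.U (nat_lit 4727) (Step.F (nat_lit 4720) (Step.D (nat_lit 2567) (Step.D (nat_lit 4727) (Step.D (nat_lit 7704) Step.done))))) (Scr.cons (nat_lit 13) (nat_lit 2) (Step.L (Step.L (Step.L (Step.B (nat_lit 370) (Step.U (nat_lit 2566) (Step.U (nat_lit 1245) (Step.D (nat_lit 1246) (Step.D (nat_lit 2567) (Step.D (nat_lit 4727) (Step.B (nat_lit 4721) (Step.D (nat_lit 10724) Step.done))))))))))) Scr.nil))))))))))))))))))))))))))))))))))))))))
noncomputable def s118 : Scr := (Scr.cons (nat_lit 12) (nat_lit 1) (Step.U (nat_lit 4763) (Step.L (Step.L (Step.D (nat_lit 4763) (Step.D (nat_lit 7740) Step.done))))) (Scr.cons (nat_lit 6) (nat_lit 3) (Step.U (nat_lit 1393) (Step.U (nat_lit 577) (Step.L (Step.L (Step.L (Step.L (Step.L (Step.L (Step.L (Step.L (Step.D (nat_lit 2595) Step.done))))))))))) (Scr.cons (nat_lit 15) (nat_lit 1) (Step.F (nat_lit 4723) (Step.U (nat_lit 4763) (Step.L (Step.L (Step.L (Step.L (Step.L (Step.L (Step.L (Step.L (Step.L (Step.D (nat_lit 2595) (Step.F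 (nat_lit 4724) (Step.D (nat_lit 2834) (Step.D (nat_lit 5124) Step.done))))))))))))))) (Scr.cons (nat_lit 11) (nat_lit 0) (Step.U (nat_lit 2835) (Step.U (nat_lit 1394) (Step.D (nat_lit 1393) (Step.D (nat_lit 2834) (Step.D (nat_lit 5125) Step.done))))) (Scr.cons (nat_lit 12) (nat_lit 4) (Step.L (Step.L (Step.L (Step.L (Step.D (nat_lit 1382) Step.done))))) (Scr.cons (nat_lit 12) (nat_lit 1) (Step.L (Step.L (Step.L (Step.L (Step.D (nat_lit 577) Step.done))))) (Scr.cons (nat_lit 15) (nat_lit 0) (Step.U (nat_lit 1394) (Step.F (nat_lit 4728) (Step.L (Step.L (Step.L (Step.L (Step.L (Step.L (Step.L (Step.L (Step.L (Step.L (Step.L (Step.D (nat_lit 1382) (Step.D (nat_lit 2816) Step.done))))))))))))))) (Scr.cons (nat_lit 12) (nat_lit 4) (Step.U (nat_lit 2816) (Step.F (nat_lit 4727) (Step.D (nat_lit 1382) (Step.D (nat_lit 2816) (Step.F (nat_lit 4729) Step.done))))) (Scr.cons (nat_lit 12) (nat_lit 1) (Step.U (nat_lit 2835) (Step.F (nat_lit 4730) (Step.F (nat_lit 4729) (Step.D (nat_lit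 2835) (Step.D (nat_lit 5126) Step.done))))) (Scr.cons (nat_lit 12) (nat_lit 4) (Step.U (nat_lit 1383) (Step.D (nat_lit 1382) (Step.F (nat_lit 4727) (Step.D (nat_lit 1383) (Step.D (nat_lit 2817) Step.done))))) (Scr.cons (nat_lit 12) (nat_lit 1) (Step.U (nat_lit 5103) (Step.F (nat_lit 4732) (Step.D (nat_lit 2817) (Step.D (nat_lit 5103) (Step.D (nat_lit 8116) Step.done))))) (Scr.cons (nat_lit 6) (nat_lit 3) (Step.U (nat_lit 8140) (Step.U (nat_lit 5126) (Step.U (nat_lit 2835) (Step.F (nat_lit 4730) (Step.U (nat_lit 2816) (Step.U (nat_lit 1382) (Step.D (nat_lit 1383) (Step.D (nat_lit 2817) (Step.D (nat_lit 5103) (Step.B (nat_lit 4733) (Step.D (nat_lit 11094) Step.done))))))))))) (Scr.cons (nat_lit 9) (nat_lit 5) (Step.U (nat_lit 2818) (Step.U (nat_lit 1383) (Step.L (Step.L (Step.L (Step.L (Step.L (Step.L (Step.L (Step.L (Step.L (Step.L (Step.L (Step.L (Step.L (Step.L (Step.L (Step.L (Step.L (Step.L (Step.L (Step.L (Step.D (nat_lit 3258) Step.done))))))))))))))))))))))) (Scr.cons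 (nat_lit 8) (nat_lit 1) (Step.U (nat_lit 8965) (Step.U (nat_lit 5829) (Step.F (nat_lit 1139) (Step.U (nat_lit 3259) (Step.L (Step.L (Step.L (Step.L (Step.D (nat_lit 3258) (Step.F (nat_lit 4735) (Step.U (nat_lit 2818) (Step.B (nat_lit 4732) (Step.D (nat_lit 5103) (Step.B (nat_lit 4733) (Step.D (nat_lit 11095) Step.done))))))))))))))) (Scr.cons (nat_lit 1) (nat_lit 1) (Step.B (nat_lit 1137) (Step.B (nat_lit 2569) (Step.L Step.done))) (Scr.cons (nat_lit 1) (nat_lit 1) (Step.U (nat_lit 8965) (Step.B (nat_lit 4737) (Step.L Step.done))) (Scr.cons (nat_lit 0) (nat_lit 1) (Step.F (nat_lit 4736) (Step.B (nat_lit 4738) (Step.L Step.done))) (Scr.cons (nat_lit 1) (nat_lit 1) (Step.D (nat_lit 11095) (Step.B (nat_lit 4739) (Step.L Step.done))) (Scr.cons (nat_lit 1) (nat_lit 1) (Step.U (nat_lit 11094) (Step.B (nat_lit 4740) (Step.L Step.done))) (Scr.cons (nat_lit 0) (nat_lit 1) (Step.B (nat_lit 4734) (Step.B (nat_lit 4741) (Step.L Step.done))) (Scr.cons (nat_lit 1) (nat_lit 0) (Step.D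 (nat_lit 8140) (Step.B (nat_lit 4742) (Step.D (nat_lit 46) Step.done))) (Scr.cons (nat_lit 0) (nat_lit 1) (Step.B (nat_lit 4731) (Step.B (nat_lit 4743) (Step.D (nat_lit 170) Step.done))) (Scr.cons (nat_lit 1) (nat_lit 0) (Step.F (nat_lit 4726) (Step.B (nat_lit 4744) (Step.D (nat_lit 499) Step.done))) (Scr.cons (nat_lit 1) (nat_lit 0) (Step.D (nat_lit 5125) (Step.B (nat_lit 4745) (Step.D (nat_lit 1246) Step.done))) (Scr.cons (nat_lit 0) (nat_lit 1) (Step.U (nat_lit 5124) (Step.B (nat_lit 4746) (Step.D (nat_lit 2567) Step.done))) (Scr.cons (nat_lit 1) (nat_lit 1) (Step.B (nat_lit 4725) (Step.B (nat_lit 4747) (Step.D (nat_lit 4727) Step.done))) (Scr.cons (nat_lit 0) (nat_lit 1) (Step.B (nat_lit 4723) (Step.B (nat_lit 4748) (Step.D (nat_lit 7704) Step.done))) (Scr.cons (nat_lit 1) (nat_lit 0) (Step.U (nat_lit 10724) (Step.F (nat_lit 4749) (Step.D (nat_lit 7741) Step.done))) (Scr.cons (nat_lit 0) (nat_lit 1) (Step.B (nat_lit 4722) (Step.B (nat_lit 4750) (Step.D (nat_lit 10748)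 Step.done))) (Scr.cons (nat_lit 0) (nat_lit 1) (Step.D (nat_lit 10748) (Step.F (nat_lit 4751) Step.done)) (Scr.cons (nat_lit 11) (nat_lit 0) (Step.U (nat_lit 7741) (Step.U (nat_lit 4763) (Step.L (Step.L (Step.D (nat_lit 10747) Step.done))))) (Scr.cons (nat_lit 16) (nat_lit 2) (Step.F (nat_lit 4753) (Step.U (nat_lit 7741) (Step.U (nat_lit 4763) (Step.L (Step.L (Step.L (Step.L (Step.L (Step.L (Step.L (Step.L (Step.L (Step.L (Step.L (Step.L (Step.L (Step.L (Step.L (Step.L (Step.L (Step.L (Step.L (Step.D (nat_lit 7953) Step.done))))))))))))))))))))))) (Scr.cons (nat_lit 8) (nat_lit 1) (Step.F (nat_lit 4686) (Step.U (nat_lit 10726) (Step.U (nat_lit 7707) (Step.L (Step.L (Step.L (Step.F (nat_lit 4752) (Step.B (nat_lit 4753) (Step.B (nat_lit 4754) (Step.U (nat_lit 7953) (Step.L (Step.L (Step.L (Step.L (Step.L (Step.D (nat_lit 10942) Step.done)))))))))))))))) (Scr.cons (nat_lit 1) (nat_lit 0) (Step.D (nat_lit 10942) (Step.F (nat_lit 4755) Step.done)) (Scr.cons (nat_lit 9) (nat_lit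 2) (Step.B (nat_lit 4756) (Step.F (nat_lit 4686) (Step.U (nat_lit 10726) (Step.U (nat_lit 7707) (Step.L (Step.L (Step.L (Step.L (Step.L (Step.L (Step.L (Step.L (Step.L (Step.L (Step.L (Step.L (Step.L (Step.L (Step.L (Step.L (Step.L (Step.L (Step.D (nat_lit 7014) (Step.D (nat_lit 10142) Step.done)))))))))))))))))))))))) (Scr.cons (nat_lit 6) (nat_lit 0) (Step.L (Step.L (Step.L (Step.L (Step.L (Step.L (Step.L (Step.B (nat_lit 4713) (Step.B (nat_lit 4718) (Step.D (nat_lit 6419) (Step.D (nat_lit 9562) Step.done))))))))))) (Scr.cons (nat_lit 1) (nat_lit 1) (Step.D (nat_lit 10142) (Step.F (nat_lit 4757) (Step.B (nat_lit 4758) Step.done))) (Scr.cons (nat_lit 0) (nat_lit 1) (Step.B (nat_lit 4719) (Step.F (nat_lit 4759) (Step.D (nat_lit 10141) Step.done))) (Scr.cons (nat_lit 0) (nat_lit 0) (Step.B (nat_lit 4717) (Step.F (nat_lit 4760) Step.done)) (Scr.cons (nat_lit 15) (nat_lit 0) (Step.F (nat_lit 4715) (Step.U (nat_lit 3691) (Step.F (nat_lit 4714) (Step.D (nat_lit 1904) (Step.D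 (nat_lit 3692) (Step.D (nat_lit 6419) (Step.F (nat_lit 4761) (Step.U (nat_lit 7014) (Step.L (Step.L (Step.L (Step.L (Step.D (nat_lit 2187) (Step.D (nat_lit 4150) (Step.D (nat_lit 7015) (Step.D (nat_lit 10143) Step.done)))))))))))))))) Scr.nil))))))))))))))))))))))))))))))))))))))))
noncomputable def s119 : Scr := (Scr.cons (nat_lit 1) (nat_lit 0) (Step.D (nat_lit 10143) (Step.F (nat_lit 4762) (Step.D (nat_lit 9561) Step.done))) (Scr.cons (nat_lit 1) (nat_lit 0) (Step.B (nat_lit 4716) (Step.F (nat_lit 4763) (Step.D (nat_lit 10144) Step.done))) (Scr.cons (nat_lit 1) (nat_lit 0) (Step.D (nat_lit 10144) (Step.F (nat_lit 4764) Step.done)) (Scr.cons (nat_lit 12) (nat_lit 1) (Step.L (Step.L (Step.L (Step.L (Step.D (nat_lit 2187) Step.done))))) (Scr.cons (nat_lit 13) (nat_lit 1) (Step.F (nat_lit 4712) (Step.F (nat_lit 4765) (Step.U (nat_lit 7015) (Step.U (nat_lit 4150) (Step.F (nat_lit 4766) (Step.L (Step.L (Step.D (nat_lit 2188) (Step.D (nat_lit 4152) (Step.D (nat_lit 7019)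 (Step.B (nat_lit 4708) Step.done))))))))))) (Scr.cons (nat_lit 6) (nat_lit 1) (Step.L (Step.L (Step.L (Step.L (Step.L (Step.L (Step.L (Step.L (Step.D (nat_lit 168) (Step.D (nat_lit 491) (Step.D (nat_lit 1231) Step.done))))))))))) (Scr.cons (nat_lit 8) (nat_lit 1) (Step.B (nat_lit 4708) (Step.F (nat_lit 4767) (Step.U (nat_lit 10684) (Step.U (nat_lit 7655) (Step.U (nat_lit 4687) (Step.U (nat_lit 2543) (Step.U (nat_lit 1232) (Step.U (nat_lit 492) (Step.B (nat_lit 4709) (Step.D (nat_lit 1231) (Step.F (nat_lit 4768) (Step.L (Step.L (Step.L (Step.B (nat_lit 4706) (Step.D (nat_lit 8886) Step.done)))))))))))))))) (Scr.cons (nat_lit 1) (nat_lit 1) (Step.D (nat_lit 8886) (Step.F (nat_lit 4769) (Step.D (nat_lit 10148) Step.done))) (Scr.cons (nat_lit 1) (nat_lit 1) (Step.D (nat_lit 10148) (Step.F (nat_lit 4770) Step.done)) (Scr.cons (nat_lit 12) (nat_lit 1) (Step.U (nat_lit 7020) (Step.F (nat_lit 4707) (Step.D (nat_lit 4152) (Step.D (nat_lit 7020) (Step.D (nat_lit 10149) Step.done)))))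 (Scr.cons (nat_lit 12) (nat_lit 4) (Step.U (nat_lit 1242) (Step.F (nat_lit 220) (Step.B (nat_lit 222) (Step.D (nat_lit 1242) (Step.D (nat_lit 2561) Step.done))))) (Scr.cons (nat_lit 12) (nat_lit 4) (Step.U (nat_lit 4718) (Step.F (nat_lit 4773) (Step.D (nat_lit 2561) (Step.D (nat_lit 4718) (Step.D (nat_lit 7694) Step.done))))) (Scr.cons (nat_lit 12) (nat_lit 1) (Step.U (nat_lit 505) (Step.F (nat_lit 2471) (Step.D (nat_lit 173) (Step.D (nat_lit 505) (Step.D (nat_lit 1256) Step.done))))) (Scr.cons (nat_lit 12) (nat_lit 1) (Step.U (nat_lit 2582) (Step.F (nat_lit 4775) (Step.D (nat_lit 1256) (Step.D (nat_lit 2582) (Step.D (nat_lit 4749) Step.done))))) (Scr.cons (nat_lit 15) (nat_lit 0) (Step.U (nat_lit 7725) (Step.F (nat_lit 4776) (Step.U (nat_lit 2582) (Step.F (nat_lit 4775) (Step.U (nat_lit 505) (Step.F (nat_lit 2471) (Step.L (Step.L (Step.D (nat_lit 172) (Step.B (nat_lit 222) (Step.D (nat_lit 1242) (Step.D (nat_lit 2561) (Step.D (nat_lit 4718) (Step.D (nat_lit 7694) (Step.D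 (nat_lit 10716) Step.done))))))))))))))) (Scr.cons (nat_lit 12) (nat_lit 4) (Step.U (nat_lit 10716) (Step.F (nat_lit 4774) (Step.D (nat_lit 7694) (Step.D (nat_lit 10716) (Step.F (nat_lit 4777) Step.done))))) (Scr.cons (nat_lit 13) (nat_lit 3) (Step.U (nat_lit 1204) (Step.U (nat_lit 480) (Step.F (nat_lit 1919) (Step.L (Step.L (Step.L (Step.L (Step.L (Step.B (nat_lit 2471) (Step.D (nat_lit 505) (Step.D (nat_lit 1256) Step.done))))))))))) (Scr.cons (nat_lit 1) (nat_lit 1) (Step.U (nat_lit 480) (Step.B (nat_lit 3314) (Step.L Step.done))) (Scr.cons (nat_lit 0) (nat_lit 1) (Step.U (nat_lit 1204) (Step.B (nat_lit 4780) (Step.L Step.done))) (Scr.cons (nat_lit 1) (nat_lit 0) (Step.F (nat_lit 4779) (Step.B (nat_lit 4781) (Step.L Step.done))) (Scr.cons (nat_lit 1) (nat_lit 0) (Step.U (nat_lit 2582) (Step.B (nat_lit 4782) (Step.L Step.done))) (Scr.cons (nat_lit 0) (nat_lit 1) (Step.U (nat_lit 4749) (Step.B (nat_lit 4783) (Step.L Step.done))) (Scr.cons (nat_lit 1) (nat_lit 0) (Step.U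 (nat_lit 7725) (Step.B (nat_lit 4784) (Step.D (nat_lit 2188) Step.done))) (Scr.cons (nat_lit 0) (nat_lit 1) (Step.B (nat_lit 4778) (Step.B (nat_lit 4785) (Step.D (nat_lit 4152) Step.done))) (Scr.cons (nat_lit 1) (nat_lit 0) (Step.D (nat_lit 10716) (Step.B (nat_lit 4786) (Step.D (nat_lit 7020) Step.done))) (Scr.cons (nat_lit 0) (nat_lit 1) (Step.B (nat_lit 4774) (Step.B (nat_lit 4787) (Step.D (nat_lit 10149) Step.done))) (Scr.cons (nat_lit 0) (nat_lit 0) (Step.B (nat_lit 4772) (Step.F (nat_lit 4788) Step.done)) (Scr.cons (nat_lit 9) (nat_lit 2) (Step.B (nat_lit 4702) (Step.L (Step.L (Step.L (Step.L (Step.L (Step.L (Step.L (Step.L (Step.B (nat_lit 4706) (Step.F (nat_lit 4771) (Step.U (nat_lit 7019) (Step.D (nat_lit 7020) (Step.B (nat_lit 4789) (Step.U (nat_lit 4718) (Step.U (nat_lit 2561) (Step.U (nat_lit 1242) (Step.U (nat_lit 497) (Step.L (Step.L (Step.L (Step.L (Step.D (nat_lit 7698) (Step.D (nat_lit 10718) Step.done)))))))))))))))))))))))) (Scr.cons (nat_lit 1) (nat_lit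 1) (Step.D (nat_lit 10718) (Step.F (nat_lit 4790) (Step.D (nat_lit 10677) Step.done))) (Scr.cons (nat_lit 1) (nat_lit 1) (Step.D (nat_lit 10677) (Step.F (nat_lit 4791) Step.done)) (Scr.cons (nat_lit 4) (nat_lit 0) (Step.L (Step.D (nat_lit 7698) (Step.F (nat_lit 4792) (Step.B (nat_lit 4702) (Step.L (Step.D (nat_lit 10686) Step.done)))))) (Scr.cons (nat_lit 0) (nat_lit 1) (Step.B (nat_lit 4704) (Step.F (nat_lit 4793) (Step.D (nat_lit 10717) Step.done))) (Scr.cons (nat_lit 0) (nat_lit 0) (Step.B (nat_lit 4699) (Step.F (nat_lit 4794) Step.done)) (Scr.cons (nat_lit 12) (nat_lit 1) (Step.U (nat_lit 4950) (Step.F (nat_lit 3447) (Step.D (nat_lit 2711) (Step.D (nat_lit 4950) (Step.D (nat_lit 7962) Step.done))))) (Scr.cons (nat_lit 0) (nat_lit 0) (Step.B (nat_lit 4796) (Step.F (nat_lit 3515) Step.done)) (Scr.cons (nat_lit 11) (nat_lit 0) (Step.U (nat_lit 7261) (Step.U (nat_lit 4339) (Step.D (nat_lit 4338) (Step.D (nat_lit 7259) (Step.D (nat_lit 10339) Step.done))))) (Scr.cons (nat_lit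 1) (nat_lit 1) (Step.B (nat_lit 4798) (Step.F (nat_lit 3513) (Step.D (nat_lit 4949) Step.done))) (Scr.cons (nat_lit 1) (nat_lit 1) (Step.D (nat_lit 7261) (Step.B (nat_lit 4799) (Step.D (nat_lit 7961) Step.done))) (Scr.cons (nat_lit 1) (nat_lit 1) (Step.D (nat_lit 7961) (Step.F (nat_lit 4800) Step.done)) (Scr.cons (nat_lit 12) (nat_lit 1) (Step.U (nat_lit 4339) (Step.F (nat_lit 3459) (Step.D (nat_lit 2315) (Step.D (nat_lit 4339) (Step.D (nat_lit 7260) Step.done))))) Scr.nil))))))))))))))))))))))))))))))))))))))))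
noncomputable def s120 : Scr := (Scr.cons (nat_lit 4) (nat_lit 0) (Step.U (nat_lit 1101) (Step.L (Step.L (Step.L (Step.D (nat_lit 2308) Step.done))))) (Scr.cons (nat_lit 16) (nat_lit 5) (Step.F (nat_lit 4802) (Step.U (nat_lit 4339) (Step.F (nat_lit 3459) (Step.B (nat_lit 4803) (Step.U (nat_lit 2308) (Step.L (Step.L (Step.L (Step.L (Step.L (Step.L (Step.L (Step.L (Step.L (Step.L (Step.L (Step.L (Step.L (Step.L (Step.D (nat_lit 1372) (Step.D (nat_lit 2803) (Step.D (nat_lit 5084) (Step.D (nat_lit 8097) Step.done))))))))))))))))))))))) (Scr.cons (nat_lit 4) (nat_lit 0) (Step.B (nat_lit 4804) (Step.U (nat_lit 8097) (Step.U (nat_lit 5084) (Step.D (nat_lit 5085) (Step.D (nat_lit 8099) Step.done))))) (Scr.cons (nat_lit 12) (nat_lit 4) (Step.U (nat_lit 1372) (Step.L (Step.L (Step.D (nat_lit 1372) (Step.D (nat_lit 2803) Step.done))))) (Scr.cons (nat_lit 13) (nat_lit 3) (Step.L (Step.L (Step.L (Step.L (Step.L (Step.L (Step.L (Step.D (nat_lit 1372) (Step.B (nat_lit 4806) (Step.D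 (nat_lit 5085) (Step.D (nat_lit 8098) Step.done))))))))))) (Scr.cons (nat_lit 14) (nat_lit 0) (Step.L (Step.L (Step.L (Step.L (Step.L (Step.L (Step.L (Step.B (nat_lit 3524) (Step.D (nat_lit 3845) (Step.D (nat_lit 6626) (Step.F (nat_lit 4797) (Step.U (nat_lit 4950) (Step.D (nat_lit 4949) (Step.B (nat_lit 4801) (Step.B (nat_lit 4802) (Step.B (nat_lit 4805) (Step.U (nat_lit 8099) (Step.D (nat_lit 8098) (Step.F (nat_lit 4807) (Step.L (Step.D (nat_lit 11078) Step.done))))))))))))))))))))) (Scr.cons (nat_lit 1) (nat_lit 0) (Step.D (nat_lit 11078) (Step.F (nat_lit 4808) (Step.D (nat_lit 9874) Step.done))) (Scr.cons (nat_lit 1) (nat_lit 0) (Step.D (nat_lit 9874) (Step.F (nat_lit 4809) Step.done)) (Scr.cons (nat_lit 12) (nat_lit 4) (Step.L (Step.L (Step.L (Step.L (Step.D (nat_lit 4516) Step.done))))) (Scr.cons (nat_lit 11) (nat_lit 0) (Step.U (nat_lit 11076) (Step.F (nat_lit 4807) (Step.L (Step.L (Step.D (nat_lit 9873) Step.done))))) (Scr.cons (nat_lit 12) (nat_lit 1) (Step.U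 (nat_lit 5085) (Step.F (nat_lit 4806) (Step.D (nat_lit 2803) (Step.D (nat_lit 5085) (Step.D (nat_lit 8098) Step.done))))) (Scr.cons (nat_lit 12) (nat_lit 1) (Step.L (Step.L (Step.L (Step.L (Step.D (nat_lit 203) Step.done))))) (Scr.cons (nat_lit 14) (nat_lit 2) (Step.L (Step.L (Step.L (Step.L (Step.L (Step.L (Step.L (Step.L (Step.L (Step.L (Step.L (Step.L (Step.L (Step.L (Step.L (Step.L (Step.L (Step.L (Step.B (nat_lit 4814) (Step.D (nat_lit 564) Step.done)))))))))))))))))))) (Scr.cons (nat_lit 4) (nat_lit 0) (Step.U (nat_lit 1372) (Step.B (nat_lit 4815) (Step.U (nat_lit 564) (Step.D (nat_lit 565) (Step.D (nat_lit 1377) Step.done))))) (Scr.cons (nat_lit 16) (nat_lit 4) (Step.U (nat_lit 10513) (Step.U (nat_lit 7460) (Step.F (nat_lit 4811) (Step.L (Step.L (Step.D (nat_lit 9873) (Step.F (nat_lit 4812) (Step.U (nat_lit 11076) (Step.F (nat_lit 4813) (Step.U (nat_lit 5085) (Step.F (nat_lit 4806) (Step.B (nat_lit 4816) (Step.U (nat_lit 1377) (Step.U (nat_lit 565) (Step.F (nat_lit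 4814) (Step.L (Step.L (Step.L (Step.L (Step.L (Step.L (Step.D (nat_lit 5094) (Step.D (nat_lit 8107) (Step.D (nat_lit 11085) Step.done)))))))))))))))))))))))) (Scr.cons (nat_lit 1) (nat_lit 1) (Step.D (nat_lit 11085) (Step.F (nat_lit 4817) Step.done)) (Scr.cons (nat_lit 4) (nat_lit 0) (Step.U (nat_lit 10512) (Step.U (nat_lit 7459) (Step.D (nat_lit 7460) (Step.D (nat_lit 10513) (Step.F (nat_lit 4818) (Step.D (nat_lit 11086) Step.done)))))) (Scr.cons (nat_lit 1) (nat_lit 0) (Step.D (nat_lit 11086) (Step.F (nat_lit 4819) Step.done)) (Scr.cons (nat_lit 4) (nat_lit 0) (Step.U (nat_lit 5094) (Step.L (Step.L (Step.L (Step.L Step.done))))) (Scr.cons (nat_lit 14) (nat_lit 6) (Step.L (Step.L (Step.L (Step.L (Step.L (Step.L (Step.L (Step.L (Step.L (Step.L (Step.L (Step.D (nat_lit 4516) (Step.D (nat_lit 7459) (Step.D (nat_lit 10512) (Step.F (nat_lit 4820) (Step.U (nat_lit 8107) (Step.B (nat_lit 4821) (Step.L (Step.D (nat_lit 5104) (Step.D (nat_lit 8117) (Step.D (nat_lit 11098) Step.done)))))))))))))))))))))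 (Scr.cons (nat_lit 1) (nat_lit 0) (Step.D (nat_lit 11098) (Step.F (nat_lit 4822) (Step.D (nat_lit 7458) Step.done))) (Scr.cons (nat_lit 11) (nat_lit 0) (Step.U (nat_lit 7458) (Step.L (Step.D (nat_lit 4515) (Step.D (nat_lit 7457) (Step.D (nat_lit 10511) Step.done))))) (Scr.cons (nat_lit 1) (nat_lit 0) (Step.D (nat_lit 8117) (Step.B (nat_lit 4823) (Step.B (nat_lit 4824) Step.done))) (Scr.cons (nat_lit 1) (nat_lit 0) (Step.D (nat_lit 10511) (Step.F (nat_lit 4825) (Step.D (nat_lit 8118) Step.done))) (Scr.cons (nat_lit 1) (nat_lit 0) (Step.D (nat_lit 8118) (Step.F (nat_lit 4826) Step.done)) (Scr.cons (nat_lit 16) (nat_lit 4) (Step.L (Step.L (Step.L (Step.L (Step.L (Step.D (nat_lit 4515) (Step.D (nat_lit 7457) (Step.F (nat_lit 4827) (Step.F (nat_lit 775) (Step.L (Step.L (Step.L (Step.L (Step.L (Step.L (Step.L (Step.L (Step.L (Step.L (Step.L (Step.L (Step.L (Step.L (Step.D (nat_lit 11100) Step.done)))))))))))))))))))))))) (Scr.cons (nat_lit 1) (nat_lit 1) (Step.D (nat_lit 11100)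 (Step.F (nat_lit 4828) Step.done)) (Scr.cons (nat_lit 14) (nat_lit 4) (Step.U (nat_lit 9589) (Step.U (nat_lit 6445) (Step.L (Step.L (Step.L (Step.L (Step.L (Step.L (Step.L (Step.L (Step.L (Step.L (Step.L (Step.L (Step.L (Step.L (Step.L (Step.D (nat_lit 4334) (Step.D (nat_lit 7253) (Step.D (nat_lit 10329) Step.done)))))))))))))))))))) (Scr.cons (nat_lit 12) (nat_lit 1) (Step.F (nat_lit 2820) (Step.F (nat_lit 2817) (Step.D (nat_lit 843) (Step.B (nat_lit 2820) (Step.D (nat_lit 2279) Step.done))))) (Scr.cons (nat_lit 12) (nat_lit 4) (Step.U (nat_lit 2110) (Step.F (nat_lit 2054) (Step.D (nat_lit 985) (Step.D (nat_lit 2110) (Step.D (nat_lit 4027) Step.done))))) (Scr.cons (nat_lit 12) (nat_lit 4) (Step.U (nat_lit 4028) (Step.D (nat_lit 4027) (Step.F (nat_lit 4832) (Step.D (nat_lit 4028) (Step.D (nat_lit 6877) Step.done))))) (Scr.cons (nat_lit 0) (nat_lit 0) (Step.B (nat_lit 4833) (Step.F (nat_lit 2251) Step.done)) (Scr.cons (nat_lit 11) (nat_lit 0) (Step.U (nat_lit 4029) (Step.U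 (nat_lit 2111) (Step.D (nat_lit 2110) (Step.D (nat_lit 4028) (Step.D (nat_lit 6878) Step.done))))) (Scr.cons (nat_lit 13) (nat_lit 3) (Step.U (nat_lit 878) (Step.U (nat_lit 327) (Step.F (nat_lit 8) (Step.L (Step.L (Step.L (Step.L (Step.L (Step.B (nat_lit 2048) (Step.D (nat_lit 876) (Step.D (nat_lit 1896) Step.done))))))))))) (Scr.cons (nat_lit 12) (nat_lit 4) (Step.U (nat_lit 327) (Step.F (nat_lit 8) (Step.D (nat_lit 105) (Step.D (nat_lit 327) (Step.D (nat_lit 878) Step.done))))) (Scr.cons (nat_lit 12) (nat_lit 4) (Step.U (nat_lit 1900) (Step.F (nat_lit 4837) (Step.D (nat_lit 878) (Step.D (nat_lit 1900) (Step.D (nat_lit 3683) Step.done))))) (Scr.cons (nat_lit 12) (nat_lit 4) (Step.U (nat_lit 3684) (Step.D (nat_lit 3683) (Step.F (nat_lit 4838) (Step.D (nat_lit 3684) (Step.D (nat_lit 6409) Step.done))))) (Scr.cons (nat_lit 14) (nat_lit 1) (Step.U (nat_lit 7173) (Step.U (nat_lit 4278) (Step.F (nat_lit 4831) (Step.F (nat_lit 2820) (Step.B (nat_lit 2821) (Step.U (nat_lit 1086)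 (Step.B (nat_lit 2217) (Step.D (nat_lit 2280) (Step.D (nat_lit 4279) (Step.F (nat_lit 4834) (Step.D (nat_lit 6878) (Step.F (nat_lit 4835) (Step.U (nat_lit 4029) (Step.B (nat_lit 2056) (Step.F (nat_lit 2051) (Step.U (nat_lit 1897) (Step.D (nat_lit 1896) (Step.F (nat_lit 4836) (Step.D (nat_lit 1900) (Step.D (nat_lit 3684) (Step.B (nat_lit 4839) Step.done))))))))))))))))))))) (Scr.cons (nat_lit 1) (nat_lit 0) (Step.D (nat_lit 7173) (Step.B (nat_lit 4840) Step.done)) (Scr.cons (nat_lit 16) (nat_lit 2) (Step.U (nat_lit 9552) (Step.F (nat_lit 4841) (Step.U (nat_lit 4278) (Step.F (nat_lit 4831) (Step.F (nat_lit 2820) (Step.F (nat_lit 2817) (Step.U (nat_lit 311) (Step.L (Step.L (Step.L (Step.L (Step.L (Step.L (Step.L (Step.L (Step.L (Step.L (Step.L (Step.D (nat_lit 4334) (Step.D (nat_lit 7253) (Step.F (nat_lit 2006) (Step.F (nat_lit 2004) (Step.D (nat_lit 9747) Step.done))))))))))))))))))))))) Scr.nil))))))))))))))))))))))))))))))))))))))))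
noncomputable def s121 : Scr := (Scr.cons (nat_lit 12) (nat_lit 4) (Step.U (nat_lit 9747) (Step.D (nat_lit 9746) (Step.F (nat_lit 2004) (Step.D (nat_lit 9747) (Step.F (nat_lit 4842) Step.done))))) (Scr.cons (nat_lit 11) (nat_lit 0) (Step.U (nat_lit 962) (Step.U (nat_lit 360) (Step.L (Step.D (nat_lit 960) (Step.D (nat_lit 2066) Step.done))))) (Scr.cons (nat_lit 1) (nat_lit 0) (Step.D (nat_lit 8148) (Step.B (nat_lit 2190) (Step.B (nat_lit 4844) Step.done))) (Scr.cons (nat_lit 1) (nat_lit 0) (Step.D (nat_lit 5134) (Step.B (nat_lit 4845) (Step.U (nat_lit 2066) Step.done))) (Scr.cons (nat_lit 0) (nat_lit 1) (Step.B (nat_lit 2162) (Step.B (nat_lit 4846) (Step.D (nat_lit 2065) Step.done))) (Scr.cons (nat_lit 0) (nat_lit 1) (Step.D (nat_lit 2065) (Step.F (nat_lit 4847) Step.done)) (Scr.cons (nat_lit 1) (nat_lit 1) (Step.B (nat_lit 2051) (Step.B (nat_lit 2154) (Step.L Step.done))) (Scr.cons (nat_lit 1) (nat_lit 1) (Step.D (nat_lit 1897) (Step.B (nat_lit 4849) (Step.D (nat_lit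 960) Step.done))) (Scr.cons (nat_lit 0) (nat_lit 1) (Step.F (nat_lit 4848) (Step.F (nat_lit 4850) (Step.D (nat_lit 1896) Step.done))) (Scr.cons (nat_lit 1) (nat_lit 1) (Step.B (nat_lit 4836) (Step.F (nat_lit 4851) (Step.L Step.done))) (Scr.cons (nat_lit 1) (nat_lit 1) (Step.U (nat_lit 1900) (Step.B (nat_lit 4852) (Step.L Step.done))) (Scr.cons (nat_lit 1) (nat_lit 1) (Step.U (nat_lit 3684) (Step.B (nat_lit 4853) (Step.L Step.done))) (Scr.cons (nat_lit 0) (nat_lit 1) (Step.U (nat_lit 6409) (Step.B (nat_lit 4854) (Step.L Step.done))) (Scr.cons (nat_lit 1) (nat_lit 0) (Step.U (nat_lit 9552) (Step.B (nat_lit 4855) (Step.L Step.done))) (Scr.cons (nat_lit 0) (nat_lit 1) (Step.B (nat_lit 4843) (Step.B (nat_lit 4856) (Step.L Step.done))) (Scr.cons (nat_lit 1) (nat_lit 0) (Step.D (nat_lit 9747) (Step.B (nat_lit 4857) (Step.L Step.done))) (Scr.cons (nat_lit 0) (nat_lit 1) (Step.U (nat_lit 9746) (Step.B (nat_lit 4858) (Step.L Step.done))) (Scr.cons (nat_lit 1) (nat_lit 0) (Step.F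 (nat_lit 2006) (Step.B (nat_lit 4859) (Step.L Step.done))) (Scr.cons (nat_lit 0) (nat_lit 1) (Step.U (nat_lit 10329) (Step.B (nat_lit 4860) (Step.L Step.done))) (Scr.cons (nat_lit 1) (nat_lit 1) (Step.B (nat_lit 4830) (Step.B (nat_lit 4861) (Step.D (nat_lit 5032) Step.done))) (Scr.cons (nat_lit 1) (nat_lit 1) (Step.D (nat_lit 9589) (Step.B (nat_lit 4862) (Step.D (nat_lit 8052) Step.done))) (Scr.cons (nat_lit 1) (nat_lit 1) (Step.D (nat_lit 8052) (Step.F (nat_lit 4863) Step.done)) (Scr.cons (nat_lit 6) (nat_lit 1) (Step.U (nat_lit 9588) (Step.U (nat_lit 6445) (Step.L (Step.L (Step.L (Step.L (Step.L (Step.L (Step.L (Step.D (nat_lit 3591) (Step.D (nat_lit 6287) (Step.D (nat_lit 9464) Step.done)))))))))))) (Scr.cons (nat_lit 0) (nat_lit 1) (Step.D (nat_lit 9588) (Step.B (nat_lit 4865) Step.done)) (Scr.cons (nat_lit 12) (nat_lit 1) (Step.U (nat_lit 6445) (Step.L (Step.L (Step.D (nat_lit 6445) (Step.D (nat_lit 9588) Step.done))))) (Scr.cons (nat_lit 0) (nat_lit 0) (Step.B (nat_lit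 4867) (Step.B (nat_lit 4865) Step.done)) (Scr.cons (nat_lit 16) (nat_lit 0) (Step.F (nat_lit 4868) (Step.U (nat_lit 6445) (Step.L (Step.L (Step.L (Step.L (Step.L (Step.L (Step.L (Step.L (Step.L (Step.L (Step.L (Step.L (Step.L (Step.L (Step.L (Step.L (Step.L (Step.L (Step.L (Step.L (Step.L (Step.D (nat_lit 10128) Step.done)))))))))))))))))))))))) (Scr.cons (nat_lit 1) (nat_lit 1) (Step.D (nat_lit 10128) (Step.F (nat_lit 4869) Step.done)) (Scr.cons (nat_lit 4) (nat_lit 0) (Step.U (nat_lit 9463) (Step.D (nat_lit 9464) (Step.F (nat_lit 4870) (Step.L (Step.L (Step.D (nat_lit 10129) Step.done)))))) (Scr.cons (nat_lit 1) (nat_lit 0) (Step.D (nat_lit 10129) (Step.F (nat_lit 4871) Step.done)) (Scr.cons (nat_lit 7) (nat_lit 0) (Step.L (Step.L (Step.L (Step.L (Step.L (Step.L (Step.L (Step.L (Step.D (nat_lit 144) (Step.B (nat_lit 150) (Step.U (nat_lit 91) (Step.L (Step.L (Step.L (Step.L (Step.L (Step.L (Step.L (Step.D (nat_lit 6126) (Step.D (nat_lit 9286) Step.done))))))))))))))))))))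 (Scr.cons (nat_lit 12) (nat_lit 1) (Step.U (nat_lit 6126) (Step.L (Step.L (Step.D (nat_lit 6126) (Step.D (nat_lit 9286) Step.done))))) (Scr.cons (nat_lit 16) (nat_lit 0) (Step.B (nat_lit 4873) (Step.F (nat_lit 4874) (Step.U (nat_lit 6126) (Step.L (Step.L (Step.L (Step.L (Step.L (Step.L (Step.L (Step.L (Step.L (Step.L (Step.L (Step.L (Step.L (Step.L (Step.L (Step.L (Step.L (Step.L (Step.L (Step.D (nat_lit 10132) Step.done))))))))))))))))))))))) (Scr.cons (nat_lit 4) (nat_lit 0) (Step.F (nat_lit 4873) (Step.L (Step.L (Step.L (Step.L Step.done))))) (Scr.cons (nat_lit 14) (nat_lit 2) (Step.L (Step.L (Step.L (Step.L (Step.L (Step.L (Step.D (nat_lit 5032) (Step.B (nat_lit 4864) (Step.B (nat_lit 4866) (Step.U (nat_lit 9464) (Step.D (nat_lit 9463) (Step.F (nat_lit 4872) (Step.L (Step.L (Step.D (nat_lit 10132) (Step.F (nat_lit 4875) (Step.B (nat_lit 4873) (Step.B (nat_lit 4876) (Step.L (Step.L (Step.D (nat_lit 10250) Step.done))))))))))))))))))))) (Scr.cons (nat_lit 1) (nat_lit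 0) (Step.D (nat_lit 10250) (Step.F (nat_lit 4877) (Step.D (nat_lit 11025) Step.done))) (Scr.cons (nat_lit 1) (nat_lit 0) (Step.D (nat_lit 11025) (Step.F (nat_lit 4878) Step.done)) (Scr.cons (nat_lit 12) (nat_lit 1) (Step.U (nat_lit 5676) (Step.F (nat_lit 1078) (Step.D (nat_lit 3201) (Step.D (nat_lit 5676) (Step.D (nat_lit 8780) Step.done))))) (Scr.cons (nat_lit 14) (nat_lit 5) (Step.U (nat_lit 3242) (Step.L (Step.L (Step.L (Step.L (Step.L (Step.L (Step.L (Step.L (Step.L (Step.L (Step.L (Step.L (Step.L (Step.L (Step.L (Step.L (Step.D (nat_lit 1612) (Step.D (nat_lit 3201) (Step.D (nat_lit 5675) Step.done)))))))))))))))))))) (Scr.cons (nat_lit 4) (nat_lit 0) (Step.L (Step.D (nat_lit 3242) (Step.B (nat_lit 4881) (Step.U (nat_lit 5675) (Step.D (nat_lit 5676) Step.done))))) Scr.nil))))))))))))))))))))))))))))))))))))))))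
noncomputable def s122 : Scr := (Scr.cons (nat_lit 14) (nat_lit 4) (Step.U (nat_lit 6514) (Step.L (Step.L (Step.L (Step.L (Step.F (nat_lit 2957) (Step.F (nat_lit 2917) (Step.L (Step.L (Step.L (Step.L (Step.L (Step.L (Step.L (Step.L (Step.L (Step.L (Step.L (Step.L (Step.B (nat_lit 4882) (Step.D (nat_lit 8780) Step.done))))))))))))))))))))) (Scr.cons (nat_lit 0) (nat_lit 1) (Step.B (nat_lit 4880) (Step.F (nat_lit 4883) (Step.D (nat_lit 9658) Step.done))) (Scr.cons (nat_lit 0) (nat_lit 1) (Step.D (nat_lit 9658) (Step.F (nat_lit 4884) Step.done)) (Scr.cons (nat_lit 6) (nat_lit 1) (Step.L (Step.L (Step.L (Step.L (Step.D (nat_lit 1612) (Step.D (nat_lit 3201) (Step.D (nat_lit 5676) (Step.F (nat_lit 4885) (Step.U (nat_lit 6514) (Step.L (Step.L Step.done))))))))))) (Scr.cons (nat_lit 7) (nat_lit 0) (Step.U (nat_lit 8811) (Step.U (nat_lit 5704) (Step.L (Step.L (Step.L (Step.L (Step.L (Step.L (Step.L (Step.L (Step.L (Step.L (Step.L (Step.L (Step.L (Step.L (Step.L (Step.D (nat_lit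 4659) (Step.D (nat_lit 7619) (Step.D (nat_lit 10646) Step.done)))))))))))))))))))) (Scr.cons (nat_lit 7) (nat_lit 0) (Step.U (nat_lit 7618) (Step.U (nat_lit 4658) (Step.L (Step.L (Step.L (Step.L (Step.L (Step.L (Step.L (Step.L (Step.L (Step.L (Step.L (Step.L (Step.L (Step.L (Step.B (nat_lit 4006) (Step.D (nat_lit 3041) (Step.D (nat_lit 5467) (Step.D (nat_lit 8555) Step.done)))))))))))))))))))) (Scr.cons (nat_lit 4) (nat_lit 0) (Step.F (nat_lit 4888) (Step.U (nat_lit 7618) (Step.U (nat_lit 4658) (Step.D (nat_lit 4659) (Step.D (nat_lit 7619) Step.done))))) (Scr.cons (nat_lit 11) (nat_lit 0) (Step.U (nat_lit 5467) (Step.U (nat_lit 3041) (Step.D (nat_lit 3040) (Step.D (nat_lit 5466) (Step.D (nat_lit 8554) Step.done))))) (Scr.cons (nat_lit 13) (nat_lit 0) (Step.U (nat_lit 740) (Step.L (Step.L (Step.L (Step.L (Step.L (Step.L (Step.B (nat_lit 6) (Step.D (nat_lit 265) (Step.D (nat_lit 738) (Step.D (nat_lit 1699) Step.done))))))))))) (Scr.cons (nat_lit 11) (nat_lit 0) (Step.U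 (nat_lit 3372) (Step.U (nat_lit 1700) (Step.D (nat_lit 1699) (Step.D (nat_lit 3370) (Step.D (nat_lit 5966) Step.done))))) (Scr.cons (nat_lit 16) (nat_lit 2) (Step.F (nat_lit 4890) (Step.U (nat_lit 5467) (Step.U (nat_lit 3041) (Step.F (nat_lit 4006) (Step.L (Step.L (Step.L (Step.L (Step.L (Step.L (Step.L (Step.L (Step.L (Step.L (Step.L (Step.L (Step.D (nat_lit 740) (Step.B (nat_lit 4891) (Step.D (nat_lit 3370) (Step.D (nat_lit 5966) (Step.F (nat_lit 4892) (Step.D (nat_lit 5967) (Step.D (nat_lit 9130) Step.done))))))))))))))))))))))) (Scr.cons (nat_lit 12) (nat_lit 1) (Step.U (nat_lit 1257) (Step.D (nat_lit 1256) (Step.F (nat_lit 4775) (Step.D (nat_lit 1257) (Step.D (nat_lit 2583) Step.done))))) (Scr.cons (nat_lit 11) (nat_lit 0) (Step.U (nat_lit 3129) (Step.U (nat_lit 1569) (Step.D (nat_lit 1568) (Step.D (nat_lit 3127) (Step.D (nat_lit 5552) Step.done))))) (Scr.cons (nat_lit 12) (nat_lit 4) (Step.U (nat_lit 1568) (Step.F (nat_lit 2455) (Step.D (nat_lit 664) (Step.D (nat_lit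 1568) (Step.D (nat_lit 3126) Step.done))))) (Scr.cons (nat_lit 11) (nat_lit 0) (Step.F (nat_lit 2454) (Step.U (nat_lit 1704) (Step.U (nat_lit 741) (Step.D (nat_lit 740) (Step.D (nat_lit 1702) Step.done))))) (Scr.cons (nat_lit 12) (nat_lit 1) (Step.U (nat_lit 265) (Step.F (nat_lit 6) (Step.D (nat_lit 80) (Step.D (nat_lit 265) (Step.D (nat_lit 738) Step.done))))) (Scr.cons (nat_lit 12) (nat_lit 1) (Step.U (nat_lit 1700) (Step.F (nat_lit 4898) (Step.D (nat_lit 738) (Step.D (nat_lit 1700) (Step.D (nat_lit 3371) Step.done))))) (Scr.cons (nat_lit 12) (nat_lit 1) (Step.U (nat_lit 3372) (Step.D (nat_lit 3371) (Step.F (nat_lit 4899) (Step.D (nat_lit 3372) (Step.D (nat_lit 5967) Step.done))))) (Scr.cons (nat_lit 7) (nat_lit 4) (Step.U (nat_lit 4751) (Step.F (nat_lit 4894) (Step.F (nat_lit 2374) (Step.B (nat_lit 2375) (Step.U (nat_lit 1255) (Step.B (nat_lit 2472) (Step.D (nat_lit 2580) (Step.D (nat_lit 4747) (Step.F (nat_lit 2475) (Step.B (nat_lit 4895) (Step.U (nat_lit 5552) (Step.U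 (nat_lit 3127) (Step.B (nat_lit 4896) (Step.B (nat_lit 4897) (Step.U (nat_lit 1702) (Step.B (nat_lit 4891) (Step.U (nat_lit 1699) (Step.D (nat_lit 1700) (Step.D (nat_lit 3372) (Step.B (nat_lit 4900) Step.done)))))))))))))))))))) (Scr.cons (nat_lit 1) (nat_lit 0) (Step.U (nat_lit 505) (Step.F (nat_lit 2401) (Step.L Step.done))) (Scr.cons (nat_lit 1) (nat_lit 0) (Step.U (nat_lit 1257) (Step.B (nat_lit 4902) (Step.L Step.done))) (Scr.cons (nat_lit 0) (nat_lit 1) (Step.U (nat_lit 2583) (Step.B (nat_lit 4903) (Step.L Step.done))) (Scr.cons (nat_lit 1) (nat_lit 1) (Step.U (nat_lit 4751) (Step.B (nat_lit 4904) (Step.L Step.done))) (Scr.cons (nat_lit 1) (nat_lit 1) (Step.F (nat_lit 4901) (Step.B (nat_lit 4905) (Step.L Step.done))) (Scr.cons (nat_lit 1) (nat_lit 1) (Step.U (nat_lit 9130) (Step.B (nat_lit 4906) (Step.L Step.done))) (Scr.cons (nat_lit 0) (nat_lit 1) (Step.B (nat_lit 4893) (Step.B (nat_lit 4907) (Step.L Step.done))) (Scr.cons (nat_lit 1) (nat_lit 1) (Step.B (nat_lit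 4890) (Step.B (nat_lit 4908) (Step.L Step.done))) (Scr.cons (nat_lit 0) (nat_lit 1) (Step.U (nat_lit 8555) (Step.B (nat_lit 4909) (Step.L Step.done))) (Scr.cons (nat_lit 1) (nat_lit 1) (Step.F (nat_lit 4889) (Step.B (nat_lit 4910) (Step.L Step.done))) (Scr.cons (nat_lit 0) (nat_lit 1) (Step.U (nat_lit 10646) (Step.B (nat_lit 4911) (Step.L Step.done))) (Scr.cons (nat_lit 1) (nat_lit 0) (Step.B (nat_lit 4887) (Step.B (nat_lit 4912) (Step.D (nat_lit 4456) Step.done))) (Scr.cons (nat_lit 1) (nat_lit 0) (Step.D (nat_lit 8811) (Step.B (nat_lit 4913) (Step.D (nat_lit 7388) Step.done))) (Scr.cons (nat_lit 1) (nat_lit 0) (Step.D (nat_lit 7388) (Step.F (nat_lit 4914) Step.done)) (Scr.cons (nat_lit 13) (nat_lit 0) (Step.U (nat_lit 8810) (Step.U (nat_lit 5704) (Step.L (Step.L (Step.L (Step.L (Step.L (Step.L (Step.L (Step.L (Step.L (Step.D (nat_lit 8806) Step.done)))))))))))) (Scr.cons (nat_lit 0) (nat_lit 1) (Step.D (nat_lit 8810) (Step.B (nat_lit 4916) Step.done)) (Scr.cons (nat_lit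 12) (nat_lit 1) (Step.L (Step.L (Step.L (Step.L (Step.D (nat_lit 7812) Step.done))))) (Scr.cons (nat_lit 15) (nat_lit 1) (Step.F (nat_lit 4918) (Step.L (Step.L (Step.L (Step.L (Step.L (Step.L (Step.L (Step.L (Step.L (Step.L (Step.L (Step.L (Step.D (nat_lit 2633) (Step.D (nat_lit 4838) Step.done))))))))))))))) (Scr.cons (nat_lit 9) (nat_lit 3) (Step.F (nat_lit 4917) (Step.U (nat_lit 5704) (Step.L (Step.L (Step.L (Step.L (Step.L (Step.L (Step.L (Step.L (Step.L (Step.L (Step.L (Step.L (Step.L (Step.L (Step.L (Step.L (Step.L (Step.L (Step.B (nat_lit 4918) (Step.B (nat_lit 4919) (Step.D (nat_lit 7830) (Step.D (nat_lit 10828) Step.done)))))))))))))))))))))))) (Scr.cons (nat_lit 1) (nat_lit 0) (Step.D (nat_lit 10828) (Step.F (nat_lit 4920) Step.done)) (Scr.cons (nat_lit 11) (nat_lit 0) (Step.U (nat_lit 8807) (Step.D (nat_lit 8806) (Step.F (nat_lit 4921) (Step.U (nat_lit 7830) (Step.F (nat_lit 4919) (Step.D (nat_lit 10815) Step.done)))))) Scr.nil))))))))))))))))))))))))))))))))))))))))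
noncomputable def s123 : Scr := (Scr.cons (nat_lit 1) (nat_lit 1) (Step.D (nat_lit 10815) (Step.F (nat_lit 4922) Step.done)) (Scr.cons (nat_lit 12) (nat_lit 1) (Step.L (Step.L (Step.L (Step.L (Step.D (nat_lit 7729) Step.done))))) (Scr.cons (nat_lit 12) (nat_lit 1) (Step.L (Step.D (nat_lit 7729) (Step.F (nat_lit 4924) (Step.L (Step.D (nat_lit 10738) Step.done))))) (Scr.cons (nat_lit 11) (nat_lit 0) (Step.F (nat_lit 4122) (Step.L (Step.L (Step.L (Step.L Step.done))))) (Scr.cons (nat_lit 7) (nat_lit 5) (Step.L (Step.L (Step.L (Step.L (Step.L (Step.L (Step.D (nat_lit 4456) (Step.B (nat_lit 4915) (Step.B (nat_lit 4917) (Step.U (nat_lit 8806) (Step.D (nat_lit 8807) (Step.F (nat_lit 4923) (Step.U (nat_lit 7812) (Step.L (Step.B (nat_lit 4123) (Step.F (nat_lit 4925) (Step.B (nat_lit 4122) (Step.B (nat_lit 4926) (Step.L (Step.L (Step.D (nat_lit 10737) Step.done))))))))))))))))))))) (Scr.cons (nat_lit 1) (nat_lit 1) (Step.D (nat_lit 10737) (Step.F (nat_lit 4927) (Step.D (nat_lit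 10452) Step.done))) (Scr.cons (nat_lit 1) (nat_lit 1) (Step.D (nat_lit 10452) (Step.F (nat_lit 4928) Step.done)) (Scr.cons (nat_lit 12) (nat_lit 1) (Step.U (nat_lit 7895) (Step.L (Step.L (Step.D (nat_lit 7895) (Step.D (nat_lit 10891) Step.done))))) (Scr.cons (nat_lit 11) (nat_lit 0) (Step.U (nat_lit 7934) (Step.U (nat_lit 4928) (Step.D (nat_lit 4927) (Step.D (nat_lit 7932) (Step.D (nat_lit 10917) Step.done))))) (Scr.cons (nat_lit 8) (nat_lit 1) (Step.U (nat_lit 4927) (Step.L (Step.L (Step.L (Step.L (Step.L (Step.L (Step.L (Step.L (Step.L (Step.L (Step.L (Step.L (Step.L (Step.D (nat_lit 7905) Step.done))))))))))))))) (Scr.cons (nat_lit 12) (nat_lit 0) (Step.B (nat_lit 4932) (Step.U (nat_lit 7905) (Step.L (Step.L (Step.D (nat_lit 7905) Step.done))))) (Scr.cons (nat_lit 13) (nat_lit 0) (Step.U (nat_lit 3214) (Step.L (Step.L (Step.L (Step.L (Step.L (Step.L (Step.L (Step.L (Step.L (Step.D (nat_lit 5701) Step.done))))))))))) (Scr.cons (nat_lit 9) (nat_lit 2) (Step.U (nat_lit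 4695) (Step.L (Step.L (Step.L (Step.L (Step.L (Step.L (Step.L (Step.L (Step.L (Step.L (Step.L (Step.L (Step.L (Step.L (Step.L (Step.L (Step.L (Step.L (Step.L (Step.L (Step.L (Step.D (nat_lit 5706) Step.done))))))))))))))))))))))) (Scr.cons (nat_lit 11) (nat_lit 0) (Step.B (nat_lit 4935) (Step.U (nat_lit 5706) (Step.L (Step.D (nat_lit 3214) (Step.D (nat_lit 5705) Step.done))))) (Scr.cons (nat_lit 12) (nat_lit 4) (Step.L (Step.L (Step.L (Step.L (Step.D (nat_lit 4695) Step.done))))) (Scr.cons (nat_lit 12) (nat_lit 1) (Step.F (nat_lit 4936) (Step.F (nat_lit 4937) (Step.D (nat_lit 4695) (Step.B (nat_lit 4936) (Step.D (nat_lit 8812) Step.done))))) (Scr.cons (nat_lit 13) (nat_lit 3) (Step.U (nat_lit 7665) (Step.U (nat_lit 4697) (Step.F (nat_lit 2674) (Step.U (nat_lit 1239) (Step.L (Step.L (Step.L (Step.L (Step.B (nat_lit 4937) (Step.B (nat_lit 4936) (Step.D (nat_lit 8812) Step.done))))))))))) (Scr.cons (nat_lit 0) (nat_lit 1) (Step.U (nat_lit 2551) (Step.B (nat_lit 2895) (Step.L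 Step.done))) (Scr.cons (nat_lit 1) (nat_lit 1) (Step.U (nat_lit 4697) (Step.B (nat_lit 4940) (Step.L Step.done))) (Scr.cons (nat_lit 0) (nat_lit 1) (Step.U (nat_lit 7665) (Step.B (nat_lit 4941) (Step.L Step.done))) (Scr.cons (nat_lit 1) (nat_lit 0) (Step.F (nat_lit 4939) (Step.B (nat_lit 4942) (Step.L Step.done))) (Scr.cons (nat_lit 0) (nat_lit 1) (Step.B (nat_lit 4938) (Step.B (nat_lit 4943) (Step.L Step.done))) (Scr.cons (nat_lit 1) (nat_lit 0) (Step.D (nat_lit 5705) (Step.B (nat_lit 4944) (Step.L Step.done))) (Scr.cons (nat_lit 0) (nat_lit 1) (Step.F (nat_lit 4934) (Step.B (nat_lit 4945) (Step.L Step.done))) (Scr.cons (nat_lit 1) (nat_lit 0) (Step.D (nat_lit 5701) (Step.B (nat_lit 4946) (Step.D (nat_lit 7905) Step.done))) (Scr.cons (nat_lit 0) (nat_lit 1) (Step.B (nat_lit 4933) (Step.F (nat_lit 4947) (Step.L Step.done))) (Scr.cons (nat_lit 1) (nat_lit 1) (Step.U (nat_lit 7932) (Step.B (nat_lit 4948) (Step.L Step.done))) (Scr.cons (nat_lit 1) (nat_lit 1) (Step.U (nat_lit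 10917) (Step.B (nat_lit 4949) (Step.L Step.done))) (Scr.cons (nat_lit 1) (nat_lit 1) (Step.B (nat_lit 4931) (Step.B (nat_lit 4950) (Step.L Step.done))) (Scr.cons (nat_lit 1) (nat_lit 0) (Step.D (nat_lit 7934) (Step.B (nat_lit 4951) Step.done)) (Scr.cons (nat_lit 12) (nat_lit 1) (Step.U (nat_lit 2696) (Step.L (Step.L (Step.D (nat_lit 2696) (Step.D (nat_lit 4929) Step.done))))) (Scr.cons (nat_lit 4) (nat_lit 0) (Step.U (nat_lit 50) (Step.L (Step.L (Step.D (nat_lit 46) (Step.D (nat_lit 171) Step.done))))) (Scr.cons (nat_lit 16) (nat_lit 5) (Step.F (nat_lit 4953) (Step.U (nat_lit 2696) (Step.L (Step.L (Step.L (Step.L (Step.L (Step.L (Step.L (Step.L (Step.L (Step.L (Step.L (Step.L (Step.L (Step.L (Step.D (nat_lit 50) (Step.B (nat_lit 4954) (Step.D (nat_lit 500) (Step.D (nat_lit 1247) (Step.D (nat_lit 2568) (Step.D (nat_lit 4728) (Step.D (nat_lit 7705) Step.done))))))))))))))))))))))) (Scr.cons (nat_lit 4) (nat_lit 0) (Step.B (nat_lit 4955) (Step.U (nat_lit 7705) (Step.U (nat_lit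 4728) (Step.D (nat_lit 4729) (Step.D (nat_lit 7706) Step.done))))) (Scr.cons (nat_lit 6) (nat_lit 0) (Step.U (nat_lit 7933) (Step.U (nat_lit 4928) (Step.L (Step.L (Step.L (Step.L (Step.L (Step.D (nat_lit 2696) (Step.B (nat_lit 4953) (Step.B (nat_lit 4956) (Step.D (nat_lit 10725) Step.done))))))))))) (Scr.cons (nat_lit 12) (nat_lit 1) (Step.U (nat_lit 171) (Step.D (nat_lit 170) (Step.F (nat_lit 368) (Step.D (nat_lit 171) (Step.D (nat_lit 500) Step.done))))) (Scr.cons (nat_lit 12) (nat_lit 4) (Step.U (nat_lit 1247) (Step.F (nat_lit 4958) (Step.D (nat_lit 500) (Step.D (nat_lit 1247) (Step.D (nat_lit 2568) Step.done))))) (Scr.cons (nat_lit 6) (nat_lit 1) (Step.U (nat_lit 4729) (Step.F (nat_lit 4959) (Step.U (nat_lit 1247) (Step.U (nat_lit 500) (Step.U (nat_lit 171) (Step.D (nat_lit 170) (Step.D (nat_lit 499) (Step.B (nat_lit 369) (Step.D (nat_lit 2565) (Step.D (nat_lit 4724) (Step.D (nat_lit 7701) Step.done))))))))))) (Scr.cons (nat_lit 12) (nat_lit 4) (Step.U (nat_lit 2565)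 (Step.F (nat_lit 369) (Step.D (nat_lit 1245) (Step.D (nat_lit 2565) (Step.D (nat_lit 4724) Step.done))))) (Scr.cons (nat_lit 13) (nat_lit 2) (Step.U (nat_lit 4729) (Step.U (nat_lit 2568) (Step.U (nat_lit 1247) (Step.F (nat_lit 4958) (Step.U (nat_lit 171) (Step.B (nat_lit 368) (Step.D (nat_lit 499) (Step.D (nat_lit 1245) (Step.D (nat_lit 2565) (Step.B (nat_lit 4961) (Step.D (nat_lit 7701) Step.done))))))))))) Scr.nil))))))))))))))))))))))))))))))))))))))))
noncomputable def s124 : Scr := (Scr.cons (nat_lit 12) (nat_lit 1) (Step.U (nat_lit 7706) (Step.B (nat_lit 4960) (Step.F (nat_lit 4962) (Step.D (nat_lit 7706) (Step.D (nat_lit 10725) Step.done))))) (Scr.cons (nat_lit 15) (nat_lit 0) (Step.U (nat_lit 10742) (Step.L (Step.L (Step.L (Step.F (nat_lit 4952) (Step.D (nat_lit 7933) (Step.B (nat_lit 4957) (Step.F (nat_lit 4963) (Step.U (nat_lit 7706) (Step.B (nat_lit 4960) (Step.U (nat_lit 7701) (Step.F (nat_lit 4961) (Step.D (nat_lit 4725) (Step.D (nat_lit 7702) (Step.D (nat_lit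 10722) Step.done))))))))))))))) (Scr.cons (nat_lit 12) (nat_lit 0) (Step.F (nat_lit 4964) (Step.U (nat_lit 10742) (Step.L (Step.L (Step.D (nat_lit 10742) Step.done))))) (Scr.cons (nat_lit 12) (nat_lit 4) (Step.U (nat_lit 2678) (Step.L (Step.L (Step.D (nat_lit 2678) (Step.D (nat_lit 4893) Step.done))))) (Scr.cons (nat_lit 12) (nat_lit 4) (Step.U (nat_lit 4894) (Step.D (nat_lit 4893) (Step.F (nat_lit 4966) (Step.D (nat_lit 4894) (Step.D (nat_lit 7893) Step.done))))) (Scr.cons (nat_lit 11) (nat_lit 0) (Step.U (nat_lit 4726) (Step.U (nat_lit 2566) (Step.D (nat_lit 2565) (Step.D (nat_lit 4725) (Step.D (nat_lit 7703) Step.done))))) (Scr.cons (nat_lit 12) (nat_lit 4) (Step.U (nat_lit 4725) (Step.D (nat_lit 4724) (Step.F (nat_lit 4961) (Step.D (nat_lit 4725) (Step.D (nat_lit 7702) Step.done))))) (Scr.cons (nat_lit 7) (nat_lit 5) (Step.F (nat_lit 4967) (Step.U (nat_lit 4894) (Step.U (nat_lit 2678) (Step.L (Step.L (Step.L (Step.B (nat_lit 4694) (Step.D (nat_lit 7862) (Step.D (nat_lit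 10860) (Step.F (nat_lit 4693) (Step.U (nat_lit 10726) (Step.U (nat_lit 7707) (Step.L (Step.L (Step.B (nat_lit 370) (Step.D (nat_lit 4726) (Step.B (nat_lit 4968) (Step.U (nat_lit 7703) (Step.B (nat_lit 4969) (Step.D (nat_lit 10723) Step.done)))))))))))))))))))) (Scr.cons (nat_lit 7) (nat_lit 0) (Step.L (Step.L (Step.L (Step.L (Step.L (Step.D (nat_lit 10742) (Step.F (nat_lit 4965) (Step.U (nat_lit 10722) (Step.D (nat_lit 10723) (Step.F (nat_lit 4970) (Step.U (nat_lit 7893) (Step.U (nat_lit 4894) (Step.U (nat_lit 2678) (Step.L (Step.L (Step.L (Step.L (Step.L (Step.L (Step.D (nat_lit 7895) (Step.D (nat_lit 10891) Step.done))))))))))))))))))))) (Scr.cons (nat_lit 0) (nat_lit 1) (Step.B (nat_lit 4930) (Step.F (nat_lit 4971) (Step.L Step.done))) (Scr.cons (nat_lit 1) (nat_lit 1) (Step.D (nat_lit 7895) (Step.B (nat_lit 4972) (Step.D (nat_lit 10743) Step.done))) (Scr.cons (nat_lit 1) (nat_lit 1) (Step.D (nat_lit 10743) (Step.F (nat_lit 4973) Step.done)) (Scr.cons (nat_lit 11)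 (nat_lit 0) (Step.L (Step.L (Step.D (nat_lit 4873) (Step.D (nat_lit 7866) (Step.D (nat_lit 10863) Step.done))))) (Scr.cons (nat_lit 15) (nat_lit 0) (Step.U (nat_lit 2679) (Step.L (Step.L (Step.L (Step.L (Step.L (Step.L (Step.L (Step.L (Step.L (Step.L (Step.L (Step.L (Step.L (Step.D (nat_lit 4873) Step.done))))))))))))))) (Scr.cons (nat_lit 12) (nat_lit 4) (Step.U (nat_lit 4873) (Step.L (Step.L (Step.D (nat_lit 4873) (Step.F (nat_lit 4976) Step.done))))) (Scr.cons (nat_lit 12) (nat_lit 4) (Step.U (nat_lit 7866) (Step.F (nat_lit 4976) (Step.F (nat_lit 4977) (Step.D (nat_lit 7866) (Step.D (nat_lit 10862) Step.done))))) (Scr.cons (nat_lit 13) (nat_lit 1) (Step.L (Step.L (Step.L (Step.L (Step.L (Step.L (Step.L (Step.L (Step.D (nat_lit 2679) (Step.F (nat_lit 4977) (Step.D (nat_lit 7866) (Step.B (nat_lit 4978) Step.done)))))))))))) (Scr.cons (nat_lit 8) (nat_lit 1) (Step.L (Step.L (Step.L (Step.L (Step.L (Step.L (Step.L (Step.L (Step.L (Step.L (Step.L (Step.L (Step.L (Step.L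 (Step.D (nat_lit 8998) Step.done))))))))))))))) (Scr.cons (nat_lit 0) (nat_lit 1) (Step.B (nat_lit 4978) (Step.F (nat_lit 4979) (Step.B (nat_lit 4980) Step.done))) (Scr.cons (nat_lit 1) (nat_lit 1) (Step.D (nat_lit 8998) (Step.F (nat_lit 4981) (Step.D (nat_lit 10863) Step.done))) (Scr.cons (nat_lit 1) (nat_lit 1) (Step.B (nat_lit 4975) (Step.F (nat_lit 4982) (Step.D (nat_lit 8997) Step.done))) (Scr.cons (nat_lit 1) (nat_lit 1) (Step.D (nat_lit 8997) (Step.F (nat_lit 4983) Step.done)) (Scr.cons (nat_lit 12) (nat_lit 1) (Step.L (Step.L (Step.L (Step.L (Step.D (nat_lit 5859) Step.done))))) (Scr.cons (nat_lit 12) (nat_lit 1) (Step.L (Step.D (nat_lit 5859) (Step.F (nat_lit 4985) (Step.L (Step.D (nat_lit 9000) Step.done))))) (Scr.cons (nat_lit 12) (nat_lit 1) (Step.L (Step.L (Step.L (Step.L (Step.D (nat_lit 10859) Step.done))))) (Scr.cons (nat_lit 11) (nat_lit 0) (Step.L (Step.L (Step.L (Step.L (Step.D (nat_lit 8999) Step.done))))) (Scr.cons (nat_lit 11) (nat_lit 0) (Step.L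 (Step.L (Step.L (Step.L (Step.D (nat_lit 5857) Step.done))))) (Scr.cons (nat_lit 9) (nat_lit 0) (Step.B (nat_lit 4988) (Step.U (nat_lit 8999) (Step.L (Step.B (nat_lit 1043) (Step.U (nat_lit 5858) (Step.U (nat_lit 3305) (Step.L (Step.B (nat_lit 4989) (Step.U (nat_lit 5857) (Step.L (Step.L (Step.L (Step.L (Step.L (Step.L (Step.L (Step.L (Step.L (Step.L (Step.B (nat_lit 4694) (Step.U (nat_lit 4871) (Step.L (Step.L (Step.B (nat_lit 4987) Step.done)))))))))))))))))))))))) (Scr.cons (nat_lit 0) (nat_lit 1) (Step.B (nat_lit 4987) (Step.F (nat_lit 4990) (Step.D (nat_lit 9000) Step.done))) (Scr.cons (nat_lit 0) (nat_lit 0) (Step.B (nat_lit 4986) (Step.F (nat_lit 4991) Step.done)) (Scr.cons (nat_lit 12) (nat_lit 1) (Step.L (Step.L (Step.L (Step.L (Step.D (nat_lit 8730) Step.done))))) (Scr.cons (nat_lit 11) (nat_lit 0) (Step.L (Step.L (Step.L (Step.L (Step.D (nat_lit 3136) Step.done))))) (Scr.cons (nat_lit 7) (nat_lit 6) (Step.F (nat_lit 4993) (Step.L (Step.L (Step.L (Step.L (Step.L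 (Step.L (Step.L (Step.L (Step.L (Step.L (Step.L (Step.L (Step.L (Step.L (Step.L (Step.B (nat_lit 4994) (Step.U (nat_lit 3136) (Step.L (Step.L (Step.L Step.done))))))))))))))))))))) (Scr.cons (nat_lit 0) (nat_lit 0) (Step.B (nat_lit 4993) (Step.B (nat_lit 4995) Step.done)) (Scr.cons (nat_lit 12) (nat_lit 1) (Step.L (Step.L (Step.L (Step.L (Step.D (nat_lit 10432) Step.done))))) (Scr.cons (nat_lit 6) (nat_lit 2) (Step.L (Step.L (Step.B (nat_lit 3993) (Step.F (nat_lit 4051) (Step.U (nat_lit 4445) (Step.L (Step.L (Step.L (Step.L (Step.L (Step.L (Step.B (nat_lit 4997) Step.done)))))))))))) (Scr.cons (nat_lit 0) (nat_lit 0) (Step.B (nat_lit 4997) (Step.F (nat_lit 4998) Step.done)) (Scr.cons (nat_lit 0) (nat_lit 0) (Step.B (nat_lit 3998) (Step.F (nat_lit 4050) Step.done)) (Scr.cons (nat_lit 14) (nat_lit 3) (Step.L (Step.L (Step.L (Step.L (Step.L (Step.L (Step.D (nat_lit 5455) (Step.F (nat_lit 5000) (Step.U (nat_lit 4445) (Step.L (Step.L (Step.L (Step.L (Step.L (Step.L (Step.L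 (Step.L (Step.L (Step.L (Step.L (Step.D (nat_lit 10508) Step.done))))))))))))))))))))) (Scr.cons (nat_lit 1) (nat_lit 1) (Step.D (nat_lit 10508) (Step.F (nat_lit 5001) Step.done)) Scr.nil))))))))))))))))))))))))))))))))))))))))
noncomputable def s125 : Scr := (Scr.cons (nat_lit 12) (nat_lit 4) (Step.L (Step.L (Step.L (Step.L (Step.D (nat_lit 10858) Step.done))))) (Scr.cons (nat_lit 12) (nat_lit 4) (Step.L (Step.L (Step.L (Step.L (Step.D (nat_lit 10895) Step.done))))) (Scr.cons (nat_lit 16) (nat_lit 2) (Step.L (Step.L (Step.L (Step.L (Step.L (Step.L (Step.L (Step.L (Step.L (Step.L (Step.L (Step.L (Step.L (Step.L (Step.L (Step.L (Step.L (Step.L (Step.L (Step.L (Step.L (Step.D (nat_lit 9566) (Step.B (nat_lit 4685) (Step.B (nat_lit 4693) Step.done)))))))))))))))))))))))) (Scr.cons (nat_lit 1) (nat_lit 1) (Step.D (nat_lit 10860) (Step.F (nat_lit 5005) (Step.D (nat_lit 4901) Step.done))) (Scr.cons (nat_lit 0) (nat_lit 1) (Step.B (nat_lit 4695) (Step.B (nat_lit 5006) (Step.D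 (nat_lit 7901) Step.done))) (Scr.cons (nat_lit 0) (nat_lit 1) (Step.D (nat_lit 7901) (Step.F (nat_lit 5007) Step.done)) (Scr.cons (nat_lit 13) (nat_lit 1) (Step.L (Step.L (Step.D (nat_lit 4871) (Step.F (nat_lit 5008) (Step.U (nat_lit 4901) (Step.L (Step.L (Step.L (Step.L (Step.L (Step.L (Step.B (nat_lit 5004) Step.done)))))))))))) (Scr.cons (nat_lit 0) (nat_lit 1) (Step.B (nat_lit 5004) (Step.F (nat_lit 5009) (Step.D (nat_lit 10858) Step.done))) (Scr.cons (nat_lit 0) (nat_lit 0) (Step.B (nat_lit 5003) (Step.F (nat_lit 5010) Step.done)) (Scr.cons (nat_lit 12) (nat_lit 4) (Step.L (Step.L (Step.L (Step.L (Step.D (nat_lit 8138) Step.done))))) (Scr.cons (nat_lit 12) (nat_lit 1) (Step.L (Step.L (Step.L (Step.L (Step.D (nat_lit 10940) Step.done))))) (Scr.cons (nat_lit 1) (nat_lit 1) (Step.D (nat_lit 2835) (Step.B (nat_lit 4744) (Step.D (nat_lit 498) Step.done))) (Scr.cons (nat_lit 1) (nat_lit 1) (Step.D (nat_lit 1394) (Step.B (nat_lit 5014) (Step.D (nat_lit 1244) Step.done)))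 (Scr.cons (nat_lit 1) (nat_lit 1) (Step.D (nat_lit 1244) (Step.F (nat_lit 5015) Step.done)) (Scr.cons (nat_lit 7) (nat_lit 4) (Step.L (Step.L (Step.L (Step.L (Step.L (Step.L (Step.B (nat_lit 4728) (Step.F (nat_lit 5016) (Step.U (nat_lit 498) (Step.F (nat_lit 368) (Step.D (nat_lit 171) (Step.F (nat_lit 4954) (Step.U (nat_lit 50) (Step.L (Step.L (Step.L (Step.L (Step.L (Step.L (Step.L (Step.B (nat_lit 5013) Step.done))))))))))))))))))))) (Scr.cons (nat_lit 0) (nat_lit 1) (Step.B (nat_lit 5013) (Step.F (nat_lit 5017) (Step.D (nat_lit 8138) Step.done))) (Scr.cons (nat_lit 0) (nat_lit 0) (Step.B (nat_lit 5012) (Step.F (nat_lit 5018) Step.done)) (Scr.cons (nat_lit 11) (nat_lit 0) (Step.L (Step.L (Step.F (nat_lit 218) (Step.F (nat_lit 234) (Step.D (nat_lit 4721) Step.done))))) (Scr.cons (nat_lit 12) (nat_lit 1) (Step.U (nat_lit 5052) (Step.F (nat_lit 1690) (Step.D (nat_lit 2780) (Step.D (nat_lit 5052) (Step.D (nat_lit 8067) Step.done))))) (Scr.cons (nat_lit 14) (nat_lit 6) (Step.U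 (nat_lit 8067) (Step.U (nat_lit 5052) (Step.D (nat_lit 5051) (Step.D (nat_lit 8065) (Step.F (nat_lit 4676) (Step.L (Step.L (Step.L (Step.L (Step.L (Step.L (Step.L (Step.L (Step.L (Step.B (nat_lit 2481) (Step.D (nat_lit 607) (Step.D (nat_lit 1448) (Step.D (nat_lit 2933) (Step.D (nat_lit 5294) (Step.D (nat_lit 8331) Step.done)))))))))))))))))))) (Scr.cons (nat_lit 0) (nat_lit 1) (Step.U (nat_lit 2933) (Step.B (nat_lit 3826) (Step.B (nat_lit 222) Step.done))) (Scr.cons (nat_lit 1) (nat_lit 1) (Step.U (nat_lit 5294) (Step.B (nat_lit 5023) (Step.D (nat_lit 1242) Step.done))) (Scr.cons (nat_lit 1) (nat_lit 1) (Step.U (nat_lit 8331) (Step.B (nat_lit 5024) (Step.D (nat_lit 2562) Step.done))) (Scr.cons (nat_lit 11) (nat_lit 0) (Step.U (nat_lit 1243) (Step.L (Step.D (nat_lit 497) (Step.D (nat_lit 1242) (Step.D (nat_lit 2562) Step.done))))) (Scr.cons (nat_lit 1) (nat_lit 1) (Step.B (nat_lit 5022) (Step.B (nat_lit 5025) (Step.F (nat_lit 5026) Step.done))) (Scr.cons (nat_lit 0) (nat_lit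 1) (Step.B (nat_lit 5021) (Step.B (nat_lit 5027) (Step.D (nat_lit 2563) Step.done))) (Scr.cons (nat_lit 1) (nat_lit 1) (Step.D (nat_lit 5052) (Step.B (nat_lit 5028) (Step.D (nat_lit 4721) Step.done))) (Scr.cons (nat_lit 1) (nat_lit 1) (Step.B (nat_lit 5020) (Step.F (nat_lit 5029) (Step.D (nat_lit 5051) Step.done))) (Scr.cons (nat_lit 0) (nat_lit 1) (Step.U (nat_lit 8065) (Step.F (nat_lit 5030) (Step.D (nat_lit 5848) Step.done))) (Scr.cons (nat_lit 1) (nat_lit 1) (Step.B (nat_lit 4676) (Step.B (nat_lit 5031) (Step.D (nat_lit 8985) Step.done))) (Scr.cons (nat_lit 1) (nat_lit 1) (Step.D (nat_lit 8985) (Step.F (nat_lit 5032) Step.done)) (Scr.cons (nat_lit 12) (nat_lit 1) (Step.L (Step.L (Step.L (Step.L (Step.D (nat_lit 5848) Step.done))))) (Scr.cons (nat_lit 13) (nat_lit 3) (Step.U (nat_lit 11187) (Step.L (Step.F (nat_lit 5033) (Step.F (nat_lit 5034) (Step.L (Step.L (Step.L (Step.L (Step.L (Step.L (Step.L (Step.L Step.done)))))))))))) (Scr.cons (nat_lit 1) (nat_lit 0) (Step.D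 (nat_lit 11187) (Step.B (nat_lit 5035) Step.done)) (Scr.cons (nat_lit 12) (nat_lit 1) (Step.L (Step.L (Step.L (Step.L (Step.D (nat_lit 7338) Step.done))))) (Scr.cons (nat_lit 12) (nat_lit 1) (Step.L (Step.L (Step.L (Step.L (Step.D (nat_lit 4187) Step.done))))) (Scr.cons (nat_lit 12) (nat_lit 1) (Step.L (Step.D (nat_lit 4187) (Step.F (nat_lit 5038) (Step.L (Step.D (nat_lit 7062) Step.done))))) (Scr.cons (nat_lit 12) (nat_lit 1) (Step.L (Step.D (nat_lit 7062) (Step.F (nat_lit 5039) (Step.L (Step.D (nat_lit 10184) Step.done))))) (Scr.cons (nat_lit 1) (nat_lit 0) (Step.D (nat_lit 2374) (Step.B (nat_lit 2576) (Step.D (nat_lit 402) Step.done))) (Scr.cons (nat_lit 1) (nat_lit 0) (Step.D (nat_lit 1138) (Step.B (nat_lit 5041) (Step.D (nat_lit 1041) Step.done))) Scr.nil))))))))))))))))))))))))))))))))))))))))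
noncomputable def s126 : Scr := (Scr.cons (nat_lit 1) (nat_lit 0) (Step.D (nat_lit 1041) (Step.F (nat_lit 5042) Step.done)) (Scr.cons (nat_lit 14) (nat_lit 1) (Step.L (Step.L (Step.L (Step.L (Step.L (Step.L (Step.B (nat_lit 39) (Step.F (nat_lit 5043) (Step.U (nat_lit 402) (Step.F (nat_lit 311) (Step.D (nat_lit 137) (Step.F (nat_lit 3495) (Step.U (nat_lit 39) (Step.L (Step.L (Step.L (Step.L (Step.L (Step.L (Step.L (Step.B (nat_lit 5040) Step.done))))))))))))))))))))) (Scr.cons (nat_lit 0) (nat_lit 1) (Step.B (nat_lit 5040) (Step.F (nat_lit 5044) (Step.D (nat_lit 7338) Step.done))) (Scr.cons (nat_lit 0) (nat_lit 0) (Step.B (nat_lit 5037) (Step.F (nat_lit 5045) Step.done)) (Scr.cons (nat_lit 11) (nat_lit 0) (Step.L (Step.L (Step.L (Step.D (nat_lit 4791) (Step.D (nat_lit 7769) Step.done))))) (Scr.cons (nat_lit 1) (nat_lit 1) (Step.D (nat_lit 4721) (Step.F (nat_lit 5029) Step.done)) (Scr.cons (nat_lit 7) (nat_lit 6) (Step.L (Step.B (nat_lit 5047) (Step.U (nat_lit 7769) (Step.U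 (nat_lit 4791) (Step.L (Step.L (Step.L (Step.D (nat_lit 2780) (Step.F (nat_lit 5048) (Step.B (nat_lit 234) (Step.B (nat_lit 218) (Step.L (Step.L (Step.L (Step.L (Step.L (Step.L (Step.L (Step.L (Step.L (Step.D (nat_lit 9050) Step.done))))))))))))))))))))) (Scr.cons (nat_lit 1) (nat_lit 1) (Step.D (nat_lit 9050) (Step.F (nat_lit 5049) (Step.D (nat_lit 10778) Step.done))) (Scr.cons (nat_lit 1) (nat_lit 1) (Step.D (nat_lit 10778) (Step.F (nat_lit 5050) Step.done)) (Scr.cons (nat_lit 12) (nat_lit 4) (Step.L (Step.L (Step.L (Step.L (Step.D (nat_lit 10042) Step.done))))) (Scr.cons (nat_lit 12) (nat_lit 4) (Step.L (Step.L (Step.L (Step.L (Step.D (nat_lit 7144) Step.done))))) (Scr.cons (nat_lit 12) (nat_lit 1) (Step.U (nat_lit 2211) (Step.F (nat_lit 312) (Step.D (nat_lit 1038) (Step.D (nat_lit 2211) (Step.D (nat_lit 4181) Step.done))))) (Scr.cons (nat_lit 12) (nat_lit 1) (Step.U (nat_lit 4182) (Step.D (nat_lit 4181) (Step.F (nat_lit 5054) (Step.D (nat_lit 4182) (Step.D (nat_lit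 7057) Step.done))))) (Scr.cons (nat_lit 11) (nat_lit 0) (Step.U (nat_lit 4182) (Step.U (nat_lit 2211) (Step.D (nat_lit 2210) (Step.D (nat_lit 4180) (Step.D (nat_lit 7055) Step.done))))) (Scr.cons (nat_lit 12) (nat_lit 1) (Step.F (nat_lit 1494) (Step.L (Step.L (Step.B (nat_lit 1494) (Step.D (nat_lit 6912) Step.done))))) (Scr.cons (nat_lit 9) (nat_lit 5) (Step.U (nat_lit 6925) (Step.U (nat_lit 4068) (Step.U (nat_lit 2132) (Step.U (nat_lit 995) (Step.U (nat_lit 377) (Step.L (Step.L (Step.L (Step.L (Step.L (Step.L (Step.L (Step.L (Step.L (Step.L (Step.L (Step.L (Step.L (Step.L (Step.L (Step.B (nat_lit 1494) (Step.B (nat_lit 5057) (Step.D (nat_lit 10049) Step.done))))))))))))))))))))))) (Scr.cons (nat_lit 12) (nat_lit 0) (Step.B (nat_lit 5058) (Step.U (nat_lit 10049) (Step.F (nat_lit 5057) (Step.D (nat_lit 6912) (Step.D (nat_lit 10049) Step.done))))) (Scr.cons (nat_lit 11) (nat_lit 0) (Step.U (nat_lit 4070) (Step.U (nat_lit 2133) (Step.D (nat_lit 2132) (Step.D (nat_lit 4068)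 (Step.D (nat_lit 6925) Step.done))))) (Scr.cons (nat_lit 12) (nat_lit 4) (Step.U (nat_lit 1379) (Step.L (Step.L (Step.D (nat_lit 1379) (Step.D (nat_lit 2812) Step.done))))) (Scr.cons (nat_lit 12) (nat_lit 4) (Step.U (nat_lit 2813) (Step.D (nat_lit 2812) (Step.F (nat_lit 5061) (Step.D (nat_lit 2813) (Step.D (nat_lit 5097) Step.done))))) (Scr.cons (nat_lit 16) (nat_lit 0) (Step.U (nat_lit 4286) (Step.L (Step.L (Step.L (Step.L (Step.L (Step.L (Step.L (Step.L (Step.L (Step.L (Step.L (Step.L (Step.L (Step.L (Step.L (Step.L (Step.L (Step.L (Step.L (Step.D (nat_lit 1379) (Step.D (nat_lit 2813) (Step.D (nat_lit 5098) Step.done))))))))))))))))))))))) (Scr.cons (nat_lit 12) (nat_lit 4) (Step.U (nat_lit 5098) (Step.D (nat_lit 5097) (Step.F (nat_lit 5062) (Step.D (nat_lit 5098) (Step.F (nat_lit 5063) Step.done))))) (Scr.cons (nat_lit 11) (nat_lit 0) (Step.U (nat_lit 2814) (Step.L (Step.D (nat_lit 1379) (Step.D (nat_lit 2813) (Step.D (nat_lit 5098) Step.done))))) (Scr.cons (nat_lit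 13) (nat_lit 3) (Step.U (nat_lit 988) (Step.U (nat_lit 374) (Step.L (Step.L (Step.L (Step.L (Step.L (Step.L (Step.L (Step.L (Step.D (nat_lit 2108) Step.done))))))))))) (Scr.cons (nat_lit 16) (nat_lit 1) (Step.F (nat_lit 5064) (Step.F (nat_lit 5065) (Step.U (nat_lit 2814) (Step.L (Step.L (Step.L (Step.L (Step.L (Step.L (Step.L (Step.L (Step.L (Step.L (Step.L (Step.D (nat_lit 2758) (Step.B (nat_lit 3492) (Step.F (nat_lit 4499) (Step.U (nat_lit 2109) (Step.D (nat_lit 2108) (Step.F (nat_lit 5066) (Step.D (nat_lit 2115) (Step.D (nat_lit 4039) (Step.D (nat_lit 6888) Step.done))))))))))))))))))))))) (Scr.cons (nat_lit 14) (nat_lit 1) (Step.F (nat_lit 5067) (Step.F (nat_lit 5064) (Step.F (nat_lit 5065) (Step.U (nat_lit 2814) (Step.L (Step.L (Step.L (Step.L (Step.L (Step.L (Step.L (Step.L (Step.L (Step.L (Step.L (Step.L (Step.D (nat_lit 377) (Step.D (nat_lit 996) (Step.D (nat_lit 2134) (Step.B (nat_lit 3302) Step.done)))))))))))))))))))) (Scr.cons (nat_lit 12) (nat_lit 1) (Step.L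 (Step.L (Step.L (Step.L (Step.D (nat_lit 7186) Step.done))))) (Scr.cons (nat_lit 14) (nat_lit 2) (Step.F (nat_lit 5059) (Step.F (nat_lit 5060) (Step.U (nat_lit 4070) (Step.U (nat_lit 2133) (Step.U (nat_lit 995) (Step.D (nat_lit 996) (Step.D (nat_lit 2134) (Step.D (nat_lit 4071) (Step.F (nat_lit 5068) (Step.F (nat_lit 5067) (Step.U (nat_lit 4286) (Step.L (Step.L (Step.L (Step.L (Step.L (Step.L (Step.L (Step.B (nat_lit 5069) (Step.D (nat_lit 10277) Step.done)))))))))))))))))))) (Scr.cons (nat_lit 4) (nat_lit 0) (Step.U (nat_lit 10048) (Step.D (nat_lit 10049) (Step.B (nat_lit 5070) (Step.U (nat_lit 10277) (Step.D (nat_lit 10278) Step.done))))) (Scr.cons (nat_lit 12) (nat_lit 1) (Step.U (nat_lit 2125) (Step.L (Step.L (Step.D (nat_lit 2125) (Step.D (nat_lit 4055) Step.done))))) (Scr.cons (nat_lit 12) (nat_lit 1) (Step.U (nat_lit 4056) (Step.D (nat_lit 4055) (Step.F (nat_lit 5072) (Step.D (nat_lit 4056) (Step.D (nat_lit 6908) Step.done))))) (Scr.cons (nat_lit 7) (nat_lit 5)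 (Step.U (nat_lit 10179) (Step.F (nat_lit 5055) (Step.B (nat_lit 5056) (Step.U (nat_lit 7055) (Step.U (nat_lit 4180) (Step.B (nat_lit 314) (Step.L (Step.L (Step.D (nat_lit 7186) (Step.D (nat_lit 10278) (Step.F (nat_lit 5071) (Step.U (nat_lit 10048) (Step.U (nat_lit 6912) (Step.U (nat_lit 4061) (Step.L (Step.L (Step.L (Step.D (nat_lit 2125) (Step.D (nat_lit 4056) (Step.B (nat_lit 5073) (Step.D (nat_lit 10044) Step.done))))))))))))))))))))) (Scr.cons (nat_lit 1) (nat_lit 1) (Step.D (nat_lit 10179) (Step.B (nat_lit 5074) Step.done)) (Scr.cons (nat_lit 12) (nat_lit 1) (Step.U (nat_lit 3709) (Step.L (Step.L (Step.D (nat_lit 3709) (Step.D (nat_lit 6439) Step.done))))) (Scr.cons (nat_lit 6) (nat_lit 3) (Step.L (Step.L (Step.L (Step.L (Step.L (Step.L (Step.L (Step.L (Step.D (nat_lit 3709) (Step.B (nat_lit 5076) (Step.D (nat_lit 9585) Step.done))))))))))) (Scr.cons (nat_lit 11) (nat_lit 0) (Step.U (nat_lit 3709) (Step.L (Step.L (Step.D (nat_lit 3708) (Step.D (nat_lit 6438) Step.done)))))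 (Scr.cons (nat_lit 15) (nat_lit 0) (Step.U (nat_lit 4246) (Step.L (Step.L (Step.L (Step.L (Step.L (Step.L (Step.L (Step.L (Step.L (Step.L (Step.L (Step.L (Step.L (Step.D (nat_lit 7118) Step.done))))))))))))))) (Scr.cons (nat_lit 6) (nat_lit 1) (Step.U (nat_lit 3710) (Step.L (Step.L (Step.L (Step.L (Step.L (Step.L (Step.L (Step.L (Step.L (Step.D (nat_lit 6437) Step.done))))))))))) (Scr.cons (nat_lit 4) (nat_lit 0) (Step.B (nat_lit 3388) (Step.U (nat_lit 6441) (Step.L (Step.D (nat_lit 3710) (Step.D (nat_lit 6442) Step.done))))) (Scr.cons (nat_lit 1) (nat_lit 1) (Step.F (nat_lit 5081) (Step.F (nat_lit 3401) (Step.L Step.done))) Scr.nil))))))))))))))))))))))))))))))))))))))))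
noncomputable def s127 : Scr := (Scr.cons (nat_lit 1) (nat_lit 1) (Step.D (nat_lit 6442) (Step.B (nat_lit 5082) (Step.L Step.done))) (Scr.cons (nat_lit 0) (nat_lit 1) (Step.F (nat_lit 5080) (Step.B (nat_lit 5083) (Step.L Step.done))) (Scr.cons (nat_lit 1) (nat_lit 1) (Step.D (nat_lit 6437) (Step.B (nat_lit 5084) (Step.D (nat_lit 7118) Step.done))) (Scr.cons (nat_lit 0) (nat_lit 1) (Step.B (nat_lit 5079) (Step.F (nat_lit 5085) (Step.L Step.done))) (Scr.cons (nat_lit 1) (nat_lit 1) (Step.D (nat_lit 4246) (Step.B (nat_lit 5086) (Step.D (nat_lit 3708) Step.done))) (Scr.cons (nat_lit 1) (nat_lit 1) (Step.U (nat_lit 6438) (Step.F (nat_lit 5087) (Step.D (nat_lit 4245) Step.done))) (Scr.cons (nat_lit 1) (nat_lit 1) (Step.B (nat_lit 5078) (Step.B (nat_lit 5088) (Step.D (nat_lit 7135) Step.done))) (Scr.cons (nat_lit 1) (nat_lit 1) (Step.D (nat_lit 7135) (Step.F (nat_lit 5089) Step.done)) (Scr.cons (nat_lit 12) (nat_lit 4) (Step.U (nat_lit 4245) (Step.L (Step.L (Step.D (nat_lit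 4245) (Step.D (nat_lit 7134) Step.done))))) (Scr.cons (nat_lit 12) (nat_lit 4) (Step.U (nat_lit 2252) (Step.L (Step.L (Step.D (nat_lit 2252) (Step.D (nat_lit 4244) Step.done))))) (Scr.cons (nat_lit 12) (nat_lit 1) (Step.F (nat_lit 3495) (Step.D (nat_lit 138) (Step.F (nat_lit 3483) (Step.B (nat_lit 3495) (Step.D (nat_lit 403) Step.done))))) (Scr.cons (nat_lit 12) (nat_lit 1) (Step.U (nat_lit 1042) (Step.F (nat_lit 5093) (Step.D (nat_lit 403) (Step.D (nat_lit 1042) (Step.D (nat_lit 2215) Step.done))))) (Scr.cons (nat_lit 9) (nat_lit 2) (Step.U (nat_lit 4244) (Step.U (nat_lit 2252) (Step.L (Step.L (Step.L (Step.L (Step.L (Step.L (Step.L (Step.L (Step.L (Step.L (Step.L (Step.L (Step.L (Step.L (Step.D (nat_lit 39) (Step.B (nat_lit 3495) (Step.B (nat_lit 5093) (Step.D (nat_lit 1042) (Step.B (nat_lit 5094) (Step.D (nat_lit 4186) (Step.D (nat_lit 7061) Step.done))))))))))))))))))))))) (Scr.cons (nat_lit 11) (nat_lit 0) (Step.B (nat_lit 5095) (Step.U (nat_lit 7061) (Step.U (nat_lit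 4186) (Step.D (nat_lit 4185) (Step.D (nat_lit 7060) Step.done))))) (Scr.cons (nat_lit 13) (nat_lit 3) (Step.U (nat_lit 7134) (Step.U (nat_lit 4245) (Step.L (Step.L (Step.L (Step.L (Step.L (Step.D (nat_lit 2252) (Step.B (nat_lit 5092) (Step.B (nat_lit 5096) (Step.D (nat_lit 10182) Step.done))))))))))) (Scr.cons (nat_lit 6) (nat_lit 3) (Step.U (nat_lit 4185) (Step.U (nat_lit 2215) (Step.U (nat_lit 1042) (Step.F (nat_lit 5093) (Step.U (nat_lit 137) (Step.B (nat_lit 311) (Step.D (nat_lit 401) (Step.D (nat_lit 1038) (Step.D (nat_lit 2211) (Step.B (nat_lit 5054) (Step.D (nat_lit 7056) Step.done))))))))))) (Scr.cons (nat_lit 8) (nat_lit 1) (Step.U (nat_lit 10246) (Step.B (nat_lit 5077) (Step.U (nat_lit 9585) (Step.U (nat_lit 6439) (Step.F (nat_lit 5090) (Step.B (nat_lit 5091) (Step.B (nat_lit 5097) (Step.U (nat_lit 10182) (Step.U (nat_lit 7060) (Step.B (nat_lit 5098) (Step.U (nat_lit 7056) (Step.U (nat_lit 4181) (Step.D (nat_lit 4182) (Step.B (nat_lit 5055) (Step.D (nat_lit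 10180) Step.done))))))))))))))) (Scr.cons (nat_lit 7) (nat_lit 5) (Step.L (Step.L (Step.L (Step.L (Step.L (Step.L (Step.D (nat_lit 2125) (Step.D (nat_lit 4056) (Step.D (nat_lit 6908) (Step.D (nat_lit 10044) (Step.F (nat_lit 5075) (Step.D (nat_lit 10180) (Step.F (nat_lit 5099) (Step.U (nat_lit 10246) (Step.L (Step.L (Step.L (Step.L (Step.L (Step.B (nat_lit 5053) (Step.D (nat_lit 10245) Step.done))))))))))))))))))))) (Scr.cons (nat_lit 1) (nat_lit 1) (Step.D (nat_lit 10245) (Step.F (nat_lit 5100) (Step.L Step.done))) (Scr.cons (nat_lit 0) (nat_lit 1) (Step.B (nat_lit 5053) (Step.B (nat_lit 5101) (Step.D (nat_lit 10042) Step.done))) (Scr.cons (nat_lit 0) (nat_lit 0) (Step.B (nat_lit 5052) (Step.F (nat_lit 5102) Step.done)) (Scr.cons (nat_lit 8) (nat_lit 1) (Step.U (nat_lit 2124) (Step.L (Step.L (Step.L (Step.L (Step.L (Step.L (Step.L (Step.L (Step.L (Step.L (Step.L (Step.L (Step.L (Step.D (nat_lit 4049) Step.done))))))))))))))) (Scr.cons (nat_lit 12) (nat_lit 0) (Step.B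 (nat_lit 5104) (Step.U (nat_lit 4049) (Step.L (Step.L (Step.D (nat_lit 4049) Step.done))))) (Scr.cons (nat_lit 15) (nat_lit 0) (Step.L (Step.L (Step.L (Step.L (Step.L (Step.L (Step.L (Step.L (Step.L (Step.L (Step.L (Step.L (Step.L (Step.L (Step.D (nat_lit 9198) Step.done))))))))))))))) (Scr.cons (nat_lit 6) (nat_lit 2) (Step.U (nat_lit 6901) (Step.F (nat_lit 5105) (Step.U (nat_lit 2124) (Step.L (Step.L (Step.L (Step.L (Step.L (Step.L (Step.L (Step.L (Step.B (nat_lit 5106) Step.done)))))))))))) (Scr.cons (nat_lit 11) (nat_lit 0) (Step.U (nat_lit 6901) (Step.U (nat_lit 4049) (Step.L (Step.L (Step.D (nat_lit 10034) Step.done))))) (Scr.cons (nat_lit 1) (nat_lit 0) (Step.D (nat_lit 9198) (Step.F (nat_lit 5107) (Step.B (nat_lit 5108) Step.done))) (Scr.cons (nat_lit 1) (nat_lit 0) (Step.D (nat_lit 10034) (Step.F (nat_lit 5109) (Step.D (nat_lit 9199) Step.done))) (Scr.cons (nat_lit 1) (nat_lit 0) (Step.D (nat_lit 9199) (Step.F (nat_lit 5110) Step.done)) (Scr.cons (nat_lit 12)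 (nat_lit 4) (Step.L (Step.L (Step.L (Step.L (Step.D (nat_lit 10051) Step.done))))) (Scr.cons (nat_lit 12) (nat_lit 4) (Step.L (Step.L (Step.L (Step.L (Step.D (nat_lit 6051) Step.done))))) (Scr.cons (nat_lit 12) (nat_lit 4) (Step.L (Step.D (nat_lit 6051) (Step.F (nat_lit 5113) (Step.L (Step.D (nat_lit 9196) Step.done))))) (Scr.cons (nat_lit 11) (nat_lit 0) (Step.L (Step.L (Step.L (Step.L (Step.D (nat_lit 6053) Step.done))))) (Scr.cons (nat_lit 11) (nat_lit 0) (Step.L (Step.L (Step.L (Step.L (Step.D (nat_lit 9197) Step.done))))) (Scr.cons (nat_lit 9) (nat_lit 4) (Step.L (Step.L (Step.B (nat_lit 1494) (Step.U (nat_lit 4061) (Step.L (Step.L (Step.L (Step.L (Step.L (Step.L (Step.L (Step.L (Step.L (Step.L (Step.B (nat_lit 5115) (Step.U (nat_lit 6053) (Step.L (Step.L (Step.L (Step.L (Step.L (Step.B (nat_lit 5116) (Step.U (nat_lit 9197) (Step.B (nat_lit 5114) Step.done)))))))))))))))))))))))) (Scr.cons (nat_lit 0) (nat_lit 1) (Step.B (nat_lit 5114) (Step.F (nat_lit 5117) (Step.D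 (nat_lit 10051) Step.done))) (Scr.cons (nat_lit 0) (nat_lit 0) (Step.B (nat_lit 5112) (Step.F (nat_lit 5118) Step.done)) (Scr.cons (nat_lit 12) (nat_lit 1) (Step.L (Step.L (Step.L (Step.L (Step.D (nat_lit 4898) Step.done))))) (Scr.cons (nat_lit 7) (nat_lit 6) (Step.U (nat_lit 8761) (Step.U (nat_lit 5657) (Step.L (Step.L (Step.L (Step.L (Step.L (Step.L (Step.L (Step.L (Step.L (Step.L (Step.L (Step.L (Step.L (Step.L (Step.L (Step.B (nat_lit 5120) (Step.D (nat_lit 7897) (Step.D (nat_lit 10892) Step.done)))))))))))))))))))) (Scr.cons (nat_lit 6) (nat_lit 3) (Step.L (Step.L (Step.L (Step.L (Step.L (Step.L (Step.L (Step.L (Step.L (Step.L (Step.D (nat_lit 685) Step.done))))))))))) Scr.nil))))))))))))))))))))))))))))))))))))))))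
noncomputable def s128 : Scr := (Scr.cons (nat_lit 12) (nat_lit 1) (Step.U (nat_lit 1249) (Step.L (Step.L (Step.D (nat_lit 1249) (Step.D (nat_lit 2570) Step.done))))) (Scr.cons (nat_lit 12) (nat_lit 4) (Step.U (nat_lit 4735) (Step.F (nat_lit 5123) (Step.D (nat_lit 2570) (Step.D (nat_lit 4735) (Step.D (nat_lit 7710) Step.done))))) (Scr.cons (nat_lit 12) (nat_lit 4) (Step.U (nat_lit 7711) (Step.D (nat_lit 7710) (Step.F (nat_lit 5124) (Step.D (nat_lit 7711) (Step.D (nat_lit 10731) Step.done))))) (Scr.cons (nat_lit 11) (nat_lit 0) (Step.U (nat_lit 7712) (Step.U (nat_lit 4736) (Step.D (nat_lit 4735) (Step.D (nat_lit 7711) (Step.D (nat_lit 10732) Step.done))))) (Scr.cons (nat_lit 14) (nat_lit 3) (Step.F (nat_lit 162) (Step.L (Step.L (Step.L (Step.L (Step.L (Step.L (Step.L (Step.L (Step.L (Step.L (Step.D (nat_lit 3228) (Step.F (nat_lit 2466) (Step.F (nat_lit 2465) (Step.U (nat_lit 1250) (Step.L (Step.L (Step.L (Step.L (Step.D (nat_lit 4739) Step.done)))))))))))))))))))) (Scr.cons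 (nat_lit 12) (nat_lit 1) (Step.F (nat_lit 16) (Step.L (Step.L (Step.B (nat_lit 16) (Step.D (nat_lit 1294) Step.done))))) (Scr.cons (nat_lit 6) (nat_lit 0) (Step.U (nat_lit 4738) (Step.D (nat_lit 4739) (Step.F (nat_lit 5127) (Step.U (nat_lit 2586) (Step.U (nat_lit 1261) (Step.F (nat_lit 159) (Step.L (Step.B (nat_lit 16) (Step.B (nat_lit 5128) (Step.D (nat_lit 2653) (Step.D (nat_lit 4858) Step.done))))))))))) (Scr.cons (nat_lit 12) (nat_lit 4) (Step.U (nat_lit 2653) (Step.F (nat_lit 5128) (Step.D (nat_lit 1294) (Step.D (nat_lit 2653) (Step.D (nat_lit 4858) Step.done))))) (Scr.cons (nat_lit 15) (nat_lit 0) (Step.U (nat_lit 4736) (Step.F (nat_lit 5123) (Step.U (nat_lit 1249) (Step.L (Step.L (Step.L (Step.L (Step.L (Step.L (Step.L (Step.L (Step.D (nat_lit 4738) (Step.B (nat_lit 5129) (Step.F (nat_lit 5130) (Step.D (nat_lit 4859) Step.done))))))))))))))) (Scr.cons (nat_lit 11) (nat_lit 0) (Step.U (nat_lit 4861) (Step.U (nat_lit 2654) (Step.D (nat_lit 2653) (Step.D (nat_lit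 4859) (Step.D (nat_lit 7848) Step.done))))) (Scr.cons (nat_lit 12) (nat_lit 1) (Step.U (nat_lit 2654) (Step.F (nat_lit 5128) (Step.D (nat_lit 1294) (Step.D (nat_lit 2654) (Step.D (nat_lit 4860) Step.done))))) (Scr.cons (nat_lit 12) (nat_lit 1) (Step.U (nat_lit 4861) (Step.D (nat_lit 4860) (Step.F (nat_lit 5133) (Step.D (nat_lit 4861) (Step.D (nat_lit 7849) Step.done))))) (Scr.cons (nat_lit 12) (nat_lit 4) (Step.L (Step.L (Step.L (Step.L (Step.D (nat_lit 4738) Step.done))))) (Scr.cons (nat_lit 16) (nat_lit 4) (Step.U (nat_lit 7714) (Step.F (nat_lit 5135) (Step.D (nat_lit 4739) (Step.F (nat_lit 5127) (Step.F (nat_lit 162) (Step.L (Step.L (Step.L (Step.L (Step.L (Step.L (Step.L (Step.L (Step.L (Step.L (Step.L (Step.L (Step.L (Step.L (Step.D (nat_lit 1336) (Step.D (nat_lit 2723) (Step.D (nat_lit 4960) (Step.D (nat_lit 7972) Step.done))))))))))))))))))))))) (Scr.cons (nat_lit 4) (nat_lit 0) (Step.U (nat_lit 7847) (Step.F (nat_lit 5129) (Step.D (nat_lit 7714) (Step.B (nat_lit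 5136) (Step.U (nat_lit 7972) Step.done))))) (Scr.cons (nat_lit 12) (nat_lit 4) (Step.U (nat_lit 2723) (Step.F (nat_lit 857) (Step.D (nat_lit 1336) (Step.D (nat_lit 2723) (Step.D (nat_lit 4960) Step.done))))) (Scr.cons (nat_lit 11) (nat_lit 0) (Step.U (nat_lit 1477) (Step.L (Step.L (Step.D (nat_lit 1476) (Step.D (nat_lit 2987) Step.done))))) (Scr.cons (nat_lit 12) (nat_lit 1) (Step.U (nat_lit 1477) (Step.L (Step.L (Step.D (nat_lit 1477) (Step.D (nat_lit 2988) Step.done))))) (Scr.cons (nat_lit 12) (nat_lit 1) (Step.F (nat_lit 5139) (Step.D (nat_lit 2988) (Step.F (nat_lit 5140) (Step.B (nat_lit 5139) (Step.D (nat_lit 5383) Step.done))))) (Scr.cons (nat_lit 14) (nat_lit 2) (Step.F (nat_lit 5134) (Step.U (nat_lit 4861) (Step.U (nat_lit 2654) (Step.D (nat_lit 2653) (Step.B (nat_lit 5130) (Step.D (nat_lit 7847) (Step.B (nat_lit 5137) (Step.F (nat_lit 5138) (Step.D (nat_lit 4961) (Step.F (nat_lit 859) (Step.U (nat_lit 2986) (Step.U (nat_lit 1475) (Step.L (Step.L (Step.L (Step.L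 (Step.D (nat_lit 1476) (Step.D (nat_lit 2987) (Step.B (nat_lit 5141) (Step.D (nat_lit 8444) Step.done)))))))))))))))))))) (Scr.cons (nat_lit 16) (nat_lit 1) (Step.F (nat_lit 5141) (Step.F (nat_lit 5139) (Step.U (nat_lit 1477) (Step.L (Step.L (Step.L (Step.L (Step.L (Step.L (Step.L (Step.L (Step.L (Step.L (Step.L (Step.L (Step.L (Step.L (Step.L (Step.L (Step.L (Step.D (nat_lit 639) (Step.D (nat_lit 1525) (Step.D (nat_lit 3055) Step.done))))))))))))))))))))))) (Scr.cons (nat_lit 4) (nat_lit 0) (Step.B (nat_lit 5142) (Step.U (nat_lit 8444) (Step.B (nat_lit 5143) (Step.D (nat_lit 5478) (Step.D (nat_lit 8565) Step.done))))) (Scr.cons (nat_lit 11) (nat_lit 0) (Step.U (nat_lit 641) (Step.L (Step.L (Step.D (nat_lit 639) (Step.D (nat_lit 1525) Step.done))))) (Scr.cons (nat_lit 13) (nat_lit 3) (Step.U (nat_lit 233) (Step.L (Step.L (Step.L (Step.L (Step.L (Step.L (Step.L (Step.L (Step.L (Step.D (nat_lit 640) Step.done))))))))))) (Scr.cons (nat_lit 12) (nat_lit 4) (Step.L (Step.L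 (Step.L (Step.L (Step.D (nat_lit 233) Step.done))))) (Scr.cons (nat_lit 12) (nat_lit 4) (Step.U (nat_lit 648) (Step.F (nat_lit 5147) (Step.D (nat_lit 233) (Step.D (nat_lit 648) (Step.D (nat_lit 1541) Step.done))))) (Scr.cons (nat_lit 12) (nat_lit 4) (Step.U (nat_lit 1542) (Step.D (nat_lit 1541) (Step.F (nat_lit 5148) (Step.D (nat_lit 1542) (Step.D (nat_lit 3081) Step.done))))) (Scr.cons (nat_lit 14) (nat_lit 3) (Step.F (nat_lit 5125) (Step.D (nat_lit 10732) (Step.F (nat_lit 5126) (Step.U (nat_lit 7712) (Step.B (nat_lit 5131) (Step.D (nat_lit 7848) (Step.F (nat_lit 5132) (Step.D (nat_lit 7849) (Step.B (nat_lit 5144) (Step.U (nat_lit 8565) (Step.U (nat_lit 5478) (Step.U (nat_lit 3055) (Step.F (nat_lit 5145) (Step.U (nat_lit 641) (Step.D (nat_lit 640) (Step.F (nat_lit 5146) (Step.D (nat_lit 648) (Step.D (nat_lit 1542) (Step.B (nat_lit 5149) (Step.D (nat_lit 5503) (Step.D (nat_lit 8589) Step.done))))))))))))))))))))) (Scr.cons (nat_lit 0) (nat_lit 1) (Step.D (nat_lit 10731)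 (Step.B (nat_lit 5150) Step.done)) (Scr.cons (nat_lit 1) (nat_lit 0) (Step.D (nat_lit 2587) (Step.B (nat_lit 4116) (Step.D (nat_lit 2615) Step.done))) (Scr.cons (nat_lit 1) (nat_lit 0) (Step.B (nat_lit 1741) (Step.F (nat_lit 5152) (Step.L Step.done))) (Scr.cons (nat_lit 13) (nat_lit 0) (Step.L (Step.L (Step.L (Step.L (Step.L (Step.L (Step.L (Step.L (Step.L (Step.L (Step.D (nat_lit 1248) Step.done))))))))))) (Scr.cons (nat_lit 0) (nat_lit 1) (Step.B (nat_lit 1733) (Step.B (nat_lit 5153) (Step.B (nat_lit 5154) Step.done))) (Scr.cons (nat_lit 1) (nat_lit 0) (Step.D (nat_lit 1248) (Step.F (nat_lit 5155) (Step.B (nat_lit 1740) Step.done))) (Scr.cons (nat_lit 1) (nat_lit 0) (Step.D (nat_lit 688) (Step.F (nat_lit 5156) (Step.D (nat_lit 1249) Step.done))) (Scr.cons (nat_lit 13) (nat_lit 0) (Step.L (Step.L (Step.L (Step.L (Step.L (Step.L (Step.L (Step.L (Step.L (Step.L (Step.D (nat_lit 685) Step.done))))))))))) (Scr.cons (nat_lit 0) (nat_lit 1) (Step.U (nat_lit 2570) (Step.F (nat_lit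 5157) (Step.B (nat_lit 5158) Step.done))) (Scr.cons (nat_lit 1) (nat_lit 1) (Step.U (nat_lit 4735) (Step.B (nat_lit 5159) (Step.D (nat_lit 1608) Step.done))) (Scr.cons (nat_lit 1) (nat_lit 1) (Step.U (nat_lit 7711) (Step.B (nat_lit 5160) (Step.D (nat_lit 3189) Step.done))) (Scr.cons (nat_lit 0) (nat_lit 1) (Step.F (nat_lit 5151) (Step.B (nat_lit 5161) (Step.D (nat_lit 5646) Step.done))) Scr.nil))))))))))))))))))))))))))))))))))))))))
noncomputable def s129 : Scr := (Scr.cons (nat_lit 1) (nat_lit 0) (Step.D (nat_lit 8589) (Step.B (nat_lit 5162) (Step.D (nat_lit 8743) Step.done))) (Scr.cons (nat_lit 1) (nat_lit 0) (Step.D (nat_lit 8743) (Step.F (nat_lit 5163) Step.done)) (Scr.cons (nat_lit 11) (nat_lit 0) (Step.U (nat_lit 8591) (Step.U (nat_lit 5504) (Step.D (nat_lit 5503) (Step.F (nat_lit 5164) (Step.D (nat_lit 8742) Step.done))))) (Scr.cons (nat_lit 12) (nat_lit 1) (Step.U (nat_lit 5504) (Step.F (nat_lit 5149) (Step.D (nat_lit 3081) (Step.D (nat_lit 5504) (Step.D (nat_lit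 8590) Step.done))))) (Scr.cons (nat_lit 4) (nat_lit 0) (Step.U (nat_lit 1542) (Step.U (nat_lit 648) (Step.B (nat_lit 5146) (Step.D (nat_lit 1526) (Step.D (nat_lit 3056) Step.done))))) (Scr.cons (nat_lit 12) (nat_lit 1) (Step.L (Step.L (Step.L (Step.L (Step.D (nat_lit 640) Step.done))))) (Scr.cons (nat_lit 16) (nat_lit 5) (Step.F (nat_lit 5166) (Step.U (nat_lit 5504) (Step.F (nat_lit 5149) (Step.B (nat_lit 5167) (Step.U (nat_lit 3056) (Step.U (nat_lit 1526) (Step.F (nat_lit 5168) (Step.L (Step.L (Step.L (Step.L (Step.L (Step.L (Step.L (Step.L (Step.L (Step.L (Step.L (Step.L (Step.L (Step.D (nat_lit 3388) (Step.D (nat_lit 5993) (Step.D (nat_lit 9152) Step.done))))))))))))))))))))))) (Scr.cons (nat_lit 4) (nat_lit 0) (Step.B (nat_lit 5169) (Step.U (nat_lit 9152) (Step.U (nat_lit 5993) (Step.D (nat_lit 5994) (Step.D (nat_lit 9154) Step.done))))) (Scr.cons (nat_lit 12) (nat_lit 4) (Step.L (Step.L (Step.L (Step.L (Step.D (nat_lit 3388) Step.done))))) (Scr.cons (nat_lit 13)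 (nat_lit 3) (Step.U (nat_lit 5996) (Step.L (Step.L (Step.L (Step.L (Step.L (Step.L (Step.L (Step.B (nat_lit 5171) (Step.D (nat_lit 5994) (Step.D (nat_lit 9153) Step.done))))))))))) (Scr.cons (nat_lit 14) (nat_lit 6) (Step.U (nat_lit 7897) (Step.U (nat_lit 4898) (Step.L (Step.L (Step.L (Step.L (Step.L (Step.L (Step.B (nat_lit 5122) (Step.D (nat_lit 1608) (Step.D (nat_lit 3189) (Step.D (nat_lit 5646) (Step.D (nat_lit 8742) (Step.F (nat_lit 5165) (Step.U (nat_lit 8591) (Step.B (nat_lit 5166) (Step.B (nat_lit 5170) (Step.U (nat_lit 9154) (Step.D (nat_lit 9153) (Step.F (nat_lit 5172) (Step.D (nat_lit 9156) Step.done))))))))))))))))))))) (Scr.cons (nat_lit 1) (nat_lit 0) (Step.D (nat_lit 9156) (Step.F (nat_lit 5173) (Step.D (nat_lit 10892) Step.done))) (Scr.cons (nat_lit 12) (nat_lit 4) (Step.L (Step.L (Step.L (Step.L (Step.D (nat_lit 5996) Step.done))))) (Scr.cons (nat_lit 0) (nat_lit 1) (Step.B (nat_lit 5121) (Step.F (nat_lit 5174) (Step.F (nat_lit 5175) Step.done))) (Scr.cons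 (nat_lit 1) (nat_lit 0) (Step.D (nat_lit 8761) (Step.B (nat_lit 5176) (Step.L Step.done))) (Scr.cons (nat_lit 1) (nat_lit 0) (Step.D (nat_lit 5657) (Step.B (nat_lit 5177) (Step.D (nat_lit 3389) Step.done))) (Scr.cons (nat_lit 1) (nat_lit 0) (Step.D (nat_lit 3389) (Step.F (nat_lit 5178) Step.done)) (Scr.cons (nat_lit 12) (nat_lit 1) (Step.L (Step.L (Step.L (Step.L (Step.D (nat_lit 4895) Step.done))))) (Scr.cons (nat_lit 12) (nat_lit 1) (Step.U (nat_lit 7894) (Step.F (nat_lit 5180) (Step.D (nat_lit 4895) (Step.D (nat_lit 7894) (Step.D (nat_lit 10889) Step.done))))) (Scr.cons (nat_lit 9) (nat_lit 0) (Step.U (nat_lit 9978) (Step.U (nat_lit 6823) (Step.L (Step.L (Step.L (Step.L (Step.L (Step.L (Step.L (Step.L (Step.L (Step.L (Step.L (Step.L (Step.L (Step.L (Step.L (Step.L (Step.L (Step.L (Step.B (nat_lit 5180) (Step.D (nat_lit 7894) (Step.B (nat_lit 5181) Step.done))))))))))))))))))))))) (Scr.cons (nat_lit 8) (nat_lit 1) (Step.L (Step.L (Step.L (Step.L (Step.L (Step.L (Step.L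 (Step.L (Step.L (Step.L (Step.L (Step.L (Step.B (nat_lit 5180) (Step.D (nat_lit 7894) (Step.B (nat_lit 5181) (Step.F (nat_lit 5182) Step.done)))))))))))))))) (Scr.cons (nat_lit 1) (nat_lit 0) (Step.D (nat_lit 9978) (Step.F (nat_lit 5183) (Step.L Step.done))) (Scr.cons (nat_lit 1) (nat_lit 0) (Step.D (nat_lit 6823) (Step.B (nat_lit 5184) (Step.D (nat_lit 6004) Step.done))) (Scr.cons (nat_lit 1) (nat_lit 0) (Step.D (nat_lit 6004) (Step.F (nat_lit 5185) Step.done)) (Scr.cons (nat_lit 12) (nat_lit 1) (Step.U (nat_lit 2255) (Step.L (Step.L (Step.D (nat_lit 2255) (Step.D (nat_lit 4253) Step.done))))) (Scr.cons (nat_lit 11) (nat_lit 0) (Step.U (nat_lit 4243) (Step.U (nat_lit 2251) (Step.L (Step.D (nat_lit 4221) (Step.D (nat_lit 7103) Step.done))))) (Scr.cons (nat_lit 12) (nat_lit 1) (Step.U (nat_lit 2251) (Step.L (Step.L (Step.D (nat_lit 2251) (Step.D (nat_lit 4242) Step.done))))) (Scr.cons (nat_lit 12) (nat_lit 1) (Step.U (nat_lit 4243) (Step.D (nat_lit 4242) (Step.F (nat_lit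 5189) (Step.D (nat_lit 4243) (Step.D (nat_lit 7130) Step.done))))) (Scr.cons (nat_lit 12) (nat_lit 1) (Step.F (nat_lit 5188) (Step.D (nat_lit 7130) (Step.F (nat_lit 5190) (Step.B (nat_lit 5188) (Step.D (nat_lit 10210) Step.done))))) (Scr.cons (nat_lit 12) (nat_lit 4) (Step.U (nat_lit 4252) (Step.L (Step.L (Step.D (nat_lit 4252) (Step.D (nat_lit 7145) Step.done))))) (Scr.cons (nat_lit 12) (nat_lit 1) (Step.U (nat_lit 2544) (Step.F (nat_lit 4710) (Step.D (nat_lit 1232) (Step.D (nat_lit 2544) (Step.D (nat_lit 4688) Step.done))))) (Scr.cons (nat_lit 12) (nat_lit 1) (Step.U (nat_lit 4689) (Step.D (nat_lit 4688) (Step.F (nat_lit 5193) (Step.D (nat_lit 4689) (Step.D (nat_lit 7656) Step.done))))) (Scr.cons (nat_lit 12) (nat_lit 4) (Step.U (nat_lit 4150) (Step.F (nat_lit 4766) (Step.D (nat_lit 2187) (Step.D (nat_lit 4150) (Step.D (nat_lit 7015) Step.done))))) (Scr.cons (nat_lit 11) (nat_lit 0) (Step.U (nat_lit 7018) (Step.U (nat_lit 4151) (Step.D (nat_lit 4150) (Step.D (nat_lit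 7016) (Step.D (nat_lit 10145) Step.done))))) (Scr.cons (nat_lit 12) (nat_lit 1) (Step.U (nat_lit 4151) (Step.F (nat_lit 4766) (Step.D (nat_lit 2187) (Step.D (nat_lit 4151) (Step.D (nat_lit 7017) Step.done))))) (Scr.cons (nat_lit 12) (nat_lit 1) (Step.U (nat_lit 7018) (Step.D (nat_lit 7017) (Step.F (nat_lit 5197) (Step.D (nat_lit 7018) (Step.D (nat_lit 10146) Step.done))))) (Scr.cons (nat_lit 12) (nat_lit 1) (Step.L (Step.L (Step.L (Step.L (Step.D (nat_lit 7101) Step.done))))) (Scr.cons (nat_lit 12) (nat_lit 1) (Step.U (nat_lit 4750) (Step.D (nat_lit 4749) (Step.F (nat_lit 4776) (Step.D (nat_lit 4750) (Step.D (nat_lit 7726) Step.done))))) (Scr.cons (nat_lit 14) (nat_lit 2) (Step.F (nat_lit 5200) (Step.U (nat_lit 4750) (Step.U (nat_lit 2582) (Step.F (nat_lit 4779) (Step.U (nat_lit 1204) (Step.D (nat_lit 1205) (Step.D (nat_lit 2494) (Step.D (nat_lit 4614) (Step.B (nat_lit 2750) (Step.U (nat_lit 7098) (Step.U (nat_lit 4219) (Step.U (nat_lit 2240) (Step.L (Step.L (Step.L (Step.L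 (Step.L (Step.L (Step.B (nat_lit 5199) (Step.D (nat_lit 10207) Step.done)))))))))))))))))))) (Scr.cons (nat_lit 4) (nat_lit 0) (Step.U (nat_lit 4613) (Step.U (nat_lit 2493) (Step.B (nat_lit 4779) (Step.D (nat_lit 2582) (Step.D (nat_lit 4750) Step.done))))) Scr.nil))))))))))))))))))))))))))))))))))))))))
noncomputable def s130 : Scr := (Scr.cons (nat_lit 1) (nat_lit 1) (Step.U (nat_lit 2493) (Step.B (nat_lit 4781) (Step.L Step.done))) (Scr.cons (nat_lit 1) (nat_lit 1) (Step.U (nat_lit 4613) (Step.B (nat_lit 5203) (Step.L Step.done))) (Scr.cons (nat_lit 1) (nat_lit 1) (Step.F (nat_lit 5202) (Step.B (nat_lit 5204) (Step.L Step.done))) (Scr.cons (nat_lit 0) (nat_lit 1) (Step.U (nat_lit 7726) (Step.B (nat_lit 5205) (Step.D (nat_lit 2187) Step.done))) (Scr.cons (nat_lit 1) (nat_lit 0) (Step.F (nat_lit 5201) (Step.B (nat_lit 5206) (Step.D (nat_lit 4151) Step.done))) (Scr.cons (nat_lit 1) (nat_lit 0) (Step.D (nat_lit 10207) (Step.B (nat_lit 5207) (Step.D (nat_lit 7018) Step.done)))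 (Scr.cons (nat_lit 0) (nat_lit 1) (Step.B (nat_lit 5199) (Step.B (nat_lit 5208) (Step.D (nat_lit 10146) Step.done))) (Scr.cons (nat_lit 0) (nat_lit 0) (Step.B (nat_lit 5198) (Step.F (nat_lit 5209) Step.done)) (Scr.cons (nat_lit 14) (nat_lit 2) (Step.U (nat_lit 10685) (Step.F (nat_lit 5194) (Step.U (nat_lit 4689) (Step.U (nat_lit 2544) (Step.D (nat_lit 2543) (Step.B (nat_lit 4711) (Step.D (nat_lit 7655) (Step.F (nat_lit 4765) (Step.F (nat_lit 5195) (Step.D (nat_lit 7016) (Step.D (nat_lit 10145) (Step.F (nat_lit 5196) (Step.B (nat_lit 5210) (Step.L (Step.L (Step.L (Step.D (nat_lit 4221) (Step.D (nat_lit 7103) (Step.F (nat_lit 5188) (Step.B (nat_lit 5190) (Step.D (nat_lit 10227) Step.done))))))))))))))))))))) (Scr.cons (nat_lit 1) (nat_lit 0) (Step.D (nat_lit 10685) (Step.B (nat_lit 5211) Step.done)) (Scr.cons (nat_lit 11) (nat_lit 0) (Step.U (nat_lit 493) (Step.L (Step.D (nat_lit 168) (Step.D (nat_lit 492) (Step.D (nat_lit 1233) Step.done))))) (Scr.cons (nat_lit 12) (nat_lit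 1) (Step.L (Step.L (Step.L (Step.L (Step.D (nat_lit 4266) Step.done))))) (Scr.cons (nat_lit 16) (nat_lit 4) (Step.U (nat_lit 7164) (Step.F (nat_lit 5214) (Step.L (Step.L (Step.L (Step.L (Step.L (Step.L (Step.L (Step.L (Step.L (Step.L (Step.L (Step.L (Step.L (Step.L (Step.L (Step.L (Step.L (Step.L (Step.D (nat_lit 4252) (Step.D (nat_lit 7145) (Step.D (nat_lit 10247) Step.done))))))))))))))))))))))) (Scr.cons (nat_lit 4) (nat_lit 0) (Step.U (nat_lit 7163) (Step.D (nat_lit 7164) (Step.B (nat_lit 5215) (Step.U (nat_lit 10247) (Step.D (nat_lit 10248) Step.done))))) (Scr.cons (nat_lit 14) (nat_lit 3) (Step.U (nat_lit 10228) (Step.D (nat_lit 10227) (Step.F (nat_lit 5212) (Step.U (nat_lit 7656) (Step.U (nat_lit 4689) (Step.U (nat_lit 2544) (Step.F (nat_lit 4710) (Step.D (nat_lit 1233) (Step.F (nat_lit 5213) (Step.U (nat_lit 493) (Step.L (Step.L (Step.L (Step.L (Step.L (Step.L (Step.L (Step.B (nat_lit 5214) (Step.D (nat_lit 7163) (Step.B (nat_lit 5216) Step.done))))))))))))))))))))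 (Scr.cons (nat_lit 13) (nat_lit 3) (Step.U (nat_lit 2255) (Step.L (Step.L (Step.L (Step.D (nat_lit 4252) (Step.B (nat_lit 5192) (Step.D (nat_lit 10248) (Step.F (nat_lit 5217) (Step.U (nat_lit 10228) (Step.U (nat_lit 7130) (Step.B (nat_lit 5188) (Step.D (nat_lit 10210) Step.done)))))))))))) (Scr.cons (nat_lit 0) (nat_lit 1) (Step.B (nat_lit 5191) (Step.F (nat_lit 5218) (Step.D (nat_lit 4253) Step.done))) (Scr.cons (nat_lit 1) (nat_lit 0) (Step.D (nat_lit 7103) (Step.B (nat_lit 5219) (Step.D (nat_lit 7147) Step.done))) (Scr.cons (nat_lit 1) (nat_lit 0) (Step.D (nat_lit 7147) (Step.F (nat_lit 5220) Step.done)) (Scr.cons (nat_lit 12) (nat_lit 4) (Step.L (Step.L (Step.L (Step.L (Step.D (nat_lit 4220) Step.done))))) (Scr.cons (nat_lit 12) (nat_lit 4) (Step.U (nat_lit 7099) (Step.F (nat_lit 5222) (Step.D (nat_lit 4220) (Step.D (nat_lit 7099) (Step.D (nat_lit 10204) Step.done))))) (Scr.cons (nat_lit 1) (nat_lit 0) (Step.F (nat_lit 2983) (Step.B (nat_lit 3030) (Step.L Step.done)))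 (Scr.cons (nat_lit 1) (nat_lit 0) (Step.D (nat_lit 6822) (Step.B (nat_lit 5224) (Step.D (nat_lit 5351) Step.done))) (Scr.cons (nat_lit 1) (nat_lit 0) (Step.D (nat_lit 5351) (Step.F (nat_lit 5225) Step.done)) (Scr.cons (nat_lit 11) (nat_lit 0) (Step.L (Step.L (Step.L (Step.L (Step.D (nat_lit 1407) Step.done))))) (Scr.cons (nat_lit 12) (nat_lit 1) (Step.F (nat_lit 5227) (Step.L (Step.L (Step.B (nat_lit 5227) (Step.D (nat_lit 2860) Step.done))))) (Scr.cons (nat_lit 12) (nat_lit 4) (Step.U (nat_lit 5160) (Step.F (nat_lit 5228) (Step.D (nat_lit 2860) (Step.D (nat_lit 5160) (Step.D (nat_lit 8170) Step.done))))) (Scr.cons (nat_lit 12) (nat_lit 4) (Step.U (nat_lit 8171) (Step.D (nat_lit 8170) (Step.F (nat_lit 5229) (Step.D (nat_lit 8171) (Step.D (nat_lit 11141) Step.done))))) (Scr.cons (nat_lit 16) (nat_lit 0) (Step.U (nat_lit 10208) (Step.F (nat_lit 5199) (Step.L (Step.L (Step.L (Step.L (Step.L (Step.L (Step.L (Step.L (Step.L (Step.L (Step.L (Step.L (Step.L (Step.L (Step.L (Step.L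 (Step.D (nat_lit 1407) (Step.D (nat_lit 2860) (Step.D (nat_lit 5160) (Step.D (nat_lit 8171) (Step.D (nat_lit 11142) Step.done))))))))))))))))))))))) (Scr.cons (nat_lit 12) (nat_lit 4) (Step.U (nat_lit 11142) (Step.D (nat_lit 11141) (Step.F (nat_lit 5230) (Step.D (nat_lit 11142) (Step.F (nat_lit 5231) Step.done))))) (Scr.cons (nat_lit 11) (nat_lit 0) (Step.U (nat_lit 8173) (Step.U (nat_lit 5161) (Step.D (nat_lit 5160) (Step.D (nat_lit 8171) (Step.D (nat_lit 11142) Step.done))))) (Scr.cons (nat_lit 12) (nat_lit 1) (Step.U (nat_lit 5161) (Step.F (nat_lit 5228) (Step.D (nat_lit 2860) (Step.D (nat_lit 5161) (Step.D (nat_lit 8172) Step.done))))) (Scr.cons (nat_lit 11) (nat_lit 0) (Step.U (nat_lit 5342) (Step.L (Step.L (Step.D (nat_lit 2977) (Step.D (nat_lit 5361) Step.done))))) (Scr.cons (nat_lit 7) (nat_lit 6) (Step.B (nat_lit 5235) (Step.U (nat_lit 5361) (Step.U (nat_lit 2977) (Step.L (Step.L (Step.L (Step.L (Step.L (Step.L (Step.L (Step.L (Step.L (Step.L (Step.L (Step.L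 (Step.L (Step.B (nat_lit 5227) (Step.B (nat_lit 5228) (Step.D (nat_lit 5161) (Step.D (nat_lit 8173) Step.done)))))))))))))))))))) (Scr.cons (nat_lit 12) (nat_lit 1) (Step.U (nat_lit 8173) (Step.D (nat_lit 8172) (Step.F (nat_lit 5234) (Step.D (nat_lit 8173) (Step.F (nat_lit 5236) Step.done))))) (Scr.cons (nat_lit 13) (nat_lit 3) (Step.U (nat_lit 10204) (Step.U (nat_lit 7099) (Step.F (nat_lit 5222) (Step.L (Step.B (nat_lit 5199) (Step.D (nat_lit 10208) (Step.F (nat_lit 5232) (Step.F (nat_lit 5233) (Step.B (nat_lit 5237) (Step.B (nat_lit 5235) (Step.D (nat_lit 8417) Step.done))))))))))) (Scr.cons (nat_lit 14) (nat_lit 5) (Step.U (nat_lit 9977) (Step.U (nat_lit 6821) (Step.F (nat_lit 5226) (Step.L (Step.L (Step.L (Step.L (Step.L (Step.L (Step.L (Step.L (Step.L (Step.L (Step.L (Step.L (Step.L (Step.D (nat_lit 2977) (Step.D (nat_lit 5361) (Step.D (nat_lit 8417) (Step.F (nat_lit 5238) Step.done)))))))))))))))))))) (Scr.cons (nat_lit 6) (nat_lit 3) (Step.U (nat_lit 965) (Step.L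 (Step.L (Step.L (Step.L (Step.L (Step.L (Step.L (Step.L (Step.L (Step.D (nat_lit 2075) Step.done))))))))))) (Scr.cons (nat_lit 12) (nat_lit 4) (Step.U (nat_lit 3978) (Step.F (nat_lit 5240) (Step.B (nat_lit 2982) (Step.D (nat_lit 3978) (Step.D (nat_lit 6821) Step.done))))) (Scr.cons (nat_lit 14) (nat_lit 3) (Step.U (nat_lit 10206) (Step.U (nat_lit 7100) (Step.D (nat_lit 7099) (Step.B (nat_lit 5223) (Step.F (nat_lit 5239) (Step.U (nat_lit 9977) (Step.F (nat_lit 5241) (Step.F (nat_lit 5226) (Step.L (Step.L (Step.L (Step.L (Step.L (Step.L (Step.L (Step.L (Step.L (Step.L (Step.L (Step.D (nat_lit 9162) Step.done)))))))))))))))))))) Scr.nil))))))))))))))))))))))))))))))))))))))))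
noncomputable def s131 : Scr := (Scr.cons (nat_lit 12) (nat_lit 1) (Step.U (nat_lit 7100) (Step.F (nat_lit 5222) (Step.D (nat_lit 4220) (Step.D (nat_lit 7100) (Step.D (nat_lit 10205) Step.done))))) (Scr.cons (nat_lit 12) (nat_lit 0) (Step.F (nat_lit 5242) (Step.U (nat_lit 10206) (Step.D (nat_lit 10205) (Step.F (nat_lit 5243) (Step.D (nat_lit 10206) Step.done))))) (Scr.cons (nat_lit 7) (nat_lit 4) (Step.L (Step.L (Step.L (Step.L (Step.D (nat_lit 2255) (Step.B (nat_lit 5187) (Step.B (nat_lit 5221) (Step.U (nat_lit 4221) (Step.L (Step.L (Step.L (Step.L (Step.B (nat_lit 5222) (Step.D (nat_lit 7100) (Step.D (nat_lit 10206) (Step.F (nat_lit 5244) (Step.U (nat_lit 9162) (Step.L (Step.L (Step.L Step.done)))))))))))))))))))) (Scr.cons (nat_lit 12) (nat_lit 1) (Step.L (Step.L (Step.L (Step.L (Step.D (nat_lit 468) Step.done))))) (Scr.cons (nat_lit 12) (nat_lit 4) (Step.U (nat_lit 1180) (Step.F (nat_lit 5246) (Step.D (nat_lit 468) (Step.D (nat_lit 1180) (Step.D (nat_lit 2455) Step.done)))))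 (Scr.cons (nat_lit 6) (nat_lit 1) (Step.U (nat_lit 4570) (Step.F (nat_lit 5247) (Step.U (nat_lit 1180) (Step.U (nat_lit 468) (Step.L (Step.L (Step.L (Step.L (Step.L (Step.L (Step.D (nat_lit 7524) Step.done))))))))))) (Scr.cons (nat_lit 12) (nat_lit 4) (Step.U (nat_lit 4569) (Step.F (nat_lit 5247) (Step.D (nat_lit 2455) (Step.D (nat_lit 4569) (Step.D (nat_lit 7526) Step.done))))) (Scr.cons (nat_lit 12) (nat_lit 0) (Step.B (nat_lit 846) (Step.U (nat_lit 8430) (Step.F (nat_lit 844) (Step.D (nat_lit 5374) (Step.D (nat_lit 8430) Step.done))))) (Scr.cons (nat_lit 11) (nat_lit 0) (Step.U (nat_lit 3073) (Step.U (nat_lit 1536) (Step.D (nat_lit 1535) (Step.D (nat_lit 3071) (Step.D (nat_lit 5494) Step.done))))) (Scr.cons (nat_lit 12) (nat_lit 4) (Step.U (nat_lit 231) (Step.D (nat_lit 230) (Step.F (nat_lit 2386) (Step.D (nat_lit 231) (Step.D (nat_lit 645) Step.done))))) (Scr.cons (nat_lit 12) (nat_lit 1) (Step.U (nat_lit 1536) (Step.F (nat_lit 5252) (Step.D (nat_lit 645) (Step.D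 (nat_lit 1536) (Step.D (nat_lit 3072) Step.done))))) (Scr.cons (nat_lit 12) (nat_lit 1) (Step.U (nat_lit 3073) (Step.D (nat_lit 3072) (Step.F (nat_lit 5253) (Step.D (nat_lit 3073) (Step.D (nat_lit 5495) Step.done))))) (Scr.cons (nat_lit 12) (nat_lit 1) (Step.F (nat_lit 5251) (Step.D (nat_lit 5495) (Step.F (nat_lit 5254) (Step.B (nat_lit 5251) (Step.D (nat_lit 8580) Step.done))))) (Scr.cons (nat_lit 7) (nat_lit 5) (Step.F (nat_lit 5255) (Step.U (nat_lit 5494) (Step.U (nat_lit 3071) (Step.U (nat_lit 1535) (Step.U (nat_lit 645) (Step.U (nat_lit 231) (Step.U (nat_lit 63) (Step.F (nat_lit 2385) (Step.L (Step.L (Step.L (Step.L (Step.L (Step.L (Step.L (Step.L (Step.L (Step.L (Step.B (nat_lit 844) (Step.D (nat_lit 8430) Step.done)))))))))))))))))))) (Scr.cons (nat_lit 12) (nat_lit 4) (Step.U (nat_lit 1535) (Step.F (nat_lit 5252) (Step.D (nat_lit 645) (Step.D (nat_lit 1535) (Step.D (nat_lit 3070) Step.done))))) (Scr.cons (nat_lit 12) (nat_lit 4) (Step.U (nat_lit 3071) (Step.D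 (nat_lit 3070) (Step.F (nat_lit 5257) (Step.D (nat_lit 3071) (Step.D (nat_lit 5493) Step.done))))) (Scr.cons (nat_lit 8) (nat_lit 1) (Step.U (nat_lit 7526) (Step.U (nat_lit 4569) (Step.U (nat_lit 2455) (Step.U (nat_lit 1180) (Step.U (nat_lit 468) (Step.L (Step.L (Step.D (nat_lit 2454) (Step.B (nat_lit 824) (Step.D (nat_lit 7522) (Step.B (nat_lit 5250) (Step.F (nat_lit 5256) (Step.U (nat_lit 8580) (Step.U (nat_lit 5494) (Step.B (nat_lit 5258) (Step.D (nat_lit 8579) Step.done)))))))))))))))) (Scr.cons (nat_lit 1) (nat_lit 0) (Step.D (nat_lit 8579) (Step.F (nat_lit 5259) Step.done)) (Scr.cons (nat_lit 12) (nat_lit 4) (Step.U (nat_lit 3068) (Step.F (nat_lit 2387) (Step.D (nat_lit 1533) (Step.D (nat_lit 3068) (Step.F (nat_lit 2384) Step.done))))) (Scr.cons (nat_lit 0) (nat_lit 0) (Step.B (nat_lit 5261) (Step.B (nat_lit 2394) Step.done)) (Scr.cons (nat_lit 1) (nat_lit 0) (Step.F (nat_lit 2395) (Step.B (nat_lit 2276) (Step.L Step.done))) (Scr.cons (nat_lit 0) (nat_lit 1) (Step.B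 (nat_lit 5262) (Step.B (nat_lit 5263) (Step.L Step.done))) (Scr.cons (nat_lit 1) (nat_lit 0) (Step.D (nat_lit 3068) (Step.B (nat_lit 5264) (Step.L Step.done))) (Scr.cons (nat_lit 0) (nat_lit 1) (Step.B (nat_lit 2387) (Step.B (nat_lit 5265) (Step.L Step.done))) (Scr.cons (nat_lit 1) (nat_lit 0) (Step.D (nat_lit 644) (Step.B (nat_lit 5266) (Step.L Step.done))) (Scr.cons (nat_lit 0) (nat_lit 1) (Step.B (nat_lit 2386) (Step.B (nat_lit 5267) (Step.L Step.done))) (Scr.cons (nat_lit 1) (nat_lit 1) (Step.U (nat_lit 231) (Step.B (nat_lit 5268) (Step.L Step.done))) (Scr.cons (nat_lit 0) (nat_lit 1) (Step.U (nat_lit 645) (Step.B (nat_lit 5269) (Step.L Step.done))) (Scr.cons (nat_lit 1) (nat_lit 1) (Step.U (nat_lit 1535) (Step.B (nat_lit 5270) (Step.L Step.done))) (Scr.cons (nat_lit 1) (nat_lit 1) (Step.U (nat_lit 3071) (Step.B (nat_lit 5271) (Step.L Step.done))) (Scr.cons (nat_lit 0) (nat_lit 1) (Step.U (nat_lit 5493) (Step.B (nat_lit 5272) (Step.L Step.done))) (Scr.cons (nat_lit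 1) (nat_lit 0) (Step.F (nat_lit 5260) (Step.B (nat_lit 5273) (Step.D (nat_lit 2454) Step.done))) (Scr.cons (nat_lit 0) (nat_lit 1) (Step.B (nat_lit 5249) (Step.B (nat_lit 5274) (Step.D (nat_lit 4567) Step.done))) (Scr.cons (nat_lit 1) (nat_lit 0) (Step.D (nat_lit 4569) (Step.B (nat_lit 5275) (Step.D (nat_lit 7522) Step.done))) (Scr.cons (nat_lit 1) (nat_lit 0) (Step.B (nat_lit 826) (Step.F (nat_lit 5276) (Step.D (nat_lit 4570) Step.done))) (Scr.cons (nat_lit 1) (nat_lit 1) (Step.D (nat_lit 7288) (Step.B (nat_lit 5277) Step.done)) (Scr.cons (nat_lit 8) (nat_lit 1) (Step.L (Step.L (Step.L (Step.D (nat_lit 7524) (Step.F (nat_lit 5248) (Step.F (nat_lit 5278) (Step.U (nat_lit 4370) (Step.U (nat_lit 2342) (Step.U (nat_lit 1118) (Step.L (Step.L (Step.L (Step.L (Step.L (Step.L (Step.D (nat_lit 10358) Step.done)))))))))))))))) (Scr.cons (nat_lit 1) (nat_lit 1) (Step.D (nat_lit 10358) (Step.F (nat_lit 5279) (Step.D (nat_lit 10572) Step.done))) (Scr.cons (nat_lit 1) (nat_lit 1)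 (Step.D (nat_lit 10572) (Step.F (nat_lit 5280) Step.done)) (Scr.cons (nat_lit 12) (nat_lit 4) (Step.L (Step.L (Step.L (Step.L (Step.D (nat_lit 10357) Step.done))))) Scr.nil))))))))))))))))))))))))))))))))))))))))
noncomputable def s132 : Scr := (Scr.cons (nat_lit 11) (nat_lit 0) (Step.U (nat_lit 4358) (Step.L (Step.L (Step.D (nat_lit 4357) (Step.D (nat_lit 7276) Step.done))))) (Scr.cons (nat_lit 1) (nat_lit 1) (Step.F (nat_lit 2467) (Step.B (nat_lit 2641) (Step.L Step.done))) (Scr.cons (nat_lit 1) (nat_lit 1) (Step.D (nat_lit 3393) (Step.B (nat_lit 5284) (Step.L Step.done))) (Scr.cons (nat_lit 0) (nat_lit 1) (Step.U (nat_lit 3392) (Step.B (nat_lit 5285) (Step.L Step.done))) (Scr.cons (nat_lit 1) (nat_lit 1) (Step.U (nat_lit 5998) (Step.B (nat_lit 5286) (Step.L Step.done))) (Scr.cons (nat_lit 1) (nat_lit 1) (Step.B (nat_lit 2469) (Step.B (nat_lit 5287) (Step.D (nat_lit 4357) Step.done))) (Scr.cons (nat_lit 1) (nat_lit 1) (Step.D (nat_lit 5577) (Step.B (nat_lit 5288) (Step.D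 (nat_lit 7276) Step.done))) (Scr.cons (nat_lit 1) (nat_lit 0) (Step.F (nat_lit 2470) (Step.B (nat_lit 2433) (Step.F (nat_lit 2426) Step.done))) (Scr.cons (nat_lit 1) (nat_lit 0) (Step.D (nat_lit 7319) (Step.B (nat_lit 5290) (Step.U (nat_lit 4353) Step.done))) (Scr.cons (nat_lit 0) (nat_lit 1) (Step.B (nat_lit 2463) (Step.B (nat_lit 5291) (Step.F (nat_lit 2422) Step.done))) (Scr.cons (nat_lit 1) (nat_lit 0) (Step.F (nat_lit 2460) (Step.B (nat_lit 5292) (Step.U (nat_lit 1112) Step.done))) (Scr.cons (nat_lit 1) (nat_lit 0) (Step.D (nat_lit 3145) (Step.B (nat_lit 5293) (Step.D (nat_lit 1113) Step.done))) (Scr.cons (nat_lit 0) (nat_lit 1) (Step.U (nat_lit 3144) (Step.B (nat_lit 5294) (Step.D (nat_lit 2334) Step.done))) (Scr.cons (nat_lit 1) (nat_lit 1) (Step.B (nat_lit 5283) (Step.F (nat_lit 5289) (Step.B (nat_lit 5295) (Step.D (nat_lit 4355) Step.done)))) (Scr.cons (nat_lit 1) (nat_lit 1) (Step.D (nat_lit 4358) (Step.B (nat_lit 5296) (Step.D (nat_lit 7274) Step.done))) (Scr.cons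 (nat_lit 1) (nat_lit 1) (Step.D (nat_lit 7274) (Step.F (nat_lit 5297) Step.done)) (Scr.cons (nat_lit 6) (nat_lit 3) (Step.U (nat_lit 4355) (Step.U (nat_lit 2334) (Step.U (nat_lit 1113) (Step.F (nat_lit 2419) (Step.L (Step.L (Step.L (Step.L (Step.L (Step.L (Step.D (nat_lit 6237) Step.done))))))))))) (Scr.cons (nat_lit 8) (nat_lit 1) (Step.U (nat_lit 10357) (Step.L (Step.L (Step.L (Step.L (Step.L (Step.L (Step.L (Step.L (Step.F (nat_lit 5298) (Step.B (nat_lit 5299) (Step.U (nat_lit 6237) (Step.L (Step.L (Step.L (Step.L Step.done)))))))))))))))) (Scr.cons (nat_lit 0) (nat_lit 0) (Step.B (nat_lit 5282) (Step.B (nat_lit 5300) Step.done)) (Scr.cons (nat_lit 12) (nat_lit 4) (Step.L (Step.L (Step.L (Step.L (Step.D (nat_lit 11039) Step.done))))) (Scr.cons (nat_lit 11) (nat_lit 0) (Step.L (Step.L (Step.L (Step.L (Step.D (nat_lit 6570) Step.done))))) (Scr.cons (nat_lit 12) (nat_lit 1) (Step.F (nat_lit 5303) (Step.L (Step.L (Step.B (nat_lit 5303) (Step.D (nat_lit 9725) Step.done)))))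 (Scr.cons (nat_lit 12) (nat_lit 1) (Step.L (Step.L (Step.L (Step.L (Step.D (nat_lit 6642) Step.done))))) (Scr.cons (nat_lit 7) (nat_lit 5) (Step.F (nat_lit 5304) (Step.U (nat_lit 6570) (Step.L (Step.L (Step.L (Step.L (Step.L (Step.L (Step.L (Step.L (Step.L (Step.L (Step.L (Step.L (Step.L (Step.L (Step.L (Step.L (Step.B (nat_lit 5305) (Step.D (nat_lit 9803) Step.done)))))))))))))))))))) (Scr.cons (nat_lit 12) (nat_lit 1) (Step.U (nat_lit 2746) (Step.L (Step.L (Step.D (nat_lit 2746) (Step.D (nat_lit 4990) Step.done))))) (Scr.cons (nat_lit 12) (nat_lit 1) (Step.U (nat_lit 4991) (Step.D (nat_lit 4990) (Step.F (nat_lit 5307) (Step.D (nat_lit 4991) (Step.D (nat_lit 8001) Step.done))))) (Scr.cons (nat_lit 12) (nat_lit 1) (Step.L (Step.L (Step.L (Step.L (Step.D (nat_lit 1351) Step.done))))) (Scr.cons (nat_lit 14) (nat_lit 5) (Step.U (nat_lit 10974) (Step.U (nat_lit 8001) (Step.U (nat_lit 4991) (Step.U (nat_lit 2746) (Step.L (Step.L (Step.L (Step.L (Step.L (Step.L (Step.L (Step.L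 (Step.L (Step.L (Step.L (Step.B (nat_lit 5309) (Step.D (nat_lit 2752) (Step.D (nat_lit 5010) (Step.D (nat_lit 8024) (Step.D (nat_lit 10994) Step.done)))))))))))))))))))) (Scr.cons (nat_lit 12) (nat_lit 1) (Step.L (Step.L (Step.L (Step.L (Step.D (nat_lit 2764) Step.done))))) (Scr.cons (nat_lit 7) (nat_lit 5) (Step.F (nat_lit 5311) (Step.L (Step.L (Step.L (Step.L (Step.L (Step.L (Step.L (Step.L (Step.L (Step.L (Step.L (Step.L (Step.L (Step.L (Step.L (Step.L (Step.L (Step.B (nat_lit 5309) (Step.D (nat_lit 2753) Step.done)))))))))))))))))))) (Scr.cons (nat_lit 4) (nat_lit 0) (Step.U (nat_lit 5010) (Step.U (nat_lit 2752) (Step.D (nat_lit 2753) (Step.F (nat_lit 5312) (Step.D (nat_lit 5031) Step.done))))) (Scr.cons (nat_lit 1) (nat_lit 1) (Step.B (nat_lit 2002) (Step.B (nat_lit 4857) (Step.L Step.done))) (Scr.cons (nat_lit 1) (nat_lit 1) (Step.D (nat_lit 6592) (Step.B (nat_lit 5314) (Step.L Step.done))) (Scr.cons (nat_lit 1) (nat_lit 1) (Step.D (nat_lit 3819) (Step.B (nat_lit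 5315) (Step.L Step.done))) (Scr.cons (nat_lit 0) (nat_lit 1) (Step.B (nat_lit 2000) (Step.B (nat_lit 5316) (Step.D (nat_lit 2764) Step.done))) (Scr.cons (nat_lit 1) (nat_lit 0) (Step.U (nat_lit 5031) (Step.F (nat_lit 5317) (Step.L Step.done))) (Scr.cons (nat_lit 1) (nat_lit 0) (Step.B (nat_lit 5313) (Step.B (nat_lit 5318) (Step.L Step.done))) (Scr.cons (nat_lit 0) (nat_lit 1) (Step.U (nat_lit 8024) (Step.B (nat_lit 5319) (Step.D (nat_lit 931) Step.done))) (Scr.cons (nat_lit 1) (nat_lit 1) (Step.U (nat_lit 10994) (Step.B (nat_lit 5320) (Step.D (nat_lit 2011) Step.done))) (Scr.cons (nat_lit 1) (nat_lit 1) (Step.B (nat_lit 5310) (Step.B (nat_lit 5321) (Step.D (nat_lit 3873) Step.done))) Scr.nil))))))))))))))))))))))))))))))))))))))))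
noncomputable def s133 : Scr := (Scr.cons (nat_lit 1) (nat_lit 1) (Step.D (nat_lit 10974) (Step.B (nat_lit 5322) (Step.D (nat_lit 6668) Step.done))) (Scr.cons (nat_lit 9) (nat_lit 5) (Step.U (nat_lit 6668) (Step.U (nat_lit 3873) (Step.U (nat_lit 2011) (Step.U (nat_lit 931) (Step.L (Step.L (Step.L (Step.L (Step.L (Step.L (Step.L (Step.L (Step.L (Step.L (Step.L (Step.L (Step.L (Step.L (Step.L (Step.L (Step.L (Step.B (nat_lit 5305) (Step.D (nat_lit 9803) Step.done))))))))))))))))))))))) (Scr.cons (nat_lit 0) (nat_lit 1) (Step.B (nat_lit 5308) (Step.B (nat_lit 5323) (Step.B (nat_lit 5324) Step.done))) (Scr.cons (nat_lit 11) (nat_lit 0) (Step.U (nat_lit 4991) (Step.U (nat_lit 2746) (Step.L (Step.L (Step.D (nat_lit 5043) Step.done))))) (Scr.cons (nat_lit 1) (nat_lit 0) (Step.B (nat_lit 5306) (Step.F (nat_lit 5325) (Step.B (nat_lit 5326) Step.done))) (Scr.cons (nat_lit 0) (nat_lit 1) (Step.B (nat_lit 5304) (Step.B (nat_lit 5327) (Step.D (nat_lit 8060) Step.done))) (Scr.cons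 (nat_lit 0) (nat_lit 1) (Step.D (nat_lit 8060) (Step.F (nat_lit 5328) Step.done)) (Scr.cons (nat_lit 13) (nat_lit 1) (Step.L (Step.L (Step.D (nat_lit 6570) (Step.F (nat_lit 5329) (Step.U (nat_lit 5043) (Step.L (Step.L (Step.L (Step.L (Step.L (Step.L (Step.B (nat_lit 5302) Step.done)))))))))))) (Scr.cons (nat_lit 0) (nat_lit 0) (Step.B (nat_lit 5302) (Step.F (nat_lit 5330) Step.done)) (Scr.cons (nat_lit 12) (nat_lit 1) (Step.F (nat_lit 5326) (Step.D (nat_lit 8001) (Step.F (nat_lit 5308) (Step.B (nat_lit 5326) (Step.D (nat_lit 8060) Step.done))))) (Scr.cons (nat_lit 0) (nat_lit 0) (Step.B (nat_lit 5332) (Step.F (nat_lit 5328) Step.done)) (Scr.cons (nat_lit 7) (nat_lit 6) (Step.L (Step.L (Step.L (Step.L (Step.L (Step.L (Step.B (nat_lit 5303) (Step.F (nat_lit 5333) (Step.U (nat_lit 5043) (Step.L (Step.L (Step.L (Step.L (Step.L (Step.L (Step.L (Step.L (Step.L (Step.L (Step.L (Step.D (nat_lit 10970) Step.done))))))))))))))))))))) (Scr.cons (nat_lit 1) (nat_lit 0) (Step.D (nat_lit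 10970) (Step.F (nat_lit 5334) Step.done)) (Scr.cons (nat_lit 11) (nat_lit 0) (Step.U (nat_lit 5015) (Step.U (nat_lit 2757) (Step.D (nat_lit 2756) (Step.D (nat_lit 5013) (Step.D (nat_lit 8028) Step.done))))) (Scr.cons (nat_lit 12) (nat_lit 1) (Step.U (nat_lit 2757) (Step.F (nat_lit 1588) (Step.D (nat_lit 1353) (Step.D (nat_lit 2757) (Step.D (nat_lit 5014) Step.done))))) (Scr.cons (nat_lit 12) (nat_lit 1) (Step.U (nat_lit 5015) (Step.D (nat_lit 5014) (Step.F (nat_lit 5337) (Step.D (nat_lit 5015) (Step.D (nat_lit 8029) Step.done))))) (Scr.cons (nat_lit 12) (nat_lit 1) (Step.F (nat_lit 5336) (Step.D (nat_lit 8029) (Step.F (nat_lit 5338) (Step.B (nat_lit 5336) (Step.D (nat_lit 11000) Step.done))))) (Scr.cons (nat_lit 14) (nat_lit 2) (Step.F (nat_lit 5339) (Step.F (nat_lit 5336) (Step.U (nat_lit 5015) (Step.U (nat_lit 2757) (Step.U (nat_lit 1353) (Step.U (nat_lit 554) (Step.U (nat_lit 198) (Step.L (Step.L (Step.L (Step.L (Step.L (Step.L (Step.L (Step.L (Step.L (Step.L (Step.L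 (Step.L (Step.D (nat_lit 8414) Step.done)))))))))))))))))))) (Scr.cons (nat_lit 12) (nat_lit 1) (Step.U (nat_lit 1176) (Step.L (Step.L (Step.D (nat_lit 1176) (Step.D (nat_lit 2442) Step.done))))) (Scr.cons (nat_lit 13) (nat_lit 0) (Step.U (nat_lit 4543) (Step.F (nat_lit 5341) (Step.U (nat_lit 1176) (Step.L (Step.L (Step.L (Step.L (Step.L (Step.L (Step.L (Step.D (nat_lit 7488) Step.done))))))))))) (Scr.cons (nat_lit 11) (nat_lit 0) (Step.U (nat_lit 1222) (Step.U (nat_lit 488) (Step.L (Step.D (nat_lit 1220) (Step.D (nat_lit 2525) Step.done))))) (Scr.cons (nat_lit 16) (nat_lit 3) (Step.U (nat_lit 7491) (Step.U (nat_lit 4544) (Step.F (nat_lit 5341) (Step.U (nat_lit 1176) (Step.L (Step.L (Step.L (Step.L (Step.L (Step.L (Step.L (Step.L (Step.L (Step.L (Step.L (Step.L (Step.L (Step.D (nat_lit 1220) (Step.D (nat_lit 2525) (Step.F (nat_lit 5343) (Step.D (nat_lit 2527) (Step.D (nat_lit 4670) (Step.D (nat_lit 7628) Step.done))))))))))))))))))))))) (Scr.cons (nat_lit 11) (nat_lit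 0) (Step.F (nat_lit 5344) (Step.U (nat_lit 7491) (Step.U (nat_lit 4544) (Step.D (nat_lit 4543) (Step.D (nat_lit 7490) Step.done))))) (Scr.cons (nat_lit 12) (nat_lit 1) (Step.U (nat_lit 1222) (Step.D (nat_lit 1221) (Step.F (nat_lit 1553) (Step.D (nat_lit 1222) (Step.D (nat_lit 2527) Step.done))))) (Scr.cons (nat_lit 12) (nat_lit 4) (Step.U (nat_lit 4670) (Step.F (nat_lit 5346) (Step.D (nat_lit 2527) (Step.D (nat_lit 4670) (Step.D (nat_lit 7628) Step.done))))) (Scr.cons (nat_lit 11) (nat_lit 0) (Step.U (nat_lit 7047) (Step.U (nat_lit 4172) (Step.D (nat_lit 4171) (Step.D (nat_lit 7046) (Step.D (nat_lit 10175) Step.done))))) (Scr.cons (nat_lit 12) (nat_lit 1) (Step.U (nat_lit 4671) (Step.F (nat_lit 5346) (Step.D (nat_lit 2527) (Step.D (nat_lit 4671) (Step.D (nat_lit 7629) Step.done))))) (Scr.cons (nat_lit 4) (nat_lit 0) (Step.U (nat_lit 486) (Step.L (Step.L (Step.L (Step.D (nat_lit 1201) Step.done))))) (Scr.cons (nat_lit 4) (nat_lit 0) (Step.F (nat_lit 2594) (Step.U (nat_lit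 4651) (Step.U (nat_lit 2518) (Step.D (nat_lit 2519) (Step.D (nat_lit 4653) Step.done))))) (Scr.cons (nat_lit 7) (nat_lit 6) (Step.U (nat_lit 7566) (Step.U (nat_lit 4605) (Step.U (nat_lit 2488) (Step.L (Step.D (nat_lit 1201) (Step.F (nat_lit 5350) (Step.D (nat_lit 1214) (Step.D (nat_lit 2519) (Step.D (nat_lit 4653) (Step.F (nat_lit 5351) (Step.U (nat_lit 2529) (Step.U (nat_lit 1223) (Step.L (Step.L (Step.L (Step.D (nat_lit 488) (Step.D (nat_lit 1222) (Step.B (nat_lit 5346) (Step.D (nat_lit 4671) (Step.D (nat_lit 7630) Step.done)))))))))))))))))))) (Scr.cons (nat_lit 12) (nat_lit 1) (Step.U (nat_lit 7630) (Step.D (nat_lit 7629) (Step.F (nat_lit 5349) (Step.D (nat_lit 7630) (Step.F (nat_lit 5352) Step.done))))) (Scr.cons (nat_lit 1) (nat_lit 0) (Step.D (nat_lit 1644) (Step.B (nat_lit 2349) (Step.L Step.done))) (Scr.cons (nat_lit 0) (nat_lit 1) (Step.U (nat_lit 1643) (Step.B (nat_lit 5354) (Step.L Step.done))) (Scr.cons (nat_lit 1) (nat_lit 1) (Step.U (nat_lit 3276) (Step.B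 (nat_lit 5355) (Step.D (nat_lit 2488) Step.done))) (Scr.cons (nat_lit 1) (nat_lit 1) (Step.U (nat_lit 5810) (Step.B (nat_lit 5356) (Step.D (nat_lit 4605) Step.done))) (Scr.cons (nat_lit 1) (nat_lit 1) (Step.B (nat_lit 1861) (Step.B (nat_lit 5357) (Step.D (nat_lit 7566) Step.done))) (Scr.cons (nat_lit 0) (nat_lit 0) (Step.B (nat_lit 1847) (Step.F (nat_lit 1860) Step.done)) (Scr.cons (nat_lit 0) (nat_lit 1) (Step.B (nat_lit 5353) (Step.F (nat_lit 5358) (Step.F (nat_lit 5359) Step.done))) (Scr.cons (nat_lit 1) (nat_lit 1) (Step.D (nat_lit 7630) (Step.B (nat_lit 5360) (Step.D (nat_lit 7046) Step.done))) (Scr.cons (nat_lit 1) (nat_lit 1) (Step.U (nat_lit 10175) (Step.F (nat_lit 5361) (Step.U (nat_lit 4671) Step.done))) Scr.nil))))))))))))))))))))))))))))))))))))))))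
noncomputable def s134 : Scr := (Scr.cons (nat_lit 1) (nat_lit 1) (Step.B (nat_lit 5348) (Step.B (nat_lit 5362) (Step.D (nat_lit 4670) Step.done))) (Scr.cons (nat_lit 1) (nat_lit 0) (Step.D (nat_lit 7047) (Step.B (nat_lit 5363) Step.done)) (Scr.cons (nat_lit 14) (nat_lit 6) (Step.D (nat_lit 7488) (Step.F (nat_lit 5342) (Step.D (nat_lit 7490) (Step.F (nat_lit 5345) (Step.F (nat_lit 5347) (Step.F (nat_lit 5364) (Step.U (nat_lit 4172) (Step.D (nat_lit 4171) (Step.B (nat_lit 5359) (Step.U (nat_lit 5360) (Step.U (nat_lit 2976) (Step.F (nat_lit 1849) (Step.L (Step.L (Step.L (Step.L (Step.L (Step.L (Step.L (Step.D (nat_lit 8414) (Step.F (nat_lit 5340) Step.done))))))))))))))))))))) (Scr.cons (nat_lit 1) (nat_lit 0) (Step.F (nat_lit 5340) (Step.F (nat_lit 5365) (Step.L Step.done))) (Scr.cons (nat_lit 1) (nat_lit 0) (Step.D (nat_lit 8414) (Step.B (nat_lit 5366) (Step.D (nat_lit 10541) Step.done))) (Scr.cons (nat_lit 1) (nat_lit 0) (Step.D (nat_lit 10541) (Step.F (nat_lit 5367)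 Step.done)) (Scr.cons (nat_lit 11) (nat_lit 0) (Step.U (nat_lit 8034) (Step.U (nat_lit 5017) (Step.L (Step.D (nat_lit 8033) (Step.D (nat_lit 11003) Step.done))))) (Scr.cons (nat_lit 4) (nat_lit 0) (Step.L (Step.L (Step.L (Step.L (Step.D (nat_lit 4387) Step.done))))) (Scr.cons (nat_lit 12) (nat_lit 1) (Step.U (nat_lit 4387) (Step.L (Step.L (Step.D (nat_lit 4387) (Step.D (nat_lit 7302) Step.done))))) (Scr.cons (nat_lit 4) (nat_lit 0) (Step.U (nat_lit 1124) (Step.U (nat_lit 438) (Step.L (Step.L (Step.D (nat_lit 1176) Step.done))))) (Scr.cons (nat_lit 11) (nat_lit 0) (Step.L (Step.L (Step.L (Step.D (nat_lit 7488) (Step.D (nat_lit 10540) Step.done))))) (Scr.cons (nat_lit 16) (nat_lit 5) (Step.U (nat_lit 10371) (Step.F (nat_lit 5371) (Step.U (nat_lit 4387) (Step.L (Step.L (Step.L (Step.L (Step.L (Step.L (Step.L (Step.D (nat_lit 438) (Step.D (nat_lit 1124) (Step.B (nat_lit 5372) (Step.D (nat_lit 2442) (Step.D (nat_lit 4543) (Step.B (nat_lit 5342) (Step.D (nat_lit 10540) (Step.F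 (nat_lit 5373) (Step.L (Step.L (Step.L (Step.D (nat_lit 5016) (Step.D (nat_lit 8031) (Step.D (nat_lit 11001) Step.done)))))))))))))))))))))))) (Scr.cons (nat_lit 1) (nat_lit 1) (Step.D (nat_lit 11001) (Step.F (nat_lit 5374) Step.done)) (Scr.cons (nat_lit 4) (nat_lit 0) (Step.U (nat_lit 10370) (Step.D (nat_lit 10371) (Step.F (nat_lit 5375) (Step.U (nat_lit 8031) (Step.D (nat_lit 8032) (Step.D (nat_lit 11002) Step.done)))))) (Scr.cons (nat_lit 1) (nat_lit 0) (Step.D (nat_lit 11002) (Step.F (nat_lit 5376) Step.done)) (Scr.cons (nat_lit 14) (nat_lit 0) (Step.U (nat_lit 4348) (Step.L (Step.B (nat_lit 5370) (Step.D (nat_lit 7302) (Step.D (nat_lit 10370) (Step.F (nat_lit 5377) (Step.U (nat_lit 8032) (Step.U (nat_lit 5016) (Step.L (Step.L (Step.L (Step.L (Step.L (Step.L (Step.L (Step.L (Step.L (Step.L (Step.L (Step.D (nat_lit 8033) (Step.D (nat_lit 11003) Step.done))))))))))))))))))))) (Scr.cons (nat_lit 1) (nat_lit 1) (Step.B (nat_lit 5369) (Step.F (nat_lit 5378) (Step.D (nat_lit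 7267) Step.done))) (Scr.cons (nat_lit 1) (nat_lit 1) (Step.D (nat_lit 8034) (Step.B (nat_lit 5379) (Step.D (nat_lit 10347) Step.done))) (Scr.cons (nat_lit 1) (nat_lit 1) (Step.D (nat_lit 10347) (Step.F (nat_lit 5380) Step.done)) (Scr.cons (nat_lit 9) (nat_lit 1) (Step.U (nat_lit 11004) (Step.L (Step.L (Step.L (Step.L (Step.D (nat_lit 5017) (Step.F (nat_lit 5381) (Step.U (nat_lit 7267) (Step.U (nat_lit 4348) (Step.L (Step.L (Step.L (Step.L (Step.L (Step.L (Step.L (Step.L (Step.L (Step.L (Step.L (Step.L (Step.L (Step.L (Step.L Step.done)))))))))))))))))))))))) (Scr.cons (nat_lit 1) (nat_lit 1) (Step.D (nat_lit 11004) (Step.B (nat_lit 5382) Step.done)) (Scr.cons (nat_lit 12) (nat_lit 4) (Step.L (Step.L (Step.L (Step.L (Step.D (nat_lit 6475) Step.done))))) (Scr.cons (nat_lit 12) (nat_lit 1) (Step.L (Step.L (Step.L (Step.L (Step.D (nat_lit 4757) Step.done))))) (Scr.cons (nat_lit 12) (nat_lit 1) (Step.U (nat_lit 7731) (Step.F (nat_lit 5385) (Step.D (nat_lit 4757) (Step.D (nat_lit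 7731) (Step.D (nat_lit 10740) Step.done))))) (Scr.cons (nat_lit 15) (nat_lit 1) (Step.F (nat_lit 720) (Step.L (Step.L (Step.L (Step.L (Step.L (Step.L (Step.L (Step.L (Step.L (Step.L (Step.L (Step.L (Step.L (Step.D (nat_lit 2588) Step.done))))))))))))))) (Scr.cons (nat_lit 9) (nat_lit 0) (Step.L (Step.L (Step.L (Step.L (Step.L (Step.L (Step.L (Step.L (Step.L (Step.L (Step.L (Step.L (Step.L (Step.L (Step.L (Step.B (nat_lit 720) (Step.B (nat_lit 5387) (Step.U (nat_lit 2588) (Step.L (Step.L (Step.L (Step.B (nat_lit 5385) (Step.D (nat_lit 7731) (Step.B (nat_lit 5386) Step.done)))))))))))))))))))))))) (Scr.cons (nat_lit 0) (nat_lit 1) (Step.B (nat_lit 5386) (Step.F (nat_lit 5388) (Step.L Step.done))) (Scr.cons (nat_lit 1) (nat_lit 1) (Step.D (nat_lit 7731) (Step.B (nat_lit 5389) (Step.L Step.done))) (Scr.cons (nat_lit 0) (nat_lit 1) (Step.B (nat_lit 5385) (Step.B (nat_lit 5390) (Step.D (nat_lit 6475) Step.done))) (Scr.cons (nat_lit 0) (nat_lit 0) (Step.B (nat_lit 5384) (Step.F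 (nat_lit 5391) Step.done)) (Scr.cons (nat_lit 12) (nat_lit 4) (Step.L (Step.L (Step.L (Step.L (Step.D (nat_lit 9453) Step.done))))) (Scr.cons (nat_lit 12) (nat_lit 1) (Step.L (Step.L (Step.L (Step.L (Step.D (nat_lit 8527) Step.done))))) (Scr.cons (nat_lit 12) (nat_lit 1) (Step.L (Step.L (Step.L (Step.L (Step.D (nat_lit 882) Step.done))))) (Scr.cons (nat_lit 12) (nat_lit 4) (Step.U (nat_lit 1910) (Step.F (nat_lit 5395) (Step.D (nat_lit 882) (Step.D (nat_lit 1910) (Step.D (nat_lit 3704) Step.done))))) (Scr.cons (nat_lit 6) (nat_lit 1) (Step.U (nat_lit 6434) (Step.F (nat_lit 5396) (Step.U (nat_lit 1910) (Step.U (nat_lit 882) (Step.L (Step.L (Step.L (Step.L (Step.L (Step.D (nat_lit 6431) (Step.D (nat_lit 9579) Step.done))))))))))) (Scr.cons (nat_lit 12) (nat_lit 1) (Step.L (Step.L (Step.L (Step.L (Step.D (nat_lit 2843) Step.done))))) (Scr.cons (nat_lit 12) (nat_lit 1) (Step.U (nat_lit 5137) (Step.F (nat_lit 5398) (Step.D (nat_lit 2843) (Step.D (nat_lit 5137) (Step.D (nat_lit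 8151) Step.done))))) (Scr.cons (nat_lit 16) (nat_lit 5) (Step.F (nat_lit 5399) (Step.U (nat_lit 5137) (Step.F (nat_lit 5398) (Step.L (Step.L (Step.L (Step.L (Step.L (Step.L (Step.L (Step.L (Step.L (Step.L (Step.L (Step.L (Step.L (Step.L (Step.L (Step.D (nat_lit 882) (Step.D (nat_lit 1910) (Step.D (nat_lit 3704) (Step.D (nat_lit 6433) (Step.D (nat_lit 9582) Step.done))))))))))))))))))))))) (Scr.cons (nat_lit 4) (nat_lit 0) (Step.B (nat_lit 5400) (Step.U (nat_lit 9582) (Step.U (nat_lit 6433) (Step.D (nat_lit 6434) (Step.D (nat_lit 9583) Step.done))))) (Scr.cons (nat_lit 12) (nat_lit 4) (Step.U (nat_lit 1838) (Step.L (Step.L (Step.D (nat_lit 1838) (Step.D (nat_lit 3583) Step.done))))) Scr.nil))))))))))))))))))))))))))))))))))))))))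
noncomputable def s135 : Scr := (Scr.cons (nat_lit 12) (nat_lit 1) (Step.U (nat_lit 6276) (Step.F (nat_lit 5402) (Step.D (nat_lit 3583) (Step.D (nat_lit 6276) (Step.D (nat_lit 9457) Step.done))))) (Scr.cons (nat_lit 12) (nat_lit 1) (Step.L (Step.L (Step.L (Step.L (Step.D (nat_lit 1841) Step.done))))) (Scr.cons (nat_lit 13) (nat_lit 3) (Step.U (nat_lit 6283) (Step.U (nat_lit 3588) (Step.F (nat_lit 5404) (Step.L (Step.L (Step.L (Step.L (Step.D (nat_lit 1838) (Step.B (nat_lit 5402) (Step.D (nat_lit 6276) (Step.D (nat_lit 9457) Step.done))))))))))) (Scr.cons (nat_lit 12) (nat_lit 4) (Step.L (Step.L (Step.L (Step.L (Step.D (nat_lit 1398) Step.done))))) (Scr.cons (nat_lit 12) (nat_lit 4) (Step.U (nat_lit 2842) (Step.F (nat_lit 5406) (Step.D (nat_lit 1398) (Step.D (nat_lit 2842) (Step.D (nat_lit 5136) Step.done))))) (Scr.cons (nat_lit 12) (nat_lit 1) (Step.U (nat_lit 5120) (Step.F (nat_lit 416) (Step.D (nat_lit 2832) (Step.D (nat_lit 5120) (Step.D (nat_lit 8136) Step.done)))))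 (Scr.cons (nat_lit 8) (nat_lit 1) (Step.U (nat_lit 8150) (Step.U (nat_lit 5136) (Step.U (nat_lit 2842) (Step.U (nat_lit 1398) (Step.L (Step.L (Step.L (Step.L (Step.L (Step.L (Step.L (Step.B (nat_lit 416) (Step.D (nat_lit 5120) (Step.B (nat_lit 5408) (Step.D (nat_lit 11111) Step.done))))))))))))))) (Scr.cons (nat_lit 12) (nat_lit 0) (Step.B (nat_lit 5409) (Step.U (nat_lit 11111) (Step.F (nat_lit 5408) (Step.D (nat_lit 8136) (Step.D (nat_lit 11111) Step.done))))) (Scr.cons (nat_lit 16) (nat_lit 3) (Step.U (nat_lit 8137) (Step.U (nat_lit 5120) (Step.F (nat_lit 416) (Step.L (Step.L (Step.L (Step.L (Step.L (Step.L (Step.L (Step.L (Step.L (Step.L (Step.L (Step.L (Step.L (Step.L (Step.L (Step.D (nat_lit 969) (Step.D (nat_lit 2085) (Step.D (nat_lit 3993) (Step.D (nat_lit 6844) (Step.D (nat_lit 9988) Step.done))))))))))))))))))))))) (Scr.cons (nat_lit 12) (nat_lit 4) (Step.U (nat_lit 33) (Step.L (Step.L (Step.D (nat_lit 33) (Step.D (nat_lit 120) Step.done))))) (Scr.cons (nat_lit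 13) (nat_lit 3) (Step.L (Step.L (Step.L (Step.L (Step.L (Step.L (Step.L (Step.D (nat_lit 33) (Step.B (nat_lit 5412) (Step.D (nat_lit 367) (Step.D (nat_lit 982) Step.done))))))))))) (Scr.cons (nat_lit 1) (nat_lit 1) (Step.D (nat_lit 34) (Step.B (nat_lit 2082) (Step.D (nat_lit 33) Step.done))) (Scr.cons (nat_lit 0) (nat_lit 1) (Step.U (nat_lit 120) (Step.F (nat_lit 5414) (Step.L Step.done))) (Scr.cons (nat_lit 1) (nat_lit 0) (Step.U (nat_lit 367) (Step.B (nat_lit 5415) (Step.L Step.done))) (Scr.cons (nat_lit 0) (nat_lit 1) (Step.U (nat_lit 982) (Step.B (nat_lit 5416) (Step.L Step.done))) (Scr.cons (nat_lit 1) (nat_lit 1) (Step.B (nat_lit 5413) (Step.B (nat_lit 5417) (Step.D (nat_lit 969) Step.done))) (Scr.cons (nat_lit 1) (nat_lit 1) (Step.U (nat_lit 2085) (Step.F (nat_lit 5418) (Step.L Step.done))) (Scr.cons (nat_lit 0) (nat_lit 1) (Step.U (nat_lit 3993) (Step.B (nat_lit 5419) (Step.L Step.done))) (Scr.cons (nat_lit 1) (nat_lit 1) (Step.U (nat_lit 6844) (Step.B (nat_lit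 5420) (Step.L Step.done))) (Scr.cons (nat_lit 0) (nat_lit 1) (Step.U (nat_lit 9988) (Step.B (nat_lit 5421) (Step.L Step.done))) (Scr.cons (nat_lit 1) (nat_lit 1) (Step.B (nat_lit 5411) (Step.B (nat_lit 5422) (Step.L Step.done))) (Scr.cons (nat_lit 1) (nat_lit 1) (Step.D (nat_lit 8137) (Step.B (nat_lit 5423) (Step.L Step.done))) (Scr.cons (nat_lit 0) (nat_lit 1) (Step.U (nat_lit 8136) (Step.B (nat_lit 5424) (Step.D (nat_lit 1792) Step.done))) (Scr.cons (nat_lit 1) (nat_lit 0) (Step.U (nat_lit 11111) (Step.B (nat_lit 5425) (Step.D (nat_lit 3504) Step.done))) (Scr.cons (nat_lit 12) (nat_lit 1) (Step.U (nat_lit 21) (Step.L (Step.L (Step.D (nat_lit 21) (Step.D (nat_lit 93) Step.done))))) (Scr.cons (nat_lit 12) (nat_lit 4) (Step.L (Step.L (Step.L (Step.L (Step.D (nat_lit 1792) Step.done))))) (Scr.cons (nat_lit 13) (nat_lit 2) (Step.U (nat_lit 1794) (Step.U (nat_lit 802) (Step.U (nat_lit 295) (Step.F (nat_lit 5427) (Step.U (nat_lit 21) (Step.L (Step.L (Step.L (Step.L (Step.B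 (nat_lit 5428) (Step.D (nat_lit 3504) Step.done))))))))))) (Scr.cons (nat_lit 12) (nat_lit 4) (Step.U (nat_lit 295) (Step.F (nat_lit 5427) (Step.D (nat_lit 93) (Step.D (nat_lit 295) (Step.D (nat_lit 802) Step.done))))) (Scr.cons (nat_lit 6) (nat_lit 1) (Step.U (nat_lit 1794) (Step.F (nat_lit 5430) (Step.U (nat_lit 295) (Step.U (nat_lit 93) (Step.U (nat_lit 21) (Step.L (Step.L (Step.L (Step.L (Step.D (nat_lit 1792) (Step.D (nat_lit 3504) Step.done))))))))))) (Scr.cons (nat_lit 12) (nat_lit 1) (Step.U (nat_lit 3507) (Step.B (nat_lit 5431) (Step.F (nat_lit 5429) (Step.D (nat_lit 3507) (Step.D (nat_lit 6136) Step.done))))) (Scr.cons (nat_lit 11) (nat_lit 0) (Step.U (nat_lit 3507) (Step.U (nat_lit 1794) (Step.D (nat_lit 1793) (Step.D (nat_lit 3506) (Step.D (nat_lit 6135) Step.done))))) (Scr.cons (nat_lit 12) (nat_lit 4) (Step.U (nat_lit 1793) (Step.F (nat_lit 5430) (Step.D (nat_lit 802) (Step.D (nat_lit 1793) (Step.D (nat_lit 3505) Step.done))))) (Scr.cons (nat_lit 11) (nat_lit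 0) (Step.U (nat_lit 2273) (Step.U (nat_lit 1079) (Step.D (nat_lit 1078) (Step.D (nat_lit 2271) (Step.D (nat_lit 4272) Step.done))))) (Scr.cons (nat_lit 12) (nat_lit 1) (Step.U (nat_lit 2273) (Step.D (nat_lit 2272) (Step.F (nat_lit 2220) (Step.D (nat_lit 2273) (Step.D (nat_lit 4274) Step.done))))) (Scr.cons (nat_lit 12) (nat_lit 1) (Step.F (nat_lit 5435) (Step.D (nat_lit 4274) (Step.F (nat_lit 5436) (Step.B (nat_lit 5435) (Step.D (nat_lit 7169) Step.done))))) (Scr.cons (nat_lit 12) (nat_lit 1) (Step.U (nat_lit 7152) (Step.F (nat_lit 3672) (Step.D (nat_lit 4257) (Step.D (nat_lit 7152) (Step.D (nat_lit 10252) Step.done))))) (Scr.cons (nat_lit 15) (nat_lit 1) (Step.F (nat_lit 5438) (Step.U (nat_lit 7152) (Step.F (nat_lit 3672) (Step.U (nat_lit 2259) (Step.F (nat_lit 151) (Step.F (nat_lit 148) (Step.F (nat_lit 147) (Step.F (nat_lit 146) (Step.D (nat_lit 93) (Step.D (nat_lit 295) (Step.D (nat_lit 802) (Step.D (nat_lit 1793) (Step.D (nat_lit 3505) (Step.D (nat_lit 6133) (Step.D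 (nat_lit 9297) Step.done))))))))))))))) (Scr.cons (nat_lit 16) (nat_lit 2) (Step.U (nat_lit 9299) (Step.U (nat_lit 6134) (Step.D (nat_lit 6133) (Step.D (nat_lit 9297) (Step.F (nat_lit 5439) (Step.F (nat_lit 5438) (Step.U (nat_lit 7152) (Step.F (nat_lit 3673) (Step.L (Step.L (Step.L (Step.L (Step.L (Step.L (Step.L (Step.L (Step.L (Step.D (nat_lit 420) (Step.D (nat_lit 1078) (Step.D (nat_lit 2271) (Step.D (nat_lit 4272) (Step.D (nat_lit 7169) (Step.D (nat_lit 10267) Step.done))))))))))))))))))))))) (Scr.cons (nat_lit 12) (nat_lit 4) (Step.U (nat_lit 10267) (Step.F (nat_lit 5437) (Step.D (nat_lit 7169) (Step.D (nat_lit 10267) (Step.F (nat_lit 5440) Step.done))))) (Scr.cons (nat_lit 12) (nat_lit 1) (Step.L (Step.L (Step.L (Step.L (Step.D (nat_lit 3509) Step.done))))) Scr.nil))))))))))))))))))))))))))))))))))))))))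
noncomputable def s136 : Scr := (Scr.cons (nat_lit 14) (nat_lit 2) (Step.F (nat_lit 5437) (Step.F (nat_lit 5435) (Step.U (nat_lit 2273) (Step.U (nat_lit 1079) (Step.U (nat_lit 420) (Step.D (nat_lit 421) (Step.D (nat_lit 1081) (Step.D (nat_lit 2275) (Step.F (nat_lit 3493) (Step.U (nat_lit 2109) (Step.L (Step.L (Step.L (Step.L (Step.L (Step.L (Step.L (Step.L (Step.B (nat_lit 5442) (Step.D (nat_lit 6140) Step.done)))))))))))))))))))) (Scr.cons (nat_lit 12) (nat_lit 1) (Step.L (Step.L (Step.L (Step.L (Step.D (nat_lit 3503) Step.done))))) (Scr.cons (nat_lit 7) (nat_lit 6) (Step.F (nat_lit 5432) (Step.B (nat_lit 5433) (Step.U (nat_lit 6135) (Step.U (nat_lit 3506) (Step.B (nat_lit 5434) (Step.D (nat_lit 6134) (Step.D (nat_lit 9299) (Step.F (nat_lit 5441) (Step.U (nat_lit 10267) (Step.B (nat_lit 5443) (Step.U (nat_lit 6140) (Step.U (nat_lit 3509) (Step.L (Step.L (Step.L (Step.L (Step.L (Step.L (Step.B (nat_lit 5444) (Step.D (nat_lit 6130) (Step.D (nat_lit 9293) Step.done)))))))))))))))))))))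 (Scr.cons (nat_lit 1) (nat_lit 1) (Step.D (nat_lit 9293) (Step.F (nat_lit 5445) (Step.D (nat_lit 9300) Step.done))) (Scr.cons (nat_lit 1) (nat_lit 1) (Step.D (nat_lit 9300) (Step.F (nat_lit 5446) Step.done)) (Scr.cons (nat_lit 4) (nat_lit 0) (Step.U (nat_lit 9292) (Step.U (nat_lit 6129) (Step.D (nat_lit 6130) (Step.F (nat_lit 5447) (Step.D (nat_lit 9301) Step.done))))) (Scr.cons (nat_lit 12) (nat_lit 4) (Step.U (nat_lit 6129) (Step.F (nat_lit 5444) (Step.D (nat_lit 3503) (Step.D (nat_lit 6129) (Step.D (nat_lit 9291) Step.done))))) (Scr.cons (nat_lit 12) (nat_lit 1) (Step.U (nat_lit 2106) (Step.F (nat_lit 2062) (Step.D (nat_lit 984) (Step.D (nat_lit 2106) (Step.D (nat_lit 4019) Step.done))))) (Scr.cons (nat_lit 9) (nat_lit 2) (Step.U (nat_lit 9291) (Step.U (nat_lit 6129) (Step.U (nat_lit 3503) (Step.L (Step.L (Step.L (Step.L (Step.L (Step.L (Step.L (Step.L (Step.L (Step.L (Step.L (Step.L (Step.L (Step.D (nat_lit 122) (Step.B (nat_lit 2060) (Step.B (nat_lit 2062) (Step.D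 (nat_lit 2106) (Step.B (nat_lit 5450) (Step.D (nat_lit 6868) (Step.D (nat_lit 10011) Step.done))))))))))))))))))))))) (Scr.cons (nat_lit 11) (nat_lit 0) (Step.B (nat_lit 5451) (Step.U (nat_lit 10011) (Step.U (nat_lit 6868) (Step.D (nat_lit 6867) (Step.D (nat_lit 10010) Step.done))))) (Scr.cons (nat_lit 1) (nat_lit 0) (Step.U (nat_lit 2106) (Step.B (nat_lit 2073) (Step.L Step.done))) (Scr.cons (nat_lit 0) (nat_lit 1) (Step.U (nat_lit 4019) (Step.B (nat_lit 5453) (Step.L Step.done))) (Scr.cons (nat_lit 1) (nat_lit 1) (Step.U (nat_lit 6867) (Step.B (nat_lit 5454) (Step.L Step.done))) (Scr.cons (nat_lit 1) (nat_lit 1) (Step.U (nat_lit 10010) (Step.B (nat_lit 5455) (Step.L Step.done))) (Scr.cons (nat_lit 1) (nat_lit 1) (Step.B (nat_lit 5452) (Step.B (nat_lit 5456) (Step.L Step.done))) (Scr.cons (nat_lit 0) (nat_lit 1) (Step.B (nat_lit 5449) (Step.B (nat_lit 5457) (Step.L Step.done))) (Scr.cons (nat_lit 1) (nat_lit 1) (Step.U (nat_lit 9292) (Step.B (nat_lit 5458) (Step.L Step.done)))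 (Scr.cons (nat_lit 1) (nat_lit 1) (Step.F (nat_lit 5448) (Step.B (nat_lit 5459) (Step.L Step.done))) (Scr.cons (nat_lit 1) (nat_lit 1) (Step.D (nat_lit 9301) (Step.B (nat_lit 5460) (Step.L Step.done))) (Scr.cons (nat_lit 0) (nat_lit 1) (Step.B (nat_lit 5432) (Step.B (nat_lit 5461) (Step.L Step.done))) (Scr.cons (nat_lit 1) (nat_lit 1) (Step.D (nat_lit 3507) (Step.B (nat_lit 5462) (Step.L Step.done))) (Scr.cons (nat_lit 0) (nat_lit 1) (Step.B (nat_lit 5410) (Step.B (nat_lit 5426) (Step.F (nat_lit 5429) (Step.B (nat_lit 5463) Step.done)))) (Scr.cons (nat_lit 1) (nat_lit 0) (Step.D (nat_lit 8150) (Step.B (nat_lit 5464) (Step.L Step.done))) (Scr.cons (nat_lit 0) (nat_lit 1) (Step.B (nat_lit 5407) (Step.B (nat_lit 5465) (Step.L Step.done))) (Scr.cons (nat_lit 1) (nat_lit 0) (Step.D (nat_lit 2842) (Step.B (nat_lit 5466) (Step.L Step.done))) (Scr.cons (nat_lit 0) (nat_lit 1) (Step.B (nat_lit 5406) (Step.B (nat_lit 5467) (Step.D (nat_lit 1841) Step.done))) (Scr.cons (nat_lit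 1) (nat_lit 1) (Step.U (nat_lit 3588) (Step.F (nat_lit 5468) (Step.L Step.done))) (Scr.cons (nat_lit 0) (nat_lit 1) (Step.U (nat_lit 6283) (Step.B (nat_lit 5469) (Step.D (nat_lit 2843) Step.done))) (Scr.cons (nat_lit 1) (nat_lit 0) (Step.F (nat_lit 5405) (Step.B (nat_lit 5470) (Step.D (nat_lit 5137) Step.done))) (Scr.cons (nat_lit 0) (nat_lit 1) (Step.B (nat_lit 5403) (Step.B (nat_lit 5471) (Step.D (nat_lit 8151) Step.done))) (Scr.cons (nat_lit 1) (nat_lit 1) (Step.F (nat_lit 5401) (Step.F (nat_lit 5472) (Step.U (nat_lit 6276) Step.done))) (Scr.cons (nat_lit 1) (nat_lit 1) (Step.D (nat_lit 9583) (Step.B (nat_lit 5473) (Step.D (nat_lit 6275) Step.done))) (Scr.cons (nat_lit 0) (nat_lit 1) (Step.F (nat_lit 5397) (Step.B (nat_lit 5474) (Step.D (nat_lit 9455) Step.done))) (Scr.cons (nat_lit 1) (nat_lit 0) (Step.D (nat_lit 9579) (Step.B (nat_lit 5475) Step.done)) (Scr.cons (nat_lit 12) (nat_lit 4) (Step.L (Step.L (Step.L (Step.L (Step.D (nat_lit 6431) Step.done))))) (Scr.cons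 (nat_lit 15) (nat_lit 1) (Step.U (nat_lit 9454) (Step.L (Step.L (Step.L (Step.L (Step.L (Step.L (Step.L (Step.D (nat_lit 1838) (Step.D (nat_lit 3583) (Step.D (nat_lit 6275) (Step.D (nat_lit 9455) (Step.F (nat_lit 5476) (Step.F (nat_lit 5477) (Step.D (nat_lit 6432) (Step.D (nat_lit 9580) Step.done)))))))))))))))) (Scr.cons (nat_lit 0) (nat_lit 1) (Step.D (nat_lit 9580) (Step.F (nat_lit 5478) Step.done)) (Scr.cons (nat_lit 9) (nat_lit 0) (Step.L (Step.L (Step.L (Step.L (Step.D (nat_lit 9454) (Step.F (nat_lit 5479) (Step.U (nat_lit 6432) (Step.L (Step.L (Step.L (Step.L (Step.L (Step.L (Step.L (Step.L (Step.L (Step.L (Step.L (Step.L (Step.L (Step.L (Step.L (Step.L (Step.B (nat_lit 5394) Step.done)))))))))))))))))))))))) (Scr.cons (nat_lit 0) (nat_lit 1) (Step.B (nat_lit 5394) (Step.F (nat_lit 5480) (Step.D (nat_lit 9453) Step.done))) (Scr.cons (nat_lit 0) (nat_lit 0) (Step.B (nat_lit 5393) (Step.F (nat_lit 5481) Step.done)) Scr.nil))))))))))))))))))))))))))))))))))))))))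
noncomputable def s137 : Scr := (Scr.cons (nat_lit 16) (nat_lit 3) (Step.U (nat_lit 8791) (Step.U (nat_lit 5687) (Step.L (Step.L (Step.L (Step.L (Step.L (Step.L (Step.L (Step.L (Step.L (Step.L (Step.L (Step.L (Step.L (Step.L (Step.L (Step.L (Step.L (Step.L (Step.D (nat_lit 4054) (Step.D (nat_lit 6907) (Step.D (nat_lit 10043) Step.done))))))))))))))))))))))) (Scr.cons (nat_lit 15) (nat_lit 0) (Step.L (Step.L (Step.L (Step.L (Step.L (Step.L (Step.L (Step.L (Step.L (Step.L (Step.L (Step.L (Step.D (nat_lit 4054) (Step.D (nat_lit 6907) (Step.D (nat_lit 10043) (Step.F (nat_lit 5483) Step.done)))))))))))))))) (Scr.cons (nat_lit 1) (nat_lit 1) (Step.D (nat_lit 8791) (Step.F (nat_lit 5484) (Step.L Step.done))) (Scr.cons (nat_lit 1) (nat_lit 1) (Step.D (nat_lit 5687) (Step.B (nat_lit 5485) (Step.D (nat_lit 6291) Step.done))) (Scr.cons (nat_lit 1) (nat_lit 1) (Step.D (nat_lit 6291) (Step.F (nat_lit 5486) Step.done)) (Scr.cons (nat_lit 12) (nat_lit 1) (Step.U (nat_lit 7943) (Step.F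 (nat_lit 4252) (Step.D (nat_lit 4933) (Step.D (nat_lit 7943) (Step.D (nat_lit 10928) Step.done))))) (Scr.cons (nat_lit 11) (nat_lit 0) (Step.U (nat_lit 6716) (Step.U (nat_lit 3914) (Step.L (Step.L (Step.D (nat_lit 6768) Step.done))))) (Scr.cons (nat_lit 12) (nat_lit 1) (Step.U (nat_lit 1137) (Step.L (Step.L (Step.D (nat_lit 1137) (Step.D (nat_lit 2371) Step.done))))) (Scr.cons (nat_lit 13) (nat_lit 0) (Step.U (nat_lit 4409) (Step.F (nat_lit 5490) (Step.U (nat_lit 1137) (Step.L (Step.L (Step.L (Step.L (Step.L (Step.L (Step.D (nat_lit 4408) (Step.D (nat_lit 7323) Step.done))))))))))) (Scr.cons (nat_lit 6) (nat_lit 3) (Step.U (nat_lit 4409) (Step.U (nat_lit 2371) (Step.U (nat_lit 1137) (Step.L (Step.L (Step.L (Step.L (Step.L (Step.L (Step.B (nat_lit 681) (Step.D (nat_lit 7323) Step.done))))))))))) (Scr.cons (nat_lit 11) (nat_lit 0) (Step.U (nat_lit 1137) (Step.L (Step.L (Step.L (Step.L Step.done))))) (Scr.cons (nat_lit 14) (nat_lit 3) (Step.F (nat_lit 5489) (Step.U (nat_lit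 6716) (Step.U (nat_lit 3914) (Step.L (Step.L (Step.L (Step.L (Step.L (Step.L (Step.L (Step.L (Step.L (Step.L (Step.L (Step.L (Step.L (Step.F (nat_lit 5493) (Step.B (nat_lit 5490) (Step.D (nat_lit 4409) (Step.D (nat_lit 7325) Step.done)))))))))))))))))))) (Scr.cons (nat_lit 12) (nat_lit 4) (Step.U (nat_lit 7325) (Step.B (nat_lit 5491) (Step.F (nat_lit 5492) (Step.D (nat_lit 7325) (Step.F (nat_lit 5494) Step.done))))) (Scr.cons (nat_lit 11) (nat_lit 0) (Step.U (nat_lit 7326) (Step.U (nat_lit 4410) (Step.D (nat_lit 4409) (Step.D (nat_lit 7325) (Step.D (nat_lit 10398) Step.done))))) (Scr.cons (nat_lit 16) (nat_lit 2) (Step.F (nat_lit 5496) (Step.U (nat_lit 7326) (Step.U (nat_lit 4410) (Step.F (nat_lit 5490) (Step.U (nat_lit 1137) (Step.L (Step.L (Step.L (Step.L (Step.L (Step.L (Step.L (Step.L (Step.L (Step.L (Step.L (Step.L (Step.L (Step.L (Step.L (Step.L (Step.D (nat_lit 7941) (Step.D (nat_lit 10926) Step.done))))))))))))))))))))))) (Scr.cons (nat_lit 13) (nat_lit 3) (Step.U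 (nat_lit 9881) (Step.B (nat_lit 5489) (Step.F (nat_lit 5495) (Step.D (nat_lit 10398) (Step.B (nat_lit 5497) (Step.U (nat_lit 10926) (Step.F (nat_lit 4253) (Step.L (Step.B (nat_lit 4252) (Step.D (nat_lit 7943) (Step.D (nat_lit 10928) Step.done))))))))))) (Scr.cons (nat_lit 7) (nat_lit 1) (Step.L (Step.L (Step.L (Step.L (Step.L (Step.L (Step.L (Step.L (Step.L (Step.L (Step.L (Step.L (Step.L (Step.L (Step.L (Step.L (Step.D (nat_lit 3914) (Step.D (nat_lit 6716) (Step.D (nat_lit 9881) (Step.B (nat_lit 5498) Step.done)))))))))))))))))))) (Scr.cons (nat_lit 7) (nat_lit 6) (Step.U (nat_lit 10927) (Step.U (nat_lit 7942) (Step.D (nat_lit 7943) (Step.B (nat_lit 5488) (Step.F (nat_lit 5499) (Step.L (Step.L (Step.L (Step.L (Step.L (Step.L (Step.L (Step.L (Step.L (Step.L (Step.L (Step.L (Step.L (Step.L (Step.D (nat_lit 9466) Step.done)))))))))))))))))))) (Scr.cons (nat_lit 12) (nat_lit 1) (Step.U (nat_lit 9466) (Step.L (Step.L (Step.D (nat_lit 9466) (Step.F (nat_lit 5500) Step.done)))))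 (Scr.cons (nat_lit 14) (nat_lit 1) (Step.L (Step.L (Step.L (Step.L (Step.D (nat_lit 2589) (Step.B (nat_lit 4239) (Step.B (nat_lit 4249) (Step.U (nat_lit 4932) (Step.L (Step.L (Step.L (Step.L (Step.B (nat_lit 4252) (Step.D (nat_lit 7942) (Step.D (nat_lit 10927) (Step.F (nat_lit 5501) (Step.U (nat_lit 9466) (Step.L (Step.L (Step.L Step.done)))))))))))))))))))) (Scr.cons (nat_lit 12) (nat_lit 1) (Step.U (nat_lit 692) (Step.L (Step.L (Step.D (nat_lit 692) (Step.D (nat_lit 1629) Step.done))))) (Scr.cons (nat_lit 12) (nat_lit 1) (Step.F (nat_lit 4194) (Step.D (nat_lit 1629) (Step.F (nat_lit 5503) (Step.B (nat_lit 4194) (Step.D (nat_lit 3237) Step.done))))) (Scr.cons (nat_lit 13) (nat_lit 3) (Step.L (Step.L (Step.L (Step.L (Step.L (Step.L (Step.L (Step.D (nat_lit 1628) (Step.B (nat_lit 5504) (Step.D (nat_lit 5741) (Step.D (nat_lit 8856) Step.done))))))))))) (Scr.cons (nat_lit 12) (nat_lit 4) (Step.U (nat_lit 7780) (Step.L (Step.L (Step.D (nat_lit 7780) (Step.D (nat_lit 10792)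 Step.done))))) (Scr.cons (nat_lit 1) (nat_lit 0) (Step.D (nat_lit 8857) (Step.F (nat_lit 4267) (Step.D (nat_lit 10788) Step.done))) (Scr.cons (nat_lit 1) (nat_lit 0) (Step.D (nat_lit 10788) (Step.F (nat_lit 5507) Step.done)) (Scr.cons (nat_lit 15) (nat_lit 1) (Step.U (nat_lit 5741) (Step.F (nat_lit 5504) (Step.F (nat_lit 4194) (Step.D (nat_lit 1629) (Step.D (nat_lit 3238) (Step.D (nat_lit 5742) (Step.F (nat_lit 5508) (Step.F (nat_lit 4265) (Step.U (nat_lit 4797) (Step.F (nat_lit 4193) (Step.L (Step.L (Step.L (Step.L (Step.D (nat_lit 7780) (Step.D (nat_lit 10792) Step.done)))))))))))))))) (Scr.cons (nat_lit 0) (nat_lit 1) (Step.B (nat_lit 5506) (Step.F (nat_lit 5509) (Step.D (nat_lit 8856) Step.done))) (Scr.cons (nat_lit 1) (nat_lit 1) (Step.B (nat_lit 5505) (Step.F (nat_lit 5510) (Step.D (nat_lit 10793) Step.done))) (Scr.cons (nat_lit 1) (nat_lit 1) (Step.D (nat_lit 10793) (Step.F (nat_lit 5511) Step.done)) (Scr.cons (nat_lit 4) (nat_lit 0) (Step.U (nat_lit 10191) (Step.F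 (nat_lit 5512) (Step.U (nat_lit 7780) (Step.L (Step.D (nat_lit 10794) Step.done))))) (Scr.cons (nat_lit 12) (nat_lit 1) (Step.U (nat_lit 5741) (Step.F (nat_lit 5504) (Step.D (nat_lit 3237) (Step.D (nat_lit 5741) (Step.D (nat_lit 8856) Step.done))))) (Scr.cons (nat_lit 0) (nat_lit 0) (Step.B (nat_lit 5514) (Step.F (nat_lit 5510) Step.done)) (Scr.cons (nat_lit 16) (nat_lit 4) (Step.L (Step.D (nat_lit 7780) (Step.F (nat_lit 5515) (Step.U (nat_lit 5741) (Step.F (nat_lit 5504) (Step.F (nat_lit 4194) (Step.U (nat_lit 692) (Step.L (Step.L (Step.L (Step.L (Step.L (Step.L (Step.L (Step.L (Step.L (Step.L (Step.L (Step.L (Step.L (Step.L (Step.L (Step.L (Step.D (nat_lit 8627) Step.done)))))))))))))))))))))))) (Scr.cons (nat_lit 1) (nat_lit 0) (Step.D (nat_lit 8627) (Step.F (nat_lit 5516) (Step.D (nat_lit 10794) Step.done))) (Scr.cons (nat_lit 1) (nat_lit 0) (Step.B (nat_lit 5513) (Step.F (nat_lit 5517) (Step.D (nat_lit 8628) Step.done))) (Scr.cons (nat_lit 1) (nat_lit 1) (Step.D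 (nat_lit 10191) (Step.B (nat_lit 5518) Step.done)) (Scr.cons (nat_lit 9) (nat_lit 5) (Step.U (nat_lit 10191) (Step.F (nat_lit 5512) (Step.U (nat_lit 7780) (Step.L (Step.L (Step.L (Step.L (Step.L (Step.L (Step.L (Step.L (Step.L (Step.L (Step.L (Step.L (Step.L (Step.L (Step.L (Step.L (Step.L (Step.L (Step.B (nat_lit 5069) (Step.D (nat_lit 10278) Step.done))))))))))))))))))))))) (Scr.cons (nat_lit 5) (nat_lit 1) (Step.F (nat_lit 5520) (Step.U (nat_lit 10191) (Step.L (Step.L (Step.D (nat_lit 10191) Step.done))))) (Scr.cons (nat_lit 0) (nat_lit 1) (Step.B (nat_lit 5521) (Step.B (nat_lit 5518) Step.done)) Scr.nil))))))))))))))))))))))))))))))))))))))))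
noncomputable def s138 : Scr := (Scr.cons (nat_lit 12) (nat_lit 1) (Step.U (nat_lit 4229) (Step.L (Step.L (Step.D (nat_lit 4229) (Step.D (nat_lit 7116) Step.done))))) (Scr.cons (nat_lit 12) (nat_lit 1) (Step.U (nat_lit 7117) (Step.D (nat_lit 7116) (Step.F (nat_lit 5523) (Step.D (nat_lit 7117) (Step.D (nat_lit 10222) Step.done))))) (Scr.cons (nat_lit 7) (nat_lit 0) (Step.U (nat_lit 6925) (Step.U (nat_lit 4068) (Step.U (nat_lit 2132) (Step.U (nat_lit 995) (Step.U (nat_lit 377) (Step.L (Step.L (Step.L (Step.L (Step.L (Step.L (Step.L (Step.L (Step.L (Step.L (Step.L (Step.L (Step.L (Step.D (nat_lit 4229) (Step.D (nat_lit 7117) (Step.D (nat_lit 10222) Step.done))))))))))))))))))))) (Scr.cons (nat_lit 0) (nat_lit 1) (Step.B (nat_lit 5524) (Step.F (nat_lit 5525) (Step.B (nat_lit 5058) Step.done))) (Scr.cons (nat_lit 1) (nat_lit 1) (Step.D (nat_lit 10049) (Step.F (nat_lit 5526) (Step.U (nat_lit 7117) Step.done))) (Scr.cons (nat_lit 1) (nat_lit 1) (Step.U (nat_lit 10048) (Step.B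 (nat_lit 5527) (Step.U (nat_lit 4229) Step.done))) (Scr.cons (nat_lit 1) (nat_lit 1) (Step.F (nat_lit 5071) (Step.B (nat_lit 5528) (Step.L Step.done))) (Scr.cons (nat_lit 0) (nat_lit 1) (Step.F (nat_lit 5522) (Step.B (nat_lit 5529) (Step.L Step.done))) (Scr.cons (nat_lit 1) (nat_lit 0) (Step.B (nat_lit 5519) (Step.B (nat_lit 5530) (Step.D (nat_lit 10221) Step.done))) (Scr.cons (nat_lit 1) (nat_lit 0) (Step.D (nat_lit 10221) (Step.F (nat_lit 5531) Step.done)) (Scr.cons (nat_lit 12) (nat_lit 1) (Step.L (Step.L (Step.L (Step.L (Step.D (nat_lit 10052) Step.done))))) (Scr.cons (nat_lit 12) (nat_lit 1) (Step.L (Step.L (Step.L (Step.L (Step.D (nat_lit 10220) Step.done))))) (Scr.cons (nat_lit 0) (nat_lit 1) (Step.B (nat_lit 5057) (Step.B (nat_lit 5527) (Step.D (nat_lit 7116) Step.done))) (Scr.cons (nat_lit 0) (nat_lit 1) (Step.D (nat_lit 7116) (Step.F (nat_lit 5535) Step.done)) (Scr.cons (nat_lit 6) (nat_lit 2) (Step.L (Step.L (Step.B (nat_lit 1494) (Step.F (nat_lit 5536) (Step.U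 (nat_lit 4229) (Step.L (Step.L (Step.L (Step.L (Step.L (Step.L (Step.B (nat_lit 5534) Step.done)))))))))))) (Scr.cons (nat_lit 0) (nat_lit 1) (Step.B (nat_lit 5534) (Step.F (nat_lit 5537) (Step.D (nat_lit 10052) Step.done))) (Scr.cons (nat_lit 0) (nat_lit 0) (Step.B (nat_lit 5533) (Step.F (nat_lit 5538) Step.done)) (Scr.cons (nat_lit 11) (nat_lit 0) (Step.U (nat_lit 6788) (Step.U (nat_lit 3963) (Step.D (nat_lit 3962) (Step.D (nat_lit 6787) (Step.D (nat_lit 9951) Step.done))))) (Scr.cons (nat_lit 12) (nat_lit 4) (Step.L (Step.L (Step.L (Step.L (Step.D (nat_lit 4238) Step.done))))) (Scr.cons (nat_lit 14) (nat_lit 3) (Step.F (nat_lit 5540) (Step.U (nat_lit 6788) (Step.U (nat_lit 3963) (Step.L (Step.L (Step.L (Step.L (Step.L (Step.L (Step.L (Step.L (Step.L (Step.L (Step.L (Step.L (Step.L (Step.L (Step.B (nat_lit 5541) (Step.D (nat_lit 7125) (Step.D (nat_lit 10225) Step.done)))))))))))))))))))) (Scr.cons (nat_lit 12) (nat_lit 1) (Step.L (Step.L (Step.L (Step.L (Step.D (nat_lit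 3672) Step.done))))) (Scr.cons (nat_lit 13) (nat_lit 0) (Step.U (nat_lit 6390) (Step.F (nat_lit 5543) (Step.L (Step.L (Step.L (Step.L (Step.L (Step.L (Step.L (Step.D (nat_lit 6389) (Step.D (nat_lit 9539) Step.done))))))))))) (Scr.cons (nat_lit 13) (nat_lit 0) (Step.L (Step.L (Step.L (Step.L (Step.L (Step.L (Step.L (Step.L (Step.L (Step.D (nat_lit 337) (Step.D (nat_lit 908) Step.done))))))))))) (Scr.cons (nat_lit 11) (nat_lit 0) (Step.U (nat_lit 1961) (Step.U (nat_lit 909) (Step.D (nat_lit 908) (Step.D (nat_lit 1959) (Step.D (nat_lit 3788) Step.done))))) (Scr.cons (nat_lit 16) (nat_lit 3) (Step.U (nat_lit 9541) (Step.U (nat_lit 6391) (Step.F (nat_lit 5543) (Step.L (Step.L (Step.L (Step.L (Step.L (Step.L (Step.L (Step.L (Step.L (Step.L (Step.L (Step.L (Step.L (Step.B (nat_lit 5545) (Step.D (nat_lit 1959) (Step.D (nat_lit 3788) (Step.F (nat_lit 5546) (Step.D (nat_lit 3789) (Step.D (nat_lit 6552) (Step.D (nat_lit 9700) Step.done))))))))))))))))))))))) (Scr.cons (nat_lit 11)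 (nat_lit 0) (Step.F (nat_lit 5547) (Step.U (nat_lit 9541) (Step.U (nat_lit 6391) (Step.D (nat_lit 6390) (Step.D (nat_lit 9540) Step.done))))) (Scr.cons (nat_lit 12) (nat_lit 1) (Step.U (nat_lit 909) (Step.F (nat_lit 94) (Step.D (nat_lit 337) (Step.D (nat_lit 909) (Step.D (nat_lit 1960) Step.done))))) (Scr.cons (nat_lit 12) (nat_lit 1) (Step.U (nat_lit 1961) (Step.D (nat_lit 1960) (Step.F (nat_lit 5549) (Step.D (nat_lit 1961) (Step.D (nat_lit 3789) Step.done))))) (Scr.cons (nat_lit 12) (nat_lit 4) (Step.U (nat_lit 6552) (Step.F (nat_lit 5550) (Step.D (nat_lit 3789) (Step.D (nat_lit 6552) (Step.D (nat_lit 9700) Step.done))))) (Scr.cons (nat_lit 12) (nat_lit 4) (Step.U (nat_lit 1087) (Step.L (Step.L (Step.D (nat_lit 1087) (Step.D (nat_lit 2283) Step.done))))) (Scr.cons (nat_lit 12) (nat_lit 1) (Step.U (nat_lit 4284) (Step.F (nat_lit 5552) (Step.D (nat_lit 2283) (Step.D (nat_lit 4284) (Step.D (nat_lit 7181) Step.done))))) (Scr.cons (nat_lit 11) (nat_lit 0) (Step.B (nat_lit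 2837) (Step.U (nat_lit 9723) (Step.U (nat_lit 6567) (Step.D (nat_lit 6566) (Step.D (nat_lit 9722) Step.done))))) (Scr.cons (nat_lit 8) (nat_lit 1) (Step.U (nat_lit 4283) (Step.U (nat_lit 2283) (Step.U (nat_lit 1087) (Step.L (Step.L (Step.L (Step.L (Step.L (Step.L (Step.L (Step.L (Step.B (nat_lit 3671) (Step.F (nat_lit 3674) (Step.U (nat_lit 4088) (Step.D (nat_lit 4089) Step.done))))))))))))))) (Scr.cons (nat_lit 5) (nat_lit 1) (Step.F (nat_lit 5555) (Step.U (nat_lit 4283) (Step.U (nat_lit 2283) (Step.B (nat_lit 5552) (Step.D (nat_lit 4283) Step.done))))) (Scr.cons (nat_lit 11) (nat_lit 0) (Step.U (nat_lit 7182) (Step.U (nat_lit 4284) (Step.D (nat_lit 4283) (Step.D (nat_lit 7180) (Step.D (nat_lit 10272) Step.done))))) (Scr.cons (nat_lit 14) (nat_lit 0) (Step.U (nat_lit 9702) (Step.U (nat_lit 6553) (Step.F (nat_lit 5550) (Step.U (nat_lit 1961) (Step.U (nat_lit 909) (Step.D (nat_lit 908) (Step.F (nat_lit 5545) (Step.D (nat_lit 911) (Step.D (nat_lit 1967) (Step.D (nat_lit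 3796) (Step.D (nat_lit 6566) (Step.D (nat_lit 9722) (Step.F (nat_lit 5554) (Step.U (nat_lit 6947) (Step.D (nat_lit 6948) (Step.F (nat_lit 3675) (Step.B (nat_lit 5556) (Step.D (nat_lit 7180) (Step.D (nat_lit 10272) (Step.F (nat_lit 5557) Step.done)))))))))))))))))))) (Scr.cons (nat_lit 5) (nat_lit 5) (Step.U (nat_lit 7182) (Step.B (nat_lit 5553) (Step.U (nat_lit 7181) (Step.D (nat_lit 7182) (Step.F (nat_lit 5558) Step.done))))) (Scr.cons (nat_lit 0) (nat_lit 1) (Step.F (nat_lit 5556) (Step.B (nat_lit 3677) (Step.L Step.done))) (Scr.cons (nat_lit 1) (nat_lit 1) (Step.U (nat_lit 7180) (Step.B (nat_lit 5560) (Step.D (nat_lit 883) Step.done))) (Scr.cons (nat_lit 1) (nat_lit 1) (Step.U (nat_lit 10272) (Step.B (nat_lit 5561) (Step.D (nat_lit 1916) Step.done))) Scr.nil))))))))))))))))))))))))))))))))))))))))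
noncomputable def s139 : Scr := (Scr.cons (nat_lit 1) (nat_lit 1) (Step.B (nat_lit 5557) (Step.B (nat_lit 5562) (Step.D (nat_lit 3721) Step.done))) (Scr.cons (nat_lit 0) (nat_lit 1) (Step.F (nat_lit 5559) (Step.B (nat_lit 5563) (Step.D (nat_lit 6459) Step.done))) (Scr.cons (nat_lit 1) (nat_lit 0) (Step.D (nat_lit 9702) (Step.B (nat_lit 5564) Step.done)) (Scr.cons (nat_lit 11) (nat_lit 0) (Step.U (nat_lit 9606) (Step.F (nat_lit 5565) (Step.U (nat_lit 6553) (Step.D (nat_lit 6552) (Step.D (nat_lit 9701) Step.done))))) (Scr.cons (nat_lit 11) (nat_lit 0) (Step.U (nat_lit 1917) (Step.U (nat_lit 884) (Step.D (nat_lit 883) (Step.D (nat_lit 1916) (Step.D (nat_lit 3721) Step.done))))) (Scr.cons (nat_lit 14) (nat_lit 6) (Step.D (nat_lit 9539) (Step.F (nat_lit 5544) (Step.D (nat_lit 9540) (Step.F (nat_lit 5548) (Step.F (nat_lit 5551) (Step.D (nat_lit 9701) (Step.F (nat_lit 5566) (Step.U (nat_lit 9606) (Step.U (nat_lit 6459) (Step.F (nat_lit 5567) (Step.U (nat_lit 1917) (Step.F (nat_lit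 1821) (Step.L (Step.L (Step.L (Step.L (Step.L (Step.L (Step.D (nat_lit 4238) (Step.D (nat_lit 7125) (Step.D (nat_lit 10225) Step.done))))))))))))))))))))) (Scr.cons (nat_lit 12) (nat_lit 1) (Step.L (Step.L (Step.L (Step.L (Step.D (nat_lit 6389) Step.done))))) (Scr.cons (nat_lit 0) (nat_lit 1) (Step.B (nat_lit 5542) (Step.F (nat_lit 5568) (Step.F (nat_lit 5569) Step.done))) (Scr.cons (nat_lit 1) (nat_lit 1) (Step.B (nat_lit 5540) (Step.B (nat_lit 5570) (Step.L Step.done))) (Scr.cons (nat_lit 1) (nat_lit 1) (Step.D (nat_lit 6788) (Step.B (nat_lit 5571) (Step.L Step.done))) (Scr.cons (nat_lit 1) (nat_lit 1) (Step.D (nat_lit 3963) (Step.B (nat_lit 5572) (Step.D (nat_lit 6388) Step.done))) (Scr.cons (nat_lit 1) (nat_lit 1) (Step.D (nat_lit 6388) (Step.F (nat_lit 5573) Step.done)) (Scr.cons (nat_lit 12) (nat_lit 1) (Step.L (Step.L (Step.L (Step.L (Step.D (nat_lit 9971) Step.done))))) (Scr.cons (nat_lit 11) (nat_lit 0) (Step.L (Step.L (Step.L (Step.L (Step.D (nat_lit 5444) Step.done)))))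 (Scr.cons (nat_lit 12) (nat_lit 1) (Step.F (nat_lit 5576) (Step.L (Step.L (Step.B (nat_lit 5576) (Step.D (nat_lit 8524) Step.done))))) (Scr.cons (nat_lit 14) (nat_lit 6) (Step.U (nat_lit 8524) (Step.F (nat_lit 5576) (Step.L (Step.L (Step.L (Step.L (Step.L (Step.L (Step.L (Step.L (Step.D (nat_lit 326) (Step.D (nat_lit 875) (Step.D (nat_lit 1895) (Step.D (nat_lit 3677) (Step.B (nat_lit 2150) (Step.U (nat_lit 2111) (Step.D (nat_lit 2110) (Step.D (nat_lit 4027) (Step.D (nat_lit 6876) (Step.D (nat_lit 10017) Step.done)))))))))))))))))))) (Scr.cons (nat_lit 0) (nat_lit 1) (Step.U (nat_lit 4027) (Step.B (nat_lit 2253) (Step.L Step.done))) (Scr.cons (nat_lit 1) (nat_lit 1) (Step.U (nat_lit 6876) (Step.B (nat_lit 5579) (Step.L Step.done))) (Scr.cons (nat_lit 1) (nat_lit 1) (Step.U (nat_lit 10017) (Step.B (nat_lit 5580) (Step.L Step.done))) (Scr.cons (nat_lit 1) (nat_lit 1) (Step.B (nat_lit 5578) (Step.B (nat_lit 5581) (Step.D (nat_lit 2074) Step.done))) (Scr.cons (nat_lit 0) (nat_lit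 1) (Step.B (nat_lit 5577) (Step.B (nat_lit 5582) (Step.D (nat_lit 3977) Step.done))) (Scr.cons (nat_lit 1) (nat_lit 1) (Step.B (nat_lit 5576) (Step.B (nat_lit 5583) (Step.D (nat_lit 6814) Step.done))) (Scr.cons (nat_lit 1) (nat_lit 1) (Step.D (nat_lit 6814) (Step.F (nat_lit 5584) Step.done)) (Scr.cons (nat_lit 7) (nat_lit 4) (Step.L (Step.L (Step.L (Step.L (Step.L (Step.L (Step.L (Step.L (Step.L (Step.L (Step.L (Step.L (Step.F (nat_lit 5585) (Step.U (nat_lit 3977) (Step.U (nat_lit 2074) (Step.L (Step.L (Step.L (Step.L (Step.L (Step.B (nat_lit 5575) Step.done))))))))))))))))))))) (Scr.cons (nat_lit 0) (nat_lit 0) (Step.B (nat_lit 5575) (Step.F (nat_lit 5586) Step.done)) (Scr.cons (nat_lit 11) (nat_lit 0) (Step.U (nat_lit 4090) (Step.L (Step.L (Step.L (Step.D (nat_lit 6950) Step.done))))) (Scr.cons (nat_lit 12) (nat_lit 0) (Step.B (nat_lit 531) (Step.U (nat_lit 3466) (Step.L (Step.L (Step.D (nat_lit 3466) Step.done))))) (Scr.cons (nat_lit 16) (nat_lit 1) (Step.F (nat_lit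 5589) (Step.L (Step.L (Step.L (Step.L (Step.L (Step.L (Step.L (Step.L (Step.L (Step.L (Step.L (Step.L (Step.L (Step.L (Step.L (Step.L (Step.L (Step.L (Step.L (Step.L (Step.D (nat_lit 2090) (Step.D (nat_lit 4000) Step.done))))))))))))))))))))))) (Scr.cons (nat_lit 12) (nat_lit 4) (Step.U (nat_lit 1073) (Step.L (Step.L (Step.D (nat_lit 1073) (Step.D (nat_lit 2263) Step.done))))) (Scr.cons (nat_lit 14) (nat_lit 1) (Step.F (nat_lit 5590) (Step.F (nat_lit 5589) (Step.L (Step.L (Step.L (Step.L (Step.L (Step.L (Step.L (Step.L (Step.D (nat_lit 2107) (Step.F (nat_lit 2238) (Step.U (nat_lit 2275) (Step.F (nat_lit 2233) (Step.U (nat_lit 422) (Step.B (nat_lit 2234) (Step.U (nat_lit 418) (Step.L (Step.D (nat_lit 1073) (Step.B (nat_lit 5591) Step.done)))))))))))))))))))) (Scr.cons (nat_lit 4) (nat_lit 0) (Step.L (Step.D (nat_lit 3466) (Step.B (nat_lit 5590) (Step.B (nat_lit 5592) (Step.D (nat_lit 4262) Step.done))))) (Scr.cons (nat_lit 1) (nat_lit 1) (Step.D (nat_lit 4552) (Step.B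 (nat_lit 2093) (Step.B (nat_lit 5593) Step.done))) (Scr.cons (nat_lit 1) (nat_lit 0) (Step.D (nat_lit 4262) (Step.F (nat_lit 5594) Step.done)) (Scr.cons (nat_lit 14) (nat_lit 3) (Step.L (Step.D (nat_lit 6950) (Step.F (nat_lit 5588) (Step.U (nat_lit 4090) (Step.L (Step.L (Step.L (Step.D (nat_lit 2447) (Step.F (nat_lit 5595) (Step.F (nat_lit 5592) (Step.F (nat_lit 5590) (Step.F (nat_lit 531) (Step.L (Step.L (Step.L (Step.L (Step.L (Step.L (Step.L (Step.L (Step.D (nat_lit 9330) Step.done))))))))))))))))))))) (Scr.cons (nat_lit 1) (nat_lit 0) (Step.D (nat_lit 9330) (Step.F (nat_lit 5596) (Step.D (nat_lit 10080) Step.done))) (Scr.cons (nat_lit 1) (nat_lit 0) (Step.D (nat_lit 10080) (Step.F (nat_lit 5597) Step.done)) (Scr.cons (nat_lit 0) (nat_lit 1) (Step.D (nat_lit 1896) (Step.F (nat_lit 4851) Step.done)) (Scr.cons (nat_lit 1) (nat_lit 1) (Step.D (nat_lit 960) (Step.F (nat_lit 4850) Step.done)) (Scr.cons (nat_lit 13) (nat_lit 3) (Step.U (nat_lit 11027) (Step.L (Step.L (Step.L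 (Step.L (Step.F (nat_lit 5599) (Step.F (nat_lit 5600) (Step.L (Step.L (Step.L (Step.L (Step.L Step.done)))))))))))) (Scr.cons (nat_lit 1) (nat_lit 0) (Step.D (nat_lit 11027) (Step.B (nat_lit 5601) Step.done)) Scr.nil))))))))))))))))))))))))))))))))))))))))
noncomputable def s140 : Scr := (Scr.cons (nat_lit 12) (nat_lit 4) (Step.L (Step.L (Step.L (Step.L (Step.D (nat_lit 11128) Step.done))))) (Scr.cons (nat_lit 12) (nat_lit 1) (Step.L (Step.L (Step.L (Step.L (Step.D (nat_lit 9964) Step.done))))) (Scr.cons (nat_lit 8) (nat_lit 0) (Step.L (Step.L (Step.L (Step.L (Step.L (Step.L (Step.L (Step.L (Step.L (Step.F (nat_lit 5599) (Step.F (nat_lit 5600) (Step.L (Step.L (Step.L (Step.L (Step.B (nat_lit 5604) Step.done)))))))))))))))) (Scr.cons (nat_lit 0) (nat_lit 1) (Step.B (nat_lit 5604) (Step.F (nat_lit 5605) (Step.D (nat_lit 11128) Step.done))) (Scr.cons (nat_lit 0) (nat_lit 0) (Step.B (nat_lit 5603) (Step.F (nat_lit 5606) Step.done)) (Scr.cons (nat_lit 12) (nat_lit 4) (Step.L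 (Step.L (Step.L (Step.L (Step.D (nat_lit 10006) Step.done))))) (Scr.cons (nat_lit 11) (nat_lit 0) (Step.L (Step.L (Step.L (Step.L (Step.D (nat_lit 4015) Step.done))))) (Scr.cons (nat_lit 16) (nat_lit 3) (Step.L (Step.L (Step.L (Step.L (Step.L (Step.L (Step.L (Step.L (Step.L (Step.L (Step.L (Step.L (Step.L (Step.L (Step.L (Step.L (Step.L (Step.L (Step.L (Step.D (nat_lit 4015) (Step.F (nat_lit 5609) (Step.L (Step.L (Step.D (nat_lit 10006) Step.done)))))))))))))))))))))))) (Scr.cons (nat_lit 0) (nat_lit 0) (Step.B (nat_lit 5608) (Step.F (nat_lit 5610) Step.done)) (Scr.cons (nat_lit 12) (nat_lit 1) (Step.L (Step.L (Step.L (Step.L (Step.D (nat_lit 8257) Step.done))))) (Scr.cons (nat_lit 12) (nat_lit 1) (Step.L (Step.L (Step.L (Step.L (Step.D (nat_lit 11047) Step.done))))) (Scr.cons (nat_lit 8) (nat_lit 1) (Step.U (nat_lit 5604) (Step.U (nat_lit 3163) (Step.U (nat_lit 1589) (Step.L (Step.L (Step.L (Step.L (Step.L (Step.L (Step.L (Step.L (Step.L (Step.L (Step.L (Step.D (nat_lit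 8256) Step.done))))))))))))))) (Scr.cons (nat_lit 12) (nat_lit 0) (Step.B (nat_lit 5614) (Step.U (nat_lit 8256) (Step.L (Step.L (Step.D (nat_lit 8256) Step.done))))) (Scr.cons (nat_lit 11) (nat_lit 0) (Step.U (nat_lit 8632) (Step.L (Step.L (Step.L (Step.D (nat_lit 9569) Step.done))))) (Scr.cons (nat_lit 11) (nat_lit 0) (Step.L (Step.L (Step.L (Step.L (Step.D (nat_lit 8635) Step.done))))) (Scr.cons (nat_lit 14) (nat_lit 3) (Step.F (nat_lit 5617) (Step.L (Step.L (Step.L (Step.L (Step.L (Step.L (Step.L (Step.L (Step.L (Step.L (Step.L (Step.L (Step.L (Step.L (Step.L (Step.L (Step.L (Step.D (nat_lit 3229) (Step.D (nat_lit 5724) Step.done)))))))))))))))))))) (Scr.cons (nat_lit 11) (nat_lit 0) (Step.U (nat_lit 5725) (Step.L (Step.D (nat_lit 3229) (Step.D (nat_lit 5724) (Step.D (nat_lit 8834) Step.done))))) (Scr.cons (nat_lit 12) (nat_lit 4) (Step.U (nat_lit 1589) (Step.L (Step.L (Step.D (nat_lit 1589) (Step.D (nat_lit 3163) Step.done))))) (Scr.cons (nat_lit 12) (nat_lit 1) (Step.U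 (nat_lit 5605) (Step.F (nat_lit 5620) (Step.D (nat_lit 3163) (Step.D (nat_lit 5605) (Step.D (nat_lit 8697) Step.done))))) (Scr.cons (nat_lit 6) (nat_lit 1) (Step.L (Step.L (Step.L (Step.L (Step.L (Step.L (Step.L (Step.L (Step.L (Step.D (nat_lit 3117) (Step.D (nat_lit 5542) Step.done))))))))))) (Scr.cons (nat_lit 12) (nat_lit 1) (Step.U (nat_lit 5725) (Step.B (nat_lit 5622) (Step.F (nat_lit 3552) (Step.D (nat_lit 5725) (Step.D (nat_lit 8835) Step.done))))) (Scr.cons (nat_lit 13) (nat_lit 3) (Step.U (nat_lit 5605) (Step.U (nat_lit 3163) (Step.U (nat_lit 1589) (Step.L (Step.L (Step.L (Step.D (nat_lit 3164) (Step.D (nat_lit 5608) (Step.F (nat_lit 3559) (Step.F (nat_lit 5622) (Step.D (nat_lit 5725) (Step.D (nat_lit 8835) Step.done)))))))))))) (Scr.cons (nat_lit 0) (nat_lit 1) (Step.B (nat_lit 5623) (Step.F (nat_lit 5624) (Step.D (nat_lit 8697) Step.done))) (Scr.cons (nat_lit 0) (nat_lit 0) (Step.B (nat_lit 5621) (Step.F (nat_lit 5625) Step.done)) (Scr.cons (nat_lit 14) (nat_lit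 0) (Step.F (nat_lit 5616) (Step.U (nat_lit 8632) (Step.L (Step.L (Step.L (Step.L (Step.L (Step.L (Step.L (Step.L (Step.L (Step.L (Step.D (nat_lit 8635) (Step.B (nat_lit 5618) (Step.D (nat_lit 8834) (Step.F (nat_lit 5619) (Step.F (nat_lit 5626) (Step.U (nat_lit 5605) (Step.D (nat_lit 5604) (Step.D (nat_lit 8696) Step.done)))))))))))))))))))) (Scr.cons (nat_lit 13) (nat_lit 3) (Step.L (Step.L (Step.D (nat_lit 8256) (Step.F (nat_lit 5615) (Step.D (nat_lit 8696) (Step.F (nat_lit 5627) (Step.U (nat_lit 9569) (Step.L (Step.L (Step.L (Step.L (Step.D (nat_lit 11047) Step.done)))))))))))) (Scr.cons (nat_lit 0) (nat_lit 1) (Step.B (nat_lit 5613) (Step.F (nat_lit 5628) (Step.D (nat_lit 8257) Step.done))) (Scr.cons (nat_lit 0) (nat_lit 0) (Step.B (nat_lit 5612) (Step.F (nat_lit 5629) Step.done)) (Scr.cons (nat_lit 12) (nat_lit 4) (Step.L (Step.L (Step.L (Step.L (Step.D (nat_lit 8242) Step.done))))) (Scr.cons (nat_lit 12) (nat_lit 4) (Step.L (Step.D (nat_lit 8242) (Step.F (nat_lit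 5631) (Step.L (Step.L Step.done))))) (Scr.cons (nat_lit 12) (nat_lit 1) (Step.L (Step.L (Step.L (Step.L (Step.D (nat_lit 9668) Step.done))))) (Scr.cons (nat_lit 12) (nat_lit 1) (Step.L (Step.L (Step.L (Step.L (Step.D (nat_lit 11202) Step.done))))) (Scr.cons (nat_lit 11) (nat_lit 0) (Step.L (Step.L (Step.L (Step.D (nat_lit 6524) (Step.D (nat_lit 9667) Step.done))))) (Scr.cons (nat_lit 12) (nat_lit 1) (Step.L (Step.L (Step.L (Step.L (Step.D (nat_lit 2890) Step.done))))) (Scr.cons (nat_lit 12) (nat_lit 1) (Step.U (nat_lit 5221) (Step.F (nat_lit 5636) (Step.D (nat_lit 2890) (Step.D (nat_lit 5221) (Step.D (nat_lit 8251) Step.done))))) (Scr.cons (nat_lit 12) (nat_lit 1) (Step.U (nat_lit 8252) (Step.D (nat_lit 8251) (Step.F (nat_lit 5637) (Step.D (nat_lit 8252) (Step.D (nat_lit 11204) Step.done))))) (Scr.cons (nat_lit 12) (nat_lit 1) (Step.U (nat_lit 3195) (Step.L (Step.L (Step.D (nat_lit 3195) (Step.D (nat_lit 5655) Step.done))))) (Scr.cons (nat_lit 16) (nat_lit 5) (Step.F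 (nat_lit 5639) (Step.U (nat_lit 3195) (Step.L (Step.L (Step.L (Step.L (Step.L (Step.L (Step.L (Step.L (Step.L (Step.L (Step.L (Step.L (Step.L (Step.L (Step.L (Step.L (Step.L (Step.L (Step.D (nat_lit 2890) (Step.D (nat_lit 5220) (Step.D (nat_lit 8250) Step.done))))))))))))))))))))))) (Scr.cons (nat_lit 4) (nat_lit 0) (Step.B (nat_lit 5640) (Step.U (nat_lit 8250) (Step.U (nat_lit 5220) (Step.D (nat_lit 5221) (Step.D (nat_lit 8252) Step.done))))) (Scr.cons (nat_lit 6) (nat_lit 0) (Step.U (nat_lit 8756) (Step.L (Step.L (Step.L (Step.L (Step.L (Step.L (Step.D (nat_lit 3195) (Step.B (nat_lit 5639) (Step.B (nat_lit 5641) (Step.D (nat_lit 11204) Step.done))))))))))) Scr.nil))))))))))))))))))))))))))))))))))))))))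
noncomputable def s141 : Scr := (Scr.cons (nat_lit 9) (nat_lit 3) (Step.U (nat_lit 11203) (Step.U (nat_lit 8249) (Step.U (nat_lit 5220) (Step.D (nat_lit 5221) (Step.D (nat_lit 8252) (Step.B (nat_lit 5638) (Step.F (nat_lit 5642) (Step.U (nat_lit 8756) (Step.L (Step.L (Step.L (Step.L (Step.L (Step.L (Step.L (Step.L (Step.L (Step.L (Step.L (Step.L (Step.L (Step.L (Step.B (nat_lit 5635) Step.done))))))))))))))))))))))) (Scr.cons (nat_lit 8) (nat_lit 0) (Step.B (nat_lit 5635) (Step.F (nat_lit 5643) (Step.U (nat_lit 11203) (Step.U (nat_lit 8249) (Step.U (nat_lit 5220) (Step.U (nat_lit 2890) (Step.L (Step.L (Step.L (Step.L (Step.L (Step.L (Step.L (Step.L (Step.L (Step.B (nat_lit 5634) Step.done)))))))))))))))) (Scr.cons (nat_lit 0) (nat_lit 1) (Step.B (nat_lit 5634) (Step.F (nat_lit 5644) (Step.D (nat_lit 9668) Step.done))) (Scr.cons (nat_lit 0) (nat_lit 0) (Step.B (nat_lit 5633) (Step.F (nat_lit 5645) Step.done)) (Scr.cons (nat_lit 12) (nat_lit 4) (Step.U (nat_lit 8207) (Step.L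 (Step.L (Step.D (nat_lit 8207) (Step.D (nat_lit 11178) Step.done))))) (Scr.cons (nat_lit 6) (nat_lit 0) (Step.U (nat_lit 8208) (Step.L (Step.L (Step.L (Step.L (Step.L (Step.L (Step.L (Step.B (nat_lit 5636) (Step.D (nat_lit 5220) (Step.D (nat_lit 8249) Step.done))))))))))) (Scr.cons (nat_lit 11) (nat_lit 0) (Step.L (Step.L (Step.L (Step.D (nat_lit 8207) (Step.D (nat_lit 11179) Step.done))))) (Scr.cons (nat_lit 7) (nat_lit 4) (Step.L (Step.L (Step.L (Step.L (Step.L (Step.L (Step.L (Step.L (Step.L (Step.L (Step.L (Step.L (Step.B (nat_lit 5635) (Step.F (nat_lit 5643) (Step.U (nat_lit 11203) (Step.F (nat_lit 5648) (Step.F (nat_lit 1659) (Step.L (Step.B (nat_lit 5649) (Step.U (nat_lit 11179) (Step.B (nat_lit 5647) Step.done))))))))))))))))))))) (Scr.cons (nat_lit 0) (nat_lit 1) (Step.B (nat_lit 5647) (Step.F (nat_lit 5650) (Step.L Step.done))) (Scr.cons (nat_lit 1) (nat_lit 0) (Step.D (nat_lit 8207) (Step.B (nat_lit 5651) (Step.D (nat_lit 6859) Step.done))) (Scr.cons (nat_lit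 1) (nat_lit 0) (Step.D (nat_lit 6859) (Step.F (nat_lit 5652) Step.done)) (Scr.cons (nat_lit 12) (nat_lit 4) (Step.L (Step.L (Step.L (Step.L (Step.D (nat_lit 8270) Step.done))))) (Scr.cons (nat_lit 12) (nat_lit 4) (Step.L (Step.D (nat_lit 8270) (Step.F (nat_lit 5654) (Step.L (Step.L Step.done))))) (Scr.cons (nat_lit 12) (nat_lit 4) (Step.L (Step.L (Step.L (Step.L (Step.D (nat_lit 8277) Step.done))))) (Scr.cons (nat_lit 12) (nat_lit 4) (Step.L (Step.D (nat_lit 8277) (Step.F (nat_lit 5656) (Step.L (Step.L Step.done))))) (Scr.cons (nat_lit 11) (nat_lit 0) (Step.L (Step.L (Step.D (nat_lit 616) (Step.D (nat_lit 1462) (Step.D (nat_lit 2952) Step.done))))) (Scr.cons (nat_lit 12) (nat_lit 1) (Step.U (nat_lit 213) (Step.L (Step.L (Step.D (nat_lit 213) (Step.D (nat_lit 593) Step.done))))) (Scr.cons (nat_lit 6) (nat_lit 3) (Step.U (nat_lit 616) (Step.L (Step.L (Step.L (Step.L (Step.L (Step.L (Step.L (Step.D (nat_lit 213) (Step.B (nat_lit 5659) (Step.D (nat_lit 1425) Step.done)))))))))))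 (Scr.cons (nat_lit 11) (nat_lit 0) (Step.U (nat_lit 213) (Step.L (Step.L (Step.L (Step.D (nat_lit 592) Step.done))))) (Scr.cons (nat_lit 9) (nat_lit 2) (Step.L (Step.L (Step.L (Step.B (nat_lit 5658) (Step.U (nat_lit 2952) (Step.U (nat_lit 1462) (Step.B (nat_lit 5660) (Step.U (nat_lit 1425) (Step.U (nat_lit 593) (Step.B (nat_lit 5661) (Step.U (nat_lit 592) (Step.L (Step.L (Step.L (Step.L (Step.L (Step.L (Step.L (Step.L (Step.L (Step.L (Step.L (Step.L Step.done))))))))))))))))))))))) (Scr.cons (nat_lit 12) (nat_lit 4) (Step.L (Step.L (Step.L (Step.L (Step.D (nat_lit 8287) Step.done))))) (Scr.cons (nat_lit 12) (nat_lit 4) (Step.L (Step.D (nat_lit 8287) (Step.F (nat_lit 5663) (Step.L (Step.L Step.done))))) (Scr.cons (nat_lit 12) (nat_lit 1) (Step.U (nat_lit 8255) (Step.L (Step.L (Step.D (nat_lit 8255) (Step.D (nat_lit 11207) Step.done))))) (Scr.cons (nat_lit 11) (nat_lit 0) (Step.U (nat_lit 8260) (Step.U (nat_lit 5225) (Step.D (nat_lit 5224) (Step.D (nat_lit 8259) (Step.D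 (nat_lit 11209) Step.done))))) (Scr.cons (nat_lit 7) (nat_lit 2) (Step.U (nat_lit 8594) (Step.U (nat_lit 5507) (Step.L (Step.L (Step.L (Step.L (Step.L (Step.L (Step.L (Step.L (Step.L (Step.L (Step.L (Step.L (Step.L (Step.L (Step.L (Step.D (nat_lit 5190) (Step.D (nat_lit 8205) (Step.D (nat_lit 11177) Step.done)))))))))))))))))))) (Scr.cons (nat_lit 13) (nat_lit 0) (Step.U (nat_lit 4481) (Step.L (Step.L (Step.L (Step.L (Step.L (Step.L (Step.L (Step.D (nat_lit 2403) (Step.D (nat_lit 4473) (Step.D (nat_lit 7404) Step.done))))))))))) (Scr.cons (nat_lit 11) (nat_lit 0) (Step.L (Step.L (Step.L (Step.L (Step.D (nat_lit 5189) Step.done))))) (Scr.cons (nat_lit 12) (nat_lit 1) (Step.L (Step.L (Step.L (Step.L (Step.D (nat_lit 5190) Step.done))))) (Scr.cons (nat_lit 12) (nat_lit 1) (Step.F (nat_lit 5669) (Step.D (nat_lit 5190) (Step.F (nat_lit 5670) (Step.B (nat_lit 5669) (Step.D (nat_lit 8204) Step.done))))) (Scr.cons (nat_lit 9) (nat_lit 5) (Step.U (nat_lit 8227) (Step.U (nat_lit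 5203) (Step.L (Step.L (Step.L (Step.L (Step.L (Step.L (Step.L (Step.L (Step.L (Step.L (Step.L (Step.L (Step.L (Step.L (Step.L (Step.L (Step.L (Step.L (Step.B (nat_lit 5669) (Step.B (nat_lit 5671) (Step.D (nat_lit 11175) Step.done))))))))))))))))))))))) (Scr.cons (nat_lit 14) (nat_lit 4) (Step.U (nat_lit 10476) (Step.U (nat_lit 7416) (Step.L (Step.L (Step.L (Step.L (Step.L (Step.L (Step.L (Step.L (Step.L (Step.L (Step.L (Step.L (Step.L (Step.L (Step.B (nat_lit 3976) (Step.D (nat_lit 4495) (Step.D (nat_lit 7429) (Step.D (nat_lit 10486) Step.done)))))))))))))))))))) (Scr.cons (nat_lit 1) (nat_lit 0) (Step.D (nat_lit 10487) (Step.F (nat_lit 3979) (Step.L Step.done))) (Scr.cons (nat_lit 0) (nat_lit 1) (Step.U (nat_lit 10486) (Step.B (nat_lit 5674) (Step.L Step.done))) (Scr.cons (nat_lit 1) (nat_lit 1) (Step.B (nat_lit 5673) (Step.B (nat_lit 5675) (Step.L Step.done))) (Scr.cons (nat_lit 1) (nat_lit 1) (Step.D (nat_lit 10476) (Step.B (nat_lit 5676) (Step.D (nat_lit 5203) Step.done)))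 (Scr.cons (nat_lit 1) (nat_lit 1) (Step.D (nat_lit 7416) (Step.B (nat_lit 5677) (Step.D (nat_lit 8227) Step.done))) (Scr.cons (nat_lit 0) (nat_lit 1) (Step.F (nat_lit 5672) (Step.F (nat_lit 5678) (Step.L Step.done))) (Scr.cons (nat_lit 1) (nat_lit 1) (Step.D (nat_lit 11175) (Step.B (nat_lit 5679) (Step.L Step.done))) (Scr.cons (nat_lit 0) (nat_lit 1) (Step.B (nat_lit 5671) (Step.B (nat_lit 5680) (Step.L Step.done))) (Scr.cons (nat_lit 1) (nat_lit 1) (Step.B (nat_lit 5669) (Step.B (nat_lit 5681) (Step.D (nat_lit 4481) Step.done))) Scr.nil))))))))))))))))))))))))))))))))))))))))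
noncomputable def s142 : Scr := (Scr.cons (nat_lit 0) (nat_lit 1) (Step.F (nat_lit 5668) (Step.F (nat_lit 5682) (Step.D (nat_lit 5190) Step.done))) (Scr.cons (nat_lit 1) (nat_lit 0) (Step.D (nat_lit 7404) (Step.B (nat_lit 5683) (Step.D (nat_lit 8205) Step.done))) (Scr.cons (nat_lit 1) (nat_lit 0) (Step.U (nat_lit 11177) (Step.F (nat_lit 5684) (Step.D (nat_lit 7405) Step.done))) (Scr.cons (nat_lit 1) (nat_lit 0) (Step.B (nat_lit 5667) (Step.B (nat_lit 5685) (Step.D (nat_lit 10467) Step.done))) (Scr.cons (nat_lit 1) (nat_lit 0) (Step.D (nat_lit 10467) (Step.F (nat_lit 5686) Step.done)) (Scr.cons (nat_lit 12) (nat_lit 4) (Step.U (nat_lit 4514) (Step.L (Step.L (Step.D (nat_lit 4514) (Step.D (nat_lit 7454) Step.done))))) (Scr.cons (nat_lit 12) (nat_lit 4) (Step.L (Step.L (Step.L (Step.L (Step.D (nat_lit 4512) Step.done))))) (Scr.cons (nat_lit 13) (nat_lit 3) (Step.U (nat_lit 7454) (Step.U (nat_lit 4514) (Step.L (Step.L (Step.L (Step.L (Step.L (Step.L (Step.B (nat_lit 5689)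 (Step.D (nat_lit 7450) (Step.D (nat_lit 10503) Step.done))))))))))) (Scr.cons (nat_lit 1) (nat_lit 0) (Step.D (nat_lit 8261) (Step.F (nat_lit 4048) (Step.U (nat_lit 4513) Step.done))) (Scr.cons (nat_lit 0) (nat_lit 1) (Step.B (nat_lit 3995) (Step.B (nat_lit 5691) (Step.D (nat_lit 4512) Step.done))) (Scr.cons (nat_lit 1) (nat_lit 0) (Step.U (nat_lit 7450) (Step.F (nat_lit 5692) (Step.L Step.done))) (Scr.cons (nat_lit 0) (nat_lit 1) (Step.U (nat_lit 10503) (Step.B (nat_lit 5693) (Step.L Step.done))) (Scr.cons (nat_lit 1) (nat_lit 1) (Step.B (nat_lit 5690) (Step.B (nat_lit 5694) (Step.D (nat_lit 5224) Step.done))) (Scr.cons (nat_lit 0) (nat_lit 1) (Step.B (nat_lit 5688) (Step.B (nat_lit 5695) (Step.D (nat_lit 8258) Step.done))) (Scr.cons (nat_lit 0) (nat_lit 1) (Step.D (nat_lit 8258) (Step.F (nat_lit 5696) Step.done)) (Scr.cons (nat_lit 12) (nat_lit 4) (Step.U (nat_lit 5224) (Step.L (Step.L (Step.D (nat_lit 5224) (Step.D (nat_lit 8258) Step.done))))) (Scr.cons (nat_lit 0)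 (nat_lit 0) (Step.B (nat_lit 5698) (Step.F (nat_lit 5696) Step.done)) (Scr.cons (nat_lit 12) (nat_lit 4) (Step.U (nat_lit 8259) (Step.B (nat_lit 5697) (Step.F (nat_lit 5699) (Step.D (nat_lit 8259) (Step.D (nat_lit 11208) Step.done))))) (Scr.cons (nat_lit 11) (nat_lit 0) (Step.U (nat_lit 5508) (Step.L (Step.L (Step.D (nat_lit 5507) (Step.D (nat_lit 8595) Step.done))))) (Scr.cons (nat_lit 4) (nat_lit 0) (Step.L (Step.L (Step.L (Step.D (nat_lit 5448) (Step.D (nat_lit 8533) Step.done))))) (Scr.cons (nat_lit 12) (nat_lit 1) (Step.L (Step.L (Step.L (Step.L (Step.D (nat_lit 1505) Step.done))))) (Scr.cons (nat_lit 13) (nat_lit 3) (Step.U (nat_lit 5451) (Step.U (nat_lit 3029) (Step.F (nat_lit 5703) (Step.L (Step.L (Step.L (Step.L (Step.L (Step.L (Step.D (nat_lit 5448) (Step.D (nat_lit 8532) Step.done))))))))))) (Scr.cons (nat_lit 12) (nat_lit 4) (Step.U (nat_lit 3029) (Step.F (nat_lit 5703) (Step.D (nat_lit 1505) (Step.D (nat_lit 3029) (Step.D (nat_lit 5451) Step.done))))) (Scr.cons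 (nat_lit 12) (nat_lit 1) (Step.U (nat_lit 3030) (Step.F (nat_lit 5703) (Step.D (nat_lit 1505) (Step.D (nat_lit 3030) (Step.D (nat_lit 5452) Step.done))))) (Scr.cons (nat_lit 12) (nat_lit 1) (Step.U (nat_lit 5453) (Step.D (nat_lit 5452) (Step.F (nat_lit 5706) (Step.D (nat_lit 5453) (Step.D (nat_lit 8539) Step.done))))) (Scr.cons (nat_lit 12) (nat_lit 1) (Step.U (nat_lit 3408) (Step.L (Step.L (Step.D (nat_lit 3408) (Step.D (nat_lit 6017) Step.done))))) (Scr.cons (nat_lit 8) (nat_lit 1) (Step.L (Step.L (Step.L (Step.L (Step.L (Step.L (Step.L (Step.L (Step.L (Step.L (Step.L (Step.B (nat_lit 5703) (Step.D (nat_lit 3030) (Step.B (nat_lit 5706) (Step.D (nat_lit 8538) Step.done))))))))))))))) (Scr.cons (nat_lit 12) (nat_lit 0) (Step.B (nat_lit 5709) (Step.U (nat_lit 8538) (Step.F (nat_lit 5706) (Step.D (nat_lit 5452) (Step.D (nat_lit 8538) Step.done))))) (Scr.cons (nat_lit 12) (nat_lit 4) (Step.L (Step.L (Step.L (Step.L (Step.D (nat_lit 5581) Step.done))))) (Scr.cons (nat_lit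 11) (nat_lit 0) (Step.U (nat_lit 2657) (Step.U (nat_lit 1296) (Step.D (nat_lit 1295) (Step.D (nat_lit 2655) (Step.D (nat_lit 4863) Step.done))))) (Scr.cons (nat_lit 12) (nat_lit 1) (Step.L (Step.L (Step.L (Step.L (Step.D (nat_lit 527) Step.done))))) (Scr.cons (nat_lit 12) (nat_lit 1) (Step.U (nat_lit 1296) (Step.F (nat_lit 5713) (Step.D (nat_lit 527) (Step.D (nat_lit 1296) (Step.D (nat_lit 2656) Step.done))))) (Scr.cons (nat_lit 12) (nat_lit 1) (Step.U (nat_lit 2657) (Step.D (nat_lit 2656) (Step.F (nat_lit 5714) (Step.D (nat_lit 2657) (Step.D (nat_lit 4865) Step.done))))) (Scr.cons (nat_lit 12) (nat_lit 1) (Step.F (nat_lit 5712) (Step.D (nat_lit 4865) (Step.F (nat_lit 5715) (Step.B (nat_lit 5712) (Step.D (nat_lit 7852) Step.done))))) (Scr.cons (nat_lit 12) (nat_lit 1) (Step.U (nat_lit 1701) (Step.F (nat_lit 2789) (Step.D (nat_lit 739) (Step.D (nat_lit 1701) (Step.D (nat_lit 3373) Step.done))))) (Scr.cons (nat_lit 12) (nat_lit 1) (Step.U (nat_lit 5969) (Step.F (nat_lit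 5717) (Step.D (nat_lit 3373) (Step.D (nat_lit 5969) (Step.D (nat_lit 9132) Step.done))))) (Scr.cons (nat_lit 11) (nat_lit 0) (Step.U (nat_lit 769) (Step.U (nat_lit 278) (Step.D (nat_lit 277) (Step.D (nat_lit 767) (Step.D (nat_lit 1740) Step.done))))) (Scr.cons (nat_lit 12) (nat_lit 1) (Step.U (nat_lit 278) (Step.F (nat_lit 2792) (Step.D (nat_lit 85) (Step.D (nat_lit 278) (Step.D (nat_lit 768) Step.done))))) (Scr.cons (nat_lit 12) (nat_lit 1) (Step.U (nat_lit 769) (Step.D (nat_lit 768) (Step.F (nat_lit 5720) (Step.D (nat_lit 769) (Step.D (nat_lit 1741) Step.done))))) (Scr.cons (nat_lit 12) (nat_lit 1) (Step.F (nat_lit 5719) (Step.D (nat_lit 1741) (Step.F (nat_lit 5721) (Step.B (nat_lit 5719) (Step.D (nat_lit 3422) Step.done))))) Scr.nil))))))))))))))))))))))))))))))))))))))))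
noncomputable def s143 : Scr := (Scr.cons (nat_lit 12) (nat_lit 1) (Step.U (nat_lit 271) (Step.L (Step.L (Step.D (nat_lit 271) (Step.D (nat_lit 753) Step.done))))) (Scr.cons (nat_lit 12) (nat_lit 1) (Step.F (nat_lit 2378) (Step.D (nat_lit 753) (Step.F (nat_lit 5723) (Step.B (nat_lit 2378) (Step.D (nat_lit 1718) Step.done))))) (Scr.cons (nat_lit 14) (nat_lit 2) (Step.F (nat_lit 5722) (Step.F (nat_lit 5719) (Step.U (nat_lit 769) (Step.U (nat_lit 278) (Step.U (nat_lit 85) (Step.U (nat_lit 19) (Step.U (nat_lit 1) (Step.L (Step.L (Step.L (Step.L (Step.L (Step.L (Step.L (Step.L (Step.L (Step.D (nat_lit 270) (Step.D (nat_lit 752) (Step.B (nat_lit 5724) (Step.D (nat_lit 3397) Step.done)))))))))))))))))))) (Scr.cons (nat_lit 11) (nat_lit 0) (Step.L (Step.L (Step.L (Step.L (Step.D (nat_lit 1681) Step.done))))) (Scr.cons (nat_lit 7) (nat_lit 0) (Step.U (nat_lit 1716) (Step.U (nat_lit 749) (Step.U (nat_lit 269) (Step.L (Step.L (Step.L (Step.L (Step.L (Step.L (Step.L (Step.L (Step.L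 (Step.L (Step.L (Step.L (Step.L (Step.L (Step.L (Step.B (nat_lit 5726) (Step.D (nat_lit 3340) Step.done)))))))))))))))))))) (Scr.cons (nat_lit 4) (nat_lit 0) (Step.F (nat_lit 5727) (Step.U (nat_lit 1716) (Step.U (nat_lit 749) (Step.D (nat_lit 750) (Step.D (nat_lit 1717) Step.done))))) (Scr.cons (nat_lit 11) (nat_lit 0) (Step.U (nat_lit 3339) (Step.U (nat_lit 1680) (Step.D (nat_lit 1679) (Step.D (nat_lit 3338) (Step.F (nat_lit 2592) Step.done))))) (Scr.cons (nat_lit 7) (nat_lit 0) (Step.B (nat_lit 5725) (Step.U (nat_lit 3397) (Step.U (nat_lit 1718) (Step.U (nat_lit 752) (Step.U (nat_lit 270) (Step.D (nat_lit 269) (Step.D (nat_lit 750) (Step.D (nat_lit 1717) (Step.F (nat_lit 5728) (Step.U (nat_lit 3340) (Step.U (nat_lit 1681) (Step.L (Step.D (nat_lit 720) (Step.D (nat_lit 1680) (Step.D (nat_lit 3339) (Step.B (nat_lit 5729) (Step.U (nat_lit 4650) (Step.U (nat_lit 2518) (Step.D (nat_lit 2519) (Step.D (nat_lit 4652) Step.done)))))))))))))))))))) (Scr.cons (nat_lit 12) (nat_lit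 1) (Step.U (nat_lit 2519) (Step.F (nat_lit 2588) (Step.D (nat_lit 1214) (Step.D (nat_lit 2519) (Step.D (nat_lit 4652) Step.done))))) (Scr.cons (nat_lit 16) (nat_lit 5) (Step.F (nat_lit 5718) (Step.U (nat_lit 5969) (Step.F (nat_lit 5717) (Step.U (nat_lit 1701) (Step.B (nat_lit 2794) (Step.U (nat_lit 766) (Step.F (nat_lit 2793) (Step.F (nat_lit 2790) (Step.D (nat_lit 85) (Step.D (nat_lit 277) (Step.D (nat_lit 767) (Step.D (nat_lit 1740) (Step.D (nat_lit 3422) (Step.B (nat_lit 5730) (Step.F (nat_lit 5731) (Step.U (nat_lit 2519) (Step.D (nat_lit 2518) (Step.D (nat_lit 4651) (Step.F (nat_lit 2591) (Step.F (nat_lit 2590) (Step.D (nat_lit 2585) (Step.D (nat_lit 4752) (Step.D (nat_lit 7727) Step.done))))))))))))))))))))))) (Scr.cons (nat_lit 11) (nat_lit 0) (Step.U (nat_lit 7728) (Step.U (nat_lit 4753) (Step.D (nat_lit 4752) (Step.D (nat_lit 7727) (Step.F (nat_lit 5732) Step.done))))) (Scr.cons (nat_lit 7) (nat_lit 5) (Step.F (nat_lit 5716) (Step.U (nat_lit 4863) (Step.U (nat_lit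 2655) (Step.U (nat_lit 1295) (Step.U (nat_lit 527) (Step.L (Step.L (Step.L (Step.B (nat_lit 159) (Step.U (nat_lit 508) (Step.U (nat_lit 175) (Step.B (nat_lit 155) (Step.D (nat_lit 507) (Step.D (nat_lit 1260) (Step.D (nat_lit 2585) (Step.D (nat_lit 4753) (Step.D (nat_lit 7728) (Step.B (nat_lit 5733) (Step.U (nat_lit 9132) (Step.D (nat_lit 9133) Step.done)))))))))))))))))))) (Scr.cons (nat_lit 11) (nat_lit 0) (Step.B (nat_lit 5734) (Step.U (nat_lit 9133) (Step.U (nat_lit 5969) (Step.D (nat_lit 5968) (Step.D (nat_lit 9131) Step.done))))) (Scr.cons (nat_lit 12) (nat_lit 1) (Step.U (nat_lit 507) (Step.F (nat_lit 155) (Step.D (nat_lit 174) (Step.D (nat_lit 507) (Step.D (nat_lit 1259) Step.done))))) (Scr.cons (nat_lit 12) (nat_lit 4) (Step.U (nat_lit 1218) (Step.L (Step.L (Step.D (nat_lit 1218) (Step.D (nat_lit 2521) Step.done))))) (Scr.cons (nat_lit 13) (nat_lit 2) (Step.U (nat_lit 4657) (Step.U (nat_lit 2521) (Step.U (nat_lit 1218) (Step.L (Step.L (Step.B (nat_lit 1736) (Step.D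 (nat_lit 273) (Step.D (nat_lit 762) (Step.D (nat_lit 1735) (Step.B (nat_lit 2487) (Step.D (nat_lit 6030) Step.done))))))))))) (Scr.cons (nat_lit 0) (nat_lit 1) (Step.B (nat_lit 5738) (Step.B (nat_lit 2522) (Step.L Step.done))) (Scr.cons (nat_lit 1) (nat_lit 1) (Step.D (nat_lit 4657) (Step.B (nat_lit 5739) (Step.L Step.done))) (Scr.cons (nat_lit 0) (nat_lit 1) (Step.B (nat_lit 5737) (Step.B (nat_lit 5740) (Step.L Step.done))) (Scr.cons (nat_lit 13) (nat_lit 3) (Step.L (Step.L (Step.L (Step.L (Step.L (Step.L (Step.L (Step.L (Step.B (nat_lit 155) (Step.D (nat_lit 507) (Step.D (nat_lit 1259) Step.done))))))))))) (Scr.cons (nat_lit 1) (nat_lit 0) (Step.D (nat_lit 1218) (Step.B (nat_lit 5741) (Step.B (nat_lit 5742) Step.done))) (Scr.cons (nat_lit 0) (nat_lit 1) (Step.B (nat_lit 5736) (Step.F (nat_lit 5743) (Step.L Step.done))) (Scr.cons (nat_lit 1) (nat_lit 0) (Step.U (nat_lit 1260) (Step.B (nat_lit 5744) (Step.L Step.done))) (Scr.cons (nat_lit 0) (nat_lit 1) (Step.U (nat_lit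 2585) (Step.B (nat_lit 5745) (Step.L Step.done))) (Scr.cons (nat_lit 1) (nat_lit 1) (Step.U (nat_lit 4752) (Step.B (nat_lit 5746) (Step.L Step.done))) (Scr.cons (nat_lit 1) (nat_lit 1) (Step.U (nat_lit 7727) (Step.B (nat_lit 5747) (Step.L Step.done))) (Scr.cons (nat_lit 1) (nat_lit 1) (Step.B (nat_lit 5732) (Step.B (nat_lit 5748) (Step.L Step.done))) (Scr.cons (nat_lit 0) (nat_lit 1) (Step.B (nat_lit 5718) (Step.B (nat_lit 5749) (Step.L Step.done))) (Scr.cons (nat_lit 1) (nat_lit 1) (Step.D (nat_lit 5969) (Step.B (nat_lit 5750) (Step.L Step.done))) (Scr.cons (nat_lit 1) (nat_lit 1) (Step.U (nat_lit 5968) (Step.B (nat_lit 5751) (Step.L Step.done))) (Scr.cons (nat_lit 1) (nat_lit 1) (Step.U (nat_lit 9131) (Step.B (nat_lit 5752) (Step.D (nat_lit 5924) Step.done))) (Scr.cons (nat_lit 1) (nat_lit 0) (Step.B (nat_lit 5735) (Step.B (nat_lit 5753) Step.done)) (Scr.cons (nat_lit 12) (nat_lit 4) (Step.U (nat_lit 4864) (Step.F (nat_lit 5714) (Step.D (nat_lit 2656) (Step.D (nat_lit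 4864) (Step.D (nat_lit 7853) Step.done))))) (Scr.cons (nat_lit 6) (nat_lit 1) (Step.U (nat_lit 7854) (Step.L (Step.L (Step.L (Step.L (Step.D (nat_lit 527) (Step.D (nat_lit 1296) (Step.B (nat_lit 5714) (Step.D (nat_lit 4864) (Step.D (nat_lit 7853) (Step.D (nat_lit 10846) Step.done))))))))))) (Scr.cons (nat_lit 12) (nat_lit 4) (Step.L (Step.L (Step.L (Step.L (Step.D (nat_lit 1177) Step.done))))) (Scr.cons (nat_lit 13) (nat_lit 3) (Step.U (nat_lit 4545) (Step.U (nat_lit 2443) (Step.F (nat_lit 5757) (Step.L (Step.L (Step.L (Step.L (Step.L (Step.L (Step.L (Step.D (nat_lit 5932) Step.done))))))))))) (Scr.cons (nat_lit 8) (nat_lit 1) (Step.U (nat_lit 5933) (Step.U (nat_lit 3353) (Step.L (Step.L (Step.L (Step.L (Step.L (Step.L (Step.L (Step.L (Step.L (Step.L (Step.L (Step.B (nat_lit 1051) (Step.D (nat_lit 9093) Step.done))))))))))))))) (Scr.cons (nat_lit 12) (nat_lit 4) (Step.L (Step.L (Step.L (Step.L (Step.D (nat_lit 3353) Step.done))))) (Scr.cons (nat_lit 12) (nat_lit 1) (Step.L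 (Step.L (Step.L (Step.L (Step.D (nat_lit 5934) Step.done))))) (Scr.cons (nat_lit 8) (nat_lit 1) (Step.U (nat_lit 8921) (Step.L (Step.L (Step.L (Step.L (Step.L (Step.L (Step.L (Step.L (Step.L (Step.L (Step.L (Step.L (Step.B (nat_lit 5761) (Step.D (nat_lit 9094) Step.done))))))))))))))) Scr.nil))))))))))))))))))))))))))))))))))))))))
noncomputable def s144 : Scr := (Scr.cons (nat_lit 12) (nat_lit 4) (Step.U (nat_lit 8921) (Step.L (Step.L (Step.D (nat_lit 8921) (Step.B (nat_lit 5762) Step.done))))) (Scr.cons (nat_lit 12) (nat_lit 1) (Step.L (Step.L (Step.L (Step.L (Step.D (nat_lit 8922) Step.done))))) (Scr.cons (nat_lit 15) (nat_lit 1) (Step.F (nat_lit 5764) (Step.L (Step.L (Step.L (Step.L (Step.F (nat_lit 161) (Step.F (nat_lit 160) (Step.F (nat_lit 159) (Step.L (Step.L (Step.L (Step.L (Step.L (Step.L (Step.D (nat_lit 10847) Step.done))))))))))))))) (Scr.cons (nat_lit 12) (nat_lit 4) (Step.L (Step.L (Step.L (Step.L (Step.D (nat_lit 10847) Step.done))))) (Scr.cons (nat_lit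 13) (nat_lit 0) (Step.F (nat_lit 5759) (Step.U (nat_lit 5933) (Step.F (nat_lit 5760) (Step.L (Step.B (nat_lit 5761) (Step.D (nat_lit 9094) (Step.F (nat_lit 5763) (Step.F (nat_lit 3758) (Step.B (nat_lit 5764) (Step.B (nat_lit 5765) (Step.F (nat_lit 5766) (Step.D (nat_lit 10848) Step.done)))))))))))) (Scr.cons (nat_lit 1) (nat_lit 1) (Step.D (nat_lit 10848) (Step.F (nat_lit 5767) Step.done)) (Scr.cons (nat_lit 4) (nat_lit 0) (Step.B (nat_lit 5758) (Step.D (nat_lit 9093) (Step.F (nat_lit 5768) (Step.L (Step.D (nat_lit 7854) (Step.D (nat_lit 10849) Step.done)))))) (Scr.cons (nat_lit 1) (nat_lit 1) (Step.D (nat_lit 10849) (Step.F (nat_lit 5769) (Step.D (nat_lit 7492) Step.done))) (Scr.cons (nat_lit 12) (nat_lit 1) (Step.L (Step.L (Step.L (Step.L (Step.D (nat_lit 8557) Step.done))))) (Scr.cons (nat_lit 12) (nat_lit 1) (Step.U (nat_lit 1170) (Step.L (Step.L (Step.D (nat_lit 1170) (Step.D (nat_lit 2432) Step.done))))) (Scr.cons (nat_lit 12) (nat_lit 1) (Step.U (nat_lit 4529)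 (Step.F (nat_lit 5772) (Step.D (nat_lit 2432) (Step.D (nat_lit 4529) (Step.D (nat_lit 7477) Step.done))))) (Scr.cons (nat_lit 8) (nat_lit 1) (Step.U (nat_lit 7492) (Step.U (nat_lit 4545) (Step.U (nat_lit 2443) (Step.U (nat_lit 1177) (Step.L (Step.L (Step.L (Step.L (Step.L (Step.L (Step.D (nat_lit 1170) (Step.B (nat_lit 5772) (Step.D (nat_lit 4529) (Step.B (nat_lit 5773) (Step.D (nat_lit 10526) Step.done))))))))))))))) (Scr.cons (nat_lit 12) (nat_lit 0) (Step.B (nat_lit 5774) (Step.U (nat_lit 10526) (Step.F (nat_lit 5773) (Step.D (nat_lit 7477) (Step.D (nat_lit 10526) Step.done))))) (Scr.cons (nat_lit 11) (nat_lit 0) (Step.U (nat_lit 2433) (Step.U (nat_lit 1170) (Step.D (nat_lit 1169) (Step.D (nat_lit 2431) (Step.D (nat_lit 4528) Step.done))))) (Scr.cons (nat_lit 12) (nat_lit 1) (Step.U (nat_lit 2433) (Step.D (nat_lit 2432) (Step.F (nat_lit 5772) (Step.D (nat_lit 2433) (Step.D (nat_lit 4530) Step.done))))) (Scr.cons (nat_lit 12) (nat_lit 1) (Step.F (nat_lit 5776) (Step.D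 (nat_lit 4530) (Step.F (nat_lit 5777) (Step.B (nat_lit 5776) (Step.D (nat_lit 7476) Step.done))))) (Scr.cons (nat_lit 11) (nat_lit 0) (Step.U (nat_lit 4540) (Step.U (nat_lit 2440) (Step.D (nat_lit 2439) (Step.D (nat_lit 4538) (Step.D (nat_lit 7484) Step.done))))) (Scr.cons (nat_lit 12) (nat_lit 4) (Step.U (nat_lit 157) (Step.F (nat_lit 2614) (Step.D (nat_lit 43) (Step.D (nat_lit 157) (Step.D (nat_lit 461) Step.done))))) (Scr.cons (nat_lit 12) (nat_lit 4) (Step.U (nat_lit 462) (Step.D (nat_lit 461) (Step.F (nat_lit 5780) (Step.D (nat_lit 462) (Step.D (nat_lit 1173) Step.done))))) (Scr.cons (nat_lit 12) (nat_lit 1) (Step.U (nat_lit 2440) (Step.F (nat_lit 5781) (Step.D (nat_lit 1173) (Step.D (nat_lit 2440) (Step.D (nat_lit 4539) Step.done))))) (Scr.cons (nat_lit 12) (nat_lit 1) (Step.U (nat_lit 4540) (Step.D (nat_lit 4539) (Step.F (nat_lit 5782) (Step.D (nat_lit 4540) (Step.D (nat_lit 7485) Step.done))))) (Scr.cons (nat_lit 12) (nat_lit 1) (Step.F (nat_lit 5779) (Step.D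 (nat_lit 7485) (Step.F (nat_lit 5783) (Step.B (nat_lit 5779) (Step.D (nat_lit 10535) Step.done))))) (Scr.cons (nat_lit 7) (nat_lit 5) (Step.F (nat_lit 5784) (Step.U (nat_lit 7484) (Step.U (nat_lit 4538) (Step.U (nat_lit 2439) (Step.U (nat_lit 1173) (Step.U (nat_lit 462) (Step.U (nat_lit 157) (Step.F (nat_lit 2614) (Step.L (Step.L (Step.L (Step.L (Step.L (Step.L (Step.L (Step.D (nat_lit 1170) (Step.D (nat_lit 2433) (Step.B (nat_lit 5776) (Step.B (nat_lit 5778) (Step.D (nat_lit 10525) Step.done)))))))))))))))))))) (Scr.cons (nat_lit 0) (nat_lit 1) (Step.U (nat_lit 1173) (Step.B (nat_lit 2657) (Step.L Step.done))) (Scr.cons (nat_lit 1) (nat_lit 1) (Step.U (nat_lit 2439) (Step.B (nat_lit 5786) (Step.L Step.done))) (Scr.cons (nat_lit 1) (nat_lit 1) (Step.U (nat_lit 4538) (Step.B (nat_lit 5787) (Step.L Step.done))) (Scr.cons (nat_lit 1) (nat_lit 1) (Step.U (nat_lit 7484) (Step.B (nat_lit 5788) (Step.L Step.done))) (Scr.cons (nat_lit 0) (nat_lit 1) (Step.U (nat_lit 10535) (Step.B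 (nat_lit 5789) (Step.L Step.done))) (Scr.cons (nat_lit 1) (nat_lit 1) (Step.F (nat_lit 5785) (Step.B (nat_lit 5790) (Step.L Step.done))) (Scr.cons (nat_lit 1) (nat_lit 1) (Step.D (nat_lit 10525) (Step.B (nat_lit 5791) (Step.L Step.done))) (Scr.cons (nat_lit 0) (nat_lit 1) (Step.B (nat_lit 5778) (Step.B (nat_lit 5792) (Step.L Step.done))) (Scr.cons (nat_lit 1) (nat_lit 1) (Step.B (nat_lit 5776) (Step.B (nat_lit 5793) (Step.L Step.done))) (Scr.cons (nat_lit 1) (nat_lit 1) (Step.D (nat_lit 2433) (Step.B (nat_lit 5794) (Step.L Step.done))) (Scr.cons (nat_lit 0) (nat_lit 1) (Step.U (nat_lit 2432) (Step.B (nat_lit 5795) (Step.L Step.done))) (Scr.cons (nat_lit 1) (nat_lit 0) (Step.U (nat_lit 4529) (Step.B (nat_lit 5796) (Step.L Step.done))) (Scr.cons (nat_lit 0) (nat_lit 1) (Step.U (nat_lit 7477) (Step.B (nat_lit 5797) (Step.L Step.done))) (Scr.cons (nat_lit 1) (nat_lit 0) (Step.U (nat_lit 10526) (Step.B (nat_lit 5798) (Step.L Step.done))) (Scr.cons (nat_lit 0) (nat_lit 1) (Step.B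 (nat_lit 5775) (Step.B (nat_lit 5799) (Step.D (nat_lit 8557) Step.done))) (Scr.cons (nat_lit 0) (nat_lit 0) (Step.B (nat_lit 5771) (Step.F (nat_lit 5800) Step.done)) (Scr.cons (nat_lit 0) (nat_lit 1) (Step.F (nat_lit 5756) (Step.B (nat_lit 5770) (Step.F (nat_lit 5801) Step.done))) Scr.nil))))))))))))))))))))))))))))))))))))))))
noncomputable def s145 : Scr := (Scr.cons (nat_lit 1) (nat_lit 1) (Step.D (nat_lit 10846) (Step.B (nat_lit 5802) (Step.L Step.done))) (Scr.cons (nat_lit 0) (nat_lit 1) (Step.B (nat_lit 5755) (Step.B (nat_lit 5803) (Step.L Step.done))) (Scr.cons (nat_lit 1) (nat_lit 0) (Step.D (nat_lit 4864) (Step.B (nat_lit 5804) (Step.D (nat_lit 3042) Step.done))) (Scr.cons (nat_lit 1) (nat_lit 0) (Step.D (nat_lit 3042) (Step.F (nat_lit 5805) Step.done)) (Scr.cons (nat_lit 14) (nat_lit 3) (Step.F (nat_lit 5711) (Step.L (Step.L (Step.L (Step.L (Step.L (Step.L (Step.L (Step.L (Step.D (nat_lit 5924) (Step.F (nat_lit 5754) (Step.U (nat_lit 7852) (Step.F (nat_lit 5712)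 (Step.U (nat_lit 2657) (Step.D (nat_lit 2656) (Step.F (nat_lit 5806) (Step.L (Step.L (Step.L (Step.L (Step.D (nat_lit 8556) Step.done))))))))))))))))))))) (Scr.cons (nat_lit 1) (nat_lit 0) (Step.D (nat_lit 8556) (Step.F (nat_lit 5807) (Step.D (nat_lit 8677) Step.done))) (Scr.cons (nat_lit 1) (nat_lit 0) (Step.D (nat_lit 8677) (Step.F (nat_lit 5808) Step.done)) (Scr.cons (nat_lit 13) (nat_lit 0) (Step.B (nat_lit 5706) (Step.D (nat_lit 8538) (Step.F (nat_lit 5710) (Step.F (nat_lit 5809) (Step.U (nat_lit 5581) (Step.L (Step.L (Step.L (Step.L (Step.D (nat_lit 3408) (Step.D (nat_lit 6017) (Step.D (nat_lit 9171) Step.done)))))))))))) (Scr.cons (nat_lit 1) (nat_lit 0) (Step.D (nat_lit 9171) (Step.F (nat_lit 5810) (Step.D (nat_lit 5453) Step.done))) (Scr.cons (nat_lit 0) (nat_lit 1) (Step.B (nat_lit 5708) (Step.B (nat_lit 5811) (Step.D (nat_lit 8539) Step.done))) (Scr.cons (nat_lit 0) (nat_lit 0) (Step.B (nat_lit 5707) (Step.F (nat_lit 5812) Step.done)) (Scr.cons (nat_lit 11)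 (nat_lit 0) (Step.U (nat_lit 6018) (Step.U (nat_lit 3408) (Step.L (Step.L (Step.D (nat_lit 9170) Step.done))))) (Scr.cons (nat_lit 9) (nat_lit 2) (Step.U (nat_lit 8287) (Step.L (Step.L (Step.L (Step.L (Step.L (Step.L (Step.L (Step.L (Step.L (Step.L (Step.L (Step.L (Step.L (Step.L (Step.L (Step.L (Step.L (Step.L (Step.L (Step.L (Step.D (nat_lit 7347) (Step.D (nat_lit 10417) Step.done))))))))))))))))))))))) (Scr.cons (nat_lit 4) (nat_lit 0) (Step.U (nat_lit 10415) (Step.U (nat_lit 7346) (Step.D (nat_lit 7347) (Step.D (nat_lit 10417) (Step.F (nat_lit 5815) Step.done))))) (Scr.cons (nat_lit 14) (nat_lit 3) (Step.F (nat_lit 5814) (Step.U (nat_lit 6018) (Step.U (nat_lit 3408) (Step.L (Step.L (Step.L (Step.L (Step.L (Step.L (Step.L (Step.L (Step.L (Step.L (Step.L (Step.D (nat_lit 7346) (Step.D (nat_lit 10415) (Step.B (nat_lit 5816) (Step.U (nat_lit 8287) (Step.L (Step.D (nat_lit 11229) Step.done)))))))))))))))))))) (Scr.cons (nat_lit 12) (nat_lit 4) (Step.U (nat_lit 11229) (Step.L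 (Step.L (Step.D (nat_lit 11229) (Step.F (nat_lit 5817) Step.done))))) (Scr.cons (nat_lit 12) (nat_lit 1) (Step.U (nat_lit 5227) (Step.L (Step.L (Step.D (nat_lit 5227) (Step.D (nat_lit 8262) Step.done))))) (Scr.cons (nat_lit 7) (nat_lit 5) (Step.U (nat_lit 8536) (Step.F (nat_lit 5705) (Step.U (nat_lit 3029) (Step.D (nat_lit 3030) (Step.D (nat_lit 5453) (Step.B (nat_lit 5813) (Step.D (nat_lit 6018) (Step.B (nat_lit 5814) (Step.F (nat_lit 5818) (Step.U (nat_lit 11229) (Step.L (Step.L (Step.L (Step.L (Step.L (Step.L (Step.L (Step.L (Step.D (nat_lit 5227) (Step.B (nat_lit 5819) (Step.D (nat_lit 11212) Step.done))))))))))))))))))))) (Scr.cons (nat_lit 1) (nat_lit 0) (Step.D (nat_lit 11212) (Step.F (nat_lit 5820) Step.done)) (Scr.cons (nat_lit 14) (nat_lit 4) (Step.D (nat_lit 8595) (Step.F (nat_lit 5701) (Step.U (nat_lit 5508) (Step.L (Step.B (nat_lit 5702) (Step.U (nat_lit 8533) (Step.D (nat_lit 8532) (Step.F (nat_lit 5704) (Step.D (nat_lit 8536) (Step.F (nat_lit 5821) (Step.U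 (nat_lit 8262) (Step.U (nat_lit 5227) (Step.L (Step.L (Step.L (Step.L (Step.L (Step.L (Step.D (nat_lit 5224) (Step.D (nat_lit 8259) (Step.D (nat_lit 11208) Step.done))))))))))))))))))))) (Scr.cons (nat_lit 0) (nat_lit 1) (Step.B (nat_lit 5700) (Step.F (nat_lit 5822) (Step.D (nat_lit 8594) Step.done))) (Scr.cons (nat_lit 1) (nat_lit 1) (Step.B (nat_lit 5687) (Step.F (nat_lit 5823) (Step.D (nat_lit 11209) Step.done))) (Scr.cons (nat_lit 1) (nat_lit 1) (Step.B (nat_lit 5666) (Step.F (nat_lit 5824) (Step.U (nat_lit 7405) Step.done))) (Scr.cons (nat_lit 1) (nat_lit 0) (Step.D (nat_lit 8205) (Step.F (nat_lit 5684) Step.done)) (Scr.cons (nat_lit 1) (nat_lit 1) (Step.D (nat_lit 8260) (Step.B (nat_lit 5825) (Step.F (nat_lit 5826) Step.done))) (Scr.cons (nat_lit 1) (nat_lit 0) (Step.D (nat_lit 5225) (Step.B (nat_lit 5827) Step.done)) (Scr.cons (nat_lit 13) (nat_lit 3) (Step.L (Step.L (Step.L (Step.D (nat_lit 5190) (Step.F (nat_lit 5828) (Step.L (Step.L (Step.L (Step.L (Step.L (Step.D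 (nat_lit 8255) (Step.D (nat_lit 11207) Step.done)))))))))))) (Scr.cons (nat_lit 0) (nat_lit 1) (Step.B (nat_lit 5665) (Step.F (nat_lit 5829) (Step.L Step.done))) (Scr.cons (nat_lit 1) (nat_lit 1) (Step.D (nat_lit 8255) (Step.B (nat_lit 5830) (Step.D (nat_lit 11176) Step.done))) (Scr.cons (nat_lit 1) (nat_lit 1) (Step.D (nat_lit 11176) (Step.F (nat_lit 5831) Step.done)) (Scr.cons (nat_lit 12) (nat_lit 4) (Step.U (nat_lit 2900) (Step.L (Step.L (Step.D (nat_lit 2900) (Step.D (nat_lit 5248) Step.done))))) (Scr.cons (nat_lit 16) (nat_lit 4) (Step.L (Step.L (Step.L (Step.L (Step.L (Step.L (Step.L (Step.L (Step.D (nat_lit 5190) (Step.F (nat_lit 5828) (Step.L (Step.L (Step.L (Step.L (Step.L (Step.L (Step.L (Step.L (Step.L (Step.L (Step.L (Step.D (nat_lit 2900) (Step.D (nat_lit 5248) (Step.D (nat_lit 8288) Step.done)))))))))))))))))))))))) (Scr.cons (nat_lit 1) (nat_lit 0) (Step.D (nat_lit 8288) (Step.F (nat_lit 5834) (Step.L Step.done))) (Scr.cons (nat_lit 0) (nat_lit 1) (Step.B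 (nat_lit 5833) (Step.B (nat_lit 5835) (Step.L Step.done))) (Scr.cons (nat_lit 1) (nat_lit 0) (Step.D (nat_lit 2900) (Step.B (nat_lit 5836) (Step.D (nat_lit 5180) Step.done))) (Scr.cons (nat_lit 1) (nat_lit 0) (Step.D (nat_lit 5180) (Step.F (nat_lit 5837) Step.done)) (Scr.cons (nat_lit 12) (nat_lit 1) (Step.L (Step.L (Step.L (Step.L (Step.D (nat_lit 8648) Step.done))))) (Scr.cons (nat_lit 12) (nat_lit 1) (Step.L (Step.L (Step.L (Step.L (Step.D (nat_lit 10563) Step.done))))) (Scr.cons (nat_lit 12) (nat_lit 1) (Step.U (nat_lit 2691) (Step.L (Step.L (Step.D (nat_lit 2691) (Step.D (nat_lit 4920) Step.done))))) (Scr.cons (nat_lit 16) (nat_lit 3) (Step.U (nat_lit 10907) (Step.U (nat_lit 7921) (Step.F (nat_lit 5841) (Step.U (nat_lit 2691) (Step.L (Step.L (Step.L (Step.L (Step.L (Step.L (Step.L (Step.L (Step.L (Step.L (Step.L (Step.L (Step.L (Step.L (Step.L (Step.L (Step.D (nat_lit 5181) (Step.D (nat_lit 8195) (Step.D (nat_lit 11167) Step.done))))))))))))))))))))))) Scr.nil))))))))))))))))))))))))))))))))))))))))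
noncomputable def s146 : Scr := (Scr.cons (nat_lit 11) (nat_lit 0) (Step.F (nat_lit 5842) (Step.U (nat_lit 10907) (Step.U (nat_lit 7921) (Step.D (nat_lit 7920) (Step.D (nat_lit 10906) Step.done))))) (Scr.cons (nat_lit 0) (nat_lit 1) (Step.B (nat_lit 2368) (Step.B (nat_lit 2445) (Step.L Step.done))) (Scr.cons (nat_lit 1) (nat_lit 0) (Step.D (nat_lit 2450) (Step.B (nat_lit 5844) (Step.D (nat_lit 2691) Step.done))) (Scr.cons (nat_lit 0) (nat_lit 1) (Step.U (nat_lit 4920) (Step.F (nat_lit 5845) (Step.L Step.done))) (Scr.cons (nat_lit 1) (nat_lit 1) (Step.U (nat_lit 7920) (Step.B (nat_lit 5846) (Step.L Step.done))) (Scr.cons (nat_lit 1) (nat_lit 1) (Step.U (nat_lit 10906) (Step.B (nat_lit 5847) (Step.L Step.done))) (Scr.cons (nat_lit 1) (nat_lit 1) (Step.B (nat_lit 5843) (Step.B (nat_lit 5848) (Step.D (nat_lit 10562) Step.done))) (Scr.cons (nat_lit 0) (nat_lit 1) (Step.D (nat_lit 11167) (Step.B (nat_lit 5849) Step.done)) (Scr.cons (nat_lit 11) (nat_lit 0) (Step.L (Step.L (Step.L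 (Step.L (Step.D (nat_lit 10562) Step.done))))) (Scr.cons (nat_lit 15) (nat_lit 1) (Step.L (Step.L (Step.L (Step.L (Step.L (Step.L (Step.L (Step.L (Step.L (Step.L (Step.L (Step.D (nat_lit 5181) (Step.D (nat_lit 8195) (Step.B (nat_lit 5850) (Step.F (nat_lit 5851) (Step.D (nat_lit 10563) Step.done)))))))))))))))) (Scr.cons (nat_lit 0) (nat_lit 1) (Step.B (nat_lit 5840) (Step.F (nat_lit 5852) (Step.D (nat_lit 8648) Step.done))) (Scr.cons (nat_lit 0) (nat_lit 0) (Step.B (nat_lit 5839) (Step.F (nat_lit 5853) Step.done)) (Scr.cons (nat_lit 12) (nat_lit 1) (Step.U (nat_lit 2437) (Step.L (Step.L (Step.D (nat_lit 2437) (Step.D (nat_lit 4536) Step.done))))) (Scr.cons (nat_lit 12) (nat_lit 1) (Step.U (nat_lit 7482) (Step.F (nat_lit 5855) (Step.D (nat_lit 4536) (Step.D (nat_lit 7482) (Step.D (nat_lit 10534) Step.done))))) (Scr.cons (nat_lit 15) (nat_lit 1) (Step.F (nat_lit 5856) (Step.U (nat_lit 7482) (Step.F (nat_lit 5855) (Step.U (nat_lit 2437) (Step.L (Step.L (Step.L (Step.L (Step.D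 (nat_lit 43) (Step.D (nat_lit 157) (Step.D (nat_lit 461) (Step.D (nat_lit 1172) (Step.D (nat_lit 2438) (Step.D (nat_lit 4537) (Step.D (nat_lit 7483) Step.done))))))))))))))) (Scr.cons (nat_lit 0) (nat_lit 1) (Step.U (nat_lit 461) (Step.B (nat_lit 2656) (Step.L Step.done))) (Scr.cons (nat_lit 1) (nat_lit 1) (Step.U (nat_lit 1172) (Step.B (nat_lit 5858) (Step.L Step.done))) (Scr.cons (nat_lit 0) (nat_lit 1) (Step.U (nat_lit 2438) (Step.B (nat_lit 5859) (Step.L Step.done))) (Scr.cons (nat_lit 1) (nat_lit 1) (Step.U (nat_lit 4537) (Step.B (nat_lit 5860) (Step.L Step.done))) (Scr.cons (nat_lit 0) (nat_lit 1) (Step.U (nat_lit 7483) (Step.B (nat_lit 5861) (Step.L Step.done))) (Scr.cons (nat_lit 1) (nat_lit 1) (Step.B (nat_lit 5857) (Step.B (nat_lit 5862) (Step.L Step.done))) (Scr.cons (nat_lit 0) (nat_lit 1) (Step.B (nat_lit 5856) (Step.B (nat_lit 5863) (Step.D (nat_lit 8335) Step.done))) (Scr.cons (nat_lit 0) (nat_lit 1) (Step.D (nat_lit 8335) (Step.F (nat_lit 5864) Step.done))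 (Scr.cons (nat_lit 12) (nat_lit 4) (Step.L (Step.L (Step.L (Step.L (Step.D (nat_lit 8335) Step.done))))) (Scr.cons (nat_lit 0) (nat_lit 0) (Step.B (nat_lit 5866) (Step.F (nat_lit 5864) Step.done)) (Scr.cons (nat_lit 12) (nat_lit 4) (Step.L (Step.B (nat_lit 5865) (Step.F (nat_lit 5867) (Step.L (Step.L Step.done))))) (Scr.cons (nat_lit 12) (nat_lit 1) (Step.U (nat_lit 1314) (Step.L (Step.L (Step.D (nat_lit 1314) (Step.D (nat_lit 2695) Step.done))))) (Scr.cons (nat_lit 8) (nat_lit 1) (Step.U (nat_lit 3291) (Step.L (Step.L (Step.L (Step.L (Step.L (Step.L (Step.L (Step.L (Step.L (Step.L (Step.L (Step.D (nat_lit 1314) (Step.B (nat_lit 5869) (Step.D (nat_lit 4925) Step.done))))))))))))))) (Scr.cons (nat_lit 16) (nat_lit 2) (Step.L (Step.L (Step.L (Step.L (Step.L (Step.L (Step.L (Step.L (Step.L (Step.L (Step.L (Step.D (nat_lit 2936) (Step.F (nat_lit 1033) (Step.U (nat_lit 3292) (Step.D (nat_lit 3291) (Step.B (nat_lit 5870) (Step.U (nat_lit 4925) (Step.F (nat_lit 5869) (Step.U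 (nat_lit 1314) (Step.L (Step.L (Step.L (Step.D (nat_lit 7931) Step.done))))))))))))))))))))))) (Scr.cons (nat_lit 15) (nat_lit 0) (Step.L (Step.L (Step.L (Step.L (Step.L (Step.L (Step.L (Step.L (Step.L (Step.L (Step.D (nat_lit 7931) (Step.F (nat_lit 5871) (Step.L (Step.L (Step.L Step.done))))))))))))))) (Scr.cons (nat_lit 13) (nat_lit 3) (Step.L (Step.L (Step.L (Step.L (Step.B (nat_lit 799) (Step.U (nat_lit 5279) (Step.L (Step.L (Step.L (Step.L (Step.L Step.done))))))))))) (Scr.cons (nat_lit 12) (nat_lit 4) (Step.L (Step.L (Step.L (Step.L (Step.D (nat_lit 8344) Step.done))))) (Scr.cons (nat_lit 12) (nat_lit 4) (Step.L (Step.D (nat_lit 8344) (Step.F (nat_lit 5874) (Step.L (Step.L Step.done))))) (Scr.cons (nat_lit 12) (nat_lit 1) (Step.L (Step.L (Step.L (Step.L (Step.D (nat_lit 8365) Step.done))))) (Scr.cons (nat_lit 12) (nat_lit 1) (Step.L (Step.D (nat_lit 8365) (Step.F (nat_lit 5876) (Step.L (Step.L Step.done))))) (Scr.cons (nat_lit 12) (nat_lit 4) (Step.L (Step.L (Step.L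 (Step.L (Step.D (nat_lit 8368) Step.done))))) (Scr.cons (nat_lit 12) (nat_lit 4) (Step.L (Step.D (nat_lit 8368) (Step.F (nat_lit 5878) (Step.L (Step.L Step.done))))) (Scr.cons (nat_lit 12) (nat_lit 1) (Step.L (Step.L (Step.L (Step.L (Step.D (nat_lit 5323) Step.done))))) (Scr.cons (nat_lit 12) (nat_lit 1) (Step.L (Step.D (nat_lit 5323) (Step.F (nat_lit 5880) (Step.L (Step.D (nat_lit 8370) Step.done))))) (Scr.cons (nat_lit 12) (nat_lit 1) (Step.L (Step.D (nat_lit 8370) (Step.F (nat_lit 5881) (Step.L (Step.L Step.done))))) Scr.nil))))))))))))))))))))))))))))))))))))))))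
noncomputable def s147 : Scr := (Scr.cons (nat_lit 12) (nat_lit 1) (Step.L (Step.L (Step.L (Step.L (Step.D (nat_lit 8383) Step.done))))) (Scr.cons (nat_lit 12) (nat_lit 1) (Step.L (Step.D (nat_lit 8383) (Step.F (nat_lit 5883) (Step.L (Step.L Step.done))))) (Scr.cons (nat_lit 12) (nat_lit 4) (Step.L (Step.L (Step.L (Step.L (Step.D (nat_lit 8389) Step.done))))) (Scr.cons (nat_lit 12) (nat_lit 4) (Step.L (Step.D (nat_lit 8389) (Step.F (nat_lit 5885) (Step.L (Step.L Step.done))))) (Scr.cons (nat_lit 12) (nat_lit 1) (Step.U (nat_lit 855) (Step.L (Step.L (Step.D (nat_lit 855) (Step.D (nat_lit 1865) Step.done))))) (Scr.cons (nat_lit 12) (nat_lit 4) (Step.U (nat_lit 3627) (Step.F (nat_lit 5887) (Step.D (nat_lit 1865) (Step.D (nat_lit 3627) (Step.D (nat_lit 6332) Step.done))))) (Scr.cons (nat_lit 11) (nat_lit 0) (Step.L (Step.L (Step.L (Step.L (Step.D (nat_lit 317) Step.done))))) (Scr.cons (nat_lit 12) (nat_lit 1) (Step.F (nat_lit 5889) (Step.L (Step.L (Step.B (nat_lit 5889) (Step.D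 (nat_lit 854) Step.done))))) (Scr.cons (nat_lit 12) (nat_lit 4) (Step.U (nat_lit 1864) (Step.F (nat_lit 5890) (Step.D (nat_lit 854) (Step.D (nat_lit 1864) (Step.D (nat_lit 3624) Step.done))))) (Scr.cons (nat_lit 13) (nat_lit 3) (Step.U (nat_lit 6332) (Step.U (nat_lit 3627) (Step.F (nat_lit 5887) (Step.U (nat_lit 855) (Step.L (Step.B (nat_lit 5889) (Step.D (nat_lit 854) (Step.D (nat_lit 1864) (Step.B (nat_lit 5891) (Step.D (nat_lit 6326) (Step.D (nat_lit 9491) Step.done))))))))))) (Scr.cons (nat_lit 12) (nat_lit 4) (Step.L (Step.L (Step.L (Step.L (Step.D (nat_lit 3943) Step.done))))) (Scr.cons (nat_lit 12) (nat_lit 1) (Step.U (nat_lit 6762) (Step.F (nat_lit 5893) (Step.D (nat_lit 3943) (Step.D (nat_lit 6762) (Step.D (nat_lit 9930) Step.done))))) (Scr.cons (nat_lit 16) (nat_lit 5) (Step.F (nat_lit 5894) (Step.U (nat_lit 6762) (Step.F (nat_lit 5893) (Step.L (Step.L (Step.L (Step.L (Step.L (Step.L (Step.L (Step.L (Step.L (Step.L (Step.L (Step.L (Step.L (Step.L (Step.D (nat_lit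 317) (Step.D (nat_lit 854) (Step.D (nat_lit 1864) (Step.D (nat_lit 3624) (Step.D (nat_lit 6325) (Step.D (nat_lit 9490) Step.done))))))))))))))))))))))) (Scr.cons (nat_lit 11) (nat_lit 0) (Step.U (nat_lit 9492) (Step.U (nat_lit 6326) (Step.D (nat_lit 6325) (Step.D (nat_lit 9490) (Step.F (nat_lit 5895) Step.done))))) (Scr.cons (nat_lit 12) (nat_lit 1) (Step.L (Step.L (Step.L (Step.L (Step.D (nat_lit 2964) Step.done))))) (Scr.cons (nat_lit 12) (nat_lit 4) (Step.U (nat_lit 5339) (Step.F (nat_lit 5897) (Step.D (nat_lit 2964) (Step.D (nat_lit 5339) (Step.D (nat_lit 8393) Step.done))))) (Scr.cons (nat_lit 11) (nat_lit 0) (Step.U (nat_lit 8395) (Step.U (nat_lit 5340) (Step.D (nat_lit 5339) (Step.D (nat_lit 8394) (Step.D (nat_lit 11282) Step.done))))) (Scr.cons (nat_lit 12) (nat_lit 1) (Step.U (nat_lit 3644) (Step.L (Step.L (Step.D (nat_lit 3644) (Step.D (nat_lit 6351) Step.done))))) (Scr.cons (nat_lit 12) (nat_lit 1) (Step.U (nat_lit 6352) (Step.D (nat_lit 6351) (Step.F (nat_lit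 5900) (Step.D (nat_lit 6352) (Step.D (nat_lit 9506) Step.done))))) (Scr.cons (nat_lit 11) (nat_lit 0) (Step.U (nat_lit 6352) (Step.U (nat_lit 3644) (Step.L (Step.L (Step.D (nat_lit 9505) Step.done))))) (Scr.cons (nat_lit 1) (nat_lit 1) (Step.B (nat_lit 1763) (Step.F (nat_lit 1764) Step.done)) (Scr.cons (nat_lit 12) (nat_lit 4) (Step.U (nat_lit 3172) (Step.D (nat_lit 3171) (Step.F (nat_lit 1678) (Step.D (nat_lit 3172) (Step.D (nat_lit 5623) Step.done))))) (Scr.cons (nat_lit 7) (nat_lit 6) (Step.F (nat_lit 5901) (Step.B (nat_lit 5902) (Step.U (nat_lit 9505) (Step.L (Step.B (nat_lit 1249) (Step.F (nat_lit 5903) (Step.U (nat_lit 8721) (Step.F (nat_lit 5904) (Step.U (nat_lit 3172) (Step.U (nat_lit 1596) (Step.L (Step.L (Step.L (Step.L (Step.L (Step.L (Step.L (Step.L (Step.B (nat_lit 5897) (Step.D (nat_lit 5340) (Step.D (nat_lit 8395) Step.done))))))))))))))))))))) (Scr.cons (nat_lit 0) (nat_lit 1) (Step.D (nat_lit 9506) (Step.B (nat_lit 5905) Step.done)) (Scr.cons (nat_lit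 11) (nat_lit 0) (Step.U (nat_lit 27) (Step.L (Step.L (Step.D (nat_lit 26) (Step.D (nat_lit 102) Step.done))))) (Scr.cons (nat_lit 12) (nat_lit 1) (Step.U (nat_lit 27) (Step.L (Step.L (Step.D (nat_lit 27) (Step.D (nat_lit 103) Step.done))))) (Scr.cons (nat_lit 12) (nat_lit 1) (Step.F (nat_lit 5907) (Step.D (nat_lit 103) (Step.F (nat_lit 5908) (Step.B (nat_lit 5907) (Step.D (nat_lit 320) Step.done))))) (Scr.cons (nat_lit 14) (nat_lit 2) (Step.F (nat_lit 5890) (Step.F (nat_lit 5889) (Step.L (Step.L (Step.L (Step.L (Step.L (Step.L (Step.L (Step.L (Step.L (Step.L (Step.L (Step.L (Step.L (Step.L (Step.D (nat_lit 26) (Step.D (nat_lit 102) (Step.B (nat_lit 5909) (Step.D (nat_lit 861) Step.done)))))))))))))))))))) (Scr.cons (nat_lit 14) (nat_lit 3) (Step.F (nat_lit 5898) (Step.D (nat_lit 8394) (Step.D (nat_lit 11282) (Step.F (nat_lit 5899) (Step.F (nat_lit 5906) (Step.U (nat_lit 6352) (Step.U (nat_lit 3644) (Step.L (Step.L (Step.L (Step.L (Step.L (Step.D (nat_lit 26) (Step.D (nat_lit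 102) (Step.D (nat_lit 320) (Step.D (nat_lit 861) (Step.F (nat_lit 5910) (Step.D (nat_lit 1864) (Step.B (nat_lit 5891) (Step.D (nat_lit 6325) (Step.D (nat_lit 9490) Step.done))))))))))))))))))))) (Scr.cons (nat_lit 11) (nat_lit 0) (Step.L (Step.L (Step.L (Step.L (Step.D (nat_lit 279) Step.done))))) (Scr.cons (nat_lit 12) (nat_lit 1) (Step.F (nat_lit 5912) (Step.L (Step.L (Step.B (nat_lit 5912) (Step.D (nat_lit 771) Step.done))))) (Scr.cons (nat_lit 12) (nat_lit 1) (Step.U (nat_lit 1744) (Step.F (nat_lit 5913) (Step.D (nat_lit 771) (Step.D (nat_lit 1744) (Step.D (nat_lit 3427) Step.done))))) (Scr.cons (nat_lit 9) (nat_lit 2) (Step.U (nat_lit 8393) (Step.U (nat_lit 5339) (Step.U (nat_lit 2964) (Step.L (Step.L (Step.L (Step.L (Step.L (Step.L (Step.L (Step.L (Step.L (Step.L (Step.L (Step.L (Step.L (Step.L (Step.B (nat_lit 5912) (Step.B (nat_lit 5913) (Step.D (nat_lit 1744) (Step.B (nat_lit 5914) (Step.D (nat_lit 6037) (Step.D (nat_lit 9185) Step.done)))))))))))))))))))))))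 (Scr.cons (nat_lit 1) (nat_lit 1) (Step.B (nat_lit 5895) (Step.F (nat_lit 5911) (Step.B (nat_lit 5915) Step.done))) (Scr.cons (nat_lit 1) (nat_lit 1) (Step.B (nat_lit 5896) (Step.B (nat_lit 5916) (Step.U (nat_lit 9185) Step.done))) (Scr.cons (nat_lit 1) (nat_lit 1) (Step.D (nat_lit 9492) (Step.B (nat_lit 5917) (Step.U (nat_lit 6037) Step.done))) (Scr.cons (nat_lit 0) (nat_lit 1) (Step.U (nat_lit 9491) (Step.B (nat_lit 5918) (Step.F (nat_lit 5914) Step.done))) (Scr.cons (nat_lit 1) (nat_lit 1) (Step.B (nat_lit 5892) (Step.B (nat_lit 5919) (Step.U (nat_lit 1744) Step.done))) (Scr.cons (nat_lit 0) (nat_lit 1) (Step.B (nat_lit 5888) (Step.B (nat_lit 5920) (Step.F (nat_lit 5913) Step.done))) (Scr.cons (nat_lit 1) (nat_lit 0) (Step.D (nat_lit 3627) (Step.B (nat_lit 5921) (Step.U (nat_lit 279) Step.done))) Scr.nil))))))))))))))))))))))))))))))))))))))))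
noncomputable def s148 : Scr := (Scr.cons (nat_lit 0) (nat_lit 1) (Step.B (nat_lit 5887) (Step.B (nat_lit 5922) (Step.L Step.done))) (Scr.cons (nat_lit 1) (nat_lit 0) (Step.D (nat_lit 855) (Step.B (nat_lit 5923) Step.done)) (Scr.cons (nat_lit 11) (nat_lit 0) (Step.U (nat_lit 865) (Step.U (nat_lit 322) (Step.D (nat_lit 321) (Step.D (nat_lit 863) (Step.D (nat_lit 1876) Step.done))))) (Scr.cons (nat_lit 12) (nat_lit 1) (Step.U (nat_lit 322) (Step.F (nat_lit 5908) (Step.D (nat_lit 103) (Step.D (nat_lit 322) (Step.D (nat_lit 864) Step.done))))) (Scr.cons (nat_lit 12) (nat_lit 1) (Step.U (nat_lit 865) (Step.D (nat_lit 864) (Step.F (nat_lit 5926) (Step.D (nat_lit 865) (Step.D (nat_lit 1877) Step.done))))) (Scr.cons (nat_lit 12) (nat_lit 1) (Step.F (nat_lit 5925) (Step.D (nat_lit 1877) (Step.F (nat_lit 5927) (Step.B (nat_lit 5925) (Step.D (nat_lit 3645) Step.done))))) (Scr.cons (nat_lit 14) (nat_lit 2) (Step.F (nat_lit 5928) (Step.F (nat_lit 5925) (Step.U (nat_lit 865) (Step.U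 (nat_lit 322) (Step.U (nat_lit 103) (Step.U (nat_lit 27) (Step.L (Step.L (Step.L (Step.L (Step.L (Step.L (Step.L (Step.L (Step.L (Step.L (Step.L (Step.L (Step.L (Step.L Step.done)))))))))))))))))))) (Scr.cons (nat_lit 4) (nat_lit 0) (Step.U (nat_lit 6353) (Step.B (nat_lit 5929) (Step.L (Step.D (nat_lit 3646) (Step.D (nat_lit 6355) Step.done))))) (Scr.cons (nat_lit 12) (nat_lit 4) (Step.U (nat_lit 6353) (Step.F (nat_lit 5928) (Step.D (nat_lit 3645) (Step.D (nat_lit 6353) (Step.D (nat_lit 9508) Step.done))))) (Scr.cons (nat_lit 11) (nat_lit 0) (Step.U (nat_lit 733) (Step.U (nat_lit 263) (Step.D (nat_lit 262) (Step.D (nat_lit 731) (Step.D (nat_lit 1693) Step.done))))) (Scr.cons (nat_lit 12) (nat_lit 4) (Step.U (nat_lit 15) (Step.L (Step.L (Step.D (nat_lit 15) (Step.D (nat_lit 77) Step.done))))) (Scr.cons (nat_lit 11) (nat_lit 0) (Step.U (nat_lit 16) (Step.L (Step.L (Step.D (nat_lit 15) (Step.D (nat_lit 78) Step.done))))) (Scr.cons (nat_lit 12) (nat_lit 1) (Step.U (nat_lit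 16) (Step.L (Step.L (Step.D (nat_lit 16) (Step.D (nat_lit 79) Step.done))))) (Scr.cons (nat_lit 12) (nat_lit 1) (Step.F (nat_lit 5934) (Step.D (nat_lit 79) (Step.F (nat_lit 5935) (Step.B (nat_lit 5934) (Step.D (nat_lit 264) Step.done))))) (Scr.cons (nat_lit 7) (nat_lit 5) (Step.F (nat_lit 5913) (Step.U (nat_lit 279) (Step.L (Step.L (Step.L (Step.L (Step.L (Step.L (Step.L (Step.L (Step.L (Step.L (Step.L (Step.L (Step.L (Step.L (Step.D (nat_lit 16) (Step.B (nat_lit 5934) (Step.B (nat_lit 5936) (Step.D (nat_lit 735) Step.done)))))))))))))))))))) (Scr.cons (nat_lit 4) (nat_lit 0) (Step.U (nat_lit 1695) (Step.U (nat_lit 734) (Step.D (nat_lit 735) (Step.F (nat_lit 5937) (Step.D (nat_lit 1744) Step.done))))) (Scr.cons (nat_lit 1) (nat_lit 0) (Step.D (nat_lit 6326) (Step.B (nat_lit 5918) Step.done)) (Scr.cons (nat_lit 4) (nat_lit 0) (Step.U (nat_lit 1864) (Step.B (nat_lit 5910) (Step.U (nat_lit 861) (Step.D (nat_lit 862) (Step.D (nat_lit 1875) Step.done))))) (Scr.cons (nat_lit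 16) (nat_lit 3) (Step.F (nat_lit 5932) (Step.U (nat_lit 733) (Step.U (nat_lit 263) (Step.F (nat_lit 5933) (Step.D (nat_lit 78) (Step.D (nat_lit 264) (Step.D (nat_lit 734) (Step.D (nat_lit 1695) (Step.B (nat_lit 5938) (Step.D (nat_lit 3427) (Step.F (nat_lit 5939) (Step.F (nat_lit 5891) (Step.B (nat_lit 5940) (Step.U (nat_lit 1875) (Step.U (nat_lit 862) (Step.F (nat_lit 5909) (Step.F (nat_lit 5907) (Step.D (nat_lit 103) (Step.D (nat_lit 321) (Step.D (nat_lit 863) (Step.D (nat_lit 1876) (Step.D (nat_lit 3645) (Step.D (nat_lit 6353) (Step.D (nat_lit 9508) Step.done)))))))))))))))))))))))) (Scr.cons (nat_lit 0) (nat_lit 1) (Step.B (nat_lit 5931) (Step.F (nat_lit 5941) (Step.D (nat_lit 3361) Step.done))) (Scr.cons (nat_lit 12) (nat_lit 1) (Step.U (nat_lit 263) (Step.F (nat_lit 5933) (Step.D (nat_lit 77) (Step.D (nat_lit 263) (Step.D (nat_lit 732) Step.done))))) (Scr.cons (nat_lit 12) (nat_lit 1) (Step.U (nat_lit 733) (Step.D (nat_lit 732) (Step.F (nat_lit 5943) (Step.D (nat_lit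 733) (Step.D (nat_lit 1694) Step.done))))) (Scr.cons (nat_lit 12) (nat_lit 1) (Step.F (nat_lit 5932) (Step.D (nat_lit 1694) (Step.F (nat_lit 5944) (Step.B (nat_lit 5932) (Step.D (nat_lit 3361) Step.done))))) (Scr.cons (nat_lit 7) (nat_lit 5) (Step.F (nat_lit 5945) (Step.U (nat_lit 1693) (Step.U (nat_lit 731) (Step.U (nat_lit 262) (Step.U (nat_lit 77) (Step.U (nat_lit 15) (Step.L (Step.L (Step.L (Step.L (Step.L (Step.L (Step.L (Step.L (Step.L (Step.L (Step.L (Step.L (Step.L (Step.L Step.done)))))))))))))))))))) (Scr.cons (nat_lit 1) (nat_lit 1) (Step.F (nat_lit 5930) (Step.B (nat_lit 5942) (Step.B (nat_lit 5946) Step.done))) (Scr.cons (nat_lit 1) (nat_lit 1) (Step.D (nat_lit 6355) (Step.B (nat_lit 5947) (Step.L Step.done))) (Scr.cons (nat_lit 1) (nat_lit 1) (Step.D (nat_lit 3646) (Step.B (nat_lit 5948) (Step.D (nat_lit 3354) Step.done))) (Scr.cons (nat_lit 1) (nat_lit 1) (Step.D (nat_lit 3354) (Step.F (nat_lit 5949) Step.done)) (Scr.cons (nat_lit 12) (nat_lit 1) (Step.L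 (Step.L (Step.L (Step.L (Step.D (nat_lit 1468) Step.done))))) (Scr.cons (nat_lit 9) (nat_lit 5) (Step.U (nat_lit 2673) (Step.L (Step.L (Step.L (Step.L (Step.L (Step.L (Step.L (Step.L (Step.L (Step.L (Step.L (Step.L (Step.L (Step.L (Step.L (Step.L (Step.L (Step.L (Step.L (Step.L (Step.B (nat_lit 5951) (Step.D (nat_lit 2967) Step.done))))))))))))))))))))))) (Scr.cons (nat_lit 15) (nat_lit 0) (Step.L (Step.L (Step.L (Step.L (Step.D (nat_lit 2673) (Step.B (nat_lit 5952) (Step.U (nat_lit 2967) (Step.F (nat_lit 5951) (Step.L (Step.L (Step.L (Step.L (Step.L (Step.L (Step.L Step.done))))))))))))))) (Scr.cons (nat_lit 12) (nat_lit 1) (Step.L (Step.L (Step.L (Step.L (Step.D (nat_lit 8399) Step.done))))) (Scr.cons (nat_lit 12) (nat_lit 1) (Step.L (Step.D (nat_lit 8399) (Step.F (nat_lit 5954) (Step.L (Step.L Step.done))))) (Scr.cons (nat_lit 12) (nat_lit 4) (Step.L (Step.L (Step.L (Step.L (Step.D (nat_lit 11289) Step.done))))) (Scr.cons (nat_lit 12) (nat_lit 3) (Step.L (Step.L (Step.D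 (nat_lit 11289) (Step.F (nat_lit 5956) (Step.L Step.done))))) (Scr.cons (nat_lit 12) (nat_lit 1) (Step.L (Step.L (Step.L (Step.L (Step.D (nat_lit 8413) Step.done))))) (Scr.cons (nat_lit 12) (nat_lit 1) (Step.L (Step.D (nat_lit 8413) (Step.F (nat_lit 5958) (Step.L (Step.L Step.done))))) (Scr.cons (nat_lit 12) (nat_lit 4) (Step.L (Step.L (Step.L (Step.L (Step.D (nat_lit 8422) Step.done))))) (Scr.cons (nat_lit 12) (nat_lit 4) (Step.L (Step.D (nat_lit 8422) (Step.F (nat_lit 5960) (Step.L (Step.L Step.done))))) (Scr.cons (nat_lit 13) (nat_lit 2) (Step.L (Step.L (Step.L (Step.B (nat_lit 431) (Step.U (nat_lit 2983) (Step.L (Step.L (Step.L (Step.L (Step.L (Step.L Step.done))))))))))) Scr.nil))))))))))))))))))))))))))))))))))))))))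
noncomputable def s149 : Scr := (Scr.cons (nat_lit 13) (nat_lit 0) (Step.L (Step.L (Step.L (Step.L (Step.L (Step.L (Step.L (Step.L (Step.L (Step.D (nat_lit 5391) (Step.D (nat_lit 8457) Step.done))))))))))) (Scr.cons (nat_lit 6) (nat_lit 3) (Step.L (Step.L (Step.L (Step.L (Step.L (Step.L (Step.L (Step.L (Step.L (Step.B (nat_lit 866) (Step.D (nat_lit 8457) Step.done))))))))))) (Scr.cons (nat_lit 12) (nat_lit 4) (Step.L (Step.B (nat_lit 5963) (Step.F (nat_lit 5964) (Step.L (Step.L Step.done))))) (Scr.cons (nat_lit 12) (nat_lit 1) (Step.L (Step.L (Step.L (Step.L (Step.D (nat_lit 1486) Step.done))))) (Scr.cons (nat_lit 12) (nat_lit 1) (Step.U (nat_lit 3006) (Step.F (nat_lit 5966) (Step.D (nat_lit 1486) (Step.D (nat_lit 3006) (Step.D (nat_lit 5409) Step.done))))) (Scr.cons (nat_lit 8) (nat_lit 1) (Step.L (Step.L (Step.L (Step.L (Step.L (Step.L (Step.L (Step.L (Step.L (Step.L (Step.L (Step.B (nat_lit 5966) (Step.D (nat_lit 3006) (Step.B (nat_lit 5967) (Step.D (nat_lit 8480)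 Step.done))))))))))))))) (Scr.cons (nat_lit 12) (nat_lit 0) (Step.B (nat_lit 5968) (Step.U (nat_lit 8480) (Step.F (nat_lit 5967) (Step.D (nat_lit 5409) (Step.D (nat_lit 8480) Step.done))))) (Scr.cons (nat_lit 12) (nat_lit 4) (Step.L (Step.B (nat_lit 5968) (Step.F (nat_lit 5969) (Step.L (Step.L Step.done))))) (Scr.cons (nat_lit 12) (nat_lit 1) (Step.L (Step.L (Step.L (Step.L (Step.D (nat_lit 8493) Step.done))))) (Scr.cons (nat_lit 12) (nat_lit 1) (Step.L (Step.D (nat_lit 8493) (Step.F (nat_lit 5971) (Step.L (Step.L Step.done))))) (Scr.cons (nat_lit 12) (nat_lit 4) (Step.L (Step.L (Step.L (Step.L (Step.D (nat_lit 9860) Step.done))))) (Scr.cons (nat_lit 12) (nat_lit 1) (Step.L (Step.L (Step.L (Step.L (Step.D (nat_lit 3859) Step.done))))) (Scr.cons (nat_lit 6) (nat_lit 0) (Step.U (nat_lit 9812) (Step.U (nat_lit 6648) (Step.F (nat_lit 5974) (Step.L (Step.L (Step.L (Step.L (Step.L (Step.L (Step.L (Step.D (nat_lit 9860) Step.done))))))))))) (Scr.cons (nat_lit 12) (nat_lit 1)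 (Step.L (Step.L (Step.L (Step.L (Step.D (nat_lit 4241) Step.done))))) (Scr.cons (nat_lit 14) (nat_lit 2) (Step.F (nat_lit 5976) (Step.L (Step.L (Step.L (Step.L (Step.L (Step.L (Step.L (Step.L (Step.L (Step.L (Step.L (Step.L (Step.L (Step.L (Step.L (Step.L (Step.L (Step.L (Step.D (nat_lit 3959) Step.done)))))))))))))))))))) (Scr.cons (nat_lit 12) (nat_lit 1) (Step.F (nat_lit 5977) (Step.F (nat_lit 5976) (Step.D (nat_lit 4241) (Step.B (nat_lit 5977) (Step.D (nat_lit 6785) Step.done))))) (Scr.cons (nat_lit 16) (nat_lit 5) (Step.F (nat_lit 5978) (Step.F (nat_lit 5977) (Step.F (nat_lit 5976) (Step.L (Step.L (Step.L (Step.L (Step.L (Step.L (Step.L (Step.L (Step.L (Step.L (Step.L (Step.L (Step.L (Step.L (Step.L (Step.L (Step.L (Step.D (nat_lit 3859) (Step.D (nat_lit 6647) (Step.D (nat_lit 9811) Step.done))))))))))))))))))))))) (Scr.cons (nat_lit 4) (nat_lit 0) (Step.B (nat_lit 5979) (Step.U (nat_lit 9811) (Step.U (nat_lit 6647) (Step.D (nat_lit 6648) (Step.D (nat_lit 9813) Step.done)))))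 (Scr.cons (nat_lit 12) (nat_lit 1) (Step.L (Step.L (Step.L (Step.L (Step.D (nat_lit 8498) Step.done))))) (Scr.cons (nat_lit 13) (nat_lit 2) (Step.F (nat_lit 5979) (Step.U (nat_lit 6785) (Step.U (nat_lit 3959) (Step.L (Step.L (Step.L (Step.L (Step.L (Step.L (Step.B (nat_lit 5981) (Step.D (nat_lit 11351) Step.done))))))))))) (Scr.cons (nat_lit 11) (nat_lit 0) (Step.L (Step.L (Step.L (Step.D (nat_lit 5425) (Step.D (nat_lit 8500) Step.done))))) (Scr.cons (nat_lit 12) (nat_lit 1) (Step.F (nat_lit 5983) (Step.L (Step.L (Step.B (nat_lit 5983) (Step.D (nat_lit 11352) Step.done))))) (Scr.cons (nat_lit 7) (nat_lit 5) (Step.F (nat_lit 5984) (Step.U (nat_lit 8500) (Step.U (nat_lit 5425) (Step.L (Step.L (Step.L (Step.L (Step.L (Step.L (Step.L (Step.L (Step.L (Step.L (Step.L (Step.L (Step.L (Step.L (Step.L (Step.B (nat_lit 5981) (Step.D (nat_lit 11351) Step.done)))))))))))))))))))) (Scr.cons (nat_lit 9) (nat_lit 2) (Step.U (nat_lit 9861) (Step.B (nat_lit 5973) (Step.F (nat_lit 5975)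 (Step.U (nat_lit 9812) (Step.D (nat_lit 9813) (Step.F (nat_lit 5980) (Step.B (nat_lit 5979) (Step.B (nat_lit 5982) (Step.F (nat_lit 5985) (Step.U (nat_lit 11352) (Step.U (nat_lit 8500) (Step.U (nat_lit 5425) (Step.L (Step.L (Step.L (Step.L (Step.L (Step.L (Step.L (Step.L (Step.L (Step.L (Step.L (Step.L Step.done)))))))))))))))))))))))) (Scr.cons (nat_lit 1) (nat_lit 1) (Step.D (nat_lit 9861) (Step.B (nat_lit 5986) Step.done)) (Scr.cons (nat_lit 12) (nat_lit 4) (Step.L (Step.L (Step.L (Step.L (Step.D (nat_lit 8506) Step.done))))) (Scr.cons (nat_lit 12) (nat_lit 4) (Step.L (Step.D (nat_lit 8506) (Step.F (nat_lit 5988) (Step.L (Step.L Step.done))))) (Scr.cons (nat_lit 12) (nat_lit 1) (Step.L (Step.L (Step.L (Step.L (Step.D (nat_lit 8507) Step.done))))) (Scr.cons (nat_lit 12) (nat_lit 1) (Step.L (Step.D (nat_lit 8507) (Step.F (nat_lit 5990) (Step.L (Step.L Step.done))))) (Scr.cons (nat_lit 12) (nat_lit 1) (Step.U (nat_lit 6648) (Step.F (nat_lit 5974) (Step.D (nat_lit 3859)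 (Step.D (nat_lit 6648) (Step.D (nat_lit 9812) Step.done))))) (Scr.cons (nat_lit 6) (nat_lit 1) (Step.F (nat_lit 5979) (Step.F (nat_lit 5978) (Step.U (nat_lit 3959) (Step.L (Step.L (Step.L (Step.L (Step.L (Step.L (Step.D (nat_lit 8498) (Step.D (nat_lit 11351) Step.done))))))))))) (Scr.cons (nat_lit 16) (nat_lit 1) (Step.F (nat_lit 5992) (Step.U (nat_lit 6648) (Step.D (nat_lit 6647) (Step.D (nat_lit 9811) (Step.B (nat_lit 5993) (Step.U (nat_lit 11351) (Step.F (nat_lit 5981) (Step.L (Step.L (Step.L (Step.L (Step.L (Step.L (Step.L (Step.L (Step.L (Step.L (Step.L (Step.L (Step.L (Step.L (Step.D (nat_lit 8513) (Step.D (nat_lit 11357) Step.done))))))))))))))))))))))) (Scr.cons (nat_lit 8) (nat_lit 1) (Step.L (Step.L (Step.L (Step.L (Step.L (Step.L (Step.L (Step.L (Step.B (nat_lit 5974) (Step.D (nat_lit 6648) (Step.B (nat_lit 5992) (Step.B (nat_lit 5994) (Step.U (nat_lit 11357) (Step.U (nat_lit 8513) (Step.L (Step.D (nat_lit 11356) Step.done)))))))))))))))) (Scr.cons (nat_lit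 1) (nat_lit 1) (Step.D (nat_lit 11356) (Step.F (nat_lit 5995) (Step.D (nat_lit 9815) Step.done))) (Scr.cons (nat_lit 1) (nat_lit 1) (Step.D (nat_lit 9815) (Step.F (nat_lit 5996) Step.done)) (Scr.cons (nat_lit 12) (nat_lit 1) (Step.U (nat_lit 3556) (Step.F (nat_lit 1162) (Step.D (nat_lit 1820) (Step.D (nat_lit 3556) (Step.D (nat_lit 6226) Step.done))))) (Scr.cons (nat_lit 1) (nat_lit 1) (Step.D (nat_lit 8514) (Step.B (nat_lit 1161) Step.done)) (Scr.cons (nat_lit 8) (nat_lit 1) (Step.L (Step.L (Step.L (Step.L (Step.L (Step.L (Step.L (Step.L (Step.D (nat_lit 822) (Step.B (nat_lit 1162) (Step.D (nat_lit 3556) (Step.B (nat_lit 5998) (Step.F (nat_lit 5999) (Step.L (Step.L Step.done))))))))))))))) (Scr.cons (nat_lit 12) (nat_lit 1) (Step.L (Step.L (Step.L (Step.L (Step.D (nat_lit 8516) Step.done))))) (Scr.cons (nat_lit 12) (nat_lit 1) (Step.L (Step.D (nat_lit 8516) (Step.F (nat_lit 6001) (Step.L (Step.L Step.done))))) Scr.nil))))))))))))))))))))))))))))))))))))))))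
noncomputable def s150 : Scr := (Scr.cons (nat_lit 12) (nat_lit 1) (Step.L (Step.L (Step.L (Step.L (Step.D (nat_lit 8517) Step.done))))) (Scr.cons (nat_lit 12) (nat_lit 1) (Step.L (Step.D (nat_lit 8517) (Step.F (nat_lit 6003) (Step.L (Step.L Step.done))))) (Scr.cons (nat_lit 12) (nat_lit 1) (Step.L (Step.L (Step.L (Step.L (Step.D (nat_lit 8529) Step.done))))) (Scr.cons (nat_lit 12) (nat_lit 1) (Step.L (Step.D (nat_lit 8529) (Step.F (nat_lit 6005) (Step.L (Step.L Step.done))))) (Scr.cons (nat_lit 12) (nat_lit 4) (Step.U (nat_lit 628) (Step.L (Step.L (Step.D (nat_lit 628) (Step.D (nat_lit 1502) Step.done))))) (Scr.cons (nat_lit 13) (nat_lit 0) (Step.L (Step.L (Step.L (Step.L (Step.L (Step.L (Step.D (nat_lit 628) (Step.B (nat_lit 6007) (Step.D (nat_lit 3027) (Step.D (nat_lit 5447) (Step.D (nat_lit 8531) Step.done))))))))))) (Scr.cons (nat_lit 12) (nat_lit 1) (Step.U (nat_lit 3027) (Step.F (nat_lit 6007) (Step.D (nat_lit 1502) (Step.D (nat_lit 3027) (Step.D (nat_lit 5447)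 Step.done))))) (Scr.cons (nat_lit 6) (nat_lit 3) (Step.L (Step.L (Step.L (Step.L (Step.L (Step.L (Step.D (nat_lit 628) (Step.D (nat_lit 1502) (Step.D (nat_lit 3027) (Step.B (nat_lit 6009) (Step.D (nat_lit 8531) Step.done))))))))))) (Scr.cons (nat_lit 12) (nat_lit 4) (Step.L (Step.B (nat_lit 6008) (Step.F (nat_lit 6010) (Step.L (Step.L Step.done))))) (Scr.cons (nat_lit 12) (nat_lit 1) (Step.L (Step.L (Step.L (Step.L (Step.D (nat_lit 7527) Step.done))))) (Scr.cons (nat_lit 7) (nat_lit 6) (Step.F (nat_lit 6012) (Step.L (Step.L (Step.L (Step.L (Step.L (Step.L (Step.L (Step.L (Step.L (Step.L (Step.L (Step.L (Step.L (Step.L (Step.L (Step.L (Step.L (Step.L (Step.D (nat_lit 7471) (Step.D (nat_lit 10523) Step.done))))))))))))))))))))) (Scr.cons (nat_lit 1) (nat_lit 1) (Step.D (nat_lit 10523) (Step.F (nat_lit 6013) (Step.D (nat_lit 10573) Step.done))) (Scr.cons (nat_lit 1) (nat_lit 1) (Step.D (nat_lit 10573) (Step.F (nat_lit 6014) Step.done)) (Scr.cons (nat_lit 4) (nat_lit 0) (Step.U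 (nat_lit 10522) (Step.L (Step.D (nat_lit 7471) (Step.F (nat_lit 6015) (Step.D (nat_lit 10574) Step.done))))) (Scr.cons (nat_lit 12) (nat_lit 1) (Step.L (Step.L (Step.L (Step.L (Step.D (nat_lit 1183) Step.done))))) (Scr.cons (nat_lit 12) (nat_lit 1) (Step.L (Step.D (nat_lit 1183) (Step.F (nat_lit 6017) (Step.L (Step.D (nat_lit 2456) Step.done))))) (Scr.cons (nat_lit 11) (nat_lit 0) (Step.L (Step.L (Step.L (Step.D (nat_lit 436) (Step.D (nat_lit 1120) Step.done))))) (Scr.cons (nat_lit 12) (nat_lit 1) (Step.F (nat_lit 6019) (Step.L (Step.L (Step.B (nat_lit 6019) (Step.D (nat_lit 2348) Step.done))))) (Scr.cons (nat_lit 14) (nat_lit 2) (Step.F (nat_lit 6018) (Step.L (Step.L (Step.L (Step.L (Step.L (Step.L (Step.L (Step.L (Step.L (Step.L (Step.L (Step.L (Step.L (Step.L (Step.L (Step.D (nat_lit 436) (Step.D (nat_lit 1120) (Step.B (nat_lit 6020) (Step.D (nat_lit 4378) Step.done)))))))))))))))))))) (Scr.cons (nat_lit 4) (nat_lit 0) (Step.U (nat_lit 4572) (Step.B (nat_lit 6021)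 (Step.U (nat_lit 4378) (Step.D (nat_lit 4379) (Step.D (nat_lit 7296) Step.done))))) (Scr.cons (nat_lit 12) (nat_lit 1) (Step.U (nat_lit 4379) (Step.F (nat_lit 6020) (Step.D (nat_lit 2348) (Step.D (nat_lit 4379) (Step.D (nat_lit 7295) Step.done))))) (Scr.cons (nat_lit 11) (nat_lit 0) (Step.L (Step.L (Step.L (Step.L (Step.D (nat_lit 636) Step.done))))) (Scr.cons (nat_lit 12) (nat_lit 1) (Step.F (nat_lit 6024) (Step.L (Step.L (Step.B (nat_lit 6024) (Step.D (nat_lit 1516) Step.done))))) (Scr.cons (nat_lit 12) (nat_lit 1) (Step.U (nat_lit 3043) (Step.F (nat_lit 6025) (Step.D (nat_lit 1516) (Step.D (nat_lit 3043) (Step.D (nat_lit 5468) Step.done))))) (Scr.cons (nat_lit 16) (nat_lit 5) (Step.F (nat_lit 6026) (Step.U (nat_lit 3043) (Step.F (nat_lit 6025) (Step.F (nat_lit 6024) (Step.L (Step.L (Step.L (Step.L (Step.L (Step.L (Step.L (Step.L (Step.L (Step.L (Step.L (Step.L (Step.L (Step.L (Step.L (Step.L (Step.L (Step.D (nat_lit 5375) (Step.D (nat_lit 8431) Step.done)))))))))))))))))))))))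 (Scr.cons (nat_lit 4) (nat_lit 0) (Step.B (nat_lit 6027) (Step.U (nat_lit 8431) (Step.U (nat_lit 5375) (Step.D (nat_lit 5376) (Step.D (nat_lit 8432) Step.done))))) (Scr.cons (nat_lit 1) (nat_lit 1) (Step.D (nat_lit 1170) (Step.B (nat_lit 5795) (Step.D (nat_lit 636) Step.done))) (Scr.cons (nat_lit 0) (nat_lit 1) (Step.U (nat_lit 1516) (Step.F (nat_lit 6029) (Step.L Step.done))) (Scr.cons (nat_lit 1) (nat_lit 0) (Step.U (nat_lit 3043) (Step.B (nat_lit 6030) (Step.L Step.done))) (Scr.cons (nat_lit 0) (nat_lit 1) (Step.U (nat_lit 5468) (Step.B (nat_lit 6031) (Step.L Step.done))) (Scr.cons (nat_lit 1) (nat_lit 1) (Step.F (nat_lit 6028) (Step.B (nat_lit 6032) (Step.L Step.done))) (Scr.cons (nat_lit 1) (nat_lit 1) (Step.D (nat_lit 8432) (Step.B (nat_lit 6033) (Step.D (nat_lit 4522) Step.done))) (Scr.cons (nat_lit 1) (nat_lit 1) (Step.D (nat_lit 5376) (Step.B (nat_lit 6034) (Step.D (nat_lit 7470) Step.done))) (Scr.cons (nat_lit 1) (nat_lit 1) (Step.D (nat_lit 7470) (Step.F (nat_lit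 6035) Step.done)) (Scr.cons (nat_lit 7) (nat_lit 5) (Step.L (Step.L (Step.F (nat_lit 6036) (Step.U (nat_lit 4522) (Step.L (Step.L (Step.L (Step.L (Step.L (Step.L (Step.L (Step.L (Step.L (Step.L (Step.L (Step.D (nat_lit 2456) (Step.B (nat_lit 6021) (Step.U (nat_lit 4378) (Step.D (nat_lit 4379) (Step.B (nat_lit 6023) (Step.D (nat_lit 10363) Step.done))))))))))))))))))))) (Scr.cons (nat_lit 1) (nat_lit 1) (Step.D (nat_lit 10363) (Step.F (nat_lit 6037) (Step.D (nat_lit 5377) Step.done))) (Scr.cons (nat_lit 0) (nat_lit 1) (Step.B (nat_lit 6023) (Step.B (nat_lit 6038) (Step.D (nat_lit 8433) Step.done))) (Scr.cons (nat_lit 0) (nat_lit 1) (Step.D (nat_lit 8433) (Step.F (nat_lit 6039) Step.done)) (Scr.cons (nat_lit 11) (nat_lit 0) (Step.L (Step.L (Step.L (Step.L (Step.D (nat_lit 5377) Step.done))))) (Scr.cons (nat_lit 14) (nat_lit 0) (Step.B (nat_lit 6016) (Step.U (nat_lit 10574) (Step.F (nat_lit 6012) (Step.L (Step.L (Step.L (Step.L (Step.L (Step.L (Step.D (nat_lit 2456) (Step.D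 (nat_lit 4572) (Step.B (nat_lit 6022) (Step.U (nat_lit 7296) (Step.F (nat_lit 6040) (Step.F (nat_lit 6041) (Step.L (Step.L (Step.L (Step.L (Step.D (nat_lit 11303) Step.done)))))))))))))))))))) Scr.nil))))))))))))))))))))))))))))))))))))))))
noncomputable def s151 : Scr := (Scr.cons (nat_lit 11) (nat_lit 0) (Step.U (nat_lit 8434) (Step.L (Step.L (Step.L (Step.D (nat_lit 11303) Step.done))))) (Scr.cons (nat_lit 16) (nat_lit 5) (Step.L (Step.D (nat_lit 10522) (Step.B (nat_lit 6042) (Step.F (nat_lit 6043) (Step.U (nat_lit 8434) (Step.L (Step.L (Step.L (Step.L (Step.L (Step.L (Step.L (Step.L (Step.L (Step.L (Step.L (Step.L (Step.L (Step.L (Step.L (Step.L (Step.L (Step.D (nat_lit 11381) Step.done))))))))))))))))))))))) (Scr.cons (nat_lit 4) (nat_lit 0) (Step.B (nat_lit 6044) (Step.U (nat_lit 11381) (Step.L (Step.L (Step.L Step.done))))) (Scr.cons (nat_lit 12) (nat_lit 4) (Step.U (nat_lit 8564) (Step.L (Step.L (Step.D (nat_lit 8564) (Step.D (nat_lit 11378) Step.done))))) (Scr.cons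 (nat_lit 11) (nat_lit 0) (Step.L (Step.L (Step.D (nat_lit 2738) (Step.D (nat_lit 4980) (Step.D (nat_lit 7988) Step.done))))) (Scr.cons (nat_lit 11) (nat_lit 0) (Step.U (nat_lit 7987) (Step.U (nat_lit 4977) (Step.D (nat_lit 4976) (Step.D (nat_lit 7986) (Step.D (nat_lit 10962) Step.done))))) (Scr.cons (nat_lit 7) (nat_lit 6) (Step.U (nat_lit 7586) (Step.U (nat_lit 4627) (Step.U (nat_lit 2503) (Step.U (nat_lit 1209) (Step.L (Step.L (Step.L (Step.L (Step.L (Step.L (Step.L (Step.L (Step.L (Step.L (Step.L (Step.L (Step.L (Step.L (Step.D (nat_lit 4977) (Step.D (nat_lit 7987) Step.done)))))))))))))))))))) (Scr.cons (nat_lit 11) (nat_lit 0) (Step.U (nat_lit 4628) (Step.U (nat_lit 2504) (Step.D (nat_lit 2503) (Step.D (nat_lit 4627) (Step.D (nat_lit 7586) Step.done))))) (Scr.cons (nat_lit 12) (nat_lit 4) (Step.L (Step.L (Step.L (Step.L (Step.D (nat_lit 1209) Step.done))))) (Scr.cons (nat_lit 11) (nat_lit 0) (Step.U (nat_lit 469) (Step.L (Step.L (Step.L (Step.D (nat_lit 1185) Step.done)))))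 (Scr.cons (nat_lit 12) (nat_lit 1) (Step.U (nat_lit 469) (Step.L (Step.L (Step.D (nat_lit 469) (Step.D (nat_lit 1186) Step.done))))) (Scr.cons (nat_lit 12) (nat_lit 1) (Step.F (nat_lit 6052) (Step.D (nat_lit 1186) (Step.F (nat_lit 6053) (Step.B (nat_lit 6052) (Step.D (nat_lit 2466) Step.done))))) (Scr.cons (nat_lit 7) (nat_lit 5) (Step.L (Step.L (Step.L (Step.L (Step.L (Step.L (Step.L (Step.L (Step.L (Step.L (Step.L (Step.L (Step.L (Step.L (Step.L (Step.L (Step.D (nat_lit 469) (Step.B (nat_lit 6052) (Step.B (nat_lit 6054) (Step.D (nat_lit 4582) Step.done)))))))))))))))))))) (Scr.cons (nat_lit 11) (nat_lit 0) (Step.L (Step.L (Step.L (Step.L (Step.D (nat_lit 6537) Step.done))))) (Scr.cons (nat_lit 12) (nat_lit 1) (Step.F (nat_lit 6056) (Step.L (Step.L (Step.B (nat_lit 6056) (Step.D (nat_lit 9685) Step.done))))) (Scr.cons (nat_lit 12) (nat_lit 4) (Step.U (nat_lit 4581) (Step.F (nat_lit 6054) (Step.D (nat_lit 2466) (Step.D (nat_lit 4581) (Step.D (nat_lit 7536) Step.done)))))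 (Scr.cons (nat_lit 12) (nat_lit 4) (Step.L (Step.L (Step.L (Step.L (Step.D (nat_lit 7109) Step.done))))) (Scr.cons (nat_lit 0) (nat_lit 1) (Step.U (nat_lit 7235) (Step.B (nat_lit 3375) (Step.L Step.done))) (Scr.cons (nat_lit 1) (nat_lit 1) (Step.F (nat_lit 2314) (Step.B (nat_lit 6060) (Step.L Step.done))) (Scr.cons (nat_lit 1) (nat_lit 1) (Step.D (nat_lit 9680) (Step.B (nat_lit 6061) (Step.D (nat_lit 7110) Step.done))) (Scr.cons (nat_lit 1) (nat_lit 1) (Step.D (nat_lit 7110) (Step.F (nat_lit 6062) Step.done)) (Scr.cons (nat_lit 12) (nat_lit 1) (Step.U (nat_lit 2497) (Step.L (Step.L (Step.D (nat_lit 2497) (Step.D (nat_lit 4620) Step.done))))) (Scr.cons (nat_lit 1) (nat_lit 1) (Step.D (nat_lit 10614) (Step.F (nat_lit 3322) Step.done)) (Scr.cons (nat_lit 12) (nat_lit 1) (Step.U (nat_lit 2469) (Step.F (nat_lit 6053) (Step.D (nat_lit 1186) (Step.D (nat_lit 2469) (Step.D (nat_lit 4584) Step.done))))) (Scr.cons (nat_lit 12) (nat_lit 1) (Step.U (nat_lit 7540) (Step.F (nat_lit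 6066) (Step.D (nat_lit 4584) (Step.D (nat_lit 7540) (Step.D (nat_lit 10585) Step.done))))) (Scr.cons (nat_lit 1) (nat_lit 1) (Step.D (nat_lit 3634) (Step.F (nat_lit 3297) Step.done)) (Scr.cons (nat_lit 14) (nat_lit 4) (Step.U (nat_lit 4585) (Step.U (nat_lit 2469) (Step.U (nat_lit 1186) (Step.U (nat_lit 469) (Step.L (Step.L (Step.L (Step.L (Step.L (Step.L (Step.L (Step.L (Step.L (Step.L (Step.L (Step.L (Step.L (Step.D (nat_lit 1379) (Step.D (nat_lit 2813) (Step.D (nat_lit 5097) Step.done)))))))))))))))))))) (Scr.cons (nat_lit 11) (nat_lit 0) (Step.F (nat_lit 6069) (Step.U (nat_lit 4585) (Step.U (nat_lit 2469) (Step.D (nat_lit 2468) (Step.D (nat_lit 4583) Step.done))))) (Scr.cons (nat_lit 12) (nat_lit 1) (Step.F (nat_lit 6070) (Step.F (nat_lit 5062) (Step.D (nat_lit 5097) (Step.B (nat_lit 6070) (Step.D (nat_lit 7538) Step.done))))) (Scr.cons (nat_lit 12) (nat_lit 1) (Step.U (nat_lit 3633) (Step.F (nat_lit 4501) (Step.D (nat_lit 1868) (Step.D (nat_lit 3633) (Step.D (nat_lit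 6338) Step.done))))) (Scr.cons (nat_lit 12) (nat_lit 1) (Step.U (nat_lit 6339) (Step.D (nat_lit 6338) (Step.F (nat_lit 6072) (Step.D (nat_lit 6339) (Step.D (nat_lit 9496) Step.done))))) (Scr.cons (nat_lit 12) (nat_lit 4) (Step.U (nat_lit 5096) (Step.F (nat_lit 5061) (Step.D (nat_lit 2812) (Step.D (nat_lit 5096) (Step.D (nat_lit 8111) Step.done))))) (Scr.cons (nat_lit 12) (nat_lit 1) (Step.U (nat_lit 3728) (Step.L (Step.L (Step.D (nat_lit 3728) (Step.D (nat_lit 6467) Step.done))))) (Scr.cons (nat_lit 15) (nat_lit 0) (Step.U (nat_lit 9613) (Step.F (nat_lit 6075) (Step.U (nat_lit 3728) (Step.L (Step.L (Step.L (Step.L (Step.L (Step.L (Step.L (Step.D (nat_lit 1379) (Step.D (nat_lit 2812) (Step.D (nat_lit 5096) (Step.D (nat_lit 8111) (Step.D (nat_lit 11089) Step.done))))))))))))))) (Scr.cons (nat_lit 12) (nat_lit 4) (Step.U (nat_lit 11089) (Step.F (nat_lit 6074) (Step.D (nat_lit 8111) (Step.D (nat_lit 11089) (Step.F (nat_lit 6076) Step.done))))) (Scr.cons (nat_lit 4) (nat_lit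 0) (Step.U (nat_lit 4239) (Step.U (nat_lit 2248) (Step.L (Step.D (nat_lit 3728) (Step.D (nat_lit 6468) Step.done))))) (Scr.cons (nat_lit 12) (nat_lit 1) (Step.U (nat_lit 2292) (Step.L (Step.L (Step.D (nat_lit 2292) (Step.D (nat_lit 4301) Step.done))))) (Scr.cons (nat_lit 8) (nat_lit 1) (Step.U (nat_lit 4314) (Step.U (nat_lit 2299) (Step.U (nat_lit 1093) (Step.L (Step.L (Step.L (Step.L (Step.L (Step.L (Step.L (Step.L (Step.L (Step.D (nat_lit 2292) (Step.B (nat_lit 6079) (Step.D (nat_lit 7208) Step.done))))))))))))))) (Scr.cons (nat_lit 1) (nat_lit 1) (Step.U (nat_lit 7075) (Step.B (nat_lit 3396) (Step.L Step.done))) (Scr.cons (nat_lit 1) (nat_lit 1) (Step.B (nat_lit 3391) (Step.B (nat_lit 6081) (Step.L Step.done))) Scr.nil))))))))))))))))))))))))))))))))))))))))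
noncomputable def s152 : Scr := (Scr.cons (nat_lit 1) (nat_lit 1) (Step.D (nat_lit 4236) (Step.B (nat_lit 6082) (Step.L Step.done))) (Scr.cons (nat_lit 0) (nat_lit 1) (Step.B (nat_lit 3389) (Step.B (nat_lit 6083) (Step.L Step.done))) (Scr.cons (nat_lit 1) (nat_lit 1) (Step.D (nat_lit 1062) (Step.B (nat_lit 6084) (Step.D (nat_lit 1093) Step.done))) (Scr.cons (nat_lit 0) (nat_lit 1) (Step.U (nat_lit 2299) (Step.F (nat_lit 6085) (Step.L Step.done))) (Scr.cons (nat_lit 1) (nat_lit 1) (Step.U (nat_lit 4314) (Step.B (nat_lit 6086) (Step.L Step.done))) (Scr.cons (nat_lit 0) (nat_lit 1) (Step.F (nat_lit 6080) (Step.B (nat_lit 6087) (Step.L Step.done))) (Scr.cons (nat_lit 1) (nat_lit 1) (Step.D (nat_lit 7208) (Step.B (nat_lit 6088) (Step.L Step.done))) (Scr.cons (nat_lit 0) (nat_lit 1) (Step.B (nat_lit 6079) (Step.B (nat_lit 6089) (Step.L Step.done))) (Scr.cons (nat_lit 1) (nat_lit 1) (Step.D (nat_lit 2292) (Step.B (nat_lit 6090) (Step.D (nat_lit 2248) Step.done))) (Scr.cons (nat_lit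 1) (nat_lit 1) (Step.U (nat_lit 4239) (Step.F (nat_lit 6091) (Step.D (nat_lit 2291) Step.done))) (Scr.cons (nat_lit 1) (nat_lit 1) (Step.F (nat_lit 6078) (Step.B (nat_lit 6092) (Step.D (nat_lit 4300) Step.done))) (Scr.cons (nat_lit 1) (nat_lit 0) (Step.D (nat_lit 6468) (Step.B (nat_lit 6093) Step.done)) (Scr.cons (nat_lit 12) (nat_lit 4) (Step.U (nat_lit 2291) (Step.L (Step.L (Step.D (nat_lit 2291) (Step.D (nat_lit 4299) Step.done))))) (Scr.cons (nat_lit 12) (nat_lit 4) (Step.U (nat_lit 4300) (Step.D (nat_lit 4299) (Step.F (nat_lit 6095) (Step.D (nat_lit 4300) (Step.D (nat_lit 7207) Step.done))))) (Scr.cons (nat_lit 11) (nat_lit 0) (Step.U (nat_lit 7133) (Step.L (Step.L (Step.D (nat_lit 7132) (Step.D (nat_lit 10232) Step.done))))) (Scr.cons (nat_lit 12) (nat_lit 1) (Step.L (Step.L (Step.L (Step.L (Step.D (nat_lit 10340) Step.done))))) (Scr.cons (nat_lit 6) (nat_lit 1) (Step.L (Step.L (Step.L (Step.L (Step.L (Step.L (Step.L (Step.L (Step.D (nat_lit 4221) (Step.D (nat_lit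 7102) (Step.D (nat_lit 10209) Step.done))))))))))) (Scr.cons (nat_lit 12) (nat_lit 4) (Step.U (nat_lit 4221) (Step.L (Step.L (Step.D (nat_lit 4221) (Step.D (nat_lit 7102) Step.done))))) (Scr.cons (nat_lit 1) (nat_lit 1) (Step.B (nat_lit 5188) (Step.B (nat_lit 5219) (Step.D (nat_lit 7146) Step.done))) (Scr.cons (nat_lit 1) (nat_lit 1) (Step.D (nat_lit 7146) (Step.F (nat_lit 6101) Step.done)) (Scr.cons (nat_lit 6) (nat_lit 3) (Step.L (Step.L (Step.L (Step.L (Step.L (Step.L (Step.L (Step.L (Step.D (nat_lit 2251) (Step.B (nat_lit 5189) (Step.D (nat_lit 7129) Step.done))))))))))) (Scr.cons (nat_lit 16) (nat_lit 1) (Step.F (nat_lit 6098) (Step.L (Step.L (Step.L (Step.L (Step.L (Step.L (Step.L (Step.L (Step.L (Step.B (nat_lit 6099) (Step.U (nat_lit 10209) (Step.F (nat_lit 6100) (Step.F (nat_lit 5221) (Step.B (nat_lit 6102) (Step.U (nat_lit 4243) (Step.D (nat_lit 4242) (Step.D (nat_lit 7129) (Step.F (nat_lit 6103) (Step.D (nat_lit 7132) (Step.D (nat_lit 10232) (Step.F (nat_lit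 6097) (Step.D (nat_lit 10233) Step.done))))))))))))))))))))))) (Scr.cons (nat_lit 6) (nat_lit 0) (Step.L (Step.L (Step.L (Step.L (Step.L (Step.L (Step.L (Step.L (Step.L (Step.L (Step.D (nat_lit 10286) Step.done))))))))))) (Scr.cons (nat_lit 12) (nat_lit 1) (Step.L (Step.L (Step.L (Step.L (Step.D (nat_lit 7201) Step.done))))) (Scr.cons (nat_lit 12) (nat_lit 1) (Step.L (Step.D (nat_lit 7201) (Step.F (nat_lit 6106) (Step.L (Step.D (nat_lit 10286) Step.done))))) (Scr.cons (nat_lit 13) (nat_lit 3) (Step.U (nat_lit 4299) (Step.U (nat_lit 2291) (Step.L (Step.L (Step.L (Step.L (Step.L (Step.L (Step.L (Step.L (Step.D (nat_lit 7201) Step.done))))))))))) (Scr.cons (nat_lit 15) (nat_lit 0) (Step.F (nat_lit 6097) (Step.D (nat_lit 10233) (Step.F (nat_lit 6104) (Step.F (nat_lit 6098) (Step.L (Step.L (Step.B (nat_lit 6105) (Step.F (nat_lit 6107) (Step.L (Step.D (nat_lit 7201) (Step.F (nat_lit 6108) (Step.F (nat_lit 6095) (Step.D (nat_lit 4300) (Step.D (nat_lit 7207) (Step.D (nat_lit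 10293) Step.done))))))))))))))) (Scr.cons (nat_lit 13) (nat_lit 0) (Step.L (Step.L (Step.L (Step.L (Step.L (Step.L (Step.L (Step.L (Step.D (nat_lit 2251) (Step.D (nat_lit 4242) (Step.D (nat_lit 7129) Step.done))))))))))) (Scr.cons (nat_lit 12) (nat_lit 4) (Step.U (nat_lit 7132) (Step.B (nat_lit 6110) (Step.F (nat_lit 6103) (Step.D (nat_lit 7132) (Step.D (nat_lit 10231) Step.done))))) (Scr.cons (nat_lit 12) (nat_lit 1) (Step.L (Step.L (Step.L (Step.L (Step.D (nat_lit 7162) Step.done))))) (Scr.cons (nat_lit 12) (nat_lit 1) (Step.L (Step.D (nat_lit 7162) (Step.F (nat_lit 6112) (Step.L (Step.D (nat_lit 10260) Step.done))))) (Scr.cons (nat_lit 6) (nat_lit 3) (Step.U (nat_lit 7163) (Step.U (nat_lit 4266) (Step.L (Step.L (Step.L (Step.L (Step.L (Step.L (Step.L (Step.B (nat_lit 6112) (Step.D (nat_lit 10259) Step.done))))))))))) (Scr.cons (nat_lit 15) (nat_lit 1) (Step.F (nat_lit 6113) (Step.L (Step.D (nat_lit 7162) (Step.D (nat_lit 10259) (Step.F (nat_lit 6114) (Step.B (nat_lit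 5216) (Step.F (nat_lit 5217) (Step.U (nat_lit 10228) (Step.F (nat_lit 5190) (Step.U (nat_lit 4243) (Step.D (nat_lit 4242) (Step.D (nat_lit 7129) (Step.F (nat_lit 6103) (Step.D (nat_lit 7132) (Step.D (nat_lit 10231) Step.done))))))))))))))) (Scr.cons (nat_lit 11) (nat_lit 0) (Step.L (Step.L (Step.D (nat_lit 4265) (Step.D (nat_lit 7161) (Step.D (nat_lit 10258) Step.done))))) (Scr.cons (nat_lit 6) (nat_lit 1) (Step.B (nat_lit 6077) (Step.U (nat_lit 9613) (Step.F (nat_lit 6075) (Step.B (nat_lit 6094) (Step.B (nat_lit 6096) (Step.D (nat_lit 10293) (Step.F (nat_lit 6109) (Step.U (nat_lit 10232) (Step.B (nat_lit 6111) (Step.F (nat_lit 6115) (Step.F (nat_lit 6113) (Step.B (nat_lit 6116) Step.done)))))))))))) (Scr.cons (nat_lit 1) (nat_lit 0) (Step.D (nat_lit 11089) (Step.B (nat_lit 6117) (Step.U (nat_lit 10258) Step.done))) (Scr.cons (nat_lit 0) (nat_lit 1) (Step.B (nat_lit 6074) (Step.B (nat_lit 6118) (Step.D (nat_lit 10257) Step.done))) (Scr.cons (nat_lit 0) (nat_lit 1) (Step.D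 (nat_lit 10257) (Step.F (nat_lit 6119) Step.done)) (Scr.cons (nat_lit 15) (nat_lit 1) (Step.F (nat_lit 6072) (Step.U (nat_lit 3633) (Step.F (nat_lit 4501) (Step.F (nat_lit 2243) (Step.F (nat_lit 2236) (Step.U (nat_lit 422) (Step.B (nat_lit 2234) (Step.U (nat_lit 418) (Step.L (Step.L (Step.L (Step.L (Step.L (Step.D (nat_lit 4265) (Step.D (nat_lit 7160) Step.done))))))))))))))) (Scr.cons (nat_lit 13) (nat_lit 3) (Step.F (nat_lit 6070) (Step.U (nat_lit 5097) (Step.U (nat_lit 2813) (Step.D (nat_lit 2812) (Step.D (nat_lit 5096) (Step.F (nat_lit 6120) (Step.U (nat_lit 7161) (Step.D (nat_lit 7160) (Step.F (nat_lit 6121) (Step.U (nat_lit 6338) (Step.D (nat_lit 6339) (Step.D (nat_lit 9496) Step.done)))))))))))) Scr.nil))))))))))))))))))))))))))))))))))))))))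
noncomputable def s153 : Scr := (Scr.cons (nat_lit 0) (nat_lit 1) (Step.B (nat_lit 6073) (Step.F (nat_lit 6122) (Step.D (nat_lit 7538) Step.done))) (Scr.cons (nat_lit 0) (nat_lit 0) (Step.B (nat_lit 6071) (Step.F (nat_lit 6123) Step.done)) (Scr.cons (nat_lit 7) (nat_lit 6) (Step.F (nat_lit 6065) (Step.U (nat_lit 7578) (Step.F (nat_lit 3306) (Step.U (nat_lit 3887) (Step.F (nat_lit 6068) (Step.U (nat_lit 1870) (Step.F (nat_lit 3279) (Step.D (nat_lit 859) (Step.B (nat_lit 3292) (Step.B (nat_lit 2243) (Step.B (nat_lit 4501) (Step.D (nat_lit 3633) (Step.D (nat_lit 6339) (Step.F (nat_lit 6124) (Step.U (nat_lit 4583) (Step.U (nat_lit 2468) (Step.D (nat_lit 2469) (Step.B (nat_lit 6066) (Step.D (nat_lit 7540) (Step.D (nat_lit 10586) Step.done)))))))))))))))))))) (Scr.cons (nat_lit 12) (nat_lit 1) (Step.U (nat_lit 10586) (Step.D (nat_lit 10585) (Step.F (nat_lit 6067) (Step.D (nat_lit 10586) (Step.F (nat_lit 6125) Step.done))))) (Scr.cons (nat_lit 12) (nat_lit 4) (Step.U (nat_lit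 7539) (Step.F (nat_lit 6066) (Step.D (nat_lit 4584) (Step.D (nat_lit 7539) (Step.D (nat_lit 10584) Step.done))))) (Scr.cons (nat_lit 14) (nat_lit 1) (Step.U (nat_lit 10216) (Step.F (nat_lit 6059) (Step.B (nat_lit 6063) (Step.U (nat_lit 6532) (Step.L (Step.L (Step.L (Step.L (Step.L (Step.L (Step.D (nat_lit 4618) (Step.F (nat_lit 3300) (Step.B (nat_lit 6064) (Step.D (nat_lit 7578) (Step.B (nat_lit 6065) (Step.F (nat_lit 6126) (Step.U (nat_lit 10586) (Step.U (nat_lit 7540) (Step.D (nat_lit 7539) (Step.B (nat_lit 6127) Step.done)))))))))))))))))))) (Scr.cons (nat_lit 14) (nat_lit 5) (Step.F (nat_lit 6128) (Step.U (nat_lit 10216) (Step.U (nat_lit 7109) (Step.B (nat_lit 6063) (Step.U (nat_lit 6532) (Step.L (Step.L (Step.L (Step.L (Step.L (Step.L (Step.L (Step.L (Step.L (Step.L (Step.L (Step.L (Step.L (Step.L (Step.D (nat_lit 6536) (Step.D (nat_lit 9684) Step.done))))))))))))))))))))) (Scr.cons (nat_lit 0) (nat_lit 1) (Step.D (nat_lit 10584) (Step.B (nat_lit 6129) Step.done))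 (Scr.cons (nat_lit 13) (nat_lit 2) (Step.D (nat_lit 6536) (Step.D (nat_lit 9684) (Step.F (nat_lit 6130) (Step.U (nat_lit 7539) (Step.F (nat_lit 6066) (Step.U (nat_lit 2469) (Step.U (nat_lit 1186) (Step.B (nat_lit 6052) (Step.D (nat_lit 2466) (Step.D (nat_lit 4581) (Step.B (nat_lit 6058) (Step.D (nat_lit 10582) Step.done)))))))))))) (Scr.cons (nat_lit 1) (nat_lit 1) (Step.D (nat_lit 10582) (Step.F (nat_lit 6131) (Step.D (nat_lit 6537) Step.done))) (Scr.cons (nat_lit 0) (nat_lit 1) (Step.B (nat_lit 6058) (Step.B (nat_lit 6132) (Step.D (nat_lit 9685) Step.done))) (Scr.cons (nat_lit 0) (nat_lit 0) (Step.B (nat_lit 6057) (Step.F (nat_lit 6133) Step.done)) (Scr.cons (nat_lit 11) (nat_lit 0) (Step.L (Step.L (Step.D (nat_lit 1530) (Step.D (nat_lit 3062) (Step.D (nat_lit 5483) Step.done))))) (Scr.cons (nat_lit 12) (nat_lit 1) (Step.F (nat_lit 6135) (Step.L (Step.L (Step.B (nat_lit 6135) (Step.D (nat_lit 8570) Step.done))))) (Scr.cons (nat_lit 14) (nat_lit 2) (Step.F (nat_lit 6136)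 (Step.F (nat_lit 6135) (Step.L (Step.L (Step.L (Step.L (Step.L (Step.L (Step.L (Step.L (Step.L (Step.L (Step.L (Step.L (Step.L (Step.L (Step.L (Step.L (Step.L (Step.L Step.done)))))))))))))))))))) (Scr.cons (nat_lit 16) (nat_lit 0) (Step.F (nat_lit 6048) (Step.F (nat_lit 6049) (Step.F (nat_lit 6050) (Step.U (nat_lit 4628) (Step.U (nat_lit 2504) (Step.F (nat_lit 6051) (Step.L (Step.L (Step.B (nat_lit 6055) (Step.U (nat_lit 4582) (Step.D (nat_lit 4581) (Step.F (nat_lit 6134) (Step.F (nat_lit 6056) (Step.L (Step.L (Step.L (Step.L (Step.L (Step.L (Step.L (Step.L (Step.F (nat_lit 6137) (Step.D (nat_lit 11382) Step.done))))))))))))))))))))))) (Scr.cons (nat_lit 11) (nat_lit 0) (Step.L (Step.L (Step.D (nat_lit 229) (Step.D (nat_lit 638) (Step.D (nat_lit 1522) Step.done))))) (Scr.cons (nat_lit 12) (nat_lit 1) (Step.F (nat_lit 6139) (Step.L (Step.L (Step.B (nat_lit 6139) (Step.D (nat_lit 3051) Step.done))))) (Scr.cons (nat_lit 14) (nat_lit 2) (Step.F (nat_lit 6140) (Step.F (nat_lit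 6139) (Step.L (Step.L (Step.L (Step.L (Step.L (Step.L (Step.L (Step.L (Step.L (Step.L (Step.L (Step.L (Step.L (Step.L (Step.L (Step.L (Step.L (Step.L Step.done)))))))))))))))))))) (Scr.cons (nat_lit 4) (nat_lit 0) (Step.U (nat_lit 5475) (Step.B (nat_lit 6141) (Step.L (Step.L (Step.D (nat_lit 5482) Step.done))))) (Scr.cons (nat_lit 12) (nat_lit 4) (Step.U (nat_lit 5475) (Step.F (nat_lit 6140) (Step.D (nat_lit 3051) (Step.D (nat_lit 5475) (Step.D (nat_lit 8563) Step.done))))) (Scr.cons (nat_lit 9) (nat_lit 5) (Step.U (nat_lit 10963) (Step.U (nat_lit 7988) (Step.U (nat_lit 4980) (Step.U (nat_lit 2738) (Step.L (Step.L (Step.L (Step.D (nat_lit 4977) (Step.D (nat_lit 7987) (Step.B (nat_lit 6048) (Step.B (nat_lit 6138) (Step.U (nat_lit 11382) (Step.U (nat_lit 8570) (Step.U (nat_lit 5483) (Step.U (nat_lit 3062) (Step.U (nat_lit 1530) (Step.L (Step.L (Step.L (Step.L (Step.D (nat_lit 5482) (Step.F (nat_lit 6142) (Step.B (nat_lit 6143) (Step.D (nat_lit 11377) Step.done))))))))))))))))))))))))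 (Scr.cons (nat_lit 1) (nat_lit 0) (Step.D (nat_lit 11377) (Step.F (nat_lit 6144) Step.done)) (Scr.cons (nat_lit 13) (nat_lit 1) (Step.B (nat_lit 6047) (Step.D (nat_lit 10963) (Step.F (nat_lit 6145) (Step.U (nat_lit 8563) (Step.U (nat_lit 5475) (Step.F (nat_lit 6140) (Step.F (nat_lit 6139) (Step.L (Step.L (Step.L (Step.D (nat_lit 8564) (Step.B (nat_lit 6046) Step.done)))))))))))) (Scr.cons (nat_lit 0) (nat_lit 1) (Step.B (nat_lit 6046) (Step.F (nat_lit 6146) (Step.L Step.done))) (Scr.cons (nat_lit 1) (nat_lit 0) (Step.D (nat_lit 8564) (Step.B (nat_lit 6147) (Step.D (nat_lit 10964) Step.done))) (Scr.cons (nat_lit 1) (nat_lit 0) (Step.D (nat_lit 10964) (Step.F (nat_lit 6148) Step.done)) (Scr.cons (nat_lit 12) (nat_lit 4) (Step.L (Step.L (Step.L (Step.L (Step.D (nat_lit 8571) Step.done))))) (Scr.cons (nat_lit 12) (nat_lit 4) (Step.L (Step.D (nat_lit 8571) (Step.F (nat_lit 6150) (Step.L (Step.L Step.done))))) (Scr.cons (nat_lit 12) (nat_lit 1) (Step.L (Step.L (Step.L (Step.L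 (Step.D (nat_lit 1493) Step.done))))) (Scr.cons (nat_lit 6) (nat_lit 1) (Step.L (Step.L (Step.L (Step.L (Step.L (Step.L (Step.L (Step.B (nat_lit 6152) (Step.D (nat_lit 3014) (Step.D (nat_lit 5427) (Step.D (nat_lit 8504) Step.done))))))))))) (Scr.cons (nat_lit 12) (nat_lit 4) (Step.U (nat_lit 3014) (Step.F (nat_lit 6152) (Step.D (nat_lit 1493) (Step.D (nat_lit 3014) (Step.D (nat_lit 5427) Step.done))))) (Scr.cons (nat_lit 13) (nat_lit 2) (Step.L (Step.L (Step.L (Step.L (Step.L (Step.L (Step.L (Step.D (nat_lit 1493) (Step.D (nat_lit 3014) (Step.B (nat_lit 6154) (Step.D (nat_lit 8504) Step.done))))))))))) (Scr.cons (nat_lit 12) (nat_lit 1) (Step.L (Step.B (nat_lit 6153) (Step.F (nat_lit 6155) (Step.L (Step.L Step.done))))) (Scr.cons (nat_lit 12) (nat_lit 1) (Step.L (Step.L (Step.L (Step.L (Step.D (nat_lit 8626) Step.done))))) (Scr.cons (nat_lit 12) (nat_lit 1) (Step.L (Step.D (nat_lit 8626) (Step.F (nat_lit 6157) (Step.L (Step.L Step.done))))) (Scr.cons (nat_lit 12) (nat_lit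 1) (Step.L (Step.L (Step.L (Step.L (Step.D (nat_lit 8629) Step.done))))) (Scr.cons (nat_lit 12) (nat_lit 1) (Step.L (Step.D (nat_lit 8629) (Step.F (nat_lit 6159) (Step.L (Step.L Step.done))))) (Scr.cons (nat_lit 12) (nat_lit 4) (Step.L (Step.L (Step.L (Step.L (Step.D (nat_lit 8640) Step.done))))) (Scr.cons (nat_lit 12) (nat_lit 4) (Step.L (Step.D (nat_lit 8640) (Step.F (nat_lit 6161) (Step.L (Step.L Step.done))))) Scr.nil))))))))))))))))))))))))))))))))))))))))
noncomputable def s154 : Scr := (Scr.cons (nat_lit 12) (nat_lit 1) (Step.L (Step.L (Step.L (Step.L (Step.D (nat_lit 8652) Step.done))))) (Scr.cons (nat_lit 12) (nat_lit 1) (Step.L (Step.D (nat_lit 8652) (Step.F (nat_lit 6163) (Step.L (Step.L Step.done))))) (Scr.cons (nat_lit 12) (nat_lit 1) (Step.L (Step.L (Step.L (Step.L (Step.D (nat_lit 8708) Step.done))))) (Scr.cons (nat_lit 12) (nat_lit 1) (Step.L (Step.D (nat_lit 8708) (Step.F (nat_lit 6165) (Step.L (Step.L Step.done))))) (Scr.cons (nat_lit 12) (nat_lit 1)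 (Step.L (Step.L (Step.L (Step.L (Step.D (nat_lit 8715) Step.done))))) (Scr.cons (nat_lit 12) (nat_lit 1) (Step.L (Step.D (nat_lit 8715) (Step.F (nat_lit 6167) (Step.L (Step.L Step.done))))) (Scr.cons (nat_lit 12) (nat_lit 4) (Step.L (Step.L (Step.L (Step.L (Step.D (nat_lit 8716) Step.done))))) (Scr.cons (nat_lit 12) (nat_lit 4) (Step.L (Step.D (nat_lit 8716) (Step.F (nat_lit 6169) (Step.L (Step.L Step.done))))) (Scr.cons (nat_lit 12) (nat_lit 1) (Step.L (Step.L (Step.L (Step.L (Step.D (nat_lit 8731) Step.done))))) (Scr.cons (nat_lit 12) (nat_lit 1) (Step.L (Step.D (nat_lit 8731) (Step.F (nat_lit 6171) (Step.L (Step.L Step.done))))) (Scr.cons (nat_lit 12) (nat_lit 4) (Step.L (Step.L (Step.L (Step.L (Step.D (nat_lit 8752) Step.done))))) (Scr.cons (nat_lit 12) (nat_lit 4) (Step.L (Step.D (nat_lit 8752) (Step.F (nat_lit 6173) (Step.L (Step.L Step.done))))) (Scr.cons (nat_lit 12) (nat_lit 1) (Step.L (Step.L (Step.L (Step.L (Step.D (nat_lit 8755) Step.done))))) (Scr.cons (nat_lit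 12) (nat_lit 1) (Step.L (Step.D (nat_lit 8755) (Step.F (nat_lit 6175) (Step.L (Step.L Step.done))))) (Scr.cons (nat_lit 12) (nat_lit 1) (Step.L (Step.L (Step.L (Step.L (Step.D (nat_lit 8757) Step.done))))) (Scr.cons (nat_lit 12) (nat_lit 1) (Step.L (Step.D (nat_lit 8757) (Step.F (nat_lit 6177) (Step.L (Step.L Step.done))))) (Scr.cons (nat_lit 13) (nat_lit 3) (Step.L (Step.L (Step.L (Step.F (nat_lit 3963) (Step.U (nat_lit 3196) (Step.L (Step.L (Step.L (Step.L (Step.L (Step.L Step.done))))))))))) (Scr.cons (nat_lit 12) (nat_lit 1) (Step.L (Step.L (Step.L (Step.L (Step.D (nat_lit 5669) Step.done))))) (Scr.cons (nat_lit 12) (nat_lit 1) (Step.L (Step.D (nat_lit 5669) (Step.F (nat_lit 6180) (Step.L (Step.D (nat_lit 8773) Step.done))))) (Scr.cons (nat_lit 12) (nat_lit 1) (Step.L (Step.D (nat_lit 8773) (Step.F (nat_lit 6181) (Step.L (Step.L Step.done))))) (Scr.cons (nat_lit 12) (nat_lit 1) (Step.L (Step.L (Step.L (Step.L (Step.D (nat_lit 8782) Step.done))))) (Scr.cons (nat_lit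 12) (nat_lit 1) (Step.L (Step.D (nat_lit 8782) (Step.F (nat_lit 6183) (Step.L (Step.L Step.done))))) (Scr.cons (nat_lit 15) (nat_lit 1) (Step.L (Step.L (Step.B (nat_lit 1077) (Step.U (nat_lit 5677) (Step.F (nat_lit 1080) (Step.U (nat_lit 1613) (Step.L (Step.L (Step.L (Step.L (Step.L (Step.L (Step.L (Step.L (Step.L Step.done))))))))))))))) (Scr.cons (nat_lit 12) (nat_lit 1) (Step.L (Step.L (Step.L (Step.L (Step.D (nat_lit 8798) Step.done))))) (Scr.cons (nat_lit 12) (nat_lit 1) (Step.L (Step.D (nat_lit 8798) (Step.F (nat_lit 6186) (Step.L (Step.L Step.done))))) (Scr.cons (nat_lit 12) (nat_lit 1) (Step.L (Step.L (Step.L (Step.L (Step.D (nat_lit 8804) Step.done))))) (Scr.cons (nat_lit 12) (nat_lit 1) (Step.L (Step.D (nat_lit 8804) (Step.F (nat_lit 6188) (Step.L (Step.L Step.done))))) (Scr.cons (nat_lit 6) (nat_lit 0) (Step.L (Step.L (Step.L (Step.L (Step.L (Step.L (Step.L (Step.L (Step.L (Step.L (Step.D (nat_lit 5699) Step.done))))))))))) (Scr.cons (nat_lit 12) (nat_lit 1)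 (Step.L (Step.L (Step.L (Step.L (Step.D (nat_lit 5699) Step.done))))) (Scr.cons (nat_lit 15) (nat_lit 0) (Step.L (Step.L (Step.L (Step.L (Step.B (nat_lit 6190) (Step.F (nat_lit 6191) (Step.L (Step.L (Step.L (Step.L (Step.L (Step.L (Step.L (Step.L (Step.L Step.done))))))))))))))) (Scr.cons (nat_lit 12) (nat_lit 4) (Step.L (Step.L (Step.L (Step.L (Step.D (nat_lit 2963) Step.done))))) (Scr.cons (nat_lit 12) (nat_lit 4) (Step.L (Step.D (nat_lit 2963) (Step.F (nat_lit 6193) (Step.L (Step.D (nat_lit 5337) Step.done))))) (Scr.cons (nat_lit 12) (nat_lit 4) (Step.L (Step.L (Step.L (Step.L (Step.D (nat_lit 3216) Step.done))))) (Scr.cons (nat_lit 12) (nat_lit 1) (Step.U (nat_lit 5710) (Step.F (nat_lit 6195) (Step.D (nat_lit 3216) (Step.D (nat_lit 5710) (Step.D (nat_lit 8816) Step.done))))) (Scr.cons (nat_lit 12) (nat_lit 1) (Step.U (nat_lit 8817) (Step.D (nat_lit 8816) (Step.F (nat_lit 6196) (Step.D (nat_lit 8817) (Step.D (nat_lit 11502) Step.done))))) (Scr.cons (nat_lit 12) (nat_lit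 1) (Step.U (nat_lit 689) (Step.L (Step.L (Step.D (nat_lit 689) (Step.D (nat_lit 1619) Step.done))))) (Scr.cons (nat_lit 13) (nat_lit 0) (Step.U (nat_lit 3218) (Step.F (nat_lit 6198) (Step.U (nat_lit 689) (Step.L (Step.L (Step.L (Step.L (Step.L (Step.L (Step.D (nat_lit 3213) (Step.D (nat_lit 5698) Step.done))))))))))) (Scr.cons (nat_lit 12) (nat_lit 1) (Step.L (Step.L (Step.L (Step.L (Step.D (nat_lit 3213) Step.done))))) (Scr.cons (nat_lit 6) (nat_lit 3) (Step.U (nat_lit 3218) (Step.U (nat_lit 1619) (Step.U (nat_lit 689) (Step.L (Step.L (Step.L (Step.L (Step.L (Step.L (Step.B (nat_lit 6200) (Step.D (nat_lit 5698) Step.done))))))))))) (Scr.cons (nat_lit 12) (nat_lit 4) (Step.U (nat_lit 5711) (Step.B (nat_lit 6199) (Step.F (nat_lit 6201) (Step.D (nat_lit 5711) (Step.D (nat_lit 8818) Step.done))))) Scr.nil))))))))))))))))))))))))))))))))))))))))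
noncomputable def s155 : Scr := (Scr.cons (nat_lit 11) (nat_lit 0) (Step.U (nat_lit 5713) (Step.U (nat_lit 3219) (Step.D (nat_lit 3218) (Step.D (nat_lit 5711) (Step.D (nat_lit 8819) Step.done))))) (Scr.cons (nat_lit 12) (nat_lit 1) (Step.U (nat_lit 3219) (Step.F (nat_lit 6198) (Step.D (nat_lit 1619) (Step.D (nat_lit 3219) (Step.D (nat_lit 5712) Step.done))))) (Scr.cons (nat_lit 12) (nat_lit 1) (Step.U (nat_lit 5713) (Step.D (nat_lit 5712) (Step.F (nat_lit 6204) (Step.D (nat_lit 5713) (Step.D (nat_lit 8820) Step.done))))) (Scr.cons (nat_lit 12) (nat_lit 1) (Step.F (nat_lit 6203) (Step.D (nat_lit 8820) (Step.F (nat_lit 6205) (Step.B (nat_lit 6203) (Step.D (nat_lit 11504) Step.done))))) (Scr.cons (nat_lit 11) (nat_lit 0) (Step.U (nat_lit 7469) (Step.L (Step.L (Step.L (Step.D (nat_lit 8833) Step.done))))) (Scr.cons (nat_lit 16) (nat_lit 1) (Step.F (nat_lit 6206) (Step.F (nat_lit 6203) (Step.U (nat_lit 5713) (Step.U (nat_lit 3219) (Step.F (nat_lit 6198) (Step.U (nat_lit 689)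 (Step.L (Step.L (Step.L (Step.L (Step.L (Step.L (Step.L (Step.L (Step.L (Step.L (Step.L (Step.L (Step.L (Step.L (Step.D (nat_lit 8833) (Step.F (nat_lit 6207) (Step.D (nat_lit 10521) Step.done))))))))))))))))))))))) (Scr.cons (nat_lit 12) (nat_lit 1) (Step.U (nat_lit 7469) (Step.L (Step.L (Step.D (nat_lit 7469) (Step.D (nat_lit 10521) Step.done))))) (Scr.cons (nat_lit 11) (nat_lit 0) (Step.U (nat_lit 3643) (Step.U (nat_lit 1874) (Step.D (nat_lit 1873) (Step.D (nat_lit 3642) (Step.D (nat_lit 6348) Step.done))))) (Scr.cons (nat_lit 1) (nat_lit 1) (Step.D (nat_lit 9502) (Step.F (nat_lit 1785) Step.done)) (Scr.cons (nat_lit 0) (nat_lit 1) (Step.U (nat_lit 4798) (Step.B (nat_lit 3799) (Step.L Step.done))) (Scr.cons (nat_lit 1) (nat_lit 0) (Step.B (nat_lit 6211) (Step.B (nat_lit 6212) (Step.D (nat_lit 4602) Step.done))) (Scr.cons (nat_lit 13) (nat_lit 2) (Step.B (nat_lit 3759) (Step.U (nat_lit 5732) (Step.F (nat_lit 2565) (Step.F (nat_lit 2272) (Step.L (Step.L (Step.L (Step.L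 (Step.L (Step.L (Step.D (nat_lit 4602) Step.done))))))))))) (Scr.cons (nat_lit 0) (nat_lit 1) (Step.B (nat_lit 1159) (Step.B (nat_lit 6213) (Step.F (nat_lit 6214) Step.done))) (Scr.cons (nat_lit 1) (nat_lit 0) (Step.D (nat_lit 3996) (Step.F (nat_lit 6215) (Step.B (nat_lit 6210) Step.done))) (Scr.cons (nat_lit 1) (nat_lit 0) (Step.B (nat_lit 6210) (Step.F (nat_lit 6216) Step.done)) (Scr.cons (nat_lit 12) (nat_lit 4) (Step.U (nat_lit 2087) (Step.F (nat_lit 3761) (Step.D (nat_lit 970) (Step.D (nat_lit 2087) (Step.D (nat_lit 3995) Step.done))))) (Scr.cons (nat_lit 12) (nat_lit 1) (Step.U (nat_lit 6846) (Step.F (nat_lit 6218) (Step.D (nat_lit 3995) (Step.D (nat_lit 6846) (Step.D (nat_lit 9990) Step.done))))) (Scr.cons (nat_lit 13) (nat_lit 3) (Step.B (nat_lit 980) (Step.U (nat_lit 8971) (Step.L (Step.L (Step.L (Step.L (Step.L (Step.D (nat_lit 970) (Step.D (nat_lit 2087) (Step.B (nat_lit 6218) (Step.D (nat_lit 6846) (Step.D (nat_lit 9990) Step.done)))))))))))) (Scr.cons (nat_lit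 0) (nat_lit 1) (Step.B (nat_lit 6219) (Step.F (nat_lit 6220) (Step.D (nat_lit 9157) Step.done))) (Scr.cons (nat_lit 0) (nat_lit 1) (Step.D (nat_lit 9157) (Step.F (nat_lit 6221) Step.done)) (Scr.cons (nat_lit 9) (nat_lit 5) (Step.U (nat_lit 9505) (Step.L (Step.L (Step.L (Step.L (Step.B (nat_lit 1152) (Step.D (nat_lit 1874) (Step.D (nat_lit 3643) (Step.B (nat_lit 6217) (Step.B (nat_lit 6218) (Step.D (nat_lit 6846) (Step.F (nat_lit 6222) (Step.U (nat_lit 5997) (Step.U (nat_lit 3391) (Step.L (Step.L (Step.L (Step.L (Step.L (Step.L (Step.L (Step.L (Step.D (nat_lit 10520) Step.done))))))))))))))))))))))) (Scr.cons (nat_lit 5) (nat_lit 1) (Step.F (nat_lit 6223) (Step.U (nat_lit 9505) (Step.L (Step.L (Step.D (nat_lit 9505) Step.done))))) (Scr.cons (nat_lit 0) (nat_lit 0) (Step.B (nat_lit 5901) (Step.B (nat_lit 5905) Step.done)) (Scr.cons (nat_lit 13) (nat_lit 2) (Step.F (nat_lit 6202) (Step.D (nat_lit 8819) (Step.B (nat_lit 6206) (Step.B (nat_lit 6208) (Step.F (nat_lit 6209)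 (Step.U (nat_lit 7469) (Step.L (Step.D (nat_lit 10520) (Step.B (nat_lit 6224) (Step.F (nat_lit 5902) (Step.B (nat_lit 6225) (Step.B (nat_lit 5899) Step.done)))))))))))) (Scr.cons (nat_lit 1) (nat_lit 1) (Step.B (nat_lit 5899) (Step.F (nat_lit 6226) (Step.D (nat_lit 11503) Step.done))) (Scr.cons (nat_lit 1) (nat_lit 1) (Step.D (nat_lit 11503) (Step.F (nat_lit 6227) Step.done)) (Scr.cons (nat_lit 11) (nat_lit 0) (Step.U (nat_lit 1620) (Step.U (nat_lit 689) (Step.L (Step.L (Step.D (nat_lit 3217) Step.done))))) (Scr.cons (nat_lit 7) (nat_lit 0) (Step.L (Step.L (Step.L (Step.L (Step.L (Step.L (Step.D (nat_lit 2964) (Step.D (nat_lit 5340) (Step.D (nat_lit 8395) (Step.F (nat_lit 6228) (Step.U (nat_lit 8818) (Step.U (nat_lit 5711) (Step.U (nat_lit 3218) (Step.F (nat_lit 6198) (Step.D (nat_lit 1620) (Step.B (nat_lit 6229) (Step.U (nat_lit 3217) (Step.B (nat_lit 6195) (Step.D (nat_lit 5710) (Step.D (nat_lit 8817) (Step.D (nat_lit 11502) Step.done))))))))))))))))))))) (Scr.cons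 (nat_lit 0) (nat_lit 1) (Step.B (nat_lit 6197) (Step.F (nat_lit 6230) (Step.L Step.done))) (Scr.cons (nat_lit 1) (nat_lit 1) (Step.D (nat_lit 8817) (Step.B (nat_lit 6231) (Step.L Step.done))) (Scr.cons (nat_lit 1) (nat_lit 1) (Step.D (nat_lit 5710) (Step.B (nat_lit 6232) (Step.L Step.done))) (Scr.cons (nat_lit 0) (nat_lit 1) (Step.B (nat_lit 6195) (Step.B (nat_lit 6233) (Step.D (nat_lit 5337) Step.done))) (Scr.cons (nat_lit 0) (nat_lit 0) (Step.B (nat_lit 6194) (Step.F (nat_lit 6234) Step.done)) (Scr.cons (nat_lit 14) (nat_lit 0) (Step.U (nat_lit 9413) (Step.U (nat_lit 6238) (Step.L (Step.L (Step.L (Step.L (Step.L (Step.L (Step.L (Step.L (Step.L (Step.L (Step.L (Step.L (Step.L (Step.L (Step.D (nat_lit 3216) (Step.D (nat_lit 5709) (Step.D (nat_lit 8815) (Step.D (nat_lit 11501) Step.done)))))))))))))))))))) (Scr.cons (nat_lit 12) (nat_lit 4) (Step.U (nat_lit 5709) (Step.F (nat_lit 6195) (Step.D (nat_lit 3216) (Step.D (nat_lit 5709) (Step.D (nat_lit 8814) Step.done)))))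 (Scr.cons (nat_lit 12) (nat_lit 4) (Step.U (nat_lit 8815) (Step.D (nat_lit 8814) (Step.F (nat_lit 6237) (Step.D (nat_lit 8815) (Step.D (nat_lit 11500) Step.done))))) (Scr.cons (nat_lit 12) (nat_lit 3) (Step.B (nat_lit 6236) (Step.U (nat_lit 11501) (Step.D (nat_lit 11500) (Step.F (nat_lit 6238) (Step.D (nat_lit 11501) Step.done))))) (Scr.cons (nat_lit 11) (nat_lit 0) (Step.U (nat_lit 8817) (Step.U (nat_lit 5710) (Step.D (nat_lit 5709) (Step.D (nat_lit 8815) (Step.D (nat_lit 11501) Step.done))))) (Scr.cons (nat_lit 1) (nat_lit 0) (Step.F (nat_lit 6240) (Step.B (nat_lit 6231) (Step.L Step.done))) (Scr.cons (nat_lit 0) (nat_lit 1) (Step.B (nat_lit 6239) (Step.B (nat_lit 6241) (Step.L Step.done))) Scr.nil))))))))))))))))))))))))))))))))))))))))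
noncomputable def s156 : Scr := (Scr.cons (nat_lit 1) (nat_lit 1) (Step.D (nat_lit 9413) (Step.B (nat_lit 6242) (Step.L Step.done))) (Scr.cons (nat_lit 1) (nat_lit 1) (Step.D (nat_lit 6238) (Step.B (nat_lit 6243) (Step.D (nat_lit 8390) Step.done))) (Scr.cons (nat_lit 1) (nat_lit 1) (Step.D (nat_lit 8390) (Step.F (nat_lit 6244) Step.done)) (Scr.cons (nat_lit 12) (nat_lit 1) (Step.F (nat_lit 804) (Step.L (Step.L (Step.B (nat_lit 804) (Step.D (nat_lit 11281) Step.done))))) (Scr.cons (nat_lit 12) (nat_lit 1) (Step.U (nat_lit 5338) (Step.L (Step.L (Step.D (nat_lit 5338) (Step.D (nat_lit 8391) Step.done))))) (Scr.cons (nat_lit 12) (nat_lit 1) (Step.L (Step.L (Step.L (Step.L (Step.D (nat_lit 4401) Step.done))))) (Scr.cons (nat_lit 12) (nat_lit 4) (Step.U (nat_lit 7315) (Step.F (nat_lit 6248) (Step.D (nat_lit 4401) (Step.D (nat_lit 7315) (Step.D (nat_lit 10388) Step.done))))) (Scr.cons (nat_lit 1) (nat_lit 1) (Step.D (nat_lit 2370) (Step.B (nat_lit 5292) (Step.D (nat_lit 2333)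 Step.done))) (Scr.cons (nat_lit 1) (nat_lit 1) (Step.D (nat_lit 2333) (Step.F (nat_lit 6250) Step.done)) (Scr.cons (nat_lit 9) (nat_lit 2) (Step.U (nat_lit 10388) (Step.U (nat_lit 7315) (Step.U (nat_lit 4401) (Step.L (Step.L (Step.L (Step.L (Step.L (Step.B (nat_lit 2461) (Step.D (nat_lit 1135) (Step.F (nat_lit 6251) (Step.U (nat_lit 1112) (Step.U (nat_lit 433) (Step.L (Step.L (Step.L (Step.L (Step.L (Step.L (Step.L (Step.L (Step.D (nat_lit 6238) (Step.D (nat_lit 9413) Step.done))))))))))))))))))))))) (Scr.cons (nat_lit 1) (nat_lit 0) (Step.B (nat_lit 6252) (Step.B (nat_lit 6242) (Step.D (nat_lit 5338) Step.done))) (Scr.cons (nat_lit 0) (nat_lit 1) (Step.B (nat_lit 6249) (Step.B (nat_lit 6253) (Step.D (nat_lit 8391) Step.done))) (Scr.cons (nat_lit 0) (nat_lit 0) (Step.B (nat_lit 6247) (Step.F (nat_lit 6254) Step.done)) (Scr.cons (nat_lit 15) (nat_lit 1) (Step.L (Step.L (Step.L (Step.D (nat_lit 4401) (Step.D (nat_lit 7315) (Step.F (nat_lit 6255) (Step.U (nat_lit 5338) (Step.L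 (Step.L (Step.L (Step.L (Step.L (Step.L (Step.L (Step.D (nat_lit 8392) (Step.D (nat_lit 11281) Step.done)))))))))))))))) (Scr.cons (nat_lit 0) (nat_lit 1) (Step.B (nat_lit 6246) (Step.F (nat_lit 6256) (Step.L Step.done))) (Scr.cons (nat_lit 1) (nat_lit 1) (Step.B (nat_lit 804) (Step.B (nat_lit 6257) (Step.D (nat_lit 10387) Step.done))) (Scr.cons (nat_lit 1) (nat_lit 1) (Step.D (nat_lit 10387) (Step.F (nat_lit 6258) Step.done)) (Scr.cons (nat_lit 12) (nat_lit 4) (Step.L (Step.L (Step.L (Step.L (Step.D (nat_lit 8408) Step.done))))) (Scr.cons (nat_lit 12) (nat_lit 4) (Step.L (Step.L (Step.L (Step.L (Step.D (nat_lit 5948) Step.done))))) (Scr.cons (nat_lit 11) (nat_lit 0) (Step.L (Step.L (Step.L (Step.L (Step.D (nat_lit 8409) Step.done))))) (Scr.cons (nat_lit 6) (nat_lit 3) (Step.L (Step.L (Step.L (Step.L (Step.L (Step.L (Step.L (Step.L (Step.L (Step.L (Step.D (nat_lit 8410) Step.done))))))))))) (Scr.cons (nat_lit 12) (nat_lit 4) (Step.L (Step.L (Step.L (Step.L (Step.D (nat_lit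 1579) Step.done))))) (Scr.cons (nat_lit 16) (nat_lit 4) (Step.F (nat_lit 6262) (Step.L (Step.L (Step.D (nat_lit 8410) (Step.F (nat_lit 6263) (Step.L (Step.L (Step.L (Step.L (Step.L (Step.L (Step.L (Step.L (Step.L (Step.D (nat_lit 1134) (Step.B (nat_lit 3594) (Step.F (nat_lit 6264) (Step.L (Step.L (Step.L (Step.L (Step.L (Step.D (nat_lit 5948) (Step.D (nat_lit 9109) Step.done)))))))))))))))))))))))) (Scr.cons (nat_lit 1) (nat_lit 0) (Step.D (nat_lit 9109) (Step.F (nat_lit 6265) (Step.U (nat_lit 8409) Step.done))) (Scr.cons (nat_lit 0) (nat_lit 1) (Step.B (nat_lit 6261) (Step.B (nat_lit 6266) (Step.D (nat_lit 8408) Step.done))) (Scr.cons (nat_lit 0) (nat_lit 0) (Step.B (nat_lit 6260) (Step.F (nat_lit 6267) Step.done)) (Scr.cons (nat_lit 12) (nat_lit 1) (Step.L (Step.L (Step.L (Step.L (Step.D (nat_lit 2981) Step.done))))) (Scr.cons (nat_lit 12) (nat_lit 1) (Step.U (nat_lit 5370) (Step.F (nat_lit 6269) (Step.D (nat_lit 2981) (Step.D (nat_lit 5370) (Step.D (nat_lit 8426) Step.done)))))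 (Scr.cons (nat_lit 8) (nat_lit 1) (Step.U (nat_lit 8440) (Step.L (Step.L (Step.L (Step.L (Step.L (Step.L (Step.L (Step.L (Step.L (Step.L (Step.B (nat_lit 6269) (Step.D (nat_lit 5370) (Step.B (nat_lit 6270) (Step.D (nat_lit 11301) Step.done))))))))))))))) (Scr.cons (nat_lit 12) (nat_lit 0) (Step.B (nat_lit 6271) (Step.U (nat_lit 11301) (Step.F (nat_lit 6270) (Step.D (nat_lit 8426) (Step.D (nat_lit 11301) Step.done))))) (Scr.cons (nat_lit 12) (nat_lit 1) (Step.U (nat_lit 8427) (Step.D (nat_lit 8426) (Step.F (nat_lit 6270) (Step.D (nat_lit 8427) (Step.D (nat_lit 11302) Step.done))))) (Scr.cons (nat_lit 12) (nat_lit 1) (Step.U (nat_lit 1692) (Step.L (Step.L (Step.D (nat_lit 1692) (Step.D (nat_lit 3358) Step.done))))) (Scr.cons (nat_lit 12) (nat_lit 4) (Step.U (nat_lit 6220) (Step.L (Step.L (Step.D (nat_lit 6220) (Step.D (nat_lit 9398) Step.done))))) (Scr.cons (nat_lit 7) (nat_lit 3) (Step.U (nat_lit 9398) (Step.U (nat_lit 6220) (Step.L (Step.L (Step.L (Step.L (Step.L (Step.L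 (Step.L (Step.L (Step.L (Step.L (Step.L (Step.L (Step.L (Step.L (Step.L (Step.L (Step.L (Step.L (Step.B (nat_lit 6262) Step.done))))))))))))))))))))) (Scr.cons (nat_lit 0) (nat_lit 0) (Step.B (nat_lit 6275) (Step.B (nat_lit 6276) Step.done)) (Scr.cons (nat_lit 11) (nat_lit 0) (Step.U (nat_lit 6221) (Step.L (Step.L (Step.D (nat_lit 6220) (Step.D (nat_lit 9399) Step.done))))) (Scr.cons (nat_lit 9) (nat_lit 4) (Step.U (nat_lit 9355) (Step.U (nat_lit 6178) (Step.L (Step.L (Step.L (Step.L (Step.L (Step.L (Step.L (Step.L (Step.L (Step.L (Step.L (Step.L (Step.L (Step.L (Step.L (Step.L (Step.L (Step.L (Step.L (Step.L (Step.L Step.done))))))))))))))))))))))) (Scr.cons (nat_lit 11) (nat_lit 0) (Step.U (nat_lit 2982) (Step.L (Step.L (Step.L (Step.D (nat_lit 5368) Step.done))))) (Scr.cons (nat_lit 12) (nat_lit 1) (Step.U (nat_lit 2982) (Step.D (nat_lit 2981) (Step.F (nat_lit 6269) (Step.D (nat_lit 2982) (Step.D (nat_lit 5371) Step.done))))) (Scr.cons (nat_lit 12) (nat_lit 1) (Step.F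 (nat_lit 6280) (Step.D (nat_lit 5371) (Step.F (nat_lit 6281) (Step.B (nat_lit 6280) (Step.D (nat_lit 8424) Step.done))))) Scr.nil))))))))))))))))))))))))))))))))))))))))
noncomputable def s157 : Scr := (Scr.cons (nat_lit 7) (nat_lit 5) (Step.L (Step.L (Step.L (Step.L (Step.L (Step.L (Step.L (Step.L (Step.L (Step.L (Step.L (Step.L (Step.L (Step.L (Step.L (Step.L (Step.D (nat_lit 2982) (Step.B (nat_lit 6280) (Step.B (nat_lit 6282) (Step.D (nat_lit 11299) Step.done)))))))))))))))))))) (Scr.cons (nat_lit 14) (nat_lit 0) (Step.F (nat_lit 6278) (Step.U (nat_lit 6221) (Step.L (Step.L (Step.L (Step.L (Step.L (Step.L (Step.D (nat_lit 6178) (Step.D (nat_lit 9355) (Step.B (nat_lit 6279) (Step.B (nat_lit 6283) (Step.U (nat_lit 11299) (Step.U (nat_lit 8424) (Step.F (nat_lit 6280) (Step.U (nat_lit 2982) (Step.D (nat_lit 2981) (Step.D (nat_lit 5369) (Step.D (nat_lit 8425) (Step.D (nat_lit 11300) Step.done)))))))))))))))))))) (Scr.cons (nat_lit 11) (nat_lit 0) (Step.U (nat_lit 8427)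 (Step.U (nat_lit 5370) (Step.D (nat_lit 5369) (Step.D (nat_lit 8425) (Step.D (nat_lit 11300) Step.done))))) (Scr.cons (nat_lit 15) (nat_lit 1) (Step.U (nat_lit 5946) (Step.F (nat_lit 6274) (Step.U (nat_lit 1692) (Step.L (Step.L (Step.L (Step.L (Step.L (Step.L (Step.L (Step.D (nat_lit 8409) (Step.F (nat_lit 6277) (Step.D (nat_lit 9399) (Step.B (nat_lit 6284) (Step.F (nat_lit 6285) (Step.D (nat_lit 11302) Step.done)))))))))))))))) (Scr.cons (nat_lit 0) (nat_lit 1) (Step.B (nat_lit 6273) (Step.F (nat_lit 6286) (Step.D (nat_lit 9105) Step.done))) (Scr.cons (nat_lit 0) (nat_lit 1) (Step.D (nat_lit 9105) (Step.F (nat_lit 6287) Step.done)) (Scr.cons (nat_lit 7) (nat_lit 6) (Step.L (Step.L (Step.L (Step.L (Step.L (Step.L (Step.L (Step.L (Step.L (Step.L (Step.L (Step.L (Step.L (Step.L (Step.L (Step.L (Step.L (Step.L (Step.D (nat_lit 1692) (Step.D (nat_lit 3359) Step.done)))))))))))))))))))) (Scr.cons (nat_lit 12) (nat_lit 1) (Step.U (nat_lit 3359) (Step.D (nat_lit 3358) (Step.F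 (nat_lit 6274) (Step.D (nat_lit 3359) (Step.F (nat_lit 6289) Step.done))))) (Scr.cons (nat_lit 12) (nat_lit 1) (Step.L (Step.L (Step.L (Step.L (Step.D (nat_lit 8956) Step.done))))) (Scr.cons (nat_lit 6) (nat_lit 2) (Step.U (nat_lit 11301) (Step.F (nat_lit 6270) (Step.D (nat_lit 8427) (Step.F (nat_lit 6288) (Step.U (nat_lit 5946) (Step.F (nat_lit 6274) (Step.D (nat_lit 3359) (Step.B (nat_lit 6290) (Step.L (Step.L (Step.L (Step.B (nat_lit 6291) Step.done)))))))))))) (Scr.cons (nat_lit 0) (nat_lit 1) (Step.B (nat_lit 6272) (Step.B (nat_lit 6292) (Step.F (nat_lit 6291) Step.done))) (Scr.cons (nat_lit 1) (nat_lit 0) (Step.D (nat_lit 8440) (Step.B (nat_lit 6293) (Step.D (nat_lit 8957) Step.done))) (Scr.cons (nat_lit 1) (nat_lit 0) (Step.D (nat_lit 8957) (Step.F (nat_lit 6294) Step.done)) (Scr.cons (nat_lit 12) (nat_lit 1) (Step.U (nat_lit 8530) (Step.L (Step.L (Step.D (nat_lit 8530) (Step.D (nat_lit 11361) Step.done))))) (Scr.cons (nat_lit 11) (nat_lit 0) (Step.L (Step.L (Step.L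 (Step.L (Step.D (nat_lit 8474) Step.done))))) (Scr.cons (nat_lit 12) (nat_lit 1) (Step.U (nat_lit 6232) (Step.L (Step.L (Step.D (nat_lit 6232) (Step.D (nat_lit 9407) Step.done))))) (Scr.cons (nat_lit 9) (nat_lit 4) (Step.U (nat_lit 11265) (Step.U (nat_lit 8364) (Step.L (Step.L (Step.L (Step.L (Step.L (Step.L (Step.L (Step.L (Step.L (Step.L (Step.L (Step.L (Step.L (Step.L (Step.L (Step.L (Step.L (Step.L (Step.L (Step.D (nat_lit 6232) (Step.B (nat_lit 6298) Step.done))))))))))))))))))))))) (Scr.cons (nat_lit 8) (nat_lit 1) (Step.U (nat_lit 6233) (Step.U (nat_lit 3557) (Step.L (Step.L (Step.L (Step.L (Step.L (Step.D (nat_lit 6232) (Step.B (nat_lit 6298) (Step.F (nat_lit 6299) (Step.U (nat_lit 11265) (Step.U (nat_lit 8364) (Step.L (Step.L (Step.L (Step.D (nat_lit 11328) Step.done)))))))))))))))) (Scr.cons (nat_lit 1) (nat_lit 1) (Step.D (nat_lit 11328) (Step.F (nat_lit 6300) (Step.D (nat_lit 9408) Step.done))) (Scr.cons (nat_lit 1) (nat_lit 1) (Step.D (nat_lit 9408) (Step.F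 (nat_lit 6301) Step.done)) (Scr.cons (nat_lit 12) (nat_lit 4) (Step.U (nat_lit 3557) (Step.L (Step.L (Step.D (nat_lit 3557) (Step.D (nat_lit 6233) Step.done))))) (Scr.cons (nat_lit 12) (nat_lit 1) (Step.U (nat_lit 3558) (Step.L (Step.L (Step.D (nat_lit 3558) (Step.D (nat_lit 6235) Step.done))))) (Scr.cons (nat_lit 12) (nat_lit 1) (Step.U (nat_lit 6236) (Step.D (nat_lit 6235) (Step.F (nat_lit 6304) (Step.D (nat_lit 6236) (Step.D (nat_lit 9409) Step.done))))) (Scr.cons (nat_lit 4) (nat_lit 0) (Step.U (nat_lit 5446) (Step.L (Step.L (Step.L (Step.D (nat_lit 8520) Step.done))))) (Scr.cons (nat_lit 11) (nat_lit 0) (Step.U (nat_lit 315) (Step.U (nat_lit 99) (Step.L (Step.D (nat_lit 313) (Step.D (nat_lit 850) Step.done))))) (Scr.cons (nat_lit 16) (nat_lit 3) (Step.U (nat_lit 2078) (Step.U (nat_lit 966) (Step.L (Step.L (Step.L (Step.L (Step.L (Step.L (Step.L (Step.L (Step.L (Step.L (Step.L (Step.L (Step.L (Step.L (Step.L (Step.D (nat_lit 313) (Step.D (nat_lit 850) (Step.F (nat_lit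 6307) (Step.D (nat_lit 851) (Step.D (nat_lit 1858) (Step.D (nat_lit 3613) Step.done))))))))))))))))))))))) (Scr.cons (nat_lit 11) (nat_lit 0) (Step.F (nat_lit 6308) (Step.U (nat_lit 2078) (Step.U (nat_lit 966) (Step.D (nat_lit 965) (Step.D (nat_lit 2077) Step.done))))) (Scr.cons (nat_lit 14) (nat_lit 6) (Step.U (nat_lit 3980) (Step.U (nat_lit 2078) (Step.U (nat_lit 966) (Step.L (Step.L (Step.L (Step.L (Step.L (Step.L (Step.L (Step.L (Step.L (Step.L (Step.L (Step.L (Step.L (Step.L (Step.L (Step.D (nat_lit 3557) (Step.D (nat_lit 6234) Step.done)))))))))))))))))))) (Scr.cons (nat_lit 4) (nat_lit 0) (Step.B (nat_lit 6310) (Step.U (nat_lit 6234) (Step.U (nat_lit 3557) (Step.D (nat_lit 3558) (Step.D (nat_lit 6236) Step.done))))) (Scr.cons (nat_lit 16) (nat_lit 3) (Step.B (nat_lit 6306) (Step.U (nat_lit 8520) (Step.L (Step.L (Step.L (Step.L (Step.L (Step.L (Step.L (Step.L (Step.L (Step.L (Step.L (Step.L (Step.L (Step.L (Step.D (nat_lit 2075) (Step.F (nat_lit 5240) (Step.D (nat_lit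 2077) (Step.F (nat_lit 6309) (Step.F (nat_lit 6308) (Step.D (nat_lit 3980) (Step.B (nat_lit 6311) (Step.D (nat_lit 9409) Step.done)))))))))))))))))))))))) (Scr.cons (nat_lit 0) (nat_lit 1) (Step.B (nat_lit 6305) (Step.F (nat_lit 6312) (Step.D (nat_lit 8528) Step.done))) (Scr.cons (nat_lit 0) (nat_lit 1) (Step.D (nat_lit 8528) (Step.F (nat_lit 6313) Step.done)) (Scr.cons (nat_lit 7) (nat_lit 0) (Step.B (nat_lit 6297) (Step.U (nat_lit 8474) (Step.L (Step.L (Step.L (Step.F (nat_lit 6302) (Step.F (nat_lit 6303) (Step.U (nat_lit 3557) (Step.D (nat_lit 3558) (Step.D (nat_lit 6236) (Step.F (nat_lit 6314) (Step.U (nat_lit 5446) (Step.L (Step.L (Step.L (Step.L (Step.L (Step.L (Step.L (Step.D (nat_lit 8530) (Step.D (nat_lit 11361) Step.done))))))))))))))))))))) (Scr.cons (nat_lit 0) (nat_lit 1) (Step.B (nat_lit 6296) (Step.F (nat_lit 6315) (Step.L Step.done))) (Scr.cons (nat_lit 1) (nat_lit 1) (Step.D (nat_lit 8530) (Step.B (nat_lit 6316) (Step.D (nat_lit 11329) Step.done))) (Scr.cons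 (nat_lit 1) (nat_lit 1) (Step.D (nat_lit 11329) (Step.F (nat_lit 6317) Step.done)) (Scr.cons (nat_lit 12) (nat_lit 4) (Step.L (Step.L (Step.L (Step.L (Step.D (nat_lit 8821) Step.done))))) (Scr.cons (nat_lit 12) (nat_lit 4) (Step.L (Step.D (nat_lit 8821) (Step.F (nat_lit 6319) (Step.L (Step.L Step.done))))) (Scr.cons (nat_lit 12) (nat_lit 4) (Step.U (nat_lit 3235) (Step.F (nat_lit 3669) (Step.D (nat_lit 1627) (Step.D (nat_lit 3235) (Step.D (nat_lit 5736) Step.done))))) (Scr.cons (nat_lit 12) (nat_lit 4) (Step.U (nat_lit 5737) (Step.D (nat_lit 5736) (Step.F (nat_lit 6321) (Step.D (nat_lit 5737) (Step.D (nat_lit 8850) Step.done))))) Scr.nil))))))))))))))))))))))))))))))))))))))))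
noncomputable def s158 : Scr := (Scr.cons (nat_lit 13) (nat_lit 2) (Step.U (nat_lit 3236) (Step.U (nat_lit 1627) (Step.L (Step.B (nat_lit 2291) (Step.U (nat_lit 3102) (Step.U (nat_lit 1557) (Step.U (nat_lit 659) (Step.D (nat_lit 658) (Step.D (nat_lit 1556) (Step.B (nat_lit 4342) (Step.D (nat_lit 5525) Step.done))))))))))) (Scr.cons (nat_lit 1) (nat_lit 0) (Step.D (nat_lit 7192) (Step.B (nat_lit 3710) (Step.D (nat_lit 8618) Step.done))) (Scr.cons (nat_lit 1) (nat_lit 0) (Step.D (nat_lit 8618) (Step.F (nat_lit 6324) Step.done)) (Scr.cons (nat_lit 12) (nat_lit 1) (Step.L (Step.L (Step.L (Step.L (Step.D (nat_lit 5730) Step.done))))) (Scr.cons (nat_lit 12) (nat_lit 1) (Step.L (Step.D (nat_lit 5730) (Step.F (nat_lit 6326) (Step.L (Step.D (nat_lit 8841) Step.done))))) (Scr.cons (nat_lit 7) (nat_lit 5) (Step.F (nat_lit 6322) (Step.U (nat_lit 5737) (Step.U (nat_lit 3235) (Step.D (nat_lit 3236) (Step.B (nat_lit 6323) (Step.B (nat_lit 6325) (Step.U (nat_lit 4289) (Step.F (nat_lit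 3670) (Step.L (Step.L (Step.L (Step.L (Step.L (Step.L (Step.L (Step.L (Step.L (Step.L (Step.B (nat_lit 6327) (Step.D (nat_lit 11509) Step.done)))))))))))))))))))) (Scr.cons (nat_lit 11) (nat_lit 0) (Step.L (Step.L (Step.L (Step.D (nat_lit 4287) (Step.D (nat_lit 7188) Step.done))))) (Scr.cons (nat_lit 12) (nat_lit 1) (Step.F (nat_lit 6329) (Step.D (nat_lit 7189) (Step.F (nat_lit 2213) (Step.B (nat_lit 6329) (Step.D (nat_lit 10279) Step.done))))) (Scr.cons (nat_lit 14) (nat_lit 3) (Step.F (nat_lit 2230) (Step.L (Step.L (Step.L (Step.L (Step.L (Step.L (Step.L (Step.L (Step.L (Step.L (Step.L (Step.L (Step.L (Step.L (Step.L (Step.L (Step.L (Step.L (Step.D (nat_lit 1913) Step.done)))))))))))))))))))) (Scr.cons (nat_lit 12) (nat_lit 4) (Step.U (nat_lit 1913) (Step.L (Step.L (Step.D (nat_lit 1913) (Step.F (nat_lit 6331) Step.done))))) (Scr.cons (nat_lit 11) (nat_lit 0) (Step.U (nat_lit 1914) (Step.L (Step.L (Step.D (nat_lit 1913) (Step.D (nat_lit 3717) Step.done))))) (Scr.cons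 (nat_lit 14) (nat_lit 2) (Step.F (nat_lit 6330) (Step.F (nat_lit 6329) (Step.L (Step.L (Step.L (Step.L (Step.D (nat_lit 2286) (Step.F (nat_lit 6332) (Step.D (nat_lit 3717) (Step.F (nat_lit 6333) (Step.U (nat_lit 1914) (Step.L (Step.L (Step.L (Step.L (Step.L (Step.L (Step.L (Step.L (Step.D (nat_lit 8174) Step.done)))))))))))))))))))) (Scr.cons (nat_lit 1) (nat_lit 0) (Step.F (nat_lit 6334) (Step.F (nat_lit 3113) (Step.D (nat_lit 10557) Step.done))) (Scr.cons (nat_lit 1) (nat_lit 0) (Step.D (nat_lit 10557) (Step.F (nat_lit 6335) Step.done)) (Scr.cons (nat_lit 0) (nat_lit 0) (Step.B (nat_lit 6330) (Step.F (nat_lit 3113) Step.done)) (Scr.cons (nat_lit 11) (nat_lit 0) (Step.L (Step.L (Step.L (Step.D (nat_lit 5729) (Step.D (nat_lit 8840) Step.done))))) (Scr.cons (nat_lit 16) (nat_lit 1) (Step.U (nat_lit 8980) (Step.L (Step.L (Step.L (Step.L (Step.L (Step.L (Step.L (Step.L (Step.L (Step.L (Step.L (Step.L (Step.L (Step.L (Step.D (nat_lit 8174) (Step.F (nat_lit 6336) (Step.F (nat_lit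 6337) (Step.F (nat_lit 6329) (Step.L (Step.D (nat_lit 5729) (Step.D (nat_lit 8840) (Step.F (nat_lit 6338) (Step.D (nat_lit 8841) Step.done)))))))))))))))))))))))) (Scr.cons (nat_lit 1) (nat_lit 0) (Step.D (nat_lit 8980) (Step.B (nat_lit 6339) Step.done)) (Scr.cons (nat_lit 14) (nat_lit 6) (Step.L (Step.L (Step.L (Step.L (Step.L (Step.L (Step.L (Step.L (Step.B (nat_lit 3669) (Step.D (nat_lit 3235) (Step.D (nat_lit 5737) (Step.D (nat_lit 8850) (Step.B (nat_lit 6328) (Step.U (nat_lit 11509) (Step.F (nat_lit 6340) (Step.L (Step.L (Step.L (Step.L (Step.L (Step.D (nat_lit 9014) Step.done))))))))))))))))))))) (Scr.cons (nat_lit 1) (nat_lit 1) (Step.D (nat_lit 9014) (Step.F (nat_lit 6341) Step.done)) (Scr.cons (nat_lit 12) (nat_lit 1) (Step.L (Step.L (Step.L (Step.L (Step.D (nat_lit 8845) Step.done))))) (Scr.cons (nat_lit 12) (nat_lit 1) (Step.L (Step.D (nat_lit 8845) (Step.F (nat_lit 6343) (Step.L (Step.L Step.done))))) (Scr.cons (nat_lit 11) (nat_lit 0) (Step.U (nat_lit 9207)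 (Step.L (Step.L (Step.L (Step.L (Step.D (nat_lit 9565) Step.done)))))) (Scr.cons (nat_lit 1) (nat_lit 1) (Step.D (nat_lit 9565) (Step.F (nat_lit 6345) Step.done)) (Scr.cons (nat_lit 7) (nat_lit 0) (Step.L (Step.L (Step.L (Step.D (nat_lit 9207) (Step.F (nat_lit 6346) (Step.L (Step.L (Step.L (Step.L (Step.L (Step.L (Step.L (Step.L (Step.L (Step.L (Step.L (Step.L (Step.L (Step.L (Step.L Step.done)))))))))))))))))))) (Scr.cons (nat_lit 11) (nat_lit 0) (Step.U (nat_lit 2323) (Step.U (nat_lit 1105) (Step.L (Step.L (Step.D (nat_lit 4346) Step.done))))) (Scr.cons (nat_lit 12) (nat_lit 1) (Step.U (nat_lit 1105) (Step.L (Step.L (Step.D (nat_lit 1105) (Step.D (nat_lit 2322) Step.done))))) (Scr.cons (nat_lit 12) (nat_lit 1) (Step.U (nat_lit 2323) (Step.D (nat_lit 2322) (Step.F (nat_lit 6349) (Step.D (nat_lit 2323) (Step.D (nat_lit 4347) Step.done))))) (Scr.cons (nat_lit 12) (nat_lit 1) (Step.F (nat_lit 6348) (Step.D (nat_lit 4347) (Step.F (nat_lit 6350) (Step.B (nat_lit 6348) (Step.D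 (nat_lit 7266) Step.done))))) (Scr.cons (nat_lit 7) (nat_lit 5) (Step.F (nat_lit 6351) (Step.U (nat_lit 4346) (Step.L (Step.L (Step.L (Step.L (Step.L (Step.L (Step.L (Step.L (Step.L (Step.L (Step.L (Step.L (Step.L (Step.L (Step.L (Step.L (Step.L (Step.L Step.done)))))))))))))))))))) (Scr.cons (nat_lit 4) (nat_lit 0) (Step.U (nat_lit 9410) (Step.L (Step.L (Step.F (nat_lit 6352) (Step.D (nat_lit 10346) Step.done))))) (Scr.cons (nat_lit 11) (nat_lit 0) (Step.U (nat_lit 5738) (Step.U (nat_lit 3236) (Step.D (nat_lit 3235) (Step.D (nat_lit 5737) (Step.D (nat_lit 8851) Step.done))))) (Scr.cons (nat_lit 9) (nat_lit 5) (Step.F (nat_lit 6353) (Step.U (nat_lit 9410) (Step.L (Step.L (Step.L (Step.L (Step.D (nat_lit 3558) (Step.D (nat_lit 6236) (Step.F (nat_lit 6311) (Step.U (nat_lit 3980) (Step.B (nat_lit 6308) (Step.U (nat_lit 3613) (Step.U (nat_lit 1858) (Step.D (nat_lit 1859) (Step.F (nat_lit 4345) (Step.B (nat_lit 4342) (Step.D (nat_lit 5525) (Step.F (nat_lit 3709) (Step.D (nat_lit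 5738) (Step.B (nat_lit 6354) (Step.U (nat_lit 8851) (Step.B (nat_lit 6322) (Step.D (nat_lit 11511) Step.done))))))))))))))))))))))) (Scr.cons (nat_lit 14) (nat_lit 6) (Step.L (Step.D (nat_lit 9410) (Step.B (nat_lit 6353) (Step.B (nat_lit 6355) (Step.U (nat_lit 11511) (Step.B (nat_lit 6328) (Step.U (nat_lit 11509) (Step.U (nat_lit 8841) (Step.L (Step.L (Step.L (Step.L (Step.L (Step.L (Step.L (Step.L (Step.L (Step.L (Step.L (Step.L Step.done)))))))))))))))))))) (Scr.cons (nat_lit 12) (nat_lit 1) (Step.L (Step.L (Step.L (Step.L (Step.D (nat_lit 8854) Step.done))))) (Scr.cons (nat_lit 12) (nat_lit 1) (Step.L (Step.D (nat_lit 8854) (Step.F (nat_lit 6357) (Step.L (Step.L Step.done))))) (Scr.cons (nat_lit 12) (nat_lit 4) (Step.U (nat_lit 5111) (Step.L (Step.L (Step.D (nat_lit 5111) (Step.D (nat_lit 8126) Step.done))))) (Scr.cons (nat_lit 0) (nat_lit 0) (Step.B (nat_lit 6359) (Step.F (nat_lit 1914) Step.done)) (Scr.cons (nat_lit 12) (nat_lit 1) (Step.L (Step.F (nat_lit 6360)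 (Step.B (nat_lit 1915) (Step.L (Step.L Step.done))))) (Scr.cons (nat_lit 8) (nat_lit 1) (Step.U (nat_lit 7256) (Step.L (Step.L (Step.L (Step.L (Step.L (Step.L (Step.L (Step.L (Step.L (Step.L (Step.L (Step.L (Step.L (Step.D (nat_lit 10333) Step.done))))))))))))))) Scr.nil))))))))))))))))))))))))))))))))))))))))
noncomputable def s159 : Scr := (Scr.cons (nat_lit 12) (nat_lit 1) (Step.U (nat_lit 2486) (Step.F (nat_lit 2726) (Step.D (nat_lit 1199) (Step.D (nat_lit 2486) (Step.D (nat_lit 4600) Step.done))))) (Scr.cons (nat_lit 12) (nat_lit 1) (Step.U (nat_lit 4601) (Step.D (nat_lit 4600) (Step.F (nat_lit 6363) (Step.D (nat_lit 4601) (Step.D (nat_lit 7561) Step.done))))) (Scr.cons (nat_lit 7) (nat_lit 5) (Step.F (nat_lit 1639) (Step.U (nat_lit 8081) (Step.L (Step.L (Step.L (Step.L (Step.L (Step.L (Step.L (Step.L (Step.D (nat_lit 311) (Step.B (nat_lit 2817) (Step.B (nat_lit 2820) (Step.U (nat_lit 1084) (Step.D (nat_lit 1083) (Step.B (nat_lit 4106) (Step.D (nat_lit 2486) (Step.D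 (nat_lit 4601) (Step.B (nat_lit 6364) (Step.D (nat_lit 10598) Step.done)))))))))))))))))))) (Scr.cons (nat_lit 12) (nat_lit 0) (Step.B (nat_lit 2720) (Step.U (nat_lit 1194) (Step.F (nat_lit 2716) (Step.D (nat_lit 474) (Step.D (nat_lit 1194) Step.done))))) (Scr.cons (nat_lit 12) (nat_lit 4) (Step.U (nat_lit 1198) (Step.B (nat_lit 2720) (Step.F (nat_lit 6366) (Step.D (nat_lit 1198) (Step.D (nat_lit 2484) Step.done))))) (Scr.cons (nat_lit 14) (nat_lit 4) (Step.U (nat_lit 10335) (Step.U (nat_lit 7257) (Step.L (Step.L (Step.L (Step.D (nat_lit 10336) (Step.F (nat_lit 1640) (Step.B (nat_lit 6365) (Step.U (nat_lit 10598) (Step.U (nat_lit 7561) (Step.U (nat_lit 4601) (Step.U (nat_lit 2486) (Step.F (nat_lit 2726) (Step.U (nat_lit 479) (Step.D (nat_lit 478) (Step.D (nat_lit 1198) (Step.B (nat_lit 6367) (Step.D (nat_lit 4598) (Step.D (nat_lit 7558) (Step.D (nat_lit 10596) Step.done)))))))))))))))))))) (Scr.cons (nat_lit 11) (nat_lit 0) (Step.F (nat_lit 6368) (Step.U (nat_lit 10335)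 (Step.U (nat_lit 7257) (Step.D (nat_lit 7256) (Step.D (nat_lit 10334) Step.done))))) (Scr.cons (nat_lit 1) (nat_lit 1) (Step.D (nat_lit 479) (Step.B (nat_lit 4110) (Step.L Step.done))) (Scr.cons (nat_lit 1) (nat_lit 1) (Step.U (nat_lit 478) (Step.B (nat_lit 6370) (Step.L Step.done))) (Scr.cons (nat_lit 1) (nat_lit 1) (Step.U (nat_lit 1198) (Step.B (nat_lit 6371) (Step.L Step.done))) (Scr.cons (nat_lit 0) (nat_lit 1) (Step.U (nat_lit 2484) (Step.B (nat_lit 6372) (Step.L Step.done))) (Scr.cons (nat_lit 1) (nat_lit 1) (Step.U (nat_lit 4598) (Step.B (nat_lit 6373) (Step.L Step.done))) (Scr.cons (nat_lit 1) (nat_lit 1) (Step.U (nat_lit 7558) (Step.B (nat_lit 6374) (Step.L Step.done))) (Scr.cons (nat_lit 0) (nat_lit 1) (Step.U (nat_lit 10596) (Step.B (nat_lit 6375) (Step.L Step.done))) (Scr.cons (nat_lit 1) (nat_lit 0) (Step.F (nat_lit 6369) (Step.B (nat_lit 6376) (Step.D (nat_lit 4804) Step.done))) (Scr.cons (nat_lit 1) (nat_lit 0) (Step.D (nat_lit 10334) (Step.B (nat_lit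 6377) (Step.D (nat_lit 7789) Step.done))) (Scr.cons (nat_lit 1) (nat_lit 0) (Step.D (nat_lit 7789) (Step.F (nat_lit 6378) Step.done)) (Scr.cons (nat_lit 14) (nat_lit 6) (Step.F (nat_lit 6362) (Step.F (nat_lit 6379) (Step.U (nat_lit 4804) (Step.L (Step.L (Step.L (Step.L (Step.L (Step.L (Step.L (Step.L (Step.L (Step.L (Step.L (Step.L (Step.L (Step.L (Step.L (Step.D (nat_lit 8873) (Step.D (nat_lit 11528) Step.done)))))))))))))))))))) (Scr.cons (nat_lit 4) (nat_lit 0) (Step.U (nat_lit 10332) (Step.D (nat_lit 10333) (Step.B (nat_lit 6380) (Step.U (nat_lit 11528) (Step.U (nat_lit 8873) (Step.L Step.done)))))) (Scr.cons (nat_lit 1) (nat_lit 1) (Step.D (nat_lit 10332) (Step.B (nat_lit 6381) Step.done)) (Scr.cons (nat_lit 12) (nat_lit 1) (Step.L (Step.L (Step.L (Step.L (Step.D (nat_lit 8903) Step.done))))) (Scr.cons (nat_lit 12) (nat_lit 1) (Step.L (Step.D (nat_lit 8903) (Step.F (nat_lit 6383) (Step.L (Step.L Step.done))))) (Scr.cons (nat_lit 12) (nat_lit 1) (Step.L (Step.L (Step.L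 (Step.L (Step.D (nat_lit 8904) Step.done))))) (Scr.cons (nat_lit 12) (nat_lit 1) (Step.L (Step.D (nat_lit 8904) (Step.F (nat_lit 6385) (Step.L (Step.L Step.done))))) (Scr.cons (nat_lit 12) (nat_lit 1) (Step.L (Step.L (Step.L (Step.L (Step.D (nat_lit 8907) Step.done))))) (Scr.cons (nat_lit 12) (nat_lit 1) (Step.L (Step.D (nat_lit 8907) (Step.F (nat_lit 6387) (Step.L (Step.L Step.done))))) (Scr.cons (nat_lit 12) (nat_lit 4) (Step.L (Step.L (Step.L (Step.L (Step.D (nat_lit 1637) Step.done))))) (Scr.cons (nat_lit 13) (nat_lit 0) (Step.L (Step.L (Step.L (Step.L (Step.L (Step.L (Step.L (Step.B (nat_lit 6389) (Step.D (nat_lit 3257) (Step.D (nat_lit 5776) (Step.D (nat_lit 8906) Step.done))))))))))) (Scr.cons (nat_lit 12) (nat_lit 1) (Step.U (nat_lit 3257) (Step.F (nat_lit 6389) (Step.D (nat_lit 1637) (Step.D (nat_lit 3257) (Step.D (nat_lit 5776) Step.done))))) (Scr.cons (nat_lit 6) (nat_lit 3) (Step.L (Step.L (Step.L (Step.L (Step.L (Step.L (Step.L (Step.D (nat_lit 1637) (Step.D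 (nat_lit 3257) (Step.B (nat_lit 6391) (Step.D (nat_lit 8906) Step.done))))))))))) (Scr.cons (nat_lit 12) (nat_lit 4) (Step.L (Step.B (nat_lit 6390) (Step.F (nat_lit 6392) (Step.L (Step.L Step.done))))) (Scr.cons (nat_lit 12) (nat_lit 1) (Step.L (Step.L (Step.L (Step.L (Step.D (nat_lit 8908) Step.done))))) (Scr.cons (nat_lit 12) (nat_lit 1) (Step.L (Step.D (nat_lit 8908) (Step.F (nat_lit 6394) (Step.L (Step.L Step.done))))) (Scr.cons (nat_lit 12) (nat_lit 1) (Step.U (nat_lit 7494) (Step.L (Step.L (Step.D (nat_lit 7494) (Step.D (nat_lit 10543) Step.done))))) (Scr.cons (nat_lit 12) (nat_lit 1) (Step.L (Step.L (Step.L (Step.L (Step.D (nat_lit 8917) Step.done))))) (Scr.cons (nat_lit 11) (nat_lit 0) (Step.U (nat_lit 7494) (Step.L (Step.L (Step.D (nat_lit 7493) (Step.D (nat_lit 10542) Step.done))))) (Scr.cons (nat_lit 9) (nat_lit 5) (Step.U (nat_lit 7493) (Step.L (Step.L (Step.L (Step.L (Step.L (Step.L (Step.L (Step.L (Step.L (Step.L (Step.L (Step.L (Step.L (Step.L (Step.B (nat_lit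 990) (Step.D (nat_lit 3395) (Step.F (nat_lit 989) (Step.D (nat_lit 3439) (Step.B (nat_lit 988) (Step.U (nat_lit 6049) (Step.L (Step.D (nat_lit 9193) Step.done))))))))))))))))))))))) (Scr.cons (nat_lit 12) (nat_lit 0) (Step.B (nat_lit 6399) (Step.U (nat_lit 9193) (Step.L (Step.L (Step.D (nat_lit 9193) Step.done))))) (Scr.cons (nat_lit 13) (nat_lit 0) (Step.U (nat_lit 8919) (Step.F (nat_lit 3756) (Step.L (Step.L (Step.L (Step.L (Step.L (Step.L (Step.D (nat_lit 9193) (Step.F (nat_lit 6400) (Step.D (nat_lit 10542) Step.done))))))))))) (Scr.cons (nat_lit 8) (nat_lit 0) (Step.B (nat_lit 6398) (Step.F (nat_lit 6401) (Step.U (nat_lit 8919) (Step.U (nat_lit 5795) (Step.L (Step.L (Step.L (Step.L (Step.L (Step.L (Step.L (Step.L (Step.L (Step.L (Step.L (Step.B (nat_lit 6397) Step.done)))))))))))))))) Scr.nil))))))))))))))))))))))))))))))))))))))))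
noncomputable def s160 : Scr := (Scr.cons (nat_lit 0) (nat_lit 1) (Step.B (nat_lit 6397) (Step.F (nat_lit 6402) (Step.D (nat_lit 10543) Step.done))) (Scr.cons (nat_lit 0) (nat_lit 0) (Step.B (nat_lit 6396) (Step.F (nat_lit 6403) Step.done)) (Scr.cons (nat_lit 0) (nat_lit 1) (Step.D (nat_lit 10543) (Step.F (nat_lit 6403) Step.done)) (Scr.cons (nat_lit 12) (nat_lit 1) (Step.L (Step.F (nat_lit 6404) (Step.B (nat_lit 6405) (Step.L (Step.L Step.done))))) (Scr.cons (nat_lit 12) (nat_lit 1) (Step.L (Step.L (Step.L (Step.L (Step.D (nat_lit 8932) Step.done))))) (Scr.cons (nat_lit 12) (nat_lit 1) (Step.L (Step.D (nat_lit 8932) (Step.F (nat_lit 6407) (Step.L (Step.L Step.done))))) (Scr.cons (nat_lit 12) (nat_lit 4) (Step.L (Step.L (Step.L (Step.L (Step.D (nat_lit 8953) Step.done))))) (Scr.cons (nat_lit 12) (nat_lit 4) (Step.L (Step.D (nat_lit 8953) (Step.F (nat_lit 6409) (Step.L (Step.L Step.done))))) (Scr.cons (nat_lit 12) (nat_lit 1) (Step.L (Step.L (Step.L (Step.L (Step.D (nat_lit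 5825) Step.done))))) (Scr.cons (nat_lit 9) (nat_lit 5) (Step.L (Step.L (Step.L (Step.L (Step.L (Step.L (Step.L (Step.L (Step.L (Step.L (Step.L (Step.L (Step.L (Step.L (Step.L (Step.L (Step.L (Step.L (Step.L (Step.L (Step.L (Step.B (nat_lit 6411) (Step.D (nat_lit 8959) Step.done))))))))))))))))))))))) (Scr.cons (nat_lit 13) (nat_lit 2) (Step.L (Step.L (Step.L (Step.B (nat_lit 6412) (Step.U (nat_lit 8959) (Step.U (nat_lit 5825) (Step.L (Step.L (Step.L (Step.L (Step.L Step.done))))))))))) (Scr.cons (nat_lit 12) (nat_lit 1) (Step.L (Step.L (Step.L (Step.L (Step.D (nat_lit 5826) Step.done))))) (Scr.cons (nat_lit 12) (nat_lit 1) (Step.L (Step.D (nat_lit 5826) (Step.F (nat_lit 6414) (Step.L (Step.D (nat_lit 8961) Step.done))))) (Scr.cons (nat_lit 12) (nat_lit 1) (Step.L (Step.D (nat_lit 8961) (Step.F (nat_lit 6415) (Step.L (Step.L Step.done))))) (Scr.cons (nat_lit 12) (nat_lit 1) (Step.L (Step.L (Step.L (Step.L (Step.D (nat_lit 8969) Step.done))))) (Scr.cons (nat_lit 12) (nat_lit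 1) (Step.L (Step.D (nat_lit 8969) (Step.F (nat_lit 6417) (Step.L (Step.L Step.done))))) (Scr.cons (nat_lit 12) (nat_lit 1) (Step.L (Step.L (Step.L (Step.L (Step.D (nat_lit 8972) Step.done))))) (Scr.cons (nat_lit 12) (nat_lit 1) (Step.L (Step.D (nat_lit 8972) (Step.F (nat_lit 6419) (Step.L (Step.L Step.done))))) (Scr.cons (nat_lit 12) (nat_lit 4) (Step.L (Step.L (Step.L (Step.L (Step.D (nat_lit 8973) Step.done))))) (Scr.cons (nat_lit 12) (nat_lit 4) (Step.L (Step.D (nat_lit 8973) (Step.F (nat_lit 6421) (Step.L (Step.L Step.done))))) (Scr.cons (nat_lit 12) (nat_lit 1) (Step.L (Step.L (Step.L (Step.L (Step.D (nat_lit 8896) Step.done))))) (Scr.cons (nat_lit 7) (nat_lit 5) (Step.F (nat_lit 6423) (Step.L (Step.L (Step.L (Step.L (Step.L (Step.L (Step.L (Step.L (Step.L (Step.L (Step.L (Step.L (Step.L (Step.L (Step.L (Step.L (Step.L (Step.B (nat_lit 6411) (Step.D (nat_lit 8959) Step.done)))))))))))))))))))) (Scr.cons (nat_lit 12) (nat_lit 0) (Step.B (nat_lit 6412) (Step.U (nat_lit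 8959) (Step.F (nat_lit 6411) (Step.D (nat_lit 5825) (Step.D (nat_lit 8959) Step.done))))) (Scr.cons (nat_lit 6) (nat_lit 0) (Step.L (Step.L (Step.L (Step.L (Step.B (nat_lit 6423) (Step.B (nat_lit 6424) (Step.F (nat_lit 6425) (Step.L (Step.L (Step.L (Step.L Step.done))))))))))) (Scr.cons (nat_lit 13) (nat_lit 3) (Step.U (nat_lit 8790) (Step.U (nat_lit 5686) (Step.L (Step.L (Step.L (Step.L (Step.L (Step.L (Step.L (Step.D (nat_lit 6718) (Step.D (nat_lit 9883) Step.done))))))))))) (Scr.cons (nat_lit 12) (nat_lit 4) (Step.U (nat_lit 5686) (Step.L (Step.L (Step.D (nat_lit 5686) (Step.D (nat_lit 8790) Step.done))))) (Scr.cons (nat_lit 11) (nat_lit 0) (Step.U (nat_lit 6292) (Step.U (nat_lit 3592) (Step.L (Step.D (nat_lit 6291) (Step.D (nat_lit 9467) Step.done))))) (Scr.cons (nat_lit 1) (nat_lit 1) (Step.U (nat_lit 9467) (Step.F (nat_lit 5486) (Step.D (nat_lit 5686) Step.done))) (Scr.cons (nat_lit 1) (nat_lit 0) (Step.B (nat_lit 6429) (Step.B (nat_lit 6430) Step.done)) (Scr.cons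 (nat_lit 16) (nat_lit 3) (Step.U (nat_lit 8976) (Step.D (nat_lit 8975) (Step.F (nat_lit 3057) (Step.D (nat_lit 9883) (Step.F (nat_lit 6427) (Step.F (nat_lit 6428) (Step.F (nat_lit 6431) (Step.U (nat_lit 6292) (Step.U (nat_lit 3592) (Step.L (Step.L (Step.L (Step.L (Step.L (Step.L (Step.L (Step.L (Step.L (Step.L (Step.L (Step.L (Step.D (nat_lit 4303) (Step.D (nat_lit 7217) (Step.D (nat_lit 10300) Step.done)))))))))))))))))))))))) (Scr.cons (nat_lit 0) (nat_lit 1) (Step.D (nat_lit 10300) (Step.F (nat_lit 6432) Step.done)) (Scr.cons (nat_lit 12) (nat_lit 4) (Step.L (Step.L (Step.L (Step.L (Step.D (nat_lit 5839) Step.done))))) (Scr.cons (nat_lit 15) (nat_lit 0) (Step.L (Step.L (Step.L (Step.L (Step.L (Step.L (Step.L (Step.D (nat_lit 4303) (Step.D (nat_lit 7217) (Step.B (nat_lit 6433) (Step.U (nat_lit 8976) (Step.F (nat_lit 6434) (Step.L (Step.L (Step.L Step.done))))))))))))))) (Scr.cons (nat_lit 16) (nat_lit 4) (Step.L (Step.L (Step.L (Step.L (Step.L (Step.L (Step.L (Step.L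 (Step.L (Step.L (Step.L (Step.L (Step.L (Step.L (Step.L (Step.L (Step.D (nat_lit 6717) (Step.B (nat_lit 3055) (Step.U (nat_lit 8976) (Step.F (nat_lit 6434) (Step.L (Step.L (Step.L Step.done))))))))))))))))))))))) (Scr.cons (nat_lit 12) (nat_lit 1) (Step.L (Step.L (Step.L (Step.L (Step.D (nat_lit 5849) Step.done))))) (Scr.cons (nat_lit 12) (nat_lit 1) (Step.L (Step.D (nat_lit 5849) (Step.F (nat_lit 6437) (Step.L (Step.D (nat_lit 8987) Step.done))))) (Scr.cons (nat_lit 12) (nat_lit 1) (Step.L (Step.D (nat_lit 8987) (Step.F (nat_lit 6438) (Step.L (Step.L Step.done))))) (Scr.cons (nat_lit 12) (nat_lit 1) (Step.L (Step.L (Step.L (Step.L (Step.D (nat_lit 8988) Step.done))))) (Scr.cons (nat_lit 12) (nat_lit 1) (Step.L (Step.D (nat_lit 8988) (Step.F (nat_lit 6440) (Step.L (Step.L Step.done))))) (Scr.cons (nat_lit 12) (nat_lit 1) (Step.U (nat_lit 8900) (Step.L (Step.L (Step.D (nat_lit 8900) (Step.D (nat_lit 11549) Step.done))))) Scr.nil))))))))))))))))))))))))))))))))))))))))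
noncomputable def s161 : Scr := (Scr.cons (nat_lit 12) (nat_lit 4) (Step.L (Step.L (Step.L (Step.L (Step.D (nat_lit 7648) Step.done))))) (Scr.cons (nat_lit 14) (nat_lit 3) (Step.L (Step.L (Step.L (Step.L (Step.L (Step.L (Step.L (Step.L (Step.L (Step.L (Step.L (Step.L (Step.L (Step.L (Step.L (Step.L (Step.L (Step.L (Step.L (Step.D (nat_lit 7649) Step.done)))))))))))))))))))) (Scr.cons (nat_lit 12) (nat_lit 4) (Step.U (nat_lit 7649) (Step.D (nat_lit 7648) (Step.F (nat_lit 6443) (Step.D (nat_lit 7649) (Step.F (nat_lit 6444) Step.done))))) (Scr.cons (nat_lit 11) (nat_lit 0) (Step.U (nat_lit 4459) (Step.U (nat_lit 2399) (Step.L (Step.D (nat_lit 4457) (Step.D (nat_lit 7389) Step.done))))) (Scr.cons (nat_lit 12) (nat_lit 1) (Step.U (nat_lit 2399) (Step.L (Step.L (Step.D (nat_lit 2399) (Step.D (nat_lit 4458) Step.done))))) (Scr.cons (nat_lit 12) (nat_lit 1) (Step.U (nat_lit 4459) (Step.D (nat_lit 4458) (Step.F (nat_lit 6447) (Step.D (nat_lit 4459) (Step.D (nat_lit 7390) Step.done)))))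 (Scr.cons (nat_lit 12) (nat_lit 1) (Step.F (nat_lit 6446) (Step.D (nat_lit 7390) (Step.F (nat_lit 6448) (Step.B (nat_lit 6446) (Step.D (nat_lit 10453) Step.done))))) (Scr.cons (nat_lit 12) (nat_lit 1) (Step.U (nat_lit 1660) (Step.L (Step.L (Step.D (nat_lit 1660) (Step.D (nat_lit 3306) Step.done))))) (Scr.cons (nat_lit 12) (nat_lit 1) (Step.U (nat_lit 3307) (Step.D (nat_lit 3306) (Step.F (nat_lit 6450) (Step.D (nat_lit 3307) (Step.D (nat_lit 5861) Step.done))))) (Scr.cons (nat_lit 7) (nat_lit 5) (Step.F (nat_lit 6449) (Step.U (nat_lit 7389) (Step.U (nat_lit 4457) (Step.L (Step.L (Step.L (Step.L (Step.L (Step.L (Step.L (Step.L (Step.L (Step.L (Step.L (Step.D (nat_lit 451) (Step.B (nat_lit 2425) (Step.D (nat_lit 1660) (Step.D (nat_lit 3307) (Step.B (nat_lit 6451) (Step.D (nat_lit 9002) Step.done)))))))))))))))))))) (Scr.cons (nat_lit 12) (nat_lit 4) (Step.L (Step.L (Step.L (Step.L (Step.D (nat_lit 9008) Step.done))))) (Scr.cons (nat_lit 1) (nat_lit 0) (Step.B (nat_lit 2973)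 (Step.F (nat_lit 2974) Step.done)) (Scr.cons (nat_lit 16) (nat_lit 5) (Step.F (nat_lit 6453) (Step.L (Step.D (nat_lit 9406) (Step.F (nat_lit 6454) (Step.U (nat_lit 7756) (Step.U (nat_lit 4776) (Step.L (Step.L (Step.L (Step.L (Step.L (Step.L (Step.L (Step.L (Step.L (Step.L (Step.L (Step.L (Step.L (Step.L (Step.L (Step.L (Step.L Step.done))))))))))))))))))))))) (Scr.cons (nat_lit 11) (nat_lit 0) (Step.U (nat_lit 10768) (Step.L (Step.L (Step.L (Step.F (nat_lit 6455) Step.done))))) (Scr.cons (nat_lit 14) (nat_lit 5) (Step.B (nat_lit 6452) (Step.U (nat_lit 9002) (Step.U (nat_lit 5861) (Step.U (nat_lit 3307) (Step.U (nat_lit 1660) (Step.L (Step.L (Step.L (Step.L (Step.L (Step.L (Step.L (Step.D (nat_lit 9008) (Step.F (nat_lit 6456) (Step.U (nat_lit 10768) (Step.L (Step.L (Step.D (nat_lit 4783) (Step.B (nat_lit 1591) (Step.D (nat_lit 8027) (Step.D (nat_lit 10999) Step.done))))))))))))))))))))) (Scr.cons (nat_lit 1) (nat_lit 1) (Step.D (nat_lit 10999) (Step.F (nat_lit 6457) Step.done))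 (Scr.cons (nat_lit 12) (nat_lit 1) (Step.U (nat_lit 5012) (Step.F (nat_lit 1589) (Step.D (nat_lit 2755) (Step.D (nat_lit 5012) (Step.D (nat_lit 8027) Step.done))))) (Scr.cons (nat_lit 11) (nat_lit 0) (Step.U (nat_lit 7650) (Step.L (Step.L (Step.D (nat_lit 7649) (Step.D (nat_lit 10675) Step.done))))) (Scr.cons (nat_lit 7) (nat_lit 3) (Step.F (nat_lit 6452) (Step.F (nat_lit 6458) (Step.F (nat_lit 6459) (Step.F (nat_lit 1591) (Step.U (nat_lit 4783) (Step.L (Step.L (Step.L (Step.L (Step.L (Step.L (Step.L (Step.L (Step.L (Step.L (Step.L (Step.L (Step.L (Step.D (nat_lit 7650) (Step.B (nat_lit 6460) Step.done)))))))))))))))))))) (Scr.cons (nat_lit 5) (nat_lit 2) (Step.U (nat_lit 10675) (Step.B (nat_lit 6445) (Step.B (nat_lit 6444) (Step.D (nat_lit 10675) (Step.F (nat_lit 6461) Step.done))))) (Scr.cons (nat_lit 6) (nat_lit 3) (Step.L (Step.L (Step.L (Step.L (Step.L (Step.L (Step.L (Step.L (Step.D (nat_lit 1660) (Step.B (nat_lit 6450) (Step.D (nat_lit 5860) Step.done)))))))))))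 (Scr.cons (nat_lit 15) (nat_lit 1) (Step.F (nat_lit 6442) (Step.U (nat_lit 8900) (Step.L (Step.L (Step.F (nat_lit 6445) (Step.D (nat_lit 10675) (Step.B (nat_lit 6462) (Step.U (nat_lit 9002) (Step.F (nat_lit 6451) (Step.U (nat_lit 3307) (Step.D (nat_lit 3306) (Step.D (nat_lit 5860) (Step.F (nat_lit 6463) (Step.L (Step.D (nat_lit 9009) Step.done))))))))))))))) (Scr.cons (nat_lit 12) (nat_lit 1) (Step.U (nat_lit 9010) (Step.F (nat_lit 1045) (Step.D (nat_lit 5866) (Step.D (nat_lit 9010) (Step.D (nat_lit 11584) Step.done))))) (Scr.cons (nat_lit 8) (nat_lit 1) (Step.U (nat_lit 5907) (Step.L (Step.L (Step.L (Step.L (Step.L (Step.L (Step.L (Step.L (Step.L (Step.D (nat_lit 528) (Step.B (nat_lit 736) (Step.D (nat_lit 2660) (Step.B (nat_lit 4688) (Step.D (nat_lit 7856) Step.done))))))))))))))) (Scr.cons (nat_lit 12) (nat_lit 4) (Step.U (nat_lit 9011) (Step.L (Step.L (Step.D (nat_lit 9011) (Step.D (nat_lit 11586) Step.done))))) (Scr.cons (nat_lit 11) (nat_lit 0) (Step.U (nat_lit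 9013) (Step.U (nat_lit 5867) (Step.L (Step.D (nat_lit 9011) (Step.D (nat_lit 11587) Step.done))))) (Scr.cons (nat_lit 13) (nat_lit 3) (Step.U (nat_lit 5868) (Step.U (nat_lit 3310) (Step.L (Step.L (Step.L (Step.L (Step.L (Step.L (Step.L (Step.D (nat_lit 5867) (Step.D (nat_lit 9012) Step.done))))))))))) (Scr.cons (nat_lit 12) (nat_lit 4) (Step.U (nat_lit 3310) (Step.L (Step.L (Step.D (nat_lit 3310) (Step.D (nat_lit 5868) Step.done))))) (Scr.cons (nat_lit 11) (nat_lit 0) (Step.U (nat_lit 5870) (Step.L (Step.D (nat_lit 3310) (Step.D (nat_lit 5869) (Step.D (nat_lit 9016) Step.done))))) (Scr.cons (nat_lit 12) (nat_lit 4) (Step.U (nat_lit 183) (Step.L (Step.L (Step.D (nat_lit 183) (Step.D (nat_lit 525) Step.done))))) (Scr.cons (nat_lit 12) (nat_lit 4) (Step.U (nat_lit 1292) (Step.F (nat_lit 6472) (Step.D (nat_lit 525) (Step.D (nat_lit 1292) (Step.D (nat_lit 2649) Step.done))))) (Scr.cons (nat_lit 12) (nat_lit 4) (Step.U (nat_lit 2650) (Step.D (nat_lit 2649) (Step.F (nat_lit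 6473) (Step.D (nat_lit 2650) (Step.D (nat_lit 4855) Step.done))))) (Scr.cons (nat_lit 12) (nat_lit 1) (Step.U (nat_lit 7846) (Step.F (nat_lit 6474) (Step.D (nat_lit 4855) (Step.D (nat_lit 7846) (Step.D (nat_lit 10845) Step.done))))) (Scr.cons (nat_lit 1) (nat_lit 1) (Step.D (nat_lit 10863) (Step.F (nat_lit 4982) Step.done)) (Scr.cons (nat_lit 13) (nat_lit 3) (Step.L (Step.L (Step.L (Step.L (Step.L (Step.L (Step.L (Step.L (Step.B (nat_lit 386) (Step.D (nat_lit 49) (Step.D (nat_lit 181) Step.done))))))))))) (Scr.cons (nat_lit 12) (nat_lit 1) (Step.U (nat_lit 523) (Step.F (nat_lit 387) (Step.D (nat_lit 181) (Step.D (nat_lit 523) (Step.D (nat_lit 1289) Step.done))))) (Scr.cons (nat_lit 12) (nat_lit 1) (Step.U (nat_lit 2646) (Step.F (nat_lit 6478) (Step.D (nat_lit 1289) (Step.D (nat_lit 2646) (Step.D (nat_lit 4852) Step.done))))) (Scr.cons (nat_lit 9) (nat_lit 2) (Step.U (nat_lit 8996) (Step.L (Step.L (Step.L (Step.L (Step.L (Step.L (Step.L (Step.L (Step.F (nat_lit 6476) (Step.U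 (nat_lit 7866) (Step.U (nat_lit 4873) (Step.L (Step.L (Step.L (Step.L (Step.B (nat_lit 6477) (Step.D (nat_lit 523) (Step.B (nat_lit 6478) (Step.D (nat_lit 2646) (Step.B (nat_lit 6479) (Step.D (nat_lit 7845) (Step.D (nat_lit 10844) Step.done))))))))))))))))))))))) (Scr.cons (nat_lit 12) (nat_lit 4) (Step.L (Step.L (Step.L (Step.L (Step.D (nat_lit 8996) Step.done))))) (Scr.cons (nat_lit 8) (nat_lit 1) (Step.F (nat_lit 6480) (Step.U (nat_lit 8996) (Step.L (Step.L (Step.L (Step.L (Step.L (Step.L (Step.L (Step.L (Step.L (Step.L (Step.L (Step.L (Step.D (nat_lit 9017) Step.done))))))))))))))) Scr.nil))))))))))))))))))))))))))))))))))))))))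
noncomputable def s162 : Scr := (Scr.cons (nat_lit 12) (nat_lit 4) (Step.F (nat_lit 6480) (Step.F (nat_lit 6481) (Step.D (nat_lit 8996) (Step.B (nat_lit 6480) (Step.B (nat_lit 6482) Step.done))))) (Scr.cons (nat_lit 8) (nat_lit 1) (Step.U (nat_lit 4854) (Step.U (nat_lit 2649) (Step.U (nat_lit 1292) (Step.U (nat_lit 525) (Step.U (nat_lit 183) (Step.L (Step.L (Step.B (nat_lit 386) (Step.D (nat_lit 49) (Step.B (nat_lit 387) (Step.D (nat_lit 523) (Step.B (nat_lit 6478) (Step.D (nat_lit 2646) (Step.B (nat_lit 6479) (Step.D (nat_lit 7845) Step.done))))))))))))))) (Scr.cons (nat_lit 13) (nat_lit 3) (Step.U (nat_lit 5870) (Step.L (Step.D (nat_lit 9017) (Step.F (nat_lit 6483) (Step.U (nat_lit 10844) (Step.F (nat_lit 6484) (Step.U (nat_lit 4854) (Step.F (nat_lit 6473) (Step.D (nat_lit 2650) (Step.B (nat_lit 6474) (Step.D (nat_lit 7846) (Step.D (nat_lit 10845) Step.done)))))))))))) (Scr.cons (nat_lit 0) (nat_lit 1) (Step.B (nat_lit 6475) (Step.F (nat_lit 6485) (Step.D (nat_lit 9018)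 Step.done))) (Scr.cons (nat_lit 0) (nat_lit 1) (Step.D (nat_lit 9018) (Step.F (nat_lit 6486) Step.done)) (Scr.cons (nat_lit 11) (nat_lit 0) (Step.U (nat_lit 2652) (Step.U (nat_lit 1293) (Step.D (nat_lit 1292) (Step.D (nat_lit 2650) (Step.D (nat_lit 4856) Step.done))))) (Scr.cons (nat_lit 12) (nat_lit 1) (Step.U (nat_lit 1293) (Step.F (nat_lit 6472) (Step.D (nat_lit 525) (Step.D (nat_lit 1293) (Step.D (nat_lit 2651) Step.done))))) (Scr.cons (nat_lit 6) (nat_lit 3) (Step.U (nat_lit 2659) (Step.U (nat_lit 1297) (Step.U (nat_lit 528) (Step.L (Step.L (Step.L (Step.D (nat_lit 183) (Step.D (nat_lit 525) (Step.D (nat_lit 1293) (Step.B (nat_lit 6489) (Step.D (nat_lit 4857) Step.done))))))))))) (Scr.cons (nat_lit 16) (nat_lit 2) (Step.F (nat_lit 6467) (Step.D (nat_lit 11587) (Step.F (nat_lit 6468) (Step.U (nat_lit 9013) (Step.D (nat_lit 9012) (Step.F (nat_lit 6469) (Step.F (nat_lit 6470) (Step.D (nat_lit 5869) (Step.D (nat_lit 9016) (Step.F (nat_lit 6471) (Step.B (nat_lit 6487)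 (Step.U (nat_lit 7846) (Step.F (nat_lit 6474) (Step.D (nat_lit 4856) (Step.F (nat_lit 6488) (Step.U (nat_lit 2652) (Step.D (nat_lit 2651) (Step.D (nat_lit 4857) (Step.F (nat_lit 6490) (Step.D (nat_lit 4867) (Step.D (nat_lit 7855) (Step.F (nat_lit 4687) (Step.D (nat_lit 7857) (Step.D (nat_lit 10851) Step.done)))))))))))))))))))))))) (Scr.cons (nat_lit 0) (nat_lit 1) (Step.D (nat_lit 11586) (Step.B (nat_lit 6491) Step.done)) (Scr.cons (nat_lit 13) (nat_lit 0) (Step.U (nat_lit 9066) (Step.B (nat_lit 6466) (Step.U (nat_lit 7856) (Step.U (nat_lit 4868) (Step.D (nat_lit 4869) (Step.D (nat_lit 7857) (Step.D (nat_lit 10851) (Step.F (nat_lit 6492) (Step.U (nat_lit 9011) (Step.L (Step.D (nat_lit 11585) Step.done))))))))))) (Scr.cons (nat_lit 5) (nat_lit 2) (Step.U (nat_lit 11585) (Step.L (Step.L (Step.D (nat_lit 11585) (Step.F (nat_lit 6493) Step.done))))) (Scr.cons (nat_lit 8) (nat_lit 0) (Step.F (nat_lit 6494) (Step.U (nat_lit 11585) (Step.L (Step.L (Step.L (Step.L (Step.L (Step.L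 (Step.L (Step.L (Step.L (Step.L (Step.B (nat_lit 1045) (Step.D (nat_lit 9010) (Step.B (nat_lit 6465) Step.done))))))))))))))) (Scr.cons (nat_lit 9) (nat_lit 1) (Step.L (Step.D (nat_lit 8900) (Step.B (nat_lit 6442) (Step.B (nat_lit 6464) (Step.U (nat_lit 9009) (Step.L (Step.L (Step.L (Step.B (nat_lit 1045) (Step.D (nat_lit 9010) (Step.B (nat_lit 6465) (Step.F (nat_lit 6495) (Step.U (nat_lit 9066) (Step.U (nat_lit 5907) (Step.L (Step.L (Step.L (Step.L (Step.L (Step.L (Step.L (Step.L (Step.L (Step.D (nat_lit 9067) Step.done)))))))))))))))))))))))) (Scr.cons (nat_lit 1) (nat_lit 1) (Step.D (nat_lit 9067) (Step.F (nat_lit 6496) (Step.D (nat_lit 11548) Step.done))) (Scr.cons (nat_lit 1) (nat_lit 1) (Step.D (nat_lit 11548) (Step.F (nat_lit 6497) Step.done)) (Scr.cons (nat_lit 12) (nat_lit 4) (Step.L (Step.L (Step.L (Step.L (Step.D (nat_lit 9021) Step.done))))) (Scr.cons (nat_lit 12) (nat_lit 4) (Step.L (Step.D (nat_lit 9021) (Step.F (nat_lit 6499) (Step.L (Step.L Step.done)))))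 (Scr.cons (nat_lit 12) (nat_lit 1) (Step.L (Step.L (Step.L (Step.L (Step.D (nat_lit 9027) Step.done))))) (Scr.cons (nat_lit 12) (nat_lit 1) (Step.L (Step.D (nat_lit 9027) (Step.F (nat_lit 6501) (Step.L (Step.L Step.done))))) (Scr.cons (nat_lit 9) (nat_lit 5) (Step.L (Step.L (Step.L (Step.L (Step.L (Step.B (nat_lit 1192) (Step.B (nat_lit 1212) (Step.U (nat_lit 6469) (Step.D (nat_lit 6470) (Step.B (nat_lit 1214) (Step.U (nat_lit 8805) (Step.L (Step.L (Step.L (Step.L (Step.L (Step.L (Step.L (Step.L (Step.L (Step.L (Step.L (Step.L Step.done))))))))))))))))))))))) (Scr.cons (nat_lit 12) (nat_lit 4) (Step.L (Step.L (Step.L (Step.L (Step.D (nat_lit 9039) Step.done))))) (Scr.cons (nat_lit 12) (nat_lit 4) (Step.L (Step.D (nat_lit 9039) (Step.F (nat_lit 6504) (Step.L (Step.L Step.done))))) (Scr.cons (nat_lit 6) (nat_lit 1) (Step.L (Step.L (Step.L (Step.L (Step.L (Step.L (Step.L (Step.L (Step.L (Step.L (Step.D (nat_lit 9001) Step.done))))))))))) (Scr.cons (nat_lit 13) (nat_lit 2)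 (Step.L (Step.L (Step.L (Step.L (Step.L (Step.L (Step.L (Step.L (Step.L (Step.L (Step.D (nat_lit 9001) Step.done))))))))))) (Scr.cons (nat_lit 12) (nat_lit 1) (Step.L (Step.B (nat_lit 6506) (Step.F (nat_lit 6507) (Step.L (Step.L Step.done))))) (Scr.cons (nat_lit 12) (nat_lit 1) (Step.L (Step.L (Step.L (Step.L (Step.D (nat_lit 9045) Step.done))))) (Scr.cons (nat_lit 12) (nat_lit 1) (Step.L (Step.D (nat_lit 9045) (Step.F (nat_lit 6509) (Step.L (Step.L Step.done))))) (Scr.cons (nat_lit 12) (nat_lit 1) (Step.U (nat_lit 5574) (Step.L (Step.L (Step.D (nat_lit 5574) (Step.D (nat_lit 8672) Step.done))))) (Scr.cons (nat_lit 12) (nat_lit 1) (Step.L (Step.L (Step.L (Step.L (Step.D (nat_lit 2569) Step.done))))) (Scr.cons (nat_lit 12) (nat_lit 1) (Step.U (nat_lit 4734) (Step.F (nat_lit 6512) (Step.D (nat_lit 2569) (Step.D (nat_lit 4734) (Step.D (nat_lit 7709) Step.done))))) (Scr.cons (nat_lit 4) (nat_lit 0) (Step.U (nat_lit 4369) (Step.B (nat_lit 390) (Step.U (nat_lit 2644) (Step.D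 (nat_lit 2645) (Step.D (nat_lit 4851) Step.done))))) (Scr.cons (nat_lit 14) (nat_lit 5) (Step.U (nat_lit 10729) (Step.U (nat_lit 7709) (Step.U (nat_lit 4734) (Step.D (nat_lit 4733) (Step.F (nat_lit 4026) (Step.F (nat_lit 4025) (Step.U (nat_lit 2340) (Step.U (nat_lit 1115) (Step.L (Step.L (Step.L (Step.L (Step.L (Step.L (Step.D (nat_lit 1116) (Step.B (nat_lit 384) (Step.D (nat_lit 4369) (Step.B (nat_lit 6514) (Step.D (nat_lit 7844) (Step.D (nat_lit 10843) Step.done)))))))))))))))))))) (Scr.cons (nat_lit 12) (nat_lit 1) (Step.L (Step.L (Step.L (Step.L (Step.D (nat_lit 3365) Step.done))))) (Scr.cons (nat_lit 12) (nat_lit 1) (Step.U (nat_lit 5957) (Step.F (nat_lit 6516) (Step.D (nat_lit 3365) (Step.D (nat_lit 5957) (Step.D (nat_lit 9118) Step.done))))) (Scr.cons (nat_lit 14) (nat_lit 4) (Step.U (nat_lit 5693) (Step.L (Step.L (Step.L (Step.L (Step.L (Step.L (Step.L (Step.L (Step.L (Step.L (Step.L (Step.L (Step.L (Step.L (Step.D (nat_lit 1316) (Step.B (nat_lit 392) (Step.F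 (nat_lit 390) (Step.D (nat_lit 4369) (Step.D (nat_lit 7287) Step.done)))))))))))))))))))) (Scr.cons (nat_lit 11) (nat_lit 0) (Step.F (nat_lit 6518) (Step.U (nat_lit 5693) (Step.L (Step.D (nat_lit 3210) (Step.D (nat_lit 5691) Step.done))))) (Scr.cons (nat_lit 12) (nat_lit 4) (Step.U (nat_lit 4369) (Step.F (nat_lit 384) (Step.D (nat_lit 2341) (Step.D (nat_lit 4369) (Step.D (nat_lit 7287) Step.done))))) (Scr.cons (nat_lit 12) (nat_lit 1) (Step.F (nat_lit 6519) (Step.F (nat_lit 6520) (Step.D (nat_lit 7287) (Step.B (nat_lit 6519) (Step.D (nat_lit 8795) Step.done))))) (Scr.cons (nat_lit 11) (nat_lit 0) (Step.L (Step.L (Step.L (Step.D (nat_lit 1729) (Step.D (nat_lit 3413) Step.done))))) Scr.nil))))))))))))))))))))))))))))))))))))))))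
noncomputable def s163 : Scr := (Scr.cons (nat_lit 12) (nat_lit 4) (Step.U (nat_lit 1729) (Step.L (Step.L (Step.D (nat_lit 1729) (Step.D (nat_lit 3412) Step.done))))) (Scr.cons (nat_lit 12) (nat_lit 1) (Step.U (nat_lit 6024) (Step.F (nat_lit 6523) (Step.D (nat_lit 3412) (Step.D (nat_lit 6024) (Step.D (nat_lit 9175) Step.done))))) (Scr.cons (nat_lit 0) (nat_lit 1) (Step.U (nat_lit 5723) (Step.B (nat_lit 2642) (Step.L Step.done))) (Scr.cons (nat_lit 1) (nat_lit 0) (Step.F (nat_lit 2688) (Step.B (nat_lit 6525) (Step.D (nat_lit 4363) Step.done))) (Scr.cons (nat_lit 1) (nat_lit 0) (Step.D (nat_lit 5786) (Step.B (nat_lit 6526) (Step.D (nat_lit 7281) Step.done))) (Scr.cons (nat_lit 1) (nat_lit 0) (Step.D (nat_lit 7281) (Step.F (nat_lit 6527) Step.done)) (Scr.cons (nat_lit 12) (nat_lit 4) (Step.L (Step.L (Step.L (Step.L (Step.D (nat_lit 7279) Step.done))))) (Scr.cons (nat_lit 12) (nat_lit 4) (Step.U (nat_lit 2338) (Step.L (Step.L (Step.D (nat_lit 2338) (Step.D (nat_lit 4365)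 Step.done))))) (Scr.cons (nat_lit 6) (nat_lit 1) (Step.U (nat_lit 7286) (Step.F (nat_lit 6530) (Step.U (nat_lit 2338) (Step.L (Step.L (Step.L (Step.L (Step.L (Step.L (Step.D (nat_lit 7279) (Step.D (nat_lit 10355) Step.done))))))))))) (Scr.cons (nat_lit 14) (nat_lit 0) (Step.U (nat_lit 1618) (Step.L (Step.L (Step.L (Step.L (Step.L (Step.L (Step.L (Step.L (Step.L (Step.L (Step.L (Step.L (Step.L (Step.L (Step.L (Step.L (Step.L (Step.L (Step.D (nat_lit 2572) Step.done)))))))))))))))))))) (Scr.cons (nat_lit 12) (nat_lit 3) (Step.B (nat_lit 6532) (Step.U (nat_lit 2572) (Step.D (nat_lit 2571) (Step.F (nat_lit 3730) (Step.D (nat_lit 2572) Step.done))))) (Scr.cons (nat_lit 11) (nat_lit 0) (Step.U (nat_lit 4362) (Step.L (Step.D (nat_lit 2337) (Step.D (nat_lit 4361) (Step.D (nat_lit 7278) Step.done))))) (Scr.cons (nat_lit 1) (nat_lit 1) (Step.U (nat_lit 7278) (Step.B (nat_lit 2638) (Step.L Step.done))) (Scr.cons (nat_lit 1) (nat_lit 1) (Step.B (nat_lit 6534) (Step.B (nat_lit 6535)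 (Step.L Step.done))) (Scr.cons (nat_lit 1) (nat_lit 1) (Step.D (nat_lit 4362) (Step.B (nat_lit 6536) (Step.D (nat_lit 2572) Step.done))) (Scr.cons (nat_lit 0) (nat_lit 1) (Step.B (nat_lit 6533) (Step.F (nat_lit 6537) (Step.L Step.done))) (Scr.cons (nat_lit 1) (nat_lit 1) (Step.D (nat_lit 1618) (Step.B (nat_lit 6538) (Step.D (nat_lit 2338) Step.done))) (Scr.cons (nat_lit 0) (nat_lit 1) (Step.U (nat_lit 4365) (Step.F (nat_lit 6539) (Step.L Step.done))) (Scr.cons (nat_lit 1) (nat_lit 0) (Step.U (nat_lit 7286) (Step.B (nat_lit 6540) (Step.L Step.done))) (Scr.cons (nat_lit 0) (nat_lit 1) (Step.F (nat_lit 6531) (Step.B (nat_lit 6541) (Step.D (nat_lit 5692) Step.done))) (Scr.cons (nat_lit 1) (nat_lit 0) (Step.D (nat_lit 10355) (Step.B (nat_lit 6542) Step.done)) (Scr.cons (nat_lit 12) (nat_lit 1) (Step.L (Step.L (Step.L (Step.L (Step.D (nat_lit 1480) Step.done))))) (Scr.cons (nat_lit 12) (nat_lit 1) (Step.U (nat_lit 698) (Step.L (Step.L (Step.D (nat_lit 698) (Step.D (nat_lit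 1639) Step.done))))) (Scr.cons (nat_lit 12) (nat_lit 1) (Step.F (nat_lit 2466) (Step.F (nat_lit 2465) (Step.D (nat_lit 2573) (Step.B (nat_lit 2466) (Step.D (nat_lit 5723) Step.done))))) (Scr.cons (nat_lit 13) (nat_lit 0) (Step.F (nat_lit 2687) (Step.F (nat_lit 6546) (Step.F (nat_lit 2466) (Step.U (nat_lit 2573) (Step.B (nat_lit 2464) (Step.F (nat_lit 6533) (Step.U (nat_lit 1618) (Step.L (Step.L (Step.D (nat_lit 5692) (Step.D (nat_lit 8796) Step.done))))))))))) (Scr.cons (nat_lit 7) (nat_lit 2) (Step.U (nat_lit 8459) (Step.U (nat_lit 5392) (Step.U (nat_lit 2995) (Step.F (nat_lit 6544) (Step.L (Step.L (Step.L (Step.L (Step.L (Step.L (Step.L (Step.L (Step.L (Step.D (nat_lit 698) (Step.B (nat_lit 6545) (Step.D (nat_lit 3264) (Step.D (nat_lit 5788) (Step.B (nat_lit 6547) (Step.U (nat_lit 8796) (Step.D (nat_lit 8797) Step.done)))))))))))))))))))) (Scr.cons (nat_lit 4) (nat_lit 0) (Step.U (nat_lit 10354) (Step.B (nat_lit 6543) (Step.D (nat_lit 8797) (Step.F (nat_lit 6548) (Step.D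 (nat_lit 11317) Step.done))))) (Scr.cons (nat_lit 11) (nat_lit 0) (Step.U (nat_lit 1285) (Step.U (nat_lit 520) (Step.D (nat_lit 519) (Step.D (nat_lit 1283) (Step.D (nat_lit 2639) Step.done))))) (Scr.cons (nat_lit 12) (nat_lit 4) (Step.U (nat_lit 48) (Step.F (nat_lit 386) (Step.D (nat_lit 6) (Step.D (nat_lit 48) (Step.D (nat_lit 179) Step.done))))) (Scr.cons (nat_lit 12) (nat_lit 1) (Step.U (nat_lit 520) (Step.F (nat_lit 6551) (Step.D (nat_lit 179) (Step.D (nat_lit 520) (Step.D (nat_lit 1284) Step.done))))) (Scr.cons (nat_lit 12) (nat_lit 1) (Step.U (nat_lit 1285) (Step.D (nat_lit 1284) (Step.F (nat_lit 6552) (Step.D (nat_lit 1285) (Step.D (nat_lit 2641) Step.done))))) (Scr.cons (nat_lit 12) (nat_lit 1) (Step.F (nat_lit 6550) (Step.D (nat_lit 2641) (Step.F (nat_lit 6553) (Step.B (nat_lit 6550) (Step.D (nat_lit 4848) Step.done))))) (Scr.cons (nat_lit 12) (nat_lit 1) (Step.U (nat_lit 7842) (Step.F (nat_lit 6554) (Step.D (nat_lit 4848) (Step.D (nat_lit 7842) (Step.D (nat_lit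 10840) Step.done))))) (Scr.cons (nat_lit 7) (nat_lit 6) (Step.F (nat_lit 6549) (Step.U (nat_lit 10354) (Step.B (nat_lit 6543) (Step.U (nat_lit 5692) (Step.D (nat_lit 5693) (Step.B (nat_lit 6518) (Step.F (nat_lit 6520) (Step.U (nat_lit 4369) (Step.B (nat_lit 390) (Step.U (nat_lit 2644) (Step.U (nat_lit 1288) (Step.U (nat_lit 522) (Step.U (nat_lit 180) (Step.D (nat_lit 179) (Step.D (nat_lit 520) (Step.D (nat_lit 1285) (Step.B (nat_lit 6550) (Step.B (nat_lit 6554) (Step.D (nat_lit 7842) (Step.D (nat_lit 10841) Step.done)))))))))))))))))))) (Scr.cons (nat_lit 12) (nat_lit 1) (Step.U (nat_lit 10841) (Step.D (nat_lit 10840) (Step.F (nat_lit 6555) (Step.D (nat_lit 10841) (Step.F (nat_lit 6556) Step.done))))) (Scr.cons (nat_lit 12) (nat_lit 4) (Step.U (nat_lit 7841) (Step.F (nat_lit 6554) (Step.D (nat_lit 4848) (Step.D (nat_lit 7841) (Step.D (nat_lit 10839) Step.done))))) (Scr.cons (nat_lit 11) (nat_lit 0) (Step.L (Step.L (Step.L (Step.L (Step.D (nat_lit 1675) Step.done)))))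 (Scr.cons (nat_lit 12) (nat_lit 1) (Step.F (nat_lit 6559) (Step.L (Step.L (Step.B (nat_lit 6559) (Step.D (nat_lit 3329) Step.done))))) (Scr.cons (nat_lit 12) (nat_lit 1) (Step.U (nat_lit 5893) (Step.F (nat_lit 6560) (Step.D (nat_lit 3329) (Step.D (nat_lit 5893) (Step.D (nat_lit 9051) Step.done))))) (Scr.cons (nat_lit 12) (nat_lit 1) (Step.L (Step.L (Step.L (Step.L (Step.D (nat_lit 4454) Step.done))))) Scr.nil))))))))))))))))))))))))))))))))))))))))
noncomputable def s164 : Scr := (Scr.cons (nat_lit 12) (nat_lit 1) (Step.U (nat_lit 7384) (Step.F (nat_lit 6562) (Step.D (nat_lit 4454) (Step.D (nat_lit 7384) (Step.D (nat_lit 10445) Step.done))))) (Scr.cons (nat_lit 12) (nat_lit 4) (Step.L (Step.L (Step.L (Step.L (Step.D (nat_lit 5894) Step.done))))) (Scr.cons (nat_lit 12) (nat_lit 4) (Step.U (nat_lit 9052) (Step.F (nat_lit 6564) (Step.D (nat_lit 5894) (Step.D (nat_lit 9052) (Step.D (nat_lit 11602) Step.done))))) (Scr.cons (nat_lit 6) (nat_lit 1) (Step.U (nat_lit 9053) (Step.F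 (nat_lit 6564) (Step.L (Step.L (Step.L (Step.L (Step.L (Step.L (Step.D (nat_lit 5886) (Step.D (nat_lit 9038) (Step.D (nat_lit 11596) Step.done))))))))))) (Scr.cons (nat_lit 12) (nat_lit 4) (Step.U (nat_lit 5886) (Step.L (Step.L (Step.D (nat_lit 5886) (Step.D (nat_lit 9038) Step.done))))) (Scr.cons (nat_lit 13) (nat_lit 2) (Step.U (nat_lit 9053) (Step.U (nat_lit 5894) (Step.L (Step.L (Step.L (Step.L (Step.L (Step.L (Step.D (nat_lit 5886) (Step.B (nat_lit 6567) (Step.D (nat_lit 11596) Step.done))))))))))) (Scr.cons (nat_lit 12) (nat_lit 4) (Step.U (nat_lit 1430) (Step.L (Step.L (Step.D (nat_lit 1430) (Step.D (nat_lit 2898) Step.done))))) (Scr.cons (nat_lit 12) (nat_lit 4) (Step.U (nat_lit 2899) (Step.D (nat_lit 2898) (Step.F (nat_lit 6569) (Step.D (nat_lit 2899) (Step.D (nat_lit 5247) Step.done))))) (Scr.cons (nat_lit 11) (nat_lit 0) (Step.U (nat_lit 2392) (Step.U (nat_lit 1151) (Step.D (nat_lit 1150) (Step.D (nat_lit 2390) (Step.D (nat_lit 4441) Step.done))))) (Scr.cons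 (nat_lit 12) (nat_lit 4) (Step.L (Step.L (Step.L (Step.L (Step.D (nat_lit 452) Step.done))))) (Scr.cons (nat_lit 12) (nat_lit 1) (Step.U (nat_lit 1151) (Step.F (nat_lit 6572) (Step.D (nat_lit 452) (Step.D (nat_lit 1151) (Step.D (nat_lit 2391) Step.done))))) (Scr.cons (nat_lit 12) (nat_lit 1) (Step.U (nat_lit 2392) (Step.D (nat_lit 2391) (Step.F (nat_lit 6573) (Step.D (nat_lit 2392) (Step.D (nat_lit 4443) Step.done))))) (Scr.cons (nat_lit 12) (nat_lit 1) (Step.F (nat_lit 6571) (Step.D (nat_lit 4443) (Step.F (nat_lit 6574) (Step.B (nat_lit 6571) (Step.D (nat_lit 7367) Step.done))))) (Scr.cons (nat_lit 7) (nat_lit 5) (Step.U (nat_lit 8285) (Step.F (nat_lit 6570) (Step.U (nat_lit 2899) (Step.U (nat_lit 1430) (Step.L (Step.L (Step.L (Step.L (Step.L (Step.L (Step.L (Step.L (Step.L (Step.L (Step.L (Step.D (nat_lit 452) (Step.D (nat_lit 1151) (Step.D (nat_lit 2392) (Step.B (nat_lit 6571) (Step.B (nat_lit 6575) (Step.D (nat_lit 10431) Step.done))))))))))))))))))))) (Scr.cons (nat_lit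 1) (nat_lit 0) (Step.D (nat_lit 10431) (Step.F (nat_lit 6576) Step.done)) (Scr.cons (nat_lit 12) (nat_lit 1) (Step.U (nat_lit 5896) (Step.L (Step.L (Step.D (nat_lit 5896) (Step.D (nat_lit 9055) Step.done))))) (Scr.cons (nat_lit 11) (nat_lit 0) (Step.L (Step.L (Step.D (nat_lit 2900) (Step.D (nat_lit 5249) (Step.D (nat_lit 8290) Step.done))))) (Scr.cons (nat_lit 1) (nat_lit 1) (Step.U (nat_lit 5249) (Step.B (nat_lit 5836) (Step.D (nat_lit 5179) Step.done))) (Scr.cons (nat_lit 1) (nat_lit 1) (Step.U (nat_lit 8290) (Step.B (nat_lit 6580) (Step.D (nat_lit 8194) Step.done))) (Scr.cons (nat_lit 7) (nat_lit 0) (Step.U (nat_lit 11166) (Step.U (nat_lit 8194) (Step.U (nat_lit 5179) (Step.L (Step.L (Step.L (Step.L (Step.L (Step.L (Step.L (Step.L (Step.L (Step.L (Step.L (Step.L (Step.L (Step.L (Step.L (Step.L (Step.D (nat_lit 5896) (Step.D (nat_lit 9055) Step.done))))))))))))))))))))) (Scr.cons (nat_lit 1) (nat_lit 1) (Step.D (nat_lit 11166) (Step.B (nat_lit 6582) Step.done)) (Scr.cons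 (nat_lit 1) (nat_lit 1) (Step.B (nat_lit 6579) (Step.B (nat_lit 6581) (Step.B (nat_lit 6583) Step.done))) (Scr.cons (nat_lit 0) (nat_lit 1) (Step.B (nat_lit 6578) (Step.F (nat_lit 6584) (Step.D (nat_lit 8292) Step.done))) (Scr.cons (nat_lit 0) (nat_lit 1) (Step.D (nat_lit 8292) (Step.F (nat_lit 6585) Step.done)) (Scr.cons (nat_lit 11) (nat_lit 0) (Step.U (nat_lit 5896) (Step.L (Step.L (Step.D (nat_lit 5895) (Step.D (nat_lit 9054) Step.done))))) (Scr.cons (nat_lit 7) (nat_lit 6) (Step.U (nat_lit 10430) (Step.B (nat_lit 6577) (Step.U (nat_lit 8285) (Step.U (nat_lit 5247) (Step.U (nat_lit 2899) (Step.U (nat_lit 1430) (Step.L (Step.L (Step.L (Step.L (Step.L (Step.L (Step.L (Step.B (nat_lit 6586) (Step.B (nat_lit 6587) (Step.U (nat_lit 9054) (Step.U (nat_lit 5895) (Step.B (nat_lit 6564) (Step.D (nat_lit 9053) (Step.D (nat_lit 11603) Step.done)))))))))))))))))))) (Scr.cons (nat_lit 12) (nat_lit 1) (Step.U (nat_lit 11603) (Step.B (nat_lit 6566) (Step.F (nat_lit 6568) (Step.D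 (nat_lit 11603) (Step.F (nat_lit 6588) Step.done))))) (Scr.cons (nat_lit 16) (nat_lit 1) (Step.U (nat_lit 7384) (Step.F (nat_lit 6562) (Step.L (Step.L (Step.L (Step.L (Step.L (Step.L (Step.L (Step.L (Step.L (Step.L (Step.L (Step.D (nat_lit 452) (Step.D (nat_lit 1150) (Step.D (nat_lit 2390) (Step.D (nat_lit 4441) (Step.D (nat_lit 7367) (Step.D (nat_lit 10430) (Step.F (nat_lit 6589) (Step.U (nat_lit 11603) (Step.U (nat_lit 9053) (Step.D (nat_lit 9052) (Step.D (nat_lit 11602) Step.done)))))))))))))))))))))))) (Scr.cons (nat_lit 0) (nat_lit 1) (Step.B (nat_lit 6565) (Step.F (nat_lit 6590) (Step.D (nat_lit 10445) Step.done))) (Scr.cons (nat_lit 0) (nat_lit 0) (Step.B (nat_lit 6563) (Step.F (nat_lit 6591) Step.done)) (Scr.cons (nat_lit 15) (nat_lit 0) (Step.F (nat_lit 6561) (Step.U (nat_lit 5893) (Step.F (nat_lit 6560) (Step.F (nat_lit 6559) (Step.L (Step.L (Step.D (nat_lit 5894) (Step.D (nat_lit 9052) (Step.F (nat_lit 6592) (Step.U (nat_lit 7384) (Step.F (nat_lit 6562) (Step.L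 (Step.L (Step.D (nat_lit 4455) (Step.D (nat_lit 7385) (Step.D (nat_lit 10446) Step.done)))))))))))))))) (Scr.cons (nat_lit 1) (nat_lit 0) (Step.D (nat_lit 10446) (Step.F (nat_lit 6593) (Step.D (nat_lit 11601) Step.done))) (Scr.cons (nat_lit 1) (nat_lit 0) (Step.D (nat_lit 11601) (Step.F (nat_lit 6594) Step.done)) (Scr.cons (nat_lit 16) (nat_lit 3) (Step.U (nat_lit 10447) (Step.F (nat_lit 6595) (Step.F (nat_lit 6561) (Step.U (nat_lit 5893) (Step.F (nat_lit 6560) (Step.F (nat_lit 6559) (Step.L (Step.L (Step.L (Step.L (Step.L (Step.L (Step.L (Step.L (Step.D (nat_lit 6) (Step.D (nat_lit 48) (Step.D (nat_lit 179) (Step.D (nat_lit 519) (Step.D (nat_lit 1283) (Step.D (nat_lit 2639) (Step.D (nat_lit 4848) (Step.D (nat_lit 7841) (Step.D (nat_lit 10839) Step.done))))))))))))))))))))))) (Scr.cons (nat_lit 12) (nat_lit 4) (Step.U (nat_lit 4455) (Step.L (Step.L (Step.D (nat_lit 4455) (Step.D (nat_lit 7385) Step.done))))) (Scr.cons (nat_lit 11) (nat_lit 0) (Step.U (nat_lit 7387) (Step.L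 (Step.D (nat_lit 4455) (Step.D (nat_lit 7386) (Step.D (nat_lit 10448) Step.done))))) (Scr.cons (nat_lit 12) (nat_lit 1) (Step.U (nat_lit 7387) (Step.L (Step.L (Step.D (nat_lit 7387) (Step.D (nat_lit 10449) Step.done))))) (Scr.cons (nat_lit 7) (nat_lit 0) (Step.U (nat_lit 9174) (Step.U (nat_lit 6023) (Step.U (nat_lit 3412) (Step.U (nat_lit 1729) (Step.L (Step.L (Step.L (Step.L (Step.L (Step.L (Step.L (Step.L (Step.L (Step.L (Step.L (Step.L (Step.L (Step.L (Step.D (nat_lit 7387) (Step.D (nat_lit 10449) Step.done)))))))))))))))))))) (Scr.cons (nat_lit 4) (nat_lit 0) (Step.F (nat_lit 6600) (Step.U (nat_lit 9174) (Step.U (nat_lit 6023) (Step.D (nat_lit 6024) (Step.D (nat_lit 9176) Step.done))))) (Scr.cons (nat_lit 14) (nat_lit 4) (Step.F (nat_lit 6528) (Step.U (nat_lit 4363) (Step.L (Step.B (nat_lit 6529) (Step.D (nat_lit 10354) (Step.B (nat_lit 6549) (Step.F (nat_lit 6557) (Step.U (nat_lit 10841) (Step.U (nat_lit 7842) (Step.D (nat_lit 7841) (Step.B (nat_lit 6558) (Step.F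 (nat_lit 6596) (Step.U (nat_lit 10447) (Step.F (nat_lit 6597) (Step.D (nat_lit 7386) (Step.D (nat_lit 10448) (Step.F (nat_lit 6598) (Step.B (nat_lit 6599) (Step.B (nat_lit 6601) (Step.U (nat_lit 9176) (Step.D (nat_lit 9175) Step.done))))))))))))))))))))) Scr.nil))))))))))))))))))))))))))))))))))))))))
noncomputable def s165 : Scr := (Scr.cons (nat_lit 13) (nat_lit 0) (Step.U (nat_lit 3263) (Step.F (nat_lit 6545) (Step.U (nat_lit 698) (Step.L (Step.L (Step.L (Step.L (Step.B (nat_lit 64) (Step.D (nat_lit 1638) (Step.D (nat_lit 3261) (Step.D (nat_lit 5782) Step.done))))))))))) (Scr.cons (nat_lit 0) (nat_lit 1) (Step.B (nat_lit 6524) (Step.F (nat_lit 6602) (Step.B (nat_lit 6603) Step.done))) (Scr.cons (nat_lit 1) (nat_lit 1) (Step.D (nat_lit 6024) (Step.B (nat_lit 6604) (Step.D (nat_lit 8909) Step.done))) (Scr.cons (nat_lit 1) (nat_lit 1) (Step.D (nat_lit 8909) (Step.F (nat_lit 6605) Step.done)) (Scr.cons (nat_lit 1) (nat_lit 1) (Step.F (nat_lit 2687) (Step.B (nat_lit 6525)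 (Step.L Step.done))) (Scr.cons (nat_lit 1) (nat_lit 1) (Step.D (nat_lit 5788) (Step.B (nat_lit 6607) (Step.D (nat_lit 7280) Step.done))) (Scr.cons (nat_lit 1) (nat_lit 1) (Step.D (nat_lit 7280) (Step.F (nat_lit 6608) Step.done)) (Scr.cons (nat_lit 9) (nat_lit 5) (Step.U (nat_lit 5960) (Step.U (nat_lit 3366) (Step.L (Step.L (Step.L (Step.L (Step.L (Step.L (Step.B (nat_lit 6522) (Step.U (nat_lit 3413) (Step.B (nat_lit 6523) (Step.F (nat_lit 6606) (Step.F (nat_lit 6603) (Step.U (nat_lit 3263) (Step.D (nat_lit 3264) (Step.F (nat_lit 6609) (Step.B (nat_lit 6529) (Step.B (nat_lit 6543) (Step.U (nat_lit 5692) (Step.D (nat_lit 5693) (Step.B (nat_lit 6518) (Step.B (nat_lit 6519) (Step.B (nat_lit 6521) (Step.D (nat_lit 11498) Step.done)))))))))))))))))))))))) (Scr.cons (nat_lit 1) (nat_lit 1) (Step.D (nat_lit 11498) (Step.F (nat_lit 6610) (Step.D (nat_lit 9123) Step.done))) (Scr.cons (nat_lit 1) (nat_lit 1) (Step.D (nat_lit 9123) (Step.F (nat_lit 6611) Step.done)) (Scr.cons (nat_lit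 8) (nat_lit 0) (Step.B (nat_lit 6519) (Step.B (nat_lit 6521) (Step.F (nat_lit 6612) (Step.U (nat_lit 5960) (Step.U (nat_lit 3366) (Step.L (Step.L (Step.L (Step.L (Step.L (Step.L (Step.L (Step.L (Step.B (nat_lit 6516) (Step.D (nat_lit 5957) (Step.B (nat_lit 6517) Step.done)))))))))))))))) (Scr.cons (nat_lit 0) (nat_lit 1) (Step.B (nat_lit 6517) (Step.F (nat_lit 6613) (Step.F (nat_lit 6520) Step.done))) (Scr.cons (nat_lit 1) (nat_lit 1) (Step.D (nat_lit 5957) (Step.B (nat_lit 6614) (Step.B (nat_lit 6514) Step.done))) (Scr.cons (nat_lit 0) (nat_lit 1) (Step.U (nat_lit 7844) (Step.F (nat_lit 6615) (Step.F (nat_lit 6516) Step.done))) (Scr.cons (nat_lit 1) (nat_lit 1) (Step.U (nat_lit 10843) (Step.B (nat_lit 6616) (Step.L Step.done))) (Scr.cons (nat_lit 1) (nat_lit 1) (Step.B (nat_lit 6515) (Step.B (nat_lit 6617) (Step.L Step.done))) (Scr.cons (nat_lit 1) (nat_lit 1) (Step.D (nat_lit 10729) (Step.B (nat_lit 6618) (Step.L Step.done))) (Scr.cons (nat_lit 0) (nat_lit 1) (Step.B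 (nat_lit 6513) (Step.B (nat_lit 6619) (Step.D (nat_lit 5955) Step.done))) (Scr.cons (nat_lit 0) (nat_lit 1) (Step.D (nat_lit 5955) (Step.F (nat_lit 6620) Step.done)) (Scr.cons (nat_lit 12) (nat_lit 1) (Step.L (Step.L (Step.L (Step.L (Step.D (nat_lit 9117) Step.done))))) (Scr.cons (nat_lit 16) (nat_lit 1) (Step.F (nat_lit 6622) (Step.L (Step.L (Step.L (Step.L (Step.L (Step.L (Step.L (Step.L (Step.L (Step.L (Step.L (Step.L (Step.L (Step.L (Step.L (Step.L (Step.L (Step.L (Step.L (Step.L (Step.D (nat_lit 8671) (Step.D (nat_lit 11441) Step.done))))))))))))))))))))))) (Scr.cons (nat_lit 11) (nat_lit 0) (Step.U (nat_lit 5574) (Step.L (Step.L (Step.L (Step.D (nat_lit 8671) Step.done))))) (Scr.cons (nat_lit 6) (nat_lit 1) (Step.L (Step.L (Step.D (nat_lit 2569) (Step.D (nat_lit 4734) (Step.F (nat_lit 6621) (Step.L (Step.D (nat_lit 9117) (Step.B (nat_lit 6623) (Step.U (nat_lit 11441) (Step.F (nat_lit 6624) (Step.D (nat_lit 8672) (Step.D (nat_lit 11442) Step.done)))))))))))) (Scr.cons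 (nat_lit 1) (nat_lit 1) (Step.D (nat_lit 11442) (Step.F (nat_lit 6625) (Step.L Step.done))) (Scr.cons (nat_lit 0) (nat_lit 1) (Step.B (nat_lit 6511) (Step.B (nat_lit 6626) (Step.L Step.done))) (Scr.cons (nat_lit 1) (nat_lit 1) (Step.D (nat_lit 5574) (Step.B (nat_lit 6627) (Step.D (nat_lit 7708) Step.done))) (Scr.cons (nat_lit 1) (nat_lit 1) (Step.D (nat_lit 7708) (Step.F (nat_lit 6628) Step.done)) (Scr.cons (nat_lit 12) (nat_lit 4) (Step.U (nat_lit 4808) (Step.L (Step.L (Step.D (nat_lit 4808) (Step.D (nat_lit 7795) Step.done))))) (Scr.cons (nat_lit 12) (nat_lit 4) (Step.U (nat_lit 7796) (Step.D (nat_lit 7795) (Step.F (nat_lit 6630) (Step.D (nat_lit 7796) (Step.D (nat_lit 10805) Step.done))))) (Scr.cons (nat_lit 12) (nat_lit 1) (Step.U (nat_lit 686) (Step.L (Step.L (Step.D (nat_lit 686) (Step.D (nat_lit 1609) Step.done))))) (Scr.cons (nat_lit 12) (nat_lit 1) (Step.U (nat_lit 1610) (Step.D (nat_lit 1609) (Step.F (nat_lit 6632) (Step.D (nat_lit 1610) (Step.D (nat_lit 3190)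 Step.done))))) (Scr.cons (nat_lit 12) (nat_lit 1) (Step.U (nat_lit 5648) (Step.F (nat_lit 6633) (Step.D (nat_lit 3190) (Step.D (nat_lit 5648) (Step.D (nat_lit 8746) Step.done))))) (Scr.cons (nat_lit 12) (nat_lit 4) (Step.U (nat_lit 3262) (Step.L (Step.L (Step.D (nat_lit 3262) (Step.D (nat_lit 5784) Step.done))))) (Scr.cons (nat_lit 12) (nat_lit 4) (Step.U (nat_lit 8910) (Step.F (nat_lit 6635) (Step.D (nat_lit 5784) (Step.D (nat_lit 8910) (Step.D (nat_lit 11551) Step.done))))) (Scr.cons (nat_lit 12) (nat_lit 1) (Step.L (Step.L (Step.L (Step.L (Step.D (nat_lit 13) Step.done))))) (Scr.cons (nat_lit 12) (nat_lit 4) (Step.U (nat_lit 73) (Step.F (nat_lit 6637) (Step.D (nat_lit 13) (Step.D (nat_lit 73) (Step.D (nat_lit 258) Step.done))))) (Scr.cons (nat_lit 6) (nat_lit 1) (Step.U (nat_lit 724) (Step.F (nat_lit 6638) (Step.U (nat_lit 73) (Step.U (nat_lit 13) (Step.L (Step.L (Step.L (Step.L (Step.L (Step.D (nat_lit 703) (Step.D (nat_lit 1648) Step.done))))))))))) (Scr.cons (nat_lit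 12) (nat_lit 4) (Step.L (Step.L (Step.L (Step.L (Step.D (nat_lit 703) Step.done))))) (Scr.cons (nat_lit 13) (nat_lit 2) (Step.U (nat_lit 724) (Step.U (nat_lit 258) (Step.U (nat_lit 73) (Step.F (nat_lit 6637) (Step.L (Step.L (Step.L (Step.L (Step.L (Step.B (nat_lit 6640) (Step.D (nat_lit 1648) Step.done))))))))))) (Scr.cons (nat_lit 12) (nat_lit 1) (Step.U (nat_lit 1685) (Step.B (nat_lit 6639) (Step.F (nat_lit 6641) (Step.D (nat_lit 1685) (Step.D (nat_lit 3345) Step.done))))) Scr.nil))))))))))))))))))))))))))))))))))))))))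
noncomputable def s166 : Scr := (Scr.cons (nat_lit 11) (nat_lit 0) (Step.U (nat_lit 1685) (Step.U (nat_lit 724) (Step.D (nat_lit 723) (Step.D (nat_lit 1684) (Step.D (nat_lit 3344) Step.done))))) (Scr.cons (nat_lit 12) (nat_lit 1) (Step.F (nat_lit 6643) (Step.D (nat_lit 3345) (Step.F (nat_lit 6642) (Step.B (nat_lit 6643) (Step.D (nat_lit 5919) Step.done))))) (Scr.cons (nat_lit 11) (nat_lit 0) (Step.L (Step.L (Step.L (Step.D (nat_lit 3262) (Step.D (nat_lit 5785) Step.done))))) (Scr.cons (nat_lit 12) (nat_lit 1) (Step.F (nat_lit 6645) (Step.L (Step.L (Step.B (nat_lit 6645) (Step.D (nat_lit 8911) Step.done))))) (Scr.cons (nat_lit 16) (nat_lit 1) (Step.F (nat_lit 6646) (Step.F (nat_lit 6645) (Step.L (Step.L (Step.L (Step.L (Step.L (Step.L (Step.L (Step.L (Step.L (Step.L (Step.L (Step.L (Step.L (Step.L (Step.D (nat_lit 13) (Step.D (nat_lit 73) (Step.D (nat_lit 258) (Step.D (nat_lit 723) (Step.D (nat_lit 1684) (Step.D (nat_lit 3344) (Step.D (nat_lit 5919) Step.done)))))))))))))))))))))))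 (Scr.cons (nat_lit 6) (nat_lit 0) (Step.U (nat_lit 9082) (Step.U (nat_lit 5921) (Step.F (nat_lit 6642) (Step.B (nat_lit 6643) (Step.B (nat_lit 6644) (Step.F (nat_lit 6647) (Step.F (nat_lit 6646) (Step.U (nat_lit 5785) (Step.B (nat_lit 6635) (Step.D (nat_lit 8910) (Step.D (nat_lit 11551) Step.done))))))))))) (Scr.cons (nat_lit 12) (nat_lit 1) (Step.U (nat_lit 8591) (Step.D (nat_lit 8590) (Step.F (nat_lit 5166) (Step.D (nat_lit 8591) (Step.D (nat_lit 11392) Step.done))))) (Scr.cons (nat_lit 12) (nat_lit 1) (Step.F (nat_lit 5165) (Step.D (nat_lit 11392) (Step.F (nat_lit 6649) (Step.B (nat_lit 5165) (Step.D (nat_lit 11465) Step.done))))) (Scr.cons (nat_lit 12) (nat_lit 1) (Step.L (Step.L (Step.L (Step.L (Step.D (nat_lit 8960) Step.done))))) (Scr.cons (nat_lit 16) (nat_lit 5) (Step.F (nat_lit 6651) (Step.L (Step.L (Step.L (Step.L (Step.L (Step.L (Step.L (Step.L (Step.L (Step.L (Step.L (Step.L (Step.L (Step.L (Step.L (Step.L (Step.L (Step.D (nat_lit 1649) (Step.D (nat_lit 3283)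 (Step.D (nat_lit 5818) (Step.D (nat_lit 8949) (Step.D (nat_lit 11566) Step.done))))))))))))))))))))))) (Scr.cons (nat_lit 8) (nat_lit 1) (Step.U (nat_lit 4737) (Step.L (Step.L (Step.L (Step.B (nat_lit 6512) (Step.D (nat_lit 4734) (Step.F (nat_lit 6621) (Step.L (Step.L (Step.L (Step.L (Step.L (Step.L (Step.L (Step.B (nat_lit 6651) (Step.B (nat_lit 6652) Step.done)))))))))))))))) (Scr.cons (nat_lit 1) (nat_lit 0) (Step.D (nat_lit 11566) (Step.F (nat_lit 6653) (Step.D (nat_lit 7713) Step.done))) (Scr.cons (nat_lit 1) (nat_lit 0) (Step.D (nat_lit 8949) (Step.B (nat_lit 6654) (Step.D (nat_lit 10733) Step.done))) (Scr.cons (nat_lit 1) (nat_lit 0) (Step.D (nat_lit 10733) (Step.F (nat_lit 6655) Step.done)) (Scr.cons (nat_lit 12) (nat_lit 4) (Step.U (nat_lit 1608) (Step.F (nat_lit 5122) (Step.B (nat_lit 5158) (Step.D (nat_lit 1608) (Step.D (nat_lit 3188) Step.done))))) (Scr.cons (nat_lit 12) (nat_lit 1) (Step.U (nat_lit 5645) (Step.F (nat_lit 6657) (Step.D (nat_lit 3188) (Step.D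 (nat_lit 5645) (Step.D (nat_lit 8741) Step.done))))) (Scr.cons (nat_lit 13) (nat_lit 2) (Step.U (nat_lit 7713) (Step.U (nat_lit 4737) (Step.L (Step.L (Step.L (Step.L (Step.D (nat_lit 1249) (Step.D (nat_lit 2570) (Step.D (nat_lit 4735) (Step.B (nat_lit 5124) (Step.D (nat_lit 10730) Step.done))))))))))) (Scr.cons (nat_lit 0) (nat_lit 1) (Step.U (nat_lit 7710) (Step.B (nat_lit 5160) (Step.D (nat_lit 3188) Step.done))) (Scr.cons (nat_lit 1) (nat_lit 0) (Step.U (nat_lit 10730) (Step.B (nat_lit 6660) (Step.D (nat_lit 5645) Step.done))) (Scr.cons (nat_lit 0) (nat_lit 1) (Step.B (nat_lit 6659) (Step.B (nat_lit 6661) (Step.D (nat_lit 8741) Step.done))) (Scr.cons (nat_lit 0) (nat_lit 0) (Step.B (nat_lit 6658) (Step.F (nat_lit 6662) Step.done)) (Scr.cons (nat_lit 15) (nat_lit 1) (Step.U (nat_lit 1685) (Step.B (nat_lit 6639) (Step.U (nat_lit 1648) (Step.F (nat_lit 6640) (Step.L (Step.D (nat_lit 1649) (Step.D (nat_lit 3283) (Step.D (nat_lit 5818) (Step.F (nat_lit 6656) (Step.F (nat_lit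 6663) (Step.U (nat_lit 5645) (Step.F (nat_lit 6657) (Step.D (nat_lit 3189) (Step.D (nat_lit 5646) (Step.D (nat_lit 8742) (Step.D (nat_lit 11465) Step.done)))))))))))))))) (Scr.cons (nat_lit 0) (nat_lit 1) (Step.B (nat_lit 6650) (Step.F (nat_lit 6664) (Step.D (nat_lit 3345) Step.done))) (Scr.cons (nat_lit 1) (nat_lit 0) (Step.D (nat_lit 8742) (Step.B (nat_lit 6665) (Step.D (nat_lit 5921) Step.done))) (Scr.cons (nat_lit 11) (nat_lit 0) (Step.U (nat_lit 1610) (Step.U (nat_lit 686) (Step.D (nat_lit 685) (Step.D (nat_lit 1608) (Step.D (nat_lit 3189) Step.done))))) (Scr.cons (nat_lit 12) (nat_lit 1) (Step.F (nat_lit 6667) (Step.D (nat_lit 3190) (Step.F (nat_lit 6633) (Step.B (nat_lit 6667) (Step.D (nat_lit 5646) Step.done))))) (Scr.cons (nat_lit 0) (nat_lit 1) (Step.U (nat_lit 9082) (Step.F (nat_lit 6666) (Step.F (nat_lit 6668) Step.done))) (Scr.cons (nat_lit 1) (nat_lit 1) (Step.F (nat_lit 6648) (Step.B (nat_lit 6669) (Step.F (nat_lit 6667) Step.done))) (Scr.cons (nat_lit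 0) (nat_lit 1) (Step.B (nat_lit 6636) (Step.B (nat_lit 6670) (Step.D (nat_lit 3190) Step.done))) (Scr.cons (nat_lit 1) (nat_lit 0) (Step.D (nat_lit 8910) (Step.B (nat_lit 6671) (Step.D (nat_lit 5648) Step.done))) (Scr.cons (nat_lit 0) (nat_lit 1) (Step.B (nat_lit 6635) (Step.B (nat_lit 6672) (Step.D (nat_lit 8746) Step.done))) (Scr.cons (nat_lit 0) (nat_lit 0) (Step.B (nat_lit 6634) (Step.F (nat_lit 6673) Step.done)) (Scr.cons (nat_lit 12) (nat_lit 4) (Step.U (nat_lit 5647) (Step.F (nat_lit 6633) (Step.D (nat_lit 3190) (Step.D (nat_lit 5647) (Step.D (nat_lit 8744) Step.done))))) (Scr.cons (nat_lit 11) (nat_lit 0) (Step.U (nat_lit 7907) (Step.U (nat_lit 4908) (Step.D (nat_lit 4907) (Step.D (nat_lit 7906) (Step.D (nat_lit 10897) Step.done))))) (Scr.cons (nat_lit 14) (nat_lit 3) (Step.F (nat_lit 6676) (Step.U (nat_lit 7907) (Step.U (nat_lit 4908) (Step.U (nat_lit 2684) (Step.U (nat_lit 1311) (Step.L (Step.L (Step.L (Step.L (Step.L (Step.L (Step.L (Step.L (Step.B (nat_lit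 5158) (Step.D (nat_lit 1608) (Step.D (nat_lit 3189) (Step.F (nat_lit 6667) (Step.B (nat_lit 6633) (Step.D (nat_lit 5647) (Step.D (nat_lit 8745) Step.done)))))))))))))))))))) (Scr.cons (nat_lit 12) (nat_lit 4) (Step.U (nat_lit 8745) (Step.D (nat_lit 8744) (Step.F (nat_lit 6675) (Step.D (nat_lit 8745) (Step.F (nat_lit 6677) Step.done))))) (Scr.cons (nat_lit 1) (nat_lit 1) (Step.B (nat_lit 4097) (Step.B (nat_lit 4128) (Step.L Step.done))) (Scr.cons (nat_lit 0) (nat_lit 1) (Step.U (nat_lit 2684) (Step.B (nat_lit 6679) (Step.L Step.done))) (Scr.cons (nat_lit 1) (nat_lit 1) (Step.U (nat_lit 4907) (Step.B (nat_lit 6680) (Step.D (nat_lit 4809) Step.done))) (Scr.cons (nat_lit 1) (nat_lit 1) (Step.U (nat_lit 7906) (Step.B (nat_lit 6681) (Step.D (nat_lit 7797) Step.done))) Scr.nil))))))))))))))))))))))))))))))))))))))))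
noncomputable def s167 : Scr := (Scr.cons (nat_lit 11) (nat_lit 0) (Step.U (nat_lit 4810) (Step.U (nat_lit 2618) (Step.L (Step.D (nat_lit 4809) (Step.D (nat_lit 7797) Step.done))))) (Scr.cons (nat_lit 1) (nat_lit 1) (Step.U (nat_lit 10897) (Step.B (nat_lit 6682) (Step.F (nat_lit 6683) Step.done))) (Scr.cons (nat_lit 0) (nat_lit 1) (Step.B (nat_lit 6678) (Step.B (nat_lit 6684) (Step.D (nat_lit 7798) Step.done))) (Scr.cons (nat_lit 1) (nat_lit 0) (Step.D (nat_lit 8745) (Step.B (nat_lit 6685) (Step.D (nat_lit 10806) Step.done))) (Scr.cons (nat_lit 1) (nat_lit 0) (Step.D (nat_lit 10806) (Step.F (nat_lit 6686) Step.done)) (Scr.cons (nat_lit 14) (nat_lit 4) (Step.L (Step.L (Step.L (Step.L (Step.L (Step.D (nat_lit 3262) (Step.F (nat_lit 6674) (Step.U (nat_lit 5648) (Step.D (nat_lit 5647) (Step.F (nat_lit 6687) (Step.U (nat_lit 7798) (Step.U (nat_lit 4810) (Step.U (nat_lit 2618) (Step.L (Step.L (Step.L (Step.L (Step.L (Step.D (nat_lit 4808) (Step.D (nat_lit 7796) (Step.D (nat_lit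 10805) Step.done))))))))))))))))))))) (Scr.cons (nat_lit 0) (nat_lit 1) (Step.B (nat_lit 6631) (Step.F (nat_lit 6688) (Step.L Step.done))) (Scr.cons (nat_lit 1) (nat_lit 0) (Step.D (nat_lit 7796) (Step.B (nat_lit 6689) (Step.L Step.done))) (Scr.cons (nat_lit 1) (nat_lit 0) (Step.D (nat_lit 4808) (Step.B (nat_lit 6690) (Step.D (nat_lit 5783) Step.done))) (Scr.cons (nat_lit 1) (nat_lit 0) (Step.D (nat_lit 5783) (Step.F (nat_lit 6691) Step.done)) (Scr.cons (nat_lit 7) (nat_lit 6) (Step.L (Step.L (Step.L (Step.L (Step.L (Step.L (Step.L (Step.L (Step.L (Step.L (Step.L (Step.L (Step.L (Step.L (Step.L (Step.L (Step.L (Step.L (Step.L (Step.D (nat_lit 9181) Step.done)))))))))))))))))))) (Scr.cons (nat_lit 12) (nat_lit 1) (Step.U (nat_lit 9181) (Step.L (Step.L (Step.D (nat_lit 9181) (Step.F (nat_lit 6693) Step.done))))) (Scr.cons (nat_lit 15) (nat_lit 0) (Step.L (Step.L (Step.L (Step.F (nat_lit 6694) (Step.U (nat_lit 9181) (Step.L (Step.L (Step.L (Step.L (Step.L (Step.L (Step.L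 (Step.L (Step.L (Step.L Step.done))))))))))))))) (Scr.cons (nat_lit 11) (nat_lit 0) (Step.L (Step.L (Step.L (Step.L (Step.D (nat_lit 4800) Step.done))))) (Scr.cons (nat_lit 12) (nat_lit 1) (Step.L (Step.L (Step.L (Step.L (Step.D (nat_lit 2613) Step.done))))) (Scr.cons (nat_lit 12) (nat_lit 1) (Step.L (Step.D (nat_lit 2613) (Step.F (nat_lit 6697) (Step.L (Step.D (nat_lit 4802) Step.done))))) (Scr.cons (nat_lit 12) (nat_lit 1) (Step.F (nat_lit 6696) (Step.D (nat_lit 4802) (Step.F (nat_lit 6698) (Step.B (nat_lit 6696) (Step.D (nat_lit 7785) Step.done))))) (Scr.cons (nat_lit 12) (nat_lit 1) (Step.U (nat_lit 2645) (Step.F (nat_lit 389) (Step.D (nat_lit 1288) (Step.D (nat_lit 2645) (Step.D (nat_lit 4850) Step.done))))) (Scr.cons (nat_lit 12) (nat_lit 1) (Step.L (Step.L (Step.L (Step.L (Step.D (nat_lit 2698) Step.done))))) (Scr.cons (nat_lit 7) (nat_lit 2) (Step.U (nat_lit 10597) (Step.F (nat_lit 2729) (Step.B (nat_lit 2723) (Step.F (nat_lit 6701) (Step.L (Step.L (Step.L (Step.L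 (Step.L (Step.L (Step.L (Step.L (Step.L (Step.B (nat_lit 391) (Step.B (nat_lit 392) (Step.U (nat_lit 2644) (Step.D (nat_lit 2645) (Step.D (nat_lit 4850) (Step.D (nat_lit 7843) (Step.D (nat_lit 10842) Step.done)))))))))))))))))))) (Scr.cons (nat_lit 0) (nat_lit 1) (Step.U (nat_lit 10597) (Step.B (nat_lit 4114) (Step.L Step.done))) (Scr.cons (nat_lit 1) (nat_lit 1) (Step.F (nat_lit 6702) (Step.B (nat_lit 6703) (Step.L Step.done))) (Scr.cons (nat_lit 1) (nat_lit 1) (Step.D (nat_lit 10842) (Step.B (nat_lit 6704) (Step.L Step.done))) (Scr.cons (nat_lit 1) (nat_lit 1) (Step.D (nat_lit 7843) (Step.B (nat_lit 6705) (Step.D (nat_lit 4800) Step.done))) (Scr.cons (nat_lit 0) (nat_lit 1) (Step.B (nat_lit 6700) (Step.B (nat_lit 6706) (Step.D (nat_lit 7785) Step.done))) (Scr.cons (nat_lit 0) (nat_lit 0) (Step.B (nat_lit 6699) (Step.F (nat_lit 6707) Step.done)) (Scr.cons (nat_lit 1) (nat_lit 1) (Step.D (nat_lit 4851) (Step.F (nat_lit 6615) (Step.D (nat_lit 5956) Step.done))) (Scr.cons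 (nat_lit 1) (nat_lit 1) (Step.D (nat_lit 5956) (Step.F (nat_lit 6709) Step.done)) (Scr.cons (nat_lit 13) (nat_lit 2) (Step.L (Step.D (nat_lit 4800) (Step.B (nat_lit 6708) (Step.F (nat_lit 6710) (Step.F (nat_lit 6516) (Step.L (Step.L (Step.L (Step.L (Step.L (Step.L (Step.D (nat_lit 9120) Step.done)))))))))))) (Scr.cons (nat_lit 1) (nat_lit 1) (Step.D (nat_lit 9120) (Step.F (nat_lit 6711) (Step.D (nat_lit 7784) Step.done))) (Scr.cons (nat_lit 1) (nat_lit 1) (Step.D (nat_lit 7784) (Step.F (nat_lit 6712) Step.done)) (Scr.cons (nat_lit 12) (nat_lit 1) (Step.L (Step.L (Step.L (Step.L (Step.D (nat_lit 10914) Step.done))))) (Scr.cons (nat_lit 1) (nat_lit 1) (Step.B (nat_lit 6514) (Step.F (nat_lit 6615) Step.done)) (Scr.cons (nat_lit 12) (nat_lit 4) (Step.U (nat_lit 2644) (Step.F (nat_lit 389) (Step.D (nat_lit 1288) (Step.D (nat_lit 2644) (Step.F (nat_lit 392) Step.done))))) (Scr.cons (nat_lit 7) (nat_lit 0) (Step.L (Step.L (Step.L (Step.L (Step.L (Step.L (Step.D (nat_lit 3365)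 (Step.F (nat_lit 6715) (Step.U (nat_lit 4369) (Step.B (nat_lit 390) (Step.B (nat_lit 6716) (Step.U (nat_lit 1316) (Step.L (Step.L (Step.L (Step.L (Step.L (Step.L (Step.L (Step.L (Step.D (nat_lit 10914) Step.done))))))))))))))))))))) (Scr.cons (nat_lit 0) (nat_lit 1) (Step.B (nat_lit 6714) (Step.F (nat_lit 6717) (Step.D (nat_lit 8961) Step.done))) (Scr.cons (nat_lit 0) (nat_lit 0) (Step.B (nat_lit 6415) (Step.F (nat_lit 6718) Step.done)) (Scr.cons (nat_lit 12) (nat_lit 1) (Step.L (Step.L (Step.L (Step.L (Step.D (nat_lit 9065) Step.done))))) (Scr.cons (nat_lit 12) (nat_lit 1) (Step.L (Step.D (nat_lit 9065) (Step.F (nat_lit 6720) (Step.L (Step.L Step.done))))) (Scr.cons (nat_lit 12) (nat_lit 1) (Step.L (Step.L (Step.L (Step.L (Step.D (nat_lit 11609) Step.done))))) Scr.nil))))))))))))))))))))))))))))))))))))))))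
noncomputable def s168 : Scr := (Scr.cons (nat_lit 12) (nat_lit 4) (Step.L (Step.L (Step.L (Step.L (Step.D (nat_lit 10936) Step.done))))) (Scr.cons (nat_lit 12) (nat_lit 4) (Step.U (nat_lit 2533) (Step.L (Step.L (Step.D (nat_lit 2533) (Step.D (nat_lit 4677) Step.done))))) (Scr.cons (nat_lit 6) (nat_lit 0) (Step.U (nat_lit 10666) (Step.U (nat_lit 7640) (Step.F (nat_lit 6724) (Step.U (nat_lit 2533) (Step.L (Step.L (Step.L (Step.L (Step.L (Step.L (Step.D (nat_lit 10936) Step.done))))))))))) (Scr.cons (nat_lit 12) (nat_lit 1) (Step.L (Step.L (Step.L (Step.L (Step.D (nat_lit 5908) Step.done))))) (Scr.cons (nat_lit 12) (nat_lit 1) (Step.L (Step.L (Step.L (Step.L (Step.D (nat_lit 1312) Step.done))))) (Scr.cons (nat_lit 14) (nat_lit 5) (Step.U (nat_lit 10900) (Step.U (nat_lit 7911) (Step.U (nat_lit 4914) (Step.U (nat_lit 2688) (Step.F (nat_lit 6727) (Step.L (Step.L (Step.L (Step.L (Step.L (Step.L (Step.L (Step.L (Step.L (Step.L (Step.L (Step.L (Step.D (nat_lit 4919) (Step.D (nat_lit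 7919) (Step.D (nat_lit 10905) Step.done)))))))))))))))))))) (Scr.cons (nat_lit 1) (nat_lit 1) (Step.F (nat_lit 2369) (Step.B (nat_lit 5844) (Step.L Step.done))) (Scr.cons (nat_lit 1) (nat_lit 1) (Step.D (nat_lit 4547) (Step.B (nat_lit 6729) (Step.D (nat_lit 4919) Step.done))) (Scr.cons (nat_lit 0) (nat_lit 1) (Step.U (nat_lit 7919) (Step.F (nat_lit 6730) (Step.L Step.done))) (Scr.cons (nat_lit 1) (nat_lit 1) (Step.U (nat_lit 10905) (Step.B (nat_lit 6731) (Step.D (nat_lit 7496) Step.done))) (Scr.cons (nat_lit 1) (nat_lit 1) (Step.B (nat_lit 6728) (Step.B (nat_lit 6732) (Step.D (nat_lit 10545) Step.done))) (Scr.cons (nat_lit 1) (nat_lit 0) (Step.D (nat_lit 10900) (Step.B (nat_lit 6733) Step.done)) (Scr.cons (nat_lit 12) (nat_lit 1) (Step.U (nat_lit 2688) (Step.F (nat_lit 6727) (Step.D (nat_lit 1312) (Step.D (nat_lit 2688) (Step.D (nat_lit 4913) Step.done))))) (Scr.cons (nat_lit 12) (nat_lit 1) (Step.U (nat_lit 4914) (Step.D (nat_lit 4913) (Step.F (nat_lit 6735) (Step.D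 (nat_lit 4914) (Step.D (nat_lit 7911) Step.done))))) (Scr.cons (nat_lit 11) (nat_lit 0) (Step.U (nat_lit 549) (Step.U (nat_lit 195) (Step.D (nat_lit 194) (Step.D (nat_lit 547) (Step.D (nat_lit 1341) Step.done))))) (Scr.cons (nat_lit 12) (nat_lit 1) (Step.L (Step.L (Step.L (Step.L (Step.D (nat_lit 52) Step.done))))) (Scr.cons (nat_lit 12) (nat_lit 1) (Step.U (nat_lit 195) (Step.F (nat_lit 6738) (Step.D (nat_lit 52) (Step.D (nat_lit 195) (Step.D (nat_lit 548) Step.done))))) (Scr.cons (nat_lit 12) (nat_lit 1) (Step.U (nat_lit 549) (Step.D (nat_lit 548) (Step.F (nat_lit 6739) (Step.D (nat_lit 549) (Step.D (nat_lit 1344) Step.done))))) (Scr.cons (nat_lit 12) (nat_lit 1) (Step.F (nat_lit 6737) (Step.D (nat_lit 1344) (Step.F (nat_lit 6740) (Step.B (nat_lit 6737) (Step.D (nat_lit 2732) Step.done))))) (Scr.cons (nat_lit 14) (nat_lit 2) (Step.F (nat_lit 6741) (Step.F (nat_lit 6737) (Step.U (nat_lit 549) (Step.U (nat_lit 195) (Step.U (nat_lit 52) (Step.L (Step.L (Step.L (Step.L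 (Step.L (Step.L (Step.L (Step.L (Step.L (Step.L (Step.L (Step.L (Step.L (Step.B (nat_lit 6727) (Step.D (nat_lit 2687) Step.done)))))))))))))))))))) (Scr.cons (nat_lit 11) (nat_lit 0) (Step.U (nat_lit 4914) (Step.U (nat_lit 2688) (Step.D (nat_lit 2687) (Step.F (nat_lit 6742) (Step.D (nat_lit 4972) Step.done))))) (Scr.cons (nat_lit 12) (nat_lit 1) (Step.F (nat_lit 6743) (Step.D (nat_lit 7911) (Step.F (nat_lit 6736) (Step.B (nat_lit 6743) (Step.D (nat_lit 7982) Step.done))))) (Scr.cons (nat_lit 12) (nat_lit 1) (Step.L (Step.L (Step.L (Step.L (Step.D (nat_lit 3133) Step.done))))) (Scr.cons (nat_lit 14) (nat_lit 2) (Step.F (nat_lit 6744) (Step.F (nat_lit 6743) (Step.U (nat_lit 4914) (Step.U (nat_lit 2688) (Step.U (nat_lit 1312) (Step.L (Step.L (Step.L (Step.L (Step.L (Step.L (Step.L (Step.L (Step.L (Step.L (Step.L (Step.L (Step.L (Step.B (nat_lit 6745) (Step.D (nat_lit 5561) Step.done)))))))))))))))))))) (Scr.cons (nat_lit 11) (nat_lit 0) (Step.U (nat_lit 8660) (Step.U (nat_lit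 5562) (Step.D (nat_lit 5561) (Step.F (nat_lit 6746) (Step.D (nat_lit 10958) Step.done))))) (Scr.cons (nat_lit 12) (nat_lit 1) (Step.U (nat_lit 5562) (Step.F (nat_lit 6745) (Step.D (nat_lit 3133) (Step.D (nat_lit 5562) (Step.D (nat_lit 8659) Step.done))))) (Scr.cons (nat_lit 9) (nat_lit 0) (Step.U (nat_lit 8329) (Step.U (nat_lit 5292) (Step.U (nat_lit 2930) (Step.U (nat_lit 1445) (Step.B (nat_lit 3958) (Step.D (nat_lit 2929) (Step.D (nat_lit 5291) (Step.B (nat_lit 3961) (Step.F (nat_lit 3974) (Step.U (nat_lit 5658) (Step.U (nat_lit 3196) (Step.L (Step.L (Step.L (Step.L (Step.L (Step.L (Step.L (Step.L (Step.L (Step.B (nat_lit 6745) (Step.D (nat_lit 5562) (Step.B (nat_lit 6748) Step.done))))))))))))))))))))))) (Scr.cons (nat_lit 4) (nat_lit 0) (Step.F (nat_lit 6749) (Step.U (nat_lit 8329) (Step.U (nat_lit 5292) (Step.D (nat_lit 5293) (Step.D (nat_lit 8330) Step.done))))) (Scr.cons (nat_lit 11) (nat_lit 0) (Step.U (nat_lit 606) (Step.L (Step.L (Step.D (nat_lit 605) (Step.D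 (nat_lit 1445) Step.done))))) (Scr.cons (nat_lit 12) (nat_lit 1) (Step.L (Step.D (nat_lit 5908) (Step.F (nat_lit 6726) (Step.L (Step.D (nat_lit 9068) Step.done))))) (Scr.cons (nat_lit 11) (nat_lit 0) (Step.L (Step.L (Step.L (Step.L (Step.D (nat_lit 2876) Step.done))))) (Scr.cons (nat_lit 12) (nat_lit 1) (Step.L (Step.L (Step.L (Step.L (Step.D (nat_lit 2877) Step.done))))) (Scr.cons (nat_lit 12) (nat_lit 1) (Step.F (nat_lit 6753) (Step.D (nat_lit 2877) (Step.F (nat_lit 6754) (Step.B (nat_lit 6753) (Step.D (nat_lit 5192) Step.done))))) (Scr.cons (nat_lit 14) (nat_lit 3) (Step.F (nat_lit 6752) (Step.L (Step.L (Step.L (Step.L (Step.L (Step.L (Step.L (Step.L (Step.L (Step.L (Step.L (Step.L (Step.L (Step.L (Step.L (Step.L (Step.D (nat_lit 2876) (Step.B (nat_lit 6755) (Step.D (nat_lit 8210) (Step.D (nat_lit 11180) Step.done))))))))))))))))))))) (Scr.cons (nat_lit 1) (nat_lit 1) (Step.D (nat_lit 11180) (Step.F (nat_lit 6756) Step.done)) (Scr.cons (nat_lit 14) (nat_lit 0) (Step.F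 (nat_lit 6747) (Step.U (nat_lit 8660) (Step.D (nat_lit 8659) (Step.B (nat_lit 6750) (Step.U (nat_lit 8330) (Step.U (nat_lit 5293) (Step.U (nat_lit 2930) (Step.F (nat_lit 6751) (Step.U (nat_lit 606) (Step.L (Step.L (Step.L (Step.L (Step.L (Step.L (Step.D (nat_lit 2876) (Step.D (nat_lit 5192) (Step.D (nat_lit 8210) (Step.B (nat_lit 6757) (Step.D (nat_lit 11610) Step.done)))))))))))))))))))) (Scr.cons (nat_lit 6) (nat_lit 1) (Step.F (nat_lit 6734) (Step.F (nat_lit 6736) (Step.B (nat_lit 6743) (Step.B (nat_lit 6744) (Step.D (nat_lit 10958) (Step.B (nat_lit 6758) (Step.U (nat_lit 11610) (Step.U (nat_lit 9068) (Step.L (Step.D (nat_lit 5908) (Step.D (nat_lit 9069) Step.done))))))))))) (Scr.cons (nat_lit 12) (nat_lit 1) (Step.U (nat_lit 7497) (Step.L (Step.L (Step.D (nat_lit 7497) (Step.D (nat_lit 10546) Step.done))))) (Scr.cons (nat_lit 15) (nat_lit 1) (Step.F (nat_lit 6760) (Step.U (nat_lit 7497) (Step.L (Step.L (Step.L (Step.L (Step.L (Step.L (Step.L (Step.L (Step.L (Step.D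 (nat_lit 2533) (Step.D (nat_lit 4677) (Step.D (nat_lit 7639) (Step.D (nat_lit 10665) Step.done))))))))))))))) (Scr.cons (nat_lit 9) (nat_lit 3) (Step.U (nat_lit 9062) (Step.U (nat_lit 5904) (Step.L (Step.L (Step.L (Step.L (Step.B (nat_lit 236) (Step.D (nat_lit 3335) (Step.F (nat_lit 499) (Step.L (Step.L (Step.L (Step.B (nat_lit 6726) (Step.D (nat_lit 9069) (Step.F (nat_lit 6759) (Step.U (nat_lit 10545) (Step.U (nat_lit 7496) (Step.D (nat_lit 7497) (Step.B (nat_lit 6760) (Step.B (nat_lit 6761) (Step.U (nat_lit 10665) (Step.U (nat_lit 7639) (Step.D (nat_lit 7640) (Step.D (nat_lit 10667) Step.done)))))))))))))))))))))))) Scr.nil))))))))))))))))))))))))))))))))))))))))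
noncomputable def s169 : Scr := (Scr.cons (nat_lit 1) (nat_lit 1) (Step.D (nat_lit 10667) (Step.F (nat_lit 6762) (Step.D (nat_lit 11608) Step.done))) (Scr.cons (nat_lit 1) (nat_lit 1) (Step.D (nat_lit 11608) (Step.F (nat_lit 6763) Step.done)) (Scr.cons (nat_lit 8) (nat_lit 0) (Step.L (Step.B (nat_lit 6723) (Step.F (nat_lit 6725) (Step.U (nat_lit 10666) (Step.F (nat_lit 6764) (Step.U (nat_lit 9062) (Step.U (nat_lit 5904) (Step.L (Step.L (Step.L (Step.L (Step.L (Step.L (Step.L (Step.L (Step.B (nat_lit 6722) Step.done)))))))))))))))) (Scr.cons (nat_lit 0) (nat_lit 0) (Step.B (nat_lit 6722) (Step.F (nat_lit 6765) Step.done)) (Scr.cons (nat_lit 12) (nat_lit 1) (Step.L (Step.L (Step.L (Step.L (Step.D (nat_lit 9073) Step.done))))) (Scr.cons (nat_lit 12) (nat_lit 1) (Step.L (Step.D (nat_lit 9073) (Step.F (nat_lit 6767) (Step.L (Step.L Step.done))))) (Scr.cons (nat_lit 12) (nat_lit 4) (Step.L (Step.L (Step.L (Step.L (Step.D (nat_lit 9074) Step.done))))) (Scr.cons (nat_lit 12)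 (nat_lit 4) (Step.L (Step.D (nat_lit 9074) (Step.F (nat_lit 6769) (Step.L (Step.L Step.done))))) (Scr.cons (nat_lit 12) (nat_lit 1) (Step.L (Step.L (Step.L (Step.L (Step.D (nat_lit 9075) Step.done))))) (Scr.cons (nat_lit 12) (nat_lit 1) (Step.L (Step.D (nat_lit 9075) (Step.F (nat_lit 6771) (Step.L (Step.L Step.done))))) (Scr.cons (nat_lit 13) (nat_lit 0) (Step.L (Step.L (Step.L (Step.L (Step.L (Step.L (Step.L (Step.L (Step.L (Step.L (Step.D (nat_lit 9070) Step.done))))))))))) (Scr.cons (nat_lit 6) (nat_lit 3) (Step.L (Step.L (Step.L (Step.L (Step.L (Step.L (Step.L (Step.L (Step.L (Step.L (Step.D (nat_lit 9070) Step.done))))))))))) (Scr.cons (nat_lit 12) (nat_lit 4) (Step.L (Step.B (nat_lit 6773) (Step.F (nat_lit 6774) (Step.L (Step.L Step.done))))) (Scr.cons (nat_lit 12) (nat_lit 1) (Step.L (Step.L (Step.L (Step.L (Step.D (nat_lit 9087) Step.done))))) (Scr.cons (nat_lit 12) (nat_lit 1) (Step.L (Step.D (nat_lit 9087) (Step.F (nat_lit 6776) (Step.L (Step.L Step.done)))))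 (Scr.cons (nat_lit 12) (nat_lit 1) (Step.L (Step.L (Step.L (Step.L (Step.D (nat_lit 5937) Step.done))))) (Scr.cons (nat_lit 12) (nat_lit 1) (Step.L (Step.D (nat_lit 5937) (Step.F (nat_lit 6778) (Step.L (Step.D (nat_lit 9097) Step.done))))) (Scr.cons (nat_lit 12) (nat_lit 1) (Step.L (Step.D (nat_lit 9097) (Step.F (nat_lit 6779) (Step.L (Step.L Step.done))))) (Scr.cons (nat_lit 12) (nat_lit 1) (Step.L (Step.L (Step.L (Step.L (Step.D (nat_lit 9111) Step.done))))) (Scr.cons (nat_lit 12) (nat_lit 1) (Step.L (Step.D (nat_lit 9111) (Step.F (nat_lit 6781) (Step.L (Step.L Step.done))))) (Scr.cons (nat_lit 12) (nat_lit 1) (Step.L (Step.L (Step.L (Step.L (Step.D (nat_lit 9112) Step.done))))) (Scr.cons (nat_lit 12) (nat_lit 1) (Step.L (Step.D (nat_lit 9112) (Step.F (nat_lit 6783) (Step.L (Step.L Step.done))))) (Scr.cons (nat_lit 13) (nat_lit 0) (Step.L (Step.L (Step.L (Step.L (Step.L (Step.L (Step.L (Step.L (Step.D (nat_lit 3360) (Step.D (nat_lit 5949) (Step.D (nat_lit 9110) Step.done)))))))))))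 (Scr.cons (nat_lit 12) (nat_lit 1) (Step.U (nat_lit 3360) (Step.L (Step.L (Step.D (nat_lit 3360) (Step.D (nat_lit 5949) Step.done))))) (Scr.cons (nat_lit 6) (nat_lit 3) (Step.L (Step.L (Step.L (Step.L (Step.L (Step.L (Step.L (Step.L (Step.D (nat_lit 3360) (Step.B (nat_lit 6786) (Step.D (nat_lit 9110) Step.done))))))))))) (Scr.cons (nat_lit 12) (nat_lit 4) (Step.L (Step.B (nat_lit 6785) (Step.F (nat_lit 6787) (Step.L (Step.L Step.done))))) (Scr.cons (nat_lit 14) (nat_lit 5) (Step.U (nat_lit 11438) (Step.L (Step.L (Step.L (Step.L (Step.L (Step.L (Step.L (Step.L (Step.L (Step.L (Step.L (Step.L (Step.L (Step.L (Step.L (Step.L (Step.L (Step.L (Step.D (nat_lit 11625) Step.done)))))))))))))))))))) (Scr.cons (nat_lit 4) (nat_lit 0) (Step.L (Step.D (nat_lit 11438) (Step.B (nat_lit 6789) (Step.U (nat_lit 11625) (Step.L Step.done))))) (Scr.cons (nat_lit 12) (nat_lit 4) (Step.L (Step.L (Step.L (Step.L (Step.D (nat_lit 9115) Step.done))))) (Scr.cons (nat_lit 12) (nat_lit 4) (Step.L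 (Step.D (nat_lit 9115) (Step.F (nat_lit 6791) (Step.L (Step.L Step.done))))) (Scr.cons (nat_lit 12) (nat_lit 1) (Step.L (Step.L (Step.L (Step.L (Step.D (nat_lit 9125) Step.done))))) (Scr.cons (nat_lit 12) (nat_lit 1) (Step.L (Step.D (nat_lit 9125) (Step.F (nat_lit 6793) (Step.L (Step.L Step.done))))) (Scr.cons (nat_lit 12) (nat_lit 1) (Step.U (nat_lit 4816) (Step.L (Step.L (Step.D (nat_lit 4816) (Step.D (nat_lit 7810) Step.done))))) (Scr.cons (nat_lit 12) (nat_lit 1) (Step.U (nat_lit 7811) (Step.D (nat_lit 7810) (Step.F (nat_lit 6795) (Step.D (nat_lit 7811) (Step.D (nat_lit 10814) Step.done))))) (Scr.cons (nat_lit 11) (nat_lit 0) (Step.U (nat_lit 7678) (Step.U (nat_lit 4707) (Step.D (nat_lit 4706) (Step.D (nat_lit 7677) (Step.D (nat_lit 10702) Step.done))))) (Scr.cons (nat_lit 11) (nat_lit 0) (Step.U (nat_lit 3369) (Step.L (Step.L (Step.D (nat_lit 3368) (Step.D (nat_lit 5963) Step.done))))) (Scr.cons (nat_lit 12) (nat_lit 1) (Step.U (nat_lit 3369) (Step.L (Step.L (Step.D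 (nat_lit 3369) (Step.D (nat_lit 5964) Step.done))))) (Scr.cons (nat_lit 12) (nat_lit 1) (Step.F (nat_lit 6798) (Step.D (nat_lit 5964) (Step.F (nat_lit 6799) (Step.B (nat_lit 6798) (Step.D (nat_lit 9128) Step.done))))) (Scr.cons (nat_lit 11) (nat_lit 0) (Step.U (nat_lit 5558) (Step.U (nat_lit 3131) (Step.D (nat_lit 3130) (Step.D (nat_lit 5556) (Step.D (nat_lit 8653) Step.done))))) (Scr.cons (nat_lit 12) (nat_lit 4) (Step.L (Step.L (Step.L (Step.L (Step.D (nat_lit 737) Step.done))))) Scr.nil))))))))))))))))))))))))))))))))))))))))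
noncomputable def s170 : Scr := (Scr.cons (nat_lit 12) (nat_lit 4) (Step.L (Step.D (nat_lit 737) (Step.F (nat_lit 6802) (Step.L (Step.D (nat_lit 1697) Step.done))))) (Scr.cons (nat_lit 12) (nat_lit 1) (Step.U (nat_lit 3364) (Step.F (nat_lit 6803) (Step.D (nat_lit 1697) (Step.D (nat_lit 3364) (Step.D (nat_lit 5953) Step.done))))) (Scr.cons (nat_lit 12) (nat_lit 1) (Step.U (nat_lit 5954) (Step.D (nat_lit 5953) (Step.F (nat_lit 6804) (Step.D (nat_lit 5954) (Step.D (nat_lit 9116) Step.done))))) (Scr.cons (nat_lit 7) (nat_lit 0) (Step.U (nat_lit 665) (Step.L (Step.L (Step.L (Step.L (Step.L (Step.D (nat_lit 5560) (Step.B (nat_lit 4027) (Step.U (nat_lit 4733) (Step.D (nat_lit 4734) (Step.F (nat_lit 6621) (Step.L (Step.L (Step.L (Step.L (Step.L (Step.L (Step.B (nat_lit 6803) (Step.D (nat_lit 3364) (Step.D (nat_lit 5954) (Step.D (nat_lit 9116) Step.done))))))))))))))))))))) (Scr.cons (nat_lit 0) (nat_lit 1) (Step.B (nat_lit 6805) (Step.F (nat_lit 6806) (Step.D (nat_lit 1571) Step.done)))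 (Scr.cons (nat_lit 1) (nat_lit 1) (Step.D (nat_lit 5954) (Step.B (nat_lit 6807) (Step.D (nat_lit 3130) Step.done))) (Scr.cons (nat_lit 1) (nat_lit 1) (Step.D (nat_lit 3364) (Step.B (nat_lit 6808) (Step.D (nat_lit 5556) Step.done))) (Scr.cons (nat_lit 1) (nat_lit 1) (Step.U (nat_lit 8653) (Step.F (nat_lit 6809) (Step.D (nat_lit 3363) Step.done))) (Scr.cons (nat_lit 1) (nat_lit 0) (Step.B (nat_lit 6801) (Step.B (nat_lit 6810) Step.done)) (Scr.cons (nat_lit 12) (nat_lit 4) (Step.U (nat_lit 665) (Step.L (Step.L (Step.D (nat_lit 665) (Step.D (nat_lit 1571) Step.done))))) (Scr.cons (nat_lit 12) (nat_lit 1) (Step.U (nat_lit 3131) (Step.F (nat_lit 6812) (Step.D (nat_lit 1571) (Step.D (nat_lit 3131) (Step.D (nat_lit 5557) Step.done))))) (Scr.cons (nat_lit 14) (nat_lit 3) (Step.F (nat_lit 6800) (Step.F (nat_lit 6798) (Step.U (nat_lit 3369) (Step.L (Step.L (Step.L (Step.L (Step.L (Step.L (Step.L (Step.L (Step.L (Step.L (Step.L (Step.D (nat_lit 1697) (Step.D (nat_lit 3363) (Step.F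 (nat_lit 6811) (Step.U (nat_lit 5558) (Step.B (nat_lit 6813) (Step.D (nat_lit 8654) (Step.D (nat_lit 11427) Step.done))))))))))))))))))))) (Scr.cons (nat_lit 1) (nat_lit 1) (Step.D (nat_lit 11427) (Step.F (nat_lit 6814) Step.done)) (Scr.cons (nat_lit 11) (nat_lit 0) (Step.U (nat_lit 11429) (Step.U (nat_lit 8655) (Step.D (nat_lit 8654) (Step.B (nat_lit 6815) (Step.D (nat_lit 11630) Step.done))))) (Scr.cons (nat_lit 12) (nat_lit 1) (Step.U (nat_lit 1343) (Step.F (nat_lit 6739) (Step.D (nat_lit 548) (Step.D (nat_lit 1343) (Step.D (nat_lit 2735) Step.done))))) (Scr.cons (nat_lit 12) (nat_lit 1) (Step.U (nat_lit 2736) (Step.D (nat_lit 2735) (Step.F (nat_lit 6817) (Step.D (nat_lit 2736) (Step.D (nat_lit 4975) Step.done))))) (Scr.cons (nat_lit 12) (nat_lit 4) (Step.U (nat_lit 7984) (Step.F (nat_lit 6818) (Step.D (nat_lit 4975) (Step.D (nat_lit 7984) (Step.D (nat_lit 10960) Step.done))))) (Scr.cons (nat_lit 12) (nat_lit 1) (Step.U (nat_lit 8655) (Step.F (nat_lit 6813) (Step.D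 (nat_lit 5557) (Step.D (nat_lit 8655) (Step.D (nat_lit 11428) Step.done))))) (Scr.cons (nat_lit 11) (nat_lit 0) (Step.U (nat_lit 2736) (Step.U (nat_lit 1343) (Step.D (nat_lit 1342) (Step.D (nat_lit 2734) (Step.D (nat_lit 4974) Step.done))))) (Scr.cons (nat_lit 12) (nat_lit 1) (Step.F (nat_lit 6821) (Step.D (nat_lit 4975) (Step.F (nat_lit 6818) (Step.B (nat_lit 6821) (Step.D (nat_lit 7983) Step.done))))) (Scr.cons (nat_lit 11) (nat_lit 0) (Step.U (nat_lit 243) (Step.L (Step.L (Step.D (nat_lit 242) (Step.D (nat_lit 668) Step.done))))) (Scr.cons (nat_lit 12) (nat_lit 1) (Step.F (nat_lit 6823) (Step.D (nat_lit 669) (Step.F (nat_lit 898) (Step.B (nat_lit 6823) (Step.D (nat_lit 1577) Step.done))))) (Scr.cons (nat_lit 12) (nat_lit 1) (Step.U (nat_lit 3138) (Step.F (nat_lit 6824) (Step.D (nat_lit 1577) (Step.D (nat_lit 3138) (Step.D (nat_lit 5566) Step.done))))) (Scr.cons (nat_lit 16) (nat_lit 4) (Step.U (nat_lit 8664) (Step.F (nat_lit 6825) (Step.U (nat_lit 3138) (Step.F (nat_lit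 6824) (Step.F (nat_lit 6823) (Step.U (nat_lit 243) (Step.L (Step.L (Step.L (Step.L (Step.L (Step.L (Step.L (Step.L (Step.L (Step.L (Step.L (Step.D (nat_lit 665) (Step.D (nat_lit 1572) (Step.D (nat_lit 3132) (Step.D (nat_lit 5559) (Step.D (nat_lit 8656) (Step.D (nat_lit 11430) Step.done))))))))))))))))))))))) (Scr.cons (nat_lit 4) (nat_lit 0) (Step.U (nat_lit 8663) (Step.D (nat_lit 8664) (Step.B (nat_lit 6826) (Step.U (nat_lit 11430) (Step.D (nat_lit 11431) Step.done))))) (Scr.cons (nat_lit 11) (nat_lit 0) (Step.U (nat_lit 1330) (Step.L (Step.L (Step.D (nat_lit 1329) (Step.D (nat_lit 2714) Step.done))))) (Scr.cons (nat_lit 12) (nat_lit 1) (Step.U (nat_lit 1330) (Step.L (Step.L (Step.D (nat_lit 1330) (Step.D (nat_lit 2716) Step.done))))) (Scr.cons (nat_lit 12) (nat_lit 1) (Step.F (nat_lit 6828) (Step.D (nat_lit 2716) (Step.F (nat_lit 6829) (Step.B (nat_lit 6828) (Step.D (nat_lit 4952) Step.done))))) (Scr.cons (nat_lit 12) (nat_lit 1) (Step.U (nat_lit 4953) (Step.F (nat_lit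 6829) (Step.D (nat_lit 2716) (Step.D (nat_lit 4953) (Step.D (nat_lit 7964) Step.done))))) (Scr.cons (nat_lit 6) (nat_lit 3) (Step.L (Step.L (Step.L (Step.L (Step.L (Step.L (Step.L (Step.L (Step.L (Step.L (Step.D (nat_lit 2715) Step.done))))))))))) (Scr.cons (nat_lit 8) (nat_lit 1) (Step.L (Step.L (Step.L (Step.L (Step.L (Step.L (Step.L (Step.L (Step.B (nat_lit 6832) (Step.U (nat_lit 2715) (Step.L (Step.D (nat_lit 1330) (Step.B (nat_lit 6829) (Step.D (nat_lit 4953) (Step.B (nat_lit 6831) (Step.D (nat_lit 10949) Step.done)))))))))))))))) (Scr.cons (nat_lit 1) (nat_lit 1) (Step.D (nat_lit 10949) (Step.F (nat_lit 6833) (Step.D (nat_lit 242) Step.done))) (Scr.cons (nat_lit 0) (nat_lit 1) (Step.B (nat_lit 6831) (Step.B (nat_lit 6834) (Step.D (nat_lit 667) Step.done))) (Scr.cons (nat_lit 1) (nat_lit 1) (Step.D (nat_lit 4953) (Step.B (nat_lit 6835) (Step.D (nat_lit 1576) Step.done))) (Scr.cons (nat_lit 0) (nat_lit 1) (Step.B (nat_lit 6829) (Step.B (nat_lit 6836) (Step.D (nat_lit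 3137) Step.done))) (Scr.cons (nat_lit 0) (nat_lit 1) (Step.D (nat_lit 3137) (Step.F (nat_lit 6837) Step.done)) (Scr.cons (nat_lit 12) (nat_lit 4) (Step.U (nat_lit 242) (Step.L (Step.L (Step.D (nat_lit 242) (Step.D (nat_lit 667) Step.done))))) (Scr.cons (nat_lit 13) (nat_lit 0) (Step.U (nat_lit 10948) (Step.U (nat_lit 7963) (Step.F (nat_lit 6830) (Step.F (nat_lit 6828) (Step.F (nat_lit 6838) (Step.U (nat_lit 1576) (Step.F (nat_lit 6839) (Step.D (nat_lit 668) (Step.B (nat_lit 6824) (Step.D (nat_lit 3138) (Step.D (nat_lit 5566) (Step.D (nat_lit 8663) Step.done)))))))))))) (Scr.cons (nat_lit 0) (nat_lit 1) (Step.D (nat_lit 10948) (Step.B (nat_lit 6840) Step.done)) (Scr.cons (nat_lit 9) (nat_lit 5) (Step.U (nat_lit 11430) (Step.D (nat_lit 11431) (Step.F (nat_lit 6827) (Step.F (nat_lit 6841) (Step.U (nat_lit 7963) (Step.U (nat_lit 4952) (Step.U (nat_lit 2714) (Step.U (nat_lit 1329) (Step.L (Step.L (Step.L (Step.L (Step.L (Step.L (Step.L (Step.B (nat_lit 6738) (Step.D (nat_lit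 195) (Step.B (nat_lit 6739) (Step.D (nat_lit 1343) (Step.D (nat_lit 2736) (Step.B (nat_lit 6821) (Step.B (nat_lit 6822) (Step.D (nat_lit 10959) Step.done))))))))))))))))))))))) Scr.nil))))))))))))))))))))))))))))))))))))))))
noncomputable def s171 : Scr := (Scr.cons (nat_lit 8) (nat_lit 0) (Step.U (nat_lit 7984) (Step.U (nat_lit 4975) (Step.B (nat_lit 6821) (Step.B (nat_lit 6822) (Step.D (nat_lit 10959) (Step.F (nat_lit 6842) (Step.U (nat_lit 11430) (Step.U (nat_lit 8656) (Step.U (nat_lit 5559) (Step.U (nat_lit 3132) (Step.U (nat_lit 1572) (Step.B (nat_lit 6812) (Step.D (nat_lit 3131) (Step.B (nat_lit 6813) (Step.D (nat_lit 8655) (Step.B (nat_lit 6820) Step.done)))))))))))))))) (Scr.cons (nat_lit 0) (nat_lit 1) (Step.B (nat_lit 6820) (Step.F (nat_lit 6843) (Step.D (nat_lit 10960) Step.done))) (Scr.cons (nat_lit 0) (nat_lit 0) (Step.B (nat_lit 6819) (Step.F (nat_lit 6844) Step.done)) (Scr.cons (nat_lit 12) (nat_lit 4) (Step.U (nat_lit 1342) (Step.F (nat_lit 6739) (Step.D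 (nat_lit 548) (Step.D (nat_lit 1342) (Step.D (nat_lit 2733) Step.done))))) (Scr.cons (nat_lit 12) (nat_lit 1) (Step.U (nat_lit 2724) (Step.F (nat_lit 857) (Step.D (nat_lit 1336) (Step.D (nat_lit 2724) (Step.D (nat_lit 4962) Step.done))))) (Scr.cons (nat_lit 13) (nat_lit 3) (Step.U (nat_lit 2733) (Step.U (nat_lit 1342) (Step.F (nat_lit 6739) (Step.U (nat_lit 195) (Step.U (nat_lit 52) (Step.L (Step.L (Step.L (Step.B (nat_lit 857) (Step.D (nat_lit 2724) (Step.D (nat_lit 4962) Step.done))))))))))) (Scr.cons (nat_lit 16) (nat_lit 5) (Step.F (nat_lit 6847) (Step.U (nat_lit 2724) (Step.F (nat_lit 857) (Step.L (Step.L (Step.L (Step.L (Step.L (Step.L (Step.L (Step.L (Step.L (Step.L (Step.L (Step.L (Step.L (Step.L (Step.L (Step.D (nat_lit 1475) (Step.B (nat_lit 858) (Step.D (nat_lit 4962) (Step.F (nat_lit 6848) (Step.D (nat_lit 4973) Step.done))))))))))))))))))))))) (Scr.cons (nat_lit 12) (nat_lit 1) (Step.F (nat_lit 859) (Step.D (nat_lit 5382) (Step.F (nat_lit 860) (Step.B (nat_lit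 859) (Step.D (nat_lit 7973) Step.done))))) (Scr.cons (nat_lit 14) (nat_lit 6) (Step.U (nat_lit 7973) (Step.F (nat_lit 859) (Step.U (nat_lit 2986) (Step.F (nat_lit 855) (Step.L (Step.L (Step.L (Step.L (Step.L (Step.L (Step.L (Step.L (Step.L (Step.L (Step.L (Step.D (nat_lit 618) (Step.D (nat_lit 1479) (Step.D (nat_lit 2994) (Step.D (nat_lit 5388) (Step.D (nat_lit 8451) Step.done)))))))))))))))))))) (Scr.cons (nat_lit 4) (nat_lit 0) (Step.B (nat_lit 6851) (Step.U (nat_lit 8451) (Step.U (nat_lit 5388) (Step.D (nat_lit 5389) (Step.D (nat_lit 8453) Step.done))))) (Scr.cons (nat_lit 12) (nat_lit 1) (Step.F (nat_lit 2686) (Step.D (nat_lit 1639) (Step.F (nat_lit 6545) (Step.B (nat_lit 2686) (Step.D (nat_lit 2994) Step.done))))) (Scr.cons (nat_lit 12) (nat_lit 1) (Step.U (nat_lit 5389) (Step.F (nat_lit 6853) (Step.D (nat_lit 2994) (Step.D (nat_lit 5389) (Step.D (nat_lit 8452) Step.done))))) (Scr.cons (nat_lit 16) (nat_lit 0) (Step.L (Step.L (Step.L (Step.L (Step.L (Step.L (Step.L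 (Step.L (Step.L (Step.L (Step.L (Step.L (Step.L (Step.L (Step.L (Step.L (Step.L (Step.L (Step.L (Step.L (Step.L (Step.D (nat_lit 1729) (Step.D (nat_lit 3413) Step.done))))))))))))))))))))))) (Scr.cons (nat_lit 8) (nat_lit 1) (Step.L (Step.L (Step.L (Step.L (Step.B (nat_lit 6855) (Step.U (nat_lit 3413) (Step.B (nat_lit 6523) (Step.F (nat_lit 6606) (Step.F (nat_lit 6603) (Step.U (nat_lit 3263) (Step.U (nat_lit 1639) (Step.B (nat_lit 2686) (Step.B (nat_lit 6853) (Step.D (nat_lit 5389) (Step.B (nat_lit 6854) (Step.D (nat_lit 11311) Step.done)))))))))))))))) (Scr.cons (nat_lit 1) (nat_lit 1) (Step.D (nat_lit 11311) (Step.F (nat_lit 6856) (Step.L Step.done))) (Scr.cons (nat_lit 0) (nat_lit 1) (Step.B (nat_lit 6854) (Step.B (nat_lit 6857) (Step.D (nat_lit 2556) Step.done))) (Scr.cons (nat_lit 1) (nat_lit 0) (Step.U (nat_lit 8453) (Step.B (nat_lit 6858) (Step.D (nat_lit 4709) Step.done))) (Scr.cons (nat_lit 1) (nat_lit 0) (Step.B (nat_lit 6852) (Step.B (nat_lit 6859) (Step.D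 (nat_lit 7682) Step.done))) (Scr.cons (nat_lit 0) (nat_lit 1) (Step.B (nat_lit 6850) (Step.B (nat_lit 6860) (Step.D (nat_lit 10706) Step.done))) (Scr.cons (nat_lit 0) (nat_lit 1) (Step.D (nat_lit 10706) (Step.F (nat_lit 6861) Step.done)) (Scr.cons (nat_lit 12) (nat_lit 4) (Step.L (Step.L (Step.L (Step.L (Step.D (nat_lit 2556) Step.done))))) (Scr.cons (nat_lit 11) (nat_lit 0) (Step.U (nat_lit 2559) (Step.U (nat_lit 1241) (Step.L (Step.D (nat_lit 2557) (Step.D (nat_lit 4711) Step.done))))) (Scr.cons (nat_lit 12) (nat_lit 1) (Step.U (nat_lit 1241) (Step.L (Step.L (Step.D (nat_lit 1241) (Step.D (nat_lit 2558) Step.done))))) (Scr.cons (nat_lit 12) (nat_lit 1) (Step.U (nat_lit 2559) (Step.D (nat_lit 2558) (Step.F (nat_lit 6865) (Step.D (nat_lit 2559) (Step.D (nat_lit 4712) Step.done))))) (Scr.cons (nat_lit 14) (nat_lit 3) (Step.F (nat_lit 6818) (Step.U (nat_lit 2736) (Step.U (nat_lit 1343) (Step.D (nat_lit 1342) (Step.B (nat_lit 6846) (Step.D (nat_lit 4973) (Step.F (nat_lit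 6849) (Step.F (nat_lit 6847) (Step.U (nat_lit 2724) (Step.D (nat_lit 2723) (Step.D (nat_lit 4961) (Step.F (nat_lit 6862) (Step.U (nat_lit 7682) (Step.U (nat_lit 4709) (Step.F (nat_lit 6863) (Step.D (nat_lit 2557) (Step.D (nat_lit 4711) (Step.F (nat_lit 6864) (Step.B (nat_lit 6866) (Step.D (nat_lit 7686) (Step.D (nat_lit 10711) Step.done))))))))))))))))))))) (Scr.cons (nat_lit 1) (nat_lit 0) (Step.D (nat_lit 10711) (Step.F (nat_lit 6867) (Step.D (nat_lit 7985) Step.done))) (Scr.cons (nat_lit 1) (nat_lit 0) (Step.D (nat_lit 7985) (Step.F (nat_lit 6868) Step.done)) (Scr.cons (nat_lit 11) (nat_lit 0) (Step.U (nat_lit 10712) (Step.U (nat_lit 7687) (Step.D (nat_lit 7686) (Step.F (nat_lit 6869) (Step.D (nat_lit 7984) (Step.D (nat_lit 10961) Step.done)))))) (Scr.cons (nat_lit 1) (nat_lit 1) (Step.D (nat_lit 10961) (Step.F (nat_lit 6870) Step.done)) (Scr.cons (nat_lit 14) (nat_lit 0) (Step.F (nat_lit 6816) (Step.U (nat_lit 11429) (Step.F (nat_lit 6845) (Step.B (nat_lit 6871) (Step.U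 (nat_lit 10712) (Step.U (nat_lit 7687) (Step.U (nat_lit 4712) (Step.U (nat_lit 2559) (Step.U (nat_lit 1241) (Step.L (Step.L (Step.L (Step.L (Step.L (Step.L (Step.L (Step.D (nat_lit 2555) (Step.D (nat_lit 4706) (Step.D (nat_lit 7677) (Step.D (nat_lit 10702) Step.done)))))))))))))))))))) (Scr.cons (nat_lit 8) (nat_lit 1) (Step.U (nat_lit 1570) (Step.L (Step.L (Step.L (Step.L (Step.L (Step.L (Step.L (Step.L (Step.L (Step.L (Step.L (Step.L (Step.L (Step.D (nat_lit 3125) Step.done))))))))))))))) (Scr.cons (nat_lit 12) (nat_lit 0) (Step.B (nat_lit 6873) (Step.U (nat_lit 3125) (Step.L (Step.L (Step.D (nat_lit 3125) Step.done))))) (Scr.cons (nat_lit 13) (nat_lit 0) (Step.U (nat_lit 8654) (Step.F (nat_lit 6813) (Step.U (nat_lit 3131) (Step.U (nat_lit 1571) (Step.U (nat_lit 665) (Step.L (Step.D (nat_lit 1570) (Step.B (nat_lit 6874) (Step.D (nat_lit 5551) (Step.D (nat_lit 8649) (Step.D (nat_lit 11425) Step.done))))))))))) (Scr.cons (nat_lit 11) (nat_lit 0) (Step.U (nat_lit 5233)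 (Step.U (nat_lit 2892) (Step.L (Step.D (nat_lit 5231) (Step.D (nat_lit 8268) Step.done))))) (Scr.cons (nat_lit 12) (nat_lit 1) (Step.U (nat_lit 2892) (Step.L (Step.L (Step.D (nat_lit 2892) (Step.D (nat_lit 5232) Step.done))))) (Scr.cons (nat_lit 12) (nat_lit 1) (Step.U (nat_lit 5233) (Step.D (nat_lit 5232) (Step.F (nat_lit 6877) (Step.D (nat_lit 5233) (Step.D (nat_lit 8269) Step.done))))) (Scr.cons (nat_lit 12) (nat_lit 1) (Step.F (nat_lit 6876) (Step.D (nat_lit 8269) (Step.F (nat_lit 6878) (Step.B (nat_lit 6876) (Step.D (nat_lit 11216) Step.done))))) (Scr.cons (nat_lit 12) (nat_lit 1) (Step.U (nat_lit 5551) (Step.F (nat_lit 6874) (Step.B (nat_lit 6873) (Step.D (nat_lit 5551) (Step.D (nat_lit 8649) Step.done))))) (Scr.cons (nat_lit 7) (nat_lit 5) (Step.F (nat_lit 6879) (Step.U (nat_lit 8268) (Step.U (nat_lit 5231) (Step.L (Step.L (Step.L (Step.L (Step.L (Step.L (Step.L (Step.L (Step.L (Step.L (Step.L (Step.L (Step.L (Step.D (nat_lit 3125) (Step.D (nat_lit 5551) (Step.B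 (nat_lit 6880) (Step.D (nat_lit 11426) Step.done)))))))))))))))))))) (Scr.cons (nat_lit 7) (nat_lit 4) (Step.L (Step.L (Step.D (nat_lit 2555) (Step.D (nat_lit 4707) (Step.D (nat_lit 7678) (Step.B (nat_lit 6797) (Step.F (nat_lit 6872) (Step.U (nat_lit 11630) (Step.F (nat_lit 6815) (Step.B (nat_lit 6875) (Step.U (nat_lit 11425) (Step.D (nat_lit 11426) (Step.F (nat_lit 6881) (Step.U (nat_lit 11216) (Step.U (nat_lit 8268) (Step.U (nat_lit 5231) (Step.L (Step.L (Step.D (nat_lit 4816) (Step.D (nat_lit 7811) (Step.B (nat_lit 6796) Step.done))))))))))))))))))))) Scr.nil))))))))))))))))))))))))))))))))))))))))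
noncomputable def s172 : Scr := (Scr.cons (nat_lit 0) (nat_lit 1) (Step.B (nat_lit 6796) (Step.F (nat_lit 6882) (Step.L Step.done))) (Scr.cons (nat_lit 1) (nat_lit 1) (Step.D (nat_lit 7811) (Step.B (nat_lit 6883) (Step.L Step.done))) (Scr.cons (nat_lit 1) (nat_lit 1) (Step.D (nat_lit 4816) (Step.B (nat_lit 6884) (Step.D (nat_lit 7637) Step.done))) (Scr.cons (nat_lit 1) (nat_lit 1) (Step.D (nat_lit 7637) (Step.F (nat_lit 6885) Step.done)) (Scr.cons (nat_lit 11) (nat_lit 0) (Step.L (Step.L (Step.L (Step.D (nat_lit 8958) (Step.D (nat_lit 11576) Step.done))))) (Scr.cons (nat_lit 12) (nat_lit 1) (Step.U (nat_lit 3264) (Step.F (nat_lit 6545) (Step.D (nat_lit 1639) (Step.D (nat_lit 3264) (Step.D (nat_lit 5787) Step.done))))) (Scr.cons (nat_lit 12) (nat_lit 4) (Step.U (nat_lit 8912) (Step.F (nat_lit 6888) (Step.D (nat_lit 5787) (Step.D (nat_lit 8912) (Step.D (nat_lit 11552) Step.done))))) (Scr.cons (nat_lit 12) (nat_lit 4) (Step.U (nat_lit 4708) (Step.F (nat_lit 6863) (Step.D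 (nat_lit 2556) (Step.D (nat_lit 4708) (Step.D (nat_lit 7680) Step.done))))) (Scr.cons (nat_lit 12) (nat_lit 4) (Step.U (nat_lit 7681) (Step.D (nat_lit 7680) (Step.F (nat_lit 6890) (Step.D (nat_lit 7681) (Step.D (nat_lit 10704) Step.done))))) (Scr.cons (nat_lit 11) (nat_lit 0) (Step.U (nat_lit 7682) (Step.U (nat_lit 4709) (Step.D (nat_lit 4708) (Step.D (nat_lit 7681) (Step.D (nat_lit 10705) Step.done))))) (Scr.cons (nat_lit 6) (nat_lit 1) (Step.U (nat_lit 4709) (Step.F (nat_lit 6863) (Step.L (Step.L (Step.L (Step.L (Step.L (Step.L (Step.L (Step.L (Step.D (nat_lit 5767) Step.done))))))))))) (Scr.cons (nat_lit 16) (nat_lit 1) (Step.F (nat_lit 6891) (Step.D (nat_lit 10705) (Step.F (nat_lit 6892) (Step.U (nat_lit 7682) (Step.B (nat_lit 6893) (Step.U (nat_lit 5767) (Step.L (Step.L (Step.L (Step.L (Step.L (Step.L (Step.L (Step.L (Step.L (Step.L (Step.L (Step.L (Step.L (Step.L (Step.L (Step.D (nat_lit 8958) (Step.D (nat_lit 11575) Step.done))))))))))))))))))))))) (Scr.cons (nat_lit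 1) (nat_lit 1) (Step.D (nat_lit 5389) (Step.B (nat_lit 6858) (Step.D (nat_lit 4708) Step.done))) (Scr.cons (nat_lit 1) (nat_lit 1) (Step.U (nat_lit 7681) (Step.F (nat_lit 6895) (Step.D (nat_lit 5388) Step.done))) (Scr.cons (nat_lit 0) (nat_lit 1) (Step.U (nat_lit 10704) (Step.B (nat_lit 6896) (Step.D (nat_lit 8450) Step.done))) (Scr.cons (nat_lit 1) (nat_lit 0) (Step.F (nat_lit 6894) (Step.B (nat_lit 6897) (Step.D (nat_lit 11309) Step.done))) (Scr.cons (nat_lit 0) (nat_lit 1) (Step.D (nat_lit 11575) (Step.B (nat_lit 6898) Step.done)) (Scr.cons (nat_lit 6) (nat_lit 3) (Step.F (nat_lit 6889) (Step.U (nat_lit 8912) (Step.U (nat_lit 5787) (Step.U (nat_lit 3264) (Step.F (nat_lit 6545) (Step.B (nat_lit 2686) (Step.B (nat_lit 6853) (Step.D (nat_lit 5388) (Step.D (nat_lit 8450) (Step.D (nat_lit 11309) (Step.F (nat_lit 6899) (Step.D (nat_lit 11576) Step.done)))))))))))) (Scr.cons (nat_lit 1) (nat_lit 0) (Step.B (nat_lit 6887) (Step.F (nat_lit 6900) Step.done)) (Scr.cons (nat_lit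 1) (nat_lit 1) (Step.D (nat_lit 11576) (Step.F (nat_lit 6900) Step.done)) (Scr.cons (nat_lit 12) (nat_lit 4) (Step.U (nat_lit 8958) (Step.L (Step.L (Step.D (nat_lit 8958) (Step.D (nat_lit 11575) Step.done))))) (Scr.cons (nat_lit 0) (nat_lit 0) (Step.B (nat_lit 6903) (Step.B (nat_lit 6898) Step.done)) (Scr.cons (nat_lit 12) (nat_lit 1) (Step.F (nat_lit 6851) (Step.F (nat_lit 6850) (Step.D (nat_lit 7973) (Step.B (nat_lit 6851) (Step.D (nat_lit 11310) Step.done))))) (Scr.cons (nat_lit 12) (nat_lit 1) (Step.U (nat_lit 62) (Step.L (Step.L (Step.D (nat_lit 62) (Step.D (nat_lit 227) Step.done))))) (Scr.cons (nat_lit 15) (nat_lit 0) (Step.U (nat_lit 634) (Step.F (nat_lit 6906) (Step.U (nat_lit 62) (Step.L (Step.L (Step.L (Step.L (Step.L (Step.L (Step.L (Step.L (Step.L (Step.L (Step.L (Step.D (nat_lit 1490) Step.done))))))))))))))) (Scr.cons (nat_lit 12) (nat_lit 4) (Step.U (nat_lit 1490) (Step.L (Step.L (Step.D (nat_lit 1490) (Step.F (nat_lit 6907) Step.done))))) (Scr.cons (nat_lit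 12) (nat_lit 1) (Step.U (nat_lit 1513) (Step.F (nat_lit 6908) (Step.F (nat_lit 6907) (Step.D (nat_lit 1513) (Step.D (nat_lit 3037) Step.done))))) (Scr.cons (nat_lit 13) (nat_lit 0) (Step.U (nat_lit 5461) (Step.F (nat_lit 6909) (Step.U (nat_lit 1513) (Step.B (nat_lit 6907) (Step.U (nat_lit 1490) (Step.L (Step.L (Step.L (Step.L (Step.D (nat_lit 5418) (Step.D (nat_lit 8487) Step.done))))))))))) (Scr.cons (nat_lit 6) (nat_lit 3) (Step.U (nat_lit 5461) (Step.U (nat_lit 3037) (Step.U (nat_lit 1513) (Step.F (nat_lit 6908) (Step.U (nat_lit 1490) (Step.L (Step.L (Step.L (Step.L (Step.B (nat_lit 870) (Step.D (nat_lit 8487) Step.done))))))))))) (Scr.cons (nat_lit 12) (nat_lit 4) (Step.U (nat_lit 8548) (Step.B (nat_lit 6910) (Step.F (nat_lit 6911) (Step.D (nat_lit 8548) (Step.D (nat_lit 11373) Step.done))))) (Scr.cons (nat_lit 12) (nat_lit 1) (Step.L (Step.L (Step.L (Step.L (Step.D (nat_lit 4674) Step.done))))) (Scr.cons (nat_lit 15) (nat_lit 1) (Step.F (nat_lit 6913) (Step.L (Step.L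 (Step.L (Step.L (Step.L (Step.L (Step.L (Step.D (nat_lit 13) (Step.D (nat_lit 73) (Step.D (nat_lit 258) (Step.D (nat_lit 723) (Step.D (nat_lit 1683) (Step.D (nat_lit 3342) (Step.D (nat_lit 5916) Step.done))))))))))))))) (Scr.cons (nat_lit 4) (nat_lit 0) (Step.U (nat_lit 10664) (Step.U (nat_lit 7636) (Step.B (nat_lit 6914) (Step.D (nat_lit 9077) (Step.D (nat_lit 11611) Step.done))))) (Scr.cons (nat_lit 11) (nat_lit 0) (Step.U (nat_lit 10458) (Step.L (Step.L (Step.D (nat_lit 7635) (Step.D (nat_lit 10663) Step.done))))) (Scr.cons (nat_lit 12) (nat_lit 1) (Step.L (Step.L (Step.L (Step.L (Step.D (nat_lit 2891) Step.done))))) (Scr.cons (nat_lit 12) (nat_lit 1) (Step.U (nat_lit 5230) (Step.F (nat_lit 6917) (Step.D (nat_lit 2891) (Step.D (nat_lit 5230) (Step.D (nat_lit 8267) Step.done))))) (Scr.cons (nat_lit 16) (nat_lit 0) (Step.F (nat_lit 6918) (Step.U (nat_lit 5230) (Step.F (nat_lit 6917) (Step.L (Step.L (Step.L (Step.L (Step.L (Step.L (Step.L (Step.L (Step.L (Step.L (Step.L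 (Step.L (Step.L (Step.L (Step.L (Step.L (Step.L (Step.L (Step.D (nat_lit 7635) (Step.D (nat_lit 10663) (Step.F (nat_lit 6916) Step.done)))))))))))))))))))))))) (Scr.cons (nat_lit 1) (nat_lit 0) (Step.F (nat_lit 6916) (Step.F (nat_lit 6919) (Step.D (nat_lit 11215) Step.done))) (Scr.cons (nat_lit 1) (nat_lit 0) (Step.D (nat_lit 11215) (Step.F (nat_lit 6920) Step.done)) (Scr.cons (nat_lit 13) (nat_lit 3) (Step.U (nat_lit 1511) (Step.U (nat_lit 633) (Step.F (nat_lit 6906) (Step.U (nat_lit 62) (Step.L (Step.L (Step.L (Step.L (Step.L (Step.L (Step.D (nat_lit 2891) Step.done))))))))))) Scr.nil))))))))))))))))))))))))))))))))))))))))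
noncomputable def s173 : Scr := (Scr.cons (nat_lit 12) (nat_lit 4) (Step.U (nat_lit 633) (Step.F (nat_lit 6906) (Step.D (nat_lit 227) (Step.D (nat_lit 633) (Step.D (nat_lit 1511) Step.done))))) (Scr.cons (nat_lit 11) (nat_lit 0) (Step.U (nat_lit 1513) (Step.U (nat_lit 634) (Step.D (nat_lit 633) (Step.D (nat_lit 1512) (Step.D (nat_lit 3036) Step.done))))) (Scr.cons (nat_lit 14) (nat_lit 4) (Step.U (nat_lit 11611) (Step.U (nat_lit 9077) (Step.F (nat_lit 6914) (Step.U (nat_lit 4674) (Step.L (Step.L (Step.L (Step.D (nat_lit 7635) (Step.D (nat_lit 10663) (Step.F (nat_lit 6921) (Step.U (nat_lit 8267) (Step.U (nat_lit 5230) (Step.F (nat_lit 6922) (Step.F (nat_lit 6923) (Step.D (nat_lit 1512) (Step.D (nat_lit 3036) (Step.F (nat_lit 6924) (Step.B (nat_lit 6909) (Step.D (nat_lit 5461) (Step.D (nat_lit 8548) (Step.D (nat_lit 11373) Step.done))))))))))))))))))))) (Scr.cons (nat_lit 1) (nat_lit 1) (Step.B (nat_lit 6915) (Step.B (nat_lit 6925) Step.done)) (Scr.cons (nat_lit 12) (nat_lit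 1) (Step.L (Step.L (Step.L (Step.L (Step.D (nat_lit 7971) Step.done))))) (Scr.cons (nat_lit 8) (nat_lit 1) (Step.U (nat_lit 7972) (Step.U (nat_lit 4960) (Step.U (nat_lit 2723) (Step.U (nat_lit 1336) (Step.L (Step.L (Step.L (Step.L (Step.L (Step.L (Step.L (Step.L (Step.L (Step.B (nat_lit 6927) (Step.D (nat_lit 10954) Step.done))))))))))))))) (Scr.cons (nat_lit 12) (nat_lit 1) (Step.U (nat_lit 7837) (Step.F (nat_lit 3975) (Step.D (nat_lit 4845) (Step.D (nat_lit 7837) (Step.D (nat_lit 10835) Step.done))))) (Scr.cons (nat_lit 9) (nat_lit 0) (Step.U (nat_lit 10953) (Step.D (nat_lit 10954) (Step.F (nat_lit 6928) (Step.U (nat_lit 7972) (Step.U (nat_lit 4960) (Step.U (nat_lit 2723) (Step.D (nat_lit 2724) (Step.F (nat_lit 858) (Step.U (nat_lit 1475) (Step.L (Step.L (Step.L (Step.L (Step.L (Step.L (Step.L (Step.L (Step.L (Step.L (Step.L (Step.B (nat_lit 3975) (Step.D (nat_lit 7837) (Step.B (nat_lit 6929) Step.done))))))))))))))))))))))) (Scr.cons (nat_lit 13) (nat_lit 3) (Step.U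 (nat_lit 7840) (Step.L (Step.L (Step.L (Step.L (Step.L (Step.L (Step.L (Step.B (nat_lit 3975) (Step.D (nat_lit 7837) (Step.D (nat_lit 10835) Step.done))))))))))) (Scr.cons (nat_lit 11) (nat_lit 0) (Step.U (nat_lit 10954) (Step.D (nat_lit 10953) (Step.B (nat_lit 6930) (Step.F (nat_lit 6931) (Step.D (nat_lit 10838) Step.done))))) (Scr.cons (nat_lit 1) (nat_lit 0) (Step.D (nat_lit 4739) (Step.B (nat_lit 2416) (Step.B (nat_lit 1751) Step.done))) (Scr.cons (nat_lit 0) (nat_lit 1) (Step.B (nat_lit 1752) (Step.F (nat_lit 6933) (Step.D (nat_lit 4738) Step.done))) (Scr.cons (nat_lit 1) (nat_lit 0) (Step.U (nat_lit 7714) (Step.F (nat_lit 6934) (Step.L Step.done))) (Scr.cons (nat_lit 11) (nat_lit 0) (Step.L (Step.L (Step.D (nat_lit 1607) (Step.D (nat_lit 3186) (Step.D (nat_lit 5643) Step.done))))) (Scr.cons (nat_lit 1) (nat_lit 0) (Step.F (nat_lit 5136) (Step.B (nat_lit 6935) (Step.B (nat_lit 6936) Step.done))) (Scr.cons (nat_lit 0) (nat_lit 1) (Step.F (nat_lit 6928) (Step.B (nat_lit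 6937) (Step.D (nat_lit 8739) Step.done))) (Scr.cons (nat_lit 1) (nat_lit 1) (Step.F (nat_lit 6932) (Step.B (nat_lit 6938) Step.done)) (Scr.cons (nat_lit 12) (nat_lit 1) (Step.F (nat_lit 6936) (Step.D (nat_lit 5644) (Step.F (nat_lit 1753) (Step.B (nat_lit 6936) (Step.D (nat_lit 8739) Step.done))))) (Scr.cons (nat_lit 12) (nat_lit 4) (Step.U (nat_lit 723) (Step.F (nat_lit 6638) (Step.D (nat_lit 258) (Step.D (nat_lit 723) (Step.D (nat_lit 1683) Step.done))))) (Scr.cons (nat_lit 12) (nat_lit 1) (Step.U (nat_lit 3343) (Step.F (nat_lit 6941) (Step.D (nat_lit 1683) (Step.D (nat_lit 3343) (Step.D (nat_lit 5917) Step.done))))) (Scr.cons (nat_lit 12) (nat_lit 1) (Step.U (nat_lit 5918) (Step.D (nat_lit 5917) (Step.F (nat_lit 6942) (Step.D (nat_lit 5918) (Step.D (nat_lit 9080) Step.done))))) (Scr.cons (nat_lit 1) (nat_lit 1) (Step.B (nat_lit 5165) (Step.B (nat_lit 6665) (Step.D (nat_lit 5920) Step.done))) (Scr.cons (nat_lit 1) (nat_lit 1) (Step.D (nat_lit 8591) (Step.B (nat_lit 6944)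 (Step.D (nat_lit 9081) Step.done))) (Scr.cons (nat_lit 1) (nat_lit 1) (Step.D (nat_lit 9081) (Step.F (nat_lit 6945) Step.done)) (Scr.cons (nat_lit 7) (nat_lit 0) (Step.U (nat_lit 9166) (Step.U (nat_lit 6010) (Step.L (Step.L (Step.L (Step.L (Step.D (nat_lit 3388) (Step.D (nat_lit 5994) (Step.D (nat_lit 9154) (Step.F (nat_lit 5170) (Step.U (nat_lit 8590) (Step.F (nat_lit 6946) (Step.U (nat_lit 5920) (Step.F (nat_lit 6642) (Step.B (nat_lit 6643) (Step.U (nat_lit 3344) (Step.U (nat_lit 1684) (Step.B (nat_lit 6941) (Step.D (nat_lit 3343) (Step.D (nat_lit 5918) (Step.D (nat_lit 9080) Step.done))))))))))))))))))))) (Scr.cons (nat_lit 1) (nat_lit 1) (Step.D (nat_lit 9166) (Step.B (nat_lit 6947) Step.done)) (Scr.cons (nat_lit 12) (nat_lit 1) (Step.L (Step.L (Step.L (Step.L (Step.D (nat_lit 3401) Step.done))))) (Scr.cons (nat_lit 14) (nat_lit 5) (Step.U (nat_lit 6011) (Step.U (nat_lit 3401) (Step.L (Step.L (Step.L (Step.L (Step.L (Step.L (Step.L (Step.L (Step.L (Step.L (Step.L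 (Step.D (nat_lit 17) (Step.D (nat_lit 84) (Step.B (nat_lit 2793) (Step.D (nat_lit 765) (Step.D (nat_lit 1739) (Step.D (nat_lit 3421) (Step.D (nat_lit 6032) Step.done)))))))))))))))))))) (Scr.cons (nat_lit 1) (nat_lit 1) (Step.U (nat_lit 765) (Step.B (nat_lit 2877) (Step.L Step.done))) (Scr.cons (nat_lit 1) (nat_lit 1) (Step.U (nat_lit 1739) (Step.B (nat_lit 6951) (Step.L Step.done))) (Scr.cons (nat_lit 0) (nat_lit 1) (Step.U (nat_lit 3421) (Step.B (nat_lit 6952) (Step.L Step.done))) (Scr.cons (nat_lit 1) (nat_lit 1) (Step.U (nat_lit 6032) (Step.B (nat_lit 6953) (Step.L Step.done))) (Scr.cons (nat_lit 1) (nat_lit 1) (Step.B (nat_lit 6950) (Step.B (nat_lit 6954) (Step.L Step.done))) (Scr.cons (nat_lit 1) (nat_lit 1) (Step.D (nat_lit 6011) (Step.B (nat_lit 6955) (Step.D (nat_lit 5923) Step.done))) (Scr.cons (nat_lit 1) (nat_lit 1) (Step.D (nat_lit 5923) (Step.F (nat_lit 6956) Step.done)) (Scr.cons (nat_lit 9) (nat_lit 1) (Step.U (nat_lit 9078) (Step.U (nat_lit 5917) (Step.D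 (nat_lit 5918) (Step.B (nat_lit 6943) (Step.F (nat_lit 6948) (Step.U (nat_lit 6010) (Step.L (Step.L (Step.L (Step.B (nat_lit 6949) (Step.F (nat_lit 6957) (Step.L (Step.L (Step.L (Step.L (Step.L (Step.L (Step.L (Step.L (Step.B (nat_lit 5711) (Step.B (nat_lit 5809) (Step.B (nat_lit 5710) (Step.D (nat_lit 11366) Step.done))))))))))))))))))))))) (Scr.cons (nat_lit 4) (nat_lit 0) (Step.U (nat_lit 8537) (Step.D (nat_lit 8538) (Step.D (nat_lit 11366) (Step.F (nat_lit 6958) (Step.U (nat_lit 9078) (Step.D (nat_lit 9079) Step.done)))))) (Scr.cons (nat_lit 1) (nat_lit 1) (Step.D (nat_lit 9079) (Step.F (nat_lit 6959) (Step.D (nat_lit 11365) Step.done))) (Scr.cons (nat_lit 1) (nat_lit 1) (Step.D (nat_lit 11365) (Step.F (nat_lit 6960) Step.done)) (Scr.cons (nat_lit 1) (nat_lit 0) (Step.D (nat_lit 10954) (Step.B (nat_lit 6938) Step.done)) Scr.nil))))))))))))))))))))))))))))))))))))))))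
noncomputable def s174 : Scr := (Scr.cons (nat_lit 7) (nat_lit 6) (Step.U (nat_lit 10664) (Step.U (nat_lit 7636) (Step.B (nat_lit 6914) (Step.U (nat_lit 5916) (Step.U (nat_lit 3342) (Step.D (nat_lit 3343) (Step.D (nat_lit 5917) (Step.F (nat_lit 6961) (Step.U (nat_lit 8537) (Step.D (nat_lit 8538) (Step.F (nat_lit 5709) (Step.L (Step.L (Step.L (Step.L (Step.L (Step.L (Step.B (nat_lit 6927) (Step.B (nat_lit 6962) (Step.F (nat_lit 6939) Step.done)))))))))))))))))))) (Scr.cons (nat_lit 12) (nat_lit 1) (Step.B (nat_lit 6939) (Step.F (nat_lit 6940) (Step.D (nat_lit 8739) (Step.F (nat_lit 6939) (Step.F (nat_lit 6963) Step.done))))) (Scr.cons (nat_lit 1) (nat_lit 1) (Step.F (nat_lit 5129) (Step.F (nat_lit 6934) (Step.L Step.done))) (Scr.cons (nat_lit 1) (nat_lit 1) (Step.U (nat_lit 7847) (Step.B (nat_lit 6965) (Step.D (nat_lit 1607) Step.done))) (Scr.cons (nat_lit 1) (nat_lit 1) (Step.F (nat_lit 5137) (Step.B (nat_lit 6966) (Step.D (nat_lit 3186) Step.done))) (Scr.cons (nat_lit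 0) (nat_lit 1) (Step.B (nat_lit 5138) (Step.B (nat_lit 6967) (Step.D (nat_lit 5642) Step.done))) (Scr.cons (nat_lit 0) (nat_lit 1) (Step.D (nat_lit 5642) (Step.F (nat_lit 6968) Step.done)) (Scr.cons (nat_lit 1) (nat_lit 1) (Step.U (nat_lit 10705) (Step.B (nat_lit 6896) (Step.D (nat_lit 8451) Step.done))) (Scr.cons (nat_lit 1) (nat_lit 0) (Step.B (nat_lit 6892) (Step.B (nat_lit 6970) Step.done)) (Scr.cons (nat_lit 13) (nat_lit 3) (Step.D (nat_lit 8548) (Step.B (nat_lit 6912) (Step.F (nat_lit 6926) (Step.F (nat_lit 6964) (Step.B (nat_lit 6939) (Step.U (nat_lit 8739) (Step.U (nat_lit 5643) (Step.B (nat_lit 6969) (Step.D (nat_lit 4961) (Step.F (nat_lit 6862) (Step.B (nat_lit 6971) (Step.D (nat_lit 11310) Step.done)))))))))))) (Scr.cons (nat_lit 0) (nat_lit 1) (Step.B (nat_lit 6905) (Step.F (nat_lit 6972) (Step.B (nat_lit 6910) Step.done))) (Scr.cons (nat_lit 1) (nat_lit 0) (Step.D (nat_lit 8487) (Step.F (nat_lit 6973) (Step.U (nat_lit 8451) Step.done))) (Scr.cons (nat_lit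 0) (nat_lit 1) (Step.B (nat_lit 870) (Step.B (nat_lit 6974) (Step.D (nat_lit 8450) Step.done))) (Scr.cons (nat_lit 1) (nat_lit 0) (Step.U (nat_lit 11309) (Step.F (nat_lit 6975) (Step.L Step.done))) (Scr.cons (nat_lit 0) (nat_lit 1) (Step.B (nat_lit 6904) (Step.B (nat_lit 6976) (Step.L Step.done))) (Scr.cons (nat_lit 1) (nat_lit 1) (Step.F (nat_lit 6902) (Step.B (nat_lit 6977) (Step.L Step.done))) (Scr.cons (nat_lit 1) (nat_lit 0) (Step.B (nat_lit 6901) (Step.B (nat_lit 6978) Step.done)) (Scr.cons (nat_lit 14) (nat_lit 6) (Step.U (nat_lit 11312) (Step.U (nat_lit 8453) (Step.U (nat_lit 5389) (Step.F (nat_lit 6853) (Step.F (nat_lit 2686) (Step.U (nat_lit 698) (Step.L (Step.L (Step.L (Step.L (Step.L (Step.L (Step.L (Step.L (Step.L (Step.L (Step.L (Step.L (Step.L (Step.D (nat_lit 11488) Step.done)))))))))))))))))))) (Scr.cons (nat_lit 12) (nat_lit 1) (Step.U (nat_lit 8453) (Step.D (nat_lit 8452) (Step.F (nat_lit 6854) (Step.D (nat_lit 8453) (Step.D (nat_lit 11312) Step.done)))))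 (Scr.cons (nat_lit 12) (nat_lit 4) (Step.L (Step.L (Step.L (Step.L (Step.D (nat_lit 5195) Step.done))))) (Scr.cons (nat_lit 14) (nat_lit 5) (Step.U (nat_lit 8443) (Step.U (nat_lit 5382) (Step.U (nat_lit 2986) (Step.B (nat_lit 858) (Step.D (nat_lit 4962) (Step.F (nat_lit 6848) (Step.D (nat_lit 4973) (Step.F (nat_lit 6849) (Step.U (nat_lit 4962) (Step.U (nat_lit 2724) (Step.D (nat_lit 2723) (Step.D (nat_lit 4960) (Step.D (nat_lit 7972) (Step.F (nat_lit 5136) (Step.U (nat_lit 7714) (Step.U (nat_lit 4738) (Step.D (nat_lit 4739) (Step.D (nat_lit 7715) (Step.D (nat_lit 10734) (Step.F (nat_lit 4066) Step.done)))))))))))))))))))) (Scr.cons (nat_lit 1) (nat_lit 1) (Step.B (nat_lit 6983) (Step.B (nat_lit 4072) (Step.L Step.done))) (Scr.cons (nat_lit 1) (nat_lit 1) (Step.D (nat_lit 8443) (Step.B (nat_lit 6984) (Step.L Step.done))) (Scr.cons (nat_lit 0) (nat_lit 1) (Step.B (nat_lit 860) (Step.B (nat_lit 6985) (Step.D (nat_lit 5195) Step.done))) (Scr.cons (nat_lit 0) (nat_lit 0) (Step.B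 (nat_lit 6982) (Step.F (nat_lit 6986) Step.done)) (Scr.cons (nat_lit 6) (nat_lit 1) (Step.F (nat_lit 6980) (Step.F (nat_lit 6981) (Step.F (nat_lit 6852) (Step.U (nat_lit 7973) (Step.F (nat_lit 859) (Step.F (nat_lit 6987) (Step.L (Step.L (Step.L (Step.L (Step.L Step.done))))))))))) (Scr.cons (nat_lit 0) (nat_lit 1) (Step.U (nat_lit 11312) (Step.B (nat_lit 6859) (Step.B (nat_lit 6893) Step.done))) (Scr.cons (nat_lit 1) (nat_lit 0) (Step.F (nat_lit 6980) (Step.B (nat_lit 6989) (Step.D (nat_lit 8893) Step.done))) (Scr.cons (nat_lit 0) (nat_lit 1) (Step.F (nat_lit 6988) (Step.B (nat_lit 6990) (Step.D (nat_lit 11544) Step.done))) (Scr.cons (nat_lit 0) (nat_lit 1) (Step.D (nat_lit 11544) (Step.F (nat_lit 6991) Step.done)) (Scr.cons (nat_lit 14) (nat_lit 0) (Step.F (nat_lit 6992) (Step.U (nat_lit 8893) (Step.U (nat_lit 5767) (Step.L (Step.L (Step.L (Step.L (Step.L (Step.L (Step.L (Step.L (Step.L (Step.L (Step.L (Step.L (Step.L (Step.L (Step.L (Step.L (Step.L (Step.D (nat_lit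 11258) Step.done))))))))))))))))))))) (Scr.cons (nat_lit 1) (nat_lit 1) (Step.D (nat_lit 11258) (Step.F (nat_lit 6993) Step.done)) (Scr.cons (nat_lit 11) (nat_lit 0) (Step.L (Step.L (Step.D (nat_lit 3200) (Step.D (nat_lit 5670) (Step.D (nat_lit 8774) Step.done))))) (Scr.cons (nat_lit 11) (nat_lit 0) (Step.U (nat_lit 5940) (Step.U (nat_lit 3355) (Step.L (Step.D (nat_lit 5938) (Step.D (nat_lit 9098) Step.done))))) (Scr.cons (nat_lit 12) (nat_lit 1) (Step.U (nat_lit 3355) (Step.L (Step.L (Step.D (nat_lit 3355) (Step.D (nat_lit 5939) Step.done))))) (Scr.cons (nat_lit 12) (nat_lit 1) (Step.U (nat_lit 5940) (Step.D (nat_lit 5939) (Step.F (nat_lit 6997) (Step.D (nat_lit 5940) (Step.D (nat_lit 9099) Step.done))))) (Scr.cons (nat_lit 12) (nat_lit 1) (Step.F (nat_lit 6996) (Step.D (nat_lit 9099) (Step.F (nat_lit 6998) (Step.B (nat_lit 6996) (Step.D (nat_lit 11617) Step.done))))) (Scr.cons (nat_lit 11) (nat_lit 0) (Step.U (nat_lit 3357) (Step.L (Step.L (Step.D (nat_lit 3356) (Step.D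 (nat_lit 5941) Step.done))))) (Scr.cons (nat_lit 12) (nat_lit 1) (Step.U (nat_lit 3357) (Step.L (Step.L (Step.D (nat_lit 3357) (Step.D (nat_lit 5942) Step.done))))) (Scr.cons (nat_lit 12) (nat_lit 1) (Step.F (nat_lit 7000) (Step.D (nat_lit 5942) (Step.F (nat_lit 7001) (Step.B (nat_lit 7000) (Step.D (nat_lit 9100) Step.done))))) Scr.nil))))))))))))))))))))))))))))))))))))))))
noncomputable def s175 : Scr := (Scr.cons (nat_lit 14) (nat_lit 2) (Step.F (nat_lit 6999) (Step.F (nat_lit 6996) (Step.U (nat_lit 5940) (Step.U (nat_lit 3355) (Step.L (Step.L (Step.L (Step.L (Step.L (Step.L (Step.L (Step.L (Step.L (Step.L (Step.L (Step.L (Step.D (nat_lit 3356) (Step.D (nat_lit 5941) (Step.B (nat_lit 7002) (Step.D (nat_lit 11618) Step.done)))))))))))))))))))) (Scr.cons (nat_lit 6) (nat_lit 3) (Step.L (Step.L (Step.L (Step.L (Step.L (Step.L (Step.L (Step.L (Step.L (Step.B (nat_lit 1098) (Step.D (nat_lit 9234) Step.done))))))))))) (Scr.cons (nat_lit 16) (nat_lit 4) (Step.U (nat_lit 9235)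 (Step.D (nat_lit 9234) (Step.F (nat_lit 7004) (Step.L (Step.L (Step.L (Step.L (Step.L (Step.L (Step.L (Step.L (Step.L (Step.L (Step.L (Step.L (Step.L (Step.L (Step.L (Step.D (nat_lit 616) (Step.D (nat_lit 1462) (Step.D (nat_lit 2951) (Step.D (nat_lit 5313) (Step.D (nat_lit 8350) (Step.D (nat_lit 11254) Step.done)))))))))))))))))))))))) (Scr.cons (nat_lit 1) (nat_lit 1) (Step.D (nat_lit 11254) (Step.F (nat_lit 7005) Step.done)) (Scr.cons (nat_lit 13) (nat_lit 0) (Step.U (nat_lit 616) (Step.L (Step.L (Step.L (Step.L (Step.L (Step.L (Step.L (Step.D (nat_lit 213) (Step.D (nat_lit 593) (Step.D (nat_lit 1425) Step.done))))))))))) (Scr.cons (nat_lit 12) (nat_lit 4) (Step.U (nat_lit 1462) (Step.B (nat_lit 7007) (Step.F (nat_lit 5660) (Step.D (nat_lit 1462) (Step.D (nat_lit 2951) Step.done))))) (Scr.cons (nat_lit 12) (nat_lit 4) (Step.U (nat_lit 5313) (Step.F (nat_lit 7008) (Step.D (nat_lit 2951) (Step.D (nat_lit 5313) (Step.D (nat_lit 8350) Step.done))))) (Scr.cons (nat_lit 12)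 (nat_lit 1) (Step.U (nat_lit 5314) (Step.F (nat_lit 7008) (Step.D (nat_lit 2951) (Step.D (nat_lit 5314) (Step.D (nat_lit 8351) Step.done))))) (Scr.cons (nat_lit 12) (nat_lit 1) (Step.U (nat_lit 8352) (Step.D (nat_lit 8351) (Step.F (nat_lit 7010) (Step.D (nat_lit 8352) (Step.D (nat_lit 11255) Step.done))))) (Scr.cons (nat_lit 11) (nat_lit 0) (Step.U (nat_lit 1633) (Step.L (Step.L (Step.L (Step.D (nat_lit 3248) Step.done))))) (Scr.cons (nat_lit 16) (nat_lit 3) (Step.U (nat_lit 8778) (Step.U (nat_lit 5673) (Step.L (Step.L (Step.L (Step.L (Step.L (Step.L (Step.L (Step.L (Step.L (Step.L (Step.L (Step.L (Step.L (Step.L (Step.L (Step.L (Step.D (nat_lit 3248) (Step.F (nat_lit 7012) (Step.D (nat_lit 3249) (Step.D (nat_lit 5758) (Step.D (nat_lit 8880) Step.done))))))))))))))))))))))) (Scr.cons (nat_lit 11) (nat_lit 0) (Step.F (nat_lit 7013) (Step.U (nat_lit 8778) (Step.U (nat_lit 5673) (Step.D (nat_lit 5672) (Step.D (nat_lit 8777) Step.done))))) (Scr.cons (nat_lit 11) (nat_lit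 0) (Step.U (nat_lit 5540) (Step.L (Step.D (nat_lit 3116) (Step.D (nat_lit 5539) (Step.D (nat_lit 8638) Step.done))))) (Scr.cons (nat_lit 12) (nat_lit 1) (Step.U (nat_lit 5540) (Step.L (Step.L (Step.D (nat_lit 5540) (Step.D (nat_lit 8639) Step.done))))) (Scr.cons (nat_lit 12) (nat_lit 1) (Step.F (nat_lit 7015) (Step.D (nat_lit 8639) (Step.F (nat_lit 7016) (Step.B (nat_lit 7015) (Step.D (nat_lit 11422) Step.done))))) (Scr.cons (nat_lit 11) (nat_lit 0) (Step.U (nat_lit 8623) (Step.U (nat_lit 5532) (Step.L (Step.D (nat_lit 8622) (Step.D (nat_lit 11415) Step.done))))) (Scr.cons (nat_lit 9) (nat_lit 5) (Step.U (nat_lit 5531) (Step.L (Step.L (Step.L (Step.L (Step.L (Step.L (Step.L (Step.L (Step.L (Step.L (Step.L (Step.L (Step.L (Step.L (Step.L (Step.L (Step.L (Step.L (Step.L (Step.L (Step.L (Step.L Step.done))))))))))))))))))))))) (Scr.cons (nat_lit 11) (nat_lit 0) (Step.L (Step.L (Step.L (Step.D (nat_lit 5315) (Step.D (nat_lit 8354) Step.done))))) (Scr.cons (nat_lit 7) (nat_lit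 0) (Step.U (nat_lit 11415) (Step.U (nat_lit 8622) (Step.L (Step.L (Step.D (nat_lit 3104) (Step.B (nat_lit 3531) (Step.B (nat_lit 7019) (Step.L (Step.L (Step.L (Step.B (nat_lit 4674) (Step.B (nat_lit 4677) (Step.U (nat_lit 8214) (Step.L (Step.L (Step.L (Step.L (Step.L (Step.L (Step.B (nat_lit 7020) (Step.D (nat_lit 11257) Step.done))))))))))))))))))))) (Scr.cons (nat_lit 1) (nat_lit 0) (Step.B (nat_lit 7018) (Step.B (nat_lit 7021) Step.done)) (Scr.cons (nat_lit 16) (nat_lit 1) (Step.D (nat_lit 8354) (Step.D (nat_lit 11257) (Step.F (nat_lit 7022) (Step.U (nat_lit 8623) (Step.U (nat_lit 5532) (Step.L (Step.L (Step.L (Step.L (Step.L (Step.L (Step.L (Step.L (Step.L (Step.L (Step.L (Step.L (Step.L (Step.L (Step.L (Step.D (nat_lit 3116) (Step.D (nat_lit 5539) (Step.D (nat_lit 8638) (Step.D (nat_lit 11422) Step.done)))))))))))))))))))))))) (Scr.cons (nat_lit 0) (nat_lit 1) (Step.B (nat_lit 7017) (Step.F (nat_lit 7023) (Step.D (nat_lit 8353) Step.done))) (Scr.cons (nat_lit 1)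 (nat_lit 1) (Step.B (nat_lit 7015) (Step.B (nat_lit 7024) (Step.D (nat_lit 11256) Step.done))) (Scr.cons (nat_lit 1) (nat_lit 1) (Step.D (nat_lit 11256) (Step.F (nat_lit 7025) Step.done)) (Scr.cons (nat_lit 7) (nat_lit 0) (Step.B (nat_lit 7014) (Step.U (nat_lit 8777) (Step.U (nat_lit 5672) (Step.L (Step.L (Step.L (Step.L (Step.L (Step.D (nat_lit 5540) (Step.F (nat_lit 7026) (Step.U (nat_lit 8353) (Step.U (nat_lit 5315) (Step.L (Step.L (Step.L (Step.B (nat_lit 5658) (Step.U (nat_lit 2952) (Step.B (nat_lit 7008) (Step.D (nat_lit 5314) (Step.D (nat_lit 8352) (Step.D (nat_lit 11255) Step.done))))))))))))))))))))) (Scr.cons (nat_lit 12) (nat_lit 1) (Step.U (nat_lit 1633) (Step.L (Step.L (Step.D (nat_lit 1633) (Step.D (nat_lit 3249) Step.done))))) (Scr.cons (nat_lit 12) (nat_lit 4) (Step.U (nat_lit 5758) (Step.F (nat_lit 7028) (Step.D (nat_lit 3249) (Step.D (nat_lit 5758) (Step.D (nat_lit 8880) Step.done))))) (Scr.cons (nat_lit 0) (nat_lit 1) (Step.B (nat_lit 7011) (Step.F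 (nat_lit 7027) (Step.F (nat_lit 7029) Step.done))) (Scr.cons (nat_lit 1) (nat_lit 1) (Step.D (nat_lit 8352) (Step.B (nat_lit 7030) (Step.D (nat_lit 8881) Step.done))) (Scr.cons (nat_lit 1) (nat_lit 1) (Step.D (nat_lit 8881) (Step.F (nat_lit 7031) Step.done)) (Scr.cons (nat_lit 13) (nat_lit 0) (Step.U (nat_lit 5672) (Step.L (Step.L (Step.L (Step.L (Step.L (Step.L (Step.L (Step.L (Step.D (nat_lit 5671) (Step.D (nat_lit 8775) Step.done))))))))))) (Scr.cons (nat_lit 7) (nat_lit 3) (Step.U (nat_lit 9100) (Step.U (nat_lit 5941) (Step.U (nat_lit 3356) (Step.L (Step.L (Step.L (Step.L (Step.B (nat_lit 1098) (Step.D (nat_lit 9235) (Step.F (nat_lit 7006) (Step.F (nat_lit 7009) (Step.U (nat_lit 5313) (Step.D (nat_lit 5314) (Step.F (nat_lit 7032) (Step.B (nat_lit 7029) (Step.B (nat_lit 7014) (Step.U (nat_lit 8777) (Step.B (nat_lit 7033) (Step.U (nat_lit 8775) (Step.D (nat_lit 8776) (Step.D (nat_lit 11486) Step.done))))))))))))))))))))) (Scr.cons (nat_lit 1) (nat_lit 1) (Step.D (nat_lit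 11486) (Step.F (nat_lit 7034) (Step.D (nat_lit 11618) Step.done))) (Scr.cons (nat_lit 1) (nat_lit 1) (Step.B (nat_lit 7003) (Step.F (nat_lit 7035) (Step.U (nat_lit 8776) Step.done))) (Scr.cons (nat_lit 0) (nat_lit 1) (Step.B (nat_lit 6999) (Step.B (nat_lit 7036) (Step.F (nat_lit 924) Step.done))) (Scr.cons (nat_lit 1) (nat_lit 0) (Step.D (nat_lit 9098) (Step.B (nat_lit 7037) (Step.L Step.done))) (Scr.cons (nat_lit 1) (nat_lit 0) (Step.D (nat_lit 5938) (Step.B (nat_lit 7038) (Step.B (nat_lit 6995) Step.done))) (Scr.cons (nat_lit 1) (nat_lit 0) (Step.B (nat_lit 6995) (Step.F (nat_lit 7039) Step.done)) (Scr.cons (nat_lit 1) (nat_lit 1) (Step.D (nat_lit 11618) (Step.F (nat_lit 7035) Step.done)) (Scr.cons (nat_lit 4) (nat_lit 0) (Step.U (nat_lit 11485) (Step.U (nat_lit 8775) (Step.D (nat_lit 8776) (Step.F (nat_lit 7041) (Step.D (nat_lit 11619) Step.done))))) Scr.nil))))))))))))))))))))))))))))))))))))))))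
noncomputable def s176 : Scr := (Scr.cons (nat_lit 12) (nat_lit 1) (Step.L (Step.L (Step.L (Step.L (Step.D (nat_lit 8637) Step.done))))) (Scr.cons (nat_lit 9) (nat_lit 1) (Step.U (nat_lit 11620) (Step.U (nat_lit 9101) (Step.U (nat_lit 5942) (Step.B (nat_lit 7000) (Step.B (nat_lit 7002) (Step.D (nat_lit 11619) (Step.F (nat_lit 7042) (Step.U (nat_lit 11485) (Step.F (nat_lit 7033) (Step.U (nat_lit 5672) (Step.L (Step.L (Step.L (Step.L (Step.L (Step.L (Step.L (Step.L (Step.L (Step.L (Step.L (Step.L (Step.B (nat_lit 7043) (Step.D (nat_lit 11421) Step.done)))))))))))))))))))))))) (Scr.cons (nat_lit 1) (nat_lit 1) (Step.D (nat_lit 11620) (Step.B (nat_lit 7044) Step.done)) (Scr.cons (nat_lit 4) (nat_lit 0) (Step.U (nat_lit 11420) (Step.D (nat_lit 11421) (Step.F (nat_lit 7045) (Step.U (nat_lit 9101) (Step.D (nat_lit 9102) (Step.D (nat_lit 11621) Step.done)))))) (Scr.cons (nat_lit 1) (nat_lit 0) (Step.D (nat_lit 11621) (Step.F (nat_lit 7046) Step.done)) (Scr.cons (nat_lit 14) (nat_lit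 0) (Step.L (Step.L (Step.L (Step.D (nat_lit 8637) (Step.D (nat_lit 11420) (Step.F (nat_lit 7047) (Step.U (nat_lit 9102) (Step.U (nat_lit 5942) (Step.U (nat_lit 3357) (Step.L (Step.L (Step.L (Step.L (Step.L (Step.L (Step.L (Step.L (Step.L (Step.L (Step.D (nat_lit 9103) (Step.D (nat_lit 11622) Step.done))))))))))))))))))))) (Scr.cons (nat_lit 1) (nat_lit 0) (Step.D (nat_lit 11622) (Step.F (nat_lit 7048) (Step.L Step.done))) (Scr.cons (nat_lit 1) (nat_lit 0) (Step.D (nat_lit 9103) (Step.B (nat_lit 7049) (Step.D (nat_lit 11412) Step.done))) (Scr.cons (nat_lit 1) (nat_lit 0) (Step.D (nat_lit 11412) (Step.F (nat_lit 7050) Step.done)) (Scr.cons (nat_lit 11) (nat_lit 0) (Step.U (nat_lit 9104) (Step.U (nat_lit 5943) (Step.L (Step.D (nat_lit 9103) (Step.D (nat_lit 11622) Step.done))))) (Scr.cons (nat_lit 1) (nat_lit 1) (Step.B (nat_lit 7052) (Step.F (nat_lit 7048) (Step.D (nat_lit 8612) Step.done))) (Scr.cons (nat_lit 1) (nat_lit 1) (Step.D (nat_lit 9104) (Step.B (nat_lit 7053)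 (Step.D (nat_lit 11411) Step.done))) (Scr.cons (nat_lit 1) (nat_lit 1) (Step.D (nat_lit 11411) (Step.F (nat_lit 7054) Step.done)) (Scr.cons (nat_lit 9) (nat_lit 1) (Step.U (nat_lit 11623) (Step.L (Step.L (Step.L (Step.L (Step.D (nat_lit 5943) (Step.F (nat_lit 7055) (Step.U (nat_lit 8612) (Step.L (Step.L (Step.L (Step.L (Step.L (Step.L (Step.L (Step.L (Step.L (Step.L (Step.L (Step.L (Step.L (Step.L (Step.L (Step.L Step.done)))))))))))))))))))))))) (Scr.cons (nat_lit 1) (nat_lit 1) (Step.D (nat_lit 11623) (Step.B (nat_lit 7056) Step.done)) (Scr.cons (nat_lit 12) (nat_lit 1) (Step.L (Step.L (Step.L (Step.L (Step.D (nat_lit 8501) Step.done))))) (Scr.cons (nat_lit 12) (nat_lit 1) (Step.U (nat_lit 8502) (Step.D (nat_lit 8501) (Step.F (nat_lit 7058) (Step.D (nat_lit 8502) (Step.D (nat_lit 11353) Step.done))))) (Scr.cons (nat_lit 12) (nat_lit 1) (Step.U (nat_lit 7380) (Step.L (Step.L (Step.D (nat_lit 7380) (Step.D (nat_lit 10442) Step.done))))) (Scr.cons (nat_lit 13) (nat_lit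 1) (Step.F (nat_lit 7060) (Step.U (nat_lit 7380) (Step.L (Step.F (nat_lit 4083) (Step.F (nat_lit 6754) (Step.L (Step.L (Step.L (Step.L (Step.L (Step.L Step.done))))))))))) (Scr.cons (nat_lit 12) (nat_lit 4) (Step.U (nat_lit 4478) (Step.L (Step.L (Step.D (nat_lit 4478) (Step.D (nat_lit 7411) Step.done))))) (Scr.cons (nat_lit 12) (nat_lit 1) (Step.L (Step.L (Step.L (Step.L (Step.D (nat_lit 5568) Step.done))))) (Scr.cons (nat_lit 12) (nat_lit 1) (Step.U (nat_lit 8667) (Step.F (nat_lit 7063) (Step.D (nat_lit 5568) (Step.D (nat_lit 8667) (Step.D (nat_lit 11436) Step.done))))) (Scr.cons (nat_lit 12) (nat_lit 1) (Step.U (nat_lit 7446) (Step.F (nat_lit 4144) (Step.D (nat_lit 4510) (Step.D (nat_lit 7446) (Step.D (nat_lit 10498) Step.done))))) (Scr.cons (nat_lit 12) (nat_lit 1) (Step.L (Step.L (Step.L (Step.L (Step.D (nat_lit 234) Step.done))))) (Scr.cons (nat_lit 12) (nat_lit 1) (Step.U (nat_lit 653) (Step.F (nat_lit 7066) (Step.D (nat_lit 234) (Step.D (nat_lit 653) (Step.D (nat_lit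 1551) Step.done))))) (Scr.cons (nat_lit 8) (nat_lit 1) (Step.U (nat_lit 1575) (Step.U (nat_lit 666) (Step.U (nat_lit 241) (Step.U (nat_lit 68) (Step.L (Step.L (Step.L (Step.L (Step.L (Step.L (Step.L (Step.B (nat_lit 7066) (Step.D (nat_lit 653) (Step.B (nat_lit 7067) (Step.D (nat_lit 3092) Step.done))))))))))))))) (Scr.cons (nat_lit 12) (nat_lit 0) (Step.B (nat_lit 7068) (Step.U (nat_lit 3092) (Step.F (nat_lit 7067) (Step.D (nat_lit 1551) (Step.D (nat_lit 3092) Step.done))))) (Scr.cons (nat_lit 12) (nat_lit 4) (Step.U (nat_lit 3135) (Step.B (nat_lit 7068) (Step.F (nat_lit 7069) (Step.D (nat_lit 3135) (Step.D (nat_lit 5564) Step.done))))) (Scr.cons (nat_lit 12) (nat_lit 1) (Step.L (Step.D (nat_lit 445) (Step.F (nat_lit 2461) (Step.L (Step.D (nat_lit 690) Step.done))))) (Scr.cons (nat_lit 12) (nat_lit 4) (Step.U (nat_lit 1622) (Step.F (nat_lit 7071) (Step.D (nat_lit 690) (Step.D (nat_lit 1622) (Step.D (nat_lit 3222) Step.done))))) (Scr.cons (nat_lit 13) (nat_lit 3) (Step.U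 (nat_lit 7317) (Step.U (nat_lit 4403) (Step.F (nat_lit 2462) (Step.U (nat_lit 1135) (Step.U (nat_lit 445) (Step.L (Step.D (nat_lit 690) (Step.D (nat_lit 1622) (Step.B (nat_lit 7072) (Step.D (nat_lit 5716) (Step.D (nat_lit 8825) Step.done))))))))))) (Scr.cons (nat_lit 12) (nat_lit 4) (Step.U (nat_lit 618) (Step.L (Step.L (Step.D (nat_lit 618) (Step.D (nat_lit 1478) Step.done))))) (Scr.cons (nat_lit 12) (nat_lit 4) (Step.U (nat_lit 72) (Step.L (Step.L (Step.D (nat_lit 72) (Step.D (nat_lit 257) Step.done))))) (Scr.cons (nat_lit 14) (nat_lit 5) (Step.F (nat_lit 7073) (Step.U (nat_lit 7317) (Step.F (nat_lit 2685) (Step.U (nat_lit 2993) (Step.F (nat_lit 7074) (Step.D (nat_lit 1479) (Step.F (nat_lit 2686) (Step.U (nat_lit 698) (Step.L (Step.L (Step.L (Step.L (Step.L (Step.L (Step.D (nat_lit 72) (Step.B (nat_lit 7075) (Step.D (nat_lit 719) (Step.D (nat_lit 1678) (Step.D (nat_lit 3337) (Step.D (nat_lit 5909) Step.done)))))))))))))))))))) (Scr.cons (nat_lit 4) (nat_lit 0) (Step.B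 (nat_lit 7073) (Step.B (nat_lit 7076) (Step.U (nat_lit 5909) (Step.D (nat_lit 5910) (Step.D (nat_lit 9072) Step.done))))) (Scr.cons (nat_lit 12) (nat_lit 1) (Step.U (nat_lit 1552) (Step.D (nat_lit 1551) (Step.F (nat_lit 7067) (Step.D (nat_lit 1552) (Step.D (nat_lit 3093) Step.done))))) (Scr.cons (nat_lit 12) (nat_lit 4) (Step.U (nat_lit 5518) (Step.F (nat_lit 7078) (Step.D (nat_lit 3093) (Step.D (nat_lit 5518) (Step.D (nat_lit 8613) Step.done))))) (Scr.cons (nat_lit 13) (nat_lit 2) (Step.U (nat_lit 8661) (Step.U (nat_lit 5564) (Step.U (nat_lit 3135) (Step.B (nat_lit 7068) (Step.U (nat_lit 3092) (Step.U (nat_lit 1551) (Step.D (nat_lit 1552) (Step.D (nat_lit 3093) (Step.D (nat_lit 5518) (Step.B (nat_lit 7079) (Step.D (nat_lit 11413) Step.done))))))))))) (Scr.cons (nat_lit 12) (nat_lit 1) (Step.U (nat_lit 2993) (Step.F (nat_lit 7074) (Step.D (nat_lit 1478) (Step.D (nat_lit 2993) (Step.D (nat_lit 5387) Step.done))))) (Scr.cons (nat_lit 12) (nat_lit 1) (Step.U (nat_lit 8449)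 (Step.F (nat_lit 7081) (Step.D (nat_lit 5387) (Step.D (nat_lit 8449) (Step.D (nat_lit 11308) Step.done))))) Scr.nil))))))))))))))))))))))))))))))))))))))))
noncomputable def s177 : Scr := (Scr.cons (nat_lit 11) (nat_lit 0) (Step.U (nat_lit 1552) (Step.U (nat_lit 653) (Step.D (nat_lit 652) (Step.D (nat_lit 1550) (Step.D (nat_lit 3091) Step.done))))) (Scr.cons (nat_lit 16) (nat_lit 2) (Step.F (nat_lit 7083) (Step.U (nat_lit 1552) (Step.U (nat_lit 653) (Step.F (nat_lit 7066) (Step.L (Step.L (Step.L (Step.L (Step.L (Step.L (Step.L (Step.L (Step.L (Step.L (Step.L (Step.L (Step.L (Step.L (Step.L (Step.L (Step.L (Step.L (Step.D (nat_lit 5419) Step.done))))))))))))))))))))))) (Scr.cons (nat_lit 0) (nat_lit 1) (Step.D (nat_lit 8450) (Step.F (nat_lit 6975) Step.done)) (Scr.cons (nat_lit 8) (nat_lit 0) (Step.B (nat_lit 7083) (Step.B (nat_lit 7084) (Step.U (nat_lit 5419) (Step.L (Step.L (Step.L (Step.L (Step.F (nat_lit 7085) (Step.U (nat_lit 5388) (Step.U (nat_lit 2994) (Step.U (nat_lit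 1479) (Step.B (nat_lit 7074) (Step.D (nat_lit 2993) (Step.B (nat_lit 7081) (Step.D (nat_lit 8449) (Step.B (nat_lit 7082) Step.done)))))))))))))))) (Scr.cons (nat_lit 0) (nat_lit 1) (Step.B (nat_lit 7082) (Step.F (nat_lit 7086) (Step.D (nat_lit 3093) Step.done))) (Scr.cons (nat_lit 1) (nat_lit 1) (Step.D (nat_lit 8449) (Step.B (nat_lit 7087) (Step.D (nat_lit 5518) Step.done))) (Scr.cons (nat_lit 0) (nat_lit 1) (Step.U (nat_lit 8613) (Step.F (nat_lit 7088) (Step.F (nat_lit 7081) Step.done))) (Scr.cons (nat_lit 1) (nat_lit 0) (Step.U (nat_lit 11413) (Step.B (nat_lit 7089) (Step.B (nat_lit 2685) Step.done))) (Scr.cons (nat_lit 0) (nat_lit 1) (Step.B (nat_lit 7080) (Step.B (nat_lit 7090) (Step.D (nat_lit 7317) Step.done))) (Scr.cons (nat_lit 1) (nat_lit 1) (Step.D (nat_lit 8661) (Step.B (nat_lit 7091) (Step.B (nat_lit 7077) Step.done))) (Scr.cons (nat_lit 1) (nat_lit 1) (Step.B (nat_lit 7077) (Step.F (nat_lit 7092) Step.done)) (Scr.cons (nat_lit 8) (nat_lit 0) (Step.U (nat_lit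 11435) (Step.U (nat_lit 8662) (Step.U (nat_lit 5565) (Step.B (nat_lit 7070) (Step.F (nat_lit 7093) (Step.U (nat_lit 7317) (Step.U (nat_lit 4403) (Step.U (nat_lit 2369) (Step.F (nat_lit 6251) (Step.B (nat_lit 2422) (Step.B (nat_lit 2421) (Step.U (nat_lit 2422) (Step.D (nat_lit 2423) (Step.B (nat_lit 4144) (Step.D (nat_lit 7446) (Step.B (nat_lit 7065) Step.done)))))))))))))))) (Scr.cons (nat_lit 1) (nat_lit 1) (Step.D (nat_lit 11435) (Step.B (nat_lit 7094) Step.done)) (Scr.cons (nat_lit 9) (nat_lit 0) (Step.B (nat_lit 4147) (Step.U (nat_lit 7445) (Step.D (nat_lit 7446) (Step.B (nat_lit 7065) (Step.F (nat_lit 7095) (Step.U (nat_lit 8662) (Step.U (nat_lit 5565) (Step.U (nat_lit 3135) (Step.U (nat_lit 1575) (Step.U (nat_lit 666) (Step.U (nat_lit 241) (Step.U (nat_lit 68) (Step.L (Step.L (Step.L (Step.L (Step.L (Step.L (Step.L (Step.L (Step.L (Step.B (nat_lit 7063) (Step.D (nat_lit 8667) (Step.B (nat_lit 7064) Step.done)))))))))))))))))))))))) (Scr.cons (nat_lit 0) (nat_lit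 1) (Step.B (nat_lit 7064) (Step.F (nat_lit 7096) (Step.D (nat_lit 10473) Step.done))) (Scr.cons (nat_lit 0) (nat_lit 1) (Step.D (nat_lit 10473) (Step.F (nat_lit 7097) Step.done)) (Scr.cons (nat_lit 6) (nat_lit 1) (Step.U (nat_lit 3139) (Step.L (Step.D (nat_lit 5568) (Step.D (nat_lit 8667) (Step.F (nat_lit 7098) (Step.U (nat_lit 7414) (Step.F (nat_lit 4148) (Step.U (nat_lit 2405) (Step.L (Step.D (nat_lit 4478) (Step.D (nat_lit 7411) (Step.D (nat_lit 10472) Step.done)))))))))))) (Scr.cons (nat_lit 1) (nat_lit 1) (Step.D (nat_lit 10472) (Step.F (nat_lit 7099) (Step.D (nat_lit 5567) Step.done))) (Scr.cons (nat_lit 0) (nat_lit 1) (Step.B (nat_lit 7062) (Step.B (nat_lit 7100) (Step.D (nat_lit 8665) Step.done))) (Scr.cons (nat_lit 0) (nat_lit 1) (Step.D (nat_lit 8665) (Step.F (nat_lit 7101) Step.done)) (Scr.cons (nat_lit 13) (nat_lit 3) (Step.L (Step.L (Step.L (Step.L (Step.L (Step.L (Step.L (Step.L (Step.L (Step.L (Step.D (nat_lit 8501) Step.done))))))))))) (Scr.cons (nat_lit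 8) (nat_lit 0) (Step.F (nat_lit 7061) (Step.U (nat_lit 10442) (Step.F (nat_lit 4084) (Step.F (nat_lit 7102) (Step.U (nat_lit 5567) (Step.U (nat_lit 3139) (Step.L (Step.L (Step.L (Step.L (Step.L (Step.L (Step.B (nat_lit 7103) (Step.U (nat_lit 8501) (Step.D (nat_lit 8502) (Step.B (nat_lit 7059) Step.done)))))))))))))))) (Scr.cons (nat_lit 0) (nat_lit 1) (Step.B (nat_lit 7059) (Step.F (nat_lit 7104) (Step.L Step.done))) (Scr.cons (nat_lit 1) (nat_lit 1) (Step.D (nat_lit 8502) (Step.B (nat_lit 7105) (Step.D (nat_lit 11182) Step.done))) (Scr.cons (nat_lit 1) (nat_lit 1) (Step.D (nat_lit 11182) (Step.F (nat_lit 7106) Step.done)) (Scr.cons (nat_lit 12) (nat_lit 1) (Step.L (Step.L (Step.L (Step.L (Step.D (nat_lit 7412) Step.done))))) (Scr.cons (nat_lit 12) (nat_lit 4) (Step.L (Step.L (Step.L (Step.L (Step.D (nat_lit 8388) Step.done))))) (Scr.cons (nat_lit 11) (nat_lit 0) (Step.L (Step.L (Step.L (Step.L (Step.D (nat_lit 5384) Step.done))))) (Scr.cons (nat_lit 13) (nat_lit 2) (Step.U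 (nat_lit 8445) (Step.L (Step.L (Step.L (Step.L (Step.L (Step.L (Step.L (Step.L (Step.B (nat_lit 7109) (Step.D (nat_lit 11280) Step.done))))))))))) (Scr.cons (nat_lit 9) (nat_lit 0) (Step.U (nat_lit 7379) (Step.D (nat_lit 7380) (Step.F (nat_lit 4084) (Step.F (nat_lit 7102) (Step.U (nat_lit 5567) (Step.U (nat_lit 3139) (Step.L (Step.L (Step.L (Step.L (Step.L (Step.L (Step.L (Step.L (Step.L (Step.L (Step.L (Step.L (Step.L (Step.B (nat_lit 7110) (Step.U (nat_lit 5384) (Step.L (Step.D (nat_lit 8445) (Step.B (nat_lit 7111) Step.done)))))))))))))))))))))))) (Scr.cons (nat_lit 1) (nat_lit 1) (Step.D (nat_lit 11280) (Step.F (nat_lit 7112) (Step.F (nat_lit 4085) Step.done))) (Scr.cons (nat_lit 0) (nat_lit 1) (Step.B (nat_lit 7109) (Step.B (nat_lit 7113) (Step.D (nat_lit 7412) Step.done))) (Scr.cons (nat_lit 0) (nat_lit 0) (Step.B (nat_lit 7108) (Step.F (nat_lit 7114) Step.done)) (Scr.cons (nat_lit 12) (nat_lit 1) (Step.U (nat_lit 9119) (Step.L (Step.L (Step.D (nat_lit 9119) (Step.D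 (nat_lit 11627) Step.done))))) (Scr.cons (nat_lit 12) (nat_lit 1) (Step.L (Step.L (Step.L (Step.L (Step.D (nat_lit 4099) Step.done))))) (Scr.cons (nat_lit 8) (nat_lit 1) (Step.U (nat_lit 4449) (Step.U (nat_lit 2396) (Step.U (nat_lit 1153) (Step.U (nat_lit 453) (Step.L (Step.L (Step.L (Step.L (Step.L (Step.L (Step.L (Step.L (Step.L (Step.B (nat_lit 7117) (Step.D (nat_lit 6960) Step.done))))))))))))))) (Scr.cons (nat_lit 12) (nat_lit 0) (Step.B (nat_lit 7118) (Step.U (nat_lit 6960) (Step.F (nat_lit 7117) (Step.D (nat_lit 4099) (Step.D (nat_lit 6960) Step.done))))) (Scr.cons (nat_lit 12) (nat_lit 4) (Step.U (nat_lit 7372) (Step.B (nat_lit 7118) (Step.F (nat_lit 7119) (Step.D (nat_lit 7372) (Step.D (nat_lit 10437) Step.done))))) (Scr.cons (nat_lit 11) (nat_lit 0) (Step.U (nat_lit 7374) (Step.U (nat_lit 4450) (Step.D (nat_lit 4449) (Step.D (nat_lit 7372) (Step.D (nat_lit 10438) Step.done))))) (Scr.cons (nat_lit 12) (nat_lit 4) (Step.L (Step.L (Step.L (Step.L (Step.D (nat_lit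 453) Step.done))))) Scr.nil))))))))))))))))))))))))))))))))))))))))
noncomputable def s178 : Scr := (Scr.cons (nat_lit 12) (nat_lit 4) (Step.U (nat_lit 1153) (Step.F (nat_lit 7122) (Step.D (nat_lit 453) (Step.D (nat_lit 1153) (Step.D (nat_lit 2396) Step.done))))) (Scr.cons (nat_lit 12) (nat_lit 1) (Step.U (nat_lit 4450) (Step.F (nat_lit 7123) (Step.D (nat_lit 2396) (Step.D (nat_lit 4450) (Step.D (nat_lit 7373) Step.done))))) (Scr.cons (nat_lit 13) (nat_lit 0) (Step.U (nat_lit 7379) (Step.L (Step.L (Step.L (Step.L (Step.D (nat_lit 453) (Step.D (nat_lit 1153) (Step.B (nat_lit 7123) (Step.D (nat_lit 4450) (Step.D (nat_lit 7373) (Step.D (nat_lit 10439) Step.done))))))))))) (Scr.cons (nat_lit 0) (nat_lit 1) (Step.B (nat_lit 7111) (Step.F (nat_lit 7112) (Step.B (nat_lit 7125) Step.done))) (Scr.cons (nat_lit 1) (nat_lit 0) (Step.D (nat_lit 10439) (Step.F (nat_lit 7126) (Step.D (nat_lit 11305) Step.done))) (Scr.cons (nat_lit 1) (nat_lit 0) (Step.D (nat_lit 11305) (Step.F (nat_lit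 7127) Step.done)) (Scr.cons (nat_lit 12) (nat_lit 1) (Step.L (Step.L (Step.L (Step.L (Step.D (nat_lit 10728) Step.done))))) (Scr.cons (nat_lit 1) (nat_lit 0) (Step.F (nat_lit 6624) (Step.B (nat_lit 6627) (Step.L Step.done))) (Scr.cons (nat_lit 0) (nat_lit 1) (Step.U (nat_lit 11441) (Step.B (nat_lit 7130) (Step.D (nat_lit 10728) Step.done))) (Scr.cons (nat_lit 1) (nat_lit 0) (Step.B (nat_lit 6623) (Step.B (nat_lit 7131) Step.done)) (Scr.cons (nat_lit 14) (nat_lit 3) (Step.F (nat_lit 7120) (Step.D (nat_lit 10438) (Step.F (nat_lit 7121) (Step.U (nat_lit 7374) (Step.B (nat_lit 7124) (Step.F (nat_lit 7128) (Step.U (nat_lit 8445) (Step.L (Step.D (nat_lit 5384) (Step.F (nat_lit 7110) (Step.L (Step.L (Step.L (Step.L (Step.L (Step.L (Step.L (Step.L (Step.B (nat_lit 7129) (Step.F (nat_lit 7132) (Step.D (nat_lit 11626) Step.done))))))))))))))))))))) (Scr.cons (nat_lit 1) (nat_lit 1) (Step.D (nat_lit 11626) (Step.F (nat_lit 7133) Step.done)) (Scr.cons (nat_lit 13) (nat_lit 3) (Step.L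 (Step.B (nat_lit 7117) (Step.D (nat_lit 6960) (Step.F (nat_lit 7119) (Step.D (nat_lit 7372) (Step.B (nat_lit 7120) (Step.F (nat_lit 7134) (Step.F (nat_lit 6622) (Step.L (Step.L (Step.D (nat_lit 9119) (Step.D (nat_lit 11627) Step.done)))))))))))) (Scr.cons (nat_lit 0) (nat_lit 1) (Step.B (nat_lit 7116) (Step.F (nat_lit 7135) (Step.L Step.done))) (Scr.cons (nat_lit 1) (nat_lit 1) (Step.D (nat_lit 9119) (Step.B (nat_lit 7136) (Step.D (nat_lit 10092) Step.done))) (Scr.cons (nat_lit 1) (nat_lit 1) (Step.D (nat_lit 10092) (Step.F (nat_lit 7137) Step.done)) (Scr.cons (nat_lit 12) (nat_lit 4) (Step.U (nat_lit 4550) (Step.F (nat_lit 339) (Step.D (nat_lit 2445) (Step.D (nat_lit 4550) (Step.D (nat_lit 7500) Step.done))))) (Scr.cons (nat_lit 12) (nat_lit 4) (Step.U (nat_lit 7501) (Step.D (nat_lit 7500) (Step.F (nat_lit 7139) (Step.D (nat_lit 7501) (Step.D (nat_lit 10549) Step.done))))) (Scr.cons (nat_lit 12) (nat_lit 4) (Step.U (nat_lit 7786) (Step.F (nat_lit 6698) (Step.D (nat_lit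 4802) (Step.D (nat_lit 7786) (Step.D (nat_lit 10800) Step.done))))) (Scr.cons (nat_lit 6) (nat_lit 1) (Step.U (nat_lit 159) (Step.L (Step.L (Step.L (Step.L (Step.L (Step.L (Step.L (Step.L (Step.L (Step.D (nat_lit 465) Step.done))))))))))) (Scr.cons (nat_lit 13) (nat_lit 2) (Step.U (nat_lit 159) (Step.L (Step.L (Step.L (Step.L (Step.L (Step.L (Step.L (Step.L (Step.L (Step.D (nat_lit 465) Step.done))))))))))) (Scr.cons (nat_lit 12) (nat_lit 1) (Step.U (nat_lit 467) (Step.B (nat_lit 7142) (Step.F (nat_lit 7143) (Step.D (nat_lit 467) (Step.D (nat_lit 1179) Step.done))))) (Scr.cons (nat_lit 12) (nat_lit 1) (Step.U (nat_lit 2449) (Step.F (nat_lit 7144) (Step.D (nat_lit 1179) (Step.D (nat_lit 2449) (Step.D (nat_lit 4555) Step.done))))) (Scr.cons (nat_lit 15) (nat_lit 0) (Step.U (nat_lit 7508) (Step.F (nat_lit 7145) (Step.U (nat_lit 2449) (Step.F (nat_lit 7144) (Step.U (nat_lit 467) (Step.B (nat_lit 7142) (Step.U (nat_lit 465) (Step.L (Step.L (Step.L (Step.L (Step.D (nat_lit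 2445) (Step.D (nat_lit 4550) (Step.D (nat_lit 7500) (Step.D (nat_lit 10548) Step.done))))))))))))))) (Scr.cons (nat_lit 12) (nat_lit 4) (Step.U (nat_lit 10548) (Step.F (nat_lit 7139) (Step.D (nat_lit 7500) (Step.D (nat_lit 10548) (Step.F (nat_lit 7146) Step.done))))) (Scr.cons (nat_lit 8) (nat_lit 1) (Step.U (nat_lit 2616) (Step.U (nat_lit 1271) (Step.L (Step.L (Step.L (Step.L (Step.L (Step.L (Step.L (Step.L (Step.L (Step.L (Step.L (Step.B (nat_lit 6697) (Step.D (nat_lit 4801) Step.done))))))))))))))) (Scr.cons (nat_lit 11) (nat_lit 0) (Step.U (nat_lit 5959) (Step.L (Step.L (Step.D (nat_lit 5958) (Step.D (nat_lit 9121) Step.done))))) (Scr.cons (nat_lit 12) (nat_lit 1) (Step.U (nat_lit 7410) (Step.L (Step.L (Step.D (nat_lit 7410) (Step.D (nat_lit 10471) Step.done))))) (Scr.cons (nat_lit 12) (nat_lit 1) (Step.U (nat_lit 5959) (Step.L (Step.L (Step.D (nat_lit 5959) (Step.D (nat_lit 9122) Step.done))))) (Scr.cons (nat_lit 12) (nat_lit 4) (Step.L (Step.L (Step.L (Step.L (Step.D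 (nat_lit 3139) Step.done))))) (Scr.cons (nat_lit 12) (nat_lit 4) (Step.U (nat_lit 5567) (Step.F (nat_lit 7152) (Step.D (nat_lit 3139) (Step.D (nat_lit 5567) (Step.D (nat_lit 8665) Step.done))))) (Scr.cons (nat_lit 0) (nat_lit 0) (Step.B (nat_lit 7153) (Step.F (nat_lit 7101) Step.done)) (Scr.cons (nat_lit 14) (nat_lit 3) (Step.F (nat_lit 7149) (Step.U (nat_lit 5959) (Step.L (Step.L (Step.L (Step.L (Step.L (Step.L (Step.L (Step.L (Step.L (Step.L (Step.L (Step.L (Step.L (Step.L (Step.L (Step.B (nat_lit 7152) (Step.D (nat_lit 5567) (Step.D (nat_lit 8666) Step.done)))))))))))))))))))) (Scr.cons (nat_lit 15) (nat_lit 0) (Step.L (Step.L (Step.L (Step.L (Step.L (Step.L (Step.L (Step.L (Step.L (Step.D (nat_lit 4478) (Step.F (nat_lit 7154) (Step.D (nat_lit 8666) (Step.F (nat_lit 7155) (Step.F (nat_lit 7149) (Step.D (nat_lit 9122) (Step.D (nat_lit 11628) Step.done)))))))))))))))) (Scr.cons (nat_lit 1) (nat_lit 0) (Step.D (nat_lit 11628) (Step.F (nat_lit 7156) (Step.D (nat_lit 7410)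 Step.done))) (Scr.cons (nat_lit 0) (nat_lit 1) (Step.B (nat_lit 7151) (Step.B (nat_lit 7157) (Step.D (nat_lit 10471) Step.done))) (Scr.cons (nat_lit 0) (nat_lit 0) (Step.B (nat_lit 7150) (Step.F (nat_lit 7158) Step.done)) (Scr.cons (nat_lit 11) (nat_lit 0) (Step.U (nat_lit 467) (Step.U (nat_lit 159) (Step.L (Step.D (nat_lit 466) (Step.D (nat_lit 1178) Step.done))))) (Scr.cons (nat_lit 12) (nat_lit 1) (Step.F (nat_lit 7160) (Step.D (nat_lit 1179) (Step.F (nat_lit 7144) (Step.B (nat_lit 7160) (Step.D (nat_lit 2448) Step.done))))) (Scr.cons (nat_lit 11) (nat_lit 0) (Step.U (nat_lit 4477) (Step.L (Step.D (nat_lit 2404) (Step.D (nat_lit 4476) (Step.D (nat_lit 7409) Step.done))))) Scr.nil))))))))))))))))))))))))))))))))))))))))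
noncomputable def s179 : Scr := (Scr.cons (nat_lit 16) (nat_lit 2) (Step.F (nat_lit 7162) (Step.U (nat_lit 4477) (Step.L (Step.L (Step.L (Step.L (Step.L (Step.L (Step.L (Step.L (Step.L (Step.L (Step.L (Step.L (Step.L (Step.L (Step.L (Step.L (Step.L (Step.D (nat_lit 466) (Step.D (nat_lit 1178) (Step.D (nat_lit 2448) (Step.D (nat_lit 4554) Step.done))))))))))))))))))))))) (Scr.cons (nat_lit 13) (nat_lit 0) (Step.U (nat_lit 2404) (Step.L (Step.L (Step.L (Step.L (Step.L (Step.L (Step.L (Step.L (Step.L (Step.D (nat_lit 4472) Step.done))))))))))) (Scr.cons (nat_lit 6) (nat_lit 3) (Step.U (nat_lit 2404) (Step.L (Step.L (Step.L (Step.L (Step.L (Step.L (Step.L (Step.L (Step.L (Step.D (nat_lit 4472) Step.done))))))))))) (Scr.cons (nat_lit 12) (nat_lit 4) (Step.U (nat_lit 4476) (Step.B (nat_lit 7164) (Step.F (nat_lit 7165) (Step.D (nat_lit 4476) (Step.D (nat_lit 7408) Step.done))))) (Scr.cons (nat_lit 6) (nat_lit 3) (Step.U (nat_lit 7507) (Step.U (nat_lit 4555) (Step.U (nat_lit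 2449) (Step.F (nat_lit 7144) (Step.B (nat_lit 7160) (Step.B (nat_lit 7161) (Step.D (nat_lit 4554) (Step.F (nat_lit 7163) (Step.U (nat_lit 7409) (Step.B (nat_lit 7166) (Step.D (nat_lit 10470) Step.done))))))))))) (Scr.cons (nat_lit 16) (nat_lit 4) (Step.U (nat_lit 2617) (Step.D (nat_lit 2616) (Step.B (nat_lit 7148) (Step.U (nat_lit 4801) (Step.F (nat_lit 6697) (Step.L (Step.L (Step.L (Step.L (Step.L (Step.L (Step.D (nat_lit 5958) (Step.D (nat_lit 9121) (Step.F (nat_lit 7149) (Step.F (nat_lit 7159) (Step.U (nat_lit 7410) (Step.L (Step.L (Step.D (nat_lit 2404) (Step.D (nat_lit 4476) (Step.D (nat_lit 7408) (Step.D (nat_lit 10470) (Step.F (nat_lit 7167) (Step.D (nat_lit 10558) Step.done)))))))))))))))))))))))) (Scr.cons (nat_lit 1) (nat_lit 0) (Step.D (nat_lit 10558) (Step.F (nat_lit 7168) (Step.D (nat_lit 4807) Step.done))) (Scr.cons (nat_lit 11) (nat_lit 0) (Step.U (nat_lit 4807) (Step.U (nat_lit 2617) (Step.D (nat_lit 2616) (Step.D (nat_lit 4805) (Step.D (nat_lit 7792)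 Step.done))))) (Scr.cons (nat_lit 1) (nat_lit 0) (Step.D (nat_lit 7507) (Step.B (nat_lit 7169) (Step.B (nat_lit 7170) Step.done))) (Scr.cons (nat_lit 1) (nat_lit 0) (Step.D (nat_lit 7792) (Step.F (nat_lit 7171) (Step.D (nat_lit 7508) Step.done))) (Scr.cons (nat_lit 0) (nat_lit 1) (Step.B (nat_lit 7147) (Step.F (nat_lit 7172) (Step.D (nat_lit 7791) Step.done))) (Scr.cons (nat_lit 1) (nat_lit 0) (Step.D (nat_lit 10548) (Step.B (nat_lit 7173) (Step.D (nat_lit 10803) Step.done))) (Scr.cons (nat_lit 1) (nat_lit 0) (Step.D (nat_lit 10803) (Step.F (nat_lit 7174) Step.done)) (Scr.cons (nat_lit 13) (nat_lit 1) (Step.U (nat_lit 7501) (Step.D (nat_lit 7500) (Step.F (nat_lit 7175) (Step.U (nat_lit 7791) (Step.U (nat_lit 4805) (Step.B (nat_lit 7148) (Step.U (nat_lit 4801) (Step.U (nat_lit 2613) (Step.L (Step.D (nat_lit 4802) (Step.D (nat_lit 7786) (Step.B (nat_lit 7141) Step.done)))))))))))) (Scr.cons (nat_lit 0) (nat_lit 1) (Step.B (nat_lit 7141) (Step.F (nat_lit 7176) (Step.D (nat_lit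 10549) Step.done))) (Scr.cons (nat_lit 0) (nat_lit 0) (Step.B (nat_lit 7140) (Step.F (nat_lit 7177) Step.done)) (Scr.cons (nat_lit 11) (nat_lit 0) (Step.U (nat_lit 7503) (Step.U (nat_lit 4551) (Step.D (nat_lit 4550) (Step.D (nat_lit 7501) (Step.D (nat_lit 10550) Step.done))))) (Scr.cons (nat_lit 12) (nat_lit 1) (Step.U (nat_lit 4551) (Step.F (nat_lit 339) (Step.D (nat_lit 2445) (Step.D (nat_lit 4551) (Step.D (nat_lit 7502) Step.done))))) (Scr.cons (nat_lit 6) (nat_lit 3) (Step.L (Step.L (Step.L (Step.L (Step.L (Step.L (Step.L (Step.D (nat_lit 2445) (Step.D (nat_lit 4551) (Step.B (nat_lit 7180) (Step.D (nat_lit 10551) Step.done))))))))))) (Scr.cons (nat_lit 16) (nat_lit 4) (Step.L (Step.L (Step.L (Step.L (Step.L (Step.L (Step.L (Step.L (Step.L (Step.L (Step.L (Step.L (Step.L (Step.L (Step.L (Step.L (Step.L (Step.L (Step.L (Step.L (Step.D (nat_lit 4542) (Step.D (nat_lit 7487) (Step.D (nat_lit 10538) Step.done))))))))))))))))))))))) (Scr.cons (nat_lit 4) (nat_lit 0) (Step.L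 (Step.L (Step.B (nat_lit 7182) (Step.U (nat_lit 10538) (Step.D (nat_lit 10539) Step.done))))) (Scr.cons (nat_lit 16) (nat_lit 0) (Step.L (Step.L (Step.L (Step.L (Step.L (Step.L (Step.L (Step.L (Step.L (Step.D (nat_lit 4800) (Step.F (nat_lit 6696) (Step.D (nat_lit 4802) (Step.D (nat_lit 7786) (Step.F (nat_lit 7178) (Step.D (nat_lit 10550) (Step.F (nat_lit 7179) (Step.U (nat_lit 7503) (Step.D (nat_lit 7502) (Step.D (nat_lit 10551) (Step.F (nat_lit 7181) (Step.B (nat_lit 7183) (Step.U (nat_lit 10539) (Step.D (nat_lit 10538) Step.done))))))))))))))))))))))) (Scr.cons (nat_lit 15) (nat_lit 1) (Step.L (Step.L (Step.L (Step.L (Step.L (Step.L (Step.L (Step.D (nat_lit 4542) (Step.D (nat_lit 7487) (Step.D (nat_lit 10538) (Step.F (nat_lit 7184) (Step.L (Step.L (Step.L (Step.L Step.done))))))))))))))) (Scr.cons (nat_lit 12) (nat_lit 1) (Step.U (nat_lit 4813) (Step.L (Step.L (Step.D (nat_lit 4813) (Step.D (nat_lit 7801) Step.done))))) (Scr.cons (nat_lit 8) (nat_lit 1) (Step.U (nat_lit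 8243) (Step.L (Step.L (Step.L (Step.L (Step.L (Step.L (Step.L (Step.L (Step.L (Step.L (Step.L (Step.D (nat_lit 4813) (Step.B (nat_lit 7186) (Step.D (nat_lit 10809) Step.done))))))))))))))) (Scr.cons (nat_lit 12) (nat_lit 1) (Step.U (nat_lit 7401) (Step.L (Step.L (Step.D (nat_lit 7401) (Step.D (nat_lit 10465) Step.done))))) (Scr.cons (nat_lit 13) (nat_lit 0) (Step.U (nat_lit 4812) (Step.L (Step.L (Step.L (Step.L (Step.L (Step.L (Step.B (nat_lit 164) (Step.D (nat_lit 2617) (Step.D (nat_lit 4806) (Step.D (nat_lit 7793) Step.done))))))))))) (Scr.cons (nat_lit 12) (nat_lit 1) (Step.U (nat_lit 2617) (Step.F (nat_lit 164) (Step.D (nat_lit 1271) (Step.D (nat_lit 2617) (Step.D (nat_lit 4806) Step.done))))) (Scr.cons (nat_lit 6) (nat_lit 3) (Step.U (nat_lit 4812) (Step.L (Step.L (Step.L (Step.L (Step.L (Step.L (Step.D (nat_lit 1271) (Step.D (nat_lit 2617) (Step.B (nat_lit 7190) (Step.D (nat_lit 7793) Step.done))))))))))) (Scr.cons (nat_lit 12) (nat_lit 4) (Step.U (nat_lit 7800)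 (Step.B (nat_lit 7189) (Step.F (nat_lit 7191) (Step.D (nat_lit 7800) (Step.D (nat_lit 10808) Step.done))))) (Scr.cons (nat_lit 12) (nat_lit 4) (Step.U (nat_lit 4554) (Step.F (nat_lit 7161) (Step.D (nat_lit 2448) (Step.D (nat_lit 4554) (Step.F (nat_lit 7163) Step.done))))) (Scr.cons (nat_lit 13) (nat_lit 0) (Step.U (nat_lit 7507) (Step.F (nat_lit 7145) (Step.U (nat_lit 2449) (Step.U (nat_lit 1179) (Step.B (nat_lit 7160) (Step.D (nat_lit 2448) (Step.D (nat_lit 4554) (Step.B (nat_lit 7193) (Step.U (nat_lit 7409) (Step.D (nat_lit 7408) (Step.D (nat_lit 10470) Step.done))))))))))) (Scr.cons (nat_lit 0) (nat_lit 1) (Step.F (nat_lit 7194) (Step.B (nat_lit 7169) (Step.D (nat_lit 7794) Step.done))) (Scr.cons (nat_lit 1) (nat_lit 0) (Step.D (nat_lit 10470) (Step.B (nat_lit 7195) (Step.D (nat_lit 10804) Step.done))) (Scr.cons (nat_lit 1) (nat_lit 0) (Step.D (nat_lit 10804) (Step.F (nat_lit 7196) Step.done)) (Scr.cons (nat_lit 12) (nat_lit 1) (Step.U (nat_lit 4807) (Step.D (nat_lit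 4806) (Step.F (nat_lit 7190) (Step.D (nat_lit 4807) (Step.D (nat_lit 7794) Step.done))))) (Scr.cons (nat_lit 15) (nat_lit 1) (Step.U (nat_lit 7401) (Step.L (Step.L (Step.L (Step.D (nat_lit 4472) (Step.F (nat_lit 7165) (Step.D (nat_lit 4476) (Step.D (nat_lit 7408) (Step.F (nat_lit 7197) (Step.F (nat_lit 7198) (Step.U (nat_lit 4807) (Step.D (nat_lit 4806) (Step.D (nat_lit 7793) (Step.F (nat_lit 7191) (Step.D (nat_lit 7800) (Step.D (nat_lit 10808) Step.done)))))))))))))))) (Scr.cons (nat_lit 0) (nat_lit 1) (Step.B (nat_lit 7192) (Step.F (nat_lit 7199) (Step.D (nat_lit 10465) Step.done))) (Scr.cons (nat_lit 0) (nat_lit 0) (Step.B (nat_lit 7188) (Step.F (nat_lit 7200) Step.done)) (Scr.cons (nat_lit 16) (nat_lit 0) (Step.B (nat_lit 7187) (Step.U (nat_lit 10809) (Step.F (nat_lit 7186) (Step.U (nat_lit 4813) (Step.D (nat_lit 4812) (Step.D (nat_lit 7800) (Step.F (nat_lit 7201) (Step.U (nat_lit 7401) (Step.L (Step.L (Step.L (Step.L (Step.L (Step.L (Step.L (Step.L (Step.L (Step.L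 (Step.L (Step.L (Step.L (Step.L (Step.D (nat_lit 7464) (Step.D (nat_lit 10516) Step.done)))))))))))))))))))))))) Scr.nil))))))))))))))))))))))))))))))))))))))))
noncomputable def s180 : Scr := (Scr.cons (nat_lit 1) (nat_lit 0) (Step.D (nat_lit 10516) (Step.F (nat_lit 7202) (Step.U (nat_lit 8243) Step.done))) (Scr.cons (nat_lit 1) (nat_lit 0) (Step.D (nat_lit 7464) (Step.B (nat_lit 7203) (Step.D (nat_lit 8244) Step.done))) (Scr.cons (nat_lit 1) (nat_lit 0) (Step.D (nat_lit 8244) (Step.F (nat_lit 7204) Step.done)) (Scr.cons (nat_lit 11) (nat_lit 0) (Step.U (nat_lit 8785) (Step.L (Step.D (nat_lit 5680) (Step.D (nat_lit 8784) (Step.D (nat_lit 11492) Step.done))))) (Scr.cons (nat_lit 9) (nat_lit 5) (Step.L (Step.L (Step.L (Step.L (Step.L (Step.L (Step.L (Step.L (Step.L (Step.L (Step.L (Step.L (Step.L (Step.L (Step.L (Step.L (Step.L (Step.L (Step.L (Step.L (Step.L (Step.L (Step.D (nat_lit 9638) Step.done))))))))))))))))))))))) (Scr.cons (nat_lit 12) (nat_lit 0) (Step.B (nat_lit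 7207) (Step.U (nat_lit 9638) (Step.L (Step.L (Step.D (nat_lit 9638) Step.done))))) (Scr.cons (nat_lit 16) (nat_lit 1) (Step.F (nat_lit 7208) (Step.L (Step.L (Step.L (Step.L (Step.L (Step.L (Step.L (Step.L (Step.L (Step.L (Step.L (Step.L (Step.L (Step.L (Step.L (Step.L (Step.L (Step.L (Step.L (Step.L (Step.D (nat_lit 6741) (Step.D (nat_lit 9910) Step.done))))))))))))))))))))))) (Scr.cons (nat_lit 12) (nat_lit 1) (Step.U (nat_lit 4404) (Step.F (nat_lit 2462) (Step.D (nat_lit 2369) (Step.D (nat_lit 4404) (Step.D (nat_lit 7318) Step.done))))) (Scr.cons (nat_lit 11) (nat_lit 0) (Step.U (nat_lit 5593) (Step.U (nat_lit 3154) (Step.D (nat_lit 3153) (Step.D (nat_lit 5591) (Step.D (nat_lit 8684) Step.done))))) (Scr.cons (nat_lit 1) (nat_lit 1) (Step.B (nat_lit 2427) (Step.F (nat_lit 2437) (Step.D (nat_lit 5591) Step.done))) (Scr.cons (nat_lit 1) (nat_lit 1) (Step.U (nat_lit 8684) (Step.F (nat_lit 7212) (Step.U (nat_lit 4509) Step.done))) (Scr.cons (nat_lit 1) (nat_lit 1) (Step.B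 (nat_lit 7211) (Step.B (nat_lit 7213) (Step.F (nat_lit 2421) Step.done))) (Scr.cons (nat_lit 1) (nat_lit 0) (Step.D (nat_lit 5593) (Step.B (nat_lit 7214) Step.done)) (Scr.cons (nat_lit 12) (nat_lit 1) (Step.U (nat_lit 3154) (Step.F (nat_lit 2439) (Step.D (nat_lit 1584) (Step.D (nat_lit 3154) (Step.D (nat_lit 5592) Step.done))))) (Scr.cons (nat_lit 1) (nat_lit 0) (Step.B (nat_lit 2426) (Step.B (nat_lit 2438) (Step.D (nat_lit 3154) Step.done))) (Scr.cons (nat_lit 0) (nat_lit 1) (Step.B (nat_lit 2423) (Step.B (nat_lit 7217) (Step.D (nat_lit 5592) Step.done))) (Scr.cons (nat_lit 0) (nat_lit 0) (Step.B (nat_lit 7216) (Step.F (nat_lit 7218) Step.done)) (Scr.cons (nat_lit 13) (nat_lit 0) (Step.U (nat_lit 10390) (Step.F (nat_lit 7210) (Step.U (nat_lit 4404) (Step.U (nat_lit 2369) (Step.F (nat_lit 6251) (Step.D (nat_lit 2332) (Step.F (nat_lit 7215) (Step.B (nat_lit 7219) (Step.D (nat_lit 5864) (Step.D (nat_lit 9005) (Step.D (nat_lit 11583) Step.done))))))))))) (Scr.cons (nat_lit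 1) (nat_lit 1) (Step.D (nat_lit 5518) (Step.F (nat_lit 7088) Step.done)) (Scr.cons (nat_lit 12) (nat_lit 4) (Step.U (nat_lit 652) (Step.F (nat_lit 7066) (Step.D (nat_lit 234) (Step.D (nat_lit 652) (Step.D (nat_lit 1549) Step.done))))) (Scr.cons (nat_lit 13) (nat_lit 3) (Step.U (nat_lit 1549) (Step.U (nat_lit 652) (Step.F (nat_lit 7066) (Step.L (Step.L (Step.L (Step.L (Step.L (Step.L (Step.L (Step.D (nat_lit 3090) Step.done))))))))))) (Scr.cons (nat_lit 12) (nat_lit 1) (Step.L (Step.L (Step.L (Step.L (Step.D (nat_lit 5515) Step.done))))) (Scr.cons (nat_lit 12) (nat_lit 1) (Step.U (nat_lit 8606) (Step.F (nat_lit 7224) (Step.D (nat_lit 5515) (Step.D (nat_lit 8606) (Step.D (nat_lit 11404) Step.done))))) (Scr.cons (nat_lit 15) (nat_lit 1) (Step.F (nat_lit 7225) (Step.U (nat_lit 8606) (Step.F (nat_lit 7224) (Step.L (Step.L (Step.L (Step.L (Step.L (Step.L (Step.L (Step.L (Step.L (Step.L (Step.D (nat_lit 5680) (Step.D (nat_lit 8783) Step.done))))))))))))))) (Scr.cons (nat_lit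 9) (nat_lit 2) (Step.F (nat_lit 7220) (Step.U (nat_lit 10390) (Step.U (nat_lit 7318) (Step.F (nat_lit 2684) (Step.U (nat_lit 2992) (Step.D (nat_lit 2993) (Step.B (nat_lit 7081) (Step.F (nat_lit 7221) (Step.U (nat_lit 3093) (Step.B (nat_lit 7083) (Step.U (nat_lit 3091) (Step.U (nat_lit 1550) (Step.B (nat_lit 7222) (Step.B (nat_lit 7223) (Step.U (nat_lit 3090) (Step.L (Step.L (Step.L (Step.B (nat_lit 7224) (Step.D (nat_lit 8606) (Step.B (nat_lit 7225) (Step.B (nat_lit 7226) (Step.D (nat_lit 11490) Step.done))))))))))))))))))))))) (Scr.cons (nat_lit 7) (nat_lit 5) (Step.U (nat_lit 8784) (Step.D (nat_lit 8783) (Step.D (nat_lit 11490) (Step.F (nat_lit 7227) (Step.U (nat_lit 11583) (Step.U (nat_lit 9005) (Step.B (nat_lit 2906) (Step.U (nat_lit 9004) (Step.D (nat_lit 9003) (Step.F (nat_lit 2959) (Step.U (nat_lit 6759) (Step.U (nat_lit 3941) (Step.U (nat_lit 2052) (Step.L (Step.L (Step.L (Step.L (Step.L (Step.L (Step.B (nat_lit 7208) (Step.B (nat_lit 7209) Step.done)))))))))))))))))))))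 (Scr.cons (nat_lit 1) (nat_lit 1) (Step.B (nat_lit 7209) (Step.F (nat_lit 7228) (Step.D (nat_lit 11492) Step.done))) (Scr.cons (nat_lit 1) (nat_lit 1) (Step.B (nat_lit 7206) (Step.F (nat_lit 7229) (Step.U (nat_lit 9638) Step.done))) (Scr.cons (nat_lit 1) (nat_lit 1) (Step.D (nat_lit 8785) (Step.B (nat_lit 7230) (Step.D (nat_lit 9637) Step.done))) (Scr.cons (nat_lit 1) (nat_lit 1) (Step.D (nat_lit 9637) (Step.F (nat_lit 7231) Step.done)) (Scr.cons (nat_lit 6) (nat_lit 3) (Step.L (Step.L (Step.L (Step.L (Step.L (Step.L (Step.L (Step.L (Step.L (Step.L (Step.D (nat_lit 11493) Step.done))))))))))) (Scr.cons (nat_lit 1) (nat_lit 1) (Step.B (nat_lit 2912) (Step.B (nat_lit 2955) (Step.D (nat_lit 9006) Step.done))) (Scr.cons (nat_lit 1) (nat_lit 1) (Step.D (nat_lit 9006) (Step.F (nat_lit 7234) Step.done)) (Scr.cons (nat_lit 7) (nat_lit 2) (Step.U (nat_lit 11493) (Step.L (Step.L (Step.D (nat_lit 9638) (Step.F (nat_lit 7208) (Step.L (Step.L (Step.L (Step.L (Step.L (Step.L (Step.L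 (Step.D (nat_lit 1946) (Step.D (nat_lit 3764) (Step.F (nat_lit 7235) (Step.U (nat_lit 5865) (Step.L (Step.L (Step.L (Step.L (Step.L Step.done))))))))))))))))))))) (Scr.cons (nat_lit 0) (nat_lit 0) (Step.B (nat_lit 7233) (Step.B (nat_lit 7236) Step.done)) (Scr.cons (nat_lit 12) (nat_lit 4) (Step.U (nat_lit 5682) (Step.L (Step.L (Step.D (nat_lit 5682) (Step.D (nat_lit 8786) Step.done))))) (Scr.cons (nat_lit 4) (nat_lit 0) (Step.U (nat_lit 9194) (Step.L (Step.L (Step.L (Step.L (Step.D (nat_lit 11494) Step.done)))))) (Scr.cons (nat_lit 1) (nat_lit 0) (Step.D (nat_lit 11494) (Step.F (nat_lit 7239) Step.done)) (Scr.cons (nat_lit 14) (nat_lit 5) (Step.L (Step.L (Step.L (Step.L (Step.L (Step.L (Step.D (nat_lit 9194) (Step.F (nat_lit 7240) (Step.L (Step.L (Step.L (Step.L (Step.L (Step.L (Step.L (Step.L (Step.L (Step.L (Step.D (nat_lit 5682) (Step.D (nat_lit 8786) (Step.D (nat_lit 11495) Step.done))))))))))))))))))))) (Scr.cons (nat_lit 1) (nat_lit 0) (Step.D (nat_lit 11495) (Step.F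 (nat_lit 7241) (Step.L Step.done))) Scr.nil))))))))))))))))))))))))))))))))))))))))
noncomputable def s181 : Scr := (Scr.cons (nat_lit 0) (nat_lit 1) (Step.B (nat_lit 7238) (Step.B (nat_lit 7242) (Step.L Step.done))) (Scr.cons (nat_lit 1) (nat_lit 0) (Step.D (nat_lit 5682) (Step.B (nat_lit 7243) (Step.D (nat_lit 3443) Step.done))) (Scr.cons (nat_lit 1) (nat_lit 0) (Step.D (nat_lit 3443) (Step.F (nat_lit 7244) Step.done)) (Scr.cons (nat_lit 1) (nat_lit 1) (Step.D (nat_lit 11492) (Step.F (nat_lit 7229) Step.done)) (Scr.cons (nat_lit 7) (nat_lit 5) (Step.L (Step.L (Step.L (Step.L (Step.L (Step.L (Step.L (Step.B (nat_lit 7207) (Step.F (nat_lit 7246) (Step.U (nat_lit 8784) (Step.U (nat_lit 5680) (Step.L (Step.L (Step.L (Step.L (Step.L (Step.L (Step.L (Step.L (Step.L Step.done)))))))))))))))))))) (Scr.cons (nat_lit 12) (nat_lit 1) (Step.L (Step.L (Step.L (Step.L (Step.D (nat_lit 9129) Step.done))))) (Scr.cons (nat_lit 12) (nat_lit 1) (Step.L (Step.D (nat_lit 9129) (Step.F (nat_lit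 7248) (Step.L (Step.L Step.done))))) (Scr.cons (nat_lit 12) (nat_lit 1) (Step.U (nat_lit 5448) (Step.L (Step.L (Step.D (nat_lit 5448) (Step.D (nat_lit 8532) Step.done))))) (Scr.cons (nat_lit 12) (nat_lit 1) (Step.U (nat_lit 8533) (Step.D (nat_lit 8532) (Step.F (nat_lit 7250) (Step.D (nat_lit 8533) (Step.D (nat_lit 11362) Step.done))))) (Scr.cons (nat_lit 11) (nat_lit 0) (Step.U (nat_lit 7456) (Step.L (Step.D (nat_lit 4514) (Step.D (nat_lit 7455) (Step.D (nat_lit 10509) Step.done))))) (Scr.cons (nat_lit 12) (nat_lit 4) (Step.L (Step.D (nat_lit 233) (Step.F (nat_lit 5147) (Step.L (Step.D (nat_lit 649) Step.done))))) (Scr.cons (nat_lit 12) (nat_lit 4) (Step.U (nat_lit 1543) (Step.F (nat_lit 7253) (Step.D (nat_lit 649) (Step.D (nat_lit 1543) (Step.D (nat_lit 3082) Step.done))))) (Scr.cons (nat_lit 12) (nat_lit 1) (Step.U (nat_lit 5506) (Step.F (nat_lit 7254) (Step.D (nat_lit 3082) (Step.D (nat_lit 5506) (Step.D (nat_lit 8593) Step.done))))) (Scr.cons (nat_lit 12) (nat_lit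 4) (Step.U (nat_lit 3377) (Step.L (Step.L (Step.D (nat_lit 3377) (Step.D (nat_lit 5975) Step.done))))) (Scr.cons (nat_lit 0) (nat_lit 1) (Step.D (nat_lit 9138) (Step.F (nat_lit 3780) Step.done)) (Scr.cons (nat_lit 6) (nat_lit 1) (Step.U (nat_lit 8725) (Step.F (nat_lit 3777) (Step.D (nat_lit 5629) (Step.F (nat_lit 7257) (Step.L (Step.L (Step.L (Step.L (Step.D (nat_lit 3377) (Step.D (nat_lit 5975) (Step.D (nat_lit 9136) Step.done))))))))))) (Scr.cons (nat_lit 5) (nat_lit 5) (Step.U (nat_lit 9136) (Step.U (nat_lit 5975) (Step.B (nat_lit 7256) (Step.D (nat_lit 9136) (Step.F (nat_lit 7258) Step.done))))) (Scr.cons (nat_lit 8) (nat_lit 0) (Step.U (nat_lit 5505) (Step.U (nat_lit 3082) (Step.U (nat_lit 1543) (Step.U (nat_lit 649) (Step.L (Step.B (nat_lit 5147) (Step.B (nat_lit 5146) (Step.U (nat_lit 640) (Step.L (Step.L (Step.L (Step.L (Step.L (Step.B (nat_lit 3777) (Step.D (nat_lit 8725) (Step.F (nat_lit 7259) Step.done)))))))))))))))) (Scr.cons (nat_lit 1) (nat_lit 1) (Step.D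 (nat_lit 9136) (Step.F (nat_lit 7260) (Step.D (nat_lit 8592) Step.done))) (Scr.cons (nat_lit 1) (nat_lit 1) (Step.D (nat_lit 8592) (Step.F (nat_lit 7261) Step.done)) (Scr.cons (nat_lit 11) (nat_lit 0) (Step.L (Step.L (Step.D (nat_lit 3377) (Step.D (nat_lit 5976) (Step.D (nat_lit 9137) Step.done))))) (Scr.cons (nat_lit 12) (nat_lit 1) (Step.F (nat_lit 7263) (Step.L (Step.L (Step.B (nat_lit 7263) (Step.D (nat_lit 11631) Step.done))))) (Scr.cons (nat_lit 11) (nat_lit 0) (Step.U (nat_lit 3387) (Step.U (nat_lit 1710) (Step.D (nat_lit 1709) (Step.D (nat_lit 3385) (Step.D (nat_lit 5989) Step.done))))) (Scr.cons (nat_lit 12) (nat_lit 1) (Step.L (Step.D (nat_lit 266) (Step.F (nat_lit 3831) (Step.L (Step.D (nat_lit 744) Step.done))))) (Scr.cons (nat_lit 12) (nat_lit 1) (Step.U (nat_lit 1710) (Step.F (nat_lit 7266) (Step.D (nat_lit 744) (Step.D (nat_lit 1710) (Step.D (nat_lit 3386) Step.done))))) (Scr.cons (nat_lit 12) (nat_lit 1) (Step.U (nat_lit 3387) (Step.D (nat_lit 3386) (Step.F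 (nat_lit 7267) (Step.D (nat_lit 3387) (Step.D (nat_lit 5990) Step.done))))) (Scr.cons (nat_lit 12) (nat_lit 1) (Step.F (nat_lit 7265) (Step.D (nat_lit 5990) (Step.F (nat_lit 7268) (Step.B (nat_lit 7265) (Step.D (nat_lit 9150) Step.done))))) (Scr.cons (nat_lit 7) (nat_lit 5) (Step.F (nat_lit 7264) (Step.U (nat_lit 9137) (Step.U (nat_lit 5976) (Step.U (nat_lit 3377) (Step.L (Step.L (Step.L (Step.L (Step.L (Step.L (Step.L (Step.L (Step.L (Step.L (Step.D (nat_lit 744) (Step.D (nat_lit 1710) (Step.D (nat_lit 3387) (Step.B (nat_lit 7265) (Step.B (nat_lit 7269) (Step.D (nat_lit 11633) Step.done)))))))))))))))))))) (Scr.cons (nat_lit 1) (nat_lit 1) (Step.D (nat_lit 10468) (Step.B (nat_lit 3877) Step.done)) (Scr.cons (nat_lit 11) (nat_lit 0) (Step.U (nat_lit 4474) (Step.U (nat_lit 2403) (Step.L (Step.L (Step.D (nat_lit 7403) Step.done))))) (Scr.cons (nat_lit 12) (nat_lit 1) (Step.U (nat_lit 2403) (Step.L (Step.L (Step.D (nat_lit 2403) (Step.D (nat_lit 4473) Step.done))))) (Scr.cons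 (nat_lit 12) (nat_lit 1) (Step.U (nat_lit 4474) (Step.D (nat_lit 4473) (Step.F (nat_lit 7273) (Step.D (nat_lit 4474) (Step.D (nat_lit 7406) Step.done))))) (Scr.cons (nat_lit 12) (nat_lit 1) (Step.F (nat_lit 7272) (Step.D (nat_lit 7406) (Step.F (nat_lit 7274) (Step.B (nat_lit 7272) (Step.D (nat_lit 10466) Step.done))))) (Scr.cons (nat_lit 9) (nat_lit 4) (Step.U (nat_lit 9150) (Step.U (nat_lit 5989) (Step.U (nat_lit 3385) (Step.U (nat_lit 1709) (Step.U (nat_lit 744) (Step.L (Step.L (Step.L (Step.D (nat_lit 5988) (Step.F (nat_lit 3873) (Step.B (nat_lit 3875) (Step.F (nat_lit 4166) (Step.L (Step.F (nat_lit 7271) (Step.U (nat_lit 7407) (Step.U (nat_lit 4475) (Step.L (Step.L (Step.L (Step.D (nat_lit 2403) (Step.D (nat_lit 4474) (Step.B (nat_lit 7272) (Step.B (nat_lit 7275) Step.done))))))))))))))))))))))) (Scr.cons (nat_lit 14) (nat_lit 3) (Step.F (nat_lit 7255) (Step.U (nat_lit 5506) (Step.D (nat_lit 5505) (Step.B (nat_lit 7262) (Step.U (nat_lit 5975) (Step.D (nat_lit 5976)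 (Step.D (nat_lit 9137) (Step.D (nat_lit 11631) (Step.B (nat_lit 7270) (Step.U (nat_lit 11633) (Step.B (nat_lit 7276) (Step.U (nat_lit 10466) (Step.F (nat_lit 7272) (Step.U (nat_lit 4474) (Step.D (nat_lit 4473) (Step.F (nat_lit 5826) (Step.F (nat_lit 5828) (Step.D (nat_lit 5224) (Step.B (nat_lit 5699) (Step.D (nat_lit 7455) (Step.D (nat_lit 10509) Step.done))))))))))))))))))))) (Scr.cons (nat_lit 6) (nat_lit 0) (Step.U (nat_lit 8593) (Step.U (nat_lit 5506) (Step.F (nat_lit 7254) (Step.U (nat_lit 1543) (Step.U (nat_lit 649) (Step.L (Step.L (Step.L (Step.L (Step.B (nat_lit 5702) (Step.D (nat_lit 11362) Step.done))))))))))) (Scr.cons (nat_lit 1) (nat_lit 1) (Step.B (nat_lit 7252) (Step.F (nat_lit 7277) (Step.B (nat_lit 7278) Step.done))) (Scr.cons (nat_lit 0) (nat_lit 1) (Step.B (nat_lit 7251) (Step.F (nat_lit 7279) (Step.D (nat_lit 10510) Step.done))) (Scr.cons (nat_lit 0) (nat_lit 1) (Step.D (nat_lit 10510) (Step.F (nat_lit 7280) Step.done)) (Scr.cons (nat_lit 1) (nat_lit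 1) (Step.B (nat_lit 7278) (Step.F (nat_lit 7279) Step.done)) Scr.nil))))))))))))))))))))))))))))))))))))))))
noncomputable def s182 : Scr := (Scr.cons (nat_lit 1) (nat_lit 0) (Step.D (nat_lit 10509) (Step.F (nat_lit 7277) (Step.D (nat_lit 11393) Step.done))) (Scr.cons (nat_lit 1) (nat_lit 0) (Step.D (nat_lit 11393) (Step.F (nat_lit 7283) Step.done)) (Scr.cons (nat_lit 9) (nat_lit 2) (Step.L (Step.L (Step.D (nat_lit 5227) (Step.B (nat_lit 5819) (Step.B (nat_lit 5821) (Step.U (nat_lit 8536) (Step.B (nat_lit 5704) (Step.U (nat_lit 8532) (Step.D (nat_lit 8533) (Step.F (nat_lit 7281) (Step.F (nat_lit 7282) (Step.B (nat_lit 7284) (Step.U (nat_lit 7455) (Step.F (nat_lit 5697) (Step.U (nat_lit 5224) (Step.L (Step.L (Step.L (Step.L (Step.L (Step.L (Step.L (Step.L (Step.D (nat_lit 11211) Step.done)))))))))))))))))))))))) (Scr.cons (nat_lit 1) (nat_lit 1) (Step.D (nat_lit 11211) (Step.F (nat_lit 7285) (Step.D (nat_lit 11210) Step.done))) (Scr.cons (nat_lit 1) (nat_lit 1) (Step.D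 (nat_lit 11210) (Step.F (nat_lit 7286) Step.done)) (Scr.cons (nat_lit 12) (nat_lit 1) (Step.L (Step.L (Step.L (Step.L (Step.D (nat_lit 5250) Step.done))))) (Scr.cons (nat_lit 12) (nat_lit 1) (Step.L (Step.D (nat_lit 5250) (Step.F (nat_lit 7288) (Step.L (Step.D (nat_lit 8292) Step.done))))) (Scr.cons (nat_lit 0) (nat_lit 0) (Step.B (nat_lit 7289) (Step.F (nat_lit 6585) Step.done)) (Scr.cons (nat_lit 4) (nat_lit 0) (Step.U (nat_lit 2899) (Step.U (nat_lit 1430) (Step.L (Step.L (Step.D (nat_lit 5227) Step.done))))) (Scr.cons (nat_lit 4) (nat_lit 0) (Step.U (nat_lit 10430) (Step.B (nat_lit 6577) (Step.U (nat_lit 8285) (Step.D (nat_lit 8286) (Step.D (nat_lit 11228) Step.done))))) (Scr.cons (nat_lit 7) (nat_lit 4) (Step.U (nat_lit 5179) (Step.L (Step.L (Step.L (Step.L (Step.L (Step.L (Step.L (Step.L (Step.L (Step.L (Step.L (Step.L (Step.L (Step.D (nat_lit 5227) (Step.F (nat_lit 7291) (Step.D (nat_lit 5247) (Step.D (nat_lit 8286) (Step.D (nat_lit 11228) (Step.F (nat_lit 7292)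 (Step.B (nat_lit 6588) Step.done))))))))))))))))))))) (Scr.cons (nat_lit 1) (nat_lit 1) (Step.D (nat_lit 11603) (Step.F (nat_lit 7293) (Step.D (nat_lit 8194) Step.done))) (Scr.cons (nat_lit 1) (nat_lit 1) (Step.B (nat_lit 6583) (Step.F (nat_lit 6584) Step.done)) (Scr.cons (nat_lit 1) (nat_lit 1) (Step.D (nat_lit 9053) (Step.B (nat_lit 7294) (Step.B (nat_lit 7295) Step.done))) (Scr.cons (nat_lit 0) (nat_lit 1) (Step.B (nat_lit 6564) (Step.B (nat_lit 7296) (Step.B (nat_lit 6586) Step.done))) (Scr.cons (nat_lit 0) (nat_lit 0) (Step.B (nat_lit 7290) (Step.F (nat_lit 7297) Step.done)) (Scr.cons (nat_lit 1) (nat_lit 1) (Step.D (nat_lit 5896) (Step.F (nat_lit 7297) (Step.D (nat_lit 5895) Step.done))) (Scr.cons (nat_lit 1) (nat_lit 1) (Step.D (nat_lit 5895) (Step.F (nat_lit 7299) Step.done)) (Scr.cons (nat_lit 11) (nat_lit 0) (Step.U (nat_lit 3332) (Step.L (Step.L (Step.D (nat_lit 3331) (Step.D (nat_lit 5899) Step.done))))) (Scr.cons (nat_lit 12) (nat_lit 1) (Step.U (nat_lit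 3332) (Step.L (Step.L (Step.D (nat_lit 3332) (Step.D (nat_lit 5900) Step.done))))) (Scr.cons (nat_lit 12) (nat_lit 1) (Step.F (nat_lit 7301) (Step.D (nat_lit 5900) (Step.F (nat_lit 7302) (Step.B (nat_lit 7301) (Step.D (nat_lit 9059) Step.done))))) (Scr.cons (nat_lit 12) (nat_lit 1) (Step.F (nat_lit 6587) (Step.F (nat_lit 7290) (Step.B (nat_lit 6586) (Step.B (nat_lit 6587) (Step.D (nat_lit 11604) Step.done))))) (Scr.cons (nat_lit 14) (nat_lit 2) (Step.F (nat_lit 7304) (Step.F (nat_lit 6587) (Step.U (nat_lit 5896) (Step.L (Step.L (Step.L (Step.L (Step.L (Step.L (Step.L (Step.L (Step.L (Step.L (Step.L (Step.L (Step.L (Step.D (nat_lit 3331) (Step.D (nat_lit 5899) (Step.B (nat_lit 7303) (Step.D (nat_lit 11605) Step.done)))))))))))))))))))) (Scr.cons (nat_lit 1) (nat_lit 0) (Step.F (nat_lit 6587) (Step.F (nat_lit 7297) (Step.L Step.done))) (Scr.cons (nat_lit 0) (nat_lit 1) (Step.U (nat_lit 11604) (Step.B (nat_lit 7306) (Step.L Step.done))) (Scr.cons (nat_lit 1) (nat_lit 0)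 (Step.F (nat_lit 7305) (Step.B (nat_lit 7307) (Step.B (nat_lit 6559) Step.done))) (Scr.cons (nat_lit 1) (nat_lit 0) (Step.D (nat_lit 11605) (Step.B (nat_lit 7308) (Step.U (nat_lit 1675) Step.done))) (Scr.cons (nat_lit 0) (nat_lit 1) (Step.B (nat_lit 7303) (Step.B (nat_lit 7309) (Step.L Step.done))) (Scr.cons (nat_lit 1) (nat_lit 1) (Step.B (nat_lit 7301) (Step.B (nat_lit 7310) (Step.L Step.done))) (Scr.cons (nat_lit 1) (nat_lit 1) (Step.D (nat_lit 3332) (Step.B (nat_lit 7311) (Step.D (nat_lit 5892) Step.done))) (Scr.cons (nat_lit 1) (nat_lit 1) (Step.D (nat_lit 5892) (Step.F (nat_lit 7312) Step.done)) (Scr.cons (nat_lit 12) (nat_lit 1) (Step.U (nat_lit 7347) (Step.L (Step.L (Step.D (nat_lit 7347) (Step.D (nat_lit 10416) Step.done))))) (Scr.cons (nat_lit 0) (nat_lit 1) (Step.F (nat_lit 861) (Step.F (nat_lit 862) Step.done)) (Scr.cons (nat_lit 1) (nat_lit 1) (Step.U (nat_lit 8442) (Step.B (nat_lit 6985) (Step.D (nat_lit 5196) Step.done))) (Scr.cons (nat_lit 0) (nat_lit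 1) (Step.F (nat_lit 7315) (Step.B (nat_lit 7316) (Step.D (nat_lit 8215) Step.done))) (Scr.cons (nat_lit 0) (nat_lit 1) (Step.D (nat_lit 8215) (Step.F (nat_lit 7317) Step.done)) (Scr.cons (nat_lit 0) (nat_lit 1) (Step.B (nat_lit 6910) (Step.F (nat_lit 6973) Step.done)) (Scr.cons (nat_lit 12) (nat_lit 1) (Step.F (nat_lit 6924) (Step.D (nat_lit 3037) (Step.F (nat_lit 6909) (Step.B (nat_lit 6924) (Step.D (nat_lit 5460) Step.done))))) (Scr.cons (nat_lit 12) (nat_lit 1) (Step.U (nat_lit 8547) (Step.F (nat_lit 7320) (Step.D (nat_lit 5460) (Step.D (nat_lit 8547) (Step.D (nat_lit 11371) Step.done))))) (Scr.cons (nat_lit 8) (nat_lit 0) (Step.U (nat_lit 10404) (Step.U (nat_lit 7333) (Step.B (nat_lit 854) (Step.F (nat_lit 7318) (Step.U (nat_lit 5196) (Step.B (nat_lit 6987) (Step.B (nat_lit 859) (Step.F (nat_lit 6862) (Step.B (nat_lit 6971) (Step.F (nat_lit 7319) (Step.U (nat_lit 5461) (Step.U (nat_lit 3037) (Step.B (nat_lit 6924) (Step.B (nat_lit 7320) (Step.D (nat_lit 8547) (Step.B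 (nat_lit 7321) Step.done)))))))))))))))) Scr.nil))))))))))))))))))))))))))))))))))))))))
noncomputable def s183 : Scr := (Scr.cons (nat_lit 0) (nat_lit 1) (Step.D (nat_lit 11371) (Step.F (nat_lit 7322) Step.done)) (Scr.cons (nat_lit 13) (nat_lit 2) (Step.F (nat_lit 7314) (Step.U (nat_lit 7347) (Step.L (Step.L (Step.L (Step.F (nat_lit 3881) (Step.U (nat_lit 4414) (Step.D (nat_lit 4415) (Step.D (nat_lit 7333) (Step.D (nat_lit 10404) (Step.F (nat_lit 7323) (Step.D (nat_lit 11372) Step.done)))))))))))) (Scr.cons (nat_lit 1) (nat_lit 0) (Step.D (nat_lit 11372) (Step.F (nat_lit 7324) Step.done)) (Scr.cons (nat_lit 11) (nat_lit 0) (Step.U (nat_lit 1509) (Step.U (nat_lit 631) (Step.D (nat_lit 630) (Step.D (nat_lit 1508) (Step.D (nat_lit 3033) Step.done))))) (Scr.cons (nat_lit 12) (nat_lit 4) (Step.L (Step.L (Step.L (Step.L (Step.D (nat_lit 225) Step.done))))) (Scr.cons (nat_lit 6) (nat_lit 1) (Step.U (nat_lit 631) (Step.F (nat_lit 7327) (Step.L (Step.L (Step.L (Step.L (Step.L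 (Step.L (Step.L (Step.D (nat_lit 622) (Step.D (nat_lit 1487) Step.done))))))))))) (Scr.cons (nat_lit 13) (nat_lit 2) (Step.U (nat_lit 631) (Step.U (nat_lit 225) (Step.L (Step.L (Step.L (Step.L (Step.L (Step.L (Step.L (Step.B (nat_lit 50) (Step.D (nat_lit 1487) Step.done))))))))))) (Scr.cons (nat_lit 12) (nat_lit 1) (Step.U (nat_lit 1509) (Step.B (nat_lit 7328) (Step.F (nat_lit 7329) (Step.D (nat_lit 1509) (Step.D (nat_lit 3034) Step.done))))) (Scr.cons (nat_lit 12) (nat_lit 1) (Step.F (nat_lit 7326) (Step.D (nat_lit 3034) (Step.F (nat_lit 7330) (Step.B (nat_lit 7326) (Step.D (nat_lit 5459) Step.done))))) (Scr.cons (nat_lit 14) (nat_lit 3) (Step.B (nat_lit 5816) (Step.B (nat_lit 5815) (Step.U (nat_lit 10417) (Step.B (nat_lit 7314) (Step.F (nat_lit 7325) (Step.U (nat_lit 8547) (Step.F (nat_lit 7320) (Step.F (nat_lit 6924) (Step.U (nat_lit 1513) (Step.U (nat_lit 634) (Step.U (nat_lit 227) (Step.U (nat_lit 62) (Step.L (Step.D (nat_lit 225) (Step.D (nat_lit 630) (Step.D (nat_lit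 1508) (Step.D (nat_lit 3033) (Step.B (nat_lit 7331) (Step.D (nat_lit 8545) (Step.D (nat_lit 11369) Step.done)))))))))))))))))))) (Scr.cons (nat_lit 12) (nat_lit 4) (Step.U (nat_lit 8291) (Step.F (nat_lit 7288) (Step.D (nat_lit 5250) (Step.D (nat_lit 8291) (Step.D (nat_lit 11230) Step.done))))) (Scr.cons (nat_lit 13) (nat_lit 1) (Step.F (nat_lit 7332) (Step.B (nat_lit 5816) (Step.U (nat_lit 8287) (Step.L (Step.L (Step.L (Step.L (Step.L (Step.D (nat_lit 5250) (Step.D (nat_lit 8291) (Step.B (nat_lit 7333) Step.done))))))))))) (Scr.cons (nat_lit 1) (nat_lit 1) (Step.U (nat_lit 9052) (Step.B (nat_lit 7296) (Step.L Step.done))) (Scr.cons (nat_lit 0) (nat_lit 1) (Step.B (nat_lit 6592) (Step.B (nat_lit 7335) (Step.D (nat_lit 5250) Step.done))) (Scr.cons (nat_lit 1) (nat_lit 1) (Step.D (nat_lit 7384) (Step.B (nat_lit 7336) (Step.D (nat_lit 8291) Step.done))) (Scr.cons (nat_lit 0) (nat_lit 1) (Step.U (nat_lit 11230) (Step.F (nat_lit 7337) (Step.F (nat_lit 6562) Step.done))) (Scr.cons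 (nat_lit 1) (nat_lit 0) (Step.B (nat_lit 7334) (Step.B (nat_lit 7338) (Step.L Step.done))) (Scr.cons (nat_lit 0) (nat_lit 1) (Step.B (nat_lit 7332) (Step.B (nat_lit 7339) (Step.L Step.done))) (Scr.cons (nat_lit 1) (nat_lit 1) (Step.F (nat_lit 5816) (Step.B (nat_lit 7340) (Step.L Step.done))) (Scr.cons (nat_lit 0) (nat_lit 1) (Step.B (nat_lit 5663) (Step.B (nat_lit 7341) (Step.D (nat_lit 7382) Step.done))) (Scr.cons (nat_lit 0) (nat_lit 0) (Step.B (nat_lit 1511) (Step.F (nat_lit 7342) Step.done)) (Scr.cons (nat_lit 1) (nat_lit 0) (Step.D (nat_lit 10415) (Step.B (nat_lit 7340) (Step.L Step.done))) (Scr.cons (nat_lit 1) (nat_lit 0) (Step.D (nat_lit 7346) (Step.B (nat_lit 7344) (Step.D (nat_lit 7383) Step.done))) (Scr.cons (nat_lit 1) (nat_lit 0) (Step.D (nat_lit 7383) (Step.F (nat_lit 7345) Step.done)) (Scr.cons (nat_lit 4) (nat_lit 0) (Step.F (nat_lit 7334) (Step.U (nat_lit 11369) (Step.U (nat_lit 8545) (Step.D (nat_lit 8546) (Step.D (nat_lit 11370) Step.done))))) (Scr.cons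 (nat_lit 1) (nat_lit 1) (Step.F (nat_lit 7347) (Step.B (nat_lit 7338) (Step.L Step.done))) (Scr.cons (nat_lit 1) (nat_lit 1) (Step.D (nat_lit 11370) (Step.B (nat_lit 7348) (Step.L Step.done))) (Scr.cons (nat_lit 1) (nat_lit 1) (Step.D (nat_lit 8546) (Step.B (nat_lit 7349) (Step.L Step.done))) (Scr.cons (nat_lit 0) (nat_lit 1) (Step.B (nat_lit 7331) (Step.B (nat_lit 7350) (Step.L Step.done))) (Scr.cons (nat_lit 1) (nat_lit 1) (Step.B (nat_lit 7326) (Step.B (nat_lit 7351) (Step.L Step.done))) (Scr.cons (nat_lit 1) (nat_lit 1) (Step.D (nat_lit 1509) (Step.B (nat_lit 7352) (Step.L Step.done))) (Scr.cons (nat_lit 1) (nat_lit 1) (Step.D (nat_lit 631) (Step.B (nat_lit 7353) (Step.L Step.done))) (Scr.cons (nat_lit 0) (nat_lit 1) (Step.B (nat_lit 7327) (Step.B (nat_lit 7354) (Step.D (nat_lit 453) Step.done))) (Scr.cons (nat_lit 0) (nat_lit 0) (Step.B (nat_lit 7122) (Step.F (nat_lit 7355) Step.done)) (Scr.cons (nat_lit 12) (nat_lit 1) (Step.L (Step.L (Step.L (Step.L (Step.D (nat_lit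 2686) Step.done))))) (Scr.cons (nat_lit 12) (nat_lit 1) (Step.L (Step.D (nat_lit 2686) (Step.F (nat_lit 7357) (Step.L (Step.D (nat_lit 4912) Step.done))))) (Scr.cons (nat_lit 12) (nat_lit 1) (Step.U (nat_lit 5457) (Step.F (nat_lit 440) (Step.D (nat_lit 3031) (Step.D (nat_lit 5457) (Step.D (nat_lit 8543) Step.done))))) (Scr.cons (nat_lit 15) (nat_lit 1) (Step.F (nat_lit 7359) (Step.U (nat_lit 5457) (Step.F (nat_lit 440) (Step.L (Step.L (Step.L (Step.L (Step.L (Step.L (Step.L (Step.D (nat_lit 225) (Step.D (nat_lit 630) (Step.D (nat_lit 1507) (Step.D (nat_lit 3032) (Step.D (nat_lit 5458) Step.done))))))))))))))) (Scr.cons (nat_lit 1) (nat_lit 0) (Step.D (nat_lit 3033) (Step.B (nat_lit 7351) (Step.L Step.done))) (Scr.cons (nat_lit 1) (nat_lit 0) (Step.D (nat_lit 1508) (Step.B (nat_lit 7361) (Step.L Step.done))) Scr.nil))))))))))))))))))))))))))))))))))))))))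
noncomputable def s184 : Scr := (Scr.cons (nat_lit 0) (nat_lit 1) (Step.U (nat_lit 1507) (Step.B (nat_lit 7362) (Step.L Step.done))) (Scr.cons (nat_lit 1) (nat_lit 1) (Step.U (nat_lit 3032) (Step.B (nat_lit 7363) (Step.D (nat_lit 2397) Step.done))) (Scr.cons (nat_lit 0) (nat_lit 1) (Step.U (nat_lit 5458) (Step.B (nat_lit 7364) (Step.D (nat_lit 4451) Step.done))) (Scr.cons (nat_lit 1) (nat_lit 1) (Step.B (nat_lit 4157) (Step.F (nat_lit 4154) (Step.D (nat_lit 7375) Step.done))) (Scr.cons (nat_lit 1) (nat_lit 1) (Step.D (nat_lit 7375) (Step.F (nat_lit 7366) Step.done)) (Scr.cons (nat_lit 1) (nat_lit 1) (Step.B (nat_lit 7360) (Step.B (nat_lit 7365) (Step.B (nat_lit 7367) Step.done))) (Scr.cons (nat_lit 0) (nat_lit 1) (Step.B (nat_lit 7359) (Step.B (nat_lit 7368) (Step.F (nat_lit 4158) Step.done))) (Scr.cons (nat_lit 1) (nat_lit 1) (Step.D (nat_lit 5457) (Step.B (nat_lit 7369) (Step.F (nat_lit 4159) Step.done))) (Scr.cons (nat_lit 0) (nat_lit 1) (Step.B (nat_lit 440) (Step.B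 (nat_lit 7370) (Step.D (nat_lit 4912) Step.done))) (Scr.cons (nat_lit 0) (nat_lit 0) (Step.B (nat_lit 7358) (Step.F (nat_lit 7371) Step.done)) (Scr.cons (nat_lit 11) (nat_lit 0) (Step.L (Step.L (Step.L (Step.D (nat_lit 5637) (Step.D (nat_lit 8733) Step.done))))) (Scr.cons (nat_lit 12) (nat_lit 1) (Step.F (nat_lit 7373) (Step.L (Step.L (Step.B (nat_lit 7373) (Step.D (nat_lit 11460) Step.done))))) (Scr.cons (nat_lit 12) (nat_lit 1) (Step.L (Step.L (Step.L (Step.L (Step.D (nat_lit 2524) Step.done))))) (Scr.cons (nat_lit 12) (nat_lit 1) (Step.L (Step.D (nat_lit 2524) (Step.F (nat_lit 7375) (Step.L (Step.D (nat_lit 4667) Step.done))))) (Scr.cons (nat_lit 12) (nat_lit 1) (Step.L (Step.D (nat_lit 4667) (Step.F (nat_lit 7376) (Step.L (Step.D (nat_lit 7625) Step.done))))) (Scr.cons (nat_lit 11) (nat_lit 0) (Step.L (Step.L (Step.L (Step.D (nat_lit 758) (Step.D (nat_lit 1730) Step.done))))) (Scr.cons (nat_lit 12) (nat_lit 1) (Step.F (nat_lit 7378) (Step.L (Step.L (Step.B (nat_lit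 7378) (Step.D (nat_lit 3414) Step.done))))) (Scr.cons (nat_lit 7) (nat_lit 5) (Step.F (nat_lit 7377) (Step.L (Step.L (Step.L (Step.L (Step.L (Step.L (Step.L (Step.L (Step.L (Step.L (Step.L (Step.L (Step.L (Step.L (Step.L (Step.L (Step.B (nat_lit 7378) (Step.B (nat_lit 7379) (Step.D (nat_lit 6026) Step.done)))))))))))))))))))) (Scr.cons (nat_lit 11) (nat_lit 0) (Step.U (nat_lit 1599) (Step.U (nat_lit 679) (Step.L (Step.L (Step.D (nat_lit 3174) Step.done))))) (Scr.cons (nat_lit 12) (nat_lit 1) (Step.U (nat_lit 679) (Step.L (Step.L (Step.D (nat_lit 679) (Step.D (nat_lit 1598) Step.done))))) (Scr.cons (nat_lit 12) (nat_lit 1) (Step.U (nat_lit 1599) (Step.D (nat_lit 1598) (Step.F (nat_lit 7382) (Step.D (nat_lit 1599) (Step.D (nat_lit 3176) Step.done))))) (Scr.cons (nat_lit 12) (nat_lit 1) (Step.F (nat_lit 7381) (Step.D (nat_lit 3176) (Step.F (nat_lit 7383) (Step.B (nat_lit 7381) (Step.D (nat_lit 5630) Step.done))))) (Scr.cons (nat_lit 12) (nat_lit 1) (Step.L (Step.L (Step.L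 (Step.L (Step.D (nat_lit 3367) Step.done))))) (Scr.cons (nat_lit 14) (nat_lit 6) (Step.U (nat_lit 3367) (Step.L (Step.L (Step.L (Step.L (Step.L (Step.L (Step.L (Step.L (Step.L (Step.L (Step.L (Step.L (Step.L (Step.L (Step.L (Step.D (nat_lit 639) (Step.D (nat_lit 1524) (Step.D (nat_lit 3054) (Step.D (nat_lit 5477) Step.done)))))))))))))))))))) (Scr.cons (nat_lit 12) (nat_lit 1) (Step.U (nat_lit 641) (Step.D (nat_lit 640) (Step.F (nat_lit 5168) (Step.D (nat_lit 641) (Step.D (nat_lit 1527) Step.done))))) (Scr.cons (nat_lit 12) (nat_lit 1) (Step.F (nat_lit 5145) (Step.D (nat_lit 1527) (Step.F (nat_lit 7387) (Step.B (nat_lit 5145) (Step.D (nat_lit 3055) Step.done))))) (Scr.cons (nat_lit 0) (nat_lit 1) (Step.D (nat_lit 760) (Step.B (nat_lit 1737) Step.done)) (Scr.cons (nat_lit 0) (nat_lit 1) (Step.B (nat_lit 2484) (Step.B (nat_lit 2525) (Step.L Step.done))) (Scr.cons (nat_lit 1) (nat_lit 0) (Step.F (nat_lit 1735) (Step.B (nat_lit 7390) (Step.L Step.done))) (Scr.cons (nat_lit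 1) (nat_lit 0) (Step.D (nat_lit 761) (Step.B (nat_lit 7391) (Step.L Step.done))) (Scr.cons (nat_lit 0) (nat_lit 1) (Step.F (nat_lit 7389) (Step.B (nat_lit 7392) (Step.L Step.done))) (Scr.cons (nat_lit 1) (nat_lit 0) (Step.D (nat_lit 683) (Step.B (nat_lit 7393) (Step.B (nat_lit 16) Step.done))) (Scr.cons (nat_lit 0) (nat_lit 1) (Step.U (nat_lit 1294) (Step.F (nat_lit 7394) (Step.L Step.done))) (Scr.cons (nat_lit 1) (nat_lit 0) (Step.U (nat_lit 2654) (Step.B (nat_lit 7395) (Step.L Step.done))) (Scr.cons (nat_lit 1) (nat_lit 0) (Step.U (nat_lit 4861) (Step.B (nat_lit 7396) (Step.L Step.done))) (Scr.cons (nat_lit 0) (nat_lit 1) (Step.U (nat_lit 7849) (Step.B (nat_lit 7397) (Step.L Step.done))) (Scr.cons (nat_lit 1) (nat_lit 1) (Step.F (nat_lit 5144) (Step.B (nat_lit 7398) (Step.L Step.done))) (Scr.cons (nat_lit 1) (nat_lit 1) (Step.D (nat_lit 8565) (Step.B (nat_lit 7399) (Step.L Step.done))) (Scr.cons (nat_lit 1) (nat_lit 1) (Step.D (nat_lit 5478) (Step.B (nat_lit 7400) (Step.L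 Step.done))) (Scr.cons (nat_lit 0) (nat_lit 1) (Step.B (nat_lit 7388) (Step.B (nat_lit 7401) (Step.L Step.done))) Scr.nil))))))))))))))))))))))))))))))))))))))))
noncomputable def s185 : Scr := (Scr.cons (nat_lit 1) (nat_lit 0) (Step.D (nat_lit 1525) (Step.B (nat_lit 7402) (Step.L Step.done))) (Scr.cons (nat_lit 0) (nat_lit 1) (Step.U (nat_lit 1524) (Step.B (nat_lit 7403) (Step.L Step.done))) (Scr.cons (nat_lit 1) (nat_lit 1) (Step.U (nat_lit 3054) (Step.B (nat_lit 7404) (Step.L Step.done))) (Scr.cons (nat_lit 1) (nat_lit 1) (Step.U (nat_lit 5477) (Step.B (nat_lit 7405) (Step.L Step.done))) (Scr.cons (nat_lit 1) (nat_lit 1) (Step.B (nat_lit 7386) (Step.B (nat_lit 7406) (Step.D (nat_lit 3174) Step.done))) (Scr.cons (nat_lit 0) (nat_lit 1) (Step.B (nat_lit 7385) (Step.B (nat_lit 7407) (Step.D (nat_lit 5630) Step.done))) (Scr.cons (nat_lit 0) (nat_lit 0) (Step.B (nat_lit 7384) (Step.F (nat_lit 7408) Step.done)) (Scr.cons (nat_lit 16) (nat_lit 4) (Step.L (Step.L (Step.L (Step.F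 (nat_lit 7409) (Step.F (nat_lit 7381) (Step.U (nat_lit 1599) (Step.U (nat_lit 679) (Step.L (Step.L (Step.L (Step.L (Step.L (Step.L (Step.L (Step.L (Step.L (Step.L (Step.L (Step.L (Step.L (Step.L (Step.L (Step.D (nat_lit 11461) Step.done))))))))))))))))))))))) (Scr.cons (nat_lit 4) (nat_lit 0) (Step.U (nat_lit 9124) (Step.L (Step.B (nat_lit 7410) (Step.U (nat_lit 11461) (Step.D (nat_lit 11462) Step.done))))) (Scr.cons (nat_lit 14) (nat_lit 3) (Step.U (nat_lit 10650) (Step.B (nat_lit 7380) (Step.U (nat_lit 6026) (Step.U (nat_lit 3414) (Step.F (nat_lit 7378) (Step.L (Step.L (Step.L (Step.L (Step.L (Step.L (Step.L (Step.L (Step.L (Step.D (nat_lit 9124) (Step.B (nat_lit 7411) (Step.U (nat_lit 11462) (Step.L (Step.D (nat_lit 8734) (Step.D (nat_lit 11463) Step.done)))))))))))))))))))) (Scr.cons (nat_lit 16) (nat_lit 2) (Step.F (nat_lit 7374) (Step.F (nat_lit 7373) (Step.L (Step.L (Step.L (Step.L (Step.L (Step.L (Step.D (nat_lit 8734) (Step.D (nat_lit 11463) (Step.F (nat_lit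 7412) (Step.U (nat_lit 10650) (Step.F (nat_lit 7377) (Step.L (Step.L (Step.L (Step.L (Step.L (Step.L (Step.L (Step.L (Step.L (Step.D (nat_lit 7670) (Step.D (nat_lit 10696) Step.done)))))))))))))))))))))))) (Scr.cons (nat_lit 0) (nat_lit 1) (Step.D (nat_lit 11460) (Step.B (nat_lit 7413) Step.done)) (Scr.cons (nat_lit 7) (nat_lit 2) (Step.U (nat_lit 8732) (Step.U (nat_lit 5637) (Step.L (Step.L (Step.L (Step.L (Step.L (Step.L (Step.L (Step.L (Step.L (Step.L (Step.L (Step.L (Step.L (Step.L (Step.L (Step.D (nat_lit 4912) (Step.D (nat_lit 7910) (Step.D (nat_lit 10899) Step.done)))))))))))))))))))) (Scr.cons (nat_lit 13) (nat_lit 0) (Step.L (Step.L (Step.L (Step.L (Step.L (Step.L (Step.D (nat_lit 7670) (Step.D (nat_lit 10696) (Step.F (nat_lit 7414) (Step.U (nat_lit 8733) (Step.D (nat_lit 8732) (Step.B (nat_lit 7415) Step.done)))))))))))) (Scr.cons (nat_lit 1) (nat_lit 1) (Step.D (nat_lit 10899) (Step.F (nat_lit 7416) (Step.D (nat_lit 7667) Step.done))) (Scr.cons (nat_lit 1)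 (nat_lit 1) (Step.D (nat_lit 7910) (Step.B (nat_lit 7417) (Step.D (nat_lit 10694) Step.done))) (Scr.cons (nat_lit 1) (nat_lit 1) (Step.D (nat_lit 10694) (Step.F (nat_lit 7418) Step.done)) (Scr.cons (nat_lit 1) (nat_lit 0) (Step.B (nat_lit 7419) (Step.F (nat_lit 7371) (Step.L Step.done))) (Scr.cons (nat_lit 1) (nat_lit 0) (Step.D (nat_lit 7667) (Step.B (nat_lit 7420) (Step.B (nat_lit 3993) Step.done))) (Scr.cons (nat_lit 1) (nat_lit 0) (Step.B (nat_lit 3993) (Step.F (nat_lit 7421) Step.done)) (Scr.cons (nat_lit 12) (nat_lit 4) (Step.U (nat_lit 8) (Step.L (Step.L (Step.D (nat_lit 8) (Step.D (nat_lit 57) Step.done))))) (Scr.cons (nat_lit 13) (nat_lit 0) (Step.U (nat_lit 602) (Step.L (Step.L (Step.L (Step.L (Step.L (Step.D (nat_lit 8) (Step.B (nat_lit 7423) (Step.D (nat_lit 215) (Step.D (nat_lit 597) (Step.D (nat_lit 1432) Step.done))))))))))) (Scr.cons (nat_lit 12) (nat_lit 1) (Step.U (nat_lit 215) (Step.F (nat_lit 7423) (Step.D (nat_lit 57) (Step.D (nat_lit 215) (Step.D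 (nat_lit 597) Step.done))))) (Scr.cons (nat_lit 6) (nat_lit 3) (Step.U (nat_lit 602) (Step.L (Step.L (Step.L (Step.L (Step.L (Step.D (nat_lit 8) (Step.D (nat_lit 57) (Step.D (nat_lit 215) (Step.B (nat_lit 7425) (Step.D (nat_lit 1432) Step.done))))))))))) (Scr.cons (nat_lit 12) (nat_lit 4) (Step.U (nat_lit 1439) (Step.B (nat_lit 7424) (Step.F (nat_lit 7426) (Step.D (nat_lit 1439) (Step.D (nat_lit 2914) Step.done))))) (Scr.cons (nat_lit 12) (nat_lit 4) (Step.U (nat_lit 5265) (Step.F (nat_lit 7427) (Step.D (nat_lit 2914) (Step.D (nat_lit 5265) (Step.D (nat_lit 8304) Step.done))))) (Scr.cons (nat_lit 12) (nat_lit 4) (Step.L (Step.L (Step.L (Step.L (Step.D (nat_lit 169) Step.done))))) (Scr.cons (nat_lit 12) (nat_lit 1) (Step.U (nat_lit 495) (Step.F (nat_lit 7429) (Step.D (nat_lit 169) (Step.D (nat_lit 495) (Step.D (nat_lit 1237) Step.done))))) (Scr.cons (nat_lit 12) (nat_lit 1) (Step.U (nat_lit 1238) (Step.D (nat_lit 1237) (Step.F (nat_lit 7430) (Step.D (nat_lit 1238) (Step.D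 (nat_lit 2549) Step.done))))) (Scr.cons (nat_lit 12) (nat_lit 1) (Step.U (nat_lit 4693) (Step.F (nat_lit 7431) (Step.D (nat_lit 2549) (Step.D (nat_lit 4693) (Step.D (nat_lit 7663) Step.done))))) (Scr.cons (nat_lit 12) (nat_lit 1) (Step.U (nat_lit 1224) (Step.L (Step.L (Step.D (nat_lit 1224) (Step.D (nat_lit 2531) Step.done))))) (Scr.cons (nat_lit 15) (nat_lit 1) (Step.F (nat_lit 7433) (Step.U (nat_lit 1224) (Step.L (Step.L (Step.L (Step.L (Step.L (Step.L (Step.L (Step.L (Step.L (Step.L (Step.D (nat_lit 169) (Step.D (nat_lit 494) (Step.D (nat_lit 1235) Step.done))))))))))))))) (Scr.cons (nat_lit 9) (nat_lit 1) (Step.U (nat_lit 10479) (Step.U (nat_lit 7422) (Step.U (nat_lit 4487) (Step.U (nat_lit 2413) (Step.L (Step.L (Step.L (Step.B (nat_lit 2600) (Step.F (nat_lit 2611) (Step.U (nat_lit 4676) (Step.U (nat_lit 2530) (Step.L (Step.D (nat_lit 1224) (Step.B (nat_lit 7433) (Step.B (nat_lit 7434) (Step.U (nat_lit 1235) (Step.U (nat_lit 494) (Step.D (nat_lit 495) (Step.D (nat_lit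 1238) (Step.B (nat_lit 7431) (Step.D (nat_lit 4693) (Step.B (nat_lit 7432) (Step.D (nat_lit 10692) Step.done))))))))))))))))))))))) (Scr.cons (nat_lit 12) (nat_lit 1) (Step.U (nat_lit 2916) (Step.L (Step.L (Step.D (nat_lit 2916) (Step.D (nat_lit 5269) Step.done))))) (Scr.cons (nat_lit 8) (nat_lit 1) (Step.U (nat_lit 5275) (Step.U (nat_lit 2920) (Step.U (nat_lit 1441) (Step.U (nat_lit 603) (Step.L (Step.L (Step.L (Step.L (Step.L (Step.L (Step.L (Step.L (Step.D (nat_lit 2916) (Step.B (nat_lit 7436) (Step.D (nat_lit 8309) Step.done))))))))))))))) (Scr.cons (nat_lit 1) (nat_lit 0) (Step.F (nat_lit 4004) (Step.F (nat_lit 4037) (Step.L Step.done))) (Scr.cons (nat_lit 1) (nat_lit 0) (Step.D (nat_lit 2410) (Step.B (nat_lit 7438) (Step.L Step.done))) (Scr.cons (nat_lit 0) (nat_lit 1) (Step.B (nat_lit 4000) (Step.B (nat_lit 7439) (Step.D (nat_lit 603) Step.done))) (Scr.cons (nat_lit 1) (nat_lit 1) (Step.U (nat_lit 1441) (Step.F (nat_lit 7440) (Step.L Step.done))) (Scr.cons (nat_lit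 0) (nat_lit 1) (Step.U (nat_lit 2920) (Step.B (nat_lit 7441) (Step.L Step.done))) Scr.nil))))))))))))))))))))))))))))))))))))))))
noncomputable def s186 : Scr := (Scr.cons (nat_lit 1) (nat_lit 1) (Step.U (nat_lit 5275) (Step.B (nat_lit 7442) (Step.L Step.done))) (Scr.cons (nat_lit 0) (nat_lit 1) (Step.F (nat_lit 7437) (Step.B (nat_lit 7443) (Step.D (nat_lit 2413) Step.done))) (Scr.cons (nat_lit 1) (nat_lit 1) (Step.D (nat_lit 8309) (Step.B (nat_lit 7444) (Step.D (nat_lit 4487) Step.done))) (Scr.cons (nat_lit 0) (nat_lit 1) (Step.B (nat_lit 7436) (Step.B (nat_lit 7445) (Step.D (nat_lit 7422) Step.done))) (Scr.cons (nat_lit 1) (nat_lit 1) (Step.U (nat_lit 10479) (Step.F (nat_lit 7446) (Step.U (nat_lit 2916) Step.done))) (Scr.cons (nat_lit 1) (nat_lit 1) (Step.F (nat_lit 7435) (Step.B (nat_lit 7447) (Step.L Step.done))) (Scr.cons (nat_lit 1) (nat_lit 1) (Step.D (nat_lit 10692) (Step.B (nat_lit 7448) (Step.D (nat_lit 5268) Step.done))) (Scr.cons (nat_lit 0) (nat_lit 1) (Step.B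 (nat_lit 7432) (Step.B (nat_lit 7449) (Step.D (nat_lit 8307) Step.done))) (Scr.cons (nat_lit 0) (nat_lit 1) (Step.D (nat_lit 8307) (Step.F (nat_lit 7450) Step.done)) (Scr.cons (nat_lit 0) (nat_lit 1) (Step.D (nat_lit 7422) (Step.F (nat_lit 7446) Step.done)) (Scr.cons (nat_lit 0) (nat_lit 1) (Step.F (nat_lit 7452) (Step.F (nat_lit 3862) (Step.D (nat_lit 5985) Step.done))) (Scr.cons (nat_lit 0) (nat_lit 1) (Step.D (nat_lit 5985) (Step.F (nat_lit 7453) Step.done)) (Scr.cons (nat_lit 14) (nat_lit 6) (Step.U (nat_lit 5270) (Step.F (nat_lit 7454) (Step.L (Step.L (Step.L (Step.L (Step.L (Step.L (Step.B (nat_lit 3831) (Step.D (nat_lit 742) (Step.B (nat_lit 3837) (Step.F (nat_lit 3807) (Step.L (Step.L (Step.L (Step.L (Step.D (nat_lit 602) (Step.D (nat_lit 1439) (Step.D (nat_lit 2914) (Step.D (nat_lit 5265) (Step.D (nat_lit 8305) Step.done))))))))))))))))))))) (Scr.cons (nat_lit 11) (nat_lit 0) (Step.U (nat_lit 5270) (Step.U (nat_lit 2916) (Step.L (Step.D (nat_lit 5268) (Step.D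 (nat_lit 8308) Step.done))))) (Scr.cons (nat_lit 1) (nat_lit 0) (Step.D (nat_lit 8305) (Step.F (nat_lit 7455) (Step.B (nat_lit 7456) Step.done))) (Scr.cons (nat_lit 1) (nat_lit 0) (Step.D (nat_lit 8308) (Step.F (nat_lit 7457) (Step.U (nat_lit 5265) Step.done))) (Scr.cons (nat_lit 0) (nat_lit 1) (Step.F (nat_lit 7451) (Step.B (nat_lit 7458) (Step.F (nat_lit 7427) Step.done))) (Scr.cons (nat_lit 1) (nat_lit 1) (Step.D (nat_lit 4693) (Step.B (nat_lit 7459) (Step.D (nat_lit 2915) Step.done))) (Scr.cons (nat_lit 1) (nat_lit 1) (Step.D (nat_lit 2915) (Step.F (nat_lit 7460) Step.done)) (Scr.cons (nat_lit 12) (nat_lit 1) (Step.L (Step.L (Step.L (Step.L (Step.D (nat_lit 496) Step.done))))) (Scr.cons (nat_lit 13) (nat_lit 0) (Step.U (nat_lit 1240) (Step.F (nat_lit 7462) (Step.L (Step.L (Step.L (Step.L (Step.L (Step.B (nat_lit 7429) (Step.D (nat_lit 495) (Step.D (nat_lit 1237) (Step.D (nat_lit 2548) Step.done))))))))))) (Scr.cons (nat_lit 0) (nat_lit 0) (Step.B (nat_lit 4046) (Step.F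 (nat_lit 4048) Step.done)) (Scr.cons (nat_lit 0) (nat_lit 1) (Step.B (nat_lit 5000) (Step.F (nat_lit 7421) (Step.L Step.done))) (Scr.cons (nat_lit 1) (nat_lit 0) (Step.F (nat_lit 3997) (Step.B (nat_lit 7465) (Step.L Step.done))) (Scr.cons (nat_lit 0) (nat_lit 1) (Step.B (nat_lit 7464) (Step.B (nat_lit 7466) (Step.L Step.done))) (Scr.cons (nat_lit 1) (nat_lit 1) (Step.B (nat_lit 4044) (Step.B (nat_lit 7467) (Step.L Step.done))) (Scr.cons (nat_lit 1) (nat_lit 1) (Step.D (nat_lit 2923) (Step.B (nat_lit 7468) (Step.L Step.done))) (Scr.cons (nat_lit 1) (nat_lit 1) (Step.D (nat_lit 1443) (Step.B (nat_lit 7469) (Step.L Step.done))) (Scr.cons (nat_lit 0) (nat_lit 1) (Step.B (nat_lit 4045) (Step.B (nat_lit 7470) (Step.D (nat_lit 496) Step.done))) (Scr.cons (nat_lit 1) (nat_lit 1) (Step.U (nat_lit 1240) (Step.F (nat_lit 7471) (Step.L Step.done))) (Scr.cons (nat_lit 0) (nat_lit 1) (Step.F (nat_lit 7463) (Step.B (nat_lit 7472) (Step.L Step.done))) (Scr.cons (nat_lit 1) (nat_lit 0)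 (Step.D (nat_lit 2548) (Step.B (nat_lit 7473) (Step.L Step.done))) (Scr.cons (nat_lit 0) (nat_lit 1) (Step.B (nat_lit 7430) (Step.B (nat_lit 7474) (Step.L Step.done))) (Scr.cons (nat_lit 1) (nat_lit 0) (Step.U (nat_lit 1238) (Step.B (nat_lit 7475) (Step.L Step.done))) (Scr.cons (nat_lit 0) (nat_lit 1) (Step.U (nat_lit 2549) (Step.B (nat_lit 7476) (Step.L Step.done))) (Scr.cons (nat_lit 1) (nat_lit 0) (Step.B (nat_lit 7461) (Step.B (nat_lit 7477) (Step.L Step.done))) (Scr.cons (nat_lit 0) (nat_lit 1) (Step.U (nat_lit 2914) (Step.B (nat_lit 7478) (Step.L Step.done))) (Scr.cons (nat_lit 1) (nat_lit 1) (Step.U (nat_lit 5265) (Step.B (nat_lit 7479) (Step.L Step.done))) (Scr.cons (nat_lit 0) (nat_lit 1) (Step.F (nat_lit 7428) (Step.B (nat_lit 7480) Step.done)) (Scr.cons (nat_lit 12) (nat_lit 1) (Step.L (Step.L (Step.L (Step.L (Step.D (nat_lit 3383) Step.done))))) Scr.nil))))))))))))))))))))))))))))))))))))))))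
noncomputable def s187 : Scr := (Scr.cons (nat_lit 12) (nat_lit 1) (Step.L (Step.D (nat_lit 3383) (Step.F (nat_lit 7482) (Step.L (Step.D (nat_lit 5985) Step.done))))) (Scr.cons (nat_lit 0) (nat_lit 0) (Step.B (nat_lit 7483) (Step.F (nat_lit 7453) Step.done)) (Scr.cons (nat_lit 1) (nat_lit 0) (Step.D (nat_lit 5268) (Step.B (nat_lit 7458) (Step.D (nat_lit 5266) Step.done))) (Scr.cons (nat_lit 1) (nat_lit 0) (Step.D (nat_lit 5266) (Step.F (nat_lit 7485) Step.done)) (Scr.cons (nat_lit 1) (nat_lit 0) (Step.F (nat_lit 7486) (Step.B (nat_lit 7479) (Step.D (nat_lit 2916) Step.done))) (Scr.cons (nat_lit 0) (nat_lit 0) (Step.U (nat_lit 8304) (Step.B (nat_lit 7480) Step.done)) (Scr.cons (nat_lit 0) (nat_lit 1) (Step.B (nat_lit 7484) (Step.F (nat_lit 7487) (Step.F (nat_lit 7488) Step.done))) (Scr.cons (nat_lit 0) (nat_lit 0) (Step.F (nat_lit 7481) (Step.F (nat_lit 7489) Step.done)) (Scr.cons (nat_lit 1) (nat_lit 0) (Step.B (nat_lit 7456) (Step.F (nat_lit 7457) Step.done)) (Scr.cons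 (nat_lit 1) (nat_lit 0) (Step.B (nat_lit 7491) (Step.B (nat_lit 7480) Step.done)) (Scr.cons (nat_lit 1) (nat_lit 1) (Step.D (nat_lit 2916) (Step.F (nat_lit 7487) (Step.F (nat_lit 7492) Step.done))) (Scr.cons (nat_lit 1) (nat_lit 1) (Step.F (nat_lit 7492) (Step.F (nat_lit 7493) Step.done)) (Scr.cons (nat_lit 12) (nat_lit 1) (Step.L (Step.L (Step.L (Step.L (Step.D (nat_lit 2706) Step.done))))) (Scr.cons (nat_lit 12) (nat_lit 1) (Step.L (Step.D (nat_lit 2706) (Step.F (nat_lit 7495) (Step.L (Step.D (nat_lit 4945) Step.done))))) (Scr.cons (nat_lit 11) (nat_lit 0) (Step.U (nat_lit 191) (Step.L (Step.L (Step.L (Step.D (nat_lit 541) Step.done))))) (Scr.cons (nat_lit 12) (nat_lit 1) (Step.U (nat_lit 191) (Step.L (Step.L (Step.D (nat_lit 191) (Step.D (nat_lit 542) Step.done))))) (Scr.cons (nat_lit 12) (nat_lit 1) (Step.F (nat_lit 7497) (Step.D (nat_lit 542) (Step.F (nat_lit 7498) (Step.B (nat_lit 7497) (Step.D (nat_lit 1331) Step.done))))) (Scr.cons (nat_lit 11) (nat_lit 0) (Step.U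 (nat_lit 1418) (Step.L (Step.L (Step.D (nat_lit 1416) (Step.D (nat_lit 2873) Step.done))))) (Scr.cons (nat_lit 16) (nat_lit 2) (Step.F (nat_lit 7500) (Step.U (nat_lit 1418) (Step.L (Step.L (Step.L (Step.L (Step.L (Step.L (Step.L (Step.L (Step.L (Step.L (Step.L (Step.L (Step.L (Step.L (Step.L (Step.L (Step.L (Step.L (Step.D (nat_lit 541) (Step.D (nat_lit 1331) (Step.D (nat_lit 2717) Step.done))))))))))))))))))))))) (Scr.cons (nat_lit 12) (nat_lit 4) (Step.U (nat_lit 2717) (Step.F (nat_lit 7499) (Step.D (nat_lit 1331) (Step.D (nat_lit 2717) (Step.F (nat_lit 7501) Step.done))))) (Scr.cons (nat_lit 12) (nat_lit 4) (Step.U (nat_lit 4954) (Step.F (nat_lit 7501) (Step.F (nat_lit 7502) (Step.D (nat_lit 4954) (Step.D (nat_lit 7965) Step.done))))) (Scr.cons (nat_lit 11) (nat_lit 0) (Step.U (nat_lit 4955) (Step.U (nat_lit 2718) (Step.D (nat_lit 2717) (Step.D (nat_lit 4954) (Step.D (nat_lit 7966) Step.done))))) (Scr.cons (nat_lit 14) (nat_lit 6) (Step.U (nat_lit 7967) (Step.U (nat_lit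 4955) (Step.U (nat_lit 2718) (Step.F (nat_lit 7499) (Step.F (nat_lit 7497) (Step.U (nat_lit 191) (Step.L (Step.L (Step.L (Step.L (Step.L (Step.L (Step.L (Step.L (Step.L (Step.L (Step.L (Step.D (nat_lit 3267) (Step.D (nat_lit 5796) (Step.D (nat_lit 8925) Step.done)))))))))))))))))))) (Scr.cons (nat_lit 4) (nat_lit 0) (Step.B (nat_lit 7505) (Step.U (nat_lit 8925) (Step.U (nat_lit 5796) (Step.D (nat_lit 5797) (Step.D (nat_lit 8926) Step.done))))) (Scr.cons (nat_lit 11) (nat_lit 0) (Step.L (Step.L (Step.L (Step.L (Step.D (nat_lit 3268) Step.done))))) (Scr.cons (nat_lit 7) (nat_lit 2) (Step.U (nat_lit 7978) (Step.U (nat_lit 4967) (Step.U (nat_lit 2727) (Step.F (nat_lit 2668) (Step.L (Step.L (Step.L (Step.L (Step.L (Step.L (Step.L (Step.L (Step.L (Step.L (Step.L (Step.L (Step.L (Step.D (nat_lit 3271) (Step.D (nat_lit 5802) (Step.D (nat_lit 8929) Step.done)))))))))))))))))))) (Scr.cons (nat_lit 11) (nat_lit 0) (Step.B (nat_lit 7508) (Step.U (nat_lit 8929) (Step.U (nat_lit 5802)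 (Step.D (nat_lit 5801) (Step.D (nat_lit 8928) Step.done))))) (Scr.cons (nat_lit 11) (nat_lit 0) (Step.U (nat_lit 4969) (Step.U (nat_lit 2728) (Step.D (nat_lit 2727) (Step.D (nat_lit 4967) (Step.D (nat_lit 7979) Step.done))))) (Scr.cons (nat_lit 14) (nat_lit 5) (Step.U (nat_lit 10950) (Step.U (nat_lit 7965) (Step.D (nat_lit 7966) (Step.F (nat_lit 7504) (Step.D (nat_lit 7967) (Step.B (nat_lit 7506) (Step.U (nat_lit 8926) (Step.U (nat_lit 5797) (Step.U (nat_lit 3267) (Step.D (nat_lit 3268) (Step.F (nat_lit 7507) (Step.D (nat_lit 3271) (Step.D (nat_lit 5801) (Step.D (nat_lit 8928) (Step.F (nat_lit 7509) (Step.U (nat_lit 7978) (Step.D (nat_lit 7979) (Step.F (nat_lit 7510) (Step.D (nat_lit 7980) (Step.D (nat_lit 10956) Step.done)))))))))))))))))))) (Scr.cons (nat_lit 1) (nat_lit 1) (Step.U (nat_lit 4899) (Step.B (nat_lit 2897) (Step.L Step.done))) (Scr.cons (nat_lit 1) (nat_lit 1) (Step.U (nat_lit 7899) (Step.B (nat_lit 7512) (Step.L Step.done))) (Scr.cons (nat_lit 1) (nat_lit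 1) (Step.B (nat_lit 2670) (Step.B (nat_lit 7513) (Step.L Step.done))) (Scr.cons (nat_lit 0) (nat_lit 1) (Step.B (nat_lit 2669) (Step.B (nat_lit 7514) (Step.D (nat_lit 169) Step.done))) (Scr.cons (nat_lit 1) (nat_lit 0) (Step.U (nat_lit 4969) (Step.B (nat_lit 7515) (Step.D (nat_lit 495) Step.done))) (Scr.cons (nat_lit 0) (nat_lit 1) (Step.U (nat_lit 7980) (Step.B (nat_lit 7516) (Step.D (nat_lit 1237) Step.done))) (Scr.cons (nat_lit 1) (nat_lit 1) (Step.U (nat_lit 10956) (Step.B (nat_lit 7517) (Step.D (nat_lit 2548) Step.done))) (Scr.cons (nat_lit 1) (nat_lit 1) (Step.B (nat_lit 7511) (Step.B (nat_lit 7518) (Step.D (nat_lit 4691) Step.done))) (Scr.cons (nat_lit 1) (nat_lit 1) (Step.D (nat_lit 10950) (Step.B (nat_lit 7519) (Step.D (nat_lit 7662) Step.done))) (Scr.cons (nat_lit 0) (nat_lit 1) (Step.B (nat_lit 7503) (Step.B (nat_lit 7520) (Step.D (nat_lit 10691) Step.done))) (Scr.cons (nat_lit 0) (nat_lit 1) (Step.D (nat_lit 10691) (Step.F (nat_lit 7521) Step.done)) Scr.nil))))))))))))))))))))))))))))))))))))))))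
noncomputable def s188 : Scr := (Scr.cons (nat_lit 1) (nat_lit 1) (Step.U (nat_lit 4691) (Step.B (nat_lit 7473) (Step.L Step.done))) (Scr.cons (nat_lit 1) (nat_lit 1) (Step.U (nat_lit 7662) (Step.B (nat_lit 7523) (Step.L Step.done))) (Scr.cons (nat_lit 0) (nat_lit 1) (Step.F (nat_lit 7522) (Step.B (nat_lit 7524) (Step.L Step.done))) (Scr.cons (nat_lit 1) (nat_lit 0) (Step.D (nat_lit 4954) (Step.B (nat_lit 7525) (Step.L Step.done))) (Scr.cons (nat_lit 1) (nat_lit 0) (Step.D (nat_lit 2717) (Step.B (nat_lit 7526) (Step.L Step.done))) (Scr.cons (nat_lit 0) (nat_lit 1) (Step.B (nat_lit 7499) (Step.B (nat_lit 7527) (Step.L Step.done))) (Scr.cons (nat_lit 1) (nat_lit 1) (Step.B (nat_lit 7497) (Step.B (nat_lit 7528) (Step.L Step.done))) (Scr.cons (nat_lit 1) (nat_lit 1) (Step.D (nat_lit 191) (Step.B (nat_lit 7529) (Step.D (nat_lit 172) Step.done))) (Scr.cons (nat_lit 0) (nat_lit 1) (Step.F (nat_lit 222) (Step.F (nat_lit 7530) (Step.L Step.done))) (Scr.cons (nat_lit 1) (nat_lit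 1) (Step.U (nat_lit 1242) (Step.B (nat_lit 7531) (Step.L Step.done))) (Scr.cons (nat_lit 0) (nat_lit 1) (Step.U (nat_lit 2561) (Step.B (nat_lit 7532) (Step.L Step.done))) (Scr.cons (nat_lit 1) (nat_lit 1) (Step.U (nat_lit 4718) (Step.B (nat_lit 7533) (Step.L Step.done))) (Scr.cons (nat_lit 0) (nat_lit 1) (Step.B (nat_lit 4789) (Step.B (nat_lit 7534) (Step.L Step.done))) (Scr.cons (nat_lit 1) (nat_lit 1) (Step.D (nat_lit 7020) (Step.B (nat_lit 7535) (Step.L Step.done))) (Scr.cons (nat_lit 1) (nat_lit 1) (Step.U (nat_lit 7019) (Step.B (nat_lit 7536) (Step.L Step.done))) (Scr.cons (nat_lit 1) (nat_lit 1) (Step.F (nat_lit 4771) (Step.B (nat_lit 7537) (Step.L Step.done))) (Scr.cons (nat_lit 0) (nat_lit 1) (Step.B (nat_lit 4706) (Step.B (nat_lit 7538) (Step.D (nat_lit 4945) Step.done))) (Scr.cons (nat_lit 0) (nat_lit 0) (Step.B (nat_lit 7496) (Step.F (nat_lit 7539) Step.done)) (Scr.cons (nat_lit 12) (nat_lit 4) (Step.L (Step.L (Step.L (Step.L (Step.D (nat_lit 11242) Step.done)))))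 (Scr.cons (nat_lit 8) (nat_lit 1) (Step.L (Step.L (Step.L (Step.L (Step.L (Step.L (Step.L (Step.L (Step.L (Step.L (Step.L (Step.L (Step.L (Step.L (Step.D (nat_lit 10752) Step.done))))))))))))))) (Scr.cons (nat_lit 12) (nat_lit 0) (Step.B (nat_lit 7542) (Step.U (nat_lit 10752) (Step.L (Step.L (Step.D (nat_lit 10752) Step.done))))) (Scr.cons (nat_lit 11) (nat_lit 0) (Step.U (nat_lit 586) (Step.L (Step.L (Step.D (nat_lit 585) (Step.D (nat_lit 1411) Step.done))))) (Scr.cons (nat_lit 15) (nat_lit 0) (Step.U (nat_lit 184) (Step.L (Step.L (Step.L (Step.L (Step.L (Step.L (Step.L (Step.L (Step.L (Step.L (Step.L (Step.L (Step.L (Step.L Step.done))))))))))))))) (Scr.cons (nat_lit 12) (nat_lit 4) (Step.L (Step.L (Step.L (Step.L (Step.F (nat_lit 7545) Step.done))))) (Scr.cons (nat_lit 12) (nat_lit 4) (Step.U (nat_lit 585) (Step.F (nat_lit 7545) (Step.F (nat_lit 7546) (Step.D (nat_lit 585) (Step.D (nat_lit 1410) Step.done))))) (Scr.cons (nat_lit 6) (nat_lit 1) (Step.U (nat_lit 2668)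 (Step.F (nat_lit 173) (Step.L (Step.L (Step.L (Step.L (Step.D (nat_lit 184) (Step.B (nat_lit 7545) (Step.D (nat_lit 585) (Step.D (nat_lit 1410) (Step.D (nat_lit 2863) Step.done))))))))))) (Scr.cons (nat_lit 11) (nat_lit 0) (Step.U (nat_lit 2593) (Step.L (Step.D (nat_lit 1263) (Step.D (nat_lit 2592) (Step.D (nat_lit 4769) Step.done))))) (Scr.cons (nat_lit 12) (nat_lit 1) (Step.U (nat_lit 2593) (Step.L (Step.L (Step.D (nat_lit 2593) (Step.D (nat_lit 4770) Step.done))))) (Scr.cons (nat_lit 12) (nat_lit 1) (Step.F (nat_lit 7549) (Step.D (nat_lit 4770) (Step.F (nat_lit 7550) (Step.B (nat_lit 7549) (Step.D (nat_lit 7745) Step.done))))) (Scr.cons (nat_lit 9) (nat_lit 5) (Step.U (nat_lit 7826) (Step.U (nat_lit 4832) (Step.U (nat_lit 2629) (Step.U (nat_lit 1278) (Step.U (nat_lit 518) (Step.L (Step.L (Step.L (Step.L (Step.L (Step.L (Step.L (Step.L (Step.L (Step.L (Step.L (Step.L (Step.L (Step.L (Step.D (nat_lit 2593) (Step.B (nat_lit 7549) (Step.B (nat_lit 7551) (Step.D (nat_lit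 10751) Step.done))))))))))))))))))))))) (Scr.cons (nat_lit 11) (nat_lit 0) (Step.U (nat_lit 4833) (Step.U (nat_lit 2630) (Step.D (nat_lit 2629) (Step.D (nat_lit 4832) (Step.D (nat_lit 7826) Step.done))))) (Scr.cons (nat_lit 12) (nat_lit 1) (Step.U (nat_lit 178) (Step.F (nat_lit 166) (Step.D (nat_lit 47) (Step.D (nat_lit 178) (Step.D (nat_lit 516) Step.done))))) (Scr.cons (nat_lit 12) (nat_lit 4) (Step.U (nat_lit 1275) (Step.F (nat_lit 7554) (Step.D (nat_lit 516) (Step.D (nat_lit 1275) (Step.D (nat_lit 2626) Step.done))))) (Scr.cons (nat_lit 13) (nat_lit 2) (Step.U (nat_lit 2630) (Step.U (nat_lit 1278) (Step.U (nat_lit 518) (Step.L (Step.L (Step.B (nat_lit 166) (Step.D (nat_lit 178) (Step.D (nat_lit 516) (Step.D (nat_lit 1275) (Step.B (nat_lit 7555) (Step.D (nat_lit 4827) Step.done))))))))))) (Scr.cons (nat_lit 11) (nat_lit 0) (Step.U (nat_lit 517) (Step.U (nat_lit 178) (Step.D (nat_lit 177) (Step.D (nat_lit 515) (Step.D (nat_lit 1274) Step.done))))) (Scr.cons (nat_lit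 12) (nat_lit 1) (Step.U (nat_lit 517) (Step.D (nat_lit 516) (Step.F (nat_lit 7554) (Step.D (nat_lit 517) (Step.D (nat_lit 1277) Step.done))))) (Scr.cons (nat_lit 12) (nat_lit 1) (Step.F (nat_lit 7557) (Step.D (nat_lit 1277) (Step.F (nat_lit 7558) (Step.B (nat_lit 7557) (Step.D (nat_lit 2625) Step.done))))) (Scr.cons (nat_lit 12) (nat_lit 1) (Step.U (nat_lit 4826) (Step.F (nat_lit 7559) (Step.D (nat_lit 2625) (Step.D (nat_lit 4826) (Step.D (nat_lit 7820) Step.done))))) (Scr.cons (nat_lit 11) (nat_lit 0) (Step.U (nat_lit 4471) (Step.L (Step.L (Step.D (nat_lit 4469) (Step.D (nat_lit 7399) Step.done))))) (Scr.cons (nat_lit 12) (nat_lit 1) (Step.L (Step.L (Step.L (Step.L (Step.D (nat_lit 4470) Step.done))))) Scr.nil))))))))))))))))))))))))))))))))))))))))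
noncomputable def s189 : Scr := (Scr.cons (nat_lit 12) (nat_lit 1) (Step.U (nat_lit 4471) (Step.D (nat_lit 4470) (Step.F (nat_lit 7562) (Step.D (nat_lit 4471) (Step.D (nat_lit 7400) Step.done))))) (Scr.cons (nat_lit 12) (nat_lit 1) (Step.F (nat_lit 7561) (Step.D (nat_lit 7400) (Step.F (nat_lit 7563) (Step.B (nat_lit 7561) (Step.D (nat_lit 10462) Step.done))))) (Scr.cons (nat_lit 8) (nat_lit 1) (Step.U (nat_lit 519) (Step.U (nat_lit 179) (Step.U (nat_lit 48) (Step.U (nat_lit 6) (Step.L (Step.L (Step.L (Step.L (Step.L (Step.L (Step.L (Step.B (nat_lit 166) (Step.D (nat_lit 178) (Step.B (nat_lit 7554) (Step.D (nat_lit 1276) Step.done))))))))))))))) (Scr.cons (nat_lit 12) (nat_lit 4) (Step.U (nat_lit 2627) (Step.F (nat_lit 7558) (Step.D (nat_lit 1277) (Step.D (nat_lit 2627) (Step.D (nat_lit 4828) Step.done))))) (Scr.cons (nat_lit 13) (nat_lit 2) (Step.U (nat_lit 4847) (Step.U (nat_lit 2638) (Step.U (nat_lit 1283) (Step.B (nat_lit 7565) (Step.U (nat_lit 1276) (Step.U (nat_lit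 516) (Step.D (nat_lit 517) (Step.D (nat_lit 1277) (Step.D (nat_lit 2627) (Step.B (nat_lit 7566) (Step.D (nat_lit 7823) Step.done))))))))))) (Scr.cons (nat_lit 12) (nat_lit 0) (Step.B (nat_lit 7565) (Step.U (nat_lit 1276) (Step.F (nat_lit 7554) (Step.D (nat_lit 516) (Step.D (nat_lit 1276) Step.done))))) (Scr.cons (nat_lit 12) (nat_lit 4) (Step.U (nat_lit 1283) (Step.B (nat_lit 7565) (Step.F (nat_lit 7568) (Step.D (nat_lit 1283) (Step.D (nat_lit 2638) Step.done))))) (Scr.cons (nat_lit 8) (nat_lit 1) (Step.U (nat_lit 1154) (Step.L (Step.L (Step.L (Step.L (Step.L (Step.L (Step.L (Step.L (Step.L (Step.L (Step.L (Step.L (Step.L (Step.D (nat_lit 2398) Step.done))))))))))))))) (Scr.cons (nat_lit 13) (nat_lit 2) (Step.U (nat_lit 7394) (Step.U (nat_lit 4465) (Step.U (nat_lit 2401) (Step.B (nat_lit 7570) (Step.U (nat_lit 2398) (Step.L (Step.L (Step.L (Step.D (nat_lit 4455) (Step.B (nat_lit 6597) (Step.D (nat_lit 10447) Step.done))))))))))) (Scr.cons (nat_lit 12) (nat_lit 0) (Step.B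 (nat_lit 7570) (Step.U (nat_lit 2398) (Step.L (Step.L (Step.D (nat_lit 2398) Step.done))))) (Scr.cons (nat_lit 12) (nat_lit 4) (Step.U (nat_lit 2401) (Step.B (nat_lit 7570) (Step.F (nat_lit 7572) (Step.D (nat_lit 2401) (Step.D (nat_lit 4465) Step.done))))) (Scr.cons (nat_lit 15) (nat_lit 0) (Step.U (nat_lit 10823) (Step.F (nat_lit 7567) (Step.U (nat_lit 4847) (Step.F (nat_lit 7569) (Step.D (nat_lit 2639) (Step.D (nat_lit 4848) (Step.D (nat_lit 7841) (Step.D (nat_lit 10839) (Step.F (nat_lit 6596) (Step.F (nat_lit 7571) (Step.U (nat_lit 7394) (Step.F (nat_lit 7573) (Step.D (nat_lit 4466) (Step.D (nat_lit 7395) (Step.D (nat_lit 10456) Step.done))))))))))))))) (Scr.cons (nat_lit 16) (nat_lit 1) (Step.F (nat_lit 7564) (Step.F (nat_lit 7561) (Step.U (nat_lit 4471) (Step.L (Step.L (Step.L (Step.L (Step.L (Step.L (Step.L (Step.L (Step.L (Step.L (Step.D (nat_lit 1154) (Step.D (nat_lit 2401) (Step.D (nat_lit 4466) (Step.D (nat_lit 7395) (Step.D (nat_lit 10456) (Step.F (nat_lit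 7574) (Step.U (nat_lit 10823) (Step.U (nat_lit 7823) (Step.D (nat_lit 7822) (Step.D (nat_lit 10822) Step.done))))))))))))))))))))))) (Scr.cons (nat_lit 15) (nat_lit 0) (Step.U (nat_lit 10820) (Step.F (nat_lit 7560) (Step.U (nat_lit 4826) (Step.F (nat_lit 7559) (Step.F (nat_lit 7557) (Step.D (nat_lit 1277) (Step.D (nat_lit 2627) (Step.D (nat_lit 4828) (Step.D (nat_lit 7822) (Step.D (nat_lit 10822) (Step.F (nat_lit 7575) (Step.F (nat_lit 7564) (Step.F (nat_lit 7561) (Step.D (nat_lit 7400) (Step.D (nat_lit 10463) Step.done))))))))))))))) (Scr.cons (nat_lit 12) (nat_lit 4) (Step.L (Step.L (Step.L (Step.L (Step.D (nat_lit 1473) Step.done))))) (Scr.cons (nat_lit 12) (nat_lit 4) (Step.U (nat_lit 2984) (Step.F (nat_lit 7577) (Step.D (nat_lit 1473) (Step.D (nat_lit 2984) (Step.D (nat_lit 5379) Step.done))))) (Scr.cons (nat_lit 12) (nat_lit 4) (Step.U (nat_lit 5380) (Step.D (nat_lit 5379) (Step.F (nat_lit 7578) (Step.D (nat_lit 5380) (Step.D (nat_lit 8437) Step.done))))) (Scr.cons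 (nat_lit 14) (nat_lit 4) (Step.F (nat_lit 6579) (Step.L (Step.L (Step.L (Step.L (Step.L (Step.L (Step.L (Step.L (Step.L (Step.L (Step.L (Step.L (Step.L (Step.L (Step.L (Step.L (Step.B (nat_lit 7577) (Step.D (nat_lit 2984) (Step.D (nat_lit 5380) (Step.D (nat_lit 8437) Step.done))))))))))))))))))))) (Scr.cons (nat_lit 0) (nat_lit 0) (Step.B (nat_lit 7579) (Step.F (nat_lit 7580) Step.done)) (Scr.cons (nat_lit 0) (nat_lit 1) (Step.B (nat_lit 7581) (Step.B (nat_lit 6581) (Step.D (nat_lit 11165) Step.done))) (Scr.cons (nat_lit 0) (nat_lit 1) (Step.D (nat_lit 11165) (Step.F (nat_lit 7582) Step.done)) (Scr.cons (nat_lit 0) (nat_lit 1) (Step.F (nat_lit 6566) (Step.B (nat_lit 7294) (Step.B (nat_lit 7583) Step.done))) (Scr.cons (nat_lit 1) (nat_lit 1) (Step.D (nat_lit 11596) (Step.B (nat_lit 7584) (Step.D (nat_lit 8438) Step.done))) (Scr.cons (nat_lit 0) (nat_lit 1) (Step.B (nat_lit 6567) (Step.B (nat_lit 7585) (Step.D (nat_lit 11304) Step.done))) (Scr.cons (nat_lit 0) (nat_lit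 1) (Step.D (nat_lit 11304) (Step.F (nat_lit 7586) Step.done)) (Scr.cons (nat_lit 15) (nat_lit 1) (Step.F (nat_lit 7562) (Step.L (Step.L (Step.L (Step.L (Step.L (Step.L (Step.L (Step.L (Step.L (Step.L (Step.L (Step.L (Step.L (Step.D (nat_lit 5887) Step.done))))))))))))))) (Scr.cons (nat_lit 12) (nat_lit 1) (Step.U (nat_lit 3326) (Step.L (Step.L (Step.D (nat_lit 3326) (Step.D (nat_lit 5888) Step.done))))) (Scr.cons (nat_lit 12) (nat_lit 4) (Step.U (nat_lit 1719) (Step.F (nat_lit 5723) (Step.D (nat_lit 753) (Step.D (nat_lit 1719) (Step.D (nat_lit 3398) Step.done))))) (Scr.cons (nat_lit 6) (nat_lit 1) (Step.U (nat_lit 6007) (Step.F (nat_lit 7590) (Step.U (nat_lit 1719) (Step.U (nat_lit 753) (Step.U (nat_lit 271) (Step.L (Step.L (Step.L (Step.L (Step.D (nat_lit 6006) (Step.D (nat_lit 9163) Step.done))))))))))) (Scr.cons (nat_lit 1) (nat_lit 1) (Step.U (nat_lit 1255) (Step.B (nat_lit 2402) (Step.L Step.done))) (Scr.cons (nat_lit 1) (nat_lit 1) (Step.B (nat_lit 2375) (Step.B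 (nat_lit 7592) (Step.L Step.done))) (Scr.cons (nat_lit 0) (nat_lit 1) (Step.B (nat_lit 2377) (Step.B (nat_lit 7593) (Step.L Step.done))) (Scr.cons (nat_lit 1) (nat_lit 1) (Step.U (nat_lit 752) (Step.B (nat_lit 7594) (Step.L Step.done))) (Scr.cons (nat_lit 1) (nat_lit 1) (Step.B (nat_lit 2378) (Step.B (nat_lit 7595) (Step.L Step.done))) (Scr.cons (nat_lit 0) (nat_lit 1) (Step.U (nat_lit 753) (Step.B (nat_lit 7596) (Step.L Step.done))) (Scr.cons (nat_lit 1) (nat_lit 1) (Step.U (nat_lit 1719) (Step.B (nat_lit 7597) (Step.L Step.done))) (Scr.cons (nat_lit 0) (nat_lit 1) (Step.U (nat_lit 3398) (Step.B (nat_lit 7598) (Step.L Step.done))) (Scr.cons (nat_lit 1) (nat_lit 0) (Step.U (nat_lit 6007) (Step.B (nat_lit 7599) (Step.D (nat_lit 3326) Step.done))) (Scr.cons (nat_lit 0) (nat_lit 1) (Step.F (nat_lit 7591) (Step.B (nat_lit 7600) (Step.D (nat_lit 5888) Step.done))) (Scr.cons (nat_lit 1) (nat_lit 1) (Step.D (nat_lit 9163) (Step.B (nat_lit 7601) (Step.D (nat_lit 9040) Step.done)))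 Scr.nil))))))))))))))))))))))))))))))))))))))))
noncomputable def s190 : Scr := (Scr.cons (nat_lit 1) (nat_lit 1) (Step.D (nat_lit 9040) (Step.F (nat_lit 7602) Step.done)) (Scr.cons (nat_lit 12) (nat_lit 1) (Step.U (nat_lit 606) (Step.L (Step.L (Step.D (nat_lit 606) (Step.D (nat_lit 1446) Step.done))))) (Scr.cons (nat_lit 12) (nat_lit 1) (Step.F (nat_lit 6751) (Step.D (nat_lit 1446) (Step.F (nat_lit 7604) (Step.B (nat_lit 6751) (Step.D (nat_lit 2930) Step.done))))) (Scr.cons (nat_lit 14) (nat_lit 4) (Step.U (nat_lit 9041) (Step.B (nat_lit 7603) (Step.U (nat_lit 6006) (Step.L (Step.L (Step.L (Step.L (Step.L (Step.L (Step.L (Step.L (Step.L (Step.L (Step.L (Step.D (nat_lit 605) (Step.D (nat_lit 1445) (Step.B (nat_lit 7605) (Step.D (nat_lit 5292) (Step.D (nat_lit 8329) (Step.D (nat_lit 11243) Step.done)))))))))))))))))))) (Scr.cons (nat_lit 0) (nat_lit 1) (Step.B (nat_lit 7501) (Step.B (nat_lit 7526) (Step.L Step.done))) (Scr.cons (nat_lit 1) (nat_lit 1) (Step.B (nat_lit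 7500) (Step.B (nat_lit 7607) (Step.L Step.done))) (Scr.cons (nat_lit 1) (nat_lit 1) (Step.D (nat_lit 1418) (Step.B (nat_lit 7608) (Step.D (nat_lit 605) Step.done))) (Scr.cons (nat_lit 1) (nat_lit 1) (Step.U (nat_lit 1445) (Step.F (nat_lit 7609) (Step.L Step.done))) (Scr.cons (nat_lit 0) (nat_lit 1) (Step.U (nat_lit 2930) (Step.B (nat_lit 7610) (Step.L Step.done))) (Scr.cons (nat_lit 1) (nat_lit 1) (Step.U (nat_lit 5292) (Step.B (nat_lit 7611) (Step.L Step.done))) (Scr.cons (nat_lit 1) (nat_lit 1) (Step.U (nat_lit 8329) (Step.B (nat_lit 7612) (Step.L Step.done))) (Scr.cons (nat_lit 0) (nat_lit 1) (Step.U (nat_lit 11243) (Step.B (nat_lit 7613) (Step.L Step.done))) (Scr.cons (nat_lit 1) (nat_lit 1) (Step.B (nat_lit 7606) (Step.B (nat_lit 7614) (Step.L Step.done))) (Scr.cons (nat_lit 1) (nat_lit 1) (Step.D (nat_lit 9041) (Step.B (nat_lit 7615) (Step.L Step.done))) (Scr.cons (nat_lit 0) (nat_lit 1) (Step.B (nat_lit 7589) (Step.B (nat_lit 7616) (Step.L Step.done))) (Scr.cons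 (nat_lit 1) (nat_lit 1) (Step.D (nat_lit 3326) (Step.B (nat_lit 7617) (Step.D (nat_lit 5179) Step.done))) (Scr.cons (nat_lit 1) (nat_lit 1) (Step.U (nat_lit 8194) (Step.F (nat_lit 7618) (Step.L Step.done))) (Scr.cons (nat_lit 0) (nat_lit 1) (Step.F (nat_lit 7583) (Step.B (nat_lit 7619) (Step.D (nat_lit 5887) Step.done))) (Scr.cons (nat_lit 1) (nat_lit 1) (Step.B (nat_lit 7588) (Step.F (nat_lit 7620) (Step.D (nat_lit 8438) Step.done))) (Scr.cons (nat_lit 0) (nat_lit 1) (Step.F (nat_lit 7587) (Step.F (nat_lit 7621) (Step.F (nat_lit 7562) Step.done))) (Scr.cons (nat_lit 1) (nat_lit 0) (Step.D (nat_lit 5886) (Step.B (nat_lit 7622) (Step.D (nat_lit 4471) Step.done))) (Scr.cons (nat_lit 0) (nat_lit 1) (Step.U (nat_lit 7400) (Step.F (nat_lit 7623) (Step.L Step.done))) (Scr.cons (nat_lit 1) (nat_lit 1) (Step.U (nat_lit 10463) (Step.B (nat_lit 7624) (Step.L Step.done))) (Scr.cons (nat_lit 0) (nat_lit 1) (Step.B (nat_lit 7576) (Step.B (nat_lit 7625) (Step.L Step.done))) (Scr.cons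 (nat_lit 1) (nat_lit 1) (Step.D (nat_lit 10820) (Step.B (nat_lit 7626) (Step.L Step.done))) (Scr.cons (nat_lit 0) (nat_lit 1) (Step.B (nat_lit 7560) (Step.B (nat_lit 7627) (Step.L Step.done))) (Scr.cons (nat_lit 1) (nat_lit 1) (Step.D (nat_lit 4826) (Step.B (nat_lit 7628) (Step.L Step.done))) (Scr.cons (nat_lit 0) (nat_lit 1) (Step.B (nat_lit 7559) (Step.B (nat_lit 7629) (Step.L Step.done))) (Scr.cons (nat_lit 1) (nat_lit 1) (Step.B (nat_lit 7557) (Step.B (nat_lit 7630) (Step.L Step.done))) (Scr.cons (nat_lit 1) (nat_lit 1) (Step.D (nat_lit 517) (Step.B (nat_lit 7631) (Step.L Step.done))) (Scr.cons (nat_lit 0) (nat_lit 1) (Step.U (nat_lit 516) (Step.B (nat_lit 7632) (Step.L Step.done))) (Scr.cons (nat_lit 1) (nat_lit 1) (Step.U (nat_lit 1275) (Step.B (nat_lit 7633) (Step.L Step.done))) (Scr.cons (nat_lit 0) (nat_lit 1) (Step.U (nat_lit 2626) (Step.B (nat_lit 7634) (Step.L Step.done))) (Scr.cons (nat_lit 1) (nat_lit 0) (Step.U (nat_lit 4827) (Step.B (nat_lit 7635) (Step.L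 Step.done))) (Scr.cons (nat_lit 0) (nat_lit 1) (Step.B (nat_lit 7556) (Step.B (nat_lit 7636) (Step.L Step.done))) (Scr.cons (nat_lit 1) (nat_lit 0) (Step.U (nat_lit 4833) (Step.B (nat_lit 7637) (Step.L Step.done))) (Scr.cons (nat_lit 1) (nat_lit 0) (Step.F (nat_lit 7553) (Step.B (nat_lit 7638) (Step.L Step.done))) (Scr.cons (nat_lit 0) (nat_lit 1) (Step.F (nat_lit 7552) (Step.B (nat_lit 7639) (Step.L Step.done))) (Scr.cons (nat_lit 1) (nat_lit 1) (Step.D (nat_lit 10751) (Step.B (nat_lit 7640) (Step.L Step.done))) (Scr.cons (nat_lit 0) (nat_lit 1) (Step.B (nat_lit 7551) (Step.B (nat_lit 7641) (Step.D (nat_lit 1303) Step.done))) Scr.nil))))))))))))))))))))))))))))))))))))))))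
noncomputable def s191 : Scr := (Scr.cons (nat_lit 1) (nat_lit 0) (Step.D (nat_lit 4769) (Step.B (nat_lit 7642) (Step.D (nat_lit 2668) Step.done))) (Scr.cons (nat_lit 0) (nat_lit 1) (Step.F (nat_lit 7548) (Step.F (nat_lit 7643) (Step.D (nat_lit 4768) Step.done))) (Scr.cons (nat_lit 0) (nat_lit 1) (Step.D (nat_lit 4768) (Step.F (nat_lit 7644) Step.done)) (Scr.cons (nat_lit 9) (nat_lit 1) (Step.L (Step.L (Step.L (Step.L (Step.L (Step.L (Step.L (Step.L (Step.L (Step.L (Step.L (Step.D (nat_lit 586) (Step.B (nat_lit 7544) (Step.U (nat_lit 1411) (Step.B (nat_lit 7547) (Step.D (nat_lit 2863) (Step.F (nat_lit 7645) (Step.U (nat_lit 2592) (Step.U (nat_lit 1263) (Step.L (Step.L (Step.L (Step.L (Step.D (nat_lit 10752) Step.done)))))))))))))))))))))))) (Scr.cons (nat_lit 0) (nat_lit 1) (Step.B (nat_lit 7543) (Step.F (nat_lit 7646) (Step.D (nat_lit 11242) Step.done))) (Scr.cons (nat_lit 0) (nat_lit 0) (Step.B (nat_lit 7541) (Step.F (nat_lit 7647) Step.done)) (Scr.cons (nat_lit 12)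 (nat_lit 1) (Step.L (Step.L (Step.L (Step.L (Step.D (nat_lit 8747) Step.done))))) (Scr.cons (nat_lit 12) (nat_lit 1) (Step.U (nat_lit 8748) (Step.D (nat_lit 8747) (Step.F (nat_lit 7649) (Step.D (nat_lit 8748) (Step.D (nat_lit 11467) Step.done))))) (Scr.cons (nat_lit 12) (nat_lit 1) (Step.U (nat_lit 3285) (Step.L (Step.L (Step.D (nat_lit 3285) (Step.D (nat_lit 5822) Step.done))))) (Scr.cons (nat_lit 12) (nat_lit 4) (Step.U (nat_lit 8955) (Step.F (nat_lit 7651) (Step.D (nat_lit 5822) (Step.D (nat_lit 8955) (Step.D (nat_lit 11574) Step.done))))) (Scr.cons (nat_lit 11) (nat_lit 0) (Step.U (nat_lit 536) (Step.U (nat_lit 187) (Step.D (nat_lit 186) (Step.D (nat_lit 534) (Step.D (nat_lit 1319) Step.done))))) (Scr.cons (nat_lit 14) (nat_lit 5) (Step.U (nat_lit 2705) (Step.U (nat_lit 1318) (Step.D (nat_lit 1319) (Step.F (nat_lit 7653) (Step.D (nat_lit 1320) (Step.B (nat_lit 1024) (Step.U (nat_lit 676) (Step.L (Step.L (Step.L (Step.L (Step.L (Step.L (Step.L (Step.L (Step.L (Step.L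 (Step.L (Step.D (nat_lit 2373) (Step.D (nat_lit 4416) Step.done)))))))))))))))))))) (Scr.cons (nat_lit 4) (nat_lit 0) (Step.U (nat_lit 2704) (Step.D (nat_lit 2705) (Step.B (nat_lit 7654) (Step.U (nat_lit 4416) (Step.D (nat_lit 4417) Step.done))))) (Scr.cons (nat_lit 11) (nat_lit 0) (Step.U (nat_lit 1618) (Step.L (Step.L (Step.D (nat_lit 1617) (Step.D (nat_lit 3209) Step.done))))) (Scr.cons (nat_lit 14) (nat_lit 6) (Step.U (nat_lit 3208) (Step.D (nat_lit 3209) (Step.F (nat_lit 7656) (Step.B (nat_lit 6532) (Step.F (nat_lit 2464) (Step.U (nat_lit 1250) (Step.L (Step.L (Step.L (Step.L (Step.D (nat_lit 173) (Step.D (nat_lit 504) (Step.D (nat_lit 1255) (Step.F (nat_lit 2375) (Step.U (nat_lit 751) (Step.D (nat_lit 752) (Step.F (nat_lit 2378) (Step.D (nat_lit 753) (Step.D (nat_lit 1719) (Step.D (nat_lit 3399) Step.done)))))))))))))))))))) (Scr.cons (nat_lit 12) (nat_lit 4) (Step.U (nat_lit 1617) (Step.L (Step.L (Step.D (nat_lit 1617) (Step.D (nat_lit 3208) Step.done))))) (Scr.cons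 (nat_lit 12) (nat_lit 1) (Step.F (nat_lit 7657) (Step.F (nat_lit 7658) (Step.D (nat_lit 3208) (Step.B (nat_lit 7657) (Step.D (nat_lit 6008) Step.done))))) (Scr.cons (nat_lit 12) (nat_lit 1) (Step.L (Step.L (Step.L (Step.L (Step.D (nat_lit 2373) Step.done))))) (Scr.cons (nat_lit 13) (nat_lit 0) (Step.U (nat_lit 9164) (Step.F (nat_lit 7659) (Step.F (nat_lit 7657) (Step.U (nat_lit 3208) (Step.U (nat_lit 1617) (Step.L (Step.L (Step.B (nat_lit 7660) (Step.D (nat_lit 4417) (Step.D (nat_lit 7335) (Step.D (nat_lit 10406) Step.done))))))))))) (Scr.cons (nat_lit 1) (nat_lit 0) (Step.F (nat_lit 7656) (Step.B (nat_lit 6538) (Step.L Step.done))) (Scr.cons (nat_lit 1) (nat_lit 0) (Step.D (nat_lit 3209) (Step.B (nat_lit 7662) (Step.L Step.done))) (Scr.cons (nat_lit 0) (nat_lit 1) (Step.U (nat_lit 3208) (Step.B (nat_lit 7663) (Step.L Step.done))) (Scr.cons (nat_lit 1) (nat_lit 0) (Step.F (nat_lit 7657) (Step.B (nat_lit 7664) (Step.L Step.done))) (Scr.cons (nat_lit 0) (nat_lit 1) (Step.U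 (nat_lit 6008) (Step.B (nat_lit 7665) (Step.L Step.done))) (Scr.cons (nat_lit 1) (nat_lit 1) (Step.U (nat_lit 9164) (Step.B (nat_lit 7666) (Step.L Step.done))) (Scr.cons (nat_lit 0) (nat_lit 1) (Step.F (nat_lit 7661) (Step.B (nat_lit 7667) (Step.D (nat_lit 9042) Step.done))) (Scr.cons (nat_lit 1) (nat_lit 1) (Step.D (nat_lit 10406) (Step.B (nat_lit 7668) Step.done)) (Scr.cons (nat_lit 12) (nat_lit 4) (Step.L (Step.L (Step.L (Step.L (Step.D (nat_lit 9042) Step.done))))) (Scr.cons (nat_lit 12) (nat_lit 4) (Step.U (nat_lit 711) (Step.L (Step.L (Step.D (nat_lit 711) (Step.D (nat_lit 1663) Step.done))))) (Scr.cons (nat_lit 12) (nat_lit 1) (Step.L (Step.L (Step.L (Step.L (Step.D (nat_lit 71) Step.done))))) (Scr.cons (nat_lit 15) (nat_lit 0) (Step.U (nat_lit 253) (Step.F (nat_lit 7672) (Step.L (Step.L (Step.L (Step.L (Step.L (Step.L (Step.L (Step.L (Step.L (Step.L (Step.L (Step.D (nat_lit 251) (Step.D (nat_lit 708) Step.done))))))))))))))) (Scr.cons (nat_lit 6) (nat_lit 1) (Step.U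 (nat_lit 3315) (Step.F (nat_lit 7671) (Step.U (nat_lit 711) (Step.L (Step.L (Step.D (nat_lit 71) (Step.D (nat_lit 253) (Step.B (nat_lit 7673) (Step.D (nat_lit 1659) (Step.D (nat_lit 3304) (Step.D (nat_lit 5856) Step.done))))))))))) (Scr.cons (nat_lit 12) (nat_lit 4) (Step.L (Step.L (Step.L (Step.L (Step.D (nat_lit 251) Step.done))))) (Scr.cons (nat_lit 12) (nat_lit 4) (Step.U (nat_lit 708) (Step.F (nat_lit 7675) (Step.D (nat_lit 251) (Step.D (nat_lit 708) (Step.F (nat_lit 7673) Step.done))))) (Scr.cons (nat_lit 12) (nat_lit 4) (Step.U (nat_lit 1659) (Step.F (nat_lit 7673) (Step.F (nat_lit 7676) (Step.D (nat_lit 1659) (Step.D (nat_lit 3304) Step.done))))) (Scr.cons (nat_lit 13) (nat_lit 2) (Step.U (nat_lit 3315) (Step.U (nat_lit 1663) (Step.U (nat_lit 711) (Step.L (Step.L (Step.B (nat_lit 7672) (Step.D (nat_lit 253) (Step.F (nat_lit 7676) (Step.D (nat_lit 1659) (Step.B (nat_lit 7677) (Step.D (nat_lit 5856) Step.done))))))))))) (Scr.cons (nat_lit 12) (nat_lit 1) (Step.U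 (nat_lit 5878) (Step.B (nat_lit 7674) (Step.F (nat_lit 7678) (Step.D (nat_lit 5878) (Step.D (nat_lit 9030) Step.done))))) (Scr.cons (nat_lit 12) (nat_lit 1) (Step.U (nat_lit 712) (Step.L (Step.L (Step.D (nat_lit 712) (Step.D (nat_lit 1665) Step.done))))) (Scr.cons (nat_lit 12) (nat_lit 1) (Step.U (nat_lit 1666) (Step.D (nat_lit 1665) (Step.F (nat_lit 7680) (Step.D (nat_lit 1666) (Step.D (nat_lit 3317) Step.done))))) (Scr.cons (nat_lit 12) (nat_lit 1) (Step.U (nat_lit 531) (Step.L (Step.L (Step.D (nat_lit 531) (Step.D (nat_lit 1304) Step.done))))) Scr.nil))))))))))))))))))))))))))))))))))))))))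
noncomputable def s192 : Scr := (Scr.cons (nat_lit 12) (nat_lit 1) (Step.U (nat_lit 1305) (Step.D (nat_lit 1304) (Step.F (nat_lit 7682) (Step.D (nat_lit 1305) (Step.D (nat_lit 2671) Step.done))))) (Scr.cons (nat_lit 12) (nat_lit 4) (Step.U (nat_lit 4885) (Step.F (nat_lit 7683) (Step.D (nat_lit 2671) (Step.D (nat_lit 4885) (Step.D (nat_lit 7886) Step.done))))) (Scr.cons (nat_lit 12) (nat_lit 4) (Step.U (nat_lit 7887) (Step.D (nat_lit 7886) (Step.F (nat_lit 7684) (Step.D (nat_lit 7887) (Step.D (nat_lit 10883) Step.done))))) (Scr.cons (nat_lit 12) (nat_lit 1) (Step.L (Step.L (Step.L (Step.L (Step.D (nat_lit 188) Step.done))))) (Scr.cons (nat_lit 12) (nat_lit 1) (Step.U (nat_lit 538) (Step.F (nat_lit 7686) (Step.D (nat_lit 188) (Step.D (nat_lit 538) (Step.D (nat_lit 1323) Step.done))))) (Scr.cons (nat_lit 12) (nat_lit 1) (Step.U (nat_lit 1324) (Step.D (nat_lit 1323) (Step.F (nat_lit 7687) (Step.D (nat_lit 1324) (Step.D (nat_lit 2709) Step.done))))) (Scr.cons (nat_lit 12)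 (nat_lit 4) (Step.U (nat_lit 710) (Step.L (Step.L (Step.D (nat_lit 710) (Step.D (nat_lit 1662) Step.done))))) (Scr.cons (nat_lit 12) (nat_lit 4) (Step.U (nat_lit 3312) (Step.F (nat_lit 7689) (Step.D (nat_lit 1662) (Step.D (nat_lit 3312) (Step.D (nat_lit 5872) Step.done))))) (Scr.cons (nat_lit 12) (nat_lit 4) (Step.U (nat_lit 5873) (Step.D (nat_lit 5872) (Step.F (nat_lit 7690) (Step.D (nat_lit 5873) (Step.D (nat_lit 9023) Step.done))))) (Scr.cons (nat_lit 14) (nat_lit 4) (Step.U (nat_lit 7696) (Step.U (nat_lit 4719) (Step.U (nat_lit 2561) (Step.D (nat_lit 2562) (Step.F (nat_lit 5026) (Step.D (nat_lit 2563) (Step.D (nat_lit 4721) (Step.F (nat_lit 5020) (Step.L (Step.L (Step.L (Step.L (Step.L (Step.L (Step.L (Step.D (nat_lit 710) (Step.B (nat_lit 7689) (Step.D (nat_lit 3312) (Step.D (nat_lit 5873) (Step.D (nat_lit 9023) Step.done)))))))))))))))))))) (Scr.cons (nat_lit 11) (nat_lit 0) (Step.F (nat_lit 7692) (Step.U (nat_lit 7696) (Step.U (nat_lit 4719) (Step.D (nat_lit 4718)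 (Step.D (nat_lit 7695) Step.done))))) (Scr.cons (nat_lit 1) (nat_lit 1) (Step.U (nat_lit 7695) (Step.B (nat_lit 7534) (Step.L Step.done))) (Scr.cons (nat_lit 1) (nat_lit 1) (Step.B (nat_lit 7693) (Step.B (nat_lit 7694) (Step.L Step.done))) (Scr.cons (nat_lit 0) (nat_lit 1) (Step.B (nat_lit 7691) (Step.B (nat_lit 7695) (Step.D (nat_lit 188) Step.done))) (Scr.cons (nat_lit 1) (nat_lit 0) (Step.D (nat_lit 5873) (Step.B (nat_lit 7696) (Step.D (nat_lit 538) Step.done))) (Scr.cons (nat_lit 1) (nat_lit 0) (Step.D (nat_lit 3312) (Step.B (nat_lit 7697) (Step.D (nat_lit 1324) Step.done))) (Scr.cons (nat_lit 0) (nat_lit 1) (Step.B (nat_lit 7689) (Step.B (nat_lit 7698) (Step.D (nat_lit 2709) Step.done))) (Scr.cons (nat_lit 0) (nat_lit 0) (Step.B (nat_lit 7688) (Step.F (nat_lit 7699) Step.done)) (Scr.cons (nat_lit 6) (nat_lit 3) (Step.U (nat_lit 537) (Step.U (nat_lit 188) (Step.L (Step.L (Step.L (Step.L (Step.L (Step.L (Step.L (Step.L (Step.D (nat_lit 1263) Step.done))))))))))) (Scr.cons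 (nat_lit 1) (nat_lit 0) (Step.D (nat_lit 2668) (Step.F (nat_lit 7643) Step.done)) (Scr.cons (nat_lit 11) (nat_lit 0) (Step.U (nat_lit 1305) (Step.U (nat_lit 531) (Step.L (Step.L (Step.D (nat_lit 2669) Step.done))))) (Scr.cons (nat_lit 14) (nat_lit 4) (Step.L (Step.L (Step.L (Step.L (Step.L (Step.D (nat_lit 710) (Step.F (nat_lit 7700) (Step.U (nat_lit 1324) (Step.U (nat_lit 538) (Step.D (nat_lit 537) (Step.B (nat_lit 7701) (Step.D (nat_lit 2592) (Step.F (nat_lit 7702) (Step.F (nat_lit 173) (Step.L (Step.D (nat_lit 2669) (Step.F (nat_lit 7703) (Step.B (nat_lit 7683) (Step.D (nat_lit 4885) (Step.D (nat_lit 7887) (Step.D (nat_lit 10883) Step.done))))))))))))))))))))) (Scr.cons (nat_lit 0) (nat_lit 1) (Step.B (nat_lit 7685) (Step.F (nat_lit 7704) (Step.L Step.done))) (Scr.cons (nat_lit 1) (nat_lit 0) (Step.D (nat_lit 7887) (Step.B (nat_lit 7705) (Step.D (nat_lit 712) Step.done))) (Scr.cons (nat_lit 1) (nat_lit 0) (Step.D (nat_lit 4885) (Step.B (nat_lit 7706) (Step.D (nat_lit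 1666) Step.done))) (Scr.cons (nat_lit 0) (nat_lit 1) (Step.B (nat_lit 7683) (Step.B (nat_lit 7707) (Step.D (nat_lit 3317) Step.done))) (Scr.cons (nat_lit 0) (nat_lit 0) (Step.B (nat_lit 7681) (Step.F (nat_lit 7708) Step.done)) (Scr.cons (nat_lit 11) (nat_lit 0) (Step.U (nat_lit 1666) (Step.U (nat_lit 712) (Step.D (nat_lit 711) (Step.D (nat_lit 1664) (Step.D (nat_lit 3316) Step.done))))) (Scr.cons (nat_lit 7) (nat_lit 1) (Step.U (nat_lit 4875) (Step.U (nat_lit 2662) (Step.U (nat_lit 1299) (Step.L (Step.L (Step.L (Step.L (Step.L (Step.L (Step.L (Step.D (nat_lit 531) (Step.D (nat_lit 1305) (Step.F (nat_lit 7709) (Step.B (nat_lit 7710) (Step.U (nat_lit 3316) (Step.U (nat_lit 1664) (Step.B (nat_lit 7671) (Step.D (nat_lit 3315) (Step.D (nat_lit 5878) (Step.D (nat_lit 9030) (Step.D (nat_lit 11593) Step.done))))))))))))))))))))) (Scr.cons (nat_lit 1) (nat_lit 1) (Step.D (nat_lit 11593) (Step.F (nat_lit 7711) (Step.D (nat_lit 7870) Step.done))) (Scr.cons (nat_lit 0) (nat_lit 1)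 (Step.B (nat_lit 7679) (Step.B (nat_lit 7712) (Step.D (nat_lit 10867) Step.done))) (Scr.cons (nat_lit 0) (nat_lit 1) (Step.D (nat_lit 10867) (Step.F (nat_lit 7713) Step.done)) (Scr.cons (nat_lit 12) (nat_lit 4) (Step.L (Step.L (Step.L (Step.L (Step.D (nat_lit 1299) Step.done))))) (Scr.cons (nat_lit 12) (nat_lit 4) (Step.U (nat_lit 2662) (Step.F (nat_lit 7715) (Step.D (nat_lit 1299) (Step.D (nat_lit 2662) (Step.D (nat_lit 4874) Step.done))))) (Scr.cons (nat_lit 12) (nat_lit 4) (Step.U (nat_lit 4875) (Step.D (nat_lit 4874) (Step.F (nat_lit 7716) (Step.D (nat_lit 4875) (Step.D (nat_lit 7869) Step.done))))) (Scr.cons (nat_lit 13) (nat_lit 0) (Step.U (nat_lit 3210) (Step.L (Step.L (Step.L (Step.L (Step.L (Step.L (Step.L (Step.L (Step.L (Step.D (nat_lit 5688) Step.done))))))))))) (Scr.cons (nat_lit 14) (nat_lit 4) (Step.U (nat_lit 5689) (Step.D (nat_lit 5688) (Step.F (nat_lit 7718) (Step.D (nat_lit 5691) (Step.F (nat_lit 6519) (Step.F (nat_lit 6520) (Step.B (nat_lit 6514) (Step.U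 (nat_lit 4851) (Step.U (nat_lit 2645) (Step.U (nat_lit 1288) (Step.F (nat_lit 385) (Step.U (nat_lit 182) (Step.D (nat_lit 181) (Step.F (nat_lit 6477) (Step.L (Step.L (Step.B (nat_lit 7715) (Step.D (nat_lit 2662) (Step.D (nat_lit 4875) (Step.D (nat_lit 7869) Step.done)))))))))))))))))))) (Scr.cons (nat_lit 4) (nat_lit 0) (Step.U (nat_lit 8792) (Step.U (nat_lit 5688) (Step.D (nat_lit 5689) (Step.B (nat_lit 7719) (Step.D (nat_lit 10866) Step.done))))) (Scr.cons (nat_lit 11) (nat_lit 0) (Step.U (nat_lit 3278) (Step.L (Step.L (Step.L (Step.D (nat_lit 5812) Step.done))))) (Scr.cons (nat_lit 12) (nat_lit 1) (Step.L (Step.L (Step.L (Step.L (Step.D (nat_lit 3059) Step.done))))) Scr.nil))))))))))))))))))))))))))))))))))))))))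
noncomputable def s193 : Scr := (Scr.cons (nat_lit 14) (nat_lit 3) (Step.F (nat_lit 7721) (Step.U (nat_lit 3278) (Step.L (Step.L (Step.L (Step.L (Step.L (Step.L (Step.L (Step.L (Step.L (Step.L (Step.L (Step.L (Step.L (Step.L (Step.L (Step.B (nat_lit 7722) (Step.D (nat_lit 5480) (Step.D (nat_lit 8567) Step.done)))))))))))))))))))) (Scr.cons (nat_lit 12) (nat_lit 1) (Step.U (nat_lit 5481) (Step.F (nat_lit 7722) (Step.D (nat_lit 3059) (Step.D (nat_lit 5481) (Step.D (nat_lit 8568) Step.done))))) (Scr.cons (nat_lit 9) (nat_lit 0) (Step.U (nat_lit 10359) (Step.U (nat_lit 7290) (Step.U (nat_lit 4371) (Step.D (nat_lit 4372) (Step.B (nat_lit 832) (Step.U (nat_lit 2352) (Step.L (Step.L (Step.L (Step.L (Step.L (Step.L (Step.L (Step.L (Step.L (Step.L (Step.L (Step.L (Step.L (Step.L (Step.B (nat_lit 7722) (Step.D (nat_lit 5481) (Step.B (nat_lit 7724) Step.done))))))))))))))))))))))) (Scr.cons (nat_lit 1) (nat_lit 0) (Step.B (nat_lit 7170) (Step.F (nat_lit 7171) Step.done)) (Scr.cons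 (nat_lit 12) (nat_lit 4) (Step.U (nat_lit 436) (Step.L (Step.L (Step.D (nat_lit 436) (Step.D (nat_lit 1119) Step.done))))) (Scr.cons (nat_lit 12) (nat_lit 4) (Step.U (nat_lit 2346) (Step.F (nat_lit 7727) (Step.D (nat_lit 1119) (Step.D (nat_lit 2346) (Step.D (nat_lit 4375) Step.done))))) (Scr.cons (nat_lit 12) (nat_lit 1) (Step.U (nat_lit 7294) (Step.F (nat_lit 7728) (Step.D (nat_lit 4375) (Step.D (nat_lit 7294) (Step.D (nat_lit 10362) Step.done))))) (Scr.cons (nat_lit 6) (nat_lit 1) (Step.U (nat_lit 10362) (Step.U (nat_lit 7294) (Step.F (nat_lit 7728) (Step.U (nat_lit 2346) (Step.U (nat_lit 1119) (Step.D (nat_lit 1120) (Step.D (nat_lit 2348) (Step.D (nat_lit 4379) (Step.F (nat_lit 6040) (Step.F (nat_lit 6041) (Step.D (nat_lit 5378) (Step.D (nat_lit 8436) Step.done)))))))))))) (Scr.cons (nat_lit 0) (nat_lit 0) (Step.B (nat_lit 7729) (Step.B (nat_lit 7730) Step.done)) (Scr.cons (nat_lit 12) (nat_lit 1) (Step.L (Step.L (Step.L (Step.L (Step.D (nat_lit 7916) Step.done)))))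 (Scr.cons (nat_lit 12) (nat_lit 1) (Step.L (Step.L (Step.L (Step.L (Step.D (nat_lit 5378) Step.done))))) (Scr.cons (nat_lit 12) (nat_lit 1) (Step.F (nat_lit 6041) (Step.D (nat_lit 5378) (Step.F (nat_lit 7733) (Step.B (nat_lit 6041) (Step.D (nat_lit 8433) Step.done))))) (Scr.cons (nat_lit 0) (nat_lit 0) (Step.B (nat_lit 7734) (Step.F (nat_lit 6039) Step.done)) (Scr.cons (nat_lit 16) (nat_lit 4) (Step.U (nat_lit 10902) (Step.F (nat_lit 7732) (Step.L (Step.L (Step.L (Step.L (Step.L (Step.L (Step.L (Step.L (Step.L (Step.L (Step.L (Step.L (Step.L (Step.D (nat_lit 2456) (Step.D (nat_lit 4572) (Step.B (nat_lit 6022) (Step.U (nat_lit 7296) (Step.F (nat_lit 7735) (Step.F (nat_lit 6041) (Step.D (nat_lit 5378) (Step.D (nat_lit 8435) Step.done))))))))))))))))))))))) (Scr.cons (nat_lit 11) (nat_lit 0) (Step.U (nat_lit 8436) (Step.D (nat_lit 8435) (Step.F (nat_lit 7736) (Step.U (nat_lit 10902) (Step.D (nat_lit 10901) Step.done))))) (Scr.cons (nat_lit 12) (nat_lit 4) (Step.U (nat_lit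 5464) (Step.F (nat_lit 444) (Step.D (nat_lit 3039) (Step.D (nat_lit 5464) (Step.D (nat_lit 8551) Step.done))))) (Scr.cons (nat_lit 13) (nat_lit 1) (Step.U (nat_lit 10561) (Step.F (nat_lit 3856) (Step.L (Step.L (Step.L (Step.L (Step.L (Step.L (Step.L (Step.D (nat_lit 3039) (Step.D (nat_lit 5464) (Step.B (nat_lit 7738) Step.done)))))))))))) (Scr.cons (nat_lit 1) (nat_lit 1) (Step.D (nat_lit 10561) (Step.B (nat_lit 7739) Step.done)) (Scr.cons (nat_lit 12) (nat_lit 1) (Step.U (nat_lit 5465) (Step.F (nat_lit 444) (Step.D (nat_lit 3039) (Step.D (nat_lit 5465) (Step.D (nat_lit 8552) Step.done))))) (Scr.cons (nat_lit 13) (nat_lit 0) (Step.U (nat_lit 1442) (Step.F (nat_lit 4045) (Step.L (Step.L (Step.L (Step.L (Step.L (Step.B (nat_lit 3806) (Step.D (nat_lit 600) (Step.D (nat_lit 1436) (Step.D (nat_lit 2909) Step.done))))))))))) (Scr.cons (nat_lit 15) (nat_lit 1) (Step.F (nat_lit 7741) (Step.U (nat_lit 5465) (Step.F (nat_lit 444) (Step.L (Step.L (Step.L (Step.L (Step.L (Step.L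 (Step.L (Step.D (nat_lit 604) (Step.D (nat_lit 1442) (Step.B (nat_lit 7742) (Step.D (nat_lit 5260) (Step.D (nat_lit 8300) Step.done))))))))))))))) (Scr.cons (nat_lit 1) (nat_lit 0) (Step.D (nat_lit 5276) (Step.B (nat_lit 7467) (Step.L Step.done))) (Scr.cons (nat_lit 1) (nat_lit 0) (Step.D (nat_lit 2921) (Step.B (nat_lit 7744) (Step.L Step.done))) (Scr.cons (nat_lit 0) (nat_lit 1) (Step.F (nat_lit 7742) (Step.B (nat_lit 7745) (Step.L Step.done))) (Scr.cons (nat_lit 1) (nat_lit 1) (Step.U (nat_lit 5260) (Step.B (nat_lit 7746) (Step.L Step.done))) (Scr.cons (nat_lit 0) (nat_lit 1) (Step.U (nat_lit 8300) (Step.B (nat_lit 7747) (Step.L Step.done))) (Scr.cons (nat_lit 1) (nat_lit 1) (Step.B (nat_lit 7743) (Step.B (nat_lit 7748) (Step.L Step.done))) (Scr.cons (nat_lit 0) (nat_lit 1) (Step.B (nat_lit 7741) (Step.B (nat_lit 7749) (Step.L Step.done))) (Scr.cons (nat_lit 1) (nat_lit 1) (Step.D (nat_lit 5465) (Step.B (nat_lit 7750) (Step.L Step.done))) (Scr.cons (nat_lit 1) (nat_lit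 1) (Step.U (nat_lit 5464) (Step.B (nat_lit 7751) (Step.L Step.done))) (Scr.cons (nat_lit 0) (nat_lit 1) (Step.U (nat_lit 8551) (Step.B (nat_lit 7752) (Step.L Step.done))) (Scr.cons (nat_lit 1) (nat_lit 0) (Step.B (nat_lit 7740) (Step.B (nat_lit 7753) (Step.L Step.done))) (Scr.cons (nat_lit 0) (nat_lit 1) (Step.B (nat_lit 3856) (Step.B (nat_lit 7754) (Step.D (nat_lit 7916) Step.done))) (Scr.cons (nat_lit 1) (nat_lit 1) (Step.U (nat_lit 10901) (Step.F (nat_lit 7755) (Step.L Step.done))) (Scr.cons (nat_lit 1) (nat_lit 1) (Step.B (nat_lit 7737) (Step.B (nat_lit 7756) (Step.L Step.done))) (Scr.cons (nat_lit 0) (nat_lit 1) (Step.B (nat_lit 7731) (Step.B (nat_lit 7757) (Step.L Step.done))) (Scr.cons (nat_lit 1) (nat_lit 1) (Step.D (nat_lit 7294) (Step.B (nat_lit 7758) (Step.L Step.done))) (Scr.cons (nat_lit 0) (nat_lit 1) (Step.B (nat_lit 7728) (Step.B (nat_lit 7759) (Step.L Step.done))) (Scr.cons (nat_lit 1) (nat_lit 0) (Step.D (nat_lit 2346) (Step.B (nat_lit 7760) (Step.L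 Step.done))) (Scr.cons (nat_lit 0) (nat_lit 1) (Step.B (nat_lit 7727) (Step.B (nat_lit 7761) (Step.L Step.done))) Scr.nil))))))))))))))))))))))))))))))))))))))))
noncomputable def s194 : Scr := (Scr.cons (nat_lit 1) (nat_lit 0) (Step.D (nat_lit 436) (Step.B (nat_lit 7762) (Step.D (nat_lit 159) Step.done))) (Scr.cons (nat_lit 1) (nat_lit 0) (Step.U (nat_lit 467) (Step.F (nat_lit 7763) (Step.L Step.done))) (Scr.cons (nat_lit 0) (nat_lit 1) (Step.U (nat_lit 1179) (Step.B (nat_lit 7764) (Step.L Step.done))) (Scr.cons (nat_lit 1) (nat_lit 0) (Step.U (nat_lit 2449) (Step.B (nat_lit 7765) (Step.L Step.done))) (Scr.cons (nat_lit 0) (nat_lit 1) (Step.U (nat_lit 4555) (Step.B (nat_lit 7766) (Step.L Step.done))) (Scr.cons (nat_lit 1) (nat_lit 1) (Step.B (nat_lit 7726) (Step.B (nat_lit 7767) (Step.L Step.done))) (Scr.cons (nat_lit 1) (nat_lit 1) (Step.D (nat_lit 4807) (Step.B (nat_lit 7768) (Step.L Step.done))) (Scr.cons (nat_lit 1) (nat_lit 1) (Step.D (nat_lit 2617) (Step.B (nat_lit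 7769) (Step.L Step.done))) (Scr.cons (nat_lit 0) (nat_lit 1) (Step.B (nat_lit 164) (Step.B (nat_lit 7770) (Step.D (nat_lit 1118) Step.done))) (Scr.cons (nat_lit 1) (nat_lit 0) (Step.U (nat_lit 2343) (Step.F (nat_lit 7771) (Step.L Step.done))) (Scr.cons (nat_lit 0) (nat_lit 1) (Step.U (nat_lit 4371) (Step.B (nat_lit 7772) (Step.L Step.done))) (Scr.cons (nat_lit 1) (nat_lit 1) (Step.U (nat_lit 7290) (Step.B (nat_lit 7773) (Step.L Step.done))) (Scr.cons (nat_lit 1) (nat_lit 1) (Step.U (nat_lit 10359) (Step.B (nat_lit 7774) (Step.L Step.done))) (Scr.cons (nat_lit 1) (nat_lit 1) (Step.F (nat_lit 7725) (Step.B (nat_lit 7775) (Step.L Step.done))) (Scr.cons (nat_lit 0) (nat_lit 1) (Step.B (nat_lit 7724) (Step.B (nat_lit 7776) (Step.L Step.done))) (Scr.cons (nat_lit 1) (nat_lit 1) (Step.D (nat_lit 5481) (Step.B (nat_lit 7777) (Step.L Step.done))) (Scr.cons (nat_lit 1) (nat_lit 1) (Step.U (nat_lit 5480) (Step.B (nat_lit 7778) (Step.L Step.done))) (Scr.cons (nat_lit 1) (nat_lit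 1) (Step.U (nat_lit 8567) (Step.B (nat_lit 7779) (Step.L Step.done))) (Scr.cons (nat_lit 0) (nat_lit 1) (Step.B (nat_lit 7723) (Step.B (nat_lit 7780) (Step.D (nat_lit 7809) Step.done))) (Scr.cons (nat_lit 12) (nat_lit 1) (Step.L (Step.L (Step.L (Step.L (Step.D (nat_lit 4817) Step.done))))) (Scr.cons (nat_lit 12) (nat_lit 1) (Step.L (Step.D (nat_lit 4817) (Step.F (nat_lit 7782) (Step.L (Step.D (nat_lit 7809) Step.done))))) (Scr.cons (nat_lit 12) (nat_lit 1) (Step.L (Step.L (Step.L (Step.L (Step.D (nat_lit 2621) Step.done))))) (Scr.cons (nat_lit 12) (nat_lit 1) (Step.L (Step.D (nat_lit 2621) (Step.F (nat_lit 7784) (Step.L (Step.D (nat_lit 4819) Step.done))))) (Scr.cons (nat_lit 14) (nat_lit 2) (Step.F (nat_lit 7783) (Step.L (Step.L (Step.L (Step.L (Step.L (Step.L (Step.L (Step.L (Step.L (Step.L (Step.L (Step.L (Step.L (Step.L (Step.L (Step.L (Step.L (Step.B (nat_lit 7785) (Step.D (nat_lit 7814) Step.done)))))))))))))))))))) (Scr.cons (nat_lit 12) (nat_lit 1) (Step.U (nat_lit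 2620) (Step.L (Step.L (Step.D (nat_lit 2620) (Step.D (nat_lit 4818) Step.done))))) (Scr.cons (nat_lit 12) (nat_lit 1) (Step.U (nat_lit 7813) (Step.F (nat_lit 7787) (Step.D (nat_lit 4818) (Step.D (nat_lit 7813) (Step.D (nat_lit 10816) Step.done))))) (Scr.cons (nat_lit 6) (nat_lit 0) (Step.U (nat_lit 4818) (Step.U (nat_lit 2620) (Step.L (Step.L (Step.L (Step.L (Step.L (Step.L (Step.L (Step.L (Step.D (nat_lit 5188) Step.done))))))))))) (Scr.cons (nat_lit 15) (nat_lit 1) (Step.F (nat_lit 6877) (Step.U (nat_lit 2892) (Step.L (Step.L (Step.L (Step.L (Step.L (Step.L (Step.L (Step.L (Step.L (Step.L (Step.L (Step.D (nat_lit 1427) (Step.D (nat_lit 2896) Step.done))))))))))))))) (Scr.cons (nat_lit 14) (nat_lit 6) (Step.F (nat_lit 7790) (Step.U (nat_lit 5232) (Step.U (nat_lit 2892) (Step.L (Step.L (Step.L (Step.L (Step.L (Step.L (Step.L (Step.L (Step.L (Step.L (Step.L (Step.L (Step.L (Step.L (Step.D (nat_lit 2557) (Step.D (nat_lit 4710) (Step.D (nat_lit 7683) (Step.D (nat_lit 10707)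 Step.done))))))))))))))))))))) (Scr.cons (nat_lit 1) (nat_lit 0) (Step.D (nat_lit 10707) (Step.F (nat_lit 7791) (Step.D (nat_lit 5244) Step.done))) (Scr.cons (nat_lit 1) (nat_lit 0) (Step.D (nat_lit 7683) (Step.B (nat_lit 7792) (Step.D (nat_lit 8281) Step.done))) (Scr.cons (nat_lit 1) (nat_lit 0) (Step.D (nat_lit 8281) (Step.F (nat_lit 7793) Step.done)) (Scr.cons (nat_lit 12) (nat_lit 4) (Step.L (Step.L (Step.L (Step.L (Step.D (nat_lit 2875) Step.done))))) (Scr.cons (nat_lit 12) (nat_lit 1) (Step.L (Step.L (Step.L (Step.L (Step.D (nat_lit 1417) Step.done))))) (Scr.cons (nat_lit 12) (nat_lit 1) (Step.U (nat_lit 2874) (Step.F (nat_lit 7796) (Step.D (nat_lit 1417) (Step.D (nat_lit 2874) (Step.D (nat_lit 5185) Step.done))))) (Scr.cons (nat_lit 8) (nat_lit 1) (Step.U (nat_lit 5187) (Step.U (nat_lit 2875) (Step.L (Step.L (Step.L (Step.L (Step.L (Step.L (Step.L (Step.L (Step.L (Step.B (nat_lit 7796) (Step.D (nat_lit 2874) (Step.B (nat_lit 7797) (Step.D (nat_lit 8202) Step.done)))))))))))))))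 (Scr.cons (nat_lit 12) (nat_lit 0) (Step.B (nat_lit 7798) (Step.U (nat_lit 8202) (Step.F (nat_lit 7797) (Step.D (nat_lit 5185) (Step.D (nat_lit 8202) Step.done))))) (Scr.cons (nat_lit 11) (nat_lit 0) (Step.U (nat_lit 4701) (Step.U (nat_lit 2553) (Step.L (Step.D (nat_lit 4699) (Step.D (nat_lit 7668) Step.done))))) (Scr.cons (nat_lit 12) (nat_lit 1) (Step.U (nat_lit 2553) (Step.L (Step.L (Step.D (nat_lit 2553) (Step.D (nat_lit 4700) Step.done))))) (Scr.cons (nat_lit 12) (nat_lit 1) (Step.U (nat_lit 4701) (Step.D (nat_lit 4700) (Step.F (nat_lit 7801) (Step.D (nat_lit 4701) (Step.D (nat_lit 7669) Step.done))))) Scr.nil))))))))))))))))))))))))))))))))))))))))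
noncomputable def s195 : Scr := (Scr.cons (nat_lit 12) (nat_lit 1) (Step.F (nat_lit 7800) (Step.D (nat_lit 7669) (Step.F (nat_lit 7802) (Step.B (nat_lit 7800) (Step.D (nat_lit 10695) Step.done))))) (Scr.cons (nat_lit 12) (nat_lit 1) (Step.F (nat_lit 6864) (Step.D (nat_lit 4712) (Step.F (nat_lit 6866) (Step.B (nat_lit 6864) (Step.D (nat_lit 7685) Step.done))))) (Scr.cons (nat_lit 7) (nat_lit 5) (Step.F (nat_lit 7803) (Step.U (nat_lit 7668) (Step.U (nat_lit 4699) (Step.L (Step.L (Step.L (Step.L (Step.L (Step.L (Step.L (Step.L (Step.L (Step.L (Step.L (Step.L (Step.D (nat_lit 1241) (Step.D (nat_lit 2559) (Step.B (nat_lit 6864) (Step.B (nat_lit 7804) (Step.D (nat_lit 10710) Step.done)))))))))))))))))))) (Scr.cons (nat_lit 1) (nat_lit 1) (Step.D (nat_lit 4445) (Step.B (nat_lit 7465) (Step.D (nat_lit 4699) Step.done))) (Scr.cons (nat_lit 1) (nat_lit 1) (Step.U (nat_lit 7668) (Step.F (nat_lit 7806) (Step.L Step.done))) (Scr.cons (nat_lit 0) (nat_lit 1) (Step.U (nat_lit 10695)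 (Step.B (nat_lit 7807) (Step.L Step.done))) (Scr.cons (nat_lit 1) (nat_lit 1) (Step.F (nat_lit 7805) (Step.B (nat_lit 7808) (Step.D (nat_lit 7452) Step.done))) (Scr.cons (nat_lit 1) (nat_lit 1) (Step.D (nat_lit 10710) (Step.B (nat_lit 7809) (Step.B (nat_lit 3992) Step.done))) (Scr.cons (nat_lit 1) (nat_lit 1) (Step.D (nat_lit 8327) (Step.F (nat_lit 7810) (Step.D (nat_lit 10709) Step.done))) (Scr.cons (nat_lit 1) (nat_lit 1) (Step.D (nat_lit 10709) (Step.F (nat_lit 7811) Step.done)) (Scr.cons (nat_lit 0) (nat_lit 1) (Step.U (nat_lit 1444) (Step.F (nat_lit 7609) (Step.D (nat_lit 1417) Step.done))) (Scr.cons (nat_lit 1) (nat_lit 0) (Step.U (nat_lit 2929) (Step.B (nat_lit 7813) (Step.D (nat_lit 2874) Step.done))) (Scr.cons (nat_lit 0) (nat_lit 1) (Step.U (nat_lit 5290) (Step.B (nat_lit 7814) (Step.D (nat_lit 5185) Step.done))) (Scr.cons (nat_lit 1) (nat_lit 0) (Step.B (nat_lit 7812) (Step.B (nat_lit 7815) (Step.D (nat_lit 8202) Step.done))) (Scr.cons (nat_lit 0) (nat_lit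 1) (Step.B (nat_lit 7799) (Step.F (nat_lit 7816) (Step.F (nat_lit 7804) Step.done))) (Scr.cons (nat_lit 1) (nat_lit 0) (Step.D (nat_lit 5187) (Step.B (nat_lit 7817) (Step.U (nat_lit 4711) Step.done))) (Scr.cons (nat_lit 0) (nat_lit 1) (Step.B (nat_lit 7795) (Step.B (nat_lit 7818) (Step.D (nat_lit 4710) Step.done))) (Scr.cons (nat_lit 1) (nat_lit 1) (Step.B (nat_lit 7794) (Step.F (nat_lit 7819) (Step.L Step.done))) (Scr.cons (nat_lit 1) (nat_lit 1) (Step.D (nat_lit 5244) (Step.B (nat_lit 7820) (Step.L Step.done))) (Scr.cons (nat_lit 1) (nat_lit 1) (Step.B (nat_lit 7790) (Step.B (nat_lit 7821) (Step.L Step.done))) (Scr.cons (nat_lit 0) (nat_lit 1) (Step.B (nat_lit 6877) (Step.B (nat_lit 7822) (Step.D (nat_lit 5188) Step.done))) (Scr.cons (nat_lit 1) (nat_lit 0) (Step.B (nat_lit 7789) (Step.F (nat_lit 7823) (Step.D (nat_lit 5233) Step.done))) (Scr.cons (nat_lit 1) (nat_lit 0) (Step.F (nat_lit 6876) (Step.F (nat_lit 7824) (Step.D (nat_lit 7813) Step.done))) (Scr.cons (nat_lit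 0) (nat_lit 1) (Step.U (nat_lit 11216) (Step.B (nat_lit 7825) (Step.D (nat_lit 10816) Step.done))) (Scr.cons (nat_lit 0) (nat_lit 1) (Step.D (nat_lit 10960) (Step.F (nat_lit 6844) Step.done)) (Scr.cons (nat_lit 12) (nat_lit 0) (Step.B (nat_lit 3832) (Step.U (nat_lit 743) (Step.F (nat_lit 3831) (Step.D (nat_lit 266) (Step.D (nat_lit 743) Step.done))))) (Scr.cons (nat_lit 11) (nat_lit 0) (Step.U (nat_lit 1708) (Step.U (nat_lit 743) (Step.D (nat_lit 742) (Step.D (nat_lit 1707) (Step.D (nat_lit 3384) Step.done))))) (Scr.cons (nat_lit 1) (nat_lit 0) (Step.D (nat_lit 5263) (Step.B (nat_lit 3833) (Step.D (nat_lit 1708) Step.done))) (Scr.cons (nat_lit 1) (nat_lit 0) (Step.D (nat_lit 2911) (Step.B (nat_lit 7830) (Step.B (nat_lit 7829) Step.done))) (Scr.cons (nat_lit 1) (nat_lit 0) (Step.B (nat_lit 7829) (Step.F (nat_lit 7831) Step.done)) (Scr.cons (nat_lit 12) (nat_lit 4) (Step.U (nat_lit 494) (Step.F (nat_lit 7429) (Step.D (nat_lit 169) (Step.D (nat_lit 494) (Step.D (nat_lit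 1235) Step.done))))) (Scr.cons (nat_lit 11) (nat_lit 0) (Step.U (nat_lit 2731) (Step.L (Step.D (nat_lit 1340) (Step.D (nat_lit 2729) (Step.D (nat_lit 4970) Step.done))))) (Scr.cons (nat_lit 12) (nat_lit 1) (Step.L (Step.L (Step.L (Step.L (Step.D (nat_lit 2730) Step.done))))) (Scr.cons (nat_lit 12) (nat_lit 1) (Step.U (nat_lit 2731) (Step.D (nat_lit 2730) (Step.F (nat_lit 7835) (Step.D (nat_lit 2731) (Step.D (nat_lit 4971) Step.done))))) (Scr.cons (nat_lit 12) (nat_lit 1) (Step.F (nat_lit 7834) (Step.D (nat_lit 4971) (Step.F (nat_lit 7836) (Step.B (nat_lit 7834) (Step.D (nat_lit 7981) Step.done))))) (Scr.cons (nat_lit 11) (nat_lit 0) (Step.U (nat_lit 4959) (Step.U (nat_lit 2721) (Step.D (nat_lit 2720) (Step.D (nat_lit 4957) (Step.D (nat_lit 7969) Step.done))))) (Scr.cons (nat_lit 12) (nat_lit 4) (Step.U (nat_lit 192) (Step.L (Step.L (Step.D (nat_lit 192) (Step.D (nat_lit 543) Step.done))))) (Scr.cons (nat_lit 12) (nat_lit 4) (Step.U (nat_lit 544) (Step.D (nat_lit 543)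 (Step.F (nat_lit 7839) (Step.D (nat_lit 544) (Step.D (nat_lit 1333) Step.done))))) (Scr.cons (nat_lit 12) (nat_lit 1) (Step.U (nat_lit 2721) (Step.F (nat_lit 7840) (Step.D (nat_lit 1333) (Step.D (nat_lit 2721) (Step.D (nat_lit 4958) Step.done))))) (Scr.cons (nat_lit 12) (nat_lit 1) (Step.U (nat_lit 4959) (Step.D (nat_lit 4958) (Step.F (nat_lit 7841) (Step.D (nat_lit 4959) (Step.D (nat_lit 7970) Step.done))))) Scr.nil))))))))))))))))))))))))))))))))))))))))
noncomputable def s196 : Scr := (Scr.cons (nat_lit 12) (nat_lit 1) (Step.F (nat_lit 7838) (Step.D (nat_lit 7970) (Step.F (nat_lit 7842) (Step.B (nat_lit 7838) (Step.D (nat_lit 10952) Step.done))))) (Scr.cons (nat_lit 7) (nat_lit 5) (Step.F (nat_lit 7843) (Step.U (nat_lit 7969) (Step.U (nat_lit 4957) (Step.U (nat_lit 2720) (Step.U (nat_lit 1333) (Step.U (nat_lit 544) (Step.U (nat_lit 192) (Step.L (Step.L (Step.L (Step.L (Step.L (Step.L (Step.L (Step.L (Step.L (Step.D (nat_lit 2731) (Step.B (nat_lit 7834) (Step.B (nat_lit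 7837) (Step.D (nat_lit 10957) Step.done)))))))))))))))))))) (Scr.cons (nat_lit 11) (nat_lit 0) (Step.U (nat_lit 545) (Step.L (Step.D (nat_lit 192) (Step.D (nat_lit 544) (Step.D (nat_lit 1334) Step.done))))) (Scr.cons (nat_lit 12) (nat_lit 1) (Step.U (nat_lit 545) (Step.L (Step.L (Step.D (nat_lit 545) (Step.D (nat_lit 1335) Step.done))))) (Scr.cons (nat_lit 12) (nat_lit 1) (Step.F (nat_lit 7845) (Step.D (nat_lit 1335) (Step.F (nat_lit 7846) (Step.B (nat_lit 7845) (Step.D (nat_lit 2722) Step.done))))) (Scr.cons (nat_lit 7) (nat_lit 5) (Step.F (nat_lit 7847) (Step.U (nat_lit 1334) (Step.U (nat_lit 544) (Step.U (nat_lit 192) (Step.L (Step.L (Step.L (Step.L (Step.L (Step.L (Step.L (Step.L (Step.L (Step.L (Step.L (Step.L (Step.L (Step.L (Step.L (Step.D (nat_lit 2691) Step.done)))))))))))))))))))) (Scr.cons (nat_lit 1) (nat_lit 0) (Step.B (nat_lit 7848) (Step.F (nat_lit 5845) (Step.L Step.done))) (Scr.cons (nat_lit 0) (nat_lit 1) (Step.B (nat_lit 7847) (Step.B (nat_lit 7849)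 (Step.L Step.done))) (Scr.cons (nat_lit 1) (nat_lit 0) (Step.D (nat_lit 1334) (Step.B (nat_lit 7850) (Step.L Step.done))) (Scr.cons (nat_lit 0) (nat_lit 1) (Step.U (nat_lit 1333) (Step.B (nat_lit 7851) (Step.L Step.done))) (Scr.cons (nat_lit 1) (nat_lit 1) (Step.U (nat_lit 2720) (Step.B (nat_lit 7852) (Step.L Step.done))) (Scr.cons (nat_lit 1) (nat_lit 1) (Step.U (nat_lit 4957) (Step.B (nat_lit 7853) (Step.L Step.done))) (Scr.cons (nat_lit 1) (nat_lit 1) (Step.U (nat_lit 7969) (Step.B (nat_lit 7854) (Step.L Step.done))) (Scr.cons (nat_lit 0) (nat_lit 1) (Step.U (nat_lit 10952) (Step.B (nat_lit 7855) (Step.L Step.done))) (Scr.cons (nat_lit 1) (nat_lit 1) (Step.F (nat_lit 7844) (Step.B (nat_lit 7856) (Step.L Step.done))) (Scr.cons (nat_lit 1) (nat_lit 1) (Step.D (nat_lit 10957) (Step.B (nat_lit 7857) (Step.L Step.done))) (Scr.cons (nat_lit 0) (nat_lit 1) (Step.B (nat_lit 7837) (Step.B (nat_lit 7858) (Step.L Step.done))) (Scr.cons (nat_lit 1) (nat_lit 1) (Step.B (nat_lit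 7834) (Step.B (nat_lit 7859) (Step.L Step.done))) (Scr.cons (nat_lit 4) (nat_lit 0) (Step.F (nat_lit 2595) (Step.U (nat_lit 2530) (Step.L (Step.D (nat_lit 1224) (Step.D (nat_lit 2532) Step.done))))) (Scr.cons (nat_lit 1) (nat_lit 1) (Step.D (nat_lit 2731) (Step.B (nat_lit 7860) (Step.B (nat_lit 7861) Step.done))) (Scr.cons (nat_lit 1) (nat_lit 1) (Step.D (nat_lit 2532) (Step.F (nat_lit 7862) (Step.L Step.done))) (Scr.cons (nat_lit 0) (nat_lit 1) (Step.U (nat_lit 2531) (Step.B (nat_lit 7863) (Step.L Step.done))) (Scr.cons (nat_lit 1) (nat_lit 0) (Step.F (nat_lit 7434) (Step.B (nat_lit 7864) (Step.L Step.done))) (Scr.cons (nat_lit 0) (nat_lit 1) (Step.B (nat_lit 7833) (Step.B (nat_lit 7865) (Step.D (nat_lit 1339) Step.done))) (Scr.cons (nat_lit 0) (nat_lit 0) (Step.B (nat_lit 2668) (Step.F (nat_lit 7866) Step.done)) (Scr.cons (nat_lit 12) (nat_lit 1) (Step.U (nat_lit 600) (Step.F (nat_lit 3806) (Step.D (nat_lit 217) (Step.D (nat_lit 600) (Step.D (nat_lit 1436) Step.done)))))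 (Scr.cons (nat_lit 1) (nat_lit 0) (Step.D (nat_lit 2909) (Step.B (nat_lit 7746) (Step.L Step.done))) (Scr.cons (nat_lit 0) (nat_lit 1) (Step.B (nat_lit 7868) (Step.B (nat_lit 7869) (Step.L Step.done))) (Scr.cons (nat_lit 1) (nat_lit 1) (Step.D (nat_lit 600) (Step.B (nat_lit 7870) (Step.L Step.done))) (Scr.cons (nat_lit 0) (nat_lit 1) (Step.B (nat_lit 3806) (Step.B (nat_lit 7871) (Step.D (nat_lit 169) Step.done))) (Scr.cons (nat_lit 1) (nat_lit 1) (Step.U (nat_lit 494) (Step.F (nat_lit 7872) (Step.L Step.done))) (Scr.cons (nat_lit 0) (nat_lit 1) (Step.B (nat_lit 7867) (Step.B (nat_lit 7873) (Step.D (nat_lit 601) Step.done))) (Scr.cons (nat_lit 1) (nat_lit 1) (Step.U (nat_lit 1437) (Step.F (nat_lit 7874) (Step.L Step.done))) (Scr.cons (nat_lit 1) (nat_lit 1) (Step.B (nat_lit 7832) (Step.B (nat_lit 7875) (Step.L Step.done))) (Scr.cons (nat_lit 1) (nat_lit 1) (Step.D (nat_lit 1708) (Step.B (nat_lit 7876) (Step.L Step.done))) (Scr.cons (nat_lit 0) (nat_lit 1) (Step.B (nat_lit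 7828) (Step.B (nat_lit 7877) (Step.L Step.done))) (Scr.cons (nat_lit 1) (nat_lit 0) (Step.D (nat_lit 267) (Step.B (nat_lit 7878) (Step.L Step.done))) (Scr.cons (nat_lit 0) (nat_lit 1) (Step.B (nat_lit 233) (Step.B (nat_lit 7879) (Step.D (nat_lit 52) Step.done))) (Scr.cons (nat_lit 1) (nat_lit 0) (Step.U (nat_lit 195) (Step.F (nat_lit 7880) (Step.L Step.done))) (Scr.cons (nat_lit 0) (nat_lit 1) (Step.U (nat_lit 548) (Step.B (nat_lit 7881) (Step.L Step.done))) Scr.nil))))))))))))))))))))))))))))))))))))))))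
noncomputable def s197 : Scr := (Scr.cons (nat_lit 1) (nat_lit 0) (Step.U (nat_lit 1343) (Step.B (nat_lit 7882) (Step.L Step.done))) (Scr.cons (nat_lit 1) (nat_lit 0) (Step.U (nat_lit 2736) (Step.B (nat_lit 7883) (Step.L Step.done))) (Scr.cons (nat_lit 0) (nat_lit 1) (Step.U (nat_lit 4975) (Step.B (nat_lit 7884) (Step.L Step.done))) (Scr.cons (nat_lit 1) (nat_lit 1) (Step.U (nat_lit 7984) (Step.B (nat_lit 7885) (Step.L Step.done))) (Scr.cons (nat_lit 0) (nat_lit 1) (Step.F (nat_lit 7827) (Step.B (nat_lit 7886) (Step.L Step.done))) (Scr.cons (nat_lit 1) (nat_lit 1) (Step.D (nat_lit 8655) (Step.B (nat_lit 7887) (Step.L Step.done))) (Scr.cons (nat_lit 1) (nat_lit 1) (Step.U (nat_lit 8654) (Step.B (nat_lit 7888) (Step.L Step.done))) (Scr.cons (nat_lit 0) (nat_lit 1) (Step.F (nat_lit 6875) (Step.B (nat_lit 7889) (Step.L Step.done))) (Scr.cons (nat_lit 1) (nat_lit 0) (Step.D (nat_lit 11425) (Step.B (nat_lit 7890) (Step.L Step.done))) (Scr.cons (nat_lit 1) (nat_lit 0) (Step.U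 (nat_lit 11426) (Step.B (nat_lit 7891) (Step.L Step.done))) (Scr.cons (nat_lit 11) (nat_lit 0) (Step.L (Step.L (Step.L (Step.D (nat_lit 5573) (Step.D (nat_lit 8670) Step.done))))) (Scr.cons (nat_lit 1) (nat_lit 0) (Step.F (nat_lit 7826) (Step.B (nat_lit 6881) (Step.B (nat_lit 7892) (Step.B (nat_lit 7893) Step.done)))) (Scr.cons (nat_lit 0) (nat_lit 1) (Step.B (nat_lit 7788) (Step.B (nat_lit 7894) (Step.D (nat_lit 11437) Step.done))) (Scr.cons (nat_lit 12) (nat_lit 1) (Step.F (nat_lit 7893) (Step.L (Step.L (Step.B (nat_lit 7893) (Step.D (nat_lit 11437) Step.done))))) (Scr.cons (nat_lit 12) (nat_lit 1) (Step.L (Step.L (Step.L (Step.L (Step.D (nat_lit 7614) Step.done))))) (Scr.cons (nat_lit 12) (nat_lit 1) (Step.U (nat_lit 4922) (Step.L (Step.L (Step.D (nat_lit 4922) (Step.D (nat_lit 7926) Step.done))))) (Scr.cons (nat_lit 12) (nat_lit 1) (Step.U (nat_lit 7927) (Step.D (nat_lit 7926) (Step.F (nat_lit 7898) (Step.D (nat_lit 7927) (Step.D (nat_lit 10913) Step.done))))) (Scr.cons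 (nat_lit 12) (nat_lit 4) (Step.U (nat_lit 716) (Step.L (Step.L (Step.D (nat_lit 716) (Step.D (nat_lit 1670) Step.done))))) (Scr.cons (nat_lit 12) (nat_lit 4) (Step.U (nat_lit 3322) (Step.F (nat_lit 7900) (Step.D (nat_lit 1670) (Step.D (nat_lit 3322) (Step.D (nat_lit 5882) Step.done))))) (Scr.cons (nat_lit 12) (nat_lit 4) (Step.U (nat_lit 1671) (Step.D (nat_lit 1670) (Step.F (nat_lit 7900) (Step.D (nat_lit 1671) (Step.D (nat_lit 3323) Step.done))))) (Scr.cons (nat_lit 12) (nat_lit 1) (Step.U (nat_lit 5883) (Step.F (nat_lit 7902) (Step.D (nat_lit 3323) (Step.D (nat_lit 5883) (Step.D (nat_lit 9036) Step.done))))) (Scr.cons (nat_lit 12) (nat_lit 1) (Step.L (Step.L (Step.L (Step.L (Step.D (nat_lit 440) Step.done))))) (Scr.cons (nat_lit 12) (nat_lit 1) (Step.U (nat_lit 1126) (Step.F (nat_lit 7904) (Step.D (nat_lit 440) (Step.D (nat_lit 1126) (Step.D (nat_lit 2360) Step.done))))) (Scr.cons (nat_lit 12) (nat_lit 4) (Step.U (nat_lit 4394) (Step.F (nat_lit 7905) (Step.D (nat_lit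 2360) (Step.D (nat_lit 4394) (Step.D (nat_lit 7309) Step.done))))) (Scr.cons (nat_lit 11) (nat_lit 0) (Step.L (Step.L (Step.L (Step.L (Step.D (nat_lit 439) Step.done))))) (Scr.cons (nat_lit 12) (nat_lit 1) (Step.F (nat_lit 7907) (Step.D (nat_lit 440) (Step.F (nat_lit 7904) (Step.B (nat_lit 7907) (Step.D (nat_lit 1125) Step.done))))) (Scr.cons (nat_lit 12) (nat_lit 4) (Step.U (nat_lit 2357) (Step.F (nat_lit 7908) (Step.D (nat_lit 1125) (Step.D (nat_lit 2357) (Step.D (nat_lit 4388) Step.done))))) (Scr.cons (nat_lit 13) (nat_lit 3) (Step.U (nat_lit 7309) (Step.U (nat_lit 4394) (Step.F (nat_lit 7905) (Step.U (nat_lit 1126) (Step.U (nat_lit 440) (Step.B (nat_lit 7907) (Step.D (nat_lit 1125) (Step.D (nat_lit 2357) (Step.B (nat_lit 7909) (Step.D (nat_lit 7304) (Step.D (nat_lit 10375) Step.done))))))))))) (Scr.cons (nat_lit 11) (nat_lit 0) (Step.L (Step.L (Step.L (Step.L (Step.D (nat_lit 1141) Step.done))))) (Scr.cons (nat_lit 12) (nat_lit 1) (Step.L (Step.L (Step.L (Step.L (Step.D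 (nat_lit 1142) Step.done))))) (Scr.cons (nat_lit 12) (nat_lit 1) (Step.F (nat_lit 7911) (Step.D (nat_lit 1142) (Step.F (nat_lit 7912) (Step.B (nat_lit 7911) (Step.D (nat_lit 2381) Step.done))))) (Scr.cons (nat_lit 12) (nat_lit 1) (Step.U (nat_lit 4432) (Step.F (nat_lit 7913) (Step.D (nat_lit 2381) (Step.D (nat_lit 4432) (Step.D (nat_lit 7356) Step.done))))) (Scr.cons (nat_lit 16) (nat_lit 5) (Step.F (nat_lit 7914) (Step.U (nat_lit 4432) (Step.F (nat_lit 7913) (Step.F (nat_lit 7911) (Step.L (Step.L (Step.L (Step.L (Step.L (Step.L (Step.L (Step.L (Step.L (Step.L (Step.L (Step.L (Step.L (Step.D (nat_lit 439) (Step.D (nat_lit 1125) (Step.D (nat_lit 2357) (Step.D (nat_lit 4388) (Step.D (nat_lit 7303) (Step.D (nat_lit 10374) Step.done))))))))))))))))))))))) (Scr.cons (nat_lit 4) (nat_lit 0) (Step.B (nat_lit 7915) (Step.U (nat_lit 10374) (Step.U (nat_lit 7303) (Step.D (nat_lit 7304) (Step.D (nat_lit 10376) Step.done))))) (Scr.cons (nat_lit 12) (nat_lit 1) (Step.U (nat_lit 2358)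 (Step.F (nat_lit 7908) (Step.D (nat_lit 1125) (Step.D (nat_lit 2358) (Step.D (nat_lit 4390) Step.done))))) (Scr.cons (nat_lit 12) (nat_lit 1) (Step.U (nat_lit 4391) (Step.D (nat_lit 4390) (Step.F (nat_lit 7917) (Step.D (nat_lit 4391) (Step.D (nat_lit 7307) Step.done))))) (Scr.cons (nat_lit 11) (nat_lit 0) (Step.U (nat_lit 2624) (Step.U (nat_lit 1273) (Step.D (nat_lit 1272) (Step.D (nat_lit 2623) (Step.D (nat_lit 4825) Step.done))))) (Scr.cons (nat_lit 11) (nat_lit 0) (Step.U (nat_lit 4841) (Step.U (nat_lit 2634) (Step.D (nat_lit 2633) (Step.D (nat_lit 4839) (Step.D (nat_lit 7831) Step.done))))) (Scr.cons (nat_lit 12) (nat_lit 1) (Step.U (nat_lit 2634) (Step.L (Step.L (Step.D (nat_lit 2634) (Step.D (nat_lit 4840) Step.done))))) (Scr.cons (nat_lit 12) (nat_lit 1) (Step.U (nat_lit 4841) (Step.D (nat_lit 4840) (Step.F (nat_lit 7921) (Step.D (nat_lit 4841) (Step.D (nat_lit 7832) Step.done))))) Scr.nil))))))))))))))))))))))))))))))))))))))))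
noncomputable def s198 : Scr := (Scr.cons (nat_lit 12) (nat_lit 1) (Step.F (nat_lit 7920) (Step.D (nat_lit 7832) (Step.F (nat_lit 7922) (Step.B (nat_lit 7920) (Step.D (nat_lit 10829) Step.done))))) (Scr.cons (nat_lit 11) (nat_lit 0) (Step.U (nat_lit 3225) (Step.U (nat_lit 1623) (Step.D (nat_lit 1622) (Step.D (nat_lit 3223) (Step.D (nat_lit 5718) Step.done))))) (Scr.cons (nat_lit 12) (nat_lit 1) (Step.U (nat_lit 1623) (Step.F (nat_lit 7071) (Step.D (nat_lit 690) (Step.D (nat_lit 1623) (Step.D (nat_lit 3224) Step.done))))) (Scr.cons (nat_lit 9) (nat_lit 2) (Step.U (nat_lit 7351) (Step.U (nat_lit 4428) (Step.U (nat_lit 2377) (Step.L (Step.L (Step.L (Step.L (Step.L (Step.L (Step.L (Step.L (Step.L (Step.L (Step.L (Step.L (Step.L (Step.L (Step.L (Step.B (nat_lit 7071) (Step.D (nat_lit 1623) (Step.B (nat_lit 7925) (Step.D (nat_lit 5720) (Step.D (nat_lit 8830) Step.done))))))))))))))))))))))) (Scr.cons (nat_lit 11) (nat_lit 0) (Step.B (nat_lit 7926) (Step.U (nat_lit 8830) (Step.U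 (nat_lit 5720) (Step.D (nat_lit 5719) (Step.D (nat_lit 8829) Step.done))))) (Scr.cons (nat_lit 12) (nat_lit 1) (Step.L (Step.L (Step.L (Step.L (Step.D (nat_lit 757) Step.done))))) (Scr.cons (nat_lit 12) (nat_lit 1) (Step.L (Step.L (Step.L (Step.L (Step.D (nat_lit 1725) Step.done))))) (Scr.cons (nat_lit 12) (nat_lit 1) (Step.U (nat_lit 3407) (Step.F (nat_lit 7929) (Step.D (nat_lit 1725) (Step.D (nat_lit 3407) (Step.D (nat_lit 6016) Step.done))))) (Scr.cons (nat_lit 6) (nat_lit 3) (Step.U (nat_lit 6020) (Step.U (nat_lit 3411) (Step.U (nat_lit 1727) (Step.F (nat_lit 7928) (Step.L (Step.L (Step.L (Step.D (nat_lit 1725) (Step.D (nat_lit 3407) (Step.B (nat_lit 7930) (Step.D (nat_lit 9169) Step.done))))))))))) (Scr.cons (nat_lit 12) (nat_lit 1) (Step.L (Step.L (Step.L (Step.L (Step.D (nat_lit 1140) Step.done))))) (Scr.cons (nat_lit 12) (nat_lit 1) (Step.U (nat_lit 2378) (Step.F (nat_lit 7932) (Step.D (nat_lit 1140) (Step.D (nat_lit 2378) (Step.D (nat_lit 4429) Step.done)))))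 (Scr.cons (nat_lit 15) (nat_lit 0) (Step.U (nat_lit 7352) (Step.F (nat_lit 7933) (Step.U (nat_lit 2378) (Step.F (nat_lit 7932) (Step.L (Step.L (Step.L (Step.L (Step.L (Step.L (Step.L (Step.D (nat_lit 2376) (Step.D (nat_lit 4424) (Step.D (nat_lit 7340) (Step.D (nat_lit 10409) Step.done))))))))))))))) (Scr.cons (nat_lit 12) (nat_lit 1) (Step.U (nat_lit 5535) (Step.L (Step.L (Step.D (nat_lit 5535) (Step.D (nat_lit 8633) Step.done))))) (Scr.cons (nat_lit 16) (nat_lit 5) (Step.F (nat_lit 7935) (Step.U (nat_lit 5535) (Step.L (Step.L (Step.L (Step.L (Step.L (Step.L (Step.L (Step.L (Step.L (Step.L (Step.L (Step.L (Step.L (Step.L (Step.L (Step.L (Step.L (Step.L (Step.D (nat_lit 2376) (Step.D (nat_lit 4424) (Step.D (nat_lit 7341) Step.done))))))))))))))))))))))) (Scr.cons (nat_lit 12) (nat_lit 1) (Step.L (Step.L (Step.L (Step.L (Step.D (nat_lit 718) Step.done))))) (Scr.cons (nat_lit 12) (nat_lit 1) (Step.U (nat_lit 1677) (Step.F (nat_lit 7937) (Step.D (nat_lit 718) (Step.D (nat_lit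 1677) (Step.D (nat_lit 3336) Step.done))))) (Scr.cons (nat_lit 15) (nat_lit 1) (Step.F (nat_lit 7938) (Step.U (nat_lit 1677) (Step.F (nat_lit 7937) (Step.L (Step.L (Step.L (Step.L (Step.L (Step.L (Step.L (Step.L (Step.L (Step.L (Step.L (Step.L Step.done))))))))))))))) (Scr.cons (nat_lit 4) (nat_lit 0) (Step.F (nat_lit 1707) (Step.U (nat_lit 8066) (Step.U (nat_lit 5051) (Step.D (nat_lit 5052) (Step.D (nat_lit 8068) Step.done))))) (Scr.cons (nat_lit 1) (nat_lit 0) (Step.U (nat_lit 8068) (Step.B (nat_lit 5028) (Step.B (nat_lit 234) Step.done))) (Scr.cons (nat_lit 1) (nat_lit 0) (Step.B (nat_lit 7940) (Step.B (nat_lit 7941) (Step.B (nat_lit 218) Step.done))) (Scr.cons (nat_lit 0) (nat_lit 1) (Step.B (nat_lit 1706) (Step.B (nat_lit 7942) (Step.L Step.done))) (Scr.cons (nat_lit 1) (nat_lit 1) (Step.D (nat_lit 5537) (Step.B (nat_lit 7943) (Step.L Step.done))) (Scr.cons (nat_lit 1) (nat_lit 1) (Step.D (nat_lit 3111) (Step.B (nat_lit 7944) (Step.L Step.done))) (Scr.cons (nat_lit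 0) (nat_lit 1) (Step.B (nat_lit 1704) (Step.B (nat_lit 7945) (Step.D (nat_lit 718) Step.done))) (Scr.cons (nat_lit 1) (nat_lit 0) (Step.U (nat_lit 1677) (Step.F (nat_lit 7946) (Step.L Step.done))) (Scr.cons (nat_lit 0) (nat_lit 1) (Step.U (nat_lit 3336) (Step.B (nat_lit 7947) (Step.L Step.done))) (Scr.cons (nat_lit 1) (nat_lit 0) (Step.F (nat_lit 7939) (Step.B (nat_lit 7948) (Step.D (nat_lit 5535) Step.done))) (Scr.cons (nat_lit 0) (nat_lit 1) (Step.U (nat_lit 8633) (Step.F (nat_lit 7949) (Step.L Step.done))) (Scr.cons (nat_lit 1) (nat_lit 0) (Step.F (nat_lit 7936) (Step.B (nat_lit 7950) (Step.L Step.done))) (Scr.cons (nat_lit 1) (nat_lit 0) (Step.D (nat_lit 7341) (Step.B (nat_lit 7951) (Step.L Step.done))) (Scr.cons (nat_lit 0) (nat_lit 1) (Step.U (nat_lit 7340) (Step.B (nat_lit 7952) (Step.L Step.done))) (Scr.cons (nat_lit 1) (nat_lit 1) (Step.U (nat_lit 10409) (Step.B (nat_lit 7953) (Step.L Step.done))) (Scr.cons (nat_lit 0) (nat_lit 1) (Step.B (nat_lit 7934) (Step.B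 (nat_lit 7954) (Step.L Step.done))) (Scr.cons (nat_lit 1) (nat_lit 1) (Step.D (nat_lit 7352) (Step.B (nat_lit 7955) (Step.L Step.done))) (Scr.cons (nat_lit 0) (nat_lit 1) (Step.B (nat_lit 7933) (Step.B (nat_lit 7956) (Step.L Step.done))) (Scr.cons (nat_lit 1) (nat_lit 1) (Step.D (nat_lit 2378) (Step.B (nat_lit 7957) (Step.L Step.done))) (Scr.cons (nat_lit 0) (nat_lit 1) (Step.B (nat_lit 7932) (Step.B (nat_lit 7958) (Step.D (nat_lit 1725) Step.done))) (Scr.cons (nat_lit 1) (nat_lit 0) (Step.U (nat_lit 3407) (Step.F (nat_lit 7959) (Step.L Step.done))) (Scr.cons (nat_lit 0) (nat_lit 1) (Step.U (nat_lit 6016) (Step.B (nat_lit 7960) (Step.D (nat_lit 2377) Step.done))) (Scr.cons (nat_lit 1) (nat_lit 1) (Step.U (nat_lit 9169) (Step.B (nat_lit 7961) (Step.D (nat_lit 4428) Step.done))) Scr.nil))))))))))))))))))))))))))))))))))))))))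
noncomputable def s199 : Scr := (Scr.cons (nat_lit 0) (nat_lit 1) (Step.B (nat_lit 7931) (Step.B (nat_lit 7962) (Step.D (nat_lit 7351) Step.done))) (Scr.cons (nat_lit 1) (nat_lit 0) (Step.F (nat_lit 7927) (Step.F (nat_lit 7963) (Step.U (nat_lit 6020) Step.done))) (Scr.cons (nat_lit 1) (nat_lit 0) (Step.D (nat_lit 8829) (Step.B (nat_lit 7964) (Step.D (nat_lit 6021) Step.done))) (Scr.cons (nat_lit 1) (nat_lit 0) (Step.D (nat_lit 6021) (Step.F (nat_lit 7965) Step.done)) (Scr.cons (nat_lit 12) (nat_lit 1) (Step.U (nat_lit 1727) (Step.F (nat_lit 7928) (Step.D (nat_lit 757) (Step.D (nat_lit 1727) (Step.D (nat_lit 3411) Step.done))))) (Scr.cons (nat_lit 12) (nat_lit 4) (Step.U (nat_lit 1726) (Step.F (nat_lit 7928) (Step.D (nat_lit 757) (Step.D (nat_lit 1726) (Step.D (nat_lit 3409) Step.done))))) (Scr.cons (nat_lit 12) (nat_lit 4) (Step.U (nat_lit 3410) (Step.D (nat_lit 3409) (Step.F (nat_lit 7968) (Step.D (nat_lit 3410) (Step.D (nat_lit 6019) Step.done))))) (Scr.cons (nat_lit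 14) (nat_lit 4) (Step.U (nat_lit 5700) (Step.L (Step.L (Step.L (Step.L (Step.L (Step.L (Step.L (Step.L (Step.L (Step.L (Step.L (Step.L (Step.L (Step.L (Step.L (Step.B (nat_lit 7928) (Step.D (nat_lit 1726) (Step.D (nat_lit 3410) (Step.D (nat_lit 6019) Step.done)))))))))))))))))))) (Scr.cons (nat_lit 14) (nat_lit 4) (Step.D (nat_lit 5718) (Step.F (nat_lit 7924) (Step.U (nat_lit 3225) (Step.B (nat_lit 7925) (Step.D (nat_lit 5719) (Step.F (nat_lit 7966) (Step.F (nat_lit 7967) (Step.U (nat_lit 1727) (Step.D (nat_lit 1726) (Step.D (nat_lit 3410) (Step.B (nat_lit 7969) (Step.F (nat_lit 7970) (Step.U (nat_lit 5700) (Step.L (Step.D (nat_lit 8806) (Step.F (nat_lit 4921) (Step.U (nat_lit 7830) (Step.U (nat_lit 4838) (Step.D (nat_lit 4839) (Step.D (nat_lit 7831) (Step.D (nat_lit 10829) Step.done))))))))))))))))))))) (Scr.cons (nat_lit 0) (nat_lit 1) (Step.B (nat_lit 7923) (Step.F (nat_lit 7971) (Step.D (nat_lit 5717) Step.done))) (Scr.cons (nat_lit 1) (nat_lit 0) (Step.D (nat_lit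 7831) (Step.B (nat_lit 7972) (Step.D (nat_lit 8827) Step.done))) (Scr.cons (nat_lit 1) (nat_lit 0) (Step.D (nat_lit 8827) (Step.F (nat_lit 7973) Step.done)) (Scr.cons (nat_lit 14) (nat_lit 5) (Step.U (nat_lit 8832) (Step.U (nat_lit 5721) (Step.U (nat_lit 3225) (Step.U (nat_lit 1623) (Step.F (nat_lit 7071) (Step.L (Step.L (Step.L (Step.L (Step.L (Step.L (Step.L (Step.L (Step.L (Step.D (nat_lit 439) (Step.B (nat_lit 7908) (Step.D (nat_lit 2357) (Step.D (nat_lit 4389) (Step.D (nat_lit 7305) (Step.D (nat_lit 10377) Step.done)))))))))))))))))))) (Scr.cons (nat_lit 4) (nat_lit 0) (Step.U (nat_lit 8831) (Step.D (nat_lit 8832) (Step.B (nat_lit 7975) (Step.U (nat_lit 10377) (Step.D (nat_lit 10378) Step.done))))) (Scr.cons (nat_lit 11) (nat_lit 0) (Step.U (nat_lit 4391) (Step.U (nat_lit 2358) (Step.D (nat_lit 2357) (Step.D (nat_lit 4389) (Step.D (nat_lit 7306) Step.done))))) (Scr.cons (nat_lit 14) (nat_lit 5) (Step.F (nat_lit 7919) (Step.U (nat_lit 2624) (Step.F (nat_lit 167) (Step.L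 (Step.L (Step.L (Step.D (nat_lit 2633) (Step.D (nat_lit 4839) (Step.F (nat_lit 7974) (Step.U (nat_lit 5717) (Step.D (nat_lit 5718) (Step.F (nat_lit 7924) (Step.D (nat_lit 5721) (Step.D (nat_lit 8831) (Step.B (nat_lit 7976) (Step.U (nat_lit 10378) (Step.U (nat_lit 7305) (Step.D (nat_lit 7306) (Step.F (nat_lit 7977) (Step.D (nat_lit 7307) (Step.D (nat_lit 10379) Step.done))))))))))))))))))))) (Scr.cons (nat_lit 1) (nat_lit 0) (Step.D (nat_lit 10379) (Step.F (nat_lit 7978) (Step.U (nat_lit 4825) Step.done))) (Scr.cons (nat_lit 0) (nat_lit 1) (Step.B (nat_lit 7918) (Step.B (nat_lit 7979) (Step.D (nat_lit 4824) Step.done))) (Scr.cons (nat_lit 0) (nat_lit 1) (Step.D (nat_lit 4824) (Step.F (nat_lit 7980) Step.done)) (Scr.cons (nat_lit 12) (nat_lit 1) (Step.U (nat_lit 2628) (Step.F (nat_lit 7558) (Step.D (nat_lit 1277) (Step.D (nat_lit 2628) (Step.D (nat_lit 4830) Step.done))))) (Scr.cons (nat_lit 12) (nat_lit 1) (Step.U (nat_lit 4831) (Step.D (nat_lit 4830) (Step.F (nat_lit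 7982) (Step.D (nat_lit 4831) (Step.D (nat_lit 7825) Step.done))))) (Scr.cons (nat_lit 11) (nat_lit 0) (Step.U (nat_lit 4831) (Step.U (nat_lit 2628) (Step.D (nat_lit 2627) (Step.D (nat_lit 4829) (Step.D (nat_lit 7824) Step.done))))) (Scr.cons (nat_lit 6) (nat_lit 1) (Step.U (nat_lit 4847) (Step.F (nat_lit 7569) (Step.U (nat_lit 1283) (Step.B (nat_lit 7568) (Step.U (nat_lit 1276) (Step.F (nat_lit 7554) (Step.D (nat_lit 517) (Step.B (nat_lit 7558) (Step.D (nat_lit 2627) (Step.D (nat_lit 4828) (Step.D (nat_lit 7823) Step.done))))))))))) (Scr.cons (nat_lit 12) (nat_lit 0) (Step.F (nat_lit 7574) (Step.U (nat_lit 10823) (Step.F (nat_lit 7567) (Step.B (nat_lit 7985) (Step.D (nat_lit 10823) Step.done))))) (Scr.cons (nat_lit 6) (nat_lit 0) (Step.U (nat_lit 1672) (Step.L (Step.L (Step.L (Step.L (Step.L (Step.L (Step.L (Step.L (Step.L (Step.D (nat_lit 3277) Step.done))))))))))) (Scr.cons (nat_lit 11) (nat_lit 0) (Step.U (nat_lit 5885) (Step.U (nat_lit 3325) (Step.B (nat_lit 7987)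 (Step.D (nat_lit 5811) (Step.D (nat_lit 8940) Step.done))))) (Scr.cons (nat_lit 12) (nat_lit 1) (Step.L (Step.L (Step.L (Step.L (Step.D (nat_lit 1672) Step.done))))) (Scr.cons (nat_lit 12) (nat_lit 1) (Step.U (nat_lit 3325) (Step.F (nat_lit 7989) (Step.D (nat_lit 1672) (Step.D (nat_lit 3325) (Step.D (nat_lit 5884) Step.done))))) (Scr.cons (nat_lit 12) (nat_lit 1) (Step.U (nat_lit 5885) (Step.D (nat_lit 5884) (Step.F (nat_lit 7990) (Step.D (nat_lit 5885) (Step.D (nat_lit 9037) Step.done))))) (Scr.cons (nat_lit 12) (nat_lit 1) (Step.F (nat_lit 7988) (Step.D (nat_lit 9037) (Step.F (nat_lit 7991) (Step.B (nat_lit 7988) (Step.D (nat_lit 11558) Step.done))))) (Scr.cons (nat_lit 11) (nat_lit 0) (Step.U (nat_lit 1673) (Step.L (Step.D (nat_lit 716) (Step.D (nat_lit 1671) (Step.D (nat_lit 3324) Step.done))))) (Scr.cons (nat_lit 1) (nat_lit 1) (Step.D (nat_lit 715) (Step.B (nat_lit 2350) (Step.L Step.done))) (Scr.cons (nat_lit 1) (nat_lit 1) (Step.D (nat_lit 255) (Step.B (nat_lit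 7994) (Step.D (nat_lit 486) Step.done))) (Scr.cons (nat_lit 0) (nat_lit 1) (Step.U (nat_lit 1214) (Step.F (nat_lit 7995) (Step.L Step.done))) (Scr.cons (nat_lit 1) (nat_lit 1) (Step.U (nat_lit 2518) (Step.B (nat_lit 7996) (Step.L Step.done))) (Scr.cons (nat_lit 0) (nat_lit 1) (Step.U (nat_lit 4650) (Step.B (nat_lit 7997) (Step.L Step.done))) (Scr.cons (nat_lit 1) (nat_lit 1) (Step.B (nat_lit 5729) (Step.B (nat_lit 7998) (Step.D (nat_lit 716) Step.done))) (Scr.cons (nat_lit 1) (nat_lit 1) (Step.D (nat_lit 3339) (Step.B (nat_lit 7999) (Step.D (nat_lit 1671) Step.done))) (Scr.cons (nat_lit 1) (nat_lit 1) (Step.D (nat_lit 1680) (Step.B (nat_lit 8000) (Step.D (nat_lit 3324) Step.done))) (Scr.cons (nat_lit 1) (nat_lit 0) (Step.B (nat_lit 7993) (Step.F (nat_lit 8001) Step.done)) Scr.nil))))))))))))))))))))))))))))))))))))))))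
noncomputable def s200 : Scr := (Scr.cons (nat_lit 11) (nat_lit 0) (Step.U (nat_lit 2402) (Step.L (Step.D (nat_lit 1154) (Step.D (nat_lit 2401) (Step.D (nat_lit 4466) Step.done))))) (Scr.cons (nat_lit 12) (nat_lit 1) (Step.U (nat_lit 2402) (Step.L (Step.L (Step.D (nat_lit 2402) (Step.D (nat_lit 4467) Step.done))))) (Scr.cons (nat_lit 12) (nat_lit 1) (Step.F (nat_lit 8003) (Step.D (nat_lit 4467) (Step.F (nat_lit 8004) (Step.B (nat_lit 8003) (Step.D (nat_lit 7395) Step.done))))) (Scr.cons (nat_lit 7) (nat_lit 5) (Step.F (nat_lit 7992) (Step.U (nat_lit 8940) (Step.U (nat_lit 5811) (Step.F (nat_lit 7987) (Step.U (nat_lit 1672) (Step.D (nat_lit 1673) (Step.B (nat_lit 8002) (Step.F (nat_lit 66) (Step.L (Step.L (Step.L (Step.L (Step.L (Step.L (Step.L (Step.L (Step.D (nat_lit 2402) (Step.B (nat_lit 8003) (Step.B (nat_lit 8005) (Step.D (nat_lit 10457) Step.done)))))))))))))))))))) (Scr.cons (nat_lit 12) (nat_lit 1) (Step.U (nat_lit 3278) (Step.L (Step.L (Step.D (nat_lit 3278)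 (Step.D (nat_lit 5814) Step.done))))) (Scr.cons (nat_lit 7) (nat_lit 6) (Step.F (nat_lit 7983) (Step.B (nat_lit 7984) (Step.U (nat_lit 7824) (Step.U (nat_lit 4829) (Step.B (nat_lit 7566) (Step.D (nat_lit 7823) (Step.D (nat_lit 10823) (Step.F (nat_lit 7986) (Step.U (nat_lit 10456) (Step.D (nat_lit 10457) (Step.F (nat_lit 8006) (Step.U (nat_lit 11558) (Step.U (nat_lit 8940) (Step.U (nat_lit 5811) (Step.F (nat_lit 482) (Step.L (Step.L (Step.D (nat_lit 3278) (Step.B (nat_lit 8007) (Step.D (nat_lit 8943) (Step.D (nat_lit 11562) Step.done))))))))))))))))))))) (Scr.cons (nat_lit 1) (nat_lit 1) (Step.D (nat_lit 11562) (Step.F (nat_lit 8008) (Step.D (nat_lit 10824) Step.done))) (Scr.cons (nat_lit 1) (nat_lit 1) (Step.D (nat_lit 10824) (Step.F (nat_lit 8009) Step.done)) (Scr.cons (nat_lit 4) (nat_lit 0) (Step.U (nat_lit 11561) (Step.U (nat_lit 8942) (Step.D (nat_lit 8943) (Step.F (nat_lit 8010) (Step.D (nat_lit 10825) Step.done))))) (Scr.cons (nat_lit 12) (nat_lit 4) (Step.U (nat_lit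 8942) (Step.F (nat_lit 8007) (Step.D (nat_lit 5814) (Step.D (nat_lit 8942) (Step.D (nat_lit 11560) Step.done))))) (Scr.cons (nat_lit 7) (nat_lit 4) (Step.U (nat_lit 10374) (Step.U (nat_lit 7303) (Step.F (nat_lit 7909) (Step.U (nat_lit 2357) (Step.D (nat_lit 2358) (Step.D (nat_lit 4391) (Step.F (nat_lit 7981) (Step.U (nat_lit 2623) (Step.U (nat_lit 1272) (Step.F (nat_lit 168) (Step.U (nat_lit 177) (Step.D (nat_lit 178) (Step.D (nat_lit 517) (Step.B (nat_lit 7558) (Step.D (nat_lit 2628) (Step.D (nat_lit 4831) (Step.D (nat_lit 7825) (Step.D (nat_lit 10825) (Step.F (nat_lit 8011) (Step.U (nat_lit 11561) (Step.B (nat_lit 8012) Step.done))))))))))))))))))))) (Scr.cons (nat_lit 0) (nat_lit 1) (Step.D (nat_lit 11560) (Step.F (nat_lit 8013) Step.done)) (Scr.cons (nat_lit 1) (nat_lit 1) (Step.D (nat_lit 3324) (Step.F (nat_lit 8001) Step.done)) (Scr.cons (nat_lit 9) (nat_lit 1) (Step.U (nat_lit 10381) (Step.U (nat_lit 7310) (Step.B (nat_lit 7906) (Step.B (nat_lit 7910) (Step.U (nat_lit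 10375) (Step.D (nat_lit 10376) (Step.F (nat_lit 7916) (Step.B (nat_lit 7915) (Step.F (nat_lit 8014) (Step.U (nat_lit 8942) (Step.U (nat_lit 5814) (Step.B (nat_lit 7721) (Step.U (nat_lit 5812) (Step.L (Step.B (nat_lit 482) (Step.F (nat_lit 7987) (Step.U (nat_lit 1672) (Step.D (nat_lit 1673) (Step.B (nat_lit 8002) (Step.F (nat_lit 8015) (Step.B (nat_lit 7902) (Step.D (nat_lit 5883) (Step.B (nat_lit 7903) (Step.D (nat_lit 11595) Step.done)))))))))))))))))))))))) (Scr.cons (nat_lit 11) (nat_lit 0) (Step.U (nat_lit 7312) (Step.U (nat_lit 4395) (Step.D (nat_lit 4394) (Step.D (nat_lit 7310) (Step.D (nat_lit 10381) Step.done))))) (Scr.cons (nat_lit 1) (nat_lit 1) (Step.D (nat_lit 11595) (Step.F (nat_lit 8016) (Step.F (nat_lit 8017) Step.done))) (Scr.cons (nat_lit 0) (nat_lit 1) (Step.B (nat_lit 7903) (Step.B (nat_lit 8018) (Step.D (nat_lit 10383) Step.done))) (Scr.cons (nat_lit 0) (nat_lit 1) (Step.D (nat_lit 10383) (Step.F (nat_lit 8019) Step.done)) (Scr.cons (nat_lit 12) (nat_lit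 1) (Step.U (nat_lit 4395) (Step.F (nat_lit 7905) (Step.D (nat_lit 2360) (Step.D (nat_lit 4395) (Step.D (nat_lit 7311) Step.done))))) (Scr.cons (nat_lit 8) (nat_lit 1) (Step.U (nat_lit 7327) (Step.U (nat_lit 4411) (Step.L (Step.L (Step.L (Step.L (Step.L (Step.L (Step.L (Step.B (nat_lit 7904) (Step.D (nat_lit 1126) (Step.B (nat_lit 7905) (Step.D (nat_lit 4395) (Step.B (nat_lit 8021) (Step.D (nat_lit 10382) Step.done))))))))))))))) (Scr.cons (nat_lit 6) (nat_lit 3) (Step.F (nat_lit 7901) (Step.U (nat_lit 3322) (Step.U (nat_lit 1670) (Step.D (nat_lit 1671) (Step.D (nat_lit 3323) (Step.D (nat_lit 5883) (Step.F (nat_lit 8020) (Step.U (nat_lit 7312) (Step.D (nat_lit 7311) (Step.D (nat_lit 10382) (Step.F (nat_lit 8022) (Step.D (nat_lit 10399) Step.done)))))))))))) (Scr.cons (nat_lit 1) (nat_lit 0) (Step.D (nat_lit 10399) (Step.F (nat_lit 8023) (Step.D (nat_lit 9035) Step.done))) (Scr.cons (nat_lit 1) (nat_lit 0) (Step.D (nat_lit 9035) (Step.F (nat_lit 8024) Step.done)) (Scr.cons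 (nat_lit 8) (nat_lit 1) (Step.U (nat_lit 9034) (Step.U (nat_lit 5882) (Step.U (nat_lit 3322) (Step.U (nat_lit 1670) (Step.U (nat_lit 716) (Step.L (Step.L (Step.L (Step.L (Step.L (Step.L (Step.L (Step.L (Step.L (Step.D (nat_lit 10638) Step.done))))))))))))))) (Scr.cons (nat_lit 16) (nat_lit 1) (Step.F (nat_lit 7899) (Step.U (nat_lit 7927) (Step.U (nat_lit 4922) (Step.L (Step.L (Step.L (Step.L (Step.L (Step.L (Step.L (Step.L (Step.L (Step.D (nat_lit 4411) (Step.D (nat_lit 7327) (Step.F (nat_lit 8025) (Step.D (nat_lit 9034) (Step.B (nat_lit 8026) (Step.U (nat_lit 10638) (Step.L (Step.L (Step.L (Step.D (nat_lit 7612) (Step.D (nat_lit 10637) Step.done))))))))))))))))))))))) (Scr.cons (nat_lit 6) (nat_lit 3) (Step.U (nat_lit 7951) (Step.L (Step.L (Step.L (Step.L (Step.L (Step.L (Step.L (Step.D (nat_lit 4922) (Step.B (nat_lit 7898) (Step.D (nat_lit 10912) Step.done))))))))))) (Scr.cons (nat_lit 15) (nat_lit 0) (Step.F (nat_lit 7897) (Step.L (Step.L (Step.L (Step.L (Step.L (Step.L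 (Step.D (nat_lit 7612) (Step.D (nat_lit 10637) (Step.F (nat_lit 8027) (Step.F (nat_lit 7899) (Step.U (nat_lit 7927) (Step.D (nat_lit 7926) (Step.D (nat_lit 10912) (Step.F (nat_lit 8028) (Step.D (nat_lit 10937) Step.done)))))))))))))))) (Scr.cons (nat_lit 1) (nat_lit 0) (Step.D (nat_lit 10937) (Step.F (nat_lit 8029) (Step.D (nat_lit 10640) Step.done))) (Scr.cons (nat_lit 1) (nat_lit 0) (Step.D (nat_lit 10640) (Step.F (nat_lit 8030) Step.done)) (Scr.cons (nat_lit 11) (nat_lit 0) (Step.L (Step.L (Step.D (nat_lit 487) (Step.D (nat_lit 1215) (Step.D (nat_lit 2520) Step.done))))) (Scr.cons (nat_lit 12) (nat_lit 1) (Step.F (nat_lit 8032) (Step.L (Step.L (Step.B (nat_lit 8032) (Step.D (nat_lit 4654) Step.done))))) (Scr.cons (nat_lit 11) (nat_lit 0) (Step.U (nat_lit 1197) (Step.U (nat_lit 477) (Step.D (nat_lit 476) (Step.D (nat_lit 1195) (Step.D (nat_lit 2482) Step.done))))) (Scr.cons (nat_lit 12) (nat_lit 1) (Step.L (Step.D (nat_lit 44) (Step.F (nat_lit 2715) (Step.L (Step.D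 (nat_lit 162) Step.done))))) (Scr.cons (nat_lit 12) (nat_lit 1) (Step.U (nat_lit 477) (Step.F (nat_lit 8035) (Step.D (nat_lit 162) (Step.D (nat_lit 477) (Step.D (nat_lit 1196) Step.done))))) (Scr.cons (nat_lit 12) (nat_lit 1) (Step.U (nat_lit 1197) (Step.D (nat_lit 1196) (Step.F (nat_lit 8036) (Step.D (nat_lit 1197) (Step.D (nat_lit 2483) Step.done))))) (Scr.cons (nat_lit 12) (nat_lit 1) (Step.F (nat_lit 8034) (Step.D (nat_lit 2483) (Step.F (nat_lit 8037) (Step.B (nat_lit 8034) (Step.D (nat_lit 4597) Step.done))))) (Scr.cons (nat_lit 7) (nat_lit 5) (Step.F (nat_lit 8033) (Step.U (nat_lit 2520) (Step.U (nat_lit 1215) (Step.U (nat_lit 487) (Step.L (Step.L (Step.L (Step.L (Step.L (Step.L (Step.L (Step.L (Step.L (Step.L (Step.D (nat_lit 162) (Step.D (nat_lit 477) (Step.D (nat_lit 1197) (Step.B (nat_lit 8034) (Step.B (nat_lit 8038) (Step.D (nat_lit 7557) Step.done)))))))))))))))))))) (Scr.cons (nat_lit 11) (nat_lit 0) (Step.U (nat_lit 7613) (Step.B (nat_lit 8039) (Step.U (nat_lit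 7557) (Step.D (nat_lit 7556) (Step.D (nat_lit 10595) Step.done))))) (Scr.cons (nat_lit 12) (nat_lit 4) (Step.L (Step.L (Step.L (Step.L (Step.D (nat_lit 4560) Step.done))))) (Scr.cons (nat_lit 12) (nat_lit 4) (Step.U (nat_lit 7516) (Step.F (nat_lit 8041) (Step.D (nat_lit 4560) (Step.D (nat_lit 7516) (Step.D (nat_lit 10566) Step.done))))) Scr.nil))))))))))))))))))))))))))))))))))))))))
noncomputable def s201 : Scr := (Scr.cons (nat_lit 13) (nat_lit 3) (Step.U (nat_lit 4560) (Step.L (Step.L (Step.L (Step.L (Step.L (Step.L (Step.L (Step.L (Step.L (Step.D (nat_lit 7512) Step.done))))))))))) (Scr.cons (nat_lit 14) (nat_lit 0) (Step.F (nat_lit 8040) (Step.U (nat_lit 7613) (Step.F (nat_lit 8033) (Step.F (nat_lit 8032) (Step.L (Step.L (Step.L (Step.L (Step.L (Step.L (Step.L (Step.L (Step.L (Step.L (Step.B (nat_lit 2598) (Step.U (nat_lit 7513) (Step.D (nat_lit 7512) (Step.F (nat_lit 8043) (Step.D (nat_lit 7516) (Step.D (nat_lit 10567) Step.done)))))))))))))))))))) (Scr.cons (nat_lit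 5) (nat_lit 2) (Step.U (nat_lit 10567) (Step.B (nat_lit 8042) (Step.U (nat_lit 10566) (Step.D (nat_lit 10567) (Step.F (nat_lit 8044) Step.done))))) (Scr.cons (nat_lit 12) (nat_lit 1) (Step.L (Step.D (nat_lit 5560) (Step.F (nat_lit 3804) (Step.L (Step.D (nat_lit 8657) Step.done))))) (Scr.cons (nat_lit 8) (nat_lit 1) (Step.U (nat_lit 11239) (Step.U (nat_lit 8310) (Step.U (nat_lit 5271) (Step.U (nat_lit 2917) (Step.L (Step.L (Step.L (Step.B (nat_lit 735) (Step.B (nat_lit 734) (Step.B (nat_lit 738) (Step.B (nat_lit 739) (Step.U (nat_lit 5560) (Step.L (Step.B (nat_lit 8046) (Step.D (nat_lit 11432) Step.done))))))))))))))) (Scr.cons (nat_lit 6) (nat_lit 3) (Step.U (nat_lit 1240) (Step.U (nat_lit 496) (Step.L (Step.L (Step.L (Step.L (Step.L (Step.D (nat_lit 169) (Step.D (nat_lit 495) (Step.B (nat_lit 7430) (Step.D (nat_lit 2548) Step.done))))))))))) (Scr.cons (nat_lit 12) (nat_lit 4) (Step.L (Step.L (Step.L (Step.L (Step.D (nat_lit 5267) Step.done))))) (Scr.cons (nat_lit 12)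 (nat_lit 4) (Step.L (Step.L (Step.L (Step.L (Step.D (nat_lit 2917) Step.done))))) (Scr.cons (nat_lit 6) (nat_lit 1) (Step.U (nat_lit 5272) (Step.F (nat_lit 8050) (Step.L (Step.L (Step.L (Step.L (Step.L (Step.L (Step.L (Step.D (nat_lit 5267) (Step.D (nat_lit 8306) Step.done))))))))))) (Scr.cons (nat_lit 8) (nat_lit 1) (Step.U (nat_lit 10697) (Step.U (nat_lit 7671) (Step.U (nat_lit 4702) (Step.U (nat_lit 2554) (Step.B (nat_lit 8048) (Step.U (nat_lit 2548) (Step.U (nat_lit 1237) (Step.D (nat_lit 1238) (Step.B (nat_lit 7431) (Step.F (nat_lit 7461) (Step.B (nat_lit 7427) (Step.B (nat_lit 7486) (Step.B (nat_lit 8049) (Step.D (nat_lit 8306) (Step.F (nat_lit 8051) (Step.D (nat_lit 8311) Step.done)))))))))))))))) (Scr.cons (nat_lit 0) (nat_lit 1) (Step.D (nat_lit 10697) (Step.B (nat_lit 8052) Step.done)) (Scr.cons (nat_lit 1) (nat_lit 1) (Step.U (nat_lit 2554) (Step.B (nat_lit 7472) (Step.L Step.done))) (Scr.cons (nat_lit 0) (nat_lit 1) (Step.U (nat_lit 4702) (Step.B (nat_lit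 8054) (Step.L Step.done))) (Scr.cons (nat_lit 1) (nat_lit 1) (Step.U (nat_lit 7671) (Step.B (nat_lit 8055) (Step.L Step.done))) (Scr.cons (nat_lit 0) (nat_lit 1) (Step.F (nat_lit 8053) (Step.B (nat_lit 8056) (Step.L Step.done))) (Scr.cons (nat_lit 1) (nat_lit 1) (Step.D (nat_lit 8311) (Step.B (nat_lit 8057) (Step.L Step.done))) (Scr.cons (nat_lit 1) (nat_lit 1) (Step.D (nat_lit 5272) (Step.B (nat_lit 8058) (Step.L Step.done))) (Scr.cons (nat_lit 1) (nat_lit 1) (Step.U (nat_lit 5271) (Step.B (nat_lit 8059) (Step.D (nat_lit 4489) Step.done))) (Scr.cons (nat_lit 0) (nat_lit 1) (Step.U (nat_lit 8310) (Step.B (nat_lit 8060) (Step.D (nat_lit 7424) Step.done))) (Scr.cons (nat_lit 1) (nat_lit 1) (Step.B (nat_lit 4216) (Step.F (nat_lit 4217) (Step.D (nat_lit 10481) Step.done))) (Scr.cons (nat_lit 1) (nat_lit 1) (Step.D (nat_lit 10481) (Step.F (nat_lit 8062) Step.done)) (Scr.cons (nat_lit 1) (nat_lit 1) (Step.U (nat_lit 11239) (Step.B (nat_lit 8061) (Step.B (nat_lit 8063) Step.done)))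 (Scr.cons (nat_lit 0) (nat_lit 1) (Step.B (nat_lit 2608) (Step.F (nat_lit 8062) (Step.D (nat_lit 9140) Step.done))) (Scr.cons (nat_lit 0) (nat_lit 1) (Step.D (nat_lit 9140) (Step.F (nat_lit 8065) Step.done)) (Scr.cons (nat_lit 0) (nat_lit 1) (Step.F (nat_lit 8047) (Step.B (nat_lit 8064) (Step.B (nat_lit 8066) Step.done))) (Scr.cons (nat_lit 1) (nat_lit 1) (Step.D (nat_lit 11432) (Step.B (nat_lit 8067) (Step.U (nat_lit 7513) Step.done))) (Scr.cons (nat_lit 0) (nat_lit 1) (Step.B (nat_lit 8046) (Step.B (nat_lit 8068) (Step.D (nat_lit 7512) Step.done))) (Scr.cons (nat_lit 1) (nat_lit 1) (Step.B (nat_lit 8043) (Step.F (nat_lit 8069) (Step.L Step.done))) (Scr.cons (nat_lit 1) (nat_lit 1) (Step.U (nat_lit 7516) (Step.B (nat_lit 8070) (Step.L Step.done))) (Scr.cons (nat_lit 1) (nat_lit 1) (Step.U (nat_lit 10567) (Step.B (nat_lit 8071) (Step.L Step.done))) (Scr.cons (nat_lit 0) (nat_lit 1) (Step.F (nat_lit 8045) (Step.B (nat_lit 8072) (Step.L Step.done))) (Scr.cons (nat_lit 1)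 (nat_lit 1) (Step.B (nat_lit 8040) (Step.B (nat_lit 8073) (Step.L Step.done))) (Scr.cons (nat_lit 1) (nat_lit 1) (Step.D (nat_lit 7613) (Step.B (nat_lit 8074) (Step.L Step.done))) (Scr.cons (nat_lit 0) (nat_lit 1) (Step.B (nat_lit 8033) (Step.B (nat_lit 8075) (Step.L Step.done))) (Scr.cons (nat_lit 1) (nat_lit 1) (Step.B (nat_lit 8032) (Step.B (nat_lit 8076) (Step.D (nat_lit 1570) Step.done))) (Scr.cons (nat_lit 0) (nat_lit 1) (Step.F (nat_lit 6873) (Step.F (nat_lit 8077) (Step.L Step.done))) (Scr.cons (nat_lit 1) (nat_lit 0) (Step.U (nat_lit 5551) (Step.B (nat_lit 8078) (Step.L Step.done))) (Scr.cons (nat_lit 0) (nat_lit 0) (Step.F (nat_lit 7891) (Step.F (nat_lit 6880) (Step.B (nat_lit 8079) (Step.B (nat_lit 7897) Step.done)))) (Scr.cons (nat_lit 1) (nat_lit 0) (Step.F (nat_lit 8031) (Step.F (nat_lit 8080) (Step.L Step.done))) (Scr.cons (nat_lit 1) (nat_lit 0) (Step.D (nat_lit 7951) (Step.B (nat_lit 8081) (Step.B (nat_lit 7893) Step.done))) Scr.nil))))))))))))))))))))))))))))))))))))))))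
noncomputable def s202 : Scr := (Scr.cons (nat_lit 0) (nat_lit 0) (Step.B (nat_lit 7895) (Step.F (nat_lit 7896) (Step.F (nat_lit 8082) (Step.L Step.done)))) (Scr.cons (nat_lit 1) (nat_lit 1) (Step.D (nat_lit 7813) (Step.B (nat_lit 8083) (Step.L Step.done))) (Scr.cons (nat_lit 0) (nat_lit 1) (Step.B (nat_lit 7787) (Step.B (nat_lit 8084) (Step.L Step.done))) (Scr.cons (nat_lit 1) (nat_lit 1) (Step.D (nat_lit 2620) (Step.B (nat_lit 8085) (Step.D (nat_lit 1316) Step.done))) (Scr.cons (nat_lit 0) (nat_lit 1) (Step.B (nat_lit 6716) (Step.F (nat_lit 8086) (Step.L Step.done))) (Scr.cons (nat_lit 1) (nat_lit 1) (Step.B (nat_lit 390) (Step.B (nat_lit 8087) (Step.L Step.done))) (Scr.cons (nat_lit 1) (nat_lit 1) (Step.U (nat_lit 4369) (Step.B (nat_lit 8088) (Step.L Step.done))) (Scr.cons (nat_lit 0) (nat_lit 1) (Step.U (nat_lit 7287) (Step.B (nat_lit 8089) (Step.D (nat_lit 4819) Step.done))) (Scr.cons (nat_lit 1) (nat_lit 1) (Step.B (nat_lit 6518) (Step.B (nat_lit 8090) (Step.D (nat_lit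 7814) Step.done))) (Scr.cons (nat_lit 1) (nat_lit 1) (Step.B (nat_lit 7781) (Step.B (nat_lit 7786) (Step.F (nat_lit 8091) (Step.U (nat_lit 5693) Step.done)))) (Scr.cons (nat_lit 1) (nat_lit 1) (Step.B (nat_lit 7721) (Step.B (nat_lit 8092) (Step.L Step.done))) (Scr.cons (nat_lit 1) (nat_lit 1) (Step.D (nat_lit 3278) (Step.B (nat_lit 8093) (Step.D (nat_lit 3210) Step.done))) (Scr.cons (nat_lit 0) (nat_lit 1) (Step.F (nat_lit 7718) (Step.F (nat_lit 8094) (Step.L Step.done))) (Scr.cons (nat_lit 1) (nat_lit 1) (Step.U (nat_lit 8792) (Step.B (nat_lit 8095) (Step.D (nat_lit 5813) Step.done))) (Scr.cons (nat_lit 1) (nat_lit 1) (Step.F (nat_lit 7720) (Step.B (nat_lit 8096) (Step.D (nat_lit 8941) Step.done))) (Scr.cons (nat_lit 1) (nat_lit 1) (Step.D (nat_lit 10866) (Step.B (nat_lit 8097) (Step.D (nat_lit 11559) Step.done))) (Scr.cons (nat_lit 1) (nat_lit 1) (Step.D (nat_lit 11559) (Step.F (nat_lit 8098) Step.done)) (Scr.cons (nat_lit 11) (nat_lit 0) (Step.U (nat_lit 9044) (Step.L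 (Step.L (Step.D (nat_lit 9043) (Step.D (nat_lit 11597) Step.done))))) (Scr.cons (nat_lit 9) (nat_lit 3) (Step.U (nat_lit 11592) (Step.U (nat_lit 9029) (Step.U (nat_lit 5877) (Step.U (nat_lit 3314) (Step.D (nat_lit 3315) (Step.D (nat_lit 5878) (Step.F (nat_lit 7714) (Step.U (nat_lit 7870) (Step.B (nat_lit 7717) (Step.F (nat_lit 8099) (Step.U (nat_lit 8941) (Step.U (nat_lit 5813) (Step.L (Step.L (Step.L (Step.L (Step.L (Step.L (Step.L (Step.L (Step.L (Step.L (Step.D (nat_lit 9044) (Step.B (nat_lit 8100) Step.done)))))))))))))))))))))))) (Scr.cons (nat_lit 1) (nat_lit 1) (Step.D (nat_lit 11597) (Step.F (nat_lit 8101) Step.done)) (Scr.cons (nat_lit 1) (nat_lit 0) (Step.B (nat_lit 8100) (Step.F (nat_lit 8101) Step.done)) (Scr.cons (nat_lit 15) (nat_lit 1) (Step.U (nat_lit 11572) (Step.L (Step.L (Step.L (Step.L (Step.L (Step.L (Step.L (Step.D (nat_lit 711) (Step.D (nat_lit 1663) (Step.D (nat_lit 3314) (Step.D (nat_lit 5877) (Step.D (nat_lit 9029) (Step.D (nat_lit 11592) (Step.F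 (nat_lit 8103) (Step.D (nat_lit 11598) Step.done)))))))))))))))) (Scr.cons (nat_lit 0) (nat_lit 1) (Step.D (nat_lit 11598) (Step.F (nat_lit 8104) Step.done)) (Scr.cons (nat_lit 11) (nat_lit 0) (Step.U (nat_lit 3285) (Step.L (Step.L (Step.D (nat_lit 3284) (Step.D (nat_lit 5821) Step.done))))) (Scr.cons (nat_lit 16) (nat_lit 3) (Step.U (nat_lit 2705) (Step.D (nat_lit 2704) (Step.B (nat_lit 7655) (Step.D (nat_lit 7335) (Step.B (nat_lit 7669) (Step.F (nat_lit 7670) (Step.D (nat_lit 9043) (Step.B (nat_lit 8102) (Step.F (nat_lit 8103) (Step.B (nat_lit 8105) (Step.U (nat_lit 11572) (Step.L (Step.L (Step.L (Step.L (Step.L (Step.L (Step.L (Step.D (nat_lit 3284) (Step.D (nat_lit 5821) (Step.F (nat_lit 8106) (Step.D (nat_lit 5822) (Step.D (nat_lit 8955) (Step.D (nat_lit 11574) Step.done)))))))))))))))))))))))) (Scr.cons (nat_lit 0) (nat_lit 1) (Step.B (nat_lit 7652) (Step.F (nat_lit 8107) (Step.D (nat_lit 4943) Step.done))) (Scr.cons (nat_lit 1) (nat_lit 0) (Step.D (nat_lit 8955)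 (Step.B (nat_lit 8108) (Step.D (nat_lit 7957) Step.done))) (Scr.cons (nat_lit 1) (nat_lit 0) (Step.D (nat_lit 7957) (Step.F (nat_lit 8109) Step.done)) (Scr.cons (nat_lit 15) (nat_lit 1) (Step.F (nat_lit 7649) (Step.L (Step.L (Step.L (Step.L (Step.L (Step.L (Step.L (Step.L (Step.L (Step.L (Step.L (Step.D (nat_lit 2373) (Step.D (nat_lit 4416) (Step.D (nat_lit 7334) Step.done))))))))))))))) (Scr.cons (nat_lit 13) (nat_lit 3) (Step.L (Step.L (Step.D (nat_lit 3285) (Step.D (nat_lit 5822) (Step.F (nat_lit 8110) (Step.U (nat_lit 4943) (Step.B (nat_lit 7654) (Step.D (nat_lit 7334) (Step.F (nat_lit 8111) (Step.U (nat_lit 8747) (Step.D (nat_lit 8748) (Step.D (nat_lit 11467) Step.done)))))))))))) (Scr.cons (nat_lit 0) (nat_lit 1) (Step.B (nat_lit 7650) (Step.F (nat_lit 8112) (Step.L Step.done))) (Scr.cons (nat_lit 1) (nat_lit 1) (Step.D (nat_lit 8748) (Step.B (nat_lit 8113) (Step.D (nat_lit 5838) Step.done))) (Scr.cons (nat_lit 1) (nat_lit 1) (Step.D (nat_lit 5838) (Step.F (nat_lit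 8114) Step.done)) (Scr.cons (nat_lit 8) (nat_lit 1) (Step.L (Step.L (Step.L (Step.L (Step.L (Step.L (Step.L (Step.L (Step.L (Step.L (Step.L (Step.L (Step.L (Step.L (Step.D (nat_lit 11570) Step.done))))))))))))))) (Scr.cons (nat_lit 12) (nat_lit 0) (Step.B (nat_lit 8116) (Step.U (nat_lit 11570) (Step.L (Step.L (Step.D (nat_lit 11570) Step.done))))) (Scr.cons (nat_lit 6) (nat_lit 3) (Step.F (nat_lit 8117) (Step.L (Step.L (Step.L (Step.L (Step.D (nat_lit 11572) (Step.F (nat_lit 8105) (Step.U (nat_lit 9044) (Step.L (Step.L (Step.L (Step.L Step.done)))))))))))) (Scr.cons (nat_lit 0) (nat_lit 0) (Step.B (nat_lit 8117) (Step.B (nat_lit 8118) Step.done)) (Scr.cons (nat_lit 14) (nat_lit 5) (Step.L (Step.L (Step.L (Step.L (Step.L (Step.L (Step.L (Step.L (Step.L (Step.L (Step.L (Step.L (Step.L (Step.L (Step.L (Step.L (Step.L (Step.L (Step.L (Step.D (nat_lit 11569) Step.done)))))))))))))))))))) (Scr.cons (nat_lit 11) (nat_lit 0) (Step.L (Step.D (nat_lit 11569) (Step.F (nat_lit 8120)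 (Step.L (Step.L Step.done))))) (Scr.cons (nat_lit 11) (nat_lit 0) (Step.U (nat_lit 8951) (Step.L (Step.L (Step.D (nat_lit 8950) (Step.D (nat_lit 11567) Step.done))))) Scr.nil))))))))))))))))))))))))))))))))))))))))
noncomputable def s203 : Scr := (Scr.cons (nat_lit 12) (nat_lit 1) (Step.L (Step.L (Step.L (Step.L (Step.D (nat_lit 11525) Step.done))))) (Scr.cons (nat_lit 16) (nat_lit 1) (Step.F (nat_lit 8123) (Step.L (Step.L (Step.L (Step.L (Step.L (Step.L (Step.L (Step.L (Step.L (Step.L (Step.L (Step.L (Step.L (Step.L (Step.L (Step.L (Step.L (Step.L (Step.L (Step.L (Step.D (nat_lit 8569) (Step.D (nat_lit 11380) Step.done))))))))))))))))))))))) (Scr.cons (nat_lit 11) (nat_lit 0) (Step.L (Step.L (Step.L (Step.L (Step.D (nat_lit 8569) Step.done))))) (Scr.cons (nat_lit 12) (nat_lit 1) (Step.F (nat_lit 8125) (Step.L (Step.L (Step.B (nat_lit 8125) (Step.D (nat_lit 11380) Step.done))))) (Scr.cons (nat_lit 11) (nat_lit 0) (Step.U (nat_lit 2331) (Step.L (Step.D (nat_lit 1111) (Step.D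 (nat_lit 2329) (Step.D (nat_lit 4351) Step.done))))) (Scr.cons (nat_lit 12) (nat_lit 1) (Step.L (Step.L (Step.L (Step.L (Step.D (nat_lit 2330) Step.done))))) (Scr.cons (nat_lit 12) (nat_lit 1) (Step.U (nat_lit 2331) (Step.D (nat_lit 2330) (Step.F (nat_lit 8128) (Step.D (nat_lit 2331) (Step.D (nat_lit 4352) Step.done))))) (Scr.cons (nat_lit 12) (nat_lit 1) (Step.F (nat_lit 8127) (Step.D (nat_lit 4352) (Step.F (nat_lit 8129) (Step.B (nat_lit 8127) (Step.D (nat_lit 7271) Step.done))))) (Scr.cons (nat_lit 14) (nat_lit 2) (Step.F (nat_lit 8126) (Step.F (nat_lit 8125) (Step.L (Step.L (Step.L (Step.L (Step.L (Step.L (Step.L (Step.L (Step.L (Step.L (Step.L (Step.L (Step.L (Step.D (nat_lit 1111) (Step.D (nat_lit 2329) (Step.D (nat_lit 4351) (Step.B (nat_lit 8130) (Step.D (nat_lit 10351) Step.done)))))))))))))))))))) (Scr.cons (nat_lit 12) (nat_lit 4) (Step.U (nat_lit 41) (Step.F (nat_lit 32) (Step.D (nat_lit 5) (Step.D (nat_lit 41) (Step.D (nat_lit 148) Step.done))))) (Scr.cons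 (nat_lit 12) (nat_lit 1) (Step.U (nat_lit 428) (Step.F (nat_lit 8132) (Step.D (nat_lit 148) (Step.D (nat_lit 428) (Step.D (nat_lit 1108) Step.done))))) (Scr.cons (nat_lit 6) (nat_lit 3) (Step.U (nat_lit 1111) (Step.L (Step.L (Step.L (Step.L (Step.B (nat_lit 32) (Step.D (nat_lit 41) (Step.D (nat_lit 148) (Step.D (nat_lit 428) (Step.B (nat_lit 8133) (Step.D (nat_lit 2327) Step.done))))))))))) (Scr.cons (nat_lit 11) (nat_lit 0) (Step.U (nat_lit 151) (Step.U (nat_lit 42) (Step.D (nat_lit 41) (Step.D (nat_lit 149) (Step.D (nat_lit 429) Step.done))))) (Scr.cons (nat_lit 12) (nat_lit 1) (Step.U (nat_lit 151) (Step.D (nat_lit 150) (Step.F (nat_lit 34) (Step.D (nat_lit 151) (Step.D (nat_lit 431) Step.done))))) (Scr.cons (nat_lit 12) (nat_lit 1) (Step.F (nat_lit 8135) (Step.D (nat_lit 431) (Step.F (nat_lit 8136) (Step.B (nat_lit 8135) (Step.D (nat_lit 1109) Step.done))))) (Scr.cons (nat_lit 12) (nat_lit 4) (Step.U (nat_lit 2328) (Step.F (nat_lit 8137) (Step.D (nat_lit 1109) (Step.D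 (nat_lit 2328) (Step.D (nat_lit 4350) Step.done))))) (Scr.cons (nat_lit 12) (nat_lit 1) (Step.L (Step.L (Step.L (Step.L (Step.D (nat_lit 2351) Step.done))))) (Scr.cons (nat_lit 16) (nat_lit 4) (Step.U (nat_lit 4383) (Step.F (nat_lit 8139) (Step.L (Step.L (Step.L (Step.L (Step.L (Step.L (Step.L (Step.L (Step.L (Step.L (Step.L (Step.L (Step.L (Step.D (nat_lit 5) (Step.D (nat_lit 41) (Step.D (nat_lit 149) (Step.D (nat_lit 429) (Step.D (nat_lit 1109) (Step.D (nat_lit 2328) (Step.D (nat_lit 4350) (Step.D (nat_lit 7269) Step.done))))))))))))))))))))))) (Scr.cons (nat_lit 4) (nat_lit 0) (Step.U (nat_lit 4382) (Step.D (nat_lit 4383) (Step.B (nat_lit 8140) (Step.U (nat_lit 7269) (Step.D (nat_lit 7270) Step.done))))) (Scr.cons (nat_lit 12) (nat_lit 1) (Step.U (nat_lit 1315) (Step.F (nat_lit 2712) (Step.D (nat_lit 532) (Step.D (nat_lit 1315) (Step.D (nat_lit 2699) Step.done))))) (Scr.cons (nat_lit 12) (nat_lit 1) (Step.U (nat_lit 4935) (Step.F (nat_lit 8142) (Step.D (nat_lit 2699)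 (Step.D (nat_lit 4935) (Step.D (nat_lit 7945) Step.done))))) (Scr.cons (nat_lit 8) (nat_lit 1) (Step.U (nat_lit 7947) (Step.L (Step.L (Step.L (Step.L (Step.L (Step.L (Step.L (Step.L (Step.B (nat_lit 2712) (Step.D (nat_lit 1315) (Step.B (nat_lit 8142) (Step.D (nat_lit 4935) (Step.B (nat_lit 8143) (Step.D (nat_lit 10930) Step.done))))))))))))))) (Scr.cons (nat_lit 12) (nat_lit 0) (Step.B (nat_lit 8144) (Step.U (nat_lit 10930) (Step.F (nat_lit 8143) (Step.D (nat_lit 7945) (Step.D (nat_lit 10930) Step.done))))) (Scr.cons (nat_lit 1) (nat_lit 0) (Step.B (nat_lit 3837) (Step.F (nat_lit 7874) (Step.L Step.done))) (Scr.cons (nat_lit 1) (nat_lit 0) (Step.D (nat_lit 742) (Step.B (nat_lit 8146) (Step.L Step.done))) (Scr.cons (nat_lit 0) (nat_lit 1) (Step.B (nat_lit 3831) (Step.B (nat_lit 8147) (Step.D (nat_lit 193) Step.done))) (Scr.cons (nat_lit 1) (nat_lit 0) (Step.F (nat_lit 2710) (Step.F (nat_lit 8148) (Step.L Step.done))) (Scr.cons (nat_lit 1) (nat_lit 0) (Step.U (nat_lit 1315)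 (Step.B (nat_lit 8149) (Step.L Step.done))) (Scr.cons (nat_lit 0) (nat_lit 1) (Step.U (nat_lit 2699) (Step.B (nat_lit 8150) (Step.L Step.done))) (Scr.cons (nat_lit 1) (nat_lit 0) (Step.U (nat_lit 4935) (Step.B (nat_lit 8151) (Step.L Step.done))) (Scr.cons (nat_lit 0) (nat_lit 1) (Step.U (nat_lit 7945) (Step.B (nat_lit 8152) (Step.L Step.done))) (Scr.cons (nat_lit 1) (nat_lit 0) (Step.U (nat_lit 10930) (Step.B (nat_lit 8153) (Step.L Step.done))) (Scr.cons (nat_lit 0) (nat_lit 1) (Step.B (nat_lit 8145) (Step.B (nat_lit 8154) (Step.L Step.done))) (Scr.cons (nat_lit 1) (nat_lit 0) (Step.D (nat_lit 7947) (Step.B (nat_lit 8155) (Step.D (nat_lit 7347) Step.done))) (Scr.cons (nat_lit 0) (nat_lit 1) (Step.U (nat_lit 10416) (Step.F (nat_lit 8156) (Step.L Step.done))) (Scr.cons (nat_lit 1) (nat_lit 1) (Step.B (nat_lit 7325) (Step.B (nat_lit 8157) (Step.D (nat_lit 4937) Step.done))) (Scr.cons (nat_lit 1) (nat_lit 1) (Step.D (nat_lit 8547) (Step.B (nat_lit 8158) (Step.D (nat_lit 7949)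 Step.done))) (Scr.cons (nat_lit 11) (nat_lit 0) (Step.L (Step.L (Step.L (Step.D (nat_lit 2350) (Step.D (nat_lit 4381) Step.done))))) (Scr.cons (nat_lit 12) (nat_lit 4) (Step.U (nat_lit 2350) (Step.L (Step.L (Step.D (nat_lit 2350) (Step.D (nat_lit 4380) Step.done))))) (Scr.cons (nat_lit 14) (nat_lit 6) (Step.U (nat_lit 10364) (Step.U (nat_lit 7296) (Step.U (nat_lit 4379) (Step.F (nat_lit 6020) (Step.F (nat_lit 6019) (Step.L (Step.L (Step.L (Step.L (Step.L (Step.L (Step.L (Step.L (Step.L (Step.L (Step.L (Step.D (nat_lit 2350) (Step.D (nat_lit 4380) (Step.D (nat_lit 7297) (Step.D (nat_lit 10366) Step.done)))))))))))))))))))) Scr.nil))))))))))))))))))))))))))))))))))))))))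
noncomputable def s204 : Scr := (Scr.cons (nat_lit 4) (nat_lit 0) (Step.B (nat_lit 8162) (Step.U (nat_lit 10366) (Step.U (nat_lit 7297) (Step.D (nat_lit 7298) (Step.D (nat_lit 10367) Step.done))))) (Scr.cons (nat_lit 12) (nat_lit 4) (Step.U (nat_lit 4572) (Step.F (nat_lit 6018) (Step.D (nat_lit 2456) (Step.D (nat_lit 4572) (Step.D (nat_lit 7530) Step.done))))) (Scr.cons (nat_lit 12) (nat_lit 4) (Step.U (nat_lit 5261) (Step.F (nat_lit 3808) (Step.D (nat_lit 2910) (Step.D (nat_lit 5261) (Step.D (nat_lit 8301) Step.done))))) (Scr.cons (nat_lit 14) (nat_lit 6) (Step.U (nat_lit 4368) (Step.U (nat_lit 2340) (Step.U (nat_lit 1115) (Step.L (Step.L (Step.L (Step.L (Step.L (Step.L (Step.L (Step.L (Step.L (Step.L (Step.L (Step.L (Step.L (Step.D (nat_lit 436) (Step.D (nat_lit 1119) (Step.D (nat_lit 2346) (Step.D (nat_lit 4376) Step.done)))))))))))))))))))) (Scr.cons (nat_lit 4) (nat_lit 0) (Step.B (nat_lit 8166) (Step.U (nat_lit 4376) (Step.U (nat_lit 2346) (Step.D (nat_lit 2347)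 (Step.D (nat_lit 4377) Step.done))))) (Scr.cons (nat_lit 7) (nat_lit 5) (Step.F (nat_lit 3803) (Step.L (Step.L (Step.L (Step.L (Step.L (Step.L (Step.L (Step.L (Step.L (Step.L (Step.L (Step.L (Step.L (Step.L (Step.L (Step.L (Step.L (Step.B (nat_lit 6512) (Step.D (nat_lit 4734) Step.done)))))))))))))))))))) (Scr.cons (nat_lit 4) (nat_lit 0) (Step.U (nat_lit 8302) (Step.U (nat_lit 5261) (Step.F (nat_lit 3811) (Step.D (nat_lit 7563) (Step.D (nat_lit 10599) Step.done))))) (Scr.cons (nat_lit 9) (nat_lit 3) (Step.U (nat_lit 10577) (Step.U (nat_lit 7530) (Step.U (nat_lit 4572) (Step.B (nat_lit 6021) (Step.U (nat_lit 4378) (Step.U (nat_lit 2348) (Step.U (nat_lit 1120) (Step.B (nat_lit 7727) (Step.D (nat_lit 2347) (Step.D (nat_lit 4377) (Step.F (nat_lit 8167) (Step.U (nat_lit 4368) (Step.B (nat_lit 4025) (Step.B (nat_lit 4026) (Step.U (nat_lit 4733) (Step.D (nat_lit 4734) (Step.F (nat_lit 8168) (Step.U (nat_lit 7564) (Step.L (Step.B (nat_lit 3802) (Step.D (nat_lit 7563) (Step.D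 (nat_lit 10599) (Step.F (nat_lit 8169) Step.done))))))))))))))))))))))) (Scr.cons (nat_lit 5) (nat_lit 2) (Step.U (nat_lit 8302) (Step.B (nat_lit 8165) (Step.U (nat_lit 8301) (Step.D (nat_lit 8302) (Step.F (nat_lit 8170) Step.done))))) (Scr.cons (nat_lit 0) (nat_lit 1) (Step.F (nat_lit 8171) (Step.F (nat_lit 3814) (Step.F (nat_lit 3796) Step.done))) (Scr.cons (nat_lit 11) (nat_lit 0) (Step.U (nat_lit 3273) (Step.L (Step.L (Step.D (nat_lit 3272) (Step.D (nat_lit 5806) Step.done))))) (Scr.cons (nat_lit 1) (nat_lit 0) (Step.D (nat_lit 10577) (Step.B (nat_lit 8172) (Step.B (nat_lit 8173) Step.done))) (Scr.cons (nat_lit 0) (nat_lit 1) (Step.B (nat_lit 8164) (Step.B (nat_lit 8174) (Step.D (nat_lit 8935) Step.done))) (Scr.cons (nat_lit 0) (nat_lit 1) (Step.D (nat_lit 8935) (Step.F (nat_lit 8175) Step.done)) (Scr.cons (nat_lit 0) (nat_lit 1) (Step.U (nat_lit 2910) (Step.B (nat_lit 7875) (Step.L Step.done))) (Scr.cons (nat_lit 1) (nat_lit 1) (Step.U (nat_lit 5261) (Step.B (nat_lit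 8177) (Step.L Step.done))) (Scr.cons (nat_lit 1) (nat_lit 1) (Step.F (nat_lit 3815) (Step.B (nat_lit 8178) (Step.L Step.done))) (Scr.cons (nat_lit 0) (nat_lit 1) (Step.B (nat_lit 3796) (Step.B (nat_lit 8179) (Step.L Step.done))) (Scr.cons (nat_lit 1) (nat_lit 0) (Step.F (nat_lit 8173) (Step.B (nat_lit 8180) (Step.D (nat_lit 4675) Step.done))) (Scr.cons (nat_lit 13) (nat_lit 2) (Step.L (Step.L (Step.L (Step.L (Step.L (Step.L (Step.L (Step.L (Step.L (Step.L (Step.D (nat_lit 4675) Step.done))))))))))) (Scr.cons (nat_lit 0) (nat_lit 1) (Step.F (nat_lit 8176) (Step.B (nat_lit 8181) (Step.F (nat_lit 8182) Step.done))) (Scr.cons (nat_lit 1) (nat_lit 1) (Step.F (nat_lit 6022) (Step.B (nat_lit 8183) (Step.L Step.done))) (Scr.cons (nat_lit 0) (nat_lit 1) (Step.U (nat_lit 10364) (Step.B (nat_lit 8184) (Step.L Step.done))) (Scr.cons (nat_lit 1) (nat_lit 1) (Step.F (nat_lit 8163) (Step.B (nat_lit 8185) (Step.L Step.done))) (Scr.cons (nat_lit 1) (nat_lit 1) (Step.D (nat_lit 10367)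 (Step.B (nat_lit 8186) (Step.L Step.done))) (Scr.cons (nat_lit 1) (nat_lit 1) (Step.D (nat_lit 7298) (Step.B (nat_lit 8187) (Step.L Step.done))) (Scr.cons (nat_lit 0) (nat_lit 1) (Step.B (nat_lit 8161) (Step.B (nat_lit 8188) (Step.L Step.done))) (Scr.cons (nat_lit 1) (nat_lit 1) (Step.U (nat_lit 4381) (Step.B (nat_lit 8189) (Step.L Step.done))) (Scr.cons (nat_lit 1) (nat_lit 1) (Step.B (nat_lit 8160) (Step.B (nat_lit 8190) (Step.D (nat_lit 4937) Step.done))) (Scr.cons (nat_lit 1) (nat_lit 1) (Step.B (nat_lit 8159) (Step.U (nat_lit 7949) (Step.F (nat_lit 8191) (Step.L Step.done)))) (Scr.cons (nat_lit 0) (nat_lit 1) (Step.B (nat_lit 7320) (Step.B (nat_lit 8192) (Step.D (nat_lit 2351) Step.done))) (Scr.cons (nat_lit 1) (nat_lit 1) (Step.B (nat_lit 6924) (Step.B (nat_lit 8193) (Step.D (nat_lit 4382) Step.done))) (Scr.cons (nat_lit 1) (nat_lit 1) (Step.F (nat_lit 8141) (Step.F (nat_lit 8194) (Step.U (nat_lit 1513) Step.done))) (Scr.cons (nat_lit 1) (nat_lit 1) (Step.D (nat_lit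 7270) (Step.B (nat_lit 8195) (Step.U (nat_lit 634) Step.done))) (Scr.cons (nat_lit 0) (nat_lit 1) (Step.B (nat_lit 8138) (Step.B (nat_lit 8196) (Step.F (nat_lit 6906) Step.done))) (Scr.cons (nat_lit 11) (nat_lit 0) (Step.U (nat_lit 228) (Step.U (nat_lit 62) (Step.L (Step.D (nat_lit 226) (Step.D (nat_lit 632) Step.done))))) (Scr.cons (nat_lit 12) (nat_lit 1) (Step.U (nat_lit 228) (Step.D (nat_lit 227) (Step.F (nat_lit 6906) (Step.D (nat_lit 228) (Step.D (nat_lit 635) Step.done))))) (Scr.cons (nat_lit 12) (nat_lit 1) (Step.F (nat_lit 8198) (Step.D (nat_lit 635) (Step.F (nat_lit 8199) (Step.B (nat_lit 8198) (Step.D (nat_lit 1510) Step.done))))) (Scr.cons (nat_lit 11) (nat_lit 0) (Step.U (nat_lit 647) (Step.U (nat_lit 232) (Step.L (Step.L (Step.D (nat_lit 1538) Step.done))))) (Scr.cons (nat_lit 12) (nat_lit 1) (Step.U (nat_lit 232) (Step.L (Step.L (Step.D (nat_lit 232) (Step.D (nat_lit 646) Step.done))))) Scr.nil))))))))))))))))))))))))))))))))))))))))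
noncomputable def s205 : Scr := (Scr.cons (nat_lit 12) (nat_lit 1) (Step.U (nat_lit 647) (Step.D (nat_lit 646) (Step.F (nat_lit 8202) (Step.D (nat_lit 647) (Step.D (nat_lit 1540) Step.done))))) (Scr.cons (nat_lit 12) (nat_lit 1) (Step.F (nat_lit 8201) (Step.D (nat_lit 1540) (Step.F (nat_lit 8203) (Step.B (nat_lit 8201) (Step.D (nat_lit 3078) Step.done))))) (Scr.cons (nat_lit 7) (nat_lit 5) (Step.F (nat_lit 8204) (Step.U (nat_lit 1538) (Step.L (Step.L (Step.L (Step.L (Step.L (Step.L (Step.L (Step.L (Step.L (Step.L (Step.L (Step.L (Step.L (Step.D (nat_lit 62) (Step.D (nat_lit 228) (Step.B (nat_lit 8198) (Step.B (nat_lit 8200) (Step.D (nat_lit 3035) Step.done)))))))))))))))))))) (Scr.cons (nat_lit 1) (nat_lit 1) (Step.D (nat_lit 4708) (Step.F (nat_lit 6895) Step.done)) (Scr.cons (nat_lit 13) (nat_lit 3) (Step.U (nat_lit 2875) (Step.L (Step.L (Step.L (Step.L (Step.L (Step.L (Step.L (Step.L (Step.L (Step.D (nat_lit 3077) Step.done))))))))))) (Scr.cons (nat_lit 1) (nat_lit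 0) (Step.F (nat_lit 8207) (Step.B (nat_lit 7818) (Step.U (nat_lit 2557) Step.done))) (Scr.cons (nat_lit 0) (nat_lit 1) (Step.B (nat_lit 446) (Step.B (nat_lit 8208) (Step.D (nat_lit 2556) Step.done))) (Scr.cons (nat_lit 1) (nat_lit 1) (Step.F (nat_lit 8206) (Step.F (nat_lit 8209) (Step.L Step.done))) (Scr.cons (nat_lit 0) (nat_lit 1) (Step.B (nat_lit 6853) (Step.B (nat_lit 8210) (Step.L Step.done))) (Scr.cons (nat_lit 1) (nat_lit 1) (Step.B (nat_lit 2686) (Step.B (nat_lit 8211) (Step.L Step.done))) (Scr.cons (nat_lit 1) (nat_lit 1) (Step.D (nat_lit 698) (Step.B (nat_lit 8212) (Step.D (nat_lit 1538) Step.done))) (Scr.cons (nat_lit 0) (nat_lit 1) (Step.U (nat_lit 3078) (Step.F (nat_lit 8213) (Step.L Step.done))) (Scr.cons (nat_lit 1) (nat_lit 1) (Step.F (nat_lit 8205) (Step.B (nat_lit 8214) (Step.L Step.done))) (Scr.cons (nat_lit 1) (nat_lit 1) (Step.D (nat_lit 3035) (Step.B (nat_lit 8215) (Step.L Step.done))) (Scr.cons (nat_lit 0) (nat_lit 1) (Step.B (nat_lit 8200) (Step.B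 (nat_lit 8216) (Step.L Step.done))) (Scr.cons (nat_lit 1) (nat_lit 1) (Step.B (nat_lit 8198) (Step.B (nat_lit 8217) (Step.L Step.done))) (Scr.cons (nat_lit 1) (nat_lit 0) (Step.D (nat_lit 2328) (Step.B (nat_lit 8197) (Step.D (nat_lit 228) (Step.B (nat_lit 8218) Step.done)))) (Scr.cons (nat_lit 0) (nat_lit 1) (Step.B (nat_lit 8137) (Step.B (nat_lit 8219) (Step.L Step.done))) (Scr.cons (nat_lit 1) (nat_lit 0) (Step.D (nat_lit 429) (Step.B (nat_lit 8220) (Step.L Step.done))) (Scr.cons (nat_lit 1) (nat_lit 0) (Step.D (nat_lit 149) (Step.B (nat_lit 8221) (Step.L Step.done))) (Scr.cons (nat_lit 0) (nat_lit 1) (Step.U (nat_lit 148) (Step.B (nat_lit 8222) (Step.L Step.done))) (Scr.cons (nat_lit 1) (nat_lit 0) (Step.U (nat_lit 428) (Step.B (nat_lit 8223) (Step.L Step.done))) (Scr.cons (nat_lit 0) (nat_lit 1) (Step.U (nat_lit 1108) (Step.B (nat_lit 8224) (Step.L Step.done))) (Scr.cons (nat_lit 1) (nat_lit 1) (Step.U (nat_lit 2327) (Step.B (nat_lit 8225) (Step.L Step.done))) (Scr.cons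 (nat_lit 0) (nat_lit 1) (Step.B (nat_lit 8134) (Step.B (nat_lit 8226) (Step.D (nat_lit 703) Step.done))) (Scr.cons (nat_lit 1) (nat_lit 1) (Step.U (nat_lit 2329) (Step.B (nat_lit 8227) (Step.D (nat_lit 1647) Step.done))) (Scr.cons (nat_lit 1) (nat_lit 1) (Step.U (nat_lit 4351) (Step.B (nat_lit 8228) (Step.D (nat_lit 3282) Step.done))) (Scr.cons (nat_lit 0) (nat_lit 1) (Step.U (nat_lit 7271) (Step.B (nat_lit 8229) (Step.D (nat_lit 5817) Step.done))) (Scr.cons (nat_lit 1) (nat_lit 1) (Step.U (nat_lit 10351) (Step.B (nat_lit 8230) (Step.D (nat_lit 8948) Step.done))) (Scr.cons (nat_lit 1) (nat_lit 1) (Step.B (nat_lit 8131) (Step.B (nat_lit 8231) (Step.D (nat_lit 11565) Step.done))) (Scr.cons (nat_lit 1) (nat_lit 1) (Step.D (nat_lit 11565) (Step.F (nat_lit 8232) Step.done)) (Scr.cons (nat_lit 7) (nat_lit 3) (Step.L (Step.L (Step.L (Step.D (nat_lit 11525) (Step.B (nat_lit 8124) (Step.F (nat_lit 8233) (Step.U (nat_lit 8948) (Step.U (nat_lit 5817) (Step.U (nat_lit 3282) (Step.U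 (nat_lit 1647) (Step.F (nat_lit 6640) (Step.L (Step.L (Step.L (Step.L (Step.L (Step.L (Step.L (Step.L (Step.D (nat_lit 8951) (Step.B (nat_lit 8122) Step.done))))))))))))))))))))) (Scr.cons (nat_lit 1) (nat_lit 1) (Step.B (nat_lit 8122) (Step.F (nat_lit 8234) (Step.L Step.done))) (Scr.cons (nat_lit 1) (nat_lit 1) (Step.D (nat_lit 8951) (Step.B (nat_lit 8235) (Step.D (nat_lit 11526) Step.done))) (Scr.cons (nat_lit 1) (nat_lit 1) (Step.D (nat_lit 11526) (Step.F (nat_lit 8236) Step.done)) (Scr.cons (nat_lit 13) (nat_lit 0) (Step.L (Step.L (Step.L (Step.L (Step.L (Step.L (Step.L (Step.L (Step.D (nat_lit 5403) (Step.D (nat_lit 8473) (Step.D (nat_lit 11327) Step.done))))))))))) (Scr.cons (nat_lit 11) (nat_lit 0) (Step.L (Step.L (Step.L (Step.L (Step.D (nat_lit 3423) Step.done))))) (Scr.cons (nat_lit 7) (nat_lit 0) (Step.U (nat_lit 11284) (Step.U (nat_lit 8400) (Step.U (nat_lit 5347) (Step.L (Step.L (Step.L (Step.B (nat_lit 8239) (Step.U (nat_lit 3423) (Step.L (Step.L (Step.L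 (Step.L (Step.L (Step.L (Step.L (Step.L (Step.L (Step.L (Step.D (nat_lit 8951) (Step.D (nat_lit 11568) Step.done)))))))))))))))))))) (Scr.cons (nat_lit 4) (nat_lit 0) (Step.F (nat_lit 8240) (Step.U (nat_lit 11284) (Step.U (nat_lit 8400) (Step.D (nat_lit 8401) (Step.D (nat_lit 11285) Step.done))))) (Scr.cons (nat_lit 0) (nat_lit 1) (Step.U (nat_lit 11568) (Step.B (nat_lit 8235) (Step.B (nat_lit 8238) Step.done))) Scr.nil))))))))))))))))))))))))))))))))))))))))
noncomputable def s206 : Scr := (Scr.cons (nat_lit 1) (nat_lit 0) (Step.F (nat_lit 8241) (Step.B (nat_lit 8242) Step.done)) (Scr.cons (nat_lit 12) (nat_lit 1) (Step.L (Step.L (Step.L (Step.L (Step.D (nat_lit 5347) Step.done))))) (Scr.cons (nat_lit 16) (nat_lit 0) (Step.L (Step.L (Step.L (Step.L (Step.L (Step.L (Step.L (Step.B (nat_lit 8238) (Step.F (nat_lit 8243) (Step.U (nat_lit 11285) (Step.U (nat_lit 8401) (Step.F (nat_lit 8244) (Step.L (Step.L (Step.L (Step.L (Step.L (Step.L (Step.L (Step.L (Step.L (Step.L (Step.L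 Step.done))))))))))))))))))))))) (Scr.cons (nat_lit 12) (nat_lit 1) (Step.L (Step.L (Step.L (Step.L (Step.D (nat_lit 8510) Step.done))))) (Scr.cons (nat_lit 12) (nat_lit 1) (Step.L (Step.L (Step.L (Step.L (Step.D (nat_lit 1464) Step.done))))) (Scr.cons (nat_lit 12) (nat_lit 1) (Step.U (nat_lit 2958) (Step.F (nat_lit 8247) (Step.D (nat_lit 1464) (Step.D (nat_lit 2958) (Step.D (nat_lit 5331) Step.done))))) (Scr.cons (nat_lit 15) (nat_lit 0) (Step.U (nat_lit 8381) (Step.F (nat_lit 8248) (Step.U (nat_lit 2958) (Step.F (nat_lit 8247) (Step.L (Step.L (Step.L (Step.L (Step.L (Step.L (Step.L (Step.L (Step.L (Step.D (nat_lit 8368) (Step.D (nat_lit 11267) Step.done))))))))))))))) (Scr.cons (nat_lit 12) (nat_lit 4) (Step.U (nat_lit 11267) (Step.F (nat_lit 5878) (Step.D (nat_lit 8368) (Step.D (nat_lit 11267) (Step.F (nat_lit 8249) Step.done))))) (Scr.cons (nat_lit 11) (nat_lit 0) (Step.U (nat_lit 1498) (Step.L (Step.L (Step.L (Step.D (nat_lit 3019) Step.done))))) (Scr.cons (nat_lit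 12) (nat_lit 1) (Step.U (nat_lit 1498) (Step.L (Step.L (Step.D (nat_lit 1498) (Step.D (nat_lit 3020) Step.done))))) (Scr.cons (nat_lit 12) (nat_lit 1) (Step.F (nat_lit 8251) (Step.D (nat_lit 3020) (Step.F (nat_lit 8252) (Step.B (nat_lit 8251) (Step.D (nat_lit 5431) Step.done))))) (Scr.cons (nat_lit 12) (nat_lit 1) (Step.L (Step.L (Step.L (Step.L (Step.D (nat_lit 3007) Step.done))))) (Scr.cons (nat_lit 14) (nat_lit 2) (Step.F (nat_lit 8253) (Step.F (nat_lit 8251) (Step.U (nat_lit 1498) (Step.L (Step.L (Step.L (Step.L (Step.L (Step.L (Step.L (Step.L (Step.L (Step.L (Step.L (Step.L (Step.L (Step.L (Step.L (Step.B (nat_lit 8254) (Step.D (nat_lit 5411) Step.done)))))))))))))))))))) (Scr.cons (nat_lit 11) (nat_lit 0) (Step.U (nat_lit 5332) (Step.U (nat_lit 2958) (Step.D (nat_lit 2957) (Step.D (nat_lit 5330) (Step.D (nat_lit 8380) Step.done))))) (Scr.cons (nat_lit 12) (nat_lit 1) (Step.U (nat_lit 5332) (Step.D (nat_lit 5331) (Step.F (nat_lit 8248) (Step.D (nat_lit 5332) (Step.D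 (nat_lit 8382) Step.done))))) (Scr.cons (nat_lit 12) (nat_lit 1) (Step.F (nat_lit 8256) (Step.D (nat_lit 8382) (Step.F (nat_lit 8257) (Step.B (nat_lit 8256) (Step.D (nat_lit 11275) Step.done))))) (Scr.cons (nat_lit 12) (nat_lit 4) (Step.L (Step.L (Step.L (Step.L (Step.D (nat_lit 694) Step.done))))) (Scr.cons (nat_lit 12) (nat_lit 1) (Step.U (nat_lit 1632) (Step.F (nat_lit 8259) (Step.D (nat_lit 694) (Step.D (nat_lit 1632) (Step.D (nat_lit 3246) Step.done))))) (Scr.cons (nat_lit 12) (nat_lit 1) (Step.U (nat_lit 5757) (Step.F (nat_lit 8260) (Step.D (nat_lit 3246) (Step.D (nat_lit 5757) (Step.D (nat_lit 8877) Step.done))))) (Scr.cons (nat_lit 11) (nat_lit 0) (Step.L (Step.L (Step.L (Step.L (Step.D (nat_lit 8583) Step.done))))) (Scr.cons (nat_lit 12) (nat_lit 1) (Step.F (nat_lit 8262) (Step.L (Step.L (Step.B (nat_lit 8262) (Step.D (nat_lit 11389) Step.done))))) (Scr.cons (nat_lit 11) (nat_lit 0) (Step.U (nat_lit 8878) (Step.U (nat_lit 5757) (Step.D (nat_lit 5756) (Step.D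 (nat_lit 8876) (Step.D (nat_lit 11532) Step.done))))) (Scr.cons (nat_lit 11) (nat_lit 0) (Step.U (nat_lit 2949) (Step.U (nat_lit 1460) (Step.D (nat_lit 1459) (Step.D (nat_lit 2947) (Step.D (nat_lit 5311) Step.done))))) (Scr.cons (nat_lit 12) (nat_lit 4) (Step.U (nat_lit 60) (Step.L (Step.L (Step.D (nat_lit 60) (Step.D (nat_lit 220) Step.done))))) (Scr.cons (nat_lit 12) (nat_lit 4) (Step.U (nat_lit 221) (Step.D (nat_lit 220) (Step.F (nat_lit 8266) (Step.D (nat_lit 221) (Step.D (nat_lit 614) Step.done))))) (Scr.cons (nat_lit 12) (nat_lit 1) (Step.U (nat_lit 1460) (Step.F (nat_lit 8267) (Step.D (nat_lit 614) (Step.D (nat_lit 1460) (Step.D (nat_lit 2948) Step.done))))) (Scr.cons (nat_lit 12) (nat_lit 1) (Step.U (nat_lit 2949) (Step.D (nat_lit 2948) (Step.F (nat_lit 8268) (Step.D (nat_lit 2949) (Step.D (nat_lit 5312) Step.done))))) (Scr.cons (nat_lit 12) (nat_lit 1) (Step.F (nat_lit 8265) (Step.D (nat_lit 5312) (Step.F (nat_lit 8269) (Step.B (nat_lit 8265) (Step.D (nat_lit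 8349) Step.done))))) (Scr.cons (nat_lit 11) (nat_lit 0) (Step.U (nat_lit 1465) (Step.L (Step.L (Step.L (Step.D (nat_lit 2956) Step.done))))) (Scr.cons (nat_lit 12) (nat_lit 1) (Step.U (nat_lit 1465) (Step.D (nat_lit 1464) (Step.F (nat_lit 8247) (Step.D (nat_lit 1465) (Step.D (nat_lit 2959) Step.done))))) (Scr.cons (nat_lit 12) (nat_lit 1) (Step.F (nat_lit 8271) (Step.D (nat_lit 2959) (Step.F (nat_lit 8272) (Step.B (nat_lit 8271) (Step.D (nat_lit 5328) Step.done))))) (Scr.cons (nat_lit 7) (nat_lit 5) (Step.F (nat_lit 8270) (Step.U (nat_lit 5311) (Step.U (nat_lit 2947) (Step.U (nat_lit 1459) (Step.U (nat_lit 614) (Step.U (nat_lit 221) (Step.U (nat_lit 60) (Step.L (Step.L (Step.L (Step.L (Step.L (Step.L (Step.L (Step.L (Step.L (Step.D (nat_lit 1465) (Step.B (nat_lit 8271) (Step.B (nat_lit 8273) (Step.D (nat_lit 8378) Step.done)))))))))))))))))))) (Scr.cons (nat_lit 11) (nat_lit 0) (Step.U (nat_lit 3247) (Step.U (nat_lit 1632) (Step.D (nat_lit 1631) (Step.D (nat_lit 3245)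 (Step.D (nat_lit 5755) Step.done))))) (Scr.cons (nat_lit 12) (nat_lit 4) (Step.U (nat_lit 1631) (Step.F (nat_lit 8259) (Step.D (nat_lit 694) (Step.D (nat_lit 1631) (Step.D (nat_lit 3244) Step.done))))) (Scr.cons (nat_lit 12) (nat_lit 4) (Step.U (nat_lit 3245) (Step.D (nat_lit 3244) (Step.F (nat_lit 8276) (Step.D (nat_lit 3245) (Step.D (nat_lit 5754) Step.done))))) (Scr.cons (nat_lit 11) (nat_lit 0) (Step.U (nat_lit 8882) (Step.U (nat_lit 5759) (Step.D (nat_lit 5758) (Step.D (nat_lit 8881) (Step.D (nat_lit 11534) Step.done))))) (Scr.cons (nat_lit 1) (nat_lit 1) (Step.U (nat_lit 11534) (Step.F (nat_lit 7031) (Step.U (nat_lit 5314) Step.done))) (Scr.cons (nat_lit 1) (nat_lit 1) (Step.B (nat_lit 8278) (Step.B (nat_lit 8279) (Step.D (nat_lit 5313) Step.done))) (Scr.cons (nat_lit 1) (nat_lit 0) (Step.D (nat_lit 8882) (Step.B (nat_lit 8280) Step.done)) (Scr.cons (nat_lit 14) (nat_lit 6) (Step.L (Step.L (Step.D (nat_lit 616) (Step.D (nat_lit 1462) (Step.D (nat_lit 2951) (Step.D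 (nat_lit 5313) (Step.F (nat_lit 8281) (Step.U (nat_lit 5759) (Step.U (nat_lit 3249) (Step.U (nat_lit 1633) (Step.L (Step.L (Step.L (Step.L (Step.L (Step.B (nat_lit 8259) (Step.D (nat_lit 1631) (Step.D (nat_lit 3245) (Step.D (nat_lit 5754) (Step.D (nat_lit 8875) (Step.D (nat_lit 11531) Step.done))))))))))))))))))))) Scr.nil))))))))))))))))))))))))))))))))))))))))
noncomputable def s207 : Scr := (Scr.cons (nat_lit 11) (nat_lit 0) (Step.L (Step.L (Step.D (nat_lit 60) (Step.D (nat_lit 221) (Step.D (nat_lit 615) Step.done))))) (Scr.cons (nat_lit 1) (nat_lit 0) (Step.D (nat_lit 11531) (Step.F (nat_lit 8282) (Step.B (nat_lit 8283) Step.done))) (Scr.cons (nat_lit 1) (nat_lit 0) (Step.D (nat_lit 8875) (Step.B (nat_lit 8284) (Step.U (nat_lit 615) Step.done))) (Scr.cons (nat_lit 0) (nat_lit 1) (Step.B (nat_lit 8277) (Step.B (nat_lit 8285) (Step.D (nat_lit 614) Step.done))) (Scr.cons (nat_lit 1) (nat_lit 1) (Step.U (nat_lit 5755) (Step.B (nat_lit 8286) (Step.D (nat_lit 1459) Step.done)))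 (Scr.cons (nat_lit 1) (nat_lit 1) (Step.B (nat_lit 8275) (Step.B (nat_lit 8287) (Step.D (nat_lit 2947) Step.done))) (Scr.cons (nat_lit 1) (nat_lit 1) (Step.D (nat_lit 3247) (Step.B (nat_lit 8288) (Step.D (nat_lit 5311) Step.done))) (Scr.cons (nat_lit 0) (nat_lit 1) (Step.U (nat_lit 8349) (Step.F (nat_lit 8289) (Step.D (nat_lit 3246) Step.done))) (Scr.cons (nat_lit 1) (nat_lit 1) (Step.F (nat_lit 8274) (Step.B (nat_lit 8290) (Step.D (nat_lit 5756) Step.done))) (Scr.cons (nat_lit 1) (nat_lit 1) (Step.D (nat_lit 8378) (Step.B (nat_lit 8291) (Step.D (nat_lit 8876) Step.done))) (Scr.cons (nat_lit 1) (nat_lit 1) (Step.U (nat_lit 11532) (Step.F (nat_lit 8292) (Step.D (nat_lit 8377) Step.done))) (Scr.cons (nat_lit 1) (nat_lit 0) (Step.B (nat_lit 8264) (Step.B (nat_lit 8293) Step.done)) (Scr.cons (nat_lit 4) (nat_lit 0) (Step.L (Step.L (Step.L (Step.L (Step.D (nat_lit 11174) Step.done))))) (Scr.cons (nat_lit 9) (nat_lit 0) (Step.D (nat_lit 8878) (Step.B (nat_lit 8294) (Step.U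 (nat_lit 8377) (Step.U (nat_lit 5328) (Step.U (nat_lit 2956) (Step.L (Step.L (Step.L (Step.L (Step.L (Step.L (Step.L (Step.L (Step.L (Step.L (Step.L (Step.L (Step.L (Step.L (Step.D (nat_lit 11174) (Step.F (nat_lit 8295) (Step.L (Step.B (nat_lit 8262) (Step.B (nat_lit 8263) Step.done)))))))))))))))))))))))) (Scr.cons (nat_lit 0) (nat_lit 1) (Step.B (nat_lit 8263) (Step.F (nat_lit 8296) (Step.D (nat_lit 8877) Step.done))) (Scr.cons (nat_lit 0) (nat_lit 0) (Step.B (nat_lit 8261) (Step.F (nat_lit 8297) Step.done)) (Scr.cons (nat_lit 1) (nat_lit 1) (Step.D (nat_lit 8876) (Step.F (nat_lit 8292) Step.done)) (Scr.cons (nat_lit 14) (nat_lit 1) (Step.L (Step.L (Step.L (Step.L (Step.L (Step.L (Step.L (Step.L (Step.D (nat_lit 8583) (Step.F (nat_lit 8298) (Step.U (nat_lit 5757) (Step.D (nat_lit 5756) (Step.B (nat_lit 8299) (Step.U (nat_lit 5328) (Step.F (nat_lit 8271) (Step.U (nat_lit 1465) (Step.D (nat_lit 1464) (Step.D (nat_lit 2957) (Step.D (nat_lit 5330) (Step.D (nat_lit 8380)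 (Step.B (nat_lit 8258) Step.done))))))))))))))))))))) (Scr.cons (nat_lit 0) (nat_lit 1) (Step.B (nat_lit 8258) (Step.F (nat_lit 8300) (Step.D (nat_lit 3007) Step.done))) (Scr.cons (nat_lit 1) (nat_lit 1) (Step.B (nat_lit 8256) (Step.B (nat_lit 8301) (Step.D (nat_lit 5411) Step.done))) (Scr.cons (nat_lit 1) (nat_lit 1) (Step.B (nat_lit 8255) (Step.F (nat_lit 8302) (Step.U (nat_lit 5332) Step.done))) (Scr.cons (nat_lit 0) (nat_lit 1) (Step.B (nat_lit 8253) (Step.B (nat_lit 8303) (Step.D (nat_lit 5331) Step.done))) (Scr.cons (nat_lit 1) (nat_lit 0) (Step.U (nat_lit 8381) (Step.F (nat_lit 8304) (Step.U (nat_lit 3019) Step.done))) (Scr.cons (nat_lit 0) (nat_lit 1) (Step.B (nat_lit 8250) (Step.B (nat_lit 8305) (Step.L Step.done))) (Scr.cons (nat_lit 1) (nat_lit 0) (Step.D (nat_lit 11267) (Step.B (nat_lit 8306) (Step.L Step.done))) (Scr.cons (nat_lit 0) (nat_lit 1) (Step.B (nat_lit 5878) (Step.B (nat_lit 8307) (Step.D (nat_lit 8510) Step.done))) (Scr.cons (nat_lit 0) (nat_lit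 0) (Step.B (nat_lit 8246) (Step.F (nat_lit 8308) Step.done)) (Scr.cons (nat_lit 1) (nat_lit 0) (Step.D (nat_lit 3245) (Step.B (nat_lit 8286) (Step.D (nat_lit 1460) Step.done))) (Scr.cons (nat_lit 1) (nat_lit 0) (Step.D (nat_lit 1631) (Step.B (nat_lit 8310) (Step.D (nat_lit 2949) Step.done))) (Scr.cons (nat_lit 1) (nat_lit 0) (Step.D (nat_lit 2949) (Step.F (nat_lit 8311) Step.done)) (Scr.cons (nat_lit 12) (nat_lit 1) (Step.F (nat_lit 8283) (Step.L (Step.L (Step.B (nat_lit 8283) (Step.D (nat_lit 1461) Step.done))))) (Scr.cons (nat_lit 14) (nat_lit 2) (Step.L (Step.L (Step.L (Step.L (Step.L (Step.L (Step.L (Step.L (Step.L (Step.L (Step.L (Step.L (Step.L (Step.L (Step.L (Step.D (nat_lit 60) (Step.D (nat_lit 221) (Step.D (nat_lit 615) (Step.B (nat_lit 8313) (Step.D (nat_lit 2950) Step.done)))))))))))))))))))) (Scr.cons (nat_lit 16) (nat_lit 2) (Step.L (Step.L (Step.L (Step.L (Step.L (Step.L (Step.L (Step.L (Step.L (Step.D (nat_lit 8583) (Step.F (nat_lit 8298) (Step.U (nat_lit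 5757) (Step.F (nat_lit 8260) (Step.U (nat_lit 1632) (Step.F (nat_lit 8312) (Step.U (nat_lit 1460) (Step.F (nat_lit 8267) (Step.D (nat_lit 615) (Step.D (nat_lit 1461) (Step.D (nat_lit 2950) (Step.F (nat_lit 8314) (Step.L (Step.L (Step.D (nat_lit 11293) Step.done)))))))))))))))))))))))) (Scr.cons (nat_lit 1) (nat_lit 0) (Step.D (nat_lit 11293) (Step.F (nat_lit 8315) (Step.D (nat_lit 11386) Step.done))) (Scr.cons (nat_lit 1) (nat_lit 0) (Step.D (nat_lit 11386) (Step.F (nat_lit 8316) Step.done)) (Scr.cons (nat_lit 0) (nat_lit 0) (Step.B (nat_lit 8248) (Step.F (nat_lit 8304) Step.done)) (Scr.cons (nat_lit 16) (nat_lit 5) (Step.L (Step.L (Step.L (Step.L (Step.L (Step.L (Step.L (Step.L (Step.L (Step.L (Step.L (Step.D (nat_lit 3019) (Step.F (nat_lit 8318) (Step.U (nat_lit 2958) (Step.F (nat_lit 8247) (Step.L (Step.L (Step.L (Step.L (Step.L (Step.L (Step.L (Step.L Step.done))))))))))))))))))))))) (Scr.cons (nat_lit 12) (nat_lit 1) (Step.L (Step.L (Step.L (Step.L (Step.D (nat_lit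 11614) Step.done))))) (Scr.cons (nat_lit 12) (nat_lit 4) (Step.L (Step.L (Step.L (Step.L (Step.D (nat_lit 10400) Step.done))))) (Scr.cons (nat_lit 13) (nat_lit 0) (Step.L (Step.L (Step.L (Step.L (Step.L (Step.L (Step.L (Step.L (Step.L (Step.L (Step.D (nat_lit 9088) (Step.D (nat_lit 11615) Step.done)))))))))))) Scr.nil))))))))))))))))))))))))))))))))))))))))
noncomputable def s208 : Scr := (Scr.cons (nat_lit 1) (nat_lit 0) (Step.D (nat_lit 11615) (Step.F (nat_lit 8322) (Step.D (nat_lit 10344) Step.done))) (Scr.cons (nat_lit 1) (nat_lit 0) (Step.D (nat_lit 10344) (Step.F (nat_lit 8323) Step.done)) (Scr.cons (nat_lit 15) (nat_lit 1) (Step.L (Step.L (Step.L (Step.D (nat_lit 9088) (Step.F (nat_lit 8324) (Step.L (Step.L (Step.L (Step.L (Step.L (Step.L (Step.L (Step.L (Step.L (Step.L (Step.D (nat_lit 10400) Step.done)))))))))))))))) (Scr.cons (nat_lit 0) (nat_lit 1) (Step.B (nat_lit 8321) (Step.F (nat_lit 8325) (Step.D (nat_lit 11614) Step.done))) (Scr.cons (nat_lit 0) (nat_lit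 0) (Step.B (nat_lit 8320) (Step.F (nat_lit 8326) Step.done)) (Scr.cons (nat_lit 12) (nat_lit 1) (Step.U (nat_lit 5394) (Step.L (Step.L (Step.D (nat_lit 5394) (Step.D (nat_lit 8462) Step.done))))) (Scr.cons (nat_lit 12) (nat_lit 1) (Step.U (nat_lit 8463) (Step.D (nat_lit 8462) (Step.F (nat_lit 8328) (Step.D (nat_lit 8463) (Step.D (nat_lit 11322) Step.done))))) (Scr.cons (nat_lit 11) (nat_lit 0) (Step.L (Step.L (Step.L (Step.D (nat_lit 3303) (Step.D (nat_lit 5855) Step.done))))) (Scr.cons (nat_lit 13) (nat_lit 0) (Step.F (nat_lit 3618) (Step.F (nat_lit 3560) (Step.U (nat_lit 5609) (Step.B (nat_lit 3554) (Step.F (nat_lit 3569) (Step.D (nat_lit 6357) (Step.F (nat_lit 1681) (Step.U (nat_lit 5871) (Step.B (nat_lit 8330) (Step.D (nat_lit 8995) (Step.D (nat_lit 11582) Step.done))))))))))) (Scr.cons (nat_lit 15) (nat_lit 1) (Step.F (nat_lit 2429) (Step.U (nat_lit 4509) (Step.F (nat_lit 2428) (Step.U (nat_lit 1166) (Step.F (nat_lit 2420) (Step.L (Step.L (Step.L (Step.L (Step.L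 (Step.D (nat_lit 482) (Step.D (nat_lit 1210) (Step.D (nat_lit 2508) (Step.D (nat_lit 4637) (Step.D (nat_lit 7594) Step.done))))))))))))))) (Scr.cons (nat_lit 12) (nat_lit 4) (Step.U (nat_lit 2992) (Step.F (nat_lit 7074) (Step.D (nat_lit 1478) (Step.D (nat_lit 2992) (Step.D (nat_lit 5386) Step.done))))) (Scr.cons (nat_lit 12) (nat_lit 1) (Step.U (nat_lit 8448) (Step.F (nat_lit 8333) (Step.D (nat_lit 5386) (Step.D (nat_lit 8448) (Step.D (nat_lit 11307) Step.done))))) (Scr.cons (nat_lit 12) (nat_lit 4) (Step.U (nat_lit 2557) (Step.D (nat_lit 2556) (Step.F (nat_lit 6863) (Step.D (nat_lit 2557) (Step.D (nat_lit 4710) Step.done))))) (Scr.cons (nat_lit 12) (nat_lit 1) (Step.U (nat_lit 7684) (Step.F (nat_lit 8335) (Step.D (nat_lit 4710) (Step.D (nat_lit 7684) (Step.D (nat_lit 10708) Step.done))))) (Scr.cons (nat_lit 13) (nat_lit 3) (Step.U (nat_lit 8448) (Step.U (nat_lit 5386) (Step.U (nat_lit 2992) (Step.F (nat_lit 7074) (Step.D (nat_lit 1479) (Step.B (nat_lit 6853) (Step.F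 (nat_lit 8206) (Step.F (nat_lit 6863) (Step.D (nat_lit 2557) (Step.B (nat_lit 8335) (Step.D (nat_lit 7684) (Step.D (nat_lit 10708) Step.done)))))))))))) (Scr.cons (nat_lit 0) (nat_lit 1) (Step.B (nat_lit 8336) (Step.F (nat_lit 8337) (Step.D (nat_lit 11307) Step.done))) (Scr.cons (nat_lit 0) (nat_lit 0) (Step.B (nat_lit 8334) (Step.F (nat_lit 8338) Step.done)) (Scr.cons (nat_lit 1) (nat_lit 0) (Step.U (nat_lit 7684) (Step.F (nat_lit 7819) (Step.L Step.done))) (Scr.cons (nat_lit 0) (nat_lit 1) (Step.B (nat_lit 8339) (Step.B (nat_lit 8340) (Step.L Step.done))) (Scr.cons (nat_lit 1) (nat_lit 1) (Step.D (nat_lit 8448) (Step.B (nat_lit 8341) (Step.L Step.done))) (Scr.cons (nat_lit 0) (nat_lit 1) (Step.B (nat_lit 8333) (Step.B (nat_lit 8342) (Step.L Step.done))) (Scr.cons (nat_lit 1) (nat_lit 1) (Step.F (nat_lit 2684) (Step.B (nat_lit 8343) (Step.L Step.done))) (Scr.cons (nat_lit 1) (nat_lit 1) (Step.D (nat_lit 4404) (Step.B (nat_lit 8344) (Step.L Step.done))) (Scr.cons (nat_lit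 0) (nat_lit 1) (Step.B (nat_lit 2462) (Step.B (nat_lit 8345) (Step.L Step.done))) (Scr.cons (nat_lit 1) (nat_lit 0) (Step.B (nat_lit 6251) (Step.B (nat_lit 8346) (Step.L Step.done))) (Scr.cons (nat_lit 0) (nat_lit 1) (Step.U (nat_lit 2332) (Step.B (nat_lit 8347) (Step.L Step.done))) (Scr.cons (nat_lit 1) (nat_lit 0) (Step.F (nat_lit 2421) (Step.B (nat_lit 8348) (Step.D (nat_lit 650) Step.done))) (Scr.cons (nat_lit 1) (nat_lit 0) (Step.U (nat_lit 4509) (Step.B (nat_lit 8349) (Step.D (nat_lit 1545) Step.done))) (Scr.cons (nat_lit 0) (nat_lit 1) (Step.U (nat_lit 7444) (Step.B (nat_lit 8350) (Step.D (nat_lit 3085) Step.done))) (Scr.cons (nat_lit 1) (nat_lit 0) (Step.F (nat_lit 8332) (Step.B (nat_lit 8351) (Step.D (nat_lit 5512) Step.done))) (Scr.cons (nat_lit 1) (nat_lit 0) (Step.U (nat_lit 10624) (Step.B (nat_lit 8352) (Step.D (nat_lit 8601) Step.done))) (Scr.cons (nat_lit 0) (nat_lit 1) (Step.F (nat_lit 8331) (Step.B (nat_lit 8353) (Step.D (nat_lit 11399) Step.done))) (Scr.cons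 (nat_lit 1) (nat_lit 1) (Step.D (nat_lit 11582) (Step.B (nat_lit 8354) Step.done)) (Scr.cons (nat_lit 15) (nat_lit 0) (Step.U (nat_lit 650) (Step.L (Step.L (Step.L (Step.L (Step.L (Step.L (Step.L (Step.L (Step.L (Step.L (Step.L (Step.L (Step.D (nat_lit 642) (Step.D (nat_lit 1528) Step.done))))))))))))))) (Scr.cons (nat_lit 12) (nat_lit 4) (Step.U (nat_lit 1528) (Step.F (nat_lit 54) (Step.D (nat_lit 642) (Step.D (nat_lit 1528) (Step.F (nat_lit 8356) Step.done))))) (Scr.cons (nat_lit 0) (nat_lit 1) (Step.B (nat_lit 2428) (Step.B (nat_lit 8349) (Step.F (nat_lit 8357) Step.done))) (Scr.cons (nat_lit 0) (nat_lit 0) (Step.B (nat_lit 8356) (Step.F (nat_lit 8358) Step.done)) (Scr.cons (nat_lit 15) (nat_lit 1) (Step.F (nat_lit 22) (Step.L (Step.L (Step.L (Step.L (Step.L (Step.L (Step.L (Step.L (Step.L (Step.L (Step.L (Step.L (Step.L (Step.D (nat_lit 61) Step.done))))))))))))))) (Scr.cons (nat_lit 11) (nat_lit 0) (Step.U (nat_lit 627) (Step.U (nat_lit 224) (Step.F (nat_lit 8360)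 (Step.D (nat_lit 619) (Step.D (nat_lit 1481) Step.done))))) (Scr.cons (nat_lit 12) (nat_lit 4) (Step.L (Step.L (Step.L (Step.L (Step.D (nat_lit 61) Step.done))))) Scr.nil))))))))))))))))))))))))))))))))))))))))
noncomputable def s209 : Scr := (Scr.cons (nat_lit 12) (nat_lit 1) (Step.U (nat_lit 224) (Step.F (nat_lit 8362) (Step.D (nat_lit 61) (Step.D (nat_lit 224) (Step.D (nat_lit 626) Step.done))))) (Scr.cons (nat_lit 12) (nat_lit 1) (Step.U (nat_lit 627) (Step.D (nat_lit 626) (Step.F (nat_lit 8363) (Step.D (nat_lit 627) (Step.D (nat_lit 1501) Step.done))))) (Scr.cons (nat_lit 12) (nat_lit 1) (Step.F (nat_lit 8361) (Step.D (nat_lit 1501) (Step.F (nat_lit 8364) (Step.B (nat_lit 8361) (Step.D (nat_lit 2996) Step.done))))) (Scr.cons (nat_lit 12) (nat_lit 4) (Step.U (nat_lit 5393) (Step.F (nat_lit 8365) (Step.D (nat_lit 2996) (Step.D (nat_lit 5393) (Step.D (nat_lit 8460) Step.done))))) (Scr.cons (nat_lit 0) (nat_lit 0) (Step.B (nat_lit 7321) (Step.F (nat_lit 7322) Step.done))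 (Scr.cons (nat_lit 16) (nat_lit 4) (Step.U (nat_lit 10405) (Step.D (nat_lit 10404) (Step.F (nat_lit 8367) (Step.U (nat_lit 8547) (Step.F (nat_lit 7320) (Step.F (nat_lit 6924) (Step.U (nat_lit 1513) (Step.U (nat_lit 634) (Step.F (nat_lit 6906) (Step.U (nat_lit 62) (Step.L (Step.L (Step.L (Step.L (Step.L (Step.L (Step.D (nat_lit 61) (Step.F (nat_lit 8360) (Step.D (nat_lit 619) (Step.D (nat_lit 1481) (Step.D (nat_lit 2996) (Step.D (nat_lit 5393) (Step.D (nat_lit 8460) (Step.D (nat_lit 11318) Step.done)))))))))))))))))))))))) (Scr.cons (nat_lit 1) (nat_lit 1) (Step.D (nat_lit 11318) (Step.F (nat_lit 8368) Step.done)) (Scr.cons (nat_lit 0) (nat_lit 1) (Step.F (nat_lit 7323) (Step.B (nat_lit 8158) (Step.D (nat_lit 7948) Step.done))) (Scr.cons (nat_lit 1) (nat_lit 0) (Step.D (nat_lit 10404) (Step.B (nat_lit 8370) (Step.D (nat_lit 10933) Step.done))) (Scr.cons (nat_lit 0) (nat_lit 1) (Step.U (nat_lit 7948) (Step.F (nat_lit 8191) (Step.L Step.done))) (Scr.cons (nat_lit 1) (nat_lit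 0) (Step.B (nat_lit 8371) (Step.U (nat_lit 10933) (Step.B (nat_lit 8372) (Step.L Step.done)))) (Scr.cons (nat_lit 1) (nat_lit 0) (Step.U (nat_lit 10405) (Step.B (nat_lit 8373) (Step.L Step.done))) (Scr.cons (nat_lit 1) (nat_lit 0) (Step.B (nat_lit 8369) (Step.B (nat_lit 8374) (Step.L Step.done))) (Scr.cons (nat_lit 0) (nat_lit 1) (Step.B (nat_lit 8366) (Step.B (nat_lit 8375) (Step.L Step.done))) (Scr.cons (nat_lit 1) (nat_lit 0) (Step.D (nat_lit 5393) (Step.B (nat_lit 8376) (Step.L Step.done))) (Scr.cons (nat_lit 0) (nat_lit 1) (Step.B (nat_lit 8365) (Step.B (nat_lit 8377) (Step.L Step.done))) (Scr.cons (nat_lit 1) (nat_lit 0) (Step.D (nat_lit 1481) (Step.B (nat_lit 8378) (Step.L Step.done))) (Scr.cons (nat_lit 1) (nat_lit 0) (Step.D (nat_lit 619) (Step.B (nat_lit 8379) (Step.L Step.done))) (Scr.cons (nat_lit 0) (nat_lit 1) (Step.B (nat_lit 22) (Step.B (nat_lit 8380) (Step.D (nat_lit 459) Step.done))) (Scr.cons (nat_lit 1) (nat_lit 0) (Step.U (nat_lit 1166) (Step.F (nat_lit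 8381) (Step.L Step.done))) (Scr.cons (nat_lit 0) (nat_lit 1) (Step.B (nat_lit 8359) (Step.B (nat_lit 8382) (Step.L Step.done))) (Scr.cons (nat_lit 1) (nat_lit 0) (Step.U (nat_lit 1545) (Step.B (nat_lit 8383) (Step.L Step.done))) (Scr.cons (nat_lit 0) (nat_lit 1) (Step.U (nat_lit 3085) (Step.B (nat_lit 8384) (Step.L Step.done))) (Scr.cons (nat_lit 1) (nat_lit 0) (Step.U (nat_lit 5512) (Step.B (nat_lit 8385) (Step.D (nat_lit 5394) Step.done))) (Scr.cons (nat_lit 1) (nat_lit 0) (Step.U (nat_lit 8601) (Step.B (nat_lit 8386) (Step.D (nat_lit 8463) Step.done))) (Scr.cons (nat_lit 0) (nat_lit 1) (Step.U (nat_lit 11399) (Step.B (nat_lit 8387) (Step.D (nat_lit 11322) Step.done))) (Scr.cons (nat_lit 1) (nat_lit 1) (Step.B (nat_lit 8355) (Step.B (nat_lit 8388) Step.done)) (Scr.cons (nat_lit 9) (nat_lit 4) (Step.U (nat_lit 11319) (Step.L (Step.L (Step.D (nat_lit 5394) (Step.D (nat_lit 8463) (Step.B (nat_lit 8329) (Step.F (nat_lit 8389) (Step.U (nat_lit 8995) (Step.U (nat_lit 5855)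 (Step.U (nat_lit 3303) (Step.L (Step.L (Step.L (Step.L (Step.L (Step.L (Step.L (Step.L (Step.L (Step.L (Step.L (Step.L (Step.L (Step.L Step.done)))))))))))))))))))))))) (Scr.cons (nat_lit 1) (nat_lit 1) (Step.D (nat_lit 11319) (Step.B (nat_lit 8390) Step.done)) (Scr.cons (nat_lit 11) (nat_lit 0) (Step.L (Step.L (Step.L (Step.D (nat_lit 5390) (Step.D (nat_lit 8456) Step.done))))) (Scr.cons (nat_lit 12) (nat_lit 1) (Step.F (nat_lit 8392) (Step.L (Step.L (Step.B (nat_lit 8392) (Step.D (nat_lit 11315) Step.done))))) (Scr.cons (nat_lit 12) (nat_lit 4) (Step.U (nat_lit 2880) (Step.F (nat_lit 516) (Step.D (nat_lit 1419) (Step.D (nat_lit 2880) (Step.D (nat_lit 5204) Step.done))))) (Scr.cons (nat_lit 11) (nat_lit 0) (Step.L (Step.L (Step.D (nat_lit 1596) (Step.D (nat_lit 3172) (Step.D (nat_lit 5624) Step.done))))) (Scr.cons (nat_lit 14) (nat_lit 6) (Step.U (nat_lit 8723) (Step.F (nat_lit 8395) (Step.L (Step.L (Step.L (Step.L (Step.L (Step.L (Step.L (Step.L (Step.L (Step.L (Step.L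 (Step.L (Step.B (nat_lit 518) (Step.U (nat_lit 2881) (Step.D (nat_lit 2880) (Step.D (nat_lit 5204) (Step.D (nat_lit 8228) (Step.D (nat_lit 11194) Step.done)))))))))))))))))))) (Scr.cons (nat_lit 4) (nat_lit 0) (Step.B (nat_lit 8396) (Step.U (nat_lit 11194) (Step.U (nat_lit 8228) (Step.D (nat_lit 8229) (Step.D (nat_lit 11195) Step.done))))) (Scr.cons (nat_lit 1) (nat_lit 0) (Step.D (nat_lit 6361) (Step.B (nat_lit 1761) (Step.D (nat_lit 8722) Step.done))) (Scr.cons (nat_lit 1) (nat_lit 0) (Step.D (nat_lit 8722) (Step.F (nat_lit 8398) Step.done)) (Scr.cons (nat_lit 1) (nat_lit 0) (Step.B (nat_lit 1757) (Step.F (nat_lit 1765) Step.done)) (Scr.cons (nat_lit 12) (nat_lit 4) (Step.U (nat_lit 1607) (Step.L (Step.L (Step.D (nat_lit 1607) (Step.D (nat_lit 3185) Step.done))))) (Scr.cons (nat_lit 12) (nat_lit 4) (Step.U (nat_lit 3186) (Step.D (nat_lit 3185) (Step.F (nat_lit 8401) (Step.D (nat_lit 3186) (Step.D (nat_lit 5642) Step.done))))) Scr.nil))))))))))))))))))))))))))))))))))))))))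
noncomputable def s210 : Scr := (Scr.cons (nat_lit 0) (nat_lit 0) (Step.B (nat_lit 8402) (Step.F (nat_lit 6968) Step.done)) (Scr.cons (nat_lit 12) (nat_lit 4) (Step.L (Step.L (Step.L (Step.L (Step.D (nat_lit 1581) Step.done))))) (Scr.cons (nat_lit 6) (nat_lit 0) (Step.U (nat_lit 746) (Step.U (nat_lit 268) (Step.F (nat_lit 233) (Step.L (Step.L (Step.L (Step.L (Step.L (Step.L (Step.L (Step.D (nat_lit 1581) Step.done))))))))))) (Scr.cons (nat_lit 1) (nat_lit 0) (Step.U (nat_lit 268) (Step.B (nat_lit 7879) (Step.L Step.done))) (Scr.cons (nat_lit 0) (nat_lit 1) (Step.U (nat_lit 746) (Step.B (nat_lit 8406) (Step.L Step.done))) (Scr.cons (nat_lit 1) (nat_lit 1) (Step.F (nat_lit 8405) (Step.B (nat_lit 8407) (Step.L Step.done))) (Scr.cons (nat_lit 0) (nat_lit 1) (Step.B (nat_lit 8404) (Step.B (nat_lit 8408) (Step.D (nat_lit 1336) Step.done))) (Scr.cons (nat_lit 1) (nat_lit 1) (Step.U (nat_lit 2723) (Step.F (nat_lit 8409) (Step.L Step.done))) (Scr.cons (nat_lit 0) (nat_lit 1) (Step.B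 (nat_lit 8403) (Step.B (nat_lit 8410) (Step.D (nat_lit 3149) Step.done))) (Scr.cons (nat_lit 1) (nat_lit 1) (Step.U (nat_lit 5643) (Step.B (nat_lit 8411) (Step.D (nat_lit 5586) Step.done))) (Scr.cons (nat_lit 1) (nat_lit 1) (Step.B (nat_lit 6936) (Step.B (nat_lit 8412) (Step.D (nat_lit 8680) Step.done))) (Scr.cons (nat_lit 1) (nat_lit 1) (Step.D (nat_lit 8680) (Step.F (nat_lit 8413) Step.done)) (Scr.cons (nat_lit 12) (nat_lit 4) (Step.L (Step.D (nat_lit 1581) (Step.F (nat_lit 8404) (Step.L (Step.D (nat_lit 3149) Step.done))))) (Scr.cons (nat_lit 12) (nat_lit 4) (Step.U (nat_lit 5586) (Step.F (nat_lit 8415) (Step.D (nat_lit 3149) (Step.D (nat_lit 5586) (Step.D (nat_lit 8679) Step.done))))) (Scr.cons (nat_lit 0) (nat_lit 1) (Step.U (nat_lit 8739) (Step.B (nat_lit 8412) (Step.D (nat_lit 8679) Step.done))) (Scr.cons (nat_lit 1) (nat_lit 0) (Step.B (nat_lit 6939) (Step.B (nat_lit 8417) (Step.D (nat_lit 11444) Step.done))) (Scr.cons (nat_lit 1) (nat_lit 0) (Step.D (nat_lit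 11444) (Step.F (nat_lit 8418) Step.done)) (Scr.cons (nat_lit 12) (nat_lit 4) (Step.U (nat_lit 2414) (Step.L (Step.L (Step.D (nat_lit 2414) (Step.D (nat_lit 4492) Step.done))))) (Scr.cons (nat_lit 12) (nat_lit 1) (Step.U (nat_lit 7428) (Step.F (nat_lit 8420) (Step.D (nat_lit 4492) (Step.D (nat_lit 7428) (Step.D (nat_lit 10483) Step.done))))) (Scr.cons (nat_lit 13) (nat_lit 2) (Step.F (nat_lit 8421) (Step.U (nat_lit 7428) (Step.U (nat_lit 4492) (Step.U (nat_lit 2414) (Step.L (Step.L (Step.L (Step.L (Step.L (Step.L (Step.L (Step.D (nat_lit 8264) Step.done)))))))))))) (Scr.cons (nat_lit 0) (nat_lit 1) (Step.D (nat_lit 10483) (Step.B (nat_lit 8422) Step.done)) (Scr.cons (nat_lit 13) (nat_lit 2) (Step.F (nat_lit 3847) (Step.U (nat_lit 4468) (Step.B (nat_lit 635) (Step.F (nat_lit 634) (Step.F (nat_lit 633) (Step.U (nat_lit 2576) (Step.U (nat_lit 1252) (Step.D (nat_lit 1251) (Step.B (nat_lit 232) (Step.B (nat_lit 3851) (Step.D (nat_lit 3390) Step.done))))))))))) (Scr.cons (nat_lit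 1) (nat_lit 1) (Step.U (nat_lit 745) (Step.B (nat_lit 7878) (Step.L Step.done))) (Scr.cons (nat_lit 1) (nat_lit 1) (Step.B (nat_lit 3726) (Step.B (nat_lit 8425) (Step.L Step.done))) (Scr.cons (nat_lit 1) (nat_lit 1) (Step.F (nat_lit 232) (Step.B (nat_lit 8426) (Step.L Step.done))) (Scr.cons (nat_lit 0) (nat_lit 1) (Step.U (nat_lit 1712) (Step.B (nat_lit 8427) (Step.L Step.done))) (Scr.cons (nat_lit 1) (nat_lit 0) (Step.U (nat_lit 3390) (Step.B (nat_lit 8428) (Step.L Step.done))) (Scr.cons (nat_lit 0) (nat_lit 1) (Step.B (nat_lit 8424) (Step.B (nat_lit 8429) (Step.L Step.done))) (Scr.cons (nat_lit 1) (nat_lit 0) (Step.D (nat_lit 4493) (Step.B (nat_lit 8430) (Step.L Step.done))) (Scr.cons (nat_lit 0) (nat_lit 1) (Step.U (nat_lit 4492) (Step.B (nat_lit 8431) (Step.L Step.done))) (Scr.cons (nat_lit 1) (nat_lit 0) (Step.U (nat_lit 7428) (Step.B (nat_lit 8432) (Step.L Step.done))) (Scr.cons (nat_lit 0) (nat_lit 1) (Step.F (nat_lit 8423) (Step.B (nat_lit 8433) (Step.D (nat_lit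 7971) Step.done))) (Scr.cons (nat_lit 1) (nat_lit 1) (Step.D (nat_lit 8264) (Step.B (nat_lit 8434) (Step.D (nat_lit 10953) Step.done))) (Scr.cons (nat_lit 1) (nat_lit 1) (Step.F (nat_lit 6930) (Step.F (nat_lit 8435) (Step.D (nat_lit 8263) Step.done))) (Scr.cons (nat_lit 1) (nat_lit 0) (Step.B (nat_lit 6931) (Step.B (nat_lit 8436) Step.done)) (Scr.cons (nat_lit 12) (nat_lit 4) (Step.U (nat_lit 8263) (Step.L (Step.L (Step.D (nat_lit 8263) (Step.D (nat_lit 11214) Step.done))))) (Scr.cons (nat_lit 0) (nat_lit 1) (Step.B (nat_lit 6929) (Step.B (nat_lit 8436) (Step.D (nat_lit 11214) Step.done))) (Scr.cons (nat_lit 0) (nat_lit 0) (Step.B (nat_lit 8438) (Step.F (nat_lit 8439) Step.done)) (Scr.cons (nat_lit 1) (nat_lit 0) (Step.D (nat_lit 1528) (Step.F (nat_lit 8358) (Step.D (nat_lit 2423) Step.done))) (Scr.cons (nat_lit 1) (nat_lit 0) (Step.F (nat_lit 4143) (Step.F (nat_lit 8441) (Step.D (nat_lit 1529) Step.done))) Scr.nil))))))))))))))))))))))))))))))))))))))))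
noncomputable def s211 : Scr := (Scr.cons (nat_lit 11) (nat_lit 0) (Step.U (nat_lit 3058) (Step.U (nat_lit 1529) (Step.D (nat_lit 1528) (Step.D (nat_lit 3057) (Step.D (nat_lit 5479) Step.done))))) (Scr.cons (nat_lit 1) (nat_lit 1) (Step.U (nat_lit 3057) (Step.F (nat_lit 8358) (Step.U (nat_lit 1166) Step.done))) (Scr.cons (nat_lit 1) (nat_lit 1) (Step.U (nat_lit 5479) (Step.B (nat_lit 8444) (Step.D (nat_lit 1165) Step.done))) (Scr.cons (nat_lit 1) (nat_lit 0) (Step.U (nat_lit 5291) (Step.B (nat_lit 7814) (Step.D (nat_lit 5186) Step.done))) (Scr.cons (nat_lit 0) (nat_lit 1) (Step.U (nat_lit 8328) (Step.B (nat_lit 8446) (Step.D (nat_lit 8203) Step.done))) (Scr.cons (nat_lit 1) (nat_lit 1) (Step.B (nat_lit 4138) (Step.B (nat_lit 8447) (Step.D (nat_lit 11173) Step.done))) (Scr.cons (nat_lit 1) (nat_lit 1) (Step.D (nat_lit 11173) (Step.F (nat_lit 8448) Step.done)) (Scr.cons (nat_lit 1) (nat_lit 0) (Step.D (nat_lit 8202) (Step.F (nat_lit 7816) Step.done)) (Scr.cons (nat_lit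 1) (nat_lit 0) (Step.F (nat_lit 6869) (Step.B (nat_lit 7885) (Step.L Step.done))) (Scr.cons (nat_lit 1) (nat_lit 0) (Step.D (nat_lit 7686) (Step.B (nat_lit 8451) (Step.L Step.done))) (Scr.cons (nat_lit 0) (nat_lit 1) (Step.B (nat_lit 6866) (Step.B (nat_lit 8452) (Step.L Step.done))) (Scr.cons (nat_lit 1) (nat_lit 0) (Step.F (nat_lit 6864) (Step.B (nat_lit 8453) (Step.L Step.done))) (Scr.cons (nat_lit 0) (nat_lit 1) (Step.U (nat_lit 7685) (Step.B (nat_lit 8454) (Step.L Step.done))) (Scr.cons (nat_lit 1) (nat_lit 1) (Step.B (nat_lit 8450) (Step.B (nat_lit 8455) (Step.L Step.done))) (Scr.cons (nat_lit 0) (nat_lit 1) (Step.B (nat_lit 7797) (Step.B (nat_lit 8456) (Step.L Step.done))) (Scr.cons (nat_lit 1) (nat_lit 0) (Step.U (nat_lit 5186) (Step.B (nat_lit 8457) (Step.L Step.done))) (Scr.cons (nat_lit 0) (nat_lit 1) (Step.U (nat_lit 8203) (Step.B (nat_lit 8458) (Step.L Step.done))) (Scr.cons (nat_lit 1) (nat_lit 1) (Step.F (nat_lit 8449) (Step.B (nat_lit 8459) (Step.L Step.done)))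 (Scr.cons (nat_lit 1) (nat_lit 1) (Step.D (nat_lit 7441) (Step.B (nat_lit 8460) (Step.L Step.done))) (Scr.cons (nat_lit 1) (nat_lit 1) (Step.D (nat_lit 4506) (Step.B (nat_lit 8461) (Step.L Step.done))) (Scr.cons (nat_lit 0) (nat_lit 1) (Step.B (nat_lit 3985) (Step.B (nat_lit 8462) (Step.L Step.done))) (Scr.cons (nat_lit 1) (nat_lit 1) (Step.B (nat_lit 8443) (Step.B (nat_lit 8445) (Step.B (nat_lit 8463) (Step.L Step.done)))) (Scr.cons (nat_lit 1) (nat_lit 0) (Step.D (nat_lit 4508) (Step.B (nat_lit 8442) (Step.D (nat_lit 3058) (Step.B (nat_lit 8464) Step.done)))) (Scr.cons (nat_lit 0) (nat_lit 1) (Step.U (nat_lit 4507) (Step.B (nat_lit 8465) (Step.L Step.done))) (Scr.cons (nat_lit 1) (nat_lit 1) (Step.U (nat_lit 7442) (Step.B (nat_lit 8466) (Step.L Step.done))) (Scr.cons (nat_lit 1) (nat_lit 1) (Step.B (nat_lit 3984) (Step.B (nat_lit 8467) (Step.L Step.done))) (Scr.cons (nat_lit 0) (nat_lit 1) (Step.B (nat_lit 8440) (Step.B (nat_lit 8468) (Step.L Step.done))) (Scr.cons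 (nat_lit 1) (nat_lit 1) (Step.B (nat_lit 8437) (Step.B (nat_lit 8469) (Step.L Step.done))) (Scr.cons (nat_lit 1) (nat_lit 1) (Step.U (nat_lit 10838) (Step.B (nat_lit 8470) (Step.D (nat_lit 8458) Step.done))) (Scr.cons (nat_lit 1) (nat_lit 1) (Step.B (nat_lit 8419) (Step.B (nat_lit 8471) (Step.D (nat_lit 11316) Step.done))) (Scr.cons (nat_lit 1) (nat_lit 1) (Step.D (nat_lit 11316) (Step.F (nat_lit 8472) Step.done)) (Scr.cons (nat_lit 9) (nat_lit 4) (Step.U (nat_lit 5205) (Step.B (nat_lit 8394) (Step.D (nat_lit 8229) (Step.D (nat_lit 11195) (Step.F (nat_lit 8397) (Step.U (nat_lit 8723) (Step.U (nat_lit 5624) (Step.B (nat_lit 5904) (Step.B (nat_lit 8399) (Step.D (nat_lit 6362) (Step.B (nat_lit 8400) (Step.U (nat_lit 5644) (Step.F (nat_lit 8414) (Step.B (nat_lit 8416) (Step.F (nat_lit 8473) (Step.U (nat_lit 8458) (Step.L (Step.L (Step.L (Step.L (Step.L (Step.L (Step.B (nat_lit 8392) (Step.B (nat_lit 8393) Step.done)))))))))))))))))))))))) (Scr.cons (nat_lit 0) (nat_lit 1)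 (Step.B (nat_lit 8393) (Step.F (nat_lit 8474) (Step.D (nat_lit 8230) Step.done))) (Scr.cons (nat_lit 1) (nat_lit 0) (Step.D (nat_lit 8456) (Step.B (nat_lit 8475) (Step.D (nat_lit 11196) Step.done))) (Scr.cons (nat_lit 1) (nat_lit 0) (Step.D (nat_lit 11196) (Step.F (nat_lit 8476) Step.done)) (Scr.cons (nat_lit 12) (nat_lit 4) (Step.U (nat_lit 5205) (Step.D (nat_lit 5204) (Step.F (nat_lit 8394) (Step.D (nat_lit 5205) (Step.D (nat_lit 8230) Step.done))))) (Scr.cons (nat_lit 4) (nat_lit 0) (Step.U (nat_lit 5205) (Step.U (nat_lit 2880) (Step.D (nat_lit 2881) (Step.B (nat_lit 519) (Step.L Step.done))))) (Scr.cons (nat_lit 14) (nat_lit 4) (Step.U (nat_lit 11314) (Step.U (nat_lit 8455) (Step.L (Step.D (nat_lit 5390) (Step.F (nat_lit 8477) (Step.F (nat_lit 8478) (Step.B (nat_lit 8479) (Step.L (Step.F (nat_lit 519) (Step.F (nat_lit 517) (Step.L (Step.L (Step.L (Step.L (Step.L (Step.L (Step.L (Step.L (Step.L (Step.L Step.done)))))))))))))))))))) (Scr.cons (nat_lit 12) (nat_lit 1)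 (Step.U (nat_lit 8455) (Step.L (Step.L (Step.D (nat_lit 8455) (Step.D (nat_lit 11313) Step.done))))) (Scr.cons (nat_lit 13) (nat_lit 3) (Step.L (Step.L (Step.L (Step.L (Step.L (Step.L (Step.L (Step.L (Step.L (Step.L (Step.D (nat_lit 8455) (Step.D (nat_lit 11313) Step.done)))))))))))) Scr.nil))))))))))))))))))))))))))))))))))))))))
noncomputable def s212 : Scr := (Scr.cons (nat_lit 0) (nat_lit 1) (Step.B (nat_lit 8481) (Step.F (nat_lit 8482) (Step.L Step.done))) (Scr.cons (nat_lit 1) (nat_lit 0) (Step.U (nat_lit 11314) (Step.B (nat_lit 8483) (Step.L Step.done))) (Scr.cons (nat_lit 1) (nat_lit 1) (Step.F (nat_lit 8480) (Step.B (nat_lit 8484) Step.done)) (Scr.cons (nat_lit 11) (nat_lit 0) (Step.U (nat_lit 259) (Step.L (Step.L (Step.L (Step.D (nat_lit 725) Step.done))))) (Scr.cons (nat_lit 7) (nat_lit 2) (Step.L (Step.L (Step.L (Step.L (Step.L (Step.L (Step.L (Step.L (Step.L (Step.L (Step.L (Step.L (Step.D (nat_lit 259) (Step.B (nat_lit 8486) (Step.U (nat_lit 725) (Step.L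 (Step.L (Step.L (Step.L (Step.L (Step.D (nat_lit 11613) Step.done))))))))))))))))))))) (Scr.cons (nat_lit 1) (nat_lit 0) (Step.D (nat_lit 11613) (Step.F (nat_lit 8487) Step.done)) (Scr.cons (nat_lit 12) (nat_lit 1) (Step.L (Step.L (Step.L (Step.L (Step.D (nat_lit 9411) Step.done))))) (Scr.cons (nat_lit 9) (nat_lit 4) (Step.U (nat_lit 11287) (Step.U (nat_lit 8402) (Step.L (Step.L (Step.L (Step.L (Step.L (Step.L (Step.L (Step.L (Step.L (Step.L (Step.L (Step.L (Step.L (Step.L (Step.L (Step.L (Step.L (Step.L (Step.L (Step.L (Step.B (nat_lit 8489) Step.done))))))))))))))))))))))) (Scr.cons (nat_lit 6) (nat_lit 1) (Step.L (Step.L (Step.L (Step.L (Step.L (Step.L (Step.L (Step.L (Step.L (Step.L (Step.D (nat_lit 11286) Step.done))))))))))) (Scr.cons (nat_lit 8) (nat_lit 1) (Step.L (Step.L (Step.L (Step.L (Step.L (Step.L (Step.L (Step.L (Step.B (nat_lit 8489) (Step.F (nat_lit 8490) (Step.U (nat_lit 11287) (Step.U (nat_lit 8402) (Step.L (Step.D (nat_lit 11286) (Step.F (nat_lit 8491)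 (Step.D (nat_lit 11288) Step.done)))))))))))))))) (Scr.cons (nat_lit 1) (nat_lit 1) (Step.D (nat_lit 11288) (Step.F (nat_lit 8492) (Step.D (nat_lit 9412) Step.done))) (Scr.cons (nat_lit 1) (nat_lit 1) (Step.D (nat_lit 9412) (Step.F (nat_lit 8493) Step.done)) (Scr.cons (nat_lit 11) (nat_lit 0) (Step.L (Step.L (Step.L (Step.L (Step.D (nat_lit 4942) Step.done))))) (Scr.cons (nat_lit 12) (nat_lit 1) (Step.F (nat_lit 8495) (Step.L (Step.L (Step.B (nat_lit 8495) (Step.D (nat_lit 7954) Step.done))))) (Scr.cons (nat_lit 11) (nat_lit 0) (Step.U (nat_lit 1324) (Step.U (nat_lit 538) (Step.D (nat_lit 537) (Step.D (nat_lit 1322) (Step.D (nat_lit 2708) Step.done))))) (Scr.cons (nat_lit 12) (nat_lit 1) (Step.F (nat_lit 8497) (Step.D (nat_lit 2709) (Step.F (nat_lit 7688) (Step.B (nat_lit 8497) (Step.D (nat_lit 4947) Step.done))))) (Scr.cons (nat_lit 7) (nat_lit 5) (Step.F (nat_lit 8496) (Step.U (nat_lit 4942) (Step.L (Step.L (Step.L (Step.L (Step.L (Step.L (Step.L (Step.L (Step.L (Step.L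 (Step.L (Step.L (Step.D (nat_lit 188) (Step.D (nat_lit 538) (Step.D (nat_lit 1324) (Step.B (nat_lit 8497) (Step.B (nat_lit 8498) (Step.D (nat_lit 7960) Step.done)))))))))))))))))))) (Scr.cons (nat_lit 11) (nat_lit 0) (Step.U (nat_lit 10943) (Step.B (nat_lit 8499) (Step.U (nat_lit 7960) (Step.D (nat_lit 7959) (Step.D (nat_lit 10946) Step.done))))) (Scr.cons (nat_lit 12) (nat_lit 1) (Step.U (nat_lit 3313) (Step.F (nat_lit 7689) (Step.D (nat_lit 1662) (Step.D (nat_lit 3313) (Step.D (nat_lit 5874) Step.done))))) (Scr.cons (nat_lit 4) (nat_lit 0) (Step.U (nat_lit 710) (Step.L (Step.L (Step.L (Step.D (nat_lit 1656) Step.done))))) (Scr.cons (nat_lit 16) (nat_lit 4) (Step.U (nat_lit 9026) (Step.F (nat_lit 8501) (Step.U (nat_lit 3313) (Step.F (nat_lit 7689) (Step.B (nat_lit 8502) (Step.U (nat_lit 1656) (Step.L (Step.L (Step.L (Step.L (Step.L (Step.L (Step.L (Step.L (Step.L (Step.L (Step.L (Step.L (Step.L (Step.L (Step.L (Step.D (nat_lit 7939) (Step.D (nat_lit 10922) Step.done)))))))))))))))))))))))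 (Scr.cons (nat_lit 4) (nat_lit 0) (Step.U (nat_lit 9025) (Step.D (nat_lit 9026) (Step.B (nat_lit 8503) (Step.U (nat_lit 10922) (Step.D (nat_lit 10923) Step.done))))) (Scr.cons (nat_lit 11) (nat_lit 0) (Step.U (nat_lit 5875) (Step.U (nat_lit 3313) (Step.D (nat_lit 3312) (Step.D (nat_lit 5873) (Step.D (nat_lit 9024) Step.done))))) (Scr.cons (nat_lit 1) (nat_lit 1) (Step.U (nat_lit 9024) (Step.B (nat_lit 7696) (Step.D (nat_lit 537) Step.done))) (Scr.cons (nat_lit 1) (nat_lit 1) (Step.B (nat_lit 8505) (Step.B (nat_lit 8506) (Step.D (nat_lit 1322) Step.done))) (Scr.cons (nat_lit 1) (nat_lit 1) (Step.D (nat_lit 5875) (Step.B (nat_lit 8507) (Step.D (nat_lit 2708) Step.done))) (Scr.cons (nat_lit 0) (nat_lit 1) (Step.U (nat_lit 5874) (Step.B (nat_lit 8508) (Step.D (nat_lit 4947) Step.done))) (Scr.cons (nat_lit 1) (nat_lit 1) (Step.U (nat_lit 9025) (Step.B (nat_lit 8509) (Step.D (nat_lit 7959) Step.done))) (Scr.cons (nat_lit 1) (nat_lit 1) (Step.F (nat_lit 8504) (Step.B (nat_lit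 8510) (Step.D (nat_lit 10946) Step.done))) (Scr.cons (nat_lit 1) (nat_lit 1) (Step.B (nat_lit 8500) (Step.F (nat_lit 8511) (Step.U (nat_lit 10923) Step.done))) (Scr.cons (nat_lit 1) (nat_lit 0) (Step.D (nat_lit 10943) (Step.B (nat_lit 8512) Step.done)) (Scr.cons (nat_lit 15) (nat_lit 1) (Step.L (Step.L (Step.L (Step.L (Step.L (Step.L (Step.L (Step.L (Step.D (nat_lit 7939) (Step.F (nat_lit 8513) (Step.F (nat_lit 8496) (Step.F (nat_lit 8495) (Step.L (Step.L (Step.L Step.done))))))))))))))) (Scr.cons (nat_lit 7) (nat_lit 0) (Step.U (nat_lit 9195) (Step.L (Step.L (Step.L (Step.L (Step.L (Step.L (Step.L (Step.L (Step.L (Step.L (Step.L (Step.L (Step.L (Step.L (Step.L (Step.L (Step.L (Step.L (Step.L (Step.D (nat_lit 11439) Step.done))))))))))))))))))))) (Scr.cons (nat_lit 0) (nat_lit 1) (Step.D (nat_lit 11439) (Step.F (nat_lit 8515) Step.done)) (Scr.cons (nat_lit 13) (nat_lit 0) (Step.L (Step.L (Step.L (Step.D (nat_lit 9195) (Step.F (nat_lit 8516) (Step.L (Step.L (Step.L (Step.L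 (Step.L (Step.L (Step.D (nat_lit 11440) Step.done)))))))))))) (Scr.cons (nat_lit 1) (nat_lit 0) (Step.D (nat_lit 11440) (Step.F (nat_lit 8517) (Step.D (nat_lit 11496) Step.done))) (Scr.cons (nat_lit 1) (nat_lit 0) (Step.D (nat_lit 11496) (Step.F (nat_lit 8518) Step.done)) (Scr.cons (nat_lit 12) (nat_lit 1) (Step.L (Step.L (Step.L (Step.L (Step.D (nat_lit 3199) Step.done))))) (Scr.cons (nat_lit 12) (nat_lit 1) (Step.U (nat_lit 5665) (Step.F (nat_lit 8520) (Step.D (nat_lit 3199) (Step.D (nat_lit 5665) (Step.D (nat_lit 8770) Step.done))))) (Scr.cons (nat_lit 12) (nat_lit 1) (Step.L (Step.L (Step.L (Step.L (Step.D (nat_lit 707) Step.done))))) Scr.nil))))))))))))))))))))))))))))))))))))))))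
noncomputable def s213 : Scr := (Scr.cons (nat_lit 12) (nat_lit 1) (Step.U (nat_lit 1658) (Step.F (nat_lit 8522) (Step.D (nat_lit 707) (Step.D (nat_lit 1658) (Step.D (nat_lit 3302) Step.done))))) (Scr.cons (nat_lit 12) (nat_lit 4) (Step.U (nat_lit 5640) (Step.F (nat_lit 8401) (Step.D (nat_lit 3185) (Step.D (nat_lit 5640) (Step.D (nat_lit 8736) Step.done))))) (Scr.cons (nat_lit 12) (nat_lit 1) (Step.F (nat_lit 3935) (Step.F (nat_lit 856) (Step.D (nat_lit 700) (Step.B (nat_lit 3935) (Step.D (nat_lit 1657) Step.done))))) (Scr.cons (nat_lit 12) (nat_lit 4) (Step.U (nat_lit 3301) (Step.F (nat_lit 8525) (Step.D (nat_lit 1657) (Step.D (nat_lit 3301) (Step.D (nat_lit 5850) Step.done))))) (Scr.cons (nat_lit 6) (nat_lit 1) (Step.B (nat_lit 5137) (Step.F (nat_lit 5138) (Step.U (nat_lit 2723) (Step.U (nat_lit 1336) (Step.L (Step.D (nat_lit 700) (Step.B (nat_lit 3935) (Step.B (nat_lit 8525) (Step.D (nat_lit 3301) (Step.D (nat_lit 5850) (Step.D (nat_lit 8989) Step.done))))))))))) (Scr.cons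 (nat_lit 0) (nat_lit 1) (Step.F (nat_lit 8527) (Step.B (nat_lit 6966) (Step.D (nat_lit 3185) Step.done))) (Scr.cons (nat_lit 1) (nat_lit 1) (Step.D (nat_lit 8989) (Step.B (nat_lit 8528) (Step.D (nat_lit 5640) Step.done))) (Scr.cons (nat_lit 0) (nat_lit 1) (Step.B (nat_lit 8526) (Step.B (nat_lit 8529) (Step.D (nat_lit 8736) Step.done))) (Scr.cons (nat_lit 0) (nat_lit 0) (Step.B (nat_lit 8524) (Step.F (nat_lit 8530) Step.done)) (Scr.cons (nat_lit 0) (nat_lit 1) (Step.D (nat_lit 10424) (Step.F (nat_lit 2435) Step.done)) (Scr.cons (nat_lit 0) (nat_lit 0) (Step.F (nat_lit 8532) (Step.F (nat_lit 2437) Step.done)) (Scr.cons (nat_lit 0) (nat_lit 1) (Step.D (nat_lit 5592) (Step.F (nat_lit 7218) Step.done)) (Scr.cons (nat_lit 7) (nat_lit 1) (Step.U (nat_lit 8737) (Step.U (nat_lit 5640) (Step.U (nat_lit 3185) (Step.U (nat_lit 1607) (Step.L (Step.L (Step.L (Step.L (Step.L (Step.B (nat_lit 8533) (Step.U (nat_lit 3153) (Step.D (nat_lit 3154) (Step.B (nat_lit 8534) (Step.D (nat_lit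 5864) (Step.B (nat_lit 2906) (Step.U (nat_lit 9004) (Step.B (nat_lit 2910) (Step.F (nat_lit 2959) (Step.U (nat_lit 6759) (Step.D (nat_lit 6758) (Step.D (nat_lit 9926) Step.done))))))))))))))))))))) (Scr.cons (nat_lit 1) (nat_lit 0) (Step.D (nat_lit 9926) (Step.F (nat_lit 8535) Step.done)) (Scr.cons (nat_lit 11) (nat_lit 0) (Step.U (nat_lit 8738) (Step.U (nat_lit 5641) (Step.D (nat_lit 5640) (Step.D (nat_lit 8737) (Step.F (nat_lit 8536) (Step.D (nat_lit 9925) Step.done)))))) (Scr.cons (nat_lit 1) (nat_lit 1) (Step.D (nat_lit 9925) (Step.F (nat_lit 8537) Step.done)) (Scr.cons (nat_lit 12) (nat_lit 1) (Step.U (nat_lit 6757) (Step.L (Step.L (Step.D (nat_lit 6757) (Step.D (nat_lit 9923) Step.done))))) (Scr.cons (nat_lit 15) (nat_lit 1) (Step.F (nat_lit 8539) (Step.U (nat_lit 6757) (Step.L (Step.L (Step.L (Step.L (Step.L (Step.L (Step.L (Step.L (Step.D (nat_lit 2052) (Step.D (nat_lit 3941) (Step.D (nat_lit 6758) (Step.B (nat_lit 8538) (Step.D (nat_lit 11464) Step.done)))))))))))))))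 (Scr.cons (nat_lit 16) (nat_lit 4) (Step.U (nat_lit 9924) (Step.U (nat_lit 6757) (Step.L (Step.L (Step.L (Step.L (Step.L (Step.L (Step.L (Step.L (Step.L (Step.L (Step.L (Step.L (Step.L (Step.L (Step.L (Step.L (Step.L (Step.L (Step.L (Step.L (Step.D (nat_lit 5663) (Step.D (nat_lit 8766) Step.done)))))))))))))))))))))))) (Scr.cons (nat_lit 1) (nat_lit 0) (Step.D (nat_lit 9924) (Step.B (nat_lit 8541) Step.done)) (Scr.cons (nat_lit 11) (nat_lit 0) (Step.U (nat_lit 8767) (Step.D (nat_lit 8766) (Step.F (nat_lit 8542) (Step.U (nat_lit 6757) (Step.D (nat_lit 6756) (Step.D (nat_lit 9922) Step.done)))))) (Scr.cons (nat_lit 1) (nat_lit 1) (Step.D (nat_lit 9922) (Step.F (nat_lit 8543) Step.done)) (Scr.cons (nat_lit 12) (nat_lit 4) (Step.L (Step.L (Step.L (Step.L (Step.D (nat_lit 5663) Step.done))))) (Scr.cons (nat_lit 13) (nat_lit 3) (Step.U (nat_lit 8768) (Step.U (nat_lit 5664) (Step.F (nat_lit 8520) (Step.L (Step.L (Step.L (Step.L (Step.L (Step.B (nat_lit 8545) (Step.D (nat_lit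 8767) (Step.D (nat_lit 11478) Step.done))))))))))) (Scr.cons (nat_lit 12) (nat_lit 4) (Step.U (nat_lit 5664) (Step.F (nat_lit 8520) (Step.D (nat_lit 3199) (Step.D (nat_lit 5664) (Step.D (nat_lit 8768) Step.done))))) (Scr.cons (nat_lit 16) (nat_lit 4) (Step.U (nat_lit 8991) (Step.U (nat_lit 5852) (Step.F (nat_lit 8523) (Step.U (nat_lit 1658) (Step.F (nat_lit 8522) (Step.L (Step.L (Step.D (nat_lit 706) (Step.D (nat_lit 1657) (Step.D (nat_lit 3301) (Step.F (nat_lit 8531) (Step.D (nat_lit 8737) (Step.F (nat_lit 8536) (Step.B (nat_lit 8538) (Step.D (nat_lit 11464) (Step.F (nat_lit 8540) (Step.F (nat_lit 8539) (Step.U (nat_lit 6757) (Step.D (nat_lit 6756) (Step.B (nat_lit 8544) (Step.D (nat_lit 11478) (Step.F (nat_lit 8546) (Step.F (nat_lit 8547) (Step.D (nat_lit 8769) Step.done)))))))))))))))))))))))) (Scr.cons (nat_lit 1) (nat_lit 0) (Step.D (nat_lit 8991) (Step.B (nat_lit 8548) Step.done)) (Scr.cons (nat_lit 11) (nat_lit 0) (Step.D (nat_lit 5664) (Step.D (nat_lit 8769) (Step.F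 (nat_lit 8549) (Step.U (nat_lit 5852) (Step.D (nat_lit 5851) (Step.D (nat_lit 8990) Step.done)))))) (Scr.cons (nat_lit 1) (nat_lit 0) (Step.D (nat_lit 8990) (Step.F (nat_lit 8550) (Step.D (nat_lit 5665) Step.done))) (Scr.cons (nat_lit 1) (nat_lit 0) (Step.D (nat_lit 5851) (Step.B (nat_lit 8551) (Step.D (nat_lit 8771) Step.done))) (Scr.cons (nat_lit 1) (nat_lit 0) (Step.D (nat_lit 8771) (Step.F (nat_lit 8552) Step.done)) (Scr.cons (nat_lit 6) (nat_lit 1) (Step.U (nat_lit 8992) (Step.L (Step.L (Step.L (Step.L (Step.D (nat_lit 707) (Step.D (nat_lit 1658) (Step.B (nat_lit 8523) (Step.F (nat_lit 8553) (Step.D (nat_lit 8770) (Step.D (nat_lit 11479) Step.done))))))))))) (Scr.cons (nat_lit 8) (nat_lit 0) (Step.U (nat_lit 8779) (Step.L (Step.L (Step.L (Step.L (Step.L (Step.L (Step.L (Step.L (Step.L (Step.L (Step.B (nat_lit 8520) (Step.D (nat_lit 5665) (Step.B (nat_lit 8521) (Step.D (nat_lit 11479) (Step.F (nat_lit 8554) Step.done)))))))))))))))) (Scr.cons (nat_lit 1) (nat_lit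 0) (Step.D (nat_lit 8992) (Step.F (nat_lit 8555) Step.done)) (Scr.cons (nat_lit 7) (nat_lit 2) (Step.L (Step.L (Step.L (Step.L (Step.L (Step.L (Step.L (Step.L (Step.L (Step.L (Step.L (Step.L (Step.L (Step.B (nat_lit 8556) (Step.U (nat_lit 8779) (Step.L (Step.L (Step.L (Step.L (Step.L (Step.D (nat_lit 11487) Step.done))))))))))))))))))))) (Scr.cons (nat_lit 1) (nat_lit 0) (Step.D (nat_lit 11487) (Step.F (nat_lit 8557) Step.done)) (Scr.cons (nat_lit 12) (nat_lit 1) (Step.L (Step.L (Step.L (Step.L (Step.D (nat_lit 11472) Step.done))))) (Scr.cons (nat_lit 12) (nat_lit 4) (Step.L (Step.L (Step.L (Step.L (Step.D (nat_lit 10530) Step.done))))) (Scr.cons (nat_lit 13) (nat_lit 1) (Step.U (nat_lit 11499) (Step.L (Step.L (Step.L (Step.L (Step.L (Step.L (Step.L (Step.L (Step.L (Step.L (Step.B (nat_lit 8560) Step.done)))))))))))) (Scr.cons (nat_lit 1) (nat_lit 1) (Step.D (nat_lit 11499) (Step.B (nat_lit 8561) Step.done)) Scr.nil))))))))))))))))))))))))))))))))))))))))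
noncomputable def s214 : Scr := (Scr.cons (nat_lit 8) (nat_lit 0) (Step.L (Step.B (nat_lit 8560) (Step.F (nat_lit 8562) (Step.L (Step.L (Step.L (Step.L (Step.L (Step.L (Step.L (Step.L (Step.L (Step.L (Step.L (Step.L (Step.B (nat_lit 8559) Step.done)))))))))))))))) (Scr.cons (nat_lit 0) (nat_lit 0) (Step.B (nat_lit 8559) (Step.F (nat_lit 8563) Step.done)) (Scr.cons (nat_lit 12) (nat_lit 4) (Step.U (nat_lit 5242) (Step.L (Step.L (Step.D (nat_lit 5242) (Step.D (nat_lit 8278) Step.done))))) (Scr.cons (nat_lit 12) (nat_lit 4) (Step.U (nat_lit 8279) (Step.D (nat_lit 8278) (Step.F (nat_lit 8565) (Step.D (nat_lit 8279) (Step.D (nat_lit 11225) Step.done))))) (Scr.cons (nat_lit 15) (nat_lit 0) (Step.L (Step.L (Step.L (Step.L (Step.L (Step.L (Step.L (Step.L (Step.L (Step.L (Step.L (Step.D (nat_lit 1706) (Step.D (nat_lit 3380) (Step.D (nat_lit 5980) (Step.D (nat_lit 9141) Step.done))))))))))))))) (Scr.cons (nat_lit 12) (nat_lit 1) (Step.U (nat_lit 3066) (Step.L (Step.L (Step.D (nat_lit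 3066) (Step.D (nat_lit 5487) Step.done))))) (Scr.cons (nat_lit 12) (nat_lit 4) (Step.L (Step.L (Step.L (Step.L (Step.D (nat_lit 643) Step.done))))) (Scr.cons (nat_lit 12) (nat_lit 4) (Step.U (nat_lit 1531) (Step.F (nat_lit 8569) (Step.D (nat_lit 643) (Step.D (nat_lit 1531) (Step.D (nat_lit 3063) Step.done))))) (Scr.cons (nat_lit 13) (nat_lit 0) (Step.U (nat_lit 8573) (Step.F (nat_lit 8568) (Step.U (nat_lit 3066) (Step.L (Step.L (Step.D (nat_lit 643) (Step.D (nat_lit 1531) (Step.B (nat_lit 8570) (Step.D (nat_lit 5484) (Step.D (nat_lit 8572) (Step.D (nat_lit 11383) Step.done))))))))))) (Scr.cons (nat_lit 0) (nat_lit 1) (Step.F (nat_lit 2720) (Step.B (nat_lit 6371) (Step.L Step.done))) (Scr.cons (nat_lit 1) (nat_lit 1) (Step.D (nat_lit 1194) (Step.B (nat_lit 8572) (Step.L Step.done))) (Scr.cons (nat_lit 1) (nat_lit 1) (Step.U (nat_lit 1193) (Step.B (nat_lit 8573) (Step.L Step.done))) (Scr.cons (nat_lit 1) (nat_lit 1) (Step.U (nat_lit 2480) (Step.B (nat_lit 8574) (Step.L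 Step.done))) (Scr.cons (nat_lit 0) (nat_lit 1) (Step.U (nat_lit 4595) (Step.B (nat_lit 8575) (Step.L Step.done))) (Scr.cons (nat_lit 1) (nat_lit 0) (Step.F (nat_lit 2732) (Step.B (nat_lit 8576) (Step.D (nat_lit 3066) Step.done))) (Scr.cons (nat_lit 1) (nat_lit 0) (Step.D (nat_lit 4964) (Step.B (nat_lit 8577) (Step.D (nat_lit 5488) Step.done))) (Scr.cons (nat_lit 1) (nat_lit 0) (Step.D (nat_lit 5488) (Step.F (nat_lit 8578) Step.done)) (Scr.cons (nat_lit 1) (nat_lit 1) (Step.U (nat_lit 7554) (Step.B (nat_lit 8576) (Step.L Step.done))) (Scr.cons (nat_lit 1) (nat_lit 1) (Step.F (nat_lit 2733) (Step.B (nat_lit 8580) (Step.D (nat_lit 5486) Step.done))) (Scr.cons (nat_lit 1) (nat_lit 1) (Step.D (nat_lit 7976) (Step.B (nat_lit 8581) (Step.F (nat_lit 2453) Step.done))) (Scr.cons (nat_lit 1) (nat_lit 0) (Step.D (nat_lit 4965) (Step.B (nat_lit 8582) Step.done)) (Scr.cons (nat_lit 1) (nat_lit 1) (Step.B (nat_lit 8583) (Step.B (nat_lit 2541) (Step.D (nat_lit 1590) Step.done))) (Scr.cons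 (nat_lit 1) (nat_lit 1) (Step.B (nat_lit 8579) (Step.B (nat_lit 8584) (Step.D (nat_lit 3166) Step.done))) (Scr.cons (nat_lit 1) (nat_lit 1) (Step.D (nat_lit 3166) (Step.F (nat_lit 8585) Step.done)) (Scr.cons (nat_lit 12) (nat_lit 4) (Step.U (nat_lit 1590) (Step.L (Step.L (Step.D (nat_lit 1590) (Step.D (nat_lit 3165) Step.done))))) (Scr.cons (nat_lit 0) (nat_lit 1) (Step.B (nat_lit 2708) (Step.B (nat_lit 8584) (Step.D (nat_lit 3165) Step.done))) (Scr.cons (nat_lit 0) (nat_lit 0) (Step.B (nat_lit 8587) (Step.F (nat_lit 8588) Step.done)) (Scr.cons (nat_lit 1) (nat_lit 1) (Step.U (nat_lit 546) (Step.F (nat_lit 8148) (Step.L Step.done))) (Scr.cons (nat_lit 1) (nat_lit 1) (Step.U (nat_lit 1338) (Step.B (nat_lit 8590) (Step.L Step.done))) (Scr.cons (nat_lit 0) (nat_lit 1) (Step.B (nat_lit 8589) (Step.B (nat_lit 8591) (Step.L Step.done))) (Scr.cons (nat_lit 1) (nat_lit 1) (Step.F (nat_lit 8586) (Step.B (nat_lit 8592) (Step.L Step.done))) (Scr.cons (nat_lit 0) (nat_lit 1) (Step.U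 (nat_lit 5487) (Step.B (nat_lit 8593) (Step.D (nat_lit 1706) Step.done))) (Scr.cons (nat_lit 1) (nat_lit 1) (Step.U (nat_lit 8573) (Step.B (nat_lit 8594) (Step.D (nat_lit 3380) Step.done))) (Scr.cons (nat_lit 0) (nat_lit 1) (Step.F (nat_lit 8571) (Step.B (nat_lit 8595) (Step.D (nat_lit 5980) Step.done))) (Scr.cons (nat_lit 1) (nat_lit 0) (Step.D (nat_lit 11383) (Step.B (nat_lit 8596) (Step.D (nat_lit 9142) Step.done))) (Scr.cons (nat_lit 1) (nat_lit 0) (Step.D (nat_lit 9142) (Step.F (nat_lit 8597) Step.done)) (Scr.cons (nat_lit 12) (nat_lit 4) (Step.U (nat_lit 1427) (Step.L (Step.L (Step.D (nat_lit 1427) (Step.D (nat_lit 2896) Step.done))))) (Scr.cons (nat_lit 0) (nat_lit 1) (Step.B (nat_lit 8599) (Step.B (nat_lit 7821) (Step.L Step.done))) (Scr.cons (nat_lit 1) (nat_lit 0) (Step.D (nat_lit 1427) (Step.B (nat_lit 8600) (Step.D (nat_lit 2622) Step.done))) (Scr.cons (nat_lit 0) (nat_lit 1) (Step.U (nat_lit 4823) (Step.F (nat_lit 8601) (Step.L Step.done))) Scr.nil))))))))))))))))))))))))))))))))))))))))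
noncomputable def s215 : Scr := (Scr.cons (nat_lit 1) (nat_lit 0) (Step.B (nat_lit 2360) (Step.B (nat_lit 8602) (Step.L Step.done))) (Scr.cons (nat_lit 1) (nat_lit 0) (Step.D (nat_lit 3064) (Step.B (nat_lit 8603) (Step.L Step.done))) (Scr.cons (nat_lit 0) (nat_lit 1) (Step.U (nat_lit 3063) (Step.B (nat_lit 8604) (Step.L Step.done))) (Scr.cons (nat_lit 1) (nat_lit 0) (Step.U (nat_lit 5484) (Step.B (nat_lit 8605) (Step.L Step.done))) (Scr.cons (nat_lit 0) (nat_lit 1) (Step.U (nat_lit 8572) (Step.B (nat_lit 8606) (Step.L Step.done))) (Scr.cons (nat_lit 1) (nat_lit 1) (Step.B (nat_lit 8598) (Step.B (nat_lit 8607) (Step.D (nat_lit 5242) Step.done))) (Scr.cons (nat_lit 1) (nat_lit 1) (Step.U (nat_lit 9141) (Step.B (nat_lit 8608) (Step.D (nat_lit 8279) Step.done))) (Scr.cons (nat_lit 0) (nat_lit 1) (Step.B (nat_lit 8567) (Step.B (nat_lit 8609) (Step.D (nat_lit 11225) Step.done))) (Scr.cons (nat_lit 0) (nat_lit 0) (Step.B (nat_lit 8566) (Step.F (nat_lit 8610) Step.done)) (Scr.cons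 (nat_lit 0) (nat_lit 1) (Step.D (nat_lit 11225) (Step.F (nat_lit 8610) Step.done)) (Scr.cons (nat_lit 12) (nat_lit 1) (Step.L (Step.F (nat_lit 8611) (Step.B (nat_lit 8612) (Step.L (Step.L Step.done))))) (Scr.cons (nat_lit 12) (nat_lit 4) (Step.L (Step.L (Step.L (Step.L (Step.D (nat_lit 9155) Step.done))))) (Scr.cons (nat_lit 12) (nat_lit 4) (Step.L (Step.D (nat_lit 9155) (Step.F (nat_lit 8614) (Step.L (Step.L Step.done))))) (Scr.cons (nat_lit 1) (nat_lit 1) (Step.U (nat_lit 6046) (Step.B (nat_lit 3741) (Step.U (nat_lit 2096) Step.done))) (Scr.cons (nat_lit 1) (nat_lit 1) (Step.B (nat_lit 3724) (Step.B (nat_lit 8616) (Step.D (nat_lit 2095) Step.done))) (Scr.cons (nat_lit 1) (nat_lit 1) (Step.D (nat_lit 3436) (Step.B (nat_lit 8617) (Step.D (nat_lit 4006) Step.done))) (Scr.cons (nat_lit 1) (nat_lit 1) (Step.D (nat_lit 4006) (Step.F (nat_lit 8618) Step.done)) (Scr.cons (nat_lit 14) (nat_lit 2) (Step.L (Step.L (Step.L (Step.L (Step.L (Step.D (nat_lit 972) (Step.F (nat_lit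 294) (Step.D (nat_lit 973) (Step.D (nat_lit 2095) (Step.B (nat_lit 8619) (Step.U (nat_lit 1750) (Step.U (nat_lit 774) (Step.B (nat_lit 1074) (Step.U (nat_lit 748) (Step.L (Step.L (Step.L (Step.L (Step.L (Step.L Step.done)))))))))))))))))))) (Scr.cons (nat_lit 12) (nat_lit 4) (Step.L (Step.L (Step.L (Step.L (Step.D (nat_lit 9173) Step.done))))) (Scr.cons (nat_lit 12) (nat_lit 4) (Step.L (Step.D (nat_lit 9173) (Step.F (nat_lit 8621) (Step.L (Step.L Step.done))))) (Scr.cons (nat_lit 12) (nat_lit 1) (Step.L (Step.L (Step.L (Step.L (Step.D (nat_lit 9182) Step.done))))) (Scr.cons (nat_lit 12) (nat_lit 1) (Step.L (Step.D (nat_lit 9182) (Step.F (nat_lit 8623) (Step.L (Step.L Step.done))))) (Scr.cons (nat_lit 12) (nat_lit 4) (Step.L (Step.L (Step.L (Step.L (Step.D (nat_lit 9191) Step.done))))) (Scr.cons (nat_lit 12) (nat_lit 4) (Step.L (Step.D (nat_lit 9191) (Step.F (nat_lit 8625) (Step.L (Step.L Step.done))))) (Scr.cons (nat_lit 12) (nat_lit 4) (Step.U (nat_lit 377) (Step.L (Step.L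 (Step.D (nat_lit 377) (Step.D (nat_lit 995) Step.done))))) (Scr.cons (nat_lit 12) (nat_lit 4) (Step.U (nat_lit 2132) (Step.F (nat_lit 8627) (Step.D (nat_lit 995) (Step.D (nat_lit 2132) (Step.D (nat_lit 4067) Step.done))))) (Scr.cons (nat_lit 15) (nat_lit 0) (Step.U (nat_lit 6161) (Step.L (Step.L (Step.L (Step.L (Step.L (Step.L (Step.L (Step.L (Step.L (Step.D (nat_lit 377) (Step.D (nat_lit 995) (Step.D (nat_lit 2132) (Step.D (nat_lit 4067) (Step.D (nat_lit 6923) Step.done))))))))))))))) (Scr.cons (nat_lit 12) (nat_lit 4) (Step.U (nat_lit 6923) (Step.F (nat_lit 8628) (Step.D (nat_lit 4067) (Step.D (nat_lit 6923) (Step.F (nat_lit 8629) Step.done))))) (Scr.cons (nat_lit 12) (nat_lit 4) (Step.U (nat_lit 4068) (Step.D (nat_lit 4067) (Step.F (nat_lit 8628) (Step.D (nat_lit 4068) (Step.D (nat_lit 6924) Step.done))))) (Scr.cons (nat_lit 13) (nat_lit 3) (Step.U (nat_lit 2142) (Step.U (nat_lit 1003) (Step.F (nat_lit 2797) (Step.U (nat_lit 127) (Step.L (Step.L (Step.L (Step.D (nat_lit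 377) (Step.B (nat_lit 8627) (Step.D (nat_lit 2133) (Step.D (nat_lit 4069) Step.done))))))))))) (Scr.cons (nat_lit 12) (nat_lit 4) (Step.U (nat_lit 1003) (Step.F (nat_lit 2797) (Step.D (nat_lit 382) (Step.D (nat_lit 1003) (Step.D (nat_lit 2142) Step.done))))) (Scr.cons (nat_lit 11) (nat_lit 0) (Step.U (nat_lit 2145) (Step.U (nat_lit 1004) (Step.D (nat_lit 1003) (Step.D (nat_lit 2143) (Step.D (nat_lit 4083) Step.done))))) (Scr.cons (nat_lit 12) (nat_lit 4) (Step.U (nat_lit 6054) (Step.L (Step.L (Step.D (nat_lit 6054) (Step.D (nat_lit 9202) Step.done))))) (Scr.cons (nat_lit 12) (nat_lit 1) (Step.U (nat_lit 1004) (Step.F (nat_lit 2797) (Step.D (nat_lit 382) (Step.D (nat_lit 1004) (Step.D (nat_lit 2144) Step.done))))) (Scr.cons (nat_lit 15) (nat_lit 0) (Step.U (nat_lit 4084) (Step.F (nat_lit 8636) (Step.U (nat_lit 1004) (Step.F (nat_lit 2797) (Step.U (nat_lit 127) (Step.L (Step.L (Step.L (Step.L (Step.L (Step.L (Step.L (Step.L (Step.D (nat_lit 4046) (Step.D (nat_lit 6897)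 Step.done))))))))))))))) (Scr.cons (nat_lit 12) (nat_lit 1) (Step.L (Step.L (Step.L (Step.L (Step.D (nat_lit 9200) Step.done))))) (Scr.cons (nat_lit 1) (nat_lit 0) (Step.B (nat_lit 5108) (Step.F (nat_lit 5109) Step.done)) (Scr.cons (nat_lit 16) (nat_lit 5) (Step.F (nat_lit 8638) (Step.L (Step.L (Step.L (Step.L (Step.L (Step.L (Step.L (Step.L (Step.F (nat_lit 8639) (Step.U (nat_lit 6901) (Step.U (nat_lit 4049) (Step.L (Step.L (Step.L (Step.L (Step.L (Step.L (Step.L (Step.L (Step.D (nat_lit 4046) (Step.D (nat_lit 6897) (Step.D (nat_lit 10030) Step.done))))))))))))))))))))))) (Scr.cons (nat_lit 15) (nat_lit 0) (Step.F (nat_lit 8640) (Step.F (nat_lit 8638) (Step.L (Step.L (Step.L (Step.L (Step.L (Step.L (Step.L (Step.L (Step.L (Step.L (Step.L (Step.L (Step.D (nat_lit 9201) Step.done))))))))))))))) (Scr.cons (nat_lit 12) (nat_lit 0) (Step.F (nat_lit 8641) (Step.F (nat_lit 8640) (Step.F (nat_lit 8638) (Step.D (nat_lit 9200) (Step.B (nat_lit 8640) Step.done))))) Scr.nil))))))))))))))))))))))))))))))))))))))))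
noncomputable def s216 : Scr := (Scr.cons (nat_lit 6) (nat_lit 0) (Step.U (nat_lit 6946) (Step.U (nat_lit 4085) (Step.U (nat_lit 2145) (Step.D (nat_lit 2144) (Step.D (nat_lit 4084) (Step.B (nat_lit 8637) (Step.D (nat_lit 10030) (Step.F (nat_lit 8642) (Step.U (nat_lit 9201) (Step.L (Step.D (nat_lit 6054) (Step.D (nat_lit 9202) Step.done)))))))))))) (Scr.cons (nat_lit 0) (nat_lit 1) (Step.B (nat_lit 8635) (Step.F (nat_lit 8643) (Step.D (nat_lit 10078) Step.done))) (Scr.cons (nat_lit 0) (nat_lit 1) (Step.D (nat_lit 10078) (Step.F (nat_lit 8644) Step.done)) (Scr.cons (nat_lit 11) (nat_lit 0) (Step.U (nat_lit 6056) (Step.U (nat_lit 3445) (Step.L (Step.D (nat_lit 6054) (Step.D (nat_lit 9203) Step.done))))) (Scr.cons (nat_lit 12) (nat_lit 1) (Step.U (nat_lit 3445) (Step.L (Step.L (Step.D (nat_lit 3445) (Step.D (nat_lit 6055) Step.done))))) (Scr.cons (nat_lit 6) (nat_lit 3) (Step.U (nat_lit 6058) (Step.L (Step.L (Step.L (Step.L (Step.L (Step.L (Step.L (Step.D (nat_lit 3445) (Step.B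 (nat_lit 8647) (Step.D (nat_lit 9204) Step.done))))))))))) (Scr.cons (nat_lit 11) (nat_lit 0) (Step.U (nat_lit 9210) (Step.U (nat_lit 6059) (Step.D (nat_lit 6058) (Step.D (nat_lit 9208) (Step.D (nat_lit 11638) Step.done))))) (Scr.cons (nat_lit 16) (nat_lit 0) (Step.U (nat_lit 10061) (Step.F (nat_lit 8631) (Step.D (nat_lit 6925) (Step.F (nat_lit 5060) (Step.U (nat_lit 4070) (Step.D (nat_lit 4069) (Step.F (nat_lit 8632) (Step.F (nat_lit 8633) (Step.D (nat_lit 2143) (Step.D (nat_lit 4083) (Step.F (nat_lit 8634) (Step.D (nat_lit 4085) (Step.D (nat_lit 6946) (Step.B (nat_lit 8645) (Step.D (nat_lit 9203) (Step.F (nat_lit 8646) (Step.U (nat_lit 6056) (Step.D (nat_lit 6055) (Step.D (nat_lit 9204) (Step.F (nat_lit 8648) (Step.D (nat_lit 9208) (Step.D (nat_lit 11638) (Step.F (nat_lit 8649) Step.done))))))))))))))))))))))) (Scr.cons (nat_lit 6) (nat_lit 1) (Step.U (nat_lit 9328) (Step.F (nat_lit 8630) (Step.U (nat_lit 6923) (Step.U (nat_lit 4067) (Step.D (nat_lit 4068) (Step.D (nat_lit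 6924) (Step.D (nat_lit 10061) (Step.B (nat_lit 8650) (Step.U (nat_lit 9210) (Step.D (nat_lit 9209) (Step.D (nat_lit 11639) Step.done))))))))))) (Scr.cons (nat_lit 12) (nat_lit 1) (Step.U (nat_lit 6059) (Step.L (Step.L (Step.D (nat_lit 6059) (Step.D (nat_lit 9209) Step.done))))) (Scr.cons (nat_lit 15) (nat_lit 1) (Step.B (nat_lit 8651) (Step.U (nat_lit 11639) (Step.F (nat_lit 8652) (Step.U (nat_lit 6059) (Step.L (Step.L (Step.L (Step.L (Step.L (Step.L (Step.L (Step.L (Step.D (nat_lit 6065) (Step.D (nat_lit 9216) (Step.D (nat_lit 11640) Step.done))))))))))))))) (Scr.cons (nat_lit 6) (nat_lit 1) (Step.U (nat_lit 3451) (Step.L (Step.L (Step.L (Step.L (Step.L (Step.L (Step.B (nat_lit 1804) (Step.D (nat_lit 1754) (Step.D (nat_lit 3447) (Step.D (nat_lit 6061) Step.done))))))))))) (Scr.cons (nat_lit 12) (nat_lit 4) (Step.U (nat_lit 1754) (Step.F (nat_lit 1804) (Step.D (nat_lit 779) (Step.D (nat_lit 1754) (Step.D (nat_lit 3447) Step.done))))) (Scr.cons (nat_lit 13) (nat_lit 2)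 (Step.U (nat_lit 3451) (Step.L (Step.L (Step.L (Step.L (Step.L (Step.L (Step.D (nat_lit 779) (Step.D (nat_lit 1754) (Step.B (nat_lit 8655) (Step.D (nat_lit 6061) Step.done))))))))))) (Scr.cons (nat_lit 12) (nat_lit 1) (Step.U (nat_lit 6066) (Step.B (nat_lit 8654) (Step.F (nat_lit 8656) (Step.D (nat_lit 6066) (Step.D (nat_lit 9217) Step.done))))) (Scr.cons (nat_lit 11) (nat_lit 0) (Step.L (Step.L (Step.L (Step.L (Step.D (nat_lit 6212) Step.done))))) (Scr.cons (nat_lit 7) (nat_lit 6) (Step.U (nat_lit 6212) (Step.L (Step.L (Step.L (Step.L (Step.L (Step.L (Step.L (Step.L (Step.L (Step.L (Step.L (Step.L (Step.L (Step.L (Step.L (Step.L (Step.L (Step.L (Step.D (nat_lit 7216) Step.done)))))))))))))))))))) (Scr.cons (nat_lit 11) (nat_lit 0) (Step.U (nat_lit 7216) (Step.L (Step.L (Step.D (nat_lit 7215) (Step.D (nat_lit 10299) Step.done))))) (Scr.cons (nat_lit 11) (nat_lit 0) (Step.L (Step.L (Step.D (nat_lit 156) (Step.D (nat_lit 460) (Step.D (nat_lit 1167) Step.done))))) (Scr.cons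 (nat_lit 12) (nat_lit 1) (Step.F (nat_lit 8661) (Step.L (Step.L (Step.B (nat_lit 8661) (Step.D (nat_lit 2424) Step.done))))) (Scr.cons (nat_lit 14) (nat_lit 2) (Step.F (nat_lit 8662) (Step.F (nat_lit 8661) (Step.L (Step.L (Step.L (Step.L (Step.L (Step.L (Step.L (Step.L (Step.L (Step.L (Step.L (Step.L (Step.L (Step.L (Step.L (Step.L (Step.L (Step.L Step.done)))))))))))))))))))) (Scr.cons (nat_lit 11) (nat_lit 0) (Step.L (Step.L (Step.L (Step.F (nat_lit 8663) (Step.D (nat_lit 4518) Step.done))))) (Scr.cons (nat_lit 12) (nat_lit 1) (Step.F (nat_lit 8664) (Step.L (Step.L (Step.B (nat_lit 8664) (Step.D (nat_lit 7467) Step.done))))) (Scr.cons (nat_lit 11) (nat_lit 0) (Step.U (nat_lit 5034) (Step.L (Step.D (nat_lit 2765) (Step.D (nat_lit 5033) (Step.D (nat_lit 8053) Step.done))))) (Scr.cons (nat_lit 12) (nat_lit 1) (Step.U (nat_lit 5034) (Step.L (Step.L (Step.D (nat_lit 5034) (Step.D (nat_lit 8054) Step.done))))) (Scr.cons (nat_lit 12) (nat_lit 1) (Step.F (nat_lit 8666) (Step.D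 (nat_lit 8054) (Step.F (nat_lit 8667) (Step.B (nat_lit 8666) (Step.D (nat_lit 11026) Step.done))))) (Scr.cons (nat_lit 11) (nat_lit 0) (Step.U (nat_lit 2767) (Step.U (nat_lit 1357) (Step.F (nat_lit 1805) (Step.D (nat_lit 1754) (Step.D (nat_lit 3448) Step.done))))) (Scr.cons (nat_lit 12) (nat_lit 4) (Step.L (Step.L (Step.L (Step.L (Step.D (nat_lit 555) Step.done))))) (Scr.cons (nat_lit 12) (nat_lit 1) (Step.U (nat_lit 1357) (Step.F (nat_lit 8670) (Step.D (nat_lit 555) (Step.D (nat_lit 1357) (Step.D (nat_lit 2766) Step.done))))) (Scr.cons (nat_lit 12) (nat_lit 1) (Step.U (nat_lit 2767) (Step.D (nat_lit 2766) (Step.F (nat_lit 8671) (Step.D (nat_lit 2767) (Step.D (nat_lit 5037) Step.done))))) (Scr.cons (nat_lit 12) (nat_lit 1) (Step.F (nat_lit 8669) (Step.D (nat_lit 5037) (Step.F (nat_lit 8672) (Step.B (nat_lit 8669) (Step.D (nat_lit 6062) Step.done))))) (Scr.cons (nat_lit 14) (nat_lit 2) (Step.F (nat_lit 8668) (Step.F (nat_lit 8666) (Step.U (nat_lit 5034) (Step.L (Step.L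 (Step.L (Step.L (Step.L (Step.L (Step.L (Step.L (Step.L (Step.L (Step.L (Step.D (nat_lit 555) (Step.F (nat_lit 1805) (Step.D (nat_lit 1754) (Step.D (nat_lit 3448) (Step.B (nat_lit 8673) (Step.D (nat_lit 9213) Step.done)))))))))))))))))))) (Scr.cons (nat_lit 9) (nat_lit 2) (Step.U (nat_lit 9212) (Step.L (Step.B (nat_lit 2920) (Step.F (nat_lit 2934) (Step.U (nat_lit 6982) (Step.U (nat_lit 4117) (Step.L (Step.L (Step.L (Step.L (Step.L (Step.L (Step.L (Step.L (Step.L (Step.L (Step.L (Step.L (Step.L (Step.L (Step.L (Step.L (Step.L Step.done))))))))))))))))))))))) (Scr.cons (nat_lit 4) (nat_lit 0) (Step.U (nat_lit 10095) (Step.L (Step.L (Step.L (Step.F (nat_lit 8675) Step.done))))) (Scr.cons (nat_lit 7) (nat_lit 1) (Step.B (nat_lit 8674) (Step.U (nat_lit 9213) (Step.U (nat_lit 6062) (Step.U (nat_lit 3448) (Step.U (nat_lit 1754) (Step.F (nat_lit 1804) (Step.L (Step.L (Step.L (Step.L (Step.L (Step.L (Step.D (nat_lit 9212) (Step.F (nat_lit 8676) (Step.U (nat_lit 10095) (Step.L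 (Step.L (Step.L (Step.B (nat_lit 8664) (Step.D (nat_lit 7467) (Step.D (nat_lit 10517) Step.done))))))))))))))))))))) (Scr.cons (nat_lit 1) (nat_lit 1) (Step.F (nat_lit 8674) (Step.B (nat_lit 8677) Step.done)) (Scr.cons (nat_lit 7) (nat_lit 6) (Step.U (nat_lit 10299) (Step.U (nat_lit 7215) (Step.L (Step.L (Step.L (Step.L (Step.L (Step.L (Step.L (Step.L (Step.L (Step.L (Step.L (Step.L (Step.L (Step.L (Step.B (nat_lit 8664) (Step.B (nat_lit 8665) (Step.D (nat_lit 10517) (Step.F (nat_lit 8678) Step.done)))))))))))))))))))) (Scr.cons (nat_lit 8) (nat_lit 1) (Step.U (nat_lit 9389) (Step.L (Step.B (nat_lit 8658) (Step.B (nat_lit 8659) (Step.B (nat_lit 8660) (Step.B (nat_lit 8679) (Step.U (nat_lit 9213) (Step.U (nat_lit 6062) (Step.U (nat_lit 3448) (Step.B (nat_lit 8655) (Step.D (nat_lit 6061) (Step.F (nat_lit 8654) (Step.D (nat_lit 6066) (Step.B (nat_lit 8657) (Step.D (nat_lit 11641) Step.done))))))))))))))) (Scr.cons (nat_lit 9) (nat_lit 2) (Step.L (Step.L (Step.L (Step.L (Step.L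 (Step.L (Step.L (Step.L (Step.L (Step.L (Step.D (nat_lit 6161) (Step.D (nat_lit 9328) (Step.B (nat_lit 8653) (Step.U (nat_lit 11640) (Step.U (nat_lit 9216) (Step.U (nat_lit 6065) (Step.L (Step.D (nat_lit 3451) (Step.D (nat_lit 6066) (Step.B (nat_lit 8657) (Step.D (nat_lit 11641) (Step.F (nat_lit 8680) (Step.U (nat_lit 9389) (Step.D (nat_lit 9390) Step.done)))))))))))))))))))))))) (Scr.cons (nat_lit 1) (nat_lit 0) (Step.D (nat_lit 9390) (Step.F (nat_lit 8681) Step.done)) Scr.nil))))))))))))))))))))))))))))))))))))))))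
noncomputable def s217 : Scr := (Scr.cons (nat_lit 12) (nat_lit 1) (Step.L (Step.L (Step.L (Step.L (Step.D (nat_lit 9222) Step.done))))) (Scr.cons (nat_lit 12) (nat_lit 1) (Step.L (Step.D (nat_lit 9222) (Step.F (nat_lit 8683) (Step.L (Step.L Step.done))))) (Scr.cons (nat_lit 12) (nat_lit 4) (Step.L (Step.L (Step.L (Step.L (Step.D (nat_lit 9227) Step.done))))) (Scr.cons (nat_lit 12) (nat_lit 4) (Step.L (Step.D (nat_lit 9227) (Step.F (nat_lit 8685) (Step.L (Step.L Step.done))))) (Scr.cons (nat_lit 12) (nat_lit 4) (Step.L (Step.L (Step.L (Step.L (Step.D (nat_lit 9228) Step.done))))) (Scr.cons (nat_lit 12) (nat_lit 4) (Step.L (Step.D (nat_lit 9228) (Step.F (nat_lit 8687) (Step.L (Step.L Step.done))))) (Scr.cons (nat_lit 12) (nat_lit 1) (Step.L (Step.L (Step.L (Step.L (Step.D (nat_lit 9229) Step.done))))) (Scr.cons (nat_lit 12) (nat_lit 1) (Step.L (Step.D (nat_lit 9229) (Step.F (nat_lit 8689) (Step.L (Step.L Step.done))))) (Scr.cons (nat_lit 12) (nat_lit 4) (Step.L (Step.L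 (Step.L (Step.L (Step.D (nat_lit 8419) Step.done))))) (Scr.cons (nat_lit 12) (nat_lit 4) (Step.U (nat_lit 8420) (Step.D (nat_lit 8419) (Step.F (nat_lit 8691) (Step.D (nat_lit 8420) (Step.D (nat_lit 11294) Step.done))))) (Scr.cons (nat_lit 11) (nat_lit 0) (Step.L (Step.L (Step.L (Step.L (Step.D (nat_lit 11656) Step.done))))) (Scr.cons (nat_lit 14) (nat_lit 1) (Step.L (Step.L (Step.L (Step.L (Step.L (Step.L (Step.L (Step.D (nat_lit 11656) (Step.F (nat_lit 8693) (Step.L (Step.L (Step.L (Step.L (Step.L (Step.L (Step.L (Step.L (Step.L (Step.L (Step.D (nat_lit 8420) (Step.B (nat_lit 8692) Step.done))))))))))))))))))))) (Scr.cons (nat_lit 0) (nat_lit 1) (Step.B (nat_lit 8692) (Step.F (nat_lit 8694) (Step.L Step.done))) (Scr.cons (nat_lit 1) (nat_lit 0) (Step.D (nat_lit 8420) (Step.B (nat_lit 8695) (Step.D (nat_lit 6079) Step.done))) (Scr.cons (nat_lit 1) (nat_lit 0) (Step.D (nat_lit 6079) (Step.F (nat_lit 8696) Step.done)) (Scr.cons (nat_lit 12) (nat_lit 4) (Step.U (nat_lit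 254) (Step.L (Step.L (Step.D (nat_lit 254) (Step.D (nat_lit 713) Step.done))))) (Scr.cons (nat_lit 11) (nat_lit 0) (Step.U (nat_lit 2979) (Step.U (nat_lit 1472) (Step.L (Step.D (nat_lit 2978) (Step.D (nat_lit 5364) Step.done))))) (Scr.cons (nat_lit 11) (nat_lit 0) (Step.U (nat_lit 3320) (Step.U (nat_lit 1668) (Step.D (nat_lit 1667) (Step.D (nat_lit 3318) (Step.D (nat_lit 5879) Step.done))))) (Scr.cons (nat_lit 12) (nat_lit 1) (Step.U (nat_lit 1668) (Step.F (nat_lit 8698) (Step.D (nat_lit 713) (Step.D (nat_lit 1668) (Step.D (nat_lit 3319) Step.done))))) (Scr.cons (nat_lit 12) (nat_lit 1) (Step.U (nat_lit 3320) (Step.D (nat_lit 3319) (Step.F (nat_lit 8701) (Step.D (nat_lit 3320) (Step.D (nat_lit 5880) Step.done))))) (Scr.cons (nat_lit 12) (nat_lit 1) (Step.F (nat_lit 8700) (Step.D (nat_lit 5880) (Step.F (nat_lit 8702) (Step.B (nat_lit 8700) (Step.D (nat_lit 9031) Step.done))))) (Scr.cons (nat_lit 7) (nat_lit 5) (Step.F (nat_lit 8703) (Step.U (nat_lit 5879) (Step.U (nat_lit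 3318) (Step.U (nat_lit 1667) (Step.U (nat_lit 713) (Step.U (nat_lit 254) (Step.L (Step.L (Step.L (Step.L (Step.L (Step.L (Step.L (Step.L (Step.L (Step.L (Step.L (Step.L (Step.L (Step.D (nat_lit 6079) Step.done)))))))))))))))))))) (Scr.cons (nat_lit 1) (nat_lit 0) (Step.B (nat_lit 8704) (Step.F (nat_lit 8696) (Step.L Step.done))) (Scr.cons (nat_lit 0) (nat_lit 1) (Step.B (nat_lit 8703) (Step.B (nat_lit 8705) (Step.L Step.done))) (Scr.cons (nat_lit 1) (nat_lit 1) (Step.B (nat_lit 8700) (Step.B (nat_lit 8706) (Step.D (nat_lit 2978) Step.done))) (Scr.cons (nat_lit 1) (nat_lit 1) (Step.D (nat_lit 3320) (Step.B (nat_lit 8707) (Step.D (nat_lit 5364) Step.done))) (Scr.cons (nat_lit 1) (nat_lit 1) (Step.B (nat_lit 8699) (Step.F (nat_lit 8708) (Step.U (nat_lit 1668) Step.done))) (Scr.cons (nat_lit 1) (nat_lit 0) (Step.D (nat_lit 2979) (Step.B (nat_lit 8709) Step.done)) (Scr.cons (nat_lit 14) (nat_lit 5) (Step.U (nat_lit 9032) (Step.L (Step.L (Step.L (Step.L (Step.L (Step.L (Step.L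 (Step.D (nat_lit 254) (Step.B (nat_lit 8698) (Step.F (nat_lit 8710) (Step.U (nat_lit 1472) (Step.L (Step.L (Step.L (Step.L (Step.L (Step.L (Step.L (Step.L (Step.D (nat_lit 11291) Step.done))))))))))))))))))))) (Scr.cons (nat_lit 11) (nat_lit 0) (Step.U (nat_lit 9032) (Step.L (Step.L (Step.L (Step.D (nat_lit 11594) Step.done))))) (Scr.cons (nat_lit 1) (nat_lit 0) (Step.D (nat_lit 11291) (Step.F (nat_lit 8711) (Step.B (nat_lit 8712) Step.done))) (Scr.cons (nat_lit 1) (nat_lit 0) (Step.D (nat_lit 11594) (Step.F (nat_lit 8713) (Step.D (nat_lit 11292) Step.done))) (Scr.cons (nat_lit 1) (nat_lit 0) (Step.D (nat_lit 11292) (Step.F (nat_lit 8714) Step.done)) (Scr.cons (nat_lit 11) (nat_lit 0) (Step.L (Step.L (Step.L (Step.L (Step.D (nat_lit 9230) Step.done))))) (Scr.cons (nat_lit 12) (nat_lit 1) (Step.L (Step.L (Step.L (Step.L (Step.D (nat_lit 9232) Step.done))))) (Scr.cons (nat_lit 12) (nat_lit 1) (Step.F (nat_lit 8716) (Step.D (nat_lit 9232) (Step.F (nat_lit 8717) (Step.B (nat_lit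 8716) (Step.D (nat_lit 11653) Step.done))))) (Scr.cons (nat_lit 4) (nat_lit 0) (Step.U (nat_lit 8420) (Step.L (Step.L (Step.D (nat_lit 8418) (Step.D (nat_lit 11290) Step.done))))) (Scr.cons (nat_lit 1) (nat_lit 1) (Step.F (nat_lit 8719) (Step.B (nat_lit 8695) (Step.D (nat_lit 6078) Step.done))) (Scr.cons (nat_lit 1) (nat_lit 1) (Step.D (nat_lit 11290) (Step.B (nat_lit 8720) (Step.D (nat_lit 9233) Step.done))) (Scr.cons (nat_lit 1) (nat_lit 1) (Step.D (nat_lit 9233) (Step.F (nat_lit 8721) Step.done)) Scr.nil))))))))))))))))))))))))))))))))))))))))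
noncomputable def s218 : Scr := (Scr.cons (nat_lit 9) (nat_lit 4) (Step.L (Step.L (Step.L (Step.L (Step.L (Step.L (Step.L (Step.L (Step.L (Step.L (Step.L (Step.L (Step.L (Step.L (Step.D (nat_lit 8418) (Step.F (nat_lit 8722) (Step.U (nat_lit 6078) (Step.L (Step.L (Step.L (Step.L (Step.L (Step.B (nat_lit 8716) (Step.B (nat_lit 8718) Step.done)))))))))))))))))))))))) (Scr.cons (nat_lit 0) (nat_lit 1) (Step.B (nat_lit 8718) (Step.F (nat_lit 8723) (Step.L Step.done))) (Scr.cons (nat_lit 1) (nat_lit 1) (Step.B (nat_lit 8716) (Step.B (nat_lit 8724) (Step.D (nat_lit 6511) Step.done))) (Scr.cons (nat_lit 1) (nat_lit 1) (Step.D (nat_lit 6511) (Step.F (nat_lit 8725) Step.done)) (Scr.cons (nat_lit 11) (nat_lit 0) (Step.U (nat_lit 9020) (Step.L (Step.L (Step.D (nat_lit 9019) (Step.D (nat_lit 11588) Step.done))))) (Scr.cons (nat_lit 9) (nat_lit 3) (Step.L (Step.L (Step.L (Step.L (Step.L (Step.L (Step.L (Step.L (Step.L (Step.L (Step.L (Step.L (Step.L (Step.L (Step.L (Step.L (Step.L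 (Step.L (Step.L (Step.L (Step.L (Step.L (Step.D (nat_lit 9020) (Step.B (nat_lit 8727) Step.done)))))))))))))))))))))))) (Scr.cons (nat_lit 1) (nat_lit 0) (Step.D (nat_lit 11588) (Step.F (nat_lit 8728) (Step.L Step.done))) (Scr.cons (nat_lit 1) (nat_lit 0) (Step.D (nat_lit 9019) (Step.B (nat_lit 8729) (Step.D (nat_lit 6725) Step.done))) (Scr.cons (nat_lit 1) (nat_lit 0) (Step.D (nat_lit 6725) (Step.F (nat_lit 8730) Step.done)) (Scr.cons (nat_lit 11) (nat_lit 0) (Step.L (Step.L (Step.L (Step.L (Step.D (nat_lit 11648) Step.done))))) (Scr.cons (nat_lit 12) (nat_lit 1) (Step.U (nat_lit 285) (Step.L (Step.L (Step.D (nat_lit 285) (Step.D (nat_lit 785) Step.done))))) (Scr.cons (nat_lit 11) (nat_lit 0) (Step.U (nat_lit 3461) (Step.U (nat_lit 1764) (Step.D (nat_lit 1763) (Step.D (nat_lit 3460) (Step.D (nat_lit 6076) Step.done))))) (Scr.cons (nat_lit 14) (nat_lit 3) (Step.F (nat_lit 8734) (Step.U (nat_lit 3461) (Step.U (nat_lit 1764) (Step.U (nat_lit 785) (Step.U (nat_lit 285) (Step.L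 (Step.L (Step.L (Step.L (Step.L (Step.L (Step.L (Step.L (Step.L (Step.L (Step.L (Step.L (Step.L (Step.L (Step.D (nat_lit 9019) Step.done)))))))))))))))))))) (Scr.cons (nat_lit 0) (nat_lit 1) (Step.B (nat_lit 8735) (Step.B (nat_lit 8729) (Step.L Step.done))) (Scr.cons (nat_lit 1) (nat_lit 1) (Step.B (nat_lit 8734) (Step.B (nat_lit 8736) (Step.L Step.done))) (Scr.cons (nat_lit 1) (nat_lit 1) (Step.D (nat_lit 3461) (Step.B (nat_lit 8737) (Step.D (nat_lit 2036) Step.done))) (Scr.cons (nat_lit 1) (nat_lit 1) (Step.D (nat_lit 2036) (Step.F (nat_lit 8738) Step.done)) (Scr.cons (nat_lit 7) (nat_lit 0) (Step.U (nat_lit 11648) (Step.L (Step.L (Step.L (Step.L (Step.L (Step.L (Step.L (Step.L (Step.D (nat_lit 285) (Step.B (nat_lit 8733) (Step.D (nat_lit 1764) (Step.F (nat_lit 8739) (Step.L (Step.L (Step.L (Step.L (Step.L (Step.L (Step.L (Step.L Step.done))))))))))))))))))))) (Scr.cons (nat_lit 1) (nat_lit 0) (Step.B (nat_lit 8732) (Step.B (nat_lit 8740) Step.done)) (Scr.cons (nat_lit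 12) (nat_lit 4) (Step.U (nat_lit 2054) (Step.L (Step.L (Step.D (nat_lit 2054) (Step.D (nat_lit 3945) Step.done))))) (Scr.cons (nat_lit 6) (nat_lit 1) (Step.U (nat_lit 6765) (Step.F (nat_lit 8742) (Step.U (nat_lit 2054) (Step.L (Step.L (Step.L (Step.L (Step.L (Step.L (Step.L (Step.D (nat_lit 9897) Step.done))))))))))) (Scr.cons (nat_lit 16) (nat_lit 3) (Step.U (nat_lit 6230) (Step.L (Step.L (Step.L (Step.L (Step.L (Step.L (Step.L (Step.L (Step.L (Step.L (Step.L (Step.L (Step.L (Step.L (Step.L (Step.L (Step.L (Step.D (nat_lit 816) (Step.D (nat_lit 1814) (Step.D (nat_lit 3540) (Step.D (nat_lit 6197) (Step.D (nat_lit 9372) Step.done))))))))))))))))))))))) (Scr.cons (nat_lit 11) (nat_lit 0) (Step.F (nat_lit 8744) (Step.U (nat_lit 6230) (Step.L (Step.L (Step.D (nat_lit 6229) Step.done))))) (Scr.cons (nat_lit 11) (nat_lit 0) (Step.L (Step.L (Step.D (nat_lit 579) (Step.D (nat_lit 1400) (Step.D (nat_lit 2847) Step.done))))) (Scr.cons (nat_lit 12) (nat_lit 1) (Step.F (nat_lit 8746)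 (Step.L (Step.L (Step.B (nat_lit 8746) (Step.D (nat_lit 5146) Step.done))))) (Scr.cons (nat_lit 11) (nat_lit 0) (Step.U (nat_lit 817) (Step.U (nat_lit 300) (Step.L (Step.D (nat_lit 816) (Step.D (nat_lit 1814) Step.done))))) (Scr.cons (nat_lit 6) (nat_lit 1) (Step.U (nat_lit 300) (Step.L (Step.L (Step.L (Step.L (Step.L (Step.L (Step.L (Step.L (Step.L (Step.D (nat_lit 814) Step.done))))))))))) (Scr.cons (nat_lit 13) (nat_lit 2) (Step.U (nat_lit 300) (Step.L (Step.L (Step.L (Step.L (Step.L (Step.L (Step.L (Step.L (Step.L (Step.D (nat_lit 814) Step.done))))))))))) (Scr.cons (nat_lit 12) (nat_lit 1) (Step.U (nat_lit 817) (Step.B (nat_lit 8749) (Step.F (nat_lit 8750) (Step.D (nat_lit 817) (Step.D (nat_lit 1815) Step.done))))) (Scr.cons (nat_lit 12) (nat_lit 1) (Step.F (nat_lit 8748) (Step.D (nat_lit 1815) (Step.F (nat_lit 8751) (Step.B (nat_lit 8748) (Step.D (nat_lit 3540) Step.done))))) (Scr.cons (nat_lit 7) (nat_lit 5) (Step.F (nat_lit 8747) (Step.U (nat_lit 2847) (Step.U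 (nat_lit 1400) (Step.U (nat_lit 579) (Step.L (Step.L (Step.L (Step.L (Step.L (Step.L (Step.L (Step.L (Step.L (Step.L (Step.L (Step.D (nat_lit 300) (Step.D (nat_lit 817) (Step.B (nat_lit 8748) (Step.B (nat_lit 8752) (Step.D (nat_lit 6198) Step.done)))))))))))))))))))) (Scr.cons (nat_lit 11) (nat_lit 0) (Step.U (nat_lit 8164) (Step.B (nat_lit 8753) (Step.U (nat_lit 6198) (Step.D (nat_lit 6197) (Step.D (nat_lit 9373) Step.done))))) (Scr.cons (nat_lit 14) (nat_lit 4) (Step.U (nat_lit 8864) (Step.L (Step.L (Step.L (Step.L (Step.L (Step.L (Step.L (Step.L (Step.L (Step.L (Step.L (Step.L (Step.L (Step.D (nat_lit 6229) (Step.F (nat_lit 8745) (Step.U (nat_lit 9372) (Step.D (nat_lit 9373) (Step.F (nat_lit 8754) (Step.D (nat_lit 11132) Step.done)))))))))))))))))))) (Scr.cons (nat_lit 11) (nat_lit 0) (Step.F (nat_lit 8755) (Step.U (nat_lit 8864) (Step.L (Step.L (Step.D (nat_lit 8863) Step.done))))) (Scr.cons (nat_lit 12) (nat_lit 1) (Step.U (nat_lit 8164) (Step.F (nat_lit 8747) (Step.D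 (nat_lit 5146) (Step.D (nat_lit 8164) (Step.D (nat_lit 11132) Step.done))))) (Scr.cons (nat_lit 12) (nat_lit 1) (Step.F (nat_lit 8756) (Step.F (nat_lit 8757) (Step.D (nat_lit 11132) (Step.B (nat_lit 8756) (Step.D (nat_lit 11517) Step.done))))) (Scr.cons (nat_lit 14) (nat_lit 4) (Step.U (nat_lit 9625) (Step.U (nat_lit 6480) (Step.U (nat_lit 3737) (Step.L (Step.L (Step.L (Step.L (Step.L (Step.L (Step.L (Step.L (Step.L (Step.L (Step.L (Step.L (Step.L (Step.L (Step.L (Step.D (nat_lit 8863) (Step.D (nat_lit 11517) Step.done)))))))))))))))))))) (Scr.cons (nat_lit 11) (nat_lit 0) (Step.F (nat_lit 8759) (Step.U (nat_lit 9625) (Step.U (nat_lit 6480) (Step.D (nat_lit 6479) (Step.D (nat_lit 9624) Step.done))))) (Scr.cons (nat_lit 12) (nat_lit 1) (Step.U (nat_lit 2055) (Step.L (Step.L (Step.D (nat_lit 2055) (Step.D (nat_lit 3947) Step.done))))) (Scr.cons (nat_lit 12) (nat_lit 1) (Step.U (nat_lit 3948) (Step.D (nat_lit 3947) (Step.F (nat_lit 8761) (Step.D (nat_lit 3948) (Step.D (nat_lit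 6767) Step.done))))) Scr.nil))))))))))))))))))))))))))))))))))))))))
noncomputable def s219 : Scr := (Scr.cons (nat_lit 12) (nat_lit 4) (Step.U (nat_lit 887) (Step.L (Step.L (Step.D (nat_lit 887) (Step.D (nat_lit 1924) Step.done))))) (Scr.cons (nat_lit 6) (nat_lit 1) (Step.U (nat_lit 3735) (Step.F (nat_lit 8763) (Step.U (nat_lit 887) (Step.L (Step.L (Step.L (Step.L (Step.L (Step.L (Step.D (nat_lit 3589) (Step.D (nat_lit 6284) Step.done))))))))))) (Scr.cons (nat_lit 12) (nat_lit 4) (Step.L (Step.L (Step.L (Step.L (Step.D (nat_lit 3589) Step.done))))) (Scr.cons (nat_lit 13) (nat_lit 2) (Step.U (nat_lit 3735) (Step.U (nat_lit 1924) (Step.U (nat_lit 887) (Step.L (Step.L (Step.L (Step.L (Step.L (Step.L (Step.B (nat_lit 8765) (Step.D (nat_lit 6284) Step.done))))))))))) (Scr.cons (nat_lit 12) (nat_lit 1) (Step.U (nat_lit 6478) (Step.B (nat_lit 8764) (Step.F (nat_lit 8766) (Step.D (nat_lit 6478) (Step.D (nat_lit 9623) Step.done))))) (Scr.cons (nat_lit 12) (nat_lit 1) (Step.U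 (nat_lit 286) (Step.L (Step.L (Step.D (nat_lit 286) (Step.D (nat_lit 786) Step.done))))) (Scr.cons (nat_lit 12) (nat_lit 1) (Step.U (nat_lit 787) (Step.D (nat_lit 786) (Step.F (nat_lit 8768) (Step.D (nat_lit 787) (Step.D (nat_lit 1767) Step.done))))) (Scr.cons (nat_lit 12) (nat_lit 4) (Step.U (nat_lit 3467) (Step.F (nat_lit 8769) (Step.D (nat_lit 1767) (Step.D (nat_lit 3467) (Step.D (nat_lit 6088) Step.done))))) (Scr.cons (nat_lit 12) (nat_lit 4) (Step.U (nat_lit 6089) (Step.D (nat_lit 6088) (Step.F (nat_lit 8770) (Step.D (nat_lit 6089) (Step.D (nat_lit 9244) Step.done))))) (Scr.cons (nat_lit 13) (nat_lit 2) (Step.L (Step.L (Step.L (Step.L (Step.L (Step.L (Step.L (Step.L (Step.L (Step.L (Step.D (nat_lit 870) Step.done))))))))))) (Scr.cons (nat_lit 6) (nat_lit 1) (Step.L (Step.L (Step.L (Step.L (Step.L (Step.L (Step.L (Step.L (Step.L (Step.L (Step.D (nat_lit 870) Step.done))))))))))) (Scr.cons (nat_lit 12) (nat_lit 1) (Step.U (nat_lit 1885) (Step.F (nat_lit 8772) (Step.B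 (nat_lit 8773) (Step.D (nat_lit 1885) (Step.D (nat_lit 3655) Step.done))))) (Scr.cons (nat_lit 12) (nat_lit 1) (Step.U (nat_lit 6363) (Step.F (nat_lit 8774) (Step.D (nat_lit 3655) (Step.D (nat_lit 6363) (Step.D (nat_lit 9516) Step.done))))) (Scr.cons (nat_lit 4) (nat_lit 0) (Step.U (nat_lit 6945) (Step.U (nat_lit 4082) (Step.B (nat_lit 8632) (Step.D (nat_lit 6926) (Step.D (nat_lit 10062) Step.done))))) (Scr.cons (nat_lit 12) (nat_lit 1) (Step.L (Step.L (Step.L (Step.L (Step.D (nat_lit 3647) Step.done))))) (Scr.cons (nat_lit 12) (nat_lit 1) (Step.U (nat_lit 6356) (Step.F (nat_lit 8777) (Step.D (nat_lit 3647) (Step.D (nat_lit 6356) (Step.D (nat_lit 9511) Step.done))))) (Scr.cons (nat_lit 15) (nat_lit 1) (Step.F (nat_lit 8778) (Step.U (nat_lit 6356) (Step.F (nat_lit 8777) (Step.L (Step.L (Step.L (Step.L (Step.L (Step.L (Step.L (Step.L (Step.L (Step.L (Step.L (Step.L Step.done))))))))))))))) (Scr.cons (nat_lit 12) (nat_lit 4) (Step.U (nat_lit 1884) (Step.L (Step.L (Step.D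 (nat_lit 1884) (Step.D (nat_lit 3653) Step.done))))) (Scr.cons (nat_lit 11) (nat_lit 0) (Step.U (nat_lit 1885) (Step.U (nat_lit 870) (Step.L (Step.D (nat_lit 1884) (Step.D (nat_lit 3654) Step.done))))) (Scr.cons (nat_lit 16) (nat_lit 1) (Step.F (nat_lit 8780) (Step.D (nat_lit 3654) (Step.F (nat_lit 8781) (Step.U (nat_lit 1885) (Step.F (nat_lit 8772) (Step.L (Step.L (Step.L (Step.L (Step.L (Step.L (Step.L (Step.L (Step.L (Step.L (Step.L (Step.L (Step.L (Step.L (Step.L (Step.L (Step.L (Step.L Step.done))))))))))))))))))))))) (Scr.cons (nat_lit 6) (nat_lit 0) (Step.U (nat_lit 5083) (Step.U (nat_lit 2802) (Step.F (nat_lit 4383) (Step.L (Step.L (Step.F (nat_lit 8782) (Step.F (nat_lit 8780) (Step.U (nat_lit 1884) (Step.L (Step.L (Step.L Step.done))))))))))) (Scr.cons (nat_lit 1) (nat_lit 1) (Step.D (nat_lit 8096) (Step.B (nat_lit 4472) (Step.D (nat_lit 10074) Step.done))) (Scr.cons (nat_lit 1) (nat_lit 1) (Step.D (nat_lit 10074) (Step.F (nat_lit 8784) Step.done)) (Scr.cons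 (nat_lit 4) (nat_lit 0) (Step.B (nat_lit 8779) (Step.F (nat_lit 8783) (Step.F (nat_lit 8785) (Step.U (nat_lit 6943) (Step.L (Step.D (nat_lit 10076) Step.done)))))) (Scr.cons (nat_lit 1) (nat_lit 0) (Step.D (nat_lit 10076) (Step.F (nat_lit 8786) Step.done)) (Scr.cons (nat_lit 1) (nat_lit 0) (Step.B (nat_lit 110) (Step.F (nat_lit 2863) Step.done)) (Scr.cons (nat_lit 1) (nat_lit 1) (Step.D (nat_lit 383) (Step.B (nat_lit 2862) (Step.D (nat_lit 952) Step.done))) (Scr.cons (nat_lit 1) (nat_lit 1) (Step.D (nat_lit 952) (Step.F (nat_lit 8789) Step.done)) (Scr.cons (nat_lit 16) (nat_lit 0) (Step.F (nat_lit 8775) (Step.U (nat_lit 6363) (Step.F (nat_lit 8774) (Step.U (nat_lit 1885) (Step.U (nat_lit 870) (Step.L (Step.L (Step.L (Step.L (Step.F (nat_lit 8779) (Step.F (nat_lit 8787) (Step.L (Step.L (Step.L (Step.L (Step.L (Step.F (nat_lit 8788) (Step.B (nat_lit 8790) (Step.D (nat_lit 382) (Step.D (nat_lit 1003) (Step.D (nat_lit 2142) (Step.D (nat_lit 4082) (Step.D (nat_lit 6945) (Step.B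 (nat_lit 8776) Step.done)))))))))))))))))))))))) (Scr.cons (nat_lit 1) (nat_lit 1) (Step.B (nat_lit 8776) (Step.F (nat_lit 8791) Step.done)) (Scr.cons (nat_lit 12) (nat_lit 4) (Step.U (nat_lit 4082) (Step.F (nat_lit 8633) (Step.D (nat_lit 2142) (Step.D (nat_lit 4082) (Step.D (nat_lit 6944) Step.done))))) (Scr.cons (nat_lit 12) (nat_lit 4) (Step.U (nat_lit 6945) (Step.D (nat_lit 6944) (Step.F (nat_lit 8793) (Step.D (nat_lit 6945) (Step.D (nat_lit 10077) Step.done))))) (Scr.cons (nat_lit 8) (nat_lit 0) (Step.U (nat_lit 9553) (Step.U (nat_lit 6410) (Step.U (nat_lit 3686) (Step.U (nat_lit 1901) (Step.U (nat_lit 879) (Step.L (Step.L (Step.L (Step.L (Step.B (nat_lit 8772) (Step.D (nat_lit 1885) (Step.B (nat_lit 8774) (Step.D (nat_lit 6363) (Step.B (nat_lit 8775) (Step.F (nat_lit 8792) (Step.B (nat_lit 8794) Step.done)))))))))))))))) (Scr.cons (nat_lit 0) (nat_lit 1) (Step.D (nat_lit 10077) (Step.F (nat_lit 8795) Step.done)) (Scr.cons (nat_lit 12) (nat_lit 1) (Step.U (nat_lit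 3468) (Step.F (nat_lit 8769) (Step.D (nat_lit 1767) (Step.D (nat_lit 3468) (Step.D (nat_lit 6090) Step.done))))) (Scr.cons (nat_lit 12) (nat_lit 1) (Step.U (nat_lit 6091) (Step.D (nat_lit 6090) (Step.F (nat_lit 8797) (Step.D (nat_lit 6091) (Step.D (nat_lit 9247) Step.done))))) (Scr.cons (nat_lit 12) (nat_lit 1) (Step.U (nat_lit 2230) (Step.F (nat_lit 3260) (Step.D (nat_lit 1053) (Step.D (nat_lit 2230) (Step.D (nat_lit 4208) Step.done))))) (Scr.cons (nat_lit 16) (nat_lit 4) (Step.U (nat_lit 7088) (Step.F (nat_lit 8799) (Step.U (nat_lit 2230) (Step.F (nat_lit 3260) (Step.L (Step.L (Step.L (Step.L (Step.L (Step.L (Step.L (Step.L (Step.L (Step.L (Step.L (Step.L (Step.L (Step.D (nat_lit 1908) (Step.B (nat_lit 153) (Step.D (nat_lit 4257) (Step.F (nat_lit 3673) (Step.D (nat_lit 4288) (Step.D (nat_lit 7190) Step.done))))))))))))))))))))))) (Scr.cons (nat_lit 4) (nat_lit 0) (Step.U (nat_lit 7087) (Step.D (nat_lit 7088) (Step.B (nat_lit 8800) (Step.U (nat_lit 7190) (Step.F (nat_lit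 3674) (Step.D (nat_lit 6949) Step.done)))))) (Scr.cons (nat_lit 1) (nat_lit 1) (Step.D (nat_lit 7087) (Step.B (nat_lit 8801) Step.done)) Scr.nil))))))))))))))))))))))))))))))))))))))))
noncomputable def s220 : Scr := (Scr.cons (nat_lit 12) (nat_lit 4) (Step.L (Step.L (Step.L (Step.L (Step.D (nat_lit 813) Step.done))))) (Scr.cons (nat_lit 14) (nat_lit 4) (Step.U (nat_lit 787) (Step.U (nat_lit 286) (Step.L (Step.L (Step.L (Step.L (Step.L (Step.L (Step.L (Step.L (Step.L (Step.L (Step.L (Step.L (Step.L (Step.L (Step.L (Step.L (Step.L (Step.D (nat_lit 813) Step.done)))))))))))))))))))) (Scr.cons (nat_lit 6) (nat_lit 3) (Step.F (nat_lit 8802) (Step.U (nat_lit 4208) (Step.U (nat_lit 2230) (Step.F (nat_lit 3260) (Step.L (Step.B (nat_lit 8803) (Step.F (nat_lit 8804) (Step.D (nat_lit 1767) (Step.D (nat_lit 3468) (Step.B (nat_lit 8797) (Step.D (nat_lit 9246) Step.done))))))))))) (Scr.cons (nat_lit 12) (nat_lit 1) (Step.U (nat_lit 2147) (Step.F (nat_lit 2798) (Step.D (nat_lit 1005)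 (Step.D (nat_lit 2147) (Step.D (nat_lit 4088) Step.done))))) (Scr.cons (nat_lit 15) (nat_lit 1) (Step.F (nat_lit 8798) (Step.U (nat_lit 6091) (Step.D (nat_lit 6090) (Step.D (nat_lit 9246) (Step.F (nat_lit 8805) (Step.U (nat_lit 6949) (Step.F (nat_lit 8806) (Step.U (nat_lit 2147) (Step.F (nat_lit 2798) (Step.U (nat_lit 383) (Step.D (nat_lit 382) (Step.D (nat_lit 1003) (Step.D (nat_lit 2142) (Step.D (nat_lit 4082) (Step.D (nat_lit 6944) Step.done))))))))))))))) (Scr.cons (nat_lit 11) (nat_lit 0) (Step.U (nat_lit 6091) (Step.U (nat_lit 3468) (Step.D (nat_lit 3467) (Step.D (nat_lit 6089) (Step.D (nat_lit 9245) Step.done))))) (Scr.cons (nat_lit 13) (nat_lit 3) (Step.U (nat_lit 9554) (Step.U (nat_lit 6411) (Step.D (nat_lit 6410) (Step.D (nat_lit 9553) (Step.F (nat_lit 8796) (Step.U (nat_lit 6945) (Step.D (nat_lit 6944) (Step.F (nat_lit 8807) (Step.U (nat_lit 9247) (Step.B (nat_lit 8808) (Step.D (nat_lit 11659) Step.done))))))))))) (Scr.cons (nat_lit 12) (nat_lit 1) (Step.F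 (nat_lit 2293) (Step.F (nat_lit 473) (Step.D (nat_lit 3732) (Step.B (nat_lit 2293) (Step.D (nat_lit 9554) Step.done))))) (Scr.cons (nat_lit 15) (nat_lit 0) (Step.F (nat_lit 8771) (Step.D (nat_lit 9245) (Step.D (nat_lit 11659) (Step.F (nat_lit 8809) (Step.F (nat_lit 8810) (Step.F (nat_lit 2293) (Step.F (nat_lit 473) (Step.U (nat_lit 1923) (Step.L (Step.L (Step.L (Step.D (nat_lit 887) (Step.D (nat_lit 1924) (Step.D (nat_lit 3734) (Step.D (nat_lit 6477) (Step.D (nat_lit 9622) Step.done)))))))))))))))) (Scr.cons (nat_lit 1) (nat_lit 0) (Step.D (nat_lit 9622) (Step.F (nat_lit 8811) (Step.D (nat_lit 11658) Step.done))) (Scr.cons (nat_lit 1) (nat_lit 0) (Step.D (nat_lit 11658) (Step.F (nat_lit 8812) Step.done)) (Scr.cons (nat_lit 13) (nat_lit 0) (Step.F (nat_lit 8802) (Step.F (nat_lit 8799) (Step.U (nat_lit 2230) (Step.U (nat_lit 1053) (Step.L (Step.D (nat_lit 813) (Step.F (nat_lit 8804) (Step.B (nat_lit 8769) (Step.D (nat_lit 3468) (Step.D (nat_lit 6090) (Step.D (nat_lit 9246)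 Step.done))))))))))) (Scr.cons (nat_lit 1) (nat_lit 0) (Step.U (nat_lit 6949) (Step.B (nat_lit 3679) (Step.D (nat_lit 1919) Step.done))) (Scr.cons (nat_lit 0) (nat_lit 1) (Step.F (nat_lit 8814) (Step.B (nat_lit 8815) (Step.D (nat_lit 3724) Step.done))) (Scr.cons (nat_lit 1) (nat_lit 0) (Step.D (nat_lit 9246) (Step.B (nat_lit 8816) (Step.D (nat_lit 6463) Step.done))) (Scr.cons (nat_lit 1) (nat_lit 0) (Step.D (nat_lit 6463) (Step.F (nat_lit 8817) Step.done)) (Scr.cons (nat_lit 12) (nat_lit 1) (Step.U (nat_lit 1919) (Step.F (nat_lit 1823) (Step.D (nat_lit 885) (Step.D (nat_lit 1919) (Step.D (nat_lit 3724) Step.done))))) (Scr.cons (nat_lit 16) (nat_lit 5) (Step.F (nat_lit 1057) (Step.L (Step.L (Step.L (Step.L (Step.L (Step.L (Step.L (Step.L (Step.L (Step.L (Step.L (Step.L (Step.L (Step.L (Step.L (Step.L (Step.D (nat_lit 246) (Step.D (nat_lit 691) (Step.D (nat_lit 1625) (Step.D (nat_lit 3232) (Step.D (nat_lit 5734) (Step.D (nat_lit 8847) Step.done))))))))))))))))))))))) (Scr.cons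 (nat_lit 1) (nat_lit 0) (Step.B (nat_lit 8820) (Step.F (nat_lit 3702) Step.done)) (Scr.cons (nat_lit 16) (nat_lit 2) (Step.F (nat_lit 8767) (Step.U (nat_lit 6478) (Step.U (nat_lit 3735) (Step.D (nat_lit 3734) (Step.D (nat_lit 6477) (Step.F (nat_lit 8813) (Step.F (nat_lit 8771) (Step.D (nat_lit 9245) (Step.F (nat_lit 8808) (Step.U (nat_lit 6091) (Step.D (nat_lit 6090) (Step.F (nat_lit 8818) (Step.F (nat_lit 8819) (Step.U (nat_lit 1919) (Step.D (nat_lit 1918) (Step.D (nat_lit 3723) (Step.D (nat_lit 6461) (Step.F (nat_lit 8821) (Step.F (nat_lit 1057) (Step.L (Step.D (nat_lit 3362) (Step.D (nat_lit 5951) (Step.D (nat_lit 9113) (Step.D (nat_lit 11624) Step.done)))))))))))))))))))))))) (Scr.cons (nat_lit 1) (nat_lit 1) (Step.D (nat_lit 11624) (Step.F (nat_lit 8822) Step.done)) (Scr.cons (nat_lit 12) (nat_lit 4) (Step.U (nat_lit 3362) (Step.L (Step.L (Step.D (nat_lit 3362) (Step.D (nat_lit 5950) Step.done))))) (Scr.cons (nat_lit 12) (nat_lit 4) (Step.U (nat_lit 5951) (Step.D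 (nat_lit 5950) (Step.F (nat_lit 8824) (Step.D (nat_lit 5951) (Step.D (nat_lit 9113) Step.done))))) (Scr.cons (nat_lit 11) (nat_lit 0) (Step.L (Step.L (Step.D (nat_lit 3362) (Step.D (nat_lit 5951) (Step.D (nat_lit 9114) Step.done))))) (Scr.cons (nat_lit 4) (nat_lit 0) (Step.B (nat_lit 8820) (Step.U (nat_lit 8847) (Step.U (nat_lit 5734) (Step.D (nat_lit 5735) (Step.D (nat_lit 8849) Step.done))))) (Scr.cons (nat_lit 12) (nat_lit 1) (Step.U (nat_lit 3954) (Step.D (nat_lit 3953) (Step.F (nat_lit 3550) (Step.D (nat_lit 3954) (Step.D (nat_lit 6777) Step.done))))) (Scr.cons (nat_lit 0) (nat_lit 0) (Step.B (nat_lit 8828) (Step.F (nat_lit 3699) Step.done)) (Scr.cons (nat_lit 14) (nat_lit 3) (Step.F (nat_lit 8825) (Step.D (nat_lit 9114) (Step.F (nat_lit 8826) (Step.L (Step.B (nat_lit 1057) (Step.B (nat_lit 8827) (Step.U (nat_lit 8849) (Step.F (nat_lit 8829) (Step.U (nat_lit 3954) (Step.U (nat_lit 2057) (Step.L (Step.L (Step.L (Step.L (Step.L (Step.L (Step.L (Step.L (Step.B (nat_lit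 5893) (Step.D (nat_lit 6761) (Step.D (nat_lit 9929) Step.done))))))))))))))))))))) (Scr.cons (nat_lit 1) (nat_lit 1) (Step.D (nat_lit 9929) (Step.F (nat_lit 8830) Step.done)) (Scr.cons (nat_lit 7) (nat_lit 1) (Step.U (nat_lit 3736) (Step.U (nat_lit 1925) (Step.B (nat_lit 8763) (Step.D (nat_lit 3735) (Step.D (nat_lit 6478) (Step.D (nat_lit 9623) (Step.F (nat_lit 8823) (Step.F (nat_lit 8831) (Step.U (nat_lit 6761) (Step.U (nat_lit 3943) (Step.L (Step.L (Step.L (Step.L (Step.L (Step.L (Step.L (Step.D (nat_lit 2055) (Step.D (nat_lit 3948) (Step.D (nat_lit 6767) (Step.D (nat_lit 9933) Step.done))))))))))))))))))))) (Scr.cons (nat_lit 11) (nat_lit 0) (Step.L (Step.L (Step.D (nat_lit 887) (Step.D (nat_lit 1925) (Step.D (nat_lit 3736) Step.done))))) (Scr.cons (nat_lit 1) (nat_lit 1) (Step.D (nat_lit 9933) (Step.F (nat_lit 8832) (Step.F (nat_lit 8833) Step.done))) (Scr.cons (nat_lit 0) (nat_lit 1) (Step.B (nat_lit 8762) (Step.B (nat_lit 8834) (Step.D (nat_lit 3737) Step.done)))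 (Scr.cons (nat_lit 1) (nat_lit 1) (Step.D (nat_lit 3948) (Step.B (nat_lit 8835) (Step.D (nat_lit 6479) Step.done))) (Scr.cons (nat_lit 1) (nat_lit 1) (Step.U (nat_lit 9624) (Step.F (nat_lit 8836) (Step.U (nat_lit 2055) Step.done))) (Scr.cons (nat_lit 1) (nat_lit 1) (Step.B (nat_lit 8760) (Step.B (nat_lit 8837) (Step.D (nat_lit 2054) Step.done))) (Scr.cons (nat_lit 0) (nat_lit 1) (Step.B (nat_lit 8758) (Step.B (nat_lit 8838) (Step.D (nat_lit 3945) Step.done))) (Scr.cons (nat_lit 1) (nat_lit 0) (Step.D (nat_lit 8863) (Step.B (nat_lit 8839) (Step.D (nat_lit 6765) Step.done))) (Scr.cons (nat_lit 0) (nat_lit 1) (Step.F (nat_lit 8743) (Step.F (nat_lit 8840) (Step.L Step.done))) (Scr.cons (nat_lit 1) (nat_lit 1) (Step.D (nat_lit 9897) (Step.B (nat_lit 8841) (Step.D (nat_lit 11516) Step.done))) Scr.nil))))))))))))))))))))))))))))))))))))))))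
noncomputable def s221 : Scr := (Scr.cons (nat_lit 1) (nat_lit 1) (Step.D (nat_lit 11516) (Step.F (nat_lit 8842) Step.done)) (Scr.cons (nat_lit 12) (nat_lit 4) (Step.L (Step.L (Step.L (Step.L (Step.D (nat_lit 9772) Step.done))))) (Scr.cons (nat_lit 11) (nat_lit 0) (Step.U (nat_lit 6615) (Step.L (Step.L (Step.L (Step.D (nat_lit 9773) Step.done))))) (Scr.cons (nat_lit 12) (nat_lit 1) (Step.L (Step.L (Step.L (Step.L (Step.D (nat_lit 6614) Step.done))))) (Scr.cons (nat_lit 12) (nat_lit 1) (Step.U (nat_lit 3242) (Step.L (Step.L (Step.D (nat_lit 3242) (Step.D (nat_lit 5748) Step.done))))) (Scr.cons (nat_lit 12) (nat_lit 1) (Step.U (nat_lit 8867) (Step.F (nat_lit 8847) (Step.D (nat_lit 5748) (Step.D (nat_lit 8867) (Step.D (nat_lit 11521) Step.done))))) (Scr.cons (nat_lit 11) (nat_lit 0) (Step.U (nat_lit 6610) (Step.L (Step.L (Step.D (nat_lit 6609) (Step.D (nat_lit 9765) Step.done))))) (Scr.cons (nat_lit 12) (nat_lit 1) (Step.U (nat_lit 3241) (Step.F (nat_lit 477) (Step.D (nat_lit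 1630) (Step.D (nat_lit 3241) (Step.D (nat_lit 5747) Step.done))))) (Scr.cons (nat_lit 12) (nat_lit 1) (Step.U (nat_lit 8862) (Step.F (nat_lit 8850) (Step.D (nat_lit 5747) (Step.D (nat_lit 8862) (Step.D (nat_lit 11515) Step.done))))) (Scr.cons (nat_lit 8) (nat_lit 0) (Step.L (Step.L (Step.L (Step.L (Step.L (Step.L (Step.L (Step.L (Step.L (Step.B (nat_lit 475) (Step.D (nat_lit 693) (Step.B (nat_lit 477) (Step.D (nat_lit 3241) (Step.B (nat_lit 8850) (Step.D (nat_lit 8862) (Step.B (nat_lit 8851) Step.done)))))))))))))))) (Scr.cons (nat_lit 0) (nat_lit 1) (Step.B (nat_lit 8851) (Step.F (nat_lit 8852) (Step.D (nat_lit 9898) Step.done))) (Scr.cons (nat_lit 0) (nat_lit 1) (Step.D (nat_lit 9898) (Step.F (nat_lit 8853) Step.done)) (Scr.cons (nat_lit 9) (nat_lit 3) (Step.U (nat_lit 11514) (Step.U (nat_lit 8861) (Step.U (nat_lit 5746) (Step.U (nat_lit 3240) (Step.D (nat_lit 3241) (Step.B (nat_lit 8850) (Step.D (nat_lit 8862) (Step.F (nat_lit 8854) (Step.L (Step.L (Step.L (Step.L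 (Step.L (Step.L (Step.L (Step.L (Step.L (Step.L (Step.L (Step.L (Step.L (Step.D (nat_lit 6610) (Step.B (nat_lit 8849) Step.done))))))))))))))))))))))) (Scr.cons (nat_lit 8) (nat_lit 0) (Step.U (nat_lit 9766) (Step.B (nat_lit 8849) (Step.F (nat_lit 8855) (Step.U (nat_lit 11514) (Step.U (nat_lit 8861) (Step.U (nat_lit 5746) (Step.F (nat_lit 476) (Step.L (Step.L (Step.L (Step.L (Step.D (nat_lit 3242) (Step.B (nat_lit 8847) (Step.D (nat_lit 8867) (Step.B (nat_lit 8848) Step.done))))))))))))))) (Scr.cons (nat_lit 12) (nat_lit 1) (Step.U (nat_lit 6610) (Step.L (Step.L (Step.D (nat_lit 6610) (Step.D (nat_lit 9766) Step.done))))) (Scr.cons (nat_lit 13) (nat_lit 0) (Step.B (nat_lit 8848) (Step.F (nat_lit 8856) (Step.F (nat_lit 8857) (Step.U (nat_lit 6610) (Step.L (Step.L (Step.L (Step.L (Step.L (Step.L (Step.D (nat_lit 6614) (Step.D (nat_lit 9774) Step.done)))))))))))) (Scr.cons (nat_lit 1) (nat_lit 0) (Step.D (nat_lit 9774) (Step.F (nat_lit 8858) (Step.D (nat_lit 11522) Step.done)))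 (Scr.cons (nat_lit 1) (nat_lit 0) (Step.D (nat_lit 11522) (Step.F (nat_lit 8859) Step.done)) (Scr.cons (nat_lit 14) (nat_lit 3) (Step.F (nat_lit 8844) (Step.D (nat_lit 9773) (Step.F (nat_lit 8845) (Step.U (nat_lit 6615) (Step.B (nat_lit 8846) (Step.F (nat_lit 8860) (Step.U (nat_lit 8867) (Step.F (nat_lit 8847) (Step.U (nat_lit 3242) (Step.L (Step.B (nat_lit 4882) (Step.F (nat_lit 4885) (Step.U (nat_lit 6514) (Step.L (Step.L (Step.L (Step.L (Step.L (Step.L (Step.L (Step.L Step.done))))))))))))))))))))) (Scr.cons (nat_lit 0) (nat_lit 0) (Step.B (nat_lit 8844) (Step.B (nat_lit 8861) Step.done)) (Scr.cons (nat_lit 1) (nat_lit 1) (Step.B (nat_lit 8756) (Step.B (nat_lit 8839) (Step.D (nat_lit 6764) Step.done))) (Scr.cons (nat_lit 1) (nat_lit 1) (Step.B (nat_lit 8755) (Step.B (nat_lit 8863) (Step.D (nat_lit 9932) Step.done))) (Scr.cons (nat_lit 1) (nat_lit 1) (Step.D (nat_lit 9932) (Step.F (nat_lit 8864) Step.done)) (Scr.cons (nat_lit 9) (nat_lit 1) (Step.L (Step.L (Step.L (Step.L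 (Step.D (nat_lit 8864) (Step.F (nat_lit 8865) (Step.U (nat_lit 6764) (Step.U (nat_lit 3945) (Step.U (nat_lit 2054) (Step.L (Step.L (Step.L (Step.L (Step.L (Step.L (Step.L (Step.L (Step.L (Step.L (Step.L (Step.L (Step.L (Step.L Step.done))))))))))))))))))))))) (Scr.cons (nat_lit 0) (nat_lit 1) (Step.B (nat_lit 8757) (Step.B (nat_lit 8863) (Step.D (nat_lit 9931) Step.done))) (Scr.cons (nat_lit 0) (nat_lit 1) (Step.D (nat_lit 9931) (Step.F (nat_lit 8867) Step.done)) (Scr.cons (nat_lit 12) (nat_lit 1) (Step.L (Step.L (Step.L (Step.L (Step.D (nat_lit 2053) Step.done))))) (Scr.cons (nat_lit 12) (nat_lit 1) (Step.U (nat_lit 3944) (Step.F (nat_lit 8869) (Step.D (nat_lit 2053) (Step.D (nat_lit 3944) (Step.D (nat_lit 6763) Step.done))))) (Scr.cons (nat_lit 16) (nat_lit 5) (Step.F (nat_lit 8870) (Step.U (nat_lit 3944) (Step.F (nat_lit 8869) (Step.L (Step.L (Step.L (Step.L (Step.L (Step.L (Step.L (Step.L (Step.L (Step.L (Step.L (Step.L (Step.L (Step.L (Step.L (Step.L (Step.L (Step.L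 (Step.L (Step.D (nat_lit 9875) Step.done))))))))))))))))))))))) (Scr.cons (nat_lit 8) (nat_lit 1) (Step.L (Step.L (Step.L (Step.B (nat_lit 8746) (Step.B (nat_lit 8747) (Step.D (nat_lit 8164) (Step.F (nat_lit 8868) (Step.U (nat_lit 6764) (Step.U (nat_lit 3945) (Step.U (nat_lit 2054) (Step.L (Step.L (Step.B (nat_lit 8869) (Step.D (nat_lit 3944) (Step.B (nat_lit 8870) (Step.B (nat_lit 8871) Step.done)))))))))))))))) (Scr.cons (nat_lit 1) (nat_lit 0) (Step.D (nat_lit 9875) (Step.F (nat_lit 8872) (Step.D (nat_lit 11134) Step.done))) (Scr.cons (nat_lit 1) (nat_lit 0) (Step.D (nat_lit 11134) (Step.F (nat_lit 8873) Step.done)) (Scr.cons (nat_lit 7) (nat_lit 0) (Step.U (nat_lit 9880) (Step.L (Step.L (Step.L (Step.L (Step.L (Step.L (Step.L (Step.L (Step.L (Step.L (Step.L (Step.L (Step.L (Step.L (Step.L (Step.L (Step.L (Step.L (Step.D (nat_lit 5774) (Step.D (nat_lit 8901) Step.done))))))))))))))))))))) (Scr.cons (nat_lit 1) (nat_lit 1) (Step.D (nat_lit 9880) (Step.B (nat_lit 8875)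 Step.done)) (Scr.cons (nat_lit 13) (nat_lit 3) (Step.U (nat_lit 6714) (Step.L (Step.L (Step.L (Step.L (Step.L (Step.L (Step.L (Step.L (Step.D (nat_lit 6711) (Step.D (nat_lit 9876) Step.done))))))))))) (Scr.cons (nat_lit 4) (nat_lit 0) (Step.B (nat_lit 8871) (Step.U (nat_lit 9875) (Step.L (Step.D (nat_lit 6711) (Step.D (nat_lit 9877) Step.done))))) (Scr.cons (nat_lit 1) (nat_lit 1) (Step.B (nat_lit 8871) (Step.F (nat_lit 8872) (Step.D (nat_lit 11133) Step.done))) (Scr.cons (nat_lit 1) (nat_lit 1) (Step.D (nat_lit 11133) (Step.F (nat_lit 8879) Step.done)) (Scr.cons (nat_lit 9) (nat_lit 1) (Step.F (nat_lit 8876) (Step.L (Step.B (nat_lit 1366) (Step.B (nat_lit 8877) (Step.U (nat_lit 9876) (Step.D (nat_lit 9877) (Step.F (nat_lit 8878) (Step.F (nat_lit 8880) (Step.L (Step.L (Step.L (Step.B (nat_lit 8746) (Step.U (nat_lit 2847) (Step.U (nat_lit 1400) (Step.B (nat_lit 4601) (Step.B (nat_lit 4605) (Step.U (nat_lit 2083) (Step.L (Step.L (Step.L (Step.L (Step.L (Step.L (Step.D (nat_lit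 9510) Step.done)))))))))))))))))))))))) (Scr.cons (nat_lit 11) (nat_lit 0) (Step.U (nat_lit 6715) (Step.L (Step.L (Step.L (Step.D (nat_lit 9880) Step.done))))) Scr.nil))))))))))))))))))))))))))))))))))))))))
noncomputable def s222 : Scr := (Scr.cons (nat_lit 1) (nat_lit 0) (Step.B (nat_lit 8882) (Step.B (nat_lit 8875) Step.done)) (Scr.cons (nat_lit 1) (nat_lit 1) (Step.D (nat_lit 9510) (Step.F (nat_lit 8881) (Step.F (nat_lit 8883) Step.done))) (Scr.cons (nat_lit 1) (nat_lit 1) (Step.D (nat_lit 6715) (Step.F (nat_lit 8884) (Step.D (nat_lit 9509) Step.done))) (Scr.cons (nat_lit 1) (nat_lit 1) (Step.D (nat_lit 9509) (Step.F (nat_lit 8885) Step.done)) (Scr.cons (nat_lit 12) (nat_lit 4) (Step.L (Step.L (Step.L (Step.L (Step.D (nat_lit 9249) Step.done))))) (Scr.cons (nat_lit 12) (nat_lit 4) (Step.L (Step.D (nat_lit 9249) (Step.F (nat_lit 8887) (Step.L (Step.L Step.done))))) (Scr.cons (nat_lit 12) (nat_lit 1) (Step.L (Step.L (Step.L (Step.L (Step.D (nat_lit 9250) Step.done)))))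 (Scr.cons (nat_lit 12) (nat_lit 1) (Step.L (Step.D (nat_lit 9250) (Step.F (nat_lit 8889) (Step.L (Step.L Step.done))))) (Scr.cons (nat_lit 12) (nat_lit 1) (Step.L (Step.L (Step.L (Step.L (Step.D (nat_lit 9255) Step.done))))) (Scr.cons (nat_lit 12) (nat_lit 1) (Step.L (Step.D (nat_lit 9255) (Step.F (nat_lit 8891) (Step.L (Step.L Step.done))))) (Scr.cons (nat_lit 7) (nat_lit 2) (Step.U (nat_lit 10853) (Step.L (Step.L (Step.L (Step.L (Step.L (Step.L (Step.L (Step.L (Step.L (Step.L (Step.L (Step.L (Step.L (Step.L (Step.L (Step.L (Step.D (nat_lit 5775) (Step.D (nat_lit 8905) (Step.D (nat_lit 11550) Step.done)))))))))))))))))))) (Scr.cons (nat_lit 12) (nat_lit 4) (Step.L (Step.L (Step.L (Step.L (Step.D (nat_lit 5775) Step.done))))) (Scr.cons (nat_lit 16) (nat_lit 4) (Step.U (nat_lit 10852) (Step.L (Step.L (Step.D (nat_lit 10853) (Step.B (nat_lit 8893) (Step.U (nat_lit 11550) (Step.U (nat_lit 8905) (Step.F (nat_lit 8894) (Step.L (Step.L (Step.L (Step.L (Step.L (Step.L (Step.L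 (Step.L (Step.L (Step.L (Step.L (Step.L (Step.L (Step.L (Step.D (nat_lit 11669) Step.done))))))))))))))))))))))) (Scr.cons (nat_lit 4) (nat_lit 0) (Step.L (Step.D (nat_lit 10852) (Step.B (nat_lit 8895) (Step.U (nat_lit 11669) (Step.L Step.done))))) (Scr.cons (nat_lit 12) (nat_lit 1) (Step.L (Step.L (Step.L (Step.L (Step.D (nat_lit 9267) Step.done))))) (Scr.cons (nat_lit 12) (nat_lit 1) (Step.L (Step.D (nat_lit 9267) (Step.F (nat_lit 8897) (Step.L (Step.L Step.done))))) (Scr.cons (nat_lit 12) (nat_lit 1) (Step.L (Step.L (Step.L (Step.L (Step.D (nat_lit 9277) Step.done))))) (Scr.cons (nat_lit 12) (nat_lit 1) (Step.L (Step.D (nat_lit 9277) (Step.F (nat_lit 8899) (Step.L (Step.L Step.done))))) (Scr.cons (nat_lit 12) (nat_lit 1) (Step.L (Step.L (Step.L (Step.L (Step.D (nat_lit 9282) Step.done))))) (Scr.cons (nat_lit 12) (nat_lit 1) (Step.L (Step.D (nat_lit 9282) (Step.F (nat_lit 8901) (Step.L (Step.L Step.done))))) (Scr.cons (nat_lit 12) (nat_lit 4) (Step.L (Step.L (Step.L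 (Step.L (Step.D (nat_lit 9283) Step.done))))) (Scr.cons (nat_lit 12) (nat_lit 4) (Step.L (Step.D (nat_lit 9283) (Step.F (nat_lit 8903) (Step.L (Step.L Step.done))))) (Scr.cons (nat_lit 6) (nat_lit 1) (Step.L (Step.L (Step.L (Step.L (Step.L (Step.L (Step.L (Step.L (Step.L (Step.L (Step.D (nat_lit 9280) Step.done))))))))))) (Scr.cons (nat_lit 13) (nat_lit 2) (Step.L (Step.L (Step.L (Step.L (Step.L (Step.L (Step.L (Step.L (Step.L (Step.L (Step.D (nat_lit 9280) Step.done))))))))))) (Scr.cons (nat_lit 12) (nat_lit 1) (Step.L (Step.B (nat_lit 8905) (Step.F (nat_lit 8906) (Step.L (Step.L Step.done))))) (Scr.cons (nat_lit 12) (nat_lit 4) (Step.L (Step.L (Step.L (Step.L (Step.D (nat_lit 9287) Step.done))))) (Scr.cons (nat_lit 12) (nat_lit 4) (Step.L (Step.D (nat_lit 9287) (Step.F (nat_lit 8908) (Step.L (Step.L Step.done))))) (Scr.cons (nat_lit 12) (nat_lit 1) (Step.U (nat_lit 6155) (Step.L (Step.L (Step.D (nat_lit 6155) (Step.D (nat_lit 9319) Step.done))))) (Scr.cons (nat_lit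 12) (nat_lit 1) (Step.U (nat_lit 2309) (Step.L (Step.L (Step.D (nat_lit 2309) (Step.D (nat_lit 4327) Step.done))))) (Scr.cons (nat_lit 12) (nat_lit 1) (Step.U (nat_lit 7248) (Step.F (nat_lit 8911) (Step.D (nat_lit 4327) (Step.D (nat_lit 7248) (Step.D (nat_lit 10324) Step.done))))) (Scr.cons (nat_lit 15) (nat_lit 1) (Step.F (nat_lit 8912) (Step.U (nat_lit 7248) (Step.F (nat_lit 8911) (Step.U (nat_lit 2309) (Step.L (Step.L (Step.L (Step.L (Step.L (Step.L (Step.L (Step.L (Step.L (Step.D (nat_lit 8071) (Step.D (nat_lit 11050) Step.done))))))))))))))) (Scr.cons (nat_lit 12) (nat_lit 1) (Step.L (Step.L (Step.L (Step.L (Step.D (nat_lit 1064) Step.done))))) (Scr.cons (nat_lit 14) (nat_lit 5) (Step.U (nat_lit 10215) (Step.U (nat_lit 7108) (Step.U (nat_lit 4225) (Step.L (Step.L (Step.L (Step.L (Step.L (Step.L (Step.L (Step.L (Step.L (Step.L (Step.L (Step.L (Step.B (nat_lit 8914) (Step.D (nat_lit 2249) (Step.D (nat_lit 4240) (Step.D (nat_lit 7128) (Step.D (nat_lit 10226) Step.done))))))))))))))))))))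 (Scr.cons (nat_lit 1) (nat_lit 0) (Step.F (nat_lit 2311) (Step.B (nat_lit 2320) (Step.L Step.done))) (Scr.cons (nat_lit 1) (nat_lit 0) (Step.D (nat_lit 5056) (Step.B (nat_lit 8916) (Step.D (nat_lit 4225) Step.done))) (Scr.cons (nat_lit 0) (nat_lit 1) (Step.U (nat_lit 7108) (Step.F (nat_lit 8917) (Step.L Step.done))) (Scr.cons (nat_lit 1) (nat_lit 0) (Step.U (nat_lit 10215) (Step.B (nat_lit 8918) (Step.D (nat_lit 8072) Step.done))) (Scr.cons (nat_lit 1) (nat_lit 0) (Step.F (nat_lit 8915) (Step.B (nat_lit 8919) (Step.D (nat_lit 11052) Step.done))) (Scr.cons (nat_lit 1) (nat_lit 0) (Step.D (nat_lit 11052) (Step.F (nat_lit 8920) Step.done)) (Scr.cons (nat_lit 11) (nat_lit 0) (Step.U (nat_lit 411) (Step.U (nat_lit 141) (Step.D (nat_lit 140) (Step.D (nat_lit 409) (Step.D (nat_lit 1051) Step.done))))) Scr.nil))))))))))))))))))))))))))))))))))))))))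
noncomputable def s223 : Scr := (Scr.cons (nat_lit 12) (nat_lit 4) (Step.L (Step.L (Step.L (Step.L (Step.D (nat_lit 40) Step.done))))) (Scr.cons (nat_lit 12) (nat_lit 1) (Step.U (nat_lit 141) (Step.F (nat_lit 8923) (Step.D (nat_lit 40) (Step.D (nat_lit 141) (Step.D (nat_lit 410) Step.done))))) (Scr.cons (nat_lit 12) (nat_lit 1) (Step.U (nat_lit 411) (Step.D (nat_lit 410) (Step.F (nat_lit 8924) (Step.D (nat_lit 411) (Step.D (nat_lit 1052) Step.done))))) (Scr.cons (nat_lit 12) (nat_lit 1) (Step.F (nat_lit 8922) (Step.D (nat_lit 1052) (Step.F (nat_lit 8925) (Step.B (nat_lit 8922) (Step.D (nat_lit 2228) Step.done))))) (Scr.cons (nat_lit 7) (nat_lit 5) (Step.F (nat_lit 8926) (Step.U (nat_lit 1051) (Step.U (nat_lit 409) (Step.U (nat_lit 140) (Step.U (nat_lit 40) (Step.L (Step.L (Step.L (Step.L (Step.L (Step.L (Step.L (Step.L (Step.L (Step.L (Step.L (Step.L (Step.L (Step.B (nat_lit 8914) (Step.D (nat_lit 2250) Step.done)))))))))))))))))))) (Scr.cons (nat_lit 11) (nat_lit 0)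 (Step.U (nat_lit 4207) (Step.B (nat_lit 8927) (Step.U (nat_lit 2250) (Step.D (nat_lit 2249) (Step.D (nat_lit 4240) Step.done))))) (Scr.cons (nat_lit 12) (nat_lit 1) (Step.U (nat_lit 4207) (Step.F (nat_lit 8926) (Step.D (nat_lit 2228) (Step.D (nat_lit 4207) (Step.D (nat_lit 7086) Step.done))))) (Scr.cons (nat_lit 12) (nat_lit 1) (Step.F (nat_lit 8928) (Step.D (nat_lit 7086) (Step.F (nat_lit 8929) (Step.B (nat_lit 8928) (Step.D (nat_lit 7128) Step.done))))) (Scr.cons (nat_lit 12) (nat_lit 1) (Step.L (Step.L (Step.L (Step.L (Step.D (nat_lit 4037) Step.done))))) (Scr.cons (nat_lit 7) (nat_lit 5) (Step.F (nat_lit 8929) (Step.B (nat_lit 8928) (Step.U (nat_lit 4240) (Step.U (nat_lit 2249) (Step.U (nat_lit 1064) (Step.L (Step.L (Step.L (Step.L (Step.L (Step.L (Step.L (Step.L (Step.L (Step.L (Step.L (Step.L (Step.L (Step.B (nat_lit 8931) (Step.D (nat_lit 6886) Step.done)))))))))))))))))))) (Scr.cons (nat_lit 4) (nat_lit 0) (Step.U (nat_lit 10024) (Step.U (nat_lit 6885) (Step.D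 (nat_lit 6886) (Step.F (nat_lit 8932) (Step.D (nat_lit 10197) Step.done))))) (Scr.cons (nat_lit 11) (nat_lit 0) (Step.L (Step.L (Step.L (Step.L (Step.D (nat_lit 2004) Step.done))))) (Scr.cons (nat_lit 12) (nat_lit 1) (Step.F (nat_lit 8934) (Step.D (nat_lit 2005) (Step.F (nat_lit 3131) (Step.B (nat_lit 8934) (Step.D (nat_lit 3861) Step.done))))) (Scr.cons (nat_lit 16) (nat_lit 3) (Step.U (nat_lit 9818) (Step.U (nat_lit 6651) (Step.F (nat_lit 8935) (Step.F (nat_lit 8934) (Step.D (nat_lit 2005) (Step.D (nat_lit 3862) (Step.D (nat_lit 6653) (Step.D (nat_lit 9821) (Step.F (nat_lit 3351) (Step.U (nat_lit 6786) (Step.F (nat_lit 3225) (Step.L (Step.L (Step.L (Step.L (Step.L (Step.L (Step.L (Step.L (Step.L (Step.D (nat_lit 4037) (Step.D (nat_lit 6885) (Step.D (nat_lit 10023) Step.done))))))))))))))))))))))) (Scr.cons (nat_lit 11) (nat_lit 0) (Step.F (nat_lit 8936) (Step.U (nat_lit 9818) (Step.U (nat_lit 6651) (Step.D (nat_lit 6650) (Step.D (nat_lit 9817) Step.done))))) (Scr.cons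 (nat_lit 11) (nat_lit 0) (Step.L (Step.L (Step.L (Step.L (Step.D (nat_lit 3899) Step.done))))) (Scr.cons (nat_lit 12) (nat_lit 1) (Step.F (nat_lit 8938) (Step.L (Step.L (Step.B (nat_lit 8938) (Step.D (nat_lit 6696) Step.done))))) (Scr.cons (nat_lit 12) (nat_lit 1) (Step.L (Step.L (Step.L (Step.L (Step.D (nat_lit 9305) Step.done))))) (Scr.cons (nat_lit 14) (nat_lit 1) (Step.U (nat_lit 9856) (Step.F (nat_lit 8939) (Step.F (nat_lit 8938) (Step.L (Step.L (Step.L (Step.L (Step.L (Step.L (Step.L (Step.L (Step.L (Step.L (Step.L (Step.L (Step.L (Step.L (Step.L (Step.L (Step.B (nat_lit 8940) Step.done)))))))))))))))))))) (Scr.cons (nat_lit 7) (nat_lit 3) (Step.F (nat_lit 8933) (Step.U (nat_lit 10024) (Step.D (nat_lit 10023) (Step.B (nat_lit 8937) (Step.U (nat_lit 9817) (Step.U (nat_lit 6650) (Step.U (nat_lit 3861) (Step.U (nat_lit 2004) (Step.L (Step.L (Step.L (Step.L (Step.L (Step.L (Step.L (Step.B (nat_lit 8938) (Step.D (nat_lit 6696) (Step.D (nat_lit 9856) (Step.B (nat_lit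 8941) (Step.D (nat_lit 11682) Step.done)))))))))))))))))))) (Scr.cons (nat_lit 12) (nat_lit 4) (Step.L (Step.L (Step.L (Step.L (Step.D (nat_lit 6142) Step.done))))) (Scr.cons (nat_lit 12) (nat_lit 4) (Step.U (nat_lit 9304) (Step.F (nat_lit 8943) (Step.D (nat_lit 6142) (Step.D (nat_lit 9304) (Step.D (nat_lit 11681) Step.done))))) (Scr.cons (nat_lit 13) (nat_lit 1) (Step.U (nat_lit 10226) (Step.F (nat_lit 8930) (Step.F (nat_lit 8928) (Step.B (nat_lit 8929) (Step.D (nat_lit 10197) (Step.B (nat_lit 8942) (Step.U (nat_lit 11682) (Step.U (nat_lit 9305) (Step.L (Step.D (nat_lit 6142) (Step.D (nat_lit 9304) (Step.B (nat_lit 8944) Step.done)))))))))))) (Scr.cons (nat_lit 0) (nat_lit 1) (Step.D (nat_lit 11681) (Step.F (nat_lit 8945) Step.done)) (Scr.cons (nat_lit 15) (nat_lit 1) (Step.F (nat_lit 537) (Step.L (Step.L (Step.L (Step.L (Step.L (Step.L (Step.L (Step.L (Step.L (Step.L (Step.L (Step.L (Step.L (Step.D (nat_lit 1808) Step.done))))))))))))))) (Scr.cons (nat_lit 9) (nat_lit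 0) (Step.U (nat_lit 10323) (Step.U (nat_lit 7247) (Step.D (nat_lit 7248) (Step.B (nat_lit 8912) (Step.B (nat_lit 8913) (Step.U (nat_lit 11050) (Step.U (nat_lit 8071) (Step.D (nat_lit 8072) (Step.B (nat_lit 8921) (Step.F (nat_lit 8946) (Step.U (nat_lit 9304) (Step.U (nat_lit 6142) (Step.L (Step.L (Step.L (Step.B (nat_lit 537) (Step.B (nat_lit 8947) (Step.U (nat_lit 1808) (Step.L (Step.L (Step.L (Step.L (Step.D (nat_lit 6155) (Step.B (nat_lit 8910) Step.done)))))))))))))))))))))))) (Scr.cons (nat_lit 1) (nat_lit 1) (Step.D (nat_lit 10323) (Step.B (nat_lit 8948) Step.done)) (Scr.cons (nat_lit 12) (nat_lit 4) (Step.U (nat_lit 7247) (Step.F (nat_lit 8911) (Step.D (nat_lit 4327) (Step.D (nat_lit 7247) (Step.D (nat_lit 10322) Step.done))))) (Scr.cons (nat_lit 6) (nat_lit 0) (Step.U (nat_lit 10211) (Step.L (Step.L (Step.L (Step.L (Step.L (Step.L (Step.D (nat_lit 2309) (Step.B (nat_lit 8911) (Step.D (nat_lit 7247) (Step.D (nat_lit 10322) Step.done))))))))))) (Scr.cons (nat_lit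 8) (nat_lit 1) (Step.L (Step.L (Step.L (Step.L (Step.L (Step.L (Step.L (Step.L (Step.D (nat_lit 6155) (Step.B (nat_lit 8910) (Step.F (nat_lit 8949) (Step.B (nat_lit 8950) (Step.F (nat_lit 8951) (Step.U (nat_lit 10211) (Step.L Step.done))))))))))))))) (Scr.cons (nat_lit 6) (nat_lit 0) (Step.L (Step.L (Step.L (Step.L (Step.B (nat_lit 256) (Step.F (nat_lit 8947) (Step.F (nat_lit 537) (Step.L (Step.L (Step.L (Step.L Step.done))))))))))) (Scr.cons (nat_lit 12) (nat_lit 1) (Step.L (Step.L (Step.L (Step.L (Step.D (nat_lit 2661) Step.done))))) (Scr.cons (nat_lit 12) (nat_lit 1) (Step.L (Step.D (nat_lit 2661) (Step.F (nat_lit 8954) (Step.L (Step.D (nat_lit 4870) Step.done))))) (Scr.cons (nat_lit 12) (nat_lit 1) (Step.L (Step.L (Step.L (Step.L (Step.D (nat_lit 3212) Step.done))))) (Scr.cons (nat_lit 7) (nat_lit 5) (Step.F (nat_lit 8955) (Step.L (Step.L (Step.L (Step.L (Step.L (Step.L (Step.L (Step.L (Step.L (Step.L (Step.L (Step.L (Step.L (Step.L (Step.L (Step.L (Step.L (Step.B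 (nat_lit 8956) (Step.D (nat_lit 5695) Step.done)))))))))))))))))))) (Scr.cons (nat_lit 16) (nat_lit 3) (Step.L (Step.L (Step.L (Step.L (Step.L (Step.L (Step.L (Step.L (Step.L (Step.L (Step.L (Step.L (Step.L (Step.L (Step.L (Step.L (Step.L (Step.L (Step.L (Step.L (Step.D (nat_lit 3212) (Step.D (nat_lit 5694) (Step.D (nat_lit 8800) Step.done))))))))))))))))))))))) (Scr.cons (nat_lit 16) (nat_lit 2) (Step.L (Step.L (Step.L (Step.L (Step.L (Step.D (nat_lit 4870) (Step.B (nat_lit 8957) (Step.U (nat_lit 5695) (Step.D (nat_lit 5694) (Step.D (nat_lit 8800) (Step.F (nat_lit 8958) (Step.L (Step.L (Step.L (Step.L (Step.L (Step.L (Step.L (Step.L (Step.L (Step.L (Step.L (Step.L Step.done))))))))))))))))))))))) (Scr.cons (nat_lit 12) (nat_lit 4) (Step.L (Step.L (Step.L (Step.L (Step.D (nat_lit 9317) Step.done))))) (Scr.cons (nat_lit 12) (nat_lit 4) (Step.L (Step.D (nat_lit 9317) (Step.F (nat_lit 8960) (Step.L (Step.L Step.done))))) (Scr.cons (nat_lit 12) (nat_lit 4) (Step.L (Step.L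 (Step.L (Step.L (Step.D (nat_lit 9318) Step.done))))) Scr.nil))))))))))))))))))))))))))))))))))))))))
noncomputable def s224 : Scr := (Scr.cons (nat_lit 12) (nat_lit 4) (Step.L (Step.D (nat_lit 9318) (Step.F (nat_lit 8962) (Step.L (Step.L Step.done))))) (Scr.cons (nat_lit 12) (nat_lit 4) (Step.L (Step.L (Step.L (Step.L (Step.D (nat_lit 9320) Step.done))))) (Scr.cons (nat_lit 12) (nat_lit 4) (Step.L (Step.D (nat_lit 9320) (Step.F (nat_lit 8964) (Step.L (Step.L Step.done))))) (Scr.cons (nat_lit 12) (nat_lit 1) (Step.L (Step.L (Step.L (Step.L (Step.D (nat_lit 9331) Step.done))))) (Scr.cons (nat_lit 12) (nat_lit 1) (Step.L (Step.D (nat_lit 9331) (Step.F (nat_lit 8966) (Step.L (Step.L Step.done))))) (Scr.cons (nat_lit 12) (nat_lit 4) (Step.L (Step.L (Step.L (Step.L (Step.D (nat_lit 9347) Step.done))))) (Scr.cons (nat_lit 12) (nat_lit 4) (Step.L (Step.D (nat_lit 9347) (Step.F (nat_lit 8968) (Step.L (Step.L Step.done))))) (Scr.cons (nat_lit 12) (nat_lit 1) (Step.L (Step.L (Step.L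 (Step.L (Step.D (nat_lit 5367) Step.done))))) (Scr.cons (nat_lit 7) (nat_lit 6) (Step.U (nat_lit 11106) (Step.L (Step.L (Step.L (Step.L (Step.L (Step.L (Step.L (Step.L (Step.L (Step.L (Step.L (Step.L (Step.L (Step.L (Step.L (Step.L (Step.B (nat_lit 8970) (Step.D (nat_lit 8423) (Step.D (nat_lit 11297) Step.done)))))))))))))))))))) (Scr.cons (nat_lit 11) (nat_lit 0) (Step.L (Step.L (Step.L (Step.L (Step.D (nat_lit 11106) Step.done))))) (Scr.cons (nat_lit 13) (nat_lit 3) (Step.U (nat_lit 11296) (Step.D (nat_lit 11297) (Step.F (nat_lit 8971) (Step.F (nat_lit 8972) (Step.L (Step.L (Step.L (Step.L (Step.L (Step.L (Step.D (nat_lit 11706) Step.done))))))))))) (Scr.cons (nat_lit 12) (nat_lit 1) (Step.U (nat_lit 8423) (Step.F (nat_lit 8970) (Step.D (nat_lit 5367) (Step.D (nat_lit 8423) (Step.D (nat_lit 11296) Step.done))))) (Scr.cons (nat_lit 15) (nat_lit 0) (Step.L (Step.L (Step.L (Step.L (Step.L (Step.D (nat_lit 11706) (Step.F (nat_lit 8973) (Step.F (nat_lit 8974) (Step.U (nat_lit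 8423) (Step.F (nat_lit 8970) (Step.L (Step.L (Step.L (Step.L (Step.L Step.done))))))))))))))) (Scr.cons (nat_lit 12) (nat_lit 1) (Step.L (Step.L (Step.L (Step.L (Step.D (nat_lit 9758) Step.done))))) (Scr.cons (nat_lit 12) (nat_lit 1) (Step.L (Step.D (nat_lit 9758) (Step.F (nat_lit 8976) (Step.L (Step.L Step.done))))) (Scr.cons (nat_lit 7) (nat_lit 6) (Step.L (Step.L (Step.L (Step.L (Step.L (Step.L (Step.L (Step.L (Step.L (Step.L (Step.L (Step.L (Step.L (Step.L (Step.L (Step.L (Step.L (Step.L (Step.D (nat_lit 2980) (Step.D (nat_lit 5366) Step.done)))))))))))))))))))) (Scr.cons (nat_lit 11) (nat_lit 0) (Step.U (nat_lit 5366) (Step.U (nat_lit 2980) (Step.L (Step.L (Step.D (nat_lit 8421) Step.done))))) (Scr.cons (nat_lit 12) (nat_lit 1) (Step.U (nat_lit 2980) (Step.L (Step.L (Step.D (nat_lit 2980) (Step.D (nat_lit 5365) Step.done))))) (Scr.cons (nat_lit 12) (nat_lit 1) (Step.U (nat_lit 5366) (Step.D (nat_lit 5365) (Step.F (nat_lit 8980) (Step.D (nat_lit 5366) (Step.F (nat_lit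 8978) Step.done))))) (Scr.cons (nat_lit 12) (nat_lit 1) (Step.F (nat_lit 8979) (Step.F (nat_lit 8978) (Step.F (nat_lit 8981) (Step.B (nat_lit 8979) (Step.D (nat_lit 11295) Step.done))))) (Scr.cons (nat_lit 11) (nat_lit 0) (Step.L (Step.L (Step.L (Step.D (nat_lit 3843) (Step.D (nat_lit 6623) Step.done))))) (Scr.cons (nat_lit 12) (nat_lit 1) (Step.L (Step.L (Step.L (Step.L (Step.D (nat_lit 6624) Step.done))))) (Scr.cons (nat_lit 12) (nat_lit 1) (Step.F (nat_lit 8983) (Step.D (nat_lit 6624) (Step.F (nat_lit 8984) (Step.B (nat_lit 8983) (Step.D (nat_lit 9782) Step.done))))) (Scr.cons (nat_lit 14) (nat_lit 0) (Step.U (nat_lit 6624) (Step.L (Step.L (Step.L (Step.L (Step.L (Step.L (Step.L (Step.L (Step.L (Step.L (Step.L (Step.L (Step.L (Step.L (Step.L (Step.L (Step.L (Step.L (Step.L (Step.D (nat_lit 9256) Step.done))))))))))))))))))))) (Scr.cons (nat_lit 1) (nat_lit 0) (Step.D (nat_lit 9256) (Step.F (nat_lit 8986) (Step.D (nat_lit 9784) Step.done))) (Scr.cons (nat_lit 1) (nat_lit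 0) (Step.D (nat_lit 9784) (Step.F (nat_lit 8987) Step.done)) (Scr.cons (nat_lit 11) (nat_lit 0) (Step.U (nat_lit 9258) (Step.L (Step.L (Step.F (nat_lit 8988) (Step.D (nat_lit 9783) Step.done))))) (Scr.cons (nat_lit 12) (nat_lit 4) (Step.L (Step.L (Step.L (Step.L (Step.D (nat_lit 1905) Step.done))))) (Scr.cons (nat_lit 12) (nat_lit 1) (Step.U (nat_lit 3695) (Step.F (nat_lit 8990) (Step.D (nat_lit 1905) (Step.D (nat_lit 3695) (Step.D (nat_lit 6421) Step.done))))) (Scr.cons (nat_lit 12) (nat_lit 1) (Step.U (nat_lit 6422) (Step.D (nat_lit 6421) (Step.F (nat_lit 8991) (Step.D (nat_lit 6422) (Step.D (nat_lit 9564) Step.done))))) (Scr.cons (nat_lit 12) (nat_lit 4) (Step.U (nat_lit 3694) (Step.F (nat_lit 8990) (Step.D (nat_lit 1905) (Step.D (nat_lit 3694) (Step.D (nat_lit 6420) Step.done))))) (Scr.cons (nat_lit 4) (nat_lit 0) (Step.B (nat_lit 3729) (Step.U (nat_lit 7718) (Step.U (nat_lit 4740) (Step.D (nat_lit 4741) (Step.D (nat_lit 7719) Step.done))))) (Scr.cons (nat_lit 12)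 (nat_lit 1) (Step.F (nat_lit 294) (Step.D (nat_lit 973) (Step.F (nat_lit 3718) (Step.B (nat_lit 294) (Step.D (nat_lit 2094) Step.done))))) (Scr.cons (nat_lit 12) (nat_lit 1) (Step.L (Step.L (Step.L (Step.L (Step.D (nat_lit 3696) Step.done))))) (Scr.cons (nat_lit 16) (nat_lit 1) (Step.F (nat_lit 8996) (Step.L (Step.L (Step.L (Step.L (Step.L (Step.L (Step.L (Step.L (Step.L (Step.L (Step.L (Step.L (Step.L (Step.L (Step.L (Step.L (Step.L (Step.L (Step.L (Step.L (Step.D (nat_lit 972) (Step.D (nat_lit 2094) Step.done))))))))))))))))))))))) (Scr.cons (nat_lit 6) (nat_lit 0) (Step.U (nat_lit 4007) (Step.U (nat_lit 2096) (Step.F (nat_lit 3718) (Step.B (nat_lit 294) (Step.B (nat_lit 8995) (Step.F (nat_lit 8997) (Step.F (nat_lit 8996) (Step.L (Step.B (nat_lit 8990) (Step.D (nat_lit 3694) (Step.D (nat_lit 6420) Step.done))))))))))) (Scr.cons (nat_lit 1) (nat_lit 1) (Step.F (nat_lit 8994) (Step.F (nat_lit 3740) (Step.B (nat_lit 8998) Step.done))) (Scr.cons (nat_lit 1) (nat_lit 1)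 (Step.D (nat_lit 7719) (Step.B (nat_lit 8999) (Step.D (nat_lit 9563) Step.done))) (Scr.cons (nat_lit 1) (nat_lit 1) (Step.D (nat_lit 9563) (Step.F (nat_lit 9000) Step.done)) (Scr.cons (nat_lit 0) (nat_lit 0) (Step.B (nat_lit 3540) (Step.F (nat_lit 3541) Step.done)) Scr.nil))))))))))))))))))))))))))))))))))))))))
noncomputable def s225 : Scr := (Scr.cons (nat_lit 14) (nat_lit 2) (Step.F (nat_lit 8992) (Step.U (nat_lit 6422) (Step.U (nat_lit 3695) (Step.D (nat_lit 3694) (Step.B (nat_lit 8993) (Step.B (nat_lit 9001) (Step.U (nat_lit 4741) (Step.F (nat_lit 3730) (Step.L (Step.L (Step.L (Step.L (Step.L (Step.L (Step.L (Step.L (Step.L (Step.L (Step.B (nat_lit 9002) (Step.D (nat_lit 11670) Step.done)))))))))))))))))))) (Scr.cons (nat_lit 4) (nat_lit 0) (Step.B (nat_lit 9003) (Step.U (nat_lit 11670) (Step.U (nat_lit 9259) (Step.D (nat_lit 9260) (Step.D (nat_lit 11671) Step.done))))) (Scr.cons (nat_lit 11) (nat_lit 0) (Step.U (nat_lit 2820) (Step.L (Step.D (nat_lit 1385) (Step.D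 (nat_lit 2819) (Step.D (nat_lit 5105) Step.done))))) (Scr.cons (nat_lit 12) (nat_lit 1) (Step.U (nat_lit 2820) (Step.L (Step.L (Step.D (nat_lit 2820) (Step.D (nat_lit 5106) Step.done))))) (Scr.cons (nat_lit 12) (nat_lit 1) (Step.F (nat_lit 9005) (Step.D (nat_lit 5106) (Step.F (nat_lit 9006) (Step.B (nat_lit 9005) (Step.D (nat_lit 8120) Step.done))))) (Scr.cons (nat_lit 14) (nat_lit 2) (Step.F (nat_lit 9007) (Step.F (nat_lit 9005) (Step.U (nat_lit 2820) (Step.L (Step.L (Step.L (Step.L (Step.L (Step.L (Step.L (Step.L (Step.L (Step.L (Step.L (Step.L (Step.L (Step.L (Step.L (Step.L (Step.L Step.done)))))))))))))))))))) (Scr.cons (nat_lit 7) (nat_lit 6) (Step.U (nat_lit 11099) (Step.B (nat_lit 9008) (Step.L (Step.L (Step.L (Step.L (Step.L (Step.L (Step.L (Step.L (Step.L (Step.L (Step.L (Step.L (Step.L (Step.L (Step.L (Step.L (Step.D (nat_lit 9260) (Step.D (nat_lit 11671) Step.done)))))))))))))))))))) (Scr.cons (nat_lit 11) (nat_lit 0) (Step.U (nat_lit 8866) (Step.L (Step.L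 (Step.F (nat_lit 9008) (Step.D (nat_lit 11099) Step.done))))) (Scr.cons (nat_lit 14) (nat_lit 6) (Step.U (nat_lit 11520) (Step.U (nat_lit 8866) (Step.L (Step.L (Step.L (Step.L (Step.L (Step.L (Step.L (Step.L (Step.L (Step.L (Step.L (Step.L (Step.L (Step.L (Step.L (Step.D (nat_lit 5749) (Step.D (nat_lit 8868) (Step.D (nat_lit 11523) Step.done)))))))))))))))))))) (Scr.cons (nat_lit 4) (nat_lit 0) (Step.B (nat_lit 9011) (Step.U (nat_lit 11523) (Step.U (nat_lit 8868) (Step.D (nat_lit 8869) (Step.D (nat_lit 11524) Step.done))))) (Scr.cons (nat_lit 12) (nat_lit 4) (Step.L (Step.L (Step.L (Step.L (Step.D (nat_lit 3243) Step.done))))) (Scr.cons (nat_lit 12) (nat_lit 4) (Step.L (Step.D (nat_lit 3243) (Step.F (nat_lit 9013) (Step.L (Step.D (nat_lit 5749) Step.done))))) (Scr.cons (nat_lit 16) (nat_lit 0) (Step.F (nat_lit 8985) (Step.F (nat_lit 8983) (Step.D (nat_lit 6624) (Step.D (nat_lit 9783) (Step.F (nat_lit 8989) (Step.U (nat_lit 9258) (Step.L (Step.L (Step.B (nat_lit 3542)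 (Step.D (nat_lit 11670) (Step.F (nat_lit 9003) (Step.B (nat_lit 9004) (Step.F (nat_lit 9009) (Step.F (nat_lit 9010) (Step.D (nat_lit 11520) (Step.B (nat_lit 9012) (Step.U (nat_lit 11524) (Step.U (nat_lit 8869) (Step.F (nat_lit 9014) (Step.L (Step.L (Step.B (nat_lit 6283) (Step.U (nat_lit 11299) (Step.D (nat_lit 11298) Step.done)))))))))))))))))))))))) (Scr.cons (nat_lit 1) (nat_lit 1) (Step.D (nat_lit 11298) (Step.F (nat_lit 9015) Step.done)) (Scr.cons (nat_lit 12) (nat_lit 1) (Step.L (Step.L (Step.L (Step.L (Step.D (nat_lit 6206) Step.done))))) (Scr.cons (nat_lit 14) (nat_lit 2) (Step.F (nat_lit 9017) (Step.L (Step.L (Step.L (Step.L (Step.L (Step.L (Step.L (Step.L (Step.L (Step.L (Step.L (Step.L (Step.L (Step.L (Step.L (Step.L (Step.L (Step.L (Step.D (nat_lit 3844) Step.done)))))))))))))))))))) (Scr.cons (nat_lit 16) (nat_lit 1) (Step.F (nat_lit 8982) (Step.F (nat_lit 8979) (Step.U (nat_lit 5366) (Step.U (nat_lit 2980) (Step.L (Step.L (Step.L (Step.L (Step.L (Step.D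 (nat_lit 5368) (Step.D (nat_lit 8424) (Step.B (nat_lit 9016) (Step.F (nat_lit 8985) (Step.F (nat_lit 8983) (Step.L (Step.L (Step.L (Step.L (Step.L (Step.D (nat_lit 3844) (Step.F (nat_lit 9018) (Step.D (nat_lit 9380) (Step.D (nat_lit 11715) Step.done))))))))))))))))))))))) (Scr.cons (nat_lit 8) (nat_lit 1) (Step.L (Step.L (Step.L (Step.L (Step.B (nat_lit 8978) (Step.B (nat_lit 8979) (Step.B (nat_lit 8982) (Step.B (nat_lit 9019) (Step.U (nat_lit 11715) (Step.U (nat_lit 9380) (Step.U (nat_lit 6206) (Step.L (Step.L (Step.L (Step.L (Step.D (nat_lit 11714) Step.done)))))))))))))))) (Scr.cons (nat_lit 1) (nat_lit 1) (Step.D (nat_lit 11714) (Step.F (nat_lit 9020) (Step.D (nat_lit 11555) Step.done))) (Scr.cons (nat_lit 1) (nat_lit 1) (Step.D (nat_lit 11555) (Step.F (nat_lit 9021) Step.done)) (Scr.cons (nat_lit 12) (nat_lit 1) (Step.L (Step.L (Step.L (Step.L (Step.D (nat_lit 9388) Step.done))))) (Scr.cons (nat_lit 12) (nat_lit 1) (Step.L (Step.D (nat_lit 9388) (Step.F (nat_lit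 9023) (Step.L (Step.L Step.done))))) (Scr.cons (nat_lit 15) (nat_lit 1) (Step.F (nat_lit 6171) (Step.L (Step.L (Step.L (Step.L (Step.L (Step.L (Step.L (Step.L (Step.L (Step.L (Step.L (Step.L (Step.L (Step.L Step.done))))))))))))))) (Scr.cons (nat_lit 12) (nat_lit 4) (Step.L (Step.L (Step.L (Step.L (Step.D (nat_lit 3141) Step.done))))) (Scr.cons (nat_lit 12) (nat_lit 4) (Step.U (nat_lit 3142) (Step.D (nat_lit 3141) (Step.F (nat_lit 9026) (Step.D (nat_lit 3142) (Step.D (nat_lit 5570) Step.done))))) (Scr.cons (nat_lit 15) (nat_lit 1) (Step.L (Step.L (Step.L (Step.L (Step.L (Step.L (Step.L (Step.L (Step.L (Step.L (Step.L (Step.L (Step.L (Step.L (Step.D (nat_lit 3141) Step.done))))))))))))))) (Scr.cons (nat_lit 12) (nat_lit 4) (Step.L (Step.L (Step.L (Step.L (Step.D (nat_lit 2489) Step.done))))) (Scr.cons (nat_lit 6) (nat_lit 1) (Step.U (nat_lit 8668) (Step.F (nat_lit 9027) (Step.U (nat_lit 3142) (Step.B (nat_lit 9026) (Step.F (nat_lit 9028) (Step.L (Step.L (Step.B (nat_lit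 9029) (Step.D (nat_lit 4606) (Step.D (nat_lit 7567) (Step.D (nat_lit 10602) Step.done))))))))))) (Scr.cons (nat_lit 16) (nat_lit 4) (Step.L (Step.L (Step.L (Step.L (Step.L (Step.L (Step.L (Step.L (Step.L (Step.L (Step.L (Step.L (Step.L (Step.L (Step.L (Step.L (Step.L (Step.D (nat_lit 12) (Step.D (nat_lit 67) (Step.D (nat_lit 240) (Step.D (nat_lit 663) (Step.D (nat_lit 1566) (Step.D (nat_lit 3122) Step.done))))))))))))))))))))))) (Scr.cons (nat_lit 12) (nat_lit 1) (Step.U (nat_lit 1565) (Step.F (nat_lit 1697) (Step.D (nat_lit 662) (Step.D (nat_lit 1565) (Step.D (nat_lit 3120) Step.done))))) (Scr.cons (nat_lit 7) (nat_lit 1) (Step.U (nat_lit 5545) (Step.U (nat_lit 3120) (Step.D (nat_lit 3121) (Step.B (nat_lit 1695) (Step.F (nat_lit 1702) (Step.U (nat_lit 8316) (Step.U (nat_lit 5281) (Step.U (nat_lit 2924) (Step.L (Step.L (Step.L (Step.L (Step.L (Step.L (Step.L (Step.B (nat_lit 2481) (Step.D (nat_lit 608) (Step.D (nat_lit 1450) (Step.D (nat_lit 2935) (Step.D (nat_lit 5297)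 Step.done)))))))))))))))))))) (Scr.cons (nat_lit 4) (nat_lit 0) (Step.U (nat_lit 5296) (Step.D (nat_lit 5297) (Step.F (nat_lit 9033) (Step.U (nat_lit 5545) (Step.D (nat_lit 5546) Step.done))))) (Scr.cons (nat_lit 1) (nat_lit 1) (Step.B (nat_lit 3820) (Step.B (nat_lit 3827) (Step.D (nat_lit 1252) Step.done))) (Scr.cons (nat_lit 0) (nat_lit 1) (Step.U (nat_lit 2935) (Step.B (nat_lit 9035) (Step.D (nat_lit 2576) Step.done))) (Scr.cons (nat_lit 1) (nat_lit 1) (Step.U (nat_lit 5296) (Step.B (nat_lit 9036) (Step.F (nat_lit 229) Step.done))) (Scr.cons (nat_lit 1) (nat_lit 1) (Step.F (nat_lit 9034) (Step.B (nat_lit 9037) (Step.U (nat_lit 1574) Step.done))) (Scr.cons (nat_lit 1) (nat_lit 1) (Step.D (nat_lit 5546) (Step.B (nat_lit 9038) (Step.L Step.done))) (Scr.cons (nat_lit 0) (nat_lit 1) (Step.B (nat_lit 9032) (Step.B (nat_lit 9039) (Step.L Step.done))) (Scr.cons (nat_lit 1) (nat_lit 1) (Step.D (nat_lit 1565) (Step.B (nat_lit 9040) (Step.L Step.done))) (Scr.cons (nat_lit 0)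 (nat_lit 1) (Step.B (nat_lit 1697) (Step.B (nat_lit 9041) (Step.L Step.done))) Scr.nil))))))))))))))))))))))))))))))))))))))))
noncomputable def s226 : Scr := (Scr.cons (nat_lit 1) (nat_lit 1) (Step.D (nat_lit 239) (Step.B (nat_lit 9042) (Step.L Step.done))) (Scr.cons (nat_lit 0) (nat_lit 1) (Step.B (nat_lit 1696) (Step.B (nat_lit 9043) (Step.L Step.done))) (Scr.cons (nat_lit 1) (nat_lit 1) (Step.U (nat_lit 67) (Step.B (nat_lit 9044) (Step.L Step.done))) (Scr.cons (nat_lit 0) (nat_lit 1) (Step.U (nat_lit 240) (Step.B (nat_lit 9045) (Step.L Step.done))) (Scr.cons (nat_lit 1) (nat_lit 1) (Step.U (nat_lit 663) (Step.B (nat_lit 9046) (Step.L Step.done))) (Scr.cons (nat_lit 0) (nat_lit 1) (Step.U (nat_lit 1566) (Step.B (nat_lit 9047) (Step.L Step.done))) (Scr.cons (nat_lit 1) (nat_lit 1) (Step.U (nat_lit 3122) (Step.B (nat_lit 9048) (Step.L Step.done))) (Scr.cons (nat_lit 1) (nat_lit 1) (Step.B (nat_lit 9031) (Step.B (nat_lit 9049) (Step.D (nat_lit 3142) Step.done))) (Scr.cons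 (nat_lit 0) (nat_lit 1) (Step.U (nat_lit 5570) (Step.F (nat_lit 9050) (Step.L Step.done))) (Scr.cons (nat_lit 1) (nat_lit 0) (Step.U (nat_lit 8668) (Step.B (nat_lit 9051) (Step.L Step.done))) (Scr.cons (nat_lit 0) (nat_lit 1) (Step.F (nat_lit 9030) (Step.B (nat_lit 9052) (Step.D (nat_lit 8731) Step.done))) (Scr.cons (nat_lit 1) (nat_lit 0) (Step.D (nat_lit 10602) (Step.B (nat_lit 9053) Step.done)) (Scr.cons (nat_lit 12) (nat_lit 4) (Step.U (nat_lit 3276) (Step.F (nat_lit 1857) (Step.D (nat_lit 1643) (Step.D (nat_lit 3276) (Step.D (nat_lit 5809) Step.done))))) (Scr.cons (nat_lit 8) (nat_lit 1) (Step.U (nat_lit 10261) (Step.U (nat_lit 7165) (Step.U (nat_lit 4267) (Step.U (nat_lit 2267) (Step.U (nat_lit 1076) (Step.B (nat_lit 1839) (Step.D (nat_lit 2266) (Step.F (nat_lit 1838) (Step.L (Step.B (nat_lit 1841) (Step.D (nat_lit 7166) (Step.F (nat_lit 1864) (Step.U (nat_lit 5810) (Step.B (nat_lit 9055) (Step.D (nat_lit 8938) Step.done))))))))))))))) (Scr.cons (nat_lit 0) (nat_lit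 1) (Step.U (nat_lit 5809) (Step.B (nat_lit 5356) (Step.D (nat_lit 4604) Step.done))) (Scr.cons (nat_lit 1) (nat_lit 0) (Step.U (nat_lit 8938) (Step.B (nat_lit 9057) (Step.D (nat_lit 7565) Step.done))) (Scr.cons (nat_lit 6) (nat_lit 1) (Step.U (nat_lit 4607) (Step.F (nat_lit 9029) (Step.L (Step.L (Step.L (Step.L (Step.L (Step.L (Step.D (nat_lit 2488) (Step.D (nat_lit 4604) (Step.D (nat_lit 7565) Step.done))))))))))) (Scr.cons (nat_lit 0) (nat_lit 0) (Step.B (nat_lit 9056) (Step.B (nat_lit 9058) (Step.F (nat_lit 9059) Step.done))) (Scr.cons (nat_lit 1) (nat_lit 0) (Step.D (nat_lit 10261) (Step.B (nat_lit 9060) (Step.D (nat_lit 7569) Step.done))) (Scr.cons (nat_lit 1) (nat_lit 0) (Step.D (nat_lit 7569) (Step.F (nat_lit 9061) Step.done)) (Scr.cons (nat_lit 16) (nat_lit 2) (Step.L (Step.L (Step.L (Step.L (Step.L (Step.L (Step.L (Step.L (Step.L (Step.L (Step.L (Step.L (Step.L (Step.L (Step.D (nat_lit 419) (Step.D (nat_lit 1076) (Step.D (nat_lit 2267) (Step.D (nat_lit 4267)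 (Step.D (nat_lit 7165) (Step.F (nat_lit 9062) (Step.U (nat_lit 4607) (Step.D (nat_lit 4606) (Step.D (nat_lit 7567) (Step.D (nat_lit 10601) Step.done)))))))))))))))))))))))) (Scr.cons (nat_lit 1) (nat_lit 0) (Step.D (nat_lit 10601) (Step.F (nat_lit 9063) (Step.D (nat_lit 7224) Step.done))) (Scr.cons (nat_lit 1) (nat_lit 0) (Step.F (nat_lit 9054) (Step.B (nat_lit 9064) (Step.D (nat_lit 10308) Step.done))) (Scr.cons (nat_lit 1) (nat_lit 0) (Step.D (nat_lit 10308) (Step.F (nat_lit 9065) Step.done)) (Scr.cons (nat_lit 14) (nat_lit 4) (Step.L (Step.L (Step.L (Step.L (Step.L (Step.L (Step.F (nat_lit 9025) (Step.F (nat_lit 9066) (Step.U (nat_lit 7224) (Step.L (Step.L (Step.L (Step.L (Step.L (Step.L (Step.L (Step.L (Step.L (Step.L (Step.L Step.done)))))))))))))))))))) (Scr.cons (nat_lit 7) (nat_lit 0) (Step.L (Step.L (Step.L (Step.L (Step.L (Step.L (Step.L (Step.L (Step.L (Step.L (Step.L (Step.L (Step.D (nat_lit 3021) (Step.D (nat_lit 5434) (Step.F (nat_lit 4627) (Step.D (nat_lit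 11131) (Step.F (nat_lit 4600) (Step.B (nat_lit 4621) (Step.D (nat_lit 8844) (Step.D (nat_lit 11510) Step.done)))))))))))))))))))) (Scr.cons (nat_lit 12) (nat_lit 1) (Step.U (nat_lit 8844) (Step.F (nat_lit 4608) (Step.D (nat_lit 5733) (Step.D (nat_lit 8844) (Step.D (nat_lit 11510) Step.done))))) (Scr.cons (nat_lit 12) (nat_lit 1) (Step.B (nat_lit 9068) (Step.F (nat_lit 9069) (Step.D (nat_lit 11510) (Step.F (nat_lit 9068) (Step.L Step.done))))) (Scr.cons (nat_lit 12) (nat_lit 1) (Step.L (Step.L (Step.L (Step.L (Step.D (nat_lit 1818) Step.done))))) (Scr.cons (nat_lit 6) (nat_lit 1) (Step.L (Step.L (Step.L (Step.L (Step.L (Step.L (Step.L (Step.B (nat_lit 9071) (Step.D (nat_lit 3548) (Step.D (nat_lit 6217) (Step.D (nat_lit 9394) Step.done))))))))))) (Scr.cons (nat_lit 12) (nat_lit 4) (Step.U (nat_lit 3548) (Step.F (nat_lit 9071) (Step.D (nat_lit 1818) (Step.D (nat_lit 3548) (Step.D (nat_lit 6217) Step.done))))) (Scr.cons (nat_lit 13) (nat_lit 2) (Step.L (Step.L (Step.L (Step.L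 (Step.L (Step.L (Step.L (Step.D (nat_lit 1818) (Step.D (nat_lit 3548) (Step.B (nat_lit 9073) (Step.D (nat_lit 9394) Step.done))))))))))) (Scr.cons (nat_lit 12) (nat_lit 1) (Step.L (Step.B (nat_lit 9072) (Step.F (nat_lit 9074) (Step.L (Step.L Step.done))))) (Scr.cons (nat_lit 12) (nat_lit 1) (Step.L (Step.L (Step.L (Step.L (Step.D (nat_lit 9397) Step.done))))) (Scr.cons (nat_lit 12) (nat_lit 1) (Step.L (Step.D (nat_lit 9397) (Step.F (nat_lit 9076) (Step.L (Step.L Step.done))))) (Scr.cons (nat_lit 12) (nat_lit 4) (Step.L (Step.L (Step.L (Step.L (Step.D (nat_lit 9400) Step.done))))) (Scr.cons (nat_lit 12) (nat_lit 4) (Step.L (Step.D (nat_lit 9400) (Step.F (nat_lit 9078) (Step.L (Step.L Step.done))))) (Scr.cons (nat_lit 12) (nat_lit 1) (Step.U (nat_lit 7632) (Step.L (Step.L (Step.D (nat_lit 7632) (Step.D (nat_lit 10656) Step.done))))) (Scr.cons (nat_lit 15) (nat_lit 1) (Step.F (nat_lit 9080) (Step.U (nat_lit 7632) (Step.L (Step.L (Step.L (Step.L (Step.L (Step.L (Step.L (Step.L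 (Step.L (Step.L (Step.L (Step.L (Step.L Step.done))))))))))))))) (Scr.cons (nat_lit 12) (nat_lit 4) (Step.U (nat_lit 480) (Step.F (nat_lit 1919) (Step.D (nat_lit 164) (Step.D (nat_lit 480) (Step.D (nat_lit 1204) Step.done))))) Scr.nil))))))))))))))))))))))))))))))))))))))))
noncomputable def s227 : Scr := (Scr.cons (nat_lit 12) (nat_lit 4) (Step.U (nat_lit 2493) (Step.F (nat_lit 9082) (Step.D (nat_lit 1204) (Step.D (nat_lit 2493) (Step.D (nat_lit 4612) Step.done))))) (Scr.cons (nat_lit 12) (nat_lit 4) (Step.U (nat_lit 4613) (Step.D (nat_lit 4612) (Step.F (nat_lit 9083) (Step.D (nat_lit 4613) (Step.D (nat_lit 7574) Step.done))))) (Scr.cons (nat_lit 14) (nat_lit 2) (Step.F (nat_lit 1561) (Step.F (nat_lit 1560) (Step.L (Step.L (Step.L (Step.L (Step.L (Step.L (Step.L (Step.L (Step.D (nat_lit 270) (Step.B (nat_lit 2377) (Step.B (nat_lit 2374) (Step.U (nat_lit 1257) (Step.D (nat_lit 1256) (Step.F (nat_lit 4779) (Step.D (nat_lit 2493) (Step.D (nat_lit 4613) (Step.B (nat_lit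 9084) (Step.D (nat_lit 10609) Step.done)))))))))))))))))))) (Scr.cons (nat_lit 14) (nat_lit 6) (Step.U (nat_lit 10611) (Step.U (nat_lit 7577) (Step.U (nat_lit 4617) (Step.F (nat_lit 2744) (Step.U (nat_lit 1207) (Step.U (nat_lit 481) (Step.D (nat_lit 480) (Step.B (nat_lit 9082) (Step.D (nat_lit 2493) (Step.D (nat_lit 4613) (Step.D (nat_lit 7574) (Step.D (nat_lit 10609) (Step.F (nat_lit 9085) (Step.F (nat_lit 1559) (Step.U (nat_lit 10654) (Step.L (Step.L (Step.L (Step.D (nat_lit 7631) (Step.D (nat_lit 10655) Step.done)))))))))))))))))))) (Scr.cons (nat_lit 4) (nat_lit 0) (Step.B (nat_lit 9086) (Step.U (nat_lit 10655) (Step.U (nat_lit 7631) (Step.D (nat_lit 7632) (Step.D (nat_lit 10657) Step.done))))) (Scr.cons (nat_lit 1) (nat_lit 0) (Step.U (nat_lit 1207) (Step.B (nat_lit 3313) (Step.L Step.done))) (Scr.cons (nat_lit 0) (nat_lit 1) (Step.U (nat_lit 2496) (Step.B (nat_lit 9088) (Step.L Step.done))) (Scr.cons (nat_lit 1) (nat_lit 0) (Step.U (nat_lit 4617) (Step.B (nat_lit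 9089) (Step.L Step.done))) (Scr.cons (nat_lit 1) (nat_lit 0) (Step.U (nat_lit 7577) (Step.B (nat_lit 9090) (Step.L Step.done))) (Scr.cons (nat_lit 0) (nat_lit 1) (Step.U (nat_lit 10611) (Step.B (nat_lit 9091) (Step.L Step.done))) (Scr.cons (nat_lit 1) (nat_lit 1) (Step.F (nat_lit 9087) (Step.B (nat_lit 9092) (Step.D (nat_lit 4149) Step.done))) (Scr.cons (nat_lit 1) (nat_lit 1) (Step.D (nat_lit 10657) (Step.B (nat_lit 9093) (Step.D (nat_lit 7012) Step.done))) (Scr.cons (nat_lit 0) (nat_lit 1) (Step.U (nat_lit 10656) (Step.B (nat_lit 9094) (Step.D (nat_lit 10136) Step.done))) (Scr.cons (nat_lit 1) (nat_lit 1) (Step.F (nat_lit 9081) (Step.B (nat_lit 9095) Step.done)) (Scr.cons (nat_lit 7) (nat_lit 2) (Step.U (nat_lit 10136) (Step.U (nat_lit 7012) (Step.U (nat_lit 4149) (Step.L (Step.L (Step.L (Step.L (Step.L (Step.L (Step.L (Step.L (Step.L (Step.L (Step.L (Step.L (Step.L (Step.L (Step.L (Step.L (Step.D (nat_lit 11731) Step.done)))))))))))))))))))) (Scr.cons (nat_lit 11)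 (nat_lit 0) (Step.B (nat_lit 9096) (Step.B (nat_lit 9097) (Step.U (nat_lit 11731) (Step.L (Step.L (Step.D (nat_lit 11729) Step.done)))))) (Scr.cons (nat_lit 1) (nat_lit 0) (Step.D (nat_lit 11729) (Step.F (nat_lit 9098) (Step.D (nat_lit 10659) Step.done))) (Scr.cons (nat_lit 1) (nat_lit 0) (Step.D (nat_lit 10659) (Step.F (nat_lit 9099) Step.done)) (Scr.cons (nat_lit 12) (nat_lit 4) (Step.L (Step.L (Step.L (Step.L (Step.D (nat_lit 9426) Step.done))))) (Scr.cons (nat_lit 12) (nat_lit 4) (Step.L (Step.D (nat_lit 9426) (Step.F (nat_lit 9101) (Step.L (Step.L Step.done))))) (Scr.cons (nat_lit 12) (nat_lit 1) (Step.L (Step.L (Step.L (Step.L (Step.D (nat_lit 9427) Step.done))))) (Scr.cons (nat_lit 12) (nat_lit 1) (Step.L (Step.D (nat_lit 9427) (Step.F (nat_lit 9103) (Step.L (Step.L Step.done))))) (Scr.cons (nat_lit 12) (nat_lit 4) (Step.L (Step.L (Step.L (Step.L (Step.D (nat_lit 9434) Step.done))))) (Scr.cons (nat_lit 12) (nat_lit 4) (Step.L (Step.D (nat_lit 9434) (Step.F (nat_lit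 9105) (Step.L (Step.L Step.done))))) (Scr.cons (nat_lit 12) (nat_lit 1) (Step.L (Step.L (Step.L (Step.L (Step.D (nat_lit 9450) Step.done))))) (Scr.cons (nat_lit 12) (nat_lit 1) (Step.L (Step.D (nat_lit 9450) (Step.F (nat_lit 9107) (Step.L (Step.L Step.done))))) (Scr.cons (nat_lit 8) (nat_lit 1) (Step.L (Step.L (Step.L (Step.L (Step.L (Step.L (Step.L (Step.L (Step.L (Step.L (Step.L (Step.L (Step.L (Step.L (Step.D (nat_lit 9858) Step.done))))))))))))))) (Scr.cons (nat_lit 12) (nat_lit 0) (Step.B (nat_lit 9109) (Step.U (nat_lit 9858) (Step.L (Step.L (Step.D (nat_lit 9858) Step.done))))) (Scr.cons (nat_lit 12) (nat_lit 4) (Step.L (Step.L (Step.L (Step.L (Step.D (nat_lit 6698) Step.done))))) (Scr.cons (nat_lit 13) (nat_lit 3) (Step.U (nat_lit 5003) (Step.L (Step.L (Step.L (Step.L (Step.L (Step.L (Step.L (Step.L (Step.D (nat_lit 4999) (Step.D (nat_lit 8007) Step.done))))))))))) (Scr.cons (nat_lit 11) (nat_lit 0) (Step.U (nat_lit 8008) (Step.U (nat_lit 4999) (Step.D (nat_lit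 4998) (Step.D (nat_lit 8006) (Step.D (nat_lit 10981) Step.done))))) (Scr.cons (nat_lit 1) (nat_lit 0) (Step.D (nat_lit 9713) (Step.F (nat_lit 3341) (Step.D (nat_lit 8049) Step.done))) (Scr.cons (nat_lit 1) (nat_lit 0) (Step.D (nat_lit 8049) (Step.F (nat_lit 9114) Step.done)) (Scr.cons (nat_lit 9) (nat_lit 2) (Step.L (Step.L (Step.L (Step.L (Step.L (Step.L (Step.L (Step.L (Step.L (Step.L (Step.L (Step.L (Step.L (Step.L (Step.L (Step.L (Step.L (Step.L (Step.L (Step.L (Step.L (Step.D (nat_lit 5001) (Step.D (nat_lit 8012) Step.done))))))))))))))))))))))) (Scr.cons (nat_lit 14) (nat_lit 0) (Step.L (Step.L (Step.L (Step.L (Step.L (Step.D (nat_lit 6560) (Step.F (nat_lit 9115) (Step.U (nat_lit 5028) (Step.U (nat_lit 2763) (Step.L (Step.L (Step.B (nat_lit 9116) (Step.U (nat_lit 8012) (Step.U (nat_lit 5001) (Step.L (Step.L (Step.L (Step.L (Step.D (nat_lit 4998) (Step.D (nat_lit 8006) (Step.D (nat_lit 10981) Step.done))))))))))))))))))))) (Scr.cons (nat_lit 1) (nat_lit 1) (Step.B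 (nat_lit 9113) (Step.F (nat_lit 9117) (Step.L Step.done))) (Scr.cons (nat_lit 1) (nat_lit 1) (Step.D (nat_lit 8008) (Step.B (nat_lit 9118) (Step.L Step.done))) (Scr.cons (nat_lit 0) (nat_lit 1) (Step.U (nat_lit 8007) (Step.B (nat_lit 9119) (Step.D (nat_lit 6698) Step.done))) (Scr.cons (nat_lit 1) (nat_lit 1) (Step.B (nat_lit 9112) (Step.B (nat_lit 9120) (Step.D (nat_lit 9862) Step.done))) (Scr.cons (nat_lit 1) (nat_lit 1) (Step.D (nat_lit 9862) (Step.F (nat_lit 9121) Step.done)) Scr.nil))))))))))))))))))))))))))))))))))))))))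
noncomputable def s228 : Scr := (Scr.cons (nat_lit 7) (nat_lit 0) (Step.U (nat_lit 10987) (Step.U (nat_lit 8016) (Step.F (nat_lit 9122) (Step.U (nat_lit 6698) (Step.L (Step.L (Step.L (Step.L (Step.L (Step.L (Step.L (Step.L (Step.L (Step.L (Step.L (Step.L (Step.L (Step.L (Step.L (Step.D (nat_lit 6551) (Step.D (nat_lit 9699) Step.done))))))))))))))))))))) (Scr.cons (nat_lit 1) (nat_lit 1) (Step.D (nat_lit 10987) (Step.B (nat_lit 9123) Step.done)) (Scr.cons (nat_lit 12) (nat_lit 1) (Step.L (Step.L (Step.L (Step.L (Step.D (nat_lit 6550) Step.done))))) (Scr.cons (nat_lit 12) (nat_lit 1) (Step.U (nat_lit 6551) (Step.D (nat_lit 6550) (Step.F (nat_lit 9125) (Step.D (nat_lit 6551) (Step.D (nat_lit 9699) Step.done))))) (Scr.cons (nat_lit 11) (nat_lit 0) (Step.U (nat_lit 6551) (Step.L (Step.L (Step.D (nat_lit 6549) (Step.D (nat_lit 9698) Step.done))))) (Scr.cons (nat_lit 16) (nat_lit 4) (Step.U (nat_lit 6579) (Step.L (Step.L (Step.L (Step.L (Step.L (Step.L (Step.L (Step.L (Step.L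 (Step.L (Step.L (Step.L (Step.L (Step.L (Step.L (Step.L (Step.L (Step.L (Step.L (Step.L (Step.L (Step.D (nat_lit 9695) Step.done))))))))))))))))))))))) (Scr.cons (nat_lit 4) (nat_lit 0) (Step.U (nat_lit 6578) (Step.D (nat_lit 6579) (Step.B (nat_lit 9128) (Step.U (nat_lit 9695) (Step.D (nat_lit 9696) Step.done))))) (Scr.cons (nat_lit 13) (nat_lit 0) (Step.U (nat_lit 6578) (Step.L (Step.L (Step.L (Step.L (Step.L (Step.L (Step.B (nat_lit 280) (Step.D (nat_lit 3805) (Step.D (nat_lit 6574) (Step.D (nat_lit 9731) Step.done))))))))))) (Scr.cons (nat_lit 11) (nat_lit 0) (Step.U (nat_lit 3854) (Step.U (nat_lit 2001) (Step.L (Step.L (Step.D (nat_lit 6636) Step.done))))) (Scr.cons (nat_lit 12) (nat_lit 1) (Step.U (nat_lit 2001) (Step.L (Step.L (Step.D (nat_lit 2001) (Step.D (nat_lit 3853) Step.done))))) (Scr.cons (nat_lit 12) (nat_lit 1) (Step.U (nat_lit 3854) (Step.D (nat_lit 3853) (Step.F (nat_lit 9132) (Step.D (nat_lit 3854) (Step.D (nat_lit 6637) Step.done))))) (Scr.cons (nat_lit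 12) (nat_lit 1) (Step.F (nat_lit 9131) (Step.D (nat_lit 6637) (Step.F (nat_lit 9133) (Step.B (nat_lit 9131) (Step.D (nat_lit 9794) Step.done))))) (Scr.cons (nat_lit 11) (nat_lit 0) (Step.L (Step.L (Step.D (nat_lit 3587) (Step.D (nat_lit 6282) (Step.D (nat_lit 9460) Step.done))))) (Scr.cons (nat_lit 12) (nat_lit 1) (Step.L (Step.L (Step.L (Step.L (Step.D (nat_lit 9461) Step.done))))) (Scr.cons (nat_lit 12) (nat_lit 1) (Step.F (nat_lit 9135) (Step.D (nat_lit 9461) (Step.F (nat_lit 9136) (Step.B (nat_lit 9135) (Step.D (nat_lit 11751) Step.done))))) (Scr.cons (nat_lit 1) (nat_lit 1) (Step.D (nat_lit 9969) (Step.F (nat_lit 4511) Step.done)) (Scr.cons (nat_lit 7) (nat_lit 0) (Step.U (nat_lit 11126) (Step.U (nat_lit 8157) (Step.L (Step.L (Step.L (Step.L (Step.F (nat_lit 9138) (Step.U (nat_lit 6807) (Step.L (Step.L (Step.L (Step.L (Step.L (Step.L (Step.L (Step.L (Step.L (Step.L (Step.L (Step.D (nat_lit 9793) Step.done)))))))))))))))))))) (Scr.cons (nat_lit 4) (nat_lit 0) (Step.F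 (nat_lit 9139) (Step.U (nat_lit 11126) (Step.U (nat_lit 8157) (Step.D (nat_lit 8158) (Step.D (nat_lit 11127) Step.done))))) (Scr.cons (nat_lit 7) (nat_lit 5) (Step.F (nat_lit 9137) (Step.U (nat_lit 9460) (Step.U (nat_lit 6282) (Step.U (nat_lit 3587) (Step.L (Step.L (Step.L (Step.L (Step.L (Step.L (Step.L (Step.L (Step.L (Step.L (Step.L (Step.D (nat_lit 8158) (Step.D (nat_lit 11127) (Step.F (nat_lit 9140) (Step.U (nat_lit 9793) (Step.L Step.done)))))))))))))))))))) (Scr.cons (nat_lit 12) (nat_lit 4) (Step.U (nat_lit 3804) (Step.F (nat_lit 280) (Step.D (nat_lit 1972) (Step.D (nat_lit 3804) (Step.D (nat_lit 6572) Step.done))))) (Scr.cons (nat_lit 15) (nat_lit 0) (Step.L (Step.L (Step.L (Step.L (Step.L (Step.L (Step.L (Step.L (Step.L (Step.L (Step.L (Step.D (nat_lit 1972) (Step.D (nat_lit 3804) (Step.D (nat_lit 6572) (Step.D (nat_lit 9730) Step.done))))))))))))))) (Scr.cons (nat_lit 12) (nat_lit 4) (Step.U (nat_lit 9730) (Step.F (nat_lit 9142) (Step.D (nat_lit 6572) (Step.D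 (nat_lit 9730) (Step.F (nat_lit 9143) Step.done))))) (Scr.cons (nat_lit 12) (nat_lit 1) (Step.L (Step.D (nat_lit 3503) (Step.F (nat_lit 5444) (Step.L (Step.D (nat_lit 6127) Step.done))))) (Scr.cons (nat_lit 11) (nat_lit 0) (Step.U (nat_lit 6126) (Step.L (Step.L (Step.D (nat_lit 6125) (Step.D (nat_lit 9285) Step.done))))) (Scr.cons (nat_lit 11) (nat_lit 0) (Step.U (nat_lit 1831) (Step.U (nat_lit 832) (Step.D (nat_lit 831) (Step.F (nat_lit 2827) (Step.D (nat_lit 1899) Step.done))))) (Scr.cons (nat_lit 0) (nat_lit 1) (Step.B (nat_lit 4837) (Step.B (nat_lit 4852) (Step.L Step.done))) (Scr.cons (nat_lit 1) (nat_lit 0) (Step.D (nat_lit 327) (Step.B (nat_lit 9148) (Step.L Step.done))) (Scr.cons (nat_lit 0) (nat_lit 1) (Step.B (nat_lit 8) (Step.B (nat_lit 9149) (Step.D (nat_lit 208) Step.done))) (Scr.cons (nat_lit 1) (nat_lit 0) (Step.U (nat_lit 578) (Step.F (nat_lit 9150) (Step.L Step.done))) (Scr.cons (nat_lit 1) (nat_lit 0) (Step.U (nat_lit 1397) (Step.B (nat_lit 9151) (Step.L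 Step.done))) (Scr.cons (nat_lit 0) (nat_lit 1) (Step.U (nat_lit 2840) (Step.B (nat_lit 9152) (Step.D (nat_lit 877) Step.done))) (Scr.cons (nat_lit 1) (nat_lit 1) (Step.U (nat_lit 5132) (Step.B (nat_lit 9153) (Step.D (nat_lit 1899) Step.done))) (Scr.cons (nat_lit 1) (nat_lit 1) (Step.U (nat_lit 8146) (Step.B (nat_lit 9154) (Step.F (nat_lit 9147) Step.done))) (Scr.cons (nat_lit 1) (nat_lit 1) (Step.U (nat_lit 11119) (Step.B (nat_lit 9155) (Step.U (nat_lit 1831) Step.done))) (Scr.cons (nat_lit 11) (nat_lit 0) (Step.U (nat_lit 8147) (Step.U (nat_lit 5133) (Step.D (nat_lit 5132) (Step.D (nat_lit 8146) (Step.D (nat_lit 11119) Step.done))))) (Scr.cons (nat_lit 1) (nat_lit 0) (Step.U (nat_lit 5133) (Step.B (nat_lit 9153) (Step.B (nat_lit 2827) Step.done))) (Scr.cons (nat_lit 1) (nat_lit 0) (Step.U (nat_lit 8147) (Step.B (nat_lit 9158) (Step.U (nat_lit 831) Step.done))) (Scr.cons (nat_lit 12) (nat_lit 1) (Step.U (nat_lit 296) (Step.F (nat_lit 5427) (Step.D (nat_lit 93) (Step.D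 (nat_lit 296) (Step.D (nat_lit 804) Step.done))))) (Scr.cons (nat_lit 12) (nat_lit 1) (Step.U (nat_lit 805) (Step.D (nat_lit 804) (Step.F (nat_lit 9160) (Step.D (nat_lit 805) (Step.D (nat_lit 1796) Step.done))))) (Scr.cons (nat_lit 12) (nat_lit 4) (Step.U (nat_lit 3508) (Step.F (nat_lit 9161) (Step.D (nat_lit 1796) (Step.D (nat_lit 3508) (Step.D (nat_lit 6137) Step.done))))) Scr.nil))))))))))))))))))))))))))))))))))))))))
noncomputable def s229 : Scr := (Scr.cons (nat_lit 12) (nat_lit 4) (Step.U (nat_lit 6138) (Step.D (nat_lit 6137) (Step.F (nat_lit 9162) (Step.D (nat_lit 6138) (Step.D (nat_lit 9302) Step.done))))) (Scr.cons (nat_lit 11) (nat_lit 0) (Step.U (nat_lit 805) (Step.U (nat_lit 296) (Step.D (nat_lit 295) (Step.D (nat_lit 803) (Step.D (nat_lit 1795) Step.done))))) (Scr.cons (nat_lit 12) (nat_lit 4) (Step.U (nat_lit 121) (Step.D (nat_lit 120) (Step.F (nat_lit 5412) (Step.D (nat_lit 121) (Step.D (nat_lit 368) Step.done))))) (Scr.cons (nat_lit 12) (nat_lit 4) (Step.U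 (nat_lit 983) (Step.F (nat_lit 9165) (Step.D (nat_lit 368) (Step.D (nat_lit 983) (Step.D (nat_lit 2105) Step.done))))) (Scr.cons (nat_lit 13) (nat_lit 0) (Step.U (nat_lit 6867) (Step.F (nat_lit 5450) (Step.U (nat_lit 2106) (Step.U (nat_lit 984) (Step.U (nat_lit 369) (Step.D (nat_lit 368) (Step.D (nat_lit 983) (Step.B (nat_lit 9166) (Step.D (nat_lit 4018) (Step.D (nat_lit 6866) (Step.D (nat_lit 10008) Step.done))))))))))) (Scr.cons (nat_lit 7) (nat_lit 2) (Step.U (nat_lit 9302) (Step.U (nat_lit 6138) (Step.U (nat_lit 3508) (Step.F (nat_lit 9161) (Step.B (nat_lit 9164) (Step.U (nat_lit 1795) (Step.U (nat_lit 803) (Step.B (nat_lit 5430) (Step.D (nat_lit 1794) (Step.D (nat_lit 3507) (Step.D (nat_lit 6136) (Step.D (nat_lit 9301) (Step.F (nat_lit 5448) (Step.U (nat_lit 9292) (Step.B (nat_lit 5449) (Step.B (nat_lit 5452) (Step.U (nat_lit 10010) (Step.B (nat_lit 9167) (Step.U (nat_lit 10008) (Step.D (nat_lit 10009) Step.done)))))))))))))))))))) (Scr.cons (nat_lit 1) (nat_lit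 1) (Step.U (nat_lit 121) (Step.F (nat_lit 5414) (Step.L Step.done))) (Scr.cons (nat_lit 0) (nat_lit 1) (Step.U (nat_lit 368) (Step.B (nat_lit 9169) (Step.L Step.done))) (Scr.cons (nat_lit 1) (nat_lit 1) (Step.U (nat_lit 983) (Step.B (nat_lit 9170) (Step.L Step.done))) (Scr.cons (nat_lit 0) (nat_lit 1) (Step.U (nat_lit 2105) (Step.B (nat_lit 9171) (Step.L Step.done))) (Scr.cons (nat_lit 1) (nat_lit 0) (Step.U (nat_lit 4018) (Step.B (nat_lit 9172) (Step.L Step.done))) (Scr.cons (nat_lit 0) (nat_lit 1) (Step.U (nat_lit 6866) (Step.B (nat_lit 9173) (Step.L Step.done))) (Scr.cons (nat_lit 1) (nat_lit 0) (Step.U (nat_lit 10009) (Step.B (nat_lit 9174) (Step.L Step.done))) (Scr.cons (nat_lit 1) (nat_lit 0) (Step.B (nat_lit 9168) (Step.B (nat_lit 9175) (Step.L Step.done))) (Scr.cons (nat_lit 0) (nat_lit 1) (Step.B (nat_lit 9163) (Step.B (nat_lit 9176) (Step.L Step.done))) (Scr.cons (nat_lit 1) (nat_lit 0) (Step.D (nat_lit 6138) (Step.B (nat_lit 9177) (Step.L Step.done))) (Scr.cons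 (nat_lit 1) (nat_lit 0) (Step.D (nat_lit 3508) (Step.B (nat_lit 9178) (Step.L Step.done))) (Scr.cons (nat_lit 0) (nat_lit 1) (Step.B (nat_lit 9161) (Step.B (nat_lit 9179) (Step.L Step.done))) (Scr.cons (nat_lit 1) (nat_lit 1) (Step.D (nat_lit 805) (Step.B (nat_lit 9180) (Step.L Step.done))) (Scr.cons (nat_lit 1) (nat_lit 1) (Step.D (nat_lit 296) (Step.B (nat_lit 9181) (Step.L Step.done))) (Scr.cons (nat_lit 0) (nat_lit 1) (Step.B (nat_lit 5427) (Step.B (nat_lit 9182) (Step.L Step.done))) (Scr.cons (nat_lit 1) (nat_lit 1) (Step.D (nat_lit 21) (Step.B (nat_lit 9183) (Step.D (nat_lit 2) Step.done))) (Scr.cons (nat_lit 1) (nat_lit 1) (Step.U (nat_lit 23) (Step.F (nat_lit 9184) (Step.L Step.done))) (Scr.cons (nat_lit 1) (nat_lit 1) (Step.U (nat_lit 96) (Step.B (nat_lit 9185) (Step.L Step.done))) (Scr.cons (nat_lit 0) (nat_lit 1) (Step.U (nat_lit 305) (Step.B (nat_lit 9186) (Step.L Step.done))) (Scr.cons (nat_lit 1) (nat_lit 0) (Step.F (nat_lit 9156) (Step.F (nat_lit 9157)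 (Step.B (nat_lit 9159) (Step.B (nat_lit 9187) (Step.L Step.done))))) (Scr.cons (nat_lit 1) (nat_lit 0) (Step.U (nat_lit 1831) (Step.B (nat_lit 9188) (Step.L Step.done))) (Scr.cons (nat_lit 1) (nat_lit 0) (Step.F (nat_lit 9147) (Step.B (nat_lit 9189) (Step.L Step.done))) (Scr.cons (nat_lit 0) (nat_lit 1) (Step.U (nat_lit 3682) (Step.B (nat_lit 9190) (Step.L Step.done))) (Scr.cons (nat_lit 1) (nat_lit 1) (Step.U (nat_lit 6408) (Step.B (nat_lit 9191) (Step.L Step.done))) (Scr.cons (nat_lit 1) (nat_lit 1) (Step.U (nat_lit 9551) (Step.B (nat_lit 9192) (Step.D (nat_lit 6125) Step.done))) (Scr.cons (nat_lit 1) (nat_lit 1) (Step.B (nat_lit 2830) (Step.B (nat_lit 9193) (Step.D (nat_lit 9285) Step.done))) (Scr.cons (nat_lit 1) (nat_lit 0) (Step.B (nat_lit 9146) (Step.F (nat_lit 9194) Step.done)) (Scr.cons (nat_lit 7) (nat_lit 6) (Step.F (nat_lit 9145) (Step.L (Step.L (Step.L (Step.L (Step.L (Step.L (Step.L (Step.L (Step.D (nat_lit 6126) (Step.B (nat_lit 9195) (Step.U (nat_lit 6940)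 (Step.U (nat_lit 4080) (Step.L (Step.L (Step.L (Step.L (Step.L (Step.L (Step.L (Step.D (nat_lit 9743) Step.done))))))))))))))))))))) (Scr.cons (nat_lit 1) (nat_lit 1) (Step.D (nat_lit 9743) (Step.F (nat_lit 9196) (Step.D (nat_lit 9288) Step.done))) (Scr.cons (nat_lit 1) (nat_lit 1) (Step.D (nat_lit 9288) (Step.F (nat_lit 9197) Step.done)) (Scr.cons (nat_lit 12) (nat_lit 4) (Step.U (nat_lit 3587) (Step.L (Step.L (Step.D (nat_lit 3587) (Step.D (nat_lit 6281) Step.done))))) (Scr.cons (nat_lit 13) (nat_lit 2) (Step.D (nat_lit 6572) (Step.D (nat_lit 9730) (Step.B (nat_lit 9144) (Step.F (nat_lit 9198) (Step.F (nat_lit 9145) (Step.L (Step.L (Step.L (Step.L (Step.D (nat_lit 3587) (Step.B (nat_lit 9199) (Step.D (nat_lit 9459) Step.done)))))))))))) (Scr.cons (nat_lit 1) (nat_lit 1) (Step.D (nat_lit 9459) (Step.F (nat_lit 9200) (Step.D (nat_lit 6573) Step.done))) (Scr.cons (nat_lit 1) (nat_lit 1) (Step.D (nat_lit 6573) (Step.F (nat_lit 9201) Step.done)) Scr.nil))))))))))))))))))))))))))))))))))))))))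
noncomputable def s230 : Scr := (Scr.cons (nat_lit 12) (nat_lit 1) (Step.U (nat_lit 3805) (Step.F (nat_lit 280) (Step.D (nat_lit 1972) (Step.D (nat_lit 3805) (Step.D (nat_lit 6574) Step.done))))) (Scr.cons (nat_lit 7) (nat_lit 5) (Step.F (nat_lit 9134) (Step.U (nat_lit 6636) (Step.L (Step.L (Step.L (Step.L (Step.L (Step.L (Step.L (Step.L (Step.F (nat_lit 9141) (Step.U (nat_lit 11751) (Step.U (nat_lit 9460) (Step.U (nat_lit 6282) (Step.D (nat_lit 6281) (Step.F (nat_lit 9202) (Step.U (nat_lit 3804) (Step.D (nat_lit 3805) (Step.B (nat_lit 9203) (Step.D (nat_lit 9732) Step.done)))))))))))))))))))) (Scr.cons (nat_lit 7) (nat_lit 6) (Step.F (nat_lit 9126) (Step.B (nat_lit 9127) (Step.U (nat_lit 9698) (Step.U (nat_lit 6549) (Step.L (Step.D (nat_lit 9696) (Step.F (nat_lit 9129) (Step.B (nat_lit 9130) (Step.U (nat_lit 9731) (Step.D (nat_lit 9732) (Step.F (nat_lit 9204) (Step.U (nat_lit 9794) (Step.U (nat_lit 6636) (Step.L (Step.L (Step.L (Step.L (Step.L (Step.L (Step.D (nat_lit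 6644) (Step.D (nat_lit 9808) Step.done))))))))))))))))))))) (Scr.cons (nat_lit 1) (nat_lit 0) (Step.D (nat_lit 9808) (Step.F (nat_lit 9205) Step.done)) (Scr.cons (nat_lit 11) (nat_lit 0) (Step.D (nat_lit 8016) (Step.B (nat_lit 9124) (Step.F (nat_lit 9206) (Step.U (nat_lit 6644) (Step.D (nat_lit 6643) (Step.D (nat_lit 9806) Step.done)))))) (Scr.cons (nat_lit 1) (nat_lit 0) (Step.D (nat_lit 9806) (Step.F (nat_lit 9207) (Step.F (nat_lit 9122) Step.done))) (Scr.cons (nat_lit 0) (nat_lit 1) (Step.B (nat_lit 9111) (Step.F (nat_lit 9208) (Step.D (nat_lit 9805) Step.done))) (Scr.cons (nat_lit 0) (nat_lit 1) (Step.D (nat_lit 9805) (Step.F (nat_lit 9209) Step.done)) (Scr.cons (nat_lit 13) (nat_lit 0) (Step.F (nat_lit 9109) (Step.L (Step.L (Step.L (Step.F (nat_lit 9210) (Step.U (nat_lit 6643) (Step.L (Step.L (Step.L (Step.L (Step.L (Step.L Step.done)))))))))))) (Scr.cons (nat_lit 0) (nat_lit 0) (Step.B (nat_lit 9110) (Step.B (nat_lit 9211) Step.done)) (Scr.cons (nat_lit 12) (nat_lit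 4) (Step.U (nat_lit 8073) (Step.L (Step.L (Step.D (nat_lit 8073) (Step.D (nat_lit 11053) Step.done))))) (Scr.cons (nat_lit 12) (nat_lit 1) (Step.U (nat_lit 3852) (Step.L (Step.L (Step.D (nat_lit 3852) (Step.D (nat_lit 6634) Step.done))))) (Scr.cons (nat_lit 9) (nat_lit 1) (Step.L (Step.L (Step.L (Step.L (Step.L (Step.L (Step.L (Step.L (Step.F (nat_lit 9210) (Step.U (nat_lit 6643) (Step.L (Step.L (Step.L (Step.L (Step.L (Step.L (Step.L (Step.L (Step.L (Step.L (Step.L (Step.D (nat_lit 3852) (Step.B (nat_lit 9214) (Step.D (nat_lit 9791) Step.done)))))))))))))))))))))))) (Scr.cons (nat_lit 1) (nat_lit 1) (Step.D (nat_lit 9791) (Step.F (nat_lit 9215) (Step.L Step.done))) (Scr.cons (nat_lit 0) (nat_lit 1) (Step.B (nat_lit 9214) (Step.B (nat_lit 9216) (Step.D (nat_lit 3908) Step.done))) (Scr.cons (nat_lit 0) (nat_lit 1) (Step.D (nat_lit 3908) (Step.F (nat_lit 9217) Step.done)) (Scr.cons (nat_lit 12) (nat_lit 1) (Step.L (Step.L (Step.L (Step.L (Step.D (nat_lit 3908) Step.done)))))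 (Scr.cons (nat_lit 12) (nat_lit 1) (Step.L (Step.D (nat_lit 3908) (Step.F (nat_lit 9219) (Step.L (Step.D (nat_lit 6707) Step.done))))) (Scr.cons (nat_lit 9) (nat_lit 5) (Step.U (nat_lit 11054) (Step.U (nat_lit 8073) (Step.L (Step.L (Step.L (Step.L (Step.L (Step.L (Step.L (Step.L (Step.L (Step.L (Step.L (Step.L (Step.L (Step.L (Step.L (Step.L (Step.L (Step.L (Step.L (Step.B (nat_lit 9220) (Step.D (nat_lit 9868) Step.done))))))))))))))))))))))) (Scr.cons (nat_lit 8) (nat_lit 0) (Step.L (Step.L (Step.L (Step.L (Step.L (Step.L (Step.L (Step.L (Step.D (nat_lit 3852) (Step.F (nat_lit 9218) (Step.L (Step.B (nat_lit 9220) (Step.D (nat_lit 9868) (Step.F (nat_lit 9221) (Step.U (nat_lit 11054) (Step.B (nat_lit 9213) Step.done)))))))))))))))) (Scr.cons (nat_lit 0) (nat_lit 1) (Step.B (nat_lit 9213) (Step.F (nat_lit 9222) (Step.D (nat_lit 10016) Step.done))) (Scr.cons (nat_lit 0) (nat_lit 1) (Step.D (nat_lit 10016) (Step.F (nat_lit 9223) Step.done)) (Scr.cons (nat_lit 13) (nat_lit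 0) (Step.L (Step.L (Step.D (nat_lit 8073) (Step.F (nat_lit 9224) (Step.L (Step.L (Step.L (Step.L (Step.L (Step.L (Step.L Step.done))))))))))) (Scr.cons (nat_lit 13) (nat_lit 3) (Step.L (Step.L (Step.L (Step.L (Step.L (Step.L (Step.L (Step.L (Step.L (Step.L (Step.D (nat_lit 6289) Step.done))))))))))) (Scr.cons (nat_lit 8) (nat_lit 1) (Step.L (Step.L (Step.L (Step.L (Step.B (nat_lit 9226) (Step.U (nat_lit 6289) (Step.L (Step.L (Step.L (Step.L (Step.L (Step.L (Step.L (Step.L (Step.L Step.done))))))))))))))) (Scr.cons (nat_lit 12) (nat_lit 1) (Step.L (Step.L (Step.L (Step.L (Step.D (nat_lit 9462) Step.done))))) (Scr.cons (nat_lit 12) (nat_lit 1) (Step.L (Step.D (nat_lit 9462) (Step.F (nat_lit 9228) (Step.L (Step.L Step.done))))) (Scr.cons (nat_lit 6) (nat_lit 0) (Step.U (nat_lit 11051) (Step.U (nat_lit 8072) (Step.L (Step.L (Step.L (Step.L (Step.L (Step.L (Step.L (Step.L (Step.L Step.done))))))))))) (Scr.cons (nat_lit 15) (nat_lit 0) (Step.L (Step.L (Step.L (Step.L (Step.L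 (Step.L (Step.L (Step.D (nat_lit 6142) (Step.D (nat_lit 9304) (Step.B (nat_lit 8946) (Step.F (nat_lit 8921) (Step.D (nat_lit 11051) (Step.B (nat_lit 9230) (Step.L (Step.L Step.done))))))))))))))) (Scr.cons (nat_lit 12) (nat_lit 4) (Step.L (Step.L (Step.L (Step.L (Step.D (nat_lit 9489) Step.done))))) (Scr.cons (nat_lit 12) (nat_lit 4) (Step.L (Step.D (nat_lit 9489) (Step.F (nat_lit 9232) (Step.L (Step.L Step.done))))) (Scr.cons (nat_lit 11) (nat_lit 0) (Step.U (nat_lit 9364) (Step.L (Step.L (Step.D (nat_lit 9363) (Step.D (nat_lit 11707) Step.done))))) (Scr.cons (nat_lit 12) (nat_lit 4) (Step.U (nat_lit 8923) (Step.L (Step.L (Step.D (nat_lit 8923) (Step.D (nat_lit 11556) Step.done))))) (Scr.cons (nat_lit 12) (nat_lit 1) (Step.U (nat_lit 2100) (Step.F (nat_lit 3633) (Step.D (nat_lit 977) (Step.D (nat_lit 2100) (Step.D (nat_lit 4013) Step.done))))) (Scr.cons (nat_lit 12) (nat_lit 1) (Step.U (nat_lit 4014) (Step.D (nat_lit 4013) (Step.F (nat_lit 9236) (Step.D (nat_lit 4014)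 (Step.D (nat_lit 6864) Step.done))))) (Scr.cons (nat_lit 11) (nat_lit 0) (Step.L (Step.L (Step.D (nat_lit 770) (Step.D (nat_lit 1743) (Step.D (nat_lit 3425) Step.done))))) (Scr.cons (nat_lit 12) (nat_lit 1) (Step.L (Step.L (Step.L (Step.L (Step.D (nat_lit 3426) Step.done))))) (Scr.cons (nat_lit 12) (nat_lit 1) (Step.F (nat_lit 9238) (Step.D (nat_lit 3426) (Step.F (nat_lit 9239) (Step.B (nat_lit 9238) (Step.D (nat_lit 6035) Step.done))))) (Scr.cons (nat_lit 11) (nat_lit 0) (Step.U (nat_lit 777) (Step.U (nat_lit 281) (Step.L (Step.D (nat_lit 775) (Step.D (nat_lit 1751) Step.done))))) (Scr.cons (nat_lit 12) (nat_lit 1) (Step.U (nat_lit 281) (Step.L (Step.L (Step.D (nat_lit 281) (Step.D (nat_lit 776) Step.done))))) Scr.nil))))))))))))))))))))))))))))))))))))))))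
noncomputable def s231 : Scr := (Scr.cons (nat_lit 12) (nat_lit 1) (Step.U (nat_lit 777) (Step.D (nat_lit 776) (Step.F (nat_lit 9242) (Step.D (nat_lit 777) (Step.D (nat_lit 1752) Step.done))))) (Scr.cons (nat_lit 12) (nat_lit 1) (Step.F (nat_lit 9241) (Step.D (nat_lit 1752) (Step.F (nat_lit 9243) (Step.B (nat_lit 9241) (Step.D (nat_lit 3440) Step.done))))) (Scr.cons (nat_lit 7) (nat_lit 5) (Step.F (nat_lit 9240) (Step.U (nat_lit 3425) (Step.U (nat_lit 1743) (Step.U (nat_lit 770) (Step.L (Step.L (Step.L (Step.L (Step.L (Step.L (Step.L (Step.L (Step.L (Step.L (Step.L (Step.D (nat_lit 281) (Step.D (nat_lit 777) (Step.B (nat_lit 9241) (Step.B (nat_lit 9244) (Step.D (nat_lit 6050) Step.done)))))))))))))))))))) (Scr.cons (nat_lit 1) (nat_lit 1) (Step.B (nat_lit 3630) (Step.B (nat_lit 3750) (Step.D (nat_lit 775) Step.done))) (Scr.cons (nat_lit 1) (nat_lit 1) (Step.D (nat_lit 978) (Step.B (nat_lit 9246) (Step.D (nat_lit 1751) Step.done))) (Scr.cons (nat_lit 0) (nat_lit 1) (Step.U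 (nat_lit 3440) (Step.F (nat_lit 9247) (Step.D (nat_lit 977) Step.done))) (Scr.cons (nat_lit 1) (nat_lit 0) (Step.U (nat_lit 6050) (Step.B (nat_lit 9248) (Step.D (nat_lit 2100) Step.done))) (Scr.cons (nat_lit 1) (nat_lit 0) (Step.B (nat_lit 9245) (Step.B (nat_lit 9249) (Step.D (nat_lit 4014) Step.done))) (Scr.cons (nat_lit 0) (nat_lit 1) (Step.B (nat_lit 9240) (Step.B (nat_lit 9250) (Step.D (nat_lit 6864) Step.done))) (Scr.cons (nat_lit 0) (nat_lit 0) (Step.B (nat_lit 9237) (Step.F (nat_lit 9251) Step.done)) (Scr.cons (nat_lit 12) (nat_lit 4) (Step.U (nat_lit 770) (Step.L (Step.L (Step.D (nat_lit 770) (Step.D (nat_lit 1742) Step.done))))) (Scr.cons (nat_lit 12) (nat_lit 1) (Step.U (nat_lit 3424) (Step.F (nat_lit 9253) (Step.D (nat_lit 1742) (Step.D (nat_lit 3424) (Step.D (nat_lit 6034) Step.done))))) (Scr.cons (nat_lit 13) (nat_lit 0) (Step.U (nat_lit 6036) (Step.F (nat_lit 5914) (Step.U (nat_lit 1744) (Step.U (nat_lit 771) (Step.U (nat_lit 279) (Step.L (Step.D (nat_lit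 770) (Step.B (nat_lit 9253) (Step.D (nat_lit 3424) (Step.D (nat_lit 6034) (Step.D (nat_lit 9183) Step.done))))))))))) (Scr.cons (nat_lit 11) (nat_lit 0) (Step.B (nat_lit 5915) (Step.U (nat_lit 9185) (Step.U (nat_lit 6037) (Step.D (nat_lit 6036) (Step.D (nat_lit 9184) Step.done))))) (Scr.cons (nat_lit 1) (nat_lit 0) (Step.D (nat_lit 9490) (Step.F (nat_lit 5911) (Step.B (nat_lit 9256) Step.done))) (Scr.cons (nat_lit 1) (nat_lit 0) (Step.D (nat_lit 9184) (Step.F (nat_lit 9257) (Step.U (nat_lit 6325) Step.done))) (Scr.cons (nat_lit 0) (nat_lit 1) (Step.F (nat_lit 9255) (Step.B (nat_lit 9258) (Step.F (nat_lit 5891) Step.done))) (Scr.cons (nat_lit 1) (nat_lit 0) (Step.D (nat_lit 9183) (Step.B (nat_lit 9259) (Step.U (nat_lit 1864) Step.done))) (Scr.cons (nat_lit 0) (nat_lit 1) (Step.B (nat_lit 9254) (Step.B (nat_lit 9260) (Step.F (nat_lit 5890) Step.done))) (Scr.cons (nat_lit 1) (nat_lit 1) (Step.D (nat_lit 3424) (Step.B (nat_lit 9261) (Step.F (nat_lit 5889) Step.done))) (Scr.cons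 (nat_lit 0) (nat_lit 1) (Step.B (nat_lit 9253) (Step.B (nat_lit 9262) (Step.L Step.done))) (Scr.cons (nat_lit 1) (nat_lit 1) (Step.U (nat_lit 1743) (Step.B (nat_lit 9263) (Step.L Step.done))) (Scr.cons (nat_lit 1) (nat_lit 1) (Step.U (nat_lit 3425) (Step.B (nat_lit 9264) (Step.L Step.done))) (Scr.cons (nat_lit 0) (nat_lit 1) (Step.B (nat_lit 9252) (Step.B (nat_lit 9265) (Step.D (nat_lit 3625) Step.done))) (Scr.cons (nat_lit 1) (nat_lit 1) (Step.D (nat_lit 4014) (Step.B (nat_lit 9266) (Step.D (nat_lit 6329) Step.done))) (Scr.cons (nat_lit 1) (nat_lit 1) (Step.D (nat_lit 6329) (Step.F (nat_lit 9267) Step.done)) (Scr.cons (nat_lit 12) (nat_lit 4) (Step.L (Step.L (Step.L (Step.L (Step.D (nat_lit 3625) Step.done))))) (Scr.cons (nat_lit 12) (nat_lit 1) (Step.U (nat_lit 6330) (Step.F (nat_lit 9269) (Step.D (nat_lit 3625) (Step.D (nat_lit 6330) (Step.D (nat_lit 9493) Step.done))))) (Scr.cons (nat_lit 9) (nat_lit 5) (Step.U (nat_lit 11557) (Step.U (nat_lit 8923) (Step.L (Step.L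 (Step.L (Step.L (Step.L (Step.L (Step.L (Step.L (Step.L (Step.L (Step.L (Step.D (nat_lit 3) (Step.D (nat_lit 32) (Step.B (nat_lit 3632) (Step.D (nat_lit 364) (Step.B (nat_lit 3633) (Step.D (nat_lit 2100) (Step.F (nat_lit 9268) (Step.D (nat_lit 6330) (Step.B (nat_lit 9270) (Step.D (nat_lit 11755) Step.done))))))))))))))))))))))) (Scr.cons (nat_lit 12) (nat_lit 4) (Step.U (nat_lit 235) (Step.F (nat_lit 4336) (Step.D (nat_lit 64) (Step.D (nat_lit 235) (Step.D (nat_lit 654) Step.done))))) (Scr.cons (nat_lit 12) (nat_lit 4) (Step.U (nat_lit 1553) (Step.F (nat_lit 9272) (Step.D (nat_lit 654) (Step.D (nat_lit 1553) (Step.D (nat_lit 3094) Step.done))))) (Scr.cons (nat_lit 12) (nat_lit 4) (Step.U (nat_lit 3095) (Step.D (nat_lit 3094) (Step.F (nat_lit 9273) (Step.D (nat_lit 3095) (Step.D (nat_lit 5519) Step.done))))) (Scr.cons (nat_lit 11) (nat_lit 0) (Step.U (nat_lit 1866) (Step.U (nat_lit 855) (Step.L (Step.L (Step.D (nat_lit 3626) Step.done))))) (Scr.cons (nat_lit 12) (nat_lit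 1) (Step.U (nat_lit 1866) (Step.D (nat_lit 1865) (Step.F (nat_lit 5887) (Step.D (nat_lit 1866) (Step.D (nat_lit 3628) Step.done))))) (Scr.cons (nat_lit 12) (nat_lit 1) (Step.F (nat_lit 9275) (Step.D (nat_lit 3628) (Step.F (nat_lit 9276) (Step.B (nat_lit 9275) (Step.D (nat_lit 6331) Step.done))))) (Scr.cons (nat_lit 11) (nat_lit 0) (Step.U (nat_lit 848) (Step.L (Step.D (nat_lit 312) (Step.D (nat_lit 847) (Step.D (nat_lit 1854) Step.done))))) (Scr.cons (nat_lit 12) (nat_lit 1) (Step.U (nat_lit 848) (Step.L (Step.L (Step.D (nat_lit 848) (Step.D (nat_lit 1855) Step.done))))) (Scr.cons (nat_lit 12) (nat_lit 1) (Step.F (nat_lit 9278) (Step.D (nat_lit 1855) (Step.F (nat_lit 9279) (Step.B (nat_lit 9278) (Step.D (nat_lit 3608) Step.done))))) (Scr.cons (nat_lit 14) (nat_lit 2) (Step.F (nat_lit 9277) (Step.F (nat_lit 9275) (Step.U (nat_lit 1866) (Step.U (nat_lit 855) (Step.L (Step.L (Step.L (Step.L (Step.L (Step.L (Step.L (Step.L (Step.L (Step.L (Step.L (Step.D (nat_lit 312) (Step.D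 (nat_lit 847) (Step.D (nat_lit 1854) (Step.B (nat_lit 9280) (Step.D (nat_lit 6307) Step.done)))))))))))))))))))) (Scr.cons (nat_lit 1) (nat_lit 1) (Step.D (nat_lit 657) (Step.B (nat_lit 4351) (Step.D (nat_lit 312) Step.done))) Scr.nil))))))))))))))))))))))))))))))))))))))))
noncomputable def s232 : Scr := (Scr.cons (nat_lit 1) (nat_lit 1) (Step.U (nat_lit 847) (Step.F (nat_lit 9282) (Step.U (nat_lit 236) Step.done))) (Scr.cons (nat_lit 1) (nat_lit 1) (Step.U (nat_lit 1854) (Step.B (nat_lit 9283) (Step.D (nat_lit 235) Step.done))) (Scr.cons (nat_lit 0) (nat_lit 1) (Step.U (nat_lit 3608) (Step.B (nat_lit 9284) (Step.D (nat_lit 654) Step.done))) (Scr.cons (nat_lit 1) (nat_lit 1) (Step.U (nat_lit 6307) (Step.B (nat_lit 9285) (Step.D (nat_lit 1553) Step.done))) (Scr.cons (nat_lit 1) (nat_lit 1) (Step.B (nat_lit 9281) (Step.B (nat_lit 9286) (Step.D (nat_lit 3095) Step.done))) (Scr.cons (nat_lit 0) (nat_lit 1) (Step.B (nat_lit 9277) (Step.B (nat_lit 9287) (Step.D (nat_lit 5519)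 Step.done))) (Scr.cons (nat_lit 0) (nat_lit 0) (Step.B (nat_lit 9274) (Step.F (nat_lit 9288) Step.done)) (Scr.cons (nat_lit 1) (nat_lit 0) (Step.U (nat_lit 1866) (Step.B (nat_lit 5923) (Step.L Step.done))) (Scr.cons (nat_lit 1) (nat_lit 0) (Step.F (nat_lit 9275) (Step.B (nat_lit 9290) (Step.L Step.done))) (Scr.cons (nat_lit 0) (nat_lit 1) (Step.B (nat_lit 9289) (Step.B (nat_lit 9291) (Step.D (nat_lit 3426) Step.done))) (Scr.cons (nat_lit 0) (nat_lit 1) (Step.D (nat_lit 3426) (Step.F (nat_lit 9292) Step.done)) (Scr.cons (nat_lit 16) (nat_lit 2) (Step.F (nat_lit 9234) (Step.U (nat_lit 9364) (Step.L (Step.L (Step.L (Step.L (Step.L (Step.L (Step.L (Step.L (Step.L (Step.L (Step.L (Step.D (nat_lit 0) (Step.D (nat_lit 11) (Step.D (nat_lit 64) (Step.D (nat_lit 235) (Step.D (nat_lit 654) (Step.D (nat_lit 1553) (Step.D (nat_lit 3095) (Step.D (nat_lit 5520) (Step.D (nat_lit 8614) (Step.D (nat_lit 11414) Step.done))))))))))))))))))))))) (Scr.cons (nat_lit 15) (nat_lit 1) (Step.F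 (nat_lit 9235) (Step.D (nat_lit 11557) (Step.B (nat_lit 9271) (Step.U (nat_lit 11755) (Step.F (nat_lit 9270) (Step.U (nat_lit 6330) (Step.F (nat_lit 9269) (Step.L (Step.B (nat_lit 9293) (Step.D (nat_lit 5520) (Step.D (nat_lit 8614) (Step.D (nat_lit 11414) (Step.F (nat_lit 9294) (Step.F (nat_lit 9234) (Step.D (nat_lit 11708) Step.done))))))))))))))) (Scr.cons (nat_lit 11) (nat_lit 0) (Step.U (nat_lit 8924) (Step.L (Step.L (Step.D (nat_lit 8923) (Step.D (nat_lit 11557) Step.done))))) (Scr.cons (nat_lit 16) (nat_lit 2) (Step.L (Step.L (Step.B (nat_lit 555) (Step.U (nat_lit 6222) (Step.L (Step.L (Step.L (Step.D (nat_lit 9363) (Step.D (nat_lit 11707) (Step.F (nat_lit 9234) (Step.D (nat_lit 11708) (Step.F (nat_lit 9295) (Step.F (nat_lit 9235) (Step.D (nat_lit 11557) (Step.F (nat_lit 9296) (Step.U (nat_lit 8924) (Step.L (Step.L (Step.L (Step.B (nat_lit 462) (Step.U (nat_lit 5668) (Step.L (Step.L (Step.D (nat_lit 11482) Step.done)))))))))))))))))))))))) (Scr.cons (nat_lit 1)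 (nat_lit 0) (Step.D (nat_lit 11482) (Step.F (nat_lit 9297) (Step.D (nat_lit 11722) Step.done))) (Scr.cons (nat_lit 1) (nat_lit 0) (Step.D (nat_lit 11722) (Step.F (nat_lit 9298) Step.done)) (Scr.cons (nat_lit 12) (nat_lit 4) (Step.L (Step.L (Step.L (Step.L (Step.D (nat_lit 9507) Step.done))))) (Scr.cons (nat_lit 12) (nat_lit 4) (Step.L (Step.D (nat_lit 9507) (Step.F (nat_lit 9300) (Step.L (Step.L Step.done))))) (Scr.cons (nat_lit 11) (nat_lit 0) (Step.U (nat_lit 9096) (Step.U (nat_lit 5936) (Step.L (Step.L (Step.L Step.done))))) (Scr.cons (nat_lit 12) (nat_lit 1) (Step.U (nat_lit 5936) (Step.L (Step.L (Step.D (nat_lit 5936) (Step.D (nat_lit 9095) Step.done))))) (Scr.cons (nat_lit 12) (nat_lit 1) (Step.U (nat_lit 9096) (Step.D (nat_lit 9095) (Step.F (nat_lit 9303) (Step.D (nat_lit 9096) (Step.D (nat_lit 11616) Step.done))))) (Scr.cons (nat_lit 12) (nat_lit 1) (Step.F (nat_lit 9302) (Step.D (nat_lit 11616) (Step.F (nat_lit 9304) (Step.B (nat_lit 9302) (Step.L Step.done)))))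 (Scr.cons (nat_lit 7) (nat_lit 5) (Step.L (Step.L (Step.L (Step.L (Step.L (Step.L (Step.L (Step.L (Step.L (Step.L (Step.L (Step.L (Step.L (Step.L (Step.L (Step.L (Step.L (Step.L (Step.L (Step.D (nat_lit 9515) Step.done)))))))))))))))))))) (Scr.cons (nat_lit 11) (nat_lit 0) (Step.L (Step.B (nat_lit 9306) (Step.U (nat_lit 9515) (Step.L (Step.L Step.done))))) (Scr.cons (nat_lit 12) (nat_lit 1) (Step.L (Step.L (Step.L (Step.L (Step.D (nat_lit 1889) Step.done))))) (Scr.cons (nat_lit 12) (nat_lit 1) (Step.U (nat_lit 3664) (Step.F (nat_lit 9308) (Step.D (nat_lit 1889) (Step.D (nat_lit 3664) (Step.D (nat_lit 6376) Step.done))))) (Scr.cons (nat_lit 8) (nat_lit 1) (Step.L (Step.L (Step.L (Step.L (Step.L (Step.L (Step.L (Step.L (Step.L (Step.L (Step.L (Step.B (nat_lit 9308) (Step.D (nat_lit 3664) (Step.B (nat_lit 9309) (Step.D (nat_lit 9525) Step.done))))))))))))))) (Scr.cons (nat_lit 12) (nat_lit 0) (Step.B (nat_lit 9310) (Step.U (nat_lit 9525) (Step.F (nat_lit 9309) (Step.D (nat_lit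 6376) (Step.D (nat_lit 9525) Step.done))))) (Scr.cons (nat_lit 12) (nat_lit 4) (Step.L (Step.B (nat_lit 9310) (Step.F (nat_lit 9311) (Step.L (Step.L Step.done))))) (Scr.cons (nat_lit 12) (nat_lit 4) (Step.L (Step.L (Step.L (Step.L (Step.D (nat_lit 6706) Step.done))))) (Scr.cons (nat_lit 12) (nat_lit 4) (Step.L (Step.L (Step.L (Step.L (Step.D (nat_lit 6576) Step.done))))) (Scr.cons (nat_lit 12) (nat_lit 1) (Step.L (Step.L (Step.L (Step.L (Step.D (nat_lit 7998) Step.done))))) (Scr.cons (nat_lit 13) (nat_lit 0) (Step.U (nat_lit 8000) (Step.F (nat_lit 5307) (Step.U (nat_lit 2746) (Step.L (Step.L (Step.L (Step.L (Step.L (Step.L (Step.D (nat_lit 7998) (Step.D (nat_lit 10973) Step.done))))))))))) (Scr.cons (nat_lit 1) (nat_lit 1) (Step.D (nat_lit 9803) (Step.F (nat_lit 5325) (Step.U (nat_lit 4991) Step.done))) (Scr.cons (nat_lit 0) (nat_lit 1) (Step.B (nat_lit 5305) (Step.B (nat_lit 9317) (Step.D (nat_lit 4990) Step.done))) (Scr.cons (nat_lit 1) (nat_lit 1) (Step.U (nat_lit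 8000) (Step.F (nat_lit 9318) (Step.L Step.done))) (Scr.cons (nat_lit 0) (nat_lit 1) (Step.F (nat_lit 9316) (Step.B (nat_lit 9319) (Step.L Step.done))) (Scr.cons (nat_lit 1) (nat_lit 0) (Step.D (nat_lit 10973) (Step.B (nat_lit 9320) (Step.D (nat_lit 6644) Step.done))) (Scr.cons (nat_lit 0) (nat_lit 1) (Step.B (nat_lit 9315) (Step.B (nat_lit 9321) (Step.D (nat_lit 9807) Step.done))) Scr.nil))))))))))))))))))))))))))))))))))))))))
noncomputable def s233 : Scr := (Scr.cons (nat_lit 0) (nat_lit 1) (Step.D (nat_lit 9807) (Step.F (nat_lit 9322) Step.done)) (Scr.cons (nat_lit 11) (nat_lit 0) (Step.U (nat_lit 7999) (Step.L (Step.L (Step.D (nat_lit 7997) (Step.D (nat_lit 10972) Step.done))))) (Scr.cons (nat_lit 12) (nat_lit 1) (Step.U (nat_lit 6644) (Step.L (Step.L (Step.D (nat_lit 6644) (Step.D (nat_lit 9807) Step.done))))) (Scr.cons (nat_lit 0) (nat_lit 0) (Step.B (nat_lit 9325) (Step.F (nat_lit 9322) Step.done)) (Scr.cons (nat_lit 1) (nat_lit 0) (Step.F (nat_lit 9122) (Step.F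 (nat_lit 9208) Step.done)) (Scr.cons (nat_lit 11) (nat_lit 0) (Step.U (nat_lit 3663) (Step.U (nat_lit 1888) (Step.D (nat_lit 1887) (Step.D (nat_lit 3661) (Step.D (nat_lit 6373) Step.done))))) (Scr.cons (nat_lit 12) (nat_lit 4) (Step.L (Step.L (Step.L (Step.L (Step.D (nat_lit 325) Step.done))))) (Scr.cons (nat_lit 12) (nat_lit 4) (Step.L (Step.D (nat_lit 325) (Step.F (nat_lit 9329) (Step.L (Step.D (nat_lit 872) Step.done))))) (Scr.cons (nat_lit 12) (nat_lit 1) (Step.U (nat_lit 1888) (Step.F (nat_lit 9330) (Step.D (nat_lit 872) (Step.D (nat_lit 1888) (Step.D (nat_lit 3662) Step.done))))) (Scr.cons (nat_lit 12) (nat_lit 1) (Step.U (nat_lit 3663) (Step.D (nat_lit 3662) (Step.F (nat_lit 9331) (Step.D (nat_lit 3663) (Step.D (nat_lit 6374) Step.done))))) (Scr.cons (nat_lit 12) (nat_lit 1) (Step.F (nat_lit 9328) (Step.D (nat_lit 6374) (Step.F (nat_lit 9332) (Step.B (nat_lit 9328) (Step.D (nat_lit 9523) Step.done))))) (Scr.cons (nat_lit 0) (nat_lit 1) (Step.B (nat_lit 3327) (Step.F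 (nat_lit 4538) Step.done)) (Scr.cons (nat_lit 16) (nat_lit 1) (Step.F (nat_lit 9333) (Step.F (nat_lit 9328) (Step.U (nat_lit 3663) (Step.U (nat_lit 1888) (Step.F (nat_lit 9330) (Step.L (Step.L (Step.L (Step.D (nat_lit 6375) (Step.B (nat_lit 3278) (Step.B (nat_lit 9334) (Step.B (nat_lit 4542) (Step.L (Step.L (Step.L (Step.L (Step.L (Step.L (Step.L (Step.L (Step.L (Step.D (nat_lit 8017) (Step.D (nat_lit 10988) Step.done))))))))))))))))))))))) (Scr.cons (nat_lit 11) (nat_lit 0) (Step.U (nat_lit 6386) (Step.U (nat_lit 3671) (Step.L (Step.L (Step.D (nat_lit 9535) Step.done))))) (Scr.cons (nat_lit 12) (nat_lit 1) (Step.U (nat_lit 3671) (Step.L (Step.L (Step.D (nat_lit 3671) (Step.D (nat_lit 6385) Step.done))))) (Scr.cons (nat_lit 12) (nat_lit 1) (Step.U (nat_lit 6386) (Step.D (nat_lit 6385) (Step.F (nat_lit 9337) (Step.D (nat_lit 6386) (Step.D (nat_lit 9537) Step.done))))) (Scr.cons (nat_lit 12) (nat_lit 1) (Step.F (nat_lit 9336) (Step.D (nat_lit 9537) (Step.F (nat_lit 9338)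 (Step.B (nat_lit 9336) (Step.D (nat_lit 11773) Step.done))))) (Scr.cons (nat_lit 14) (nat_lit 2) (Step.F (nat_lit 9339) (Step.F (nat_lit 9336) (Step.U (nat_lit 6386) (Step.U (nat_lit 3671) (Step.L (Step.L (Step.L (Step.L (Step.L (Step.L (Step.L (Step.L (Step.L (Step.L (Step.D (nat_lit 872) (Step.D (nat_lit 1887) (Step.D (nat_lit 3661) (Step.D (nat_lit 6373) (Step.B (nat_lit 9333) (Step.D (nat_lit 11770) Step.done)))))))))))))))))))) (Scr.cons (nat_lit 12) (nat_lit 4) (Step.L (Step.L (Step.L (Step.L (Step.D (nat_lit 6781) Step.done))))) (Scr.cons (nat_lit 12) (nat_lit 4) (Step.U (nat_lit 6782) (Step.D (nat_lit 6781) (Step.F (nat_lit 9341) (Step.D (nat_lit 6782) (Step.D (nat_lit 9948) Step.done))))) (Scr.cons (nat_lit 14) (nat_lit 1) (Step.L (Step.L (Step.L (Step.L (Step.L (Step.L (Step.L (Step.L (Step.L (Step.L (Step.L (Step.L (Step.L (Step.L (Step.L (Step.L (Step.L (Step.L (Step.L (Step.D (nat_lit 6782) (Step.B (nat_lit 9342) Step.done))))))))))))))))))))) (Scr.cons (nat_lit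 0) (nat_lit 1) (Step.B (nat_lit 9342) (Step.F (nat_lit 9343) (Step.D (nat_lit 9534) Step.done))) (Scr.cons (nat_lit 0) (nat_lit 1) (Step.D (nat_lit 9534) (Step.F (nat_lit 9344) Step.done)) (Scr.cons (nat_lit 13) (nat_lit 0) (Step.U (nat_lit 9947) (Step.F (nat_lit 9341) (Step.D (nat_lit 6782) (Step.F (nat_lit 9345) (Step.L (Step.L (Step.L (Step.L (Step.D (nat_lit 3671) (Step.D (nat_lit 6385) (Step.D (nat_lit 9536) Step.done))))))))))) (Scr.cons (nat_lit 6) (nat_lit 3) (Step.L (Step.L (Step.L (Step.L (Step.L (Step.L (Step.L (Step.L (Step.L (Step.B (nat_lit 94) (Step.D (nat_lit 908) Step.done))))))))))) (Scr.cons (nat_lit 12) (nat_lit 1) (Step.U (nat_lit 1962) (Step.F (nat_lit 95) (Step.D (nat_lit 910) (Step.D (nat_lit 1962) (Step.D (nat_lit 3790) Step.done))))) (Scr.cons (nat_lit 8) (nat_lit 1) (Step.F (nat_lit 9346) (Step.U (nat_lit 9947) (Step.U (nat_lit 6781) (Step.L (Step.L (Step.L (Step.L (Step.L (Step.B (nat_lit 9347) (Step.U (nat_lit 908) (Step.U (nat_lit 337) (Step.L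 (Step.B (nat_lit 95) (Step.D (nat_lit 1962) (Step.B (nat_lit 9348) (Step.D (nat_lit 6555) Step.done)))))))))))))))) (Scr.cons (nat_lit 1) (nat_lit 0) (Step.D (nat_lit 9536) (Step.B (nat_lit 9349) (Step.D (nat_lit 9704) Step.done))) (Scr.cons (nat_lit 1) (nat_lit 0) (Step.D (nat_lit 9704) (Step.F (nat_lit 9350) Step.done)) (Scr.cons (nat_lit 12) (nat_lit 4) (Step.U (nat_lit 6554) (Step.F (nat_lit 9348) (Step.D (nat_lit 3790) (Step.D (nat_lit 6554) (Step.D (nat_lit 9703) Step.done))))) (Scr.cons (nat_lit 14) (nat_lit 1) (Step.F (nat_lit 9324) (Step.U (nat_lit 7999) (Step.F (nat_lit 9326) (Step.U (nat_lit 6644) (Step.D (nat_lit 6643) (Step.F (nat_lit 9327) (Step.U (nat_lit 5003) (Step.L (Step.D (nat_lit 8017) (Step.D (nat_lit 10988) (Step.F (nat_lit 9335) (Step.D (nat_lit 11770) (Step.F (nat_lit 9340) (Step.U (nat_lit 11773) (Step.F (nat_lit 9336) (Step.U (nat_lit 6386) (Step.D (nat_lit 6385) (Step.F (nat_lit 9351) (Step.U (nat_lit 6555) (Step.D (nat_lit 6554) (Step.B (nat_lit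 9352) Step.done))))))))))))))))))))) (Scr.cons (nat_lit 1) (nat_lit 0) (Step.B (nat_lit 9324) (Step.B (nat_lit 9353) Step.done)) (Scr.cons (nat_lit 1) (nat_lit 1) (Step.D (nat_lit 10972) (Step.B (nat_lit 9353) Step.done)) (Scr.cons (nat_lit 12) (nat_lit 4) (Step.U (nat_lit 7997) (Step.L (Step.L (Step.D (nat_lit 7997) (Step.D (nat_lit 10971) Step.done))))) (Scr.cons (nat_lit 13) (nat_lit 3) (Step.U (nat_lit 9696) (Step.L (Step.L (Step.L (Step.L (Step.B (nat_lit 95) (Step.D (nat_lit 1962) (Step.D (nat_lit 3790) (Step.D (nat_lit 6554) (Step.B (nat_lit 9352) (Step.F (nat_lit 9355) (Step.D (nat_lit 10971) Step.done)))))))))))) (Scr.cons (nat_lit 0) (nat_lit 0) (Step.B (nat_lit 9356) (Step.F (nat_lit 9357) Step.done)) (Scr.cons (nat_lit 11) (nat_lit 0) (Step.L (Step.L (Step.L (Step.L (Step.D (nat_lit 6577) Step.done))))) (Scr.cons (nat_lit 7) (nat_lit 5) (Step.L (Step.L (Step.L (Step.L (Step.L (Step.F (nat_lit 9210) (Step.U (nat_lit 6643) (Step.D (nat_lit 6644) (Step.B (nat_lit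 9323) (Step.D (nat_lit 7999) (Step.B (nat_lit 9354) (Step.F (nat_lit 9355) (Step.B (nat_lit 9358) (Step.F (nat_lit 9129) (Step.U (nat_lit 6578) (Step.L (Step.L (Step.B (nat_lit 9359) (Step.U (nat_lit 6577) (Step.B (nat_lit 9314) (Step.D (nat_lit 9736) Step.done))))))))))))))))))))) (Scr.cons (nat_lit 1) (nat_lit 1) (Step.D (nat_lit 9736) (Step.F (nat_lit 9360) (Step.L Step.done))) (Scr.cons (nat_lit 0) (nat_lit 1) (Step.B (nat_lit 9314) (Step.B (nat_lit 9361) (Step.D (nat_lit 6706) Step.done))) Scr.nil))))))))))))))))))))))))))))))))))))))))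
noncomputable def s234 : Scr := (Scr.cons (nat_lit 0) (nat_lit 0) (Step.B (nat_lit 9313) (Step.F (nat_lit 9362) Step.done)) (Scr.cons (nat_lit 6) (nat_lit 3) (Step.U (nat_lit 6578) (Step.L (Step.L (Step.L (Step.L (Step.L (Step.L (Step.D (nat_lit 1972) (Step.D (nat_lit 3805) (Step.B (nat_lit 9203) (Step.D (nat_lit 9731) Step.done))))))))))) (Scr.cons (nat_lit 9) (nat_lit 1) (Step.L (Step.L (Step.L (Step.L (Step.L (Step.L (Step.L (Step.L (Step.D (nat_lit 6644) (Step.B (nat_lit 9326) (Step.D (nat_lit 7999) (Step.B (nat_lit 9354) (Step.F (nat_lit 9355) (Step.B (nat_lit 9358) (Step.F (nat_lit 9129) (Step.B (nat_lit 9364) (Step.U (nat_lit 9731) (Step.D (nat_lit 9732) (Step.F (nat_lit 9204) (Step.U (nat_lit 9794) (Step.U (nat_lit 6636) (Step.L (Step.L Step.done))))))))))))))))))))))) (Scr.cons (nat_lit 12) (nat_lit 1) (Step.L (Step.L (Step.L (Step.L (Step.D (nat_lit 9538) Step.done))))) (Scr.cons (nat_lit 12) (nat_lit 1) (Step.L (Step.D (nat_lit 9538) (Step.F (nat_lit 9366)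 (Step.L (Step.L Step.done))))) (Scr.cons (nat_lit 12) (nat_lit 1) (Step.L (Step.L (Step.L (Step.L (Step.D (nat_lit 9547) Step.done))))) (Scr.cons (nat_lit 12) (nat_lit 1) (Step.L (Step.D (nat_lit 9547) (Step.F (nat_lit 9368) (Step.L (Step.L Step.done))))) (Scr.cons (nat_lit 7) (nat_lit 1) (Step.U (nat_lit 11758) (Step.L (Step.L (Step.L (Step.L (Step.L (Step.L (Step.L (Step.L (Step.L (Step.L (Step.L (Step.L (Step.L (Step.L (Step.L (Step.L (Step.L (Step.L (Step.D (nat_lit 11775) Step.done)))))))))))))))))))) (Scr.cons (nat_lit 11) (nat_lit 0) (Step.L (Step.D (nat_lit 11758) (Step.B (nat_lit 9370) (Step.U (nat_lit 11775) (Step.L Step.done))))) (Scr.cons (nat_lit 11) (nat_lit 0) (Step.U (nat_lit 6520) (Step.L (Step.L (Step.L (Step.D (nat_lit 9665) Step.done))))) (Scr.cons (nat_lit 9) (nat_lit 3) (Step.U (nat_lit 9557) (Step.L (Step.L (Step.L (Step.L (Step.L (Step.L (Step.L (Step.L (Step.L (Step.L (Step.B (nat_lit 3578) (Step.B (nat_lit 3579) (Step.F (nat_lit 3588) (Step.B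 (nat_lit 3593) (Step.U (nat_lit 10389) (Step.B (nat_lit 4657) (Step.U (nat_lit 6521) (Step.U (nat_lit 3765) (Step.L (Step.L (Step.L (Step.D (nat_lit 6520) (Step.B (nat_lit 9372) Step.done)))))))))))))))))))))))) (Scr.cons (nat_lit 1) (nat_lit 1) (Step.D (nat_lit 9665) (Step.F (nat_lit 9373) Step.done)) (Scr.cons (nat_lit 12) (nat_lit 4) (Step.L (Step.L (Step.L (Step.L (Step.D (nat_lit 9557) Step.done))))) (Scr.cons (nat_lit 6) (nat_lit 0) (Step.L (Step.B (nat_lit 9374) (Step.F (nat_lit 9375) (Step.L (Step.L (Step.L (Step.L (Step.L (Step.L (Step.L (Step.L Step.done))))))))))) (Scr.cons (nat_lit 12) (nat_lit 4) (Step.L (Step.L (Step.L (Step.L (Step.D (nat_lit 9568) Step.done))))) (Scr.cons (nat_lit 12) (nat_lit 4) (Step.L (Step.D (nat_lit 9568) (Step.F (nat_lit 9377) (Step.L (Step.L Step.done))))) (Scr.cons (nat_lit 12) (nat_lit 4) (Step.L (Step.L (Step.L (Step.L (Step.D (nat_lit 9590) Step.done))))) (Scr.cons (nat_lit 12) (nat_lit 4) (Step.L (Step.D (nat_lit 9590) (Step.F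 (nat_lit 9379) (Step.L (Step.L Step.done))))) (Scr.cons (nat_lit 12) (nat_lit 1) (Step.L (Step.L (Step.L (Step.L (Step.D (nat_lit 9614) Step.done))))) (Scr.cons (nat_lit 12) (nat_lit 1) (Step.L (Step.D (nat_lit 9614) (Step.F (nat_lit 9381) (Step.L (Step.L Step.done))))) (Scr.cons (nat_lit 12) (nat_lit 4) (Step.L (Step.L (Step.L (Step.L (Step.D (nat_lit 9615) Step.done))))) (Scr.cons (nat_lit 12) (nat_lit 4) (Step.L (Step.D (nat_lit 9615) (Step.F (nat_lit 9383) (Step.L (Step.L Step.done))))) (Scr.cons (nat_lit 12) (nat_lit 1) (Step.L (Step.L (Step.L (Step.L (Step.D (nat_lit 9617) Step.done))))) (Scr.cons (nat_lit 12) (nat_lit 1) (Step.L (Step.D (nat_lit 9617) (Step.F (nat_lit 9385) (Step.L (Step.L Step.done))))) (Scr.cons (nat_lit 11) (nat_lit 0) (Step.U (nat_lit 3948) (Step.U (nat_lit 2055) (Step.D (nat_lit 2054) (Step.D (nat_lit 3946) (Step.D (nat_lit 6766) Step.done))))) (Scr.cons (nat_lit 14) (nat_lit 6) (Step.U (nat_lit 2055) (Step.L (Step.L (Step.L (Step.L (Step.L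 (Step.L (Step.L (Step.L (Step.L (Step.L (Step.L (Step.L (Step.L (Step.L (Step.L (Step.L (Step.L (Step.D (nat_lit 3205) (Step.D (nat_lit 5685) (Step.D (nat_lit 8789) Step.done))))))))))))))))))))) (Scr.cons (nat_lit 1) (nat_lit 0) (Step.D (nat_lit 8789) (Step.F (nat_lit 9388) (Step.D (nat_lit 3948) Step.done))) (Scr.cons (nat_lit 1) (nat_lit 0) (Step.D (nat_lit 5685) (Step.B (nat_lit 9389) (Step.B (nat_lit 9387) Step.done))) (Scr.cons (nat_lit 1) (nat_lit 0) (Step.B (nat_lit 9387) (Step.F (nat_lit 9390) Step.done)) (Scr.cons (nat_lit 1) (nat_lit 0) (Step.F (nat_lit 9391) (Step.B (nat_lit 8835) (Step.D (nat_lit 6480) Step.done))) (Scr.cons (nat_lit 1) (nat_lit 0) (Step.D (nat_lit 6480) (Step.F (nat_lit 9392) Step.done)) (Scr.cons (nat_lit 12) (nat_lit 1) (Step.L (Step.L (Step.L (Step.L (Step.D (nat_lit 3737) Step.done))))) (Scr.cons (nat_lit 15) (nat_lit 1) (Step.L (Step.L (Step.L (Step.L (Step.L (Step.L (Step.D (nat_lit 3205) (Step.F (nat_lit 9393) (Step.F (nat_lit 9394)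 (Step.L (Step.L (Step.L (Step.L (Step.L (Step.L Step.done))))))))))))))) (Scr.cons (nat_lit 11) (nat_lit 0) (Step.U (nat_lit 6482) (Step.U (nat_lit 3739) (Step.D (nat_lit 3738) (Step.D (nat_lit 6481) (Step.D (nat_lit 9626) Step.done))))) (Scr.cons (nat_lit 12) (nat_lit 4) (Step.U (nat_lit 328) (Step.L (Step.L (Step.D (nat_lit 328) (Step.D (nat_lit 888) Step.done))))) (Scr.cons (nat_lit 12) (nat_lit 4) (Step.U (nat_lit 889) (Step.D (nat_lit 888) (Step.F (nat_lit 9397) (Step.D (nat_lit 889) (Step.D (nat_lit 1926) Step.done))))) (Scr.cons (nat_lit 11) (nat_lit 0) (Step.L (Step.L (Step.D (nat_lit 328) (Step.D (nat_lit 889) (Step.D (nat_lit 1927) Step.done))))) (Scr.cons (nat_lit 14) (nat_lit 2) (Step.U (nat_lit 3739) (Step.F (nat_lit 9398) (Step.D (nat_lit 1927) (Step.F (nat_lit 9399) (Step.L (Step.L (Step.L (Step.L (Step.L (Step.L (Step.L (Step.L (Step.L (Step.L (Step.L (Step.L (Step.L (Step.L (Step.L (Step.L (Step.D (nat_lit 8947) Step.done))))))))))))))))))))) (Scr.cons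 (nat_lit 1) (nat_lit 0) (Step.D (nat_lit 8947) (Step.F (nat_lit 9400) (Step.D (nat_lit 6482) Step.done))) (Scr.cons (nat_lit 1) (nat_lit 0) (Step.F (nat_lit 9396) (Step.F (nat_lit 9401) (Step.L Step.done))) Scr.nil))))))))))))))))))))))))))))))))))))))))
noncomputable def s235 : Scr := (Scr.cons (nat_lit 1) (nat_lit 1) (Step.D (nat_lit 9626) (Step.B (nat_lit 9402) Step.done)) (Scr.cons (nat_lit 7) (nat_lit 5) (Step.L (Step.F (nat_lit 9403) (Step.U (nat_lit 6481) (Step.U (nat_lit 3738) (Step.U (nat_lit 1926) (Step.U (nat_lit 889) (Step.U (nat_lit 328) (Step.L (Step.L (Step.L (Step.L (Step.L (Step.L (Step.L (Step.L (Step.L (Step.L (Step.L (Step.L (Step.L Step.done)))))))))))))))))))) (Scr.cons (nat_lit 12) (nat_lit 4) (Step.L (Step.L (Step.L (Step.L (Step.D (nat_lit 9629) Step.done))))) (Scr.cons (nat_lit 12) (nat_lit 4) (Step.L (Step.D (nat_lit 9629) (Step.F (nat_lit 9405) (Step.L (Step.L Step.done))))) (Scr.cons (nat_lit 12) (nat_lit 4) (Step.L (Step.L (Step.L (Step.L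 (Step.D (nat_lit 9636) Step.done))))) (Scr.cons (nat_lit 12) (nat_lit 4) (Step.L (Step.D (nat_lit 9636) (Step.F (nat_lit 9407) (Step.L (Step.L Step.done))))) (Scr.cons (nat_lit 12) (nat_lit 1) (Step.L (Step.L (Step.L (Step.L (Step.D (nat_lit 9657) Step.done))))) (Scr.cons (nat_lit 12) (nat_lit 1) (Step.L (Step.D (nat_lit 9657) (Step.F (nat_lit 9409) (Step.L (Step.L Step.done))))) (Scr.cons (nat_lit 12) (nat_lit 4) (Step.L (Step.L (Step.L (Step.L (Step.D (nat_lit 9659) Step.done))))) (Scr.cons (nat_lit 12) (nat_lit 4) (Step.L (Step.D (nat_lit 9659) (Step.F (nat_lit 9411) (Step.L (Step.L Step.done))))) (Scr.cons (nat_lit 11) (nat_lit 0) (Step.L (Step.L (Step.L (Step.D (nat_lit 1907) (Step.D (nat_lit 3700) Step.done))))) (Scr.cons (nat_lit 12) (nat_lit 1) (Step.F (nat_lit 9413) (Step.L (Step.L (Step.B (nat_lit 9413) (Step.D (nat_lit 6427) Step.done))))) (Scr.cons (nat_lit 7) (nat_lit 5) (Step.F (nat_lit 9414) (Step.U (nat_lit 3700) (Step.U (nat_lit 1907) (Step.L (Step.L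 (Step.L (Step.L (Step.L (Step.L (Step.L (Step.L (Step.L (Step.L (Step.L (Step.L (Step.L (Step.L (Step.L (Step.L (Step.D (nat_lit 6415) Step.done)))))))))))))))))))) (Scr.cons (nat_lit 4) (nat_lit 0) (Step.U (nat_lit 9558) (Step.L (Step.D (nat_lit 6415) (Step.F (nat_lit 9415) (Step.D (nat_lit 9574) Step.done))))) (Scr.cons (nat_lit 14) (nat_lit 4) (Step.U (nat_lit 9664) (Step.U (nat_lit 6518) (Step.L (Step.L (Step.L (Step.L (Step.L (Step.L (Step.L (Step.L (Step.L (Step.L (Step.L (Step.L (Step.L (Step.B (nat_lit 9374) (Step.U (nat_lit 9557) (Step.D (nat_lit 9558) (Step.B (nat_lit 9416) (Step.D (nat_lit 11777) Step.done)))))))))))))))))))) (Scr.cons (nat_lit 11) (nat_lit 0) (Step.F (nat_lit 9417) (Step.U (nat_lit 9664) (Step.U (nat_lit 6518) (Step.L (Step.L Step.done))))) (Scr.cons (nat_lit 12) (nat_lit 1) (Step.U (nat_lit 9574) (Step.F (nat_lit 9414) (Step.D (nat_lit 6427) (Step.D (nat_lit 9574) (Step.D (nat_lit 11777) Step.done))))) (Scr.cons (nat_lit 12) (nat_lit 1) (Step.F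 (nat_lit 9418) (Step.F (nat_lit 9419) (Step.D (nat_lit 11777) (Step.B (nat_lit 9418) (Step.L Step.done))))) (Scr.cons (nat_lit 12) (nat_lit 4) (Step.L (Step.L (Step.L (Step.L (Step.D (nat_lit 9670) Step.done))))) (Scr.cons (nat_lit 12) (nat_lit 4) (Step.L (Step.D (nat_lit 9670) (Step.F (nat_lit 9421) (Step.L (Step.L Step.done))))) (Scr.cons (nat_lit 13) (nat_lit 0) (Step.L (Step.L (Step.L (Step.B (nat_lit 595) (Step.U (nat_lit 3776) (Step.L (Step.L (Step.L (Step.L (Step.L (Step.L Step.done))))))))))) (Scr.cons (nat_lit 12) (nat_lit 1) (Step.L (Step.L (Step.L (Step.L (Step.D (nat_lit 9690) Step.done))))) (Scr.cons (nat_lit 12) (nat_lit 1) (Step.L (Step.D (nat_lit 9690) (Step.F (nat_lit 9424) (Step.L (Step.L Step.done))))) (Scr.cons (nat_lit 11) (nat_lit 0) (Step.U (nat_lit 4498) (Step.U (nat_lit 2416) (Step.L (Step.L (Step.D (nat_lit 7431) Step.done))))) (Scr.cons (nat_lit 12) (nat_lit 1) (Step.U (nat_lit 2416) (Step.L (Step.L (Step.D (nat_lit 2416) (Step.D (nat_lit 4497)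 Step.done))))) (Scr.cons (nat_lit 12) (nat_lit 1) (Step.U (nat_lit 4498) (Step.D (nat_lit 4497) (Step.F (nat_lit 9427) (Step.D (nat_lit 4498) (Step.D (nat_lit 7432) Step.done))))) (Scr.cons (nat_lit 12) (nat_lit 1) (Step.F (nat_lit 9426) (Step.D (nat_lit 7432) (Step.F (nat_lit 9428) (Step.B (nat_lit 9426) (Step.D (nat_lit 10490) Step.done))))) (Scr.cons (nat_lit 11) (nat_lit 0) (Step.U (nat_lit 920) (Step.U (nat_lit 341) (Step.L (Step.L (Step.D (nat_lit 1982) Step.done))))) (Scr.cons (nat_lit 12) (nat_lit 1) (Step.U (nat_lit 341) (Step.L (Step.L (Step.D (nat_lit 341) (Step.D (nat_lit 919) Step.done))))) (Scr.cons (nat_lit 12) (nat_lit 1) (Step.U (nat_lit 920) (Step.D (nat_lit 919) (Step.F (nat_lit 9431) (Step.D (nat_lit 920) (Step.D (nat_lit 1983) Step.done))))) (Scr.cons (nat_lit 12) (nat_lit 1) (Step.F (nat_lit 9430) (Step.D (nat_lit 1983) (Step.F (nat_lit 9432) (Step.B (nat_lit 9430) (Step.D (nat_lit 3817) Step.done))))) (Scr.cons (nat_lit 7) (nat_lit 5) (Step.F (nat_lit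 9433) (Step.U (nat_lit 1982) (Step.L (Step.L (Step.L (Step.L (Step.L (Step.L (Step.L (Step.L (Step.L (Step.L (Step.L (Step.L (Step.L (Step.L (Step.L (Step.L (Step.L (Step.D (nat_lit 3784) Step.done)))))))))))))))))))) (Scr.cons (nat_lit 4) (nat_lit 0) (Step.U (nat_lit 6546) (Step.L (Step.D (nat_lit 3784) (Step.F (nat_lit 9434) (Step.D (nat_lit 6588) Step.done))))) (Scr.cons (nat_lit 11) (nat_lit 0) (Step.U (nat_lit 3783) (Step.U (nat_lit 1955) (Step.L (Step.L (Step.D (nat_lit 6544) Step.done))))) (Scr.cons (nat_lit 12) (nat_lit 1) (Step.U (nat_lit 1955) (Step.L (Step.L (Step.D (nat_lit 1955) (Step.D (nat_lit 3782) Step.done))))) (Scr.cons (nat_lit 12) (nat_lit 1) (Step.U (nat_lit 3783) (Step.D (nat_lit 3782) (Step.F (nat_lit 9437) (Step.D (nat_lit 3783) (Step.D (nat_lit 6545) Step.done))))) (Scr.cons (nat_lit 12) (nat_lit 1) (Step.F (nat_lit 9436) (Step.D (nat_lit 6545) (Step.F (nat_lit 9438) (Step.B (nat_lit 9436) (Step.D (nat_lit 9691) Step.done))))) (Scr.cons (nat_lit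 12) (nat_lit 4) (Step.U (nat_lit 4499) (Step.L (Step.L (Step.D (nat_lit 4499) (Step.D (nat_lit 7433) Step.done))))) (Scr.cons (nat_lit 11) (nat_lit 0) (Step.U (nat_lit 4576) (Step.U (nat_lit 2462) (Step.D (nat_lit 2461) (Step.D (nat_lit 4575) (Step.D (nat_lit 7531) Step.done))))) (Scr.cons (nat_lit 14) (nat_lit 3) (Step.F (nat_lit 9441) (Step.U (nat_lit 4576) (Step.U (nat_lit 2462) (Step.U (nat_lit 1183) (Step.L (Step.L (Step.L (Step.L (Step.L (Step.L (Step.L (Step.L (Step.L (Step.L (Step.L (Step.L (Step.L (Step.L (Step.D (nat_lit 4499) (Step.D (nat_lit 7434) Step.done)))))))))))))))))))) Scr.nil))))))))))))))))))))))))))))))))))))))))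
noncomputable def s236 : Scr := (Scr.cons (nat_lit 12) (nat_lit 4) (Step.U (nat_lit 7434) (Step.D (nat_lit 7433) (Step.F (nat_lit 9440) (Step.D (nat_lit 7434) (Step.F (nat_lit 9442) Step.done))))) (Scr.cons (nat_lit 7) (nat_lit 5) (Step.F (nat_lit 9439) (Step.U (nat_lit 6544) (Step.L (Step.L (Step.L (Step.L (Step.L (Step.L (Step.L (Step.L (Step.L (Step.L (Step.L (Step.L (Step.L (Step.L (Step.L (Step.L (Step.L (Step.D (nat_lit 9673) Step.done)))))))))))))))))))) (Scr.cons (nat_lit 9) (nat_lit 3) (Step.U (nat_lit 10491) (Step.B (nat_lit 9443) (Step.U (nat_lit 7531) (Step.U (nat_lit 4575) (Step.U (nat_lit 2461) (Step.U (nat_lit 1183) (Step.L (Step.L (Step.L (Step.L (Step.L (Step.L (Step.L (Step.L (Step.L (Step.L (Step.L (Step.L (Step.L (Step.L (Step.D (nat_lit 9673) (Step.F (nat_lit 9444) (Step.D (nat_lit 11810) Step.done))))))))))))))))))))))) (Scr.cons (nat_lit 9) (nat_lit 4) (Step.U (nat_lit 9745) (Step.F (nat_lit 9435) (Step.U (nat_lit 6546) (Step.L (Step.L (Step.L (Step.L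 (Step.D (nat_lit 1955) (Step.D (nat_lit 3783) (Step.B (nat_lit 9436) (Step.B (nat_lit 9439) (Step.D (nat_lit 11810) (Step.F (nat_lit 9445) (Step.U (nat_lit 10491) (Step.U (nat_lit 7434) (Step.U (nat_lit 4499) (Step.L (Step.L (Step.L (Step.D (nat_lit 2416) (Step.D (nat_lit 4498) (Step.B (nat_lit 9426) (Step.B (nat_lit 9429) Step.done))))))))))))))))))))))) (Scr.cons (nat_lit 12) (nat_lit 1) (Step.U (nat_lit 6588) (Step.F (nat_lit 9433) (Step.D (nat_lit 3817) (Step.D (nat_lit 6588) (Step.D (nat_lit 9745) Step.done))))) (Scr.cons (nat_lit 13) (nat_lit 2) (Step.L (Step.D (nat_lit 7431) (Step.B (nat_lit 9429) (Step.F (nat_lit 9446) (Step.F (nat_lit 9447) (Step.U (nat_lit 6588) (Step.U (nat_lit 3817) (Step.U (nat_lit 1982) (Step.L (Step.L (Step.L (Step.D (nat_lit 9744) Step.done)))))))))))) (Scr.cons (nat_lit 1) (nat_lit 1) (Step.D (nat_lit 9744) (Step.F (nat_lit 9448) (Step.D (nat_lit 10489) Step.done))) (Scr.cons (nat_lit 1) (nat_lit 1) (Step.D (nat_lit 10489) (Step.F (nat_lit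 9449) Step.done)) (Scr.cons (nat_lit 12) (nat_lit 1) (Step.L (Step.L (Step.L (Step.L (Step.D (nat_lit 9729) Step.done))))) (Scr.cons (nat_lit 12) (nat_lit 1) (Step.L (Step.D (nat_lit 9729) (Step.F (nat_lit 9451) (Step.L (Step.L Step.done))))) (Scr.cons (nat_lit 12) (nat_lit 1) (Step.L (Step.L (Step.L (Step.L (Step.D (nat_lit 9735) Step.done))))) (Scr.cons (nat_lit 12) (nat_lit 1) (Step.L (Step.D (nat_lit 9735) (Step.F (nat_lit 9453) (Step.L (Step.L Step.done))))) (Scr.cons (nat_lit 12) (nat_lit 1) (Step.L (Step.L (Step.L (Step.L (Step.D (nat_lit 9748) Step.done))))) (Scr.cons (nat_lit 12) (nat_lit 1) (Step.L (Step.D (nat_lit 9748) (Step.F (nat_lit 9455) (Step.L (Step.L Step.done))))) (Scr.cons (nat_lit 12) (nat_lit 1) (Step.L (Step.L (Step.L (Step.L (Step.D (nat_lit 11709) Step.done))))) (Scr.cons (nat_lit 12) (nat_lit 1) (Step.L (Step.L (Step.L (Step.L (Step.D (nat_lit 11668) Step.done))))) (Scr.cons (nat_lit 6) (nat_lit 3) (Step.U (nat_lit 4308) (Step.U (nat_lit 2296)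 (Step.L (Step.L (Step.L (Step.L (Step.L (Step.L (Step.L (Step.L (Step.L Step.done))))))))))) (Scr.cons (nat_lit 11) (nat_lit 0) (Step.U (nat_lit 7228) (Step.U (nat_lit 4309) (Step.D (nat_lit 4308) (Step.D (nat_lit 7226) (Step.D (nat_lit 10310) Step.done))))) (Scr.cons (nat_lit 16) (nat_lit 1) (Step.F (nat_lit 9458) (Step.L (Step.L (Step.L (Step.L (Step.L (Step.L (Step.L (Step.L (Step.L (Step.L (Step.L (Step.L (Step.L (Step.L (Step.L (Step.L (Step.L (Step.F (nat_lit 9459) (Step.D (nat_lit 7226) (Step.D (nat_lit 10310) (Step.F (nat_lit 9460) (Step.D (nat_lit 10312) Step.done))))))))))))))))))))))) (Scr.cons (nat_lit 12) (nat_lit 1) (Step.L (Step.L (Step.L (Step.L (Step.D (nat_lit 2296) Step.done))))) (Scr.cons (nat_lit 12) (nat_lit 1) (Step.U (nat_lit 4309) (Step.F (nat_lit 9462) (Step.D (nat_lit 2296) (Step.D (nat_lit 4309) (Step.D (nat_lit 7227) Step.done))))) (Scr.cons (nat_lit 15) (nat_lit 0) (Step.U (nat_lit 10311) (Step.F (nat_lit 9463) (Step.U (nat_lit 4309) (Step.F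 (nat_lit 9462) (Step.L (Step.L (Step.L (Step.L (Step.L (Step.L (Step.L (Step.D (nat_lit 3572) (Step.D (nat_lit 6259) (Step.D (nat_lit 9437) (Step.D (nat_lit 11749) Step.done))))))))))))))) (Scr.cons (nat_lit 12) (nat_lit 1) (Step.U (nat_lit 5109) (Step.L (Step.L (Step.D (nat_lit 5109) (Step.D (nat_lit 8124) Step.done))))) (Scr.cons (nat_lit 12) (nat_lit 1) (Step.U (nat_lit 3631) (Step.L (Step.L (Step.D (nat_lit 3631) (Step.D (nat_lit 6337) Step.done))))) (Scr.cons (nat_lit 7) (nat_lit 0) (Step.U (nat_lit 6187) (Step.L (Step.L (Step.L (Step.L (Step.L (Step.L (Step.L (Step.L (Step.L (Step.L (Step.L (Step.L (Step.L (Step.L (Step.L (Step.L (Step.L (Step.D (nat_lit 3631) (Step.D (nat_lit 6337) Step.done)))))))))))))))))))) (Scr.cons (nat_lit 13) (nat_lit 3) (Step.U (nat_lit 6453) (Step.L (Step.L (Step.D (nat_lit 1913) (Step.B (nat_lit 6332) (Step.U (nat_lit 2286) (Step.D (nat_lit 2285) (Step.B (nat_lit 2244) (Step.B (nat_lit 9466) (Step.F (nat_lit 9467) (Step.D (nat_lit 9365)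 Step.done))))))))))) (Scr.cons (nat_lit 12) (nat_lit 1) (Step.U (nat_lit 2129) (Step.L (Step.L (Step.D (nat_lit 2129) (Step.D (nat_lit 4065) Step.done))))) (Scr.cons (nat_lit 6) (nat_lit 0) (Step.U (nat_lit 8124) (Step.U (nat_lit 5109) (Step.L (Step.L (Step.B (nat_lit 189) (Step.F (nat_lit 1825) (Step.L (Step.D (nat_lit 2129) (Step.B (nat_lit 9469) (Step.D (nat_lit 6920) (Step.D (nat_lit 10059) Step.done))))))))))) (Scr.cons (nat_lit 11) (nat_lit 0) (Step.U (nat_lit 2129) (Step.L (Step.L (Step.D (nat_lit 2128) (Step.D (nat_lit 4063) Step.done))))) (Scr.cons (nat_lit 12) (nat_lit 1) (Step.F (nat_lit 9471) (Step.D (nat_lit 4065) (Step.F (nat_lit 9469) (Step.B (nat_lit 9471) (Step.D (nat_lit 6918) Step.done))))) (Scr.cons (nat_lit 12) (nat_lit 1) (Step.F (nat_lit 3675) (Step.B (nat_lit 5556) (Step.B (nat_lit 5555) (Step.B (nat_lit 3675) (Step.D (nat_lit 10079) Step.done))))) (Scr.cons (nat_lit 14) (nat_lit 2) (Step.F (nat_lit 9473) (Step.F (nat_lit 3675) (Step.U (nat_lit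 4089) (Step.U (nat_lit 2147) (Step.U (nat_lit 1005) (Step.U (nat_lit 383) (Step.U (nat_lit 127) (Step.L (Step.L (Step.L (Step.L (Step.L (Step.L (Step.L (Step.L (Step.L (Step.D (nat_lit 2128) (Step.D (nat_lit 4063) (Step.B (nat_lit 9472) (Step.D (nat_lit 10057) Step.done)))))))))))))))))))) (Scr.cons (nat_lit 0) (nat_lit 1) (Step.U (nat_lit 10079) (Step.B (nat_lit 3676) (Step.L Step.done))) (Scr.cons (nat_lit 1) (nat_lit 0) (Step.F (nat_lit 9474) (Step.B (nat_lit 9475) (Step.L Step.done))) (Scr.cons (nat_lit 1) (nat_lit 0) (Step.D (nat_lit 10057) (Step.B (nat_lit 9476) (Step.L Step.done))) (Scr.cons (nat_lit 0) (nat_lit 1) (Step.B (nat_lit 9472) (Step.B (nat_lit 9477) (Step.L Step.done))) (Scr.cons (nat_lit 1) (nat_lit 1) (Step.B (nat_lit 9471) (Step.B (nat_lit 9478) (Step.L Step.done))) (Scr.cons (nat_lit 0) (nat_lit 1) (Step.U (nat_lit 4065) (Step.B (nat_lit 9479) (Step.L Step.done))) (Scr.cons (nat_lit 1) (nat_lit 1) (Step.U (nat_lit 6920) (Step.B (nat_lit 9480) (Step.L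 Step.done))) (Scr.cons (nat_lit 0) (nat_lit 1) (Step.U (nat_lit 10059) (Step.B (nat_lit 9481) (Step.D (nat_lit 6453) Step.done))) Scr.nil))))))))))))))))))))))))))))))))))))))))
noncomputable def s237 : Scr := (Scr.cons (nat_lit 1) (nat_lit 0) (Step.B (nat_lit 9470) (Step.B (nat_lit 9482) (Step.B (nat_lit 9468) Step.done))) (Scr.cons (nat_lit 1) (nat_lit 0) (Step.B (nat_lit 9468) (Step.F (nat_lit 9483) Step.done)) (Scr.cons (nat_lit 11) (nat_lit 0) (Step.L (Step.L (Step.L (Step.L (Step.D (nat_lit 921) Step.done))))) (Scr.cons (nat_lit 12) (nat_lit 1) (Step.F (nat_lit 9485) (Step.L (Step.L (Step.B (nat_lit 9485) (Step.D (nat_lit 1986) Step.done))))) (Scr.cons (nat_lit 7) (nat_lit 0) (Step.U (nat_lit 9601) (Step.B (nat_lit 9468) (Step.U (nat_lit 9365) (Step.U (nat_lit 6187) (Step.L (Step.L (Step.L (Step.L (Step.F (nat_lit 86) (Step.U (nat_lit 342) (Step.L (Step.L (Step.L (Step.L (Step.L (Step.B (nat_lit 9485) (Step.B (nat_lit 9486) (Step.D (nat_lit 3825) (Step.D (nat_lit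 6598) (Step.D (nat_lit 9752) Step.done)))))))))))))))))))) (Scr.cons (nat_lit 11) (nat_lit 0) (Step.U (nat_lit 11103) (Step.F (nat_lit 9484) (Step.D (nat_lit 9601) (Step.B (nat_lit 9487) (Step.D (nat_lit 11833) Step.done))))) (Scr.cons (nat_lit 11) (nat_lit 0) (Step.U (nat_lit 1001) (Step.U (nat_lit 380) (Step.D (nat_lit 379) (Step.D (nat_lit 999) (Step.D (nat_lit 2139) Step.done))))) (Scr.cons (nat_lit 12) (nat_lit 1) (Step.U (nat_lit 380) (Step.F (nat_lit 404) (Step.D (nat_lit 125) (Step.D (nat_lit 380) (Step.D (nat_lit 1000) Step.done))))) (Scr.cons (nat_lit 12) (nat_lit 1) (Step.U (nat_lit 1001) (Step.D (nat_lit 1000) (Step.F (nat_lit 9490) (Step.D (nat_lit 1001) (Step.D (nat_lit 2140) Step.done))))) (Scr.cons (nat_lit 12) (nat_lit 1) (Step.F (nat_lit 9489) (Step.D (nat_lit 2140) (Step.F (nat_lit 9491) (Step.B (nat_lit 9489) (Step.D (nat_lit 4077) Step.done))))) (Scr.cons (nat_lit 12) (nat_lit 4) (Step.U (nat_lit 6936) (Step.F (nat_lit 9492) (Step.D (nat_lit 4077)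 (Step.D (nat_lit 6936) (Step.D (nat_lit 10069) Step.done))))) (Scr.cons (nat_lit 7) (nat_lit 0) (Step.U (nat_lit 6454) (Step.L (Step.L (Step.L (Step.L (Step.L (Step.L (Step.L (Step.L (Step.L (Step.L (Step.L (Step.L (Step.L (Step.L (Step.B (nat_lit 409) (Step.B (nat_lit 408) (Step.B (nat_lit 410) (Step.D (nat_lit 5095) (Step.D (nat_lit 8110) Step.done)))))))))))))))))))) (Scr.cons (nat_lit 12) (nat_lit 1) (Step.U (nat_lit 5095) (Step.F (nat_lit 412) (Step.D (nat_lit 2811) (Step.D (nat_lit 5095) (Step.D (nat_lit 8110) Step.done))))) (Scr.cons (nat_lit 14) (nat_lit 3) (Step.F (nat_lit 9488) (Step.U (nat_lit 11103) (Step.F (nat_lit 9484) (Step.U (nat_lit 6453) (Step.D (nat_lit 6454) (Step.B (nat_lit 9494) (Step.F (nat_lit 9495) (Step.U (nat_lit 5095) (Step.F (nat_lit 410) (Step.U (nat_lit 2137) (Step.U (nat_lit 997) (Step.F (nat_lit 403) (Step.U (nat_lit 126) (Step.D (nat_lit 125) (Step.D (nat_lit 379) (Step.D (nat_lit 999) (Step.D (nat_lit 2139) (Step.B (nat_lit 9492) (Step.D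 (nat_lit 6936) (Step.D (nat_lit 10070) Step.done)))))))))))))))))))) (Scr.cons (nat_lit 12) (nat_lit 4) (Step.U (nat_lit 10070) (Step.D (nat_lit 10069) (Step.F (nat_lit 9493) (Step.D (nat_lit 10070) (Step.F (nat_lit 9496) Step.done))))) (Scr.cons (nat_lit 12) (nat_lit 1) (Step.U (nat_lit 6937) (Step.F (nat_lit 9492) (Step.D (nat_lit 4077) (Step.D (nat_lit 6937) (Step.D (nat_lit 10071) Step.done))))) (Scr.cons (nat_lit 12) (nat_lit 1) (Step.U (nat_lit 1354) (Step.L (Step.L (Step.D (nat_lit 1354) (Step.D (nat_lit 2761) Step.done))))) (Scr.cons (nat_lit 15) (nat_lit 1) (Step.F (nat_lit 9499) (Step.U (nat_lit 1354) (Step.L (Step.L (Step.L (Step.L (Step.L (Step.L (Step.L (Step.L (Step.L (Step.L (Step.L (Step.L (Step.D (nat_lit 1355) Step.done))))))))))))))) (Scr.cons (nat_lit 12) (nat_lit 1) (Step.U (nat_lit 2762) (Step.D (nat_lit 2761) (Step.F (nat_lit 9499) (Step.D (nat_lit 2762) (Step.D (nat_lit 5023) Step.done))))) (Scr.cons (nat_lit 6) (nat_lit 0) (Step.U (nat_lit 8042)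 (Step.U (nat_lit 5025) (Step.L (Step.L (Step.B (nat_lit 179) (Step.F (nat_lit 9500) (Step.F (nat_lit 9499) (Step.D (nat_lit 2762) (Step.B (nat_lit 9501) (Step.D (nat_lit 8040) (Step.D (nat_lit 11013) Step.done))))))))))) (Scr.cons (nat_lit 12) (nat_lit 1) (Step.L (Step.L (Step.L (Step.L (Step.D (nat_lit 6163) Step.done))))) (Scr.cons (nat_lit 12) (nat_lit 1) (Step.U (nat_lit 9335) (Step.F (nat_lit 9503) (Step.D (nat_lit 6163) (Step.D (nat_lit 9335) (Step.D (nat_lit 11698) Step.done))))) (Scr.cons (nat_lit 12) (nat_lit 1) (Step.L (Step.L (Step.L (Step.L (Step.D (nat_lit 558) Step.done))))) (Scr.cons (nat_lit 11) (nat_lit 0) (Step.U (nat_lit 2774) (Step.U (nat_lit 1362) (Step.D (nat_lit 1361) (Step.D (nat_lit 2772) (Step.D (nat_lit 5044) Step.done))))) (Scr.cons (nat_lit 12) (nat_lit 1) (Step.U (nat_lit 1362) (Step.F (nat_lit 9505) (Step.D (nat_lit 558) (Step.D (nat_lit 1362) (Step.D (nat_lit 2773) Step.done))))) (Scr.cons (nat_lit 12) (nat_lit 1) (Step.U (nat_lit 2774)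 (Step.D (nat_lit 2773) (Step.F (nat_lit 9507) (Step.D (nat_lit 2774) (Step.D (nat_lit 5045) Step.done))))) (Scr.cons (nat_lit 12) (nat_lit 1) (Step.F (nat_lit 9506) (Step.D (nat_lit 5045) (Step.F (nat_lit 9508) (Step.B (nat_lit 9506) (Step.D (nat_lit 8061) Step.done))))) (Scr.cons (nat_lit 11) (nat_lit 0) (Step.U (nat_lit 6164) (Step.L (Step.L (Step.D (nat_lit 6162) (Step.D (nat_lit 9333) Step.done))))) (Scr.cons (nat_lit 12) (nat_lit 4) (Step.U (nat_lit 6162) (Step.L (Step.L (Step.D (nat_lit 6162) (Step.D (nat_lit 9332) Step.done))))) (Scr.cons (nat_lit 14) (nat_lit 4) (Step.U (nat_lit 9870) (Step.U (nat_lit 6709) (Step.U (nat_lit 3908) (Step.L (Step.L (Step.L (Step.L (Step.L (Step.L (Step.L (Step.L (Step.L (Step.L (Step.L (Step.L (Step.L (Step.L (Step.L (Step.D (nat_lit 6162) (Step.D (nat_lit 9332) Step.done)))))))))))))))))))) (Scr.cons (nat_lit 11) (nat_lit 0) (Step.F (nat_lit 9512) (Step.U (nat_lit 9870) (Step.U (nat_lit 6709) (Step.D (nat_lit 6708) (Step.D (nat_lit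 9869) Step.done))))) (Scr.cons (nat_lit 1) (nat_lit 1) (Step.U (nat_lit 6708) (Step.F (nat_lit 9217) (Step.U (nat_lit 3852) Step.done))) (Scr.cons (nat_lit 1) (nat_lit 1) (Step.U (nat_lit 9869) (Step.B (nat_lit 9514) (Step.D (nat_lit 3851) Step.done))) (Scr.cons (nat_lit 1) (nat_lit 1) (Step.B (nat_lit 9513) (Step.B (nat_lit 9515) (Step.D (nat_lit 6633) Step.done))) (Scr.cons (nat_lit 0) (nat_lit 1) (Step.B (nat_lit 9511) (Step.B (nat_lit 9516) (Step.D (nat_lit 9789) Step.done))) (Scr.cons (nat_lit 0) (nat_lit 1) (Step.D (nat_lit 9789) (Step.F (nat_lit 9517) Step.done)) (Scr.cons (nat_lit 0) (nat_lit 0) (Step.B (nat_lit 5307) (Step.F (nat_lit 9318) Step.done)) (Scr.cons (nat_lit 14) (nat_lit 2) (Step.U (nat_lit 9796) (Step.F (nat_lit 9133) (Step.U (nat_lit 3854) (Step.U (nat_lit 2001) (Step.L (Step.L (Step.L (Step.L (Step.F (nat_lit 9519) (Step.U (nat_lit 2746) (Step.L (Step.L (Step.L (Step.L (Step.L (Step.D (nat_lit 558) (Step.D (nat_lit 1361) (Step.D (nat_lit 2772)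 (Step.D (nat_lit 5044) (Step.B (nat_lit 9509) (Step.D (nat_lit 11036) Step.done))))))))))))))))))))) (Scr.cons (nat_lit 1) (nat_lit 1) (Step.D (nat_lit 11036) (Step.F (nat_lit 9520) Step.done)) (Scr.cons (nat_lit 7) (nat_lit 3) (Step.U (nat_lit 11697) (Step.U (nat_lit 9334) (Step.F (nat_lit 9503) (Step.D (nat_lit 6164) (Step.B (nat_lit 9510) (Step.U (nat_lit 9333) (Step.F (nat_lit 9518) (Step.U (nat_lit 6633) (Step.U (nat_lit 3851) (Step.L (Step.L (Step.L (Step.L (Step.L (Step.D (nat_lit 2001) (Step.D (nat_lit 3854) (Step.D (nat_lit 6637) (Step.D (nat_lit 9796) (Step.F (nat_lit 9521) (Step.D (nat_lit 11037) Step.done)))))))))))))))))))) Scr.nil))))))))))))))))))))))))))))))))))))))))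
noncomputable def s238 : Scr := (Scr.cons (nat_lit 9) (nat_lit 4) (Step.U (nat_lit 8044) (Step.U (nat_lit 5026) (Step.L (Step.L (Step.L (Step.L (Step.L (Step.L (Step.L (Step.L (Step.L (Step.L (Step.L (Step.B (nat_lit 9505) (Step.D (nat_lit 1362) (Step.D (nat_lit 2774) (Step.B (nat_lit 9506) (Step.B (nat_lit 9509) (Step.D (nat_lit 11037) (Step.F (nat_lit 9522) (Step.U (nat_lit 11697) (Step.U (nat_lit 9334) (Step.D (nat_lit 9335) (Step.B (nat_lit 9504) Step.done)))))))))))))))))))))))) (Scr.cons (nat_lit 0) (nat_lit 1) (Step.B (nat_lit 9504) (Step.F (nat_lit 9523) (Step.D (nat_lit 11017) Step.done))) (Scr.cons (nat_lit 0) (nat_lit 1) (Step.D (nat_lit 11017) (Step.F (nat_lit 9524) Step.done)) (Scr.cons (nat_lit 12) (nat_lit 1) (Step.U (nat_lit 5025) (Step.L (Step.L (Step.D (nat_lit 5025) (Step.D (nat_lit 8042) Step.done))))) (Scr.cons (nat_lit 8) (nat_lit 1) (Step.U (nat_lit 9337) (Step.U (nat_lit 6165) (Step.U (nat_lit 3523) (Step.U (nat_lit 1809) (Step.L (Step.L (Step.B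 (nat_lit 9503) (Step.D (nat_lit 9335) (Step.F (nat_lit 9525) (Step.U (nat_lit 8044) (Step.U (nat_lit 5026) (Step.L (Step.L (Step.D (nat_lit 5025) (Step.B (nat_lit 9526) (Step.D (nat_lit 11016) Step.done)))))))))))))))) (Scr.cons (nat_lit 1) (nat_lit 1) (Step.D (nat_lit 11016) (Step.F (nat_lit 9527) (Step.D (nat_lit 11699) Step.done))) (Scr.cons (nat_lit 1) (nat_lit 1) (Step.D (nat_lit 11699) (Step.F (nat_lit 9528) Step.done)) (Scr.cons (nat_lit 9) (nat_lit 0) (Step.F (nat_lit 9502) (Step.F (nat_lit 9529) (Step.U (nat_lit 9337) (Step.U (nat_lit 6165) (Step.U (nat_lit 3523) (Step.U (nat_lit 1809) (Step.L (Step.L (Step.L (Step.L (Step.L (Step.L (Step.L (Step.L (Step.L (Step.D (nat_lit 35) (Step.B (nat_lit 404) (Step.D (nat_lit 380) (Step.D (nat_lit 1001) (Step.B (nat_lit 9489) (Step.B (nat_lit 9492) (Step.D (nat_lit 6937) (Step.B (nat_lit 9498) Step.done))))))))))))))))))))))) (Scr.cons (nat_lit 11) (nat_lit 0) (Step.U (nat_lit 8043) (Step.U (nat_lit 5025) (Step.L (Step.D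 (nat_lit 8041) (Step.D (nat_lit 11015) Step.done))))) (Scr.cons (nat_lit 12) (nat_lit 4) (Step.U (nat_lit 8041) (Step.L (Step.L (Step.D (nat_lit 8041) (Step.D (nat_lit 11014) Step.done))))) (Scr.cons (nat_lit 14) (nat_lit 4) (Step.U (nat_lit 9439) (Step.U (nat_lit 6260) (Step.U (nat_lit 3572) (Step.L (Step.L (Step.L (Step.L (Step.L (Step.L (Step.L (Step.L (Step.L (Step.L (Step.L (Step.L (Step.L (Step.L (Step.L (Step.D (nat_lit 8041) (Step.D (nat_lit 11014) Step.done)))))))))))))))))))) (Scr.cons (nat_lit 11) (nat_lit 0) (Step.F (nat_lit 9533) (Step.U (nat_lit 9439) (Step.U (nat_lit 6260) (Step.D (nat_lit 6259) (Step.D (nat_lit 9438) Step.done))))) (Scr.cons (nat_lit 7) (nat_lit 1) (Step.U (nat_lit 5108) (Step.D (nat_lit 5109) (Step.B (nat_lit 9465) (Step.D (nat_lit 11103) (Step.B (nat_lit 9488) (Step.F (nat_lit 9497) (Step.U (nat_lit 10070) (Step.U (nat_lit 6936) (Step.D (nat_lit 6937) (Step.B (nat_lit 9498) (Step.F (nat_lit 9530) (Step.F (nat_lit 9502) (Step.F (nat_lit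 9526) (Step.D (nat_lit 8043) (Step.B (nat_lit 9531) (Step.U (nat_lit 11015) (Step.B (nat_lit 9532) (Step.B (nat_lit 9534) (Step.U (nat_lit 9438) (Step.D (nat_lit 9437) (Step.D (nat_lit 11750) Step.done))))))))))))))))))))) (Scr.cons (nat_lit 4) (nat_lit 0) (Step.F (nat_lit 9467) (Step.U (nat_lit 6187) (Step.L (Step.D (nat_lit 3534) (Step.D (nat_lit 6188) Step.done))))) (Scr.cons (nat_lit 1) (nat_lit 1) (Step.D (nat_lit 2822) (Step.B (nat_lit 2265) (Step.L Step.done))) (Scr.cons (nat_lit 0) (nat_lit 1) (Step.B (nat_lit 189) (Step.B (nat_lit 9537) (Step.D (nat_lit 2285) Step.done))) (Scr.cons (nat_lit 1) (nat_lit 1) (Step.F (nat_lit 2244) (Step.F (nat_lit 9538) (Step.L Step.done))) (Scr.cons (nat_lit 0) (nat_lit 1) (Step.U (nat_lit 6337) (Step.B (nat_lit 9539) (Step.L Step.done))) (Scr.cons (nat_lit 1) (nat_lit 1) (Step.F (nat_lit 9536) (Step.B (nat_lit 9540) (Step.D (nat_lit 5108) Step.done))) (Scr.cons (nat_lit 1) (nat_lit 1) (Step.D (nat_lit 6188) (Step.B (nat_lit 9541)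 (Step.D (nat_lit 8123) Step.done))) (Scr.cons (nat_lit 1) (nat_lit 1) (Step.D (nat_lit 8123) (Step.F (nat_lit 9542) Step.done)) (Scr.cons (nat_lit 1) (nat_lit 1) (Step.D (nat_lit 11750) (Step.F (nat_lit 9535) (Step.B (nat_lit 9543) Step.done))) (Scr.cons (nat_lit 1) (nat_lit 1) (Step.U (nat_lit 11749) (Step.B (nat_lit 9544) (Step.U (nat_lit 3534) Step.done))) (Scr.cons (nat_lit 0) (nat_lit 1) (Step.B (nat_lit 9464) (Step.B (nat_lit 9545) (Step.L Step.done))) (Scr.cons (nat_lit 1) (nat_lit 1) (Step.D (nat_lit 10311) (Step.B (nat_lit 9546) (Step.D (nat_lit 1811) Step.done))) (Scr.cons (nat_lit 0) (nat_lit 1) (Step.B (nat_lit 9463) (Step.B (nat_lit 9547) (Step.D (nat_lit 3535) Step.done))) (Scr.cons (nat_lit 1) (nat_lit 0) (Step.U (nat_lit 7228) (Step.B (nat_lit 9548) (Step.D (nat_lit 6190) Step.done))) (Scr.cons (nat_lit 0) (nat_lit 1) (Step.U (nat_lit 10312) (Step.B (nat_lit 9549) (Step.D (nat_lit 9367) Step.done))) (Scr.cons (nat_lit 1) (nat_lit 1) (Step.B (nat_lit 9461)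 (Step.B (nat_lit 9550) (Step.D (nat_lit 11710) Step.done))) (Scr.cons (nat_lit 1) (nat_lit 1) (Step.D (nat_lit 11710) (Step.F (nat_lit 9551) Step.done)) (Scr.cons (nat_lit 11) (nat_lit 0) (Step.U (nat_lit 923) (Step.B (nat_lit 86) (Step.L (Step.L (Step.D (nat_lit 1811) Step.done))))) (Scr.cons (nat_lit 12) (nat_lit 1) (Step.U (nat_lit 923) (Step.F (nat_lit 85) (Step.D (nat_lit 342) (Step.D (nat_lit 923) (Step.D (nat_lit 1990) Step.done))))) (Scr.cons (nat_lit 12) (nat_lit 1) (Step.F (nat_lit 9553) (Step.D (nat_lit 1990) (Step.F (nat_lit 9554) (Step.B (nat_lit 9553) (Step.D (nat_lit 3535) Step.done))))) (Scr.cons (nat_lit 12) (nat_lit 1) (Step.U (nat_lit 6190) (Step.F (nat_lit 9555) (Step.D (nat_lit 3535) (Step.D (nat_lit 6190) (Step.D (nat_lit 9367) Step.done))))) (Scr.cons (nat_lit 13) (nat_lit 3) (Step.L (Step.B (nat_lit 9458) (Step.F (nat_lit 9552) (Step.F (nat_lit 9556) (Step.U (nat_lit 6190) (Step.U (nat_lit 3535) (Step.U (nat_lit 1811) (Step.L (Step.L (Step.L (Step.L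 (Step.D (nat_lit 11709) Step.done)))))))))))) (Scr.cons (nat_lit 0) (nat_lit 0) (Step.B (nat_lit 9457) (Step.F (nat_lit 9557) Step.done)) (Scr.cons (nat_lit 12) (nat_lit 1) (Step.L (Step.L (Step.L (Step.L (Step.D (nat_lit 6406) Step.done))))) (Scr.cons (nat_lit 4) (nat_lit 0) (Step.L (Step.D (nat_lit 4286) (Step.B (nat_lit 5067) (Step.B (nat_lit 5068) (Step.D (nat_lit 6927) Step.done))))) (Scr.cons (nat_lit 4) (nat_lit 0) (Step.U (nat_lit 4039) (Step.U (nat_lit 2115) (Step.B (nat_lit 5066) (Step.D (nat_lit 4024) (Step.D (nat_lit 6875) Step.done))))) (Scr.cons (nat_lit 12) (nat_lit 4) (Step.U (nat_lit 374) (Step.L (Step.L (Step.D (nat_lit 374) (Step.D (nat_lit 988) Step.done))))) Scr.nil))))))))))))))))))))))))))))))))))))))))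
noncomputable def s239 : Scr := (Scr.cons (nat_lit 12) (nat_lit 4) (Step.U (nat_lit 2115) (Step.F (nat_lit 9562) (Step.D (nat_lit 988) (Step.D (nat_lit 2115) (Step.D (nat_lit 4038) Step.done))))) (Scr.cons (nat_lit 12) (nat_lit 4) (Step.U (nat_lit 4039) (Step.D (nat_lit 4038) (Step.F (nat_lit 9563) (Step.D (nat_lit 4039) (Step.D (nat_lit 6888) Step.done))))) (Scr.cons (nat_lit 7) (nat_lit 6) (Step.U (nat_lit 4618) (Step.L (Step.L (Step.L (Step.L (Step.L (Step.L (Step.L (Step.L (Step.L (Step.L (Step.L (Step.L (Step.D (nat_lit 2108) (Step.D (nat_lit 4024) (Step.D (nat_lit 6875) (Step.F (nat_lit 9561) (Step.B (nat_lit 9564) (Step.B (nat_lit 5068) (Step.D (nat_lit 6927) Step.done)))))))))))))))))))) (Scr.cons (nat_lit 12) (nat_lit 1) (Step.B (nat_lit 9560) (Step.F (nat_lit 9565) (Step.B (nat_lit 3303) (Step.F (nat_lit 9560) (Step.D (nat_lit 7185) Step.done))))) (Scr.cons (nat_lit 12) (nat_lit 1) (Step.U (nat_lit 7184) (Step.F (nat_lit 656) (Step.D (nat_lit 4285) (Step.D (nat_lit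 7184) (Step.D (nat_lit 10275) Step.done))))) (Scr.cons (nat_lit 12) (nat_lit 1) (Step.L (Step.L (Step.L (Step.L (Step.D (nat_lit 789) Step.done))))) (Scr.cons (nat_lit 12) (nat_lit 1) (Step.L (Step.D (nat_lit 789) (Step.F (nat_lit 9568) (Step.L (Step.D (nat_lit 1769) Step.done))))) (Scr.cons (nat_lit 12) (nat_lit 1) (Step.U (nat_lit 3474) (Step.F (nat_lit 9569) (Step.D (nat_lit 1769) (Step.D (nat_lit 3474) (Step.D (nat_lit 6096) Step.done))))) (Scr.cons (nat_lit 16) (nat_lit 4) (Step.U (nat_lit 9253) (Step.F (nat_lit 9570) (Step.U (nat_lit 3474) (Step.F (nat_lit 9569) (Step.L (Step.L (Step.L (Step.L (Step.L (Step.L (Step.L (Step.L (Step.L (Step.L (Step.L (Step.L (Step.L (Step.L (Step.L (Step.L (Step.L (Step.D (nat_lit 9249) (Step.D (nat_lit 11662) Step.done))))))))))))))))))))))) (Scr.cons (nat_lit 12) (nat_lit 4) (Step.L (Step.L (Step.L (Step.L (Step.D (nat_lit 20) Step.done))))) (Scr.cons (nat_lit 6) (nat_lit 3) (Step.U (nat_lit 795) (Step.U (nat_lit 291) (Step.U (nat_lit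 89) (Step.F (nat_lit 9572) (Step.L (Step.L (Step.L (Step.L (Step.L (Step.B (nat_lit 9568) (Step.D (nat_lit 1770) Step.done))))))))))) (Scr.cons (nat_lit 12) (nat_lit 1) (Step.U (nat_lit 1917) (Step.F (nat_lit 1821) (Step.B (nat_lit 1820) (Step.D (nat_lit 1917) (Step.D (nat_lit 3722) Step.done))))) (Scr.cons (nat_lit 12) (nat_lit 1) (Step.F (nat_lit 5567) (Step.D (nat_lit 3722) (Step.F (nat_lit 9574) (Step.B (nat_lit 5567) (Step.D (nat_lit 6459) Step.done))))) (Scr.cons (nat_lit 12) (nat_lit 1) (Step.U (nat_lit 89) (Step.F (nat_lit 9572) (Step.D (nat_lit 20) (Step.D (nat_lit 89) (Step.D (nat_lit 291) Step.done))))) (Scr.cons (nat_lit 13) (nat_lit 0) (Step.U (nat_lit 795) (Step.F (nat_lit 9576) (Step.U (nat_lit 89) (Step.U (nat_lit 20) (Step.L (Step.L (Step.L (Step.L (Step.L (Step.D (nat_lit 789) (Step.D (nat_lit 1770) Step.done))))))))))) (Scr.cons (nat_lit 12) (nat_lit 4) (Step.U (nat_lit 1782) (Step.B (nat_lit 9577) (Step.F (nat_lit 9573) (Step.D (nat_lit 1782) (Step.D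 (nat_lit 3493) Step.done))))) (Scr.cons (nat_lit 12) (nat_lit 4) (Step.U (nat_lit 6118) (Step.F (nat_lit 9578) (Step.D (nat_lit 3493) (Step.D (nat_lit 6118) (Step.D (nat_lit 9274) Step.done))))) (Scr.cons (nat_lit 12) (nat_lit 4) (Step.U (nat_lit 883) (Step.L (Step.L (Step.D (nat_lit 883) (Step.D (nat_lit 1915) Step.done))))) (Scr.cons (nat_lit 12) (nat_lit 1) (Step.U (nat_lit 3719) (Step.F (nat_lit 9580) (Step.D (nat_lit 1915) (Step.D (nat_lit 3719) (Step.D (nat_lit 6456) Step.done))))) (Scr.cons (nat_lit 12) (nat_lit 1) (Step.U (nat_lit 9604) (Step.F (nat_lit 9581) (Step.D (nat_lit 6456) (Step.D (nat_lit 9604) (Step.D (nat_lit 11781) Step.done))))) (Scr.cons (nat_lit 12) (nat_lit 1) (Step.L (Step.L (Step.L (Step.L (Step.D (nat_lit 6213) Step.done))))) (Scr.cons (nat_lit 12) (nat_lit 1) (Step.U (nat_lit 9392) (Step.F (nat_lit 9583) (Step.D (nat_lit 6213) (Step.D (nat_lit 9392) (Step.D (nat_lit 11721) Step.done))))) (Scr.cons (nat_lit 13) (nat_lit 0) (Step.U (nat_lit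 6462) (Step.F (nat_lit 8819) (Step.U (nat_lit 1919) (Step.U (nat_lit 885) (Step.L (Step.L (Step.D (nat_lit 883) (Step.B (nat_lit 9580) (Step.D (nat_lit 3719) (Step.D (nat_lit 6456) (Step.D (nat_lit 9603) Step.done))))))))))) (Scr.cons (nat_lit 12) (nat_lit 1) (Step.U (nat_lit 3725) (Step.D (nat_lit 3724) (Step.F (nat_lit 8819) (Step.D (nat_lit 3725) (Step.D (nat_lit 6464) Step.done))))) (Scr.cons (nat_lit 1) (nat_lit 0) (Step.B (nat_lit 8802) (Step.B (nat_lit 8815) (Step.D (nat_lit 3725) Step.done))) (Scr.cons (nat_lit 0) (nat_lit 1) (Step.B (nat_lit 8799) (Step.B (nat_lit 9587) (Step.D (nat_lit 6464) Step.done))) (Scr.cons (nat_lit 0) (nat_lit 0) (Step.B (nat_lit 9586) (Step.F (nat_lit 9588) Step.done)) (Scr.cons (nat_lit 12) (nat_lit 1) (Step.U (nat_lit 4209) (Step.D (nat_lit 4208) (Step.F (nat_lit 8799) (Step.D (nat_lit 4209) (Step.D (nat_lit 7089) Step.done))))) (Scr.cons (nat_lit 14) (nat_lit 6) (Step.U (nat_lit 7089) (Step.U (nat_lit 4209) (Step.U (nat_lit 2230)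 (Step.F (nat_lit 3260) (Step.L (Step.L (Step.L (Step.L (Step.L (Step.L (Step.L (Step.L (Step.L (Step.L (Step.L (Step.L (Step.D (nat_lit 1811) (Step.D (nat_lit 3535) (Step.D (nat_lit 6189) (Step.D (nat_lit 9366) Step.done)))))))))))))))))))) (Scr.cons (nat_lit 1) (nat_lit 1) (Step.D (nat_lit 4309) (Step.B (nat_lit 9548) (Step.D (nat_lit 6189) Step.done))) (Scr.cons (nat_lit 1) (nat_lit 1) (Step.U (nat_lit 9366) (Step.F (nat_lit 9592) (Step.D (nat_lit 4308) Step.done))) (Scr.cons (nat_lit 1) (nat_lit 1) (Step.B (nat_lit 9591) (Step.B (nat_lit 9593) (Step.D (nat_lit 7226) Step.done))) (Scr.cons (nat_lit 1) (nat_lit 1) (Step.D (nat_lit 7226) (Step.F (nat_lit 9594) Step.done)) (Scr.cons (nat_lit 8) (nat_lit 0) (Step.U (nat_lit 11780) (Step.F (nat_lit 9585) (Step.U (nat_lit 6462) (Step.U (nat_lit 3724) (Step.D (nat_lit 3725) (Step.B (nat_lit 9589) (Step.D (nat_lit 4209) (Step.B (nat_lit 9590) (Step.F (nat_lit 9595) (Step.B (nat_lit 9459) (Step.L (Step.L (Step.L (Step.B (nat_lit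 9583) (Step.D (nat_lit 9392) (Step.B (nat_lit 9584) Step.done)))))))))))))))) (Scr.cons (nat_lit 1) (nat_lit 1) (Step.D (nat_lit 11780) (Step.B (nat_lit 9596) Step.done)) (Scr.cons (nat_lit 9) (nat_lit 4) (Step.U (nat_lit 6191) (Step.U (nat_lit 3538) (Step.U (nat_lit 1813) (Step.U (nat_lit 815) (Step.L (Step.L (Step.L (Step.L (Step.L (Step.L (Step.L (Step.L (Step.L (Step.L (Step.L (Step.L (Step.L (Step.B (nat_lit 9583) (Step.D (nat_lit 9392) (Step.B (nat_lit 9584) (Step.F (nat_lit 9597) (Step.U (nat_lit 9603) (Step.D (nat_lit 9604) (Step.B (nat_lit 9582) Step.done)))))))))))))))))))))))) (Scr.cons (nat_lit 0) (nat_lit 1) (Step.B (nat_lit 9582) (Step.F (nat_lit 9598) (Step.D (nat_lit 9368) Step.done))) (Scr.cons (nat_lit 1) (nat_lit 1) (Step.D (nat_lit 9604) (Step.B (nat_lit 9599) (Step.D (nat_lit 11711) Step.done))) (Scr.cons (nat_lit 1) (nat_lit 1) (Step.D (nat_lit 11711) (Step.F (nat_lit 9600) Step.done)) (Scr.cons (nat_lit 12) (nat_lit 4) (Step.U (nat_lit 815) (Step.L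 (Step.L (Step.D (nat_lit 815) (Step.D (nat_lit 1812) Step.done))))) Scr.nil))))))))))))))))))))))))))))))))))))))))
noncomputable def s240 : Scr := (Scr.cons (nat_lit 6) (nat_lit 1) (Step.L (Step.L (Step.L (Step.L (Step.L (Step.L (Step.L (Step.L (Step.D (nat_lit 815) (Step.D (nat_lit 1812) (Step.D (nat_lit 3537) Step.done))))))))))) (Scr.cons (nat_lit 13) (nat_lit 2) (Step.L (Step.L (Step.L (Step.L (Step.L (Step.L (Step.L (Step.L (Step.D (nat_lit 815) (Step.B (nat_lit 9602) (Step.D (nat_lit 3537) Step.done))))))))))) (Scr.cons (nat_lit 12) (nat_lit 1) (Step.U (nat_lit 3539) (Step.B (nat_lit 9603) (Step.F (nat_lit 9604) (Step.D (nat_lit 3539) (Step.D (nat_lit 6193) Step.done))))) (Scr.cons (nat_lit 11) (nat_lit 0) (Step.U (nat_lit 3539) (Step.L (Step.L (Step.L (Step.D (nat_lit 6192) Step.done))))) (Scr.cons (nat_lit 11) (nat_lit 0) (Step.U (nat_lit 1784) (Step.U (nat_lit 796) (Step.D (nat_lit 795) (Step.D (nat_lit 1782) (Step.D (nat_lit 3494) Step.done))))) (Scr.cons (nat_lit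 12) (nat_lit 1) (Step.U (nat_lit 796) (Step.F (nat_lit 9576) (Step.D (nat_lit 291) (Step.D (nat_lit 796) (Step.D (nat_lit 1783) Step.done))))) (Scr.cons (nat_lit 12) (nat_lit 1) (Step.U (nat_lit 1784) (Step.D (nat_lit 1783) (Step.F (nat_lit 9608) (Step.D (nat_lit 1784) (Step.D (nat_lit 3495) Step.done))))) (Scr.cons (nat_lit 12) (nat_lit 1) (Step.F (nat_lit 9607) (Step.D (nat_lit 3495) (Step.F (nat_lit 9609) (Step.B (nat_lit 9607) (Step.D (nat_lit 6119) Step.done))))) (Scr.cons (nat_lit 9) (nat_lit 5) (Step.U (nat_lit 6192) (Step.L (Step.L (Step.L (Step.L (Step.L (Step.L (Step.L (Step.L (Step.L (Step.L (Step.L (Step.L (Step.L (Step.L (Step.B (nat_lit 9572) (Step.D (nat_lit 89) (Step.B (nat_lit 9576) (Step.D (nat_lit 796) (Step.D (nat_lit 1784) (Step.B (nat_lit 9607) (Step.B (nat_lit 9610) (Step.D (nat_lit 9276) Step.done))))))))))))))))))))))) (Scr.cons (nat_lit 13) (nat_lit 2) (Step.U (nat_lit 9369) (Step.U (nat_lit 6193) (Step.B (nat_lit 9606) (Step.B (nat_lit 9611)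 (Step.U (nat_lit 9276) (Step.U (nat_lit 6119) (Step.U (nat_lit 3494) (Step.D (nat_lit 3493) (Step.D (nat_lit 6118) (Step.B (nat_lit 9579) (Step.D (nat_lit 11675) Step.done))))))))))) (Scr.cons (nat_lit 8) (nat_lit 0) (Step.U (nat_lit 1916) (Step.B (nat_lit 9580) (Step.D (nat_lit 3719) (Step.B (nat_lit 9581) (Step.F (nat_lit 9601) (Step.U (nat_lit 9368) (Step.U (nat_lit 6191) (Step.U (nat_lit 3538) (Step.U (nat_lit 1813) (Step.B (nat_lit 9602) (Step.D (nat_lit 3537) (Step.F (nat_lit 9603) (Step.D (nat_lit 3539) (Step.B (nat_lit 9605) (Step.D (nat_lit 9369) (Step.B (nat_lit 9612) Step.done)))))))))))))))) (Scr.cons (nat_lit 1) (nat_lit 1) (Step.D (nat_lit 11675) (Step.F (nat_lit 9613) (Step.D (nat_lit 3721) Step.done))) (Scr.cons (nat_lit 0) (nat_lit 1) (Step.B (nat_lit 9579) (Step.B (nat_lit 9614) (Step.D (nat_lit 6459) Step.done))) (Scr.cons (nat_lit 0) (nat_lit 0) (Step.B (nat_lit 9575) (Step.F (nat_lit 9615) Step.done)) (Scr.cons (nat_lit 6) (nat_lit 3) (Step.U (nat_lit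 7183) (Step.U (nat_lit 4285) (Step.L (Step.L (Step.L (Step.L (Step.D (nat_lit 1087) (Step.D (nat_lit 2283) (Step.D (nat_lit 4284) (Step.B (nat_lit 5553) (Step.D (nat_lit 10273) Step.done))))))))))) (Scr.cons (nat_lit 1) (nat_lit 0) (Step.D (nat_lit 4283) (Step.B (nat_lit 5560) (Step.D (nat_lit 884) Step.done))) (Scr.cons (nat_lit 1) (nat_lit 0) (Step.U (nat_lit 4284) (Step.B (nat_lit 9618) (Step.D (nat_lit 1917) Step.done))) (Scr.cons (nat_lit 0) (nat_lit 1) (Step.U (nat_lit 7181) (Step.B (nat_lit 9619) (Step.D (nat_lit 3722) Step.done))) (Scr.cons (nat_lit 1) (nat_lit 1) (Step.U (nat_lit 10273) (Step.B (nat_lit 9620) (Step.D (nat_lit 6460) Step.done))) (Scr.cons (nat_lit 0) (nat_lit 1) (Step.B (nat_lit 9617) (Step.B (nat_lit 9621) (Step.D (nat_lit 9607) Step.done))) (Scr.cons (nat_lit 0) (nat_lit 1) (Step.D (nat_lit 9607) (Step.F (nat_lit 9622) Step.done)) (Scr.cons (nat_lit 15) (nat_lit 0) (Step.F (nat_lit 9570) (Step.U (nat_lit 3474) (Step.F (nat_lit 9569) (Step.L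 (Step.D (nat_lit 789) (Step.D (nat_lit 1770) (Step.F (nat_lit 9573) (Step.D (nat_lit 1782) (Step.D (nat_lit 3493) (Step.D (nat_lit 6118) (Step.F (nat_lit 9616) (Step.F (nat_lit 5567) (Step.D (nat_lit 3722) (Step.D (nat_lit 6460) (Step.B (nat_lit 9623) (Step.D (nat_lit 10274) Step.done)))))))))))))))) (Scr.cons (nat_lit 1) (nat_lit 0) (Step.D (nat_lit 10274) (Step.F (nat_lit 9624) (Step.D (nat_lit 9253) Step.done))) (Scr.cons (nat_lit 1) (nat_lit 0) (Step.F (nat_lit 9571) (Step.F (nat_lit 9625) (Step.U (nat_lit 7183) Step.done))) (Scr.cons (nat_lit 1) (nat_lit 0) (Step.D (nat_lit 11662) (Step.B (nat_lit 9626) (Step.D (nat_lit 7184) Step.done))) (Scr.cons (nat_lit 0) (nat_lit 1) (Step.B (nat_lit 8887) (Step.B (nat_lit 9627) (Step.D (nat_lit 10275) Step.done))) (Scr.cons (nat_lit 0) (nat_lit 0) (Step.B (nat_lit 9567) (Step.F (nat_lit 9628) Step.done)) (Scr.cons (nat_lit 15) (nat_lit 0) (Step.L (Step.L (Step.L (Step.L (Step.L (Step.L (Step.F (nat_lit 9629) (Step.U (nat_lit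 7184) (Step.F (nat_lit 656) (Step.L (Step.L (Step.L (Step.L (Step.L (Step.D (nat_lit 7185) (Step.D (nat_lit 10276) Step.done)))))))))))))))) (Scr.cons (nat_lit 1) (nat_lit 0) (Step.D (nat_lit 10276) (Step.F (nat_lit 9630) (Step.L Step.done))) (Scr.cons (nat_lit 0) (nat_lit 1) (Step.B (nat_lit 9566) (Step.B (nat_lit 9631) (Step.D (nat_lit 6406) Step.done))) (Scr.cons (nat_lit 0) (nat_lit 0) (Step.B (nat_lit 9559) (Step.F (nat_lit 9632) Step.done)) (Scr.cons (nat_lit 12) (nat_lit 4) (Step.L (Step.L (Step.L (Step.L (Step.D (nat_lit 10238) Step.done))))) (Scr.cons (nat_lit 12) (nat_lit 4) (Step.L (Step.L (Step.L (Step.L (Step.D (nat_lit 6092) Step.done))))) (Scr.cons (nat_lit 12) (nat_lit 4) (Step.L (Step.D (nat_lit 6092) (Step.F (nat_lit 9635) (Step.L (Step.D (nat_lit 9248) Step.done))))) (Scr.cons (nat_lit 4) (nat_lit 0) (Step.U (nat_lit 4076) (Step.U (nat_lit 2136) (Step.D (nat_lit 2137) (Step.B (nat_lit 410) (Step.D (nat_lit 5095) Step.done))))) (Scr.cons (nat_lit 12)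 (nat_lit 4) (Step.U (nat_lit 2136) (Step.F (nat_lit 406) (Step.D (nat_lit 997) (Step.D (nat_lit 2136) (Step.D (nat_lit 4075) Step.done))))) (Scr.cons (nat_lit 12) (nat_lit 4) (Step.U (nat_lit 4076) (Step.D (nat_lit 4075) (Step.F (nat_lit 9638) (Step.D (nat_lit 4076) (Step.D (nat_lit 6935) Step.done))))) (Scr.cons (nat_lit 14) (nat_lit 5) (Step.U (nat_lit 10068) (Step.U (nat_lit 6935) (Step.B (nat_lit 9637) (Step.U (nat_lit 5095) (Step.F (nat_lit 412) (Step.F (nat_lit 411) (Step.L (Step.L (Step.L (Step.L (Step.L (Step.L (Step.D (nat_lit 1379) (Step.D (nat_lit 2813) (Step.D (nat_lit 5098) (Step.B (nat_lit 5064) (Step.U (nat_lit 4286) (Step.L (Step.D (nat_lit 7185) (Step.D (nat_lit 10276) Step.done)))))))))))))))))))) (Scr.cons (nat_lit 1) (nat_lit 1) (Step.B (nat_lit 9640) (Step.F (nat_lit 9630) (Step.L Step.done))) (Scr.cons (nat_lit 1) (nat_lit 1) (Step.D (nat_lit 10068) (Step.B (nat_lit 9641) (Step.L Step.done))) Scr.nil))))))))))))))))))))))))))))))))))))))))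
noncomputable def s241 : Scr := (Scr.cons (nat_lit 0) (nat_lit 1) (Step.B (nat_lit 9639) (Step.B (nat_lit 9642) (Step.D (nat_lit 3680) Step.done))) (Scr.cons (nat_lit 1) (nat_lit 1) (Step.F (nat_lit 9637) (Step.B (nat_lit 9643) (Step.D (nat_lit 6404) Step.done))) (Scr.cons (nat_lit 1) (nat_lit 1) (Step.D (nat_lit 6404) (Step.F (nat_lit 9644) Step.done)) (Scr.cons (nat_lit 7) (nat_lit 5) (Step.L (Step.L (Step.L (Step.L (Step.L (Step.L (Step.L (Step.B (nat_lit 409) (Step.B (nat_lit 407) (Step.B (nat_lit 410) (Step.D (nat_lit 5095) (Step.F (nat_lit 9645) (Step.U (nat_lit 3680) (Step.L (Step.L (Step.L (Step.L (Step.L (Step.L (Step.B (nat_lit 9636) (Step.D (nat_lit 11660) Step.done))))))))))))))))))))) (Scr.cons (nat_lit 1) (nat_lit 1) (Step.D (nat_lit 11660) (Step.F (nat_lit 9646) (Step.L Step.done))) (Scr.cons (nat_lit 0) (nat_lit 1) (Step.B (nat_lit 9636) (Step.B (nat_lit 9647) (Step.D (nat_lit 10238) Step.done))) (Scr.cons (nat_lit 0) (nat_lit 0) (Step.B (nat_lit 9634)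 (Step.F (nat_lit 9648) Step.done)) (Scr.cons (nat_lit 12) (nat_lit 4) (Step.U (nat_lit 6333) (Step.L (Step.L (Step.D (nat_lit 6333) (Step.D (nat_lit 9494) Step.done))))) (Scr.cons (nat_lit 11) (nat_lit 0) (Step.L (Step.L (Step.L (Step.D (nat_lit 6333) (Step.D (nat_lit 9495) Step.done))))) (Scr.cons (nat_lit 12) (nat_lit 1) (Step.F (nat_lit 9651) (Step.L (Step.L (Step.B (nat_lit 9651) (Step.D (nat_lit 11757) Step.done))))) (Scr.cons (nat_lit 16) (nat_lit 1) (Step.F (nat_lit 9652) (Step.F (nat_lit 9651) (Step.L (Step.L (Step.L (Step.L (Step.L (Step.L (Step.L (Step.L (Step.L (Step.L (Step.L (Step.L (Step.L (Step.L (Step.L (Step.L (Step.L (Step.L (Step.L (Step.L (Step.D (nat_lit 9549) Step.done))))))))))))))))))))))) (Scr.cons (nat_lit 13) (nat_lit 0) (Step.L (Step.L (Step.L (Step.L (Step.L (Step.L (Step.D (nat_lit 9549) (Step.F (nat_lit 9653) (Step.U (nat_lit 11757) (Step.U (nat_lit 9495) (Step.D (nat_lit 9494) (Step.D (nat_lit 11756) Step.done)))))))))))) (Scr.cons (nat_lit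 1) (nat_lit 0) (Step.D (nat_lit 11756) (Step.F (nat_lit 9654) (Step.L Step.done))) (Scr.cons (nat_lit 0) (nat_lit 1) (Step.B (nat_lit 9650) (Step.B (nat_lit 9655) (Step.L Step.done))) (Scr.cons (nat_lit 1) (nat_lit 0) (Step.D (nat_lit 6333) (Step.B (nat_lit 9656) (Step.D (nat_lit 7187) Step.done))) (Scr.cons (nat_lit 1) (nat_lit 0) (Step.D (nat_lit 7187) (Step.F (nat_lit 9657) Step.done)) (Scr.cons (nat_lit 6) (nat_lit 3) (Step.L (Step.L (Step.L (Step.D (nat_lit 4618) (Step.B (nat_lit 3303) (Step.F (nat_lit 9560) (Step.L (Step.L (Step.L (Step.L (Step.L (Step.D (nat_lit 11661) Step.done)))))))))))) (Scr.cons (nat_lit 1) (nat_lit 1) (Step.D (nat_lit 11661) (Step.F (nat_lit 9659) Step.done)) (Scr.cons (nat_lit 12) (nat_lit 1) (Step.U (nat_lit 4162) (Step.L (Step.L (Step.D (nat_lit 4162) (Step.D (nat_lit 7029) Step.done))))) (Scr.cons (nat_lit 12) (nat_lit 1) (Step.U (nat_lit 7030) (Step.D (nat_lit 7029) (Step.F (nat_lit 9661) (Step.D (nat_lit 7030) (Step.D (nat_lit 10162)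 Step.done))))) (Scr.cons (nat_lit 0) (nat_lit 1) (Step.B (nat_lit 9612) (Step.F (nat_lit 9613) (Step.D (nat_lit 3720) Step.done))) (Scr.cons (nat_lit 1) (nat_lit 1) (Step.D (nat_lit 9369) (Step.B (nat_lit 9663) (Step.D (nat_lit 6457) Step.done))) (Scr.cons (nat_lit 1) (nat_lit 1) (Step.D (nat_lit 6457) (Step.F (nat_lit 9664) Step.done)) (Scr.cons (nat_lit 12) (nat_lit 4) (Step.U (nat_lit 1916) (Step.D (nat_lit 1915) (Step.F (nat_lit 9580) (Step.D (nat_lit 1916) (Step.D (nat_lit 3720) Step.done))))) (Scr.cons (nat_lit 14) (nat_lit 0) (Step.U (nat_lit 9605) (Step.U (nat_lit 6458) (Step.F (nat_lit 9666) (Step.D (nat_lit 3721) (Step.F (nat_lit 5567) (Step.U (nat_lit 1917) (Step.F (nat_lit 1820) (Step.L (Step.L (Step.L (Step.L (Step.L (Step.L (Step.L (Step.L (Step.D (nat_lit 1060) (Step.D (nat_lit 2243) (Step.D (nat_lit 4232) (Step.D (nat_lit 7122) (Step.D (nat_lit 10224) Step.done)))))))))))))))))))) (Scr.cons (nat_lit 12) (nat_lit 4) (Step.U (nat_lit 1060) (Step.L (Step.L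 (Step.D (nat_lit 1060) (Step.D (nat_lit 2243) Step.done))))) (Scr.cons (nat_lit 12) (nat_lit 4) (Step.U (nat_lit 4232) (Step.F (nat_lit 9668) (Step.D (nat_lit 2243) (Step.D (nat_lit 4232) (Step.D (nat_lit 7121) Step.done))))) (Scr.cons (nat_lit 12) (nat_lit 4) (Step.U (nat_lit 7122) (Step.D (nat_lit 7121) (Step.F (nat_lit 9669) (Step.D (nat_lit 7122) (Step.D (nat_lit 10223) Step.done))))) (Scr.cons (nat_lit 12) (nat_lit 3) (Step.B (nat_lit 9667) (Step.U (nat_lit 10224) (Step.D (nat_lit 10223) (Step.F (nat_lit 9670) (Step.D (nat_lit 10224) Step.done))))) (Scr.cons (nat_lit 0) (nat_lit 1) (Step.U (nat_lit 2243) (Step.B (nat_lit 3382) (Step.L Step.done))) (Scr.cons (nat_lit 1) (nat_lit 1) (Step.U (nat_lit 4232) (Step.B (nat_lit 9672) (Step.L Step.done))) (Scr.cons (nat_lit 1) (nat_lit 1) (Step.U (nat_lit 7122) (Step.B (nat_lit 9673) (Step.D (nat_lit 2197) Step.done))) (Scr.cons (nat_lit 1) (nat_lit 1) (Step.U (nat_lit 10224) (Step.B (nat_lit 9674) (Step.D (nat_lit 4159)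 Step.done))) (Scr.cons (nat_lit 0) (nat_lit 1) (Step.B (nat_lit 9671) (Step.B (nat_lit 9675) (Step.D (nat_lit 7026) Step.done))) (Scr.cons (nat_lit 1) (nat_lit 1) (Step.D (nat_lit 9605) (Step.B (nat_lit 9676) (Step.D (nat_lit 10159) Step.done))) (Scr.cons (nat_lit 1) (nat_lit 1) (Step.D (nat_lit 10159) (Step.F (nat_lit 9677) Step.done)) (Scr.cons (nat_lit 7) (nat_lit 0) (Step.L (Step.L (Step.L (Step.L (Step.L (Step.D (nat_lit 3539) (Step.D (nat_lit 6193) (Step.F (nat_lit 9665) (Step.D (nat_lit 6458) (Step.F (nat_lit 9678) (Step.U (nat_lit 7026) (Step.U (nat_lit 4159) (Step.U (nat_lit 2197) (Step.L (Step.L (Step.L (Step.L (Step.L (Step.D (nat_lit 4162) (Step.D (nat_lit 7030) (Step.D (nat_lit 10162) Step.done))))))))))))))))))))) (Scr.cons (nat_lit 0) (nat_lit 1) (Step.B (nat_lit 9662) (Step.F (nat_lit 9679) (Step.L Step.done))) (Scr.cons (nat_lit 1) (nat_lit 1) (Step.D (nat_lit 7030) (Step.B (nat_lit 9680) (Step.L Step.done))) (Scr.cons (nat_lit 1) (nat_lit 1) (Step.D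 (nat_lit 4162) (Step.B (nat_lit 9681) (Step.D (nat_lit 6194) Step.done))) Scr.nil))))))))))))))))))))))))))))))))))))))))
noncomputable def s242 : Scr := (Scr.cons (nat_lit 1) (nat_lit 1) (Step.D (nat_lit 6194) (Step.F (nat_lit 9682) Step.done)) (Scr.cons (nat_lit 12) (nat_lit 4) (Step.L (Step.L (Step.L (Step.L (Step.D (nat_lit 9764) Step.done))))) (Scr.cons (nat_lit 12) (nat_lit 4) (Step.L (Step.D (nat_lit 9764) (Step.F (nat_lit 9684) (Step.L (Step.L Step.done))))) (Scr.cons (nat_lit 12) (nat_lit 1) (Step.L (Step.L (Step.L (Step.L (Step.D (nat_lit 9780) Step.done))))) (Scr.cons (nat_lit 12) (nat_lit 1) (Step.L (Step.D (nat_lit 9780) (Step.F (nat_lit 9686) (Step.L (Step.L Step.done))))) (Scr.cons (nat_lit 7) (nat_lit 0) (Step.L (Step.L (Step.L (Step.L (Step.L (Step.L (Step.L (Step.L (Step.L (Step.B (nat_lit 298) (Step.U (nat_lit 2003) (Step.U (nat_lit 928) (Step.L (Step.L (Step.L (Step.L (Step.L (Step.L (Step.L (Step.L Step.done)))))))))))))))))))) (Scr.cons (nat_lit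 12) (nat_lit 1) (Step.L (Step.L (Step.L (Step.L (Step.D (nat_lit 1997) Step.done))))) (Scr.cons (nat_lit 7) (nat_lit 0) (Step.U (nat_lit 9790) (Step.U (nat_lit 6633) (Step.U (nat_lit 3851) (Step.L (Step.L (Step.L (Step.L (Step.L (Step.L (Step.L (Step.L (Step.L (Step.L (Step.L (Step.L (Step.L (Step.L (Step.B (nat_lit 9689) (Step.D (nat_lit 3848) (Step.D (nat_lit 6630) (Step.D (nat_lit 9788) Step.done))))))))))))))))))))) (Scr.cons (nat_lit 1) (nat_lit 1) (Step.D (nat_lit 9790) (Step.B (nat_lit 9690) Step.done)) (Scr.cons (nat_lit 12) (nat_lit 1) (Step.U (nat_lit 6149) (Step.L (Step.L (Step.D (nat_lit 6149) (Step.D (nat_lit 9312) Step.done))))) (Scr.cons (nat_lit 6) (nat_lit 3) (Step.U (nat_lit 9334) (Step.U (nat_lit 6163) (Step.L (Step.L (Step.L (Step.L (Step.L (Step.L (Step.D (nat_lit 6149) (Step.B (nat_lit 9692) (Step.D (nat_lit 11689) Step.done))))))))))) (Scr.cons (nat_lit 13) (nat_lit 0) (Step.U (nat_lit 9334) (Step.F (nat_lit 9503) (Step.L (Step.L (Step.L (Step.L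 (Step.L (Step.L (Step.D (nat_lit 6149) (Step.D (nat_lit 9312) (Step.D (nat_lit 11689) Step.done))))))))))) (Scr.cons (nat_lit 5) (nat_lit 1) (Step.F (nat_lit 9522) (Step.U (nat_lit 11697) (Step.B (nat_lit 9693) (Step.F (nat_lit 9694) (Step.D (nat_lit 11697) Step.done))))) (Scr.cons (nat_lit 7) (nat_lit 1) (Step.U (nat_lit 9795) (Step.U (nat_lit 6637) (Step.B (nat_lit 9131) (Step.U (nat_lit 6636) (Step.L (Step.L (Step.L (Step.L (Step.L (Step.L (Step.L (Step.L (Step.L (Step.L (Step.L (Step.L (Step.D (nat_lit 3852) (Step.D (nat_lit 6635) (Step.D (nat_lit 9792) (Step.D (nat_lit 11844) Step.done)))))))))))))))))))) (Scr.cons (nat_lit 11) (nat_lit 0) (Step.B (nat_lit 9521) (Step.U (nat_lit 9796) (Step.D (nat_lit 9795) (Step.B (nat_lit 9696) (Step.U (nat_lit 11844) (Step.D (nat_lit 11843) Step.done)))))) (Scr.cons (nat_lit 1) (nat_lit 0) (Step.D (nat_lit 11843) (Step.F (nat_lit 9697) (Step.D (nat_lit 11037) Step.done))) (Scr.cons (nat_lit 12) (nat_lit 1) (Step.U (nat_lit 6635)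 (Step.D (nat_lit 6634) (Step.F (nat_lit 9214) (Step.D (nat_lit 6635) (Step.D (nat_lit 9792) Step.done))))) (Scr.cons (nat_lit 0) (nat_lit 1) (Step.F (nat_lit 9695) (Step.F (nat_lit 9698) (Step.F (nat_lit 9699) Step.done))) (Scr.cons (nat_lit 11) (nat_lit 0) (Step.U (nat_lit 6635) (Step.U (nat_lit 3852) (Step.D (nat_lit 3851) (Step.D (nat_lit 6633) (Step.D (nat_lit 9790) Step.done))))) (Scr.cons (nat_lit 1) (nat_lit 0) (Step.B (nat_lit 9701) (Step.B (nat_lit 9690) Step.done)) (Scr.cons (nat_lit 1) (nat_lit 0) (Step.D (nat_lit 11697) (Step.B (nat_lit 9700) (Step.B (nat_lit 9702) Step.done))) (Scr.cons (nat_lit 1) (nat_lit 0) (Step.B (nat_lit 9691) (Step.F (nat_lit 9703) (Step.U (nat_lit 9334) Step.done))) (Scr.cons (nat_lit 0) (nat_lit 1) (Step.F (nat_lit 9518) (Step.B (nat_lit 9704) (Step.F (nat_lit 9503) Step.done))) (Scr.cons (nat_lit 1) (nat_lit 0) (Step.D (nat_lit 6162) (Step.B (nat_lit 9705) (Step.D (nat_lit 6164) Step.done))) (Scr.cons (nat_lit 1) (nat_lit 0) (Step.D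 (nat_lit 6164) (Step.F (nat_lit 9706) Step.done)) (Scr.cons (nat_lit 11) (nat_lit 0) (Step.L (Step.L (Step.L (Step.L (Step.D (nat_lit 6160) Step.done))))) (Scr.cons (nat_lit 12) (nat_lit 1) (Step.F (nat_lit 9708) (Step.L (Step.L (Step.B (nat_lit 9708) (Step.D (nat_lit 9326) Step.done))))) (Scr.cons (nat_lit 12) (nat_lit 1) (Step.U (nat_lit 6164) (Step.D (nat_lit 6163) (Step.F (nat_lit 9503) (Step.D (nat_lit 6164) (Step.D (nat_lit 9336) Step.done))))) (Scr.cons (nat_lit 12) (nat_lit 1) (Step.F (nat_lit 9510) (Step.D (nat_lit 9336) (Step.F (nat_lit 9710) (Step.B (nat_lit 9510) (Step.D (nat_lit 11696) Step.done))))) (Scr.cons (nat_lit 7) (nat_lit 5) (Step.F (nat_lit 9711) (Step.U (nat_lit 9333) (Step.U (nat_lit 6162) (Step.L (Step.L (Step.L (Step.L (Step.L (Step.L (Step.L (Step.L (Step.L (Step.L (Step.L (Step.L (Step.L (Step.L (Step.B (nat_lit 9708) (Step.B (nat_lit 9709) (Step.D (nat_lit 11694) Step.done)))))))))))))))))))) (Scr.cons (nat_lit 1) (nat_lit 1) (Step.U (nat_lit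 9333) (Step.B (nat_lit 9705) (Step.L Step.done))) (Scr.cons (nat_lit 0) (nat_lit 1) (Step.U (nat_lit 11696) (Step.B (nat_lit 9713) (Step.L Step.done))) (Scr.cons (nat_lit 1) (nat_lit 1) (Step.F (nat_lit 9712) (Step.B (nat_lit 9714) (Step.D (nat_lit 1809) Step.done))) (Scr.cons (nat_lit 11) (nat_lit 0) (Step.L (Step.L (Step.L (Step.L (Step.D (nat_lit 1809) Step.done))))) (Scr.cons (nat_lit 1) (nat_lit 1) (Step.D (nat_lit 11694) (Step.B (nat_lit 9715) (Step.F (nat_lit 9716) Step.done))) (Scr.cons (nat_lit 0) (nat_lit 1) (Step.B (nat_lit 9709) (Step.B (nat_lit 9717) (Step.L Step.done))) (Scr.cons (nat_lit 1) (nat_lit 1) (Step.B (nat_lit 9708) (Step.B (nat_lit 9718) (Step.D (nat_lit 3524) Step.done))) (Scr.cons (nat_lit 1) (nat_lit 1) (Step.D (nat_lit 3524) (Step.F (nat_lit 9719) Step.done)) (Scr.cons (nat_lit 11) (nat_lit 0) (Step.L (Step.L (Step.L (Step.D (nat_lit 3526) (Step.D (nat_lit 6171) Step.done))))) (Scr.cons (nat_lit 11) (nat_lit 0) (Step.U (nat_lit 6153) (Step.U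 (nat_lit 3517) (Step.D (nat_lit 3516) (Step.D (nat_lit 6152) (Step.D (nat_lit 9314) Step.done))))) Scr.nil))))))))))))))))))))))))))))))))))))))))
noncomputable def s243 : Scr := (Scr.cons (nat_lit 12) (nat_lit 1) (Step.U (nat_lit 6153) (Step.F (nat_lit 546) (Step.B (nat_lit 544) (Step.D (nat_lit 6153) (Step.D (nat_lit 9315) Step.done))))) (Scr.cons (nat_lit 12) (nat_lit 1) (Step.F (nat_lit 9722) (Step.D (nat_lit 9315) (Step.F (nat_lit 9723) (Step.B (nat_lit 9722) (Step.D (nat_lit 11690) Step.done))))) (Scr.cons (nat_lit 11) (nat_lit 0) (Step.U (nat_lit 2184) (Step.L (Step.L (Step.D (nat_lit 2183) (Step.D (nat_lit 4146) Step.done))))) (Scr.cons (nat_lit 7) (nat_lit 0) (Step.U (nat_lit 10066) (Step.U (nat_lit 6933) (Step.U (nat_lit 4075) (Step.U (nat_lit 2136) (Step.D (nat_lit 2137) (Step.F (nat_lit 408) (Step.U (nat_lit 1059) (Step.L (Step.L (Step.L (Step.L (Step.L (Step.L (Step.L (Step.L (Step.L (Step.B (nat_lit 2747) (Step.D (nat_lit 4219) (Step.D (nat_lit 7098) (Step.D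 (nat_lit 10203) Step.done)))))))))))))))))))) (Scr.cons (nat_lit 4) (nat_lit 0) (Step.F (nat_lit 9726) (Step.U (nat_lit 10066) (Step.U (nat_lit 6933) (Step.D (nat_lit 6934) (Step.D (nat_lit 10067) Step.done))))) (Scr.cons (nat_lit 12) (nat_lit 1) (Step.L (Step.L (Step.L (Step.L (Step.D (nat_lit 2131) Step.done))))) (Scr.cons (nat_lit 12) (nat_lit 1) (Step.U (nat_lit 4066) (Step.F (nat_lit 9728) (Step.D (nat_lit 2131) (Step.D (nat_lit 4066) (Step.D (nat_lit 6921) Step.done))))) (Scr.cons (nat_lit 12) (nat_lit 1) (Step.U (nat_lit 6922) (Step.D (nat_lit 6921) (Step.F (nat_lit 9729) (Step.D (nat_lit 6922) (Step.D (nat_lit 10060) Step.done))))) (Scr.cons (nat_lit 7) (nat_lit 0) (Step.U (nat_lit 10319) (Step.D (nat_lit 10320) (Step.F (nat_lit 2149) (Step.U (nat_lit 9544) (Step.F (nat_lit 2050) (Step.U (nat_lit 3774) (Step.F (nat_lit 2107) (Step.L (Step.L (Step.L (Step.L (Step.L (Step.L (Step.L (Step.L (Step.L (Step.L (Step.B (nat_lit 9728) (Step.D (nat_lit 4066) (Step.D (nat_lit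 6922) (Step.D (nat_lit 10060) Step.done))))))))))))))))))))) (Scr.cons (nat_lit 1) (nat_lit 1) (Step.D (nat_lit 10319) (Step.B (nat_lit 9731) Step.done)) (Scr.cons (nat_lit 1) (nat_lit 1) (Step.F (nat_lit 9732) (Step.B (nat_lit 2198) (Step.D (nat_lit 406) Step.done))) (Scr.cons (nat_lit 0) (nat_lit 1) (Step.B (nat_lit 9730) (Step.B (nat_lit 9733) (Step.F (nat_lit 27) Step.done))) (Scr.cons (nat_lit 1) (nat_lit 1) (Step.D (nat_lit 6922) (Step.B (nat_lit 9734) (Step.L Step.done))) (Scr.cons (nat_lit 1) (nat_lit 1) (Step.D (nat_lit 4066) (Step.B (nat_lit 9735) (Step.L Step.done))) (Scr.cons (nat_lit 0) (nat_lit 1) (Step.B (nat_lit 9728) (Step.B (nat_lit 9736) (Step.D (nat_lit 2240) Step.done))) (Scr.cons (nat_lit 1) (nat_lit 0) (Step.U (nat_lit 4219) (Step.F (nat_lit 9737) (Step.L Step.done))) (Scr.cons (nat_lit 1) (nat_lit 0) (Step.U (nat_lit 7098) (Step.B (nat_lit 9738) (Step.L Step.done))) (Scr.cons (nat_lit 0) (nat_lit 1) (Step.U (nat_lit 10203) (Step.B (nat_lit 9739)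 (Step.L Step.done))) (Scr.cons (nat_lit 1) (nat_lit 1) (Step.F (nat_lit 9727) (Step.B (nat_lit 9740) (Step.L Step.done))) (Scr.cons (nat_lit 1) (nat_lit 1) (Step.D (nat_lit 10067) (Step.B (nat_lit 9741) (Step.D (nat_lit 2183) Step.done))) (Scr.cons (nat_lit 1) (nat_lit 1) (Step.D (nat_lit 6934) (Step.B (nat_lit 9742) (Step.D (nat_lit 4146) Step.done))) (Scr.cons (nat_lit 1) (nat_lit 0) (Step.B (nat_lit 9725) (Step.F (nat_lit 9743) Step.done)) (Scr.cons (nat_lit 14) (nat_lit 5) (Step.U (nat_lit 7010) (Step.U (nat_lit 4147) (Step.U (nat_lit 2184) (Step.L (Step.L (Step.L (Step.L (Step.L (Step.L (Step.L (Step.L (Step.L (Step.L (Step.L (Step.L (Step.L (Step.L (Step.D (nat_lit 3520) (Step.D (nat_lit 6156) (Step.D (nat_lit 9321) Step.done)))))))))))))))))))) (Scr.cons (nat_lit 4) (nat_lit 0) (Step.U (nat_lit 7009) (Step.D (nat_lit 7010) (Step.B (nat_lit 9745) (Step.U (nat_lit 9321) (Step.D (nat_lit 9322) Step.done))))) (Scr.cons (nat_lit 11) (nat_lit 0) (Step.U (nat_lit 3521)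 (Step.L (Step.L (Step.D (nat_lit 3520) (Step.D (nat_lit 6157) Step.done))))) (Scr.cons (nat_lit 12) (nat_lit 1) (Step.U (nat_lit 3521) (Step.L (Step.L (Step.D (nat_lit 3521) (Step.D (nat_lit 6159) Step.done))))) (Scr.cons (nat_lit 12) (nat_lit 1) (Step.F (nat_lit 9747) (Step.D (nat_lit 6159) (Step.F (nat_lit 9748) (Step.B (nat_lit 9747) (Step.D (nat_lit 9323) Step.done))))) (Scr.cons (nat_lit 11) (nat_lit 0) (Step.U (nat_lit 6169) (Step.U (nat_lit 3525) (Step.D (nat_lit 3524) (Step.D (nat_lit 6167) (Step.D (nat_lit 9338) Step.done))))) (Scr.cons (nat_lit 12) (nat_lit 1) (Step.U (nat_lit 3525) (Step.L (Step.L (Step.D (nat_lit 3525) (Step.D (nat_lit 6168) Step.done))))) (Scr.cons (nat_lit 12) (nat_lit 1) (Step.U (nat_lit 6169) (Step.D (nat_lit 6168) (Step.F (nat_lit 9751) (Step.D (nat_lit 6169) (Step.D (nat_lit 9339) Step.done))))) (Scr.cons (nat_lit 12) (nat_lit 1) (Step.F (nat_lit 9750) (Step.D (nat_lit 9339) (Step.F (nat_lit 9752) (Step.B (nat_lit 9750) (Step.D (nat_lit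 11700) Step.done))))) (Scr.cons (nat_lit 14) (nat_lit 2) (Step.F (nat_lit 9753) (Step.F (nat_lit 9750) (Step.U (nat_lit 6169) (Step.U (nat_lit 3525) (Step.L (Step.L (Step.L (Step.L (Step.L (Step.L (Step.L (Step.L (Step.L (Step.L (Step.L (Step.L (Step.D (nat_lit 3520) (Step.D (nat_lit 6157) (Step.B (nat_lit 9749) (Step.D (nat_lit 11692) Step.done)))))))))))))))))))) (Scr.cons (nat_lit 1) (nat_lit 1) (Step.U (nat_lit 6167) (Step.F (nat_lit 9719) (Step.L Step.done))) (Scr.cons (nat_lit 1) (nat_lit 1) (Step.U (nat_lit 9338) (Step.B (nat_lit 9755) (Step.L Step.done))) (Scr.cons (nat_lit 0) (nat_lit 1) (Step.U (nat_lit 11700) (Step.B (nat_lit 9756) (Step.L Step.done))) (Scr.cons (nat_lit 1) (nat_lit 0) (Step.F (nat_lit 9754) (Step.B (nat_lit 9757) (Step.L Step.done))) (Scr.cons (nat_lit 1) (nat_lit 0) (Step.D (nat_lit 11692) (Step.B (nat_lit 9758) (Step.L Step.done))) (Scr.cons (nat_lit 0) (nat_lit 1) (Step.B (nat_lit 9749) (Step.B (nat_lit 9759) (Step.L Step.done))) (Scr.cons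 (nat_lit 1) (nat_lit 0) (Step.D (nat_lit 6157) (Step.B (nat_lit 9760) (Step.L Step.done))) (Scr.cons (nat_lit 0) (nat_lit 1) (Step.U (nat_lit 6156) (Step.B (nat_lit 9761) (Step.L Step.done))) Scr.nil))))))))))))))))))))))))))))))))))))))))
noncomputable def s244 : Scr := (Scr.cons (nat_lit 1) (nat_lit 0) (Step.U (nat_lit 9322) (Step.B (nat_lit 9762) (Step.D (nat_lit 6158) Step.done))) (Scr.cons (nat_lit 1) (nat_lit 0) (Step.B (nat_lit 9746) (Step.B (nat_lit 9763) (Step.D (nat_lit 9324) Step.done))) (Scr.cons (nat_lit 1) (nat_lit 0) (Step.D (nat_lit 9324) (Step.F (nat_lit 9764) Step.done)) (Scr.cons (nat_lit 16) (nat_lit 1) (Step.F (nat_lit 9744) (Step.D (nat_lit 4147) (Step.D (nat_lit 7009) (Step.F (nat_lit 9765) (Step.U (nat_lit 6158) (Step.L (Step.L (Step.L (Step.L (Step.L (Step.L (Step.L (Step.L (Step.L (Step.L (Step.L (Step.L (Step.L (Step.L (Step.D (nat_lit 1804) (Step.D (nat_lit 3516) (Step.D (nat_lit 6152) (Step.D (nat_lit 9314) (Step.D (nat_lit 11690) Step.done))))))))))))))))))))))))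 (Scr.cons (nat_lit 0) (nat_lit 1) (Step.B (nat_lit 9724) (Step.F (nat_lit 9766) (Step.F (nat_lit 9638) Step.done))) (Scr.cons (nat_lit 1) (nat_lit 0) (Step.D (nat_lit 4076) (Step.B (nat_lit 9643) (Step.D (nat_lit 6405) Step.done))) (Scr.cons (nat_lit 1) (nat_lit 0) (Step.D (nat_lit 6405) (Step.F (nat_lit 9768) Step.done)) (Scr.cons (nat_lit 1) (nat_lit 1) (Step.B (nat_lit 9722) (Step.B (nat_lit 9767) (Step.F (nat_lit 9769) Step.done))) (Scr.cons (nat_lit 1) (nat_lit 1) (Step.D (nat_lit 6153) (Step.B (nat_lit 9770) (Step.B (nat_lit 9645) Step.done))) (Scr.cons (nat_lit 0) (nat_lit 1) (Step.U (nat_lit 8110) (Step.F (nat_lit 9771) (Step.F (nat_lit 546) Step.done))) (Scr.cons (nat_lit 1) (nat_lit 0) (Step.B (nat_lit 9494) (Step.B (nat_lit 9772) (Step.L Step.done))) (Scr.cons (nat_lit 1) (nat_lit 0) (Step.D (nat_lit 6454) (Step.B (nat_lit 9773) (Step.B (nat_lit 9721) Step.done))) (Scr.cons (nat_lit 1) (nat_lit 0) (Step.B (nat_lit 9721) (Step.F (nat_lit 9774) Step.done)) (Scr.cons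 (nat_lit 11) (nat_lit 0) (Step.U (nat_lit 1807) (Step.U (nat_lit 812) (Step.L (Step.D (nat_lit 1805) (Step.D (nat_lit 3518) Step.done))))) (Scr.cons (nat_lit 12) (nat_lit 1) (Step.U (nat_lit 812) (Step.L (Step.L (Step.D (nat_lit 812) (Step.D (nat_lit 1806) Step.done))))) (Scr.cons (nat_lit 12) (nat_lit 1) (Step.U (nat_lit 1807) (Step.D (nat_lit 1806) (Step.F (nat_lit 9777) (Step.D (nat_lit 1807) (Step.D (nat_lit 3519) Step.done))))) (Scr.cons (nat_lit 12) (nat_lit 1) (Step.F (nat_lit 9776) (Step.D (nat_lit 3519) (Step.F (nat_lit 9778) (Step.B (nat_lit 9776) (Step.D (nat_lit 6154) Step.done))))) (Scr.cons (nat_lit 11) (nat_lit 0) (Step.U (nat_lit 3513) (Step.U (nat_lit 1798) (Step.D (nat_lit 1797) (Step.D (nat_lit 3511) (Step.D (nat_lit 6143) Step.done))))) (Scr.cons (nat_lit 12) (nat_lit 4) (Step.U (nat_lit 297) (Step.L (Step.L (Step.D (nat_lit 297) (Step.D (nat_lit 806) Step.done))))) (Scr.cons (nat_lit 12) (nat_lit 1) (Step.U (nat_lit 1798) (Step.F (nat_lit 9781) (Step.D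 (nat_lit 806) (Step.D (nat_lit 1798) (Step.D (nat_lit 3512) Step.done))))) (Scr.cons (nat_lit 12) (nat_lit 1) (Step.U (nat_lit 3513) (Step.D (nat_lit 3512) (Step.F (nat_lit 9782) (Step.D (nat_lit 3513) (Step.D (nat_lit 6145) Step.done))))) (Scr.cons (nat_lit 12) (nat_lit 1) (Step.F (nat_lit 9780) (Step.D (nat_lit 6145) (Step.F (nat_lit 9783) (Step.B (nat_lit 9780) (Step.D (nat_lit 9306) Step.done))))) (Scr.cons (nat_lit 7) (nat_lit 5) (Step.F (nat_lit 9784) (Step.U (nat_lit 6143) (Step.U (nat_lit 3511) (Step.U (nat_lit 1797) (Step.U (nat_lit 806) (Step.U (nat_lit 297) (Step.L (Step.L (Step.L (Step.L (Step.L (Step.L (Step.L (Step.L (Step.L (Step.D (nat_lit 812) (Step.D (nat_lit 1807) (Step.B (nat_lit 9776) (Step.B (nat_lit 9779) (Step.D (nat_lit 9316) Step.done)))))))))))))))))))) (Scr.cons (nat_lit 1) (nat_lit 0) (Step.D (nat_lit 556) (Step.F (nat_lit 2259) (Step.D (nat_lit 1086) Step.done))) (Scr.cons (nat_lit 1) (nat_lit 0) (Step.B (nat_lit 2821) (Step.F (nat_lit 9786)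 (Step.L Step.done))) (Scr.cons (nat_lit 0) (nat_lit 1) (Step.B (nat_lit 2817) (Step.B (nat_lit 9787) (Step.L Step.done))) (Scr.cons (nat_lit 1) (nat_lit 1) (Step.D (nat_lit 311) (Step.B (nat_lit 9788) (Step.D (nat_lit 297) Step.done))) (Scr.cons (nat_lit 0) (nat_lit 1) (Step.U (nat_lit 806) (Step.F (nat_lit 9789) (Step.D (nat_lit 310) Step.done))) (Scr.cons (nat_lit 1) (nat_lit 1) (Step.U (nat_lit 1797) (Step.B (nat_lit 9790) (Step.D (nat_lit 841) Step.done))) (Scr.cons (nat_lit 1) (nat_lit 1) (Step.U (nat_lit 3511) (Step.B (nat_lit 9791) (Step.D (nat_lit 1847) Step.done))) (Scr.cons (nat_lit 14) (nat_lit 4) (Step.U (nat_lit 1849) (Step.U (nat_lit 842) (Step.U (nat_lit 310) (Step.L (Step.L (Step.L (Step.L (Step.L (Step.L (Step.L (Step.L (Step.L (Step.L (Step.L (Step.L (Step.L (Step.L (Step.L (Step.D (nat_lit 1785) (Step.D (nat_lit 3496) Step.done)))))))))))))))))))) (Scr.cons (nat_lit 11) (nat_lit 0) (Step.F (nat_lit 9793) (Step.U (nat_lit 1849) (Step.U (nat_lit 842)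 (Step.D (nat_lit 841) (Step.D (nat_lit 1847) Step.done))))) (Scr.cons (nat_lit 1) (nat_lit 1) (Step.U (nat_lit 6143) (Step.B (nat_lit 9792) (Step.F (nat_lit 9794) Step.done))) (Scr.cons (nat_lit 11) (nat_lit 0) (Step.L (Step.L (Step.L (Step.L (Step.D (nat_lit 1785) Step.done))))) (Scr.cons (nat_lit 12) (nat_lit 1) (Step.F (nat_lit 9796) (Step.L (Step.L (Step.B (nat_lit 9796) (Step.D (nat_lit 3496) Step.done))))) (Scr.cons (nat_lit 0) (nat_lit 1) (Step.U (nat_lit 9306) (Step.B (nat_lit 9795) (Step.F (nat_lit 9797) Step.done))) (Scr.cons (nat_lit 1) (nat_lit 1) (Step.F (nat_lit 9785) (Step.B (nat_lit 9798) (Step.F (nat_lit 9796) Step.done))) (Scr.cons (nat_lit 1) (nat_lit 1) (Step.D (nat_lit 9316) (Step.B (nat_lit 9799) (Step.L Step.done))) (Scr.cons (nat_lit 0) (nat_lit 1) (Step.B (nat_lit 9779) (Step.B (nat_lit 9800) (Step.D (nat_lit 798) Step.done))) (Scr.cons (nat_lit 1) (nat_lit 0) (Step.D (nat_lit 3518) (Step.B (nat_lit 9801) (Step.D (nat_lit 1786) Step.done))) Scr.nil))))))))))))))))))))))))))))))))))))))))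
noncomputable def s245 : Scr := (Scr.cons (nat_lit 1) (nat_lit 1) (Step.D (nat_lit 1805) (Step.B (nat_lit 9802) Step.done)) (Scr.cons (nat_lit 1) (nat_lit 1) (Step.D (nat_lit 5095) (Step.F (nat_lit 9771) (Step.U (nat_lit 3517) Step.done))) (Scr.cons (nat_lit 0) (nat_lit 1) (Step.B (nat_lit 412) (Step.B (nat_lit 9804) (Step.F (nat_lit 545) Step.done))) (Scr.cons (nat_lit 1) (nat_lit 1) (Step.B (nat_lit 411) (Step.B (nat_lit 9805) (Step.B (nat_lit 9803) Step.done))) (Scr.cons (nat_lit 1) (nat_lit 1) (Step.B (nat_lit 9803) (Step.F (nat_lit 9806) Step.done)) (Scr.cons (nat_lit 11) (nat_lit 0) (Step.L (Step.L (Step.L (Step.D (nat_lit 9733) (Step.D (nat_lit 11831) Step.done))))) (Scr.cons (nat_lit 11) (nat_lit 0) (Step.U (nat_lit 6384) (Step.U (nat_lit 3670) (Step.D (nat_lit 3669) (Step.D (nat_lit 6382) (Step.D (nat_lit 9533) Step.done))))) (Scr.cons (nat_lit 11) (nat_lit 0) (Step.U (nat_lit 3668) (Step.U (nat_lit 1890) (Step.L (Step.D (nat_lit 3666) (Step.D (nat_lit 6378)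 Step.done))))) (Scr.cons (nat_lit 1) (nat_lit 0) (Step.D (nat_lit 8021) (Step.B (nat_lit 4532) (Step.D (nat_lit 3668) Step.done))) (Scr.cons (nat_lit 1) (nat_lit 0) (Step.D (nat_lit 5007) (Step.B (nat_lit 9811) (Step.B (nat_lit 9810) Step.done))) (Scr.cons (nat_lit 1) (nat_lit 0) (Step.B (nat_lit 9810) (Step.F (nat_lit 9812) Step.done)) (Scr.cons (nat_lit 14) (nat_lit 0) (Step.U (nat_lit 8020) (Step.F (nat_lit 4406) (Step.L (Step.D (nat_lit 2751) (Step.F (nat_lit 9813) (Step.U (nat_lit 3668) (Step.U (nat_lit 1890) (Step.L (Step.L (Step.L (Step.L (Step.L (Step.L (Step.L (Step.L (Step.L (Step.L (Step.D (nat_lit 1891) (Step.D (nat_lit 3669) (Step.D (nat_lit 6382) (Step.D (nat_lit 9533) Step.done))))))))))))))))))))) (Scr.cons (nat_lit 1) (nat_lit 1) (Step.B (nat_lit 9809) (Step.F (nat_lit 9814) (Step.B (nat_lit 4412) Step.done))) (Scr.cons (nat_lit 1) (nat_lit 1) (Step.D (nat_lit 7991) (Step.F (nat_lit 9815) (Step.U (nat_lit 6384) Step.done))) (Scr.cons (nat_lit 0) (nat_lit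 1) (Step.B (nat_lit 4411) (Step.B (nat_lit 9816) (Step.D (nat_lit 6383) Step.done))) (Scr.cons (nat_lit 0) (nat_lit 1) (Step.D (nat_lit 6383) (Step.F (nat_lit 9817) Step.done)) (Scr.cons (nat_lit 14) (nat_lit 6) (Step.L (Step.L (Step.L (Step.L (Step.L (Step.L (Step.L (Step.L (Step.L (Step.L (Step.D (nat_lit 196) (Step.D (nat_lit 550) (Step.D (nat_lit 1347) (Step.D (nat_lit 2742) (Step.F (nat_lit 9818) (Step.U (nat_lit 3670) (Step.D (nat_lit 3669) (Step.D (nat_lit 6381) (Step.D (nat_lit 9531) (Step.D (nat_lit 11772) Step.done)))))))))))))))))))) (Scr.cons (nat_lit 12) (nat_lit 4) (Step.L (Step.L (Step.L (Step.L (Step.D (nat_lit 1891) Step.done))))) (Scr.cons (nat_lit 12) (nat_lit 1) (Step.U (nat_lit 3670) (Step.F (nat_lit 9820) (Step.D (nat_lit 1891) (Step.D (nat_lit 3670) (Step.D (nat_lit 6383) Step.done))))) (Scr.cons (nat_lit 0) (nat_lit 0) (Step.B (nat_lit 9821) (Step.F (nat_lit 9817) Step.done)) (Scr.cons (nat_lit 12) (nat_lit 4) (Step.L (Step.L (Step.L (Step.L (Step.D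 (nat_lit 907) Step.done))))) (Scr.cons (nat_lit 12) (nat_lit 1) (Step.U (nat_lit 3780) (Step.F (nat_lit 278) (Step.B (nat_lit 277) (Step.D (nat_lit 3780) (Step.D (nat_lit 6542) Step.done))))) (Scr.cons (nat_lit 6) (nat_lit 3) (Step.U (nat_lit 6548) (Step.U (nat_lit 3786) (Step.U (nat_lit 1958) (Step.F (nat_lit 9823) (Step.L (Step.L (Step.L (Step.B (nat_lit 277) (Step.D (nat_lit 3780) (Step.B (nat_lit 9824) (Step.D (nat_lit 9688) Step.done))))))))))) (Scr.cons (nat_lit 12) (nat_lit 1) (Step.U (nat_lit 3825) (Step.F (nat_lit 9486) (Step.D (nat_lit 1986) (Step.D (nat_lit 3825) (Step.D (nat_lit 6597) Step.done))))) (Scr.cons (nat_lit 12) (nat_lit 1) (Step.U (nat_lit 6598) (Step.D (nat_lit 6597) (Step.F (nat_lit 9826) (Step.D (nat_lit 6598) (Step.D (nat_lit 9752) Step.done))))) (Scr.cons (nat_lit 12) (nat_lit 1) (Step.F (nat_lit 9721) (Step.L (Step.L (Step.B (nat_lit 9721) (Step.D (nat_lit 9342) Step.done))))) (Scr.cons (nat_lit 12) (nat_lit 1) (Step.L (Step.L (Step.L (Step.L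 (Step.D (nat_lit 3778) Step.done))))) (Scr.cons (nat_lit 7) (nat_lit 5) (Step.F (nat_lit 9828) (Step.U (nat_lit 6171) (Step.U (nat_lit 3526) (Step.L (Step.L (Step.L (Step.L (Step.L (Step.L (Step.L (Step.L (Step.L (Step.L (Step.L (Step.L (Step.L (Step.L (Step.L (Step.B (nat_lit 9829) (Step.D (nat_lit 6540) Step.done)))))))))))))))))))) (Scr.cons (nat_lit 0) (nat_lit 1) (Step.U (nat_lit 9342) (Step.F (nat_lit 9774) (Step.D (nat_lit 6453) Step.done))) (Scr.cons (nat_lit 1) (nat_lit 1) (Step.F (nat_lit 9830) (Step.B (nat_lit 9831) (Step.D (nat_lit 9601) Step.done))) (Scr.cons (nat_lit 1) (nat_lit 1) (Step.F (nat_lit 9487) (Step.F (nat_lit 9832) (Step.U (nat_lit 6540) Step.done))) (Scr.cons (nat_lit 0) (nat_lit 1) (Step.B (nat_lit 9827) (Step.B (nat_lit 9833) (Step.F (nat_lit 9829) Step.done))) (Scr.cons (nat_lit 1) (nat_lit 1) (Step.D (nat_lit 6598) (Step.B (nat_lit 9834) (Step.L Step.done))) (Scr.cons (nat_lit 1) (nat_lit 1) (Step.D (nat_lit 3825) (Step.B (nat_lit 9835)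 (Step.L Step.done))) (Scr.cons (nat_lit 0) (nat_lit 1) (Step.B (nat_lit 9486) (Step.B (nat_lit 9836) (Step.L Step.done))) (Scr.cons (nat_lit 1) (nat_lit 0) (Step.D (nat_lit 921) (Step.B (nat_lit 9837) (Step.D (nat_lit 1954) Step.done))) (Scr.cons (nat_lit 1) (nat_lit 0) (Step.U (nat_lit 3780) (Step.F (nat_lit 9838) (Step.L Step.done))) (Scr.cons (nat_lit 12) (nat_lit 1) (Step.L (Step.L (Step.L (Step.L (Step.D (nat_lit 109) Step.done))))) (Scr.cons (nat_lit 8) (nat_lit 1) (Step.L (Step.L (Step.L (Step.L (Step.L (Step.L (Step.L (Step.L (Step.L (Step.L (Step.L (Step.L (Step.L (Step.B (nat_lit 9840) (Step.D (nat_lit 340) Step.done))))))))))))))) (Scr.cons (nat_lit 0) (nat_lit 1) (Step.U (nat_lit 6542) (Step.B (nat_lit 9839) (Step.B (nat_lit 9841) Step.done))) Scr.nil))))))))))))))))))))))))))))))))))))))))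
noncomputable def s246 : Scr := (Scr.cons (nat_lit 1) (nat_lit 1) (Step.U (nat_lit 9688) (Step.B (nat_lit 9842) (Step.U (nat_lit 340) Step.done))) (Scr.cons (nat_lit 0) (nat_lit 1) (Step.B (nat_lit 9825) (Step.B (nat_lit 9843) (Step.F (nat_lit 9840) Step.done))) (Scr.cons (nat_lit 1) (nat_lit 0) (Step.D (nat_lit 6548) (Step.B (nat_lit 9844) (Step.L Step.done))) (Scr.cons (nat_lit 11) (nat_lit 0) (Step.U (nat_lit 3490) (Step.U (nat_lit 1780) (Step.D (nat_lit 1779) (Step.D (nat_lit 3488) (Step.D (nat_lit 6114) Step.done))))) (Scr.cons (nat_lit 12) (nat_lit 4) (Step.U (nat_lit 88) (Step.F (nat_lit 9572) (Step.D (nat_lit 20) (Step.D (nat_lit 88) (Step.D (nat_lit 289) Step.done))))) (Scr.cons (nat_lit 12) (nat_lit 4) (Step.U (nat_lit 290) (Step.D (nat_lit 289) (Step.F (nat_lit 9847) (Step.D (nat_lit 290) (Step.D (nat_lit 793) Step.done))))) (Scr.cons (nat_lit 12) (nat_lit 1) (Step.U (nat_lit 1780) (Step.F (nat_lit 9848) (Step.D (nat_lit 793) (Step.D (nat_lit 1780) (Step.D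 (nat_lit 3489) Step.done))))) (Scr.cons (nat_lit 12) (nat_lit 1) (Step.U (nat_lit 3490) (Step.D (nat_lit 3489) (Step.F (nat_lit 9849) (Step.D (nat_lit 3490) (Step.D (nat_lit 6115) Step.done))))) (Scr.cons (nat_lit 1) (nat_lit 1) (Step.B (nat_lit 5565) (Step.F (nat_lit 9615) (Step.D (nat_lit 9275) Step.done))) (Scr.cons (nat_lit 1) (nat_lit 1) (Step.D (nat_lit 9275) (Step.F (nat_lit 9851) Step.done)) (Scr.cons (nat_lit 11) (nat_lit 0) (Step.U (nat_lit 292) (Step.U (nat_lit 89) (Step.D (nat_lit 88) (Step.D (nat_lit 290) (Step.D (nat_lit 794) Step.done))))) (Scr.cons (nat_lit 7) (nat_lit 2) (Step.L (Step.B (nat_lit 94) (Step.D (nat_lit 909) (Step.D (nat_lit 1961) (Step.D (nat_lit 3789) (Step.D (nat_lit 6553) (Step.F (nat_lit 9852) (Step.U (nat_lit 6118) (Step.U (nat_lit 3493) (Step.U (nat_lit 1782) (Step.U (nat_lit 795) (Step.F (nat_lit 9576) (Step.D (nat_lit 292) (Step.B (nat_lit 9853) (Step.U (nat_lit 794) (Step.B (nat_lit 9848) (Step.D (nat_lit 1780) (Step.D (nat_lit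 3490) (Step.D (nat_lit 6115) (Step.D (nat_lit 9271) (Step.D (nat_lit 11674) Step.done))))))))))))))))))))) (Scr.cons (nat_lit 1) (nat_lit 1) (Step.D (nat_lit 11674) (Step.F (nat_lit 9854) (Step.L Step.done))) (Scr.cons (nat_lit 1) (nat_lit 1) (Step.D (nat_lit 9271) (Step.B (nat_lit 9855) (Step.L Step.done))) (Scr.cons (nat_lit 0) (nat_lit 1) (Step.B (nat_lit 9850) (Step.B (nat_lit 9856) (Step.D (nat_lit 907) Step.done))) (Scr.cons (nat_lit 1) (nat_lit 0) (Step.F (nat_lit 9846) (Step.B (nat_lit 9857) (Step.D (nat_lit 1958) Step.done))) (Scr.cons (nat_lit 1) (nat_lit 0) (Step.D (nat_lit 6114) (Step.B (nat_lit 9858) (Step.D (nat_lit 3787) Step.done))) (Scr.cons (nat_lit 1) (nat_lit 0) (Step.D (nat_lit 3787) (Step.F (nat_lit 9859) Step.done)) (Scr.cons (nat_lit 12) (nat_lit 1) (Step.L (Step.L (Step.L (Step.L (Step.D (nat_lit 7) Step.done))))) (Scr.cons (nat_lit 12) (nat_lit 4) (Step.U (nat_lit 54) (Step.F (nat_lit 9861) (Step.D (nat_lit 7) (Step.D (nat_lit 54) (Step.D (nat_lit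 204) Step.done))))) (Scr.cons (nat_lit 13) (nat_lit 3) (Step.U (nat_lit 204) (Step.U (nat_lit 54) (Step.F (nat_lit 9861) (Step.L (Step.L (Step.L (Step.L (Step.L (Step.L (Step.L (Step.D (nat_lit 567) Step.done))))))))))) (Scr.cons (nat_lit 1) (nat_lit 1) (Step.D (nat_lit 1786) (Step.F (nat_lit 9806) (Step.L Step.done))) (Scr.cons (nat_lit 0) (nat_lit 1) (Step.B (nat_lit 76) (Step.B (nat_lit 9864) (Step.D (nat_lit 567) Step.done))) (Scr.cons (nat_lit 1) (nat_lit 1) (Step.B (nat_lit 9863) (Step.F (nat_lit 9865) (Step.L Step.done))) (Scr.cons (nat_lit 0) (nat_lit 1) (Step.B (nat_lit 9862) (Step.B (nat_lit 9866) (Step.L Step.done))) (Scr.cons (nat_lit 1) (nat_lit 0) (Step.D (nat_lit 54) (Step.B (nat_lit 9867) (Step.L Step.done))) (Scr.cons (nat_lit 0) (nat_lit 1) (Step.B (nat_lit 9861) (Step.B (nat_lit 9868) (Step.D (nat_lit 20) Step.done))) (Scr.cons (nat_lit 1) (nat_lit 1) (Step.U (nat_lit 88) (Step.F (nat_lit 9869) (Step.L Step.done))) (Scr.cons (nat_lit 1) (nat_lit 1)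 (Step.U (nat_lit 290) (Step.B (nat_lit 9870) (Step.L Step.done))) (Scr.cons (nat_lit 0) (nat_lit 1) (Step.U (nat_lit 793) (Step.B (nat_lit 9871) (Step.L Step.done))) (Scr.cons (nat_lit 1) (nat_lit 1) (Step.U (nat_lit 1779) (Step.B (nat_lit 9872) (Step.L Step.done))) (Scr.cons (nat_lit 1) (nat_lit 1) (Step.U (nat_lit 3488) (Step.B (nat_lit 9873) (Step.L Step.done))) (Scr.cons (nat_lit 1) (nat_lit 1) (Step.B (nat_lit 9860) (Step.B (nat_lit 9874) (Step.D (nat_lit 569) Step.done))) (Scr.cons (nat_lit 0) (nat_lit 1) (Step.F (nat_lit 9845) (Step.U (nat_lit 3786) (Step.B (nat_lit 9875) (Step.F (nat_lit 44) Step.done)))) (Scr.cons (nat_lit 1) (nat_lit 0) (Step.U (nat_lit 1348) (Step.F (nat_lit 9876) (Step.L Step.done))) (Scr.cons (nat_lit 1) (nat_lit 0) (Step.F (nat_lit 4410) (Step.B (nat_lit 9877) (Step.L Step.done))) (Scr.cons (nat_lit 0) (nat_lit 1) (Step.B (nat_lit 9822) (Step.B (nat_lit 9878) (Step.L Step.done))) (Scr.cons (nat_lit 1) (nat_lit 1) (Step.D (nat_lit 3670) (Step.B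 (nat_lit 9879) (Step.L Step.done))) (Scr.cons (nat_lit 1) (nat_lit 1) (Step.U (nat_lit 3669) (Step.B (nat_lit 9880) (Step.L Step.done))) (Scr.cons (nat_lit 0) (nat_lit 1) (Step.U (nat_lit 6381) (Step.B (nat_lit 9881) (Step.L Step.done))) Scr.nil))))))))))))))))))))))))))))))))))))))))
noncomputable def s247 : Scr := (Scr.cons (nat_lit 1) (nat_lit 1) (Step.U (nat_lit 9531) (Step.B (nat_lit 9882) (Step.L Step.done))) (Scr.cons (nat_lit 1) (nat_lit 1) (Step.U (nat_lit 11772) (Step.B (nat_lit 9883) (Step.D (nat_lit 9733) Step.done))) (Scr.cons (nat_lit 1) (nat_lit 1) (Step.B (nat_lit 9819) (Step.B (nat_lit 9884) (Step.D (nat_lit 11831) Step.done))) (Scr.cons (nat_lit 1) (nat_lit 0) (Step.B (nat_lit 9808) (Step.F (nat_lit 9885) Step.done)) (Scr.cons (nat_lit 11) (nat_lit 0) (Step.U (nat_lit 5449) (Step.L (Step.L (Step.L (Step.D (nat_lit 8534) Step.done))))) (Scr.cons (nat_lit 12) (nat_lit 1) (Step.U (nat_lit 5449) (Step.L (Step.L (Step.D (nat_lit 5449) (Step.D (nat_lit 8535)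 Step.done))))) (Scr.cons (nat_lit 12) (nat_lit 1) (Step.F (nat_lit 9887) (Step.D (nat_lit 8535) (Step.F (nat_lit 9888) (Step.B (nat_lit 9887) (Step.D (nat_lit 11364) Step.done))))) (Scr.cons (nat_lit 14) (nat_lit 4) (Step.U (nat_lit 8872) (Step.U (nat_lit 5752) (Step.L (Step.L (Step.L (Step.L (Step.L (Step.L (Step.L (Step.L (Step.L (Step.L (Step.L (Step.L (Step.D (nat_lit 1483) (Step.D (nat_lit 3003) (Step.B (nat_lit 4323) (Step.D (nat_lit 8477) (Step.F (nat_lit 4325) (Step.D (nat_lit 8937) Step.done)))))))))))))))))))) (Scr.cons (nat_lit 1) (nat_lit 0) (Step.D (nat_lit 8477) (Step.F (nat_lit 4329) (Step.D (nat_lit 10571) Step.done))) (Scr.cons (nat_lit 1) (nat_lit 0) (Step.D (nat_lit 10571) (Step.F (nat_lit 9891) Step.done)) (Scr.cons (nat_lit 6) (nat_lit 3) (Step.U (nat_lit 2394) (Step.U (nat_lit 1152) (Step.L (Step.L (Step.L (Step.L (Step.L (Step.D (nat_lit 452) (Step.D (nat_lit 1151) (Step.B (nat_lit 6573) (Step.D (nat_lit 4442) Step.done))))))))))) (Scr.cons (nat_lit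 0) (nat_lit 1) (Step.B (nat_lit 6588) (Step.F (nat_lit 7293) (Step.D (nat_lit 8193) Step.done))) (Scr.cons (nat_lit 1) (nat_lit 0) (Step.D (nat_lit 10430) (Step.B (nat_lit 9894) (Step.D (nat_lit 11164) Step.done))) (Scr.cons (nat_lit 1) (nat_lit 0) (Step.D (nat_lit 11164) (Step.F (nat_lit 9895) Step.done)) (Scr.cons (nat_lit 0) (nat_lit 1) (Step.U (nat_lit 8193) (Step.F (nat_lit 7618) (Step.L Step.done))) (Scr.cons (nat_lit 1) (nat_lit 0) (Step.F (nat_lit 9896) (Step.B (nat_lit 9897) (Step.L Step.done))) (Scr.cons (nat_lit 0) (nat_lit 1) (Step.B (nat_lit 6575) (Step.B (nat_lit 9898) (Step.L Step.done))) (Scr.cons (nat_lit 1) (nat_lit 1) (Step.B (nat_lit 6571) (Step.B (nat_lit 9899) (Step.L Step.done))) (Scr.cons (nat_lit 1) (nat_lit 1) (Step.D (nat_lit 2392) (Step.B (nat_lit 9900) (Step.L Step.done))) (Scr.cons (nat_lit 0) (nat_lit 1) (Step.U (nat_lit 2391) (Step.B (nat_lit 9901) (Step.L Step.done))) (Scr.cons (nat_lit 1) (nat_lit 1) (Step.U (nat_lit 4442) (Step.B (nat_lit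 9902) (Step.L Step.done))) (Scr.cons (nat_lit 0) (nat_lit 1) (Step.B (nat_lit 9893) (Step.B (nat_lit 9903) (Step.L Step.done))) (Scr.cons (nat_lit 1) (nat_lit 1) (Step.U (nat_lit 4446) (Step.B (nat_lit 9904) (Step.L Step.done))) (Scr.cons (nat_lit 1) (nat_lit 1) (Step.U (nat_lit 7369) (Step.B (nat_lit 9905) (Step.L Step.done))) (Scr.cons (nat_lit 0) (nat_lit 1) (Step.U (nat_lit 10436) (Step.B (nat_lit 9906) (Step.L Step.done))) (Scr.cons (nat_lit 1) (nat_lit 1) (Step.B (nat_lit 4311) (Step.B (nat_lit 9907) (Step.L Step.done))) (Scr.cons (nat_lit 1) (nat_lit 1) (Step.D (nat_lit 7616) (Step.B (nat_lit 9908) (Step.L Step.done))) (Scr.cons (nat_lit 1) (nat_lit 1) (Step.B (nat_lit 4327) (Step.B (nat_lit 9909) (Step.L Step.done))) (Scr.cons (nat_lit 0) (nat_lit 1) (Step.B (nat_lit 4328) (Step.B (nat_lit 9910) (Step.L Step.done))) (Scr.cons (nat_lit 1) (nat_lit 1) (Step.U (nat_lit 3003) (Step.B (nat_lit 9911) (Step.L Step.done))) (Scr.cons (nat_lit 0) (nat_lit 1) (Step.U (nat_lit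 5406) (Step.B (nat_lit 9912) (Step.L Step.done))) (Scr.cons (nat_lit 1) (nat_lit 1) (Step.B (nat_lit 9892) (Step.B (nat_lit 9913) (Step.L Step.done))) (Scr.cons (nat_lit 1) (nat_lit 1) (Step.F (nat_lit 4331) (Step.B (nat_lit 9914) (Step.L Step.done))) (Scr.cons (nat_lit 0) (nat_lit 1) (Step.U (nat_lit 8937) (Step.B (nat_lit 9915) (Step.L Step.done))) (Scr.cons (nat_lit 1) (nat_lit 1) (Step.B (nat_lit 9890) (Step.B (nat_lit 9916) (Step.L Step.done))) (Scr.cons (nat_lit 1) (nat_lit 1) (Step.D (nat_lit 8872) (Step.B (nat_lit 9917) (Step.D (nat_lit 5965) Step.done))) (Scr.cons (nat_lit 1) (nat_lit 1) (Step.D (nat_lit 5965) (Step.F (nat_lit 9918) Step.done)) (Scr.cons (nat_lit 9) (nat_lit 4) (Step.L (Step.L (Step.L (Step.L (Step.L (Step.L (Step.L (Step.L (Step.D (nat_lit 5752) (Step.F (nat_lit 9919) (Step.L (Step.L (Step.L (Step.L (Step.L (Step.L (Step.L (Step.L (Step.L (Step.L (Step.L (Step.D (nat_lit 5449) (Step.B (nat_lit 9887) (Step.B (nat_lit 9889) Step.done))))))))))))))))))))))))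 (Scr.cons (nat_lit 0) (nat_lit 1) (Step.B (nat_lit 9889) (Step.F (nat_lit 9920) (Step.D (nat_lit 6239) Step.done))) (Scr.cons (nat_lit 1) (nat_lit 0) (Step.D (nat_lit 8534) (Step.B (nat_lit 9921) (Step.D (nat_lit 9414) Step.done))) Scr.nil))))))))))))))))))))))))))))))))))))))))
noncomputable def s248 : Scr := (Scr.cons (nat_lit 1) (nat_lit 0) (Step.D (nat_lit 9414) (Step.F (nat_lit 9922) Step.done)) (Scr.cons (nat_lit 12) (nat_lit 4) (Step.U (nat_lit 8865) (Step.L (Step.L (Step.D (nat_lit 8865) (Step.D (nat_lit 11518) Step.done))))) (Scr.cons (nat_lit 13) (nat_lit 1) (Step.U (nat_lit 11363) (Step.L (Step.F (nat_lit 9923) (Step.U (nat_lit 6239) (Step.L (Step.L (Step.L (Step.L (Step.L (Step.L (Step.D (nat_lit 8865) (Step.B (nat_lit 9924) Step.done)))))))))))) (Scr.cons (nat_lit 0) (nat_lit 1) (Step.D (nat_lit 11518) (Step.F (nat_lit 9925) Step.done)) (Scr.cons (nat_lit 11) (nat_lit 0) (Step.U (nat_lit 4983) (Step.B (nat_lit 1945) (Step.U (nat_lit 4626) (Step.D (nat_lit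 4625) (Step.D (nat_lit 7585) Step.done))))) (Scr.cons (nat_lit 14) (nat_lit 6) (Step.U (nat_lit 10617) (Step.F (nat_lit 9927) (Step.U (nat_lit 4983) (Step.F (nat_lit 1941) (Step.D (nat_lit 2742) (Step.F (nat_lit 4410) (Step.U (nat_lit 1348) (Step.B (nat_lit 44) (Step.F (nat_lit 3562) (Step.L (Step.L (Step.L (Step.L (Step.L (Step.L (Step.L (Step.L (Step.L (Step.D (nat_lit 8865) (Step.D (nat_lit 11519) Step.done)))))))))))))))))))) (Scr.cons (nat_lit 12) (nat_lit 1) (Step.U (nat_lit 4983) (Step.F (nat_lit 1941) (Step.D (nat_lit 2741) (Step.D (nat_lit 4983) (Step.D (nat_lit 7990) Step.done))))) (Scr.cons (nat_lit 11) (nat_lit 0) (Step.U (nat_lit 7000) (Step.U (nat_lit 4136) (Step.D (nat_lit 4135) (Step.D (nat_lit 6998) (Step.D (nat_lit 10125) Step.done))))) (Scr.cons (nat_lit 4) (nat_lit 0) (Step.U (nat_lit 6782) (Step.L (Step.L (Step.D (nat_lit 6770) (Step.D (nat_lit 9936) Step.done))))) (Scr.cons (nat_lit 12) (nat_lit 1) (Step.L (Step.L (Step.L (Step.L (Step.D (nat_lit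 5151) Step.done))))) (Scr.cons (nat_lit 11) (nat_lit 0) (Step.U (nat_lit 4139) (Step.L (Step.D (nat_lit 2176) (Step.D (nat_lit 4138) (Step.D (nat_lit 7002) Step.done))))) (Scr.cons (nat_lit 12) (nat_lit 1) (Step.U (nat_lit 4139) (Step.L (Step.L (Step.D (nat_lit 4139) (Step.D (nat_lit 7003) Step.done))))) (Scr.cons (nat_lit 12) (nat_lit 1) (Step.F (nat_lit 9933) (Step.D (nat_lit 7003) (Step.F (nat_lit 9934) (Step.B (nat_lit 9933) (Step.D (nat_lit 10127) Step.done))))) (Scr.cons (nat_lit 11) (nat_lit 0) (Step.U (nat_lit 3707) (Step.U (nat_lit 1911) (Step.D (nat_lit 1910) (Step.D (nat_lit 3705) (Step.D (nat_lit 6435) Step.done))))) (Scr.cons (nat_lit 1) (nat_lit 1) (Step.D (nat_lit 6434) (Step.B (nat_lit 5474) (Step.D (nat_lit 9456) Step.done))) (Scr.cons (nat_lit 1) (nat_lit 1) (Step.D (nat_lit 9456) (Step.F (nat_lit 9937) Step.done)) (Scr.cons (nat_lit 12) (nat_lit 1) (Step.U (nat_lit 3585) (Step.L (Step.L (Step.D (nat_lit 3585) (Step.D (nat_lit 6279) Step.done))))) (Scr.cons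 (nat_lit 14) (nat_lit 6) (Step.U (nat_lit 6279) (Step.U (nat_lit 3585) (Step.L (Step.L (Step.L (Step.L (Step.L (Step.L (Step.L (Step.L (Step.L (Step.L (Step.L (Step.L (Step.L (Step.L (Step.L (Step.L (Step.D (nat_lit 3591) (Step.D (nat_lit 6288) Step.done)))))))))))))))))))) (Scr.cons (nat_lit 7) (nat_lit 0) (Step.B (nat_lit 9936) (Step.U (nat_lit 6435) (Step.U (nat_lit 3705) (Step.B (nat_lit 5396) (Step.F (nat_lit 9938) (Step.U (nat_lit 6275) (Step.F (nat_lit 5402) (Step.U (nat_lit 1838) (Step.L (Step.D (nat_lit 3585) (Step.B (nat_lit 9939) (Step.B (nat_lit 9940) (Step.U (nat_lit 6288) (Step.D (nat_lit 6287) (Step.D (nat_lit 9464) (Step.F (nat_lit 4870) (Step.L (Step.L (Step.D (nat_lit 4139) (Step.B (nat_lit 9933) (Step.D (nat_lit 10127) Step.done))))))))))))))))))))) (Scr.cons (nat_lit 0) (nat_lit 1) (Step.B (nat_lit 9935) (Step.F (nat_lit 9941) (Step.D (nat_lit 6436) Step.done))) (Scr.cons (nat_lit 1) (nat_lit 0) (Step.D (nat_lit 7002) (Step.B (nat_lit 9942) (Step.D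 (nat_lit 9584) Step.done))) (Scr.cons (nat_lit 1) (nat_lit 0) (Step.D (nat_lit 9584) (Step.F (nat_lit 9943) Step.done)) (Scr.cons (nat_lit 14) (nat_lit 3) (Step.L (Step.D (nat_lit 2176) (Step.D (nat_lit 4138) (Step.F (nat_lit 9944) (Step.U (nat_lit 6436) (Step.U (nat_lit 3707) (Step.U (nat_lit 1911) (Step.F (nat_lit 5395) (Step.L (Step.L (Step.L (Step.L (Step.L (Step.L (Step.L (Step.L (Step.L (Step.L (Step.B (nat_lit 9932) (Step.D (nat_lit 8166) (Step.D (nat_lit 11137) Step.done))))))))))))))))))))) (Scr.cons (nat_lit 1) (nat_lit 0) (Step.D (nat_lit 11137) (Step.F (nat_lit 9945) (Step.L Step.done))) (Scr.cons (nat_lit 11) (nat_lit 0) (Step.L (Step.L (Step.D (nat_lit 392) (Step.D (nat_lit 1022) (Step.D (nat_lit 2175) Step.done))))) (Scr.cons (nat_lit 1) (nat_lit 0) (Step.D (nat_lit 8166) (Step.B (nat_lit 9946) (Step.B (nat_lit 9947) Step.done))) (Scr.cons (nat_lit 0) (nat_lit 1) (Step.B (nat_lit 9932) (Step.B (nat_lit 9948) (Step.D (nat_lit 4137) Step.done))) (Scr.cons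 (nat_lit 0) (nat_lit 1) (Step.D (nat_lit 4137) (Step.F (nat_lit 9949) Step.done)) (Scr.cons (nat_lit 12) (nat_lit 4) (Step.U (nat_lit 4) (Step.L (Step.L (Step.D (nat_lit 4) (Step.D (nat_lit 36) Step.done))))) (Scr.cons (nat_lit 13) (nat_lit 0) (Step.U (nat_lit 392) (Step.L (Step.L (Step.L (Step.L (Step.L (Step.D (nat_lit 4) (Step.B (nat_lit 9951) (Step.D (nat_lit 129) (Step.D (nat_lit 388) (Step.D (nat_lit 1014) Step.done))))))))))) (Scr.cons (nat_lit 12) (nat_lit 1) (Step.U (nat_lit 129) (Step.F (nat_lit 9951) (Step.D (nat_lit 36) (Step.D (nat_lit 129) (Step.D (nat_lit 388) Step.done))))) (Scr.cons (nat_lit 6) (nat_lit 3) (Step.U (nat_lit 392) (Step.L (Step.L (Step.L (Step.L (Step.L (Step.D (nat_lit 4) (Step.D (nat_lit 36) (Step.D (nat_lit 129) (Step.B (nat_lit 9953) (Step.D (nat_lit 1014) Step.done))))))))))) (Scr.cons (nat_lit 12) (nat_lit 4) (Step.U (nat_lit 1022) (Step.B (nat_lit 9952) (Step.F (nat_lit 9954) (Step.D (nat_lit 1022) (Step.D (nat_lit 2174) Step.done)))))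 (Scr.cons (nat_lit 9) (nat_lit 3) (Step.F (nat_lit 9931) (Step.F (nat_lit 9345) (Step.L (Step.L (Step.L (Step.L (Step.L (Step.L (Step.L (Step.L (Step.L (Step.L (Step.L (Step.L (Step.L (Step.L (Step.L (Step.F (nat_lit 9950) (Step.U (nat_lit 2175) (Step.B (nat_lit 9955) (Step.D (nat_lit 4136) (Step.D (nat_lit 7000) (Step.B (nat_lit 9930) Step.done))))))))))))))))))))))) (Scr.cons (nat_lit 8) (nat_lit 1) (Step.U (nat_lit 10126) (Step.B (nat_lit 9930) (Step.F (nat_lit 9956) (Step.F (nat_lit 9931) (Step.F (nat_lit 9345) (Step.L (Step.L (Step.L (Step.B (nat_lit 9820) (Step.D (nat_lit 3670) (Step.B (nat_lit 9822) (Step.U (nat_lit 2742) (Step.B (nat_lit 1941) (Step.D (nat_lit 4983) (Step.B (nat_lit 9929) (Step.D (nat_lit 10966) Step.done)))))))))))))))) (Scr.cons (nat_lit 1) (nat_lit 0) (Step.D (nat_lit 10966) (Step.F (nat_lit 9957) Step.done)) (Scr.cons (nat_lit 12) (nat_lit 1) (Step.U (nat_lit 1969) (Step.L (Step.L (Step.D (nat_lit 1969) (Step.D (nat_lit 3798) Step.done)))))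 (Scr.cons (nat_lit 15) (nat_lit 1) (Step.F (nat_lit 9959) (Step.U (nat_lit 1969) (Step.L (Step.L (Step.L (Step.L (Step.L (Step.L (Step.L (Step.L (Step.L (Step.L (Step.L (Step.D (nat_lit 917) (Step.D (nat_lit 1977) Step.done))))))))))))))) (Scr.cons (nat_lit 11) (nat_lit 0) (Step.U (nat_lit 6583) (Step.U (nat_lit 3811) (Step.F (nat_lit 9960) (Step.D (nat_lit 6569) (Step.D (nat_lit 9724) Step.done))))) (Scr.cons (nat_lit 1) (nat_lit 0) (Step.B (nat_lit 2832) (Step.F (nat_lit 2833) Step.done)) Scr.nil))))))))))))))))))))))))))))))))))))))))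
noncomputable def s249 : Scr := (Scr.cons (nat_lit 7) (nat_lit 2) (Step.U (nat_lit 6569) (Step.U (nat_lit 3798) (Step.D (nat_lit 3799) (Step.B (nat_lit 9962) (Step.F (nat_lit 2805) (Step.B (nat_lit 2801) (Step.U (nat_lit 4080) (Step.L (Step.L (Step.L (Step.L (Step.L (Step.L (Step.L (Step.L (Step.L (Step.D (nat_lit 918) (Step.D (nat_lit 1980) (Step.D (nat_lit 3813) (Step.D (nat_lit 6586) (Step.D (nat_lit 9741) Step.done))))))))))))))))))))) (Scr.cons (nat_lit 1) (nat_lit 1) (Step.D (nat_lit 9741) (Step.F (nat_lit 9963) (Step.D (nat_lit 9724) Step.done))) (Scr.cons (nat_lit 1) (nat_lit 1) (Step.B (nat_lit 9961) (Step.F (nat_lit 9964) (Step.U (nat_lit 6586) Step.done))) (Scr.cons (nat_lit 1) (nat_lit 1) (Step.D (nat_lit 6583) (Step.B (nat_lit 9965) (Step.D (nat_lit 6585) Step.done))) (Scr.cons (nat_lit 1) (nat_lit 1) (Step.D (nat_lit 6585) (Step.F (nat_lit 9966) Step.done)) (Scr.cons (nat_lit 11) (nat_lit 0) (Step.U (nat_lit 1980) (Step.U (nat_lit 918) (Step.D (nat_lit 917)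 (Step.D (nat_lit 1978) (Step.D (nat_lit 3812) Step.done))))) (Scr.cons (nat_lit 12) (nat_lit 1) (Step.U (nat_lit 918) (Step.L (Step.L (Step.D (nat_lit 918) (Step.D (nat_lit 1979) Step.done))))) (Scr.cons (nat_lit 12) (nat_lit 1) (Step.U (nat_lit 1980) (Step.D (nat_lit 1979) (Step.F (nat_lit 9969) (Step.D (nat_lit 1980) (Step.D (nat_lit 3813) Step.done))))) (Scr.cons (nat_lit 12) (nat_lit 1) (Step.F (nat_lit 9968) (Step.D (nat_lit 3813) (Step.F (nat_lit 9970) (Step.B (nat_lit 9968) (Step.D (nat_lit 6584) Step.done))))) (Scr.cons (nat_lit 9) (nat_lit 1) (Step.U (nat_lit 10965) (Step.B (nat_lit 9958) (Step.U (nat_lit 10126) (Step.B (nat_lit 9930) (Step.F (nat_lit 9956) (Step.F (nat_lit 9931) (Step.U (nat_lit 6782) (Step.L (Step.L (Step.L (Step.L (Step.L (Step.L (Step.L (Step.L (Step.D (nat_lit 1969) (Step.B (nat_lit 9959) (Step.B (nat_lit 9960) (Step.D (nat_lit 3811) (Step.F (nat_lit 9967) (Step.U (nat_lit 3813) (Step.B (nat_lit 9968) (Step.B (nat_lit 9971) (Step.D (nat_lit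 9739) Step.done)))))))))))))))))))))))) (Scr.cons (nat_lit 1) (nat_lit 1) (Step.D (nat_lit 10965) (Step.B (nat_lit 9972) Step.done)) (Scr.cons (nat_lit 11) (nat_lit 0) (Step.F (nat_lit 9958) (Step.B (nat_lit 9973) (Step.U (nat_lit 9739) (Step.D (nat_lit 9738) (Step.D (nat_lit 11832) Step.done))))) (Scr.cons (nat_lit 12) (nat_lit 1) (Step.U (nat_lit 6586) (Step.F (nat_lit 9970) (Step.D (nat_lit 3813) (Step.D (nat_lit 6586) (Step.D (nat_lit 9740) Step.done))))) (Scr.cons (nat_lit 1) (nat_lit 1) (Step.D (nat_lit 9724) (Step.F (nat_lit 9964) Step.done)) (Scr.cons (nat_lit 12) (nat_lit 1) (Step.U (nat_lit 3985) (Step.F (nat_lit 1871) (Step.D (nat_lit 2080) (Step.D (nat_lit 3985) (Step.D (nat_lit 6836) Step.done))))) (Scr.cons (nat_lit 15) (nat_lit 1) (Step.F (nat_lit 9977) (Step.U (nat_lit 3985) (Step.F (nat_lit 1871) (Step.L (Step.L (Step.L (Step.D (nat_lit 967) (Step.F (nat_lit 2224) (Step.F (nat_lit 2223) (Step.L (Step.D (nat_lit 882) (Step.D (nat_lit 1910) (Step.D (nat_lit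 3704) (Step.D (nat_lit 6433) (Step.D (nat_lit 9581) Step.done))))))))))))))) (Scr.cons (nat_lit 1) (nat_lit 1) (Step.F (nat_lit 1874) (Step.B (nat_lit 4584) (Step.L Step.done))) (Scr.cons (nat_lit 1) (nat_lit 1) (Step.D (nat_lit 6837) (Step.B (nat_lit 9979) (Step.L Step.done))) (Scr.cons (nat_lit 0) (nat_lit 1) (Step.U (nat_lit 6836) (Step.B (nat_lit 9980) (Step.D (nat_lit 6127) Step.done))) (Scr.cons (nat_lit 1) (nat_lit 0) (Step.F (nat_lit 9978) (Step.B (nat_lit 9981) (Step.D (nat_lit 9289) Step.done))) (Scr.cons (nat_lit 0) (nat_lit 1) (Step.D (nat_lit 9581) (Step.B (nat_lit 9982) Step.done)) (Scr.cons (nat_lit 12) (nat_lit 1) (Step.U (nat_lit 1911) (Step.F (nat_lit 5395) (Step.D (nat_lit 882) (Step.D (nat_lit 1911) (Step.D (nat_lit 3706) Step.done))))) (Scr.cons (nat_lit 12) (nat_lit 1) (Step.U (nat_lit 3707) (Step.D (nat_lit 3706) (Step.F (nat_lit 9984) (Step.D (nat_lit 3707) (Step.D (nat_lit 6436) Step.done))))) (Scr.cons (nat_lit 9) (nat_lit 5) (Step.U (nat_lit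 9740) (Step.F (nat_lit 9976) (Step.U (nat_lit 6569) (Step.B (nat_lit 9960) (Step.U (nat_lit 1977) (Step.U (nat_lit 917) (Step.L (Step.L (Step.L (Step.L (Step.L (Step.L (Step.L (Step.L (Step.F (nat_lit 9198) (Step.D (nat_lit 9289) (Step.F (nat_lit 9983) (Step.U (nat_lit 6433) (Step.U (nat_lit 3704) (Step.U (nat_lit 1910) (Step.D (nat_lit 1911) (Step.D (nat_lit 3707) (Step.B (nat_lit 9985) (Step.D (nat_lit 9584) Step.done)))))))))))))))))))))))) (Scr.cons (nat_lit 0) (nat_lit 0) (Step.B (nat_lit 9975) (Step.B (nat_lit 9986) Step.done)) (Scr.cons (nat_lit 0) (nat_lit 1) (Step.B (nat_lit 9987) (Step.F (nat_lit 9943) (Step.D (nat_lit 7001) Step.done))) (Scr.cons (nat_lit 0) (nat_lit 1) (Step.D (nat_lit 7001) (Step.F (nat_lit 9988) Step.done)) (Scr.cons (nat_lit 14) (nat_lit 3) (Step.F (nat_lit 9936) (Step.U (nat_lit 3707) (Step.U (nat_lit 1911) (Step.U (nat_lit 882) (Step.L (Step.L (Step.L (Step.L (Step.L (Step.L (Step.L (Step.L (Step.L (Step.L (Step.L (Step.L (Step.L (Step.B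 (nat_lit 1995) (Step.D (nat_lit 6201) (Step.D (nat_lit 9375) Step.done)))))))))))))))))))) (Scr.cons (nat_lit 6) (nat_lit 3) (Step.U (nat_lit 9738) (Step.U (nat_lit 6584) (Step.F (nat_lit 9968) (Step.D (nat_lit 3813) (Step.D (nat_lit 6586) (Step.F (nat_lit 9989) (Step.F (nat_lit 9944) (Step.F (nat_lit 9985) (Step.B (nat_lit 9936) (Step.B (nat_lit 9990) (Step.D (nat_lit 11713) Step.done))))))))))) (Scr.cons (nat_lit 11) (nat_lit 0) (Step.U (nat_lit 9377) (Step.U (nat_lit 6202) (Step.D (nat_lit 6201) (Step.D (nat_lit 9375) (Step.D (nat_lit 11713) Step.done))))) (Scr.cons (nat_lit 12) (nat_lit 1) (Step.F (nat_lit 2023) (Step.F (nat_lit 2024) (Step.D (nat_lit 6449) (Step.B (nat_lit 2023) (Step.D (nat_lit 11704) Step.done))))) (Scr.cons (nat_lit 12) (nat_lit 1) (Step.U (nat_lit 1912) (Step.L (Step.L (Step.D (nat_lit 1912) (Step.D (nat_lit 3713) Step.done))))) (Scr.cons (nat_lit 13) (nat_lit 3) (Step.U (nat_lit 9593) (Step.U (nat_lit 6447) (Step.F (nat_lit 9994) (Step.U (nat_lit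 1912) (Step.L (Step.L (Step.L (Step.D (nat_lit 3714) (Step.B (nat_lit 2024) (Step.B (nat_lit 2023) (Step.D (nat_lit 11704) Step.done))))))))))) (Scr.cons (nat_lit 12) (nat_lit 4) (Step.U (nat_lit 6447) (Step.F (nat_lit 9994) (Step.D (nat_lit 3713) (Step.D (nat_lit 6447) (Step.D (nat_lit 9593) Step.done))))) (Scr.cons (nat_lit 15) (nat_lit 0) (Step.U (nat_lit 11691) (Step.F (nat_lit 9723) (Step.U (nat_lit 6153) (Step.F (nat_lit 546) (Step.L (Step.L (Step.L (Step.L (Step.D (nat_lit 3527) (Step.D (nat_lit 6172) (Step.D (nat_lit 9343) (Step.D (nat_lit 11704) (Step.F (nat_lit 9995) (Step.F (nat_lit 9996) (Step.D (nat_lit 9594) Step.done))))))))))))))) (Scr.cons (nat_lit 12) (nat_lit 0) (Step.F (nat_lit 9997) (Step.U (nat_lit 11691) (Step.F (nat_lit 9723) (Step.D (nat_lit 9315) (Step.D (nat_lit 11691) Step.done))))) (Scr.cons (nat_lit 0) (nat_lit 1) (Step.U (nat_lit 9315) (Step.B (nat_lit 9770) (Step.F (nat_lit 571) Step.done))) (Scr.cons (nat_lit 1) (nat_lit 0) (Step.U (nat_lit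 11691) (Step.B (nat_lit 9999) (Step.L Step.done))) (Scr.cons (nat_lit 0) (nat_lit 1) (Step.B (nat_lit 9998) (Step.B (nat_lit 10000) (Step.L Step.done))) (Scr.cons (nat_lit 1) (nat_lit 0) (Step.D (nat_lit 9594) (Step.B (nat_lit 10001) (Step.L Step.done))) Scr.nil))))))))))))))))))))))))))))))))))))))))
noncomputable def s250 : Scr := (Scr.cons (nat_lit 0) (nat_lit 1) (Step.U (nat_lit 9593) (Step.B (nat_lit 10002) (Step.L Step.done))) (Scr.cons (nat_lit 1) (nat_lit 0) (Step.F (nat_lit 9995) (Step.B (nat_lit 10003) (Step.L Step.done))) (Scr.cons (nat_lit 0) (nat_lit 1) (Step.B (nat_lit 9993) (Step.B (nat_lit 10004) (Step.L Step.done))) (Scr.cons (nat_lit 1) (nat_lit 1) (Step.B (nat_lit 2023) (Step.B (nat_lit 10005) (Step.L Step.done))) (Scr.cons (nat_lit 1) (nat_lit 1) (Step.F (nat_lit 2021) (Step.B (nat_lit 10006) (Step.L Step.done))) (Scr.cons (nat_lit 0) (nat_lit 1) (Step.B (nat_lit 1996) (Step.B (nat_lit 10007) (Step.D (nat_lit 3679) Step.done))) (Scr.cons (nat_lit 14)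 (nat_lit 5) (Step.U (nat_lit 3801) (Step.U (nat_lit 1970) (Step.U (nat_lit 912) (Step.L (Step.L (Step.L (Step.L (Step.L (Step.L (Step.L (Step.L (Step.L (Step.L (Step.L (Step.L (Step.L (Step.L (Step.L (Step.D (nat_lit 3679) (Step.D (nat_lit 6402) Step.done)))))))))))))))))))) (Scr.cons (nat_lit 4) (nat_lit 0) (Step.U (nat_lit 3800) (Step.D (nat_lit 3801) (Step.B (nat_lit 10009) (Step.U (nat_lit 6402) (Step.D (nat_lit 6403) Step.done))))) (Scr.cons (nat_lit 1) (nat_lit 1) (Step.D (nat_lit 6567) (Step.B (nat_lit 2856) (Step.L Step.done))) (Scr.cons (nat_lit 0) (nat_lit 1) (Step.B (nat_lit 2839) (Step.B (nat_lit 10011) (Step.L Step.done))) (Scr.cons (nat_lit 1) (nat_lit 1) (Step.B (nat_lit 2836) (Step.B (nat_lit 10012) (Step.L Step.done))) (Scr.cons (nat_lit 0) (nat_lit 1) (Step.U (nat_lit 1970) (Step.B (nat_lit 10013) (Step.L Step.done))) (Scr.cons (nat_lit 1) (nat_lit 1) (Step.U (nat_lit 3800) (Step.B (nat_lit 10014) (Step.D (nat_lit 956) Step.done))) (Scr.cons (nat_lit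 1) (nat_lit 1) (Step.F (nat_lit 10010) (Step.B (nat_lit 10015) (Step.D (nat_lit 2061) Step.done))) (Scr.cons (nat_lit 1) (nat_lit 1) (Step.D (nat_lit 6403) (Step.B (nat_lit 10016) (Step.D (nat_lit 3956) Step.done))) (Scr.cons (nat_lit 1) (nat_lit 1) (Step.D (nat_lit 3956) (Step.F (nat_lit 10017) Step.done)) (Scr.cons (nat_lit 1) (nat_lit 0) (Step.U (nat_lit 9377) (Step.B (nat_lit 10008) (Step.F (nat_lit 10018) Step.done))) (Scr.cons (nat_lit 1) (nat_lit 0) (Step.F (nat_lit 9992) (Step.B (nat_lit 10019) (Step.U (nat_lit 2061) Step.done))) (Scr.cons (nat_lit 0) (nat_lit 1) (Step.B (nat_lit 9991) (Step.B (nat_lit 10020) (Step.D (nat_lit 2060) Step.done))) (Scr.cons (nat_lit 1) (nat_lit 1) (Step.U (nat_lit 11832) (Step.B (nat_lit 10021) (Step.D (nat_lit 3955) Step.done))) (Scr.cons (nat_lit 1) (nat_lit 1) (Step.B (nat_lit 9974) (Step.B (nat_lit 10022) (Step.D (nat_lit 6780) Step.done))) (Scr.cons (nat_lit 1) (nat_lit 1) (Step.B (nat_lit 9958) (Step.B (nat_lit 10023) (Step.D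 (nat_lit 9946) Step.done))) (Scr.cons (nat_lit 1) (nat_lit 1) (Step.D (nat_lit 9946) (Step.F (nat_lit 10024) Step.done)) (Scr.cons (nat_lit 12) (nat_lit 4) (Step.U (nat_lit 956) (Step.L (Step.L (Step.D (nat_lit 956) (Step.D (nat_lit 2060) Step.done))))) (Scr.cons (nat_lit 12) (nat_lit 4) (Step.U (nat_lit 3955) (Step.F (nat_lit 10026) (Step.D (nat_lit 2060) (Step.D (nat_lit 3955) (Step.D (nat_lit 6779) Step.done))))) (Scr.cons (nat_lit 12) (nat_lit 4) (Step.U (nat_lit 6780) (Step.D (nat_lit 6779) (Step.F (nat_lit 10027) (Step.D (nat_lit 6780) (Step.D (nat_lit 9945) Step.done))))) (Scr.cons (nat_lit 12) (nat_lit 1) (Step.U (nat_lit 4136) (Step.F (nat_lit 9955) (Step.D (nat_lit 2174) (Step.D (nat_lit 4136) (Step.D (nat_lit 6999) Step.done))))) (Scr.cons (nat_lit 12) (nat_lit 1) (Step.U (nat_lit 7000) (Step.D (nat_lit 6999) (Step.F (nat_lit 10029) (Step.D (nat_lit 7000) (Step.D (nat_lit 10126) Step.done))))) (Scr.cons (nat_lit 0) (nat_lit 1) (Step.B (nat_lit 10030) (Step.B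 (nat_lit 10023) (Step.D (nat_lit 9945) Step.done))) (Scr.cons (nat_lit 0) (nat_lit 0) (Step.B (nat_lit 10028) (Step.F (nat_lit 10031) Step.done)) (Scr.cons (nat_lit 12) (nat_lit 4) (Step.U (nat_lit 4078) (Step.F (nat_lit 9491) (Step.D (nat_lit 2140) (Step.D (nat_lit 4078) (Step.D (nat_lit 6938) Step.done))))) (Scr.cons (nat_lit 11) (nat_lit 0) (Step.U (nat_lit 2762) (Step.U (nat_lit 1354) (Step.L (Step.D (nat_lit 2760) (Step.D (nat_lit 5022) Step.done))))) (Scr.cons (nat_lit 12) (nat_lit 1) (Step.F (nat_lit 10034) (Step.D (nat_lit 5023) (Step.F (nat_lit 9501) (Step.B (nat_lit 10034) (Step.D (nat_lit 8039) Step.done))))) (Scr.cons (nat_lit 8) (nat_lit 1) (Step.U (nat_lit 10072) (Step.U (nat_lit 6938) (Step.U (nat_lit 4078) (Step.U (nat_lit 2140) (Step.B (nat_lit 9489) (Step.B (nat_lit 9492) (Step.D (nat_lit 6937) (Step.B (nat_lit 9498) (Step.F (nat_lit 9530) (Step.U (nat_lit 11013) (Step.U (nat_lit 8040) (Step.U (nat_lit 5023) (Step.B (nat_lit 10034) (Step.B (nat_lit 10035)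 (Step.D (nat_lit 11012) Step.done))))))))))))))) (Scr.cons (nat_lit 5) (nat_lit 1) (Step.F (nat_lit 10036) (Step.U (nat_lit 10072) (Step.U (nat_lit 6938) (Step.B (nat_lit 10033) (Step.D (nat_lit 10072) Step.done))))) (Scr.cons (nat_lit 14) (nat_lit 2) (Step.F (nat_lit 9724) (Step.F (nat_lit 9722) (Step.U (nat_lit 6153) (Step.U (nat_lit 3517) (Step.U (nat_lit 1804) (Step.B (nat_lit 9803) (Step.U (nat_lit 1786) (Step.F (nat_lit 76) (Step.L (Step.L (Step.L (Step.L (Step.L (Step.L (Step.L (Step.L (Step.D (nat_lit 2760) (Step.D (nat_lit 5022) (Step.B (nat_lit 10035) (Step.D (nat_lit 11011) Step.done)))))))))))))))))))) (Scr.cons (nat_lit 1) (nat_lit 1) (Step.D (nat_lit 4146) (Step.F (nat_lit 9743) Step.done)) (Scr.cons (nat_lit 1) (nat_lit 0) (Step.F (nat_lit 10038) (Step.F (nat_lit 9766) (Step.F (nat_lit 10039) Step.done))) (Scr.cons (nat_lit 1) (nat_lit 0) (Step.D (nat_lit 11011) (Step.B (nat_lit 10040) (Step.U (nat_lit 2183) Step.done))) (Scr.cons (nat_lit 1) (nat_lit 0)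 (Step.U (nat_lit 11012) (Step.B (nat_lit 10041) (Step.L Step.done))) Scr.nil))))))))))))))))))))))))))))))))))))))))
noncomputable def s251 : Scr := (Scr.cons (nat_lit 0) (nat_lit 1) (Step.F (nat_lit 10037) (Step.B (nat_lit 10042) (Step.L Step.done))) (Scr.cons (nat_lit 1) (nat_lit 0) (Step.D (nat_lit 10072) (Step.B (nat_lit 10043) (Step.L Step.done))) (Scr.cons (nat_lit 0) (nat_lit 1) (Step.B (nat_lit 10033) (Step.B (nat_lit 10044) (Step.L Step.done))) (Scr.cons (nat_lit 1) (nat_lit 0) (Step.D (nat_lit 4078) (Step.B (nat_lit 10045) (Step.L Step.done))) (Scr.cons (nat_lit 0) (nat_lit 1) (Step.B (nat_lit 9491) (Step.B (nat_lit 10046) (Step.L Step.done))) (Scr.cons (nat_lit 1) (nat_lit 1) (Step.D (nat_lit 1001) (Step.B (nat_lit 10047) (Step.L Step.done))) (Scr.cons (nat_lit 1) (nat_lit 1) (Step.D (nat_lit 380) (Step.B (nat_lit 10048) (Step.L Step.done))) (Scr.cons (nat_lit 1) (nat_lit 1) (Step.U (nat_lit 379) (Step.B (nat_lit 10049) (Step.L Step.done))) (Scr.cons (nat_lit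 0) (nat_lit 1) (Step.U (nat_lit 998) (Step.B (nat_lit 10050) (Step.L Step.done))) (Scr.cons (nat_lit 1) (nat_lit 0) (Step.U (nat_lit 2138) (Step.B (nat_lit 10051) (Step.L Step.done))) (Scr.cons (nat_lit 0) (nat_lit 1) (Step.B (nat_lit 2804) (Step.B (nat_lit 10052) (Step.L Step.done))) (Scr.cons (nat_lit 1) (nat_lit 1) (Step.D (nat_lit 1002) (Step.B (nat_lit 10053) (Step.D (nat_lit 392) Step.done))) (Scr.cons (nat_lit 1) (nat_lit 1) (Step.U (nat_lit 1022) (Step.F (nat_lit 10054) (Step.L Step.done))) (Scr.cons (nat_lit 0) (nat_lit 1) (Step.U (nat_lit 2174) (Step.B (nat_lit 10055) (Step.L Step.done))) (Scr.cons (nat_lit 1) (nat_lit 0) (Step.U (nat_lit 4136) (Step.B (nat_lit 10056) (Step.L Step.done))) (Scr.cons (nat_lit 1) (nat_lit 0) (Step.U (nat_lit 7000) (Step.B (nat_lit 10057) (Step.L Step.done))) (Scr.cons (nat_lit 0) (nat_lit 1) (Step.B (nat_lit 10032) (Step.B (nat_lit 10058) (Step.L Step.done))) (Scr.cons (nat_lit 1) (nat_lit 1) (Step.F (nat_lit 10025) (Step.B (nat_lit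 10059) (Step.L Step.done))) (Scr.cons (nat_lit 0) (nat_lit 1) (Step.B (nat_lit 9929) (Step.B (nat_lit 10060) (Step.L Step.done))) (Scr.cons (nat_lit 1) (nat_lit 0) (Step.F (nat_lit 9927) (Step.B (nat_lit 10061) (Step.L Step.done))) (Scr.cons (nat_lit 0) (nat_lit 1) (Step.U (nat_lit 10617) (Step.B (nat_lit 10062) (Step.L Step.done))) (Scr.cons (nat_lit 1) (nat_lit 0) (Step.F (nat_lit 9928) (Step.B (nat_lit 10063) (Step.L Step.done))) (Scr.cons (nat_lit 1) (nat_lit 0) (Step.D (nat_lit 11519) (Step.B (nat_lit 10064) (Step.L Step.done))) (Scr.cons (nat_lit 0) (nat_lit 1) (Step.F (nat_lit 9926) (Step.B (nat_lit 10065) (Step.L Step.done))) (Scr.cons (nat_lit 1) (nat_lit 0) (Step.D (nat_lit 11363) (Step.B (nat_lit 10066) (Step.D (nat_lit 11830) Step.done))) (Scr.cons (nat_lit 1) (nat_lit 0) (Step.D (nat_lit 11830) (Step.F (nat_lit 10067) Step.done)) (Scr.cons (nat_lit 12) (nat_lit 1) (Step.U (nat_lit 1821) (Step.L (Step.L (Step.D (nat_lit 1821) (Step.D (nat_lit 3560) Step.done)))))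 (Scr.cons (nat_lit 6) (nat_lit 3) (Step.U (nat_lit 4302) (Step.L (Step.L (Step.L (Step.L (Step.L (Step.L (Step.L (Step.D (nat_lit 1821) (Step.B (nat_lit 10069) (Step.D (nat_lit 6242) Step.done))))))))))) (Scr.cons (nat_lit 12) (nat_lit 1) (Step.U (nat_lit 2204) (Step.L (Step.L (Step.D (nat_lit 2204) (Step.D (nat_lit 4169) Step.done))))) (Scr.cons (nat_lit 8) (nat_lit 1) (Step.U (nat_lit 4210) (Step.U (nat_lit 2231) (Step.U (nat_lit 1054) (Step.U (nat_lit 412) (Step.U (nat_lit 142) (Step.L (Step.L (Step.L (Step.L (Step.L (Step.L (Step.L (Step.D (nat_lit 2204) (Step.B (nat_lit 10071) (Step.D (nat_lit 7043) Step.done))))))))))))))) (Scr.cons (nat_lit 12) (nat_lit 4) (Step.U (nat_lit 142) (Step.L (Step.L (Step.D (nat_lit 142) (Step.D (nat_lit 412) Step.done))))) (Scr.cons (nat_lit 11) (nat_lit 0) (Step.L (Step.L (Step.L (Step.D (nat_lit 142) (Step.D (nat_lit 413) Step.done))))) (Scr.cons (nat_lit 12) (nat_lit 1) (Step.F (nat_lit 10074) (Step.L (Step.L (Step.B (nat_lit 10074)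 (Step.D (nat_lit 1055) Step.done))))) (Scr.cons (nat_lit 12) (nat_lit 4) (Step.U (nat_lit 942) (Step.L (Step.L (Step.D (nat_lit 942) (Step.D (nat_lit 2029) Step.done))))) (Scr.cons (nat_lit 12) (nat_lit 4) (Step.U (nat_lit 2030) (Step.D (nat_lit 2029) (Step.F (nat_lit 10076) (Step.D (nat_lit 2030) (Step.D (nat_lit 3903) Step.done))))) (Scr.cons (nat_lit 16) (nat_lit 0) (Step.U (nat_lit 2232) (Step.F (nat_lit 10075) (Step.F (nat_lit 10074) (Step.L (Step.L (Step.L (Step.L (Step.L (Step.L (Step.L (Step.L (Step.L (Step.L (Step.L (Step.L (Step.L (Step.L (Step.L (Step.L (Step.L (Step.D (nat_lit 942) (Step.D (nat_lit 2030) (Step.D (nat_lit 3904) Step.done))))))))))))))))))))))) (Scr.cons (nat_lit 12) (nat_lit 4) (Step.U (nat_lit 3904) (Step.D (nat_lit 3903) (Step.F (nat_lit 10077) (Step.D (nat_lit 3904) (Step.F (nat_lit 10078) Step.done))))) (Scr.cons (nat_lit 11) (nat_lit 0) (Step.U (nat_lit 2031) (Step.U (nat_lit 943) (Step.D (nat_lit 942) (Step.D (nat_lit 2030) (Step.D (nat_lit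 3904) Step.done))))) (Scr.cons (nat_lit 6) (nat_lit 1) (Step.U (nat_lit 943) (Step.L (Step.L (Step.L (Step.L (Step.L (Step.L (Step.L (Step.L (Step.L (Step.D (nat_lit 2026) Step.done))))))))))) (Scr.cons (nat_lit 13) (nat_lit 2) (Step.U (nat_lit 943) (Step.L (Step.L (Step.L (Step.L (Step.L (Step.L (Step.L (Step.L (Step.L (Step.D (nat_lit 2026) Step.done))))))))))) Scr.nil))))))))))))))))))))))))))))))))))))))))
noncomputable def s252 : Scr := (Scr.cons (nat_lit 12) (nat_lit 1) (Step.U (nat_lit 2031) (Step.B (nat_lit 10081) (Step.F (nat_lit 10082) (Step.D (nat_lit 2031) (Step.D (nat_lit 3905) Step.done))))) (Scr.cons (nat_lit 13) (nat_lit 2) (Step.U (nat_lit 4211) (Step.U (nat_lit 2231) (Step.U (nat_lit 1054) (Step.F (nat_lit 10073) (Step.D (nat_lit 413) (Step.B (nat_lit 10075) (Step.D (nat_lit 2232) (Step.F (nat_lit 10079) (Step.F (nat_lit 10080) (Step.B (nat_lit 10083) (Step.D (nat_lit 6704) Step.done))))))))))) (Scr.cons (nat_lit 12) (nat_lit 1) (Step.U (nat_lit 298)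 (Step.L (Step.L (Step.D (nat_lit 298) (Step.D (nat_lit 808) Step.done))))) (Scr.cons (nat_lit 12) (nat_lit 4) (Step.U (nat_lit 1799) (Step.F (nat_lit 10085) (Step.D (nat_lit 808) (Step.D (nat_lit 1799) (Step.D (nat_lit 3514) Step.done))))) (Scr.cons (nat_lit 6) (nat_lit 1) (Step.U (nat_lit 6148) (Step.F (nat_lit 10086) (Step.U (nat_lit 1799) (Step.U (nat_lit 808) (Step.U (nat_lit 298) (Step.L (Step.L (Step.L (Step.L (Step.D (nat_lit 6146) (Step.D (nat_lit 9308) Step.done))))))))))) (Scr.cons (nat_lit 11) (nat_lit 0) (Step.U (nat_lit 298) (Step.L (Step.L (Step.D (nat_lit 297) (Step.D (nat_lit 807) Step.done))))) (Scr.cons (nat_lit 1) (nat_lit 1) (Step.U (nat_lit 807) (Step.F (nat_lit 9789) (Step.L Step.done))) (Scr.cons (nat_lit 1) (nat_lit 1) (Step.B (nat_lit 10088) (Step.B (nat_lit 10089) (Step.L Step.done))) (Scr.cons (nat_lit 0) (nat_lit 1) (Step.U (nat_lit 808) (Step.B (nat_lit 10090) (Step.L Step.done))) (Scr.cons (nat_lit 1) (nat_lit 1) (Step.U (nat_lit 1799) (Step.B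 (nat_lit 10091) (Step.L Step.done))) (Scr.cons (nat_lit 0) (nat_lit 1) (Step.U (nat_lit 3514) (Step.B (nat_lit 10092) (Step.L Step.done))) (Scr.cons (nat_lit 1) (nat_lit 0) (Step.U (nat_lit 6148) (Step.B (nat_lit 10093) (Step.L Step.done))) (Scr.cons (nat_lit 0) (nat_lit 1) (Step.F (nat_lit 10087) (Step.B (nat_lit 10094) (Step.D (nat_lit 6294) Step.done))) (Scr.cons (nat_lit 1) (nat_lit 0) (Step.D (nat_lit 9308) (Step.B (nat_lit 10095) Step.done)) (Scr.cons (nat_lit 14) (nat_lit 0) (Step.U (nat_lit 9818) (Step.U (nat_lit 6651) (Step.F (nat_lit 8935) (Step.F (nat_lit 8934) (Step.L (Step.L (Step.L (Step.L (Step.L (Step.L (Step.L (Step.L (Step.L (Step.L (Step.L (Step.L (Step.D (nat_lit 6294) (Step.F (nat_lit 10096) (Step.D (nat_lit 9307) (Step.D (nat_lit 11686) Step.done)))))))))))))))))))) (Scr.cons (nat_lit 12) (nat_lit 4) (Step.L (Step.L (Step.L (Step.L (Step.D (nat_lit 6146) Step.done))))) (Scr.cons (nat_lit 12) (nat_lit 4) (Step.U (nat_lit 9307) (Step.F (nat_lit 10098)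 (Step.D (nat_lit 6146) (Step.D (nat_lit 9307) (Step.D (nat_lit 11685) Step.done))))) (Scr.cons (nat_lit 12) (nat_lit 3) (Step.B (nat_lit 10097) (Step.U (nat_lit 11686) (Step.D (nat_lit 11685) (Step.F (nat_lit 10099) (Step.D (nat_lit 11686) Step.done))))) (Scr.cons (nat_lit 0) (nat_lit 0) (Step.B (nat_lit 9219) (Step.F (nat_lit 9217) Step.done)) (Scr.cons (nat_lit 1) (nat_lit 0) (Step.B (nat_lit 9702) (Step.F (nat_lit 9703) Step.done)) (Scr.cons (nat_lit 12) (nat_lit 1) (Step.U (nat_lit 3848) (Step.F (nat_lit 9689) (Step.D (nat_lit 1997) (Step.D (nat_lit 3848) (Step.D (nat_lit 6629) Step.done))))) (Scr.cons (nat_lit 12) (nat_lit 1) (Step.U (nat_lit 6630) (Step.D (nat_lit 6629) (Step.F (nat_lit 10103) (Step.D (nat_lit 6630) (Step.D (nat_lit 9788) Step.done))))) (Scr.cons (nat_lit 0) (nat_lit 1) (Step.B (nat_lit 10104) (Step.F (nat_lit 9703) (Step.B (nat_lit 9694) Step.done))) (Scr.cons (nat_lit 0) (nat_lit 0) (Step.B (nat_lit 9693) (Step.F (nat_lit 10105) Step.done)) (Scr.cons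 (nat_lit 11) (nat_lit 0) (Step.U (nat_lit 6630) (Step.U (nat_lit 3848) (Step.D (nat_lit 3847) (Step.D (nat_lit 6628) (Step.D (nat_lit 9787) Step.done))))) (Scr.cons (nat_lit 1) (nat_lit 0) (Step.D (nat_lit 11689) (Step.F (nat_lit 10105) (Step.B (nat_lit 10107) Step.done))) (Scr.cons (nat_lit 1) (nat_lit 0) (Step.B (nat_lit 10107) (Step.F (nat_lit 10108) Step.done)) (Scr.cons (nat_lit 11) (nat_lit 0) (Step.U (nat_lit 5020) (Step.L (Step.L (Step.D (nat_lit 5019) (Step.D (nat_lit 8035) Step.done))))) (Scr.cons (nat_lit 12) (nat_lit 1) (Step.U (nat_lit 5020) (Step.L (Step.L (Step.D (nat_lit 5020) (Step.D (nat_lit 8037) Step.done))))) (Scr.cons (nat_lit 12) (nat_lit 1) (Step.F (nat_lit 10110) (Step.D (nat_lit 8037) (Step.F (nat_lit 10111) (Step.B (nat_lit 10110) (Step.D (nat_lit 11006) Step.done))))) (Scr.cons (nat_lit 12) (nat_lit 4) (Step.U (nat_lit 128) (Step.F (nat_lit 9951) (Step.D (nat_lit 36) (Step.D (nat_lit 128) (Step.D (nat_lit 386) Step.done))))) (Scr.cons (nat_lit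 12) (nat_lit 4) (Step.U (nat_lit 387) (Step.D (nat_lit 386) (Step.F (nat_lit 10113) (Step.D (nat_lit 387) (Step.D (nat_lit 1013) Step.done))))) (Scr.cons (nat_lit 15) (nat_lit 1) (Step.F (nat_lit 9490) (Step.U (nat_lit 380) (Step.F (nat_lit 404) (Step.U (nat_lit 35) (Step.L (Step.L (Step.L (Step.L (Step.L (Step.L (Step.L (Step.D (nat_lit 4) (Step.D (nat_lit 36) (Step.D (nat_lit 128) (Step.D (nat_lit 386) Step.done))))))))))))))) (Scr.cons (nat_lit 6) (nat_lit 0) (Step.U (nat_lit 4122) (Step.U (nat_lit 2163) (Step.F (nat_lit 10114) (Step.U (nat_lit 387) (Step.B (nat_lit 10113) (Step.F (nat_lit 10115) (Step.F (nat_lit 9490) (Step.D (nat_lit 1001) (Step.B (nat_lit 9491) (Step.D (nat_lit 4078) (Step.D (nat_lit 6938) Step.done))))))))))) (Scr.cons (nat_lit 12) (nat_lit 1) (Step.U (nat_lit 2163) (Step.F (nat_lit 10114) (Step.D (nat_lit 1013) (Step.D (nat_lit 2163) (Step.D (nat_lit 4122) Step.done))))) (Scr.cons (nat_lit 12) (nat_lit 1) (Step.U (nat_lit 6986) (Step.F (nat_lit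 10117) (Step.D (nat_lit 4122) (Step.D (nat_lit 6986) (Step.D (nat_lit 10117) Step.done))))) (Scr.cons (nat_lit 9) (nat_lit 4) (Step.U (nat_lit 11006) (Step.U (nat_lit 8035) (Step.U (nat_lit 5019) (Step.L (Step.L (Step.L (Step.L (Step.L (Step.L (Step.L (Step.L (Step.L (Step.L (Step.D (nat_lit 1354) (Step.D (nat_lit 2762) (Step.B (nat_lit 10034) (Step.B (nat_lit 10035) (Step.D (nat_lit 11012) (Step.F (nat_lit 10036) (Step.U (nat_lit 10072) (Step.F (nat_lit 10116) (Step.D (nat_lit 6986) (Step.B (nat_lit 10118) Step.done))))))))))))))))))))))) (Scr.cons (nat_lit 1) (nat_lit 0) (Step.B (nat_lit 10116) (Step.B (nat_lit 10044) (Step.L Step.done))) (Scr.cons (nat_lit 1) (nat_lit 0) (Step.U (nat_lit 6986) (Step.B (nat_lit 10120) (Step.L Step.done))) (Scr.cons (nat_lit 0) (nat_lit 1) (Step.U (nat_lit 10117) (Step.B (nat_lit 10121) (Step.L Step.done))) Scr.nil))))))))))))))))))))))))))))))))))))))))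
noncomputable def s253 : Scr := (Scr.cons (nat_lit 1) (nat_lit 0) (Step.B (nat_lit 10119) (Step.B (nat_lit 10122) (Step.L Step.done))) (Scr.cons (nat_lit 0) (nat_lit 1) (Step.B (nat_lit 10112) (Step.B (nat_lit 10123) (Step.L Step.done))) (Scr.cons (nat_lit 1) (nat_lit 0) (Step.D (nat_lit 8035) (Step.B (nat_lit 10124) (Step.L Step.done))) (Scr.cons (nat_lit 1) (nat_lit 0) (Step.D (nat_lit 5019) (Step.B (nat_lit 10125) (Step.D (nat_lit 6149) Step.done))) (Scr.cons (nat_lit 0) (nat_lit 1) (Step.U (nat_lit 9312) (Step.F (nat_lit 10126) (Step.D (nat_lit 5018) Step.done))) (Scr.cons (nat_lit 15) (nat_lit 1) (Step.L (Step.L (Step.L (Step.L (Step.L (Step.L (Step.L (Step.L (Step.L (Step.L (Step.L (Step.L (Step.L (Step.L (Step.D (nat_lit 5018) Step.done))))))))))))))) (Scr.cons (nat_lit 1) (nat_lit 1) (Step.B (nat_lit 10109) (Step.B (nat_lit 10127) (Step.F (nat_lit 10128) Step.done))) (Scr.cons (nat_lit 0) (nat_lit 1) (Step.B (nat_lit 10106) (Step.B (nat_lit 10129) (Step.L Step.done)))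 (Scr.cons (nat_lit 1) (nat_lit 1) (Step.B (nat_lit 10102) (Step.B (nat_lit 10130) (Step.L Step.done))) (Scr.cons (nat_lit 1) (nat_lit 1) (Step.D (nat_lit 6635) (Step.B (nat_lit 10131) (Step.L Step.done))) (Scr.cons (nat_lit 0) (nat_lit 1) (Step.B (nat_lit 10101) (Step.B (nat_lit 10132) (Step.D (nat_lit 6146) Step.done))) (Scr.cons (nat_lit 1) (nat_lit 1) (Step.U (nat_lit 9307) (Step.F (nat_lit 10133) (Step.L Step.done))) (Scr.cons (nat_lit 1) (nat_lit 1) (Step.U (nat_lit 11686) (Step.B (nat_lit 10134) (Step.L Step.done))) (Scr.cons (nat_lit 0) (nat_lit 1) (Step.B (nat_lit 10100) (Step.B (nat_lit 10135) (Step.L Step.done))) (Scr.cons (nat_lit 1) (nat_lit 1) (Step.D (nat_lit 9818) (Step.B (nat_lit 10136) (Step.L Step.done))) (Scr.cons (nat_lit 1) (nat_lit 1) (Step.D (nat_lit 6651) (Step.B (nat_lit 10137) (Step.L Step.done))) (Scr.cons (nat_lit 0) (nat_lit 1) (Step.B (nat_lit 8935) (Step.B (nat_lit 10138) (Step.L Step.done))) (Scr.cons (nat_lit 1) (nat_lit 0) (Step.D (nat_lit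 2004) (Step.B (nat_lit 10139) (Step.D (nat_lit 943) Step.done))) (Scr.cons (nat_lit 1) (nat_lit 0) (Step.U (nat_lit 2031) (Step.F (nat_lit 10140) (Step.L Step.done))) (Scr.cons (nat_lit 0) (nat_lit 1) (Step.U (nat_lit 3905) (Step.B (nat_lit 10141) (Step.L Step.done))) (Scr.cons (nat_lit 1) (nat_lit 0) (Step.U (nat_lit 6704) (Step.B (nat_lit 10142) (Step.L Step.done))) (Scr.cons (nat_lit 0) (nat_lit 1) (Step.B (nat_lit 10084) (Step.B (nat_lit 10143) (Step.L Step.done))) (Scr.cons (nat_lit 1) (nat_lit 1) (Step.D (nat_lit 4211) (Step.B (nat_lit 10144) (Step.L Step.done))) (Scr.cons (nat_lit 1) (nat_lit 1) (Step.U (nat_lit 4210) (Step.B (nat_lit 10145) (Step.L Step.done))) (Scr.cons (nat_lit 0) (nat_lit 1) (Step.F (nat_lit 10072) (Step.B (nat_lit 10146) (Step.L Step.done))) (Scr.cons (nat_lit 1) (nat_lit 1) (Step.D (nat_lit 7043) (Step.B (nat_lit 10147) (Step.L Step.done))) (Scr.cons (nat_lit 0) (nat_lit 1) (Step.B (nat_lit 10071) (Step.B (nat_lit 10148) (Step.L Step.done)))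 (Scr.cons (nat_lit 1) (nat_lit 1) (Step.D (nat_lit 2204) (Step.B (nat_lit 10149) (Step.D (nat_lit 2605) Step.done))) (Scr.cons (nat_lit 0) (nat_lit 1) (Step.U (nat_lit 4795) (Step.F (nat_lit 10150) (Step.L Step.done))) (Scr.cons (nat_lit 1) (nat_lit 0) (Step.U (nat_lit 7774) (Step.B (nat_lit 10151) (Step.L Step.done))) (Scr.cons (nat_lit 1) (nat_lit 0) (Step.B (nat_lit 4272) (Step.B (nat_lit 10152) (Step.L Step.done))) (Scr.cons (nat_lit 0) (nat_lit 1) (Step.B (nat_lit 10070) (Step.B (nat_lit 10153) (Step.L Step.done))) (Scr.cons (nat_lit 1) (nat_lit 0) (Step.D (nat_lit 4302) (Step.B (nat_lit 10154) (Step.D (nat_lit 7042) Step.done))) (Scr.cons (nat_lit 1) (nat_lit 0) (Step.D (nat_lit 7042) (Step.F (nat_lit 10155) Step.done)) (Scr.cons (nat_lit 12) (nat_lit 4) (Step.L (Step.L (Step.L (Step.L (Step.D (nat_lit 10007) Step.done))))) (Scr.cons (nat_lit 13) (nat_lit 0) (Step.U (nat_lit 6887) (Step.F (nat_lit 9563) (Step.D (nat_lit 4039) (Step.B (nat_lit 9564) (Step.B (nat_lit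 5068) (Step.F (nat_lit 3302) (Step.F (nat_lit 3301) (Step.L (Step.L (Step.L (Step.L Step.done))))))))))) (Scr.cons (nat_lit 12) (nat_lit 4) (Step.U (nat_lit 1056) (Step.L (Step.L (Step.D (nat_lit 1056) (Step.D (nat_lit 2233) Step.done))))) (Scr.cons (nat_lit 12) (nat_lit 4) (Step.U (nat_lit 4212) (Step.F (nat_lit 10159) (Step.D (nat_lit 2233) (Step.D (nat_lit 4212) (Step.D (nat_lit 7090) Step.done))))) (Scr.cons (nat_lit 15) (nat_lit 0) (Step.L (Step.L (Step.L (Step.L (Step.L (Step.L (Step.L (Step.L (Step.L (Step.L (Step.L (Step.D (nat_lit 1056) (Step.D (nat_lit 2233) (Step.D (nat_lit 4212) (Step.D (nat_lit 7090) (Step.D (nat_lit 10198) Step.done)))))))))))))))) (Scr.cons (nat_lit 1) (nat_lit 0) (Step.D (nat_lit 10198) (Step.F (nat_lit 10161) (Step.L Step.done))) Scr.nil))))))))))))))))))))))))))))))))))))))))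
noncomputable def s254 : Scr := (Scr.cons (nat_lit 0) (nat_lit 1) (Step.B (nat_lit 10160) (Step.B (nat_lit 10162) (Step.L Step.done))) (Scr.cons (nat_lit 1) (nat_lit 0) (Step.D (nat_lit 4212) (Step.B (nat_lit 10163) (Step.L Step.done))) (Scr.cons (nat_lit 0) (nat_lit 1) (Step.B (nat_lit 10159) (Step.B (nat_lit 10164) (Step.D (nat_lit 4016) Step.done))) (Scr.cons (nat_lit 0) (nat_lit 0) (Step.B (nat_lit 625) (Step.F (nat_lit 10165) Step.done)) (Scr.cons (nat_lit 0) (nat_lit 1) (Step.D (nat_lit 7538) (Step.F (nat_lit 6123) Step.done)) (Scr.cons (nat_lit 12) (nat_lit 4) (Step.U (nat_lit 2785) (Step.L (Step.L (Step.D (nat_lit 2785) (Step.D (nat_lit 5058) Step.done))))) (Scr.cons (nat_lit 12) (nat_lit 4) (Step.U (nat_lit 5059) (Step.D (nat_lit 5058) (Step.F (nat_lit 10168) (Step.D (nat_lit 5059) (Step.D (nat_lit 8076) Step.done))))) (Scr.cons (nat_lit 12) (nat_lit 1) (Step.L (Step.L (Step.L (Step.L (Step.D (nat_lit 5060) Step.done))))) (Scr.cons (nat_lit 11) (nat_lit 0) (Step.U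 (nat_lit 1190) (Step.U (nat_lit 471) (Step.L (Step.L (Step.D (nat_lit 2476) Step.done))))) (Scr.cons (nat_lit 12) (nat_lit 1) (Step.U (nat_lit 471) (Step.L (Step.L (Step.D (nat_lit 471) (Step.D (nat_lit 1189) Step.done))))) (Scr.cons (nat_lit 12) (nat_lit 1) (Step.U (nat_lit 1190) (Step.D (nat_lit 1189) (Step.F (nat_lit 10172) (Step.D (nat_lit 1190) (Step.D (nat_lit 2477) Step.done))))) (Scr.cons (nat_lit 12) (nat_lit 1) (Step.F (nat_lit 10171) (Step.D (nat_lit 2477) (Step.F (nat_lit 10173) (Step.B (nat_lit 10171) (Step.D (nat_lit 4593) Step.done))))) (Scr.cons (nat_lit 13) (nat_lit 0) (Step.L (Step.L (Step.L (Step.L (Step.L (Step.L (Step.L (Step.L (Step.L (Step.D (nat_lit 5060) (Step.D (nat_lit 8077) Step.done))))))))))) (Scr.cons (nat_lit 7) (nat_lit 3) (Step.U (nat_lit 10593) (Step.U (nat_lit 7551) (Step.F (nat_lit 10174) (Step.U (nat_lit 2476) (Step.L (Step.L (Step.L (Step.L (Step.L (Step.L (Step.L (Step.L (Step.L (Step.L (Step.D (nat_lit 7543) (Step.F (nat_lit 4414)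 (Step.B (nat_lit 10175) (Step.U (nat_lit 8077) (Step.D (nat_lit 8078) (Step.D (nat_lit 11057) Step.done)))))))))))))))))))) (Scr.cons (nat_lit 12) (nat_lit 1) (Step.U (nat_lit 8078) (Step.F (nat_lit 10170) (Step.D (nat_lit 5060) (Step.D (nat_lit 8078) (Step.D (nat_lit 11056) Step.done))))) (Scr.cons (nat_lit 12) (nat_lit 0) (Step.B (nat_lit 10176) (Step.U (nat_lit 11057) (Step.D (nat_lit 11056) (Step.F (nat_lit 10177) (Step.D (nat_lit 11057) Step.done))))) (Scr.cons (nat_lit 12) (nat_lit 1) (Step.U (nat_lit 7552) (Step.F (nat_lit 10174) (Step.D (nat_lit 4593) (Step.D (nat_lit 7552) (Step.D (nat_lit 10594) Step.done))))) (Scr.cons (nat_lit 12) (nat_lit 4) (Step.L (Step.L (Step.L (Step.L (Step.D (nat_lit 1395) Step.done))))) (Scr.cons (nat_lit 12) (nat_lit 1) (Step.U (nat_lit 2837) (Step.F (nat_lit 10180) (Step.D (nat_lit 1395) (Step.D (nat_lit 2837) (Step.D (nat_lit 5129) Step.done))))) (Scr.cons (nat_lit 12) (nat_lit 1) (Step.U (nat_lit 8144) (Step.F (nat_lit 10181) (Step.D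 (nat_lit 5129) (Step.D (nat_lit 8144) (Step.D (nat_lit 11116) Step.done))))) (Scr.cons (nat_lit 12) (nat_lit 1) (Step.U (nat_lit 6540) (Step.F (nat_lit 9829) (Step.D (nat_lit 3778) (Step.D (nat_lit 6540) (Step.D (nat_lit 9687) Step.done))))) (Scr.cons (nat_lit 12) (nat_lit 4) (Step.U (nat_lit 3526) (Step.L (Step.L (Step.D (nat_lit 3526) (Step.D (nat_lit 6170) Step.done))))) (Scr.cons (nat_lit 12) (nat_lit 1) (Step.U (nat_lit 9341) (Step.F (nat_lit 10184) (Step.D (nat_lit 6170) (Step.D (nat_lit 9341) (Step.D (nat_lit 11702) Step.done))))) (Scr.cons (nat_lit 11) (nat_lit 0) (Step.U (nat_lit 4123) (Step.U (nat_lit 2163) (Step.D (nat_lit 2162) (Step.D (nat_lit 4121) (Step.D (nat_lit 6985) Step.done))))) (Scr.cons (nat_lit 12) (nat_lit 4) (Step.U (nat_lit 2162) (Step.F (nat_lit 10114) (Step.D (nat_lit 1013) (Step.D (nat_lit 2162) (Step.D (nat_lit 4120) Step.done))))) (Scr.cons (nat_lit 12) (nat_lit 4) (Step.U (nat_lit 4121) (Step.D (nat_lit 4120) (Step.F (nat_lit 10187) (Step.D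 (nat_lit 4121) (Step.D (nat_lit 6984) Step.done))))) (Scr.cons (nat_lit 7) (nat_lit 5) (Step.U (nat_lit 9340) (Step.F (nat_lit 10184) (Step.U (nat_lit 3526) (Step.L (Step.L (Step.B (nat_lit 546) (Step.D (nat_lit 6153) (Step.B (nat_lit 9722) (Step.D (nat_lit 11690) (Step.B (nat_lit 10038) (Step.U (nat_lit 11011) (Step.D (nat_lit 11012) (Step.F (nat_lit 10036) (Step.U (nat_lit 10072) (Step.F (nat_lit 10116) (Step.F (nat_lit 10117) (Step.D (nat_lit 4123) (Step.B (nat_lit 10186) (Step.U (nat_lit 6985) (Step.B (nat_lit 10188) (Step.D (nat_lit 10116) Step.done))))))))))))))))))))) (Scr.cons (nat_lit 1) (nat_lit 1) (Step.D (nat_lit 10116) (Step.F (nat_lit 10189) (Step.D (nat_lit 11701) Step.done))) (Scr.cons (nat_lit 1) (nat_lit 1) (Step.D (nat_lit 11701) (Step.F (nat_lit 10190) Step.done)) (Scr.cons (nat_lit 4) (nat_lit 0) (Step.U (nat_lit 10115) (Step.F (nat_lit 10191) (Step.U (nat_lit 9340) (Step.D (nat_lit 9341) (Step.D (nat_lit 11703) Step.done))))) (Scr.cons (nat_lit 11)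 (nat_lit 0) (Step.L (Step.L (Step.L (Step.L (Step.D (nat_lit 581) Step.done))))) (Scr.cons (nat_lit 12) (nat_lit 1) (Step.F (nat_lit 10193) (Step.L (Step.L (Step.B (nat_lit 10193) (Step.D (nat_lit 1403) Step.done))))) (Scr.cons (nat_lit 12) (nat_lit 1) (Step.U (nat_lit 1015) (Step.F (nat_lit 9953) (Step.D (nat_lit 388) (Step.D (nat_lit 1015) (Step.D (nat_lit 2164) Step.done))))) (Scr.cons (nat_lit 12) (nat_lit 1) (Step.U (nat_lit 2165) (Step.D (nat_lit 2164) (Step.F (nat_lit 10195) (Step.D (nat_lit 2165) (Step.D (nat_lit 4124) Step.done))))) (Scr.cons (nat_lit 7) (nat_lit 6) (Step.F (nat_lit 10194) (Step.U (nat_lit 581) (Step.L (Step.L (Step.L (Step.L (Step.L (Step.L (Step.L (Step.L (Step.L (Step.F (nat_lit 9950) (Step.U (nat_lit 2175) (Step.U (nat_lit 1022) (Step.B (nat_lit 9952) (Step.U (nat_lit 1014) (Step.D (nat_lit 1015) (Step.D (nat_lit 2165) (Step.B (nat_lit 10196) (Step.D (nat_lit 6987) (Step.D (nat_lit 10118) Step.done))))))))))))))))))))) (Scr.cons (nat_lit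 1) (nat_lit 1) (Step.D (nat_lit 10118) (Step.F (nat_lit 10197) (Step.D (nat_lit 2850) Step.done))) (Scr.cons (nat_lit 1) (nat_lit 1) (Step.D (nat_lit 6987) (Step.B (nat_lit 10198) (Step.D (nat_lit 5153) Step.done))) (Scr.cons (nat_lit 1) (nat_lit 1) (Step.D (nat_lit 5153) (Step.F (nat_lit 10199) Step.done)) (Scr.cons (nat_lit 12) (nat_lit 1) (Step.U (nat_lit 2851) (Step.F (nat_lit 10194) (Step.D (nat_lit 1403) (Step.D (nat_lit 2851) (Step.D (nat_lit 5154) Step.done))))) (Scr.cons (nat_lit 16) (nat_lit 4) (Step.U (nat_lit 8167) (Step.F (nat_lit 10201) (Step.U (nat_lit 2851) (Step.F (nat_lit 10194) (Step.F (nat_lit 10193) (Step.L (Step.L (Step.L (Step.L (Step.L (Step.L (Step.L (Step.L (Step.L (Step.L (Step.L (Step.L (Step.L (Step.D (nat_lit 1396) (Step.D (nat_lit 2838) (Step.D (nat_lit 5131) (Step.D (nat_lit 8145) (Step.D (nat_lit 11117) Step.done))))))))))))))))))))))) Scr.nil))))))))))))))))))))))))))))))))))))))))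
noncomputable def s255 : Scr := (Scr.cons (nat_lit 7) (nat_lit 6) (Step.F (nat_lit 10185) (Step.D (nat_lit 11703) (Step.F (nat_lit 10192) (Step.U (nat_lit 10115) (Step.U (nat_lit 6984) (Step.U (nat_lit 4121) (Step.U (nat_lit 2162) (Step.F (nat_lit 10114) (Step.U (nat_lit 387) (Step.U (nat_lit 128) (Step.D (nat_lit 129) (Step.B (nat_lit 9953) (Step.D (nat_lit 1015) (Step.D (nat_lit 2165) (Step.D (nat_lit 4124) (Step.F (nat_lit 10200) (Step.U (nat_lit 2850) (Step.D (nat_lit 2851) (Step.B (nat_lit 10201) (Step.D (nat_lit 8167) (Step.B (nat_lit 10202) Step.done))))))))))))))))))))) (Scr.cons (nat_lit 0) (nat_lit 0) (Step.B (nat_lit 10185) (Step.B (nat_lit 10203) Step.done)) (Scr.cons (nat_lit 15) (nat_lit 1) (Step.U (nat_lit 8144) (Step.F (nat_lit 10181) (Step.U (nat_lit 2837) (Step.F (nat_lit 10180) (Step.D (nat_lit 1396) (Step.D (nat_lit 2838) (Step.D (nat_lit 5131) (Step.D (nat_lit 8145) (Step.D (nat_lit 11117) (Step.F (nat_lit 10204) (Step.U (nat_lit 9341) (Step.F (nat_lit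 10184) (Step.D (nat_lit 6171) (Step.D (nat_lit 9342) (Step.B (nat_lit 9830) (Step.D (nat_lit 9687) Step.done)))))))))))))))) (Scr.cons (nat_lit 0) (nat_lit 1) (Step.B (nat_lit 10183) (Step.F (nat_lit 10205) (Step.D (nat_lit 11116) Step.done))) (Scr.cons (nat_lit 0) (nat_lit 0) (Step.B (nat_lit 10182) (Step.F (nat_lit 10206) Step.done)) (Scr.cons (nat_lit 16) (nat_lit 0) (Step.F (nat_lit 10179) (Step.U (nat_lit 7552) (Step.F (nat_lit 10174) (Step.F (nat_lit 10171) (Step.U (nat_lit 1190) (Step.U (nat_lit 471) (Step.L (Step.L (Step.L (Step.L (Step.L (Step.L (Step.L (Step.L (Step.L (Step.L (Step.D (nat_lit 3526) (Step.D (nat_lit 6171) (Step.D (nat_lit 9342) (Step.B (nat_lit 9830) (Step.F (nat_lit 10207) (Step.U (nat_lit 8144) (Step.D (nat_lit 8143) (Step.D (nat_lit 11115) Step.done)))))))))))))))))))))))) (Scr.cons (nat_lit 1) (nat_lit 1) (Step.D (nat_lit 11115) (Step.F (nat_lit 10208) Step.done)) (Scr.cons (nat_lit 11) (nat_lit 0) (Step.U (nat_lit 5130) (Step.U (nat_lit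 2837) (Step.D (nat_lit 2836) (Step.D (nat_lit 5128) (Step.D (nat_lit 8142) Step.done))))) (Scr.cons (nat_lit 12) (nat_lit 4) (Step.U (nat_lit 2836) (Step.F (nat_lit 10180) (Step.D (nat_lit 1395) (Step.D (nat_lit 2836) (Step.D (nat_lit 5127) Step.done))))) (Scr.cons (nat_lit 12) (nat_lit 4) (Step.U (nat_lit 5128) (Step.D (nat_lit 5127) (Step.F (nat_lit 10211) (Step.D (nat_lit 5128) (Step.D (nat_lit 8141) Step.done))))) (Scr.cons (nat_lit 7) (nat_lit 5) (Step.U (nat_lit 11055) (Step.F (nat_lit 10169) (Step.U (nat_lit 5059) (Step.U (nat_lit 2785) (Step.L (Step.B (nat_lit 10170) (Step.D (nat_lit 8078) (Step.D (nat_lit 11057) (Step.F (nat_lit 10178) (Step.U (nat_lit 10593) (Step.U (nat_lit 7551) (Step.D (nat_lit 7552) (Step.B (nat_lit 10179) (Step.F (nat_lit 10209) (Step.U (nat_lit 8143) (Step.F (nat_lit 10181) (Step.D (nat_lit 5130) (Step.B (nat_lit 10210) (Step.U (nat_lit 8142) (Step.B (nat_lit 10212) (Step.D (nat_lit 11114) Step.done))))))))))))))))))))) (Scr.cons (nat_lit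 1) (nat_lit 0) (Step.D (nat_lit 11114) (Step.F (nat_lit 10213) Step.done)) (Scr.cons (nat_lit 12) (nat_lit 1) (Step.U (nat_lit 6448) (Step.F (nat_lit 9994) (Step.D (nat_lit 3713) (Step.D (nat_lit 6448) (Step.D (nat_lit 9595) Step.done))))) (Scr.cons (nat_lit 8) (nat_lit 1) (Step.U (nat_lit 9601) (Step.U (nat_lit 6453) (Step.L (Step.L (Step.L (Step.L (Step.L (Step.L (Step.L (Step.L (Step.D (nat_lit 1912) (Step.B (nat_lit 9994) (Step.D (nat_lit 6448) (Step.B (nat_lit 10215) (Step.D (nat_lit 11779) Step.done))))))))))))))) (Scr.cons (nat_lit 0) (nat_lit 1) (Step.F (nat_lit 10216) (Step.F (nat_lit 9832) (Step.F (nat_lit 10207) Step.done))) (Scr.cons (nat_lit 11) (nat_lit 0) (Step.U (nat_lit 9596) (Step.U (nat_lit 6448) (Step.D (nat_lit 6447) (Step.D (nat_lit 9594) (Step.D (nat_lit 11778) Step.done))))) (Scr.cons (nat_lit 1) (nat_lit 1) (Step.U (nat_lit 11778) (Step.B (nat_lit 10001) (Step.L Step.done))) (Scr.cons (nat_lit 1) (nat_lit 1) (Step.B (nat_lit 10218) (Step.B (nat_lit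 10219) (Step.L Step.done))) (Scr.cons (nat_lit 1) (nat_lit 1) (Step.D (nat_lit 9596) (Step.B (nat_lit 10220) (Step.L Step.done))) (Scr.cons (nat_lit 0) (nat_lit 1) (Step.U (nat_lit 9595) (Step.B (nat_lit 10221) (Step.L Step.done))) (Scr.cons (nat_lit 1) (nat_lit 0) (Step.F (nat_lit 10217) (Step.U (nat_lit 11779) (Step.B (nat_lit 10222) (Step.D (nat_lit 3681) Step.done)))) (Scr.cons (nat_lit 1) (nat_lit 1) (Step.D (nat_lit 8144) (Step.B (nat_lit 10223) (Step.U (nat_lit 3681) Step.done))) (Scr.cons (nat_lit 0) (nat_lit 1) (Step.B (nat_lit 10181) (Step.B (nat_lit 10224) (Step.L Step.done))) (Scr.cons (nat_lit 1) (nat_lit 1) (Step.D (nat_lit 2837) (Step.B (nat_lit 10225) (Step.L Step.done))) (Scr.cons (nat_lit 1) (nat_lit 1) (Step.U (nat_lit 2836) (Step.B (nat_lit 10226) (Step.L Step.done))) (Scr.cons (nat_lit 1) (nat_lit 1) (Step.U (nat_lit 5128) (Step.B (nat_lit 10227) (Step.L Step.done))) (Scr.cons (nat_lit 0) (nat_lit 1) (Step.U (nat_lit 8141) (Step.B (nat_lit 10228)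 (Step.L Step.done))) (Scr.cons (nat_lit 1) (nat_lit 0) (Step.F (nat_lit 10214) (Step.B (nat_lit 10229) (Step.L Step.done))) (Scr.cons (nat_lit 1) (nat_lit 0) (Step.D (nat_lit 11055) (Step.B (nat_lit 10230) (Step.L Step.done))) (Scr.cons (nat_lit 0) (nat_lit 1) (Step.B (nat_lit 10169) (Step.B (nat_lit 10231) (Step.L Step.done))) (Scr.cons (nat_lit 1) (nat_lit 0) (Step.D (nat_lit 5059) (Step.B (nat_lit 10232) (Step.L Step.done))) (Scr.cons (nat_lit 1) (nat_lit 0) (Step.D (nat_lit 2785) (Step.B (nat_lit 10233) (Step.D (nat_lit 4286) Step.done))) (Scr.cons (nat_lit 0) (nat_lit 1) (Step.B (nat_lit 5064) (Step.F (nat_lit 10234) (Step.L Step.done))) (Scr.cons (nat_lit 1) (nat_lit 0) (Step.D (nat_lit 5098) (Step.B (nat_lit 10235) (Step.L Step.done))) (Scr.cons (nat_lit 0) (nat_lit 1) (Step.U (nat_lit 5097) (Step.B (nat_lit 10236) (Step.L Step.done))) (Scr.cons (nat_lit 1) (nat_lit 0) (Step.F (nat_lit 6070) (Step.B (nat_lit 10237) (Step.L Step.done))) (Scr.cons (nat_lit 0) (nat_lit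 1) (Step.F (nat_lit 10167) (Step.B (nat_lit 10238) (Step.L Step.done))) (Scr.cons (nat_lit 1) (nat_lit 1) (Step.D (nat_lit 6339) (Step.B (nat_lit 10239) (Step.L Step.done))) (Scr.cons (nat_lit 1) (nat_lit 1) (Step.D (nat_lit 3633) (Step.B (nat_lit 10240) (Step.L Step.done))) (Scr.cons (nat_lit 0) (nat_lit 1) (Step.B (nat_lit 4501) (Step.B (nat_lit 10241) (Step.L Step.done))) Scr.nil))))))))))))))))))))))))))))))))))))))))
noncomputable def s256 : Scr := (Scr.cons (nat_lit 1) (nat_lit 1) (Step.B (nat_lit 2243) (Step.B (nat_lit 10242) (Step.L Step.done))) (Scr.cons (nat_lit 0) (nat_lit 1) (Step.B (nat_lit 2236) (Step.B (nat_lit 10243) (Step.L Step.done))) (Scr.cons (nat_lit 1) (nat_lit 0) (Step.F (nat_lit 2233) (Step.B (nat_lit 10244) (Step.L Step.done))) (Scr.cons (nat_lit 0) (nat_lit 1) (Step.U (nat_lit 2275) (Step.B (nat_lit 10245) (Step.L Step.done))) (Scr.cons (nat_lit 1) (nat_lit 1) (Step.B (nat_lit 3493) (Step.B (nat_lit 10246) (Step.L Step.done))) (Scr.cons (nat_lit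 1) (nat_lit 1) (Step.D (nat_lit 2109) (Step.B (nat_lit 10247) (Step.D (nat_lit 1056) Step.done))) (Scr.cons (nat_lit 0) (nat_lit 1) (Step.B (nat_lit 10166) (Step.F (nat_lit 10248) (Step.D (nat_lit 2108) Step.done))) (Scr.cons (nat_lit 1) (nat_lit 1) (Step.B (nat_lit 5066) (Step.F (nat_lit 10249) (Step.L Step.done))) (Scr.cons (nat_lit 1) (nat_lit 1) (Step.U (nat_lit 2115) (Step.B (nat_lit 10250) (Step.L Step.done))) (Scr.cons (nat_lit 0) (nat_lit 1) (Step.U (nat_lit 4038) (Step.B (nat_lit 10251) (Step.L Step.done))) (Scr.cons (nat_lit 1) (nat_lit 1) (Step.U (nat_lit 6887) (Step.B (nat_lit 10252) (Step.L Step.done))) (Scr.cons (nat_lit 0) (nat_lit 1) (Step.F (nat_lit 10158) (Step.B (nat_lit 10253) (Step.D (nat_lit 10007) Step.done))) (Scr.cons (nat_lit 0) (nat_lit 0) (Step.B (nat_lit 10157) (Step.F (nat_lit 10254) Step.done)) (Scr.cons (nat_lit 12) (nat_lit 4) (Step.L (Step.L (Step.L (Step.L (Step.D (nat_lit 8610) Step.done))))) (Scr.cons (nat_lit 12) (nat_lit 4) (Step.U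 (nat_lit 8611) (Step.D (nat_lit 8610) (Step.F (nat_lit 10256) (Step.D (nat_lit 8611) (Step.D (nat_lit 11410) Step.done))))) (Scr.cons (nat_lit 11) (nat_lit 0) (Step.U (nat_lit 5091) (Step.U (nat_lit 2808) (Step.D (nat_lit 2807) (Step.D (nat_lit 5090) (Step.D (nat_lit 8105) Step.done))))) (Scr.cons (nat_lit 11) (nat_lit 0) (Step.L (Step.L (Step.D (nat_lit 437) (Step.D (nat_lit 1122) (Step.D (nat_lit 2354) Step.done))))) (Scr.cons (nat_lit 12) (nat_lit 1) (Step.F (nat_lit 10259) (Step.L (Step.L (Step.B (nat_lit 10259) (Step.D (nat_lit 4386) Step.done))))) (Scr.cons (nat_lit 16) (nat_lit 1) (Step.F (nat_lit 10260) (Step.F (nat_lit 10259) (Step.L (Step.L (Step.L (Step.L (Step.L (Step.L (Step.L (Step.L (Step.L (Step.L (Step.L (Step.L (Step.L (Step.L (Step.L (Step.L (Step.L (Step.L (Step.L (Step.D (nat_lit 2809) (Step.D (nat_lit 5092) Step.done))))))))))))))))))))))) (Scr.cons (nat_lit 11) (nat_lit 0) (Step.U (nat_lit 1375) (Step.U (nat_lit 563) (Step.L (Step.L (Step.D (nat_lit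 2809) Step.done))))) (Scr.cons (nat_lit 12) (nat_lit 1) (Step.U (nat_lit 563) (Step.L (Step.L (Step.D (nat_lit 563) (Step.D (nat_lit 1374) Step.done))))) (Scr.cons (nat_lit 12) (nat_lit 1) (Step.U (nat_lit 1375) (Step.D (nat_lit 1374) (Step.F (nat_lit 10263) (Step.D (nat_lit 1375) (Step.D (nat_lit 2810) Step.done))))) (Scr.cons (nat_lit 12) (nat_lit 1) (Step.F (nat_lit 10262) (Step.D (nat_lit 2810) (Step.F (nat_lit 10264) (Step.B (nat_lit 10262) (Step.D (nat_lit 5092) Step.done))))) (Scr.cons (nat_lit 14) (nat_lit 2) (Step.F (nat_lit 10265) (Step.F (nat_lit 10262) (Step.U (nat_lit 1375) (Step.U (nat_lit 563) (Step.L (Step.L (Step.L (Step.L (Step.L (Step.L (Step.L (Step.L (Step.L (Step.L (Step.L (Step.L (Step.L (Step.D (nat_lit 2809) (Step.B (nat_lit 10265) (Step.F (nat_lit 10261) Step.done)))))))))))))))))))) (Scr.cons (nat_lit 14) (nat_lit 4) (Step.F (nat_lit 10258) (Step.U (nat_lit 5091) (Step.U (nat_lit 2808) (Step.U (nat_lit 1373) (Step.L (Step.D (nat_lit 2809) (Step.D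 (nat_lit 5092) (Step.F (nat_lit 10261) (Step.F (nat_lit 10266) (Step.F (nat_lit 10261) (Step.U (nat_lit 4386) (Step.F (nat_lit 10259) (Step.L (Step.L (Step.L (Step.L (Step.L (Step.L (Step.L (Step.D (nat_lit 8611) (Step.D (nat_lit 11410) Step.done))))))))))))))))))))) (Scr.cons (nat_lit 0) (nat_lit 1) (Step.B (nat_lit 10257) (Step.F (nat_lit 10267) (Step.D (nat_lit 11081) Step.done))) (Scr.cons (nat_lit 0) (nat_lit 1) (Step.D (nat_lit 11081) (Step.F (nat_lit 10268) Step.done)) (Scr.cons (nat_lit 12) (nat_lit 4) (Step.L (Step.D (nat_lit 45) (Step.F (nat_lit 2738) (Step.L (Step.D (nat_lit 167) Step.done))))) (Scr.cons (nat_lit 12) (nat_lit 4) (Step.U (nat_lit 485) (Step.F (nat_lit 10270) (Step.D (nat_lit 167) (Step.D (nat_lit 485) (Step.D (nat_lit 1213) Step.done))))) (Scr.cons (nat_lit 6) (nat_lit 1) (Step.U (nat_lit 2515) (Step.F (nat_lit 10271) (Step.U (nat_lit 485) (Step.U (nat_lit 167) (Step.L (Step.L (Step.L (Step.L (Step.L (Step.D (nat_lit 1373) (Step.D (nat_lit 2808)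 Step.done))))))))))) (Scr.cons (nat_lit 12) (nat_lit 1) (Step.L (Step.L (Step.L (Step.L (Step.D (nat_lit 119) Step.done))))) (Scr.cons (nat_lit 11) (nat_lit 0) (Step.U (nat_lit 981) (Step.U (nat_lit 366) (Step.D (nat_lit 365) (Step.D (nat_lit 979) (Step.D (nat_lit 2102) Step.done))))) (Scr.cons (nat_lit 12) (nat_lit 1) (Step.U (nat_lit 366) (Step.F (nat_lit 10273) (Step.D (nat_lit 119) (Step.D (nat_lit 366) (Step.D (nat_lit 980) Step.done))))) (Scr.cons (nat_lit 12) (nat_lit 1) (Step.U (nat_lit 981) (Step.D (nat_lit 980) (Step.F (nat_lit 10275) (Step.D (nat_lit 981) (Step.D (nat_lit 2104) Step.done))))) (Scr.cons (nat_lit 12) (nat_lit 1) (Step.F (nat_lit 10274) (Step.D (nat_lit 2104) (Step.F (nat_lit 10276) (Step.B (nat_lit 10274) (Step.D (nat_lit 4017) Step.done))))) (Scr.cons (nat_lit 11) (nat_lit 0) (Step.L (Step.L (Step.L (Step.L (Step.D (nat_lit 4034) Step.done))))) (Scr.cons (nat_lit 12) (nat_lit 1) (Step.L (Step.L (Step.L (Step.L (Step.D (nat_lit 4036) Step.done)))))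 (Scr.cons (nat_lit 12) (nat_lit 1) (Step.F (nat_lit 10278) (Step.D (nat_lit 4036) (Step.F (nat_lit 10279) (Step.B (nat_lit 10278) (Step.D (nat_lit 6883) Step.done))))) (Scr.cons (nat_lit 7) (nat_lit 5) (Step.F (nat_lit 10280) (Step.U (nat_lit 4034) (Step.L (Step.L (Step.L (Step.L (Step.L (Step.L (Step.L (Step.L (Step.L (Step.L (Step.L (Step.L (Step.D (nat_lit 119) (Step.D (nat_lit 366) (Step.D (nat_lit 981) (Step.B (nat_lit 10274) (Step.B (nat_lit 10277) (Step.D (nat_lit 6865) Step.done)))))))))))))))))))) (Scr.cons (nat_lit 0) (nat_lit 1) (Step.U (nat_lit 2743) (Step.B (nat_lit 9877) (Step.L Step.done))) Scr.nil))))))))))))))))))))))))))))))))))))))))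
noncomputable def s257 : Scr := (Scr.cons (nat_lit 1) (nat_lit 1) (Step.U (nat_lit 4985) (Step.B (nat_lit 10282) (Step.L Step.done))) (Scr.cons (nat_lit 1) (nat_lit 1) (Step.U (nat_lit 7993) (Step.B (nat_lit 10283) (Step.L Step.done))) (Scr.cons (nat_lit 1) (nat_lit 1) (Step.B (nat_lit 1324) (Step.B (nat_lit 10284) (Step.D (nat_lit 6577) Step.done))) (Scr.cons (nat_lit 0) (nat_lit 1) (Step.B (nat_lit 1322) (Step.B (nat_lit 10285) (Step.D (nat_lit 9737) Step.done))) (Scr.cons (nat_lit 12) (nat_lit 1) (Step.F (nat_lit 9359) (Step.L (Step.L (Step.B (nat_lit 9359) (Step.D (nat_lit 9737) Step.done))))) (Scr.cons (nat_lit 12) (nat_lit 1) (Step.U (nat_lit 4035) (Step.L (Step.L (Step.D (nat_lit 4035) (Step.D (nat_lit 6884) Step.done))))) (Scr.cons (nat_lit 4) (nat_lit 0) (Step.U (nat_lit 11686) (Step.U (nat_lit 9307) (Step.B (nat_lit 10096) (Step.D (nat_lit 9468) (Step.D (nat_lit 11752) Step.done))))) (Scr.cons (nat_lit 8) (nat_lit 1) (Step.F (nat_lit 10289) (Step.F (nat_lit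 10097) (Step.B (nat_lit 8936) (Step.U (nat_lit 10023) (Step.U (nat_lit 6885) (Step.U (nat_lit 4037) (Step.L (Step.L (Step.L (Step.L (Step.L (Step.L (Step.D (nat_lit 4035) (Step.B (nat_lit 10288) (Step.D (nat_lit 10022) Step.done))))))))))))))) (Scr.cons (nat_lit 1) (nat_lit 1) (Step.F (nat_lit 10289) (Step.B (nat_lit 10135) (Step.L Step.done))) (Scr.cons (nat_lit 0) (nat_lit 1) (Step.F (nat_lit 10290) (Step.B (nat_lit 10291) (Step.L Step.done))) (Scr.cons (nat_lit 1) (nat_lit 1) (Step.D (nat_lit 10022) (Step.B (nat_lit 10292) (Step.L Step.done))) (Scr.cons (nat_lit 0) (nat_lit 1) (Step.B (nat_lit 10288) (Step.B (nat_lit 10293) (Step.L Step.done))) (Scr.cons (nat_lit 1) (nat_lit 1) (Step.D (nat_lit 4035) (Step.B (nat_lit 10294) (Step.D (nat_lit 6577) Step.done))) (Scr.cons (nat_lit 0) (nat_lit 0) (Step.B (nat_lit 10286) (Step.F (nat_lit 10287) (Step.F (nat_lit 10295) (Step.L Step.done)))) (Scr.cons (nat_lit 1) (nat_lit 0) (Step.D (nat_lit 4622) (Step.B (nat_lit 10296)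 (Step.L Step.done))) (Scr.cons (nat_lit 1) (nat_lit 0) (Step.D (nat_lit 2498) (Step.B (nat_lit 10297) (Step.B (nat_lit 10278) Step.done))) (Scr.cons (nat_lit 0) (nat_lit 1) (Step.U (nat_lit 6883) (Step.F (nat_lit 10298) (Step.L Step.done))) (Scr.cons (nat_lit 1) (nat_lit 1) (Step.F (nat_lit 10281) (Step.B (nat_lit 10299) (Step.L Step.done))) (Scr.cons (nat_lit 1) (nat_lit 1) (Step.D (nat_lit 6865) (Step.B (nat_lit 10300) (Step.L Step.done))) (Scr.cons (nat_lit 0) (nat_lit 1) (Step.B (nat_lit 10277) (Step.B (nat_lit 10301) (Step.L Step.done))) (Scr.cons (nat_lit 1) (nat_lit 1) (Step.B (nat_lit 10274) (Step.B (nat_lit 10302) (Step.L Step.done))) (Scr.cons (nat_lit 1) (nat_lit 1) (Step.D (nat_lit 981) (Step.B (nat_lit 10303) (Step.L Step.done))) (Scr.cons (nat_lit 1) (nat_lit 1) (Step.D (nat_lit 366) (Step.B (nat_lit 10304) (Step.L Step.done))) (Scr.cons (nat_lit 0) (nat_lit 1) (Step.B (nat_lit 10273) (Step.B (nat_lit 10305) (Step.D (nat_lit 167) Step.done))) (Scr.cons (nat_lit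 1) (nat_lit 1) (Step.U (nat_lit 485) (Step.F (nat_lit 10306) (Step.L Step.done))) (Scr.cons (nat_lit 0) (nat_lit 1) (Step.U (nat_lit 1213) (Step.B (nat_lit 10307) (Step.L Step.done))) (Scr.cons (nat_lit 1) (nat_lit 0) (Step.U (nat_lit 2515) (Step.B (nat_lit 10308) (Step.L Step.done))) (Scr.cons (nat_lit 0) (nat_lit 1) (Step.F (nat_lit 10272) (Step.B (nat_lit 10309) (Step.L Step.done))) (Scr.cons (nat_lit 1) (nat_lit 0) (Step.U (nat_lit 5091) (Step.B (nat_lit 10310) (Step.L Step.done))) (Scr.cons (nat_lit 1) (nat_lit 0) (Step.F (nat_lit 10258) (Step.B (nat_lit 10311) (Step.L Step.done))) (Scr.cons (nat_lit 0) (nat_lit 1) (Step.F (nat_lit 10269) (Step.B (nat_lit 10312) (Step.L Step.done))) (Scr.cons (nat_lit 1) (nat_lit 0) (Step.D (nat_lit 8611) (Step.B (nat_lit 10313) (Step.D (nat_lit 6854) Step.done))) (Scr.cons (nat_lit 1) (nat_lit 0) (Step.D (nat_lit 6854) (Step.F (nat_lit 10314) Step.done)) (Scr.cons (nat_lit 12) (nat_lit 4) (Step.L (Step.L (Step.L (Step.L (Step.D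 (nat_lit 9651) Step.done))))) (Scr.cons (nat_lit 13) (nat_lit 0) (Step.L (Step.L (Step.L (Step.L (Step.L (Step.L (Step.L (Step.L (Step.L (Step.D (nat_lit 9229) (Step.D (nat_lit 11650) Step.done))))))))))) (Scr.cons (nat_lit 14) (nat_lit 4) (Step.U (nat_lit 11652) (Step.L (Step.L (Step.L (Step.L (Step.L (Step.L (Step.L (Step.L (Step.L (Step.L (Step.L (Step.L (Step.L (Step.L (Step.L (Step.L (Step.L (Step.L (Step.D (nat_lit 11345) Step.done)))))))))))))))))))) (Scr.cons (nat_lit 11) (nat_lit 0) (Step.F (nat_lit 10318) (Step.U (nat_lit 11652) (Step.L (Step.L (Step.D (nat_lit 11651) Step.done))))) (Scr.cons (nat_lit 9) (nat_lit 1) (Step.U (nat_lit 8496) (Step.L (Step.L (Step.L (Step.L (Step.L (Step.L (Step.L (Step.L (Step.L (Step.L (Step.L (Step.L (Step.L (Step.L (Step.L (Step.L (Step.L (Step.L (Step.L (Step.L (Step.B (nat_lit 5971) (Step.D (nat_lit 11347) Step.done))))))))))))))))))))))) (Scr.cons (nat_lit 11) (nat_lit 0) (Step.L (Step.D (nat_lit 8496) (Step.B (nat_lit 10320)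 (Step.U (nat_lit 11347) (Step.D (nat_lit 11346) Step.done))))) (Scr.cons (nat_lit 16) (nat_lit 5) (Step.L (Step.L (Step.D (nat_lit 8493) (Step.D (nat_lit 11346) (Step.F (nat_lit 10321) (Step.L (Step.L (Step.L (Step.L (Step.L (Step.L (Step.L (Step.L (Step.L (Step.L (Step.L (Step.L (Step.L (Step.L (Step.L (Step.L (Step.D (nat_lit 8576) (Step.D (nat_lit 11384) Step.done))))))))))))))))))))))) Scr.nil))))))))))))))))))))))))))))))))))))))))
noncomputable def s258 : Scr := (Scr.cons (nat_lit 11) (nat_lit 0) (Step.U (nat_lit 11385) (Step.U (nat_lit 8577) (Step.D (nat_lit 8576) (Step.D (nat_lit 11384) (Step.F (nat_lit 10322) Step.done))))) (Scr.cons (nat_lit 11) (nat_lit 0) (Step.U (nat_lit 8490) (Step.L (Step.D (nat_lit 5419) (Step.D (nat_lit 8488) (Step.D (nat_lit 11342) Step.done))))) (Scr.cons (nat_lit 12) (nat_lit 1) (Step.U (nat_lit 3067) (Step.L (Step.L (Step.D (nat_lit 3067) (Step.D (nat_lit 5492) Step.done))))) (Scr.cons (nat_lit 8) (nat_lit 1) (Step.U (nat_lit 5498)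 (Step.U (nat_lit 3076) (Step.L (Step.L (Step.L (Step.L (Step.L (Step.L (Step.L (Step.L (Step.L (Step.L (Step.D (nat_lit 3067) (Step.B (nat_lit 10325) (Step.D (nat_lit 8578) Step.done))))))))))))))) (Scr.cons (nat_lit 1) (nat_lit 1) (Step.U (nat_lit 5388) (Step.B (nat_lit 8210) (Step.L Step.done))) (Scr.cons (nat_lit 0) (nat_lit 1) (Step.F (nat_lit 7085) (Step.B (nat_lit 10327) (Step.D (nat_lit 3076) Step.done))) (Scr.cons (nat_lit 1) (nat_lit 1) (Step.U (nat_lit 5498) (Step.F (nat_lit 10328) (Step.L Step.done))) (Scr.cons (nat_lit 0) (nat_lit 1) (Step.F (nat_lit 10326) (Step.B (nat_lit 10329) (Step.L Step.done))) (Scr.cons (nat_lit 1) (nat_lit 1) (Step.D (nat_lit 8578) (Step.B (nat_lit 10330) (Step.L Step.done))) (Scr.cons (nat_lit 0) (nat_lit 1) (Step.B (nat_lit 10325) (Step.B (nat_lit 10331) (Step.L Step.done))) (Scr.cons (nat_lit 1) (nat_lit 1) (Step.D (nat_lit 3067) (Step.B (nat_lit 10332) (Step.D (nat_lit 5419) Step.done))) (Scr.cons (nat_lit 1) (nat_lit 1) (Step.U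 (nat_lit 8488) (Step.F (nat_lit 10333) (Step.L Step.done))) (Scr.cons (nat_lit 1) (nat_lit 1) (Step.U (nat_lit 11342) (Step.B (nat_lit 10334) (Step.D (nat_lit 5491) Step.done))) (Scr.cons (nat_lit 1) (nat_lit 0) (Step.B (nat_lit 10324) (Step.B (nat_lit 10335) Step.done)) (Scr.cons (nat_lit 14) (nat_lit 4) (Step.U (nat_lit 11655) (Step.U (nat_lit 9231) (Step.L (Step.L (Step.L (Step.L (Step.L (Step.D (nat_lit 11651) (Step.F (nat_lit 10319) (Step.U (nat_lit 11345) (Step.L (Step.L (Step.L (Step.F (nat_lit 10323) (Step.U (nat_lit 11385) (Step.U (nat_lit 8577) (Step.L (Step.D (nat_lit 5491) (Step.F (nat_lit 10336) (Step.D (nat_lit 11343) Step.done)))))))))))))))))))) (Scr.cons (nat_lit 11) (nat_lit 0) (Step.F (nat_lit 10337) (Step.U (nat_lit 11655) (Step.U (nat_lit 9231) (Step.L (Step.D (nat_lit 11654) Step.done))))) (Scr.cons (nat_lit 12) (nat_lit 1) (Step.L (Step.L (Step.L (Step.L (Step.D (nat_lit 8489) Step.done))))) (Scr.cons (nat_lit 12) (nat_lit 1) (Step.U (nat_lit 8490)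 (Step.D (nat_lit 8489) (Step.F (nat_lit 10339) (Step.D (nat_lit 8490) (Step.D (nat_lit 11343) Step.done))))) (Scr.cons (nat_lit 14) (nat_lit 0) (Step.F (nat_lit 10317) (Step.D (nat_lit 11654) (Step.F (nat_lit 10338) (Step.F (nat_lit 10340) (Step.U (nat_lit 8490) (Step.L (Step.L (Step.L (Step.L (Step.L (Step.L (Step.L (Step.L (Step.L (Step.L (Step.L (Step.L (Step.L (Step.D (nat_lit 3766) (Step.D (nat_lit 6526) (Step.D (nat_lit 9672) Step.done))))))))))))))))))))) (Scr.cons (nat_lit 1) (nat_lit 0) (Step.D (nat_lit 11650) (Step.B (nat_lit 10341) (Step.U (nat_lit 9672) Step.done))) (Scr.cons (nat_lit 0) (nat_lit 1) (Step.B (nat_lit 8689) (Step.B (nat_lit 10342) (Step.D (nat_lit 9671) Step.done))) (Scr.cons (nat_lit 0) (nat_lit 1) (Step.D (nat_lit 9671) (Step.F (nat_lit 10343) Step.done)) (Scr.cons (nat_lit 9) (nat_lit 5) (Step.U (nat_lit 4003) (Step.U (nat_lit 2093) (Step.U (nat_lit 971) (Step.U (nat_lit 361) (Step.L (Step.L (Step.L (Step.L (Step.L (Step.L (Step.L (Step.L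 (Step.L (Step.L (Step.L (Step.L (Step.L (Step.L (Step.L (Step.L (Step.L (Step.L (Step.D (nat_lit 6512) Step.done))))))))))))))))))))))) (Scr.cons (nat_lit 12) (nat_lit 4) (Step.L (Step.L (Step.L (Step.L (Step.D (nat_lit 361) Step.done))))) (Scr.cons (nat_lit 12) (nat_lit 4) (Step.U (nat_lit 971) (Step.F (nat_lit 10346) (Step.D (nat_lit 361) (Step.D (nat_lit 971) (Step.D (nat_lit 2092) Step.done))))) (Scr.cons (nat_lit 15) (nat_lit 0) (Step.U (nat_lit 2103) (Step.F (nat_lit 10275) (Step.U (nat_lit 366) (Step.F (nat_lit 10273) (Step.L (Step.L (Step.L (Step.L (Step.L (Step.L (Step.L (Step.D (nat_lit 361) (Step.D (nat_lit 971) (Step.D (nat_lit 2092) (Step.D (nat_lit 4002) Step.done))))))))))))))) (Scr.cons (nat_lit 12) (nat_lit 4) (Step.U (nat_lit 4002) (Step.F (nat_lit 10347) (Step.D (nat_lit 2092) (Step.D (nat_lit 4002) (Step.F (nat_lit 10348) Step.done))))) (Scr.cons (nat_lit 0) (nat_lit 1) (Step.U (nat_lit 980) (Step.B (nat_lit 10304) (Step.L Step.done))) (Scr.cons (nat_lit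 1) (nat_lit 0) (Step.U (nat_lit 2103) (Step.B (nat_lit 10350) (Step.L Step.done))) (Scr.cons (nat_lit 0) (nat_lit 1) (Step.B (nat_lit 10349) (Step.B (nat_lit 10351) (Step.L Step.done))) (Scr.cons (nat_lit 1) (nat_lit 0) (Step.D (nat_lit 4002) (Step.B (nat_lit 10352) (Step.L Step.done))) (Scr.cons (nat_lit 0) (nat_lit 1) (Step.B (nat_lit 10347) (Step.B (nat_lit 10353) (Step.L Step.done))) (Scr.cons (nat_lit 1) (nat_lit 1) (Step.U (nat_lit 2093) (Step.B (nat_lit 10354) (Step.L Step.done))) (Scr.cons (nat_lit 1) (nat_lit 1) (Step.U (nat_lit 4003) (Step.B (nat_lit 10355) (Step.L Step.done))) (Scr.cons (nat_lit 0) (nat_lit 1) (Step.F (nat_lit 10345) (Step.B (nat_lit 10356) (Step.L Step.done))) (Scr.cons (nat_lit 1) (nat_lit 1) (Step.D (nat_lit 6512) (Step.B (nat_lit 10357) (Step.D (nat_lit 3766) Step.done))) (Scr.cons (nat_lit 1) (nat_lit 1) (Step.U (nat_lit 6526) (Step.F (nat_lit 10358) (Step.L Step.done))) (Scr.cons (nat_lit 0) (nat_lit 1) (Step.F (nat_lit 10344) (Step.B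 (nat_lit 10359) (Step.D (nat_lit 9651) Step.done))) (Scr.cons (nat_lit 0) (nat_lit 0) (Step.B (nat_lit 10316) (Step.F (nat_lit 10360) Step.done)) (Scr.cons (nat_lit 14) (nat_lit 4) (Step.L (Step.L (Step.L (Step.L (Step.L (Step.L (Step.L (Step.L (Step.L (Step.L (Step.L (Step.L (Step.L (Step.L (Step.L (Step.L (Step.L (Step.L (Step.D (nat_lit 9652) (Step.D (nat_lit 11801) Step.done)))))))))))))))))))) Scr.nil))))))))))))))))))))))))))))))))))))))))
noncomputable def s259 : Scr := (Scr.cons (nat_lit 6) (nat_lit 3) (Step.L (Step.L (Step.L (Step.L (Step.L (Step.L (Step.L (Step.L (Step.L (Step.B (nat_lit 8689) (Step.D (nat_lit 11650) Step.done))))))))))) (Scr.cons (nat_lit 0) (nat_lit 0) (Step.B (nat_lit 10363) (Step.B (nat_lit 10341) Step.done)) (Scr.cons (nat_lit 1) (nat_lit 1) (Step.U (nat_lit 9672) (Step.B (nat_lit 10359) (Step.D (nat_lit 9652) Step.done))) (Scr.cons (nat_lit 0) (nat_lit 1) (Step.B (nat_lit 10364) (Step.B (nat_lit 10365) (Step.D (nat_lit 11801) Step.done)))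 (Scr.cons (nat_lit 1) (nat_lit 1) (Step.B (nat_lit 10362) (Step.F (nat_lit 10366) (Step.D (nat_lit 11654) Step.done))) (Scr.cons (nat_lit 1) (nat_lit 1) (Step.D (nat_lit 11654) (Step.F (nat_lit 10367) Step.done)) (Scr.cons (nat_lit 1) (nat_lit 1) (Step.B (nat_lit 10338) (Step.F (nat_lit 10367) (Step.L Step.done))) (Scr.cons (nat_lit 6) (nat_lit 1) (Step.L (Step.L (Step.L (Step.L (Step.L (Step.L (Step.L (Step.L (Step.L (Step.D (nat_lit 9021) (Step.D (nat_lit 11589) Step.done))))))))))) (Scr.cons (nat_lit 0) (nat_lit 1) (Step.B (nat_lit 10340) (Step.B (nat_lit 10369) (Step.B (nat_lit 10370) Step.done))) (Scr.cons (nat_lit 1) (nat_lit 1) (Step.D (nat_lit 11589) (Step.F (nat_lit 10371) (Step.U (nat_lit 8490) Step.done))) (Scr.cons (nat_lit 0) (nat_lit 1) (Step.B (nat_lit 6499) (Step.B (nat_lit 10372) (Step.D (nat_lit 8489) Step.done))) (Scr.cons (nat_lit 0) (nat_lit 0) (Step.B (nat_lit 10339) (Step.F (nat_lit 10373) Step.done)) (Scr.cons (nat_lit 12) (nat_lit 1) (Step.L (Step.L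 (Step.L (Step.L (Step.D (nat_lit 5439) Step.done))))) (Scr.cons (nat_lit 12) (nat_lit 1) (Step.F (nat_lit 2951) (Step.D (nat_lit 5439) (Step.F (nat_lit 10375) (Step.B (nat_lit 2951) (Step.D (nat_lit 8519) Step.done))))) (Scr.cons (nat_lit 0) (nat_lit 0) (Step.B (nat_lit 10376) (Step.F (nat_lit 2953) Step.done)) (Scr.cons (nat_lit 7) (nat_lit 0) (Step.L (Step.L (Step.L (Step.L (Step.L (Step.F (nat_lit 10377) (Step.U (nat_lit 5438) (Step.U (nat_lit 3023) (Step.U (nat_lit 1499) (Step.L (Step.L (Step.L (Step.L (Step.L (Step.L (Step.L (Step.L (Step.L (Step.D (nat_lit 8495) (Step.D (nat_lit 11349) Step.done)))))))))))))))))))) (Scr.cons (nat_lit 4) (nat_lit 0) (Step.F (nat_lit 10378) (Step.L (Step.L (Step.L (Step.L Step.done))))) (Scr.cons (nat_lit 6) (nat_lit 3) (Step.L (Step.L (Step.L (Step.L (Step.L (Step.L (Step.L (Step.L (Step.L (Step.L (Step.D (nat_lit 11807) Step.done))))))))))) (Scr.cons (nat_lit 12) (nat_lit 4) (Step.U (nat_lit 11807) (Step.L (Step.L (Step.D (nat_lit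 11807) (Step.F (nat_lit 10380) Step.done))))) (Scr.cons (nat_lit 11) (nat_lit 0) (Step.U (nat_lit 8463) (Step.U (nat_lit 5394) (Step.L (Step.D (nat_lit 8461) (Step.D (nat_lit 11321) Step.done))))) (Scr.cons (nat_lit 11) (nat_lit 0) (Step.B (nat_lit 3619) (Step.B (nat_lit 3618) (Step.U (nat_lit 10624) (Step.F (nat_lit 8332) (Step.D (nat_lit 10497) Step.done))))) (Scr.cons (nat_lit 1) (nat_lit 1) (Step.U (nat_lit 10497) (Step.B (nat_lit 8351) (Step.D (nat_lit 5511) Step.done))) (Scr.cons (nat_lit 1) (nat_lit 1) (Step.B (nat_lit 10383) (Step.B (nat_lit 10384) (Step.D (nat_lit 8599) Step.done))) (Scr.cons (nat_lit 1) (nat_lit 1) (Step.F (nat_lit 3619) (Step.B (nat_lit 10385) (Step.D (nat_lit 11398) Step.done))) (Scr.cons (nat_lit 1) (nat_lit 1) (Step.D (nat_lit 11398) (Step.F (nat_lit 10386) Step.done)) (Scr.cons (nat_lit 1) (nat_lit 1) (Step.U (nat_lit 5511) (Step.B (nat_lit 8385) (Step.L Step.done))) (Scr.cons (nat_lit 1) (nat_lit 1) (Step.U (nat_lit 8599) (Step.B (nat_lit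 10388) (Step.D (nat_lit 8461) Step.done))) (Scr.cons (nat_lit 1) (nat_lit 1) (Step.F (nat_lit 10387) (Step.B (nat_lit 10389) (Step.D (nat_lit 11321) Step.done))) (Scr.cons (nat_lit 1) (nat_lit 0) (Step.B (nat_lit 10382) (Step.F (nat_lit 10390) Step.done)) (Scr.cons (nat_lit 0) (nat_lit 1) (Step.B (nat_lit 3617) (Step.B (nat_lit 8352) (Step.D (nat_lit 8600) Step.done))) (Scr.cons (nat_lit 0) (nat_lit 1) (Step.D (nat_lit 8600) (Step.F (nat_lit 10392) Step.done)) (Scr.cons (nat_lit 0) (nat_lit 1) (Step.F (nat_lit 10393) (Step.B (nat_lit 8386) (Step.D (nat_lit 8462) Step.done))) (Scr.cons (nat_lit 0) (nat_lit 0) (Step.B (nat_lit 8328) (Step.F (nat_lit 10394) Step.done)) (Scr.cons (nat_lit 1) (nat_lit 1) (Step.D (nat_lit 3490) (Step.B (nat_lit 9857) (Step.D (nat_lit 1957) Step.done))) (Scr.cons (nat_lit 1) (nat_lit 1) (Step.D (nat_lit 1957) (Step.F (nat_lit 10396) Step.done)) (Scr.cons (nat_lit 1) (nat_lit 0) (Step.U (nat_lit 1780) (Step.B (nat_lit 9872) (Step.L Step.done)))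 (Scr.cons (nat_lit 1) (nat_lit 0) (Step.B (nat_lit 10397) (Step.B (nat_lit 10398) (Step.L Step.done))) (Scr.cons (nat_lit 0) (nat_lit 1) (Step.B (nat_lit 9823) (Step.B (nat_lit 10399) (Step.D (nat_lit 570) Step.done))) (Scr.cons (nat_lit 1) (nat_lit 0) (Step.U (nat_lit 1389) (Step.F (nat_lit 10400) (Step.L Step.done))) (Scr.cons (nat_lit 0) (nat_lit 1) (Step.U (nat_lit 2826) (Step.B (nat_lit 10401) (Step.L Step.done))) Scr.nil))))))))))))))))))))))))))))))))))))))))
noncomputable def s260 : Scr := (Scr.cons (nat_lit 1) (nat_lit 1) (Step.B (nat_lit 3563) (Step.B (nat_lit 10402) (Step.L Step.done))) (Scr.cons (nat_lit 1) (nat_lit 1) (Step.U (nat_lit 4637) (Step.B (nat_lit 10403) (Step.L Step.done))) (Scr.cons (nat_lit 0) (nat_lit 1) (Step.B (nat_lit 10395) (Step.B (nat_lit 10404) (Step.L Step.done))) (Scr.cons (nat_lit 1) (nat_lit 0) (Step.U (nat_lit 8463) (Step.B (nat_lit 10405) (Step.L Step.done))) (Scr.cons (nat_lit 1) (nat_lit 0) (Step.F (nat_lit 10391) (Step.B (nat_lit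 10406) (Step.D (nat_lit 9692) Step.done))) (Scr.cons (nat_lit 1) (nat_lit 0) (Step.D (nat_lit 9692) (Step.F (nat_lit 10407) Step.done)) (Scr.cons (nat_lit 1) (nat_lit 1) (Step.D (nat_lit 11321) (Step.F (nat_lit 10390) Step.done)) (Scr.cons (nat_lit 12) (nat_lit 4) (Step.U (nat_lit 6796) (Step.D (nat_lit 6795) (Step.F (nat_lit 3620) (Step.D (nat_lit 6796) (Step.D (nat_lit 9959) Step.done))))) (Scr.cons (nat_lit 0) (nat_lit 1) (Step.B (nat_lit 10410) (Step.B (nat_lit 10385) (Step.D (nat_lit 11397) Step.done))) (Scr.cons (nat_lit 0) (nat_lit 1) (Step.D (nat_lit 11397) (Step.F (nat_lit 10411) Step.done)) (Scr.cons (nat_lit 0) (nat_lit 1) (Step.F (nat_lit 10412) (Step.B (nat_lit 10389) (Step.D (nat_lit 11320) Step.done))) (Scr.cons (nat_lit 0) (nat_lit 1) (Step.D (nat_lit 11320) (Step.F (nat_lit 10413) Step.done)) (Scr.cons (nat_lit 12) (nat_lit 1) (Step.L (Step.L (Step.L (Step.L (Step.D (nat_lit 6797) Step.done))))) (Scr.cons (nat_lit 1) (nat_lit 1) (Step.D (nat_lit 5591)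 (Step.F (nat_lit 7212) Step.done)) (Scr.cons (nat_lit 11) (nat_lit 0) (Step.U (nat_lit 6798) (Step.L (Step.D (nat_lit 3965) (Step.D (nat_lit 6796) (Step.D (nat_lit 9960) Step.done))))) (Scr.cons (nat_lit 14) (nat_lit 2) (Step.U (nat_lit 1863) (Step.D (nat_lit 1862) (Step.D (nat_lit 3620) (Step.D (nat_lit 6320) (Step.D (nat_lit 9486) (Step.F (nat_lit 2961) (Step.F (nat_lit 2906) (Step.U (nat_lit 5864) (Step.F (nat_lit 7219) (Step.U (nat_lit 3154) (Step.D (nat_lit 3153) (Step.B (nat_lit 10416) (Step.B (nat_lit 2429) (Step.D (nat_lit 10497) (Step.F (nat_lit 10383) (Step.F (nat_lit 10410) (Step.D (nat_lit 9960) (Step.F (nat_lit 10417) (Step.U (nat_lit 6798) (Step.B (nat_lit 10415) (Step.D (nat_lit 9961) Step.done))))))))))))))))))))) (Scr.cons (nat_lit 1) (nat_lit 0) (Step.D (nat_lit 9961) (Step.F (nat_lit 10418) (Step.B (nat_lit 1228) Step.done))) (Scr.cons (nat_lit 0) (nat_lit 1) (Step.B (nat_lit 10415) (Step.B (nat_lit 10419) (Step.D (nat_lit 6318) Step.done))) (Scr.cons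 (nat_lit 0) (nat_lit 1) (Step.D (nat_lit 6318) (Step.F (nat_lit 10420) Step.done)) (Scr.cons (nat_lit 12) (nat_lit 1) (Step.U (nat_lit 1861) (Step.F (nat_lit 262) (Step.D (nat_lit 852) (Step.D (nat_lit 1861) (Step.D (nat_lit 3617) Step.done))))) (Scr.cons (nat_lit 12) (nat_lit 1) (Step.U (nat_lit 3618) (Step.D (nat_lit 3617) (Step.F (nat_lit 10422) (Step.D (nat_lit 3618) (Step.D (nat_lit 6315) Step.done))))) (Scr.cons (nat_lit 7) (nat_lit 6) (Step.F (nat_lit 10381) (Step.U (nat_lit 11807) (Step.L (Step.L (Step.L (Step.B (nat_lit 10408) (Step.F (nat_lit 10409) (Step.B (nat_lit 10414) (Step.U (nat_lit 6796) (Step.U (nat_lit 3965) (Step.L (Step.F (nat_lit 10421) (Step.U (nat_lit 3619) (Step.L (Step.B (nat_lit 261) (Step.U (nat_lit 1860) (Step.D (nat_lit 1861) (Step.D (nat_lit 3618) (Step.B (nat_lit 10423) (Step.D (nat_lit 9482) (Step.D (nat_lit 11754) Step.done))))))))))))))))))))) (Scr.cons (nat_lit 1) (nat_lit 0) (Step.D (nat_lit 11754) (Step.F (nat_lit 10424) Step.done))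 (Scr.cons (nat_lit 11) (nat_lit 0) (Step.U (nat_lit 3618) (Step.U (nat_lit 1861) (Step.D (nat_lit 1860) (Step.D (nat_lit 3616) (Step.D (nat_lit 6314) Step.done))))) (Scr.cons (nat_lit 16) (nat_lit 2) (Step.L (Step.L (Step.L (Step.L (Step.L (Step.L (Step.L (Step.L (Step.L (Step.L (Step.L (Step.L (Step.L (Step.L (Step.L (Step.L (Step.L (Step.B (nat_lit 261) (Step.D (nat_lit 3616) (Step.D (nat_lit 6314) (Step.F (nat_lit 10426) (Step.D (nat_lit 6315) (Step.D (nat_lit 9481) Step.done))))))))))))))))))))))) (Scr.cons (nat_lit 14) (nat_lit 0) (Step.U (nat_lit 9482) (Step.D (nat_lit 9481) (Step.F (nat_lit 10427) (Step.L (Step.L (Step.L (Step.L (Step.L (Step.L (Step.L (Step.L (Step.L (Step.L (Step.L (Step.L (Step.L (Step.L (Step.L (Step.D (nat_lit 8356) (Step.D (nat_lit 11261) Step.done)))))))))))))))))))) (Scr.cons (nat_lit 11) (nat_lit 0) (Step.U (nat_lit 8357) (Step.L (Step.L (Step.D (nat_lit 8356) (Step.D (nat_lit 11261) Step.done))))) (Scr.cons (nat_lit 11) (nat_lit 0) (Step.L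 (Step.L (Step.D (nat_lit 1463) (Step.D (nat_lit 2953) (Step.D (nat_lit 5316) Step.done))))) (Scr.cons (nat_lit 12) (nat_lit 1) (Step.F (nat_lit 10430) (Step.L (Step.L (Step.B (nat_lit 10430) (Step.D (nat_lit 8358) Step.done))))) (Scr.cons (nat_lit 14) (nat_lit 2) (Step.F (nat_lit 10431) (Step.F (nat_lit 10430) (Step.L (Step.L (Step.L (Step.L (Step.L (Step.L (Step.L (Step.L (Step.L (Step.L (Step.L (Step.L (Step.L (Step.L (Step.L (Step.L (Step.L (Step.L Step.done)))))))))))))))))))) (Scr.cons (nat_lit 4) (nat_lit 0) (Step.U (nat_lit 11262) (Step.B (nat_lit 10432) (Step.L (Step.D (nat_lit 8495) (Step.D (nat_lit 11350) Step.done))))) (Scr.cons (nat_lit 14) (nat_lit 3) (Step.L (Step.L (Step.L (Step.L (Step.L (Step.L (Step.F (nat_lit 10425) (Step.B (nat_lit 10428) (Step.F (nat_lit 10429) (Step.U (nat_lit 8357) (Step.L (Step.L (Step.L (Step.L (Step.L (Step.D (nat_lit 1463) (Step.D (nat_lit 2953) (Step.D (nat_lit 5316) (Step.B (nat_lit 10431) (Step.D (nat_lit 11262) (Step.B (nat_lit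 10433) Step.done))))))))))))))))))))) (Scr.cons (nat_lit 1) (nat_lit 1) (Step.D (nat_lit 11350) (Step.F (nat_lit 10434) (Step.L Step.done))) (Scr.cons (nat_lit 0) (nat_lit 1) (Step.U (nat_lit 11349) (Step.B (nat_lit 10435) (Step.L Step.done))) (Scr.cons (nat_lit 1) (nat_lit 0) (Step.F (nat_lit 10379) (Step.B (nat_lit 10436) Step.done)) (Scr.cons (nat_lit 1) (nat_lit 0) (Step.B (nat_lit 10433) (Step.F (nat_lit 10434) (Step.D (nat_lit 6818) Step.done))) (Scr.cons (nat_lit 1) (nat_lit 0) (Step.D (nat_lit 11262) (Step.B (nat_lit 10438) (Step.D (nat_lit 9974) Step.done))) (Scr.cons (nat_lit 1) (nat_lit 0) (Step.D (nat_lit 9974) (Step.F (nat_lit 10439) Step.done)) (Scr.cons (nat_lit 12) (nat_lit 1) (Step.U (nat_lit 6818) (Step.L (Step.L (Step.D (nat_lit 6818) (Step.D (nat_lit 9973) Step.done))))) (Scr.cons (nat_lit 12) (nat_lit 1) (Step.L (Step.L (Step.L (Step.L (Step.D (nat_lit 1956) Step.done))))) Scr.nil))))))))))))))))))))))))))))))))))))))))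
noncomputable def s261 : Scr := (Scr.cons (nat_lit 6) (nat_lit 3) (Step.U (nat_lit 1963) (Step.L (Step.L (Step.L (Step.L (Step.L (Step.L (Step.L (Step.L (Step.B (nat_lit 10442) (Step.D (nat_lit 3785) Step.done))))))))))) (Scr.cons (nat_lit 0) (nat_lit 1) (Step.D (nat_lit 6811) (Step.F (nat_lit 3615) Step.done)) (Scr.cons (nat_lit 1) (nat_lit 0) (Step.B (nat_lit 1908) (Step.B (nat_lit 10402) (Step.L Step.done))) (Scr.cons (nat_lit 0) (nat_lit 1) (Step.F (nat_lit 10444) (Step.B (nat_lit 10445) (Step.D (nat_lit 1956) Step.done))) (Scr.cons (nat_lit 1) (nat_lit 1) (Step.U (nat_lit 6063) (Step.B (nat_lit 10446) (Step.D (nat_lit 3785) Step.done))) (Scr.cons (nat_lit 1) (nat_lit 1) (Step.U (nat_lit 9214) (Step.B (nat_lit 10447) (Step.D (nat_lit 6547) Step.done))) (Scr.cons (nat_lit 1) (nat_lit 1) (Step.B (nat_lit 2947) (Step.B (nat_lit 10448) (Step.D (nat_lit 9693) Step.done))) (Scr.cons (nat_lit 1) (nat_lit 1) (Step.D (nat_lit 9693) (Step.F (nat_lit 10449) Step.done)) (Scr.cons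 (nat_lit 14) (nat_lit 4) (Step.U (nat_lit 3793) (Step.U (nat_lit 1964) (Step.D (nat_lit 1963) (Step.B (nat_lit 10443) (Step.D (nat_lit 6547) (Step.B (nat_lit 10450) (Step.B (nat_lit 2949) (Step.F (nat_lit 2919) (Step.U (nat_lit 5344) (Step.U (nat_lit 2965) (Step.L (Step.L (Step.L (Step.L (Step.L (Step.L (Step.L (Step.L (Step.F (nat_lit 10432) (Step.F (nat_lit 10440) (Step.D (nat_lit 9973) Step.done))))))))))))))))))))) (Scr.cons (nat_lit 0) (nat_lit 1) (Step.B (nat_lit 10441) (Step.F (nat_lit 10451) (Step.D (nat_lit 6559) Step.done))) (Scr.cons (nat_lit 1) (nat_lit 0) (Step.F (nat_lit 10440) (Step.B (nat_lit 10452) (Step.D (nat_lit 9712) Step.done))) (Scr.cons (nat_lit 1) (nat_lit 0) (Step.D (nat_lit 9712) (Step.F (nat_lit 10453) Step.done)) (Scr.cons (nat_lit 1) (nat_lit 1) (Step.D (nat_lit 6818) (Step.B (nat_lit 10452) (Step.D (nat_lit 9711) Step.done))) (Scr.cons (nat_lit 1) (nat_lit 1) (Step.D (nat_lit 9711) (Step.F (nat_lit 10455) Step.done)) (Scr.cons (nat_lit 14)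 (nat_lit 1) (Step.L (Step.L (Step.L (Step.L (Step.L (Step.L (Step.L (Step.L (Step.L (Step.F (nat_lit 10432) (Step.F (nat_lit 10454) (Step.B (nat_lit 10456) (Step.L (Step.L (Step.L (Step.L (Step.L (Step.L (Step.L (Step.L Step.done)))))))))))))))))))) (Scr.cons (nat_lit 11) (nat_lit 0) (Step.U (nat_lit 1933) (Step.L (Step.D (nat_lit 892) (Step.D (nat_lit 1931) (Step.D (nat_lit 3744) Step.done))))) (Scr.cons (nat_lit 12) (nat_lit 1) (Step.L (Step.L (Step.L (Step.L (Step.D (nat_lit 1932) Step.done))))) (Scr.cons (nat_lit 12) (nat_lit 1) (Step.U (nat_lit 1933) (Step.D (nat_lit 1932) (Step.F (nat_lit 10459) (Step.D (nat_lit 1933) (Step.D (nat_lit 3745) Step.done))))) (Scr.cons (nat_lit 12) (nat_lit 1) (Step.F (nat_lit 10458) (Step.D (nat_lit 3745) (Step.F (nat_lit 10460) (Step.B (nat_lit 10458) (Step.D (nat_lit 6489) Step.done))))) (Scr.cons (nat_lit 11) (nat_lit 0) (Step.L (Step.L (Step.L (Step.L (Step.D (nat_lit 9717) Step.done))))) (Scr.cons (nat_lit 11) (nat_lit 0) (Step.U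 (nat_lit 358) (Step.U (nat_lit 116) (Step.L (Step.L (Step.D (nat_lit 950) Step.done))))) (Scr.cons (nat_lit 12) (nat_lit 1) (Step.U (nat_lit 116) (Step.L (Step.L (Step.D (nat_lit 116) (Step.D (nat_lit 357) Step.done))))) (Scr.cons (nat_lit 12) (nat_lit 1) (Step.U (nat_lit 358) (Step.D (nat_lit 357) (Step.F (nat_lit 10464) (Step.D (nat_lit 358) (Step.D (nat_lit 951) Step.done))))) (Scr.cons (nat_lit 12) (nat_lit 1) (Step.F (nat_lit 10463) (Step.D (nat_lit 951) (Step.F (nat_lit 10465) (Step.B (nat_lit 10463) (Step.D (nat_lit 2049) Step.done))))) (Scr.cons (nat_lit 12) (nat_lit 1) (Step.L (Step.L (Step.L (Step.L (Step.D (nat_lit 3919) Step.done))))) (Scr.cons (nat_lit 7) (nat_lit 5) (Step.F (nat_lit 10467) (Step.L (Step.L (Step.L (Step.L (Step.L (Step.L (Step.L (Step.L (Step.L (Step.L (Step.L (Step.L (Step.L (Step.L (Step.D (nat_lit 116) (Step.D (nat_lit 358) (Step.B (nat_lit 10463) (Step.B (nat_lit 10466) (Step.D (nat_lit 3936) Step.done)))))))))))))))))))) (Scr.cons (nat_lit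 12) (nat_lit 1) (Step.U (nat_lit 6726) (Step.F (nat_lit 10467) (Step.D (nat_lit 3919) (Step.D (nat_lit 6726) (Step.D (nat_lit 9892) Step.done))))) (Scr.cons (nat_lit 11) (nat_lit 0) (Step.L (Step.L (Step.L (Step.D (nat_lit 6556) (Step.D (nat_lit 9706) Step.done))))) (Scr.cons (nat_lit 12) (nat_lit 1) (Step.L (Step.L (Step.L (Step.L (Step.D (nat_lit 9707) Step.done))))) (Scr.cons (nat_lit 12) (nat_lit 1) (Step.F (nat_lit 10470) (Step.D (nat_lit 9707) (Step.F (nat_lit 10471) (Step.B (nat_lit 10470) (Step.D (nat_lit 11814) Step.done))))) (Scr.cons (nat_lit 12) (nat_lit 1) (Step.L (Step.L (Step.L (Step.L (Step.D (nat_lit 9721) Step.done))))) (Scr.cons (nat_lit 7) (nat_lit 5) (Step.F (nat_lit 10472) (Step.U (nat_lit 9706) (Step.U (nat_lit 6556) (Step.L (Step.L (Step.L (Step.L (Step.L (Step.L (Step.L (Step.L (Step.L (Step.L (Step.L (Step.L (Step.L (Step.L (Step.L (Step.B (nat_lit 10473) (Step.D (nat_lit 11828) Step.done)))))))))))))))))))) (Scr.cons (nat_lit 12) (nat_lit 4)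 (Step.U (nat_lit 6556) (Step.L (Step.L (Step.D (nat_lit 6556) (Step.D (nat_lit 9705) Step.done))))) (Scr.cons (nat_lit 14) (nat_lit 5) (Step.U (nat_lit 5421) (Step.U (nat_lit 3012) (Step.U (nat_lit 1491) (Step.L (Step.L (Step.L (Step.L (Step.F (nat_lit 10432) (Step.F (nat_lit 10454) (Step.U (nat_lit 6559) (Step.U (nat_lit 3793) (Step.U (nat_lit 1964) (Step.L (Step.L (Step.L (Step.L (Step.L (Step.L (Step.D (nat_lit 6556) (Step.D (nat_lit 9705) (Step.D (nat_lit 11813) Step.done))))))))))))))))))))) (Scr.cons (nat_lit 11) (nat_lit 0) (Step.U (nat_lit 5421) (Step.U (nat_lit 3012) (Step.D (nat_lit 3011) (Step.D (nat_lit 5420) (Step.D (nat_lit 8494) Step.done))))) (Scr.cons (nat_lit 1) (nat_lit 0) (Step.D (nat_lit 11813) (Step.F (nat_lit 10476) (Step.B (nat_lit 10477) Step.done))) (Scr.cons (nat_lit 0) (nat_lit 1) (Step.B (nat_lit 10475) (Step.B (nat_lit 10478) (Step.D (nat_lit 11348) Step.done))) (Scr.cons (nat_lit 0) (nat_lit 1) (Step.D (nat_lit 11348) (Step.F (nat_lit 10479)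 Step.done)) (Scr.cons (nat_lit 9) (nat_lit 0) (Step.U (nat_lit 11827) (Step.D (nat_lit 11828) (Step.F (nat_lit 10474) (Step.U (nat_lit 11814) (Step.U (nat_lit 9706) (Step.F (nat_lit 10480) (Step.U (nat_lit 8494) (Step.U (nat_lit 5420) (Step.U (nat_lit 3011) (Step.U (nat_lit 1491) (Step.L (Step.L (Step.L (Step.L (Step.L (Step.L (Step.L (Step.L (Step.L (Step.L (Step.L (Step.B (nat_lit 10467) (Step.D (nat_lit 6726) (Step.B (nat_lit 10469) Step.done)))))))))))))))))))))))) (Scr.cons (nat_lit 1) (nat_lit 1) (Step.D (nat_lit 11827) (Step.B (nat_lit 10481) Step.done)) Scr.nil))))))))))))))))))))))))))))))))))))))))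
noncomputable def s262 : Scr := (Scr.cons (nat_lit 12) (nat_lit 1) (Step.F (nat_lit 10462) (Step.L (Step.L (Step.B (nat_lit 10462) (Step.D (nat_lit 11819) Step.done))))) (Scr.cons (nat_lit 9) (nat_lit 4) (Step.U (nat_lit 9920) (Step.U (nat_lit 6753) (Step.U (nat_lit 3938) (Step.U (nat_lit 2050) (Step.U (nat_lit 951) (Step.B (nat_lit 10463) (Step.B (nat_lit 10466) (Step.D (nat_lit 3936) (Step.F (nat_lit 10468) (Step.D (nat_lit 6726) (Step.B (nat_lit 10469) (Step.F (nat_lit 10482) (Step.U (nat_lit 9721) (Step.L (Step.L (Step.L (Step.L (Step.L (Step.L (Step.L (Step.L (Step.B (nat_lit 10462) (Step.B (nat_lit 10483) Step.done))))))))))))))))))))))) (Scr.cons (nat_lit 11) (nat_lit 0) (Step.U (nat_lit 3940) (Step.U (nat_lit 2051) (Step.D (nat_lit 2050) (Step.D (nat_lit 3938) (Step.D (nat_lit 6753) Step.done))))) (Scr.cons (nat_lit 12) (nat_lit 1) (Step.U (nat_lit 2051) (Step.F (nat_lit 10465) (Step.D (nat_lit 951) (Step.D (nat_lit 2051) (Step.D (nat_lit 3939) Step.done)))))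 (Scr.cons (nat_lit 12) (nat_lit 1) (Step.U (nat_lit 3940) (Step.D (nat_lit 3939) (Step.F (nat_lit 10486) (Step.D (nat_lit 3940) (Step.D (nat_lit 6755) Step.done))))) (Scr.cons (nat_lit 12) (nat_lit 1) (Step.F (nat_lit 10485) (Step.D (nat_lit 6755) (Step.F (nat_lit 10487) (Step.B (nat_lit 10485) (Step.D (nat_lit 9920) Step.done))))) (Scr.cons (nat_lit 11) (nat_lit 0) (Step.L (Step.L (Step.L (Step.D (nat_lit 2038) (Step.D (nat_lit 3923) Step.done))))) (Scr.cons (nat_lit 12) (nat_lit 1) (Step.F (nat_lit 10489) (Step.L (Step.L (Step.B (nat_lit 10489) (Step.D (nat_lit 6737) Step.done))))) (Scr.cons (nat_lit 14) (nat_lit 2) (Step.F (nat_lit 10488) (Step.F (nat_lit 10485) (Step.U (nat_lit 3940) (Step.U (nat_lit 2051) (Step.U (nat_lit 951) (Step.U (nat_lit 358) (Step.U (nat_lit 116) (Step.L (Step.L (Step.L (Step.L (Step.L (Step.L (Step.L (Step.L (Step.L (Step.D (nat_lit 2038) (Step.D (nat_lit 3923) (Step.B (nat_lit 10490) (Step.D (nat_lit 9905) Step.done)))))))))))))))))))) (Scr.cons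 (nat_lit 11) (nat_lit 0) (Step.U (nat_lit 6736) (Step.U (nat_lit 3922) (Step.D (nat_lit 3921) (Step.D (nat_lit 6734) (Step.D (nat_lit 9903) Step.done))))) (Scr.cons (nat_lit 7) (nat_lit 3) (Step.U (nat_lit 3760) (Step.L (Step.L (Step.L (Step.L (Step.L (Step.L (Step.L (Step.L (Step.B (nat_lit 10462) (Step.D (nat_lit 11819) (Step.F (nat_lit 10484) (Step.B (nat_lit 10491) (Step.U (nat_lit 9905) (Step.U (nat_lit 6737) (Step.U (nat_lit 3923) (Step.U (nat_lit 2038) (Step.D (nat_lit 2037) (Step.D (nat_lit 3922) (Step.D (nat_lit 6736) (Step.B (nat_lit 10492) Step.done))))))))))))))))))))) (Scr.cons (nat_lit 1) (nat_lit 0) (Step.D (nat_lit 9903) (Step.F (nat_lit 10493) (Step.D (nat_lit 6509) Step.done))) (Scr.cons (nat_lit 12) (nat_lit 1) (Step.L (Step.L (Step.L (Step.L (Step.D (nat_lit 3760) Step.done))))) (Scr.cons (nat_lit 7) (nat_lit 5) (Step.F (nat_lit 10461) (Step.U (nat_lit 3744) (Step.U (nat_lit 1931) (Step.U (nat_lit 892) (Step.L (Step.L (Step.L (Step.L (Step.L (Step.L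 (Step.L (Step.L (Step.L (Step.L (Step.L (Step.L (Step.L (Step.L (Step.B (nat_lit 10495) (Step.D (nat_lit 6509) Step.done)))))))))))))))))))) (Scr.cons (nat_lit 1) (nat_lit 0) (Step.D (nat_lit 6734) (Step.B (nat_lit 10494) (Step.F (nat_lit 10496) Step.done))) (Scr.cons (nat_lit 0) (nat_lit 1) (Step.B (nat_lit 10461) (Step.F (nat_lit 10497) (Step.D (nat_lit 6733) Step.done))) (Scr.cons (nat_lit 0) (nat_lit 1) (Step.D (nat_lit 6733) (Step.F (nat_lit 10498) Step.done)) (Scr.cons (nat_lit 9) (nat_lit 2) (Step.L (Step.L (Step.L (Step.L (Step.L (Step.L (Step.L (Step.L (Step.L (Step.L (Step.L (Step.D (nat_lit 1933) (Step.B (nat_lit 10458) (Step.F (nat_lit 10499) (Step.U (nat_lit 3921) (Step.U (nat_lit 2037) (Step.L (Step.L (Step.L (Step.L (Step.L (Step.L (Step.L (Step.D (nat_lit 11806) Step.done)))))))))))))))))))))))) (Scr.cons (nat_lit 1) (nat_lit 0) (Step.D (nat_lit 11806) (Step.F (nat_lit 10500) Step.done)) (Scr.cons (nat_lit 11) (nat_lit 0) (Step.L (Step.L (Step.D (nat_lit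 3659) (Step.D (nat_lit 6370) (Step.D (nat_lit 9521) Step.done))))) (Scr.cons (nat_lit 12) (nat_lit 1) (Step.F (nat_lit 10502) (Step.L (Step.L (Step.B (nat_lit 10502) (Step.D (nat_lit 11768) Step.done))))) (Scr.cons (nat_lit 13) (nat_lit 3) (Step.U (nat_lit 6832) (Step.L (Step.L (Step.L (Step.L (Step.L (Step.L (Step.L (Step.L (Step.D (nat_lit 6831) (Step.D (nat_lit 9983) Step.done))))))))))) (Scr.cons (nat_lit 12) (nat_lit 4) (Step.U (nat_lit 823) (Step.L (Step.L (Step.D (nat_lit 823) (Step.D (nat_lit 1822) Step.done))))) (Scr.cons (nat_lit 12) (nat_lit 4) (Step.U (nat_lit 1823) (Step.D (nat_lit 1822) (Step.F (nat_lit 10505) (Step.D (nat_lit 1823) (Step.D (nat_lit 3563) Step.done))))) (Scr.cons (nat_lit 12) (nat_lit 1) (Step.U (nat_lit 6248) (Step.F (nat_lit 10506) (Step.D (nat_lit 3563) (Step.D (nat_lit 6248) (Step.D (nat_lit 9424) Step.done))))) (Scr.cons (nat_lit 4) (nat_lit 0) (Step.U (nat_lit 1823) (Step.U (nat_lit 823) (Step.L (Step.D (nat_lit 1819) (Step.D (nat_lit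 3553) Step.done))))) (Scr.cons (nat_lit 16) (nat_lit 5) (Step.F (nat_lit 10507) (Step.U (nat_lit 6248) (Step.F (nat_lit 10506) (Step.B (nat_lit 10508) (Step.U (nat_lit 3553) (Step.U (nat_lit 1819) (Step.L (Step.L (Step.L (Step.L (Step.L (Step.L (Step.L (Step.L (Step.L (Step.L (Step.L (Step.L (Step.L (Step.L (Step.L (Step.D (nat_lit 6830) (Step.D (nat_lit 9982) Step.done))))))))))))))))))))))) (Scr.cons (nat_lit 4) (nat_lit 0) (Step.B (nat_lit 10509) (Step.U (nat_lit 9982) (Step.U (nat_lit 6830) (Step.D (nat_lit 6831) (Step.D (nat_lit 9984) Step.done))))) (Scr.cons (nat_lit 11) (nat_lit 0) (Step.U (nat_lit 9425) (Step.U (nat_lit 6248) (Step.D (nat_lit 6247) (Step.D (nat_lit 9423) (Step.D (nat_lit 11741) Step.done))))) (Scr.cons (nat_lit 12) (nat_lit 4) (Step.U (nat_lit 6247) (Step.F (nat_lit 10506) (Step.D (nat_lit 3563) (Step.D (nat_lit 6247) (Step.D (nat_lit 9422) Step.done))))) (Scr.cons (nat_lit 12) (nat_lit 4) (Step.U (nat_lit 9423) (Step.D (nat_lit 9422) (Step.F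 (nat_lit 10512) (Step.D (nat_lit 9423) (Step.D (nat_lit 11740) Step.done))))) (Scr.cons (nat_lit 12) (nat_lit 4) (Step.U (nat_lit 4644) (Step.F (nat_lit 360) (Step.D (nat_lit 2512) (Step.D (nat_lit 4644) (Step.D (nat_lit 7604) Step.done))))) (Scr.cons (nat_lit 6) (nat_lit 1) (Step.U (nat_lit 7607) (Step.L (Step.L (Step.L (Step.L (Step.L (Step.L (Step.B (nat_lit 360) (Step.D (nat_lit 4644) (Step.D (nat_lit 7604) (Step.D (nat_lit 10631) Step.done))))))))))) (Scr.cons (nat_lit 11) (nat_lit 0) (Step.L (Step.L (Step.L (Step.L (Step.D (nat_lit 6271) Step.done))))) (Scr.cons (nat_lit 12) (nat_lit 1) (Step.L (Step.L (Step.L (Step.L (Step.D (nat_lit 6272) Step.done))))) (Scr.cons (nat_lit 12) (nat_lit 1) (Step.F (nat_lit 10516) (Step.D (nat_lit 6272) (Step.F (nat_lit 10517) (Step.B (nat_lit 10516) (Step.D (nat_lit 9448) Step.done))))) (Scr.cons (nat_lit 12) (nat_lit 0) (Step.B (nat_lit 3265) (Step.U (nat_lit 9779) (Step.F (nat_lit 3264) (Step.D (nat_lit 6622) (Step.D (nat_lit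 9779) Step.done))))) (Scr.cons (nat_lit 16) (nat_lit 4) (Step.F (nat_lit 5439) (Step.F (nat_lit 5438) (Step.U (nat_lit 7152) (Step.F (nat_lit 3672) (Step.U (nat_lit 2259) (Step.B (nat_lit 152) (Step.U (nat_lit 881) (Step.L (Step.L (Step.L (Step.L (Step.L (Step.L (Step.L (Step.L (Step.L (Step.L (Step.L (Step.L (Step.D (nat_lit 1995) (Step.D (nat_lit 3842) (Step.D (nat_lit 6622) (Step.D (nat_lit 9778) Step.done))))))))))))))))))))))) (Scr.cons (nat_lit 12) (nat_lit 4) (Step.U (nat_lit 6133) (Step.F (nat_lit 5434) (Step.D (nat_lit 3505) (Step.D (nat_lit 6133) (Step.D (nat_lit 9297) Step.done))))) (Scr.cons (nat_lit 4) (nat_lit 0) (Step.L (Step.L (Step.L (Step.B (nat_lit 3673) (Step.D (nat_lit 7152) Step.done))))) Scr.nil))))))))))))))))))))))))))))))))))))))))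
noncomputable def s263 : Scr := (Scr.cons (nat_lit 12) (nat_lit 1) (Step.U (nat_lit 4281) (Step.D (nat_lit 4280) (Step.F (nat_lit 2228) (Step.D (nat_lit 4281) (Step.D (nat_lit 7178) Step.done))))) (Scr.cons (nat_lit 6) (nat_lit 3) (Step.U (nat_lit 9298) (Step.B (nat_lit 10521) (Step.F (nat_lit 5439) (Step.F (nat_lit 5438) (Step.F (nat_lit 10522) (Step.B (nat_lit 3650) (Step.U (nat_lit 7177) (Step.F (nat_lit 2228) (Step.D (nat_lit 4281) (Step.B (nat_lit 10523) (Step.D (nat_lit 10271) Step.done))))))))))) (Scr.cons (nat_lit 0) (nat_lit 1) (Step.U (nat_lit 7178) (Step.B (nat_lit 3651) (Step.L Step.done))) (Scr.cons (nat_lit 1) (nat_lit 1) (Step.U (nat_lit 10271) (Step.B (nat_lit 10525) (Step.L Step.done))) (Scr.cons (nat_lit 0) (nat_lit 1) (Step.B (nat_lit 10524) (Step.B (nat_lit 10526) (Step.L Step.done))) (Scr.cons (nat_lit 1) (nat_lit 0) (Step.D (nat_lit 9298) (Step.B (nat_lit 10527) (Step.L Step.done))) (Scr.cons (nat_lit 0) (nat_lit 1) (Step.U (nat_lit 9297) (Step.B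 (nat_lit 10528) (Step.L Step.done))) (Scr.cons (nat_lit 1) (nat_lit 0) (Step.F (nat_lit 10520) (Step.B (nat_lit 10529) (Step.L Step.done))) (Scr.cons (nat_lit 1) (nat_lit 0) (Step.D (nat_lit 9778) (Step.B (nat_lit 10530) (Step.L Step.done))) (Scr.cons (nat_lit 1) (nat_lit 0) (Step.U (nat_lit 9779) (Step.B (nat_lit 10531) (Step.B (nat_lit 10516) Step.done))) (Scr.cons (nat_lit 0) (nat_lit 1) (Step.B (nat_lit 10519) (Step.B (nat_lit 10532) (Step.D (nat_lit 9448) Step.done))) (Scr.cons (nat_lit 0) (nat_lit 0) (Step.B (nat_lit 10518) (Step.F (nat_lit 10533) Step.done)) (Scr.cons (nat_lit 12) (nat_lit 0) (Step.B (nat_lit 3251) (Step.U (nat_lit 5139) (Step.L (Step.L (Step.D (nat_lit 5139) Step.done))))) (Scr.cons (nat_lit 12) (nat_lit 4) (Step.U (nat_lit 5141) (Step.B (nat_lit 3251) (Step.F (nat_lit 10535) (Step.D (nat_lit 5141) (Step.D (nat_lit 8159) Step.done))))) (Scr.cons (nat_lit 11) (nat_lit 0) (Step.U (nat_lit 4224) (Step.L (Step.D (nat_lit 2241) (Step.D (nat_lit 4223)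 (Step.D (nat_lit 7105) Step.done))))) (Scr.cons (nat_lit 12) (nat_lit 1) (Step.U (nat_lit 4224) (Step.L (Step.L (Step.D (nat_lit 4224) (Step.D (nat_lit 7106) Step.done))))) (Scr.cons (nat_lit 12) (nat_lit 1) (Step.F (nat_lit 10537) (Step.D (nat_lit 7106) (Step.F (nat_lit 10538) (Step.B (nat_lit 10537) (Step.D (nat_lit 10213) Step.done))))) (Scr.cons (nat_lit 16) (nat_lit 3) (Step.U (nat_lit 9546) (Step.U (nat_lit 6401) (Step.L (Step.L (Step.L (Step.L (Step.L (Step.L (Step.L (Step.L (Step.L (Step.L (Step.L (Step.L (Step.L (Step.L (Step.L (Step.L (Step.L (Step.D (nat_lit 3639) (Step.D (nat_lit 6345) (Step.D (nat_lit 9500) (Step.D (nat_lit 11762) Step.done))))))))))))))))))))))) (Scr.cons (nat_lit 11) (nat_lit 0) (Step.F (nat_lit 10540) (Step.U (nat_lit 9546) (Step.U (nat_lit 6401) (Step.L (Step.D (nat_lit 9545) Step.done))))) (Scr.cons (nat_lit 16) (nat_lit 1) (Step.F (nat_lit 10539) (Step.F (nat_lit 10537) (Step.U (nat_lit 4224) (Step.L (Step.L (Step.L (Step.L (Step.L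 (Step.L (Step.L (Step.L (Step.L (Step.L (Step.L (Step.L (Step.L (Step.L (Step.L (Step.L (Step.D (nat_lit 9545) (Step.F (nat_lit 10541) (Step.F (nat_lit 10540) (Step.D (nat_lit 11774) Step.done))))))))))))))))))))))) (Scr.cons (nat_lit 12) (nat_lit 4) (Step.L (Step.L (Step.L (Step.L (Step.D (nat_lit 1871) Step.done))))) (Scr.cons (nat_lit 12) (nat_lit 4) (Step.L (Step.D (nat_lit 1871) (Step.F (nat_lit 10543) (Step.L (Step.D (nat_lit 3638) Step.done))))) (Scr.cons (nat_lit 12) (nat_lit 1) (Step.U (nat_lit 6344) (Step.F (nat_lit 10544) (Step.D (nat_lit 3638) (Step.D (nat_lit 6344) (Step.D (nat_lit 9499) Step.done))))) (Scr.cons (nat_lit 8) (nat_lit 1) (Step.U (nat_lit 10214) (Step.U (nat_lit 7106) (Step.B (nat_lit 10537) (Step.B (nat_lit 10539) (Step.B (nat_lit 10542) (Step.U (nat_lit 11774) (Step.B (nat_lit 10540) (Step.U (nat_lit 11762) (Step.U (nat_lit 9500) (Step.U (nat_lit 6345) (Step.U (nat_lit 3639) (Step.B (nat_lit 10544) (Step.D (nat_lit 6344) (Step.B (nat_lit 10545)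 (Step.D (nat_lit 11761) Step.done))))))))))))))) (Scr.cons (nat_lit 5) (nat_lit 1) (Step.F (nat_lit 10546) (Step.U (nat_lit 10214) (Step.U (nat_lit 7106) (Step.B (nat_lit 10538) (Step.D (nat_lit 10214) Step.done))))) (Scr.cons (nat_lit 0) (nat_lit 1) (Step.B (nat_lit 3264) (Step.B (nat_lit 10531) (Step.D (nat_lit 6272) Step.done))) (Scr.cons (nat_lit 0) (nat_lit 0) (Step.B (nat_lit 10517) (Step.F (nat_lit 10548) Step.done)) (Scr.cons (nat_lit 12) (nat_lit 4) (Step.U (nat_lit 3636) (Step.F (nat_lit 10543) (Step.D (nat_lit 1871) (Step.D (nat_lit 3636) (Step.D (nat_lit 6341) Step.done))))) (Scr.cons (nat_lit 12) (nat_lit 1) (Step.U (nat_lit 2082) (Step.L (Step.L (Step.D (nat_lit 2082) (Step.D (nat_lit 3988) Step.done))))) (Scr.cons (nat_lit 15) (nat_lit 1) (Step.F (nat_lit 10551) (Step.U (nat_lit 2082) (Step.L (Step.L (Step.L (Step.L (Step.L (Step.L (Step.L (Step.L (Step.L (Step.L (Step.D (nat_lit 1871) (Step.D (nat_lit 3636) (Step.D (nat_lit 6341) Step.done)))))))))))))))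 (Scr.cons (nat_lit 12) (nat_lit 1) (Step.U (nat_lit 6693) (Step.L (Step.L (Step.D (nat_lit 6693) (Step.D (nat_lit 9853) Step.done))))) (Scr.cons (nat_lit 12) (nat_lit 1) (Step.L (Step.L (Step.L (Step.L (Step.D (nat_lit 3909) Step.done))))) (Scr.cons (nat_lit 12) (nat_lit 4) (Step.U (nat_lit 6710) (Step.F (nat_lit 10554) (Step.D (nat_lit 3909) (Step.D (nat_lit 6710) (Step.D (nat_lit 9871) Step.done))))) (Scr.cons (nat_lit 12) (nat_lit 4) (Step.L (Step.L (Step.L (Step.L (Step.D (nat_lit 9473) Step.done))))) (Scr.cons (nat_lit 12) (nat_lit 4) (Step.U (nat_lit 9474) (Step.D (nat_lit 9473) (Step.F (nat_lit 10556) (Step.D (nat_lit 9474) (Step.F (nat_lit 3121) Step.done))))) (Scr.cons (nat_lit 13) (nat_lit 1) (Step.B (nat_lit 3120) (Step.F (nat_lit 10557) (Step.F (nat_lit 3243) (Step.L (Step.L (Step.L (Step.L (Step.L (Step.L (Step.D (nat_lit 3909) (Step.D (nat_lit 6710) (Step.B (nat_lit 10555) Step.done)))))))))))) (Scr.cons (nat_lit 0) (nat_lit 1) (Step.B (nat_lit 10555) (Step.F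 (nat_lit 10558) (Step.D (nat_lit 9853) Step.done))) (Scr.cons (nat_lit 0) (nat_lit 0) (Step.B (nat_lit 10553) (Step.F (nat_lit 10559) Step.done)) (Scr.cons (nat_lit 12) (nat_lit 4) (Step.U (nat_lit 6885) (Step.F (nat_lit 8931) (Step.D (nat_lit 4037) (Step.D (nat_lit 6885) (Step.D (nat_lit 10023) Step.done))))) (Scr.cons (nat_lit 1) (nat_lit 0) (Step.F (nat_lit 8936) (Step.B (nat_lit 10136) (Step.L Step.done))) Scr.nil))))))))))))))))))))))))))))))))))))))))
noncomputable def s264 : Scr := (Scr.cons (nat_lit 0) (nat_lit 1) (Step.B (nat_lit 10561) (Step.B (nat_lit 10562) (Step.L Step.done))) (Scr.cons (nat_lit 1) (nat_lit 0) (Step.D (nat_lit 6885) (Step.B (nat_lit 10563) (Step.L Step.done))) (Scr.cons (nat_lit 0) (nat_lit 1) (Step.B (nat_lit 8931) (Step.B (nat_lit 10564) (Step.D (nat_lit 3909) Step.done))) (Scr.cons (nat_lit 1) (nat_lit 1) (Step.U (nat_lit 6710) (Step.F (nat_lit 10565) (Step.L Step.done))) (Scr.cons (nat_lit 0) (nat_lit 1) (Step.B (nat_lit 10560) (Step.B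 (nat_lit 10566) (Step.L Step.done))) (Scr.cons (nat_lit 11) (nat_lit 0) (Step.U (nat_lit 3989) (Step.U (nat_lit 2082) (Step.L (Step.L (Step.D (nat_lit 6840) Step.done))))) (Scr.cons (nat_lit 14) (nat_lit 5) (Step.U (nat_lit 6790) (Step.L (Step.L (Step.L (Step.L (Step.L (Step.L (Step.L (Step.L (Step.L (Step.L (Step.L (Step.L (Step.L (Step.L (Step.L (Step.L (Step.D (nat_lit 2070) (Step.D (nat_lit 3973) (Step.D (nat_lit 6810) Step.done)))))))))))))))))))) (Scr.cons (nat_lit 4) (nat_lit 0) (Step.U (nat_lit 2070) (Step.L (Step.D (nat_lit 963) (Step.F (nat_lit 2063) (Step.D (nat_lit 2106) Step.done))))) (Scr.cons (nat_lit 1) (nat_lit 0) (Step.B (nat_lit 10570) (Step.B (nat_lit 5453) (Step.L Step.done))) (Scr.cons (nat_lit 0) (nat_lit 1) (Step.U (nat_lit 3973) (Step.B (nat_lit 10571) (Step.L Step.done))) (Scr.cons (nat_lit 1) (nat_lit 1) (Step.U (nat_lit 6810) (Step.B (nat_lit 10572) (Step.L Step.done))) (Scr.cons (nat_lit 1) (nat_lit 1) (Step.B (nat_lit 10569) (Step.B (nat_lit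 10573) (Step.L Step.done))) (Scr.cons (nat_lit 1) (nat_lit 1) (Step.D (nat_lit 6790) (Step.B (nat_lit 10574) (Step.D (nat_lit 6840) Step.done))) (Scr.cons (nat_lit 1) (nat_lit 0) (Step.B (nat_lit 10568) (Step.F (nat_lit 10575) Step.done)) (Scr.cons (nat_lit 1) (nat_lit 1) (Step.D (nat_lit 6693) (Step.B (nat_lit 10567) (Step.F (nat_lit 10576) Step.done))) (Scr.cons (nat_lit 1) (nat_lit 1) (Step.D (nat_lit 3989) (Step.F (nat_lit 10577) (Step.L Step.done))) (Scr.cons (nat_lit 0) (nat_lit 1) (Step.U (nat_lit 3988) (Step.B (nat_lit 10578) (Step.L Step.done))) (Scr.cons (nat_lit 1) (nat_lit 0) (Step.F (nat_lit 10552) (Step.B (nat_lit 10579) (Step.L Step.done))) (Scr.cons (nat_lit 0) (nat_lit 1) (Step.B (nat_lit 10550) (Step.B (nat_lit 10580) (Step.L Step.done))) (Scr.cons (nat_lit 1) (nat_lit 0) (Step.D (nat_lit 3636) (Step.B (nat_lit 10581) (Step.L Step.done))) (Scr.cons (nat_lit 0) (nat_lit 1) (Step.B (nat_lit 10543) (Step.B (nat_lit 10582) (Step.D (nat_lit 1995) Step.done)))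 (Scr.cons (nat_lit 1) (nat_lit 1) (Step.U (nat_lit 3842) (Step.F (nat_lit 10583) (Step.L Step.done))) (Scr.cons (nat_lit 0) (nat_lit 1) (Step.B (nat_lit 10549) (Step.B (nat_lit 10584) (Step.D (nat_lit 3638) Step.done))) (Scr.cons (nat_lit 1) (nat_lit 0) (Step.U (nat_lit 6344) (Step.F (nat_lit 10585) (Step.B (nat_lit 10516) Step.done))) (Scr.cons (nat_lit 0) (nat_lit 1) (Step.D (nat_lit 9448) (Step.F (nat_lit 10533) Step.done)) (Scr.cons (nat_lit 0) (nat_lit 1) (Step.U (nat_lit 9499) (Step.B (nat_lit 10586) (Step.B (nat_lit 10587) Step.done))) (Scr.cons (nat_lit 1) (nat_lit 0) (Step.U (nat_lit 11761) (Step.B (nat_lit 10588) (Step.U (nat_lit 8160) Step.done))) (Scr.cons (nat_lit 0) (nat_lit 1) (Step.F (nat_lit 10547) (Step.B (nat_lit 10589) (Step.D (nat_lit 8159) Step.done))) (Scr.cons (nat_lit 1) (nat_lit 0) (Step.D (nat_lit 10214) (Step.B (nat_lit 10590) (Step.D (nat_lit 11129) Step.done))) (Scr.cons (nat_lit 11) (nat_lit 0) (Step.U (nat_lit 2806) (Step.L (Step.L (Step.L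 (Step.D (nat_lit 4643) Step.done))))) (Scr.cons (nat_lit 12) (nat_lit 1) (Step.U (nat_lit 2806) (Step.L (Step.L (Step.D (nat_lit 2806) (Step.D (nat_lit 5089) Step.done))))) (Scr.cons (nat_lit 11) (nat_lit 0) (Step.U (nat_lit 4629) (Step.B (nat_lit 6055) (Step.U (nat_lit 4582) (Step.D (nat_lit 4581) (Step.D (nat_lit 7537) Step.done))))) (Scr.cons (nat_lit 14) (nat_lit 6) (Step.U (nat_lit 10583) (Step.F (nat_lit 10594) (Step.U (nat_lit 4629) (Step.L (Step.L (Step.L (Step.L (Step.L (Step.L (Step.L (Step.L (Step.L (Step.L (Step.L (Step.L (Step.D (nat_lit 4643) (Step.F (nat_lit 10592) (Step.D (nat_lit 5089) (Step.D (nat_lit 8102) (Step.D (nat_lit 11079) Step.done)))))))))))))))))))) (Scr.cons (nat_lit 4) (nat_lit 0) (Step.B (nat_lit 10595) (Step.U (nat_lit 11079) (Step.U (nat_lit 8102) (Step.D (nat_lit 8103) (Step.D (nat_lit 11080) Step.done))))) (Scr.cons (nat_lit 1) (nat_lit 1) (Step.B (nat_lit 6069) (Step.B (nat_lit 10237) (Step.L Step.done))) (Scr.cons (nat_lit 1) (nat_lit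 1) (Step.D (nat_lit 4585) (Step.B (nat_lit 10597) (Step.L Step.done))) (Scr.cons (nat_lit 1) (nat_lit 1) (Step.D (nat_lit 2469) (Step.B (nat_lit 10598) (Step.L Step.done))) (Scr.cons (nat_lit 0) (nat_lit 1) (Step.B (nat_lit 6053) (Step.B (nat_lit 10599) (Step.L Step.done))) (Scr.cons (nat_lit 1) (nat_lit 0) (Step.F (nat_lit 6052) (Step.B (nat_lit 10600) (Step.L Step.done))) (Scr.cons (nat_lit 0) (nat_lit 1) (Step.U (nat_lit 2466) (Step.B (nat_lit 10601) (Step.L Step.done))) Scr.nil))))))))))))))))))))))))))))))))))))))))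
noncomputable def s265 : Scr := (Scr.cons (nat_lit 1) (nat_lit 1) (Step.U (nat_lit 4581) (Step.B (nat_lit 10602) (Step.L Step.done))) (Scr.cons (nat_lit 1) (nat_lit 1) (Step.U (nat_lit 7537) (Step.B (nat_lit 10603) (Step.D (nat_lit 2786) Step.done))) (Scr.cons (nat_lit 0) (nat_lit 1) (Step.U (nat_lit 10583) (Step.B (nat_lit 10604) (Step.D (nat_lit 5062) Step.done))) (Scr.cons (nat_lit 1) (nat_lit 1) (Step.F (nat_lit 10596) (Step.B (nat_lit 10605) (Step.D (nat_lit 8079) Step.done))) (Scr.cons (nat_lit 1) (nat_lit 1) (Step.D (nat_lit 11080) (Step.B (nat_lit 10606) (Step.D (nat_lit 11058) Step.done))) (Scr.cons (nat_lit 1) (nat_lit 1) (Step.D (nat_lit 11058) (Step.F (nat_lit 10607) Step.done)) (Scr.cons (nat_lit 1) (nat_lit 1) (Step.B (nat_lit 10594) (Step.B (nat_lit 10604) (Step.D (nat_lit 5063) Step.done))) (Scr.cons (nat_lit 12) (nat_lit 1) (Step.U (nat_lit 4629) (Step.L (Step.L (Step.D (nat_lit 4629) (Step.D (nat_lit 7587) Step.done))))) (Scr.cons (nat_lit 9) (nat_lit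 5) (Step.B (nat_lit 3307) (Step.U (nat_lit 10614) (Step.U (nat_lit 7578) (Step.U (nat_lit 4620) (Step.B (nat_lit 3300) (Step.B (nat_lit 9565) (Step.F (nat_lit 9560) (Step.L (Step.D (nat_lit 4286) (Step.B (nat_lit 5063) (Step.U (nat_lit 5098) (Step.B (nat_lit 5062) (Step.B (nat_lit 6070) (Step.U (nat_lit 4583) (Step.U (nat_lit 2468) (Step.U (nat_lit 1186) (Step.B (nat_lit 6052) (Step.B (nat_lit 6054) (Step.D (nat_lit 4582) (Step.F (nat_lit 6055) (Step.D (nat_lit 4629) (Step.B (nat_lit 10610) (Step.D (nat_lit 10618) Step.done))))))))))))))))))))))) (Scr.cons (nat_lit 0) (nat_lit 1) (Step.F (nat_lit 10611) (Step.B (nat_lit 3323) (Step.F (nat_lit 3325) Step.done))) (Scr.cons (nat_lit 1) (nat_lit 1) (Step.D (nat_lit 10618) (Step.B (nat_lit 10612) (Step.D (nat_lit 6177) Step.done))) (Scr.cons (nat_lit 0) (nat_lit 1) (Step.B (nat_lit 10610) (Step.B (nat_lit 10613) (Step.D (nat_lit 9350) Step.done))) (Scr.cons (nat_lit 0) (nat_lit 1) (Step.D (nat_lit 9350) (Step.F (nat_lit 10614)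 Step.done)) (Scr.cons (nat_lit 0) (nat_lit 1) (Step.U (nat_lit 4584) (Step.B (nat_lit 10598) (Step.L Step.done))) (Scr.cons (nat_lit 1) (nat_lit 0) (Step.U (nat_lit 7540) (Step.B (nat_lit 10616) (Step.L Step.done))) (Scr.cons (nat_lit 1) (nat_lit 0) (Step.U (nat_lit 10586) (Step.B (nat_lit 10617) (Step.L Step.done))) (Scr.cons (nat_lit 0) (nat_lit 1) (Step.B (nat_lit 6125) (Step.B (nat_lit 10618) (Step.L Step.done))) (Scr.cons (nat_lit 1) (nat_lit 1) (Step.D (nat_lit 9349) (Step.B (nat_lit 10619) (Step.L Step.done))) (Scr.cons (nat_lit 0) (nat_lit 1) (Step.B (nat_lit 3325) (Step.B (nat_lit 10620) (Step.L Step.done))) (Scr.cons (nat_lit 1) (nat_lit 1) (Step.U (nat_lit 6177) (Step.B (nat_lit 10621) (Step.D (nat_lit 4324) Step.done))) (Scr.cons (nat_lit 6) (nat_lit 3) (Step.L (Step.L (Step.L (Step.L (Step.L (Step.L (Step.L (Step.L (Step.L (Step.L (Step.D (nat_lit 4324) Step.done))))))))))) (Scr.cons (nat_lit 0) (nat_lit 1) (Step.F (nat_lit 10615) (Step.B (nat_lit 10622)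 (Step.F (nat_lit 10623) Step.done))) (Scr.cons (nat_lit 1) (nat_lit 0) (Step.D (nat_lit 5063) (Step.F (nat_lit 10609) (Step.B (nat_lit 10624) (Step.L Step.done)))) (Scr.cons (nat_lit 0) (nat_lit 1) (Step.U (nat_lit 5062) (Step.B (nat_lit 10625) (Step.L Step.done))) (Scr.cons (nat_lit 1) (nat_lit 1) (Step.U (nat_lit 8079) (Step.B (nat_lit 10626) (Step.L Step.done))) (Scr.cons (nat_lit 1) (nat_lit 1) (Step.F (nat_lit 10608) (Step.B (nat_lit 10627) (Step.L Step.done))) (Scr.cons (nat_lit 1) (nat_lit 1) (Step.D (nat_lit 8103) (Step.B (nat_lit 10628) (Step.L Step.done))) (Scr.cons (nat_lit 0) (nat_lit 1) (Step.B (nat_lit 10593) (Step.B (nat_lit 10629) (Step.L Step.done))) (Scr.cons (nat_lit 1) (nat_lit 0) (Step.F (nat_lit 10592) (Step.B (nat_lit 10630) (Step.L Step.done))) (Scr.cons (nat_lit 1) (nat_lit 0) (Step.D (nat_lit 4643) (Step.B (nat_lit 10631) (Step.D (nat_lit 4224) Step.done))) (Scr.cons (nat_lit 0) (nat_lit 1) (Step.U (nat_lit 7106) (Step.F (nat_lit 10632) (Step.L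 Step.done))) (Scr.cons (nat_lit 1) (nat_lit 1) (Step.D (nat_lit 11129) (Step.F (nat_lit 10591) (Step.B (nat_lit 10633) (Step.L Step.done)))) (Scr.cons (nat_lit 0) (nat_lit 1) (Step.B (nat_lit 10536) (Step.B (nat_lit 10634) (Step.L Step.done))) (Scr.cons (nat_lit 1) (nat_lit 1) (Step.U (nat_lit 8160) (Step.B (nat_lit 10635) (Step.L Step.done))) (Scr.cons (nat_lit 0) (nat_lit 1) (Step.B (nat_lit 10534) (Step.B (nat_lit 10636) (Step.L Step.done))) (Scr.cons (nat_lit 1) (nat_lit 0) (Step.D (nat_lit 6271) (Step.B (nat_lit 10637) (Step.D (nat_lit 7607) Step.done))) (Scr.cons (nat_lit 0) (nat_lit 1) (Step.F (nat_lit 10515) (Step.F (nat_lit 10638) (Step.L Step.done))) (Scr.cons (nat_lit 1) (nat_lit 1) (Step.D (nat_lit 10631) (Step.B (nat_lit 10639) (Step.L Step.done))) (Scr.cons (nat_lit 0) (nat_lit 1) (Step.B (nat_lit 10514) (Step.B (nat_lit 10640) (Step.D (nat_lit 8621) Step.done))) (Scr.cons (nat_lit 0) (nat_lit 1) (Step.D (nat_lit 8621) (Step.F (nat_lit 10641) Step.done))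 Scr.nil))))))))))))))))))))))))))))))))))))))))
noncomputable def s266 : Scr := (Scr.cons (nat_lit 14) (nat_lit 4) (Step.U (nat_lit 7606) (Step.U (nat_lit 4645) (Step.D (nat_lit 4644) (Step.F (nat_lit 10642) (Step.L (Step.L (Step.L (Step.L (Step.L (Step.L (Step.L (Step.L (Step.L (Step.L (Step.L (Step.D (nat_lit 823) (Step.D (nat_lit 1823) (Step.B (nat_lit 10506) (Step.D (nat_lit 6247) (Step.D (nat_lit 9423) (Step.D (nat_lit 11740) Step.done))))))))))))))))))))) (Scr.cons (nat_lit 15) (nat_lit 0) (Step.U (nat_lit 30) (Step.L (Step.L (Step.L (Step.L (Step.L (Step.L (Step.L (Step.L (Step.L (Step.L (Step.L (Step.L (Step.L (Step.D (nat_lit 110) Step.done))))))))))))))) (Scr.cons (nat_lit 6) (nat_lit 1) (Step.U (nat_lit 949) (Step.F (nat_lit 24) (Step.L (Step.L (Step.L (Step.L (Step.D (nat_lit 30) (Step.B (nat_lit 10644) (Step.D (nat_lit 343) (Step.D (nat_lit 925) (Step.D (nat_lit 1998) Step.done))))))))))) (Scr.cons (nat_lit 12) (nat_lit 4) (Step.U (nat_lit 110) (Step.L (Step.L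 (Step.D (nat_lit 110) (Step.F (nat_lit 10644) Step.done))))) (Scr.cons (nat_lit 12) (nat_lit 4) (Step.U (nat_lit 343) (Step.F (nat_lit 10644) (Step.F (nat_lit 10646) (Step.D (nat_lit 343) (Step.D (nat_lit 925) Step.done))))) (Scr.cons (nat_lit 13) (nat_lit 2) (Step.U (nat_lit 949) (Step.U (nat_lit 356) (Step.L (Step.L (Step.L (Step.L (Step.D (nat_lit 30) (Step.F (nat_lit 10646) (Step.D (nat_lit 343) (Step.B (nat_lit 10647) (Step.D (nat_lit 1998) Step.done))))))))))) (Scr.cons (nat_lit 12) (nat_lit 1) (Step.U (nat_lit 2048) (Step.B (nat_lit 10645) (Step.F (nat_lit 10648) (Step.D (nat_lit 2048) (Step.D (nat_lit 3935) Step.done))))) (Scr.cons (nat_lit 12) (nat_lit 1) (Step.U (nat_lit 6751) (Step.F (nat_lit 10649) (Step.D (nat_lit 3935) (Step.D (nat_lit 6751) (Step.D (nat_lit 9917) Step.done))))) (Scr.cons (nat_lit 11) (nat_lit 0) (Step.U (nat_lit 2048) (Step.U (nat_lit 949) (Step.D (nat_lit 948) (Step.D (nat_lit 2047) (Step.D (nat_lit 3934) Step.done))))) (Scr.cons (nat_lit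 12) (nat_lit 1) (Step.F (nat_lit 10651) (Step.D (nat_lit 3935) (Step.F (nat_lit 10649) (Step.B (nat_lit 10651) (Step.D (nat_lit 6749) Step.done))))) (Scr.cons (nat_lit 11) (nat_lit 0) (Step.L (Step.L (Step.D (nat_lit 1989) (Step.D (nat_lit 3829) (Step.D (nat_lit 6604) Step.done))))) (Scr.cons (nat_lit 12) (nat_lit 1) (Step.F (nat_lit 10653) (Step.L (Step.L (Step.B (nat_lit 10653) (Step.D (nat_lit 9760) Step.done))))) (Scr.cons (nat_lit 16) (nat_lit 1) (Step.F (nat_lit 10654) (Step.F (nat_lit 10653) (Step.L (Step.L (Step.L (Step.L (Step.L (Step.L (Step.L (Step.L (Step.L (Step.L (Step.L (Step.L (Step.L (Step.L (Step.L (Step.L (Step.D (nat_lit 356) (Step.D (nat_lit 948) (Step.D (nat_lit 2047) (Step.D (nat_lit 3934) (Step.D (nat_lit 6749) Step.done))))))))))))))))))))))) (Scr.cons (nat_lit 12) (nat_lit 0) (Step.B (nat_lit 9841) (Step.U (nat_lit 340) (Step.F (nat_lit 9840) (Step.D (nat_lit 109) (Step.D (nat_lit 340) Step.done))))) (Scr.cons (nat_lit 13) (nat_lit 0) (Step.U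 (nat_lit 1989) (Step.L (Step.L (Step.L (Step.L (Step.L (Step.L (Step.B (nat_lit 10656) (Step.D (nat_lit 915) (Step.D (nat_lit 1974) (Step.D (nat_lit 3807) Step.done))))))))))) (Scr.cons (nat_lit 12) (nat_lit 1) (Step.U (nat_lit 915) (Step.F (nat_lit 10656) (Step.B (nat_lit 9841) (Step.D (nat_lit 915) (Step.D (nat_lit 1974) Step.done))))) (Scr.cons (nat_lit 6) (nat_lit 3) (Step.U (nat_lit 1989) (Step.L (Step.L (Step.L (Step.L (Step.L (Step.L (Step.B (nat_lit 9841) (Step.D (nat_lit 915) (Step.B (nat_lit 10658) (Step.D (nat_lit 3807) Step.done))))))))))) (Scr.cons (nat_lit 12) (nat_lit 4) (Step.U (nat_lit 3829) (Step.B (nat_lit 10657) (Step.F (nat_lit 10659) (Step.D (nat_lit 3829) (Step.D (nat_lit 6603) Step.done))))) (Scr.cons (nat_lit 6) (nat_lit 0) (Step.U (nat_lit 9917) (Step.U (nat_lit 6751) (Step.F (nat_lit 10649) (Step.B (nat_lit 10651) (Step.B (nat_lit 10652) (Step.F (nat_lit 10655) (Step.F (nat_lit 10654) (Step.U (nat_lit 6604) (Step.B (nat_lit 10660) (Step.D (nat_lit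 9759) (Step.D (nat_lit 11837) Step.done))))))))))) (Scr.cons (nat_lit 12) (nat_lit 1) (Step.U (nat_lit 2507) (Step.L (Step.L (Step.D (nat_lit 2507) (Step.D (nat_lit 4635) Step.done))))) (Scr.cons (nat_lit 13) (nat_lit 0) (Step.U (nat_lit 4640) (Step.F (nat_lit 3138) (Step.U (nat_lit 1211) (Step.U (nat_lit 482) (Step.L (Step.L (Step.L (Step.L (Step.D (nat_lit 2507) (Step.D (nat_lit 4635) (Step.D (nat_lit 7592) Step.done))))))))))) (Scr.cons (nat_lit 12) (nat_lit 1) (Step.U (nat_lit 4641) (Step.F (nat_lit 3138) (Step.D (nat_lit 2510) (Step.D (nat_lit 4641) (Step.D (nat_lit 7600) Step.done))))) (Scr.cons (nat_lit 14) (nat_lit 4) (Step.U (nat_lit 6256) (Step.U (nat_lit 3569) (Step.U (nat_lit 1827) (Step.U (nat_lit 825) (Step.L (Step.L (Step.L (Step.L (Step.L (Step.L (Step.L (Step.L (Step.L (Step.L (Step.L (Step.L (Step.L (Step.D (nat_lit 1838) (Step.D (nat_lit 3584) (Step.D (nat_lit 6277) Step.done)))))))))))))))))))) (Scr.cons (nat_lit 12) (nat_lit 4) (Step.U (nat_lit 3584)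 (Step.D (nat_lit 3583) (Step.F (nat_lit 5402) (Step.D (nat_lit 3584) (Step.D (nat_lit 6277) Step.done))))) (Scr.cons (nat_lit 11) (nat_lit 0) (Step.U (nat_lit 3585) (Step.L (Step.D (nat_lit 1838) (Step.D (nat_lit 3584) (Step.D (nat_lit 6278) Step.done))))) (Scr.cons (nat_lit 12) (nat_lit 1) (Step.F (nat_lit 10667) (Step.D (nat_lit 6279) (Step.F (nat_lit 9939) (Step.B (nat_lit 10667) (Step.D (nat_lit 9458) Step.done))))) (Scr.cons (nat_lit 11) (nat_lit 0) (Step.F (nat_lit 3218) (Step.U (nat_lit 10630) (Step.U (nat_lit 7603) (Step.D (nat_lit 7602) (Step.D (nat_lit 10629) Step.done))))) (Scr.cons (nat_lit 1) (nat_lit 0) (Step.F (nat_lit 10669) (Step.B (nat_lit 3221) (Step.D (nat_lit 6997) Step.done))) (Scr.cons (nat_lit 12) (nat_lit 1) (Step.L (Step.L (Step.L (Step.L (Step.D (nat_lit 4134) Step.done))))) (Scr.cons (nat_lit 7) (nat_lit 5) (Step.F (nat_lit 10668) (Step.U (nat_lit 6278) (Step.U (nat_lit 3584) (Step.U (nat_lit 1838) (Step.L (Step.L (Step.L (Step.L (Step.L (Step.L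 (Step.L (Step.L (Step.L (Step.L (Step.L (Step.L (Step.L (Step.L (Step.B (nat_lit 10671) (Step.D (nat_lit 6997) Step.done)))))))))))))))))))) (Scr.cons (nat_lit 1) (nat_lit 0) (Step.D (nat_lit 10629) (Step.B (nat_lit 10670) (Step.F (nat_lit 10672) Step.done))) (Scr.cons (nat_lit 0) (nat_lit 1) (Step.B (nat_lit 10668) (Step.F (nat_lit 10673) (Step.D (nat_lit 10628) Step.done))) (Scr.cons (nat_lit 0) (nat_lit 1) (Step.D (nat_lit 10628) (Step.F (nat_lit 10674) Step.done)) (Scr.cons (nat_lit 13) (nat_lit 0) (Step.U (nat_lit 9436) (Step.B (nat_lit 10665) (Step.F (nat_lit 10666) (Step.D (nat_lit 6278) (Step.F (nat_lit 10675) (Step.U (nat_lit 7602) (Step.F (nat_lit 3139) (Step.U (nat_lit 2511) (Step.B (nat_lit 3138) (Step.D (nat_lit 4641) (Step.D (nat_lit 7600) (Step.D (nat_lit 10627) Step.done)))))))))))) (Scr.cons (nat_lit 1) (nat_lit 1) (Step.D (nat_lit 10627) (Step.F (nat_lit 10676) Step.done)) (Scr.cons (nat_lit 11) (nat_lit 0) (Step.U (nat_lit 825) (Step.L (Step.L (Step.L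 (Step.D (nat_lit 1826) Step.done))))) (Scr.cons (nat_lit 16) (nat_lit 5) (Step.L (Step.L (Step.L (Step.L (Step.L (Step.L (Step.L (Step.L (Step.L (Step.L (Step.L (Step.L (Step.L (Step.L (Step.L (Step.L (Step.L (Step.L (Step.L (Step.L (Step.L (Step.L (Step.D (nat_lit 3568) Step.done))))))))))))))))))))))) (Scr.cons (nat_lit 12) (nat_lit 1) (Step.F (nat_lit 10679) (Step.L (Step.L (Step.B (nat_lit 10679) (Step.D (nat_lit 6255) Step.done))))) (Scr.cons (nat_lit 12) (nat_lit 1) (Step.U (nat_lit 9435) (Step.F (nat_lit 10680) (Step.D (nat_lit 6255) (Step.D (nat_lit 9435) (Step.D (nat_lit 11747) Step.done))))) (Scr.cons (nat_lit 15) (nat_lit 1) (Step.F (nat_lit 10681) (Step.U (nat_lit 9435) (Step.F (nat_lit 10680) (Step.F (nat_lit 10679) (Step.L (Step.L (Step.L (Step.L (Step.L (Step.L (Step.L (Step.L (Step.D (nat_lit 3680) (Step.D (nat_lit 6404) (Step.D (nat_lit 9548) Step.done))))))))))))))) Scr.nil))))))))))))))))))))))))))))))))))))))))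
noncomputable def s267 : Scr := (Scr.cons (nat_lit 0) (nat_lit 1) (Step.U (nat_lit 9548) (Step.F (nat_lit 9644) (Step.D (nat_lit 8110) Step.done))) (Scr.cons (nat_lit 4) (nat_lit 0) (Step.F (nat_lit 9494) (Step.U (nat_lit 6454) (Step.L (Step.D (nat_lit 3716) (Step.D (nat_lit 6455) Step.done))))) (Scr.cons (nat_lit 1) (nat_lit 1) (Step.B (nat_lit 10682) (Step.B (nat_lit 10683) (Step.B (nat_lit 10684) Step.done))) (Scr.cons (nat_lit 0) (nat_lit 1) (Step.B (nat_lit 10681) (Step.B (nat_lit 10685) (Step.D (nat_lit 9602) Step.done))) (Scr.cons (nat_lit 0) (nat_lit 1) (Step.D (nat_lit 9602) (Step.F (nat_lit 10686) Step.done)) (Scr.cons (nat_lit 1) (nat_lit 1) (Step.F (nat_lit 10684) (Step.B (nat_lit 9772) (Step.L Step.done))) (Scr.cons (nat_lit 0) (nat_lit 1) (Step.F (nat_lit 10687) (Step.B (nat_lit 10688) (Step.L Step.done))) (Scr.cons (nat_lit 1) (nat_lit 1) (Step.D (nat_lit 9435) (Step.B (nat_lit 10689) (Step.L Step.done))) (Scr.cons (nat_lit 0) (nat_lit 1) (Step.B (nat_lit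 10680) (Step.B (nat_lit 10690) (Step.L Step.done))) (Scr.cons (nat_lit 1) (nat_lit 0) (Step.D (nat_lit 3568) (Step.B (nat_lit 10691) (Step.D (nat_lit 3528) Step.done))) (Scr.cons (nat_lit 1) (nat_lit 0) (Step.U (nat_lit 6175) (Step.F (nat_lit 10692) (Step.L Step.done))) (Scr.cons (nat_lit 0) (nat_lit 1) (Step.B (nat_lit 1992) (Step.B (nat_lit 10693) (Step.L Step.done))) (Scr.cons (nat_lit 1) (nat_lit 1) (Step.B (nat_lit 4559) (Step.B (nat_lit 10694) (Step.L Step.done))) (Scr.cons (nat_lit 1) (nat_lit 1) (Step.D (nat_lit 1992) (Step.B (nat_lit 10695) (Step.D (nat_lit 1826) Step.done))) (Scr.cons (nat_lit 1) (nat_lit 1) (Step.B (nat_lit 10678) (Step.F (nat_lit 10696) (Step.L Step.done))) (Scr.cons (nat_lit 0) (nat_lit 1) (Step.U (nat_lit 1827) (Step.B (nat_lit 10697) (Step.L Step.done))) (Scr.cons (nat_lit 1) (nat_lit 0) (Step.U (nat_lit 3569) (Step.B (nat_lit 10698) (Step.L Step.done))) (Scr.cons (nat_lit 1) (nat_lit 0) (Step.U (nat_lit 6256) (Step.B (nat_lit 10699) (Step.L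 Step.done))) (Scr.cons (nat_lit 0) (nat_lit 1) (Step.U (nat_lit 9436) (Step.B (nat_lit 10700) (Step.L Step.done))) (Scr.cons (nat_lit 1) (nat_lit 0) (Step.B (nat_lit 10677) (Step.B (nat_lit 10701) (Step.L Step.done))) (Scr.cons (nat_lit 0) (nat_lit 1) (Step.B (nat_lit 10664) (Step.B (nat_lit 10702) (Step.L Step.done))) (Scr.cons (nat_lit 1) (nat_lit 1) (Step.D (nat_lit 4641) (Step.B (nat_lit 10703) (Step.L Step.done))) (Scr.cons (nat_lit 1) (nat_lit 1) (Step.U (nat_lit 4640) (Step.B (nat_lit 10704) (Step.L Step.done))) (Scr.cons (nat_lit 0) (nat_lit 1) (Step.F (nat_lit 10663) (Step.B (nat_lit 10705) (Step.L Step.done))) (Scr.cons (nat_lit 1) (nat_lit 0) (Step.D (nat_lit 7592) (Step.B (nat_lit 10706) (Step.L Step.done))) (Scr.cons (nat_lit 0) (nat_lit 1) (Step.B (nat_lit 10662) (Step.B (nat_lit 10707) (Step.L Step.done))) (Scr.cons (nat_lit 1) (nat_lit 1) (Step.D (nat_lit 2507) (Step.B (nat_lit 10708) (Step.D (nat_lit 1989) Step.done))) (Scr.cons (nat_lit 1) (nat_lit 1)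 (Step.U (nat_lit 3829) (Step.F (nat_lit 10709) (Step.L Step.done))) (Scr.cons (nat_lit 0) (nat_lit 1) (Step.U (nat_lit 6603) (Step.B (nat_lit 10710) (Step.D (nat_lit 4634) Step.done))) (Scr.cons (nat_lit 1) (nat_lit 1) (Step.U (nat_lit 9759) (Step.B (nat_lit 10711) (Step.D (nat_lit 7590) Step.done))) (Scr.cons (nat_lit 15) (nat_lit 0) (Step.U (nat_lit 4645) (Step.F (nat_lit 360) (Step.L (Step.L (Step.L (Step.L (Step.L (Step.L (Step.L (Step.L (Step.L (Step.L (Step.L (Step.D (nat_lit 4634) (Step.D (nat_lit 7590) Step.done))))))))))))))) (Scr.cons (nat_lit 0) (nat_lit 1) (Step.U (nat_lit 11837) (Step.B (nat_lit 10712) (Step.F (nat_lit 10713) Step.done))) (Scr.cons (nat_lit 1) (nat_lit 0) (Step.B (nat_lit 10661) (Step.B (nat_lit 10714) (Step.D (nat_lit 7606) Step.done))) (Scr.cons (nat_lit 0) (nat_lit 1) (Step.B (nat_lit 10650) (Step.B (nat_lit 10715) (Step.D (nat_lit 10633) Step.done))) (Scr.cons (nat_lit 0) (nat_lit 1) (Step.D (nat_lit 10633) (Step.F (nat_lit 10716) Step.done))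 (Scr.cons (nat_lit 0) (nat_lit 1) (Step.B (nat_lit 10513) (Step.F (nat_lit 10643) (Step.B (nat_lit 10717) Step.done))) (Scr.cons (nat_lit 1) (nat_lit 1) (Step.U (nat_lit 11741) (Step.B (nat_lit 10718) (Step.U (nat_lit 6751) Step.done))) (Scr.cons (nat_lit 1) (nat_lit 1) (Step.B (nat_lit 10511) (Step.B (nat_lit 10719) (Step.D (nat_lit 6750) Step.done))) (Scr.cons (nat_lit 1) (nat_lit 1) (Step.D (nat_lit 9425) (Step.B (nat_lit 10720) (Step.D (nat_lit 9916) Step.done))) (Scr.cons (nat_lit 1) (nat_lit 1) (Step.D (nat_lit 9916) (Step.F (nat_lit 10721) Step.done)) Scr.nil))))))))))))))))))))))))))))))))))))))))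
noncomputable def s268 : Scr := (Scr.cons (nat_lit 11) (nat_lit 0) (Step.U (nat_lit 7606) (Step.U (nat_lit 4645) (Step.D (nat_lit 4644) (Step.D (nat_lit 7605) (Step.D (nat_lit 10632) Step.done))))) (Scr.cons (nat_lit 13) (nat_lit 3) (Step.U (nat_lit 5854) (Step.U (nat_lit 3303) (Step.L (Step.L (Step.L (Step.L (Step.L (Step.L (Step.L (Step.L (Step.D (nat_lit 8621) Step.done))))))))))) (Scr.cons (nat_lit 1) (nat_lit 1) (Step.B (nat_lit 10724) (Step.F (nat_lit 10641) (Step.D (nat_lit 7605) Step.done))) (Scr.cons (nat_lit 1) (nat_lit 1) (Step.U (nat_lit 10632) (Step.F (nat_lit 10725) (Step.D (nat_lit 8994) Step.done))) (Scr.cons (nat_lit 1) (nat_lit 1) (Step.B (nat_lit 10723) (Step.B (nat_lit 10726) (Step.D (nat_lit 11581) Step.done))) (Scr.cons (nat_lit 1) (nat_lit 1) (Step.D (nat_lit 11581) (Step.F (nat_lit 10727) Step.done)) (Scr.cons (nat_lit 12) (nat_lit 4) (Step.U (nat_lit 3303) (Step.L (Step.L (Step.D (nat_lit 3303) (Step.D (nat_lit 5854) Step.done))))) (Scr.cons (nat_lit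 11) (nat_lit 0) (Step.U (nat_lit 3658) (Step.L (Step.L (Step.D (nat_lit 3657) (Step.D (nat_lit 6366) Step.done))))) (Scr.cons (nat_lit 12) (nat_lit 1) (Step.U (nat_lit 3658) (Step.L (Step.L (Step.D (nat_lit 3658) (Step.D (nat_lit 6367) Step.done))))) (Scr.cons (nat_lit 12) (nat_lit 1) (Step.F (nat_lit 10730) (Step.D (nat_lit 6367) (Step.F (nat_lit 10731) (Step.B (nat_lit 10730) (Step.D (nat_lit 9520) Step.done))))) (Scr.cons (nat_lit 7) (nat_lit 5) (Step.F (nat_lit 10503) (Step.U (nat_lit 9521) (Step.U (nat_lit 6370) (Step.U (nat_lit 3659) (Step.L (Step.L (Step.L (Step.L (Step.L (Step.L (Step.L (Step.L (Step.L (Step.L (Step.L (Step.L (Step.D (nat_lit 3658) (Step.B (nat_lit 10730) (Step.B (nat_lit 10732) (Step.D (nat_lit 11767) Step.done)))))))))))))))))))) (Scr.cons (nat_lit 7) (nat_lit 2) (Step.B (nat_lit 10504) (Step.U (nat_lit 9983) (Step.D (nat_lit 9984) (Step.F (nat_lit 10510) (Step.F (nat_lit 10507) (Step.F (nat_lit 10722) (Step.U (nat_lit 6750) (Step.D (nat_lit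 6751) (Step.F (nat_lit 10717) (Step.F (nat_lit 10728) (Step.U (nat_lit 8994) (Step.F (nat_lit 10729) (Step.U (nat_lit 3303) (Step.L (Step.L (Step.L (Step.D (nat_lit 3658) (Step.B (nat_lit 10730) (Step.D (nat_lit 9520) (Step.D (nat_lit 11767) (Step.F (nat_lit 10733) Step.done))))))))))))))))))))) (Scr.cons (nat_lit 12) (nat_lit 4) (Step.L (Step.L (Step.L (Step.L (Step.D (nat_lit 6832) Step.done))))) (Scr.cons (nat_lit 0) (nat_lit 1) (Step.B (nat_lit 10503) (Step.F (nat_lit 10734) (Step.F (nat_lit 10735) Step.done))) (Scr.cons (nat_lit 1) (nat_lit 1) (Step.B (nat_lit 10502) (Step.B (nat_lit 10736) (Step.D (nat_lit 6833) Step.done))) (Scr.cons (nat_lit 1) (nat_lit 1) (Step.D (nat_lit 6833) (Step.F (nat_lit 10737) Step.done)) (Scr.cons (nat_lit 4) (nat_lit 0) (Step.L (Step.L (Step.L (Step.L (Step.D (nat_lit 6565) Step.done))))) (Scr.cons (nat_lit 9) (nat_lit 1) (Step.U (nat_lit 11825) (Step.U (nat_lit 9720) (Step.L (Step.L (Step.L (Step.D (nat_lit 6565) (Step.F (nat_lit 10739)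 (Step.L (Step.L (Step.L (Step.L (Step.L (Step.L (Step.L (Step.L (Step.L (Step.L (Step.L (Step.L (Step.L (Step.L (Step.L (Step.L (Step.L Step.done)))))))))))))))))))))))) (Scr.cons (nat_lit 1) (nat_lit 1) (Step.D (nat_lit 11825) (Step.B (nat_lit 10740) Step.done)) (Scr.cons (nat_lit 4) (nat_lit 0) (Step.L (Step.L (Step.F (nat_lit 10741) (Step.U (nat_lit 9720) (Step.L (Step.D (nat_lit 11826) Step.done)))))) (Scr.cons (nat_lit 1) (nat_lit 0) (Step.D (nat_lit 11826) (Step.F (nat_lit 10742) Step.done)) (Scr.cons (nat_lit 12) (nat_lit 1) (Step.L (Step.L (Step.L (Step.L (Step.D (nat_lit 7136) Step.done))))) (Scr.cons (nat_lit 11) (nat_lit 0) (Step.U (nat_lit 784) (Step.U (nat_lit 284) (Step.L (Step.D (nat_lit 782) (Step.D (nat_lit 1759) Step.done))))) (Scr.cons (nat_lit 9) (nat_lit 1) (Step.U (nat_lit 9224) (Step.U (nat_lit 6072) (Step.U (nat_lit 3458) (Step.U (nat_lit 1762) (Step.B (nat_lit 10745) (Step.U (nat_lit 1759) (Step.U (nat_lit 782) (Step.L (Step.L (Step.L (Step.L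 (Step.L (Step.L (Step.L (Step.L (Step.L (Step.L (Step.L (Step.L (Step.L (Step.L (Step.B (nat_lit 10744) (Step.D (nat_lit 10236) Step.done))))))))))))))))))))))) (Scr.cons (nat_lit 12) (nat_lit 1) (Step.U (nat_lit 784) (Step.D (nat_lit 783) (Step.F (nat_lit 1089) (Step.D (nat_lit 784) (Step.D (nat_lit 1762) Step.done))))) (Scr.cons (nat_lit 12) (nat_lit 1) (Step.U (nat_lit 3459) (Step.F (nat_lit 10747) (Step.D (nat_lit 1762) (Step.D (nat_lit 3459) (Step.D (nat_lit 6073) Step.done))))) (Scr.cons (nat_lit 12) (nat_lit 1) (Step.U (nat_lit 6074) (Step.D (nat_lit 6073) (Step.F (nat_lit 10748) (Step.D (nat_lit 6074) (Step.D (nat_lit 9226) Step.done))))) (Scr.cons (nat_lit 11) (nat_lit 0) (Step.U (nat_lit 1074) (Step.U (nat_lit 418) (Step.L (Step.D (nat_lit 1073) (Step.D (nat_lit 2264) Step.done))))) (Scr.cons (nat_lit 7) (nat_lit 0) (Step.U (nat_lit 7158) (Step.U (nat_lit 4263) (Step.U (nat_lit 2265) (Step.B (nat_lit 10750) (Step.U (nat_lit 2264) (Step.D (nat_lit 2263) (Step.D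 (nat_lit 4262) (Step.F (nat_lit 5593) (Step.L (Step.L (Step.L (Step.L (Step.L (Step.L (Step.D (nat_lit 284) (Step.D (nat_lit 784) (Step.B (nat_lit 10747) (Step.D (nat_lit 3459) (Step.D (nat_lit 6074) (Step.D (nat_lit 9226) Step.done)))))))))))))))))))) (Scr.cons (nat_lit 1) (nat_lit 1) (Step.D (nat_lit 422) (Step.B (nat_lit 10244) (Step.L Step.done))) (Scr.cons (nat_lit 0) (nat_lit 1) (Step.F (nat_lit 2234) (Step.B (nat_lit 10752) (Step.L Step.done))) (Scr.cons (nat_lit 1) (nat_lit 0) (Step.U (nat_lit 1074) (Step.B (nat_lit 10753) (Step.L Step.done))) (Scr.cons (nat_lit 0) (nat_lit 1) (Step.U (nat_lit 2265) (Step.B (nat_lit 10754) (Step.L Step.done))) (Scr.cons (nat_lit 1) (nat_lit 1) (Step.U (nat_lit 4263) (Step.B (nat_lit 10755) (Step.L Step.done))) (Scr.cons (nat_lit 1) (nat_lit 1) (Step.U (nat_lit 7158) (Step.B (nat_lit 10756) (Step.L Step.done))) (Scr.cons (nat_lit 1) (nat_lit 1) (Step.F (nat_lit 10751) (Step.B (nat_lit 10757) (Step.L Step.done))) (Scr.cons (nat_lit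 0) (nat_lit 1) (Step.B (nat_lit 10749) (Step.B (nat_lit 10758) (Step.D (nat_lit 133) Step.done))) (Scr.cons (nat_lit 1) (nat_lit 1) (Step.D (nat_lit 6074) (Step.B (nat_lit 10759) (Step.D (nat_lit 395) Step.done))) (Scr.cons (nat_lit 1) (nat_lit 1) (Step.D (nat_lit 3459) (Step.B (nat_lit 10760) (Step.D (nat_lit 1031) Step.done))) (Scr.cons (nat_lit 1) (nat_lit 1) (Step.U (nat_lit 3458) (Step.B (nat_lit 10761) (Step.D (nat_lit 2200) Step.done))) Scr.nil))))))))))))))))))))))))))))))))))))))))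
noncomputable def s269 : Scr := (Scr.cons (nat_lit 0) (nat_lit 1) (Step.U (nat_lit 6072) (Step.B (nat_lit 10762) (Step.D (nat_lit 4165) Step.done))) (Scr.cons (nat_lit 1) (nat_lit 1) (Step.U (nat_lit 9224) (Step.B (nat_lit 10763) (Step.D (nat_lit 7036) Step.done))) (Scr.cons (nat_lit 11) (nat_lit 0) (Step.L (Step.L (Step.L (Step.L (Step.D (nat_lit 4194) Step.done))))) (Scr.cons (nat_lit 12) (nat_lit 1) (Step.F (nat_lit 10765) (Step.L (Step.L (Step.B (nat_lit 10765) (Step.D (nat_lit 7073) Step.done))))) (Scr.cons (nat_lit 11) (nat_lit 0) (Step.U (nat_lit 1032) (Step.U (nat_lit 396) (Step.D (nat_lit 395) (Step.D (nat_lit 1031) (Step.D (nat_lit 2200) Step.done))))) (Scr.cons (nat_lit 12) (nat_lit 4) (Step.L (Step.L (Step.L (Step.L (Step.D (nat_lit 133) Step.done))))) (Scr.cons (nat_lit 6) (nat_lit 1) (Step.U (nat_lit 396) (Step.F (nat_lit 10768) (Step.L (Step.L (Step.L (Step.L (Step.L (Step.L (Step.L (Step.L (Step.D (nat_lit 1010) Step.done))))))))))) (Scr.cons (nat_lit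 13) (nat_lit 2) (Step.U (nat_lit 396) (Step.U (nat_lit 133) (Step.L (Step.L (Step.L (Step.L (Step.L (Step.L (Step.L (Step.L (Step.D (nat_lit 1010) Step.done))))))))))) (Scr.cons (nat_lit 12) (nat_lit 1) (Step.U (nat_lit 1032) (Step.B (nat_lit 10769) (Step.F (nat_lit 10770) (Step.D (nat_lit 1032) (Step.D (nat_lit 2201) Step.done))))) (Scr.cons (nat_lit 12) (nat_lit 1) (Step.F (nat_lit 10767) (Step.D (nat_lit 2201) (Step.F (nat_lit 10771) (Step.B (nat_lit 10767) (Step.D (nat_lit 4165) Step.done))))) (Scr.cons (nat_lit 14) (nat_lit 2) (Step.F (nat_lit 10766) (Step.F (nat_lit 10765) (Step.L (Step.L (Step.L (Step.L (Step.L (Step.L (Step.L (Step.L (Step.L (Step.L (Step.L (Step.L (Step.D (nat_lit 133) (Step.D (nat_lit 395) (Step.D (nat_lit 1031) (Step.D (nat_lit 2200) (Step.B (nat_lit 10772) (Step.D (nat_lit 7036) Step.done)))))))))))))))))))) (Scr.cons (nat_lit 1) (nat_lit 1) (Step.F (nat_lit 10746) (Step.B (nat_lit 10764) (Step.F (nat_lit 10773) Step.done))) (Scr.cons (nat_lit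 1) (nat_lit 1) (Step.D (nat_lit 10236) (Step.B (nat_lit 10774) (Step.D (nat_lit 10192) Step.done))) (Scr.cons (nat_lit 1) (nat_lit 1) (Step.D (nat_lit 10192) (Step.F (nat_lit 10775) Step.done)) (Scr.cons (nat_lit 8) (nat_lit 0) (Step.L (Step.L (Step.L (Step.L (Step.L (Step.L (Step.L (Step.L (Step.B (nat_lit 10744) (Step.F (nat_lit 10776) (Step.U (nat_lit 7073) (Step.U (nat_lit 4194) (Step.L (Step.L (Step.L Step.done))))))))))))))) (Scr.cons (nat_lit 11) (nat_lit 0) (Step.U (nat_lit 9612) (Step.U (nat_lit 6466) (Step.D (nat_lit 6465) (Step.D (nat_lit 9611) (Step.D (nat_lit 11783) Step.done))))) (Scr.cons (nat_lit 12) (nat_lit 4) (Step.U (nat_lit 6465) (Step.L (Step.L (Step.D (nat_lit 6465) (Step.D (nat_lit 9610) Step.done))))) (Scr.cons (nat_lit 12) (nat_lit 4) (Step.U (nat_lit 9611) (Step.D (nat_lit 9610) (Step.F (nat_lit 10779) (Step.D (nat_lit 9611) (Step.D (nat_lit 11782) Step.done))))) (Scr.cons (nat_lit 12) (nat_lit 4) (Step.U (nat_lit 3472) (Step.L (Step.L (Step.D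 (nat_lit 3472) (Step.D (nat_lit 6093) Step.done))))) (Scr.cons (nat_lit 12) (nat_lit 1) (Step.U (nat_lit 9251) (Step.F (nat_lit 10781) (Step.D (nat_lit 6093) (Step.D (nat_lit 9251) (Step.D (nat_lit 11663) Step.done))))) (Scr.cons (nat_lit 12) (nat_lit 1) (Step.U (nat_lit 135) (Step.L (Step.L (Step.D (nat_lit 135) (Step.D (nat_lit 399) Step.done))))) (Scr.cons (nat_lit 12) (nat_lit 1) (Step.U (nat_lit 400) (Step.D (nat_lit 399) (Step.F (nat_lit 10783) (Step.D (nat_lit 400) (Step.D (nat_lit 1037) Step.done))))) (Scr.cons (nat_lit 12) (nat_lit 1) (Step.U (nat_lit 2209) (Step.F (nat_lit 10784) (Step.D (nat_lit 1037) (Step.D (nat_lit 2209) (Step.D (nat_lit 4178) Step.done))))) (Scr.cons (nat_lit 12) (nat_lit 1) (Step.U (nat_lit 4179) (Step.D (nat_lit 4178) (Step.F (nat_lit 10785) (Step.D (nat_lit 4179) (Step.D (nat_lit 7054) Step.done))))) (Scr.cons (nat_lit 12) (nat_lit 4) (Step.U (nat_lit 309) (Step.L (Step.L (Step.D (nat_lit 309) (Step.D (nat_lit 839) Step.done))))) (Scr.cons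 (nat_lit 12) (nat_lit 1) (Step.U (nat_lit 1844) (Step.F (nat_lit 10787) (Step.D (nat_lit 839) (Step.D (nat_lit 1844) (Step.D (nat_lit 3595) Step.done))))) (Scr.cons (nat_lit 12) (nat_lit 1) (Step.U (nat_lit 3596) (Step.D (nat_lit 3595) (Step.F (nat_lit 10788) (Step.D (nat_lit 3596) (Step.D (nat_lit 6295) Step.done))))) (Scr.cons (nat_lit 14) (nat_lit 4) (Step.U (nat_lit 3596) (Step.U (nat_lit 1844) (Step.U (nat_lit 839) (Step.D (nat_lit 840) (Step.F (nat_lit 2815) (Step.D (nat_lit 843) (Step.B (nat_lit 2821) (Step.U (nat_lit 1086) (Step.L (Step.L (Step.L (Step.L (Step.L (Step.L (Step.L (Step.D (nat_lit 2286) (Step.B (nat_lit 6331) (Step.D (nat_lit 3717) (Step.F (nat_lit 6333) (Step.D (nat_lit 3718) Step.done)))))))))))))))))))) (Scr.cons (nat_lit 12) (nat_lit 1) (Step.L (Step.L (Step.L (Step.L (Step.D (nat_lit 2845) Step.done))))) (Scr.cons (nat_lit 11) (nat_lit 0) (Step.U (nat_lit 400) (Step.U (nat_lit 135) (Step.D (nat_lit 134) (Step.D (nat_lit 398) (Step.D (nat_lit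 1036) Step.done))))) (Scr.cons (nat_lit 14) (nat_lit 6) (Step.U (nat_lit 2845) (Step.L (Step.L (Step.L (Step.L (Step.L (Step.L (Step.L (Step.L (Step.L (Step.L (Step.L (Step.D (nat_lit 957) (Step.F (nat_lit 1146) (Step.U (nat_lit 1035) (Step.D (nat_lit 1036) (Step.F (nat_lit 10792) (Step.D (nat_lit 1037) (Step.D (nat_lit 2208) (Step.D (nat_lit 4177) Step.done)))))))))))))))))))) (Scr.cons (nat_lit 4) (nat_lit 0) (Step.B (nat_lit 10793) (Step.U (nat_lit 4177) (Step.U (nat_lit 2208) (Step.D (nat_lit 2209) (Step.D (nat_lit 4179) Step.done))))) (Scr.cons (nat_lit 6) (nat_lit 1) (Step.U (nat_lit 9469) (Step.F (nat_lit 10789) (Step.B (nat_lit 10790) (Step.U (nat_lit 3718) (Step.U (nat_lit 1914) (Step.L (Step.L (Step.B (nat_lit 10791) (Step.B (nat_lit 10794) (Step.D (nat_lit 7054) (Step.D (nat_lit 10178) Step.done))))))))))) (Scr.cons (nat_lit 1) (nat_lit 0) (Step.F (nat_lit 2815) (Step.B (nat_lit 9788) (Step.L Step.done))) (Scr.cons (nat_lit 1) (nat_lit 0) (Step.D (nat_lit 840)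 (Step.B (nat_lit 10796) (Step.L Step.done))) (Scr.cons (nat_lit 0) (nat_lit 1) (Step.U (nat_lit 839) (Step.B (nat_lit 10797) (Step.L Step.done))) (Scr.cons (nat_lit 1) (nat_lit 0) (Step.U (nat_lit 1844) (Step.B (nat_lit 10798) (Step.L Step.done))) (Scr.cons (nat_lit 1) (nat_lit 0) (Step.U (nat_lit 3596) (Step.B (nat_lit 10799) (Step.L Step.done))) (Scr.cons (nat_lit 0) (nat_lit 1) (Step.U (nat_lit 6295) (Step.B (nat_lit 10800) (Step.L Step.done))) (Scr.cons (nat_lit 1) (nat_lit 0) (Step.U (nat_lit 9469) (Step.B (nat_lit 10801) (Step.D (nat_lit 6147) Step.done))) Scr.nil))))))))))))))))))))))))))))))))))))))))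
noncomputable def s270 : Scr := (Scr.cons (nat_lit 0) (nat_lit 1) (Step.F (nat_lit 10795) (Step.B (nat_lit 10802) (Step.D (nat_lit 9310) Step.done))) (Scr.cons (nat_lit 1) (nat_lit 0) (Step.D (nat_lit 10178) (Step.B (nat_lit 10803) Step.done)) (Scr.cons (nat_lit 11) (nat_lit 0) (Step.U (nat_lit 9311) (Step.U (nat_lit 6147) (Step.L (Step.D (nat_lit 9309) (Step.D (nat_lit 11688) Step.done))))) (Scr.cons (nat_lit 11) (nat_lit 0) (Step.L (Step.L (Step.L (Step.L (Step.D (nat_lit 9804) Step.done))))) (Scr.cons (nat_lit 11) (nat_lit 0) (Step.U (nat_lit 6069) (Step.U (nat_lit 3455) (Step.D (nat_lit 3454) (Step.D (nat_lit 6067) (Step.D (nat_lit 9219) Step.done))))) (Scr.cons (nat_lit 12) (nat_lit 1) (Step.U (nat_lit 781) (Step.L (Step.L (Step.D (nat_lit 781) (Step.D (nat_lit 1757) Step.done))))) (Scr.cons (nat_lit 12) (nat_lit 1) (Step.L (Step.L (Step.L (Step.L (Step.D (nat_lit 282) Step.done))))) (Scr.cons (nat_lit 8) (nat_lit 1) (Step.U (nat_lit 283) (Step.U (nat_lit 86) (Step.L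 (Step.L (Step.L (Step.L (Step.L (Step.L (Step.L (Step.L (Step.L (Step.L (Step.L (Step.B (nat_lit 10809) (Step.D (nat_lit 778) Step.done))))))))))))))) (Scr.cons (nat_lit 12) (nat_lit 0) (Step.B (nat_lit 10810) (Step.U (nat_lit 778) (Step.F (nat_lit 10809) (Step.D (nat_lit 282) (Step.D (nat_lit 778) Step.done))))) (Scr.cons (nat_lit 13) (nat_lit 0) (Step.U (nat_lit 3454) (Step.F (nat_lit 10808) (Step.U (nat_lit 781) (Step.L (Step.L (Step.D (nat_lit 86) (Step.D (nat_lit 283) (Step.B (nat_lit 10811) (Step.D (nat_lit 1753) (Step.D (nat_lit 3444) (Step.D (nat_lit 6052) Step.done))))))))))) (Scr.cons (nat_lit 12) (nat_lit 4) (Step.L (Step.L (Step.L (Step.L (Step.D (nat_lit 86) Step.done))))) (Scr.cons (nat_lit 12) (nat_lit 1) (Step.U (nat_lit 1753) (Step.F (nat_lit 10811) (Step.B (nat_lit 10810) (Step.D (nat_lit 1753) (Step.D (nat_lit 3444) Step.done))))) (Scr.cons (nat_lit 6) (nat_lit 3) (Step.U (nat_lit 3454) (Step.U (nat_lit 1757) (Step.U (nat_lit 781) (Step.L (Step.L (Step.B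 (nat_lit 10813) (Step.D (nat_lit 283) (Step.B (nat_lit 10810) (Step.D (nat_lit 1753) (Step.B (nat_lit 10814) (Step.D (nat_lit 6052) Step.done))))))))))) (Scr.cons (nat_lit 12) (nat_lit 4) (Step.U (nat_lit 6067) (Step.B (nat_lit 10812) (Step.F (nat_lit 10815) (Step.D (nat_lit 6067) (Step.D (nat_lit 9218) Step.done))))) (Scr.cons (nat_lit 12) (nat_lit 4) (Step.U (nat_lit 780) (Step.L (Step.L (Step.D (nat_lit 780) (Step.D (nat_lit 1755) Step.done))))) (Scr.cons (nat_lit 12) (nat_lit 4) (Step.U (nat_lit 1756) (Step.D (nat_lit 1755) (Step.F (nat_lit 10817) (Step.D (nat_lit 1756) (Step.D (nat_lit 3452) Step.done))))) (Scr.cons (nat_lit 12) (nat_lit 4) (Step.U (nat_lit 376) (Step.L (Step.L (Step.D (nat_lit 376) (Step.D (nat_lit 990) Step.done))))) (Scr.cons (nat_lit 12) (nat_lit 4) (Step.U (nat_lit 991) (Step.D (nat_lit 990) (Step.F (nat_lit 10819) (Step.D (nat_lit 991) (Step.D (nat_lit 2117) Step.done))))) (Scr.cons (nat_lit 12) (nat_lit 1) (Step.U (nat_lit 4042) (Step.F (nat_lit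 10820) (Step.D (nat_lit 2117) (Step.D (nat_lit 4042) (Step.D (nat_lit 6891) Step.done))))) (Scr.cons (nat_lit 12) (nat_lit 1) (Step.U (nat_lit 6892) (Step.D (nat_lit 6891) (Step.F (nat_lit 10821) (Step.D (nat_lit 6892) (Step.D (nat_lit 10026) Step.done))))) (Scr.cons (nat_lit 12) (nat_lit 4) (Step.U (nat_lit 395) (Step.F (nat_lit 10768) (Step.D (nat_lit 133) (Step.D (nat_lit 395) (Step.D (nat_lit 1030) Step.done))))) (Scr.cons (nat_lit 12) (nat_lit 4) (Step.U (nat_lit 1031) (Step.D (nat_lit 1030) (Step.F (nat_lit 10823) (Step.D (nat_lit 1031) (Step.D (nat_lit 2199) Step.done))))) (Scr.cons (nat_lit 0) (nat_lit 1) (Step.B (nat_lit 10747) (Step.B (nat_lit 10761) (Step.D (nat_lit 2199) Step.done))) (Scr.cons (nat_lit 0) (nat_lit 0) (Step.B (nat_lit 10824) (Step.F (nat_lit 10825) Step.done)) (Scr.cons (nat_lit 11) (nat_lit 0) (Step.U (nat_lit 2158) (Step.U (nat_lit 1010) (Step.L (Step.D (nat_lit 2157) (Step.D (nat_lit 4114) Step.done))))) (Scr.cons (nat_lit 12) (nat_lit 1)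 (Step.U (nat_lit 2158) (Step.F (nat_lit 10770) (Step.B (nat_lit 10769) (Step.D (nat_lit 2158) (Step.D (nat_lit 4115) Step.done))))) (Scr.cons (nat_lit 12) (nat_lit 1) (Step.F (nat_lit 10827) (Step.D (nat_lit 4115) (Step.F (nat_lit 10828) (Step.B (nat_lit 10827) (Step.D (nat_lit 6977) Step.done))))) (Scr.cons (nat_lit 11) (nat_lit 0) (Step.U (nat_lit 4127) (Step.U (nat_lit 2168) (Step.D (nat_lit 2167) (Step.D (nat_lit 4126) (Step.D (nat_lit 6989) Step.done))))) (Scr.cons (nat_lit 12) (nat_lit 4) (Step.U (nat_lit 37) (Step.D (nat_lit 36) (Step.F (nat_lit 9951) (Step.D (nat_lit 37) (Step.D (nat_lit 130) Step.done))))) (Scr.cons (nat_lit 12) (nat_lit 1) (Step.U (nat_lit 390) (Step.F (nat_lit 10831) (Step.D (nat_lit 130) (Step.D (nat_lit 390) (Step.D (nat_lit 1017) Step.done))))) (Scr.cons (nat_lit 16) (nat_lit 2) (Step.F (nat_lit 10830) (Step.U (nat_lit 4127) (Step.U (nat_lit 2168) (Step.F (nat_lit 10832) (Step.U (nat_lit 390) (Step.F (nat_lit 10831) (Step.D (nat_lit 131)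 (Step.F (nat_lit 3146) (Step.L (Step.L (Step.L (Step.L (Step.L (Step.L (Step.L (Step.L (Step.L (Step.L (Step.L (Step.D (nat_lit 2157) (Step.D (nat_lit 4114) (Step.D (nat_lit 6977) (Step.D (nat_lit 10111) Step.done))))))))))))))))))))))) (Scr.cons (nat_lit 12) (nat_lit 4) (Step.U (nat_lit 10111) (Step.F (nat_lit 10829) (Step.D (nat_lit 6977) (Step.D (nat_lit 10111) (Step.F (nat_lit 10833) Step.done))))) (Scr.cons (nat_lit 12) (nat_lit 1) (Step.U (nat_lit 1012) (Step.F (nat_lit 10113) (Step.D (nat_lit 386) (Step.D (nat_lit 1012) (Step.D (nat_lit 2161) Step.done))))) (Scr.cons (nat_lit 6) (nat_lit 3) (Step.U (nat_lit 2167) (Step.U (nat_lit 1017) (Step.U (nat_lit 390) (Step.F (nat_lit 10831) (Step.U (nat_lit 37) (Step.B (nat_lit 9951) (Step.D (nat_lit 128) (Step.D (nat_lit 386) (Step.D (nat_lit 1012) (Step.B (nat_lit 10835) (Step.D (nat_lit 4119) Step.done))))))))))) (Scr.cons (nat_lit 0) (nat_lit 1) (Step.U (nat_lit 1000) (Step.B (nat_lit 10048) (Step.L Step.done))) (Scr.cons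 (nat_lit 1) (nat_lit 0) (Step.F (nat_lit 10115) (Step.B (nat_lit 10837) (Step.L Step.done))) (Scr.cons (nat_lit 1) (nat_lit 0) (Step.U (nat_lit 1012) (Step.B (nat_lit 10838) (Step.L Step.done))) (Scr.cons (nat_lit 0) (nat_lit 1) (Step.U (nat_lit 2161) (Step.B (nat_lit 10839) (Step.L Step.done))) (Scr.cons (nat_lit 1) (nat_lit 1) (Step.U (nat_lit 4119) (Step.B (nat_lit 10840) (Step.L Step.done))) (Scr.cons (nat_lit 0) (nat_lit 1) (Step.B (nat_lit 10836) (Step.B (nat_lit 10841) (Step.L Step.done))) Scr.nil))))))))))))))))))))))))))))))))))))))))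
noncomputable def s271 : Scr := (Scr.cons (nat_lit 1) (nat_lit 1) (Step.U (nat_lit 4126) (Step.B (nat_lit 10842) (Step.L Step.done))) (Scr.cons (nat_lit 1) (nat_lit 1) (Step.U (nat_lit 6989) (Step.B (nat_lit 10843) (Step.L Step.done))) (Scr.cons (nat_lit 0) (nat_lit 1) (Step.B (nat_lit 10834) (Step.B (nat_lit 10844) (Step.L Step.done))) (Scr.cons (nat_lit 1) (nat_lit 0) (Step.D (nat_lit 10111) (Step.B (nat_lit 10845) (Step.L Step.done))) (Scr.cons (nat_lit 0) (nat_lit 1) (Step.B (nat_lit 10829) (Step.B (nat_lit 10846) (Step.D (nat_lit 992) Step.done))) (Scr.cons (nat_lit 1) (nat_lit 1) (Step.B (nat_lit 10827) (Step.B (nat_lit 10847) (Step.D (nat_lit 2119) Step.done))) (Scr.cons (nat_lit 1) (nat_lit 1) (Step.D (nat_lit 2158) (Step.B (nat_lit 10848) (Step.D (nat_lit 4043) Step.done))) (Scr.cons (nat_lit 1) (nat_lit 1) (Step.D (nat_lit 4043) (Step.F (nat_lit 10849) Step.done)) (Scr.cons (nat_lit 11) (nat_lit 0) (Step.L (Step.L (Step.D (nat_lit 376) (Step.D (nat_lit 991)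 (Step.D (nat_lit 2118) Step.done))))) (Scr.cons (nat_lit 7) (nat_lit 0) (Step.L (Step.L (Step.L (Step.L (Step.D (nat_lit 284) (Step.D (nat_lit 784) (Step.F (nat_lit 10826) (Step.U (nat_lit 1031) (Step.U (nat_lit 395) (Step.D (nat_lit 396) (Step.B (nat_lit 10770) (Step.F (nat_lit 10850) (Step.U (nat_lit 2119) (Step.F (nat_lit 99) (Step.L (Step.B (nat_lit 10851) (Step.U (nat_lit 2118) (Step.B (nat_lit 10820) (Step.D (nat_lit 4042) (Step.D (nat_lit 6892) (Step.D (nat_lit 10026) Step.done))))))))))))))))))))) (Scr.cons (nat_lit 0) (nat_lit 1) (Step.B (nat_lit 10822) (Step.F (nat_lit 10852) (Step.L Step.done))) (Scr.cons (nat_lit 1) (nat_lit 1) (Step.D (nat_lit 6892) (Step.B (nat_lit 10853) (Step.D (nat_lit 780) Step.done))) (Scr.cons (nat_lit 1) (nat_lit 1) (Step.D (nat_lit 4042) (Step.B (nat_lit 10854) (Step.D (nat_lit 1756) Step.done))) (Scr.cons (nat_lit 0) (nat_lit 1) (Step.B (nat_lit 10820) (Step.B (nat_lit 10855) (Step.D (nat_lit 3452) Step.done))) (Scr.cons (nat_lit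 0) (nat_lit 0) (Step.B (nat_lit 10818) (Step.F (nat_lit 10856) Step.done)) (Scr.cons (nat_lit 11) (nat_lit 0) (Step.U (nat_lit 1758) (Step.U (nat_lit 781) (Step.D (nat_lit 780) (Step.D (nat_lit 1756) (Step.D (nat_lit 3453) Step.done))))) (Scr.cons (nat_lit 14) (nat_lit 5) (Step.U (nat_lit 4053) (Step.U (nat_lit 2123) (Step.U (nat_lit 993) (Step.L (Step.L (Step.L (Step.L (Step.L (Step.L (Step.L (Step.D (nat_lit 376) (Step.D (nat_lit 991) (Step.F (nat_lit 10857) (Step.D (nat_lit 3453) (Step.F (nat_lit 10858) (Step.U (nat_lit 1758) (Step.B (nat_lit 10808) (Step.D (nat_lit 3454) (Step.D (nat_lit 6067) (Step.D (nat_lit 9218) (Step.D (nat_lit 11642) Step.done))))))))))))))))))))) (Scr.cons (nat_lit 11) (nat_lit 0) (Step.U (nat_lit 4053) (Step.U (nat_lit 2123) (Step.D (nat_lit 2122) (Step.D (nat_lit 4051) (Step.D (nat_lit 6904) Step.done))))) (Scr.cons (nat_lit 1) (nat_lit 0) (Step.D (nat_lit 11642) (Step.F (nat_lit 10859) (Step.B (nat_lit 10860) Step.done))) (Scr.cons (nat_lit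 0) (nat_lit 1) (Step.B (nat_lit 10816) (Step.B (nat_lit 10861) (Step.D (nat_lit 10037) Step.done))) (Scr.cons (nat_lit 0) (nat_lit 1) (Step.D (nat_lit 10037) (Step.F (nat_lit 10862) Step.done)) (Scr.cons (nat_lit 12) (nat_lit 1) (Step.L (Step.L (Step.L (Step.L (Step.D (nat_lit 993) Step.done))))) (Scr.cons (nat_lit 12) (nat_lit 4) (Step.U (nat_lit 2122) (Step.F (nat_lit 10864) (Step.D (nat_lit 993) (Step.D (nat_lit 2122) (Step.D (nat_lit 4050) Step.done))))) (Scr.cons (nat_lit 12) (nat_lit 4) (Step.U (nat_lit 4051) (Step.D (nat_lit 4050) (Step.F (nat_lit 10865) (Step.D (nat_lit 4051) (Step.D (nat_lit 6903) Step.done))))) (Scr.cons (nat_lit 11) (nat_lit 0) (Step.L (Step.L (Step.L (Step.L (Step.D (nat_lit 4163) Step.done))))) (Scr.cons (nat_lit 12) (nat_lit 1) (Step.L (Step.L (Step.L (Step.L (Step.D (nat_lit 4164) Step.done))))) (Scr.cons (nat_lit 12) (nat_lit 1) (Step.F (nat_lit 10867) (Step.D (nat_lit 4164) (Step.F (nat_lit 10868) (Step.B (nat_lit 10867) (Step.D (nat_lit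 7033) Step.done))))) (Scr.cons (nat_lit 11) (nat_lit 0) (Step.U (nat_lit 1018) (Step.U (nat_lit 390) (Step.D (nat_lit 389) (Step.D (nat_lit 1016) (Step.D (nat_lit 2166) Step.done))))) (Scr.cons (nat_lit 12) (nat_lit 1) (Step.U (nat_lit 1018) (Step.D (nat_lit 1017) (Step.F (nat_lit 10832) (Step.D (nat_lit 1018) (Step.D (nat_lit 2169) Step.done))))) (Scr.cons (nat_lit 12) (nat_lit 1) (Step.F (nat_lit 10870) (Step.D (nat_lit 2169) (Step.F (nat_lit 10871) (Step.B (nat_lit 10870) (Step.D (nat_lit 4125) Step.done))))) (Scr.cons (nat_lit 14) (nat_lit 2) (Step.F (nat_lit 10869) (Step.F (nat_lit 10867) (Step.L (Step.L (Step.L (Step.L (Step.L (Step.L (Step.L (Step.L (Step.L (Step.L (Step.D (nat_lit 4) (Step.D (nat_lit 37) (Step.D (nat_lit 130) (Step.D (nat_lit 389) (Step.D (nat_lit 1016) (Step.D (nat_lit 2166) (Step.B (nat_lit 10872) (Step.D (nat_lit 6988) Step.done)))))))))))))))))))) (Scr.cons (nat_lit 0) (nat_lit 1) (Step.B (nat_lit 404) (Step.B (nat_lit 10049) (Step.L Step.done)))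 (Scr.cons (nat_lit 1) (nat_lit 1) (Step.D (nat_lit 35) (Step.B (nat_lit 10874) (Step.D (nat_lit 4) Step.done))) (Scr.cons (nat_lit 1) (nat_lit 1) (Step.U (nat_lit 37) (Step.F (nat_lit 10875) (Step.L Step.done))) (Scr.cons (nat_lit 0) (nat_lit 1) (Step.U (nat_lit 130) (Step.B (nat_lit 10876) (Step.L Step.done))) (Scr.cons (nat_lit 1) (nat_lit 1) (Step.U (nat_lit 389) (Step.B (nat_lit 10877) (Step.L Step.done))) (Scr.cons (nat_lit 1) (nat_lit 1) (Step.U (nat_lit 1016) (Step.B (nat_lit 10878) (Step.L Step.done))) (Scr.cons (nat_lit 1) (nat_lit 1) (Step.U (nat_lit 2166) (Step.B (nat_lit 10879) (Step.L Step.done))) (Scr.cons (nat_lit 0) (nat_lit 1) (Step.U (nat_lit 4125) (Step.B (nat_lit 10880) (Step.D (nat_lit 993) Step.done))) (Scr.cons (nat_lit 1) (nat_lit 1) (Step.U (nat_lit 6988) (Step.B (nat_lit 10881) (Step.D (nat_lit 2122) Step.done))) Scr.nil))))))))))))))))))))))))))))))))))))))))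
noncomputable def s272 : Scr := (Scr.cons (nat_lit 1) (nat_lit 1) (Step.B (nat_lit 10873) (Step.B (nat_lit 10882) (Step.D (nat_lit 4051) Step.done))) (Scr.cons (nat_lit 0) (nat_lit 1) (Step.B (nat_lit 10869) (Step.B (nat_lit 10883) (Step.D (nat_lit 6903) Step.done))) (Scr.cons (nat_lit 0) (nat_lit 0) (Step.B (nat_lit 10866) (Step.F (nat_lit 10884) Step.done)) (Scr.cons (nat_lit 9) (nat_lit 3) (Step.U (nat_lit 11643) (Step.U (nat_lit 9220) (Step.U (nat_lit 6068) (Step.D (nat_lit 6069) (Step.B (nat_lit 10807) (Step.U (nat_lit 9219) (Step.F (nat_lit 10863) (Step.U (nat_lit 6904) (Step.B (nat_lit 10885) (Step.U (nat_lit 4163) (Step.L (Step.L (Step.L (Step.L (Step.L (Step.L (Step.L (Step.L (Step.L (Step.L (Step.L (Step.L (Step.L (Step.B (nat_lit 10806) Step.done)))))))))))))))))))))))) (Scr.cons (nat_lit 0) (nat_lit 1) (Step.D (nat_lit 11643) (Step.B (nat_lit 10886) Step.done)) (Scr.cons (nat_lit 7) (nat_lit 0) (Step.U (nat_lit 11688) (Step.U (nat_lit 9309) (Step.L (Step.L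 (Step.L (Step.L (Step.L (Step.L (Step.L (Step.L (Step.L (Step.L (Step.L (Step.L (Step.L (Step.L (Step.B (nat_lit 10806) (Step.F (nat_lit 10887) (Step.U (nat_lit 9220) (Step.D (nat_lit 9221) (Step.D (nat_lit 11644) Step.done))))))))))))))))))))) (Scr.cons (nat_lit 1) (nat_lit 0) (Step.B (nat_lit 10805) (Step.B (nat_lit 10888) Step.done)) (Scr.cons (nat_lit 1) (nat_lit 1) (Step.D (nat_lit 11688) (Step.B (nat_lit 10888) Step.done)) (Scr.cons (nat_lit 12) (nat_lit 4) (Step.U (nat_lit 9309) (Step.L (Step.L (Step.D (nat_lit 9309) (Step.D (nat_lit 11687) Step.done))))) (Scr.cons (nat_lit 12) (nat_lit 1) (Step.U (nat_lit 3455) (Step.F (nat_lit 10808) (Step.D (nat_lit 1757) (Step.D (nat_lit 3455) (Step.D (nat_lit 6068) Step.done))))) (Scr.cons (nat_lit 12) (nat_lit 1) (Step.U (nat_lit 9221) (Step.F (nat_lit 10892) (Step.D (nat_lit 6068) (Step.D (nat_lit 9221) (Step.D (nat_lit 11644) Step.done))))) (Scr.cons (nat_lit 8) (nat_lit 0) (Step.U (nat_lit 11645) (Step.L (Step.L (Step.L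 (Step.L (Step.L (Step.L (Step.L (Step.D (nat_lit 781) (Step.B (nat_lit 10808) (Step.D (nat_lit 3455) (Step.B (nat_lit 10892) (Step.D (nat_lit 9221) (Step.B (nat_lit 10893) (Step.F (nat_lit 10890) (Step.B (nat_lit 10891) Step.done)))))))))))))))) (Scr.cons (nat_lit 0) (nat_lit 0) (Step.B (nat_lit 10891) (Step.F (nat_lit 10894) Step.done)) (Scr.cons (nat_lit 11) (nat_lit 0) (Step.U (nat_lit 3473) (Step.L (Step.L (Step.D (nat_lit 3472) (Step.D (nat_lit 6094) Step.done))))) (Scr.cons (nat_lit 9) (nat_lit 0) (Step.U (nat_lit 2208) (Step.D (nat_lit 2209) (Step.D (nat_lit 4179) (Step.B (nat_lit 10786) (Step.B (nat_lit 10804) (Step.U (nat_lit 9310) (Step.D (nat_lit 9311) (Step.B (nat_lit 10889) (Step.F (nat_lit 10890) (Step.B (nat_lit 10895) (Step.U (nat_lit 11645) (Step.L (Step.L (Step.L (Step.L (Step.L (Step.L (Step.L (Step.D (nat_lit 3473) (Step.B (nat_lit 10896) (Step.U (nat_lit 6094) (Step.B (nat_lit 10781) (Step.D (nat_lit 9251) (Step.B (nat_lit 10782) Step.done))))))))))))))))))))))))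 (Scr.cons (nat_lit 0) (nat_lit 1) (Step.B (nat_lit 10782) (Step.F (nat_lit 10897) (Step.D (nat_lit 4176) Step.done))) (Scr.cons (nat_lit 1) (nat_lit 1) (Step.D (nat_lit 9251) (Step.B (nat_lit 10898) (Step.D (nat_lit 7052) Step.done))) (Scr.cons (nat_lit 1) (nat_lit 1) (Step.D (nat_lit 7052) (Step.F (nat_lit 10899) Step.done)) (Scr.cons (nat_lit 12) (nat_lit 4) (Step.U (nat_lit 2208) (Step.F (nat_lit 10784) (Step.D (nat_lit 1037) (Step.D (nat_lit 2208) (Step.D (nat_lit 4176) Step.done))))) (Scr.cons (nat_lit 12) (nat_lit 1) (Step.F (nat_lit 10793) (Step.F (nat_lit 10791) (Step.D (nat_lit 2845) (Step.B (nat_lit 10793) (Step.D (nat_lit 7053) Step.done))))) (Scr.cons (nat_lit 15) (nat_lit 1) (Step.F (nat_lit 10902) (Step.F (nat_lit 10793) (Step.F (nat_lit 10791) (Step.L (Step.L (Step.L (Step.L (Step.L (Step.L (Step.L (Step.L (Step.L (Step.L (Step.D (nat_lit 6465) (Step.D (nat_lit 9610) Step.done))))))))))))))) (Scr.cons (nat_lit 13) (nat_lit 1) (Step.L (Step.L (Step.D (nat_lit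 3472) (Step.B (nat_lit 10781) (Step.F (nat_lit 10900) (Step.F (nat_lit 10901) (Step.D (nat_lit 4177) (Step.B (nat_lit 10902) (Step.B (nat_lit 10903) (Step.F (nat_lit 10779) (Step.D (nat_lit 9611) (Step.B (nat_lit 10780) Step.done)))))))))))) (Scr.cons (nat_lit 0) (nat_lit 1) (Step.B (nat_lit 10780) (Step.F (nat_lit 10904) (Step.L Step.done))) (Scr.cons (nat_lit 1) (nat_lit 1) (Step.U (nat_lit 11783) (Step.B (nat_lit 10905) (Step.L Step.done))) (Scr.cons (nat_lit 1) (nat_lit 1) (Step.B (nat_lit 10778) (Step.B (nat_lit 10906) (Step.L Step.done))) (Scr.cons (nat_lit 1) (nat_lit 1) (Step.D (nat_lit 9612) (Step.B (nat_lit 10907) (Step.L Step.done))) (Scr.cons (nat_lit 1) (nat_lit 0) (Step.D (nat_lit 6466) (Step.B (nat_lit 10908) Step.done)) (Scr.cons (nat_lit 12) (nat_lit 1) (Step.L (Step.L (Step.L (Step.L (Step.D (nat_lit 11664) Step.done))))) (Scr.cons (nat_lit 0) (nat_lit 1) (Step.D (nat_lit 11687) (Step.F (nat_lit 10894) Step.done)) (Scr.cons (nat_lit 13) (nat_lit 2) (Step.F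 (nat_lit 10910) (Step.L (Step.L (Step.L (Step.L (Step.D (nat_lit 11645) (Step.F (nat_lit 10911) (Step.U (nat_lit 9309) (Step.L (Step.L (Step.L (Step.L Step.done)))))))))))) (Scr.cons (nat_lit 0) (nat_lit 0) (Step.B (nat_lit 10910) (Step.B (nat_lit 10912) Step.done)) (Scr.cons (nat_lit 12) (nat_lit 1) (Step.L (Step.L (Step.L (Step.L (Step.D (nat_lit 10105) Step.done))))) (Scr.cons (nat_lit 12) (nat_lit 4) (Step.U (nat_lit 2157) (Step.L (Step.L (Step.D (nat_lit 2157) (Step.D (nat_lit 4113) Step.done))))) (Scr.cons (nat_lit 12) (nat_lit 1) (Step.U (nat_lit 6976) (Step.F (nat_lit 10915) (Step.D (nat_lit 4113) (Step.D (nat_lit 6976) (Step.D (nat_lit 10110) Step.done))))) (Scr.cons (nat_lit 16) (nat_lit 5) (Step.F (nat_lit 10916) (Step.U (nat_lit 6976) (Step.F (nat_lit 10915) (Step.D (nat_lit 4114) (Step.F (nat_lit 10827) (Step.U (nat_lit 2158) (Step.F (nat_lit 10770) (Step.U (nat_lit 396) (Step.F (nat_lit 10768) (Step.L (Step.L (Step.L (Step.L (Step.L (Step.L (Step.D (nat_lit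 142) (Step.D (nat_lit 413) (Step.F (nat_lit 10074) (Step.L (Step.L (Step.L (Step.L (Step.D (nat_lit 7092) Step.done))))))))))))))))))))))) (Scr.cons (nat_lit 11) (nat_lit 0) (Step.U (nat_lit 7093) (Step.L (Step.L (Step.D (nat_lit 7092) (Step.F (nat_lit 10917) Step.done))))) (Scr.cons (nat_lit 1) (nat_lit 0) (Step.D (nat_lit 4114) (Step.B (nat_lit 10847) (Step.D (nat_lit 2120) Step.done))) (Scr.cons (nat_lit 0) (nat_lit 1) (Step.U (nat_lit 4113) (Step.B (nat_lit 10919) (Step.D (nat_lit 4044) Step.done))) (Scr.cons (nat_lit 1) (nat_lit 0) (Step.U (nat_lit 6976) (Step.B (nat_lit 10920) (Step.D (nat_lit 6893) Step.done))) (Scr.cons (nat_lit 0) (nat_lit 1) (Step.U (nat_lit 10110) (Step.B (nat_lit 10921) (Step.D (nat_lit 10027) Step.done))) Scr.nil))))))))))))))))))))))))))))))))))))))))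
noncomputable def s273 : Scr := (Scr.cons (nat_lit 1) (nat_lit 0) (Step.B (nat_lit 10918) (Step.B (nat_lit 10922) Step.done)) (Scr.cons (nat_lit 1) (nat_lit 1) (Step.F (nat_lit 10917) (Step.B (nat_lit 10922) Step.done)) (Scr.cons (nat_lit 12) (nat_lit 1) (Step.F (nat_lit 10917) (Step.F (nat_lit 10916) (Step.D (nat_lit 10110) (Step.B (nat_lit 10917) (Step.D (nat_lit 10200) Step.done))))) (Scr.cons (nat_lit 9) (nat_lit 4) (Step.U (nat_lit 10028) (Step.U (nat_lit 6894) (Step.L (Step.L (Step.L (Step.L (Step.L (Step.L (Step.L (Step.L (Step.L (Step.L (Step.L (Step.L (Step.L (Step.L (Step.L (Step.L (Step.L (Step.L (Step.D (nat_lit 7093) (Step.B (nat_lit 10923) (Step.F (nat_lit 10924) (Step.B (nat_lit 10925) Step.done)))))))))))))))))))))))) (Scr.cons (nat_lit 0) (nat_lit 1) (Step.D (nat_lit 10200) (Step.F (nat_lit 10926) Step.done)) (Scr.cons (nat_lit 15) (nat_lit 1) (Step.L (Step.L (Step.L (Step.L (Step.L (Step.L (Step.L (Step.L (Step.L (Step.D (nat_lit 421) (Step.D (nat_lit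 1080) (Step.D (nat_lit 2274) (Step.D (nat_lit 4275) (Step.D (nat_lit 7170) (Step.D (nat_lit 10268) Step.done))))))))))))))) (Scr.cons (nat_lit 1) (nat_lit 1) (Step.B (nat_lit 8934) (Step.B (nat_lit 10139) (Step.D (nat_lit 942) Step.done))) (Scr.cons (nat_lit 1) (nat_lit 1) (Step.U (nat_lit 2030) (Step.F (nat_lit 10929) (Step.L Step.done))) (Scr.cons (nat_lit 1) (nat_lit 1) (Step.U (nat_lit 3904) (Step.B (nat_lit 10930) (Step.L Step.done))) (Scr.cons (nat_lit 0) (nat_lit 1) (Step.B (nat_lit 10078) (Step.B (nat_lit 10931) (Step.L Step.done))) (Scr.cons (nat_lit 1) (nat_lit 1) (Step.D (nat_lit 2232) (Step.B (nat_lit 10932) (Step.L Step.done))) (Scr.cons (nat_lit 0) (nat_lit 1) (Step.B (nat_lit 10075) (Step.B (nat_lit 10933) (Step.L Step.done))) (Scr.cons (nat_lit 1) (nat_lit 1) (Step.B (nat_lit 10074) (Step.B (nat_lit 10934) (Step.D (nat_lit 421) Step.done))) (Scr.cons (nat_lit 0) (nat_lit 1) (Step.U (nat_lit 1080) (Step.F (nat_lit 10935) (Step.L Step.done))) (Scr.cons (nat_lit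 1) (nat_lit 1) (Step.U (nat_lit 2274) (Step.B (nat_lit 10936) (Step.L Step.done))) (Scr.cons (nat_lit 0) (nat_lit 1) (Step.U (nat_lit 4275) (Step.B (nat_lit 10937) (Step.L Step.done))) (Scr.cons (nat_lit 1) (nat_lit 1) (Step.U (nat_lit 7170) (Step.B (nat_lit 10938) (Step.L Step.done))) (Scr.cons (nat_lit 0) (nat_lit 1) (Step.U (nat_lit 10268) (Step.B (nat_lit 10939) (Step.D (nat_lit 7091) Step.done))) (Scr.cons (nat_lit 1) (nat_lit 1) (Step.B (nat_lit 10928) (Step.B (nat_lit 10940) (Step.D (nat_lit 10199) Step.done))) (Scr.cons (nat_lit 1) (nat_lit 1) (Step.D (nat_lit 10199) (Step.F (nat_lit 10941) Step.done)) (Scr.cons (nat_lit 13) (nat_lit 2) (Step.F (nat_lit 10914) (Step.L (Step.L (Step.L (Step.D (nat_lit 6894) (Step.D (nat_lit 10028) (Step.F (nat_lit 10927) (Step.U (nat_lit 7092) (Step.D (nat_lit 7091) (Step.B (nat_lit 10942) (Step.L (Step.L Step.done)))))))))))) (Scr.cons (nat_lit 0) (nat_lit 0) (Step.B (nat_lit 10914) (Step.B (nat_lit 10943) Step.done)) (Scr.cons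 (nat_lit 12) (nat_lit 1) (Step.U (nat_lit 7543) (Step.L (Step.L (Step.D (nat_lit 7543) (Step.D (nat_lit 10587) Step.done))))) (Scr.cons (nat_lit 1) (nat_lit 0) (Step.D (nat_lit 9533) (Step.F (nat_lit 9814) (Step.B (nat_lit 4415) Step.done))) (Scr.cons (nat_lit 0) (nat_lit 1) (Step.B (nat_lit 10945) (Step.F (nat_lit 10946) (Step.D (nat_lit 9532) Step.done))) (Scr.cons (nat_lit 0) (nat_lit 1) (Step.D (nat_lit 9532) (Step.F (nat_lit 10947) Step.done)) (Scr.cons (nat_lit 1) (nat_lit 1) (Step.U (nat_lit 6382) (Step.B (nat_lit 9881) (Step.D (nat_lit 3806) Step.done))) (Scr.cons (nat_lit 0) (nat_lit 1) (Step.F (nat_lit 10948) (Step.B (nat_lit 10949) (Step.D (nat_lit 6575) Step.done))) (Scr.cons (nat_lit 1) (nat_lit 0) (Step.B (nat_lit 4414) (Step.B (nat_lit 10950) (Step.D (nat_lit 9734) Step.done))) (Scr.cons (nat_lit 1) (nat_lit 0) (Step.D (nat_lit 9734) (Step.F (nat_lit 10951) Step.done)) (Scr.cons (nat_lit 6) (nat_lit 1) (Step.L (Step.L (Step.L (Step.L (Step.D (nat_lit 3806)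 (Step.D (nat_lit 6575) (Step.B (nat_lit 10952) (Step.L (Step.L (Step.L (Step.L Step.done))))))))))) (Scr.cons (nat_lit 12) (nat_lit 1) (Step.L (Step.L (Step.L (Step.L (Step.D (nat_lit 11072) Step.done))))) (Scr.cons (nat_lit 6) (nat_lit 2) (Step.U (nat_lit 11784) (Step.L (Step.L (Step.L (Step.L (Step.L (Step.L (Step.L (Step.L (Step.L (Step.L (Step.B (nat_lit 10954) Step.done)))))))))))) (Scr.cons (nat_lit 1) (nat_lit 0) (Step.D (nat_lit 11784) (Step.B (nat_lit 10955) Step.done)) (Scr.cons (nat_lit 15) (nat_lit 0) (Step.L (Step.D (nat_lit 11072) (Step.F (nat_lit 10956) (Step.L (Step.L (Step.L (Step.L (Step.L (Step.L (Step.L (Step.L (Step.L (Step.L (Step.L (Step.L Step.done))))))))))))))) (Scr.cons (nat_lit 12) (nat_lit 4) (Step.L (Step.L (Step.L (Step.L (Step.D (nat_lit 11748) Step.done))))) (Scr.cons (nat_lit 12) (nat_lit 4) (Step.L (Step.L (Step.L (Step.L (Step.D (nat_lit 11829) Step.done))))) (Scr.cons (nat_lit 6) (nat_lit 3) (Step.L (Step.L (Step.L (Step.L (Step.L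 (Step.L (Step.L (Step.L (Step.L (Step.B (nat_lit 1946) (Step.D (nat_lit 4625) Step.done))))))))))) (Scr.cons (nat_lit 11) (nat_lit 0) (Step.L (Step.L (Step.D (nat_lit 338) (Step.D (nat_lit 913) (Step.D (nat_lit 1971) Step.done))))) (Scr.cons (nat_lit 1) (nat_lit 0) (Step.D (nat_lit 7585) (Step.B (nat_lit 10062) (Step.B (nat_lit 10961) Step.done))) Scr.nil))))))))))))))))))))))))))))))))))))))))
noncomputable def s274 : Scr := (Scr.cons (nat_lit 0) (nat_lit 1) (Step.B (nat_lit 10960) (Step.B (nat_lit 10962) (Step.D (nat_lit 3803) Step.done))) (Scr.cons (nat_lit 0) (nat_lit 1) (Step.D (nat_lit 3803) (Step.F (nat_lit 10963) Step.done)) (Scr.cons (nat_lit 6) (nat_lit 0) (Step.L (Step.L (Step.L (Step.L (Step.L (Step.F (nat_lit 10964) (Step.F (nat_lit 10961) (Step.L (Step.L (Step.L (Step.L (Step.D (nat_lit 11829) Step.done)))))))))))) (Scr.cons (nat_lit 0) (nat_lit 1) (Step.B (nat_lit 10959) (Step.F (nat_lit 10965) (Step.D (nat_lit 11748) Step.done))) (Scr.cons (nat_lit 0)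 (nat_lit 0) (Step.B (nat_lit 10958) (Step.F (nat_lit 10966) Step.done)) (Scr.cons (nat_lit 11) (nat_lit 0) (Step.L (Step.L (Step.L (Step.L (Step.D (nat_lit 9689) Step.done))))) (Scr.cons (nat_lit 12) (nat_lit 1) (Step.F (nat_lit 10968) (Step.L (Step.L (Step.B (nat_lit 10968) (Step.D (nat_lit 11809) Step.done))))) (Scr.cons (nat_lit 16) (nat_lit 1) (Step.F (nat_lit 10969) (Step.F (nat_lit 10968) (Step.L (Step.L (Step.L (Step.L (Step.L (Step.L (Step.L (Step.L (Step.L (Step.L (Step.L (Step.L (Step.L (Step.L (Step.L (Step.L (Step.L (Step.L (Step.L (Step.L (Step.D (nat_lit 11728) Step.done))))))))))))))))))))))) (Scr.cons (nat_lit 11) (nat_lit 0) (Step.U (nat_lit 2831) (Step.U (nat_lit 1392) (Step.L (Step.D (nat_lit 2830) (Step.D (nat_lit 5116) Step.done))))) (Scr.cons (nat_lit 12) (nat_lit 1) (Step.U (nat_lit 55) (Step.F (nat_lit 9861) (Step.D (nat_lit 7) (Step.D (nat_lit 55) (Step.D (nat_lit 206) Step.done))))) (Scr.cons (nat_lit 6) (nat_lit 1) (Step.U (nat_lit 1392) (Step.L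 (Step.L (Step.L (Step.L (Step.D (nat_lit 7) (Step.D (nat_lit 55) (Step.B (nat_lit 10972) (Step.D (nat_lit 572) (Step.D (nat_lit 1391) (Step.D (nat_lit 2829) Step.done))))))))))) (Scr.cons (nat_lit 12) (nat_lit 4) (Step.U (nat_lit 572) (Step.F (nat_lit 10972) (Step.D (nat_lit 206) (Step.D (nat_lit 572) (Step.D (nat_lit 1391) Step.done))))) (Scr.cons (nat_lit 13) (nat_lit 2) (Step.U (nat_lit 1392) (Step.L (Step.L (Step.L (Step.L (Step.B (nat_lit 9861) (Step.D (nat_lit 55) (Step.D (nat_lit 206) (Step.D (nat_lit 572) (Step.B (nat_lit 10974) (Step.D (nat_lit 2829) Step.done))))))))))) (Scr.cons (nat_lit 12) (nat_lit 1) (Step.U (nat_lit 2831) (Step.B (nat_lit 10973) (Step.F (nat_lit 10975) (Step.D (nat_lit 2831) (Step.D (nat_lit 5117) Step.done))))) (Scr.cons (nat_lit 12) (nat_lit 1) (Step.F (nat_lit 10971) (Step.D (nat_lit 5117) (Step.F (nat_lit 10976) (Step.B (nat_lit 10971) (Step.D (nat_lit 8131) Step.done))))) (Scr.cons (nat_lit 7) (nat_lit 5) (Step.F (nat_lit 10969) (Step.U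 (nat_lit 9689) (Step.L (Step.L (Step.L (Step.L (Step.L (Step.L (Step.L (Step.L (Step.L (Step.L (Step.L (Step.L (Step.L (Step.D (nat_lit 1392) (Step.D (nat_lit 2831) (Step.B (nat_lit 10971) (Step.B (nat_lit 10977) (Step.D (nat_lit 11108) Step.done)))))))))))))))))))) (Scr.cons (nat_lit 11) (nat_lit 0) (Step.U (nat_lit 3476) (Step.U (nat_lit 1771) (Step.D (nat_lit 1770) (Step.D (nat_lit 3475) (Step.D (nat_lit 6097) Step.done))))) (Scr.cons (nat_lit 1) (nat_lit 0) (Step.U (nat_lit 89) (Step.F (nat_lit 9869) (Step.L Step.done))) (Scr.cons (nat_lit 0) (nat_lit 1) (Step.U (nat_lit 291) (Step.B (nat_lit 10980) (Step.L Step.done))) (Scr.cons (nat_lit 1) (nat_lit 1) (Step.U (nat_lit 795) (Step.B (nat_lit 10981) (Step.L Step.done))) (Scr.cons (nat_lit 0) (nat_lit 1) (Step.F (nat_lit 9577) (Step.B (nat_lit 10982) (Step.L Step.done))) (Scr.cons (nat_lit 1) (nat_lit 1) (Step.U (nat_lit 3475) (Step.B (nat_lit 10983) (Step.L Step.done))) (Scr.cons (nat_lit 1) (nat_lit 1) (Step.U (nat_lit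 6097) (Step.B (nat_lit 10984) (Step.D (nat_lit 2830) Step.done))) (Scr.cons (nat_lit 1) (nat_lit 1) (Step.B (nat_lit 10979) (Step.B (nat_lit 10985) (Step.D (nat_lit 5116) Step.done))) (Scr.cons (nat_lit 0) (nat_lit 1) (Step.U (nat_lit 8131) (Step.F (nat_lit 10986) (Step.D (nat_lit 6098) Step.done))) (Scr.cons (nat_lit 1) (nat_lit 0) (Step.U (nat_lit 11108) (Step.B (nat_lit 10987) (Step.D (nat_lit 9254) Step.done))) (Scr.cons (nat_lit 1) (nat_lit 0) (Step.B (nat_lit 10978) (Step.B (nat_lit 10988) (Step.D (nat_lit 11667) Step.done))) (Scr.cons (nat_lit 1) (nat_lit 1) (Step.F (nat_lit 10970) (Step.B (nat_lit 10989) Step.done)) (Scr.cons (nat_lit 7) (nat_lit 2) (Step.L (Step.L (Step.L (Step.L (Step.L (Step.L (Step.L (Step.L (Step.B (nat_lit 9568) (Step.D (nat_lit 1771) (Step.D (nat_lit 3476) (Step.D (nat_lit 6098) (Step.D (nat_lit 9254) (Step.D (nat_lit 11667) (Step.F (nat_lit 10990) (Step.U (nat_lit 11728) (Step.L (Step.L (Step.L (Step.D (nat_lit 9404) (Step.D (nat_lit 11727)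 Step.done))))))))))))))))))))) (Scr.cons (nat_lit 1) (nat_lit 1) (Step.D (nat_lit 11727) (Step.F (nat_lit 10991) (Step.L Step.done))) (Scr.cons (nat_lit 1) (nat_lit 1) (Step.D (nat_lit 9404) (Step.B (nat_lit 10992) (Step.D (nat_lit 11666) Step.done))) (Scr.cons (nat_lit 1) (nat_lit 1) (Step.D (nat_lit 11666) (Step.F (nat_lit 10993) Step.done)) (Scr.cons (nat_lit 12) (nat_lit 1) (Step.L (Step.L (Step.L (Step.L (Step.D (nat_lit 9295) Step.done))))) (Scr.cons (nat_lit 11) (nat_lit 0) (Step.L (Step.L (Step.L (Step.L (Step.D (nat_lit 8115) Step.done))))) (Scr.cons (nat_lit 15) (nat_lit 0) (Step.U (nat_lit 573) (Step.F (nat_lit 10972) (Step.U (nat_lit 55) (Step.F (nat_lit 9861) (Step.L (Step.L (Step.L (Step.L (Step.L (Step.L (Step.L (Step.L (Step.L (Step.D (nat_lit 568) (Step.D (nat_lit 1380) Step.done))))))))))))))) (Scr.cons (nat_lit 12) (nat_lit 4) (Step.U (nat_lit 1380) (Step.F (nat_lit 770) (Step.D (nat_lit 568) (Step.D (nat_lit 1380) (Step.F (nat_lit 10997) Step.done)))))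 (Scr.cons (nat_lit 1) (nat_lit 0) (Step.U (nat_lit 55) (Step.B (nat_lit 9868) (Step.L Step.done))) (Scr.cons (nat_lit 0) (nat_lit 1) (Step.U (nat_lit 206) (Step.B (nat_lit 10999) (Step.L Step.done))) (Scr.cons (nat_lit 1) (nat_lit 0) (Step.U (nat_lit 573) (Step.B (nat_lit 11000) (Step.L Step.done))) (Scr.cons (nat_lit 0) (nat_lit 1) (Step.B (nat_lit 10998) (Step.B (nat_lit 11001) (Step.L Step.done))) Scr.nil))))))))))))))))))))))))))))))))))))))))
noncomputable def s275 : Scr := (Scr.cons (nat_lit 1) (nat_lit 0) (Step.D (nat_lit 1380) (Step.B (nat_lit 11002) (Step.L Step.done))) (Scr.cons (nat_lit 1) (nat_lit 0) (Step.U (nat_lit 1381) (Step.B (nat_lit 11003) (Step.D (nat_lit 792) Step.done))) (Scr.cons (nat_lit 0) (nat_lit 1) (Step.U (nat_lit 2815) (Step.B (nat_lit 11004) (Step.D (nat_lit 1778) Step.done))) (Scr.cons (nat_lit 1) (nat_lit 1) (Step.U (nat_lit 5101) (Step.B (nat_lit 11005) (Step.D (nat_lit 3486) Step.done))) (Scr.cons (nat_lit 0) (nat_lit 1) (Step.B (nat_lit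 773) (Step.B (nat_lit 11006) (Step.D (nat_lit 6112) Step.done))) (Scr.cons (nat_lit 0) (nat_lit 1) (Step.D (nat_lit 6112) (Step.F (nat_lit 11007) Step.done)) (Scr.cons (nat_lit 11) (nat_lit 0) (Step.U (nat_lit 792) (Step.L (Step.D (nat_lit 288) (Step.D (nat_lit 791) (Step.D (nat_lit 1777) Step.done))))) (Scr.cons (nat_lit 13) (nat_lit 0) (Step.U (nat_lit 92) (Step.L (Step.L (Step.L (Step.L (Step.L (Step.L (Step.L (Step.L (Step.L (Step.D (nat_lit 288) Step.done))))))))))) (Scr.cons (nat_lit 9) (nat_lit 5) (Step.L (Step.B (nat_lit 10996) (Step.U (nat_lit 8115) (Step.L (Step.F (nat_lit 11008) (Step.U (nat_lit 3486) (Step.U (nat_lit 1778) (Step.B (nat_lit 11009) (Step.U (nat_lit 1777) (Step.U (nat_lit 791) (Step.F (nat_lit 11010) (Step.U (nat_lit 92) (Step.L (Step.L (Step.L (Step.L (Step.L (Step.L (Step.L (Step.L (Step.L (Step.L (Step.B (nat_lit 10995) (Step.D (nat_lit 11678) Step.done)))))))))))))))))))))))) (Scr.cons (nat_lit 1) (nat_lit 1) (Step.D (nat_lit 11678) (Step.F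 (nat_lit 11011) (Step.D (nat_lit 11092) Step.done))) (Scr.cons (nat_lit 1) (nat_lit 1) (Step.D (nat_lit 11092) (Step.F (nat_lit 11012) Step.done)) (Scr.cons (nat_lit 13) (nat_lit 3) (Step.L (Step.L (Step.L (Step.L (Step.B (nat_lit 10995) (Step.F (nat_lit 11013) (Step.L (Step.L (Step.L (Step.L (Step.L Step.done))))))))))) (Scr.cons (nat_lit 12) (nat_lit 4) (Step.L (Step.L (Step.L (Step.L (Step.D (nat_lit 11679) Step.done))))) (Scr.cons (nat_lit 12) (nat_lit 1) (Step.L (Step.L (Step.L (Step.L (Step.D (nat_lit 11139) Step.done))))) (Scr.cons (nat_lit 16) (nat_lit 2) (Step.F (nat_lit 10996) (Step.L (Step.L (Step.L (Step.L (Step.L (Step.L (Step.L (Step.L (Step.L (Step.L (Step.L (Step.L (Step.L (Step.L (Step.L (Step.L (Step.L (Step.L (Step.L (Step.L (Step.D (nat_lit 2856) (Step.D (nat_lit 5158) Step.done))))))))))))))))))))))) (Scr.cons (nat_lit 8) (nat_lit 0) (Step.L (Step.L (Step.L (Step.B (nat_lit 10995) (Step.F (nat_lit 11013) (Step.L (Step.B (nat_lit 10996) (Step.B (nat_lit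 11017) (Step.U (nat_lit 5158) (Step.U (nat_lit 2856) (Step.L (Step.L (Step.L (Step.L (Step.L (Step.B (nat_lit 11016) Step.done)))))))))))))))) (Scr.cons (nat_lit 0) (nat_lit 1) (Step.B (nat_lit 11016) (Step.F (nat_lit 11018) (Step.D (nat_lit 11679) Step.done))) (Scr.cons (nat_lit 0) (nat_lit 0) (Step.B (nat_lit 11015) (Step.F (nat_lit 11019) Step.done)) (Scr.cons (nat_lit 12) (nat_lit 4) (Step.U (nat_lit 2032) (Step.L (Step.L (Step.D (nat_lit 2032) (Step.D (nat_lit 3906) Step.done))))) (Scr.cons (nat_lit 13) (nat_lit 3) (Step.L (Step.L (Step.L (Step.L (Step.L (Step.L (Step.L (Step.D (nat_lit 2032) (Step.B (nat_lit 11021) (Step.D (nat_lit 6705) (Step.D (nat_lit 9865) Step.done))))))))))) (Scr.cons (nat_lit 7) (nat_lit 0) (Step.U (nat_lit 3907) (Step.U (nat_lit 2032) (Step.L (Step.L (Step.L (Step.L (Step.L (Step.L (Step.L (Step.L (Step.L (Step.L (Step.L (Step.L (Step.L (Step.L (Step.L (Step.D (nat_lit 1062) (Step.D (nat_lit 2247) (Step.D (nat_lit 4237) Step.done))))))))))))))))))))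 (Scr.cons (nat_lit 1) (nat_lit 0) (Step.U (nat_lit 2247) (Step.B (nat_lit 6084) (Step.L Step.done))) (Scr.cons (nat_lit 11) (nat_lit 0) (Step.U (nat_lit 4073) (Step.L (Step.D (nat_lit 2135) (Step.D (nat_lit 4072) (Step.D (nat_lit 6928) Step.done))))) (Scr.cons (nat_lit 12) (nat_lit 1) (Step.U (nat_lit 4073) (Step.L (Step.L (Step.D (nat_lit 4073) (Step.D (nat_lit 6929) Step.done))))) (Scr.cons (nat_lit 12) (nat_lit 1) (Step.F (nat_lit 11025) (Step.D (nat_lit 6929) (Step.F (nat_lit 11026) (Step.B (nat_lit 11025) (Step.D (nat_lit 10063) Step.done))))) (Scr.cons (nat_lit 16) (nat_lit 1) (Step.F (nat_lit 11027) (Step.F (nat_lit 11025) (Step.U (nat_lit 4073) (Step.L (Step.L (Step.L (Step.L (Step.L (Step.L (Step.L (Step.L (Step.L (Step.L (Step.L (Step.L (Step.L (Step.L (Step.L (Step.L (Step.L (Step.D (nat_lit 2180) (Step.D (nat_lit 4143) (Step.D (nat_lit 7006) Step.done))))))))))))))))))))))) (Scr.cons (nat_lit 11) (nat_lit 0) (Step.U (nat_lit 7005) (Step.U (nat_lit 4142) (Step.L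 (Step.L (Step.D (nat_lit 10132) Step.done))))) (Scr.cons (nat_lit 12) (nat_lit 4) (Step.L (Step.L (Step.L (Step.L (Step.D (nat_lit 10131) Step.done))))) (Scr.cons (nat_lit 12) (nat_lit 4) (Step.U (nat_lit 10132) (Step.D (nat_lit 10131) (Step.F (nat_lit 11030) (Step.D (nat_lit 10132) (Step.F (nat_lit 4875) Step.done))))) (Scr.cons (nat_lit 12) (nat_lit 1) (Step.L (Step.L (Step.L (Step.L (Step.D (nat_lit 1067) Step.done))))) (Scr.cons (nat_lit 7) (nat_lit 1) (Step.B (nat_lit 11028) (Step.U (nat_lit 7006) (Step.U (nat_lit 4143) (Step.U (nat_lit 2180) (Step.L (Step.D (nat_lit 4142) (Step.D (nat_lit 7005) (Step.B (nat_lit 11029) (Step.B (nat_lit 11031) (Step.L (Step.L (Step.L (Step.L (Step.L (Step.L (Step.B (nat_lit 11032) (Step.D (nat_lit 2258) (Step.D (nat_lit 4256) (Step.D (nat_lit 7151) (Step.D (nat_lit 10251) Step.done)))))))))))))))))))) (Scr.cons (nat_lit 13) (nat_lit 3) (Step.L (Step.L (Step.L (Step.L (Step.L (Step.L (Step.L (Step.L (Step.L (Step.L (Step.D (nat_lit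 1067) Step.done))))))))))) (Scr.cons (nat_lit 4) (nat_lit 0) (Step.U (nat_lit 2284) (Step.U (nat_lit 1087) (Step.B (nat_lit 11034) (Step.D (nat_lit 2258) (Step.D (nat_lit 4256) Step.done))))) (Scr.cons (nat_lit 0) (nat_lit 1) (Step.B (nat_lit 5552) (Step.B (nat_lit 9618) (Step.F (nat_lit 1821) Step.done))) (Scr.cons (nat_lit 1) (nat_lit 1) (Step.U (nat_lit 2284) (Step.B (nat_lit 11036) (Step.L Step.done))) (Scr.cons (nat_lit 1) (nat_lit 1) (Step.F (nat_lit 11035) (Step.B (nat_lit 11037) (Step.L Step.done))) (Scr.cons (nat_lit 0) (nat_lit 1) (Step.U (nat_lit 7151) (Step.B (nat_lit 11038) (Step.L Step.done))) (Scr.cons (nat_lit 1) (nat_lit 0) (Step.U (nat_lit 10251) (Step.B (nat_lit 11039) (Step.L Step.done))) (Scr.cons (nat_lit 1) (nat_lit 0) (Step.B (nat_lit 11033) (Step.B (nat_lit 11040) (Step.L Step.done))) (Scr.cons (nat_lit 0) (nat_lit 1) (Step.B (nat_lit 11027) (Step.B (nat_lit 11041) (Step.L Step.done))) Scr.nil))))))))))))))))))))))))))))))))))))))))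
noncomputable def s276 : Scr := (Scr.cons (nat_lit 1) (nat_lit 0) (Step.D (nat_lit 6928) (Step.B (nat_lit 11042) (Step.D (nat_lit 1062) Step.done))) (Scr.cons (nat_lit 1) (nat_lit 0) (Step.D (nat_lit 4072) (Step.B (nat_lit 11043) (Step.B (nat_lit 6084) (Step.L Step.done)))) (Scr.cons (nat_lit 0) (nat_lit 1) (Step.B (nat_lit 542) (Step.B (nat_lit 11044) (Step.D (nat_lit 2300) Step.done))) (Scr.cons (nat_lit 0) (nat_lit 1) (Step.U (nat_lit 4237) (Step.B (nat_lit 11024) (Step.D (nat_lit 2300) (Step.F (nat_lit 11045) Step.done)))) (Scr.cons (nat_lit 1) (nat_lit 0) (Step.B (nat_lit 11023) (Step.B (nat_lit 11046) (Step.L Step.done))) (Scr.cons (nat_lit 1) (nat_lit 0) (Step.D (nat_lit 3907) (Step.B (nat_lit 11047) (Step.L Step.done))) (Scr.cons (nat_lit 0) (nat_lit 1) (Step.U (nat_lit 3906) (Step.B (nat_lit 11048) (Step.L Step.done))) (Scr.cons (nat_lit 1) (nat_lit 0) (Step.U (nat_lit 6705) (Step.B (nat_lit 11049) (Step.D (nat_lit 6166) Step.done))) (Scr.cons (nat_lit 15) (nat_lit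 0) (Step.U (nat_lit 6166) (Step.L (Step.L (Step.L (Step.L (Step.L (Step.L (Step.L (Step.L (Step.L (Step.L (Step.L (Step.L (Step.L (Step.D (nat_lit 9329) Step.done))))))))))))))) (Scr.cons (nat_lit 12) (nat_lit 4) (Step.U (nat_lit 9329) (Step.L (Step.L (Step.D (nat_lit 9329) (Step.F (nat_lit 11051) Step.done))))) (Scr.cons (nat_lit 0) (nat_lit 1) (Step.U (nat_lit 9865) (Step.B (nat_lit 11050) (Step.F (nat_lit 11052) Step.done))) (Scr.cons (nat_lit 1) (nat_lit 0) (Step.B (nat_lit 11022) (Step.B (nat_lit 11053) Step.done)) (Scr.cons (nat_lit 11) (nat_lit 0) (Step.L (Step.L (Step.D (nat_lit 9329) (Step.F (nat_lit 11054) (Step.L Step.done))))) (Scr.cons (nat_lit 12) (nat_lit 1) (Step.L (Step.L (Step.L (Step.L (Step.D (nat_lit 9814) Step.done))))) (Scr.cons (nat_lit 12) (nat_lit 1) (Step.L (Step.D (nat_lit 9814) (Step.F (nat_lit 11056) (Step.L (Step.L Step.done))))) (Scr.cons (nat_lit 15) (nat_lit 0) (Step.U (nat_lit 3464) (Step.F (nat_lit 1114) (Step.L (Step.L (Step.L (Step.L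 (Step.L (Step.L (Step.L (Step.L (Step.L (Step.L (Step.D (nat_lit 1065) (Step.D (nat_lit 2254) (Step.D (nat_lit 4248) Step.done))))))))))))))) (Scr.cons (nat_lit 16) (nat_lit 0) (Step.U (nat_lit 7141) (Step.L (Step.L (Step.L (Step.D (nat_lit 1065) (Step.D (nat_lit 2254) (Step.D (nat_lit 4248) (Step.F (nat_lit 11058) (Step.U (nat_lit 3464) (Step.D (nat_lit 3463) (Step.F (nat_lit 1357) (Step.F (nat_lit 603) (Step.L (Step.L (Step.L (Step.L (Step.L (Step.L (Step.L (Step.L (Step.L (Step.L (Step.D (nat_lit 9833) Step.done))))))))))))))))))))))) (Scr.cons (nat_lit 8) (nat_lit 1) (Step.L (Step.L (Step.L (Step.L (Step.L (Step.L (Step.L (Step.L (Step.L (Step.L (Step.D (nat_lit 7141) (Step.B (nat_lit 11059) (Step.U (nat_lit 9833) (Step.L (Step.L Step.done))))))))))))))) (Scr.cons (nat_lit 13) (nat_lit 1) (Step.L (Step.L (Step.L (Step.L (Step.B (nat_lit 1361) (Step.U (nat_lit 6661) (Step.L (Step.L (Step.L (Step.L (Step.L Step.done))))))))))) (Scr.cons (nat_lit 12) (nat_lit 4) (Step.L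 (Step.L (Step.L (Step.L (Step.D (nat_lit 9857) Step.done))))) (Scr.cons (nat_lit 12) (nat_lit 4) (Step.L (Step.D (nat_lit 9857) (Step.F (nat_lit 11062) (Step.L (Step.L Step.done))))) (Scr.cons (nat_lit 12) (nat_lit 4) (Step.L (Step.L (Step.L (Step.L (Step.D (nat_lit 9859) Step.done))))) (Scr.cons (nat_lit 12) (nat_lit 4) (Step.L (Step.D (nat_lit 9859) (Step.F (nat_lit 11064) (Step.L (Step.L Step.done))))) (Scr.cons (nat_lit 12) (nat_lit 4) (Step.L (Step.L (Step.L (Step.L (Step.D (nat_lit 9872) Step.done))))) (Scr.cons (nat_lit 12) (nat_lit 4) (Step.L (Step.D (nat_lit 9872) (Step.F (nat_lit 11066) (Step.L (Step.L Step.done))))) (Scr.cons (nat_lit 12) (nat_lit 1) (Step.L (Step.L (Step.L (Step.L (Step.D (nat_lit 6290) Step.done))))) (Scr.cons (nat_lit 8) (nat_lit 1) (Step.U (nat_lit 9889) (Step.L (Step.L (Step.L (Step.L (Step.L (Step.L (Step.L (Step.L (Step.L (Step.L (Step.L (Step.L (Step.L (Step.B (nat_lit 11068) (Step.D (nat_lit 9465) Step.done)))))))))))))))) (Scr.cons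 (nat_lit 0) (nat_lit 1) (Step.D (nat_lit 9889) (Step.B (nat_lit 11069) Step.done)) (Scr.cons (nat_lit 12) (nat_lit 4) (Step.L (Step.L (Step.L (Step.L (Step.D (nat_lit 9889) Step.done))))) (Scr.cons (nat_lit 0) (nat_lit 0) (Step.B (nat_lit 11071) (Step.B (nat_lit 11069) Step.done)) (Scr.cons (nat_lit 12) (nat_lit 4) (Step.L (Step.B (nat_lit 11070) (Step.F (nat_lit 11072) (Step.L (Step.L Step.done))))) (Scr.cons (nat_lit 12) (nat_lit 4) (Step.L (Step.L (Step.L (Step.L (Step.D (nat_lit 9890) Step.done))))) (Scr.cons (nat_lit 12) (nat_lit 4) (Step.L (Step.D (nat_lit 9890) (Step.F (nat_lit 11074) (Step.L (Step.L Step.done))))) (Scr.cons (nat_lit 12) (nat_lit 1) (Step.L (Step.L (Step.L (Step.L (Step.D (nat_lit 9891) Step.done))))) (Scr.cons (nat_lit 12) (nat_lit 1) (Step.L (Step.D (nat_lit 9891) (Step.F (nat_lit 11076) (Step.L (Step.L Step.done))))) (Scr.cons (nat_lit 6) (nat_lit 1) (Step.L (Step.L (Step.L (Step.L (Step.L (Step.L (Step.L (Step.L (Step.D (nat_lit 3920) (Step.D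 (nat_lit 6727) (Step.D (nat_lit 9893) Step.done))))))))))) (Scr.cons (nat_lit 12) (nat_lit 4) (Step.U (nat_lit 3920) (Step.L (Step.L (Step.D (nat_lit 3920) (Step.D (nat_lit 6727) Step.done))))) (Scr.cons (nat_lit 13) (nat_lit 2) (Step.L (Step.L (Step.L (Step.L (Step.L (Step.L (Step.L (Step.L (Step.D (nat_lit 3920) (Step.B (nat_lit 11079) (Step.D (nat_lit 9893) Step.done))))))))))) (Scr.cons (nat_lit 12) (nat_lit 1) (Step.L (Step.B (nat_lit 11078) (Step.F (nat_lit 11080) (Step.L (Step.L Step.done))))) (Scr.cons (nat_lit 12) (nat_lit 1) (Step.L (Step.L (Step.L (Step.L (Step.D (nat_lit 3840) Step.done))))) Scr.nil))))))))))))))))))))))))))))))))))))))))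
noncomputable def s277 : Scr := (Scr.cons (nat_lit 13) (nat_lit 3) (Step.U (nat_lit 9777) (Step.U (nat_lit 6621) (Step.F (nat_lit 11082) (Step.L (Step.L (Step.L (Step.L (Step.L (Step.L (Step.D (nat_lit 9404) (Step.D (nat_lit 11726) Step.done))))))))))) (Scr.cons (nat_lit 0) (nat_lit 1) (Step.U (nat_lit 11726) (Step.B (nat_lit 10992) (Step.D (nat_lit 11665) Step.done))) (Scr.cons (nat_lit 1) (nat_lit 0) (Step.B (nat_lit 11083) (Step.B (nat_lit 11084) Step.done)) (Scr.cons (nat_lit 14) (nat_lit 6) (Step.U (nat_lit 9895) (Step.U (nat_lit 6729) (Step.L (Step.L (Step.L (Step.L (Step.L (Step.L (Step.L (Step.L (Step.L (Step.L (Step.L (Step.L (Step.L (Step.L (Step.L (Step.L (Step.D (nat_lit 11665) (Step.F (nat_lit 11085) (Step.D (nat_lit 11842) Step.done))))))))))))))))))))) (Scr.cons (nat_lit 1) (nat_lit 1) (Step.D (nat_lit 11842) (Step.F (nat_lit 11086) Step.done)) (Scr.cons (nat_lit 11) (nat_lit 0) (Step.F (nat_lit 11085) (Step.B (nat_lit 11087) (Step.U (nat_lit 9895) (Step.D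 (nat_lit 9894) (Step.D (nat_lit 11847) Step.done))))) (Scr.cons (nat_lit 12) (nat_lit 4) (Step.L (Step.L (Step.L (Step.L (Step.D (nat_lit 9252) Step.done))))) (Scr.cons (nat_lit 12) (nat_lit 4) (Step.L (Step.D (nat_lit 9252) (Step.F (nat_lit 11089) (Step.L (Step.D (nat_lit 11665) Step.done))))) (Scr.cons (nat_lit 16) (nat_lit 2) (Step.L (Step.L (Step.L (Step.L (Step.L (Step.L (Step.L (Step.L (Step.L (Step.L (Step.L (Step.D (nat_lit 6729) (Step.D (nat_lit 9894) (Step.D (nat_lit 11847) (Step.F (nat_lit 11088) (Step.F (nat_lit 11090) (Step.L (Step.L (Step.L (Step.L (Step.L (Step.L (Step.L Step.done))))))))))))))))))))))) (Scr.cons (nat_lit 12) (nat_lit 4) (Step.U (nat_lit 6490) (Step.F (nat_lit 10460) (Step.D (nat_lit 3745) (Step.D (nat_lit 6490) (Step.D (nat_lit 9633) Step.done))))) (Scr.cons (nat_lit 12) (nat_lit 1) (Step.L (Step.L (Step.L (Step.L (Step.D (nat_lit 9901) Step.done))))) (Scr.cons (nat_lit 8) (nat_lit 0) (Step.U (nat_lit 6490) (Step.U (nat_lit 3745) (Step.B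 (nat_lit 10458) (Step.F (nat_lit 10499) (Step.U (nat_lit 3921) (Step.U (nat_lit 2037) (Step.L (Step.L (Step.L (Step.L (Step.L (Step.L (Step.L (Step.L (Step.L (Step.B (nat_lit 11093) Step.done)))))))))))))))) (Scr.cons (nat_lit 0) (nat_lit 1) (Step.B (nat_lit 11093) (Step.F (nat_lit 11094) (Step.D (nat_lit 9633) Step.done))) (Scr.cons (nat_lit 0) (nat_lit 0) (Step.B (nat_lit 11092) (Step.F (nat_lit 11095) Step.done)) (Scr.cons (nat_lit 0) (nat_lit 1) (Step.D (nat_lit 9633) (Step.F (nat_lit 11095) Step.done)) (Scr.cons (nat_lit 12) (nat_lit 1) (Step.L (Step.F (nat_lit 11096) (Step.B (nat_lit 11097) (Step.L (Step.L Step.done))))) (Scr.cons (nat_lit 12) (nat_lit 1) (Step.L (Step.L (Step.L (Step.L (Step.D (nat_lit 9902) Step.done))))) (Scr.cons (nat_lit 12) (nat_lit 1) (Step.L (Step.D (nat_lit 9902) (Step.F (nat_lit 11099) (Step.L (Step.L Step.done))))) (Scr.cons (nat_lit 12) (nat_lit 4) (Step.L (Step.L (Step.L (Step.L (Step.D (nat_lit 9906) Step.done))))) (Scr.cons (nat_lit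 12) (nat_lit 4) (Step.L (Step.D (nat_lit 9906) (Step.F (nat_lit 11101) (Step.L (Step.L Step.done))))) (Scr.cons (nat_lit 12) (nat_lit 4) (Step.U (nat_lit 948) (Step.F (nat_lit 24) (Step.D (nat_lit 356) (Step.D (nat_lit 948) (Step.D (nat_lit 2046) Step.done))))) (Scr.cons (nat_lit 13) (nat_lit 0) (Step.L (Step.L (Step.L (Step.L (Step.L (Step.D (nat_lit 356) (Step.D (nat_lit 948) (Step.B (nat_lit 11103) (Step.D (nat_lit 3933) (Step.D (nat_lit 6748) (Step.D (nat_lit 9915) Step.done))))))))))) (Scr.cons (nat_lit 12) (nat_lit 1) (Step.U (nat_lit 3933) (Step.F (nat_lit 11103) (Step.D (nat_lit 2046) (Step.D (nat_lit 3933) (Step.D (nat_lit 6748) Step.done))))) (Scr.cons (nat_lit 6) (nat_lit 3) (Step.L (Step.L (Step.L (Step.L (Step.L (Step.B (nat_lit 24) (Step.D (nat_lit 948) (Step.D (nat_lit 2046) (Step.D (nat_lit 3933) (Step.B (nat_lit 11105) (Step.D (nat_lit 9915) Step.done))))))))))) (Scr.cons (nat_lit 12) (nat_lit 4) (Step.L (Step.B (nat_lit 11104) (Step.F (nat_lit 11106)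 (Step.L (Step.L Step.done))))) (Scr.cons (nat_lit 12) (nat_lit 4) (Step.U (nat_lit 7641) (Step.L (Step.L (Step.D (nat_lit 7641) (Step.D (nat_lit 10668) Step.done))))) (Scr.cons (nat_lit 12) (nat_lit 1) (Step.F (nat_lit 5213) (Step.D (nat_lit 1234) (Step.F (nat_lit 3442) (Step.B (nat_lit 5213) (Step.D (nat_lit 2545) Step.done))))) (Scr.cons (nat_lit 12) (nat_lit 1) (Step.U (nat_lit 4690) (Step.F (nat_lit 11109) (Step.D (nat_lit 2545) (Step.D (nat_lit 4690) (Step.D (nat_lit 7657) Step.done))))) (Scr.cons (nat_lit 13) (nat_lit 0) (Step.U (nat_lit 4609) (Step.F (nat_lit 1988) (Step.L (Step.L (Step.L (Step.L (Step.L (Step.L (Step.D (nat_lit 2472) (Step.D (nat_lit 4590) (Step.D (nat_lit 7548) Step.done))))))))))) (Scr.cons (nat_lit 6) (nat_lit 3) (Step.U (nat_lit 4609) (Step.U (nat_lit 2492) (Step.L (Step.L (Step.L (Step.L (Step.L (Step.L (Step.D (nat_lit 2472) (Step.B (nat_lit 3521) (Step.D (nat_lit 7548) Step.done))))))))))) (Scr.cons (nat_lit 12) (nat_lit 4) (Step.U (nat_lit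 7571) (Step.B (nat_lit 11111) (Step.F (nat_lit 11112) (Step.D (nat_lit 7571) (Step.D (nat_lit 10605) Step.done))))) (Scr.cons (nat_lit 15) (nat_lit 1) (Step.U (nat_lit 4690) (Step.F (nat_lit 11109) (Step.F (nat_lit 5213) (Step.D (nat_lit 1234) (Step.D (nat_lit 2546) (Step.F (nat_lit 3443) (Step.L (Step.D (nat_lit 4722) (Step.F (nat_lit 3520) (Step.F (nat_lit 3522) (Step.U (nat_lit 4591) (Step.D (nat_lit 4590) (Step.D (nat_lit 7548) (Step.F (nat_lit 11112) (Step.D (nat_lit 7571) (Step.D (nat_lit 10605) Step.done)))))))))))))))) (Scr.cons (nat_lit 0) (nat_lit 1) (Step.B (nat_lit 11113) (Step.F (nat_lit 11114) (Step.D (nat_lit 7657) Step.done))) (Scr.cons (nat_lit 0) (nat_lit 0) (Step.B (nat_lit 11110) (Step.F (nat_lit 11115) Step.done)) (Scr.cons (nat_lit 16) (nat_lit 3) (Step.U (nat_lit 4610) (Step.D (nat_lit 4609) (Step.D (nat_lit 7571) (Step.F (nat_lit 11116) (Step.U (nat_lit 4690) (Step.F (nat_lit 11109) (Step.F (nat_lit 5213) (Step.U (nat_lit 493) (Step.L (Step.L (Step.L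 (Step.L (Step.L (Step.L (Step.L (Step.L (Step.L (Step.L (Step.L (Step.L (Step.L (Step.L (Step.D (nat_lit 7641) (Step.D (nat_lit 10668) Step.done)))))))))))))))))))))))) (Scr.cons (nat_lit 0) (nat_lit 1) (Step.B (nat_lit 11108) (Step.F (nat_lit 11117) (Step.D (nat_lit 7572) Step.done))) (Scr.cons (nat_lit 1) (nat_lit 0) (Step.D (nat_lit 7641) (Step.B (nat_lit 11118) (Step.D (nat_lit 10607) Step.done))) (Scr.cons (nat_lit 1) (nat_lit 0) (Step.D (nat_lit 10607) (Step.F (nat_lit 11119) Step.done)) (Scr.cons (nat_lit 13) (nat_lit 0) (Step.U (nat_lit 10015) (Step.F (nat_lit 1981) (Step.U (nat_lit 4023) (Step.B (nat_lit 1980) (Step.B (nat_lit 1986) (Step.F (nat_lit 1989) (Step.L (Step.B (nat_lit 1988) (Step.D (nat_lit 4610) (Step.D (nat_lit 7572) (Step.D (nat_lit 10606) Step.done))))))))))) (Scr.cons (nat_lit 0) (nat_lit 1) (Step.U (nat_lit 6874) (Step.B (nat_lit 2032) (Step.L Step.done))) Scr.nil))))))))))))))))))))))))))))))))))))))))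
noncomputable def s278 : Scr := (Scr.cons (nat_lit 1) (nat_lit 1) (Step.U (nat_lit 10015) (Step.B (nat_lit 11122) (Step.L Step.done))) (Scr.cons (nat_lit 8) (nat_lit 1) (Step.L (Step.L (Step.L (Step.L (Step.L (Step.L (Step.L (Step.L (Step.L (Step.L (Step.L (Step.L (Step.L (Step.L (Step.D (nat_lit 9935) Step.done))))))))))))))) (Scr.cons (nat_lit 0) (nat_lit 1) (Step.F (nat_lit 11121) (Step.B (nat_lit 11123) (Step.B (nat_lit 11124) Step.done))) (Scr.cons (nat_lit 1) (nat_lit 1) (Step.D (nat_lit 10606) (Step.B (nat_lit 11125) Step.done)) (Scr.cons (nat_lit 14) (nat_lit 6) (Step.L (Step.L (Step.L (Step.L (Step.L (Step.L (Step.L (Step.L (Step.L (Step.L (Step.L (Step.F (nat_lit 11120) (Step.B (nat_lit 11126) (Step.U (nat_lit 9935) (Step.L (Step.L (Step.L (Step.L (Step.L (Step.L Step.done)))))))))))))))))))) (Scr.cons (nat_lit 12) (nat_lit 0) (Step.B (nat_lit 11124) (Step.U (nat_lit 9935) (Step.L (Step.L (Step.D (nat_lit 9935) Step.done))))) (Scr.cons (nat_lit 12) (nat_lit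 4) (Step.L (Step.B (nat_lit 11124) (Step.F (nat_lit 11128) (Step.L (Step.L Step.done))))) (Scr.cons (nat_lit 12) (nat_lit 1) (Step.L (Step.L (Step.L (Step.L (Step.D (nat_lit 9944) Step.done))))) (Scr.cons (nat_lit 12) (nat_lit 1) (Step.L (Step.D (nat_lit 9944) (Step.F (nat_lit 11130) (Step.L (Step.L Step.done))))) (Scr.cons (nat_lit 12) (nat_lit 4) (Step.L (Step.L (Step.L (Step.L (Step.D (nat_lit 9949) Step.done))))) (Scr.cons (nat_lit 12) (nat_lit 4) (Step.L (Step.D (nat_lit 9949) (Step.F (nat_lit 11132) (Step.L (Step.L Step.done))))) (Scr.cons (nat_lit 12) (nat_lit 4) (Step.L (Step.L (Step.L (Step.L (Step.D (nat_lit 9952) Step.done))))) (Scr.cons (nat_lit 12) (nat_lit 4) (Step.L (Step.D (nat_lit 9952) (Step.F (nat_lit 11134) (Step.L (Step.L Step.done))))) (Scr.cons (nat_lit 12) (nat_lit 1) (Step.U (nat_lit 6322) (Step.F (nat_lit 1230) (Step.D (nat_lit 3622) (Step.D (nat_lit 6322) (Step.D (nat_lit 9488) Step.done))))) (Scr.cons (nat_lit 6) (nat_lit 2) (Step.L (Step.L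 (Step.L (Step.L (Step.L (Step.L (Step.L (Step.F (nat_lit 10421) (Step.F (nat_lit 1228) (Step.D (nat_lit 3622) (Step.D (nat_lit 6322) (Step.B (nat_lit 11136) Step.done)))))))))))) (Scr.cons (nat_lit 0) (nat_lit 1) (Step.B (nat_lit 11136) (Step.F (nat_lit 11137) (Step.D (nat_lit 9958) Step.done))) (Scr.cons (nat_lit 0) (nat_lit 1) (Step.D (nat_lit 9958) (Step.F (nat_lit 11138) Step.done)) (Scr.cons (nat_lit 12) (nat_lit 1) (Step.L (Step.L (Step.L (Step.L (Step.D (nat_lit 9958) Step.done))))) (Scr.cons (nat_lit 0) (nat_lit 0) (Step.B (nat_lit 11140) (Step.F (nat_lit 11138) Step.done)) (Scr.cons (nat_lit 12) (nat_lit 1) (Step.L (Step.B (nat_lit 11139) (Step.F (nat_lit 11141) (Step.L (Step.L Step.done))))) (Scr.cons (nat_lit 12) (nat_lit 4) (Step.L (Step.L (Step.L (Step.L (Step.D (nat_lit 9972) Step.done))))) (Scr.cons (nat_lit 12) (nat_lit 4) (Step.L (Step.D (nat_lit 9972) (Step.F (nat_lit 11143) (Step.L (Step.L Step.done))))) (Scr.cons (nat_lit 12) (nat_lit 1) (Step.U (nat_lit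 3554) (Step.L (Step.L (Step.D (nat_lit 3554) (Step.D (nat_lit 6223) Step.done))))) (Scr.cons (nat_lit 6) (nat_lit 0) (Step.U (nat_lit 11683) (Step.L (Step.L (Step.L (Step.L (Step.L (Step.L (Step.D (nat_lit 3554) (Step.B (nat_lit 11145) (Step.D (nat_lit 9401) (Step.D (nat_lit 11723) Step.done))))))))))) (Scr.cons (nat_lit 12) (nat_lit 4) (Step.U (nat_lit 9401) (Step.F (nat_lit 11145) (Step.D (nat_lit 6223) (Step.D (nat_lit 9401) (Step.D (nat_lit 11723) Step.done))))) (Scr.cons (nat_lit 12) (nat_lit 1) (Step.U (nat_lit 9402) (Step.F (nat_lit 11145) (Step.D (nat_lit 6223) (Step.D (nat_lit 9402) (Step.D (nat_lit 11725) Step.done))))) (Scr.cons (nat_lit 15) (nat_lit 1) (Step.F (nat_lit 11148) (Step.U (nat_lit 9402) (Step.F (nat_lit 11145) (Step.U (nat_lit 3554) (Step.L (Step.L (Step.L (Step.L (Step.L (Step.D (nat_lit 965) (Step.B (nat_lit 2982) (Step.D (nat_lit 3978) (Step.D (nat_lit 6821) (Step.D (nat_lit 9976) (Step.D (nat_lit 11856) Step.done))))))))))))))) (Scr.cons (nat_lit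 16) (nat_lit 0) (Step.L (Step.L (Step.L (Step.L (Step.L (Step.L (Step.L (Step.L (Step.L (Step.L (Step.L (Step.L (Step.D (nat_lit 4220) (Step.D (nat_lit 7099) (Step.D (nat_lit 10204) (Step.F (nat_lit 5239) (Step.U (nat_lit 9977) (Step.D (nat_lit 9976) (Step.D (nat_lit 11856) (Step.F (nat_lit 11149) (Step.F (nat_lit 11148) (Step.U (nat_lit 9402) (Step.D (nat_lit 9401) (Step.D (nat_lit 11724) Step.done)))))))))))))))))))))))) (Scr.cons (nat_lit 1) (nat_lit 0) (Step.D (nat_lit 11724) (Step.F (nat_lit 11150) (Step.D (nat_lit 10230) Step.done))) (Scr.cons (nat_lit 1) (nat_lit 0) (Step.D (nat_lit 10230) (Step.F (nat_lit 11151) Step.done)) (Scr.cons (nat_lit 15) (nat_lit 1) (Step.U (nat_lit 11684) (Step.D (nat_lit 11683) (Step.B (nat_lit 11146) (Step.F (nat_lit 11147) (Step.F (nat_lit 11152) (Step.L (Step.L (Step.L (Step.L (Step.L (Step.L (Step.L (Step.L (Step.L (Step.L (Step.L Step.done)))))))))))))))) (Scr.cons (nat_lit 1) (nat_lit 0) (Step.D (nat_lit 11684) (Step.B (nat_lit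 11153) Step.done)) (Scr.cons (nat_lit 12) (nat_lit 1) (Step.L (Step.L (Step.L (Step.L (Step.D (nat_lit 9980) Step.done))))) (Scr.cons (nat_lit 12) (nat_lit 1) (Step.L (Step.D (nat_lit 9980) (Step.F (nat_lit 11155) (Step.L (Step.L Step.done))))) (Scr.cons (nat_lit 11) (nat_lit 0) (Step.L (Step.L (Step.L (Step.L (Step.D (nat_lit 11855) Step.done))))) (Scr.cons (nat_lit 14) (nat_lit 3) (Step.F (nat_lit 11157) (Step.L (Step.L (Step.L (Step.L (Step.L (Step.L (Step.L (Step.L (Step.L (Step.L (Step.L (Step.L (Step.L (Step.L (Step.L (Step.L (Step.L (Step.L (Step.D (nat_lit 11857) Step.done)))))))))))))))))))) (Scr.cons (nat_lit 12) (nat_lit 1) (Step.L (Step.L (Step.L (Step.L (Step.D (nat_lit 5667) Step.done))))) (Scr.cons (nat_lit 12) (nat_lit 1) (Step.U (nat_lit 8772) (Step.F (nat_lit 11159) (Step.D (nat_lit 5667) (Step.D (nat_lit 8772) (Step.D (nat_lit 11480) Step.done))))) (Scr.cons (nat_lit 15) (nat_lit 1) (Step.F (nat_lit 11160) (Step.U (nat_lit 8772) (Step.F (nat_lit 11159)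 (Step.L (Step.L (Step.L (Step.L (Step.L (Step.L (Step.L (Step.L (Step.L (Step.L (Step.L (Step.L Step.done))))))))))))))) (Scr.cons (nat_lit 7) (nat_lit 6) (Step.U (nat_lit 11459) (Step.L (Step.L (Step.L (Step.L (Step.L (Step.L (Step.L (Step.L (Step.L (Step.L (Step.L (Step.L (Step.L (Step.L (Step.L (Step.L (Step.B (nat_lit 11159) (Step.D (nat_lit 8772) (Step.D (nat_lit 11481) Step.done)))))))))))))))))))) Scr.nil))))))))))))))))))))))))))))))))))))))))
noncomputable def s279 : Scr := (Scr.cons (nat_lit 11) (nat_lit 0) (Step.L (Step.L (Step.L (Step.L (Step.D (nat_lit 11459) Step.done))))) (Scr.cons (nat_lit 13) (nat_lit 1) (Step.L (Step.D (nat_lit 11855) (Step.B (nat_lit 11158) (Step.U (nat_lit 11857) (Step.L (Step.F (nat_lit 11161) (Step.U (nat_lit 11480) (Step.D (nat_lit 11481) (Step.F (nat_lit 11162) (Step.F (nat_lit 11163) (Step.L Step.done))))))))))) (Scr.cons (nat_lit 11) (nat_lit 0) (Step.L (Step.L (Step.D (nat_lit 6364) (Step.D (nat_lit 9517) (Step.D (nat_lit 11763)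 Step.done))))) (Scr.cons (nat_lit 12) (nat_lit 1) (Step.U (nat_lit 6831) (Step.L (Step.L (Step.D (nat_lit 6831) (Step.D (nat_lit 9983) Step.done))))) (Scr.cons (nat_lit 1) (nat_lit 1) (Step.F (nat_lit 10733) (Step.F (nat_lit 10734) (Step.D (nat_lit 9985) Step.done))) (Scr.cons (nat_lit 1) (nat_lit 0) (Step.D (nat_lit 11767) (Step.B (nat_lit 11167) Step.done)) (Scr.cons (nat_lit 4) (nat_lit 0) (Step.U (nat_lit 11766) (Step.B (nat_lit 11168) (Step.U (nat_lit 9985) (Step.B (nat_lit 10504) (Step.D (nat_lit 11858) Step.done))))) (Scr.cons (nat_lit 12) (nat_lit 4) (Step.U (nat_lit 3657) (Step.L (Step.L (Step.D (nat_lit 3657) (Step.D (nat_lit 6365) Step.done))))) (Scr.cons (nat_lit 9) (nat_lit 2) (Step.U (nat_lit 9993) (Step.L (Step.L (Step.L (Step.L (Step.L (Step.L (Step.L (Step.L (Step.L (Step.L (Step.L (Step.L (Step.D (nat_lit 6831) (Step.B (nat_lit 11166) (Step.D (nat_lit 11858) (Step.F (nat_lit 11169) (Step.U (nat_lit 11766) (Step.U (nat_lit 9520) (Step.U (nat_lit 6366)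 (Step.B (nat_lit 11170) (Step.D (nat_lit 9519) (Step.D (nat_lit 11765) Step.done))))))))))))))))))))))) (Scr.cons (nat_lit 4) (nat_lit 0) (Step.U (nat_lit 11764) (Step.U (nat_lit 9518) (Step.D (nat_lit 9519) (Step.D (nat_lit 11765) (Step.F (nat_lit 11171) Step.done))))) (Scr.cons (nat_lit 7) (nat_lit 3) (Step.L (Step.L (Step.L (Step.D (nat_lit 9993) (Step.F (nat_lit 11172) (Step.U (nat_lit 11764) (Step.U (nat_lit 9518) (Step.U (nat_lit 6365) (Step.U (nat_lit 3657) (Step.L (Step.L (Step.L (Step.L (Step.L (Step.L (Step.L (Step.L (Step.L (Step.L (Step.L (Step.B (nat_lit 11165) Step.done))))))))))))))))))))) (Scr.cons (nat_lit 1) (nat_lit 1) (Step.B (nat_lit 11165) (Step.F (nat_lit 11173) (Step.D (nat_lit 9998) Step.done))) (Scr.cons (nat_lit 1) (nat_lit 1) (Step.D (nat_lit 9998) (Step.F (nat_lit 11174) Step.done)) (Scr.cons (nat_lit 1) (nat_lit 0) (Step.D (nat_lit 11763) (Step.F (nat_lit 11173) (Step.D (nat_lit 9999) Step.done))) (Scr.cons (nat_lit 1) (nat_lit 0) (Step.D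 (nat_lit 9999) (Step.F (nat_lit 11176) Step.done)) (Scr.cons (nat_lit 16) (nat_lit 3) (Step.L (Step.L (Step.L (Step.L (Step.L (Step.D (nat_lit 6364) (Step.D (nat_lit 9517) (Step.F (nat_lit 11177) (Step.L (Step.L (Step.L (Step.L (Step.L (Step.L (Step.L (Step.L (Step.L (Step.L (Step.L (Step.L (Step.L (Step.L (Step.L Step.done))))))))))))))))))))))) (Scr.cons (nat_lit 12) (nat_lit 4) (Step.L (Step.L (Step.L (Step.L (Step.D (nat_lit 9992) Step.done))))) (Scr.cons (nat_lit 12) (nat_lit 4) (Step.L (Step.D (nat_lit 9992) (Step.F (nat_lit 11179) (Step.L (Step.L Step.done))))) (Scr.cons (nat_lit 12) (nat_lit 4) (Step.L (Step.L (Step.L (Step.L (Step.D (nat_lit 9994) Step.done))))) (Scr.cons (nat_lit 12) (nat_lit 4) (Step.L (Step.D (nat_lit 9994) (Step.F (nat_lit 11181) (Step.L (Step.L Step.done))))) (Scr.cons (nat_lit 12) (nat_lit 4) (Step.L (Step.L (Step.L (Step.L (Step.D (nat_lit 9995) Step.done))))) (Scr.cons (nat_lit 12) (nat_lit 4) (Step.L (Step.D (nat_lit 9995) (Step.F (nat_lit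 11183) (Step.L (Step.L Step.done))))) (Scr.cons (nat_lit 12) (nat_lit 1) (Step.L (Step.L (Step.L (Step.L (Step.D (nat_lit 9997) Step.done))))) (Scr.cons (nat_lit 12) (nat_lit 1) (Step.L (Step.D (nat_lit 9997) (Step.F (nat_lit 11185) (Step.L (Step.L Step.done))))) (Scr.cons (nat_lit 12) (nat_lit 4) (Step.L (Step.L (Step.L (Step.L (Step.D (nat_lit 10000) Step.done))))) (Scr.cons (nat_lit 12) (nat_lit 4) (Step.L (Step.D (nat_lit 10000) (Step.F (nat_lit 11187) (Step.L (Step.L Step.done))))) (Scr.cons (nat_lit 11) (nat_lit 0) (Step.L (Step.L (Step.L (Step.D (nat_lit 974) (Step.D (nat_lit 2097) Step.done))))) (Scr.cons (nat_lit 12) (nat_lit 1) (Step.F (nat_lit 11189) (Step.L (Step.L (Step.B (nat_lit 11189) (Step.D (nat_lit 4009) Step.done))))) (Scr.cons (nat_lit 7) (nat_lit 5) (Step.F (nat_lit 11190) (Step.U (nat_lit 2097) (Step.U (nat_lit 974) (Step.L (Step.L (Step.L (Step.L (Step.L (Step.L (Step.L (Step.L (Step.L (Step.L (Step.L (Step.L (Step.L (Step.L (Step.L (Step.L (Step.L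 Step.done)))))))))))))))))))) (Scr.cons (nat_lit 6) (nat_lit 0) (Step.L (Step.L (Step.L (Step.F (nat_lit 11191) (Step.U (nat_lit 4009) (Step.F (nat_lit 11189) (Step.L (Step.L (Step.L (Step.L (Step.L Step.done))))))))))) (Scr.cons (nat_lit 12) (nat_lit 4) (Step.L (Step.L (Step.L (Step.L (Step.D (nat_lit 10018) Step.done))))) (Scr.cons (nat_lit 12) (nat_lit 4) (Step.L (Step.D (nat_lit 10018) (Step.F (nat_lit 11193) (Step.L (Step.L Step.done))))) (Scr.cons (nat_lit 12) (nat_lit 1) (Step.L (Step.L (Step.L (Step.L (Step.D (nat_lit 10019) Step.done))))) (Scr.cons (nat_lit 12) (nat_lit 1) (Step.L (Step.D (nat_lit 10019) (Step.F (nat_lit 11195) (Step.L (Step.L Step.done))))) (Scr.cons (nat_lit 12) (nat_lit 1) (Step.L (Step.L (Step.L (Step.L (Step.D (nat_lit 10050) Step.done))))) (Scr.cons (nat_lit 12) (nat_lit 1) (Step.L (Step.D (nat_lit 10050) (Step.F (nat_lit 11197) (Step.L (Step.L Step.done))))) (Scr.cons (nat_lit 12) (nat_lit 4) (Step.L (Step.L (Step.L (Step.L (Step.D (nat_lit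 10054) Step.done))))) (Scr.cons (nat_lit 12) (nat_lit 4) (Step.L (Step.D (nat_lit 10054) (Step.F (nat_lit 11199) (Step.L (Step.L Step.done))))) (Scr.cons (nat_lit 12) (nat_lit 1) (Step.L (Step.L (Step.L (Step.L (Step.D (nat_lit 10055) Step.done))))) (Scr.cons (nat_lit 12) (nat_lit 1) (Step.L (Step.D (nat_lit 10055) (Step.F (nat_lit 11201) (Step.L (Step.L Step.done))))) Scr.nil))))))))))))))))))))))))))))))))))))))))
noncomputable def s280 : Scr := (Scr.cons (nat_lit 11) (nat_lit 0) (Step.U (nat_lit 112) (Step.U (nat_lit 29) (Step.L (Step.L (Step.D (nat_lit 346) Step.done))))) (Scr.cons (nat_lit 12) (nat_lit 1) (Step.U (nat_lit 29) (Step.L (Step.L (Step.D (nat_lit 29) (Step.D (nat_lit 111) Step.done))))) (Scr.cons (nat_lit 12) (nat_lit 1) (Step.U (nat_lit 112) (Step.D (nat_lit 111) (Step.F (nat_lit 11204) (Step.D (nat_lit 112) (Step.D (nat_lit 348) Step.done))))) (Scr.cons (nat_lit 12) (nat_lit 1) (Step.F (nat_lit 11203) (Step.D (nat_lit 348) (Step.F (nat_lit 11205) (Step.B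 (nat_lit 11203) (Step.D (nat_lit 933) Step.done))))) (Scr.cons (nat_lit 12) (nat_lit 4) (Step.U (nat_lit 2013) (Step.F (nat_lit 11206) (Step.D (nat_lit 933) (Step.D (nat_lit 2013) (Step.D (nat_lit 3875) Step.done))))) (Scr.cons (nat_lit 12) (nat_lit 4) (Step.U (nat_lit 3876) (Step.D (nat_lit 3875) (Step.F (nat_lit 11207) (Step.D (nat_lit 3876) (Step.D (nat_lit 6670) Step.done))))) (Scr.cons (nat_lit 12) (nat_lit 1) (Step.U (nat_lit 2014) (Step.F (nat_lit 11206) (Step.D (nat_lit 933) (Step.D (nat_lit 2014) (Step.D (nat_lit 3877) Step.done))))) (Scr.cons (nat_lit 16) (nat_lit 5) (Step.F (nat_lit 11209) (Step.U (nat_lit 2014) (Step.F (nat_lit 11206) (Step.F (nat_lit 11203) (Step.U (nat_lit 112) (Step.U (nat_lit 29) (Step.L (Step.L (Step.L (Step.L (Step.L (Step.L (Step.L (Step.L (Step.L (Step.L (Step.L (Step.L (Step.L (Step.L (Step.L (Step.L (Step.L Step.done))))))))))))))))))))))) (Scr.cons (nat_lit 11) (nat_lit 0) (Step.L (Step.L (Step.L (Step.L (Step.F (nat_lit 11210)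 Step.done))))) (Scr.cons (nat_lit 11) (nat_lit 0) (Step.U (nat_lit 3878) (Step.U (nat_lit 2014) (Step.D (nat_lit 2013) (Step.D (nat_lit 3876) (Step.D (nat_lit 6671) Step.done))))) (Scr.cons (nat_lit 7) (nat_lit 0) (Step.U (nat_lit 10795) (Step.L (Step.L (Step.L (Step.L (Step.L (Step.L (Step.L (Step.L (Step.L (Step.L (Step.L (Step.L (Step.L (Step.L (Step.B (nat_lit 11211) (Step.U (nat_lit 3877) (Step.D (nat_lit 3878) (Step.B (nat_lit 11212) (Step.D (nat_lit 9836) Step.done)))))))))))))))))))) (Scr.cons (nat_lit 4) (nat_lit 0) (Step.F (nat_lit 11213) (Step.U (nat_lit 10795) (Step.L (Step.L (Step.D (nat_lit 10796) Step.done))))) (Scr.cons (nat_lit 9) (nat_lit 1) (Step.L (Step.L (Step.L (Step.L (Step.L (Step.L (Step.L (Step.L (Step.L (Step.L (Step.L (Step.L (Step.L (Step.L (Step.L (Step.L (Step.L (Step.L (Step.D (nat_lit 10796) (Step.F (nat_lit 11214) (Step.U (nat_lit 9836) (Step.U (nat_lit 6671) (Step.B (nat_lit 11208) (Step.D (nat_lit 9835) Step.done))))))))))))))))))))))))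 (Scr.cons (nat_lit 1) (nat_lit 1) (Step.D (nat_lit 9835) (Step.F (nat_lit 11215) (Step.D (nat_lit 5030) Step.done))) (Scr.cons (nat_lit 0) (nat_lit 1) (Step.B (nat_lit 11208) (Step.B (nat_lit 11216) (Step.D (nat_lit 8051) Step.done))) (Scr.cons (nat_lit 0) (nat_lit 1) (Step.D (nat_lit 8051) (Step.F (nat_lit 11217) Step.done)) (Scr.cons (nat_lit 14) (nat_lit 3) (Step.L (Step.L (Step.L (Step.L (Step.L (Step.D (nat_lit 5030) (Step.B (nat_lit 11218) (Step.D (nat_lit 6671) (Step.F (nat_lit 11212) (Step.U (nat_lit 3878) (Step.B (nat_lit 11209) (Step.F (nat_lit 11211) (Step.L (Step.L (Step.L (Step.L (Step.L (Step.L (Step.L (Step.L Step.done)))))))))))))))))))) (Scr.cons (nat_lit 12) (nat_lit 1) (Step.L (Step.L (Step.L (Step.L (Step.D (nat_lit 11695) Step.done))))) (Scr.cons (nat_lit 6) (nat_lit 0) (Step.U (nat_lit 11695) (Step.L (Step.L (Step.B (nat_lit 8658) (Step.B (nat_lit 8659) (Step.U (nat_lit 7216) (Step.L (Step.L (Step.L (Step.L (Step.D (nat_lit 11871) Step.done)))))))))))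 (Scr.cons (nat_lit 14) (nat_lit 4) (Step.U (nat_lit 11573) (Step.U (nat_lit 8954) (Step.L (Step.L (Step.L (Step.L (Step.L (Step.L (Step.L (Step.L (Step.L (Step.L (Step.L (Step.L (Step.L (Step.L (Step.L (Step.L (Step.L (Step.D (nat_lit 11871) Step.done)))))))))))))))))))) (Scr.cons (nat_lit 11) (nat_lit 0) (Step.B (nat_lit 11221) (Step.F (nat_lit 11222) (Step.U (nat_lit 11573) (Step.U (nat_lit 8954) (Step.L (Step.L Step.done)))))) (Scr.cons (nat_lit 0) (nat_lit 0) (Step.B (nat_lit 11220) (Step.B (nat_lit 11223) Step.done)) (Scr.cons (nat_lit 12) (nat_lit 4) (Step.L (Step.L (Step.L (Step.L (Step.D (nat_lit 10084) Step.done))))) (Scr.cons (nat_lit 12) (nat_lit 4) (Step.L (Step.D (nat_lit 10084) (Step.F (nat_lit 11225) (Step.L (Step.L Step.done))))) (Scr.cons (nat_lit 11) (nat_lit 0) (Step.L (Step.L (Step.L (Step.D (nat_lit 4092) (Step.D (nat_lit 6953) Step.done))))) (Scr.cons (nat_lit 16) (nat_lit 3) (Step.L (Step.L (Step.L (Step.L (Step.L (Step.L (Step.L (Step.L (Step.L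 (Step.L (Step.L (Step.L (Step.L (Step.L (Step.L (Step.L (Step.L (Step.D (nat_lit 4092) (Step.D (nat_lit 6953) (Step.F (nat_lit 11227) (Step.L (Step.L (Step.L Step.done))))))))))))))))))))))) (Scr.cons (nat_lit 6) (nat_lit 3) (Step.L (Step.L (Step.L (Step.L (Step.L (Step.L (Step.L (Step.L (Step.L (Step.L (Step.D (nat_lit 11874) Step.done))))))))))) (Scr.cons (nat_lit 16) (nat_lit 3) (Step.L (Step.L (Step.L (Step.L (Step.L (Step.L (Step.L (Step.L (Step.L (Step.L (Step.L (Step.L (Step.L (Step.L (Step.L (Step.L (Step.L (Step.L (Step.L (Step.L (Step.L (Step.D (nat_lit 11874) (Step.F (nat_lit 11229) Step.done))))))))))))))))))))))) (Scr.cons (nat_lit 12) (nat_lit 1) (Step.L (Step.L (Step.L (Step.L (Step.D (nat_lit 10094) Step.done))))) (Scr.cons (nat_lit 12) (nat_lit 1) (Step.L (Step.D (nat_lit 10094) (Step.F (nat_lit 11231) (Step.L (Step.L Step.done))))) (Scr.cons (nat_lit 1) (nat_lit 1) (Step.B (nat_lit 6368) (Step.B (nat_lit 6376) (Step.L Step.done))) (Scr.cons (nat_lit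 1) (nat_lit 1) (Step.D (nat_lit 10335) (Step.B (nat_lit 11233) (Step.D (nat_lit 7788) Step.done))) (Scr.cons (nat_lit 1) (nat_lit 1) (Step.D (nat_lit 7788) (Step.F (nat_lit 11234) Step.done)) (Scr.cons (nat_lit 16) (nat_lit 1) (Step.L (Step.L (Step.L (Step.L (Step.L (Step.L (Step.L (Step.L (Step.B (nat_lit 11235) (Step.U (nat_lit 7257) (Step.L (Step.L (Step.L (Step.L (Step.L (Step.L (Step.L (Step.L (Step.L (Step.D (nat_lit 4045) (Step.D (nat_lit 6895) (Step.D (nat_lit 10029) (Step.D (nat_lit 11864) Step.done))))))))))))))))))))))) (Scr.cons (nat_lit 11) (nat_lit 0) (Step.L (Step.L (Step.D (nat_lit 4045) (Step.D (nat_lit 6895) (Step.D (nat_lit 10029) Step.done))))) (Scr.cons (nat_lit 12) (nat_lit 1) (Step.F (nat_lit 11237) (Step.L (Step.L (Step.B (nat_lit 11237) (Step.D (nat_lit 11864) Step.done))))) (Scr.cons (nat_lit 14) (nat_lit 2) (Step.F (nat_lit 11238) (Step.F (nat_lit 11237) (Step.L (Step.L (Step.L (Step.L (Step.L (Step.L (Step.L (Step.L (Step.L (Step.L (Step.L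 (Step.L (Step.L (Step.L (Step.L (Step.L (Step.L (Step.L Step.done)))))))))))))))))))) (Scr.cons (nat_lit 4) (nat_lit 0) (Step.L (Step.B (nat_lit 11236) (Step.B (nat_lit 11239) (Step.L (Step.L Step.done))))) (Scr.cons (nat_lit 12) (nat_lit 4) (Step.L (Step.L (Step.L (Step.L (Step.D (nat_lit 10104) Step.done))))) (Scr.cons (nat_lit 12) (nat_lit 4) (Step.L (Step.D (nat_lit 10104) (Step.F (nat_lit 11241) (Step.L (Step.L Step.done))))) Scr.nil))))))))))))))))))))))))))))))))))))))))
noncomputable def s281 : Scr := (Scr.cons (nat_lit 12) (nat_lit 4) (Step.U (nat_lit 7048) (Step.F (nat_lit 1843) (Step.D (nat_lit 4173) (Step.D (nat_lit 7048) (Step.D (nat_lit 10176) Step.done))))) (Scr.cons (nat_lit 11) (nat_lit 0) (Step.U (nat_lit 6979) (Step.L (Step.L (Step.L (Step.D (nat_lit 10112) Step.done))))) (Scr.cons (nat_lit 9) (nat_lit 3) (Step.U (nat_lit 10176) (Step.U (nat_lit 7048) (Step.U (nat_lit 4173) (Step.U (nat_lit 2207) (Step.U (nat_lit 1034) (Step.L (Step.L (Step.L (Step.L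 (Step.L (Step.L (Step.L (Step.L (Step.L (Step.L (Step.L (Step.L (Step.L (Step.L (Step.L (Step.L (Step.L (Step.D (nat_lit 6979) (Step.B (nat_lit 11244) Step.done)))))))))))))))))))))))) (Scr.cons (nat_lit 0) (nat_lit 0) (Step.B (nat_lit 11243) (Step.B (nat_lit 11245) Step.done)) (Scr.cons (nat_lit 13) (nat_lit 0) (Step.L (Step.L (Step.L (Step.L (Step.B (nat_lit 1426) (Step.D (nat_lit 4173) (Step.D (nat_lit 7048) (Step.B (nat_lit 11246) (Step.U (nat_lit 10112) (Step.L (Step.L Step.done))))))))))) (Scr.cons (nat_lit 11) (nat_lit 0) (Step.L (Step.L (Step.L (Step.L (Step.D (nat_lit 8030) Step.done))))) (Scr.cons (nat_lit 11) (nat_lit 0) (Step.L (Step.L (Step.L (Step.L (Step.D (nat_lit 4994) Step.done))))) (Scr.cons (nat_lit 12) (nat_lit 1) (Step.F (nat_lit 11249) (Step.L (Step.L (Step.B (nat_lit 11249) (Step.D (nat_lit 8004) Step.done))))) (Scr.cons (nat_lit 9) (nat_lit 5) (Step.U (nat_lit 8030) (Step.L (Step.L (Step.L (Step.L (Step.L (Step.L (Step.L (Step.L (Step.L (Step.L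 (Step.L (Step.L (Step.L (Step.L (Step.L (Step.L (Step.L (Step.L (Step.L (Step.B (nat_lit 11249) (Step.B (nat_lit 11250) (Step.D (nat_lit 10977) Step.done))))))))))))))))))))))) (Scr.cons (nat_lit 12) (nat_lit 0) (Step.B (nat_lit 11251) (Step.U (nat_lit 10977) (Step.F (nat_lit 11250) (Step.D (nat_lit 8004) (Step.D (nat_lit 10977) Step.done))))) (Scr.cons (nat_lit 16) (nat_lit 1) (Step.F (nat_lit 11252) (Step.F (nat_lit 11248) (Step.L (Step.L (Step.L (Step.L (Step.L (Step.L (Step.L (Step.L (Step.L (Step.L (Step.L (Step.L (Step.L (Step.L (Step.L (Step.L (Step.L (Step.L (Step.L (Step.L (Step.D (nat_lit 11136) Step.done))))))))))))))))))))))) (Scr.cons (nat_lit 12) (nat_lit 1) (Step.L (Step.L (Step.L (Step.L (Step.D (nat_lit 11136) Step.done))))) (Scr.cons (nat_lit 12) (nat_lit 1) (Step.F (nat_lit 9947) (Step.L (Step.L (Step.B (nat_lit 9947) (Step.D (nat_lit 4137) Step.done))))) (Scr.cons (nat_lit 0) (nat_lit 0) (Step.B (nat_lit 11255) (Step.F (nat_lit 9949) Step.done)) (Scr.cons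 (nat_lit 12) (nat_lit 1) (Step.L (Step.L (Step.L (Step.L (Step.D (nat_lit 4133) Step.done))))) (Scr.cons (nat_lit 14) (nat_lit 3) (Step.F (nat_lit 11254) (Step.L (Step.L (Step.L (Step.L (Step.L (Step.L (Step.F (nat_lit 11256) (Step.F (nat_lit 9947) (Step.L (Step.L (Step.L (Step.L (Step.L (Step.L (Step.L (Step.L (Step.L (Step.B (nat_lit 11257) (Step.D (nat_lit 6995) (Step.D (nat_lit 10123) Step.done))))))))))))))))))))) (Scr.cons (nat_lit 1) (nat_lit 0) (Step.B (nat_lit 11253) (Step.B (nat_lit 11258) Step.done)) (Scr.cons (nat_lit 7) (nat_lit 5) (Step.L (Step.L (Step.L (Step.L (Step.L (Step.L (Step.B (nat_lit 11248) (Step.B (nat_lit 11251) (Step.B (nat_lit 11259) (Step.U (nat_lit 10123) (Step.U (nat_lit 6995) (Step.U (nat_lit 4133) (Step.L (Step.L (Step.L (Step.L (Step.L (Step.L (Step.L (Step.L Step.done)))))))))))))))))))) (Scr.cons (nat_lit 12) (nat_lit 1) (Step.L (Step.L (Step.L (Step.L (Step.D (nat_lit 10135) Step.done))))) (Scr.cons (nat_lit 12) (nat_lit 1) (Step.L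 (Step.D (nat_lit 10135) (Step.F (nat_lit 11261) (Step.L (Step.L Step.done))))) (Scr.cons (nat_lit 11) (nat_lit 0) (Step.U (nat_lit 8889) (Step.L (Step.L (Step.D (nat_lit 8888) (Step.D (nat_lit 11538) Step.done))))) (Scr.cons (nat_lit 4) (nat_lit 0) (Step.U (nat_lit 5761) (Step.D (nat_lit 5762) (Step.F (nat_lit 4771) (Step.U (nat_lit 7019) (Step.D (nat_lit 7020) (Step.D (nat_lit 10150) Step.done)))))) (Scr.cons (nat_lit 1) (nat_lit 1) (Step.D (nat_lit 10150) (Step.F (nat_lit 11264) (Step.D (nat_lit 8885) Step.done))) (Scr.cons (nat_lit 1) (nat_lit 1) (Step.D (nat_lit 8885) (Step.F (nat_lit 11265) Step.done)) (Scr.cons (nat_lit 14) (nat_lit 3) (Step.F (nat_lit 11263) (Step.U (nat_lit 8889) (Step.L (Step.L (Step.L (Step.D (nat_lit 1634) (Step.D (nat_lit 3250) (Step.D (nat_lit 5761) (Step.B (nat_lit 11266) (Step.U (nat_lit 7020) (Step.U (nat_lit 4152) (Step.U (nat_lit 2188) (Step.L (Step.L (Step.L (Step.L (Step.L (Step.L (Step.L (Step.D (nat_lit 10434) Step.done))))))))))))))))))))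 (Scr.cons (nat_lit 16) (nat_lit 5) (Step.L (Step.D (nat_lit 10434) (Step.F (nat_lit 11267) (Step.F (nat_lit 11263) (Step.U (nat_lit 8889) (Step.L (Step.L (Step.L (Step.L (Step.L (Step.L (Step.L (Step.L (Step.L (Step.L (Step.L (Step.L (Step.L (Step.L (Step.L (Step.L (Step.L (Step.L Step.done))))))))))))))))))))))) (Scr.cons (nat_lit 12) (nat_lit 1) (Step.L (Step.L (Step.L (Step.L (Step.D (nat_lit 10177) Step.done))))) (Scr.cons (nat_lit 12) (nat_lit 1) (Step.L (Step.D (nat_lit 10177) (Step.F (nat_lit 11269) (Step.L (Step.L Step.done))))) (Scr.cons (nat_lit 12) (nat_lit 1) (Step.L (Step.L (Step.L (Step.L (Step.D (nat_lit 10183) Step.done))))) (Scr.cons (nat_lit 12) (nat_lit 1) (Step.L (Step.D (nat_lit 10183) (Step.F (nat_lit 11271) (Step.L (Step.L Step.done))))) (Scr.cons (nat_lit 6) (nat_lit 3) (Step.B (nat_lit 4551) (Step.U (nat_lit 11059) (Step.L (Step.L (Step.L (Step.L (Step.L (Step.L (Step.L (Step.L (Step.L Step.done))))))))))) (Scr.cons (nat_lit 0) (nat_lit 1) (Step.D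 (nat_lit 9848) (Step.F (nat_lit 4527) Step.done)) (Scr.cons (nat_lit 1) (nat_lit 0) (Step.D (nat_lit 9847) (Step.F (nat_lit 4520) (Step.D (nat_lit 6380) Step.done))) (Scr.cons (nat_lit 1) (nat_lit 0) (Step.D (nat_lit 6689) (Step.B (nat_lit 11275) (Step.D (nat_lit 9529) Step.done))) (Scr.cons (nat_lit 1) (nat_lit 0) (Step.D (nat_lit 9529) (Step.F (nat_lit 11276) Step.done)) (Scr.cons (nat_lit 12) (nat_lit 4) (Step.L (Step.L (Step.L (Step.L (Step.D (nat_lit 6806) Step.done))))) (Scr.cons (nat_lit 12) (nat_lit 1) (Step.U (nat_lit 6380) (Step.F (nat_lit 4496) (Step.D (nat_lit 3667) (Step.D (nat_lit 6380) (Step.D (nat_lit 9528) Step.done))))) (Scr.cons (nat_lit 12) (nat_lit 4) (Step.U (nat_lit 140) (Step.F (nat_lit 8923) (Step.D (nat_lit 40) (Step.D (nat_lit 140) (Step.D (nat_lit 408) Step.done))))) (Scr.cons (nat_lit 12) (nat_lit 1) (Step.U (nat_lit 1050) (Step.F (nat_lit 11280) (Step.D (nat_lit 408) (Step.D (nat_lit 1050) (Step.D (nat_lit 2226) Step.done))))) (Scr.cons (nat_lit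 12) (nat_lit 1) (Step.U (nat_lit 2227) (Step.D (nat_lit 2226) (Step.F (nat_lit 11281) (Step.D (nat_lit 2227) (Step.D (nat_lit 4206) Step.done))))) Scr.nil))))))))))))))))))))))))))))))))))))))))
noncomputable def s282 : Scr := (Scr.cons (nat_lit 6) (nat_lit 3) (Step.U (nat_lit 2229) (Step.U (nat_lit 1053) (Step.L (Step.L (Step.L (Step.B (nat_lit 8923) (Step.D (nat_lit 140) (Step.D (nat_lit 408) (Step.D (nat_lit 1050) (Step.B (nat_lit 11281) (Step.D (nat_lit 4205) Step.done))))))))))) (Scr.cons (nat_lit 15) (nat_lit 0) (Step.U (nat_lit 7085) (Step.F (nat_lit 11282) (Step.U (nat_lit 2227) (Step.D (nat_lit 2226) (Step.D (nat_lit 4205) (Step.F (nat_lit 11283) (Step.F (nat_lit 3262) (Step.F (nat_lit 3261) (Step.L (Step.L (Step.L (Step.L (Step.D (nat_lit 3895) (Step.D (nat_lit 6691) (Step.D (nat_lit 9850) Step.done))))))))))))))) (Scr.cons (nat_lit 8) (nat_lit 1) (Step.U (nat_lit 4204) (Step.U (nat_lit 2225) (Step.U (nat_lit 1049) (Step.U (nat_lit 408) (Step.U (nat_lit 140)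 (Step.U (nat_lit 40) (Step.L (Step.L (Step.L (Step.B (nat_lit 10) (Step.D (nat_lit 407) (Step.B (nat_lit 2158) (Step.D (nat_lit 2223) (Step.B (nat_lit 2166) (Step.D (nat_lit 7081) Step.done))))))))))))))) (Scr.cons (nat_lit 12) (nat_lit 4) (Step.U (nat_lit 7080) (Step.F (nat_lit 2166) (Step.D (nat_lit 4200) (Step.D (nat_lit 7080) (Step.D (nat_lit 10196) Step.done))))) (Scr.cons (nat_lit 0) (nat_lit 1) (Step.B (nat_lit 11286) (Step.B (nat_lit 2186) (Step.D (nat_lit 6803) Step.done))) (Scr.cons (nat_lit 1) (nat_lit 0) (Step.D (nat_lit 7080) (Step.B (nat_lit 11287) (Step.D (nat_lit 9965) Step.done))) (Scr.cons (nat_lit 1) (nat_lit 0) (Step.D (nat_lit 9965) (Step.F (nat_lit 11288) Step.done)) (Scr.cons (nat_lit 1) (nat_lit 0) (Step.D (nat_lit 1895) (Step.B (nat_lit 2155) (Step.D (nat_lit 962) Step.done))) (Scr.cons (nat_lit 0) (nat_lit 1) (Step.U (nat_lit 2069) (Step.F (nat_lit 11290) (Step.D (nat_lit 1894) Step.done))) (Scr.cons (nat_lit 1) (nat_lit 1) (Step.U (nat_lit 3970)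 (Step.B (nat_lit 11291) (Step.D (nat_lit 3675) Step.done))) (Scr.cons (nat_lit 12) (nat_lit 1) (Step.L (Step.L (Step.L (Step.L (Step.D (nat_lit 874) Step.done))))) (Scr.cons (nat_lit 12) (nat_lit 1) (Step.U (nat_lit 1893) (Step.F (nat_lit 11293) (Step.D (nat_lit 874) (Step.D (nat_lit 1893) (Step.D (nat_lit 3674) Step.done))))) (Scr.cons (nat_lit 8) (nat_lit 1) (Step.U (nat_lit 3675) (Step.U (nat_lit 1894) (Step.U (nat_lit 875) (Step.U (nat_lit 326) (Step.L (Step.L (Step.L (Step.L (Step.L (Step.L (Step.L (Step.B (nat_lit 11293) (Step.D (nat_lit 1893) (Step.B (nat_lit 11294) (Step.D (nat_lit 6393) Step.done))))))))))))))) (Scr.cons (nat_lit 0) (nat_lit 1) (Step.U (nat_lit 6803) (Step.B (nat_lit 11292) (Step.B (nat_lit 11295) Step.done))) (Scr.cons (nat_lit 1) (nat_lit 0) (Step.F (nat_lit 11289) (Step.B (nat_lit 11296) (Step.D (nat_lit 9543) Step.done))) (Scr.cons (nat_lit 1) (nat_lit 0) (Step.D (nat_lit 9543) (Step.F (nat_lit 11297) Step.done)) (Scr.cons (nat_lit 16) (nat_lit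 4) (Step.U (nat_lit 9851) (Step.D (nat_lit 9850) (Step.F (nat_lit 11284) (Step.U (nat_lit 7085) (Step.F (nat_lit 11282) (Step.U (nat_lit 2227) (Step.U (nat_lit 1050) (Step.D (nat_lit 1049) (Step.D (nat_lit 2225) (Step.D (nat_lit 4204) (Step.B (nat_lit 11285) (Step.U (nat_lit 7081) (Step.F (nat_lit 11298) (Step.U (nat_lit 6393) (Step.F (nat_lit 11294) (Step.U (nat_lit 1893) (Step.F (nat_lit 11293) (Step.L (Step.L (Step.D (nat_lit 873) (Step.D (nat_lit 1892) (Step.D (nat_lit 3673) (Step.D (nat_lit 6392) (Step.D (nat_lit 9542) Step.done)))))))))))))))))))))))) (Scr.cons (nat_lit 1) (nat_lit 0) (Step.D (nat_lit 9851) (Step.B (nat_lit 11299) Step.done)) (Scr.cons (nat_lit 12) (nat_lit 4) (Step.U (nat_lit 3895) (Step.L (Step.L (Step.D (nat_lit 3895) (Step.D (nat_lit 6691) Step.done))))) (Scr.cons (nat_lit 6) (nat_lit 1) (Step.F (nat_lit 11300) (Step.F (nat_lit 11301) (Step.U (nat_lit 3895) (Step.L (Step.L (Step.L (Step.L (Step.L (Step.F (nat_lit 11277) (Step.D (nat_lit 9528)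 (Step.D (nat_lit 11771) Step.done))))))))))) (Scr.cons (nat_lit 1) (nat_lit 1) (Step.D (nat_lit 2082) (Step.B (nat_lit 10578) (Step.D (nat_lit 3895) Step.done))) (Scr.cons (nat_lit 0) (nat_lit 1) (Step.U (nat_lit 6691) (Step.F (nat_lit 11303) (Step.L Step.done))) (Scr.cons (nat_lit 1) (nat_lit 0) (Step.F (nat_lit 11300) (Step.B (nat_lit 11304) (Step.L Step.done))) (Scr.cons (nat_lit 0) (nat_lit 1) (Step.F (nat_lit 11302) (Step.B (nat_lit 11305) (Step.L Step.done))) (Scr.cons (nat_lit 1) (nat_lit 1) (Step.D (nat_lit 11771) (Step.B (nat_lit 11306) (Step.L Step.done))) (Scr.cons (nat_lit 0) (nat_lit 1) (Step.B (nat_lit 11279) (Step.B (nat_lit 11307) (Step.D (nat_lit 6806) Step.done))) (Scr.cons (nat_lit 0) (nat_lit 0) (Step.B (nat_lit 11278) (Step.F (nat_lit 11308) Step.done)) (Scr.cons (nat_lit 0) (nat_lit 1) (Step.B (nat_lit 4519) (Step.B (nat_lit 4521) (Step.D (nat_lit 9526) Step.done))) (Scr.cons (nat_lit 0) (nat_lit 1) (Step.D (nat_lit 9526) (Step.F (nat_lit 11310)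 Step.done)) (Scr.cons (nat_lit 12) (nat_lit 4) (Step.U (nat_lit 113) (Step.L (Step.L (Step.D (nat_lit 113) (Step.D (nat_lit 350) Step.done))))) (Scr.cons (nat_lit 13) (nat_lit 0) (Step.U (nat_lit 2024) (Step.L (Step.L (Step.L (Step.L (Step.L (Step.D (nat_lit 113) (Step.B (nat_lit 11312) (Step.D (nat_lit 938) (Step.D (nat_lit 2022) (Step.D (nat_lit 3889) Step.done))))))))))) (Scr.cons (nat_lit 12) (nat_lit 1) (Step.U (nat_lit 938) (Step.F (nat_lit 11312) (Step.D (nat_lit 350) (Step.D (nat_lit 938) (Step.D (nat_lit 2022) Step.done))))) (Scr.cons (nat_lit 6) (nat_lit 3) (Step.U (nat_lit 2024) (Step.L (Step.L (Step.L (Step.L (Step.L (Step.D (nat_lit 113) (Step.D (nat_lit 350) (Step.D (nat_lit 938) (Step.B (nat_lit 11314) (Step.D (nat_lit 3889) Step.done))))))))))) (Scr.cons (nat_lit 12) (nat_lit 4) (Step.U (nat_lit 3893) (Step.B (nat_lit 11313) (Step.F (nat_lit 11315) (Step.D (nat_lit 3893) (Step.D (nat_lit 6687) Step.done))))) (Scr.cons (nat_lit 12) (nat_lit 4) (Step.U (nat_lit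 6379) (Step.F (nat_lit 4496) (Step.D (nat_lit 3667) (Step.D (nat_lit 6379) (Step.D (nat_lit 9526) Step.done))))) (Scr.cons (nat_lit 0) (nat_lit 0) (Step.B (nat_lit 11317) (Step.F (nat_lit 11310) Step.done)) (Scr.cons (nat_lit 12) (nat_lit 1) (Step.L (Step.L (Step.L (Step.L (Step.D (nat_lit 4020) Step.done))))) (Scr.cons (nat_lit 14) (nat_lit 3) (Step.L (Step.F (nat_lit 11277) (Step.U (nat_lit 6380) (Step.D (nat_lit 6379) (Step.B (nat_lit 11318) (Step.U (nat_lit 6809) (Step.U (nat_lit 3972) (Step.L (Step.L (Step.L (Step.L (Step.L (Step.L (Step.L (Step.L (Step.L (Step.L (Step.L (Step.B (nat_lit 11319) (Step.D (nat_lit 6869) (Step.D (nat_lit 10012) Step.done))))))))))))))))))))) (Scr.cons (nat_lit 1) (nat_lit 0) (Step.D (nat_lit 10012) (Step.F (nat_lit 11320) (Step.D (nat_lit 3894) Step.done))) (Scr.cons (nat_lit 11) (nat_lit 0) (Step.U (nat_lit 3894) (Step.L (Step.D (nat_lit 2024) (Step.D (nat_lit 3893) (Step.D (nat_lit 6688) Step.done))))) Scr.nil))))))))))))))))))))))))))))))))))))))))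
noncomputable def s283 : Scr := (Scr.cons (nat_lit 1) (nat_lit 0) (Step.D (nat_lit 6869) (Step.B (nat_lit 11321) (Step.B (nat_lit 11322) Step.done))) (Scr.cons (nat_lit 1) (nat_lit 0) (Step.D (nat_lit 6688) (Step.F (nat_lit 11323) (Step.D (nat_lit 6870) Step.done))) (Scr.cons (nat_lit 1) (nat_lit 0) (Step.D (nat_lit 6870) (Step.F (nat_lit 11324) Step.done)) (Scr.cons (nat_lit 16) (nat_lit 4) (Step.U (nat_lit 9846) (Step.F (nat_lit 11316) (Step.F (nat_lit 11325) (Step.F (nat_lit 11319) (Step.L (Step.L (Step.L (Step.L (Step.L (Step.L (Step.L (Step.L (Step.L (Step.L (Step.L (Step.L (Step.L (Step.L (Step.L (Step.L (Step.L (Step.D (nat_lit 6806) (Step.D (nat_lit 9967) Step.done))))))))))))))))))))))) (Scr.cons (nat_lit 1) (nat_lit 1) (Step.U (nat_lit 9967) (Step.F (nat_lit 11308) (Step.U (nat_lit 6380) Step.done))) (Scr.cons (nat_lit 1) (nat_lit 1) (Step.B (nat_lit 11326) (Step.B (nat_lit 11327) (Step.D (nat_lit 6379) Step.done))) (Scr.cons (nat_lit 1) (nat_lit 0) (Step.D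 (nat_lit 9846) (Step.B (nat_lit 11328) Step.done)) (Scr.cons (nat_lit 11) (nat_lit 0) (Step.U (nat_lit 9968) (Step.D (nat_lit 9967) (Step.F (nat_lit 11326) (Step.U (nat_lit 9846) (Step.D (nat_lit 9845) Step.done))))) (Scr.cons (nat_lit 12) (nat_lit 1) (Step.F (nat_lit 2161) (Step.D (nat_lit 2224) (Step.F (nat_lit 2159) (Step.B (nat_lit 2161) (Step.D (nat_lit 4199) Step.done))))) (Scr.cons (nat_lit 12) (nat_lit 1) (Step.U (nat_lit 7079) (Step.F (nat_lit 11331) (Step.D (nat_lit 4199) (Step.D (nat_lit 7079) (Step.D (nat_lit 10195) Step.done))))) (Scr.cons (nat_lit 12) (nat_lit 4) (Step.L (Step.L (Step.L (Step.L (Step.D (nat_lit 3665) Step.done))))) (Scr.cons (nat_lit 12) (nat_lit 4) (Step.U (nat_lit 3666) (Step.D (nat_lit 3665) (Step.F (nat_lit 11333) (Step.D (nat_lit 3666) (Step.D (nat_lit 6377) Step.done))))) (Scr.cons (nat_lit 12) (nat_lit 4) (Step.U (nat_lit 935) (Step.L (Step.L (Step.D (nat_lit 935) (Step.D (nat_lit 2016) Step.done))))) (Scr.cons (nat_lit 12) (nat_lit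 4) (Step.U (nat_lit 3879) (Step.F (nat_lit 11335) (Step.D (nat_lit 2016) (Step.D (nat_lit 3879) (Step.D (nat_lit 6672) Step.done))))) (Scr.cons (nat_lit 12) (nat_lit 1) (Step.L (Step.L (Step.L (Step.L (Step.D (nat_lit 932) Step.done))))) (Scr.cons (nat_lit 12) (nat_lit 1) (Step.U (nat_lit 2012) (Step.F (nat_lit 11337) (Step.D (nat_lit 932) (Step.D (nat_lit 2012) (Step.D (nat_lit 3874) Step.done))))) (Scr.cons (nat_lit 12) (nat_lit 1) (Step.U (nat_lit 6669) (Step.F (nat_lit 11338) (Step.D (nat_lit 3874) (Step.D (nat_lit 6669) (Step.D (nat_lit 9834) Step.done))))) (Scr.cons (nat_lit 15) (nat_lit 1) (Step.F (nat_lit 11339) (Step.U (nat_lit 6669) (Step.F (nat_lit 11338) (Step.U (nat_lit 2012) (Step.F (nat_lit 11337) (Step.L (Step.L (Step.L (Step.L (Step.L (Step.L (Step.D (nat_lit 935) (Step.D (nat_lit 2016) (Step.D (nat_lit 3879) (Step.D (nat_lit 6672) Step.done))))))))))))))) (Scr.cons (nat_lit 1) (nat_lit 1) (Step.F (nat_lit 5312) (Step.F (nat_lit 5317) (Step.L Step.done)))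 (Scr.cons (nat_lit 1) (nat_lit 1) (Step.D (nat_lit 2753) (Step.B (nat_lit 11341) (Step.L Step.done))) (Scr.cons (nat_lit 0) (nat_lit 1) (Step.B (nat_lit 5309) (Step.B (nat_lit 11342) (Step.D (nat_lit 932) Step.done))) (Scr.cons (nat_lit 1) (nat_lit 0) (Step.U (nat_lit 2012) (Step.F (nat_lit 11343) (Step.L Step.done))) (Scr.cons (nat_lit 0) (nat_lit 1) (Step.U (nat_lit 3874) (Step.B (nat_lit 11344) (Step.L Step.done))) (Scr.cons (nat_lit 1) (nat_lit 0) (Step.U (nat_lit 6669) (Step.B (nat_lit 11345) (Step.L Step.done))) (Scr.cons (nat_lit 0) (nat_lit 1) (Step.U (nat_lit 9834) (Step.B (nat_lit 11346) (Step.D (nat_lit 2751) Step.done))) (Scr.cons (nat_lit 1) (nat_lit 0) (Step.F (nat_lit 11340) (Step.B (nat_lit 11347) (Step.D (nat_lit 5008) Step.done))) (Scr.cons (nat_lit 0) (nat_lit 1) (Step.B (nat_lit 11336) (Step.B (nat_lit 11348) (Step.D (nat_lit 8022) Step.done))) (Scr.cons (nat_lit 0) (nat_lit 1) (Step.D (nat_lit 8022) (Step.F (nat_lit 11349) Step.done)) (Scr.cons (nat_lit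 0) (nat_lit 1) (Step.F (nat_lit 11350) (Step.B (nat_lit 4535) (Step.D (nat_lit 6377) Step.done))) (Scr.cons (nat_lit 0) (nat_lit 0) (Step.B (nat_lit 11334) (Step.F (nat_lit 11351) Step.done)) (Scr.cons (nat_lit 6) (nat_lit 1) (Step.U (nat_lit 936) (Step.L (Step.L (Step.L (Step.L (Step.L (Step.D (nat_lit 29) (Step.B (nat_lit 11204) (Step.D (nat_lit 347) (Step.D (nat_lit 934) (Step.D (nat_lit 2015) Step.done))))))))))) (Scr.cons (nat_lit 12) (nat_lit 4) (Step.U (nat_lit 347) (Step.F (nat_lit 11204) (Step.D (nat_lit 111) (Step.D (nat_lit 347) (Step.D (nat_lit 934) Step.done))))) (Scr.cons (nat_lit 13) (nat_lit 2) (Step.U (nat_lit 936) (Step.L (Step.L (Step.L (Step.L (Step.L (Step.D (nat_lit 29) (Step.D (nat_lit 111) (Step.D (nat_lit 347) (Step.B (nat_lit 11354) (Step.D (nat_lit 2015) Step.done))))))))))) (Scr.cons (nat_lit 12) (nat_lit 1) (Step.U (nat_lit 2018) (Step.B (nat_lit 11353) (Step.F (nat_lit 11355) (Step.D (nat_lit 2018) (Step.D (nat_lit 3882) Step.done))))) (Scr.cons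 (nat_lit 12) (nat_lit 1) (Step.U (nat_lit 6676) (Step.F (nat_lit 11356) (Step.D (nat_lit 3882) (Step.D (nat_lit 6676) (Step.D (nat_lit 9839) Step.done))))) (Scr.cons (nat_lit 11) (nat_lit 0) (Step.U (nat_lit 6674) (Step.U (nat_lit 3880) (Step.D (nat_lit 3879) (Step.D (nat_lit 6673) (Step.D (nat_lit 9837) Step.done))))) (Scr.cons (nat_lit 0) (nat_lit 1) (Step.D (nat_lit 6377) (Step.F (nat_lit 11351) Step.done)) (Scr.cons (nat_lit 7) (nat_lit 2) (Step.U (nat_lit 6673) (Step.F (nat_lit 11359) (Step.U (nat_lit 3666) (Step.L (Step.L (Step.L (Step.L (Step.L (Step.B (nat_lit 9329) (Step.D (nat_lit 871) (Step.B (nat_lit 3299) (Step.F (nat_lit 3284) (Step.L (Step.L (Step.L (Step.L (Step.D (nat_lit 936) (Step.D (nat_lit 2018) (Step.D (nat_lit 3882) (Step.D (nat_lit 6676) (Step.D (nat_lit 9840) Step.done))))))))))))))))))))) (Scr.cons (nat_lit 1) (nat_lit 1) (Step.D (nat_lit 9840) (Step.F (nat_lit 11360) (Step.D (nat_lit 9837) Step.done))) (Scr.cons (nat_lit 1) (nat_lit 1) (Step.B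 (nat_lit 11358) (Step.F (nat_lit 11361) (Step.U (nat_lit 6676) Step.done))) Scr.nil))))))))))))))))))))))))))))))))))))))))
noncomputable def s284 : Scr := (Scr.cons (nat_lit 1) (nat_lit 1) (Step.D (nat_lit 6674) (Step.B (nat_lit 11362) (Step.D (nat_lit 6675) Step.done))) (Scr.cons (nat_lit 1) (nat_lit 1) (Step.D (nat_lit 6675) (Step.F (nat_lit 11363) Step.done)) (Scr.cons (nat_lit 12) (nat_lit 4) (Step.U (nat_lit 426) (Step.F (nat_lit 2097) (Step.D (nat_lit 147) (Step.D (nat_lit 426) (Step.D (nat_lit 1094) Step.done))))) (Scr.cons (nat_lit 12) (nat_lit 4) (Step.U (nat_lit 1095) (Step.D (nat_lit 1094) (Step.F (nat_lit 11365) (Step.D (nat_lit 1095) (Step.D (nat_lit 2301) Step.done))))) (Scr.cons (nat_lit 12) (nat_lit 4) (Step.U (nat_lit 4317) (Step.F (nat_lit 11366) (Step.D (nat_lit 2301) (Step.D (nat_lit 4317) (Step.D (nat_lit 7238) Step.done))))) (Scr.cons (nat_lit 12) (nat_lit 1) (Step.U (nat_lit 5008) (Step.F (nat_lit 4407) (Step.D (nat_lit 2751) (Step.D (nat_lit 5008)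 (Step.D (nat_lit 8022) Step.done))))) (Scr.cons (nat_lit 9) (nat_lit 1) (Step.U (nat_lit 10316) (Step.U (nat_lit 7238) (Step.U (nat_lit 4317) (Step.U (nat_lit 2301) (Step.U (nat_lit 1095) (Step.U (nat_lit 426) (Step.D (nat_lit 427) (Step.B (nat_lit 2098) (Step.D (nat_lit 2304) (Step.F (nat_lit 2099) (Step.U (nat_lit 1098) (Step.L (Step.L (Step.B (nat_lit 4404) (Step.F (nat_lit 4419) (Step.U (nat_lit 5005) (Step.L (Step.L (Step.L (Step.B (nat_lit 4407) (Step.D (nat_lit 5008) (Step.B (nat_lit 11368) (Step.D (nat_lit 10993) Step.done))))))))))))))))))))))) (Scr.cons (nat_lit 11) (nat_lit 0) (Step.U (nat_lit 10317) (Step.D (nat_lit 10316) (Step.B (nat_lit 11369) (Step.U (nat_lit 10993) (Step.D (nat_lit 10992) Step.done))))) (Scr.cons (nat_lit 1) (nat_lit 1) (Step.U (nat_lit 10992) (Step.F (nat_lit 11349) (Step.D (nat_lit 6673) Step.done))) (Scr.cons (nat_lit 1) (nat_lit 1) (Step.B (nat_lit 11370) (Step.B (nat_lit 11371) (Step.D (nat_lit 9837) Step.done))) (Scr.cons (nat_lit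 1) (nat_lit 1) (Step.D (nat_lit 10317) (Step.B (nat_lit 11372) (Step.F (nat_lit 11358) Step.done))) (Scr.cons (nat_lit 0) (nat_lit 1) (Step.B (nat_lit 11367) (Step.B (nat_lit 11373) (Step.D (nat_lit 9838) Step.done))) (Scr.cons (nat_lit 0) (nat_lit 1) (Step.D (nat_lit 9838) (Step.F (nat_lit 11374) Step.done)) (Scr.cons (nat_lit 0) (nat_lit 1) (Step.F (nat_lit 11375) (Step.B (nat_lit 11362) (Step.F (nat_lit 11356) Step.done))) (Scr.cons (nat_lit 11) (nat_lit 0) (Step.U (nat_lit 2018) (Step.U (nat_lit 936) (Step.D (nat_lit 935) (Step.D (nat_lit 2017) (Step.D (nat_lit 3881) Step.done))))) (Scr.cons (nat_lit 1) (nat_lit 0) (Step.D (nat_lit 4317) (Step.B (nat_lit 11376) (Step.B (nat_lit 11377) Step.done))) (Scr.cons (nat_lit 1) (nat_lit 0) (Step.D (nat_lit 3881) (Step.F (nat_lit 11378) (Step.D (nat_lit 4318) Step.done))) (Scr.cons (nat_lit 1) (nat_lit 0) (Step.D (nat_lit 4318) (Step.F (nat_lit 11379) Step.done)) (Scr.cons (nat_lit 0) (nat_lit 1) (Step.D (nat_lit 1045) (Step.F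 (nat_lit 3394) Step.done)) (Scr.cons (nat_lit 14) (nat_lit 3) (Step.F (nat_lit 11357) (Step.U (nat_lit 6676) (Step.B (nat_lit 11364) (Step.U (nat_lit 3880) (Step.U (nat_lit 2016) (Step.D (nat_lit 2017) (Step.F (nat_lit 11380) (Step.F (nat_lit 11366) (Step.D (nat_lit 2302) (Step.F (nat_lit 3421) (Step.U (nat_lit 1097) (Step.F (nat_lit 11381) (Step.L (Step.L (Step.D (nat_lit 139) (Step.D (nat_lit 406) (Step.D (nat_lit 1046) (Step.D (nat_lit 2222) (Step.B (nat_lit 11331) (Step.D (nat_lit 7078) (Step.D (nat_lit 10194) Step.done))))))))))))))))))))) (Scr.cons (nat_lit 1) (nat_lit 1) (Step.D (nat_lit 10194) (Step.F (nat_lit 11382) Step.done)) (Scr.cons (nat_lit 9) (nat_lit 4) (Step.U (nat_lit 9967) (Step.U (nat_lit 6806) (Step.L (Step.D (nat_lit 3972) (Step.D (nat_lit 6809) (Step.F (nat_lit 11311) (Step.U (nat_lit 6379) (Step.U (nat_lit 3667) (Step.D (nat_lit 3668) (Step.B (nat_lit 9813) (Step.B (nat_lit 4536) (Step.B (nat_lit 11352) (Step.U (nat_lit 3879) (Step.U (nat_lit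 2016) (Step.U (nat_lit 935) (Step.D (nat_lit 936) (Step.D (nat_lit 2018) (Step.B (nat_lit 11356) (Step.D (nat_lit 6676) (Step.B (nat_lit 11357) (Step.F (nat_lit 11383) (Step.U (nat_lit 7078) (Step.D (nat_lit 7079) (Step.B (nat_lit 11332) Step.done)))))))))))))))))))))))) (Scr.cons (nat_lit 0) (nat_lit 0) (Step.B (nat_lit 11332) (Step.F (nat_lit 11384) Step.done)) (Scr.cons (nat_lit 16) (nat_lit 2) (Step.F (nat_lit 11330) (Step.U (nat_lit 9968) (Step.D (nat_lit 9967) (Step.F (nat_lit 11385) (Step.U (nat_lit 7079) (Step.F (nat_lit 11331) (Step.F (nat_lit 2161) (Step.U (nat_lit 1048) (Step.U (nat_lit 407) (Step.F (nat_lit 10) (Step.L (Step.L (Step.L (Step.L (Step.L (Step.L (Step.L (Step.L (Step.L (Step.D (nat_lit 2234) (Step.D (nat_lit 4213) (Step.D (nat_lit 7094) (Step.D (nat_lit 10201) Step.done))))))))))))))))))))))) (Scr.cons (nat_lit 1) (nat_lit 1) (Step.U (nat_lit 3632) (Step.B (nat_lit 10241) (Step.L Step.done))) (Scr.cons (nat_lit 0) (nat_lit 1) (Step.B (nat_lit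 4502) (Step.B (nat_lit 11387) (Step.L Step.done))) (Scr.cons (nat_lit 1) (nat_lit 1) (Step.D (nat_lit 4996) (Step.B (nat_lit 11388) (Step.L Step.done))) (Scr.cons (nat_lit 1) (nat_lit 1) (Step.D (nat_lit 2748) (Step.B (nat_lit 11389) (Step.D (nat_lit 2234) Step.done))) (Scr.cons (nat_lit 1) (nat_lit 1) (Step.U (nat_lit 4213) (Step.F (nat_lit 11390) (Step.L Step.done))) (Scr.cons (nat_lit 0) (nat_lit 1) (Step.U (nat_lit 7094) (Step.B (nat_lit 11391) (Step.L Step.done))) (Scr.cons (nat_lit 1) (nat_lit 1) (Step.U (nat_lit 10201) (Step.B (nat_lit 11392) (Step.D (nat_lit 8005) Step.done))) (Scr.cons (nat_lit 0) (nat_lit 1) (Step.B (nat_lit 11386) (Step.B (nat_lit 11393) (Step.F (nat_lit 4528) Step.done))) (Scr.cons (nat_lit 1) (nat_lit 0) (Step.D (nat_lit 9845) (Step.B (nat_lit 11394) (Step.F (nat_lit 4524) Step.done))) (Scr.cons (nat_lit 1) (nat_lit 0) (Step.F (nat_lit 4524) (Step.F (nat_lit 11395) Step.done)) (Scr.cons (nat_lit 14) (nat_lit 1) (Step.L (Step.F (nat_lit 11273)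 (Step.U (nat_lit 10980) (Step.L (Step.D (nat_lit 8005) (Step.F (nat_lit 11274) (Step.U (nat_lit 6690) (Step.F (nat_lit 11277) (Step.F (nat_lit 11309) (Step.D (nat_lit 6807) (Step.B (nat_lit 9138) (Step.B (nat_lit 4517) (Step.F (nat_lit 11311) (Step.F (nat_lit 11329) (Step.F (nat_lit 11396) (Step.B (nat_lit 11274) (Step.D (nat_lit 10979) (Step.F (nat_lit 4530) (Step.F (nat_lit 4551) (Step.B (nat_lit 11273) Step.done)))))))))))))))))))) (Scr.cons (nat_lit 0) (nat_lit 0) (Step.B (nat_lit 5523) (Step.F (nat_lit 5535) Step.done)) (Scr.cons (nat_lit 15) (nat_lit 0) (Step.L (Step.L (Step.L (Step.L (Step.D (nat_lit 4061) (Step.F (nat_lit 11398) (Step.U (nat_lit 4229) (Step.L (Step.L (Step.L (Step.L (Step.L (Step.L (Step.L (Step.L Step.done))))))))))))))) (Scr.cons (nat_lit 12) (nat_lit 1) (Step.U (nat_lit 4891) (Step.L (Step.L (Step.D (nat_lit 4891) (Step.D (nat_lit 7890) Step.done))))) (Scr.cons (nat_lit 16) (nat_lit 4) (Step.U (nat_lit 10885) (Step.F (nat_lit 11400) (Step.U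 (nat_lit 4891) (Step.L (Step.L (Step.L (Step.L (Step.L (Step.L (Step.L (Step.L (Step.L (Step.L (Step.L (Step.L (Step.L (Step.L (Step.L (Step.L (Step.L (Step.L (Step.D (nat_lit 10229) (Step.D (nat_lit 11899) Step.done))))))))))))))))))))))) (Scr.cons (nat_lit 12) (nat_lit 1) (Step.L (Step.L (Step.L (Step.L (Step.D (nat_lit 6254) Step.done))))) Scr.nil))))))))))))))))))))))))))))))))))))))))
noncomputable def s285 : Scr := (Scr.cons (nat_lit 12) (nat_lit 4) (Step.U (nat_lit 9432) (Step.F (nat_lit 11402) (Step.D (nat_lit 6254) (Step.D (nat_lit 9432) (Step.D (nat_lit 11745) Step.done))))) (Scr.cons (nat_lit 12) (nat_lit 1) (Step.L (Step.D (nat_lit 6254) (Step.F (nat_lit 11402) (Step.L (Step.D (nat_lit 9433) Step.done))))) (Scr.cons (nat_lit 12) (nat_lit 4) (Step.U (nat_lit 7891) (Step.F (nat_lit 3169) (Step.D (nat_lit 4892) (Step.D (nat_lit 7891) (Step.D (nat_lit 10886) Step.done))))) (Scr.cons (nat_lit 11) (nat_lit 0) (Step.L (Step.L (Step.L (Step.D (nat_lit 6253) (Step.D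 (nat_lit 9431) Step.done))))) (Scr.cons (nat_lit 6) (nat_lit 0) (Step.U (nat_lit 4608) (Step.F (nat_lit 2039) (Step.L (Step.L (Step.L (Step.L (Step.L (Step.L (Step.L (Step.L (Step.L Step.done))))))))))) (Scr.cons (nat_lit 1) (nat_lit 0) (Step.D (nat_lit 3835) (Step.B (nat_lit 10694) (Step.L Step.done))) (Scr.cons (nat_lit 1) (nat_lit 0) (Step.D (nat_lit 1991) (Step.B (nat_lit 11408) (Step.L Step.done))) (Scr.cons (nat_lit 0) (nat_lit 1) (Step.F (nat_lit 1990) (Step.B (nat_lit 11409) (Step.L Step.done))) (Scr.cons (nat_lit 1) (nat_lit 1) (Step.U (nat_lit 2491) (Step.B (nat_lit 11410) (Step.L Step.done))) (Scr.cons (nat_lit 0) (nat_lit 1) (Step.U (nat_lit 4608) (Step.B (nat_lit 11411) (Step.L Step.done))) (Scr.cons (nat_lit 1) (nat_lit 1) (Step.F (nat_lit 11407) (Step.B (nat_lit 11412) (Step.D (nat_lit 6253) Step.done))) (Scr.cons (nat_lit 1) (nat_lit 1) (Step.U (nat_lit 9431) (Step.F (nat_lit 11413) (Step.L Step.done))) (Scr.cons (nat_lit 12) (nat_lit 1) (Step.F (nat_lit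 2039) (Step.L (Step.L (Step.B (nat_lit 2039) (Step.D (nat_lit 4608) Step.done))))) (Scr.cons (nat_lit 16) (nat_lit 3) (Step.U (nat_lit 10604) (Step.U (nat_lit 7570) (Step.F (nat_lit 11415) (Step.F (nat_lit 2039) (Step.L (Step.D (nat_lit 2107) (Step.F (nat_lit 2238) (Step.F (nat_lit 3493) (Step.D (nat_lit 4025) (Step.F (nat_lit 3494) (Step.F (nat_lit 3361) (Step.L (Step.L (Step.L (Step.L (Step.L (Step.L (Step.L (Step.L (Step.L (Step.D (nat_lit 4892) (Step.D (nat_lit 7891) (Step.D (nat_lit 10886) Step.done))))))))))))))))))))))) (Scr.cons (nat_lit 11) (nat_lit 0) (Step.F (nat_lit 11416) (Step.U (nat_lit 10604) (Step.U (nat_lit 7570) (Step.B (nat_lit 11407) (Step.L Step.done))))) (Scr.cons (nat_lit 1) (nat_lit 1) (Step.B (nat_lit 11406) (Step.B (nat_lit 11414) (Step.F (nat_lit 11417) Step.done))) (Scr.cons (nat_lit 0) (nat_lit 1) (Step.B (nat_lit 11405) (Step.F (nat_lit 11418) (Step.D (nat_lit 9433) Step.done))) (Scr.cons (nat_lit 0) (nat_lit 0) (Step.B (nat_lit 11404) (Step.F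 (nat_lit 11419) Step.done)) (Scr.cons (nat_lit 15) (nat_lit 1) (Step.U (nat_lit 10885) (Step.F (nat_lit 11400) (Step.U (nat_lit 4891) (Step.L (Step.L (Step.L (Step.L (Step.L (Step.L (Step.D (nat_lit 4892) (Step.D (nat_lit 7891) (Step.F (nat_lit 11420) (Step.L (Step.D (nat_lit 6254) (Step.D (nat_lit 9432) (Step.D (nat_lit 11745) Step.done)))))))))))))))) (Scr.cons (nat_lit 0) (nat_lit 0) (Step.B (nat_lit 11403) (Step.F (nat_lit 11421) Step.done)) (Scr.cons (nat_lit 6) (nat_lit 1) (Step.F (nat_lit 11401) (Step.F (nat_lit 11422) (Step.U (nat_lit 9432) (Step.U (nat_lit 6254) (Step.L (Step.L (Step.L (Step.L (Step.L (Step.D (nat_lit 9434) (Step.D (nat_lit 11746) Step.done))))))))))) (Scr.cons (nat_lit 8) (nat_lit 0) (Step.L (Step.L (Step.B (nat_lit 9105) (Step.D (nat_lit 11746) (Step.F (nat_lit 11423) (Step.U (nat_lit 11899) (Step.U (nat_lit 10229) (Step.L (Step.L (Step.L (Step.L (Step.L (Step.L (Step.L (Step.L Step.done))))))))))))))) (Scr.cons (nat_lit 12) (nat_lit 1) (Step.L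 (Step.L (Step.L (Step.L (Step.D (nat_lit 10235) Step.done))))) (Scr.cons (nat_lit 11) (nat_lit 0) (Step.U (nat_lit 10168) (Step.U (nat_lit 7037) (Step.D (nat_lit 7036) (Step.F (nat_lit 10773) (Step.D (nat_lit 10192) Step.done))))) (Scr.cons (nat_lit 1) (nat_lit 0) (Step.B (nat_lit 11426) (Step.F (nat_lit 10775) Step.done)) (Scr.cons (nat_lit 6) (nat_lit 0) (Step.U (nat_lit 10235) (Step.L (Step.L (Step.L (Step.L (Step.L (Step.L (Step.L (Step.B (nat_lit 10744) (Step.F (nat_lit 11427) (Step.D (nat_lit 11891) Step.done))))))))))) (Scr.cons (nat_lit 7) (nat_lit 2) (Step.U (nat_lit 11893) (Step.U (nat_lit 10171) (Step.U (nat_lit 7041) (Step.L (Step.L (Step.L (Step.L (Step.L (Step.L (Step.L (Step.D (nat_lit 133) (Step.D (nat_lit 396) (Step.D (nat_lit 1032) (Step.B (nat_lit 10767) (Step.B (nat_lit 10772) (Step.D (nat_lit 7037) (Step.D (nat_lit 10168) (Step.D (nat_lit 11891) (Step.F (nat_lit 11428) (Step.D (nat_lit 11900) Step.done)))))))))))))))))))) (Scr.cons (nat_lit 12) (nat_lit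 1) (Step.L (Step.L (Step.L (Step.L (Step.D (nat_lit 7071) Step.done))))) (Scr.cons (nat_lit 7) (nat_lit 5) (Step.F (nat_lit 11430) (Step.L (Step.L (Step.L (Step.L (Step.L (Step.L (Step.L (Step.L (Step.L (Step.L (Step.L (Step.L (Step.L (Step.L (Step.L (Step.L (Step.L (Step.L (Step.D (nat_lit 7042) Step.done)))))))))))))))))))) (Scr.cons (nat_lit 4) (nat_lit 0) (Step.U (nat_lit 10171) (Step.U (nat_lit 7041) (Step.D (nat_lit 7042) (Step.F (nat_lit 11431) (Step.D (nat_lit 10190) Step.done))))) (Scr.cons (nat_lit 11) (nat_lit 0) (Step.L (Step.L (Step.D (nat_lit 4302) (Step.D (nat_lit 7211) (Step.D (nat_lit 10296) Step.done))))) (Scr.cons (nat_lit 1) (nat_lit 1) (Step.U (nat_lit 7211) (Step.B (nat_lit 10154) (Step.D (nat_lit 7041) Step.done))) (Scr.cons (nat_lit 1) (nat_lit 1) (Step.U (nat_lit 10296) (Step.B (nat_lit 11434) (Step.D (nat_lit 10171) Step.done))) (Scr.cons (nat_lit 1) (nat_lit 1) (Step.B (nat_lit 11433) (Step.B (nat_lit 11435) (Step.B (nat_lit 11432) Step.done)))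 (Scr.cons (nat_lit 1) (nat_lit 1) (Step.B (nat_lit 11432) (Step.F (nat_lit 11436) Step.done)) (Scr.cons (nat_lit 12) (nat_lit 1) (Step.B (nat_lit 11437) (Step.L (Step.L (Step.F (nat_lit 11437) (Step.D (nat_lit 11893) Step.done))))) (Scr.cons (nat_lit 7) (nat_lit 2) (Step.L (Step.B (nat_lit 11425) (Step.D (nat_lit 11900) (Step.F (nat_lit 11429) (Step.F (nat_lit 11438) (Step.U (nat_lit 10171) (Step.U (nat_lit 7041) (Step.L (Step.L (Step.L (Step.L (Step.L (Step.L (Step.L (Step.L (Step.L (Step.L (Step.L (Step.L (Step.D (nat_lit 7210) (Step.D (nat_lit 10295) Step.done))))))))))))))))))))) (Scr.cons (nat_lit 1) (nat_lit 1) (Step.D (nat_lit 10295) (Step.F (nat_lit 11439) (Step.L Step.done))) (Scr.cons (nat_lit 1) (nat_lit 1) (Step.D (nat_lit 7210) (Step.B (nat_lit 11440) (Step.D (nat_lit 10234) Step.done))) (Scr.cons (nat_lit 1) (nat_lit 1) (Step.D (nat_lit 10234) (Step.F (nat_lit 11441) Step.done)) Scr.nil))))))))))))))))))))))))))))))))))))))))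
noncomputable def s286 : Scr := (Scr.cons (nat_lit 12) (nat_lit 1) (Step.L (Step.L (Step.L (Step.L (Step.D (nat_lit 10239) Step.done))))) (Scr.cons (nat_lit 12) (nat_lit 1) (Step.L (Step.D (nat_lit 10239) (Step.F (nat_lit 11443) (Step.L (Step.L Step.done))))) (Scr.cons (nat_lit 9) (nat_lit 2) (Step.U (nat_lit 8813) (Step.U (nat_lit 5708) (Step.U (nat_lit 3215) (Step.L (Step.L (Step.L (Step.L (Step.L (Step.L (Step.L (Step.L (Step.L (Step.L (Step.L (Step.L (Step.L (Step.L (Step.L (Step.L (Step.L (Step.L (Step.L (Step.L Step.done))))))))))))))))))))))) (Scr.cons (nat_lit 11) (nat_lit 0) (Step.B (nat_lit 11445) (Step.L (Step.L (Step.L (Step.D (nat_lit 9591) Step.done))))) (Scr.cons (nat_lit 12) (nat_lit 1) (Step.L (Step.L (Step.L (Step.L (Step.D (nat_lit 3215) Step.done))))) (Scr.cons (nat_lit 12) (nat_lit 4) (Step.U (nat_lit 5708) (Step.F (nat_lit 11447) (Step.D (nat_lit 3215) (Step.D (nat_lit 5708) (Step.D (nat_lit 8813) Step.done))))) (Scr.cons (nat_lit 6) (nat_lit 1)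 (Step.F (nat_lit 11446) (Step.F (nat_lit 11448) (Step.U (nat_lit 5708) (Step.U (nat_lit 3215) (Step.L (Step.L (Step.L (Step.L (Step.D (nat_lit 4254) (Step.D (nat_lit 7150) (Step.D (nat_lit 10249) Step.done))))))))))) (Scr.cons (nat_lit 11) (nat_lit 0) (Step.L (Step.L (Step.L (Step.L (Step.D (nat_lit 4254) Step.done))))) (Scr.cons (nat_lit 12) (nat_lit 1) (Step.F (nat_lit 11450) (Step.L (Step.L (Step.B (nat_lit 11450) (Step.D (nat_lit 7150) Step.done))))) (Scr.cons (nat_lit 15) (nat_lit 0) (Step.L (Step.L (Step.L (Step.L (Step.L (Step.L (Step.D (nat_lit 9591) (Step.B (nat_lit 11449) (Step.U (nat_lit 10249) (Step.F (nat_lit 11451) (Step.F (nat_lit 11450) (Step.L (Step.L (Step.L (Step.L Step.done))))))))))))))) (Scr.cons (nat_lit 13) (nat_lit 2) (Step.L (Step.L (Step.L (Step.B (nat_lit 651) (Step.U (nat_lit 4255) (Step.U (nat_lit 2256) (Step.L (Step.L (Step.L (Step.L (Step.L Step.done))))))))))) (Scr.cons (nat_lit 12) (nat_lit 4) (Step.L (Step.L (Step.L (Step.L (Step.D (nat_lit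 10263) Step.done))))) (Scr.cons (nat_lit 12) (nat_lit 4) (Step.L (Step.D (nat_lit 10263) (Step.F (nat_lit 11454) (Step.L (Step.L Step.done))))) (Scr.cons (nat_lit 12) (nat_lit 1) (Step.L (Step.L (Step.L (Step.L (Step.D (nat_lit 10266) Step.done))))) (Scr.cons (nat_lit 12) (nat_lit 1) (Step.L (Step.D (nat_lit 10266) (Step.F (nat_lit 11456) (Step.L (Step.L Step.done))))) (Scr.cons (nat_lit 12) (nat_lit 4) (Step.U (nat_lit 4111) (Step.L (Step.L (Step.D (nat_lit 4111) (Step.D (nat_lit 6972) Step.done))))) (Scr.cons (nat_lit 12) (nat_lit 4) (Step.U (nat_lit 6973) (Step.D (nat_lit 6972) (Step.F (nat_lit 11458) (Step.D (nat_lit 6973) (Step.D (nat_lit 10106) Step.done))))) (Scr.cons (nat_lit 12) (nat_lit 4) (Step.U (nat_lit 1039) (Step.D (nat_lit 1038) (Step.F (nat_lit 312) (Step.D (nat_lit 1039) (Step.D (nat_lit 2212) Step.done))))) (Scr.cons (nat_lit 12) (nat_lit 1) (Step.U (nat_lit 4183) (Step.F (nat_lit 11460) (Step.D (nat_lit 2212) (Step.D (nat_lit 4183) (Step.D (nat_lit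 7058) Step.done))))) (Scr.cons (nat_lit 6) (nat_lit 3) (Step.L (Step.L (Step.L (Step.F (nat_lit 314) (Step.U (nat_lit 2210) (Step.U (nat_lit 1038) (Step.D (nat_lit 1039) (Step.D (nat_lit 2212) (Step.D (nat_lit 4183) (Step.B (nat_lit 11461) (Step.D (nat_lit 10181) Step.done))))))))))) (Scr.cons (nat_lit 13) (nat_lit 2) (Step.U (nat_lit 1139) (Step.U (nat_lit 447) (Step.L (Step.L (Step.L (Step.L (Step.L (Step.L (Step.L (Step.L (Step.D (nat_lit 2160) Step.done))))))))))) (Scr.cons (nat_lit 12) (nat_lit 1) (Step.U (nat_lit 2375) (Step.B (nat_lit 2580) (Step.F (nat_lit 11463) (Step.D (nat_lit 2375) (Step.D (nat_lit 4420) Step.done))))) (Scr.cons (nat_lit 15) (nat_lit 1) (Step.F (nat_lit 11464) (Step.U (nat_lit 2375) (Step.B (nat_lit 2580) (Step.U (nat_lit 2160) (Step.L (Step.L (Step.L (Step.L (Step.L (Step.L (Step.L (Step.L (Step.L (Step.D (nat_lit 4111) (Step.D (nat_lit 6972) Step.done))))))))))))))) (Scr.cons (nat_lit 0) (nat_lit 1) (Step.U (nat_lit 4420) (Step.B (nat_lit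 2578) (Step.D (nat_lit 2212) Step.done))) (Scr.cons (nat_lit 1) (nat_lit 0) (Step.F (nat_lit 11465) (Step.B (nat_lit 11466) (Step.D (nat_lit 4183) Step.done))) (Scr.cons (nat_lit 0) (nat_lit 1) (Step.B (nat_lit 11458) (Step.B (nat_lit 11467) (Step.D (nat_lit 7058) Step.done))) (Scr.cons (nat_lit 1) (nat_lit 1) (Step.U (nat_lit 10181) (Step.F (nat_lit 11468) (Step.D (nat_lit 6973) Step.done))) (Scr.cons (nat_lit 0) (nat_lit 1) (Step.B (nat_lit 11462) (Step.B (nat_lit 11469) (Step.D (nat_lit 10106) Step.done))) (Scr.cons (nat_lit 0) (nat_lit 0) (Step.B (nat_lit 11459) (Step.F (nat_lit 11470) Step.done)) (Scr.cons (nat_lit 0) (nat_lit 1) (Step.D (nat_lit 10106) (Step.F (nat_lit 11470) Step.done)) (Scr.cons (nat_lit 12) (nat_lit 4) (Step.L (Step.F (nat_lit 11471) (Step.B (nat_lit 11472) (Step.L (Step.L Step.done))))) (Scr.cons (nat_lit 12) (nat_lit 4) (Step.L (Step.L (Step.L (Step.L (Step.D (nat_lit 10291) Step.done))))) (Scr.cons (nat_lit 12) (nat_lit 1) (Step.L (Step.L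 (Step.L (Step.L (Step.D (nat_lit 4425) Step.done))))) (Scr.cons (nat_lit 12) (nat_lit 1) (Step.L (Step.D (nat_lit 4425) (Step.F (nat_lit 11475) (Step.L (Step.D (nat_lit 7342) Step.done))))) (Scr.cons (nat_lit 12) (nat_lit 4) (Step.L (Step.L (Step.L (Step.L (Step.D (nat_lit 1090) Step.done))))) (Scr.cons (nat_lit 12) (nat_lit 4) (Step.L (Step.D (nat_lit 1090) (Step.F (nat_lit 11477) (Step.L (Step.D (nat_lit 2290) Step.done))))) (Scr.cons (nat_lit 11) (nat_lit 0) (Step.U (nat_lit 7206) (Step.U (nat_lit 4298) (Step.D (nat_lit 4297) (Step.D (nat_lit 7204) (Step.D (nat_lit 10289) Step.done))))) (Scr.cons (nat_lit 12) (nat_lit 1) (Step.U (nat_lit 4298) (Step.F (nat_lit 11478) (Step.D (nat_lit 2290) (Step.D (nat_lit 4298) (Step.D (nat_lit 7205) Step.done))))) (Scr.cons (nat_lit 12) (nat_lit 1) (Step.U (nat_lit 7206) (Step.D (nat_lit 7205) (Step.F (nat_lit 11480) (Step.D (nat_lit 7206) (Step.D (nat_lit 10290) Step.done))))) (Scr.cons (nat_lit 12) (nat_lit 1) (Step.F (nat_lit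 11479) (Step.D (nat_lit 10290) (Step.F (nat_lit 11481) (Step.B (nat_lit 11479) (Step.D (nat_lit 11907) Step.done))))) Scr.nil))))))))))))))))))))))))))))))))))))))))
noncomputable def s287 : Scr := (Scr.cons (nat_lit 11) (nat_lit 0) (Step.U (nat_lit 5745) (Step.U (nat_lit 3239) (Step.D (nat_lit 3238) (Step.D (nat_lit 5743) (Step.D (nat_lit 8859) Step.done))))) (Scr.cons (nat_lit 12) (nat_lit 1) (Step.U (nat_lit 3239) (Step.F (nat_lit 5503) (Step.D (nat_lit 1629) (Step.D (nat_lit 3239) (Step.D (nat_lit 5744) Step.done))))) (Scr.cons (nat_lit 12) (nat_lit 1) (Step.U (nat_lit 5745) (Step.D (nat_lit 5744) (Step.F (nat_lit 11484) (Step.D (nat_lit 5745) (Step.D (nat_lit 8860) Step.done))))) (Scr.cons (nat_lit 12) (nat_lit 1) (Step.F (nat_lit 11483) (Step.D (nat_lit 8860) (Step.F (nat_lit 11485) (Step.B (nat_lit 11483) (Step.D (nat_lit 11513) Step.done))))) (Scr.cons (nat_lit 11) (nat_lit 0) (Step.U (nat_lit 8853) (Step.U (nat_lit 5740) (Step.D (nat_lit 5739) (Step.D (nat_lit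 8852) (Step.D (nat_lit 11512) Step.done))))) (Scr.cons (nat_lit 14) (nat_lit 0) (Step.U (nat_lit 3109) (Step.U (nat_lit 1559) (Step.L (Step.L (Step.L (Step.L (Step.L (Step.L (Step.L (Step.L (Step.L (Step.L (Step.L (Step.L (Step.L (Step.L (Step.L (Step.L (Step.L (Step.L Step.done)))))))))))))))))))) (Scr.cons (nat_lit 12) (nat_lit 3) (Step.B (nat_lit 11488) (Step.L (Step.L (Step.L (Step.L Step.done))))) (Scr.cons (nat_lit 12) (nat_lit 1) (Step.U (nat_lit 2154) (Step.F (nat_lit 1119) (Step.D (nat_lit 1007) (Step.D (nat_lit 2154) (Step.D (nat_lit 4102) Step.done))))) (Scr.cons (nat_lit 11) (nat_lit 0) (Step.U (nat_lit 2270) (Step.U (nat_lit 1077) (Step.L (Step.D (nat_lit 2269) (Step.D (nat_lit 4270) Step.done))))) (Scr.cons (nat_lit 15) (nat_lit 1) (Step.F (nat_lit 11490) (Step.U (nat_lit 2154) (Step.F (nat_lit 1119) (Step.U (nat_lit 384) (Step.L (Step.L (Step.L (Step.L (Step.L (Step.L (Step.L (Step.L (Step.L (Step.D (nat_lit 1011) (Step.D (nat_lit 2159) Step.done)))))))))))))))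 (Scr.cons (nat_lit 7) (nat_lit 3) (Step.U (nat_lit 3483) (Step.L (Step.L (Step.L (Step.L (Step.L (Step.L (Step.L (Step.L (Step.L (Step.D (nat_lit 1765) (Step.D (nat_lit 3464) (Step.D (nat_lit 6085) (Step.F (nat_lit 1127) (Step.U (nat_lit 4100) (Step.U (nat_lit 2153) (Step.D (nat_lit 2154) (Step.D (nat_lit 4102) (Step.B (nat_lit 11492) (Step.D (nat_lit 4116) (Step.D (nat_lit 6978) Step.done))))))))))))))))))))) (Scr.cons (nat_lit 1) (nat_lit 1) (Step.D (nat_lit 6978) (Step.F (nat_lit 11493) (Step.D (nat_lit 6108) Step.done))) (Scr.cons (nat_lit 1) (nat_lit 1) (Step.D (nat_lit 6108) (Step.F (nat_lit 11494) Step.done)) (Scr.cons (nat_lit 12) (nat_lit 4) (Step.L (Step.L (Step.L (Step.L (Step.D (nat_lit 2268) Step.done))))) (Scr.cons (nat_lit 13) (nat_lit 3) (Step.U (nat_lit 2268) (Step.L (Step.L (Step.L (Step.L (Step.L (Step.L (Step.L (Step.L (Step.L (Step.D (nat_lit 3230) Step.done))))))))))) (Scr.cons (nat_lit 0) (nat_lit 1) (Step.B (nat_lit 1157) (Step.B (nat_lit 2567)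 (Step.D (nat_lit 3230) Step.done))) (Scr.cons (nat_lit 1) (nat_lit 1) (Step.B (nat_lit 11497) (Step.F (nat_lit 11498) (Step.L Step.done))) (Scr.cons (nat_lit 0) (nat_lit 1) (Step.B (nat_lit 11496) (Step.B (nat_lit 11499) (Step.D (nat_lit 3483) Step.done))) (Scr.cons (nat_lit 1) (nat_lit 1) (Step.F (nat_lit 11495) (Step.F (nat_lit 11500) (Step.D (nat_lit 2269) Step.done))) (Scr.cons (nat_lit 1) (nat_lit 1) (Step.D (nat_lit 4116) (Step.B (nat_lit 11501) (Step.D (nat_lit 4270) Step.done))) (Scr.cons (nat_lit 1) (nat_lit 1) (Step.B (nat_lit 11491) (Step.F (nat_lit 11502) (Step.F (nat_lit 11492) Step.done))) (Scr.cons (nat_lit 0) (nat_lit 1) (Step.B (nat_lit 11490) (Step.F (nat_lit 11503) (Step.D (nat_lit 4271) Step.done))) (Scr.cons (nat_lit 0) (nat_lit 1) (Step.D (nat_lit 4271) (Step.F (nat_lit 11504) Step.done)) (Scr.cons (nat_lit 11) (nat_lit 0) (Step.U (nat_lit 4103) (Step.U (nat_lit 2154) (Step.D (nat_lit 2153) (Step.D (nat_lit 4101) (Step.D (nat_lit 6964) Step.done)))))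 (Scr.cons (nat_lit 9) (nat_lit 1) (Step.U (nat_lit 8631) (Step.U (nat_lit 5534) (Step.L (Step.L (Step.L (Step.L (Step.L (Step.L (Step.L (Step.L (Step.L (Step.L (Step.L (Step.L (Step.L (Step.L (Step.B (nat_lit 4466) (Step.U (nat_lit 3593) (Step.D (nat_lit 3594) (Step.D (nat_lit 6293) (Step.B (nat_lit 1122) (Step.U (nat_lit 6964) (Step.B (nat_lit 1121) (Step.D (nat_lit 10096) Step.done)))))))))))))))))))))))) (Scr.cons (nat_lit 1) (nat_lit 0) (Step.D (nat_lit 10096) (Step.F (nat_lit 11507) Step.done)) (Scr.cons (nat_lit 7) (nat_lit 1) (Step.U (nat_lit 10264) (Step.U (nat_lit 7167) (Step.L (Step.L (Step.L (Step.L (Step.L (Step.L (Step.L (Step.D (nat_lit 1077) (Step.D (nat_lit 2270) (Step.B (nat_lit 11505) (Step.D (nat_lit 4103) (Step.B (nat_lit 11506) (Step.U (nat_lit 6964) (Step.B (nat_lit 1121) (Step.B (nat_lit 11508) (Step.U (nat_lit 8631) (Step.D (nat_lit 8630) (Step.D (nat_lit 11419) Step.done)))))))))))))))))))) (Scr.cons (nat_lit 11) (nat_lit 0) (Step.U (nat_lit 10265)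 (Step.D (nat_lit 10264) (Step.B (nat_lit 11509) (Step.U (nat_lit 11419) (Step.D (nat_lit 11418) Step.done))))) (Scr.cons (nat_lit 12) (nat_lit 4) (Step.L (Step.L (Step.L (Step.L (Step.D (nat_lit 7167) Step.done))))) (Scr.cons (nat_lit 14) (nat_lit 0) (Step.U (nat_lit 7065) (Step.U (nat_lit 4189) (Step.L (Step.L (Step.L (Step.L (Step.L (Step.L (Step.L (Step.L (Step.L (Step.L (Step.L (Step.L (Step.L (Step.L (Step.L (Step.L (Step.L (Step.D (nat_lit 7168) Step.done)))))))))))))))))))) (Scr.cons (nat_lit 12) (nat_lit 3) (Step.B (nat_lit 11512) (Step.U (nat_lit 7168) (Step.D (nat_lit 7167) (Step.F (nat_lit 11511) (Step.D (nat_lit 7168) Step.done))))) (Scr.cons (nat_lit 16) (nat_lit 2) (Step.F (nat_lit 11487) (Step.U (nat_lit 8853) (Step.U (nat_lit 5740) (Step.L (Step.L (Step.F (nat_lit 11489) (Step.U (nat_lit 3109) (Step.U (nat_lit 1559) (Step.L (Step.L (Step.D (nat_lit 5534) (Step.D (nat_lit 8630) (Step.D (nat_lit 11418) (Step.F (nat_lit 11510) (Step.U (nat_lit 10265) (Step.F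 (nat_lit 11511) (Step.D (nat_lit 7168) (Step.F (nat_lit 11513) (Step.U (nat_lit 7065) (Step.U (nat_lit 4189) (Step.D (nat_lit 4188) (Step.D (nat_lit 7063) (Step.D (nat_lit 10185) Step.done))))))))))))))))))))))) (Scr.cons (nat_lit 14) (nat_lit 2) (Step.F (nat_lit 11486) (Step.F (nat_lit 11483) (Step.U (nat_lit 5745) (Step.U (nat_lit 3239) (Step.U (nat_lit 1629) (Step.U (nat_lit 692) (Step.L (Step.L (Step.L (Step.L (Step.L (Step.L (Step.L (Step.L (Step.L (Step.D (nat_lit 5739) (Step.D (nat_lit 8852) (Step.D (nat_lit 11512) (Step.B (nat_lit 11514) (Step.D (nat_lit 11895) Step.done)))))))))))))))))))) (Scr.cons (nat_lit 4) (nat_lit 0) (Step.B (nat_lit 11515) (Step.U (nat_lit 11895) (Step.U (nat_lit 10185) (Step.D (nat_lit 10186) (Step.D (nat_lit 11896) Step.done))))) (Scr.cons (nat_lit 4) (nat_lit 0) (Step.U (nat_lit 7197) (Step.D (nat_lit 7198) (Step.B (nat_lit 4195) (Step.U (nat_lit 8857) (Step.D (nat_lit 8858) Step.done))))) (Scr.cons (nat_lit 11) (nat_lit 0) (Step.U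 (nat_lit 4294) (Step.U (nat_lit 2289) (Step.D (nat_lit 2288) (Step.D (nat_lit 4292) (Step.D (nat_lit 7196) Step.done))))) (Scr.cons (nat_lit 12) (nat_lit 1) (Step.U (nat_lit 4294) (Step.D (nat_lit 4293) (Step.F (nat_lit 4189) (Step.D (nat_lit 4294) (Step.D (nat_lit 7199) Step.done))))) (Scr.cons (nat_lit 12) (nat_lit 1) (Step.F (nat_lit 11518) (Step.D (nat_lit 7199) (Step.F (nat_lit 11519) (Step.B (nat_lit 11518) (Step.D (nat_lit 10283) Step.done))))) (Scr.cons (nat_lit 7) (nat_lit 5) (Step.F (nat_lit 11482) (Step.U (nat_lit 10289) (Step.U (nat_lit 7204) (Step.U (nat_lit 4297) (Step.U (nat_lit 2290) (Step.L (Step.L (Step.L (Step.L (Step.L (Step.L (Step.L (Step.D (nat_lit 146) (Step.D (nat_lit 425) (Step.D (nat_lit 1089) (Step.D (nat_lit 2289) (Step.D (nat_lit 4294) (Step.B (nat_lit 11518) (Step.B (nat_lit 11520) (Step.D (nat_lit 11903) Step.done)))))))))))))))))))) (Scr.cons (nat_lit 7) (nat_lit 2) (Step.U (nat_lit 11897) (Step.U (nat_lit 10187) (Step.U (nat_lit 7064)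 (Step.D (nat_lit 7063) (Step.D (nat_lit 10186) (Step.D (nat_lit 11896) (Step.F (nat_lit 11516) (Step.U (nat_lit 11513) (Step.U (nat_lit 8859) (Step.U (nat_lit 5743) (Step.D (nat_lit 5742) (Step.D (nat_lit 8858) (Step.F (nat_lit 11517) (Step.U (nat_lit 7197) (Step.U (nat_lit 4293) (Step.D (nat_lit 4294) (Step.B (nat_lit 11518) (Step.D (nat_lit 10283) (Step.D (nat_lit 11903) (Step.F (nat_lit 11521) Step.done)))))))))))))))))))) Scr.nil))))))))))))))))))))))))))))))))))))))))
noncomputable def s288 : Scr := (Scr.cons (nat_lit 12) (nat_lit 1) (Step.L (Step.D (nat_lit 7338) (Step.F (nat_lit 5037) (Step.L (Step.D (nat_lit 10407) Step.done))))) (Scr.cons (nat_lit 14) (nat_lit 2) (Step.F (nat_lit 11523) (Step.L (Step.L (Step.L (Step.L (Step.L (Step.L (Step.L (Step.L (Step.L (Step.L (Step.L (Step.L (Step.L (Step.L (Step.L (Step.L (Step.L (Step.B (nat_lit 11476) (Step.D (nat_lit 10410) Step.done)))))))))))))))))))) (Scr.cons (nat_lit 9) (nat_lit 3) (Step.L (Step.L (Step.B (nat_lit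 11478) (Step.D (nat_lit 4298) (Step.D (nat_lit 7206) (Step.B (nat_lit 11479) (Step.B (nat_lit 11482) (Step.F (nat_lit 11522) (Step.U (nat_lit 11897) (Step.U (nat_lit 10187) (Step.U (nat_lit 7064) (Step.U (nat_lit 4188) (Step.L (Step.L (Step.L (Step.L (Step.L (Step.L (Step.L (Step.L (Step.B (nat_lit 11523) (Step.B (nat_lit 11524) (Step.U (nat_lit 10410) (Step.D (nat_lit 10411) Step.done)))))))))))))))))))))))) (Scr.cons (nat_lit 1) (nat_lit 1) (Step.D (nat_lit 10411) (Step.F (nat_lit 11525) (Step.L Step.done))) (Scr.cons (nat_lit 0) (nat_lit 1) (Step.B (nat_lit 11476) (Step.B (nat_lit 11526) (Step.D (nat_lit 10291) Step.done))) (Scr.cons (nat_lit 0) (nat_lit 0) (Step.B (nat_lit 11474) (Step.F (nat_lit 11527) Step.done)) (Scr.cons (nat_lit 12) (nat_lit 4) (Step.L (Step.L (Step.L (Step.L (Step.D (nat_lit 10304) Step.done))))) (Scr.cons (nat_lit 12) (nat_lit 4) (Step.L (Step.L (Step.L (Step.L (Step.D (nat_lit 11894) Step.done))))) (Scr.cons (nat_lit 1) (nat_lit 1) (Step.U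 (nat_lit 10410) (Step.B (nat_lit 11526) (Step.D (nat_lit 10292) Step.done))) (Scr.cons (nat_lit 4) (nat_lit 0) (Step.U (nat_lit 10292) (Step.L (Step.L (Step.L (Step.D (nat_lit 10305) Step.done))))) (Scr.cons (nat_lit 1) (nat_lit 1) (Step.B (nat_lit 11524) (Step.B (nat_lit 11531) (Step.B (nat_lit 11532) Step.done))) (Scr.cons (nat_lit 0) (nat_lit 1) (Step.D (nat_lit 10407) (Step.B (nat_lit 11533) Step.done)) (Scr.cons (nat_lit 6) (nat_lit 0) (Step.L (Step.L (Step.L (Step.L (Step.D (nat_lit 10305) (Step.F (nat_lit 11534) (Step.L (Step.L (Step.L (Step.L (Step.L (Step.D (nat_lit 11894) Step.done)))))))))))) (Scr.cons (nat_lit 0) (nat_lit 1) (Step.B (nat_lit 11530) (Step.F (nat_lit 11535) (Step.D (nat_lit 10304) Step.done))) (Scr.cons (nat_lit 0) (nat_lit 0) (Step.B (nat_lit 11529) (Step.F (nat_lit 11536) Step.done)) (Scr.cons (nat_lit 12) (nat_lit 1) (Step.U (nat_lit 4412) (Step.F (nat_lit 327) (Step.D (nat_lit 2372) (Step.D (nat_lit 4412) (Step.D (nat_lit 7329) Step.done)))))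 (Scr.cons (nat_lit 4) (nat_lit 0) (Step.U (nat_lit 4306) (Step.U (nat_lit 2295) (Step.L (Step.F (nat_lit 1492) (Step.D (nat_lit 4337) Step.done))))) (Scr.cons (nat_lit 4) (nat_lit 0) (Step.U (nat_lit 7328) (Step.L (Step.L (Step.D (nat_lit 4421) (Step.D (nat_lit 7337) Step.done))))) (Scr.cons (nat_lit 12) (nat_lit 4) (Step.U (nat_lit 7328) (Step.L (Step.L (Step.D (nat_lit 7328) (Step.D (nat_lit 10401) Step.done))))) (Scr.cons (nat_lit 9) (nat_lit 4) (Step.U (nat_lit 10331) (Step.U (nat_lit 7255) (Step.F (nat_lit 11539) (Step.U (nat_lit 4306) (Step.U (nat_lit 2295) (Step.L (Step.L (Step.L (Step.L (Step.L (Step.L (Step.L (Step.D (nat_lit 10305) (Step.F (nat_lit 11534) (Step.L (Step.L (Step.L (Step.L (Step.L (Step.L (Step.D (nat_lit 4421) (Step.D (nat_lit 7337) (Step.F (nat_lit 11540) (Step.B (nat_lit 11541) Step.done)))))))))))))))))))))))) (Scr.cons (nat_lit 0) (nat_lit 1) (Step.D (nat_lit 10401) (Step.F (nat_lit 11542) Step.done)) (Scr.cons (nat_lit 13) (nat_lit 0) (Step.B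 (nat_lit 1491) (Step.D (nat_lit 4337) (Step.D (nat_lit 7255) (Step.D (nat_lit 10331) (Step.F (nat_lit 11543) (Step.U (nat_lit 7328) (Step.L (Step.L (Step.B (nat_lit 327) (Step.D (nat_lit 4412) (Step.D (nat_lit 7329) (Step.D (nat_lit 10402) Step.done)))))))))))) (Scr.cons (nat_lit 1) (nat_lit 0) (Step.D (nat_lit 10402) (Step.F (nat_lit 11544) (Step.L Step.done))) (Scr.cons (nat_lit 0) (nat_lit 1) (Step.B (nat_lit 11538) (Step.B (nat_lit 11545) (Step.L Step.done))) (Scr.cons (nat_lit 1) (nat_lit 1) (Step.D (nat_lit 4412) (Step.B (nat_lit 11546) (Step.L Step.done))) (Scr.cons (nat_lit 0) (nat_lit 1) (Step.B (nat_lit 327) (Step.B (nat_lit 11547) (Step.D (nat_lit 4336) Step.done))) (Scr.cons (nat_lit 0) (nat_lit 0) (Step.B (nat_lit 662) (Step.F (nat_lit 11548) Step.done)) (Scr.cons (nat_lit 12) (nat_lit 1) (Step.L (Step.L (Step.L (Step.L (Step.D (nat_lit 11720) Step.done))))) (Scr.cons (nat_lit 12) (nat_lit 1) (Step.L (Step.L (Step.L (Step.L (Step.D (nat_lit 10345) Step.done)))))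 (Scr.cons (nat_lit 11) (nat_lit 0) (Step.L (Step.L (Step.L (Step.L (Step.D (nat_lit 4295) Step.done))))) (Scr.cons (nat_lit 12) (nat_lit 1) (Step.L (Step.L (Step.L (Step.L (Step.D (nat_lit 4296) Step.done))))) (Scr.cons (nat_lit 12) (nat_lit 1) (Step.F (nat_lit 11552) (Step.D (nat_lit 4296) (Step.F (nat_lit 11553) (Step.B (nat_lit 11552) (Step.D (nat_lit 7202) Step.done))))) (Scr.cons (nat_lit 12) (nat_lit 1) (Step.U (nat_lit 10287) (Step.F (nat_lit 11554) (Step.D (nat_lit 7202) (Step.D (nat_lit 10287) (Step.D (nat_lit 11905) Step.done))))) (Scr.cons (nat_lit 9) (nat_lit 0) (Step.U (nat_lit 7343) (Step.L (Step.L (Step.L (Step.L (Step.L (Step.L (Step.L (Step.L (Step.L (Step.L (Step.L (Step.L (Step.L (Step.L (Step.L (Step.L (Step.L (Step.L (Step.L (Step.B (nat_lit 11552) (Step.B (nat_lit 11554) (Step.D (nat_lit 10287) (Step.B (nat_lit 11555) Step.done)))))))))))))))))))))))) (Scr.cons (nat_lit 0) (nat_lit 1) (Step.B (nat_lit 11555) (Step.F (nat_lit 11556) (Step.D (nat_lit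 10412) Step.done))) (Scr.cons (nat_lit 0) (nat_lit 1) (Step.D (nat_lit 10412) (Step.F (nat_lit 11557) Step.done)) (Scr.cons (nat_lit 11) (nat_lit 0) (Step.L (Step.L (Step.L (Step.L (Step.D (nat_lit 7343) Step.done))))) (Scr.cons (nat_lit 6) (nat_lit 2) (Step.L (Step.L (Step.L (Step.L (Step.D (nat_lit 4295) (Step.D (nat_lit 7202) (Step.D (nat_lit 10287) (Step.F (nat_lit 11558) (Step.F (nat_lit 11559) (Step.L (Step.L (Step.B (nat_lit 11551) Step.done)))))))))))) (Scr.cons (nat_lit 0) (nat_lit 1) (Step.B (nat_lit 11551) (Step.F (nat_lit 11560) (Step.D (nat_lit 11720) Step.done))) (Scr.cons (nat_lit 0) (nat_lit 0) (Step.B (nat_lit 11550) (Step.F (nat_lit 11561) Step.done)) Scr.nil))))))))))))))))))))))))))))))))))))))))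
noncomputable def s289 : Scr := (Scr.cons (nat_lit 12) (nat_lit 1) (Step.L (Step.L (Step.L (Step.L (Step.D (nat_lit 11898) Step.done))))) (Scr.cons (nat_lit 12) (nat_lit 4) (Step.U (nat_lit 3458) (Step.F (nat_lit 10747) (Step.D (nat_lit 1762) (Step.D (nat_lit 3458) (Step.D (nat_lit 6072) Step.done))))) (Scr.cons (nat_lit 12) (nat_lit 1) (Step.U (nat_lit 1761) (Step.F (nat_lit 1089) (Step.D (nat_lit 783) (Step.D (nat_lit 1761) (Step.D (nat_lit 3457) Step.done))))) (Scr.cons (nat_lit 6) (nat_lit 1) (Step.U (nat_lit 9225) (Step.F (nat_lit 11564) (Step.U (nat_lit 3458) (Step.U (nat_lit 1762) (Step.U (nat_lit 784) (Step.D (nat_lit 783) (Step.D (nat_lit 1761) (Step.B (nat_lit 11565) (Step.D (nat_lit 6071) (Step.D (nat_lit 9223) (Step.D (nat_lit 11647) Step.done))))))))))) (Scr.cons (nat_lit 1) (nat_lit 0) (Step.U (nat_lit 9225) (Step.B (nat_lit 10763) (Step.D (nat_lit 7037) Step.done))) (Scr.cons (nat_lit 0) (nat_lit 1) (Step.F (nat_lit 11566) (Step.B (nat_lit 11567) (Step.D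 (nat_lit 10167) Step.done))) (Scr.cons (nat_lit 1) (nat_lit 0) (Step.D (nat_lit 11647) (Step.B (nat_lit 11568) Step.done)) (Scr.cons (nat_lit 7) (nat_lit 0) (Step.U (nat_lit 11646) (Step.B (nat_lit 11569) (Step.U (nat_lit 10167) (Step.D (nat_lit 10168) (Step.B (nat_lit 11427) (Step.F (nat_lit 10744) (Step.L (Step.L (Step.L (Step.L (Step.L (Step.L (Step.L (Step.L (Step.L (Step.L (Step.L (Step.L (Step.L (Step.D (nat_lit 11898) Step.done)))))))))))))))))))) (Scr.cons (nat_lit 12) (nat_lit 1) (Step.U (nat_lit 7037) (Step.F (nat_lit 10772) (Step.D (nat_lit 4165) (Step.D (nat_lit 7037) (Step.D (nat_lit 10167) Step.done))))) (Scr.cons (nat_lit 12) (nat_lit 1) (Step.U (nat_lit 10168) (Step.D (nat_lit 10167) (Step.F (nat_lit 11571) (Step.D (nat_lit 10168) (Step.D (nat_lit 11891) Step.done))))) (Scr.cons (nat_lit 12) (nat_lit 4) (Step.U (nat_lit 7041) (Step.L (Step.L (Step.D (nat_lit 7041) (Step.D (nat_lit 10170) Step.done))))) (Scr.cons (nat_lit 9) (nat_lit 1) (Step.U (nat_lit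 10297) (Step.U (nat_lit 7213) (Step.L (Step.L (Step.L (Step.L (Step.L (Step.L (Step.L (Step.B (nat_lit 11563) (Step.F (nat_lit 11570) (Step.U (nat_lit 11646) (Step.B (nat_lit 11569) (Step.U (nat_lit 10167) (Step.D (nat_lit 10168) (Step.B (nat_lit 11572) (Step.F (nat_lit 11428) (Step.D (nat_lit 11900) (Step.F (nat_lit 11429) (Step.U (nat_lit 11893) (Step.U (nat_lit 10171) (Step.B (nat_lit 11573) (Step.D (nat_lit 11892) Step.done))))))))))))))))))))))) (Scr.cons (nat_lit 7) (nat_lit 1) (Step.L (Step.L (Step.F (nat_lit 11437) (Step.U (nat_lit 10171) (Step.D (nat_lit 10170) (Step.D (nat_lit 11892) (Step.F (nat_lit 11574) (Step.U (nat_lit 10297) (Step.U (nat_lit 7213) (Step.L (Step.L (Step.L (Step.L (Step.L (Step.L (Step.L (Step.L (Step.L (Step.L (Step.L Step.done)))))))))))))))))))) (Scr.cons (nat_lit 12) (nat_lit 1) (Step.U (nat_lit 1008) (Step.D (nat_lit 1007) (Step.F (nat_lit 1119) (Step.D (nat_lit 1008) (Step.D (nat_lit 2155) Step.done))))) (Scr.cons (nat_lit 13) (nat_lit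 0) (Step.L (Step.L (Step.L (Step.L (Step.L (Step.L (Step.B (nat_lit 1117) (Step.B (nat_lit 11576) (Step.D (nat_lit 4105) (Step.D (nat_lit 6966) (Step.D (nat_lit 10098) Step.done))))))))))) (Scr.cons (nat_lit 12) (nat_lit 1) (Step.U (nat_lit 4105) (Step.F (nat_lit 11576) (Step.D (nat_lit 2155) (Step.D (nat_lit 4105) (Step.D (nat_lit 6966) Step.done))))) (Scr.cons (nat_lit 6) (nat_lit 3) (Step.L (Step.L (Step.L (Step.L (Step.L (Step.L (Step.B (nat_lit 1117) (Step.D (nat_lit 2155) (Step.D (nat_lit 4105) (Step.B (nat_lit 11578) (Step.D (nat_lit 10098) Step.done))))))))))) (Scr.cons (nat_lit 12) (nat_lit 4) (Step.L (Step.B (nat_lit 11577) (Step.F (nat_lit 11579) (Step.L (Step.L Step.done))))) (Scr.cons (nat_lit 12) (nat_lit 4) (Step.L (Step.L (Step.L (Step.L (Step.D (nat_lit 10309) Step.done))))) (Scr.cons (nat_lit 12) (nat_lit 4) (Step.L (Step.D (nat_lit 10309) (Step.F (nat_lit 11581) (Step.L (Step.L Step.done))))) (Scr.cons (nat_lit 12) (nat_lit 1) (Step.L (Step.L (Step.L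 (Step.L (Step.D (nat_lit 10325) Step.done))))) (Scr.cons (nat_lit 12) (nat_lit 1) (Step.L (Step.D (nat_lit 10325) (Step.F (nat_lit 11583) (Step.L (Step.L Step.done))))) (Scr.cons (nat_lit 12) (nat_lit 4) (Step.L (Step.L (Step.L (Step.L (Step.D (nat_lit 10326) Step.done))))) (Scr.cons (nat_lit 12) (nat_lit 4) (Step.L (Step.D (nat_lit 10326) (Step.F (nat_lit 11585) (Step.L (Step.L Step.done))))) (Scr.cons (nat_lit 12) (nat_lit 1) (Step.L (Step.L (Step.L (Step.L (Step.D (nat_lit 1100) Step.done))))) (Scr.cons (nat_lit 12) (nat_lit 4) (Step.U (nat_lit 2312) (Step.F (nat_lit 11587) (Step.D (nat_lit 1100) (Step.D (nat_lit 2312) (Step.D (nat_lit 4330) Step.done))))) (Scr.cons (nat_lit 12) (nat_lit 4) (Step.L (Step.L (Step.L (Step.L (Step.D (nat_lit 2313) Step.done))))) (Scr.cons (nat_lit 6) (nat_lit 1) (Step.U (nat_lit 4332) (Step.F (nat_lit 11589) (Step.L (Step.L (Step.L (Step.L (Step.L (Step.B (nat_lit 11587) (Step.D (nat_lit 2312) (Step.D (nat_lit 4330) (Step.D (nat_lit 7250)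 Step.done))))))))))) (Scr.cons (nat_lit 9) (nat_lit 5) (Step.L (Step.L (Step.L (Step.L (Step.L (Step.L (Step.L (Step.L (Step.L (Step.L (Step.L (Step.L (Step.L (Step.L (Step.L (Step.L (Step.L (Step.L (Step.L (Step.L (Step.L (Step.B (nat_lit 5442) (Step.D (nat_lit 6141) Step.done))))))))))))))))))))))) (Scr.cons (nat_lit 12) (nat_lit 0) (Step.B (nat_lit 11591) (Step.U (nat_lit 6141) (Step.F (nat_lit 5442) (Step.D (nat_lit 3509) (Step.D (nat_lit 6141) Step.done))))) (Scr.cons (nat_lit 6) (nat_lit 1) (Step.U (nat_lit 6185) (Step.L (Step.L (Step.B (nat_lit 11592) (Step.U (nat_lit 6141) (Step.F (nat_lit 5442) (Step.L (Step.L (Step.L (Step.D (nat_lit 6139) (Step.D (nat_lit 9303) Step.done))))))))))) (Scr.cons (nat_lit 11) (nat_lit 0) (Step.U (nat_lit 6182) (Step.L (Step.D (nat_lit 3532) (Step.D (nat_lit 6181) (Step.D (nat_lit 9358) Step.done))))) (Scr.cons (nat_lit 12) (nat_lit 1) (Step.U (nat_lit 6182) (Step.L (Step.L (Step.D (nat_lit 6182) (Step.D (nat_lit 9359) Step.done)))))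 (Scr.cons (nat_lit 12) (nat_lit 1) (Step.U (nat_lit 1810) (Step.L (Step.L (Step.D (nat_lit 1810) (Step.D (nat_lit 3531) Step.done))))) (Scr.cons (nat_lit 8) (nat_lit 1) (Step.U (nat_lit 3532) (Step.L (Step.L (Step.L (Step.L (Step.L (Step.L (Step.L (Step.L (Step.L (Step.L (Step.L (Step.D (nat_lit 1810) (Step.B (nat_lit 11596) (Step.D (nat_lit 6180) Step.done))))))))))))))) (Scr.cons (nat_lit 12) (nat_lit 1) (Step.U (nat_lit 3637) (Step.F (nat_lit 10543) (Step.D (nat_lit 1871) (Step.D (nat_lit 3637) (Step.D (nat_lit 6342) Step.done))))) (Scr.cons (nat_lit 12) (nat_lit 1) (Step.U (nat_lit 6343) (Step.D (nat_lit 6342) (Step.F (nat_lit 11598) (Step.D (nat_lit 6343) (Step.D (nat_lit 9498) Step.done))))) (Scr.cons (nat_lit 12) (nat_lit 1) (Step.L (Step.L (Step.L (Step.L (Step.D (nat_lit 1872) Step.done))))) (Scr.cons (nat_lit 6) (nat_lit 0) (Step.U (nat_lit 6342) (Step.U (nat_lit 3637) (Step.F (nat_lit 10543) (Step.L (Step.L (Step.L (Step.L (Step.L (Step.B (nat_lit 11600) (Step.D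 (nat_lit 3640) (Step.D (nat_lit 6346) Step.done))))))))))) (Scr.cons (nat_lit 12) (nat_lit 4) (Step.U (nat_lit 3640) (Step.F (nat_lit 11600) (Step.D (nat_lit 1872) (Step.D (nat_lit 3640) (Step.D (nat_lit 6346) Step.done))))) Scr.nil))))))))))))))))))))))))))))))))))))))))
noncomputable def s290 : Scr := (Scr.cons (nat_lit 15) (nat_lit 0) (Step.U (nat_lit 3641) (Step.F (nat_lit 11600) (Step.L (Step.L (Step.L (Step.L (Step.L (Step.L (Step.L (Step.L (Step.D (nat_lit 313) (Step.D (nat_lit 849) (Step.D (nat_lit 1856) (Step.D (nat_lit 3610) (Step.D (nat_lit 6310) Step.done))))))))))))))) (Scr.cons (nat_lit 12) (nat_lit 4) (Step.U (nat_lit 313) (Step.L (Step.L (Step.D (nat_lit 313) (Step.D (nat_lit 849) Step.done))))) (Scr.cons (nat_lit 12) (nat_lit 1) (Step.U (nat_lit 1857) (Step.F (nat_lit 11604) (Step.D (nat_lit 849) (Step.D (nat_lit 1857) (Step.D (nat_lit 3611) Step.done))))) (Scr.cons (nat_lit 12) (nat_lit 1) (Step.U (nat_lit 3612) (Step.D (nat_lit 3611) (Step.F (nat_lit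 11605) (Step.D (nat_lit 3612) (Step.D (nat_lit 6312) Step.done))))) (Scr.cons (nat_lit 6) (nat_lit 3) (Step.L (Step.L (Step.L (Step.L (Step.L (Step.L (Step.D (nat_lit 313) (Step.D (nat_lit 849) (Step.D (nat_lit 1857) (Step.B (nat_lit 11605) (Step.D (nat_lit 6311) Step.done))))))))))) (Scr.cons (nat_lit 15) (nat_lit 1) (Step.U (nat_lit 9480) (Step.F (nat_lit 11606) (Step.U (nat_lit 3612) (Step.D (nat_lit 3611) (Step.D (nat_lit 6311) (Step.F (nat_lit 11607) (Step.L (Step.D (nat_lit 3909) (Step.D (nat_lit 6710) (Step.F (nat_lit 10560) (Step.U (nat_lit 6693) (Step.L (Step.L (Step.L (Step.L (Step.D (nat_lit 9781) Step.done)))))))))))))))) (Scr.cons (nat_lit 0) (nat_lit 1) (Step.D (nat_lit 9781) (Step.F (nat_lit 11608) Step.done)) (Scr.cons (nat_lit 9) (nat_lit 5) (Step.U (nat_lit 9501) (Step.U (nat_lit 6347) (Step.U (nat_lit 3640) (Step.D (nat_lit 3641) (Step.B (nat_lit 11603) (Step.U (nat_lit 6310) (Step.U (nat_lit 3610) (Step.U (nat_lit 1856) (Step.D (nat_lit 1857) (Step.D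 (nat_lit 3612) (Step.B (nat_lit 11606) (Step.D (nat_lit 9480) (Step.F (nat_lit 11609) (Step.L (Step.L (Step.L (Step.L (Step.L (Step.L (Step.L (Step.L (Step.L (Step.B (nat_lit 1341) (Step.D (nat_lit 9786) Step.done)))))))))))))))))))))))) (Scr.cons (nat_lit 1) (nat_lit 0) (Step.D (nat_lit 9786) (Step.F (nat_lit 11610) Step.done)) (Scr.cons (nat_lit 15) (nat_lit 0) (Step.F (nat_lit 11599) (Step.U (nat_lit 6343) (Step.D (nat_lit 6342) (Step.B (nat_lit 11601) (Step.F (nat_lit 11602) (Step.D (nat_lit 6347) (Step.D (nat_lit 9501) (Step.F (nat_lit 11611) (Step.F (nat_lit 1341) (Step.L (Step.L (Step.L (Step.L (Step.D (nat_lit 3530) (Step.D (nat_lit 6179) (Step.D (nat_lit 9357) Step.done)))))))))))))))) (Scr.cons (nat_lit 0) (nat_lit 0) (Step.B (nat_lit 11599) (Step.B (nat_lit 11612) Step.done)) (Scr.cons (nat_lit 16) (nat_lit 2) (Step.F (nat_lit 11595) (Step.U (nat_lit 6182) (Step.L (Step.D (nat_lit 3532) (Step.B (nat_lit 11597) (Step.U (nat_lit 6180) (Step.F (nat_lit 11596)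 (Step.U (nat_lit 1810) (Step.L (Step.D (nat_lit 3530) (Step.D (nat_lit 6179) (Step.D (nat_lit 9357) (Step.F (nat_lit 11613) (Step.U (nat_lit 6343) (Step.U (nat_lit 3637) (Step.D (nat_lit 3636) (Step.D (nat_lit 6341) (Step.F (nat_lit 10552) (Step.F (nat_lit 10551) (Step.U (nat_lit 2082) (Step.L (Step.L (Step.L (Step.D (nat_lit 9986) Step.done)))))))))))))))))))))))) (Scr.cons (nat_lit 1) (nat_lit 1) (Step.D (nat_lit 9986) (Step.F (nat_lit 11614) Step.done)) (Scr.cons (nat_lit 6) (nat_lit 1) (Step.F (nat_lit 8937) (Step.F (nat_lit 10561) (Step.U (nat_lit 6885) (Step.U (nat_lit 4037) (Step.L (Step.L (Step.L (Step.L (Step.B (nat_lit 11615) (Step.F (nat_lit 11595) (Step.B (nat_lit 11594) Step.done))))))))))) (Scr.cons (nat_lit 1) (nat_lit 0) (Step.F (nat_lit 8937) (Step.B (nat_lit 10562) (Step.L Step.done))) (Scr.cons (nat_lit 0) (nat_lit 1) (Step.F (nat_lit 11616) (Step.B (nat_lit 11617) (Step.L Step.done))) (Scr.cons (nat_lit 1) (nat_lit 1) (Step.B (nat_lit 11594) (Step.B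 (nat_lit 11618) (Step.L Step.done))) (Scr.cons (nat_lit 1) (nat_lit 1) (Step.D (nat_lit 6182) (Step.B (nat_lit 11619) (Step.F (nat_lit 3122) Step.done))) (Scr.cons (nat_lit 1) (nat_lit 1) (Step.D (nat_lit 3856) (Step.F (nat_lit 11620) (Step.L Step.done))) (Scr.cons (nat_lit 0) (nat_lit 1) (Step.U (nat_lit 3855) (Step.B (nat_lit 11621) (Step.L Step.done))) (Scr.cons (nat_lit 1) (nat_lit 1) (Step.U (nat_lit 6638) (Step.B (nat_lit 11622) (Step.L Step.done))) (Scr.cons (nat_lit 1) (nat_lit 1) (Step.B (nat_lit 3241) (Step.B (nat_lit 11623) (Step.L Step.done))) (Scr.cons (nat_lit 1) (nat_lit 1) (Step.D (nat_lit 9477) (Step.B (nat_lit 11624) (Step.L Step.done))) (Scr.cons (nat_lit 0) (nat_lit 1) (Step.B (nat_lit 3127) (Step.B (nat_lit 11625) (Step.L Step.done))) (Scr.cons (nat_lit 1) (nat_lit 0) (Step.B (nat_lit 3236) (Step.B (nat_lit 11626) (Step.D (nat_lit 6185) Step.done))) (Scr.cons (nat_lit 0) (nat_lit 1) (Step.F (nat_lit 11593) (Step.F (nat_lit 11627) (Step.D (nat_lit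 3871) Step.done))) (Scr.cons (nat_lit 1) (nat_lit 1) (Step.D (nat_lit 9303) (Step.B (nat_lit 11628) (Step.D (nat_lit 6665) Step.done))) (Scr.cons (nat_lit 11) (nat_lit 0) (Step.U (nat_lit 7601) (Step.U (nat_lit 4641) (Step.D (nat_lit 4640) (Step.D (nat_lit 7599) (Step.D (nat_lit 10626) Step.done))))) (Scr.cons (nat_lit 1) (nat_lit 0) (Step.B (nat_lit 11630) (Step.B (nat_lit 3216) Step.done)) (Scr.cons (nat_lit 1) (nat_lit 0) (Step.U (nat_lit 7601) (Step.B (nat_lit 10703) (Step.L Step.done))) (Scr.cons (nat_lit 1) (nat_lit 0) (Step.F (nat_lit 11631) (Step.B (nat_lit 11632) (Step.L Step.done))) (Scr.cons (nat_lit 0) (nat_lit 1) (Step.B (nat_lit 3133) (Step.B (nat_lit 11633) (Step.L Step.done))) (Scr.cons (nat_lit 1) (nat_lit 1) (Step.U (nat_lit 9821) (Step.B (nat_lit 11634) (Step.L Step.done))) (Scr.cons (nat_lit 0) (nat_lit 1) (Step.B (nat_lit 3351) (Step.B (nat_lit 11635) (Step.L Step.done))) (Scr.cons (nat_lit 1) (nat_lit 0) (Step.B (nat_lit 3230) (Step.B (nat_lit 11636)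 (Step.L Step.done))) (Scr.cons (nat_lit 1) (nat_lit 0) (Step.D (nat_lit 6641) (Step.B (nat_lit 11637) (Step.L Step.done))) (Scr.cons (nat_lit 0) (nat_lit 1) (Step.U (nat_lit 6640) (Step.B (nat_lit 11638) (Step.D (nat_lit 6613) Step.done))) (Scr.cons (nat_lit 1) (nat_lit 0) (Step.U (nat_lit 9802) (Step.B (nat_lit 11639) (Step.D (nat_lit 9771) Step.done))) (Scr.cons (nat_lit 1) (nat_lit 0) (Step.B (nat_lit 3232) (Step.B (nat_lit 11640) (Step.D (nat_lit 11841) Step.done))) (Scr.cons (nat_lit 1) (nat_lit 0) (Step.D (nat_lit 11841) (Step.F (nat_lit 11641) Step.done)) Scr.nil))))))))))))))))))))))))))))))))))))))))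
noncomputable def s291 : Scr := (Scr.cons (nat_lit 12) (nat_lit 1) (Step.L (Step.L (Step.L (Step.L (Step.D (nat_lit 4333) Step.done))))) (Scr.cons (nat_lit 12) (nat_lit 1) (Step.U (nat_lit 3582) (Step.L (Step.L (Step.D (nat_lit 3582) (Step.D (nat_lit 6273) Step.done))))) (Scr.cons (nat_lit 14) (nat_lit 4) (Step.U (nat_lit 10328) (Step.U (nat_lit 7252) (Step.U (nat_lit 4333) (Step.L (Step.L (Step.L (Step.L (Step.L (Step.L (Step.L (Step.L (Step.L (Step.L (Step.L (Step.L (Step.B (nat_lit 3337) (Step.B (nat_lit 11644) (Step.D (nat_lit 9451) (Step.B (nat_lit 3339) (Step.D (nat_lit 11817) Step.done)))))))))))))))))))) (Scr.cons (nat_lit 1) (nat_lit 1) (Step.D (nat_lit 6786) (Step.B (nat_lit 11636) (Step.L Step.done))) (Scr.cons (nat_lit 0) (nat_lit 1) (Step.B (nat_lit 3225) (Step.B (nat_lit 11646) (Step.D (nat_lit 3834) Step.done))) (Scr.cons (nat_lit 1) (nat_lit 1) (Step.U (nat_lit 6612) (Step.F (nat_lit 11647) (Step.L Step.done))) (Scr.cons (nat_lit 12) (nat_lit 4) (Step.U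 (nat_lit 6612) (Step.F (nat_lit 591) (Step.D (nat_lit 3834) (Step.D (nat_lit 6612) (Step.D (nat_lit 9770) Step.done))))) (Scr.cons (nat_lit 12) (nat_lit 1) (Step.U (nat_lit 3832) (Step.F (nat_lit 9554) (Step.D (nat_lit 1990) (Step.D (nat_lit 3832) (Step.D (nat_lit 6608) Step.done))))) (Scr.cons (nat_lit 12) (nat_lit 1) (Step.U (nat_lit 9763) (Step.F (nat_lit 11650) (Step.D (nat_lit 6608) (Step.D (nat_lit 9763) (Step.D (nat_lit 11839) Step.done))))) (Scr.cons (nat_lit 15) (nat_lit 1) (Step.F (nat_lit 11651) (Step.U (nat_lit 9763) (Step.F (nat_lit 11650) (Step.U (nat_lit 3832) (Step.F (nat_lit 9554) (Step.U (nat_lit 923) (Step.F (nat_lit 85) (Step.L (Step.L (Step.L (Step.L (Step.L (Step.D (nat_lit 3834) (Step.D (nat_lit 6612) (Step.D (nat_lit 9770) Step.done))))))))))))))) (Scr.cons (nat_lit 14) (nat_lit 5) (Step.U (nat_lit 3832) (Step.U (nat_lit 1990) (Step.U (nat_lit 923) (Step.B (nat_lit 86) (Step.L (Step.L (Step.L (Step.L (Step.L (Step.L (Step.L (Step.L (Step.L (Step.L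 (Step.L (Step.B (nat_lit 4604) (Step.F (nat_lit 2224) (Step.D (nat_lit 1401) (Step.D (nat_lit 2848) (Step.D (nat_lit 5147) Step.done)))))))))))))))))))) (Scr.cons (nat_lit 1) (nat_lit 1) (Step.U (nat_lit 7176) (Step.B (nat_lit 3653) (Step.D (nat_lit 3975) Step.done))) (Scr.cons (nat_lit 1) (nat_lit 1) (Step.F (nat_lit 2248) (Step.B (nat_lit 11654) (Step.B (nat_lit 1908) Step.done))) (Scr.cons (nat_lit 0) (nat_lit 1) (Step.B (nat_lit 2227) (Step.B (nat_lit 11655) (Step.F (nat_lit 1801) Step.done))) (Scr.cons (nat_lit 1) (nat_lit 0) (Step.D (nat_lit 2849) (Step.B (nat_lit 11656) (Step.D (nat_lit 2827) Step.done))) (Scr.cons (nat_lit 1) (nat_lit 0) (Step.D (nat_lit 2827) (Step.F (nat_lit 11657) Step.done)) (Scr.cons (nat_lit 1) (nat_lit 0) (Step.F (nat_lit 11658) (Step.B (nat_lit 10401) (Step.L Step.done))) (Scr.cons (nat_lit 0) (nat_lit 1) (Step.U (nat_lit 2848) (Step.B (nat_lit 11659) (Step.L Step.done))) (Scr.cons (nat_lit 1) (nat_lit 1) (Step.U (nat_lit 5147) (Step.B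 (nat_lit 11660) (Step.L Step.done))) (Scr.cons (nat_lit 1) (nat_lit 1) (Step.B (nat_lit 11653) (Step.B (nat_lit 11661) (Step.L Step.done))) (Scr.cons (nat_lit 0) (nat_lit 1) (Step.U (nat_lit 6608) (Step.B (nat_lit 11662) (Step.L Step.done))) (Scr.cons (nat_lit 1) (nat_lit 0) (Step.U (nat_lit 9763) (Step.B (nat_lit 11663) (Step.L Step.done))) (Scr.cons (nat_lit 0) (nat_lit 1) (Step.U (nat_lit 11839) (Step.B (nat_lit 11664) (Step.L Step.done))) (Scr.cons (nat_lit 1) (nat_lit 0) (Step.F (nat_lit 11652) (Step.B (nat_lit 11665) (Step.D (nat_lit 3794) Step.done))) (Scr.cons (nat_lit 0) (nat_lit 1) (Step.F (nat_lit 11648) (Step.B (nat_lit 11649) (Step.B (nat_lit 11666) (Step.D (nat_lit 6561) Step.done)))) (Scr.cons (nat_lit 1) (nat_lit 0) (Step.U (nat_lit 9715) (Step.F (nat_lit 11667) (Step.L Step.done))) (Scr.cons (nat_lit 0) (nat_lit 1) (Step.U (nat_lit 11817) (Step.B (nat_lit 11668) (Step.L Step.done))) (Scr.cons (nat_lit 1) (nat_lit 1) (Step.B (nat_lit 11645) (Step.B (nat_lit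 11669) (Step.L Step.done))) (Scr.cons (nat_lit 1) (nat_lit 1) (Step.D (nat_lit 10328) (Step.B (nat_lit 11670) (Step.L Step.done))) (Scr.cons (nat_lit 1) (nat_lit 1) (Step.D (nat_lit 7252) (Step.B (nat_lit 11671) (Step.L Step.done))) (Scr.cons (nat_lit 0) (nat_lit 1) (Step.B (nat_lit 11643) (Step.B (nat_lit 11672) (Step.D (nat_lit 6613) Step.done))) (Scr.cons (nat_lit 1) (nat_lit 0) (Step.U (nat_lit 9771) (Step.F (nat_lit 11673) (Step.L Step.done))) (Scr.cons (nat_lit 1) (nat_lit 0) (Step.B (nat_lit 11629) (Step.F (nat_lit 11642) (Step.B (nat_lit 11674) (Step.L Step.done)))) (Scr.cons (nat_lit 1) (nat_lit 0) (Step.D (nat_lit 6665) (Step.F (nat_lit 11629) (Step.B (nat_lit 11675) (Step.L Step.done)))) (Scr.cons (nat_lit 0) (nat_lit 1) (Step.B (nat_lit 3235) (Step.B (nat_lit 11676) (Step.D (nat_lit 2313) Step.done))) (Scr.cons (nat_lit 1) (nat_lit 0) (Step.U (nat_lit 4332) (Step.F (nat_lit 11677) (Step.L Step.done))) (Scr.cons (nat_lit 0) (nat_lit 1) (Step.F (nat_lit 11590)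 (Step.B (nat_lit 11678) (Step.L Step.done))) (Scr.cons (nat_lit 1) (nat_lit 1) (Step.D (nat_lit 7250) (Step.B (nat_lit 11679) (Step.D (nat_lit 3870) Step.done))) (Scr.cons (nat_lit 0) (nat_lit 1) (Step.B (nat_lit 11588) (Step.B (nat_lit 11680) (Step.D (nat_lit 6664) Step.done))) (Scr.cons (nat_lit 0) (nat_lit 1) (Step.D (nat_lit 6664) (Step.F (nat_lit 11681) Step.done)) Scr.nil))))))))))))))))))))))))))))))))))))))))
noncomputable def s292 : Scr := (Scr.cons (nat_lit 12) (nat_lit 1) (Step.L (Step.L (Step.L (Step.L (Step.D (nat_lit 10330) Step.done))))) (Scr.cons (nat_lit 8) (nat_lit 0) (Step.U (nat_lit 10327) (Step.U (nat_lit 7251) (Step.U (nat_lit 4331) (Step.F (nat_lit 11682) (Step.U (nat_lit 3870) (Step.L (Step.L (Step.L (Step.L (Step.L (Step.L (Step.L (Step.L (Step.L (Step.L (Step.B (nat_lit 11683) Step.done)))))))))))))))) (Scr.cons (nat_lit 0) (nat_lit 1) (Step.D (nat_lit 10330) (Step.F (nat_lit 11684) Step.done)) (Scr.cons (nat_lit 0) (nat_lit 0) (Step.B (nat_lit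 11683) (Step.F (nat_lit 11684) Step.done)) (Scr.cons (nat_lit 12) (nat_lit 1) (Step.L (Step.B (nat_lit 11685) (Step.F (nat_lit 11686) (Step.L (Step.L Step.done))))) (Scr.cons (nat_lit 12) (nat_lit 1) (Step.L (Step.L (Step.L (Step.L (Step.D (nat_lit 10338) Step.done))))) (Scr.cons (nat_lit 12) (nat_lit 1) (Step.L (Step.D (nat_lit 10338) (Step.F (nat_lit 11688) (Step.L (Step.L Step.done))))) (Scr.cons (nat_lit 4) (nat_lit 0) (Step.L (Step.L (Step.L (Step.L (Step.D (nat_lit 10337) Step.done))))) (Scr.cons (nat_lit 9) (nat_lit 5) (Step.L (Step.L (Step.L (Step.L (Step.L (Step.L (Step.L (Step.L (Step.L (Step.L (Step.L (Step.L (Step.L (Step.L (Step.L (Step.L (Step.L (Step.L (Step.L (Step.D (nat_lit 10337) (Step.F (nat_lit 11690) (Step.L (Step.L Step.done))))))))))))))))))))))) (Scr.cons (nat_lit 11) (nat_lit 0) (Step.L (Step.L (Step.L (Step.D (nat_lit 6252) (Step.D (nat_lit 9430) Step.done))))) (Scr.cons (nat_lit 12) (nat_lit 1) (Step.F (nat_lit 11692) (Step.L (Step.L (Step.B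 (nat_lit 11692) (Step.D (nat_lit 11744) Step.done))))) (Scr.cons (nat_lit 11) (nat_lit 0) (Step.U (nat_lit 3561) (Step.U (nat_lit 1821) (Step.L (Step.D (nat_lit 3559) (Step.D (nat_lit 6241) Step.done))))) (Scr.cons (nat_lit 12) (nat_lit 1) (Step.U (nat_lit 3561) (Step.D (nat_lit 3560) (Step.F (nat_lit 10069) (Step.D (nat_lit 3561) (Step.D (nat_lit 6244) Step.done))))) (Scr.cons (nat_lit 12) (nat_lit 1) (Step.F (nat_lit 11694) (Step.D (nat_lit 6244) (Step.F (nat_lit 11695) (Step.B (nat_lit 11694) (Step.D (nat_lit 9418) Step.done))))) (Scr.cons (nat_lit 7) (nat_lit 5) (Step.F (nat_lit 11693) (Step.U (nat_lit 9430) (Step.U (nat_lit 6252) (Step.L (Step.L (Step.L (Step.L (Step.L (Step.L (Step.L (Step.L (Step.L (Step.L (Step.L (Step.L (Step.D (nat_lit 1821) (Step.D (nat_lit 3561) (Step.B (nat_lit 11694) (Step.B (nat_lit 11696) (Step.D (nat_lit 11738) Step.done)))))))))))))))))))) (Scr.cons (nat_lit 12) (nat_lit 4) (Step.L (Step.L (Step.L (Step.L (Step.D (nat_lit 2203) Step.done)))))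 (Scr.cons (nat_lit 4) (nat_lit 0) (Step.F (nat_lit 4184) (Step.D (nat_lit 7774) (Step.F (nat_lit 4272) (Step.U (nat_lit 6242) (Step.D (nat_lit 6243) (Step.D (nat_lit 9420) Step.done)))))) (Scr.cons (nat_lit 1) (nat_lit 1) (Step.D (nat_lit 9420) (Step.F (nat_lit 11699) (Step.D (nat_lit 10255) Step.done))) (Scr.cons (nat_lit 1) (nat_lit 1) (Step.D (nat_lit 10255) (Step.F (nat_lit 11700) Step.done)) (Scr.cons (nat_lit 1) (nat_lit 0) (Step.U (nat_lit 4264) (Step.B (nat_lit 10755) (Step.L Step.done))) (Scr.cons (nat_lit 0) (nat_lit 1) (Step.U (nat_lit 7159) (Step.B (nat_lit 11702) (Step.L Step.done))) (Scr.cons (nat_lit 1) (nat_lit 1) (Step.F (nat_lit 11701) (Step.B (nat_lit 11703) (Step.L Step.done))) (Scr.cons (nat_lit 1) (nat_lit 1) (Step.D (nat_lit 6243) (Step.B (nat_lit 11704) (Step.L Step.done))) (Scr.cons (nat_lit 0) (nat_lit 1) (Step.B (nat_lit 10069) (Step.B (nat_lit 11705) (Step.D (nat_lit 2203) Step.done))) (Scr.cons (nat_lit 0) (nat_lit 0) (Step.B (nat_lit 11698)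 (Step.F (nat_lit 11706) Step.done)) (Scr.cons (nat_lit 13) (nat_lit 3) (Step.U (nat_lit 6915) (Step.L (Step.L (Step.L (Step.L (Step.L (Step.L (Step.L (Step.L (Step.L (Step.D (nat_lit 10055) Step.done))))))))))) (Scr.cons (nat_lit 14) (nat_lit 0) (Step.U (nat_lit 9418) (Step.F (nat_lit 11694) (Step.U (nat_lit 3561) (Step.F (nat_lit 11707) (Step.L (Step.L (Step.L (Step.L (Step.L (Step.L (Step.L (Step.L (Step.L (Step.L (Step.L (Step.L (Step.L (Step.D (nat_lit 10055) (Step.F (nat_lit 11708) (Step.D (nat_lit 10056) (Step.D (nat_lit 11870) Step.done))))))))))))))))))))) (Scr.cons (nat_lit 1) (nat_lit 0) (Step.D (nat_lit 11870) (Step.F (nat_lit 11709) (Step.D (nat_lit 11738) Step.done))) (Scr.cons (nat_lit 1) (nat_lit 0) (Step.B (nat_lit 11697) (Step.F (nat_lit 11710) (Step.U (nat_lit 10056) Step.done))) (Scr.cons (nat_lit 12) (nat_lit 4) (Step.L (Step.L (Step.L (Step.L (Step.D (nat_lit 6915) Step.done))))) (Scr.cons (nat_lit 0) (nat_lit 1) (Step.B (nat_lit 11693) (Step.B (nat_lit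 11711) (Step.F (nat_lit 11712) Step.done))) (Scr.cons (nat_lit 1) (nat_lit 1) (Step.B (nat_lit 11692) (Step.B (nat_lit 11713) (Step.D (nat_lit 6916) Step.done))) (Scr.cons (nat_lit 1) (nat_lit 1) (Step.D (nat_lit 6916) (Step.F (nat_lit 11714) Step.done)) (Scr.cons (nat_lit 12) (nat_lit 4) (Step.U (nat_lit 10093) (Step.L (Step.L (Step.D (nat_lit 10093) (Step.D (nat_lit 11878) Step.done))))) (Scr.cons (nat_lit 11) (nat_lit 0) (Step.L (Step.L (Step.D (nat_lit 2156) (Step.D (nat_lit 4112) (Step.D (nat_lit 6974) Step.done))))) (Scr.cons (nat_lit 12) (nat_lit 4) (Step.U (nat_lit 3559) (Step.L (Step.L (Step.D (nat_lit 3559) (Step.D (nat_lit 6240) Step.done))))) (Scr.cons (nat_lit 1) (nat_lit 0) (Step.D (nat_lit 11738) (Step.F (nat_lit 11710) Step.done)) (Scr.cons (nat_lit 11) (nat_lit 0) (Step.U (nat_lit 11869) (Step.F (nat_lit 11708) (Step.D (nat_lit 10056) (Step.F (nat_lit 11719) (Step.D (nat_lit 11737) Step.done))))) (Scr.cons (nat_lit 16) (nat_lit 4) (Step.U (nat_lit 11736)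 (Step.U (nat_lit 9417) (Step.F (nat_lit 11718) (Step.D (nat_lit 6241) (Step.D (nat_lit 9418) (Step.D (nat_lit 11737) (Step.F (nat_lit 11720) (Step.U (nat_lit 11869) (Step.F (nat_lit 11201) (Step.L (Step.L (Step.L (Step.L (Step.L (Step.L (Step.L (Step.L (Step.L (Step.L (Step.L (Step.L (Step.L (Step.D (nat_lit 10091) (Step.D (nat_lit 11876) Step.done)))))))))))))))))))))))) (Scr.cons (nat_lit 0) (nat_lit 1) (Step.D (nat_lit 2203) (Step.F (nat_lit 11706) Step.done)) Scr.nil))))))))))))))))))))))))))))))))))))))))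
noncomputable def s293 : Scr := (Scr.cons (nat_lit 12) (nat_lit 1) (Step.F (nat_lit 11717) (Step.L (Step.L (Step.B (nat_lit 11717) (Step.D (nat_lit 10107) Step.done))))) (Scr.cons (nat_lit 7) (nat_lit 4) (Step.U (nat_lit 11735) (Step.U (nat_lit 9416) (Step.F (nat_lit 11718) (Step.U (nat_lit 3559) (Step.L (Step.D (nat_lit 1821) (Step.F (nat_lit 11722) (Step.L (Step.L (Step.L (Step.L (Step.L (Step.L (Step.L (Step.L (Step.L (Step.L (Step.L (Step.L (Step.B (nat_lit 11717) (Step.B (nat_lit 11723) Step.done))))))))))))))))))))) (Scr.cons (nat_lit 1) (nat_lit 1) (Step.D (nat_lit 11735) (Step.B (nat_lit 11724) Step.done)) (Scr.cons (nat_lit 11) (nat_lit 0) (Step.U (nat_lit 11736) (Step.U (nat_lit 9417) (Step.D (nat_lit 9416) (Step.B (nat_lit 11725) (Step.D (nat_lit 11883) Step.done))))) (Scr.cons (nat_lit 1) (nat_lit 0) (Step.D (nat_lit 11876) (Step.F (nat_lit 11721) (Step.B (nat_lit 11726) Step.done))) (Scr.cons (nat_lit 1) (nat_lit 0) (Step.D (nat_lit 11883) (Step.F (nat_lit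 11727) (Step.D (nat_lit 11877) Step.done))) (Scr.cons (nat_lit 1) (nat_lit 0) (Step.D (nat_lit 11877) (Step.F (nat_lit 11728) Step.done)) (Scr.cons (nat_lit 13) (nat_lit 1) (Step.B (nat_lit 11717) (Step.D (nat_lit 10107) (Step.F (nat_lit 11729) (Step.U (nat_lit 10091) (Step.L (Step.L (Step.L (Step.L (Step.L (Step.L (Step.D (nat_lit 10093) (Step.B (nat_lit 11716) Step.done)))))))))))) (Scr.cons (nat_lit 0) (nat_lit 1) (Step.B (nat_lit 11716) (Step.F (nat_lit 11730) (Step.L Step.done))) (Scr.cons (nat_lit 1) (nat_lit 0) (Step.D (nat_lit 10093) (Step.B (nat_lit 11731) (Step.D (nat_lit 10108) Step.done))) (Scr.cons (nat_lit 1) (nat_lit 0) (Step.D (nat_lit 10108) (Step.F (nat_lit 11732) Step.done)) (Scr.cons (nat_lit 11) (nat_lit 0) (Step.L (Step.L (Step.L (Step.L (Step.D (nat_lit 11734) Step.done))))) (Scr.cons (nat_lit 14) (nat_lit 6) (Step.L (Step.L (Step.L (Step.L (Step.L (Step.L (Step.L (Step.L (Step.L (Step.L (Step.D (nat_lit 3559) (Step.D (nat_lit 6240) (Step.D (nat_lit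 9416) (Step.B (nat_lit 11725) (Step.F (nat_lit 11729) (Step.U (nat_lit 10091) (Step.L (Step.L (Step.L (Step.D (nat_lit 10103) (Step.D (nat_lit 11881) Step.done))))))))))))))))))))) (Scr.cons (nat_lit 1) (nat_lit 0) (Step.D (nat_lit 11881) (Step.F (nat_lit 11735) (Step.L Step.done))) (Scr.cons (nat_lit 1) (nat_lit 0) (Step.D (nat_lit 10103) (Step.B (nat_lit 11736) (Step.B (nat_lit 11734) Step.done))) (Scr.cons (nat_lit 1) (nat_lit 0) (Step.B (nat_lit 11734) (Step.F (nat_lit 11737) Step.done)) (Scr.cons (nat_lit 16) (nat_lit 4) (Step.U (nat_lit 11733) (Step.U (nat_lit 9415) (Step.L (Step.L (Step.L (Step.L (Step.L (Step.L (Step.L (Step.L (Step.L (Step.L (Step.L (Step.L (Step.L (Step.L (Step.L (Step.L (Step.L (Step.L (Step.L (Step.L (Step.D (nat_lit 10104) (Step.D (nat_lit 11882) Step.done)))))))))))))))))))))))) (Scr.cons (nat_lit 1) (nat_lit 1) (Step.D (nat_lit 11882) (Step.F (nat_lit 11739) Step.done)) (Scr.cons (nat_lit 13) (nat_lit 3) (Step.U (nat_lit 10104) (Step.L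 (Step.L (Step.L (Step.L (Step.L (Step.L (Step.L (Step.L (Step.L (Step.L Step.done))))))))))) (Scr.cons (nat_lit 4) (nat_lit 0) (Step.U (nat_lit 11732) (Step.L (Step.D (nat_lit 9415) (Step.D (nat_lit 11733) (Step.F (nat_lit 11740) (Step.B (nat_lit 11741) Step.done)))))) (Scr.cons (nat_lit 1) (nat_lit 1) (Step.D (nat_lit 11732) (Step.B (nat_lit 11742) Step.done)) (Scr.cons (nat_lit 12) (nat_lit 4) (Step.L (Step.L (Step.L (Step.L (Step.D (nat_lit 10341) Step.done))))) (Scr.cons (nat_lit 12) (nat_lit 4) (Step.L (Step.D (nat_lit 10341) (Step.F (nat_lit 11744) (Step.L (Step.L Step.done))))) (Scr.cons (nat_lit 12) (nat_lit 4) (Step.L (Step.L (Step.L (Step.L (Step.D (nat_lit 10350) Step.done))))) (Scr.cons (nat_lit 12) (nat_lit 4) (Step.L (Step.D (nat_lit 10350) (Step.F (nat_lit 11746) (Step.L (Step.L Step.done))))) (Scr.cons (nat_lit 12) (nat_lit 4) (Step.U (nat_lit 9158) (Step.L (Step.L (Step.D (nat_lit 9158) (Step.D (nat_lit 11634) Step.done))))) (Scr.cons (nat_lit 6) (nat_lit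 0) (Step.U (nat_lit 11417) (Step.U (nat_lit 8625) (Step.F (nat_lit 894) (Step.L (Step.L (Step.L (Step.L (Step.L (Step.L (Step.D (nat_lit 9158) (Step.D (nat_lit 11634) Step.done))))))))))) (Scr.cons (nat_lit 12) (nat_lit 4) (Step.L (Step.L (Step.L (Step.L (Step.D (nat_lit 248) Step.done))))) (Scr.cons (nat_lit 12) (nat_lit 4) (Step.U (nat_lit 696) (Step.F (nat_lit 11750) (Step.D (nat_lit 248) (Step.D (nat_lit 696) (Step.D (nat_lit 1636) Step.done))))) (Scr.cons (nat_lit 12) (nat_lit 1) (Step.U (nat_lit 3256) (Step.F (nat_lit 11751) (Step.D (nat_lit 1636) (Step.D (nat_lit 3256) (Step.D (nat_lit 5772) Step.done))))) (Scr.cons (nat_lit 6) (nat_lit 3) (Step.L (Step.L (Step.L (Step.L (Step.L (Step.B (nat_lit 11750) (Step.D (nat_lit 696) (Step.D (nat_lit 1636) (Step.D (nat_lit 3256) (Step.B (nat_lit 11752) (Step.D (nat_lit 8899) Step.done))))))))))) (Scr.cons (nat_lit 0) (nat_lit 1) (Step.D (nat_lit 8594) (Step.F (nat_lit 5823) Step.done)) (Scr.cons (nat_lit 14) (nat_lit 5)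 (Step.U (nat_lit 11388) (Step.U (nat_lit 8582) (Step.D (nat_lit 8583) (Step.F (nat_lit 8262) (Step.L (Step.B (nat_lit 8295) (Step.U (nat_lit 11174) (Step.L (Step.L (Step.L (Step.L (Step.D (nat_lit 5190) (Step.F (nat_lit 5828) (Step.D (nat_lit 5224) (Step.D (nat_lit 8259) (Step.F (nat_lit 11754) (Step.D (nat_lit 8595) (Step.F (nat_lit 5701) (Step.D (nat_lit 8596) (Step.D (nat_lit 11394) Step.done)))))))))))))))))))) (Scr.cons (nat_lit 1) (nat_lit 0) (Step.D (nat_lit 7276) (Step.F (nat_lit 5289) (Step.B (nat_lit 5295) (Step.D (nat_lit 4356) Step.done)))) (Scr.cons (nat_lit 1) (nat_lit 0) (Step.D (nat_lit 4357) (Step.B (nat_lit 11756) (Step.D (nat_lit 7275) Step.done))) (Scr.cons (nat_lit 1) (nat_lit 0) (Step.D (nat_lit 7275) (Step.F (nat_lit 11757) Step.done)) (Scr.cons (nat_lit 11) (nat_lit 0) (Step.U (nat_lit 2335) (Step.U (nat_lit 1113) (Step.D (nat_lit 1112) (Step.D (nat_lit 2333) (Step.D (nat_lit 4354) Step.done))))) (Scr.cons (nat_lit 1) (nat_lit 1) (Step.U (nat_lit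 4354) (Step.F (nat_lit 6250) (Step.U (nat_lit 1135) Step.done))) (Scr.cons (nat_lit 1) (nat_lit 1) (Step.B (nat_lit 11759) (Step.B (nat_lit 11760) (Step.F (nat_lit 2459) Step.done))) (Scr.cons (nat_lit 1) (nat_lit 0) (Step.D (nat_lit 2335) (Step.B (nat_lit 11761) Step.done)) Scr.nil))))))))))))))))))))))))))))))))))))))))
noncomputable def s294 : Scr := (Scr.cons (nat_lit 1) (nat_lit 1) (Step.D (nat_lit 1135) (Step.B (nat_lit 8346) (Step.L Step.done))) (Scr.cons (nat_lit 1) (nat_lit 1) (Step.B (nat_lit 2459) (Step.B (nat_lit 11763) (Step.L Step.done))) (Scr.cons (nat_lit 1) (nat_lit 1) (Step.B (nat_lit 11762) (Step.B (nat_lit 11764) (Step.L Step.done))) (Scr.cons (nat_lit 0) (nat_lit 1) (Step.U (nat_lit 2334) (Step.B (nat_lit 11765) (Step.L Step.done))) (Scr.cons (nat_lit 1) (nat_lit 0) (Step.U (nat_lit 4356) (Step.B (nat_lit 11766) (Step.L Step.done))) (Scr.cons (nat_lit 1) (nat_lit 0) (Step.F (nat_lit 11758) (Step.B (nat_lit 11767) (Step.D (nat_lit 5508) Step.done)))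 (Scr.cons (nat_lit 0) (nat_lit 1) (Step.U (nat_lit 8596) (Step.F (nat_lit 11768) (Step.L Step.done))) (Scr.cons (nat_lit 1) (nat_lit 1) (Step.U (nat_lit 11394) (Step.B (nat_lit 11769) (Step.L Step.done))) (Scr.cons (nat_lit 1) (nat_lit 1) (Step.B (nat_lit 11755) (Step.B (nat_lit 11770) (Step.D (nat_lit 10353) Step.done))) (Scr.cons (nat_lit 1) (nat_lit 0) (Step.D (nat_lit 11388) (Step.B (nat_lit 11771) Step.done)) (Scr.cons (nat_lit 12) (nat_lit 4) (Step.L (Step.L (Step.L (Step.L (Step.D (nat_lit 8582) Step.done))))) (Scr.cons (nat_lit 12) (nat_lit 1) (Step.F (nat_lit 11772) (Step.F (nat_lit 11773) (Step.D (nat_lit 8582) (Step.B (nat_lit 11772) (Step.D (nat_lit 11911) Step.done))))) (Scr.cons (nat_lit 15) (nat_lit 1) (Step.F (nat_lit 11774) (Step.F (nat_lit 11772) (Step.F (nat_lit 11773) (Step.D (nat_lit 8583) (Step.F (nat_lit 8298) (Step.U (nat_lit 5757) (Step.F (nat_lit 8260) (Step.U (nat_lit 1632) (Step.F (nat_lit 8259) (Step.L (Step.L (Step.L (Step.L (Step.D (nat_lit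 8879) (Step.D (nat_lit 11533) Step.done))))))))))))))) (Scr.cons (nat_lit 4) (nat_lit 0) (Step.U (nat_lit 11387) (Step.D (nat_lit 11388) (Step.B (nat_lit 11755) (Step.U (nat_lit 11394) (Step.D (nat_lit 11395) Step.done))))) (Scr.cons (nat_lit 1) (nat_lit 0) (Step.U (nat_lit 11395) (Step.B (nat_lit 11769) (Step.L Step.done))) (Scr.cons (nat_lit 1) (nat_lit 0) (Step.B (nat_lit 11776) (Step.B (nat_lit 11777) (Step.L Step.done))) (Scr.cons (nat_lit 1) (nat_lit 1) (Step.D (nat_lit 11387) (Step.B (nat_lit 11778) Step.done)) (Scr.cons (nat_lit 16) (nat_lit 5) (Step.U (nat_lit 5773) (Step.D (nat_lit 5772) (Step.D (nat_lit 8899) (Step.F (nat_lit 11753) (Step.L (Step.L (Step.D (nat_lit 8879) (Step.D (nat_lit 11533) (Step.F (nat_lit 11775) (Step.F (nat_lit 11774) (Step.F (nat_lit 11772) (Step.B (nat_lit 11779) (Step.L (Step.L (Step.L (Step.L (Step.L (Step.L (Step.L (Step.L (Step.L (Step.D (nat_lit 5533) (Step.D (nat_lit 8624) (Step.D (nat_lit 11416) Step.done))))))))))))))))))))))))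 (Scr.cons (nat_lit 11) (nat_lit 0) (Step.U (nat_lit 5773) (Step.U (nat_lit 3256) (Step.D (nat_lit 3255) (Step.D (nat_lit 5771) (Step.D (nat_lit 8898) Step.done))))) (Scr.cons (nat_lit 1) (nat_lit 0) (Step.D (nat_lit 11416) (Step.F (nat_lit 11780) (Step.B (nat_lit 11781) Step.done))) (Scr.cons (nat_lit 1) (nat_lit 0) (Step.D (nat_lit 8898) (Step.F (nat_lit 11782) (Step.U (nat_lit 8624) Step.done))) (Scr.cons (nat_lit 1) (nat_lit 0) (Step.D (nat_lit 5771) (Step.B (nat_lit 11783) (Step.D (nat_lit 8625) Step.done))) (Scr.cons (nat_lit 0) (nat_lit 1) (Step.U (nat_lit 11417) (Step.F (nat_lit 11784) (Step.D (nat_lit 5770) Step.done))) (Scr.cons (nat_lit 1) (nat_lit 1) (Step.F (nat_lit 11749) (Step.B (nat_lit 11785) (Step.D (nat_lit 8897) Step.done))) (Scr.cons (nat_lit 15) (nat_lit 0) (Step.L (Step.L (Step.L (Step.L (Step.L (Step.L (Step.L (Step.L (Step.L (Step.D (nat_lit 248) (Step.D (nat_lit 696) (Step.D (nat_lit 1636) (Step.D (nat_lit 3255) (Step.D (nat_lit 5770) (Step.D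 (nat_lit 8897) Step.done))))))))))))))) (Scr.cons (nat_lit 0) (nat_lit 1) (Step.B (nat_lit 11748) (Step.B (nat_lit 11786) (Step.F (nat_lit 11787) Step.done))) (Scr.cons (nat_lit 1) (nat_lit 0) (Step.D (nat_lit 9158) (Step.B (nat_lit 11788) (Step.D (nat_lit 8902) Step.done))) (Scr.cons (nat_lit 1) (nat_lit 0) (Step.D (nat_lit 8902) (Step.F (nat_lit 11789) Step.done)) (Scr.cons (nat_lit 12) (nat_lit 1) (Step.L (Step.L (Step.L (Step.L (Step.D (nat_lit 10365) Step.done))))) (Scr.cons (nat_lit 12) (nat_lit 1) (Step.L (Step.D (nat_lit 10365) (Step.F (nat_lit 11791) (Step.L (Step.L Step.done))))) (Scr.cons (nat_lit 11) (nat_lit 0) (Step.U (nat_lit 8837) (Step.L (Step.D (nat_lit 5727) (Step.D (nat_lit 8836) (Step.D (nat_lit 11507) Step.done))))) (Scr.cons (nat_lit 12) (nat_lit 1) (Step.L (Step.L (Step.L (Step.L (Step.D (nat_lit 10369) Step.done))))) (Scr.cons (nat_lit 12) (nat_lit 1) (Step.L (Step.L (Step.L (Step.L (Step.D (nat_lit 5016) Step.done))))) (Scr.cons (nat_lit 13)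 (nat_lit 0) (Step.U (nat_lit 10370) (Step.F (nat_lit 5371) (Step.U (nat_lit 4387) (Step.L (Step.L (Step.L (Step.L (Step.L (Step.L (Step.D (nat_lit 10369) (Step.D (nat_lit 11912) Step.done))))))))))) (Scr.cons (nat_lit 7) (nat_lit 2) (Step.U (nat_lit 11508) (Step.U (nat_lit 8840) (Step.U (nat_lit 5729) (Step.L (Step.B (nat_lit 6329) (Step.U (nat_lit 7188) (Step.U (nat_lit 4287) (Step.L (Step.L (Step.L (Step.L (Step.L (Step.L (Step.L (Step.B (nat_lit 11795) (Step.D (nat_lit 8032) (Step.B (nat_lit 5377) (Step.B (nat_lit 11796) (Step.U (nat_lit 11912) (Step.D (nat_lit 11913) Step.done)))))))))))))))))))) (Scr.cons (nat_lit 12) (nat_lit 1) (Step.F (nat_lit 6338) (Step.D (nat_lit 8841) (Step.F (nat_lit 6327) (Step.B (nat_lit 6338) (Step.D (nat_lit 11508) Step.done))))) (Scr.cons (nat_lit 7) (nat_lit 3) (Step.B (nat_lit 11794) (Step.D (nat_lit 11913) (Step.F (nat_lit 11797) (Step.F (nat_lit 11798) (Step.U (nat_lit 8840) (Step.U (nat_lit 5729) (Step.L (Step.L (Step.L (Step.L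 (Step.L (Step.L (Step.L (Step.L (Step.L (Step.L (Step.L (Step.L (Step.L (Step.D (nat_lit 8837) (Step.B (nat_lit 11793) Step.done))))))))))))))))))))) (Scr.cons (nat_lit 1) (nat_lit 1) (Step.B (nat_lit 11793) (Step.F (nat_lit 11799) (Step.L Step.done))) (Scr.cons (nat_lit 1) (nat_lit 1) (Step.D (nat_lit 8837) (Step.B (nat_lit 11800) (Step.D (nat_lit 7301) Step.done))) (Scr.cons (nat_lit 1) (nat_lit 1) (Step.D (nat_lit 7301) (Step.F (nat_lit 11801) Step.done)) Scr.nil))))))))))))))))))))))))))))))))))))))))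
noncomputable def s295 : Scr := (Scr.cons (nat_lit 12) (nat_lit 1) (Step.L (Step.L (Step.L (Step.L (Step.D (nat_lit 10372) Step.done))))) (Scr.cons (nat_lit 12) (nat_lit 1) (Step.L (Step.D (nat_lit 10372) (Step.F (nat_lit 11803) (Step.L (Step.L Step.done))))) (Scr.cons (nat_lit 15) (nat_lit 1) (Step.U (nat_lit 9151) (Step.F (nat_lit 1065) (Step.L (Step.L (Step.L (Step.L (Step.L (Step.L (Step.L (Step.L (Step.L (Step.L (Step.L (Step.L (Step.L (Step.D (nat_lit 10391) Step.done)))))))))))))))) (Scr.cons (nat_lit 0) (nat_lit 1) (Step.D (nat_lit 10391) (Step.F (nat_lit 11805) Step.done)) (Scr.cons (nat_lit 12) (nat_lit 4) (Step.L (Step.L (Step.L (Step.L (Step.D (nat_lit 10391) Step.done))))) (Scr.cons (nat_lit 0) (nat_lit 0) (Step.B (nat_lit 11807) (Step.F (nat_lit 11805) Step.done)) (Scr.cons (nat_lit 12) (nat_lit 4) (Step.L (Step.B (nat_lit 11806) (Step.F (nat_lit 11808) (Step.L (Step.L Step.done))))) (Scr.cons (nat_lit 12) (nat_lit 1) (Step.U (nat_lit 7324) (Step.F (nat_lit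 681) (Step.D (nat_lit 4408) (Step.D (nat_lit 7324) (Step.D (nat_lit 10396) Step.done))))) (Scr.cons (nat_lit 12) (nat_lit 1) (Step.U (nat_lit 10397) (Step.D (nat_lit 10396) (Step.F (nat_lit 11810) (Step.D (nat_lit 10397) (Step.D (nat_lit 11917) Step.done))))) (Scr.cons (nat_lit 12) (nat_lit 4) (Step.U (nat_lit 10926) (Step.F (nat_lit 4253) (Step.D (nat_lit 7941) (Step.D (nat_lit 10926) (Step.F (nat_lit 5497) Step.done))))) (Scr.cons (nat_lit 1) (nat_lit 1) (Step.U (nat_lit 10926) (Step.B (nat_lit 4261) (Step.D (nat_lit 10786) Step.done))) (Scr.cons (nat_lit 0) (nat_lit 1) (Step.F (nat_lit 11812) (Step.B (nat_lit 11813) Step.done)) (Scr.cons (nat_lit 14) (nat_lit 2) (Step.F (nat_lit 11811) (Step.U (nat_lit 10397) (Step.U (nat_lit 7324) (Step.D (nat_lit 7323) (Step.F (nat_lit 5491) (Step.D (nat_lit 7325) (Step.D (nat_lit 10398) (Step.B (nat_lit 11814) (Step.F (nat_lit 4264) (Step.U (nat_lit 7778) (Step.U (nat_lit 4797) (Step.U (nat_lit 2606) (Step.L (Step.L (Step.L (Step.L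 (Step.L (Step.L (Step.L (Step.D (nat_lit 10789) Step.done)))))))))))))))))))) (Scr.cons (nat_lit 14) (nat_lit 3) (Step.L (Step.L (Step.L (Step.L (Step.L (Step.L (Step.L (Step.L (Step.L (Step.D (nat_lit 10789) (Step.F (nat_lit 11815) (Step.U (nat_lit 11917) (Step.U (nat_lit 10397) (Step.U (nat_lit 7324) (Step.F (nat_lit 681) (Step.L (Step.L (Step.L (Step.L (Step.L (Step.D (nat_lit 11916) Step.done))))))))))))))))))))) (Scr.cons (nat_lit 1) (nat_lit 0) (Step.D (nat_lit 11916) (Step.F (nat_lit 11816) (Step.D (nat_lit 10537) Step.done))) (Scr.cons (nat_lit 1) (nat_lit 0) (Step.D (nat_lit 10537) (Step.F (nat_lit 11817) Step.done)) (Scr.cons (nat_lit 12) (nat_lit 4) (Step.L (Step.L (Step.L (Step.L (Step.D (nat_lit 2359) Step.done))))) (Scr.cons (nat_lit 12) (nat_lit 4) (Step.U (nat_lit 4392) (Step.F (nat_lit 11819) (Step.D (nat_lit 2359) (Step.D (nat_lit 4392) (Step.D (nat_lit 7308) Step.done))))) (Scr.cons (nat_lit 15) (nat_lit 0) (Step.L (Step.L (Step.L (Step.L (Step.L (Step.L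 (Step.L (Step.L (Step.L (Step.L (Step.L (Step.D (nat_lit 2359) (Step.D (nat_lit 4392) (Step.D (nat_lit 7308) (Step.D (nat_lit 10380) Step.done))))))))))))))) (Scr.cons (nat_lit 12) (nat_lit 4) (Step.U (nat_lit 10380) (Step.F (nat_lit 11820) (Step.D (nat_lit 7308) (Step.D (nat_lit 10380) (Step.F (nat_lit 11821) Step.done))))) (Scr.cons (nat_lit 12) (nat_lit 1) (Step.L (Step.F (nat_lit 11822) (Step.F (nat_lit 11821) (Step.L (Step.L Step.done))))) (Scr.cons (nat_lit 12) (nat_lit 1) (Step.L (Step.L (Step.L (Step.L (Step.D (nat_lit 10420) Step.done))))) (Scr.cons (nat_lit 12) (nat_lit 1) (Step.L (Step.D (nat_lit 10420) (Step.F (nat_lit 11824) (Step.L (Step.L Step.done))))) (Scr.cons (nat_lit 12) (nat_lit 1) (Step.L (Step.L (Step.L (Step.L (Step.D (nat_lit 10421) Step.done))))) (Scr.cons (nat_lit 12) (nat_lit 1) (Step.L (Step.D (nat_lit 10421) (Step.F (nat_lit 11826) (Step.L (Step.L Step.done))))) (Scr.cons (nat_lit 12) (nat_lit 1) (Step.L (Step.L (Step.L (Step.L (Step.D (nat_lit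 10435) Step.done))))) (Scr.cons (nat_lit 12) (nat_lit 1) (Step.L (Step.D (nat_lit 10435) (Step.F (nat_lit 11828) (Step.L (Step.L Step.done))))) (Scr.cons (nat_lit 12) (nat_lit 1) (Step.L (Step.L (Step.L (Step.L (Step.D (nat_lit 11918) Step.done))))) (Scr.cons (nat_lit 12) (nat_lit 1) (Step.L (Step.D (nat_lit 11918) (Step.F (nat_lit 11830) (Step.L (Step.L Step.done))))) (Scr.cons (nat_lit 11) (nat_lit 0) (Step.L (Step.L (Step.L (Step.L (Step.D (nat_lit 4461) Step.done))))) (Scr.cons (nat_lit 11) (nat_lit 0) (Step.L (Step.L (Step.D (nat_lit 8) (Step.D (nat_lit 58) (Step.D (nat_lit 216) Step.done))))) (Scr.cons (nat_lit 12) (nat_lit 1) (Step.F (nat_lit 11833) (Step.L (Step.L (Step.B (nat_lit 11833) (Step.D (nat_lit 599) Step.done))))) (Scr.cons (nat_lit 12) (nat_lit 1) (Step.U (nat_lit 1435) (Step.F (nat_lit 11834) (Step.D (nat_lit 599) (Step.D (nat_lit 1435) (Step.D (nat_lit 2905) Step.done))))) (Scr.cons (nat_lit 12) (nat_lit 1) (Step.U (nat_lit 2906) (Step.D (nat_lit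 2905) (Step.F (nat_lit 11835) (Step.D (nat_lit 2906) (Step.D (nat_lit 5255) Step.done))))) (Scr.cons (nat_lit 12) (nat_lit 1) (Step.F (nat_lit 11832) (Step.L (Step.L (Step.B (nat_lit 11832) (Step.D (nat_lit 7391) Step.done))))) (Scr.cons (nat_lit 11) (nat_lit 0) (Step.L (Step.L (Step.L (Step.L (Step.D (nat_lit 4660) Step.done))))) (Scr.cons (nat_lit 14) (nat_lit 3) (Step.F (nat_lit 11838) (Step.L (Step.L (Step.L (Step.L (Step.L (Step.L (Step.L (Step.L (Step.L (Step.L (Step.L (Step.L (Step.L (Step.D (nat_lit 8) (Step.D (nat_lit 58) (Step.D (nat_lit 216) (Step.B (nat_lit 11834) (Step.D (nat_lit 1434) (Step.D (nat_lit 2904) Step.done)))))))))))))))))))) (Scr.cons (nat_lit 7) (nat_lit 5) (Step.U (nat_lit 5254) (Step.F (nat_lit 11839) (Step.U (nat_lit 4660) (Step.L (Step.L (Step.L (Step.L (Step.L (Step.L (Step.L (Step.L (Step.L (Step.L (Step.L (Step.L (Step.L (Step.L (Step.L (Step.B (nat_lit 11832) (Step.B (nat_lit 11837) (Step.D (nat_lit 10454) Step.done)))))))))))))))))))))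 (Scr.cons (nat_lit 11) (nat_lit 0) (Step.U (nat_lit 2906) (Step.U (nat_lit 1435) (Step.D (nat_lit 1434) (Step.D (nat_lit 2904) (Step.D (nat_lit 5254) Step.done))))) (Scr.cons (nat_lit 1) (nat_lit 1) (Step.D (nat_lit 10454) (Step.F (nat_lit 11840) (Step.F (nat_lit 11841) Step.done))) Scr.nil))))))))))))))))))))))))))))))))))))))))
noncomputable def s296 : Scr := (Scr.cons (nat_lit 0) (nat_lit 1) (Step.B (nat_lit 11837) (Step.B (nat_lit 11842) (Step.D (nat_lit 5255) Step.done))) (Scr.cons (nat_lit 0) (nat_lit 0) (Step.B (nat_lit 11836) (Step.F (nat_lit 11843) Step.done)) (Scr.cons (nat_lit 12) (nat_lit 4) (Step.U (nat_lit 1434) (Step.F (nat_lit 11834) (Step.D (nat_lit 599) (Step.D (nat_lit 1434) (Step.D (nat_lit 2903) Step.done))))) (Scr.cons (nat_lit 16) (nat_lit 3) (Step.L (Step.L (Step.L (Step.L (Step.L (Step.L (Step.L (Step.L (Step.L (Step.L (Step.L (Step.L (Step.L (Step.L (Step.L (Step.L (Step.L (Step.D (nat_lit 8) (Step.D (nat_lit 58) (Step.D (nat_lit 216) (Step.D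 (nat_lit 599) (Step.D (nat_lit 1434) (Step.D (nat_lit 2903) Step.done))))))))))))))))))))))) (Scr.cons (nat_lit 11) (nat_lit 0) (Step.F (nat_lit 11846) (Step.L (Step.L (Step.L (Step.L Step.done))))) (Scr.cons (nat_lit 7) (nat_lit 5) (Step.L (Step.L (Step.L (Step.L (Step.L (Step.L (Step.B (nat_lit 11832) (Step.F (nat_lit 11844) (Step.B (nat_lit 11841) (Step.U (nat_lit 5254) (Step.U (nat_lit 2904) (Step.B (nat_lit 11845) (Step.B (nat_lit 11847) (Step.L (Step.L (Step.L (Step.L (Step.L (Step.L (Step.L Step.done)))))))))))))))))))) (Scr.cons (nat_lit 12) (nat_lit 4) (Step.L (Step.L (Step.L (Step.L (Step.D (nat_lit 10464) Step.done))))) (Scr.cons (nat_lit 12) (nat_lit 4) (Step.L (Step.D (nat_lit 10464) (Step.F (nat_lit 11849) (Step.L (Step.L Step.done))))) (Scr.cons (nat_lit 8) (nat_lit 1) (Step.L (Step.L (Step.L (Step.L (Step.L (Step.B (nat_lit 144) (Step.U (nat_lit 1155) (Step.U (nat_lit 454) (Step.L (Step.L (Step.L (Step.L (Step.L (Step.L (Step.L Step.done)))))))))))))))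 (Scr.cons (nat_lit 12) (nat_lit 4) (Step.L (Step.L (Step.L (Step.L (Step.D (nat_lit 8470) Step.done))))) (Scr.cons (nat_lit 12) (nat_lit 1) (Step.L (Step.L (Step.L (Step.L (Step.D (nat_lit 9654) Step.done))))) (Scr.cons (nat_lit 11) (nat_lit 0) (Step.U (nat_lit 10500) (Step.U (nat_lit 7448) (Step.D (nat_lit 7447) (Step.D (nat_lit 10499) (Step.D (nat_lit 11921) Step.done))))) (Scr.cons (nat_lit 12) (nat_lit 4) (Step.U (nat_lit 9653) (Step.L (Step.L (Step.D (nat_lit 9653) (Step.D (nat_lit 11802) Step.done))))) (Scr.cons (nat_lit 12) (nat_lit 1) (Step.L (Step.L (Step.L (Step.L (Step.D (nat_lit 4511) Step.done))))) (Scr.cons (nat_lit 8) (nat_lit 1) (Step.U (nat_lit 4561) (Step.U (nat_lit 2451) (Step.L (Step.L (Step.L (Step.L (Step.L (Step.L (Step.L (Step.L (Step.L (Step.L (Step.L (Step.B (nat_lit 11856) (Step.D (nat_lit 7448) Step.done))))))))))))))) (Scr.cons (nat_lit 12) (nat_lit 0) (Step.B (nat_lit 11857) (Step.U (nat_lit 7448) (Step.F (nat_lit 11856) (Step.D (nat_lit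 4511) (Step.D (nat_lit 7448) Step.done))))) (Scr.cons (nat_lit 11) (nat_lit 0) (Step.U (nat_lit 7519) (Step.U (nat_lit 4562) (Step.D (nat_lit 4561) (Step.D (nat_lit 7517) (Step.D (nat_lit 10568) Step.done))))) (Scr.cons (nat_lit 12) (nat_lit 1) (Step.U (nat_lit 4562) (Step.F (nat_lit 345) (Step.D (nat_lit 2451) (Step.D (nat_lit 4562) (Step.D (nat_lit 7518) Step.done))))) (Scr.cons (nat_lit 13) (nat_lit 0) (Step.U (nat_lit 7520) (Step.L (Step.L (Step.L (Step.L (Step.L (Step.L (Step.B (nat_lit 345) (Step.D (nat_lit 4562) (Step.D (nat_lit 7518) (Step.D (nat_lit 10569) Step.done))))))))))) (Scr.cons (nat_lit 11) (nat_lit 0) (Step.L (Step.L (Step.L (Step.L (Step.D (nat_lit 5196) Step.done))))) (Scr.cons (nat_lit 12) (nat_lit 1) (Step.F (nat_lit 11862) (Step.L (Step.L (Step.B (nat_lit 11862) (Step.D (nat_lit 8215) Step.done))))) (Scr.cons (nat_lit 0) (nat_lit 0) (Step.B (nat_lit 11863) (Step.F (nat_lit 7317) Step.done)) (Scr.cons (nat_lit 1) (nat_lit 1) (Step.U (nat_lit 4961)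 (Step.B (nat_lit 8410) (Step.L Step.done))) (Scr.cons (nat_lit 1) (nat_lit 1) (Step.B (nat_lit 859) (Step.B (nat_lit 11865) (Step.L Step.done))) (Scr.cons (nat_lit 0) (nat_lit 1) (Step.B (nat_lit 6987) (Step.B (nat_lit 11866) (Step.D (nat_lit 3152) Step.done))) (Scr.cons (nat_lit 1) (nat_lit 1) (Step.U (nat_lit 5590) (Step.F (nat_lit 11867) (Step.D (nat_lit 5196) Step.done))) (Scr.cons (nat_lit 0) (nat_lit 1) (Step.U (nat_lit 8683) (Step.B (nat_lit 11868) (Step.B (nat_lit 7318) Step.done))) (Scr.cons (nat_lit 1) (nat_lit 1) (Step.U (nat_lit 11446) (Step.B (nat_lit 11869) (Step.F (nat_lit 854) Step.done))) (Scr.cons (nat_lit 12) (nat_lit 1) (Step.L (Step.D (nat_lit 1582) (Step.F (nat_lit 3915) (Step.L (Step.D (nat_lit 3152) Step.done))))) (Scr.cons (nat_lit 12) (nat_lit 1) (Step.L (Step.D (nat_lit 3152) (Step.F (nat_lit 11871) (Step.L (Step.D (nat_lit 5587) Step.done))))) (Scr.cons (nat_lit 12) (nat_lit 1) (Step.U (nat_lit 8681) (Step.F (nat_lit 11872) (Step.D (nat_lit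 5587) (Step.D (nat_lit 8681) (Step.D (nat_lit 11445) Step.done))))) (Scr.cons (nat_lit 16) (nat_lit 5) (Step.F (nat_lit 11873) (Step.U (nat_lit 8681) (Step.F (nat_lit 11872) (Step.L (Step.L (Step.L (Step.L (Step.L (Step.L (Step.L (Step.L (Step.L (Step.L (Step.L (Step.L (Step.L (Step.L (Step.L (Step.L (Step.L (Step.L (Step.D (nat_lit 5962) (Step.D (nat_lit 9126) Step.done))))))))))))))))))))))) (Scr.cons (nat_lit 12) (nat_lit 1) (Step.F (nat_lit 11874) (Step.F (nat_lit 11873) (Step.D (nat_lit 11445) (Step.B (nat_lit 11874) (Step.D (nat_lit 11629) Step.done))))) (Scr.cons (nat_lit 11) (nat_lit 0) (Step.U (nat_lit 9127) (Step.L (Step.D (nat_lit 5962) (Step.D (nat_lit 9126) (Step.F (nat_lit 11874) Step.done))))) (Scr.cons (nat_lit 16) (nat_lit 1) (Step.F (nat_lit 11875) (Step.F (nat_lit 11874) (Step.F (nat_lit 11876) (Step.U (nat_lit 9127) (Step.L (Step.L (Step.L (Step.L (Step.L (Step.L (Step.L (Step.L (Step.L (Step.L (Step.L (Step.L (Step.L (Step.L (Step.L (Step.L (Step.D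 (nat_lit 4937) (Step.D (nat_lit 7949) (Step.D (nat_lit 10934) Step.done))))))))))))))))))))))) (Scr.cons (nat_lit 12) (nat_lit 4) (Step.U (nat_lit 4937) (Step.L (Step.L (Step.D (nat_lit 4937) (Step.D (nat_lit 7948) Step.done))))) (Scr.cons (nat_lit 8) (nat_lit 1) (Step.U (nat_lit 11446) (Step.U (nat_lit 8683) (Step.U (nat_lit 5590) (Step.U (nat_lit 3152) (Step.L (Step.B (nat_lit 11872) (Step.D (nat_lit 8681) (Step.B (nat_lit 11873) (Step.B (nat_lit 11874) (Step.B (nat_lit 11875) (Step.B (nat_lit 11877) (Step.U (nat_lit 10934) (Step.U (nat_lit 7949) (Step.B (nat_lit 11878) (Step.D (nat_lit 10933) Step.done))))))))))))))) (Scr.cons (nat_lit 0) (nat_lit 0) (Step.F (nat_lit 11870) (Step.B (nat_lit 11879) (Step.F (nat_lit 8371) (Step.B (nat_lit 8373) (Step.L Step.done))))) (Scr.cons (nat_lit 1) (nat_lit 0) (Step.F (nat_lit 854) (Step.B (nat_lit 11880) (Step.L Step.done))) (Scr.cons (nat_lit 0) (nat_lit 1) (Step.B (nat_lit 11864) (Step.B (nat_lit 11881) (Step.L Step.done)))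 Scr.nil))))))))))))))))))))))))))))))))))))))))
noncomputable def s297 : Scr := (Scr.cons (nat_lit 1) (nat_lit 1) (Step.B (nat_lit 11862) (Step.B (nat_lit 11882) (Step.D (nat_lit 7520) Step.done))) (Scr.cons (nat_lit 0) (nat_lit 1) (Step.F (nat_lit 11861) (Step.F (nat_lit 11883) (Step.L Step.done))) (Scr.cons (nat_lit 1) (nat_lit 0) (Step.D (nat_lit 10569) (Step.B (nat_lit 11884) (Step.L Step.done))) (Scr.cons (nat_lit 13) (nat_lit 0) (Step.L (Step.L (Step.L (Step.L (Step.L (Step.L (Step.L (Step.L (Step.L (Step.D (nat_lit 6081) (Step.D (nat_lit 9234) Step.done))))))))))) (Scr.cons (nat_lit 0) (nat_lit 1) (Step.B (nat_lit 11860) (Step.B (nat_lit 11885) (Step.B (nat_lit 11886) Step.done))) (Scr.cons (nat_lit 1) (nat_lit 0) (Step.D (nat_lit 9234) (Step.F (nat_lit 11887) (Step.D (nat_lit 7519) Step.done))) (Scr.cons (nat_lit 1) (nat_lit 0) (Step.F (nat_lit 11859) (Step.F (nat_lit 11888) (Step.D (nat_lit 9235) Step.done))) (Scr.cons (nat_lit 1) (nat_lit 0) (Step.D (nat_lit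 10568) (Step.B (nat_lit 11889) (Step.F (nat_lit 7006) Step.done))) (Scr.cons (nat_lit 1) (nat_lit 0) (Step.F (nat_lit 7006) (Step.F (nat_lit 11890) Step.done)) (Scr.cons (nat_lit 14) (nat_lit 0) (Step.F (nat_lit 11854) (Step.U (nat_lit 10500) (Step.F (nat_lit 11858) (Step.D (nat_lit 7517) (Step.F (nat_lit 11891) (Step.U (nat_lit 9235) (Step.U (nat_lit 6081) (Step.L (Step.L (Step.L (Step.L (Step.L (Step.L (Step.L (Step.L (Step.L (Step.L (Step.L (Step.D (nat_lit 9653) (Step.D (nat_lit 11803) Step.done)))))))))))))))))))) (Scr.cons (nat_lit 5) (nat_lit 2) (Step.U (nat_lit 11803) (Step.B (nat_lit 11855) (Step.U (nat_lit 11802) (Step.D (nat_lit 11803) (Step.F (nat_lit 11892) Step.done))))) (Scr.cons (nat_lit 7) (nat_lit 5) (Step.L (Step.L (Step.L (Step.L (Step.L (Step.L (Step.L (Step.L (Step.D (nat_lit 4511) (Step.D (nat_lit 7448) (Step.D (nat_lit 10500) (Step.B (nat_lit 11854) (Step.F (nat_lit 11893) (Step.U (nat_lit 11803) (Step.U (nat_lit 9653) (Step.L (Step.L (Step.L (Step.L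 (Step.B (nat_lit 11853) (Step.D (nat_lit 11804) Step.done))))))))))))))))))))) (Scr.cons (nat_lit 1) (nat_lit 1) (Step.D (nat_lit 11804) (Step.F (nat_lit 11894) (Step.L Step.done))) (Scr.cons (nat_lit 0) (nat_lit 1) (Step.B (nat_lit 11853) (Step.B (nat_lit 11895) (Step.D (nat_lit 8470) Step.done))) (Scr.cons (nat_lit 0) (nat_lit 0) (Step.B (nat_lit 11852) (Step.F (nat_lit 11896) Step.done)) (Scr.cons (nat_lit 12) (nat_lit 1) (Step.L (Step.L (Step.L (Step.L (Step.D (nat_lit 4846) Step.done))))) (Scr.cons (nat_lit 12) (nat_lit 1) (Step.L (Step.L (Step.L (Step.L (Step.D (nat_lit 7314) Step.done))))) (Scr.cons (nat_lit 12) (nat_lit 1) (Step.L (Step.D (nat_lit 7314) (Step.F (nat_lit 11899) (Step.L (Step.D (nat_lit 10384) Step.done))))) (Scr.cons (nat_lit 14) (nat_lit 1) (Step.U (nat_lit 10837) (Step.U (nat_lit 7838) (Step.F (nat_lit 11898) (Step.L (Step.L (Step.L (Step.L (Step.L (Step.L (Step.L (Step.L (Step.L (Step.L (Step.L (Step.L (Step.L (Step.L (Step.L (Step.L (Step.L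 (Step.B (nat_lit 11900) Step.done))))))))))))))))))))) (Scr.cons (nat_lit 1) (nat_lit 0) (Step.D (nat_lit 10837) (Step.B (nat_lit 11901) Step.done)) (Scr.cons (nat_lit 16) (nat_lit 4) (Step.U (nat_lit 1161) (Step.L (Step.L (Step.L (Step.L (Step.L (Step.L (Step.L (Step.L (Step.L (Step.L (Step.L (Step.L (Step.L (Step.L (Step.L (Step.L (Step.L (Step.L (Step.L (Step.L (Step.D (nat_lit 1133) (Step.D (nat_lit 2367) Step.done))))))))))))))))))))))) (Scr.cons (nat_lit 11) (nat_lit 0) (Step.L (Step.L (Step.L (Step.L (Step.D (nat_lit 4491) Step.done))))) (Scr.cons (nat_lit 12) (nat_lit 1) (Step.F (nat_lit 11904) (Step.L (Step.L (Step.B (nat_lit 11904) (Step.D (nat_lit 7427) Step.done))))) (Scr.cons (nat_lit 14) (nat_lit 2) (Step.F (nat_lit 11900) (Step.L (Step.L (Step.L (Step.L (Step.L (Step.L (Step.D (nat_lit 1133) (Step.D (nat_lit 2367) (Step.F (nat_lit 11903) (Step.U (nat_lit 1161) (Step.L (Step.L (Step.L (Step.L (Step.L (Step.L (Step.D (nat_lit 4491) (Step.B (nat_lit 11905)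 (Step.D (nat_lit 10482) Step.done)))))))))))))))))))) (Scr.cons (nat_lit 11) (nat_lit 0) (Step.L (Step.L (Step.L (Step.L (Step.D (nat_lit 7463) Step.done))))) (Scr.cons (nat_lit 16) (nat_lit 2) (Step.F (nat_lit 11907) (Step.L (Step.L (Step.L (Step.L (Step.L (Step.L (Step.L (Step.L (Step.L (Step.L (Step.L (Step.L (Step.L (Step.L (Step.L (Step.L (Step.L (Step.L (Step.L (Step.D (nat_lit 4491) (Step.D (nat_lit 7427) (Step.D (nat_lit 10482) Step.done))))))))))))))))))))))) (Scr.cons (nat_lit 12) (nat_lit 4) (Step.U (nat_lit 10482) (Step.F (nat_lit 11905) (Step.D (nat_lit 7427) (Step.D (nat_lit 10482) (Step.F (nat_lit 11908) Step.done))))) (Scr.cons (nat_lit 7) (nat_lit 5) (Step.L (Step.L (Step.L (Step.L (Step.L (Step.L (Step.L (Step.D (nat_lit 4846) (Step.D (nat_lit 7838) (Step.B (nat_lit 11902) (Step.B (nat_lit 11906) (Step.B (nat_lit 11909) (Step.U (nat_lit 7463) (Step.L (Step.L (Step.L (Step.L (Step.L (Step.L (Step.L Step.done)))))))))))))))))))) (Scr.cons (nat_lit 12)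 (nat_lit 1) (Step.L (Step.L (Step.L (Step.L (Step.D (nat_lit 10514) Step.done))))) (Scr.cons (nat_lit 12) (nat_lit 1) (Step.L (Step.D (nat_lit 10514) (Step.F (nat_lit 11911) (Step.L (Step.L Step.done))))) (Scr.cons (nat_lit 12) (nat_lit 1) (Step.L (Step.L (Step.L (Step.L (Step.D (nat_lit 11849) Step.done))))) (Scr.cons (nat_lit 4) (nat_lit 0) (Step.U (nat_lit 9819) (Step.L (Step.L (Step.L (Step.L (Step.D (nat_lit 10109) Step.done)))))) (Scr.cons (nat_lit 1) (nat_lit 0) (Step.D (nat_lit 10109) (Step.F (nat_lit 11914) Step.done)) (Scr.cons (nat_lit 11) (nat_lit 0) (Step.L (Step.L (Step.L (Step.L (Step.D (nat_lit 11925) Step.done))))) (Scr.cons (nat_lit 14) (nat_lit 0) (Step.U (nat_lit 11849) (Step.L (Step.L (Step.L (Step.L (Step.L (Step.L (Step.L (Step.L (Step.L (Step.L (Step.D (nat_lit 9819) (Step.F (nat_lit 11915) (Step.L (Step.L (Step.L (Step.L (Step.L (Step.L (Step.D (nat_lit 11925) (Step.F (nat_lit 11916) Step.done))))))))))))))))))))) (Scr.cons (nat_lit 0) (nat_lit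 0) (Step.B (nat_lit 11913) (Step.B (nat_lit 11917) Step.done)) (Scr.cons (nat_lit 13) (nat_lit 3) (Step.L (Step.L (Step.L (Step.L (Step.B (nat_lit 11900) (Step.B (nat_lit 11906) (Step.F (nat_lit 11908) (Step.F (nat_lit 11907) (Step.L (Step.L (Step.L Step.done))))))))))) (Scr.cons (nat_lit 12) (nat_lit 1) (Step.U (nat_lit 2425) (Step.L (Step.L (Step.D (nat_lit 2425) (Step.D (nat_lit 4519) Step.done))))) (Scr.cons (nat_lit 12) (nat_lit 4) (Step.U (nat_lit 7468) (Step.F (nat_lit 11920) (Step.D (nat_lit 4519) (Step.D (nat_lit 7468) (Step.D (nat_lit 10519) Step.done))))) (Scr.cons (nat_lit 12) (nat_lit 4) (Step.U (nat_lit 10373) (Step.L (Step.L (Step.D (nat_lit 10373) (Step.D (nat_lit 11914) Step.done))))) Scr.nil))))))))))))))))))))))))))))))))))))))))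
noncomputable def s298 : Scr := (Scr.cons (nat_lit 11) (nat_lit 0) (Step.U (nat_lit 8824) (Step.U (nat_lit 5715) (Step.D (nat_lit 5714) (Step.D (nat_lit 8823) (Step.D (nat_lit 11506) Step.done))))) (Scr.cons (nat_lit 14) (nat_lit 3) (Step.F (nat_lit 11923) (Step.U (nat_lit 8824) (Step.U (nat_lit 5715) (Step.U (nat_lit 3221) (Step.U (nat_lit 1621) (Step.L (Step.L (Step.L (Step.L (Step.L (Step.L (Step.L (Step.L (Step.L (Step.L (Step.L (Step.L (Step.L (Step.D (nat_lit 10373) (Step.D (nat_lit 11915) Step.done)))))))))))))))))))) (Scr.cons (nat_lit 12) (nat_lit 4) (Step.U (nat_lit 11915) (Step.D (nat_lit 11914) (Step.F (nat_lit 11922) (Step.D (nat_lit 11915) (Step.F (nat_lit 11924) Step.done))))) (Scr.cons (nat_lit 12) (nat_lit 1) (Step.U (nat_lit 1621) (Step.L (Step.L (Step.D (nat_lit 1621) (Step.D (nat_lit 3221) Step.done))))) (Scr.cons (nat_lit 12) (nat_lit 4) (Step.U (nat_lit 5714) (Step.F (nat_lit 11926) (Step.D (nat_lit 3221) (Step.D (nat_lit 5714) (Step.D (nat_lit 8822)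 Step.done))))) (Scr.cons (nat_lit 12) (nat_lit 4) (Step.U (nat_lit 8823) (Step.D (nat_lit 8822) (Step.F (nat_lit 11927) (Step.D (nat_lit 8823) (Step.D (nat_lit 11505) Step.done))))) (Scr.cons (nat_lit 12) (nat_lit 1) (Step.L (Step.L (Step.L (Step.L (Step.D (nat_lit 11466) Step.done))))) (Scr.cons (nat_lit 12) (nat_lit 1) (Step.U (nat_lit 7224) (Step.L (Step.L (Step.D (nat_lit 7224) (Step.D (nat_lit 10307) Step.done))))) (Scr.cons (nat_lit 12) (nat_lit 4) (Step.U (nat_lit 4606) (Step.F (nat_lit 9029) (Step.D (nat_lit 2489) (Step.D (nat_lit 4606) (Step.D (nat_lit 7567) Step.done))))) (Scr.cons (nat_lit 0) (nat_lit 1) (Step.B (nat_lit 11931) (Step.B (nat_lit 9064) (Step.D (nat_lit 10307) Step.done))) (Scr.cons (nat_lit 0) (nat_lit 0) (Step.B (nat_lit 11930) (Step.F (nat_lit 11932) Step.done)) (Scr.cons (nat_lit 11) (nat_lit 0) (Step.U (nat_lit 7569) (Step.U (nat_lit 4607) (Step.D (nat_lit 4606) (Step.D (nat_lit 7568) (Step.D (nat_lit 10603) Step.done))))) (Scr.cons (nat_lit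 1) (nat_lit 0) (Step.F (nat_lit 11934) (Step.F (nat_lit 9061) (Step.D (nat_lit 10262) Step.done))) (Scr.cons (nat_lit 1) (nat_lit 1) (Step.D (nat_lit 10603) (Step.B (nat_lit 11935) Step.done)) (Scr.cons (nat_lit 12) (nat_lit 1) (Step.F (nat_lit 4198) (Step.D (nat_lit 1089) (Step.F (nat_lit 4188) (Step.B (nat_lit 4198) (Step.D (nat_lit 2267) Step.done))))) (Scr.cons (nat_lit 12) (nat_lit 4) (Step.U (nat_lit 4267) (Step.F (nat_lit 11937) (Step.D (nat_lit 2267) (Step.D (nat_lit 4267) (Step.D (nat_lit 7165) Step.done))))) (Scr.cons (nat_lit 13) (nat_lit 3) (Step.U (nat_lit 10284) (Step.U (nat_lit 7197) (Step.F (nat_lit 4189) (Step.U (nat_lit 2289) (Step.U (nat_lit 1089) (Step.B (nat_lit 4198) (Step.D (nat_lit 2267) (Step.D (nat_lit 4267) (Step.B (nat_lit 11938) (Step.D (nat_lit 10262) (Step.D (nat_lit 11902) Step.done))))))))))) (Scr.cons (nat_lit 11) (nat_lit 0) (Step.L (Step.L (Step.L (Step.D (nat_lit 4517) (Step.D (nat_lit 7461) Step.done))))) (Scr.cons (nat_lit 12) (nat_lit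 1) (Step.L (Step.L (Step.L (Step.L (Step.D (nat_lit 7462) Step.done))))) (Scr.cons (nat_lit 12) (nat_lit 1) (Step.F (nat_lit 11940) (Step.D (nat_lit 7462) (Step.F (nat_lit 11941) (Step.B (nat_lit 11940) (Step.D (nat_lit 10515) Step.done))))) (Scr.cons (nat_lit 0) (nat_lit 0) (Step.B (nat_lit 5497) (Step.B (nat_lit 11813) Step.done)) (Scr.cons (nat_lit 0) (nat_lit 1) (Step.U (nat_lit 10783) (Step.B (nat_lit 10152) (Step.D (nat_lit 2205) Step.done))) (Scr.cons (nat_lit 1) (nat_lit 1) (Step.F (nat_lit 4269) (Step.B (nat_lit 11944) (Step.D (nat_lit 4170) Step.done))) (Scr.cons (nat_lit 0) (nat_lit 1) (Step.B (nat_lit 4190) (Step.B (nat_lit 11945) (Step.D (nat_lit 7044) Step.done))) (Scr.cons (nat_lit 1) (nat_lit 0) (Step.F (nat_lit 4268) (Step.B (nat_lit 11946) (Step.D (nat_lit 10173) Step.done))) (Scr.cons (nat_lit 1) (nat_lit 0) (Step.D (nat_lit 10173) (Step.F (nat_lit 11947) Step.done)) (Scr.cons (nat_lit 1) (nat_lit 1) (Step.D (nat_lit 7198) (Step.B (nat_lit 11946) (Step.D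 (nat_lit 10172) Step.done))) (Scr.cons (nat_lit 1) (nat_lit 1) (Step.D (nat_lit 10172) (Step.F (nat_lit 11949) Step.done)) (Scr.cons (nat_lit 12) (nat_lit 4) (Step.U (nat_lit 3238) (Step.F (nat_lit 5503) (Step.D (nat_lit 1629) (Step.D (nat_lit 3238) (Step.D (nat_lit 5742) Step.done))))) (Scr.cons (nat_lit 13) (nat_lit 2) (Step.U (nat_lit 7498) (Step.U (nat_lit 4548) (Step.L (Step.L (Step.L (Step.L (Step.D (nat_lit 692) (Step.D (nat_lit 1629) (Step.D (nat_lit 3238) (Step.B (nat_lit 11951) (Step.D (nat_lit 8858) Step.done))))))))))) (Scr.cons (nat_lit 12) (nat_lit 4) (Step.L (Step.L (Step.L (Step.L (Step.D (nat_lit 4548) Step.done))))) (Scr.cons (nat_lit 6) (nat_lit 1) (Step.U (nat_lit 7498) (Step.F (nat_lit 11953) (Step.L (Step.L (Step.L (Step.L (Step.D (nat_lit 692) (Step.B (nat_lit 5503) (Step.D (nat_lit 3238) (Step.D (nat_lit 5742) (Step.D (nat_lit 8858) Step.done))))))))))) (Scr.cons (nat_lit 12) (nat_lit 1) (Step.B (nat_lit 11517) (Step.F (nat_lit 11952) (Step.B (nat_lit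 11954) (Step.F (nat_lit 11517) (Step.D (nat_lit 10284) Step.done))))) (Scr.cons (nat_lit 14) (nat_lit 2) (Step.F (nat_lit 11942) (Step.F (nat_lit 11940) (Step.L (Step.L (Step.L (Step.L (Step.F (nat_lit 5493) (Step.D (nat_lit 2371) (Step.D (nat_lit 4409) (Step.D (nat_lit 7325) (Step.D (nat_lit 10398) (Step.B (nat_lit 11943) (Step.F (nat_lit 4264) (Step.U (nat_lit 7778) (Step.D (nat_lit 7777) (Step.F (nat_lit 11948) (Step.B (nat_lit 11950) (Step.D (nat_lit 7197) (Step.B (nat_lit 11955) (Step.D (nat_lit 11904) Step.done)))))))))))))))))))) (Scr.cons (nat_lit 12) (nat_lit 4) (Step.L (Step.L (Step.L (Step.L (Step.D (nat_lit 10518) Step.done))))) (Scr.cons (nat_lit 14) (nat_lit 2) (Step.F (nat_lit 11929) (Step.L (Step.F (nat_lit 9025) (Step.F (nat_lit 9066) (Step.B (nat_lit 11933) (Step.D (nat_lit 7568) (Step.B (nat_lit 11936) (Step.D (nat_lit 11902) (Step.F (nat_lit 11939) (Step.D (nat_lit 11904) (Step.F (nat_lit 11956) (Step.U (nat_lit 10515) (Step.F (nat_lit 11940) (Step.L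 (Step.L (Step.L (Step.L (Step.L (Step.B (nat_lit 11957) (Step.D (nat_lit 11927) Step.done)))))))))))))))))))) (Scr.cons (nat_lit 13) (nat_lit 3) (Step.L (Step.L (Step.L (Step.L (Step.L (Step.L (Step.L (Step.L (Step.L (Step.L (Step.D (nat_lit 11466) Step.done))))))))))) (Scr.cons (nat_lit 11) (nat_lit 0) (Step.U (nat_lit 1621) (Step.L (Step.L (Step.L (Step.D (nat_lit 3220) Step.done))))) (Scr.cons (nat_lit 14) (nat_lit 4) (Step.U (nat_lit 2425) (Step.L (Step.L (Step.L (Step.L (Step.L (Step.D (nat_lit 10518) (Step.D (nat_lit 11927) (Step.F (nat_lit 11958) (Step.F (nat_lit 11959) (Step.L (Step.L (Step.L (Step.L (Step.L (Step.D (nat_lit 3220) (Step.F (nat_lit 11960) (Step.B (nat_lit 11926) (Step.D (nat_lit 5714) (Step.D (nat_lit 8823) (Step.D (nat_lit 11505) Step.done))))))))))))))))))))) (Scr.cons (nat_lit 0) (nat_lit 1) (Step.B (nat_lit 11928) (Step.F (nat_lit 11961) (Step.D (nat_lit 4519) Step.done))) Scr.nil))))))))))))))))))))))))))))))))))))))))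
noncomputable def s299 : Scr := (Scr.cons (nat_lit 1) (nat_lit 1) (Step.U (nat_lit 11506) (Step.B (nat_lit 11962) (Step.D (nat_lit 7468) Step.done))) (Scr.cons (nat_lit 0) (nat_lit 1) (Step.B (nat_lit 11925) (Step.B (nat_lit 11963) (Step.D (nat_lit 10519) Step.done))) (Scr.cons (nat_lit 1) (nat_lit 1) (Step.D (nat_lit 11915) (Step.B (nat_lit 11964) Step.done)) (Scr.cons (nat_lit 13) (nat_lit 3) (Step.U (nat_lit 11926) (Step.L (Step.L (Step.L (Step.L (Step.D (nat_lit 2425) (Step.D (nat_lit 4519) (Step.D (nat_lit 7468) (Step.B (nat_lit 11921) (Step.F (nat_lit 11965) (Step.D (nat_lit 11914) Step.done))))))))))) (Scr.cons (nat_lit 12) (nat_lit 4) (Step.L (Step.L (Step.L (Step.L (Step.D (nat_lit 11926) Step.done))))) (Scr.cons (nat_lit 15) (nat_lit 0) (Step.L (Step.L (Step.L (Step.L (Step.L (Step.L (Step.L (Step.L (Step.L (Step.L (Step.D (nat_lit 10373) (Step.D (nat_lit 11914) (Step.F (nat_lit 11966) (Step.F (nat_lit 11967) (Step.L Step.done))))))))))))))) (Scr.cons (nat_lit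 11) (nat_lit 0) (Step.U (nat_lit 1723) (Step.U (nat_lit 754) (Step.L (Step.L (Step.D (nat_lit 3403) Step.done))))) (Scr.cons (nat_lit 12) (nat_lit 1) (Step.U (nat_lit 754) (Step.L (Step.L (Step.D (nat_lit 754) (Step.D (nat_lit 1722) Step.done))))) (Scr.cons (nat_lit 12) (nat_lit 1) (Step.U (nat_lit 1723) (Step.D (nat_lit 1722) (Step.F (nat_lit 11970) (Step.D (nat_lit 1723) (Step.D (nat_lit 3404) Step.done))))) (Scr.cons (nat_lit 12) (nat_lit 1) (Step.F (nat_lit 11969) (Step.D (nat_lit 3404) (Step.F (nat_lit 11971) (Step.B (nat_lit 11969) (Step.D (nat_lit 6013) Step.done))))) (Scr.cons (nat_lit 12) (nat_lit 1) (Step.U (nat_lit 9167) (Step.F (nat_lit 11972) (Step.D (nat_lit 6013) (Step.D (nat_lit 9167) (Step.D (nat_lit 11637) Step.done))))) (Scr.cons (nat_lit 12) (nat_lit 1) (Step.L (Step.L (Step.L (Step.L (Step.D (nat_lit 1168) Step.done))))) (Scr.cons (nat_lit 12) (nat_lit 1) (Step.U (nat_lit 2429) (Step.F (nat_lit 11974) (Step.D (nat_lit 1168) (Step.D (nat_lit 2429)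 (Step.D (nat_lit 4525) Step.done))))) (Scr.cons (nat_lit 8) (nat_lit 1) (Step.U (nat_lit 4531) (Step.U (nat_lit 2434) (Step.L (Step.L (Step.L (Step.L (Step.L (Step.L (Step.L (Step.L (Step.L (Step.B (nat_lit 11974) (Step.D (nat_lit 2429) (Step.B (nat_lit 11975) (Step.D (nat_lit 7474) Step.done))))))))))))))) (Scr.cons (nat_lit 12) (nat_lit 4) (Step.L (Step.L (Step.L (Step.L (Step.D (nat_lit 755) Step.done))))) (Scr.cons (nat_lit 6) (nat_lit 1) (Step.U (nat_lit 1724) (Step.F (nat_lit 11977) (Step.L (Step.L (Step.L (Step.L (Step.L (Step.L (Step.L (Step.D (nat_lit 1721) (Step.D (nat_lit 3402) Step.done))))))))))) (Scr.cons (nat_lit 12) (nat_lit 4) (Step.L (Step.L (Step.L (Step.L (Step.D (nat_lit 1171) Step.done))))) (Scr.cons (nat_lit 12) (nat_lit 4) (Step.U (nat_lit 2435) (Step.F (nat_lit 11979) (Step.D (nat_lit 1171) (Step.D (nat_lit 2435) (Step.D (nat_lit 4532) Step.done))))) (Scr.cons (nat_lit 12) (nat_lit 4) (Step.U (nat_lit 4533) (Step.D (nat_lit 4532) (Step.F (nat_lit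 11980) (Step.D (nat_lit 4533) (Step.D (nat_lit 7478) Step.done))))) (Scr.cons (nat_lit 12) (nat_lit 4) (Step.U (nat_lit 4820) (Step.L (Step.L (Step.D (nat_lit 4820) (Step.D (nat_lit 7815) Step.done))))) (Scr.cons (nat_lit 11) (nat_lit 0) (Step.U (nat_lit 4535) (Step.U (nat_lit 2436) (Step.D (nat_lit 2435) (Step.D (nat_lit 4533) (Step.D (nat_lit 7479) Step.done))))) (Scr.cons (nat_lit 12) (nat_lit 1) (Step.U (nat_lit 2436) (Step.F (nat_lit 11979) (Step.D (nat_lit 1171) (Step.D (nat_lit 2436) (Step.D (nat_lit 4534) Step.done))))) (Scr.cons (nat_lit 12) (nat_lit 1) (Step.U (nat_lit 4535) (Step.D (nat_lit 4534) (Step.F (nat_lit 11984) (Step.D (nat_lit 4535) (Step.D (nat_lit 7480) Step.done))))) (Scr.cons (nat_lit 12) (nat_lit 1) (Step.F (nat_lit 11983) (Step.D (nat_lit 7480) (Step.F (nat_lit 11985) (Step.B (nat_lit 11983) (Step.D (nat_lit 10528) Step.done))))) (Scr.cons (nat_lit 11) (nat_lit 0) (Step.L (Step.L (Step.L (Step.D (nat_lit 2405) (Step.D (nat_lit 4480) Step.done)))))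 (Scr.cons (nat_lit 12) (nat_lit 1) (Step.F (nat_lit 11987) (Step.L (Step.L (Step.B (nat_lit 11987) (Step.D (nat_lit 7415) Step.done))))) (Scr.cons (nat_lit 7) (nat_lit 5) (Step.F (nat_lit 11986) (Step.U (nat_lit 7479) (Step.U (nat_lit 4533) (Step.U (nat_lit 2435) (Step.U (nat_lit 1171) (Step.L (Step.L (Step.L (Step.L (Step.L (Step.L (Step.L (Step.L (Step.L (Step.L (Step.L (Step.L (Step.B (nat_lit 11987) (Step.B (nat_lit 11988) (Step.D (nat_lit 10475) Step.done)))))))))))))))))))) (Scr.cons (nat_lit 1) (nat_lit 0) (Step.D (nat_lit 10817) (Step.F (nat_lit 4150) (Step.D (nat_lit 10475) Step.done))) (Scr.cons (nat_lit 1) (nat_lit 0) (Step.B (nat_lit 11989) (Step.F (nat_lit 11990) (Step.U (nat_lit 7816) Step.done))) (Scr.cons (nat_lit 0) (nat_lit 1) (Step.B (nat_lit 11986) (Step.B (nat_lit 11991) (Step.D (nat_lit 7815) Step.done))) (Scr.cons (nat_lit 0) (nat_lit 0) (Step.B (nat_lit 11982) (Step.F (nat_lit 11992) Step.done)) (Scr.cons (nat_lit 6) (nat_lit 3) (Step.U (nat_lit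 10527) (Step.U (nat_lit 7478) (Step.D (nat_lit 7479) (Step.F (nat_lit 11993) (Step.U (nat_lit 4820) (Step.L (Step.L (Step.L (Step.L (Step.L (Step.D (nat_lit 11368) Step.done))))))))))) (Scr.cons (nat_lit 12) (nat_lit 1) (Step.L (Step.L (Step.L (Step.L (Step.D (nat_lit 3193) Step.done))))) (Scr.cons (nat_lit 12) (nat_lit 4) (Step.U (nat_lit 5649) (Step.F (nat_lit 11995) (Step.D (nat_lit 3193) (Step.D (nat_lit 5649) (Step.D (nat_lit 8749) Step.done))))) (Scr.cons (nat_lit 11) (nat_lit 0) (Step.U (nat_lit 5660) (Step.L (Step.D (nat_lit 3197) (Step.D (nat_lit 5659) (Step.D (nat_lit 8763) Step.done))))) (Scr.cons (nat_lit 14) (nat_lit 3) (Step.F (nat_lit 11997) (Step.U (nat_lit 5660) (Step.L (Step.L (Step.L (Step.L (Step.L (Step.L (Step.L (Step.L (Step.L (Step.L (Step.L (Step.L (Step.L (Step.L (Step.L (Step.B (nat_lit 11995) (Step.D (nat_lit 5649) (Step.D (nat_lit 8750) Step.done)))))))))))))))))))) (Scr.cons (nat_lit 12) (nat_lit 4) (Step.U (nat_lit 8750) (Step.D (nat_lit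 8749) (Step.F (nat_lit 11996) (Step.D (nat_lit 8750) (Step.F (nat_lit 11998) Step.done))))) (Scr.cons (nat_lit 12) (nat_lit 4) (Step.U (nat_lit 5286) (Step.F (nat_lit 3946) (Step.D (nat_lit 2927) (Step.D (nat_lit 5286) (Step.D (nat_lit 8320) Step.done))))) (Scr.cons (nat_lit 11) (nat_lit 0) (Step.U (nat_lit 6015) (Step.U (nat_lit 3406) (Step.L (Step.D (nat_lit 6014) (Step.D (nat_lit 9168) Step.done))))) (Scr.cons (nat_lit 14) (nat_lit 3) (Step.F (nat_lit 12001) (Step.U (nat_lit 6015) (Step.U (nat_lit 3406) (Step.L (Step.L (Step.L (Step.L (Step.L (Step.L (Step.L (Step.L (Step.L (Step.L (Step.L (Step.L (Step.L (Step.L (Step.B (nat_lit 3946) (Step.D (nat_lit 5286) (Step.D (nat_lit 8321) Step.done)))))))))))))))))))) Scr.nil))))))))))))))))))))))))))))))))))))))))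
noncomputable def s300 : Scr := (Scr.cons (nat_lit 12) (nat_lit 4) (Step.U (nat_lit 8321) (Step.D (nat_lit 8320) (Step.F (nat_lit 12000) (Step.D (nat_lit 8321) (Step.F (nat_lit 12002) Step.done))))) (Scr.cons (nat_lit 0) (nat_lit 1) (Step.F (nat_lit 12003) (Step.F (nat_lit 3969) Step.done)) (Scr.cons (nat_lit 12) (nat_lit 1) (Step.L (Step.L (Step.L (Step.L (Step.D (nat_lit 6025) Step.done))))) (Scr.cons (nat_lit 9) (nat_lit 5) (Step.B (nat_lit 11999) (Step.U (nat_lit 8763) (Step.U (nat_lit 5659) (Step.U (nat_lit 3197) (Step.L (Step.L (Step.B (nat_lit 3962) (Step.B (nat_lit 3963) (Step.L (Step.L (Step.B (nat_lit 3965) (Step.D (nat_lit 8266) (Step.F (nat_lit 12004) (Step.U (nat_lit 9168) (Step.U (nat_lit 6014) (Step.L (Step.L (Step.L (Step.L (Step.L (Step.L (Step.L (Step.B (nat_lit 12005) (Step.D (nat_lit 9178) Step.done)))))))))))))))))))))))) (Scr.cons (nat_lit 1) (nat_lit 0) (Step.D (nat_lit 9178) (Step.F (nat_lit 12006) Step.done)) (Scr.cons (nat_lit 11) (nat_lit 0)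 (Step.U (nat_lit 8751) (Step.U (nat_lit 5650) (Step.D (nat_lit 5649) (Step.D (nat_lit 8750) (Step.F (nat_lit 12007) (Step.D (nat_lit 9177) Step.done)))))) (Scr.cons (nat_lit 1) (nat_lit 1) (Step.D (nat_lit 9177) (Step.F (nat_lit 12008) Step.done)) (Scr.cons (nat_lit 14) (nat_lit 6) (Step.L (Step.L (Step.L (Step.D (nat_lit 6025) (Step.B (nat_lit 12009) (Step.U (nat_lit 8751) (Step.U (nat_lit 5650) (Step.U (nat_lit 3193) (Step.L (Step.L (Step.L (Step.L (Step.L (Step.L (Step.L (Step.L (Step.L (Step.L (Step.D (nat_lit 8753) (Step.D (nat_lit 11471) Step.done)))))))))))))))))))) (Scr.cons (nat_lit 12) (nat_lit 4) (Step.U (nat_lit 5456) (Step.F (nat_lit 440) (Step.D (nat_lit 3031) (Step.D (nat_lit 5456) (Step.D (nat_lit 8542) Step.done))))) (Scr.cons (nat_lit 13) (nat_lit 2) (Step.U (nat_lit 8544) (Step.L (Step.L (Step.L (Step.L (Step.L (Step.L (Step.D (nat_lit 3031) (Step.D (nat_lit 5456) (Step.B (nat_lit 12011) (Step.D (nat_lit 11367) Step.done))))))))))) (Scr.cons (nat_lit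 1) (nat_lit 1) (Step.U (nat_lit 5456) (Step.B (nat_lit 7370) (Step.L Step.done))) (Scr.cons (nat_lit 0) (nat_lit 1) (Step.U (nat_lit 8542) (Step.B (nat_lit 12013) (Step.D (nat_lit 2686) Step.done))) (Scr.cons (nat_lit 1) (nat_lit 0) (Step.U (nat_lit 11367) (Step.B (nat_lit 12014) (Step.D (nat_lit 4911) Step.done))) (Scr.cons (nat_lit 0) (nat_lit 1) (Step.B (nat_lit 12012) (Step.B (nat_lit 12015) (Step.D (nat_lit 7909) Step.done))) (Scr.cons (nat_lit 1) (nat_lit 1) (Step.D (nat_lit 8544) (Step.B (nat_lit 12016) (Step.D (nat_lit 10898) Step.done))) (Scr.cons (nat_lit 1) (nat_lit 1) (Step.D (nat_lit 10898) (Step.F (nat_lit 12017) Step.done)) (Scr.cons (nat_lit 1) (nat_lit 0) (Step.D (nat_lit 10892) (Step.F (nat_lit 5174) Step.done)) (Scr.cons (nat_lit 12) (nat_lit 4) (Step.U (nat_lit 4452) (Step.D (nat_lit 4451) (Step.F (nat_lit 4056) (Step.D (nat_lit 4452) (Step.D (nat_lit 7377) Step.done))))) (Scr.cons (nat_lit 11) (nat_lit 0) (Step.U (nat_lit 5974) (Step.U (nat_lit 3375)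 (Step.D (nat_lit 3374) (Step.D (nat_lit 5972) (Step.D (nat_lit 9134) Step.done))))) (Scr.cons (nat_lit 12) (nat_lit 4) (Step.U (nat_lit 2725) (Step.F (nat_lit 2707) (Step.D (nat_lit 1337) (Step.D (nat_lit 2725) (Step.D (nat_lit 4963) Step.done))))) (Scr.cons (nat_lit 13) (nat_lit 3) (Step.U (nat_lit 10419) (Step.B (nat_lit 2714) (Step.F (nat_lit 2709) (Step.U (nat_lit 4965) (Step.U (nat_lit 2726) (Step.U (nat_lit 1338) (Step.D (nat_lit 1337) (Step.D (nat_lit 2725) (Step.B (nat_lit 12022) (Step.D (nat_lit 7974) (Step.D (nat_lit 10955) Step.done))))))))))) (Scr.cons (nat_lit 14) (nat_lit 5) (Step.F (nat_lit 12023) (Step.U (nat_lit 10419) (Step.U (nat_lit 7355) (Step.U (nat_lit 4431) (Step.F (nat_lit 2705) (Step.L (Step.L (Step.L (Step.L (Step.L (Step.L (Step.L (Step.L (Step.L (Step.L (Step.L (Step.D (nat_lit 2397) (Step.D (nat_lit 4452) (Step.D (nat_lit 7377) (Step.D (nat_lit 10441) Step.done)))))))))))))))))))) (Scr.cons (nat_lit 12) (nat_lit 1) (Step.U (nat_lit 741) (Step.L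 (Step.L (Step.D (nat_lit 741) (Step.D (nat_lit 1703) Step.done))))) (Scr.cons (nat_lit 12) (nat_lit 1) (Step.U (nat_lit 1704) (Step.D (nat_lit 1703) (Step.F (nat_lit 12025) (Step.D (nat_lit 1704) (Step.D (nat_lit 3376) Step.done))))) (Scr.cons (nat_lit 0) (nat_lit 1) (Step.U (nat_lit 7975) (Step.B (nat_lit 8582) (Step.F (nat_lit 12026) Step.done))) (Scr.cons (nat_lit 1) (nat_lit 1) (Step.B (nat_lit 2714) (Step.B (nat_lit 12027) (Step.U (nat_lit 1704) Step.done))) (Scr.cons (nat_lit 0) (nat_lit 1) (Step.U (nat_lit 10419) (Step.B (nat_lit 12028) (Step.D (nat_lit 1703) Step.done))) (Scr.cons (nat_lit 1) (nat_lit 0) (Step.F (nat_lit 12023) (Step.B (nat_lit 12029) (Step.D (nat_lit 3375) Step.done))) (Scr.cons (nat_lit 1) (nat_lit 0) (Step.F (nat_lit 12024) (Step.B (nat_lit 12030) (Step.D (nat_lit 5974) Step.done))) (Scr.cons (nat_lit 1) (nat_lit 0) (Step.D (nat_lit 10441) (Step.B (nat_lit 12031) (Step.B (nat_lit 12021) Step.done))) (Scr.cons (nat_lit 1) (nat_lit 0) (Step.B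 (nat_lit 12021) (Step.F (nat_lit 12032) Step.done)) (Scr.cons (nat_lit 11) (nat_lit 0) (Step.U (nat_lit 5613) (Step.U (nat_lit 3169) (Step.D (nat_lit 3168) (Step.D (nat_lit 5611) (Step.D (nat_lit 8706) Step.done))))) (Scr.cons (nat_lit 14) (nat_lit 0) (Step.U (nat_lit 8213) (Step.U (nat_lit 5194) (Step.F (nat_lit 6754) (Step.L (Step.L (Step.L (Step.L (Step.L (Step.L (Step.L (Step.L (Step.L (Step.L (Step.L (Step.L (Step.D (nat_lit 674) (Step.D (nat_lit 1591) (Step.D (nat_lit 3168) (Step.D (nat_lit 5611) (Step.D (nat_lit 8706) Step.done)))))))))))))))))))) (Scr.cons (nat_lit 0) (nat_lit 1) (Step.F (nat_lit 12035) (Step.F (nat_lit 4080) (Step.D (nat_lit 7377) Step.done))) (Scr.cons (nat_lit 1) (nat_lit 1) (Step.B (nat_lit 12034) (Step.B (nat_lit 12036) (Step.F (nat_lit 12033) Step.done))) (Scr.cons (nat_lit 1) (nat_lit 1) (Step.F (nat_lit 12033) (Step.F (nat_lit 12037) Step.done)) (Scr.cons (nat_lit 12) (nat_lit 4) (Step.U (nat_lit 674) (Step.L (Step.L (Step.D (nat_lit 674)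 (Step.D (nat_lit 1591) Step.done))))) (Scr.cons (nat_lit 12) (nat_lit 1) (Step.U (nat_lit 3169) (Step.F (nat_lit 12039) (Step.D (nat_lit 1591) (Step.D (nat_lit 3169) (Step.D (nat_lit 5612) Step.done))))) (Scr.cons (nat_lit 12) (nat_lit 1) (Step.U (nat_lit 7974) (Step.F (nat_lit 12022) (Step.D (nat_lit 4963) (Step.D (nat_lit 7974) (Step.D (nat_lit 10955) Step.done))))) (Scr.cons (nat_lit 0) (nat_lit 1) (Step.B (nat_lit 12041) (Step.B (nat_lit 12030) (Step.D (nat_lit 5973) Step.done))) Scr.nil))))))))))))))))))))))))))))))))))))))))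
noncomputable def s301 : Scr := (Scr.cons (nat_lit 1) (nat_lit 1) (Step.D (nat_lit 7974) (Step.B (nat_lit 12042) (Step.D (nat_lit 9135) Step.done))) (Scr.cons (nat_lit 1) (nat_lit 1) (Step.D (nat_lit 9135) (Step.F (nat_lit 12043) Step.done)) (Scr.cons (nat_lit 1) (nat_lit 1) (Step.D (nat_lit 5974) (Step.F (nat_lit 12037) (Step.U (nat_lit 5613) Step.done))) (Scr.cons (nat_lit 0) (nat_lit 1) (Step.U (nat_lit 5973) (Step.B (nat_lit 12045) (Step.D (nat_lit 5612) Step.done))) (Scr.cons (nat_lit 1) (nat_lit 1) (Step.F (nat_lit 12044) (Step.B (nat_lit 12046) (Step.D (nat_lit 8707) Step.done))) (Scr.cons (nat_lit 1) (nat_lit 1) (Step.D (nat_lit 8707) (Step.F (nat_lit 12047) Step.done)) (Scr.cons (nat_lit 0) (nat_lit 1) (Step.U (nat_lit 1337) (Step.B (nat_lit 8590) (Step.L Step.done))) (Scr.cons (nat_lit 1) (nat_lit 1) (Step.U (nat_lit 2725) (Step.B (nat_lit 12049) (Step.L Step.done))) (Scr.cons (nat_lit 0) (nat_lit 1) (Step.U (nat_lit 4963) (Step.B (nat_lit 12050) (Step.L Step.done)))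 (Scr.cons (nat_lit 1) (nat_lit 0) (Step.B (nat_lit 12048) (Step.B (nat_lit 12051) (Step.L Step.done))) (Scr.cons (nat_lit 0) (nat_lit 1) (Step.B (nat_lit 12040) (Step.B (nat_lit 12052) (Step.L Step.done))) (Scr.cons (nat_lit 1) (nat_lit 0) (Step.U (nat_lit 5613) (Step.B (nat_lit 12053) (Step.L Step.done))) (Scr.cons (nat_lit 1) (nat_lit 0) (Step.B (nat_lit 12038) (Step.B (nat_lit 12054) (Step.L Step.done))) (Scr.cons (nat_lit 0) (nat_lit 1) (Step.B (nat_lit 12020) (Step.B (nat_lit 12055) (Step.L Step.done))) (Scr.cons (nat_lit 1) (nat_lit 0) (Step.D (nat_lit 4452) (Step.B (nat_lit 12056) (Step.L Step.done))) (Scr.cons (nat_lit 0) (nat_lit 1) (Step.U (nat_lit 4451) (Step.B (nat_lit 12057) (Step.L Step.done))) (Scr.cons (nat_lit 1) (nat_lit 1) (Step.F (nat_lit 7367) (Step.B (nat_lit 12058) (Step.L Step.done))) (Scr.cons (nat_lit 0) (nat_lit 1) (Step.B (nat_lit 4158) (Step.B (nat_lit 12059) (Step.D (nat_lit 5996) Step.done))) (Scr.cons (nat_lit 1) (nat_lit 1) (Step.B (nat_lit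 12019) (Step.F (nat_lit 12060) (Step.F (nat_lit 4159) Step.done))) (Scr.cons (nat_lit 1) (nat_lit 1) (Step.D (nat_lit 7897) (Step.B (nat_lit 12061) (Step.L Step.done))) (Scr.cons (nat_lit 0) (nat_lit 1) (Step.B (nat_lit 5120) (Step.B (nat_lit 12062) (Step.D (nat_lit 2686) Step.done))) (Scr.cons (nat_lit 1) (nat_lit 0) (Step.U (nat_lit 4911) (Step.F (nat_lit 12063) (Step.L Step.done))) (Scr.cons (nat_lit 0) (nat_lit 1) (Step.U (nat_lit 7909) (Step.B (nat_lit 12064) (Step.L Step.done))) (Scr.cons (nat_lit 1) (nat_lit 1) (Step.F (nat_lit 12018) (Step.B (nat_lit 12065) (Step.D (nat_lit 8753) Step.done))) (Scr.cons (nat_lit 1) (nat_lit 1) (Step.U (nat_lit 11471) (Step.F (nat_lit 12066) (Step.L Step.done))) (Scr.cons (nat_lit 1) (nat_lit 1) (Step.B (nat_lit 12010) (Step.B (nat_lit 12067) (Step.D (nat_lit 11368) Step.done))) (Scr.cons (nat_lit 0) (nat_lit 1) (Step.B (nat_lit 11994) (Step.F (nat_lit 12068) (Step.L Step.done))) (Scr.cons (nat_lit 1) (nat_lit 0) (Step.D (nat_lit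 10527) (Step.B (nat_lit 12069) (Step.L Step.done))) (Scr.cons (nat_lit 0) (nat_lit 1) (Step.B (nat_lit 11981) (Step.B (nat_lit 12070) (Step.L Step.done))) (Scr.cons (nat_lit 1) (nat_lit 0) (Step.D (nat_lit 4533) (Step.B (nat_lit 12071) (Step.L Step.done))) (Scr.cons (nat_lit 1) (nat_lit 0) (Step.D (nat_lit 2435) (Step.B (nat_lit 12072) (Step.L Step.done))) (Scr.cons (nat_lit 0) (nat_lit 1) (Step.B (nat_lit 11979) (Step.B (nat_lit 12073) (Step.D (nat_lit 755) Step.done))) (Scr.cons (nat_lit 1) (nat_lit 0) (Step.U (nat_lit 1724) (Step.F (nat_lit 12074) (Step.L Step.done))) (Scr.cons (nat_lit 0) (nat_lit 1) (Step.F (nat_lit 11978) (Step.B (nat_lit 12075) (Step.L Step.done))) (Scr.cons (nat_lit 1) (nat_lit 1) (Step.D (nat_lit 3402) (Step.B (nat_lit 12076) (Step.L Step.done))) (Scr.cons (nat_lit 0) (nat_lit 1) (Step.B (nat_lit 244) (Step.B (nat_lit 12077) (Step.D (nat_lit 2434) Step.done))) (Scr.cons (nat_lit 1) (nat_lit 1) (Step.U (nat_lit 4531) (Step.F (nat_lit 12078) (Step.L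 Step.done))) (Scr.cons (nat_lit 0) (nat_lit 1) (Step.F (nat_lit 11976) (Step.B (nat_lit 12079) (Step.L Step.done))) (Scr.cons (nat_lit 1) (nat_lit 1) (Step.D (nat_lit 7474) (Step.B (nat_lit 12080) (Step.D (nat_lit 6012) Step.done))) (Scr.cons (nat_lit 1) (nat_lit 1) (Step.D (nat_lit 6012) (Step.F (nat_lit 12081) Step.done)) Scr.nil))))))))))))))))))))))))))))))))))))))))
noncomputable def s302 : Scr := (Scr.cons (nat_lit 12) (nat_lit 1) (Step.U (nat_lit 4526) (Step.D (nat_lit 4525) (Step.F (nat_lit 11975) (Step.D (nat_lit 4526) (Step.D (nat_lit 7475) Step.done))))) (Scr.cons (nat_lit 6) (nat_lit 0) (Step.U (nat_lit 11637) (Step.U (nat_lit 9167) (Step.F (nat_lit 11972) (Step.U (nat_lit 3403) (Step.L (Step.B (nat_lit 12082) (Step.F (nat_lit 11975) (Step.D (nat_lit 4526) (Step.B (nat_lit 12083) (Step.D (nat_lit 10524) (Step.D (nat_lit 11928) Step.done))))))))))) (Scr.cons (nat_lit 11) (nat_lit 0) (Step.U (nat_lit 678) (Step.L (Step.L (Step.L (Step.D (nat_lit 1594) Step.done)))))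 (Scr.cons (nat_lit 12) (nat_lit 1) (Step.L (Step.L (Step.L (Step.L (Step.D (nat_lit 677) Step.done))))) (Scr.cons (nat_lit 6) (nat_lit 3) (Step.L (Step.L (Step.L (Step.L (Step.L (Step.L (Step.L (Step.L (Step.L (Step.B (nat_lit 12086) (Step.D (nat_lit 1595) Step.done))))))))))) (Scr.cons (nat_lit 11) (nat_lit 0) (Step.U (nat_lit 3050) (Step.U (nat_lit 1521) (Step.D (nat_lit 1520) (Step.D (nat_lit 3048) (Step.D (nat_lit 5473) Step.done))))) (Scr.cons (nat_lit 12) (nat_lit 1) (Step.U (nat_lit 3225) (Step.D (nat_lit 3224) (Step.F (nat_lit 7925) (Step.D (nat_lit 3225) (Step.D (nat_lit 5721) Step.done))))) (Scr.cons (nat_lit 12) (nat_lit 1) (Step.F (nat_lit 7924) (Step.D (nat_lit 5721) (Step.F (nat_lit 12089) (Step.B (nat_lit 7924) (Step.D (nat_lit 8828) Step.done))))) (Scr.cons (nat_lit 12) (nat_lit 1) (Step.L (Step.L (Step.L (Step.L (Step.D (nat_lit 3266) Step.done))))) (Scr.cons (nat_lit 7) (nat_lit 5) (Step.F (nat_lit 12090) (Step.U (nat_lit 5718) (Step.U (nat_lit 3223)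 (Step.U (nat_lit 1622) (Step.U (nat_lit 690) (Step.L (Step.L (Step.L (Step.L (Step.L (Step.L (Step.L (Step.L (Step.L (Step.L (Step.L (Step.L (Step.L (Step.B (nat_lit 12091) (Step.D (nat_lit 5792) Step.done)))))))))))))))))))) (Scr.cons (nat_lit 0) (nat_lit 1) (Step.B (nat_lit 2461) (Step.B (nat_lit 11763) (Step.D (nat_lit 233) Step.done))) (Scr.cons (nat_lit 1) (nat_lit 0) (Step.F (nat_lit 5146) (Step.F (nat_lit 12093) (Step.L Step.done))) (Scr.cons (nat_lit 0) (nat_lit 1) (Step.B (nat_lit 5168) (Step.B (nat_lit 12094) (Step.D (nat_lit 690) Step.done))) (Scr.cons (nat_lit 1) (nat_lit 1) (Step.U (nat_lit 1622) (Step.F (nat_lit 12095) (Step.L Step.done))) (Scr.cons (nat_lit 1) (nat_lit 1) (Step.U (nat_lit 3223) (Step.B (nat_lit 12096) (Step.L Step.done))) (Scr.cons (nat_lit 1) (nat_lit 1) (Step.U (nat_lit 5718) (Step.B (nat_lit 12097) (Step.L Step.done))) (Scr.cons (nat_lit 0) (nat_lit 1) (Step.U (nat_lit 8828) (Step.B (nat_lit 12098) (Step.L Step.done))) (Scr.cons (nat_lit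 1) (nat_lit 1) (Step.F (nat_lit 12092) (Step.B (nat_lit 12099) (Step.L Step.done))) (Scr.cons (nat_lit 1) (nat_lit 1) (Step.D (nat_lit 5792) (Step.B (nat_lit 12100) (Step.L Step.done))) (Scr.cons (nat_lit 1) (nat_lit 1) (Step.U (nat_lit 5791) (Step.B (nat_lit 12101) (Step.D (nat_lit 3174) Step.done))) (Scr.cons (nat_lit 1) (nat_lit 1) (Step.B (nat_lit 7920) (Step.B (nat_lit 7972) (Step.D (nat_lit 8826) Step.done))) (Scr.cons (nat_lit 1) (nat_lit 1) (Step.D (nat_lit 8826) (Step.F (nat_lit 12103) Step.done)) (Scr.cons (nat_lit 15) (nat_lit 0) (Step.U (nat_lit 5720) (Step.F (nat_lit 7925) (Step.U (nat_lit 1623) (Step.F (nat_lit 7071) (Step.L (Step.D (nat_lit 445) (Step.F (nat_lit 2459) (Step.F (nat_lit 2458) (Step.L (Step.L (Step.L (Step.L (Step.L (Step.D (nat_lit 5581) (Step.D (nat_lit 8676) Step.done))))))))))))))) (Scr.cons (nat_lit 16) (nat_lit 4) (Step.U (nat_lit 5472) (Step.U (nat_lit 3046) (Step.L (Step.L (Step.L (Step.L (Step.L (Step.L (Step.L (Step.L (Step.L (Step.L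 (Step.F (nat_lit 5809) (Step.D (nat_lit 8676) (Step.F (nat_lit 12105) (Step.U (nat_lit 5720) (Step.F (nat_lit 7925) (Step.U (nat_lit 1623) (Step.D (nat_lit 1622) (Step.D (nat_lit 3223) (Step.D (nat_lit 5717) (Step.B (nat_lit 12104) (Step.D (nat_lit 7832) (Step.D (nat_lit 10830) Step.done)))))))))))))))))))))))) (Scr.cons (nat_lit 11) (nat_lit 0) (Step.U (nat_lit 5472) (Step.U (nat_lit 3046) (Step.L (Step.D (nat_lit 5471) (Step.D (nat_lit 8561) Step.done))))) (Scr.cons (nat_lit 8) (nat_lit 1) (Step.L (Step.L (Step.L (Step.L (Step.L (Step.L (Step.L (Step.L (Step.L (Step.L (Step.L (Step.L (Step.L (Step.L (Step.D (nat_lit 3046) Step.done))))))))))))))) (Scr.cons (nat_lit 14) (nat_lit 5) (Step.U (nat_lit 3053) (Step.U (nat_lit 1523) (Step.L (Step.D (nat_lit 639) (Step.D (nat_lit 1525) (Step.D (nat_lit 3055) (Step.F (nat_lit 5143) (Step.D (nat_lit 8444) (Step.F (nat_lit 5142) (Step.U (nat_lit 7849) (Step.U (nat_lit 4861) (Step.U (nat_lit 2654) (Step.F (nat_lit 5128) (Step.F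 (nat_lit 16) (Step.L (Step.L (Step.B (nat_lit 5713) (Step.D (nat_lit 1295) (Step.D (nat_lit 2655) (Step.D (nat_lit 4862) (Step.D (nat_lit 7850) Step.done))))))))))))))))))))) (Scr.cons (nat_lit 11) (nat_lit 0) (Step.U (nat_lit 3053) (Step.U (nat_lit 1523) (Step.L (Step.D (nat_lit 3052) (Step.D (nat_lit 5476) Step.done))))) (Scr.cons (nat_lit 1) (nat_lit 0) (Step.D (nat_lit 7850) (Step.F (nat_lit 12109) (Step.B (nat_lit 12110) Step.done))) (Scr.cons (nat_lit 1) (nat_lit 0) (Step.D (nat_lit 5476) (Step.F (nat_lit 12111) (Step.D (nat_lit 7851) Step.done))) (Scr.cons (nat_lit 1) (nat_lit 0) (Step.D (nat_lit 7851) (Step.F (nat_lit 12112) Step.done)) (Scr.cons (nat_lit 13) (nat_lit 0) (Step.U (nat_lit 1295) (Step.F (nat_lit 5713) (Step.L (Step.L (Step.L (Step.D (nat_lit 6) (Step.D (nat_lit 48) (Step.B (nat_lit 6551) (Step.D (nat_lit 520) (Step.D (nat_lit 1284) (Step.D (nat_lit 2640) Step.done))))))))))) (Scr.cons (nat_lit 6) (nat_lit 3) (Step.U (nat_lit 1295) (Step.U (nat_lit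 527) (Step.L (Step.L (Step.L (Step.B (nat_lit 386) (Step.D (nat_lit 48) (Step.D (nat_lit 179) (Step.D (nat_lit 520) (Step.B (nat_lit 6552) (Step.D (nat_lit 2640) Step.done))))))))))) (Scr.cons (nat_lit 12) (nat_lit 4) (Step.U (nat_lit 2655) (Step.B (nat_lit 12114) (Step.F (nat_lit 12115) (Step.D (nat_lit 2655) (Step.D (nat_lit 4862) Step.done))))) (Scr.cons (nat_lit 14) (nat_lit 6) (Step.U (nat_lit 5472) (Step.F (nat_lit 12108) (Step.D (nat_lit 3052) (Step.F (nat_lit 12113) (Step.F (nat_lit 12116) (Step.D (nat_lit 4863) (Step.F (nat_lit 5712) (Step.U (nat_lit 2657) (Step.B (nat_lit 5714) (Step.F (nat_lit 5806) (Step.L (Step.L (Step.L (Step.L (Step.L (Step.L (Step.D (nat_lit 637) (Step.D (nat_lit 1518) (Step.D (nat_lit 3044) (Step.D (nat_lit 5469) (Step.D (nat_lit 8559) Step.done))))))))))))))))))))) (Scr.cons (nat_lit 1) (nat_lit 0) (Step.D (nat_lit 8559) (Step.F (nat_lit 12117) (Step.B (nat_lit 12107) Step.done))) (Scr.cons (nat_lit 1) (nat_lit 0) (Step.B (nat_lit 12107)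 (Step.F (nat_lit 12118) Step.done)) (Scr.cons (nat_lit 1) (nat_lit 0) (Step.D (nat_lit 10830) (Step.F (nat_lit 12106) (Step.B (nat_lit 12119) Step.done))) (Scr.cons (nat_lit 0) (nat_lit 1) (Step.B (nat_lit 7922) (Step.B (nat_lit 12120) (Step.D (nat_lit 8558) Step.done))) (Scr.cons (nat_lit 0) (nat_lit 1) (Step.D (nat_lit 8558) (Step.F (nat_lit 12121) Step.done)) Scr.nil))))))))))))))))))))))))))))))))))))))))
noncomputable def s303 : Scr := (Scr.cons (nat_lit 12) (nat_lit 4) (Step.U (nat_lit 637) (Step.L (Step.L (Step.D (nat_lit 637) (Step.D (nat_lit 1517) Step.done))))) (Scr.cons (nat_lit 12) (nat_lit 4) (Step.U (nat_lit 1518) (Step.D (nat_lit 1517) (Step.F (nat_lit 12123) (Step.D (nat_lit 1518) (Step.D (nat_lit 3044) Step.done))))) (Scr.cons (nat_lit 11) (nat_lit 0) (Step.U (nat_lit 1519) (Step.L (Step.D (nat_lit 637) (Step.D (nat_lit 1518) (Step.D (nat_lit 3045) Step.done))))) (Scr.cons (nat_lit 12) (nat_lit 1) (Step.U (nat_lit 1519) (Step.L (Step.L (Step.D (nat_lit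 1519) (Step.D (nat_lit 3047) Step.done))))) (Scr.cons (nat_lit 12) (nat_lit 1) (Step.F (nat_lit 12125) (Step.D (nat_lit 3047) (Step.F (nat_lit 12126) (Step.B (nat_lit 12125) (Step.D (nat_lit 5470) Step.done))))) (Scr.cons (nat_lit 13) (nat_lit 3) (Step.U (nat_lit 8828) (Step.U (nat_lit 5718) (Step.D (nat_lit 5717) (Step.B (nat_lit 12104) (Step.F (nat_lit 12122) (Step.U (nat_lit 5469) (Step.F (nat_lit 12124) (Step.D (nat_lit 3045) (Step.B (nat_lit 12127) (Step.D (nat_lit 8560) (Step.D (nat_lit 11376) Step.done))))))))))) (Scr.cons (nat_lit 11) (nat_lit 0) (Step.F (nat_lit 12128) (Step.B (nat_lit 12092) (Step.U (nat_lit 5792) (Step.D (nat_lit 5791) (Step.D (nat_lit 8916) Step.done))))) (Scr.cons (nat_lit 1) (nat_lit 0) (Step.F (nat_lit 12128) (Step.B (nat_lit 12099) (Step.D (nat_lit 679) Step.done))) (Scr.cons (nat_lit 12) (nat_lit 4) (Step.U (nat_lit 3175) (Step.F (nat_lit 7382) (Step.D (nat_lit 1598) (Step.D (nat_lit 3175) (Step.D (nat_lit 5631) Step.done))))) (Scr.cons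 (nat_lit 12) (nat_lit 4) (Step.U (nat_lit 5632) (Step.D (nat_lit 5631) (Step.F (nat_lit 12131) (Step.D (nat_lit 5632) (Step.D (nat_lit 8728) Step.done))))) (Scr.cons (nat_lit 12) (nat_lit 1) (Step.U (nat_lit 5716) (Step.F (nat_lit 7072) (Step.D (nat_lit 3222) (Step.D (nat_lit 5716) (Step.D (nat_lit 8825) Step.done))))) (Scr.cons (nat_lit 12) (nat_lit 1) (Step.F (nat_lit 7076) (Step.F (nat_lit 12133) (Step.D (nat_lit 8825) (Step.B (nat_lit 7076) (Step.D (nat_lit 9071) Step.done))))) (Scr.cons (nat_lit 12) (nat_lit 4) (Step.U (nat_lit 5469) (Step.F (nat_lit 12124) (Step.D (nat_lit 3044) (Step.D (nat_lit 5469) (Step.D (nat_lit 8558) Step.done))))) (Scr.cons (nat_lit 0) (nat_lit 0) (Step.B (nat_lit 12135) (Step.F (nat_lit 12121) Step.done)) (Scr.cons (nat_lit 12) (nat_lit 1) (Step.U (nat_lit 245) (Step.L (Step.L (Step.D (nat_lit 245) (Step.D (nat_lit 680) Step.done))))) (Scr.cons (nat_lit 12) (nat_lit 4) (Step.U (nat_lit 1600) (Step.F (nat_lit 12137) (Step.D (nat_lit 680)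 (Step.D (nat_lit 1600) (Step.D (nat_lit 3177) Step.done))))) (Scr.cons (nat_lit 6) (nat_lit 1) (Step.U (nat_lit 5633) (Step.F (nat_lit 12138) (Step.U (nat_lit 1600) (Step.U (nat_lit 680) (Step.U (nat_lit 245) (Step.L (Step.D (nat_lit 679) (Step.B (nat_lit 7382) (Step.D (nat_lit 3175) (Step.D (nat_lit 5631) (Step.D (nat_lit 8727) Step.done))))))))))) (Scr.cons (nat_lit 11) (nat_lit 0) (Step.U (nat_lit 3180) (Step.U (nat_lit 1601) (Step.D (nat_lit 1600) (Step.D (nat_lit 3178) (Step.D (nat_lit 5634) Step.done))))) (Scr.cons (nat_lit 12) (nat_lit 1) (Step.U (nat_lit 1601) (Step.F (nat_lit 12137) (Step.D (nat_lit 680) (Step.D (nat_lit 1601) (Step.D (nat_lit 3179) Step.done))))) (Scr.cons (nat_lit 12) (nat_lit 1) (Step.U (nat_lit 3180) (Step.D (nat_lit 3179) (Step.F (nat_lit 12141) (Step.D (nat_lit 3180) (Step.D (nat_lit 5635) Step.done))))) (Scr.cons (nat_lit 12) (nat_lit 1) (Step.F (nat_lit 12140) (Step.D (nat_lit 5635) (Step.F (nat_lit 12142) (Step.B (nat_lit 12140) (Step.D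 (nat_lit 8729) Step.done))))) (Scr.cons (nat_lit 11) (nat_lit 0) (Step.U (nat_lit 1606) (Step.U (nat_lit 684) (Step.D (nat_lit 683) (Step.D (nat_lit 1604) (Step.D (nat_lit 3183) Step.done))))) (Scr.cons (nat_lit 12) (nat_lit 1) (Step.U (nat_lit 684) (Step.L (Step.L (Step.D (nat_lit 684) (Step.D (nat_lit 1605) Step.done))))) (Scr.cons (nat_lit 12) (nat_lit 1) (Step.U (nat_lit 1606) (Step.D (nat_lit 1605) (Step.F (nat_lit 12145) (Step.D (nat_lit 1606) (Step.D (nat_lit 3184) Step.done))))) (Scr.cons (nat_lit 12) (nat_lit 1) (Step.F (nat_lit 12144) (Step.D (nat_lit 3184) (Step.F (nat_lit 12146) (Step.B (nat_lit 12144) (Step.D (nat_lit 5639) Step.done))))) (Scr.cons (nat_lit 14) (nat_lit 2) (Step.F (nat_lit 12143) (Step.F (nat_lit 12140) (Step.U (nat_lit 3180) (Step.U (nat_lit 1601) (Step.U (nat_lit 680) (Step.U (nat_lit 245) (Step.L (Step.L (Step.L (Step.L (Step.L (Step.L (Step.L (Step.L (Step.L (Step.D (nat_lit 683) (Step.D (nat_lit 1604) (Step.D (nat_lit 3183) (Step.B (nat_lit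 12147) (Step.D (nat_lit 8735) Step.done)))))))))))))))))))) (Scr.cons (nat_lit 1) (nat_lit 1) (Step.U (nat_lit 1604) (Step.B (nat_lit 7393) (Step.L Step.done))) (Scr.cons (nat_lit 1) (nat_lit 1) (Step.U (nat_lit 3183) (Step.B (nat_lit 12149) (Step.L Step.done))) (Scr.cons (nat_lit 0) (nat_lit 1) (Step.U (nat_lit 5639) (Step.B (nat_lit 12150) (Step.D (nat_lit 527) Step.done))) (Scr.cons (nat_lit 1) (nat_lit 1) (Step.U (nat_lit 8735) (Step.B (nat_lit 12151) (Step.D (nat_lit 1295) Step.done))) (Scr.cons (nat_lit 1) (nat_lit 1) (Step.B (nat_lit 12148) (Step.B (nat_lit 12152) (Step.D (nat_lit 2655) Step.done))) (Scr.cons (nat_lit 0) (nat_lit 1) (Step.B (nat_lit 12143) (Step.B (nat_lit 12153) (Step.D (nat_lit 4862) Step.done))) (Scr.cons (nat_lit 1) (nat_lit 0) (Step.D (nat_lit 5634) (Step.B (nat_lit 12154) (Step.B (nat_lit 12113) Step.done))) (Scr.cons (nat_lit 1) (nat_lit 0) (Step.D (nat_lit 3178) (Step.B (nat_lit 12155) (Step.U (nat_lit 3052) Step.done))) (Scr.cons (nat_lit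 0) (nat_lit 1) (Step.U (nat_lit 3177) (Step.B (nat_lit 12156) (Step.B (nat_lit 12108) Step.done))) (Scr.cons (nat_lit 1) (nat_lit 0) (Step.U (nat_lit 5633) (Step.B (nat_lit 12157) (Step.D (nat_lit 5472) Step.done))) (Scr.cons (nat_lit 0) (nat_lit 1) (Step.F (nat_lit 12139) (Step.B (nat_lit 12158) (Step.D (nat_lit 8562) Step.done))) (Scr.cons (nat_lit 1) (nat_lit 0) (Step.D (nat_lit 8727) (Step.B (nat_lit 12159) Step.done)) (Scr.cons (nat_lit 15) (nat_lit 1) (Step.F (nat_lit 12134) (Step.F (nat_lit 7076) (Step.F (nat_lit 12133) (Step.U (nat_lit 5716) (Step.F (nat_lit 7072) (Step.D (nat_lit 3223) (Step.D (nat_lit 5717) (Step.B (nat_lit 12104) (Step.F (nat_lit 12136) (Step.F (nat_lit 12119) (Step.D (nat_lit 8562) (Step.F (nat_lit 12160) (Step.F (nat_lit 12131) (Step.D (nat_lit 5632) (Step.D (nat_lit 8728) Step.done))))))))))))))) (Scr.cons (nat_lit 1) (nat_lit 1) (Step.U (nat_lit 4403) (Step.B (nat_lit 8345) (Step.L Step.done))) Scr.nil))))))))))))))))))))))))))))))))))))))))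
noncomputable def s304 : Scr := (Scr.cons (nat_lit 0) (nat_lit 1) (Step.U (nat_lit 7317) (Step.B (nat_lit 12162) (Step.L Step.done))) (Scr.cons (nat_lit 1) (nat_lit 0) (Step.F (nat_lit 7073) (Step.B (nat_lit 12163) (Step.L Step.done))) (Scr.cons (nat_lit 1) (nat_lit 0) (Step.F (nat_lit 7076) (Step.B (nat_lit 12164) (Step.L Step.done))) (Scr.cons (nat_lit 0) (nat_lit 1) (Step.U (nat_lit 9071) (Step.B (nat_lit 12165) (Step.L Step.done))) (Scr.cons (nat_lit 1) (nat_lit 0) (Step.F (nat_lit 12161) (Step.B (nat_lit 12166) (Step.L Step.done))) (Scr.cons (nat_lit 0) (nat_lit 1) (Step.B (nat_lit 12132) (Step.B (nat_lit 12167) (Step.L Step.done))) (Scr.cons (nat_lit 1) (nat_lit 0) (Step.D (nat_lit 5632) (Step.B (nat_lit 12168) (Step.L Step.done))) (Scr.cons (nat_lit 1) (nat_lit 0) (Step.D (nat_lit 3175) (Step.B (nat_lit 12169) (Step.L Step.done))) (Scr.cons (nat_lit 0) (nat_lit 1) (Step.B (nat_lit 7382) (Step.B (nat_lit 12170) (Step.L Step.done))) (Scr.cons (nat_lit 1) (nat_lit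 0) (Step.F (nat_lit 12129) (Step.B (nat_lit 12130) (Step.B (nat_lit 12171) (Step.D (nat_lit 1521) Step.done)))) (Scr.cons (nat_lit 1) (nat_lit 0) (Step.F (nat_lit 12102) (Step.D (nat_lit 8916) (Step.B (nat_lit 12172) (Step.D (nat_lit 3050) Step.done)))) (Scr.cons (nat_lit 1) (nat_lit 0) (Step.D (nat_lit 3174) (Step.B (nat_lit 12173) (Step.B (nat_lit 12088) Step.done))) (Scr.cons (nat_lit 1) (nat_lit 0) (Step.B (nat_lit 12088) (Step.F (nat_lit 12174) Step.done)) (Scr.cons (nat_lit 12) (nat_lit 4) (Step.U (nat_lit 1169) (Step.L (Step.L (Step.D (nat_lit 1169) (Step.D (nat_lit 2430) Step.done))))) (Scr.cons (nat_lit 6) (nat_lit 1) (Step.U (nat_lit 4527) (Step.F (nat_lit 12176) (Step.U (nat_lit 1169) (Step.L (Step.L (Step.L (Step.L (Step.B (nat_lit 11974) (Step.D (nat_lit 2428) (Step.D (nat_lit 4523) (Step.D (nat_lit 7472) Step.done))))))))))) (Scr.cons (nat_lit 1) (nat_lit 0) (Step.D (nat_lit 4528) (Step.B (nat_lit 5793) (Step.L Step.done))) (Scr.cons (nat_lit 1) (nat_lit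 0) (Step.D (nat_lit 2431) (Step.B (nat_lit 12178) (Step.L Step.done))) (Scr.cons (nat_lit 0) (nat_lit 1) (Step.U (nat_lit 2430) (Step.B (nat_lit 12179) (Step.L Step.done))) (Scr.cons (nat_lit 1) (nat_lit 0) (Step.U (nat_lit 4527) (Step.B (nat_lit 12180) (Step.D (nat_lit 1521) Step.done))) (Scr.cons (nat_lit 0) (nat_lit 1) (Step.F (nat_lit 12177) (Step.B (nat_lit 12181) (Step.D (nat_lit 3049) Step.done))) (Scr.cons (nat_lit 1) (nat_lit 1) (Step.D (nat_lit 7472) (Step.B (nat_lit 12182) (Step.D (nat_lit 5474) Step.done))) (Scr.cons (nat_lit 1) (nat_lit 1) (Step.D (nat_lit 5474) (Step.F (nat_lit 12183) Step.done)) (Scr.cons (nat_lit 12) (nat_lit 4) (Step.U (nat_lit 2428) (Step.F (nat_lit 11974) (Step.D (nat_lit 1168) (Step.D (nat_lit 2428) (Step.D (nat_lit 4523) Step.done))))) (Scr.cons (nat_lit 11) (nat_lit 0) (Step.U (nat_lit 4526) (Step.U (nat_lit 2429) (Step.D (nat_lit 2428) (Step.D (nat_lit 4524) (Step.D (nat_lit 7473) Step.done))))) (Scr.cons (nat_lit 16) (nat_lit 3)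 (Step.L (Step.L (Step.L (Step.L (Step.L (Step.D (nat_lit 1594) (Step.F (nat_lit 12085) (Step.U (nat_lit 678) (Step.D (nat_lit 677) (Step.D (nat_lit 1595) (Step.F (nat_lit 12087) (Step.L (Step.F (nat_lit 12175) (Step.U (nat_lit 3050) (Step.D (nat_lit 3049) (Step.B (nat_lit 12184) (Step.F (nat_lit 12185) (Step.D (nat_lit 4524) (Step.D (nat_lit 7473) (Step.F (nat_lit 12186) (Step.D (nat_lit 7475) (Step.D (nat_lit 10524) (Step.D (nat_lit 11928) Step.done))))))))))))))))))))))) (Scr.cons (nat_lit 11) (nat_lit 0) (Step.B (nat_lit 12084) (Step.F (nat_lit 12187) (Step.L (Step.L (Step.L (Step.D (nat_lit 11458) Step.done)))))) (Scr.cons (nat_lit 0) (nat_lit 0) (Step.B (nat_lit 11973) (Step.B (nat_lit 12188) Step.done)) (Scr.cons (nat_lit 16) (nat_lit 2) (Step.L (Step.L (Step.L (Step.D (nat_lit 11458) (Step.F (nat_lit 12189) (Step.U (nat_lit 9167) (Step.F (nat_lit 11972) (Step.F (nat_lit 11969) (Step.U (nat_lit 1723) (Step.U (nat_lit 754) (Step.L (Step.L (Step.L (Step.L (Step.L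 (Step.L (Step.L (Step.L (Step.L (Step.L (Step.L (Step.L (Step.L (Step.D (nat_lit 11636) Step.done)))))))))))))))))))))))) (Scr.cons (nat_lit 1) (nat_lit 1) (Step.D (nat_lit 11636) (Step.F (nat_lit 12190) Step.done)) (Scr.cons (nat_lit 12) (nat_lit 4) (Step.L (Step.L (Step.L (Step.L (Step.D (nat_lit 10529) Step.done))))) (Scr.cons (nat_lit 12) (nat_lit 4) (Step.L (Step.D (nat_lit 10529) (Step.F (nat_lit 12192) (Step.L (Step.L Step.done))))) (Scr.cons (nat_lit 12) (nat_lit 1) (Step.L (Step.L (Step.L (Step.L (Step.D (nat_lit 10536) Step.done))))) (Scr.cons (nat_lit 12) (nat_lit 1) (Step.L (Step.D (nat_lit 10536) (Step.F (nat_lit 12194) (Step.L (Step.L Step.done))))) (Scr.cons (nat_lit 11) (nat_lit 0) (Step.U (nat_lit 2321) (Step.U (nat_lit 1103) (Step.L (Step.L (Step.D (nat_lit 4342) Step.done))))) (Scr.cons (nat_lit 12) (nat_lit 1) (Step.U (nat_lit 1103) (Step.L (Step.L (Step.D (nat_lit 1103) (Step.D (nat_lit 2320) Step.done))))) (Scr.cons (nat_lit 12) (nat_lit 1) (Step.U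 (nat_lit 2321) (Step.D (nat_lit 2320) (Step.F (nat_lit 12197) (Step.D (nat_lit 2321) (Step.D (nat_lit 4343) Step.done))))) (Scr.cons (nat_lit 12) (nat_lit 1) (Step.F (nat_lit 12196) (Step.D (nat_lit 4343) (Step.F (nat_lit 12198) (Step.B (nat_lit 12196) (Step.D (nat_lit 7264) Step.done))))) (Scr.cons (nat_lit 9) (nat_lit 5) (Step.L (Step.L (Step.L (Step.L (Step.L (Step.L (Step.L (Step.L (Step.L (Step.L (Step.L (Step.L (Step.L (Step.L (Step.L (Step.L (Step.L (Step.L (Step.D (nat_lit 1103) (Step.D (nat_lit 2321) (Step.B (nat_lit 12196) (Step.B (nat_lit 12199) (Step.D (nat_lit 10343) Step.done))))))))))))))))))))))) (Scr.cons (nat_lit 12) (nat_lit 0) (Step.B (nat_lit 12200) (Step.U (nat_lit 10343) (Step.F (nat_lit 12199) (Step.D (nat_lit 7264) (Step.D (nat_lit 10343) Step.done))))) (Scr.cons (nat_lit 16) (nat_lit 1) (Step.F (nat_lit 12201) (Step.L (Step.L (Step.L (Step.L (Step.L (Step.L (Step.L (Step.L (Step.L (Step.L (Step.L (Step.L (Step.L (Step.L (Step.L (Step.L (Step.L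 (Step.L (Step.D (nat_lit 2444) (Step.D (nat_lit 4549) (Step.D (nat_lit 7499) (Step.D (nat_lit 10547) Step.done))))))))))))))))))))))) Scr.nil))))))))))))))))))))))))))))))))))))))))
noncomputable def s305 : Scr := (Scr.cons (nat_lit 11) (nat_lit 0) (Step.L (Step.L (Step.D (nat_lit 2444) (Step.D (nat_lit 4549) (Step.D (nat_lit 7499) Step.done))))) (Scr.cons (nat_lit 12) (nat_lit 1) (Step.F (nat_lit 12203) (Step.L (Step.L (Step.B (nat_lit 12203) (Step.D (nat_lit 10547) Step.done))))) (Scr.cons (nat_lit 13) (nat_lit 3) (Step.L (Step.L (Step.L (Step.L (Step.B (nat_lit 12201) (Step.B (nat_lit 12202) (Step.F (nat_lit 12204) (Step.F (nat_lit 12203) (Step.L (Step.L (Step.L Step.done))))))))))) (Scr.cons (nat_lit 12) (nat_lit 4) (Step.L (Step.L (Step.L (Step.L (Step.D (nat_lit 10552) Step.done))))) (Scr.cons (nat_lit 12) (nat_lit 4) (Step.L (Step.D (nat_lit 10552) (Step.F (nat_lit 12206) (Step.L (Step.L Step.done))))) (Scr.cons (nat_lit 12) (nat_lit 1) (Step.L (Step.L (Step.L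 (Step.L (Step.D (nat_lit 10553) Step.done))))) (Scr.cons (nat_lit 6) (nat_lit 2) (Step.U (nat_lit 10360) (Step.L (Step.L (Step.L (Step.L (Step.L (Step.L (Step.L (Step.L (Step.L (Step.L (Step.B (nat_lit 12208) Step.done)))))))))))) (Scr.cons (nat_lit 0) (nat_lit 1) (Step.D (nat_lit 10553) (Step.F (nat_lit 12209) Step.done)) (Scr.cons (nat_lit 0) (nat_lit 0) (Step.B (nat_lit 12208) (Step.F (nat_lit 12209) Step.done)) (Scr.cons (nat_lit 12) (nat_lit 1) (Step.L (Step.B (nat_lit 12210) (Step.F (nat_lit 12211) (Step.L (Step.L Step.done))))) (Scr.cons (nat_lit 12) (nat_lit 4) (Step.L (Step.L (Step.L (Step.L (Step.D (nat_lit 10592) Step.done))))) (Scr.cons (nat_lit 12) (nat_lit 4) (Step.L (Step.D (nat_lit 10592) (Step.F (nat_lit 12213) (Step.L (Step.L Step.done))))) (Scr.cons (nat_lit 12) (nat_lit 4) (Step.L (Step.L (Step.L (Step.L (Step.D (nat_lit 8491) Step.done))))) (Scr.cons (nat_lit 12) (nat_lit 1) (Step.L (Step.L (Step.L (Step.L (Step.D (nat_lit 9757) Step.done))))) (Scr.cons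 (nat_lit 12) (nat_lit 4) (Step.L (Step.L (Step.L (Step.L (Step.D (nat_lit 4634) Step.done))))) (Scr.cons (nat_lit 12) (nat_lit 4) (Step.U (nat_lit 7590) (Step.F (nat_lit 12217) (Step.D (nat_lit 4634) (Step.D (nat_lit 7590) (Step.F (nat_lit 10713) Step.done))))) (Scr.cons (nat_lit 12) (nat_lit 4) (Step.U (nat_lit 10620) (Step.F (nat_lit 10713) (Step.F (nat_lit 12218) (Step.D (nat_lit 10620) (Step.D (nat_lit 11935) Step.done))))) (Scr.cons (nat_lit 14) (nat_lit 3) (Step.U (nat_lit 11344) (Step.U (nat_lit 8492) (Step.L (Step.L (Step.L (Step.L (Step.L (Step.L (Step.L (Step.L (Step.L (Step.L (Step.D (nat_lit 3303) (Step.D (nat_lit 5854) (Step.D (nat_lit 8994) (Step.B (nat_lit 10728) (Step.U (nat_lit 7606) (Step.B (nat_lit 10713) (Step.D (nat_lit 10620) (Step.D (nat_lit 11936) Step.done)))))))))))))))))))) (Scr.cons (nat_lit 12) (nat_lit 4) (Step.U (nat_lit 11936) (Step.D (nat_lit 11935) (Step.F (nat_lit 12219) (Step.D (nat_lit 11936) (Step.F (nat_lit 12220) Step.done)))))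 (Scr.cons (nat_lit 7) (nat_lit 1) (Step.L (Step.L (Step.L (Step.D (nat_lit 8492) (Step.D (nat_lit 11344) (Step.F (nat_lit 12221) (Step.U (nat_lit 11936) (Step.U (nat_lit 10620) (Step.U (nat_lit 7590) (Step.U (nat_lit 4634) (Step.L (Step.L (Step.L (Step.L (Step.L (Step.L (Step.L (Step.L (Step.L (Step.D (nat_lit 9757) (Step.D (nat_lit 11836) Step.done))))))))))))))))))))) (Scr.cons (nat_lit 1) (nat_lit 1) (Step.D (nat_lit 11836) (Step.F (nat_lit 12222) (Step.L Step.done))) (Scr.cons (nat_lit 0) (nat_lit 1) (Step.B (nat_lit 12216) (Step.B (nat_lit 12223) (Step.D (nat_lit 8491) Step.done))) (Scr.cons (nat_lit 0) (nat_lit 0) (Step.B (nat_lit 12215) (Step.F (nat_lit 12224) Step.done)) (Scr.cons (nat_lit 12) (nat_lit 1) (Step.L (Step.L (Step.L (Step.L (Step.D (nat_lit 10639) Step.done))))) (Scr.cons (nat_lit 12) (nat_lit 1) (Step.L (Step.D (nat_lit 10639) (Step.F (nat_lit 12226) (Step.L (Step.L Step.done))))) (Scr.cons (nat_lit 12) (nat_lit 4) (Step.L (Step.L (Step.L (Step.L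 (Step.D (nat_lit 10645) Step.done))))) (Scr.cons (nat_lit 12) (nat_lit 4) (Step.L (Step.D (nat_lit 10645) (Step.F (nat_lit 12228) (Step.L (Step.L Step.done))))) (Scr.cons (nat_lit 12) (nat_lit 1) (Step.L (Step.L (Step.L (Step.L (Step.D (nat_lit 10651) Step.done))))) (Scr.cons (nat_lit 12) (nat_lit 1) (Step.L (Step.D (nat_lit 10651) (Step.F (nat_lit 12230) (Step.L (Step.L Step.done))))) (Scr.cons (nat_lit 12) (nat_lit 1) (Step.L (Step.L (Step.L (Step.L (Step.D (nat_lit 10653) Step.done))))) (Scr.cons (nat_lit 12) (nat_lit 1) (Step.L (Step.D (nat_lit 10653) (Step.F (nat_lit 12232) (Step.L (Step.L Step.done))))) (Scr.cons (nat_lit 6) (nat_lit 1) (Step.L (Step.L (Step.L (Step.L (Step.L (Step.L (Step.D (nat_lit 1229) (Step.B (nat_lit 4700) (Step.D (nat_lit 4682) (Step.D (nat_lit 7651) (Step.D (nat_lit 10676) Step.done))))))))))) (Scr.cons (nat_lit 12) (nat_lit 4) (Step.U (nat_lit 4682) (Step.F (nat_lit 4700) (Step.D (nat_lit 2539) (Step.D (nat_lit 4682) (Step.D (nat_lit 7651)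 Step.done))))) (Scr.cons (nat_lit 13) (nat_lit 2) (Step.L (Step.L (Step.L (Step.L (Step.L (Step.L (Step.D (nat_lit 1229) (Step.D (nat_lit 2539) (Step.D (nat_lit 4682) (Step.B (nat_lit 12235) (Step.D (nat_lit 10676) Step.done))))))))))) (Scr.cons (nat_lit 12) (nat_lit 1) (Step.L (Step.B (nat_lit 12234) (Step.F (nat_lit 12236) (Step.L (Step.L Step.done))))) (Scr.cons (nat_lit 12) (nat_lit 1) (Step.L (Step.L (Step.L (Step.L (Step.D (nat_lit 10682) Step.done))))) (Scr.cons (nat_lit 12) (nat_lit 1) (Step.L (Step.D (nat_lit 10682) (Step.F (nat_lit 12238) (Step.L (Step.L Step.done))))) (Scr.cons (nat_lit 12) (nat_lit 1) (Step.L (Step.L (Step.L (Step.L (Step.D (nat_lit 10703) Step.done))))) (Scr.cons (nat_lit 12) (nat_lit 1) (Step.L (Step.D (nat_lit 10703) (Step.F (nat_lit 12240) (Step.L (Step.L Step.done))))) (Scr.cons (nat_lit 12) (nat_lit 1) (Step.L (Step.L (Step.L (Step.L (Step.D (nat_lit 10720) Step.done))))) Scr.nil))))))))))))))))))))))))))))))))))))))))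
noncomputable def s306 : Scr := (Scr.cons (nat_lit 12) (nat_lit 1) (Step.L (Step.D (nat_lit 10720) (Step.F (nat_lit 12242) (Step.L (Step.L Step.done))))) (Scr.cons (nat_lit 12) (nat_lit 4) (Step.L (Step.L (Step.L (Step.L (Step.D (nat_lit 10721) Step.done))))) (Scr.cons (nat_lit 12) (nat_lit 4) (Step.L (Step.D (nat_lit 10721) (Step.F (nat_lit 12244) (Step.L (Step.L Step.done))))) (Scr.cons (nat_lit 12) (nat_lit 1) (Step.U (nat_lit 7741) (Step.D (nat_lit 7740) (Step.F (nat_lit 4723) (Step.D (nat_lit 7741) (Step.D (nat_lit 10748) Step.done))))) (Scr.cons (nat_lit 0) (nat_lit 0) (Step.B (nat_lit 12246) (Step.F (nat_lit 4751) Step.done)) (Scr.cons (nat_lit 12) (nat_lit 1) (Step.L (Step.F (nat_lit 12247) (Step.B (nat_lit 4752) (Step.L (Step.L Step.done))))) (Scr.cons (nat_lit 6) (nat_lit 0) (Step.L (Step.L (Step.L (Step.L (Step.B (nat_lit 373) (Step.F (nat_lit 5387) (Step.F (nat_lit 720) (Step.L (Step.L (Step.L (Step.L Step.done))))))))))) (Scr.cons (nat_lit 11) (nat_lit 0)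 (Step.L (Step.L (Step.L (Step.L (Step.D (nat_lit 4756) Step.done))))) (Scr.cons (nat_lit 12) (nat_lit 1) (Step.F (nat_lit 12250) (Step.D (nat_lit 4757) (Step.F (nat_lit 5385) (Step.B (nat_lit 12250) (Step.D (nat_lit 7730) Step.done))))) (Scr.cons (nat_lit 12) (nat_lit 1) (Step.L (Step.L (Step.L (Step.L (Step.D (nat_lit 3733) Step.done))))) (Scr.cons (nat_lit 12) (nat_lit 1) (Step.U (nat_lit 6476) (Step.F (nat_lit 12252) (Step.D (nat_lit 3733) (Step.D (nat_lit 6476) (Step.D (nat_lit 9621) Step.done))))) (Scr.cons (nat_lit 16) (nat_lit 5) (Step.F (nat_lit 12253) (Step.U (nat_lit 6476) (Step.F (nat_lit 12252) (Step.L (Step.L (Step.L (Step.L (Step.L (Step.L (Step.L (Step.L (Step.L (Step.L (Step.L (Step.L (Step.L (Step.L (Step.L (Step.L (Step.L (Step.L (Step.L (Step.L Step.done))))))))))))))))))))))) (Scr.cons (nat_lit 11) (nat_lit 0) (Step.U (nat_lit 8799) (Step.L (Step.L (Step.L (Step.F (nat_lit 12254) Step.done))))) (Scr.cons (nat_lit 13) (nat_lit 0) (Step.U (nat_lit 10739)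 (Step.F (nat_lit 12251) (Step.F (nat_lit 12250) (Step.L (Step.L (Step.L (Step.L (Step.B (nat_lit 12252) (Step.D (nat_lit 6476) (Step.D (nat_lit 9621) (Step.F (nat_lit 12255) Step.done))))))))))) (Scr.cons (nat_lit 8) (nat_lit 1) (Step.L (Step.L (Step.L (Step.L (Step.L (Step.L (Step.D (nat_lit 8799) (Step.F (nat_lit 12256) (Step.U (nat_lit 10739) (Step.U (nat_lit 7730) (Step.U (nat_lit 4756) (Step.L (Step.L (Step.L (Step.L Step.done))))))))))))))) (Scr.cons (nat_lit 6) (nat_lit 0) (Step.U (nat_lit 10753) (Step.L (Step.L (Step.L (Step.L (Step.L (Step.L (Step.L (Step.L (Step.L (Step.L Step.done))))))))))) (Scr.cons (nat_lit 11) (nat_lit 0) (Step.L (Step.L (Step.L (Step.L (Step.D (nat_lit 10155) Step.done))))) (Scr.cons (nat_lit 12) (nat_lit 4) (Step.L (Step.L (Step.L (Step.L (Step.D (nat_lit 10154) Step.done))))) (Scr.cons (nat_lit 12) (nat_lit 1) (Step.F (nat_lit 12259) (Step.L (Step.L (Step.B (nat_lit 12259) (Step.D (nat_lit 11886) Step.done))))) (Scr.cons (nat_lit 11)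 (nat_lit 0) (Step.U (nat_lit 10166) (Step.U (nat_lit 7035) (Step.D (nat_lit 7034) (Step.D (nat_lit 10165) (Step.D (nat_lit 11890) Step.done))))) (Scr.cons (nat_lit 12) (nat_lit 4) (Step.U (nat_lit 7034) (Step.F (nat_lit 10868) (Step.D (nat_lit 4164) (Step.D (nat_lit 7034) (Step.D (nat_lit 10164) Step.done))))) (Scr.cons (nat_lit 12) (nat_lit 4) (Step.U (nat_lit 10165) (Step.D (nat_lit 10164) (Step.F (nat_lit 12263) (Step.D (nat_lit 10165) (Step.D (nat_lit 11889) Step.done))))) (Scr.cons (nat_lit 12) (nat_lit 1) (Step.L (Step.L (Step.L (Step.L (Step.D (nat_lit 7744) Step.done))))) (Scr.cons (nat_lit 11) (nat_lit 0) (Step.U (nat_lit 7772) (Step.U (nat_lit 4794) (Step.D (nat_lit 4793) (Step.D (nat_lit 7771) (Step.D (nat_lit 10782) Step.done))))) (Scr.cons (nat_lit 11) (nat_lit 0) (Step.U (nat_lit 4787) (Step.U (nat_lit 2601) (Step.D (nat_lit 2600) (Step.D (nat_lit 4785) (Step.D (nat_lit 7764) Step.done))))) (Scr.cons (nat_lit 12) (nat_lit 1) (Step.U (nat_lit 2601) (Step.L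 (Step.L (Step.D (nat_lit 2601) (Step.D (nat_lit 4786) Step.done))))) (Scr.cons (nat_lit 12) (nat_lit 1) (Step.U (nat_lit 4787) (Step.D (nat_lit 4786) (Step.F (nat_lit 12268) (Step.D (nat_lit 4787) (Step.D (nat_lit 7765) Step.done))))) (Scr.cons (nat_lit 12) (nat_lit 1) (Step.F (nat_lit 12267) (Step.D (nat_lit 7765) (Step.F (nat_lit 12269) (Step.B (nat_lit 12267) (Step.D (nat_lit 10773) Step.done))))) (Scr.cons (nat_lit 12) (nat_lit 1) (Step.L (Step.L (Step.L (Step.L (Step.D (nat_lit 9327) Step.done))))) (Scr.cons (nat_lit 16) (nat_lit 5) (Step.F (nat_lit 12271) (Step.L (Step.L (Step.L (Step.L (Step.L (Step.L (Step.L (Step.L (Step.L (Step.L (Step.L (Step.L (Step.L (Step.L (Step.L (Step.L (Step.L (Step.D (nat_lit 993) (Step.D (nat_lit 2122) (Step.D (nat_lit 4050) (Step.D (nat_lit 6902) (Step.D (nat_lit 10036) Step.done))))))))))))))))))))))) (Scr.cons (nat_lit 12) (nat_lit 4) (Step.U (nat_lit 2600) (Step.L (Step.L (Step.D (nat_lit 2600) (Step.D (nat_lit 4784) Step.done)))))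 (Scr.cons (nat_lit 14) (nat_lit 5) (Step.U (nat_lit 11693) (Step.U (nat_lit 9325) (Step.L (Step.L (Step.L (Step.L (Step.L (Step.L (Step.L (Step.L (Step.L (Step.L (Step.L (Step.L (Step.L (Step.L (Step.L (Step.D (nat_lit 2600) (Step.D (nat_lit 4785) (Step.D (nat_lit 7763) (Step.D (nat_lit 10772) Step.done))))))))))))))))))))) (Scr.cons (nat_lit 1) (nat_lit 0) (Step.D (nat_lit 11693) (Step.B (nat_lit 12274) Step.done)) (Scr.cons (nat_lit 16) (nat_lit 5) (Step.U (nat_lit 7762) (Step.F (nat_lit 12273) (Step.D (nat_lit 4785) (Step.D (nat_lit 7763) (Step.D (nat_lit 10772) (Step.F (nat_lit 12275) (Step.U (nat_lit 9325) (Step.L (Step.L (Step.L (Step.L (Step.L (Step.L (Step.L (Step.L (Step.L (Step.L (Step.L (Step.L (Step.L (Step.L (Step.L (Step.D (nat_lit 9284) (Step.D (nat_lit 11677) Step.done)))))))))))))))))))))))) (Scr.cons (nat_lit 1) (nat_lit 0) (Step.D (nat_lit 11677) (Step.F (nat_lit 12276) (Step.D (nat_lit 10771) Step.done))) (Scr.cons (nat_lit 1) (nat_lit 0) (Step.D (nat_lit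 10771) (Step.F (nat_lit 12277) Step.done)) (Scr.cons (nat_lit 14) (nat_lit 4) (Step.U (nat_lit 10041) (Step.U (nat_lit 6906) (Step.U (nat_lit 4052) (Step.U (nat_lit 2123) (Step.D (nat_lit 2122) (Step.D (nat_lit 4050) (Step.D (nat_lit 6902) (Step.D (nat_lit 10036) (Step.F (nat_lit 12272) (Step.U (nat_lit 9327) (Step.L (Step.L (Step.L (Step.D (nat_lit 9284) (Step.F (nat_lit 12278) (Step.U (nat_lit 7762) (Step.U (nat_lit 4784) (Step.D (nat_lit 4785) (Step.D (nat_lit 7764) (Step.D (nat_lit 10773) Step.done)))))))))))))))))))) (Scr.cons (nat_lit 14) (nat_lit 4) (Step.F (nat_lit 12266) (Step.U (nat_lit 7772) (Step.U (nat_lit 4794) (Step.U (nat_lit 2604) (Step.L (Step.L (Step.L (Step.L (Step.L (Step.L (Step.L (Step.L (Step.L (Step.L (Step.D (nat_lit 2600) (Step.D (nat_lit 4785) (Step.D (nat_lit 7764) (Step.B (nat_lit 12270) (Step.F (nat_lit 12279) (Step.U (nat_lit 10041) (Step.D (nat_lit 10040) Step.done))))))))))))))))))))) (Scr.cons (nat_lit 1) (nat_lit 1) (Step.D (nat_lit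 10782) (Step.B (nat_lit 12280) Step.done)) (Scr.cons (nat_lit 12) (nat_lit 1) (Step.U (nat_lit 2123) (Step.F (nat_lit 10864) (Step.D (nat_lit 993) (Step.D (nat_lit 2123) (Step.D (nat_lit 4052) Step.done))))) Scr.nil))))))))))))))))))))))))))))))))))))))))
noncomputable def s307 : Scr := (Scr.cons (nat_lit 12) (nat_lit 1) (Step.U (nat_lit 6906) (Step.F (nat_lit 12282) (Step.D (nat_lit 4052) (Step.D (nat_lit 6906) (Step.D (nat_lit 10040) Step.done))))) (Scr.cons (nat_lit 0) (nat_lit 1) (Step.D (nat_lit 6903) (Step.F (nat_lit 10884) Step.done)) (Scr.cons (nat_lit 16) (nat_lit 0) (Step.U (nat_lit 10750) (Step.F (nat_lit 12265) (Step.L (Step.L (Step.L (Step.L (Step.L (Step.D (nat_lit 2604) (Step.D (nat_lit 4793) (Step.D (nat_lit 7771) (Step.B (nat_lit 12281) (Step.F (nat_lit 12283) (Step.U (nat_lit 6906) (Step.F (nat_lit 12282) (Step.U (nat_lit 2123) (Step.D (nat_lit 2122) (Step.D (nat_lit 4051) (Step.B (nat_lit 12284) (Step.F (nat_lit 10867) (Step.D (nat_lit 4164) (Step.D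 (nat_lit 7034) (Step.D (nat_lit 10165) (Step.D (nat_lit 11890) Step.done))))))))))))))))))))))) (Scr.cons (nat_lit 12) (nat_lit 4) (Step.U (nat_lit 11890) (Step.D (nat_lit 11889) (Step.F (nat_lit 12264) (Step.D (nat_lit 11890) (Step.F (nat_lit 12285) Step.done))))) (Scr.cons (nat_lit 7) (nat_lit 5) (Step.F (nat_lit 12261) (Step.U (nat_lit 10155) (Step.L (Step.L (Step.L (Step.L (Step.L (Step.L (Step.L (Step.L (Step.L (Step.L (Step.L (Step.L (Step.D (nat_lit 4164) (Step.D (nat_lit 7035) (Step.D (nat_lit 10166) (Step.B (nat_lit 12262) (Step.B (nat_lit 12286) (Step.D (nat_lit 11961) Step.done)))))))))))))))))))) (Scr.cons (nat_lit 16) (nat_lit 4) (Step.U (nat_lit 11885) (Step.F (nat_lit 12260) (Step.D (nat_lit 10155) (Step.D (nat_lit 11886) (Step.B (nat_lit 12287) (Step.U (nat_lit 11961) (Step.U (nat_lit 10750) (Step.F (nat_lit 12265) (Step.L (Step.L (Step.L (Step.L (Step.L (Step.L (Step.L (Step.L (Step.L (Step.L (Step.L (Step.L (Step.L (Step.L (Step.D (nat_lit 11962) Step.done)))))))))))))))))))))))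 (Scr.cons (nat_lit 7) (nat_lit 0) (Step.U (nat_lit 11542) (Step.U (nat_lit 8892) (Step.L (Step.L (Step.L (Step.L (Step.L (Step.L (Step.L (Step.L (Step.B (nat_lit 12259) (Step.U (nat_lit 10155) (Step.D (nat_lit 10154) (Step.D (nat_lit 11885) (Step.B (nat_lit 12288) (Step.U (nat_lit 11962) (Step.L (Step.L (Step.L (Step.D (nat_lit 10753) Step.done)))))))))))))))))))) (Scr.cons (nat_lit 4) (nat_lit 0) (Step.F (nat_lit 12258) (Step.F (nat_lit 12289) (Step.U (nat_lit 11542) (Step.U (nat_lit 8892) (Step.L (Step.D (nat_lit 11543) Step.done)))))) (Scr.cons (nat_lit 1) (nat_lit 0) (Step.D (nat_lit 11543) (Step.F (nat_lit 12290) Step.done)) (Scr.cons (nat_lit 11) (nat_lit 0) (Step.L (Step.L (Step.L (Step.L (Step.D (nat_lit 11541) Step.done))))) (Scr.cons (nat_lit 12) (nat_lit 1) (Step.L (Step.L (Step.L (Step.L (Step.D (nat_lit 10753) Step.done))))) (Scr.cons (nat_lit 9) (nat_lit 3) (Step.L (Step.L (Step.L (Step.L (Step.L (Step.L (Step.L (Step.L (Step.L (Step.L (Step.L (Step.L (Step.L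 (Step.L (Step.B (nat_lit 12293) (Step.F (nat_lit 12289) (Step.U (nat_lit 11542) (Step.U (nat_lit 8892) (Step.L (Step.L (Step.L (Step.L (Step.L (Step.B (nat_lit 12292) Step.done)))))))))))))))))))))))) (Scr.cons (nat_lit 1) (nat_lit 1) (Step.B (nat_lit 12292) (Step.F (nat_lit 12294) (Step.D (nat_lit 10762) Step.done))) (Scr.cons (nat_lit 1) (nat_lit 1) (Step.D (nat_lit 10762) (Step.F (nat_lit 12295) Step.done)) (Scr.cons (nat_lit 12) (nat_lit 4) (Step.U (nat_lit 10745) (Step.L (Step.L (Step.D (nat_lit 10745) (Step.D (nat_lit 11959) Step.done))))) (Scr.cons (nat_lit 12) (nat_lit 1) (Step.U (nat_lit 3252) (Step.L (Step.L (Step.D (nat_lit 3252) (Step.D (nat_lit 5764) Step.done))))) (Scr.cons (nat_lit 1) (nat_lit 0) (Step.B (nat_lit 11266) (Step.B (nat_lit 7535) (Step.L Step.done))) (Scr.cons (nat_lit 1) (nat_lit 0) (Step.D (nat_lit 5761) (Step.B (nat_lit 12299) (Step.L Step.done))) (Scr.cons (nat_lit 0) (nat_lit 1) (Step.B (nat_lit 4705) (Step.B (nat_lit 12300) (Step.D (nat_lit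 2706) Step.done))) (Scr.cons (nat_lit 0) (nat_lit 1) (Step.D (nat_lit 2706) (Step.F (nat_lit 12301) Step.done)) (Scr.cons (nat_lit 11) (nat_lit 0) (Step.U (nat_lit 4761) (Step.U (nat_lit 2590) (Step.L (Step.L (Step.D (nat_lit 7737) Step.done))))) (Scr.cons (nat_lit 12) (nat_lit 1) (Step.U (nat_lit 2590) (Step.L (Step.L (Step.D (nat_lit 2590) (Step.D (nat_lit 4760) Step.done))))) (Scr.cons (nat_lit 12) (nat_lit 1) (Step.U (nat_lit 4761) (Step.D (nat_lit 4760) (Step.F (nat_lit 12304) (Step.D (nat_lit 4761) (Step.D (nat_lit 7738) Step.done))))) (Scr.cons (nat_lit 12) (nat_lit 1) (Step.F (nat_lit 12303) (Step.D (nat_lit 7738) (Step.F (nat_lit 12305) (Step.B (nat_lit 12303) (Step.D (nat_lit 10746) Step.done))))) (Scr.cons (nat_lit 14) (nat_lit 1) (Step.U (nat_lit 11540) (Step.U (nat_lit 8891) (Step.F (nat_lit 12298) (Step.U (nat_lit 3252) (Step.L (Step.D (nat_lit 1634) (Step.F (nat_lit 12302) (Step.L (Step.L (Step.L (Step.L (Step.L (Step.L (Step.L (Step.L (Step.L (Step.L (Step.L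 (Step.L (Step.D (nat_lit 7737) (Step.B (nat_lit 12306) Step.done))))))))))))))))))))) (Scr.cons (nat_lit 1) (nat_lit 0) (Step.D (nat_lit 11540) (Step.B (nat_lit 12307) Step.done)) (Scr.cons (nat_lit 14) (nat_lit 4) (Step.U (nat_lit 11960) (Step.F (nat_lit 12308) (Step.U (nat_lit 8891) (Step.U (nat_lit 5764) (Step.U (nat_lit 3252) (Step.L (Step.L (Step.L (Step.L (Step.L (Step.L (Step.L (Step.L (Step.L (Step.L (Step.L (Step.L (Step.L (Step.L (Step.L (Step.D (nat_lit 10775) Step.done))))))))))))))))))))) (Scr.cons (nat_lit 1) (nat_lit 0) (Step.D (nat_lit 11960) (Step.B (nat_lit 12309) Step.done)) (Scr.cons (nat_lit 13) (nat_lit 1) (Step.L (Step.L (Step.L (Step.L (Step.L (Step.D (nat_lit 10775) (Step.F (nat_lit 12310) (Step.U (nat_lit 10746) (Step.U (nat_lit 7737) (Step.L (Step.D (nat_lit 10745) (Step.B (nat_lit 12297) Step.done)))))))))))) (Scr.cons (nat_lit 0) (nat_lit 1) (Step.B (nat_lit 12297) (Step.F (nat_lit 12311) (Step.L Step.done))) (Scr.cons (nat_lit 1) (nat_lit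 1) (Step.F (nat_lit 1595) (Step.B (nat_lit 12312) (Step.D (nat_lit 10774) Step.done))) (Scr.cons (nat_lit 1) (nat_lit 1) (Step.D (nat_lit 10774) (Step.F (nat_lit 12313) Step.done)) (Scr.cons (nat_lit 11) (nat_lit 0) (Step.U (nat_lit 7874) (Step.U (nat_lit 4878) (Step.L (Step.L (Step.D (nat_lit 10869) Step.done))))) (Scr.cons (nat_lit 11) (nat_lit 0) (Step.U (nat_lit 7013) (Step.L (Step.D (nat_lit 4149) (Step.D (nat_lit 7012) (Step.D (nat_lit 10137) Step.done))))) (Scr.cons (nat_lit 1) (nat_lit 1) (Step.D (nat_lit 7632) (Step.B (nat_lit 9094) (Step.D (nat_lit 10137) Step.done))) (Scr.cons (nat_lit 1) (nat_lit 0) (Step.B (nat_lit 12316) (Step.F (nat_lit 12317) Step.done)) (Scr.cons (nat_lit 16) (nat_lit 2) (Step.F (nat_lit 12315) (Step.U (nat_lit 7874) (Step.U (nat_lit 4878) (Step.L (Step.L (Step.L (Step.L (Step.L (Step.L (Step.L (Step.L (Step.L (Step.F (nat_lit 12318) (Step.U (nat_lit 7013) (Step.L (Step.L (Step.L (Step.L (Step.L (Step.L (Step.L (Step.L (Step.D (nat_lit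 11884) Step.done))))))))))))))))))))))) (Scr.cons (nat_lit 7) (nat_lit 5) (Step.F (nat_lit 12319) (Step.U (nat_lit 10869) (Step.L (Step.L (Step.L (Step.L (Step.L (Step.L (Step.L (Step.L (Step.L (Step.L (Step.L (Step.L (Step.L (Step.L (Step.L (Step.L (Step.L (Step.D (nat_lit 11963) Step.done)))))))))))))))))))) (Scr.cons (nat_lit 11) (nat_lit 0) (Step.L (Step.D (nat_lit 11884) (Step.B (nat_lit 12320) (Step.U (nat_lit 11963) (Step.L Step.done))))) (Scr.cons (nat_lit 12) (nat_lit 4) (Step.L (Step.L (Step.L (Step.L (Step.D (nat_lit 10754) Step.done))))) Scr.nil))))))))))))))))))))))))))))))))))))))))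
noncomputable def s308 : Scr := (Scr.cons (nat_lit 12) (nat_lit 4) (Step.L (Step.D (nat_lit 10754) (Step.F (nat_lit 12322) (Step.L (Step.L Step.done))))) (Scr.cons (nat_lit 8) (nat_lit 1) (Step.L (Step.L (Step.L (Step.L (Step.L (Step.L (Step.D (nat_lit 4190) (Step.F (nat_lit 3499) (Step.D (nat_lit 4193) (Step.B (nat_lit 3501) (Step.D (nat_lit 10189) (Step.F (nat_lit 3498) (Step.L (Step.L (Step.L Step.done))))))))))))))) (Scr.cons (nat_lit 12) (nat_lit 1) (Step.U (nat_lit 10600) (Step.L (Step.L (Step.D (nat_lit 10600) (Step.D (nat_lit 11932) Step.done))))) (Scr.cons (nat_lit 11) (nat_lit 0) (Step.U (nat_lit 10600) (Step.L (Step.L (Step.L (Step.D (nat_lit 11931) Step.done))))) (Scr.cons (nat_lit 12) (nat_lit 1) (Step.L (Step.L (Step.L (Step.L (Step.D (nat_lit 4649) Step.done))))) (Scr.cons (nat_lit 12) (nat_lit 1) (Step.L (Step.D (nat_lit 4649) (Step.F (nat_lit 12327) (Step.L (Step.D (nat_lit 7611) Step.done))))) (Scr.cons (nat_lit 12) (nat_lit 4) (Step.U (nat_lit 10636)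 (Step.F (nat_lit 12328) (Step.D (nat_lit 7611) (Step.D (nat_lit 10636) (Step.D (nat_lit 11939) Step.done))))) (Scr.cons (nat_lit 14) (nat_lit 3) (Step.F (nat_lit 12326) (Step.U (nat_lit 10600) (Step.L (Step.L (Step.L (Step.L (Step.L (Step.L (Step.L (Step.L (Step.L (Step.L (Step.L (Step.L (Step.L (Step.L (Step.L (Step.B (nat_lit 12328) (Step.D (nat_lit 10636) (Step.D (nat_lit 11940) Step.done)))))))))))))))))))) (Scr.cons (nat_lit 12) (nat_lit 4) (Step.U (nat_lit 11940) (Step.D (nat_lit 11939) (Step.F (nat_lit 12329) (Step.D (nat_lit 11940) (Step.F (nat_lit 12330) Step.done))))) (Scr.cons (nat_lit 11) (nat_lit 0) (Step.L (Step.L (Step.L (Step.L (Step.D (nat_lit 10342) Step.done))))) (Scr.cons (nat_lit 14) (nat_lit 6) (Step.U (nat_lit 11910) (Step.F (nat_lit 12332) (Step.L (Step.L (Step.L (Step.L (Step.L (Step.L (Step.L (Step.L (Step.L (Step.L (Step.L (Step.L (Step.L (Step.L (Step.L (Step.D (nat_lit 7611) (Step.D (nat_lit 10636) (Step.D (nat_lit 11940) Step.done))))))))))))))))))))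 (Scr.cons (nat_lit 13) (nat_lit 3) (Step.U (nat_lit 11932) (Step.B (nat_lit 12326) (Step.F (nat_lit 12331) (Step.F (nat_lit 12333) (Step.U (nat_lit 11910) (Step.U (nat_lit 10342) (Step.L (Step.L (Step.L (Step.L (Step.D (nat_lit 11730) Step.done))))))))))) (Scr.cons (nat_lit 9) (nat_lit 1) (Step.U (nat_lit 11965) (Step.L (Step.L (Step.L (Step.L (Step.L (Step.L (Step.D (nat_lit 10600) (Step.B (nat_lit 12325) (Step.B (nat_lit 12334) (Step.U (nat_lit 11730) (Step.D (nat_lit 11731) (Step.F (nat_lit 9097) (Step.F (nat_lit 9096) (Step.L (Step.L (Step.L (Step.L (Step.L (Step.L (Step.L (Step.L (Step.L (Step.L Step.done)))))))))))))))))))))))) (Scr.cons (nat_lit 1) (nat_lit 1) (Step.D (nat_lit 11965) (Step.B (nat_lit 12335) Step.done)) (Scr.cons (nat_lit 12) (nat_lit 4) (Step.L (Step.L (Step.L (Step.L (Step.D (nat_lit 10769) Step.done))))) (Scr.cons (nat_lit 12) (nat_lit 4) (Step.L (Step.D (nat_lit 10769) (Step.F (nat_lit 12337) (Step.L (Step.L Step.done))))) (Scr.cons (nat_lit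 12) (nat_lit 1) (Step.L (Step.L (Step.L (Step.L (Step.D (nat_lit 10779) Step.done))))) (Scr.cons (nat_lit 12) (nat_lit 1) (Step.L (Step.D (nat_lit 10779) (Step.F (nat_lit 12339) (Step.L (Step.L Step.done))))) (Scr.cons (nat_lit 15) (nat_lit 0) (Step.L (Step.L (Step.L (Step.L (Step.L (Step.L (Step.L (Step.L (Step.L (Step.L (Step.L (Step.L (Step.L (Step.L (Step.D (nat_lit 11969) Step.done))))))))))))))) (Scr.cons (nat_lit 9) (nat_lit 2) (Step.L (Step.L (Step.L (Step.L (Step.L (Step.L (Step.L (Step.L (Step.L (Step.L (Step.L (Step.L (Step.L (Step.L (Step.L (Step.L (Step.L (Step.L (Step.L (Step.L (Step.B (nat_lit 12341) (Step.U (nat_lit 11969) (Step.L Step.done))))))))))))))))))))))) (Scr.cons (nat_lit 16) (nat_lit 3) (Step.L (Step.L (Step.L (Step.L (Step.L (Step.D (nat_lit 725) (Step.F (nat_lit 8486) (Step.U (nat_lit 259) (Step.L (Step.L (Step.L (Step.L (Step.L (Step.L (Step.L (Step.L (Step.L (Step.L (Step.L (Step.L (Step.D (nat_lit 5819) (Step.D (nat_lit 8952) (Step.D (nat_lit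 11571) Step.done))))))))))))))))))))))) (Scr.cons (nat_lit 11) (nat_lit 0) (Step.F (nat_lit 12343) (Step.L (Step.L (Step.L (Step.L Step.done))))) (Scr.cons (nat_lit 12) (nat_lit 4) (Step.U (nat_lit 8952) (Step.F (nat_lit 967) (Step.D (nat_lit 5819) (Step.D (nat_lit 8952) (Step.D (nat_lit 11571) Step.done))))) (Scr.cons (nat_lit 6) (nat_lit 0) (Step.L (Step.F (nat_lit 12344) (Step.F (nat_lit 12345) (Step.U (nat_lit 8952) (Step.U (nat_lit 5819) (Step.L (Step.L (Step.L (Step.L (Step.L (Step.L Step.done))))))))))) (Scr.cons (nat_lit 12) (nat_lit 1) (Step.L (Step.L (Step.L (Step.L (Step.D (nat_lit 10855) Step.done))))) (Scr.cons (nat_lit 12) (nat_lit 1) (Step.L (Step.D (nat_lit 10855) (Step.F (nat_lit 12347) (Step.L (Step.L Step.done))))) (Scr.cons (nat_lit 11) (nat_lit 0) (Step.U (nat_lit 5760) (Step.L (Step.L (Step.L (Step.D (nat_lit 8883) Step.done))))) (Scr.cons (nat_lit 12) (nat_lit 1) (Step.U (nat_lit 5760) (Step.L (Step.L (Step.D (nat_lit 5760) (Step.D (nat_lit 8884)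 Step.done))))) (Scr.cons (nat_lit 12) (nat_lit 1) (Step.F (nat_lit 12349) (Step.D (nat_lit 8884) (Step.F (nat_lit 12350) (Step.B (nat_lit 12349) (Step.D (nat_lit 11535) Step.done))))) (Scr.cons (nat_lit 11) (nat_lit 0) (Step.U (nat_lit 3252) (Step.L (Step.D (nat_lit 1634) (Step.D (nat_lit 3251) (Step.D (nat_lit 5763) Step.done))))) (Scr.cons (nat_lit 12) (nat_lit 1) (Step.F (nat_lit 12352) (Step.D (nat_lit 5764) (Step.F (nat_lit 12298) (Step.B (nat_lit 12352) (Step.D (nat_lit 8887) Step.done))))) (Scr.cons (nat_lit 14) (nat_lit 2) (Step.F (nat_lit 12351) (Step.F (nat_lit 12349) (Step.U (nat_lit 5760) (Step.L (Step.L (Step.L (Step.L (Step.L (Step.L (Step.L (Step.L (Step.L (Step.L (Step.L (Step.L (Step.D (nat_lit 1634) (Step.D (nat_lit 3251) (Step.D (nat_lit 5763) (Step.B (nat_lit 12353) (Step.D (nat_lit 11536) Step.done)))))))))))))))))))) (Scr.cons (nat_lit 4) (nat_lit 0) (Step.U (nat_lit 11539) (Step.U (nat_lit 8890) (Step.D (nat_lit 8891) (Step.B (nat_lit 12308) (Step.D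 (nat_lit 11960) Step.done))))) (Scr.cons (nat_lit 1) (nat_lit 1) (Step.B (nat_lit 12355) (Step.B (nat_lit 12309) Step.done)) (Scr.cons (nat_lit 12) (nat_lit 1) (Step.L (Step.L (Step.L (Step.L (Step.D (nat_lit 10775) Step.done))))) (Scr.cons (nat_lit 13) (nat_lit 0) (Step.L (Step.L (Step.L (Step.L (Step.L (Step.L (Step.L (Step.L (Step.L (Step.D (nat_lit 7858) (Step.D (nat_lit 10856) Step.done))))))))))) (Scr.cons (nat_lit 16) (nat_lit 4) (Step.U (nat_lit 11537) (Step.F (nat_lit 12353) (Step.F (nat_lit 12352) (Step.D (nat_lit 5764) (Step.D (nat_lit 8890) (Step.D (nat_lit 11539) (Step.B (nat_lit 12356) (Step.F (nat_lit 12357) (Step.L (Step.L (Step.L (Step.L (Step.L (Step.L (Step.L (Step.L (Step.L (Step.L (Step.L (Step.L (Step.L (Step.B (nat_lit 12358) (Step.D (nat_lit 11978) Step.done))))))))))))))))))))))) (Scr.cons (nat_lit 4) (nat_lit 0) (Step.U (nat_lit 11536) (Step.D (nat_lit 11537) (Step.B (nat_lit 12359) (Step.U (nat_lit 11978) (Step.U (nat_lit 10856) (Step.D (nat_lit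 10857) Step.done)))))) (Scr.cons (nat_lit 1) (nat_lit 1) (Step.B (nat_lit 12354) (Step.B (nat_lit 12360) (Step.U (nat_lit 10857) Step.done))) (Scr.cons (nat_lit 12) (nat_lit 1) (Step.L (Step.L (Step.L (Step.L (Step.D (nat_lit 7858) Step.done))))) Scr.nil))))))))))))))))))))))))))))))))))))))))
noncomputable def s309 : Scr := (Scr.cons (nat_lit 0) (nat_lit 1) (Step.B (nat_lit 12351) (Step.B (nat_lit 12361) (Step.F (nat_lit 12362) Step.done))) (Scr.cons (nat_lit 1) (nat_lit 0) (Step.D (nat_lit 8883) (Step.B (nat_lit 12363) (Step.D (nat_lit 7859) Step.done))) (Scr.cons (nat_lit 1) (nat_lit 0) (Step.D (nat_lit 7859) (Step.F (nat_lit 12364) Step.done)) (Scr.cons (nat_lit 6) (nat_lit 1) (Step.L (Step.L (Step.L (Step.L (Step.L (Step.L (Step.L (Step.L (Step.L (Step.L (Step.D (nat_lit 11967) Step.done))))))))))) (Scr.cons (nat_lit 16) (nat_lit 5) (Step.B (nat_lit 12366) (Step.U (nat_lit 11967) (Step.L (Step.L (Step.L (Step.L (Step.L (Step.L (Step.L (Step.L (Step.L (Step.L (Step.L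 (Step.L (Step.L (Step.L (Step.L (Step.L (Step.L (Step.L (Step.L (Step.L (Step.L Step.done))))))))))))))))))))))) (Scr.cons (nat_lit 6) (nat_lit 3) (Step.L (Step.L (Step.L (Step.L (Step.L (Step.L (Step.L (Step.L (Step.L (Step.B (nat_lit 12362) (Step.D (nat_lit 10856) Step.done))))))))))) (Scr.cons (nat_lit 12) (nat_lit 4) (Step.L (Step.B (nat_lit 12358) (Step.F (nat_lit 12368) (Step.L (Step.L Step.done))))) (Scr.cons (nat_lit 0) (nat_lit 0) (Step.B (nat_lit 7495) (Step.F (nat_lit 12301) Step.done)) (Scr.cons (nat_lit 1) (nat_lit 1) (Step.D (nat_lit 11536) (Step.B (nat_lit 12360) Step.done)) (Scr.cons (nat_lit 14) (nat_lit 3) (Step.L (Step.L (Step.L (Step.L (Step.L (Step.L (Step.L (Step.L (Step.L (Step.L (Step.B (nat_lit 12370) (Step.D (nat_lit 3251) (Step.D (nat_lit 5763) (Step.D (nat_lit 8887) (Step.B (nat_lit 12371) (Step.U (nat_lit 10857) (Step.D (nat_lit 10856) (Step.F (nat_lit 12358) (Step.L (Step.L Step.done)))))))))))))))))))) (Scr.cons (nat_lit 12) (nat_lit 4)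 (Step.L (Step.L (Step.L (Step.L (Step.D (nat_lit 2857) Step.done))))) (Scr.cons (nat_lit 12) (nat_lit 1) (Step.L (Step.L (Step.L (Step.L (Step.D (nat_lit 4673) Step.done))))) (Scr.cons (nat_lit 12) (nat_lit 4) (Step.U (nat_lit 7634) (Step.F (nat_lit 12374) (Step.D (nat_lit 4673) (Step.D (nat_lit 7634) (Step.D (nat_lit 10662) Step.done))))) (Scr.cons (nat_lit 11) (nat_lit 0) (Step.U (nat_lit 1246) (Step.U (nat_lit 499) (Step.D (nat_lit 498) (Step.D (nat_lit 1244) (Step.D (nat_lit 2564) Step.done))))) (Scr.cons (nat_lit 1) (nat_lit 1) (Step.U (nat_lit 2564) (Step.F (nat_lit 5015) (Step.D (nat_lit 1393) Step.done))) (Scr.cons (nat_lit 1) (nat_lit 0) (Step.B (nat_lit 12376) (Step.B (nat_lit 12377) Step.done)) (Scr.cons (nat_lit 11) (nat_lit 0) (Step.U (nat_lit 10888) (Step.B (nat_lit 4970) (Step.U (nat_lit 10723) (Step.D (nat_lit 10722) (Step.D (nat_lit 11958) Step.done))))) (Scr.cons (nat_lit 12) (nat_lit 1) (Step.U (nat_lit 10888) (Step.F (nat_lit 4967) (Step.D (nat_lit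 7893) (Step.D (nat_lit 10888) (Step.D (nat_lit 11990) Step.done))))) (Scr.cons (nat_lit 4) (nat_lit 0) (Step.U (nat_lit 4894) (Step.U (nat_lit 2678) (Step.L (Step.L (Step.D (nat_lit 7863) Step.done))))) (Scr.cons (nat_lit 16) (nat_lit 5) (Step.F (nat_lit 12380) (Step.U (nat_lit 10888) (Step.F (nat_lit 4967) (Step.B (nat_lit 12381) (Step.U (nat_lit 7863) (Step.L (Step.L (Step.L (Step.L (Step.L (Step.L (Step.L (Step.L (Step.L (Step.L (Step.L (Step.L (Step.L (Step.D (nat_lit 2528) (Step.D (nat_lit 4672) (Step.D (nat_lit 7633) (Step.D (nat_lit 10660) (Step.D (nat_lit 11943) Step.done))))))))))))))))))))))) (Scr.cons (nat_lit 11) (nat_lit 0) (Step.U (nat_lit 11945) (Step.U (nat_lit 10661) (Step.D (nat_lit 10660) (Step.D (nat_lit 11943) (Step.F (nat_lit 12382) Step.done))))) (Scr.cons (nat_lit 12) (nat_lit 1) (Step.L (Step.L (Step.L (Step.L (Step.D (nat_lit 2528) Step.done))))) (Scr.cons (nat_lit 12) (nat_lit 4) (Step.U (nat_lit 4672) (Step.F (nat_lit 12384) (Step.D (nat_lit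 2528) (Step.D (nat_lit 4672) (Step.D (nat_lit 7633) Step.done))))) (Scr.cons (nat_lit 13) (nat_lit 3) (Step.U (nat_lit 10662) (Step.U (nat_lit 7634) (Step.F (nat_lit 12374) (Step.L (Step.L (Step.L (Step.D (nat_lit 2528) (Step.D (nat_lit 4672) (Step.B (nat_lit 12385) (Step.D (nat_lit 10661) (Step.D (nat_lit 11944) Step.done))))))))))) (Scr.cons (nat_lit 14) (nat_lit 6) (Step.L (Step.L (Step.L (Step.L (Step.D (nat_lit 577) (Step.D (nat_lit 1393) (Step.F (nat_lit 12378) (Step.U (nat_lit 1246) (Step.B (nat_lit 369) (Step.D (nat_lit 2565) (Step.D (nat_lit 4725) (Step.D (nat_lit 7702) (Step.D (nat_lit 10722) (Step.D (nat_lit 11958) (Step.F (nat_lit 12379) (Step.B (nat_lit 12380) (Step.F (nat_lit 12383) (Step.U (nat_lit 11945) (Step.D (nat_lit 11944) (Step.F (nat_lit 12386) (Step.D (nat_lit 11946) Step.done))))))))))))))))))))) (Scr.cons (nat_lit 11) (nat_lit 0) (Step.U (nat_lit 1406) (Step.L (Step.L (Step.L (Step.D (nat_lit 2858) Step.done))))) (Scr.cons (nat_lit 12) (nat_lit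 1) (Step.U (nat_lit 1406) (Step.L (Step.L (Step.D (nat_lit 1406) (Step.D (nat_lit 2859) Step.done))))) (Scr.cons (nat_lit 12) (nat_lit 1) (Step.F (nat_lit 12388) (Step.D (nat_lit 2859) (Step.F (nat_lit 12389) (Step.B (nat_lit 12388) (Step.D (nat_lit 5159) Step.done))))) (Scr.cons (nat_lit 7) (nat_lit 5) (Step.F (nat_lit 12390) (Step.U (nat_lit 2858) (Step.L (Step.L (Step.L (Step.L (Step.L (Step.L (Step.L (Step.L (Step.L (Step.L (Step.L (Step.L (Step.L (Step.L (Step.L (Step.L (Step.L (Step.L Step.done)))))))))))))))))))) (Scr.cons (nat_lit 1) (nat_lit 0) (Step.D (nat_lit 11946) (Step.F (nat_lit 12387) (Step.F (nat_lit 12391) Step.done))) (Scr.cons (nat_lit 0) (nat_lit 1) (Step.B (nat_lit 12375) (Step.B (nat_lit 12392) (Step.F (nat_lit 12390) Step.done))) (Scr.cons (nat_lit 1) (nat_lit 0) (Step.D (nat_lit 7634) (Step.B (nat_lit 12393) (Step.U (nat_lit 2858) Step.done))) (Scr.cons (nat_lit 0) (nat_lit 1) (Step.B (nat_lit 12374) (Step.B (nat_lit 12394) (Step.D (nat_lit 2857)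 Step.done))) (Scr.cons (nat_lit 0) (nat_lit 0) (Step.B (nat_lit 12373) (Step.F (nat_lit 12395) Step.done)) (Scr.cons (nat_lit 12) (nat_lit 1) (Step.L (Step.L (Step.L (Step.L (Step.D (nat_lit 10680) Step.done))))) (Scr.cons (nat_lit 12) (nat_lit 1) (Step.L (Step.L (Step.L (Step.L (Step.D (nat_lit 8135) Step.done))))) (Scr.cons (nat_lit 12) (nat_lit 1) (Step.L (Step.L (Step.L (Step.L (Step.D (nat_lit 11113) Step.done))))) (Scr.cons (nat_lit 7) (nat_lit 5) (Step.F (nat_lit 12399) (Step.L (Step.L (Step.L (Step.L (Step.L (Step.L (Step.L (Step.L (Step.L (Step.L (Step.L (Step.L (Step.L (Step.L (Step.L (Step.L (Step.L (Step.B (nat_lit 12398) (Step.D (nat_lit 11110) Step.done)))))))))))))))))))) (Scr.cons (nat_lit 12) (nat_lit 1) (Step.L (Step.L (Step.L (Step.L (Step.D (nat_lit 1225) Step.done))))) (Scr.cons (nat_lit 14) (nat_lit 2) (Step.F (nat_lit 12384) (Step.L (Step.L (Step.L (Step.L (Step.L (Step.L (Step.L (Step.L (Step.L (Step.L (Step.L (Step.L (Step.L (Step.L (Step.L (Step.L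 (Step.L (Step.B (nat_lit 12401) (Step.D (nat_lit 2534) Step.done)))))))))))))))))))) Scr.nil))))))))))))))))))))))))))))))))))))))))
noncomputable def s310 : Scr := (Scr.cons (nat_lit 4) (nat_lit 0) (Step.U (nat_lit 4672) (Step.B (nat_lit 12402) (Step.U (nat_lit 2534) (Step.D (nat_lit 2535) (Step.D (nat_lit 4679) Step.done))))) (Scr.cons (nat_lit 12) (nat_lit 1) (Step.U (nat_lit 10661) (Step.F (nat_lit 12385) (Step.D (nat_lit 7633) (Step.D (nat_lit 10661) (Step.D (nat_lit 11944) Step.done))))) (Scr.cons (nat_lit 1) (nat_lit 0) (Step.F (nat_lit 12386) (Step.B (nat_lit 12392) (Step.D (nat_lit 8169) Step.done))) (Scr.cons (nat_lit 0) (nat_lit 1) (Step.B (nat_lit 12404) (Step.B (nat_lit 12405) (Step.D (nat_lit 11140) Step.done))) (Scr.cons (nat_lit 0) (nat_lit 1) (Step.D (nat_lit 11140) (Step.F (nat_lit 12406) Step.done)) (Scr.cons (nat_lit 4) (nat_lit 0) (Step.U (nat_lit 8139) (Step.U (nat_lit 5123) (Step.L (Step.F (nat_lit 12391) (Step.D (nat_lit 8169) Step.done))))) (Scr.cons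 (nat_lit 9) (nat_lit 4) (Step.U (nat_lit 10674) (Step.L (Step.L (Step.L (Step.L (Step.L (Step.L (Step.B (nat_lit 12401) (Step.D (nat_lit 2535) (Step.D (nat_lit 4679) (Step.F (nat_lit 12403) (Step.B (nat_lit 12385) (Step.D (nat_lit 10661) (Step.F (nat_lit 12407) (Step.F (nat_lit 12408) (Step.U (nat_lit 8139) (Step.U (nat_lit 5123) (Step.L (Step.L (Step.L (Step.L (Step.L (Step.L (Step.B (nat_lit 12399) Step.done)))))))))))))))))))))))) (Scr.cons (nat_lit 4) (nat_lit 0) (Step.U (nat_lit 10674) (Step.L (Step.L (Step.L (Step.D (nat_lit 10681) Step.done))))) (Scr.cons (nat_lit 1) (nat_lit 1) (Step.F (nat_lit 12400) (Step.F (nat_lit 12409) (Step.B (nat_lit 12410) Step.done))) (Scr.cons (nat_lit 1) (nat_lit 1) (Step.D (nat_lit 11110) (Step.B (nat_lit 12411) (Step.U (nat_lit 10681) Step.done))) (Scr.cons (nat_lit 0) (nat_lit 1) (Step.B (nat_lit 12398) (Step.B (nat_lit 12412) (Step.D (nat_lit 10680) Step.done))) (Scr.cons (nat_lit 0) (nat_lit 0) (Step.B (nat_lit 12397) (Step.F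 (nat_lit 12413) Step.done)) (Scr.cons (nat_lit 12) (nat_lit 4) (Step.L (Step.L (Step.L (Step.L (Step.D (nat_lit 11547) Step.done))))) (Scr.cons (nat_lit 12) (nat_lit 1) (Step.L (Step.L (Step.L (Step.L (Step.D (nat_lit 11093) Step.done))))) (Scr.cons (nat_lit 7) (nat_lit 0) (Step.L (Step.L (Step.L (Step.L (Step.L (Step.L (Step.L (Step.L (Step.L (Step.L (Step.L (Step.L (Step.L (Step.L (Step.L (Step.L (Step.L (Step.L (Step.D (nat_lit 2542) (Step.D (nat_lit 4686) Step.done)))))))))))))))))))) (Scr.cons (nat_lit 11) (nat_lit 0) (Step.U (nat_lit 2542) (Step.L (Step.L (Step.D (nat_lit 2541) (Step.D (nat_lit 4685) Step.done))))) (Scr.cons (nat_lit 12) (nat_lit 1) (Step.U (nat_lit 2542) (Step.L (Step.L (Step.D (nat_lit 2542) (Step.D (nat_lit 4686) Step.done))))) (Scr.cons (nat_lit 12) (nat_lit 1) (Step.F (nat_lit 12418) (Step.D (nat_lit 4686) (Step.F (nat_lit 12419) (Step.B (nat_lit 12418) (Step.D (nat_lit 7654) Step.done))))) (Scr.cons (nat_lit 12) (nat_lit 4) (Step.U (nat_lit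 10683) (Step.F (nat_lit 12420) (Step.D (nat_lit 7654) (Step.D (nat_lit 10683) (Step.D (nat_lit 11954) Step.done))))) (Scr.cons (nat_lit 11) (nat_lit 0) (Step.U (nat_lit 5119) (Step.L (Step.L (Step.D (nat_lit 5118) (Step.D (nat_lit 8133) Step.done))))) (Scr.cons (nat_lit 16) (nat_lit 3) (Step.F (nat_lit 12422) (Step.U (nat_lit 5119) (Step.L (Step.L (Step.L (Step.L (Step.L (Step.L (Step.L (Step.L (Step.L (Step.L (Step.L (Step.L (Step.L (Step.L (Step.L (Step.L (Step.L (Step.D (nat_lit 2541) (Step.D (nat_lit 4685) (Step.D (nat_lit 7654) (Step.D (nat_lit 10683) (Step.D (nat_lit 11954) Step.done)))))))))))))))))))))))) (Scr.cons (nat_lit 0) (nat_lit 1) (Step.B (nat_lit 12421) (Step.F (nat_lit 12423) (Step.D (nat_lit 11109) Step.done))) (Scr.cons (nat_lit 0) (nat_lit 1) (Step.D (nat_lit 11109) (Step.F (nat_lit 12424) Step.done)) (Scr.cons (nat_lit 14) (nat_lit 4) (Step.L (Step.L (Step.L (Step.L (Step.L (Step.L (Step.L (Step.L (Step.L (Step.L (Step.L (Step.L (Step.L (Step.L (Step.L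 (Step.L (Step.L (Step.L (Step.D (nat_lit 5118) (Step.D (nat_lit 8132) Step.done)))))))))))))))))))) (Scr.cons (nat_lit 13) (nat_lit 1) (Step.L (Step.L (Step.B (nat_lit 12417) (Step.U (nat_lit 4686) (Step.B (nat_lit 12418) (Step.D (nat_lit 7654) (Step.D (nat_lit 10683) (Step.F (nat_lit 12425) (Step.U (nat_lit 8133) (Step.D (nat_lit 8132) (Step.F (nat_lit 12426) (Step.B (nat_lit 12416) Step.done)))))))))))) (Scr.cons (nat_lit 0) (nat_lit 1) (Step.B (nat_lit 12416) (Step.F (nat_lit 12427) (Step.D (nat_lit 11547) Step.done))) (Scr.cons (nat_lit 0) (nat_lit 0) (Step.B (nat_lit 12415) (Step.F (nat_lit 12428) Step.done)) (Scr.cons (nat_lit 0) (nat_lit 1) (Step.B (nat_lit 12399) (Step.F (nat_lit 12409) (Step.D (nat_lit 11950) Step.done))) (Scr.cons (nat_lit 0) (nat_lit 1) (Step.D (nat_lit 11950) (Step.F (nat_lit 12430) Step.done)) (Scr.cons (nat_lit 13) (nat_lit 0) (Step.L (Step.L (Step.L (Step.L (Step.F (nat_lit 12431) (Step.U (nat_lit 10674) (Step.L (Step.L (Step.L (Step.L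 (Step.L (Step.D (nat_lit 11951) Step.done)))))))))))) (Scr.cons (nat_lit 1) (nat_lit 0) (Step.D (nat_lit 11951) (Step.F (nat_lit 12432) (Step.D (nat_lit 10941) Step.done))) (Scr.cons (nat_lit 1) (nat_lit 0) (Step.D (nat_lit 10941) (Step.F (nat_lit 12433) Step.done)) (Scr.cons (nat_lit 8) (nat_lit 1) (Step.L (Step.L (Step.L (Step.L (Step.B (nat_lit 4694) (Step.F (nat_lit 5008) (Step.U (nat_lit 4901) (Step.L (Step.L (Step.L (Step.L (Step.L (Step.L (Step.L (Step.L Step.done))))))))))))))) (Scr.cons (nat_lit 12) (nat_lit 4) (Step.L (Step.L (Step.L (Step.L (Step.D (nat_lit 10908) Step.done))))) (Scr.cons (nat_lit 12) (nat_lit 4) (Step.L (Step.D (nat_lit 10908) (Step.F (nat_lit 12436) (Step.L (Step.L Step.done))))) (Scr.cons (nat_lit 12) (nat_lit 4) (Step.U (nat_lit 1149) (Step.F (nat_lit 2409) (Step.D (nat_lit 451) (Step.D (nat_lit 1149) (Step.D (nat_lit 2389) Step.done))))) (Scr.cons (nat_lit 12) (nat_lit 4) (Step.U (nat_lit 4439) (Step.F (nat_lit 12438) (Step.D (nat_lit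 2389) (Step.D (nat_lit 4439) (Step.D (nat_lit 7364) Step.done))))) (Scr.cons (nat_lit 12) (nat_lit 4) (Step.U (nat_lit 7365) (Step.D (nat_lit 7364) (Step.F (nat_lit 12439) (Step.D (nat_lit 7365) (Step.D (nat_lit 10428) Step.done))))) (Scr.cons (nat_lit 12) (nat_lit 1) (Step.U (nat_lit 1321) (Step.L (Step.L (Step.D (nat_lit 1321) (Step.D (nat_lit 2707) Step.done))))) (Scr.cons (nat_lit 16) (nat_lit 4) (Step.U (nat_lit 4946) (Step.F (nat_lit 12441) (Step.U (nat_lit 1321) (Step.L (Step.L (Step.L (Step.L (Step.L (Step.L (Step.L (Step.L (Step.L (Step.L (Step.L (Step.L (Step.L (Step.L (Step.L (Step.L (Step.L (Step.L (Step.L (Step.D (nat_lit 7925) Step.done))))))))))))))))))))))) Scr.nil))))))))))))))))))))))))))))))))))))))))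
noncomputable def s311 : Scr := (Scr.cons (nat_lit 12) (nat_lit 1) (Step.U (nat_lit 4946) (Step.F (nat_lit 12441) (Step.D (nat_lit 2707) (Step.D (nat_lit 4946) (Step.D (nat_lit 7958) Step.done))))) (Scr.cons (nat_lit 12) (nat_lit 1) (Step.F (nat_lit 12442) (Step.D (nat_lit 7958) (Step.F (nat_lit 12443) (Step.B (nat_lit 12442) (Step.D (nat_lit 10911) Step.done))))) (Scr.cons (nat_lit 13) (nat_lit 0) (Step.U (nat_lit 537) (Step.F (nat_lit 7686) (Step.L (Step.L (Step.L (Step.L (Step.L (Step.L (Step.L (Step.L (Step.D (nat_lit 1263) Step.done))))))))))) (Scr.cons (nat_lit 8) (nat_lit 1) (Step.U (nat_lit 2864) (Step.U (nat_lit 1411) (Step.B (nat_lit 7547) (Step.D (nat_lit 2863) (Step.F (nat_lit 7645) (Step.U (nat_lit 2592) (Step.F (nat_lit 12445) (Step.U (nat_lit 537) (Step.U (nat_lit 188) (Step.L (Step.L (Step.D (nat_lit 1321) (Step.B (nat_lit 12441) (Step.D (nat_lit 4946) (Step.B (nat_lit 12443) (Step.D (nat_lit 10944) Step.done)))))))))))))))) (Scr.cons (nat_lit 1) (nat_lit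 1) (Step.D (nat_lit 10944) (Step.F (nat_lit 12446) (Step.D (nat_lit 5165) Step.done))) (Scr.cons (nat_lit 0) (nat_lit 1) (Step.B (nat_lit 12443) (Step.B (nat_lit 12447) (Step.D (nat_lit 8179) Step.done))) (Scr.cons (nat_lit 0) (nat_lit 1) (Step.D (nat_lit 8179) (Step.F (nat_lit 12448) Step.done)) (Scr.cons (nat_lit 12) (nat_lit 1) (Step.U (nat_lit 586) (Step.L (Step.L (Step.D (nat_lit 586) (Step.D (nat_lit 1412) Step.done))))) (Scr.cons (nat_lit 12) (nat_lit 1) (Step.F (nat_lit 7544) (Step.D (nat_lit 1412) (Step.F (nat_lit 12450) (Step.B (nat_lit 7544) (Step.D (nat_lit 2864) Step.done))))) (Scr.cons (nat_lit 12) (nat_lit 1) (Step.U (nat_lit 2866) (Step.F (nat_lit 12450) (Step.D (nat_lit 1412) (Step.D (nat_lit 2866) (Step.D (nat_lit 5169) Step.done))))) (Scr.cons (nat_lit 12) (nat_lit 1) (Step.U (nat_lit 8184) (Step.F (nat_lit 12452) (Step.D (nat_lit 5169) (Step.D (nat_lit 8184) (Step.D (nat_lit 11152) Step.done))))) (Scr.cons (nat_lit 12) (nat_lit 4) (Step.U (nat_lit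 1416) (Step.L (Step.L (Step.D (nat_lit 1416) (Step.D (nat_lit 2872) Step.done))))) (Scr.cons (nat_lit 6) (nat_lit 3) (Step.U (nat_lit 4956) (Step.U (nat_lit 2719) (Step.U (nat_lit 1332) (Step.F (nat_lit 7498) (Step.B (nat_lit 7497) (Step.B (nat_lit 7499) (Step.D (nat_lit 2717) (Step.F (nat_lit 7501) (Step.U (nat_lit 2873) (Step.B (nat_lit 12454) (Step.D (nat_lit 5184) Step.done))))))))))) (Scr.cons (nat_lit 15) (nat_lit 1) (Step.F (nat_lit 12453) (Step.U (nat_lit 8184) (Step.F (nat_lit 12452) (Step.U (nat_lit 2866) (Step.F (nat_lit 12450) (Step.U (nat_lit 586) (Step.L (Step.L (Step.L (Step.D (nat_lit 1416) (Step.D (nat_lit 2872) (Step.D (nat_lit 5184) (Step.F (nat_lit 12455) (Step.D (nat_lit 7968) (Step.D (nat_lit 10951) Step.done))))))))))))))) (Scr.cons (nat_lit 1) (nat_lit 0) (Step.D (nat_lit 2873) (Step.B (nat_lit 7607) (Step.L Step.done))) (Scr.cons (nat_lit 0) (nat_lit 1) (Step.U (nat_lit 2872) (Step.B (nat_lit 12457) (Step.L Step.done))) (Scr.cons (nat_lit 1) (nat_lit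 1) (Step.U (nat_lit 5184) (Step.B (nat_lit 12458) (Step.L Step.done))) (Scr.cons (nat_lit 0) (nat_lit 1) (Step.B (nat_lit 12455) (Step.B (nat_lit 12459) (Step.L Step.done))) (Scr.cons (nat_lit 1) (nat_lit 1) (Step.U (nat_lit 7968) (Step.B (nat_lit 12460) (Step.L Step.done))) (Scr.cons (nat_lit 0) (nat_lit 1) (Step.U (nat_lit 10951) (Step.B (nat_lit 12461) (Step.D (nat_lit 451) Step.done))) (Scr.cons (nat_lit 1) (nat_lit 1) (Step.B (nat_lit 12456) (Step.B (nat_lit 12462) (Step.D (nat_lit 1149) Step.done))) (Scr.cons (nat_lit 0) (nat_lit 1) (Step.B (nat_lit 12453) (Step.B (nat_lit 12463) (Step.D (nat_lit 2389) Step.done))) (Scr.cons (nat_lit 1) (nat_lit 1) (Step.D (nat_lit 8184) (Step.B (nat_lit 12464) (Step.D (nat_lit 4439) Step.done))) (Scr.cons (nat_lit 0) (nat_lit 1) (Step.D (nat_lit 5169) (Step.B (nat_lit 12465) Step.done)) (Scr.cons (nat_lit 13) (nat_lit 1) (Step.F (nat_lit 12444) (Step.F (nat_lit 12442) (Step.F (nat_lit 12449) (Step.U (nat_lit 5165) (Step.F (nat_lit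 12451) (Step.F (nat_lit 7544) (Step.B (nat_lit 12450) (Step.D (nat_lit 2866) (Step.B (nat_lit 12466) (Step.D (nat_lit 7365) (Step.B (nat_lit 12440) Step.done))))))))))) (Scr.cons (nat_lit 12) (nat_lit 1) (Step.L (Step.L (Step.L (Step.L (Step.D (nat_lit 7924) Step.done))))) (Scr.cons (nat_lit 8) (nat_lit 1) (Step.U (nat_lit 10429) (Step.B (nat_lit 12440) (Step.F (nat_lit 12467) (Step.U (nat_lit 10911) (Step.U (nat_lit 7925) (Step.L (Step.L (Step.L (Step.L (Step.L (Step.L (Step.L (Step.L (Step.B (nat_lit 12468) (Step.D (nat_lit 10910) Step.done))))))))))))))) (Scr.cons (nat_lit 5) (nat_lit 1) (Step.F (nat_lit 12469) (Step.U (nat_lit 10429) (Step.B (nat_lit 12440) (Step.U (nat_lit 10428) (Step.D (nat_lit 10429) Step.done))))) (Scr.cons (nat_lit 14) (nat_lit 4) (Step.L (Step.L (Step.L (Step.L (Step.L (Step.L (Step.L (Step.L (Step.L (Step.L (Step.F (nat_lit 2425) (Step.D (nat_lit 1149) (Step.D (nat_lit 2389) (Step.D (nat_lit 4439) (Step.D (nat_lit 7365) (Step.D (nat_lit 10429)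 (Step.F (nat_lit 12470) (Step.U (nat_lit 10910) (Step.D (nat_lit 10909) (Step.D (nat_lit 11992) Step.done)))))))))))))))))))) (Scr.cons (nat_lit 11) (nat_lit 0) (Step.F (nat_lit 12471) (Step.L (Step.L (Step.L (Step.L Step.done))))) (Scr.cons (nat_lit 13) (nat_lit 2) (Step.F (nat_lit 12472) (Step.U (nat_lit 11992) (Step.U (nat_lit 10909) (Step.F (nat_lit 12468) (Step.L (Step.L (Step.L (Step.L (Step.L (Step.L (Step.L Step.done))))))))))) (Scr.cons (nat_lit 12) (nat_lit 4) (Step.L (Step.L (Step.L (Step.L (Step.D (nat_lit 10915) Step.done))))) (Scr.cons (nat_lit 12) (nat_lit 4) (Step.L (Step.D (nat_lit 10915) (Step.F (nat_lit 12474) (Step.L (Step.L Step.done))))) (Scr.cons (nat_lit 11) (nat_lit 0) (Step.U (nat_lit 7660) (Step.L (Step.L (Step.L (Step.D (nat_lit 10688) Step.done))))) (Scr.cons (nat_lit 6) (nat_lit 1) (Step.L (Step.L (Step.L (Step.L (Step.L (Step.L (Step.L (Step.L (Step.D (nat_lit 1634) (Step.D (nat_lit 3250) (Step.D (nat_lit 5762) Step.done))))))))))) (Scr.cons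 (nat_lit 12) (nat_lit 1) (Step.U (nat_lit 7660) (Step.B (nat_lit 12477) (Step.F (nat_lit 4706) (Step.D (nat_lit 7660) (Step.D (nat_lit 10689) Step.done))))) (Scr.cons (nat_lit 12) (nat_lit 1) (Step.F (nat_lit 12476) (Step.D (nat_lit 10689) (Step.F (nat_lit 12478) (Step.B (nat_lit 12476) (Step.D (nat_lit 11956) Step.done))))) (Scr.cons (nat_lit 1) (nat_lit 1) (Step.D (nat_lit 10946) (Step.F (nat_lit 8511) Step.done)) (Scr.cons (nat_lit 12) (nat_lit 4) (Step.L (Step.L (Step.L (Step.L (Step.D (nat_lit 7939) Step.done))))) (Scr.cons (nat_lit 13) (nat_lit 3) (Step.U (nat_lit 10924) (Step.L (Step.L (Step.L (Step.L (Step.L (Step.L (Step.L (Step.B (nat_lit 12481) (Step.D (nat_lit 10923) (Step.D (nat_lit 11993) Step.done))))))))))) Scr.nil))))))))))))))))))))))))))))))))))))))))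
noncomputable def s312 : Scr := (Scr.cons (nat_lit 14) (nat_lit 6) (Step.U (nat_lit 11956) (Step.F (nat_lit 12476) (Step.U (nat_lit 7660) (Step.L (Step.L (Step.L (Step.L (Step.L (Step.L (Step.L (Step.D (nat_lit 188) (Step.D (nat_lit 537) (Step.D (nat_lit 1322) (Step.D (nat_lit 2708) (Step.B (nat_lit 8498) (Step.D (nat_lit 7959) (Step.B (nat_lit 12480) (Step.D (nat_lit 11993) (Step.F (nat_lit 12482) (Step.D (nat_lit 11994) Step.done)))))))))))))))))))) (Scr.cons (nat_lit 12) (nat_lit 4) (Step.L (Step.L (Step.L (Step.L (Step.D (nat_lit 10924) Step.done))))) (Scr.cons (nat_lit 7) (nat_lit 3) (Step.L (Step.L (Step.L (Step.L (Step.L (Step.L (Step.L (Step.L (Step.L (Step.L (Step.L (Step.L (Step.D (nat_lit 7660) (Step.B (nat_lit 12476) (Step.B (nat_lit 12479) (Step.B (nat_lit 12483) (Step.U (nat_lit 11994) (Step.F (nat_lit 12484) (Step.L (Step.D (nat_lit 7940) (Step.D (nat_lit 10925) Step.done))))))))))))))))))))) (Scr.cons (nat_lit 1) (nat_lit 1) (Step.D (nat_lit 10925) (Step.F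 (nat_lit 12485) (Step.L Step.done))) (Scr.cons (nat_lit 1) (nat_lit 1) (Step.D (nat_lit 7940) (Step.B (nat_lit 12486) (Step.D (nat_lit 10690) Step.done))) (Scr.cons (nat_lit 1) (nat_lit 1) (Step.D (nat_lit 10690) (Step.F (nat_lit 12487) Step.done)) (Scr.cons (nat_lit 12) (nat_lit 4) (Step.L (Step.L (Step.L (Step.L (Step.D (nat_lit 10741) Step.done))))) (Scr.cons (nat_lit 12) (nat_lit 1) (Step.U (nat_lit 533) (Step.F (nat_lit 3482) (Step.D (nat_lit 185) (Step.D (nat_lit 533) (Step.D (nat_lit 1317) Step.done))))) (Scr.cons (nat_lit 16) (nat_lit 3) (Step.U (nat_lit 4941) (Step.U (nat_lit 2703) (Step.F (nat_lit 12490) (Step.U (nat_lit 533) (Step.F (nat_lit 3482) (Step.B (nat_lit 4954) (Step.U (nat_lit 171) (Step.U (nat_lit 46) (Step.L (Step.L (Step.L (Step.L (Step.L (Step.L (Step.L (Step.L (Step.L (Step.L (Step.L (Step.L (Step.L (Step.L (Step.D (nat_lit 7732) Step.done))))))))))))))))))))))) (Scr.cons (nat_lit 11) (nat_lit 0) (Step.F (nat_lit 12491) (Step.U (nat_lit 4941)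 (Step.U (nat_lit 2703) (Step.D (nat_lit 2702) (Step.D (nat_lit 4940) Step.done))))) (Scr.cons (nat_lit 12) (nat_lit 4) (Step.L (Step.L (Step.L (Step.L (Step.D (nat_lit 7732) Step.done))))) (Scr.cons (nat_lit 6) (nat_lit 0) (Step.U (nat_lit 7952) (Step.F (nat_lit 12492) (Step.F (nat_lit 12493) (Step.L (Step.L (Step.L (Step.L (Step.L (Step.L (Step.L (Step.D (nat_lit 10741) Step.done))))))))))) (Scr.cons (nat_lit 6) (nat_lit 3) (Step.U (nat_lit 2702) (Step.U (nat_lit 1317) (Step.U (nat_lit 533) (Step.F (nat_lit 3482) (Step.U (nat_lit 50) (Step.L (Step.L (Step.L (Step.L (Step.L (Step.D (nat_lit 4939) Step.done))))))))))) (Scr.cons (nat_lit 8) (nat_lit 1) (Step.L (Step.L (Step.L (Step.B (nat_lit 12489) (Step.F (nat_lit 12494) (Step.U (nat_lit 7952) (Step.U (nat_lit 4940) (Step.B (nat_lit 12495) (Step.U (nat_lit 4939) (Step.L (Step.L (Step.L (Step.L (Step.L (Step.L Step.done))))))))))))))) (Scr.cons (nat_lit 12) (nat_lit 1) (Step.L (Step.L (Step.L (Step.L (Step.D (nat_lit 10938)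 Step.done))))) (Scr.cons (nat_lit 12) (nat_lit 1) (Step.L (Step.D (nat_lit 10938) (Step.F (nat_lit 12497) (Step.L (Step.L Step.done))))) (Scr.cons (nat_lit 12) (nat_lit 4) (Step.L (Step.L (Step.L (Step.L (Step.D (nat_lit 10939) Step.done))))) (Scr.cons (nat_lit 12) (nat_lit 4) (Step.L (Step.D (nat_lit 10939) (Step.F (nat_lit 12499) (Step.L (Step.L Step.done))))) (Scr.cons (nat_lit 12) (nat_lit 1) (Step.L (Step.L (Step.L (Step.L (Step.D (nat_lit 7658) Step.done))))) (Scr.cons (nat_lit 13) (nat_lit 0) (Step.U (nat_lit 9025) (Step.F (nat_lit 8501) (Step.U (nat_lit 3313) (Step.U (nat_lit 1662) (Step.U (nat_lit 710) (Step.L (Step.L (Step.L (Step.L (Step.D (nat_lit 9022) (Step.D (nat_lit 11590) Step.done))))))))))) (Scr.cons (nat_lit 0) (nat_lit 1) (Step.F (nat_lit 12502) (Step.B (nat_lit 8510) (Step.D (nat_lit 10945) Step.done))) (Scr.cons (nat_lit 1) (nat_lit 1) (Step.D (nat_lit 11590) (Step.B (nat_lit 12503) Step.done)) (Scr.cons (nat_lit 14) (nat_lit 4) (Step.U (nat_lit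 11591) (Step.B (nat_lit 12504) (Step.U (nat_lit 10945) (Step.B (nat_lit 12480) (Step.U (nat_lit 10923) (Step.F (nat_lit 12481) (Step.L (Step.L (Step.L (Step.L (Step.L (Step.L (Step.L (Step.L (Step.L (Step.L (Step.L (Step.L (Step.L (Step.D (nat_lit 11995) Step.done)))))))))))))))))))) (Scr.cons (nat_lit 12) (nat_lit 4) (Step.U (nat_lit 7959) (Step.F (nat_lit 8498) (Step.D (nat_lit 4947) (Step.D (nat_lit 7959) (Step.D (nat_lit 10945) Step.done))))) (Scr.cons (nat_lit 16) (nat_lit 4) (Step.U (nat_lit 11955) (Step.U (nat_lit 10687) (Step.F (nat_lit 12501) (Step.L (Step.L (Step.L (Step.L (Step.L (Step.L (Step.L (Step.D (nat_lit 11995) (Step.F (nat_lit 12505) (Step.U (nat_lit 11591) (Step.B (nat_lit 12504) (Step.F (nat_lit 12506) (Step.B (nat_lit 12480) (Step.D (nat_lit 11993) (Step.F (nat_lit 12482) (Step.D (nat_lit 11994) (Step.F (nat_lit 12483) (Step.F (nat_lit 12479) (Step.F (nat_lit 12476) (Step.D (nat_lit 10689) (Step.D (nat_lit 11957) Step.done))))))))))))))))))))))))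 (Scr.cons (nat_lit 1) (nat_lit 1) (Step.D (nat_lit 11957) (Step.F (nat_lit 12507) Step.done)) (Scr.cons (nat_lit 7) (nat_lit 1) (Step.L (Step.L (Step.L (Step.L (Step.L (Step.L (Step.L (Step.L (Step.L (Step.L (Step.L (Step.D (nat_lit 7658) (Step.D (nat_lit 10687) (Step.D (nat_lit 11955) (Step.F (nat_lit 12508) (Step.U (nat_lit 10689) (Step.B (nat_lit 12476) (Step.U (nat_lit 10688) (Step.L (Step.L Step.done)))))))))))))))))))) (Scr.cons (nat_lit 12) (nat_lit 1) (Step.L (Step.L (Step.L (Step.L (Step.D (nat_lit 10947) Step.done))))) (Scr.cons (nat_lit 12) (nat_lit 1) (Step.L (Step.D (nat_lit 10947) (Step.F (nat_lit 12510) (Step.L (Step.L Step.done))))) (Scr.cons (nat_lit 7) (nat_lit 6) (Step.L (Step.L (Step.L (Step.L (Step.L (Step.L (Step.L (Step.L (Step.L (Step.L (Step.L (Step.L (Step.L (Step.L (Step.L (Step.L (Step.L (Step.L (Step.L (Step.D (nat_lit 8464) (Step.D (nat_lit 11323) Step.done))))))))))))))))))))) (Scr.cons (nat_lit 1) (nat_lit 0) (Step.D (nat_lit 11323) (Step.F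 (nat_lit 12512) Step.done)) (Scr.cons (nat_lit 4) (nat_lit 0) (Step.L (Step.L (Step.D (nat_lit 8464) (Step.B (nat_lit 12513) (Step.L Step.done))))) (Scr.cons (nat_lit 6) (nat_lit 1) (Step.L (Step.L (Step.L (Step.L (Step.L (Step.L (Step.L (Step.L (Step.L (Step.D (nat_lit 552) (Step.D (nat_lit 1349) Step.done))))))))))) (Scr.cons (nat_lit 12) (nat_lit 4) (Step.L (Step.L (Step.L (Step.L (Step.D (nat_lit 552) Step.done))))) (Scr.cons (nat_lit 15) (nat_lit 0) (Step.L (Step.L (Step.L (Step.L (Step.L (Step.B (nat_lit 12515) (Step.U (nat_lit 1349) (Step.F (nat_lit 12516) (Step.L (Step.L (Step.L (Step.L (Step.L (Step.L (Step.L Step.done))))))))))))))) (Scr.cons (nat_lit 12) (nat_lit 4) (Step.L (Step.L (Step.L (Step.L (Step.D (nat_lit 12001) Step.done))))) (Scr.cons (nat_lit 12) (nat_lit 4) (Step.L (Step.L (Step.L (Step.L (Step.D (nat_lit 11279) Step.done))))) (Scr.cons (nat_lit 11) (nat_lit 0) (Step.L (Step.L (Step.L (Step.L (Step.D (nat_lit 12002) Step.done))))) (Scr.cons (nat_lit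 14) (nat_lit 4) (Step.D (nat_lit 12002) (Step.F (nat_lit 12520) (Step.L (Step.L (Step.L (Step.L (Step.L (Step.L (Step.L (Step.L (Step.L (Step.L (Step.L (Step.L (Step.L (Step.L (Step.L (Step.L (Step.L (Step.L (Step.D (nat_lit 11279) Step.done))))))))))))))))))))) (Scr.cons (nat_lit 0) (nat_lit 1) (Step.B (nat_lit 12519) (Step.F (nat_lit 12521) (Step.D (nat_lit 12001) Step.done))) Scr.nil))))))))))))))))))))))))))))))))))))))))
noncomputable def s313 : Scr := (Scr.cons (nat_lit 0) (nat_lit 0) (Step.B (nat_lit 12518) (Step.F (nat_lit 12522) Step.done)) (Scr.cons (nat_lit 12) (nat_lit 4) (Step.L (Step.L (Step.L (Step.L (Step.D (nat_lit 11005) Step.done))))) (Scr.cons (nat_lit 12) (nat_lit 4) (Step.L (Step.D (nat_lit 11005) (Step.F (nat_lit 12524) (Step.L (Step.L Step.done))))) (Scr.cons (nat_lit 12) (nat_lit 4) (Step.L (Step.L (Step.L (Step.L (Step.D (nat_lit 11024) Step.done))))) (Scr.cons (nat_lit 12) (nat_lit 4) (Step.L (Step.D (nat_lit 11024) (Step.F (nat_lit 12526) (Step.L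 (Step.L Step.done))))) (Scr.cons (nat_lit 12) (nat_lit 1) (Step.L (Step.L (Step.L (Step.L (Step.D (nat_lit 11028) Step.done))))) (Scr.cons (nat_lit 12) (nat_lit 1) (Step.L (Step.D (nat_lit 11028) (Step.F (nat_lit 12528) (Step.L (Step.L Step.done))))) (Scr.cons (nat_lit 12) (nat_lit 4) (Step.L (Step.L (Step.L (Step.L (Step.D (nat_lit 11035) Step.done))))) (Scr.cons (nat_lit 12) (nat_lit 4) (Step.L (Step.D (nat_lit 11035) (Step.F (nat_lit 12530) (Step.L (Step.L Step.done))))) (Scr.cons (nat_lit 16) (nat_lit 4) (Step.U (nat_lit 11929) (Step.L (Step.L (Step.L (Step.L (Step.L (Step.L (Step.L (Step.L (Step.L (Step.L (Step.L (Step.L (Step.L (Step.L (Step.L (Step.L (Step.L (Step.L (Step.L (Step.L (Step.L (Step.D (nat_lit 12003) Step.done))))))))))))))))))))))) (Scr.cons (nat_lit 4) (nat_lit 0) (Step.L (Step.D (nat_lit 11929) (Step.B (nat_lit 12532) (Step.U (nat_lit 12003) (Step.L Step.done))))) (Scr.cons (nat_lit 12) (nat_lit 4) (Step.L (Step.L (Step.L (Step.L (Step.D (nat_lit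 11041) Step.done))))) (Scr.cons (nat_lit 13) (nat_lit 1) (Step.U (nat_lit 10578) (Step.L (Step.L (Step.L (Step.L (Step.L (Step.L (Step.L (Step.L (Step.L (Step.L (Step.B (nat_lit 12534) Step.done)))))))))))) (Scr.cons (nat_lit 0) (nat_lit 1) (Step.D (nat_lit 11041) (Step.F (nat_lit 12535) Step.done)) (Scr.cons (nat_lit 0) (nat_lit 0) (Step.B (nat_lit 12534) (Step.F (nat_lit 12535) Step.done)) (Scr.cons (nat_lit 12) (nat_lit 4) (Step.L (Step.B (nat_lit 12536) (Step.F (nat_lit 12537) (Step.L (Step.L Step.done))))) (Scr.cons (nat_lit 12) (nat_lit 1) (Step.L (Step.L (Step.L (Step.L (Step.D (nat_lit 11042) Step.done))))) (Scr.cons (nat_lit 12) (nat_lit 1) (Step.L (Step.D (nat_lit 11042) (Step.F (nat_lit 12539) (Step.L (Step.L Step.done))))) (Scr.cons (nat_lit 12) (nat_lit 4) (Step.L (Step.L (Step.L (Step.L (Step.D (nat_lit 11049) Step.done))))) (Scr.cons (nat_lit 12) (nat_lit 4) (Step.L (Step.D (nat_lit 11049) (Step.F (nat_lit 12541) (Step.L (Step.L Step.done))))) (Scr.cons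 (nat_lit 12) (nat_lit 4) (Step.L (Step.L (Step.L (Step.L (Step.D (nat_lit 11852) Step.done))))) (Scr.cons (nat_lit 12) (nat_lit 4) (Step.L (Step.L (Step.L (Step.L (Step.D (nat_lit 1367) Step.done))))) (Scr.cons (nat_lit 12) (nat_lit 4) (Step.U (nat_lit 2791) (Step.F (nat_lit 12544) (Step.D (nat_lit 1367) (Step.D (nat_lit 2791) (Step.D (nat_lit 5069) Step.done))))) (Scr.cons (nat_lit 12) (nat_lit 4) (Step.U (nat_lit 5070) (Step.D (nat_lit 5069) (Step.F (nat_lit 12545) (Step.D (nat_lit 5070) (Step.D (nat_lit 8087) Step.done))))) (Scr.cons (nat_lit 12) (nat_lit 1) (Step.U (nat_lit 11068) (Step.F (nat_lit 12546) (Step.D (nat_lit 8087) (Step.D (nat_lit 11068) (Step.D (nat_lit 12004) Step.done))))) (Scr.cons (nat_lit 11) (nat_lit 0) (Step.U (nat_lit 5072) (Step.U (nat_lit 2792) (Step.D (nat_lit 2791) (Step.D (nat_lit 5070) (Step.D (nat_lit 8088) Step.done))))) (Scr.cons (nat_lit 13) (nat_lit 0) (Step.U (nat_lit 5075) (Step.F (nat_lit 4387) (Step.U (nat_lit 1369) (Step.L (Step.L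 (Step.L (Step.L (Step.B (nat_lit 12544) (Step.D (nat_lit 2792) (Step.D (nat_lit 5071) (Step.D (nat_lit 8089) Step.done))))))))))) (Scr.cons (nat_lit 1) (nat_lit 1) (Step.B (nat_lit 4386) (Step.B (nat_lit 4454) (Step.L Step.done))) (Scr.cons (nat_lit 1) (nat_lit 1) (Step.D (nat_lit 2796) (Step.B (nat_lit 12550) (Step.L Step.done))) (Scr.cons (nat_lit 0) (nat_lit 1) (Step.U (nat_lit 2795) (Step.B (nat_lit 12551) (Step.L Step.done))) (Scr.cons (nat_lit 1) (nat_lit 1) (Step.U (nat_lit 5075) (Step.B (nat_lit 12552) (Step.D (nat_lit 1981) Step.done))) (Scr.cons (nat_lit 0) (nat_lit 1) (Step.F (nat_lit 12549) (Step.B (nat_lit 12553) (Step.D (nat_lit 3814) Step.done))) (Scr.cons (nat_lit 1) (nat_lit 0) (Step.D (nat_lit 8089) (Step.B (nat_lit 12554) (Step.D (nat_lit 6587) Step.done))) (Scr.cons (nat_lit 1) (nat_lit 0) (Step.D (nat_lit 6587) (Step.F (nat_lit 12555) Step.done)) (Scr.cons (nat_lit 12) (nat_lit 4) (Step.U (nat_lit 1981) (Step.L (Step.L (Step.D (nat_lit 1981) (Step.D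 (nat_lit 3814) Step.done))))) (Scr.cons (nat_lit 12) (nat_lit 1) (Step.U (nat_lit 6772) (Step.F (nat_lit 617) (Step.D (nat_lit 3951) (Step.D (nat_lit 6772) (Step.D (nat_lit 9938) Step.done))))) (Scr.cons (nat_lit 15) (nat_lit 1) (Step.F (nat_lit 12558) (Step.U (nat_lit 6772) (Step.F (nat_lit 617) (Step.L (Step.L (Step.L (Step.L (Step.L (Step.L (Step.L (Step.L (Step.D (nat_lit 956) (Step.D (nat_lit 2060) (Step.D (nat_lit 3955) (Step.D (nat_lit 6779) Step.done))))))))))))))) (Scr.cons (nat_lit 12) (nat_lit 4) (Step.L (Step.L (Step.L (Step.L (Step.D (nat_lit 5077) Step.done))))) (Scr.cons (nat_lit 12) (nat_lit 4) (Step.L (Step.D (nat_lit 5077) (Step.F (nat_lit 12560) (Step.L (Step.D (nat_lit 8092) Step.done))))) (Scr.cons (nat_lit 13) (nat_lit 3) (Step.U (nat_lit 9351) (Step.L (Step.L (Step.L (Step.L (Step.L (Step.L (Step.D (nat_lit 3527) (Step.B (nat_lit 1994) (Step.D (nat_lit 9344) (Step.D (nat_lit 11705) Step.done))))))))))) Scr.nil))))))))))))))))))))))))))))))))))))))))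
noncomputable def s314 : Scr := (Scr.cons (nat_lit 14) (nat_lit 5) (Step.F (nat_lit 12562) (Step.U (nat_lit 9351) (Step.L (Step.L (Step.L (Step.L (Step.L (Step.L (Step.L (Step.L (Step.L (Step.L (Step.L (Step.L (Step.L (Step.L (Step.L (Step.L (Step.D (nat_lit 8092) (Step.D (nat_lit 11071) Step.done)))))))))))))))))))) (Scr.cons (nat_lit 1) (nat_lit 0) (Step.D (nat_lit 9343) (Step.B (nat_lit 10005) (Step.L Step.done))) (Scr.cons (nat_lit 1) (nat_lit 0) (Step.U (nat_lit 9344) (Step.B (nat_lit 12564) (Step.L Step.done))) (Scr.cons (nat_lit 0) (nat_lit 1) (Step.U (nat_lit 11705) (Step.B (nat_lit 12565) (Step.L Step.done))) (Scr.cons (nat_lit 1) (nat_lit 0) (Step.F (nat_lit 12563) (Step.B (nat_lit 12566) (Step.L Step.done))) (Scr.cons (nat_lit 1) (nat_lit 0) (Step.D (nat_lit 11071) (Step.B (nat_lit 12567) (Step.L Step.done))) (Scr.cons (nat_lit 12) (nat_lit 4) (Step.U (nat_lit 6771) (Step.F (nat_lit 617) (Step.D (nat_lit 3951) (Step.D (nat_lit 6771) (Step.D (nat_lit 9937) Step.done)))))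 (Scr.cons (nat_lit 12) (nat_lit 4) (Step.L (Step.L (Step.L (Step.L (Step.D (nat_lit 9530) Step.done))))) (Scr.cons (nat_lit 13) (nat_lit 1) (Step.U (nat_lit 6771) (Step.F (nat_lit 617) (Step.L (Step.L (Step.L (Step.L (Step.L (Step.L (Step.L (Step.L (Step.L (Step.B (nat_lit 12570) Step.done)))))))))))) (Scr.cons (nat_lit 0) (nat_lit 1) (Step.B (nat_lit 12570) (Step.F (nat_lit 12571) (Step.D (nat_lit 9937) Step.done))) (Scr.cons (nat_lit 0) (nat_lit 0) (Step.B (nat_lit 12569) (Step.F (nat_lit 12572) Step.done)) (Scr.cons (nat_lit 0) (nat_lit 1) (Step.B (nat_lit 12561) (Step.B (nat_lit 12568) (Step.F (nat_lit 12573) Step.done))) (Scr.cons (nat_lit 1) (nat_lit 0) (Step.D (nat_lit 6771) (Step.F (nat_lit 12574) (Step.L Step.done))) (Scr.cons (nat_lit 1) (nat_lit 0) (Step.U (nat_lit 6772) (Step.B (nat_lit 12575) (Step.L Step.done))) (Scr.cons (nat_lit 0) (nat_lit 1) (Step.U (nat_lit 9938) (Step.B (nat_lit 12576) (Step.L Step.done))) (Scr.cons (nat_lit 1) (nat_lit 0) (Step.F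 (nat_lit 12559) (Step.B (nat_lit 12577) (Step.L Step.done))) (Scr.cons (nat_lit 0) (nat_lit 1) (Step.B (nat_lit 10027) (Step.B (nat_lit 12578) (Step.L Step.done))) (Scr.cons (nat_lit 1) (nat_lit 0) (Step.D (nat_lit 3955) (Step.B (nat_lit 12579) (Step.L Step.done))) (Scr.cons (nat_lit 0) (nat_lit 1) (Step.B (nat_lit 10026) (Step.B (nat_lit 12580) (Step.L Step.done))) (Scr.cons (nat_lit 1) (nat_lit 1) (Step.U (nat_lit 2061) (Step.B (nat_lit 12581) (Step.D (nat_lit 1981) Step.done))) (Scr.cons (nat_lit 1) (nat_lit 1) (Step.F (nat_lit 10018) (Step.B (nat_lit 12582) (Step.D (nat_lit 3815) Step.done))) (Scr.cons (nat_lit 1) (nat_lit 1) (Step.D (nat_lit 3815) (Step.F (nat_lit 12583) Step.done)) (Scr.cons (nat_lit 11) (nat_lit 0) (Step.L (Step.L (Step.D (nat_lit 956) (Step.D (nat_lit 2061) (Step.D (nat_lit 3956) Step.done))))) (Scr.cons (nat_lit 1) (nat_lit 0) (Step.B (nat_lit 12585) (Step.F (nat_lit 10017) Step.done)) (Scr.cons (nat_lit 6) (nat_lit 1) (Step.L (Step.L (Step.L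 (Step.L (Step.L (Step.L (Step.L (Step.L (Step.L (Step.D (nat_lit 954) (Step.D (nat_lit 2058) Step.done))))))))))) (Scr.cons (nat_lit 12) (nat_lit 4) (Step.L (Step.L (Step.L (Step.L (Step.D (nat_lit 954) Step.done))))) (Scr.cons (nat_lit 11) (nat_lit 0) (Step.L (Step.L (Step.L (Step.D (nat_lit 955) (Step.D (nat_lit 2059) Step.done))))) (Scr.cons (nat_lit 16) (nat_lit 5) (Step.F (nat_lit 12547) (Step.U (nat_lit 11068) (Step.F (nat_lit 12546) (Step.D (nat_lit 8088) (Step.F (nat_lit 12548) (Step.U (nat_lit 5072) (Step.D (nat_lit 5071) (Step.F (nat_lit 12556) (Step.F (nat_lit 12557) (Step.B (nat_lit 12584) (Step.F (nat_lit 12586) (Step.L (Step.B (nat_lit 12587) (Step.U (nat_lit 2058) (Step.F (nat_lit 12588) (Step.D (nat_lit 955) (Step.D (nat_lit 2059) (Step.F (nat_lit 12589) (Step.L (Step.L (Step.L (Step.L (Step.D (nat_lit 11853) Step.done))))))))))))))))))))))) (Scr.cons (nat_lit 11) (nat_lit 0) (Step.L (Step.L (Step.D (nat_lit 844) (Step.D (nat_lit 1850) (Step.D (nat_lit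 3601) Step.done))))) (Scr.cons (nat_lit 12) (nat_lit 1) (Step.F (nat_lit 12591) (Step.L (Step.L (Step.B (nat_lit 12591) (Step.D (nat_lit 6300) Step.done))))) (Scr.cons (nat_lit 15) (nat_lit 0) (Step.U (nat_lit 5078) (Step.F (nat_lit 400) (Step.L (Step.L (Step.L (Step.L (Step.L (Step.L (Step.L (Step.L (Step.L (Step.D (nat_lit 1367) (Step.D (nat_lit 2791) (Step.D (nat_lit 5069) (Step.D (nat_lit 8086) Step.done))))))))))))))) (Scr.cons (nat_lit 12) (nat_lit 4) (Step.U (nat_lit 8086) (Step.F (nat_lit 12545) (Step.D (nat_lit 5069) (Step.D (nat_lit 8086) (Step.F (nat_lit 12593) Step.done))))) (Scr.cons (nat_lit 12) (nat_lit 1) (Step.L (Step.L (Step.L (Step.L (Step.D (nat_lit 845) Step.done))))) (Scr.cons (nat_lit 13) (nat_lit 0) (Step.U (nat_lit 1852) (Step.F (nat_lit 12595) (Step.L (Step.L (Step.L (Step.L (Step.L (Step.L (Step.L (Step.D (nat_lit 1851) (Step.D (nat_lit 3602) Step.done))))))))))) (Scr.cons (nat_lit 12) (nat_lit 1) (Step.L (Step.L (Step.L (Step.L (Step.D (nat_lit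 1370) Step.done))))) (Scr.cons (nat_lit 11) (nat_lit 0) (Step.U (nat_lit 5081) (Step.U (nat_lit 2800) (Step.D (nat_lit 2799) (Step.D (nat_lit 5079) (Step.D (nat_lit 8093) Step.done))))) (Scr.cons (nat_lit 12) (nat_lit 1) (Step.U (nat_lit 2800) (Step.F (nat_lit 12597) (Step.D (nat_lit 1370) (Step.D (nat_lit 2800) (Step.D (nat_lit 5080) Step.done))))) (Scr.cons (nat_lit 12) (nat_lit 1) (Step.U (nat_lit 5081) (Step.D (nat_lit 5080) (Step.F (nat_lit 12599) (Step.D (nat_lit 5081) (Step.D (nat_lit 8094) Step.done))))) (Scr.cons (nat_lit 12) (nat_lit 1) (Step.F (nat_lit 12598) (Step.D (nat_lit 8094) (Step.F (nat_lit 12600) (Step.B (nat_lit 12598) (Step.D (nat_lit 11074) Step.done))))) (Scr.cons (nat_lit 14) (nat_lit 2) (Step.F (nat_lit 12601) (Step.F (nat_lit 12598) (Step.U (nat_lit 5081) (Step.U (nat_lit 2800) (Step.U (nat_lit 1370) (Step.L (Step.L (Step.L (Step.L (Step.L (Step.L (Step.L (Step.L (Step.L (Step.L (Step.L (Step.L (Step.D (nat_lit 5000) (Step.B (nat_lit 3197) (Step.D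 (nat_lit 10984) Step.done)))))))))))))))))))) Scr.nil))))))))))))))))))))))))))))))))))))))))
noncomputable def s315 : Scr := (Scr.cons (nat_lit 1) (nat_lit 1) (Step.B (nat_lit 3191) (Step.F (nat_lit 3192) (Step.D (nat_lit 10984) Step.done))) (Scr.cons (nat_lit 1) (nat_lit 1) (Step.B (nat_lit 12602) (Step.F (nat_lit 12603) (Step.U (nat_lit 6992) Step.done))) (Scr.cons (nat_lit 0) (nat_lit 1) (Step.B (nat_lit 12601) (Step.B (nat_lit 12604) (Step.D (nat_lit 6991) Step.done))) (Scr.cons (nat_lit 1) (nat_lit 1) (Step.B (nat_lit 12598) (Step.B (nat_lit 12605) (Step.D (nat_lit 10120) Step.done))) (Scr.cons (nat_lit 1) (nat_lit 1) (Step.D (nat_lit 10120) (Step.F (nat_lit 12606) Step.done)) (Scr.cons (nat_lit 1) (nat_lit 1) (Step.U (nat_lit 131) (Step.B (nat_lit 10876) (Step.L Step.done))) (Scr.cons (nat_lit 0) (nat_lit 1) (Step.U (nat_lit 391) (Step.B (nat_lit 12608) (Step.L Step.done))) (Scr.cons (nat_lit 1) (nat_lit 0) (Step.U (nat_lit 1020) (Step.B (nat_lit 12609) (Step.L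 Step.done))) (Scr.cons (nat_lit 0) (nat_lit 1) (Step.U (nat_lit 2171) (Step.B (nat_lit 12610) (Step.L Step.done))) (Scr.cons (nat_lit 1) (nat_lit 0) (Step.U (nat_lit 4131) (Step.B (nat_lit 12611) (Step.D (nat_lit 4074) Step.done))) (Scr.cons (nat_lit 0) (nat_lit 1) (Step.U (nat_lit 6991) (Step.B (nat_lit 12612) (Step.D (nat_lit 6931) Step.done))) (Scr.cons (nat_lit 1) (nat_lit 1) (Step.F (nat_lit 12607) (Step.B (nat_lit 12613) (Step.D (nat_lit 10065) Step.done))) (Scr.cons (nat_lit 1) (nat_lit 1) (Step.D (nat_lit 10065) (Step.F (nat_lit 12614) Step.done)) (Scr.cons (nat_lit 11) (nat_lit 0) (Step.U (nat_lit 6932) (Step.U (nat_lit 4074) (Step.L (Step.D (nat_lit 6930) (Step.D (nat_lit 10064) Step.done))))) (Scr.cons (nat_lit 1) (nat_lit 1) (Step.U (nat_lit 4130) (Step.B (nat_lit 12611) (Step.L Step.done))) (Scr.cons (nat_lit 1) (nat_lit 1) (Step.U (nat_lit 6990) (Step.B (nat_lit 12617) (Step.D (nat_lit 6930) Step.done))) (Scr.cons (nat_lit 1) (nat_lit 1) (Step.B (nat_lit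 3194) (Step.B (nat_lit 12618) (Step.D (nat_lit 10064) Step.done))) (Scr.cons (nat_lit 1) (nat_lit 0) (Step.B (nat_lit 12616) (Step.F (nat_lit 12619) Step.done)) (Scr.cons (nat_lit 0) (nat_lit 1) (Step.B (nat_lit 3200) (Step.B (nat_lit 10403) (Step.L Step.done))) (Scr.cons (nat_lit 1) (nat_lit 1) (Step.U (nat_lit 2509) (Step.B (nat_lit 12621) (Step.L Step.done))) (Scr.cons (nat_lit 0) (nat_lit 1) (Step.U (nat_lit 4638) (Step.B (nat_lit 12622) (Step.L Step.done))) (Scr.cons (nat_lit 1) (nat_lit 1) (Step.U (nat_lit 7596) (Step.B (nat_lit 12623) (Step.L Step.done))) (Scr.cons (nat_lit 1) (nat_lit 1) (Step.F (nat_lit 3198) (Step.B (nat_lit 12624) (Step.L Step.done))) (Scr.cons (nat_lit 1) (nat_lit 1) (Step.D (nat_lit 8014) (Step.B (nat_lit 12625) (Step.L Step.done))) (Scr.cons (nat_lit 0) (nat_lit 1) (Step.B (nat_lit 3196) (Step.B (nat_lit 12626) (Step.L Step.done))) (Scr.cons (nat_lit 1) (nat_lit 0) (Step.F (nat_lit 3195) (Step.B (nat_lit 12627) (Step.L Step.done))) (Scr.cons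 (nat_lit 12) (nat_lit 1) (Step.U (nat_lit 6303) (Step.L (Step.L (Step.D (nat_lit 6303) (Step.D (nat_lit 9472) Step.done))))) (Scr.cons (nat_lit 12) (nat_lit 1) (Step.L (Step.L (Step.L (Step.L (Step.D (nat_lit 2196) Step.done))))) (Scr.cons (nat_lit 12) (nat_lit 1) (Step.U (nat_lit 4158) (Step.F (nat_lit 12630) (Step.D (nat_lit 2196) (Step.D (nat_lit 4158) (Step.D (nat_lit 7025) Step.done))))) (Scr.cons (nat_lit 7) (nat_lit 6) (Step.U (nat_lit 9471) (Step.U (nat_lit 6302) (Step.U (nat_lit 3604) (Step.L (Step.L (Step.L (Step.L (Step.L (Step.L (Step.L (Step.L (Step.L (Step.L (Step.L (Step.L (Step.D (nat_lit 3605) (Step.F (nat_lit 3236) (Step.B (nat_lit 3235) (Step.D (nat_lit 6666) (Step.D (nat_lit 9832) Step.done)))))))))))))))))))) (Scr.cons (nat_lit 0) (nat_lit 0) (Step.B (nat_lit 12632) (Step.F (nat_lit 3233) Step.done)) (Scr.cons (nat_lit 11) (nat_lit 0) (Step.U (nat_lit 6303) (Step.L (Step.D (nat_lit 3604) (Step.D (nat_lit 6302) (Step.D (nat_lit 9471) Step.done)))))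 (Scr.cons (nat_lit 15) (nat_lit 1) (Step.U (nat_lit 10158) (Step.F (nat_lit 12631) (Step.U (nat_lit 4158) (Step.F (nat_lit 12630) (Step.L (Step.L (Step.L (Step.L (Step.L (Step.L (Step.D (nat_lit 3857) (Step.D (nat_lit 6640) (Step.D (nat_lit 9801) (Step.F (nat_lit 12633) (Step.F (nat_lit 12634) (Step.D (nat_lit 9472) Step.done)))))))))))))))) (Scr.cons (nat_lit 1) (nat_lit 0) (Step.D (nat_lit 10158) (Step.B (nat_lit 12635) Step.done)) (Scr.cons (nat_lit 12) (nat_lit 4) (Step.U (nat_lit 6539) (Step.F (nat_lit 9829) (Step.D (nat_lit 3778) (Step.D (nat_lit 6539) (Step.D (nat_lit 9686) Step.done))))) (Scr.cons (nat_lit 16) (nat_lit 3) (Step.U (nat_lit 10580) (Step.U (nat_lit 7533) (Step.F (nat_lit 1306) (Step.D (nat_lit 4579) (Step.F (nat_lit 1307) (Step.U (nat_lit 2805) (Step.L (Step.L (Step.L (Step.L (Step.L (Step.L (Step.L (Step.L (Step.L (Step.L (Step.L (Step.L (Step.L (Step.L (Step.D (nat_lit 3778) (Step.D (nat_lit 6539) (Step.D (nat_lit 9686) Step.done)))))))))))))))))))))))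 (Scr.cons (nat_lit 11) (nat_lit 0) (Step.F (nat_lit 12638) (Step.U (nat_lit 10580) (Step.U (nat_lit 7533) (Step.D (nat_lit 7532) (Step.D (nat_lit 10579) Step.done))))) (Scr.cons (nat_lit 15) (nat_lit 0) (Step.U (nat_lit 2198) (Step.F (nat_lit 124) (Step.L (Step.L (Step.L (Step.L (Step.L (Step.L (Step.L (Step.L (Step.L (Step.L (Step.L (Step.D (nat_lit 2182) (Step.D (nat_lit 4145) Step.done))))))))))))))) (Scr.cons (nat_lit 0) (nat_lit 1) (Step.B (nat_lit 10035) (Step.B (nat_lit 10041) (Step.D (nat_lit 2182) Step.done))) (Scr.cons (nat_lit 1) (nat_lit 1) (Step.B (nat_lit 10034) (Step.B (nat_lit 12641) (Step.D (nat_lit 4145) Step.done))) Scr.nil))))))))))))))))))))))))))))))))))))))))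
noncomputable def s316 : Scr := (Scr.cons (nat_lit 0) (nat_lit 1) (Step.B (nat_lit 12640) (Step.F (nat_lit 12642) (Step.D (nat_lit 5023) Step.done))) (Scr.cons (nat_lit 1) (nat_lit 1) (Step.U (nat_lit 8040) (Step.F (nat_lit 12643) (Step.U (nat_lit 2198) Step.done))) (Scr.cons (nat_lit 0) (nat_lit 1) (Step.U (nat_lit 11013) (Step.B (nat_lit 12644) (Step.F (nat_lit 124) Step.done))) (Scr.cons (nat_lit 1) (nat_lit 1) (Step.F (nat_lit 9530) (Step.B (nat_lit 12645) (Step.L Step.done))) (Scr.cons (nat_lit 0) (nat_lit 1) (Step.B (nat_lit 9498) (Step.B (nat_lit 12646) (Step.L Step.done))) (Scr.cons (nat_lit 1) (nat_lit 1) (Step.D (nat_lit 6937) (Step.B (nat_lit 12647) (Step.L Step.done))) (Scr.cons (nat_lit 1) (nat_lit 1) (Step.U (nat_lit 6936) (Step.B (nat_lit 12648) (Step.L Step.done))) (Scr.cons (nat_lit 1) (nat_lit 1) (Step.U (nat_lit 11833) (Step.B (nat_lit 9833) (Step.D (nat_lit 6539) Step.done))) (Scr.cons (nat_lit 0) (nat_lit 1) (Step.B (nat_lit 9497) (Step.B (nat_lit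 12650) (Step.D (nat_lit 9686) Step.done))) (Scr.cons (nat_lit 1) (nat_lit 0) (Step.F (nat_lit 12649) (Step.D (nat_lit 10070) (Step.B (nat_lit 12651) (Step.B (nat_lit 12639) Step.done)))) (Scr.cons (nat_lit 1) (nat_lit 1) (Step.B (nat_lit 12639) (Step.F (nat_lit 12652) (Step.L Step.done))) (Scr.cons (nat_lit 0) (nat_lit 1) (Step.B (nat_lit 12637) (Step.B (nat_lit 12653) (Step.L Step.done))) (Scr.cons (nat_lit 1) (nat_lit 0) (Step.D (nat_lit 6539) (Step.B (nat_lit 12654) (Step.L Step.done))) (Scr.cons (nat_lit 0) (nat_lit 1) (Step.B (nat_lit 9829) (Step.B (nat_lit 12655) (Step.D (nat_lit 2196) Step.done))) (Scr.cons (nat_lit 1) (nat_lit 0) (Step.U (nat_lit 4158) (Step.F (nat_lit 12656) (Step.L Step.done))) (Scr.cons (nat_lit 0) (nat_lit 1) (Step.U (nat_lit 7025) (Step.B (nat_lit 12657) (Step.L Step.done))) (Scr.cons (nat_lit 1) (nat_lit 0) (Step.F (nat_lit 12636) (Step.B (nat_lit 12658) (Step.L Step.done))) (Scr.cons (nat_lit 0) (nat_lit 1) (Step.B (nat_lit 12629) (Step.B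 (nat_lit 12659) (Step.D (nat_lit 6538) Step.done))) (Scr.cons (nat_lit 0) (nat_lit 1) (Step.D (nat_lit 6538) (Step.F (nat_lit 12660) Step.done)) (Scr.cons (nat_lit 0) (nat_lit 1) (Step.U (nat_lit 8011) (Step.B (nat_lit 12628) (Step.B (nat_lit 12661) Step.done))) (Scr.cons (nat_lit 1) (nat_lit 1) (Step.B (nat_lit 12620) (Step.B (nat_lit 12662) (Step.U (nat_lit 6303) Step.done))) (Scr.cons (nat_lit 1) (nat_lit 1) (Step.D (nat_lit 6932) (Step.B (nat_lit 12663) (Step.L Step.done))) (Scr.cons (nat_lit 0) (nat_lit 1) (Step.U (nat_lit 6931) (Step.B (nat_lit 12664) (Step.L Step.done))) (Scr.cons (nat_lit 1) (nat_lit 1) (Step.F (nat_lit 12615) (Step.B (nat_lit 12665) (Step.L Step.done))) (Scr.cons (nat_lit 1) (nat_lit 1) (Step.D (nat_lit 5081) (Step.B (nat_lit 12666) (Step.L Step.done))) (Scr.cons (nat_lit 1) (nat_lit 1) (Step.D (nat_lit 2800) (Step.B (nat_lit 12667) (Step.L Step.done))) (Scr.cons (nat_lit 0) (nat_lit 1) (Step.B (nat_lit 12597) (Step.B (nat_lit 12668) (Step.D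 (nat_lit 845) Step.done))) (Scr.cons (nat_lit 1) (nat_lit 1) (Step.U (nat_lit 1852) (Step.F (nat_lit 12669) (Step.L Step.done))) (Scr.cons (nat_lit 0) (nat_lit 1) (Step.F (nat_lit 12596) (Step.B (nat_lit 12670) (Step.L Step.done))) (Scr.cons (nat_lit 1) (nat_lit 0) (Step.D (nat_lit 3602) (Step.B (nat_lit 12671) (Step.L Step.done))) (Scr.cons (nat_lit 0) (nat_lit 1) (Step.B (nat_lit 258) (Step.B (nat_lit 12672) (Step.D (nat_lit 2798) Step.done))) (Scr.cons (nat_lit 1) (nat_lit 0) (Step.U (nat_lit 5078) (Step.F (nat_lit 12673) (Step.L Step.done))) (Scr.cons (nat_lit 0) (nat_lit 1) (Step.B (nat_lit 12594) (Step.B (nat_lit 12674) (Step.L Step.done))) (Scr.cons (nat_lit 1) (nat_lit 0) (Step.D (nat_lit 8086) (Step.B (nat_lit 12675) (Step.D (nat_lit 6301) Step.done))) (Scr.cons (nat_lit 1) (nat_lit 0) (Step.D (nat_lit 6301) (Step.F (nat_lit 12676) Step.done)) (Scr.cons (nat_lit 13) (nat_lit 3) (Step.U (nat_lit 11753) (Step.U (nat_lit 9470) (Step.F (nat_lit 12592) (Step.F (nat_lit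 12591) (Step.L (Step.B (nat_lit 12677) (Step.F (nat_lit 12545) (Step.D (nat_lit 5070) (Step.B (nat_lit 12546) (Step.D (nat_lit 11068) (Step.D (nat_lit 12004) Step.done))))))))))) (Scr.cons (nat_lit 11) (nat_lit 0) (Step.U (nat_lit 11854) (Step.L (Step.L (Step.D (nat_lit 11853) (Step.F (nat_lit 12590) (Step.F (nat_lit 12678) Step.done)))))) (Scr.cons (nat_lit 1) (nat_lit 0) (Step.D (nat_lit 11854) (Step.B (nat_lit 12679) Step.done)) (Scr.cons (nat_lit 16) (nat_lit 1) (Step.L (Step.L (Step.L (Step.L (Step.L (Step.L (Step.L (Step.L (Step.L (Step.L (Step.L (Step.L (Step.L (Step.L (Step.D (nat_lit 844) (Step.D (nat_lit 1850) (Step.D (nat_lit 3601) (Step.D (nat_lit 6300) (Step.D (nat_lit 9470) (Step.D (nat_lit 11753) (Step.F (nat_lit 12680) (Step.L (Step.L (Step.D (nat_lit 11852) Step.done)))))))))))))))))))))))) (Scr.cons (nat_lit 0) (nat_lit 0) (Step.B (nat_lit 12543) (Step.F (nat_lit 12681) Step.done)) Scr.nil))))))))))))))))))))))))))))))))))))))))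
noncomputable def s317 : Scr := (Scr.cons (nat_lit 12) (nat_lit 1) (Step.L (Step.L (Step.L (Step.L (Step.D (nat_lit 11073) Step.done))))) (Scr.cons (nat_lit 12) (nat_lit 1) (Step.L (Step.D (nat_lit 11073) (Step.F (nat_lit 12683) (Step.L (Step.L Step.done))))) (Scr.cons (nat_lit 12) (nat_lit 4) (Step.L (Step.L (Step.L (Step.L (Step.D (nat_lit 11077) Step.done))))) (Scr.cons (nat_lit 12) (nat_lit 4) (Step.L (Step.D (nat_lit 11077) (Step.F (nat_lit 12685) (Step.L (Step.L Step.done))))) (Scr.cons (nat_lit 11) (nat_lit 0) (Step.L (Step.L (Step.D (nat_lit 3844) (Step.F (nat_lit 9018) (Step.D (nat_lit 9380) Step.done))))) (Scr.cons (nat_lit 12) (nat_lit 1) (Step.F (nat_lit 12687) (Step.L (Step.L (Step.B (nat_lit 12687) (Step.D (nat_lit 11715) Step.done))))) (Scr.cons (nat_lit 13) (nat_lit 3) (Step.L (Step.L (Step.L (Step.D (nat_lit 8421) (Step.B (nat_lit 8982) (Step.B (nat_lit 9019) (Step.F (nat_lit 12688) (Step.F (nat_lit 12687) (Step.L (Step.L (Step.D (nat_lit 11808) Step.done)))))))))))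 (Scr.cons (nat_lit 15) (nat_lit 1) (Step.L (Step.L (Step.L (Step.L (Step.L (Step.L (Step.D (nat_lit 11808) (Step.F (nat_lit 12689) (Step.L (Step.L (Step.L (Step.L (Step.L (Step.L (Step.L Step.done))))))))))))))) (Scr.cons (nat_lit 12) (nat_lit 4) (Step.L (Step.L (Step.L (Step.L (Step.D (nat_lit 11083) Step.done))))) (Scr.cons (nat_lit 12) (nat_lit 4) (Step.L (Step.D (nat_lit 11083) (Step.F (nat_lit 12691) (Step.L (Step.L Step.done))))) (Scr.cons (nat_lit 12) (nat_lit 1) (Step.L (Step.L (Step.L (Step.L (Step.D (nat_lit 8106) Step.done))))) (Scr.cons (nat_lit 12) (nat_lit 1) (Step.U (nat_lit 11084) (Step.F (nat_lit 12693) (Step.D (nat_lit 8106) (Step.D (nat_lit 11084) (Step.D (nat_lit 12005) Step.done))))) (Scr.cons (nat_lit 12) (nat_lit 4) (Step.U (nat_lit 2754) (Step.L (Step.L (Step.D (nat_lit 2754) (Step.D (nat_lit 5011) Step.done))))) (Scr.cons (nat_lit 12) (nat_lit 1) (Step.U (nat_lit 8026) (Step.F (nat_lit 12695) (Step.D (nat_lit 5011) (Step.D (nat_lit 8026) (Step.D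 (nat_lit 10995) Step.done))))) (Scr.cons (nat_lit 11) (nat_lit 0) (Step.U (nat_lit 9620) (Step.U (nat_lit 6473) (Step.D (nat_lit 6472) (Step.D (nat_lit 9618) (Step.D (nat_lit 11785) Step.done))))) (Scr.cons (nat_lit 12) (nat_lit 4) (Step.U (nat_lit 1922) (Step.L (Step.L (Step.D (nat_lit 1922) (Step.D (nat_lit 3730) Step.done))))) (Scr.cons (nat_lit 12) (nat_lit 1) (Step.U (nat_lit 6473) (Step.F (nat_lit 12698) (Step.D (nat_lit 3730) (Step.D (nat_lit 6473) (Step.D (nat_lit 9619) Step.done))))) (Scr.cons (nat_lit 12) (nat_lit 1) (Step.U (nat_lit 9620) (Step.D (nat_lit 9619) (Step.F (nat_lit 12699) (Step.D (nat_lit 9620) (Step.D (nat_lit 11786) Step.done))))) (Scr.cons (nat_lit 13) (nat_lit 0) (Step.U (nat_lit 9934) (Step.L (Step.L (Step.L (Step.L (Step.L (Step.L (Step.L (Step.L (Step.L (Step.D (nat_lit 11787) Step.done))))))))))) (Scr.cons (nat_lit 11) (nat_lit 0) (Step.U (nat_lit 10669) (Step.U (nat_lit 7642) (Step.F (nat_lit 11120) (Step.B (nat_lit 11126) (Step.U (nat_lit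 9935) (Step.D (nat_lit 9934) Step.done)))))) (Scr.cons (nat_lit 1) (nat_lit 0) (Step.D (nat_lit 10669) (Step.B (nat_lit 12702) Step.done)) (Scr.cons (nat_lit 12) (nat_lit 1) (Step.L (Step.L (Step.L (Step.L (Step.D (nat_lit 10998) Step.done))))) (Scr.cons (nat_lit 12) (nat_lit 1) (Step.U (nat_lit 8169) (Step.F (nat_lit 12390) (Step.D (nat_lit 5159) (Step.D (nat_lit 8169) (Step.D (nat_lit 11140) Step.done))))) (Scr.cons (nat_lit 0) (nat_lit 0) (Step.B (nat_lit 12705) (Step.F (nat_lit 12406) Step.done)) (Scr.cons (nat_lit 11) (nat_lit 0) (Step.L (Step.L (Step.L (Step.L (Step.D (nat_lit 10997) Step.done))))) (Scr.cons (nat_lit 16) (nat_lit 2) (Step.F (nat_lit 12382) (Step.F (nat_lit 12383) (Step.U (nat_lit 11945) (Step.F (nat_lit 12706) (Step.U (nat_lit 8169) (Step.F (nat_lit 12390) (Step.F (nat_lit 12388) (Step.U (nat_lit 1406) (Step.L (Step.L (Step.L (Step.L (Step.D (nat_lit 1407) (Step.F (nat_lit 5227) (Step.L (Step.L (Step.L (Step.L (Step.L (Step.D (nat_lit 10997) (Step.F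 (nat_lit 12707) (Step.D (nat_lit 10998) (Step.D (nat_lit 11999) Step.done))))))))))))))))))))))) (Scr.cons (nat_lit 12) (nat_lit 4) (Step.U (nat_lit 11999) (Step.F (nat_lit 12704) (Step.D (nat_lit 10998) (Step.D (nat_lit 11999) (Step.F (nat_lit 12708) Step.done))))) (Scr.cons (nat_lit 14) (nat_lit 4) (Step.U (nat_lit 11788) (Step.D (nat_lit 11787) (Step.F (nat_lit 12701) (Step.F (nat_lit 12703) (Step.U (nat_lit 7642) (Step.L (Step.L (Step.L (Step.L (Step.L (Step.L (Step.L (Step.D (nat_lit 1225) (Step.D (nat_lit 2534) (Step.F (nat_lit 12402) (Step.D (nat_lit 4672) (Step.B (nat_lit 12385) (Step.D (nat_lit 10660) (Step.D (nat_lit 11943) (Step.F (nat_lit 12709) Step.done)))))))))))))))))))) (Scr.cons (nat_lit 4) (nat_lit 0) (Step.U (nat_lit 11787) (Step.D (nat_lit 11788) (Step.B (nat_lit 12710) (Step.U (nat_lit 11999) (Step.D (nat_lit 12000) Step.done))))) (Scr.cons (nat_lit 11) (nat_lit 0) (Step.L (Step.L (Step.L (Step.D (nat_lit 1922) (Step.D (nat_lit 3731) Step.done)))))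 (Scr.cons (nat_lit 7) (nat_lit 0) (Step.U (nat_lit 2754) (Step.L (Step.L (Step.L (Step.L (Step.L (Step.D (nat_lit 10998) (Step.D (nat_lit 12000) (Step.F (nat_lit 12711) (Step.U (nat_lit 11787) (Step.L (Step.L (Step.L (Step.L (Step.L (Step.B (nat_lit 12712) (Step.U (nat_lit 3731) (Step.B (nat_lit 12698) (Step.D (nat_lit 6473) (Step.D (nat_lit 9620) (Step.D (nat_lit 11786) Step.done))))))))))))))))))))) (Scr.cons (nat_lit 0) (nat_lit 1) (Step.B (nat_lit 12700) (Step.F (nat_lit 12713) (Step.D (nat_lit 5011) Step.done))) (Scr.cons (nat_lit 1) (nat_lit 0) (Step.F (nat_lit 12697) (Step.B (nat_lit 12714) (Step.D (nat_lit 8026) Step.done))) (Scr.cons (nat_lit 1) (nat_lit 0) (Step.D (nat_lit 11785) (Step.B (nat_lit 12715) (Step.D (nat_lit 10996) Step.done))) (Scr.cons (nat_lit 1) (nat_lit 0) (Step.D (nat_lit 10996) (Step.F (nat_lit 12716) Step.done)) (Scr.cons (nat_lit 14) (nat_lit 2) (Step.U (nat_lit 11084) (Step.F (nat_lit 12693) (Step.L (Step.L (Step.L (Step.L (Step.L (Step.L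 (Step.L (Step.L (Step.L (Step.L (Step.L (Step.L (Step.D (nat_lit 1922) (Step.D (nat_lit 3730) (Step.D (nat_lit 6472) (Step.D (nat_lit 9618) (Step.F (nat_lit 12717) (Step.B (nat_lit 12696) (Step.D (nat_lit 11998) Step.done))))))))))))))))))))) (Scr.cons (nat_lit 1) (nat_lit 1) (Step.D (nat_lit 11998) (Step.F (nat_lit 12718) Step.done)) (Scr.cons (nat_lit 6) (nat_lit 0) (Step.U (nat_lit 11997) (Step.L (Step.L (Step.L (Step.L (Step.D (nat_lit 2754) (Step.D (nat_lit 5011) (Step.D (nat_lit 8026) (Step.B (nat_lit 12696) (Step.B (nat_lit 12719) (Step.D (nat_lit 12005) Step.done))))))))))) (Scr.cons (nat_lit 8) (nat_lit 1) (Step.L (Step.L (Step.L (Step.L (Step.L (Step.L (Step.L (Step.L (Step.L (Step.B (nat_lit 12693) (Step.D (nat_lit 11084) (Step.B (nat_lit 12694) (Step.F (nat_lit 12720) (Step.U (nat_lit 11997) (Step.L Step.done))))))))))))))) (Scr.cons (nat_lit 12) (nat_lit 1) (Step.L (Step.D (nat_lit 6426) (Step.F (nat_lit 3439) (Step.L (Step.D (nat_lit 9573) Step.done)))))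 Scr.nil))))))))))))))))))))))))))))))))))))))))
noncomputable def s318 : Scr := (Scr.cons (nat_lit 12) (nat_lit 1) (Step.L (Step.D (nat_lit 9573) (Step.F (nat_lit 12722) (Step.L (Step.D (nat_lit 11776) Step.done))))) (Scr.cons (nat_lit 11) (nat_lit 0) (Step.U (nat_lit 4742) (Step.L (Step.L (Step.L (Step.D (nat_lit 7721) Step.done))))) (Scr.cons (nat_lit 12) (nat_lit 4) (Step.U (nat_lit 5094) (Step.L (Step.L (Step.D (nat_lit 5094) (Step.D (nat_lit 8107) Step.done))))) (Scr.cons (nat_lit 13) (nat_lit 3) (Step.U (nat_lit 11087) (Step.L (Step.L (Step.L (Step.L (Step.L (Step.L (Step.D (nat_lit 5094) (Step.B (nat_lit 12725) (Step.B (nat_lit 4820) (Step.D (nat_lit 11924) Step.done))))))))))) (Scr.cons (nat_lit 14) (nat_lit 6) (Step.U (nat_lit 11776) (Step.L (Step.L (Step.L (Step.D (nat_lit 7721) (Step.F (nat_lit 12724) (Step.U (nat_lit 4742) (Step.L (Step.L (Step.L (Step.L (Step.L (Step.L (Step.L (Step.B (nat_lit 4811) (Step.D (nat_lit 7459) (Step.D (nat_lit 10512) (Step.D (nat_lit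 11924) (Step.F (nat_lit 12726) (Step.D (nat_lit 12006) Step.done)))))))))))))))))))) (Scr.cons (nat_lit 12) (nat_lit 4) (Step.L (Step.L (Step.L (Step.L (Step.D (nat_lit 11087) Step.done))))) (Scr.cons (nat_lit 7) (nat_lit 3) (Step.L (Step.L (Step.L (Step.L (Step.L (Step.L (Step.L (Step.L (Step.L (Step.L (Step.L (Step.L (Step.L (Step.L (Step.B (nat_lit 12723) (Step.B (nat_lit 12727) (Step.U (nat_lit 12006) (Step.F (nat_lit 12728) (Step.L (Step.D (nat_lit 8109) (Step.D (nat_lit 11088) Step.done))))))))))))))))))))) (Scr.cons (nat_lit 1) (nat_lit 1) (Step.D (nat_lit 11088) (Step.F (nat_lit 12729) (Step.L Step.done))) (Scr.cons (nat_lit 1) (nat_lit 1) (Step.D (nat_lit 8109) (Step.B (nat_lit 12730) (Step.D (nat_lit 9578) Step.done))) (Scr.cons (nat_lit 1) (nat_lit 1) (Step.D (nat_lit 9578) (Step.F (nat_lit 12731) Step.done)) (Scr.cons (nat_lit 12) (nat_lit 1) (Step.L (Step.L (Step.L (Step.L (Step.D (nat_lit 11096) Step.done))))) (Scr.cons (nat_lit 12) (nat_lit 1) (Step.L (Step.D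 (nat_lit 11096) (Step.F (nat_lit 12733) (Step.L (Step.L Step.done))))) (Scr.cons (nat_lit 12) (nat_lit 1) (Step.L (Step.L (Step.L (Step.L (Step.D (nat_lit 11097) Step.done))))) (Scr.cons (nat_lit 12) (nat_lit 1) (Step.L (Step.D (nat_lit 11097) (Step.F (nat_lit 12735) (Step.L (Step.L Step.done))))) (Scr.cons (nat_lit 12) (nat_lit 4) (Step.U (nat_lit 8873) (Step.L (Step.L (Step.D (nat_lit 8873) (Step.D (nat_lit 11527) Step.done))))) (Scr.cons (nat_lit 12) (nat_lit 1) (Step.L (Step.L (Step.L (Step.L (Step.D (nat_lit 7550) Step.done))))) (Scr.cons (nat_lit 14) (nat_lit 0) (Step.U (nat_lit 11930) (Step.U (nat_lit 10591) (Step.F (nat_lit 12738) (Step.L (Step.L (Step.L (Step.L (Step.L (Step.L (Step.L (Step.L (Step.L (Step.L (Step.L (Step.L (Step.L (Step.L (Step.L (Step.D (nat_lit 10613) (Step.D (nat_lit 11934) Step.done)))))))))))))))))))) (Scr.cons (nat_lit 12) (nat_lit 4) (Step.U (nat_lit 10613) (Step.L (Step.L (Step.D (nat_lit 10613) (Step.D (nat_lit 11933) Step.done)))))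 (Scr.cons (nat_lit 12) (nat_lit 3) (Step.B (nat_lit 12739) (Step.U (nat_lit 11934) (Step.D (nat_lit 11933) (Step.F (nat_lit 12740) (Step.D (nat_lit 11934) Step.done))))) (Scr.cons (nat_lit 14) (nat_lit 4) (Step.U (nat_lit 11930) (Step.U (nat_lit 10591) (Step.U (nat_lit 7550) (Step.L (Step.L (Step.L (Step.L (Step.L (Step.L (Step.L (Step.L (Step.L (Step.L (Step.L (Step.L (Step.L (Step.L (Step.L (Step.D (nat_lit 11101) (Step.D (nat_lit 12007) Step.done)))))))))))))))))))) (Scr.cons (nat_lit 11) (nat_lit 0) (Step.L (Step.L (Step.L (Step.L (Step.D (nat_lit 11101) Step.done))))) (Scr.cons (nat_lit 6) (nat_lit 0) (Step.U (nat_lit 11933) (Step.D (nat_lit 11934) (Step.F (nat_lit 12741) (Step.B (nat_lit 12742) (Step.U (nat_lit 12007) (Step.F (nat_lit 12743) (Step.L (Step.L (Step.L (Step.D (nat_lit 8873) (Step.D (nat_lit 11527) Step.done))))))))))) (Scr.cons (nat_lit 9) (nat_lit 2) (Step.U (nat_lit 11909) (Step.L (Step.L (Step.L (Step.L (Step.L (Step.L (Step.L (Step.L (Step.L (Step.D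 (nat_lit 10333) (Step.B (nat_lit 6380) (Step.U (nat_lit 11528) (Step.B (nat_lit 12737) (Step.F (nat_lit 12744) (Step.U (nat_lit 11933) (Step.U (nat_lit 10613) (Step.L (Step.L (Step.L (Step.L (Step.L (Step.L (Step.L Step.done)))))))))))))))))))))))) (Scr.cons (nat_lit 1) (nat_lit 1) (Step.D (nat_lit 11909) (Step.B (nat_lit 12745) Step.done)) (Scr.cons (nat_lit 12) (nat_lit 1) (Step.U (nat_lit 9497) (Step.L (Step.L (Step.D (nat_lit 9497) (Step.D (nat_lit 11759) Step.done))))) (Scr.cons (nat_lit 6) (nat_lit 0) (Step.U (nat_lit 11759) (Step.U (nat_lit 9497) (Step.L (Step.L (Step.L (Step.L (Step.L (Step.L (Step.B (nat_lit 1402) (Step.D (nat_lit 9996) (Step.D (nat_lit 11859) Step.done))))))))))) (Scr.cons (nat_lit 12) (nat_lit 1) (Step.L (Step.L (Step.L (Step.L (Step.D (nat_lit 301) Step.done))))) (Scr.cons (nat_lit 12) (nat_lit 1) (Step.U (nat_lit 818) (Step.F (nat_lit 12749) (Step.D (nat_lit 301) (Step.D (nat_lit 818) (Step.D (nat_lit 1817) Step.done))))) (Scr.cons (nat_lit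 12) (nat_lit 1) (Step.U (nat_lit 3545) (Step.F (nat_lit 12750) (Step.D (nat_lit 1817) (Step.D (nat_lit 3545) (Step.D (nat_lit 6210) Step.done))))) (Scr.cons (nat_lit 12) (nat_lit 1) (Step.U (nat_lit 6211) (Step.D (nat_lit 6210) (Step.F (nat_lit 12751) (Step.D (nat_lit 6211) (Step.D (nat_lit 9387) Step.done))))) (Scr.cons (nat_lit 11) (nat_lit 0) (Step.U (nat_lit 11105) (Step.L (Step.L (Step.L (Step.D (nat_lit 11760) Step.done))))) (Scr.cons (nat_lit 12) (nat_lit 4) (Step.U (nat_lit 6643) (Step.L (Step.L (Step.D (nat_lit 6643) (Step.D (nat_lit 9805) Step.done))))) (Scr.cons (nat_lit 0) (nat_lit 0) (Step.B (nat_lit 12754) (Step.F (nat_lit 9209) Step.done)) (Scr.cons (nat_lit 4) (nat_lit 0) (Step.L (Step.L (Step.L (Step.L (Step.D (nat_lit 11818) Step.done))))) (Scr.cons (nat_lit 14) (nat_lit 5) (Step.U (nat_lit 11812) (Step.U (nat_lit 9697) (Step.D (nat_lit 9698) (Step.F (nat_lit 9127) (Step.D (nat_lit 9699) (Step.F (nat_lit 9206) (Step.U (nat_lit 6644) (Step.D (nat_lit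 6643) (Step.B (nat_lit 12755) (Step.L (Step.L (Step.L (Step.L (Step.B (nat_lit 12756) (Step.U (nat_lit 11818) (Step.L (Step.D (nat_lit 9717) (Step.F (nat_lit 10462) (Step.L (Step.D (nat_lit 11820) Step.done)))))))))))))))))))) (Scr.cons (nat_lit 4) (nat_lit 0) (Step.U (nat_lit 11811) (Step.D (nat_lit 11812) (Step.B (nat_lit 12757) (Step.U (nat_lit 11820) (Step.D (nat_lit 11821) Step.done))))) (Scr.cons (nat_lit 12) (nat_lit 4) (Step.U (nat_lit 8016) (Step.F (nat_lit 758) (Step.D (nat_lit 5003) (Step.D (nat_lit 8016) (Step.D (nat_lit 10986) Step.done))))) (Scr.cons (nat_lit 12) (nat_lit 1) (Step.L (Step.L (Step.L (Step.L (Step.D (nat_lit 4160) Step.done))))) (Scr.cons (nat_lit 14) (nat_lit 3) (Step.F (nat_lit 12759) (Step.B (nat_lit 9124) (Step.F (nat_lit 9206) (Step.U (nat_lit 6644) (Step.L (Step.L (Step.L (Step.L (Step.L (Step.L (Step.L (Step.L (Step.L (Step.L (Step.L (Step.L (Step.L (Step.L (Step.B (nat_lit 12760) (Step.D (nat_lit 7027) (Step.D (nat_lit 10160) Step.done)))))))))))))))))))))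 (Scr.cons (nat_lit 0) (nat_lit 0) (Step.B (nat_lit 12759) (Step.B (nat_lit 12761) Step.done)) Scr.nil))))))))))))))))))))))))))))))))))))))))
noncomputable def s319 : Scr := (Scr.cons (nat_lit 12) (nat_lit 1) (Step.F (nat_lit 9716) (Step.L (Step.L (Step.B (nat_lit 9716) (Step.D (nat_lit 3523) Step.done))))) (Scr.cons (nat_lit 12) (nat_lit 1) (Step.U (nat_lit 292) (Step.D (nat_lit 291) (Step.F (nat_lit 9576) (Step.D (nat_lit 292) (Step.D (nat_lit 797) Step.done))))) (Scr.cons (nat_lit 12) (nat_lit 1) (Step.F (nat_lit 9853) (Step.D (nat_lit 797) (Step.F (nat_lit 12764) (Step.B (nat_lit 9853) (Step.D (nat_lit 1781) Step.done))))) (Scr.cons (nat_lit 14) (nat_lit 2) (Step.F (nat_lit 12763) (Step.F (nat_lit 9716) (Step.L (Step.L (Step.L (Step.L (Step.L (Step.L (Step.L (Step.L (Step.L (Step.L (Step.L (Step.L (Step.D (nat_lit 20) (Step.D (nat_lit 88) (Step.D (nat_lit 290) (Step.D (nat_lit 794) (Step.B (nat_lit 12765) (Step.D (nat_lit 3491) Step.done)))))))))))))))))))) (Scr.cons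 (nat_lit 11) (nat_lit 0) (Step.U (nat_lit 6117) (Step.U (nat_lit 3492) (Step.D (nat_lit 3491) (Step.F (nat_lit 12766) (Step.D (nat_lit 6165) Step.done))))) (Scr.cons (nat_lit 12) (nat_lit 1) (Step.U (nat_lit 3492) (Step.F (nat_lit 12765) (Step.D (nat_lit 1781) (Step.D (nat_lit 3492) (Step.D (nat_lit 6116) Step.done))))) (Scr.cons (nat_lit 12) (nat_lit 1) (Step.U (nat_lit 6117) (Step.D (nat_lit 6116) (Step.F (nat_lit 12768) (Step.D (nat_lit 6117) (Step.D (nat_lit 9273) Step.done))))) (Scr.cons (nat_lit 12) (nat_lit 1) (Step.F (nat_lit 12767) (Step.D (nat_lit 9273) (Step.F (nat_lit 12769) (Step.B (nat_lit 12767) (Step.D (nat_lit 9337) Step.done))))) (Scr.cons (nat_lit 1) (nat_lit 0) (Step.B (nat_lit 9502) (Step.B (nat_lit 12645) (Step.L Step.done))) (Scr.cons (nat_lit 1) (nat_lit 0) (Step.B (nat_lit 9529) (Step.B (nat_lit 12771) (Step.L Step.done))) (Scr.cons (nat_lit 0) (nat_lit 1) (Step.B (nat_lit 12770) (Step.B (nat_lit 12772) (Step.D (nat_lit 4160) Step.done))) (Scr.cons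 (nat_lit 1) (nat_lit 1) (Step.B (nat_lit 12767) (Step.B (nat_lit 12773) (Step.D (nat_lit 7027) Step.done))) (Scr.cons (nat_lit 1) (nat_lit 1) (Step.U (nat_lit 10160) (Step.F (nat_lit 12774) (Step.U (nat_lit 6117) Step.done))) (Scr.cons (nat_lit 0) (nat_lit 1) (Step.B (nat_lit 12762) (Step.B (nat_lit 12775) (Step.D (nat_lit 6116) Step.done))) (Scr.cons (nat_lit 1) (nat_lit 1) (Step.F (nat_lit 9124) (Step.B (nat_lit 12776) (Step.D (nat_lit 9272) Step.done))) (Scr.cons (nat_lit 12) (nat_lit 4) (Step.U (nat_lit 1779) (Step.F (nat_lit 9848) (Step.D (nat_lit 793) (Step.D (nat_lit 1779) (Step.D (nat_lit 3487) Step.done))))) (Scr.cons (nat_lit 13) (nat_lit 0) (Step.U (nat_lit 9272) (Step.F (nat_lit 12768) (Step.U (nat_lit 3492) (Step.U (nat_lit 1781) (Step.U (nat_lit 794) (Step.D (nat_lit 793) (Step.D (nat_lit 1779) (Step.B (nat_lit 12778) (Step.D (nat_lit 6113) (Step.D (nat_lit 9269) (Step.D (nat_lit 11672) Step.done))))))))))) (Scr.cons (nat_lit 0) (nat_lit 1) (Step.B (nat_lit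 9126) (Step.B (nat_lit 12777) (Step.B (nat_lit 12779) Step.done))) (Scr.cons (nat_lit 1) (nat_lit 0) (Step.D (nat_lit 11672) (Step.F (nat_lit 12780) (Step.B (nat_lit 9127) Step.done))) (Scr.cons (nat_lit 1) (nat_lit 0) (Step.D (nat_lit 9698) (Step.F (nat_lit 12781) (Step.D (nat_lit 11673) Step.done))) (Scr.cons (nat_lit 1) (nat_lit 0) (Step.D (nat_lit 11673) (Step.F (nat_lit 12782) Step.done)) (Scr.cons (nat_lit 0) (nat_lit 1) (Step.U (nat_lit 3487) (Step.B (nat_lit 9873) (Step.L Step.done))) (Scr.cons (nat_lit 1) (nat_lit 0) (Step.U (nat_lit 6113) (Step.B (nat_lit 12784) (Step.L Step.done))) (Scr.cons (nat_lit 0) (nat_lit 1) (Step.U (nat_lit 9269) (Step.B (nat_lit 12785) (Step.L Step.done))) (Scr.cons (nat_lit 1) (nat_lit 0) (Step.F (nat_lit 12783) (Step.B (nat_lit 12786) (Step.L Step.done))) (Scr.cons (nat_lit 0) (nat_lit 1) (Step.U (nat_lit 9697) (Step.B (nat_lit 12787) (Step.L Step.done))) (Scr.cons (nat_lit 1) (nat_lit 1) (Step.U (nat_lit 11811) (Step.B (nat_lit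 12788) (Step.L Step.done))) (Scr.cons (nat_lit 1) (nat_lit 1) (Step.F (nat_lit 12758) (Step.B (nat_lit 12789) (Step.L Step.done))) (Scr.cons (nat_lit 1) (nat_lit 1) (Step.D (nat_lit 11821) (Step.B (nat_lit 12790) (Step.D (nat_lit 11760) Step.done))) (Scr.cons (nat_lit 1) (nat_lit 0) (Step.B (nat_lit 12753) (Step.F (nat_lit 12791) Step.done)) (Scr.cons (nat_lit 12) (nat_lit 1) (Step.L (Step.L (Step.L (Step.L (Step.D (nat_lit 11716) Step.done))))) (Scr.cons (nat_lit 12) (nat_lit 4) (Step.U (nat_lit 2050) (Step.F (nat_lit 10465) (Step.D (nat_lit 951) (Step.D (nat_lit 2050) (Step.D (nat_lit 3937) Step.done))))) (Scr.cons (nat_lit 12) (nat_lit 4) (Step.U (nat_lit 3938) (Step.D (nat_lit 3937) (Step.F (nat_lit 12794) (Step.D (nat_lit 3938) (Step.D (nat_lit 6752) Step.done))))) (Scr.cons (nat_lit 1) (nat_lit 0) (Step.D (nat_lit 9423) (Step.B (nat_lit 10718) (Step.D (nat_lit 9918) Step.done))) (Scr.cons (nat_lit 1) (nat_lit 0) (Step.D (nat_lit 9918) (Step.F (nat_lit 12796) Step.done))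 (Scr.cons (nat_lit 14) (nat_lit 5) (Step.L (Step.L (Step.L (Step.D (nat_lit 823) (Step.D (nat_lit 1823) (Step.D (nat_lit 3563) (Step.D (nat_lit 6247) (Step.F (nat_lit 12797) (Step.U (nat_lit 6751) (Step.U (nat_lit 3935) (Step.U (nat_lit 2048) (Step.U (nat_lit 949) (Step.F (nat_lit 24) (Step.L (Step.D (nat_lit 950) (Step.F (nat_lit 10463) (Step.B (nat_lit 10465) (Step.D (nat_lit 2050) (Step.D (nat_lit 3938) (Step.D (nat_lit 6752) (Step.D (nat_lit 9919) Step.done))))))))))))))))))))) (Scr.cons (nat_lit 1) (nat_lit 0) (Step.D (nat_lit 9919) (Step.F (nat_lit 12798) (Step.L Step.done))) (Scr.cons (nat_lit 0) (nat_lit 1) (Step.B (nat_lit 12795) (Step.B (nat_lit 12799) (Step.D (nat_lit 824) Step.done))) (Scr.cons (nat_lit 1) (nat_lit 1) (Step.U (nat_lit 6753) (Step.B (nat_lit 12800) (Step.D (nat_lit 1824) Step.done))) (Scr.cons (nat_lit 0) (nat_lit 1) (Step.U (nat_lit 9920) (Step.B (nat_lit 12801) (Step.D (nat_lit 3564) Step.done))) Scr.nil))))))))))))))))))))))))))))))))))))))))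
noncomputable def s320 : Scr := (Scr.cons (nat_lit 1) (nat_lit 1) (Step.F (nat_lit 10484) (Step.B (nat_lit 12802) (Step.D (nat_lit 6249) Step.done))) (Scr.cons (nat_lit 0) (nat_lit 1) (Step.B (nat_lit 10483) (Step.B (nat_lit 12803) (Step.D (nat_lit 9428) Step.done))) (Scr.cons (nat_lit 1) (nat_lit 1) (Step.B (nat_lit 10462) (Step.B (nat_lit 12804) (Step.D (nat_lit 11742) Step.done))) (Scr.cons (nat_lit 1) (nat_lit 1) (Step.D (nat_lit 11742) (Step.F (nat_lit 12805) Step.done)) (Scr.cons (nat_lit 15) (nat_lit 1) (Step.F (nat_lit 12793) (Step.L (Step.L (Step.L (Step.L (Step.L (Step.D (nat_lit 824) (Step.D (nat_lit 1824) (Step.D (nat_lit 3564) (Step.D (nat_lit 6249) (Step.D (nat_lit 9428) (Step.B (nat_lit 12806) (Step.L (Step.F (nat_lit 12792) (Step.D (nat_lit 12008) Step.done))))))))))))))) (Scr.cons (nat_lit 13) (nat_lit 3) (Step.U (nat_lit 6208) (Step.U (nat_lit 3544) (Step.F (nat_lit 12750) (Step.U (nat_lit 818) (Step.U (nat_lit 301) (Step.L (Step.L (Step.L (Step.L (Step.L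 (Step.D (nat_lit 9384) Step.done))))))))))) (Scr.cons (nat_lit 12) (nat_lit 4) (Step.U (nat_lit 3544) (Step.F (nat_lit 12750) (Step.D (nat_lit 1817) (Step.D (nat_lit 3544) (Step.D (nat_lit 6208) Step.done))))) (Scr.cons (nat_lit 11) (nat_lit 0) (Step.U (nat_lit 6211) (Step.U (nat_lit 3545) (Step.D (nat_lit 3544) (Step.D (nat_lit 6209) (Step.D (nat_lit 9385) Step.done))))) (Scr.cons (nat_lit 16) (nat_lit 2) (Step.L (Step.L (Step.L (Step.L (Step.L (Step.L (Step.L (Step.L (Step.L (Step.F (nat_lit 12792) (Step.D (nat_lit 12008) (Step.F (nat_lit 12807) (Step.F (nat_lit 12793) (Step.L (Step.L (Step.L (Step.D (nat_lit 9384) (Step.F (nat_lit 12808) (Step.F (nat_lit 12809) (Step.D (nat_lit 6209) (Step.D (nat_lit 9385) (Step.F (nat_lit 12810) (Step.D (nat_lit 9387) (Step.D (nat_lit 11719) Step.done)))))))))))))))))))))))) (Scr.cons (nat_lit 1) (nat_lit 0) (Step.D (nat_lit 11719) (Step.F (nat_lit 12811) (Step.L Step.done))) (Scr.cons (nat_lit 0) (nat_lit 1) (Step.B (nat_lit 12752)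 (Step.B (nat_lit 12812) (Step.D (nat_lit 6850) Step.done))) (Scr.cons (nat_lit 1) (nat_lit 1) (Step.U (nat_lit 9996) (Step.F (nat_lit 12813) (Step.U (nat_lit 6211) Step.done))) (Scr.cons (nat_lit 0) (nat_lit 1) (Step.U (nat_lit 11859) (Step.B (nat_lit 12814) (Step.D (nat_lit 6210) Step.done))) (Scr.cons (nat_lit 1) (nat_lit 0) (Step.B (nat_lit 12748) (Step.B (nat_lit 12815) (Step.D (nat_lit 9386) Step.done))) (Scr.cons (nat_lit 8) (nat_lit 1) (Step.L (Step.L (Step.L (Step.L (Step.L (Step.L (Step.L (Step.L (Step.L (Step.B (nat_lit 12749) (Step.D (nat_lit 818) (Step.B (nat_lit 12750) (Step.D (nat_lit 3545) (Step.B (nat_lit 12751) (Step.D (nat_lit 9386) Step.done))))))))))))))) (Scr.cons (nat_lit 12) (nat_lit 0) (Step.B (nat_lit 12817) (Step.U (nat_lit 9386) (Step.F (nat_lit 12751) (Step.D (nat_lit 6210) (Step.D (nat_lit 9386) Step.done))))) (Scr.cons (nat_lit 0) (nat_lit 1) (Step.B (nat_lit 12747) (Step.B (nat_lit 12816) (Step.F (nat_lit 12818) Step.done))) (Scr.cons (nat_lit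 1) (nat_lit 1) (Step.D (nat_lit 9497) (Step.B (nat_lit 12819) (Step.D (nat_lit 9396) Step.done))) (Scr.cons (nat_lit 1) (nat_lit 1) (Step.D (nat_lit 9396) (Step.F (nat_lit 12820) Step.done)) (Scr.cons (nat_lit 12) (nat_lit 1) (Step.L (Step.L (Step.L (Step.L (Step.D (nat_lit 11112) Step.done))))) (Scr.cons (nat_lit 12) (nat_lit 1) (Step.L (Step.D (nat_lit 11112) (Step.F (nat_lit 12822) (Step.L (Step.L Step.done))))) (Scr.cons (nat_lit 12) (nat_lit 4) (Step.L (Step.L (Step.L (Step.L (Step.D (nat_lit 11118) Step.done))))) (Scr.cons (nat_lit 12) (nat_lit 4) (Step.L (Step.D (nat_lit 11118) (Step.F (nat_lit 12824) (Step.L (Step.L Step.done))))) (Scr.cons (nat_lit 12) (nat_lit 4) (Step.L (Step.L (Step.L (Step.L (Step.D (nat_lit 11135) Step.done))))) (Scr.cons (nat_lit 12) (nat_lit 4) (Step.L (Step.D (nat_lit 11135) (Step.F (nat_lit 12826) (Step.L (Step.L Step.done))))) (Scr.cons (nat_lit 12) (nat_lit 4) (Step.L (Step.L (Step.L (Step.L (Step.D (nat_lit 11953) Step.done))))) (Scr.cons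 (nat_lit 9) (nat_lit 2) (Step.L (Step.L (Step.L (Step.L (Step.L (Step.L (Step.L (Step.L (Step.L (Step.L (Step.L (Step.L (Step.L (Step.L (Step.L (Step.L (Step.L (Step.L (Step.L (Step.L (Step.L (Step.L (Step.D (nat_lit 12019) Step.done))))))))))))))))))))))) (Scr.cons (nat_lit 11) (nat_lit 0) (Step.U (nat_lit 8276) (Step.U (nat_lit 5239) (Step.D (nat_lit 5238) (Step.D (nat_lit 8275) (Step.D (nat_lit 11222) Step.done))))) (Scr.cons (nat_lit 12) (nat_lit 4) (Step.U (nat_lit 5234) (Step.F (nat_lit 426) (Step.F (nat_lit 427) (Step.D (nat_lit 5234) (Step.D (nat_lit 8271) Step.done))))) (Scr.cons (nat_lit 6) (nat_lit 1) (Step.U (nat_lit 8289) (Step.F (nat_lit 5833) (Step.U (nat_lit 2900) (Step.L (Step.L (Step.L (Step.L (Step.B (nat_lit 426) (Step.D (nat_lit 5234) (Step.D (nat_lit 8271) (Step.D (nat_lit 11218) Step.done))))))))))) (Scr.cons (nat_lit 1) (nat_lit 0) (Step.U (nat_lit 8289) (Step.B (nat_lit 5835) (Step.L Step.done))) (Scr.cons (nat_lit 0) (nat_lit 1) (Step.F (nat_lit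 12832) (Step.B (nat_lit 12833) (Step.L Step.done))) (Scr.cons (nat_lit 1) (nat_lit 1) (Step.D (nat_lit 11218) (Step.B (nat_lit 12834) (Step.L Step.done))) (Scr.cons (nat_lit 8) (nat_lit 1) (Step.L (Step.L (Step.L (Step.L (Step.L (Step.L (Step.L (Step.L (Step.L (Step.L (Step.L (Step.L (Step.L (Step.L (Step.D (nat_lit 5177) Step.done))))))))))))))) (Scr.cons (nat_lit 0) (nat_lit 1) (Step.B (nat_lit 12831) (Step.B (nat_lit 12835) (Step.B (nat_lit 12836) Step.done))) (Scr.cons (nat_lit 1) (nat_lit 0) (Step.D (nat_lit 5234) (Step.B (nat_lit 12837) (Step.D (nat_lit 8192) Step.done))) (Scr.cons (nat_lit 1) (nat_lit 0) (Step.D (nat_lit 8192) (Step.F (nat_lit 12838) Step.done)) (Scr.cons (nat_lit 16) (nat_lit 5) (Step.U (nat_lit 5239) (Step.L (Step.L (Step.L (Step.L (Step.L (Step.L (Step.D (nat_lit 212) (Step.D (nat_lit 591) (Step.D (nat_lit 1424) (Step.D (nat_lit 2893) (Step.F (nat_lit 12839) (Step.U (nat_lit 5177) (Step.L (Step.L (Step.L (Step.L (Step.L (Step.L (Step.D (nat_lit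 1415) (Step.D (nat_lit 2870) (Step.D (nat_lit 5176) (Step.D (nat_lit 8190) (Step.D (nat_lit 11160) Step.done)))))))))))))))))))))))) (Scr.cons (nat_lit 1) (nat_lit 0) (Step.D (nat_lit 11160) (Step.F (nat_lit 12840) (Step.D (nat_lit 8276) Step.done))) (Scr.cons (nat_lit 1) (nat_lit 0) (Step.F (nat_lit 12830) (Step.F (nat_lit 12841) (Step.U (nat_lit 8190) Step.done))) Scr.nil))))))))))))))))))))))))))))))))))))))))
noncomputable def s321 : Scr := (Scr.cons (nat_lit 1) (nat_lit 0) (Step.D (nat_lit 11222) (Step.B (nat_lit 12842) (Step.D (nat_lit 8191) Step.done))) (Scr.cons (nat_lit 1) (nat_lit 0) (Step.D (nat_lit 8275) (Step.B (nat_lit 12843) (Step.D (nat_lit 11162) Step.done))) (Scr.cons (nat_lit 1) (nat_lit 0) (Step.D (nat_lit 11162) (Step.F (nat_lit 12844) Step.done)) (Scr.cons (nat_lit 12) (nat_lit 4) (Step.L (Step.L (Step.L (Step.L (Step.D (nat_lit 1415) Step.done))))) (Scr.cons (nat_lit 12) (nat_lit 4) (Step.U (nat_lit 2870) (Step.F (nat_lit 12846) (Step.D (nat_lit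 1415) (Step.D (nat_lit 2870) (Step.D (nat_lit 5176) Step.done))))) (Scr.cons (nat_lit 12) (nat_lit 1) (Step.U (nat_lit 8191) (Step.F (nat_lit 12847) (Step.D (nat_lit 5176) (Step.D (nat_lit 8191) (Step.D (nat_lit 11161) Step.done))))) (Scr.cons (nat_lit 6) (nat_lit 3) (Step.U (nat_lit 11163) (Step.L (Step.L (Step.L (Step.L (Step.B (nat_lit 12846) (Step.D (nat_lit 2870) (Step.D (nat_lit 5176) (Step.D (nat_lit 8191) (Step.B (nat_lit 12848) (Step.D (nat_lit 12017) Step.done))))))))))) (Scr.cons (nat_lit 11) (nat_lit 0) (Step.B (nat_lit 12829) (Step.U (nat_lit 12019) (Step.L (Step.D (nat_lit 11163) (Step.D (nat_lit 12018) Step.done))))) (Scr.cons (nat_lit 16) (nat_lit 0) (Step.U (nat_lit 11952) (Step.L (Step.L (Step.L (Step.L (Step.L (Step.L (Step.L (Step.L (Step.L (Step.L (Step.L (Step.L (Step.L (Step.L (Step.D (nat_lit 5238) (Step.F (nat_lit 12845) (Step.D (nat_lit 11161) (Step.D (nat_lit 12017) (Step.F (nat_lit 12849) (Step.D (nat_lit 12018) (Step.F (nat_lit 12850) (Step.B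 (nat_lit 12829) Step.done))))))))))))))))))))))) (Scr.cons (nat_lit 15) (nat_lit 1) (Step.L (Step.L (Step.L (Step.L (Step.L (Step.L (Step.L (Step.L (Step.B (nat_lit 12829) (Step.F (nat_lit 12851) (Step.U (nat_lit 11952) (Step.L (Step.L (Step.L (Step.L (Step.D (nat_lit 11953) Step.done)))))))))))))))) (Scr.cons (nat_lit 0) (nat_lit 0) (Step.B (nat_lit 12828) (Step.F (nat_lit 12852) Step.done)) (Scr.cons (nat_lit 12) (nat_lit 1) (Step.L (Step.L (Step.L (Step.L (Step.D (nat_lit 11474) Step.done))))) (Scr.cons (nat_lit 12) (nat_lit 1) (Step.L (Step.D (nat_lit 11474) (Step.F (nat_lit 12854) (Step.L (Step.L Step.done))))) (Scr.cons (nat_lit 6) (nat_lit 3) (Step.L (Step.L (Step.L (Step.L (Step.L (Step.L (Step.L (Step.L (Step.L (Step.B (nat_lit 6183) (Step.D (nat_lit 11489) Step.done))))))))))) (Scr.cons (nat_lit 1) (nat_lit 0) (Step.B (nat_lit 1709) (Step.B (nat_lit 5031) (Step.D (nat_lit 8986) Step.done))) (Scr.cons (nat_lit 1) (nat_lit 0) (Step.D (nat_lit 8986) (Step.F (nat_lit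 12857) Step.done)) (Scr.cons (nat_lit 9) (nat_lit 5) (Step.L (Step.L (Step.L (Step.B (nat_lit 12856) (Step.U (nat_lit 11489) (Step.U (nat_lit 8782) (Step.L (Step.L (Step.L (Step.L (Step.L (Step.L (Step.F (nat_lit 5033) (Step.B (nat_lit 12858) (Step.U (nat_lit 5198) (Step.L (Step.L (Step.L (Step.L (Step.L (Step.L (Step.L (Step.L Step.done))))))))))))))))))))))) (Scr.cons (nat_lit 4) (nat_lit 0) (Step.U (nat_lit 9160) (Step.U (nat_lit 6001) (Step.L (Step.D (nat_lit 8197) (Step.D (nat_lit 11169) Step.done))))) (Scr.cons (nat_lit 13) (nat_lit 0) (Step.U (nat_lit 5561) (Step.F (nat_lit 6745) (Step.L (Step.L (Step.L (Step.L (Step.L (Step.L (Step.L (Step.L (Step.D (nat_lit 8658) Step.done))))))))))) (Scr.cons (nat_lit 1) (nat_lit 1) (Step.F (nat_lit 6749) (Step.B (nat_lit 7613) (Step.L Step.done))) (Scr.cons (nat_lit 0) (nat_lit 1) (Step.B (nat_lit 6748) (Step.B (nat_lit 12862) (Step.L Step.done))) (Scr.cons (nat_lit 1) (nat_lit 1) (Step.D (nat_lit 5562) (Step.B (nat_lit 12863)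 (Step.L Step.done))) (Scr.cons (nat_lit 1) (nat_lit 1) (Step.U (nat_lit 5561) (Step.B (nat_lit 12864) (Step.L Step.done))) (Scr.cons (nat_lit 0) (nat_lit 1) (Step.F (nat_lit 12861) (Step.B (nat_lit 12865) (Step.L Step.done))) (Scr.cons (nat_lit 1) (nat_lit 0) (Step.D (nat_lit 8658) (Step.B (nat_lit 12866) (Step.D (nat_lit 8197) Step.done))) (Scr.cons (nat_lit 1) (nat_lit 0) (Step.U (nat_lit 11169) (Step.F (nat_lit 12867) (Step.L Step.done))) (Scr.cons (nat_lit 1) (nat_lit 0) (Step.B (nat_lit 12860) (Step.B (nat_lit 12868) (Step.D (nat_lit 11434) Step.done))) (Scr.cons (nat_lit 1) (nat_lit 0) (Step.D (nat_lit 11434) (Step.F (nat_lit 12869) Step.done)) (Scr.cons (nat_lit 12) (nat_lit 1) (Step.L (Step.L (Step.L (Step.L (Step.D (nat_lit 11433) Step.done))))) (Scr.cons (nat_lit 12) (nat_lit 1) (Step.F (nat_lit 12870) (Step.D (nat_lit 11433) (Step.F (nat_lit 12871) (Step.B (nat_lit 12870) (Step.D (nat_lit 11635) Step.done))))) (Scr.cons (nat_lit 7) (nat_lit 5) (Step.F (nat_lit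 12872) (Step.U (nat_lit 9160) (Step.U (nat_lit 6001) (Step.L (Step.L (Step.L (Step.L (Step.L (Step.L (Step.L (Step.L (Step.L (Step.L (Step.L (Step.L (Step.L (Step.L (Step.L (Step.L (Step.L Step.done)))))))))))))))))))) (Scr.cons (nat_lit 11) (nat_lit 0) (Step.B (nat_lit 12873) (Step.L (Step.L (Step.L (Step.D (nat_lit 12021) Step.done))))) (Scr.cons (nat_lit 14) (nat_lit 2) (Step.U (nat_lit 11483) (Step.L (Step.L (Step.L (Step.L (Step.L (Step.L (Step.L (Step.L (Step.L (Step.D (nat_lit 12021) (Step.F (nat_lit 12874) (Step.U (nat_lit 11635) (Step.F (nat_lit 12870) (Step.L (Step.L (Step.L (Step.L (Step.L (Step.L (Step.L Step.done))))))))))))))))))))) (Scr.cons (nat_lit 1) (nat_lit 0) (Step.D (nat_lit 11483) (Step.B (nat_lit 12875) Step.done)) (Scr.cons (nat_lit 12) (nat_lit 1) (Step.U (nat_lit 4426) (Step.L (Step.L (Step.D (nat_lit 4426) (Step.D (nat_lit 7344) Step.done))))) (Scr.cons (nat_lit 6) (nat_lit 3) (Step.U (nat_lit 7350) (Step.U (nat_lit 4427) (Step.L (Step.L (Step.L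 (Step.L (Step.L (Step.L (Step.D (nat_lit 4426) (Step.B (nat_lit 12877) (Step.D (nat_lit 10413) Step.done))))))))))) (Scr.cons (nat_lit 12) (nat_lit 1) (Step.U (nat_lit 7345) (Step.D (nat_lit 7344) (Step.F (nat_lit 12877) (Step.D (nat_lit 7345) (Step.D (nat_lit 10414) Step.done))))) (Scr.cons (nat_lit 11) (nat_lit 0) (Step.U (nat_lit 2887) (Step.U (nat_lit 1423) (Step.L (Step.L (Step.D (nat_lit 5211) Step.done))))) (Scr.cons (nat_lit 7) (nat_lit 6) (Step.L (Step.L (Step.L (Step.L (Step.F (nat_lit 3893) (Step.U (nat_lit 5548) (Step.U (nat_lit 3124) (Step.L (Step.L (Step.L (Step.L (Step.L (Step.L (Step.L (Step.L (Step.L (Step.L (Step.L (Step.L (Step.D (nat_lit 5572) (Step.D (nat_lit 8669) Step.done))))))))))))))))))))) (Scr.cons (nat_lit 1) (nat_lit 1) (Step.D (nat_lit 8669) (Step.F (nat_lit 12881) (Step.L Step.done))) Scr.nil))))))))))))))))))))))))))))))))))))))))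
noncomputable def s322 : Scr := (Scr.cons (nat_lit 1) (nat_lit 1) (Step.D (nat_lit 5572) (Step.B (nat_lit 12882) (Step.D (nat_lit 5211) Step.done))) (Scr.cons (nat_lit 1) (nat_lit 1) (Step.B (nat_lit 12880) (Step.F (nat_lit 12883) (Step.D (nat_lit 5571) Step.done))) (Scr.cons (nat_lit 1) (nat_lit 1) (Step.D (nat_lit 5571) (Step.F (nat_lit 12884) Step.done)) (Scr.cons (nat_lit 12) (nat_lit 1) (Step.L (Step.L (Step.L (Step.L (Step.D (nat_lit 5549) Step.done))))) (Scr.cons (nat_lit 9) (nat_lit 1) (Step.U (nat_lit 8237) (Step.U (nat_lit 5212) (Step.F (nat_lit 12885) (Step.L (Step.L (Step.L (Step.L (Step.L (Step.L (Step.L (Step.L (Step.L (Step.L (Step.L (Step.L (Step.L (Step.L (Step.L (Step.L (Step.L (Step.L (Step.B (nat_lit 12886) (Step.D (nat_lit 8647) Step.done))))))))))))))))))))))) (Scr.cons (nat_lit 4) (nat_lit 0) (Step.U (nat_lit 8646) (Step.D (nat_lit 8647) (Step.F (nat_lit 12887) (Step.U (nat_lit 8237) (Step.D (nat_lit 8238) Step.done))))) (Scr.cons (nat_lit 1) (nat_lit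 1) (Step.B (nat_lit 3884) (Step.B (nat_lit 3887) (Step.D (nat_lit 7348) Step.done))) (Scr.cons (nat_lit 1) (nat_lit 1) (Step.D (nat_lit 7348) (Step.F (nat_lit 12889) Step.done)) (Scr.cons (nat_lit 7) (nat_lit 0) (Step.L (Step.L (Step.L (Step.L (Step.D (nat_lit 1423) (Step.D (nat_lit 2887) (Step.D (nat_lit 5212) (Step.D (nat_lit 8238) (Step.F (nat_lit 12888) (Step.U (nat_lit 8646) (Step.U (nat_lit 5549) (Step.D (nat_lit 5550) (Step.F (nat_lit 12890) (Step.L (Step.L (Step.L (Step.L (Step.L (Step.D (nat_lit 4426) (Step.D (nat_lit 7345) (Step.D (nat_lit 10414) Step.done))))))))))))))))))))) (Scr.cons (nat_lit 0) (nat_lit 1) (Step.B (nat_lit 12879) (Step.F (nat_lit 12891) (Step.L Step.done))) (Scr.cons (nat_lit 1) (nat_lit 1) (Step.D (nat_lit 7345) (Step.B (nat_lit 12892) (Step.L Step.done))) (Scr.cons (nat_lit 0) (nat_lit 1) (Step.U (nat_lit 7344) (Step.B (nat_lit 12893) (Step.L Step.done))) (Scr.cons (nat_lit 1) (nat_lit 1) (Step.U (nat_lit 10413) (Step.B (nat_lit 12894)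 (Step.L Step.done))) (Scr.cons (nat_lit 0) (nat_lit 0) (Step.B (nat_lit 12878) (Step.B (nat_lit 12895) Step.done)) (Scr.cons (nat_lit 13) (nat_lit 0) (Step.U (nat_lit 7350) (Step.F (nat_lit 687) (Step.L (Step.L (Step.L (Step.L (Step.L (Step.L (Step.D (nat_lit 4426) (Step.D (nat_lit 7344) (Step.D (nat_lit 10413) Step.done))))))))))) (Scr.cons (nat_lit 0) (nat_lit 1) (Step.B (nat_lit 12897) (Step.B (nat_lit 12895) Step.done)) (Scr.cons (nat_lit 12) (nat_lit 4) (Step.L (Step.F (nat_lit 12896) (Step.B (nat_lit 12898) (Step.L (Step.L Step.done))))) (Scr.cons (nat_lit 6) (nat_lit 1) (Step.L (Step.L (Step.L (Step.L (Step.L (Step.L (Step.L (Step.L (Step.L (Step.D (nat_lit 8254) (Step.D (nat_lit 11206) Step.done))))))))))) (Scr.cons (nat_lit 12) (nat_lit 4) (Step.L (Step.L (Step.L (Step.L (Step.D (nat_lit 8254) Step.done))))) (Scr.cons (nat_lit 13) (nat_lit 2) (Step.L (Step.L (Step.L (Step.L (Step.L (Step.L (Step.L (Step.L (Step.L (Step.B (nat_lit 12901) (Step.D (nat_lit 11206)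 Step.done))))))))))) (Scr.cons (nat_lit 12) (nat_lit 1) (Step.L (Step.B (nat_lit 12900) (Step.F (nat_lit 12902) (Step.L (Step.L Step.done))))) (Scr.cons (nat_lit 12) (nat_lit 4) (Step.L (Step.L (Step.L (Step.L (Step.D (nat_lit 11213) Step.done))))) (Scr.cons (nat_lit 12) (nat_lit 4) (Step.L (Step.D (nat_lit 11213) (Step.F (nat_lit 12904) (Step.L (Step.L Step.done))))) (Scr.cons (nat_lit 12) (nat_lit 1) (Step.L (Step.L (Step.L (Step.L (Step.D (nat_lit 10085) Step.done))))) (Scr.cons (nat_lit 6) (nat_lit 0) (Step.U (nat_lit 7465) (Step.L (Step.L (Step.L (Step.L (Step.L (Step.L (Step.L (Step.L (Step.L (Step.D (nat_lit 10085) Step.done))))))))))) (Scr.cons (nat_lit 11) (nat_lit 0) (Step.L (Step.L (Step.L (Step.D (nat_lit 7464) (Step.D (nat_lit 10516) Step.done))))) (Scr.cons (nat_lit 1) (nat_lit 1) (Step.B (nat_lit 12908) (Step.F (nat_lit 7202) (Step.D (nat_lit 11198) Step.done))) (Scr.cons (nat_lit 1) (nat_lit 1) (Step.D (nat_lit 11198) (Step.F (nat_lit 12909) Step.done))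 (Scr.cons (nat_lit 9) (nat_lit 1) (Step.U (nat_lit 11873) (Step.L (Step.L (Step.L (Step.L (Step.L (Step.L (Step.L (Step.B (nat_lit 12906) (Step.F (nat_lit 12907) (Step.U (nat_lit 7465) (Step.L (Step.F (nat_lit 12910) (Step.U (nat_lit 8243) (Step.L (Step.L (Step.L (Step.L (Step.L (Step.L (Step.L (Step.L (Step.L (Step.D (nat_lit 11217) Step.done)))))))))))))))))))))))) (Scr.cons (nat_lit 1) (nat_lit 1) (Step.D (nat_lit 11873) (Step.B (nat_lit 12911) Step.done)) (Scr.cons (nat_lit 11) (nat_lit 0) (Step.L (Step.B (nat_lit 12912) (Step.U (nat_lit 11217) (Step.L (Step.L Step.done))))) (Scr.cons (nat_lit 12) (nat_lit 1) (Step.L (Step.L (Step.L (Step.L (Step.D (nat_lit 11473) Step.done))))) (Scr.cons (nat_lit 16) (nat_lit 0) (Step.L (Step.L (Step.L (Step.L (Step.L (Step.L (Step.L (Step.L (Step.L (Step.L (Step.L (Step.L (Step.L (Step.L (Step.L (Step.L (Step.L (Step.L (Step.L (Step.L (Step.L (Step.L (Step.D (nat_lit 12027) Step.done))))))))))))))))))))))) (Scr.cons (nat_lit 13)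 (nat_lit 3) (Step.U (nat_lit 11224) (Step.L (Step.L (Step.L (Step.L (Step.L (Step.L (Step.L (Step.L (Step.L (Step.D (nat_lit 11473) Step.done))))))))))) (Scr.cons (nat_lit 7) (nat_lit 1) (Step.U (nat_lit 11354) (Step.U (nat_lit 8503) (Step.L (Step.L (Step.L (Step.L (Step.L (Step.L (Step.L (Step.L (Step.L (Step.L (Step.L (Step.L (Step.L (Step.B (nat_lit 12915) (Step.U (nat_lit 12027) (Step.L (Step.D (nat_lit 11224) (Step.B (nat_lit 12916) Step.done)))))))))))))))))))) (Scr.cons (nat_lit 12) (nat_lit 1) (Step.L (Step.L (Step.L (Step.L (Step.D (nat_lit 8503) Step.done))))) (Scr.cons (nat_lit 7) (nat_lit 2) (Step.L (Step.B (nat_lit 12914) (Step.F (nat_lit 12917) (Step.U (nat_lit 11354) (Step.F (nat_lit 12918) (Step.L (Step.L (Step.L (Step.L (Step.L (Step.L (Step.L (Step.L (Step.L (Step.L (Step.L (Step.L (Step.L (Step.L (Step.L (Step.D (nat_lit 11402) Step.done))))))))))))))))))))) (Scr.cons (nat_lit 1) (nat_lit 1) (Step.D (nat_lit 11402) (Step.F (nat_lit 12919) (Step.D (nat_lit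 8754) Step.done))) (Scr.cons (nat_lit 1) (nat_lit 1) (Step.D (nat_lit 8754) (Step.F (nat_lit 12920) Step.done)) (Scr.cons (nat_lit 12) (nat_lit 4) (Step.U (nat_lit 1426) (Step.F (nat_lit 48) (Step.D (nat_lit 594) (Step.D (nat_lit 1426) (Step.D (nat_lit 2895) Step.done))))) Scr.nil))))))))))))))))))))))))))))))))))))))))
noncomputable def s323 : Scr := (Scr.cons (nat_lit 13) (nat_lit 0) (Step.L (Step.L (Step.L (Step.L (Step.L (Step.D (nat_lit 594) (Step.D (nat_lit 1426) (Step.B (nat_lit 12922) (Step.D (nat_lit 5243) (Step.D (nat_lit 8280) (Step.D (nat_lit 11226) Step.done))))))))))) (Scr.cons (nat_lit 12) (nat_lit 1) (Step.U (nat_lit 5243) (Step.F (nat_lit 12922) (Step.D (nat_lit 2895) (Step.D (nat_lit 5243) (Step.D (nat_lit 8280) Step.done))))) (Scr.cons (nat_lit 6) (nat_lit 3) (Step.L (Step.L (Step.L (Step.L (Step.L (Step.B (nat_lit 48) (Step.D (nat_lit 1426) (Step.D (nat_lit 2895) (Step.D (nat_lit 5243) (Step.B (nat_lit 12924) (Step.D (nat_lit 11226) Step.done)))))))))))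 (Scr.cons (nat_lit 12) (nat_lit 4) (Step.L (Step.B (nat_lit 12923) (Step.F (nat_lit 12925) (Step.L (Step.L Step.done))))) (Scr.cons (nat_lit 12) (nat_lit 1) (Step.L (Step.L (Step.L (Step.L (Step.D (nat_lit 11227) Step.done))))) (Scr.cons (nat_lit 12) (nat_lit 1) (Step.L (Step.D (nat_lit 11227) (Step.F (nat_lit 12927) (Step.L (Step.L Step.done))))) (Scr.cons (nat_lit 12) (nat_lit 4) (Step.U (nat_lit 5816) (Step.L (Step.L (Step.D (nat_lit 5816) (Step.D (nat_lit 8946) Step.done))))) (Scr.cons (nat_lit 12) (nat_lit 1) (Step.U (nat_lit 1474) (Step.L (Step.L (Step.D (nat_lit 1474) (Step.D (nat_lit 2985) Step.done))))) (Scr.cons (nat_lit 12) (nat_lit 1) (Step.U (nat_lit 5381) (Step.F (nat_lit 12930) (Step.D (nat_lit 2985) (Step.D (nat_lit 5381) (Step.D (nat_lit 8439) Step.done))))) (Scr.cons (nat_lit 15) (nat_lit 1) (Step.F (nat_lit 12931) (Step.U (nat_lit 5381) (Step.F (nat_lit 12930) (Step.U (nat_lit 1474) (Step.L (Step.L (Step.L (Step.L (Step.L (Step.L (Step.L (Step.L (Step.L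 (Step.D (nat_lit 5816) (Step.D (nat_lit 8946) Step.done))))))))))))))) (Scr.cons (nat_lit 1) (nat_lit 0) (Step.F (nat_lit 5142) (Step.B (nat_lit 7398) (Step.L Step.done))) (Scr.cons (nat_lit 1) (nat_lit 0) (Step.D (nat_lit 8444) (Step.B (nat_lit 12933) (Step.L Step.done))) (Scr.cons (nat_lit 0) (nat_lit 1) (Step.B (nat_lit 5141) (Step.B (nat_lit 12934) (Step.L Step.done))) (Scr.cons (nat_lit 1) (nat_lit 0) (Step.D (nat_lit 2987) (Step.B (nat_lit 12935) (Step.L Step.done))) (Scr.cons (nat_lit 1) (nat_lit 0) (Step.D (nat_lit 1476) (Step.B (nat_lit 12936) (Step.D (nat_lit 682) Step.done))) (Scr.cons (nat_lit 0) (nat_lit 1) (Step.U (nat_lit 1603) (Step.F (nat_lit 12937) (Step.L Step.done))) (Scr.cons (nat_lit 1) (nat_lit 0) (Step.B (nat_lit 911) (Step.B (nat_lit 12938) (Step.L Step.done))) (Scr.cons (nat_lit 1) (nat_lit 0) (Step.D (nat_lit 1428) (Step.B (nat_lit 12939) (Step.D (nat_lit 1474) Step.done))) (Scr.cons (nat_lit 0) (nat_lit 1) (Step.U (nat_lit 2985) (Step.F (nat_lit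 12940) (Step.L Step.done))) (Scr.cons (nat_lit 1) (nat_lit 0) (Step.U (nat_lit 5381) (Step.B (nat_lit 12941) (Step.L Step.done))) (Scr.cons (nat_lit 0) (nat_lit 1) (Step.U (nat_lit 8439) (Step.B (nat_lit 12942) (Step.L Step.done))) (Scr.cons (nat_lit 1) (nat_lit 0) (Step.F (nat_lit 12932) (Step.B (nat_lit 12943) (Step.L Step.done))) (Scr.cons (nat_lit 0) (nat_lit 0) (Step.B (nat_lit 12929) (Step.B (nat_lit 12944) Step.done)) (Scr.cons (nat_lit 0) (nat_lit 1) (Step.D (nat_lit 8946) (Step.B (nat_lit 12944) Step.done)) (Scr.cons (nat_lit 12) (nat_lit 1) (Step.L (Step.F (nat_lit 12945) (Step.B (nat_lit 12946) (Step.L (Step.L Step.done))))) (Scr.cons (nat_lit 12) (nat_lit 1) (Step.U (nat_lit 8339) (Step.L (Step.L (Step.D (nat_lit 8339) (Step.D (nat_lit 11250) Step.done))))) (Scr.cons (nat_lit 11) (nat_lit 0) (Step.U (nat_lit 5443) (Step.U (nat_lit 3025) (Step.D (nat_lit 3024) (Step.D (nat_lit 5441) (Step.D (nat_lit 8522) Step.done))))) (Scr.cons (nat_lit 12) (nat_lit 4) (Step.L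 (Step.L (Step.L (Step.L (Step.D (nat_lit 1500) Step.done))))) (Scr.cons (nat_lit 12) (nat_lit 1) (Step.U (nat_lit 3025) (Step.F (nat_lit 12950) (Step.D (nat_lit 1500) (Step.D (nat_lit 3025) (Step.D (nat_lit 5442) Step.done))))) (Scr.cons (nat_lit 12) (nat_lit 1) (Step.U (nat_lit 5443) (Step.D (nat_lit 5442) (Step.F (nat_lit 12951) (Step.D (nat_lit 5443) (Step.D (nat_lit 8523) Step.done))))) (Scr.cons (nat_lit 12) (nat_lit 1) (Step.F (nat_lit 12949) (Step.D (nat_lit 8523) (Step.F (nat_lit 12952) (Step.B (nat_lit 12949) (Step.D (nat_lit 11358) Step.done))))) (Scr.cons (nat_lit 12) (nat_lit 1) (Step.U (nat_lit 8701) (Step.L (Step.L (Step.D (nat_lit 8701) (Step.D (nat_lit 11454) Step.done))))) (Scr.cons (nat_lit 12) (nat_lit 1) (Step.U (nat_lit 8336) (Step.L (Step.L (Step.D (nat_lit 8336) (Step.D (nat_lit 11246) Step.done))))) (Scr.cons (nat_lit 16) (nat_lit 5) (Step.F (nat_lit 12955) (Step.U (nat_lit 8336) (Step.L (Step.L (Step.L (Step.L (Step.L (Step.L (Step.L (Step.L (Step.L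 (Step.L (Step.L (Step.D (nat_lit 8) (Step.D (nat_lit 57) (Step.D (nat_lit 214) (Step.D (nat_lit 596) (Step.D (nat_lit 1431) (Step.D (nat_lit 2901) (Step.D (nat_lit 5252) (Step.D (nat_lit 8294) (Step.D (nat_lit 11231) (Step.D (nat_lit 12028) Step.done))))))))))))))))))))))) (Scr.cons (nat_lit 12) (nat_lit 4) (Step.L (Step.L (Step.L (Step.L (Step.D (nat_lit 1706) Step.done))))) (Scr.cons (nat_lit 12) (nat_lit 1) (Step.U (nat_lit 3381) (Step.F (nat_lit 12957) (Step.D (nat_lit 1706) (Step.D (nat_lit 3381) (Step.D (nat_lit 5981) Step.done))))) (Scr.cons (nat_lit 12) (nat_lit 1) (Step.U (nat_lit 598) (Step.D (nat_lit 597) (Step.F (nat_lit 7425) (Step.D (nat_lit 598) (Step.D (nat_lit 1433) Step.done))))) (Scr.cons (nat_lit 12) (nat_lit 1) (Step.U (nat_lit 2902) (Step.F (nat_lit 12959) (Step.D (nat_lit 1433) (Step.D (nat_lit 2902) (Step.D (nat_lit 5253) Step.done))))) (Scr.cons (nat_lit 12) (nat_lit 1) (Step.U (nat_lit 8296) (Step.F (nat_lit 12960) (Step.D (nat_lit 5253) (Step.D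 (nat_lit 8296) (Step.D (nat_lit 11235) Step.done))))) (Scr.cons (nat_lit 11) (nat_lit 0) (Step.U (nat_lit 1440) (Step.L (Step.D (nat_lit 602) (Step.D (nat_lit 1439) (Step.D (nat_lit 2915) Step.done))))) Scr.nil))))))))))))))))))))))))))))))))))))))))
noncomputable def s324 : Scr := (Scr.cons (nat_lit 1) (nat_lit 1) (Step.B (nat_lit 12962) (Step.F (nat_lit 7460) (Step.D (nat_lit 4692) Step.done))) (Scr.cons (nat_lit 1) (nat_lit 1) (Step.D (nat_lit 4692) (Step.F (nat_lit 12963) Step.done)) (Scr.cons (nat_lit 11) (nat_lit 0) (Step.U (nat_lit 1238) (Step.U (nat_lit 495) (Step.D (nat_lit 494) (Step.D (nat_lit 1236) (Step.D (nat_lit 2547) Step.done))))) (Scr.cons (nat_lit 0) (nat_lit 1) (Step.D (nat_lit 1339) (Step.F (nat_lit 7866) Step.done)) (Scr.cons (nat_lit 12) (nat_lit 1) (Step.U (nat_lit 2700) (Step.D (nat_lit 2699) (Step.F (nat_lit 8142) (Step.D (nat_lit 2700) (Step.D (nat_lit 4936) Step.done))))) (Scr.cons (nat_lit 7) (nat_lit 6) (Step.F (nat_lit 7428) (Step.U (nat_lit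 5265) (Step.B (nat_lit 7486) (Step.L (Step.L (Step.D (nat_lit 1440) (Step.F (nat_lit 12964) (Step.F (nat_lit 7431) (Step.B (nat_lit 12965) (Step.U (nat_lit 2547) (Step.U (nat_lit 1236) (Step.F (nat_lit 12966) (Step.L (Step.L (Step.D (nat_lit 193) (Step.B (nat_lit 2710) (Step.D (nat_lit 1315) (Step.D (nat_lit 2700) (Step.B (nat_lit 12967) (Step.D (nat_lit 7946) (Step.D (nat_lit 10932) Step.done))))))))))))))))))))) (Scr.cons (nat_lit 1) (nat_lit 0) (Step.D (nat_lit 10932) (Step.F (nat_lit 12968) Step.done)) (Scr.cons (nat_lit 15) (nat_lit 1) (Step.F (nat_lit 12961) (Step.U (nat_lit 8296) (Step.F (nat_lit 12960) (Step.U (nat_lit 2902) (Step.F (nat_lit 12959) (Step.U (nat_lit 598) (Step.D (nat_lit 597) (Step.D (nat_lit 1432) (Step.F (nat_lit 7426) (Step.D (nat_lit 1439) (Step.D (nat_lit 2914) (Step.D (nat_lit 5265) (Step.D (nat_lit 8304) (Step.F (nat_lit 12969) (Step.D (nat_lit 10931) Step.done))))))))))))))) (Scr.cons (nat_lit 1) (nat_lit 1) (Step.B (nat_lit 12969) (Step.F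 (nat_lit 7489) (Step.L Step.done))) (Scr.cons (nat_lit 0) (nat_lit 1) (Step.U (nat_lit 10931) (Step.B (nat_lit 12971) (Step.D (nat_lit 3383) Step.done))) (Scr.cons (nat_lit 1) (nat_lit 1) (Step.B (nat_lit 12970) (Step.B (nat_lit 12972) (Step.D (nat_lit 5984) Step.done))) (Scr.cons (nat_lit 13) (nat_lit 0) (Step.U (nat_lit 5984) (Step.F (nat_lit 7482) (Step.L (Step.L (Step.L (Step.L (Step.L (Step.B (nat_lit 12957) (Step.D (nat_lit 3381) (Step.D (nat_lit 5981) (Step.D (nat_lit 9143) Step.done))))))))))) (Scr.cons (nat_lit 0) (nat_lit 1) (Step.B (nat_lit 12961) (Step.B (nat_lit 12973) (Step.B (nat_lit 12974) Step.done))) (Scr.cons (nat_lit 1) (nat_lit 0) (Step.D (nat_lit 9143) (Step.F (nat_lit 12975) (Step.D (nat_lit 11236) Step.done))) (Scr.cons (nat_lit 1) (nat_lit 0) (Step.D (nat_lit 11236) (Step.F (nat_lit 12976) Step.done)) (Scr.cons (nat_lit 11) (nat_lit 0) (Step.U (nat_lit 11632) (Step.U (nat_lit 9144) (Step.F (nat_lit 12977) (Step.U (nat_lit 8296) (Step.D (nat_lit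 8295) (Step.D (nat_lit 11234) Step.done)))))) (Scr.cons (nat_lit 1) (nat_lit 0) (Step.D (nat_lit 11632) (Step.B (nat_lit 12978) Step.done)) (Scr.cons (nat_lit 12) (nat_lit 4) (Step.U (nat_lit 8295) (Step.F (nat_lit 12960) (Step.D (nat_lit 5253) (Step.D (nat_lit 8295) (Step.D (nat_lit 11233) Step.done))))) (Scr.cons (nat_lit 11) (nat_lit 0) (Step.U (nat_lit 598) (Step.U (nat_lit 215) (Step.D (nat_lit 214) (Step.D (nat_lit 596) (Step.D (nat_lit 1431) Step.done))))) (Scr.cons (nat_lit 12) (nat_lit 1) (Step.F (nat_lit 12981) (Step.D (nat_lit 1433) (Step.F (nat_lit 12959) (Step.B (nat_lit 12981) (Step.D (nat_lit 2901) Step.done))))) (Scr.cons (nat_lit 12) (nat_lit 4) (Step.U (nat_lit 5252) (Step.F (nat_lit 12982) (Step.D (nat_lit 2901) (Step.D (nat_lit 5252) (Step.D (nat_lit 8294) Step.done))))) (Scr.cons (nat_lit 13) (nat_lit 3) (Step.U (nat_lit 11233) (Step.U (nat_lit 8295) (Step.F (nat_lit 12960) (Step.U (nat_lit 2902) (Step.U (nat_lit 1433) (Step.B (nat_lit 12981) (Step.D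 (nat_lit 2901) (Step.D (nat_lit 5252) (Step.B (nat_lit 12983) (Step.D (nat_lit 11232) (Step.D (nat_lit 12029) Step.done))))))))))) (Scr.cons (nat_lit 4) (nat_lit 0) (Step.B (nat_lit 12956) (Step.U (nat_lit 12028) (Step.U (nat_lit 11231) (Step.D (nat_lit 11232) (Step.D (nat_lit 12030) Step.done))))) (Scr.cons (nat_lit 9) (nat_lit 3) (Step.U (nat_lit 8702) (Step.U (nat_lit 5610) (Step.L (Step.L (Step.L (Step.L (Step.L (Step.L (Step.L (Step.L (Step.L (Step.L (Step.B (nat_lit 12957) (Step.D (nat_lit 3381) (Step.B (nat_lit 12958) (Step.D (nat_lit 9144) (Step.B (nat_lit 12979) (Step.U (nat_lit 11234) (Step.B (nat_lit 12980) (Step.B (nat_lit 12984) (Step.U (nat_lit 12029) (Step.D (nat_lit 12030) (Step.F (nat_lit 12985) (Step.B (nat_lit 12956) Step.done)))))))))))))))))))))))) (Scr.cons (nat_lit 1) (nat_lit 1) (Step.B (nat_lit 12956) (Step.F (nat_lit 12986) (Step.D (nat_lit 11455) Step.done))) (Scr.cons (nat_lit 1) (nat_lit 1) (Step.D (nat_lit 11455) (Step.F (nat_lit 12987) Step.done))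 (Scr.cons (nat_lit 8) (nat_lit 0) (Step.U (nat_lit 11247) (Step.U (nat_lit 8337) (Step.U (nat_lit 5299) (Step.L (Step.L (Step.L (Step.D (nat_lit 8336) (Step.B (nat_lit 12955) (Step.F (nat_lit 12988) (Step.U (nat_lit 8702) (Step.U (nat_lit 5610) (Step.L (Step.L (Step.L (Step.D (nat_lit 8701) (Step.B (nat_lit 12954) Step.done)))))))))))))))) (Scr.cons (nat_lit 0) (nat_lit 0) (Step.B (nat_lit 12954) (Step.F (nat_lit 12989) Step.done)) (Scr.cons (nat_lit 12) (nat_lit 4) (Step.U (nat_lit 3024) (Step.F (nat_lit 12950) (Step.D (nat_lit 1500) (Step.D (nat_lit 3024) (Step.D (nat_lit 5440) Step.done))))) (Scr.cons (nat_lit 12) (nat_lit 4) (Step.U (nat_lit 5441) (Step.D (nat_lit 5440) (Step.F (nat_lit 12991) (Step.D (nat_lit 5441) (Step.D (nat_lit 8521) Step.done))))) (Scr.cons (nat_lit 11) (nat_lit 0) (Step.U (nat_lit 3158) (Step.U (nat_lit 1586) (Step.D (nat_lit 1585) (Step.D (nat_lit 3156) (Step.D (nat_lit 5596) Step.done))))) (Scr.cons (nat_lit 12) (nat_lit 4) (Step.U (nat_lit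 244) (Step.L (Step.L (Step.D (nat_lit 244) (Step.D (nat_lit 672) Step.done))))) (Scr.cons (nat_lit 12) (nat_lit 1) (Step.U (nat_lit 1586) (Step.F (nat_lit 12994) (Step.D (nat_lit 672) (Step.D (nat_lit 1586) (Step.D (nat_lit 3157) Step.done))))) (Scr.cons (nat_lit 12) (nat_lit 1) (Step.U (nat_lit 3158) (Step.D (nat_lit 3157) (Step.F (nat_lit 12995) (Step.D (nat_lit 3158) (Step.D (nat_lit 5597) Step.done))))) (Scr.cons (nat_lit 12) (nat_lit 1) (Step.F (nat_lit 12993) (Step.D (nat_lit 5597) (Step.F (nat_lit 12996) (Step.B (nat_lit 12993) (Step.D (nat_lit 8687) Step.done))))) (Scr.cons (nat_lit 11) (nat_lit 0) (Step.L (Step.L (Step.D (nat_lit 244) (Step.D (nat_lit 673) (Step.D (nat_lit 1588) Step.done))))) (Scr.cons (nat_lit 12) (nat_lit 1) (Step.F (nat_lit 12998) (Step.L (Step.L (Step.B (nat_lit 12998) (Step.D (nat_lit 3161) Step.done))))) (Scr.cons (nat_lit 7) (nat_lit 5) (Step.F (nat_lit 12999) (Step.U (nat_lit 1588) (Step.U (nat_lit 673) (Step.U (nat_lit 244) (Step.L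 (Step.L (Step.L (Step.L (Step.L (Step.L (Step.L (Step.L (Step.L (Step.L (Step.L (Step.L (Step.L (Step.L (Step.L (Step.L Step.done)))))))))))))))))))) (Scr.cons (nat_lit 7) (nat_lit 4) (Step.U (nat_lit 5441) (Step.U (nat_lit 3024) (Step.F (nat_lit 12950) (Step.L (Step.L (Step.L (Step.L (Step.L (Step.L (Step.L (Step.L (Step.L (Step.F (nat_lit 13000) (Step.U (nat_lit 3161) (Step.U (nat_lit 1588) (Step.U (nat_lit 673) (Step.D (nat_lit 672) (Step.D (nat_lit 1586) (Step.D (nat_lit 3158) (Step.B (nat_lit 12993) (Step.B (nat_lit 12997) Step.done))))))))))))))))))))) (Scr.cons (nat_lit 0) (nat_lit 1) (Step.B (nat_lit 12997) (Step.F (nat_lit 13001) (Step.D (nat_lit 8521) Step.done))) Scr.nil))))))))))))))))))))))))))))))))))))))))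
noncomputable def s325 : Scr := (Scr.cons (nat_lit 0) (nat_lit 0) (Step.B (nat_lit 12992) (Step.F (nat_lit 13002) Step.done)) (Scr.cons (nat_lit 16) (nat_lit 3) (Step.U (nat_lit 11248) (Step.D (nat_lit 11247) (Step.F (nat_lit 12990) (Step.U (nat_lit 8701) (Step.L (Step.L (Step.L (Step.L (Step.L (Step.L (Step.L (Step.L (Step.L (Step.L (Step.L (Step.D (nat_lit 244) (Step.D (nat_lit 672) (Step.D (nat_lit 1585) (Step.D (nat_lit 3156) (Step.D (nat_lit 5596) (Step.F (nat_lit 13003) (Step.D (nat_lit 8522) (Step.D (nat_lit 11358) Step.done))))))))))))))))))))))) (Scr.cons (nat_lit 12) (nat_lit 4) (Step.U (nat_lit 5299) (Step.L (Step.L (Step.D (nat_lit 5299) (Step.D (nat_lit 8337) Step.done))))) (Scr.cons (nat_lit 11) (nat_lit 0) (Step.U (nat_lit 8339) (Step.L (Step.D (nat_lit 5299) (Step.D (nat_lit 8338) (Step.D (nat_lit 11249) Step.done))))) (Scr.cons (nat_lit 14) (nat_lit 1) (Step.L (Step.L (Step.L (Step.L (Step.L (Step.L (Step.L (Step.L (Step.L (Step.D (nat_lit 1500) (Step.D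 (nat_lit 3024) (Step.D (nat_lit 5441) (Step.D (nat_lit 8522) (Step.B (nat_lit 12953) (Step.F (nat_lit 13004) (Step.U (nat_lit 11248) (Step.F (nat_lit 13005) (Step.D (nat_lit 8338) (Step.D (nat_lit 11249) (Step.F (nat_lit 13006) (Step.B (nat_lit 12948) Step.done))))))))))))))))))))) (Scr.cons (nat_lit 0) (nat_lit 1) (Step.B (nat_lit 12948) (Step.F (nat_lit 13007) (Step.L Step.done))) (Scr.cons (nat_lit 1) (nat_lit 1) (Step.D (nat_lit 8339) (Step.B (nat_lit 13008) (Step.D (nat_lit 5445) Step.done))) (Scr.cons (nat_lit 1) (nat_lit 1) (Step.D (nat_lit 5445) (Step.F (nat_lit 13009) Step.done)) (Scr.cons (nat_lit 12) (nat_lit 1) (Step.L (Step.L (Step.L (Step.L (Step.D (nat_lit 8526) Step.done))))) (Scr.cons (nat_lit 12) (nat_lit 1) (Step.L (Step.L (Step.L (Step.L (Step.D (nat_lit 2409) Step.done))))) (Scr.cons (nat_lit 12) (nat_lit 1) (Step.L (Step.D (nat_lit 2409) (Step.F (nat_lit 13012) (Step.L (Step.D (nat_lit 4484) Step.done))))) (Scr.cons (nat_lit 12) (nat_lit 1) (Step.L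 (Step.D (nat_lit 4484) (Step.F (nat_lit 13013) (Step.L (Step.D (nat_lit 7418) Step.done))))) (Scr.cons (nat_lit 7) (nat_lit 5) (Step.F (nat_lit 13014) (Step.L (Step.L (Step.L (Step.L (Step.L (Step.L (Step.L (Step.L (Step.L (Step.L (Step.L (Step.L (Step.L (Step.L (Step.L (Step.L (Step.L (Step.L (Step.D (nat_lit 4636) Step.done)))))))))))))))))))) (Scr.cons (nat_lit 7) (nat_lit 1) (Step.D (nat_lit 4636) (Step.F (nat_lit 13015) (Step.U (nat_lit 7418) (Step.L (Step.L (Step.L (Step.L (Step.L (Step.L (Step.L (Step.L (Step.L (Step.L (Step.L (Step.L (Step.L (Step.L (Step.L (Step.L (Step.D (nat_lit 8526) (Step.D (nat_lit 11360) Step.done))))))))))))))))))))) (Scr.cons (nat_lit 1) (nat_lit 1) (Step.D (nat_lit 11360) (Step.F (nat_lit 13016) (Step.L Step.done))) (Scr.cons (nat_lit 0) (nat_lit 1) (Step.B (nat_lit 13011) (Step.B (nat_lit 13017) (Step.D (nat_lit 7593) Step.done))) (Scr.cons (nat_lit 0) (nat_lit 0) (Step.B (nat_lit 1542) (Step.F (nat_lit 13018) Step.done)) (Scr.cons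 (nat_lit 13) (nat_lit 0) (Step.L (Step.L (Step.L (Step.L (Step.L (Step.L (Step.L (Step.L (Step.L (Step.D (nat_lit 3758) (Step.D (nat_lit 6505) Step.done))))))))))) (Scr.cons (nat_lit 12) (nat_lit 1) (Step.L (Step.L (Step.L (Step.L (Step.D (nat_lit 3758) Step.done))))) (Scr.cons (nat_lit 6) (nat_lit 3) (Step.L (Step.L (Step.L (Step.L (Step.L (Step.L (Step.L (Step.L (Step.L (Step.B (nat_lit 13021) (Step.D (nat_lit 6505) Step.done))))))))))) (Scr.cons (nat_lit 12) (nat_lit 4) (Step.L (Step.B (nat_lit 13020) (Step.F (nat_lit 13022) (Step.L (Step.D (nat_lit 9655) Step.done))))) (Scr.cons (nat_lit 12) (nat_lit 4) (Step.U (nat_lit 10501) (Step.F (nat_lit 1517) (Step.D (nat_lit 7449) (Step.D (nat_lit 10501) (Step.D (nat_lit 11922) Step.done))))) (Scr.cons (nat_lit 13) (nat_lit 3) (Step.U (nat_lit 11922) (Step.U (nat_lit 10501) (Step.F (nat_lit 1517) (Step.L (Step.L (Step.L (Step.L (Step.L (Step.B (nat_lit 1542) (Step.D (nat_lit 10623) (Step.D (nat_lit 11938) Step.done)))))))))))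 (Scr.cons (nat_lit 11) (nat_lit 0) (Step.L (Step.L (Step.L (Step.L (Step.D (nat_lit 8525) Step.done))))) (Scr.cons (nat_lit 1) (nat_lit 0) (Step.U (nat_lit 10623) (Step.F (nat_lit 13018) (Step.B (nat_lit 13026) Step.done))) (Scr.cons (nat_lit 0) (nat_lit 1) (Step.U (nat_lit 11938) (Step.B (nat_lit 13027) (Step.D (nat_lit 11359) Step.done))) (Scr.cons (nat_lit 11) (nat_lit 0) (Step.L (Step.L (Step.L (Step.L (Step.D (nat_lit 9656) Step.done))))) (Scr.cons (nat_lit 12) (nat_lit 1) (Step.F (nat_lit 13029) (Step.L (Step.L (Step.B (nat_lit 13029) (Step.D (nat_lit 11805) Step.done))))) (Scr.cons (nat_lit 16) (nat_lit 1) (Step.F (nat_lit 13030) (Step.F (nat_lit 13029) (Step.L (Step.L (Step.L (Step.L (Step.L (Step.L (Step.L (Step.L (Step.L (Step.L (Step.L (Step.L (Step.L (Step.L (Step.L (Step.L (Step.L (Step.L (Step.L (Step.D (nat_lit 8525) (Step.D (nat_lit 11359) Step.done))))))))))))))))))))))) (Scr.cons (nat_lit 1) (nat_lit 1) (Step.B (nat_lit 13025) (Step.B (nat_lit 13028)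 (Step.F (nat_lit 13031) Step.done))) (Scr.cons (nat_lit 0) (nat_lit 1) (Step.B (nat_lit 13024) (Step.B (nat_lit 13032) (Step.F (nat_lit 13030) Step.done))) (Scr.cons (nat_lit 1) (nat_lit 0) (Step.D (nat_lit 10501) (Step.B (nat_lit 13033) (Step.U (nat_lit 9656) Step.done))) (Scr.cons (nat_lit 0) (nat_lit 1) (Step.B (nat_lit 1517) (Step.B (nat_lit 13034) (Step.D (nat_lit 9655) Step.done))) (Scr.cons (nat_lit 0) (nat_lit 0) (Step.B (nat_lit 13023) (Step.F (nat_lit 13035) Step.done)) (Scr.cons (nat_lit 12) (nat_lit 4) (Step.U (nat_lit 329) (Step.L (Step.L (Step.D (nat_lit 329) (Step.D (nat_lit 893) Step.done))))) (Scr.cons (nat_lit 15) (nat_lit 0) (Step.L (Step.L (Step.L (Step.L (Step.L (Step.L (Step.L (Step.L (Step.L (Step.L (Step.L (Step.L (Step.D (nat_lit 329) (Step.D (nat_lit 893) (Step.D (nat_lit 1935) Step.done))))))))))))))) (Scr.cons (nat_lit 12) (nat_lit 4) (Step.U (nat_lit 1935) (Step.F (nat_lit 13037) (Step.D (nat_lit 893) (Step.D (nat_lit 1935) (Step.F (nat_lit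 13038) Step.done))))) (Scr.cons (nat_lit 12) (nat_lit 4) (Step.U (nat_lit 3747) (Step.F (nat_lit 13038) (Step.F (nat_lit 13039) (Step.D (nat_lit 3747) (Step.D (nat_lit 6493) Step.done))))) (Scr.cons (nat_lit 13) (nat_lit 2) (Step.U (nat_lit 6593) (Step.L (Step.L (Step.L (Step.L (Step.L (Step.L (Step.F (nat_lit 13039) (Step.D (nat_lit 3747) (Step.B (nat_lit 13040) (Step.D (nat_lit 9639) Step.done))))))))))) (Scr.cons (nat_lit 15) (nat_lit 0) (Step.U (nat_lit 5400) (Step.L (Step.L (Step.L (Step.L (Step.L (Step.L (Step.L (Step.L (Step.L (Step.L (Step.L (Step.L (Step.L (Step.D (nat_lit 8454) Step.done))))))))))))))) Scr.nil))))))))))))))))))))))))))))))))))))))))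
noncomputable def s326 : Scr := (Scr.cons (nat_lit 12) (nat_lit 4) (Step.U (nat_lit 8454) (Step.L (Step.L (Step.D (nat_lit 8454) (Step.F (nat_lit 13042) Step.done))))) (Scr.cons (nat_lit 11) (nat_lit 0) (Step.U (nat_lit 3749) (Step.U (nat_lit 1936) (Step.D (nat_lit 1935) (Step.D (nat_lit 3747) (Step.D (nat_lit 6494) Step.done))))) (Scr.cons (nat_lit 12) (nat_lit 1) (Step.U (nat_lit 1936) (Step.F (nat_lit 13037) (Step.D (nat_lit 893) (Step.D (nat_lit 1936) (Step.D (nat_lit 3748) Step.done))))) (Scr.cons (nat_lit 12) (nat_lit 1) (Step.U (nat_lit 3749) (Step.D (nat_lit 3748) (Step.F (nat_lit 13045) (Step.D (nat_lit 3749) (Step.D (nat_lit 6496) Step.done))))) (Scr.cons (nat_lit 12) (nat_lit 1) (Step.F (nat_lit 13044) (Step.D (nat_lit 6496) (Step.F (nat_lit 13046) (Step.B (nat_lit 13044) (Step.D (nat_lit 9640) Step.done))))) (Scr.cons (nat_lit 11) (nat_lit 0) (Step.L (Step.L (Step.L (Step.D (nat_lit 1943) (Step.D (nat_lit 3757) Step.done))))) (Scr.cons (nat_lit 12) (nat_lit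 1) (Step.F (nat_lit 13048) (Step.D (nat_lit 3758) (Step.F (nat_lit 13021) (Step.B (nat_lit 13048) (Step.D (nat_lit 6504) Step.done))))) (Scr.cons (nat_lit 12) (nat_lit 4) (Step.U (nat_lit 2997) (Step.L (Step.L (Step.D (nat_lit 2997) (Step.D (nat_lit 5395) Step.done))))) (Scr.cons (nat_lit 12) (nat_lit 4) (Step.U (nat_lit 8465) (Step.F (nat_lit 13050) (Step.D (nat_lit 5395) (Step.D (nat_lit 8465) (Step.D (nat_lit 11324) Step.done))))) (Scr.cons (nat_lit 12) (nat_lit 1) (Step.U (nat_lit 10502) (Step.F (nat_lit 1517) (Step.D (nat_lit 7449) (Step.D (nat_lit 10502) (Step.D (nat_lit 11923) Step.done))))) (Scr.cons (nat_lit 15) (nat_lit 1) (Step.F (nat_lit 13052) (Step.U (nat_lit 10502) (Step.F (nat_lit 1517) (Step.L (Step.L (Step.L (Step.L (Step.L (Step.L (Step.L (Step.L (Step.D (nat_lit 2997) (Step.D (nat_lit 5395) (Step.D (nat_lit 8465) (Step.D (nat_lit 11324) Step.done))))))))))))))) (Scr.cons (nat_lit 1) (nat_lit 0) (Step.U (nat_lit 10502) (Step.B (nat_lit 13034) (Step.L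 Step.done))) (Scr.cons (nat_lit 0) (nat_lit 1) (Step.U (nat_lit 11923) (Step.B (nat_lit 13054) (Step.B (nat_lit 13020) Step.done))) (Scr.cons (nat_lit 1) (nat_lit 0) (Step.F (nat_lit 13053) (Step.B (nat_lit 13055) (Step.U (nat_lit 6505) Step.done))) (Scr.cons (nat_lit 0) (nat_lit 1) (Step.B (nat_lit 13051) (Step.B (nat_lit 13056) (Step.F (nat_lit 13021) Step.done))) (Scr.cons (nat_lit 1) (nat_lit 0) (Step.D (nat_lit 8465) (Step.B (nat_lit 13057) (Step.B (nat_lit 13048) Step.done))) (Scr.cons (nat_lit 0) (nat_lit 1) (Step.B (nat_lit 13050) (Step.B (nat_lit 13058) (Step.D (nat_lit 6504) Step.done))) (Scr.cons (nat_lit 0) (nat_lit 0) (Step.B (nat_lit 13049) (Step.F (nat_lit 13059) Step.done)) (Scr.cons (nat_lit 16) (nat_lit 2) (Step.L (Step.L (Step.L (Step.L (Step.L (Step.D (nat_lit 2997) (Step.F (nat_lit 13060) (Step.F (nat_lit 13048) (Step.L (Step.L (Step.L (Step.L (Step.L (Step.L (Step.L (Step.L (Step.L (Step.D (nat_lit 329) (Step.D (nat_lit 893) (Step.D (nat_lit 1935)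 (Step.D (nat_lit 3747) (Step.D (nat_lit 6494) (Step.D (nat_lit 9640) (Step.D (nat_lit 11794) Step.done)))))))))))))))))))))))) (Scr.cons (nat_lit 1) (nat_lit 0) (Step.D (nat_lit 11794) (Step.F (nat_lit 13061) (Step.L Step.done))) (Scr.cons (nat_lit 0) (nat_lit 1) (Step.B (nat_lit 13047) (Step.B (nat_lit 13062) (Step.L Step.done))) (Scr.cons (nat_lit 1) (nat_lit 0) (Step.D (nat_lit 6494) (Step.B (nat_lit 13063) (Step.D (nat_lit 5400) Step.done))) (Scr.cons (nat_lit 0) (nat_lit 1) (Step.B (nat_lit 13043) (Step.F (nat_lit 13064) (Step.D (nat_lit 6493) Step.done))) (Scr.cons (nat_lit 1) (nat_lit 0) (Step.D (nat_lit 8454) (Step.B (nat_lit 13065) (Step.D (nat_lit 9639) Step.done))) (Scr.cons (nat_lit 0) (nat_lit 1) (Step.B (nat_lit 13041) (Step.F (nat_lit 13066) (Step.L Step.done))) (Scr.cons (nat_lit 1) (nat_lit 1) (Step.D (nat_lit 6593) (Step.B (nat_lit 13067) (Step.D (nat_lit 5390) Step.done))) (Scr.cons (nat_lit 1) (nat_lit 1) (Step.D (nat_lit 5390) (Step.F (nat_lit 13068)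 Step.done)) (Scr.cons (nat_lit 12) (nat_lit 4) (Step.L (Step.L (Step.L (Step.L (Step.D (nat_lit 922) Step.done))))) (Scr.cons (nat_lit 12) (nat_lit 4) (Step.U (nat_lit 1987) (Step.F (nat_lit 13070) (Step.D (nat_lit 922) (Step.D (nat_lit 1987) (Step.D (nat_lit 3827) Step.done))))) (Scr.cons (nat_lit 12) (nat_lit 1) (Step.U (nat_lit 6601) (Step.F (nat_lit 13071) (Step.D (nat_lit 3827) (Step.D (nat_lit 6601) (Step.D (nat_lit 9756) Step.done))))) (Scr.cons (nat_lit 6) (nat_lit 3) (Step.L (Step.L (Step.L (Step.L (Step.L (Step.B (nat_lit 13070) (Step.D (nat_lit 1987) (Step.D (nat_lit 3827) (Step.D (nat_lit 6601) (Step.B (nat_lit 13072) (Step.D (nat_lit 11835) Step.done))))))))))) (Scr.cons (nat_lit 12) (nat_lit 1) (Step.U (nat_lit 1988) (Step.F (nat_lit 13070) (Step.D (nat_lit 922) (Step.D (nat_lit 1988) (Step.D (nat_lit 3828) Step.done))))) (Scr.cons (nat_lit 13) (nat_lit 0) (Step.U (nat_lit 3831) (Step.F (nat_lit 9554) (Step.U (nat_lit 923) (Step.U (nat_lit 342) (Step.L (Step.L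 (Step.L (Step.B (nat_lit 13070) (Step.D (nat_lit 1988) (Step.D (nat_lit 3828) (Step.D (nat_lit 6602) Step.done))))))))))) (Scr.cons (nat_lit 4) (nat_lit 0) (Step.U (nat_lit 3831) (Step.D (nat_lit 3832) (Step.B (nat_lit 11653) (Step.U (nat_lit 5147) (Step.D (nat_lit 5148) Step.done))))) (Scr.cons (nat_lit 1) (nat_lit 0) (Step.U (nat_lit 5148) (Step.B (nat_lit 11660) (Step.L Step.done))) (Scr.cons (nat_lit 1) (nat_lit 0) (Step.B (nat_lit 13076) (Step.B (nat_lit 13077) (Step.L Step.done))) (Scr.cons (nat_lit 0) (nat_lit 1) (Step.F (nat_lit 13075) (Step.B (nat_lit 13078) (Step.L Step.done))) (Scr.cons (nat_lit 1) (nat_lit 0) (Step.D (nat_lit 6602) (Step.B (nat_lit 13079) (Step.L Step.done))) (Scr.cons (nat_lit 0) (nat_lit 1) (Step.B (nat_lit 13074) (Step.B (nat_lit 13080) (Step.L Step.done))) (Scr.cons (nat_lit 1) (nat_lit 1) (Step.D (nat_lit 1988) (Step.B (nat_lit 13081) (Step.L Step.done))) Scr.nil))))))))))))))))))))))))))))))))))))))))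
noncomputable def s327 : Scr := (Scr.cons (nat_lit 1) (nat_lit 1) (Step.U (nat_lit 1987) (Step.B (nat_lit 13082) (Step.D (nat_lit 1966) Step.done))) (Scr.cons (nat_lit 0) (nat_lit 1) (Step.U (nat_lit 3827) (Step.B (nat_lit 13083) (Step.D (nat_lit 3795) Step.done))) (Scr.cons (nat_lit 1) (nat_lit 0) (Step.U (nat_lit 6601) (Step.B (nat_lit 13084) (Step.D (nat_lit 6564) Step.done))) (Scr.cons (nat_lit 0) (nat_lit 1) (Step.U (nat_lit 9756) (Step.B (nat_lit 13085) (Step.D (nat_lit 9719) Step.done))) (Scr.cons (nat_lit 1) (nat_lit 1) (Step.U (nat_lit 11835) (Step.B (nat_lit 13086) (Step.D (nat_lit 11824) Step.done))) (Scr.cons (nat_lit 0) (nat_lit 0) (Step.B (nat_lit 13073) (Step.B (nat_lit 13087) Step.done)) (Scr.cons (nat_lit 12) (nat_lit 4) (Step.L (Step.L (Step.L (Step.L (Step.D (nat_lit 11339) Step.done))))) (Scr.cons (nat_lit 12) (nat_lit 1) (Step.U (nat_lit 9641) (Step.F (nat_lit 13046) (Step.D (nat_lit 6496) (Step.D (nat_lit 9641) (Step.D (nat_lit 11795) Step.done)))))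 (Scr.cons (nat_lit 6) (nat_lit 3) (Step.U (nat_lit 3752) (Step.L (Step.L (Step.L (Step.L (Step.L (Step.D (nat_lit 329) (Step.D (nat_lit 893) (Step.D (nat_lit 1936) (Step.B (nat_lit 13045) (Step.D (nat_lit 6495) Step.done))))))))))) (Scr.cons (nat_lit 11) (nat_lit 0) (Step.L (Step.L (Step.L (Step.L (Step.D (nat_lit 3752) Step.done))))) (Scr.cons (nat_lit 13) (nat_lit 3) (Step.U (nat_lit 3009) (Step.L (Step.L (Step.L (Step.L (Step.L (Step.L (Step.L (Step.L (Step.L (Step.D (nat_lit 5413) Step.done))))))))))) (Scr.cons (nat_lit 15) (nat_lit 1) (Step.F (nat_lit 13090) (Step.U (nat_lit 9641) (Step.F (nat_lit 13046) (Step.U (nat_lit 3749) (Step.D (nat_lit 3748) (Step.D (nat_lit 6495) (Step.F (nat_lit 13091) (Step.F (nat_lit 13092) (Step.D (nat_lit 5413) (Step.F (nat_lit 13093) (Step.F (nat_lit 434) (Step.L (Step.L (Step.L (Step.D (nat_lit 11339) Step.done))))))))))))))) (Scr.cons (nat_lit 12) (nat_lit 4) (Step.U (nat_lit 5399) (Step.L (Step.L (Step.D (nat_lit 5399) (Step.D (nat_lit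 8469) Step.done))))) (Scr.cons (nat_lit 13) (nat_lit 2) (Step.L (Step.L (Step.L (Step.L (Step.L (Step.L (Step.L (Step.L (Step.D (nat_lit 5399) (Step.B (nat_lit 13095) (Step.D (nat_lit 11326) Step.done))))))))))) (Scr.cons (nat_lit 1) (nat_lit 1) (Step.B (nat_lit 13044) (Step.B (nat_lit 13063) (Step.D (nat_lit 5399) Step.done))) (Scr.cons (nat_lit 0) (nat_lit 1) (Step.U (nat_lit 8469) (Step.F (nat_lit 13097) (Step.D (nat_lit 6496) Step.done))) (Scr.cons (nat_lit 1) (nat_lit 0) (Step.U (nat_lit 11326) (Step.B (nat_lit 13098) (Step.D (nat_lit 9641) Step.done))) (Scr.cons (nat_lit 0) (nat_lit 1) (Step.B (nat_lit 13096) (Step.B (nat_lit 13099) (Step.D (nat_lit 11795) Step.done))) (Scr.cons (nat_lit 1) (nat_lit 0) (Step.F (nat_lit 13094) (Step.F (nat_lit 13100) (Step.L Step.done))) (Scr.cons (nat_lit 13) (nat_lit 0) (Step.L (Step.L (Step.L (Step.L (Step.L (Step.D (nat_lit 922) (Step.D (nat_lit 1987) (Step.B (nat_lit 13071) (Step.D (nat_lit 6601) (Step.D (nat_lit 9756) (Step.D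 (nat_lit 11835) Step.done))))))))))) (Scr.cons (nat_lit 0) (nat_lit 1) (Step.B (nat_lit 13102) (Step.B (nat_lit 13087) Step.done)) (Scr.cons (nat_lit 0) (nat_lit 1) (Step.B (nat_lit 13089) (Step.B (nat_lit 13101) (Step.B (nat_lit 13103) Step.done))) (Scr.cons (nat_lit 0) (nat_lit 0) (Step.B (nat_lit 13088) (Step.F (nat_lit 13104) Step.done)) (Scr.cons (nat_lit 8) (nat_lit 1) (Step.U (nat_lit 6600) (Step.U (nat_lit 3827) (Step.U (nat_lit 1987) (Step.U (nat_lit 922) (Step.L (Step.L (Step.L (Step.L (Step.L (Step.L (Step.L (Step.L (Step.L (Step.L (Step.D (nat_lit 9754) Step.done))))))))))))))) (Scr.cons (nat_lit 1) (nat_lit 1) (Step.U (nat_lit 6600) (Step.B (nat_lit 13084) (Step.D (nat_lit 6563) Step.done))) (Scr.cons (nat_lit 0) (nat_lit 1) (Step.F (nat_lit 13106) (Step.B (nat_lit 13107) (Step.D (nat_lit 9718) Step.done))) (Scr.cons (nat_lit 1) (nat_lit 1) (Step.D (nat_lit 9754) (Step.B (nat_lit 13108) (Step.D (nat_lit 11822) Step.done))) (Scr.cons (nat_lit 1) (nat_lit 1)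 (Step.D (nat_lit 11822) (Step.F (nat_lit 13109) Step.done)) (Scr.cons (nat_lit 11) (nat_lit 0) (Step.L (Step.L (Step.L (Step.L (Step.D (nat_lit 5416) Step.done))))) (Scr.cons (nat_lit 12) (nat_lit 4) (Step.L (Step.L (Step.L (Step.L (Step.D (nat_lit 1965) Step.done))))) (Scr.cons (nat_lit 12) (nat_lit 4) (Step.U (nat_lit 1966) (Step.D (nat_lit 1965) (Step.F (nat_lit 13112) (Step.D (nat_lit 1966) (Step.D (nat_lit 3795) Step.done))))) (Scr.cons (nat_lit 12) (nat_lit 1) (Step.U (nat_lit 6564) (Step.F (nat_lit 13113) (Step.D (nat_lit 3795) (Step.D (nat_lit 6564) (Step.D (nat_lit 9719) Step.done))))) (Scr.cons (nat_lit 1) (nat_lit 0) (Step.D (nat_lit 11824) (Step.F (nat_lit 13104) (Step.L Step.done))) (Scr.cons (nat_lit 0) (nat_lit 1) (Step.B (nat_lit 13114) (Step.B (nat_lit 13115) (Step.L Step.done))) (Scr.cons (nat_lit 1) (nat_lit 1) (Step.D (nat_lit 6564) (Step.B (nat_lit 13116) (Step.D (nat_lit 5416) Step.done))) (Scr.cons (nat_lit 1) (nat_lit 1) (Step.B (nat_lit 13111)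 (Step.F (nat_lit 13117) (Step.D (nat_lit 6563) Step.done))) (Scr.cons (nat_lit 0) (nat_lit 1) (Step.U (nat_lit 9718) (Step.F (nat_lit 13118) (Step.L Step.done))) (Scr.cons (nat_lit 1) (nat_lit 1) (Step.F (nat_lit 13110) (Step.B (nat_lit 13119) (Step.D (nat_lit 8485) Step.done))) (Scr.cons (nat_lit 1) (nat_lit 1) (Step.D (nat_lit 8485) (Step.F (nat_lit 13120) Step.done)) (Scr.cons (nat_lit 12) (nat_lit 1) (Step.L (Step.L (Step.L (Step.L (Step.D (nat_lit 11846) Step.done))))) Scr.nil))))))))))))))))))))))))))))))))))))))))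
noncomputable def s328 : Scr := (Scr.cons (nat_lit 11) (nat_lit 0) (Step.U (nat_lit 6599) (Step.L (Step.L (Step.L (Step.D (nat_lit 9753) Step.done))))) (Scr.cons (nat_lit 12) (nat_lit 1) (Step.U (nat_lit 3891) (Step.F (nat_lit 611) (Step.D (nat_lit 2023) (Step.D (nat_lit 3891) (Step.D (nat_lit 6683) Step.done))))) (Scr.cons (nat_lit 12) (nat_lit 1) (Step.U (nat_lit 6684) (Step.D (nat_lit 6683) (Step.F (nat_lit 13124) (Step.D (nat_lit 6684) (Step.D (nat_lit 9844) Step.done))))) (Scr.cons (nat_lit 12) (nat_lit 1) (Step.U (nat_lit 6599) (Step.L (Step.L (Step.D (nat_lit 6599) (Step.D (nat_lit 9755) Step.done))))) (Scr.cons (nat_lit 12) (nat_lit 1) (Step.F (nat_lit 13123) (Step.D (nat_lit 9755) (Step.F (nat_lit 13126) (Step.B (nat_lit 13123) (Step.D (nat_lit 11834) Step.done))))) (Scr.cons (nat_lit 14) (nat_lit 1) (Step.U (nat_lit 6684) (Step.U (nat_lit 3891) (Step.F (nat_lit 611) (Step.F (nat_lit 610) (Step.L (Step.L (Step.L (Step.L (Step.L (Step.L (Step.L (Step.L (Step.L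 (Step.L (Step.L (Step.L (Step.L (Step.L (Step.L (Step.D (nat_lit 9753) (Step.B (nat_lit 13127) Step.done))))))))))))))))))))) (Scr.cons (nat_lit 0) (nat_lit 1) (Step.B (nat_lit 13127) (Step.F (nat_lit 13128) (Step.D (nat_lit 9844) Step.done))) (Scr.cons (nat_lit 0) (nat_lit 0) (Step.B (nat_lit 13125) (Step.F (nat_lit 13129) Step.done)) (Scr.cons (nat_lit 4) (nat_lit 0) (Step.U (nat_lit 6280) (Step.B (nat_lit 612) (Step.U (nat_lit 3890) (Step.D (nat_lit 3891) (Step.D (nat_lit 6684) Step.done))))) (Scr.cons (nat_lit 12) (nat_lit 4) (Step.U (nat_lit 3890) (Step.F (nat_lit 611) (Step.D (nat_lit 2023) (Step.D (nat_lit 3890) (Step.F (nat_lit 613) Step.done))))) (Scr.cons (nat_lit 7) (nat_lit 0) (Step.L (Step.L (Step.L (Step.D (nat_lit 6599) (Step.B (nat_lit 13123) (Step.F (nat_lit 13130) (Step.F (nat_lit 13131) (Step.U (nat_lit 6280) (Step.B (nat_lit 612) (Step.B (nat_lit 13132) (Step.L (Step.L (Step.L (Step.L (Step.L (Step.L (Step.L (Step.L (Step.L (Step.D (nat_lit 11846)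 Step.done)))))))))))))))))))) (Scr.cons (nat_lit 4) (nat_lit 0) (Step.F (nat_lit 13133) (Step.L (Step.L (Step.F (nat_lit 13110) (Step.D (nat_lit 11823) Step.done))))) (Scr.cons (nat_lit 1) (nat_lit 0) (Step.U (nat_lit 11823) (Step.B (nat_lit 13119) (Step.L Step.done))) (Scr.cons (nat_lit 1) (nat_lit 0) (Step.B (nat_lit 13134) (Step.B (nat_lit 13135) (Step.L Step.done))) (Scr.cons (nat_lit 0) (nat_lit 0) (Step.B (nat_lit 13122) (Step.B (nat_lit 13136) Step.done)) (Scr.cons (nat_lit 12) (nat_lit 4) (Step.L (Step.L (Step.L (Step.L (Step.D (nat_lit 5326) Step.done))))) (Scr.cons (nat_lit 12) (nat_lit 4) (Step.U (nat_lit 8375) (Step.F (nat_lit 13138) (Step.D (nat_lit 5326) (Step.D (nat_lit 8375) (Step.D (nat_lit 11272) Step.done))))) (Scr.cons (nat_lit 12) (nat_lit 1) (Step.L (Step.L (Step.L (Step.L (Step.D (nat_lit 4106) Step.done))))) (Scr.cons (nat_lit 6) (nat_lit 3) (Step.U (nat_lit 4108) (Step.L (Step.L (Step.L (Step.L (Step.L (Step.L (Step.L (Step.L (Step.B (nat_lit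 13140) (Step.D (nat_lit 6967) Step.done))))))))))) (Scr.cons (nat_lit 12) (nat_lit 1) (Step.U (nat_lit 4157) (Step.L (Step.L (Step.D (nat_lit 4157) (Step.D (nat_lit 7024) Step.done))))) (Scr.cons (nat_lit 11) (nat_lit 0) (Step.U (nat_lit 6970) (Step.L (Step.D (nat_lit 4108) (Step.D (nat_lit 6969) (Step.D (nat_lit 10101) Step.done))))) (Scr.cons (nat_lit 16) (nat_lit 2) (Step.F (nat_lit 13143) (Step.U (nat_lit 6970) (Step.L (Step.L (Step.L (Step.L (Step.L (Step.L (Step.L (Step.L (Step.L (Step.L (Step.L (Step.L (Step.L (Step.L (Step.L (Step.L (Step.L (Step.L (Step.L (Step.L (Step.D (nat_lit 7023) Step.done))))))))))))))))))))))) (Scr.cons (nat_lit 12) (nat_lit 4) (Step.U (nat_lit 7023) (Step.L (Step.L (Step.D (nat_lit 7023) (Step.F (nat_lit 13144) Step.done))))) (Scr.cons (nat_lit 13) (nat_lit 0) (Step.U (nat_lit 10156) (Step.F (nat_lit 13142) (Step.U (nat_lit 4157) (Step.L (Step.L (Step.L (Step.D (nat_lit 7023) (Step.B (nat_lit 13145) (Step.U (nat_lit 10101) (Step.D (nat_lit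 10100) (Step.D (nat_lit 11879) Step.done))))))))))) (Scr.cons (nat_lit 14) (nat_lit 0) (Step.U (nat_lit 8374) (Step.U (nat_lit 5325) (Step.L (Step.L (Step.L (Step.L (Step.L (Step.L (Step.L (Step.L (Step.L (Step.L (Step.L (Step.L (Step.L (Step.L (Step.L (Step.D (nat_lit 2997) (Step.D (nat_lit 5396) (Step.D (nat_lit 8467) Step.done)))))))))))))))))))) (Scr.cons (nat_lit 12) (nat_lit 4) (Step.U (nat_lit 5396) (Step.D (nat_lit 5395) (Step.F (nat_lit 13050) (Step.D (nat_lit 5396) (Step.D (nat_lit 8466) Step.done))))) (Scr.cons (nat_lit 12) (nat_lit 3) (Step.B (nat_lit 13147) (Step.U (nat_lit 8467) (Step.D (nat_lit 8466) (Step.F (nat_lit 13148) (Step.D (nat_lit 8467) Step.done))))) (Scr.cons (nat_lit 11) (nat_lit 0) (Step.U (nat_lit 5397) (Step.L (Step.D (nat_lit 2997) (Step.D (nat_lit 5396) (Step.D (nat_lit 8467) Step.done))))) (Scr.cons (nat_lit 12) (nat_lit 1) (Step.U (nat_lit 5397) (Step.L (Step.L (Step.D (nat_lit 5397) (Step.D (nat_lit 8468) Step.done))))) (Scr.cons (nat_lit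 7) (nat_lit 1) (Step.L (Step.L (Step.L (Step.L (Step.L (Step.L (Step.L (Step.L (Step.L (Step.L (Step.L (Step.L (Step.L (Step.L (Step.L (Step.L (Step.L (Step.L (Step.D (nat_lit 5397) (Step.D (nat_lit 8468) (Step.D (nat_lit 11325) Step.done))))))))))))))))))))) (Scr.cons (nat_lit 1) (nat_lit 1) (Step.D (nat_lit 11325) (Step.F (nat_lit 13152) (Step.L Step.done))) (Scr.cons (nat_lit 0) (nat_lit 1) (Step.B (nat_lit 13151) (Step.B (nat_lit 13153) (Step.L Step.done))) (Scr.cons (nat_lit 1) (nat_lit 0) (Step.F (nat_lit 13150) (Step.B (nat_lit 13154) (Step.D (nat_lit 4157) Step.done))) (Scr.cons (nat_lit 0) (nat_lit 1) (Step.B (nat_lit 13149) (Step.B (nat_lit 13155) (Step.D (nat_lit 7024) Step.done))) (Scr.cons (nat_lit 1) (nat_lit 1) (Step.D (nat_lit 8374) (Step.B (nat_lit 13156) (Step.D (nat_lit 10156) Step.done))) (Scr.cons (nat_lit 0) (nat_lit 1) (Step.F (nat_lit 13146) (Step.F (nat_lit 13157) (Step.D (nat_lit 8373) Step.done))) (Scr.cons (nat_lit 1) (nat_lit 0) (Step.D (nat_lit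 11879) (Step.B (nat_lit 13158) (Step.D (nat_lit 11271) Step.done))) (Scr.cons (nat_lit 1) (nat_lit 0) (Step.D (nat_lit 11271) (Step.F (nat_lit 13159) Step.done)) (Scr.cons (nat_lit 12) (nat_lit 1) (Step.U (nat_lit 5325) (Step.L (Step.L (Step.D (nat_lit 5325) (Step.D (nat_lit 8373) Step.done))))) (Scr.cons (nat_lit 15) (nat_lit 1) (Step.U (nat_lit 4107) (Step.D (nat_lit 4106) (Step.D (nat_lit 6967) (Step.F (nat_lit 13141) (Step.D (nat_lit 6969) (Step.D (nat_lit 10100) (Step.F (nat_lit 13160) (Step.F (nat_lit 13161) (Step.U (nat_lit 5325) (Step.L (Step.L (Step.L (Step.L (Step.D (nat_lit 5326) (Step.D (nat_lit 8375) (Step.D (nat_lit 11272) Step.done)))))))))))))))) Scr.nil))))))))))))))))))))))))))))))))))))))))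
noncomputable def s329 : Scr := (Scr.cons (nat_lit 0) (nat_lit 1) (Step.B (nat_lit 13139) (Step.F (nat_lit 13162) (Step.D (nat_lit 6968) Step.done))) (Scr.cons (nat_lit 1) (nat_lit 0) (Step.D (nat_lit 8375) (Step.B (nat_lit 13163) (Step.D (nat_lit 10099) Step.done))) (Scr.cons (nat_lit 1) (nat_lit 0) (Step.D (nat_lit 10099) (Step.F (nat_lit 13164) Step.done)) (Scr.cons (nat_lit 12) (nat_lit 1) (Step.U (nat_lit 4107) (Step.D (nat_lit 4106) (Step.F (nat_lit 13140) (Step.D (nat_lit 4107) (Step.D (nat_lit 6968) Step.done))))) (Scr.cons (nat_lit 16) (nat_lit 0) (Step.L (Step.L (Step.L (Step.L (Step.L (Step.D (nat_lit 5326) (Step.F (nat_lit 13165) (Step.F (nat_lit 13166) (Step.U (nat_lit 4107) (Step.L (Step.L (Step.L (Step.L (Step.L (Step.L (Step.L (Step.L (Step.L (Step.L (Step.L (Step.L (Step.L (Step.L Step.done))))))))))))))))))))))) (Scr.cons (nat_lit 13) (nat_lit 0) (Step.L (Step.L (Step.L (Step.L (Step.L (Step.D (nat_lit 212) (Step.D (nat_lit 591) (Step.B (nat_lit 425)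 (Step.D (nat_lit 2894) (Step.D (nat_lit 5235) (Step.D (nat_lit 8272) Step.done))))))))))) (Scr.cons (nat_lit 12) (nat_lit 1) (Step.U (nat_lit 2894) (Step.F (nat_lit 425) (Step.D (nat_lit 1424) (Step.D (nat_lit 2894) (Step.D (nat_lit 5235) Step.done))))) (Scr.cons (nat_lit 6) (nat_lit 3) (Step.L (Step.L (Step.L (Step.L (Step.L (Step.B (nat_lit 424) (Step.D (nat_lit 591) (Step.D (nat_lit 1424) (Step.D (nat_lit 2894) (Step.B (nat_lit 13169) (Step.D (nat_lit 8272) Step.done))))))))))) (Scr.cons (nat_lit 12) (nat_lit 4) (Step.L (Step.B (nat_lit 13168) (Step.F (nat_lit 13170) (Step.L (Step.D (nat_lit 11221) Step.done))))) (Scr.cons (nat_lit 6) (nat_lit 3) (Step.U (nat_lit 11244) (Step.L (Step.L (Step.L (Step.L (Step.L (Step.L (Step.L (Step.L (Step.B (nat_lit 13171) (Step.D (nat_lit 12025) Step.done))))))))))) (Scr.cons (nat_lit 11) (nat_lit 0) (Step.U (nat_lit 8374) (Step.U (nat_lit 5325) (Step.D (nat_lit 5324) (Step.D (nat_lit 8372) (Step.D (nat_lit 11270) Step.done))))) (Scr.cons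 (nat_lit 1) (nat_lit 0) (Step.F (nat_lit 13173) (Step.B (nat_lit 13156) (Step.D (nat_lit 10157) Step.done))) (Scr.cons (nat_lit 1) (nat_lit 0) (Step.D (nat_lit 11270) (Step.B (nat_lit 13174) (Step.D (nat_lit 11887) Step.done))) (Scr.cons (nat_lit 1) (nat_lit 0) (Step.D (nat_lit 11887) (Step.F (nat_lit 13175) Step.done)) (Scr.cons (nat_lit 0) (nat_lit 1) (Step.D (nat_lit 5255) (Step.F (nat_lit 11843) Step.done)) (Scr.cons (nat_lit 12) (nat_lit 1) (Step.F (nat_lit 11841) (Step.D (nat_lit 5255) (Step.F (nat_lit 11836) (Step.B (nat_lit 11841) (Step.D (nat_lit 8297) Step.done))))) (Scr.cons (nat_lit 9) (nat_lit 0) (Step.U (nat_lit 10139) (Step.L (Step.L (Step.L (Step.L (Step.L (Step.L (Step.L (Step.L (Step.L (Step.L (Step.L (Step.L (Step.L (Step.L (Step.L (Step.L (Step.L (Step.L (Step.B (nat_lit 11832) (Step.F (nat_lit 13177) (Step.B (nat_lit 11841) (Step.B (nat_lit 13178) Step.done))))))))))))))))))))))) (Scr.cons (nat_lit 14) (nat_lit 6) (Step.U (nat_lit 10138) (Step.D (nat_lit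 10139) (Step.B (nat_lit 13179) (Step.F (nat_lit 13178) (Step.F (nat_lit 11841) (Step.U (nat_lit 2906) (Step.U (nat_lit 1435) (Step.U (nat_lit 599) (Step.F (nat_lit 11833) (Step.L (Step.L (Step.L (Step.L (Step.L (Step.L (Step.L (Step.L (Step.D (nat_lit 5236) (Step.D (nat_lit 8273) (Step.D (nat_lit 11219) Step.done)))))))))))))))))))) (Scr.cons (nat_lit 4) (nat_lit 0) (Step.B (nat_lit 13180) (Step.U (nat_lit 11219) (Step.U (nat_lit 8273) (Step.D (nat_lit 8274) (Step.D (nat_lit 11220) Step.done))))) (Scr.cons (nat_lit 8) (nat_lit 1) (Step.F (nat_lit 13181) (Step.U (nat_lit 10138) (Step.L (Step.L (Step.L (Step.L (Step.L (Step.L (Step.L (Step.L (Step.L (Step.L (Step.D (nat_lit 4157) (Step.B (nat_lit 13142) (Step.D (nat_lit 10157) Step.done))))))))))))))) (Scr.cons (nat_lit 12) (nat_lit 4) (Step.L (Step.L (Step.L (Step.L (Step.D (nat_lit 5236) Step.done))))) (Scr.cons (nat_lit 14) (nat_lit 5) (Step.L (Step.L (Step.L (Step.L (Step.L (Step.L (Step.D (nat_lit 5324) (Step.D (nat_lit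 8372) (Step.F (nat_lit 13176) (Step.F (nat_lit 13182) (Step.U (nat_lit 11220) (Step.U (nat_lit 8274) (Step.F (nat_lit 13183) (Step.L (Step.L (Step.L (Step.L (Step.L (Step.L (Step.D (nat_lit 11221) (Step.D (nat_lit 12025) Step.done))))))))))))))))))))) (Scr.cons (nat_lit 0) (nat_lit 1) (Step.B (nat_lit 13172) (Step.F (nat_lit 13184) (Step.L Step.done))) (Scr.cons (nat_lit 1) (nat_lit 0) (Step.D (nat_lit 11244) (Step.B (nat_lit 13185) (Step.D (nat_lit 8369) Step.done))) (Scr.cons (nat_lit 1) (nat_lit 0) (Step.D (nat_lit 8369) (Step.F (nat_lit 13186) Step.done)) (Scr.cons (nat_lit 12) (nat_lit 1) (Step.U (nat_lit 1443) (Step.F (nat_lit 4045) (Step.D (nat_lit 604) (Step.D (nat_lit 1443) (Step.D (nat_lit 2922) Step.done))))) (Scr.cons (nat_lit 12) (nat_lit 1) (Step.U (nat_lit 5277) (Step.F (nat_lit 13188) (Step.D (nat_lit 2922) (Step.D (nat_lit 5277) (Step.D (nat_lit 8313) Step.done))))) (Scr.cons (nat_lit 12) (nat_lit 4) (Step.U (nat_lit 5203) (Step.L (Step.L (Step.D (nat_lit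 5203) (Step.D (nat_lit 8226) Step.done))))) (Scr.cons (nat_lit 1) (nat_lit 1) (Step.D (nat_lit 8227) (Step.F (nat_lit 5678) Step.done)) (Scr.cons (nat_lit 15) (nat_lit 0) (Step.F (nat_lit 13190) (Step.B (nat_lit 13191) (Step.L (Step.L (Step.L (Step.L (Step.D (nat_lit 5190) (Step.F (nat_lit 5828) (Step.L (Step.L (Step.L (Step.D (nat_lit 4513) (Step.F (nat_lit 7464) (Step.F (nat_lit 4044) (Step.D (nat_lit 5278) (Step.D (nat_lit 8314) Step.done)))))))))))))))) (Scr.cons (nat_lit 1) (nat_lit 0) (Step.D (nat_lit 8314) (Step.F (nat_lit 13192) (Step.D (nat_lit 11193) Step.done))) (Scr.cons (nat_lit 1) (nat_lit 0) (Step.D (nat_lit 11193) (Step.F (nat_lit 13193) Step.done)) (Scr.cons (nat_lit 8) (nat_lit 1) (Step.L (Step.L (Step.L (Step.L (Step.L (Step.L (Step.L (Step.L (Step.L (Step.L (Step.L (Step.L (Step.L (Step.L (Step.D (nat_lit 11192) Step.done))))))))))))))) (Scr.cons (nat_lit 12) (nat_lit 0) (Step.B (nat_lit 13195) (Step.U (nat_lit 11192) (Step.L (Step.L (Step.D (nat_lit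 11192) Step.done))))) (Scr.cons (nat_lit 13) (nat_lit 1) (Step.F (nat_lit 13189) (Step.U (nat_lit 5277) (Step.U (nat_lit 2922) (Step.D (nat_lit 2923) (Step.D (nat_lit 5278) (Step.F (nat_lit 13194) (Step.U (nat_lit 8226) (Step.U (nat_lit 5203) (Step.L (Step.L (Step.B (nat_lit 13196) Step.done))))))))))) (Scr.cons (nat_lit 15) (nat_lit 1) (Step.F (nat_lit 13189) (Step.U (nat_lit 5277) (Step.F (nat_lit 13188) (Step.U (nat_lit 1443) (Step.F (nat_lit 4045) (Step.L (Step.L (Step.L (Step.L (Step.L (Step.L (Step.L (Step.L (Step.L (Step.L Step.done))))))))))))))) (Scr.cons (nat_lit 9) (nat_lit 2) (Step.L (Step.L (Step.L (Step.L (Step.L (Step.L (Step.L (Step.L (Step.L (Step.D (nat_lit 11192) (Step.F (nat_lit 13197) (Step.B (nat_lit 13198) (Step.L (Step.L (Step.L (Step.L (Step.L (Step.L (Step.L (Step.L (Step.L (Step.L (Step.D (nat_lit 11337) Step.done))))))))))))))))))))))) (Scr.cons (nat_lit 4) (nat_lit 0) (Step.U (nat_lit 11244) (Step.L (Step.D (nat_lit 11337) (Step.F (nat_lit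 13199) (Step.D (nat_lit 12022) Step.done))))) (Scr.cons (nat_lit 1) (nat_lit 1) (Step.F (nat_lit 13200) (Step.B (nat_lit 13185) (Step.L Step.done))) (Scr.cons (nat_lit 1) (nat_lit 1) (Step.D (nat_lit 12022) (Step.B (nat_lit 13201) (Step.D (nat_lit 11268) Step.done))) Scr.nil))))))))))))))))))))))))))))))))))))))))
noncomputable def s330 : Scr := (Scr.cons (nat_lit 1) (nat_lit 1) (Step.D (nat_lit 11268) (Step.F (nat_lit 13202) Step.done)) (Scr.cons (nat_lit 12) (nat_lit 4) (Step.U (nat_lit 5327) (Step.D (nat_lit 5326) (Step.F (nat_lit 13138) (Step.D (nat_lit 5327) (Step.D (nat_lit 8376) Step.done))))) (Scr.cons (nat_lit 11) (nat_lit 0) (Step.U (nat_lit 5891) (Step.U (nat_lit 3328) (Step.L (Step.D (nat_lit 5890) (Step.D (nat_lit 9049) Step.done))))) (Scr.cons (nat_lit 7) (nat_lit 6) (Step.U (nat_lit 4849) (Step.U (nat_lit 2642) (Step.U (nat_lit 1286) (Step.U (nat_lit 521) (Step.U (nat_lit 180) (Step.U (nat_lit 48) (Step.F (nat_lit 386) (Step.L (Step.L (Step.L (Step.L (Step.L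 (Step.L (Step.L (Step.L (Step.L (Step.L (Step.L (Step.D (nat_lit 3328) (Step.D (nat_lit 5891) Step.done)))))))))))))))))))) (Scr.cons (nat_lit 11) (nat_lit 0) (Step.U (nat_lit 2643) (Step.U (nat_lit 1287) (Step.D (nat_lit 1286) (Step.D (nat_lit 2642) (Step.D (nat_lit 4849) Step.done))))) (Scr.cons (nat_lit 11) (nat_lit 0) (Step.U (nat_lit 2648) (Step.U (nat_lit 1291) (Step.D (nat_lit 1290) (Step.D (nat_lit 2647) (Step.D (nat_lit 4853) Step.done))))) (Scr.cons (nat_lit 14) (nat_lit 3) (Step.F (nat_lit 13208) (Step.U (nat_lit 2648) (Step.U (nat_lit 1291) (Step.U (nat_lit 524) (Step.U (nat_lit 182) (Step.U (nat_lit 49) (Step.F (nat_lit 386) (Step.L (Step.L (Step.L (Step.L (Step.L (Step.L (Step.L (Step.L (Step.L (Step.L (Step.L (Step.L (Step.D (nat_lit 5901) Step.done)))))))))))))))))))) (Scr.cons (nat_lit 11) (nat_lit 0) (Step.U (nat_lit 5903) (Step.U (nat_lit 3333) (Step.L (Step.D (nat_lit 5901) (Step.D (nat_lit 9060) Step.done))))) (Scr.cons (nat_lit 14) (nat_lit 5) (Step.U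 (nat_lit 11600) (Step.U (nat_lit 9048) (Step.D (nat_lit 9049) (Step.F (nat_lit 13205) (Step.F (nat_lit 13206) (Step.F (nat_lit 13207) (Step.U (nat_lit 2643) (Step.U (nat_lit 1287) (Step.U (nat_lit 521) (Step.D (nat_lit 522) (Step.F (nat_lit 385) (Step.D (nat_lit 524) (Step.D (nat_lit 1290) (Step.D (nat_lit 2647) (Step.D (nat_lit 4853) (Step.B (nat_lit 13209) (Step.D (nat_lit 9060) (Step.F (nat_lit 13210) (Step.D (nat_lit 9061) (Step.D (nat_lit 11606) Step.done)))))))))))))))))))) (Scr.cons (nat_lit 4) (nat_lit 0) (Step.U (nat_lit 11599) (Step.D (nat_lit 11600) (Step.B (nat_lit 13211) (Step.U (nat_lit 11606) (Step.D (nat_lit 11607) Step.done))))) (Scr.cons (nat_lit 12) (nat_lit 1) (Step.U (nat_lit 3333) (Step.L (Step.L (Step.D (nat_lit 3333) (Step.D (nat_lit 5902) Step.done))))) (Scr.cons (nat_lit 4) (nat_lit 0) (Step.U (nat_lit 72) (Step.L (Step.L (Step.L (Step.D (nat_lit 249) Step.done))))) (Scr.cons (nat_lit 16) (nat_lit 5) (Step.F (nat_lit 13213) (Step.U (nat_lit 3333)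 (Step.L (Step.L (Step.L (Step.L (Step.L (Step.L (Step.L (Step.L (Step.L (Step.L (Step.L (Step.L (Step.L (Step.L (Step.D (nat_lit 72) (Step.B (nat_lit 13214) (Step.D (nat_lit 699) (Step.D (nat_lit 1640) (Step.D (nat_lit 3265) (Step.D (nat_lit 5789) (Step.D (nat_lit 8914) Step.done))))))))))))))))))))))) (Scr.cons (nat_lit 4) (nat_lit 0) (Step.B (nat_lit 13215) (Step.U (nat_lit 8914) (Step.U (nat_lit 5789) (Step.D (nat_lit 5790) (Step.D (nat_lit 8915) Step.done))))) (Scr.cons (nat_lit 12) (nat_lit 1) (Step.U (nat_lit 249) (Step.L (Step.L (Step.D (nat_lit 249) (Step.D (nat_lit 699) Step.done))))) (Scr.cons (nat_lit 12) (nat_lit 4) (Step.U (nat_lit 1640) (Step.F (nat_lit 13217) (Step.D (nat_lit 699) (Step.D (nat_lit 1640) (Step.D (nat_lit 3265) Step.done))))) (Scr.cons (nat_lit 6) (nat_lit 1) (Step.U (nat_lit 5790) (Step.F (nat_lit 13218) (Step.U (nat_lit 1640) (Step.U (nat_lit 699) (Step.U (nat_lit 249) (Step.L (Step.L (Step.L (Step.L (Step.L (Step.D (nat_lit 8913) Step.done)))))))))))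 (Scr.cons (nat_lit 13) (nat_lit 2) (Step.U (nat_lit 5790) (Step.U (nat_lit 3265) (Step.U (nat_lit 1640) (Step.F (nat_lit 13217) (Step.U (nat_lit 249) (Step.L (Step.L (Step.L (Step.L (Step.L (Step.D (nat_lit 8913) Step.done))))))))))) (Scr.cons (nat_lit 12) (nat_lit 1) (Step.U (nat_lit 8915) (Step.B (nat_lit 13219) (Step.F (nat_lit 13220) (Step.D (nat_lit 8915) (Step.D (nat_lit 11553) Step.done))))) (Scr.cons (nat_lit 12) (nat_lit 4) (Step.L (Step.L (Step.L (Step.L (Step.D (nat_lit 3330) Step.done))))) (Scr.cons (nat_lit 6) (nat_lit 0) (Step.U (nat_lit 9057) (Step.U (nat_lit 5898) (Step.F (nat_lit 13222) (Step.L (Step.L (Step.L (Step.L (Step.D (nat_lit 3333) (Step.B (nat_lit 13213) (Step.B (nat_lit 13216) (Step.D (nat_lit 11553) Step.done))))))))))) (Scr.cons (nat_lit 11) (nat_lit 0) (Step.U (nat_lit 11181) (Step.U (nat_lit 8211) (Step.D (nat_lit 8210) (Step.B (nat_lit 6757) (Step.D (nat_lit 11610) Step.done))))) (Scr.cons (nat_lit 1) (nat_lit 0) (Step.U (nat_lit 8660)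 (Step.B (nat_lit 12863) (Step.L Step.done))) (Scr.cons (nat_lit 1) (nat_lit 0) (Step.F (nat_lit 6747) (Step.B (nat_lit 13225) (Step.L Step.done))) (Scr.cons (nat_lit 0) (nat_lit 1) (Step.F (nat_lit 6758) (Step.B (nat_lit 13226) (Step.D (nat_lit 5183) Step.done))) (Scr.cons (nat_lit 1) (nat_lit 1) (Step.B (nat_lit 13224) (Step.B (nat_lit 13227) (Step.D (nat_lit 8199) Step.done))) (Scr.cons (nat_lit 12) (nat_lit 1) (Step.U (nat_lit 7285) (Step.L (Step.L (Step.D (nat_lit 7285) (Step.D (nat_lit 10356) Step.done))))) (Scr.cons (nat_lit 11) (nat_lit 0) (Step.U (nat_lit 5906) (Step.U (nat_lit 3335) (Step.D (nat_lit 3334) (Step.D (nat_lit 5905) (Step.D (nat_lit 9063) Step.done))))) (Scr.cons (nat_lit 12) (nat_lit 1) (Step.U (nat_lit 7272) (Step.L (Step.L (Step.D (nat_lit 7272) (Step.D (nat_lit 10352) Step.done))))) (Scr.cons (nat_lit 15) (nat_lit 1) (Step.F (nat_lit 13231) (Step.U (nat_lit 7272) (Step.L (Step.L (Step.L (Step.L (Step.L (Step.L (Step.L (Step.L (Step.L (Step.L (Step.L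 (Step.D (nat_lit 4364) (Step.D (nat_lit 7284) Step.done))))))))))))))) (Scr.cons (nat_lit 12) (nat_lit 1) (Step.U (nat_lit 5906) (Step.F (nat_lit 500) (Step.B (nat_lit 499) (Step.D (nat_lit 5906) (Step.D (nat_lit 9064) Step.done))))) (Scr.cons (nat_lit 6) (nat_lit 2) (Step.U (nat_lit 7272) (Step.L (Step.L (Step.L (Step.L (Step.L (Step.L (Step.L (Step.L (Step.B (nat_lit 499) (Step.D (nat_lit 5906) (Step.B (nat_lit 13233) Step.done)))))))))))) (Scr.cons (nat_lit 0) (nat_lit 1) (Step.B (nat_lit 13233) (Step.F (nat_lit 13234) (Step.D (nat_lit 10352) Step.done))) (Scr.cons (nat_lit 1) (nat_lit 0) (Step.F (nat_lit 13232) (Step.F (nat_lit 13235) (Step.B (nat_lit 13230) Step.done))) (Scr.cons (nat_lit 1) (nat_lit 0) (Step.B (nat_lit 13230) (Step.F (nat_lit 13236) Step.done)) (Scr.cons (nat_lit 16) (nat_lit 5) (Step.F (nat_lit 13229) (Step.U (nat_lit 7285) (Step.L (Step.L (Step.L (Step.L (Step.L (Step.D (nat_lit 4364) (Step.D (nat_lit 7284) (Step.F (nat_lit 13237) (Step.U (nat_lit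 5906) (Step.U (nat_lit 3335) (Step.F (nat_lit 236) (Step.L (Step.L (Step.L (Step.L (Step.L (Step.L (Step.L (Step.D (nat_lit 3330) (Step.D (nat_lit 5897) (Step.D (nat_lit 9056) Step.done))))))))))))))))))))))) (Scr.cons (nat_lit 11) (nat_lit 0) (Step.U (nat_lit 9058) (Step.U (nat_lit 5898) (Step.D (nat_lit 5897) (Step.D (nat_lit 9056) (Step.F (nat_lit 13238) Step.done))))) (Scr.cons (nat_lit 15) (nat_lit 1) (Step.F (nat_lit 13238) (Step.F (nat_lit 13229) (Step.U (nat_lit 7285) (Step.L (Step.L (Step.L (Step.L (Step.L (Step.L (Step.L (Step.L (Step.L (Step.L (Step.L (Step.L (Step.D (nat_lit 5183) Step.done)))))))))))))))) (Scr.cons (nat_lit 1) (nat_lit 1) (Step.B (nat_lit 13238) (Step.B (nat_lit 13240) (Step.D (nat_lit 8199) Step.done))) (Scr.cons (nat_lit 1) (nat_lit 1) (Step.B (nat_lit 13239) (Step.B (nat_lit 13241) (Step.D (nat_lit 11171) Step.done))) Scr.nil))))))))))))))))))))))))))))))))))))))))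
noncomputable def s331 : Scr := (Scr.cons (nat_lit 1) (nat_lit 1) (Step.D (nat_lit 11171) (Step.F (nat_lit 13242) Step.done)) (Scr.cons (nat_lit 1) (nat_lit 1) (Step.D (nat_lit 11181) (Step.B (nat_lit 13228) (Step.B (nat_lit 13243) Step.done))) (Scr.cons (nat_lit 1) (nat_lit 1) (Step.D (nat_lit 9058) (Step.F (nat_lit 13244) (Step.U (nat_lit 8211) Step.done))) (Scr.cons (nat_lit 0) (nat_lit 1) (Step.U (nat_lit 9057) (Step.B (nat_lit 13245) (Step.F (nat_lit 6755) Step.done))) (Scr.cons (nat_lit 1) (nat_lit 1) (Step.F (nat_lit 13223) (Step.B (nat_lit 13246) (Step.F (nat_lit 6753) Step.done))) (Scr.cons (nat_lit 0) (nat_lit 1) (Step.B (nat_lit 13221) (Step.B (nat_lit 13247) (Step.L Step.done))) (Scr.cons (nat_lit 1) (nat_lit 0) (Step.B (nat_lit 13216) (Step.B (nat_lit 13248) (Step.L Step.done))) (Scr.cons (nat_lit 0) (nat_lit 1) (Step.B (nat_lit 13213) (Step.B (nat_lit 13249) (Step.L Step.done))) (Scr.cons (nat_lit 1) (nat_lit 0) (Step.U (nat_lit 5903) (Step.B (nat_lit 13250)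 (Step.L Step.done))) (Scr.cons (nat_lit 0) (nat_lit 1) (Step.U (nat_lit 9061) (Step.B (nat_lit 13251) (Step.L Step.done))) (Scr.cons (nat_lit 1) (nat_lit 0) (Step.U (nat_lit 11607) (Step.B (nat_lit 13252) (Step.D (nat_lit 8945) Step.done))) (Scr.cons (nat_lit 1) (nat_lit 0) (Step.B (nat_lit 13212) (Step.B (nat_lit 13253) (Step.D (nat_lit 11564) Step.done))) (Scr.cons (nat_lit 1) (nat_lit 1) (Step.D (nat_lit 11599) (Step.B (nat_lit 13254) Step.done)) (Scr.cons (nat_lit 11) (nat_lit 0) (Step.L (Step.L (Step.L (Step.D (nat_lit 2594) (Step.D (nat_lit 4775) Step.done))))) (Scr.cons (nat_lit 12) (nat_lit 4) (Step.U (nat_lit 2594) (Step.L (Step.L (Step.D (nat_lit 2594) (Step.D (nat_lit 4774) Step.done))))) (Scr.cons (nat_lit 7) (nat_lit 0) (Step.U (nat_lit 10758) (Step.U (nat_lit 7749) (Step.U (nat_lit 4774) (Step.U (nat_lit 2594) (Step.L (Step.L (Step.L (Step.L (Step.L (Step.L (Step.L (Step.L (Step.D (nat_lit 47) (Step.D (nat_lit 178) (Step.D (nat_lit 517) (Step.B (nat_lit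 7557) (Step.B (nat_lit 7559) (Step.D (nat_lit 4826) (Step.D (nat_lit 7821) (Step.D (nat_lit 10821) Step.done)))))))))))))))))))) (Scr.cons (nat_lit 4) (nat_lit 0) (Step.F (nat_lit 13258) (Step.U (nat_lit 10758) (Step.U (nat_lit 7749) (Step.D (nat_lit 7750) (Step.D (nat_lit 10759) Step.done))))) (Scr.cons (nat_lit 1) (nat_lit 0) (Step.U (nat_lit 7821) (Step.B (nat_lit 7628) (Step.L Step.done))) (Scr.cons (nat_lit 0) (nat_lit 1) (Step.U (nat_lit 10821) (Step.B (nat_lit 13260) (Step.L Step.done))) (Scr.cons (nat_lit 1) (nat_lit 1) (Step.F (nat_lit 13259) (Step.B (nat_lit 13261) (Step.L Step.done))) (Scr.cons (nat_lit 1) (nat_lit 1) (Step.D (nat_lit 10759) (Step.B (nat_lit 13262) (Step.L Step.done))) (Scr.cons (nat_lit 1) (nat_lit 1) (Step.D (nat_lit 7750) (Step.B (nat_lit 13263) (Step.L Step.done))) (Scr.cons (nat_lit 0) (nat_lit 1) (Step.B (nat_lit 13257) (Step.B (nat_lit 13264) (Step.L Step.done))) (Scr.cons (nat_lit 1) (nat_lit 1) (Step.U (nat_lit 4775) (Step.B (nat_lit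 13265) (Step.L Step.done))) (Scr.cons (nat_lit 1) (nat_lit 1) (Step.B (nat_lit 13256) (Step.B (nat_lit 13266) (Step.D (nat_lit 5890) Step.done))) (Scr.cons (nat_lit 0) (nat_lit 1) (Step.U (nat_lit 9048) (Step.F (nat_lit 13267) (Step.L Step.done))) (Scr.cons (nat_lit 1) (nat_lit 1) (Step.F (nat_lit 13255) (Step.B (nat_lit 13268) (Step.D (nat_lit 7752) Step.done))) (Scr.cons (nat_lit 1) (nat_lit 1) (Step.D (nat_lit 11564) (Step.B (nat_lit 13269) (Step.D (nat_lit 10761) Step.done))) (Scr.cons (nat_lit 1) (nat_lit 1) (Step.D (nat_lit 10761) (Step.F (nat_lit 13270) Step.done)) (Scr.cons (nat_lit 13) (nat_lit 3) (Step.U (nat_lit 11337) (Step.L (Step.L (Step.L (Step.L (Step.L (Step.L (Step.L (Step.L (Step.L (Step.D (nat_lit 8945) (Step.D (nat_lit 11563) Step.done)))))))))))) (Scr.cons (nat_lit 0) (nat_lit 1) (Step.D (nat_lit 11563) (Step.F (nat_lit 13272) Step.done)) (Scr.cons (nat_lit 14) (nat_lit 5) (Step.L (Step.L (Step.L (Step.D (nat_lit 7752) (Step.B (nat_lit 13271) (Step.B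 (nat_lit 13273) (Step.U (nat_lit 11337) (Step.L (Step.L (Step.L (Step.L (Step.L (Step.L (Step.L (Step.L (Step.L (Step.L (Step.L (Step.D (nat_lit 5327) (Step.D (nat_lit 8376) (Step.D (nat_lit 11273) Step.done))))))))))))))))))))) (Scr.cons (nat_lit 1) (nat_lit 0) (Step.D (nat_lit 11273) (Step.F (nat_lit 13274) (Step.L Step.done))) (Scr.cons (nat_lit 0) (nat_lit 1) (Step.B (nat_lit 13204) (Step.B (nat_lit 13275) (Step.L Step.done))) (Scr.cons (nat_lit 1) (nat_lit 0) (Step.D (nat_lit 5327) (Step.B (nat_lit 13276) (Step.D (nat_lit 4773) Step.done))) (Scr.cons (nat_lit 1) (nat_lit 0) (Step.D (nat_lit 4773) (Step.F (nat_lit 13277) Step.done)) (Scr.cons (nat_lit 6) (nat_lit 1) (Step.U (nat_lit 4773) (Step.L (Step.L (Step.L (Step.L (Step.L (Step.L (Step.L (Step.L (Step.D (nat_lit 4771) (Step.D (nat_lit 7746) Step.done))))))))))) (Scr.cons (nat_lit 0) (nat_lit 1) (Step.F (nat_lit 13279) (Step.F (nat_lit 13277) (Step.D (nat_lit 5326) Step.done))) (Scr.cons (nat_lit 1) (nat_lit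 1) (Step.D (nat_lit 7746) (Step.B (nat_lit 13280) (Step.F (nat_lit 13165) Step.done))) (Scr.cons (nat_lit 12) (nat_lit 4) (Step.L (Step.L (Step.L (Step.L (Step.D (nat_lit 4771) Step.done))))) Scr.nil))))))))))))))))))))))))))))))))))))))))
noncomputable def s332 : Scr := (Scr.cons (nat_lit 0) (nat_lit 1) (Step.B (nat_lit 13166) (Step.F (nat_lit 13281) (Step.F (nat_lit 13282) Step.done))) (Scr.cons (nat_lit 1) (nat_lit 1) (Step.D (nat_lit 4107) (Step.B (nat_lit 13283) (Step.D (nat_lit 4772) Step.done))) (Scr.cons (nat_lit 1) (nat_lit 1) (Step.D (nat_lit 4772) (Step.F (nat_lit 13284) Step.done)) (Scr.cons (nat_lit 12) (nat_lit 4) (Step.U (nat_lit 106) (Step.L (Step.L (Step.D (nat_lit 106) (Step.D (nat_lit 330) Step.done))))) (Scr.cons (nat_lit 13) (nat_lit 2) (Step.L (Step.L (Step.L (Step.L (Step.L (Step.L (Step.L (Step.L (Step.D (nat_lit 106) (Step.B (nat_lit 13286) (Step.D (nat_lit 898) Step.done))))))))))) (Scr.cons (nat_lit 11) (nat_lit 0) (Step.U (nat_lit 1941) (Step.U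 (nat_lit 898) (Step.D (nat_lit 897) (Step.D (nat_lit 1940) (Step.D (nat_lit 3753) Step.done))))) (Scr.cons (nat_lit 6) (nat_lit 1) (Step.L (Step.L (Step.L (Step.L (Step.L (Step.L (Step.L (Step.L (Step.D (nat_lit 106) (Step.D (nat_lit 330) (Step.D (nat_lit 898) Step.done))))))))))) (Scr.cons (nat_lit 12) (nat_lit 1) (Step.U (nat_lit 1941) (Step.F (nat_lit 13287) (Step.B (nat_lit 13289) (Step.D (nat_lit 1941) (Step.D (nat_lit 3754) Step.done))))) (Scr.cons (nat_lit 12) (nat_lit 1) (Step.F (nat_lit 13288) (Step.D (nat_lit 3754) (Step.F (nat_lit 13290) (Step.B (nat_lit 13288) (Step.D (nat_lit 6499) Step.done))))) (Scr.cons (nat_lit 12) (nat_lit 4) (Step.L (Step.L (Step.L (Step.L (Step.D (nat_lit 11333) Step.done))))) (Scr.cons (nat_lit 11) (nat_lit 0) (Step.U (nat_lit 7761) (Step.L (Step.L (Step.L (Step.D (nat_lit 10770) Step.done))))) (Scr.cons (nat_lit 12) (nat_lit 1) (Step.L (Step.L (Step.L (Step.L (Step.D (nat_lit 11334) Step.done))))) (Scr.cons (nat_lit 16) (nat_lit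 0) (Step.F (nat_lit 13294) (Step.L (Step.L (Step.L (Step.L (Step.L (Step.L (Step.L (Step.L (Step.L (Step.L (Step.L (Step.L (Step.L (Step.L (Step.L (Step.L (Step.L (Step.L (Step.L (Step.L (Step.L (Step.D (nat_lit 6956) (Step.D (nat_lit 10087) Step.done)))))))))))))))))))))))) (Scr.cons (nat_lit 0) (nat_lit 1) (Step.D (nat_lit 11334) (Step.B (nat_lit 13295) Step.done)) (Scr.cons (nat_lit 14) (nat_lit 4) (Step.F (nat_lit 13293) (Step.U (nat_lit 7761) (Step.L (Step.L (Step.L (Step.L (Step.L (Step.L (Step.L (Step.L (Step.L (Step.L (Step.L (Step.L (Step.L (Step.D (nat_lit 6956) (Step.D (nat_lit 10087) (Step.F (nat_lit 13296) (Step.L (Step.L (Step.D (nat_lit 11333) Step.done))))))))))))))))))))) (Scr.cons (nat_lit 12) (nat_lit 4) (Step.U (nat_lit 9644) (Step.F (nat_lit 13291) (Step.D (nat_lit 6499) (Step.D (nat_lit 9644) (Step.D (nat_lit 11798) Step.done))))) (Scr.cons (nat_lit 16) (nat_lit 3) (Step.F (nat_lit 13293) (Step.U (nat_lit 7761) (Step.L (Step.L (Step.L (Step.L (Step.L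 (Step.L (Step.L (Step.L (Step.L (Step.L (Step.L (Step.L (Step.L (Step.L (Step.D (nat_lit 106) (Step.D (nat_lit 330) (Step.D (nat_lit 897) (Step.D (nat_lit 1940) (Step.D (nat_lit 3753) (Step.D (nat_lit 6499) (Step.D (nat_lit 9644) (Step.D (nat_lit 11798) Step.done)))))))))))))))))))))))) (Scr.cons (nat_lit 0) (nat_lit 0) (Step.B (nat_lit 13298) (Step.F (nat_lit 13299) Step.done)) (Scr.cons (nat_lit 0) (nat_lit 1) (Step.B (nat_lit 13292) (Step.F (nat_lit 13297) (Step.F (nat_lit 13300) Step.done))) (Scr.cons (nat_lit 1) (nat_lit 0) (Step.D (nat_lit 9644) (Step.F (nat_lit 13301) (Step.L Step.done))) (Scr.cons (nat_lit 0) (nat_lit 1) (Step.B (nat_lit 13291) (Step.B (nat_lit 13302) (Step.L Step.done))) (Scr.cons (nat_lit 1) (nat_lit 1) (Step.B (nat_lit 13288) (Step.B (nat_lit 13303) (Step.L Step.done))) (Scr.cons (nat_lit 1) (nat_lit 1) (Step.D (nat_lit 1941) (Step.B (nat_lit 13304) (Step.L Step.done))) (Scr.cons (nat_lit 0) (nat_lit 1) (Step.B (nat_lit 13287) (Step.B (nat_lit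 13305) (Step.D (nat_lit 1486) Step.done))) (Scr.cons (nat_lit 0) (nat_lit 0) (Step.B (nat_lit 5966) (Step.F (nat_lit 13306) Step.done)) (Scr.cons (nat_lit 11) (nat_lit 0) (Step.U (nat_lit 7807) (Step.U (nat_lit 4815) (Step.D (nat_lit 4814) (Step.D (nat_lit 7805) (Step.D (nat_lit 10812) Step.done))))) (Scr.cons (nat_lit 12) (nat_lit 1) (Step.U (nat_lit 4815) (Step.L (Step.L (Step.D (nat_lit 4815) (Step.D (nat_lit 7806) Step.done))))) (Scr.cons (nat_lit 12) (nat_lit 1) (Step.U (nat_lit 7807) (Step.D (nat_lit 7806) (Step.F (nat_lit 13309) (Step.D (nat_lit 7807) (Step.D (nat_lit 10813) Step.done))))) (Scr.cons (nat_lit 12) (nat_lit 1) (Step.F (nat_lit 13308) (Step.D (nat_lit 10813) (Step.F (nat_lit 13310) (Step.B (nat_lit 13308) (Step.D (nat_lit 11973) Step.done))))) (Scr.cons (nat_lit 11) (nat_lit 0) (Step.U (nat_lit 6502) (Step.U (nat_lit 3756) (Step.D (nat_lit 3755) (Step.D (nat_lit 6500) (Step.D (nat_lit 9645) Step.done))))) (Scr.cons (nat_lit 11) (nat_lit 0) (Step.U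 (nat_lit 332) (Step.L (Step.D (nat_lit 106) (Step.D (nat_lit 331) (Step.D (nat_lit 899) Step.done))))) (Scr.cons (nat_lit 12) (nat_lit 1) (Step.F (nat_lit 13313) (Step.D (nat_lit 900) (Step.F (nat_lit 1288) (Step.B (nat_lit 13313) (Step.D (nat_lit 1942) Step.done))))) (Scr.cons (nat_lit 14) (nat_lit 0) (Step.U (nat_lit 6502) (Step.U (nat_lit 3756) (Step.F (nat_lit 13314) (Step.F (nat_lit 13313) (Step.U (nat_lit 332) (Step.L (Step.L (Step.L (Step.L (Step.L (Step.L (Step.L (Step.L (Step.L (Step.L (Step.L (Step.L (Step.L (Step.D (nat_lit 3810) (Step.D (nat_lit 6582) Step.done)))))))))))))))))))) (Scr.cons (nat_lit 12) (nat_lit 4) (Step.U (nat_lit 3810) (Step.L (Step.L (Step.D (nat_lit 3810) (Step.D (nat_lit 6581) Step.done))))) (Scr.cons (nat_lit 12) (nat_lit 3) (Step.B (nat_lit 13315) (Step.U (nat_lit 6582) (Step.D (nat_lit 6581) (Step.F (nat_lit 13316) (Step.D (nat_lit 6582) Step.done))))) (Scr.cons (nat_lit 12) (nat_lit 1) (Step.F (nat_lit 13312) (Step.B (nat_lit 13315)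 (Step.F (nat_lit 13317) (Step.B (nat_lit 13312) (Step.D (nat_lit 11799) Step.done))))) (Scr.cons (nat_lit 12) (nat_lit 4) (Step.U (nat_lit 5324) (Step.L (Step.L (Step.D (nat_lit 5324) (Step.D (nat_lit 8371) Step.done))))) (Scr.cons (nat_lit 7) (nat_lit 4) (Step.U (nat_lit 11269) (Step.F (nat_lit 13319) (Step.U (nat_lit 5324) (Step.D (nat_lit 5325) (Step.D (nat_lit 8374) (Step.B (nat_lit 13149) (Step.U (nat_lit 8467) (Step.U (nat_lit 5396) (Step.F (nat_lit 13060) (Step.U (nat_lit 3757) (Step.U (nat_lit 1943) (Step.L (Step.L (Step.D (nat_lit 332) (Step.B (nat_lit 13313) (Step.D (nat_lit 1942) (Step.D (nat_lit 3756) (Step.D (nat_lit 6502) (Step.B (nat_lit 13312) (Step.B (nat_lit 13318) Step.done)))))))))))))))))))) (Scr.cons (nat_lit 12) (nat_lit 4) (Step.U (nat_lit 4814) (Step.L (Step.L (Step.D (nat_lit 4814) (Step.D (nat_lit 7804) Step.done))))) (Scr.cons (nat_lit 12) (nat_lit 4) (Step.U (nat_lit 7747) (Step.L (Step.L (Step.D (nat_lit 7747) (Step.D (nat_lit 10755) Step.done)))))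 Scr.nil))))))))))))))))))))))))))))))))))))))))
noncomputable def s333 : Scr := (Scr.cons (nat_lit 16) (nat_lit 0) (Step.U (nat_lit 7808) (Step.L (Step.L (Step.L (Step.L (Step.L (Step.L (Step.L (Step.L (Step.L (Step.L (Step.L (Step.L (Step.L (Step.L (Step.L (Step.L (Step.L (Step.L (Step.L (Step.L (Step.D (nat_lit 7747) (Step.D (nat_lit 10756) Step.done))))))))))))))))))))))) (Scr.cons (nat_lit 12) (nat_lit 4) (Step.U (nat_lit 10756) (Step.D (nat_lit 10755) (Step.F (nat_lit 13322) (Step.D (nat_lit 10756) (Step.F (nat_lit 13323) Step.done))))) (Scr.cons (nat_lit 11) (nat_lit 0) (Step.U (nat_lit 7748) (Step.U (nat_lit 4773) (Step.L (Step.D (nat_lit 7747) (Step.D (nat_lit 10756) Step.done))))) (Scr.cons (nat_lit 13) (nat_lit 2) (Step.U (nat_lit 4773) (Step.L (Step.L (Step.L (Step.L (Step.L (Step.L (Step.L (Step.L (Step.B (nat_lit 13282) (Step.D (nat_lit 7746) Step.done))))))))))) (Scr.cons (nat_lit 12) (nat_lit 1) (Step.U (nat_lit 7748) (Step.B (nat_lit 13279) (Step.F (nat_lit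 13326) (Step.D (nat_lit 7748) (Step.D (nat_lit 10757) Step.done))))) (Scr.cons (nat_lit 13) (nat_lit 2) (Step.U (nat_lit 10811) (Step.U (nat_lit 7804) (Step.U (nat_lit 4814) (Step.L (Step.L (Step.L (Step.D (nat_lit 7808) (Step.F (nat_lit 13324) (Step.F (nat_lit 13325) (Step.B (nat_lit 13327) (Step.D (nat_lit 11964) Step.done))))))))))) (Scr.cons (nat_lit 1) (nat_lit 0) (Step.U (nat_lit 7748) (Step.F (nat_lit 13277) (Step.L Step.done))) (Scr.cons (nat_lit 0) (nat_lit 1) (Step.U (nat_lit 10757) (Step.B (nat_lit 13329) (Step.L Step.done))) (Scr.cons (nat_lit 1) (nat_lit 0) (Step.U (nat_lit 11964) (Step.B (nat_lit 13330) (Step.L Step.done))) (Scr.cons (nat_lit 0) (nat_lit 1) (Step.B (nat_lit 13328) (Step.B (nat_lit 13331) (Step.L Step.done))) (Scr.cons (nat_lit 1) (nat_lit 1) (Step.D (nat_lit 10811) (Step.B (nat_lit 13332) (Step.D (nat_lit 5324) Step.done))) (Scr.cons (nat_lit 0) (nat_lit 1) (Step.B (nat_lit 13321) (Step.B (nat_lit 13333) (Step.D (nat_lit 8371) Step.done)))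 (Scr.cons (nat_lit 1) (nat_lit 1) (Step.U (nat_lit 11269) (Step.F (nat_lit 13334) (Step.D (nat_lit 7805) Step.done))) (Scr.cons (nat_lit 1) (nat_lit 1) (Step.F (nat_lit 13320) (Step.B (nat_lit 13335) (Step.D (nat_lit 10812) Step.done))) (Scr.cons (nat_lit 0) (nat_lit 1) (Step.B (nat_lit 13318) (Step.B (nat_lit 13336) (Step.D (nat_lit 11973) Step.done))) (Scr.cons (nat_lit 0) (nat_lit 0) (Step.B (nat_lit 13311) (Step.F (nat_lit 13337) Step.done)) (Scr.cons (nat_lit 1) (nat_lit 1) (Step.D (nat_lit 898) (Step.B (nat_lit 13305) (Step.L Step.done))) (Scr.cons (nat_lit 0) (nat_lit 1) (Step.B (nat_lit 13286) (Step.B (nat_lit 13339) (Step.L Step.done))) (Scr.cons (nat_lit 1) (nat_lit 1) (Step.U (nat_lit 331) (Step.B (nat_lit 13340) (Step.L Step.done))) (Scr.cons (nat_lit 1) (nat_lit 1) (Step.U (nat_lit 899) (Step.B (nat_lit 13341) (Step.L Step.done))) (Scr.cons (nat_lit 0) (nat_lit 1) (Step.U (nat_lit 1942) (Step.B (nat_lit 13342) (Step.L Step.done))) (Scr.cons (nat_lit 1) (nat_lit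 1) (Step.U (nat_lit 3755) (Step.B (nat_lit 13343) (Step.L Step.done))) (Scr.cons (nat_lit 1) (nat_lit 1) (Step.U (nat_lit 6500) (Step.B (nat_lit 13344) (Step.L Step.done))) (Scr.cons (nat_lit 1) (nat_lit 1) (Step.U (nat_lit 9645) (Step.B (nat_lit 13345) (Step.L Step.done))) (Scr.cons (nat_lit 12) (nat_lit 1) (Step.U (nat_lit 3830) (Step.L (Step.L (Step.D (nat_lit 3830) (Step.D (nat_lit 6606) Step.done))))) (Scr.cons (nat_lit 12) (nat_lit 1) (Step.U (nat_lit 9762) (Step.F (nat_lit 13347) (Step.D (nat_lit 6606) (Step.D (nat_lit 9762) (Step.D (nat_lit 11838) Step.done))))) (Scr.cons (nat_lit 15) (nat_lit 1) (Step.F (nat_lit 13348) (Step.U (nat_lit 9762) (Step.F (nat_lit 13347) (Step.U (nat_lit 3830) (Step.L (Step.L (Step.L (Step.L (Step.L (Step.L (Step.L (Step.L (Step.D (nat_lit 7593) (Step.D (nat_lit 10622) (Step.D (nat_lit 11937) Step.done))))))))))))))) (Scr.cons (nat_lit 1) (nat_lit 1) (Step.U (nat_lit 10622) (Step.F (nat_lit 13018) (Step.L Step.done))) (Scr.cons (nat_lit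 0) (nat_lit 1) (Step.U (nat_lit 11937) (Step.B (nat_lit 13350) (Step.L Step.done))) (Scr.cons (nat_lit 1) (nat_lit 1) (Step.B (nat_lit 13349) (Step.B (nat_lit 13351) (Step.L Step.done))) (Scr.cons (nat_lit 0) (nat_lit 1) (Step.B (nat_lit 13348) (Step.B (nat_lit 13352) (Step.L Step.done))) (Scr.cons (nat_lit 1) (nat_lit 1) (Step.D (nat_lit 9762) (Step.B (nat_lit 13353) (Step.L Step.done))) (Scr.cons (nat_lit 0) (nat_lit 1) (Step.B (nat_lit 13347) (Step.B (nat_lit 13354) (Step.D (nat_lit 5407) Step.done))) (Scr.cons (nat_lit 0) (nat_lit 1) (Step.D (nat_lit 5407) (Step.F (nat_lit 13355) Step.done)) (Scr.cons (nat_lit 0) (nat_lit 1) (Step.B (nat_lit 13338) (Step.B (nat_lit 13346) (Step.B (nat_lit 13356) Step.done))) (Scr.cons (nat_lit 1) (nat_lit 1) (Step.B (nat_lit 13308) (Step.B (nat_lit 13357) (Step.U (nat_lit 3830) Step.done))) (Scr.cons (nat_lit 1) (nat_lit 1) (Step.D (nat_lit 7807) (Step.B (nat_lit 13358) (Step.L Step.done))) (Scr.cons (nat_lit 1) (nat_lit 1) (Step.D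 (nat_lit 4815) (Step.B (nat_lit 13359) (Step.D (nat_lit 6605) Step.done))) (Scr.cons (nat_lit 1) (nat_lit 1) (Step.D (nat_lit 6605) (Step.F (nat_lit 13360) Step.done)) (Scr.cons (nat_lit 12) (nat_lit 4) (Step.U (nat_lit 6732) (Step.L (Step.L (Step.D (nat_lit 6732) (Step.D (nat_lit 9899) Step.done))))) Scr.nil))))))))))))))))))))))))))))))))))))))))
noncomputable def s334 : Scr := (Scr.cons (nat_lit 11) (nat_lit 0) (Step.U (nat_lit 6607) (Step.U (nat_lit 3830) (Step.L (Step.D (nat_lit 6605) (Step.D (nat_lit 9761) Step.done))))) (Scr.cons (nat_lit 14) (nat_lit 3) (Step.F (nat_lit 13363) (Step.U (nat_lit 6607) (Step.U (nat_lit 3830) (Step.L (Step.L (Step.L (Step.L (Step.L (Step.L (Step.L (Step.L (Step.L (Step.L (Step.L (Step.L (Step.L (Step.L (Step.L (Step.D (nat_lit 6732) (Step.D (nat_lit 9900) Step.done)))))))))))))))))))) (Scr.cons (nat_lit 12) (nat_lit 4) (Step.U (nat_lit 9900) (Step.D (nat_lit 9899) (Step.F (nat_lit 13362) (Step.D (nat_lit 9900) (Step.F (nat_lit 13364)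 Step.done))))) (Scr.cons (nat_lit 1) (nat_lit 0) (Step.D (nat_lit 10812) (Step.B (nat_lit 13357) (Step.D (nat_lit 6607) Step.done))) (Scr.cons (nat_lit 1) (nat_lit 0) (Step.D (nat_lit 7805) (Step.B (nat_lit 13366) (Step.B (nat_lit 13363) Step.done))) (Scr.cons (nat_lit 0) (nat_lit 0) (Step.B (nat_lit 13319) (Step.F (nat_lit 13334) Step.done)) (Scr.cons (nat_lit 0) (nat_lit 1) (Step.B (nat_lit 13365) (Step.F (nat_lit 13367) (Step.F (nat_lit 13368) Step.done))) (Scr.cons (nat_lit 1) (nat_lit 0) (Step.D (nat_lit 9900) (Step.B (nat_lit 13369) (Step.U (nat_lit 5324) Step.done))) (Scr.cons (nat_lit 1) (nat_lit 0) (Step.D (nat_lit 6732) (Step.B (nat_lit 13370) (Step.D (nat_lit 5325) Step.done))) (Scr.cons (nat_lit 1) (nat_lit 0) (Step.D (nat_lit 5325) (Step.F (nat_lit 13371) Step.done)) (Scr.cons (nat_lit 13) (nat_lit 0) (Step.U (nat_lit 4108) (Step.L (Step.L (Step.L (Step.L (Step.L (Step.L (Step.L (Step.L (Step.D (nat_lit 4106) (Step.D (nat_lit 6967) Step.done))))))))))) (Scr.cons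 (nat_lit 12) (nat_lit 4) (Step.U (nat_lit 6969) (Step.B (nat_lit 13373) (Step.F (nat_lit 13141) (Step.D (nat_lit 6969) (Step.D (nat_lit 10100) Step.done))))) (Scr.cons (nat_lit 0) (nat_lit 1) (Step.U (nat_lit 8373) (Step.F (nat_lit 13371) (Step.L Step.done))) (Scr.cons (nat_lit 1) (nat_lit 0) (Step.F (nat_lit 13160) (Step.B (nat_lit 13375) (Step.L Step.done))) (Scr.cons (nat_lit 0) (nat_lit 1) (Step.B (nat_lit 13374) (Step.B (nat_lit 13376) (Step.L Step.done))) (Scr.cons (nat_lit 1) (nat_lit 0) (Step.D (nat_lit 6969) (Step.B (nat_lit 13377) (Step.L Step.done))) (Scr.cons (nat_lit 1) (nat_lit 0) (Step.D (nat_lit 4108) (Step.B (nat_lit 13378) (Step.D (nat_lit 6731) Step.done))) (Scr.cons (nat_lit 1) (nat_lit 0) (Step.D (nat_lit 6731) (Step.F (nat_lit 13379) Step.done)) (Scr.cons (nat_lit 11) (nat_lit 0) (Step.L (Step.L (Step.D (nat_lit 3562) (Step.D (nat_lit 6245) (Step.D (nat_lit 9421) Step.done))))) (Scr.cons (nat_lit 12) (nat_lit 1) (Step.F (nat_lit 13381) (Step.L (Step.L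 (Step.B (nat_lit 13381) (Step.D (nat_lit 11739) Step.done))))) (Scr.cons (nat_lit 11) (nat_lit 0) (Step.U (nat_lit 3567) (Step.U (nat_lit 1825) (Step.D (nat_lit 1824) (Step.D (nat_lit 3565) (Step.D (nat_lit 6250) Step.done))))) (Scr.cons (nat_lit 12) (nat_lit 1) (Step.L (Step.L (Step.L (Step.L (Step.D (nat_lit 824) Step.done))))) (Scr.cons (nat_lit 12) (nat_lit 1) (Step.U (nat_lit 1825) (Step.F (nat_lit 13384) (Step.D (nat_lit 824) (Step.D (nat_lit 1825) (Step.D (nat_lit 3566) Step.done))))) (Scr.cons (nat_lit 12) (nat_lit 1) (Step.U (nat_lit 3567) (Step.D (nat_lit 3566) (Step.F (nat_lit 13385) (Step.D (nat_lit 3567) (Step.D (nat_lit 6251) Step.done))))) (Scr.cons (nat_lit 12) (nat_lit 1) (Step.F (nat_lit 13383) (Step.D (nat_lit 6251) (Step.F (nat_lit 13386) (Step.B (nat_lit 13383) (Step.D (nat_lit 9429) Step.done))))) (Scr.cons (nat_lit 7) (nat_lit 5) (Step.F (nat_lit 13382) (Step.U (nat_lit 9421) (Step.U (nat_lit 6245) (Step.U (nat_lit 3562) (Step.L (Step.L (Step.L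 (Step.L (Step.L (Step.L (Step.L (Step.L (Step.L (Step.L (Step.D (nat_lit 824) (Step.D (nat_lit 1825) (Step.D (nat_lit 3567) (Step.B (nat_lit 13383) (Step.B (nat_lit 13387) (Step.D (nat_lit 11743) Step.done)))))))))))))))))))) (Scr.cons (nat_lit 1) (nat_lit 1) (Step.B (nat_lit 10485) (Step.B (nat_lit 12801) (Step.D (nat_lit 3565) Step.done))) (Scr.cons (nat_lit 1) (nat_lit 1) (Step.D (nat_lit 3940) (Step.B (nat_lit 13389) (Step.D (nat_lit 6250) Step.done))) (Scr.cons (nat_lit 0) (nat_lit 1) (Step.U (nat_lit 9429) (Step.F (nat_lit 13390) (Step.D (nat_lit 3939) Step.done))) (Scr.cons (nat_lit 1) (nat_lit 0) (Step.U (nat_lit 11743) (Step.B (nat_lit 13391) (Step.D (nat_lit 6754) Step.done))) (Scr.cons (nat_lit 1) (nat_lit 0) (Step.B (nat_lit 13388) (Step.B (nat_lit 13392) (Step.D (nat_lit 9921) Step.done))) (Scr.cons (nat_lit 0) (nat_lit 0) (Step.B (nat_lit 13382) (Step.B (nat_lit 13393) Step.done)) (Scr.cons (nat_lit 11) (nat_lit 0) (Step.U (nat_lit 1458) (Step.U (nat_lit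 613) (Step.D (nat_lit 612) (Step.D (nat_lit 1456) (Step.D (nat_lit 2944) Step.done))))) (Scr.cons (nat_lit 12) (nat_lit 1) (Step.U (nat_lit 613) (Step.F (nat_lit 8266) (Step.D (nat_lit 220) (Step.D (nat_lit 613) (Step.D (nat_lit 1457) Step.done))))) (Scr.cons (nat_lit 12) (nat_lit 1) (Step.U (nat_lit 1458) (Step.D (nat_lit 1457) (Step.F (nat_lit 13396) (Step.D (nat_lit 1458) (Step.D (nat_lit 2946) Step.done))))) (Scr.cons (nat_lit 12) (nat_lit 1) (Step.F (nat_lit 13395) (Step.D (nat_lit 2946) (Step.F (nat_lit 13397) (Step.B (nat_lit 13395) (Step.D (nat_lit 5310) Step.done))))) (Scr.cons (nat_lit 12) (nat_lit 4) (Step.U (nat_lit 8348) (Step.F (nat_lit 13398) (Step.D (nat_lit 5310) (Step.D (nat_lit 8348) (Step.D (nat_lit 11253) Step.done))))) (Scr.cons (nat_lit 16) (nat_lit 3) (Step.U (nat_lit 11880) (Step.F (nat_lit 13160) (Step.F (nat_lit 13161) (Step.U (nat_lit 5325) (Step.L (Step.L (Step.L (Step.L (Step.L (Step.L (Step.L (Step.L (Step.L (Step.L (Step.L (Step.D (nat_lit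 60) (Step.D (nat_lit 220) (Step.D (nat_lit 612) (Step.D (nat_lit 1456) (Step.D (nat_lit 2944) (Step.D (nat_lit 5310) (Step.D (nat_lit 8348) (Step.D (nat_lit 11253) Step.done))))))))))))))))))))))) (Scr.cons (nat_lit 1) (nat_lit 0) (Step.U (nat_lit 11880) (Step.B (nat_lit 13376) (Step.L Step.done))) (Scr.cons (nat_lit 1) (nat_lit 0) (Step.F (nat_lit 13400) (Step.B (nat_lit 13401) (Step.L Step.done))) Scr.nil))))))))))))))))))))))))))))))))))))))))
noncomputable def s335 : Scr := (Scr.cons (nat_lit 0) (nat_lit 1) (Step.B (nat_lit 13399) (Step.B (nat_lit 13402) (Step.L Step.done))) (Scr.cons (nat_lit 1) (nat_lit 0) (Step.D (nat_lit 8348) (Step.B (nat_lit 13403) (Step.L Step.done))) (Scr.cons (nat_lit 0) (nat_lit 1) (Step.B (nat_lit 13398) (Step.B (nat_lit 13404) (Step.L Step.done))) (Scr.cons (nat_lit 1) (nat_lit 1) (Step.B (nat_lit 13395) (Step.B (nat_lit 13405) (Step.L Step.done))) (Scr.cons (nat_lit 1) (nat_lit 1) (Step.D (nat_lit 1458) (Step.B (nat_lit 13406) (Step.L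 Step.done))) (Scr.cons (nat_lit 1) (nat_lit 1) (Step.D (nat_lit 613) (Step.B (nat_lit 13407) (Step.L Step.done))) (Scr.cons (nat_lit 0) (nat_lit 1) (Step.B (nat_lit 8266) (Step.B (nat_lit 13408) (Step.L Step.done))) (Scr.cons (nat_lit 1) (nat_lit 0) (Step.D (nat_lit 60) (Step.B (nat_lit 13409) (Step.D (nat_lit 116) Step.done))) (Scr.cons (nat_lit 1) (nat_lit 0) (Step.U (nat_lit 358) (Step.F (nat_lit 13410) (Step.L Step.done))) (Scr.cons (nat_lit 0) (nat_lit 1) (Step.U (nat_lit 951) (Step.B (nat_lit 13411) (Step.L Step.done))) (Scr.cons (nat_lit 1) (nat_lit 0) (Step.U (nat_lit 2051) (Step.B (nat_lit 13412) (Step.L Step.done))) (Scr.cons (nat_lit 0) (nat_lit 1) (Step.U (nat_lit 3939) (Step.B (nat_lit 13413) (Step.L Step.done))) (Scr.cons (nat_lit 1) (nat_lit 0) (Step.U (nat_lit 6754) (Step.B (nat_lit 13414) (Step.L Step.done))) (Scr.cons (nat_lit 1) (nat_lit 0) (Step.U (nat_lit 9921) (Step.B (nat_lit 13415) (Step.L Step.done))) (Scr.cons (nat_lit 0) (nat_lit 1) (Step.B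 (nat_lit 13394) (Step.B (nat_lit 13416) (Step.L Step.done))) (Scr.cons (nat_lit 1) (nat_lit 1) (Step.B (nat_lit 13381) (Step.B (nat_lit 13417) (Step.D (nat_lit 11259) Step.done))) (Scr.cons (nat_lit 1) (nat_lit 1) (Step.D (nat_lit 11259) (Step.F (nat_lit 13418) Step.done)) (Scr.cons (nat_lit 12) (nat_lit 1) (Step.L (Step.L (Step.L (Step.L (Step.D (nat_lit 5751) Step.done))))) (Scr.cons (nat_lit 12) (nat_lit 4) (Step.L (Step.D (nat_lit 4634) (Step.F (nat_lit 12217) (Step.L (Step.D (nat_lit 7591) Step.done))))) (Scr.cons (nat_lit 1) (nat_lit 1) (Step.U (nat_lit 6604) (Step.B (nat_lit 10710) (Step.L Step.done))) (Scr.cons (nat_lit 0) (nat_lit 1) (Step.U (nat_lit 9760) (Step.B (nat_lit 13422) (Step.D (nat_lit 7591) Step.done))) (Scr.cons (nat_lit 1) (nat_lit 0) (Step.F (nat_lit 10655) (Step.B (nat_lit 13423) (Step.D (nat_lit 10621) Step.done))) (Scr.cons (nat_lit 1) (nat_lit 0) (Step.D (nat_lit 10621) (Step.F (nat_lit 13424) Step.done)) (Scr.cons (nat_lit 1) (nat_lit 1) (Step.D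 (nat_lit 5311) (Step.F (nat_lit 8289) Step.done)) (Scr.cons (nat_lit 1) (nat_lit 1) (Step.U (nat_lit 221) (Step.B (nat_lit 13409) (Step.L Step.done))) (Scr.cons (nat_lit 0) (nat_lit 1) (Step.U (nat_lit 614) (Step.B (nat_lit 13427) (Step.D (nat_lit 356) Step.done))) (Scr.cons (nat_lit 1) (nat_lit 1) (Step.U (nat_lit 1459) (Step.B (nat_lit 13428) (Step.D (nat_lit 948) Step.done))) (Scr.cons (nat_lit 1) (nat_lit 1) (Step.U (nat_lit 2947) (Step.B (nat_lit 13429) (Step.D (nat_lit 2047) Step.done))) (Scr.cons (nat_lit 1) (nat_lit 1) (Step.F (nat_lit 13426) (Step.B (nat_lit 13430) (Step.D (nat_lit 3934) Step.done))) (Scr.cons (nat_lit 0) (nat_lit 1) (Step.U (nat_lit 6749) (Step.F (nat_lit 13431) (Step.D (nat_lit 3246) Step.done))) (Scr.cons (nat_lit 1) (nat_lit 1) (Step.B (nat_lit 13425) (Step.B (nat_lit 13432) (Step.D (nat_lit 5756) Step.done))) (Scr.cons (nat_lit 13) (nat_lit 0) (Step.U (nat_lit 5756) (Step.F (nat_lit 8260) (Step.U (nat_lit 1632) (Step.U (nat_lit 694) (Step.L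 (Step.L (Step.L (Step.L (Step.L (Step.D (nat_lit 5751) (Step.D (nat_lit 8871) Step.done))))))))))) (Scr.cons (nat_lit 0) (nat_lit 1) (Step.B (nat_lit 13421) (Step.B (nat_lit 13433) (Step.B (nat_lit 13434) Step.done))) (Scr.cons (nat_lit 1) (nat_lit 0) (Step.D (nat_lit 8871) (Step.F (nat_lit 13435) (Step.L Step.done))) (Scr.cons (nat_lit 0) (nat_lit 1) (Step.B (nat_lit 13420) (Step.B (nat_lit 13436) (Step.D (nat_lit 4634) Step.done))) (Scr.cons (nat_lit 0) (nat_lit 0) (Step.B (nat_lit 12217) (Step.F (nat_lit 13437) Step.done)) (Scr.cons (nat_lit 11) (nat_lit 0) (Step.U (nat_lit 1228) (Step.L (Step.D (nat_lit 489) (Step.D (nat_lit 1226) (Step.D (nat_lit 2536) Step.done))))) (Scr.cons (nat_lit 12) (nat_lit 1) (Step.L (Step.L (Step.L (Step.L (Step.D (nat_lit 1227) Step.done))))) (Scr.cons (nat_lit 12) (nat_lit 1) (Step.U (nat_lit 1228) (Step.D (nat_lit 1227) (Step.F (nat_lit 13440) (Step.D (nat_lit 1228) (Step.D (nat_lit 2538) Step.done))))) (Scr.cons (nat_lit 12) (nat_lit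 1) (Step.F (nat_lit 13439) (Step.D (nat_lit 2538) (Step.F (nat_lit 13441) (Step.B (nat_lit 13439) (Step.D (nat_lit 4680) Step.done))))) Scr.nil))))))))))))))))))))))))))))))))))))))))
noncomputable def s336 : Scr := (Scr.cons (nat_lit 12) (nat_lit 1) (Step.U (nat_lit 7643) (Step.F (nat_lit 13442) (Step.D (nat_lit 4680) (Step.D (nat_lit 7643) (Step.D (nat_lit 10670) Step.done))))) (Scr.cons (nat_lit 9) (nat_lit 1) (Step.U (nat_lit 10678) (Step.L (Step.L (Step.L (Step.L (Step.L (Step.L (Step.L (Step.L (Step.L (Step.L (Step.L (Step.L (Step.L (Step.L (Step.L (Step.L (Step.D (nat_lit 1228) (Step.B (nat_lit 13439) (Step.B (nat_lit 13442) (Step.D (nat_lit 7643) (Step.B (nat_lit 13443) (Step.D (nat_lit 11948) Step.done))))))))))))))))))))))) (Scr.cons (nat_lit 11) (nat_lit 0) (Step.U (nat_lit 10679) (Step.D (nat_lit 10678) (Step.B (nat_lit 13444) (Step.U (nat_lit 11948) (Step.D (nat_lit 11947) Step.done))))) (Scr.cons (nat_lit 13) (nat_lit 2) (Step.L (Step.L (Step.L (Step.L (Step.L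 (Step.L (Step.L (Step.L (Step.L (Step.L (Step.D (nat_lit 819) Step.done))))))))))) (Scr.cons (nat_lit 6) (nat_lit 3) (Step.U (nat_lit 489) (Step.L (Step.L (Step.L (Step.L (Step.L (Step.L (Step.L (Step.L (Step.L (Step.L Step.done))))))))))) (Scr.cons (nat_lit 13) (nat_lit 0) (Step.U (nat_lit 489) (Step.L (Step.L (Step.L (Step.L (Step.L (Step.L (Step.L (Step.L (Step.L (Step.L Step.done))))))))))) (Scr.cons (nat_lit 12) (nat_lit 4) (Step.U (nat_lit 1635) (Step.F (nat_lit 13447) (Step.B (nat_lit 13448) (Step.D (nat_lit 1635) (Step.D (nat_lit 3254) Step.done))))) (Scr.cons (nat_lit 11) (nat_lit 0) (Step.U (nat_lit 8895) (Step.U (nat_lit 5769) (Step.D (nat_lit 5768) (Step.D (nat_lit 8894) (Step.D (nat_lit 11545) Step.done))))) (Scr.cons (nat_lit 14) (nat_lit 0) (Step.L (Step.L (Step.L (Step.L (Step.L (Step.L (Step.L (Step.L (Step.L (Step.L (Step.L (Step.L (Step.L (Step.L (Step.L (Step.L (Step.D (nat_lit 1635) (Step.D (nat_lit 3254) (Step.D (nat_lit 5768) (Step.D (nat_lit 8894)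 (Step.D (nat_lit 11545) Step.done))))))))))))))))))))) (Scr.cons (nat_lit 1) (nat_lit 1) (Step.B (nat_lit 13450) (Step.F (nat_lit 13451) (Step.L Step.done))) (Scr.cons (nat_lit 1) (nat_lit 1) (Step.D (nat_lit 8895) (Step.B (nat_lit 13452) (Step.L Step.done))) (Scr.cons (nat_lit 1) (nat_lit 1) (Step.D (nat_lit 5769) (Step.B (nat_lit 13453) (Step.L Step.done))) (Scr.cons (nat_lit 0) (nat_lit 1) (Step.B (nat_lit 13449) (Step.B (nat_lit 13454) (Step.L Step.done))) (Scr.cons (nat_lit 1) (nat_lit 0) (Step.D (nat_lit 1635) (Step.B (nat_lit 13455) (Step.D (nat_lit 819) Step.done))) (Scr.cons (nat_lit 0) (nat_lit 1) (Step.B (nat_lit 13446) (Step.F (nat_lit 13456) (Step.F (nat_lit 13447) Step.done))) (Scr.cons (nat_lit 1) (nat_lit 1) (Step.U (nat_lit 1226) (Step.F (nat_lit 13457) (Step.L Step.done))) (Scr.cons (nat_lit 1) (nat_lit 1) (Step.U (nat_lit 2536) (Step.B (nat_lit 13458) (Step.L Step.done))) (Scr.cons (nat_lit 0) (nat_lit 1) (Step.U (nat_lit 4680) (Step.B (nat_lit 13459)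 (Step.D (nat_lit 1091) Step.done))) (Scr.cons (nat_lit 1) (nat_lit 0) (Step.U (nat_lit 7643) (Step.B (nat_lit 13460) (Step.D (nat_lit 2293) Step.done))) (Scr.cons (nat_lit 0) (nat_lit 1) (Step.U (nat_lit 10670) (Step.B (nat_lit 13461) (Step.D (nat_lit 4304) Step.done))) (Scr.cons (nat_lit 1) (nat_lit 1) (Step.U (nat_lit 11947) (Step.B (nat_lit 13462) (Step.D (nat_lit 7218) Step.done))) (Scr.cons (nat_lit 1) (nat_lit 1) (Step.B (nat_lit 13445) (Step.B (nat_lit 13463) (Step.D (nat_lit 10301) Step.done))) (Scr.cons (nat_lit 13) (nat_lit 0) (Step.L (Step.L (Step.L (Step.L (Step.L (Step.L (Step.L (Step.B (nat_lit 128) (Step.D (nat_lit 2293) (Step.D (nat_lit 4304) (Step.D (nat_lit 7218) Step.done))))))))))) (Scr.cons (nat_lit 14) (nat_lit 0) (Step.U (nat_lit 9083) (Step.L (Step.L (Step.L (Step.L (Step.L (Step.L (Step.L (Step.L (Step.L (Step.L (Step.D (nat_lit 10292) (Step.B (nat_lit 11532) (Step.U (nat_lit 10305) (Step.L (Step.L (Step.L (Step.L (Step.L (Step.D (nat_lit 7223)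 (Step.D (nat_lit 10306) Step.done))))))))))))))))))))) (Scr.cons (nat_lit 1) (nat_lit 0) (Step.D (nat_lit 10306) (Step.F (nat_lit 13466) (Step.D (nat_lit 11612) Step.done))) (Scr.cons (nat_lit 1) (nat_lit 0) (Step.D (nat_lit 11612) (Step.F (nat_lit 13467) Step.done)) (Scr.cons (nat_lit 12) (nat_lit 1) (Step.L (Step.L (Step.L (Step.L (Step.D (nat_lit 9083) Step.done))))) (Scr.cons (nat_lit 14) (nat_lit 6) (Step.D (nat_lit 7218) (Step.F (nat_lit 13465) (Step.D (nat_lit 7223) (Step.F (nat_lit 13468) (Step.F (nat_lit 13469) (Step.L (Step.L (Step.L (Step.L (Step.L (Step.L (Step.L (Step.L (Step.L (Step.L (Step.L (Step.L (Step.L (Step.L (Step.D (nat_lit 8641) (Step.D (nat_lit 11423) Step.done))))))))))))))))))))) (Scr.cons (nat_lit 1) (nat_lit 0) (Step.D (nat_lit 11423) (Step.F (nat_lit 13470) (Step.D (nat_lit 7219) Step.done))) (Scr.cons (nat_lit 1) (nat_lit 0) (Step.D (nat_lit 8641) (Step.B (nat_lit 13471) (Step.D (nat_lit 10302) Step.done))) (Scr.cons (nat_lit 1) (nat_lit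 0) (Step.D (nat_lit 10302) (Step.F (nat_lit 13472) Step.done)) (Scr.cons (nat_lit 11) (nat_lit 0) (Step.U (nat_lit 11424) (Step.U (nat_lit 8642) (Step.F (nat_lit 13473) (Step.U (nat_lit 7219) (Step.D (nat_lit 7218) (Step.D (nat_lit 10301) Step.done)))))) (Scr.cons (nat_lit 1) (nat_lit 0) (Step.D (nat_lit 11424) (Step.B (nat_lit 13474) Step.done)) (Scr.cons (nat_lit 1) (nat_lit 1) (Step.D (nat_lit 10679) (Step.B (nat_lit 13464) (Step.F (nat_lit 13475) Step.done))) (Scr.cons (nat_lit 1) (nat_lit 0) (Step.D (nat_lit 8642) (Step.F (nat_lit 13476) Step.done)) (Scr.cons (nat_lit 9) (nat_lit 2) (Step.U (nat_lit 10303) (Step.U (nat_lit 7222) (Step.U (nat_lit 4305) (Step.U (nat_lit 2294) (Step.L (Step.L (Step.L (Step.L (Step.L (Step.L (Step.L (Step.L (Step.L (Step.L (Step.L (Step.L (Step.L (Step.L (Step.L (Step.L (Step.L (Step.D (nat_lit 10288) (Step.D (nat_lit 11906) Step.done))))))))))))))))))))))) (Scr.cons (nat_lit 11) (nat_lit 0) (Step.U (nat_lit 1092) (Step.L (Step.L (Step.L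 (Step.D (nat_lit 2294) Step.done))))) (Scr.cons (nat_lit 1) (nat_lit 0) (Step.D (nat_lit 489) (Step.F (nat_lit 13457) (Step.D (nat_lit 1092) Step.done))) (Scr.cons (nat_lit 1) (nat_lit 0) (Step.F (nat_lit 13479) (Step.F (nat_lit 13480) (Step.L Step.done))) (Scr.cons (nat_lit 0) (nat_lit 1) (Step.U (nat_lit 4305) (Step.B (nat_lit 13481) (Step.D (nat_lit 1227) Step.done))) Scr.nil))))))))))))))))))))))))))))))))))))))))
noncomputable def s337 : Scr := (Scr.cons (nat_lit 1) (nat_lit 1) (Step.U (nat_lit 7222) (Step.B (nat_lit 13482) (Step.D (nat_lit 2537) Step.done))) (Scr.cons (nat_lit 0) (nat_lit 1) (Step.U (nat_lit 10303) (Step.B (nat_lit 13483) (Step.D (nat_lit 4681) Step.done))) (Scr.cons (nat_lit 1) (nat_lit 1) (Step.F (nat_lit 13478) (Step.B (nat_lit 13484) (Step.D (nat_lit 7644) Step.done))) (Scr.cons (nat_lit 6) (nat_lit 1) (Step.L (Step.L (Step.L (Step.L (Step.L (Step.L (Step.L (Step.B (nat_lit 13440) (Step.D (nat_lit 2537) (Step.D (nat_lit 4681) (Step.D (nat_lit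 7645) Step.done))))))))))) (Scr.cons (nat_lit 11) (nat_lit 0) (Step.U (nat_lit 7647) (Step.L (Step.L (Step.D (nat_lit 7646) (Step.D (nat_lit 10672) Step.done))))) (Scr.cons (nat_lit 12) (nat_lit 4) (Step.U (nat_lit 2537) (Step.F (nat_lit 13440) (Step.D (nat_lit 1227) (Step.D (nat_lit 2537) (Step.D (nat_lit 4681) Step.done))))) (Scr.cons (nat_lit 13) (nat_lit 2) (Step.L (Step.L (Step.L (Step.L (Step.L (Step.L (Step.L (Step.D (nat_lit 1227) (Step.D (nat_lit 2537) (Step.B (nat_lit 13488) (Step.D (nat_lit 7645) Step.done))))))))))) (Scr.cons (nat_lit 12) (nat_lit 1) (Step.U (nat_lit 7647) (Step.B (nat_lit 13486) (Step.F (nat_lit 13489) (Step.D (nat_lit 7647) (Step.D (nat_lit 10673) Step.done))))) (Scr.cons (nat_lit 12) (nat_lit 1) (Step.F (nat_lit 13487) (Step.D (nat_lit 10673) (Step.F (nat_lit 13490) (Step.B (nat_lit 13487) (Step.D (nat_lit 11949) Step.done))))) (Scr.cons (nat_lit 7) (nat_lit 4) (Step.U (nat_lit 6132) (Step.L (Step.L (Step.L (Step.L (Step.L (Step.L (Step.L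 (Step.L (Step.L (Step.D (nat_lit 10681) (Step.F (nat_lit 12410) (Step.U (nat_lit 10674) (Step.L (Step.L (Step.L (Step.L (Step.L (Step.D (nat_lit 7647) (Step.B (nat_lit 13487) (Step.B (nat_lit 13491) Step.done))))))))))))))))))))) (Scr.cons (nat_lit 0) (nat_lit 1) (Step.B (nat_lit 13491) (Step.F (nat_lit 13492) (Step.D (nat_lit 9296) Step.done))) (Scr.cons (nat_lit 1) (nat_lit 1) (Step.B (nat_lit 13487) (Step.B (nat_lit 13493) (Step.D (nat_lit 11680) Step.done))) (Scr.cons (nat_lit 1) (nat_lit 1) (Step.D (nat_lit 11680) (Step.F (nat_lit 13494) Step.done)) (Scr.cons (nat_lit 12) (nat_lit 4) (Step.U (nat_lit 6132) (Step.L (Step.L (Step.D (nat_lit 6132) (Step.D (nat_lit 9296) Step.done))))) (Scr.cons (nat_lit 7) (nat_lit 2) (Step.D (nat_lit 7645) (Step.F (nat_lit 13486) (Step.D (nat_lit 7647) (Step.F (nat_lit 13495) (Step.F (nat_lit 13496) (Step.U (nat_lit 6132) (Step.L (Step.L (Step.L (Step.L (Step.L (Step.L (Step.L (Step.L (Step.L (Step.L (Step.L (Step.L (Step.L (Step.D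 (nat_lit 10021) (Step.D (nat_lit 11861) Step.done))))))))))))))))))))) (Scr.cons (nat_lit 1) (nat_lit 1) (Step.D (nat_lit 11861) (Step.F (nat_lit 13497) (Step.D (nat_lit 7644) Step.done))) (Scr.cons (nat_lit 1) (nat_lit 1) (Step.D (nat_lit 10021) (Step.B (nat_lit 13498) (Step.D (nat_lit 10671) Step.done))) (Scr.cons (nat_lit 1) (nat_lit 1) (Step.D (nat_lit 10671) (Step.F (nat_lit 13499) Step.done)) (Scr.cons (nat_lit 1) (nat_lit 1) (Step.D (nat_lit 11906) (Step.B (nat_lit 13485) (Step.B (nat_lit 13500) Step.done))) (Scr.cons (nat_lit 1) (nat_lit 1) (Step.D (nat_lit 10288) (Step.B (nat_lit 13501) (Step.D (nat_lit 10020) Step.done))) (Scr.cons (nat_lit 1) (nat_lit 1) (Step.D (nat_lit 10020) (Step.F (nat_lit 13502) Step.done)) (Scr.cons (nat_lit 9) (nat_lit 1) (Step.U (nat_lit 11546) (Step.L (Step.L (Step.L (Step.L (Step.L (Step.L (Step.L (Step.L (Step.L (Step.L (Step.L (Step.L (Step.L (Step.L (Step.L (Step.L (Step.L (Step.L (Step.L (Step.L (Step.L (Step.L (Step.D (nat_lit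 11718) Step.done)))))))))))))))))))))))) (Scr.cons (nat_lit 1) (nat_lit 0) (Step.D (nat_lit 11718) (Step.F (nat_lit 13504) Step.done)) (Scr.cons (nat_lit 11) (nat_lit 0) (Step.L (Step.L (Step.L (Step.D (nat_lit 11546) (Step.F (nat_lit 13505) (Step.D (nat_lit 11717) Step.done)))))) (Scr.cons (nat_lit 1) (nat_lit 1) (Step.D (nat_lit 11717) (Step.F (nat_lit 13506) Step.done)) (Scr.cons (nat_lit 12) (nat_lit 4) (Step.L (Step.L (Step.L (Step.L (Step.D (nat_lit 8608) Step.done))))) (Scr.cons (nat_lit 12) (nat_lit 1) (Step.L (Step.L (Step.L (Step.L (Step.D (nat_lit 3660) Step.done))))) (Scr.cons (nat_lit 14) (nat_lit 2) (Step.F (nat_lit 13509) (Step.L (Step.L (Step.L (Step.L (Step.L (Step.L (Step.L (Step.L (Step.L (Step.L (Step.L (Step.L (Step.L (Step.L (Step.L (Step.L (Step.L (Step.L (Step.D (nat_lit 3471) Step.done)))))))))))))))))))) (Scr.cons (nat_lit 12) (nat_lit 1) (Step.L (Step.L (Step.L (Step.L (Step.D (nat_lit 11406) Step.done))))) (Scr.cons (nat_lit 11) (nat_lit 0)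 (Step.L (Step.L (Step.D (nat_lit 3471) (Step.F (nat_lit 13510) (Step.D (nat_lit 6372) Step.done))))) (Scr.cons (nat_lit 12) (nat_lit 1) (Step.F (nat_lit 13512) (Step.L (Step.L (Step.B (nat_lit 13512) (Step.D (nat_lit 9522) Step.done))))) (Scr.cons (nat_lit 12) (nat_lit 1) (Step.U (nat_lit 10294) (Step.L (Step.L (Step.D (nat_lit 10294) (Step.D (nat_lit 11908) Step.done))))) (Scr.cons (nat_lit 4) (nat_lit 0) (Step.U (nat_lit 9391) (Step.L (Step.L (Step.L (Step.D (nat_lit 10294) Step.done))))) (Scr.cons (nat_lit 7) (nat_lit 5) (Step.F (nat_lit 13514) (Step.F (nat_lit 13515) (Step.U (nat_lit 9391) (Step.L (Step.L (Step.L (Step.L (Step.L (Step.L (Step.L (Step.L (Step.L (Step.L (Step.L (Step.L (Step.L (Step.L (Step.B (nat_lit 13512) (Step.B (nat_lit 13513) (Step.D (nat_lit 11769) Step.done)))))))))))))))))))) (Scr.cons (nat_lit 7) (nat_lit 0) (Step.U (nat_lit 11405) (Step.U (nat_lit 8607) (Step.L (Step.L (Step.L (Step.L (Step.L (Step.L (Step.L (Step.L (Step.L (Step.L (Step.L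 (Step.L (Step.L (Step.L (Step.L (Step.L (Step.D (nat_lit 10294) (Step.D (nat_lit 11908) Step.done)))))))))))))))))))) (Scr.cons (nat_lit 4) (nat_lit 0) (Step.F (nat_lit 13516) (Step.F (nat_lit 13517) (Step.U (nat_lit 11405) (Step.U (nat_lit 8607) (Step.L (Step.D (nat_lit 11407) Step.done)))))) (Scr.cons (nat_lit 1) (nat_lit 1) (Step.D (nat_lit 11769) (Step.B (nat_lit 13518) (Step.U (nat_lit 11407) Step.done))) (Scr.cons (nat_lit 0) (nat_lit 1) (Step.B (nat_lit 13513) (Step.B (nat_lit 13519) (Step.D (nat_lit 11406) Step.done))) (Scr.cons (nat_lit 0) (nat_lit 0) (Step.B (nat_lit 13511) (Step.F (nat_lit 13520) Step.done)) (Scr.cons (nat_lit 16) (nat_lit 4) (Step.L (Step.L (Step.L (Step.L (Step.L (Step.L (Step.L (Step.L (Step.L (Step.L (Step.L (Step.D (nat_lit 3471) (Step.F (nat_lit 13510) (Step.D (nat_lit 6372) (Step.F (nat_lit 13521) (Step.L (Step.L (Step.L (Step.L (Step.L (Step.L (Step.L (Step.D (nat_lit 8608) (Step.D (nat_lit 11408) Step.done)))))))))))))))))))))))) Scr.nil))))))))))))))))))))))))))))))))))))))))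
noncomputable def s338 : Scr := (Scr.cons (nat_lit 1) (nat_lit 0) (Step.D (nat_lit 11408) (Step.F (nat_lit 13522) (Step.L Step.done))) (Scr.cons (nat_lit 0) (nat_lit 1) (Step.B (nat_lit 13508) (Step.B (nat_lit 13523) (Step.F (nat_lit 6337) Step.done))) (Scr.cons (nat_lit 0) (nat_lit 0) (Step.F (nat_lit 3114) (Step.F (nat_lit 13524) Step.done)) (Scr.cons (nat_lit 12) (nat_lit 1) (Step.L (Step.L (Step.L (Step.L (Step.D (nat_lit 6852) Step.done))))) (Scr.cons (nat_lit 12) (nat_lit 4) (Step.L (Step.L (Step.L (Step.L (Step.D (nat_lit 5516) Step.done))))) (Scr.cons (nat_lit 13) (nat_lit 2) (Step.U (nat_lit 8609) (Step.U (nat_lit 5516) (Step.L (Step.L (Step.L (Step.L (Step.L (Step.L (Step.L (Step.B (nat_lit 13508) (Step.D (nat_lit 11409) Step.done))))))))))) (Scr.cons (nat_lit 1) (nat_lit 0) (Step.U (nat_lit 11409) (Step.B (nat_lit 13523) (Step.B (nat_lit 6336) Step.done))) (Scr.cons (nat_lit 11) (nat_lit 0) (Step.L (Step.L (Step.L (Step.D (nat_lit 4001) (Step.D (nat_lit 6851)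 Step.done))))) (Scr.cons (nat_lit 14) (nat_lit 3) (Step.F (nat_lit 13530) (Step.L (Step.L (Step.L (Step.L (Step.L (Step.L (Step.L (Step.L (Step.L (Step.L (Step.L (Step.L (Step.L (Step.L (Step.L (Step.L (Step.L (Step.L (Step.D (nat_lit 8174) Step.done)))))))))))))))))))) (Scr.cons (nat_lit 0) (nat_lit 1) (Step.B (nat_lit 13528) (Step.B (nat_lit 13529) (Step.F (nat_lit 13531) Step.done))) (Scr.cons (nat_lit 1) (nat_lit 1) (Step.D (nat_lit 8609) (Step.B (nat_lit 13532) (Step.F (nat_lit 13530) Step.done))) (Scr.cons (nat_lit 0) (nat_lit 1) (Step.B (nat_lit 13527) (Step.B (nat_lit 13533) (Step.D (nat_lit 6852) Step.done))) (Scr.cons (nat_lit 0) (nat_lit 0) (Step.B (nat_lit 13526) (Step.F (nat_lit 13534) Step.done)) (Scr.cons (nat_lit 12) (nat_lit 1) (Step.L (Step.L (Step.L (Step.L (Step.D (nat_lit 10001) Step.done))))) (Scr.cons (nat_lit 12) (nat_lit 1) (Step.L (Step.L (Step.L (Step.L (Step.D (nat_lit 6856) Step.done))))) (Scr.cons (nat_lit 13) (nat_lit 0) (Step.U (nat_lit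 10002) (Step.F (nat_lit 13537) (Step.L (Step.L (Step.L (Step.L (Step.L (Step.L (Step.L (Step.D (nat_lit 10001) (Step.D (nat_lit 11860) Step.done))))))))))) (Scr.cons (nat_lit 14) (nat_lit 6) (Step.U (nat_lit 6852) (Step.L (Step.L (Step.L (Step.L (Step.L (Step.L (Step.L (Step.L (Step.L (Step.L (Step.L (Step.L (Step.L (Step.L (Step.L (Step.L (Step.L (Step.D (nat_lit 4004) (Step.D (nat_lit 6855) Step.done)))))))))))))))))))) (Scr.cons (nat_lit 4) (nat_lit 0) (Step.B (nat_lit 13539) (Step.U (nat_lit 6855) (Step.U (nat_lit 4004) (Step.L (Step.D (nat_lit 6857) Step.done))))) (Scr.cons (nat_lit 1) (nat_lit 1) (Step.F (nat_lit 13540) (Step.F (nat_lit 13534) (Step.L Step.done))) (Scr.cons (nat_lit 1) (nat_lit 1) (Step.D (nat_lit 6857) (Step.B (nat_lit 13541) (Step.F (nat_lit 889) Step.done))) (Scr.cons (nat_lit 0) (nat_lit 1) (Step.B (nat_lit 890) (Step.F (nat_lit 13542) (Step.D (nat_lit 6856) Step.done))) (Scr.cons (nat_lit 1) (nat_lit 1) (Step.U (nat_lit 10002) (Step.F (nat_lit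 13543) (Step.D (nat_lit 5531) Step.done))) (Scr.cons (nat_lit 0) (nat_lit 1) (Step.F (nat_lit 13538) (Step.B (nat_lit 13544) (Step.B (nat_lit 7019) Step.done))) (Scr.cons (nat_lit 1) (nat_lit 0) (Step.D (nat_lit 11860) (Step.B (nat_lit 13545) (Step.L Step.done))) (Scr.cons (nat_lit 7) (nat_lit 6) (Step.U (nat_lit 7721) (Step.L (Step.L (Step.L (Step.D (nat_lit 1250) (Step.B (nat_lit 2464) (Step.F (nat_lit 6533) (Step.B (nat_lit 7656) (Step.U (nat_lit 3209) (Step.U (nat_lit 1617) (Step.L (Step.L (Step.L (Step.L (Step.L (Step.L (Step.L (Step.L (Step.L (Step.D (nat_lit 10395) Step.done)))))))))))))))))))) (Scr.cons (nat_lit 0) (nat_lit 0) (Step.B (nat_lit 13547) (Step.F (nat_lit 3534) Step.done)) (Scr.cons (nat_lit 0) (nat_lit 1) (Step.B (nat_lit 13536) (Step.B (nat_lit 13546) (Step.F (nat_lit 13548) Step.done))) (Scr.cons (nat_lit 0) (nat_lit 0) (Step.F (nat_lit 3539) (Step.F (nat_lit 13549) Step.done)) (Scr.cons (nat_lit 11) (nat_lit 0) (Step.L (Step.L (Step.L (Step.L (Step.D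 (nat_lit 9648) Step.done))))) (Scr.cons (nat_lit 11) (nat_lit 0) (Step.U (nat_lit 625) (Step.L (Step.L (Step.L (Step.D (nat_lit 1495) Step.done))))) (Scr.cons (nat_lit 12) (nat_lit 1) (Step.U (nat_lit 625) (Step.L (Step.L (Step.D (nat_lit 625) (Step.D (nat_lit 1496) Step.done))))) (Scr.cons (nat_lit 12) (nat_lit 1) (Step.F (nat_lit 13552) (Step.D (nat_lit 1496) (Step.F (nat_lit 13553) (Step.B (nat_lit 13552) (Step.D (nat_lit 3018) Step.done))))) (Scr.cons (nat_lit 12) (nat_lit 1) (Step.U (nat_lit 5430) (Step.F (nat_lit 13554) (Step.D (nat_lit 3018) (Step.D (nat_lit 5430) (Step.D (nat_lit 8509) Step.done))))) (Scr.cons (nat_lit 16) (nat_lit 5) (Step.F (nat_lit 13555) (Step.U (nat_lit 5430) (Step.F (nat_lit 13554) (Step.F (nat_lit 13552) (Step.U (nat_lit 625) (Step.L (Step.L (Step.L (Step.L (Step.L (Step.L (Step.L (Step.L (Step.L (Step.L (Step.L (Step.L (Step.D (nat_lit 621) (Step.D (nat_lit 1485) (Step.D (nat_lit 3005) (Step.D (nat_lit 5408) (Step.D (nat_lit 8479) (Step.D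 (nat_lit 11332) Step.done))))))))))))))))))))))) (Scr.cons (nat_lit 11) (nat_lit 0) (Step.U (nat_lit 223) (Step.L (Step.L (Step.L (Step.D (nat_lit 621) Step.done))))) (Scr.cons (nat_lit 1) (nat_lit 0) (Step.D (nat_lit 106) (Step.B (nat_lit 13340) (Step.D (nat_lit 223) Step.done))) (Scr.cons (nat_lit 1) (nat_lit 0) (Step.F (nat_lit 13557) (Step.F (nat_lit 13558) (Step.L Step.done))) (Scr.cons (nat_lit 0) (nat_lit 1) (Step.U (nat_lit 1485) (Step.B (nat_lit 13559) (Step.L Step.done))) (Scr.cons (nat_lit 1) (nat_lit 1) (Step.U (nat_lit 3005) (Step.B (nat_lit 13560) (Step.L Step.done))) (Scr.cons (nat_lit 0) (nat_lit 1) (Step.U (nat_lit 5408) (Step.B (nat_lit 13561) (Step.L Step.done))) Scr.nil))))))))))))))))))))))))))))))))))))))))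
noncomputable def s339 : Scr := (Scr.cons (nat_lit 1) (nat_lit 1) (Step.U (nat_lit 8479) (Step.B (nat_lit 13562) (Step.L Step.done))) (Scr.cons (nat_lit 1) (nat_lit 1) (Step.U (nat_lit 11332) (Step.B (nat_lit 13563) (Step.L Step.done))) (Scr.cons (nat_lit 1) (nat_lit 1) (Step.B (nat_lit 13556) (Step.B (nat_lit 13564) (Step.D (nat_lit 9648) Step.done))) (Scr.cons (nat_lit 1) (nat_lit 0) (Step.B (nat_lit 13551) (Step.F (nat_lit 13565) Step.done)) (Scr.cons (nat_lit 12) (nat_lit 4) (Step.U (nat_lit 6905) (Step.F (nat_lit 12282) (Step.D (nat_lit 4052) (Step.D (nat_lit 6905) (Step.D (nat_lit 10038) Step.done))))) (Scr.cons (nat_lit 12) (nat_lit 1) (Step.L (Step.D (nat_lit 993) (Step.F (nat_lit 10864) (Step.L (Step.D (nat_lit 2121) Step.done))))) (Scr.cons (nat_lit 12) (nat_lit 4) (Step.U (nat_lit 4047) (Step.F (nat_lit 13568) (Step.D (nat_lit 2121) (Step.D (nat_lit 4047) (Step.D (nat_lit 6898) Step.done))))) (Scr.cons (nat_lit 13) (nat_lit 3) (Step.U (nat_lit 10038) (Step.U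 (nat_lit 6905) (Step.F (nat_lit 12282) (Step.U (nat_lit 2123) (Step.U (nat_lit 993) (Step.L (Step.D (nat_lit 2121) (Step.D (nat_lit 4047) (Step.B (nat_lit 13569) (Step.D (nat_lit 10031) (Step.D (nat_lit 11865) Step.done))))))))))) (Scr.cons (nat_lit 11) (nat_lit 0) (Step.F (nat_lit 12279) (Step.U (nat_lit 10041) (Step.U (nat_lit 6906) (Step.D (nat_lit 6905) (Step.D (nat_lit 10039) Step.done))))) (Scr.cons (nat_lit 12) (nat_lit 4) (Step.U (nat_lit 894) (Step.D (nat_lit 893) (Step.F (nat_lit 13037) (Step.D (nat_lit 894) (Step.D (nat_lit 1937) Step.done))))) (Scr.cons (nat_lit 14) (nat_lit 5) (Step.F (nat_lit 13570) (Step.U (nat_lit 10038) (Step.D (nat_lit 10039) (Step.F (nat_lit 13571) (Step.F (nat_lit 12270) (Step.F (nat_lit 12267) (Step.U (nat_lit 4787) (Step.U (nat_lit 2601) (Step.L (Step.L (Step.L (Step.L (Step.L (Step.D (nat_lit 329) (Step.D (nat_lit 894) (Step.B (nat_lit 13572) (Step.D (nat_lit 3750) (Step.D (nat_lit 6497) (Step.D (nat_lit 9642) (Step.D (nat_lit 11796)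 Step.done)))))))))))))))))))) (Scr.cons (nat_lit 1) (nat_lit 1) (Step.D (nat_lit 6563) (Step.F (nat_lit 13118) Step.done)) (Scr.cons (nat_lit 11) (nat_lit 0) (Step.U (nat_lit 3000) (Step.L (Step.D (nat_lit 1482) (Step.D (nat_lit 2999) (Step.D (nat_lit 5398) Step.done))))) (Scr.cons (nat_lit 12) (nat_lit 4) (Step.U (nat_lit 1482) (Step.L (Step.L (Step.D (nat_lit 1482) (Step.D (nat_lit 2998) Step.done))))) (Scr.cons (nat_lit 13) (nat_lit 3) (Step.U (nat_lit 2998) (Step.U (nat_lit 1482) (Step.L (Step.L (Step.L (Step.L (Step.L (Step.D (nat_lit 618) (Step.B (nat_lit 7074) (Step.D (nat_lit 2993) (Step.D (nat_lit 5387) Step.done))))))))))) (Scr.cons (nat_lit 1) (nat_lit 0) (Step.D (nat_lit 2992) (Step.B (nat_lit 8343) (Step.L Step.done))) (Scr.cons (nat_lit 1) (nat_lit 0) (Step.U (nat_lit 2993) (Step.B (nat_lit 13578) (Step.L Step.done))) (Scr.cons (nat_lit 0) (nat_lit 1) (Step.U (nat_lit 5387) (Step.B (nat_lit 13579) (Step.L Step.done))) (Scr.cons (nat_lit 1) (nat_lit 1) (Step.B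 (nat_lit 13577) (Step.B (nat_lit 13580) (Step.L Step.done))) (Scr.cons (nat_lit 0) (nat_lit 1) (Step.B (nat_lit 13576) (Step.B (nat_lit 13581) (Step.L Step.done))) (Scr.cons (nat_lit 1) (nat_lit 1) (Step.U (nat_lit 2999) (Step.B (nat_lit 13582) (Step.L Step.done))) (Scr.cons (nat_lit 1) (nat_lit 1) (Step.U (nat_lit 5398) (Step.B (nat_lit 13583) (Step.D (nat_lit 1537) Step.done))) (Scr.cons (nat_lit 1) (nat_lit 1) (Step.B (nat_lit 13575) (Step.B (nat_lit 13584) (Step.D (nat_lit 3075) Step.done))) (Scr.cons (nat_lit 1) (nat_lit 1) (Step.D (nat_lit 3075) (Step.F (nat_lit 13585) Step.done)) (Scr.cons (nat_lit 12) (nat_lit 4) (Step.U (nat_lit 1537) (Step.L (Step.L (Step.D (nat_lit 1537) (Step.D (nat_lit 3074) Step.done))))) (Scr.cons (nat_lit 12) (nat_lit 1) (Step.U (nat_lit 5497) (Step.F (nat_lit 13587) (Step.D (nat_lit 3074) (Step.D (nat_lit 5497) (Step.D (nat_lit 8581) Step.done))))) (Scr.cons (nat_lit 6) (nat_lit 0) (Step.U (nat_lit 8581) (Step.U (nat_lit 5497) (Step.F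 (nat_lit 13587) (Step.U (nat_lit 1537) (Step.L (Step.L (Step.L (Step.L (Step.L (Step.D (nat_lit 8566) (Step.D (nat_lit 11379) Step.done))))))))))) (Scr.cons (nat_lit 16) (nat_lit 3) (Step.L (Step.L (Step.L (Step.L (Step.L (Step.L (Step.L (Step.L (Step.L (Step.L (Step.L (Step.L (Step.L (Step.L (Step.L (Step.L (Step.L (Step.L (Step.L (Step.L (Step.L (Step.L (Step.D (nat_lit 8566) (Step.D (nat_lit 11379) Step.done)))))))))))))))))))))))) (Scr.cons (nat_lit 1) (nat_lit 0) (Step.B (nat_lit 13589) (Step.F (nat_lit 13590) (Step.L Step.done))) (Scr.cons (nat_lit 0) (nat_lit 1) (Step.B (nat_lit 13588) (Step.B (nat_lit 13591) (Step.L Step.done))) (Scr.cons (nat_lit 1) (nat_lit 1) (Step.D (nat_lit 5497) (Step.B (nat_lit 13592) (Step.L Step.done))) (Scr.cons (nat_lit 0) (nat_lit 1) (Step.B (nat_lit 13587) (Step.B (nat_lit 13593) (Step.L Step.done))) (Scr.cons (nat_lit 1) (nat_lit 1) (Step.F (nat_lit 13586) (Step.B (nat_lit 13594) (Step.L Step.done))) (Scr.cons (nat_lit 1) (nat_lit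 1) (Step.D (nat_lit 3000) (Step.B (nat_lit 13595) (Step.D (nat_lit 1966) Step.done))) (Scr.cons (nat_lit 0) (nat_lit 1) (Step.U (nat_lit 3795) (Step.F (nat_lit 13596) (Step.L Step.done))) (Scr.cons (nat_lit 1) (nat_lit 1) (Step.D (nat_lit 5399) (Step.F (nat_lit 13097) Step.done)) (Scr.cons (nat_lit 1) (nat_lit 1) (Step.F (nat_lit 13574) (Step.B (nat_lit 13597) (Step.B (nat_lit 13598) Step.done))) (Scr.cons (nat_lit 1) (nat_lit 1) (Step.D (nat_lit 3749) (Step.F (nat_lit 13599) (Step.L Step.done))) (Scr.cons (nat_lit 1) (nat_lit 1) (Step.D (nat_lit 1936) (Step.B (nat_lit 13600) (Step.L Step.done))) (Scr.cons (nat_lit 0) (nat_lit 1) (Step.B (nat_lit 13037) (Step.B (nat_lit 13601) (Step.L Step.done))) Scr.nil))))))))))))))))))))))))))))))))))))))))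
noncomputable def s340 : Scr := (Scr.cons (nat_lit 1) (nat_lit 1) (Step.U (nat_lit 894) (Step.B (nat_lit 13602) (Step.L Step.done))) (Scr.cons (nat_lit 0) (nat_lit 1) (Step.U (nat_lit 1937) (Step.B (nat_lit 13603) (Step.L Step.done))) (Scr.cons (nat_lit 1) (nat_lit 1) (Step.U (nat_lit 3750) (Step.B (nat_lit 13604) (Step.L Step.done))) (Scr.cons (nat_lit 1) (nat_lit 1) (Step.U (nat_lit 6497) (Step.B (nat_lit 13605) (Step.L Step.done))) (Scr.cons (nat_lit 0) (nat_lit 1) (Step.U (nat_lit 9642) (Step.B (nat_lit 13606) (Step.L Step.done))) (Scr.cons (nat_lit 1) (nat_lit 1) (Step.U (nat_lit 11796) (Step.B (nat_lit 13607) (Step.L Step.done))) (Scr.cons (nat_lit 1) (nat_lit 1) (Step.B (nat_lit 13573) (Step.B (nat_lit 13608) (Step.L Step.done))) (Scr.cons (nat_lit 1) (nat_lit 1) (Step.B (nat_lit 13570) (Step.B (nat_lit 13609) (Step.L Step.done))) (Scr.cons (nat_lit 0) (nat_lit 1) (Step.B (nat_lit 13567) (Step.B (nat_lit 13610) (Step.L Step.done))) (Scr.cons (nat_lit 1) (nat_lit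 0) (Step.D (nat_lit 6905) (Step.B (nat_lit 13611) (Step.L Step.done))) (Scr.cons (nat_lit 0) (nat_lit 1) (Step.B (nat_lit 12282) (Step.B (nat_lit 13612) (Step.L Step.done))) (Scr.cons (nat_lit 1) (nat_lit 1) (Step.D (nat_lit 2123) (Step.B (nat_lit 13613) (Step.L Step.done))) (Scr.cons (nat_lit 1) (nat_lit 1) (Step.U (nat_lit 2122) (Step.B (nat_lit 13614) (Step.L Step.done))) (Scr.cons (nat_lit 1) (nat_lit 1) (Step.U (nat_lit 4051) (Step.B (nat_lit 13615) (Step.D (nat_lit 1495) Step.done))) (Scr.cons (nat_lit 0) (nat_lit 1) (Step.F (nat_lit 12284) (Step.B (nat_lit 13616) (Step.D (nat_lit 3018) Step.done))) (Scr.cons (nat_lit 1) (nat_lit 0) (Step.D (nat_lit 4163) (Step.B (nat_lit 13617) (Step.D (nat_lit 5430) Step.done))) (Scr.cons (nat_lit 0) (nat_lit 1) (Step.U (nat_lit 8509) (Step.F (nat_lit 13618) (Step.L Step.done))) (Scr.cons (nat_lit 1) (nat_lit 1) (Step.B (nat_lit 13566) (Step.B (nat_lit 13619) (Step.D (nat_lit 7032) Step.done))) (Scr.cons (nat_lit 1) (nat_lit 1)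 (Step.D (nat_lit 7032) (Step.F (nat_lit 13620) Step.done)) (Scr.cons (nat_lit 11) (nat_lit 0) (Step.L (Step.L (Step.L (Step.L (Step.D (nat_lit 8478) Step.done))))) (Scr.cons (nat_lit 12) (nat_lit 1) (Step.F (nat_lit 13622) (Step.L (Step.L (Step.B (nat_lit 13622) (Step.D (nat_lit 11330) Step.done))))) (Scr.cons (nat_lit 11) (nat_lit 0) (Step.L (Step.L (Step.L (Step.D (nat_lit 890) (Step.D (nat_lit 1929) Step.done))))) (Scr.cons (nat_lit 12) (nat_lit 1) (Step.F (nat_lit 13624) (Step.L (Step.L (Step.B (nat_lit 13624) (Step.D (nat_lit 3743) Step.done))))) (Scr.cons (nat_lit 12) (nat_lit 4) (Step.U (nat_lit 6488) (Step.F (nat_lit 13625) (Step.D (nat_lit 3743) (Step.D (nat_lit 6488) (Step.D (nat_lit 9632) Step.done))))) (Scr.cons (nat_lit 12) (nat_lit 1) (Step.U (nat_lit 3756) (Step.F (nat_lit 13314) (Step.D (nat_lit 1942) (Step.D (nat_lit 3756) (Step.D (nat_lit 6501) Step.done))))) (Scr.cons (nat_lit 16) (nat_lit 4) (Step.U (nat_lit 9647) (Step.F (nat_lit 13627) (Step.U (nat_lit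 3756) (Step.F (nat_lit 13314) (Step.F (nat_lit 13313) (Step.U (nat_lit 332) (Step.L (Step.L (Step.L (Step.L (Step.L (Step.L (Step.L (Step.L (Step.L (Step.L (Step.L (Step.D (nat_lit 890) (Step.D (nat_lit 1929) (Step.D (nat_lit 3743) (Step.D (nat_lit 6488) (Step.D (nat_lit 9632) (Step.D (nat_lit 11791) Step.done))))))))))))))))))))))) (Scr.cons (nat_lit 4) (nat_lit 0) (Step.U (nat_lit 9646) (Step.D (nat_lit 9647) (Step.B (nat_lit 13628) (Step.U (nat_lit 11791) (Step.D (nat_lit 11792) Step.done))))) (Scr.cons (nat_lit 1) (nat_lit 0) (Step.U (nat_lit 3756) (Step.B (nat_lit 13343) (Step.L Step.done))) (Scr.cons (nat_lit 0) (nat_lit 1) (Step.U (nat_lit 6501) (Step.B (nat_lit 13630) (Step.L Step.done))) (Scr.cons (nat_lit 1) (nat_lit 1) (Step.U (nat_lit 9646) (Step.B (nat_lit 13631) (Step.L Step.done))) (Scr.cons (nat_lit 1) (nat_lit 1) (Step.F (nat_lit 13629) (Step.B (nat_lit 13632) (Step.L Step.done))) (Scr.cons (nat_lit 1) (nat_lit 1) (Step.D (nat_lit 11792) (Step.B (nat_lit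 13633) (Step.D (nat_lit 8478) Step.done))) (Scr.cons (nat_lit 0) (nat_lit 1) (Step.B (nat_lit 13626) (Step.B (nat_lit 13634) (Step.D (nat_lit 11330) Step.done))) (Scr.cons (nat_lit 0) (nat_lit 0) (Step.B (nat_lit 13623) (Step.F (nat_lit 13635) Step.done)) (Scr.cons (nat_lit 11) (nat_lit 0) (Step.L (Step.L (Step.L (Step.L (Step.D (nat_lit 4811) Step.done))))) (Scr.cons (nat_lit 12) (nat_lit 1) (Step.F (nat_lit 13637) (Step.L (Step.L (Step.B (nat_lit 13637) (Step.D (nat_lit 7799) Step.done))))) (Scr.cons (nat_lit 11) (nat_lit 0) (Step.L (Step.L (Step.D (nat_lit 518) (Step.D (nat_lit 1279) (Step.D (nat_lit 2631) Step.done))))) (Scr.cons (nat_lit 12) (nat_lit 1) (Step.L (Step.L (Step.L (Step.L (Step.D (nat_lit 2632) Step.done))))) (Scr.cons (nat_lit 12) (nat_lit 1) (Step.F (nat_lit 13639) (Step.D (nat_lit 2632) (Step.F (nat_lit 13640) (Step.B (nat_lit 13639) (Step.D (nat_lit 4834) Step.done))))) (Scr.cons (nat_lit 7) (nat_lit 5) (Step.F (nat_lit 13638) (Step.U (nat_lit 4811)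 (Step.L (Step.L (Step.L (Step.L (Step.L (Step.L (Step.L (Step.L (Step.L (Step.L (Step.L (Step.L (Step.L (Step.L (Step.L (Step.B (nat_lit 13639) (Step.B (nat_lit 13641) (Step.D (nat_lit 7827) Step.done)))))))))))))))))))) Scr.nil))))))))))))))))))))))))))))))))))))))))
noncomputable def s341 : Scr := (Scr.cons (nat_lit 1) (nat_lit 0) (Step.D (nat_lit 2644) (Step.B (nat_lit 8087) (Step.L Step.done))) (Scr.cons (nat_lit 0) (nat_lit 1) (Step.B (nat_lit 389) (Step.B (nat_lit 13643) (Step.L Step.done))) (Scr.cons (nat_lit 1) (nat_lit 1) (Step.B (nat_lit 385) (Step.B (nat_lit 13644) (Step.L Step.done))) (Scr.cons (nat_lit 1) (nat_lit 1) (Step.D (nat_lit 182) (Step.B (nat_lit 13645) (Step.L Step.done))) (Scr.cons (nat_lit 0) (nat_lit 1) (Step.U (nat_lit 181) (Step.B (nat_lit 13646) (Step.L Step.done))) (Scr.cons (nat_lit 1) (nat_lit 1) (Step.B (nat_lit 6477) (Step.B (nat_lit 13647) (Step.D (nat_lit 518) Step.done))) (Scr.cons (nat_lit 1) (nat_lit 1) (Step.U (nat_lit 1279) (Step.F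 (nat_lit 13648) (Step.L Step.done))) (Scr.cons (nat_lit 1) (nat_lit 1) (Step.U (nat_lit 2631) (Step.B (nat_lit 13649) (Step.L Step.done))) (Scr.cons (nat_lit 0) (nat_lit 1) (Step.U (nat_lit 4834) (Step.B (nat_lit 13650) (Step.D (nat_lit 1299) Step.done))) (Scr.cons (nat_lit 1) (nat_lit 0) (Step.U (nat_lit 7827) (Step.B (nat_lit 13651) (Step.D (nat_lit 2663) Step.done))) (Scr.cons (nat_lit 1) (nat_lit 0) (Step.B (nat_lit 13642) (Step.B (nat_lit 13652) (Step.D (nat_lit 4877) Step.done))) (Scr.cons (nat_lit 0) (nat_lit 1) (Step.B (nat_lit 13638) (Step.B (nat_lit 13653) (Step.D (nat_lit 7872) Step.done))) (Scr.cons (nat_lit 0) (nat_lit 1) (Step.D (nat_lit 7872) (Step.F (nat_lit 13654) Step.done)) (Scr.cons (nat_lit 11) (nat_lit 0) (Step.U (nat_lit 4877) (Step.U (nat_lit 2663) (Step.D (nat_lit 2662) (Step.D (nat_lit 4875) (Step.D (nat_lit 7870) Step.done))))) (Scr.cons (nat_lit 12) (nat_lit 1) (Step.U (nat_lit 7868) (Step.F (nat_lit 7716) (Step.D (nat_lit 4874) (Step.D (nat_lit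 7868) (Step.D (nat_lit 10864) Step.done))))) (Scr.cons (nat_lit 12) (nat_lit 1) (Step.U (nat_lit 4837) (Step.F (nat_lit 13640) (Step.D (nat_lit 2632) (Step.D (nat_lit 4837) (Step.D (nat_lit 7829) Step.done))))) (Scr.cons (nat_lit 6) (nat_lit 0) (Step.U (nat_lit 10864) (Step.U (nat_lit 7868) (Step.F (nat_lit 7716) (Step.U (nat_lit 2662) (Step.U (nat_lit 1299) (Step.L (Step.D (nat_lit 2632) (Step.D (nat_lit 4837) (Step.B (nat_lit 13658) (Step.D (nat_lit 10827) (Step.D (nat_lit 11975) Step.done))))))))))) (Scr.cons (nat_lit 14) (nat_lit 5) (Step.U (nat_lit 5804) (Step.L (Step.L (Step.L (Step.L (Step.L (Step.L (Step.L (Step.L (Step.L (Step.L (Step.L (Step.L (Step.L (Step.L (Step.L (Step.L (Step.D (nat_lit 2151) (Step.D (nat_lit 4096) (Step.D (nat_lit 6957) (Step.D (nat_lit 10088) Step.done))))))))))))))))))))) (Scr.cons (nat_lit 11) (nat_lit 0) (Step.U (nat_lit 5804) (Step.L (Step.L (Step.D (nat_lit 5803) (Step.D (nat_lit 8930) Step.done))))) (Scr.cons (nat_lit 1) (nat_lit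 0) (Step.D (nat_lit 10088) (Step.F (nat_lit 13660) (Step.B (nat_lit 13661) Step.done))) (Scr.cons (nat_lit 1) (nat_lit 0) (Step.D (nat_lit 8930) (Step.F (nat_lit 13662) (Step.D (nat_lit 10089) Step.done))) (Scr.cons (nat_lit 1) (nat_lit 0) (Step.D (nat_lit 10089) (Step.F (nat_lit 13663) Step.done)) (Scr.cons (nat_lit 12) (nat_lit 4) (Step.U (nat_lit 2151) (Step.L (Step.L (Step.D (nat_lit 2151) (Step.D (nat_lit 4095) Step.done))))) (Scr.cons (nat_lit 12) (nat_lit 4) (Step.U (nat_lit 4096) (Step.D (nat_lit 4095) (Step.F (nat_lit 13665) (Step.D (nat_lit 4096) (Step.D (nat_lit 6957) Step.done))))) (Scr.cons (nat_lit 16) (nat_lit 3) (Step.U (nat_lit 10865) (Step.U (nat_lit 7868) (Step.F (nat_lit 7716) (Step.D (nat_lit 4875) (Step.D (nat_lit 7869) (Step.F (nat_lit 7719) (Step.U (nat_lit 5689) (Step.L (Step.L (Step.L (Step.L (Step.L (Step.L (Step.L (Step.L (Step.L (Step.L (Step.L (Step.D (nat_lit 5803) (Step.F (nat_lit 13664) (Step.F (nat_lit 13666) (Step.D (nat_lit 6958) (Step.D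 (nat_lit 10090) Step.done))))))))))))))))))))))) (Scr.cons (nat_lit 11) (nat_lit 0) (Step.U (nat_lit 4098) (Step.U (nat_lit 2152) (Step.D (nat_lit 2151) (Step.D (nat_lit 4096) (Step.D (nat_lit 6958) Step.done))))) (Scr.cons (nat_lit 12) (nat_lit 1) (Step.U (nat_lit 2152) (Step.L (Step.L (Step.D (nat_lit 2152) (Step.D (nat_lit 4097) Step.done))))) (Scr.cons (nat_lit 12) (nat_lit 1) (Step.U (nat_lit 4098) (Step.D (nat_lit 4097) (Step.F (nat_lit 13669) (Step.D (nat_lit 4098) (Step.D (nat_lit 6959) Step.done))))) (Scr.cons (nat_lit 12) (nat_lit 1) (Step.F (nat_lit 13668) (Step.D (nat_lit 6959) (Step.F (nat_lit 13670) (Step.B (nat_lit 13668) (Step.D (nat_lit 10090) Step.done))))) (Scr.cons (nat_lit 12) (nat_lit 1) (Step.U (nat_lit 623) (Step.L (Step.L (Step.D (nat_lit 623) (Step.D (nat_lit 1489) Step.done))))) (Scr.cons (nat_lit 7) (nat_lit 1) (Step.F (nat_lit 13659) (Step.U (nat_lit 10864) (Step.D (nat_lit 10865) (Step.B (nat_lit 13667) (Step.F (nat_lit 13671) (Step.U (nat_lit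 6958) (Step.U (nat_lit 4096) (Step.U (nat_lit 2151) (Step.L (Step.L (Step.L (Step.L (Step.L (Step.L (Step.D (nat_lit 623) (Step.B (nat_lit 13672) (Step.D (nat_lit 3010) (Step.D (nat_lit 5417) (Step.D (nat_lit 8486) (Step.D (nat_lit 11341) Step.done)))))))))))))))))))) (Scr.cons (nat_lit 4) (nat_lit 0) (Step.U (nat_lit 11340) (Step.D (nat_lit 11341) (Step.F (nat_lit 13673) (Step.F (nat_lit 13659) (Step.D (nat_lit 11980) Step.done))))) (Scr.cons (nat_lit 1) (nat_lit 0) (Step.D (nat_lit 329) (Step.B (nat_lit 13602) (Step.D (nat_lit 623) Step.done))) (Scr.cons (nat_lit 0) (nat_lit 1) (Step.U (nat_lit 1489) (Step.F (nat_lit 13675) (Step.L Step.done))) (Scr.cons (nat_lit 1) (nat_lit 0) (Step.U (nat_lit 3010) (Step.B (nat_lit 13676) (Step.L Step.done))) (Scr.cons (nat_lit 1) (nat_lit 0) (Step.U (nat_lit 5417) (Step.B (nat_lit 13677) (Step.L Step.done))) (Scr.cons (nat_lit 0) (nat_lit 1) (Step.U (nat_lit 8486) (Step.B (nat_lit 13678) (Step.L Step.done))) (Scr.cons (nat_lit 1)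 (nat_lit 1) (Step.U (nat_lit 11340) (Step.B (nat_lit 13679) (Step.L Step.done))) (Scr.cons (nat_lit 1) (nat_lit 1) (Step.F (nat_lit 13674) (Step.B (nat_lit 13680) (Step.L Step.done))) (Scr.cons (nat_lit 1) (nat_lit 1) (Step.D (nat_lit 11980) (Step.B (nat_lit 13681) (Step.L Step.done))) Scr.nil))))))))))))))))))))))))))))))))))))))))
noncomputable def s342 : Scr := (Scr.cons (nat_lit 0) (nat_lit 1) (Step.B (nat_lit 13657) (Step.B (nat_lit 13682) (Step.L Step.done))) (Scr.cons (nat_lit 1) (nat_lit 1) (Step.D (nat_lit 7868) (Step.B (nat_lit 13683) (Step.L Step.done))) (Scr.cons (nat_lit 0) (nat_lit 1) (Step.B (nat_lit 7716) (Step.B (nat_lit 13684) (Step.L Step.done))) (Scr.cons (nat_lit 1) (nat_lit 1) (Step.U (nat_lit 4875) (Step.B (nat_lit 13685) (Step.L Step.done))) (Scr.cons (nat_lit 1) (nat_lit 1) (Step.U (nat_lit 7870) (Step.B (nat_lit 13686) (Step.D (nat_lit 890) Step.done))) (Scr.cons (nat_lit 1) (nat_lit 1) (Step.B (nat_lit 13656) (Step.B (nat_lit 13687) (Step.D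 (nat_lit 1929) Step.done))) (Scr.cons (nat_lit 0) (nat_lit 1) (Step.F (nat_lit 13655) (Step.B (nat_lit 13688) (Step.D (nat_lit 3743) Step.done))) (Scr.cons (nat_lit 1) (nat_lit 1) (Step.B (nat_lit 13637) (Step.B (nat_lit 13689) (Step.D (nat_lit 6488) Step.done))) (Scr.cons (nat_lit 0) (nat_lit 1) (Step.B (nat_lit 13636) (Step.F (nat_lit 13690) (Step.L Step.done))) (Scr.cons (nat_lit 1) (nat_lit 1) (Step.B (nat_lit 13622) (Step.B (nat_lit 13691) (Step.D (nat_lit 7802) Step.done))) (Scr.cons (nat_lit 1) (nat_lit 1) (Step.D (nat_lit 7802) (Step.F (nat_lit 13692) Step.done)) (Scr.cons (nat_lit 12) (nat_lit 4) (Step.L (Step.L (Step.L (Step.L (Step.D (nat_lit 11793) Step.done))))) (Scr.cons (nat_lit 12) (nat_lit 1) (Step.U (nat_lit 2663) (Step.F (nat_lit 7715) (Step.D (nat_lit 1299) (Step.D (nat_lit 2663) (Step.D (nat_lit 4876) Step.done))))) (Scr.cons (nat_lit 12) (nat_lit 1) (Step.U (nat_lit 7871) (Step.F (nat_lit 13695) (Step.D (nat_lit 4876) (Step.D (nat_lit 7871) (Step.D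 (nat_lit 10868) Step.done))))) (Scr.cons (nat_lit 6) (nat_lit 3) (Step.U (nat_lit 11972) (Step.U (nat_lit 10810) (Step.U (nat_lit 7803) (Step.L (Step.B (nat_lit 13637) (Step.F (nat_lit 13655) (Step.U (nat_lit 4877) (Step.D (nat_lit 4876) (Step.D (nat_lit 7871) (Step.B (nat_lit 13696) (Step.D (nat_lit 11981) Step.done))))))))))) (Scr.cons (nat_lit 1) (nat_lit 0) (Step.D (nat_lit 2662) (Step.B (nat_lit 13685) (Step.L Step.done))) (Scr.cons (nat_lit 1) (nat_lit 0) (Step.U (nat_lit 2663) (Step.B (nat_lit 13698) (Step.L Step.done))) (Scr.cons (nat_lit 0) (nat_lit 1) (Step.U (nat_lit 4876) (Step.B (nat_lit 13699) (Step.L Step.done))) (Scr.cons (nat_lit 1) (nat_lit 0) (Step.U (nat_lit 7871) (Step.B (nat_lit 13700) (Step.L Step.done))) (Scr.cons (nat_lit 0) (nat_lit 1) (Step.U (nat_lit 10868) (Step.B (nat_lit 13701) (Step.L Step.done))) (Scr.cons (nat_lit 1) (nat_lit 1) (Step.U (nat_lit 11981) (Step.B (nat_lit 13702) (Step.L Step.done))) (Scr.cons (nat_lit 0) (nat_lit 1) (Step.B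 (nat_lit 13697) (Step.B (nat_lit 13703) (Step.D (nat_lit 11793) Step.done))) (Scr.cons (nat_lit 1) (nat_lit 0) (Step.D (nat_lit 8478) (Step.B (nat_lit 13691) (Step.D (nat_lit 7803) Step.done))) (Scr.cons (nat_lit 0) (nat_lit 1) (Step.U (nat_lit 10810) (Step.F (nat_lit 13705) (Step.L Step.done))) (Scr.cons (nat_lit 1) (nat_lit 1) (Step.F (nat_lit 13704) (Step.U (nat_lit 11972) (Step.B (nat_lit 13706) (Step.L Step.done)))) (Scr.cons (nat_lit 0) (nat_lit 0) (Step.B (nat_lit 13694) (Step.B (nat_lit 13707) Step.done)) (Scr.cons (nat_lit 12) (nat_lit 4) (Step.U (nat_lit 6902) (Step.F (nat_lit 10865) (Step.D (nat_lit 4050) (Step.D (nat_lit 6902) (Step.D (nat_lit 10035) Step.done))))) (Scr.cons (nat_lit 6) (nat_lit 1) (Step.U (nat_lit 11868) (Step.F (nat_lit 13709) (Step.U (nat_lit 6902) (Step.U (nat_lit 4050) (Step.D (nat_lit 4051) (Step.B (nat_lit 12284) (Step.U (nat_lit 4163) (Step.L (Step.D (nat_lit 7032) (Step.D (nat_lit 10163) (Step.D (nat_lit 11888) Step.done)))))))))))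 (Scr.cons (nat_lit 0) (nat_lit 1) (Step.U (nat_lit 4050) (Step.B (nat_lit 13615) (Step.L Step.done))) (Scr.cons (nat_lit 1) (nat_lit 1) (Step.U (nat_lit 6902) (Step.B (nat_lit 13711) (Step.L Step.done))) (Scr.cons (nat_lit 0) (nat_lit 1) (Step.U (nat_lit 10035) (Step.B (nat_lit 13712) (Step.L Step.done))) (Scr.cons (nat_lit 1) (nat_lit 0) (Step.U (nat_lit 11868) (Step.B (nat_lit 13713) (Step.L Step.done))) (Scr.cons (nat_lit 0) (nat_lit 1) (Step.F (nat_lit 13710) (Step.B (nat_lit 13714) (Step.L Step.done))) (Scr.cons (nat_lit 1) (nat_lit 0) (Step.D (nat_lit 11888) (Step.B (nat_lit 13715) Step.done)) (Scr.cons (nat_lit 0) (nat_lit 1) (Step.U (nat_lit 10163) (Step.F (nat_lit 13620) (Step.L Step.done))) (Scr.cons (nat_lit 1) (nat_lit 0) (Step.F (nat_lit 13716) (Step.B (nat_lit 13717) (Step.D (nat_lit 11800) Step.done))) (Scr.cons (nat_lit 1) (nat_lit 0) (Step.D (nat_lit 11800) (Step.F (nat_lit 13718) Step.done)) (Scr.cons (nat_lit 12) (nat_lit 1) (Step.U (nat_lit 2745) (Step.L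 (Step.L (Step.D (nat_lit 2745) (Step.D (nat_lit 4988) Step.done))))) (Scr.cons (nat_lit 12) (nat_lit 1) (Step.U (nat_lit 4989) (Step.D (nat_lit 4988) (Step.F (nat_lit 13720) (Step.D (nat_lit 4989) (Step.D (nat_lit 7996) Step.done))))) (Scr.cons (nat_lit 13) (nat_lit 0) (Step.U (nat_lit 1963) (Step.L (Step.L (Step.L (Step.L (Step.L (Step.L (Step.L (Step.L (Step.D (nat_lit 1956) (Step.D (nat_lit 3785) Step.done))))))))))) Scr.nil))))))))))))))))))))))))))))))))))))))))
noncomputable def s343 : Scr := (Scr.cons (nat_lit 12) (nat_lit 4) (Step.U (nat_lit 3791) (Step.B (nat_lit 13722) (Step.F (nat_lit 10443) (Step.D (nat_lit 3791) (Step.D (nat_lit 6557) Step.done))))) (Scr.cons (nat_lit 11) (nat_lit 0) (Step.U (nat_lit 3793) (Step.U (nat_lit 1964) (Step.D (nat_lit 1963) (Step.D (nat_lit 3791) (Step.D (nat_lit 6558) Step.done))))) (Scr.cons (nat_lit 12) (nat_lit 1) (Step.U (nat_lit 1964) (Step.L (Step.L (Step.D (nat_lit 1964) (Step.D (nat_lit 3792) Step.done))))) (Scr.cons (nat_lit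 12) (nat_lit 1) (Step.U (nat_lit 3793) (Step.D (nat_lit 3792) (Step.F (nat_lit 13725) (Step.D (nat_lit 3793) (Step.D (nat_lit 6559) Step.done))))) (Scr.cons (nat_lit 12) (nat_lit 1) (Step.F (nat_lit 13724) (Step.D (nat_lit 6559) (Step.F (nat_lit 13726) (Step.B (nat_lit 13724) (Step.D (nat_lit 9710) Step.done))))) (Scr.cons (nat_lit 8) (nat_lit 1) (Step.U (nat_lit 6819) (Step.L (Step.L (Step.L (Step.L (Step.L (Step.L (Step.L (Step.L (Step.L (Step.L (Step.F (nat_lit 10456) (Step.U (nat_lit 6559) (Step.B (nat_lit 13724) (Step.B (nat_lit 13727) (Step.D (nat_lit 11816) Step.done)))))))))))))))) (Scr.cons (nat_lit 1) (nat_lit 1) (Step.D (nat_lit 11816) (Step.F (nat_lit 13728) (Step.D (nat_lit 9975) Step.done))) (Scr.cons (nat_lit 1) (nat_lit 1) (Step.D (nat_lit 9975) (Step.F (nat_lit 13729) Step.done)) (Scr.cons (nat_lit 12) (nat_lit 1) (Step.L (Step.L (Step.L (Step.L (Step.D (nat_lit 6819) Step.done))))) (Scr.cons (nat_lit 11) (nat_lit 0) (Step.U (nat_lit 4989) (Step.U (nat_lit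 2745) (Step.D (nat_lit 2744) (Step.D (nat_lit 4987) (Step.D (nat_lit 7995) Step.done))))) (Scr.cons (nat_lit 12) (nat_lit 1) (Step.F (nat_lit 13732) (Step.D (nat_lit 7996) (Step.F (nat_lit 13721) (Step.B (nat_lit 13732) (Step.D (nat_lit 10967) Step.done))))) (Scr.cons (nat_lit 15) (nat_lit 0) (Step.U (nat_lit 6858) (Step.L (Step.L (Step.L (Step.L (Step.L (Step.L (Step.L (Step.L (Step.L (Step.L (Step.D (nat_lit 1934) (Step.D (nat_lit 3746) (Step.D (nat_lit 6491) (Step.D (nat_lit 9634) Step.done))))))))))))))) (Scr.cons (nat_lit 6) (nat_lit 1) (Step.U (nat_lit 916) (Step.L (Step.L (Step.L (Step.L (Step.L (Step.L (Step.B (nat_lit 9840) (Step.D (nat_lit 339) (Step.D (nat_lit 914) (Step.D (nat_lit 1973) Step.done))))))))))) (Scr.cons (nat_lit 12) (nat_lit 4) (Step.U (nat_lit 339) (Step.F (nat_lit 9840) (Step.D (nat_lit 109) (Step.D (nat_lit 339) (Step.D (nat_lit 914) Step.done))))) (Scr.cons (nat_lit 13) (nat_lit 2) (Step.U (nat_lit 916) (Step.L (Step.L (Step.L (Step.L (Step.L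 (Step.L (Step.D (nat_lit 109) (Step.D (nat_lit 339) (Step.B (nat_lit 13736) (Step.D (nat_lit 1973) Step.done))))))))))) (Scr.cons (nat_lit 12) (nat_lit 1) (Step.U (nat_lit 1976) (Step.B (nat_lit 13735) (Step.F (nat_lit 13737) (Step.D (nat_lit 1976) (Step.D (nat_lit 3809) Step.done))))) (Scr.cons (nat_lit 11) (nat_lit 0) (Step.U (nat_lit 1976) (Step.U (nat_lit 916) (Step.L (Step.L (Step.D (nat_lit 3808) Step.done))))) (Scr.cons (nat_lit 9) (nat_lit 5) (Step.U (nat_lit 3808) (Step.L (Step.L (Step.L (Step.L (Step.L (Step.L (Step.L (Step.L (Step.L (Step.L (Step.L (Step.L (Step.L (Step.L (Step.L (Step.L (Step.L (Step.L (Step.L (Step.L (Step.L (Step.D (nat_lit 6492) Step.done))))))))))))))))))))))) (Scr.cons (nat_lit 12) (nat_lit 0) (Step.B (nat_lit 13740) (Step.U (nat_lit 6492) (Step.L (Step.L (Step.D (nat_lit 6492) Step.done))))) (Scr.cons (nat_lit 12) (nat_lit 4) (Step.L (Step.L (Step.L (Step.L (Step.D (nat_lit 1934) Step.done))))) (Scr.cons (nat_lit 6) (nat_lit 1) (Step.U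 (nat_lit 6580) (Step.F (nat_lit 13738) (Step.B (nat_lit 13739) (Step.B (nat_lit 13741) (Step.U (nat_lit 6492) (Step.L (Step.L (Step.B (nat_lit 13742) (Step.D (nat_lit 3746) (Step.D (nat_lit 6491) (Step.D (nat_lit 9635) Step.done))))))))))) (Scr.cons (nat_lit 12) (nat_lit 4) (Step.U (nat_lit 1345) (Step.L (Step.L (Step.D (nat_lit 1345) (Step.D (nat_lit 2737) Step.done))))) (Scr.cons (nat_lit 6) (nat_lit 1) (Step.U (nat_lit 2740) (Step.F (nat_lit 1940) (Step.U (nat_lit 550) (Step.U (nat_lit 196) (Step.L (Step.L (Step.L (Step.L (Step.D (nat_lit 1345) (Step.D (nat_lit 2737) (Step.D (nat_lit 4978) Step.done))))))))))) (Scr.cons (nat_lit 11) (nat_lit 0) (Step.U (nat_lit 4982) (Step.U (nat_lit 2740) (Step.D (nat_lit 2739) (Step.D (nat_lit 4981) (Step.D (nat_lit 7989) Step.done))))) (Scr.cons (nat_lit 11) (nat_lit 0) (Step.U (nat_lit 207) (Step.U (nat_lit 55) (Step.D (nat_lit 54) (Step.D (nat_lit 205) (Step.D (nat_lit 571) Step.done))))) (Scr.cons (nat_lit 12) (nat_lit 1) (Step.U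 (nat_lit 207) (Step.D (nat_lit 206) (Step.F (nat_lit 10972) (Step.D (nat_lit 207) (Step.D (nat_lit 574) Step.done))))) (Scr.cons (nat_lit 12) (nat_lit 1) (Step.F (nat_lit 13747) (Step.D (nat_lit 574) (Step.F (nat_lit 13748) (Step.B (nat_lit 13747) (Step.D (nat_lit 1390) Step.done))))) (Scr.cons (nat_lit 14) (nat_lit 0) (Step.U (nat_lit 5115) (Step.U (nat_lit 2828) (Step.F (nat_lit 13749) (Step.F (nat_lit 13747) (Step.U (nat_lit 207) (Step.U (nat_lit 55) (Step.U (nat_lit 7) (Step.L (Step.L (Step.L (Step.L (Step.L (Step.D (nat_lit 569) (Step.B (nat_lit 1298) (Step.U (nat_lit 551) (Step.D (nat_lit 550) (Step.D (nat_lit 1346) (Step.D (nat_lit 2739) (Step.D (nat_lit 4981) (Step.D (nat_lit 7989) Step.done)))))))))))))))))))) (Scr.cons (nat_lit 1) (nat_lit 1) (Step.U (nat_lit 205) (Step.B (nat_lit 9867) (Step.L Step.done))) (Scr.cons (nat_lit 1) (nat_lit 1) (Step.U (nat_lit 571) (Step.B (nat_lit 13751) (Step.L Step.done))) (Scr.cons (nat_lit 0) (nat_lit 1) (Step.U (nat_lit 1390)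 (Step.B (nat_lit 13752) (Step.L Step.done))) (Scr.cons (nat_lit 1) (nat_lit 0) (Step.U (nat_lit 2828) (Step.B (nat_lit 13753) (Step.L Step.done))) (Scr.cons (nat_lit 1) (nat_lit 0) (Step.U (nat_lit 5115) (Step.B (nat_lit 13754) (Step.D (nat_lit 90) Step.done))) (Scr.cons (nat_lit 0) (nat_lit 1) (Step.F (nat_lit 13750) (Step.B (nat_lit 13755) (Step.D (nat_lit 294) Step.done))) (Scr.cons (nat_lit 1) (nat_lit 1) (Step.B (nat_lit 13746) (Step.B (nat_lit 13756) (Step.D (nat_lit 800) Step.done))) (Scr.cons (nat_lit 1) (nat_lit 1) (Step.D (nat_lit 4982) (Step.B (nat_lit 13757) (Step.D (nat_lit 1789) Step.done))) (Scr.cons (nat_lit 0) (nat_lit 1) (Step.F (nat_lit 13745) (Step.B (nat_lit 13758) (Step.D (nat_lit 3500) Step.done))) (Scr.cons (nat_lit 1) (nat_lit 1) (Step.D (nat_lit 4978) (Step.B (nat_lit 13759) (Step.D (nat_lit 6123) Step.done))) (Scr.cons (nat_lit 1) (nat_lit 1) (Step.D (nat_lit 6123) (Step.F (nat_lit 13760) Step.done)) (Scr.cons (nat_lit 1) (nat_lit 1) (Step.D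 (nat_lit 2740) (Step.B (nat_lit 13758) (Step.D (nat_lit 3501) Step.done))) Scr.nil))))))))))))))))))))))))))))))))))))))))
noncomputable def s344 : Scr := (Scr.cons (nat_lit 11) (nat_lit 0) (Step.U (nat_lit 1791) (Step.U (nat_lit 801) (Step.D (nat_lit 800) (Step.D (nat_lit 1789) (Step.D (nat_lit 3501) Step.done))))) (Scr.cons (nat_lit 12) (nat_lit 1) (Step.U (nat_lit 90) (Step.L (Step.L (Step.D (nat_lit 90) (Step.D (nat_lit 294) Step.done))))) (Scr.cons (nat_lit 12) (nat_lit 1) (Step.U (nat_lit 801) (Step.F (nat_lit 13764) (Step.D (nat_lit 294) (Step.D (nat_lit 801) (Step.D (nat_lit 1790) Step.done))))) (Scr.cons (nat_lit 12) (nat_lit 1) (Step.U (nat_lit 1791) (Step.D (nat_lit 1790) (Step.F (nat_lit 13765) (Step.D (nat_lit 1791) (Step.D (nat_lit 3502) Step.done))))) (Scr.cons (nat_lit 12) (nat_lit 1) (Step.F (nat_lit 13763) (Step.D (nat_lit 3502) (Step.F (nat_lit 13766) (Step.B (nat_lit 13763) (Step.D (nat_lit 6124) Step.done))))) (Scr.cons (nat_lit 12) (nat_lit 1) (Step.F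 (nat_lit 9846) (Step.D (nat_lit 6115) (Step.F (nat_lit 9850) (Step.B (nat_lit 9846) (Step.D (nat_lit 9270) Step.done))))) (Scr.cons (nat_lit 7) (nat_lit 5) (Step.F (nat_lit 13768) (Step.U (nat_lit 6114) (Step.U (nat_lit 3488) (Step.U (nat_lit 1779) (Step.U (nat_lit 793) (Step.U (nat_lit 290) (Step.U (nat_lit 88) (Step.F (nat_lit 9572) (Step.L (Step.L (Step.L (Step.L (Step.L (Step.D (nat_lit 90) (Step.D (nat_lit 294) (Step.D (nat_lit 801) (Step.D (nat_lit 1791) (Step.B (nat_lit 13763) (Step.B (nat_lit 13767) (Step.D (nat_lit 9281) Step.done)))))))))))))))))))) (Scr.cons (nat_lit 0) (nat_lit 1) (Step.U (nat_lit 9270) (Step.B (nat_lit 9858) (Step.D (nat_lit 3786) Step.done))) (Scr.cons (nat_lit 1) (nat_lit 1) (Step.F (nat_lit 13769) (Step.B (nat_lit 13770) (Step.D (nat_lit 6548) Step.done))) (Scr.cons (nat_lit 1) (nat_lit 1) (Step.D (nat_lit 9281) (Step.B (nat_lit 13771) (Step.D (nat_lit 9694) Step.done))) (Scr.cons (nat_lit 1) (nat_lit 1) (Step.D (nat_lit 9694) (Step.F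 (nat_lit 13772) Step.done)) (Scr.cons (nat_lit 1) (nat_lit 1) (Step.F (nat_lit 13773) (Step.B (nat_lit 9844) (Step.L Step.done))) (Scr.cons (nat_lit 0) (nat_lit 1) (Step.B (nat_lit 13762) (Step.B (nat_lit 13767) (Step.B (nat_lit 13774) (Step.L Step.done)))) (Scr.cons (nat_lit 1) (nat_lit 0) (Step.D (nat_lit 3501) (Step.F (nat_lit 13762) (Step.B (nat_lit 13775) (Step.L Step.done)))) (Scr.cons (nat_lit 0) (nat_lit 1) (Step.U (nat_lit 3500) (Step.B (nat_lit 13776) (Step.L Step.done))) (Scr.cons (nat_lit 1) (nat_lit 1) (Step.F (nat_lit 13761) (Step.B (nat_lit 13777) (Step.L Step.done))) (Scr.cons (nat_lit 0) (nat_lit 1) (Step.B (nat_lit 13744) (Step.B (nat_lit 13778) (Step.L Step.done))) (Scr.cons (nat_lit 1) (nat_lit 0) (Step.D (nat_lit 1345) (Step.B (nat_lit 13779) (Step.D (nat_lit 916) Step.done))) (Scr.cons (nat_lit 1) (nat_lit 0) (Step.U (nat_lit 1976) (Step.F (nat_lit 13780) (Step.L Step.done))) (Scr.cons (nat_lit 0) (nat_lit 1) (Step.U (nat_lit 3809) (Step.B (nat_lit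 13781) (Step.L Step.done))) (Scr.cons (nat_lit 1) (nat_lit 0) (Step.U (nat_lit 6580) (Step.B (nat_lit 13782) (Step.D (nat_lit 4979) Step.done))) (Scr.cons (nat_lit 8) (nat_lit 1) (Step.U (nat_lit 2744) (Step.L (Step.L (Step.L (Step.L (Step.L (Step.L (Step.L (Step.L (Step.L (Step.L (Step.L (Step.L (Step.L (Step.D (nat_lit 4979) Step.done))))))))))))))) (Scr.cons (nat_lit 12) (nat_lit 0) (Step.B (nat_lit 13784) (Step.U (nat_lit 4979) (Step.L (Step.L (Step.D (nat_lit 4979) Step.done))))) (Scr.cons (nat_lit 0) (nat_lit 1) (Step.F (nat_lit 13743) (Step.B (nat_lit 13783) (Step.F (nat_lit 13785) Step.done))) (Scr.cons (nat_lit 1) (nat_lit 1) (Step.D (nat_lit 9635) (Step.B (nat_lit 13786) (Step.D (nat_lit 4987) Step.done))) (Scr.cons (nat_lit 1) (nat_lit 1) (Step.U (nat_lit 9634) (Step.B (nat_lit 13787) (Step.D (nat_lit 7995) Step.done))) (Scr.cons (nat_lit 0) (nat_lit 1) (Step.B (nat_lit 13734) (Step.B (nat_lit 13788) (Step.D (nat_lit 10967) Step.done))) (Scr.cons (nat_lit 0)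 (nat_lit 0) (Step.B (nat_lit 13733) (Step.F (nat_lit 13789) Step.done)) (Scr.cons (nat_lit 13) (nat_lit 2) (Step.F (nat_lit 13723) (Step.D (nat_lit 6558) (Step.B (nat_lit 13727) (Step.F (nat_lit 13730) (Step.F (nat_lit 13731) (Step.L (Step.L (Step.D (nat_lit 6858) (Step.F (nat_lit 13790) (Step.F (nat_lit 13732) (Step.B (nat_lit 13721) (Step.D (nat_lit 10969) Step.done)))))))))))) (Scr.cons (nat_lit 1) (nat_lit 1) (Step.D (nat_lit 10969) (Step.F (nat_lit 13791) (Step.D (nat_lit 9708) Step.done))) (Scr.cons (nat_lit 1) (nat_lit 1) (Step.D (nat_lit 9708) (Step.F (nat_lit 13792) Step.done)) (Scr.cons (nat_lit 11) (nat_lit 0) (Step.U (nat_lit 11815) (Step.U (nat_lit 9709) (Step.B (nat_lit 13793) (Step.D (nat_lit 10968) (Step.D (nat_lit 11996) Step.done))))) (Scr.cons (nat_lit 13) (nat_lit 3) (Step.U (nat_lit 624) (Step.L (Step.L (Step.L (Step.L (Step.L (Step.L (Step.L (Step.L (Step.L (Step.D (nat_lit 1492) Step.done))))))))))) (Scr.cons (nat_lit 12) (nat_lit 4) (Step.U (nat_lit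 1494) (Step.F (nat_lit 52) (Step.D (nat_lit 624) (Step.D (nat_lit 1494) (Step.D (nat_lit 3016) Step.done))))) (Scr.cons (nat_lit 12) (nat_lit 4) (Step.U (nat_lit 3017) (Step.D (nat_lit 3016) (Step.F (nat_lit 13796) (Step.D (nat_lit 3017) (Step.D (nat_lit 5429) Step.done))))) (Scr.cons (nat_lit 14) (nat_lit 3) (Step.F (nat_lit 13794) (Step.U (nat_lit 11815) (Step.U (nat_lit 9709) (Step.U (nat_lit 6557) (Step.D (nat_lit 6558) (Step.F (nat_lit 13724) (Step.D (nat_lit 6559) (Step.B (nat_lit 10456) (Step.L (Step.L (Step.L (Step.L (Step.L (Step.D (nat_lit 1492) (Step.F (nat_lit 13795) (Step.D (nat_lit 1494) (Step.D (nat_lit 3017) (Step.B (nat_lit 13797) (Step.D (nat_lit 8508) (Step.D (nat_lit 11355) Step.done)))))))))))))))))))) (Scr.cons (nat_lit 12) (nat_lit 1) (Step.U (nat_lit 10031) (Step.F (nat_lit 13569) (Step.D (nat_lit 6898) (Step.D (nat_lit 10031) (Step.D (nat_lit 11865) Step.done))))) (Scr.cons (nat_lit 0) (nat_lit 1) (Step.B (nat_lit 13799) (Step.B (nat_lit 13609)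 (Step.L Step.done))) (Scr.cons (nat_lit 1) (nat_lit 1) (Step.D (nat_lit 10031) (Step.B (nat_lit 13800) (Step.L Step.done))) (Scr.cons (nat_lit 0) (nat_lit 1) (Step.B (nat_lit 13569) (Step.B (nat_lit 13801) (Step.L Step.done))) Scr.nil))))))))))))))))))))))))))))))))))))))))
noncomputable def s345 : Scr := (Scr.cons (nat_lit 1) (nat_lit 0) (Step.D (nat_lit 4047) (Step.B (nat_lit 13802) (Step.L Step.done))) (Scr.cons (nat_lit 0) (nat_lit 1) (Step.B (nat_lit 13568) (Step.B (nat_lit 13803) (Step.D (nat_lit 1492) Step.done))) (Scr.cons (nat_lit 1) (nat_lit 1) (Step.B (nat_lit 13795) (Step.F (nat_lit 13804) (Step.L Step.done))) (Scr.cons (nat_lit 1) (nat_lit 1) (Step.U (nat_lit 1494) (Step.B (nat_lit 13805) (Step.L Step.done))) (Scr.cons (nat_lit 1) (nat_lit 1) (Step.U (nat_lit 3017) (Step.B (nat_lit 13806) (Step.L Step.done))) (Scr.cons (nat_lit 0) (nat_lit 1) (Step.U (nat_lit 5429) (Step.B (nat_lit 13807) (Step.L Step.done))) (Scr.cons (nat_lit 1) (nat_lit 1) (Step.U (nat_lit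 8508) (Step.B (nat_lit 13808) (Step.L Step.done))) (Scr.cons (nat_lit 1) (nat_lit 1) (Step.U (nat_lit 11355) (Step.B (nat_lit 13809) (Step.L Step.done))) (Scr.cons (nat_lit 0) (nat_lit 1) (Step.B (nat_lit 13798) (Step.B (nat_lit 13810) (Step.L Step.done))) (Scr.cons (nat_lit 1) (nat_lit 0) (Step.D (nat_lit 11996) (Step.B (nat_lit 13811) (Step.L Step.done))) (Scr.cons (nat_lit 1) (nat_lit 0) (Step.D (nat_lit 10968) (Step.B (nat_lit 13812) (Step.L Step.done))) (Scr.cons (nat_lit 0) (nat_lit 1) (Step.B (nat_lit 13721) (Step.B (nat_lit 13813) (Step.L Step.done))) (Scr.cons (nat_lit 1) (nat_lit 1) (Step.D (nat_lit 4989) (Step.B (nat_lit 13814) (Step.L Step.done))) (Scr.cons (nat_lit 1) (nat_lit 1) (Step.D (nat_lit 2745) (Step.B (nat_lit 13815) (Step.D (nat_lit 4041) Step.done))) (Scr.cons (nat_lit 1) (nat_lit 1) (Step.D (nat_lit 4041) (Step.F (nat_lit 13816) Step.done)) (Scr.cons (nat_lit 0) (nat_lit 1) (Step.D (nat_lit 10967) (Step.F (nat_lit 13789) Step.done)) (Scr.cons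 (nat_lit 1) (nat_lit 0) (Step.F (nat_lit 13732) (Step.B (nat_lit 13814) (Step.L Step.done))) (Scr.cons (nat_lit 0) (nat_lit 1) (Step.F (nat_lit 13818) (Step.B (nat_lit 13819) (Step.L Step.done))) (Scr.cons (nat_lit 1) (nat_lit 0) (Step.D (nat_lit 6858) (Step.B (nat_lit 13820) Step.done)) (Scr.cons (nat_lit 12) (nat_lit 4) (Step.U (nat_lit 2865) (Step.F (nat_lit 12450) (Step.D (nat_lit 1412) (Step.D (nat_lit 2865) (Step.D (nat_lit 5167) Step.done))))) (Scr.cons (nat_lit 12) (nat_lit 4) (Step.U (nat_lit 5168) (Step.D (nat_lit 5167) (Step.F (nat_lit 13822) (Step.D (nat_lit 5168) (Step.D (nat_lit 8182) Step.done))))) (Scr.cons (nat_lit 12) (nat_lit 4) (Step.U (nat_lit 2603) (Step.F (nat_lit 375) (Step.D (nat_lit 1266) (Step.D (nat_lit 2603) (Step.D (nat_lit 4792) Step.done))))) (Scr.cons (nat_lit 12) (nat_lit 4) (Step.U (nat_lit 7770) (Step.F (nat_lit 13824) (Step.D (nat_lit 4792) (Step.D (nat_lit 7770) (Step.D (nat_lit 10780) Step.done))))) (Scr.cons (nat_lit 12) (nat_lit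 4) (Step.U (nat_lit 10781) (Step.D (nat_lit 10780) (Step.F (nat_lit 13825) (Step.D (nat_lit 10781) (Step.D (nat_lit 11968) Step.done))))) (Scr.cons (nat_lit 12) (nat_lit 4) (Step.L (Step.L (Step.L (Step.L (Step.D (nat_lit 2602) Step.done))))) (Scr.cons (nat_lit 13) (nat_lit 3) (Step.U (nat_lit 4792) (Step.U (nat_lit 2603) (Step.F (nat_lit 375) (Step.L (Step.L (Step.L (Step.L (Step.L (Step.B (nat_lit 13827) (Step.D (nat_lit 4790) (Step.D (nat_lit 7767) Step.done))))))))))) (Scr.cons (nat_lit 11) (nat_lit 0) (Step.U (nat_lit 7768) (Step.U (nat_lit 4790) (Step.D (nat_lit 4789) (Step.D (nat_lit 7766) (Step.D (nat_lit 10776) Step.done))))) (Scr.cons (nat_lit 12) (nat_lit 1) (Step.U (nat_lit 4790) (Step.F (nat_lit 13827) (Step.D (nat_lit 2602) (Step.D (nat_lit 4790) (Step.D (nat_lit 7767) Step.done))))) (Scr.cons (nat_lit 12) (nat_lit 1) (Step.U (nat_lit 7768) (Step.D (nat_lit 7767) (Step.F (nat_lit 13830) (Step.D (nat_lit 7768) (Step.D (nat_lit 10777) Step.done))))) (Scr.cons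 (nat_lit 12) (nat_lit 1) (Step.F (nat_lit 13829) (Step.D (nat_lit 10777) (Step.F (nat_lit 13831) (Step.B (nat_lit 13829) (Step.D (nat_lit 11966) Step.done))))) (Scr.cons (nat_lit 7) (nat_lit 4) (Step.U (nat_lit 10909) (Step.F (nat_lit 12468) (Step.L (Step.L (Step.L (Step.L (Step.L (Step.L (Step.L (Step.L (Step.L (Step.L (Step.L (Step.L (Step.L (Step.D (nat_lit 2602) (Step.D (nat_lit 4790) (Step.D (nat_lit 7768) (Step.B (nat_lit 13829) (Step.B (nat_lit 13832) Step.done)))))))))))))))))))) (Scr.cons (nat_lit 0) (nat_lit 0) (Step.B (nat_lit 12452) (Step.B (nat_lit 12465) Step.done)) (Scr.cons (nat_lit 11) (nat_lit 0) (Step.U (nat_lit 5170) (Step.U (nat_lit 2866) (Step.D (nat_lit 2865) (Step.D (nat_lit 5168) (Step.D (nat_lit 8183) Step.done))))) (Scr.cons (nat_lit 7) (nat_lit 5) (Step.F (nat_lit 13826) (Step.U (nat_lit 10781) (Step.U (nat_lit 7770) (Step.B (nat_lit 13828) (Step.U (nat_lit 7767) (Step.D (nat_lit 7768) (Step.B (nat_lit 13829) (Step.D (nat_lit 11966) (Step.F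 (nat_lit 13833) (Step.U (nat_lit 10909) (Step.D (nat_lit 10910) (Step.F (nat_lit 12469) (Step.U (nat_lit 10429) (Step.U (nat_lit 7365) (Step.F (nat_lit 13834) (Step.D (nat_lit 5170) (Step.B (nat_lit 13835) (Step.U (nat_lit 8183) (Step.B (nat_lit 13823) (Step.D (nat_lit 11151) Step.done)))))))))))))))))))) (Scr.cons (nat_lit 12) (nat_lit 4) (Step.L (Step.L (Step.L (Step.L (Step.D (nat_lit 2954) Step.done))))) (Scr.cons (nat_lit 12) (nat_lit 1) (Step.U (nat_lit 5321) (Step.F (nat_lit 13837) (Step.D (nat_lit 2954) (Step.D (nat_lit 5321) (Step.D (nat_lit 8366) Step.done))))) (Scr.cons (nat_lit 13) (nat_lit 3) (Step.U (nat_lit 5329) (Step.U (nat_lit 2957) (Step.F (nat_lit 8247) (Step.L (Step.L (Step.L (Step.L (Step.L (Step.B (nat_lit 13837) (Step.D (nat_lit 5321) (Step.D (nat_lit 8366) Step.done))))))))))) (Scr.cons (nat_lit 11) (nat_lit 0) (Step.L (Step.L (Step.L (Step.L (Step.D (nat_lit 3015) Step.done))))) (Scr.cons (nat_lit 12) (nat_lit 1) (Step.F (nat_lit 13840) (Step.L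 (Step.L (Step.B (nat_lit 13840) (Step.D (nat_lit 5428) Step.done))))) (Scr.cons (nat_lit 11) (nat_lit 0) (Step.U (nat_lit 623) (Step.L (Step.L (Step.L (Step.D (nat_lit 1488) Step.done))))) Scr.nil))))))))))))))))))))))))))))))))))))))))
noncomputable def s346 : Scr := (Scr.cons (nat_lit 12) (nat_lit 1) (Step.F (nat_lit 13842) (Step.D (nat_lit 1489) (Step.F (nat_lit 13672) (Step.B (nat_lit 13842) (Step.D (nat_lit 3008) Step.done))))) (Scr.cons (nat_lit 7) (nat_lit 5) (Step.F (nat_lit 13841) (Step.U (nat_lit 3015) (Step.L (Step.L (Step.L (Step.L (Step.L (Step.L (Step.L (Step.L (Step.L (Step.L (Step.L (Step.L (Step.L (Step.L (Step.D (nat_lit 623) (Step.B (nat_lit 13842) (Step.B (nat_lit 13843) (Step.D (nat_lit 5415) Step.done)))))))))))))))))))) (Scr.cons (nat_lit 4) (nat_lit 0) (Step.U (nat_lit 8484) (Step.U (nat_lit 5414) (Step.D (nat_lit 5415) (Step.F (nat_lit 13844) (Step.D (nat_lit 8505) Step.done))))) (Scr.cons (nat_lit 0) (nat_lit 1) (Step.D (nat_lit 5331) (Step.F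 (nat_lit 8304) Step.done)) (Scr.cons (nat_lit 14) (nat_lit 6) (Step.U (nat_lit 11338) (Step.B (nat_lit 13845) (Step.U (nat_lit 8505) (Step.F (nat_lit 13841) (Step.F (nat_lit 13840) (Step.L (Step.L (Step.L (Step.L (Step.L (Step.L (Step.L (Step.L (Step.D (nat_lit 3019) (Step.F (nat_lit 13846) (Step.U (nat_lit 2958) (Step.D (nat_lit 2957) (Step.D (nat_lit 5329) (Step.D (nat_lit 8379) (Step.D (nat_lit 11274) Step.done)))))))))))))))))))) (Scr.cons (nat_lit 11) (nat_lit 0) (Step.U (nat_lit 11266) (Step.F (nat_lit 13839) (Step.D (nat_lit 8379) (Step.D (nat_lit 11274) (Step.F (nat_lit 13847) Step.done))))) (Scr.cons (nat_lit 1) (nat_lit 0) (Step.F (nat_lit 13842) (Step.F (nat_lit 13675) (Step.L Step.done))) (Scr.cons (nat_lit 0) (nat_lit 1) (Step.U (nat_lit 3008) (Step.B (nat_lit 13849) (Step.L Step.done))) (Scr.cons (nat_lit 1) (nat_lit 1) (Step.U (nat_lit 5414) (Step.B (nat_lit 13850) (Step.L Step.done))) (Scr.cons (nat_lit 1) (nat_lit 1) (Step.U (nat_lit 8484) (Step.B (nat_lit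 13851) (Step.L Step.done))) (Scr.cons (nat_lit 0) (nat_lit 1) (Step.U (nat_lit 11338) (Step.B (nat_lit 13852) (Step.L Step.done))) (Scr.cons (nat_lit 1) (nat_lit 1) (Step.B (nat_lit 13848) (Step.B (nat_lit 13853) (Step.L Step.done))) (Scr.cons (nat_lit 1) (nat_lit 1) (Step.D (nat_lit 11266) (Step.B (nat_lit 13854) (Step.L Step.done))) (Scr.cons (nat_lit 0) (nat_lit 1) (Step.B (nat_lit 13838) (Step.B (nat_lit 13855) (Step.L Step.done))) (Scr.cons (nat_lit 1) (nat_lit 1) (Step.D (nat_lit 5321) (Step.B (nat_lit 13856) (Step.L Step.done))) (Scr.cons (nat_lit 0) (nat_lit 1) (Step.B (nat_lit 13837) (Step.B (nat_lit 13857) (Step.D (nat_lit 2602) Step.done))) (Scr.cons (nat_lit 1) (nat_lit 0) (Step.U (nat_lit 4790) (Step.F (nat_lit 13858) (Step.L Step.done))) (Scr.cons (nat_lit 0) (nat_lit 1) (Step.U (nat_lit 7767) (Step.B (nat_lit 13859) (Step.L Step.done))) (Scr.cons (nat_lit 1) (nat_lit 1) (Step.B (nat_lit 13828) (Step.B (nat_lit 13860) (Step.L Step.done))) (Scr.cons (nat_lit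 1) (nat_lit 1) (Step.U (nat_lit 7770) (Step.B (nat_lit 13861) (Step.L Step.done))) (Scr.cons (nat_lit 1) (nat_lit 1) (Step.U (nat_lit 10781) (Step.B (nat_lit 13862) (Step.L Step.done))) (Scr.cons (nat_lit 0) (nat_lit 1) (Step.U (nat_lit 11968) (Step.B (nat_lit 13863) (Step.L Step.done))) (Scr.cons (nat_lit 1) (nat_lit 1) (Step.F (nat_lit 13836) (Step.B (nat_lit 13864) (Step.L Step.done))) (Scr.cons (nat_lit 1) (nat_lit 1) (Step.D (nat_lit 11151) (Step.B (nat_lit 13865) (Step.L Step.done))) (Scr.cons (nat_lit 0) (nat_lit 1) (Step.B (nat_lit 13823) (Step.B (nat_lit 13866) (Step.L Step.done))) (Scr.cons (nat_lit 1) (nat_lit 0) (Step.D (nat_lit 5168) (Step.B (nat_lit 13867) (Step.L Step.done))) (Scr.cons (nat_lit 1) (nat_lit 0) (Step.D (nat_lit 2865) (Step.B (nat_lit 13868) (Step.L Step.done))) (Scr.cons (nat_lit 0) (nat_lit 1) (Step.B (nat_lit 12450) (Step.B (nat_lit 13869) (Step.L Step.done))) (Scr.cons (nat_lit 1) (nat_lit 1) (Step.D (nat_lit 586) (Step.B (nat_lit 13870)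 (Step.D (nat_lit 610) Step.done))) (Scr.cons (nat_lit 1) (nat_lit 1) (Step.D (nat_lit 610) (Step.F (nat_lit 13871) Step.done)) (Scr.cons (nat_lit 12) (nat_lit 1) (Step.U (nat_lit 9911) (Step.L (Step.L (Step.D (nat_lit 9911) (Step.D (nat_lit 11850) Step.done))))) (Scr.cons (nat_lit 11) (nat_lit 0) (Step.U (nat_lit 115) (Step.U (nat_lit 30) (Step.L (Step.D (nat_lit 114) (Step.D (nat_lit 354) Step.done))))) (Scr.cons (nat_lit 12) (nat_lit 1) (Step.U (nat_lit 115) (Step.F (nat_lit 10646) (Step.F (nat_lit 10644) (Step.D (nat_lit 115) (Step.D (nat_lit 355) Step.done))))) (Scr.cons (nat_lit 12) (nat_lit 1) (Step.F (nat_lit 13874) (Step.D (nat_lit 355) (Step.F (nat_lit 13875) (Step.B (nat_lit 13874) (Step.D (nat_lit 947) Step.done))))) (Scr.cons (nat_lit 14) (nat_lit 6) (Step.U (nat_lit 11850) (Step.U (nat_lit 9911) (Step.L (Step.L (Step.L (Step.L (Step.L (Step.L (Step.L (Step.L (Step.L (Step.L (Step.D (nat_lit 114) (Step.D (nat_lit 354) (Step.B (nat_lit 13876) (Step.D (nat_lit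 2044) (Step.D (nat_lit 3930) (Step.D (nat_lit 6745) (Step.D (nat_lit 9913) (Step.D (nat_lit 11851) Step.done)))))))))))))))))))) (Scr.cons (nat_lit 12) (nat_lit 4) (Step.U (nat_lit 2775) (Step.L (Step.L (Step.D (nat_lit 2775) (Step.D (nat_lit 5046) Step.done))))) (Scr.cons (nat_lit 6) (nat_lit 3) (Step.U (nat_lit 5035) (Step.U (nat_lit 2766) (Step.U (nat_lit 1357) (Step.F (nat_lit 8670) (Step.L (Step.L (Step.D (nat_lit 297) (Step.D (nat_lit 806) (Step.D (nat_lit 1798) (Step.B (nat_lit 9782) (Step.D (nat_lit 6144) Step.done))))))))))) (Scr.cons (nat_lit 12) (nat_lit 1) (Step.U (nat_lit 842) (Step.F (nat_lit 2816) (Step.D (nat_lit 310) (Step.D (nat_lit 842) (Step.D (nat_lit 1848) Step.done))))) (Scr.cons (nat_lit 12) (nat_lit 4) (Step.U (nat_lit 3599) (Step.F (nat_lit 13880) (Step.D (nat_lit 1848) (Step.D (nat_lit 3599) (Step.D (nat_lit 6297) Step.done))))) (Scr.cons (nat_lit 12) (nat_lit 1) (Step.U (nat_lit 1086) (Step.D (nat_lit 1085) (Step.F (nat_lit 2217) (Step.D (nat_lit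 1086) (Step.D (nat_lit 2282) Step.done))))) Scr.nil))))))))))))))))))))))))))))))))))))))))
noncomputable def s347 : Scr := (Scr.cons (nat_lit 13) (nat_lit 3) (Step.U (nat_lit 6297) (Step.U (nat_lit 3599) (Step.F (nat_lit 13880) (Step.U (nat_lit 842) (Step.U (nat_lit 310) (Step.D (nat_lit 311) (Step.D (nat_lit 843) (Step.B (nat_lit 2821) (Step.B (nat_lit 13882) (Step.D (nat_lit 4282) (Step.D (nat_lit 7179) Step.done))))))))))) (Scr.cons (nat_lit 0) (nat_lit 1) (Step.U (nat_lit 2282) (Step.F (nat_lit 9786) (Step.D (nat_lit 555) Step.done))) (Scr.cons (nat_lit 1) (nat_lit 0) (Step.U (nat_lit 4282) (Step.B (nat_lit 13884) (Step.D (nat_lit 1357) Step.done))) (Scr.cons (nat_lit 0) (nat_lit 1) (Step.U (nat_lit 7179) (Step.B (nat_lit 13885) (Step.D (nat_lit 2766) Step.done))) (Scr.cons (nat_lit 1) (nat_lit 1) (Step.B (nat_lit 13883) (Step.B (nat_lit 13886) (Step.D (nat_lit 5035) Step.done))) (Scr.cons (nat_lit 13) (nat_lit 0) (Step.U (nat_lit 5035) (Step.F (nat_lit 8671) (Step.U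 (nat_lit 1357) (Step.U (nat_lit 555) (Step.L (Step.L (Step.D (nat_lit 297) (Step.B (nat_lit 9781) (Step.D (nat_lit 1798) (Step.D (nat_lit 3512) (Step.D (nat_lit 6144) Step.done))))))))))) (Scr.cons (nat_lit 0) (nat_lit 1) (Step.B (nat_lit 13881) (Step.B (nat_lit 13887) (Step.B (nat_lit 13888) Step.done))) (Scr.cons (nat_lit 0) (nat_lit 0) (Step.B (nat_lit 13879) (Step.F (nat_lit 13889) Step.done)) (Scr.cons (nat_lit 12) (nat_lit 4) (Step.U (nat_lit 841) (Step.F (nat_lit 2816) (Step.D (nat_lit 310) (Step.D (nat_lit 841) (Step.D (nat_lit 1846) Step.done))))) (Scr.cons (nat_lit 12) (nat_lit 4) (Step.L (Step.L (Step.L (Step.L (Step.D (nat_lit 838) Step.done))))) (Scr.cons (nat_lit 13) (nat_lit 3) (Step.U (nat_lit 1846) (Step.U (nat_lit 841) (Step.F (nat_lit 2816) (Step.L (Step.L (Step.L (Step.L (Step.L (Step.B (nat_lit 13892) (Step.D (nat_lit 1842) (Step.D (nat_lit 3590) Step.done))))))))))) (Scr.cons (nat_lit 11) (nat_lit 0) (Step.U (nat_lit 90) (Step.L (Step.L (Step.L (Step.D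 (nat_lit 293) Step.done))))) (Scr.cons (nat_lit 12) (nat_lit 1) (Step.F (nat_lit 13894) (Step.D (nat_lit 294) (Step.F (nat_lit 13764) (Step.B (nat_lit 13894) (Step.D (nat_lit 799) Step.done))))) (Scr.cons (nat_lit 7) (nat_lit 2) (Step.U (nat_lit 6120) (Step.U (nat_lit 3497) (Step.U (nat_lit 1787) (Step.F (nat_lit 13895) (Step.U (nat_lit 293) (Step.L (Step.L (Step.L (Step.L (Step.L (Step.L (Step.L (Step.L (Step.B (nat_lit 9796) (Step.B (nat_lit 9797) (Step.B (nat_lit 9794) (Step.U (nat_lit 1847) (Step.D (nat_lit 1846) (Step.B (nat_lit 13893) (Step.D (nat_lit 6286) Step.done)))))))))))))))))))) (Scr.cons (nat_lit 11) (nat_lit 0) (Step.U (nat_lit 3499) (Step.U (nat_lit 1788) (Step.D (nat_lit 1787) (Step.D (nat_lit 3497) (Step.D (nat_lit 6121) Step.done))))) (Scr.cons (nat_lit 12) (nat_lit 1) (Step.U (nat_lit 1788) (Step.F (nat_lit 13895) (Step.D (nat_lit 799) (Step.D (nat_lit 1788) (Step.D (nat_lit 3498) Step.done))))) (Scr.cons (nat_lit 12) (nat_lit 1) (Step.U (nat_lit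 3499) (Step.D (nat_lit 3498) (Step.F (nat_lit 13898) (Step.D (nat_lit 3499) (Step.D (nat_lit 6122) Step.done))))) (Scr.cons (nat_lit 12) (nat_lit 1) (Step.F (nat_lit 13897) (Step.D (nat_lit 6122) (Step.F (nat_lit 13899) (Step.B (nat_lit 13897) (Step.D (nat_lit 9278) Step.done))))) (Scr.cons (nat_lit 11) (nat_lit 0) (Step.U (nat_lit 6196) (Step.L (Step.L (Step.D (nat_lit 6194) (Step.D (nat_lit 9370) Step.done))))) (Scr.cons (nat_lit 12) (nat_lit 1) (Step.L (Step.L (Step.L (Step.L (Step.D (nat_lit 6195) Step.done))))) (Scr.cons (nat_lit 12) (nat_lit 1) (Step.U (nat_lit 6196) (Step.D (nat_lit 6195) (Step.F (nat_lit 13902) (Step.D (nat_lit 6196) (Step.D (nat_lit 9371) Step.done))))) (Scr.cons (nat_lit 12) (nat_lit 1) (Step.F (nat_lit 13901) (Step.D (nat_lit 9371) (Step.F (nat_lit 13903) (Step.B (nat_lit 13901) (Step.D (nat_lit 11712) Step.done))))) (Scr.cons (nat_lit 14) (nat_lit 2) (Step.F (nat_lit 13904) (Step.F (nat_lit 13901) (Step.U (nat_lit 6196) (Step.L (Step.L (Step.L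 (Step.L (Step.L (Step.L (Step.L (Step.L (Step.L (Step.L (Step.D (nat_lit 293) (Step.D (nat_lit 799) (Step.D (nat_lit 1787) (Step.D (nat_lit 3497) (Step.D (nat_lit 6121) (Step.B (nat_lit 13900) (Step.D (nat_lit 11676) Step.done)))))))))))))))))))) (Scr.cons (nat_lit 1) (nat_lit 1) (Step.U (nat_lit 9370) (Step.F (nat_lit 9682) (Step.D (nat_lit 4161) Step.done))) (Scr.cons (nat_lit 0) (nat_lit 1) (Step.U (nat_lit 11712) (Step.B (nat_lit 13906) (Step.D (nat_lit 7028) Step.done))) (Scr.cons (nat_lit 1) (nat_lit 0) (Step.F (nat_lit 13905) (Step.B (nat_lit 13907) (Step.D (nat_lit 10161) Step.done))) (Scr.cons (nat_lit 1) (nat_lit 1) (Step.D (nat_lit 11676) (Step.B (nat_lit 13908) Step.done)) (Scr.cons (nat_lit 0) (nat_lit 1) (Step.B (nat_lit 9526) (Step.B (nat_lit 12771) (Step.L Step.done))) (Scr.cons (nat_lit 1) (nat_lit 1) (Step.D (nat_lit 5025) (Step.B (nat_lit 13910) (Step.D (nat_lit 4161) Step.done))) (Scr.cons (nat_lit 0) (nat_lit 1) (Step.U (nat_lit 7028) (Step.F (nat_lit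 13911) (Step.L Step.done))) (Scr.cons (nat_lit 1) (nat_lit 0) (Step.U (nat_lit 10161) (Step.B (nat_lit 13912) (Step.L Step.done))) (Scr.cons (nat_lit 1) (nat_lit 0) (Step.B (nat_lit 13909) (Step.B (nat_lit 13913) (Step.L Step.done))) (Scr.cons (nat_lit 0) (nat_lit 1) (Step.B (nat_lit 13900) (Step.B (nat_lit 13914) (Step.L Step.done))) (Scr.cons (nat_lit 1) (nat_lit 0) (Step.D (nat_lit 6121) (Step.B (nat_lit 13915) (Step.L Step.done))) (Scr.cons (nat_lit 0) (nat_lit 1) (Step.U (nat_lit 6120) (Step.B (nat_lit 13916) (Step.L Step.done))) (Scr.cons (nat_lit 1) (nat_lit 1) (Step.F (nat_lit 13896) (Step.B (nat_lit 13917) (Step.L Step.done))) (Scr.cons (nat_lit 1) (nat_lit 1) (Step.D (nat_lit 6286) (Step.B (nat_lit 13918) (Step.L Step.done))) (Scr.cons (nat_lit 1) (nat_lit 1) (Step.B (nat_lit 13893) (Step.B (nat_lit 13919) (Step.L Step.done))) (Scr.cons (nat_lit 0) (nat_lit 1) (Step.B (nat_lit 13891) (Step.B (nat_lit 13920) (Step.L Step.done))) (Scr.cons (nat_lit 1) (nat_lit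 0) (Step.D (nat_lit 841) (Step.B (nat_lit 13921) (Step.L Step.done))) Scr.nil))))))))))))))))))))))))))))))))))))))))
noncomputable def s348 : Scr := (Scr.cons (nat_lit 1) (nat_lit 0) (Step.U (nat_lit 842) (Step.B (nat_lit 13922) (Step.L Step.done))) (Scr.cons (nat_lit 0) (nat_lit 1) (Step.U (nat_lit 1848) (Step.B (nat_lit 13923) (Step.L Step.done))) (Scr.cons (nat_lit 1) (nat_lit 1) (Step.U (nat_lit 3599) (Step.B (nat_lit 13924) (Step.D (nat_lit 2775) Step.done))) (Scr.cons (nat_lit 0) (nat_lit 1) (Step.B (nat_lit 13890) (Step.B (nat_lit 13925) (Step.D (nat_lit 5046) Step.done))) (Scr.cons (nat_lit 0) (nat_lit 0) (Step.B (nat_lit 13878) (Step.F (nat_lit 13926) Step.done)) (Scr.cons (nat_lit 11) (nat_lit 0) (Step.U (nat_lit 8057) (Step.U (nat_lit 5036) (Step.D (nat_lit 5035) (Step.D (nat_lit 8055) (Step.D (nat_lit 11029) Step.done))))) (Scr.cons (nat_lit 16) (nat_lit 5) (Step.L (Step.L (Step.L (Step.L (Step.L (Step.L (Step.L (Step.L (Step.L (Step.L (Step.L (Step.L (Step.L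 (Step.L (Step.L (Step.L (Step.L (Step.L (Step.L (Step.D (nat_lit 1033) (Step.D (nat_lit 2202) (Step.D (nat_lit 4166) (Step.D (nat_lit 7038) Step.done))))))))))))))))))))))) (Scr.cons (nat_lit 12) (nat_lit 1) (Step.F (nat_lit 13929) (Step.L (Step.L (Step.B (nat_lit 13929) (Step.D (nat_lit 10169) Step.done))))) (Scr.cons (nat_lit 4) (nat_lit 0) (Step.B (nat_lit 13929) (Step.U (nat_lit 7038) (Step.U (nat_lit 4166) (Step.D (nat_lit 4167) (Step.D (nat_lit 7040) Step.done))))) (Scr.cons (nat_lit 12) (nat_lit 4) (Step.U (nat_lit 1033) (Step.L (Step.L (Step.D (nat_lit 1033) (Step.D (nat_lit 2202) Step.done))))) (Scr.cons (nat_lit 13) (nat_lit 3) (Step.L (Step.L (Step.L (Step.L (Step.L (Step.L (Step.L (Step.D (nat_lit 1033) (Step.B (nat_lit 13932) (Step.D (nat_lit 4167) (Step.D (nat_lit 7039) Step.done))))))))))) (Scr.cons (nat_lit 0) (nat_lit 1) (Step.D (nat_lit 5046) (Step.F (nat_lit 13926) Step.done)) (Scr.cons (nat_lit 16) (nat_lit 1) (Step.F (nat_lit 13930) (Step.F (nat_lit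 13929) (Step.B (nat_lit 13931) (Step.U (nat_lit 7040) (Step.D (nat_lit 7039) (Step.F (nat_lit 13933) (Step.L (Step.L (Step.L (Step.L (Step.L (Step.L (Step.L (Step.L (Step.L (Step.L (Step.L (Step.D (nat_lit 2775) (Step.B (nat_lit 13934) (Step.D (nat_lit 8055) (Step.D (nat_lit 11029) (Step.F (nat_lit 13928) (Step.D (nat_lit 11031) Step.done))))))))))))))))))))))) (Scr.cons (nat_lit 15) (nat_lit 0) (Step.F (nat_lit 13928) (Step.D (nat_lit 11031) (Step.F (nat_lit 13935) (Step.F (nat_lit 13930) (Step.F (nat_lit 13929) (Step.L (Step.L (Step.L (Step.L (Step.L (Step.L (Step.L (Step.L (Step.D (nat_lit 7139) (Step.D (nat_lit 10240) Step.done))))))))))))))) (Scr.cons (nat_lit 12) (nat_lit 1) (Step.L (Step.L (Step.L (Step.L (Step.D (nat_lit 2150) Step.done))))) (Scr.cons (nat_lit 12) (nat_lit 1) (Step.L (Step.D (nat_lit 2150) (Step.F (nat_lit 13937) (Step.L (Step.D (nat_lit 4094) Step.done))))) (Scr.cons (nat_lit 14) (nat_lit 5) (Step.U (nat_lit 6955) (Step.U (nat_lit 4094) (Step.L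 (Step.L (Step.L (Step.L (Step.L (Step.L (Step.L (Step.L (Step.L (Step.L (Step.L (Step.L (Step.L (Step.L (Step.L (Step.L (Step.D (nat_lit 4118) (Step.D (nat_lit 6983) Step.done)))))))))))))))))))) (Scr.cons (nat_lit 1) (nat_lit 0) (Step.B (nat_lit 2932) (Step.F (nat_lit 2933) Step.done)) (Scr.cons (nat_lit 7) (nat_lit 0) (Step.U (nat_lit 11529) (Step.L (Step.L (Step.L (Step.L (Step.L (Step.L (Step.L (Step.L (Step.B (nat_lit 1804) (Step.B (nat_lit 1805) (Step.D (nat_lit 1357) (Step.D (nat_lit 2766) (Step.D (nat_lit 5036) (Step.D (nat_lit 8057) (Step.B (nat_lit 13928) (Step.B (nat_lit 13936) (Step.U (nat_lit 10240) (Step.D (nat_lit 10241) (Step.D (nat_lit 11901) Step.done)))))))))))))))))))) (Scr.cons (nat_lit 4) (nat_lit 0) (Step.F (nat_lit 13941) (Step.U (nat_lit 11529) (Step.L (Step.L (Step.D (nat_lit 11530) Step.done))))) (Scr.cons (nat_lit 9) (nat_lit 4) (Step.U (nat_lit 11875) (Step.U (nat_lit 10086) (Step.U (nat_lit 6954) (Step.U (nat_lit 4093) (Step.U (nat_lit 2150)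 (Step.L (Step.B (nat_lit 13938) (Step.D (nat_lit 6955) (Step.B (nat_lit 13939) (Step.U (nat_lit 6983) (Step.U (nat_lit 4118) (Step.L (Step.L (Step.L (Step.L (Step.B (nat_lit 13940) (Step.U (nat_lit 8874) (Step.L (Step.L (Step.L (Step.D (nat_lit 11530) (Step.F (nat_lit 13942) (Step.U (nat_lit 11901) Step.done))))))))))))))))))))))) (Scr.cons (nat_lit 12) (nat_lit 1) (Step.L (Step.L (Step.L (Step.L (Step.D (nat_lit 3833) Step.done))))) (Scr.cons (nat_lit 12) (nat_lit 4) (Step.U (nat_lit 6611) (Step.F (nat_lit 13944) (Step.D (nat_lit 3833) (Step.D (nat_lit 6611) (Step.D (nat_lit 9769) Step.done))))) (Scr.cons (nat_lit 12) (nat_lit 4) (Step.L (Step.L (Step.L (Step.L (Step.D (nat_lit 2037) Step.done))))) (Scr.cons (nat_lit 6) (nat_lit 0) (Step.U (nat_lit 6735) (Step.U (nat_lit 3922) (Step.F (nat_lit 13946) (Step.L (Step.L (Step.L (Step.L (Step.L (Step.B (nat_lit 13944) (Step.D (nat_lit 6611) (Step.D (nat_lit 9769) Step.done))))))))))) (Scr.cons (nat_lit 1) (nat_lit 1) (Step.B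 (nat_lit 10492) (Step.F (nat_lit 10493) (Step.D (nat_lit 6508) Step.done))) (Scr.cons (nat_lit 1) (nat_lit 1) (Step.D (nat_lit 6736) (Step.B (nat_lit 13948) (Step.D (nat_lit 9649) Step.done))) (Scr.cons (nat_lit 1) (nat_lit 1) (Step.D (nat_lit 9649) (Step.F (nat_lit 13949) Step.done)) (Scr.cons (nat_lit 11) (nat_lit 0) (Step.U (nat_lit 896) (Step.L (Step.D (nat_lit 329) (Step.D (nat_lit 894) (Step.D (nat_lit 1938) Step.done))))) (Scr.cons (nat_lit 12) (nat_lit 1) (Step.L (Step.L (Step.L (Step.L (Step.D (nat_lit 895) Step.done))))) (Scr.cons (nat_lit 12) (nat_lit 1) (Step.U (nat_lit 896) (Step.D (nat_lit 895) (Step.F (nat_lit 13952) (Step.D (nat_lit 896) (Step.D (nat_lit 1939) Step.done))))) (Scr.cons (nat_lit 12) (nat_lit 1) (Step.F (nat_lit 13951) (Step.D (nat_lit 1939) (Step.F (nat_lit 13953) (Step.B (nat_lit 13951) (Step.D (nat_lit 3751) Step.done))))) (Scr.cons (nat_lit 7) (nat_lit 0) (Step.U (nat_lit 11840) (Step.F (nat_lit 13947) (Step.U (nat_lit 6735) (Step.F (nat_lit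 13950) (Step.U (nat_lit 6508) (Step.F (nat_lit 10495) (Step.L (Step.L (Step.L (Step.L (Step.L (Step.L (Step.L (Step.L (Step.D (nat_lit 896) (Step.B (nat_lit 13951) (Step.B (nat_lit 13954) (Step.D (nat_lit 6498) (Step.D (nat_lit 9643) (Step.D (nat_lit 11797) Step.done)))))))))))))))))))) (Scr.cons (nat_lit 1) (nat_lit 1) (Step.U (nat_lit 1938) (Step.B (nat_lit 13603) (Step.L Step.done))) (Scr.cons (nat_lit 0) (nat_lit 1) (Step.U (nat_lit 3751) (Step.B (nat_lit 13956) (Step.L Step.done))) (Scr.cons (nat_lit 1) (nat_lit 0) (Step.U (nat_lit 6498) (Step.B (nat_lit 13957) (Step.L Step.done))) (Scr.cons (nat_lit 1) (nat_lit 0) (Step.U (nat_lit 9643) (Step.B (nat_lit 13958) (Step.L Step.done))) (Scr.cons (nat_lit 0) (nat_lit 1) (Step.U (nat_lit 11797) (Step.B (nat_lit 13959) (Step.L Step.done))) (Scr.cons (nat_lit 1) (nat_lit 0) (Step.B (nat_lit 13955) (Step.B (nat_lit 13960) (Step.L Step.done))) (Scr.cons (nat_lit 1) (nat_lit 0) (Step.D (nat_lit 11840) (Step.B (nat_lit 13961)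 (Step.L Step.done))) Scr.nil))))))))))))))))))))))))))))))))))))))))
noncomputable def s349 : Scr := (Scr.cons (nat_lit 0) (nat_lit 1) (Step.B (nat_lit 13945) (Step.B (nat_lit 13962) (Step.L Step.done))) (Scr.cons (nat_lit 1) (nat_lit 0) (Step.D (nat_lit 6611) (Step.B (nat_lit 13963) (Step.L Step.done))) (Scr.cons (nat_lit 0) (nat_lit 1) (Step.B (nat_lit 13944) (Step.B (nat_lit 13964) (Step.D (nat_lit 2150) Step.done))) (Scr.cons (nat_lit 1) (nat_lit 1) (Step.U (nat_lit 4093) (Step.F (nat_lit 13965) (Step.L Step.done))) (Scr.cons (nat_lit 1) (nat_lit 1) (Step.U (nat_lit 6954) (Step.B (nat_lit 13966) (Step.L Step.done))) (Scr.cons (nat_lit 1) (nat_lit 1) (Step.U (nat_lit 10086) (Step.B (nat_lit 13967) (Step.L Step.done))) (Scr.cons (nat_lit 0) (nat_lit 1) (Step.U (nat_lit 11875) (Step.B (nat_lit 13968) (Step.L Step.done))) (Scr.cons (nat_lit 1) (nat_lit 1) (Step.F (nat_lit 13943) (Step.B (nat_lit 13969) (Step.D (nat_lit 9768) Step.done))) (Scr.cons (nat_lit 7) (nat_lit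 1) (Step.U (nat_lit 9768) (Step.L (Step.L (Step.L (Step.L (Step.L (Step.L (Step.L (Step.L (Step.L (Step.L (Step.L (Step.D (nat_lit 30) (Step.D (nat_lit 115) (Step.B (nat_lit 13874) (Step.B (nat_lit 13876) (Step.D (nat_lit 2045) (Step.D (nat_lit 3932) (Step.D (nat_lit 6747) (Step.D (nat_lit 9914) Step.done)))))))))))))))))))) (Scr.cons (nat_lit 1) (nat_lit 1) (Step.D (nat_lit 10241) (Step.B (nat_lit 13970) (Step.B (nat_lit 13971) Step.done))) (Scr.cons (nat_lit 1) (nat_lit 1) (Step.D (nat_lit 9914) (Step.F (nat_lit 13972) (Step.D (nat_lit 10240) Step.done))) (Scr.cons (nat_lit 12) (nat_lit 1) (Step.U (nat_lit 2045) (Step.F (nat_lit 13876) (Step.D (nat_lit 947) (Step.D (nat_lit 2045) (Step.D (nat_lit 3931) Step.done))))) (Scr.cons (nat_lit 12) (nat_lit 1) (Step.U (nat_lit 3932) (Step.D (nat_lit 3931) (Step.F (nat_lit 13974) (Step.D (nat_lit 3932) (Step.D (nat_lit 6747) Step.done))))) (Scr.cons (nat_lit 0) (nat_lit 1) (Step.B (nat_lit 13936) (Step.F (nat_lit 13973) (Step.F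 (nat_lit 13975) Step.done))) (Scr.cons (nat_lit 11) (nat_lit 0) (Step.U (nat_lit 3932) (Step.U (nat_lit 2045) (Step.D (nat_lit 2044) (Step.D (nat_lit 3930) (Step.D (nat_lit 6746) Step.done))))) (Scr.cons (nat_lit 1) (nat_lit 0) (Step.D (nat_lit 11029) (Step.B (nat_lit 13976) (Step.B (nat_lit 13977) Step.done))) (Scr.cons (nat_lit 1) (nat_lit 0) (Step.D (nat_lit 8055) (Step.B (nat_lit 13978) (Step.U (nat_lit 6746) Step.done))) (Scr.cons (nat_lit 0) (nat_lit 1) (Step.B (nat_lit 13927) (Step.B (nat_lit 13979) (Step.D (nat_lit 6745) Step.done))) (Scr.cons (nat_lit 1) (nat_lit 1) (Step.U (nat_lit 9913) (Step.F (nat_lit 13980) (Step.D (nat_lit 5047) Step.done))) (Scr.cons (nat_lit 14) (nat_lit 6) (Step.U (nat_lit 6111) (Step.L (Step.L (Step.L (Step.L (Step.L (Step.L (Step.L (Step.L (Step.L (Step.L (Step.L (Step.L (Step.D (nat_lit 1785) (Step.B (nat_lit 9797) (Step.F (nat_lit 9793) (Step.U (nat_lit 1849) (Step.D (nat_lit 1848) (Step.D (nat_lit 3599) (Step.D (nat_lit 6298) Step.done))))))))))))))))))))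 (Scr.cons (nat_lit 11) (nat_lit 0) (Step.L (Step.L (Step.D (nat_lit 2775) (Step.D (nat_lit 5047) (Step.D (nat_lit 8062) Step.done))))) (Scr.cons (nat_lit 12) (nat_lit 1) (Step.F (nat_lit 13983) (Step.L (Step.L (Step.B (nat_lit 13983) (Step.D (nat_lit 11038) Step.done))))) (Scr.cons (nat_lit 12) (nat_lit 1) (Step.L (Step.L (Step.L (Step.L (Step.D (nat_lit 8045) Step.done))))) (Scr.cons (nat_lit 14) (nat_lit 2) (Step.F (nat_lit 13984) (Step.F (nat_lit 13983) (Step.L (Step.L (Step.L (Step.L (Step.L (Step.L (Step.L (Step.L (Step.L (Step.L (Step.L (Step.L (Step.L (Step.L (Step.L (Step.L (Step.B (nat_lit 13985) (Step.D (nat_lit 11020) Step.done)))))))))))))))))))) (Scr.cons (nat_lit 12) (nat_lit 4) (Step.L (Step.L (Step.L (Step.L (Step.D (nat_lit 3485) Step.done))))) (Scr.cons (nat_lit 12) (nat_lit 4) (Step.L (Step.D (nat_lit 3485) (Step.F (nat_lit 13987) (Step.L (Step.D (nat_lit 6110) Step.done))))) (Scr.cons (nat_lit 4) (nat_lit 0) (Step.B (nat_lit 13982) (Step.U (nat_lit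 6298) (Step.U (nat_lit 3599) (Step.D (nat_lit 3600) (Step.D (nat_lit 6299) Step.done))))) (Scr.cons (nat_lit 11) (nat_lit 0) (Step.B (nat_lit 13896) (Step.U (nat_lit 6286) (Step.F (nat_lit 13893) (Step.D (nat_lit 3598) (Step.D (nat_lit 6296) Step.done))))) (Scr.cons (nat_lit 14) (nat_lit 5) (Step.U (nat_lit 9268) (Step.U (nat_lit 6110) (Step.L (Step.L (Step.D (nat_lit 6111) (Step.B (nat_lit 13989) (Step.U (nat_lit 6299) (Step.U (nat_lit 3600) (Step.U (nat_lit 1848) (Step.U (nat_lit 842) (Step.D (nat_lit 841) (Step.D (nat_lit 1846) (Step.D (nat_lit 3598) (Step.D (nat_lit 6296) (Step.F (nat_lit 13990) (Step.U (nat_lit 6120) (Step.D (nat_lit 6121) (Step.F (nat_lit 13897) (Step.D (nat_lit 6122) (Step.D (nat_lit 9279) Step.done)))))))))))))))))))) (Scr.cons (nat_lit 1) (nat_lit 1) (Step.B (nat_lit 13897) (Step.B (nat_lit 13915) (Step.L Step.done))) (Scr.cons (nat_lit 0) (nat_lit 1) (Step.U (nat_lit 6122) (Step.B (nat_lit 13992) (Step.L Step.done))) (Scr.cons (nat_lit 1) (nat_lit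 1) (Step.U (nat_lit 9279) (Step.B (nat_lit 13993) (Step.L Step.done))) (Scr.cons (nat_lit 1) (nat_lit 1) (Step.B (nat_lit 13991) (Step.B (nat_lit 13994) (Step.L Step.done))) (Scr.cons (nat_lit 1) (nat_lit 1) (Step.D (nat_lit 9268) (Step.B (nat_lit 13995) (Step.L Step.done))) (Scr.cons (nat_lit 0) (nat_lit 1) (Step.B (nat_lit 13988) (Step.B (nat_lit 13996) (Step.D (nat_lit 8045) Step.done))) (Scr.cons (nat_lit 1) (nat_lit 1) (Step.U (nat_lit 11020) (Step.F (nat_lit 13997) (Step.L Step.done))) (Scr.cons (nat_lit 1) (nat_lit 1) (Step.B (nat_lit 13986) (Step.B (nat_lit 13998) (Step.L Step.done))) (Scr.cons (nat_lit 0) (nat_lit 1) (Step.B (nat_lit 13984) (Step.B (nat_lit 13999) (Step.D (nat_lit 6111) Step.done))) (Scr.cons (nat_lit 1) (nat_lit 0) (Step.D (nat_lit 8062) (Step.B (nat_lit 14000) (Step.B (nat_lit 13982) Step.done))) (Scr.cons (nat_lit 1) (nat_lit 0) (Step.B (nat_lit 13982) (Step.F (nat_lit 14001) Step.done)) Scr.nil))))))))))))))))))))))))))))))))))))))))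
noncomputable def s350 : Scr := (Scr.cons (nat_lit 1) (nat_lit 1) (Step.U (nat_lit 11851) (Step.B (nat_lit 13981) (Step.F (nat_lit 14002) Step.done))) (Scr.cons (nat_lit 1) (nat_lit 1) (Step.B (nat_lit 13983) (Step.B (nat_lit 14000) (Step.B (nat_lit 13989) Step.done))) (Scr.cons (nat_lit 1) (nat_lit 1) (Step.B (nat_lit 13989) (Step.F (nat_lit 14004) Step.done)) (Scr.cons (nat_lit 1) (nat_lit 1) (Step.B (nat_lit 13877) (Step.B (nat_lit 14003) (Step.B (nat_lit 14005) Step.done))) (Scr.cons (nat_lit 0) (nat_lit 1) (Step.B (nat_lit 13873) (Step.B (nat_lit 14006) (Step.L Step.done))) (Scr.cons (nat_lit 1) (nat_lit 1) (Step.D (nat_lit 9911) (Step.B (nat_lit 14007) (Step.D (nat_lit 11040) Step.done))) (Scr.cons (nat_lit 1) (nat_lit 1) (Step.D (nat_lit 11040) (Step.F (nat_lit 14008) Step.done)) (Scr.cons (nat_lit 9) (nat_lit 5) (Step.U (nat_lit 11982) (Step.U (nat_lit 10873) (Step.U (nat_lit 7878) (Step.U (nat_lit 4880) (Step.U (nat_lit 2664) (Step.U (nat_lit 1300) (Step.U (nat_lit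 529) (Step.L (Step.D (nat_lit 184) (Step.B (nat_lit 7545) (Step.L (Step.L (Step.L (Step.L (Step.L (Step.L (Step.L (Step.L (Step.L (Step.L (Step.L (Step.L (Step.D (nat_lit 12020) Step.done))))))))))))))))))))))) (Scr.cons (nat_lit 11) (nat_lit 0) (Step.U (nat_lit 10875) (Step.U (nat_lit 7879) (Step.D (nat_lit 7878) (Step.D (nat_lit 10873) (Step.D (nat_lit 11982) Step.done))))) (Scr.cons (nat_lit 12) (nat_lit 4) (Step.U (nat_lit 529) (Step.L (Step.L (Step.D (nat_lit 529) (Step.D (nat_lit 1300) Step.done))))) (Scr.cons (nat_lit 12) (nat_lit 4) (Step.U (nat_lit 2664) (Step.F (nat_lit 14012) (Step.D (nat_lit 1300) (Step.D (nat_lit 2664) (Step.D (nat_lit 4880) Step.done))))) (Scr.cons (nat_lit 12) (nat_lit 1) (Step.U (nat_lit 7879) (Step.F (nat_lit 14013) (Step.D (nat_lit 4880) (Step.D (nat_lit 7879) (Step.D (nat_lit 10874) Step.done))))) (Scr.cons (nat_lit 11) (nat_lit 0) (Step.U (nat_lit 530) (Step.U (nat_lit 184) (Step.L (Step.D (nat_lit 529) (Step.D (nat_lit 1301) Step.done)))))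 (Scr.cons (nat_lit 12) (nat_lit 1) (Step.U (nat_lit 530) (Step.F (nat_lit 7546) (Step.F (nat_lit 7545) (Step.D (nat_lit 530) (Step.D (nat_lit 1302) Step.done))))) (Scr.cons (nat_lit 12) (nat_lit 1) (Step.F (nat_lit 14015) (Step.D (nat_lit 1302) (Step.F (nat_lit 14016) (Step.B (nat_lit 14015) (Step.D (nat_lit 2665) Step.done))))) (Scr.cons (nat_lit 12) (nat_lit 1) (Step.U (nat_lit 4882) (Step.F (nat_lit 14017) (Step.D (nat_lit 2665) (Step.D (nat_lit 4882) (Step.D (nat_lit 7881) Step.done))))) (Scr.cons (nat_lit 13) (nat_lit 0) (Step.U (nat_lit 10877) (Step.F (nat_lit 14018) (Step.U (nat_lit 4882) (Step.U (nat_lit 2665) (Step.U (nat_lit 1301) (Step.D (nat_lit 1300) (Step.D (nat_lit 2664) (Step.B (nat_lit 14013) (Step.D (nat_lit 7879) (Step.D (nat_lit 10874) (Step.D (nat_lit 11983) Step.done))))))))))) (Scr.cons (nat_lit 0) (nat_lit 1) (Step.U (nat_lit 7318) (Step.B (nat_lit 8344) (Step.L Step.done))) (Scr.cons (nat_lit 1) (nat_lit 1) (Step.U (nat_lit 10390) (Step.B (nat_lit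 14020) (Step.L Step.done))) (Scr.cons (nat_lit 0) (nat_lit 1) (Step.F (nat_lit 7220) (Step.B (nat_lit 14021) (Step.L Step.done))) (Scr.cons (nat_lit 1) (nat_lit 1) (Step.F (nat_lit 7227) (Step.B (nat_lit 14022) (Step.D (nat_lit 1546) Step.done))) (Scr.cons (nat_lit 1) (nat_lit 1) (Step.D (nat_lit 11490) (Step.B (nat_lit 14023) (Step.D (nat_lit 3087) Step.done))) (Scr.cons (nat_lit 1) (nat_lit 1) (Step.B (nat_lit 7226) (Step.B (nat_lit 14024) (Step.D (nat_lit 5514) Step.done))) (Scr.cons (nat_lit 0) (nat_lit 1) (Step.B (nat_lit 7225) (Step.B (nat_lit 14025) (Step.D (nat_lit 8604) Step.done))) (Scr.cons (nat_lit 1) (nat_lit 1) (Step.D (nat_lit 8606) (Step.B (nat_lit 14026) (Step.D (nat_lit 11401) Step.done))) (Scr.cons (nat_lit 1) (nat_lit 1) (Step.D (nat_lit 11401) (Step.F (nat_lit 14027) Step.done)) (Scr.cons (nat_lit 12) (nat_lit 1) (Step.U (nat_lit 7882) (Step.D (nat_lit 7881) (Step.F (nat_lit 14018) (Step.D (nat_lit 7882) (Step.D (nat_lit 10879) Step.done))))) (Scr.cons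 (nat_lit 7) (nat_lit 1) (Step.U (nat_lit 11974) (Step.U (nat_lit 10826) (Step.U (nat_lit 7828) (Step.U (nat_lit 4836) (Step.F (nat_lit 13640) (Step.L (Step.L (Step.L (Step.L (Step.L (Step.L (Step.L (Step.D (nat_lit 184) (Step.D (nat_lit 530) (Step.B (nat_lit 14015) (Step.B (nat_lit 14017) (Step.D (nat_lit 4882) (Step.D (nat_lit 7882) (Step.D (nat_lit 10879) (Step.D (nat_lit 11985) Step.done)))))))))))))))))))) (Scr.cons (nat_lit 12) (nat_lit 4) (Step.U (nat_lit 10827) (Step.F (nat_lit 13658) (Step.D (nat_lit 7829) (Step.D (nat_lit 10827) (Step.D (nat_lit 11975) Step.done))))) (Scr.cons (nat_lit 1) (nat_lit 0) (Step.U (nat_lit 11341) (Step.B (nat_lit 13679) (Step.L Step.done))) (Scr.cons (nat_lit 1) (nat_lit 0) (Step.B (nat_lit 13673) (Step.B (nat_lit 14032) (Step.L Step.done))) (Scr.cons (nat_lit 0) (nat_lit 1) (Step.B (nat_lit 14031) (Step.B (nat_lit 14033) (Step.L Step.done))) (Scr.cons (nat_lit 1) (nat_lit 0) (Step.D (nat_lit 10827) (Step.B (nat_lit 14034) (Step.L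 Step.done))) (Scr.cons (nat_lit 0) (nat_lit 1) (Step.B (nat_lit 13658) (Step.B (nat_lit 14035) (Step.L Step.done))) (Scr.cons (nat_lit 1) (nat_lit 1) (Step.D (nat_lit 4837) (Step.B (nat_lit 14036) (Step.L Step.done))) (Scr.cons (nat_lit 1) (nat_lit 1) (Step.U (nat_lit 4836) (Step.B (nat_lit 14037) (Step.L Step.done))) (Scr.cons (nat_lit 1) (nat_lit 1) (Step.U (nat_lit 7828) (Step.B (nat_lit 14038) (Step.L Step.done))) (Scr.cons (nat_lit 0) (nat_lit 1) (Step.U (nat_lit 10826) (Step.B (nat_lit 14039) (Step.L Step.done))) (Scr.cons (nat_lit 1) (nat_lit 1) (Step.U (nat_lit 11974) (Step.B (nat_lit 14040) (Step.L Step.done))) (Scr.cons (nat_lit 1) (nat_lit 1) (Step.F (nat_lit 14030) (Step.B (nat_lit 14041) (Step.L Step.done))) Scr.nil))))))))))))))))))))))))))))))))))))))))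
noncomputable def s351 : Scr := (Scr.cons (nat_lit 12) (nat_lit 4) (Step.U (nat_lit 5680) (Step.L (Step.L (Step.D (nat_lit 5680) (Step.D (nat_lit 8783) Step.done))))) (Scr.cons (nat_lit 0) (nat_lit 1) (Step.B (nat_lit 14043) (Step.B (nat_lit 14024) (Step.D (nat_lit 5513) Step.done))) (Scr.cons (nat_lit 1) (nat_lit 0) (Step.D (nat_lit 5680) (Step.B (nat_lit 14044) (Step.D (nat_lit 8603) Step.done))) (Scr.cons (nat_lit 1) (nat_lit 0) (Step.D (nat_lit 8603) (Step.F (nat_lit 14045) Step.done)) (Scr.cons (nat_lit 1) (nat_lit 1) (Step.D (nat_lit 11985) (Step.B (nat_lit 14042) (Step.F (nat_lit 14046) Step.done))) (Scr.cons (nat_lit 12) (nat_lit 4) (Step.U (nat_lit 1546) (Step.L (Step.L (Step.D (nat_lit 1546) (Step.D (nat_lit 3086) Step.done))))) (Scr.cons (nat_lit 12) (nat_lit 4) (Step.U (nat_lit 3087) (Step.D (nat_lit 3086) (Step.F (nat_lit 14048) (Step.D (nat_lit 3087) (Step.D (nat_lit 5513) Step.done))))) (Scr.cons (nat_lit 0) (nat_lit 1) (Step.B (nat_lit 14029) (Step.B (nat_lit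 14047) (Step.F (nat_lit 14049) Step.done))) (Scr.cons (nat_lit 1) (nat_lit 1) (Step.D (nat_lit 7882) (Step.B (nat_lit 14050) (Step.D (nat_lit 5514) Step.done))) (Scr.cons (nat_lit 0) (nat_lit 1) (Step.U (nat_lit 8604) (Step.F (nat_lit 14051) (Step.D (nat_lit 7881) Step.done))) (Scr.cons (nat_lit 1) (nat_lit 1) (Step.F (nat_lit 14028) (Step.B (nat_lit 14052) (Step.D (nat_lit 10877) Step.done))) (Scr.cons (nat_lit 0) (nat_lit 1) (Step.F (nat_lit 14019) (Step.F (nat_lit 14053) (Step.F (nat_lit 7224) Step.done))) (Scr.cons (nat_lit 1) (nat_lit 0) (Step.D (nat_lit 11983) (Step.B (nat_lit 14054) (Step.L Step.done))) (Scr.cons (nat_lit 0) (nat_lit 1) (Step.B (nat_lit 14014) (Step.B (nat_lit 14055) (Step.L Step.done))) (Scr.cons (nat_lit 1) (nat_lit 0) (Step.U (nat_lit 10875) (Step.B (nat_lit 14056) (Step.L Step.done))) (Scr.cons (nat_lit 1) (nat_lit 0) (Step.F (nat_lit 14011) (Step.B (nat_lit 14057) (Step.L Step.done))) (Scr.cons (nat_lit 0) (nat_lit 1) (Step.F (nat_lit 14010)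 (Step.B (nat_lit 14058) (Step.L Step.done))) (Scr.cons (nat_lit 1) (nat_lit 0) (Step.D (nat_lit 12020) (Step.B (nat_lit 14059) Step.done)) (Scr.cons (nat_lit 12) (nat_lit 4) (Step.U (nat_lit 8356) (Step.L (Step.L (Step.D (nat_lit 8356) (Step.D (nat_lit 11260) Step.done))))) (Scr.cons (nat_lit 11) (nat_lit 0) (Step.L (Step.L (Step.L (Step.D (nat_lit 59) (Step.D (nat_lit 219) Step.done))))) (Scr.cons (nat_lit 12) (nat_lit 1) (Step.F (nat_lit 14062) (Step.L (Step.L (Step.B (nat_lit 14062) (Step.D (nat_lit 609) Step.done))))) (Scr.cons (nat_lit 14) (nat_lit 4) (Step.U (nat_lit 11252) (Step.U (nat_lit 8343) (Step.U (nat_lit 5303) (Step.U (nat_lit 2939) (Step.U (nat_lit 1452) (Step.F (nat_lit 14063) (Step.F (nat_lit 14062) (Step.L (Step.L (Step.L (Step.L (Step.L (Step.L (Step.L (Step.L (Step.L (Step.L (Step.L (Step.D (nat_lit 8356) (Step.D (nat_lit 11260) Step.done)))))))))))))))))))) (Scr.cons (nat_lit 11) (nat_lit 0) (Step.F (nat_lit 14064) (Step.U (nat_lit 11252) (Step.U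 (nat_lit 8343) (Step.D (nat_lit 8342) (Step.D (nat_lit 11251) Step.done))))) (Scr.cons (nat_lit 12) (nat_lit 1) (Step.U (nat_lit 2393) (Step.L (Step.L (Step.D (nat_lit 2393) (Step.D (nat_lit 4444) Step.done))))) (Scr.cons (nat_lit 12) (nat_lit 1) (Step.U (nat_lit 256) (Step.L (Step.L (Step.D (nat_lit 256) (Step.D (nat_lit 717) Step.done))))) (Scr.cons (nat_lit 12) (nat_lit 4) (Step.U (nat_lit 1674) (Step.F (nat_lit 14067) (Step.D (nat_lit 717) (Step.D (nat_lit 1674) (Step.D (nat_lit 3327) Step.done))))) (Scr.cons (nat_lit 13) (nat_lit 2) (Step.U (nat_lit 4440) (Step.U (nat_lit 2389) (Step.U (nat_lit 1149) (Step.F (nat_lit 2409) (Step.L (Step.L (Step.D (nat_lit 256) (Step.D (nat_lit 717) (Step.D (nat_lit 1674) (Step.B (nat_lit 14068) (Step.D (nat_lit 5889) Step.done))))))))))) (Scr.cons (nat_lit 12) (nat_lit 4) (Step.U (nat_lit 749) (Step.F (nat_lit 2376) (Step.D (nat_lit 269) (Step.D (nat_lit 749) (Step.D (nat_lit 1715) Step.done))))) (Scr.cons (nat_lit 12) (nat_lit 1)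 (Step.U (nat_lit 3396) (Step.F (nat_lit 14070) (Step.D (nat_lit 1715) (Step.D (nat_lit 3396) (Step.D (nat_lit 6005) Step.done))))) (Scr.cons (nat_lit 12) (nat_lit 1) (Step.F (nat_lit 2375) (Step.F (nat_lit 2377) (Step.D (nat_lit 751) (Step.B (nat_lit 2375) (Step.D (nat_lit 2581) Step.done))))) (Scr.cons (nat_lit 6) (nat_lit 0) (Step.U (nat_lit 6005) (Step.U (nat_lit 3396) (Step.F (nat_lit 14070) (Step.U (nat_lit 749) (Step.U (nat_lit 269) (Step.D (nat_lit 270) (Step.D (nat_lit 751) (Step.B (nat_lit 2375) (Step.B (nat_lit 14072) (Step.D (nat_lit 4748) (Step.D (nat_lit 7724) Step.done))))))))))) (Scr.cons (nat_lit 0) (nat_lit 1) (Step.U (nat_lit 2581) (Step.B (nat_lit 7592) (Step.D (nat_lit 451) Step.done))) (Scr.cons (nat_lit 1) (nat_lit 1) (Step.U (nat_lit 4748) (Step.B (nat_lit 14074) (Step.D (nat_lit 1149) Step.done))) (Scr.cons (nat_lit 0) (nat_lit 1) (Step.U (nat_lit 7724) (Step.B (nat_lit 14075) (Step.D (nat_lit 2389) Step.done))) (Scr.cons (nat_lit 1) (nat_lit 0)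 (Step.B (nat_lit 14073) (Step.B (nat_lit 14076) (Step.D (nat_lit 4440) Step.done))) (Scr.cons (nat_lit 6) (nat_lit 1) (Step.U (nat_lit 4440) (Step.F (nat_lit 12438) (Step.U (nat_lit 1149) (Step.U (nat_lit 451) (Step.L (Step.L (Step.D (nat_lit 256) (Step.B (nat_lit 14067) (Step.D (nat_lit 1674) (Step.D (nat_lit 3327) (Step.D (nat_lit 5889) Step.done))))))))))) (Scr.cons (nat_lit 0) (nat_lit 1) (Step.B (nat_lit 14071) (Step.B (nat_lit 14077) (Step.B (nat_lit 14078) Step.done))) (Scr.cons (nat_lit 0) (nat_lit 0) (Step.B (nat_lit 14069) (Step.F (nat_lit 14079) Step.done)) (Scr.cons (nat_lit 1) (nat_lit 1) (Step.D (nat_lit 1151) (Step.B (nat_lit 9901) (Step.L Step.done))) (Scr.cons (nat_lit 0) (nat_lit 1) (Step.B (nat_lit 6572) (Step.B (nat_lit 14081) (Step.D (nat_lit 269) Step.done))) Scr.nil))))))))))))))))))))))))))))))))))))))))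
noncomputable def s352 : Scr := (Scr.cons (nat_lit 1) (nat_lit 1) (Step.U (nat_lit 749) (Step.F (nat_lit 14082) (Step.L Step.done))) (Scr.cons (nat_lit 0) (nat_lit 1) (Step.U (nat_lit 1715) (Step.B (nat_lit 14083) (Step.L Step.done))) (Scr.cons (nat_lit 1) (nat_lit 0) (Step.U (nat_lit 3396) (Step.B (nat_lit 14084) (Step.D (nat_lit 2393) Step.done))) (Scr.cons (nat_lit 0) (nat_lit 1) (Step.B (nat_lit 14080) (Step.B (nat_lit 14085) (Step.D (nat_lit 4444) Step.done))) (Scr.cons (nat_lit 0) (nat_lit 0) (Step.B (nat_lit 14066) (Step.F (nat_lit 14086) Step.done)) (Scr.cons (nat_lit 11) (nat_lit 0) (Step.U (nat_lit 7366) (Step.U (nat_lit 4440) (Step.D (nat_lit 4439) (Step.D (nat_lit 7365) (Step.D (nat_lit 10429) Step.done))))) (Scr.cons (nat_lit 1) (nat_lit 1) (Step.U (nat_lit 4789) (Step.F (nat_lit 13858) (Step.D (nat_lit 2955) Step.done))) (Scr.cons (nat_lit 1) (nat_lit 1) (Step.U (nat_lit 7766) (Step.B (nat_lit 14089) (Step.D (nat_lit 5322) Step.done))) (Scr.cons (nat_lit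 11) (nat_lit 0) (Step.L (Step.L (Step.L (Step.D (nat_lit 2955) (Step.D (nat_lit 5322) Step.done))))) (Scr.cons (nat_lit 1) (nat_lit 1) (Step.U (nat_lit 10776) (Step.B (nat_lit 14090) (Step.F (nat_lit 14091) Step.done))) (Scr.cons (nat_lit 0) (nat_lit 1) (Step.U (nat_lit 11966) (Step.B (nat_lit 14092) (Step.L Step.done))) (Scr.cons (nat_lit 1) (nat_lit 0) (Step.B (nat_lit 13833) (Step.B (nat_lit 14093) (Step.D (nat_lit 8367) Step.done))) (Scr.cons (nat_lit 7) (nat_lit 1) (Step.U (nat_lit 8341) (Step.U (nat_lit 5301) (Step.U (nat_lit 2938) (Step.U (nat_lit 1451) (Step.F (nat_lit 14063) (Step.U (nat_lit 219) (Step.U (nat_lit 59) (Step.L (Step.L (Step.L (Step.L (Step.L (Step.L (Step.L (Step.L (Step.L (Step.L (Step.L (Step.L (Step.D (nat_lit 8367) Step.done)))))))))))))))))))) (Scr.cons (nat_lit 1) (nat_lit 0) (Step.D (nat_lit 10909) (Step.B (nat_lit 14094) (Step.F (nat_lit 14095) Step.done))) (Scr.cons (nat_lit 1) (nat_lit 0) (Step.D (nat_lit 8341) (Step.F (nat_lit 14096)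 (Step.D (nat_lit 10910) Step.done))) (Scr.cons (nat_lit 12) (nat_lit 4) (Step.U (nat_lit 1451) (Step.F (nat_lit 14063) (Step.D (nat_lit 609) (Step.D (nat_lit 1451) (Step.D (nat_lit 2937) Step.done))))) (Scr.cons (nat_lit 12) (nat_lit 4) (Step.U (nat_lit 2938) (Step.D (nat_lit 2937) (Step.F (nat_lit 14098) (Step.D (nat_lit 2938) (Step.D (nat_lit 5301) Step.done))))) (Scr.cons (nat_lit 0) (nat_lit 1) (Step.F (nat_lit 12470) (Step.F (nat_lit 14097) (Step.F (nat_lit 14099) Step.done))) (Scr.cons (nat_lit 1) (nat_lit 1) (Step.B (nat_lit 14088) (Step.B (nat_lit 14100) (Step.D (nat_lit 5302) Step.done))) (Scr.cons (nat_lit 11) (nat_lit 0) (Step.U (nat_lit 2939) (Step.U (nat_lit 1452) (Step.D (nat_lit 1451) (Step.D (nat_lit 2938) (Step.D (nat_lit 5302) Step.done))))) (Scr.cons (nat_lit 1) (nat_lit 1) (Step.D (nat_lit 7366) (Step.B (nat_lit 14101) (Step.F (nat_lit 14102) Step.done))) (Scr.cons (nat_lit 0) (nat_lit 1) (Step.B (nat_lit 14087) (Step.B (nat_lit 14103) (Step.D (nat_lit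 5303) Step.done))) (Scr.cons (nat_lit 1) (nat_lit 1) (Step.U (nat_lit 8342) (Step.F (nat_lit 14104) (Step.U (nat_lit 2393) Step.done))) (Scr.cons (nat_lit 1) (nat_lit 1) (Step.U (nat_lit 11251) (Step.B (nat_lit 14105) (Step.L Step.done))) (Scr.cons (nat_lit 1) (nat_lit 1) (Step.B (nat_lit 14065) (Step.B (nat_lit 14106) (Step.L Step.done))) (Scr.cons (nat_lit 0) (nat_lit 1) (Step.B (nat_lit 14061) (Step.B (nat_lit 14107) (Step.L Step.done))) (Scr.cons (nat_lit 1) (nat_lit 0) (Step.D (nat_lit 8356) (Step.B (nat_lit 14108) (Step.D (nat_lit 10433) Step.done))) (Scr.cons (nat_lit 1) (nat_lit 0) (Step.D (nat_lit 10433) (Step.F (nat_lit 14109) Step.done)) (Scr.cons (nat_lit 11) (nat_lit 0) (Step.L (Step.L (Step.L (Step.D (nat_lit 375) (Step.D (nat_lit 989) Step.done))))) (Scr.cons (nat_lit 12) (nat_lit 1) (Step.F (nat_lit 14111) (Step.L (Step.L (Step.B (nat_lit 14111) (Step.D (nat_lit 2116) Step.done))))) (Scr.cons (nat_lit 12) (nat_lit 4) (Step.U (nat_lit 4040) (Step.F (nat_lit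 14112) (Step.D (nat_lit 2116) (Step.D (nat_lit 4040) (Step.D (nat_lit 6889) Step.done))))) (Scr.cons (nat_lit 12) (nat_lit 4) (Step.U (nat_lit 6890) (Step.D (nat_lit 6889) (Step.F (nat_lit 14113) (Step.D (nat_lit 6890) (Step.D (nat_lit 10025) Step.done))))) (Scr.cons (nat_lit 7) (nat_lit 1) (Step.U (nat_lit 11862) (Step.U (nat_lit 10025) (Step.U (nat_lit 6890) (Step.U (nat_lit 4040) (Step.F (nat_lit 14112) (Step.U (nat_lit 989) (Step.U (nat_lit 375) (Step.L (Step.L (Step.L (Step.L (Step.L (Step.L (Step.L (Step.L (Step.B (nat_lit 13568) (Step.D (nat_lit 4048) (Step.D (nat_lit 6900) (Step.D (nat_lit 10033) (Step.D (nat_lit 11867) Step.done)))))))))))))))))))) (Scr.cons (nat_lit 11) (nat_lit 0) (Step.U (nat_lit 11863) (Step.D (nat_lit 11862) (Step.B (nat_lit 14115) (Step.U (nat_lit 11867) (Step.D (nat_lit 11866) Step.done))))) (Scr.cons (nat_lit 11) (nat_lit 0) (Step.U (nat_lit 6900) (Step.U (nat_lit 4048) (Step.D (nat_lit 4047) (Step.D (nat_lit 6899) (Step.D (nat_lit 10032)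 Step.done))))) (Scr.cons (nat_lit 1) (nat_lit 1) (Step.U (nat_lit 6899) (Step.B (nat_lit 13802) (Step.L Step.done))) (Scr.cons (nat_lit 1) (nat_lit 1) (Step.U (nat_lit 10032) (Step.B (nat_lit 14118) (Step.L Step.done))) (Scr.cons (nat_lit 1) (nat_lit 1) (Step.B (nat_lit 14117) (Step.B (nat_lit 14119) (Step.L Step.done))) (Scr.cons (nat_lit 0) (nat_lit 1) (Step.U (nat_lit 10033) (Step.B (nat_lit 14120) (Step.L Step.done))) (Scr.cons (nat_lit 1) (nat_lit 1) (Step.U (nat_lit 11866) (Step.B (nat_lit 14121) (Step.L Step.done))) Scr.nil))))))))))))))))))))))))))))))))))))))))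
noncomputable def s353 : Scr := (Scr.cons (nat_lit 6) (nat_lit 3) (Step.U (nat_lit 1463) (Step.L (Step.L (Step.L (Step.L (Step.L (Step.D (nat_lit 60) (Step.D (nat_lit 220) (Step.D (nat_lit 613) (Step.B (nat_lit 13396) (Step.D (nat_lit 2945) Step.done))))))))))) (Scr.cons (nat_lit 0) (nat_lit 1) (Step.U (nat_lit 1457) (Step.B (nat_lit 13407) (Step.L Step.done))) (Scr.cons (nat_lit 1) (nat_lit 1) (Step.U (nat_lit 2945) (Step.B (nat_lit 14124) (Step.L Step.done))) (Scr.cons (nat_lit 0) (nat_lit 1) (Step.B (nat_lit 14123) (Step.B (nat_lit 14125) (Step.L Step.done))) (Scr.cons (nat_lit 1) (nat_lit 1) (Step.U (nat_lit 2953) (Step.B (nat_lit 14126) (Step.L Step.done))) (Scr.cons (nat_lit 1) (nat_lit 1) (Step.U (nat_lit 5316) (Step.B (nat_lit 14127) (Step.L Step.done))) (Scr.cons (nat_lit 0) (nat_lit 1) (Step.U (nat_lit 8358) (Step.B (nat_lit 14128) (Step.D (nat_lit 6740) Step.done))) (Scr.cons (nat_lit 1) (nat_lit 0) (Step.F (nat_lit 10432) (Step.B (nat_lit 14129) (Step.D (nat_lit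 9909) Step.done))) (Scr.cons (nat_lit 1) (nat_lit 0) (Step.D (nat_lit 9909) (Step.F (nat_lit 14130) Step.done)) (Scr.cons (nat_lit 1) (nat_lit 1) (Step.B (nat_lit 14116) (Step.B (nat_lit 14122) (Step.F (nat_lit 14131) Step.done))) (Scr.cons (nat_lit 1) (nat_lit 1) (Step.B (nat_lit 10454) (Step.B (nat_lit 14129) (Step.D (nat_lit 9908) Step.done))) (Scr.cons (nat_lit 1) (nat_lit 1) (Step.D (nat_lit 9908) (Step.F (nat_lit 14133) Step.done)) (Scr.cons (nat_lit 1) (nat_lit 1) (Step.D (nat_lit 11863) (Step.B (nat_lit 14132) (Step.B (nat_lit 14134) Step.done))) (Scr.cons (nat_lit 0) (nat_lit 1) (Step.B (nat_lit 14114) (Step.B (nat_lit 14135) (Step.F (nat_lit 13726) Step.done))) (Scr.cons (nat_lit 1) (nat_lit 0) (Step.D (nat_lit 6890) (Step.B (nat_lit 14136) (Step.B (nat_lit 13724) Step.done))) (Scr.cons (nat_lit 1) (nat_lit 0) (Step.B (nat_lit 13724) (Step.F (nat_lit 14137) Step.done)) (Scr.cons (nat_lit 11) (nat_lit 0) (Step.U (nat_lit 3925) (Step.L (Step.D (nat_lit 2039) (Step.D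 (nat_lit 3924) (Step.D (nat_lit 6738) Step.done))))) (Scr.cons (nat_lit 12) (nat_lit 1) (Step.U (nat_lit 3925) (Step.L (Step.L (Step.D (nat_lit 3925) (Step.D (nat_lit 6739) Step.done))))) (Scr.cons (nat_lit 12) (nat_lit 1) (Step.F (nat_lit 14139) (Step.D (nat_lit 6739) (Step.F (nat_lit 14140) (Step.B (nat_lit 14139) (Step.D (nat_lit 9907) Step.done))))) (Scr.cons (nat_lit 11) (nat_lit 0) (Step.U (nat_lit 2043) (Step.U (nat_lit 946) (Step.D (nat_lit 945) (Step.D (nat_lit 2041) (Step.D (nat_lit 3928) Step.done))))) (Scr.cons (nat_lit 12) (nat_lit 4) (Step.U (nat_lit 114) (Step.L (Step.L (Step.D (nat_lit 114) (Step.D (nat_lit 353) Step.done))))) (Scr.cons (nat_lit 12) (nat_lit 1) (Step.U (nat_lit 946) (Step.F (nat_lit 14143) (Step.D (nat_lit 353) (Step.D (nat_lit 946) (Step.D (nat_lit 2042) Step.done))))) (Scr.cons (nat_lit 12) (nat_lit 1) (Step.U (nat_lit 2043) (Step.D (nat_lit 2042) (Step.F (nat_lit 14144) (Step.D (nat_lit 2043) (Step.D (nat_lit 3929) Step.done))))) (Scr.cons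 (nat_lit 12) (nat_lit 1) (Step.F (nat_lit 14142) (Step.D (nat_lit 3929) (Step.F (nat_lit 14145) (Step.B (nat_lit 14142) (Step.D (nat_lit 6744) Step.done))))) (Scr.cons (nat_lit 14) (nat_lit 2) (Step.F (nat_lit 14141) (Step.F (nat_lit 14139) (Step.U (nat_lit 3925) (Step.L (Step.L (Step.L (Step.L (Step.L (Step.L (Step.L (Step.L (Step.L (Step.L (Step.D (nat_lit 114) (Step.D (nat_lit 353) (Step.D (nat_lit 945) (Step.D (nat_lit 2041) (Step.D (nat_lit 3928) (Step.B (nat_lit 14146) (Step.D (nat_lit 9912) Step.done)))))))))))))))))))) (Scr.cons (nat_lit 11) (nat_lit 0) (Step.U (nat_lit 941) (Step.U (nat_lit 352) (Step.L (Step.D (nat_lit 940) (Step.D (nat_lit 2028) Step.done))))) (Scr.cons (nat_lit 12) (nat_lit 4) (Step.U (nat_lit 940) (Step.L (Step.L (Step.D (nat_lit 940) (Step.D (nat_lit 2027) Step.done))))) (Scr.cons (nat_lit 12) (nat_lit 1) (Step.U (nat_lit 3902) (Step.F (nat_lit 14149) (Step.D (nat_lit 2027) (Step.D (nat_lit 3902) (Step.D (nat_lit 6702) Step.done))))) (Scr.cons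 (nat_lit 12) (nat_lit 1) (Step.U (nat_lit 6703) (Step.D (nat_lit 6702) (Step.F (nat_lit 14150) (Step.D (nat_lit 6703) (Step.D (nat_lit 9864) Step.done))))) (Scr.cons (nat_lit 11) (nat_lit 0) (Step.U (nat_lit 6703) (Step.U (nat_lit 3902) (Step.D (nat_lit 3901) (Step.D (nat_lit 6701) (Step.D (nat_lit 9863) Step.done))))) (Scr.cons (nat_lit 12) (nat_lit 4) (Step.U (nat_lit 3901) (Step.F (nat_lit 14149) (Step.D (nat_lit 2027) (Step.D (nat_lit 3901) (Step.D (nat_lit 6700) Step.done))))) (Scr.cons (nat_lit 12) (nat_lit 1) (Step.U (nat_lit 5036) (Step.F (nat_lit 8671) (Step.D (nat_lit 2766) (Step.D (nat_lit 5036) (Step.D (nat_lit 8056) Step.done))))) (Scr.cons (nat_lit 15) (nat_lit 0) (Step.U (nat_lit 11030) (Step.F (nat_lit 14154) (Step.U (nat_lit 5036) (Step.F (nat_lit 8671) (Step.U (nat_lit 1357) (Step.F (nat_lit 8670) (Step.L (Step.L (Step.L (Step.L (Step.L (Step.L (Step.D (nat_lit 3860) (Step.D (nat_lit 6649) (Step.D (nat_lit 9816) Step.done))))))))))))))) (Scr.cons (nat_lit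 0) (nat_lit 1) (Step.F (nat_lit 10081) (Step.F (nat_lit 10140) (Step.L Step.done))) (Scr.cons (nat_lit 1) (nat_lit 1) (Step.D (nat_lit 2026) (Step.B (nat_lit 14156) (Step.D (nat_lit 3860) Step.done))) (Scr.cons (nat_lit 0) (nat_lit 1) (Step.U (nat_lit 6649) (Step.F (nat_lit 14157) (Step.L Step.done))) (Scr.cons (nat_lit 1) (nat_lit 1) (Step.U (nat_lit 9816) (Step.B (nat_lit 14158) (Step.D (nat_lit 940) Step.done))) (Scr.cons (nat_lit 0) (nat_lit 1) (Step.B (nat_lit 14155) (Step.B (nat_lit 14159) (Step.D (nat_lit 2027) Step.done))) (Scr.cons (nat_lit 1) (nat_lit 1) (Step.D (nat_lit 11030) (Step.B (nat_lit 14160) (Step.D (nat_lit 3901) Step.done))) (Scr.cons (nat_lit 0) (nat_lit 1) (Step.B (nat_lit 14154) (Step.B (nat_lit 14161) (Step.D (nat_lit 6700) Step.done))) Scr.nil))))))))))))))))))))))))))))))))))))))))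
noncomputable def s354 : Scr := (Scr.cons (nat_lit 0) (nat_lit 0) (Step.B (nat_lit 14153) (Step.F (nat_lit 14162) Step.done)) (Scr.cons (nat_lit 12) (nat_lit 1) (Step.U (nat_lit 8057) (Step.D (nat_lit 8056) (Step.F (nat_lit 14154) (Step.D (nat_lit 8057) (Step.D (nat_lit 11031) Step.done))))) (Scr.cons (nat_lit 12) (nat_lit 0) (Step.F (nat_lit 13936) (Step.F (nat_lit 13928) (Step.D (nat_lit 11031) (Step.F (nat_lit 14164) (Step.B (nat_lit 13928) Step.done))))) (Scr.cons (nat_lit 12) (nat_lit 4) (Step.L (Step.L (Step.L (Step.L (Step.D (nat_lit 1006) Step.done))))) (Scr.cons (nat_lit 13) (nat_lit 0) (Step.U (nat_lit 4093) (Step.F (nat_lit 13937) (Step.L (Step.L (Step.L (Step.L (Step.L (Step.B (nat_lit 14166) (Step.D (nat_lit 2148) (Step.D (nat_lit 4091) (Step.D (nat_lit 6951) Step.done))))))))))) (Scr.cons (nat_lit 12) (nat_lit 1) (Step.U (nat_lit 2148) (Step.F (nat_lit 14166) (Step.D (nat_lit 1006) (Step.D (nat_lit 2148) (Step.D (nat_lit 4091) Step.done))))) (Scr.cons (nat_lit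 12) (nat_lit 1) (Step.U (nat_lit 6952) (Step.F (nat_lit 14168) (Step.D (nat_lit 4091) (Step.D (nat_lit 6952) (Step.D (nat_lit 10082) Step.done))))) (Scr.cons (nat_lit 12) (nat_lit 1) (Step.U (nat_lit 10083) (Step.D (nat_lit 10082) (Step.F (nat_lit 14169) (Step.D (nat_lit 10083) (Step.D (nat_lit 11872) Step.done))))) (Scr.cons (nat_lit 7) (nat_lit 4) (Step.U (nat_lit 11845) (Step.F (nat_lit 14151) (Step.B (nat_lit 14152) (Step.U (nat_lit 9863) (Step.U (nat_lit 6701) (Step.B (nat_lit 14163) (Step.D (nat_lit 8057) (Step.B (nat_lit 13928) (Step.F (nat_lit 14165) (Step.U (nat_lit 10240) (Step.D (nat_lit 10241) (Step.F (nat_lit 13943) (Step.U (nat_lit 11875) (Step.U (nat_lit 10086) (Step.U (nat_lit 6954) (Step.B (nat_lit 14167) (Step.U (nat_lit 6951) (Step.D (nat_lit 6952) (Step.D (nat_lit 10083) (Step.B (nat_lit 14170) Step.done)))))))))))))))))))) (Scr.cons (nat_lit 12) (nat_lit 1) (Step.U (nat_lit 3922) (Step.F (nat_lit 13946) (Step.D (nat_lit 2037) (Step.D (nat_lit 3922)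 (Step.D (nat_lit 6735) Step.done))))) (Scr.cons (nat_lit 4) (nat_lit 0) (Step.F (nat_lit 13955) (Step.U (nat_lit 11840) (Step.F (nat_lit 13947) (Step.D (nat_lit 9904) (Step.D (nat_lit 11848) Step.done))))) (Scr.cons (nat_lit 1) (nat_lit 1) (Step.F (nat_lit 14173) (Step.B (nat_lit 13960) (Step.L Step.done))) (Scr.cons (nat_lit 1) (nat_lit 1) (Step.D (nat_lit 11848) (Step.B (nat_lit 14174) (Step.L Step.done))) (Scr.cons (nat_lit 1) (nat_lit 1) (Step.D (nat_lit 9904) (Step.B (nat_lit 14175) (Step.L Step.done))) (Scr.cons (nat_lit 0) (nat_lit 1) (Step.B (nat_lit 14172) (Step.B (nat_lit 14176) (Step.L Step.done))) (Scr.cons (nat_lit 1) (nat_lit 1) (Step.D (nat_lit 3922) (Step.B (nat_lit 14177) (Step.L Step.done))) (Scr.cons (nat_lit 0) (nat_lit 1) (Step.B (nat_lit 13946) (Step.B (nat_lit 14178) (Step.D (nat_lit 1006) Step.done))) (Scr.cons (nat_lit 1) (nat_lit 0) (Step.U (nat_lit 2148) (Step.F (nat_lit 14179) (Step.L Step.done))) (Scr.cons (nat_lit 0) (nat_lit 1) (Step.U (nat_lit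 4091) (Step.B (nat_lit 14180) (Step.L Step.done))) (Scr.cons (nat_lit 1) (nat_lit 0) (Step.U (nat_lit 6952) (Step.B (nat_lit 14181) (Step.L Step.done))) (Scr.cons (nat_lit 1) (nat_lit 0) (Step.U (nat_lit 10083) (Step.B (nat_lit 14182) (Step.L Step.done))) (Scr.cons (nat_lit 0) (nat_lit 1) (Step.U (nat_lit 11872) (Step.B (nat_lit 14183) (Step.L Step.done))) (Scr.cons (nat_lit 1) (nat_lit 0) (Step.B (nat_lit 14171) (Step.B (nat_lit 14184) (Step.L Step.done))) (Scr.cons (nat_lit 1) (nat_lit 0) (Step.D (nat_lit 11845) (Step.B (nat_lit 14185) (Step.L Step.done))) (Scr.cons (nat_lit 0) (nat_lit 1) (Step.B (nat_lit 14151) (Step.B (nat_lit 14186) (Step.L Step.done))) (Scr.cons (nat_lit 1) (nat_lit 1) (Step.D (nat_lit 6703) (Step.B (nat_lit 14187) (Step.L Step.done))) (Scr.cons (nat_lit 1) (nat_lit 1) (Step.D (nat_lit 3902) (Step.B (nat_lit 14188) (Step.D (nat_lit 114) Step.done))) (Scr.cons (nat_lit 0) (nat_lit 1) (Step.B (nat_lit 14149) (Step.B (nat_lit 14189) (Step.D (nat_lit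 353) Step.done))) (Scr.cons (nat_lit 1) (nat_lit 1) (Step.U (nat_lit 2028) (Step.B (nat_lit 14190) (Step.D (nat_lit 945) Step.done))) (Scr.cons (nat_lit 1) (nat_lit 1) (Step.B (nat_lit 14148) (Step.B (nat_lit 14191) (Step.D (nat_lit 2041) Step.done))) (Scr.cons (nat_lit 1) (nat_lit 1) (Step.U (nat_lit 3928) (Step.F (nat_lit 14192) (Step.U (nat_lit 941) Step.done))) (Scr.cons (nat_lit 8) (nat_lit 1) (Step.L (Step.L (Step.L (Step.L (Step.L (Step.L (Step.L (Step.L (Step.L (Step.L (Step.L (Step.L (Step.L (Step.L (Step.D (nat_lit 352) Step.done))))))))))))))) (Scr.cons (nat_lit 12) (nat_lit 0) (Step.B (nat_lit 14194) (Step.U (nat_lit 352) (Step.L (Step.L (Step.D (nat_lit 352) Step.done))))) (Scr.cons (nat_lit 0) (nat_lit 1) (Step.U (nat_lit 6744) (Step.B (nat_lit 14193) (Step.F (nat_lit 14195) Step.done))) (Scr.cons (nat_lit 1) (nat_lit 1) (Step.U (nat_lit 9912) (Step.B (nat_lit 14196) (Step.D (nat_lit 375) Step.done))) (Scr.cons (nat_lit 1) (nat_lit 1) (Step.B (nat_lit 14147)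 (Step.B (nat_lit 14197) (Step.D (nat_lit 989) Step.done))) (Scr.cons (nat_lit 0) (nat_lit 1) (Step.B (nat_lit 14141) (Step.B (nat_lit 14198) (Step.D (nat_lit 2116) Step.done))) (Scr.cons (nat_lit 1) (nat_lit 1) (Step.B (nat_lit 14139) (Step.B (nat_lit 14199) (Step.D (nat_lit 4040) Step.done))) (Scr.cons (nat_lit 1) (nat_lit 1) (Step.B (nat_lit 14138) (Step.F (nat_lit 14200) (Step.U (nat_lit 3925) Step.done))) (Scr.cons (nat_lit 1) (nat_lit 1) (Step.D (nat_lit 3793) (Step.B (nat_lit 14201) (Step.L Step.done))) Scr.nil))))))))))))))))))))))))))))))))))))))))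
noncomputable def s355 : Scr := (Scr.cons (nat_lit 1) (nat_lit 0) (Step.D (nat_lit 1964) (Step.B (nat_lit 14202) Step.done)) (Scr.cons (nat_lit 12) (nat_lit 1) (Step.L (Step.L (Step.L (Step.L (Step.D (nat_lit 8481) Step.done))))) (Scr.cons (nat_lit 12) (nat_lit 1) (Step.L (Step.D (nat_lit 8481) (Step.F (nat_lit 14204) (Step.L (Step.D (nat_lit 11336) Step.done))))) (Scr.cons (nat_lit 12) (nat_lit 4) (Step.L (Step.L (Step.L (Step.L (Step.D (nat_lit 11443) Step.done))))) (Scr.cons (nat_lit 13) (nat_lit 0) (Step.U (nat_lit 8483) (Step.F (nat_lit 868) (Step.L (Step.L (Step.L (Step.L (Step.L (Step.L (Step.L (Step.D (nat_lit 8481) (Step.D (nat_lit 11335) Step.done))))))))))) (Scr.cons (nat_lit 12) (nat_lit 4) (Step.L (Step.L (Step.L (Step.L (Step.D (nat_lit 5318) Step.done))))) (Scr.cons (nat_lit 12) (nat_lit 4) (Step.U (nat_lit 5317) (Step.L (Step.L (Step.D (nat_lit 5317) (Step.D (nat_lit 8359) Step.done))))) (Scr.cons (nat_lit 13) (nat_lit 2) (Step.U (nat_lit 8361) (Step.U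 (nat_lit 5318) (Step.L (Step.L (Step.L (Step.L (Step.L (Step.L (Step.D (nat_lit 5317) (Step.B (nat_lit 14209) (Step.D (nat_lit 11263) Step.done))))))))))) (Scr.cons (nat_lit 12) (nat_lit 1) (Step.U (nat_lit 8333) (Step.L (Step.L (Step.D (nat_lit 8333) (Step.D (nat_lit 11245) Step.done))))) (Scr.cons (nat_lit 15) (nat_lit 0) (Step.F (nat_lit 14211) (Step.U (nat_lit 8333) (Step.L (Step.L (Step.L (Step.L (Step.L (Step.L (Step.L (Step.L (Step.L (Step.L (Step.L (Step.D (nat_lit 5333) (Step.D (nat_lit 8384) (Step.D (nat_lit 11276) Step.done)))))))))))))))) (Scr.cons (nat_lit 1) (nat_lit 1) (Step.D (nat_lit 11276) (Step.F (nat_lit 14212) Step.done)) (Scr.cons (nat_lit 12) (nat_lit 4) (Step.U (nat_lit 8602) (Step.F (nat_lit 14049) (Step.D (nat_lit 5513) (Step.D (nat_lit 8602) (Step.D (nat_lit 11400) Step.done))))) (Scr.cons (nat_lit 11) (nat_lit 0) (Step.U (nat_lit 3927) (Step.U (nat_lit 2040) (Step.L (Step.L (Step.D (nat_lit 6741) Step.done))))) (Scr.cons (nat_lit 12) (nat_lit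 1) (Step.U (nat_lit 2040) (Step.L (Step.L (Step.D (nat_lit 2040) (Step.D (nat_lit 3926) Step.done))))) (Scr.cons (nat_lit 12) (nat_lit 1) (Step.U (nat_lit 3927) (Step.D (nat_lit 3926) (Step.F (nat_lit 14216) (Step.D (nat_lit 3927) (Step.D (nat_lit 6742) Step.done))))) (Scr.cons (nat_lit 12) (nat_lit 1) (Step.F (nat_lit 14215) (Step.D (nat_lit 6742) (Step.F (nat_lit 14217) (Step.B (nat_lit 14215) (Step.D (nat_lit 9910) Step.done))))) (Scr.cons (nat_lit 0) (nat_lit 1) (Step.B (nat_lit 14218) (Step.F (nat_lit 7228) (Step.D (nat_lit 11491) Step.done))) (Scr.cons (nat_lit 0) (nat_lit 1) (Step.D (nat_lit 11491) (Step.F (nat_lit 14219) Step.done)) (Scr.cons (nat_lit 1) (nat_lit 1) (Step.U (nat_lit 8784) (Step.B (nat_lit 14044) (Step.D (nat_lit 8602) Step.done))) (Scr.cons (nat_lit 0) (nat_lit 1) (Step.F (nat_lit 14220) (Step.B (nat_lit 14221) (Step.D (nat_lit 11400) Step.done))) (Scr.cons (nat_lit 0) (nat_lit 0) (Step.B (nat_lit 14214) (Step.F (nat_lit 14222) Step.done)) (Scr.cons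 (nat_lit 1) (nat_lit 1) (Step.B (nat_lit 10430) (Step.B (nat_lit 14128) (Step.D (nat_lit 6741) Step.done))) (Scr.cons (nat_lit 0) (nat_lit 1) (Step.B (nat_lit 14223) (Step.F (nat_lit 14224) (Step.L Step.done))) (Scr.cons (nat_lit 1) (nat_lit 0) (Step.D (nat_lit 8602) (Step.B (nat_lit 14225) (Step.D (nat_lit 8360) Step.done))) (Scr.cons (nat_lit 1) (nat_lit 0) (Step.D (nat_lit 8360) (Step.F (nat_lit 14226) Step.done)) (Scr.cons (nat_lit 1) (nat_lit 1) (Step.D (nat_lit 5514) (Step.F (nat_lit 14051) Step.done)) (Scr.cons (nat_lit 11) (nat_lit 0) (Step.U (nat_lit 2962) (Step.U (nat_lit 1466) (Step.L (Step.D (nat_lit 2960) (Step.D (nat_lit 5335) Step.done))))) (Scr.cons (nat_lit 12) (nat_lit 1) (Step.U (nat_lit 1466) (Step.L (Step.L (Step.D (nat_lit 1466) (Step.D (nat_lit 2961) Step.done))))) (Scr.cons (nat_lit 12) (nat_lit 1) (Step.U (nat_lit 2962) (Step.D (nat_lit 2961) (Step.F (nat_lit 14230) (Step.D (nat_lit 2962) (Step.D (nat_lit 5336) Step.done))))) (Scr.cons (nat_lit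 12) (nat_lit 1) (Step.F (nat_lit 14229) (Step.D (nat_lit 5336) (Step.F (nat_lit 14231) (Step.B (nat_lit 14229) (Step.D (nat_lit 8386) Step.done))))) (Scr.cons (nat_lit 11) (nat_lit 0) (Step.U (nat_lit 1455) (Step.U (nat_lit 611) (Step.D (nat_lit 610) (Step.D (nat_lit 1453) (Step.D (nat_lit 2940) Step.done))))) (Scr.cons (nat_lit 12) (nat_lit 1) (Step.U (nat_lit 611) (Step.L (Step.L (Step.D (nat_lit 611) (Step.D (nat_lit 1454) Step.done))))) (Scr.cons (nat_lit 12) (nat_lit 1) (Step.U (nat_lit 1455) (Step.D (nat_lit 1454) (Step.F (nat_lit 14234) (Step.D (nat_lit 1455) (Step.D (nat_lit 2943) Step.done))))) (Scr.cons (nat_lit 12) (nat_lit 1) (Step.F (nat_lit 14233) (Step.D (nat_lit 2943) (Step.F (nat_lit 14235) (Step.B (nat_lit 14233) (Step.D (nat_lit 5305) Step.done))))) (Scr.cons (nat_lit 7) (nat_lit 5) (Step.F (nat_lit 14232) (Step.U (nat_lit 5335) (Step.U (nat_lit 2960) (Step.L (Step.L (Step.L (Step.L (Step.L (Step.L (Step.L (Step.L (Step.L (Step.L (Step.L (Step.L (Step.D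 (nat_lit 611) (Step.D (nat_lit 1455) (Step.B (nat_lit 14233) (Step.B (nat_lit 14236) (Step.D (nat_lit 8345) Step.done)))))))))))))))))))) (Scr.cons (nat_lit 1) (nat_lit 1) (Step.U (nat_lit 1453) (Step.F (nat_lit 13871) (Step.L Step.done))) (Scr.cons (nat_lit 1) (nat_lit 1) (Step.U (nat_lit 2940) (Step.B (nat_lit 14238) (Step.L Step.done))) (Scr.cons (nat_lit 0) (nat_lit 1) (Step.U (nat_lit 5305) (Step.B (nat_lit 14239) (Step.F (nat_lit 7545) Step.done))) (Scr.cons (nat_lit 1) (nat_lit 0) (Step.U (nat_lit 8345) (Step.B (nat_lit 14240) (Step.D (nat_lit 530) Step.done))) (Scr.cons (nat_lit 1) (nat_lit 0) (Step.B (nat_lit 14237) (Step.B (nat_lit 14241) (Step.B (nat_lit 14015) Step.done))) Scr.nil))))))))))))))))))))))))))))))))))))))))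
noncomputable def s356 : Scr := (Scr.cons (nat_lit 0) (nat_lit 1) (Step.B (nat_lit 14232) (Step.B (nat_lit 14242) (Step.D (nat_lit 2665) Step.done))) (Scr.cons (nat_lit 1) (nat_lit 0) (Step.D (nat_lit 5335) (Step.B (nat_lit 14243) (Step.D (nat_lit 4882) Step.done))) (Scr.cons (nat_lit 1) (nat_lit 0) (Step.B (nat_lit 14228) (Step.F (nat_lit 14244) (Step.U (nat_lit 2960) Step.done))) (Scr.cons (nat_lit 0) (nat_lit 1) (Step.U (nat_lit 5513) (Step.B (nat_lit 14245) (Step.L Step.done))) (Scr.cons (nat_lit 1) (nat_lit 1) (Step.B (nat_lit 14227) (Step.B (nat_lit 14246) (Step.D (nat_lit 5333) Step.done))) (Scr.cons (nat_lit 0) (nat_lit 1) (Step.U (nat_lit 8384) (Step.F (nat_lit 14247) (Step.L Step.done))) (Scr.cons (nat_lit 1) (nat_lit 1) (Step.F (nat_lit 14213) (Step.B (nat_lit 14248) (Step.L Step.done))) (Scr.cons (nat_lit 0) (nat_lit 1) (Step.B (nat_lit 14211) (Step.B (nat_lit 14249) (Step.L Step.done))) (Scr.cons (nat_lit 1) (nat_lit 1) (Step.D (nat_lit 8333) (Step.B (nat_lit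 14250) (Step.D (nat_lit 5317) Step.done))) (Scr.cons (nat_lit 0) (nat_lit 1) (Step.U (nat_lit 8359) (Step.F (nat_lit 14251) (Step.L Step.done))) (Scr.cons (nat_lit 1) (nat_lit 0) (Step.U (nat_lit 11263) (Step.B (nat_lit 14252) (Step.L Step.done))) (Scr.cons (nat_lit 0) (nat_lit 1) (Step.B (nat_lit 14210) (Step.B (nat_lit 14253) (Step.L Step.done))) (Scr.cons (nat_lit 1) (nat_lit 1) (Step.D (nat_lit 8361) (Step.B (nat_lit 14254) (Step.L Step.done))) (Scr.cons (nat_lit 0) (nat_lit 1) (Step.B (nat_lit 14208) (Step.B (nat_lit 14255) (Step.D (nat_lit 5410) Step.done))) (Scr.cons (nat_lit 1) (nat_lit 1) (Step.U (nat_lit 8483) (Step.F (nat_lit 14256) (Step.D (nat_lit 5319) Step.done))) (Scr.cons (nat_lit 0) (nat_lit 1) (Step.F (nat_lit 14207) (Step.B (nat_lit 14257) (Step.D (nat_lit 8362) Step.done))) (Scr.cons (nat_lit 1) (nat_lit 0) (Step.D (nat_lit 11335) (Step.B (nat_lit 14258) (Step.D (nat_lit 11264) Step.done))) (Scr.cons (nat_lit 1) (nat_lit 0) (Step.D (nat_lit 11264)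 (Step.F (nat_lit 14259) Step.done)) (Scr.cons (nat_lit 7) (nat_lit 2) (Step.U (nat_lit 3432) (Step.U (nat_lit 1748) (Step.U (nat_lit 773) (Step.L (Step.L (Step.L (Step.L (Step.L (Step.L (Step.L (Step.L (Step.L (Step.L (Step.L (Step.L (Step.L (Step.L (Step.L (Step.L (Step.D (nat_lit 5320) Step.done)))))))))))))))))))) (Scr.cons (nat_lit 11) (nat_lit 0) (Step.B (nat_lit 14261) (Step.U (nat_lit 5320) (Step.L (Step.L (Step.D (nat_lit 5319) Step.done))))) (Scr.cons (nat_lit 12) (nat_lit 4) (Step.U (nat_lit 1748) (Step.D (nat_lit 1747) (Step.F (nat_lit 2935) (Step.D (nat_lit 1748) (Step.D (nat_lit 3432) Step.done))))) (Scr.cons (nat_lit 12) (nat_lit 1) (Step.F (nat_lit 14262) (Step.F (nat_lit 14263) (Step.D (nat_lit 3432) (Step.B (nat_lit 14262) (Step.D (nat_lit 8362) Step.done))))) (Scr.cons (nat_lit 15) (nat_lit 1) (Step.L (Step.D (nat_lit 8481) (Step.F (nat_lit 14260) (Step.F (nat_lit 14264) (Step.F (nat_lit 14262) (Step.F (nat_lit 14263) (Step.D (nat_lit 3433) (Step.F (nat_lit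 3611) (Step.L (Step.L (Step.L (Step.L (Step.L (Step.L (Step.L (Step.D (nat_lit 11443) Step.done)))))))))))))))) (Scr.cons (nat_lit 0) (nat_lit 1) (Step.B (nat_lit 14206) (Step.F (nat_lit 14265) (Step.D (nat_lit 11336) Step.done))) (Scr.cons (nat_lit 0) (nat_lit 0) (Step.B (nat_lit 14205) (Step.F (nat_lit 14266) Step.done)) (Scr.cons (nat_lit 12) (nat_lit 1) (Step.U (nat_lit 5320) (Step.L (Step.L (Step.D (nat_lit 5320) (Step.D (nat_lit 8363) Step.done))))) (Scr.cons (nat_lit 12) (nat_lit 4) (Step.L (Step.L (Step.L (Step.L (Step.D (nat_lit 8705) Step.done))))) (Scr.cons (nat_lit 0) (nat_lit 1) (Step.D (nat_lit 5606) (Step.F (nat_lit 3610) Step.done)) (Scr.cons (nat_lit 13) (nat_lit 1) (Step.F (nat_lit 14261) (Step.F (nat_lit 14263) (Step.D (nat_lit 3433) (Step.F (nat_lit 14270) (Step.L (Step.L (Step.L (Step.L (Step.L (Step.L (Step.L (Step.B (nat_lit 14269) Step.done)))))))))))) (Scr.cons (nat_lit 0) (nat_lit 1) (Step.B (nat_lit 14269) (Step.F (nat_lit 14271) (Step.D (nat_lit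 8363) Step.done))) (Scr.cons (nat_lit 0) (nat_lit 0) (Step.B (nat_lit 14268) (Step.F (nat_lit 14272) Step.done)) (Scr.cons (nat_lit 16) (nat_lit 2) (Step.L (Step.L (Step.L (Step.L (Step.L (Step.L (Step.F (nat_lit 14273) (Step.U (nat_lit 5320) (Step.L (Step.L (Step.L (Step.L (Step.L (Step.L (Step.L (Step.L (Step.L (Step.L (Step.L (Step.L (Step.L (Step.L (Step.L (Step.D (nat_lit 11331) Step.done)))))))))))))))))))))))) (Scr.cons (nat_lit 1) (nat_lit 0) (Step.D (nat_lit 11331) (Step.F (nat_lit 14274) (Step.D (nat_lit 8703) Step.done))) (Scr.cons (nat_lit 1) (nat_lit 0) (Step.D (nat_lit 8703) (Step.F (nat_lit 14275) Step.done)) (Scr.cons (nat_lit 12) (nat_lit 4) (Step.U (nat_lit 8549) (Step.L (Step.L (Step.D (nat_lit 8549) (Step.D (nat_lit 11374) Step.done))))) (Scr.cons (nat_lit 4) (nat_lit 0) (Step.L (Step.L (Step.L (Step.L (Step.D (nat_lit 8355) Step.done))))) (Scr.cons (nat_lit 16) (nat_lit 3) (Step.B (nat_lit 14278) (Step.U (nat_lit 8355) (Step.L (Step.L (Step.L (Step.L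 (Step.L (Step.L (Step.L (Step.L (Step.L (Step.L (Step.L (Step.L (Step.L (Step.L (Step.L (Step.L (Step.L (Step.L (Step.L (Step.L (Step.D (nat_lit 8549) (Step.D (nat_lit 11374) Step.done)))))))))))))))))))))))) (Scr.cons (nat_lit 0) (nat_lit 1) (Step.B (nat_lit 14277) (Step.F (nat_lit 14279) (Step.L Step.done))) (Scr.cons (nat_lit 1) (nat_lit 0) (Step.D (nat_lit 8549) (Step.B (nat_lit 14280) (Step.D (nat_lit 11278) Step.done))) (Scr.cons (nat_lit 1) (nat_lit 0) (Step.D (nat_lit 11278) (Step.F (nat_lit 14281) Step.done)) Scr.nil))))))))))))))))))))))))))))))))))))))))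
noncomputable def s357 : Scr := (Scr.cons (nat_lit 12) (nat_lit 4) (Step.L (Step.L (Step.L (Step.L (Step.D (nat_lit 8550) Step.done))))) (Scr.cons (nat_lit 12) (nat_lit 4) (Step.L (Step.D (nat_lit 8550) (Step.F (nat_lit 14283) (Step.L (Step.D (nat_lit 11375) Step.done))))) (Scr.cons (nat_lit 12) (nat_lit 4) (Step.U (nat_lit 8387) (Step.L (Step.L (Step.D (nat_lit 8387) (Step.D (nat_lit 11277) Step.done))))) (Scr.cons (nat_lit 13) (nat_lit 1) (Step.L (Step.L (Step.L (Step.L (Step.L (Step.L (Step.L (Step.L (Step.L (Step.L (Step.D (nat_lit 8387) (Step.B (nat_lit 14285) Step.done)))))))))))) (Scr.cons (nat_lit 0) (nat_lit 1) (Step.B (nat_lit 14285) (Step.F (nat_lit 14286) (Step.D (nat_lit 8550) Step.done))) (Scr.cons (nat_lit 0) (nat_lit 0) (Step.B (nat_lit 14283) (Step.F (nat_lit 14287) Step.done)) (Scr.cons (nat_lit 15) (nat_lit 1) (Step.L (Step.L (Step.L (Step.L (Step.L (Step.L (Step.L (Step.L (Step.L (Step.L (Step.L (Step.L (Step.D (nat_lit 8387) (Step.F (nat_lit 14288)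 (Step.L (Step.D (nat_lit 11375) Step.done)))))))))))))))) (Scr.cons (nat_lit 0) (nat_lit 0) (Step.B (nat_lit 14284) (Step.F (nat_lit 14289) Step.done)) (Scr.cons (nat_lit 11) (nat_lit 0) (Step.U (nat_lit 5601) (Step.U (nat_lit 3160) (Step.D (nat_lit 3159) (Step.D (nat_lit 5599) (Step.D (nat_lit 8690) Step.done))))) (Scr.cons (nat_lit 12) (nat_lit 4) (Step.U (nat_lit 673) (Step.D (nat_lit 672) (Step.F (nat_lit 12994) (Step.D (nat_lit 673) (Step.D (nat_lit 1587) Step.done))))) (Scr.cons (nat_lit 12) (nat_lit 1) (Step.U (nat_lit 3160) (Step.F (nat_lit 14292) (Step.D (nat_lit 1587) (Step.D (nat_lit 3160) (Step.D (nat_lit 5600) Step.done))))) (Scr.cons (nat_lit 12) (nat_lit 1) (Step.U (nat_lit 5601) (Step.D (nat_lit 5600) (Step.F (nat_lit 14293) (Step.D (nat_lit 5601) (Step.D (nat_lit 8693) Step.done))))) (Scr.cons (nat_lit 12) (nat_lit 1) (Step.F (nat_lit 14291) (Step.D (nat_lit 8693) (Step.F (nat_lit 14294) (Step.B (nat_lit 14291) (Step.D (nat_lit 11449) Step.done))))) (Scr.cons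 (nat_lit 12) (nat_lit 1) (Step.L (Step.L (Step.L (Step.L (Step.D (nat_lit 8704) Step.done))))) (Scr.cons (nat_lit 7) (nat_lit 5) (Step.F (nat_lit 14295) (Step.U (nat_lit 8690) (Step.U (nat_lit 5599) (Step.U (nat_lit 3159) (Step.U (nat_lit 1587) (Step.U (nat_lit 673) (Step.U (nat_lit 244) (Step.L (Step.L (Step.L (Step.L (Step.L (Step.L (Step.L (Step.L (Step.L (Step.L (Step.L (Step.B (nat_lit 14296) (Step.D (nat_lit 11457) Step.done)))))))))))))))))))) (Scr.cons (nat_lit 12) (nat_lit 4) (Step.U (nat_lit 890) (Step.L (Step.L (Step.D (nat_lit 890) (Step.D (nat_lit 1928) Step.done))))) (Scr.cons (nat_lit 12) (nat_lit 1) (Step.U (nat_lit 3742) (Step.F (nat_lit 14298) (Step.D (nat_lit 1928) (Step.D (nat_lit 3742) (Step.D (nat_lit 6487) Step.done))))) (Scr.cons (nat_lit 12) (nat_lit 1) (Step.U (nat_lit 9631) (Step.F (nat_lit 14299) (Step.D (nat_lit 6487) (Step.D (nat_lit 9631) (Step.D (nat_lit 11790) Step.done))))) (Scr.cons (nat_lit 1) (nat_lit 1) (Step.D (nat_lit 6488) (Step.F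 (nat_lit 13690) Step.done)) (Scr.cons (nat_lit 15) (nat_lit 0) (Step.F (nat_lit 14300) (Step.U (nat_lit 9631) (Step.F (nat_lit 14299) (Step.U (nat_lit 3742) (Step.F (nat_lit 14298) (Step.D (nat_lit 1929) (Step.D (nat_lit 3743) (Step.B (nat_lit 14301) (Step.L (Step.L (Step.L (Step.L (Step.L (Step.L (Step.D (nat_lit 8704) (Step.D (nat_lit 11456) Step.done)))))))))))))))) (Scr.cons (nat_lit 0) (nat_lit 1) (Step.D (nat_lit 11790) (Step.B (nat_lit 14302) Step.done)) (Scr.cons (nat_lit 13) (nat_lit 0) (Step.U (nat_lit 9630) (Step.F (nat_lit 14299) (Step.U (nat_lit 3742) (Step.U (nat_lit 1928) (Step.U (nat_lit 890) (Step.L (Step.L (Step.L (Step.D (nat_lit 6486) (Step.D (nat_lit 9628) (Step.D (nat_lit 11789) Step.done))))))))))) (Scr.cons (nat_lit 12) (nat_lit 1) (Step.U (nat_lit 1655) (Step.L (Step.L (Step.D (nat_lit 1655) (Step.D (nat_lit 3300) Step.done))))) (Scr.cons (nat_lit 12) (nat_lit 1) (Step.L (Step.L (Step.L (Step.L (Step.D (nat_lit 705) Step.done))))) (Scr.cons (nat_lit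 8) (nat_lit 1) (Step.L (Step.L (Step.L (Step.L (Step.L (Step.L (Step.L (Step.L (Step.L (Step.L (Step.L (Step.L (Step.L (Step.B (nat_lit 14306) (Step.D (nat_lit 1653) Step.done))))))))))))))) (Scr.cons (nat_lit 12) (nat_lit 0) (Step.B (nat_lit 14307) (Step.U (nat_lit 1653) (Step.F (nat_lit 14306) (Step.D (nat_lit 705) (Step.D (nat_lit 1653) Step.done))))) (Scr.cons (nat_lit 13) (nat_lit 0) (Step.U (nat_lit 5846) (Step.F (nat_lit 14305) (Step.U (nat_lit 1655) (Step.L (Step.L (Step.L (Step.L (Step.B (nat_lit 14308) (Step.D (nat_lit 3298) (Step.D (nat_lit 5841) (Step.D (nat_lit 8979) Step.done))))))))))) (Scr.cons (nat_lit 12) (nat_lit 1) (Step.U (nat_lit 3298) (Step.F (nat_lit 14308) (Step.B (nat_lit 14307) (Step.D (nat_lit 3298) (Step.D (nat_lit 5841) Step.done))))) (Scr.cons (nat_lit 6) (nat_lit 3) (Step.U (nat_lit 5846) (Step.U (nat_lit 3300) (Step.U (nat_lit 1655) (Step.L (Step.L (Step.L (Step.L (Step.B (nat_lit 14307) (Step.D (nat_lit 3298) (Step.B (nat_lit 14310) (Step.D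 (nat_lit 8979) Step.done))))))))))) (Scr.cons (nat_lit 12) (nat_lit 4) (Step.U (nat_lit 8983) (Step.B (nat_lit 14309) (Step.F (nat_lit 14311) (Step.D (nat_lit 8983) (Step.D (nat_lit 11579) Step.done))))) (Scr.cons (nat_lit 11) (nat_lit 0) (Step.U (nat_lit 3298) (Step.U (nat_lit 1653) (Step.D (nat_lit 1652) (Step.D (nat_lit 3297) (Step.D (nat_lit 5840) Step.done))))) (Scr.cons (nat_lit 12) (nat_lit 1) (Step.F (nat_lit 14313) (Step.D (nat_lit 5841) (Step.F (nat_lit 14310) (Step.B (nat_lit 14313) (Step.D (nat_lit 8978) Step.done))))) (Scr.cons (nat_lit 9) (nat_lit 5) (Step.U (nat_lit 1616) (Step.U (nat_lit 687) (Step.L (Step.L (Step.L (Step.L (Step.L (Step.L (Step.L (Step.L (Step.L (Step.L (Step.L (Step.L (Step.L (Step.L (Step.L (Step.L (Step.B (nat_lit 14306) (Step.D (nat_lit 1653) (Step.D (nat_lit 3298) (Step.B (nat_lit 14313) (Step.B (nat_lit 14314) (Step.D (nat_lit 11577) Step.done)))))))))))))))))))))))) (Scr.cons (nat_lit 1) (nat_lit 1) (Step.D (nat_lit 11577) (Step.F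 (nat_lit 14315) (Step.D (nat_lit 3207) Step.done))) (Scr.cons (nat_lit 0) (nat_lit 1) (Step.B (nat_lit 14314) (Step.B (nat_lit 14316) (Step.D (nat_lit 5690) Step.done))) (Scr.cons (nat_lit 1) (nat_lit 1) (Step.B (nat_lit 14313) (Step.B (nat_lit 14317) (Step.D (nat_lit 8794) Step.done))) (Scr.cons (nat_lit 1) (nat_lit 1) (Step.D (nat_lit 8794) (Step.F (nat_lit 14318) Step.done)) (Scr.cons (nat_lit 12) (nat_lit 1) (Step.U (nat_lit 5689) (Step.L (Step.L (Step.D (nat_lit 5689) (Step.D (nat_lit 8793) Step.done))))) (Scr.cons (nat_lit 8) (nat_lit 1) (Step.U (nat_lit 11579) (Step.U (nat_lit 8983) (Step.B (nat_lit 14311) (Step.U (nat_lit 8979) (Step.U (nat_lit 5841) (Step.F (nat_lit 14319) (Step.U (nat_lit 5690) (Step.U (nat_lit 3207) (Step.U (nat_lit 1616) (Step.U (nat_lit 687) (Step.L (Step.L (Step.L (Step.D (nat_lit 5689) (Step.B (nat_lit 14320) (Step.D (nat_lit 11497) Step.done)))))))))))))))) (Scr.cons (nat_lit 0) (nat_lit 0) (Step.B (nat_lit 14312) (Step.B (nat_lit 14321)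 Step.done)) Scr.nil))))))))))))))))))))))))))))))))))))))))
noncomputable def s358 : Scr := (Scr.cons (nat_lit 0) (nat_lit 1) (Step.U (nat_lit 7869) (Step.B (nat_lit 13686) (Step.L Step.done))) (Scr.cons (nat_lit 1) (nat_lit 1) (Step.B (nat_lit 7719) (Step.B (nat_lit 14323) (Step.L Step.done))) (Scr.cons (nat_lit 0) (nat_lit 1) (Step.U (nat_lit 8793) (Step.B (nat_lit 14324) (Step.L Step.done))) (Scr.cons (nat_lit 1) (nat_lit 0) (Step.U (nat_lit 11497) (Step.B (nat_lit 14325) (Step.D (nat_lit 6486) Step.done))) (Scr.cons (nat_lit 0) (nat_lit 1) (Step.B (nat_lit 14322) (Step.B (nat_lit 14326) (Step.D (nat_lit 9628) Step.done))) (Scr.cons (nat_lit 1) (nat_lit 1) (Step.U (nat_lit 11789) (Step.F (nat_lit 14327) (Step.D (nat_lit 11580) Step.done))) (Scr.cons (nat_lit 0) (nat_lit 1) (Step.B (nat_lit 14304) (Step.B (nat_lit 14328) Step.done)) (Scr.cons (nat_lit 11) (nat_lit 0) (Step.U (nat_lit 8984) (Step.U (nat_lit 5847) (Step.D (nat_lit 5846) (Step.D (nat_lit 8983) (Step.D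 (nat_lit 11580) Step.done))))) (Scr.cons (nat_lit 14) (nat_lit 0) (Step.U (nat_lit 5598) (Step.D (nat_lit 5599) (Step.D (nat_lit 8690) (Step.D (nat_lit 11449) (Step.B (nat_lit 14297) (Step.U (nat_lit 11457) (Step.D (nat_lit 11456) (Step.F (nat_lit 14303) (Step.U (nat_lit 9631) (Step.D (nat_lit 9630) (Step.B (nat_lit 14329) (Step.F (nat_lit 14330) (Step.U (nat_lit 8984) (Step.U (nat_lit 5847) (Step.U (nat_lit 3300) (Step.U (nat_lit 1655) (Step.L (Step.L (Step.L (Step.D (nat_lit 8981) (Step.D (nat_lit 11578) Step.done))))))))))))))))))))) (Scr.cons (nat_lit 11) (nat_lit 0) (Step.U (nat_lit 3762) (Step.U (nat_lit 1945) (Step.L (Step.L (Step.D (nat_lit 5947) Step.done))))) (Scr.cons (nat_lit 12) (nat_lit 1) (Step.U (nat_lit 1945) (Step.L (Step.L (Step.D (nat_lit 1945) (Step.D (nat_lit 3761) Step.done))))) (Scr.cons (nat_lit 12) (nat_lit 1) (Step.U (nat_lit 3762) (Step.D (nat_lit 3761) (Step.F (nat_lit 14333) (Step.D (nat_lit 3762) (Step.D (nat_lit 6513) Step.done))))) (Scr.cons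 (nat_lit 12) (nat_lit 1) (Step.F (nat_lit 14332) (Step.D (nat_lit 6513) (Step.F (nat_lit 14334) (Step.B (nat_lit 14332) (Step.D (nat_lit 9106) Step.done))))) (Scr.cons (nat_lit 14) (nat_lit 4) (Step.U (nat_lit 8651) (Step.U (nat_lit 5554) (Step.U (nat_lit 3128) (Step.U (nat_lit 1569) (Step.D (nat_lit 1568) (Step.D (nat_lit 3126) (Step.F (nat_lit 2454) (Step.U (nat_lit 1704) (Step.U (nat_lit 741) (Step.L (Step.L (Step.L (Step.L (Step.L (Step.L (Step.L (Step.L (Step.L (Step.D (nat_lit 5947) (Step.D (nat_lit 9106) Step.done)))))))))))))))))))) (Scr.cons (nat_lit 11) (nat_lit 0) (Step.F (nat_lit 14336) (Step.U (nat_lit 8651) (Step.U (nat_lit 5554) (Step.D (nat_lit 5553) (Step.D (nat_lit 8650) Step.done))))) (Scr.cons (nat_lit 0) (nat_lit 1) (Step.U (nat_lit 3128) (Step.B (nat_lit 2536) (Step.L Step.done))) (Scr.cons (nat_lit 1) (nat_lit 1) (Step.U (nat_lit 5553) (Step.B (nat_lit 14338) (Step.D (nat_lit 244) Step.done))) (Scr.cons (nat_lit 1) (nat_lit 1) (Step.U (nat_lit 8650)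 (Step.B (nat_lit 14339) (Step.D (nat_lit 673) Step.done))) (Scr.cons (nat_lit 1) (nat_lit 1) (Step.B (nat_lit 14337) (Step.B (nat_lit 14340) (Step.D (nat_lit 1588) Step.done))) (Scr.cons (nat_lit 0) (nat_lit 1) (Step.B (nat_lit 14335) (Step.B (nat_lit 14341) (Step.D (nat_lit 3161) Step.done))) (Scr.cons (nat_lit 1) (nat_lit 0) (Step.D (nat_lit 5947) (Step.B (nat_lit 14342) (Step.D (nat_lit 5602) Step.done))) (Scr.cons (nat_lit 1) (nat_lit 0) (Step.D (nat_lit 5602) (Step.F (nat_lit 14343) Step.done)) (Scr.cons (nat_lit 12) (nat_lit 4) (Step.U (nat_lit 3159) (Step.F (nat_lit 14292) (Step.D (nat_lit 1587) (Step.D (nat_lit 3159) (Step.D (nat_lit 5598) Step.done))))) (Scr.cons (nat_lit 13) (nat_lit 2) (Step.L (Step.L (Step.L (Step.L (Step.L (Step.F (nat_lit 14344) (Step.U (nat_lit 3161) (Step.U (nat_lit 1588) (Step.D (nat_lit 1587) (Step.D (nat_lit 3159) (Step.B (nat_lit 14345) (Step.D (nat_lit 8689) Step.done)))))))))))) (Scr.cons (nat_lit 1) (nat_lit 1) (Step.D (nat_lit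 8689) (Step.F (nat_lit 14346) (Step.D (nat_lit 9107) Step.done))) (Scr.cons (nat_lit 1) (nat_lit 1) (Step.D (nat_lit 9107) (Step.F (nat_lit 14347) Step.done)) (Scr.cons (nat_lit 1) (nat_lit 0) (Step.D (nat_lit 11578) (Step.F (nat_lit 14331) (Step.F (nat_lit 14348) Step.done))) (Scr.cons (nat_lit 1) (nat_lit 0) (Step.D (nat_lit 8981) (Step.B (nat_lit 14349) (Step.D (nat_lit 9108) Step.done))) (Scr.cons (nat_lit 1) (nat_lit 0) (Step.D (nat_lit 9108) (Step.F (nat_lit 14350) Step.done)) (Scr.cons (nat_lit 6) (nat_lit 3) (Step.L (Step.L (Step.L (Step.L (Step.L (Step.L (Step.L (Step.L (Step.L (Step.L (Step.D (nat_lit 11468) Step.done))))))))))) (Scr.cons (nat_lit 12) (nat_lit 1) (Step.L (Step.L (Step.L (Step.L (Step.D (nat_lit 11223) Step.done))))) (Scr.cons (nat_lit 15) (nat_lit 0) (Step.U (nat_lit 2908) (Step.L (Step.L (Step.L (Step.L (Step.L (Step.L (Step.L (Step.L (Step.L (Step.L (Step.L (Step.L (Step.L (Step.D (nat_lit 5240) Step.done))))))))))))))) (Scr.cons (nat_lit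 12) (nat_lit 4) (Step.U (nat_lit 5240) (Step.L (Step.L (Step.D (nat_lit 5240) (Step.F (nat_lit 14354) Step.done))))) (Scr.cons (nat_lit 12) (nat_lit 1) (Step.U (nat_lit 5259) (Step.F (nat_lit 14355) (Step.F (nat_lit 14354) (Step.D (nat_lit 5259) (Step.D (nat_lit 8299) Step.done))))) (Scr.cons (nat_lit 13) (nat_lit 0) (Step.U (nat_lit 11238) (Step.F (nat_lit 14356) (Step.U (nat_lit 5259) (Step.B (nat_lit 14354) (Step.U (nat_lit 5240) (Step.L (Step.L (Step.L (Step.L (Step.D (nat_lit 11223) (Step.D (nat_lit 12026) Step.done))))))))))) (Scr.cons (nat_lit 11) (nat_lit 0) (Step.U (nat_lit 5259) (Step.U (nat_lit 2908) (Step.D (nat_lit 2907) (Step.D (nat_lit 5258) (Step.D (nat_lit 8298) Step.done))))) (Scr.cons (nat_lit 12) (nat_lit 4) (Step.U (nat_lit 2907) (Step.L (Step.L (Step.D (nat_lit 2907) (Step.D (nat_lit 5257) Step.done))))) (Scr.cons (nat_lit 6) (nat_lit 0) (Step.L (Step.F (nat_lit 11847) (Step.F (nat_lit 11845) (Step.U (nat_lit 1434) (Step.U (nat_lit 599) (Step.F (nat_lit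 11833) (Step.L (Step.L (Step.L (Step.D (nat_lit 2907) (Step.D (nat_lit 5257) Step.done))))))))))) (Scr.cons (nat_lit 12) (nat_lit 1) (Step.U (nat_lit 4872) (Step.L (Step.L (Step.D (nat_lit 4872) (Step.D (nat_lit 7865) Step.done))))) (Scr.cons (nat_lit 15) (nat_lit 1) (Step.F (nat_lit 14361) (Step.U (nat_lit 4872) (Step.L (Step.L (Step.L (Step.L (Step.L (Step.L (Step.L (Step.L (Step.L (Step.L (Step.L (Step.D (nat_lit 2672) (Step.D (nat_lit 4886) Step.done))))))))))))))) Scr.nil))))))))))))))))))))))))))))))))))))))))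
noncomputable def s359 : Scr := (Scr.cons (nat_lit 11) (nat_lit 0) (Step.U (nat_lit 10884) (Step.U (nat_lit 7888) (Step.F (nat_lit 14362) (Step.D (nat_lit 10861) (Step.D (nat_lit 11979) Step.done))))) (Scr.cons (nat_lit 12) (nat_lit 1) (Step.L (Step.L (Step.L (Step.L (Step.D (nat_lit 2674) Step.done))))) (Scr.cons (nat_lit 11) (nat_lit 0) (Step.L (Step.L (Step.L (Step.L (Step.D (nat_lit 2673) Step.done))))) (Scr.cons (nat_lit 12) (nat_lit 4) (Step.L (Step.L (Step.L (Step.L (Step.D (nat_lit 617) Step.done))))) (Scr.cons (nat_lit 12) (nat_lit 4) (Step.U (nat_lit 1467) (Step.F (nat_lit 14366) (Step.D (nat_lit 617) (Step.D (nat_lit 1467) (Step.D (nat_lit 2966) Step.done))))) (Scr.cons (nat_lit 13) (nat_lit 2) (Step.U (nat_lit 4887) (Step.U (nat_lit 2674) (Step.B (nat_lit 14365) (Step.B (nat_lit 5952) (Step.U (nat_lit 2967) (Step.U (nat_lit 1468) (Step.L (Step.D (nat_lit 617) (Step.D (nat_lit 1467) (Step.B (nat_lit 14367) (Step.D (nat_lit 5346) Step.done))))))))))) (Scr.cons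 (nat_lit 11) (nat_lit 0) (Step.U (nat_lit 8398) (Step.U (nat_lit 5346) (Step.D (nat_lit 5345) (Step.D (nat_lit 8397) (Step.D (nat_lit 11283) Step.done))))) (Scr.cons (nat_lit 12) (nat_lit 4) (Step.U (nat_lit 1585) (Step.F (nat_lit 12994) (Step.D (nat_lit 672) (Step.D (nat_lit 1585) (Step.D (nat_lit 3155) Step.done))))) (Scr.cons (nat_lit 12) (nat_lit 1) (Step.U (nat_lit 5595) (Step.F (nat_lit 14370) (Step.D (nat_lit 3155) (Step.D (nat_lit 5595) (Step.D (nat_lit 8686) Step.done))))) (Scr.cons (nat_lit 13) (nat_lit 0) (Step.U (nat_lit 8691) (Step.F (nat_lit 14293) (Step.U (nat_lit 3160) (Step.U (nat_lit 1587) (Step.U (nat_lit 673) (Step.D (nat_lit 672) (Step.D (nat_lit 1585) (Step.B (nat_lit 14370) (Step.D (nat_lit 5595) (Step.D (nat_lit 8686) (Step.D (nat_lit 11447) Step.done))))))))))) (Scr.cons (nat_lit 12) (nat_lit 4) (Step.U (nat_lit 5165) (Step.F (nat_lit 12451) (Step.D (nat_lit 2864) (Step.D (nat_lit 5165) (Step.D (nat_lit 8179) Step.done))))) (Scr.cons (nat_lit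 0) (nat_lit 0) (Step.B (nat_lit 14373) (Step.F (nat_lit 12448) Step.done)) (Scr.cons (nat_lit 12) (nat_lit 4) (Step.U (nat_lit 2941) (Step.F (nat_lit 14234) (Step.D (nat_lit 1454) (Step.D (nat_lit 2941) (Step.D (nat_lit 5306) Step.done))))) (Scr.cons (nat_lit 13) (nat_lit 3) (Step.U (nat_lit 5306) (Step.U (nat_lit 2941) (Step.F (nat_lit 14234) (Step.U (nat_lit 611) (Step.L (Step.B (nat_lit 14062) (Step.D (nat_lit 609) (Step.D (nat_lit 1451) (Step.B (nat_lit 14098) (Step.D (nat_lit 5300) (Step.D (nat_lit 8340) Step.done))))))))))) (Scr.cons (nat_lit 1) (nat_lit 0) (Step.D (nat_lit 10429) (Step.B (nat_lit 14100) (Step.U (nat_lit 2938) Step.done))) (Scr.cons (nat_lit 0) (nat_lit 1) (Step.U (nat_lit 10428) (Step.B (nat_lit 14377) (Step.D (nat_lit 2937) Step.done))) (Scr.cons (nat_lit 1) (nat_lit 0) (Step.B (nat_lit 12467) (Step.B (nat_lit 14378) (Step.D (nat_lit 5300) Step.done))) (Scr.cons (nat_lit 0) (nat_lit 1) (Step.B (nat_lit 12444) (Step.B (nat_lit 14379) (Step.D (nat_lit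 8340) Step.done))) (Scr.cons (nat_lit 1) (nat_lit 1) (Step.B (nat_lit 14376) (Step.F (nat_lit 14380) (Step.F (nat_lit 12442) Step.done))) (Scr.cons (nat_lit 0) (nat_lit 1) (Step.B (nat_lit 14375) (Step.B (nat_lit 14381) (Step.F (nat_lit 14374) Step.done))) (Scr.cons (nat_lit 0) (nat_lit 1) (Step.F (nat_lit 14374) (Step.F (nat_lit 14382) Step.done)) (Scr.cons (nat_lit 14) (nat_lit 0) (Step.U (nat_lit 4921) (Step.U (nat_lit 2692) (Step.L (Step.L (Step.L (Step.L (Step.L (Step.L (Step.L (Step.L (Step.L (Step.L (Step.L (Step.L (Step.L (Step.L (Step.L (Step.L (Step.D (nat_lit 3299) (Step.D (nat_lit 5845) Step.done)))))))))))))))))))) (Scr.cons (nat_lit 12) (nat_lit 4) (Step.U (nat_lit 3299) (Step.L (Step.L (Step.D (nat_lit 3299) (Step.D (nat_lit 5844) Step.done))))) (Scr.cons (nat_lit 12) (nat_lit 3) (Step.B (nat_lit 14384) (Step.U (nat_lit 5845) (Step.D (nat_lit 5844) (Step.F (nat_lit 14385) (Step.D (nat_lit 5845) Step.done))))) (Scr.cons (nat_lit 11) (nat_lit 0) (Step.U (nat_lit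 8982) (Step.L (Step.L (Step.D (nat_lit 8981) (Step.D (nat_lit 11578) Step.done))))) (Scr.cons (nat_lit 1) (nat_lit 1) (Step.B (nat_lit 14387) (Step.F (nat_lit 14331) (Step.D (nat_lit 8688) Step.done))) (Scr.cons (nat_lit 1) (nat_lit 1) (Step.D (nat_lit 8982) (Step.B (nat_lit 14388) (Step.D (nat_lit 11448) Step.done))) (Scr.cons (nat_lit 1) (nat_lit 1) (Step.D (nat_lit 11448) (Step.F (nat_lit 14389) Step.done)) (Scr.cons (nat_lit 7) (nat_lit 2) (Step.U (nat_lit 5307) (Step.F (nat_lit 14383) (Step.B (nat_lit 12442) (Step.U (nat_lit 7925) (Step.L (Step.L (Step.D (nat_lit 2692) (Step.D (nat_lit 4921) (Step.B (nat_lit 14386) (Step.U (nat_lit 5845) (Step.U (nat_lit 3299) (Step.L (Step.L (Step.F (nat_lit 14390) (Step.U (nat_lit 8688) (Step.U (nat_lit 5598) (Step.U (nat_lit 3159) (Step.D (nat_lit 3160) (Step.D (nat_lit 5600) (Step.D (nat_lit 8692) (Step.D (nat_lit 11450) Step.done))))))))))))))))))))) (Scr.cons (nat_lit 1) (nat_lit 1) (Step.D (nat_lit 11450) (Step.F (nat_lit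 14391) (Step.D (nat_lit 8346) Step.done))) (Scr.cons (nat_lit 11) (nat_lit 0) (Step.U (nat_lit 5309) (Step.U (nat_lit 2942) (Step.D (nat_lit 2941) (Step.D (nat_lit 5307) (Step.D (nat_lit 8346) Step.done))))) (Scr.cons (nat_lit 1) (nat_lit 1) (Step.D (nat_lit 8692) (Step.B (nat_lit 14392) (Step.F (nat_lit 14393) Step.done))) (Scr.cons (nat_lit 1) (nat_lit 1) (Step.U (nat_lit 8691) (Step.B (nat_lit 14394) (Step.U (nat_lit 5309) Step.done))) (Scr.cons (nat_lit 0) (nat_lit 1) (Step.F (nat_lit 14372) (Step.B (nat_lit 14395) (Step.D (nat_lit 5308) Step.done))) (Scr.cons (nat_lit 1) (nat_lit 0) (Step.D (nat_lit 11447) (Step.B (nat_lit 14396) (Step.D (nat_lit 8347) Step.done))) (Scr.cons (nat_lit 12) (nat_lit 1) (Step.U (nat_lit 2942) (Step.F (nat_lit 14234) (Step.D (nat_lit 1454) (Step.D (nat_lit 2942) (Step.D (nat_lit 5308) Step.done))))) (Scr.cons (nat_lit 8) (nat_lit 1) (Step.U (nat_lit 5345) (Step.U (nat_lit 2966) (Step.U (nat_lit 1467) (Step.U (nat_lit 617) (Step.L (Step.L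 (Step.L (Step.L (Step.L (Step.L (Step.D (nat_lit 611) (Step.B (nat_lit 14234) (Step.D (nat_lit 2942) (Step.B (nat_lit 14398) (Step.D (nat_lit 8347) Step.done))))))))))))))) (Scr.cons (nat_lit 12) (nat_lit 0) (Step.B (nat_lit 14399) (Step.U (nat_lit 8347) (Step.F (nat_lit 14398) (Step.D (nat_lit 5308) (Step.D (nat_lit 8347) Step.done))))) (Scr.cons (nat_lit 0) (nat_lit 1) (Step.B (nat_lit 14371) (Step.B (nat_lit 14397) (Step.F (nat_lit 14400) Step.done))) (Scr.cons (nat_lit 1) (nat_lit 1) (Step.D (nat_lit 5595) (Step.B (nat_lit 14401) (Step.D (nat_lit 8397) Step.done))) Scr.nil))))))))))))))))))))))))))))))))))))))))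
noncomputable def s360 : Scr := (Scr.cons (nat_lit 1) (nat_lit 1) (Step.U (nat_lit 11283) (Step.F (nat_lit 14402) (Step.D (nat_lit 5594) Step.done))) (Scr.cons (nat_lit 1) (nat_lit 1) (Step.B (nat_lit 14369) (Step.B (nat_lit 14403) (Step.D (nat_lit 8685) Step.done))) (Scr.cons (nat_lit 1) (nat_lit 1) (Step.D (nat_lit 8685) (Step.F (nat_lit 14404) Step.done)) (Scr.cons (nat_lit 12) (nat_lit 1) (Step.U (nat_lit 3162) (Step.L (Step.L (Step.D (nat_lit 3162) (Step.D (nat_lit 5603) Step.done))))) (Scr.cons (nat_lit 9) (nat_lit 2) (Step.B (nat_lit 14362) (Step.U (nat_lit 4886) (Step.U (nat_lit 2672) (Step.L (Step.L (Step.L (Step.L (Step.B (nat_lit 14364) (Step.D (nat_lit 4887) (Step.B (nat_lit 14368) (Step.D (nat_lit 8398) (Step.F (nat_lit 14405) (Step.U (nat_lit 5594) (Step.U (nat_lit 3155) (Step.U (nat_lit 1585) (Step.U (nat_lit 672) (Step.U (nat_lit 244) (Step.L (Step.L (Step.L (Step.D (nat_lit 3162) (Step.B (nat_lit 14406) (Step.D (nat_lit 8695) (Step.D (nat_lit 11453) Step.done))))))))))))))))))))))))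 (Scr.cons (nat_lit 1) (nat_lit 1) (Step.D (nat_lit 11453) (Step.F (nat_lit 14407) (Step.D (nat_lit 10861) Step.done))) (Scr.cons (nat_lit 1) (nat_lit 1) (Step.U (nat_lit 11979) (Step.F (nat_lit 14408) (Step.U (nat_lit 8695) Step.done))) (Scr.cons (nat_lit 1) (nat_lit 1) (Step.B (nat_lit 14363) (Step.B (nat_lit 14409) (Step.D (nat_lit 8694) Step.done))) (Scr.cons (nat_lit 1) (nat_lit 1) (Step.D (nat_lit 10884) (Step.B (nat_lit 14410) (Step.D (nat_lit 11452) Step.done))) (Scr.cons (nat_lit 1) (nat_lit 1) (Step.D (nat_lit 11452) (Step.F (nat_lit 14411) Step.done)) (Scr.cons (nat_lit 12) (nat_lit 4) (Step.U (nat_lit 8694) (Step.F (nat_lit 14406) (Step.D (nat_lit 5603) (Step.D (nat_lit 8694) (Step.D (nat_lit 11451) Step.done))))) (Scr.cons (nat_lit 13) (nat_lit 3) (Step.U (nat_lit 11451) (Step.U (nat_lit 8694) (Step.F (nat_lit 14406) (Step.U (nat_lit 3162) (Step.L (Step.B (nat_lit 12998) (Step.D (nat_lit 3161) (Step.B (nat_lit 13000) (Step.L (Step.L (Step.L Step.done)))))))))))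 (Scr.cons (nat_lit 1) (nat_lit 0) (Step.B (nat_lit 2911) (Step.B (nat_lit 2958) Step.done)) (Scr.cons (nat_lit 12) (nat_lit 1) (Step.L (Step.L (Step.L (Step.L (Step.D (nat_lit 2052) Step.done))))) (Scr.cons (nat_lit 7) (nat_lit 6) (Step.U (nat_lit 5945) (Step.L (Step.L (Step.L (Step.L (Step.L (Step.L (Step.L (Step.L (Step.L (Step.L (Step.L (Step.L (Step.L (Step.L (Step.L (Step.L (Step.B (nat_lit 14416) (Step.D (nat_lit 3942) (Step.D (nat_lit 6760) Step.done)))))))))))))))))))) (Scr.cons (nat_lit 11) (nat_lit 0) (Step.U (nat_lit 3359) (Step.U (nat_lit 1692) (Step.L (Step.L (Step.D (nat_lit 5945) Step.done))))) (Scr.cons (nat_lit 14) (nat_lit 6) (Step.U (nat_lit 9927) (Step.B (nat_lit 2959) (Step.F (nat_lit 14415) (Step.F (nat_lit 14417) (Step.F (nat_lit 14418) (Step.U (nat_lit 3359) (Step.U (nat_lit 1692) (Step.L (Step.L (Step.L (Step.L (Step.L (Step.L (Step.L (Step.L (Step.F (nat_lit 14344) (Step.B (nat_lit 13000) (Step.L (Step.L (Step.D (nat_lit 11469) Step.done))))))))))))))))))))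 (Scr.cons (nat_lit 4) (nat_lit 0) (Step.B (nat_lit 14419) (Step.U (nat_lit 11469) (Step.L (Step.L (Step.D (nat_lit 11470) Step.done))))) (Scr.cons (nat_lit 9) (nat_lit 3) (Step.F (nat_lit 14357) (Step.U (nat_lit 11238) (Step.U (nat_lit 8299) (Step.B (nat_lit 14358) (Step.U (nat_lit 8298) (Step.U (nat_lit 5258) (Step.B (nat_lit 14359) (Step.F (nat_lit 14360) (Step.L (Step.L (Step.L (Step.L (Step.L (Step.D (nat_lit 4872) (Step.B (nat_lit 14361) (Step.B (nat_lit 14362) (Step.D (nat_lit 7888) (Step.F (nat_lit 14412) (Step.B (nat_lit 14413) (Step.B (nat_lit 14414) (Step.L (Step.D (nat_lit 11470) (Step.F (nat_lit 14420) (Step.B (nat_lit 14419) Step.done)))))))))))))))))))))))) (Scr.cons (nat_lit 1) (nat_lit 0) (Step.D (nat_lit 12026) (Step.B (nat_lit 14421) (Step.U (nat_lit 11469) Step.done))) (Scr.cons (nat_lit 13) (nat_lit 0) (Step.L (Step.L (Step.L (Step.L (Step.L (Step.L (Step.L (Step.L (Step.L (Step.L (Step.D (nat_lit 11468) Step.done))))))))))) (Scr.cons (nat_lit 0) (nat_lit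 1) (Step.B (nat_lit 14353) (Step.B (nat_lit 14422) (Step.B (nat_lit 14423) Step.done))) (Scr.cons (nat_lit 0) (nat_lit 0) (Step.B (nat_lit 14352) (Step.F (nat_lit 14424) Step.done)) (Scr.cons (nat_lit 13) (nat_lit 0) (Step.U (nat_lit 2666) (Step.F (nat_lit 14016) (Step.U (nat_lit 530) (Step.B (nat_lit 7545) (Step.L (Step.L (Step.L (Step.L (Step.L (Step.D (nat_lit 1414) (Step.D (nat_lit 2868) Step.done))))))))))) (Scr.cons (nat_lit 11) (nat_lit 0) (Step.U (nat_lit 5174) (Step.U (nat_lit 2869) (Step.D (nat_lit 2868) (Step.D (nat_lit 5172) (Step.D (nat_lit 8187) Step.done))))) (Scr.cons (nat_lit 16) (nat_lit 3) (Step.U (nat_lit 11989) (Step.L (Step.L (Step.L (Step.L (Step.D (nat_lit 2673) (Step.F (nat_lit 14365) (Step.L (Step.L (Step.L (Step.L (Step.D (nat_lit 529) (Step.D (nat_lit 1301) (Step.F (nat_lit 14015) (Step.D (nat_lit 1302) (Step.D (nat_lit 2666) (Step.B (nat_lit 14426) (Step.D (nat_lit 5172) (Step.D (nat_lit 8187) (Step.F (nat_lit 14427) (Step.D (nat_lit 8188)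 (Step.D (nat_lit 11156) (Step.D (nat_lit 12015) Step.done))))))))))))))))))))))) (Scr.cons (nat_lit 12) (nat_lit 1) (Step.U (nat_lit 2869) (Step.F (nat_lit 193) (Step.D (nat_lit 1414) (Step.D (nat_lit 2869) (Step.D (nat_lit 5173) Step.done))))) (Scr.cons (nat_lit 12) (nat_lit 1) (Step.U (nat_lit 5174) (Step.D (nat_lit 5173) (Step.F (nat_lit 14429) (Step.D (nat_lit 5174) (Step.D (nat_lit 8188) Step.done))))) (Scr.cons (nat_lit 12) (nat_lit 1) (Step.F (nat_lit 14427) (Step.D (nat_lit 8188) (Step.F (nat_lit 14430) (Step.B (nat_lit 14427) (Step.D (nat_lit 11155) Step.done))))) (Scr.cons (nat_lit 9) (nat_lit 5) (Step.U (nat_lit 11197) (Step.U (nat_lit 8232) (Step.U (nat_lit 5207) (Step.U (nat_lit 2883) (Step.U (nat_lit 1421) (Step.U (nat_lit 590) (Step.B (nat_lit 513) (Step.U (nat_lit 588) (Step.L (Step.L (Step.L (Step.L (Step.L (Step.L (Step.L (Step.L (Step.L (Step.B (nat_lit 193) (Step.D (nat_lit 2869) (Step.D (nat_lit 5174) (Step.B (nat_lit 14427) (Step.B (nat_lit 14431)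 (Step.D (nat_lit 12014) Step.done))))))))))))))))))))))) (Scr.cons (nat_lit 11) (nat_lit 0) (Step.U (nat_lit 8233) (Step.U (nat_lit 5208) (Step.D (nat_lit 5207) (Step.D (nat_lit 8232) (Step.D (nat_lit 11197) Step.done))))) (Scr.cons (nat_lit 12) (nat_lit 1) (Step.U (nat_lit 589) (Step.F (nat_lit 514) (Step.D (nat_lit 210) (Step.D (nat_lit 589) (Step.D (nat_lit 1420) Step.done))))) (Scr.cons (nat_lit 12) (nat_lit 4) (Step.U (nat_lit 2882) (Step.F (nat_lit 14434) (Step.D (nat_lit 1420) (Step.D (nat_lit 2882) (Step.D (nat_lit 5206) Step.done))))) (Scr.cons (nat_lit 13) (nat_lit 2) (Step.U (nat_lit 5208) (Step.U (nat_lit 2883) (Step.U (nat_lit 1421) (Step.F (nat_lit 515) (Step.U (nat_lit 211) (Step.B (nat_lit 514) (Step.D (nat_lit 589) (Step.D (nat_lit 1420) (Step.D (nat_lit 2882) (Step.B (nat_lit 14435) (Step.D (nat_lit 8231) Step.done))))))))))) (Scr.cons (nat_lit 12) (nat_lit 4) (Step.U (nat_lit 2862) (Step.F (nat_lit 7547) (Step.D (nat_lit 1410) (Step.D (nat_lit 2862)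 (Step.D (nat_lit 5163) Step.done))))) (Scr.cons (nat_lit 12) (nat_lit 4) (Step.U (nat_lit 8177) (Step.F (nat_lit 14437) (Step.D (nat_lit 5163) (Step.D (nat_lit 8177) (Step.D (nat_lit 11146) Step.done))))) (Scr.cons (nat_lit 15) (nat_lit 1) (Step.F (nat_lit 14434) (Step.U (nat_lit 589) (Step.F (nat_lit 514) (Step.U (nat_lit 56) (Step.L (Step.L (Step.L (Step.L (Step.L (Step.L (Step.L (Step.D (nat_lit 8) (Step.D (nat_lit 57) (Step.D (nat_lit 214) (Step.D (nat_lit 595) Step.done))))))))))))))) (Scr.cons (nat_lit 12) (nat_lit 1) (Step.F (nat_lit 14358) (Step.D (nat_lit 8299) (Step.F (nat_lit 14356) (Step.B (nat_lit 14358) (Step.D (nat_lit 11237) Step.done))))) (Scr.cons (nat_lit 12) (nat_lit 1) (Step.U (nat_lit 2667) (Step.F (nat_lit 14016) (Step.D (nat_lit 1302) (Step.D (nat_lit 2667) (Step.D (nat_lit 4883) Step.done))))) (Scr.cons (nat_lit 12) (nat_lit 4) (Step.U (nat_lit 7883) (Step.F (nat_lit 14441) (Step.D (nat_lit 4883) (Step.D (nat_lit 7883) (Step.D (nat_lit 10880)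 Step.done))))) Scr.nil))))))))))))))))))))))))))))))))))))))))
noncomputable def s361 : Scr := (Scr.cons (nat_lit 12) (nat_lit 4) (Step.U (nat_lit 4881) (Step.F (nat_lit 14017) (Step.D (nat_lit 2665) (Step.D (nat_lit 4881) (Step.D (nat_lit 7880) Step.done))))) (Scr.cons (nat_lit 13) (nat_lit 3) (Step.U (nat_lit 10880) (Step.U (nat_lit 7883) (Step.F (nat_lit 14441) (Step.U (nat_lit 2667) (Step.U (nat_lit 1302) (Step.B (nat_lit 14015) (Step.D (nat_lit 2665) (Step.D (nat_lit 4881) (Step.B (nat_lit 14443) (Step.D (nat_lit 10876) (Step.D (nat_lit 11984) Step.done))))))))))) (Scr.cons (nat_lit 11) (nat_lit 0) (Step.U (nat_lit 3088) (Step.U (nat_lit 1547) (Step.D (nat_lit 1546) (Step.D (nat_lit 3087) (Step.D (nat_lit 5514) Step.done))))) (Scr.cons (nat_lit 1) (nat_lit 1) (Step.B (nat_lit 14445) (Step.F (nat_lit 14051) (Step.U (nat_lit 4882) Step.done))) (Scr.cons (nat_lit 1) (nat_lit 1) (Step.D (nat_lit 3088) (Step.B (nat_lit 14446) (Step.D (nat_lit 4881) Step.done))) (Scr.cons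 (nat_lit 6) (nat_lit 1) (Step.U (nat_lit 1547) (Step.L (Step.L (Step.L (Step.L (Step.L (Step.L (Step.L (Step.L (Step.D (nat_lit 1544) (Step.D (nat_lit 3084) Step.done))))))))))) (Scr.cons (nat_lit 0) (nat_lit 1) (Step.U (nat_lit 7880) (Step.F (nat_lit 14447) (Step.B (nat_lit 14448) Step.done))) (Scr.cons (nat_lit 1) (nat_lit 0) (Step.U (nat_lit 10876) (Step.B (nat_lit 14449) (Step.D (nat_lit 5510) Step.done))) (Scr.cons (nat_lit 0) (nat_lit 1) (Step.U (nat_lit 11984) (Step.B (nat_lit 14450) (Step.D (nat_lit 8598) Step.done))) (Scr.cons (nat_lit 12) (nat_lit 1) (Step.U (nat_lit 5864) (Step.F (nat_lit 2424) (Step.F (nat_lit 2423) (Step.D (nat_lit 5864) (Step.D (nat_lit 9005) Step.done))))) (Scr.cons (nat_lit 1) (nat_lit 0) (Step.D (nat_lit 11583) (Step.B (nat_lit 14022) (Step.D (nat_lit 1547) Step.done))) (Scr.cons (nat_lit 0) (nat_lit 1) (Step.B (nat_lit 14452) (Step.B (nat_lit 14453) (Step.B (nat_lit 14448) Step.done))) (Scr.cons (nat_lit 1) (nat_lit 0) (Step.F (nat_lit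 2906) (Step.B (nat_lit 14454) (Step.D (nat_lit 5510) Step.done))) (Scr.cons (nat_lit 0) (nat_lit 1) (Step.F (nat_lit 2961) (Step.B (nat_lit 14455) (Step.D (nat_lit 8598) Step.done))) (Scr.cons (nat_lit 1) (nat_lit 1) (Step.B (nat_lit 2960) (Step.B (nat_lit 14456) (Step.D (nat_lit 11396) Step.done))) (Scr.cons (nat_lit 1) (nat_lit 1) (Step.D (nat_lit 11396) (Step.F (nat_lit 14457) Step.done)) (Scr.cons (nat_lit 1) (nat_lit 1) (Step.B (nat_lit 14444) (Step.B (nat_lit 14451) (Step.B (nat_lit 14458) Step.done))) (Scr.cons (nat_lit 0) (nat_lit 1) (Step.B (nat_lit 14442) (Step.B (nat_lit 14459) (Step.D (nat_lit 9487) Step.done))) (Scr.cons (nat_lit 0) (nat_lit 1) (Step.D (nat_lit 9487) (Step.F (nat_lit 14460) Step.done)) (Scr.cons (nat_lit 11) (nat_lit 0) (Step.U (nat_lit 5510) (Step.U (nat_lit 3084) (Step.D (nat_lit 3083) (Step.D (nat_lit 5509) (Step.D (nat_lit 8597) Step.done))))) (Scr.cons (nat_lit 1) (nat_lit 0) (Step.D (nat_lit 9004) (Step.B (nat_lit 14455) (Step.B (nat_lit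 14462) Step.done))) (Scr.cons (nat_lit 1) (nat_lit 0) (Step.B (nat_lit 14462) (Step.F (nat_lit 14463) Step.done)) (Scr.cons (nat_lit 12) (nat_lit 4) (Step.U (nat_lit 3941) (Step.F (nat_lit 14416) (Step.D (nat_lit 2052) (Step.D (nat_lit 3941) (Step.D (nat_lit 6758) Step.done))))) (Scr.cons (nat_lit 12) (nat_lit 4) (Step.U (nat_lit 6759) (Step.D (nat_lit 6758) (Step.F (nat_lit 14465) (Step.D (nat_lit 6759) (Step.D (nat_lit 9927) Step.done))))) (Scr.cons (nat_lit 0) (nat_lit 1) (Step.B (nat_lit 14357) (Step.B (nat_lit 14421) Step.done)) (Scr.cons (nat_lit 8) (nat_lit 0) (Step.U (nat_lit 11986) (Step.U (nat_lit 10881) (Step.F (nat_lit 14461) (Step.F (nat_lit 14458) (Step.U (nat_lit 8598) (Step.B (nat_lit 14464) (Step.B (nat_lit 2910) (Step.F (nat_lit 2959) (Step.B (nat_lit 14466) (Step.B (nat_lit 14419) (Step.F (nat_lit 14467) (Step.U (nat_lit 11238) (Step.U (nat_lit 8299) (Step.B (nat_lit 14358) (Step.B (nat_lit 14440) Step.done))))))))))))))) (Scr.cons (nat_lit 12) (nat_lit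 1) (Step.U (nat_lit 7884) (Step.F (nat_lit 14441) (Step.D (nat_lit 4883) (Step.D (nat_lit 7884) (Step.D (nat_lit 10882) Step.done))))) (Scr.cons (nat_lit 15) (nat_lit 0) (Step.U (nat_lit 11987) (Step.F (nat_lit 14469) (Step.U (nat_lit 7884) (Step.F (nat_lit 14441) (Step.U (nat_lit 2667) (Step.F (nat_lit 14016) (Step.U (nat_lit 530) (Step.F (nat_lit 7546) (Step.D (nat_lit 585) (Step.D (nat_lit 1410) (Step.D (nat_lit 2862) (Step.D (nat_lit 5163) (Step.D (nat_lit 8177) (Step.D (nat_lit 11146) (Step.D (nat_lit 12009) Step.done))))))))))))))) (Scr.cons (nat_lit 9) (nat_lit 2) (Step.B (nat_lit 14439) (Step.U (nat_lit 595) (Step.U (nat_lit 214) (Step.U (nat_lit 57) (Step.U (nat_lit 8) (Step.L (Step.L (Step.L (Step.L (Step.L (Step.D (nat_lit 2908) (Step.D (nat_lit 5259) (Step.B (nat_lit 14358) (Step.B (nat_lit 14440) (Step.F (nat_lit 14468) (Step.U (nat_lit 11986) (Step.U (nat_lit 10881) (Step.U (nat_lit 7883) (Step.D (nat_lit 7884) (Step.B (nat_lit 14469) (Step.D (nat_lit 11987)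 (Step.B (nat_lit 14470) (Step.U (nat_lit 12009) (Step.D (nat_lit 12010) Step.done)))))))))))))))))))))))) (Scr.cons (nat_lit 1) (nat_lit 1) (Step.D (nat_lit 12010) (Step.F (nat_lit 14471) (Step.D (nat_lit 2882) Step.done))) (Scr.cons (nat_lit 0) (nat_lit 1) (Step.B (nat_lit 14438) (Step.B (nat_lit 14472) (Step.D (nat_lit 5206) Step.done))) (Scr.cons (nat_lit 1) (nat_lit 0) (Step.D (nat_lit 8177) (Step.B (nat_lit 14473) (Step.D (nat_lit 8231) Step.done))) (Scr.cons (nat_lit 0) (nat_lit 1) (Step.B (nat_lit 14436) (Step.F (nat_lit 14474) (Step.F (nat_lit 14437) Step.done))) (Scr.cons (nat_lit 1) (nat_lit 0) (Step.U (nat_lit 8233) (Step.B (nat_lit 14475) (Step.U (nat_lit 2862) Step.done))) (Scr.cons (nat_lit 1) (nat_lit 0) (Step.F (nat_lit 14433) (Step.B (nat_lit 14476) (Step.D (nat_lit 2863) Step.done))) (Scr.cons (nat_lit 12) (nat_lit 4) (Step.U (nat_lit 2592) (Step.F (nat_lit 7701) (Step.B (nat_lit 12445) (Step.D (nat_lit 2592) (Step.D (nat_lit 4768) Step.done))))) (Scr.cons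 (nat_lit 0) (nat_lit 0) (Step.B (nat_lit 14478) (Step.F (nat_lit 7644) Step.done)) (Scr.cons (nat_lit 0) (nat_lit 1) (Step.F (nat_lit 14432) (Step.B (nat_lit 14477) (Step.F (nat_lit 14479) Step.done))) (Scr.cons (nat_lit 1) (nat_lit 1) (Step.D (nat_lit 12014) (Step.B (nat_lit 14480) (Step.F (nat_lit 7702) Step.done))) (Scr.cons (nat_lit 0) (nat_lit 1) (Step.B (nat_lit 14431) (Step.B (nat_lit 14481) (Step.F (nat_lit 173) Step.done))) Scr.nil))))))))))))))))))))))))))))))))))))))))
noncomputable def s362 : Scr := (Scr.cons (nat_lit 1) (nat_lit 1) (Step.B (nat_lit 14427) (Step.B (nat_lit 14482) (Step.L Step.done))) (Scr.cons (nat_lit 0) (nat_lit 1) (Step.U (nat_lit 8188) (Step.B (nat_lit 14483) (Step.L Step.done))) (Scr.cons (nat_lit 1) (nat_lit 1) (Step.U (nat_lit 11156) (Step.B (nat_lit 14484) (Step.L Step.done))) (Scr.cons (nat_lit 0) (nat_lit 1) (Step.U (nat_lit 12015) (Step.B (nat_lit 14485) (Step.L Step.done))) (Scr.cons (nat_lit 1) (nat_lit 1) (Step.B (nat_lit 14428)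 (Step.B (nat_lit 14486) (Step.L Step.done))) (Scr.cons (nat_lit 1) (nat_lit 1) (Step.D (nat_lit 11989) (Step.B (nat_lit 14487) (Step.D (nat_lit 11988) Step.done))) (Scr.cons (nat_lit 1) (nat_lit 1) (Step.D (nat_lit 11988) (Step.F (nat_lit 14488) Step.done)) (Scr.cons (nat_lit 1) (nat_lit 1) (Step.D (nat_lit 5174) (Step.B (nat_lit 14483) (Step.D (nat_lit 2669) Step.done))) (Scr.cons (nat_lit 1) (nat_lit 1) (Step.D (nat_lit 2869) (Step.B (nat_lit 14490) (Step.F (nat_lit 7703) Step.done))) (Scr.cons (nat_lit 0) (nat_lit 1) (Step.B (nat_lit 193) (Step.B (nat_lit 14491) (Step.F (nat_lit 7709) Step.done))) (Scr.cons (nat_lit 1) (nat_lit 1) (Step.D (nat_lit 1666) (Step.F (nat_lit 14492) (Step.L Step.done))) (Scr.cons (nat_lit 1) (nat_lit 1) (Step.D (nat_lit 712) (Step.B (nat_lit 14493) (Step.D (nat_lit 587) Step.done))) (Scr.cons (nat_lit 1) (nat_lit 1) (Step.D (nat_lit 587) (Step.F (nat_lit 14494) Step.done)) (Scr.cons (nat_lit 12) (nat_lit 1) (Step.L (Step.L (Step.L (Step.L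 (Step.D (nat_lit 10450) Step.done))))) (Scr.cons (nat_lit 12) (nat_lit 4) (Step.U (nat_lit 722) (Step.L (Step.L (Step.D (nat_lit 722) (Step.D (nat_lit 1682) Step.done))))) (Scr.cons (nat_lit 13) (nat_lit 0) (Step.U (nat_lit 5914) (Step.L (Step.L (Step.L (Step.L (Step.L (Step.D (nat_lit 722) (Step.B (nat_lit 14497) (Step.D (nat_lit 3341) (Step.D (nat_lit 5913) (Step.D (nat_lit 9076) Step.done))))))))))) (Scr.cons (nat_lit 11) (nat_lit 0) (Step.U (nat_lit 4767) (Step.L (Step.D (nat_lit 2591) (Step.D (nat_lit 4765) (Step.D (nat_lit 7742) Step.done))))) (Scr.cons (nat_lit 12) (nat_lit 1) (Step.L (Step.L (Step.L (Step.L (Step.D (nat_lit 4766) Step.done))))) (Scr.cons (nat_lit 12) (nat_lit 1) (Step.U (nat_lit 4767) (Step.D (nat_lit 4766) (Step.F (nat_lit 14500) (Step.D (nat_lit 4767) (Step.D (nat_lit 7743) Step.done))))) (Scr.cons (nat_lit 12) (nat_lit 1) (Step.F (nat_lit 14499) (Step.D (nat_lit 7743) (Step.F (nat_lit 14501) (Step.B (nat_lit 14499) (Step.D (nat_lit 10749) Step.done)))))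 (Scr.cons (nat_lit 12) (nat_lit 1) (Step.F (nat_lit 13256) (Step.L (Step.L (Step.B (nat_lit 13256) (Step.D (nat_lit 7751) Step.done))))) (Scr.cons (nat_lit 7) (nat_lit 5) (Step.F (nat_lit 14502) (Step.U (nat_lit 7742) (Step.U (nat_lit 4765) (Step.U (nat_lit 2591) (Step.L (Step.L (Step.L (Step.L (Step.L (Step.L (Step.L (Step.L (Step.L (Step.L (Step.L (Step.L (Step.L (Step.B (nat_lit 13256) (Step.B (nat_lit 14503) (Step.D (nat_lit 10760) Step.done)))))))))))))))))))) (Scr.cons (nat_lit 0) (nat_lit 1) (Step.U (nat_lit 7751) (Step.B (nat_lit 13266) (Step.L Step.done))) (Scr.cons (nat_lit 1) (nat_lit 0) (Step.U (nat_lit 10760) (Step.B (nat_lit 14505) (Step.D (nat_lit 9047) Step.done))) (Scr.cons (nat_lit 16) (nat_lit 4) (Step.U (nat_lit 5915) (Step.L (Step.L (Step.L (Step.L (Step.L (Step.L (Step.L (Step.L (Step.L (Step.L (Step.L (Step.L (Step.L (Step.L (Step.L (Step.L (Step.L (Step.L (Step.L (Step.L (Step.L (Step.D (nat_lit 9046) Step.done))))))))))))))))))))))) (Scr.cons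 (nat_lit 4) (nat_lit 0) (Step.U (nat_lit 5914) (Step.D (nat_lit 5915) (Step.B (nat_lit 14507) (Step.U (nat_lit 9046) (Step.D (nat_lit 9047) Step.done))))) (Scr.cons (nat_lit 1) (nat_lit 0) (Step.B (nat_lit 14504) (Step.B (nat_lit 14506) (Step.F (nat_lit 14508) Step.done))) (Scr.cons (nat_lit 0) (nat_lit 1) (Step.B (nat_lit 14502) (Step.B (nat_lit 14509) (Step.B (nat_lit 14498) Step.done))) (Scr.cons (nat_lit 0) (nat_lit 1) (Step.B (nat_lit 14498) (Step.F (nat_lit 14510) Step.done)) (Scr.cons (nat_lit 12) (nat_lit 4) (Step.L (Step.L (Step.L (Step.L (Step.D (nat_lit 5216) Step.done))))) (Scr.cons (nat_lit 12) (nat_lit 4) (Step.U (nat_lit 5217) (Step.D (nat_lit 5216) (Step.F (nat_lit 14512) (Step.D (nat_lit 5217) (Step.D (nat_lit 8245) Step.done))))) (Scr.cons (nat_lit 12) (nat_lit 4) (Step.U (nat_lit 5164) (Step.D (nat_lit 5163) (Step.F (nat_lit 14437) (Step.D (nat_lit 5164) (Step.D (nat_lit 8178) Step.done))))) (Scr.cons (nat_lit 13) (nat_lit 0) (Step.U (nat_lit 5222)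 (Step.L (Step.L (Step.L (Step.L (Step.L (Step.L (Step.L (Step.D (nat_lit 2889) (Step.D (nat_lit 5218) (Step.D (nat_lit 8247) Step.done))))))))))) (Scr.cons (nat_lit 12) (nat_lit 1) (Step.L (Step.L (Step.L (Step.L (Step.D (nat_lit 5166) Step.done))))) (Scr.cons (nat_lit 7) (nat_lit 3) (Step.U (nat_lit 11149) (Step.U (nat_lit 8180) (Step.F (nat_lit 14516) (Step.L (Step.L (Step.L (Step.L (Step.L (Step.L (Step.L (Step.L (Step.L (Step.L (Step.L (Step.L (Step.L (Step.L (Step.L (Step.D (nat_lit 10807) (Step.D (nat_lit 11971) Step.done)))))))))))))))))))) (Scr.cons (nat_lit 12) (nat_lit 1) (Step.U (nat_lit 10807) (Step.L (Step.L (Step.D (nat_lit 10807) (Step.D (nat_lit 11970) Step.done))))) (Scr.cons (nat_lit 12) (nat_lit 0) (Step.B (nat_lit 14517) (Step.U (nat_lit 11971) (Step.D (nat_lit 11970) (Step.F (nat_lit 14518) (Step.D (nat_lit 11971) Step.done))))) (Scr.cons (nat_lit 11) (nat_lit 0) (Step.L (Step.L (Step.D (nat_lit 5222) (Step.D (nat_lit 8253) (Step.D (nat_lit 11205)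 Step.done))))) (Scr.cons (nat_lit 11) (nat_lit 0) (Step.L (Step.L (Step.L (Step.D (nat_lit 8198) (Step.D (nat_lit 11170) Step.done))))) (Scr.cons (nat_lit 12) (nat_lit 1) (Step.L (Step.L (Step.L (Step.L (Step.D (nat_lit 4909) Step.done))))) Scr.nil))))))))))))))))))))))))))))))))))))))))
noncomputable def s363 : Scr := (Scr.cons (nat_lit 7) (nat_lit 5) (Step.F (nat_lit 14522) (Step.L (Step.L (Step.L (Step.L (Step.L (Step.L (Step.L (Step.L (Step.L (Step.L (Step.L (Step.L (Step.L (Step.L (Step.L (Step.L (Step.L (Step.L (Step.D (nat_lit 3195) Step.done)))))))))))))))))))) (Scr.cons (nat_lit 4) (nat_lit 0) (Step.U (nat_lit 5654) (Step.U (nat_lit 3194) (Step.D (nat_lit 3195) (Step.F (nat_lit 14523) (Step.D (nat_lit 7908) Step.done))))) (Scr.cons (nat_lit 14) (nat_lit 0) (Step.U (nat_lit 8760) (Step.B (nat_lit 14524) (Step.U (nat_lit 7908) (Step.F (nat_lit 14522) (Step.L (Step.L (Step.L (Step.L (Step.L (Step.L (Step.L (Step.L (Step.L (Step.L (Step.L (Step.L (Step.L (Step.L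 (Step.L (Step.D (nat_lit 8198) (Step.D (nat_lit 11170) Step.done))))))))))))))))))))) (Scr.cons (nat_lit 1) (nat_lit 1) (Step.B (nat_lit 14521) (Step.F (nat_lit 14525) (Step.D (nat_lit 11477) Step.done))) (Scr.cons (nat_lit 1) (nat_lit 1) (Step.D (nat_lit 11477) (Step.F (nat_lit 14526) Step.done)) (Scr.cons (nat_lit 12) (nat_lit 4) (Step.U (nat_lit 3194) (Step.L (Step.L (Step.D (nat_lit 3194) (Step.D (nat_lit 5653) Step.done))))) (Scr.cons (nat_lit 9) (nat_lit 2) (Step.U (nat_lit 11148) (Step.U (nat_lit 8180) (Step.U (nat_lit 5166) (Step.L (Step.L (Step.L (Step.L (Step.L (Step.L (Step.L (Step.L (Step.L (Step.L (Step.L (Step.L (Step.L (Step.L (Step.F (nat_lit 14527) (Step.U (nat_lit 8760) (Step.U (nat_lit 5654) (Step.B (nat_lit 14528) (Step.D (nat_lit 8759) (Step.D (nat_lit 11476) Step.done))))))))))))))))))))))) (Scr.cons (nat_lit 4) (nat_lit 0) (Step.U (nat_lit 11475) (Step.U (nat_lit 8758) (Step.D (nat_lit 8759) (Step.D (nat_lit 11476) (Step.F (nat_lit 14529) Step.done)))))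 (Scr.cons (nat_lit 14) (nat_lit 3) (Step.F (nat_lit 14520) (Step.L (Step.L (Step.L (Step.L (Step.L (Step.D (nat_lit 2890) (Step.D (nat_lit 5220) (Step.D (nat_lit 8250) (Step.F (nat_lit 5640) (Step.U (nat_lit 5655) (Step.U (nat_lit 3195) (Step.D (nat_lit 3194) (Step.D (nat_lit 5653) (Step.D (nat_lit 8758) (Step.D (nat_lit 11475) (Step.B (nat_lit 14530) (Step.U (nat_lit 11148) (Step.D (nat_lit 11149) (Step.D (nat_lit 12012) Step.done)))))))))))))))))))) (Scr.cons (nat_lit 12) (nat_lit 4) (Step.U (nat_lit 12012) (Step.B (nat_lit 14517) (Step.F (nat_lit 14519) (Step.D (nat_lit 12012) (Step.F (nat_lit 14531) Step.done))))) (Scr.cons (nat_lit 11) (nat_lit 0) (Step.U (nat_lit 11150) (Step.U (nat_lit 8181) (Step.D (nat_lit 8180) (Step.D (nat_lit 11149) (Step.D (nat_lit 12012) Step.done))))) (Scr.cons (nat_lit 14) (nat_lit 6) (Step.D (nat_lit 8247) (Step.F (nat_lit 14515) (Step.D (nat_lit 8253) (Step.D (nat_lit 11205) (Step.F (nat_lit 14532) (Step.F (nat_lit 14533) (Step.U (nat_lit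 11150) (Step.U (nat_lit 8181) (Step.U (nat_lit 5166) (Step.L (Step.L (Step.L (Step.L (Step.L (Step.D (nat_lit 585) (Step.B (nat_lit 7547) (Step.D (nat_lit 2862) (Step.D (nat_lit 5164) (Step.D (nat_lit 8178) (Step.D (nat_lit 11147) (Step.D (nat_lit 12011) Step.done))))))))))))))))))))) (Scr.cons (nat_lit 1) (nat_lit 0) (Step.D (nat_lit 12011) (Step.F (nat_lit 14534) (Step.D (nat_lit 8248) Step.done))) (Scr.cons (nat_lit 1) (nat_lit 0) (Step.D (nat_lit 11147) (Step.B (nat_lit 14535) (Step.D (nat_lit 11201) Step.done))) (Scr.cons (nat_lit 1) (nat_lit 0) (Step.D (nat_lit 11201) (Step.F (nat_lit 14536) Step.done)) (Scr.cons (nat_lit 12) (nat_lit 1) (Step.U (nat_lit 2889) (Step.L (Step.L (Step.D (nat_lit 2889) (Step.D (nat_lit 5218) Step.done))))) (Scr.cons (nat_lit 14) (nat_lit 2) (Step.L (Step.L (Step.L (Step.L (Step.L (Step.L (Step.D (nat_lit 1263) (Step.D (nat_lit 2592) (Step.B (nat_lit 7645) (Step.U (nat_lit 2863) (Step.D (nat_lit 2862) (Step.D (nat_lit 5164) (Step.B (nat_lit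 14514) (Step.F (nat_lit 14537) (Step.U (nat_lit 8248) (Step.F (nat_lit 14538) (Step.U (nat_lit 2889) (Step.L (Step.D (nat_lit 5217) (Step.B (nat_lit 14513) (Step.D (nat_lit 11199) Step.done))))))))))))))))))))) (Scr.cons (nat_lit 1) (nat_lit 0) (Step.D (nat_lit 11199) (Step.F (nat_lit 14539) (Step.D (nat_lit 4767) Step.done))) (Scr.cons (nat_lit 0) (nat_lit 1) (Step.B (nat_lit 14513) (Step.B (nat_lit 14540) (Step.D (nat_lit 7743) Step.done))) (Scr.cons (nat_lit 0) (nat_lit 1) (Step.D (nat_lit 7743) (Step.F (nat_lit 14541) Step.done)) (Scr.cons (nat_lit 15) (nat_lit 0) (Step.U (nat_lit 11920) (Step.F (nat_lit 14496) (Step.L (Step.L (Step.L (Step.L (Step.L (Step.L (Step.D (nat_lit 5914) (Step.B (nat_lit 14511) (Step.F (nat_lit 14499) (Step.B (nat_lit 14542) (Step.D (nat_lit 8246) (Step.D (nat_lit 11200) (Step.D (nat_lit 12023) Step.done))))))))))))))) (Scr.cons (nat_lit 11) (nat_lit 0) (Step.U (nat_lit 2886) (Step.U (nat_lit 1422) (Step.D (nat_lit 1421) (Step.D (nat_lit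 2884) (Step.D (nat_lit 5209) Step.done))))) (Scr.cons (nat_lit 12) (nat_lit 1) (Step.U (nat_lit 1422) (Step.F (nat_lit 515) (Step.D (nat_lit 590) (Step.D (nat_lit 1422) (Step.D (nat_lit 2885) Step.done))))) (Scr.cons (nat_lit 12) (nat_lit 1) (Step.U (nat_lit 2886) (Step.D (nat_lit 2885) (Step.F (nat_lit 14545) (Step.D (nat_lit 2886) (Step.D (nat_lit 5210) Step.done))))) (Scr.cons (nat_lit 12) (nat_lit 1) (Step.F (nat_lit 14544) (Step.D (nat_lit 5210) (Step.F (nat_lit 14546) (Step.B (nat_lit 14544) (Step.D (nat_lit 8234) Step.done))))) (Scr.cons (nat_lit 12) (nat_lit 1) (Step.L (Step.L (Step.L (Step.L (Step.D (nat_lit 6525) Step.done))))) (Scr.cons (nat_lit 14) (nat_lit 2) (Step.F (nat_lit 14547) (Step.F (nat_lit 14544) (Step.U (nat_lit 2886) (Step.U (nat_lit 1422) (Step.U (nat_lit 590) (Step.U (nat_lit 211) (Step.U (nat_lit 56) (Step.L (Step.L (Step.L (Step.L (Step.L (Step.L (Step.L (Step.L (Step.L (Step.L (Step.L (Step.B (nat_lit 14548) (Step.D (nat_lit 9669) Step.done))))))))))))))))))))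 (Scr.cons (nat_lit 1) (nat_lit 1) (Step.D (nat_lit 5208) (Step.B (nat_lit 14475) (Step.D (nat_lit 5164) Step.done))) (Scr.cons (nat_lit 12) (nat_lit 4) (Step.U (nat_lit 1421) (Step.F (nat_lit 515) (Step.D (nat_lit 590) (Step.D (nat_lit 1421) (Step.D (nat_lit 2883) Step.done))))) (Scr.cons (nat_lit 0) (nat_lit 1) (Step.U (nat_lit 8178) (Step.F (nat_lit 14550) (Step.F (nat_lit 14551) Step.done))) (Scr.cons (nat_lit 1) (nat_lit 1) (Step.B (nat_lit 14537) (Step.B (nat_lit 14552) (Step.D (nat_lit 2884) Step.done))) (Scr.cons (nat_lit 1) (nat_lit 1) (Step.D (nat_lit 8248) (Step.B (nat_lit 14553) (Step.D (nat_lit 5209) Step.done))) (Scr.cons (nat_lit 0) (nat_lit 1) (Step.B (nat_lit 14538) (Step.B (nat_lit 14554) (Step.D (nat_lit 8234) Step.done))) (Scr.cons (nat_lit 1) (nat_lit 0) (Step.F (nat_lit 14549) (Step.F (nat_lit 14555) (Step.D (nat_lit 5219) Step.done))) (Scr.cons (nat_lit 11) (nat_lit 0) (Step.U (nat_lit 5219) (Step.U (nat_lit 2889) (Step.L (Step.D (nat_lit 5217) (Step.D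 (nat_lit 8246) Step.done))))) (Scr.cons (nat_lit 1) (nat_lit 0) (Step.D (nat_lit 9669) (Step.B (nat_lit 14556) (Step.B (nat_lit 14557) Step.done))) (Scr.cons (nat_lit 0) (nat_lit 1) (Step.U (nat_lit 11200) (Step.F (nat_lit 14558) (Step.F (nat_lit 14548) Step.done))) (Scr.cons (nat_lit 1) (nat_lit 1) (Step.U (nat_lit 12023) (Step.B (nat_lit 14559) (Step.L Step.done))) (Scr.cons (nat_lit 0) (nat_lit 1) (Step.B (nat_lit 14543) (Step.B (nat_lit 14560) (Step.L Step.done))) (Scr.cons (nat_lit 1) (nat_lit 1) (Step.D (nat_lit 11920) (Step.B (nat_lit 14561) (Step.L Step.done))) Scr.nil))))))))))))))))))))))))))))))))))))))))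
noncomputable def s364 : Scr := (Scr.cons (nat_lit 0) (nat_lit 1) (Step.B (nat_lit 14496) (Step.B (nat_lit 14562) (Step.D (nat_lit 9670) Step.done))) (Scr.cons (nat_lit 0) (nat_lit 0) (Step.B (nat_lit 9421) (Step.F (nat_lit 14563) Step.done)) (Scr.cons (nat_lit 12) (nat_lit 1) (Step.L (Step.L (Step.L (Step.L (Step.D (nat_lit 12024) Step.done))))) (Scr.cons (nat_lit 16) (nat_lit 5) (Step.F (nat_lit 14565) (Step.L (Step.L (Step.L (Step.L (Step.L (Step.L (Step.L (Step.L (Step.L (Step.L (Step.L (Step.L (Step.L (Step.L (Step.L (Step.D (nat_lit 5217) (Step.D (nat_lit 8246) (Step.D (nat_lit 11200) (Step.D (nat_lit 12023) (Step.F (nat_lit 14543) (Step.U (nat_lit 11920) (Step.D (nat_lit 11919) Step.done))))))))))))))))))))))) (Scr.cons (nat_lit 1) (nat_lit 1) (Step.U (nat_lit 11919) (Step.B (nat_lit 14562) (Step.L Step.done))) (Scr.cons (nat_lit 1) (nat_lit 1) (Step.B (nat_lit 14566) (Step.B (nat_lit 14567) (Step.L Step.done))) (Scr.cons (nat_lit 0) (nat_lit 0) (Step.B (nat_lit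 14565) (Step.B (nat_lit 14568) Step.done)) (Scr.cons (nat_lit 12) (nat_lit 1) (Step.L (Step.L (Step.L (Step.L (Step.D (nat_lit 7877) Step.done))))) (Scr.cons (nat_lit 12) (nat_lit 1) (Step.L (Step.D (nat_lit 7877) (Step.F (nat_lit 14570) (Step.L (Step.D (nat_lit 10872) Step.done))))) (Scr.cons (nat_lit 12) (nat_lit 4) (Step.L (Step.L (Step.L (Step.L (Step.D (nat_lit 10854) Step.done))))) (Scr.cons (nat_lit 11) (nat_lit 0) (Step.L (Step.L (Step.D (nat_lit 4879) (Step.D (nat_lit 7876) (Step.D (nat_lit 10871) Step.done))))) (Scr.cons (nat_lit 1) (nat_lit 1) (Step.D (nat_lit 10877) (Step.F (nat_lit 14053) Step.done)) (Scr.cons (nat_lit 0) (nat_lit 1) (Step.U (nat_lit 7881) (Step.F (nat_lit 14244) (Step.D (nat_lit 5334) Step.done))) (Scr.cons (nat_lit 1) (nat_lit 1) (Step.F (nat_lit 14574) (Step.B (nat_lit 14575) (Step.D (nat_lit 8385) Step.done))) (Scr.cons (nat_lit 1) (nat_lit 1) (Step.D (nat_lit 8385) (Step.F (nat_lit 14576) Step.done)) (Scr.cons (nat_lit 12) (nat_lit 4)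 (Step.U (nat_lit 4879) (Step.L (Step.L (Step.D (nat_lit 4879) (Step.D (nat_lit 7875) Step.done))))) (Scr.cons (nat_lit 12) (nat_lit 1) (Step.U (nat_lit 2670) (Step.F (nat_lit 7682) (Step.D (nat_lit 1304) (Step.D (nat_lit 2670) (Step.D (nat_lit 4884) Step.done))))) (Scr.cons (nat_lit 15) (nat_lit 0) (Step.U (nat_lit 7885) (Step.F (nat_lit 14579) (Step.U (nat_lit 2670) (Step.F (nat_lit 7682) (Step.U (nat_lit 531) (Step.L (Step.L (Step.L (Step.L (Step.L (Step.L (Step.L (Step.D (nat_lit 4879) (Step.D (nat_lit 7875) (Step.D (nat_lit 10870) Step.done))))))))))))))) (Scr.cons (nat_lit 12) (nat_lit 4) (Step.U (nat_lit 10870) (Step.F (nat_lit 14578) (Step.D (nat_lit 7875) (Step.D (nat_lit 10870) (Step.F (nat_lit 14580) Step.done))))) (Scr.cons (nat_lit 6) (nat_lit 3) (Step.U (nat_lit 2666) (Step.U (nat_lit 1302) (Step.U (nat_lit 530) (Step.F (nat_lit 7546) (Step.L (Step.L (Step.L (Step.L (Step.L (Step.B (nat_lit 193) (Step.D (nat_lit 2868) Step.done))))))))))) (Scr.cons (nat_lit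 1) (nat_lit 0) (Step.D (nat_lit 8187) (Step.B (nat_lit 14482) (Step.L Step.done))) (Scr.cons (nat_lit 1) (nat_lit 0) (Step.D (nat_lit 5172) (Step.B (nat_lit 14583) (Step.D (nat_lit 531) Step.done))) (Scr.cons (nat_lit 0) (nat_lit 1) (Step.B (nat_lit 14582) (Step.B (nat_lit 14584) (Step.D (nat_lit 1304) Step.done))) (Scr.cons (nat_lit 1) (nat_lit 0) (Step.D (nat_lit 2666) (Step.B (nat_lit 14585) (Step.D (nat_lit 2670) Step.done))) (Scr.cons (nat_lit 0) (nat_lit 1) (Step.U (nat_lit 4884) (Step.F (nat_lit 14586) (Step.F (nat_lit 14016) Step.done))) (Scr.cons (nat_lit 1) (nat_lit 0) (Step.U (nat_lit 7885) (Step.B (nat_lit 14587) (Step.B (nat_lit 14015) Step.done))) (Scr.cons (nat_lit 0) (nat_lit 1) (Step.B (nat_lit 14581) (Step.B (nat_lit 14588) (Step.D (nat_lit 2665) Step.done))) (Scr.cons (nat_lit 1) (nat_lit 0) (Step.D (nat_lit 4882) (Step.F (nat_lit 14244) Step.done)) (Scr.cons (nat_lit 1) (nat_lit 0) (Step.D (nat_lit 10870) (Step.B (nat_lit 14589) (Step.B (nat_lit 14590)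 Step.done))) (Scr.cons (nat_lit 0) (nat_lit 1) (Step.B (nat_lit 14578) (Step.B (nat_lit 14591) (Step.D (nat_lit 5334) Step.done))) (Scr.cons (nat_lit 1) (nat_lit 1) (Step.F (nat_lit 14577) (Step.F (nat_lit 14592) (Step.D (nat_lit 7876) Step.done))) (Scr.cons (nat_lit 1) (nat_lit 1) (Step.U (nat_lit 10871) (Step.F (nat_lit 14593) (Step.D (nat_lit 8605) Step.done))) (Scr.cons (nat_lit 16) (nat_lit 4) (Step.U (nat_lit 10878) (Step.F (nat_lit 14018) (Step.U (nat_lit 4882) (Step.F (nat_lit 14017) (Step.F (nat_lit 14015) (Step.U (nat_lit 530) (Step.U (nat_lit 184) (Step.L (Step.L (Step.L (Step.L (Step.L (Step.L (Step.L (Step.L (Step.L (Step.L (Step.L (Step.L (Step.L (Step.L (Step.D (nat_lit 10854) (Step.D (nat_lit 11976) Step.done))))))))))))))))))))))) (Scr.cons (nat_lit 4) (nat_lit 0) (Step.U (nat_lit 10877) (Step.D (nat_lit 10878) (Step.B (nat_lit 14595) (Step.U (nat_lit 11976) (Step.D (nat_lit 11977) Step.done))))) (Scr.cons (nat_lit 1) (nat_lit 1) (Step.F (nat_lit 14596)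 (Step.F (nat_lit 14053) (Step.D (nat_lit 8605) Step.done))) (Scr.cons (nat_lit 1) (nat_lit 1) (Step.D (nat_lit 11977) (Step.B (nat_lit 14597) (Step.D (nat_lit 11403) Step.done))) (Scr.cons (nat_lit 1) (nat_lit 1) (Step.D (nat_lit 11403) (Step.F (nat_lit 14598) Step.done)) (Scr.cons (nat_lit 1) (nat_lit 1) (Step.B (nat_lit 14573) (Step.B (nat_lit 14594) (Step.B (nat_lit 14599) Step.done))) (Scr.cons (nat_lit 0) (nat_lit 1) (Step.B (nat_lit 14572) (Step.F (nat_lit 14600) (Step.D (nat_lit 10872) Step.done))) (Scr.cons (nat_lit 0) (nat_lit 0) (Step.B (nat_lit 14571) (Step.F (nat_lit 14601) Step.done)) Scr.nil))))))))))))))))))))))))))))))))))))))))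
noncomputable def s365 : Scr := (Scr.cons (nat_lit 15) (nat_lit 0) (Step.U (nat_lit 10652) (Step.L (Step.L (Step.L (Step.L (Step.L (Step.L (Step.L (Step.L (Step.L (Step.L (Step.L (Step.L (Step.L (Step.D (nat_lit 11240) Step.done))))))))))))))) (Scr.cons (nat_lit 12) (nat_lit 4) (Step.U (nat_lit 11240) (Step.L (Step.L (Step.D (nat_lit 11240) (Step.F (nat_lit 14603) Step.done))))) (Scr.cons (nat_lit 12) (nat_lit 1) (Step.U (nat_lit 2926) (Step.L (Step.L (Step.D (nat_lit 2926) (Step.D (nat_lit 5284) Step.done))))) (Scr.cons (nat_lit 12) (nat_lit 4) (Step.L (Step.L (Step.L (Step.L (Step.D (nat_lit 1219) Step.done))))) (Scr.cons (nat_lit 12) (nat_lit 1) (Step.U (nat_lit 2523) (Step.F (nat_lit 14606) (Step.D (nat_lit 1219) (Step.D (nat_lit 2523) (Step.D (nat_lit 4663) Step.done))))) (Scr.cons (nat_lit 13) (nat_lit 0) (Step.U (nat_lit 4666) (Step.F (nat_lit 7375) (Step.L (Step.L (Step.L (Step.L (Step.L (Step.B (nat_lit 14606) (Step.D (nat_lit 2523) (Step.D (nat_lit 4663) (Step.D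 (nat_lit 7622) Step.done))))))))))) (Scr.cons (nat_lit 12) (nat_lit 4) (Step.L (Step.L (Step.L (Step.L (Step.D (nat_lit 4665) Step.done))))) (Scr.cons (nat_lit 12) (nat_lit 1) (Step.U (nat_lit 1539) (Step.F (nat_lit 8202) (Step.D (nat_lit 646) (Step.D (nat_lit 1539) (Step.D (nat_lit 3079) Step.done))))) (Scr.cons (nat_lit 12) (nat_lit 1) (Step.U (nat_lit 5499) (Step.F (nat_lit 14610) (Step.D (nat_lit 3079) (Step.D (nat_lit 5499) (Step.D (nat_lit 8584) Step.done))))) (Scr.cons (nat_lit 8) (nat_lit 1) (Step.U (nat_lit 8585) (Step.U (nat_lit 5500) (Step.U (nat_lit 3080) (Step.L (Step.L (Step.L (Step.L (Step.L (Step.D (nat_lit 232) (Step.B (nat_lit 8202) (Step.D (nat_lit 1539) (Step.B (nat_lit 14610) (Step.D (nat_lit 5499) (Step.B (nat_lit 14611) (Step.D (nat_lit 11391) Step.done))))))))))))))) (Scr.cons (nat_lit 1) (nat_lit 0) (Step.D (nat_lit 7376) (Step.F (nat_lit 4155) Step.done)) (Scr.cons (nat_lit 14) (nat_lit 6) (Step.U (nat_lit 8586) (Step.U (nat_lit 5500) (Step.D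 (nat_lit 5501) (Step.F (nat_lit 14613) (Step.F (nat_lit 4056) (Step.D (nat_lit 4452) (Step.F (nat_lit 4081) (Step.U (nat_lit 5194) (Step.U (nat_lit 2877) (Step.L (Step.L (Step.L (Step.L (Step.L (Step.L (Step.L (Step.L (Step.D (nat_lit 2878) (Step.D (nat_lit 5200) (Step.D (nat_lit 8221) (Step.D (nat_lit 11188) Step.done))))))))))))))))))))) (Scr.cons (nat_lit 1) (nat_lit 1) (Step.D (nat_lit 11188) (Step.F (nat_lit 14614) Step.done)) (Scr.cons (nat_lit 4) (nat_lit 0) (Step.U (nat_lit 8585) (Step.D (nat_lit 8586) (Step.F (nat_lit 14615) (Step.U (nat_lit 8221) (Step.D (nat_lit 8222) (Step.D (nat_lit 11189) Step.done)))))) (Scr.cons (nat_lit 1) (nat_lit 0) (Step.D (nat_lit 11189) (Step.F (nat_lit 14616) Step.done)) (Scr.cons (nat_lit 11) (nat_lit 0) (Step.U (nat_lit 1720) (Step.L (Step.L (Step.L (Step.D (nat_lit 2878) Step.done))))) (Scr.cons (nat_lit 12) (nat_lit 1) (Step.F (nat_lit 14618) (Step.D (nat_lit 3400) (Step.F (nat_lit 3900) (Step.B (nat_lit 14618) (Step.D (nat_lit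 5200) Step.done))))) (Scr.cons (nat_lit 14) (nat_lit 6) (Step.F (nat_lit 14612) (Step.F (nat_lit 14617) (Step.U (nat_lit 8222) (Step.F (nat_lit 14619) (Step.F (nat_lit 14618) (Step.U (nat_lit 1720) (Step.L (Step.L (Step.L (Step.L (Step.L (Step.L (Step.L (Step.L (Step.L (Step.L (Step.L (Step.D (nat_lit 4665) (Step.D (nat_lit 7623) (Step.D (nat_lit 10648) Step.done)))))))))))))))))))) (Scr.cons (nat_lit 11) (nat_lit 0) (Step.U (nat_lit 7624) (Step.D (nat_lit 7623) (Step.D (nat_lit 10648) (Step.F (nat_lit 14620) (Step.U (nat_lit 11391) (Step.D (nat_lit 11390) Step.done)))))) (Scr.cons (nat_lit 1) (nat_lit 0) (Step.D (nat_lit 11390) (Step.F (nat_lit 14621) (Step.D (nat_lit 10649) Step.done))) (Scr.cons (nat_lit 1) (nat_lit 0) (Step.D (nat_lit 10649) (Step.F (nat_lit 14622) Step.done)) (Scr.cons (nat_lit 1) (nat_lit 0) (Step.F (nat_lit 14613) (Step.B (nat_lit 12058) (Step.L Step.done))) (Scr.cons (nat_lit 1) (nat_lit 0) (Step.D (nat_lit 5501) (Step.B (nat_lit 14624) (Step.L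 Step.done))) (Scr.cons (nat_lit 0) (nat_lit 1) (Step.U (nat_lit 5500) (Step.B (nat_lit 14625) (Step.L Step.done))) (Scr.cons (nat_lit 1) (nat_lit 1) (Step.U (nat_lit 8585) (Step.B (nat_lit 14626) (Step.L Step.done))) (Scr.cons (nat_lit 0) (nat_lit 1) (Step.F (nat_lit 14612) (Step.B (nat_lit 14627) (Step.D (nat_lit 3196) Step.done))) (Scr.cons (nat_lit 12) (nat_lit 1) (Step.L (Step.L (Step.L (Step.L (Step.D (nat_lit 2990) Step.done))))) (Scr.cons (nat_lit 12) (nat_lit 1) (Step.U (nat_lit 5385) (Step.F (nat_lit 14629) (Step.D (nat_lit 2990) (Step.D (nat_lit 5385) (Step.D (nat_lit 8446) Step.done))))) (Scr.cons (nat_lit 8) (nat_lit 1) (Step.U (nat_lit 8447) (Step.U (nat_lit 5386) (Step.U (nat_lit 2992) (Step.U (nat_lit 1478) (Step.U (nat_lit 618) (Step.L (Step.L (Step.L (Step.L (Step.L (Step.L (Step.B (nat_lit 14629) (Step.D (nat_lit 5385) (Step.B (nat_lit 14630) (Step.D (nat_lit 11306) Step.done))))))))))))))) (Scr.cons (nat_lit 1) (nat_lit 1) (Step.U (nat_lit 8447) (Step.B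 (nat_lit 8342) (Step.L Step.done))) (Scr.cons (nat_lit 0) (nat_lit 1) (Step.F (nat_lit 14631) (Step.B (nat_lit 14632) (Step.L Step.done))) (Scr.cons (nat_lit 1) (nat_lit 1) (Step.D (nat_lit 11306) (Step.B (nat_lit 14633) (Step.D (nat_lit 3080) (Step.B (nat_lit 14625) Step.done)))) (Scr.cons (nat_lit 0) (nat_lit 1) (Step.B (nat_lit 14630) (Step.B (nat_lit 14634) (Step.L Step.done))) (Scr.cons (nat_lit 1) (nat_lit 1) (Step.D (nat_lit 5385) (Step.B (nat_lit 14635) (Step.L Step.done))) (Scr.cons (nat_lit 0) (nat_lit 1) (Step.B (nat_lit 14629) (Step.B (nat_lit 14636) (Step.D (nat_lit 3196) Step.done))) (Scr.cons (nat_lit 1) (nat_lit 1) (Step.D (nat_lit 11391) (Step.B (nat_lit 14628) (Step.F (nat_lit 14637) (Step.L Step.done)))) (Scr.cons (nat_lit 1) (nat_lit 1) (Step.B (nat_lit 14623) (Step.B (nat_lit 14638) (Step.L Step.done))) (Scr.cons (nat_lit 1) (nat_lit 1) (Step.D (nat_lit 7624) (Step.B (nat_lit 14639) (Step.D (nat_lit 2989) Step.done))) (Scr.cons (nat_lit 1) (nat_lit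 0) (Step.F (nat_lit 14620) (Step.B (nat_lit 14628) (Step.F (nat_lit 14637) (Step.D (nat_lit 2991) Step.done)))) (Scr.cons (nat_lit 1) (nat_lit 0) (Step.F (nat_lit 3963) (Step.F (nat_lit 14637) (Step.D (nat_lit 2991) Step.done))) Scr.nil))))))))))))))))))))))))))))))))))))))))
noncomputable def s366 : Scr := (Scr.cons (nat_lit 1) (nat_lit 0) (Step.D (nat_lit 10648) (Step.B (nat_lit 14641) (Step.F (nat_lit 14642) (Step.L Step.done)))) (Scr.cons (nat_lit 1) (nat_lit 0) (Step.F (nat_lit 14640) (Step.D (nat_lit 7623) (Step.B (nat_lit 14643) (Step.L Step.done)))) (Scr.cons (nat_lit 0) (nat_lit 1) (Step.B (nat_lit 14609) (Step.B (nat_lit 14640) (Step.B (nat_lit 14644) (Step.D (nat_lit 5228) Step.done)))) (Scr.cons (nat_lit 1) (nat_lit 1) (Step.U (nat_lit 8265) (Step.F (nat_lit 14645) (Step.L Step.done))) (Scr.cons (nat_lit 1) (nat_lit 1) (Step.B (nat_lit 3972) (Step.B (nat_lit 14646) (Step.L Step.done))) (Scr.cons (nat_lit 1) (nat_lit 1) (Step.D (nat_lit 5287) (Step.B (nat_lit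 14647) (Step.L Step.done))) (Scr.cons (nat_lit 0) (nat_lit 1) (Step.B (nat_lit 3946) (Step.B (nat_lit 14648) (Step.D (nat_lit 2524) Step.done))) (Scr.cons (nat_lit 1) (nat_lit 1) (Step.U (nat_lit 4666) (Step.F (nat_lit 14649) (Step.L Step.done))) (Scr.cons (nat_lit 0) (nat_lit 1) (Step.F (nat_lit 14608) (Step.B (nat_lit 14650) (Step.L Step.done))) (Scr.cons (nat_lit 1) (nat_lit 0) (Step.D (nat_lit 7622) (Step.B (nat_lit 14651) (Step.D (nat_lit 2926) Step.done))) (Scr.cons (nat_lit 0) (nat_lit 1) (Step.B (nat_lit 14607) (Step.B (nat_lit 14652) (Step.D (nat_lit 5284) Step.done))) (Scr.cons (nat_lit 0) (nat_lit 0) (Step.B (nat_lit 14605) (Step.F (nat_lit 14653) Step.done)) (Scr.cons (nat_lit 11) (nat_lit 0) (Step.U (nat_lit 4664) (Step.U (nat_lit 2523) (Step.D (nat_lit 2522) (Step.D (nat_lit 4662) (Step.D (nat_lit 7621) Step.done))))) (Scr.cons (nat_lit 12) (nat_lit 4) (Step.U (nat_lit 2522) (Step.F (nat_lit 14606) (Step.D (nat_lit 1219) (Step.D (nat_lit 2522) (Step.D (nat_lit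 4661) Step.done))))) (Scr.cons (nat_lit 12) (nat_lit 4) (Step.U (nat_lit 4662) (Step.D (nat_lit 4661) (Step.F (nat_lit 14656) (Step.D (nat_lit 4662) (Step.D (nat_lit 7620) Step.done))))) (Scr.cons (nat_lit 12) (nat_lit 4) (Step.U (nat_lit 587) (Step.L (Step.L (Step.D (nat_lit 587) (Step.D (nat_lit 1413) Step.done))))) (Scr.cons (nat_lit 12) (nat_lit 1) (Step.U (nat_lit 2867) (Step.F (nat_lit 14658) (Step.D (nat_lit 1413) (Step.D (nat_lit 2867) (Step.D (nat_lit 5171) Step.done))))) (Scr.cons (nat_lit 12) (nat_lit 1) (Step.U (nat_lit 8186) (Step.F (nat_lit 14659) (Step.D (nat_lit 5171) (Step.D (nat_lit 8186) (Step.D (nat_lit 11153) Step.done))))) (Scr.cons (nat_lit 12) (nat_lit 1) (Step.U (nat_lit 11154) (Step.D (nat_lit 11153) (Step.F (nat_lit 14660) (Step.D (nat_lit 11154) (Step.D (nat_lit 12013) Step.done))))) (Scr.cons (nat_lit 13) (nat_lit 0) (Step.U (nat_lit 5175) (Step.L (Step.L (Step.L (Step.L (Step.L (Step.D (nat_lit 587) (Step.B (nat_lit 14658) (Step.D (nat_lit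 2867) (Step.D (nat_lit 5171) (Step.D (nat_lit 8185) Step.done))))))))))) (Scr.cons (nat_lit 16) (nat_lit 1) (Step.L (Step.L (Step.L (Step.L (Step.L (Step.L (Step.L (Step.L (Step.L (Step.L (Step.L (Step.L (Step.L (Step.L (Step.L (Step.L (Step.L (Step.L (Step.L (Step.D (nat_lit 5175) (Step.D (nat_lit 8189) (Step.D (nat_lit 11157) (Step.D (nat_lit 12016) Step.done))))))))))))))))))))))) (Scr.cons (nat_lit 12) (nat_lit 1) (Step.L (Step.L (Step.L (Step.L (Step.D (nat_lit 11484) Step.done))))) (Scr.cons (nat_lit 15) (nat_lit 1) (Step.F (nat_lit 14664) (Step.L (Step.L (Step.L (Step.L (Step.L (Step.L (Step.L (Step.L (Step.L (Step.L (Step.L (Step.L (Step.L (Step.L Step.done))))))))))))))) (Scr.cons (nat_lit 13) (nat_lit 3) (Step.U (nat_lit 11241) (Step.U (nat_lit 8319) (Step.L (Step.L (Step.L (Step.L (Step.L (Step.L (Step.L (Step.L (Step.D (nat_lit 11484) Step.done))))))))))) (Scr.cons (nat_lit 11) (nat_lit 0) (Step.U (nat_lit 5285) (Step.U (nat_lit 2926) (Step.L (Step.L (Step.D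 (nat_lit 8319) Step.done))))) (Scr.cons (nat_lit 0) (nat_lit 1) (Step.D (nat_lit 5284) (Step.F (nat_lit 14653) Step.done)) (Scr.cons (nat_lit 14) (nat_lit 3) (Step.F (nat_lit 14661) (Step.U (nat_lit 11154) (Step.U (nat_lit 8186) (Step.D (nat_lit 8185) (Step.F (nat_lit 14662) (Step.D (nat_lit 8189) (Step.D (nat_lit 11157) (Step.D (nat_lit 12016) (Step.F (nat_lit 14663) (Step.F (nat_lit 14665) (Step.F (nat_lit 14666) (Step.U (nat_lit 11241) (Step.F (nat_lit 14667) (Step.U (nat_lit 5285) (Step.B (nat_lit 14668) (Step.U (nat_lit 2523) (Step.D (nat_lit 2522) (Step.D (nat_lit 4662) (Step.B (nat_lit 14657) (Step.D (nat_lit 10647) (Step.D (nat_lit 11941) Step.done))))))))))))))))))))) (Scr.cons (nat_lit 0) (nat_lit 1) (Step.D (nat_lit 12013) (Step.B (nat_lit 14669) Step.done)) (Scr.cons (nat_lit 0) (nat_lit 1) (Step.U (nat_lit 1413) (Step.F (nat_lit 14494) (Step.L Step.done))) (Scr.cons (nat_lit 1) (nat_lit 0) (Step.U (nat_lit 2867) (Step.B (nat_lit 14671) (Step.L Step.done)))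 (Scr.cons (nat_lit 0) (nat_lit 1) (Step.U (nat_lit 5171) (Step.B (nat_lit 14672) (Step.L Step.done))) (Scr.cons (nat_lit 1) (nat_lit 0) (Step.U (nat_lit 8186) (Step.B (nat_lit 14673) (Step.L Step.done))) (Scr.cons (nat_lit 1) (nat_lit 0) (Step.U (nat_lit 11154) (Step.B (nat_lit 14674) (Step.L Step.done))) (Scr.cons (nat_lit 0) (nat_lit 1) (Step.F (nat_lit 14670) (Step.B (nat_lit 14675) (Step.D (nat_lit 5876) Step.done))) (Scr.cons (nat_lit 1) (nat_lit 0) (Step.D (nat_lit 11941) (Step.B (nat_lit 14676) (Step.D (nat_lit 9028) Step.done))) (Scr.cons (nat_lit 7) (nat_lit 1) (Step.U (nat_lit 6082) (Step.U (nat_lit 3462) (Step.L (Step.L (Step.L (Step.L (Step.L (Step.L (Step.L (Step.L (Step.L (Step.L (Step.L (Step.L (Step.L (Step.L (Step.L (Step.L (Step.D (nat_lit 5876) (Step.D (nat_lit 9028) Step.done)))))))))))))))))))) (Scr.cons (nat_lit 1) (nat_lit 0) (Step.D (nat_lit 10647) (Step.B (nat_lit 14677) (Step.F (nat_lit 14678) Step.done))) (Scr.cons (nat_lit 0) (nat_lit 1) (Step.B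 (nat_lit 14657) (Step.B (nat_lit 14679) (Step.D (nat_lit 9236) Step.done))) (Scr.cons (nat_lit 0) (nat_lit 1) (Step.D (nat_lit 9236) (Step.F (nat_lit 14680) Step.done)) (Scr.cons (nat_lit 9) (nat_lit 2) (Step.U (nat_lit 11240) (Step.L (Step.L (Step.L (Step.L (Step.L (Step.L (Step.L (Step.D (nat_lit 2926) (Step.B (nat_lit 14654) (Step.D (nat_lit 4664) (Step.B (nat_lit 14655) (Step.U (nat_lit 7621) (Step.F (nat_lit 14681) (Step.U (nat_lit 6082) (Step.U (nat_lit 3462) (Step.L (Step.L (Step.L (Step.L (Step.L (Step.L (Step.D (nat_lit 9237) (Step.D (nat_lit 11657) Step.done)))))))))))))))))))))))) Scr.nil))))))))))))))))))))))))))))))))))))))))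
noncomputable def s367 : Scr := (Scr.cons (nat_lit 1) (nat_lit 0) (Step.D (nat_lit 11657) (Step.F (nat_lit 14682) Step.done)) (Scr.cons (nat_lit 15) (nat_lit 0) (Step.U (nat_lit 9237) (Step.L (Step.L (Step.L (Step.L (Step.L (Step.L (Step.L (Step.L (Step.L (Step.L (Step.L (Step.L (Step.D (nat_lit 9228) (Step.D (nat_lit 11649) Step.done))))))))))))))) (Scr.cons (nat_lit 13) (nat_lit 1) (Step.U (nat_lit 11942) (Step.L (Step.L (Step.L (Step.D (nat_lit 10652) (Step.F (nat_lit 14604) (Step.F (nat_lit 14683) (Step.B (nat_lit 14684) (Step.U (nat_lit 11649) (Step.F (nat_lit 8687) (Step.L (Step.L Step.done)))))))))))) (Scr.cons (nat_lit 1) (nat_lit 1) (Step.D (nat_lit 11942) (Step.B (nat_lit 14685) Step.done)) (Scr.cons (nat_lit 13) (nat_lit 2) (Step.L (Step.L (Step.L (Step.L (Step.L (Step.L (Step.L (Step.L (Step.L (Step.B (nat_lit 6499) (Step.D (nat_lit 11589) Step.done))))))))))) (Scr.cons (nat_lit 0) (nat_lit 0) (Step.B (nat_lit 14687) (Step.F (nat_lit 10371) Step.done)) (Scr.cons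 (nat_lit 12) (nat_lit 4) (Step.L (Step.L (Step.L (Step.L (Step.D (nat_lit 10894) Step.done))))) (Scr.cons (nat_lit 0) (nat_lit 1) (Step.D (nat_lit 11801) (Step.F (nat_lit 10366) Step.done)) (Scr.cons (nat_lit 12) (nat_lit 4) (Step.L (Step.L (Step.L (Step.L (Step.D (nat_lit 5793) Step.done))))) (Scr.cons (nat_lit 13) (nat_lit 2) (Step.U (nat_lit 8918) (Step.U (nat_lit 5793) (Step.L (Step.L (Step.L (Step.L (Step.L (Step.L (Step.L (Step.L (Step.D (nat_lit 11554) Step.done))))))))))) (Scr.cons (nat_lit 15) (nat_lit 1) (Step.F (nat_lit 14692) (Step.U (nat_lit 8918) (Step.F (nat_lit 14691) (Step.L (Step.L (Step.L (Step.L (Step.L (Step.L (Step.L (Step.L (Step.L (Step.L (Step.L (Step.D (nat_lit 10894) Step.done))))))))))))))) (Scr.cons (nat_lit 9) (nat_lit 2) (Step.L (Step.F (nat_lit 14690) (Step.U (nat_lit 9652) (Step.L (Step.L (Step.L (Step.L (Step.L (Step.L (Step.L (Step.L (Step.L (Step.L (Step.L (Step.L (Step.L (Step.L (Step.L (Step.L (Step.B (nat_lit 14691) (Step.D (nat_lit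 8918) (Step.B (nat_lit 14692) (Step.B (nat_lit 14693) (Step.D (nat_lit 11991) Step.done)))))))))))))))))))))))) (Scr.cons (nat_lit 1) (nat_lit 1) (Step.D (nat_lit 11991) (Step.F (nat_lit 14694) (Step.L Step.done))) (Scr.cons (nat_lit 0) (nat_lit 1) (Step.B (nat_lit 10370) (Step.F (nat_lit 10371) Step.done)) (Scr.cons (nat_lit 0) (nat_lit 1) (Step.B (nat_lit 14689) (Step.B (nat_lit 14695) (Step.B (nat_lit 14696) Step.done))) (Scr.cons (nat_lit 0) (nat_lit 0) (Step.B (nat_lit 14688) (Step.F (nat_lit 14697) Step.done)) Scr.nil))))))))))))))))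
noncomputable def E : Ex := (Ex.cons (nat_lit 2) (nat_lit 1) (nat_lit 3) (Ex.cons (nat_lit 3) (nat_lit 2) (nat_lit 4) (Ex.cons (nat_lit 3) (nat_lit 3) (nat_lit 5) (Ex.cons (nat_lit 2) (nat_lit 5165) (nat_lit 7) (Ex.cons (nat_lit 2) (nat_lit 5608) (nat_lit 9) (Ex.cons (nat_lit 2) (nat_lit 6180) (nat_lit 11) (Ex.cons (nat_lit 3) (nat_lit 6084) (nat_lit 13) (Ex.cons (nat_lit 2) (nat_lit 6509) (nat_lit 15) (Ex.cons (nat_lit 1) (nat_lit 6846) (nat_lit 17) (Ex.cons (nat_lit 2) (nat_lit 6946) (nat_lit 19) (Ex.cons (nat_lit 2) (nat_lit 6976) (nat_lit 21) (Ex.cons (nat_lit 2) (nat_lit 7399) (nat_lit 23) (Ex.cons (nat_lit 2) (nat_lit 9419) (nat_lit 25) (Ex.cons (nat_lit 2) (nat_lit 9865) (nat_lit 28) (Ex.cons (nat_lit 2) (nat_lit 10133) (nat_lit 31) (Ex.cons (nat_lit 2) (nat_lit 10148) (nat_lit 36) (Ex.cons (nat_lit 2) (nat_lit 10229) (nat_lit 38) (Ex.cons (nat_lit 2) (nat_lit 10248) (nat_lit 40) (Ex.cons (nat_lit 2) (nat_lit 11182) (nat_lit 42) (Ex.cons (nat_lit 0) (nat_lit 11222)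 (nat_lit 45) (Ex.cons (nat_lit 2) (nat_lit 11254) (nat_lit 47) (Ex.cons (nat_lit 2) (nat_lit 11406) (nat_lit 49) (Ex.cons (nat_lit 2) (nat_lit 11671) (nat_lit 51) (Ex.cons (nat_lit 2) (nat_lit 11725) (nat_lit 53) (Ex.cons (nat_lit 2) (nat_lit 11829) (nat_lit 55) (Ex.cons (nat_lit 2) (nat_lit 11864) (nat_lit 57) (Ex.cons (nat_lit 1) (nat_lit 12467) (nat_lit 61) (Ex.cons (nat_lit 2) (nat_lit 12470) (nat_lit 63) (Ex.cons (nat_lit 2) (nat_lit 12547) (nat_lit 65) (Ex.cons (nat_lit 2) (nat_lit 12864) (nat_lit 67) (Ex.cons (nat_lit 2) (nat_lit 12865) (nat_lit 69) (Ex.cons (nat_lit 2) (nat_lit 12915) (nat_lit 71) (Ex.cons (nat_lit 2) (nat_lit 13104) (nat_lit 73) (Ex.cons (nat_lit 2) (nat_lit 13355) (nat_lit 75) (Ex.cons (nat_lit 2) (nat_lit 13378) (nat_lit 77) (Ex.cons (nat_lit 2) (nat_lit 13598) (nat_lit 79) (Ex.cons (nat_lit 2) (nat_lit 13699) (nat_lit 84) (Ex.cons (nat_lit 1) (nat_lit 13808) (nat_lit 87) (Ex.cons (nat_lit 2) (nat_lit 13848) (nat_lit 89) (Ex.cons (nat_lit 2)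 (nat_lit 14129) (nat_lit 91) (Ex.cons (nat_lit 2) (nat_lit 14159) (nat_lit 93) (Ex.cons (nat_lit 2) (nat_lit 14250) (nat_lit 96) (Ex.cons (nat_lit 2) (nat_lit 14367) (nat_lit 98) (Ex.cons (nat_lit 2) (nat_lit 14945) (nat_lit 100) (Ex.cons (nat_lit 2) (nat_lit 15124) (nat_lit 102) (Ex.cons (nat_lit 1) (nat_lit 9700) (nat_lit 123) (Ex.cons (nat_lit 2) (nat_lit 15160) (nat_lit 125) (Ex.cons (nat_lit 2) (nat_lit 15348) (nat_lit 127) (Ex.cons (nat_lit 2) (nat_lit 15415) (nat_lit 129) (Ex.cons (nat_lit 1) (nat_lit 15566) (nat_lit 131) (Ex.cons (nat_lit 2) (nat_lit 15597) (nat_lit 133) (Ex.cons (nat_lit 2) (nat_lit 15690) (nat_lit 135) (Ex.cons (nat_lit 2) (nat_lit 15736) (nat_lit 137) (Ex.cons (nat_lit 2) (nat_lit 15745) (nat_lit 139) (Ex.cons (nat_lit 2) (nat_lit 15837) (nat_lit 141) (Ex.cons (nat_lit 2) (nat_lit 15894) (nat_lit 145) (Ex.cons (nat_lit 1) (nat_lit 16139) (nat_lit 154) (Ex.cons (nat_lit 3) (nat_lit 16136) (nat_lit 163) (Ex.cons (nat_lit 2) (nat_lit 16511) (nat_lit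 165) (Ex.cons (nat_lit 2) (nat_lit 16537) (nat_lit 170) (Ex.cons (nat_lit 2) (nat_lit 16539) (nat_lit 172) (Ex.cons (nat_lit 2) (nat_lit 16595) (nat_lit 174) (Ex.cons (nat_lit 2) (nat_lit 16743) (nat_lit 176) (Ex.cons (nat_lit 2) (nat_lit 16801) (nat_lit 178) (Ex.cons (nat_lit 2) (nat_lit 16861) (nat_lit 180) (Ex.cons (nat_lit 2) (nat_lit 16880) (nat_lit 182) (Ex.cons (nat_lit 1) (nat_lit 16901) (nat_lit 184) (Ex.cons (nat_lit 2) (nat_lit 17008) (nat_lit 186) (Ex.cons (nat_lit 2) (nat_lit 17087) (nat_lit 188) (Ex.cons (nat_lit 2) (nat_lit 17102) (nat_lit 190) (Ex.cons (nat_lit 2) (nat_lit 17190) (nat_lit 192) (Ex.cons (nat_lit 2) (nat_lit 17212) (nat_lit 194) (Ex.cons (nat_lit 2) (nat_lit 17379) (nat_lit 196) (Ex.cons (nat_lit 2) (nat_lit 17844) (nat_lit 198) (Ex.cons (nat_lit 2) (nat_lit 17931) (nat_lit 200) (Ex.cons (nat_lit 2) (nat_lit 17947) (nat_lit 202) (Ex.cons (nat_lit 2) (nat_lit 17968) (nat_lit 204) (Ex.cons (nat_lit 2) (nat_lit 18074) (nat_lit 206) (Ex.cons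 (nat_lit 2) (nat_lit 18190) (nat_lit 208) (Ex.cons (nat_lit 2) (nat_lit 18607) (nat_lit 210) (Ex.cons (nat_lit 0) (nat_lit 18722) (nat_lit 211) (Ex.cons (nat_lit 2) (nat_lit 19203) (nat_lit 213) (Ex.cons (nat_lit 2) (nat_lit 19214) (nat_lit 215) (Ex.cons (nat_lit 2) (nat_lit 16363) (nat_lit 235) (Ex.cons (nat_lit 2) (nat_lit 19390) (nat_lit 237) (Ex.cons (nat_lit 3) (nat_lit 19493) (nat_lit 239) (Ex.cons (nat_lit 2) (nat_lit 19523) (nat_lit 241) (Ex.cons (nat_lit 2) (nat_lit 19629) (nat_lit 243) (Ex.cons (nat_lit 2) (nat_lit 19756) (nat_lit 245) (Ex.cons (nat_lit 2) (nat_lit 19790) (nat_lit 247) (Ex.cons (nat_lit 2) (nat_lit 20009) (nat_lit 249) (Ex.cons (nat_lit 2) (nat_lit 20093) (nat_lit 251) (Ex.cons (nat_lit 2) (nat_lit 20107) (nat_lit 253) (Ex.cons (nat_lit 3) (nat_lit 18722) (nat_lit 255) (Ex.cons (nat_lit 2) (nat_lit 20254) (nat_lit 257) (Ex.cons (nat_lit 2) (nat_lit 20668) (nat_lit 259) (Ex.cons (nat_lit 2) (nat_lit 20717) (nat_lit 264) (Ex.cons (nat_lit 2) (nat_lit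 20833) (nat_lit 267) (Ex.cons (nat_lit 1) (nat_lit 20859) (nat_lit 269) (Ex.cons (nat_lit 2) (nat_lit 20941) (nat_lit 271) (Ex.cons (nat_lit 1) (nat_lit 21143) (nat_lit 273) (Ex.cons (nat_lit 2) (nat_lit 21187) (nat_lit 276) (Ex.cons (nat_lit 2) (nat_lit 21337) (nat_lit 279) (Ex.cons (nat_lit 2) (nat_lit 21377) (nat_lit 281) (Ex.cons (nat_lit 2) (nat_lit 21382) (nat_lit 283) (Ex.cons (nat_lit 2) (nat_lit 21399) (nat_lit 285) (Ex.cons (nat_lit 2) (nat_lit 21988) (nat_lit 287) (Ex.cons (nat_lit 2) (nat_lit 22089) (nat_lit 289) (Ex.cons (nat_lit 2) (nat_lit 22135) (nat_lit 291) (Ex.cons (nat_lit 2) (nat_lit 22173) (nat_lit 293) (Ex.cons (nat_lit 3) (nat_lit 19563) (nat_lit 295) (Ex.cons (nat_lit 2) (nat_lit 22239) (nat_lit 299) (Ex.cons (nat_lit 2) (nat_lit 22382) (nat_lit 301) (Ex.cons (nat_lit 2) (nat_lit 22521) (nat_lit 304) (Ex.cons (nat_lit 2) (nat_lit 22559) (nat_lit 306) (Ex.cons (nat_lit 2) (nat_lit 22730) (nat_lit 308) (Ex.cons (nat_lit 2) (nat_lit 22778) (nat_lit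 310) (Ex.cons (nat_lit 2) (nat_lit 22809) (nat_lit 315) (Ex.cons (nat_lit 1) (nat_lit 23108) (nat_lit 318) (Ex.cons (nat_lit 2) (nat_lit 23165) (nat_lit 320) (Ex.cons (nat_lit 2) (nat_lit 23166) (nat_lit 322) (Ex.cons (nat_lit 2) (nat_lit 23252) (nat_lit 324) (Ex.cons (nat_lit 2) (nat_lit 23256) (nat_lit 326) (Ex.cons (nat_lit 2) (nat_lit 23307) (nat_lit 328) (Ex.cons (nat_lit 2) (nat_lit 23330) (nat_lit 330) (Ex.cons (nat_lit 2) (nat_lit 23368) (nat_lit 332) (Ex.cons (nat_lit 2) (nat_lit 23444) (nat_lit 334) (Ex.cons (nat_lit 2) (nat_lit 23550) (nat_lit 336) (Ex.cons (nat_lit 2) (nat_lit 23560) (nat_lit 338) (Ex.cons (nat_lit 2) (nat_lit 23638) (nat_lit 340) (Ex.cons (nat_lit 2) (nat_lit 23640) (nat_lit 342) (Ex.cons (nat_lit 2) (nat_lit 23661) (nat_lit 344) (Ex.cons (nat_lit 2) (nat_lit 23672) (nat_lit 346) (Ex.cons (nat_lit 2) (nat_lit 23686) (nat_lit 348) (Ex.cons (nat_lit 2) (nat_lit 23704) (nat_lit 350) (Ex.cons (nat_lit 2) (nat_lit 23717) (nat_lit 353) (Ex.cons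 (nat_lit 2) (nat_lit 23720) (nat_lit 355) (Ex.cons (nat_lit 2) (nat_lit 23734) (nat_lit 357) (Ex.cons (nat_lit 2) (nat_lit 23758) (nat_lit 359) (Ex.cons (nat_lit 2) (nat_lit 23777) (nat_lit 361) (Ex.cons (nat_lit 3) (nat_lit 23780) (nat_lit 365) (Ex.cons (nat_lit 2) (nat_lit 23782) (nat_lit 367) (Ex.cons (nat_lit 2) (nat_lit 24017) (nat_lit 372) (Ex.cons (nat_lit 2) (nat_lit 24029) (nat_lit 374) (Ex.cons (nat_lit 2) (nat_lit 24167) (nat_lit 377) (Ex.cons (nat_lit 2) (nat_lit 24198) (nat_lit 379) (Ex.cons (nat_lit 2) (nat_lit 24355) (nat_lit 381) (Ex.cons (nat_lit 3) (nat_lit 24410) (nat_lit 393) (Ex.cons (nat_lit 2) (nat_lit 24634) (nat_lit 395) (Ex.cons (nat_lit 2) (nat_lit 24636) (nat_lit 397) (Ex.cons (nat_lit 2) (nat_lit 24691) (nat_lit 399) (Ex.cons (nat_lit 2) (nat_lit 24702) (nat_lit 401) (Ex.cons (nat_lit 2) (nat_lit 24766) (nat_lit 402) (Ex.cons (nat_lit 3) (nat_lit 24817) (nat_lit 413) (Ex.cons (nat_lit 2) (nat_lit 24883) (nat_lit 415) (Ex.cons (nat_lit 2) (nat_lit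 24924) (nat_lit 417) (Ex.cons (nat_lit 2) (nat_lit 24955) (nat_lit 419) (Ex.cons (nat_lit 2) (nat_lit 25000) (nat_lit 421) (Ex.cons (nat_lit 2) (nat_lit 25097) (nat_lit 423) (Ex.cons (nat_lit 2) (nat_lit 25216) (nat_lit 428) (Ex.cons (nat_lit 2) (nat_lit 25245) (nat_lit 430) (Ex.cons (nat_lit 2) (nat_lit 25575) (nat_lit 433) (Ex.cons (nat_lit 2) (nat_lit 25683) (nat_lit 435) (Ex.cons (nat_lit 2) (nat_lit 25871) (nat_lit 437) (Ex.cons (nat_lit 3) (nat_lit 25672) (nat_lit 439) (Ex.cons (nat_lit 2) (nat_lit 25939) (nat_lit 441) (Ex.cons (nat_lit 2) (nat_lit 25961) (nat_lit 443) (Ex.cons (nat_lit 2) (nat_lit 25964) (nat_lit 445) (Ex.cons (nat_lit 2) (nat_lit 26043) (nat_lit 447) (Ex.cons (nat_lit 2) (nat_lit 26059) (nat_lit 449) (Ex.cons (nat_lit 2) (nat_lit 26172) (nat_lit 451) (Ex.cons (nat_lit 2) (nat_lit 26173) (nat_lit 453) (Ex.cons (nat_lit 2) (nat_lit 26174) (nat_lit 455) (Ex.cons (nat_lit 2) (nat_lit 26328) (nat_lit 457) (Ex.cons (nat_lit 2) (nat_lit 26503) (nat_lit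 459) (Ex.cons (nat_lit 2) (nat_lit 26540) (nat_lit 461) (Ex.cons (nat_lit 3) (nat_lit 26621) (nat_lit 463) (Ex.cons (nat_lit 2) (nat_lit 26764) (nat_lit 465) (Ex.cons (nat_lit 2) (nat_lit 26772) (nat_lit 467) (Ex.cons (nat_lit 2) (nat_lit 26850) (nat_lit 469) (Ex.cons (nat_lit 2) (nat_lit 26953) (nat_lit 471) (Ex.cons (nat_lit 2) (nat_lit 26969) (nat_lit 474) (Ex.cons (nat_lit 2) (nat_lit 26995) (nat_lit 479) (Ex.cons (nat_lit 2) (nat_lit 27239) (nat_lit 481) (Ex.cons (nat_lit 2) (nat_lit 27294) (nat_lit 483) (Ex.cons (nat_lit 2) (nat_lit 27411) (nat_lit 485) (Ex.cons (nat_lit 2) (nat_lit 27414) (nat_lit 487) (Ex.cons (nat_lit 2) (nat_lit 27461) (nat_lit 489) (Ex.cons (nat_lit 3) (nat_lit 23292) (nat_lit 491) (Ex.cons (nat_lit 2) (nat_lit 27542) (nat_lit 493) (Ex.cons (nat_lit 2) (nat_lit 27606) (nat_lit 498) (Ex.cons (nat_lit 2) (nat_lit 27714) (nat_lit 501) (Ex.cons (nat_lit 2) (nat_lit 27803) (nat_lit 503) (Ex.cons (nat_lit 2) (nat_lit 27821) (nat_lit 505) (Ex.cons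 (nat_lit 2) (nat_lit 27966) (nat_lit 510) (Ex.cons (nat_lit 2) (nat_lit 28155) (nat_lit 512) (Ex.cons (nat_lit 3) (nat_lit 28169) (nat_lit 520) (Ex.cons (nat_lit 2) (nat_lit 28280) (nat_lit 522) (Ex.cons (nat_lit 2) (nat_lit 28294) (nat_lit 524) (Ex.cons (nat_lit 2) (nat_lit 28308) (nat_lit 526) (Ex.cons (nat_lit 2) (nat_lit 28312) (nat_lit 528) (Ex.cons (nat_lit 3) (nat_lit 28442) (nat_lit 530) (Ex.cons (nat_lit 2) (nat_lit 28444) (nat_lit 532) (Ex.cons (nat_lit 2) (nat_lit 28461) (nat_lit 534) (Ex.cons (nat_lit 2) (nat_lit 28599) (nat_lit 536) (Ex.cons (nat_lit 2) (nat_lit 28697) (nat_lit 538) (Ex.cons (nat_lit 2) (nat_lit 28745) (nat_lit 540) (Ex.cons (nat_lit 2) (nat_lit 28785) (nat_lit 543) (Ex.cons (nat_lit 2) (nat_lit 28786) (nat_lit 547) (Ex.cons (nat_lit 2) (nat_lit 28852) (nat_lit 549) (Ex.cons (nat_lit 0) (nat_lit 28961) (nat_lit 552) (Ex.cons (nat_lit 2) (nat_lit 28978) (nat_lit 554) (Ex.cons (nat_lit 3) (nat_lit 28988) (nat_lit 556) (Ex.cons (nat_lit 2) (nat_lit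 29228) (nat_lit 558) (Ex.cons (nat_lit 2) (nat_lit 29273) (nat_lit 560) (Ex.cons (nat_lit 3) (nat_lit 29341) (nat_lit 561) (Ex.cons (nat_lit 2) (nat_lit 29452) (nat_lit 563) (Ex.cons (nat_lit 3) (nat_lit 29466) (nat_lit 565) (Ex.cons (nat_lit 2) (nat_lit 29593) (nat_lit 570) (Ex.cons (nat_lit 2) (nat_lit 29597) (nat_lit 572) (Ex.cons (nat_lit 2) (nat_lit 29619) (nat_lit 574) (Ex.cons (nat_lit 2) (nat_lit 29632) (nat_lit 576) (Ex.cons (nat_lit 2) (nat_lit 29660) (nat_lit 578) (Ex.cons (nat_lit 2) (nat_lit 29673) (nat_lit 580) (Ex.cons (nat_lit 2) (nat_lit 29730) (nat_lit 582) (Ex.cons (nat_lit 2) (nat_lit 30058) (nat_lit 584) (Ex.cons (nat_lit 1) (nat_lit 29866) (nat_lit 586) (Ex.cons (nat_lit 2) (nat_lit 30120) (nat_lit 588) (Ex.cons (nat_lit 2) (nat_lit 30131) (nat_lit 590) (Ex.cons (nat_lit 2) (nat_lit 30150) (nat_lit 592) (Ex.cons (nat_lit 3) (nat_lit 30167) (nat_lit 594) (Ex.cons (nat_lit 2) (nat_lit 30197) (nat_lit 597) (Ex.cons (nat_lit 2) (nat_lit 30227) (nat_lit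 602) (Ex.cons (nat_lit 2) (nat_lit 30321) (nat_lit 604) (Ex.cons (nat_lit 2) (nat_lit 30361) (nat_lit 606) (Ex.cons (nat_lit 3) (nat_lit 30520) (nat_lit 614) (Ex.cons (nat_lit 2) (nat_lit 30613) (nat_lit 616) (Ex.cons (nat_lit 2) (nat_lit 30630) (nat_lit 618) (Ex.cons (nat_lit 2) (nat_lit 30662) (nat_lit 620) (Ex.cons (nat_lit 2) (nat_lit 30875) (nat_lit 622) (Ex.cons (nat_lit 2) (nat_lit 31025) (nat_lit 624) (Ex.cons (nat_lit 2) (nat_lit 31055) (nat_lit 626) (Ex.cons (nat_lit 2) (nat_lit 31106) (nat_lit 628) (Ex.cons (nat_lit 2) (nat_lit 31327) (nat_lit 630) (Ex.cons (nat_lit 2) (nat_lit 31328) (nat_lit 632) (Ex.cons (nat_lit 3) (nat_lit 31400) (nat_lit 637) (Ex.cons (nat_lit 2) (nat_lit 31447) (nat_lit 639) (Ex.cons (nat_lit 2) (nat_lit 31460) (nat_lit 642) (Ex.cons (nat_lit 2) (nat_lit 31555) (nat_lit 644) (Ex.cons (nat_lit 2) (nat_lit 31573) (nat_lit 646) (Ex.cons (nat_lit 2) (nat_lit 31576) (nat_lit 648) (Ex.cons (nat_lit 2) (nat_lit 31674) (nat_lit 650) (Ex.cons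 (nat_lit 2) (nat_lit 31701) (nat_lit 653) (Ex.cons (nat_lit 2) (nat_lit 31711) (nat_lit 655) (Ex.cons (nat_lit 2) (nat_lit 31726) (nat_lit 657) (Ex.cons (nat_lit 1) (nat_lit 31739) (nat_lit 659) (Ex.cons (nat_lit 2) (nat_lit 31808) (nat_lit 661) (Ex.cons (nat_lit 2) (nat_lit 31953) (nat_lit 663) (Ex.cons (nat_lit 2) (nat_lit 32028) (nat_lit 667) (Ex.cons (nat_lit 2) (nat_lit 32063) (nat_lit 669) (Ex.cons (nat_lit 2) (nat_lit 32091) (nat_lit 671) (Ex.cons (nat_lit 2) (nat_lit 32293) (nat_lit 673) (Ex.cons (nat_lit 2) (nat_lit 32294) (nat_lit 678) (Ex.cons (nat_lit 2) (nat_lit 32334) (nat_lit 680) (Ex.cons (nat_lit 2) (nat_lit 32336) (nat_lit 682) (Ex.cons (nat_lit 2) (nat_lit 32354) (nat_lit 684) (Ex.cons (nat_lit 2) (nat_lit 32357) (nat_lit 686) (Ex.cons (nat_lit 2) (nat_lit 32403) (nat_lit 688) (Ex.cons (nat_lit 2) (nat_lit 32491) (nat_lit 690) (Ex.cons (nat_lit 2) (nat_lit 32621) (nat_lit 692) (Ex.cons (nat_lit 2) (nat_lit 32677) (nat_lit 694) (Ex.cons (nat_lit 2) (nat_lit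 32757) (nat_lit 696) (Ex.cons (nat_lit 2) (nat_lit 32769) (nat_lit 698) (Ex.cons (nat_lit 2) (nat_lit 32804) (nat_lit 700) (Ex.cons (nat_lit 2) (nat_lit 32835) (nat_lit 702) (Ex.cons (nat_lit 2) (nat_lit 32859) (nat_lit 704) (Ex.cons (nat_lit 2) (nat_lit 32901) (nat_lit 706) (Ex.cons (nat_lit 1) (nat_lit 32910) (nat_lit 708) (Ex.cons (nat_lit 2) (nat_lit 32986) (nat_lit 710) (Ex.cons (nat_lit 2) (nat_lit 33050) (nat_lit 715) (Ex.cons (nat_lit 2) (nat_lit 33103) (nat_lit 717) (Ex.cons (nat_lit 2) (nat_lit 33123) (nat_lit 719) (Ex.cons (nat_lit 2) (nat_lit 33125) (nat_lit 721) (Ex.cons (nat_lit 2) (nat_lit 33157) (nat_lit 723) (Ex.cons (nat_lit 2) (nat_lit 33181) (nat_lit 726) (Ex.cons (nat_lit 2) (nat_lit 33241) (nat_lit 728) (Ex.cons (nat_lit 2) (nat_lit 33246) (nat_lit 733) (Ex.cons (nat_lit 2) (nat_lit 33269) (nat_lit 740) (Ex.cons (nat_lit 2) (nat_lit 33276) (nat_lit 742) (Ex.cons (nat_lit 2) (nat_lit 33353) (nat_lit 744) (Ex.cons (nat_lit 2) (nat_lit 33459) (nat_lit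 746) (Ex.cons (nat_lit 2) (nat_lit 33461) (nat_lit 748) (Ex.cons (nat_lit 2) (nat_lit 33474) (nat_lit 750) (Ex.cons (nat_lit 2) (nat_lit 33520) (nat_lit 752) (Ex.cons (nat_lit 2) (nat_lit 33619) (nat_lit 755) (Ex.cons (nat_lit 2) (nat_lit 33674) (nat_lit 757) (Ex.cons (nat_lit 2) (nat_lit 33686) (nat_lit 759) (Ex.cons (nat_lit 2) (nat_lit 33777) (nat_lit 761) (Ex.cons (nat_lit 2) (nat_lit 33895) (nat_lit 765) (Ex.cons (nat_lit 2) (nat_lit 33999) (nat_lit 767) (Ex.cons (nat_lit 2) (nat_lit 34031) (nat_lit 769) (Ex.cons (nat_lit 2) (nat_lit 34053) (nat_lit 774) (Ex.cons (nat_lit 2) (nat_lit 34079) (nat_lit 776) (Ex.cons (nat_lit 2) (nat_lit 34177) (nat_lit 778) (Ex.cons (nat_lit 2) (nat_lit 34180) (nat_lit 780) (Ex.cons (nat_lit 2) (nat_lit 34191) (nat_lit 782) (Ex.cons (nat_lit 2) (nat_lit 34228) (nat_lit 784) (Ex.cons (nat_lit 2) (nat_lit 34229) (nat_lit 786) (Ex.cons (nat_lit 2) (nat_lit 34262) (nat_lit 788) (Ex.cons (nat_lit 2) (nat_lit 34330) (nat_lit 790) (Ex.cons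 (nat_lit 2) (nat_lit 34382) (nat_lit 792) (Ex.cons (nat_lit 2) (nat_lit 34414) (nat_lit 794) (Ex.cons (nat_lit 2) (nat_lit 34445) (nat_lit 796) (Ex.cons (nat_lit 2) (nat_lit 34493) (nat_lit 798) (Ex.cons (nat_lit 2) (nat_lit 34528) (nat_lit 801) (Ex.cons (nat_lit 2) (nat_lit 34540) (nat_lit 803) (Ex.cons (nat_lit 1) (nat_lit 34642) (nat_lit 805) (Ex.cons (nat_lit 2) (nat_lit 34661) (nat_lit 807) (Ex.cons (nat_lit 2) (nat_lit 34699) (nat_lit 810) (Ex.cons (nat_lit 2) (nat_lit 34856) (nat_lit 812) (Ex.cons (nat_lit 2) (nat_lit 34870) (nat_lit 814) (Ex.cons (nat_lit 2) (nat_lit 34913) (nat_lit 816) (Ex.cons (nat_lit 0) (nat_lit 27006) (nat_lit 850) (Ex.cons (nat_lit 2) (nat_lit 17296) (nat_lit 865) (Ex.cons (nat_lit 2) (nat_lit 34949) (nat_lit 867) (Ex.cons (nat_lit 2) (nat_lit 35010) (nat_lit 869) (Ex.cons (nat_lit 2) (nat_lit 35043) (nat_lit 871) (Ex.cons (nat_lit 2) (nat_lit 35144) (nat_lit 873) (Ex.cons (nat_lit 2) (nat_lit 35198) (nat_lit 875) (Ex.cons (nat_lit 2) (nat_lit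 35213) (nat_lit 878) (Ex.cons (nat_lit 2) (nat_lit 35315) (nat_lit 883) (Ex.cons (nat_lit 2) (nat_lit 35438) (nat_lit 885) (Ex.cons (nat_lit 2) (nat_lit 35449) (nat_lit 887) (Ex.cons (nat_lit 2) (nat_lit 35501) (nat_lit 891) (Ex.cons (nat_lit 2) (nat_lit 35586) (nat_lit 893) (Ex.cons (nat_lit 2) (nat_lit 35590) (nat_lit 895) (Ex.cons (nat_lit 2) (nat_lit 35856) (nat_lit 897) (Ex.cons (nat_lit 2) (nat_lit 35904) (nat_lit 902) (Ex.cons (nat_lit 2) (nat_lit 35932) (nat_lit 904) (Ex.cons (nat_lit 2) (nat_lit 35968) (nat_lit 906) (Ex.cons (nat_lit 2) (nat_lit 35978) (nat_lit 908) (Ex.cons (nat_lit 2) (nat_lit 35982) (nat_lit 910) (Ex.cons (nat_lit 1) (nat_lit 35998) (nat_lit 913) (Ex.cons (nat_lit 2) (nat_lit 36011) (nat_lit 915) (Ex.cons (nat_lit 3) (nat_lit 26886) (nat_lit 917) (Ex.cons (nat_lit 2) (nat_lit 36073) (nat_lit 919) (Ex.cons (nat_lit 2) (nat_lit 36083) (nat_lit 921) (Ex.cons (nat_lit 2) (nat_lit 36116) (nat_lit 923) (Ex.cons (nat_lit 2) (nat_lit 36157) (nat_lit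 925) (Ex.cons (nat_lit 2) (nat_lit 36177) (nat_lit 927) (Ex.cons (nat_lit 2) (nat_lit 36226) (nat_lit 929) (Ex.cons (nat_lit 2) (nat_lit 36234) (nat_lit 931) (Ex.cons (nat_lit 3) (nat_lit 36262) (nat_lit 933) (Ex.cons (nat_lit 3) (nat_lit 35995) (nat_lit 941) (Ex.cons (nat_lit 2) (nat_lit 36352) (nat_lit 943) (Ex.cons (nat_lit 2) (nat_lit 36376) (nat_lit 945) (Ex.cons (nat_lit 2) (nat_lit 36378) (nat_lit 947) (Ex.cons (nat_lit 2) (nat_lit 36446) (nat_lit 949) (Ex.cons (nat_lit 1) (nat_lit 36515) (nat_lit 951) (Ex.cons (nat_lit 3) (nat_lit 36560) (nat_lit 953) (Ex.cons (nat_lit 2) (nat_lit 36576) (nat_lit 955) (Ex.cons (nat_lit 1) (nat_lit 36599) (nat_lit 957) (Ex.cons (nat_lit 2) (nat_lit 36672) (nat_lit 959) (Ex.cons (nat_lit 2) (nat_lit 36678) (nat_lit 962) (Ex.cons (nat_lit 2) (nat_lit 36835) (nat_lit 964) (Ex.cons (nat_lit 2) (nat_lit 36875) (nat_lit 966) (Ex.cons (nat_lit 2) (nat_lit 36923) (nat_lit 968) (Ex.cons (nat_lit 2) (nat_lit 36936) (nat_lit 970) (Ex.cons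 (nat_lit 2) (nat_lit 36976) (nat_lit 972) (Ex.cons (nat_lit 2) (nat_lit 36997) (nat_lit 974) (Ex.cons (nat_lit 3) (nat_lit 37053) (nat_lit 976) (Ex.cons (nat_lit 2) (nat_lit 37057) (nat_lit 978) (Ex.cons (nat_lit 3) (nat_lit 28295) (nat_lit 986) (Ex.cons (nat_lit 3) (nat_lit 32984) (nat_lit 1005) (Ex.cons (nat_lit 2) (nat_lit 17848) (nat_lit 1019) (Ex.cons (nat_lit 1) (nat_lit 14115) (nat_lit 1032) (Ex.cons (nat_lit 2) (nat_lit 35578) (nat_lit 1035) (Ex.cons (nat_lit 3) (nat_lit 37101) (nat_lit 1037) (Ex.cons (nat_lit 2) (nat_lit 37102) (nat_lit 1039) (Ex.cons (nat_lit 2) (nat_lit 37109) (nat_lit 1041) (Ex.cons (nat_lit 2) (nat_lit 37169) (nat_lit 1044) (Ex.cons (nat_lit 2) (nat_lit 37203) (nat_lit 1046) (Ex.cons (nat_lit 2) (nat_lit 37413) (nat_lit 1048) (Ex.cons (nat_lit 2) (nat_lit 37415) (nat_lit 1050) (Ex.cons (nat_lit 2) (nat_lit 37471) (nat_lit 1052) (Ex.cons (nat_lit 2) (nat_lit 37480) (nat_lit 1056) (Ex.cons (nat_lit 2) (nat_lit 37626) (nat_lit 1058) (Ex.cons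 (nat_lit 2) (nat_lit 37656) (nat_lit 1060) (Ex.cons (nat_lit 2) (nat_lit 37702) (nat_lit 1062) (Ex.cons (nat_lit 2) (nat_lit 37727) (nat_lit 1064) (Ex.cons (nat_lit 2) (nat_lit 37733) (nat_lit 1066) (Ex.cons (nat_lit 2) (nat_lit 37742) (nat_lit 1068) (Ex.cons (nat_lit 2) (nat_lit 37855) (nat_lit 1070) (Ex.cons (nat_lit 2) (nat_lit 37943) (nat_lit 1072) (Ex.cons (nat_lit 2) (nat_lit 37958) (nat_lit 1082) (Ex.cons (nat_lit 2) (nat_lit 37963) (nat_lit 1084) (Ex.cons (nat_lit 0) (nat_lit 37996) (nat_lit 1086) (Ex.cons (nat_lit 2) (nat_lit 38065) (nat_lit 1088) (Ex.cons (nat_lit 2) (nat_lit 38078) (nat_lit 1093) (Ex.cons (nat_lit 2) (nat_lit 38089) (nat_lit 1095) (Ex.cons (nat_lit 2) (nat_lit 38104) (nat_lit 1097) (Ex.cons (nat_lit 2) (nat_lit 38109) (nat_lit 1099) (Ex.cons (nat_lit 2) (nat_lit 38216) (nat_lit 1101) (Ex.cons (nat_lit 2) (nat_lit 38258) (nat_lit 1103) (Ex.cons (nat_lit 2) (nat_lit 38259) (nat_lit 1105) (Ex.cons (nat_lit 1) (nat_lit 29275) (nat_lit 1113) (Ex.cons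 (nat_lit 1) (nat_lit 31286) (nat_lit 1128) (Ex.cons (nat_lit 2) (nat_lit 21282) (nat_lit 1142) (Ex.cons (nat_lit 2) (nat_lit 17807) (nat_lit 1170) (Ex.cons (nat_lit 2) (nat_lit 38330) (nat_lit 1172) (Ex.cons (nat_lit 2) (nat_lit 38391) (nat_lit 1174) (Ex.cons (nat_lit 1) (nat_lit 38567) (nat_lit 1178) (Ex.cons (nat_lit 2) (nat_lit 38595) (nat_lit 1180) (Ex.cons (nat_lit 2) (nat_lit 38606) (nat_lit 1183) (Ex.cons (nat_lit 2) (nat_lit 38749) (nat_lit 1185) (Ex.cons (nat_lit 2) (nat_lit 38762) (nat_lit 1187) (Ex.cons (nat_lit 2) (nat_lit 38833) (nat_lit 1189) (Ex.cons (nat_lit 2) (nat_lit 38896) (nat_lit 1191) (Ex.cons (nat_lit 3) (nat_lit 29172) (nat_lit 1215) (Ex.cons (nat_lit 2) (nat_lit 38916) (nat_lit 1217) (Ex.cons (nat_lit 2) (nat_lit 38928) (nat_lit 1219) (Ex.cons (nat_lit 2) (nat_lit 39005) (nat_lit 1221) (Ex.cons (nat_lit 2) (nat_lit 39050) (nat_lit 1226) (Ex.cons (nat_lit 1) (nat_lit 30850) (nat_lit 1234) (Ex.cons (nat_lit 2) (nat_lit 39066) (nat_lit 1236) (Ex.cons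 (nat_lit 2) (nat_lit 39099) (nat_lit 1239) (Ex.cons (nat_lit 2) (nat_lit 39113) (nat_lit 1241) (Ex.cons (nat_lit 2) (nat_lit 39118) (nat_lit 1246) (Ex.cons (nat_lit 2) (nat_lit 39124) (nat_lit 1248) (Ex.cons (nat_lit 2) (nat_lit 39147) (nat_lit 1250) (Ex.cons (nat_lit 2) (nat_lit 39164) (nat_lit 1252) (Ex.cons (nat_lit 2) (nat_lit 39300) (nat_lit 1254) (Ex.cons (nat_lit 2) (nat_lit 39307) (nat_lit 1256) (Ex.cons (nat_lit 2) (nat_lit 39308) (nat_lit 1258) (Ex.cons (nat_lit 2) (nat_lit 39337) (nat_lit 1260) (Ex.cons (nat_lit 2) (nat_lit 39343) (nat_lit 1262) (Ex.cons (nat_lit 2) (nat_lit 39345) (nat_lit 1264) (Ex.cons (nat_lit 2) (nat_lit 39357) (nat_lit 1266) (Ex.cons (nat_lit 2) (nat_lit 39420) (nat_lit 1268) (Ex.cons (nat_lit 2) (nat_lit 39446) (nat_lit 1270) (Ex.cons (nat_lit 2) (nat_lit 39447) (nat_lit 1272) (Ex.cons (nat_lit 2) (nat_lit 39522) (nat_lit 1274) (Ex.cons (nat_lit 2) (nat_lit 39540) (nat_lit 1277) (Ex.cons (nat_lit 2) (nat_lit 30618) (nat_lit 1279) (Ex.cons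 (nat_lit 2) (nat_lit 39563) (nat_lit 1281) (Ex.cons (nat_lit 2) (nat_lit 39570) (nat_lit 1283) (Ex.cons (nat_lit 2) (nat_lit 39644) (nat_lit 1285) (Ex.cons (nat_lit 2) (nat_lit 39659) (nat_lit 1287) (Ex.cons (nat_lit 2) (nat_lit 39709) (nat_lit 1292) (Ex.cons (nat_lit 2) (nat_lit 39766) (nat_lit 1294) (Ex.cons (nat_lit 2) (nat_lit 39791) (nat_lit 1296) (Ex.cons (nat_lit 2) (nat_lit 34111) (nat_lit 1327) (Ex.cons (nat_lit 2) (nat_lit 39811) (nat_lit 1328) (Ex.cons (nat_lit 2) (nat_lit 39815) (nat_lit 1332) (Ex.cons (nat_lit 2) (nat_lit 39819) (nat_lit 1334) (Ex.cons (nat_lit 2) (nat_lit 39935) (nat_lit 1336) (Ex.cons (nat_lit 1) (nat_lit 39965) (nat_lit 1338) (Ex.cons (nat_lit 2) (nat_lit 39988) (nat_lit 1340) (Ex.cons (nat_lit 2) (nat_lit 39990) (nat_lit 1342) (Ex.cons (nat_lit 2) (nat_lit 40014) (nat_lit 1346) (Ex.cons (nat_lit 2) (nat_lit 40027) (nat_lit 1348) (Ex.cons (nat_lit 2) (nat_lit 40052) (nat_lit 1349) (Ex.cons (nat_lit 2) (nat_lit 40071) (nat_lit 1351) (Ex.cons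 (nat_lit 2) (nat_lit 40107) (nat_lit 1358) (Ex.cons (nat_lit 2) (nat_lit 40114) (nat_lit 1360) (Ex.cons (nat_lit 2) (nat_lit 40120) (nat_lit 1363) (Ex.cons (nat_lit 2) (nat_lit 40179) (nat_lit 1365) (Ex.cons (nat_lit 2) (nat_lit 40206) (nat_lit 1367) (Ex.cons (nat_lit 2) (nat_lit 40257) (nat_lit 1369) (Ex.cons (nat_lit 2) (nat_lit 40264) (nat_lit 1371) (Ex.cons (nat_lit 2) (nat_lit 40329) (nat_lit 1373) (Ex.cons (nat_lit 2) (nat_lit 40385) (nat_lit 1375) (Ex.cons (nat_lit 2) (nat_lit 40423) (nat_lit 1377) (Ex.cons (nat_lit 2) (nat_lit 40461) (nat_lit 1379) (Ex.cons (nat_lit 2) (nat_lit 40470) (nat_lit 1381) (Ex.cons (nat_lit 2) (nat_lit 40485) (nat_lit 1383) (Ex.cons (nat_lit 2) (nat_lit 40526) (nat_lit 1385) (Ex.cons (nat_lit 2) (nat_lit 40552) (nat_lit 1387) (Ex.cons (nat_lit 2) (nat_lit 40557) (nat_lit 1389) (Ex.cons (nat_lit 2) (nat_lit 40607) (nat_lit 1391) (Ex.cons (nat_lit 2) (nat_lit 40632) (nat_lit 1393) (Ex.cons (nat_lit 3) (nat_lit 40695) (nat_lit 1395) (Ex.cons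 (nat_lit 2) (nat_lit 40698) (nat_lit 1397) (Ex.cons (nat_lit 2) (nat_lit 40713) (nat_lit 1399) (Ex.cons (nat_lit 2) (nat_lit 40826) (nat_lit 1401) (Ex.cons (nat_lit 2) (nat_lit 40840) (nat_lit 1403) (Ex.cons (nat_lit 2) (nat_lit 40843) (nat_lit 1405) (Ex.cons (nat_lit 2) (nat_lit 40986) (nat_lit 1407) (Ex.cons (nat_lit 2) (nat_lit 40993) (nat_lit 1409) (Ex.cons (nat_lit 1) (nat_lit 41031) (nat_lit 1411) (Ex.cons (nat_lit 3) (nat_lit 41035) (nat_lit 1413) (Ex.cons (nat_lit 2) (nat_lit 41038) (nat_lit 1415) (Ex.cons (nat_lit 2) (nat_lit 41043) (nat_lit 1417) (Ex.cons (nat_lit 1) (nat_lit 41094) (nat_lit 1419) (Ex.cons (nat_lit 0) (nat_lit 41147) (nat_lit 1421) (Ex.cons (nat_lit 2) (nat_lit 41212) (nat_lit 1423) (Ex.cons (nat_lit 3) (nat_lit 41221) (nat_lit 1425) (Ex.cons (nat_lit 1) (nat_lit 41232) (nat_lit 1429) (Ex.cons (nat_lit 2) (nat_lit 41320) (nat_lit 1431) (Ex.cons (nat_lit 2) (nat_lit 41355) (nat_lit 1433) (Ex.cons (nat_lit 2) (nat_lit 41357) (nat_lit 1435) (Ex.cons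 (nat_lit 2) (nat_lit 41359) (nat_lit 1437) (Ex.cons (nat_lit 2) (nat_lit 41407) (nat_lit 1439) (Ex.cons (nat_lit 2) (nat_lit 41432) (nat_lit 1441) (Ex.cons (nat_lit 2) (nat_lit 41436) (nat_lit 1443) (Ex.cons (nat_lit 2) (nat_lit 41440) (nat_lit 1445) (Ex.cons (nat_lit 2) (nat_lit 41460) (nat_lit 1447) (Ex.cons (nat_lit 2) (nat_lit 41494) (nat_lit 1450) (Ex.cons (nat_lit 2) (nat_lit 41516) (nat_lit 1453) (Ex.cons (nat_lit 2) (nat_lit 41524) (nat_lit 1455) (Ex.cons (nat_lit 2) (nat_lit 41534) (nat_lit 1457) (Ex.cons (nat_lit 2) (nat_lit 41556) (nat_lit 1459) (Ex.cons (nat_lit 2) (nat_lit 41563) (nat_lit 1461) (Ex.cons (nat_lit 2) (nat_lit 41565) (nat_lit 1464) (Ex.cons (nat_lit 2) (nat_lit 41585) (nat_lit 1466) (Ex.cons (nat_lit 2) (nat_lit 41593) (nat_lit 1468) (Ex.cons (nat_lit 2) (nat_lit 41624) (nat_lit 1470) (Ex.cons (nat_lit 2) (nat_lit 41635) (nat_lit 1472) (Ex.cons (nat_lit 2) (nat_lit 41650) (nat_lit 1474) (Ex.cons (nat_lit 2) (nat_lit 41652) (nat_lit 1476) (Ex.cons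 (nat_lit 2) (nat_lit 41671) (nat_lit 1478) (Ex.cons (nat_lit 2) (nat_lit 41682) (nat_lit 1480) (Ex.cons (nat_lit 2) (nat_lit 41709) (nat_lit 1482) (Ex.cons (nat_lit 2) (nat_lit 41720) (nat_lit 1484) (Ex.cons (nat_lit 2) (nat_lit 41770) (nat_lit 1490) (Ex.cons (nat_lit 1) (nat_lit 41812) (nat_lit 1493) (Ex.cons (nat_lit 3) (nat_lit 41835) (nat_lit 1496) (Ex.cons (nat_lit 2) (nat_lit 41865) (nat_lit 1498) (Ex.cons (nat_lit 2) (nat_lit 41941) (nat_lit 1500) (Ex.cons (nat_lit 2) (nat_lit 41964) (nat_lit 1502) (Ex.cons (nat_lit 2) (nat_lit 41966) (nat_lit 1504) (Ex.cons (nat_lit 2) (nat_lit 42113) (nat_lit 1506) (Ex.cons (nat_lit 2) (nat_lit 42165) (nat_lit 1508) (Ex.cons (nat_lit 2) (nat_lit 42232) (nat_lit 1510) (Ex.cons (nat_lit 2) (nat_lit 42300) (nat_lit 1512) (Ex.cons (nat_lit 2) (nat_lit 42371) (nat_lit 1514) (Ex.cons (nat_lit 2) (nat_lit 42372) (nat_lit 1516) (Ex.cons (nat_lit 2) (nat_lit 42388) (nat_lit 1518) (Ex.cons (nat_lit 2) (nat_lit 42473) (nat_lit 1520) (Ex.cons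 (nat_lit 2) (nat_lit 42483) (nat_lit 1523) (Ex.cons (nat_lit 2) (nat_lit 42484) (nat_lit 1525) (Ex.cons (nat_lit 2) (nat_lit 42525) (nat_lit 1527) (Ex.cons (nat_lit 2) (nat_lit 42548) (nat_lit 1529) (Ex.cons (nat_lit 2) (nat_lit 42604) (nat_lit 1531) (Ex.cons (nat_lit 2) (nat_lit 42631) (nat_lit 1533) (Ex.cons (nat_lit 3) (nat_lit 42014) (nat_lit 1535) (Ex.cons (nat_lit 2) (nat_lit 42664) (nat_lit 1537) (Ex.cons (nat_lit 2) (nat_lit 42690) (nat_lit 1539) (Ex.cons (nat_lit 2) (nat_lit 42696) (nat_lit 1541) (Ex.cons (nat_lit 2) (nat_lit 42698) (nat_lit 1543) (Ex.cons (nat_lit 2) (nat_lit 42718) (nat_lit 1545) (Ex.cons (nat_lit 2) (nat_lit 42725) (nat_lit 1552) (Ex.cons (nat_lit 2) (nat_lit 42767) (nat_lit 1557) (Ex.cons (nat_lit 2) (nat_lit 42569) (nat_lit 1562) (Ex.cons (nat_lit 1) (nat_lit 42789) (nat_lit 1564) (Ex.cons (nat_lit 2) (nat_lit 42861) (nat_lit 1566) (Ex.cons (nat_lit 2) (nat_lit 42875) (nat_lit 1568) (Ex.cons (nat_lit 2) (nat_lit 42886) (nat_lit 1570) (Ex.cons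 (nat_lit 2) (nat_lit 42917) (nat_lit 1572) (Ex.cons (nat_lit 2) (nat_lit 42951) (nat_lit 1574) (Ex.cons (nat_lit 2) (nat_lit 42959) (nat_lit 1577) (Ex.cons (nat_lit 1) (nat_lit 42997) (nat_lit 1579) (Ex.cons (nat_lit 2) (nat_lit 43002) (nat_lit 1581) (Ex.cons (nat_lit 1) (nat_lit 43006) (nat_lit 1585) (Ex.cons (nat_lit 2) (nat_lit 43026) (nat_lit 1594) (Ex.cons (nat_lit 3) (nat_lit 43039) (nat_lit 1596) (Ex.cons (nat_lit 3) (nat_lit 43084) (nat_lit 1600) (Ex.cons (nat_lit 2) (nat_lit 43103) (nat_lit 1602) (Ex.cons (nat_lit 2) (nat_lit 43198) (nat_lit 1604) (Ex.cons (nat_lit 2) (nat_lit 43231) (nat_lit 1606) (Ex.cons (nat_lit 2) (nat_lit 43237) (nat_lit 1608) (Ex.cons (nat_lit 2) (nat_lit 43250) (nat_lit 1610) (Ex.cons (nat_lit 2) (nat_lit 43259) (nat_lit 1612) (Ex.cons (nat_lit 2) (nat_lit 43274) (nat_lit 1614) (Ex.cons (nat_lit 2) (nat_lit 43276) (nat_lit 1616) (Ex.cons (nat_lit 2) (nat_lit 43294) (nat_lit 1618) (Ex.cons (nat_lit 2) (nat_lit 43310) (nat_lit 1620) (Ex.cons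 (nat_lit 2) (nat_lit 43313) (nat_lit 1623) (Ex.cons (nat_lit 2) (nat_lit 43321) (nat_lit 1625) (Ex.cons (nat_lit 2) (nat_lit 43365) (nat_lit 1627) (Ex.cons (nat_lit 2) (nat_lit 43439) (nat_lit 1629) (Ex.cons (nat_lit 2) (nat_lit 43441) (nat_lit 1631) (Ex.cons (nat_lit 3) (nat_lit 43463) (nat_lit 1633) (Ex.cons (nat_lit 2) (nat_lit 43498) (nat_lit 1635) (Ex.cons (nat_lit 2) (nat_lit 43508) (nat_lit 1637) (Ex.cons (nat_lit 0) (nat_lit 40222) (nat_lit 1642) (Ex.cons (nat_lit 2) (nat_lit 43773) (nat_lit 1644) (Ex.cons (nat_lit 2) (nat_lit 43829) (nat_lit 1646) (Ex.cons (nat_lit 2) (nat_lit 43890) (nat_lit 1648) (Ex.cons (nat_lit 2) (nat_lit 43905) (nat_lit 1650) (Ex.cons (nat_lit 2) (nat_lit 43919) (nat_lit 1652) (Ex.cons (nat_lit 2) (nat_lit 43950) (nat_lit 1654) (Ex.cons (nat_lit 2) (nat_lit 44030) (nat_lit 1656) (Ex.cons (nat_lit 2) (nat_lit 44105) (nat_lit 1658) (Ex.cons (nat_lit 2) (nat_lit 44109) (nat_lit 1660) (Ex.cons (nat_lit 2) (nat_lit 44130) (nat_lit 1662) (Ex.cons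 (nat_lit 2) (nat_lit 44139) (nat_lit 1664) (Ex.cons (nat_lit 0) (nat_lit 36237) (nat_lit 1674) (Ex.cons (nat_lit 2) (nat_lit 18402) (nat_lit 1730) (Ex.cons (nat_lit 3) (nat_lit 25083) (nat_lit 1774) (Ex.cons (nat_lit 1) (nat_lit 24172) (nat_lit 1793) (Ex.cons (nat_lit 2) (nat_lit 36534) (nat_lit 1917) (Ex.cons (nat_lit 2) (nat_lit 32822) (nat_lit 1960) (Ex.cons (nat_lit 1) (nat_lit 20373) (nat_lit 1978) (Ex.cons (nat_lit 1) (nat_lit 14911) (nat_lit 2034) (Ex.cons (nat_lit 1) (nat_lit 14338) (nat_lit 2047) (Ex.cons (nat_lit 3) (nat_lit 21369) (nat_lit 2081) (Ex.cons (nat_lit 3) (nat_lit 30301) (nat_lit 2096) (Ex.cons (nat_lit 3) (nat_lit 6306) (nat_lit 2205) (Ex.cons (nat_lit 1) (nat_lit 15450) (nat_lit 2212) (Ex.cons (nat_lit 2) (nat_lit 18740) (nat_lit 2270) (Ex.cons (nat_lit 2) (nat_lit 22878) (nat_lit 2286) (Ex.cons (nat_lit 2) (nat_lit 18102) (nat_lit 2334) (Ex.cons (nat_lit 2) (nat_lit 10158) (nat_lit 2358) (Ex.cons (nat_lit 1) (nat_lit 33350) (nat_lit 2452) (Ex.cons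 (nat_lit 3) (nat_lit 18017) (nat_lit 2544) (Ex.cons (nat_lit 1) (nat_lit 15176) (nat_lit 2586) (Ex.cons (nat_lit 1) (nat_lit 16191) (nat_lit 2666) (Ex.cons (nat_lit 1) (nat_lit 16751) (nat_lit 2904) (Ex.cons (nat_lit 1) (nat_lit 24107) (nat_lit 2979) (Ex.cons (nat_lit 1) (nat_lit 14726) (nat_lit 3032) (Ex.cons (nat_lit 1) (nat_lit 37054) (nat_lit 3038) (Ex.cons (nat_lit 3) (nat_lit 35930) (nat_lit 3075) (Ex.cons (nat_lit 1) (nat_lit 41248) (nat_lit 3090) (Ex.cons (nat_lit 1) (nat_lit 41496) (nat_lit 3102) (Ex.cons (nat_lit 3) (nat_lit 33441) (nat_lit 3107) (Ex.cons (nat_lit 1) (nat_lit 28442) (nat_lit 3117) (Ex.cons (nat_lit 3) (nat_lit 17160) (nat_lit 3256) (Ex.cons (nat_lit 3) (nat_lit 28823) (nat_lit 3332) (Ex.cons (nat_lit 3) (nat_lit 40180) (nat_lit 3346) (Ex.cons (nat_lit 3) (nat_lit 40127) (nat_lit 3357) (Ex.cons (nat_lit 3) (nat_lit 22772) (nat_lit 3438) (Ex.cons (nat_lit 2) (nat_lit 24024) (nat_lit 3528) (Ex.cons (nat_lit 1) (nat_lit 32330) (nat_lit 3536) (Ex.cons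 (nat_lit 2) (nat_lit 21047) (nat_lit 3546) (Ex.cons (nat_lit 2) (nat_lit 21860) (nat_lit 3629) (Ex.cons (nat_lit 3) (nat_lit 14802) (nat_lit 3754) (Ex.cons (nat_lit 2) (nat_lit 27271) (nat_lit 3767) (Ex.cons (nat_lit 1) (nat_lit 27438) (nat_lit 3773) (Ex.cons (nat_lit 1) (nat_lit 36368) (nat_lit 3784) (Ex.cons (nat_lit 2) (nat_lit 23657) (nat_lit 3793) (Ex.cons (nat_lit 3) (nat_lit 36894) (nat_lit 3878) (Ex.cons (nat_lit 1) (nat_lit 25099) (nat_lit 3897) (Ex.cons (nat_lit 1) (nat_lit 34944) (nat_lit 3914) (Ex.cons (nat_lit 1) (nat_lit 37138) (nat_lit 3938) (Ex.cons (nat_lit 2) (nat_lit 17393) (nat_lit 3956) (Ex.cons (nat_lit 3) (nat_lit 35010) (nat_lit 4055) (Ex.cons (nat_lit 1) (nat_lit 34256) (nat_lit 4164) (Ex.cons (nat_lit 1) (nat_lit 27293) (nat_lit 4169) (Ex.cons (nat_lit 2) (nat_lit 32490) (nat_lit 4174) (Ex.cons (nat_lit 1) (nat_lit 31709) (nat_lit 4278) (Ex.cons (nat_lit 2) (nat_lit 32473) (nat_lit 4286) (Ex.cons (nat_lit 2) (nat_lit 23795) (nat_lit 4316) (Ex.cons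 (nat_lit 2) (nat_lit 36574) (nat_lit 4333) (Ex.cons (nat_lit 1) (nat_lit 11963) (nat_lit 4356) (Ex.cons (nat_lit 2) (nat_lit 28873) (nat_lit 4376) (Ex.cons (nat_lit 3) (nat_lit 28575) (nat_lit 4380) (Ex.cons (nat_lit 1) (nat_lit 15013) (nat_lit 4478) (Ex.cons (nat_lit 2) (nat_lit 24669) (nat_lit 4487) (Ex.cons (nat_lit 3) (nat_lit 38525) (nat_lit 4541) (Ex.cons (nat_lit 1) (nat_lit 33861) (nat_lit 4545) (Ex.cons (nat_lit 2) (nat_lit 33772) (nat_lit 4556) (Ex.cons (nat_lit 2) (nat_lit 38764) (nat_lit 4575) (Ex.cons (nat_lit 3) (nat_lit 38393) (nat_lit 4630) (Ex.cons (nat_lit 2) (nat_lit 32727) (nat_lit 4650) (Ex.cons (nat_lit 3) (nat_lit 36830) (nat_lit 4661) (Ex.cons (nat_lit 2) (nat_lit 28174) (nat_lit 4682) (Ex.cons (nat_lit 3) (nat_lit 31444) (nat_lit 4698) (Ex.cons (nat_lit 2) (nat_lit 33827) (nat_lit 4795) (Ex.cons (nat_lit 3) (nat_lit 33916) (nat_lit 4810) (Ex.cons (nat_lit 1) (nat_lit 42412) (nat_lit 4829) (Ex.cons (nat_lit 3) (nat_lit 31705) (nat_lit 4879) (Ex.cons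 (nat_lit 0) (nat_lit 39746) (nat_lit 4886) (Ex.cons (nat_lit 1) (nat_lit 33126) (nat_lit 4929) (Ex.cons (nat_lit 1) (nat_lit 24282) (nat_lit 4974) (Ex.cons (nat_lit 1) (nat_lit 33416) (nat_lit 4984) (Ex.cons (nat_lit 2) (nat_lit 33411) (nat_lit 4992) (Ex.cons (nat_lit 2) (nat_lit 35874) (nat_lit 4996) (Ex.cons (nat_lit 2) (nat_lit 35350) (nat_lit 4999) (Ex.cons (nat_lit 1) (nat_lit 35327) (nat_lit 5002) (Ex.cons (nat_lit 2) (nat_lit 33458) (nat_lit 5011) (Ex.cons (nat_lit 2) (nat_lit 33584) (nat_lit 5019) (Ex.cons (nat_lit 3) (nat_lit 37129) (nat_lit 5036) (Ex.cons (nat_lit 2) (nat_lit 31477) (nat_lit 5046) (Ex.cons (nat_lit 1) (nat_lit 27679) (nat_lit 5051) (Ex.cons (nat_lit 2) (nat_lit 22764) (nat_lit 5103) (Ex.cons (nat_lit 3) (nat_lit 31132) (nat_lit 5111) (Ex.cons (nat_lit 2) (nat_lit 28329) (nat_lit 5119) (Ex.cons (nat_lit 3) (nat_lit 18472) (nat_lit 5179) (Ex.cons (nat_lit 3) (nat_lit 21987) (nat_lit 5186) (Ex.cons (nat_lit 1) (nat_lit 37792) (nat_lit 5245) (Ex.cons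 (nat_lit 1) (nat_lit 32153) (nat_lit 5281) (Ex.cons (nat_lit 2) (nat_lit 38793) (nat_lit 5301) (Ex.cons (nat_lit 2) (nat_lit 39865) (nat_lit 5331) (Ex.cons (nat_lit 3) (nat_lit 39899) (nat_lit 5335) (Ex.cons (nat_lit 3) (nat_lit 25451) (nat_lit 5368) (Ex.cons (nat_lit 1) (nat_lit 41880) (nat_lit 5383) (Ex.cons (nat_lit 2) (nat_lit 16393) (nat_lit 5392) (Ex.cons (nat_lit 2) (nat_lit 25893) (nat_lit 5482) (Ex.cons (nat_lit 1) (nat_lit 18597) (nat_lit 5487) (Ex.cons (nat_lit 3) (nat_lit 38974) (nat_lit 5502) (Ex.cons (nat_lit 3) (nat_lit 31505) (nat_lit 5532) (Ex.cons (nat_lit 2) (nat_lit 31568) (nat_lit 5539) (Ex.cons (nat_lit 1) (nat_lit 14661) (nat_lit 5574) (Ex.cons (nat_lit 2) (nat_lit 35275) (nat_lit 5587) (Ex.cons (nat_lit 3) (nat_lit 28763) (nat_lit 5598) (Ex.cons (nat_lit 3) (nat_lit 40537) (nat_lit 5602) (Ex.cons (nat_lit 2) (nat_lit 30711) (nat_lit 5607) (Ex.cons (nat_lit 2) (nat_lit 40486) (nat_lit 5611) (Ex.cons (nat_lit 2) (nat_lit 33828) (nat_lit 5630) (Ex.cons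 (nat_lit 2) (nat_lit 44160) (nat_lit 5632) (Ex.cons (nat_lit 2) (nat_lit 34367) (nat_lit 5646) (Ex.cons (nat_lit 3) (nat_lit 25058) (nat_lit 5653) (Ex.cons (nat_lit 2) (nat_lit 44223) (nat_lit 5655) (Ex.cons (nat_lit 2) (nat_lit 44252) (nat_lit 5657) (Ex.cons (nat_lit 1) (nat_lit 44272) (nat_lit 5662) (Ex.cons (nat_lit 2) (nat_lit 44291) (nat_lit 5664) (Ex.cons (nat_lit 1) (nat_lit 25130) (nat_lit 5832) (Ex.cons (nat_lit 3) (nat_lit 11420) (nat_lit 5838) (Ex.cons (nat_lit 2) (nat_lit 32741) (nat_lit 5854) (Ex.cons (nat_lit 2) (nat_lit 44335) (nat_lit 5868) (Ex.cons (nat_lit 2) (nat_lit 44337) (nat_lit 5872) (Ex.cons (nat_lit 3) (nat_lit 44307) (nat_lit 5873) (Ex.cons (nat_lit 2) (nat_lit 44348) (nat_lit 5875) (Ex.cons (nat_lit 2) (nat_lit 44393) (nat_lit 5877) (Ex.cons (nat_lit 2) (nat_lit 44397) (nat_lit 5879) (Ex.cons (nat_lit 2) (nat_lit 44405) (nat_lit 5882) (Ex.cons (nat_lit 2) (nat_lit 44426) (nat_lit 5884) (Ex.cons (nat_lit 2) (nat_lit 44444) (nat_lit 5886) (Ex.cons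 (nat_lit 3) (nat_lit 5238) (nat_lit 5924) (Ex.cons (nat_lit 1) (nat_lit 13863) (nat_lit 5950) (Ex.cons (nat_lit 2) (nat_lit 44488) (nat_lit 5953) (Ex.cons (nat_lit 2) (nat_lit 44491) (nat_lit 5955) (Ex.cons (nat_lit 2) (nat_lit 44519) (nat_lit 5957) (Ex.cons (nat_lit 2) (nat_lit 44562) (nat_lit 5959) (Ex.cons (nat_lit 2) (nat_lit 44710) (nat_lit 5961) (Ex.cons (nat_lit 2) (nat_lit 44724) (nat_lit 5962) (Ex.cons (nat_lit 2) (nat_lit 44759) (nat_lit 5965) (Ex.cons (nat_lit 2) (nat_lit 44800) (nat_lit 5970) (Ex.cons (nat_lit 2) (nat_lit 44881) (nat_lit 5972) (Ex.cons (nat_lit 1) (nat_lit 35555) (nat_lit 5987) (Ex.cons (nat_lit 2) (nat_lit 44972) (nat_lit 5989) (Ex.cons (nat_lit 2) (nat_lit 44979) (nat_lit 5991) (Ex.cons (nat_lit 1) (nat_lit 35201) (nat_lit 5997) (Ex.cons (nat_lit 0) (nat_lit 45005) (nat_lit 6000) (Ex.cons (nat_lit 2) (nat_lit 45006) (nat_lit 6002) (Ex.cons (nat_lit 2) (nat_lit 45013) (nat_lit 6004) (Ex.cons (nat_lit 2) (nat_lit 45091) (nat_lit 6006) (Ex.cons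 (nat_lit 2) (nat_lit 45099) (nat_lit 6011) (Ex.cons (nat_lit 1) (nat_lit 45218) (nat_lit 6045) (Ex.cons (nat_lit 3) (nat_lit 25976) (nat_lit 6149) (Ex.cons (nat_lit 2) (nat_lit 45223) (nat_lit 6151) (Ex.cons (nat_lit 2) (nat_lit 45268) (nat_lit 6156) (Ex.cons (nat_lit 2) (nat_lit 45371) (nat_lit 6158) (Ex.cons (nat_lit 2) (nat_lit 45380) (nat_lit 6160) (Ex.cons (nat_lit 2) (nat_lit 45611) (nat_lit 6162) (Ex.cons (nat_lit 2) (nat_lit 45620) (nat_lit 6164) (Ex.cons (nat_lit 2) (nat_lit 45758) (nat_lit 6166) (Ex.cons (nat_lit 2) (nat_lit 45768) (nat_lit 6168) (Ex.cons (nat_lit 2) (nat_lit 45773) (nat_lit 6170) (Ex.cons (nat_lit 2) (nat_lit 45792) (nat_lit 6172) (Ex.cons (nat_lit 2) (nat_lit 45832) (nat_lit 6174) (Ex.cons (nat_lit 2) (nat_lit 45852) (nat_lit 6176) (Ex.cons (nat_lit 2) (nat_lit 45873) (nat_lit 6178) (Ex.cons (nat_lit 3) (nat_lit 45883) (nat_lit 6179) (Ex.cons (nat_lit 2) (nat_lit 45935) (nat_lit 6182) (Ex.cons (nat_lit 2) (nat_lit 46034) (nat_lit 6184) (Ex.cons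 (nat_lit 3) (nat_lit 46083) (nat_lit 6185) (Ex.cons (nat_lit 2) (nat_lit 46114) (nat_lit 6187) (Ex.cons (nat_lit 2) (nat_lit 46144) (nat_lit 6189) (Ex.cons (nat_lit 2) (nat_lit 46151) (nat_lit 6192) (Ex.cons (nat_lit 2) (nat_lit 12319) (nat_lit 6235) (Ex.cons (nat_lit 1) (nat_lit 20516) (nat_lit 6245) (Ex.cons (nat_lit 1) (nat_lit 25449) (nat_lit 6259) (Ex.cons (nat_lit 2) (nat_lit 19588) (nat_lit 6268) (Ex.cons (nat_lit 3) (nat_lit 25578) (nat_lit 6295) (Ex.cons (nat_lit 1) (nat_lit 25899) (nat_lit 6318) (Ex.cons (nat_lit 2) (nat_lit 46206) (nat_lit 6320) (Ex.cons (nat_lit 1) (nat_lit 36502) (nat_lit 6342) (Ex.cons (nat_lit 2) (nat_lit 46260) (nat_lit 6344) (Ex.cons (nat_lit 1) (nat_lit 46260) (nat_lit 6347) (Ex.cons (nat_lit 3) (nat_lit 46236) (nat_lit 6356) (Ex.cons (nat_lit 2) (nat_lit 46288) (nat_lit 6358) (Ex.cons (nat_lit 2) (nat_lit 46305) (nat_lit 6361) (Ex.cons (nat_lit 1) (nat_lit 36586) (nat_lit 6382) (Ex.cons (nat_lit 2) (nat_lit 46572) (nat_lit 6384) (Ex.cons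 (nat_lit 2) (nat_lit 46575) (nat_lit 6386) (Ex.cons (nat_lit 2) (nat_lit 46577) (nat_lit 6388) (Ex.cons (nat_lit 2) (nat_lit 46584) (nat_lit 6393) (Ex.cons (nat_lit 2) (nat_lit 46608) (nat_lit 6395) (Ex.cons (nat_lit 2) (nat_lit 46648) (nat_lit 6406) (Ex.cons (nat_lit 2) (nat_lit 46665) (nat_lit 6408) (Ex.cons (nat_lit 2) (nat_lit 46711) (nat_lit 6410) (Ex.cons (nat_lit 2) (nat_lit 46781) (nat_lit 6413) (Ex.cons (nat_lit 2) (nat_lit 46813) (nat_lit 6416) (Ex.cons (nat_lit 2) (nat_lit 46829) (nat_lit 6418) (Ex.cons (nat_lit 2) (nat_lit 46855) (nat_lit 6420) (Ex.cons (nat_lit 2) (nat_lit 46862) (nat_lit 6422) (Ex.cons (nat_lit 1) (nat_lit 46865) (nat_lit 6426) (Ex.cons (nat_lit 2) (nat_lit 46876) (nat_lit 6435) (Ex.cons (nat_lit 3) (nat_lit 46876) (nat_lit 6436) (Ex.cons (nat_lit 2) (nat_lit 46905) (nat_lit 6439) (Ex.cons (nat_lit 2) (nat_lit 46907) (nat_lit 6441) (Ex.cons (nat_lit 1) (nat_lit 27713) (nat_lit 6498) (Ex.cons (nat_lit 2) (nat_lit 46993) (nat_lit 6500) (Ex.cons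 (nat_lit 2) (nat_lit 47018) (nat_lit 6502) (Ex.cons (nat_lit 0) (nat_lit 47040) (nat_lit 6503) (Ex.cons (nat_lit 2) (nat_lit 47041) (nat_lit 6505) (Ex.cons (nat_lit 2) (nat_lit 47049) (nat_lit 6508) (Ex.cons (nat_lit 2) (nat_lit 47052) (nat_lit 6510) (Ex.cons (nat_lit 1) (nat_lit 18340) (nat_lit 6629) (Ex.cons (nat_lit 3) (nat_lit 16511) (nat_lit 6692) (Ex.cons (nat_lit 2) (nat_lit 40201) (nat_lit 6695) (Ex.cons (nat_lit 1) (nat_lit 27987) (nat_lit 6713) (Ex.cons (nat_lit 2) (nat_lit 33512) (nat_lit 6719) (Ex.cons (nat_lit 2) (nat_lit 47088) (nat_lit 6721) (Ex.cons (nat_lit 2) (nat_lit 43395) (nat_lit 6766) (Ex.cons (nat_lit 2) (nat_lit 47152) (nat_lit 6768) (Ex.cons (nat_lit 2) (nat_lit 47153) (nat_lit 6770) (Ex.cons (nat_lit 2) (nat_lit 47156) (nat_lit 6772) (Ex.cons (nat_lit 2) (nat_lit 47180) (nat_lit 6775) (Ex.cons (nat_lit 2) (nat_lit 47181) (nat_lit 6777) (Ex.cons (nat_lit 2) (nat_lit 47257) (nat_lit 6780) (Ex.cons (nat_lit 2) (nat_lit 47344) (nat_lit 6782) (Ex.cons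 (nat_lit 2) (nat_lit 47348) (nat_lit 6784) (Ex.cons (nat_lit 2) (nat_lit 47351) (nat_lit 6788) (Ex.cons (nat_lit 1) (nat_lit 47373) (nat_lit 6790) (Ex.cons (nat_lit 2) (nat_lit 47386) (nat_lit 6792) (Ex.cons (nat_lit 2) (nat_lit 47402) (nat_lit 6794) (Ex.cons (nat_lit 1) (nat_lit 16523) (nat_lit 6886) (Ex.cons (nat_lit 3) (nat_lit 44838) (nat_lit 6979) (Ex.cons (nat_lit 1) (nat_lit 44136) (nat_lit 6994) (Ex.cons (nat_lit 3) (nat_lit 19556) (nat_lit 7040) (Ex.cons (nat_lit 3) (nat_lit 27905) (nat_lit 7051) (Ex.cons (nat_lit 1) (nat_lit 45282) (nat_lit 7057) (Ex.cons (nat_lit 1) (nat_lit 25783) (nat_lit 7107) (Ex.cons (nat_lit 2) (nat_lit 25333) (nat_lit 7115) (Ex.cons (nat_lit 1) (nat_lit 27986) (nat_lit 7138) (Ex.cons (nat_lit 3) (nat_lit 43166) (nat_lit 7185) (Ex.cons (nat_lit 3) (nat_lit 23526) (nat_lit 7205) (Ex.cons (nat_lit 1) (nat_lit 26720) (nat_lit 7232) (Ex.cons (nat_lit 2) (nat_lit 38062) (nat_lit 7237) (Ex.cons (nat_lit 3) (nat_lit 18583) (nat_lit 7245) (Ex.cons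 (nat_lit 1) (nat_lit 44159) (nat_lit 7247) (Ex.cons (nat_lit 2) (nat_lit 47423) (nat_lit 7249) (Ex.cons (nat_lit 1) (nat_lit 34401) (nat_lit 7287) (Ex.cons (nat_lit 2) (nat_lit 19383) (nat_lit 7298) (Ex.cons (nat_lit 1) (nat_lit 19384) (nat_lit 7300) (Ex.cons (nat_lit 1) (nat_lit 12823) (nat_lit 7313) (Ex.cons (nat_lit 2) (nat_lit 25210) (nat_lit 7343) (Ex.cons (nat_lit 3) (nat_lit 23353) (nat_lit 7346) (Ex.cons (nat_lit 2) (nat_lit 2802) (nat_lit 7356) (Ex.cons (nat_lit 2) (nat_lit 11798) (nat_lit 7372) (Ex.cons (nat_lit 3) (nat_lit 23972) (nat_lit 7422) (Ex.cons (nat_lit 2) (nat_lit 19668) (nat_lit 7490) (Ex.cons (nat_lit 1) (nat_lit 11429) (nat_lit 7494) (Ex.cons (nat_lit 2) (nat_lit 23941) (nat_lit 7540) (Ex.cons (nat_lit 2) (nat_lit 33175) (nat_lit 7648) (Ex.cons (nat_lit 1) (nat_lit 26526) (nat_lit 8115) (Ex.cons (nat_lit 2) (nat_lit 43200) (nat_lit 8119) (Ex.cons (nat_lit 3) (nat_lit 47096) (nat_lit 8121) (Ex.cons (nat_lit 1) (nat_lit 27316) (nat_lit 8237) (Ex.cons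 (nat_lit 2) (nat_lit 44510) (nat_lit 8245) (Ex.cons (nat_lit 2) (nat_lit 25298) (nat_lit 8309) (Ex.cons (nat_lit 3) (nat_lit 34899) (nat_lit 8317) (Ex.cons (nat_lit 3) (nat_lit 45197) (nat_lit 8319) (Ex.cons (nat_lit 2) (nat_lit 32345) (nat_lit 8327) (Ex.cons (nat_lit 1) (nat_lit 38109) (nat_lit 8391) (Ex.cons (nat_lit 1) (nat_lit 44220) (nat_lit 8485) (Ex.cons (nat_lit 3) (nat_lit 41918) (nat_lit 8488) (Ex.cons (nat_lit 1) (nat_lit 34708) (nat_lit 8494) (Ex.cons (nat_lit 3) (nat_lit 43429) (nat_lit 8514) (Ex.cons (nat_lit 3) (nat_lit 35915) (nat_lit 8519) (Ex.cons (nat_lit 3) (nat_lit 45727) (nat_lit 8558) (Ex.cons (nat_lit 2) (nat_lit 42516) (nat_lit 8564) (Ex.cons (nat_lit 2) (nat_lit 47442) (nat_lit 8613) (Ex.cons (nat_lit 2) (nat_lit 47458) (nat_lit 8615) (Ex.cons (nat_lit 3) (nat_lit 47473) (nat_lit 8620) (Ex.cons (nat_lit 2) (nat_lit 47570) (nat_lit 8622) (Ex.cons (nat_lit 2) (nat_lit 47616) (nat_lit 8624) (Ex.cons (nat_lit 2) (nat_lit 47665) (nat_lit 8626) (Ex.cons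 (nat_lit 3) (nat_lit 38474) (nat_lit 8682) (Ex.cons (nat_lit 2) (nat_lit 47754) (nat_lit 8684) (Ex.cons (nat_lit 2) (nat_lit 47761) (nat_lit 8686) (Ex.cons (nat_lit 2) (nat_lit 47779) (nat_lit 8688) (Ex.cons (nat_lit 2) (nat_lit 47781) (nat_lit 8690) (Ex.cons (nat_lit 3) (nat_lit 25554) (nat_lit 8697) (Ex.cons (nat_lit 3) (nat_lit 37261) (nat_lit 8715) (Ex.cons (nat_lit 1) (nat_lit 28409) (nat_lit 8726) (Ex.cons (nat_lit 3) (nat_lit 27587) (nat_lit 8731) (Ex.cons (nat_lit 3) (nat_lit 40283) (nat_lit 8741) (Ex.cons (nat_lit 1) (nat_lit 30522) (nat_lit 8843) (Ex.cons (nat_lit 2) (nat_lit 39742) (nat_lit 8862) (Ex.cons (nat_lit 1) (nat_lit 40333) (nat_lit 8866) (Ex.cons (nat_lit 3) (nat_lit 30386) (nat_lit 8874) (Ex.cons (nat_lit 1) (nat_lit 21671) (nat_lit 8886) (Ex.cons (nat_lit 2) (nat_lit 47819) (nat_lit 8888) (Ex.cons (nat_lit 2) (nat_lit 47870) (nat_lit 8890) (Ex.cons (nat_lit 2) (nat_lit 47901) (nat_lit 8892) (Ex.cons (nat_lit 1) (nat_lit 47923) (nat_lit 8896) (Ex.cons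 (nat_lit 2) (nat_lit 47979) (nat_lit 8898) (Ex.cons (nat_lit 2) (nat_lit 47991) (nat_lit 8900) (Ex.cons (nat_lit 2) (nat_lit 48012) (nat_lit 8902) (Ex.cons (nat_lit 2) (nat_lit 48013) (nat_lit 8904) (Ex.cons (nat_lit 2) (nat_lit 48040) (nat_lit 8907) (Ex.cons (nat_lit 2) (nat_lit 48046) (nat_lit 8909) (Ex.cons (nat_lit 0) (nat_lit 41400) (nat_lit 8952) (Ex.cons (nat_lit 1) (nat_lit 48071) (nat_lit 8953) (Ex.cons (nat_lit 2) (nat_lit 48101) (nat_lit 8959) (Ex.cons (nat_lit 2) (nat_lit 48102) (nat_lit 8961) (Ex.cons (nat_lit 2) (nat_lit 48103) (nat_lit 8963) (Ex.cons (nat_lit 2) (nat_lit 48110) (nat_lit 8965) (Ex.cons (nat_lit 2) (nat_lit 48145) (nat_lit 8967) (Ex.cons (nat_lit 2) (nat_lit 48161) (nat_lit 8969) (Ex.cons (nat_lit 2) (nat_lit 44719) (nat_lit 8975) (Ex.cons (nat_lit 2) (nat_lit 48189) (nat_lit 8977) (Ex.cons (nat_lit 1) (nat_lit 38605) (nat_lit 9022) (Ex.cons (nat_lit 2) (nat_lit 48263) (nat_lit 9024) (Ex.cons (nat_lit 3) (nat_lit 48327) (nat_lit 9067) (Ex.cons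 (nat_lit 2) (nat_lit 48334) (nat_lit 9070) (Ex.cons (nat_lit 2) (nat_lit 48337) (nat_lit 9075) (Ex.cons (nat_lit 2) (nat_lit 48354) (nat_lit 9077) (Ex.cons (nat_lit 2) (nat_lit 48359) (nat_lit 9079) (Ex.cons (nat_lit 3) (nat_lit 38782) (nat_lit 9100) (Ex.cons (nat_lit 2) (nat_lit 48446) (nat_lit 9102) (Ex.cons (nat_lit 2) (nat_lit 48450) (nat_lit 9104) (Ex.cons (nat_lit 2) (nat_lit 48460) (nat_lit 9106) (Ex.cons (nat_lit 2) (nat_lit 48502) (nat_lit 9108) (Ex.cons (nat_lit 2) (nat_lit 40067) (nat_lit 9212) (Ex.cons (nat_lit 0) (nat_lit 40946) (nat_lit 9225) (Ex.cons (nat_lit 0) (nat_lit 48510) (nat_lit 9227) (Ex.cons (nat_lit 2) (nat_lit 48512) (nat_lit 9229) (Ex.cons (nat_lit 2) (nat_lit 48554) (nat_lit 9231) (Ex.cons (nat_lit 2) (nat_lit 48664) (nat_lit 9233) (Ex.cons (nat_lit 3) (nat_lit 36128) (nat_lit 9299) (Ex.cons (nat_lit 2) (nat_lit 48709) (nat_lit 9301) (Ex.cons (nat_lit 2) (nat_lit 48749) (nat_lit 9305) (Ex.cons (nat_lit 3) (nat_lit 48770) (nat_lit 9307) (Ex.cons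 (nat_lit 2) (nat_lit 48862) (nat_lit 9312) (Ex.cons (nat_lit 2) (nat_lit 21379) (nat_lit 9363) (Ex.cons (nat_lit 1) (nat_lit 40040) (nat_lit 9365) (Ex.cons (nat_lit 2) (nat_lit 48877) (nat_lit 9367) (Ex.cons (nat_lit 2) (nat_lit 48907) (nat_lit 9369) (Ex.cons (nat_lit 3) (nat_lit 48943) (nat_lit 9371) (Ex.cons (nat_lit 1) (nat_lit 48976) (nat_lit 9376) (Ex.cons (nat_lit 2) (nat_lit 49005) (nat_lit 9378) (Ex.cons (nat_lit 2) (nat_lit 49050) (nat_lit 9380) (Ex.cons (nat_lit 2) (nat_lit 49059) (nat_lit 9382) (Ex.cons (nat_lit 2) (nat_lit 49063) (nat_lit 9384) (Ex.cons (nat_lit 2) (nat_lit 49070) (nat_lit 9386) (Ex.cons (nat_lit 3) (nat_lit 49083) (nat_lit 9395) (Ex.cons (nat_lit 1) (nat_lit 49102) (nat_lit 9404) (Ex.cons (nat_lit 2) (nat_lit 49103) (nat_lit 9406) (Ex.cons (nat_lit 2) (nat_lit 49109) (nat_lit 9408) (Ex.cons (nat_lit 2) (nat_lit 49210) (nat_lit 9410) (Ex.cons (nat_lit 2) (nat_lit 49226) (nat_lit 9412) (Ex.cons (nat_lit 2) (nat_lit 49236) (nat_lit 9420) (Ex.cons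 (nat_lit 2) (nat_lit 49260) (nat_lit 9422) (Ex.cons (nat_lit 0) (nat_lit 49270) (nat_lit 9423) (Ex.cons (nat_lit 2) (nat_lit 49288) (nat_lit 9425) (Ex.cons (nat_lit 1) (nat_lit 30101) (nat_lit 9450) (Ex.cons (nat_lit 2) (nat_lit 49332) (nat_lit 9452) (Ex.cons (nat_lit 2) (nat_lit 49341) (nat_lit 9454) (Ex.cons (nat_lit 2) (nat_lit 49383) (nat_lit 9456) (Ex.cons (nat_lit 2) (nat_lit 47862) (nat_lit 9558) (Ex.cons (nat_lit 2) (nat_lit 22805) (nat_lit 9633) (Ex.cons (nat_lit 2) (nat_lit 28450) (nat_lit 9649) (Ex.cons (nat_lit 3) (nat_lit 20762) (nat_lit 9658) (Ex.cons (nat_lit 1) (nat_lit 42687) (nat_lit 9660) (Ex.cons (nat_lit 1) (nat_lit 15160) (nat_lit 9683) (Ex.cons (nat_lit 2) (nat_lit 49397) (nat_lit 9685) (Ex.cons (nat_lit 2) (nat_lit 49415) (nat_lit 9687) (Ex.cons (nat_lit 1) (nat_lit 49441) (nat_lit 9688) (Ex.cons (nat_lit 3) (nat_lit 20291) (nat_lit 9707) (Ex.cons (nat_lit 1) (nat_lit 20263) (nat_lit 9720) (Ex.cons (nat_lit 3) (nat_lit 21098) (nat_lit 9775) (Ex.cons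 (nat_lit 1) (nat_lit 7092) (nat_lit 9807) (Ex.cons (nat_lit 3) (nat_lit 42388) (nat_lit 9886) (Ex.cons (nat_lit 3) (nat_lit 35308) (nat_lit 10068) (Ex.cons (nat_lit 3) (nat_lit 15402) (nat_lit 10156) (Ex.cons (nat_lit 2) (nat_lit 31276) (nat_lit 10255) (Ex.cons (nat_lit 3) (nat_lit 26080) (nat_lit 10315) (Ex.cons (nat_lit 2) (nat_lit 28404) (nat_lit 10361) (Ex.cons (nat_lit 1) (nat_lit 46996) (nat_lit 10368) (Ex.cons (nat_lit 2) (nat_lit 27589) (nat_lit 10374) (Ex.cons (nat_lit 3) (nat_lit 40574) (nat_lit 10437) (Ex.cons (nat_lit 3) (nat_lit 40104) (nat_lit 10457) (Ex.cons (nat_lit 3) (nat_lit 44976) (nat_lit 10501) (Ex.cons (nat_lit 1) (nat_lit 29503) (nat_lit 10738) (Ex.cons (nat_lit 3) (nat_lit 40872) (nat_lit 10743) (Ex.cons (nat_lit 1) (nat_lit 41373) (nat_lit 10777) (Ex.cons (nat_lit 3) (nat_lit 28554) (nat_lit 10909) (Ex.cons (nat_lit 2) (nat_lit 41079) (nat_lit 10913) (Ex.cons (nat_lit 2) (nat_lit 40111) (nat_lit 10944) (Ex.cons (nat_lit 0) (nat_lit 40920) (nat_lit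 10953) (Ex.cons (nat_lit 2) (nat_lit 40515) (nat_lit 10957) (Ex.cons (nat_lit 2) (nat_lit 39880) (nat_lit 10967) (Ex.cons (nat_lit 1) (nat_lit 29008) (nat_lit 10994) (Ex.cons (nat_lit 3) (nat_lit 43858) (nat_lit 11014) (Ex.cons (nat_lit 2) (nat_lit 34242) (nat_lit 11020) (Ex.cons (nat_lit 3) (nat_lit 49476) (nat_lit 11055) (Ex.cons (nat_lit 2) (nat_lit 49525) (nat_lit 11057) (Ex.cons (nat_lit 0) (nat_lit 49538) (nat_lit 11060) (Ex.cons (nat_lit 1) (nat_lit 45329) (nat_lit 11061) (Ex.cons (nat_lit 2) (nat_lit 49564) (nat_lit 11063) (Ex.cons (nat_lit 2) (nat_lit 49580) (nat_lit 11065) (Ex.cons (nat_lit 2) (nat_lit 49603) (nat_lit 11067) (Ex.cons (nat_lit 2) (nat_lit 49642) (nat_lit 11073) (Ex.cons (nat_lit 2) (nat_lit 49661) (nat_lit 11075) (Ex.cons (nat_lit 2) (nat_lit 49669) (nat_lit 11077) (Ex.cons (nat_lit 2) (nat_lit 49696) (nat_lit 11081) (Ex.cons (nat_lit 2) (nat_lit 48377) (nat_lit 11091) (Ex.cons (nat_lit 2) (nat_lit 49743) (nat_lit 11098) (Ex.cons (nat_lit 2)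 (nat_lit 49744) (nat_lit 11100) (Ex.cons (nat_lit 2) (nat_lit 49761) (nat_lit 11102) (Ex.cons (nat_lit 2) (nat_lit 49769) (nat_lit 11107) (Ex.cons (nat_lit 3) (nat_lit 49805) (nat_lit 11127) (Ex.cons (nat_lit 2) (nat_lit 49810) (nat_lit 11129) (Ex.cons (nat_lit 2) (nat_lit 49828) (nat_lit 11131) (Ex.cons (nat_lit 2) (nat_lit 49837) (nat_lit 11133) (Ex.cons (nat_lit 2) (nat_lit 49860) (nat_lit 11135) (Ex.cons (nat_lit 2) (nat_lit 49896) (nat_lit 11142) (Ex.cons (nat_lit 2) (nat_lit 49914) (nat_lit 11144) (Ex.cons (nat_lit 3) (nat_lit 41486) (nat_lit 11154) (Ex.cons (nat_lit 2) (nat_lit 49982) (nat_lit 11156) (Ex.cons (nat_lit 1) (nat_lit 45775) (nat_lit 11164) (Ex.cons (nat_lit 1) (nat_lit 39258) (nat_lit 11175) (Ex.cons (nat_lit 3) (nat_lit 40875) (nat_lit 11178) (Ex.cons (nat_lit 2) (nat_lit 50156) (nat_lit 11180) (Ex.cons (nat_lit 2) (nat_lit 50176) (nat_lit 11182) (Ex.cons (nat_lit 2) (nat_lit 50180) (nat_lit 11184) (Ex.cons (nat_lit 2) (nat_lit 50196) (nat_lit 11186)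 (Ex.cons (nat_lit 2) (nat_lit 50211) (nat_lit 11188) (Ex.cons (nat_lit 1) (nat_lit 50246) (nat_lit 11192) (Ex.cons (nat_lit 2) (nat_lit 50292) (nat_lit 11194) (Ex.cons (nat_lit 2) (nat_lit 50305) (nat_lit 11196) (Ex.cons (nat_lit 2) (nat_lit 50349) (nat_lit 11198) (Ex.cons (nat_lit 2) (nat_lit 50350) (nat_lit 11200) (Ex.cons (nat_lit 2) (nat_lit 50366) (nat_lit 11202) (Ex.cons (nat_lit 2) (nat_lit 50369) (nat_lit 11219) (Ex.cons (nat_lit 2) (nat_lit 46712) (nat_lit 11224) (Ex.cons (nat_lit 2) (nat_lit 50414) (nat_lit 11226) (Ex.cons (nat_lit 3) (nat_lit 50416) (nat_lit 11228) (Ex.cons (nat_lit 3) (nat_lit 49626) (nat_lit 11230) (Ex.cons (nat_lit 2) (nat_lit 50449) (nat_lit 11232) (Ex.cons (nat_lit 1) (nat_lit 50491) (nat_lit 11240) (Ex.cons (nat_lit 2) (nat_lit 50498) (nat_lit 11242) (Ex.cons (nat_lit 0) (nat_lit 50513) (nat_lit 11247) (Ex.cons (nat_lit 1) (nat_lit 50565) (nat_lit 11260) (Ex.cons (nat_lit 2) (nat_lit 50593) (nat_lit 11262) (Ex.cons (nat_lit 3) (nat_lit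 50609) (nat_lit 11268) (Ex.cons (nat_lit 2) (nat_lit 50620) (nat_lit 11270) (Ex.cons (nat_lit 2) (nat_lit 50630) (nat_lit 11272) (Ex.cons (nat_lit 3) (nat_lit 50687) (nat_lit 11397) (Ex.cons (nat_lit 2) (nat_lit 50703) (nat_lit 11399) (Ex.cons (nat_lit 1) (nat_lit 50725) (nat_lit 11424) (Ex.cons (nat_lit 1) (nat_lit 22845) (nat_lit 11442) (Ex.cons (nat_lit 2) (nat_lit 50781) (nat_lit 11444) (Ex.cons (nat_lit 2) (nat_lit 50820) (nat_lit 11452) (Ex.cons (nat_lit 2) (nat_lit 50821) (nat_lit 11453) (Ex.cons (nat_lit 2) (nat_lit 50831) (nat_lit 11455) (Ex.cons (nat_lit 2) (nat_lit 50834) (nat_lit 11457) (Ex.cons (nat_lit 2) (nat_lit 50840) (nat_lit 11473) (Ex.cons (nat_lit 2) (nat_lit 23331) (nat_lit 11528) (Ex.cons (nat_lit 2) (nat_lit 41341) (nat_lit 11537) (Ex.cons (nat_lit 2) (nat_lit 10244) (nat_lit 11549) (Ex.cons (nat_lit 2) (nat_lit 32071) (nat_lit 11562) (Ex.cons (nat_lit 1) (nat_lit 50870) (nat_lit 11575) (Ex.cons (nat_lit 2) (nat_lit 50889) (nat_lit 11580) (Ex.cons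 (nat_lit 2) (nat_lit 50923) (nat_lit 11582) (Ex.cons (nat_lit 2) (nat_lit 50996) (nat_lit 11584) (Ex.cons (nat_lit 2) (nat_lit 50997) (nat_lit 11586) (Ex.cons (nat_lit 2) (nat_lit 51009) (nat_lit 11687) (Ex.cons (nat_lit 2) (nat_lit 51053) (nat_lit 11689) (Ex.cons (nat_lit 0) (nat_lit 51074) (nat_lit 11691) (Ex.cons (nat_lit 1) (nat_lit 29088) (nat_lit 11715) (Ex.cons (nat_lit 3) (nat_lit 31266) (nat_lit 11733) (Ex.cons (nat_lit 3) (nat_lit 31316) (nat_lit 11738) (Ex.cons (nat_lit 1) (nat_lit 42439) (nat_lit 11743) (Ex.cons (nat_lit 2) (nat_lit 51075) (nat_lit 11745) (Ex.cons (nat_lit 2) (nat_lit 51160) (nat_lit 11747) (Ex.cons (nat_lit 3) (nat_lit 28079) (nat_lit 11790) (Ex.cons (nat_lit 2) (nat_lit 51240) (nat_lit 11792) (Ex.cons (nat_lit 1) (nat_lit 26909) (nat_lit 11802) (Ex.cons (nat_lit 2) (nat_lit 51307) (nat_lit 11804) (Ex.cons (nat_lit 2) (nat_lit 51356) (nat_lit 11809) (Ex.cons (nat_lit 3) (nat_lit 42195) (nat_lit 11818) (Ex.cons (nat_lit 2) (nat_lit 51382)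 (nat_lit 11823) (Ex.cons (nat_lit 2) (nat_lit 51447) (nat_lit 11825) (Ex.cons (nat_lit 2) (nat_lit 51449) (nat_lit 11827) (Ex.cons (nat_lit 2) (nat_lit 51454) (nat_lit 11829) (Ex.cons (nat_lit 2) (nat_lit 51455) (nat_lit 11831) (Ex.cons (nat_lit 1) (nat_lit 43216) (nat_lit 11848) (Ex.cons (nat_lit 2) (nat_lit 51501) (nat_lit 11850) (Ex.cons (nat_lit 0) (nat_lit 51513) (nat_lit 11851) (Ex.cons (nat_lit 2) (nat_lit 29907) (nat_lit 11897) (Ex.cons (nat_lit 1) (nat_lit 51590) (nat_lit 11910) (Ex.cons (nat_lit 2) (nat_lit 51594) (nat_lit 11912) (Ex.cons (nat_lit 2) (nat_lit 42455) (nat_lit 11918) (Ex.cons (nat_lit 3) (nat_lit 51618) (nat_lit 11919) (Ex.cons (nat_lit 2) (nat_lit 51619) (nat_lit 11968) (Ex.cons (nat_lit 1) (nat_lit 45769) (nat_lit 12191) (Ex.cons (nat_lit 2) (nat_lit 51670) (nat_lit 12193) (Ex.cons (nat_lit 2) (nat_lit 51678) (nat_lit 12195) (Ex.cons (nat_lit 3) (nat_lit 51731) (nat_lit 12205) (Ex.cons (nat_lit 2) (nat_lit 51732) (nat_lit 12207) (Ex.cons (nat_lit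 2) (nat_lit 51733) (nat_lit 12212) (Ex.cons (nat_lit 2) (nat_lit 51801) (nat_lit 12214) (Ex.cons (nat_lit 2) (nat_lit 30135) (nat_lit 12225) (Ex.cons (nat_lit 2) (nat_lit 51823) (nat_lit 12227) (Ex.cons (nat_lit 2) (nat_lit 51839) (nat_lit 12229) (Ex.cons (nat_lit 2) (nat_lit 51862) (nat_lit 12231) (Ex.cons (nat_lit 2) (nat_lit 51881) (nat_lit 12233) (Ex.cons (nat_lit 2) (nat_lit 51951) (nat_lit 12237) (Ex.cons (nat_lit 2) (nat_lit 51960) (nat_lit 12239) (Ex.cons (nat_lit 2) (nat_lit 52021) (nat_lit 12241) (Ex.cons (nat_lit 2) (nat_lit 52031) (nat_lit 12243) (Ex.cons (nat_lit 2) (nat_lit 52032) (nat_lit 12245) (Ex.cons (nat_lit 2) (nat_lit 52035) (nat_lit 12248) (Ex.cons (nat_lit 1) (nat_lit 52040) (nat_lit 12249) (Ex.cons (nat_lit 0) (nat_lit 52042) (nat_lit 12257) (Ex.cons (nat_lit 3) (nat_lit 43596) (nat_lit 12291) (Ex.cons (nat_lit 1) (nat_lit 36646) (nat_lit 12296) (Ex.cons (nat_lit 1) (nat_lit 43040) (nat_lit 12314) (Ex.cons (nat_lit 3) (nat_lit 52076) (nat_lit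 12321) (Ex.cons (nat_lit 2) (nat_lit 52088) (nat_lit 12323) (Ex.cons (nat_lit 0) (nat_lit 52129) (nat_lit 12324) (Ex.cons (nat_lit 1) (nat_lit 51904) (nat_lit 12336) (Ex.cons (nat_lit 2) (nat_lit 52158) (nat_lit 12338) (Ex.cons (nat_lit 2) (nat_lit 52201) (nat_lit 12340) (Ex.cons (nat_lit 1) (nat_lit 52205) (nat_lit 12342) (Ex.cons (nat_lit 1) (nat_lit 52241) (nat_lit 12346) (Ex.cons (nat_lit 2) (nat_lit 52247) (nat_lit 12348) (Ex.cons (nat_lit 3) (nat_lit 27063) (nat_lit 12365) (Ex.cons (nat_lit 3) (nat_lit 47822) (nat_lit 12367) (Ex.cons (nat_lit 2) (nat_lit 52256) (nat_lit 12369) (Ex.cons (nat_lit 2) (nat_lit 52257) (nat_lit 12372) (Ex.cons (nat_lit 2) (nat_lit 16265) (nat_lit 12396) (Ex.cons (nat_lit 2) (nat_lit 24923) (nat_lit 12414) (Ex.cons (nat_lit 2) (nat_lit 34060) (nat_lit 12429) (Ex.cons (nat_lit 3) (nat_lit 42845) (nat_lit 12434) (Ex.cons (nat_lit 0) (nat_lit 52296) (nat_lit 12435) (Ex.cons (nat_lit 2) (nat_lit 52325) (nat_lit 12437) (Ex.cons (nat_lit 2)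 (nat_lit 52334) (nat_lit 12473) (Ex.cons (nat_lit 2) (nat_lit 52352) (nat_lit 12475) (Ex.cons (nat_lit 1) (nat_lit 24395) (nat_lit 12488) (Ex.cons (nat_lit 0) (nat_lit 52393) (nat_lit 12496) (Ex.cons (nat_lit 2) (nat_lit 52394) (nat_lit 12498) (Ex.cons (nat_lit 2) (nat_lit 52400) (nat_lit 12500) (Ex.cons (nat_lit 1) (nat_lit 51973) (nat_lit 12509) (Ex.cons (nat_lit 2) (nat_lit 52428) (nat_lit 12511) (Ex.cons (nat_lit 1) (nat_lit 52437) (nat_lit 12514) (Ex.cons (nat_lit 2) (nat_lit 52473) (nat_lit 12517) (Ex.cons (nat_lit 2) (nat_lit 34619) (nat_lit 12523) (Ex.cons (nat_lit 2) (nat_lit 52568) (nat_lit 12525) (Ex.cons (nat_lit 2) (nat_lit 52599) (nat_lit 12527) (Ex.cons (nat_lit 2) (nat_lit 52607) (nat_lit 12529) (Ex.cons (nat_lit 2) (nat_lit 52608) (nat_lit 12531) (Ex.cons (nat_lit 1) (nat_lit 52613) (nat_lit 12533) (Ex.cons (nat_lit 2) (nat_lit 52614) (nat_lit 12538) (Ex.cons (nat_lit 2) (nat_lit 52618) (nat_lit 12540) (Ex.cons (nat_lit 2) (nat_lit 52637) (nat_lit 12542)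 (Ex.cons (nat_lit 2) (nat_lit 48613) (nat_lit 12682) (Ex.cons (nat_lit 2) (nat_lit 52650) (nat_lit 12684) (Ex.cons (nat_lit 2) (nat_lit 52669) (nat_lit 12686) (Ex.cons (nat_lit 3) (nat_lit 51260) (nat_lit 12690) (Ex.cons (nat_lit 2) (nat_lit 52727) (nat_lit 12692) (Ex.cons (nat_lit 0) (nat_lit 52502) (nat_lit 12721) (Ex.cons (nat_lit 1) (nat_lit 24814) (nat_lit 12732) (Ex.cons (nat_lit 2) (nat_lit 52792) (nat_lit 12734) (Ex.cons (nat_lit 2) (nat_lit 52793) (nat_lit 12736) (Ex.cons (nat_lit 1) (nat_lit 50452) (nat_lit 12746) (Ex.cons (nat_lit 1) (nat_lit 29351) (nat_lit 12821) (Ex.cons (nat_lit 2) (nat_lit 52851) (nat_lit 12823) (Ex.cons (nat_lit 2) (nat_lit 52875) (nat_lit 12825) (Ex.cons (nat_lit 2) (nat_lit 52906) (nat_lit 12827) (Ex.cons (nat_lit 2) (nat_lit 44101) (nat_lit 12853) (Ex.cons (nat_lit 2) (nat_lit 52976) (nat_lit 12855) (Ex.cons (nat_lit 0) (nat_lit 52978) (nat_lit 12859) (Ex.cons (nat_lit 3) (nat_lit 45640) (nat_lit 12876) (Ex.cons (nat_lit 2) (nat_lit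 52989) (nat_lit 12899) (Ex.cons (nat_lit 2) (nat_lit 53020) (nat_lit 12903) (Ex.cons (nat_lit 2) (nat_lit 53043) (nat_lit 12905) (Ex.cons (nat_lit 3) (nat_lit 53049) (nat_lit 12913) (Ex.cons (nat_lit 1) (nat_lit 35481) (nat_lit 12921) (Ex.cons (nat_lit 2) (nat_lit 53071) (nat_lit 12926) (Ex.cons (nat_lit 2) (nat_lit 53073) (nat_lit 12928) (Ex.cons (nat_lit 2) (nat_lit 53086) (nat_lit 12947) (Ex.cons (nat_lit 1) (nat_lit 25254) (nat_lit 13010) (Ex.cons (nat_lit 2) (nat_lit 25883) (nat_lit 13019) (Ex.cons (nat_lit 2) (nat_lit 23465) (nat_lit 13036) (Ex.cons (nat_lit 1) (nat_lit 21410) (nat_lit 13069) (Ex.cons (nat_lit 2) (nat_lit 35032) (nat_lit 13105) (Ex.cons (nat_lit 1) (nat_lit 30126) (nat_lit 13121) (Ex.cons (nat_lit 2) (nat_lit 44828) (nat_lit 13137) (Ex.cons (nat_lit 2) (nat_lit 50542) (nat_lit 13167) (Ex.cons (nat_lit 3) (nat_lit 34522) (nat_lit 13187) (Ex.cons (nat_lit 1) (nat_lit 44142) (nat_lit 13203) (Ex.cons (nat_lit 3) (nat_lit 17469) (nat_lit 13278) (Ex.cons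 (nat_lit 1) (nat_lit 15053) (nat_lit 13285) (Ex.cons (nat_lit 2) (nat_lit 5691) (nat_lit 13307) (Ex.cons (nat_lit 1) (nat_lit 16518) (nat_lit 13361) (Ex.cons (nat_lit 3) (nat_lit 21773) (nat_lit 13372) (Ex.cons (nat_lit 3) (nat_lit 15057) (nat_lit 13380) (Ex.cons (nat_lit 1) (nat_lit 29067) (nat_lit 13419) (Ex.cons (nat_lit 2) (nat_lit 18822) (nat_lit 13438) (Ex.cons (nat_lit 3) (nat_lit 33004) (nat_lit 13477) (Ex.cons (nat_lit 1) (nat_lit 31749) (nat_lit 13503) (Ex.cons (nat_lit 1) (nat_lit 46466) (nat_lit 13507) (Ex.cons (nat_lit 2) (nat_lit 26074) (nat_lit 13525) (Ex.cons (nat_lit 2) (nat_lit 18070) (nat_lit 13535) (Ex.cons (nat_lit 2) (nat_lit 31011) (nat_lit 13550) (Ex.cons (nat_lit 1) (nat_lit 29859) (nat_lit 13621) (Ex.cons (nat_lit 1) (nat_lit 25648) (nat_lit 13693) (Ex.cons (nat_lit 2) (nat_lit 44784) (nat_lit 13708) (Ex.cons (nat_lit 3) (nat_lit 44983) (nat_lit 13719) (Ex.cons (nat_lit 1) (nat_lit 10972) (nat_lit 13817) (Ex.cons (nat_lit 3) (nat_lit 22285) (nat_lit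 13821) (Ex.cons (nat_lit 1) (nat_lit 4426) (nat_lit 13872) (Ex.cons (nat_lit 1) (nat_lit 30561) (nat_lit 14009) (Ex.cons (nat_lit 3) (nat_lit 45274) (nat_lit 14060) (Ex.cons (nat_lit 3) (nat_lit 25281) (nat_lit 14110) (Ex.cons (nat_lit 3) (nat_lit 9411) (nat_lit 14203) (Ex.cons (nat_lit 2) (nat_lit 35934) (nat_lit 14267) (Ex.cons (nat_lit 3) (nat_lit 34991) (nat_lit 14276) (Ex.cons (nat_lit 3) (nat_lit 25943) (nat_lit 14282) (Ex.cons (nat_lit 2) (nat_lit 44448) (nat_lit 14290) (Ex.cons (nat_lit 3) (nat_lit 27500) (nat_lit 14351) (Ex.cons (nat_lit 2) (nat_lit 34430) (nat_lit 14425) (Ex.cons (nat_lit 1) (nat_lit 43268) (nat_lit 14489) (Ex.cons (nat_lit 1) (nat_lit 5066) (nat_lit 14495) (Ex.cons (nat_lit 2) (nat_lit 32440) (nat_lit 14564) (Ex.cons (nat_lit 2) (nat_lit 49261) (nat_lit 14569) (Ex.cons (nat_lit 2) (nat_lit 33377) (nat_lit 14602) (Ex.cons (nat_lit 1) (nat_lit 47779) (nat_lit 14686) (Ex.cons (nat_lit 2) (nat_lit 33453) (nat_lit 14698) Ex.nil)))))))))))))))))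)))))))))))))))))))))))))))))))))))))))))))))))))))))))))))))))))))))))))))))))))))))))))))))))))))))))))))))))))))))))))))))))))))))))))))))))))))))))))))))))))))))))))))))))))))))))))))))))))))))))))))))))))))))))))))))))))))))))))))))))))))))))))))))))))))))))))))))))))))))))))))))))))))))))))))))))))))))))))))))))))))))))))))))))))))))))))))))))))))))))))))))))))))))))))))))))))))))))))))))))))))))))))))))))))))))))))))))))))))))))))))))))))))))))))))))))))))))))))))))))))))))))))))))))))))))))))))))))))))))))))))))))))))))))))))))))))))))))))))))))))))))))))))))))))))))))))))))))))))))))))))))))))))))))))))))))))))))))))))))))))))))))))))))))))))))))))))))))))))))))))))))))))))))))))))))))))))))))))))))))))))))))))))))))))))))))))))))))))))))))))))))))))))))))))))))))))))))))))))))))))))))))))))))))))))))))))))))))))))))))))))))))))))))))))))))))))))))))))))))))))))))))))))))))))))))))))))))))))))))))))))))))))))))))))))))))))))))))))))))))))))))))))))))))))))))))))))))))))))))))))))))))))))))))))))))))))))))))))))))))))))))))))))))))))))))))))))))))))))))))))))))))))))))))))))))))))))))))))))))))))))))))))))))))))))))))))))))))))))))))))))))))))))))))))))))))))))))))))))))))))))))))))))))))))))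
noncomputable def nd : Nat := (nat_lit 12031)

end Cfsg.Agent.Lib.HNLAD
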