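import Cfsg.Agent.Lib.HNLRel
import Cfsg.Agent.Lib.CosetWide2
import Cfsg.Agent.Lib.HNLAN0
import Cfsg.Agent.Lib.HNLAR0
import Cfsg.Agent.Lib.HNLAD

set_option autoImplicit false
set_option linter.all false
set_option maxRecDepth 100000

namespace Cfsg.Agent.Lib.HNLAB
open Cfsg.Spor Cfsg.Agent.Lib.BenesPerm Cfsg.Agent.Lib.BenesAct Cfsg.Agent.Lib.BenesWord
open Cfsg.Agent.Lib.BenesPlane Cfsg.Agent.Lib.CosetClosure Cfsg.Agent.Lib.CosetFacts
open Cfsg.Agent.Lib.CosetMain Cfsg.Agent.Lib.CoxBridge Cfsg.Agent.Lib.CosetGroup Cfsg.Agent.Lib.CosetInst Cfsg.Agent.Lib.CosetInj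
open Cfsg.Agent.Lib.BenesPack Cfsg.Agent.Lib.CosetPack Cfsg.Agent.Lib.CosetChain Cfsg.Agent.Lib.CosetWide Cfsg.Agent.Lib.CosetWide2
open Cfsg.Agent.Lib.HNLRel Cfsg.Agent.Lib.HNLAN0 Cfsg.Agent.Lib.HNLAR0 Cfsg.Agent.Lib.HNLAD

/-- the networks -/
noncomputable def nets : List Net := [n0, n1, n2, n3, n4, n5, n6, n7, n8, n9]

/-- the ranks -/
noncomputable def R : List (List Nat) := (List.cons r0 (List.cons r1 (List.cons r2 (List.cons r3 (List.cons r4 (List.cons r5 (List.cons r6 (List.cons r7 (List.cons r8 (List.cons r9 List.nil))))))))))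

/-- inverse letters -/
noncomputable def ivx : ℕ → ℕ := ivOf [2, 3, 0, 1, 5, 4, 7, 6, 9, 8]

/-- words of the further letters -/
def xw : List Wd := [(Wd.inv (Wd.g 0)),
  (Wd.inv (Wd.g 1)),
  (Wd.mul (Wd.mul (Wd.inv (Wd.g 0)) (Wd.pow (Wd.g 1) 3)) (Wd.g 0)),
  (Wd.inv (Wd.mul (Wd.mul (Wd.inv (Wd.g 0)) (Wd.pow (Wd.g 1) 3)) (Wd.g 0))),
  (Wd.pow (Wd.g 1) 2),
  (Wd.inv (Wd.pow (Wd.g 1) 2)),
  (Wd.pow (Wd.g 0) 2),
  (Wd.inv (Wd.pow (Wd.g 0) 2))]

/-- relators -/
def wrels : List Wd := [(Wd.pow (Wd.g 1) 6),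
  (Wd.mul (Wd.mul (Wd.mul (Wd.pow (Wd.g 0) 2) (Wd.g 1)) (Wd.pow (Wd.g 0) 2)) (Wd.inv (Wd.g 1))),
  (Wd.pow (Wd.mul (Wd.mul (Wd.mul (Wd.inv (Wd.g 0)) (Wd.inv (Wd.g 1))) (Wd.g 0)) (Wd.g 1)) 3),
  (Wd.pow (Wd.mul (Wd.mul (Wd.mul (Wd.inv (Wd.g 0)) (Wd.pow (Wd.g 1) 2)) (Wd.g 0)) (Wd.pow (Wd.g 1) 3)) 3),
  (Wd.pow (Wd.mul (Wd.g 0) (Wd.g 1)) 8),
  (Wd.pow (Wd.mul (Wd.mul (Wd.mul (Wd.g 0) (Wd.g 1)) (Wd.g 0)) (Wd.pow (Wd.g 1) 3)) 4),
  (Wd.pow (Wd.g 0) 4),
  (Wd.mul (Wd.inv (Wd.g 4)) (Wd.mul (Wd.mul (Wd.inv (Wd.g 0)) (Wd.pow (Wd.g 1) 3)) (Wd.g 0))),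
  (Wd.mul (Wd.inv (Wd.g 6)) (Wd.pow (Wd.g 1) 2)),
  (Wd.mul (Wd.inv (Wd.g 8)) (Wd.pow (Wd.g 0) 2))]

/-- relations of the lanes -/
def eqs0 : List (List ℕ × List ℕ) := [([2, 0], []), ([3, 1], []), ([0, 2], []), ([1, 3], []), ([5, 4], []), ([4, 5], []), ([7, 6], []), ([6, 7], []), ([9, 8], []), ([8, 9], []), ([1, 1, 1], [3, 3, 3]), ([0, 0, 1], [1, 2, 2]), ([2, 3, 0, 1, 2, 3], [3, 2, 1, 0, 3, 2]), ([2, 1, 1, 0, 1, 1, 1, 2, 1, 1, 0], [3, 3, 3, 2, 3, 3, 0, 3, 3, 3]), ([0, 1, 0, 1, 0, 1, 0, 1], [3, 2, 3, 2, 3, 2, 3, 2]), ([0, 1, 0, 1, 1, 1, 0, 1, 0, 1, 1, 1], [3, 3, 3, 2, 3, 2, 3, 3, 3, 2, 3, 2]), ([0, 0], [2, 2]), ([5, 2, 1], [2, 3, 3]), ([7, 1], [3]), ([9, 0], [2])]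

/-- all relations of the lanes -/
def eqs : List (List ℕ × List ℕ) := eqs0

/-- words for the subgroup -/
def WS : List Wd := [(Wd.g 4), (Wd.g 6), (Wd.g 8)]

/-- all scripts -/
noncomputable def scr : Scr := (appS s0 (appS s1 (appS s2 (appS s3 (appS s4 (appS s5 (appS s6 (appS s7 (appS s8 (appS s9 (appS s10 (appS s11 (appS s12 (appS s13 (appS s14 (appS s15 (appS s16 (appS s17 (appS s18 (appS s19 (appS s20 (appS s21 (appS s22 (appS s23 (appS s24 (appS s25 (appS s26 (appS s27 (appS s28 (appS s29 (appS s30 (appS s31 (appS s32 (appS s33 (appS s34 (appS s35 (appS s36 (appS s37 (appS s38 (appS s39 (appS s40 (appS s41 (appS s42 (appS s43 (appS s44 (appS s45 (appS s46 (appS s47 (appS s48 (appS s49 (appS s50 (appS s51 (appS s52 (appS s53 (appS s54 (appS s55 (appS s56 (appS s57 (appS s58 (appS s59 (appS s60 (appS s61 (appS s62 (appS s63 (appS s64 (appS s65 (appS s66 (appS s67 (appS s68 (appS s69 (appS s70 (appS s71 (appS s72 (appS s73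 (appS s74 (appS s75 (appS s76 (appS s77 (appS s78 (appS s79 (appS s80 (appS s81 (appS s82 (appS s83 (appS s84 (appS s85 (appS s86 (appS s87 (appS s88 (appS s89 (appS s90 (appS s91 (appS s92 (appS s93 (appS s94 (appS s95 (appS s96 (appS s97 (appS s98 (appS s99 (appS s100 (appS s101 (appS s102 (appS s103 (appS s104 (appS s105 (appS s106 (appS s107 (appS s108 (appS s109 (appS s110 (appS s111 (appS s112 (appS s113 (appS s114 (appS s115 (appS s116 (appS s117 (appS s118 (appS s119 (appS s120 (appS s121 (appS s122 (appS s123 (appS s124 (appS s125 (appS s126 (appS s127 (appS s128 (appS s129 (appS s130 (appS s131 (appS s132 (appS s133 (appS s134 (appS s135 (appS s136 (appS s137 (appS s138 (appS s139 (appS s140 (appS s141 (appS s142 (appS s143 (appS s144 (appS s145 (appS s146 (appS s147 (appS s148 (appS s149 (appS s150 (appS s151 (appS s152 (appS s153 (appS s154 (appS s155 (appS s156 (appS s157 (appS s158 (appS s159 (appS s160 (appS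 s161 (appS s162 (appS s163 (appS s164 (appS s165 (appS s166 (appS s167 (appS s168 (appS s169 (appS s170 (appS s171 (appS s172 (appS s173 (appS s174 (appS s175 (appS s176 (appS s177 (appS s178 (appS s179 (appS s180 (appS s181 (appS s182 (appS s183 (appS s184 (appS s185 (appS s186 (appS s187 (appS s188 (appS s189 (appS s190 (appS s191 (appS s192 (appS s193 (appS s194 (appS s195 (appS s196 (appS s197 (appS s198 (appS s199 (appS s200 (appS s201 (appS s202 (appS s203 (appS s204 (appS s205 (appS s206 (appS s207 (appS s208 (appS s209 (appS s210 (appS s211 (appS s212 (appS s213 (appS s214 (appS s215 (appS s216 (appS s217 (appS s218 (appS s219 (appS s220 (appS s221 (appS s222 (appS s223 (appS s224 (appS s225 (appS s226 (appS s227 (appS s228 (appS s229 (appS s230 (appS s231 (appS s232 (appS s233 (appS s234 (appS s235 (appS s236 (appS s237 (appS s238 (appS s239 (appS s240 (appS s241 (appS s242 (appS s243 (appS s244 (appS s245 (appS s246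 (appS s247 (appS s248 (appS s249 (appS s250 (appS s251 (appS s252 (appS s253 (appS s254 (appS s255 (appS s256 (appS s257 (appS s258 (appS s259 (appS s260 (appS s261 (appS s262 (appS s263 (appS s264 (appS s265 (appS s266 (appS s267 (appS s268 (appS s269 (appS s270 (appS s271 (appS s272 (appS s273 (appS s274 (appS s275 (appS s276 (appS s277 (appS s278 (appS s279 (appS s280 (appS s281 (appS s282 (appS s283 (appS s284 (appS s285 (appS s286 (appS s287 (appS s288 (appS s289 (appS s290 (appS s291 (appS s292 (appS s293 (appS s294 (appS s295 (appS s296 (appS s297 (appS s298 (appS s299 (appS s300 (appS s301 (appS s302 (appS s303 (appS s304 (appS s305 (appS s306 (appS s307 (appS s308 (appS s309 (appS s310 (appS s311 (appS s312 (appS s313 (appS s314 (appS s315 (appS s316 (appS s317 (appS s318 (appS s319 (appS s320 (appS s321 (appS s322 (appS s323 (appS s324 (appS s325 (appS s326 (appS s327 (appS s328 (appS s329 (appS s330 (appS s331 (appS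 s332 (appS s333 (appS s334 (appS s335 (appS s336 (appS s337 (appS s338 (appS s339 (appS s340 (appS s341 (appS s342 (appS s343 (appS s344 (appS s345 (appS s346 (appS s347 (appS s348 (appS s349 (appS s350 (appS s351 (appS s352 (appS s353 (appS s354 (appS s355 (appS s356 (appS s357 (appS s358 (appS s359 (appS s360 (appS s361 (appS s362 (appS s363 (appS s364 (appS s365 (appS s366 s367)))))))))))))))))))))))))))))))))))))))))))))))))))))))))))))))))))))))))))))))))))))))))))))))))))))))))))))))))))))))))))))))))))))))))))))))))))))))))))))))))))))))))))))))))))))))))))))))))))))))))))))))))))))))))))))))))))))))))))))))))))))))))))))))))))))))))))))))))))))))))))))))))))))))))))))))))))))))))))))))))))))))))))))))))))))))))))))))))))))))))))))))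

/-- trivial relators -/
def wtriv : List Wd := [Wd.mul (Wd.g 0) (Wd.g 2), Wd.mul (Wd.g 1) (Wd.g 3), Wd.mul (Wd.g 2) (Wd.g 0), Wd.mul (Wd.g 3) (Wd.g 1)]

/-- definitions of the subgroup letters -/
def hdefs : List Wd := [(Wd.mul (Wd.inv (Wd.g 4)) (Wd.mul (Wd.mul (Wd.inv (Wd.g 0)) (Wd.pow (Wd.g 1) 3)) (Wd.g 0))), (Wd.mul (Wd.inv (Wd.g 6)) (Wd.pow (Wd.g 1) 2)), (Wd.mul (Wd.inv (Wd.g 8)) (Wd.pow (Wd.g 0) 2))]

/-- patterns -/
def pats : List Wd := wtriv ++ (rels ++ (rels.map Wd.inv ++ hdefs.map Wd.inv))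

/-- patterns as lists of letters -/
noncomputable def patL : List (List ℕ) := pats.map (fun W => (W.flat ivx).reverse)

theorem c_wok : wOK 2 xw rels wrels = true := by decide +kernel
theorem c_wback : wBack 2 xw rels wrels = true := by decide +kernel
theorem c_inv_sub : ∀ q ∈ invPairs ivx 10, q ∈ eqs := by decide +kernel
theorem c_rel_sub : ∀ q ∈ wrels.map (halfW ivx), q ∈ eqs := by decide +kernel

end Cfsg.Agent.Lib.HNLAB
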