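import Cfsg.Agent.Lib.HNLAB

set_option autoImplicit false
set_option linter.all false
set_option maxRecDepth 100000
set_option Elab.async false

namespace Cfsg.Agent.Lib.HNLAS
open Cfsg.Spor Cfsg.Agent.Lib.BenesPerm Cfsg.Agent.Lib.BenesAct Cfsg.Agent.Lib.BenesWord
open Cfsg.Agent.Lib.BenesPlane Cfsg.Agent.Lib.CosetClosure Cfsg.Agent.Lib.CosetFacts
open Cfsg.Agent.Lib.CosetMain Cfsg.Agent.Lib.CoxBridge Cfsg.Agent.Lib.CosetGroup Cfsg.Agent.Lib.CosetInst Cfsg.Agent.Lib.CosetInj
open Cfsg.Agent.Lib.BenesPack Cfsg.Agent.Lib.CosetPack Cfsg.Agent.Lib.CosetChain Cfsg.Agent.Lib.CosetWide Cfsg.Agent.Lib.CosetWide2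
open Cfsg.Agent.Lib.HNLRel Cfsg.Agent.Lib.HNLAN0 Cfsg.Agent.Lib.HNLAR0 Cfsg.Agent.Lib.HNLAD Cfsg.Agent.Lib.HNLAB

theorem c_nets : netsCheck (2 ^ 16) nets = true := by decide +kernel
theorem c_full : fullInvK nets 63000 10 = true := by decide +kernel
theorem c_len : lenK R 8 10 = true := by decide +kernel
theorem sym0 : symOneK nets ivx R 0 = true := by decide +kernel
theorem sym1 : symOneK nets ivx R 1 = true := by decide +kernel
theorem sym2 : symOneK nets ivx R 2 = true := by decide +kernel
theorem sym3 : symOneK nets ivx R 3 = true := by decide +kernel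
theorem sym4 : symOneK nets ivx R 4 = true := by decide +kernel
theorem sym5 : symOneK nets ivx R 5 = true := by decide +kernel
theorem sym6 : symOneK nets ivx R 6 = true := by decide +kernel
theorem sym7 : symOneK nets ivx R 7 = true := by decide +kernel
theorem sym8 : symOneK nets ivx R 8 = true := by decide +kernel
theorem sym9 : symOneK nets ivx R 9 = true := by decide +kernel
theorem c_sym : symK nets ivx R 10 = true := symK_of 10 (by
  intro c hc
  interval_cases c
  · exact sym0
  · exact sym1
  · exact sym2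
  · exact sym3
  · exact sym4
  · exact sym5
  · exact sym6
  · exact sym7
  · exact sym8
  · exact sym9)
theorem c_disj : disjK D 1 = true := by decide +kernel
theorem tr0 : treeOneK nets 16 0 d0 = true := by decide +kernel
theorem tr1 : treeOneK nets 16 1 d1 = true := by decide +kernel
theorem tr3 : treeOneK nets 16 3 d3 = true := by decide +kernel
theorem c_tree : treeK nets 16 D = true := (treeK_cons tr0 (treeK_cons tr1 (treeK_cons tr3 rfl)))
theorem c_treelet : netLetK 10 D = true := by decide +kernel
theorem c_dtab : dtabK (2 ^ 16) nd DT = true := by decide +kernel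
theorem c_ex : exK nets R 10 T (3 + scr.len) E = true := by decide +kernel

end Cfsg.Agent.Lib.HNLAS
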