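import Cfsg.Agent.Lib.DceEq
import Cfsg.Agent.Lib.HNLT

set_option autoImplicit false
set_option linter.all false
set_option maxRecDepth 100000

namespace Cfsg.Agent.Lib.HNLU
open Cfsg.Agent.Lib.Dce Cfsg.Agent.Lib.HNLT

/-- base -/
def base : List ℕ := [1, 60, 200, 428]
/-- twisting -/
def ph : List (ℕ × ℕ) := [(0, 1), (7, 14), (1, 0), (8, 13)]
/-- inverse twisting -/
def phI : List (ℕ × ℕ) := [(1, 0), (14, 7), (0, 1), (13, 8)]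
/-- relators, in order of application -/
def rels : List (List Tok) := [
  [.t, .t],
  [.t, .h [2, 2, 2, 0, 2, 0, 2, 0], .t, .h [2, 2, 2, 0, 2, 0, 2, 0, 3, 1, 3, 1, 3, 3, 3], .t, .h [2, 2, 2, 0, 2, 0, 2, 0, 3, 1, 3, 1, 3, 3, 3], .t, .h [3, 1, 3, 1, 3, 3, 3]],
  [.t, .T],
  [.T, .t]]
/-- initial letters -/
def init : List ℕ := [4, 5, 6]
/-- definitions -/
def ds : List (ℕ × List ℕ × Bool) := [(0, [], false), (1, [3, 1, 3], false), (2, [3, 3, 0, 3, 0, 2, 0, 2, 0, 3, 0, 3, 0], false), (1, [2, 2, 2, 0, 3, 0, 3], false), (2, [3], false)]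
/-- items -/
def its : List Item := [
  .inv 0 4 11,
  .inv 0 5 10,
  .stab 2 1 0 [] [⟨0, [10, 4, 4, 10, 10, 11, 5], [7, 7, 0, 8, 8, 8, 0, 8, 8, 8, 8, 8, 0, 8, 0]⟩] [⟨0, [], []⟩] 9,
  .inv 1 9 17,
  .stab 2 1 0 [] [⟨0, [5, 4, 4, 5], [7, 1, 8, 8, 8, 0, 8, 0, 8, 8, 8, 8, 8, 0]⟩] [⟨0, [], []⟩] 12,
  .inv 1 12 16,
  .edge 0 1 0 [] [⟨0, [], []⟩] [] [] [] [] [] [],
  .stab 2 1 1 [3, 1, 3] [⟨1, [9, 9], [0, 0]⟩] [⟨1, [], []⟩] 6,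
  .stab 2 1 1 [3, 1, 3] [⟨1, [16, 17, 16, 9], [7, 7, 0, 7, 7, 7, 0, 8, 8, 0, 8, 0, 8, 8]⟩] [⟨1, [], []⟩] 15,
  .stab 2 1 1 [3, 1, 3] [⟨1, [12, 17], [7, 1, 7, 0, 7, 7, 0, 7, 7, 7, 7, 7, 0, 7, 0, 7, 0]⟩] [⟨1, [], []⟩] 18,
  .inv 2 18 21,
  .edge 1 4 0 [2, 0, 2, 0, 2, 0, 2, 2, 0, 3, 3, 0, 3, 0, 3, 3, 0, 2, 2, 2, 0, 2] [⟨0, [], [7, 7, 7, 7, 0, 8, 8, 0, 8, 0, 8, 8]⟩, ⟨1, [9], [7, 1, 8, 8, 0, 8, 8, 8, 0, 7, 7, 7, 0, 8, 8]⟩] [⟨5, [5], [0, 13, 13, 13, 1, 14, 14, 1, 14, 14]⟩] [2, 2, 2, 1] [0, 8, 8, 0, 8, 8, 8, 0, 7, 7, 7, 7, 7, 0] [15, 18, 15] [2, 2, 0, 2, 2, 0, 3, 0, 3, 3, 0, 3, 0, 2, 0, 2, 0] [],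
  .edge 1 4 0 [0, 2, 2, 1, 2, 2, 0, 3, 0, 3, 3, 0, 3, 3, 0, 2, 0, 2, 2, 0, 2] [⟨0, [], [7, 7, 7, 1, 8, 0, 8, 8, 8, 0, 7, 0, 7, 0]⟩, ⟨1, [9], [8, 0, 8, 8, 0, 8, 8, 0, 8, 8, 0]⟩] [⟨5, [4, 10, 11, 5, 4], [13, 13, 1, 13, 13, 13, 13, 1, 14, 14, 14, 1, 13, 13, 1]⟩] [2, 2, 2] [7, 7, 1, 7, 0, 7, 7, 7, 0, 8, 8, 0] [] [0, 2, 0, 3, 3, 0, 2, 2, 0, 2, 2, 0, 3, 0, 3, 0, 2, 0, 2, 0, 2, 0] [],
  .stab 1 8 0 [2, 0, 2, 0, 2, 2, 0, 2, 0, 3, 0, 3, 0, 2, 0, 2, 0, 3, 0] [⟨0, [], [7, 7, 7, 7, 1, 7, 0, 7, 7, 7, 0]⟩, ⟨1, [9], [7, 7, 7, 0, 8, 8, 8, 8, 0, 7, 7, 7, 0, 7, 0, 7]⟩, ⟨7, [], [0, 8, 0, 8, 8, 8, 8, 8, 0, 7, 0, 7, 7, 0, 8]⟩, ⟨5, [], [0, 7, 0, 7, 7, 7, 7, 7, 0, 7, 7, 7, 7, 0]⟩] [] 19,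
  .inv 0 19 20,
  .edge 0 0 1 [3] [] [⟨6, [], [14, 14, 14, 14, 14, 1, 13, 1, 13, 1, 13, 13, 1]⟩] [3] [] [] [3, 1, 3, 0, 3, 0, 2, 0, 2, 2, 0, 2, 0, 3, 3, 0, 2, 0] [],
  .edge 0 1 1 [3, 1, 3] [⟨1, [], []⟩] [] [] [] [] [3, 1, 3] [],
  .stab 1 2 1 [3, 0, 3, 0, 3, 0, 3, 3, 0, 2, 2, 2, 0, 3, 0, 2, 2, 0, 3, 0, 2] [⟨1, [], [8, 0, 7, 7, 7, 0, 7, 7, 0, 7, 7, 0, 7, 7, 0]⟩] [⟨0, [], [14, 14, 1, 14, 1, 14, 14, 14, 1, 14, 14, 1, 14, 14]⟩, ⟨5, [19, 10, 4], [14, 14, 14, 0, 14, 14, 14, 14, 14, 1, 14, 14, 1]⟩, ⟨6, [9], [13, 13, 13, 13, 1, 14, 14, 1, 14, 14, 14, 1, 13, 1, 13, 1, 13, 1]⟩] 22,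
  .inv 2 22 24,
  .stab 1 8 1 [2, 0, 2, 0, 3, 3, 1, 2, 2, 0, 3, 3, 0, 2, 2, 0, 3, 3, 0, 3, 0, 2, 0, 2, 0] [⟨5, [], [0, 7, 7, 7, 0, 8, 0, 8, 0, 8, 8, 0, 8, 0]⟩, ⟨0, [5], [0, 8, 0, 8, 0, 8, 8, 0, 8, 8, 8, 8, 0, 7, 0]⟩, ⟨8, [], [0, 8, 8, 0, 8, 8, 0, 8, 8, 0, 8, 0]⟩, ⟨9, [], [8, 8, 8, 0, 8, 8, 0, 8, 8, 8, 8]⟩] [] 23,
  .inv 1 23 25,
  .edge 1 4 1 [0, 2, 2, 1, 2, 2, 0, 3, 0, 3, 3, 0, 3, 3, 0, 2, 0, 2, 2, 0, 2] [⟨5, [], [7, 7, 7, 1, 8, 0, 8, 8, 8, 0, 7, 0, 7, 0]⟩, ⟨0, [20], [7, 1, 8, 8, 0, 8, 0, 8, 8, 8, 0, 8, 0, 8]⟩] [⟨9, [], [13, 1, 14, 14, 14, 1, 14, 14, 14, 1, 13, 13, 1, 13, 13]⟩] [2, 2, 2] [0, 7, 0, 7, 7, 0, 7, 7, 7, 0, 8, 8, 0, 8, 0] [] [0, 2, 2, 2, 0, 2, 2, 2, 0, 2, 0, 2, 2, 0, 2] [],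
  .stab 1 8 2 [0, 2, 2, 1, 2, 2, 0, 3, 0, 3, 3, 0, 3, 3, 0, 2, 0, 2, 2, 0, 2] [⟨9, [], [7, 7, 7, 1, 8, 0, 8, 8, 8, 0, 7, 0, 7, 0]⟩, ⟨10, [], [1, 8, 0, 8, 8, 8, 0, 8, 8, 0, 8, 8, 8, 0, 7, 0]⟩, ⟨9, [], [8, 1, 8, 8, 8, 0, 8, 8, 8, 0, 8, 8, 0, 8, 8, 0]⟩, ⟨1, [9], [7, 7, 7, 1, 7, 7, 0, 7, 7, 0, 7, 7, 0, 7]⟩] [] 26,
  .inv 2 26 27,
  .stab 2 1 2 [3, 3, 0, 3, 0, 2, 0, 2, 0, 3, 0, 3, 0] [⟨2, [15], [7, 7, 7, 7, 1, 7, 7, 7, 7, 0]⟩] [⟨2, [], []⟩] 28,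
  .stab 2 1 2 [3, 3, 0, 3, 0, 2, 0, 2, 0, 3, 0, 3, 0] [⟨2, [21, 27, 15], [8, 8, 1, 7, 7, 0, 7, 7, 0, 7, 7, 0, 7]⟩] [⟨2, [], []⟩] 29,
  .inv 3 29 31,
  .stab 2 1 2 [3, 3, 0, 3, 0, 2, 0, 2, 0, 3, 0, 3, 0] [⟨2, [26, 6], [8, 1, 7, 7, 7, 7, 0, 7, 7, 0, 7, 7]⟩] [⟨2, [], []⟩] 30,
  .inv 3 30 34,
  .edge 1 4 1 [0, 2, 1, 2, 2, 2, 0, 3, 0, 2, 0, 2, 0, 3, 0, 3, 0, 2, 2, 2] [⟨10, [], [1, 7, 7, 7, 7, 7, 7, 0, 7, 7, 7, 7, 7, 0]⟩, ⟨2, [], [8, 8, 1, 8, 8, 8, 0, 8, 8, 8, 0, 7, 0, 7]⟩] [⟨6, [25], [13, 0, 13, 13, 13, 13, 13, 1, 13, 13, 13, 13, 1, 14, 1, 14, 14]⟩] [3] [7, 7, 7, 7, 7, 7, 0, 8, 8, 8, 8, 8, 0, 8, 8, 0, 7, 0] [29] [0, 3, 0, 2, 2, 0, 3, 0, 2, 0, 2, 0, 3, 0, 3, 3, 0, 3, 0, 3, 0, 3, 0, 2, 2] [],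
  .stab 1 4 1 [2, 2, 0, 3, 0, 3, 0, 2, 2, 0, 2, 0, 2, 0, 3, 3, 0, 3, 3] [⟨10, [], [8, 1, 8, 0, 8, 8, 8, 0, 7, 0, 7, 0, 7, 7, 7]⟩, ⟨2, [], [8, 8, 8, 8, 8, 0, 7, 0, 7, 7, 7, 0, 8, 0, 8]⟩] [⟨9, [], [1, 14, 14, 14, 14, 1]⟩, ⟨11, [], [13, 13, 13, 0, 13, 13, 13, 1, 13, 13, 13, 1]⟩] 32,
  .inv 3 32 33,
  .stab 2 1 1 [2, 2, 2, 0, 3, 0, 3] [⟨3, [25, 17, 23], [8, 1, 8, 0, 8, 0, 8, 0, 8, 0, 8, 8, 0]⟩] [⟨3, [], []⟩] 35,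
  .inv 4 35 43,
  .stab 2 1 1 [2, 2, 2, 0, 3, 0, 3] [⟨3, [25, 16, 25, 16], [0, 7, 0, 7, 0, 7, 0, 7, 0, 7, 0, 7, 0, 7]⟩] [⟨3, [], []⟩] 36,
  .inv 4 36 41,
  .stab 2 1 1 [2, 2, 2, 0, 3, 0, 3] [⟨3, [25, 16, 17], [8, 1, 7, 7, 7, 0, 8, 0, 8, 8, 0, 7, 0]⟩] [⟨3, [], []⟩] 37,
  .inv 4 37 50,
  .stab 2 1 1 [2, 2, 2, 0, 3, 0, 3] [⟨3, [17, 25, 9], [7, 7, 0, 7, 7, 7, 7, 7, 0, 7, 7, 0, 7, 0, 7, 7, 7, 7]⟩] [⟨3, [], []⟩] 38,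
  .inv 4 38 39,
  .edge 1 4 0 [] [⟨0, [], []⟩, ⟨3, [], [8, 8, 8, 8, 1, 8, 8, 8, 0, 7, 7, 0, 7, 0, 7]⟩] [⟨5, [10, 4, 4], [13, 13, 13, 1, 14, 14, 14, 1, 13, 13, 13, 13, 1, 13, 13, 1]⟩] [3, 3, 0, 3, 0, 2, 0, 2, 0, 3] [7, 7, 7, 1, 8, 0, 8, 0, 8, 0, 8, 0, 8, 0] [39] [3, 3, 0, 2, 1, 2, 2, 2, 0, 2, 2, 2, 0, 2, 0, 3, 0, 3, 0, 3, 3, 0, 2, 0] [],
  .edge 1 4 0 [2, 2, 2, 1, 3, 3, 0, 3, 0, 3, 0, 2, 2, 0, 3, 0, 2, 2, 2, 0] [⟨0, [], [8, 0, 7, 7, 7, 0, 7, 7, 0, 7, 7, 0, 7, 7, 0]⟩, ⟨3, [23], [7, 7, 7, 0, 8, 0, 8, 0, 8, 0, 8, 8, 0, 7]⟩] [⟨5, [19], [13, 0, 14, 14, 14, 1, 13, 13, 13, 1, 14, 1, 14, 1]⟩] [2, 2, 2] [8, 8, 8, 1, 7, 0, 7, 7, 7, 0, 7, 7, 7, 0, 7, 7] [35] [3, 3, 0, 2, 2, 0, 2, 0, 3, 1, 3, 0, 2, 0, 2, 0, 2, 2, 0, 3, 3, 0, 2, 0, 2, 0, 3] [],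
  .edge 1 4 1 [2, 0, 2, 0, 2, 2, 0, 3, 0, 3, 0, 2, 2, 0, 2, 2, 0, 3, 0, 2, 0, 2, 2, 0] [⟨8, [], [8, 8, 0, 8, 8, 0, 8, 8, 8, 0, 7, 0, 7, 7, 0, 8]⟩, ⟨9, [22], [8, 8, 1, 8, 8, 8, 0, 7, 7, 7, 7, 0, 8, 0, 8, 0]⟩] [⟨13, [25, 12, 9], [14, 1, 14, 14, 14, 1, 13, 13, 1, 13, 1, 13, 13, 13, 13, 1]⟩] [2, 2, 2, 1] [7, 7, 7, 7, 7, 1, 8, 8, 8, 0, 8, 8] [16, 23, 9] [0, 2, 0, 2, 0, 3, 0, 3, 3, 0, 3, 0, 3, 3, 0, 2, 0, 2, 0, 3, 0, 3, 0, 2] [],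
  .edge 1 4 1 [3, 0, 3, 0, 3, 0, 3, 3, 0, 3, 0, 2, 0] [⟨8, [], [7, 7, 7, 7, 0, 7, 0, 7, 7, 7, 7, 0, 7, 0]⟩, ⟨9, [22], [7, 7, 0, 7, 0, 7, 0, 7, 0, 7, 7, 0, 7, 0]⟩] [⟨12, [12, 17, 12, 9], [1, 13, 13, 1, 13, 13, 1, 13, 13, 13, 13, 1, 14]⟩] [3, 1] [8, 0, 8, 8, 0, 8, 8, 0, 8, 8, 8, 0, 8, 0, 8] [23, 23] [2, 2, 0, 3, 0, 3, 3, 0, 2, 0, 2, 2, 0, 2, 0, 2, 0, 3, 0, 3, 3, 0, 2] [],
  .stab 0 1 1 [3, 1] [⟨15, [], []⟩] [⟨12, [12, 23], [0, 13, 13, 13, 1, 13, 13, 13, 1, 13, 13, 1, 13, 1]⟩] 40,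
  .inv 4 40 42,
  .edge 1 6 1 [] [⟨5, [], []⟩, ⟨0, [5, 4], [7, 7, 1, 7, 0, 7]⟩, ⟨15, [25, 16], [8, 8, 8, 8, 1, 7]⟩] [] [] [7, 7, 1, 7, 0, 7, 0, 7, 0, 7, 0, 7, 0] [40] [3, 0, 3, 1, 3, 0, 3, 0, 2, 2, 0, 3, 0, 2, 2, 0, 3, 3, 0, 2, 2, 0] [],
  .stab 2 1 2 [3] [⟨4, [22, 18, 6], [8, 1, 7, 7, 0, 7, 7, 7, 7, 0, 8, 0, 8, 0]⟩] [⟨4, [], []⟩] 44,
  .inv 5 44 48,
  .stab 2 1 2 [3] [⟨4, [27, 15, 18, 15], [7, 7, 1, 7, 7, 7, 0, 8, 8, 8, 8, 0, 7, 0, 7, 7, 0, 7, 0]⟩] [⟨4, [], []⟩] 45,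
  .inv 5 45 58,
  .stab 2 1 2 [3] [⟨4, [27], [7, 7, 0, 8, 8, 8, 0, 7, 7, 7, 0, 7, 7, 0]⟩] [⟨4, [], []⟩] 46,
  .inv 5 46 59,
  .edge 1 4 1 [1, 2, 0, 2, 2, 2, 0, 3, 0, 2, 0, 2, 0, 3, 0, 3, 0, 3] [⟨8, [], [1, 7, 7, 7, 7, 7, 7, 0, 7, 7, 7, 7, 7, 0]⟩, ⟨4, [15], [8, 8, 8, 1, 7, 0, 7, 7, 0, 7, 7, 0, 7, 0, 7]⟩] [⟨16, [23, 16], [14, 14, 14, 0, 13, 13, 13, 1, 13, 1, 13]⟩] [2] [0, 7, 0, 7, 7, 7, 7, 7, 7, 0, 7, 0, 7, 7] [44] [3, 0, 3, 0, 3, 3, 0, 2, 2, 0, 2, 0, 2, 2, 2, 0, 2, 2, 0, 2, 0, 2, 2] [],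
  .edge 1 2 1 [1, 2, 2, 0, 2, 2, 0, 3, 0, 3, 3, 0, 3, 3, 0, 2, 0, 2, 2, 0] [⟨8, [], [7, 7, 7, 1, 8, 0, 8, 8, 8, 0, 7, 0, 7, 0]⟩] [⟨12, [12, 17, 16, 9], [14, 14, 14, 14, 1, 13, 1, 13, 13, 13, 1]⟩, ⟨17, [40], [13, 1, 14, 14, 14, 14, 14, 1, 14, 1, 14]⟩] [3, 1] [8, 8, 8, 1, 7, 7, 0, 7, 0, 7, 7, 7, 7, 7, 0] [15, 21] [3, 0, 3, 3, 0, 2, 2, 0, 2, 2, 2, 0, 3, 0, 3] [],
  .edge 1 4 1 [0, 3, 0, 2, 2, 1, 2, 0, 2, 0, 2, 2, 0, 3, 3, 0, 2, 2, 0, 2, 0, 3, 0] [⟨8, [], [7, 7, 7, 7, 7, 0, 8, 8, 8, 0, 7, 7, 7, 7]⟩, ⟨18, [18, 22], [8, 0, 7, 7, 7, 0, 8, 8, 8, 8, 0, 8, 8, 0]⟩] [⟨13, [25, 12, 9], [13, 1, 13, 13, 1, 13, 13, 13, 1, 13, 13, 1, 13, 13]⟩] [2, 2, 2] [7, 7, 7, 7, 1, 8, 8, 8, 8, 8, 0, 8, 8] [45, 44] [0, 3, 1, 2, 0, 2, 0, 2, 2, 0, 2, 0, 2, 0, 3, 0, 3, 3, 0, 2, 0] [],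
  .edge 1 4 1 [3, 3, 0, 2, 2, 0, 3, 0, 2, 0, 2, 0, 2, 0, 3] [⟨8, [], [8, 8, 1, 8]⟩, ⟨18, [18, 22], [1, 7, 7, 7, 0, 8, 8, 0, 8, 8, 8, 0, 8, 8, 0, 7]⟩] [⟨16, [23, 16], [13, 13, 13, 0, 13, 13, 1, 13, 13, 13, 1, 14, 1, 14, 14, 14, 1]⟩] [3] [7, 1, 8, 8, 0, 8, 8, 0, 8, 0, 8, 8, 0] [45, 44, 44] [0, 2, 1, 3, 3, 0, 3, 3, 0, 2, 0, 3, 0, 3, 0, 2, 0, 2, 2, 2, 0] [],
  .stab 1 4 1 [2, 0, 3, 0, 3, 3, 0, 2, 2, 2, 0, 2, 2, 0, 2, 0, 3, 3] [⟨8, [], [7, 0, 7, 7, 0, 7, 7, 0, 7, 7, 7, 7, 0, 7]⟩, ⟨4, [15], [0, 8, 8, 0, 8, 0, 8, 8, 8, 0, 7, 7, 0, 7, 7]⟩] [⟨13, [25, 12, 9], [0, 14, 1, 14, 14, 14, 1, 14, 1, 14, 14, 1, 14, 1]⟩, ⟨17, [42], [14, 1, 14, 1, 14, 1, 14, 1, 14, 14, 1, 14, 14, 1]⟩] 47,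
  .inv 5 47 49,
  .edge 1 2 1 [1, 2, 2, 0, 3, 0, 3, 0, 2, 2, 0, 3, 0, 3, 3, 0, 3, 3] [⟨8, [], [8, 0, 7, 7, 0, 7, 7, 7, 7, 7, 0, 8, 8, 8, 0, 7, 0]⟩] [⟨12, [17, 12, 9], [0, 13, 13, 1, 13, 13, 1, 13, 13, 13, 13, 1, 14, 1, 14, 1]⟩, ⟨19, [42, 36, 43], [0, 14, 14, 14, 1, 14, 1, 14, 1, 14, 14, 14, 14]⟩] [3, 3, 1, 3, 3] [8, 8, 1, 7, 7, 7, 7, 7, 0, 7, 7, 0, 7, 0, 7, 0, 7, 0] [22, 15] [2, 0, 3, 3, 0, 3, 3, 0, 2, 2, 0, 3, 3, 0, 2, 2, 0, 3, 0, 3, 3, 0, 2, 2] [],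
  .edge 1 4 1 [3, 0, 3, 0, 3, 3, 1, 2, 2, 2, 0, 2, 2, 0, 3, 0, 3, 3, 0, 3, 0, 2, 2, 0] [⟨8, [], [7, 7, 1, 8, 0, 8, 8, 8, 8, 0, 7, 7, 0]⟩, ⟨21, [22, 15], [7, 1, 8, 8, 8, 0, 8, 8, 8, 8, 8, 0, 8, 0]⟩] [⟨7, [], [13, 0, 14, 14, 1, 14, 14, 1, 14, 1, 14, 14, 1]⟩] [3, 3] [8, 8, 1, 7, 7, 7, 7, 7, 0, 7, 7, 7, 0] [47] [0, 3, 0, 3, 3, 0, 3, 0, 2, 0, 2, 0, 3, 3, 0, 2, 2, 2, 0, 3, 0, 3, 3, 0, 2, 2, 0] [],
  .edge 1 4 1 [3, 3, 0, 2, 2, 0, 2, 2, 1, 3, 3, 0, 3, 0, 2, 2, 0, 2, 2, 0, 3, 0, 2, 2, 2, 0] [⟨8, [], [7, 1, 8, 0, 8, 0, 8, 8, 0, 8, 8, 8, 0, 8, 8]⟩, ⟨18, [22], [7, 1, 8, 8, 8, 8, 0, 7, 0, 7, 0, 7]⟩] [⟨7, [], [1, 14, 1, 14, 1, 14, 14, 14, 14]⟩] [2, 2] [7, 0, 8, 8, 8, 8, 8, 0, 8, 8] [44] [3, 3, 0, 2, 2, 2, 0, 2, 1, 2, 0, 3, 0, 3, 0, 3, 0, 2, 2, 0, 2, 2, 0, 2, 2, 0, 2] [],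
  .edge 1 2 1 [3, 1] [⟨15, [], []⟩] [⟨12, [17, 23, 12, 9], [0, 14, 14, 1, 14, 14, 1, 14, 14, 14, 1, 13, 13, 13, 1, 14]⟩, ⟨20, [43, 39], [14, 14, 14, 14, 14, 1, 14, 14, 1, 14, 14, 14, 1, 13, 1, 13, 1]⟩] [3] [7, 7, 7, 7, 1, 8, 8, 8, 8, 8, 0, 7, 0, 7] [42, 35] [2, 2, 2, 1, 2, 2, 2, 0, 3, 0, 2, 2, 0, 2, 2, 0, 3, 0, 2, 2, 2] [],
  .edge 1 2 1 [2, 0, 2, 0, 2, 0, 2, 2, 0, 3, 3, 0, 3, 0, 3, 3, 0, 2, 2, 2] [⟨15, [], [7, 7, 7, 7, 0, 8, 8, 0, 8, 0, 8, 8]⟩] [⟨13, [25, 16, 25], [13, 13, 1, 14, 14, 1, 14, 14, 14, 1, 13, 1]⟩, ⟨19, [43, 42], [13, 1, 14, 14, 14, 1, 13, 13, 1, 13, 1, 13, 13, 1, 13]⟩] [3, 3] [7, 7, 7, 1, 8, 8, 8, 8, 0, 7] [42, 35] [0, 2, 2, 0, 2, 2, 1, 3, 0, 3, 3, 0, 3, 0, 3, 0, 2, 0, 2, 2, 2, 0, 3, 0, 2] [],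
  .edge 1 4 1 [0, 2, 2, 0, 2, 2, 0, 2, 0, 3, 3, 0, 3, 3, 0, 3, 0, 2, 2, 2] [⟨15, [], [7, 1, 7, 7, 7, 0, 8, 8, 0, 8, 8, 8, 0, 8]⟩, ⟨24, [40, 38], [1, 8, 0, 8, 8, 0, 8, 0, 8, 8, 8, 8, 0, 7, 0]⟩] [⟨6, [16], [13, 13, 0, 13, 1, 13, 13, 1, 13, 13, 13, 13, 13, 1, 13, 13, 1, 13]⟩] [] [8, 0, 8, 8, 8, 0, 7, 7, 7, 0, 7, 7, 0, 7] [47] [2, 2, 0, 2, 2, 2, 1, 2, 2, 2, 0, 2, 2, 2, 0, 2, 2, 2, 0, 2, 2, 2, 0] [],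
  .edge 1 2 1 [0, 2, 0, 2, 2, 2, 0, 3, 0, 2, 0, 2, 0, 3, 0, 3, 0, 2, 2, 2, 0] [⟨14, [], [1, 7, 7, 7, 7, 7, 7, 0, 7, 7, 7, 7, 7, 0]⟩] [⟨12, [23, 12, 23], [14, 14, 1, 14, 14, 14, 14, 14]⟩, ⟨19, [50, 36], [13, 13, 13, 13, 0, 14, 1, 14, 14, 14]⟩] [3, 3, 1, 3, 3] [7, 0, 7, 7, 7, 7, 0, 8, 8, 8, 8, 0, 7, 0] [40] [2, 0, 2, 0, 3, 0, 3, 0, 2, 2, 0, 2, 0, 3, 0, 3, 3, 0, 2, 2, 0, 2] []]
/-- final state -/
def fin : St := ⟨[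
  ⟨0, [], 1, []⟩,
  ⟨1, [3, 1, 3], 2, []⟩,
  ⟨2, [3, 3, 0, 3, 0, 2, 0, 2, 0, 3, 0, 3, 0], 3, []⟩,
  ⟨1, [2, 2, 2, 0, 3, 0, 3], 4, []⟩,
  ⟨2, [3], 5, []⟩,
  ⟨1, [], 0, []⟩,
  ⟨2, [2, 2, 2, 1], 1, [2, 2, 0, 2, 2, 0, 3, 0, 3, 3, 0, 3, 0, 2, 0, 2, 0]⟩,
  ⟨2, [2, 2, 2], 1, [0, 2, 0, 3, 3, 0, 2, 2, 0, 2, 2, 0, 3, 0, 3, 0, 2, 0, 2, 0, 2, 0]⟩,
  ⟨1, [3], 2, [3, 1, 3, 0, 3, 0, 2, 0, 2, 2, 0, 2, 0, 3, 3, 0, 2, 0]⟩,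
  ⟨2, [], 1, [3, 1, 3]⟩,
  ⟨1, [2, 2, 2], 2, [0, 2, 2, 2, 0, 2, 2, 2, 0, 2, 0, 2, 2, 0, 2]⟩,
  ⟨3, [3], 2, [0, 3, 0, 2, 2, 0, 3, 0, 2, 0, 2, 0, 3, 0, 3, 3, 0, 3, 0, 3, 0, 3, 0, 2, 2]⟩,
  ⟨4, [3, 3, 0, 3, 0, 2, 0, 2, 0, 3], 1, [3, 3, 0, 2, 1, 2, 2, 2, 0, 2, 2, 2, 0, 2, 0, 3, 0, 3, 0, 3, 3, 0, 2, 0]⟩,
  ⟨4, [2, 2, 2], 1, [3, 3, 0, 2, 2, 0, 2, 0, 3, 1, 3, 0, 2, 0, 2, 0, 2, 2, 0, 3, 3, 0, 2, 0, 2, 0, 3]⟩,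
  ⟨1, [2, 2, 2, 1], 4, [0, 2, 0, 2, 0, 3, 0, 3, 3, 0, 3, 0, 3, 3, 0, 2, 0, 2, 0, 3, 0, 3, 0, 2]⟩,
  ⟨1, [3, 1], 4, [2, 2, 0, 3, 0, 3, 3, 0, 2, 0, 2, 2, 0, 2, 0, 2, 0, 3, 0, 3, 3, 0, 2]⟩,
  ⟨4, [], 1, [3, 0, 3, 1, 3, 0, 3, 0, 2, 2, 0, 3, 0, 2, 2, 0, 3, 3, 0, 2, 2, 0]⟩,
  ⟨5, [2], 4, [3, 0, 3, 0, 3, 3, 0, 2, 2, 0, 2, 0, 2, 2, 2, 0, 2, 2, 0, 2, 0, 2, 2]⟩,
  ⟨2, [3, 1], 5, [3, 0, 3, 3, 0, 2, 2, 0, 2, 2, 2, 0, 3, 0, 3]⟩,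
  ⟨5, [2, 2, 2], 4, [0, 3, 1, 2, 0, 2, 0, 2, 2, 0, 2, 0, 2, 0, 3, 0, 3, 3, 0, 2, 0]⟩,
  ⟨5, [3], 4, [0, 2, 1, 3, 3, 0, 3, 3, 0, 2, 0, 3, 0, 3, 0, 2, 0, 2, 2, 2, 0]⟩,
  ⟨2, [3, 3, 1, 3, 3], 5, [2, 0, 3, 3, 0, 3, 3, 0, 2, 2, 0, 3, 3, 0, 2, 2, 0, 3, 0, 3, 3, 0, 2, 2]⟩,
  ⟨5, [3, 3], 2, [0, 3, 0, 3, 3, 0, 3, 0, 2, 0, 2, 0, 3, 3, 0, 2, 2, 2, 0, 3, 0, 3, 3, 0, 2, 2, 0]⟩,
  ⟨5, [2, 2], 2, [3, 3, 0, 2, 2, 2, 0, 2, 1, 2, 0, 3, 0, 3, 0, 3, 0, 2, 2, 0, 2, 2, 0, 2, 2, 0, 2]⟩,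
  ⟨4, [3], 5, [2, 2, 2, 1, 2, 2, 2, 0, 3, 0, 2, 2, 0, 2, 2, 0, 3, 0, 2, 2, 2]⟩,
  ⟨4, [3, 3], 5, [0, 2, 2, 0, 2, 2, 1, 3, 0, 3, 3, 0, 3, 0, 3, 0, 2, 0, 2, 2, 2, 0, 3, 0, 2]⟩,
  ⟨5, [], 2, [2, 2, 0, 2, 2, 2, 1, 2, 2, 2, 0, 2, 2, 2, 0, 2, 2, 2, 0, 2, 2, 2, 0]⟩,
  ⟨4, [3, 3, 1, 3, 3], 5, [2, 0, 2, 0, 3, 0, 3, 0, 2, 2, 0, 2, 0, 3, 0, 3, 3, 0, 2, 2, 0, 2]⟩],
  [(0, 4), (0, 5), (0, 6), (0, 11), (0, 10), (1, 9), (1, 17), (1, 12), (1, 16), (2, 6), (2, 15), (2, 18), (2, 21), (0, 19), (0, 20), (2, 22), (2, 24), (1, 23), (1, 25), (2, 26), (2, 27), (3, 28), (3, 29), (3, 31), (3, 30), (3, 34), (3, 32), (3, 33), (4, 35), (4, 43), (4, 36), (4, 41), (4, 37), (4, 50), (4, 38), (4, 39), (4, 40), (4, 42), (5, 44), (5, 48), (5, 45), (5, 58), (5, 46), (5, 59), (5, 47), (5, 49)]⟩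

theorem c_run : runE tab 60 base ph phI iv rels ⟨defEdges 0 ds, init.map (fun s => (0, s))⟩ its fin = true := by decide +kernel
theorem c_ds : defOk 0 ds = true := by decide +kernel
theorem c_j : jOk 6 fin.edges = true := by decide +kernel
theorem c_cov0 : cover tab 60 432 50 fin 0 0 [(0, 0)]
  [([4], [0]), ([11], [0]), ([5], [0]), ([19], [0]), ([20], [0]), ([4], [27, 7, 12]), ([11], [7, 12]), ([5], [27, 5, 7, 12]), ([10], [5]), ([19], [27, 44, 7]), ([20], [5, 44, 12]), ([4], [15, 26, 32, 46, 42, 9, 19, 48]), ([11], [32, 49, 47, 48]), ([5], [17, 32, 9, 19, 48]), ([10], [20, 6, 17, 47]), ([19], [26, 32, 2]), ([20], [32, 47]), ([5], [39, 21])] = true := by decide +kernel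
theorem c_cov1 : cover tab 60 432 50 fin 1 0 [(5, 0), (8, 2), (15, 5), (1, 7), (10, 9), (14, 13), (3, 32)]
  [([9], [2, 7, 9, 13, 32]), ([12], [2, 5, 32]), ([16], [2, 5, 13]), ([23], [5, 13, 32]), ([25], [2, 5, 32]), ([9], [16, 10, 40, 15, 28, 36, 47, 39, 38]), ([12], [21, 10, 36, 39, 38]), ([16], [36, 38]), ([23], [15, 36]), ([25], [21, 10]), ([9], [45, 14, 3, 42]), ([12], [23]), ([16], [6])] = true := by decide +kernel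
theorem c_cov2 : cover tab 60 432 50 fin 2 0 [(9, 0), (4, 2), (18, 5), (7, 9), (6, 13), (21, 16), (2, 48)]
  [([15], [2, 5, 13, 16]), ([18], [2, 5]), ([21], [2, 5]), ([22], [0, 5, 9, 13, 16]), ([24], [5, 13, 16]), ([27], [5, 13, 16]), ([15], [11, 19, 15, 31, 46, 33, 18, 44, 28, 34]), ([18], [4, 41, 35, 19, 18]), ([21], [4, 41, 35, 34]), ([22], [31]), ([24], [29, 25]), ([15], [8, 30])] = true := by decide +kernel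
theorem c_cov3 : cover tab 60 432 50 fin 3 0 [(11, 2)]
  [([28], [2]), ([29], [2]), ([31], [2]), ([30], [2]), ([32], [2]), ([33], [2]), ([28], [34, 37, 21]), ([29], [34, 30, 21, 1]), ([31], [30]), ([30], [21]), ([34], [21]), ([32], [31, 34]), ([33], [31, 34, 30, 1]), ([28], [18, 41, 22, 40]), ([29], [4, 46, 40]), ([31], [10, 22, 40]), ([30], [38, 41, 40]), ([34], [28, 10]), ([32], [18, 20, 4]), ([33], [5, 19, 10]), ([28], [25]), ([29], [24, 29, 7, 42]), ([31], [29])] = true := by decide +kernel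
theorem c_cov4 : cover tab 60 432 50 fin 4 0 [(16, 0), (24, 2), (25, 6), (13, 9), (27, 16), (12, 42)]
  [([35], [2, 6, 9, 16, 42]), ([37], [2, 6]), ([38], [2, 6, 42]), ([39], [2, 6, 42]), ([40], [0, 2, 6, 9, 16, 42]), ([42], [2, 6, 9, 16, 42]), ([35], [34, 28, 18, 21, 17, 25, 15, 40, 20, 31]), ([37], [15, 40, 32, 20, 31, 46]), ([38], [15, 40]), ([39], [20, 31])] = true := by decide +kernel
theorem c_cov5 : cover tab 60 432 50 fin 5 0 [(26, 0), (20, 2), (17, 1), (22, 6), (23, 4), (19, 9)]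
  [([44], [2, 1, 6, 4, 9]), ([48], [2, 4, 9]), ([45], [2, 9]), ([47], [0, 2, 1, 6, 4, 9]), ([49], [2, 1, 6, 4, 9]), ([44], [34, 16, 25, 37, 23, 39, 12, 40]), ([48], [37, 23, 15, 7, 48]), ([45], [15, 48, 39, 40]), ([47], [37, 23]), ([49], [37, 23]), ([44], [27, 19])] = true := by decide +kernel
/-- letters of point 0 -/
def g0 : List ℕ := [4, 11, 5, 10, 6, 19, 20]
theorem c_g0 : allIn fin.stab 0 g0 = true := by decide +kernel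
theorem c_ch0 : chainH tab 60 432 (g0.map (fun s => [s])) [] [⟨51, [([0], [51]), ([1], [51]), ([2], [51]), ([3], [51]), ([5], [51]), ([6], [51]), ([0], [143, 287, 337, 351, 331]), ([1], [287, 337, 351, 331]), ([2], [143, 61, 287, 351, 331]), ([3], [143, 61, 337, 351, 331]), ([5], [143, 61, 287, 337, 351]), ([6], [143, 61, 287, 337, 331]), ([0], [425, 309, 310, 402, 117, 192, 86, 99, 424, 109, 349, 136, 385, 279, 348, 252, 198, 83, 384, 162, 320, 95]), ([1], [192, 86, 99, 349, 136, 348, 252, 198, 83, 384, 162, 320, 308, 95, 93]), ([2], [290, 309, 402, 225, 338, 196, 117, 99, 424, 348, 252, 198, 83, 384, 162, 320, 308, 95, 93]), ([3], [290, 310, 402, 108, 338, 136, 279, 252, 198, 384, 162, 320, 95, 93]), ([5], [290, 425, 309, 310, 402, 108, 225, 338, 196, 117, 192, 86, 99, 424, 109, 349,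 279, 348, 252, 83, 384]), ([6], [290, 425, 309, 310, 108, 225, 338, 196, 117, 192, 99, 424, 109, 349, 279, 162, 320, 308, 95]), ([0], [92, 159, 185, 264, 250, 268, 327, 170, 243, 255, 423, 403, 284, 164, 209, 261, 134, 296, 90, 181, 217, 332, 183, 204, 399, 427, 359, 373, 245, 216, 124, 258, 300, 299, 131, 314, 194, 407, 166, 333, 357, 151, 319, 213, 173, 394, 176, 161, 416, 52, 128, 133, 81, 53, 236, 259]), ([1], [255, 423, 210, 222, 388, 164, 209, 261, 296, 157, 215, 211, 399, 359, 373, 380, 124, 258, 299, 194, 55, 166, 333, 329, 151, 280, 406, 319, 394, 416, 418, 221, 133, 138, 81, 53, 232, 369, 259]), ([2], [168, 227, 92, 159, 254, 281, 327, 324, 323, 223, 98, 411, 210, 388, 209, 325, 90, 215, 299, 131, 314, 194, 407, 166, 151, 280, 406, 319, 343, 173, 220, 394, 240, 176, 161, 214,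 52, 138, 236, 259]), ([3], [227, 292, 410, 159, 254, 250, 323, 223, 98, 326, 72, 341, 197, 299, 57, 55, 166, 333, 357, 280, 213, 240, 176, 161, 138, 236]), ([5], [82, 227, 92, 260, 103, 327, 98, 84, 415, 411, 203, 197, 423, 284, 134, 296, 217, 332, 427, 373, 300, 57, 407, 166, 333, 406, 319, 220, 394]), ([6], [185, 254, 249, 341, 389, 423, 222, 332, 204, 300, 416, 221, 81, 53, 232, 369]), ([0], [383, 328, 272, 91, 266, 100, 417, 165, 375, 391, 263, 366, 144, 137, 122, 66, 295, 238]), ([1], [91, 417]), ([2], [294, 366, 67])]⟩,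
  ⟨1, [([5, 5, 1, 2, 0], [1]), ([3, 5, 1, 3, 0], [1]), ([5, 5, 1, 2, 0], [5, 35]), ([3, 5, 1, 3, 0], [5]), ([5, 5, 1, 2, 0], [40, 31, 30]), ([3, 5, 1, 3, 0], [31]), ([5, 5, 1, 2, 0], [38, 11, 14, 3]), ([5, 5, 1, 2, 0], [19, 39])]⟩,
  ⟨428, [([4], [428])]⟩] = some 12000 := by decide +kernel
/-- letters of point 1 -/
def g1 : List ℕ := [9, 17, 12, 16, 23, 25]
theorem c_g1 : allIn fin.stab 1 g1 = true := by decide +kernel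
theorem c_ch1 : chainH tab 60 432 (g1.map (fun s => [s])) [] [⟨52, [([0], [52]), ([2], [52]), ([3], [52]), ([4], [52]), ([5], [52]), ([0], [160, 375, 87, 102]), ([2], [187, 160, 87, 102]), ([3], [187, 87, 102]), ([4], [187, 160, 375, 87]), ([5], [187, 160, 375, 102]), ([0], [115, 256, 323, 362, 286, 410, 382, 95, 296, 308, 328, 106, 387, 353, 358]), ([2], [274, 128, 173, 115, 362, 296, 308, 328, 387, 353, 358]), ([3], [274, 128, 173, 296, 106, 387, 353]), ([4], [115, 256, 323, 362, 382, 328]), ([5], [173, 382, 106, 353, 358]), ([0], [314, 148, 313, 406, 368, 83, 253, 338, 419, 326, 300, 320, 217, 126, 264, 310, 339, 107, 90, 285, 411, 333, 142, 407, 258, 163, 262, 138, 396]), ([2], [186, 314, 313, 326, 285, 411, 396]), ([3], [336, 312, 198, 163]), ([0], [161, 395, 242, 302, 269, 304,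 139, 81, 111, 188, 360])]⟩,
  ⟨428, [([0, 0], [428])]⟩] = some 240 := by decide +kernel
/-- letters of point 2 -/
def g2 : List ℕ := [6, 15, 18, 21, 22, 24, 26, 27]
theorem c_g2 : allIn fin.stab 2 g2 = true := by decide +kernel
theorem c_ch2 : chainH tab 60 432 (g2.map (fun s => [s])) [] [⟨52, [([1], [52]), ([2], [52]), ([3], [52]), ([4], [52]), ([5], [52]), ([6], [52]), ([7], [52]), ([1], [274, 286, 137, 169, 61, 237]), ([2], [75, 274, 137, 169, 61, 237]), ([3], [75, 137, 169, 61, 237]), ([4], [274, 286, 137, 61, 237]), ([5], [274, 286, 169, 61, 237]), ([6], [75, 286, 137, 169, 61]), ([7], [75, 274, 137, 169, 237]), ([1], [124, 53, 346, 115, 421, 372, 161, 191, 381, 66, 404, 250, 59, 260, 104, 323, 316, 216, 353]), ([2], [416, 208, 92, 124, 371, 207, 346, 398, 69, 191, 404, 188, 106,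 173, 232, 216, 299, 353]), ([3], [208, 161, 381, 260, 173, 316, 232, 299]), ([4], [371, 346, 421, 372, 191, 381, 104, 316, 299]), ([5], [424, 346, 421, 372, 59, 323]), ([6], [58, 250, 260]), ([7], [416, 58, 250]), ([1], [417, 297, 158, 412, 98, 202, 180, 210, 220])]⟩,
  ⟨428, [([0], [428])]⟩] = some 240 := by decide +kernel
/-- letters of point 3 -/
def g3 : List ℕ := [28, 29, 31, 30, 34, 32, 33]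
theorem c_g3 : allIn fin.stab 3 g3 = true := by decide +kernel
theorem c_ch3 : chainH tab 60 432 (g3.map (fun s => [s])) [] [⟨50, [([0], [50]), ([1], [50]), ([2], [50]), ([3], [50]), ([4], [50]), ([5], [50]), ([6], [50]), ([0], [216, 100, 113, 252, 53, 306]), ([1], [216, 113, 252, 53, 306]), ([2], [100, 113, 252, 53, 306]), ([3], [214, 216, 100, 113, 53]), ([4], [214, 216, 100, 252, 53, 306]), ([5], [214, 216, 100, 113, 53]), ([6], [214, 216, 100, 113, 252]), ([0], [246, 114, 185, 377, 268, 274, 254, 152, 166, 327, 373, 231, 344, 132, 171, 206, 318, 124, 310, 69, 313, 172, 294]), ([1], [246, 144, 114, 257, 166, 327, 373, 231, 203, 344, 132, 171, 206, 318, 124, 310, 69, 313, 172, 294]), ([2], [185, 377, 268, 274, 254, 400, 152, 280, 373, 231, 344, 132, 171, 206, 318, 124, 310, 69, 313,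 172, 294]), ([3], [427, 391, 246, 144, 257, 185, 377, 268, 221, 274, 254, 166, 132, 171, 206, 318, 124, 310, 69, 172, 294]), ([4], [427, 258, 237, 302, 246, 85, 221, 327, 231, 344, 132, 171, 206, 318, 310, 69, 313, 172]), ([5], [403, 427, 258, 302, 85, 114, 257, 377, 221, 254, 152, 166, 327, 373, 203, 132, 171, 206, 124]), ([6], [427, 258, 237, 302, 85, 114, 257, 185, 274, 254, 280, 166, 327, 373, 371, 231, 203, 310, 69]), ([0], [364, 412, 348, 145, 160, 89, 303, 346, 317, 288, 284, 393, 51, 204, 77, 190, 351, 155, 242, 384, 353, 60, 111, 191, 349, 421, 82, 319, 396, 326, 127, 141, 248, 75, 331, 266, 201, 259, 189, 394, 193, 68, 325, 94, 250, 200, 67, 217, 298, 234, 130, 329, 390, 197, 173, 205, 352, 260, 225, 309, 287, 71, 109, 183]), ([1], [320, 410, 80, 412, 160, 303, 346, 59, 123,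 319, 141, 331, 241, 259, 394, 325, 250, 411, 217, 244, 298, 130, 329, 311, 390, 197, 205, 352, 78, 270, 225, 65, 343, 309, 402, 228, 109, 183]), ([2], [288, 305, 77, 190, 351, 155, 353, 279, 159, 409, 349, 127, 201, 259, 405, 193, 298, 234, 311, 352, 78, 138, 287, 362, 109]), ([3], [86, 63, 151, 410, 348, 303, 190, 351, 242, 384, 60, 301, 191, 279, 123, 265, 217, 244, 234, 311, 205, 270, 65, 309]), ([4], [63, 211, 151, 98, 348, 301, 325, 94, 225, 245, 228]), ([5], [328, 89, 51, 204, 301, 147]), ([6], [151, 303, 111, 88, 200, 245, 296]), ([0], [57, 117, 170, 146, 406, 299, 336, 281, 424, 321]), ([1], [117, 95, 354]), ([2], [321])]⟩,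
  ⟨0, [([3, 6, 3, 2], [0]), ([5, 5, 4, 2], [0]), ([3, 6, 3, 2], [37, 9]), ([5, 5, 4, 2], [37]), ([3, 6, 3, 2], [4, 42, 32]), ([5, 5, 4, 2], [42]), ([3, 6, 3, 2], [35, 18, 15, 43]), ([3, 6, 3, 2], [2, 38])]⟩,
  ⟨428, [([1, 0, 1, 0], [428])]⟩] = some 12000 := by decide +kernel
/-- letters of point 4 -/
def g4 : List ℕ := [35, 43, 36, 41, 37, 50, 38, 39, 40, 42]
theorem c_g4 : allIn fin.stab 4 g4 = true := by decide +kernel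
theorem c_ch4 : chainH tab 60 432 (g4.map (fun s => [s])) [] [⟨54, [([0], [54]), ([2], [54]), ([3], [54]), ([4], [54]), ([6], [54]), ([7], [54]), ([8], [54]), ([9], [54]), ([0], [424, 317, 251, 300, 368, 227, 104]), ([2], [251, 300, 368, 227, 104]), ([3], [251, 300, 368, 227, 104]), ([4], [393, 300, 227, 104]), ([6], [393, 251, 227]), ([7], [251, 104]), ([8], [393, 251, 300]), ([9], [393, 251, 368]), ([0], [406, 319, 95, 418, 323, 339, 143])]⟩,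
  ⟨428, [([0, 0], [428])]⟩] = some 96 := by decide +kernel
/-- letters of point 5 -/
def g5 : List ℕ := [44, 48, 45, 58, 46, 59, 47, 49]
theorem c_g5 : allIn fin.stab 5 g5 = true := by decide +kernel
theorem c_ch5 : chainH tab 60 432 (g5.map (fun s => [s])) [] [⟨50, [([0], [50]), ([1], [50]), ([2], [50]), ([4], [50]), ([5], [50]), ([6], [50]), ([7], [50]), ([0], [80, 349, 103, 278, 55, 257]), ([1], [349, 103, 278, 55, 257]), ([2], [103, 278, 55, 257]), ([4], [349, 55]), ([5], [349, 257]), ([6], [349]), ([7], [349]), ([0], [118, 401, 365, 276, 241, 92, 85, 175, 371, 56, 414, 400]), ([1], [64, 207, 213]), ([2], [56, 207]), ([4], [64, 400])]⟩,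
  ⟨428, [([2, 2], [428])]⟩] = some 96 := by decide +kernel
/-- upper chain for the initial subgroup -/
def uk : List ULev := [⟨[[], [4]], [5, 6, 51], [[(1, []), (0, [51])],
    [(0, [5]), (1, [5, 5, 51, 5, 51, 5, 5, 51, 6, 5, 5, 5, 5])],
    [(0, [6]), (1, [6])]]⟩,
  ⟨[[], [5]], [52, 53], [[(1, []), (0, [52, 52, 52, 52, 52, 52])],
    [(1, [52]), (0, [52, 52, 52, 52, 52, 52, 52])],
    [(1, [53]), (0, [52, 53, 52, 53, 52, 53, 52])]]⟩,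
  ⟨[[], [52], [53], [52, 53], [53, 53], [52, 52, 53], [52, 53, 53], [53, 53, 53], [52, 52, 52, 53], [53, 52, 52, 53], [52, 52, 53, 53], [53, 52, 53, 53], [52, 53, 53, 53], [53, 53, 53, 53], [52, 52, 52, 52, 53], [53, 52, 52, 52, 53], [52, 53, 52, 52, 53], [53, 53, 52, 52, 53], [52, 52, 52, 53, 53], [53, 52, 52, 53, 53], [52, 52, 53, 53, 53], [53, 52, 53, 53, 53], [52, 53, 53, 53, 53], [52, 52, 52, 52, 52, 53], [53, 52, 52, 52, 52, 53], [52, 53, 52, 52, 52, 53], [53, 53, 52, 52, 52, 53], [52, 52, 53, 52, 52, 53], [53, 52, 53, 52, 52, 53], [52, 53, 53, 52, 52, 53], [52, 52, 52, 52, 53, 53], [53, 52, 52, 52, 53, 53], [52, 53, 52, 52, 53, 53], [52, 52, 52, 53, 53, 53], [53, 52, 52, 53, 53, 53], [52, 53, 52, 52, 52, 52, 53], [52, 53, 53, 52, 52, 52, 53], [53, 53, 53, 52, 52, 52, 53], [52,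 52, 52, 53, 52, 52, 53], [52, 53, 52, 53, 52, 52, 53], [53, 53, 52, 53, 52, 52, 53], [52, 52, 53, 53, 52, 52, 53], [53, 52, 53, 53, 52, 52, 53], [52, 52, 52, 52, 52, 53, 53], [52, 52, 53, 52, 52, 53, 53], [53, 52, 53, 52, 52, 53, 53], [52, 52, 53, 52, 53, 52, 52, 53], [53, 52, 53, 52, 53, 52, 52, 53], [52, 52, 52, 53, 53, 52, 52, 53], [52, 52, 52, 53, 52, 52, 53, 53]], [54, 55], [[(1, []), (0, [54]), (3, []), (5, []), (6, []), (8, []), (10, []), (12, []), (14, []), (16, []), (18, []), (7, [55, 55, 55]), (20, []), (22, []), (23, []), (25, []), (27, []), (29, []), (30, []), (32, []), (33, []), (4, [55, 54, 54, 54]), (26, [55, 55, 55, 54]), (15, [54, 54, 54]), (35, []), (2, [54]), (36, []), (38, []), (39, []), (41, []), (43, []), (37, [54, 54, 55, 54]), (44, []), (45, [55, 54, 54, 54]),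 (40, [54, 55, 55, 54]), (11, []), (28, [54]), (9, [54, 54, 55, 54]), (34, [55, 55, 55]), (46, []), (31, [55, 55, 54]), (48, []), (13, [54, 54]), (47, []), (49, []), (24, [54, 55, 54]), (42, [55, 55, 54]), (21, [55, 54, 54, 54]), (17, [55, 55, 55, 54]), (19, [55, 54, 54, 54])],
    [(2, []), (0, [55]), (4, []), (5, [54, 54]), (7, []), (9, []), (11, []), (13, []), (15, []), (17, []), (19, []), (6, [55, 55, 55]), (21, []), (22, [55, 55]), (24, []), (26, []), (28, []), (29, [54, 54, 55, 54]), (31, []), (32, [55, 55]), (34, []), (3, [55, 54, 54, 54]), (25, [55, 55, 55, 54]), (14, [54, 54, 54]), (35, [54, 54, 55, 54]), (1, [54]), (37, []), (38, [55, 55, 55, 54]), (40, []), (42, []), (43, [55, 54, 54, 54]), (36, [54, 54, 55, 54]), (45, []), (44, [55, 54, 54, 54]), (39, [54, 55, 55, 54]), (10,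 []), (27, [54]), (8, [54, 54, 55, 54]), (33, [55, 55, 55]), (47, []), (30, [55, 55, 54]), (48, [55, 54, 54, 54]), (12, [54, 54]), (46, []), (49, [54, 54]), (23, [54, 55, 54]), (41, [55, 55, 54]), (20, [55, 54, 54, 54]), (16, [55, 55, 55, 54]), (18, [55, 54, 54, 54])]]⟩,
  ⟨[[], [54]], [15, 56], [[(1, []), (0, [56])],
    [(1, [15]), (0, [56, 15, 56, 15])]]⟩,
  ⟨[[], [15], [56], [56, 15], [15, 56, 15]], [57], [[(1, []), (0, []), (2, [57]), (4, []), (3, [])],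
    [(2, []), (3, []), (0, []), (1, []), (4, [57])]]⟩,
  ⟨[[], [57]], [], [[(1, []), (0, [])]]⟩]
theorem c_uk : chainU tab 60 base uk [4, 5, 6] = true := by decide +kernel
theorem c_szk : szU uk = 4000 := by decide +kernel
theorem c_bb : chainH tab 60 432 (ph.map (fun p => [p.1])) [] [⟨50, [([0], [50]), ([1], [50]), ([3], [50]), ([0], [103, 76]), ([1], [51, 103]), ([3], [51, 76]), ([0], [190, 294, 55, 156]), ([1], [84, 92, 190, 294]), ([3], [84, 92, 55]), ([0], [389, 71, 254, 379, 183, 383, 57]), ([1], [257, 371, 120, 389, 71, 254]), ([3], [371, 60, 120, 183, 383, 57]), ([0], [75, 378, 337, 224, 324, 136, 132, 227, 193, 109, 99, 82]), ([1], [327, 63, 331, 415, 64, 75, 378, 337, 224, 324, 136]), ([3], [331, 415, 137, 416, 64, 132, 227, 193, 109, 99, 82]), ([0], [73, 138, 223, 350, 251,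 361, 275, 212, 289, 205, 85, 256, 305, 238, 334, 61, 355, 74, 245, 268, 288, 208]), ([1], [90, 303, 392, 277, 181, 139, 125, 70, 73, 223, 350, 361, 275, 212, 289, 205, 85]), ([3], [297, 181, 104, 299, 260, 139, 125, 70, 305, 334, 355, 74, 245, 268, 288, 208]), ([0], [342, 419, 420, 381, 282, 426, 332, 62, 53, 106, 207, 311, 372, 172, 394, 58, 197, 248, 203, 328, 111, 300, 422, 175, 279, 191, 159, 110, 129, 271, 204]), ([1], [184, 295, 276, 404, 318, 366, 105, 89, 323, 219, 278, 342, 419, 381, 282, 62, 53, 207, 311, 372, 172, 394, 58]), ([3], [404, 105, 232, 341, 301, 323, 199, 219, 278, 248, 203, 300, 422, 175, 279, 191, 159, 110, 129, 271, 365]), ([0], [338, 329, 382, 222, 215, 225, 369, 78, 178, 290, 114, 239, 117, 144, 128, 218, 255, 345, 168, 146, 319, 206, 67, 186, 284, 298, 115,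 265, 171, 170, 387, 283, 83, 390, 93]), ([1], [307, 213, 52, 152, 236, 370, 414, 54, 142, 122, 266, 338, 382, 215, 407, 225, 178, 290, 114, 239, 117, 98, 144, 128, 218, 345]), ([3], [134, 236, 370, 54, 237, 357, 142, 122, 348, 146, 319, 67, 284, 298, 118, 115, 265, 188, 80]), ([0], [362, 400, 397, 153, 96, 201, 313, 182, 373, 325, 240, 228, 262, 398, 87, 140, 135, 161, 244, 399, 81, 173, 235]), ([1], [261, 310, 160, 258, 367, 167, 189, 231, 130, 322, 214, 411, 410, 234, 274, 364, 96, 66, 201, 59, 352, 373]), ([3], [315, 189, 393, 242, 229, 375, 336, 102, 418, 308, 140, 202, 399]), ([0], [402, 359, 306, 164, 340, 384, 180, 162, 358, 312, 166, 91, 241]), ([1], [121, 406, 174, 368, 306, 269, 176, 384]), ([3], [97, 312, 155, 241]), ([0], [221, 413, 253, 210, 252]), ([1], [421, 200, 413]),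 ([3], [247]), ([0], [380, 119])]⟩,
  ⟨52, [([1, 1, 1, 1, 1, 1], [52]), ([0, 1, 1, 0, 1, 1, 1, 1, 0, 3, 0], [52]), ([1, 0, 3, 3, 3, 0, 1, 1, 1, 0, 1, 1, 0], [52]), ([1, 1, 1, 1, 1, 1], [217, 395]), ([0, 1, 1, 0, 1, 1, 1, 1, 0, 3, 0], [88, 217, 395]), ([1, 0, 3, 3, 3, 0, 1, 1, 1, 0, 1, 1, 0], [88, 217, 395]), ([1, 1, 1, 1, 1, 1], [187, 96, 333, 274, 160, 139]), ([0, 1, 1, 0, 1, 1, 1, 1, 0, 3, 0], [416, 187, 96, 160, 139]), ([1, 0, 3, 3, 3, 0, 1, 1, 1, 0, 1, 1, 0], [320, 96, 274, 160, 139]), ([1, 1, 1, 1, 1, 1], [329, 53, 375, 128, 161, 393]), ([0, 1, 1, 0, 1, 1, 1, 1, 0, 3, 0], [329, 53, 128, 161]), ([1, 0, 3, 3, 3, 0, 1, 1, 1, 0, 1, 1, 0], [161, 393])]⟩,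
  ⟨428, [([0, 0], [428])]⟩] = some 30240 := by decide +kernel
theorem c_ptg0 : growH tab 60 ((List.range 4).map (fun s => [s])) [] [([2], [0]), ([3], [0]), ([0], [2, 1]), ([2], [2]), ([3], [1]), ([0], [6, 4]), ([2], [5, 6]), ([0], [9]), ([2], [10, 8]), ([3], [8]), ([0], [14, 11]), ([2], [13, 14]), ([3], [13]), ([0], [18, 16, 17]), ([2], [19, 15]), ([3], [19, 15]), ([0], [26, 21, 25, 20]), ([2], [24, 23]), ([3], [24, 23]), ([0], [30, 31]), ([2], [28, 32]), ([0], [36, 38]), ([2], [40]), ([3], [39]), ([0], [42, 41]), ([2], [42]), ([3], [41]), ([2], [45]), ([0], [47]), ([2], [48])] (2 ^ 0) 1 = some (2 ^ 50 - 1, 50) := by decide +kernel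
theorem c_chain : chainH tab 60 432 ((List.range 4).map (fun s => [s])) [] [⟨1, [([0], [1]), ([2], [1]), ([2], [3, 0]), ([2], [5, 2]), ([0], [6]), ([2], [6]), ([0], [9]), ([2], [10, 9]), ([0], [14, 4]), ([2], [13, 14]), ([0], [18, 16]), ([2], [19, 8, 18, 16]), ([0], [26, 17, 11]), ([2], [24, 26]), ([0], [32, 20]), ([2], [23, 15, 32]), ([0], [30, 21, 38]), ([2], [30, 21, 38]), ([0], [35]), ([2], [28, 40]), ([0], [36, 42]), ([2], [42]), ([2], [45, 46]), ([0], [47]), ([2], [47, 44]), ([2], [48])]⟩,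
  ⟨60, [([3, 0, 2], [60]), ([3, 3, 0, 2, 0], [60]), ([0, 2, 2, 2, 0], [60]), ([0, 2, 0, 3, 0], [60]), ([3, 0, 2], [99, 66, 52]), ([3, 3, 0, 2, 0], [99, 66, 52]), ([0, 2, 2, 2, 0], [63, 99, 52]), ([0, 2, 0, 3, 0], [63, 99, 66]), ([3, 0, 2], [369, 72, 87, 176, 109, 62, 76, 368, 119]), ([3, 3, 0, 2, 0], [369, 72, 87, 176, 109, 76, 368, 119]), ([0, 2, 2, 2, 0], [103, 54, 72, 87, 76, 368, 119]), ([0, 2, 0, 3, 0], [124, 103, 54, 369, 72, 87, 176, 109, 62]), ([3, 0, 2], [241, 64, 230, 236, 198, 273, 375, 208, 134, 107, 121, 317, 80, 258, 154, 381, 237, 71, 426, 102, 325, 243, 168, 105]), ([3, 3, 0, 2, 0], [236, 198, 273, 375, 208, 134, 121, 80, 154, 381, 237, 71, 426, 102, 325, 243, 168, 105]), ([0, 2, 2, 2, 0], [406, 150, 289, 207, 273, 375, 208, 381, 237, 71, 426, 325, 243, 168]), ([0, 2,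 0, 3, 0], [406, 296, 65, 78, 150, 241, 198, 273, 375, 208, 107, 121, 317, 80]), ([3, 0, 2], [418, 391, 395, 262, 415, 305, 83, 295, 424, 160, 409, 331, 374, 242, 300, 261, 280, 153, 279, 246, 290, 308, 311, 425, 319, 189, 312, 417, 393, 337, 101, 341, 141, 184]), ([3, 3, 0, 2, 0], [395, 415, 305, 83, 84, 197, 295, 160, 409, 374, 242, 300, 261, 280, 279, 246, 311, 319, 189, 312, 417, 57, 161, 348, 393, 337, 101, 141, 184, 378, 288]), ([0, 2, 2, 2, 0], [59, 310, 229, 356, 81, 418, 262, 84, 128, 409, 331, 374, 242, 312, 417, 161, 348, 393, 162, 341, 141, 288]), ([0, 2, 0, 3, 0], [59, 171, 138, 392, 170, 229, 360, 55, 158, 95, 165, 418, 415, 305, 83, 128, 197, 68, 160, 409, 331, 374, 242, 300, 261, 246, 290, 311, 189]), ([3, 0, 2], [336, 249, 307, 175, 397, 221, 345, 410, 422, 125, 333, 245,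 239, 315, 297, 323, 156, 263, 400, 94, 387, 306, 163, 164, 386, 362, 223, 215, 264, 140, 187, 313, 145, 394, 256, 357, 298, 212, 188, 139, 265, 390, 327, 110, 227, 240]), ([3, 3, 0, 2, 0], [336, 221, 345, 410, 125, 267, 245, 257, 380, 315, 297, 323, 147, 173, 400, 386, 313, 145, 256, 335, 70, 344, 130, 298, 212, 139, 265, 327, 351, 110, 324]), ([0, 2, 2, 2, 0], [414, 350, 247, 412, 343, 281, 334, 249, 267, 239, 297, 323, 145, 335, 123, 219, 284, 139, 351, 110, 324]), ([0, 2, 0, 3, 0], [398, 283, 129, 186, 247, 343, 410, 267, 333, 147, 173, 263, 94, 362]), ([3, 0, 2], [220, 85, 127, 111, 58, 365, 301, 367, 388, 174, 309, 204, 193, 385]), ([3, 3, 0, 2, 0], [314, 231, 420, 58, 388, 260, 419, 274, 79, 401, 354, 96]), ([0, 2, 2, 2, 0], [77, 113]), ([0, 2, 0, 3, 0], [382]), ([3, 0, 2], [137])]⟩,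
  ⟨200, [([0, 2, 0, 2, 0, 2, 2, 0, 2, 0, 3, 0], [200]), ([3, 0, 2, 2, 0, 3, 0, 3, 0, 2, 2, 0, 2], [200]), ([3, 0, 3, 0, 3, 0, 2, 0, 2, 0, 2, 0, 3, 3, 0, 3, 0], [200]), ([0, 2, 0, 2, 0, 2, 2, 0, 2, 0, 3, 0], [79, 133, 266]), ([3, 0, 2, 2, 0, 3, 0, 3, 0, 2, 2, 0, 2], [79, 133, 266]), ([3, 0, 3, 0, 3, 0, 2, 0, 2, 0, 2, 0, 3, 3, 0, 3, 0], [79, 133, 266]), ([0, 2, 0, 2, 0, 2, 2, 0, 2, 0, 3, 0], [338, 314, 371, 247, 204, 152]), ([3, 0, 2, 2, 0, 3, 0, 3, 0, 2, 2, 0, 2], [314, 201, 247, 204, 350, 291]), ([3, 0, 3, 0, 3, 0, 2, 0, 2, 0, 2, 0, 3, 3, 0, 3, 0], [338, 247, 204, 350, 291]), ([0, 2, 0, 2, 0, 2, 2, 0, 2, 0, 3, 0], [356, 379, 103, 343, 116]), ([3, 0, 2, 2, 0, 3, 0, 3, 0, 2, 2, 0, 2], [89, 343, 220, 196]), ([3, 0, 3, 0, 3, 0, 2, 0, 2, 0, 2, 0, 3, 3, 0, 3, 0], [320])]⟩,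
  ⟨428, [([0, 0], [428])]⟩] = some 1512000 := by decide +kernel

end Cfsg.Agent.Lib.HNLU
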