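import Cfsg.Agent.Lib.HNMD

set_option autoImplicit false
set_option linter.all false
set_option maxRecDepth 100000

namespace Cfsg.Agent.Lib.HNM
open Cfsg.Agent.Lib.Dce Cfsg.Agent.Lib.HNT

/-- relator -/
def rel0 : List Tok := [.t, .h [4], .t, .h [4], .t, .h [4]]
def om0 : ℕ := 0x4040000000000000000000000000500000000000000000000000000000012000000000000000000020000000000000000000c1800000000000800001000000001000000040000001000010000000000001801000000000000048000260020000000000200000000c01200000000008000000000008002400020010c0000000000000202200040011110188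
theorem c_b0 : relB tab 83 1408 HNU.base HNU.ph HNU.phI 126000 rel0 3 om0 [([0], [3]), ([1], [3]), ([2], [3]), ([3], [3]), ([0], [8, 28]), ([1], [28]), ([2], [7]), ([3], [24]), ([0], [20, 69, 61]), ([1], [20, 69]), ([2], [61]), ([3], [16]), ([0], [145, 227, 132, 179]), ([1], [42, 145, 227, 126]), ([2], [227, 132, 179]), ([3], [42, 145, 126]), ([0], [398, 872, 395, 996]), ([1], [283, 374]), ([2], [398, 872, 996]), ([3], [463]), ([0], [516]), ([1], [655]), ([2], [596]), ([3], [789]), ([0], [269, 361]), ([1], [269]), ([2], [317]), ([0], [536])]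
  [([2, 6, 2], [[2, 6, 2], [2, 6, 2], [2, 6, 2]]), ([7, 2, 7, 2], [[7, 2, 7, 2], [7, 2, 7, 2], [7, 2, 7, 2]])]
  [⟨44, [([0], [44]), ([1], [44]), ([0], [294, 478]), ([1], [294]), ([0], [100, 383, 1333]), ([1], [100, 383]), ([0], [1064, 734, 1244, 682, 827]), ([1], [1064, 734, 1244]), ([0], [1049, 788, 603, 751, 113, 1390, 138, 1404]), ([1], [1049, 788, 603, 751, 113]), ([0], [258, 1201, 815, 672, 906, 95, 1227, 1287, 384, 1324, 1241, 1073]), ([1], [1165, 258, 1201, 672, 906, 95, 1227]), ([0], [1058, 1327, 310, 335, 921, 1067, 1024, 1072, 356, 574, 1208, 455, 808]), ([1], [668, 1058, 1209, 477, 1327, 1186, 1319, 733, 335, 921, 1067]), ([0], [1240, 621, 1175, 685, 175, 303, 256, 547, 667,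 572, 1399, 715, 117, 568, 169, 895, 137, 249, 651, 783]), ([1], [526, 1175, 685, 527, 1070, 175, 547, 667]), ([0], [913, 333, 1223, 750, 382, 1300, 324, 695, 304, 1079, 446, 391, 693, 250, 686, 1277, 841, 534, 792, 253, 533, 1231, 1184, 358, 255]), ([1], [333, 1300, 324, 813, 304, 446, 693, 686, 1277]), ([0], [275, 920, 818, 1265, 554, 121, 1299, 1358, 1179, 1254, 548, 1313, 456, 328, 1334, 1233, 1405, 1116, 152, 1260, 323, 268, 213, 1092, 680, 848, 552, 1046]), ([1], [1361, 275, 920, 554, 1179, 1254, 1313, 1292, 676, 1116]), ([0], [1033, 321, 1071, 1112, 939, 543, 108, 1245, 675, 1032, 1293, 497, 1105, 1357, 544, 1178, 1326, 795, 577, 1181, 1068, 1006, 731, 748]), ([1], [555, 1330, 1207,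 1033, 362, 291, 543, 108, 675, 817, 497, 1105]), ([0], [237, 1120, 607, 1311, 1101, 1075, 363, 1109, 336, 109, 467, 730, 683, 564, 938, 1388, 196, 424, 1346]), ([1], [363, 336]), ([0], [1200, 381, 1074, 494, 501, 619, 425, 1314, 1337, 1312, 1407, 1182]), ([1], [381, 576, 325, 425]), ([0], [761, 290, 390, 1406])]⟩,
  ⟨8, [([1, 0, 0, 1, 0, 0, 0, 0, 1, 0, 0], [8]), ([0, 1, 0, 0, 0, 0, 1, 0, 1, 0, 0, 1], [8]), ([1, 0, 0, 1, 0, 0, 0, 0, 1, 0, 0], [179]), ([0, 1, 0, 0, 0, 0, 1, 0, 1, 0, 0, 1], [1110]), ([1, 0, 0, 1, 0, 0, 0, 0, 1, 0, 0], [655]), ([0, 1, 0, 0, 0, 0, 1, 0, 1, 0, 0, 1], [536]), ([1, 0, 0, 1, 0, 0, 0, 0, 1, 0, 0], [566]), ([0, 1, 0, 0, 0, 0, 1, 0, 1, 0, 0, 1], [282]), ([1, 0, 0,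 1, 0, 0, 0, 0, 1, 0, 0], [464])]⟩] = true := by decide +kernel
def rs0_0 : List RE := [
  ⟨[⟨[], 3, [⟨0, [], []⟩, ⟨4, [], []⟩, ⟨5, [], []⟩], [4]⟩],
   [([0], [3]), ([1], [3]), ([0], [8, 28]), ([1], [28]), ([0], [20, 57, 69]), ([1], [20, 57, 69]), ([0], [42, 145, 227, 132]), ([1], [42, 145, 227, 132]), ([0], [272, 464, 283, 398, 998, 61]), ([1], [283, 398, 377]), ([0], [711, 395, 179]), ([1], [126, 282, 703]), ([0], [655, 704, 374, 872, 1110, 516]), ([1], [655, 374]), ([0], [269, 361]), ([1], [269]), ([0], [165, 566, 536]), ([1], [536])]⟩,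
  ⟨[⟨[], 3, [⟨1, [], []⟩, ⟨6, [], []⟩, ⟨13, [], []⟩], []⟩],
   [([0], [3]), ([1], [3]), ([0], [69, 8]), ([1], [69, 8]), ([0], [126, 704, 145, 20]), ([1], [704, 145, 20]), ([0], [61, 1102, 272, 42]), ([1], [61, 998, 374, 1102, 42]), ([0], [361, 127, 463, 872, 16]), ([1], [361, 463, 872]), ([0], [317, 179, 566, 227, 789]), ([1], [317, 1110, 282, 566, 227, 789]), ([0], [269, 373, 710, 132, 452, 464]), ([1], [269]), ([0], [165])]⟩]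
theorem c_r0_0 : relAll tab 83 1408 HNU.base HNU.ph HNU.phI st rel0 3 om0 es0 cs0 rs0_0 = true := by decide +kernel
def rs0_1 : List RE := [
  ⟨[⟨[], 3, [⟨2, [], []⟩, ⟨8, [], []⟩, ⟨15, [], []⟩], []⟩],
   [([0], [3]), ([1], [3]), ([0], [7, 8]), ([1], [8]), ([0], [127, 20]), ([1], [127, 20]), ([0], [395, 69, 42]), ([1], [28, 395, 69, 42]), ([0], [996, 179, 57, 145]), ([1], [463, 996, 179, 704]), ([0], [272, 227, 374, 1102]), ([1], [282, 710, 227, 1102]), ([0], [373, 516, 398, 872]), ([1], [869, 516, 132, 398, 872]), ([0], [596, 452, 269]), ([1], [269]), ([0], [361]), ([1], [361, 165]), ([0], [162])]⟩,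
  ⟨[⟨[], 3, [⟨3, [], []⟩, ⟨7, [], []⟩, ⟨26, [], []⟩], []⟩],
   [([0], [3]), ([1], [3]), ([0], [7, 28]), ([1], [7, 28]), ([0], [16, 24, 69]), ([1], [69]), ([0], [42, 127, 132]), ([1], [42]), ([0], [61, 282, 398]), ([1], [20, 282, 398]), ([0], [126, 227, 1110, 395]), ([1], [126, 710, 227]), ([0], [272, 996, 703, 872, 374]), ([1], [463, 703, 374]), ([0], [655, 179, 596]), ([1], [145, 655]), ([0], [373, 317, 998, 361]), ([1], [317, 361]), ([0], [452]), ([1], [269]), ([0], [536])]⟩,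
  ⟨[⟨[], 3, [⟨4, [], []⟩, ⟨5, [], []⟩, ⟨0, [4], []⟩], []⟩,
    ⟨[3], 8, [⟨4, [], [3]⟩, ⟨9, [3, 3, 7, 2, 6, 2, 2, 2], [2, 2, 7, 2, 7, 7, 3, 3, 6, 2, 7, 2, 2, 7]⟩, ⟨20, [10], [6, 6, 3, 7, 3, 6, 2, 2, 7, 3, 3, 7, 2]⟩], [2, 7, 3, 3, 6, 6, 3, 3, 6, 3, 7, 2, 2]⟩,
    ⟨[3, 6], 57, [⟨4, [], [3, 6]⟩, ⟨10, [3, 3, 6, 2, 7, 2, 2, 2], [3, 7, 7, 2, 6, 2, 7, 3, 6, 6, 2, 7, 7]⟩, ⟨34, [], [3, 7, 7, 2, 6, 2, 7, 3, 6, 6, 2, 7]⟩], []⟩],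
   [([0], [8]), ([1], [8]), ([0], [998, 373]), ([1], [998]), ([0], [536, 7, 24]), ([1], [536]), ([0], [317, 872, 374]), ([1], [317, 872, 374]), ([0], [132, 42, 361, 145, 283]), ([1], [377]), ([0], [20, 61, 395]), ([1], [69, 20, 61, 179, 395]), ([0], [1102, 282, 996]), ([1], [1102, 516]), ([0], [655, 269, 710, 566]), ([1], [655]), ([0], [272]), ([0], [28]), ([0], [57]), ([0], [632]), ([1], [632]), ([0], [162]), ([0], [165]), ([1], [127])]⟩]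
theorem c_r0_1 : relAll tab 83 1408 HNU.base HNU.ph HNU.phI st rel0 3 om0 es1 cs1 rs0_1 = true := by decide +kernel
def rs0_2 : List RE := [
  ⟨[⟨[], 3, [⟨5, [], []⟩, ⟨0, [4], []⟩, ⟨4, [], []⟩], []⟩],
   [([0], [3]), ([1], [3]), ([0], [7, 57]), ([0], [16, 28]), ([1], [16]), ([0], [42]), ([1], [42, 24, 8]), ([0], [127, 227]), ([1], [20, 127, 69, 227]), ([0], [61, 463, 398, 132, 998, 373]), ([1], [463, 132]), ([0], [126, 374, 710, 282, 703]), ([1], [374, 710]), ([0], [272, 1110, 789]), ([1], [179, 789, 395]), ([0], [996, 596]), ([1], [516]), ([0], [655, 317, 536]), ([1], [536]), ([0], [162, 566]), ([1], [162]), ([0], [361])]⟩,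
  ⟨[⟨[], 3, [⟨6, [], []⟩, ⟨13, [], []⟩, ⟨1, [], []⟩], []⟩,
    ⟨[3], 8, [⟨6, [], [3]⟩, ⟨16, [], []⟩, ⟨34, [], [6, 3, 7, 7, 3, 6, 6, 2, 7, 7, 2, 2, 7]⟩], [2, 2, 7, 2, 2, 6, 3, 3, 6, 2, 2]⟩,
    ⟨[3, 6], 57, [⟨6, [], [3, 6]⟩, ⟨24, [], [3, 6, 2, 7]⟩, ⟨20, [9, 5, 10], [6, 6, 2, 2, 6, 2, 2, 7, 3, 6]⟩], [3, 7, 2, 6, 3, 6, 2, 7, 3, 3, 7, 3, 3]⟩],
   [([0], [8]), ([1], [8]), ([0], [996, 132]), ([1], [996]), ([0], [7, 872]), ([1], [16, 7, 872]), ([0], [69, 869, 272]), ([1], [596, 69, 869, 463]), ([0], [566, 283, 710, 452, 374]), ([1], [373, 1102, 283, 710, 452]), ([0], [516, 536, 377, 361, 269, 1110]), ([1], [317]), ([0], [464, 24, 704]), ([1], [28, 126]), ([1], [227, 655]), ([0], [57]), ([0], [165]),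 ([1], [165]), ([0], [632]), ([1], [711]), ([0], [162])]⟩,
  ⟨[⟨[], 3, [⟨7, [], []⟩, ⟨26, [], []⟩, ⟨3, [], []⟩], []⟩,
    ⟨[3], 8, [⟨7, [], [3]⟩, ⟨28, [], []⟩, ⟨34, [], [2, 7, 7, 7, 2, 7, 3, 6, 3, 3, 6, 2]⟩], [2, 6, 3, 7, 2, 7, 7, 7]⟩,
    ⟨[3, 6], 57, [⟨7, [], [3, 6]⟩, ⟨27, [12, 9, 24], [7, 2, 6, 3, 7, 7, 2, 6, 3, 7, 3, 6, 3]⟩, ⟨20, [5, 18], [7, 2, 7, 7, 3, 3, 7, 7, 2, 7]⟩], [6, 3, 7, 3, 6, 2, 7, 7, 3, 6]⟩],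
   [([0], [8]), ([1], [8]), ([0], [69, 132]), ([1], [69, 132]), ([0], [1110, 872, 704, 398]), ([1], [1110, 704]), ([0], [710, 361, 1102, 516, 272]), ([1], [710, 361, 1102, 516, 20, 272]), ([0], [536, 61, 596, 998, 317, 282, 374, 464]), ([1], [536, 317, 282, 374, 24]), ([0], [452, 395, 145, 269]), ([0], [126]), ([0], [57]), ([1], [57]), ([0], [711]), ([1], [711]), ([0], [162]), ([0], [632])]⟩,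
  ⟨[⟨[], 3, [⟨8, [], []⟩, ⟨15, [], []⟩, ⟨2, [], []⟩], []⟩,
    ⟨[3], 8, [⟨8, [], [3]⟩, ⟨17, [18, 8, 5, 9], [3, 3, 7, 2, 6, 3, 3, 7, 7, 7, 3, 6]⟩, ⟨20, [18], [7, 2, 6, 3, 6, 6, 3, 7, 2, 7, 7, 2, 7]⟩], []⟩,
    ⟨[3, 6], 57, [⟨8, [], [3, 6]⟩, ⟨21, [5], []⟩, ⟨34, [], [7, 2, 2, 2, 6, 3, 7, 2, 7, 3, 6, 2, 2]⟩], [7, 2]⟩],
   [([0], [8]), ([1], [8]), ([0], [132, 566]), ([1], [132, 566]), ([0], [7, 516, 998]), ([1], [536, 516, 998]), ([0], [596, 20, 24, 452, 126]), ([1], [20, 24, 452]), ([0], [283, 1102, 377, 1110, 61, 227, 395]), ([1], [283, 1102, 1110, 179]), ([0], [28, 16, 655, 269, 996, 317]), ([1], [282, 28, 16]), ([0], [872]), ([0], [57]), ([1], [57]), ([0], [165, 703]), ([0], [632]), ([1],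 [162])]⟩]
theorem c_r0_2 : relAll tab 83 1408 HNU.base HNU.ph HNU.phI st rel0 3 om0 es2 cs2 rs0_2 = true := by decide +kernel
def rs0_3 : List RE := [
  ⟨[⟨[], 3, [⟨9, [], []⟩, ⟨17, [], [7, 2, 2, 2, 6, 6, 3, 7, 7, 3, 6, 2]⟩, ⟨13, [], [2, 7, 2, 2, 6, 2, 7, 7, 2, 7, 2, 2]⟩], [7, 7, 2, 7, 7, 7, 2, 2, 7, 3, 6, 2]⟩,
    ⟨[3], 8, [⟨9, [], [3]⟩, ⟨25, [17, 13, 5], [3, 6, 6, 3, 6, 6, 2, 2, 6, 6, 2, 2]⟩, ⟨50, [33], [2, 6, 3, 3, 6, 3, 7, 2, 2, 7, 3, 3, 7]⟩], [2, 7, 7, 2, 7, 3, 6, 6, 3, 7]⟩,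
    ⟨[6], 28, [⟨9, [], [6]⟩, ⟨20, [9], [2, 6, 3, 3, 6, 2, 2, 7, 7, 2, 7]⟩, ⟨4, [7, 7], [3, 6, 6, 3, 6, 2, 7, 2, 2, 2, 7, 2, 6]⟩], [2, 2, 2, 6, 3, 3, 7, 3, 6, 3, 7]⟩,
    ⟨[2], 7, [⟨9, [], [2]⟩, ⟨24, [18], [7, 2, 2, 7, 7, 2, 6, 6, 3, 7, 2, 6, 2]⟩, ⟨15, [], [2, 2, 7, 3, 3, 6, 2, 2, 6, 3, 3]⟩], [2, 2, 7, 3, 6, 2, 2]⟩,
    ⟨[3, 3, 6, 2, 7, 3, 3], 165, [⟨9, [], [3, 3, 6, 2, 7, 3, 3]⟩, ⟨14, [5], [7, 7, 7, 2, 7, 7, 2, 6, 3, 3]⟩, ⟨26, [25], [6, 6, 3, 7, 7, 3, 6, 6, 2, 7, 7]⟩], [3]⟩],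
   [([0], [3]), ([1], [3]), ([0], [998]), ([0], [704]), ([1], [24]), ([0], [8]), ([1], [8]), ([0], [162]), ([1], [162]), ([0], [710, 317]), ([1], [710]), ([0], [374, 1102, 179]), ([1], [374, 179]), ([0], [16, 126, 42]), ([1], [16, 126, 42]), ([0], [127, 566, 516, 869, 596, 69]), ([1], [566, 869, 596]), ([0], [463, 373, 272]), ([1], [373, 272]), ([0], [20, 632]), ([1], [632]), ([0], [28]), ([0], [398]), ([0], [61]), ([1], [61]), ([1], [536])]⟩,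
  ⟨[⟨[], 3, [⟨10, [], []⟩, ⟨33, [], []⟩, ⟨15, [], [6]⟩], []⟩,
    ⟨[3], 8, [⟨10, [], [3]⟩, ⟨36, [], []⟩, ⟨26, [], [2, 2, 7, 2, 2, 6, 3, 3, 6, 3, 3]⟩], [2, 2, 7, 3, 6, 2]⟩,
    ⟨[6], 28, [⟨10, [], [6]⟩, ⟨41, [20, 15, 20, 15], [3, 3, 7, 7, 7, 2, 2, 7, 3, 6, 3, 3]⟩, ⟨50, [33], [7, 2, 2, 6, 6, 3, 6, 2, 7, 2, 2, 7, 3]⟩], [3, 3, 7, 3, 6, 2, 7, 2, 2, 6, 2, 7]⟩,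
    ⟨[7], 24, [⟨10, [], [7]⟩, ⟨34, [], []⟩, ⟨4, [], [6, 3, 7, 7, 2, 6, 6, 2, 7, 7]⟩], [3, 3, 6, 2, 7, 2, 2, 2]⟩,
    ⟨[3, 3, 6, 2, 7, 3, 3], 165, [⟨10, [], [3, 3, 6, 2, 7, 3, 3]⟩, ⟨31, [], [6, 6, 3, 7, 7, 3, 6, 6, 2, 7, 7]⟩, ⟨13, [], [6, 6, 3, 7, 7, 3, 6, 6, 2, 7, 2]⟩], [3]⟩],
   [([0], [3]), ([1], [3]), ([0], [464]), ([1], [464]), ([0], [998]), ([0], [8]), ([1], [8]), ([0], [596]), ([0], [283]), ([0], [361]), ([0], [28]), ([1], [28]), ([0], [162, 373]), ([1], [162]), ([0], [869, 179]), ([1], [179, 126]), ([0], [377, 536, 145]), ([1], [377, 536, 703]), ([0], [711, 227, 42, 516, 20]), ([1], [282, 711, 42, 516]), ([0], [69, 398, 710, 1102, 272, 655, 996]), ([1], [69, 395]), ([0], [463, 61])]⟩,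
  ⟨[⟨[], 3, [⟨11, [], []⟩, ⟨49, [], []⟩, ⟨20, [], [3, 7, 2, 7, 3, 3, 6, 6, 3, 7, 7, 2, 2]⟩], [3, 3, 7, 2, 6, 2, 2, 2]⟩,
    ⟨[2], 7, [⟨11, [], [2]⟩, ⟨53, [], []⟩, ⟨34, [], [7, 2, 6, 3, 7, 2, 2, 6, 3, 6, 2, 7, 2, 2]⟩], [6, 2, 2, 6, 3, 7, 2]⟩],
   [([1], [3]), ([2], [3]), ([0], [8]), ([1], [632]), ([2], [632, 8]), ([0], [536, 374]), ([1], [282, 16, 374]), ([2], [282, 536, 374]), ([0], [145, 463, 596, 283]), ([1], [1110, 704]), ([2], [704, 463, 57, 596]), ([0], [7]), ([1], [7]), ([2], [7]), ([0], [869]), ([1], [996, 42, 869]), ([2], [42, 869]), ([0], [165, 711]), ([1], [227, 711, 272]), ([2], [227, 132, 272]), ([0], [317, 20, 126]), ([1], [127, 162, 24]), ([1], [361])]⟩,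
  ⟨[⟨[], 3, [⟨12, [], []⟩, ⟨14, [], []⟩, ⟨27, [14, 4], []⟩], []⟩,
    ⟨[3], 8, [⟨12, [], [3]⟩, ⟨19, [5], []⟩, ⟨67, [36, 39], [6, 6, 3, 3, 7, 7, 3, 3, 6, 6]⟩], [18, 9, 17, 13, 9]⟩,
    ⟨[3, 6], 57, [⟨12, [], [3, 6]⟩, ⟨23, [8, 9], [2, 6, 3, 3, 7, 2, 2, 7, 2, 2, 6]⟩, ⟨30, [], [2, 6, 2, 7, 7, 3, 3, 7, 3, 3]⟩], []⟩],
   [([0], [8]), ([1], [8]), ([0], [998, 374]), ([1], [998, 374]), ([0], [655, 996, 132, 789]), ([1], [655, 132, 789]), ([0], [317, 872, 179, 869, 61, 1102]), ([1], [317, 872, 179, 1102, 227]), ([0], [28, 7, 20, 704, 710, 398]), ([1], [7, 145, 536]), ([0], [16, 126, 282, 395]), ([1], [16, 126]), ([0], [452]), ([1], [373]), ([0], [57]), ([1], [57]), ([0], [162]), ([1], [703, 162]),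 ([1], [711])]⟩,
  ⟨[⟨[], 3, [⟨13, [], []⟩, ⟨1, [], []⟩, ⟨6, [], []⟩], []⟩,
    ⟨[3], 8, [⟨13, [], [3]⟩, ⟨9, [], []⟩, ⟨17, [], [7, 2, 2, 2, 6, 6, 3, 7, 7, 3, 6, 2]⟩], [5, 10, 5, 17, 13]⟩,
    ⟨[3, 6], 57, [⟨13, [], [3, 6]⟩, ⟨10, [7, 3, 6, 2, 7, 2, 2, 2], [6, 6, 3, 7, 7, 3, 6, 6, 2, 7, 7]⟩, ⟨31, [], [3, 3, 6, 2, 7, 2, 2, 2, 7]⟩], [8, 13, 10, 18, 10]⟩],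
   [([0], [8]), ([1], [8]), ([0], [126, 710]), ([1], [126]), ([0], [463, 655, 42]), ([1], [463, 655, 42]), ([0], [1110, 536, 1102, 998, 282]), ([1], [1110, 1102, 998, 282]), ([0], [61, 704, 227, 374, 395, 28]), ([1], [704, 272, 374, 395, 28, 283]), ([0], [69, 464, 20]), ([1], [596, 872, 869]), ([0], [789, 373]), ([1], [377]), ([0], [57]), ([1], [57]), ([0], [711]), ([0], [127]), ([0], [165]), ([1], [165])]⟩]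
theorem c_r0_3 : relAll tab 83 1408 HNU.base HNU.ph HNU.phI st rel0 3 om0 es3 cs3 rs0_3 = true := by decide +kernel
def rs0_4 : List RE := [
  ⟨[⟨[], 3, [⟨14, [], []⟩, ⟨27, [14, 4], []⟩, ⟨12, [], []⟩], []⟩,
    ⟨[3], 8, [⟨14, [], [3]⟩, ⟨29, [14, 19, 10, 12], [7, 2, 7, 3, 6, 3, 3, 7, 2, 7, 2, 2]⟩, ⟨65, [], [7, 2, 7, 3, 6, 3, 3, 7, 2, 7, 2, 2]⟩], []⟩,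
    ⟨[3, 6], 57, [⟨14, [], [3, 6]⟩, ⟨26, [12, 9, 24], [7, 3, 3, 7, 7, 2, 7, 3, 3, 7, 2, 2, 2]⟩, ⟨9, [2, 6], [3, 6, 6, 3, 7, 7, 7, 2, 7, 3, 6, 6]⟩], [13, 17, 18, 5]⟩],
   [([0], [8]), ([1], [8]), ([0], [377, 996]), ([1], [377, 996]), ([0], [269, 1102, 16, 361]), ([1], [269, 1102, 361]), ([0], [69, 317, 374, 282, 566, 398]), ([1], [69, 317, 374, 282, 566]), ([0], [536, 28, 373, 145, 655, 42]), ([1], [132, 395, 145, 42]), ([0], [596, 126, 1110, 7, 227]), ([1], [283]), ([0], [24]), ([0], [57]), ([1], [57]), ([0], [127, 711]), ([0], [162]), ([1], [703])]⟩,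
  ⟨[⟨[], 3, [⟨15, [], []⟩, ⟨2, [], []⟩, ⟨8, [], []⟩], []⟩,
    ⟨[3], 8, [⟨15, [], [3]⟩, ⟨10, [7, 3], [3, 7]⟩, ⟨33, [15], [2, 2, 7, 3, 6, 3, 7, 3, 6, 2, 2, 2]⟩], [18, 17, 9, 13, 17]⟩,
    ⟨[3, 6], 57, [⟨15, [], [3, 6]⟩, ⟨9, [3, 3, 6, 2, 7, 2, 2, 2], [3, 6, 3, 3, 6, 2, 2, 6, 3, 3, 7, 2, 2]⟩, ⟨24, [18], [6, 3, 7, 2, 2, 7, 2, 7, 7, 2]⟩], [17, 9, 8, 18]⟩],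
   [([0], [8]), ([1], [8]), ([0], [126, 145]), ([1], [126, 145]), ([0], [132, 16]), ([1], [1102, 16, 398]), ([0], [996, 61, 395, 24, 377]), ([1], [996, 61, 395, 24, 377]), ([0], [272, 452, 179, 28, 704, 227, 361, 1110]), ([1], [20, 28, 704, 361]), ([0], [283, 710, 269]), ([1], [69, 566, 516, 463]), ([0], [317]), ([0], [57]), ([0], [127]), ([1], [127]), ([0], [165, 162]), ([1], [711])]⟩,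
  ⟨[⟨[], 3, [⟨16, [], []⟩, ⟨34, [], [6, 3, 7, 7, 3, 6, 6, 2, 7, 7, 2, 2, 7]⟩, ⟨6, [6, 2, 2], [6, 6, 2, 2, 7, 3, 3, 7, 2, 2, 7, 7, 3]⟩], [13, 17, 13, 17, 18, 8]⟩,
    ⟨[3], 8, [⟨16, [], [3]⟩, ⟨45, [22, 20, 15, 16], [2, 6, 6, 3, 7, 2, 6, 3, 3, 6, 2, 2, 6, 2]⟩, ⟨74, [], [6, 6, 3, 3, 6, 2, 7, 3, 6, 6, 2, 2]⟩], [17, 18, 17, 17]⟩,
    ⟨[6], 28, [⟨16, [], [6]⟩, ⟨43, [21, 21, 20, 15], [3, 6, 3, 7, 2, 6, 3, 7, 2, 2]⟩, ⟨65, [], [2, 6, 2, 2, 7, 2, 6, 2, 2, 6, 3, 3, 7]⟩], [9, 17, 5, 9]⟩,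
    ⟨[2], 7, [⟨16, [], [2]⟩, ⟨30, [23], [3, 6, 2, 7, 7, 7, 3, 3, 7, 2, 2, 6]⟩, ⟨24, [5, 18], [7, 3, 3, 6, 2, 2, 6, 2, 7, 3, 3, 7]⟩], [13, 17, 18, 5, 8]⟩,
    ⟨[7], 24, [⟨16, [], [7]⟩, ⟨33, [16, 15], [2, 2, 7, 2, 2, 7, 3, 3, 7, 3, 6, 3]⟩, ⟨17, [5, 8, 9], [7, 2, 6, 2, 7, 7, 3, 3, 7, 3, 3, 6]⟩], []⟩,
    ⟨[3, 6], 57, [⟨16, [], [3, 6]⟩, ⟨41, [26, 22, 15], [7, 2, 7, 3, 3, 6, 6, 3, 6, 2, 7, 7]⟩, ⟨49, [], [2, 2, 2, 7, 2, 6, 2, 2, 7, 2, 2, 2]⟩], [8, 13, 17, 17, 13, 9]⟩,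
    ⟨[3, 3, 6, 2, 7, 3, 3], 165, [⟨16, [], [3, 3, 6, 2, 7, 3, 3]⟩, ⟨35, [15, 16, 15], [7, 7, 7, 2, 2, 7, 3, 3, 7, 3, 6]⟩, ⟨67, [], [2, 7, 7, 3, 6, 6, 2, 2, 7, 2, 2, 6, 2, 2]⟩], [10, 5, 17, 13]⟩],
   [([0], [8]), ([1], [8]), ([0], [126, 452]), ([1], [126, 452]), ([0], [377, 283, 20, 996]), ([1], [377, 283, 20]), ([0], [42, 1102, 317, 872, 516, 655, 395]), ([1], [1102, 317, 655]), ([0], [179, 566, 373]), ([1], [179, 710]), ([0], [282]), ([0], [28]), ([1], [28]), ([0], [398, 269]), ([1], [269]), ([0], [24]), ([1], [24]), ([0], [704]), ([1], [464]), ([0], [57]), ([1], [57]), ([0], [703]), ([1], [703]), ([0], [711])]⟩,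
  ⟨[⟨[], 3, [⟨17, [], []⟩, ⟨20, [18], [3, 3, 6, 2, 7, 7, 2, 6, 6, 3, 7]⟩, ⟨8, [], [7, 2, 7, 7, 7, 2, 2, 7, 3, 6, 2]⟩], [18, 8, 5, 9]⟩,
    ⟨[3], 8, [⟨17, [], [3]⟩, ⟨22, [18, 8, 5, 13], [2, 2, 7, 7, 2, 6, 6, 2, 7, 7, 7, 2, 2, 7]⟩, ⟨67, [], [6, 3, 3, 6, 6, 2, 7, 7, 2, 7, 7, 3, 3, 6]⟩], [9, 5, 9]⟩,
    ⟨[6], 28, [⟨17, [], [6]⟩, ⟨25, [5, 13, 9, 18, 10], [2, 6, 6, 2, 2, 2, 7, 3, 3, 6, 2, 7]⟩, ⟨49, [], [2, 6, 2, 2, 6, 3, 3, 6, 3, 7, 7, 7]⟩], [18, 9, 17, 13, 10]⟩,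
    ⟨[2], 7, [⟨17, [], [2]⟩, ⟨16, [9, 8, 10], [3, 7, 7, 7, 2, 2, 2, 7, 2, 2]⟩, ⟨33, [20, 20], [6, 6, 3, 3, 7, 3, 3, 6, 2, 7, 3, 6, 3]⟩], [5, 8, 18, 9, 17, 10]⟩,
    ⟨[7], 24, [⟨17, [], [7]⟩, ⟨13, [], [3, 7, 2, 7, 7, 3, 3, 7, 7, 2, 7, 7, 2]⟩, ⟨9, [7, 3], [6, 2, 7, 2, 7, 7, 7, 2, 2, 7, 3, 3, 7]⟩], [10, 13, 17, 17]⟩,
    ⟨[3, 6], 57, [⟨17, [], [3, 6]⟩, ⟨19, [18, 17], [6, 3, 7, 3, 6, 3, 3, 7, 2, 2, 6, 2, 7]⟩, ⟨74, [37, 35, 35], [3, 7, 2, 6, 3, 3, 7, 3, 3, 7, 2, 2, 6]⟩], [8, 10, 13]⟩,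
    ⟨[3, 3, 6, 2, 7, 3, 3], 165, [⟨17, [], [3, 3, 6, 2, 7, 3, 3]⟩, ⟨17, [9, 17, 10], [7, 3, 6, 3, 7, 2, 7, 3, 6, 3, 3]⟩, ⟨17, [9, 17, 10], [7, 7, 7, 3, 6, 6, 2, 2, 7, 7, 3]⟩], [10, 13, 9, 9, 8, 9]⟩],
   [([0], [8]), ([0], [16]), ([1], [16]), ([0], [566]), ([0], [361]), ([0], [28]), ([1], [28]), ([0], [61, 373]), ([1], [61, 373]), ([0], [20, 374, 869]), ([1], [789, 20, 374, 869]), ([0], [132, 272, 377, 996, 452, 1102]), ([1], [272, 377, 996, 452, 1102]), ([0], [69, 463, 269]), ([1], [69, 269]), ([1], [7]), ([0], [998]), ([1], [998]), ([0], [704]), ([0], [57]), ([0], [711]), ([1], [711]), ([0], [703]), ([1], [703])]⟩,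
  ⟨[⟨[], 3, [⟨18, [], []⟩, ⟨66, [], [2, 6, 6, 2, 2, 7, 3, 3, 7, 3, 6, 3]⟩, ⟨27, [], [6]⟩], [5]⟩,
    ⟨[3], 8, [⟨18, [], [3]⟩, ⟨79, [37], [2, 6, 2, 2, 6, 3, 7, 2, 7, 3, 6, 6, 3]⟩, ⟨33, [], [2, 7, 3, 3, 6, 6, 3, 3, 6, 6, 2, 7, 2]⟩], [9, 17, 5, 9]⟩,
    ⟨[6], 28, [⟨18, [], [6]⟩, ⟨88, [35, 37], [2, 6, 3, 6, 2, 7, 2, 6, 3, 6, 6, 2, 7]⟩, ⟨49, [], [7, 3, 6, 3, 7, 3, 3, 7, 7, 2, 2, 6]⟩], [17, 17, 10, 13]⟩,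
    ⟨[2], 7, [⟨18, [], [2]⟩, ⟨81, [35, 38], [6, 2, 2, 6, 3, 7, 3]⟩, ⟨67, [], [3, 6, 6, 3, 6, 2, 7, 7, 3, 6, 2, 2, 2]⟩], [5]⟩,
    ⟨[7], 24, [⟨18, [], [7]⟩, ⟨71, [38], [2, 7, 3, 6, 2, 7, 7, 2, 7]⟩, ⟨31, [23, 21, 26], [3, 6, 6, 2, 7, 7, 2, 2, 7, 3, 3, 6, 6, 2]⟩], [17, 17, 10, 8, 10]⟩,
    ⟨[3, 6], 57, [⟨18, [], [3, 6]⟩, ⟨69, [38, 40], [2, 2, 6, 2, 7, 3, 6, 6, 3, 7, 7, 7]⟩, ⟨74, [], [6, 2, 7, 3, 6, 3, 3, 6, 3, 7, 3, 3]⟩], [17, 13, 17, 17, 13]⟩,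
    ⟨[3, 3, 6, 2, 7, 3, 3], 165, [⟨18, [], [3, 3, 6, 2, 7, 3, 3]⟩, ⟨68, [38, 36, 39], [2, 2, 6, 3, 3, 7, 2, 6, 3, 3, 7]⟩, ⟨65, [36], [7, 7, 7, 2, 7, 3, 6, 6, 3, 7]⟩], [5, 10, 18]⟩],
   [([0], [8]), ([1], [8]), ([0], [283]), ([0], [596]), ([1], [596]), ([0], [28]), ([1], [28]), ([0], [516, 132]), ([1], [132]), ([0], [655, 269, 179]), ([1], [655, 269, 179]), ([0], [996, 317, 126, 61, 395, 227]), ([1], [996, 317, 126, 61, 395, 227]), ([0], [452, 536, 1102, 282, 272]), ([0], [377]), ([0], [7]), ([1], [7]), ([0], [998]), ([1], [704]), ([1], [57]), ([0], [703]), ([0], [711]), ([1], [711]), ([0], [632])]⟩]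
theorem c_r0_4 : relAll tab 83 1408 HNU.base HNU.ph HNU.phI st rel0 3 om0 es4 cs4 rs0_4 = true := by decide +kernel
def rs0_5 : List RE := [
  ⟨[⟨[], 3, [⟨19, [], []⟩, ⟨67, [36, 39], [6, 6, 3, 3, 7, 7, 3, 3, 6, 6]⟩, ⟨12, [], [7, 2, 7, 7, 2, 6, 6, 2]⟩], [18, 5, 8, 18, 10]⟩,
    ⟨[3], 8, [⟨19, [], [3]⟩, ⟨85, [37, 40], [7, 3, 6, 3, 7, 2, 7, 3, 6, 3, 3, 7, 2]⟩, ⟨74, [], [6, 3, 6, 2, 2, 7, 7, 2, 7, 3, 6, 6]⟩], [9, 13, 13, 8, 9]⟩,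
    ⟨[6], 28, [⟨19, [], [6]⟩, ⟨74, [37], [3, 6, 3, 7, 2, 7, 7, 3, 3, 7, 7, 2, 6]⟩, ⟨17, [], [7, 7, 2, 7, 3, 6, 2, 2, 2, 6, 2, 7, 2, 2]⟩], [8, 18, 18]⟩,
    ⟨[2], 7, [⟨19, [], [2]⟩, ⟨63, [38], [6, 2, 7, 7, 2, 2, 2, 6, 6, 3, 7, 2]⟩, ⟨30, [], [2, 2, 2, 7, 3, 6, 2, 7, 2, 6, 2, 2, 7, 7]⟩], [13, 5]⟩,
    ⟨[7], 24, [⟨19, [], [7]⟩, ⟨73, [], [7, 2, 6, 3, 7, 2, 7, 7, 7, 2, 7, 3, 6, 2]⟩, ⟨65, [], [3, 7, 7, 3, 6, 6, 2, 7, 3, 6, 6, 3]⟩], [8, 13, 5, 13]⟩,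
    ⟨[3, 6], 57, [⟨19, [], [3, 6]⟩, ⟨83, [39, 40, 39, 35], [2, 7, 2, 7, 3, 6, 6, 3]⟩, ⟨49, [], [6, 3, 6, 6, 3, 7, 2, 7, 7, 2, 7]⟩], [17, 18, 8, 8, 13]⟩,
    ⟨[3, 3, 6, 2, 7, 3, 3], 165, [⟨19, [], [3, 3, 6, 2, 7, 3, 3]⟩, ⟨71, [], [3, 3, 6, 2, 7, 3, 3, 6, 2]⟩, ⟨33, [26, 20, 20], [7, 7, 2, 6, 3, 7, 2, 6, 3, 6, 2, 2]⟩], [5, 8, 10, 13]⟩],
   [([0], [8]), ([1], [8]), ([0], [132, 373]), ([1], [132, 373]), ([0], [317, 655, 1102]), ([1], [272, 317, 655, 1102]), ([0], [566, 452, 42, 126, 996, 869]), ([1], [566, 452, 42, 996, 869]), ([0], [361, 516, 596]), ([1], [596]), ([0], [463]), ([0], [28]), ([0], [269]), ([1], [269]), ([0], [398]), ([0], [536]), ([0], [24]), ([1], [24]), ([0], [704]), ([1],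 [464]), ([0], [57]), ([1], [57]), ([0], [632, 711]), ([0], [127])]⟩,
  ⟨[⟨[], 3, [⟨20, [], []⟩, ⟨7, [2], [2, 7, 2, 2, 7, 2, 6, 3, 3, 6, 3, 3]⟩, ⟨27, [24], [3, 7, 2, 6, 2, 7, 2, 6, 3, 6, 6, 2, 2]⟩], [10, 17, 13, 13, 5]⟩,
    ⟨[3], 8, [⟨20, [], [3]⟩, ⟨11, [2, 6, 6, 2, 2], [6, 2, 7, 3, 6, 2, 7, 2, 6, 3, 3]⟩, ⟨49, [27, 32], [3, 6, 2, 7, 7, 3, 3, 6, 3, 3, 7, 3]⟩], [18, 17, 13, 8]⟩,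
    ⟨[3, 6], 57, [⟨20, [], [3, 6]⟩, ⟨6, [3, 3, 7, 2, 6, 3, 3], [3, 3, 6, 2, 7, 3, 6, 6, 2, 7, 7, 2, 7, 2]⟩, ⟨24, [9, 17], [2, 6, 3, 3, 7, 7, 7, 2, 2, 7, 3]⟩], [17, 13, 10, 5, 18]⟩,
    ⟨[2, 2, 2], 42, [⟨20, [], [2, 2, 2]⟩, ⟨4, [7, 7], [3, 3, 7, 7, 2, 6, 3, 3, 6]⟩, ⟨9, [6, 6], [6, 3, 3, 7, 7, 2, 7, 7, 3, 3, 6]⟩], [13, 17, 10, 18, 9]⟩,
    ⟨[3, 3, 7], 127, [⟨20, [], [3, 3, 7]⟩, ⟨8, [6, 2, 7, 7, 7], [7, 3, 6, 6, 2, 7, 2, 7, 3, 6, 2]⟩, ⟨17, [13, 17, 5, 9], [6, 2, 7, 3, 3, 7, 2, 2, 2, 7]⟩], [10, 18, 10, 13]⟩],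
   [([0], [8]), ([1], [8]), ([0], [596, 516]), ([1], [596, 516]), ([0], [69, 28, 869]), ([1], [69, 28, 869]), ([0], [24, 282, 227, 179, 283]), ([1], [24, 282, 227]), ([0], [16, 1102, 655, 566, 374]), ([1], [16, 1102, 566]), ([0], [20, 872, 464, 61]), ([1], [872, 464]), ([0], [145]), ([0], [42]), ([1], [42]), ([0], [452]), ([1], [452]), ([0], [361]), ([1], [127]), ([0], [632]), ([0], [165]), ([1], [165]), ([0], [703])]⟩,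
  ⟨[⟨[], 3, [⟨21, [], []⟩, ⟨34, [], [7, 2, 2, 2, 6, 3, 7, 2, 7, 3, 6, 2, 2]⟩, ⟨8, [7, 2], [3, 6]⟩], [5]⟩,
    ⟨[3], 8, [⟨21, [], [3]⟩, ⟨40, [26, 22], [6, 2, 2, 2, 7, 3, 6, 3, 3, 7, 7, 2, 2, 7]⟩, ⟨49, [], [7, 7, 2, 2, 2, 7, 3, 3, 7, 2, 2, 6, 6, 2]⟩], [5, 18, 5]⟩,
    ⟨[3, 6], 57, [⟨21, [], [3, 6]⟩, ⟨32, [23], [7, 7, 3, 6, 3, 3, 7, 7, 2, 7, 7, 2, 2, 2]⟩, ⟨30, [], [3, 7, 7, 7, 3, 3, 6, 3, 7, 2, 2, 6, 3, 6]⟩], [5, 9, 18, 8, 8]⟩,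
    ⟨[2, 2, 2], 42, [⟨21, [], [2, 2, 2]⟩, ⟨37, [15, 16], [2, 6, 3, 6, 2, 7, 7, 2, 7, 2, 2]⟩, ⟨31, [], [6, 2, 2, 6, 6, 3, 7, 2, 2, 6, 3]⟩], [10, 8, 8, 9, 17]⟩,
    ⟨[3, 3, 7], 127, [⟨21, [], [3, 3, 7]⟩, ⟨35, [23, 21, 20], [6, 2, 2, 6, 3, 7, 2, 2, 7]⟩, ⟨65, [38, 36], [2, 7, 2, 6, 3, 6, 2, 7, 3, 3, 7, 2, 7, 2]⟩], [18, 8, 5, 9, 13, 8]⟩],
   [([0], [8]), ([1], [8]), ([0], [272, 464]), ([1], [272, 464]), ([0], [28, 789, 373]), ([1], [28, 789]), ([0], [655, 536]), ([1], [69, 24]), ([0], [395, 145, 869]), ([1], [566, 395, 145, 869]), ([0], [282, 20, 872, 996, 998]), ([1], [282, 20, 596, 872]), ([0], [516, 377, 126]), ([1], [1110]), ([0], [42]), ([1], [42]), ([0], [269]), ([1], [317]), ([1], [452]),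 ([0], [127]), ([1], [127]), ([1], [711]), ([0], [632]), ([0], [165])]⟩,
  ⟨[⟨[], 3, [⟨22, [], []⟩, ⟨85, [40, 40, 39], [3, 6, 2, 2, 7, 3, 6, 2, 7, 2, 2, 2]⟩, ⟨67, [39], [2, 7, 2, 6, 2, 7, 2, 7, 7, 7, 2]⟩], [10, 18, 8, 10, 13]⟩,
    ⟨[3], 8, [⟨22, [], [3]⟩, ⟨84, [36, 40, 36, 40], [3, 7, 7, 3, 3, 6, 3, 3, 6, 2, 2, 7, 7, 7]⟩, ⟨49, [], [3, 3, 6, 2, 2, 2, 6, 2, 7, 2]⟩], [13, 5, 9, 18, 8, 10]⟩,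
    ⟨[6], 28, [⟨22, [], [6]⟩, ⟨78, [37, 38], [6, 2, 2, 6, 3, 3, 6, 3, 3, 7, 7, 3]⟩, ⟨33, [], [6, 3, 6, 6, 2, 2, 6, 3, 3, 7, 7, 2, 6]⟩], [9, 17, 9, 17]⟩,
    ⟨[2], 7, [⟨22, [], [2]⟩, ⟨67, [], [3, 7, 2, 2, 7, 2, 2, 6, 2, 7, 2, 7]⟩, ⟨17, [5, 8], [3, 3, 7, 7, 2, 7, 3, 6, 6]⟩], [10, 5, 10, 17, 17]⟩,
    ⟨[7], 24, [⟨22, [], [7]⟩, ⟨79, [35], [2, 2, 2, 7, 2, 6, 3, 6, 2, 7, 2, 6]⟩, ⟨30, [21], [6, 6, 3, 3, 6, 2, 2, 7, 3, 3, 7, 3, 3]⟩], [5, 10, 13, 17, 5]⟩,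
    ⟨[3, 3], 20, [⟨22, [], [3, 3]⟩, ⟨90, [35], [3, 3, 7, 7, 3, 3, 6, 2, 2, 7, 7, 3]⟩, ⟨74, [], [3, 6, 3, 3, 6, 6, 3, 3, 7, 2, 2, 7, 3]⟩], [9, 5, 9, 13]⟩,
    ⟨[3, 6], 57, [⟨22, [], [3, 6]⟩, ⟨88, [38, 40, 38, 35], [7, 2, 7, 3, 6, 3, 3, 7, 7, 3, 3, 6, 2, 2]⟩, ⟨49, [31, 28], [3, 3, 7, 2, 2, 2, 6, 2, 2, 6]⟩], [17, 5, 9, 18, 9]⟩,
    ⟨[6, 6], 69, [⟨22, [], [6, 6]⟩, ⟨89, [39, 35, 39], [3, 6, 3, 3, 7, 2, 7, 3, 6, 3]⟩, ⟨74, [], [6, 2, 2, 7, 2, 6, 3, 3, 6, 2, 2, 7]⟩], [5, 8, 10, 18, 9]⟩,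
    ⟨[7, 7], 61, [⟨22, [], [7, 7]⟩, ⟨74, [39, 36], [6, 3, 7, 2, 2, 6, 2, 2, 6, 6]⟩, ⟨24, [13, 9, 17], [3, 7, 2, 2, 6, 6, 3, 3, 7, 2, 2, 6, 6, 2, 2]⟩], [18, 9, 8, 9, 17]⟩,
    ⟨[2, 2, 7], 179, [⟨22, [], [2, 2, 7]⟩, ⟨80, [39, 37], [2, 2, 6, 2, 7, 3, 6, 3, 7, 3, 6, 2, 2]⟩, ⟨49, [], [2, 7, 3, 6, 6, 2, 7, 3, 6, 6]⟩], [10, 18, 18, 5, 9]⟩,
    ⟨[6, 6, 3, 7, 2, 6], 361, [⟨22, [], [6, 6, 3, 7, 2, 6]⟩, ⟨64, [], [3, 6, 2, 2, 7, 2, 6, 2, 2, 2, 6, 2, 7, 2]⟩, ⟨74, [], [3, 3, 7, 2, 6, 3, 3, 7, 2, 2, 7, 7, 2]⟩], [17, 13, 10, 5, 10]⟩,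
    ⟨[3, 3, 6, 2, 7, 3, 3], 165, [⟨22, [], [3, 3, 6, 2, 7, 3, 3]⟩, ⟨69, [40, 38], [7, 3, 3, 7, 2, 7, 7, 3, 6, 2, 7]⟩, ⟨65, [], [6, 3, 7, 2, 7, 3, 6, 3, 7, 2, 6, 6, 3]⟩], [17, 13, 9, 8, 9]⟩],
   [([0], [3]), ([1], [3]), ([1], [1110]), ([0], [704]), ([0], [8]), ([1], [283]), ([0], [566]), ([1], [16]), ([0], [28]), ([1], [28]), ([0], [398]), ([1], [269]), ([0], [20]), ([1], [20]), ([0], [710]), ([1], [869]), ([0], [872]), ([1], [127]), ([0], [377]), ([1], [132]), ([0], [996]), ([0], [57]), ([1], [57]), ([1], [282]), ([0], [463]), ([0], [69]), ([1], [69]), ([0], [395]), ([1], [703]), ([0], [227]), ([1], [452]), ([0], [272]), ([1], [516]), ([0], [711]), ([0], [179]), ([1], [179]), ([0], [1102]),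 ([1], [632])]⟩]
theorem c_r0_5 : relAll tab 83 1408 HNU.base HNU.ph HNU.phI st rel0 3 om0 es5 cs5 rs0_5 = true := by decide +kernel
def rs0_6 : List RE := [
  ⟨[⟨[], 3, [⟨23, [], []⟩, ⟨42, [23, 16], [2, 2, 2, 6, 6, 2, 2, 7, 7, 2, 2]⟩, ⟨67, [], [7, 2, 2, 7, 3, 6, 2, 7, 7, 3, 3, 7]⟩], [17]⟩,
    ⟨[3], 8, [⟨23, [], [3]⟩, ⟨43, [20, 22], [3, 6, 2, 7, 7, 3, 3, 6, 3, 3, 6, 2, 2, 6]⟩, ⟨74, [36, 35, 35], [7, 2, 7, 7, 2, 7, 3, 6, 6, 3, 7, 7, 7, 2]⟩], [9, 18, 17, 18, 5, 8]⟩,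
    ⟨[6], 28, [⟨23, [], [6]⟩, ⟨33, [23, 20, 20], [3, 7, 7, 2, 7, 3, 6, 2, 7, 7]⟩, ⟨24, [5, 18], [2, 6, 3, 3, 6, 2, 2, 7, 2, 6, 3, 7, 3]⟩], [17, 13, 8, 10]⟩,
    ⟨[2], 7, [⟨23, [], [2]⟩, ⟨32, [23, 21], [7, 3, 6, 6, 3, 7, 7, 2, 2, 6, 3, 3]⟩, ⟨31, [23, 21, 26], [6, 3, 7, 2, 2, 7, 7, 2, 2, 7, 7, 7]⟩], [10, 5, 10, 8, 9]⟩,
    ⟨[3, 3, 6, 2, 7, 3, 3], 165, [⟨23, [], [3, 3, 6, 2, 7, 3, 3]⟩, ⟨30, [], [3, 3, 7, 2, 6, 2, 7, 2, 6, 3, 3]⟩, ⟨12, [], [3, 3, 6, 6, 3, 7, 7, 2, 7, 3, 6, 2, 2]⟩], [8, 9]⟩],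
   [([0], [3]), ([0], [1110]), ([1], [1110]), ([0], [464]), ([1], [464]), ([0], [8]), ([1], [8]), ([0], [452, 126]), ([1], [452, 126]), ([0], [162, 283, 377]), ([1], [373, 162, 283, 377]), ([0], [272, 566, 282, 711, 1102, 42]), ([1], [272, 566, 1102, 42]), ([0], [132, 632, 20, 361, 227, 145]), ([1], [632, 361, 463]), ([0], [16, 516, 57]), ([0], [28]), ([1], [28]), ([0], [789]), ([1], [398]), ([1], [61])]⟩,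
  ⟨[⟨[], 3, [⟨24, [], []⟩, ⟨20, [9, 5, 10], [2, 6, 2, 7, 2, 2, 2, 6, 2, 7]⟩, ⟨6, [3, 3, 7, 2, 6, 3, 3], [2, 7, 2, 6, 2, 2, 7, 3, 6, 2, 7, 7, 2]⟩], [8, 13, 9, 13, 8]⟩,
    ⟨[3], 8, [⟨24, [], [3]⟩, ⟨22, [18, 8, 9], [6, 3, 7, 2, 6, 2, 2, 7, 2, 6, 2, 7]⟩, ⟨74, [39, 36], [6, 3, 7, 2, 2, 7, 2, 2, 6, 3, 6]⟩], [18, 17, 9, 9, 13, 9]⟩,
    ⟨[3, 6], 57, [⟨24, [], [3, 6]⟩, ⟨15, [], [3, 7, 2, 6, 3, 3, 7, 3, 3, 7, 2, 2, 6, 6]⟩, ⟨9, [2, 2, 7, 3, 6, 2, 2], [2, 6, 6, 3, 6, 6, 3, 7, 2, 6, 2, 2, 6]⟩], [18]⟩,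
    ⟨[2, 2, 2], 42, [⟨24, [], [2, 2, 2]⟩, ⟨16, [8, 5], [2, 6, 6, 2, 7, 7, 2, 6, 3, 3, 7]⟩, ⟨30, [23], [6, 6, 3, 6, 6, 2, 7, 2, 2, 6, 2, 2, 2]⟩], [9, 17, 5, 18, 17]⟩,
    ⟨[3, 3, 7], 127, [⟨24, [], [3, 3, 7]⟩, ⟨23, [9, 17], [6, 6, 2, 2, 7, 2, 7, 7, 2, 6]⟩, ⟨33, [26], [2, 2, 7, 7, 2, 7, 7, 2, 6, 3]⟩], [9, 18, 5, 8]⟩],
   [([0], [8]), ([1], [8]), ([0], [16, 1102]), ([1], [16, 1102]), ([0], [145, 69, 789, 869]), ([1], [69, 789, 869]), ([0], [516, 283, 710]), ([1], [704, 516, 998, 61, 24, 710]), ([0], [1110, 20, 463, 536, 872, 373]), ([1], [464, 1110, 463, 7, 872]), ([0], [28, 996]), ([0], [42]), ([1], [42]), ([0], [269]), ([1], [269]), ([0], [132]), ([0], [127]), ([1], [711]), ([0], [632]),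 ([0], [703]), ([0], [165])]⟩,
  ⟨[⟨[], 3, [⟨25, [], []⟩, ⟨49, [31, 27], [2, 6, 3, 7, 3, 6, 2, 7, 7, 3, 6, 6, 3, 3]⟩, ⟨17, [8, 10, 17], [6, 2, 7, 3, 6, 3, 7, 3, 6, 3, 3]⟩], [5, 17, 17, 9, 8]⟩,
    ⟨[3], 8, [⟨25, [], [3]⟩, ⟨57, [29, 34, 27], [3, 7, 3, 3, 6, 6, 3, 3, 7, 2, 2, 6]⟩, ⟨65, [], [3, 3, 6, 6, 3, 3, 7, 7, 3, 3, 6, 2]⟩], [9, 17, 9, 17]⟩,
    ⟨[6], 28, [⟨25, [], [6]⟩, ⟨54, [27], [6, 3, 7, 2, 2, 2, 7, 2, 6, 3, 6, 2]⟩, ⟨74, [], [7, 3, 6, 6, 3, 7, 3, 3, 7]⟩], [5, 17, 13, 9]⟩,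
    ⟨[2], 7, [⟨25, [], [2]⟩, ⟨56, [34, 34], [2, 7, 7, 7, 2, 2, 7, 2, 6, 3, 3, 7, 2, 7]⟩, ⟨31, [], [3, 7, 7, 2, 2, 6, 6, 2, 2, 7, 3, 6]⟩], [10, 5, 17, 9, 8, 9]⟩,
    ⟨[7], 24, [⟨25, [], [7]⟩, ⟨53, [30, 28], [7, 2, 6, 3, 7, 2, 7, 7, 7, 2, 7, 3, 6, 2]⟩, ⟨33, [26, 21, 20], [3, 6, 2, 7, 7, 3, 3, 7, 7, 2, 2, 6, 3]⟩], [10, 8, 8, 13, 9]⟩,
    ⟨[3, 3], 20, [⟨25, [], [3, 3]⟩, ⟨61, [32, 29, 29], [7, 7, 3, 6, 2, 7, 2, 2, 7, 3, 6]⟩, ⟨49, [29, 27, 27], [2, 2, 7, 2, 6, 3, 6, 2, 2, 6]⟩], [13, 5, 13, 8, 13]⟩,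
    ⟨[3, 6], 57, [⟨25, [], [3, 6]⟩, ⟨57, [32, 32, 34], [3, 3, 6, 3, 7, 2, 7, 3, 6, 6, 2]⟩, ⟨74, [36, 35], [7, 2, 2, 6, 6, 3, 3, 6, 6, 2, 7, 7]⟩], [13, 5, 13, 9]⟩,
    ⟨[6, 6], 69, [⟨25, [], [6, 6]⟩, ⟨61, [28], [2, 6, 6, 2, 7, 7, 7, 2, 2, 6]⟩, ⟨49, [29, 27], [7, 7, 7, 2, 7, 7, 3, 3, 6, 2, 7]⟩], [18, 8, 13, 5, 13, 9]⟩,
    ⟨[2, 2], 16, [⟨25, [], [2, 2]⟩, ⟨50, [33], [7, 7, 7, 3, 6, 2, 7, 2, 6, 3]⟩, ⟨9, [2, 7, 7, 2, 6], [2, 2, 6, 3, 7, 2, 7, 7, 2, 7, 3]⟩], [8, 18, 17, 5, 13]⟩,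
    ⟨[7, 7, 2], 126, [⟨25, [], [7, 7, 2]⟩, ⟨60, [33, 27, 27], [3, 3, 7, 3, 3, 7, 2, 7, 7, 2, 2, 6]⟩, ⟨74, [], [7, 3, 3, 6, 6, 2, 2, 7, 2, 2, 6, 2]⟩], [9, 5, 18, 8, 8, 10]⟩,
    ⟨[3, 3, 6, 2, 7, 3], 269, [⟨25, [], [3, 3, 6, 2, 7, 3]⟩, ⟨58, [27, 28], [3, 7, 3, 6, 2, 7, 2, 6, 3, 6, 6, 3]⟩, ⟨49, [], [3, 3, 7, 2, 6, 2, 7, 2, 6, 3]⟩], [5, 8, 9, 13, 10]⟩,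
    ⟨[3, 3, 6, 2, 7, 3, 3], 165, [⟨25, [], [3, 3, 6, 2, 7, 3, 3]⟩, ⟨55, [31], [7, 2, 2, 6, 2, 2, 6, 3, 7, 3, 3, 7]⟩, ⟨67, [], [6, 2, 2, 6, 3, 6, 2, 7, 7, 7, 2]⟩], [17, 18, 9]⟩],
   [([0], [3]), ([1], [3]), ([0], [464, 998]), ([0], [8]), ([1], [8]), ([0], [566]), ([1], [566]), ([0], [28]), ([1], [28]), ([0], [61]), ([0], [789]), ([0], [20]), ([1], [20]), ([0], [317, 655]), ([1], [317]), ([0], [179, 132]), ([1], [179, 132]), ([0], [57]), ([1], [57]), ([0], [869, 227]), ([0], [69]), ([1], [69]), ([0], [127, 42]), ([1], [127]), ([0], [452, 162]), ([1], [452, 162]), ([0], [126]), ([1], [126]), ([0], [516]), ([1], [516])]⟩,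
  ⟨[⟨[], 3, [⟨26, [], []⟩, ⟨3, [], []⟩, ⟨7, [], []⟩], []⟩,
    ⟨[3], 8, [⟨26, [], [3]⟩, ⟨10, [6, 3, 7, 2, 2, 7, 2, 2], [2, 7, 3, 3, 7, 2, 2, 7, 3, 3, 7, 3, 3, 7]⟩, ⟨36, [16, 16], [2, 7, 3, 3, 7, 3, 6, 3, 3, 7]⟩], [10, 12, 9, 9, 19, 10, 12]⟩,
    ⟨[3, 6], 57, [⟨26, [], [3, 6]⟩, ⟨9, [7, 3, 6, 2, 7, 2, 2, 2], [6, 6, 3, 7, 7, 3, 6, 6, 2, 7, 2]⟩, ⟨14, [5], [7, 2, 7, 7, 2, 7, 7, 7, 2, 2, 6, 2, 2]⟩], [19, 10, 19, 24, 24, 24]⟩],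
   [([0], [8]), ([1], [8]), ([0], [373, 42]), ([1], [373, 42]), ([0], [869, 395, 132, 227]), ([1], [869, 395, 132, 227]), ([0], [996, 516, 24, 317, 272, 282, 7]), ([1], [996, 516, 317, 272, 282, 7]), ([0], [374, 789, 710, 69, 596, 566, 283]), ([1], [377, 1110, 596, 464]), ([0], [463, 704, 16]), ([0], [57]), ([1], [57]), ([0], [703, 711]), ([1], [703]), ([1], [127])]⟩]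
theorem c_r0_6 : relAll tab 83 1408 HNU.base HNU.ph HNU.phI st rel0 3 om0 es6 cs6 rs0_6 = true := by decide +kernel
def rs0_7 : List RE := [
  ⟨[⟨[], 3, [⟨27, [], []⟩, ⟨12, [], []⟩, ⟨14, [], []⟩], [14, 4]⟩,
    ⟨[3], 8, [⟨27, [], [3]⟩, ⟨18, [18, 8, 5, 9], [3, 3, 7, 2, 6, 3, 3, 7, 7, 7, 3, 6]⟩, ⟨66, [], [7, 3, 6, 6, 3, 6, 6, 2, 7, 2, 6, 3, 6, 2]⟩], [10, 19, 24, 9, 25, 25, 14]⟩,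
    ⟨[3, 6], 57, [⟨27, [], [3, 6]⟩, ⟨20, [5], []⟩, ⟨7, [2], [2, 7, 2, 2, 7, 2, 6, 3, 3, 6, 3, 3]⟩], [9, 12, 12, 25, 12, 9]⟩],
   [([0], [8]), ([1], [8]), ([0], [373, 1110]), ([1], [373, 1110]), ([0], [1102, 24, 872]), ([1], [24, 7, 872]), ([0], [869, 998, 179, 996, 516]), ([1], [998, 996]), ([0], [704, 16, 283, 20, 789]), ([1], [704, 16, 20, 789]), ([0], [317, 377, 452, 61, 374]), ([1], [464, 317, 452, 61, 374, 655]), ([0], [269, 395]), ([0], [57]), ([0], [711]), ([1], [711]), ([0], [127]), ([1], [703]), ([1], [162])]⟩,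
  ⟨[⟨[], 3, [⟨28, [], []⟩, ⟨34, [], [2, 7, 7, 7, 2, 7, 3, 6, 3, 3, 6, 2]⟩, ⟨7, [7, 3, 6, 2, 7, 7], [7, 7, 2]⟩], [19, 25, 25, 10, 25, 10, 25]⟩,
    ⟨[3], 8, [⟨28, [], [3]⟩, ⟨45, [23, 20, 15, 16], [7, 3, 6, 6, 3, 7, 7, 3, 3, 6, 3, 3]⟩, ⟨66, [38], [7, 2, 6, 3, 3, 7, 2, 7, 2, 6, 2, 2, 7]⟩], [24, 19, 25, 9, 24, 24, 4]⟩,
    ⟨[6], 28, [⟨28, [], [6]⟩, ⟨39, [26, 22, 15], [6, 6, 3, 3, 6, 6, 2, 2, 7, 2, 6, 2, 2]⟩, ⟨36, [], [7, 2, 2, 7, 3, 3, 6, 2, 2, 7, 7, 2]⟩], [25, 19, 24, 24, 4, 10, 19, 9, 9]⟩,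
    ⟨[7], 24, [⟨28, [], [7]⟩, ⟨37, [16], [7, 2, 2, 6, 3, 7, 2, 2, 2, 7]⟩, ⟨36, [], [3, 3, 7, 3, 3, 7, 2, 2, 6, 3]⟩], [9, 19, 25, 4, 19, 19]⟩,
    ⟨[3, 3, 6, 2, 7, 3, 3], 165, [⟨28, [], [3, 3, 6, 2, 7, 3, 3]⟩, ⟨42, [20], [3, 7, 3, 3, 7, 7, 7, 2, 2, 7]⟩, ⟨66, [], [7, 2, 7, 3, 3, 7, 2, 2, 7, 3, 6]⟩], [12, 25, 9, 24, 4, 19]⟩],
   [([1], [3]), ([0], [8]), ([1], [8]), ([0], [16, 179]), ([1], [16, 179]), ([0], [373, 710, 227]), ([1], [283, 373, 710]), ([0], [377, 463, 996, 361, 374]), ([1], [20, 463, 361]), ([0], [317, 596, 272, 872]), ([1], [395, 42]), ([0], [452, 516]), ([1], [566]), ([0], [28]), ([1], [28]), ([0], [61, 632]), ([1], [61, 632]), ([0], [703, 711, 398]), ([1], [789, 703]), ([1],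 [24]), ([0], [1110]), ([0], [998]), ([1], [704])]⟩,
  ⟨[⟨[], 3, [⟨29, [], []⟩, ⟨65, [], []⟩, ⟨14, [], [3, 3, 6, 3, 3, 7, 7, 2, 7, 7, 2, 7, 2]⟩], [14, 19, 10, 12]⟩,
    ⟨[3], 8, [⟨29, [], [3]⟩, ⟨69, [], []⟩, ⟨66, [38], [7, 2, 2, 7, 2, 6, 3, 7, 3, 3, 7, 7, 2, 6]⟩], [14, 9, 19, 19, 19, 9, 9]⟩,
    ⟨[6], 28, [⟨29, [], [6]⟩, ⟨78, [40], [3, 3, 7, 7, 7, 2, 2, 7, 3, 6, 3, 3]⟩, ⟨36, [20], [2, 2, 7, 2, 6, 3, 7, 7, 2, 2, 7]⟩], [25, 12, 10, 19, 25, 14, 4, 10]⟩,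
    ⟨[2], 7, [⟨29, [], [2]⟩, ⟨70, [], []⟩, ⟨66, [], [2, 2, 7, 3, 6, 3, 7, 3, 6, 3, 3]⟩], [4, 19, 9, 12]⟩,
    ⟨[3, 3, 6, 2, 7, 3, 3], 165, [⟨29, [], [3, 3, 6, 2, 7, 3, 3]⟩, ⟨63, [38], [2, 6, 3, 6, 6, 3, 7, 2, 7, 3, 3, 6, 2]⟩, ⟨36, [21, 16], [6, 3, 3, 6, 6, 3]⟩], [19, 10, 25, 4, 10, 19, 9, 9]⟩],
   [([0], [3]), ([0], [8]), ([1], [8]), ([0], [57, 127]), ([0], [283]), ([1], [596]), ([0], [711]), ([1], [632]), ([0], [566, 16]), ([0], [162]), ([0], [28]), ([1], [28]), ([0], [145, 179]), ([1], [145]), ([0], [516, 373]), ([1], [126, 516]), ([0], [282, 20, 61]), ([1], [710, 282]), ([0], [536, 655, 272, 869]), ([1], [227, 536, 655]), ([0], [395, 463, 789, 996]), ([1], [452, 463]), ([0], [377, 317]),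 ([0], [7]), ([1], [7]), ([0], [464, 1110])]⟩,
  ⟨[⟨[], 3, [⟨30, [], []⟩, ⟨24, [5, 10], [3, 3, 7, 7, 2, 7, 7, 2, 6, 6, 3, 7, 7, 2]⟩, ⟨16, [17, 5, 17], [3, 3, 7, 7, 3, 3, 6, 2, 2, 6]⟩], [22, 26, 22, 20]⟩,
    ⟨[3], 8, [⟨30, [], [3]⟩, ⟨19, [8, 5, 9], [3, 6, 2, 2, 2, 7, 2, 2, 7, 3, 6, 3, 7]⟩, ⟨63, [38], [6, 6, 3, 3, 7, 7, 3, 3, 6, 3, 3, 7, 7]⟩], [15, 20, 15, 20, 15]⟩,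
    ⟨[6], 28, [⟨30, [], [6]⟩, ⟨22, [17, 17, 10, 13], [2, 7, 7, 2, 7, 3, 3, 7, 2, 2, 7, 3]⟩, ⟨79, [35], [3, 7, 2, 2, 7, 2, 2, 7, 7, 7, 2, 7, 2, 2]⟩], [16, 15, 16, 22]⟩,
    ⟨[7], 24, [⟨30, [], [7]⟩, ⟨12, [], [3, 3, 6, 6, 2, 2, 7, 7, 2, 2, 7, 2]⟩, ⟨23, [8, 9], [7, 3, 6, 3, 7, 7, 3, 3, 6, 3, 3]⟩], []⟩,
    ⟨[3, 3, 6, 2, 7, 3, 3], 165, [⟨30, [], [3, 3, 6, 2, 7, 3, 3]⟩, ⟨21, [5], [3, 3, 6, 2, 2, 2, 6, 6, 3, 7, 3]⟩, ⟨32, [23], [3, 7, 7, 7, 2, 2, 7, 2, 7, 7, 3, 3, 7, 7]⟩], [20, 23, 15, 26, 20]⟩],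
   [([0], [3]), ([1], [3]), ([0], [1110]), ([1], [704, 1110]), ([1], [8]), ([0], [566]), ([1], [566]), ([1], [283]), ([0], [361]), ([0], [28]), ([1], [28]), ([0], [703]), ([1], [269, 703]), ([0], [162, 282]), ([1], [1102, 162, 282]), ([0], [61, 179, 516]), ([1], [61, 179]), ([0], [632]), ([1], [789, 872, 632, 377]), ([1], [132, 711, 655]), ([0], [42, 272]), ([1], [398, 42, 272]), ([0], [57, 374, 452]), ([1], [710]), ([1], [373]), ([0], [126]), ([1], [126])]⟩,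
  ⟨[⟨[], 3, [⟨31, [], []⟩, ⟨18, [18, 18, 8], [7, 2, 2, 6, 3, 6, 2, 7, 7, 2, 7, 2]⟩, ⟨71, [38], [3, 6, 2, 2, 2, 7, 2, 6, 2]⟩], [23, 21, 20, 23, 16, 16]⟩,
    ⟨[3], 8, [⟨31, [], [3]⟩, ⟨25, [5, 17, 18, 9], [3, 3, 6, 6, 2, 7, 7, 2, 2, 6, 3, 6]⟩, ⟨56, [34, 34], [7, 3, 3, 7, 7, 2, 7, 3, 3, 7, 2, 2, 2]⟩], [23, 15, 26, 20, 20]⟩,
    ⟨[6], 28, [⟨31, [], [6]⟩, ⟨21, [9], [2, 7, 3, 3, 6, 6, 2, 2, 6, 6, 3, 7]⟩, ⟨37, [20], [6, 6, 2, 2, 2, 6, 3, 7, 2, 2]⟩], [16, 26, 20, 23, 15]⟩,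
    ⟨[2], 7, [⟨31, [], [2]⟩, ⟨23, [5], [6, 2, 7, 3, 6, 2, 2, 7, 3, 6, 2, 7, 3]⟩, ⟨32, [23, 21], [6, 2, 2, 7, 7, 3, 6, 6, 3, 7, 2, 6, 6]⟩], [20, 23, 23, 21, 20]⟩,
    ⟨[3, 3, 6, 2, 7, 3, 3], 165, [⟨31, [], [3, 3, 6, 2, 7, 3, 3]⟩, ⟨13, [], [3, 3, 6, 2, 7, 3, 3, 6, 2]⟩, ⟨10, [3], [6, 6, 3, 7, 7, 3, 6, 6, 2, 7, 2]⟩], []⟩],
   [([0], [3]), ([1], [3]), ([0], [1110]), ([1], [464]), ([0], [24]), ([0], [8]), ([1], [8]), ([0], [227, 703]), ([1], [227, 703]), ([0], [283, 655, 20, 42]), ([1], [283, 20, 42]), ([0], [69, 127, 395, 57, 374, 872]), ([1], [69, 57, 374]), ([0], [869, 711, 179, 145, 282, 463]), ([1], [1102, 869, 272]), ([0], [132, 566]), ([1], [452, 126]), ([0], [28]), ([1], [28]), ([0],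 [536, 61]), ([1], [61])]⟩]
theorem c_r0_7 : relAll tab 83 1408 HNU.base HNU.ph HNU.phI st rel0 3 om0 es7 cs7 rs0_7 = true := by decide +kernel
def rs0_8 : List RE := [
  ⟨[⟨[], 3, [⟨32, [], []⟩, ⟨38, [21], [2, 2, 2, 6, 3, 7, 2, 7, 3, 6, 3, 3]⟩, ⟨71, [], [7, 2, 7, 3, 6, 3, 3, 7, 2, 7, 2, 2]⟩], []⟩,
    ⟨[3], 8, [⟨32, [], [3]⟩, ⟨39, [22, 23, 22], [2, 7, 2, 2, 6, 2, 7, 2, 2, 6, 2, 7, 2, 7]⟩, ⟨39, [20, 23, 23], [6, 6, 2, 2, 6, 2, 2, 7, 7, 2]⟩], [22, 23, 22, 16]⟩,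
    ⟨[6], 28, [⟨32, [], [6]⟩, ⟨35, [21], [2, 2, 7, 2, 6, 3, 6, 2, 7, 2, 2, 2]⟩, ⟨62, [], [7, 7, 7, 3, 6, 2, 2, 7, 3, 6, 2, 2, 2]⟩], [22, 20, 23]⟩,
    ⟨[2], 7, [⟨32, [], [2]⟩, ⟨30, [], [7, 3, 3, 6, 2, 7, 3, 6, 3, 3, 6, 6, 2, 2]⟩, ⟨21, [5], [2, 7, 7, 2, 2, 6, 2, 7, 2, 7, 7, 7]⟩], [26, 20, 20, 15, 16]⟩,
    ⟨[3, 3, 6, 2, 7, 3, 3], 165, [⟨32, [], [3, 3, 6, 2, 7, 3, 3]⟩, ⟨31, [23, 21, 26], [2, 6, 3, 6, 6, 3, 3, 7, 7, 2, 7]⟩, ⟨23, [5], [7, 3, 3, 6, 6, 2, 2, 6, 6, 3, 6, 2]⟩], [23, 20, 20, 22]⟩],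
   [([0], [3]), ([0], [704]), ([1], [704]), ([0], [998]), ([1], [464]), ([0], [8]), ([1], [8]), ([0], [162, 57]), ([1], [162, 57]), ([0], [1102, 395, 132, 463]), ([1], [1102, 395, 132, 463]), ([0], [869, 377, 516, 374]), ([1], [872, 869, 272, 145, 377]), ([0], [566, 361, 596, 710, 179]), ([1], [227, 361, 710]), ([0], [711, 127, 655]), ([1], [69]), ([0], [28]), ([1], [28]), ([0], [789]), ([1], [61]), ([1], [536])]⟩,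
  ⟨[⟨[], 3, [⟨33, [], []⟩, ⟨15, [], [6]⟩, ⟨10, [], []⟩], []⟩,
    ⟨[3], 8, [⟨33, [], [3]⟩, ⟨18, [13, 5], [2, 7, 3, 6, 3, 3, 6, 2, 2, 7, 3, 3, 7]⟩, ⟨79, [36], [2, 6, 3, 7, 3, 6, 3, 7, 2, 7, 7, 3]⟩], [26, 21, 26, 16, 21]⟩,
    ⟨[6], 28, [⟨33, [], [6]⟩, ⟨22, [13, 17, 18, 17, 9], [3, 6, 3, 7, 2, 6, 3, 7, 2, 2, 6, 3, 7, 2]⟩, ⟨78, [36, 38], [2, 7, 2, 2, 2, 7, 7, 2, 6, 3, 7]⟩], [23, 21, 26, 22, 15]⟩,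
    ⟨[2], 7, [⟨33, [], [2]⟩, ⟨17, [18, 8, 5, 9], [3, 6, 3, 3, 7, 7, 7, 2, 7, 2, 2, 7]⟩, ⟨16, [8, 9], [6, 3, 6, 2, 7, 7, 2, 7, 3, 3, 6]⟩], [23, 16, 21, 21, 23, 16]⟩,
    ⟨[7], 24, [⟨33, [], [7]⟩, ⟨24, [5, 18], [3, 6, 3, 7, 2, 2, 2, 7, 3, 6, 2, 7, 7]⟩, ⟨23, [8, 9], [3, 7, 7, 2, 6, 6, 3, 6, 6, 3, 7, 7, 3, 3]⟩], [26, 21, 16, 21]⟩,
    ⟨[3, 6], 57, [⟨33, [], [3, 6]⟩, ⟨25, [18, 17, 10], [6, 2, 2, 6, 6, 2, 2, 7, 3, 6, 6, 2]⟩, ⟨53, [30, 28], [3, 6, 2, 2, 7, 3, 6, 2, 2, 7, 3]⟩], [21, 26, 20, 20]⟩,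
    ⟨[3, 3, 6, 2, 7, 3, 3], 165, [⟨33, [], [3, 3, 6, 2, 7, 3, 3]⟩, ⟨19, [5], [6, 6, 3, 7, 7, 3, 6, 6, 2, 7, 2]⟩, ⟨71, [], [6, 6, 3, 7, 7, 3, 6, 6, 2, 7, 2, 6, 2]⟩], [16, 15, 26, 20]⟩],
   [([0], [8]), ([1], [8]), ([0], [16, 283]), ([1], [596]), ([0], [28]), ([1], [28]), ([0], [272, 395]), ([1], [272, 395]), ([0], [227, 269, 69, 452]), ([1], [227, 69, 452]), ([0], [179, 126, 536]), ([1], [179, 536, 377, 282]), ([0], [317, 61, 374]), ([1], [317, 1102, 61]), ([0], [655, 996]), ([1], [145]), ([0], [7]), ([1], [7]), ([0], [464]), ([1], [464]), ([0], [57]), ([1], [57]), ([0], [162, 711]), ([1], [711])]⟩,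
  ⟨[⟨[], 3, [⟨34, [], []⟩, ⟨4, [], [6, 3, 7, 7, 2, 6, 6, 2, 7, 7]⟩, ⟨10, [3, 3, 6, 2, 7, 2, 2, 2], [7]⟩], []⟩,
    ⟨[3], 8, [⟨34, [], [3]⟩, ⟨6, [2, 7, 2, 2, 2], [7, 2, 6, 2, 2, 6, 2, 7, 7, 3]⟩, ⟨16, [13], [6, 3, 7, 2, 6, 3, 3, 6]⟩], [23, 23, 15, 20, 20, 15]⟩,
    ⟨[2], 7, [⟨34, [], [2]⟩, ⟨11, [2, 6, 3, 6, 2], [2, 2, 7, 2, 7, 3, 6, 6, 2, 2, 6, 2]⟩, ⟨53, [32, 30], [6, 2, 2, 7, 2, 6, 3, 7, 2]⟩], [23, 23, 20, 20]⟩,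
    ⟨[3, 6], 57, [⟨34, [], [3, 6]⟩, ⟨7, [6, 2, 7, 3, 6, 6], [3, 7, 2, 6, 3, 3, 6, 2, 2, 6, 2, 7]⟩, ⟨28, [9, 19, 9], [3, 6, 3, 3, 6, 2, 7, 3, 6, 6, 2, 7]⟩], [22, 16, 22, 16, 15]⟩,
    ⟨[2, 2, 7, 3, 6, 2, 2], 162, [⟨34, [], [2, 2, 7, 3, 6, 2, 2]⟩, ⟨8, [7, 2], [7, 7, 3, 3, 7, 7, 7, 2]⟩, ⟨21, [5], [2, 6, 2, 7, 2, 2, 2, 6]⟩], []⟩],
   [([0], [8]), ([1], [8]), ([0], [710]), ([1], [28]), ([0], [373]), ([0], [7]), ([1], [7]), ([0], [69, 283]), ([1], [69, 283]), ([0], [398, 872, 282, 16]), ([1], [398, 872, 16]), ([0], [789, 704, 395, 126, 132, 655]), ([1], [789, 395, 126, 24, 132]), ([0], [61, 374, 179, 361, 145, 536]), ([1], [374, 179, 536]), ([0], [272]), ([1], [566]), ([1], [57]), ([0], [127]),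 ([0], [165]), ([1], [165]), ([0], [632])]⟩,
  ⟨[⟨[], 3, [⟨35, [], []⟩, ⟨65, [38, 36], [7, 7, 2, 7, 2, 2, 7, 7, 2, 2, 2, 6]⟩, ⟨21, [5, 18], [7, 7, 7, 3, 3, 6, 3, 3, 7, 7, 2]⟩], [23, 21, 20, 20]⟩,
    ⟨[3], 8, [⟨35, [], [3]⟩, ⟨86, [39, 37, 35, 38], [7, 2, 2, 2, 6, 3, 3, 7, 7, 3, 3]⟩, ⟨98, [], [7, 2, 6, 2, 2, 2, 6, 2, 2, 6, 3, 3, 7]⟩], [20, 23, 21, 16]⟩,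
    ⟨[6], 28, [⟨35, [], [6]⟩, ⟨80, [36, 39], [2, 2, 2, 7, 2, 6, 3, 6, 6, 2, 7, 2]⟩, ⟨56, [29, 27], [3, 7, 7, 2, 2, 2, 6, 6, 3, 7]⟩], [16, 22, 20, 23]⟩,
    ⟨[2], 7, [⟨35, [], [2]⟩, ⟨62, [], [2, 6, 6, 3, 3, 7, 7, 3, 3, 6, 3, 7]⟩, ⟨32, [23, 21], [7, 2, 2, 2, 7, 7, 2, 6, 3, 7, 2, 2, 7]⟩], [15, 21, 23, 23, 15]⟩,
    ⟨[7], 24, [⟨35, [], [7]⟩, ⟨70, [38], [2, 6, 3, 6, 2, 7, 2, 6, 2, 7, 2, 2]⟩, ⟨71, [38], [7, 3, 6, 3, 3, 7, 3, 6, 2, 2]⟩], [26, 22, 23, 20, 20, 15]⟩,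
    ⟨[3, 6], 57, [⟨35, [], [3, 6]⟩, ⟨79, [36, 35], [7, 7, 3, 3, 7, 7]⟩, ⟨39, [20], [7, 2, 7, 3, 3, 6, 3, 7, 2, 6, 6, 2]⟩], [21, 15, 22, 16, 16]⟩,
    ⟨[3, 3, 6, 2, 7, 3, 3], 165, [⟨35, [], [3, 3, 6, 2, 7, 3, 3]⟩, ⟨67, [], [7, 7, 7, 2, 2, 7, 3, 3, 7, 2, 2, 2, 7]⟩, ⟨16, [18, 8, 5, 9], [6, 3, 7, 2, 6, 6, 3, 7, 2, 6, 2, 7, 7]⟩], [20, 23, 23, 20, 20]⟩],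
   [([0], [8]), ([1], [8]), ([0], [872, 16]), ([1], [872, 16]), ([0], [655, 42, 596]), ([1], [516, 655, 42]), ([0], [69, 452, 374, 710, 395]), ([1], [69, 452, 710]), ([0], [283, 1102, 126]), ([1], [377, 283, 1102]), ([0], [227, 566]), ([1], [227]), ([0], [28]), ([1], [28]), ([0], [536, 61]), ([1], [536]), ([0], [24]), ([0], [464]), ([1], [464]), ([1], [1110]), ([0], [57]), ([1], [57]), ([0], [632, 703]), ([1], [703])]⟩,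
  ⟨[⟨[], 3, [⟨36, [], []⟩, ⟨26, [], [2, 2, 7, 2, 2, 6, 3, 3, 6, 3, 3]⟩, ⟨10, [6, 6], [3, 6, 6, 2, 7, 3, 6, 2, 2, 2, 7, 2, 2]⟩], [15, 23, 23, 16, 15]⟩,
    ⟨[3], 8, [⟨36, [], [3]⟩, ⟨29, [25, 4, 12, 9], [7, 7, 2, 7, 3, 6, 2, 7, 2, 6, 3, 7, 2, 2]⟩, ⟨78, [39, 39, 35], [2, 6, 2, 7, 3, 3, 6, 3]⟩], [20, 23, 23, 16, 16]⟩,
    ⟨[2], 7, [⟨36, [], [2]⟩, ⟨28, [12, 24, 14], [6, 3, 7, 7, 2, 7, 7, 2, 6, 3, 7, 2, 7, 7]⟩, ⟨39, [21, 21, 16, 16], [2, 6, 3, 7, 2, 7, 2, 2, 7, 7, 2, 6, 3]⟩], [23, 16, 22, 26, 21]⟩,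
    ⟨[3, 6], 57, [⟨36, [], [3, 6]⟩, ⟨29, [9, 9, 12, 9], [7, 2, 7, 3, 3, 6, 6, 3, 7, 2, 6, 2, 2, 2]⟩, ⟨63, [38], [6, 6, 3, 6, 6, 2, 2, 6, 6, 3, 7, 7, 2]⟩], [15, 20, 23]⟩,
    ⟨[2, 2, 2], 42, [⟨36, [], [2, 2, 2]⟩, ⟨28, [9, 19], [6, 2, 7, 3, 6, 3, 3, 7, 2, 7]⟩, ⟨37, [15, 16], [2, 7, 7, 7, 3, 3, 6, 6, 3, 3, 7, 2, 2]⟩], [20, 15, 22, 26, 15]⟩],
   [([1], [3]), ([0], [8]), ([1], [8]), ([0], [464]), ([1], [272, 464]), ([0], [1110, 710]), ([1], [24, 1110, 710]), ([0], [872, 516, 463]), ([1], [377, 872, 516]), ([0], [373, 374, 536]), ([1], [596, 179, 126, 374]), ([0], [1102, 28, 566]), ([1], [20, 655]), ([1], [283]), ([1], [7]), ([0], [632]), ([1], [632]), ([0], [996]), ([1], [162, 996]), ([0], [869]),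 ([1], [227]), ([0], [711]), ([1], [127]), ([1], [395]), ([0], [42]), ([1], [317]), ([0], [452]), ([1], [452])]⟩]
theorem c_r0_8 : relAll tab 83 1408 HNU.base HNU.ph HNU.phI st rel0 3 om0 es8 cs8 rs0_8 = true := by decide +kernel
def rs0_9 : List RE := [
  ⟨[⟨[], 3, [⟨37, [], []⟩, ⟨31, [21, 26], [2, 6, 2, 2, 7, 7, 7, 3, 3, 6, 2]⟩, ⟨21, [9], [3, 6, 6, 3, 6, 6, 2, 2, 7, 3, 6, 6, 2, 2]⟩], [22, 23, 15, 16]⟩,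
    ⟨[3], 8, [⟨37, [], [3]⟩, ⟨44, [15, 16, 16, 26], [3, 3, 7, 3, 6, 2, 2, 2, 7, 2, 2]⟩, ⟨98, [], [3, 6, 2, 7, 3, 6, 6, 3, 3, 6, 2, 7]⟩], []⟩,
    ⟨[7], 24, [⟨37, [], [7]⟩, ⟨43, [21, 26], [3, 7, 2, 6, 2, 2, 2, 7, 7, 3, 3]⟩, ⟨79, [39, 37], [7, 2, 6, 3, 7, 2, 6, 3, 3, 7, 7]⟩], [26, 16, 22, 20]⟩,
    ⟨[3, 6], 57, [⟨37, [], [3, 6]⟩, ⟨37, [20, 20], [3, 7, 7, 7, 2, 2, 6, 2, 7, 2]⟩, ⟨37, [20, 20], [6, 3, 3, 6, 2, 7, 2, 7, 7, 2]⟩], [23, 15, 23, 20]⟩,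
    ⟨[2, 2, 2], 42, [⟨37, [], [2, 2, 2]⟩, ⟨36, [], [6, 3, 3, 7, 3, 3, 6, 2, 2, 2]⟩, ⟨28, [19, 10, 12, 9], [7, 7, 7, 2, 2, 7, 7, 2, 7, 3, 6, 6]⟩], [16, 21, 26, 16]⟩],
   [([0], [3]), ([0], [8]), ([1], [8]), ([0], [395, 1102]), ([1], [395, 1102]), ([0], [272, 872, 374]), ([1], [272, 872]), ([0], [398, 16, 566, 69, 596]), ([1], [398, 16, 596]), ([0], [7, 516, 283, 704, 179, 1110, 28]), ([1], [283, 1110, 28]), ([0], [24]), ([1], [24]), ([0], [703, 162]), ([1], [703, 162]), ([0], [373, 282, 61]), ([0], [632]), ([0], [463]), ([0], [42]), ([1], [42]), ([0], [317, 452])]⟩,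
  ⟨[⟨[], 3, [⟨38, [], []⟩, ⟨71, [36], [3, 3, 6, 6, 3, 6, 2, 7, 2, 6, 3, 7, 7, 2, 2]⟩, ⟨32, [], [7, 3, 3, 7, 7, 2, 6, 3, 7, 2, 2, 6, 3]⟩], [23, 23, 20, 23]⟩,
    ⟨[3], 8, [⟨38, [], [3]⟩, ⟨82, [39, 35, 39], [2, 6, 2, 7, 2, 6, 3, 7, 2, 7, 7, 3]⟩, ⟨98, [], [6, 3, 7, 7, 7, 3, 3, 7, 3, 6, 2]⟩], [15, 20, 20]⟩,
    ⟨[7], 24, [⟨38, [], [7]⟩, ⟨80, [37, 35, 35], [3, 6, 6, 3, 7, 2, 6, 6, 2]⟩, ⟨53, [28], [3, 6, 2, 2, 7, 2, 6, 3, 7, 2]⟩], [22, 26, 16, 16]⟩,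
    ⟨[3, 6], 57, [⟨38, [], [3, 6]⟩, ⟨64, [38], [3, 6, 2, 7, 3, 3, 6, 2, 7, 3, 6, 6, 2, 7]⟩, ⟨62, [38], [6, 6, 2, 7, 7, 3, 6, 2, 7, 7, 3]⟩], [20, 15, 26, 15, 16, 15]⟩,
    ⟨[2, 2, 2], 42, [⟨38, [], [2, 2, 2]⟩, ⟨81, [35], [3, 3, 6, 6, 2, 7, 7, 2, 6, 3, 6]⟩, ⟨63, [], [2, 7, 2, 2, 7, 3, 6, 2, 7, 2, 2, 7, 3]⟩], [22, 20, 23, 23, 15]⟩],
   [([1], [3]), ([0], [8]), ([1], [8]), ([0], [1102, 704]), ([1], [1102, 704]), ([0], [28, 20, 516, 16]), ([1], [28, 20, 516]), ([0], [596, 655, 398, 272]), ([1], [869, 596, 655, 398]), ([0], [536, 126, 69]), ([1], [374]), ([0], [283, 996, 227]), ([1], [283]), ([0], [24]), ([1], [24]), ([0], [61, 165]), ([1], [61]), ([0], [282, 632]), ([1], [632, 703]), ([0], [711]),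 ([1], [145]), ([0], [42]), ([0], [452]), ([1], [452]), ([0], [269])]⟩,
  ⟨[⟨[], 3, [⟨39, [], []⟩, ⟨39, [20, 23, 23], [2, 7, 2, 6, 2, 2, 6, 3, 3, 7, 2, 6, 3]⟩, ⟨32, [23], [7, 2, 2, 7, 7, 2, 6, 6, 3, 3, 7, 3, 3]⟩], [15, 20, 20, 15, 26]⟩,
    ⟨[3], 8, [⟨39, [], [3]⟩, ⟨44, [20, 20, 15, 26, 15], [6, 2, 7, 2, 2, 6, 3, 7, 3, 6, 3]⟩, ⟨98, [55], [3, 7, 7, 7, 2, 7, 3, 6, 3, 7]⟩], [23, 23, 15, 20, 20, 15]⟩,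
    ⟨[2], 7, [⟨39, [], [2]⟩, ⟨40, [22, 15, 23], [7, 2, 2, 6, 6, 2, 2, 2, 7]⟩, ⟨53, [28, 30], [2, 7, 7, 2, 6, 3, 7, 2, 2, 6, 3]⟩], [15, 21, 23, 16]⟩,
    ⟨[7], 24, [⟨39, [], [7]⟩, ⟨39, [26, 16, 22, 15], [6, 3, 6, 2, 7, 2, 2, 2, 7, 2, 6, 3]⟩, ⟨39, [26, 16, 22, 15], [3, 3, 7, 7, 2, 7, 3, 6, 3, 7, 3, 6, 2, 2, 2]⟩], [15, 22, 26, 20, 20]⟩,
    ⟨[3, 3], 20, [⟨39, [], [3, 3]⟩, ⟨41, [20], [6, 6, 3, 6, 6, 3, 7, 2, 2, 6, 3, 3]⟩, ⟨56, [32, 29, 27], [6, 2, 2, 6, 2, 2, 6, 3, 3, 7, 2, 6, 2]⟩], [16, 16, 21, 23, 15]⟩,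
    ⟨[3, 6], 57, [⟨39, [], [3, 6]⟩, ⟨32, [23], [6, 6, 3, 7, 2, 7, 7, 2, 2, 2, 6, 2, 2]⟩, ⟨39, [26, 16, 16], [2, 7, 2, 2, 2, 7, 2, 2, 7, 3, 3, 7]⟩], [20, 21, 16, 21]⟩,
    ⟨[2, 2], 16, [⟨39, [], [2, 2]⟩, ⟨36, [], [2, 7, 3, 6, 2, 7, 7, 7, 2, 2, 6, 2, 7, 2]⟩, ⟨28, [14, 4, 12, 12, 9], [2, 6, 3, 7, 7, 2, 2, 6, 2, 7, 3, 6]⟩], [26, 20, 15, 22]⟩,
    ⟨[2, 2, 2], 42, [⟨39, [], [2, 2, 2]⟩, ⟨45, [16, 22, 16], [6, 6, 3, 6, 2, 7, 2, 2, 6, 3, 7, 2, 7]⟩, ⟨79, [38, 35], [7, 2, 6, 2, 2, 7, 7]⟩], [20, 15, 23, 21, 15]⟩,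
    ⟨[3, 3, 7], 127, [⟨39, [], [3, 3, 7]⟩, ⟨43, [16, 15, 16, 16], [7, 3, 3, 7, 3, 3, 6, 2, 7, 7, 2, 2]⟩, ⟨78, [40], [2, 2, 7, 7, 3, 3, 6, 2, 2, 7, 7, 2, 7]⟩], [16, 16, 15, 22, 26, 15]⟩,
    ⟨[2, 2, 2, 6], 398, [⟨39, [], [2, 2, 2, 6]⟩, ⟨44, [20, 15, 26], [3, 6, 2, 7, 2, 2, 7, 2, 7, 7, 7]⟩, ⟨98, [52, 54], [3, 7, 2, 6, 3, 3, 7, 2, 2, 7, 2, 6, 2, 2]⟩], [23, 22, 26, 16, 22]⟩,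
    ⟨[3, 3, 6, 2, 7, 3], 269, [⟨39, [], [3, 3, 6, 2, 7, 3]⟩, ⟨43, [21, 15, 23], [2, 2, 7, 2, 6, 2, 2, 7, 3, 6, 2, 7, 7]⟩, ⟨71, [36], [7, 7, 2, 6, 6, 2, 7, 7, 2, 6, 2, 2, 7]⟩], [15, 22, 16, 16]⟩,
    ⟨[3, 3, 6, 2, 7, 3, 6, 3], 632, [⟨39, [], [3, 3, 6, 2, 7, 3, 6, 3]⟩, ⟨35, [20], [6, 2, 7, 2, 6, 3, 7, 3, 6, 2, 7, 7, 3]⟩, ⟨79, [36, 35, 35], [2, 7, 2, 2, 6, 2, 7, 2, 2, 6, 3, 7, 3]⟩], [21, 16, 21, 15, 20]⟩],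
   [([0], [8]), ([1], [8]), ([0], [536, 179]), ([1], [536]), ([0], [145, 1110]), ([1], [145, 1110]), ([0], [7]), ([0], [227]), ([0], [869]), ([1], [869]), ([0], [24]), ([0], [126]), ([0], [710]), ([1], [710]), ([0], [20]), ([0], [272]), ([1], [272]), ([0], [61]), ([0], [42]), ([1], [42]), ([0], [361, 132]), ([0], [127]), ([0], [703]), ([1], [703]), ([0], [165]), ([0], [398]), ([1], [398]), ([0], [1102, 998]), ([1], [1102]), ([0], [463, 596]), ([1], [463, 596])]⟩,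
  ⟨[⟨[], 3, [⟨40, [], []⟩, ⟨49, [], [3, 7, 2, 7, 3, 6, 3, 3, 7, 7, 2, 2, 7]⟩, ⟨21, [18], [3, 7, 7, 2, 6, 6, 3, 3, 7, 2, 2, 7, 3]⟩], [26, 16, 22, 20, 15]⟩,
    ⟨[3], 8, [⟨40, [], [3]⟩, ⟨59, [27, 33], [6, 6, 2, 2, 7, 2, 7, 7, 2, 2, 2, 7]⟩, ⟨98, [], [2, 6, 2, 2, 6, 2, 2, 2, 7, 7, 2]⟩], [21, 15, 22, 16]⟩,
    ⟨[2], 7, [⟨40, [], [2]⟩, ⟨60, [31, 32, 33, 30], [2, 7, 7, 2, 7, 2, 2, 2, 7, 2, 6, 2, 2]⟩, ⟨79, [36, 39], [7, 3, 6, 3, 3, 7, 3, 6, 2, 2, 2]⟩], [23, 21]⟩,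
    ⟨[7], 24, [⟨40, [], [7]⟩, ⟨58, [27], [2, 7, 2, 6, 2, 7, 2, 2, 6, 2, 2, 2]⟩, ⟨56, [27, 27, 27], [7, 3, 6, 2, 2, 2, 7, 2, 2, 6]⟩], [26, 21, 20, 20, 15]⟩,
    ⟨[3, 3], 20, [⟨40, [], [3, 3]⟩, ⟨53, [29, 30], [3, 6, 6, 3, 3, 7, 7, 2, 2, 6, 3, 3]⟩, ⟨39, [23, 22, 15], [6, 3, 7, 3, 6, 3, 7, 2, 7, 7, 2]⟩], [23, 16, 21, 20]⟩,
    ⟨[3, 6], 57, [⟨40, [], [3, 6]⟩, ⟨48, [33], [2, 7, 2, 7, 3, 6, 2, 2, 7, 3]⟩, ⟨56, [], [3, 7, 7, 7, 2]⟩], [22, 23, 21, 23]⟩,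
    ⟨[2, 2], 16, [⟨40, [], [2, 2]⟩, ⟨52, [30, 30], [3, 6, 6, 2, 7, 2, 2, 7, 3, 6, 3, 7]⟩, ⟨63, [], [3, 3, 6, 2, 7, 3, 3, 6, 2, 2, 6, 2, 7, 7]⟩], [16, 16, 26]⟩,
    ⟨[2, 2, 2], 42, [⟨40, [], [2, 2, 2]⟩, ⟨61, [32, 31, 28], [7, 2, 2, 7, 3, 6, 2, 7, 7, 3, 3]⟩, ⟨53, [27], [3, 6, 2, 7, 7, 3, 3, 6, 3, 3, 7, 7, 7]⟩], [15, 16, 22, 26]⟩,
    ⟨[3, 3, 7], 127, [⟨40, [], [3, 3, 7]⟩, ⟨60, [34, 31, 31], [3, 6, 6, 2, 7, 2, 6, 3, 7, 7, 7]⟩, ⟨78, [40], [2, 7, 2, 6, 6, 2, 7, 7, 2, 7, 3]⟩], [22, 20, 23]⟩,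
    ⟨[2, 2, 2, 6], 398, [⟨40, [], [2, 2, 2, 6]⟩, ⟨59, [34, 31, 31, 27], [7, 3, 6, 6, 3, 7, 7, 2, 2, 2, 7, 2]⟩, ⟨98, [53, 54, 54, 54], [3, 6, 3, 7, 7, 7, 3, 3, 6]⟩], [22, 23, 22, 23]⟩,
    ⟨[3, 3, 6, 2, 7, 3], 269, [⟨40, [], [3, 3, 6, 2, 7, 3]⟩, ⟨54, [31, 28], [2, 6, 2, 2, 7, 2, 2, 2, 7, 7, 2]⟩, ⟨71, [36], [3, 7, 2, 2, 7, 7, 2, 2, 6, 3, 3]⟩], [23, 20, 15, 16]⟩,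
    ⟨[3, 3, 6, 2, 7, 3, 6, 3], 632, [⟨40, [], [3, 3, 6, 2, 7, 3, 6, 3]⟩, ⟨51, [32, 29], [6, 6, 2, 7, 7, 3, 3, 7, 3, 6, 2, 7, 7]⟩, ⟨53, [], [7, 7, 3, 6, 6, 3, 3, 7, 2, 7, 7]⟩], [16, 16, 15, 16]⟩],
   [([0], [8]), ([1], [8]), ([0], [655, 566]), ([1], [655]), ([0], [464, 28]), ([1], [464, 28]), ([0], [7]), ([0], [395]), ([1], [395]), ([0], [996]), ([0], [24]), ([0], [516]), ([1], [516]), ([0], [872]), ([0], [20]), ([0], [377]), ([0], [69]), ([1], [69]), ([0], [42]), ([1], [42]), ([0], [317, 452]), ([0], [127]), ([0], [162]), ([0], [711]), ([1], [711]), ([0], [398]), ([1], [398]), ([0], [704, 789]), ([1], [704]), ([0], [283, 374]), ([1], [283, 374])]⟩]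
theorem c_r0_9 : relAll tab 83 1408 HNU.base HNU.ph HNU.phI st rel0 3 om0 es9 cs9 rs0_9 = true := by decide +kernel
def rs0_10 : List RE := [
  ⟨[⟨[], 3, [⟨41, [], []⟩, ⟨50, [33], [3, 6, 6, 3, 3, 7, 2, 2, 6, 2, 7, 2]⟩, ⟨10, [6, 2, 2], [3, 3, 6, 6, 3, 6, 6, 2, 2, 6, 6, 2, 2]⟩], [21, 26, 22, 26]⟩,
    ⟨[3], 8, [⟨41, [], [3]⟩, ⟨61, [32, 30, 28], [2, 2, 2, 7, 2, 6, 3, 3, 6, 6, 2, 7, 2]⟩, ⟨53, [30], [2, 2, 7, 3, 6, 3, 3, 7, 7, 2, 6, 6, 2]⟩], [22, 16, 22, 20, 15]⟩,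
    ⟨[6], 28, [⟨41, [], [6]⟩, ⟨54, [27, 27], [3, 6, 2, 7, 3, 6, 6, 3, 6, 2, 2]⟩, ⟨62, [38], [3, 6, 2, 2, 2, 6, 6, 3, 7, 7, 3, 6, 6]⟩], [23, 15, 26, 22, 15]⟩,
    ⟨[2], 7, [⟨41, [], [2]⟩, ⟨55, [32], [2, 6, 2, 2, 6, 3, 3]⟩, ⟨79, [37, 35, 35], [2, 7, 3, 3, 6, 3, 3, 6, 2, 2, 6]⟩], [23, 23, 20, 20]⟩,
    ⟨[7], 24, [⟨41, [], [7]⟩, ⟨57, [33, 32, 31, 27], [6, 3, 7, 2, 6, 6, 3, 7, 2, 6, 2, 2, 7, 3]⟩, ⟨78, [40, 36, 35], [6, 2, 7, 7, 3, 3, 6, 3, 7, 2, 7, 2]⟩], [26, 20, 20, 15, 23]⟩,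
    ⟨[3, 6], 57, [⟨41, [], [3, 6]⟩, ⟨59, [29, 34], [3, 6, 2, 2, 2, 6, 3, 7, 3, 3, 7, 2, 7]⟩, ⟨98, [53, 54, 52, 55, 55], [2, 2, 6, 2, 7, 2, 2, 6, 2, 7]⟩], [23, 21, 20, 20]⟩,
    ⟨[6, 6], 69, [⟨41, [], [6, 6]⟩, ⟨57, [34, 31], [2, 7, 3, 6, 3, 7, 7, 2, 2, 7, 2, 6, 3]⟩, ⟨78, [39, 35, 38], [3, 7, 7, 2, 7, 7, 3, 6, 2, 2]⟩], [20, 20, 23, 21]⟩,
    ⟨[2, 2], 16, [⟨41, [], [2, 2]⟩, ⟨56, [32, 29, 27], [6, 2, 7, 2, 2, 6, 6, 3, 6, 6, 2]⟩, ⟨39, [20, 21, 26, 16], [6, 6, 2, 7, 7, 2, 6, 2, 7]⟩], [21, 21, 20, 15, 16, 15]⟩,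
    ⟨[6, 6, 3], 145, [⟨41, [], [6, 6, 3]⟩, ⟨61, [31, 28, 31], [3, 6, 3, 7, 7, 3, 3, 6, 3, 7]⟩, ⟨56, [31, 28], [6, 6, 3, 3, 6, 2, 7, 7, 3, 6, 2]⟩], [22, 20, 22, 20]⟩,
    ⟨[2, 2, 2, 7, 2], 703, [⟨41, [], [2, 2, 2, 7, 2]⟩, ⟨52, [31, 28], [6, 3, 3, 7, 7, 2, 7, 3, 6, 6, 3, 7, 7]⟩, ⟨79, [35], [3, 7, 3, 3, 6, 2, 7, 7, 2, 6]⟩], [21, 20, 23, 16, 15]⟩,
    ⟨[3, 3, 6, 2, 7], 516, [⟨41, [], [3, 3, 6, 2, 7]⟩, ⟨49, [], [7, 3, 6, 3, 7, 2, 7, 3, 6, 2, 2, 7, 2]⟩, ⟨16, [13, 17], [7, 3, 3, 6, 6, 2, 7, 7, 3, 3, 7, 2, 2]⟩], [22, 26, 20, 15, 16]⟩,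
    ⟨[2, 2, 7, 3, 6, 2, 2], 162, [⟨41, [], [2, 2, 7, 3, 6, 2, 2]⟩, ⟨51, [30, 30], [2, 7, 7, 7, 2, 7, 3, 6, 3, 7, 7, 2, 6]⟩, ⟨56, [27, 27], [3, 3, 6, 3, 7, 2, 7, 3, 6, 3, 7, 7]⟩], [20, 23, 22, 16]⟩],
   [([0], [8]), ([0], [710]), ([1], [710]), ([0], [373]), ([0], [7]), ([0], [566]), ([0], [452]), ([1], [452]), ([0], [24]), ([1], [24]), ([0], [374, 536]), ([1], [374]), ([0], [361, 132]), ([1], [361, 132]), ([0], [57]), ([1], [57]), ([0], [632]), ([0], [165]), ([0], [69]), ([1], [69]), ([0], [1110, 317]), ([1], [1110]), ([0], [996, 398]), ([1], [996, 398]), ([0], [16]), ([1], [16]), ([0], [998, 42]), ([0], [145]), ([1], [145]), ([0], [789, 283])]⟩,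
  ⟨[⟨[], 3, [⟨42, [], []⟩, ⟨67, [38, 36, 39], [6, 2, 7, 7, 2, 6, 3, 7, 3, 3, 7, 2, 2]⟩, ⟨23, [17], [7, 3, 6, 2, 7, 3, 6, 6, 2, 7]⟩], [26, 21, 23, 20, 15]⟩,
    ⟨[3], 8, [⟨42, [], [3]⟩, ⟨77, [38, 35], [7, 2, 2, 7, 7, 3, 3, 6, 3, 3, 7, 3]⟩, ⟨78, [], [2, 2, 6, 3, 3, 6, 3, 3, 7]⟩], [23, 20, 15, 26]⟩,
    ⟨[2], 7, [⟨42, [], [2]⟩, ⟨72, [38, 36], [7, 2, 6, 3, 7, 3, 3, 6, 6, 2]⟩, ⟨56, [32, 34], [2, 2, 6, 6, 3, 3, 7, 3, 6, 2, 7]⟩], [21, 21, 20]⟩,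
    ⟨[3, 6], 57, [⟨42, [], [3, 6]⟩, ⟨66, [], [7, 2, 7, 3, 3, 6, 3, 7, 2, 2, 7]⟩, ⟨28, [14], [2, 2, 2, 6, 3, 7, 2, 7, 7, 3, 3, 7]⟩], [15, 26, 20, 21]⟩,
    ⟨[2, 2, 2], 42, [⟨42, [], [2, 2, 2]⟩, ⟨73, [38, 40], [3, 6, 2, 2, 6, 2, 7, 2, 2, 6, 6, 3, 7, 2]⟩, ⟨62, [38], [2, 2, 7, 7, 2, 6, 2, 2, 6, 6]⟩], [26, 16, 22, 23]⟩],
   [([0], [3]), ([0], [8]), ([1], [8]), ([0], [272, 24]), ([1], [272, 24]), ([0], [61, 464, 704, 283]), ([1], [61, 464, 704, 283]), ([0], [179, 377, 20, 1110, 398]), ([1], [872, 374, 20, 1110]), ([0], [789, 536, 145, 998, 282, 655]), ([0], [7]), ([1], [7]), ([0], [162, 127]), ([1], [162, 127]), ([0], [395, 16, 227]), ([1], [16]), ([0], [165]), ([0], [42]), ([1], [42]), ([0],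 [361]), ([0], [452])]⟩,
  ⟨[⟨[], 3, [⟨43, [], []⟩, ⟨74, [36, 35, 35], [2, 6, 3, 6, 6, 2, 2, 6, 3, 3, 7, 3, 3]⟩, ⟨23, [5, 17], [3, 3, 6, 3, 3, 6, 2, 2, 6, 2, 2, 2, 6]⟩], [16, 15, 16, 21, 15]⟩,
    ⟨[3], 8, [⟨43, [], [3]⟩, ⟨87, [36, 38, 36], [2, 7, 3, 3, 6, 3, 7, 2, 2, 2, 7]⟩, ⟨78, [], [3, 3, 7, 2, 2, 7, 3, 6, 2, 7, 7, 3, 3, 6]⟩], [26, 22, 23, 22, 16]⟩,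
    ⟨[2], 7, [⟨43, [], [2]⟩, ⟨83, [40, 36, 35, 35], [3, 6, 3, 7, 7, 7, 3, 3, 7, 3, 6, 3, 7]⟩, ⟨53, [32, 29, 27], [2, 2, 7, 2, 6, 3, 7, 7, 7, 3, 3]⟩], [23, 20, 22, 23, 22]⟩,
    ⟨[7], 24, [⟨43, [], [7]⟩, ⟨84, [36, 39, 40, 36], [6, 6, 3, 6, 2, 7, 2, 6, 3, 3, 6, 3, 3]⟩, ⟨56, [29, 28], [7, 7, 3, 3, 6, 6, 2, 7, 7, 3, 3, 7, 7]⟩], [26, 20, 23, 16, 16, 15]⟩,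
    ⟨[3, 3], 20, [⟨43, [], [3, 3]⟩, ⟨85, [36, 35], [3, 7, 2, 2, 6, 6, 3, 6, 6, 3, 7, 7, 2, 2]⟩, ⟨79, [38, 40], [2, 6, 3, 6, 6, 3, 7, 2, 6, 2, 7, 3]⟩], [23, 22, 20, 22, 23]⟩,
    ⟨[3, 6], 57, [⟨43, [], [3, 6]⟩, ⟨72, [], [6, 3, 7, 2, 7, 3, 6, 6, 3, 6, 6, 3, 3]⟩, ⟨53, [34, 29, 27], [3, 7, 2, 6, 6, 3, 7, 2, 2, 7, 7]⟩], [23, 20, 22, 20, 15]⟩,
    ⟨[7, 7], 61, [⟨43, [], [7, 7]⟩, ⟨79, [39, 37], [2, 6, 3, 6, 6, 2, 2, 6, 6, 3, 3, 7, 2]⟩, ⟨37, [20, 20], [2, 7, 2, 2, 6, 3, 3, 6, 2, 7, 2, 6]⟩], [26, 15, 16, 16, 26]⟩,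
    ⟨[2, 2, 2], 42, [⟨43, [], [2, 2, 2]⟩, ⟨78, [35, 37, 40], [7, 7, 2, 2, 6, 2, 7, 2, 2, 7, 7, 7]⟩, ⟨39, [15], [7, 7, 2, 7, 7, 2, 6, 6, 3, 6, 2]⟩], [20, 21, 15, 16, 21]⟩,
    ⟨[3, 3, 7], 127, [⟨43, [], [3, 3, 7]⟩, ⟨82, [36, 36, 35, 35], [2, 2, 7, 7, 3, 3, 7, 7, 2, 7, 2]⟩, ⟨98, [54, 53, 55, 53, 52], [7, 2, 2, 2, 6, 2, 7, 2, 2, 6, 2, 7]⟩], [23, 21, 20, 20]⟩,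
    ⟨[2, 2, 2, 6], 398, [⟨43, [], [2, 2, 2, 6]⟩, ⟨91, [37, 35, 38], [7, 3, 6, 2, 7, 2, 6, 2, 2, 7, 7, 3]⟩, ⟨78, [], [7, 7, 2, 6, 3, 3, 7, 7, 2, 2, 6, 6, 3, 7]⟩], [23, 22, 20, 20, 15]⟩,
    ⟨[6, 6, 3, 7, 2, 6], 361, [⟨43, [], [6, 6, 3, 7, 2, 6]⟩, ⟨65, [], [6, 6, 2, 7, 2, 2, 2, 7, 7, 7]⟩, ⟨16, [18, 10, 5], [3, 7, 2, 7, 2, 6, 2, 7, 7, 2]⟩], [26, 20, 20, 15, 23]⟩,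
    ⟨[3, 3, 6, 2, 7, 3, 6, 3], 632, [⟨43, [], [3, 3, 6, 2, 7, 3, 6, 3]⟩, ⟨71, [36], [2, 7, 2, 6, 3, 7, 3, 3, 7, 2, 2, 6, 2, 2]⟩, ⟨39, [16, 22, 20], [7, 2, 2, 6, 6, 3, 7, 7, 2, 2, 6, 3]⟩], [20, 22, 23]⟩],
   [([0], [8]), ([1], [8]), ([0], [28]), ([1], [566]), ([0], [395]), ([1], [536]), ([0], [516]), ([1], [227]), ([0], [704]), ([1], [7]), ([0], [655]), ([1], [179]), ([0], [374]), ([1], [24]), ([0], [282]), ([1], [145]), ([0], [463]), ([0], [20]), ([1], [20]), ([0], [69]), ([1], [377]), ([0], [42]), ([1], [452]), ([0], [317]), ([1], [132]), ([0], [127]), ([1], [127]), ([0], [703]), ([1], [711]), ([0], [398]), ([1], [398]), ([0], [464]), ([1], [789]), ([0], [996]), ([1], [1110]), ([0], [596]),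 ([1], [869]), ([0], [710])]⟩,
  ⟨[⟨[], 3, [⟨44, [], []⟩, ⟨97, [], []⟩, ⟨71, [], [2, 6, 3, 6, 6, 3, 3, 7, 2, 2, 6, 3]⟩], []⟩,
    ⟨[3], 8, [⟨44, [], [3]⟩, ⟨96, [], []⟩, ⟨98, [], [3, 7, 2, 7, 3, 6, 3, 7, 2, 7, 7, 2]⟩], [16, 21, 26, 21]⟩,
    ⟨[6], 28, [⟨44, [], [6]⟩, ⟨99, [55, 53, 54, 54], [3, 6, 3, 7, 2, 2, 7, 3, 6, 2, 7]⟩, ⟨56, [], [2, 6, 6, 2, 7, 2, 6, 3, 6]⟩], [21, 26, 22, 20, 15]⟩,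
    ⟨[2], 7, [⟨44, [], [2]⟩, ⟨95, [], []⟩, ⟨79, [], [3, 6, 6, 2, 2, 7, 2, 2, 2, 6, 3]⟩], [16, 15, 22]⟩,
    ⟨[7], 24, [⟨44, [], [7]⟩, ⟨95, [53, 54, 53, 55], [6, 3, 7, 2, 6, 3, 7, 2, 2, 6]⟩, ⟨62, [], [7, 7, 3, 6, 6, 3, 6, 6, 2, 2, 7, 2, 7, 7]⟩], [26, 16, 21, 15]⟩,
    ⟨[3, 3], 20, [⟨44, [], [3, 3]⟩, ⟨99, [53, 54, 54, 54, 54], [3, 6, 2, 7, 2, 2, 7, 7, 2, 7, 3]⟩, ⟨56, [30], [6, 6, 2, 7, 2, 2, 6, 6, 3, 6, 2, 7]⟩], [22, 20, 23, 23, 15]⟩,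
    ⟨[3, 6], 57, [⟨44, [], [3, 6]⟩, ⟨96, [54, 52, 54], [2, 7, 2, 6, 2, 7, 3, 6, 6, 3, 6, 6]⟩, ⟨98, [55, 52, 54], [2, 6, 2, 2, 7, 2, 2, 2, 7]⟩], [20, 23, 20, 20]⟩,
    ⟨[2, 2], 16, [⟨44, [], [2, 2]⟩, ⟨99, [53, 54, 53, 55], [2, 2, 7, 3, 6, 6, 2, 2, 7, 2, 2, 6, 2, 7, 2]⟩, ⟨53, [27, 31], [3, 6, 3, 3, 7, 3, 6, 2, 2, 2]⟩], [22, 16, 21, 26, 15]⟩,
    ⟨[7, 7], 61, [⟨44, [], [7, 7]⟩, ⟨98, [], []⟩, ⟨37, [], [6, 3, 7, 2, 2, 7, 7, 2, 6, 3, 7]⟩], [15, 16, 16, 26]⟩,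
    ⟨[2, 2, 2], 42, [⟨44, [], [2, 2, 2]⟩, ⟨94, [55, 55, 53, 54], [7, 7, 2, 6, 3, 7, 3, 3, 6, 2]⟩, ⟨78, [], [3, 3, 6, 3, 7, 2, 7, 7, 7, 2, 2, 2]⟩], [16, 22, 20]⟩,
    ⟨[3, 3, 6], 227, [⟨44, [], [3, 3, 6]⟩, ⟨97, [56, 54, 56, 54, 53], [3, 3, 7, 2, 2, 6, 3, 6, 2, 7, 3, 3, 6]⟩, ⟨78, [40, 38, 38], [3, 3, 7, 7, 2, 7, 3, 6, 6, 3, 3, 6, 2]⟩], [23, 22, 26, 16, 16]⟩,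
    ⟨[6, 6, 3], 145, [⟨44, [], [6, 6, 3]⟩, ⟨100, [52, 54, 53, 54, 52], [6, 2, 7, 3, 3, 6, 2, 2, 2]⟩, ⟨98, [], [3, 7, 2, 6, 3, 3, 6, 2, 2, 6]⟩], [20, 15, 20, 21]⟩,
    ⟨[7, 7, 7], 132, [⟨44, [], [7, 7, 7]⟩, ⟨94, [52, 55, 52, 54, 53], [7, 2, 6, 6, 3, 6, 2, 2, 7, 3, 3, 7, 2, 2]⟩, ⟨78, [38, 40, 38], [7, 3, 6, 2, 2, 2, 7, 3, 6, 3, 3, 7]⟩], [21, 23, 22]⟩,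
    ⟨[2, 2, 7], 179, [⟨44, [], [2, 2, 7]⟩, ⟨96, [56, 52, 54, 56, 54, 52], [3, 3, 7, 3, 3, 7, 2, 2, 6, 3, 7, 3]⟩, ⟨98, [54, 56, 54, 56], [2, 6, 3, 3, 7, 2, 6, 3, 6, 2, 7, 2, 2, 2]⟩], [26, 20, 15]⟩,
    ⟨[7, 7, 2], 126, [⟨44, [], [7, 7, 2]⟩, ⟨98, [56, 54, 56], [3, 6, 3, 7, 2, 7, 3, 6, 3, 3, 6]⟩, ⟨39, [15, 21, 23], [2, 6, 6, 3, 7, 7, 2, 2, 6, 3, 7]⟩], [23, 16, 21, 23]⟩,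
    ⟨[6, 6, 3, 6], 998, [⟨44, [], [6, 6, 3, 6]⟩, ⟨98, [55], [7, 7, 7, 2, 7, 2, 2, 7, 2]⟩, ⟨39, [21, 21, 20, 15], [3, 3, 7, 2, 6, 2, 2, 2, 7, 7, 3, 3]⟩], [15, 26, 16, 15]⟩,
    ⟨[6, 6, 3, 7], 996, [⟨44, [], [6, 6, 3, 7]⟩, ⟨97, [53, 55, 56, 55, 56], [3, 3, 7, 2, 6, 3, 6, 2, 2, 7, 2, 6, 3, 3]⟩, ⟨78, [40], [6, 6, 3, 7, 2, 2, 6, 2, 7, 2, 7, 7, 3]⟩], [22, 23, 23, 20, 20]⟩,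
    ⟨[7, 7, 7, 3], 283, [⟨44, [], [7, 7, 7, 3]⟩, ⟨96, [53, 55, 52], [6, 6, 2, 7, 7, 2, 2, 7, 7, 2, 2, 7, 2]⟩, ⟨98, [55, 55, 52, 54, 53, 54], [6, 6, 3, 7, 2, 6, 3, 3, 7, 3, 6, 2, 7]⟩], [20, 22, 16]⟩,
    ⟨[2, 2, 7, 3], 374, [⟨44, [], [2, 2, 7, 3]⟩, ⟨96, [52, 54, 54], [6, 3, 7, 2, 2, 2, 7, 2, 7, 7]⟩, ⟨98, [55, 55], [7, 2, 2, 6, 3, 7, 2, 2, 7, 3]⟩], [21, 16, 21, 26, 15]⟩,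
    ⟨[6, 6, 3, 7, 2, 6], 361, [⟨44, [], [6, 6, 3, 7, 2, 6]⟩, ⟨95, [55, 55, 55, 55, 53, 55], [7, 7, 7, 2, 7, 7, 3, 3, 7, 7]⟩, ⟨78, [37, 38], [7, 7, 3, 3, 6, 2, 7, 2, 6, 2]⟩], [21, 26, 16, 26]⟩],
   [([0], [3]), ([0], [8]), ([0], [28]), ([1], [28]), ([0], [536]), ([0], [7]), ([0], [20]), ([1], [20]), ([0], [377]), ([0], [16]), ([1], [42]), ([0], [227]), ([1], [227]), ([0], [395]), ([0], [145]), ([1], [145]), ([0], [282]), ([0], [132]), ([0], [179]), ([0], [126]), ([1], [126]), ([0], [516]), ([0], [998]), ([1], [998]), ([0], [704]), ([0], [996]), ([1], [996]), ([0], [869]), ([1], [283]), ([1], [374])]⟩]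
theorem c_r0_10 : relAll tab 83 1408 HNU.base HNU.ph HNU.phI st rel0 3 om0 es10 cs10 rs0_10 = true := by decide +kernel
def rs0_11 : List RE := [
  ⟨[⟨[], 3, [⟨45, [], []⟩, ⟨74, [36], [7, 3, 6, 2, 7, 3, 6, 6, 3, 7]⟩, ⟨16, [17, 9, 9], [2, 7, 7, 7, 2, 2, 6, 2, 7, 2]⟩], [23, 21, 21, 16]⟩,
    ⟨[3], 8, [⟨45, [], [3]⟩, ⟨88, [35, 38], [2, 2, 7, 7, 3, 3, 6, 3, 7, 3, 6]⟩, ⟨53, [27, 31], [3, 7, 7, 2, 2, 7, 3, 6, 2, 7, 2, 6, 2]⟩], [16, 16, 26, 16, 15]⟩,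
    ⟨[6], 28, [⟨45, [], [6]⟩, ⟨79, [38, 35], [3, 6, 2, 7, 7, 2, 7, 3, 6, 2, 2, 7, 3]⟩, ⟨39, [22, 26, 20], [2, 2, 7, 7, 3, 3, 6, 3, 7, 2, 2, 2, 6]⟩], [15, 16, 22, 16]⟩,
    ⟨[2], 7, [⟨45, [], [2]⟩, ⟨87, [36, 39, 35, 35], [3, 6, 6, 2, 2, 6, 3, 3, 7, 3, 6, 3]⟩, ⟨79, [40, 38], [7, 2, 2, 7, 7, 2, 2, 7, 2, 7, 7]⟩], [20, 15, 26]⟩,
    ⟨[7], 24, [⟨45, [], [7]⟩, ⟨88, [37, 39, 35, 35], [3, 6, 3, 7, 3, 3, 6, 2, 7, 3, 6, 3, 7, 2]⟩, ⟨53, [32, 30], [2, 7, 3, 3, 6, 2, 7, 3, 6, 3, 3, 7, 7]⟩], [26, 21, 23, 15, 16]⟩,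
    ⟨[3, 3], 20, [⟨45, [], [3, 3]⟩, ⟨77, [36], [2, 2, 7, 2, 2, 6, 3, 3, 6, 2, 2, 2, 7]⟩, ⟨63, [38], [6, 6, 3, 6, 6, 3, 7, 2, 2, 6, 3, 7]⟩], [16]⟩,
    ⟨[3, 6], 57, [⟨45, [], [3, 6]⟩, ⟨86, [36, 39], [2, 6, 3, 7, 2, 2]⟩, ⟨98, [52, 55, 55, 53, 55, 53], [2, 7, 2, 6, 2, 2, 7, 3, 6, 3, 7, 2, 7]⟩], [22, 16, 15]⟩,
    ⟨[2, 2], 16, [⟨45, [], [2, 2]⟩, ⟨84, [38, 40], [7, 3, 6, 3, 7, 2, 6, 3, 6, 2, 7, 7, 2, 2]⟩, ⟨56, [27, 32], [2, 7, 3, 6, 3, 7, 2, 6, 2, 2, 7, 7, 3]⟩], [21, 26, 15, 22, 16]⟩,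
    ⟨[7, 7], 61, [⟨45, [], [7, 7]⟩, ⟨91, [38, 37], [7, 7, 3, 3, 7, 2, 2, 7, 3, 3, 7, 2, 2, 2]⟩, ⟨79, [38, 36], [3, 3, 6, 3, 7, 2, 7, 7, 3, 6, 6, 3, 3]⟩], [26, 16, 22, 23]⟩,
    ⟨[2, 2, 2], 42, [⟨45, [], [2, 2, 2]⟩, ⟨86, [39, 39, 35, 35, 38], [6, 2, 2, 7, 3, 3, 7, 2, 2, 7, 2, 2, 6, 2]⟩, ⟨98, [56, 55, 56, 55, 53, 52], [6, 6, 2, 7, 2, 6, 3, 6, 2, 7, 3, 3]⟩], [20, 23, 20, 20]⟩,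
    ⟨[3, 3, 6], 227, [⟨45, [], [3, 3, 6]⟩, ⟨77, [40], [6, 6, 3, 7, 2, 6, 3, 6, 2, 2, 7, 2, 2]⟩, ⟨78, [38, 37, 38], [7, 2, 2, 7, 3, 3, 7, 3, 6, 3, 7, 7, 2, 2, 7]⟩], [26, 15, 21, 23]⟩,
    ⟨[6, 6, 3], 145, [⟨45, [], [6, 6, 3]⟩, ⟨82, [36, 36, 35, 35], [2, 2, 2, 6, 3, 3, 7, 2, 7, 3, 6, 3, 3]⟩, ⟨98, [55, 55, 55, 55, 55, 53], [2, 2, 2, 6, 3, 7, 2, 2, 2, 6]⟩], [26, 22, 23, 20, 20]⟩,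
    ⟨[7, 7, 7], 132, [⟨45, [], [7, 7, 7]⟩, ⟨89, [40, 39, 40, 36], [3, 3, 7, 7, 2, 7, 3, 6, 3, 7, 3, 6]⟩, ⟨78, [37, 40, 40], [2, 2, 6, 2, 7, 2, 7, 3, 6, 2, 7, 2]⟩], [22, 26, 16, 21, 16]⟩,
    ⟨[2, 2, 7], 179, [⟨45, [], [2, 2, 7]⟩, ⟨76, [35], [3, 6, 3, 7, 7, 7, 2, 2, 2, 7]⟩, ⟨98, [54, 52, 54, 56], [7, 2, 6, 3, 3, 7, 7, 2, 2, 6, 2, 7, 3]⟩], [21, 20]⟩,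
    ⟨[2, 2, 2, 6], 398, [⟨45, [], [2, 2, 2, 6]⟩, ⟨90, [40, 38, 36], [7, 7, 2, 6, 2, 7, 3, 6, 6, 2, 7, 7, 2]⟩, ⟨78, [39, 35, 39], [3, 7, 2, 6, 3, 3, 6, 6, 2, 7, 2, 2]⟩], [20, 23, 22, 26, 20]⟩,
    ⟨[2, 2, 2, 7], 395, [⟨45, [], [2, 2, 2, 7]⟩, ⟨76, [39, 35, 39, 35], [6, 3, 6, 6, 3, 7, 7, 2, 7]⟩, ⟨98, [52, 55, 55, 56], [2, 2, 2, 6, 3, 7, 2, 2, 6, 3, 7]⟩], [22, 23, 23, 20, 20]⟩,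
    ⟨[6, 6, 3, 7], 996, [⟨45, [], [6, 6, 3, 7]⟩, ⟨91, [38], [3, 3, 6, 6, 2, 2, 6, 2, 7, 2, 7, 3, 6, 2]⟩, ⟨78, [35, 35], [3, 7, 2, 2, 7, 3, 6, 3, 3, 7, 3]⟩], [21, 16, 21, 26]⟩,
    ⟨[2, 2, 2, 6, 2], 710, [⟨45, [], [2, 2, 2, 6, 2]⟩, ⟨66, [38], [7, 2, 6, 2, 2, 7, 3, 6, 2, 7, 7]⟩, ⟨28, [9, 25, 9, 9, 12], [3, 3, 7, 2, 2, 7, 3, 6, 2, 7, 2]⟩], [23, 21, 23, 16, 16, 15]⟩,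
    ⟨[2, 2, 2, 7, 3], 704, [⟨45, [], [2, 2, 2, 7, 3]⟩, ⟨87, [36, 39], [3, 7, 2, 7, 2, 2, 2, 7, 3, 6]⟩, ⟨78, [39, 40, 39], [6, 2, 2, 6, 3, 3, 6, 6, 2, 7, 2, 7]⟩], [22, 20, 20]⟩,
    ⟨[2, 2, 2, 7, 2], 703, [⟨45, [], [2, 2, 2, 7, 2]⟩, ⟨70, [40], [6, 2, 7, 7, 3, 3, 7, 7, 2, 2, 7]⟩, ⟨78, [38, 36], [2, 6, 2, 7, 3, 3, 6, 2, 2, 7, 2, 6]⟩], [22, 15]⟩],
   [([0], [3]), ([0], [8]), ([1], [8]), ([0], [269]), ([0], [28]), ([0], [7]), ([1], [7]), ([0], [69]), ([0], [24]), ([1], [24]), ([0], [869]), ([0], [57]), ([1], [57]), ([0], [655]), ([0], [16]), ([0], [61]), ([1], [61]), ([0], [452]), ([0], [42]), ([1], [42]), ([0], [711]), ([0], [227]), ([1], [227]), ([0], [536]), ([0], [132]), ([1], [179]), ([1],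 [398]), ([0], [395]), ([1], [996]), ([0], [704])]⟩,
  ⟨[⟨[], 3, [⟨46, [], []⟩, ⟨55, [32, 30], [7, 3, 6, 3, 3, 7, 2, 2, 2, 6, 2, 2]⟩, ⟨80, [40, 38], [6, 3, 6, 2, 7, 3, 3, 7, 2, 2, 7, 7, 3]⟩], [34, 28, 28]⟩,
    ⟨[2], 7, [⟨46, [], [2]⟩, ⟨51, [31, 32], [3, 7, 7, 7, 2, 7, 7, 3, 6, 2, 2]⟩, ⟨58, [32, 29, 27], [7, 2, 2, 6, 3, 7, 2, 7, 3, 6, 3, 3, 6]⟩], [34, 29, 30]⟩],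
   [([0], [3]), ([1], [3]), ([2], [3]), ([0], [1102, 269]), ([1], [374, 269]), ([2], [1102, 269]), ([0], [145, 463, 179, 632]), ([1], [179, 596]), ([2], [145, 463, 179, 632]), ([0], [789, 464, 57]), ([1], [464, 566]), ([0], [7]), ([1], [7]), ([2], [7]), ([0], [516, 162, 272]), ([1], [516, 162, 272]), ([2], [516, 162, 272]), ([0], [317, 69, 395, 711, 165]), ([1], [69, 395, 165, 361]), ([0], [61, 377]), ([1], [126])]⟩,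
  ⟨[⟨[], 3, [⟨47, [], []⟩, ⟨58, [28, 27, 27], [2, 7, 3, 6, 6, 2, 2, 2, 7]⟩, ⟨51, [27, 27], [7, 2, 7, 7, 2, 2, 7, 3, 3, 6, 3, 7, 3, 6]⟩], [33, 29]⟩,
    ⟨[2], 7, [⟨47, [], [2]⟩, ⟨54, [31, 32], [2, 2, 6, 3, 3, 7, 7, 2, 7, 2, 6, 2, 2, 2]⟩, ⟨83, [38, 40, 39, 35], [6, 2, 7, 3, 6, 6, 2, 7, 3, 6, 2, 2, 2]⟩], [29, 28, 34, 27]⟩],
   [([0], [3]), ([1], [3]), ([2], [3]), ([0], [464]), ([1], [566, 126, 464]), ([0], [1110, 632, 596]), ([1], [710, 632, 596]), ([2], [596]), ([0], [704, 996, 998, 872, 361]), ([1], [536, 872]), ([0], [57, 789]), ([1], [61]), ([0], [7]), ([1], [7]), ([0], [377, 655]), ([1], [655]), ([2], [377, 655]), ([0], [69, 374]), ([1], [69, 24, 317, 703]), ([0], [145, 463, 452]), ([1],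 [373, 282, 452]), ([2], [145]), ([0], [162, 711]), ([1], [269]), ([0], [179])]⟩,
  ⟨[⟨[], 3, [⟨48, [], []⟩, ⟨52, [29, 27], [7, 2, 2, 7, 7, 2, 6, 6, 3, 7, 2, 6, 3, 7]⟩, ⟨72, [40, 38], [3, 7, 7, 7, 2, 2, 6, 6, 3, 6, 2, 7]⟩], [28, 28, 27]⟩,
    ⟨[2], 7, [⟨48, [], [2]⟩, ⟨56, [29, 28], [2, 2, 7, 7, 2, 7, 3, 6, 6, 2, 7, 2, 2]⟩, ⟨40, [16, 15, 16], [7, 2, 6, 3, 3, 7, 7, 2, 7, 2, 6, 2, 2, 7]⟩], [27, 34, 30]⟩],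
   [([0], [3]), ([1], [3]), ([2], [3]), ([0], [28, 869, 998]), ([1], [28, 869, 998]), ([2], [28, 869, 998]), ([0], [632, 704, 57, 596, 710, 872]), ([1], [710, 872]), ([2], [57]), ([0], [996, 536, 227]), ([0], [7]), ([1], [7]), ([2], [7]), ([0], [69, 282, 20]), ([1], [20]), ([2], [69, 20]), ([0], [24, 377, 272, 165, 655, 42]), ([1], [272, 655]), ([2], [377, 272, 165]), ([0], [374, 179, 703, 145])]⟩]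
theorem c_r0_11 : relAll tab 83 1408 HNU.base HNU.ph HNU.phI st rel0 3 om0 es11 cs11 rs0_11 = true := by decide +kernel
def rs0_12 : List RE := [
  ⟨[⟨[], 3, [⟨49, [], []⟩, ⟨20, [], [3, 7, 2, 7, 3, 3, 6, 6, 3, 7, 7, 2, 2]⟩, ⟨11, [2, 6, 2, 7], [7, 2, 7, 3, 6, 2, 7, 2, 6, 3, 3, 6, 3, 7, 2]⟩], [29, 32, 29, 30]⟩,
    ⟨[3], 8, [⟨49, [], [3]⟩, ⟨25, [10, 17, 13, 5], [2, 6, 3, 6, 2, 7, 7, 2, 6, 6, 3, 3]⟩, ⟨61, [33, 30, 34, 27], [3, 7, 2, 2, 7, 7, 3, 6, 3, 7, 3, 3, 7]⟩], [29, 32, 32]⟩,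
    ⟨[2], 7, [⟨49, [], [2]⟩, ⟨22, [9, 13, 5], [3, 3, 6, 3, 3, 7, 7, 3]⟩, ⟨80, [39, 37], [3, 6, 2, 7, 2, 2, 7, 3, 6, 3, 7, 7, 2]⟩], [33, 30, 34, 27]⟩,
    ⟨[7], 24, [⟨49, [], [7]⟩, ⟨17, [17, 9, 9], [7, 3, 6, 3, 7, 2, 6, 3, 7, 2, 7]⟩, ⟨25, [17, 5, 9, 13], [3, 7, 2, 6, 2, 2, 2, 6, 2, 7, 3]⟩], [29, 32]⟩,
    ⟨[3, 3], 20, [⟨49, [], [3, 3]⟩, ⟨18, [18, 18, 8], [7, 7, 3, 3, 7, 2, 2, 2, 6, 2, 7, 2, 7]⟩, ⟨88, [40, 40, 36], [7, 7, 2, 6, 3, 7, 2, 2, 6, 6, 3, 6, 2, 2, 2]⟩], [32, 32, 31, 30]⟩,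
    ⟨[3, 6], 57, [⟨49, [], [3, 6]⟩, ⟨25, [5, 8, 9, 18], [2, 7, 2, 6, 6, 2, 7, 7, 2, 6]⟩, ⟨58, [27, 28], [3, 3, 6, 2, 7, 3, 6, 3, 7]⟩], [34, 28, 34, 27]⟩,
    ⟨[2, 2], 16, [⟨49, [], [2, 2]⟩, ⟨19, [9, 9], [3, 3, 6, 2, 7, 2, 2, 6, 6, 3, 3, 6, 2]⟩, ⟨83, [], [3, 6, 3, 3, 6, 2, 2, 6, 3, 3, 7, 2]⟩], [28, 31]⟩,
    ⟨[2, 2, 2], 42, [⟨49, [], [2, 2, 2]⟩, ⟨22, [18, 5, 9, 13], [6, 3, 7, 7, 2, 2, 7, 7, 3, 6, 3, 7, 3]⟩, ⟨88, [], [6, 3, 3, 7, 2, 7, 7, 3, 6, 6, 3, 7, 7]⟩], [29, 29, 27]⟩,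
    ⟨[3, 3, 7], 127, [⟨49, [], [3, 3, 7]⟩, ⟨22, [5, 17, 18, 17, 9], [7, 3, 3, 7, 2, 7, 7, 3, 6, 2]⟩, ⟨84, [36, 40, 36, 40], [6, 3, 7, 7, 2, 6, 6, 2, 7, 7, 7, 2, 7]⟩], [33, 30, 34, 27]⟩,
    ⟨[2, 2, 2, 6], 398, [⟨49, [], [2, 2, 2, 6]⟩, ⟨25, [5, 10], [3, 7, 2, 6, 3, 7, 3, 3, 7, 2, 2, 2]⟩, ⟨61, [31, 28, 31], [3, 6, 2, 2, 7, 7, 2, 6, 3, 7, 7, 2, 7]⟩], [33, 33, 32]⟩,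
    ⟨[3, 3, 6, 2, 7, 3], 269, [⟨49, [], [3, 3, 6, 2, 7, 3]⟩, ⟨21, [18], [6, 3, 6, 2, 7, 7, 2, 6, 3, 7]⟩, ⟨40, [26, 15, 21], [3, 6, 2, 2, 6, 2, 7, 2, 2, 2, 7, 2]⟩], [33, 30, 34, 27]⟩,
    ⟨[3, 3, 6, 2, 7, 3, 6, 3], 632, [⟨49, [], [3, 3, 6, 2, 7, 3, 6, 3]⟩, ⟨16, [13, 17], [2, 7, 3, 6, 2, 7, 2, 7, 7, 3, 3]⟩, ⟨41, [26, 22, 15], [6, 3, 7, 3, 3, 7, 2, 2, 7, 7, 3, 6, 2]⟩], [33, 33, 27]⟩],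
   [([0], [8]), ([1], [8]), ([0], [655, 1110]), ([1], [655]), ([0], [464, 179]), ([1], [464, 179]), ([0], [7]), ([1], [7]), ([0], [395, 869]), ([0], [24]), ([1], [24]), ([0], [516, 710]), ([0], [20]), ([1], [20]), ([0], [377]), ([1], [377]), ([0], [42]), ([0], [317]), ([0], [132]), ([1], [132]), ([0], [127]), ([1], [127]), ([0], [162]), ([1], [162]), ([0], [398]), ([1], [398]), ([0], [704, 596]), ([1], [704]), ([0], [283, 998]), ([1], [283, 998])]⟩,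
  ⟨[⟨[], 3, [⟨50, [], []⟩, ⟨9, [3, 3, 7, 2, 6, 2, 2, 2], [2, 7, 2, 7, 7, 3, 3, 6, 2, 7, 2, 2, 7]⟩, ⟨25, [5, 17, 18, 9], [7, 3, 6, 6, 2, 2, 7, 2, 2, 6, 2, 7, 7]⟩], [31, 27, 33, 27]⟩,
    ⟨[2], 7, [⟨50, [], [2]⟩, ⟨10, [6, 2, 7, 3, 6, 2, 2], [7, 7, 7, 3, 6, 6, 2, 2, 6, 6, 3, 6, 6]⟩, ⟨41, [15, 20], [7, 7, 3, 6, 2, 7, 7, 7, 2, 2, 7, 2, 7]⟩], [34, 28, 27, 27]⟩],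
   [([0], [3]), ([1], [3]), ([2], [3]), ([0], [8, 16]), ([1], [8, 655, 16]), ([2], [8, 655, 16]), ([0], [145, 374, 282, 28]), ([1], [596, 374, 57]), ([2], [145, 596, 374, 536]), ([0], [463, 1110]), ([0], [7]), ([1], [7]), ([2], [7]), ([0], [872, 703, 165]), ([1], [872, 703, 165]), ([2], [872, 703, 165]), ([0], [395, 317, 132, 126, 24]), ([1], [317, 377, 516, 132, 24]), ([2], [996]), ([0], [710])]⟩,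
  ⟨[⟨[], 3, [⟨51, [], []⟩, ⟨58, [32, 29, 27], [3, 7, 7, 3, 3, 6, 3, 7, 2, 6, 2, 7]⟩, ⟨46, [33], [7, 7, 2, 2, 2, 7, 2, 2, 7, 2, 7, 7, 7]⟩], [32, 33, 33, 30]⟩,
    ⟨[3], 8, [⟨51, [], [3]⟩, ⟨59, [31, 32, 33, 27], [3, 3, 6, 3, 7, 2, 7, 3, 6, 2, 2, 2, 7]⟩, ⟨99, [56, 55, 56, 55], [2, 2, 7, 3, 3, 6, 2, 2, 6, 2, 2, 6, 6]⟩], [34, 30, 33]⟩,
    ⟨[2], 7, [⟨51, [], [2]⟩, ⟨60, [34, 32], [6, 2, 2, 7, 2, 6, 3, 3, 7, 7, 3]⟩, ⟨72, [35, 35], [2, 2, 6, 3, 6, 2, 7, 2, 6, 3, 6, 6]⟩], [34, 28, 27, 27]⟩,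
    ⟨[7], 24, [⟨51, [], [7]⟩, ⟨61, [29, 28, 29, 30], [2, 7, 3, 6, 6, 2, 2, 6, 6, 3, 3]⟩, ⟨51, [27], [3, 7, 2, 6, 6, 3, 7, 2, 6, 3, 7, 2, 2]⟩], [28, 27, 32]⟩,
    ⟨[3, 3], 20, [⟨51, [], [3, 3]⟩, ⟨52, [27], [6, 3, 6, 2, 2, 2, 6, 3, 7, 3, 3]⟩, ⟨84, [36, 40], [2, 7, 3, 6, 3, 7, 3, 3, 6, 2, 2, 7]⟩], [30, 29, 32, 27]⟩,
    ⟨[3, 6], 57, [⟨51, [], [3, 6]⟩, ⟨55, [32, 29, 30], [2, 6, 3, 7, 7, 2, 6, 3, 7, 3, 3, 6, 2, 2]⟩, ⟨83, [38, 35], [6, 2, 2, 6, 3, 3, 7, 7, 2, 7, 7, 2]⟩], [29, 30, 28, 27]⟩,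
    ⟨[7, 7], 61, [⟨51, [], [7, 7]⟩, ⟨56, [27, 27], [2, 2, 7, 2, 6, 3, 3, 7, 3, 3, 7, 7, 2]⟩, ⟨41, [21, 26, 16], [2, 2, 7, 3, 3, 7, 2, 2, 7, 3, 6, 3, 7]⟩], [27, 31, 31]⟩,
    ⟨[2, 2, 2], 42, [⟨51, [], [2, 2, 2]⟩, ⟨60, [34, 32, 27], [7, 2, 7, 2, 2, 2]⟩, ⟨84, [39, 37], [3, 7, 7, 7, 3, 6, 6, 2, 7, 7, 2, 6]⟩], [27, 34, 34]⟩,
    ⟨[3, 3, 7], 127, [⟨51, [], [3, 3, 7]⟩, ⟨51, [29, 27], [3, 7, 2, 7, 3, 6, 3, 7, 2, 6, 3, 6]⟩, ⟨61, [33, 33, 32, 27], [6, 2, 7, 2, 7, 3, 6, 6, 3, 3, 7, 2]⟩], [28, 31, 30]⟩,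
    ⟨[2, 2, 2, 6], 398, [⟨51, [], [2, 2, 2, 6]⟩, ⟨59, [33, 27, 31], [6, 2, 7, 2, 7, 7, 2, 2, 2, 7, 2, 2]⟩, ⟨99, [53, 54, 53, 55], [2, 2, 6, 6, 3, 3, 7, 3, 6, 3, 7, 2, 6, 2, 2]⟩], [34, 29, 34, 28]⟩,
    ⟨[6, 6, 3, 7, 2, 6], 361, [⟨51, [], [6, 6, 3, 7, 2, 6]⟩, ⟨47, [33], [7, 2, 6, 3, 7, 7, 2, 6, 2, 2, 6, 3, 7]⟩, ⟨58, [28, 30], [7, 7, 2, 7, 7, 7, 2, 2, 2, 6, 2, 7, 2]⟩], [32, 32, 31, 27]⟩,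
    ⟨[3, 3, 6, 2, 7, 3, 6, 3], 632, [⟨51, [], [3, 3, 6, 2, 7, 3, 6, 3]⟩, ⟨53, [], [6, 3, 7, 2, 6, 2, 2, 2, 6, 2]⟩, ⟨40, [16, 16, 15, 16], [7, 2, 6, 3, 7, 7, 2, 6, 3, 7, 2, 7]⟩], [32, 29]⟩],
   [([0], [8]), ([1], [8]), ([0], [126, 516]), ([1], [126]), ([0], [395, 566]), ([1], [395, 566]), ([0], [7]), ([1], [7]), ([0], [1102]), ([1], [1102]), ([0], [24]), ([1], [24]), ([0], [373]), ([1], [373]), ([0], [20]), ([1], [20]), ([0], [69, 272]), ([0], [42]), ([1], [42]), ([0], [317]), ([0], [452]), ([0], [127]), ([0], [165]), ([0], [162]), ([1], [162]), ([0], [398]), ([1], [398]), ([0], [283, 596]), ([1], [283]), ([0], [996, 789]), ([1], [996, 789])]⟩,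
  ⟨[⟨[], 3, [⟨52, [], []⟩, ⟨72, [40, 38], [2, 6, 6, 2, 2, 7, 3, 3, 7, 2, 2]⟩, ⟨48, [], [2, 6, 6, 2, 7, 7, 2, 6, 6, 2]⟩], [32, 31, 28]⟩,
    ⟨[3], 8, [⟨52, [], [3]⟩, ⟨89, [37, 35], [2, 2, 7, 2, 2, 6, 2, 2, 7, 2, 2]⟩, ⟨84, [38, 37], [2, 6, 6, 3, 7, 7, 2, 2, 7, 7, 3, 6]⟩], [30, 29, 30]⟩,
    ⟨[2], 7, [⟨52, [], [2]⟩, ⟨84, [39, 40, 36, 39], [6, 3, 6, 6, 2, 2, 7, 2, 6, 3, 7, 7, 7, 3]⟩, ⟨51, [30, 30], [7, 3, 3, 6, 2, 2, 2, 6, 6, 2]⟩], [31, 32, 32]⟩,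
    ⟨[7], 24, [⟨52, [], [7]⟩, ⟨85, [36, 39], [7, 7, 3, 3, 7, 3, 6, 2, 7, 2, 6, 2, 7, 2]⟩, ⟨72, [40], [7, 3, 6, 2, 2, 2, 7, 2, 2, 6, 6, 2, 2]⟩], [34, 31, 28, 27]⟩,
    ⟨[3, 3], 20, [⟨52, [], [3, 3]⟩, ⟨82, [35, 39], [2, 7, 7, 7, 3, 6, 6, 2, 2]⟩, ⟨99, [54, 54, 54, 54, 54], [7, 7, 3, 3, 7, 7, 2, 7, 3, 3, 7]⟩], [34, 27, 33, 28]⟩,
    ⟨[3, 6], 57, [⟨52, [], [3, 6]⟩, ⟨63, [], [3, 6, 6, 2, 2, 2, 6, 2, 7, 3, 6, 2]⟩, ⟨40, [26, 16, 16], [3, 7, 3, 6, 3, 7, 2, 6, 3, 6, 2]⟩], [29, 28, 30]⟩,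
    ⟨[7, 7], 61, [⟨52, [], [7, 7]⟩, ⟨80, [39, 36], [7, 3, 3, 6, 6, 3, 7, 2, 6, 3, 3, 6]⟩, ⟨58, [27, 31], [2, 7, 2, 2, 7, 3, 6, 2, 2, 2, 7, 2]⟩], [29, 27, 32]⟩,
    ⟨[2, 2, 2], 42, [⟨52, [], [2, 2, 2]⟩, ⟨86, [39, 35, 35, 38], [7, 7, 2, 2, 6, 3, 7, 2, 2, 6, 3, 3, 7]⟩, ⟨99, [54, 54, 54, 54, 54], [7, 2, 7, 7, 3, 6, 6, 2, 2, 6, 2, 2, 2]⟩], [31, 31]⟩,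
    ⟨[3, 3, 7], 127, [⟨52, [], [3, 3, 7]⟩, ⟨69, [38], [6, 2, 7, 7, 2, 7, 3, 6, 2, 2, 7, 2, 6]⟩, ⟨88, [39, 37, 40], [2, 7, 2, 7, 3, 6, 6, 3, 6, 6]⟩], [29, 32, 27, 27]⟩,
    ⟨[2, 2, 2, 6], 398, [⟨52, [], [2, 2, 2, 6]⟩, ⟨90, [37, 39, 39], [7, 3, 6, 6, 3, 6, 6, 2, 7, 2, 6, 3, 6]⟩, ⟨84, [38, 37], [7, 7, 3, 6, 6, 3, 7, 7, 3, 6, 6, 2, 2, 7, 2]⟩], [34, 34, 31, 28]⟩,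
    ⟨[6, 6, 3, 7, 2, 6], 361, [⟨52, [], [6, 6, 3, 7, 2, 6]⟩, ⟨79, [35], [2, 7, 7, 2, 2, 6, 2, 2, 7, 7, 2, 2]⟩, ⟨41, [16, 26, 21], [6, 3, 6, 2, 7, 3, 3, 6, 3, 7, 2, 2]⟩], [28, 31, 31, 28]⟩,
    ⟨[3, 3, 6, 2, 7, 3, 6, 3], 632, [⟨52, [], [3, 3, 6, 2, 7, 3, 6, 3]⟩, ⟨68, [38, 36, 39], [2, 7, 2, 2, 6, 3, 3, 6, 2, 2, 6, 2, 7]⟩, ⟨83, [40, 38, 38], [3, 3, 7, 7, 2, 7, 3, 3, 6, 3, 7, 3, 6]⟩], [28, 34, 34, 28]⟩],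
   [([0], [8]), ([1], [8]), ([0], [126, 566]), ([1], [126]), ([0], [395, 998]), ([1], [395, 998]), ([0], [7]), ([0], [1102]), ([1], [1102]), ([0], [655]), ([0], [24]), ([0], [373]), ([1], [373]), ([0], [282]), ([0], [20]), ([1], [20]), ([0], [69]), ([1], [69]), ([0], [42]), ([1], [42]), ([0], [132, 452]), ([0], [127]), ([1], [127]), ([0], [162]), ([0], [711]), ([0], [398]), ([1], [398]), ([0], [283, 789]), ([1], [283]), ([0], [996, 872]), ([1], [996, 872])]⟩]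
theorem c_r0_12 : relAll tab 83 1408 HNU.base HNU.ph HNU.phI st rel0 3 om0 es12 cs12 rs0_12 = true := by decide +kernel
def rs0_13 : List RE := [
  ⟨[⟨[], 3, [⟨53, [], []⟩, ⟨34, [], [7, 2, 6, 3, 7, 2, 2, 6, 3, 6, 2, 7, 2, 2]⟩, ⟨11, [7, 7, 2, 7, 2, 2], [3, 7, 7, 2, 6, 3, 7, 3, 6, 2, 7, 7, 2, 2]⟩], [31, 28, 28, 27]⟩,
    ⟨[3], 8, [⟨53, [], [3]⟩, ⟨40, [15, 21, 23], [6, 2, 7, 7, 2, 6, 3, 7, 2, 2, 6, 6, 3, 6]⟩, ⟨61, [32, 30, 30], [7, 7, 3, 3, 7, 7, 2, 7]⟩], [32, 32]⟩,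
    ⟨[6], 28, [⟨53, [], [6]⟩, ⟨33, [26, 21, 20], [7, 7, 2, 2, 6, 6, 3, 6, 6, 2, 2]⟩, ⟨25, [18, 17, 13], [6, 2, 7, 3, 6, 2, 7, 7, 2, 2]⟩], [28, 28, 31, 27]⟩,
    ⟨[2], 7, [⟨53, [], [2]⟩, ⟨39, [23, 21, 20, 15], [3, 6, 3, 7, 2, 2, 7, 2, 7, 7, 2, 2, 2]⟩, ⟨40, [21, 26, 20], [2, 6, 3, 7, 2, 7, 7, 3, 3, 7, 7, 2, 2]⟩], [28, 34, 34, 28]⟩,
    ⟨[7], 24, [⟨53, [], [7]⟩, ⟨43, [21, 21, 16, 16], [7, 2, 7, 3, 6, 2, 2, 7, 3, 3, 7, 3, 6, 2]⟩, ⟨83, [36, 38, 38], [6, 2, 2, 7, 3, 6, 2, 7, 7, 2, 7]⟩], [28, 27, 32]⟩,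
    ⟨[3, 6], 57, [⟨53, [], [3, 6]⟩, ⟨44, [21, 20, 15, 20], [7, 3, 3, 6, 2, 7, 3, 3, 7, 3, 3]⟩, ⟨99, [54, 53, 55], [2, 7, 7, 7, 2, 2, 6, 3, 3, 6, 2, 7, 7]⟩], [27, 31]⟩,
    ⟨[6, 6], 69, [⟨53, [], [6, 6]⟩, ⟨45, [22, 26, 21, 16], [2, 2, 2, 7, 7, 7, 2, 7, 2, 2, 7]⟩, ⟨88, [40, 38], [7, 7, 2, 6, 2, 2, 7, 7, 2, 2, 7, 2, 2]⟩], [32, 33, 33]⟩,
    ⟨[2, 2], 16, [⟨53, [], [2, 2]⟩, ⟨45, [15, 23, 20], [2, 7, 7, 2, 6, 2, 7, 3, 6, 6, 3, 3]⟩, ⟨88, [39, 35, 35], [7, 2, 2, 6, 6, 3, 7, 7, 3, 3, 6, 2]⟩], [28, 27, 27, 27]⟩,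
    ⟨[3, 3, 7], 127, [⟨53, [], [3, 3, 7]⟩, ⟨40, [16, 16, 15, 16], [7, 7, 7, 3, 6, 6, 2, 2, 6, 6, 2, 2, 2]⟩, ⟨51, [32, 29], [7, 2, 6, 3, 7, 7, 7, 3, 6, 2, 7, 2, 7]⟩], []⟩,
    ⟨[3, 3, 6, 2], 463, [⟨53, [], [3, 3, 6, 2]⟩, ⟨41, [15, 16, 16, 15], [6, 2, 7, 3, 3, 7, 2, 2, 7, 3, 3, 7, 3, 6]⟩, ⟨61, [31, 27, 27], [2, 6, 6, 3, 3, 6, 6, 2, 7, 7, 2, 7]⟩], [30, 29, 32, 27]⟩,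
    ⟨[6, 6, 3, 7, 2, 6, 3], 566, [⟨53, [], [6, 6, 3, 7, 2, 6, 3]⟩, ⟨38, [16, 16], [6, 6, 2, 2, 6, 2, 7, 7, 2, 2, 6, 6, 2]⟩, ⟨80, [39, 39, 35], [6, 2, 2, 7, 2, 6, 3, 7, 2, 2, 6, 2]⟩], [32, 32, 27]⟩,
    ⟨[2, 2, 7, 3, 6, 2, 2], 162, [⟨53, [], [2, 2, 7, 3, 6, 2, 2]⟩, ⟨43, [22, 23, 16], [6, 6, 3, 3, 7, 2, 2, 7, 2, 2]⟩, ⟨72, [], [3, 3, 6, 2, 2, 6, 3, 3, 7, 7, 7, 3]⟩], [28, 33, 28, 27]⟩],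
   [([0], [8]), ([1], [8]), ([0], [373]), ([0], [710]), ([0], [7]), ([1], [7]), ([0], [20]), ([0], [452]), ([0], [24]), ([1], [24]), ([0], [272]), ([0], [132]), ([0], [57]), ([0], [703]), ([0], [165]), ([1], [165]), ([0], [69]), ([1], [69]), ([0], [42, 998]), ([1], [42]), ([0], [789, 398]), ([1], [789, 398]), ([0], [16]), ([1], [16]), ([0], [269, 464]), ([1], [269]), ([0], [395, 655]), ([1], [395, 655]), ([0], [463]), ([1], [463]), ([0], [536]), ([1], [536])]⟩,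
  ⟨[⟨[], 3, [⟨54, [], []⟩, ⟨83, [38, 40, 39, 35], [3, 6, 6, 2, 7, 3, 6, 2, 2, 2, 6, 3, 7, 2]⟩, ⟨47, [33], [7, 7, 3, 6, 3, 7, 3, 6, 2, 7, 7, 2, 7]⟩], [31, 30, 29]⟩,
    ⟨[3], 8, [⟨54, [], [3]⟩, ⟨91, [40, 38], [2, 2, 7, 2, 7, 7, 3, 3, 7, 2, 2, 7, 7, 2]⟩, ⟨88, [39], [3, 7, 2, 6, 3, 7, 2, 7, 2, 6, 2, 2, 7]⟩], [29]⟩,
    ⟨[2], 7, [⟨54, [], [2]⟩, ⟨74, [40], [3, 6, 6, 3, 3, 7, 7, 3, 3, 6, 2, 7, 2]⟩, ⟨25, [10, 5, 10, 18], [6, 6, 2, 7, 3, 6, 3, 3, 7, 2, 2]⟩], [30, 29, 30]⟩,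
    ⟨[7], 24, [⟨54, [], [7]⟩, ⟨77, [39, 35, 39], [6, 6, 2, 7, 3, 6, 2, 2, 2]⟩, ⟨80, [35, 37], [6, 6, 2, 2, 2, 7, 7, 3]⟩], [27, 31]⟩,
    ⟨[3, 3], 20, [⟨54, [], [3, 3]⟩, ⟨88, [38, 35, 35], [2, 7, 2, 2, 7, 2, 2, 6, 6, 2, 2, 7]⟩, ⟨61, [28, 31, 31], [6, 3, 7, 7, 2, 7, 3, 6, 2, 2, 2]⟩], [30, 29, 32]⟩,
    ⟨[3, 6], 57, [⟨54, [], [3, 6]⟩, ⟨62, [38], [6, 3, 7, 2, 2, 6, 6, 3, 3, 7, 3, 6]⟩, ⟨41, [16, 22, 16], [3, 6, 2, 2, 2, 6, 6, 3, 7, 2, 6, 3]⟩], [28, 29, 30]⟩,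
    ⟨[2, 2], 16, [⟨54, [], [2, 2]⟩, ⟨71, [36], [2, 7, 7, 2, 7, 7, 2, 6, 3, 6, 2]⟩, ⟨40, [26, 16, 16], [2, 2, 2, 6, 3, 3, 7, 7, 3, 3, 6, 3, 7]⟩], [31, 32, 31, 30]⟩,
    ⟨[2, 2, 2], 42, [⟨54, [], [2, 2, 2]⟩, ⟨84, [36, 36, 39, 35], [6, 3, 7, 7, 7, 2, 7, 3, 6, 6]⟩, ⟨61, [30, 28, 27], [7, 3, 3, 6, 6, 3, 6, 2, 2, 7, 2, 2]⟩], [34, 27, 33, 28]⟩,
    ⟨[3, 3, 7], 127, [⟨54, [], [3, 3, 7]⟩, ⟨86, [40, 36, 39, 35, 35], [6, 6, 3, 7, 3, 3, 7, 2, 7, 7, 3, 3, 6]⟩, ⟨99, [55, 53, 55, 53, 54, 54], [6, 3, 7, 7, 2, 6, 3, 7, 2, 2, 2, 7, 2]⟩], [32, 30, 28, 27]⟩,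
    ⟨[2, 2, 2, 6], 398, [⟨54, [], [2, 2, 2, 6]⟩, ⟨87, [37, 39, 35], [2, 2, 6, 3, 7, 2, 2, 6, 3, 3, 6, 6, 3]⟩, ⟨88, [36, 38, 35, 35], [3, 6, 2, 7, 3, 6, 6, 2, 7, 7, 2, 7]⟩], [33, 32, 33]⟩,
    ⟨[3, 3, 6, 2, 7, 3], 269, [⟨54, [], [3, 3, 6, 2, 7, 3]⟩, ⟨69, [40, 40], [3, 3, 6, 6, 3, 7, 7, 2, 6, 3, 6, 6, 3]⟩, ⟨83, [38, 40, 39], [7, 2, 7, 2, 2, 2, 6, 2]⟩], [29, 27, 31]⟩,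
    ⟨[3, 3, 6, 2, 7, 3, 6, 3], 632, [⟨54, [], [3, 3, 6, 2, 7, 3, 6, 3]⟩, ⟨72, [35, 37], [2, 7, 7, 2, 2, 7, 3]⟩, ⟨58, [33, 30], [2, 2, 7, 2, 2, 7, 3, 6, 3, 7, 2, 6, 2]⟩], [33, 27, 34, 27]⟩],
   [([0], [8]), ([1], [8]), ([0], [655]), ([1], [566, 655]), ([0], [28, 464]), ([1], [28, 464]), ([1], [7]), ([0], [395]), ([1], [395]), ([0], [996]), ([1], [24]), ([0], [516]), ([1], [516]), ([0], [872]), ([0], [20]), ([1], [377]), ([0], [69]), ([1], [69]), ([0], [42]), ([1], [42]), ([0], [317]), ([1], [452]), ([0], [127]), ([1], [162]), ([0], [711]), ([1], [711]), ([0], [398]), ([1], [398]), ([0], [704]), ([1], [789, 704]), ([0], [374, 283]), ([1], [374, 283])]⟩,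
  ⟨[⟨[], 3, [⟨55, [], []⟩, ⟨80, [40, 38], [3, 7, 2, 6, 3, 6, 2, 7, 3, 6, 6]⟩, ⟨46, [33], [7, 2, 6, 3, 3, 7, 3, 6, 3, 7, 2, 2, 2]⟩], [29, 28, 30]⟩,
    ⟨[3], 8, [⟨55, [], [3]⟩, ⟨68, [38, 36, 39], [2, 6, 3, 6, 6, 3, 7, 7, 7, 2, 7, 7, 2]⟩, ⟨72, [40], [3, 7, 2, 2, 7, 2, 6, 3, 6, 2, 7, 3, 3]⟩], [30, 33, 31, 27]⟩,
    ⟨[6], 28, [⟨55, [], [6]⟩, ⟨76, [35, 39], [7, 3, 6, 2, 7, 3, 6, 3, 7, 2]⟩, ⟨99, [55, 55, 56, 54, 54, 53], [3, 6, 3, 7, 2, 6, 3, 7, 2, 2, 6, 3, 7, 2]⟩], [31, 28, 30]⟩,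
    ⟨[2], 7, [⟨55, [], [2]⟩, ⟨79, [36, 35, 35], [6, 3, 3, 7, 3, 6, 2, 7, 7, 2, 6, 2, 2, 7]⟩, ⟨41, [20], [2, 7, 7, 3, 6, 6, 3, 7, 2, 6, 2, 2, 2, 7]⟩], [28, 29, 27]⟩,
    ⟨[7], 24, [⟨55, [], [7]⟩, ⟨88, [38, 38, 35], [3, 3, 6, 6, 2, 7, 2, 7, 7, 2, 6, 6, 3, 7]⟩, ⟨58, [], [7, 3, 3, 7, 7, 2, 7, 2, 6, 2, 2, 7, 3, 6]⟩], [29, 29, 27]⟩,
    ⟨[3, 3], 20, [⟨55, [], [3, 3]⟩, ⟨89, [37, 35, 35], [6, 3, 3, 7, 7, 3, 3]⟩, ⟨84, [35, 37, 38], [6, 2, 2, 2, 7, 2, 2, 7, 3, 3]⟩], [30, 32, 27]⟩,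
    ⟨[3, 6], 57, [⟨55, [], [3, 6]⟩, ⟨77, [36, 38, 35], [2, 6, 6, 3, 7, 3, 3, 6, 6, 2, 2, 7, 3, 3]⟩, ⟨88, [36, 38, 35, 35], [7, 2, 2, 2, 6, 2, 7, 7]⟩], [31, 31, 28]⟩,
    ⟨[2, 2], 16, [⟨55, [], [2, 2]⟩, ⟨90, [36, 40], [3, 7, 2, 6, 3, 7, 2, 2, 2, 6, 6]⟩, ⟨84, [37, 38, 35], [2, 6, 6, 3, 7, 2, 2, 2]⟩], [33, 33, 32, 27]⟩,
    ⟨[3, 3, 7], 127, [⟨55, [], [3, 3, 7]⟩, ⟨67, [], [2, 6, 6, 3, 3, 6, 3, 7, 2, 2, 2, 7, 2, 7]⟩, ⟨25, [17, 18, 9], [3, 7, 2, 2, 7, 2, 2, 7, 3, 6]⟩], [31]⟩,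
    ⟨[3, 3, 6, 2], 463, [⟨55, [], [3, 3, 6, 2]⟩, ⟨86, [39, 35, 39], [6, 2, 2, 2, 7, 3, 6, 3, 3, 7, 7, 2, 2]⟩, ⟨99, [54, 53, 55], [7, 2, 6, 3, 3, 6, 3, 7, 7, 7, 2, 2]⟩], [32, 29, 32]⟩,
    ⟨[3, 3, 6, 2, 7, 3, 6], 536, [⟨55, [], [3, 3, 6, 2, 7, 3, 6]⟩, ⟨83, [38, 35], [2, 7]⟩, ⟨51, [31, 28], [6, 6, 3, 3, 7, 7, 2, 2, 7, 7, 3, 6]⟩], [28, 30, 32]⟩,
    ⟨[2, 2, 7, 3, 6, 2, 2], 162, [⟨55, [], [2, 2, 7, 3, 6, 2, 2]⟩, ⟨69, [39, 36], [6, 3, 3, 7, 7, 2, 2, 6, 2, 7, 7, 2]⟩, ⟨80, [36, 35, 35], [6, 2, 7, 3, 6, 2, 7, 2, 6, 3, 7, 2, 2]⟩], [29, 29, 30, 30]⟩],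
   [([1], [28]), ([0], [373]), ([1], [710]), ([0], [1102]), ([1], [7]), ([0], [126]), ([1], [145]), ([0], [42]), ([1], [24]), ([0], [655]), ([1], [395]), ([0], [317]), ([0], [20]), ([1], [20]), ([0], [272]), ([1], [452]), ([0], [789]), ([1], [132]), ([0], [283]), ([1], [398]), ([0], [704]), ([0], [57]), ([1], [57]), ([0], [703]), ([1], [711]), ([0], [16]), ([1], [16]), ([0], [61]), ([1], [361]), ([0], [516]), ([1], [269]), ([0], [179]), ([1], [282]), ([0], [998]), ([0], [463]), ([1], [872]), ([0], [374]), ([1], [996])]⟩,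
  ⟨[⟨[], 3, [⟨56, [], []⟩, ⟨40, [16, 15, 16], [2, 6, 6, 3, 6, 2, 7, 7, 2, 2, 7]⟩, ⟨48, [33], [2, 2, 6, 6, 3, 3, 6]⟩], [29, 28, 28]⟩,
    ⟨[3], 8, [⟨56, [], [3]⟩, ⟨41, [21, 26, 16], [6, 3, 6, 2, 7, 3, 6, 3, 3, 7, 2]⟩, ⟨51, [30, 30], [3, 7, 3, 6, 2, 7, 2, 2, 7, 7, 3, 3]⟩], [31, 27]⟩,
    ⟨[6], 28, [⟨56, [], [6]⟩, ⟨45, [15, 26, 16, 15], [2, 2, 7, 7, 2, 2, 7, 7, 2, 6, 6, 2]⟩, ⟨84, [38, 40], [3, 6, 6, 2, 7, 3, 6, 2, 2, 2]⟩], [29, 32, 29, 32]⟩,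
    ⟨[2], 7, [⟨56, [], [2]⟩, ⟨40, [26, 22], [2, 2, 2, 7, 7, 2]⟩, ⟨58, [], [7, 3, 6, 2, 7, 7, 3, 3, 6, 3, 3, 7, 3, 6]⟩], [28, 34, 34, 28]⟩,
    ⟨[7], 24, [⟨56, [], [7]⟩, ⟨39, [22, 23], [7, 3, 3, 6, 3, 3, 6, 2, 2, 6, 3, 3]⟩, ⟨41, [20], [7, 3, 6, 3, 3, 7, 7, 3, 3, 6, 3, 3, 6, 2]⟩], [28, 27, 28, 27]⟩,
    ⟨[3, 3], 20, [⟨56, [], [3, 3]⟩, ⟨44, [23, 15, 16], [7, 7, 7, 3, 6, 2, 7, 2, 2, 2, 6]⟩, ⟨99, [55, 52, 55, 53, 54], [3, 7, 2, 2, 2, 6, 3, 3, 7]⟩], [34, 34, 28]⟩,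
    ⟨[3, 6], 57, [⟨56, [], [3, 6]⟩, ⟨41, [16, 15], [7, 2, 7, 3, 3, 6, 6, 3, 3, 6, 6, 2]⟩, ⟨61, [32, 30, 30], [2, 7, 3, 3, 6, 3, 3, 7, 2, 7, 3]⟩], [31, 32, 31]⟩,
    ⟨[2, 2], 16, [⟨56, [], [2, 2]⟩, ⟨44, [22, 20, 15, 20], [3, 6, 3, 7, 2, 7, 7, 2, 2, 2, 6, 2]⟩, ⟨99, [53, 55, 53, 54, 54], [7, 3, 6, 2, 2, 7, 2, 2, 6, 3, 3]⟩], [34, 34, 29]⟩,
    ⟨[3, 3, 7], 127, [⟨56, [], [3, 3, 7]⟩, ⟨35, [26, 21, 20], [6, 6, 2, 2, 7, 2, 7, 7, 3, 3, 7, 7]⟩, ⟨80, [38, 37], [2, 2, 2, 7, 2, 6, 3, 6, 6, 2, 7, 2]⟩], [32, 34, 34]⟩,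
    ⟨[3, 3, 6, 2], 463, [⟨56, [], [3, 3, 6, 2]⟩, ⟨43, [16, 15, 20], [7, 2, 7, 2, 6, 3, 3, 7, 2, 2, 6, 6, 2]⟩, ⟨84, [39], [7, 2, 6, 3, 7, 2, 2, 2, 6, 3, 7, 2]⟩], [28, 31, 28]⟩,
    ⟨[3, 3, 6, 2, 7, 3, 6], 536, [⟨56, [], [3, 3, 6, 2, 7, 3, 6]⟩, ⟨42, [16], [3, 6, 6, 2, 7, 7, 3, 6, 2, 7, 7, 7, 2]⟩, ⟨72, [38, 37], [6, 3, 3, 6, 6, 3, 3, 6]⟩], [32, 32, 33, 28]⟩,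
    ⟨[2, 2, 7, 3, 6, 2, 2], 162, [⟨56, [], [2, 2, 7, 3, 6, 2, 2]⟩, ⟨31, [], [7, 7, 2, 6, 3, 3, 6, 6, 3]⟩, ⟨25, [9, 5, 10], [6, 3, 7, 2, 6, 2, 2, 7, 2, 2, 7, 7, 7]⟩], [28, 29, 27]⟩],
   [([0], [28]), ([1], [28]), ([0], [373]), ([1], [373]), ([0], [7]), ([1], [7]), ([0], [126]), ([1], [126]), ([0], [24]), ([1], [24]), ([0], [655]), ([1], [655]), ([0], [20]), ([1], [20]), ([0], [789, 398]), ([1], [789]), ([0], [704, 452]), ([1], [704, 452]), ([0], [57]), ([0], [632]), ([1], [632]), ([0], [703]), ([0], [16]), ([1], [16]), ([0], [516, 282]), ([1], [516]), ([0], [998, 361]), ([1], [998, 361]), ([0], [463]), ([1], [463]), ([0], [374, 996])]⟩]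
theorem c_r0_13 : relAll tab 83 1408 HNU.base HNU.ph HNU.phI st rel0 3 om0 es13 cs13 rs0_13 = true := by decide +kernel
def rs0_14 : List RE := [
  ⟨[⟨[], 3, [⟨57, [], []⟩, ⟨87, [38, 36, 35], [2, 2, 2, 6, 3, 3, 6, 2, 7, 7, 7, 2]⟩, ⟨80, [35, 37], [2, 6, 6, 3, 7, 2, 6, 2, 2, 6, 3]⟩], [30, 33, 29, 27]⟩,
    ⟨[3], 8, [⟨57, [], [3]⟩, ⟨84, [37, 38, 40], [6, 2, 7, 2, 6, 3, 6, 2, 7, 3, 3, 7]⟩, ⟨61, [28, 27, 28, 27], [2, 2, 2, 7, 3, 3, 7, 2, 2, 6, 3, 7, 2]⟩], [33, 27, 27, 27]⟩,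
    ⟨[6], 28, [⟨57, [], [6]⟩, ⟨78, [], [7, 7, 2, 7, 3, 6, 2, 2, 2, 7, 3, 6]⟩, ⟨41, [23, 22, 16], [7, 2, 6, 3, 6, 6, 3, 7, 2, 6, 2, 2, 6, 2]⟩], [34, 28, 30]⟩,
    ⟨[2], 7, [⟨57, [], [2]⟩, ⟨77, [37, 40], [6, 2, 2, 2, 7, 3, 3, 6, 2, 7, 3, 6, 2]⟩, ⟨83, [40, 36, 35, 35], [7, 2, 6, 2, 7, 2, 2, 2, 6, 2, 2]⟩], [33, 32, 29, 27]⟩,
    ⟨[7], 24, [⟨57, [], [7]⟩, ⟨91, [39, 36, 36, 35], [3, 3, 7, 2, 7, 2, 2, 2, 7, 3, 6, 2]⟩, ⟨80, [35], [6, 6, 2, 2, 6, 6, 3, 7, 7, 2, 2, 6, 3]⟩], [31, 33, 30]⟩,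
    ⟨[3, 6], 57, [⟨57, [], [3, 6]⟩, ⟨84, [36, 39, 35], [2, 7, 2, 2, 7, 2, 6, 3, 7, 2, 2, 2]⟩, ⟨61, [27, 31], [2, 7, 2, 6, 6, 3, 7, 2, 7, 7, 3, 6, 2]⟩], [34, 30, 28]⟩,
    ⟨[6, 6], 69, [⟨57, [], [6, 6]⟩, ⟨88, [38, 36, 40], [7, 2, 2, 7, 3, 6, 3, 7, 2, 2]⟩, ⟨61, [30, 33, 33, 30], [7, 2, 6, 3, 6, 6, 3, 3, 6, 3, 7, 2, 7]⟩], [34, 30, 29, 30]⟩,
    ⟨[2, 2], 16, [⟨57, [], [2, 2]⟩, ⟨86, [38, 40, 40], [3, 7, 7, 2, 6, 2, 2, 7, 7, 3, 6, 2]⟩, ⟨99, [55, 52, 55, 53, 54], [6, 3, 6, 2, 7, 3, 6, 6, 2, 7, 2]⟩], [34, 28, 27]⟩,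
    ⟨[7, 7], 61, [⟨57, [], [7, 7]⟩, ⟨74, [36, 35], [2, 2, 6, 6, 3, 7, 2, 7, 7, 3, 6, 2, 2]⟩, ⟨25, [5, 10, 8], [7, 3, 3, 6, 6, 3, 3, 7, 2, 2, 6, 3]⟩], [27, 33, 29]⟩,
    ⟨[2, 2, 2], 42, [⟨57, [], [2, 2, 2]⟩, ⟨88, [39, 37, 40], [6, 3, 7, 3, 6, 2, 7, 7, 3, 6, 2, 7, 7]⟩, ⟨61, [32, 29, 28, 27], [2, 2, 2, 6, 2, 7, 3, 3, 7, 3, 6, 2, 2]⟩], [30, 33, 29]⟩,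
    ⟨[3, 3, 6], 227, [⟨57, [], [3, 3, 6]⟩, ⟨91, [39, 36], [6, 6, 2, 7, 2, 6, 3, 6, 6]⟩, ⟨88, [40, 40, 39], [2, 7, 7, 7, 2, 7, 2, 6, 3, 7, 7, 2]⟩], [34, 28, 27]⟩,
    ⟨[3, 3, 7], 127, [⟨57, [], [3, 3, 7]⟩, ⟨91, [37, 38], [2, 7, 3, 6, 6, 3, 3, 7, 7, 7, 2]⟩, ⟨84, [36, 39, 40, 36], [6, 2, 7, 7, 2, 7, 7, 3, 3, 6, 2, 2, 6, 2]⟩], [33, 32]⟩,
    ⟨[6, 6, 3], 145, [⟨57, [], [6, 6, 3]⟩, ⟨86, [39], [2, 6, 2, 2, 7, 3, 6, 3]⟩, ⟨99, [55, 53, 54, 54], [2, 6, 3, 7, 2, 2, 7, 2, 2, 2, 7, 2]⟩], [34, 32, 27]⟩,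
    ⟨[2, 2, 7], 179, [⟨57, [], [2, 2, 7]⟩, ⟨81, [], [2, 2, 2, 6, 3, 3, 6, 3, 7, 7, 7, 2]⟩, ⟨84, [38, 38, 35], [2, 2, 6, 6, 3, 6, 6, 3, 7, 2, 6, 2, 7, 7]⟩], [34, 27, 27, 27]⟩,
    ⟨[7, 7, 2], 126, [⟨57, [], [7, 7, 2]⟩, ⟨85, [35, 35, 37], [7, 3, 6, 6, 2, 7, 2, 6, 3, 7, 7, 7]⟩, ⟨88, [39, 35, 35], [2, 7, 7, 7, 2, 7, 3, 6, 3, 7]⟩], [34, 31, 28]⟩,
    ⟨[2, 2, 2, 6], 398, [⟨57, [], [2, 2, 2, 6]⟩, ⟨65, [], [3, 7, 7, 3, 3, 7, 3, 6, 2, 2, 7]⟩, ⟨25, [17, 9, 9], [7, 3, 6, 2, 7, 2, 6, 6, 3, 7, 7, 2]⟩], [33, 29, 32]⟩,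
    ⟨[2, 2, 2, 7], 395, [⟨57, [], [2, 2, 2, 7]⟩, ⟨87, [35, 39, 40, 36], [7, 2, 7, 3, 3, 6, 6, 3, 3, 6, 2, 7, 2]⟩, ⟨84, [39, 36, 36], [3, 6, 6, 3, 6, 2, 7, 2, 6, 2, 7, 2, 2]⟩], [29, 34, 27]⟩,
    ⟨[3, 3, 6, 6], 377, [⟨57, [], [3, 3, 6, 6]⟩, ⟨87, [39, 35, 35], [6, 2, 7, 3, 3, 6, 2, 7, 2, 2, 6, 3]⟩, ⟨88, [39, 37], [2, 2, 6, 3, 3, 7, 3, 6, 2, 2, 7, 7]⟩], [28, 33, 32]⟩,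
    ⟨[3, 3, 6, 2], 463, [⟨57, [], [3, 3, 6, 2]⟩, ⟨89, [36, 39], [3, 7, 2, 2, 6, 2, 7, 2, 2, 7, 2]⟩, ⟨84, [36, 39, 40, 36], [2, 7, 3, 3, 7, 2, 2, 7, 2, 6, 6, 3]⟩], [30, 34, 28, 27]⟩,
    ⟨[6, 6, 3, 3], 272, [⟨57, [], [6, 6, 3, 3]⟩, ⟨90, [38, 36, 35, 35], [3, 7, 7, 2, 2, 7, 7, 2, 2, 7, 3, 3]⟩, ⟨84, [39, 36, 40, 36], [6, 3, 7, 7, 2, 7, 3]⟩], [28, 34, 32, 27]⟩,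
    ⟨[6, 6, 3, 6], 998, [⟨57, [], [6, 6, 3, 6]⟩, ⟨84, [38, 36, 35], [6, 2, 7, 2, 6, 3, 3, 6, 2, 2, 7, 3, 6, 2]⟩, ⟨58, [32], [2, 7, 2, 7, 3, 6, 2, 2, 7, 3, 6, 2, 7, 7]⟩], [29, 28, 34, 28]⟩,
    ⟨[2, 2, 7, 3], 374, [⟨57, [], [2, 2, 7, 3]⟩, ⟨80, [39, 39, 35], [6, 3, 6, 2, 7, 2, 2, 7, 7, 2, 7, 7, 2]⟩, ⟨61, [34, 32, 34, 27], [2, 2, 7, 7, 7, 2, 7, 2, 2, 7, 7]⟩], [33, 32, 30]⟩,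
    ⟨[7, 7, 2, 7], 869, [⟨57, [], [7, 7, 2, 7]⟩, ⟨85, [37, 39, 39], [3, 3, 6, 6, 2, 7, 2, 2, 6, 2, 2, 7]⟩, ⟨88, [35, 39, 35], [3, 6, 3, 7, 2, 6, 2, 2, 6, 3, 7, 3, 3]⟩], [28, 33, 27]⟩,
    ⟨[2, 2, 2, 6, 2], 710, [⟨57, [], [2, 2, 2, 6, 2]⟩, ⟨85, [38, 38, 35, 35], [2, 2, 7, 2, 6, 6, 3, 6, 6, 3, 7]⟩, ⟨88, [35, 39, 37], [3, 7, 2, 7, 2, 2, 2, 7]⟩], [30, 32, 34]⟩,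
    ⟨[6, 6, 3, 7, 3], 1110, [⟨57, [], [6, 6, 3, 7, 3]⟩, ⟨83, [36, 36], [3, 6, 3, 7, 2, 7, 7, 2, 6, 2, 7, 7, 2]⟩, ⟨58, [28], [7, 7, 3, 6, 3, 7, 7, 2, 6, 2, 2, 6, 2, 7]⟩], [29, 34, 28, 27]⟩,
    ⟨[6, 6, 3, 7, 2], 655, [⟨57, [], [6, 6, 3, 7, 2]⟩, ⟨82, [37, 40, 40], [6, 3, 3, 7, 3, 6, 3, 3, 7, 3]⟩, ⟨99, [52, 54, 53, 54], [3, 3, 7, 2, 6, 2, 2, 2, 6, 3]⟩], [33, 31, 32]⟩,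
    ⟨[7, 7, 2, 6, 2], 1102, [⟨57, [], [7, 7, 2, 6, 2]⟩, ⟨82, [37], [2, 6, 6, 2, 7, 2, 2, 7, 7, 2, 6]⟩, ⟨99, [54, 52, 54, 54], [7, 3, 6, 3, 3, 6, 3, 3, 7, 2, 2]⟩], [33, 32, 29]⟩,
    ⟨[7, 7, 2, 6, 3], 789, [⟨57, [], [7, 7, 2, 6, 3]⟩, ⟨78, [39, 35, 38], [3, 7, 2, 6, 2, 7, 7, 3, 3, 7, 3, 3]⟩, ⟨41, [23, 21, 20, 15], [2, 7, 3, 3, 7, 2, 2, 7, 3, 6, 2, 7, 7]⟩], [30, 33, 28, 27]⟩,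
    ⟨[2, 2, 7, 3, 6, 2], 317, [⟨57, [], [2, 2, 7, 3, 6, 2]⟩, ⟨86, [40, 36, 38, 35], [7, 7, 7, 3, 3, 6, 3, 7, 7, 2, 6]⟩, ⟨99, [55, 55, 55, 55, 55], [6, 3, 3, 7, 7, 7, 2, 2, 6, 3, 3]⟩], [33, 29]⟩,
    ⟨[3, 3, 6, 2, 7, 3, 3], 165, [⟨57, [], [3, 3, 6, 2, 7, 3, 3]⟩, ⟨69, [35], [3, 6, 3, 3, 7, 7, 2, 7, 3, 6, 3]⟩, ⟨72, [37], [7, 3, 6, 2, 2, 7, 2, 6, 3, 6, 6, 2]⟩], [33, 28, 33, 30]⟩],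
   [([0], [3]), ([0], [8]), ([0], [28]), ([0], [24]), ([0], [57]), ([0], [69]), ([0], [16]), ([0], [42]), ([0], [227]), ([0], [127]), ([0], [145]), ([0], [126]), ([0], [395]), ([0], [377]), ([0], [463]), ([0], [272]), ([0], [869]), ([0], [655]), ([0], [1102]), ([0], [789])]⟩,
  ⟨[⟨[], 3, [⟨58, [], []⟩, ⟨51, [27, 27], [2, 6, 2, 2, 6, 3, 6, 2, 7, 7, 2, 7, 3]⟩, ⟨47, [33], [7, 2, 6, 2, 2, 7, 7, 2, 7, 7, 3, 6, 2]⟩], [32, 30, 30]⟩,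
    ⟨[3], 8, [⟨58, [], [3]⟩, ⟨60, [34, 27], [2, 6, 2, 2, 6, 6, 3, 7, 3, 3, 7, 2]⟩, ⟨88, [40, 39], [7, 2, 6, 3, 7, 7, 7, 3, 6, 2, 7]⟩], [27, 27]⟩,
    ⟨[6], 28, [⟨58, [], [6]⟩, ⟨52, [32, 29], [3, 3, 6, 3, 3, 6, 2, 7, 7, 2]⟩, ⟨80, [39, 36], [6, 3, 7, 7, 7, 2, 7, 2]⟩], [29, 27, 31, 27]⟩,
    ⟨[2], 7, [⟨58, [], [2]⟩, ⟨57, [31, 33], [3, 7, 2, 6, 3, 7, 3, 3, 7, 7, 2, 6]⟩, ⟨83, [36, 36], [2, 7, 2, 7, 7, 7, 2, 2, 2]⟩], [33, 33, 30]⟩,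
    ⟨[7], 24, [⟨58, [], [7]⟩, ⟨56, [28, 30], [3, 6, 2, 2, 7, 3, 6, 3, 3, 7, 7]⟩, ⟨40, [21, 26, 15], [6, 6, 2, 2, 7, 2, 6, 3, 3, 7, 2, 7, 2, 2]⟩], [34, 28, 34, 27]⟩,
    ⟨[3, 6], 57, [⟨58, [], [3, 6]⟩, ⟨57, [29, 30, 34], [6, 6, 3, 6, 2, 7, 3, 3, 7, 3, 3, 7, 2]⟩, ⟨84, [38, 36, 35], [6, 3, 3, 6, 3, 7, 2, 2, 6, 3, 3, 6]⟩], [32, 31, 30]⟩,
    ⟨[6, 6], 69, [⟨58, [], [6, 6]⟩, ⟨61, [29, 29, 27], [6, 2, 7, 3, 3, 6, 3, 3, 7, 3, 6, 2]⟩, ⟨61, [30, 28, 27], [6, 3, 3, 7, 2, 7, 7, 3, 6, 2, 7, 2, 2]⟩], [34, 34, 28, 27]⟩,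
    ⟨[2, 2], 16, [⟨58, [], [2, 2]⟩, ⟨61, [34, 29, 34, 28], [6, 6, 3, 7, 7, 3, 6, 6, 3, 3, 7, 7, 7]⟩, ⟨61, [28, 27, 27], [7, 3, 6, 2, 7, 2, 6, 6, 3, 6, 6, 3]⟩], [32, 27]⟩,
    ⟨[3, 3, 7], 127, [⟨58, [], [3, 3, 7]⟩, ⟨54, [30, 30], [7, 7, 3, 6, 3, 7, 2, 6, 3, 6, 2]⟩, ⟨72, [35, 37], [6, 6, 3, 6, 2, 7, 7, 2, 7, 7, 7]⟩], [34, 28, 31, 30]⟩,
    ⟨[3, 3, 6, 2], 463, [⟨58, [], [3, 3, 6, 2]⟩, ⟨55, [31, 28], [2, 6, 6, 2, 7, 7, 2, 7, 7, 3, 6, 2]⟩, ⟨88, [38, 38, 35], [6, 2, 7, 7, 2, 2, 6, 6, 2, 2, 7, 3]⟩], [29, 32, 27]⟩,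
    ⟨[6, 6, 3, 7, 2, 6, 3], 566, [⟨58, [], [6, 6, 3, 7, 2, 6, 3]⟩, ⟨49, [], [6, 6, 2, 2, 6, 6, 3, 7, 7, 2, 2, 6, 6, 3]⟩, ⟨25, [5, 8, 9, 18], [2, 7, 2, 2, 6, 3, 7, 2, 7, 3, 6, 3, 3]⟩], [29, 32, 27, 27]⟩,
    ⟨[2, 2, 7, 3, 6, 2, 2], 162, [⟨58, [], [2, 2, 7, 3, 6, 2, 2]⟩, ⟨46, [33], [6, 3, 6, 2, 2, 6, 2, 2, 7, 7, 7, 2]⟩, ⟨51, [28, 30], [3, 7, 7, 2, 7, 7, 3, 3, 6, 3]⟩], [28, 27, 32]⟩],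
   [([0], [8]), ([1], [8]), ([1], [1102]), ([0], [373]), ([0], [7]), ([1], [7]), ([1], [282]), ([0], [20]), ([0], [24]), ([1], [24]), ([1], [227]), ([0], [272]), ([1], [57]), ([0], [165]), ([1], [711]), ([0], [632]), ([0], [69]), ([1], [69]), ([0], [398]), ([1], [283]), ([0], [789]), ([1], [1110]), ([0], [317]), ([1], [377]), ([0], [596]), ([0], [16]), ([1], [16]), ([0], [655]), ([1], [145]), ([0], [395]), ([1], [704]), ([0], [361]), ([1], [61]), ([0], [126]), ([0], [463]), ([1], [996]), ([0], [872]), ([1], [536])]⟩]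
theorem c_r0_14 : relAll tab 83 1408 HNU.base HNU.ph HNU.phI st rel0 3 om0 es14 cs14 rs0_14 = true := by decide +kernel
def rs0_15 : List RE := [
  ⟨[⟨[], 3, [⟨59, [], []⟩, ⟨99, [55, 53, 54, 53], [3, 3, 7, 7, 2, 6, 2, 2, 7, 7, 2]⟩, ⟨51, [29, 30, 30], [6, 3, 6, 6, 2, 2, 6, 3, 3, 6, 2, 2, 2]⟩], [27, 33, 27]⟩,
    ⟨[3], 8, [⟨59, [], [3]⟩, ⟨98, [52, 55, 55, 52], [3, 6, 2, 7, 3, 3, 7, 2, 2, 2, 6, 6]⟩, ⟨40, [23, 23, 20], [2, 2, 7, 2, 2, 7, 7, 7, 2, 7, 2, 6]⟩], [32, 34, 30]⟩,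
    ⟨[6], 28, [⟨59, [], [6]⟩, ⟨96, [55, 53, 55, 52], [7, 7, 3, 6, 3, 7, 7, 2, 6, 3, 7, 3, 6]⟩, ⟨99, [52, 54, 56, 54, 56, 54, 53], [7, 2, 2, 7, 7, 3, 6, 3, 7, 3, 3, 6, 6, 2]⟩], [28, 31, 33, 27]⟩,
    ⟨[2], 7, [⟨59, [], [2]⟩, ⟨99, [56, 55, 56, 55], [2, 7, 2, 2, 6, 3, 3, 6, 2, 7, 3, 6]⟩, ⟨51, [29, 30], [2, 7, 7, 2, 7, 2, 6, 2, 2, 7, 3]⟩], [34, 27, 32]⟩,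
    ⟨[7], 24, [⟨59, [], [7]⟩, ⟨98, [53, 54, 52, 55, 55], [7, 3, 6, 6, 2, 7, 3, 6, 3, 3]⟩, ⟨41, [26, 22, 20], [2, 2, 2, 7, 7, 2, 6, 6, 3, 7, 2, 6, 2]⟩], [29, 32, 34, 30]⟩,
    ⟨[3, 3], 20, [⟨59, [], [3, 3]⟩, ⟨100, [55, 52, 55], [2, 7, 2, 6, 2, 2, 7, 2, 2, 7, 3, 3, 6, 2, 7]⟩, ⟨99, [54, 53, 54, 53, 55], [2, 7, 7, 3, 3, 6, 3, 7, 7]⟩], [33, 32, 30, 30]⟩,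
    ⟨[3, 6], 57, [⟨59, [], [3, 6]⟩, ⟨96, [55, 53, 55, 53, 54, 52], [3, 6, 3, 7, 7, 2, 2, 6, 2, 7, 7, 2, 2]⟩, ⟨99, [53, 52, 54, 53, 54], [3, 7, 3, 6, 2, 7, 7, 3, 3, 7, 3, 6, 2]⟩], [33, 32, 31]⟩,
    ⟨[2, 2], 16, [⟨59, [], [2, 2]⟩, ⟨97, [52, 55], [3, 6, 3, 3, 6, 2, 2, 6, 2, 2, 2, 6, 2]⟩, ⟨72, [37, 35, 35], [3, 6, 6, 3, 7, 2, 7, 3, 3, 6, 3]⟩], [29, 32, 29, 27]⟩,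
    ⟨[7, 7], 61, [⟨59, [], [7, 7]⟩, ⟨97, [54, 54, 54, 53], [6, 3, 3, 6, 3, 3, 7, 2, 6, 2, 2, 6]⟩, ⟨88, [36, 39, 35], [3, 7, 3, 6, 3, 7, 2, 6, 2, 7, 2, 2, 2, 7]⟩], [29, 34, 30]⟩,
    ⟨[3, 3, 6], 227, [⟨59, [], [3, 3, 6]⟩, ⟨97, [52, 55, 52, 54], [3, 7, 7, 2, 2, 2, 6, 6, 3, 6, 6]⟩, ⟨88, [37, 39, 35], [2, 7, 7, 3, 6, 6, 2, 2, 7, 2, 2, 6]⟩], [29, 27, 33]⟩,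
    ⟨[3, 3, 7], 127, [⟨59, [], [3, 3, 7]⟩, ⟨99, [54, 54, 53], [2, 7, 3, 6, 3, 3, 7, 7, 2, 6, 6, 2]⟩, ⟨61, [33, 31, 33, 30], [7, 2, 7, 7, 3, 6, 6, 3, 6, 6]⟩], [33, 32, 31, 27]⟩,
    ⟨[6, 6, 3], 145, [⟨59, [], [6, 6, 3]⟩, ⟨94, [54, 53, 55, 52], [2, 2, 6, 6, 3, 3, 7, 2, 2, 6, 6, 3]⟩, ⟨84, [36, 38, 35], [3, 6, 6, 2, 2, 2, 6, 3]⟩], [32, 34, 28, 28]⟩,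
    ⟨[7, 7, 7], 132, [⟨59, [], [7, 7, 7]⟩, ⟨100, [56, 54, 56], [2, 7, 2, 6, 2, 7, 2, 7, 7, 7, 2, 7]⟩, ⟨99, [54, 53, 54, 53], [3, 3, 7, 2, 7, 3, 6, 3, 7, 2, 6, 2]⟩], [33, 30, 30]⟩,
    ⟨[2, 2, 7], 179, [⟨59, [], [2, 2, 7]⟩, ⟨97, [52, 55, 55, 52, 54, 53], [2, 7, 7, 7, 3, 6, 2, 7, 2, 6, 6]⟩, ⟨84, [36, 39], [3, 7, 2, 7, 3, 3, 6, 2]⟩], [27, 31, 33, 28]⟩,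
    ⟨[7, 7, 2], 126, [⟨59, [], [7, 7, 2]⟩, ⟨99, [55, 52, 55, 52, 54], [3, 3, 6, 2, 2, 6, 3, 3, 7, 2, 6, 2, 2]⟩, ⟨61, [29, 27], [6, 3, 3, 6, 6, 3, 3, 7, 3]⟩], [34, 27, 32, 27]⟩,
    ⟨[2, 2, 2, 6], 398, [⟨59, [], [2, 2, 2, 6]⟩, ⟨99, [54, 53, 55, 53, 54], [7, 2, 7, 3, 6, 3, 3, 6, 6, 2, 2, 2, 7]⟩, ⟨61, [34, 28, 34, 27], [7, 2, 2, 7, 3, 6, 6, 2, 2, 7, 3]⟩], [27, 33, 29, 27]⟩,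
    ⟨[3, 3, 6, 3], 464, [⟨59, [], [3, 3, 6, 3]⟩, ⟨94, [54, 52, 55, 52, 54, 53], [2, 2, 7, 2, 7, 7, 3, 3, 7, 7, 7, 2]⟩, ⟨83, [37], [3, 3, 6, 3, 7, 2, 6, 3, 7, 2, 7, 2, 2]⟩], [28, 34, 27, 27]⟩,
    ⟨[3, 3, 6, 6], 377, [⟨59, [], [3, 3, 6, 6]⟩, ⟨99, [55, 52, 55, 55], [2, 7, 3, 6, 3, 7, 2, 6, 6, 3, 6, 2]⟩, ⟨61, [29, 28, 29, 27], [3, 6, 6, 2, 7, 7, 3, 3, 6, 2, 2, 7, 7]⟩], [30, 32, 34]⟩,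
    ⟨[6, 6, 3, 3], 272, [⟨59, [], [6, 6, 3, 3]⟩, ⟨94, [54, 53, 52, 54], [3, 3, 7, 2, 6, 2, 7, 2, 7, 7, 3]⟩, ⟨84, [38, 37], [7, 7, 3, 3, 7, 3, 6, 2, 2, 7, 3]⟩], [34, 27, 32, 27]⟩,
    ⟨[7, 7, 7, 3], 283, [⟨59, [], [7, 7, 7, 3]⟩, ⟨95, [54, 53, 54, 54, 52, 54], [6, 3, 3, 6, 3, 3, 7, 7, 2, 6, 3, 7, 2, 2, 2]⟩, ⟨72, [39, 36], [3, 7, 2, 2, 2, 7, 2, 6, 2, 2, 6, 6, 2]⟩], [28, 31, 28]⟩,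
    ⟨[7, 7, 7, 2], 282, [⟨59, [], [7, 7, 7, 2]⟩, ⟨99, [53, 52, 54, 53], [2, 2, 7, 2, 7, 7, 2, 6, 2, 2, 7, 7]⟩, ⟨61, [34, 34, 28], [3, 7, 2, 7, 7, 3, 6, 6, 3, 7, 7, 7, 2]⟩], [34, 31, 32, 27]⟩,
    ⟨[2, 2, 7, 2], 373, [⟨59, [], [2, 2, 7, 2]⟩, ⟨97, [52, 55, 53, 54, 52, 55], [2, 6, 2, 2, 7, 3, 6, 6, 3, 6, 2, 2, 7]⟩, ⟨84, [35, 37, 39], [6, 6, 3, 6, 6, 2, 2, 7, 7, 7]⟩], [34, 34, 34]⟩,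
    ⟨[7, 7, 2, 6], 872, [⟨59, [], [7, 7, 2, 6]⟩, ⟨96, [54, 54, 52, 55, 52], [2, 6, 3, 6, 6, 3, 3, 6, 6, 3]⟩, ⟨99, [55, 53, 54, 53], [3, 3, 7, 2, 6, 2, 7, 2, 2, 6, 2, 2, 2]⟩], [33, 29, 27, 27]⟩,
    ⟨[2, 2, 2, 6, 2], 710, [⟨59, [], [2, 2, 2, 6, 2]⟩, ⟨95, [52, 54, 52, 55, 52, 54, 52], [7, 3, 3, 7, 7, 2, 7, 3, 3, 6, 3, 7]⟩, ⟨88, [35], [3, 7, 2, 2, 6, 3, 6, 2, 7]⟩], [27, 33, 30]⟩,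
    ⟨[2, 2, 2, 7, 3], 704, [⟨59, [], [2, 2, 2, 7, 3]⟩, ⟨97, [55, 55, 52, 54], [3, 6, 2, 7, 7, 2, 7, 3, 6, 3, 7, 3, 6]⟩, ⟨83, [40, 36, 35, 35], [3, 7, 7, 2, 6, 6, 3, 3, 7, 7, 2, 2, 2]⟩], [34, 27, 27, 27]⟩,
    ⟨[3, 3, 6, 2, 7], 516, [⟨59, [], [3, 3, 6, 2, 7]⟩, ⟨95, [54, 52, 54], [7, 3, 6, 6, 2, 2, 7, 3, 3, 7, 2, 2, 2]⟩, ⟨88, [39, 37, 38], [2, 7, 2, 2, 6, 3, 3, 6, 2, 2, 7]⟩], [27, 32, 33]⟩,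
    ⟨[7, 7, 2, 6, 2], 1102, [⟨59, [], [7, 7, 2, 6, 2]⟩, ⟨97, [54, 52, 55, 55], [6, 2, 7, 2, 6, 3, 7, 3, 3, 7, 2, 2]⟩, ⟨84, [35, 35, 38], [2, 6, 3, 6, 2, 2, 6, 2, 7, 3]⟩], [31, 28, 33, 28]⟩,
    ⟨[2, 2, 7, 3, 6], 596, [⟨59, [], [2, 2, 7, 3, 6]⟩, ⟨98, [52, 55, 52, 54, 52], [2, 6, 6, 2, 7, 2, 2, 7, 7, 2, 2]⟩, ⟨40, [20, 15, 16, 15], [2, 6, 3, 3, 7, 7, 7, 2, 7, 3, 6, 2]⟩], [28, 33, 30]⟩,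
    ⟨[7, 7, 2, 6, 3, 7], 452, [⟨59, [], [7, 7, 2, 6, 3, 7]⟩, ⟨97, [55, 52, 54, 52, 55], [6, 3, 7, 2, 7, 7, 3, 3, 7, 2, 2]⟩, ⟨88, [39, 40], [6, 6, 2, 2, 6, 2, 7, 2, 6, 2, 2]⟩], [30, 34, 28]⟩,
    ⟨[3, 3, 6, 2, 7, 3, 3], 165, [⟨59, [], [3, 3, 6, 2, 7, 3, 3]⟩, ⟨97, [53, 52, 55], [2, 6, 6, 3, 7, 3, 3, 7, 3, 3]⟩, ⟨80, [40], [7, 2, 2, 2, 7, 3, 6, 2, 7, 7, 2, 2]⟩], [27, 33, 30]⟩],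
   [([0], [3]), ([0], [8]), ([0], [28]), ([0], [7]), ([0], [20]), ([0], [57]), ([0], [61]), ([0], [227]), ([0], [127]), ([0], [145]), ([0], [132]), ([0], [179]), ([0], [398]), ([0], [377]), ([0], [272]), ([0], [282]), ([0], [373]), ([0], [710]), ([0], [516]), ([0], [596])]⟩,
  ⟨[⟨[], 3, [⟨60, [], []⟩, ⟨90, [37, 38, 40], [3, 3, 7, 2, 2, 7, 2, 7, 7, 3, 3, 6, 6, 2]⟩, ⟨72, [35], [2, 2, 7, 3, 6, 3, 3, 7, 2, 6, 2, 7, 2]⟩], [32, 32, 31, 30]⟩,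
    ⟨[3], 8, [⟨60, [], [3]⟩, ⟨89, [35, 39, 40], [6, 2, 7, 3, 6, 6, 3, 6, 2, 7, 7, 2]⟩, ⟨83, [36, 35, 35], [3, 6, 2, 2, 6, 2, 7, 2, 6, 6, 3, 7, 2]⟩], [34, 31, 32, 27]⟩,
    ⟨[6], 28, [⟨60, [], [6]⟩, ⟨77, [37, 35, 35], [7, 2, 7, 2, 6, 3, 6, 2, 7, 3, 3, 7]⟩, ⟨84, [37, 38, 40], [2, 6, 6, 3, 7, 3, 6, 2, 7, 7, 3, 3]⟩], [31, 33, 32]⟩,
    ⟨[2], 7, [⟨60, [], [2]⟩, ⟨89, [37, 39, 40], [6, 3, 7, 2, 2, 6, 3, 7, 2, 7, 3, 6]⟩, ⟨72, [39, 39, 35], [2, 2, 6, 3, 7, 3, 3, 7, 7, 7]⟩], [32, 31, 30]⟩,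
    ⟨[7], 24, [⟨60, [], [7]⟩, ⟨88, [40, 39], [6, 6, 3, 6, 2, 7, 7, 3, 3, 6, 3, 7]⟩, ⟨58, [27, 27], [3, 6, 6, 3, 7, 2, 2, 2, 7, 3, 6, 2]⟩], [34, 27]⟩,
    ⟨[3, 3], 20, [⟨60, [], [3, 3]⟩, ⟨85, [39, 39], [6, 2, 7, 2, 2, 6, 3, 6, 6, 3, 3]⟩, ⟨84, [38, 35], [2, 7, 7, 2, 2, 7, 2, 6, 3, 7, 7]⟩], [34, 28, 29, 30]⟩,
    ⟨[3, 6], 57, [⟨60, [], [3, 6]⟩, ⟨77, [38, 38, 35], [2, 7, 2, 6, 6, 3, 3, 7, 3, 6, 3, 7, 2]⟩, ⟨84, [40, 38, 35], [3, 7, 2, 6, 2, 2, 2, 6, 2, 7, 3, 6, 3]⟩], [34, 28, 28]⟩,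
    ⟨[2, 2], 16, [⟨60, [], [2, 2]⟩, ⟨84, [39, 37], [2, 6, 6, 3, 7, 3, 3, 7, 7, 2, 7]⟩, ⟨51, [27, 27], [2, 2, 6, 3, 7, 3, 6, 3, 7, 7, 7]⟩], [34, 31]⟩,
    ⟨[7, 7], 61, [⟨60, [], [7, 7]⟩, ⟨84, [36, 36, 38, 40], [7, 7, 2, 6, 3, 3, 7, 2, 7]⟩, ⟨61, [29, 32, 27], [2, 7, 7, 7, 3, 3, 7, 3, 6, 2, 2, 2]⟩], [31, 33, 31, 30]⟩,
    ⟨[3, 3, 6], 227, [⟨60, [], [3, 3, 6]⟩, ⟨84, [38, 40, 40], [6, 3, 7, 2, 2, 7, 3, 6, 3, 3, 6, 6, 2, 2]⟩, ⟨61, [33, 30, 34, 27], [3, 7, 7, 2, 7, 3, 6, 2, 7, 2, 6, 3, 7, 2]⟩], [33, 31, 32]⟩,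
    ⟨[3, 3, 7], 127, [⟨60, [], [3, 3, 7]⟩, ⟨91, [38, 40], [7, 2, 2, 7, 7, 2, 2, 7, 3, 3, 6, 2, 7, 2]⟩, ⟨88, [36, 38, 36], [3, 3, 6, 6, 3, 6, 6, 3, 7, 3, 6, 2]⟩], [30, 29, 34]⟩,
    ⟨[6, 6, 3], 145, [⟨60, [], [6, 6, 3]⟩, ⟨76, [36], [7, 7, 2, 6, 2, 2, 2, 6, 2, 7, 2, 7, 7, 3, 3]⟩, ⟨99, [55, 56, 54, 53, 55], [3, 3, 6, 3, 7, 2, 2, 6, 2, 7, 2, 6, 2]⟩], [34, 30, 29, 32]⟩,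
    ⟨[7, 7, 7], 132, [⟨60, [], [7, 7, 7]⟩, ⟨85, [37, 35, 37, 40], [3, 7, 7, 2, 7, 2, 2, 7, 7, 7, 3, 3]⟩, ⟨84, [39, 35], [6, 3, 6, 2, 2, 6, 2, 2, 2, 7, 7]⟩], [30, 33, 31, 27]⟩,
    ⟨[2, 2, 7], 179, [⟨60, [], [2, 2, 7]⟩, ⟨86, [39, 36], [3, 7, 7, 7, 2, 2, 2, 7, 3, 3]⟩, ⟨99, [56, 54, 56, 55], [2, 7, 2, 2, 2, 6, 2, 7, 2, 6, 3]⟩], [30, 34, 28, 27]⟩,
    ⟨[7, 7, 2], 126, [⟨60, [], [7, 7, 2]⟩, ⟨73, [], [6, 3, 7, 7, 2, 7, 3, 6, 3, 7, 2, 7]⟩, ⟨88, [39, 40, 40], [2, 7, 3, 6, 3, 7, 3, 3, 7, 3]⟩], [28, 34, 27, 27]⟩,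
    ⟨[2, 2, 2, 6], 398, [⟨60, [], [2, 2, 2, 6]⟩, ⟨90, [40, 36, 38], [3, 7, 3, 3, 7, 7, 2, 6, 2]⟩, ⟨88, [35, 37, 38], [6, 6, 3, 7, 7, 2, 7, 3, 3]⟩], [33, 29, 30]⟩,
    ⟨[3, 3, 6, 3], 464, [⟨60, [], [3, 3, 6, 3]⟩, ⟨78, [40], [3, 6, 3, 7, 2, 2, 6, 2, 7, 2, 6, 3, 6]⟩, ⟨40, [26, 21], [3, 6, 3, 7, 2, 2, 6, 6, 3, 6, 6, 2, 2]⟩], [28, 34, 28, 27]⟩,
    ⟨[3, 3, 6, 6], 377, [⟨60, [], [3, 3, 6, 6]⟩, ⟨89, [35, 35, 38, 35], [2, 6, 6, 2, 2, 7, 2]⟩, ⟨88, [35, 39, 35], [6, 3, 3, 6, 3, 7, 2, 2, 2, 7, 7, 7]⟩], [32, 34]⟩,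
    ⟨[6, 6, 3, 3], 272, [⟨60, [], [6, 6, 3, 3]⟩, ⟨76, [39, 39, 37], [2, 7, 3, 3, 7, 3, 3]⟩, ⟨99, [54, 56, 54, 53, 55], [6, 3, 7, 2, 2, 7, 2, 6, 3, 6, 6]⟩], [31, 28, 33]⟩,
    ⟨[7, 7, 7, 3], 283, [⟨60, [], [7, 7, 7, 3]⟩, ⟨72, [35, 35], [3, 7, 7, 2, 6, 3, 6, 6, 2, 7, 2, 6, 3]⟩, ⟨51, [28, 33], [6, 2, 2, 6, 6, 3, 7, 2, 2, 6, 6, 2]⟩], [33, 29, 28]⟩,
    ⟨[7, 7, 7, 2], 282, [⟨60, [], [7, 7, 7, 2]⟩, ⟨87, [38, 36], [6, 6, 3, 7, 2, 7, 2, 2, 2, 7, 7, 2, 7]⟩, ⟨88, [39, 36, 35], [3, 6, 6, 3, 6, 6, 2, 7, 7, 3, 3, 7]⟩], [33, 32, 29, 27, 27]⟩,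
    ⟨[2, 2, 7, 2], 373, [⟨60, [], [2, 2, 7, 2]⟩, ⟨86, [38, 36, 35, 35], [3, 6, 2, 2, 7, 3, 3, 7, 3, 3, 7, 2, 7, 7]⟩, ⟨99, [55, 53, 54, 53], [7, 3, 6, 3, 3, 7, 2, 6, 3, 3, 6, 3, 7]⟩], [33, 32, 31, 30]⟩,
    ⟨[7, 7, 2, 6], 872, [⟨60, [], [7, 7, 2, 6]⟩, ⟨68, [39], [6, 3, 3, 6, 3, 7, 7, 7, 3, 6]⟩, ⟨84, [38, 36, 36], [6, 3, 6, 2, 7, 2, 2, 7, 7, 2, 7, 2, 2]⟩], [33, 31, 32]⟩,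
    ⟨[2, 2, 2, 6, 2], 710, [⟨60, [], [2, 2, 2, 6, 2]⟩, ⟨88, [38, 35], [2, 2, 6, 2, 7, 3, 6, 6, 3, 7, 7, 7]⟩, ⟨61, [29, 29, 27], [3, 7, 3, 3, 7, 7, 7, 3]⟩], [33, 30]⟩,
    ⟨[2, 2, 2, 7, 3], 704, [⟨60, [], [2, 2, 2, 7, 3]⟩, ⟨79, [36, 39], [6, 2, 2, 7, 3, 6, 2, 2, 7, 3, 6]⟩, ⟨40, [23, 21], [3, 7, 3, 3, 6, 2, 7, 7, 2, 6, 6, 2, 2]⟩], [31, 32, 33, 30]⟩,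
    ⟨[3, 3, 6, 2, 7], 516, [⟨60, [], [3, 3, 6, 2, 7]⟩, ⟨88, [39, 35, 35], [7, 2, 6, 3, 3, 6, 6, 2, 2]⟩, ⟨61, [28, 27, 28], [3, 6, 6, 3, 3, 6, 6, 2, 7, 2, 6, 3]⟩], [32, 33]⟩,
    ⟨[7, 7, 2, 6, 2], 1102, [⟨60, [], [7, 7, 2, 6, 2]⟩, ⟨86, [39, 35], [7, 2, 6, 2, 2, 6, 3, 3, 6, 3, 7, 2, 6, 2]⟩, ⟨99, [53], [2, 6, 3, 6, 2, 7, 2, 2, 6, 6, 2, 2, 2]⟩], [33, 27, 31, 27]⟩,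
    ⟨[2, 2, 7, 3, 6], 596, [⟨60, [], [2, 2, 7, 3, 6]⟩, ⟨90, [35, 37, 38], [2, 7, 3, 6, 3, 7, 2, 6, 2, 2, 6, 2]⟩, ⟨83, [40, 38, 38], [3, 7, 7, 2, 6, 3, 6, 2, 2, 6]⟩], [32, 34, 28]⟩,
    ⟨[7, 7, 2, 6, 3, 7], 452, [⟨60, [], [7, 7, 2, 6, 3, 7]⟩, ⟨80, [36, 35, 35], [3, 7, 7, 2, 6, 6, 2, 7, 7, 2, 7, 2]⟩, ⟨61, [33, 30, 34, 27], [7, 2, 2, 7, 2, 6, 2, 2, 7, 3, 6]⟩], [29, 30, 34, 29]⟩,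
    ⟨[3, 3, 6, 2, 7, 3, 3], 165, [⟨60, [], [3, 3, 6, 2, 7, 3, 3]⟩, ⟨74, [], [2, 7, 3, 6, 6, 3, 7, 2, 6, 2, 2, 7, 7]⟩, ⟨25, [10, 13, 9, 5, 10], [6, 3, 7, 7, 2, 6, 3, 3, 7, 7]⟩], [33, 28, 31, 27]⟩],
   [([0], [3]), ([0], [8]), ([0], [28]), ([0], [7]), ([0], [20]), ([0], [57]), ([0], [61]), ([0], [227]), ([0], [127]), ([0], [145]), ([0], [132]), ([0], [179]), ([0], [398]), ([0], [377]), ([0], [272]), ([0], [282]), ([0], [373]), ([0], [710]), ([0], [516]), ([0], [596])]⟩]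
theorem c_r0_15 : relAll tab 83 1408 HNU.base HNU.ph HNU.phI st rel0 3 om0 es15 cs15 rs0_15 = true := by decide +kernel
def rs0_16 : List RE := [
  ⟨[⟨[], 3, [⟨61, [], []⟩, ⟨60, [34, 28, 27, 27], [6, 2, 7, 2, 2, 6, 2, 2, 6, 3, 6, 2, 7]⟩, ⟨80, [36, 35, 35], [7, 7, 2, 6, 6, 2, 7, 7, 3, 6, 6, 3, 6, 6, 2]⟩], [28, 34, 34, 27]⟩,
    ⟨[3], 8, [⟨61, [], [3]⟩, ⟨57, [31, 33, 30], [3, 7, 7, 2, 7, 3, 6, 2, 2, 7, 7, 2]⟩, ⟨88, [36, 38, 35], [6, 6, 3, 7, 2, 2, 6, 2, 7, 2, 7, 3, 6]⟩], [27, 33, 31, 33]⟩,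
    ⟨[6], 28, [⟨61, [], [6]⟩, ⟨60, [32, 33, 28], [7, 7, 2, 7, 3, 6, 3, 3, 6, 6, 2, 7, 2, 6]⟩, ⟨84, [36, 36, 39, 35], [3, 6, 2, 7, 3, 3, 7, 2, 2, 2, 6, 6]⟩], [31, 31, 32]⟩,
    ⟨[2], 7, [⟨61, [], [2]⟩, ⟨61, [29, 32, 29, 27], [3, 3, 6, 3, 7, 2, 2, 7, 7, 7, 3]⟩, ⟨61, [29, 32, 29, 27], [2, 6, 2, 2, 6, 2, 2]⟩], [31, 32, 31]⟩,
    ⟨[7], 24, [⟨61, [], [7]⟩, ⟨59, [34, 32, 29], [7, 3, 3, 6, 2, 2, 7, 3, 3, 7, 3, 3, 6]⟩, ⟨99, [53, 55, 53, 54, 54], [7, 3, 6, 6, 2, 7, 3, 6, 3, 3, 7, 7, 2, 2]⟩], [33, 33, 28]⟩,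
    ⟨[3, 3], 20, [⟨61, [], [3, 3]⟩, ⟨60, [33, 30], [3, 7, 7, 7, 2, 2, 6, 3, 3, 6, 2]⟩, ⟨88, [38, 35], [6, 2, 7, 2, 6, 3, 6, 2, 7, 2, 6]⟩], [29, 29, 27]⟩,
    ⟨[3, 6], 57, [⟨61, [], [3, 6]⟩, ⟨53, [27], [7, 2, 2, 7, 7, 2, 2, 7, 7, 2, 7]⟩, ⟨40, [15, 21, 23], [6, 3, 7, 7, 7, 2, 2, 7, 2, 6, 3, 7]⟩], [31, 32, 27]⟩,
    ⟨[6, 6], 69, [⟨61, [], [6, 6]⟩, ⟨58, [29, 30], [6, 6, 3, 3, 7, 2, 2, 2, 6, 3]⟩, ⟨61, [28, 29, 28], [3, 6, 6, 3, 7, 7, 2, 6, 3, 7, 3, 6, 2, 7]⟩], [32, 30]⟩,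
    ⟨[2, 2], 16, [⟨61, [], [2, 2]⟩, ⟨59, [31, 31, 33], [3, 7, 2, 6, 2, 7, 2, 6, 2, 2, 7]⟩, ⟨99, [54, 54, 52, 55], [7, 7, 2, 7, 2, 2, 2, 7, 2, 2]⟩], [34, 34, 28]⟩,
    ⟨[7, 7], 61, [⟨61, [], [7, 7]⟩, ⟨60, [34, 30], [6, 3, 3, 7, 7, 2, 7, 3, 6, 6, 2, 7, 2]⟩, ⟨84, [35, 38, 35], [7, 3, 3, 7, 2, 2, 6, 3, 6, 6, 2, 2, 2]⟩], [33, 30, 34, 27]⟩,
    ⟨[2, 2, 2], 42, [⟨61, [], [2, 2, 2]⟩, ⟨51, [27], [6, 3, 3, 6, 2, 2, 7, 3, 6, 2, 2, 7]⟩, ⟨51, [32, 29], [3, 7, 7, 2, 6, 3, 7, 2, 2, 6, 2, 7, 2, 7]⟩], [28, 29, 28]⟩,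
    ⟨[3, 3, 6], 227, [⟨61, [], [3, 3, 6]⟩, ⟨59, [27, 33, 29], [2, 6, 2, 2, 6, 3, 3, 7, 7, 2, 6, 6, 2]⟩, ⟨99, [53, 52, 54, 53, 54, 53], [7, 7, 3, 6, 2, 7, 7, 2, 6, 3, 7, 2, 2]⟩], [28, 28, 27]⟩,
    ⟨[3, 3, 7], 127, [⟨61, [], [3, 3, 7]⟩, ⟨59, [28, 33, 30], [2, 7, 3, 6, 6, 3, 3, 7, 2]⟩, ⟨99, [55, 52, 55, 52, 54], [2, 7, 7, 2, 2, 6, 3, 3, 7, 2, 2, 7, 3]⟩], [32, 34, 34]⟩,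
    ⟨[6, 6, 3], 145, [⟨61, [], [6, 6, 3]⟩, ⟨57, [30, 34, 29], [2, 7, 2, 2, 2, 6, 2, 2, 6, 2, 7, 2]⟩, ⟨88, [39, 36, 35], [7, 7, 2, 7, 3, 6, 2, 2, 7, 3, 6, 2, 7]⟩], [30, 33, 33, 30]⟩,
    ⟨[7, 7, 7], 132, [⟨61, [], [7, 7, 7]⟩, ⟨61, [28, 29, 28], [2, 7, 7, 2, 7, 3, 6, 2, 2, 7, 2, 6, 6]⟩, ⟨58, [27, 32], [7, 2, 6, 2, 2, 7, 3, 6, 3, 3, 6, 6]⟩], [32, 34, 34]⟩,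
    ⟨[3, 3, 6, 3], 464, [⟨61, [], [3, 3, 6, 3]⟩, ⟨59, [28, 34], [3, 6, 3, 7, 7, 2, 2, 7, 2, 2, 2]⟩, ⟨99, [54, 52, 55, 53, 54, 54], [7, 3, 6, 6, 2, 2, 7, 2, 6, 3]⟩], [32, 29, 27, 27]⟩,
    ⟨[3, 3, 6, 2], 463, [⟨61, [], [3, 3, 6, 2]⟩, ⟨61, [34, 34, 29], [3, 6, 3, 7, 7, 2, 2, 7, 3, 3, 7, 2]⟩, ⟨61, [34, 32, 34, 27], [2, 7, 7, 3, 6, 2, 7, 7, 2, 7, 2]⟩], [34, 29, 34]⟩,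
    ⟨[6, 6, 3, 3], 272, [⟨61, [], [6, 6, 3, 3]⟩, ⟨49, [29, 27], [6, 2, 7, 7, 3, 3, 7, 7, 2, 7, 2, 6]⟩, ⟨25, [18, 17, 5, 10], [7, 7, 3, 3, 6, 6, 3, 7, 7, 2]⟩], [34, 34, 29, 27]⟩,
    ⟨[6, 6, 3, 7], 996, [⟨61, [], [6, 6, 3, 7]⟩, ⟨54, [27, 27, 27], [3, 7, 2, 2, 7, 2, 6, 3, 3, 7, 2, 2, 2]⟩, ⟨84, [40, 39], [2, 2, 6, 6, 2, 2, 2, 7, 3, 3, 7, 2]⟩], [27, 28, 29]⟩,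
    ⟨[7, 7, 7, 2], 282, [⟨61, [], [7, 7, 7, 2]⟩, ⟨58, [31], [7, 2, 6, 3, 3, 7, 3, 6, 3, 3, 7]⟩, ⟨61, [33, 33, 32, 27], [6, 3, 3, 7, 3, 6, 3, 7, 2, 6, 3, 3, 7]⟩], [28, 27, 27]⟩,
    ⟨[2, 2, 7, 3], 374, [⟨61, [], [2, 2, 7, 3]⟩, ⟨61, [28, 29, 29], [6, 2, 7, 7, 3, 6, 2, 2]⟩, ⟨61, [28, 28, 31], [7, 7, 3, 6, 6, 2, 7, 2, 7]⟩], [28, 29, 30]⟩,
    ⟨[2, 2, 7, 2], 373, [⟨61, [], [2, 2, 7, 2]⟩, ⟨60, [32, 33], [3, 7, 2, 2, 6, 3, 6, 2, 7, 2, 2, 2, 6]⟩, ⟨88, [39, 35, 35], [7, 2, 6, 3, 3, 7, 7, 2, 7, 7, 3, 3, 6, 2, 2]⟩], [28, 27, 28]⟩,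
    ⟨[2, 2, 2, 6, 3], 711, [⟨61, [], [2, 2, 2, 6, 3]⟩, ⟨57, [34, 27, 27], [7, 2, 7, 3, 6, 2, 7, 7, 3, 6, 2, 2]⟩, ⟨84, [37, 38, 40], [6, 3, 6, 2, 2, 6, 2, 2, 7, 7, 7, 2]⟩], [32, 31, 28, 27]⟩,
    ⟨[2, 2, 2, 7, 2], 703, [⟨61, [], [2, 2, 2, 7, 2]⟩, ⟨57, [33, 28], [2, 7, 2, 2, 6, 6, 2, 2, 7, 2, 2, 6, 6]⟩, ⟨84, [36, 39, 35], [3, 7, 2, 7, 3, 3, 7, 3, 6, 2, 7, 2, 2]⟩], [29, 27, 31, 27]⟩,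
    ⟨[6, 6, 3, 7, 3], 1110, [⟨61, [], [6, 6, 3, 7, 3]⟩, ⟨56, [31, 28], [7, 7, 3, 6, 6, 3, 7, 3, 3, 6, 6]⟩, ⟨41, [20, 15], [7, 7, 7, 2, 7, 7, 3, 6, 6, 3, 7, 2]⟩], [28, 28, 29, 28]⟩,
    ⟨[7, 7, 2, 6, 2], 1102, [⟨61, [], [7, 7, 2, 6, 2]⟩, ⟨49, [29, 27, 27], [3, 6, 3, 7, 2, 6, 6, 3, 7, 2, 7, 2]⟩, ⟨25, [8, 5, 18, 10], [2, 7, 7, 7, 2, 7, 2, 6, 3, 3]⟩], [30, 30]⟩,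
    ⟨[3, 3, 6, 2, 7, 3], 269, [⟨61, [], [3, 3, 6, 2, 7, 3]⟩, ⟨57, [32, 34], [7, 2, 6, 3, 6, 6, 3, 7, 3, 3, 6]⟩, ⟨80, [39, 39, 35], [6, 6, 3, 7, 3, 3, 7, 2, 7, 7, 3]⟩], [34, 29, 34]⟩,
    ⟨[2, 2, 7, 3, 6, 2], 317, [⟨61, [], [2, 2, 7, 3, 6, 2]⟩, ⟨61, [32, 29], [6, 3, 3, 7, 7, 2, 7, 2, 2, 7, 3, 6, 2]⟩, ⟨58, [32, 29, 27], [2, 2, 2, 7, 7, 7, 2, 7, 2, 2, 7, 7]⟩], [34, 32, 34, 30]⟩,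
    ⟨[3, 3, 6, 2, 7, 3, 3], 165, [⟨61, [], [3, 3, 6, 2, 7, 3, 3]⟩, ⟨54, [30], [6, 2, 2, 2, 6, 2, 7, 3, 3, 6, 2, 7]⟩, ⟨88, [38, 35], [7, 7, 2, 7, 3, 6, 3, 3, 7, 2, 2, 7, 2, 7]⟩], [28, 31, 31]⟩,
    ⟨[3, 3, 6, 2, 7, 3, 6], 536, [⟨61, [], [3, 3, 6, 2, 7, 3, 6]⟩, ⟨53, [30], [6, 2, 7, 3, 6, 6, 2, 2, 6, 2, 7, 3, 3]⟩, ⟨41, [21, 21, 16], [6, 6, 2, 2, 6, 2, 7, 2, 2, 2, 7, 2]⟩], [31, 32, 30]⟩],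
   [([0], [8]), ([0], [28]), ([0], [24]), ([0], [20]), ([0], [69]), ([0], [16]), ([0], [61]), ([0], [227]), ([0], [145]), ([0], [132]), ([0], [464]), ([0], [463]), ([0], [272]), ([0], [282]), ([0], [374]), ([0], [373]), ([0], [711]), ([0], [703]), ([0], [1102]), ([0], [317])]⟩,
  ⟨[⟨[], 3, [⟨62, [], []⟩, ⟨32, [], [7, 7, 3, 6, 3, 7, 3, 3, 6, 2, 7, 7]⟩, ⟨35, [21], [6, 2, 7, 3, 6, 2, 7, 7, 2, 2, 6, 2]⟩], [37, 39, 39]⟩,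
    ⟨[3], 8, [⟨62, [], [3]⟩, ⟨41, [15, 23, 15], [7, 2, 6, 6, 3, 7, 2, 7, 7, 7]⟩, ⟨54, [27, 27], [2, 6, 6, 3, 6, 6, 2, 2, 6, 6, 2, 2, 7]⟩], [35, 37, 38, 40]⟩,
    ⟨[6], 28, [⟨62, [], [6]⟩, ⟨44, [15, 16, 15, 20], [2, 7, 2, 2, 6, 6, 3, 6, 6, 2, 2, 7, 2, 2]⟩, ⟨95, [53, 54, 53, 55], [7, 7, 2, 7, 3, 6, 3, 7, 2, 6, 6, 3, 6, 2]⟩], [38, 36, 39, 35]⟩,
    ⟨[2], 7, [⟨62, [], [2]⟩, ⟨42, [21, 16], [6, 6, 3, 7, 3, 3, 7, 2, 2, 6, 6, 3, 6]⟩, ⟨73, [39], [7, 7, 3, 3, 7, 2, 2, 6, 6, 2]⟩], [36, 36, 39, 35, 35]⟩,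
    ⟨[3, 3, 6, 2, 7, 3, 3], 165, [⟨62, [], [3, 3, 6, 2, 7, 3, 3]⟩, ⟨38, [23, 16], [6, 3, 6, 6, 2, 7, 2, 6, 3, 3, 6]⟩, ⟨64, [38], [6, 2, 7, 7, 2, 7, 7, 2, 2, 2]⟩], [35, 39, 35]⟩],
   [([0], [3]), ([0], [8]), ([0], [127]), ([1], [127]), ([0], [283, 632]), ([1], [283, 632]), ([0], [596, 703]), ([0], [361]), ([1], [361]), ([0], [28]), ([1], [28]), ([0], [179, 710]), ([1], [179, 710]), ([0], [145, 272, 126, 1102]), ([1], [145, 126, 1102]), ([0], [516, 132, 227, 452]), ([1], [516, 132, 227, 452]), ([0], [395, 789, 317, 398, 872, 269]), ([1], [395, 269]), ([0], [7]), ([0], [1110]), ([1], [1110]), ([0], [464])]⟩,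
  ⟨[⟨[], 3, [⟨63, [], []⟩, ⟨30, [23, 21], [6, 3, 3, 7, 2, 2, 6, 2, 7, 2, 7, 7, 3]⟩, ⟨19, [13, 5], [2, 6, 3, 6, 2, 2, 2, 6, 3, 7, 3, 6, 2]⟩], [37, 38, 35]⟩,
    ⟨[3], 8, [⟨63, [], [3]⟩, ⟨45, [15, 16, 16], [3, 6, 6, 3, 3, 7, 2, 7, 2, 6, 2, 7]⟩, ⟨77, [36], [3, 6, 3, 7, 2, 6, 3, 7, 2, 2]⟩], [40, 38]⟩,
    ⟨[6], 28, [⟨63, [], [6]⟩, ⟨40, [22, 15], [3, 3, 6, 3, 7, 2, 7, 7, 3, 3, 6]⟩, ⟨52, [30, 30], [6, 2, 7, 7, 3, 3, 7, 3, 3, 6, 2, 7, 2, 2]⟩], [36, 35]⟩,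
    ⟨[7], 24, [⟨63, [], [7]⟩, ⟨38, [26], [3, 3, 7, 2, 6, 3, 3, 7, 2, 7, 7, 7]⟩, ⟨81, [37], [2, 6, 6, 2, 7, 7, 2, 7, 7, 3, 6, 3, 7, 2]⟩], [36, 36, 40]⟩,
    ⟨[3, 3, 6, 2, 7, 3, 3], 165, [⟨63, [], [3, 3, 6, 2, 7, 3, 3]⟩, ⟨36, [21, 16], [3, 7, 7, 2, 6, 3, 6, 2, 7, 7, 2, 7, 3]⟩, ⟨29, [9, 9, 12, 9], [3, 3, 7, 2, 2, 6, 6, 2, 2, 7, 2, 2, 7]⟩], [40, 39, 40, 36]⟩],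
   [([1], [3]), ([0], [8]), ([1], [8]), ([0], [377, 710]), ([1], [710]), ([0], [145, 16, 272]), ([1], [145, 16]), ([0], [516, 395]), ([1], [126, 516, 395, 373, 42]), ([0], [282, 1102, 596, 283, 869]), ([1], [655, 1102, 596]), ([0], [227, 374, 463]), ([1], [374]), ([0], [28]), ([1], [28]), ([0], [61, 711]), ([1], [61]), ([0], [789, 57]), ([1], [789, 57]), ([0], [162]), ([1], [632]), ([0], [24]), ([1], [24]), ([0], [998]), ([0], [464])]⟩,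
  ⟨[⟨[], 3, [⟨64, [], []⟩, ⟨68, [39], [2, 6, 2, 7, 2, 2, 2, 6, 6, 3, 7]⟩, ⟨68, [39], [6, 3, 6, 6, 2, 7, 7, 2, 2, 7, 3, 3, 6, 6]⟩], [37, 39, 40, 36, 35]⟩,
    ⟨[3], 8, [⟨64, [], [3]⟩, ⟨76, [38, 38, 35], []⟩, ⟨94, [55, 53, 55, 56, 55], [6, 6, 3, 7, 3, 3, 7, 7, 2, 6, 6, 3]⟩], [39, 40, 40]⟩,
    ⟨[6], 28, [⟨64, [], [6]⟩, ⟨74, [40, 40], [3, 6, 6, 2, 2, 2, 7, 2, 6, 2, 2, 7]⟩, ⟨22, [17, 13, 9, 5, 10], [7, 7, 2, 7, 3, 6, 6, 2, 7, 7, 2, 7, 2, 6]⟩], [38, 40, 39]⟩,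
    ⟨[7], 24, [⟨64, [], [7]⟩, ⟨75, [37], [3, 3, 6, 2, 7, 2, 6, 2, 7, 2, 2, 2]⟩, ⟨92, [], [3, 3, 6, 2, 7, 2, 6, 2, 7, 2, 2, 2]⟩], []⟩,
    ⟨[3, 3, 6, 2, 7, 3, 3], 165, [⟨64, [], [3, 3, 6, 2, 7, 3, 3]⟩, ⟨62, [38], [2, 2, 2, 7, 7, 2, 6, 6, 2, 2, 7]⟩, ⟨38, [23, 16], [2, 7]⟩], [40, 38]⟩],
   [([0], [3]), ([0], [8]), ([1], [8]), ([0], [283, 655]), ([1], [283, 655]), ([0], [566, 377, 145, 996]), ([1], [566, 377, 996]), ([0], [516, 132, 272, 361]), ([1], [596, 179, 132, 272, 20]), ([0], [282, 374, 395, 373]), ([1], [282, 42]), ([0], [452]), ([0], [28]), ([1], [28]), ([0], [711, 398]), ([0], [536, 127]), ([1], [536, 127]), ([0], [789]), ([1], [61, 632]), ([1], [24]), ([0], [464]), ([1], [464]),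 ([0], [1110])]⟩]
theorem c_r0_16 : relAll tab 83 1408 HNU.base HNU.ph HNU.phI st rel0 3 om0 es16 cs16 rs0_16 = true := by decide +kernel
def rs0_17 : List RE := [
  ⟨[⟨[], 3, [⟨65, [], []⟩, ⟨14, [], [3, 3, 6, 3, 3, 7, 7, 2, 7, 7, 2, 7, 2]⟩, ⟨29, [14, 19, 10, 12], []⟩], []⟩,
    ⟨[3], 8, [⟨65, [], [3]⟩, ⟨16, [18, 10, 5], [6, 6, 3, 3, 6, 3, 7, 2, 2, 7, 2, 6, 3]⟩, ⟨43, [16, 16, 15, 16], [3, 3, 6, 2, 7, 7, 3, 3, 6, 3, 3, 7, 3]⟩], [39, 40, 39, 35]⟩,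
    ⟨[6], 28, [⟨65, [], [6]⟩, ⟨25, [9, 18, 10], [7, 7, 3, 6, 6, 3, 6, 2, 7, 3, 3, 6]⟩, ⟨57, [33, 29, 32], [2, 2, 2, 6, 2, 2, 6, 3, 3, 7, 7, 7, 3]⟩], [35, 39, 39, 40]⟩,
    ⟨[2], 7, [⟨65, [], [2]⟩, ⟨19, [5, 13, 17], [7, 3, 3, 6, 6, 2, 7, 7, 2, 6, 6, 3]⟩, ⟨73, [37], [6, 6, 3, 3, 7, 3, 3, 6, 2, 7]⟩], [39, 37, 38]⟩,
    ⟨[7], 24, [⟨65, [], [7]⟩, ⟨21, [5, 18], [3, 3, 6, 6, 3, 7, 2, 6, 2, 2]⟩, ⟨35, [26, 21, 20], [3, 6, 3, 3, 7, 3, 6, 2, 2, 2, 7, 2]⟩], [40, 36, 38]⟩,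
    ⟨[3, 6], 57, [⟨65, [], [3, 6]⟩, ⟨22, [9, 18, 9, 13], [2, 2, 6, 2, 7, 3, 6, 6, 3, 7, 2, 2]⟩, ⟨69, [40, 38], [6, 2, 2, 7, 2, 7, 7, 3, 3, 7, 2, 2, 6]⟩], [40, 38, 38]⟩,
    ⟨[3, 3, 6, 2, 7, 3, 3], 165, [⟨65, [], [3, 3, 6, 2, 7, 3, 3]⟩, ⟨18, [5], [6, 6, 2, 7, 7, 3, 6, 2, 2, 7]⟩, ⟨68, [38, 36, 39], [6, 6, 3, 7, 7, 3, 6, 6, 2, 7]⟩], [40, 40, 36]⟩],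
   [([0], [8]), ([1], [8]), ([0], [566]), ([0], [283]), ([0], [16]), ([0], [28]), ([1], [28]), ([0], [996, 132]), ([1], [996]), ([0], [516, 452, 872]), ([1], [516, 452]), ([0], [20, 269, 789, 377, 710]), ([1], [269]), ([0], [42, 69, 126, 374]), ([1], [655, 69, 126]), ([0], [869, 395, 282, 145]), ([0], [536, 373]), ([0], [7]), ([1], [7]), ([0], [1110, 704]), ([1], [57]), ([0], [162]), ([0], [127]), ([0], [703]), ([0], [632])]⟩,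
  ⟨[⟨[], 3, [⟨66, [], []⟩, ⟨27, [], [2, 7, 7, 2, 6, 3, 7, 2, 2, 6, 6, 2]⟩, ⟨18, [5], [2, 7, 2, 6, 2, 2, 6, 3, 3, 7, 7, 3]⟩], []⟩,
    ⟨[3], 8, [⟨66, [], [3]⟩, ⟨29, [14, 9, 12, 12], [2, 7, 2, 6, 2, 2, 7, 2, 2, 7, 3, 3, 6, 2, 7]⟩, ⟨69, [40, 40], [6, 2, 2, 2, 7, 3, 6, 3, 3, 7, 7, 2, 2, 7]⟩], [36, 36, 38, 35, 35]⟩,
    ⟨[6], 28, [⟨66, [], [6]⟩, ⟨28, [19, 9, 25, 10], [6, 3, 7, 2, 6, 2, 7, 2, 2, 6, 2]⟩, ⟨45, [15, 21, 23, 22], [7, 3, 6, 6, 3, 7, 7, 3, 3, 6, 3, 3]⟩], [36, 39, 35, 35]⟩,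
    ⟨[2], 7, [⟨66, [], [2]⟩, ⟨29, [4, 19, 9, 12], [2, 2, 7, 3, 6, 3, 7, 3, 6, 3, 3]⟩, ⟨70, [], [2, 2, 7, 3, 6, 3, 7, 3, 6, 2, 2, 2]⟩], []⟩,
    ⟨[3, 3, 6, 2, 7, 3, 3], 165, [⟨66, [], [3, 3, 6, 2, 7, 3, 3]⟩, ⟨28, [14], [3, 3, 6, 2, 2, 6, 3, 3, 6, 6, 2, 2]⟩, ⟨42, [20], [2, 7, 2, 2, 6, 6, 3, 7, 2, 6, 3]⟩], [38, 36, 39]⟩],
   [([0], [3]), ([0], [8]), ([1], [8]), ([0], [57, 162]), ([0], [283, 361]), ([1], [283]), ([0], [703, 632]), ([1], [632]), ([0], [596]), ([0], [28]), ([1], [28]), ([0], [373, 536]), ([1], [373]), ([0], [145, 317, 395]), ([1], [145, 317, 395]), ([0], [452, 516, 1102, 710]), ([1], [179, 452, 516, 1102, 710]), ([0], [126, 69, 655]), ([1], [272, 61, 872, 126, 69]), ([0], [42]),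 ([0], [7]), ([0], [998]), ([1], [998]), ([0], [464])]⟩,
  ⟨[⟨[], 3, [⟨67, [], []⟩, ⟨12, [], [2, 6, 3, 7, 3, 6, 3, 3, 7, 2, 7, 2, 2]⟩, ⟨19, [5], [3, 7, 7, 2, 6, 2, 2, 7, 7, 2, 7, 3, 3]⟩], [40, 38, 36, 35]⟩,
    ⟨[3], 8, [⟨67, [], [3]⟩, ⟨23, [17], [7, 3, 3, 7, 7, 2, 6, 3, 7, 3, 3, 6]⟩, ⟨42, [23, 16], [7, 2, 6, 3, 6, 6, 3, 7, 2, 7, 3, 6, 3]⟩], []⟩,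
    ⟨[6], 28, [⟨67, [], [6]⟩, ⟨18, [5, 13, 17], [2, 7, 2, 6, 2, 7, 2, 2, 6, 3, 3, 6]⟩, ⟨81, [39], [2, 2, 6, 3, 7, 3, 6, 3, 7, 2, 2]⟩], [35, 35]⟩,
    ⟨[2], 7, [⟨67, [], [2]⟩, ⟨22, [13], [3, 7, 2, 2, 2, 6, 6, 3, 3, 6, 3, 7, 2]⟩, ⟨85, [35, 35, 38, 35], [6, 6, 2, 7, 3, 6, 3, 7, 2, 7, 7, 2, 6]⟩], [40, 39, 35]⟩,
    ⟨[7], 24, [⟨67, [], [7]⟩, ⟨17, [17, 5], [6, 6, 2, 2, 7, 3, 3, 7, 3, 6]⟩, ⟨22, [18, 5, 9, 13], [3, 6, 3, 7, 3, 3, 7, 7, 7, 2, 7, 7]⟩], [37, 35, 37, 35]⟩,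
    ⟨[3, 6], 57, [⟨67, [], [3, 6]⟩, ⟨25, [17, 17, 10, 18], [6, 6, 3, 7, 7, 3, 3, 6, 3, 7, 2, 7]⟩, ⟨55, [31], [7, 3, 6, 6, 2, 2, 7, 2, 2, 6, 2, 7]⟩], [38, 35, 39, 40]⟩,
    ⟨[2, 2, 7, 3, 6, 2, 2], 162, [⟨67, [], [2, 2, 7, 3, 6, 2, 2]⟩, ⟨16, [18, 8, 5, 9], [2, 7, 7, 3, 3, 6, 3, 7, 3, 3, 7, 2, 2]⟩, ⟨35, [15, 16, 15], [2, 7, 2, 6, 6, 3, 3, 7, 7, 2, 2, 7]⟩], [38, 40, 39, 35]⟩],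
   [([0], [28]), ([1], [28]), ([0], [1102]), ([1], [1102]), ([0], [7]), ([1], [7]), ([0], [227, 398]), ([1], [227, 398]), ([0], [145, 789, 283]), ([1], [179, 145, 789, 283]), ([0], [998, 464, 566, 872, 463, 996]), ([1], [998, 566, 872, 463, 996]), ([0], [20, 596, 132]), ([1], [20, 132]), ([0], [24]), ([0], [655]), ([1], [395]), ([0], [536]), ([1], [536]), ([0], [57]), ([1], [57]), ([0], [127, 165]), ([0], [711])]⟩,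
  ⟨[⟨[], 3, [⟨68, [], []⟩, ⟨64, [38], [6, 2, 2, 6, 6, 3, 6, 2, 7, 2, 6, 2, 7, 2, 2, 2]⟩, ⟨68, [39], [2, 6, 3, 6, 6, 2, 2, 7, 7, 2]⟩], [38, 36, 36, 35, 35]⟩,
    ⟨[3], 8, [⟨68, [], [3]⟩, ⟨68, [39], [3, 6, 6, 2, 2, 7, 2, 6, 6, 3, 7, 2, 2]⟩, ⟨64, [38], [6, 2, 2, 7, 2, 2, 6, 2]⟩], [38, 36, 36, 40]⟩,
    ⟨[6], 28, [⟨68, [], [6]⟩, ⟨75, [37], [2, 6, 6, 2, 2, 7, 3, 3, 7]⟩, ⟨92, [47, 43, 41], [2, 6, 6, 2, 7, 7, 3, 3, 7]⟩], [37, 39, 39, 40]⟩,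
    ⟨[2], 7, [⟨68, [], [2]⟩, ⟨84, [38], [3, 6, 6, 3, 6, 6, 2, 2, 6, 6, 3, 6, 6, 3]⟩, ⟨60, [34, 30], [3, 7, 3, 3, 7, 2, 2, 6, 3, 3, 7, 2]⟩], [35, 39, 40]⟩,
    ⟨[7], 24, [⟨68, [], [7]⟩, ⟨83, [], [6, 6, 3, 7, 7, 3, 6, 6, 2, 7, 2, 7]⟩, ⟨52, [27, 27], [6, 6, 3, 7, 7, 2, 7, 7, 7, 2, 2, 7, 3]⟩], [35, 37, 40]⟩,
    ⟨[3, 6], 57, [⟨68, [], [3, 6]⟩, ⟨72, [39, 39, 35], [2, 2, 6, 2, 7, 3, 6, 3, 7, 3, 3, 6]⟩, ⟨55, [33, 27], [7, 7, 3, 6, 6, 3, 7, 2, 7, 7, 2, 7, 2]⟩], [40, 36, 40]⟩,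
    ⟨[2, 2, 7, 3, 6, 2, 2], 162, [⟨68, [], [2, 2, 7, 3, 6, 2, 2]⟩, ⟨65, [36], [2, 2, 2, 6, 6, 3, 7, 2, 6, 2, 7, 7, 3]⟩, ⟨18, [5], [3, 3, 6, 2, 7, 3, 6, 2, 2, 7, 3]⟩], [39, 39, 37]⟩],
   [([0], [28]), ([1], [28]), ([0], [1102]), ([0], [373]), ([0], [7]), ([1], [7]), ([0], [398, 872]), ([1], [398]), ([0], [283, 361, 16]), ([1], [283, 16]), ([0], [996, 464, 61, 126]), ([1], [996, 464, 61, 126]), ([0], [272, 179, 452]), ([1], [272, 179, 452]), ([0], [566, 1110, 516]), ([1], [566]), ([0], [42]), ([0], [24]), ([1], [24]), ([0], [655, 536]), ([1], [655]), ([0], [57]), ([0], [165]), ([1], [165]), ([0], [711]), ([1], [711])]⟩,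
  ⟨[⟨[], 3, [⟨69, [], []⟩, ⟨66, [38], [7, 2, 2, 7, 2, 6, 3, 7, 3, 3, 7, 7, 2, 6]⟩, ⟨29, [14, 19, 10, 19], [2, 2, 2, 6, 3, 7, 2, 2, 7, 2, 7, 3]⟩], [38, 38, 35]⟩,
    ⟨[3], 8, [⟨69, [], [3]⟩, ⟨87, [36, 38, 40], [2, 7, 3, 3, 6, 2, 2, 6, 2, 2, 2, 7]⟩, ⟨87, [35, 38], [2, 6, 2, 2, 6, 3, 3, 6, 2, 7, 2, 2, 7, 7, 2]⟩], [38, 40, 38]⟩,
    ⟨[6], 28, [⟨69, [], [6]⟩, ⟨76, [], [3, 7, 3, 6, 3, 3, 7, 3, 6, 2, 2, 2]⟩, ⟨97, [55, 56, 55, 52, 54, 54], [7, 7, 2, 2, 6, 3, 3, 6, 6, 3, 7, 7, 2, 2, 7]⟩], [38, 35, 39, 40]⟩,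
    ⟨[2], 7, [⟨69, [], [2]⟩, ⟨65, [], [3, 7, 2, 2, 6, 6, 2, 2, 7, 2, 6, 3, 6, 2]⟩, ⟨22, [17, 13, 8, 10], [2, 7, 7, 2, 7, 3, 6, 3, 7, 2, 6, 6]⟩], [38, 37, 35, 37]⟩,
    ⟨[7], 24, [⟨69, [], [7]⟩, ⟨72, [35, 37], [3, 6, 6, 2, 7, 3, 6, 3, 7, 2, 7, 7, 2, 2]⟩, ⟨57, [27, 31], [3, 3, 6, 2, 2, 6, 3, 3, 7, 7, 7, 3]⟩], [35, 39, 39, 40]⟩,
    ⟨[3, 3], 20, [⟨69, [], [3, 3]⟩, ⟨91, [38, 35], [6, 3, 3, 7, 2, 2, 7, 3, 3, 6, 3, 7, 7]⟩, ⟨91, [39, 36], [7, 2, 2, 6, 6, 3, 7, 3, 3, 7, 2]⟩], [39, 36, 36, 38, 35, 35]⟩,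
    ⟨[3, 6], 57, [⟨69, [], [3, 6]⟩, ⟨83, [38, 40, 39], [3, 7, 2, 6, 2, 2, 7, 7, 3, 6, 3]⟩, ⟨54, [32, 29], [2, 7, 3, 3, 6, 6, 3, 6, 2, 7, 7, 3, 6]⟩], [35, 39, 39]⟩,
    ⟨[2, 2], 16, [⟨69, [], [2, 2]⟩, ⟨86, [35, 38, 40], [2, 2, 7, 7, 2, 6, 3, 7, 2, 6]⟩, ⟨94, [56, 52, 54, 56, 54], [6, 2, 7, 2, 7, 7, 3, 3, 6, 2, 7, 7, 2]⟩], [37, 39, 39]⟩,
    ⟨[2, 2, 2], 42, [⟨69, [], [2, 2, 2]⟩, ⟨88, [37, 39, 35, 35], [2, 6, 2, 2, 6, 3, 7, 2, 7, 2, 2, 2, 7]⟩, ⟨52, [27, 27], [3, 6, 6, 3, 6, 6, 2, 2, 7, 3, 6, 2, 7, 7, 2]⟩], [38, 36, 36, 35, 35]⟩,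
    ⟨[3, 3, 7], 127, [⟨69, [], [3, 3, 7]⟩, ⟨85, [37], [3, 7, 2, 2, 7, 3, 6, 3, 3, 7, 2, 7]⟩, ⟨85, [36, 35], [2, 6, 6, 3, 6, 2, 7, 7, 2, 2, 7]⟩], [37, 39, 39]⟩,
    ⟨[3, 3, 6, 2, 7, 3], 269, [⟨69, [], [3, 3, 6, 2, 7, 3]⟩, ⟨74, [], [6, 2, 2, 2, 6, 2, 2, 6, 2, 2, 2]⟩, ⟨18, [13, 8], [2, 2, 2, 6, 3, 7, 2, 7, 7, 3, 3]⟩], [36, 36, 38, 35]⟩,
    ⟨[3, 3, 6, 2, 7, 3, 3], 165, [⟨69, [], [3, 3, 6, 2, 7, 3, 3]⟩, ⟨80, [36, 35, 35], [6, 3, 7, 7, 3, 6, 6, 2, 2, 6, 3, 3]⟩, ⟨55, [28, 27, 27], [3, 6, 3, 3, 6, 6, 3, 3, 7, 7, 2, 2]⟩], [40, 36, 39]⟩],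
   [([0], [8]), ([1], [8]), ([0], [655]), ([1], [272, 655]), ([0], [373, 516]), ([1], [373, 516]), ([0], [28]), ([1], [28]), ([0], [398]), ([1], [398]), ([0], [24]), ([1], [464]), ([0], [998]), ([1], [998]), ([0], [20]), ([1], [20]), ([0], [710]), ([1], [1102, 710]), ([0], [282, 596]), ([1], [282, 596]), ([0], [16]), ([1], [869]), ([0], [227]), ([1], [227]), ([0], [42]), ([1], [42]), ([0], [361]), ([1], [317]), ([0], [127]), ([1], [127]), ([0], [632]), ([1], [711])]⟩]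
theorem c_r0_17 : relAll tab 83 1408 HNU.base HNU.ph HNU.phI st rel0 3 om0 es17 cs17 rs0_17 = true := by decide +kernel
def rs0_18 : List RE := [
  ⟨[⟨[], 3, [⟨70, [], []⟩, ⟨66, [], [2, 2, 7, 3, 6, 3, 7, 3, 6, 3, 3]⟩, ⟨29, [4, 19, 9, 12], [2]⟩], []⟩,
    ⟨[3], 8, [⟨70, [], [3]⟩, ⟨71, [38], [7, 2, 2, 6, 6, 2, 2, 7, 2]⟩, ⟨35, [22, 20], [7, 2, 7, 2, 6, 2, 7, 2, 7, 7]⟩], [39, 36, 40, 36, 40]⟩,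
    ⟨[2], 7, [⟨70, [], [2]⟩, ⟨86, [39, 39], [6, 3, 7, 3, 3, 6, 2, 7, 3, 6, 3, 7]⟩, ⟨97, [55, 55, 55, 55, 55, 53], [2, 2, 7, 7, 7, 2, 7, 3, 6, 2, 2, 7]⟩], [39, 37, 35, 38]⟩,
    ⟨[3, 6], 57, [⟨70, [], [3, 6]⟩, ⟨78, [40, 38, 35], [6, 6, 3, 7, 7, 2, 6, 3, 7, 2, 2, 6, 6, 3]⟩, ⟨45, [22, 15], [2, 6, 2, 7, 2, 6, 2, 2, 7, 3, 6, 2, 2, 2]⟩], [35, 37, 35, 35]⟩,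
    ⟨[2, 2], 16, [⟨70, [], [2, 2]⟩, ⟨87, [38, 35, 38], [6, 2, 2, 7, 2, 6, 3, 3, 7, 2, 6, 3]⟩, ⟨91, [35, 39, 35], [2, 2, 7, 3, 6, 2, 7, 7, 2, 6, 6, 3, 7]⟩], [39, 36, 36, 38, 35, 35]⟩,
    ⟨[7, 7], 61, [⟨70, [], [7, 7]⟩, ⟨91, [36], [6, 2, 7, 3, 6, 2, 7, 2, 6, 3, 6, 6, 2]⟩, ⟨87, [38, 37], [3, 6, 6, 2, 7, 2, 2, 6, 6, 3, 6, 6]⟩], [38, 38, 40, 40]⟩,
    ⟨[2, 2, 7, 2], 373, [⟨70, [], [2, 2, 7, 2]⟩, ⟨81, [35, 38], [2, 2, 7, 2, 7, 7, 3, 3, 7, 2, 2, 6, 6, 2]⟩, ⟨73, [38, 35], [2, 2, 7, 2]⟩], [36, 38, 38, 35]⟩,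
    ⟨[2, 2, 7, 3, 6, 2, 2], 162, [⟨70, [], [2, 2, 7, 3, 6, 2, 2]⟩, ⟨75, [38, 35], [3, 6, 6, 3, 7, 7, 2, 6, 3, 7, 2, 2, 2, 7]⟩, ⟨92, [45, 42], [2, 6, 3, 6, 2, 7, 7, 2, 7, 3, 6, 3]⟩], [39, 36, 40, 36]⟩],
   [([0], [8]), ([0], [7]), ([1], [7]), ([0], [282]), ([1], [536, 282]), ([0], [317, 395]), ([1], [317, 395]), ([0], [20, 24]), ([0], [57]), ([1], [57]), ([0], [703, 165]), ([1], [165]), ([0], [16]), ([1], [16]), ([0], [227, 996]), ([1], [227, 996]), ([0], [464, 42]), ([1], [464, 42]), ([0], [789]), ([0], [61]), ([1], [61]), ([0], [126, 872]), ([1], [872]), ([0], [269, 998, 283]), ([1], [269, 998]), ([0], [596]), ([0], [373]), ([0], [869]), ([0], [710])]⟩,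
  ⟨[⟨[], 3, [⟨71, [], []⟩, ⟨32, [], [2, 7, 2, 6, 3, 6, 6, 2, 7, 2, 7, 7]⟩, ⟨38, [21], [2, 2, 7, 3, 6, 2, 7, 7, 3, 3, 6, 3]⟩], []⟩,
    ⟨[3], 8, [⟨71, [], [3]⟩, ⟨39, [16, 22, 15], [2, 7, 3, 6, 2, 2, 7, 3, 3, 7, 3]⟩, ⟨43, [21, 15, 23], [2, 6, 3, 3, 6, 3, 3, 7, 3, 6, 2, 2, 7, 3]⟩], [35, 37, 35, 35]⟩,
    ⟨[6], 28, [⟨71, [], [6]⟩, ⟨44, [20, 15, 20, 15], [7, 2, 6, 3, 3, 7, 3, 3, 7, 7, 7, 2]⟩, ⟨97, [], [7, 2, 6, 3, 3, 7, 3, 3, 7, 7, 7, 2]⟩], [37, 39, 37, 38]⟩,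
    ⟨[2], 7, [⟨71, [], [2]⟩, ⟨35, [21, 15], [3, 7, 2, 2, 7, 7, 2, 6, 3, 6, 6, 2]⟩, ⟨70, [38, 35], [6, 3, 3, 7, 2, 2, 6, 6, 2, 2, 7, 2, 2, 7]⟩], [39, 35, 35]⟩,
    ⟨[7], 24, [⟨71, [], [7]⟩, ⟨31, [23, 21, 26], [6, 2, 2, 6, 3, 3, 6, 6, 2, 7, 2, 6]⟩, ⟨18, [10, 18, 10], [2, 6, 2, 7, 2, 2, 2, 6, 6, 2]⟩], [40, 39]⟩,
    ⟨[3, 6], 57, [⟨71, [], [3, 6]⟩, ⟨40, [21, 26, 22, 15], [6, 3, 7, 2, 6, 3, 6, 2, 7, 3, 3, 7, 3]⟩, ⟨54, [31, 28], [2, 2, 7, 2, 2, 7, 3, 6, 3, 7, 2, 6, 2, 7]⟩], [39, 36, 39]⟩,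
    ⟨[3, 3, 6, 2, 7, 3, 3], 165, [⟨71, [], [3, 3, 6, 2, 7, 3, 3]⟩, ⟨33, [26, 20, 20], [2, 6, 3, 3, 6, 3, 3, 6, 6, 2, 7, 2, 7]⟩, ⟨19, [5], [7, 7, 3, 6, 3, 7, 2, 6, 3, 6, 6, 2, 2]⟩], [35, 38, 40, 39]⟩],
   [([0], [8]), ([1], [8]), ([1], [283, 566]), ([0], [16]), ([0], [28]), ([1], [28]), ([0], [395, 463]), ([1], [395, 463]), ([0], [710, 272]), ([1], [996, 710, 272, 452]), ([0], [269, 536, 516]), ([1], [655, 536, 516]), ([0], [20, 1102, 227, 69]), ([1], [20, 1102, 374, 132]), ([0], [317, 42]), ([1], [398]), ([0], [7]), ([0], [704]), ([1], [704]), ([1], [464]), ([0], [57]), ([1], [57]), ([0], [632, 703]), ([1], [632])]⟩,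
  ⟨[⟨[], 3, [⟨72, [], []⟩, ⟨56, [32, 34], [6, 2, 7, 2, 2, 2, 7, 2, 2, 7, 2, 7]⟩, ⟨42, [16], [6, 3, 6, 2, 2, 7, 3, 6, 2, 7, 3]⟩], [38, 36, 40]⟩,
    ⟨[3], 8, [⟨72, [], [3]⟩, ⟨51, [34], [2, 2, 7, 2, 6, 6, 3, 7, 2, 6]⟩, ⟨60, [34, 31, 30], [3, 3, 7, 7, 2, 6, 6, 2, 7, 7, 7, 2, 2, 7]⟩], [39, 35, 39, 35]⟩,
    ⟨[6], 28, [⟨72, [], [6]⟩, ⟨60, [], [6, 3, 6, 6, 3, 7, 7, 3, 6, 2]⟩, ⟨90, [37, 38, 40], [7, 3, 6, 6, 2, 7, 3, 6, 6, 2, 7]⟩], [36, 36, 35]⟩,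
    ⟨[2], 7, [⟨72, [], [2]⟩, ⟨52, [34, 29, 27], [7]⟩, ⟨85, [36, 39], [7, 7, 3, 3, 7, 3, 6, 2, 7, 2, 6, 2, 7, 2]⟩], [38, 38]⟩,
    ⟨[7], 24, [⟨72, [], [7]⟩, ⟨58, [33, 30], [6, 2, 2, 7, 2, 7, 7, 3, 3, 7, 2, 7, 3]⟩, ⟨54, [30, 30], [6, 6, 3, 6, 6, 3, 7, 7, 2, 6, 3, 7, 2, 2]⟩], [38, 38, 36, 35]⟩,
    ⟨[3, 6], 57, [⟨72, [], [3, 6]⟩, ⟨48, [], [7, 2, 2, 6, 2, 7, 3, 3]⟩, ⟨52, [29, 27], [6, 2, 2, 6, 6, 3, 7, 7, 3, 3, 6, 3, 7, 2]⟩], [37, 39, 40, 36]⟩,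
    ⟨[6, 6], 69, [⟨72, [], [6, 6]⟩, ⟨60, [32, 31, 30], [7, 2, 2, 6, 2, 7, 3]⟩, ⟨89, [37, 39, 40], [6, 2, 2, 7, 3, 6, 2, 7, 7]⟩], [39, 39, 35]⟩,
    ⟨[7, 7], 61, [⟨72, [], [7, 7]⟩, ⟨59, [33, 33, 32], [2, 6, 6, 3, 7, 2, 2, 7, 3, 3, 7, 2, 2]⟩, ⟨95, [54, 53, 54, 54, 52, 54], [2, 7, 7, 3, 6, 2, 7, 3, 3]⟩], [36, 38, 40, 40]⟩,
    ⟨[2, 2, 2], 42, [⟨72, [], [2, 2, 2]⟩, ⟨57, [34, 27, 33], [2, 6, 3, 3, 6, 3, 3, 6, 2, 7, 7]⟩, ⟨69, [35], [7, 7, 3, 6, 6, 3, 7, 2, 6, 2, 7, 2, 6, 2]⟩], [36, 38, 38]⟩,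
    ⟨[3, 3, 7], 127, [⟨72, [], [3, 3, 7]⟩, ⟨59, [32, 29, 28], [7, 2, 7, 2, 2, 7, 7, 2, 2, 2]⟩, ⟨97, [52, 55], [2, 7, 2, 7, 7, 7, 2, 2, 7, 2, 2, 7, 3, 6]⟩], [36, 39, 35, 38]⟩,
    ⟨[6, 6, 3, 7, 2, 6], 361, [⟨72, [], [6, 6, 3, 7, 2, 6]⟩, ⟨55, [33, 27], [6, 2, 7, 7, 7, 2, 2, 6, 2, 2, 7, 3]⟩, ⟨68, [38, 36, 39], [3, 3, 6, 6, 3, 6, 2, 7, 7, 3, 6, 6]⟩], [37, 35, 37, 35]⟩,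
    ⟨[3, 3, 6, 2, 7, 3, 3], 165, [⟨72, [], [3, 3, 6, 2, 7, 3, 3]⟩, ⟨53, [34, 29, 27], [6, 6, 3, 7, 7, 3, 6, 6, 2, 7, 7, 3]⟩, ⟨43, [22, 23, 16], [3, 7, 7, 7, 2, 2, 6, 2, 7, 2]⟩], [39, 39, 40]⟩],
   [([0], [8]), ([0], [566]), ([1], [566]), ([0], [283]), ([0], [28]), ([1], [28]), ([0], [996, 869]), ([1], [996]), ([0], [516, 536]), ([1], [516, 536]), ([0], [7]), ([1], [7]), ([0], [1110]), ([1], [1110]), ([0], [69]), ([1], [69]), ([0], [227, 395]), ([1], [227]), ([0], [1102, 272]), ([1], [1102, 272]), ([0], [61]), ([1], [61]), ([0], [282]), ([1], [282]), ([0], [42]), ([1], [42]), ([0], [132]), ([0], [452]), ([0], [127]), ([1], [127]), ([0], [703, 711])]⟩,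
  ⟨[⟨[], 3, [⟨73, [], []⟩, ⟨62, [38], [6, 2, 7, 3, 6, 6, 3]⟩, ⟨42, [21], [2, 7, 2, 6, 3, 3, 6, 2, 2, 6]⟩], [35, 38, 35, 35]⟩,
    ⟨[3], 8, [⟨73, [], [3]⟩, ⟨65, [36], [6, 3, 7, 2, 6, 3, 3, 7, 7, 7, 3, 6]⟩, ⟨19, [18, 8, 5, 9], [6, 3, 6, 2, 2, 2, 6, 3, 7, 2, 7, 2]⟩], [39, 40, 36, 38, 35]⟩,
    ⟨[2], 7, [⟨73, [], [2]⟩, ⟨88, [38, 40, 40], []⟩, ⟨60, [28, 34, 27, 27], [3, 7, 3, 6, 2, 7, 7, 7, 2, 2, 2]⟩], [39, 35, 39]⟩,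
    ⟨[3, 6], 57, [⟨73, [], [3, 6]⟩, ⟨82, [39, 35, 39, 35], [7, 7, 7, 2, 7, 3, 6, 2, 2, 2]⟩, ⟨94, [52, 54, 54, 52], [3, 7, 3, 6, 3, 3, 6, 6, 3, 6, 6]⟩], [37, 35, 37, 35]⟩,
    ⟨[2, 2], 16, [⟨73, [], [2, 2]⟩, ⟨91, [38, 40, 40], [6, 6, 3, 7, 3, 3, 6, 2, 7, 7, 7]⟩, ⟨90, [37, 39], [3, 6, 6, 3, 7, 7, 3, 6, 6, 2, 2]⟩], [36, 40]⟩,
    ⟨[7, 7], 61, [⟨73, [], [7, 7]⟩, ⟨87, [40, 38], [6, 2, 2, 2, 7, 2, 2, 6, 3, 3, 6]⟩, ⟨89, [40, 36, 39], [7, 2, 2, 6, 6, 3, 6, 6, 3, 7, 7, 2, 6, 3]⟩], [40, 36, 38, 38]⟩,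
    ⟨[2, 2, 7, 2], 373, [⟨73, [], [2, 2, 7, 2]⟩, ⟨70, [], [7, 2, 7, 7, 7, 3, 6, 2, 2, 7, 2]⟩, ⟨81, [35, 38], [7, 7, 2, 7, 2, 2, 7, 2, 2, 2, 7, 2]⟩], [35, 37, 38, 40, 40]⟩,
    ⟨[2, 2, 7, 3, 6, 2, 2], 162, [⟨73, [], [2, 2, 7, 3, 6, 2, 2]⟩, ⟨73, [40, 40], [3, 6, 2, 2, 7, 7, 3, 3, 7, 7, 2, 2]⟩, ⟨73, [40, 40], [2, 2, 7, 3, 6, 2, 2, 2, 7, 3, 3, 7]⟩], [40, 40]⟩],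
   [([1], [8]), ([0], [7]), ([1], [7]), ([0], [516, 24]), ([1], [516]), ([0], [395, 69]), ([1], [452, 395]), ([0], [20]), ([1], [317]), ([0], [57]), ([1], [57]), ([0], [165, 711]), ([0], [632]), ([0], [16]), ([1], [16]), ([0], [374, 789]), ([1], [374]), ([0], [42, 996]), ([1], [398]), ([0], [227, 361]), ([0], [704]), ([0], [61]), ([1], [61]), ([0], [463, 283]), ([0], [269]), ([1], [126, 269]), ([0], [132, 596]), ([0], [1110, 272]), ([0], [373]), ([1], [373]), ([0], [1102])]⟩,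
  ⟨[⟨[], 3, [⟨74, [], []⟩, ⟨22, [17, 13, 9, 5, 10], [7, 2, 6, 3, 6, 6, 3, 7, 2, 7, 7, 2, 2]⟩, ⟨64, [], [3, 3, 7, 7, 3, 3, 6, 3, 3, 7]⟩], [35, 38, 40, 39, 35]⟩,
    ⟨[3], 8, [⟨74, [], [3]⟩, ⟨19, [18, 8, 9], [7, 7, 3, 6, 6, 2, 2, 6, 6, 3, 6, 2, 2, 2]⟩, ⟨85, [38, 36, 39], [3, 6, 6, 2, 2, 7, 2, 7, 7, 3, 3, 7]⟩], [38, 35, 39, 35]⟩,
    ⟨[6], 28, [⟨74, [], [6]⟩, ⟨22, [9, 5, 13], [7, 3, 6, 3, 7, 7, 2, 2, 7, 7, 2, 6]⟩, ⟨89, [39, 40, 39], [6, 3, 7, 7, 2, 6, 3, 7, 7, 2, 6]⟩], [35, 38, 40, 39, 35]⟩,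
    ⟨[2], 7, [⟨74, [], [2]⟩, ⟨25, [10, 13, 9, 5, 10], [2, 2, 6, 2, 7, 2, 6, 3, 7, 2, 2, 7, 2]⟩, ⟨60, [33, 28, 31, 27], [3, 3, 6, 2, 2, 6, 2, 7, 3, 3, 6, 2, 7]⟩], []⟩,
    ⟨[7], 24, [⟨74, [], [7]⟩, ⟨18, [13, 8], [3, 6, 2, 7, 2, 6, 3, 3, 6, 3, 7, 2, 2]⟩, ⟨69, [38], [6, 6, 3, 7, 3, 3, 7, 2, 2, 6, 6, 2]⟩], [38, 38, 35, 35]⟩,
    ⟨[3, 6], 57, [⟨74, [], [3, 6]⟩, ⟨24, [13, 9, 17], [7, 7, 2, 2, 7, 3, 6, 3, 3, 6, 2, 7, 2]⟩, ⟨22, [13, 8, 9, 9], [6, 3, 3, 7, 3, 3, 6, 6]⟩], [37, 38, 40, 40]⟩,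
    ⟨[6, 6], 69, [⟨74, [], [6, 6]⟩, ⟨22, [5, 8, 10, 13], [2, 7, 7, 2, 6, 2, 2, 2, 6, 2, 7, 2, 2]⟩, ⟨90, [35], [2, 2, 7, 2, 6, 3, 6, 2, 7, 2, 6, 2, 7]⟩], [38, 35, 35, 38]⟩,
    ⟨[7, 7], 61, [⟨74, [], [7, 7]⟩, ⟨16, [17, 9, 9], [3, 7, 7, 2, 6, 6, 2, 2, 7, 3, 3, 6, 3]⟩, ⟨45, [26, 20, 15], [3, 6, 3, 3, 6, 2, 2, 6, 2, 7, 2]⟩], [39, 37, 35, 38]⟩,
    ⟨[2, 2, 2], 42, [⟨74, [], [2, 2, 2]⟩, ⟨25, [10, 5, 10, 18], [7, 2, 7, 7, 2, 6, 2, 2, 6, 3]⟩, ⟨54, [27, 32], [7, 7, 7, 2, 2, 7, 2, 6, 3, 7, 7, 2, 2]⟩], [39, 40, 39]⟩,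
    ⟨[3, 3, 7], 127, [⟨74, [], [3, 3, 7]⟩, ⟨25, [5, 9, 9], [6, 2, 7, 7, 3, 6, 6, 2, 2, 6, 2, 7, 3]⟩, ⟨57, [33], [3, 3, 7, 2, 7, 7, 2, 6, 2, 2, 7, 7]⟩], [40, 36, 40]⟩,
    ⟨[6, 6, 3, 7, 2, 6], 361, [⟨74, [], [6, 6, 3, 7, 2, 6]⟩, ⟨17, [], [2, 6, 2, 7, 2, 2, 7, 2, 6, 3, 7]⟩, ⟨19, [8, 13], [6, 2, 2, 7, 7, 2, 6, 3, 7, 2, 2, 2]⟩], [35, 37, 35]⟩,
    ⟨[3, 3, 6, 2, 7, 3, 3], 165, [⟨74, [], [3, 3, 6, 2, 7, 3, 3]⟩, ⟨23, [5, 17], [6, 2, 7, 2, 6, 2, 7, 3, 3, 6, 2]⟩, ⟨43, [22], [3, 6, 6, 3, 3, 7, 3, 6, 2, 2, 2, 7]⟩], [39, 37, 38, 40]⟩],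
   [([0], [8]), ([1], [8]), ([1], [283]), ([0], [16]), ([0], [28]), ([1], [28]), ([0], [996]), ([1], [179, 996]), ([0], [377, 516]), ([1], [377, 516]), ([0], [7]), ([1], [1110]), ([0], [998]), ([1], [998]), ([0], [69]), ([1], [69]), ([0], [227]), ([1], [398, 227]), ([0], [710, 1102]), ([1], [710, 1102]), ([0], [61]), ([1], [282]), ([0], [373]), ([1], [373]), ([0], [42]), ([1], [42]), ([0], [317]), ([1], [317]), ([1], [127]), ([0], [703]), ([1], [703]), ([0], [632])]⟩]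
theorem c_r0_18 : relAll tab 83 1408 HNU.base HNU.ph HNU.phI st rel0 3 om0 es18 cs18 rs0_18 = true := by decide +kernel
def rs0_19 : List RE := [
  ⟨[⟨[], 3, [⟨75, [], []⟩, ⟨92, [], []⟩, ⟨64, [], [7, 7, 7, 2, 2, 6, 2, 2, 7, 3, 6]⟩], [37]⟩,
    ⟨[3], 8, [⟨75, [], [3]⟩, ⟨92, [43], [6]⟩, ⟨68, [], [2, 2, 6, 3, 7, 3, 6, 3, 7, 2, 2]⟩], [38, 35, 39, 40]⟩,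
    ⟨[2], 7, [⟨75, [], [2]⟩, ⟨92, [50], [7, 2, 6, 3, 3, 7, 2, 2, 6, 2, 7, 2, 2]⟩, ⟨85, [40, 39], [2, 7, 3, 3, 6, 2, 7, 3, 6, 2]⟩], [39, 40, 39]⟩,
    ⟨[3, 6], 57, [⟨75, [], [3, 6]⟩, ⟨92, [45, 49, 43, 50], [6, 2, 7, 3, 6, 3, 7, 3, 6, 2, 2, 2]⟩, ⟨77, [39, 35, 35], [3, 3, 6, 2, 7, 3, 6, 2, 2, 7]⟩], [37, 35]⟩,
    ⟨[2, 2], 16, [⟨75, [], [2, 2]⟩, ⟨92, [47, 42, 49, 42, 50, 41], [7, 3, 6, 2, 2, 7, 2, 6, 2, 7]⟩, ⟨89, [39, 39, 37], [2, 2, 7, 3, 6, 6, 2, 2, 7, 2, 2, 2, 7]⟩], [38, 35, 39, 35]⟩,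
    ⟨[7, 7], 61, [⟨75, [], [7, 7]⟩, ⟨92, [45, 49, 49], [6, 3, 7, 2, 7, 3, 6, 6, 2, 2, 7, 7]⟩, ⟨90, [35], [3, 3, 6, 6, 3, 7, 3, 6, 2]⟩], [38, 35, 35, 38]⟩,
    ⟨[2, 2, 7, 2], 373, [⟨75, [], [2, 2, 7, 2]⟩, ⟨93, [46, 49], [6, 3, 7, 7, 3, 3, 6, 3, 3, 7]⟩, ⟨92, [], [2, 6, 3, 6, 6, 3, 7, 2, 6, 3]⟩], [35, 39]⟩,
    ⟨[2, 2, 7, 3, 6, 2, 2], 162, [⟨75, [], [2, 2, 7, 3, 6, 2, 2]⟩, ⟨92, [45, 42], [7, 7, 2, 6, 6, 3, 3, 6, 6, 2, 2]⟩, ⟨70, [38, 35], [3, 6, 6, 3, 7, 7, 2, 6, 3, 7, 3, 6, 3]⟩], [38, 40, 38, 38, 35]⟩],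
   [([0], [8]), ([0], [7]), ([1], [7]), ([0], [395, 516]), ([1], [395, 516]), ([0], [566, 536, 317, 452]), ([1], [317]), ([0], [57]), ([1], [57]), ([0], [165]), ([1], [632]), ([0], [127]), ([0], [16]), ([1], [16]), ([0], [42, 374]), ([1], [42, 374]), ([0], [377, 464, 398]), ([1], [377]), ([0], [704]), ([0], [61]), ([1], [61]), ([0], [269, 463]), ([1], [269]), ([0], [272, 126, 998]), ([1], [272, 998]), ([0], [872]), ([0], [373]), ([1], [373]), ([0], [1102])]⟩,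
  ⟨[⟨[], 3, [⟨76, [], []⟩, ⟨94, [55, 53, 55, 56, 55], [6, 6, 3, 7, 3, 3, 7, 7, 2, 6, 6, 3]⟩, ⟨64, [38], [3, 3, 6, 2, 2, 2, 7, 2]⟩], [38, 35, 35, 38]⟩,
    ⟨[3], 8, [⟨76, [], [3]⟩, ⟨94, [54, 56, 54, 53, 55], [6, 3, 3, 7, 2, 2, 6, 3, 7, 2]⟩, ⟨90, [39, 36, 36], [7, 2, 2, 7, 2, 2, 6, 6, 3, 7, 3]⟩], [35]⟩,
    ⟨[6], 28, [⟨76, [], [6]⟩, ⟨97, [56, 54, 52, 54], [7, 3, 3, 6, 2, 7, 2, 7, 7, 3, 3, 6, 2]⟩, ⟨85, [39, 40, 36, 38], [6, 2, 2, 2, 6, 3, 7, 2, 7, 3, 3, 6]⟩], [39, 35, 35, 38]⟩,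
    ⟨[2], 7, [⟨76, [], [2]⟩, ⟨97, [55, 56, 55, 52, 54, 54], [7, 7, 3, 6, 2, 7, 2, 2, 2, 7, 2]⟩, ⟨69, [35], [2, 7, 7, 3, 3, 6, 2, 2, 6, 2, 7, 7, 2]⟩], [35, 38, 40, 39, 35]⟩,
    ⟨[7], 24, [⟨76, [], [7]⟩, ⟨99, [55, 55, 56, 54, 54], [3, 3, 7, 7, 2, 2, 6, 2, 7, 2, 2, 6]⟩, ⟨55, [29, 30], [3, 6, 3, 7, 2, 7, 7, 3, 3, 7, 7, 7, 2]⟩], [37, 38, 40, 40]⟩,
    ⟨[3, 3], 20, [⟨76, [], [3, 3]⟩, ⟨99, [54, 56, 54, 53, 55], [2, 6, 2, 2, 7, 3, 3, 6, 2, 2, 2, 7]⟩, ⟨60, [34, 32, 30], [3, 6, 2, 2, 6, 3, 3, 7, 2, 2, 6, 6, 2]⟩], [35, 35, 37, 35]⟩,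
    ⟨[3, 6], 57, [⟨76, [], [3, 6]⟩, ⟨96, [56, 54, 54, 52], [2, 2, 6, 2, 7, 2, 2, 7, 7, 2, 7, 3, 6]⟩, ⟨94, [56, 52, 54, 56, 54, 52], [2, 6, 3, 7, 2, 7, 3, 3, 6, 3, 3, 6]⟩], [36, 36]⟩,
    ⟨[6, 6], 69, [⟨76, [], [6, 6]⟩, ⟨99, [54, 53, 55, 56, 55], [3, 7, 2, 7, 7, 2, 6, 2, 2, 6, 6, 2]⟩, ⟨60, [34, 28, 30], [6, 3, 7, 2, 2, 2, 6, 3, 3, 6, 2]⟩], [38, 36, 39, 35]⟩,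
    ⟨[2, 2, 2], 42, [⟨76, [], [2, 2, 2]⟩, ⟨100, [56, 55, 53, 55, 52], [2, 6, 3, 7, 7, 7, 2, 7, 7, 2, 6, 3, 3]⟩, ⟨95, [55, 52, 54, 52, 55], [7, 3, 6, 6, 2, 7, 2, 7, 3, 6, 2, 2]⟩], [36, 39, 40, 40]⟩,
    ⟨[3, 3, 6], 227, [⟨76, [], [3, 3, 6]⟩, ⟨98, [55, 55, 56], [7, 3, 3, 7, 7, 2, 6, 2, 2, 6, 3, 6]⟩, ⟨45, [23, 20, 15], [3, 6, 3, 7, 2, 7, 7, 7, 3, 3, 6, 3]⟩], [35, 37, 40, 40]⟩,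
    ⟨[3, 3, 7], 127, [⟨76, [], [3, 3, 7]⟩, ⟨95, [54, 56, 55, 53, 52], [2, 7, 2, 6, 3, 6, 6, 3, 3, 7, 7, 7]⟩, ⟨91, [38, 37, 39], [6, 3, 7, 7, 2, 6, 6, 3, 3, 7, 7, 2, 2]⟩], [36, 39, 35, 38]⟩,
    ⟨[6, 6, 3], 145, [⟨76, [], [6, 6, 3]⟩, ⟨95, [54, 56, 54, 52, 54], [2, 7, 7, 2, 6, 3, 6, 6, 3, 3, 6, 6]⟩, ⟨90, [38, 37, 38], [7, 7, 3, 3, 7, 2, 2, 6, 3, 3, 6, 2, 2]⟩], [38, 36, 39]⟩,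
    ⟨[2, 2, 7], 179, [⟨76, [], [2, 2, 7]⟩, ⟨94, [56, 55, 53, 55], [3, 7, 2, 2, 2, 7, 7, 2, 7, 3, 6, 2, 7]⟩, ⟨89, [39, 40, 40], [3, 7, 2, 6, 3, 7, 3, 3, 7, 7, 2, 7, 3, 6]⟩], [40, 36, 40, 40]⟩,
    ⟨[7, 7, 2], 126, [⟨76, [], [7, 7, 2]⟩, ⟨97, [56, 55, 55, 53], [2, 2, 2, 7, 2, 6, 3, 6, 6, 3, 3, 7, 2, 7]⟩, ⟨85, [38, 37, 35, 38], [7, 7, 3, 3, 6, 3, 7, 2, 2, 6, 3, 6, 2, 7]⟩], [39, 37, 38]⟩,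
    ⟨[3, 3, 6, 2], 463, [⟨76, [], [3, 3, 6, 2]⟩, ⟨95, [52, 54, 53, 54, 56], [7, 2, 6, 6, 2, 7, 7, 2, 6, 6, 2, 2, 7, 2]⟩, ⟨89, [40, 36, 40, 40], [6, 6, 2, 2, 7, 3, 6, 3, 7, 3, 3, 6, 2, 7, 7]⟩], [38, 37, 38, 40]⟩,
    ⟨[6, 6, 3, 7], 996, [⟨76, [], [6, 6, 3, 7]⟩, ⟨98, [56, 54, 54, 53], [2, 2, 7, 2, 2, 6, 3, 3, 6, 2, 7]⟩, ⟨45, [15, 26, 15], [2, 6, 6, 3, 3, 6, 3, 7, 3, 3, 6, 2]⟩], [36, 36, 35]⟩,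
    ⟨[2, 2, 2, 6, 3], 711, [⟨76, [], [2, 2, 2, 6, 3]⟩, ⟨95, [53, 55, 56, 54], [7, 2, 6, 3, 7, 2, 6, 2, 2, 2, 6, 2]⟩, ⟨87, [38, 40, 38], [3, 6, 6, 2, 7, 7, 3, 3, 6, 2, 7, 7, 2]⟩], [37, 35, 37, 35]⟩,
    ⟨[3, 3, 6, 2, 7, 3], 269, [⟨76, [], [3, 3, 6, 2, 7, 3]⟩, ⟨95, [54, 53, 55, 56], [6, 2, 7, 7, 2, 2, 6, 3, 3, 6, 2, 2, 6, 3, 3]⟩, ⟨81, [38], [3, 6, 3, 3, 6, 2, 2, 7, 2, 6, 2, 2, 2]⟩], [37, 39, 35, 35]⟩,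
    ⟨[6, 6, 3, 7, 2, 6], 361, [⟨76, [], [6, 6, 3, 7, 2, 6]⟩, ⟨96, [55, 56, 55, 56, 55, 56], [3, 7, 2, 6, 3, 6, 6, 2, 2, 2, 7, 2, 2]⟩, ⟨95, [53, 55, 53, 54], [6, 2, 2, 7, 2, 6, 3, 7, 7, 2, 6]⟩], [35, 39]⟩,
    ⟨[3, 3, 6, 2, 7, 3, 3], 165, [⟨76, [], [3, 3, 6, 2, 7, 3, 3]⟩, ⟨96, [54, 56, 54], [3, 3, 7, 3, 3, 6, 2, 7, 3, 6, 6, 2, 2, 7]⟩, ⟨97, [54, 52, 55, 53], [2, 7, 7, 2, 6, 6, 3, 7, 2, 6, 2, 7, 7]⟩], [40]⟩],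
   [([0], [8]), ([1], [8]), ([0], [566]), ([0], [28]), ([1], [28]), ([0], [536]), ([0], [7]), ([0], [24]), ([0], [20]), ([1], [20]), ([0], [377]), ([0], [69]), ([1], [69]), ([0], [272]), ([0], [42]), ([1], [42]), ([0], [452]), ([1], [227]), ([0], [127]), ([1], [145]), ([0], [179]), ([1], [179]), ([0], [655]), ([0], [126]), ([1], [126]), ([0], [516]), ([0], [463]), ([0], [996]), ([1], [711]), ([0], [165])]⟩,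
  ⟨[⟨[], 3, [⟨77, [], []⟩, ⟨78, [], [2, 7, 3, 6, 6, 3, 7, 7, 2, 6, 3, 3]⟩, ⟨42, [15, 16], [3, 6, 6, 2, 2, 7, 3, 6, 2, 7, 7, 7, 2]⟩], [39, 36, 36, 35]⟩,
    ⟨[3], 8, [⟨77, [], [3]⟩, ⟨85, [39, 36, 39], [2, 6, 2, 2, 6, 2, 2, 2, 7, 3, 3]⟩, ⟨89, [35, 38, 35], [7, 7, 2, 6, 2, 2, 6, 3, 3, 6, 3]⟩], [35, 39, 37, 38]⟩,
    ⟨[6], 28, [⟨77, [], [6]⟩, ⟨84, [38], [7, 7, 3, 6, 3, 3, 7, 3, 6, 3, 7, 2]⟩, ⟨60, [30, 29, 34], [7, 3, 3, 7, 3, 6, 3, 3, 7, 2, 7, 2, 6]⟩], [39, 40, 38]⟩,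
    ⟨[2], 7, [⟨77, [], [2]⟩, ⟨80, [35], [3, 3, 7, 2, 2, 6, 2, 7, 2, 7, 7, 3]⟩, ⟨54, [29, 27, 27], [3, 7, 3, 6, 2, 7, 7, 2, 6, 6, 2, 2, 7]⟩], [36, 39, 35, 38, 40]⟩,
    ⟨[7], 24, [⟨77, [], [7]⟩, ⟨88, [39], [2, 6, 3, 7, 2, 7, 7, 7, 2, 7, 3, 6, 2]⟩, ⟨55, [32, 29, 27], [6, 6, 2, 7, 2, 6, 3, 7, 7, 7, 2, 7, 7]⟩], [38, 38, 38, 35]⟩,
    ⟨[3, 3], 20, [⟨77, [], [3, 3]⟩, ⟨90, [40, 38], [6, 2, 7, 3, 6, 3, 7, 2, 2, 7, 3]⟩, ⟨85, [38, 37, 38, 40], [6, 6, 2, 2, 2, 7, 3, 3, 7, 2, 7]⟩], [39, 40, 36, 38, 35]⟩,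
    ⟨[3, 6], 57, [⟨77, [], [3, 6]⟩, ⟨77, [36, 35], [6, 3, 7, 7, 3, 3, 6, 2, 2, 7, 3, 3, 7, 3]⟩, ⟨77, [36, 35], [6, 6, 3, 3, 6, 6, 2, 2, 7, 7, 3, 6]⟩], [38, 36, 36, 39, 40]⟩,
    ⟨[6, 6], 69, [⟨77, [], [6, 6]⟩, ⟨89, [40, 39, 35], [3, 3, 6, 3, 3, 6, 6, 3, 6, 2, 7, 3]⟩, ⟨85, [39, 36, 38, 35], [2, 6, 2, 2, 2, 6, 2, 2, 6, 2, 7, 2, 7]⟩], [38, 37, 35, 38]⟩,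
    ⟨[2, 2, 2], 42, [⟨77, [], [2, 2, 2]⟩, ⟨78, [40, 38, 38], [2, 2, 6, 2, 2, 6, 6, 3, 7, 3, 3, 7, 2, 2]⟩, ⟨45, [15, 22, 16, 15], [3, 7, 7, 2, 2, 7, 2, 6, 3, 6, 6]⟩], [39, 36, 38, 35]⟩,
    ⟨[3, 3, 6], 227, [⟨77, [], [3, 3, 6]⟩, ⟨82, [36], [7, 3, 6, 6, 2, 2, 6, 3, 3, 6, 2, 7]⟩, ⟨95, [55, 56, 55, 56, 52], [7, 2, 2, 6, 2, 7, 3, 6, 6, 2, 2, 7]⟩], [38, 40, 38, 38, 35]⟩,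
    ⟨[3, 3, 7], 127, [⟨77, [], [3, 3, 7]⟩, ⟨90, [36, 38, 36, 35], [6, 6, 3, 3, 6, 2, 7, 3, 6, 3, 3, 6, 2]⟩, ⟨87, [40, 38], [6, 6, 2, 2, 2, 7, 2, 7, 3, 6]⟩], [37, 35, 37]⟩,
    ⟨[6, 6, 3], 145, [⟨77, [], [6, 6, 3]⟩, ⟨91, [35, 39, 37], [2, 6, 3, 7, 2, 6, 3, 3, 7, 2, 2, 2]⟩, ⟨89, [36, 39, 35, 35], [7, 3, 3, 6, 2, 7, 7, 2, 2, 2]⟩], [39, 36, 36, 38, 35, 35]⟩,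
    ⟨[2, 2, 7], 179, [⟨77, [], [2, 2, 7]⟩, ⟨85, [38, 38, 35, 35], [7, 3, 6, 2, 7, 7, 7, 2, 7]⟩, ⟨90, [40, 39, 40, 36], [7, 2, 7, 3, 3, 6, 6, 3, 6, 2, 7, 2, 2, 2]⟩], [39, 39, 37]⟩,
    ⟨[7, 7, 2], 126, [⟨77, [], [7, 7, 2]⟩, ⟨84, [36, 38, 40], [3, 7, 2, 2, 2, 7, 2, 7, 7, 7]⟩, ⟨60, [28, 34, 30], [7, 3, 3, 7, 2, 2, 7, 7, 7, 3, 6, 6]⟩], [39, 40, 36, 39]⟩,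
    ⟨[3, 3, 6, 2], 463, [⟨77, [], [3, 3, 6, 2]⟩, ⟨87, [39, 35], [7, 2, 6, 3, 7, 2, 7, 2, 6, 2, 2, 6]⟩, ⟨90, [39, 40, 36, 35], [2, 7, 2, 2, 6, 2, 2, 7, 7, 3, 3]⟩], [38, 37, 39]⟩,
    ⟨[6, 6, 3, 7], 996, [⟨77, [], [6, 6, 3, 7]⟩, ⟨82, [37, 35, 35], [7, 7, 3, 3, 6, 6, 2, 7, 7, 3, 3, 7]⟩, ⟨95, [55, 53, 52, 55, 55], [2, 2, 7, 3, 6, 2, 7, 7, 2, 7, 2]⟩], [38, 38, 35, 38]⟩,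
    ⟨[2, 2, 2, 6, 3], 711, [⟨77, [], [2, 2, 2, 6, 3]⟩, ⟨89, [40, 38, 36], [3, 7, 7, 7, 2, 2, 7, 2, 6, 3, 6, 2, 7]⟩, ⟨91, [38, 35], [2, 6, 3, 7, 7, 2, 2, 7, 3, 6]⟩], [40, 36, 38, 38]⟩,
    ⟨[3, 3, 6, 2, 7, 3], 269, [⟨77, [], [3, 3, 6, 2, 7, 3]⟩, ⟨75, [35], [6, 3, 6, 2, 2, 7, 2, 2, 7, 3, 3, 6]⟩, ⟨92, [51, 50, 41, 50, 43], [3, 6, 3, 3, 6, 2, 2, 7, 2, 6, 2, 2, 2]⟩], [39, 37]⟩,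
    ⟨[6, 6, 3, 7, 2, 6], 361, [⟨77, [], [6, 6, 3, 7, 2, 6]⟩, ⟨63, [38], [6, 6, 3, 3, 6, 6, 2, 7, 7, 3, 3, 7, 7, 2, 2]⟩, ⟨45, [16], [6, 3, 7, 2, 6, 2, 2, 7, 2, 6, 2, 2, 7, 3]⟩], [36]⟩,
    ⟨[3, 3, 6, 2, 7, 3, 3], 165, [⟨77, [], [3, 3, 6, 2, 7, 3, 3]⟩, ⟨83, [38, 40, 39, 35], [3, 7, 7, 3, 6, 6, 3, 6, 2, 2, 2, 7, 3]⟩, ⟨57, [27, 32, 34], [2, 2, 6, 6, 3, 3, 6, 6, 2, 7]⟩], [35, 39, 39, 40]⟩],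
   [([0], [8]), ([1], [8]), ([0], [566]), ([0], [28]), ([1], [28]), ([0], [536]), ([0], [7]), ([0], [24]), ([0], [20]), ([1], [20]), ([0], [377]), ([0], [69]), ([1], [69]), ([0], [272]), ([0], [42]), ([1], [42]), ([0], [452]), ([0], [227]), ([1], [127]), ([0], [145]), ([0], [179]), ([1], [179]), ([0], [655]), ([0], [126]), ([1], [126]), ([0], [516]), ([1], [463]), ([1], [996]), ([0], [711]), ([0], [165])]⟩]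
theorem c_r0_19 : relAll tab 83 1408 HNU.base HNU.ph HNU.phI st rel0 3 om0 es19 cs19 rs0_19 = true := by decide +kernel
def rs0_20 : List RE := [
  ⟨[⟨[], 3, [⟨78, [], []⟩, ⟨36, [20], [3, 7, 2, 2, 7, 7, 7, 2]⟩, ⟨29, [25, 12, 24, 10], [6, 2, 7, 7, 7, 3, 3, 6, 6, 3, 3]⟩], [37, 40, 40]⟩,
    ⟨[3], 8, [⟨78, [], [3]⟩, ⟨41, [15], [6, 3, 3, 7, 7, 2, 6, 3, 6, 6, 3, 3, 7]⟩, ⟨57, [34, 29, 29], [6, 6, 3, 3, 7, 3, 6, 3, 7, 3, 3, 7, 2, 7]⟩], [39, 37, 38, 40]⟩,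
    ⟨[6], 28, [⟨78, [], [6]⟩, ⟨33, [], [7, 3, 6, 6, 2, 7, 2, 2, 7, 3, 6]⟩, ⟨22, [17, 9, 9], [7, 2, 6, 3, 3, 7, 7, 2, 2, 7, 7, 3, 6, 2]⟩], [40, 36, 39, 35, 35]⟩,
    ⟨[2], 7, [⟨78, [], [2]⟩, ⟨44, [20, 21, 16], [7, 7, 3, 6, 2, 2, 2, 6, 3, 7]⟩, ⟨97, [54, 53, 52, 54, 53], [6, 6, 2, 2, 7, 2, 6, 2, 2, 6, 3, 6, 2]⟩], [35, 37, 40, 40]⟩,
    ⟨[3, 3], 20, [⟨78, [], [3, 3]⟩, ⟨39, [23, 21, 20, 15], [6, 6, 3, 7, 7, 3, 3, 6, 3, 7, 2, 2]⟩, ⟨43, [20, 15], [7, 3, 6, 3, 7, 3, 6, 3, 3, 7, 2, 2, 6]⟩], [38, 40, 39, 35]⟩,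
    ⟨[3, 6], 57, [⟨78, [], [3, 6]⟩, ⟨45, [16, 26, 15], [3, 7, 3, 3, 7, 2, 2, 7, 3, 3, 6, 3, 7, 2]⟩, ⟨90, [40, 38, 36], [7, 7, 2, 6, 2, 2, 7, 2, 6, 2, 2, 2]⟩], [37, 39, 35, 38]⟩,
    ⟨[6, 6], 69, [⟨78, [], [6, 6]⟩, ⟨41, [23, 21], [3, 6, 2, 2, 7, 3, 3, 6, 2, 2, 6, 2, 2, 7]⟩, ⟨57, [33, 29, 30], [2, 7, 2, 6, 3, 6, 6, 2, 2, 2, 7, 2, 7]⟩], [36, 36]⟩,
    ⟨[2, 2, 2], 42, [⟨78, [], [2, 2, 2]⟩, ⟨44, [16, 15, 26, 20], [6, 6, 3, 7, 3, 3, 7, 2, 2, 6, 6, 3, 6]⟩, ⟨94, [55, 55, 52, 54, 53], [3, 6, 3, 7, 3, 3, 7, 7, 2, 2, 6, 3]⟩], [40, 36]⟩,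
    ⟨[3, 3, 6], 227, [⟨78, [], [3, 3, 6]⟩, ⟨45, [23, 15, 20, 15], [2, 6, 2, 2, 2, 7, 7, 2, 7, 2, 6]⟩, ⟨87, [36, 39], [6, 3, 7, 3, 3, 6, 2, 2, 7, 7, 2]⟩], [40, 36, 40, 40]⟩,
    ⟨[6, 6, 3], 145, [⟨78, [], [6, 6, 3]⟩, ⟨42, [15, 16], [2, 7, 7, 3, 3, 7, 2, 2]⟩, ⟨77, [39, 35], [7, 2, 7, 3, 6, 6, 2, 2, 6, 6, 3, 3]⟩], [36, 36]⟩,
    ⟨[7, 7, 7], 132, [⟨78, [], [7, 7, 7]⟩, ⟨43, [21, 21, 20, 15], [7, 2, 7, 2, 6, 3, 3, 6, 2, 2, 7, 2, 6, 2]⟩, ⟨87, [35, 37, 39], [3, 7, 2, 7, 3, 6, 3, 7, 3]⟩], [40, 36]⟩,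
    ⟨[2, 2, 7], 179, [⟨78, [], [2, 2, 7]⟩, ⟨45, [16, 16, 26], [6, 3, 6, 6, 3, 6, 2, 7, 7, 2, 6, 6]⟩, ⟨77, [37, 35, 37], [2, 2, 7, 2, 6, 3, 6, 2, 2, 6, 2, 2, 7, 2]⟩], [40, 39, 35, 38]⟩,
    ⟨[2, 2, 2, 6], 398, [⟨78, [], [2, 2, 2, 6]⟩, ⟨43, [16], [7, 7, 2, 2, 6, 2, 7, 7]⟩, ⟨91, [38, 36, 36, 35], [6, 2, 2, 7, 7, 2, 7, 3, 6, 3, 7, 2]⟩], [39, 39, 40, 40]⟩,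
    ⟨[6, 6, 3, 6], 998, [⟨78, [], [6, 6, 3, 6]⟩, ⟨44, [21, 23, 22], [7, 2, 2, 6, 3, 3, 7, 2, 6, 2, 2, 7, 2, 6]⟩, ⟨94, [52, 55, 52, 54, 53], [2, 2, 6, 2, 7, 3, 6, 6, 3, 6, 6, 2]⟩], [38, 40, 38]⟩,
    ⟨[7, 7, 2, 6], 872, [⟨78, [], [7, 7, 2, 6]⟩, ⟨44, [20, 20, 15, 23], [2, 6, 6, 2, 7, 7, 3, 3, 6, 2, 7, 3, 6, 6]⟩, ⟨97, [55, 56, 55, 56], [2, 6, 2, 2, 6, 3, 3, 7, 7]⟩], [38, 38, 35]⟩,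
    ⟨[2, 2, 2, 6, 3], 711, [⟨78, [], [2, 2, 2, 6, 3]⟩, ⟨45, [20, 23, 16, 15], [3, 6, 6, 3, 6, 2, 7, 7, 2, 6, 3, 6]⟩, ⟨89, [35, 35, 38, 35], [2, 6, 2, 2, 7, 2, 2]⟩], [39, 35, 35, 38]⟩,
    ⟨[2, 2, 2, 7, 2], 703, [⟨78, [], [2, 2, 2, 7, 2]⟩, ⟨44, [23, 15, 16, 15], [6, 2, 7, 7, 3, 6, 6, 3, 7, 2, 7, 7]⟩, ⟨95, [55, 55, 55, 55, 53, 55], [3, 7, 2, 2, 6, 6, 2, 2, 7, 2, 6, 2]⟩], [38, 36, 36, 35, 35]⟩,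
    ⟨[3, 3, 6, 2, 7], 516, [⟨78, [], [3, 3, 6, 2, 7]⟩, ⟨45, [22, 15], [3, 7, 2, 6, 2, 2, 2, 7, 3, 3, 7, 3, 6]⟩, ⟨70, [40], [2, 2, 7, 2, 6, 3, 6, 2, 2, 7, 3, 3]⟩], [38, 36]⟩,
    ⟨[6, 6, 3, 7, 2, 6], 361, [⟨78, [], [6, 6, 3, 7, 2, 6]⟩, ⟨45, [20, 20, 15, 23], [3, 7, 2, 2, 7, 7, 2, 6, 6, 2]⟩, ⟨91, [39, 37, 40], [7, 2, 7, 7, 2, 6, 6, 3, 7, 2, 6, 2, 7, 7]⟩], [38, 37, 38, 40]⟩,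
    ⟨[2, 2, 7, 3, 6, 2, 2], 162, [⟨78, [], [2, 2, 7, 3, 6, 2, 2]⟩, ⟨40, [15, 16, 16], [6, 6, 3, 3, 6, 3, 3, 7, 3, 6]⟩, ⟨60, [32, 34, 29], [7, 3, 3, 7, 2, 2, 7, 7, 7, 2, 7, 2, 6]⟩], [38, 37, 35, 38]⟩],
   [([0], [8]), ([1], [8]), ([0], [373]), ([0], [28]), ([0], [7]), ([1], [7]), ([0], [282]), ([0], [20]), ([0], [57]), ([0], [69]), ([1], [69]), ([0], [272]), ([0], [42]), ([1], [227]), ([0], [132]), ([1], [132]), ([0], [374]), ([0], [179]), ([1], [179]), ([0], [283]), ([0], [398]), ([1], [398]), ([0], [1110]), ([1], [998]), ([0], [872]), ([1], [872]), ([0], [269]), ([1], [711]), ([0], [361]), ([0], [162])]⟩,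
  ⟨[⟨[], 3, [⟨79, [], []⟩, ⟨39, [20], [2, 7, 3, 6, 3, 3, 6, 2, 2, 6, 2, 7, 2]⟩, ⟨35, [20], [7, 7, 7, 3, 6, 6, 2, 2, 6, 6, 2]⟩], [40, 36, 35]⟩,
    ⟨[3], 8, [⟨79, [], [3]⟩, ⟨45, [20, 15, 26], [7, 2, 2, 2, 6, 3, 7, 3, 3, 6, 6]⟩, ⟨87, [36, 39, 35, 35], [2, 6, 3, 7, 7, 7, 3, 6, 2, 7, 2, 2, 7]⟩], [40, 38]⟩,
    ⟨[6], 28, [⟨79, [], [6]⟩, ⟨39, [22, 23], [3, 7, 2, 7, 7, 7, 2, 7, 7, 2, 7]⟩, ⟨45, [23, 15, 16, 16], [6, 2, 7, 2, 6, 3, 7, 2, 7, 7, 7]⟩], [40, 39, 40, 36]⟩,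
    ⟨[2], 7, [⟨79, [], [2]⟩, ⟨41, [16, 26, 21], [2, 2, 6, 6, 3, 6, 2, 7, 7, 2, 6]⟩, ⟨52, [31, 28], [6, 6, 2, 7, 7, 3, 3, 7, 7, 2, 7, 3]⟩], [39, 39, 40, 40]⟩,
    ⟨[7], 24, [⟨79, [], [7]⟩, ⟨44, [16, 16, 26], [7, 2, 7, 7, 2, 7, 3, 3, 7, 2, 2, 7, 3]⟩, ⟨95, [53, 52], [3, 6, 3, 3, 7, 7, 2, 7, 2, 6, 2, 2, 7, 2]⟩], [39, 40, 39, 35]⟩,
    ⟨[3, 3], 20, [⟨79, [], [3, 3]⟩, ⟨45, [26, 20, 20, 15], [2, 6, 3, 6, 6, 3, 3, 6, 6, 2, 7, 2, 2, 7]⟩, ⟨91, [39, 35], [6, 2, 7, 7, 2, 6, 3, 3, 7, 7, 2, 7, 7, 3]⟩], [39, 36, 35]⟩,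
    ⟨[3, 6], 57, [⟨79, [], [3, 6]⟩, ⟨37, [20, 20], [3, 7, 2, 6, 3, 6, 2, 2, 7, 2, 2, 7, 3]⟩, ⟨43, [15, 20, 20, 15], [3, 7, 2, 6, 2, 7, 2, 2, 6, 2, 2, 7, 3]⟩], [36, 38]⟩,
    ⟨[2, 2], 16, [⟨79, [], [2, 2]⟩, ⟨40, [22, 23, 16], [6, 2, 2, 6, 6, 3, 7, 7, 3]⟩, ⟨60, [31, 32, 33, 30], [2, 6, 3, 7, 3, 3, 7, 2, 2, 6, 3, 3, 7, 2]⟩], [37, 38, 40]⟩,
    ⟨[2, 2, 2], 42, [⟨79, [], [2, 2, 2]⟩, ⟨41, [21, 21, 15], [3, 3, 7, 7, 2, 7, 2, 2, 7, 7, 2, 6, 6, 2]⟩, ⟨55, [31, 28], [2, 7, 2, 7, 3, 6, 2, 2, 7, 3, 3, 7, 3, 6]⟩], [37, 39, 35, 38]⟩,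
    ⟨[3, 3, 7], 127, [⟨79, [], [3, 3, 7]⟩, ⟨43, [20, 15], [3, 7, 2, 6, 2, 7, 2, 2, 2, 7, 2, 7]⟩, ⟨85, [38, 37, 38, 40], [2, 2, 2, 6, 3, 3, 6, 2, 7, 7, 3]⟩], [38, 37, 35, 37, 35]⟩,
    ⟨[3, 3, 6, 2, 7, 3], 269, [⟨79, [], [3, 3, 6, 2, 7, 3]⟩, ⟨33, [], [3, 3, 7, 7, 2, 7, 7, 3, 6, 3, 3]⟩, ⟨18, [18, 10, 5], [6, 3, 7, 7, 2, 6, 3, 7, 3, 3, 6, 2, 2]⟩], [36, 39, 35, 38, 40]⟩,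
    ⟨[3, 3, 6, 2, 7, 3, 3], 165, [⟨79, [], [3, 3, 6, 2, 7, 3, 3]⟩, ⟨30, [21], [3, 6, 3, 7, 3, 3, 6, 6, 3, 3]⟩, ⟨22, [18, 17, 18], [2, 6, 3, 6, 6, 2, 7, 7, 2, 6, 6, 3, 7]⟩], [35, 39, 39, 40]⟩],
   [([0], [8]), ([1], [8]), ([0], [373]), ([1], [126]), ([0], [69]), ([1], [655]), ([0], [272]), ([1], [179]), ([0], [463]), ([0], [28]), ([1], [398]), ([0], [61]), ([1], [789]), ([0], [24]), ([1], [24]), ([0], [998]), ([1], [704]), ([0], [20]), ([1], [20]), ([0], [282]), ([1], [283]), ([0], [374]), ([1], [710]), ([0], [1102]), ([1], [872]), ([0], [145]), ([0], [16]), ([1], [16]), ([0], [227]), ([1], [395]), ([1], [42]), ([0], [132]), ([1], [361]), ([0], [317]), ([1], [127]), ([0], [703]), ([1], [632]),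 ([0], [711])]⟩,
  ⟨[⟨[], 3, [⟨80, [], []⟩, ⟨53, [28], [3, 7, 2, 2, 7, 2, 6, 3, 6, 2, 7, 2, 2, 2]⟩, ⟨38, [16, 16], [2, 7, 7, 2, 6, 3, 3, 7, 3, 6, 3, 7, 2]⟩], [38, 40, 38]⟩,
    ⟨[3], 8, [⟨80, [], [3]⟩, ⟨57, [31, 33, 30], [7, 3, 3, 6, 3, 7, 2, 7, 7, 7, 2, 2]⟩, ⟨91, [39, 36, 36, 35], [3, 3, 7, 7, 2, 7, 3, 6, 3, 7, 7]⟩], [35]⟩,
    ⟨[6], 28, [⟨80, [], [6]⟩, ⟨61, [31, 32, 27, 27], [3, 6, 2, 7, 2, 2, 7, 3, 3, 7, 3]⟩, ⟨57, [32, 34], [2, 7, 3, 6, 6, 2, 7, 7, 2, 7, 7, 3, 6, 2]⟩], [38, 38, 40, 40]⟩,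
    ⟨[2], 7, [⟨80, [], [2]⟩, ⟨58, [27, 31], [7, 3, 3, 7, 7, 7, 2, 7, 7, 3]⟩, ⟨52, [32, 29], [7, 3, 3, 7, 3, 6, 3, 7, 2, 2, 7, 7, 2]⟩], [37, 35, 38, 40]⟩,
    ⟨[7], 24, [⟨80, [], [7]⟩, ⟨59, [32, 33, 27], [2, 6, 3, 3, 7, 2, 6, 3, 6, 2, 2, 7, 3]⟩, ⟨97, [53, 52, 55], [7, 7, 7, 2, 2, 6, 2, 2, 7, 3, 6]⟩], [37, 39, 37, 38]⟩,
    ⟨[3, 3], 20, [⟨80, [], [3, 3]⟩, ⟨57, [27, 32, 34], [6, 2, 2, 7, 7, 7, 2, 7]⟩, ⟨87, [38, 36, 35], [2, 7, 2, 7, 3, 6, 3, 7, 2, 6, 3, 7]⟩], [35, 39, 37, 38]⟩,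
    ⟨[3, 6], 57, [⟨80, [], [3, 6]⟩, ⟨55, [28, 27, 27], [3, 3, 6, 2, 7, 3, 3, 7, 3, 3, 7]⟩, ⟨69, [39, 36], [6, 2, 2, 6, 2, 2, 7, 3, 6, 3, 3, 7, 7, 2]⟩], [35, 37, 35, 35]⟩,
    ⟨[2, 2], 16, [⟨80, [], [2, 2]⟩, ⟨54, [29, 27, 27], [7, 7, 3, 3, 6, 3, 3, 6, 2, 7]⟩, ⟨77, [35], [7, 2, 6, 6, 3, 7, 2, 6, 3, 7, 2, 2]⟩], [39, 40, 36, 39]⟩,
    ⟨[2, 2, 2], 42, [⟨80, [], [2, 2, 2]⟩, ⟨49, [27, 27, 27], [3, 7, 2, 6, 2, 2, 7, 2, 6, 2, 2, 2, 6]⟩, ⟨22, [5, 13, 10, 13], [7, 3, 3, 7, 3, 6, 2, 7, 2, 2, 6, 6, 2]⟩], [40, 36, 39, 40]⟩,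
    ⟨[3, 3, 7], 127, [⟨80, [], [3, 3, 7]⟩, ⟨61, [32, 29, 28, 27], [2, 7, 3, 6, 3, 3, 7, 7, 3, 3]⟩, ⟨60, [34, 28, 27, 27], [7, 2, 2, 7, 3, 6, 2, 2, 7, 2, 6, 3, 7]⟩], [39, 37, 38, 40]⟩,
    ⟨[3, 3, 6, 2, 7, 3], 269, [⟨80, [], [3, 3, 6, 2, 7, 3]⟩, ⟨56, [29, 27], [2, 7, 2, 6, 3, 7, 2, 7, 3, 6, 6, 3, 7, 7]⟩, ⟨35, [26, 21, 20], [7, 2, 2, 6, 6, 3, 7, 3, 3, 7, 2, 7, 3]⟩], [37, 39, 40]⟩,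
    ⟨[3, 3, 6, 2, 7, 3, 3], 165, [⟨80, [], [3, 3, 6, 2, 7, 3, 3]⟩, ⟨46, [33], [6, 3, 6, 2, 7, 7, 3, 6, 6, 3, 6, 2, 2, 2]⟩, ⟨55, [31], [2, 6, 2, 7, 7, 3, 6, 2, 2]⟩], [38, 38, 38, 35]⟩],
   [([0], [8]), ([1], [8]), ([0], [516, 566]), ([1], [516]), ([0], [69, 373]), ([1], [69, 373]), ([0], [28]), ([1], [28]), ([0], [789]), ([1], [789]), ([0], [24]), ([0], [998]), ([1], [998]), ([0], [1110]), ([0], [20]), ([1], [20]), ([0], [596, 377]), ([1], [596]), ([0], [374, 282]), ([1], [374, 282]), ([0], [16]), ([0], [227]), ([1], [227]), ([0], [996]), ([0], [42]), ([0], [452]), ([0], [132]), ([1], [132]), ([0], [127]), ([0], [162]), ([0], [703]), ([1], [703])]⟩,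
  ⟨[⟨[], 3, [⟨81, [], []⟩, ⟨63, [], [3, 6, 6, 2, 2, 2, 7, 7, 2, 6, 6, 3]⟩, ⟨38, [22, 16], [6, 3, 7, 3, 6, 3, 7, 2, 2, 7, 3]⟩], [38, 35, 39]⟩,
    ⟨[3], 8, [⟨81, [], [3]⟩, ⟨67, [38, 36, 39], [6, 6, 3, 6, 6, 3, 7, 7, 3, 3]⟩, ⟨18, [5, 8, 9], [2, 7, 7, 2, 6, 6, 2, 2, 2, 7, 3]⟩], [37, 39, 40]⟩,
    ⟨[2], 7, [⟨81, [], [2]⟩, ⟨84, [36, 40, 40], [2, 2, 7, 7, 7, 2, 7, 3, 6, 2, 2, 7]⟩, ⟨57, [33, 32, 31], [6, 3, 3, 7, 7, 2, 7, 2, 2, 7, 3, 6, 2]⟩], [38, 36, 39]⟩,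
    ⟨[3, 6], 57, [⟨81, [], [3, 6]⟩, ⟨76, [35, 39], [2, 7, 2, 2, 7, 7, 2, 6, 6, 3, 3, 7, 3, 3]⟩, ⟨95, [54, 53, 55, 56], [2, 6, 6, 2, 7, 7, 3, 3, 7, 7]⟩], [37, 38, 35]⟩,
    ⟨[2, 2], 16, [⟨81, [], [2, 2]⟩, ⟨89, [38, 37, 38], [3, 7, 7, 7, 2, 7, 7, 3, 6, 6, 3]⟩, ⟨87, [38, 40], [7, 7, 3, 6, 3, 7, 2, 2, 2]⟩], [39, 35, 35, 38]⟩,
    ⟨[7, 7], 61, [⟨81, [], [7, 7]⟩, ⟨90, [40, 36, 40, 40], [6, 2, 7, 3, 6, 3, 3, 7, 7, 7, 2, 7, 2]⟩, ⟨91, [38, 40], [2, 6, 6, 3, 7, 7, 2, 7, 7, 2, 7]⟩], [36, 40, 36, 40]⟩,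
    ⟨[2, 2, 7, 2], 373, [⟨81, [], [2, 2, 7, 2]⟩, ⟨73, [35, 38], [7, 7, 2, 7, 7, 3, 3, 7, 7, 7, 2]⟩, ⟨70, [40], [6, 3, 3, 7, 2, 2, 7, 7, 2, 6, 6, 3, 6]⟩], [36, 38, 35, 35]⟩,
    ⟨[2, 2, 7, 3, 6, 2, 2], 162, [⟨81, [], [2, 2, 7, 3, 6, 2, 2]⟩, ⟨81, [38], [3, 7, 7, 2, 2, 2, 7, 3, 3, 7, 2, 2, 7, 7]⟩, ⟨81, [38], [2, 2, 7, 3, 6, 2, 2]⟩], [37, 35, 38, 40]⟩],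
   [([1], [8]), ([0], [7]), ([1], [7]), ([0], [20, 536]), ([1], [20]), ([0], [317, 655]), ([1], [317, 655]), ([0], [24, 516]), ([0], [57]), ([0], [703]), ([1], [703]), ([0], [632]), ([1], [127]), ([0], [16]), ([0], [227]), ([1], [227]), ([0], [361]), ([1], [464, 361]), ([0], [789, 374]), ([1], [789, 374]), ([0], [377]), ([0], [61]), ([1], [61]), ([0], [596, 126]), ([1], [596, 126]), ([0], [998, 132, 269]), ([1], [1110, 998]), ([1], [373]), ([0], [869]), ([0], [710])]⟩]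
theorem c_r0_20 : relAll tab 83 1408 HNU.base HNU.ph HNU.phI st rel0 3 om0 es20 cs20 rs0_20 = true := by decide +kernel
def rs0_21 : List RE := [
  ⟨[⟨[], 3, [⟨82, [], []⟩, ⟨98, [], [2, 6, 3, 7, 2, 7, 7, 7]⟩, ⟨38, [16, 16], [2, 6, 2, 7, 3, 6, 6, 3, 6, 2, 2, 2]⟩], [36, 36, 35]⟩,
    ⟨[3], 8, [⟨82, [], [3]⟩, ⟨99, [53, 54, 53, 54], [7, 3, 3, 6, 3, 3, 7, 7, 2, 7, 3]⟩, ⟨57, [34, 30], [7, 7, 7, 3, 3, 7, 3, 6, 3, 7, 2, 2]⟩], [37, 35, 37, 40]⟩,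
    ⟨[6], 28, [⟨82, [], [6]⟩, ⟨97, [52, 55, 55, 55, 55, 53], [2, 2, 2, 6, 6, 3, 7, 3, 3, 6, 6, 2, 2]⟩, ⟨87, [39, 40], [6, 3, 3, 7, 2, 7, 7, 3, 3, 7]⟩], [39, 39, 35]⟩,
    ⟨[2], 7, [⟨82, [], [2]⟩, ⟨98, [53, 54, 53, 55, 53], [7, 2, 6, 3, 7, 2, 7, 7, 7]⟩, ⟨43, [21, 26, 15, 16], [7, 2, 2, 2, 6, 6, 3, 7, 7, 2, 2, 7, 2]⟩], [40, 40, 36, 40]⟩,
    ⟨[7], 24, [⟨82, [], [7]⟩, ⟨99, [54, 54, 54, 54, 54, 53], [3, 7, 2, 6, 3, 7, 2, 7, 3, 6, 2, 7, 3]⟩, ⟨52, [27, 27, 27], [7, 7, 2, 2, 7]⟩], [40, 36, 39]⟩,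
    ⟨[3, 3], 20, [⟨82, [], [3, 3]⟩, ⟨96, [54, 54, 52, 54], [2, 7, 2, 2, 2, 6, 2, 2, 6, 2, 7, 2]⟩, ⟨97, [55, 52, 54, 54], [7, 2, 6, 2, 7, 2, 2, 7, 2, 7, 7]⟩], [39, 40, 36, 38, 35]⟩,
    ⟨[3, 6], 57, [⟨82, [], [3, 6]⟩, ⟨98, [55, 55, 55, 55, 55, 53], [2, 7, 2, 6, 6, 2, 7, 7, 2, 6, 3, 3]⟩, ⟨45, [16, 15, 22], [6, 6, 2, 2, 7, 2, 2, 2, 6, 2, 2, 7, 2]⟩], [36, 40, 36, 35]⟩,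
    ⟨[6, 6], 69, [⟨82, [], [6, 6]⟩, ⟨96, [54], [2, 6, 6, 2, 7, 2, 7, 7]⟩, ⟨97, [55], [7, 3, 6, 6, 2, 7, 2, 6, 3]⟩], [35, 37, 35]⟩,
    ⟨[2, 2, 2], 42, [⟨82, [], [2, 2, 2]⟩, ⟨100, [55, 53, 55, 53], [7, 7, 3, 6, 2, 7, 7, 7, 3, 6, 2, 7, 2, 2]⟩, ⟨94, [54, 53, 54, 53, 55, 52], [3, 6, 2, 7, 2, 2, 2, 6, 6, 3, 3, 7]⟩], [35, 35, 37, 35]⟩,
    ⟨[3, 3, 6], 227, [⟨82, [], [3, 3, 6]⟩, ⟨94, [54, 52, 55, 52, 54, 54, 52], [3, 6, 2, 7, 2, 2, 6, 3, 3, 6, 2]⟩, ⟨87, [37, 38, 40], [3, 7, 2, 2, 7, 2, 6, 3, 6, 2, 2, 7, 3]⟩], [39, 36, 39]⟩,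
    ⟨[3, 3, 7], 127, [⟨82, [], [3, 3, 7]⟩, ⟨94, [55, 52, 55, 52, 54, 54], [6, 3, 7, 2]⟩, ⟨90, [40, 36, 39], [7, 2, 7, 7, 2, 6, 2, 2, 7, 2, 6, 2, 2, 2]⟩], [37, 39, 35, 38]⟩,
    ⟨[6, 6, 3], 145, [⟨82, [], [6, 6, 3]⟩, ⟨95, [55, 53, 52, 55, 55], [3, 7, 2, 6, 3, 3, 7, 7, 2, 6, 6, 2]⟩, ⟨77, [37, 38], [2, 6, 3, 7, 7, 7, 2, 2, 7, 3, 3, 7, 2, 2]⟩], [39, 35, 38]⟩,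
    ⟨[2, 2, 7], 179, [⟨82, [], [2, 2, 7]⟩, ⟨99, [54, 52, 54, 54], [3, 7, 2, 2, 6, 2, 2, 2, 7, 2, 6]⟩, ⟨57, [33, 32, 29], [2, 2, 6, 2, 7, 3, 3, 6, 2, 2, 7, 2, 2]⟩], [37]⟩,
    ⟨[7, 7, 2], 126, [⟨82, [], [7, 7, 2]⟩, ⟨97, [52, 55, 55, 52, 54, 53], [2, 2, 2, 6, 2, 7, 2, 6, 6, 3, 7, 7]⟩, ⟨91, [38, 36, 36, 35], [7, 2, 6, 6, 3, 3, 6, 6, 3, 3, 6, 2, 2]⟩], [39, 37, 38, 40]⟩,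
    ⟨[3, 3, 6, 2], 463, [⟨82, [], [3, 3, 6, 2]⟩, ⟨95, [55, 56, 55, 56, 52], [2, 6, 3, 3, 7, 7, 7, 2, 7, 2]⟩, ⟨77, [36, 39, 35], [2, 2, 6, 3, 3, 6, 2, 7, 3, 6, 6, 2, 2, 2]⟩], [39, 36, 36, 38, 35, 35]⟩,
    ⟨[6, 6, 3, 7], 996, [⟨82, [], [6, 6, 3, 7]⟩, ⟨94, [53, 54, 53, 54], [3, 6, 3, 3, 6, 2, 2, 7, 7, 2, 7, 3]⟩, ⟨91, [38, 38, 38, 35], [6, 6, 3, 7, 2, 6, 2, 2, 7, 3, 3, 6, 6]⟩], [38, 35, 39, 35]⟩,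
    ⟨[2, 2, 2, 6, 3], 711, [⟨82, [], [2, 2, 2, 6, 3]⟩, ⟨94, [56, 55, 56, 55, 53, 54], [7, 7, 2, 7, 7, 2, 2, 7]⟩, ⟨89, [39, 35], [2, 7, 2, 2, 6, 3, 7, 2, 2, 7, 2, 7]⟩], [40, 40]⟩,
    ⟨[3, 3, 6, 2, 7, 3], 269, [⟨82, [], [3, 3, 6, 2, 7, 3]⟩, ⟨96, [54, 52, 54], [7, 2, 6, 6, 3, 3, 6, 6, 2, 2, 6, 6]⟩, ⟨94, [53, 54, 53, 54], [6, 3, 3, 7, 7, 2, 2, 7, 7, 2, 2]⟩], [38, 38, 40, 40]⟩,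
    ⟨[6, 6, 3, 7, 2, 6], 361, [⟨82, [], [6, 6, 3, 7, 2, 6]⟩, ⟨94, [52, 54, 54, 52], [7, 2, 2, 6, 2, 2, 6, 3, 3, 6, 3, 3]⟩, ⟨73, [40, 40], [3, 6, 2, 2, 2, 6, 3, 7, 2, 2, 6, 2]⟩], [40, 40]⟩,
    ⟨[3, 3, 6, 2, 7, 3, 3], 165, [⟨82, [], [3, 3, 6, 2, 7, 3, 3]⟩, ⟨97, [55, 52, 54, 52, 55, 52, 54], [7, 3, 6, 6, 3, 3, 7, 7, 2, 2, 6, 3]⟩, ⟨85, [39, 37, 35, 38], [2, 2, 2, 6, 3, 7, 2]⟩], [38, 38]⟩],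
   [([0], [8]), ([1], [8]), ([0], [374]), ([0], [28]), ([1], [28]), ([0], [872]), ([1], [7]), ([1], [24]), ([0], [20]), ([1], [20]), ([0], [464]), ([0], [69]), ([1], [69]), ([0], [998]), ([0], [42]), ([1], [42]), ([0], [132]), ([0], [227]), ([0], [127]), ([0], [145]), ([0], [179]), ([1], [179]), ([0], [283]), ([0], [126]), ([1], [126]), ([0], [398]), ([0], [463]), ([0], [996]), ([0], [711]), ([1], [165])]⟩,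
  ⟨[⟨[], 3, [⟨83, [], []⟩, ⟨49, [], [6, 6, 3, 6, 2, 7, 7, 2, 7, 2, 6, 2, 2]⟩, ⟨19, [9, 9], [7, 7, 7, 3, 3, 7, 3, 6, 2, 7]⟩], [39, 40, 39]⟩,
    ⟨[3], 8, [⟨83, [], [3]⟩, ⟨60, [33, 28, 28], [2, 7, 2, 6, 6, 3, 7, 3, 3, 6, 6, 3]⟩, ⟨89, [40, 38, 36], [6, 3, 7, 2, 6, 3, 6, 2, 7, 2, 6, 3]⟩], [38, 38, 40, 40]⟩,
    ⟨[2], 7, [⟨83, [], [2]⟩, ⟨59, [34, 27], [6, 3, 7, 3, 6, 3, 3, 6, 6, 2, 7, 2]⟩, ⟨94, [54, 52, 55, 52, 54, 53], [2, 7, 7, 3, 6, 2, 2, 7, 3, 6, 2, 7]⟩], [39, 40, 36, 38, 35]⟩,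
    ⟨[7], 24, [⟨83, [], [7]⟩, ⟨58, [29, 28], [3, 3, 7, 7, 7, 2, 7, 2, 2, 7]⟩, ⟨57, [33, 31, 27], [6, 3, 6, 2, 2, 7, 2, 6, 2, 7, 7, 2]⟩], [35, 39, 39, 40]⟩,
    ⟨[3, 3], 20, [⟨83, [], [3, 3]⟩, ⟨57, [34, 31, 31], [7, 2, 7, 7, 3, 6, 3, 7, 2, 6, 3, 6]⟩, ⟨77, [37, 40], [3, 6, 6, 3, 6, 6, 3, 7, 2, 6, 3, 6]⟩], [35, 35, 37]⟩,
    ⟨[3, 6], 57, [⟨83, [], [3, 6]⟩, ⟨51, [31, 28], [2, 6, 6, 3, 3, 7, 3, 6]⟩, ⟨55, [32, 29, 30], [7, 2, 7, 3, 3, 6, 3, 7, 2, 6, 6]⟩], [35, 38, 35, 35]⟩,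
    ⟨[7, 7], 61, [⟨83, [], [7, 7]⟩, ⟨54, [32, 29], [3, 3, 6, 2, 7, 2, 2, 7, 3, 3, 6, 2, 2, 2]⟩, ⟨69, [40, 40], [3, 7, 3, 6, 3, 3, 6, 6, 3, 6, 6, 2, 2, 7]⟩], [37, 35, 37, 35, 35]⟩,
    ⟨[2, 2, 2], 42, [⟨83, [], [2, 2, 2]⟩, ⟨53, [30, 30, 30], [7, 7, 3, 3, 7, 2, 2, 2, 6, 2, 7, 7]⟩, ⟨43, [15, 16, 15, 16], [2, 2, 7, 7, 2, 6, 3, 7, 2, 6, 2, 2, 2]⟩], [38, 37, 39, 35]⟩,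
    ⟨[3, 3, 7], 127, [⟨83, [], [3, 3, 7]⟩, ⟨59, [34, 32], [3, 7, 2, 6, 3, 6, 6, 3, 7, 2, 7, 3]⟩, ⟨97, [55, 55, 52, 54], [6, 2, 2, 7, 3, 6, 6, 3, 7, 7, 2, 7, 2]⟩], [39, 36, 39]⟩,
    ⟨[2, 2, 2, 6], 398, [⟨83, [], [2, 2, 2, 6]⟩, ⟨60, [34, 28, 27, 27], [3, 3, 7, 7, 7, 3, 6, 6, 3, 7, 7, 3]⟩, ⟨90, [40, 39], [6, 3, 7, 2, 6, 3, 3, 7, 7, 2, 7, 3, 3]⟩], [37, 35]⟩,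
    ⟨[6, 6, 3, 7, 2, 6], 361, [⟨83, [], [6, 6, 3, 7, 2, 6]⟩, ⟨52, [27, 27], [7, 7, 2, 6, 3, 7, 3, 6, 2, 7, 7, 3]⟩, ⟨68, [38, 36, 39], [3, 7, 2, 7, 3, 3, 7, 3, 3, 7, 2, 2, 6, 3]⟩], [39, 35, 38]⟩,
    ⟨[3, 3, 6, 2, 7, 3, 6, 3], 632, [⟨83, [], [3, 3, 6, 2, 7, 3, 6, 3]⟩, ⟨47, [33], [7, 3, 6, 3, 3, 7, 3, 6, 3, 3, 6, 6, 2]⟩, ⟨54, [29], [3, 7, 7, 7, 2, 2, 7, 7, 2]⟩], [39, 35, 35, 38]⟩],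
   [([0], [8]), ([1], [8]), ([0], [704, 566]), ([1], [704]), ([0], [536, 516]), ([1], [536, 516]), ([0], [7]), ([0], [374]), ([1], [374]), ([0], [179]), ([0], [24]), ([0], [463]), ([1], [463]), ([0], [145]), ([0], [20]), ([0], [377]), ([0], [272]), ([1], [272]), ([0], [42]), ([1], [42]), ([0], [452]), ([0], [317]), ([0], [127]), ([1], [127]), ([0], [703, 162]), ([0], [398]), ([1], [398]), ([0], [710, 789]), ([1], [710]), ([0], [1110, 596]), ([1], [1110, 596])]⟩,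
  ⟨[⟨[], 3, [⟨84, [], []⟩, ⟨60, [34, 30], [2, 6, 3, 6, 2, 7, 2, 6, 3, 3, 7]⟩, ⟨68, [39], [7, 3, 6, 2, 7, 7, 2, 6, 3, 7, 2]⟩], [38, 37, 35, 37, 35]⟩,
    ⟨[3], 8, [⟨84, [], [3]⟩, ⟨52, [32, 29, 27], [2, 6, 3, 7, 2, 2, 6, 2, 7, 2, 2, 2]⟩, ⟨90, [40, 36, 35], [2, 7, 7, 2, 2, 6, 6, 3, 6, 2, 7, 7]⟩], [38, 37]⟩,
    ⟨[6], 28, [⟨84, [], [6]⟩, ⟨60, [28, 34, 30], [3, 6, 3, 3, 7, 7, 2, 2, 6]⟩, ⟨77, [35], [3, 6, 6, 2, 2, 7, 3, 6, 2, 7, 2, 7, 3]⟩], [39, 35, 35]⟩,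
    ⟨[2], 7, [⟨84, [], [2]⟩, ⟨61, [30, 28, 27], [3, 3, 6, 3, 7, 3, 3, 7, 2, 2]⟩, ⟨54, [27, 27, 27], [6, 3, 3, 7, 2, 6, 3, 6, 2, 7, 2, 2, 7, 7]⟩], [35, 39, 40]⟩,
    ⟨[7], 24, [⟨84, [], [7]⟩, ⟨49, [], [2, 2, 2, 6, 2, 7, 3, 6, 6, 2, 2, 7, 2, 2, 7]⟩, ⟨22, [17, 13, 10, 5], [2, 7, 7, 2, 6, 3, 6, 6, 3, 3, 7, 2, 7]⟩], [39, 39, 40, 40]⟩,
    ⟨[3, 3], 20, [⟨84, [], [3, 3]⟩, ⟨61, [30, 33, 33, 30], [6, 2, 7, 2, 2, 6, 2, 7, 7, 3]⟩, ⟨60, [33], [3, 3, 6, 2, 7, 3, 3, 6, 2, 2, 7, 2]⟩], [37, 39, 40, 36, 35]⟩,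
    ⟨[3, 6], 57, [⟨84, [], [3, 6]⟩, ⟨51, [27, 27], [6, 2, 2, 7, 2, 2, 6, 3, 7, 3, 6]⟩, ⟨60, [34, 31], [7, 7, 2, 6, 2, 2, 2, 6, 3]⟩], [39, 37]⟩,
    ⟨[6, 6], 69, [⟨84, [], [6, 6]⟩, ⟨61, [29, 32, 27], [7, 2, 2, 7, 7, 3, 3, 6, 3, 7, 2, 2]⟩, ⟨60, [32, 33, 28], [2, 7, 2, 7, 7, 2, 2, 6, 2, 7, 2]⟩], [38, 36, 36, 35, 35]⟩,
    ⟨[2, 2], 16, [⟨84, [], [2, 2]⟩, ⟨56, [29, 28], [6, 2, 7, 2, 7, 7, 2, 2, 7, 7]⟩, ⟨43, [16, 22, 16, 21], [6, 6, 2, 2, 7, 2, 2, 2, 6, 2, 2, 7, 2]⟩], [38, 35, 35]⟩,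
    ⟨[7, 7], 61, [⟨84, [], [7, 7]⟩, ⟨51, [30, 30], [2, 2, 7, 2, 2, 6, 6, 3, 3, 7]⟩, ⟨52, [31, 27], [3, 7, 7, 2, 7, 3, 6, 3, 7, 3, 6, 2, 2, 2]⟩], [36, 39, 35, 38, 40]⟩,
    ⟨[2, 2, 2], 42, [⟨84, [], [2, 2, 2]⟩, ⟨61, [32, 33, 33], [2, 2, 7, 7, 2, 6, 3, 3, 7, 3, 6, 2]⟩, ⟨57, [34, 30, 28], [6, 6, 2, 7, 3, 6, 6, 3, 3, 7, 7, 2]⟩], [39, 40, 36, 40]⟩,
    ⟨[3, 3, 6], 227, [⟨84, [], [3, 3, 6]⟩, ⟨59, [31, 27, 33], [2, 6, 6, 3, 6, 2, 2, 2, 6, 3, 7, 2, 7]⟩, ⟨97, [53, 54, 54, 54, 54, 53], [7, 7, 2, 7, 7, 3, 3, 7, 7]⟩], [36, 38, 35, 35]⟩,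
    ⟨[3, 3, 7], 127, [⟨84, [], [3, 3, 7]⟩, ⟨57, [34, 31, 27], [3, 3, 7, 7, 2, 6, 3, 7, 3, 6, 3, 7, 7]⟩, ⟨91, [37, 38], [3, 6, 2, 7, 7, 2, 6, 3, 7, 3, 6, 2]⟩], [38, 40, 38, 38]⟩,
    ⟨[6, 6, 3], 145, [⟨84, [], [6, 6, 3]⟩, ⟨55, [32, 29, 30], [6, 6, 2, 7, 7, 2, 7, 2, 6, 2, 2, 2, 7]⟩, ⟨90, [39, 39, 40], [2, 2, 6, 3, 7, 2, 7, 7, 2]⟩], [35, 38, 35]⟩,
    ⟨[7, 7, 7], 132, [⟨84, [], [7, 7, 7]⟩, ⟨61, [32, 31, 32, 30], [2, 6, 2, 7, 3, 6, 6, 2, 7, 7, 2, 2]⟩, ⟨57, [33, 27, 27, 27], [2, 7, 7, 3, 6, 6, 2, 7, 7, 2, 7, 7, 7]⟩], [35, 37, 38, 40, 40]⟩,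
    ⟨[2, 2, 7], 179, [⟨84, [], [2, 2, 7]⟩, ⟨57, [30, 33, 31], [3, 7, 7, 2, 6, 3, 7, 2, 2, 6, 3, 3]⟩, ⟨89, [40, 39, 40], [6, 3, 3, 7, 2, 2, 7, 2, 2, 6, 2, 7, 3]⟩], [35, 37, 39]⟩,
    ⟨[7, 7, 2], 126, [⟨84, [], [7, 7, 2]⟩, ⟨60, [30, 33, 31, 27], [7, 7, 3, 3, 6, 3, 3, 7, 2, 6, 2, 7, 2]⟩, ⟨85, [37, 35, 37, 40], [3, 7, 7, 2, 2, 6, 3, 3, 6, 6, 3, 6, 2]⟩], [39, 35]⟩,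
    ⟨[2, 2, 2, 6], 398, [⟨84, [], [2, 2, 2, 6]⟩, ⟨60, [34, 28, 28], [6, 6, 2, 7, 3, 6, 6, 3, 3, 7, 2, 7]⟩, ⟨77, [38, 38, 35], [2, 7, 2, 6, 6, 3, 6, 2, 7, 2, 6, 3]⟩], [40, 38, 35]⟩,
    ⟨[3, 3, 6, 3], 464, [⟨84, [], [3, 3, 6, 3]⟩, ⟨59, [34, 31, 31, 27], [3, 7, 7, 3, 3, 6, 3, 3, 6, 3, 7]⟩, ⟨94, [53, 55, 53, 54, 52], [2, 7, 3, 6, 3, 3, 6, 2, 7, 2, 6, 2, 2]⟩], [40, 38, 35]⟩,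
    ⟨[3, 3, 6, 2], 463, [⟨84, [], [3, 3, 6, 2]⟩, ⟨55, [29, 27], [3, 3, 6, 2, 2, 7, 2, 2, 7, 7, 2]⟩, ⟨89, [40, 36], [2, 6, 2, 2, 7, 7, 3, 3, 7, 2, 7, 2, 2]⟩], [35, 37, 38]⟩,
    ⟨[6, 6, 3, 6], 998, [⟨84, [], [6, 6, 3, 6]⟩, ⟨59, [33, 29, 28], [3, 3, 6, 6, 3, 6, 6, 2, 7, 2, 2, 6]⟩, ⟨94, [54, 52, 55, 52, 54, 54, 52], [7, 3, 3, 6, 2, 7, 3, 6, 6, 3, 3, 7, 7]⟩], [35, 38, 35]⟩,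
    ⟨[6, 6, 3, 7], 996, [⟨84, [], [6, 6, 3, 7]⟩, ⟨59, [34, 34, 34], [2, 7, 7, 3, 6, 3, 3, 7, 3]⟩, ⟨97, [52, 55, 53, 54, 52, 55], [3, 7, 7, 2, 7, 7, 3, 3, 7, 7, 2, 2, 7]⟩], [35, 37, 39]⟩,
    ⟨[7, 7, 7, 3], 283, [⟨84, [], [7, 7, 7, 3]⟩, ⟨52, [27, 32], [3, 7, 2, 2, 2, 7, 2, 2, 7, 3, 3, 7, 2, 2]⟩, ⟨89, [37, 35, 37, 40], [7, 3, 3, 7, 7, 2, 6, 3, 7, 2, 2, 6]⟩], [40, 40, 39]⟩,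
    ⟨[2, 2, 7, 3], 374, [⟨84, [], [2, 2, 7, 3]⟩, ⟨57, [29, 34, 29], [7, 3, 6, 3, 3, 6, 2, 2, 6, 2, 7]⟩, ⟨90, [40, 39, 35], [2, 7, 2, 6, 3, 7, 2, 7, 2, 6, 2, 2]⟩], [40, 36, 39]⟩,
    ⟨[7, 7, 2, 6], 872, [⟨84, [], [7, 7, 2, 6]⟩, ⟨60, [32, 33, 32], [6, 3, 7, 7, 2, 7, 2, 2, 7, 7, 2, 2]⟩, ⟨85, [38, 40, 38, 35], [6, 6, 2, 2, 2, 7, 2, 2, 7, 3, 3, 6, 2, 2]⟩], [39, 40]⟩,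
    ⟨[2, 2, 2, 6, 3], 711, [⟨84, [], [2, 2, 2, 6, 3]⟩, ⟨57, [29, 32, 34], [2, 2, 6, 2, 7, 3, 6, 3]⟩, ⟨87, [35, 39, 40, 36], [7, 2, 6, 6, 2, 2, 7, 3, 3, 6, 2]⟩], [36, 36, 38, 35]⟩,
    ⟨[3, 3, 6, 2, 7, 3], 269, [⟨84, [], [3, 3, 6, 2, 7, 3]⟩, ⟨57, [33, 32, 31], [6, 2, 7, 2, 6, 6, 2, 2, 7, 7, 2]⟩, ⟨81, [], [6, 6, 3, 7, 7, 3, 6, 6, 2, 7, 2, 2, 6]⟩], [39, 40, 38]⟩,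
    ⟨[6, 6, 3, 7, 2, 6], 361, [⟨84, [], [6, 6, 3, 7, 2, 6]⟩, ⟨58, [32], [3, 6, 2, 7, 2, 7]⟩, ⟨57, [29, 30, 34], [6, 3, 7, 2, 2, 6, 3, 7, 2, 7, 7, 3, 6]⟩], [38, 37, 35]⟩,
    ⟨[3, 3, 6, 2, 7, 3, 3], 165, [⟨84, [], [3, 3, 6, 2, 7, 3, 3]⟩, ⟨56, [27, 32], [3, 7, 7, 2, 7, 2, 6, 2, 7, 7, 2, 7]⟩, ⟨45, [22, 20, 15, 16], [2, 2, 6, 3, 6, 2, 7, 7, 3, 3, 7, 2]⟩], [40, 38, 36, 35]⟩,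
    ⟨[3, 3, 6, 2, 7, 3, 6, 3], 632, [⟨84, [], [3, 3, 6, 2, 7, 3, 6, 3]⟩, ⟨59, [34, 27], [7, 2, 6, 6, 3, 7, 2, 6, 3, 6, 6, 2, 2, 7]⟩, ⟨97, [54, 52, 55, 55], [6, 6, 2, 2, 7, 2, 6, 3, 7, 2, 2, 6, 3, 7]⟩], [36, 38, 36, 35]⟩],
   [([0], [8]), ([0], [28]), ([0], [20]), ([0], [69]), ([0], [42]), ([0], [227]), ([0], [127]), ([0], [145]), ([0], [132]), ([0], [179]), ([0], [126]), ([0], [398]), ([0], [464]), ([0], [463]), ([0], [998]), ([0], [996]), ([0], [283]), ([0], [374]), ([0], [872]), ([0], [711])]⟩]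
theorem c_r0_21 : relAll tab 83 1408 HNU.base HNU.ph HNU.phI st rel0 3 om0 es21 cs21 rs0_21 = true := by decide +kernel
def rs0_22 : List RE := [
  ⟨[⟨[], 3, [⟨85, [], []⟩, ⟨75, [35], [2, 2, 6, 3, 3, 7, 7, 2, 2, 6, 2, 7, 7]⟩, ⟨92, [45, 41, 49, 41], [2, 2, 6, 6, 3, 7, 7, 3, 6]⟩], [40, 36, 38, 35, 35]⟩,
    ⟨[3], 8, [⟨85, [], [3]⟩, ⟨72, [40], [3, 6, 6, 2, 2, 6, 6, 3, 3, 7]⟩, ⟨52, [34, 31, 32], [7, 7, 3, 6, 6, 3, 6, 6, 2, 7, 2, 6, 3]⟩], [37, 39]⟩,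
    ⟨[6], 28, [⟨85, [], [6]⟩, ⟨88, [35, 39, 37], [6, 6, 2, 7, 3, 6, 2, 2, 2, 6, 6]⟩, ⟨57, [28, 34], [7, 2, 7, 7, 2, 6, 6, 3, 7, 2, 6, 2, 7, 7]⟩], [37, 35, 37, 35, 35]⟩,
    ⟨[2], 7, [⟨85, [], [2]⟩, ⟨85, [35, 38, 40, 39], [6, 6, 2, 2, 7, 3, 6, 2, 7, 2]⟩, ⟨85, [40, 39, 35, 38], [7, 3, 3, 6, 3, 7, 7, 2, 6, 3, 7, 2]⟩], [38, 38, 35]⟩,
    ⟨[7], 24, [⟨85, [], [7]⟩, ⟨89, [35, 35, 38, 35], [3, 6, 3, 7, 7, 2, 2, 6, 6]⟩, ⟨90, [36, 39, 35], [7, 7, 2, 6, 3, 7, 2, 6, 2, 2, 6, 6]⟩], [40, 36, 40, 40]⟩,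
    ⟨[3, 3], 20, [⟨85, [], [3, 3]⟩, ⟨67, [39], [2, 6, 3, 3, 7, 7, 2, 7, 2, 6, 2, 2, 6]⟩, ⟨22, [13, 9, 13, 9], [7, 3, 6, 2, 7, 3, 6, 6, 2, 7]⟩], [38, 36, 36, 35, 35]⟩,
    ⟨[3, 6], 57, [⟨85, [], [3, 6]⟩, ⟨69, [37, 35, 35], [6, 3, 3, 7, 2, 6, 2, 2, 7, 2, 6, 2, 2]⟩, ⟨85, [37, 40], [6, 6, 3, 7, 7, 3, 6, 6, 2, 2, 6, 3, 3]⟩], [39, 40, 36, 39]⟩,
    ⟨[6, 6], 69, [⟨85, [], [6, 6]⟩, ⟨86, [37, 35, 38], [7, 3, 6, 3, 3, 6, 3, 7, 3, 3, 6, 2, 2]⟩, ⟨95, [54, 53, 55, 53, 52], [6, 3, 7, 2, 6, 3, 6, 2, 7, 3, 6, 2, 2]⟩], [39, 36, 36, 35]⟩,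
    ⟨[2, 2], 16, [⟨85, [], [2, 2]⟩, ⟨86, [40, 36, 39, 35, 35], [7, 2, 6, 3, 7, 2, 7, 3, 6, 3, 7, 3]⟩, ⟨94, [56, 52, 54, 56, 55], [3, 6, 6, 2, 7, 7, 3, 3, 7, 3, 6, 2, 7, 2]⟩], [40, 36, 35, 35]⟩,
    ⟨[7, 7], 61, [⟨85, [], [7, 7]⟩, ⟨86, [37, 38, 35], [7, 2, 6, 3, 7, 3, 6, 3, 7, 7, 3]⟩, ⟨94, [53, 54, 53, 55, 53, 55], [7, 2, 2, 7, 2, 2, 2, 6, 3]⟩], [39, 39, 37, 35]⟩,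
    ⟨[2, 2, 2], 42, [⟨85, [], [2, 2, 2]⟩, ⟨76, [37, 40, 40], [3, 7, 2, 6, 3, 6, 2, 7, 2, 6, 3, 7, 2, 7]⟩, ⟨97, [53, 54, 54, 56], [3, 3, 7, 2, 7]⟩], [35, 39, 37, 38]⟩,
    ⟨[3, 3, 6], 227, [⟨85, [], [3, 3, 6]⟩, ⟨90, [40, 39, 40, 36], [2, 6, 6, 3, 7, 7, 2, 6, 3, 7, 3, 6, 2, 2]⟩, ⟨77, [39, 39, 37], [2, 6, 2, 2, 2, 7, 7, 2, 7, 3, 6, 3]⟩], [38, 38, 35, 35]⟩,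
    ⟨[3, 3, 7], 127, [⟨85, [], [3, 3, 7]⟩, ⟨88, [37, 39, 37], [7, 7, 2, 6, 2, 7, 2, 2, 2, 7, 3, 6]⟩, ⟨57, [33, 30], [2, 7, 2, 6, 2, 2, 7, 2, 6, 3, 7, 7, 2, 6]⟩], [37, 38, 40, 39, 35]⟩,
    ⟨[6, 6, 3], 145, [⟨85, [], [6, 6, 3]⟩, ⟨87, [40, 38, 35], [3, 6, 3, 7, 2, 2, 7, 3, 3, 7, 2, 2, 6]⟩, ⟨89, [35, 38, 40], [2, 2, 7, 7, 2, 7, 3, 6, 2, 7, 7, 2, 2]⟩], [36, 40, 36]⟩,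
    ⟨[7, 7, 7], 132, [⟨85, [], [7, 7, 7]⟩, ⟨76, [36, 40], [6, 6, 2, 7, 3, 6, 6, 3, 7, 7, 3, 6, 6]⟩, ⟨97, [54, 54, 56, 54], [2, 7, 2, 6, 6, 3, 3, 7, 2, 7]⟩], [38, 38, 36]⟩,
    ⟨[2, 2, 7], 179, [⟨85, [], [2, 2, 7]⟩, ⟨77, [39, 35, 39], [3, 7, 2, 6, 2, 2, 7, 7, 3, 3, 6, 3]⟩, ⟨89, [39, 40, 36, 35], [3, 6, 2, 2, 7, 7, 2, 7, 3, 3, 7, 2, 2]⟩], [35, 39, 37, 38]⟩,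
    ⟨[7, 7, 2], 126, [⟨85, [], [7, 7, 2]⟩, ⟨90, [35, 38, 40], [2, 7, 2, 2, 7, 2, 7, 7, 7, 3, 3]⟩, ⟨91, [35, 39, 35], [6, 6, 2, 2, 7, 2, 6, 3, 3, 7, 2, 6, 2]⟩], [35, 39, 39, 40]⟩,
    ⟨[2, 2, 2, 7], 395, [⟨85, [], [2, 2, 2, 7]⟩, ⟨90, [37, 39], [6, 3, 7, 7, 2, 7, 7, 2, 6, 6, 2, 7, 2]⟩, ⟨89, [35, 39, 40, 36], [2, 6, 3, 6, 2, 7, 3, 6, 2]⟩], [39, 35, 35, 38]⟩,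
    ⟨[3, 3, 6, 3], 464, [⟨85, [], [3, 3, 6, 3]⟩, ⟨89, [35, 39], [2, 7, 3, 3, 6, 2, 2, 6, 2, 7, 2, 6, 2, 7]⟩, ⟨87, [38, 35, 35], [2, 7, 7, 7, 2, 7, 3, 6, 3, 7, 2, 6, 3]⟩], [40]⟩,
    ⟨[3, 3, 6, 2], 463, [⟨85, [], [3, 3, 6, 2]⟩, ⟨89, [35, 38, 35], [7, 2, 7, 3, 3, 7, 3, 6, 3, 7, 2, 2, 7]⟩, ⟨77, [37, 40, 40], [7, 7, 3, 6, 6, 2, 7, 2, 2, 6, 3, 7, 2, 2]⟩], [40, 36, 35, 35]⟩,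
    ⟨[6, 6, 3, 6], 998, [⟨85, [], [6, 6, 3, 6]⟩, ⟨77, [40, 36], [7, 2, 6, 6, 3, 6, 6, 2, 2, 2]⟩, ⟨90, [36, 39, 35, 35], [6, 2, 2, 6, 2, 7, 3, 6, 6, 3, 7, 7, 2]⟩], [39, 35, 38, 40]⟩,
    ⟨[6, 6, 3, 7], 996, [⟨85, [], [6, 6, 3, 7]⟩, ⟨91, [39, 37, 40], [6, 2, 2, 6, 2, 7, 7, 2, 2, 6, 2]⟩, ⟨90, [40, 39, 40], [2, 7, 7, 2, 6, 3, 7, 7, 2, 7]⟩], [40, 36, 38, 38]⟩,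
    ⟨[7, 7, 7, 2], 282, [⟨85, [], [7, 7, 7, 2]⟩, ⟨85, [40], [6, 6, 2, 2, 7, 3, 6, 6]⟩, ⟨85, [38, 40, 39, 35], [7, 7, 7, 3, 6, 6, 3, 7, 7, 3, 3, 6, 3, 3]⟩], [36, 36, 40, 40]⟩,
    ⟨[2, 2, 7, 2], 373, [⟨85, [], [2, 2, 7, 2]⟩, ⟨84, [39, 35], [7, 7, 2, 7, 2, 6, 2, 2, 7, 3, 6]⟩, ⟨60, [30, 33, 31, 27], [6, 3, 7, 3, 3, 6, 2, 2, 7, 3]⟩], [37, 35, 37, 40]⟩,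
    ⟨[7, 7, 2, 7], 869, [⟨85, [], [7, 7, 2, 7]⟩, ⟨84, [39, 40], [7, 2, 2, 7, 7, 3, 6, 3, 7, 3, 3, 7, 2, 7]⟩, ⟨60, [32, 33, 32], [2, 7, 7, 2, 6, 3, 6, 6, 3, 6, 2]⟩], [38, 40, 38, 35]⟩,
    ⟨[2, 2, 2, 6, 3], 711, [⟨85, [], [2, 2, 2, 6, 3]⟩, ⟨88, [38, 40], [2, 6, 3, 6, 6, 2, 2, 6, 3, 3, 7, 7]⟩, ⟨57, [34, 31, 28], [7, 7, 2, 2, 6, 3]⟩], [38, 38, 36]⟩,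
    ⟨[2, 2, 7, 3, 6, 2], 317, [⟨85, [], [2, 2, 7, 3, 6, 2]⟩, ⟨82, [38, 38], [7, 2, 7, 3, 3, 6, 3, 3, 6, 2, 7, 2]⟩, ⟨97, [55, 52, 54, 52, 55, 52, 54], [2, 2, 2, 6, 3, 3, 7, 7, 3]⟩], [39, 37, 35, 38]⟩,
    ⟨[7, 7, 2, 6, 3, 7], 452, [⟨85, [], [7, 7, 2, 6, 3, 7]⟩, ⟨74, [], [6, 2, 2, 2, 7, 2, 6, 3, 3, 6, 3, 7]⟩, ⟨19, [17, 9], [2, 6, 2, 2, 7, 7, 2, 2, 2, 6, 3, 3]⟩], [37, 35, 35]⟩,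
    ⟨[2, 2, 7, 3, 6, 2, 2], 162, [⟨85, [], [2, 2, 7, 3, 6, 2, 2]⟩, ⟨79, [38, 40], [7, 2, 2, 2, 7, 7, 2, 6, 2, 2, 2]⟩, ⟨43, [16, 15, 20], [6, 3, 7, 2, 7, 2, 6, 2]⟩], [35, 37, 35]⟩,
    ⟨[3, 3, 6, 2, 7, 3, 6, 3], 632, [⟨85, [], [3, 3, 6, 2, 7, 3, 6, 3]⟩, ⟨85, [36, 35], [3, 6, 3, 7, 3, 3, 7, 3]⟩, ⟨69, [37, 35, 35], [7, 7, 2, 6, 3, 3, 6, 2, 2, 6, 3, 6]⟩], [40, 36, 38, 38]⟩],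
   [([0], [7]), ([0], [24]), ([0], [16]), ([0], [61]), ([0], [42]), ([0], [227]), ([0], [127]), ([0], [145]), ([0], [132]), ([0], [179]), ([0], [126]), ([0], [395]), ([0], [464]), ([0], [463]), ([0], [998]), ([0], [996]), ([0], [282]), ([0], [373]), ([0], [869]), ([0], [711])]⟩,
  ⟨[⟨[], 3, [⟨86, [], []⟩, ⟨98, [], [6, 6, 3, 7, 2, 6, 3, 6, 2, 7, 7]⟩, ⟨35, [23, 21], [3, 7, 7, 7, 3, 3, 7]⟩], [35, 35, 37, 35]⟩,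
    ⟨[3], 8, [⟨86, [], [3]⟩, ⟨99, [55, 53, 54, 54], [6, 2, 7, 7, 2, 2, 2, 6, 6, 3, 6]⟩, ⟨57, [34, 32, 27], [7, 2, 6, 3, 6, 2, 7, 7, 7, 3]⟩], [39]⟩,
    ⟨[6], 28, [⟨86, [], [6]⟩, ⟨99, [54, 53, 55], [2, 7, 3, 3, 6, 3, 3, 6, 2, 2, 7, 2, 7]⟩, ⟨55, [28, 27, 27], [3, 3, 6, 6, 3, 3, 6, 3, 7, 2, 6, 6]⟩], [39, 39]⟩,
    ⟨[2], 7, [⟨86, [], [2]⟩, ⟨100, [56, 54, 56], [3, 3, 6, 2, 7, 2, 2, 7, 3]⟩, ⟨97, [54, 52, 54], [3, 7, 7, 2, 7, 7, 2, 6, 6, 3, 3, 6, 2]⟩], [35, 38, 40]⟩,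
    ⟨[7], 24, [⟨86, [], [7]⟩, ⟨98, [55, 55, 53, 55, 53], [7, 2, 6, 3, 3, 6, 3, 7, 7, 2, 6, 6, 2]⟩, ⟨45, [22, 16, 15], [3, 3, 7, 2, 6, 3, 3, 6, 3, 7, 2]⟩], [40, 39, 40, 36]⟩,
    ⟨[3, 3], 20, [⟨86, [], [3, 3]⟩, ⟨99, [55, 53, 55, 53, 54, 54], [6, 6, 3, 3, 6, 6, 2, 2, 2, 7, 3]⟩, ⟨54, [32, 29, 27], [2, 6, 3, 7, 3, 3, 7, 7, 2, 6, 6]⟩], [38, 36, 40]⟩,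
    ⟨[3, 6], 57, [⟨86, [], [3, 6]⟩, ⟨97, [55, 52, 54, 52, 55, 55], [3, 6, 3, 7, 3, 3, 6, 2, 2, 7, 7, 2, 2]⟩, ⟨90, [40, 38, 36], [7, 2, 6, 3, 7, 7, 2, 6]⟩], [38, 37, 35, 37]⟩,
    ⟨[6, 6], 69, [⟨86, [], [6, 6]⟩, ⟨96, [54], [2, 2, 2, 6, 2, 7, 7, 3, 3, 7]⟩, ⟨95, [55, 53, 54, 53, 55], [2, 7, 7, 2, 6, 6, 3, 3, 6, 2, 2, 2, 7]⟩], [36]⟩,
    ⟨[2, 2], 16, [⟨86, [], [2, 2]⟩, ⟨99, [54, 54, 54, 54, 54], [6, 6, 2, 7, 7, 2, 2, 2, 7, 2, 2, 6, 2]⟩, ⟨52, [31, 32], [6, 2, 7, 7, 2, 2, 7, 2, 7, 7, 2, 2, 7, 7]⟩], []⟩,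
    ⟨[7, 7], 61, [⟨86, [], [7, 7]⟩, ⟨96, [52, 54, 54, 52, 54], [7, 7, 2, 6, 2, 2, 6, 3, 3, 7, 3, 3, 7]⟩, ⟨95, [54, 54, 52, 55, 52], [3, 6, 2, 7, 7, 7, 2, 2, 7, 3, 3, 7, 2, 2]⟩], [38, 38, 36, 40]⟩,
    ⟨[2, 2, 2], 42, [⟨86, [], [2, 2, 2]⟩, ⟨99, [56, 52, 54, 56, 55], [7, 2, 6, 2, 2, 2, 7, 7, 7, 2]⟩, ⟨60, [30, 33, 31], [2, 2, 7, 3, 6, 3, 3, 6, 2, 2]⟩], [36, 38]⟩,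
    ⟨[3, 3, 6], 227, [⟨86, [], [3, 3, 6]⟩, ⟨95, [55, 55, 55, 55], [3, 3, 7, 2, 7, 3, 6, 2, 2, 2, 6, 2]⟩, ⟨87, [36, 40, 40], [6, 3, 6, 2, 7, 3, 3, 6, 2, 7, 2, 2]⟩], [37, 39, 40, 36, 35]⟩,
    ⟨[6, 6, 3], 145, [⟨86, [], [6, 6, 3]⟩, ⟨95, [54, 53, 55, 53, 52], [7, 7, 7, 3, 3, 6, 2, 7, 3, 6, 6, 2, 7]⟩, ⟨85, [35, 35, 38, 35], [6, 3, 3, 6, 3, 3, 7, 7, 3, 3, 6, 6]⟩], [40, 36, 38, 35, 35]⟩,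
    ⟨[7, 7, 7], 132, [⟨86, [], [7, 7, 7]⟩, ⟨97, [54, 52, 54], [6, 6, 3, 7, 2, 6, 2, 7, 2, 6, 6, 2, 2, 7]⟩, ⟨87, [38, 36, 36], [6, 3, 6, 2, 7, 7, 7, 2, 2, 2]⟩], [37, 39, 35]⟩,
    ⟨[2, 2, 7], 179, [⟨86, [], [2, 2, 7]⟩, ⟨94, [56, 52, 54, 56, 55], [2, 2, 2, 7, 7, 2, 2, 6, 6, 2, 2, 2]⟩, ⟨85, [38, 37, 35, 38], [3, 6, 3, 3, 7, 2, 2, 7, 7]⟩], [38, 36, 35, 35]⟩,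
    ⟨[2, 2, 2, 6], 398, [⟨86, [], [2, 2, 2, 6]⟩, ⟨97, [55, 55], [3, 6, 3, 3, 7, 2, 2, 7, 3]⟩, ⟨91, [38], [3, 6, 2, 7, 2, 6, 3, 6, 6, 3, 3, 7]⟩], [35, 37, 38]⟩,
    ⟨[2, 2, 2, 7], 395, [⟨86, [], [2, 2, 2, 7]⟩, ⟨94, [55, 53, 54, 52, 55, 52], [7, 2, 2, 7, 2, 2, 2, 7, 7, 3]⟩, ⟨85, [39, 39, 37, 35], [6, 3, 7, 2, 2, 6, 2, 2, 6, 6, 3, 7]⟩], [37, 39, 40]⟩,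
    ⟨[6, 6, 3, 6], 998, [⟨86, [], [6, 6, 3, 6]⟩, ⟨99, [55, 53, 54, 53], [3, 7, 3, 6, 3, 7, 2, 6, 6, 3]⟩, ⟨60, [33, 32, 31, 30], [7, 7, 3, 6, 3, 3, 7, 2, 6, 3, 6, 6]⟩], [38, 36, 35, 35]⟩,
    ⟨[6, 6, 3, 7], 996, [⟨86, [], [6, 6, 3, 7]⟩, ⟨97, [54, 52, 55, 52, 54], [7, 3, 3, 6, 6, 2, 7, 7, 2, 6, 3, 3, 7]⟩, ⟨87, [35, 39, 40, 36], [2, 6, 3, 6, 6, 3, 6, 6, 2, 7, 7, 3]⟩], [40, 36, 39, 40]⟩,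
    ⟨[7, 7, 2, 6], 872, [⟨86, [], [7, 7, 2, 6]⟩, ⟨98, [53, 55, 53, 55, 53, 52], [2, 6, 3, 3, 6, 2, 2, 6, 2, 2, 7, 3]⟩, ⟨45, [16, 16, 26, 16], [7, 2, 6, 2, 2, 7, 3, 6, 2, 7]⟩], [38, 38, 38, 35]⟩,
    ⟨[7, 7, 2, 7], 869, [⟨86, [], [7, 7, 2, 7]⟩, ⟨99, [55, 52, 55, 53, 54], [2, 2, 2, 7, 7, 2, 6, 2, 7, 3, 6, 6, 2, 2]⟩, ⟨57, [33, 31], [6, 3, 3, 7, 3, 6, 2, 2, 7, 7, 3, 3, 6]⟩], [36, 39, 40, 36]⟩,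
    ⟨[2, 2, 2, 6, 3], 711, [⟨86, [], [2, 2, 2, 6, 3]⟩, ⟨97, [53, 55, 56, 55, 56, 55], [2, 7, 2, 2, 7, 7, 3, 6, 6, 2, 2, 2]⟩, ⟨89, [37, 38, 40], [3, 3, 7, 3, 6, 2, 2, 7, 3, 3]⟩], [39, 35]⟩,
    ⟨[2, 2, 2, 6, 2], 710, [⟨86, [], [2, 2, 2, 6, 2]⟩, ⟨94, [56, 52, 54, 56, 54], [6, 2, 7, 2, 2, 6, 3, 7, 2, 7, 7, 2]⟩, ⟨69, [37, 35, 35], [3, 6, 2, 2, 2, 6, 3, 7, 3, 3, 6, 2]⟩], [37, 39, 37]⟩,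
    ⟨[2, 2, 2, 7, 3], 704, [⟨86, [], [2, 2, 2, 7, 3]⟩, ⟨97, [55, 52, 54, 52, 55], [2, 2, 6, 3, 7, 2, 2, 7]⟩, ⟨91, [39, 35], [7, 7, 3, 6, 6, 2, 2, 7, 2, 7, 7, 2]⟩], [36, 36, 39]⟩,
    ⟨[2, 2, 2, 7, 2], 703, [⟨86, [], [2, 2, 2, 7, 2]⟩, ⟨99, [55, 55, 55, 55, 55], [7, 2, 2, 7, 7, 7, 3, 6, 2, 2, 7, 2]⟩, ⟨57, [33, 29], [2, 2, 7, 3, 6, 3, 3, 7, 2, 7, 3, 3]⟩], [40, 36, 38, 35]⟩,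
    ⟨[3, 3, 6, 2, 7], 516, [⟨86, [], [3, 3, 6, 2, 7]⟩, ⟨97, [55, 55, 55, 55, 55, 53], [3, 7, 2, 7, 7, 7, 2, 7, 3, 6, 3, 3, 7]⟩, ⟨70, [40], [2, 6, 2, 2, 6, 3, 3, 6, 3, 7, 2]⟩], [36, 38, 38]⟩,
    ⟨[6, 6, 3, 7, 2, 6], 361, [⟨86, [], [6, 6, 3, 7, 2, 6]⟩, ⟨95, [55, 53, 55, 53, 54], [3, 6, 3, 7, 2, 7, 3, 6, 6, 3, 6, 2]⟩, ⟨91, [38, 40, 38, 35], [7, 7, 3, 6, 6, 2, 7, 7, 2, 6, 3, 6, 2]⟩], [36, 39, 40, 36]⟩,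
    ⟨[7, 7, 2, 6, 3, 7], 452, [⟨86, [], [7, 7, 2, 6, 3, 7]⟩, ⟨100, [53, 52, 55, 52], [3, 3, 7, 2, 6, 3, 3, 7, 7, 7]⟩, ⟨97, [55, 52, 55, 55], [2, 2, 7, 3, 3, 7, 2, 2, 7, 3, 3, 7, 2]⟩], [35, 35, 38]⟩,
    ⟨[2, 2, 7, 3, 6, 2, 2], 162, [⟨86, [], [2, 2, 7, 3, 6, 2, 2]⟩, ⟨99, [53], [3, 7, 2, 2, 6, 3, 3, 6, 3, 7, 2, 2]⟩, ⟨60, [31, 27, 34], [2, 7, 2, 6, 3, 3, 7, 3, 6, 2]⟩], [36, 38, 36, 35]⟩,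
    ⟨[3, 3, 6, 2, 7, 3, 6, 3], 632, [⟨86, [], [3, 3, 6, 2, 7, 3, 6, 3]⟩, ⟨96, [55, 55, 53, 55], [7, 2, 2, 7, 3, 3, 7, 3, 3, 7, 2]⟩, ⟨94, [54, 54], [6, 2, 2, 7, 2, 6, 2, 2, 6, 2]⟩], [39, 35, 35]⟩],
   [([0], [8]), ([0], [7]), ([0], [24]), ([0], [57]), ([0], [69]), ([0], [61]), ([0], [42]), ([0], [227]), ([0], [132]), ([0], [179]), ([0], [398]), ([0], [395]), ([0], [998]), ([0], [996]), ([0], [872]), ([0], [869]), ([0], [711]), ([0], [704]), ([0], [361]), ([0], [452])]⟩]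
theorem c_r0_22 : relAll tab 83 1408 HNU.base HNU.ph HNU.phI st rel0 3 om0 es22 cs22 rs0_22 = true := by decide +kernel
def rs0_23 : List RE := [
  ⟨[⟨[], 3, [⟨87, [], []⟩, ⟨88, [36, 38, 35, 35], [2, 6, 2, 2, 6, 2, 2, 7, 7, 3, 6]⟩, ⟨54, [27], [2, 7, 7, 3, 3, 7, 7, 2, 6]⟩], [40, 36, 39, 40, 40]⟩,
    ⟨[3], 8, [⟨87, [], [3]⟩, ⟨87, [39, 37], [6, 3, 7, 2, 6, 3, 7, 2, 2, 7]⟩, ⟨87, [36, 39, 35, 35], [6, 3, 7, 2, 7, 3, 6, 6, 3, 7, 7, 2, 6, 2, 2]⟩], [35, 35, 38]⟩,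
    ⟨[6], 28, [⟨87, [], [6]⟩, ⟨87, [40, 38, 35], [7, 2, 2, 6, 3, 7, 2, 2, 7, 2, 7, 3]⟩, ⟨69, [37, 35, 35], [3, 3, 6, 6, 2, 7, 7, 2, 6, 3, 7, 2, 2, 6]⟩], [37, 39, 37]⟩,
    ⟨[2], 7, [⟨87, [], [2]⟩, ⟨90, [39, 40, 36, 35], [2, 2, 7, 7, 2, 7, 3, 6, 6, 3, 7, 2, 6]⟩, ⟨77, [39, 35, 39], [7, 7, 2, 6, 3, 7, 2, 2, 6, 2, 2, 6]⟩], [37, 38, 40, 40]⟩,
    ⟨[3, 3], 20, [⟨87, [], [3, 3]⟩, ⟨86, [39], [3, 3, 6, 2, 7, 7, 2, 6, 2, 7, 3, 6, 2]⟩, ⟨97, [55, 55, 55, 53], [3, 6, 6, 3, 7, 7, 3, 6, 6, 3, 7, 2, 6, 3]⟩], [35, 37, 35, 38]⟩,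
    ⟨[6, 6], 69, [⟨87, [], [6, 6]⟩, ⟨90, [36, 38], [7, 7, 3, 3, 6, 2, 7, 2, 7, 7, 2, 6, 3]⟩, ⟨89, [39, 35], [3, 6, 2, 2, 7, 3, 6, 2, 7, 7]⟩], [40, 36, 38, 35, 35]⟩,
    ⟨[2, 2], 16, [⟨87, [], [2, 2]⟩, ⟨84, [37, 39, 35], [3, 7, 2, 6, 6, 3, 6, 6, 2]⟩, ⟨57, [29, 34, 27], [3, 6, 3, 7, 2, 6, 2, 2, 6, 2, 2]⟩], [38, 38, 35, 38]⟩,
    ⟨[2, 2, 2], 42, [⟨87, [], [2, 2, 2]⟩, ⟨78, [], [2, 6, 3, 7, 3, 6, 3, 7, 7, 7, 2]⟩, ⟨43, [21, 20, 21], [2, 6, 6, 3, 6, 2, 7, 3, 6, 6]⟩], [35, 38]⟩,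
    ⟨[3, 3, 6], 227, [⟨87, [], [3, 3, 6]⟩, ⟨87, [35, 39, 35], [6, 3, 7, 3, 3, 7, 7, 2, 2, 7, 2, 6, 2, 2, 2]⟩, ⟨89, [39, 40], [6, 2, 2, 2, 7, 7, 7, 3, 6]⟩], [36, 36, 39, 35, 35]⟩,
    ⟨[6, 6, 3], 145, [⟨87, [], [6, 6, 3]⟩, ⟨82, [39, 39, 35], [7, 7, 2, 2, 6, 3, 3, 6, 2, 2]⟩, ⟨97, [52, 55, 55, 55, 55, 53], [3, 7, 3, 3, 7, 2, 7, 7, 3, 3, 7, 2]⟩], [39, 40]⟩,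
    ⟨[7, 7, 2], 126, [⟨87, [], [7, 7, 2]⟩, ⟨85, [36], [7, 2, 6, 3, 7, 2, 7, 3, 6, 6, 3, 6, 2, 7]⟩, ⟨89, [35, 39], [2, 2, 7, 7, 2, 7, 3, 6, 6, 2, 7, 7, 2]⟩], [39, 37, 35]⟩,
    ⟨[2, 2, 2, 6], 398, [⟨87, [], [2, 2, 2, 6]⟩, ⟨78, [39, 40, 39], [3, 7, 2, 7, 7, 3, 3, 6, 2, 2, 6, 2, 7, 2]⟩, ⟨45, [22, 20, 20], [3, 3, 6, 3, 3, 7, 2, 2, 6]⟩], [36, 39]⟩,
    ⟨[3, 3, 6, 3], 464, [⟨87, [], [3, 3, 6, 3]⟩, ⟨76, [40, 36], [3, 7, 2, 7, 3, 6, 6, 3, 7, 3]⟩, ⟨95, [56, 55, 53, 54], [6, 2, 2, 7, 3, 6, 6, 3, 6, 2, 2, 7, 7, 2, 2]⟩], [39, 36, 38]⟩,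
    ⟨[3, 3, 6, 2], 463, [⟨87, [], [3, 3, 6, 2]⟩, ⟨88, [39, 37], [6, 2, 2, 2, 7, 3, 6, 2, 7, 7, 7, 2]⟩, ⟨57, [28, 33, 32], [6, 2, 2, 7, 3, 6, 2, 7, 7, 3, 3, 7, 3, 6]⟩], [39, 35, 35]⟩,
    ⟨[6, 6, 3, 3], 272, [⟨87, [], [6, 6, 3, 3]⟩, ⟨77, [37, 35, 37], [7, 3, 3, 6, 2, 7, 2, 2, 6, 3, 6, 6]⟩, ⟨90, [36, 38, 36, 35], [7, 7, 2, 6, 2, 2, 2, 6, 6, 3, 6, 2]⟩], [40, 38]⟩,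
    ⟨[6, 6, 3, 6], 998, [⟨87, [], [6, 6, 3, 6]⟩, ⟨89, [40, 36, 39], [6, 6, 3, 7, 2, 6, 3, 3]⟩, ⟨73, [], [2, 6, 6, 3, 7, 2, 6, 2, 2, 7]⟩], [37, 38, 35]⟩,
    ⟨[7, 7, 7, 3], 283, [⟨87, [], [7, 7, 7, 3]⟩, ⟨86, [36, 36, 38, 35], [6, 3, 7, 7, 2, 7, 3, 6, 2, 7, 7, 7]⟩, ⟨97, [52, 54, 52, 55, 52, 54], [7, 7, 2, 2, 6, 3, 3, 7, 2, 2]⟩], [38, 38, 35, 38]⟩,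
    ⟨[7, 7, 7, 2], 282, [⟨87, [], [7, 7, 7, 2]⟩, ⟨89, [38, 36], [7, 3, 3, 6, 3, 7, 2, 7, 3]⟩, ⟨87, [39, 37, 40], [7, 2, 7, 2, 2, 2, 7, 7, 3]⟩], [39, 36, 40, 36, 40]⟩,
    ⟨[2, 2, 7, 3], 374, [⟨87, [], [2, 2, 7, 3]⟩, ⟨88, [39, 36, 35], [3, 3, 6, 2, 2, 7, 7, 3, 3, 7, 7, 2, 6]⟩, ⟨60, [33, 28, 31, 27], [7, 2, 6, 3, 7, 3, 6, 2, 2, 2, 6, 3]⟩], [40, 36, 39, 40]⟩,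
    ⟨[2, 2, 7, 2], 373, [⟨87, [], [2, 2, 7, 2]⟩, ⟨70, [40, 40], [3, 7, 2, 2, 6, 2, 7, 2, 2, 7, 2]⟩, ⟨91, [37, 35, 37], [2, 6, 3, 7, 2, 2, 7, 3, 3, 7, 3, 6]⟩], [40, 40, 39]⟩,
    ⟨[7, 7, 2, 6], 872, [⟨87, [], [7, 7, 2, 6]⟩, ⟨81, [40], [7, 3, 3, 7, 7, 2, 6, 6, 3, 3, 7, 7, 2, 6]⟩, ⟨89, [39, 39, 37], [3, 6, 2, 7, 2, 6, 3, 7, 7, 2, 2, 6, 3]⟩], [38, 40]⟩,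
    ⟨[2, 2, 2, 7, 3], 704, [⟨87, [], [2, 2, 2, 7, 3]⟩, ⟨86, [37, 38, 35], [3, 7, 2, 2, 6, 6, 3, 6, 2, 7, 3, 3]⟩, ⟨95, [55, 52, 54, 54, 52], [6, 2, 7, 3, 6, 3, 7, 2, 7, 7, 2, 2, 2]⟩], [39, 39, 37, 35]⟩,
    ⟨[2, 2, 2, 7, 2], 703, [⟨87, [], [2, 2, 2, 7, 2]⟩, ⟨89, [35, 38, 40], [7, 7, 7, 3, 6, 6, 2, 7, 3]⟩, ⟨85, [39, 39], [3, 7, 7, 3, 6, 6, 2, 7, 2, 6, 2, 2, 7, 7, 2]⟩], [39, 36, 40, 36]⟩,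
    ⟨[6, 6, 3, 7, 2], 655, [⟨87, [], [6, 6, 3, 7, 2]⟩, ⟨80, [35, 35], [3, 7, 2, 2, 2, 7, 7, 7, 3]⟩, ⟨57, [34, 31, 27, 27], [2, 7, 7, 3, 6, 6, 2, 2, 7, 3, 3, 7]⟩], [37, 39, 37]⟩,
    ⟨[7, 7, 2, 6, 3], 789, [⟨87, [], [7, 7, 2, 6, 3]⟩, ⟨91, [35, 39, 35], [2, 6, 3, 7, 2, 6, 2, 2, 6, 6, 3, 7, 2]⟩, ⟨70, [37], [3, 6, 2, 2, 6, 2, 2, 7, 7]⟩], [39, 37, 38]⟩,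
    ⟨[3, 3, 6, 2, 7, 3], 269, [⟨87, [], [3, 3, 6, 2, 7, 3]⟩, ⟨79, [40, 38], [2, 6, 2, 7, 2, 7, 7, 3, 3, 6, 2, 7, 3]⟩, ⟨45, [20, 15, 26], [7, 7, 3, 6, 6, 3, 7, 3, 6, 3]⟩], [36, 39, 35, 35]⟩,
    ⟨[6, 6, 3, 7, 2, 6], 361, [⟨87, [], [6, 6, 3, 7, 2, 6]⟩, ⟨89, [40, 39, 35], [7, 2, 6, 2, 2, 2, 7, 2, 2, 2, 6]⟩, ⟨90, [39, 37], [2, 7, 3, 3, 6, 3, 3, 6, 2, 2, 7]⟩], [39, 40, 36, 35]⟩,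
    ⟨[2, 2, 7, 3, 6, 2], 317, [⟨87, [], [2, 2, 7, 3, 6, 2]⟩, ⟨89, [35, 38, 35], [2, 7, 7, 7, 2, 2, 6, 2, 7, 3, 6]⟩, ⟨89, [37, 39], [7, 7, 2, 7, 3, 3, 7, 3, 3, 6, 2, 2]⟩], [38, 37]⟩,
    ⟨[3, 3, 6, 2, 7, 3, 3], 165, [⟨87, [], [3, 3, 6, 2, 7, 3, 3]⟩, ⟨82, [38, 40, 39], [3, 6, 6, 2, 7, 7, 2, 7, 3, 6, 2, 2]⟩, ⟨94, [54, 52, 55, 52, 54, 54, 52], [7, 2, 6, 3, 7, 2, 2, 2, 7, 2, 7]⟩], [38, 38, 35, 38, 40]⟩,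
    ⟨[6, 6, 3, 7, 2, 6, 3], 566, [⟨87, [], [6, 6, 3, 7, 2, 6, 3]⟩, ⟨69, [39, 39, 35], [6, 3, 3, 7, 3, 6, 3, 7, 2, 2, 7, 2]⟩, ⟨87, [37, 38], [6, 3, 6, 6, 2, 7, 2, 2, 6, 2, 2]⟩], [35, 38]⟩],
   [([0], [3]), ([0], [8]), ([0], [28]), ([0], [20]), ([0], [69]), ([0], [16]), ([0], [42]), ([0], [227]), ([0], [145]), ([0], [126]), ([0], [463]), ([0], [283]), ([0], [282]), ([0], [374]), ([0], [704]), ([0], [703]), ([0], [655]), ([0], [269]), ([0], [361]), ([0], [566])]⟩,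
  ⟨[⟨[], 3, [⟨88, [], []⟩, ⟨60, [28, 34, 27, 27], [3, 7, 3, 6, 2, 7, 7, 7, 2, 2, 2]⟩, ⟨73, [], [7, 7, 3, 3, 6, 2, 7, 3, 6, 2]⟩], [39, 40, 40]⟩,
    ⟨[3], 8, [⟨88, [], [3]⟩, ⟨55, [32, 29, 27], [6, 2, 2, 2, 7, 2, 2, 6, 2, 7, 2, 7]⟩, ⟨77, [40, 38], [6, 3, 7, 2, 6, 3, 7, 2, 7]⟩], [36, 36, 39]⟩,
    ⟨[6], 28, [⟨88, [], [6]⟩, ⟨61, [28, 31, 31], [3, 7, 2, 2, 6, 2, 2, 6, 3, 3, 7, 2, 6, 3]⟩, ⟨54, [30], [6, 6, 2, 2, 7, 2, 6, 2, 2, 2, 6, 2, 2, 6]⟩], [38, 35]⟩,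
    ⟨[2], 7, [⟨88, [], [2]⟩, ⟨60, [30, 29, 34], [7, 2, 6, 2, 7, 7, 2, 7, 7, 7]⟩, ⟨91, [38, 40], [6, 3, 7, 2, 7, 7, 7, 3, 6, 6, 2]⟩], [36, 38, 36]⟩,
    ⟨[7], 24, [⟨88, [], [7]⟩, ⟨53, [30, 30, 30], [7, 2, 7, 7, 2, 6, 6, 2, 7, 2, 2, 7, 2, 2]⟩, ⟨45, [22, 20, 21, 21], [6, 6, 2, 2, 6, 6, 3, 6, 6, 3, 6, 2]⟩], [36, 39, 40, 40]⟩,
    ⟨[3, 3], 20, [⟨88, [], [3, 3]⟩, ⟨57, [28, 34], [6, 6, 2, 7, 2, 6, 2, 2, 7, 7, 2, 2]⟩, ⟨85, [38, 38, 35, 35], [7, 3, 3, 7, 2, 2, 6, 6, 2]⟩], [40, 36, 39, 40, 40]⟩,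
    ⟨[3, 6], 57, [⟨88, [], [3, 6]⟩, ⟨59, [30, 34, 28], [6, 2, 2, 7, 3, 6, 2, 7, 2, 6, 3, 7, 7]⟩, ⟨97, [55, 52, 54, 52, 55], [7, 3, 3, 6, 3, 3, 7, 3, 3, 6, 2, 2, 2]⟩], [39, 40]⟩,
    ⟨[6, 6], 69, [⟨88, [], [6, 6]⟩, ⟨52, [27, 27], [2, 7, 3, 6, 3, 3, 6, 2, 7, 3, 3]⟩, ⟨69, [39, 35], [6, 3, 3, 6, 2, 2, 6, 2, 7, 2, 2, 6, 2, 7]⟩], [38, 37, 35]⟩,
    ⟨[2, 2], 16, [⟨88, [], [2, 2]⟩, ⟨61, [32, 29, 28, 27], [7, 2, 6, 3, 3, 6, 2, 2, 7, 2, 2, 7, 3]⟩, ⟨57, [34, 28, 29], [7, 3, 6, 6, 2]⟩], [37, 38, 40, 40]⟩,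
    ⟨[7, 7], 61, [⟨88, [], [7, 7]⟩, ⟨61, [31, 31, 28, 27], [3, 6, 3, 7, 2, 7, 7, 2, 6, 2, 7, 7, 2]⟩, ⟨57, [30, 34, 29], [3, 6, 2, 7, 2, 6, 3, 7, 2, 7, 2, 6, 2]⟩], [35, 37, 39]⟩,
    ⟨[2, 2, 2], 42, [⟨88, [], [2, 2, 2]⟩, ⟨61, [28, 27, 28], [6, 3, 7, 7, 2, 6, 6, 3, 3, 7, 2, 2, 7]⟩, ⟨60, [32, 33], [3, 6, 2, 7, 7, 3, 6, 6, 2, 2, 6, 6]⟩], [39, 35, 35]⟩,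
    ⟨[3, 3, 6], 227, [⟨88, [], [3, 3, 6]⟩, ⟨54, [27], [3, 6, 6, 2, 2, 7, 2, 6, 6, 2]⟩, ⟨87, [38, 40], [7, 2, 7, 7, 3, 6, 2, 2, 7, 2, 7]⟩], [35, 39, 40]⟩,
    ⟨[3, 3, 7], 127, [⟨88, [], [3, 3, 7]⟩, ⟨57, [34, 28], [7, 2, 7, 7, 7, 3, 6, 2, 2, 2, 7, 2]⟩, ⟨85, [36, 40, 40], [2, 2, 7, 2, 6, 2, 2, 6, 2, 2, 2, 7, 7, 2]⟩], [35, 39, 35]⟩,
    ⟨[6, 6, 3], 145, [⟨88, [], [6, 6, 3]⟩, ⟨59, [27, 33], [2, 6, 6, 3, 3, 7, 2, 2, 7, 3, 6, 2, 2]⟩, ⟨97, [], [3, 7, 7, 3, 6, 6, 2, 2, 7, 3]⟩], [37, 39]⟩,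
    ⟨[7, 7, 7], 132, [⟨88, [], [7, 7, 7]⟩, ⟨61, [28, 31, 31, 28], [3, 6, 2, 7, 7, 2, 6, 2, 2, 2]⟩, ⟨60, [33, 30], [2, 7, 7, 2, 6, 3, 7, 3, 3, 6, 2]⟩], [36, 36, 38, 40, 40]⟩,
    ⟨[2, 2, 7], 179, [⟨88, [], [2, 2, 7]⟩, ⟨60, [32, 34], [7, 3, 3, 7, 2, 2, 6, 3, 6, 6, 2, 2, 2]⟩, ⟨89, [35, 35, 38, 35], [7, 2, 7, 7, 2, 6, 2, 2, 7, 3, 3, 6]⟩], [35, 39, 35]⟩,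
    ⟨[7, 7, 2], 126, [⟨88, [], [7, 7, 2]⟩, ⟨57, [28, 33, 32], [7, 2, 2, 2, 7, 3, 6, 3, 3, 7, 7, 2, 2]⟩, ⟨87, [39, 35, 35], [3, 7, 3, 6, 2, 7, 2, 6, 2, 2, 7]⟩], [39, 37]⟩,
    ⟨[2, 2, 2, 7], 395, [⟨88, [], [2, 2, 2, 7]⟩, ⟨53, [27, 31], [6, 6, 3, 3, 7, 2, 2, 7, 3, 3, 7]⟩, ⟨45, [15, 26, 20], [3, 3, 6, 3, 7, 2, 6, 2, 7]⟩], [36, 36, 39, 40, 40]⟩,
    ⟨[3, 3, 6, 3], 464, [⟨88, [], [3, 3, 6, 3]⟩, ⟨57, [33, 31], [6, 2, 7, 3, 6, 6, 3, 6, 2, 7, 7, 3]⟩, ⟨91, [35, 39, 37], [6, 3, 7, 3, 3, 6, 2, 2, 6, 2]⟩], [40, 40, 39]⟩,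
    ⟨[3, 3, 6, 2], 463, [⟨88, [], [3, 3, 6, 2]⟩, ⟨54, [29], [6, 3, 3, 7, 3, 3, 7, 2, 2, 6, 6]⟩, ⟨91, [40, 38], [7, 3, 6, 2, 2, 7, 7, 3, 3, 6]⟩], [39]⟩,
    ⟨[6, 6, 3, 6], 998, [⟨88, [], [6, 6, 3, 6]⟩, ⟨60, [33, 32, 31, 27], [7, 3, 3, 6, 2, 7, 3, 6, 6, 2, 2, 7, 2]⟩, ⟨90, [39, 36, 35], [7, 3, 3, 7, 2, 2, 6, 2, 2, 6, 3, 7]⟩], [40, 38, 36, 35]⟩,
    ⟨[6, 6, 3, 7], 996, [⟨88, [], [6, 6, 3, 7]⟩, ⟨59, [33, 27, 27], [2, 7, 7, 3, 6, 6, 3, 7, 7, 3]⟩, ⟨97, [52, 55, 55], [2, 7, 3, 3, 6, 3, 3, 6, 6, 2, 2]⟩], [36, 39, 35]⟩,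
    ⟨[7, 7, 7, 2], 282, [⟨88, [], [7, 7, 7, 2]⟩, ⟨60, [34, 29, 30, 30], [3, 6, 2, 2, 7, 2, 6, 2, 2, 6, 3, 6, 2, 7]⟩, ⟨87, [38, 36, 36], [2, 7, 7, 2, 6, 3, 6, 2, 7, 3, 3, 7]⟩], [36, 36, 38, 40]⟩,
    ⟨[2, 2, 7, 2], 373, [⟨88, [], [2, 2, 7, 2]⟩, ⟨59, [34, 27, 27], [3, 7, 2, 2, 7, 2, 2, 6, 2, 7, 2, 6]⟩, ⟨95, [55, 52, 54, 54, 52], [3, 6, 2, 7, 7, 2, 6, 2, 7, 2, 7, 7, 2]⟩], [39, 39, 35]⟩,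
    ⟨[7, 7, 2, 7], 869, [⟨88, [], [7, 7, 2, 7]⟩, ⟨59, [33, 32, 27, 27], [7, 3, 3, 7, 7, 2, 2, 7, 3, 6, 2, 7, 7]⟩, ⟨95, [54, 52, 54], [3, 3, 7, 3, 6, 2, 2, 7, 3, 3, 7]⟩], [38, 37, 39, 35]⟩,
    ⟨[2, 2, 2, 6, 3], 711, [⟨88, [], [2, 2, 2, 6, 3]⟩, ⟨57, [29, 32, 34], [7, 7, 7, 2, 2, 6, 6, 3, 3, 7, 3]⟩, ⟨85, [37, 35], [6, 3, 6, 6, 3, 7, 3, 6, 3, 3, 7]⟩], [36, 36, 38]⟩,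
    ⟨[2, 2, 7, 3, 6, 2], 317, [⟨88, [], [2, 2, 7, 3, 6, 2]⟩, ⟨49, [], [2, 6, 6, 3, 6, 2, 7, 3, 3, 6, 2, 2]⟩, ⟨18, [13, 10], [7, 2, 6, 3, 6, 2, 7, 2, 2, 6, 3, 6, 2, 7, 2]⟩], [38, 38, 36, 35]⟩,
    ⟨[7, 7, 2, 6, 3, 7], 452, [⟨88, [], [7, 7, 2, 6, 3, 7]⟩, ⟨58, [27, 27], [6, 2, 2, 7, 2, 2, 6, 2, 7, 2, 7]⟩, ⟨60, [34, 27], [7, 3, 6, 2, 2, 2, 7, 7, 2, 6, 3, 6]⟩], [40, 39]⟩,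
    ⟨[2, 2, 7, 3, 6, 2, 2], 162, [⟨88, [], [2, 2, 7, 3, 6, 2, 2]⟩, ⟨49, [31, 28], [2, 7, 3, 3, 6, 3, 7, 2, 2, 6, 2, 2]⟩, ⟨22, [17, 5, 9, 18, 9], [3, 3, 6, 6, 2, 7, 7, 2, 2, 7, 2]⟩], [38, 40, 38, 35]⟩,
    ⟨[3, 3, 6, 2, 7, 3, 6, 3], 632, [⟨88, [], [3, 3, 6, 2, 7, 3, 6, 3]⟩, ⟨58, [], [3, 3, 6, 2, 7, 3, 6]⟩, ⟨55, [32], [7, 7, 7, 3, 6, 2, 7, 7, 7, 3, 3]⟩], [37, 35, 37]⟩],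
   [([0], [7]), ([0], [24]), ([0], [16]), ([0], [61]), ([0], [42]), ([0], [227]), ([0], [127]), ([0], [145]), ([0], [132]), ([0], [179]), ([0], [126]), ([0], [395]), ([0], [464]), ([0], [463]), ([0], [998]), ([0], [996]), ([0], [282]), ([0], [373]), ([0], [869]), ([0], [711])]⟩]
theorem c_r0_23 : relAll tab 83 1408 HNU.base HNU.ph HNU.phI st rel0 3 om0 es23 cs23 rs0_23 = true := by decide +kernel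
def rs0_24 : List RE := [
  ⟨[⟨[], 3, [⟨89, [], []⟩, ⟨84, [38, 37], [2, 7, 3, 3, 6, 2, 7, 3, 6, 6, 3, 7, 7, 2, 2]⟩, ⟨52, [27, 32], [7, 3, 6, 3, 3, 6, 3, 7, 3]⟩], [40, 36, 38, 38]⟩,
    ⟨[3], 8, [⟨89, [], [3]⟩, ⟨74, [], [6, 3, 6, 2, 7, 7, 3, 6]⟩, ⟨22, [17, 5, 10, 13], [3, 7, 7, 2, 6, 6, 3, 7, 2, 2, 6]⟩], [40, 38, 38, 35]⟩,
    ⟨[6], 28, [⟨89, [], [6]⟩, ⟨87, [39, 40, 36, 35], [2, 6, 6, 3, 7, 7, 2, 2, 7, 7, 3, 6, 2]⟩, ⟨90, [40, 38], [2, 2, 7, 7, 3, 3, 6, 3, 3, 7, 3]⟩], [37, 38, 40, 40]⟩,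
    ⟨[7], 24, [⟨89, [], [7]⟩, ⟨78, [37, 40, 40], [2, 6, 3, 7, 7, 2, 6, 3, 3, 6, 6]⟩, ⟨45, [26, 21, 23, 20], [7, 2, 7, 2, 6, 3, 7, 2, 7, 7, 7]⟩], [37, 39, 40, 36, 35]⟩,
    ⟨[3, 3], 20, [⟨89, [], [3, 3]⟩, ⟨87, [39, 37, 40], [7, 2, 7, 3, 6, 2, 2, 2, 7, 3]⟩, ⟨87, [36, 38, 40], [2, 6, 2, 2, 6, 3, 3, 6, 6, 3, 6]⟩], [39, 40]⟩,
    ⟨[6, 6], 69, [⟨89, [], [6, 6]⟩, ⟨88, [40, 38, 36], [3, 7, 3, 3, 7, 3, 3, 7, 2, 7]⟩, ⟨60, [32, 34], [2, 7, 7, 3, 6, 2, 2, 2, 7, 2]⟩], [37, 35, 38, 35]⟩,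
    ⟨[7, 7], 61, [⟨89, [], [7, 7]⟩, ⟨87, [38, 35, 35], [2, 7, 2, 7, 3, 6, 6, 3, 7, 7, 2, 6, 6]⟩, ⟨85, [40], [2, 6, 6, 3, 7, 3, 6, 3, 3, 7, 2, 2]⟩], [35, 39]⟩,
    ⟨[3, 3, 6], 227, [⟨89, [], [3, 3, 6]⟩, ⟨83, [36, 35, 35], [3, 7, 7, 3, 6, 6, 3, 6, 2, 7, 3, 3, 6]⟩, ⟨60, [31, 31, 33], [7, 7, 7, 2, 2, 7, 3, 6, 2, 7, 7, 2]⟩], [38, 40, 38, 38, 35]⟩,
    ⟨[6, 6, 3], 145, [⟨89, [], [6, 6, 3]⟩, ⟨90, [35, 39, 40], [3, 6, 6, 2, 7, 7, 2, 6, 6, 2, 2, 2, 6, 2]⟩, ⟨87, [39, 40, 36, 35], [6, 6, 2, 7, 7, 3, 6, 6, 3, 6]⟩], [39, 36, 40]⟩,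
    ⟨[7, 7, 7], 132, [⟨89, [], [7, 7, 7]⟩, ⟨84, [39, 36, 40, 36, 40], [7, 3, 6, 2, 7, 7, 2, 2, 6]⟩, ⟨55, [34, 34], [6, 3, 3, 7, 2, 2, 7, 2, 7, 7, 2, 6]⟩], [37, 39, 37, 38]⟩,
    ⟨[2, 2, 7], 179, [⟨89, [], [2, 2, 7]⟩, ⟨85, [37], [7, 2, 2, 6, 6, 3, 7, 2, 6, 3, 6, 6]⟩, ⟨87, [40, 38, 35], [2, 2, 6, 3, 3, 7, 7, 3, 3]⟩], [36, 39, 40, 40]⟩,
    ⟨[2, 2, 2, 6], 398, [⟨89, [], [2, 2, 2, 6]⟩, ⟨72, [36, 35], [2, 2, 2, 6, 6, 3, 7, 3]⟩, ⟨60, [30, 28, 28], [2, 7, 2, 7, 7, 2, 7, 7, 3, 3, 6, 2, 7, 2]⟩], [36, 39, 40, 36]⟩,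
    ⟨[2, 2, 2, 7], 395, [⟨89, [], [2, 2, 2, 7]⟩, ⟨91, [39, 37], [7, 7, 2, 6, 6, 2, 2, 7, 2, 2, 2]⟩, ⟨90, [36, 36, 38, 40], [2, 2, 7, 2, 6, 3, 7, 7, 7, 3, 6, 2, 7]⟩], [35, 37, 39, 40]⟩,
    ⟨[3, 3, 6, 3], 464, [⟨89, [], [3, 3, 6, 3]⟩, ⟨87, [38, 40], [6, 6, 2, 2, 7, 3, 3, 6, 6, 2, 2, 7]⟩, ⟨81, [40], [3, 3, 6, 2, 7, 2, 6, 2, 2, 6, 2]⟩], [39, 39, 37]⟩,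
    ⟨[3, 3, 6, 6], 377, [⟨89, [], [3, 3, 6, 6]⟩, ⟨77, [37], [3, 6, 6, 3, 6, 2, 7, 2, 6, 6, 3, 7]⟩, ⟨91, [39, 37, 40], [7, 3, 3, 6, 3, 3, 7, 3, 6, 2, 2, 7, 7, 2]⟩], [38, 38, 38, 35]⟩,
    ⟨[6, 6, 3, 6], 998, [⟨89, [], [6, 6, 3, 6]⟩, ⟨91, [38, 35], [3, 7, 2, 2, 6, 3, 6, 6, 3, 7, 7, 3]⟩, ⟨77, [39, 39, 35], [2, 6, 3, 7, 2, 2, 7, 3, 6, 2, 7, 7, 2, 2]⟩], [38, 40, 38, 38, 35]⟩,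
    ⟨[6, 6, 3, 7], 996, [⟨89, [], [6, 6, 3, 7]⟩, ⟨77, [37, 40, 40], [6, 2, 2, 6, 2, 7, 3, 3, 7, 3, 6, 2, 7]⟩, ⟨85, [38, 37, 35, 38], [2, 7, 7, 2, 6, 6, 3, 6, 6, 3, 7, 7, 3]⟩], [38, 36, 36, 40]⟩,
    ⟨[7, 7, 7, 3], 283, [⟨89, [], [7, 7, 7, 3]⟩, ⟨82, [40, 40], [3, 7, 3, 6, 2, 7, 7, 3, 3, 7]⟩, ⟨94, [56, 55, 56, 55, 53, 54], [7, 2, 6, 3, 6, 2, 7, 2, 2, 2]⟩], [39, 35]⟩,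
    ⟨[2, 2, 7, 3], 374, [⟨89, [], [2, 2, 7, 3]⟩, ⟨89, [37, 39], [6, 6, 3, 7, 7, 7, 2, 7, 7, 2, 6, 3]⟩, ⟨87, [38, 37], [3, 7, 2, 7, 3, 6, 2, 7, 2, 2, 6]⟩], [35, 38, 35]⟩,
    ⟨[7, 7, 2, 6], 872, [⟨89, [], [7, 7, 2, 6]⟩, ⟨84, [36, 39, 40, 36], [3, 7, 2, 6, 3, 3, 7, 2, 2, 7, 7, 2]⟩, ⟨57, [30, 33, 31], [3, 6, 2, 7, 7, 2, 2, 6, 6, 3]⟩], [37, 39, 40, 40]⟩,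
    ⟨[7, 7, 2, 7], 869, [⟨89, [], [7, 7, 2, 7]⟩, ⟨87, [38, 37], [7, 3, 6, 2, 2, 7, 2, 6, 3, 6, 6, 2]⟩, ⟨89, [35, 38, 35], [6, 3, 7, 3, 3, 7, 7, 2, 6]⟩], [37, 39]⟩,
    ⟨[2, 2, 2, 6, 3], 711, [⟨89, [], [2, 2, 2, 6, 3]⟩, ⟨86, [36, 39], [3, 3, 6, 3, 3, 6, 2, 7, 3, 6, 3, 3, 6, 6]⟩, ⟨97, [55, 56, 55, 56, 55, 53], [6, 2, 7, 2, 6, 6, 2, 2, 7, 2, 7, 7, 3, 3]⟩], [38, 38, 35, 38, 40]⟩,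
    ⟨[2, 2, 2, 7, 3], 704, [⟨89, [], [2, 2, 2, 7, 3]⟩, ⟨85, [39, 36, 38, 35], [3, 6, 3, 3, 6, 3, 3, 7, 2, 7, 3, 6, 3]⟩, ⟨77, [40], [6, 2, 2, 6, 3, 3, 7, 2, 2, 6, 6, 3]⟩], [35, 37, 39, 40]⟩,
    ⟨[3, 3, 6, 2, 7], 516, [⟨89, [], [3, 3, 6, 2, 7]⟩, ⟨90, [36, 39, 35], [2, 7, 2, 6, 6, 3, 3, 7, 3, 6, 2, 2, 7]⟩, ⟨85, [39, 36, 39, 35], [3, 3, 6, 2, 2, 2, 7, 7, 2, 7, 3, 6]⟩], [39, 36, 36]⟩,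
    ⟨[2, 2, 7, 3, 6], 596, [⟨89, [], [2, 2, 7, 3, 6]⟩, ⟨75, [40, 40], [3, 6, 6, 3, 6, 2, 2, 7, 7, 2, 2]⟩, ⟨92, [42, 49, 42, 50, 41], [7, 2, 2, 7, 2, 2, 6, 3, 3, 7, 7]⟩], [39, 35, 35, 38]⟩,
    ⟨[3, 3, 6, 2, 7, 3], 269, [⟨89, [], [3, 3, 6, 2, 7, 3]⟩, ⟨90, [36, 39, 40], [2, 7, 7, 3, 3, 7, 7, 2]⟩, ⟨91, [36, 38, 35], [6, 2, 7, 3, 3, 6, 3, 3, 7, 7, 7, 2]⟩], [38, 36, 36, 35, 35]⟩,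
    ⟨[6, 6, 3, 7, 2, 6], 361, [⟨89, [], [6, 6, 3, 7, 2, 6]⟩, ⟨76, [36, 38, 38], [2, 6, 2, 7, 2, 6, 2, 2, 6, 3, 3]⟩, ⟨94, [53, 55, 56, 55], [2, 6, 2, 7, 2, 2, 7, 3, 3, 6, 2]⟩], [39, 40, 40]⟩,
    ⟨[7, 7, 2, 6, 3, 7], 452, [⟨89, [], [7, 7, 2, 6, 3, 7]⟩, ⟨73, [], [3, 7, 2, 6, 2, 2, 6, 3, 3, 7, 7, 2, 7]⟩, ⟨87, [40, 39], [2, 6, 3, 7, 3, 3, 6, 2, 2, 6, 2]⟩], [36, 36, 39]⟩,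
    ⟨[3, 3, 6, 2, 7, 3, 3], 165, [⟨89, [], [3, 3, 6, 2, 7, 3, 3]⟩, ⟨76, [35, 35], [2, 2, 6, 2, 7, 2, 6, 6, 3, 3, 7, 7, 3]⟩, ⟨95, [52, 54, 53, 54, 56], [2, 2, 6, 3, 3, 7, 2, 2, 7, 3, 3, 7]⟩], [36, 36, 40, 40]⟩,
    ⟨[3, 3, 6, 2, 7, 3, 6], 536, [⟨89, [], [3, 3, 6, 2, 7, 3, 6]⟩, ⟨85, [39, 39, 37], [7, 2, 6, 2, 7, 3, 3, 6, 3, 7, 2]⟩, ⟨90, [37, 39], [7, 7, 2, 2, 7, 3, 6, 3, 3]⟩], [38, 38, 35, 38]⟩],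
   [([0], [3]), ([0], [8]), ([0], [28]), ([0], [20]), ([0], [69]), ([0], [61]), ([0], [227]), ([0], [145]), ([0], [132]), ([0], [179]), ([0], [398]), ([0], [395]), ([0], [996]), ([0], [872]), ([0], [711]), ([0], [704]), ([0], [516]), ([0], [269]), ([0], [361]), ([0], [536])]⟩,
  ⟨[⟨[], 3, [⟨90, [], []⟩, ⟨74, [], [3, 7, 2, 6, 3, 3, 7, 3, 3]⟩, ⟨22, [9, 5, 9, 13], [2, 6, 6, 3, 3, 7, 2, 2, 6, 6]⟩], [35]⟩,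
    ⟨[3], 8, [⟨90, [], [3]⟩, ⟨84, [38, 37], [7, 7, 3, 3, 6, 3, 7, 2, 2, 6, 2, 2]⟩, ⟨52, [32, 29, 27], [2, 7, 2, 2, 6, 6, 3, 7, 7, 2, 2, 7, 2, 2]⟩], [40, 36, 35]⟩,
    ⟨[6], 28, [⟨90, [], [6]⟩, ⟨87, [39, 40, 36, 35], [7, 7, 2, 6, 6, 3, 3, 6, 6, 2, 2, 7, 7]⟩, ⟨89, [40, 39, 35], [3, 6, 3, 7, 2, 6, 2, 2, 6, 3, 7, 2, 7]⟩], [39, 37]⟩,
    ⟨[7], 24, [⟨90, [], [7]⟩, ⟨76, [40, 38, 38], [6, 3, 3, 7, 3, 6, 2, 2, 7, 7, 2, 2, 6, 2]⟩, ⟨95, [54, 56, 54, 52, 54], [7, 2, 6, 6, 3, 3, 7, 3, 6, 2, 2]⟩], [39, 40, 38, 35]⟩,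
    ⟨[3, 3], 20, [⟨90, [], [3, 3]⟩, ⟨89, [39, 36, 36], [2, 6, 3, 7, 2, 7, 7, 7, 2, 7, 7, 2, 7, 2, 2]⟩, ⟨91, [35, 39, 40], [6, 2, 7, 2, 6, 3, 6, 6, 3, 7, 2, 7, 3]⟩], [36, 36, 38, 40]⟩,
    ⟨[6, 6], 69, [⟨90, [], [6, 6]⟩, ⟨91, [37, 39, 35], [2, 6, 3, 7, 7, 2, 6, 3, 7, 3, 6]⟩, ⟨85, [35, 39, 39, 40], [7, 7, 2, 7, 3, 3, 7, 3, 6]⟩], [36, 39, 40, 40]⟩,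
    ⟨[7, 7], 61, [⟨90, [], [7, 7]⟩, ⟨88, [38, 40], [3, 6, 3, 3, 7, 7, 7, 2, 7, 7]⟩, ⟨60, [33, 32, 31, 27], [2, 2, 6, 2, 2, 6, 3, 3, 7, 3, 6, 2]⟩], [36, 36, 38, 35]⟩,
    ⟨[3, 3, 6], 227, [⟨90, [], [3, 3, 6]⟩, ⟨77, [38, 38, 35], [2, 7, 3, 3, 6, 3, 7, 3, 3, 6, 2]⟩, ⟨85, [38, 38, 35, 35], [3, 6, 2, 2, 2, 6, 2, 7, 2, 2, 6, 6, 3, 7, 2]⟩], [37, 39, 40, 36, 35]⟩,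
    ⟨[6, 6, 3], 145, [⟨90, [], [6, 6, 3]⟩, ⟨91, [38, 36, 35, 35], [3, 3, 7, 7, 2, 7, 7, 3, 3, 6, 2, 7, 3]⟩, ⟨91, [37, 38], [3, 3, 7, 3, 3, 6, 6, 2, 7, 2, 2, 6, 2, 7]⟩], [35, 39, 40]⟩,
    ⟨[7, 7, 7], 132, [⟨90, [], [7, 7, 7]⟩, ⟨84, [37, 38, 35], [6, 2, 2, 7, 2, 6, 3, 3, 7, 2, 2, 2]⟩, ⟨55, [32, 29, 30], [3, 7, 3, 3, 7, 2, 7, 7, 3, 3, 7]⟩], [36, 39, 35, 38, 40]⟩,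
    ⟨[2, 2, 7], 179, [⟨90, [], [2, 2, 7]⟩, ⟨85, [37, 40], [6, 6, 2, 7, 2, 6, 3, 6, 2, 7, 2]⟩, ⟨91, [38, 38, 38, 35], [7, 3, 3, 7, 2, 2, 6, 3, 3, 6, 3]⟩], [36, 38, 40]⟩,
    ⟨[2, 2, 2, 6], 398, [⟨90, [], [2, 2, 2, 6]⟩, ⟨89, [36, 39, 40], [7, 3, 6, 6, 3, 3, 7, 7, 3, 3, 6, 2, 2]⟩, ⟨85, [39, 39, 37], [7, 7, 7, 3, 3, 6, 2, 7, 2, 2, 6, 2, 2]⟩], [38, 37, 35, 37]⟩,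
    ⟨[2, 2, 2, 7], 395, [⟨90, [], [2, 2, 2, 7]⟩, ⟨91, [40, 36, 39, 35], [2, 2, 7, 3, 3, 6, 2, 2, 6, 2, 2, 2, 6]⟩, ⟨89, [39, 36, 36], [3, 7, 7, 2, 6, 3, 3, 7, 3, 6, 3, 7, 7]⟩], [37, 38, 35, 35]⟩,
    ⟨[3, 3, 6, 3], 464, [⟨90, [], [3, 3, 6, 3]⟩, ⟨75, [40], [2, 7, 2, 6, 2, 2, 2, 7, 7]⟩, ⟨92, [50, 44, 48, 49, 48], [3, 6, 3, 3, 6, 2, 7, 2, 2, 6]⟩], [39, 35, 39, 35]⟩,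
    ⟨[3, 3, 6, 6], 377, [⟨90, [], [3, 3, 6, 6]⟩, ⟨77, [39, 35, 39], [7, 3, 6, 3, 7, 2, 2, 7, 7, 3]⟩, ⟨87, [39, 35], [6, 2, 2, 6, 6, 3, 6, 6, 3, 7, 7, 2, 7]⟩], [38, 36, 36, 35]⟩,
    ⟨[6, 6, 3, 6], 998, [⟨90, [], [6, 6, 3, 6]⟩, ⟨82, [36, 36, 35, 35], [7, 7, 3, 3, 6, 3, 3, 6, 2, 2, 7, 7, 7]⟩, ⟨94, [54, 54, 54, 54, 54, 53], [7, 3, 3, 6, 3, 3, 6, 2, 2, 6]⟩], [36, 36, 39]⟩,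
    ⟨[6, 6, 3, 7], 996, [⟨90, [], [6, 6, 3, 7]⟩, ⟨83, [38, 36, 39], [7, 2, 7, 7, 2, 6, 2, 2, 7, 7, 3, 3, 6]⟩, ⟨60, [33, 27], [6, 6, 3, 6, 6, 2, 2, 6, 6, 3, 6, 6]⟩], [40, 39]⟩,
    ⟨[7, 7, 7, 3], 283, [⟨90, [], [7, 7, 7, 3]⟩, ⟨87, [40, 38], [3, 6, 2, 7, 2, 2, 6, 2, 2, 2, 7, 7]⟩, ⟨77, [37, 35, 37], [3, 6, 6, 3, 6, 2, 7, 7, 2, 2, 2, 7, 2]⟩], [36, 38, 36, 35]⟩,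
    ⟨[2, 2, 7, 3], 374, [⟨90, [], [2, 2, 7, 3]⟩, ⟨73, [40, 40], [3, 3, 6, 3, 7, 2, 6, 2, 2, 2, 6, 2, 7]⟩, ⟨91, [40, 36, 39, 35, 35], [7, 2, 6, 3, 7, 3, 3, 7, 7, 2, 6, 6]⟩], [37, 39]⟩,
    ⟨[7, 7, 2, 6], 872, [⟨90, [], [7, 7, 2, 6]⟩, ⟨86, [38, 36, 36, 40], [2, 7, 7, 2, 6, 6, 2]⟩, ⟨97, [56, 54, 56, 54, 53, 54], [6, 6, 3, 7, 2, 7, 2, 6, 2, 2, 2, 6, 2]⟩], [40, 38, 36]⟩,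
    ⟨[7, 7, 2, 7], 869, [⟨90, [], [7, 7, 2, 7]⟩, ⟨91, [35, 39, 40], [6, 2, 2, 2, 6, 3, 3, 7, 2, 6, 2, 2, 7]⟩, ⟨90, [38, 40], [2, 6, 3, 3, 7, 2, 6, 3, 6, 2, 7, 3]⟩], [35, 35, 38, 35]⟩,
    ⟨[2, 2, 2, 6, 3], 711, [⟨90, [], [2, 2, 2, 6, 3]⟩, ⟨84, [40, 36, 39], [2, 2, 6, 2, 7, 2, 6, 6, 3, 3, 7, 7]⟩, ⟨57, [29, 34, 29], [7, 2, 2, 6, 3, 3, 6, 2, 7, 2, 2]⟩], [40, 39, 35]⟩,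
    ⟨[2, 2, 2, 7, 3], 704, [⟨90, [], [2, 2, 2, 7, 3]⟩, ⟨76, [35], [3, 3, 7, 7, 3, 3, 6, 3, 3, 6, 3]⟩, ⟨94, [54, 56, 54, 53, 55], [6, 2, 7, 2, 2, 7, 2, 6, 3, 3, 6, 2]⟩], [39, 36, 36]⟩,
    ⟨[3, 3, 6, 2, 7], 516, [⟨90, [], [3, 3, 6, 2, 7]⟩, ⟨72, [37], [2, 6, 6, 3, 7, 2, 6, 3, 7, 2, 7, 3]⟩, ⟨60, [28, 29], [7, 2, 2, 2, 7, 2, 2, 2, 6]⟩], [35, 39, 35]⟩,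
    ⟨[2, 2, 7, 3, 6], 596, [⟨90, [], [2, 2, 7, 3, 6]⟩, ⟨91, [38, 40], [2, 7, 3, 3, 6, 3, 7, 2, 2, 7, 2, 7]⟩, ⟨81, [], [3, 7, 2, 2, 7, 3, 3, 6, 6, 3, 7, 2, 7]⟩], [36, 35, 35]⟩,
    ⟨[3, 3, 6, 2, 7, 3], 269, [⟨90, [], [3, 3, 6, 2, 7, 3]⟩, ⟨89, [39, 35], [6, 6, 3, 3, 6, 3, 3, 7, 7, 7, 3]⟩, ⟨87, [39, 40], [2, 6, 6, 3, 3, 6, 2, 2, 6, 2, 2, 6, 6]⟩], [40, 38]⟩,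
    ⟨[6, 6, 3, 7, 2, 6], 361, [⟨90, [], [6, 6, 3, 7, 2, 6]⟩, ⟨85, [38, 37, 38, 40], [7, 7, 2, 2, 2, 6, 3, 3, 6, 2, 2, 7]⟩, ⟨77, [40, 36], [2, 6, 2, 7, 2, 7, 3, 6, 6, 2, 2]⟩], [38, 38, 38, 35]⟩,
    ⟨[7, 7, 2, 6, 3, 7], 452, [⟨90, [], [7, 7, 2, 6, 3, 7]⟩, ⟨90, [35, 35, 38, 35], [3, 6, 3, 7, 2, 7, 3, 3, 7, 3, 3, 6]⟩, ⟨91, [35, 39, 40], [7, 2, 2, 2, 7, 7, 7, 3]⟩], [38, 40]⟩,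
    ⟨[3, 3, 6, 2, 7, 3, 3], 165, [⟨90, [], [3, 3, 6, 2, 7, 3, 3]⟩, ⟨78, [39, 35, 39], [7, 2, 2, 2, 7, 3, 6, 2, 2, 7, 7, 3]⟩, ⟨45, [26, 20, 15], [3, 6, 3, 3, 7, 7, 2, 7, 3, 6, 2, 2, 7, 3]⟩], [38, 40, 38, 38, 35]⟩,
    ⟨[3, 3, 6, 2, 7, 3, 6], 536, [⟨90, [], [3, 3, 6, 2, 7, 3, 6]⟩, ⟨85, [39, 40, 39, 35], [7, 2, 7, 3, 6, 2, 7, 7, 2, 7, 2, 6, 2]⟩, ⟨89, [39, 36, 36], [3, 7, 7, 2, 6, 3, 7, 3, 3, 7, 7, 2, 6, 6]⟩], [38, 40, 40]⟩],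
   [([0], [3]), ([0], [8]), ([0], [28]), ([0], [20]), ([0], [69]), ([0], [61]), ([0], [227]), ([0], [145]), ([0], [132]), ([0], [179]), ([0], [398]), ([0], [395]), ([0], [996]), ([0], [872]), ([0], [711]), ([0], [704]), ([0], [516]), ([0], [269]), ([0], [361]), ([0], [536])]⟩]
theorem c_r0_24 : relAll tab 83 1408 HNU.base HNU.ph HNU.phI st rel0 3 om0 es24 cs24 rs0_24 = true := by decide +kernel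
def rs0_25 : List RE := [
  ⟨[⟨[], 3, [⟨91, [], []⟩, ⟨88, [37, 35, 38], [6, 6, 3, 6, 2, 7, 7, 7, 3]⟩, ⟨54, [32], [3, 7, 3, 3, 7, 3, 6, 2, 7, 7, 3, 3]⟩], [39, 40, 36, 40]⟩,
    ⟨[3], 8, [⟨91, [], [3]⟩, ⟨90, [39, 37], [3, 6, 2, 2, 6, 3, 3, 7, 2, 2, 7, 2, 7]⟩, ⟨91, [38, 36, 35, 35], [3, 7, 2, 2, 7, 3, 3, 7, 2, 2, 6, 3, 7]⟩], [39, 40, 40]⟩,
    ⟨[6], 28, [⟨91, [], [6]⟩, ⟨91, [39, 40, 36], [2, 2, 7, 7, 3, 3, 7, 7, 2, 6, 6, 3, 3]⟩, ⟨90, [39, 37], [6, 6, 3, 3, 7, 7, 2, 6, 3, 3, 7]⟩], [36, 36, 38, 40]⟩,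
    ⟨[7], 24, [⟨91, [], [7]⟩, ⟨91, [39, 36], [6, 6, 2, 7, 7, 3, 6, 2, 7, 2, 7]⟩, ⟨69, [40], [7, 7, 3, 6, 6, 3, 7, 2, 6, 3, 3, 7, 7, 7]⟩], [35, 38, 40]⟩,
    ⟨[3, 3], 20, [⟨91, [], [3, 3]⟩, ⟨90, [37, 39], [6, 2, 7, 3, 6, 6, 2, 7, 7, 3, 3, 7, 2]⟩, ⟨73, [40, 40], [3, 3, 6, 2, 7, 7, 2, 6, 2, 2]⟩], [40, 36, 39, 35, 35]⟩,
    ⟨[3, 6], 57, [⟨91, [], [3, 6]⟩, ⟨69, [37], [2, 6, 3, 6, 6, 2, 7, 7, 3, 3, 7, 7, 2]⟩, ⟨91, [38, 36, 35, 35], [7, 7, 2, 6, 6, 2, 7, 7, 3, 6, 3, 3, 6]⟩], [36, 39]⟩,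
    ⟨[6, 6], 69, [⟨91, [], [6, 6]⟩, ⟨86, [40, 39], [3, 7, 7, 2, 6, 3, 7, 2, 2, 7, 3, 3, 6]⟩, ⟨95, [52, 55, 55, 53, 54, 52], [7, 3, 6, 2, 7, 7, 2, 7, 2]⟩], [37, 39, 39]⟩,
    ⟨[2, 2], 16, [⟨91, [], [2, 2]⟩, ⟨89, [36, 39, 35, 35], [6, 2, 2, 6, 2, 7, 2, 2, 6, 3, 7, 2, 2]⟩, ⟨77, [37], [2, 2, 2, 6, 6, 3, 3, 7, 3, 6, 3]⟩], [38, 38, 35, 38, 40]⟩,
    ⟨[2, 2, 2], 42, [⟨91, [], [2, 2, 2]⟩, ⟨84, [35, 37, 39], [6, 2, 7, 7, 2, 6, 3, 7, 2, 2, 6, 2, 7]⟩, ⟨57, [33, 32], [3, 6, 6, 3, 6, 2, 7, 3]⟩], [39, 40, 40]⟩,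
    ⟨[3, 3, 6], 227, [⟨91, [], [3, 3, 6]⟩, ⟨86, [35, 37, 38], [3, 7, 3, 3, 7, 3, 3, 7, 2, 2, 7, 7]⟩, ⟨97, [55, 55], [2, 7, 7, 2, 6, 2, 2, 7, 7, 2, 7, 3]⟩], [38]⟩,
    ⟨[6, 6, 3], 145, [⟨91, [], [6, 6, 3]⟩, ⟨90, [38, 40], [7, 3, 6, 6, 2, 7, 3, 6, 2]⟩, ⟨90, [35, 35, 38, 35], [6, 2, 7, 2, 2, 7, 2, 6, 3, 3, 6]⟩], [35, 39, 40]⟩,
    ⟨[7, 7, 7], 132, [⟨91, [], [7, 7, 7]⟩, ⟨77, [39, 39, 35], [7, 2, 2, 7, 2, 6, 6, 3, 7, 7, 2, 7]⟩, ⟨89, [40, 38, 36], [2, 2, 2, 7, 3, 3, 6, 2, 7, 3, 6, 6, 2]⟩], [40, 36, 39]⟩,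
    ⟨[2, 2, 7], 179, [⟨91, [], [2, 2, 7]⟩, ⟨89, [37, 38], [6, 2, 7, 7, 2, 7, 3, 6, 2, 7]⟩, ⟨90, [36, 38, 36], [2, 7, 2, 2, 7, 3, 6, 6, 2, 2, 7]⟩], [36, 38, 35]⟩,
    ⟨[7, 7, 2], 126, [⟨91, [], [7, 7, 2]⟩, ⟨87, [38, 37], [2, 6, 2, 2, 7, 2, 6, 2, 7, 7, 2]⟩, ⟨70, [40, 40], [7, 7, 7, 2, 2, 7, 3, 3, 7, 2, 2, 2, 6, 2]⟩], [39, 36, 38, 35]⟩,
    ⟨[2, 2, 2, 6], 398, [⟨91, [], [2, 2, 2, 6]⟩, ⟨86, [36, 36, 39], [7, 7, 3, 6, 3, 7, 7, 2, 7, 7, 2, 7, 2]⟩, ⟨97, [55, 52, 54, 52, 55], [2, 7, 2, 7, 3]⟩], [39, 35]⟩,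
    ⟨[2, 2, 2, 7], 395, [⟨91, [], [2, 2, 2, 7]⟩, ⟨90, [38, 36, 35, 35], [3, 3, 6, 6, 2, 2, 6, 6, 2, 2, 7, 7, 2, 2]⟩, ⟨89, [39, 36, 36], [2, 7, 2, 2, 6, 3, 3, 6, 2, 2, 7]⟩], [37, 39, 40]⟩,
    ⟨[3, 3, 6, 3], 464, [⟨91, [], [3, 3, 6, 3]⟩, ⟨91, [37, 35, 38], [2, 7, 2, 2, 7, 7, 3, 6]⟩, ⟨91, [38, 37], [7, 3, 6, 3, 7, 3, 3, 6, 2, 2, 2]⟩], [40, 40, 39]⟩,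
    ⟨[3, 3, 6, 6], 377, [⟨91, [], [3, 3, 6, 6]⟩, ⟨76, [35, 35], [7, 7, 2, 6, 3, 7, 2, 2, 2, 7]⟩, ⟨95, [52, 54, 56, 55, 53, 52], [2, 7, 7, 2, 7, 7, 2, 2, 2, 7]⟩], [38, 40, 39, 35]⟩,
    ⟨[3, 3, 6, 2], 463, [⟨91, [], [3, 3, 6, 2]⟩, ⟨85, [35, 39, 39, 40], [2, 2, 2, 6, 2, 2, 7, 3, 6, 3, 3, 6, 6, 2]⟩, ⟨90, [35, 38, 40], [2, 7, 3, 3, 7, 2, 2, 6, 3, 7, 2, 7, 2]⟩], [35, 39, 35]⟩,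
    ⟨[6, 6, 3, 6], 998, [⟨91, [], [6, 6, 3, 6]⟩, ⟨82, [37, 35, 37], [7, 2, 7, 2, 6, 2, 2, 6, 6, 3, 7, 2, 2]⟩, ⟨97, [52, 55, 55, 52, 54, 53], [3, 7, 7, 3, 3, 7, 3, 6, 3, 7, 2, 2, 2]⟩], [40, 36, 38, 35, 35]⟩,
    ⟨[6, 6, 3, 7], 996, [⟨91, [], [6, 6, 3, 7]⟩, ⟨88, [37, 39, 35], [7, 2, 7, 3, 6, 2, 7, 2, 6, 3, 7, 7, 2]⟩, ⟨60, [33, 33, 33, 28], [2, 7, 7, 2, 6, 3, 6, 2, 2, 2, 7]⟩], [40, 38, 36, 35]⟩,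
    ⟨[7, 7, 7, 3], 283, [⟨91, [], [7, 7, 7, 3]⟩, ⟨80, [36], [2, 7, 2, 6, 6, 3, 3, 6, 2, 2, 6, 3]⟩, ⟨57, [34, 29, 30, 30], [7, 2, 7, 7, 7, 2, 7, 7]⟩], [35, 37, 38, 35, 35]⟩,
    ⟨[2, 2, 7, 3], 374, [⟨91, [], [2, 2, 7, 3]⟩, ⟨88, [38, 37], [7, 7, 2, 6, 6, 3, 6, 6, 2, 2, 2]⟩, ⟨57, [33, 31], [7, 2, 2, 6, 3, 3, 6, 3, 3, 7, 7, 2, 7, 7, 2]⟩], [39, 36, 40, 36, 40]⟩,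
    ⟨[2, 2, 7, 2], 373, [⟨91, [], [2, 2, 7, 2]⟩, ⟨90, [40, 39, 40], [7, 7, 3, 6, 2, 7, 2, 7, 7, 3, 3, 6]⟩, ⟨85, [37, 40], [6, 2, 2, 7, 2, 2, 7, 3, 3, 6, 6, 3, 7, 2]⟩], [35, 37, 38, 40]⟩,
    ⟨[7, 7, 2, 6], 872, [⟨91, [], [7, 7, 2, 6]⟩, ⟨79, [38, 36], [7, 2, 6, 2, 2, 2, 6, 6, 3, 7, 2, 2]⟩, ⟨45, [20, 21, 15], [6, 3, 6, 2, 7, 2, 2, 7, 7, 2, 6]⟩], [36, 38, 40, 40]⟩,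
    ⟨[2, 2, 2, 6, 2], 710, [⟨91, [], [2, 2, 2, 6, 2]⟩, ⟨78, [35, 35], [3, 7, 2, 7, 2, 6, 2, 2, 7, 3, 6, 2, 7, 2]⟩, ⟨45, [20, 20, 15, 23], [3, 7, 2, 7, 3, 6, 3, 3, 6, 6, 2, 7, 2, 7]⟩], [38, 38, 35, 38, 40]⟩,
    ⟨[2, 2, 2, 7, 3], 704, [⟨91, [], [2, 2, 2, 7, 3]⟩, ⟨70, [37], [2, 2, 7, 2, 7, 3, 6, 6, 3, 7]⟩, ⟨87, [39, 37, 38], [2, 7, 2, 6, 3, 6, 2, 7, 7, 3, 3, 6, 3]⟩], [35, 39, 35]⟩,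
    ⟨[6, 6, 3, 7, 2], 655, [⟨91, [], [6, 6, 3, 7, 2]⟩, ⟨78, [], [2, 2, 7, 2, 7, 7, 2, 2, 2, 7, 2]⟩, ⟨43, [22, 15, 23], [2, 2, 6, 2, 7, 7, 3, 6, 2, 7, 7, 7]⟩], [37, 38]⟩,
    ⟨[3, 3, 6, 2, 7, 3, 6], 536, [⟨91, [], [3, 3, 6, 2, 7, 3, 6]⟩, ⟨81, [], [2, 2, 6, 3, 3, 6, 6, 2, 7, 7, 3]⟩, ⟨90, [36, 35, 35], [2, 7, 7, 3, 3, 6, 6, 3, 7, 7, 2]⟩], [38, 40]⟩,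
    ⟨[3, 3, 6, 2, 7, 3, 6, 3], 632, [⟨91, [], [3, 3, 6, 2, 7, 3, 6, 3]⟩, ⟨82, [35, 37], [2, 6, 6, 3, 7, 2, 7, 7, 2, 7, 3]⟩, ⟨94, [52, 54, 53, 54, 53], [3, 7, 7, 2, 7, 2, 2, 7, 7, 2, 2, 7]⟩], [39, 37]⟩],
   [([0], [3]), ([0], [8]), ([0], [28]), ([0], [24]), ([0], [57]), ([0], [69]), ([0], [42]), ([0], [227]), ([0], [179]), ([0], [398]), ([0], [395]), ([0], [464]), ([0], [463]), ([0], [998]), ([0], [996]), ([0], [283]), ([0], [374]), ([0], [373]), ([0], [872]), ([0], [655])]⟩,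
  ⟨[⟨[], 3, [⟨92, [], []⟩, ⟨64, [], [7, 7, 7, 2, 2, 6, 2, 2, 7, 3, 6]⟩, ⟨75, [37], []⟩], []⟩,
    ⟨[3], 8, [⟨92, [], [3]⟩, ⟨68, [38, 36, 39], [2, 7, 2, 2, 6, 6, 3, 6, 6, 2, 2, 7, 2]⟩, ⟨75, [37], [6, 3, 7, 7, 3, 6]⟩], [47, 43, 42, 47]⟩,
    ⟨[2], 7, [⟨92, [], [2]⟩, ⟨85, [36, 39, 35], [2, 7, 3, 6]⟩, ⟨75, [35], [6, 3, 6, 6, 3, 7, 7, 2, 6, 3, 7, 2, 7, 7, 2]⟩], [43, 49, 44, 41]⟩,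
    ⟨[3, 6], 57, [⟨92, [], [3, 6]⟩, ⟨77, [40, 39], [2, 7, 2, 2, 7, 7, 2, 6, 6, 3, 3, 7, 3, 3]⟩, ⟨75, [35], [3, 6, 2, 7, 3, 3, 6, 2, 7, 3, 6, 2]⟩], [42, 49, 43, 50, 47, 45]⟩,
    ⟨[2, 2], 16, [⟨92, [], [2, 2]⟩, ⟨90, [36, 40, 36], [2, 2, 7, 2, 6, 3, 3, 7, 7, 3]⟩, ⟨75, [40], [6, 6, 3, 3, 6, 3, 7, 2]⟩], [50, 44, 41, 49, 45]⟩,
    ⟨[7, 7], 61, [⟨92, [], [7, 7]⟩, ⟨89, [38, 35, 38], [3, 7, 7, 2, 7, 3, 6, 6, 2, 7, 3, 6]⟩, ⟨75, [40, 40], [2, 6, 3, 3, 7, 3, 6, 2, 2, 7, 7]⟩], [42, 49, 49, 45]⟩,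
    ⟨[2, 2, 7, 2], 373, [⟨92, [], [2, 2, 7, 2]⟩, ⟨75, [39], [2, 2, 7, 2, 6, 2, 2, 6, 3]⟩, ⟨93, [46, 49, 47], [2, 7, 7, 3, 3, 6, 2, 2, 7, 2, 6, 2, 2, 2]⟩], [42, 49, 49, 43, 44, 41]⟩,
    ⟨[2, 2, 7, 3, 6, 2, 2], 162, [⟨92, [], [2, 2, 7, 3, 6, 2, 2]⟩, ⟨70, [38, 35], [3, 6, 6, 3, 7, 7, 2, 6, 3, 7, 2, 2, 2, 7]⟩, ⟨75, [38, 35], [7, 7, 2, 6, 6, 2, 7, 7, 3, 6, 3, 7, 3]⟩], [45, 47, 42, 47]⟩],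
   [([0], [8]), ([0], [7]), ([1], [7]), ([0], [395, 282]), ([1], [395, 282]), ([0], [566, 24]), ([1], [317]), ([1], [655, 516]), ([0], [57]), ([1], [57]), ([0], [127]), ([1], [632, 127]), ([0], [16]), ([1], [16]), ([0], [42, 464]), ([1], [42, 464]), ([0], [377]), ([1], [377, 374]), ([0], [179]), ([1], [704]), ([0], [61]), ([1], [61]), ([0], [269, 1110]), ([1], [269, 1110]), ([0], [272, 283, 596]), ([1], [872]), ([0], [463]), ([0], [373]), ([0], [710]), ([1], [710])]⟩,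
  ⟨[⟨[], 3, [⟨93, [], []⟩, ⟨92, [], [7, 3, 3, 7, 2, 2, 6, 6, 3, 7, 2, 6, 2]⟩, ⟨75, [38], [3, 6, 3, 7, 2, 7, 3, 6, 2, 7, 7, 3, 3]⟩], [48, 42, 49]⟩,
    ⟨[3, 6], 57, [⟨93, [], [3, 6]⟩, ⟨93, [49, 48, 42], [2, 7, 2, 6, 3, 7, 7, 7, 3, 6, 2]⟩, ⟨93, [49, 48, 42], [7, 2, 2, 7, 3, 3, 7, 2, 7, 7, 2, 2, 6, 2]⟩], [43, 49, 48, 42]⟩],
   [([0], [3]), ([0], [69]), ([1], [69]), ([0], [165, 374]), ([0], [463, 872]), ([1], [463, 872]), ([0], [7, 596, 61, 272]), ([1], [7, 596]), ([0], [361, 16, 282, 179, 704, 8]), ([1], [16, 282, 179]), ([0], [28, 42, 20, 395, 998, 566, 516]), ([1], [395, 398, 998]), ([0], [145, 789, 1102]), ([1], [710, 127]), ([0], [57]), ([0], [452]), ([0], [464]), ([0], [869]), ([1], [869]),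 ([0], [655]), ([1], [269]), ([0], [377, 132])]⟩]
theorem c_r0_25 : relAll tab 83 1408 HNU.base HNU.ph HNU.phI st rel0 3 om0 es25 cs25 rs0_25 = true := by decide +kernel
def rs0_26 : List RE := [
  ⟨[⟨[], 3, [⟨94, [], []⟩, ⟨90, [40, 36, 39], [2, 6, 3, 7, 3, 3, 6, 6, 2, 2, 7]⟩, ⟨82, [36, 36, 35, 35], [2, 7, 3, 6, 3, 7, 2, 2, 7, 2, 2, 7, 7]⟩], [54, 54, 54, 54, 54]⟩,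
    ⟨[3], 8, [⟨94, [], [3]⟩, ⟨73, [40, 40], [2, 2, 7, 3, 6, 6, 2, 7, 3, 6]⟩, ⟨82, [40, 40], [7, 7, 2, 2, 7, 7, 3, 6, 3, 7, 2, 2]⟩], [52, 54, 54, 52]⟩,
    ⟨[6], 28, [⟨94, [], [6]⟩, ⟨90, [36, 39, 35], [2, 6, 3, 7, 3, 3, 7, 2, 2, 6, 6]⟩, ⟨76, [37], [2, 2, 7, 7, 2, 7, 3, 6, 2, 7, 7, 2, 7, 2]⟩], [54, 54, 56, 53, 55]⟩,
    ⟨[2], 7, [⟨94, [], [2]⟩, ⟨91, [38, 38, 38, 35], [2, 2, 7, 2, 7, 3, 6, 2, 2, 7, 3, 6, 3]⟩, ⟨82, [35, 37], [3, 7, 3, 3, 6, 6, 3, 7, 7, 2, 7]⟩], [52, 54, 53, 54]⟩,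
    ⟨[7], 24, [⟨94, [], [7]⟩, ⟨69, [39, 39, 35], [6, 3, 3, 7, 3, 3, 6, 2, 2, 6, 2, 2, 6]⟩, ⟨86, [38, 38, 35, 38], [6, 3, 7, 3, 6, 2, 7, 7, 2, 2, 6, 3, 6]⟩], [56, 54, 56, 54, 53]⟩,
    ⟨[3, 3], 20, [⟨94, [], [3, 3]⟩, ⟨84, [36, 39, 40, 40], [7, 3, 3, 6, 2, 2, 7, 2, 2, 2, 6, 3]⟩, ⟨59, [33, 28, 31, 27], [3, 7, 7, 2, 6, 3, 6, 6, 3, 3, 6, 2, 7, 2]⟩], [54, 52, 55, 53, 52]⟩,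
    ⟨[3, 6], 57, [⟨94, [], [3, 6]⟩, ⟨87, [39, 35, 35], [7, 3, 6, 6, 2, 2, 7, 3, 6, 2, 7, 7, 3, 6]⟩, ⟨82, [38, 40, 39], [2, 2, 7, 2, 2, 6, 6, 3, 6, 6, 3, 7, 7]⟩], [54, 52, 54, 52]⟩,
    ⟨[6, 6], 69, [⟨94, [], [6, 6]⟩, ⟨78, [36, 35], [2, 6, 6, 3, 3, 6, 6, 3, 7, 2, 7]⟩, ⟨44, [16, 22, 20], [2, 6, 3, 7, 3, 6, 2, 7, 2, 7]⟩], [54, 52, 55, 55, 52]⟩,
    ⟨[2, 2], 16, [⟨94, [], [2, 2]⟩, ⟨86, [39, 35, 35], [2, 7, 7, 2, 2, 2, 7, 3, 3, 7, 2, 2, 7, 2]⟩, ⟨96, [55, 55, 53, 55], [6, 2, 7, 3, 3, 6, 2, 7, 2, 2, 7, 7, 7, 3]⟩], [54, 54]⟩,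
    ⟨[7, 7], 61, [⟨94, [], [7, 7]⟩, ⟨85, [36, 38, 38], [6, 3, 7, 7, 2, 6, 3, 7, 3, 3, 7, 2, 2]⟩, ⟨86, [36, 38, 35], [2, 6, 2, 2, 7, 3, 3, 6, 6, 3, 7, 7, 2]⟩], [54, 53, 55, 53, 55, 53]⟩,
    ⟨[2, 2, 2], 42, [⟨94, [], [2, 2, 2]⟩, ⟨89, [35, 39, 40, 36], [7, 7, 3, 3, 6, 2, 7, 3, 6, 6, 3, 6, 2]⟩, ⟨76, [40], [6, 3, 6, 6, 3, 7, 2, 7, 3, 3, 7, 3]⟩], [52, 54, 56, 54, 53, 54, 53]⟩,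
    ⟨[3, 3, 7], 127, [⟨94, [], [3, 3, 7]⟩, ⟨84, [38, 37], [2, 7, 2, 7, 7, 2, 2, 6, 2, 7, 2, 7, 3]⟩, ⟨59, [28, 33, 30], [3, 7, 7, 2, 2, 2, 6, 2, 2, 6, 3, 3]⟩], [52, 55, 55, 55]⟩,
    ⟨[6, 6, 3], 145, [⟨94, [], [6, 6, 3]⟩, ⟨89, [39, 35], [2, 2, 2, 7, 3, 3, 7, 3, 6]⟩, ⟨82, [40, 40], [7, 2, 2, 6, 6, 3, 7, 2, 2, 6, 6, 3]⟩], [56, 55, 56, 55, 53, 54]⟩,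
    ⟨[7, 7, 7], 132, [⟨94, [], [7, 7, 7]⟩, ⟨85, [37], [7, 2, 6, 2, 7, 2, 6, 3, 6, 6, 3, 7]⟩, ⟨86, [38, 36, 35, 35], [7, 7, 3, 6, 3, 3, 7, 2, 6, 3, 3]⟩], [55, 52, 54, 52, 55, 52, 54]⟩,
    ⟨[2, 2, 2, 7], 395, [⟨94, [], [2, 2, 2, 7]⟩, ⟨76, [40, 36], [2, 6, 6, 2, 7, 2, 7, 3, 6, 6, 2, 2]⟩, ⟨96, [56, 54, 54, 52], [6, 3, 7, 7, 2, 6, 6, 2, 7, 7, 2, 6, 6, 2]⟩], [53, 55, 53, 52, 55, 55]⟩,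
    ⟨[6, 6, 3, 3], 272, [⟨94, [], [6, 6, 3, 3]⟩, ⟨82, [40, 40], [2, 7, 2, 6, 6, 3, 7, 7, 3, 6, 2]⟩, ⟨100, [52, 54, 53, 54, 52], [2, 6, 6, 2, 2, 7, 3, 3, 6, 6, 3, 6]⟩], [54, 54, 53, 52]⟩,
    ⟨[7, 7, 7, 3], 283, [⟨94, [], [7, 7, 7, 3]⟩, ⟨83, [37], [3, 7, 2, 6, 2, 7, 2, 6, 3, 6]⟩, ⟨59, [28, 34, 27, 27], [3, 7, 2, 7, 7, 7, 3, 3, 6]⟩], [54, 52, 55, 52, 54, 53]⟩,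
    ⟨[2, 2, 2, 7, 2], 703, [⟨94, [], [2, 2, 2, 7, 2]⟩, ⟨82, [37, 35, 35], [2, 6, 3, 6, 6, 2, 2, 7, 2, 7, 3]⟩, ⟨96, [54, 52, 54], [2, 7, 2, 6, 6, 3, 7, 3, 3, 6, 6, 2, 2, 2]⟩], [53, 54, 53, 54, 53]⟩,
    ⟨[3, 3, 6, 2, 7, 3], 269, [⟨94, [], [3, 3, 6, 2, 7, 3]⟩, ⟨64, [38], [6, 3, 3, 6, 3, 3, 6, 6]⟩, ⟨76, [36], [6, 3, 3, 6, 6, 2, 2, 7, 2, 2, 6, 2]⟩], [55, 53, 55, 56, 55, 53]⟩,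
    ⟨[2, 2, 7, 3, 6, 2], 317, [⟨94, [], [2, 2, 7, 3, 6, 2]⟩, ⟨78, [39, 40, 39], [6, 3, 3, 7, 2, 2, 7, 2, 6, 3, 3]⟩, ⟨44, [21, 23, 22], [3, 7, 7, 2, 6, 2, 2, 2, 6, 6, 3, 7, 2, 2]⟩], [55, 55, 55, 55, 55]⟩],
   [([1], [3]), ([0], [28]), ([1], [28]), ([0], [398]), ([0], [7]), ([0], [24]), ([0], [20]), ([1], [20]), ([0], [710]), ([1], [57]), ([0], [69]), ([0], [16]), ([0], [61]), ([1], [61]), ([0], [165]), ([0], [42]), ([1], [42]), ([0], [377]), ([0], [127]), ([1], [127]), ([0], [126]), ([0], [145]), ([0], [132]), ([1], [132]), ([0], [596]), ([0], [272]), ([1], [272]), ([0], [282]), ([0], [283]), ([1], [317])]⟩,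
  ⟨[⟨[], 3, [⟨95, [], []⟩, ⟨79, [], [3, 6, 6, 2, 2, 7, 2, 2, 2, 6, 3]⟩, ⟨44, [16, 15, 22], [2]⟩], []⟩,
    ⟨[3], 8, [⟨95, [], [3]⟩, ⟨62, [], [2, 2, 6, 6, 3, 7, 2, 2, 6, 2, 2, 2]⟩, ⟨44, [26, 16, 21, 15], [7, 3, 3, 6, 3, 7, 2, 7, 7, 3, 6, 2]⟩], [53, 54, 53, 55]⟩,
    ⟨[6], 28, [⟨95, [], [6]⟩, ⟨72, [38, 40], [2, 7, 7, 2, 6, 6, 3, 3, 6, 6, 2, 2, 6, 2]⟩, ⟨59, [28, 31, 28], [2, 2, 2, 7, 3, 3, 7, 2, 2, 7, 2, 2, 2]⟩], [53, 52, 55]⟩,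
    ⟨[2], 7, [⟨95, [], [2]⟩, ⟨81, [38], [3, 7, 2, 2, 6, 6, 3, 6, 6, 3, 7]⟩, ⟨76, [38, 36, 35, 35], [2, 7, 7, 3, 6, 2, 7, 2, 2, 2, 7, 2]⟩], [54, 53, 55, 56, 52]⟩,
    ⟨[7], 24, [⟨95, [], [7]⟩, ⟨85, [36, 39, 40, 40], [7, 7, 2, 7, 3, 6, 2, 2, 2, 6, 3, 7, 2]⟩, ⟨86, [37, 35, 38], [3, 3, 7, 3, 3, 7, 7, 2, 7, 3, 3, 7, 2, 2]⟩], [53, 54, 53, 55, 53]⟩,
    ⟨[3, 3], 20, [⟨95, [], [3, 3]⟩, ⟨88, [40, 36, 35, 35], [3, 7, 3, 3, 7, 2, 2, 6, 2, 2, 6]⟩, ⟨59, [33, 28, 31], [3, 3, 7, 2, 7, 3, 6, 6, 3, 7, 7, 3]⟩], [54, 53, 52, 54, 53]⟩,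
    ⟨[3, 6], 57, [⟨95, [], [3, 6]⟩, ⟨91, [38, 40, 38, 35], [2, 2, 6, 3, 3, 6, 2, 7, 2, 6, 2, 7, 2, 2]⟩, ⟨86, [40, 39], [2, 6, 3, 6, 2, 7, 3, 6, 6, 2, 2, 2, 6]⟩], [54, 53, 54, 54, 54]⟩,
    ⟨[6, 6], 69, [⟨95, [], [6, 6]⟩, ⟨89, [39, 40, 39], [7, 2, 6, 2, 2, 7, 2, 6, 3, 3]⟩, ⟨76, [35, 35], [6, 6, 3, 6, 6, 3, 7, 7, 2, 2, 7, 7, 3]⟩], [52, 54, 56, 54, 53]⟩,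
    ⟨[2, 2], 16, [⟨95, [], [2, 2]⟩, ⟨86, [36], [2, 6, 6, 3, 6, 6, 3, 3, 7, 2, 2, 7, 2, 2]⟩, ⟨96, [54], [7, 2, 2, 6, 3, 3, 7, 2, 6, 3, 6, 6, 2]⟩], [55, 53, 54, 53, 55]⟩,
    ⟨[7, 7], 61, [⟨95, [], [7, 7]⟩, ⟨77, [36, 39, 35], [3, 6, 3, 3, 6, 6, 3, 7, 2, 6, 2, 2]⟩, ⟨82, [37], [7, 3, 3, 7, 7, 2, 2, 7, 3, 6, 2, 7]⟩], [53, 55, 56, 55, 56, 52]⟩,
    ⟨[2, 2, 2], 42, [⟨95, [], [2, 2, 2]⟩, ⟨76, [39, 36, 35], [2, 2, 6, 3, 6, 6, 2, 2, 7, 2, 2, 6]⟩, ⟨100, [52, 55, 56, 55, 52], [3, 3, 6, 2, 7, 2, 6, 3, 7, 3, 6, 2, 7]⟩], [52, 55, 53, 52]⟩,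
    ⟨[3, 3, 7], 127, [⟨95, [], [3, 3, 7]⟩, ⟨76, [35, 39], [3, 3, 6, 2, 7, 7, 3, 3, 6, 3, 3, 7, 3]⟩, ⟨96, [55, 56, 55, 56, 55, 56], [7, 7, 2, 6, 2, 2, 7, 7, 3, 3, 7, 7, 2]⟩], [53, 55, 53, 54]⟩,
    ⟨[7, 7, 7], 132, [⟨95, [], [7, 7, 7]⟩, ⟨87, [36, 40, 40], [3, 6, 3, 7, 7, 2, 7, 2, 2, 2]⟩, ⟨86, [38, 40, 38, 38], [3, 3, 7, 2, 6, 3, 6, 2, 7, 7, 2, 7]⟩], [52, 55, 55, 55, 55]⟩,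
    ⟨[2, 2, 2, 6], 398, [⟨95, [], [2, 2, 2, 6]⟩, ⟨77, [40, 36, 39, 35], [2, 6, 3, 7, 2, 2, 7, 2, 2, 7, 3]⟩, ⟨82, [36, 35, 35], [2, 7, 2, 2, 7, 7, 7, 3, 3, 6, 2]⟩], [56, 54, 56, 54, 53]⟩,
    ⟨[2, 2, 2, 7], 395, [⟨95, [], [2, 2, 2, 7]⟩, ⟨90, [38, 37, 38], [2, 6, 3, 6, 6, 2, 7, 7, 2, 6, 6, 3, 7]⟩, ⟨76, [40, 38, 38], [2, 6, 2, 7, 2, 2, 2, 7, 2, 2, 7, 2]⟩], [56, 55, 56, 55, 56, 52]⟩,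
    ⟨[3, 3, 6, 3], 464, [⟨95, [], [3, 3, 6, 3]⟩, ⟨88, [39, 39, 35], [2, 2, 7, 2, 6, 3, 6, 6]⟩, ⟨59, [34, 27, 27], [3, 3, 7, 7, 2, 7, 7, 2, 6, 3, 7, 3]⟩], [55, 52, 54, 54, 52]⟩,
    ⟨[3, 3, 6, 2], 463, [⟨95, [], [3, 3, 6, 2]⟩, ⟨87, [38, 40, 38], [7, 3, 3, 7, 7, 2, 7, 2, 6, 3, 7]⟩, ⟨76, [40, 36], [2, 6, 2, 7, 3, 3, 6, 2, 2, 7, 2]⟩], [52, 55, 56, 54]⟩,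
    ⟨[6, 6, 3, 7], 996, [⟨95, [], [6, 6, 3, 7]⟩, ⟨91, [38, 37, 39], [3, 3, 6, 6, 2, 2, 2]⟩, ⟨76, [35, 35], [2, 6, 3, 3, 7, 2, 2, 7, 2, 2, 6, 3]⟩], [54, 56, 55, 52]⟩,
    ⟨[7, 7, 7, 3], 283, [⟨95, [], [7, 7, 7, 3]⟩, ⟨86, [39, 36, 39, 35], [2, 7, 3, 3, 6, 2, 7, 7, 2, 7, 3, 3, 7, 2, 2]⟩, ⟨96, [54, 54, 52, 54], [3, 7, 2, 2, 7, 2, 7, 7, 3, 3, 6, 6, 3, 7]⟩], [54, 54, 52, 55, 52]⟩,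
    ⟨[3, 3, 6, 2, 7, 3, 6], 536, [⟨95, [], [3, 3, 6, 2, 7, 3, 6]⟩, ⟨78, [37, 38], [6, 6, 2, 7, 7, 2, 6, 2, 2, 7, 7]⟩, ⟨44, [23, 15, 16, 15], [6, 6, 3, 7, 7, 3, 6, 6, 2, 7, 2, 7]⟩], [55, 55, 52, 54, 53, 54]⟩],
   [([0], [3]), ([0], [28]), ([0], [24]), ([0], [20]), ([1], [20]), ([0], [998]), ([0], [57]), ([1], [57]), ([0], [179]), ([0], [69]), ([0], [16]), ([1], [16]), ([0], [1102]), ([1], [61]), ([0], [42]), ([1], [42]), ([0], [126]), ([0], [132]), ([1], [132]), ([0], [703]), ([0], [398]), ([1], [395]), ([0], [464]), ([1], [464]), ([0], [282]), ([0], [463]), ([1], [996]), ([0], [283]), ([1], [283]), ([0], [710])]⟩,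
  ⟨[⟨[], 3, [⟨96, [], []⟩, ⟨98, [], [3, 7, 2, 7, 3, 6, 3, 7, 2, 7, 7, 2]⟩, ⟨44, [16, 21, 26, 21], [3]⟩], []⟩,
    ⟨[3], 8, [⟨96, [], [3]⟩, ⟨97, [55], [7, 2, 2, 7, 2, 2, 6, 6, 3, 6, 6, 3]⟩, ⟨82, [37], [2, 7, 2, 6, 3, 6, 2, 7, 7, 3]⟩], [52, 54]⟩,
    ⟨[6], 28, [⟨96, [], [6]⟩, ⟨98, [55, 52, 54], [7, 2, 7, 2, 2, 2, 7, 7, 2, 7, 7, 2]⟩, ⟨44, [20, 23, 20, 20], [7, 2, 6, 6, 2, 2, 7, 3, 6, 6, 3]⟩], [54, 52, 54]⟩,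
    ⟨[2], 7, [⟨96, [], [2]⟩, ⟨99, [55, 53, 54, 53], [3, 6, 2, 7, 3, 6, 6, 2]⟩, ⟨59, [33, 29, 27, 27], [7, 3, 6, 3, 3, 6, 6, 3, 6]⟩], [54, 54, 52, 55, 52]⟩,
    ⟨[7], 24, [⟨96, [], [7]⟩, ⟨98, [55, 55, 53, 55, 53], [2, 2, 6, 3, 3, 7, 2, 6, 3, 6, 6]⟩, ⟨44, [26, 20, 15], [7, 3, 3, 6, 2, 7, 2, 2, 2, 6, 6]⟩], [53, 55, 53, 52, 55, 55]⟩,
    ⟨[3, 3], 20, [⟨96, [], [3, 3]⟩, ⟨96, [52, 55], [2, 7, 7, 7, 3, 6, 2, 7, 2, 6, 3, 7, 2]⟩, ⟨96, [53, 52, 55], [7, 3, 6, 6, 2, 2, 7, 3, 6, 2, 7, 7, 2]⟩], [56, 55, 56]⟩,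
    ⟨[3, 6], 57, [⟨96, [], [3, 6]⟩, ⟨98, [55, 55, 53, 55, 53, 54], [7, 7, 7, 3, 3]⟩, ⟨44, [23, 16, 15], [7, 2, 2, 7, 2, 2, 2, 7, 7, 2, 7, 3, 6]⟩], [53, 55, 56, 55, 56, 55, 52]⟩,
    ⟨[6, 6], 69, [⟨96, [], [6, 6]⟩, ⟨95, [55, 52, 54, 52, 55], [2, 7, 2, 6, 3, 3, 7, 7, 2, 6, 6]⟩, ⟨86, [40, 39, 35, 38], [6, 6, 3, 7, 7, 7, 2, 7, 7, 7]⟩], [55, 55, 55, 55, 52]⟩,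
    ⟨[2, 2], 16, [⟨96, [], [2, 2]⟩, ⟨99, [52, 54, 56, 54, 56, 54], [2, 7, 2, 6, 3, 7, 7, 2, 2, 6, 6, 2]⟩, ⟨59, [33, 29, 32], [6, 3, 7, 7, 2, 6, 3, 7, 2, 2, 2]⟩], [55, 53, 55, 53, 52]⟩,
    ⟨[7, 7], 61, [⟨96, [], [7, 7]⟩, ⟨97, [52, 54, 52, 55], [7, 3, 3, 6, 2, 7, 2, 6, 2, 2, 7, 3, 3]⟩, ⟨76, [40], [2, 7, 2, 6, 6, 3, 3, 6, 2, 2, 6, 2, 7, 7]⟩], [52, 54, 56, 54, 53]⟩,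
    ⟨[2, 2, 2], 42, [⟨96, [], [2, 2, 2]⟩, ⟨99, [52, 54, 53, 54], [6, 2, 2, 7, 3, 3, 7, 3, 6, 3, 3, 7]⟩, ⟨59, [33, 32, 31], [2, 6, 6, 3, 7, 3, 6, 2, 7, 7]⟩], [55, 52, 55, 53, 54]⟩,
    ⟨[3, 3, 6], 227, [⟨96, [], [3, 3, 6]⟩, ⟨98, [55, 55, 55, 55, 53, 55], [6, 6, 3, 3, 7, 7, 2, 2, 6, 3, 3, 7]⟩, ⟨44, [21, 16, 16], [7, 2, 2, 2, 7, 2, 6, 2, 7, 3, 6]⟩], [53, 55, 53, 52]⟩,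
    ⟨[3, 3, 7], 127, [⟨96, [], [3, 3, 7]⟩, ⟨95, [55, 52, 54, 52, 54], [2, 2, 2, 6, 2, 7, 2, 7, 7, 3, 3, 7, 7, 2]⟩, ⟨86, [38, 35, 39], [7, 7, 3, 6, 2, 7, 2, 7, 7, 3]⟩], [55, 56, 55, 56, 52]⟩,
    ⟨[7, 7, 7], 132, [⟨96, [], [7, 7, 7]⟩, ⟨97, [55, 55, 55, 55, 53], [7, 7, 2, 2, 7, 2, 6, 6, 3, 7, 7, 3]⟩, ⟨82, [38, 38], [2, 6, 2, 2, 2, 7, 2, 6, 3, 6]⟩], [52, 55, 55]⟩,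
    ⟨[2, 2, 2, 6], 398, [⟨96, [], [2, 2, 2, 6]⟩, ⟨94, [52, 54, 54], [6, 3, 3, 7, 7, 2, 6, 2, 2, 2, 6, 6, 2]⟩, ⟨86, [37, 38, 40], [6, 6, 3, 7, 7, 3, 6, 6, 2, 2, 6]⟩], [52, 55, 55, 53, 55, 53]⟩,
    ⟨[2, 2, 2, 7], 395, [⟨96, [], [2, 2, 2, 7]⟩, ⟨100, [54, 53, 52], [2, 6, 3, 6, 2, 2, 7, 2, 6, 3, 3]⟩, ⟨100, [54, 54, 54], [3, 3, 6, 2, 2, 2, 7, 3, 6, 3, 3]⟩], [54, 52, 54, 53]⟩,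
    ⟨[7, 7, 7, 2], 282, [⟨96, [], [7, 7, 7, 2]⟩, ⟨94, [56, 52, 54, 56, 54, 52], [6, 2, 7, 3, 3, 6, 3, 7, 2, 2]⟩, ⟨76, [40, 36], [6, 2, 7, 2, 2, 7, 3, 3, 6, 6, 3, 6]⟩], [56, 53, 54, 54, 52]⟩,
    ⟨[2, 2, 2, 6, 3], 711, [⟨96, [], [2, 2, 2, 6, 3]⟩, ⟨95, [53, 55, 53, 54], [2, 7, 3, 6, 6, 3, 7, 2, 6, 2, 2, 2, 6, 2]⟩, ⟨76, [35, 39], [3, 3, 6, 2, 7, 3, 6, 3, 3, 6, 6, 3, 7]⟩], [55, 56, 55, 56, 55, 56]⟩,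
    ⟨[6, 6, 3, 7, 2, 6], 361, [⟨96, [], [6, 6, 3, 7, 2, 6]⟩, ⟨94, [53, 54, 53, 54], [3, 3, 6, 6, 3, 3, 7, 2, 2, 7, 3, 6, 2]⟩, ⟨82, [37, 35, 35], [3, 6, 3, 7, 2, 6, 2, 2, 7, 2, 6, 2, 7, 7]⟩], [55, 55, 55, 52]⟩,
    ⟨[7, 7, 2, 6, 3, 7], 452, [⟨96, [], [7, 7, 2, 6, 3, 7]⟩, ⟨96, [55, 52, 55, 52, 54, 54], [6, 2, 7, 7, 2, 6, 2, 2, 6, 2, 7]⟩, ⟨96, [52, 55, 52, 54, 53], [3, 3, 6, 2, 2, 6, 2, 7, 7, 3, 6, 2, 7, 2]⟩], [52, 55, 52, 54, 53, 52]⟩],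
   [([0], [3]), ([0], [8]), ([1], [8]), ([0], [710]), ([0], [7]), ([1], [24]), ([1], [20]), ([0], [57]), ([0], [69]), ([1], [69]), ([0], [374]), ([0], [16]), ([1], [16]), ([0], [536]), ([0], [61]), ([0], [42]), ([1], [42]), ([0], [269]), ([1], [227]), ([0], [127]), ([1], [127]), ([0], [632]), ([0], [132]), ([1], [132]), ([0], [317]), ([0], [398]), ([0], [395]), ([1], [395]), ([0], [1110]), ([0], [452])]⟩]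
theorem c_r0_26 : relAll tab 83 1408 HNU.base HNU.ph HNU.phI st rel0 3 om0 es26 cs26 rs0_26 = true := by decide +kernel
def rs0_27 : List RE := [
  ⟨[⟨[], 3, [⟨97, [], []⟩, ⟨71, [], [2, 6, 3, 6, 6, 3, 3, 7, 2, 2, 6, 3]⟩, ⟨44, [], []⟩], []⟩,
    ⟨[3], 8, [⟨97, [], [3]⟩, ⟨91, [39, 35], [6, 3, 6, 2, 2, 6]⟩, ⟨86, [36, 36, 39], [3, 6, 3, 3, 6, 2, 7, 2, 7, 3]⟩], [55, 52, 54, 52, 55]⟩,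
    ⟨[6], 28, [⟨97, [], [6]⟩, ⟨78, [35, 35], [7, 7, 3, 3, 6, 3, 3, 6, 2, 2, 7, 2, 7]⟩, ⟨44, [16, 22, 26, 21], [3, 6, 3, 3, 7, 7, 3, 3, 6, 6, 2, 7, 7, 3]⟩], [54, 56, 52, 54, 56]⟩,
    ⟨[2], 7, [⟨97, [], [2]⟩, ⟨72, [37, 35, 35], [2, 6, 2, 2, 2, 6, 2, 2, 6, 3, 3, 7, 2, 2, 7]⟩, ⟨59, [28, 28, 31], [3, 7, 7, 2, 6, 2, 2, 6, 3, 3, 7, 2, 2, 2]⟩], [52, 55, 52]⟩,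
    ⟨[7], 24, [⟨97, [], [7]⟩, ⟨80, [40], [6, 6, 3, 7, 2, 2, 6, 2, 2, 6, 6]⟩, ⟨59, [32, 33, 27], [7, 3, 6, 3, 7, 2, 2, 7, 3, 3, 6, 6, 2, 2]⟩], [53, 52, 55, 52]⟩,
    ⟨[3, 3], 20, [⟨97, [], [3, 3]⟩, ⟨88, [36, 39], [6, 2, 2, 2, 6, 2, 7, 2, 6, 3, 7]⟩, ⟨59, [27, 34, 30], [2, 7, 7, 3, 6, 2, 7, 2, 6, 3, 6, 6, 3]⟩], []⟩,
    ⟨[3, 6], 57, [⟨97, [], [3, 6]⟩, ⟨88, [39, 40], [7, 3, 3, 6, 3, 3, 7, 3, 3, 6, 2, 2, 2]⟩, ⟨59, [30, 34, 28], [7, 3, 6, 2, 7, 7, 3, 6, 2, 7, 2, 7, 3]⟩], [55, 52, 54, 52, 55]⟩,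
    ⟨[6, 6], 69, [⟨97, [], [6, 6]⟩, ⟨88, [36, 39, 35], [6, 6, 2, 7, 2, 6, 6, 3, 6, 6, 3, 6, 2]⟩, ⟨59, [33, 27, 27], [2, 2, 7, 2, 6, 3, 6, 2, 7, 7, 7, 2]⟩], [52, 55, 55]⟩,
    ⟨[2, 2], 16, [⟨97, [], [2, 2]⟩, ⟨83, [40, 36, 35, 35], [3, 7, 2, 6, 2, 7, 2, 6, 3, 6, 6, 2, 2, 2]⟩, ⟨59, [33, 32, 31], [2, 6, 2, 2, 2, 6, 2, 7, 2, 2, 7, 7]⟩], [55, 55, 52, 54, 52]⟩,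
    ⟨[7, 7], 61, [⟨97, [], [7, 7]⟩, ⟨69, [35], [6, 2, 7, 2, 7, 7, 2, 6, 3, 3, 7, 2, 7, 7]⟩, ⟨76, [39, 39, 37], [3, 3, 6, 3, 7, 2, 7, 3, 6, 2, 2, 7, 7]⟩], [54, 56, 55, 55, 53, 54]⟩,
    ⟨[2, 2, 2], 42, [⟨97, [], [2, 2, 2]⟩, ⟨85, [35, 35, 37], [7, 3, 6, 6, 2, 7, 7, 2, 6]⟩, ⟨76, [38, 38, 35], [2, 6, 6, 3, 6, 6, 2, 7, 7, 2, 6, 3, 3]⟩], [56, 55, 55]⟩,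
    ⟨[3, 3, 6], 227, [⟨97, [], [3, 3, 6]⟩, ⟨84, [39, 37], [6, 6, 2, 2, 2, 7, 7, 3]⟩, ⟨59, [33, 28, 31], [3, 7, 7, 2, 6, 3, 7, 3, 6, 2, 7, 7]⟩], [55, 53]⟩,
    ⟨[3, 3, 7], 127, [⟨97, [], [3, 3, 7]⟩, ⟨89, [39, 36, 35], [2, 2, 6, 3, 6, 6, 2, 2, 7, 3, 6, 3]⟩, ⟨86, [39, 35], [6, 6, 3, 7, 2, 7, 3, 6, 2, 7, 7, 3, 3]⟩], [53, 55, 56, 55, 56, 55, 52]⟩,
    ⟨[6, 6, 3], 145, [⟨97, [], [6, 6, 3]⟩, ⟨91, [38, 36, 36, 35], [7, 7, 2, 6, 6, 3, 3, 7, 7]⟩, ⟨82, [38, 38], [7, 2, 6, 3, 7, 7, 7, 2, 2, 7, 7, 2, 7]⟩], [54, 52, 55, 55, 52]⟩,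
    ⟨[7, 7, 7], 132, [⟨97, [], [7, 7, 7]⟩, ⟨85, [39, 36, 38, 35], [7, 7, 3, 3, 6, 2, 7, 3, 6]⟩, ⟨76, [39, 39, 35], [6, 2, 7, 2, 2, 7, 3, 6, 3, 7, 2, 6, 2]⟩], [54, 54, 56]⟩,
    ⟨[2, 2, 7], 179, [⟨97, [], [2, 2, 7]⟩, ⟨87, [35, 38, 35], [6, 2, 2, 6, 2, 7, 3, 6, 6, 2, 2, 6, 2]⟩, ⟨86, [38, 36, 35], [3, 3, 7, 2, 2, 6, 3, 6, 2, 7, 7]⟩], [55, 55, 55, 53]⟩,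
    ⟨[7, 7, 2], 126, [⟨97, [], [7, 7, 2]⟩, ⟨86, [39, 35], [2, 2, 7, 3, 3, 7, 2, 2, 6, 3, 6, 6, 2]⟩, ⟨100, [53, 55, 52], [2, 2, 6, 6, 3, 3, 6, 3, 7, 7, 2, 7]⟩], [55, 52, 55, 55, 52]⟩,
    ⟨[2, 2, 2, 6], 398, [⟨97, [], [2, 2, 2, 6]⟩, ⟨78, [40], [7, 2, 6, 3, 7, 2, 2, 6, 6, 3, 6, 6, 3]⟩, ⟨44, [16, 21, 16, 16], [2, 7, 2, 6, 3, 3, 6, 3, 7, 7, 2]⟩], [56, 55, 53, 55, 56]⟩,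
    ⟨[3, 3, 6, 3], 464, [⟨97, [], [3, 3, 6, 3]⟩, ⟨82, [40, 36], [6, 2, 2, 7, 2, 2, 2, 7, 7, 2]⟩, ⟨96, [52, 54, 54, 52, 54], [6, 6, 3, 6, 2, 2, 2, 6, 3, 7, 3, 3, 6, 2]⟩], [55, 52, 54, 54]⟩,
    ⟨[3, 3, 6, 2], 463, [⟨97, [], [3, 3, 6, 2]⟩, ⟨87, [39, 40], [3, 7, 3, 6, 2, 7, 2, 2, 6, 6, 2]⟩, ⟨82, [39, 39, 35], [2, 6, 3, 7, 2, 7, 7, 2, 2, 7, 7, 7]⟩], [52, 55, 55, 55, 55, 53]⟩,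
    ⟨[6, 6, 3, 6], 998, [⟨97, [], [6, 6, 3, 6]⟩, ⟨82, [39, 35, 39], [6, 2, 7, 2, 2, 2, 6, 6, 2]⟩, ⟨96, [53, 52, 54], [7, 3, 3, 6, 6, 2, 7, 2, 2, 7, 3]⟩], [55, 52]⟩,
    ⟨[6, 6, 3, 7], 996, [⟨97, [], [6, 6, 3, 7]⟩, ⟨84, [36, 39], [3, 7, 7, 2, 7, 7, 3, 3, 7, 7, 2, 2, 7]⟩, ⟨59, [33, 28, 28], [3, 3, 6, 2, 7, 3, 3, 7, 3, 6, 2]⟩], [53, 54, 54, 54, 54, 53]⟩,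
    ⟨[7, 7, 7, 3], 283, [⟨97, [], [7, 7, 7, 3]⟩, ⟨87, [35, 39, 40, 36], [6, 3, 6, 6, 3, 3, 6, 2, 2, 6, 3, 3]⟩, ⟨86, [40, 36, 38, 35], [2, 6, 3, 7, 7, 2, 6, 3, 7, 3, 3, 6, 6]⟩], [52, 54, 52, 55, 52, 54]⟩,
    ⟨[2, 2, 7, 3], 374, [⟨97, [], [2, 2, 7, 3]⟩, ⟨91, [38], [2, 7, 3, 6, 2, 2, 7, 2, 6, 6, 3, 7, 7]⟩, ⟨86, [35, 37, 38], [6, 2, 2, 7, 3, 3, 6]⟩], [55, 55]⟩,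
    ⟨[7, 7, 2, 6], 872, [⟨97, [], [7, 7, 2, 6]⟩, ⟨86, [40, 39], [6, 3, 7, 2, 6, 3, 7, 3, 3, 7, 2, 7, 3]⟩, ⟨100, [54, 54, 52, 54], [7, 3, 6, 2, 7, 3, 6, 6, 2, 7, 2, 2]⟩], [52, 54, 52, 55, 52]⟩,
    ⟨[2, 2, 2, 6, 3], 711, [⟨97, [], [2, 2, 2, 6, 3]⟩, ⟨90, [36, 36, 38, 40], [6, 2, 7, 3, 6, 6, 2, 2, 7, 2, 2, 2]⟩, ⟨86, [40, 36, 39, 35], [6, 3, 7, 7, 3, 6, 6, 2, 7, 3, 6, 6]⟩], [55, 52, 54, 52, 55, 55, 52]⟩,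
    ⟨[3, 3, 6, 2, 7, 3], 269, [⟨97, [], [3, 3, 6, 2, 7, 3]⟩, ⟨70, [40], [6, 3, 7, 2, 6, 3, 3, 7, 7, 2, 7, 7, 2]⟩, ⟨86, [36, 38, 38], [2, 7, 2, 6, 6, 3, 3, 6, 2, 7, 2, 2, 7, 7]⟩], [55, 55, 55, 55, 55, 53]⟩,
    ⟨[6, 6, 3, 7, 2, 6], 361, [⟨97, [], [6, 6, 3, 7, 2, 6]⟩, ⟨85, [39, 37, 35, 38], [6, 3, 7, 3, 3, 7, 7, 2, 6, 6, 2]⟩, ⟨82, [38, 38], [7, 7, 7, 3, 6, 2, 7, 2, 6, 2, 7, 3]⟩], [55, 52, 54, 52, 55, 52, 54]⟩,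
    ⟨[3, 3, 6, 2, 7, 3, 3], 165, [⟨97, [], [3, 3, 6, 2, 7, 3, 3]⟩, ⟨76, [40], [7, 2, 6, 2, 2, 7, 2, 6, 3, 7, 2, 2]⟩, ⟨96, [54, 56, 54], [6, 2, 7, 7, 2, 6, 3, 6, 2, 7, 3, 3, 7, 2]⟩], [54, 52, 55, 53]⟩,
    ⟨[3, 3, 6, 2, 7, 3, 6, 3], 632, [⟨97, [], [3, 3, 6, 2, 7, 3, 6, 3]⟩, ⟨84, [35, 35, 38], [6, 6, 2, 2, 7, 2, 6, 3, 7, 2, 2, 6, 3, 7]⟩, ⟨59, [34, 27], [6, 6, 2, 2, 7, 7, 2, 2, 2, 6, 2]⟩], [54, 52, 55, 55, 52]⟩],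
   [([0], [8]), ([0], [28]), ([0], [20]), ([0], [69]), ([0], [42]), ([0], [227]), ([0], [127]), ([0], [145]), ([0], [132]), ([0], [179]), ([0], [126]), ([0], [398]), ([0], [464]), ([0], [463]), ([0], [998]), ([0], [996]), ([0], [283]), ([0], [374]), ([0], [872]), ([0], [711])]⟩,
  ⟨[⟨[], 3, [⟨98, [], []⟩, ⟨37, [], [6, 3, 7, 2, 2, 7, 7, 2, 6, 3, 7]⟩, ⟨44, [15, 16, 16, 26], [7, 7]⟩], []⟩,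
    ⟨[3], 8, [⟨98, [], [3]⟩, ⟨44, [20, 23, 20, 20], [3, 6, 2, 2, 7, 2, 2, 6, 2, 2, 7, 3]⟩, ⟨96, [54, 52, 54], [6, 6, 3, 3, 6, 3, 3, 6, 2, 7, 2, 6]⟩], [55, 52, 54]⟩,
    ⟨[6], 28, [⟨98, [], [6]⟩, ⟨38, [16, 16], [3, 3, 7, 2, 6, 3, 6, 6, 2, 2, 7]⟩, ⟨82, [35], [3, 7, 2, 6, 3, 7, 2, 7, 3, 6, 2, 7, 3]⟩], [52]⟩,
    ⟨[2], 7, [⟨98, [], [2]⟩, ⟨44, [22, 20, 20, 15], [3, 6, 2, 7, 2, 2, 6, 2, 7, 2, 7, 3]⟩, ⟨96, [56, 54, 56, 54, 52], [7, 2, 6, 6, 2, 7, 7, 2, 2, 6, 6, 2]⟩], [54, 53, 54]⟩,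
    ⟨[7], 24, [⟨98, [], [7]⟩, ⟨45, [21, 20], [7, 2, 6, 3, 3, 6, 6, 2, 7, 7, 3, 6]⟩, ⟨76, [35], [7, 7, 2, 2, 6, 6, 3, 7, 7, 3, 3, 6]⟩], [54, 52, 54, 56]⟩,
    ⟨[3, 3], 20, [⟨98, [], [3, 3]⟩, ⟨41, [23, 23, 16, 15], [7, 2, 7, 7, 3, 3, 6, 2, 7, 2, 6, 2, 2, 7]⟩, ⟨59, [29, 34], [3, 6, 2, 7, 2, 6, 2, 7, 2, 2, 7, 7]⟩], [55, 55, 52, 54]⟩,
    ⟨[3, 6], 57, [⟨98, [], [3, 6]⟩, ⟨43, [21, 26, 15, 16], [7, 2, 7, 3, 3, 6, 2, 7, 2, 2, 7, 3]⟩, ⟨82, [38, 38], [2, 6, 3, 3, 7, 3, 6, 2, 2, 7, 7, 3]⟩], [54, 53, 55, 53]⟩,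
    ⟨[6, 6], 69, [⟨98, [], [6, 6]⟩, ⟨35, [20, 20], [7, 2, 7, 2, 6, 2, 2, 7, 7, 2, 2]⟩, ⟨86, [40, 36, 35], [7, 2, 2, 7, 7, 3, 3, 6, 3, 3, 7, 3]⟩], [53, 52]⟩,
    ⟨[2, 2], 16, [⟨98, [], [2, 2]⟩, ⟨40, [15, 16, 15, 16], [6, 6, 3, 7, 2, 2, 2, 7, 3, 6, 3, 7]⟩, ⟨59, [27, 34, 30], [7, 2, 7, 7, 2, 2, 7, 7, 3, 3, 6]⟩], [52]⟩,
    ⟨[7, 7], 61, [⟨98, [], [7, 7]⟩, ⟨40, [16, 15, 16], [6, 6, 3, 7, 7, 2, 6, 2, 2, 2, 7]⟩, ⟨59, [33, 27, 27], [2, 6, 6, 3, 7, 3, 3, 7, 7, 2, 6]⟩], [52, 55, 55]⟩,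
    ⟨[3, 3, 6], 227, [⟨98, [], [3, 3, 6]⟩, ⟨45, [22, 23, 23, 16], [6, 6, 3, 6, 2, 7, 3, 6, 3, 7, 2, 7]⟩, ⟨86, [36, 39, 35, 35], [6, 6, 3, 3, 6, 2, 7, 2, 6, 3, 6, 2, 7]⟩], [56, 55, 56, 55, 53]⟩,
    ⟨[3, 3, 7], 127, [⟨98, [], [3, 3, 7]⟩, ⟨44, [20, 15, 23], [7, 3, 6, 2, 7, 2, 2, 2, 7, 7, 7]⟩, ⟨96, [], [7, 3, 6, 2, 7, 2, 2, 2, 7, 7, 7, 2]⟩], [52]⟩,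
    ⟨[6, 6, 3], 145, [⟨98, [], [6, 6, 3]⟩, ⟨39, [16, 15, 16, 16], [3, 6, 2, 7, 2, 7, 7, 3, 6, 2]⟩, ⟨44, [16, 16, 26], [2, 2, 2, 6, 2, 2]⟩], [54, 52]⟩,
    ⟨[2, 2, 2, 7], 395, [⟨98, [], [2, 2, 2, 7]⟩, ⟨45, [26, 16], [3, 6, 6, 2, 7, 7, 2, 7, 7, 3, 6, 6, 2, 2]⟩, ⟨76, [40, 38, 38], [3, 6, 2, 7, 2, 6, 6, 3, 7, 2, 6, 2, 2, 2]⟩], [52, 55, 55, 56, 53]⟩,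
    ⟨[3, 3, 6, 3], 464, [⟨98, [], [3, 3, 6, 3]⟩, ⟨39, [26, 22, 20, 15], [2, 2, 7, 7, 3, 3, 6, 2, 2, 6, 3]⟩, ⟨44, [26, 15, 16, 15], [3, 7, 3, 6, 3, 7, 2, 6, 6, 3, 6]⟩], [55, 53, 52]⟩,
    ⟨[3, 3, 6, 2], 463, [⟨98, [], [3, 3, 6, 2]⟩, ⟨45, [26, 16, 16, 15], [3, 7, 2, 2, 7, 3, 6, 6, 2, 2, 6, 2, 2]⟩, ⟨86, [38, 40, 38, 38], [7, 7, 7, 2, 2, 2, 7, 2, 2, 2]⟩], [53, 52, 54, 53, 54, 53]⟩,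
    ⟨[7, 7, 7, 2], 282, [⟨98, [], [7, 7, 7, 2]⟩, ⟨44, [23, 16, 15], [2, 6, 6, 3, 7, 7, 2, 6, 3, 7, 3, 6]⟩, ⟨96, [52, 54, 54], [3, 6, 3, 7, 3, 6, 3, 3, 7, 2]⟩], [55, 55, 52]⟩,
    ⟨[2, 2, 7, 2], 373, [⟨98, [], [2, 2, 7, 2]⟩, ⟨44, [22, 20], [2, 6, 2, 7, 2, 2, 6, 6, 2, 2, 7, 2, 7]⟩, ⟨100, [54, 53, 54, 54], [2, 7, 7, 2, 2, 7, 3, 6, 3, 3, 6, 6, 2]⟩], [54, 53, 54, 54, 52, 54]⟩,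
    ⟨[2, 2, 2, 6, 3], 711, [⟨98, [], [2, 2, 2, 6, 3]⟩, ⟨44, [21, 16, 16], [7, 3, 6, 3, 7, 7, 2, 2, 6, 6]⟩, ⟨96, [53, 55, 52], [6, 3, 7, 7, 7, 2, 2, 7, 2, 6, 3, 3, 6, 2]⟩], [55, 55, 52, 54, 53, 54, 52]⟩,
    ⟨[2, 2, 7, 3, 6, 2, 2], 162, [⟨98, [], [2, 2, 7, 3, 6, 2, 2]⟩, ⟨45, [16, 15, 22], [7, 7, 7, 2, 2, 2, 6, 2, 2, 2]⟩, ⟨82, [36, 36, 35, 35], [6, 3, 7, 7, 2, 6, 3, 7, 2, 6, 2, 7]⟩], [55, 55, 52, 54, 52, 54]⟩],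
   [([0], [7]), ([0], [24]), ([0], [20]), ([0], [57]), ([0], [69]), ([0], [16]), ([1], [16]), ([0], [377]), ([0], [61]), ([1], [61]), ([0], [272]), ([0], [227]), ([1], [227]), ([0], [789]), ([0], [127]), ([0], [145]), ([1], [145]), ([0], [596]), ([1], [395]), ([0], [464]), ([1], [464]), ([0], [374]), ([0], [463]), ([1], [463]), ([0], [1110]), ([1], [282]), ([0], [373]), ([1], [373]), ([0], [1102]), ([1], [711])]⟩]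
theorem c_r0_27 : relAll tab 83 1408 HNU.base HNU.ph HNU.phI st rel0 3 om0 es27 cs27 rs0_27 = true := by decide +kernel
def rs0_28 : List RE := [
  ⟨[⟨[], 3, [⟨99, [], []⟩, ⟨52, [27, 27, 27], [7, 3, 6, 3, 3, 7, 2, 6, 3, 3, 6, 6, 2]⟩, ⟨82, [38, 35], [7, 3, 6, 3, 7, 3, 3, 7, 7, 2, 2, 6]⟩], [54, 54, 54, 54, 54, 52]⟩,
    ⟨[3], 8, [⟨99, [], [3]⟩, ⟨57, [34, 30], [7, 7, 2, 6, 3, 7, 7, 7, 2, 7, 7, 2]⟩, ⟨82, [39, 39, 37], [6, 3, 7, 3, 3, 6, 6, 3, 7, 7, 2, 7]⟩], [52, 54, 53, 54]⟩,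
    ⟨[6], 28, [⟨99, [], [6]⟩, ⟨51, [32, 30], [3, 6, 6, 2, 2, 6, 2, 7, 3, 6, 3, 7]⟩, ⟨59, [33, 29, 32], [3, 7, 7, 2, 7, 3, 6, 6, 3, 3, 7]⟩], [56, 55, 56, 55, 52]⟩,
    ⟨[2], 7, [⟨99, [], [2]⟩, ⟨54, [32, 29, 27], [6, 3, 6, 2, 2, 7, 7, 2, 7, 7, 2, 6]⟩, ⟨86, [38, 36, 40], [2, 2, 2, 7, 7, 2, 2, 7, 7, 2, 7, 2]⟩], [55, 53, 55, 53, 54, 54]⟩,
    ⟨[7], 24, [⟨99, [], [7]⟩, ⟨52, [31, 32], [2, 6, 3, 7, 7, 2, 6, 3, 7, 2, 6]⟩, ⟨86, [], [7, 7, 2, 7, 3, 6, 3, 3, 7, 7, 2, 2, 7]⟩], [54, 54, 54, 54, 54]⟩,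
    ⟨[3, 3], 20, [⟨99, [], [3, 3]⟩, ⟨57, [33, 31], [2, 2, 2, 7, 7, 2, 2, 6, 2, 7, 2, 2]⟩, ⟨86, [40, 39], [7, 7, 2, 6, 2, 2, 2, 6, 6, 3, 6, 2, 7]⟩], [54, 54, 54, 54]⟩,
    ⟨[3, 6], 57, [⟨99, [], [3, 6]⟩, ⟨57, [33, 29], [3, 6, 6, 3, 6, 2, 7, 3, 6, 6, 2, 2, 6, 2]⟩, ⟨86, [40, 36, 38, 35], [2, 7, 7, 7, 2, 2, 7, 3, 3, 6, 6]⟩], [55, 55, 55, 55, 55]⟩,
    ⟨[6, 6], 69, [⟨99, [], [6, 6]⟩, ⟨57, [34, 32, 27], [2, 2, 6, 3, 3, 6, 6, 3, 6, 2, 7]⟩, ⟨86, [39], [6, 3, 3, 6, 6, 2, 2, 2, 7, 2, 6]⟩], [55, 53, 54, 54]⟩,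
    ⟨[2, 2], 16, [⟨99, [], [2, 2]⟩, ⟨59, [33, 29, 27, 27], [3, 7, 2, 6, 3, 6, 2, 2, 7, 3]⟩, ⟨96, [54, 54, 52, 55, 52], [2, 7, 7, 2, 6, 3, 7, 2, 2]⟩], [55, 53, 54, 53]⟩,
    ⟨[7, 7], 61, [⟨99, [], [7, 7]⟩, ⟨55, [28, 27, 27], [6, 3, 7, 3, 3, 7, 7, 2, 6]⟩, ⟨86, [39, 39], [3, 6, 3, 3, 6, 2, 7, 3, 6, 6, 2]⟩], [54, 53, 55]⟩,
    ⟨[2, 2, 2], 42, [⟨99, [], [2, 2, 2]⟩, ⟨59, [27, 34, 31], [2, 7, 2, 7, 3, 6, 2, 7, 2, 6, 2, 7, 2]⟩, ⟨96, [55, 53, 55, 53, 54, 52], [7, 2, 2, 7, 3, 3, 6, 6, 3, 7, 2, 7, 3]⟩], [52, 55, 55, 53, 55]⟩,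
    ⟨[3, 3, 6], 227, [⟨99, [], [3, 3, 6]⟩, ⟨60, [34, 28, 30], [6, 3, 3, 7, 2, 2, 6, 6, 3, 7, 7, 2, 2, 2]⟩, ⟨76, [40, 36, 40], [6, 6, 2, 2, 7, 3, 6, 2, 2, 7, 2, 6, 6]⟩], [55, 56, 54, 53, 55, 52]⟩,
    ⟨[3, 3, 7], 127, [⟨99, [], [3, 3, 7]⟩, ⟨61, [34, 34, 28], [7, 7, 3, 3, 6, 3, 3, 7, 2, 7, 3]⟩, ⟨59, [31, 31, 33], [6, 3, 6, 6, 2, 2, 6, 3, 3, 7, 2, 2]⟩], [54, 54, 52, 55]⟩,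
    ⟨[6, 6, 3], 145, [⟨99, [], [6, 6, 3]⟩, ⟨60, [33, 32, 31, 30], [2, 7, 7, 3, 6, 6, 2, 2, 6, 2, 7, 7]⟩, ⟨86, [38, 36, 35, 35], [3, 6, 2, 7, 7, 7, 2, 7, 2]⟩], [55, 53, 54, 53]⟩,
    ⟨[7, 7, 7], 132, [⟨99, [], [7, 7, 7]⟩, ⟨59, [33, 29, 32], [2, 2, 6, 2, 7, 3, 3, 6, 3, 7, 2, 6, 2, 7]⟩, ⟨96, [55, 53, 55, 52], [2, 2, 7, 3, 3, 6, 2, 2, 6, 2, 2, 7]⟩], [52, 55, 55, 53, 55, 53, 54]⟩,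
    ⟨[2, 2, 7], 179, [⟨99, [], [2, 2, 7]⟩, ⟨59, [33, 30, 30], [6, 6, 2, 7, 2, 6, 3, 6, 2, 2]⟩, ⟨100, [56, 54, 56], [3, 3, 7, 2, 6, 2, 2, 6, 2]⟩], [54, 53, 54, 53]⟩,
    ⟨[7, 7, 2], 126, [⟨99, [], [7, 7, 2]⟩, ⟨61, [28, 27, 28], [7, 2, 7, 2, 6, 3, 6, 6, 2, 2, 7, 2, 2]⟩, ⟨59, [34, 32, 29], [3, 6, 3, 7, 7, 7, 3, 3, 6, 2, 7]⟩], [53, 55, 53, 54, 54, 52]⟩,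
    ⟨[2, 2, 2, 6], 398, [⟨99, [], [2, 2, 2, 6]⟩, ⟨51, [29, 30, 30], [7, 3, 6, 6, 3, 7, 7, 2, 7, 3, 6, 6, 2]⟩, ⟨59, [27, 33, 27], [3, 7, 2, 7, 2, 2, 2, 7, 2, 6, 2, 7]⟩], [55, 53, 54, 53]⟩,
    ⟨[3, 3, 6, 3], 464, [⟨99, [], [3, 3, 6, 3]⟩, ⟨56, [30], [3, 7, 2, 7, 2, 2]⟩, ⟨44, [22, 20, 22, 23], [7, 2, 2, 7, 2, 2, 6, 6, 3, 6]⟩], [54, 54, 54, 54]⟩,
    ⟨[3, 3, 6, 2], 463, [⟨99, [], [3, 3, 6, 2]⟩, ⟨60, [33, 27, 27, 27], [7, 7, 3, 3, 7, 2, 2, 2, 6, 2, 7, 7]⟩, ⟨86, [39, 36], [7, 7, 2, 6, 6, 3, 3, 6, 6, 3, 6]⟩], [56, 54, 56, 55, 52]⟩,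
    ⟨[6, 6, 3, 6], 998, [⟨99, [], [6, 6, 3, 6]⟩, ⟨56, [27, 28], [7, 2, 7, 3, 6, 6, 3, 6, 6]⟩, ⟨44, [22, 20, 15, 20], [7, 3, 6, 3, 7, 2, 2, 6, 3, 7, 3, 3, 6]⟩], [53, 55, 53, 54, 54, 52]⟩,
    ⟨[6, 6, 3, 7], 996, [⟨99, [], [6, 6, 3, 7]⟩, ⟨60, [29, 30, 34], [3, 3, 6, 6, 2, 7, 7, 3, 3, 6, 2, 2, 2]⟩, ⟨76, [39, 39, 37], [6, 6, 2, 7, 7, 2, 6, 6, 3, 6, 2, 7, 7, 7, 2]⟩], [54, 56, 54, 53, 55, 52]⟩,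
    ⟨[7, 7, 7, 3], 283, [⟨99, [], [7, 7, 7, 3]⟩, ⟨57, [33, 32, 29], [3, 7, 7, 2, 6, 6, 3, 3, 7, 3, 3, 7, 2]⟩, ⟨82, [37], [6, 6, 2, 7, 7, 2, 2, 2, 6, 6]⟩], [54, 52, 54, 54]⟩,
    ⟨[2, 2, 7, 3], 374, [⟨99, [], [2, 2, 7, 3]⟩, ⟨59, [34, 27, 31], [6, 2, 2, 7, 7, 2, 2, 6, 6, 3, 7]⟩, ⟨100, [53, 55], [3, 3, 7, 2, 2, 6, 3, 6, 2, 7, 7, 2]⟩], [55, 53, 54, 52]⟩,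
    ⟨[7, 7, 2, 6], 872, [⟨99, [], [7, 7, 2, 6]⟩, ⟨61, [32, 27], [3, 3, 7, 2, 2, 2, 7, 7, 2, 6, 3, 7]⟩, ⟨59, [34, 31, 31, 27], [7, 7, 7, 2, 2, 7, 7, 3, 6, 6]⟩], [54, 52, 55, 53, 54, 54]⟩,
    ⟨[2, 2, 2, 6, 3], 711, [⟨99, [], [2, 2, 2, 6, 3]⟩, ⟨61, [28, 28, 27], [3, 3, 6, 3, 3, 7, 7, 2, 6, 3, 7, 2, 7]⟩, ⟨59, [27, 33, 29], [6, 3, 3, 7, 2, 6, 3, 3, 6, 3, 7]⟩], [53, 52, 54, 53, 54, 53]⟩,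
    ⟨[3, 3, 6, 2, 7, 3], 269, [⟨99, [], [3, 3, 6, 2, 7, 3]⟩, ⟨55, [29, 30], [7, 3, 6, 3, 7, 2, 7, 3, 3, 7, 3, 3, 7, 2, 2]⟩, ⟨76, [39, 36], [6, 2, 2, 2, 6, 2, 2, 6, 3, 3, 7, 2, 7]⟩], [55, 55, 56, 54, 54, 52]⟩,
    ⟨[6, 6, 3, 7, 2, 6], 361, [⟨99, [], [6, 6, 3, 7, 2, 6]⟩, ⟨61, [29, 27], [7, 7, 2, 2, 6, 2, 2, 2]⟩, ⟨59, [28, 33, 30], [3, 7, 2, 2, 6, 3, 6, 6, 2, 7, 7]⟩], [55, 52, 55, 52, 54, 52]⟩,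
    ⟨[3, 3, 6, 2, 7, 3, 3], 165, [⟨99, [], [3, 3, 6, 2, 7, 3, 3]⟩, ⟨53, [27, 31], [6, 6, 3, 3, 7, 2, 2, 2, 6, 2, 7, 7]⟩, ⟨44, [21, 20, 15, 20], [6, 6, 3, 7, 7, 3, 6, 6, 2, 7, 2, 6, 2]⟩], [54, 53, 55]⟩,
    ⟨[3, 3, 6, 2, 7, 3, 6, 3], 632, [⟨99, [], [3, 3, 6, 2, 7, 3, 6, 3]⟩, ⟨60, [31, 27, 34], [6, 3, 6, 2, 2, 6, 2, 7, 7, 3, 3, 7]⟩, ⟨86, [39, 35], [7, 3, 6, 6, 2, 7, 2, 6, 3, 7, 2, 6, 2, 2]⟩], [53, 52]⟩],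
   [([0], [8]), ([0], [28]), ([0], [20]), ([0], [69]), ([0], [42]), ([0], [227]), ([0], [127]), ([0], [145]), ([0], [132]), ([0], [179]), ([0], [126]), ([0], [398]), ([0], [464]), ([0], [463]), ([0], [998]), ([0], [996]), ([0], [283]), ([0], [374]), ([0], [872]), ([0], [711])]⟩,
  ⟨[⟨[], 3, [⟨100, [], []⟩, ⟨100, [55, 53, 54], [6, 6, 3, 3, 6, 6, 2, 7, 7, 2, 7, 7, 7]⟩, ⟨96, [55, 52, 54, 53, 54], [7, 7, 2, 2, 6, 2, 7, 3]⟩], [52, 54, 53, 52, 55]⟩,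
    ⟨[3], 8, [⟨100, [], [3]⟩, ⟨99, [54, 54, 54, 53], [7, 3, 3, 6, 6, 3, 3, 7, 2, 2, 6]⟩, ⟨59, [28, 34, 27, 27], [7, 2, 7, 7, 2, 2, 7, 3, 3, 7, 2]⟩], [54, 54, 54, 54, 54]⟩,
    ⟨[6], 28, [⟨100, [], [6]⟩, ⟨97, [55, 55, 53], [3, 7, 3, 6, 3, 3, 7, 3, 6, 3, 7, 2, 6]⟩, ⟨86, [35, 35, 38], [7, 2, 6, 3, 3, 7, 2, 2, 7, 2, 2, 6, 6, 2]⟩], [55, 52, 54, 52, 55, 55]⟩,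
    ⟨[2], 7, [⟨100, [], [2]⟩, ⟨95, [52, 54, 52, 54], [3, 6, 6, 3, 7, 2, 6, 2, 7, 7]⟩, ⟨76, [39, 35], [3, 7, 7, 2, 6, 6, 2, 2, 7, 3, 3, 6, 6, 2]⟩], [55, 55, 56, 54, 54, 53]⟩,
    ⟨[7], 24, [⟨100, [], [7]⟩, ⟨98, [52, 54, 56, 54, 56], [3, 6, 6, 3, 7, 7, 2, 7, 7, 2]⟩, ⟨44, [20, 20, 23, 15], [2, 2, 7, 2, 2, 7]⟩], [55, 55, 52, 54, 52, 54]⟩,
    ⟨[3, 3], 20, [⟨100, [], [3, 3]⟩, ⟨94, [52, 54, 54, 52], [3, 7, 2, 7, 7, 2, 6, 3, 7, 7, 7]⟩, ⟨82, [39, 35, 39, 35], [2, 2, 2, 7, 2, 7, 7, 3, 3, 7, 2, 2, 2]⟩], [52, 55, 55, 53, 55]⟩,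
    ⟨[6, 6], 69, [⟨100, [], [6, 6]⟩, ⟨96, [54, 56, 54, 56, 54, 52], [3, 3, 6, 2, 7, 2, 6, 3, 7, 2]⟩, ⟨100, [52, 54, 54], [3, 6, 2, 7, 2, 6, 2, 7, 2, 2, 2, 7, 2]⟩], [54, 54, 52, 55, 52]⟩,
    ⟨[2, 2], 16, [⟨100, [], [2, 2]⟩, ⟨97, [52, 54, 52, 55], [7, 2, 7, 7, 2, 7, 7, 3, 6, 3, 7]⟩, ⟨86, [35, 38, 40], [7, 2, 7, 7, 3, 6, 6, 3, 3, 6, 2, 2, 7, 7, 2]⟩], [52, 54, 54, 52, 54]⟩,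
    ⟨[3, 3, 6], 227, [⟨100, [], [3, 3, 6]⟩, ⟨100, [52, 54, 53, 52], [2, 2, 7, 3, 6, 2, 7, 7, 3, 6, 2, 7, 2, 7, 7]⟩, ⟨100, [55, 53, 55, 53], [3, 6, 3, 3, 6, 2, 7, 7, 7, 2, 2, 7]⟩], [55, 56, 55, 56, 55, 53, 52]⟩,
    ⟨[2, 2, 7], 179, [⟨100, [], [2, 2, 7]⟩, ⟨99, [55, 53, 54], [2, 6, 3, 6, 6, 2, 7, 2, 6, 3]⟩, ⟨59, [34, 27, 27], [7, 3, 6, 3, 3, 6, 2, 2, 2, 6, 6, 2]⟩], [53, 55]⟩],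
   [([0], [3]), ([0], [711]), ([0], [126]), ([0], [373]), ([0], [8]), ([0], [127]), ([0], [655]), ([0], [536]), ([0], [28]), ([0], [57]), ([0], [282]), ([0], [452]), ([0], [7]), ([0], [269]), ([0], [395]), ([0], [374]), ([0], [24]), ([0], [566]), ([0], [132]), ([0], [377]), ([0], [20]), ([0], [317]), ([0], [872]), ([0], [464]), ([0], [69]), ([0], [463]), ([0], [516]), ([0], [42]), ([0], [16]), ([0], [272]), ([0], [710]), ([0], [632]), ([0], [227]), ([0], [704]), ([0], [998]), ([0], [1102]), ([0], [179]), ([0], [789]), ([0], [869]), ([0], [703])]⟩]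
theorem c_r0_28 : relAll tab 83 1408 HNU.base HNU.ph HNU.phI st rel0 3 om0 es28 cs28 rs0_28 = true := by decide +kernel
theorem c_rel0 : ∃ rs, relAll tab 83 1408 HNU.base HNU.ph HNU.phI st rel0 3 om0 st.edges cs rs = true :=
  ⟨_, (relAll_append c_r0_0 (relAll_append c_r0_1 (relAll_append c_r0_2 (relAll_append c_r0_3 (relAll_append c_r0_4 (relAll_append c_r0_5 (relAll_append c_r0_6 (relAll_append c_r0_7 (relAll_append c_r0_8 (relAll_append c_r0_9 (relAll_append c_r0_10 (relAll_append c_r0_11 (relAll_append c_r0_12 (relAll_append c_r0_13 (relAll_append c_r0_14 (relAll_append c_r0_15 (relAll_append c_r0_16 (relAll_append c_r0_17 (relAll_append c_r0_18 (relAll_append c_r0_19 (relAll_append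 c_r0_20 (relAll_append c_r0_21 (relAll_append c_r0_22 (relAll_append c_r0_23 (relAll_append c_r0_24 (relAll_append c_r0_25 (relAll_append c_r0_26 (relAll_append c_r0_27 c_r0_28))))))))))))))))))))))))))))⟩

end Cfsg.Agent.Lib.HNM
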