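import Cfsg.Agent.Lib.HNMD

set_option autoImplicit false
set_option linter.all false
set_option maxRecDepth 100000

namespace Cfsg.Agent.Lib.HNM
open Cfsg.Agent.Lib.Dce Cfsg.Agent.Lib.HNT

/-- relator -/
def rel2 : List Tok := [.t, .t, .t, .t, .t]
def om2 : ℕ := 0x1
theorem c_b2 : relB tab 83 1408 HNU.base HNU.ph HNU.phI 126000 rel2 0 om2 []
  [([2], []), ([7], [])]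
  [⟨99, [([0], [99]), ([1], [99]), ([0], [216, 506]), ([1], [216, 506]), ([0], [448, 332, 500, 450]), ([1], [448, 332, 500, 450]), ([0], [780, 616, 849, 785, 1128, 627, 1015, 786]), ([1], [780, 616, 849, 785, 1128, 627, 1015, 786]), ([0], [445, 1017, 759, 1185, 723, 935, 610, 479, 776, 1267, 828, 735, 894, 934, 1147]), ([1], [445, 1017, 759, 1185, 723, 935, 610, 479, 776, 1267, 828, 330, 735, 894, 934, 1147]), ([0], [433, 1093, 1129, 1047, 344, 427, 595, 898, 1141, 582, 1158, 819, 636, 752, 347, 368, 979, 821, 844, 1340, 749, 354, 784, 1255, 1217, 754]), ([1], [215, 612, 1093, 1129, 1047, 427, 595, 898, 1160, 1141, 1021, 582, 1158, 819, 636, 752, 347, 368, 979, 366, 1340, 749, 354, 784,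 1255, 1217]), ([0], [694, 1379, 633, 753, 993, 535, 866, 1146, 687, 160, 1136, 1215, 1221, 1264, 167, 1183, 886, 1401, 779, 1169, 1378, 1348, 1356, 763, 922, 565, 1351, 1296, 299, 697, 1162, 292, 1198, 458, 502, 155, 1263, 408, 352, 473]), ([1], [694, 1379, 658, 633, 753, 993, 535, 866, 800, 687, 1037, 1087, 160, 659, 1215, 1221, 1264, 1157, 167, 1183, 886, 1401, 779, 1169, 1187, 1356, 922, 565, 1351, 299, 292, 831, 1198, 458, 502, 1263, 851, 408, 352]), ([0], [1354, 1034, 1138, 515, 740, 1051, 348, 1039, 1082, 836, 893, 355, 1380, 469, 1036, 1170, 484, 1216, 949, 936, 505, 392, 757, 558, 963, 801, 367, 339, 945, 726, 514, 234, 296, 588, 474, 1396, 923, 649, 578, 493, 897, 684, 359,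 429, 737, 245, 307, 965, 773, 444, 991, 1145, 941, 608, 959, 1094, 350, 643, 442, 797, 722, 246, 889, 1386, 1122]), ([1], [1138, 899, 740, 1051, 1039, 1082, 836, 893, 822, 1380, 469, 769, 1216, 1041, 936, 757, 801, 339, 945, 588, 861, 578, 493, 684, 359, 925, 737, 1339, 245, 1022, 307, 965, 773, 1145, 959, 350, 442, 797, 722, 1386, 1122]), ([0], [732, 839, 417, 755, 772, 1387, 635, 852, 630, 1306, 556, 698, 1086, 437, 628, 1302, 847, 334, 952, 489, 1374, 794, 966, 838, 240, 207, 1143, 488, 140, 441, 777, 1281, 862, 1140, 1013, 620, 1218, 353, 1127, 114, 1235, 719, 1163, 824, 1285, 569, 1315, 1137, 385, 834, 624, 825, 1150, 1018, 1078, 924, 854, 586, 486, 1262, 419, 1294, 1026, 968, 423,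 495, 992, 1393]), ([1], [549, 755, 772, 530, 635, 852, 1400, 556, 698, 437, 1291, 1302, 847, 334, 449, 561, 952, 1374, 838, 240, 1290, 441, 777, 1140, 1013, 620, 587, 353, 775, 114, 719, 824, 1285, 1174, 1042, 569, 834, 625, 624, 825, 1150, 482, 586, 486, 1262, 419, 992]), ([0], [1282, 937, 830, 747, 1020, 618, 1118, 1027, 357, 1159, 837, 308, 511, 940, 1342, 418, 858, 954, 1014, 476, 744, 729, 943, 1040, 843, 1144, 1365, 1230, 1090, 736, 626, 787, 1133, 973, 1220, 440, 1362, 829, 364, 1197, 961, 853, 579, 1088, 981, 835, 892, 553]), ([1], [1118, 480, 308, 858, 1394, 637, 623, 842, 972, 1375, 1362, 364, 1325, 981]), ([0], [1156, 1305, 716, 585, 1258, 609, 422, 411, 641, 1384, 481, 1167,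 606, 306, 955, 581, 457, 1295]), ([1], [1297, 1305, 1142, 1258, 422, 1384, 1091, 581]), ([0], [974, 420])]⟩,
  ⟨21, [([0, 0, 1, 0, 0, 0, 1, 0], [21]), ([0, 0, 0, 1, 1, 1, 0, 0, 0], [21]), ([1, 1, 1, 0, 1, 0, 0, 1, 0, 0], [21]), ([0, 0, 1, 0, 0, 0, 1, 0], [375, 532]), ([0, 0, 0, 1, 1, 1, 0, 0, 0], [45, 532]), ([1, 1, 1, 0, 1, 0, 0, 1, 0, 0], [45, 375, 532]), ([0, 0, 1, 0, 0, 0, 1, 0], [793, 673, 1389, 1245, 303]), ([0, 0, 0, 1, 1, 1, 0, 0, 0], [316, 250, 1389, 1245, 303]), ([1, 1, 1, 0, 1, 0, 0, 1, 0, 0], [316, 250, 793, 673]), ([0, 0, 1, 0, 0, 0, 1, 0], [975, 468, 813, 1105, 1049, 1265, 693, 1151, 1327]), ([0, 0, 0, 1, 1, 1, 0, 0, 0], [175, 750, 256, 1054, 287, 1265, 693, 1151, 1327]),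 ([1, 1, 1, 0, 1, 0, 0, 1, 0, 0], [175, 750, 256, 1054, 287, 975, 468, 813, 1105, 1049]), ([0, 0, 1, 0, 0, 0, 1, 0], [1223, 477, 715, 913, 148, 237, 280, 258, 544, 1333]), ([0, 0, 0, 1, 1, 1, 0, 0, 0], [1300, 1406, 1103, 1208, 670, 681, 1256, 170, 148, 237, 280, 258, 320, 544, 456, 1333, 676, 1164]), ([1, 1, 1, 0, 1, 0, 0, 1, 0, 0], [1114, 1300, 1406, 1103, 1208, 670, 681, 1256, 170, 564, 248, 534, 197, 939]), ([0, 0, 1, 0, 0, 0, 1, 0], [533, 730, 221, 293, 67, 1388, 827, 264, 539, 621, 1314, 1361, 335, 647, 391, 672]), ([0, 0, 0, 1, 1, 1, 0, 0, 0], [1332, 281, 333, 574, 335, 672]), ([1, 1, 1, 0, 1, 0, 0, 1, 0, 0], [497, 1070, 1319, 1069, 131, 293, 827]), ([0, 0, 1, 0, 0, 0, 1, 0], [1346])]⟩,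
  ⟨3, [([1, 1, 1, 0, 1, 0, 0, 1, 0, 0, 1, 1, 1, 0, 1, 0, 0, 1, 0, 0, 0, 0, 1, 0, 0, 0, 1, 0, 0, 0, 0, 1, 1, 1, 0, 0, 0, 1, 1, 1, 0, 1, 0, 0, 1, 0, 0], [3])]⟩] = true := by decide +kernel
def rs2_0 : List RE := [
  ⟨[⟨[], 0, [⟨0, [], []⟩, ⟨1, [], []⟩, ⟨3, [], []⟩, ⟨2, [], []⟩, ⟨5, [], []⟩], []⟩],
   []⟩,
  ⟨[⟨[], 0, [⟨1, [], []⟩, ⟨3, [], []⟩, ⟨2, [], []⟩, ⟨5, [], []⟩, ⟨0, [], []⟩], []⟩],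
   []⟩]
theorem c_r2_0 : relAll tab 83 1408 HNU.base HNU.ph HNU.phI st rel2 0 om2 es0 cs0 rs2_0 = true := by decide +kernel
def rs2_1 : List RE := [
  ⟨[⟨[], 0, [⟨2, [], []⟩, ⟨5, [], []⟩, ⟨0, [], []⟩, ⟨1, [], []⟩, ⟨3, [], []⟩], []⟩],
   []⟩,
  ⟨[⟨[], 0, [⟨3, [], []⟩, ⟨2, [], []⟩, ⟨5, [], []⟩, ⟨0, [], []⟩, ⟨1, [], []⟩], []⟩],
   []⟩,
  ⟨[⟨[], 0, [⟨4, [], []⟩, ⟨8, [], []⟩, ⟨14, [5], []⟩, ⟨27, [4], []⟩, ⟨13, [], []⟩], []⟩],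
   []⟩]
theorem c_r2_1 : relAll tab 83 1408 HNU.base HNU.ph HNU.phI st rel2 0 om2 es1 cs1 rs2_1 = true := by decide +kernel
def rs2_2 : List RE := [
  ⟨[⟨[], 0, [⟨5, [], []⟩, ⟨0, [], []⟩, ⟨1, [], []⟩, ⟨3, [], []⟩, ⟨2, [], []⟩], []⟩],
   []⟩,
  ⟨[⟨[], 0, [⟨6, [], []⟩, ⟨12, [], []⟩, ⟨15, [5], []⟩, ⟨7, [], []⟩, ⟨26, [4], []⟩], []⟩],
   []⟩,
  ⟨[⟨[], 0, [⟨7, [], []⟩, ⟨26, [4], []⟩, ⟨6, [], []⟩, ⟨12, [], []⟩, ⟨15, [5], []⟩], []⟩],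
   []⟩,
  ⟨[⟨[], 0, [⟨8, [], []⟩, ⟨14, [5], []⟩, ⟨27, [4], []⟩, ⟨13, [], []⟩, ⟨4, [], []⟩], []⟩],
   []⟩]
theorem c_r2_2 : relAll tab 83 1408 HNU.base HNU.ph HNU.phI st rel2 0 om2 es2 cs2 rs2_2 = true := by decide +kernel
def rs2_3 : List RE := [
  ⟨[⟨[], 0, [⟨9, [], []⟩, ⟨21, [5, 18], [7, 3, 6, 6, 3, 6, 6, 2, 2, 7, 3, 6, 6, 2, 2]⟩, ⟨32, [23, 21], [2, 7, 7, 2, 2, 7, 7, 2, 7]⟩, ⟨31, [], [6, 3, 3, 6, 3, 7, 2, 7, 3, 3, 6, 2, 7]⟩, ⟨20, [9, 5, 10], [7, 2, 7, 3, 3, 6, 6, 3, 7, 7, 2, 2]⟩], [3, 3, 7, 2, 6, 2, 2, 2]⟩],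
   []⟩,
  ⟨[⟨[], 0, [⟨10, [], []⟩, ⟨30, [], []⟩, ⟨24, [], [2, 7, 2, 6, 6, 3, 3, 6, 2, 2, 7, 7]⟩, ⟨23, [5], [3, 6, 3, 3, 6, 3, 7, 7, 7, 2, 2, 7, 3]⟩, ⟨34, [], [7, 7, 3, 6, 6, 2, 2, 6, 2, 7, 2, 7, 7]⟩], [3, 7, 2, 6, 3, 3, 7, 7, 2, 7, 2, 6, 2, 2]⟩],
   []⟩,
  ⟨[⟨[], 0, [⟨11, [], []⟩, ⟨46, [], []⟩, ⟨48, [], [3, 6, 3, 7, 2, 7, 7, 2, 2, 2, 6, 2]⟩, ⟨47, [], [2, 6, 3, 7, 2, 2, 6, 3, 7, 2, 7, 7, 3]⟩, ⟨50, [], [2, 7, 2, 7, 3, 6, 6, 2, 2, 6, 2, 7]⟩], [6, 2, 2, 7, 7, 2, 6, 2, 2, 6, 6, 2]⟩],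
   []⟩,
  ⟨[⟨[], 0, [⟨12, [], []⟩, ⟨15, [5], []⟩, ⟨7, [], []⟩, ⟨26, [4], []⟩, ⟨6, [], []⟩], []⟩],
   []⟩,
  ⟨[⟨[], 0, [⟨13, [], []⟩, ⟨4, [], []⟩, ⟨8, [], []⟩, ⟨14, [5], []⟩, ⟨27, [4], []⟩], []⟩],
   []⟩]
theorem c_r2_3 : relAll tab 83 1408 HNU.base HNU.ph HNU.phI st rel2 0 om2 es3 cs3 rs2_3 = true := by decide +kernel
def rs2_4 : List RE := [
  ⟨[⟨[], 0, [⟨14, [], []⟩, ⟨27, [4], []⟩, ⟨13, [], []⟩, ⟨4, [], []⟩, ⟨8, [], []⟩], [5]⟩],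
   []⟩,
  ⟨[⟨[], 0, [⟨15, [], []⟩, ⟨7, [], []⟩, ⟨26, [4], []⟩, ⟨6, [], []⟩, ⟨12, [], []⟩], [5]⟩],
   []⟩,
  ⟨[⟨[], 0, [⟨16, [], []⟩, ⟨33, [26], [7, 2, 2, 6, 3, 6, 6, 3, 7, 2, 7, 2]⟩, ⟨19, [9, 17, 10], [7, 2, 7, 7, 2, 7, 7, 3, 3, 7, 7, 2, 7]⟩, ⟨68, [38, 36, 39], [6, 3, 3, 7, 7, 2, 6, 3, 3, 7, 2, 2]⟩, ⟨67, [], [7, 2, 7, 2, 2, 7, 2, 2, 2, 7, 2]⟩], [13, 8, 8, 18, 10]⟩],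
   []⟩,
  ⟨[⟨[], 0, [⟨17, [], []⟩, ⟨18, [5], [7, 2, 7, 3, 6, 6, 3, 7, 7, 2, 6, 2, 2]⟩, ⟨71, [], [7, 2, 7, 2, 6, 2, 2, 6, 3, 3, 6, 2, 2]⟩, ⟨35, [], [2, 7, 2, 2, 6, 2, 7, 2, 2, 2, 6]⟩, ⟨65, [36], [2, 2, 7, 2, 7, 7, 2, 2, 7, 2, 2]⟩], [8, 18, 8, 13, 13]⟩],
   []⟩,
  ⟨[⟨[], 0, [⟨18, [], []⟩, ⟨71, [], [2, 6, 6, 2, 2, 7, 3, 3, 7, 3, 6, 3]⟩, ⟨35, [], [2, 6, 3, 6, 6, 2, 2, 7, 7, 2, 6, 2, 7]⟩, ⟨65, [36], [7, 3, 6, 3, 7, 7, 7, 3, 3, 7, 3, 3, 7]⟩, ⟨17, [9, 17, 10], [3, 6, 2, 7, 7, 2, 7, 7, 3, 6, 3, 3]⟩], [17, 10, 13, 10, 5]⟩],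
   []⟩]
theorem c_r2_4 : relAll tab 83 1408 HNU.base HNU.ph HNU.phI st rel2 0 om2 es4 cs4 rs2_4 = true := by decide +kernel
def rs2_5 : List RE := [
  ⟨[⟨[], 0, [⟨19, [], []⟩, ⟨68, [38, 36, 39], [2, 7, 3, 6, 3, 7, 3, 6, 3, 3, 6]⟩, ⟨67, [], [7, 2, 7, 7, 2, 6, 3, 7, 2, 2, 7]⟩, ⟨16, [], [2, 7, 7, 2, 7, 7, 3, 3, 7, 7, 2, 7, 7, 2, 2]⟩, ⟨33, [26], [3, 3, 6, 6, 3, 3, 6, 6, 3, 6, 2]⟩], [17, 17, 13, 9, 9, 17]⟩],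
   []⟩,
  ⟨[⟨[], 0, [⟨20, [], []⟩, ⟨9, [3, 3, 7, 2, 6, 2, 2, 2], [3, 3, 6, 6, 2, 7, 7, 2, 2, 6, 3, 6]⟩, ⟨21, [5, 18], [6, 3, 6, 6, 2, 2, 6, 6, 3, 6, 6, 3]⟩, ⟨32, [23, 21], [7, 7, 2, 2, 6, 6, 2, 2, 7, 7, 2]⟩, ⟨31, [], [2, 2, 2, 6, 3, 7, 2, 7, 7, 3, 3, 7]⟩], [9, 5, 10]⟩],
   []⟩,
  ⟨[⟨[], 0, [⟨21, [], []⟩, ⟨32, [23, 21], [3, 3, 6, 6, 3, 7, 7, 3, 6, 6, 3, 7, 7, 3, 3]⟩, ⟨31, [], [2, 6, 3, 7, 2, 6, 2, 7, 7]⟩, ⟨20, [9, 5, 10], [2, 7, 7, 2, 7, 7, 3, 3, 7, 7, 2, 7]⟩, ⟨9, [3, 3, 7, 2, 6, 2, 2, 2], [7, 7, 2, 6, 3, 7, 2, 2, 6, 3, 7, 2, 7, 2, 2]⟩], [5, 18]⟩],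
   []⟩,
  ⟨[⟨[], 0, [⟨22, [], []⟩, ⟨72, [35], [7, 7, 3, 3, 6, 2, 2, 7, 7, 3, 6]⟩, ⟨51, [], [2, 6, 2, 7, 3, 6, 6, 3, 6, 2, 2, 2]⟩, ⟨52, [34, 27], [3, 7, 2, 6, 3, 6, 6, 2, 2, 7, 7, 2, 2]⟩, ⟨74, [36, 35], [2, 6, 6, 2, 2, 7, 2, 2, 2]⟩], [18, 10, 13, 10, 13, 10]⟩],
   []⟩]
theorem c_r2_5 : relAll tab 83 1408 HNU.base HNU.ph HNU.phI st rel2 0 om2 es5 cs5 rs2_5 = true := by decide +kernel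
def rs2_6 : List RE := [
  ⟨[⟨[], 0, [⟨23, [], []⟩, ⟨34, [], [2, 2, 7, 7, 2, 6, 6, 2, 2, 2, 6]⟩, ⟨10, [7, 3, 6, 2, 7, 2, 2, 2], [3, 7, 2, 6, 3, 3, 7, 7, 7, 2, 2, 7, 3]⟩, ⟨30, [], [3, 7, 2, 6, 3, 3, 7, 7, 7, 2, 2, 7, 3]⟩, ⟨24, [], [3, 6, 3, 7, 2, 2, 7, 2, 2, 2, 7, 2]⟩], [8, 5, 9, 18, 8]⟩],
   []⟩,
  ⟨[⟨[], 0, [⟨24, [], []⟩, ⟨23, [5], [7, 3, 3, 6, 3, 7, 3, 3, 6, 6, 2, 2]⟩, ⟨34, [], [7, 3, 6, 6, 2, 2, 7, 7, 2, 2, 6, 3, 7, 2]⟩, ⟨10, [7, 3, 6, 2, 7, 2, 2, 2], [3, 7, 7, 2, 7, 3, 6, 2, 7, 7]⟩, ⟨30, [], [3, 7, 7, 2, 7, 3, 6, 2, 7, 7]⟩], [10, 8, 10, 18]⟩],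
   []⟩,
  ⟨[⟨[], 0, [⟨25, [], []⟩, ⟨54, [28, 33], [3, 6, 2, 7, 2, 6, 3, 3, 6, 2, 2, 6]⟩, ⟨69, [38, 36], [2, 6, 3, 7, 2, 2, 7, 7, 3, 3, 7, 7]⟩, ⟨80, [38, 40], [6, 3, 3, 6, 3, 7, 2, 2, 6, 2, 7, 2, 7, 3]⟩, ⟨49, [34, 32, 27], [2, 6, 3, 3, 7, 3, 6, 3, 7, 2, 2, 2]⟩], [9, 17, 13, 10, 18, 10]⟩],
   []⟩,
  ⟨[⟨[], 0, [⟨26, [], []⟩, ⟨6, [], []⟩, ⟨12, [], []⟩, ⟨15, [5], []⟩, ⟨7, [], []⟩], [4]⟩],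
   []⟩]
theorem c_r2_6 : relAll tab 83 1408 HNU.base HNU.ph HNU.phI st rel2 0 om2 es6 cs6 rs2_6 = true := by decide +kernel
def rs2_7 : List RE := [
  ⟨[⟨[], 0, [⟨27, [], []⟩, ⟨13, [], []⟩, ⟨4, [], []⟩, ⟨8, [], []⟩, ⟨14, [5], []⟩], [4]⟩],
   []⟩,
  ⟨[⟨[], 0, [⟨28, [], []⟩, ⟨42, [23], [7, 7, 2, 6, 3, 7, 2, 2, 6, 2]⟩, ⟨64, [38], [7, 2, 7, 7, 2, 6, 3, 7, 2, 2, 7, 2]⟩, ⟨63, [], [7, 2, 7, 7, 3, 3, 6, 3, 3, 7]⟩, ⟨36, [16, 16], [6, 2, 7, 7, 3, 3, 7, 7, 2, 7, 3, 3, 7]⟩], [25, 12, 12, 24, 9, 25, 19]⟩],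
   []⟩,
  ⟨[⟨[], 0, [⟨29, [], []⟩, ⟨62, [], []⟩, ⟨37, [], [3, 6, 3, 7, 3, 3, 7, 2, 2, 7, 7, 3]⟩, ⟨38, [21], [6, 6, 3, 7, 3, 6, 2, 7, 7, 2, 6, 6, 2, 2, 2]⟩, ⟨66, [], [6, 2, 7, 2, 2, 6, 6, 3, 3, 6]⟩], [10, 24, 24, 9, 19, 10]⟩],
   []⟩,
  ⟨[⟨[], 0, [⟨30, [], []⟩, ⟨24, [], [2, 7, 2, 6, 6, 3, 3, 6, 2, 2, 7, 7]⟩, ⟨23, [5], [3, 6, 3, 3, 6, 3, 7, 7, 7, 2, 2, 7, 3]⟩, ⟨34, [], [7, 7, 3, 6, 6, 2, 2, 6, 2, 7, 2, 7, 7]⟩, ⟨10, [7, 3, 6, 2, 7, 2, 2, 2], [2, 7, 7, 2, 7, 7, 3, 3, 7, 7, 2, 7, 7, 2, 2]⟩], [22, 26, 22, 23]⟩],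
   []⟩,
  ⟨[⟨[], 0, [⟨31, [], []⟩, ⟨20, [9, 5, 10], [6, 2, 2, 6, 6, 3, 6, 2, 7, 2, 2, 2]⟩, ⟨9, [3, 3, 7, 2, 6, 2, 2, 2], [6, 3, 7, 2, 2, 6, 3, 6, 2, 7, 2, 2, 7]⟩, ⟨21, [5, 18], [7, 7, 2, 6, 2, 2, 6, 6, 2]⟩, ⟨32, [23, 21], [2, 2, 7, 3, 6, 3, 3, 7, 7, 7]⟩], []⟩],
   []⟩]
theorem c_r2_7 : relAll tab 83 1408 HNU.base HNU.ph HNU.phI st rel2 0 om2 es7 cs7 rs2_7 = true := by decide +kernel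
def rs2_8 : List RE := [
  ⟨[⟨[], 0, [⟨32, [], []⟩, ⟨31, [], [7, 7, 7, 2, 2, 7, 2, 6, 3, 3]⟩, ⟨20, [9, 5, 10], [3, 6, 6, 3, 3, 7, 7, 3, 3, 6, 6]⟩, ⟨9, [3, 3, 7, 2, 6, 2, 2, 2], [6, 3, 6, 6, 3, 3, 6, 6, 3]⟩, ⟨21, [5, 18], [7, 2, 6, 6, 3, 3, 6, 6, 2, 2, 6, 2, 7, 2, 2]⟩], [23, 21]⟩],
   []⟩,
  ⟨[⟨[], 0, [⟨33, [], []⟩, ⟨19, [9, 17, 10], [2, 6, 3, 7, 7, 2, 7, 7, 7, 2, 2, 7, 3]⟩, ⟨68, [38, 36, 39], [6, 6, 3, 6, 2, 7, 2, 6, 3, 6, 2, 7, 2]⟩, ⟨67, [], [6, 3, 7, 7, 2, 7, 3, 6, 3, 7, 3, 6, 2, 2]⟩, ⟨16, [], [2, 7, 2, 2, 7, 3, 3, 7, 2, 2, 6, 6, 2, 2]⟩], [16, 15, 26, 16, 15]⟩],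
   []⟩,
  ⟨[⟨[], 0, [⟨34, [], []⟩, ⟨10, [7, 3, 6, 2, 7, 2, 2, 2], [3, 7, 2, 2, 7, 7, 3, 6, 6, 2, 2, 6, 6]⟩, ⟨30, [], [3, 7, 2, 2, 7, 7, 3, 6, 6, 2, 2, 6, 6]⟩, ⟨24, [], [2, 2, 2, 7, 7, 2, 7, 7, 3, 6, 6, 2]⟩, ⟨23, [5], [3, 3, 7, 3, 3, 7, 2, 2, 7, 3, 3, 7, 2, 2]⟩], [23, 21, 26, 22, 20]⟩],
   []⟩,
  ⟨[⟨[], 0, [⟨35, [], []⟩, ⟨65, [36], [6, 6, 2, 2, 6, 6, 3, 7, 7, 7, 2, 7]⟩, ⟨17, [9, 17, 10], [2, 6, 6, 2, 2, 7, 3, 3, 7, 2]⟩, ⟨18, [5], [7, 7, 2, 7, 3, 3, 6, 3, 3, 6, 2, 2]⟩, ⟨71, [], [7, 2, 2, 7, 7, 7, 3, 3, 7, 3, 3, 6]⟩], [15, 26, 16, 26]⟩],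
   []⟩,
  ⟨[⟨[], 0, [⟨36, [], []⟩, ⟨28, [4, 9, 9, 12, 9], [7, 3, 3, 6, 6, 3, 7, 2, 6, 2, 2, 7]⟩, ⟨42, [23], [2, 6, 2, 2, 6, 3, 7, 2, 7, 3, 6, 6, 3]⟩, ⟨64, [38], [6, 3, 3, 6, 6, 2, 2, 7, 2, 6, 2, 2, 2, 7]⟩, ⟨63, [], [3, 7, 7, 2, 7, 7, 2, 6, 3]⟩], [20, 23, 22, 15]⟩],
   []⟩]
theorem c_r2_8 : relAll tab 83 1408 HNU.base HNU.ph HNU.phI st rel2 0 om2 es8 cs8 rs2_8 = true := by decide +kernel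
def rs2_9 : List RE := [
  ⟨[⟨[], 0, [⟨37, [], []⟩, ⟨38, [21], [3, 6, 6, 3, 3, 6, 3, 7, 3, 6, 2, 2]⟩, ⟨66, [], [7, 7, 2, 7, 3, 6, 6, 3, 7, 7, 7, 2]⟩, ⟨29, [14, 4], [7, 2, 6, 6, 2, 7, 7, 3, 6, 2, 7, 7, 3]⟩, ⟨62, [], [7, 2, 6, 6, 2, 7, 7, 3, 6, 2, 7, 7, 3]⟩], [23, 22, 23, 23, 15]⟩],
   []⟩,
  ⟨[⟨[], 0, [⟨38, [], []⟩, ⟨66, [], [2, 7, 2, 2, 6, 6, 3, 7, 2, 6, 3, 3]⟩, ⟨29, [14, 4], [3, 7, 7, 2, 7, 3, 6, 2, 7, 7]⟩, ⟨62, [], [3, 7, 7, 2, 7, 3, 6, 2, 7, 7]⟩, ⟨37, [], [3, 3, 7, 3, 6, 2, 7, 7, 2, 6, 6, 2, 7, 2]⟩], [21, 21, 23, 20, 20]⟩],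
   []⟩,
  ⟨[⟨[], 0, [⟨39, [], []⟩, ⟨40, [21, 21, 26, 15], [3, 6, 6, 3, 6, 6, 2, 2, 6, 2]⟩, ⟨55, [34, 29, 27], [6, 2, 2, 6, 3, 7, 3, 3, 7, 2]⟩, ⟨83, [39, 40, 39, 35], [6, 6, 3, 3, 6, 3, 7, 2, 6, 6, 3]⟩, ⟨56, [33, 30], [2, 2, 6, 3, 3, 7, 7, 3, 3, 6, 3, 3, 6]⟩], [21, 20, 23, 21]⟩],
   []⟩,
  ⟨[⟨[], 0, [⟨40, [], []⟩, ⟨55, [34, 29, 27], [7, 7, 3, 6, 3, 3, 7, 3, 6, 2, 2]⟩, ⟨83, [39, 40, 39, 35], [6, 3, 7, 3, 3, 6, 6, 2, 2, 7, 2, 6, 2, 2]⟩, ⟨56, [33, 30], [6, 2, 2, 6, 3, 7, 3, 3, 7, 2]⟩, ⟨39, [20, 23], [3, 6, 6, 3, 6, 6, 2, 2, 6, 2]⟩], [20, 21, 26, 16, 21]⟩],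
   []⟩]
theorem c_r2_9 : relAll tab 83 1408 HNU.base HNU.ph HNU.phI st rel2 0 om2 es9 cs9 rs2_9 = true := by decide +kernel
def rs2_10 : List RE := [
  ⟨[⟨[], 0, [⟨41, [], []⟩, ⟨58, [33, 27], [6, 6, 3, 7, 3, 6, 2, 7, 7, 2, 6, 6, 2, 2, 2]⟩, ⟨53, [32, 34], [3, 3, 7, 7, 2, 6, 2, 7, 3, 6, 6, 2, 2]⟩, ⟨43, [20, 22, 16], [2, 6, 6, 3, 3, 6, 2, 7, 3, 3, 6, 2, 2]⟩, ⟨79, [], [2, 2, 2, 6, 2, 2, 6, 3, 3, 7, 2, 2, 7]⟩], [26, 21, 23, 15, 16]⟩],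
   []⟩,
  ⟨[⟨[], 0, [⟨42, [], []⟩, ⟨64, [38], [2, 6, 2, 7, 7, 3, 3, 7, 3, 3, 6, 2]⟩, ⟨63, [], [7, 3, 3, 6, 6, 2, 7, 7, 3, 3, 7, 7, 2]⟩, ⟨36, [16, 16], [2, 7, 2, 7, 7, 2, 2, 7, 7, 2, 2, 7]⟩, ⟨28, [4, 9, 9, 12, 9], [3, 6, 2, 7, 7, 3, 3, 6, 3, 7, 2, 2, 7]⟩], [23, 21, 23, 20, 20]⟩],
   []⟩,
  ⟨[⟨[], 0, [⟨43, [], []⟩, ⟨79, [], [2, 6, 2, 7, 2, 6, 3, 3, 6, 6]⟩, ⟨41, [22, 20, 15], [7, 7, 7, 3, 3, 6, 2, 7, 3, 3]⟩, ⟨58, [33, 27], [2, 6, 3, 3, 7, 2, 2, 7, 3, 6, 3]⟩, ⟨53, [32, 34], [7, 2, 2, 2, 6, 2, 7, 2, 2, 6, 6, 3, 7, 2]⟩], [23, 21, 21, 23, 22]⟩],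
   []⟩,
  ⟨[⟨[], 0, [⟨44, [], []⟩, ⟨94, [55, 53, 55, 56, 55], [2, 6, 6, 2, 7, 7, 3, 6, 3, 7, 2]⟩, ⟨77, [37, 38], [7, 7, 3, 6, 6, 3, 7, 2, 7, 3, 6, 3]⟩, ⟨76, [40, 38], [7, 3, 6, 2, 7, 3]⟩, ⟨98, [], [7, 2, 6, 2, 2, 2, 6, 2, 2, 6, 3, 3, 7]⟩], [20, 23, 21, 16]⟩],
   []⟩]
theorem c_r2_10 : relAll tab 83 1408 HNU.base HNU.ph HNU.phI st rel2 0 om2 es10 cs10 rs2_10 = true := by decide +kernel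
def rs2_11 : List RE := [
  ⟨[⟨[], 0, [⟨45, [], []⟩, ⟨82, [38, 40], [2, 7, 2, 7, 7, 7, 2, 2, 6, 3, 3]⟩, ⟨96, [55, 56, 55, 56, 55, 56], [6, 2, 7, 7, 2, 6, 2, 7, 2, 2, 7, 7]⟩, ⟨95, [56, 55, 53, 54], [7, 7, 2, 2, 2, 6, 6, 3, 7, 2, 7]⟩, ⟨78, [39, 40, 39], [7, 7, 3, 6, 2, 7, 7, 3, 6, 2, 2]⟩], [16, 26, 15, 21]⟩],
   []⟩,
  ⟨[⟨[], 0, [⟨46, [], []⟩, ⟨48, [], [3, 6, 3, 7, 2, 7, 7, 2, 2, 2, 6, 2]⟩, ⟨47, [], [2, 6, 3, 7, 2, 2, 6, 3, 7, 2, 7, 7, 3]⟩, ⟨50, [], [2, 7, 2, 7, 3, 6, 6, 2, 2, 6, 2, 7]⟩, ⟨11, [2, 6, 2, 7, 3, 3], [6, 3, 6, 2, 7, 7, 3, 6, 2]⟩], [32, 27, 28, 27]⟩],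
   []⟩,
  ⟨[⟨[], 0, [⟨47, [], []⟩, ⟨50, [], [3, 7, 2, 2, 2, 6, 6, 3, 6, 2, 7, 2]⟩, ⟨11, [2, 6, 2, 7, 3, 3], [6, 3, 3, 6, 3, 7, 7, 2, 2, 7, 3, 6]⟩, ⟨46, [], [6, 3, 3, 6, 3, 7, 7, 2, 2, 7, 3, 6]⟩, ⟨48, [], [6, 3, 3, 7, 3, 6, 3, 7, 7, 2, 6, 3, 7]⟩], [32, 34, 34]⟩],
   []⟩,
  ⟨[⟨[], 0, [⟨48, [], []⟩, ⟨47, [], [6, 3, 6, 2, 2, 7, 2, 6, 2, 2, 7, 3, 6]⟩, ⟨50, [], [3, 7, 3, 3, 6, 2, 2, 7, 3]⟩, ⟨11, [2, 6, 2, 7, 3, 3], [2, 7, 3, 3, 6, 2, 2, 7, 3, 6, 3, 7, 7]⟩, ⟨46, [], [2, 7, 3, 3, 6, 2, 2, 7, 3, 6, 3, 7, 7]⟩], [29]⟩],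
   []⟩]
theorem c_r2_11 : relAll tab 83 1408 HNU.base HNU.ph HNU.phI st rel2 0 om2 es11 cs11 rs2_11 = true := by decide +kernel
def rs2_12 : List RE := [
  ⟨[⟨[], 0, [⟨49, [], []⟩, ⟨25, [17, 17, 10, 13], [7, 7, 3, 6, 6, 3, 7, 2, 7, 3, 6, 3]⟩, ⟨54, [28, 33], [2, 2, 6, 2, 7, 2, 2, 6, 6, 3]⟩, ⟨69, [38, 36], [7, 7, 3, 3, 7, 7, 2, 7]⟩, ⟨80, [38, 40], [6, 6, 3, 7, 2, 6, 2, 2, 2, 6, 2, 7, 2, 7]⟩], [31, 28, 33, 30]⟩],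
   []⟩,
  ⟨[⟨[], 0, [⟨50, [], []⟩, ⟨11, [2, 6, 2, 7, 3, 3], [3, 7, 3, 6, 2, 2]⟩, ⟨46, [], [3, 7, 3, 6, 2, 2]⟩, ⟨48, [], [2, 7, 7, 2, 2, 2, 7, 2, 2, 6]⟩, ⟨47, [], [6, 2, 2, 2, 6, 2, 7, 2, 2, 6, 2, 7, 2, 7]⟩], [30, 32, 27]⟩],
   []⟩,
  ⟨[⟨[], 0, [⟨51, [], []⟩, ⟨52, [34, 27], [7, 2, 6, 2, 2, 7, 7, 3, 3, 6]⟩, ⟨74, [36, 35], [3, 3, 6, 2, 2, 6, 2, 7, 2, 6, 2, 2, 7, 2]⟩, ⟨22, [17, 18, 17, 17], [2, 6, 3, 7, 7, 2, 2, 7, 7, 3, 3, 6, 2, 7]⟩, ⟨72, [35], [2, 7, 2, 6, 2, 7, 2, 2, 2, 6]⟩], [28, 31]⟩],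
   []⟩,
  ⟨[⟨[], 0, [⟨52, [], []⟩, ⟨74, [36, 35], [2, 6, 2, 2, 7, 7, 2, 7, 3, 3, 7, 2, 2, 7]⟩, ⟨22, [17, 18, 17, 17], [2, 6, 2, 7, 2, 6, 3, 3, 7, 7, 2, 2]⟩, ⟨72, [35], [7, 7, 3, 3, 6, 2, 2, 6, 2, 7, 3, 6]⟩, ⟨51, [], [7, 3, 6, 3, 3, 7, 7, 7, 2, 7, 2, 6]⟩], [27, 34]⟩],
   []⟩]
theorem c_r2_12 : relAll tab 83 1408 HNU.base HNU.ph HNU.phI st rel2 0 om2 es12 cs12 rs2_12 = true := by decide +kernel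
def rs2_13 : List RE := [
  ⟨[⟨[], 0, [⟨53, [], []⟩, ⟨43, [20, 22, 16], [6, 3, 7, 2, 6, 2, 2, 6, 6, 2]⟩, ⟨79, [], [2, 7, 2, 6, 3, 6, 2, 2, 7, 2, 2, 7, 3]⟩, ⟨41, [22, 20, 15], [6, 6, 2, 2, 6, 6, 2, 2, 7, 3, 6, 3, 7]⟩, ⟨58, [33, 27], [2, 2, 2, 6, 3, 7, 2, 2, 2, 7, 2, 7]⟩], [28, 34, 32, 30]⟩],
   []⟩,
  ⟨[⟨[], 0, [⟨54, [], []⟩, ⟨69, [38, 36], [7, 3, 6, 6, 3, 7, 7, 2, 2, 2, 7, 3, 6]⟩, ⟨80, [38, 40], [6, 2, 7, 7, 3, 3, 7, 3, 3, 6, 2, 7, 2, 2]⟩, ⟨49, [34, 32, 27], [7, 3, 6, 3, 3, 6, 2, 7, 2, 6, 3, 6, 2, 7]⟩, ⟨25, [17, 17, 10, 13], [2, 7, 2, 7, 3, 6, 2, 2, 7, 3, 6, 3, 3]⟩], [31, 32, 33]⟩],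
   []⟩,
  ⟨[⟨[], 0, [⟨55, [], []⟩, ⟨83, [39, 40, 39, 35], [7, 7, 3, 6, 2, 7, 2, 2, 2, 7, 2]⟩, ⟨56, [33, 30], [7, 7, 2, 6, 3, 3, 6, 2, 2, 2]⟩, ⟨39, [20, 23], [3, 3, 6, 6, 2, 2, 6, 6, 3, 7, 2, 7]⟩, ⟨40, [21, 21, 26, 15], [7, 2, 2, 7, 2, 2, 6, 6, 2, 2, 7, 3, 3]⟩], [28, 33, 32]⟩],
   []⟩,
  ⟨[⟨[], 0, [⟨56, [], []⟩, ⟨39, [20, 23], [3, 3, 7, 7, 3, 3, 6, 3, 7, 7, 7]⟩, ⟨40, [21, 21, 26, 15], [3, 3, 6, 6, 2, 2, 6, 6, 3, 7, 2, 7]⟩, ⟨55, [34, 29, 27], [7, 7, 2, 6, 3, 3, 6, 2, 2, 2]⟩, ⟨83, [39, 40, 39, 35], [2, 6, 2, 7, 3, 6, 6, 2, 7, 7, 2, 7, 3]⟩], [34, 28]⟩],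
   []⟩]
theorem c_r2_13 : relAll tab 83 1408 HNU.base HNU.ph HNU.phI st rel2 0 om2 es13 cs13 rs2_13 = true := by decide +kernel
def rs2_14 : List RE := [
  ⟨[⟨[], 0, [⟨57, [], []⟩, ⟨86, [39, 35, 35, 38], [6, 6, 3, 7, 7, 3, 6, 6, 2, 2, 2, 6, 2, 7]⟩, ⟨97, [55, 56, 55, 52, 54, 54], [3, 3, 7, 2, 6, 3, 6, 2, 7, 3, 6]⟩, ⟨88, [35, 37, 35, 35], [6, 3, 6, 2, 2, 7, 7, 2, 2, 6, 2]⟩, ⟨61, [29, 28, 34, 27], [2, 7, 3, 6, 6, 2, 7, 2, 6, 2, 2, 7, 7]⟩], [30, 29]⟩],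
   []⟩,
  ⟨[⟨[], 0, [⟨58, [], []⟩, ⟨53, [32, 34], [7, 7, 7, 2, 7, 7, 2, 6, 3, 3]⟩, ⟨43, [20, 22, 16], [2, 7, 7, 2, 7, 7, 3, 3, 7, 7, 2, 6, 6]⟩, ⟨79, [], [6, 3, 7, 2, 6, 6, 3, 7, 2, 6, 2, 7, 2, 6, 2]⟩, ⟨41, [22, 20, 15], [6, 6, 3, 3, 7, 7, 3, 3, 6, 3, 3, 7, 2]⟩], [33, 29, 27, 27]⟩],
   []⟩]
theorem c_r2_14 : relAll tab 83 1408 HNU.base HNU.ph HNU.phI st rel2 0 om2 es14 cs14 rs2_14 = true := by decide +kernel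
def rs2_15 : List RE := [
  ⟨[⟨[], 0, [⟨59, [], []⟩, ⟨99, [54, 53, 55, 56, 55], [6, 6, 2, 7, 3, 6, 3, 7, 2, 6, 3]⟩, ⟨60, [32, 27, 27], [6, 6, 3, 6, 2, 7, 2, 2, 6, 2]⟩, ⟨85, [40, 39], [6, 6, 3, 7, 7, 3, 3, 6, 2, 2, 7, 3, 3]⟩, ⟨84, [38, 38], [3, 6, 2, 2, 7, 2, 2, 7, 3, 3, 7, 3]⟩], [27, 31]⟩],
   []⟩,
  ⟨[⟨[], 0, [⟨60, [], []⟩, ⟨85, [40, 39], [7, 7, 3, 6, 2, 2, 2, 7, 7, 2, 6, 2]⟩, ⟨84, [38, 38], [7, 2, 2, 2, 7, 7, 2, 6, 6, 2, 7, 7, 7]⟩, ⟨59, [27, 31], [6, 6, 3, 6, 2, 7, 2, 2, 6, 2]⟩, ⟨99, [54, 53, 55, 56, 55], [2, 2, 2, 6, 3, 3, 6, 2, 2, 6, 2, 2, 2]⟩], [32, 27, 27]⟩],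
   []⟩]
theorem c_r2_15 : relAll tab 83 1408 HNU.base HNU.ph HNU.phI st rel2 0 om2 es15 cs15 rs2_15 = true := by decide +kernel
def rs2_16 : List RE := [
  ⟨[⟨[], 0, [⟨61, [], []⟩, ⟨57, [30, 29], [6, 6, 3, 3, 7, 3, 6, 3, 7, 7, 2, 6, 3]⟩, ⟨86, [39, 35, 35, 38], [7, 2, 6, 6, 3, 6, 2, 7, 7]⟩, ⟨97, [55, 56, 55, 52, 54, 54], [2, 7, 3, 3, 7, 2, 2, 6, 3, 7, 2, 2, 6]⟩, ⟨88, [35, 37, 35, 35], [3, 6, 6, 2, 2, 6, 6, 2, 2, 7, 2, 2, 2, 7]⟩], [29, 28, 34, 27]⟩],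
   []⟩,
  ⟨[⟨[], 0, [⟨62, [], []⟩, ⟨37, [], [3, 6, 3, 7, 3, 3, 7, 2, 2, 7, 7, 3]⟩, ⟨38, [21], [6, 6, 3, 7, 3, 6, 2, 7, 7, 2, 6, 6, 2, 2, 2]⟩, ⟨66, [], [6, 2, 7, 2, 2, 6, 6, 3, 3, 6]⟩, ⟨29, [14, 4], [6, 6, 3, 7, 7, 7, 3, 3, 7, 3, 6, 2, 7]⟩], [40, 40, 36, 40]⟩],
   []⟩,
  ⟨[⟨[], 0, [⟨63, [], []⟩, ⟨36, [16, 16], [7, 3, 6, 2, 7, 2, 2, 6, 2, 7, 2, 2, 6]⟩, ⟨28, [4, 9, 9, 12, 9], [7, 7, 2, 2, 7, 7, 2, 2, 7, 3, 6]⟩, ⟨42, [23], [2, 2, 7, 7, 2, 6, 6, 3, 3]⟩, ⟨64, [38], [7, 2, 7, 3, 6, 6, 3, 3, 7, 7, 2, 7]⟩], [39, 36, 38]⟩],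
   []⟩,
  ⟨[⟨[], 0, [⟨64, [], []⟩, ⟨63, [], [6, 6, 3, 6, 2, 7, 7, 2, 7, 2, 6]⟩, ⟨36, [16, 16], [7, 7, 2, 6, 2, 2, 7, 2, 6, 2, 2, 7, 2]⟩, ⟨28, [4, 9, 9, 12, 9], [7, 7, 2, 7, 3, 3, 6, 3, 3, 6, 2, 7]⟩, ⟨42, [23], [3, 7, 7, 2, 6, 3, 3, 6, 2, 2, 7, 7]⟩], [37, 39, 35, 35]⟩],
   []⟩]
theorem c_r2_16 : relAll tab 83 1408 HNU.base HNU.ph HNU.phI st rel2 0 om2 es16 cs16 rs2_16 = true := by decide +kernel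
def rs2_17 : List RE := [
  ⟨[⟨[], 0, [⟨65, [], []⟩, ⟨17, [9, 17, 10], [2, 7, 2, 6, 2, 2, 6, 3, 3, 7, 7, 3]⟩, ⟨18, [5], [6, 2, 2, 7, 7, 3, 3, 7, 7, 2, 2]⟩, ⟨71, [], [6, 6, 3, 7, 7, 7, 2, 2, 2, 7, 2]⟩, ⟨35, [], [3, 3, 7, 7, 3, 3, 6, 2, 2, 6]⟩], [39, 36, 39]⟩],
   []⟩,
  ⟨[⟨[], 0, [⟨66, [], []⟩, ⟨29, [14, 4], [2, 7, 2, 6, 2, 2, 6, 3, 3, 7, 7, 3]⟩, ⟨62, [], [2, 7, 2, 6, 2, 2, 6, 3, 3, 7, 7, 3]⟩, ⟨37, [], [6, 3, 7, 2, 6, 2, 2, 6, 3, 3, 6, 3, 3, 7]⟩, ⟨38, [21], [3, 6, 6, 3, 3, 7, 7, 2, 7, 2, 6, 2]⟩], [38, 37, 39, 35]⟩],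
   []⟩,
  ⟨[⟨[], 0, [⟨67, [], []⟩, ⟨16, [], [3, 7, 7, 2, 6, 2, 2, 7, 7, 2, 7, 3, 3]⟩, ⟨33, [26], [2, 7, 2, 2, 7, 7, 7, 3, 3, 7, 3, 3, 6]⟩, ⟨19, [9, 17, 10], [6, 3, 3, 6, 2, 7, 3, 6, 2]⟩, ⟨68, [38, 36, 39], [3, 6, 3, 7, 2, 2, 7, 2, 2, 2, 6, 2]⟩], [38, 35, 35, 38]⟩],
   []⟩,
  ⟨[⟨[], 0, [⟨68, [], []⟩, ⟨67, [], [7, 2, 7, 7, 3, 3, 7, 7, 2, 7, 7, 2, 7]⟩, ⟨16, [], [6, 2, 2, 6]⟩, ⟨33, [26], [2, 7, 7, 2, 7, 2, 2, 7, 7, 2, 7, 2]⟩, ⟨19, [9, 17, 10], [3, 7, 7, 2, 6, 2, 2, 7, 7, 2, 7, 3, 3]⟩], [36]⟩],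
   []⟩,
  ⟨[⟨[], 0, [⟨69, [], []⟩, ⟨80, [38, 40], [2, 6, 6, 3, 7, 3, 6, 2, 7, 7, 2, 2, 6]⟩, ⟨49, [34, 32, 27], [2, 6, 2, 2, 7, 7, 2, 7, 3, 3, 7, 2, 2, 7]⟩, ⟨25, [17, 17, 10, 13], [3, 6, 6, 2, 2, 6, 6, 3, 7, 7, 3]⟩, ⟨54, [28, 33], [2, 7, 2, 7, 3, 6, 2, 2, 7, 3, 6, 2, 7, 7]⟩], [39, 36, 35]⟩],
   []⟩]
theorem c_r2_17 : relAll tab 83 1408 HNU.base HNU.ph HNU.phI st rel2 0 om2 es17 cs17 rs2_17 = true := by decide +kernel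
def rs2_18 : List RE := [
  ⟨[⟨[], 0, [⟨70, [], []⟩, ⟨81, [], [2, 2, 7, 3, 6, 3, 7, 3, 6, 2, 2, 2]⟩, ⟨75, [37], [7, 2, 2, 7, 3, 6, 3, 7, 3, 6, 2, 2]⟩, ⟨92, [48], [3, 7, 7, 2, 7, 3, 6, 3, 7, 3, 6, 2, 2]⟩, ⟨73, [], [3, 7, 7, 3, 6, 6, 2, 2, 6, 3]⟩], [35, 38]⟩],
   []⟩,
  ⟨[⟨[], 0, [⟨71, [], []⟩, ⟨35, [], [2, 7, 2, 6, 3, 6, 6, 2, 7, 2, 7, 7]⟩, ⟨65, [36], [2, 7, 3, 6, 6, 3, 3, 6, 6, 3, 3]⟩, ⟨17, [9, 17, 10], [7, 2, 7, 7, 7, 2, 2, 6, 2, 7, 3]⟩, ⟨18, [5], [6, 3, 6, 6, 3, 7, 2, 6, 3, 3, 7, 7, 3]⟩], [38, 40, 39, 35]⟩],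
   []⟩,
  ⟨[⟨[], 0, [⟨72, [], []⟩, ⟨51, [], [3, 6, 3, 3, 7, 7, 3, 3]⟩, ⟨52, [34, 27], [2, 2, 6, 2, 7, 7, 3, 3, 7, 2, 2, 7, 3]⟩, ⟨74, [36, 35], [7, 2, 2, 2, 7, 3, 3, 7, 2, 2, 7, 7, 3]⟩, ⟨22, [17, 18, 17, 17], [7, 2, 6, 3, 6, 6, 3, 7, 2, 7, 7, 2, 2]⟩], [39, 40, 38, 35]⟩],
   []⟩,
  ⟨[⟨[], 0, [⟨73, [], []⟩, ⟨70, [35, 38], [7, 7, 3, 3, 7, 2, 2, 6, 6, 2]⟩, ⟨81, [], [7, 2, 2, 7, 3, 6, 3, 7, 3, 6, 2, 2]⟩, ⟨75, [37], [3, 6, 6, 3, 7, 7, 2, 2, 6, 3, 3, 6, 2, 7, 2]⟩, ⟨92, [48], [3, 3, 6, 2, 7, 2, 6, 2, 7, 2, 2, 2]⟩], []⟩],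
   []⟩,
  ⟨[⟨[], 0, [⟨74, [], []⟩, ⟨22, [17, 18, 17, 17], [3, 3, 7, 7, 2, 6, 3, 7, 2, 2, 7, 7]⟩, ⟨72, [35], [2, 2, 7, 2, 6, 3, 7, 3, 3, 7, 2, 7, 7, 2, 2]⟩, ⟨51, [], [2, 6, 6, 3, 6, 2, 7, 3, 3, 6, 2, 2, 6, 2]⟩, ⟨52, [34, 27], [3, 6, 3, 3, 7, 7, 3, 3]⟩], [38, 38, 36]⟩],
   []⟩]
theorem c_r2_18 : relAll tab 83 1408 HNU.base HNU.ph HNU.phI st rel2 0 om2 es18 cs18 rs2_18 = true := by decide +kernel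
def rs2_19 : List RE := [
  ⟨[⟨[], 0, [⟨75, [], []⟩, ⟨92, [48], [6, 2, 2, 6, 6, 3, 7, 7, 3, 3]⟩, ⟨73, [], [3, 6, 6, 3, 7, 7, 2, 2, 6, 3, 3, 6, 2, 7, 2]⟩, ⟨70, [35, 38], [7, 2, 2, 7, 3, 6, 3, 7, 3, 6, 2, 2]⟩, ⟨81, [], [7, 7, 3, 3, 7, 2, 2, 6, 6, 2]⟩], [37]⟩],
   []⟩,
  ⟨[⟨[], 0, [⟨76, [], []⟩, ⟨98, [], [2, 6, 6, 3, 3, 7, 3, 6, 3, 3, 7]⟩, ⟨44, [20, 23, 21, 16], [2, 6, 3, 7, 2, 6]⟩, ⟨94, [55, 53, 55, 56, 55], [6, 6, 2, 2, 6, 3, 3, 7, 3, 3, 7, 2]⟩, ⟨77, [37, 38], [3, 6, 3, 7, 2, 6, 3, 7, 2, 2]⟩], [40, 38]⟩],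
   []⟩,
  ⟨[⟨[], 0, [⟨77, [], []⟩, ⟨76, [40, 38], [3, 6, 3, 7, 2, 6, 3, 7, 2, 2]⟩, ⟨98, [], [2, 2, 7, 2, 6, 3, 6, 2, 7, 2, 2, 7, 3]⟩, ⟨44, [20, 23, 21, 16], [7, 3, 6, 3, 7, 3, 3, 7, 7, 2, 2, 6]⟩, ⟨94, [55, 53, 55, 56, 55], [3, 7, 2, 6, 2, 7, 3, 6, 6, 3]⟩], [37, 38]⟩],
   []⟩]
theorem c_r2_19 : relAll tab 83 1408 HNU.base HNU.ph HNU.phI st rel2 0 om2 es19 cs19 rs2_19 = true := by decide +kernel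
def rs2_20 : List RE := [
  ⟨[⟨[], 0, [⟨78, [], []⟩, ⟨45, [23, 20, 23, 16], [6, 2, 7, 2, 7, 7, 2, 6, 3, 3, 7, 2, 2]⟩, ⟨82, [38, 40], [3, 7, 7, 2, 6, 3, 7, 2, 2, 7, 2, 7, 7]⟩, ⟨96, [55, 56, 55, 56, 55, 56], [6, 3, 7, 3, 3, 6, 6, 2, 2, 7, 2, 2]⟩, ⟨95, [56, 55, 53, 54], [6, 2, 7, 3, 6, 6, 3, 3, 7, 2, 7, 2]⟩], [40, 36, 40, 40]⟩],
   []⟩,
  ⟨[⟨[], 0, [⟨79, [], []⟩, ⟨41, [22, 20, 15], [2, 6, 3, 6, 2, 7, 2, 6, 3, 7, 7, 7]⟩, ⟨58, [33, 27], [2, 2, 6, 2, 7, 3, 3, 6, 3, 7, 2, 6, 2, 2]⟩, ⟨53, [32, 34], [7, 2, 6, 3, 6, 2, 2, 7, 2, 2, 7, 3, 3]⟩, ⟨43, [20, 22, 16], [6, 6, 2, 2, 7, 2, 2, 7, 3, 3, 6, 6]⟩], [38, 38, 35, 35]⟩],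
   []⟩,
  ⟨[⟨[], 0, [⟨80, [], []⟩, ⟨49, [34, 32, 27], [7, 3, 3, 7, 2, 2, 7, 3, 6, 2, 7, 2, 2, 2]⟩, ⟨25, [17, 17, 10, 13], [2, 7, 3, 3, 6, 6, 3, 6, 2, 7, 7, 3, 6]⟩, ⟨54, [28, 33], [2, 7, 7, 2, 2, 7, 7, 2, 7, 2]⟩, ⟨69, [38, 36], [3, 7, 7, 2, 7, 7, 2, 6, 6, 3, 7, 2, 6, 3, 7]⟩], [36, 36, 39]⟩],
   []⟩,
  ⟨[⟨[], 0, [⟨81, [], []⟩, ⟨75, [37], [3, 7, 7, 3, 6, 6, 2, 2, 6, 3]⟩, ⟨92, [48], [6, 2, 2, 6, 3]⟩, ⟨73, [], [7, 2, 2, 7, 3, 6, 3, 7, 3, 6, 2, 2]⟩, ⟨70, [35, 38], [2, 2, 7, 3, 6, 3, 7, 3, 6, 2, 2, 2]⟩], []⟩],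
   []⟩]
theorem c_r2_20 : relAll tab 83 1408 HNU.base HNU.ph HNU.phI st rel2 0 om2 es20 cs20 rs2_20 = true := by decide +kernel
def rs2_21 : List RE := [
  ⟨[⟨[], 0, [⟨82, [], []⟩, ⟨96, [55, 56, 55, 56, 55, 56], [2, 6, 6, 3, 6, 6, 2, 7, 7, 2, 7]⟩, ⟨95, [56, 55, 53, 54], [6, 3, 7, 7, 2, 6, 3, 7, 2, 7, 7, 7, 2]⟩, ⟨78, [39, 40, 39], [2, 2, 6, 2, 2, 6, 3, 3, 7, 2, 7, 3]⟩, ⟨45, [23, 20, 23, 16], [7, 3, 6, 6, 3, 7, 7, 3, 3, 6, 3, 3]⟩], [36, 39, 35, 35]⟩],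
   []⟩,
  ⟨[⟨[], 0, [⟨83, [], []⟩, ⟨56, [33, 30], [7, 2, 7, 7, 2, 6, 6, 2, 7, 7, 2, 6, 2]⟩, ⟨39, [20, 23], [6, 3, 6, 2, 2, 6, 3, 3, 6, 6, 2]⟩, ⟨40, [21, 21, 26, 15], [3, 6, 2, 7, 3, 3, 6, 2, 7, 3, 6, 2, 2, 2]⟩, ⟨55, [34, 29, 27], [3, 7, 3, 6, 3, 7, 2, 6, 2, 2, 7]⟩], [35, 38, 40, 39]⟩],
   []⟩,
  ⟨[⟨[], 0, [⟨84, [], []⟩, ⟨59, [27, 31], [2, 6, 2, 2, 6, 3, 3, 6, 3, 3, 7, 2]⟩, ⟨99, [54, 53, 55, 56, 55], [7, 7, 3, 3, 7, 3, 3, 6, 2, 7, 7, 2]⟩, ⟨60, [32, 27, 27], [7, 7, 2, 6, 2, 7, 3, 6, 6, 2, 2, 2, 6]⟩, ⟨85, [40, 39], [7, 3, 3, 7, 3, 6, 2, 7, 2, 6, 2, 7, 2]⟩], [38, 38]⟩],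
   []⟩]
theorem c_r2_21 : relAll tab 83 1408 HNU.base HNU.ph HNU.phI st rel2 0 om2 es21 cs21 rs2_21 = true := by decide +kernel
def rs2_22 : List RE := [
  ⟨[⟨[], 0, [⟨85, [], []⟩, ⟨84, [38, 38], [6, 2, 7, 2, 6, 2, 7, 2, 2, 6, 2, 2, 6]⟩, ⟨59, [27, 31], [2, 2, 6, 3, 3, 7, 7, 2, 6, 6, 2, 2, 7]⟩, ⟨99, [54, 53, 55, 56, 55], [7, 2, 6, 3, 7, 7, 7, 3, 6, 2, 7, 3]⟩, ⟨60, [32, 27, 27], [6, 3, 7, 7, 2, 2, 6, 6, 2, 2, 2, 7]⟩], [40, 39]⟩],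
   []⟩,
  ⟨[⟨[], 0, [⟨86, [], []⟩, ⟨97, [55, 56, 55, 52, 54, 54], [2, 2, 7, 2, 6, 3, 3, 6, 3, 3, 7, 7]⟩, ⟨88, [35, 37, 35, 35], [7, 2, 2, 2, 7, 2, 7, 7, 3, 3, 7, 2, 7]⟩, ⟨61, [29, 28, 34, 27], [6, 6, 3, 7, 2, 7, 7, 3, 6]⟩, ⟨57, [30, 29], [6, 3, 7, 2, 2, 2, 7, 7, 2, 6, 6, 2, 7, 7]⟩], [39, 35, 35, 38]⟩],
   []⟩]
theorem c_r2_22 : relAll tab 83 1408 HNU.base HNU.ph HNU.phI st rel2 0 om2 es22 cs22 rs2_22 = true := by decide +kernel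
def rs2_23 : List RE := [
  ⟨[⟨[], 0, [⟨87, [], []⟩, ⟨87, [38, 40, 38], [7, 2, 7, 7, 3, 3, 6, 3, 3, 6, 2, 2, 7, 2, 2]⟩, ⟨87, [38, 40, 38], [7, 7, 3, 3, 6, 6, 2, 2, 7, 3, 6, 6, 2]⟩, ⟨87, [38, 40, 38], [3, 6, 2, 2, 7, 3, 6, 2, 2, 7, 3]⟩, ⟨87, [38, 40, 38], [3, 7, 2, 2, 6, 2, 7, 2, 2, 6, 6, 3, 6, 2, 7]⟩], [39, 36, 38]⟩],
   []⟩,
  ⟨[⟨[], 0, [⟨88, [], []⟩, ⟨61, [29, 28, 34, 27], [6, 3, 3, 7, 2, 7, 2, 2, 7, 3, 3, 7, 2, 2]⟩, ⟨57, [30, 29], [3, 7, 3, 3, 6, 6, 3, 3, 7, 2, 7]⟩, ⟨86, [39, 35, 35, 38], [2, 2, 6, 6, 2, 2, 7, 2, 7, 3, 6, 2, 7]⟩, ⟨97, [55, 56, 55, 52, 54, 54], [7, 2, 2, 6, 3, 7, 2, 7, 7, 7, 2, 2]⟩], [35, 37, 35, 35]⟩],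
   []⟩]
theorem c_r2_23 : relAll tab 83 1408 HNU.base HNU.ph HNU.phI st rel2 0 om2 es23 cs23 rs2_23 = true := by decide +kernel
def rs2_24 : List RE := [
  ⟨[⟨[], 0, [⟨89, [], []⟩, ⟨89, [37, 40, 40], [2, 6, 3, 6, 2, 7, 7, 2, 7, 7, 2, 2, 2]⟩, ⟨89, [37, 40, 40], [6, 2, 7, 2, 6, 2, 2, 7, 7, 3, 3, 6, 3, 7, 2]⟩, ⟨89, [37, 40, 40], [7, 3, 6, 3, 3, 7, 7, 2, 2, 6, 2, 7, 2, 6, 2]⟩, ⟨89, [37, 40, 40], [2, 2, 7, 7, 2, 7, 7, 2, 6, 3, 6, 2, 2]⟩], [37, 40, 40]⟩],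
   []⟩,
  ⟨[⟨[], 0, [⟨90, [], []⟩, ⟨90, [36, 36, 35], [6, 3, 7, 7, 2, 6, 3, 7, 7, 2, 6]⟩, ⟨90, [36, 36, 35], [7, 3, 6, 3, 3, 7, 7, 2, 2, 6, 2, 7, 2, 6, 2]⟩, ⟨90, [36, 36, 35], [2, 6, 2, 7, 3, 6, 6, 3, 7, 2, 7, 7, 2, 2, 7]⟩, ⟨90, [36, 36, 35], [2, 6, 3, 6, 2, 7, 7, 2, 7, 7, 2, 2, 2]⟩], [35, 37, 35]⟩],
   []⟩]
theorem c_r2_24 : relAll tab 83 1408 HNU.base HNU.ph HNU.phI st rel2 0 om2 es24 cs24 rs2_24 = true := by decide +kernel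
def rs2_25 : List RE := [
  ⟨[⟨[], 0, [⟨91, [], []⟩, ⟨91, [35, 37, 35], [2, 6, 3, 6, 2, 7, 7, 2, 7, 3, 6, 3]⟩, ⟨91, [35, 37, 35], [6, 2, 7, 3, 6, 2, 7, 2, 6, 3, 3, 6, 6]⟩, ⟨91, [35, 37, 35], [7, 7, 2, 2, 7, 3, 6, 3, 7, 2, 6, 3, 7]⟩, ⟨91, [35, 37, 35], [2, 7, 2, 6, 3, 6, 6, 3, 7, 2, 7, 3]⟩], [35, 37, 35]⟩],
   []⟩,
  ⟨[⟨[], 0, [⟨92, [], []⟩, ⟨73, [], [3, 3, 6, 2, 7, 2, 6, 2, 7, 2, 2, 2]⟩, ⟨70, [35, 38], [3, 3, 7, 2, 6, 2, 7, 2, 6, 3, 6, 6, 2]⟩, ⟨81, [], [2, 7, 3, 3, 7]⟩, ⟨75, [37], [7, 2, 6, 6, 2, 2, 7, 3, 3, 7]⟩], [48]⟩],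
   []⟩,
  ⟨[⟨[], 0, [⟨93, [], []⟩, ⟨93, [49, 47], [2, 6, 6, 2, 7, 7, 3, 6, 6, 3, 6, 2, 2, 2]⟩, ⟨93, [49, 47], [3, 7, 3, 6, 2, 2, 7, 7, 2, 7]⟩, ⟨93, [49, 47], [3, 3, 7, 2, 2, 6, 2, 7, 2, 6, 2, 2]⟩, ⟨93, [49, 47], [7, 3, 6, 2, 7, 2, 6, 2, 7, 2, 2, 6]⟩], [45, 43, 47, 50, 47]⟩],
   []⟩]
theorem c_r2_25 : relAll tab 83 1408 HNU.base HNU.ph HNU.phI st rel2 0 om2 es25 cs25 rs2_25 = true := by decide +kernel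
def rs2_26 : List RE := [
  ⟨[⟨[], 0, [⟨94, [], []⟩, ⟨77, [37, 38], [2, 7, 7, 2, 6, 3, 7, 3, 6, 2]⟩, ⟨76, [40, 38], [3, 6, 2, 2, 6, 2, 7, 7, 3, 3, 7, 2]⟩, ⟨98, [], [6, 6, 3, 3, 7, 3, 6, 2, 2, 7, 7, 3, 3]⟩, ⟨44, [20, 23, 21, 16], [3, 6, 2, 7, 2, 6, 6, 3, 7, 7, 3]⟩], [55, 53, 55, 56, 55]⟩],
   []⟩,
  ⟨[⟨[], 0, [⟨95, [], []⟩, ⟨78, [39, 40, 39], [6, 2, 2, 6, 2, 7, 2, 7, 3, 6, 2, 7]⟩, ⟨45, [23, 20, 23, 16], [7, 7, 7, 3, 6, 2, 7, 2, 6, 6, 3, 7, 2, 6]⟩, ⟨82, [38, 40], [6, 6, 2, 2, 7, 2, 2, 6, 2, 7, 2, 6]⟩, ⟨96, [55, 56, 55, 56, 55, 56], [3, 3, 7, 3, 6, 3, 3, 6, 6, 2, 2, 2]⟩], [52, 55, 56, 54, 52]⟩],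
   []⟩,
  ⟨[⟨[], 0, [⟨96, [], []⟩, ⟨95, [56, 55, 53, 54], [7, 2, 2, 7, 3, 6, 6, 2, 7, 3, 3]⟩, ⟨78, [39, 40, 39], [7, 3, 6, 3, 7, 3, 3, 6, 2, 7, 7, 3]⟩, ⟨45, [23, 20, 23, 16], [7, 2, 6, 2, 7, 3, 6, 6, 2, 2, 6]⟩, ⟨82, [38, 40], [6, 3, 7, 7, 2, 6, 3, 6, 2, 2, 6]⟩], [54, 56, 54, 53, 55, 53, 54]⟩],
   []⟩]
theorem c_r2_26 : relAll tab 83 1408 HNU.base HNU.ph HNU.phI st rel2 0 om2 es26 cs26 rs2_26 = true := by decide +kernel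
def rs2_27 : List RE := [
  ⟨[⟨[], 0, [⟨97, [], []⟩, ⟨88, [35, 37, 35, 35], [3, 3, 7, 7, 2, 6, 3, 7, 2, 7, 7, 7]⟩, ⟨61, [29, 28, 34, 27], [7, 3, 3, 6, 2, 7, 3, 3, 6, 2, 2, 6, 3]⟩, ⟨57, [30, 29], [7, 2, 6, 3, 7, 2, 7, 3, 6, 2, 2]⟩, ⟨86, [39, 35, 35, 38], [6, 6, 2, 2, 7, 2, 2, 7, 3, 6, 3, 3]⟩], [55, 56, 55, 52, 54, 54]⟩],
   []⟩,
  ⟨[⟨[], 0, [⟨98, [], []⟩, ⟨44, [20, 23, 21, 16], [6, 2, 2, 7, 2, 6, 2, 2, 2, 6, 2, 2, 6]⟩, ⟨94, [55, 53, 55, 56, 55], [2, 2, 7, 7, 2, 7, 3, 3, 7, 2, 2, 7, 7]⟩, ⟨77, [37, 38], [2, 6, 3, 3, 6, 3, 7, 2, 7, 3, 6, 3, 3]⟩, ⟨76, [40, 38], [6, 2, 2, 7, 2, 6, 2, 2, 7, 7, 3]⟩], []⟩],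
   []⟩]
theorem c_r2_27 : relAll tab 83 1408 HNU.base HNU.ph HNU.phI st rel2 0 om2 es27 cs27 rs2_27 = true := by decide +kernel
def rs2_28 : List RE := [
  ⟨[⟨[], 0, [⟨99, [], []⟩, ⟨60, [32, 27, 27], [2, 2, 2, 7, 3, 3, 7, 2, 2, 7, 2, 2, 2]⟩, ⟨85, [40, 39], [2, 6, 3, 7, 2, 7, 7, 7, 2, 7, 3, 6]⟩, ⟨84, [38, 38], [7, 7, 3, 3, 7, 3, 3, 6, 2, 7, 7, 2]⟩, ⟨59, [27, 31], [2, 7, 3, 6, 2, 7, 2, 6, 3, 7, 7]⟩], [54, 53, 55, 56, 55]⟩],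
   []⟩,
  ⟨[⟨[], 0, [⟨100, [], []⟩, ⟨100, [54, 54, 56, 55], [2, 2, 6, 6, 2, 2, 7, 2, 2, 6, 2, 7, 2]⟩, ⟨100, [54, 54, 56, 55], [7, 7, 7, 2, 7, 7, 2, 2, 7, 2, 7]⟩, ⟨100, [54, 54, 56, 55], [2, 7, 2, 7, 3, 6, 6, 3, 7, 7, 7]⟩, ⟨100, [54, 54, 56, 55], [2, 2, 6, 6, 3, 7, 2, 6, 3, 7, 2, 7, 2]⟩], [54, 54, 56, 55]⟩],
   []⟩]
theorem c_r2_28 : relAll tab 83 1408 HNU.base HNU.ph HNU.phI st rel2 0 om2 es28 cs28 rs2_28 = true := by decide +kernel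
theorem c_rel2 : ∃ rs, relAll tab 83 1408 HNU.base HNU.ph HNU.phI st rel2 0 om2 st.edges cs rs = true :=
  ⟨_, (relAll_append c_r2_0 (relAll_append c_r2_1 (relAll_append c_r2_2 (relAll_append c_r2_3 (relAll_append c_r2_4 (relAll_append c_r2_5 (relAll_append c_r2_6 (relAll_append c_r2_7 (relAll_append c_r2_8 (relAll_append c_r2_9 (relAll_append c_r2_10 (relAll_append c_r2_11 (relAll_append c_r2_12 (relAll_append c_r2_13 (relAll_append c_r2_14 (relAll_append c_r2_15 (relAll_append c_r2_16 (relAll_append c_r2_17 (relAll_append c_r2_18 (relAll_append c_r2_19 (relAll_append c_r2_20 (relAll_append c_r2_21 (relAll_append c_r2_22 (relAll_append c_r2_23 (relAll_append c_r2_24 (relAll_append c_r2_25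 (relAll_append c_r2_26 (relAll_append c_r2_27 c_r2_28))))))))))))))))))))))))))))⟩

end Cfsg.Agent.Lib.HNM
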