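import Cfsg.Agent.Lib.HNMD

set_option autoImplicit false
set_option linter.all false
set_option maxRecDepth 100000

namespace Cfsg.Agent.Lib.HNM
open Cfsg.Agent.Lib.Dce Cfsg.Agent.Lib.HNT

/-- relator -/
def rel3 : List Tok := [.t, .t, .h [0], .t, .h [1]]
def om3 : ℕ := 0x1
theorem c_b3 : relB tab 83 1408 HNU.base HNU.ph HNU.phI 126000 rel3 0 om3 []
  [([2], [[7], [2]]), ([7], [[2], [7]])]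
  [⟨99, [([0], [99]), ([1], [99]), ([0], [216, 506]), ([1], [216, 506]), ([0], [448, 332, 500, 450]), ([1], [448, 332, 500, 450]), ([0], [780, 616, 849, 785, 1128, 627, 1015, 786]), ([1], [780, 616, 849, 785, 1128, 627, 1015, 786]), ([0], [445, 1017, 759, 1185, 723, 935, 610, 479, 776, 1267, 828, 735, 894, 934, 1147]), ([1], [445, 1017, 759, 1185, 723, 935, 610, 479, 776, 1267, 828, 330, 735, 894, 934, 1147]), ([0], [433, 1093, 1129, 1047, 344, 427, 595, 898, 1141, 582, 1158, 819, 636, 752, 347, 368, 979, 821, 844, 1340, 749, 354, 784, 1255, 1217, 754]), ([1], [215, 612, 1093, 1129, 1047, 427, 595, 898, 1160, 1141, 1021, 582, 1158, 819, 636, 752, 347, 368, 979, 366, 1340, 749, 354, 784, 1255, 1217]), ([0], [694, 1379,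 633, 753, 993, 535, 866, 1146, 687, 160, 1136, 1215, 1221, 1264, 167, 1183, 886, 1401, 779, 1169, 1378, 1348, 1356, 763, 922, 565, 1351, 1296, 299, 697, 1162, 292, 1198, 458, 502, 155, 1263, 408, 352, 473]), ([1], [694, 1379, 658, 633, 753, 993, 535, 866, 800, 687, 1037, 1087, 160, 659, 1215, 1221, 1264, 1157, 167, 1183, 886, 1401, 779, 1169, 1187, 1356, 922, 565, 1351, 299, 292, 831, 1198, 458, 502, 1263, 851, 408, 352]), ([0], [1354, 1034, 1138, 515, 740, 1051, 348, 1039, 1082, 836, 893, 355, 1380, 469, 1036, 1170, 484, 1216, 949, 936, 505, 392, 757, 558, 963, 801, 367, 339, 945, 726, 514, 234, 296, 588, 474, 1396, 923, 649, 578, 493, 897, 684, 359, 429, 737, 245, 307, 965, 773, 444, 991, 1145, 941, 608, 959, 1094,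 350, 643, 442, 797, 722, 246, 889, 1386, 1122]), ([1], [1138, 899, 740, 1051, 1039, 1082, 836, 893, 822, 1380, 469, 769, 1216, 1041, 936, 757, 801, 339, 945, 588, 861, 578, 493, 684, 359, 925, 737, 1339, 245, 1022, 307, 965, 773, 1145, 959, 350, 442, 797, 722, 1386, 1122]), ([0], [732, 839, 417, 755, 772, 1387, 635, 852, 630, 1306, 556, 698, 1086, 437, 628, 1302, 847, 334, 952, 489, 1374, 794, 966, 838, 240, 207, 1143, 488, 140, 441, 777, 1281, 862, 1140, 1013, 620, 1218, 353, 1127, 114, 1235, 719, 1163, 824, 1285, 569, 1315, 1137, 385, 834, 624, 825, 1150, 1018, 1078, 924, 854, 586, 486, 1262, 419, 1294, 1026, 968, 423, 495, 992, 1393]), ([1], [549, 755, 772, 530, 635, 852, 1400, 556, 698, 437, 1291, 1302, 847, 334,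 449, 561, 952, 1374, 838, 240, 1290, 441, 777, 1140, 1013, 620, 587, 353, 775, 114, 719, 824, 1285, 1174, 1042, 569, 834, 625, 624, 825, 1150, 482, 586, 486, 1262, 419, 992]), ([0], [1282, 937, 830, 747, 1020, 618, 1118, 1027, 357, 1159, 837, 308, 511, 940, 1342, 418, 858, 954, 1014, 476, 744, 729, 943, 1040, 843, 1144, 1365, 1230, 1090, 736, 626, 787, 1133, 973, 1220, 440, 1362, 829, 364, 1197, 961, 853, 579, 1088, 981, 835, 892, 553]), ([1], [1118, 480, 308, 858, 1394, 637, 623, 842, 972, 1375, 1362, 364, 1325, 981]), ([0], [1156, 1305, 716, 585, 1258, 609, 422, 411, 641, 1384, 481, 1167, 606, 306, 955, 581, 457, 1295]), ([1], [1297, 1305, 1142, 1258, 422, 1384, 1091, 581]), ([0], [974, 420])]⟩,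
  ⟨21, [([0, 0, 1, 0, 0, 0, 1, 0], [21]), ([0, 0, 0, 1, 1, 1, 0, 0, 0], [21]), ([1, 1, 1, 0, 1, 0, 0, 1, 0, 0], [21]), ([0, 0, 1, 0, 0, 0, 1, 0], [375, 532]), ([0, 0, 0, 1, 1, 1, 0, 0, 0], [45, 532]), ([1, 1, 1, 0, 1, 0, 0, 1, 0, 0], [45, 375, 532]), ([0, 0, 1, 0, 0, 0, 1, 0], [793, 673, 1389, 1245, 303]), ([0, 0, 0, 1, 1, 1, 0, 0, 0], [316, 250, 1389, 1245, 303]), ([1, 1, 1, 0, 1, 0, 0, 1, 0, 0], [316, 250, 793, 673]), ([0, 0, 1, 0, 0, 0, 1, 0], [975, 468, 813, 1105, 1049, 1265, 693, 1151, 1327]), ([0, 0, 0, 1, 1, 1, 0, 0, 0], [175, 750, 256, 1054, 287, 1265, 693, 1151, 1327]), ([1, 1, 1, 0, 1, 0, 0, 1, 0, 0], [175, 750, 256, 1054, 287, 975, 468, 813, 1105, 1049]), ([0, 0, 1, 0, 0, 0, 1, 0], [1223, 477, 715, 913, 148,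 237, 280, 258, 544, 1333]), ([0, 0, 0, 1, 1, 1, 0, 0, 0], [1300, 1406, 1103, 1208, 670, 681, 1256, 170, 148, 237, 280, 258, 320, 544, 456, 1333, 676, 1164]), ([1, 1, 1, 0, 1, 0, 0, 1, 0, 0], [1114, 1300, 1406, 1103, 1208, 670, 681, 1256, 170, 564, 248, 534, 197, 939]), ([0, 0, 1, 0, 0, 0, 1, 0], [533, 730, 221, 293, 67, 1388, 827, 264, 539, 621, 1314, 1361, 335, 647, 391, 672]), ([0, 0, 0, 1, 1, 1, 0, 0, 0], [1332, 281, 333, 574, 335, 672]), ([1, 1, 1, 0, 1, 0, 0, 1, 0, 0], [497, 1070, 1319, 1069, 131, 293, 827]), ([0, 0, 1, 0, 0, 0, 1, 0], [1346])]⟩,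
  ⟨3, [([1, 1, 1, 0, 1, 0, 0, 1, 0, 0, 1, 1, 1, 0, 1, 0, 0, 1, 0, 0, 0, 0, 1, 0, 0, 0, 1, 0, 0, 0, 0, 1, 1, 1, 0, 0, 0, 1, 1, 1, 0, 1, 0, 0, 1, 0, 0], [3])]⟩] = true := by decide +kernel
def rs3_0 : List RE := [
  ⟨[⟨[], 0, [⟨0, [], []⟩, ⟨1, [], []⟩, ⟨5, [], []⟩], [0]⟩],
   []⟩,
  ⟨[⟨[], 0, [⟨1, [], []⟩, ⟨3, [], []⟩, ⟨1, [], []⟩], []⟩],
   []⟩]
theorem c_r3_0 : relAll tab 83 1408 HNU.base HNU.ph HNU.phI st rel3 0 om3 es0 cs0 rs3_0 = true := by decide +kernel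
def rs3_1 : List RE := [
  ⟨[⟨[], 0, [⟨2, [], []⟩, ⟨5, [], []⟩, ⟨0, [1], []⟩], []⟩],
   []⟩,
  ⟨[⟨[], 0, [⟨3, [], []⟩, ⟨2, [], []⟩, ⟨2, [], []⟩], []⟩],
   []⟩,
  ⟨[⟨[], 0, [⟨4, [], []⟩, ⟨8, [], []⟩, ⟨15, [5], []⟩], []⟩],
   []⟩]
theorem c_r3_1 : relAll tab 83 1408 HNU.base HNU.ph HNU.phI st rel3 0 om3 es1 cs1 rs3_1 = true := by decide +kernel
def rs3_2 : List RE := [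
  ⟨[⟨[], 0, [⟨5, [], []⟩, ⟨0, [], []⟩, ⟨3, [], []⟩], []⟩],
   []⟩,
  ⟨[⟨[], 0, [⟨6, [], []⟩, ⟨12, [], []⟩, ⟨13, [], []⟩], []⟩],
   []⟩,
  ⟨[⟨[], 0, [⟨7, [], []⟩, ⟨26, [4], []⟩, ⟨4, [], []⟩], []⟩],
   []⟩,
  ⟨[⟨[], 0, [⟨8, [], []⟩, ⟨14, [5], []⟩, ⟨26, [], []⟩], []⟩],
   []⟩]
theorem c_r3_2 : relAll tab 83 1408 HNU.base HNU.ph HNU.phI st rel3 0 om3 es2 cs2 rs3_2 = true := by decide +kernel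
def rs3_3 : List RE := [
  ⟨[⟨[], 0, [⟨9, [], []⟩, ⟨21, [5, 18], [7, 3, 6, 6, 3, 6, 6, 2, 2, 7, 3, 6, 6, 2, 2]⟩, ⟨34, [23], [3, 7, 2, 6, 2, 2, 7, 7, 2]⟩], [2, 2, 2, 7, 2, 2, 6, 2, 7, 2, 6, 3, 3]⟩],
   []⟩,
  ⟨[⟨[], 0, [⟨10, [], []⟩, ⟨30, [], []⟩, ⟨20, [], [7, 2, 7, 3, 3, 6, 6, 3, 7, 7, 2, 2]⟩], [3, 3, 7, 2, 6, 2, 2, 2]⟩],
   []⟩,
  ⟨[⟨[], 0, [⟨11, [], []⟩, ⟨46, [], []⟩, ⟨50, [], [6, 3, 6, 2, 7, 2, 2, 7, 7, 2, 6, 2]⟩], [7, 3, 6, 2, 7, 7, 2, 2, 2, 6, 2]⟩],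
   []⟩,
  ⟨[⟨[], 0, [⟨12, [], []⟩, ⟨15, [5], []⟩, ⟨8, [], []⟩], [5]⟩],
   []⟩,
  ⟨[⟨[], 0, [⟨13, [], []⟩, ⟨4, [], []⟩, ⟨6, [], []⟩], [5]⟩],
   []⟩]
theorem c_r3_3 : relAll tab 83 1408 HNU.base HNU.ph HNU.phI st rel3 0 om3 es3 cs3 rs3_3 = true := by decide +kernel
def rs3_4 : List RE := [
  ⟨[⟨[], 0, [⟨14, [], []⟩, ⟨27, [4], []⟩, ⟨12, [5], []⟩], [5]⟩],
   []⟩,
  ⟨[⟨[], 0, [⟨15, [], []⟩, ⟨7, [], []⟩, ⟨27, [14, 4], []⟩], [5]⟩],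
   []⟩,
  ⟨[⟨[], 0, [⟨16, [], []⟩, ⟨33, [26], [7, 2, 2, 6, 3, 6, 6, 3, 7, 2, 7, 2]⟩, ⟨17, [9, 17, 10], [2, 7, 2, 2, 7, 2, 2, 6, 6, 2, 2, 7, 2]⟩], [5]⟩],
   []⟩,
  ⟨[⟨[], 0, [⟨17, [], []⟩, ⟨18, [5], [7, 2, 7, 3, 6, 6, 3, 7, 7, 2, 6, 2, 2]⟩, ⟨67, [39], [3, 7, 7, 3, 6, 6, 3, 7, 2, 6, 2, 2, 7, 2]⟩], [18, 18, 9, 13, 9]⟩],
   []⟩,
  ⟨[⟨[], 0, [⟨18, [], []⟩, ⟨71, [], [2, 6, 6, 2, 2, 7, 3, 3, 7, 3, 6, 3]⟩, ⟨33, [], [7, 3, 6, 3, 3, 7, 7, 2, 2, 2, 6, 2, 2]⟩], [9, 17, 10]⟩],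
   []⟩]
theorem c_r3_4 : relAll tab 83 1408 HNU.base HNU.ph HNU.phI st rel3 0 om3 es4 cs4 rs3_4 = true := by decide +kernel
def rs3_5 : List RE := [
  ⟨[⟨[], 0, [⟨19, [], []⟩, ⟨68, [38, 36, 39], [2, 7, 3, 6, 3, 7, 3, 6, 3, 3, 6]⟩, ⟨65, [38], [6, 3, 7, 7, 3]⟩], [13, 8, 18, 18]⟩],
   []⟩,
  ⟨[⟨[], 0, [⟨20, [], []⟩, ⟨9, [3, 3, 7, 2, 6, 2, 2, 2], [3, 3, 6, 6, 2, 7, 7, 2, 2, 6, 3, 6]⟩, ⟨24, [5, 18], [3, 6, 3, 3, 7, 7, 3, 3, 6, 3, 3, 6]⟩], [17, 17, 9, 8]⟩],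
   []⟩,
  ⟨[⟨[], 0, [⟨21, [], []⟩, ⟨32, [23, 21], [3, 3, 6, 6, 3, 7, 7, 3, 6, 6, 3, 7, 7, 3, 3]⟩, ⟨30, [23], [6, 2, 2, 2, 6, 3, 3, 7, 2, 2, 7, 3, 3]⟩], [5, 13, 5, 8, 13]⟩],
   []⟩,
  ⟨[⟨[], 0, [⟨22, [], []⟩, ⟨72, [35], [7, 7, 3, 3, 6, 2, 2, 7, 7, 3, 6]⟩, ⟨49, [], [2, 6, 2, 2, 6, 3, 3, 6, 3, 7, 7, 7]⟩], [18, 9, 17, 13, 10]⟩],
   []⟩]
theorem c_r3_5 : relAll tab 83 1408 HNU.base HNU.ph HNU.phI st rel3 0 om3 es5 cs5 rs3_5 = true := by decide +kernel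
def rs3_6 : List RE := [
  ⟨[⟨[], 0, [⟨23, [], []⟩, ⟨34, [], [2, 2, 7, 7, 2, 6, 6, 2, 2, 2, 6]⟩, ⟨9, [7, 3, 6, 2, 7, 2, 2, 2], [6, 2, 7, 3, 6, 6, 2, 2, 2, 7, 7, 2, 6]⟩], [18, 8, 10]⟩],
   []⟩,
  ⟨[⟨[], 0, [⟨24, [], []⟩, ⟨23, [5], [7, 3, 3, 6, 3, 7, 3, 3, 6, 6, 2, 2]⟩, ⟨31, [21, 26], [3, 6, 3, 7, 7, 2, 7, 3, 6, 6]⟩], [5, 9, 13, 9]⟩],
   []⟩,
  ⟨[⟨[], 0, [⟨25, [], []⟩, ⟨54, [28, 33], [3, 6, 2, 7, 2, 6, 3, 3, 6, 2, 2, 6]⟩, ⟨74, [38, 36], [7, 3, 6, 2, 7, 7, 2, 2, 6, 6, 2, 2]⟩], [9, 18, 10, 13, 8, 9]⟩],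
   []⟩,
  ⟨[⟨[], 0, [⟨26, [], []⟩, ⟨6, [], []⟩, ⟨14, [], []⟩], [14, 4]⟩],
   []⟩]
theorem c_r3_6 : relAll tab 83 1408 HNU.base HNU.ph HNU.phI st rel3 0 om3 es6 cs6 rs3_6 = true := by decide +kernel
def rs3_7 : List RE := [
  ⟨[⟨[], 0, [⟨27, [], []⟩, ⟨13, [], []⟩, ⟨7, [], []⟩], []⟩],
   []⟩,
  ⟨[⟨[], 0, [⟨28, [], []⟩, ⟨42, [23], [7, 7, 2, 6, 3, 7, 2, 2, 6, 2]⟩, ⟨66, [38], [2, 7, 2, 2, 7, 3, 6, 2, 7, 7, 2, 7]⟩], [19, 10, 19, 19, 19, 10]⟩],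
   []⟩,
  ⟨[⟨[], 0, [⟨29, [], []⟩, ⟨62, [], []⟩, ⟨36, [], [6, 3, 3, 7, 3, 6, 2, 7, 7, 2, 2, 6]⟩], [4, 9, 9, 12, 9]⟩],
   []⟩,
  ⟨[⟨[], 0, [⟨30, [], []⟩, ⟨24, [], [2, 7, 2, 6, 6, 3, 3, 6, 2, 2, 7, 7]⟩, ⟨21, [9, 17], [2, 2, 6, 3, 3, 7, 2, 7, 3, 6, 3, 3]⟩], [20, 20, 23, 22, 15]⟩],
   []⟩,
  ⟨[⟨[], 0, [⟨31, [], []⟩, ⟨20, [9, 5, 10], [6, 2, 2, 6, 6, 3, 6, 2, 7, 2, 2, 2]⟩, ⟨10, [], [3, 6, 2, 7, 2, 2, 7, 2, 6]⟩], [22, 26, 20, 21]⟩],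
   []⟩]
theorem c_r3_7 : relAll tab 83 1408 HNU.base HNU.ph HNU.phI st rel3 0 om3 es7 cs7 rs3_7 = true := by decide +kernel
def rs3_8 : List RE := [
  ⟨[⟨[], 0, [⟨32, [], []⟩, ⟨31, [], [7, 7, 7, 2, 2, 7, 2, 6, 3, 3]⟩, ⟨23, [], [3, 7, 2, 7, 7, 3, 3, 6, 3, 7, 2, 6, 3]⟩], [21, 21, 20, 21, 15]⟩],
   []⟩,
  ⟨[⟨[], 0, [⟨33, [], []⟩, ⟨19, [9, 17, 10], [2, 6, 3, 7, 7, 2, 7, 7, 7, 2, 2, 7, 3]⟩, ⟨71, [38, 36], [6, 6, 2, 2, 6, 6, 3, 7, 7, 7, 2, 7]⟩], [20, 22, 26, 16]⟩],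
   []⟩,
  ⟨[⟨[], 0, [⟨34, [], []⟩, ⟨10, [7, 3, 6, 2, 7, 2, 2, 2], [3, 7, 2, 2, 7, 7, 3, 6, 6, 2, 2, 6, 6]⟩, ⟨32, [], [6, 2, 7, 7, 2, 2, 6, 3, 3, 7, 7, 3, 3]⟩], [23, 16, 21]⟩],
   []⟩,
  ⟨[⟨[], 0, [⟨35, [], []⟩, ⟨65, [36], [6, 6, 2, 2, 6, 6, 3, 7, 7, 7, 2, 7]⟩, ⟨16, [9, 17, 10], [7, 3, 3, 7, 7, 2, 6, 6, 2, 7]⟩], [15, 23, 21, 21]⟩],
   []⟩,
  ⟨[⟨[], 0, [⟨36, [], []⟩, ⟨28, [4, 9, 9, 12, 9], [7, 3, 3, 6, 6, 3, 7, 2, 6, 2, 2, 7]⟩, ⟨37, [23], [7, 2, 6, 3, 7, 2, 6, 2, 2, 6, 3, 3, 6]⟩], [20, 15, 20, 23, 16]⟩],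
   []⟩]
theorem c_r3_8 : relAll tab 83 1408 HNU.base HNU.ph HNU.phI st rel3 0 om3 es8 cs8 rs3_8 = true := by decide +kernel
def rs3_9 : List RE := [
  ⟨[⟨[], 0, [⟨37, [], []⟩, ⟨38, [21], [3, 6, 6, 3, 3, 6, 3, 7, 3, 6, 2, 2]⟩, ⟨63, [], [2, 2, 7, 2, 6, 3, 3, 6, 2, 2, 2, 7]⟩], [16, 21, 21, 20, 15]⟩],
   []⟩,
  ⟨[⟨[], 0, [⟨38, [], []⟩, ⟨66, [], [2, 7, 2, 2, 6, 6, 3, 7, 2, 6, 3, 3]⟩, ⟨28, [14, 4], [6, 2, 2, 7, 2, 6, 3, 7, 2, 2]⟩], [15, 23]⟩],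
   []⟩,
  ⟨[⟨[], 0, [⟨39, [], []⟩, ⟨40, [21, 21, 26, 15], [3, 6, 6, 3, 6, 6, 2, 2, 6, 2]⟩, ⟨53, [34, 29, 27], [3, 7, 7, 3, 3, 7, 3, 6, 2, 7]⟩], [20, 22, 16]⟩],
   []⟩,
  ⟨[⟨[], 0, [⟨40, [], []⟩, ⟨55, [34, 29, 27], [7, 7, 3, 6, 3, 3, 7, 3, 6, 2, 2]⟩, ⟨79, [39, 36], [2, 7, 7, 3, 3, 6, 3, 7, 2, 2, 2, 6, 2]⟩], [21, 20, 21, 16, 21]⟩],
   []⟩]
theorem c_r3_9 : relAll tab 83 1408 HNU.base HNU.ph HNU.phI st rel3 0 om3 es9 cs9 rs3_9 = true := by decide +kernel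
def rs3_10 : List RE := [
  ⟨[⟨[], 0, [⟨41, [], []⟩, ⟨58, [33, 27], [6, 6, 3, 7, 3, 6, 2, 7, 7, 2, 6, 6, 2, 2, 2]⟩, ⟨56, [32, 34], [6, 6, 2, 2, 2, 6, 2, 2, 6, 3, 3, 7, 7]⟩], [15, 16, 16, 26, 16]⟩],
   []⟩,
  ⟨[⟨[], 0, [⟨42, [], []⟩, ⟨64, [38], [2, 6, 2, 7, 7, 3, 3, 7, 3, 3, 6, 2]⟩, ⟨62, [], [2, 6, 6, 3, 3, 7, 2, 2, 6, 6, 2, 2, 7]⟩], [21, 15, 16, 26]⟩],
   []⟩,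
  ⟨[⟨[], 0, [⟨43, [], []⟩, ⟨79, [], [2, 6, 2, 7, 2, 6, 3, 3, 6, 6]⟩, ⟨39, [16, 22, 15], [3, 7, 3, 6, 2, 2]⟩], [21, 23, 21, 15, 16]⟩],
   []⟩,
  ⟨[⟨[], 0, [⟨44, [], []⟩, ⟨94, [55, 53, 55, 56, 55], [2, 6, 6, 2, 7, 7, 3, 6, 3, 7, 2]⟩, ⟨78, [39, 35, 35], [6, 2, 2, 2, 6, 3, 3, 6, 2, 2, 7]⟩], [20, 21, 15, 23]⟩],
   []⟩]
theorem c_r3_10 : relAll tab 83 1408 HNU.base HNU.ph HNU.phI st rel3 0 om3 es10 cs10 rs3_10 = true := by decide +kernel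
def rs3_11 : List RE := [
  ⟨[⟨[], 0, [⟨45, [], []⟩, ⟨82, [38, 40], [2, 7, 2, 7, 7, 7, 2, 2, 6, 3, 3]⟩, ⟨98, [54, 54, 56, 53, 55, 55], [6, 6, 3, 3, 6, 6, 3, 3, 7, 7]⟩], [23, 21, 23, 22]⟩],
   []⟩,
  ⟨[⟨[], 0, [⟨46, [], []⟩, ⟨48, [], [3, 6, 3, 7, 2, 7, 7, 2, 2, 2, 6, 2]⟩, ⟨46, [], [7, 3, 6, 2, 7, 7, 3, 6, 2, 7, 2, 2, 6]⟩], [31, 28, 28, 30]⟩],
   []⟩,
  ⟨[⟨[], 0, [⟨47, [], []⟩, ⟨50, [], [3, 7, 2, 2, 2, 6, 6, 3, 6, 2, 7, 2]⟩, ⟨11, [3, 6, 3, 7, 2, 6], [7, 2, 6, 3, 3, 6, 3, 3, 7, 2, 6, 2]⟩], [32, 32, 31, 30]⟩],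
   []⟩,
  ⟨[⟨[], 0, [⟨48, [], []⟩, ⟨47, [], [6, 3, 6, 2, 2, 7, 2, 6, 2, 2, 7, 3, 6]⟩, ⟨47, [], [3, 7, 3, 6, 3, 7, 7, 2, 6]⟩], [33, 33, 32]⟩],
   []⟩]
theorem c_r3_11 : relAll tab 83 1408 HNU.base HNU.ph HNU.phI st rel3 0 om3 es11 cs11 rs3_11 = true := by decide +kernel
def rs3_12 : List RE := [
  ⟨[⟨[], 0, [⟨49, [], []⟩, ⟨25, [17, 17, 10, 13], [7, 7, 3, 6, 6, 3, 7, 2, 7, 3, 6, 3]⟩, ⟨51, [28, 33], [7, 2, 6, 2, 2, 7, 7, 3, 3, 6]⟩], [32, 34, 28, 29]⟩],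
   []⟩,
  ⟨[⟨[], 0, [⟨50, [], []⟩, ⟨11, [2, 6, 2, 7, 3, 3], [3, 7, 3, 6, 2, 2]⟩, ⟨48, [], [3, 7, 3, 3, 7, 7]⟩], [27, 28, 27]⟩],
   []⟩,
  ⟨[⟨[], 0, [⟨51, [], []⟩, ⟨52, [34, 27], [7, 2, 6, 2, 2, 7, 7, 3, 3, 6]⟩, ⟨80, [36, 35], [6, 6, 3, 7, 2, 6, 2, 2, 2, 6, 2, 7, 2, 7]⟩], [31, 28, 33, 30]⟩],
   []⟩,
  ⟨[⟨[], 0, [⟨52, [], []⟩, ⟨74, [36, 35], [2, 6, 2, 2, 7, 7, 2, 7, 3, 3, 7, 2, 2, 7]⟩, ⟨25, [10, 8], [7, 3, 6, 6, 2, 2, 7, 2, 2, 6, 2, 7, 7]⟩], [31, 27, 33, 27]⟩],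
   []⟩]
theorem c_r3_12 : relAll tab 83 1408 HNU.base HNU.ph HNU.phI st rel3 0 om3 es12 cs12 rs3_12 = true := by decide +kernel
def rs3_13 : List RE := [
  ⟨[⟨[], 0, [⟨53, [], []⟩, ⟨43, [20, 22, 16], [6, 3, 7, 2, 6, 2, 2, 6, 6, 2]⟩, ⟨83, [38, 40, 38, 38], [2, 6, 2, 7, 3, 6, 6, 2, 7, 7, 2, 7, 3]⟩], [34, 28]⟩],
   []⟩,
  ⟨[⟨[], 0, [⟨54, [], []⟩, ⟨69, [38, 36], [7, 3, 6, 6, 3, 7, 7, 2, 2, 2, 7, 3, 6]⟩, ⟨72, [38, 40], [2, 6, 2, 2, 7, 7, 2, 7, 3, 3, 7, 2, 2, 7]⟩], [29, 32, 29, 32]⟩],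
   []⟩,
  ⟨[⟨[], 0, [⟨55, [], []⟩, ⟨83, [39, 40, 39, 35], [7, 7, 3, 6, 2, 7, 2, 2, 2, 7, 2]⟩, ⟨58, [33, 30], [2, 2, 7, 3, 6, 6, 3, 7, 7, 7]⟩], [32, 34]⟩],
   []⟩,
  ⟨[⟨[], 0, [⟨56, [], []⟩, ⟨39, [20, 23], [3, 3, 7, 7, 3, 3, 6, 3, 7, 7, 7]⟩, ⟨41, [20, 23, 16, 15], [2, 7, 2, 7, 7, 2, 6, 6, 3, 7, 2, 6, 2, 7, 2]⟩], [33, 27]⟩],
   []⟩]
theorem c_r3_13 : relAll tab 83 1408 HNU.base HNU.ph HNU.phI st rel3 0 om3 es13 cs13 rs3_13 = true := by decide +kernel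
def rs3_14 : List RE := [
  ⟨[⟨[], 0, [⟨57, [], []⟩, ⟨86, [39, 35, 35, 38], [6, 6, 3, 7, 7, 3, 6, 6, 2, 2, 2, 6, 2, 7]⟩, ⟨99, [56, 53], [2, 2, 2, 6, 3, 3, 6, 2, 2, 6, 2, 2, 2]⟩], [32, 27, 27]⟩],
   []⟩,
  ⟨[⟨[], 0, [⟨58, [], []⟩, ⟨53, [32, 34], [7, 7, 7, 2, 7, 7, 2, 6, 3, 3]⟩, ⟨40, [20, 22, 16], [7, 2, 2, 7, 2, 2, 6, 6, 2, 2, 7, 3, 3]⟩], [28, 33, 32]⟩],
   []⟩]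
theorem c_r3_14 : relAll tab 83 1408 HNU.base HNU.ph HNU.phI st rel3 0 om3 es14 cs14 rs3_14 = true := by decide +kernel
def rs3_15 : List RE := [
  ⟨[⟨[], 0, [⟨59, [], []⟩, ⟨99, [54, 53, 55, 56, 55], [6, 6, 2, 7, 3, 6, 3, 7, 2, 6, 3]⟩, ⟨61, [34, 29], [3, 7, 2, 2, 7, 7, 3, 6, 3, 7, 3, 3, 7]⟩], [29, 32, 32]⟩],
   []⟩,
  ⟨[⟨[], 0, [⟨60, [], []⟩, ⟨85, [40, 39], [7, 7, 3, 6, 2, 2, 2, 7, 7, 2, 6, 2]⟩, ⟨88, [37, 35], [3, 7, 2, 6, 3, 7, 2, 7, 2, 6, 2, 2, 7]⟩], [29]⟩],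
   []⟩]
theorem c_r3_15 : relAll tab 83 1408 HNU.base HNU.ph HNU.phI st rel3 0 om3 es15 cs15 rs3_15 = true := by decide +kernel
def rs3_16 : List RE := [
  ⟨[⟨[], 0, [⟨61, [], []⟩, ⟨57, [30, 29], [6, 6, 3, 3, 7, 3, 6, 3, 7, 7, 2, 6, 3]⟩, ⟨84, [36, 40, 36, 40], [7, 2, 7, 2, 6, 3, 7, 7, 2, 6, 3, 7, 2, 2]⟩], [33, 27, 27, 27]⟩],
   []⟩,
  ⟨[⟨[], 0, [⟨62, [], []⟩, ⟨37, [], [3, 6, 3, 7, 3, 3, 7, 2, 2, 7, 7, 3]⟩, ⟨42, [21], [2, 2, 6, 2, 2, 6, 3, 3, 7, 2, 6, 3, 6, 2, 2]⟩], [40, 36, 39, 35]⟩],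
   []⟩,
  ⟨[⟨[], 0, [⟨63, [], []⟩, ⟨36, [16, 16], [7, 3, 6, 2, 7, 2, 2, 6, 2, 7, 2, 2, 6]⟩, ⟨29, [14, 9, 9, 12, 9], [2, 2, 7, 7, 2, 2, 7, 7, 2, 6, 3]⟩], [35, 37, 40]⟩],
   []⟩,
  ⟨[⟨[], 0, [⟨64, [], []⟩, ⟨63, [], [6, 6, 3, 6, 2, 7, 7, 2, 7, 2, 6]⟩, ⟨38, [16, 16], [2, 2, 2, 6, 2, 7, 2, 2, 6, 2, 7, 2, 7]⟩], [39, 39, 40, 40]⟩],
   []⟩]
theorem c_r3_16 : relAll tab 83 1408 HNU.base HNU.ph HNU.phI st rel3 0 om3 es16 cs16 rs3_16 = true := by decide +kernel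
def rs3_17 : List RE := [
  ⟨[⟨[], 0, [⟨65, [], []⟩, ⟨17, [9, 17, 10], [2, 7, 2, 6, 2, 2, 6, 3, 3, 7, 7, 3]⟩, ⟨19, [5], [3, 7, 7, 2, 2, 6, 6, 2, 2, 7, 7]⟩], [36, 39]⟩],
   []⟩,
  ⟨[⟨[], 0, [⟨66, [], []⟩, ⟨29, [14, 4], [2, 7, 2, 6, 2, 2, 6, 3, 3, 7, 7, 3]⟩, ⟨64, [], [7, 2, 2, 6, 2, 7, 3, 6, 6, 2, 2, 6]⟩], [36, 36, 35]⟩],
   []⟩,
  ⟨[⟨[], 0, [⟨67, [], []⟩, ⟨16, [], [3, 7, 7, 2, 6, 2, 2, 7, 7, 2, 7, 3, 3]⟩, ⟨35, [21], [2, 6, 6, 3, 6, 6, 3, 7, 7, 3]⟩], [37, 39, 40, 40]⟩],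
   []⟩,
  ⟨[⟨[], 0, [⟨68, [], []⟩, ⟨67, [], [7, 2, 7, 7, 3, 3, 7, 7, 2, 7, 7, 2, 7]⟩, ⟨18, [], [3, 7, 7, 3]⟩], [36, 36, 39, 35, 35]⟩],
   []⟩,
  ⟨[⟨[], 0, [⟨69, [], []⟩, ⟨80, [38, 40], [2, 6, 6, 3, 7, 3, 6, 2, 7, 7, 2, 2, 6]⟩, ⟨52, [34, 32, 27], [6, 2, 7, 7, 3, 3, 7, 3, 3, 6, 2, 7, 2, 2]⟩], [36, 35]⟩],
   []⟩]
theorem c_r3_17 : relAll tab 83 1408 HNU.base HNU.ph HNU.phI st rel3 0 om3 es17 cs17 rs3_17 = true := by decide +kernel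
def rs3_18 : List RE := [
  ⟨[⟨[], 0, [⟨70, [], []⟩, ⟨81, [], [2, 2, 7, 3, 6, 3, 7, 3, 6, 2, 2, 2]⟩, ⟨81, [37], [7, 3, 3, 6, 2, 7, 2, 6, 2, 7, 2, 2]⟩], [38, 40, 39]⟩],
   []⟩,
  ⟨[⟨[], 0, [⟨71, [], []⟩, ⟨35, [], [2, 7, 2, 6, 3, 6, 6, 2, 7, 2, 7, 7]⟩, ⟨68, [36, 39], [2, 7, 2, 2, 2, 7, 2, 2, 7, 2, 7]⟩], [38, 35, 35]⟩],
   []⟩,
  ⟨[⟨[], 0, [⟨72, [], []⟩, ⟨51, [], [3, 6, 3, 3, 7, 7, 3, 3]⟩, ⟨54, [34, 27], [7, 2, 6, 2, 7, 2, 6, 6, 2, 2, 7, 2, 6]⟩], [38, 36]⟩],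
   []⟩,
  ⟨[⟨[], 0, [⟨73, [], []⟩, ⟨70, [35, 38], [7, 7, 3, 3, 7, 2, 2, 6, 6, 2]⟩, ⟨73, [], [7, 3, 3, 6, 2, 7, 2, 6, 2, 7, 2, 2]⟩], [40, 38, 36]⟩],
   []⟩,
  ⟨[⟨[], 0, [⟨74, [], []⟩, ⟨22, [17, 18, 17, 17], [3, 3, 7, 7, 2, 6, 3, 7, 2, 2, 7, 7]⟩, ⟨69, [35], [3, 3, 6, 6, 3, 6, 2, 7, 2, 6, 3, 7, 7, 2, 2]⟩], [38, 36, 36]⟩],
   []⟩]
theorem c_r3_18 : relAll tab 83 1408 HNU.base HNU.ph HNU.phI st rel3 0 om3 es18 cs18 rs3_18 = true := by decide +kernel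
def rs3_19 : List RE := [
  ⟨[⟨[], 0, [⟨75, [], []⟩, ⟨92, [48], [6, 2, 2, 6, 6, 3, 7, 7, 3, 3]⟩, ⟨70, [], [3, 6, 6, 3, 7, 7, 2, 2, 6, 3, 3, 6, 2, 7, 2]⟩], [38, 40, 38]⟩],
   []⟩,
  ⟨[⟨[], 0, [⟨76, [], []⟩, ⟨98, [], [2, 6, 6, 3, 3, 7, 3, 6, 3, 3, 7]⟩, ⟨45, [15, 23, 21, 20], [3, 7, 7, 7, 3, 6, 6, 3, 3, 7, 2, 2, 7]⟩], [39, 39, 35, 35, 38]⟩],
   []⟩,
  ⟨[⟨[], 0, [⟨77, [], []⟩, ⟨76, [40, 38], [3, 6, 3, 7, 2, 6, 3, 7, 2, 2]⟩, ⟨95, [54, 53, 54, 54, 54, 54], [2, 6, 3, 7, 2, 7, 7, 7, 2, 7, 3, 6, 2]⟩], [39, 40, 39, 35]⟩],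
   []⟩]
theorem c_r3_19 : relAll tab 83 1408 HNU.base HNU.ph HNU.phI st rel3 0 om3 es19 cs19 rs3_19 = true := by decide +kernel
def rs3_20 : List RE := [
  ⟨[⟨[], 0, [⟨78, [], []⟩, ⟨45, [23, 20, 23, 16], [6, 2, 7, 2, 7, 7, 2, 6, 3, 3, 7, 2, 2]⟩, ⟨77, [38, 40], [6, 2, 2, 7, 3, 6, 2, 7, 7, 2, 7, 2, 2]⟩], [35, 39, 35]⟩],
   []⟩,
  ⟨[⟨[], 0, [⟨79, [], []⟩, ⟨41, [22, 20, 15], [2, 6, 3, 6, 2, 7, 2, 6, 3, 7, 7, 7]⟩, ⟨55, [33, 27], [2, 6, 6, 3, 3, 6, 3, 7, 2, 2, 2, 7, 2, 7]⟩], [37, 39, 40, 36]⟩],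
   []⟩,
  ⟨[⟨[], 0, [⟨80, [], []⟩, ⟨49, [34, 32, 27], [7, 3, 3, 7, 2, 2, 7, 3, 6, 2, 7, 2, 2, 2]⟩, ⟨22, [17, 17, 10, 13], [7, 2, 6, 6, 3, 3, 6, 3, 7, 2, 2, 6, 3]⟩], [38, 35, 39, 40]⟩],
   []⟩,
  ⟨[⟨[], 0, [⟨81, [], []⟩, ⟨75, [37], [3, 7, 7, 3, 6, 6, 2, 2, 6, 3]⟩, ⟨92, [46, 43, 44, 43], [7, 2, 6, 6, 2]⟩], [39, 39, 37, 35]⟩],
   []⟩]
theorem c_r3_20 : relAll tab 83 1408 HNU.base HNU.ph HNU.phI st rel3 0 om3 es20 cs20 rs3_20 = true := by decide +kernel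
def rs3_21 : List RE := [
  ⟨[⟨[], 0, [⟨82, [], []⟩, ⟨96, [55, 56, 55, 56, 55, 56], [2, 6, 6, 3, 6, 6, 2, 7, 7, 2, 7]⟩, ⟨94, [53, 54, 56, 54, 52], [3, 3, 7, 2, 7, 3, 6, 6, 3, 7, 7, 2, 2, 7]⟩], [38, 36, 40]⟩],
   []⟩,
  ⟨[⟨[], 0, [⟨83, [], []⟩, ⟨56, [33, 30], [7, 2, 7, 7, 2, 6, 6, 2, 7, 7, 2, 6, 2]⟩, ⟨43, [20, 23], [3, 6, 3, 7, 7, 3, 6, 6, 3, 3, 7]⟩], [37, 39, 35]⟩],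
   []⟩,
  ⟨[⟨[], 0, [⟨84, [], []⟩, ⟨59, [27, 31], [2, 6, 2, 2, 6, 3, 3, 6, 3, 3, 7, 2]⟩, ⟨97, [54, 53, 55, 56, 55], [7, 2, 6, 3, 3, 7, 3, 3, 7, 7, 7, 2]⟩], [37, 39, 37, 38]⟩],
   []⟩]
theorem c_r3_21 : relAll tab 83 1408 HNU.base HNU.ph HNU.phI st rel3 0 om3 es21 cs21 rs3_21 = true := by decide +kernel
def rs3_22 : List RE := [
  ⟨[⟨[], 0, [⟨85, [], []⟩, ⟨84, [38, 38], [6, 2, 7, 2, 6, 2, 7, 2, 2, 6, 2, 2, 6]⟩, ⟨57, [27, 31], [7, 7, 3, 6, 6, 2, 7, 7, 3, 3, 7, 2, 2]⟩], [36, 36, 39, 40, 40]⟩],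
   []⟩,
  ⟨[⟨[], 0, [⟨86, [], []⟩, ⟨97, [55, 56, 55, 52, 54, 54], [2, 2, 7, 2, 6, 3, 3, 6, 3, 3, 7, 7]⟩, ⟨85, [40, 40, 39], [6, 6, 2, 2, 6, 6, 3, 3, 6, 6, 2, 7, 7]⟩], [38, 38, 40]⟩],
   []⟩]
theorem c_r3_22 : relAll tab 83 1408 HNU.base HNU.ph HNU.phI st rel3 0 om3 es22 cs22 rs3_22 = true := by decide +kernel
def rs3_23 : List RE := [
  ⟨[⟨[], 0, [⟨87, [], []⟩, ⟨87, [38, 40, 38], [7, 2, 7, 7, 3, 3, 6, 3, 3, 6, 2, 2, 7, 2, 2]⟩, ⟨90, [38, 40, 38], [2, 6, 3, 6, 2, 7, 7, 2, 7, 7, 2, 2, 2]⟩], [35, 37, 35]⟩],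
   []⟩,
  ⟨[⟨[], 0, [⟨88, [], []⟩, ⟨61, [29, 28, 34, 27], [6, 3, 3, 7, 2, 7, 2, 2, 7, 3, 3, 7, 2, 2]⟩, ⟨60, [30, 29], [3, 7, 3, 6, 3, 3, 6, 6, 2, 7, 2]⟩], [35, 35, 37, 35, 35]⟩],
   []⟩]
theorem c_r3_23 : relAll tab 83 1408 HNU.base HNU.ph HNU.phI st rel3 0 om3 es23 cs23 rs3_23 = true := by decide +kernel
def rs3_24 : List RE := [
  ⟨[⟨[], 0, [⟨89, [], []⟩, ⟨89, [37, 40, 40], [2, 6, 3, 6, 2, 7, 7, 2, 7, 7, 2, 2, 2]⟩, ⟨87, [37, 40, 40], [3, 7, 2, 2, 6, 2, 7, 2, 2, 6, 6, 3, 6, 2, 7]⟩], [39, 36, 38]⟩],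
   []⟩,
  ⟨[⟨[], 0, [⟨90, [], []⟩, ⟨90, [36, 36, 35], [6, 3, 7, 7, 2, 6, 3, 7, 7, 2, 6]⟩, ⟨91, [38, 35, 35, 38], [6, 2, 7, 3, 6, 2, 7, 2, 2, 7, 2, 7]⟩], [39, 37, 35, 38]⟩],
   []⟩]
theorem c_r3_24 : relAll tab 83 1408 HNU.base HNU.ph HNU.phI st rel3 0 om3 es24 cs24 rs3_24 = true := by decide +kernel
def rs3_25 : List RE := [
  ⟨[⟨[], 0, [⟨91, [], []⟩, ⟨91, [35, 37, 35], [2, 6, 3, 6, 2, 7, 7, 2, 7, 3, 6, 3]⟩, ⟨89, [35], [6, 2, 2, 7, 3, 6, 2, 7, 7]⟩], [39, 39, 35]⟩],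
   []⟩,
  ⟨[⟨[], 0, [⟨92, [], []⟩, ⟨73, [], [3, 3, 6, 2, 7, 2, 6, 2, 7, 2, 2, 2]⟩, ⟨75, [35, 38], [3, 3, 7, 2, 6, 2, 7, 2, 6, 3, 6, 6, 2]⟩], [43, 48, 47, 45, 43]⟩],
   []⟩,
  ⟨[⟨[], 0, [⟨93, [], []⟩, ⟨93, [49, 47], [2, 6, 6, 2, 7, 7, 3, 6, 6, 3, 6, 2, 2, 2]⟩, ⟨93, [50, 43], [6, 2, 7, 3, 3, 6, 2, 2, 7, 2, 2, 7, 3]⟩], [42, 50, 41, 41]⟩],
   []⟩]
theorem c_r3_25 : relAll tab 83 1408 HNU.base HNU.ph HNU.phI st rel3 0 om3 es25 cs25 rs3_25 = true := by decide +kernel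
def rs3_26 : List RE := [
  ⟨[⟨[], 0, [⟨94, [], []⟩, ⟨77, [37, 38], [2, 7, 7, 2, 6, 3, 7, 3, 6, 2]⟩, ⟨82, [40, 38], [6, 3, 7, 2, 6, 2, 7, 2, 6, 6, 2, 2]⟩], [54, 52, 55, 56, 54, 54]⟩],
   []⟩,
  ⟨[⟨[], 0, [⟨95, [], []⟩, ⟨78, [39, 40, 39], [6, 2, 2, 6, 2, 7, 2, 7, 3, 6, 2, 7]⟩, ⟨44, [16, 21, 23, 16], [2]⟩], [55, 56, 55, 53, 54, 54, 52]⟩],
   []⟩,
  ⟨[⟨[], 0, [⟨96, [], []⟩, ⟨95, [56, 55, 53, 54], [7, 2, 2, 7, 3, 6, 6, 2, 7, 3, 3]⟩, ⟨76, [40, 36, 40], [6, 6, 3, 6, 6, 3, 7, 7, 2, 2, 7, 7, 3]⟩], [53, 55, 56, 55, 56, 55]⟩],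
   []⟩]
theorem c_r3_26 : relAll tab 83 1408 HNU.base HNU.ph HNU.phI st rel3 0 om3 es26 cs26 rs3_26 = true := by decide +kernel
def rs3_27 : List RE := [
  ⟨[⟨[], 0, [⟨97, [], []⟩, ⟨88, [35, 37, 35, 35], [3, 3, 7, 7, 2, 6, 3, 7, 2, 7, 7, 7]⟩, ⟨59, [29], [2, 2, 2, 7, 3, 3, 7, 2, 2, 7, 2, 2, 2]⟩], [55, 55, 56, 54, 52]⟩],
   []⟩,
  ⟨[⟨[], 0, [⟨98, [], []⟩, ⟨44, [20, 23, 21, 16], [6, 2, 2, 7, 2, 6, 2, 2, 2, 6, 2, 2, 6]⟩, ⟨96, [55, 53, 55, 56, 55], [7, 7, 3, 3, 6, 6, 2, 2, 6, 2, 7, 2, 2]⟩], [52, 54, 56, 55, 53, 52]⟩],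
   []⟩]
theorem c_r3_27 : relAll tab 83 1408 HNU.base HNU.ph HNU.phI st rel3 0 om3 es27 cs27 rs3_27 = true := by decide +kernel
def rs3_28 : List RE := [
  ⟨[⟨[], 0, [⟨99, [], []⟩, ⟨60, [32, 27, 27], [2, 2, 2, 7, 3, 3, 7, 2, 2, 7, 2, 2, 2]⟩, ⟨86, [40], [7, 3, 3, 6, 2, 7, 7, 3, 6, 3, 7]⟩], [55, 56, 55, 52, 54, 54, 52]⟩],
   []⟩,
  ⟨[⟨[], 0, [⟨100, [], []⟩, ⟨100, [54, 54, 56, 55], [2, 2, 6, 6, 2, 2, 7, 2, 2, 6, 2, 7, 2]⟩, ⟨100, [56, 55, 53, 52], [2, 2, 2, 6, 3, 7, 2, 2, 2, 7, 3]⟩], [54, 56, 55, 52, 54, 53, 52]⟩],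
   []⟩]
theorem c_r3_28 : relAll tab 83 1408 HNU.base HNU.ph HNU.phI st rel3 0 om3 es28 cs28 rs3_28 = true := by decide +kernel
theorem c_rel3 : ∃ rs, relAll tab 83 1408 HNU.base HNU.ph HNU.phI st rel3 0 om3 st.edges cs rs = true :=
  ⟨_, (relAll_append c_r3_0 (relAll_append c_r3_1 (relAll_append c_r3_2 (relAll_append c_r3_3 (relAll_append c_r3_4 (relAll_append c_r3_5 (relAll_append c_r3_6 (relAll_append c_r3_7 (relAll_append c_r3_8 (relAll_append c_r3_9 (relAll_append c_r3_10 (relAll_append c_r3_11 (relAll_append c_r3_12 (relAll_append c_r3_13 (relAll_append c_r3_14 (relAll_append c_r3_15 (relAll_append c_r3_16 (relAll_append c_r3_17 (relAll_append c_r3_18 (relAll_append c_r3_19 (relAll_append c_r3_20 (relAll_append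 c_r3_21 (relAll_append c_r3_22 (relAll_append c_r3_23 (relAll_append c_r3_24 (relAll_append c_r3_25 (relAll_append c_r3_26 (relAll_append c_r3_27 c_r3_28))))))))))))))))))))))))))))⟩

end Cfsg.Agent.Lib.HNM
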