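import Cfsg.Agent.Lib.HNUp2
import Cfsg.Agent.Lib.HNMA
import Cfsg.Agent.Lib.HNMR0
import Cfsg.Agent.Lib.HNMR1
import Cfsg.Agent.Lib.HNMR2
import Cfsg.Agent.Lib.HNMR3
import Cfsg.Agent.Lib.DceTrans

/-!
# The Harada-Norton group: the permutation representation of degree 1539000
-/

set_option autoImplicit false
set_option linter.all false
set_option maxRecDepth 100000

namespace Cfsg.Agent.Lib.HNPH

open Cfsg.Spor Cfsg.Agent.Lib.Dce Cfsg.Agent.Lib.BenesWord Cfsg.Agent.Lib.CosetGroup Cfsg.Agent.Lib.CoxBridge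
open Cfsg.Agent.Lib.HNT Cfsg.Agent.Lib.HNU Cfsg.Agent.Lib.HNPL

/-- the points -/
abbrev X := XX (SS xh HNM.st 9)
/-- base points -/
noncomputable abbrev cx (i : ℕ) : X := cc xh HNM.st 9 (by norm_num) i
/-- action of the permutation group -/
noncomputable abbrev AX : PH →* Equiv.Perm X := AA xh HNM.st 9

instance : Finite PH := ph_exists.1

theorem hes : ∀ E ∈ HNM.st.edges, E.i < 9 ∧ E.j < 9 := jOk_spec HNM.c_j

theorem s1_le : Nat.card (Sg xh HNM.st.stab 1) ≤ 126000 := by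
  rw [← B_stab.2]
  apply Nat.card_mono (Set.toFinite _)
  refine le_trans (onlyI_spec (G := [2, 7, 3, 6]) acts.1 acts.2 hbase ph_exists.2.2.1 (by decide +kernel)) ?_
  apply Subgroup.closure_mono
  rintro _ ⟨s, hs, rfl⟩
  simp only [List.mem_cons, List.not_mem_nil, or_false] at hs
  rcases hs with rfl | rfl | rfl | rfl
  · exact ⟨(2, 2), by decide, rfl⟩
  · exact ⟨(7, 7), by decide, rfl⟩
  · exact ⟨(3, 3), by decide, rfl⟩
  · exact ⟨(6, 6), by decide, rfl⟩

theorem card_X_ge : 1539000 ≤ Nat.card X := by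
  have hcP : Nat.card PH = 177408000 := ph_exists.2.1
  have hf := ph_exists.2.2.1
  have i0 : 1 ≤ (Sg xh HNM.st.stab 0).index := Nat.one_le_iff_ne_zero.mpr Subgroup.index_ne_zero_of_finite
  have i1 := le_index (n := 1408) hcP s1_le (by norm_num) (by norm_num)
  have i2 := le_index (n := 35200) hcP (card_Sg_le acts.1 acts.2 hbase hf HNM.c_on2 HNM.c_u2 HNM.c_sz2) (by norm_num) (by norm_num)
  have i3 := le_index (n := 2200) hcP (card_Sg_le acts.1 acts.2 hbase hf HNM.c_on3 HNM.c_u3 HNM.c_sz3) (by norm_num) (by norm_num)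
  have i4 := le_index (n := 123200) hcP (card_Sg_le acts.1 acts.2 hbase hf HNM.c_on4 HNM.c_u4 HNM.c_sz4) (by norm_num) (by norm_num)
  have i5 := le_index (n := 354816) hcP (card_Sg_le acts.1 acts.2 hbase hf HNM.c_on5 HNM.c_u5 HNM.c_sz5) (by norm_num) (by norm_num)
  have i6 := le_index (n := 739200) hcP (card_Sg_le acts.1 acts.2 hbase hf HNM.c_on6 HNM.c_u6 HNM.c_sz6) (by norm_num) (by norm_num)
  have i7 := le_index (n := 5775) hcP (card_Sg_le acts.1 acts.2 hbase hf HNM.c_on7 HNM.c_u7 HNM.c_sz7) (by norm_num) (by norm_num)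
  have i8 := le_index (n := 277200) hcP (card_Sg_le acts.1 acts.2 hbase hf HNM.c_on8 HNM.c_u8 HNM.c_sz8) (by norm_num) (by norm_num)
  rw [card_XX, Fin.sum_univ_castSucc, Fin.sum_univ_eight]
  exact add_le_add (add_le_add (add_le_add (add_le_add (add_le_add (add_le_add (add_le_add (add_le_add i0 i1) i2) i3) i4) i5) i6) i7) i8

/-- the letters of the twisting as elements of the subgroup -/
noncomputable def dl (c : ℕ) : Bs xh ph := by
  classical
  exact if h : xh c ∈ Bs xh ph then ⟨xh c, h⟩ else 1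

theorem hdl : ∀ p ∈ ph, (Bs xh ph).subtype (dl p.1) = xh p.1 ∧ (Bs xh ph).subtype (dl p.1) = xh p.2 := by
  intro p hp
  have h1 : xh p.1 ∈ Bs xh ph := Subgroup.subset_closure ⟨p, hp, rfl⟩
  have h2 : (Bs xh ph).subtype (dl p.1) = xh p.1 := by
    unfold dl
    rw [dif_pos h1]; rfl
  have h3 : p.1 = p.2 := (by decide : ∀ p ∈ ph, p.1 = p.2) p hp
  exact ⟨h2, by rw [← h3]; exact h2⟩

theorem ph_swap : Bt xh ph = Bs xh ph := by
  apply le_antisymm
  · apply Subgroup.closure_mono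
    rintro _ ⟨p, hp, rfl⟩
    have h3 : p.1 = p.2 := (by decide : ∀ p ∈ ph, p.1 = p.2) p hp
    exact ⟨p, hp, by rw [h3]⟩
  · apply Subgroup.closure_mono
    rintro _ ⟨p, hp, rfl⟩
    have h3 : p.1 = p.2 := (by decide : ∀ p ∈ ph, p.1 = p.2) p hp
    exact ⟨p, hp, by rw [h3]⟩

theorem cov1 : ∀ z : X, ∃ E ∈ HNM.st.edges, ∃ b ∈ Bs xh ph, z = b • ex1 xh HNM.st 9 (by norm_num) E :=
  cover_edges (pt := 0) (m := 1408) (φ := PH.subtype) (by norm_num) hm (by
    intro i hi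
    interval_cases i
    · exact cover_sound acts.1 acts.2 HNM.c_cov0_0
    · exact cover_sound acts.1 acts.2 HNM.c_cov0_1
    · exact cover_sound acts.1 acts.2 HNM.c_cov0_2
    · exact cover_sound acts.1 acts.2 HNM.c_cov0_3
    · exact cover_sound acts.1 acts.2 HNM.c_cov0_4
    · exact cover_sound acts.1 acts.2 HNM.c_cov0_5
    · exact cover_sound acts.1 acts.2 HNM.c_cov0_6
    · exact cover_sound acts.1 acts.2 HNM.c_cov0_7
    · exact cover_sound acts.1 acts.2 HNM.c_cov0_8) B_stab.1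

theorem cov2 : ∀ z : X, ∃ E ∈ HNM.st.edges, ∃ b ∈ Bt xh ph, z = b • ex2 xh HNM.st 9 (by norm_num) E :=
  cover_edges' (pt := 0) (m := 1408) (φ := PH.subtype) (by norm_num) hm (by
    intro i hi
    interval_cases i
    · exact cover_sound acts.1 acts.2 HNM.c_cov1_0
    · exact cover_sound acts.1 acts.2 HNM.c_cov1_1
    · exact cover_sound acts.1 acts.2 HNM.c_cov1_2
    · exact cover_sound acts.1 acts.2 HNM.c_cov1_3
    · exact cover_sound acts.1 acts.2 HNM.c_cov1_4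
    · exact cover_sound acts.1 acts.2 HNM.c_cov1_5
    · exact cover_sound acts.1 acts.2 HNM.c_cov1_6
    · exact cover_sound acts.1 acts.2 HNM.c_cov1_7
    · exact cover_sound acts.1 acts.2 HNM.c_cov1_8) (by rw [ph_swap]; exact B_stab.1)

theorem T_exists : ∃ T : Equiv.Perm X, TT xh ph HNM.st 9 (by norm_num) T ∧ seqP xh AX T HNM.rel0 = 1 ∧
    seqP xh AX T HNM.rel1 = 1 ∧ seqP xh AX T HNM.rel2 = 1 ∧ seqP xh AX T HNM.rel3 = 1 := by
  have hf := ph_exists.2.2.1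
  have hst : ∀ p ∈ HNM.st.stab, p.1 < 9 := sOk_spec HNM.c_s
  obtain ⟨T, hT⟩ := exists_TT (hk := by norm_num) acts.1 acts.2 hbase hf (π1 := (Bs xh ph).subtype) (π2 := (Bs xh ph).subtype)
    (δ := dl) hdl (le_of_eq B_stab.2) hes HNM.c_sum card_X_ge cov1 cov2
  have hsum := sumA_sound acts.1 acts.2 hbase hf (hk := by norm_num) (π1 := (Bs xh ph).subtype) (π2 := (Bs xh ph).subtype)
    (δ := dl) hdl (le_of_eq B_stab.2) hes HNM.c_sum
  have hfix : ∀ l < HNM.st.edges.length, ∀ a ∈ (atD c0 HNM.cs l).g, ev xh a.w ∈ Bs xh ph ∧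
      ev xh a.w • ex1 xh HNM.st 9 (by norm_num) (atD e0 HNM.st.edges l) = ex1 xh HNM.st 9 (by norm_num) (atD e0 HNM.st.edges l) := by
    intro l hl a ha
    have hE := hes _ (atD_mem (d := e0) hl)
    have := chkA_sound acts.1 acts.2 hbase hf (hk := by norm_num) (π1 := (Bs xh ph).subtype) (π2 := (Bs xh ph).subtype)
      (δ := dl) hdl hE.1 hE.2 (hsum.2.1 l hl) a ha
    refine ⟨this.2.1, ?_⟩
    have h2 := this.2.2.1
    rw [this.1] at h2
    exact h2
  have hI : ∀ p ∈ phI, (p.2, p.1) ∈ ph := by decide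
  obtain ⟨r0, hr0⟩ := HNM.c_rel0
  obtain ⟨r1, hr1⟩ := HNM.c_rel1
  obtain ⟨r2, hr2⟩ := HNM.c_rel2
  obtain ⟨r3, hr3⟩ := HNM.c_rel3
  exact ⟨T, hT, rel_main acts.1 acts.2 hbase hf hT hst hI (le_of_eq B_stab.2) HNM.c_b0 hr0 cov1 hfix,
    rel_main acts.1 acts.2 hbase hf hT hst hI (le_of_eq B_stab.2) HNM.c_b1 hr1 cov1 hfix,
    rel_main acts.1 acts.2 hbase hf hT hst hI (le_of_eq B_stab.2) HNM.c_b2 hr2 cov1 hfix,
    rel_main acts.1 acts.2 hbase hf hT hst hI (le_of_eq B_stab.2) HNM.c_b3 hr3 cov1 hfix⟩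

end Cfsg.Agent.Lib.HNPH
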