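import Cfsg.Agent.Lib.HNLow

/-!
# The Harada-Norton group: `⟨x, y, z⟩` has index 1539000
-/

set_option autoImplicit false
set_option linter.all false
set_option maxRecDepth 100000

namespace Cfsg.Agent.Lib.HNPH

open Cfsg.Spor Cfsg.Agent.Lib.Dce Cfsg.Agent.Lib.BenesWord Cfsg.Agent.Lib.CosetGroup Cfsg.Agent.Lib.CoxBridge
open Cfsg.Agent.Lib.HNT Cfsg.Agent.Lib.HNU Cfsg.Agent.Lib.HNPL

theorem RelL.map {G K : Type*} [Group G] [Group K] (f : G →* K) {x y : G} (h : RelL x y) : RelL (f x) (f y) := by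
  obtain ⟨h1, h2, h3, h4, h5, h6⟩ := h
  refine ⟨?_, ?_, ?_, ?_, ?_, ?_⟩
  · rw [← map_pow, h1, map_one]
  · rw [← map_one f, ← h2]; simp only [map_mul, map_pow, map_inv]
  · rw [← map_one f, ← h3]; simp only [map_mul, map_pow, map_inv]
  · rw [← map_one f, ← h4]; simp only [map_mul, map_pow, map_inv]
  · rw [← map_one f, ← h5]; simp only [map_mul, map_pow, map_inv]
  · rw [← map_one f, ← h6]; simp only [map_mul, map_pow, map_inv]

theorem RelH.map {G K : Type*} [Group G] [Group K] (f : G →* K) {x y z : G} (h : RelH x y z) : RelH (f x) (f y) (f z) := by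
  obtain ⟨h0, h1, h2, h3, h4⟩ := h
  refine ⟨RelL.map f h0, ?_, ?_, ?_, ?_⟩
  · rw [← map_pow, h1, map_one]
  · rw [← map_one f, ← h2]; simp only [map_mul, map_pow, map_inv]
  · rw [← map_one f, ← h3]; simp only [map_mul, map_pow, map_inv]
  · rw [← map_one f, ← h4]; simp only [map_mul, map_pow, map_inv]

theorem relPH : RelH (xh 0) (xh 2) (xh 4) := by
  obtain ⟨f, f0, f2, f4⟩ := f0_exists
  have := RelH.map f relGH
  rw [f0, f2, f4] at this
  exact this

/-- the chosen permutation -/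
noncomputable def T : Equiv.Perm X := T_exists.choose

theorem T_spec : TT xh ph HNM.st 9 (by norm_num) T ∧ seqP xh AX T HNM.rel0 = 1 ∧
    seqP xh AX T HNM.rel1 = 1 ∧ seqP xh AX T HNM.rel2 = 1 ∧ seqP xh AX T HNM.rel3 = 1 := T_exists.choose_spec

theorem relX : RelN (AX (xh 0)) (AX (xh 2)) (AX (xh 4)) T := by
  obtain ⟨hT, h0, h1, h2, h3⟩ := T_spec
  refine ⟨RelH.map AX relPH, ?_, ?_, ?_, ?_⟩
  · simp only [HNM.rel2, seqP, tokP, one_mul] at h2
    rw [pow_succ, pow_succ, pow_succ, pow_two]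
    simpa only [mul_assoc] using h2
  · simp only [HNM.rel3, seqP, tokP, one_mul, ev_cons, ev_nil, mul_one] at h3
    have e : xh 1 = (xh 0)⁻¹ := hiv 0 (by norm_num)
    rw [e, map_inv] at h3
    rw [pow_two]
    simpa only [mul_assoc] using h3
  · have := hT.tw (2, 2) (by decide)
    simp only at this
    rw [mul_assoc, this]
    group
  · simp only [HNM.rel0, seqP, tokP, one_mul, ev_cons, ev_nil, mul_one] at h0
    rw [pow_succ, pow_two]
    simpa only [mul_assoc] using h0

/-- the permutation representation -/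
noncomputable def F : HN →* Equiv.Perm X := (homGN relX).choose

theorem F_spec : F (PresentedGroup.of HN.Gen.x) = AX (xh 0) ∧ F (PresentedGroup.of HN.Gen.y) = AX (xh 2) ∧
    F (PresentedGroup.of HN.Gen.z) = AX (xh 4) ∧ F (PresentedGroup.of HN.Gen.t) = T := (homGN relX).choose_spec

theorem P_range (p : PH) : ∃ g ∈ (Subgroup.closure {(PresentedGroup.of HN.Gen.x : HN), PresentedGroup.of HN.Gen.y,
    PresentedGroup.of HN.Gen.z} : Subgroup HN), F g = AX p := by
  obtain ⟨f0, f1, f2, f3⟩ := F_spec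
  set H : Subgroup HN := Subgroup.closure {(PresentedGroup.of HN.Gen.x : HN), PresentedGroup.of HN.Gen.y,
    PresentedGroup.of HN.Gen.z} with hH
  have hx : (PresentedGroup.of HN.Gen.x : HN) ∈ H := Subgroup.subset_closure (by simp)
  have hy : (PresentedGroup.of HN.Gen.y : HN) ∈ H := Subgroup.subset_closure (by simp)
  have hz : (PresentedGroup.of HN.Gen.z : HN) ∈ H := Subgroup.subset_closure (by simp)
  have hK : (H.map F).comap AX = ⊤ := by
    apply PG_top c_all
    intro c hc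
    interval_cases c
    · exact ⟨_, hx, f0⟩
    · refine ⟨_, Subgroup.inv_mem _ hx, ?_⟩
      rw [map_inv, f0, show xb tab iv 1408 5 1 = (xb tab iv 1408 5 0)⁻¹ from hiv 0 (by norm_num), map_inv]
      rfl
    · exact ⟨_, hy, f1⟩
    · refine ⟨_, Subgroup.inv_mem _ hy, ?_⟩
      rw [map_inv, f1, show xb tab iv 1408 5 3 = (xb tab iv 1408 5 2)⁻¹ from hiv 2 (by norm_num), map_inv]
      rfl
    · exact ⟨_, hz, f2⟩
  have : p ∈ (H.map F).comap AX := by rw [hK]; trivial
  obtain ⟨g, hg, h⟩ := this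
  exact ⟨g, hg, h⟩

noncomputable instance actX : MulAction HN X := MulAction.compHom X F

theorem act_eq (g : HN) (z : X) : g • z = F g z := rfl

theorem trans_X : ∀ z : X, ∃ g : HN, g • cx 0 = z := by
  intro z
  obtain ⟨f0, f1, f2, f3⟩ := F_spec
  refine passn_sound (T := T) T_spec.1.ed (O := {z | ∃ g : HN, g • cx 0 = z}) ?_ ?_ ?_ ⟨1, one_smul _ _⟩ (n := 9)
    (by decide +kernel) z
  · rintro p _ ⟨g, rfl⟩
    obtain ⟨g', _, hg'⟩ := P_range p
    refine ⟨g' * g, ?_⟩
    rw [mul_smul, act_eq g', hg']; rfl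
  · rintro _ ⟨g, rfl⟩
    refine ⟨PresentedGroup.of HN.Gen.t * g, ?_⟩
    rw [mul_smul, act_eq (PresentedGroup.of HN.Gen.t), f3]
  · rintro _ ⟨g, rfl⟩
    refine ⟨(PresentedGroup.of HN.Gen.t)⁻¹ * g, ?_⟩
    rw [mul_smul, act_eq (PresentedGroup.of HN.Gen.t)⁻¹, map_inv, f3]

/-- the subgroup -/
abbrev HH : Subgroup HN := Subgroup.closure {(PresentedGroup.of HN.Gen.x : HN), PresentedGroup.of HN.Gen.y,
    PresentedGroup.of HN.Gen.z}

theorem HH_fix : ∀ g ∈ HH, g • cx 0 = cx 0 := by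
  obtain ⟨f0, f1, f2, f3⟩ := F_spec
  have key : ∀ s, (0, s) ∈ HNM.st.stab → AX (xh s) (cx 0) = cx 0 := fun s hs =>
    cc_stab (by norm_num) (sOk_spec HNM.c_s) _ hs
  have hle : HH ≤ MulAction.stabilizer HN (cx 0) := by
    rw [Subgroup.closure_le]
    rintro _ (rfl | rfl | rfl)
    · show _ • _ = _
      rw [act_eq, f0]; exact key 0 (memP_mem (by decide +kernel))
    · show _ • _ = _
      rw [act_eq, f1]; exact key 2 (memP_mem (by decide +kernel))
    · show _ • _ = _
      rw [act_eq, f2]; exact key 4 (memP_mem (by decide +kernel))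
  exact fun g hg => hle hg

theorem main_idx : HH.index = 1539000 ∧ Nat.card X = 1539000 ∧ HH = MulAction.stabilizer HN (cx 0) := by
  have hup := upper relGN genGN
  have h1 := index_of_trans (cx 0) trans_X HH_fix hup.1 (le_trans hup.2 card_X_ge)
  have h2 : HH.index ≤ 1539000 := hup.2
  have h3 := card_X_ge
  rw [← h1.1] at h3 ⊢
  have h4 : HH.index = 1539000 := le_antisymm h2 h3
  exact ⟨h4, h4, h1.2⟩

end Cfsg.Agent.Lib.HNPH
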