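import Cfsg.Agent.Lib.SMFa
import Cfsg.Agent.Lib.StemDbl

/-! Lifting the relations of the Harada-Norton group to stem extensions. -/

set_option autoImplicit false

namespace Cfsg.Agent.Lib.HNMulA

open Subgroup Cfsg.Agent.Lib.SchurSylow
open scoped commutatorElement

/-! ### homomorphisms from perfect groups -/

/-- two lifts of a homomorphism from a perfect group agree -/
theorem hom_unique {H Γ G' : Type*} [Group H] [Group Γ] [Group G'] (hp : commutator H = ⊤) {σ : Γ →* G'}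
    (hc : σ.ker ≤ center Γ) {f g : H →* Γ} (h : ∀ x, σ (f x) = σ (g x)) : f = g := by
  have hk : ∀ x, f x * (g x)⁻¹ ∈ σ.ker := by
    intro x
    rw [MonoidHom.mem_ker, map_mul, map_inv, h x, mul_inv_cancel]
  have hcc : ∀ x y, y * (f x * (g x)⁻¹) = (f x * (g x)⁻¹) * y := fun x y => mem_center_iff.1 (hc (hk x)) y
  let d : H →* Γ :=
    { toFun := fun x => f x * (g x)⁻¹
      map_one' := by rw [map_one, map_one, inv_one, mul_one]
      map_mul' := by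
        intro x y
        rw [map_mul, map_mul, mul_inv_rev]
        calc f x * f y * ((g y)⁻¹ * (g x)⁻¹) = f x * (f y * (g y)⁻¹) * (g x)⁻¹ := by group
          _ = (f y * (g y)⁻¹) * f x * (g x)⁻¹ := by rw [hcc y (f x)]
          _ = (f y * (g y)⁻¹) * (f x * (g x)⁻¹) := by group
          _ = (f x * (g x)⁻¹) * (f y * (g y)⁻¹) := (hcc y _).symm ▸ rfl }
  have h1 : commutator H ≤ d.ker := by
    rw [commutator_def, commutator_le]
    intro a _ b _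
    rw [MonoidHom.mem_ker, map_commutatorElement, commutatorElement_eq_one_iff_mul_comm]
    exact (hcc b (d a))
  ext x
  have h2 : x ∈ d.ker := h1 (by rw [hp]; trivial)
  have h3 : f x * (g x)⁻¹ = 1 := h2
  exact mul_inv_eq_one.1 h3

section

variable {G K Γ : Type} [Group G] [Group K] [Group Γ]

/-- the conjugation by an element normalising the image -/
theorem exists_conj {ι : K →* G} (hι : Function.Injective ι) {z : G} (hzn : ∀ k, ∃ k', ι k' = z * ι k * z⁻¹) :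
    ∃ ζ : K →* K, ∀ k, ι (ζ k) = z * ι k * z⁻¹ := by
  choose ζ hζ using hzn
  refine ⟨⟨⟨ζ, hι ?_⟩, ?_⟩, hζ⟩
  · rw [hζ, map_one, mul_one, mul_inv_cancel]
  · intro a b
    apply hι
    change ι (ζ (a * b)) = ι (ζ a * ζ b)
    rw [hζ, map_mul, map_mul, hζ, hζ]
    group

/-- an element normalising the image acts on the lifts -/
theorem lift_conj (hp : commutator K = ⊤) {σ : Γ →* G} (hc : σ.ker ≤ center Γ) {ι : K →* G} {τ : K →* Γ}
    (hτ : ∀ k, σ (τ k) = ι k) {z : G} {ζ : K →* K} (hζ : ∀ k, ι (ζ k) = z * ι k * z⁻¹) {w : Γ} (hw : σ w = z) (k : K) :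
    τ (ζ k) = w * τ k * w⁻¹ := by
  have h : τ.comp ζ = (MulAut.conj w).toMonoidHom.comp τ := by
    apply hom_unique hp hc
    intro x
    change σ (τ (ζ x)) = σ (w * τ x * w⁻¹)
    rw [hτ, hζ, map_mul, map_mul, map_inv, hτ, hw]
  exact DFunLike.congr_fun h k

/-- the subgroup generated by the lifts and an involution -/
def LL (τ : K →* Γ) (ζ : K →* K) (w : Γ) (hw : w * w = 1) (h : ∀ k, τ (ζ k) = w * τ k * w⁻¹) : Subgroup Γ where
  carrier := {g | ∃ k, g = τ k ∨ g = τ k * w}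
  one_mem' := ⟨1, Or.inl (map_one τ).symm⟩
  mul_mem' := by
    rintro _ _ ⟨a, rfl | rfl⟩ ⟨b, rfl | rfl⟩
    · exact ⟨a * b, Or.inl (map_mul τ a b).symm⟩
    · exact ⟨a * b, Or.inr (by rw [map_mul, mul_assoc])⟩
    · refine ⟨a * ζ b, Or.inr ?_⟩
      rw [map_mul, h]; group
    · refine ⟨a * ζ b, Or.inl ?_⟩
      rw [map_mul, h]
      have hw' : w⁻¹ = w := inv_eq_of_mul_eq_one_right hw
      calc τ a * w * (τ b * w) = τ a * (w * τ b * w) := by group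
        _ = τ a * (w * τ b * w⁻¹) := by rw [hw']
  inv_mem' := by
    have hw' : w⁻¹ = w := inv_eq_of_mul_eq_one_right hw
    rintro _ ⟨a, rfl | rfl⟩
    · exact ⟨a⁻¹, Or.inl (map_inv τ a).symm⟩
    · refine ⟨ζ a⁻¹, Or.inr ?_⟩
      rw [h, map_inv, mul_inv_rev, hw']
      calc w * (τ a)⁻¹ = w * (τ a)⁻¹ * (w * w) := by rw [hw, mul_one]
        _ = w * (τ a)⁻¹ * w * w := by group

theorem LL_ker {σ : Γ →* G} {ι : K →* G} (hι : Function.Injective ι) {τ : K →* Γ} (hτ : ∀ k, σ (τ k) = ι k)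
    {z : G} (hz : ∀ k, ι k ≠ z) {ζ : K →* K} {w : Γ} (hwz : σ w = z) (hw : w * w = 1)
    (h : ∀ k, τ (ζ k) = w * τ k * w⁻¹) {g : Γ} (hg : g ∈ LL τ ζ w hw h) (h1 : σ g = 1) : g = 1 := by
  obtain ⟨k, rfl | rfl⟩ := hg
  · rw [hτ] at h1
    rw [(map_eq_one_iff ι hι).1 h1, map_one]
  · exfalso
    rw [map_mul, hτ, hwz] at h1
    apply hz k⁻¹
    rw [map_inv]
    exact inv_eq_of_mul_eq_one_right h1

end

/-! ### roots in the kernel -/

section

variable {G Γ : Type} [Group G] [Group Γ] {σ : Γ →* G} {p : ℕ}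

theorem coprime_ker (hp : p.Prime) (hpg : IsPGroup p σ.ker) {n : ℕ} (hn : ¬ p ∣ n) {e : Γ} (he : e ∈ σ.ker) :
    Nat.Coprime n (orderOf e) := by
  obtain ⟨k, hk⟩ := hpg ⟨e, he⟩
  have hk' : e ^ p ^ k = 1 := congrArg Subtype.val hk
  exact Nat.Coprime.coprime_dvd_right (orderOf_dvd_of_pow_eq_one hk')
    (Nat.Coprime.symm (Nat.Coprime.pow_left _ ((Nat.Prime.coprime_iff_not_dvd hp).2 hn)))

theorem one_of_pow (hp : p.Prime) (hpg : IsPGroup p σ.ker) {n : ℕ} (hn : ¬ p ∣ n) {e : Γ} (he : e ∈ σ.ker)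
    (h : e ^ n = 1) : e = 1 := by
  have h1 := coprime_ker hp hpg hn he
  rw [← orderOf_eq_one_iff]
  exact Nat.eq_one_of_dvd_coprimes h1 (orderOf_dvd_of_pow_eq_one h) dvd_rfl

/-- shift an element by the kernel so that its `n`-th power is as wanted -/
theorem exists_root (hp : p.Prime) (hpg : IsPGroup p σ.ker) {n : ℕ} (hn : ¬ p ∣ n) {e : Γ} (he : e ∈ σ.ker) :
    ∃ c ∈ σ.ker, e * c ^ n = 1 := by
  obtain ⟨m, hm⟩ := exists_pow_eq_self_of_coprime (coprime_ker hp hpg hn he)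
  refine ⟨(e ^ m)⁻¹, inv_mem (pow_mem he _), ?_⟩
  rw [inv_pow, ← pow_mul, mul_comm m n, pow_mul, hm, mul_inv_cancel]

end

/-! ### the relations -/

/-- the relations of the Harada-Norton group in `x, y, z` -/
def RelA {G : Type*} [Group G] (x y z : G) : Prop :=
  y ^ 6 = 1 ∧ x ^ 2 * y * x ^ 2 * y⁻¹ = 1 ∧ (x⁻¹ * y⁻¹ * x * y) ^ 3 = 1 ∧ (x⁻¹ * y ^ 2 * x * y ^ 3) ^ 3 = 1 ∧
  (x * y) ^ 8 = 1 ∧ (x * y * x * y ^ 3) ^ 4 = 1 ∧ z ^ 2 = 1 ∧ (z * x) ^ 2 = 1 ∧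
  z⁻¹ * (y * x * y * x * y ^ 2 * x * y⁻¹)⁻¹ * z * (y * x * y * x * y ^ 2 * x * y⁻¹) * (x ^ 2)⁻¹ = 1 ∧
  z * ((y ^ 3 * x * y * x * y)⁻¹ * z * (y ^ 3 * x * y * x * y) * x) ^ 3 = 1

/-- the relations with `t` -/
def RelB {G : Type*} [Group G] (x y z t : G) : Prop :=
  t ^ 5 = 1 ∧ x⁻¹ * t * x * t ^ 2 = 1 ∧ t⁻¹ * y⁻¹ * t * y = 1 ∧ (z * t) ^ 3 = 1

theorem RelA.lift {G Γ : Type*} [Group G] [Group Γ] {σ : Γ →* G} {x y z : G} (h : RelA x y z) {x' y' z' : Γ}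
    (hx : σ x' = x) (hy : σ y' = y) (hz : σ z' = z) {L : Subgroup Γ} (hL : ∀ g ∈ L, σ g = 1 → g = 1)
    (mx : x' ∈ L) (my : y' ∈ L) (mz : z' ∈ L) : RelA x' y' z' := by
  obtain ⟨h1, h2, h3, h4, h5, h6, h7, h8, h9, h10⟩ := h
  refine ⟨hL _ ?_ ?_, hL _ ?_ ?_, hL _ ?_ ?_, hL _ ?_ ?_, hL _ ?_ ?_, hL _ ?_ ?_, hL _ ?_ ?_, hL _ ?_ ?_,
    hL _ ?_ ?_, hL _ ?_ ?_⟩
  all_goals first
    | (simp only [map_mul, map_pow, map_inv, hx, hy, hz]; assumption)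
    | (repeat first | exact mx | exact my | exact mz | apply mul_mem | apply pow_mem | apply inv_mem)

/-- `x ^ 2` is inverted by `y`, and has order two -/
theorem x_four {G : Type*} [Group G] {x y z : G} (h : RelA x y z) : x ^ 4 = 1 := by
  obtain ⟨h1, h2, h3, h4, h5, h6, h7, h8, h9, h10⟩ := h
  obtain ⟨A, hA⟩ : ∃ A, A = x ^ 2 := ⟨_, rfl⟩
  have hx : x * A = A * x := by rw [hA]; group
  have hx' : x⁻¹ * A = A * x⁻¹ := by rw [hA]; group
  have hy : y * A⁻¹ = A * y := by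
    rw [← hA] at h2
    have : A * y * A = y := mul_inv_eq_one.1 h2
    rw [mul_inv_eq_iff_eq_mul, this]
  have hy' : y * A = A⁻¹ * y := by
    rw [← hA] at h2
    have h' : A * y * A = y := mul_inv_eq_one.1 h2
    rw [eq_inv_mul_iff_mul_eq, ← mul_assoc, h']
  -- the word of the fourth relation inverts `A`
  have hxi : x * A⁻¹ = A⁻¹ * x := by
    rw [mul_inv_eq_iff_eq_mul, mul_assoc, hx, inv_mul_cancel_left]
  have hxi' : x⁻¹ * A⁻¹ = A⁻¹ * x⁻¹ := by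
    rw [mul_inv_eq_iff_eq_mul, mul_assoc, hx', inv_mul_cancel_left]
  have hw : (x⁻¹ * y ^ 2 * x * y ^ 3) * A = A⁻¹ * (x⁻¹ * y ^ 2 * x * y ^ 3) := by
    have e2 : y ^ 2 * A = A * y ^ 2 := by
      rw [pow_two, mul_assoc, hy', ← mul_assoc, hy, mul_assoc]
    have e2' : y ^ 2 * A⁻¹ = A⁻¹ * y ^ 2 := by
      rw [mul_inv_eq_iff_eq_mul, mul_assoc, e2, inv_mul_cancel_left]
    have e3 : y ^ 3 * A = A⁻¹ * y ^ 3 := by
      rw [pow_succ, mul_assoc, hy', ← mul_assoc, e2', mul_assoc]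
    calc (x⁻¹ * y ^ 2 * x * y ^ 3) * A = x⁻¹ * y ^ 2 * x * (y ^ 3 * A) := by group
      _ = x⁻¹ * y ^ 2 * (x * A⁻¹) * y ^ 3 := by rw [e3]; group
      _ = x⁻¹ * (y ^ 2 * A⁻¹) * x * y ^ 3 := by rw [hxi]; group
      _ = (x⁻¹ * A⁻¹) * y ^ 2 * x * y ^ 3 := by rw [e2']; group
      _ = A⁻¹ * (x⁻¹ * y ^ 2 * x * y ^ 3) := by rw [hxi']; group
  obtain ⟨w, hw0⟩ : ∃ w, w = x⁻¹ * y ^ 2 * x * y ^ 3 := ⟨_, rfl⟩
  rw [← hw0] at hw h4
  have hwi : w * A⁻¹ = A * w := by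
    rw [mul_inv_eq_iff_eq_mul, mul_assoc, hw, mul_inv_cancel_left]
  have h3w : w ^ 3 * A = A⁻¹ * w ^ 3 := by
    calc w ^ 3 * A = w * w * (w * A) := by rw [pow_succ, pow_two]; group
      _ = w * (w * A⁻¹) * w := by rw [hw]; group
      _ = (w * A) * w * w := by rw [hwi]; group
      _ = A⁻¹ * (w * w * w) := by rw [hw]; group
      _ = A⁻¹ * w ^ 3 := by rw [pow_succ, pow_two]
  rw [h4, one_mul, mul_one] at h3w
  have h5' : A * A = 1 := by nth_rewrite 1 [h3w]; exact inv_mul_cancel A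
  rw [hA] at h5'
  rw [← h5']; group

end Cfsg.Agent.Lib.HNMulA
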