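import Cfsg.Agent.Lib.HNMulA

/-! Lifting the relations of the Harada-Norton group to stem extensions. -/

set_option autoImplicit false

namespace Cfsg.Agent.Lib.HNMulB

open Subgroup Cfsg.Agent.Lib.SchurSylow Cfsg.Agent.Lib.HNMulA
open scoped commutatorElement

section words

variable {Γ : Type*} [Group Γ]

theorem conj_pow' (X t : Γ) (n : ℕ) : (X⁻¹ * t * X) ^ n = X⁻¹ * t ^ n * X := by
  have := conj_pow (a := X⁻¹) (b := t) (i := n)
  rwa [inv_inv] at this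

/-- the action of `X` on powers of `t` -/
theorem act_pow {X t c : Γ} (hc : ∀ g, Commute c g) (h : X⁻¹ * t * X * t ^ 2 = c) (n : ℕ) :
    X⁻¹ * t ^ n * X = c ^ n * (t ^ (2 * n))⁻¹ := by
  have h1 : X⁻¹ * t * X = c * (t ^ 2)⁻¹ := eq_mul_inv_of_mul_eq h
  rw [← conj_pow', h1, (hc _).mul_pow, inv_pow, ← pow_mul]

/-- the action of `y` on powers of `t` -/
theorem comm_pow {y t d : Γ} (hd : ∀ g, Commute d g) (h : t⁻¹ * y⁻¹ * t * y = d) (n : ℕ) :
    y⁻¹ * t ^ n * y = d ^ n * t ^ n := by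
  have h1 : y⁻¹ * t * y = d * t := by
    rw [(hd t).eq, ← h]; group
  rw [← conj_pow', h1, (hd t).mul_pow]

/-- the action of powers of `y` on `t` -/
theorem comm_pow' {y t d : Γ} (hd : ∀ g, Commute d g) (h : t⁻¹ * y⁻¹ * t * y = d) (n : ℕ) :
    (y ^ n)⁻¹ * t * y ^ n = d ^ n * t := by
  have h1 : y⁻¹ * t * y = d * t := by
    rw [(hd t).eq, ← h]; group
  induction n with
  | zero => simp
  | succ n ih =>
    calc (y ^ (n + 1))⁻¹ * t * y ^ (n + 1) = y⁻¹ * ((y ^ n)⁻¹ * t * y ^ n) * y := by rw [pow_succ]; group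
      _ = y⁻¹ * (d ^ n * t) * y := by rw [ih]
      _ = d ^ n * (y⁻¹ * t * y) := by
          rw [← mul_assoc y⁻¹, ← ((hd y⁻¹).pow_left n).eq]; group
      _ = d ^ (n + 1) * t := by rw [h1, pow_succ]; group

/-- conjugating by `X` twice -/
theorem act_two {X t c : Γ} (hc : ∀ g, Commute c g) (h : X⁻¹ * t * X * t ^ 2 = c) :
    (X ^ 2)⁻¹ * t * X ^ 2 = c⁻¹ * t ^ 4 := by
  have h1 : X⁻¹ * t * X = c * (t ^ 2)⁻¹ := eq_mul_inv_of_mul_eq h
  have h2 := act_pow hc h 2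
  have h3 : X⁻¹ * (t ^ 2)⁻¹ * X = (c ^ 2 * (t ^ (2 * 2))⁻¹)⁻¹ := by rw [← h2]; group
  calc (X ^ 2)⁻¹ * t * X ^ 2 = X⁻¹ * (X⁻¹ * t * X) * X := by rw [pow_two]; group
    _ = X⁻¹ * (c * (t ^ 2)⁻¹) * X := by rw [h1]
    _ = c * (X⁻¹ * (t ^ 2)⁻¹ * X) := by rw [← mul_assoc X⁻¹, ← (hc X⁻¹).eq]; group
    _ = c * (t ^ 4 * (c ^ 2)⁻¹) := by rw [h3, mul_inv_rev, inv_inv]
    _ = c⁻¹ * t ^ 4 := by
      rw [← ((hc (t ^ 4)).pow_left 2).inv_left.eq, pow_two]; group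

/-- an involution inverting the product -/
theorem cube_inv {z t e : Γ} (hz : z * z = 1) (he : ∀ g, Commute e g) (h : (z * t) ^ 3 = e) : (z * t⁻¹) ^ 3 = e⁻¹ := by
  have hz' : z⁻¹ = z := inv_eq_of_mul_eq_one_right hz
  have h1 : z * t⁻¹ = (z⁻¹ * (z * t) * z)⁻¹ := by
    rw [mul_inv_rev, mul_inv_rev, mul_inv_rev, inv_inv]
    calc z * t⁻¹ = z * t⁻¹ * 1 := by group
      _ = z⁻¹ * (t⁻¹ * z⁻¹ * z) := by rw [hz']; rw [mul_assoc t⁻¹, hz, mul_one, mul_one]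
  rw [h1, inv_pow, conj_pow', h]
  congr 1
  rw [mul_assoc, (he z).eq, inv_mul_cancel_left]

/-- odd case: the relation with an unknown centre -/
theorem odd_cube {z t e A : Γ} (hz : z * z = 1) (he : ∀ g, Commute e g) (h : (z * t) ^ 3 = e)
    (hAz : A⁻¹ * z * A = z) (hAt : A⁻¹ * t * A = t⁻¹) : e ^ 2 = 1 := by
  have h1 : A⁻¹ * (z * t) * A = z * t⁻¹ := by
    calc A⁻¹ * (z * t) * A = (A⁻¹ * z * A) * (A⁻¹ * t * A) := by group
      _ = z * t⁻¹ := by rw [hAz, hAt]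
  have h2 : (z * t⁻¹) ^ 3 = e := by
    rw [← h1, conj_pow', h, mul_assoc, (he A).eq, inv_mul_cancel_left]
  rw [cube_inv hz he h] at h2
  rw [pow_two]
  nth_rewrite 1 [← h2]
  exact inv_mul_cancel e

/-- the two-part -/
theorem two_core {z u ε : Γ} (hz : z * z = ε) (hε : ∀ g, Commute ε g) (hu : u * u = 1) (h : (z * u) ^ 3 = 1) : ε ^ 3 = 1 := by
  have hu' : u⁻¹ = u := inv_eq_of_mul_eq_one_right hu
  have h1 : z * u * z = u * z⁻¹ * u := by
    have : z * u * z * (u * z * u) = 1 := by rw [← h, pow_succ, pow_two]; group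
    rw [eq_inv_of_mul_eq_one_left this, mul_inv_rev, mul_inv_rev, hu']; group
  have h2 : (z * u * z) * (z * u * z) = ε ^ 2 := by
    calc (z * u * z) * (z * u * z) = z * u * (z * z) * (u * z) := by group
      _ = z * u * (ε * (u * z)) := by rw [hz]; group
      _ = z * u * ((u * z) * ε) := by rw [(hε (u * z)).eq]
      _ = z * (u * u) * z * ε := by group
      _ = ε ^ 2 := by rw [hu, mul_one, hz, pow_two]
  have h3 : (u * z⁻¹ * u) * (u * z⁻¹ * u) = ε⁻¹ := by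
    calc (u * z⁻¹ * u) * (u * z⁻¹ * u) = u * z⁻¹ * (u * u) * z⁻¹ * u := by group
      _ = u * (z * z)⁻¹ * u := by rw [hu]; group
      _ = ε⁻¹ * (u * u) := by rw [hz, (hε u).inv_left.eq.symm]; group
      _ = ε⁻¹ := by rw [hu, mul_one]
  rw [← h1, h2] at h3
  rw [pow_succ, h3, inv_mul_cancel]

end words

section

variable {G K Γ : Type} [Group G] [Group K] [Finite K] [Group Γ] [Finite Γ] {σ : Γ →* G} {p : ℕ}

theorem exists_lifts (hp : p.Prime) (hσ : Function.Surjective σ) (hσc : σ.ker ≤ center Γ) (hpg : IsPGroup p σ.ker)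
    (hperf : commutator K = ⊤) (hsup : StemDvd K 1) {ι : K →* G} (hι : Function.Injective ι)
    {kx ky : K} {z t : G} (hA : RelA (ι kx) (ι ky) z) (hB : RelB (ι kx) (ι ky) z t)
    (hzn : ∀ k, ∃ k', ι k' = z * ι k * z⁻¹) (hz : ∀ k, ι k ≠ z) :
    ∃ x' y' z' t' : Γ, σ x' = ι kx ∧ σ y' = ι ky ∧ σ z' = z ∧ σ t' = t ∧ RelA x' y' z' ∧ RelB x' y' z' t' := by
  have hcen : ∀ e ∈ σ.ker, ∀ g, Commute e g := fun e he g => (mem_center_iff.1 (hσc he) g).symm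
  obtain ⟨τ, hτ0⟩ := SMFa.exists_lift hperf hsup hσ hσc ι
  have hτ : ∀ k, σ (τ k) = ι k := fun k => DFunLike.congr_fun hτ0 k
  obtain ⟨ζ, hζ⟩ := exists_conj hι hzn
  have hA' := hA
  have hB' := hB
  obtain ⟨a1, a2, a3, a4, a5, a6, a7, a8, a9, a10⟩ := hA'
  obtain ⟨b1, b2, b3, b4⟩ := hB'
  have x4 : τ kx ^ 4 = 1 := by
    rw [← map_pow, show kx ^ 4 = 1 from hι (by rw [map_pow, x_four hA, map_one]), map_one]
  have y6 : τ ky ^ 6 = 1 := by
    rw [← map_pow, show ky ^ 6 = 1 from hι (by rw [map_pow, a1, map_one]), map_one]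
  have hzx : ζ kx = kx⁻¹ := by
    apply hι
    rw [hζ, map_inv]
    have hz' : z⁻¹ = z := inv_eq_of_mul_eq_one_right (by rw [← pow_two]; exact a7)
    rw [hz', eq_inv_iff_mul_eq_one, ← a8, pow_two]; group
  have conjx : ∀ w, σ w = z → w * τ kx * w⁻¹ = (τ kx)⁻¹ := by
    intro w hw
    rw [← lift_conj hperf hσc hτ hζ hw kx, hzx, map_inv]
  obtain ⟨x, hx⟩ : ∃ x, x = τ kx := ⟨_, rfl⟩
  obtain ⟨y, hy⟩ : ∃ y, y = τ ky := ⟨_, rfl⟩
  have hxσ : σ x = ι kx := by rw [hx, hτ]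
  have hyσ : σ y = ι ky := by rw [hy, hτ]
  rw [← hx] at x4 conjx
  rw [← hy] at y6
  -- it suffices to find suitable lifts
  suffices H : ∃ z' t' : Γ, σ z' = z ∧ σ t' = t ∧ z' * z' = 1 ∧ RelB x y z' t' by
    obtain ⟨z', t', h1, h2, h3, h4⟩ := H
    have hco := lift_conj hperf hσc hτ hζ h1
    refine ⟨x, y, z', t', hxσ, hyσ, h1, h2, ?_, h4⟩
    apply hA.lift hxσ hyσ h1 (L := LL τ ζ z' h3 hco)
    · intro g hg hg1
      exact LL_ker hι hτ hz h1 h3 hco hg hg1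
    · exact ⟨kx, Or.inl hx⟩
    · exact ⟨ky, Or.inl hy⟩
    · exact ⟨1, Or.inr (by rw [map_one, one_mul])⟩
  obtain ⟨z0, hz0⟩ := hσ z
  obtain ⟨t0, ht0⟩ := hσ t
  -- facts for all lifts
  have kc : ∀ t', σ t' = t → x⁻¹ * t' * x * t' ^ 2 ∈ σ.ker := by
    intro t' ht'
    rw [MonoidHom.mem_ker, map_mul, map_mul, map_mul, map_pow, map_inv, hxσ, ht', b2]
  have kd : ∀ t', σ t' = t → t'⁻¹ * y⁻¹ * t' * y ∈ σ.ker := by
    intro t' ht'
    rw [MonoidHom.mem_ker, map_mul, map_mul, map_mul, map_inv, map_inv, hyσ, ht', b3]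
  have ke : ∀ z' t', σ z' = z → σ t' = t → (z' * t') ^ 3 ∈ σ.ker := by
    intro z' t' hz' ht'
    rw [MonoidHom.mem_ker, map_pow, map_mul, hz', ht', b4]
  have kz : ∀ z', σ z' = z → z' * z' ∈ σ.ker := by
    intro z' hz'
    rw [MonoidHom.mem_ker, map_mul, hz', ← pow_two, a7]
  have k5 : ∀ t', σ t' = t → t' ^ 5 ∈ σ.ker := by
    intro t' ht'
    rw [MonoidHom.mem_ker, map_pow, ht', b1]
  -- `x ^ 2` commutes with the lifts of `z`
  have x2z : ∀ w, σ w = z → (x ^ 2)⁻¹ * w * x ^ 2 = w := by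
    intro w hw
    have h1 := conjx w hw
    have h2 : w * x = x⁻¹ * w := by rw [← h1]; group
    have h3 : w * x⁻¹ = x * w := by
      rw [mul_inv_eq_iff_eq_mul, mul_assoc, h2, mul_inv_cancel_left]
    have h4 : w * x ^ 2 = x ^ 2 * w := by
      have e : x ^ 2 = (x ^ 2)⁻¹ := by
        rw [eq_inv_iff_mul_eq_one, ← pow_add]; exact x4
      calc w * x ^ 2 = (w * x) * x := by rw [pow_two]; group
        _ = x⁻¹ * (w * x) := by rw [h2]; rw [mul_assoc x⁻¹ w x, h2]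
        _ = (x ^ 2)⁻¹ * w := by rw [h2, pow_two]; group
        _ = x ^ 2 * w := by rw [← e]
    rw [mul_assoc, h4, inv_mul_cancel_left]
  -- the case of `t` of order five
  have five : p ≠ 5 → ∃ t', σ t' = t ∧ t' ^ 5 = 1 ∧ x⁻¹ * t' * x * t' ^ 2 = 1 ∧ t'⁻¹ * y⁻¹ * t' * y = 1 := by
    intro h5
    have hp5 : ¬ p ∣ 5 := fun h => h5 ((Nat.prime_dvd_prime_iff_eq hp (by norm_num)).1 h)
    obtain ⟨c, hc, hc5⟩ := exists_root hp hpg hp5 (k5 t0 ht0)
    obtain ⟨t', ht'⟩ : ∃ t', t' = t0 * c := ⟨_, rfl⟩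
    have hst : σ t' = t := by rw [ht', map_mul, MonoidHom.mem_ker.1 hc, mul_one, ht0]
    have ht5 : t' ^ 5 = 1 := by rw [ht', (hcen c hc t0).symm.mul_pow, hc5]
    refine ⟨t', hst, ht5, ?_, ?_⟩
    · apply one_of_pow hp hpg hp5 (kc t' hst)
      have h1 := act_pow (hcen _ (kc t' hst)) rfl 5
      rw [ht5, pow_mul', ht5, one_pow, inv_one, mul_one, mul_one, inv_mul_cancel] at h1
      exact h1.symm
    · apply one_of_pow hp hpg hp5 (kd t' hst)
      have h1 := comm_pow (hcen _ (kd t' hst)) rfl 5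
      rw [ht5, mul_one, mul_one, inv_mul_cancel] at h1
      exact h1.symm
  -- `x ^ 2` inverts `t`
  have x2t : ∀ t', t' ^ 5 = 1 → x⁻¹ * t' * x * t' ^ 2 = 1 → (x ^ 2)⁻¹ * t' * x ^ 2 = t'⁻¹ := by
    intro t' h5 h1
    rw [act_two (c := 1) (fun g => Commute.one_left g) h1, inv_one, one_mul, eq_inv_iff_mul_eq_one, ← pow_succ, h5]
  rcases hp.eq_two_or_odd' with h2 | hodd
  · -- the prime two
    have h5 : p ≠ 5 := by omega
    have hp3 : ¬ p ∣ 3 := by rw [h2]; norm_num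
    obtain ⟨t', ht', q5, qc, qd⟩ := five h5
    obtain ⟨c, hc, hc3⟩ := exists_root hp hpg hp3 (ke z0 t' hz0 ht')
    obtain ⟨z', hz'⟩ : ∃ z', z' = z0 * c := ⟨_, rfl⟩
    have hsz : σ z' = z := by rw [hz', map_mul, MonoidHom.mem_ker.1 hc, mul_one, hz0]
    have q3 : (z' * t') ^ 3 = 1 := by
      have : z' * t' = (z0 * t') * c := by rw [hz', mul_assoc, (hcen c hc t').eq, ← mul_assoc]
      rw [this, (hcen c hc _).symm.mul_pow, hc3]
    refine ⟨z', t', hsz, ht', ?_, q5, qc, qd, q3⟩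
    apply one_of_pow hp hpg hp3 (kz z' hsz)
    -- the involution
    have e1 : x⁻¹ * z' * x = x ^ 2 * z' := by
      have h1 := conjx z' hsz
      have h2 : z' * x = x⁻¹ * z' := by rw [← h1]; group
      have e : x ^ 2 = (x ^ 2)⁻¹ := by
        rw [eq_inv_iff_mul_eq_one, ← pow_add]; exact x4
      rw [e, mul_assoc, h2, pow_two]; group
    have e2 : x⁻¹ * t' * x = (t' ^ 2)⁻¹ := eq_inv_of_mul_eq_one_left qc
    have e3 := x2t t' q5 qc
    have e4 : (x ^ 2)⁻¹ * (t' ^ 2)⁻¹ * x ^ 2 = t' ^ 2 := by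
      have := conj_pow' (x ^ 2) t' 2
      rw [e3] at this
      calc (x ^ 2)⁻¹ * (t' ^ 2)⁻¹ * x ^ 2 = ((x ^ 2)⁻¹ * t' ^ 2 * x ^ 2)⁻¹ := by group
        _ = t' ^ 2 := by rw [← this, inv_pow, inv_inv]
    have e5 : x ^ 2 * z' = z' * x ^ 2 := by
      have := x2z z' hsz
      rw [mul_assoc, inv_mul_eq_iff_eq_mul] at this
      exact this.symm
    apply two_core (u := x ^ 2 * (t' ^ 2)⁻¹) rfl (hcen _ (kz z' hsz))
    · calc x ^ 2 * (t' ^ 2)⁻¹ * (x ^ 2 * (t' ^ 2)⁻¹)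
          = (x ^ 2 * x ^ 2) * ((x ^ 2)⁻¹ * (t' ^ 2)⁻¹ * x ^ 2) * (t' ^ 2)⁻¹ := by group
        _ = 1 := by rw [e4, ← pow_add, show (2 + 2 : ℕ) = 4 from rfl, x4]; group
    · have : z' * (x ^ 2 * (t' ^ 2)⁻¹) = x⁻¹ * (z' * t') * x := by
        calc z' * (x ^ 2 * (t' ^ 2)⁻¹) = (z' * x ^ 2) * (t' ^ 2)⁻¹ := by group
          _ = (x⁻¹ * z' * x) * (x⁻¹ * t' * x) := by rw [e1, e2, e5]
          _ = x⁻¹ * (z' * t') * x := by group
      rw [this, conj_pow', q3]; group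
  · -- odd primes
    have hp2 : ¬ p ∣ 2 := by
      intro h
      have := (Nat.prime_dvd_prime_iff_eq hp Nat.prime_two).1 h
      rw [this] at hodd
      exact absurd hodd (by decide)
    obtain ⟨c, hc, hc2⟩ := exists_root hp hpg hp2 (kz z0 hz0)
    obtain ⟨z', hz'⟩ : ∃ z', z' = z0 * c := ⟨_, rfl⟩
    have hsz : σ z' = z := by rw [hz', map_mul, MonoidHom.mem_ker.1 hc, mul_one, hz0]
    have hzz : z' * z' = 1 := by
      rw [hz', ← pow_two, (hcen c hc z0).symm.mul_pow, pow_two z0, hc2]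
    by_cases h5 : p = 5
    · -- the prime five
      have hp3 : ¬ p ∣ 3 := by rw [h5]; norm_num
      have hp6 : ¬ p ∣ 6 := by rw [h5]; norm_num
      obtain ⟨f, hf, hf3⟩ := exists_root hp hpg hp3 (ke z' t0 hsz ht0)
      obtain ⟨t', ht'⟩ : ∃ t', t' = t0 * f := ⟨_, rfl⟩
      have hst : σ t' = t := by rw [ht', map_mul, MonoidHom.mem_ker.1 hf, mul_one, ht0]
      have q3 : (z' * t') ^ 3 = 1 := by
        have : z' * t' = (z' * t0) * f := by rw [ht', mul_assoc]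
        rw [this, (hcen f hf _).symm.mul_pow, hf3]
      have qd : t'⁻¹ * y⁻¹ * t' * y = 1 := by
        apply one_of_pow hp hpg hp6 (kd t' hst)
        have h1 := comm_pow' (hcen _ (kd t' hst)) rfl 6
        rw [y6, inv_one, one_mul, mul_one] at h1
        exact (mul_eq_right.1 h1.symm)
      obtain ⟨c', hc'⟩ : ∃ c', c' = x⁻¹ * t' * x * t' ^ 2 := ⟨_, rfl⟩
      obtain ⟨e, he⟩ : ∃ e, e = t' ^ 5 := ⟨_, rfl⟩
      have kc' : c' ∈ σ.ker := by rw [hc']; exact kc t' hst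
      have ke' : e ∈ σ.ker := by rw [he]; exact k5 t' hst
      have r1 : e = c' ^ 5 * (e ^ 2)⁻¹ := by
        have h1 := act_pow (hcen _ kc') hc'.symm 5
        rw [← he, pow_mul', ← he, mul_assoc, (hcen e ke' x).eq, inv_mul_cancel_left] at h1
        exact h1
      have r2 : (c'⁻¹ * e) ^ 3 = 1 := by
        have h1 := act_two (hcen _ kc') hc'.symm
        have h2 : t' ^ 4 = e * t'⁻¹ := by rw [he]; group
        rw [h2, ← mul_assoc] at h1
        have h3 := x2z z' hsz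
        have h4 : (x ^ 2)⁻¹ * (z' * t') * x ^ 2 = (c'⁻¹ * e) * (z' * t'⁻¹) := by
          have hk := hcen _ (mul_mem (inv_mem kc') ke')
          calc (x ^ 2)⁻¹ * (z' * t') * x ^ 2 = ((x ^ 2)⁻¹ * z' * x ^ 2) * ((x ^ 2)⁻¹ * t' * x ^ 2) := by group
            _ = z' * (c'⁻¹ * e) * t'⁻¹ := by rw [h3, h1]; group
            _ = (c'⁻¹ * e) * (z' * t'⁻¹) := by rw [← (hk z').eq]; group
        have h5 : ((c'⁻¹ * e) * (z' * t'⁻¹)) ^ 3 = 1 := by
          rw [← h4, conj_pow', q3]; group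
        rw [(hcen _ (mul_mem (inv_mem kc') ke') _).mul_pow,
          cube_inv hzz (e := 1) (fun g => Commute.one_left g) q3, inv_one, mul_one] at h5
        exact h5
      have r3 := one_of_pow hp hpg hp3 (mul_mem (inv_mem kc') ke') r2
      have r4 : e = c' := inv_mul_eq_one.1 r3 |>.symm
      rw [r4] at r1
      have r5 : c' ^ 2 = 1 := by
        have : c' * c' ^ 2 = c' ^ 5 := by nth_rewrite 1 [r1]; group
        have h7 : c' ^ 3 * c' ^ 2 = c' ^ 3 * 1 := by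
          rw [← pow_add, mul_one, ← this]; group
        exact mul_left_cancel h7
      have r6 := one_of_pow hp hpg hp2 kc' r5
      refine ⟨z', t', hsz, hst, hzz, ?_, ?_, qd, q3⟩
      · rw [← he, r4, r6]
      · rw [← hc', r6]
    · obtain ⟨t', ht', q5, qc, qd⟩ := five h5
      refine ⟨z', t', hsz, ht', hzz, q5, qc, qd, ?_⟩
      apply one_of_pow hp hpg hp2 (ke z' t' hsz ht')
      exact odd_cube hzz (hcen _ (ke z' t' hsz ht')) rfl (x2z z' hsz) (x2t t' q5 qc)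

end

end Cfsg.Agent.Lib.HNMulB
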