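import Cfsg.Agent.Lib.HNMulB
import Cfsg.Agent.Lib.MulCover
import Cfsg.Prelude.Def_Spor_HN
import Cfsg.Prelude.Def_SporadicB
import Cfsg.Prelude.Def_Spor_Conway

/-! The multiplier of the Harada-Norton group. -/

set_option autoImplicit false

namespace Cfsg.Agent.Lib.HNMulC

open Subgroup Cfsg.Agent.Lib.SchurSylow Cfsg.Agent.Lib.HNMulA Cfsg.Agent.Lib.HNMulB Cfsg.Spor
open scoped commutatorElement

/-- the relators -/
abbrev rels : Set (FreeGroup HN.Gen) := coxRelators HN.edges ∪ {r | r ∈ HN.extra}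

/-- the images of the generators -/
noncomputable def gx : HN := PresentedGroup.mk rels HN.x
noncomputable def gy : HN := PresentedGroup.mk rels HN.y
noncomputable def gz : HN := PresentedGroup.mk rels HN.z
noncomputable def gt : HN := PresentedGroup.mk rels HN.t

theorem mk_rel {r : FreeGroup HN.Gen} (h : r ∈ HN.extra) : PresentedGroup.mk rels r = 1 :=
  PresentedGroup.one_of_mem (Or.inr h)

theorem relA : RelA gx gy gz := by
  refine ⟨?_, ?_, ?_, ?_, ?_, ?_, ?_, ?_, ?_, ?_⟩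
  · exact mk_rel (r := HN.y ^ 6) (by simp [HN.extra])
  · exact mk_rel (r := HN.x ^ 2 * HN.y * HN.x ^ 2 * HN.y⁻¹) (by simp [HN.extra])
  · exact mk_rel (r := (HN.x⁻¹ * HN.y⁻¹ * HN.x * HN.y) ^ 3) (by simp [HN.extra])
  · exact mk_rel (r := (HN.x⁻¹ * HN.y ^ 2 * HN.x * HN.y ^ 3) ^ 3) (by simp [HN.extra])
  · exact mk_rel (r := (HN.x * HN.y) ^ 8) (by simp [HN.extra])
  · exact mk_rel (r := (HN.x * HN.y * HN.x * HN.y ^ 3) ^ 4) (by simp [HN.extra])
  · exact mk_rel (r := HN.z ^ 2) (by simp [HN.extra])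
  · exact mk_rel (r := (HN.z * HN.x) ^ 2) (by simp [HN.extra])
  · exact mk_rel (r := HN.z⁻¹ * (HN.y * HN.x * HN.y * HN.x * HN.y ^ 2 * HN.x * HN.y⁻¹)⁻¹ * HN.z *
      (HN.y * HN.x * HN.y * HN.x * HN.y ^ 2 * HN.x * HN.y⁻¹) * (HN.x ^ 2)⁻¹) (by simp [HN.extra])
  · exact mk_rel (r := HN.z * ((HN.y ^ 3 * HN.x * HN.y * HN.x * HN.y)⁻¹ * HN.z *
      (HN.y ^ 3 * HN.x * HN.y * HN.x * HN.y) * HN.x) ^ 3) (by simp [HN.extra])

theorem relB : RelB gx gy gz gt := by
  refine ⟨?_, ?_, ?_, ?_⟩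
  · exact mk_rel (r := HN.t ^ 5) (by simp [HN.extra])
  · exact mk_rel (r := HN.x⁻¹ * HN.t * HN.x * HN.t ^ 2) (by simp [HN.extra])
  · exact mk_rel (r := HN.t⁻¹ * HN.y⁻¹ * HN.t * HN.y) (by simp [HN.extra])
  · exact mk_rel (r := (HN.z * HN.t) ^ 3) (by simp [HN.extra])

/-- homomorphisms from the presented group -/
theorem exists_hom {Γ : Type*} [Group Γ] {x y z t : Γ} (hA : RelA x y z) (hB : RelB x y z t) :
    ∃ φ : HN →* Γ, φ gx = x ∧ φ gy = y ∧ φ gz = z ∧ φ gt = t := by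
  let f : HN.Gen → Γ := fun g => match g with
    | .x => x
    | .y => y
    | .z => z
    | .t => t
  have hx : FreeGroup.lift f HN.x = x := FreeGroup.lift_apply_of
  have hy : FreeGroup.lift f HN.y = y := FreeGroup.lift_apply_of
  have hz : FreeGroup.lift f HN.z = z := FreeGroup.lift_apply_of
  have ht : FreeGroup.lift f HN.t = t := FreeGroup.lift_apply_of
  have h : ∀ r ∈ rels, FreeGroup.lift f r = 1 := by
    rintro r (⟨a, ha, -⟩ | hr)
    · exact absurd ha (by simp [coxNodes, HN.edges])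
    · obtain ⟨a1, a2, a3, a4, a5, a6, a7, a8, a9, a10⟩ := hA
      obtain ⟨b1, b2, b3, b4⟩ := hB
      change r ∈ HN.extra at hr
      simp only [HN.extra, List.mem_cons, List.not_mem_nil, or_false] at hr
      rcases hr with rfl | rfl | rfl | rfl | rfl | rfl | rfl | rfl | rfl | rfl | rfl | rfl | rfl | rfl
      all_goals (simp only [map_mul, map_pow, map_inv, hx, hy, hz, ht]; assumption)
  refine ⟨PresentedGroup.toGroup h, ?_, ?_, ?_, ?_⟩
  · exact PresentedGroup.toGroup.of h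
  · exact PresentedGroup.toGroup.of h
  · exact PresentedGroup.toGroup.of h
  · exact PresentedGroup.toGroup.of h

theorem hom_ext' {Γ : Type*} [Group Γ] {f g : HN →* Γ} (hx : f gx = g gx) (hy : f gy = g gy) (hz : f gz = g gz)
    (ht : f gt = g gt) : f = g := by
  apply PresentedGroup.ext
  intro a
  cases a
  · exact hx
  · exact hy
  · exact hz
  · exact ht

/-- the subgroup of the statement -/
abbrev NN : Subgroup HN := (closure ({HN.x, HN.y, HN.z} : Set (FreeGroup HN.Gen))).map (PresentedGroup.mk rels)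

theorem gx_mem : gx ∈ NN := mem_map_of_mem _ (subset_closure (by simp))
theorem gy_mem : gy ∈ NN := mem_map_of_mem _ (subset_closure (by simp))
theorem gz_mem : gz ∈ NN := mem_map_of_mem _ (subset_closure (by simp))

theorem NN_eq : NN = closure {gx, gy, gz} := by
  rw [NN, MonoidHom.map_closure]
  congr 1
  simp only [Set.image_insert_eq, Set.image_singleton]
  rfl

/-- the generators in the subgroup of index two -/
theorem index_two {N : Type*} [Group N] {x y z : N} (h : RelA x y z) {K : Subgroup N} (hK : K.index = 2)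
    (hgen : ∀ L : Subgroup N, x ∈ L → y ∈ L → z ∈ L → L = ⊤) : x ∈ K ∧ y ∈ K ∧ z ∉ K := by
  have key : ∀ a b, a * b ∈ K ↔ (a ∈ K ↔ b ∈ K) := fun a b => mul_mem_iff_of_index_two hK
  have inv : ∀ a, a⁻¹ ∈ K ↔ a ∈ K := fun a => inv_mem_iff
  have one : (1 : N) ∈ K := one_mem K
  obtain ⟨a1, a2, a3, a4, a5, a6, a7, a8, a9, a10⟩ := h
  have hy : y ∈ K := by
    rw [← a4] at one
    simp only [pow_succ, pow_zero, one_mul, key, inv] at one
    tauto
  have hx : x ∈ K := by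
    have one : (1 : N) ∈ K := one_mem K
    rw [← a10] at one
    simp only [pow_succ, pow_zero, one_mul, key, inv, mul_inv_rev] at one
    tauto
  refine ⟨hx, hy, fun hz => ?_⟩
  rw [hgen K hx hy hz, index_top] at hK
  norm_num at hK

theorem stem_HN (hfin : Finite HN) (hHS : HasCyclicSchurMultiplier (↥HS) 2) (hp : commutator (↥HS) = ⊤)
    (hK : ∃ K : Subgroup NN, K.Normal ∧ K.index = 2 ∧ Cfsg.IsNonsplitDoubleCover K HS) : StemDvd HN 1 := by
  obtain ⟨K, hKn, hK2, hKd⟩ := hK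
  have hperf : commutator K = ⊤ := StemDbl.dbl_perfect hKd hp
  have h2 : StemDvd (↥HS) (2 * 1) := by
    intro Γ _ _ σ hσ
    obtain ⟨π, hπ⟩ := hHS.2 Γ σ hσ
    have := Subgroup.card_dvd_of_surjective π hπ
    simpa using this
  have hsup : StemDvd K 1 := StemDbl.stemDvd_dbl hKd hp h2
  let x : NN := ⟨gx, gx_mem⟩
  let y : NN := ⟨gy, gy_mem⟩
  let z : NN := ⟨gz, gz_mem⟩
  have hA : RelA x y z := by
    obtain ⟨a1, a2, a3, a4, a5, a6, a7, a8, a9, a10⟩ := relA
    exact ⟨Subtype.ext a1, Subtype.ext a2, Subtype.ext a3, Subtype.ext a4, Subtype.ext a5, Subtype.ext a6,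
      Subtype.ext a7, Subtype.ext a8, Subtype.ext a9, Subtype.ext a10⟩
  have hgen : ∀ L : Subgroup NN, x ∈ L → y ∈ L → z ∈ L → L = ⊤ := by
    intro L hx hy hz
    rw [eq_top_iff]
    rintro ⟨g, hg⟩ -
    have h1 : NN ≤ L.map NN.subtype := by
      refine NN_eq.le.trans ?_
      rw [closure_le]
      rintro a (rfl | rfl | rfl)
      · exact ⟨x, hx, rfl⟩
      · exact ⟨y, hy, rfl⟩
      · exact ⟨z, hz, rfl⟩
    obtain ⟨l, hl, hlg⟩ := h1 hg
    have : l = ⟨g, hg⟩ := Subtype.ext hlg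
    rwa [← this]
  obtain ⟨hxK, hyK, hzK⟩ := index_two hA hK2 hgen
  apply StemDvd.of_forall
  intro p hpp Γ _ _ σ hσ hpg
  have hinj : Function.Injective (NN.subtype.comp K.subtype) := by
    intro a b h
    exact Subtype.ext (Subtype.ext h)
  obtain ⟨x', y', z', t', hx, hy, hz, ht, hA', hB'⟩ := exists_lifts hpp hσ.1 hσ.2.1 hpg hperf hsup
    (ι := NN.subtype.comp K.subtype) hinj (kx := ⟨x, hxK⟩) (ky := ⟨y, hyK⟩) (z := gz) (t := gt) relA relB
    (by
      intro k
      exact ⟨⟨z * k * z⁻¹, hKn.conj_mem _ k.2 _⟩, rfl⟩)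
    (by
      intro k hk
      apply hzK
      have : (k : NN) = z := Subtype.ext hk
      rw [← this]; exact k.2)
  obtain ⟨φ, f1, f2, f3, f4⟩ := exists_hom hA' hB'
  have hid : σ.comp φ = MonoidHom.id HN := by
    apply hom_ext'
    · change σ (φ gx) = gx
      rw [f1, hx]; rfl
    · change σ (φ gy) = gy
      rw [f2, hy]; rfl
    · change σ (φ gz) = gz
      rw [f3, hz]
    · change σ (φ gt) = gt
      rw [f4, ht]
  have hsf : ∀ g, σ (φ g) = g := fun g => DFunLike.congr_fun hid g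
  have htop : φ.range = ⊤ := by
    apply MulCover.eq_top_of_map_top hσ
    rw [eq_top_iff]
    intro g _
    exact ⟨φ g, ⟨g, rfl⟩, hsf g⟩
  rw [Nat.dvd_one, card_eq_one, eq_bot_iff]
  intro g hg
  obtain ⟨h, rfl⟩ : g ∈ φ.range := by rw [htop]; trivial
  have h1 : σ (φ h) = 1 := hg
  rw [hsf] at h1
  rw [h1, map_one]
  exact one_mem _

theorem has_one (hfin : Finite HN) (hHS : HasCyclicSchurMultiplier (↥HS) 2) (hp : commutator (↥HS) = ⊤)
    (hK : ∃ K : Subgroup NN, K.Normal ∧ K.index = 2 ∧ Cfsg.IsNonsplitDoubleCover K HS) :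
    HasCyclicSchurMultiplier HN 1 := hasTrivial_of_stemDvd (stem_HN hfin hHS hp hK)

end Cfsg.Agent.Lib.HNMulC
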