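import Mathlib

/-! Suborbits: counting with double coset representatives. -/

set_option autoImplicit false

namespace Cfsg.Agent.Lib.HNOutA

open Subgroup

variable {G : Type*} [Group G]

/-- the elements of `H` fixing the coset `g H` -/
def TT (H : Subgroup G) (g : G) : Subgroup G where
  carrier := {x | x ∈ H ∧ g⁻¹ * x * g ∈ H}
  one_mem' := ⟨one_mem _, by simp [one_mem]⟩
  mul_mem' := by
    rintro a b ⟨h1, h2⟩ ⟨h3, h4⟩
    refine ⟨mul_mem h1 h3, ?_⟩
    have : g⁻¹ * (a * b) * g = (g⁻¹ * a * g) * (g⁻¹ * b * g) := by group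
    rw [this]; exact mul_mem h2 h4
  inv_mem' := by
    rintro a ⟨h1, h2⟩
    refine ⟨inv_mem h1, ?_⟩
    have : g⁻¹ * a⁻¹ * g = (g⁻¹ * a * g)⁻¹ := by group
    rw [this]; exact inv_mem h2

theorem mem_TT {H : Subgroup G} {g x : G} : x ∈ TT H g ↔ x ∈ H ∧ g⁻¹ * x * g ∈ H := Iff.rfl

/-- orbits and stabilisers -/
theorem orbit_card (N H : Subgroup G) (g : G) {S : Subgroup G} (hS : ∀ x, x ∈ S ↔ x ∈ N ∧ g⁻¹ * x * g ∈ H) :
    (MulAction.orbit N (g : G ⧸ H)).ncard * Nat.card S = Nat.card N := by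
  have hst : ∀ x : N, x ∈ MulAction.stabilizer N (g : G ⧸ H) ↔ (x : G) ∈ S := by
    intro x
    rw [MulAction.mem_stabilizer_iff, hS]
    change ((((x : G) * g : G)) : G ⧸ H) = (g : G ⧸ H) ↔ _
    rw [eq_comm, QuotientGroup.eq]
    rw [← mul_assoc]
    exact ⟨fun h => ⟨x.2, h⟩, fun h => h.2⟩
  have h1 : Nat.card S = Nat.card (MulAction.stabilizer N (g : G ⧸ H)) := by
    apply Nat.card_congr
    exact
      { toFun := fun x => ⟨⟨x, ((hS x).1 x.2).1⟩, (hst _).2 x.2⟩
        invFun := fun x => ⟨x.1.1, (hst x.1).1 x.2⟩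
        left_inv := fun _ => rfl
        right_inv := fun _ => rfl }
  rw [← MulAction.index_stabilizer, h1, mul_comm]
  exact Subgroup.card_mul_index _

/-- double coset data -/
structure Data {n : ℕ} (H : Subgroup G) (s : Fin n → G) (S : Fin n → Subgroup G) (L : Fin n → ℕ) : Prop where
  cover : ∀ g, g ∈ H ∨ ∃ i, ∃ h ∈ H, ∃ h' ∈ H, g = h * s i * h'
  le : ∀ i, S i ≤ TT H (s i)
  card : ∀ i, Nat.card (S i) * L i = Nat.card H
  index : H.index = 1 + ∑ i, L i

set_option linter.unusedSectionVars false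

variable [Finite G] {n : ℕ} {H : Subgroup G} {s : Fin n → G} {S : Fin n → Subgroup G} {L : Fin n → ℕ}

theorem Data.orbit_le (D : Data H s S L) (i : Fin n) : (MulAction.orbit H (s i : G ⧸ H)).ncard ≤ L i := by
  have h1 := orbit_card H H (s i) (S := TT H (s i)) (fun x => Iff.rfl)
  have h2 := D.card i
  have h3 : Nat.card (S i) ≤ Nat.card (TT H (s i)) := Nat.card_le_card_of_injective _ (Subgroup.inclusion_injective (D.le i))
  have h4 : 0 < Nat.card (S i) := Nat.card_pos
  by_contra hlt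
  push Not at hlt
  have h5 : Nat.card (S i) * L i < (MulAction.orbit H (s i : G ⧸ H)).ncard * Nat.card (TT H (s i)) := by
    calc Nat.card (S i) * L i < Nat.card (S i) * (MulAction.orbit H (s i : G ⧸ H)).ncard :=
          Nat.mul_lt_mul_of_pos_left hlt h4
      _ ≤ Nat.card (TT H (s i)) * (MulAction.orbit H (s i : G ⧸ H)).ncard := Nat.mul_le_mul_right _ h3
      _ = _ := mul_comm _ _
  omega

theorem Data.mem_orbit (D : Data H s S L) (q : G ⧸ H) :
    q = ((1 : G) : G ⧸ H) ∨ ∃ i, q ∈ MulAction.orbit H (s i : G ⧸ H) := by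
  obtain ⟨g, rfl⟩ := QuotientGroup.mk_surjective q
  rcases D.cover g with h | ⟨i, h, hh, h', hh', rfl⟩
  · left
    rw [eq_comm, QuotientGroup.eq]
    simpa using h
  · right
    refine ⟨i, ⟨h, hh⟩, ?_⟩
    change ((h * s i : G) : G ⧸ H) = _
    rw [QuotientGroup.eq]
    have : (h * s i)⁻¹ * (h * s i * h') = h' := by group
    rw [this]; exact hh'

/-- the union of a family of orbits -/
theorem ncard_le (D : Data H s S L) (I : Finset (Fin n)) {W : Set (G ⧸ H)}
    (h : ∀ q ∈ W, ∃ i ∈ I, q ∈ MulAction.orbit H (s i : G ⧸ H)) : W.ncard ≤ ∑ i ∈ I, L i := by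
  classical
  have h1 : W ⊆ ⋃ i ∈ I, MulAction.orbit H (s i : G ⧸ H) := by
    intro q hq
    obtain ⟨i, hi, h2⟩ := h q hq
    exact Set.mem_biUnion hi h2
  have key : ∀ I : Finset (Fin n), (⋃ i ∈ I, MulAction.orbit H (s i : G ⧸ H)).ncard ≤ ∑ i ∈ I, L i := by
    intro I
    induction I using Finset.induction_on with
    | empty => simp
    | insert i I hi ih =>
      rw [Finset.set_biUnion_insert, Finset.sum_insert hi]
      exact (Set.ncard_union_le _ _).trans (Nat.add_le_add (D.orbit_le i) ih)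
  exact (Set.ncard_le_ncard h1 (Set.toFinite _)).trans (key I)

theorem Data.orbit_eq (D : Data H s S L) (i : Fin n) : (MulAction.orbit H (s i : G ⧸ H)).ncard = L i := by
  classical
  apply le_antisymm (D.orbit_le i)
  have h1 : (Set.univ : Set (G ⧸ H)) ⊆ insert ((1 : G) : G ⧸ H)
      (MulAction.orbit H (s i : G ⧸ H) ∪ {q | ∃ j ∈ Finset.univ.erase i, q ∈ MulAction.orbit H (s j : G ⧸ H)}) := by
    intro q _
    rcases D.mem_orbit q with h | ⟨j, hj⟩
    · exact Or.inl h
    · right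
      by_cases hji : j = i
      · left; rw [← hji]; exact hj
      · right; exact ⟨j, Finset.mem_erase.2 ⟨hji, Finset.mem_univ _⟩, hj⟩
  have h2 := Set.ncard_le_ncard h1 (Set.toFinite _)
  rw [Set.ncard_univ] at h2
  have h3 : Nat.card (G ⧸ H) = 1 + ∑ i, L i := D.index
  have h4 := Set.ncard_insert_le ((1 : G) : G ⧸ H)
      (MulAction.orbit H (s i : G ⧸ H) ∪ {q | ∃ j ∈ Finset.univ.erase i, q ∈ MulAction.orbit H (s j : G ⧸ H)})
  have h5 := Set.ncard_union_le (MulAction.orbit H (s i : G ⧸ H))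
    {q | ∃ j ∈ Finset.univ.erase i, q ∈ MulAction.orbit H (s j : G ⧸ H)}
  have h6 := ncard_le D (Finset.univ.erase i)
    (W := {q | ∃ j ∈ Finset.univ.erase i, q ∈ MulAction.orbit H (s j : G ⧸ H)}) (fun q hq => hq)
  have h7 := Finset.add_sum_erase Finset.univ L (Finset.mem_univ i)
  omega

/-- the stabilisers are what they seem to be -/
theorem Data.TT_eq (D : Data H s S L) (i : Fin n) : TT H (s i) = S i := by
  have h1 := orbit_card H H (s i) (S := TT H (s i)) (fun x => Iff.rfl)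
  rw [D.orbit_eq i, ← D.card i, mul_comm] at h1
  have h0 : 0 < L i := by
    rcases Nat.eq_zero_or_pos (L i) with h | h
    · have := D.card i
      rw [h, mul_zero] at this
      exact absurd this (Nat.card_pos (α := H)).ne
    · exact h
  have h2 := Nat.eq_of_mul_eq_mul_right h0 h1
  exact (Subgroup.eq_of_le_of_card_ge (D.le i) h2.le).symm

theorem TT_conj (g h h' : G) (hh : h ∈ H) (hh' : h' ∈ H) (x : G) :
    x ∈ TT H (h * g * h') ↔ h⁻¹ * x * h ∈ TT H g := by
  rw [mem_TT, mem_TT]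
  have e1 : h⁻¹ * x * h ∈ H ↔ x ∈ H := by
    constructor
    · intro hx
      have : x = h * (h⁻¹ * x * h) * h⁻¹ := by group
      rw [this]; exact mul_mem (mul_mem hh hx) (inv_mem hh)
    · intro hx
      exact mul_mem (mul_mem (inv_mem hh) hx) hh
  have e2 : (h * g * h')⁻¹ * x * (h * g * h') = h'⁻¹ * (g⁻¹ * (h⁻¹ * x * h) * g) * h' := by group
  rw [e1, e2]
  refine and_congr_right fun _ => ?_
  constructor
  · intro hx
    have : g⁻¹ * (h⁻¹ * x * h) * g = h' * (h'⁻¹ * (g⁻¹ * (h⁻¹ * x * h) * g) * h') * h'⁻¹ := by group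
    rw [this]; exact mul_mem (mul_mem hh' hx) (inv_mem hh')
  · intro hx
    exact mul_mem (mul_mem (inv_mem hh') hx) hh'

theorem card_TT_conj (g h h' : G) (hh : h ∈ H) (hh' : h' ∈ H) : Nat.card (TT H (h * g * h')) = Nat.card (TT H g) := by
  apply Nat.card_congr
  exact
    { toFun := fun x => ⟨h⁻¹ * x * h, (TT_conj g h h' hh hh' x).1 x.2⟩
      invFun := fun x => ⟨h * x * h⁻¹, (TT_conj g h h' hh hh' _).2 (by
        have : h⁻¹ * (h * (x : G) * h⁻¹) * h = x := by group
        rw [this]; exact x.2)⟩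
      left_inv := fun x => Subtype.ext (by simp only; group)
      right_inv := fun x => Subtype.ext (by simp only; group) }

/-- every element outside `H` -/
theorem Data.card_TT (D : Data H s S L) {g : G} (hg : g ∉ H) :
    ∃ i, (∃ h ∈ H, ∃ h' ∈ H, g = h * s i * h') ∧ Nat.card (TT H g) = Nat.card (S i) := by
  rcases D.cover g with h | ⟨i, h, hh, h', hh', rfl⟩
  · exact absurd h hg
  · exact ⟨i, ⟨h, hh, h', hh', rfl⟩, by rw [card_TT_conj _ _ _ hh hh', D.TT_eq]⟩

/-- the index of overgroups -/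
theorem Data.over (D : Data H s S L) {C : Subgroup G} (hC : H ≤ C) : ∃ I : Finset (Fin n), (∀ i, i ∈ I ↔ s i ∈ C) ∧
    Nat.card C = Nat.card H * (1 + ∑ i ∈ I, L i) := by
  classical
  let I : Finset (Fin n) := Finset.univ.filter (fun i => s i ∈ C)
  have hI : ∀ i, i ∈ I ↔ s i ∈ C := fun i => by simp [I]
  refine ⟨I, hI, ?_⟩
  let W : Set (G ⧸ H) := (QuotientGroup.mk : G → G ⧸ H) '' (C : Set G)
  have hW : ∀ g : G, (g : G ⧸ H) ∈ W ↔ g ∈ C := by
    intro g
    constructor
    · rintro ⟨c, hc, hcg⟩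
      rw [QuotientGroup.eq] at hcg
      have : g = c * (c⁻¹ * g) := by group
      rw [this]; exact mul_mem hc (hC hcg)
    · intro hg
      exact ⟨g, hg, rfl⟩
  have h1 : Nat.card C = Nat.card H * W.ncard := by
    rw [← Nat.card_coe_set_eq W, ← QuotientGroup.card_preimage_mk]
    apply Nat.card_congr
    exact Equiv.setCongr (by ext g; exact (hW g).symm)
  have horb : ∀ i, ∀ q ∈ MulAction.orbit H (s i : G ⧸ H), (q ∈ W ↔ i ∈ I) := by
    rintro i q ⟨h, rfl⟩
    change (((h : G) * s i : G) : G ⧸ H) ∈ W ↔ _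
    rw [hW, hI]
    exact Subgroup.mul_mem_cancel_left C (hC h.2)
  have h2 : W.ncard ≤ 1 + ∑ i ∈ I, L i := by
    have hs : W ⊆ insert ((1 : G) : G ⧸ H) {q | ∃ i ∈ I, q ∈ MulAction.orbit H (s i : G ⧸ H)} := by
      intro q hq
      rcases D.mem_orbit q with h | ⟨i, hi⟩
      · exact Or.inl h
      · exact Or.inr ⟨i, (horb i q hi).1 hq, hi⟩
    have h3 := Set.ncard_le_ncard hs (Set.toFinite _)
    have h4 := Set.ncard_insert_le ((1 : G) : G ⧸ H) {q | ∃ i ∈ I, q ∈ MulAction.orbit H (s i : G ⧸ H)}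
    have h5 := ncard_le D I (W := {q | ∃ i ∈ I, q ∈ MulAction.orbit H (s i : G ⧸ H)}) (fun q hq => hq)
    omega
  have h3 : Wᶜ.ncard ≤ ∑ i ∈ Iᶜ, L i := by
    apply ncard_le D
    intro q hq
    rcases D.mem_orbit q with h | ⟨i, hi⟩
    · exfalso
      apply hq
      rw [h, hW]; exact one_mem _
    · refine ⟨i, ?_, hi⟩
      rw [Finset.mem_compl, ← horb i q hi]
      exact hq
  have h4 := Set.ncard_add_ncard_compl W
  have h5 : Nat.card (G ⧸ H) = 1 + ∑ i, L i := D.index
  have h6 := Finset.sum_add_sum_compl I L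
  rw [h1]
  congr 1
  omega

end Cfsg.Agent.Lib.HNOutA
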