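import Cfsg.Agent.Lib.HNOutA
import Cfsg.Agent.Lib.HNMulB

/-! The subgroup `⟨x, y, z⟩` of the Harada-Norton group: normaliser of `⟨y, y ^ x⟩`. -/

set_option autoImplicit false
set_option linter.unusedSectionVars false

namespace Cfsg.Agent.Lib.HNOutB

open Subgroup Cfsg.Agent.Lib.HNOutA Cfsg.Agent.Lib.HNMulA Cfsg.Agent.Lib.HNMulB

/-- suborbit lengths -/
def LL8 : Fin 8 → ℕ := ![1408, 2200, 5775, 35200, 123200, 277200, 354816, 739200]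

/-- the situation -/
structure Sit {G : Type} [Group G] (x y z t : G) (H U K : Subgroup G) (s : Fin 8 → G) (S : Fin 8 → Subgroup G) : Prop where
  rA : RelA x y z
  rB : RelB x y z t
  top : closure {x, y, z, t} = ⊤
  hH : H = closure {x, y, z}
  hU : U = closure {y, x⁻¹ * y * x}
  cardH : Nat.card H = 177408000
  data : Data H s S LL8
  s0 : s 0 = t
  S0 : S 0 = U
  KH : K ≤ H
  Knorm : ∀ h ∈ H, ∀ k ∈ K, h * k * h⁻¹ ∈ K
  Kmul : ∀ a ∈ H, ∀ b ∈ H, (a * b ∈ K ↔ (a ∈ K ↔ b ∈ K))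
  xK : x ∈ K
  yK : y ∈ K
  zK : z ∉ K
  Kcen : ∀ k ∈ K, (∀ k' ∈ K, k * k' = k' * k) → k = 1 ∨ k = x ^ 2

section words

variable {G : Type*} [Group G] {x y z t : G}

theorem A_sq (hA : RelA x y z) : x ^ 2 * x ^ 2 = 1 := by rw [← pow_add]; exact x_four hA

theorem A_inv (hA : RelA x y z) : (x ^ 2)⁻¹ = x ^ 2 := inv_eq_of_mul_eq_one_right (A_sq hA)

theorem A_y (hA : RelA x y z) : y * x ^ 2 = x ^ 2 * y := by
  have h2 := hA.2.1
  have h : x ^ 2 * y * x ^ 2 = y := mul_inv_eq_one.1 h2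
  calc y * x ^ 2 = (x ^ 2 * y * x ^ 2) * x ^ 2 := by rw [h]
    _ = x ^ 2 * y * (x ^ 2 * x ^ 2) := by group
    _ = x ^ 2 * y := by rw [A_sq hA, mul_one]

theorem A_z (hA : RelA x y z) : z * x ^ 2 = x ^ 2 * z := by
  have h7 : z * z = 1 := by rw [← pow_two]; exact hA.2.2.2.2.2.2.1
  have h8 : z * x * (z * x) = 1 := by rw [← pow_two]; exact hA.2.2.2.2.2.2.2.1
  have hz : z⁻¹ = z := inv_eq_of_mul_eq_one_right h7
  have h1 : z * x = x⁻¹ * z := by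
    have : z * x = (z * x)⁻¹ := eq_inv_of_mul_eq_one_left h8
    rw [this, mul_inv_rev, hz]
  calc z * x ^ 2 = (z * x) * x := by rw [pow_two]; group
    _ = x⁻¹ * (z * x) := by rw [h1, mul_assoc x⁻¹ z x, h1]
    _ = (x ^ 2)⁻¹ * z := by rw [h1, pow_two]; group
    _ = x ^ 2 * z := by rw [A_inv hA]

theorem z_conj (hA : RelA x y z) : x⁻¹ * z * x = x ^ 2 * z := by
  have h7 : z * z = 1 := by rw [← pow_two]; exact hA.2.2.2.2.2.2.1
  have h8 : z * x * (z * x) = 1 := by rw [← pow_two]; exact hA.2.2.2.2.2.2.2.1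
  have hz : z⁻¹ = z := inv_eq_of_mul_eq_one_right h7
  have h1 : z * x = x⁻¹ * z := by
    have : z * x = (z * x)⁻¹ := eq_inv_of_mul_eq_one_left h8
    rw [this, mul_inv_rev, hz]
  rw [mul_assoc, h1, ← A_inv hA, pow_two]; group

theorem t_conj (hB : RelB x y z t) : x⁻¹ * t * x = (t ^ 2)⁻¹ := eq_inv_of_mul_eq_one_left hB.2.1

theorem A_t (hB : RelB x y z t) : (x ^ 2)⁻¹ * t * x ^ 2 = t⁻¹ := by
  rw [act_two (c := 1) (fun g => Commute.one_left g) hB.2.1, inv_one, one_mul, eq_inv_iff_mul_eq_one, ← pow_succ]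
  exact hB.1

theorem t_y (hB : RelB x y z t) : y * t = t * y := by
  have h := hB.2.2.1
  have : t⁻¹ * (y⁻¹ * t * y) = 1 := by rw [← h]; group
  have h2 : y⁻¹ * t * y = t := (inv_mul_eq_one.1 this).symm
  calc y * t = y * (y⁻¹ * t * y) := by rw [h2]
    _ = t * y := by group

/-- the conjugate of `y` commutes with `t` -/
theorem t_yx (hB : RelB x y z t) : (x⁻¹ * y * x) * t = t * (x⁻¹ * y * x) := by
  have h1 : Commute (x⁻¹ * y * x) (x⁻¹ * t * x) := by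
    show x⁻¹ * y * x * (x⁻¹ * t * x) = x⁻¹ * t * x * (x⁻¹ * y * x)
    calc x⁻¹ * y * x * (x⁻¹ * t * x) = x⁻¹ * (y * t) * x := by group
      _ = x⁻¹ * (t * y) * x := by rw [t_y hB]
      _ = _ := by group
  rw [t_conj hB] at h1
  have h2 : Commute (x⁻¹ * y * x) (t ^ 2) := Commute.inv_right_iff.1 h1
  have h3 : Commute (x⁻¹ * y * x) ((t ^ 2) ^ 3) := h2.pow_right 3
  have h4 : (t ^ 2) ^ 3 = t := by
    have h5 := hB.1
    calc (t ^ 2) ^ 3 = t ^ 5 * t := by group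
      _ = t := by rw [h5, one_mul]
  rw [h4] at h3
  exact h3

/-- the triangle relations of two kinds kill everything -/
theorem two_cubes (h5 : t ^ 5 = 1) (hz : z * z = 1) (h1 : (z * t) ^ 3 = 1) (h2 : (z * t ^ 2) ^ 3 = 1) : t = 1 := by
  have hz' : z⁻¹ = z := inv_eq_of_mul_eq_one_right hz
  have e1 : t * z * t = z * t⁻¹ * z := by
    have h3 : (t * z * t) * (z * t * z) = 1 := by
      calc (t * z * t) * (z * t * z) = z⁻¹ * (z * t) ^ 3 * z := by rw [pow_succ, pow_two]; group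
        _ = 1 := by rw [h1]; group
    rw [eq_inv_of_mul_eq_one_left h3, mul_inv_rev, mul_inv_rev, hz']; group
  have e2 : t ^ 2 * z * t ^ 2 = z * (t ^ 2)⁻¹ * z := by
    have h3 : (t ^ 2 * z * t ^ 2) * (z * t ^ 2 * z) = 1 := by
      calc (t ^ 2 * z * t ^ 2) * (z * t ^ 2 * z) = z⁻¹ * (z * t ^ 2) ^ 3 * z := by rw [pow_three' (z * t ^ 2)]; group
        _ = 1 := by rw [h2]; group
    rw [eq_inv_of_mul_eq_one_left h3, mul_inv_rev, mul_inv_rev, hz']; group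
  -- `t z t⁻¹ z t = z t⁻² z`
  have e3 : t * (z * t⁻¹ * z) * t = z * (t ^ 2)⁻¹ * z := by
    rw [← e1, ← e2, pow_two]; group
  have e4 : t * z = z * t⁻¹ * z * t⁻¹ := by rw [← e1]; group
  have e5 : z * t⁻¹ * z * (t ^ 2)⁻¹ * z * t = z * (t ^ 2)⁻¹ * z := by
    calc z * t⁻¹ * z * (t ^ 2)⁻¹ * z * t = (z * t⁻¹ * z * t⁻¹) * t⁻¹ * z * t := by rw [pow_two]; group
      _ = (t * z) * t⁻¹ * z * t := by rw [← e4]
      _ = t * (z * t⁻¹ * z) * t := by group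
      _ = _ := e3
  have e6 : z * (t ^ 2)⁻¹ * z = t⁻¹ * z * t⁻¹ := by
    have h3 : t⁻¹ * (z * (t ^ 2)⁻¹ * z) * t = (t ^ 2)⁻¹ * z := by
      have h4 : z⁻¹ * (z * t⁻¹ * z * (t ^ 2)⁻¹ * z * t) = z⁻¹ * (z * (t ^ 2)⁻¹ * z) := by rw [e5]
      calc t⁻¹ * (z * (t ^ 2)⁻¹ * z) * t = z⁻¹ * (z * t⁻¹ * z * (t ^ 2)⁻¹ * z * t) := by group
        _ = z⁻¹ * (z * (t ^ 2)⁻¹ * z) := h4
        _ = (t ^ 2)⁻¹ * z := by group
    calc z * (t ^ 2)⁻¹ * z = t * (t⁻¹ * (z * (t ^ 2)⁻¹ * z) * t) * t⁻¹ := by group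
      _ = t * ((t ^ 2)⁻¹ * z) * t⁻¹ := by rw [h3]
      _ = t⁻¹ * z * t⁻¹ := by rw [pow_two]; group
  have e7 : t⁻¹ * z * t⁻¹ = z * t * z := by
    calc t⁻¹ * z * t⁻¹ = t⁻¹ * z⁻¹ * t⁻¹ := by rw [hz']
      _ = (t * z * t)⁻¹ := by group
      _ = (z * t⁻¹ * z)⁻¹ := by rw [e1]
      _ = z⁻¹ * t * z⁻¹ := by group
      _ = z * t * z := by rw [hz']
  have e8 : (t ^ 2)⁻¹ = t := by
    have h3 : z * (t ^ 2)⁻¹ * z = z * t * z := e6.trans e7
    exact mul_left_cancel (mul_right_cancel h3)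
  have e9 : t ^ 3 = 1 := by
    calc t ^ 3 = t ^ 2 * t := by rw [pow_succ]
      _ = t ^ 2 * (t ^ 2)⁻¹ := by rw [e8]
      _ = 1 := mul_inv_cancel _
  calc t = (t ^ 3) ^ 2 * (t ^ 5)⁻¹ := by group
    _ = 1 := by rw [e9, h5]; group

end words

end Cfsg.Agent.Lib.HNOutB
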