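import Cfsg.Agent.Lib.HNOutB

/-! The normaliser of `⟨y, y ^ x⟩` in `⟨x, y, z⟩`. -/

set_option autoImplicit false
set_option linter.unusedSectionVars false
set_option maxRecDepth 100000

namespace Cfsg.Agent.Lib.HNOutB

open Subgroup Cfsg.Agent.Lib.HNOutA Cfsg.Agent.Lib.HNMulA Cfsg.Agent.Lib.HNMulB

namespace Sit

variable {G : Type} [Group G] [Finite G] {x y z t : G} {H U K : Subgroup G} {s : Fin 8 → G} {S : Fin 8 → Subgroup G}
  (σ : Sit x y z t H U K s S)
include σ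

theorem xH : x ∈ H := σ.KH σ.xK
theorem yH : y ∈ H := σ.KH σ.yK
theorem zH : z ∈ H := by rw [σ.hH]; exact subset_closure (by simp)

/-- `x ^ 2` is central in `H` -/
theorem cenA : ∀ h ∈ H, h * x ^ 2 = x ^ 2 * h := by
  intro h hh
  rw [σ.hH] at hh
  have h1 : closure {x, y, z} ≤ centralizer {x ^ 2} := by
    rw [closure_le]
    rintro a (rfl | rfl | rfl)
    · exact mem_centralizer_singleton_iff.2 (by group)
    · exact mem_centralizer_singleton_iff.2 (A_y σ.rA)
    · exact mem_centralizer_singleton_iff.2 (A_z σ.rA)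
  exact mem_centralizer_singleton_iff.1 (h1 hh)

theorem index_H : H.index = 1539000 := by
  rw [σ.data.index]; decide

theorem card_G : Nat.card G = 273030912000000 := by
  rw [← Subgroup.card_mul_index H, σ.cardH, σ.index_H]

theorem tH : t ∉ H := by
  intro h
  have h1 : (⊤ : Subgroup G) ≤ H := by
    rw [← σ.top, closure_le]
    rintro a (rfl | rfl | rfl | rfl)
    · exact σ.xH
    · exact σ.yH
    · exact σ.zH
    · exact h
  have h2 := σ.index_H
  rw [top_le_iff.1 h1, index_top] at h2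
  norm_num at h2

theorem tpow {j : ℕ} (hj : ¬ 5 ∣ j) : t ^ j ∉ H := by
  intro h
  apply σ.tH
  have h5 : t ^ 5 = 1 := σ.rB.1
  have h1 : ∃ m, (j * m) % 5 = 1 := by
    have h2 : j % 5 = 1 ∨ j % 5 = 2 ∨ j % 5 = 3 ∨ j % 5 = 4 := by omega
    rcases h2 with h2 | h2 | h2 | h2
    · exact ⟨1, by omega⟩
    · exact ⟨3, by omega⟩
    · exact ⟨2, by omega⟩
    · exact ⟨4, by omega⟩
  obtain ⟨m, hm⟩ := h1
  have h2 : t = (t ^ j) ^ m := by
    rw [← pow_mul, ← Nat.div_add_mod (j * m) 5, hm, pow_add, pow_mul, h5, one_pow, one_mul, pow_one]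
  rw [h2]; exact pow_mem h m

theorem t_ne : t ≠ 1 := by
  intro h
  apply σ.tH
  rw [h]; exact one_mem _

theorem UK : U ≤ K := by
  rw [σ.hU, closure_le]
  rintro a (rfl | rfl)
  · exact σ.yK
  · exact mul_mem (mul_mem (inv_mem σ.xK) σ.yK) σ.xK

theorem UH : U ≤ H := σ.UK.trans σ.KH

theorem Ut : ∀ u ∈ U, u * t = t * u := by
  intro u hu
  rw [σ.hU] at hu
  have h1 : closure {y, x⁻¹ * y * x} ≤ centralizer {t} := by
    rw [closure_le]
    rintro a (rfl | rfl)
    · exact mem_centralizer_singleton_iff.2 (t_y σ.rB)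
    · exact mem_centralizer_singleton_iff.2 (t_yx σ.rB)
  exact mem_centralizer_singleton_iff.1 (h1 hu)

theorem cardU : Nat.card U = 126000 := by
  have h := σ.data.card 0
  rw [σ.S0, σ.cardH] at h
  have h1 : LL8 0 = 1408 := rfl
  rw [h1] at h
  omega

theorem TTt : TT H t = U := by
  have h := σ.data.TT_eq 0
  rwa [σ.s0, σ.S0] at h

/-- orders of the stabilisers -/
theorem card_TT {g : G} (hg : g ∉ H) : ∃ i, (∃ h ∈ H, ∃ h' ∈ H, g = h * s i * h') ∧
    Nat.card (TT H g) * LL8 i = 177408000 := by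
  obtain ⟨i, h1, h2⟩ := σ.data.card_TT hg
  exact ⟨i, h1, by rw [h2, σ.data.card i, σ.cardH]⟩

theorem not_eleven {g : G} (hg : g ∉ H) : ¬ 11 ∣ Nat.card (TT H g) := by
  obtain ⟨i, -, h⟩ := σ.card_TT hg
  rintro ⟨c, hc⟩
  rw [hc] at h
  fin_cases i <;> simp [LL8] at h <;> omega

theorem big {g : G} (hg : g ∉ H) (h1 : 126000 ≤ Nat.card (TT H g)) : ∃ h ∈ H, ∃ h' ∈ H, g = h * t * h' := by
  obtain ⟨i, h2, h⟩ := σ.card_TT hg
  fin_cases i
  · obtain ⟨a, ha, b, hb, e⟩ := h2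
    refine ⟨a, ha, b, hb, ?_⟩
    rw [e]; exact congrArg (fun w => a * w * b) σ.s0
  all_goals (exfalso; simp [LL8] at h; omega)

/-- elements of the big suborbit containing `U` -/
theorem fixU {g : G} (hg : g ∉ H) (h : ∀ u ∈ U, g⁻¹ * u * g ∈ H) : ∃ a ∈ H, ∃ b ∈ H, g = a * t * b ∧
    a ∈ normalizer (U : Set G) := by
  have h1 : U ≤ TT H g := fun u hu => ⟨σ.UH hu, h u hu⟩
  obtain ⟨a, ha, b, hb, e⟩ := σ.big hg (by
    rw [← σ.cardU]
    exact Nat.card_le_card_of_injective _ (Subgroup.inclusion_injective h1))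
  refine ⟨a, ha, b, hb, e, ?_⟩
  have h2 : ∀ u ∈ U, a⁻¹ * u * a ∈ U := by
    intro u hu
    rw [← σ.TTt, ← TT_conj t a b ha hb, ← e]
    exact h1 hu
  have h3 : a⁻¹ ∈ normalizer (U : Set G) := by
    rw [mem_normalizer_iff_map_conj_eq]
    apply eq_of_le_of_card_ge
    · rintro _ ⟨u, hu, rfl⟩
      have := h2 u hu
      simpa [MulAut.conj_apply] using this
    · rw [Subgroup.card_map_of_injective (MulAut.conj a⁻¹).injective]
  rw [← inv_inv a]; exact inv_mem h3

theorem x_norm : x ∈ normalizer (U : Set G) := by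
  have h3 : x⁻¹ ∈ normalizer (U : Set G) := by
    rw [mem_normalizer_iff_map_conj_eq]
    apply eq_of_le_of_card_ge
    · rw [map_le_iff_le_comap]
      nth_rewrite 1 [σ.hU]
      rw [closure_le]
      rintro a (rfl | rfl)
      · show x⁻¹ * a * x⁻¹⁻¹ ∈ U
        rw [inv_inv, σ.hU]; exact subset_closure (by simp)
      · show x⁻¹ * (x⁻¹ * y * x) * x⁻¹⁻¹ ∈ U
        have e : x⁻¹ * (x⁻¹ * y * x) * x⁻¹⁻¹ = y := by
          calc x⁻¹ * (x⁻¹ * y * x) * x⁻¹⁻¹ = (x ^ 2)⁻¹ * (y * x ^ 2) := by rw [pow_two]; group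
            _ = y := by rw [A_y σ.rA, inv_mul_cancel_left]
        rw [e, σ.hU]; exact subset_closure (by simp)
    · rw [Subgroup.card_map_of_injective (MulAut.conj x⁻¹).injective]
  rw [← inv_inv x]; exact inv_mem h3

theorem t_norm : t ∈ normalizer (U : Set G) := by
  rw [mem_normalizer_iff]
  intro u
  constructor
  · intro hu
    rw [← σ.Ut u hu, mul_inv_cancel_right]; exact hu
  · intro hu
    have h := σ.Ut _ hu
    have : u = t * u * t⁻¹ := by
      calc u = t⁻¹ * (t * u * t⁻¹ * t) := by group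
        _ = t⁻¹ * (t * (t * u * t⁻¹)) := by rw [h]
        _ = t * u * t⁻¹ := by group
    rw [this]; exact hu

theorem A_not_U : x ^ 2 ∉ U := by
  intro h
  have h1 := σ.Ut _ h
  have h2 := A_t σ.rB
  rw [mul_assoc, ← h1, inv_mul_cancel_left] at h2
  -- `t = t⁻¹`
  apply σ.tpow (j := 2) (by norm_num)
  have : t ^ 2 = 1 := by rw [pow_two]; nth_rewrite 1 [h2]; exact inv_mul_cancel t
  rw [this]; exact one_mem _

theorem odd_mem {g : G} (hg : g ∈ H) {n : ℕ} (hn : g ^ (2 * n + 1) = 1) : g ∈ K := by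
  by_contra h
  have h2 : g * g ∈ K := (σ.Kmul g hg g hg).2 Iff.rfl
  have h3 : (g * g) ^ n ∈ K := pow_mem h2 n
  have h4 : g ^ (2 * n + 1) = (g * g) ^ n * g := by rw [pow_succ, pow_mul, pow_two]
  have h5 : (g * g) ^ n * g ∈ K := by rw [← h4, hn]; exact one_mem _
  exact h ((mul_mem_cancel_left h3).1 h5)

end Sit

/-- an element of order eleven normalising a subgroup of order seven centralises it -/
theorem comm_of {G : Type*} [Group G] {g q : G} (hg : g ^ 11 = 1) (hq : orderOf q = 7) (h : g * q * g⁻¹ ∈ zpowers q) :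
    g * q = q * g := by
  have hfin : IsOfFinOrder q := by rw [← orderOf_pos_iff, hq]; norm_num
  rw [← hfin.mem_powers_iff_mem_zpowers] at h
  obtain ⟨k, hk⟩ := h
  have hk' : q ^ k = g * q * g⁻¹ := hk
  have h1 : ∀ n : ℕ, g ^ n * q * (g ^ n)⁻¹ = q ^ (k ^ n) := by
    intro n
    induction n with
    | zero => simp
    | succ n ih =>
      calc g ^ (n + 1) * q * (g ^ (n + 1))⁻¹ = g ^ n * (g * q * g⁻¹) * (g ^ n)⁻¹ := by rw [pow_succ]; group
        _ = (g ^ n * q * (g ^ n)⁻¹) ^ k := by rw [← hk', conj_pow]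
        _ = q ^ (k ^ (n + 1)) := by rw [ih, ← pow_mul, pow_succ]
  have h2 := h1 11
  rw [hg, inv_one, one_mul, mul_one] at h2
  have h3 : q ^ 1 = q ^ (k ^ 11) := by rw [pow_one]; exact h2
  rw [pow_eq_pow_iff_modEq, hq] at h3
  have h4 : k ≡ 1 [MOD 7] := by
    have h5 : k ^ 11 % 7 = 1 := h3.symm
    have h6 : (k % 7) ^ 11 % 7 = 1 := by rw [← Nat.pow_mod]; exact h5
    have h7 : k % 7 < 7 := Nat.mod_lt _ (by norm_num)
    show k % 7 = 1
    generalize k % 7 = r at h6 h7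
    interval_cases r <;> first | rfl | (exfalso; revert h6; decide)
  have h5 : q ^ k = q ^ 1 := by rw [pow_eq_pow_iff_modEq, hq]; exact h4
  rw [hk', pow_one] at h5
  exact mul_inv_eq_iff_eq_mul.1 h5

end Cfsg.Agent.Lib.HNOutB
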