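import Cfsg.Agent.Lib.HNOutC
import Cfsg.Agent.Lib.AutSyl

/-! The normaliser of `⟨y, y ^ x⟩` in `⟨x, y, z⟩`. -/

set_option autoImplicit false
set_option linter.unusedSectionVars false
set_option maxRecDepth 100000

namespace Cfsg.Agent.Lib.HNOutB

open Subgroup Cfsg.Agent.Lib.HNOutA Cfsg.Agent.Lib.HNMulA Cfsg.Agent.Lib.HNMulB

theorem div_list : ∀ a ∈ Nat.divisors 1408, 4 ∣ a → 5 ∣ (1 + a) * a → (1 + a) * a ∣ 2166912000 → a = 4 ∨ a = 44 := by
  decide +kernel

namespace Sit

variable {G : Type} [Group G] [Finite G] {x y z t : G} {H U K : Subgroup G} {s : Fin 8 → G} {S : Fin 8 → Subgroup G}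
  (σ : Sit x y z t H U K s S)
include σ

theorem norm_orb : Nat.card (normalizer (U : Set G) ⊓ H : Subgroup G) =
      (MulAction.orbit (normalizer (U : Set G) ⊓ H : Subgroup G) (t : G ⧸ H)).ncard * 126000 ∧
    Nat.card (normalizer (U : Set G)) =
      (1 + (MulAction.orbit (normalizer (U : Set G) ⊓ H : Subgroup G) (t : G ⧸ H)).ncard) *
        Nat.card (normalizer (U : Set G) ⊓ H : Subgroup G) := by
  obtain ⟨M, hM⟩ : ∃ M, M = normalizer (U : Set G) := ⟨_, rfl⟩
  rw [← hM]
  have hUM : U ≤ M := by rw [hM]; exact le_normalizer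
  have htM : t ∈ M := by rw [hM]; exact σ.t_norm
  have h1 := orbit_card (M ⊓ H) H t (S := U) (by
    intro u
    constructor
    · intro hu
      refine ⟨⟨hUM hu, σ.UH hu⟩, ?_⟩
      rw [mul_assoc, σ.Ut u hu, inv_mul_cancel_left]; exact σ.UH hu
    · rintro ⟨h1, h2⟩
      rw [← σ.TTt]; exact ⟨h1.2, h2⟩)
  rw [σ.cardU] at h1
  refine ⟨h1.symm, ?_⟩
  have h2 := orbit_card M H 1 (S := M ⊓ H) (by
    intro u
    rw [inv_one, one_mul, mul_one]; rfl)
  have horb : MulAction.orbit M ((1 : G) : G ⧸ H) = insert ((1 : G) : G ⧸ H) (MulAction.orbit (M ⊓ H : Subgroup G) (t : G ⧸ H)) := by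
    ext q
    constructor
    · rintro ⟨⟨g, hg⟩, rfl⟩
      change ((g * 1 : G) : G ⧸ H) ∈ _
      rw [mul_one]
      by_cases hgH : g ∈ H
      · left
        rw [eq_comm, QuotientGroup.eq]; simpa using hgH
      · right
        obtain ⟨a, ha, b, hb, e, hn⟩ := σ.fixU hgH (by
          intro u hu
          rw [hM] at hg
          have h3 := (mem_normalizer_iff.1 (inv_mem hg) u).1 hu
          rw [inv_inv] at h3
          exact σ.UH h3)
        refine ⟨⟨a, ⟨by rw [hM]; exact hn, ha⟩⟩, ?_⟩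
        change ((a * t : G) : G ⧸ H) = _
        rw [QuotientGroup.eq, e]
        have : (a * t)⁻¹ * (a * t * b) = b := by group
        rw [this]; exact hb
    · rintro (rfl | ⟨⟨n, hn⟩, rfl⟩)
      · exact MulAction.mem_orbit_self _
      · refine ⟨⟨n * t, mul_mem hn.1 htM⟩, ?_⟩
        change ((n * t * 1 : G) : G ⧸ H) = ((n * t : G) : G ⧸ H)
        rw [mul_one]
  have hnot : ((1 : G) : G ⧸ H) ∉ MulAction.orbit (M ⊓ H : Subgroup G) (t : G ⧸ H) := by
    rintro ⟨⟨n, hn⟩, h⟩
    change ((n * t : G) : G ⧸ H) = ((1 : G) : G ⧸ H) at h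
    rw [QuotientGroup.eq, mul_one] at h
    have h3 : n * t ∈ H := by rw [← inv_inv (n * t)]; exact inv_mem h
    exact σ.tH ((mul_mem_cancel_left (show n ∈ H from hn.2)).1 h3)
  rw [horb, Set.ncard_insert_of_notMem hnot] at h2
  rw [← h2, Nat.add_comm]

/-- the normaliser -/
theorem norm_eq (c11 : ∀ g ∈ K, orderOf g = 11 → ∀ k ∈ K, k * g = g * k → ∃ j : ℕ, k = g ^ j ∨ k = g ^ j * x ^ 2) :
    ∀ h ∈ H, h ∈ normalizer (U : Set G) → ∃ m : ℕ, m < 4 ∧ ∃ u ∈ U, h = x ^ m * u := by
  obtain ⟨e1, e2⟩ := σ.norm_orb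
  obtain ⟨a, ha⟩ : ∃ a, a = (MulAction.orbit (normalizer (U : Set G) ⊓ H : Subgroup G) (t : G ⧸ H)).ncard := ⟨_, rfl⟩
  rw [← ha] at e1 e2
  obtain ⟨M, hM⟩ : ∃ M, M = normalizer (U : Set G) := ⟨_, rfl⟩
  rw [← hM] at e1 e2
  have hUM : U ≤ M := by rw [hM]; exact le_normalizer
  obtain ⟨N, hN⟩ : ∃ N, N = M ⊓ H := ⟨_, rfl⟩
  rw [← hN] at e1 e2
  have hUN : U ≤ N := by rw [hN]; exact le_inf hUM σ.UH
  have hxN : x ∈ N := by rw [hN, hM]; exact ⟨σ.x_norm, σ.xH⟩
  have htM : t ∈ M := by rw [hM]; exact σ.t_norm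
  have hNH : N ≤ H := by rw [hN]; exact inf_le_right
  have nM : (U.subgroupOf M).Normal := normal_subgroupOf_of_le_normalizer (by rw [hM])
  have nN : (U.subgroupOf N).Normal := normal_subgroupOf_of_le_normalizer (by rw [hN, hM]; exact inf_le_left)
  have cM : Nat.card (U.subgroupOf M) = 126000 := by
    rw [Nat.card_congr (subgroupOfEquivOfLe hUM).toEquiv, σ.cardU]
  have cN : Nat.card (U.subgroupOf N) = 126000 := by
    rw [Nat.card_congr (subgroupOfEquivOfLe hUN).toEquiv, σ.cardU]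
  have qM : Nat.card (M ⧸ U.subgroupOf M) = (1 + a) * a := by
    have := card_eq_card_quotient_mul_card_subgroup (U.subgroupOf M)
    rw [cM, e2, e1] at this
    have h3 : (1 + a) * a * 126000 = Nat.card (M ⧸ U.subgroupOf M) * 126000 := by rw [← this]; ring
    exact (Nat.eq_of_mul_eq_mul_right (by norm_num) h3).symm
  have qN : Nat.card (N ⧸ U.subgroupOf N) = a := by
    have := card_eq_card_quotient_mul_card_subgroup (U.subgroupOf N)
    rw [cN, e1] at this
    exact (Nat.eq_of_mul_eq_mul_right (by norm_num) this).symm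
  have h5 : 5 ∣ (1 + a) * a := by
    have : Fact (Nat.Prime 5) := ⟨by norm_num⟩
    have ho : orderOf (QuotientGroup.mk' (U.subgroupOf M) ⟨t, htM⟩) = 5 := by
      apply orderOf_eq_prime
      · rw [← map_pow, show (⟨t, htM⟩ : M) ^ 5 = 1 from Subtype.ext σ.rB.1, map_one]
      · intro h
        rw [QuotientGroup.mk'_apply, QuotientGroup.eq_one_iff, mem_subgroupOf] at h
        exact σ.tH (σ.UH h)
    rw [← qM, ← ho]
    exact orderOf_dvd_natCard _
  have hxo : orderOf (QuotientGroup.mk' (U.subgroupOf N) ⟨x, hxN⟩) = 4 := by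
    have : Fact (Nat.Prime 2) := ⟨Nat.prime_two⟩
    have := orderOf_eq_prime_pow (x := QuotientGroup.mk' (U.subgroupOf N) ⟨x, hxN⟩) (n := 1) (p := 2) (by
        intro h
        rw [← map_pow, QuotientGroup.mk'_apply, QuotientGroup.eq_one_iff, mem_subgroupOf] at h
        exact σ.A_not_U h) (by
        rw [← map_pow, show (⟨x, hxN⟩ : N) ^ 2 ^ (1 + 1) = 1 from Subtype.ext (x_four σ.rA), map_one])
    simpa using this
  have h4 : 4 ∣ a := by
    rw [← qN, ← hxo]
    exact orderOf_dvd_natCard _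
  have h1408 : a ∣ 1408 := by
    have := card_dvd_of_le hNH
    rw [e1, σ.cardH, show (177408000 : ℕ) = 1408 * 126000 from rfl] at this
    exact Nat.dvd_of_mul_dvd_mul_right (by norm_num) this
  have hG : (1 + a) * a ∣ 2166912000 := by
    have := card_subgroup_dvd_card M
    rw [e2, e1, σ.card_G, ← mul_assoc, show (273030912000000 : ℕ) = 2166912000 * 126000 from rfl] at this
    exact Nat.dvd_of_mul_dvd_mul_right (by norm_num) this
  have ha2 : a = 4 := by
    rcases div_list a (Nat.mem_divisors.2 ⟨h1408, by norm_num⟩) h4 h5 hG with h | h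
    · exact h
    · exfalso
      -- a Sylow 7-subgroup of `U`
      have : Fact (Nat.Prime 7) := ⟨by norm_num⟩
      have : Fact (Nat.Prime 11) := ⟨by norm_num⟩
      obtain ⟨Q⟩ : Nonempty (Sylow 7 (U.subgroupOf N)) := inferInstance
      have hQ7 : Nat.card Q = 7 := by
        rw [Q.card_eq_multiplicity, cN]
        rw [SylQ.factorization_eq_one (q := 7) (by norm_num) (by norm_num) (by norm_num) (by norm_num), pow_one]
      have hf := Sylow.normalizer_sup_eq_top Q
      obtain ⟨R, hR⟩ : ∃ R, R = normalizer ((map (U.subgroupOf N).subtype (Q : Subgroup _) : Subgroup N) : Set N) := ⟨_, rfl⟩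
      rw [← hR] at hf
      have h6 := relIndex_sup_right R (U.subgroupOf N)
      rw [hf, relIndex_top_right] at h6
      have h7 : (U.subgroupOf N).index = 44 := by rw [← h, ← qN]; rfl
      rw [h7] at h6
      have h8 : 11 ∣ Nat.card R := by
        have h9 := relIndex_dvd_card (U.subgroupOf N) R
        rw [← h6] at h9
        exact dvd_trans (by norm_num) h9
      obtain ⟨g, hg⟩ := exists_prime_orderOf_dvd_card' 11 h8
      -- the element of order seven
      have : Fact (Nat.Prime 7) := ⟨by norm_num⟩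
      obtain ⟨q, hq⟩ := exists_prime_orderOf_dvd_card' (G := Q) 7 (by rw [hQ7])
      have hq1 : orderOf (((q : (U.subgroupOf N)) : N) : G) = 7 := by
        rw [Subgroup.orderOf_coe, Subgroup.orderOf_coe, Subgroup.orderOf_coe]; exact hq
      have hg1 : orderOf ((g : N) : G) = 11 := by
        rw [Subgroup.orderOf_coe, Subgroup.orderOf_coe]; exact hg
      have hqU : (((q : (U.subgroupOf N)) : N) : G) ∈ U := (q : (U.subgroupOf N)).2
      have hgH : ((g : N) : G) ∈ H := hNH (g : N).2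
      have hg11 : ((g : N) : G) ^ 11 = 1 := by rw [← hg1]; exact pow_orderOf_eq_one _
      have hgK : ((g : N) : G) ∈ K := σ.odd_mem hgH (n := 5) hg11
      have hcomm : ((g : N) : G) * (((q : (U.subgroupOf N)) : N) : G) = (((q : (U.subgroupOf N)) : N) : G) * ((g : N) : G) := by
        apply comm_of hg11 hq1
        have h9 : (g : N) ∈ normalizer ((map (U.subgroupOf N).subtype (Q : Subgroup _) : Subgroup N) : Set N) := by
          rw [← hR]; exact g.2
        have h10 := (mem_normalizer_iff.1 h9 ((q : (U.subgroupOf N)) : N)).1 ⟨q, q.2, rfl⟩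
        obtain ⟨q', hq', hqq⟩ := h10
        have h11 : (⟨q', hq'⟩ : Q) ∈ zpowers q := by
          have : Nat.card Q = 7 := hQ7
          apply mem_zpowers_of_prime_card this
          intro h12
          rw [h12, orderOf_one] at hq
          norm_num at hq
        obtain ⟨m, hm⟩ := mem_zpowers_iff.1 h11
        rw [mem_zpowers_iff]
        refine ⟨m, ?_⟩
        have h12 : ((q : (U.subgroupOf N)) ^ m : (U.subgroupOf N)) = q' := by
          rw [← Subgroup.coe_zpow, hm]
        have h13 : (((q : (U.subgroupOf N)) : N)) ^ m = (g : N) * (q : (U.subgroupOf N)) * (g : N)⁻¹ := by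
          rw [← Subgroup.coe_zpow, h12]; exact hqq
        have h14 := congrArg (fun w : N => (w : G)) h13
        simpa using h14
      obtain ⟨j, hj⟩ := c11 _ hgK hg1 _ (σ.UK hqU) hcomm.symm
      have hA : ((g : N) : G) * x ^ 2 = x ^ 2 * ((g : N) : G) := σ.cenA _ hgH
      have h22 : (((q : (U.subgroupOf N)) : N) : G) ^ 22 = 1 := by
        rcases hj with hj | hj
        · rw [hj, ← pow_mul, show j * 22 = 11 * (j * 2) by ring, pow_mul, hg11, one_pow]
        · have hc : Commute (((g : N) : G) ^ j) (x ^ 2) := (show Commute ((g : N) : G) (x ^ 2) from hA).pow_left j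
          rw [hj, hc.mul_pow, ← pow_mul, show j * 22 = 11 * (j * 2) by ring, pow_mul, hg11, one_pow, one_mul,
            show (22 : ℕ) = 2 * 11 from rfl, pow_mul, pow_two (x ^ 2), A_sq σ.rA, one_pow]
      have h7' : 7 ∣ 22 := by
        rw [← hq1]; exact orderOf_dvd_of_pow_eq_one h22
      norm_num at h7'
  intro h hh hhn
  have hhN : h ∈ N := by rw [hN, hM]; exact ⟨hhn, hh⟩
  have htop : zpowers (QuotientGroup.mk' (U.subgroupOf N) ⟨x, hxN⟩) = ⊤ := by
    apply eq_top_of_card_eq
    rw [Nat.card_zpowers, hxo, qN, ha2]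
  have h9 : QuotientGroup.mk' (U.subgroupOf N) ⟨h, hhN⟩ ∈ zpowers (QuotientGroup.mk' (U.subgroupOf N) ⟨x, hxN⟩) := by
    rw [htop]; trivial
  classical
  rw [← (isOfFinOrder_of_finite _).mem_powers_iff_mem_zpowers, mem_powers_iff_mem_range_orderOf] at h9
  rw [hxo, Finset.mem_image] at h9
  obtain ⟨m, hm, hm2⟩ := h9
  refine ⟨m, Finset.mem_range.1 hm, (x ^ m)⁻¹ * h, ?_, by group⟩
  rw [← map_pow, QuotientGroup.mk'_apply, QuotientGroup.mk'_apply, QuotientGroup.eq, mem_subgroupOf] at hm2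
  simpa using hm2

/-- the centraliser of `K` in `H` -/
theorem cent_K (c11 : ∀ g ∈ K, orderOf g = 11 → ∀ k ∈ K, k * g = g * k → ∃ j : ℕ, k = g ^ j ∨ k = g ^ j * x ^ 2)
    {h : G} (hh : h ∈ H) (hc : ∀ k ∈ K, h * k = k * h) : h = 1 ∨ h = x ^ 2 := by
  have hn : h ∈ normalizer (U : Set G) := by
    rw [mem_normalizer_iff]
    intro u
    constructor
    · intro hu
      rw [hc u (σ.UK hu), mul_inv_cancel_right]; exact hu
    · intro hu
      have h1 := hc _ (σ.UK hu)
      have h2 : u = h * u * h⁻¹ := by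
        calc u = h⁻¹ * (h * u * h⁻¹ * h) := by group
          _ = h⁻¹ * (h * (h * u * h⁻¹)) := by rw [h1]
          _ = h * u * h⁻¹ := by group
      rw [h2]; exact hu
  obtain ⟨m, -, u, hu, rfl⟩ := σ.norm_eq c11 h hh hn
  exact σ.Kcen _ (mul_mem (pow_mem σ.xK m) (σ.UK hu)) hc

end Sit

end Cfsg.Agent.Lib.HNOutB
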