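import Cfsg.Agent.Lib.HNOutD
import Cfsg.Prelude.Def_KGroupFacts

/-! Automorphisms of the Harada-Norton group: the subgroup `⟨x, y, z⟩`. -/

set_option autoImplicit false
set_option linter.unusedSectionVars false
set_option maxRecDepth 100000

namespace Cfsg.Agent.Lib.HNOutB

open Subgroup Cfsg.Agent.Lib.HNOutA Cfsg.Agent.Lib.HNMulA Cfsg.Agent.Lib.HNMulB

/-- facts on the Higman-Sims group -/
structure HSlike (Q : Type) [Group Q] : Prop where
  cent : ∀ g : Q, orderOf g = 11 → ∀ k, k * g = g * k → k ∈ zpowers g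
  aut : ∀ (β : MulAut Q) (g : Q), orderOf g = 11 → β g = g → ∃ u ∈ zpowers g, ∀ k, β k = u * k * u⁻¹
  out : Nat.card (Cfsg.Out Q) = 2

/-- the covering map -/
structure Cov {G : Type} [Group G] (x : G) (K : Subgroup G) {Q : Type} [Group Q] (π : K →* Q) : Prop where
  surj : Function.Surjective π
  ker : ∀ k : K, π k = 1 ↔ (k : G) = 1 ∨ (k : G) = x ^ 2
  perf : commutator K = ⊤

theorem induce {K Q : Type} [Group K] [Group Q] (π : K →* Q) (hπ : Function.Surjective π) (γ : MulAut K)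
    (hk : ∀ k, π k = 1 ↔ π (γ k) = 1) : ∃ β : MulAut Q, ∀ k, β (π k) = π (γ k) := by
  have hle : π.ker ≤ (π.comp γ.toMonoidHom).ker := fun k hk' => (hk k).1 hk'
  let f : Q →* Q := (π.liftOfRightInverse (Function.surjInv hπ) (Function.rightInverse_surjInv hπ)) ⟨π.comp γ.toMonoidHom, hle⟩
  have hf : ∀ k, f (π k) = π (γ k) := fun k =>
    MonoidHom.liftOfRightInverse_comp_apply π _ (Function.rightInverse_surjInv hπ) ⟨π.comp γ.toMonoidHom, hle⟩ k
  have hinj : Function.Injective f := by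
    rw [← MonoidHom.ker_eq_bot_iff, eq_bot_iff]
    intro q hq
    obtain ⟨k, rfl⟩ := hπ q
    rw [MonoidHom.mem_ker, hf] at hq
    exact (hk k).2 hq
  have hsur : Function.Surjective f := by
    intro q
    obtain ⟨k, rfl⟩ := hπ q
    refine ⟨π (γ⁻¹ k), ?_⟩
    rw [hf, MulAut.apply_inv_self]
  exact ⟨MulEquiv.ofBijective f ⟨hinj, hsur⟩, hf⟩

theorem sub_list : ∀ I : Finset (Fin 8), 0 ∉ I → (1 + ∑ i ∈ I, LL8 i) ∣ 1539000 → ∑ i ∈ I, LL8 i = 0 := by
  decide +kernel

namespace Sit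

variable {G : Type} [Group G] [Finite G] {x y z t : G} {H U K : Subgroup G} {s : Fin 8 → G} {S : Fin 8 → Subgroup G}
  (σ : Sit x y z t H U K s S)

section
include σ

theorem A_ne : x ^ 2 ≠ 1 := by
  intro h
  have := σ.A_not_U
  rw [h] at this
  exact this (one_mem _)

/-- the centraliser of `x ^ 2` -/
theorem centA {g : G} (hg : g * x ^ 2 = x ^ 2 * g) : g ∈ H := by
  have hC : H ≤ centralizer {x ^ 2} := fun h hh => mem_centralizer_singleton_iff.2 (σ.cenA h hh)
  obtain ⟨I, hI, hc⟩ := σ.data.over hC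
  have h0 : 0 ∉ I := by
    rw [hI, σ.s0, mem_centralizer_singleton_iff]
    intro h
    have h2 := A_t σ.rB
    rw [mul_assoc, h, inv_mul_cancel_left] at h2
    apply σ.tpow (j := 2) (by norm_num)
    have : t ^ 2 = 1 := by rw [pow_two]; nth_rewrite 1 [h2]; exact inv_mul_cancel t
    rw [this]; exact one_mem _
  have h1 := card_subgroup_dvd_card (centralizer {x ^ 2} : Subgroup G)
  rw [hc, σ.cardH, σ.card_G, show (273030912000000 : ℕ) = 177408000 * 1539000 from rfl] at h1
  have h2 := sub_list I h0 (Nat.dvd_of_mul_dvd_mul_left (by norm_num) h1)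
  rw [h2, add_zero, mul_one] at hc
  rw [Subgroup.eq_of_le_of_card_ge hC hc.le]
  exact mem_centralizer_singleton_iff.2 hg

end

section

variable {Q : Type} [Group Q] {π : K →* Q} (hπ : Cov x K π) (hQ : HSlike Q)
include σ hπ

theorem cenK (k : K) (h : k ∈ center K) : π k = 1 := by
  rw [hπ.ker]
  apply σ.Kcen _ k.2
  intro k' hk'
  have := mem_center_iff.1 h ⟨k', hk'⟩
  exact (congrArg Subtype.val this).symm

theorem kercen : π.ker ≤ center K := by
  intro k hk
  rw [MonoidHom.mem_ker, hπ.ker] at hk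
  rw [mem_center_iff]
  intro g
  apply Subtype.ext
  rcases hk with hk | hk
  · show (g : G) * k = k * g
    rw [hk, mul_one, one_mul]
  · show (g : G) * k = k * g
    rw [hk]; exact σ.cenA _ (σ.KH g.2)

theorem ker_aut (γ : MulAut K) (k : K) : π k = 1 ↔ π (γ k) = 1 := by
  have h1 : ∀ k : K, π k = 1 ↔ k ∈ center K := fun k => ⟨fun h => σ.kercen hπ h, fun h => σ.cenK hπ k h⟩
  rw [h1, h1, mem_center_iff, mem_center_iff]
  constructor
  · intro h g
    have := congrArg γ (h (γ⁻¹ g))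
    rwa [map_mul, map_mul, MulAut.apply_inv_self] at this
  · intro h g
    apply γ.injective
    rw [map_mul, map_mul]; exact h _

theorem ind (γ : MulAut K) : ∃ β : MulAut Q, ∀ k, β (π k) = π (γ k) := induce π hπ.surj γ (σ.ker_aut hπ γ)

/-- conjugation by elements of `H` -/
theorem conjK {h : G} (hh : h ∈ H) : ∃ γ : MulAut K, ∀ k : K, ((γ k : K) : G) = h * k * h⁻¹ := by
  refine ⟨⟨⟨fun k => ⟨h * k * h⁻¹, σ.Knorm h hh k k.2⟩, fun k => ⟨h⁻¹ * k * h, ?_⟩, ?_, ?_⟩, ?_⟩, fun k => rfl⟩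
  · have := σ.Knorm h⁻¹ (inv_mem hh) k k.2
    rwa [inv_inv] at this
  · intro k; apply Subtype.ext; simp only; group
  · intro k; apply Subtype.ext; simp only; group
  · intro a b; apply Subtype.ext; simp only [Subgroup.coe_mul]; group

/-- equality of homomorphisms modulo the centre -/
theorem hom_eq {f g : K →* K} (h : ∀ k, π (f k) = π (g k)) : f = g := hom_unique hπ.perf (σ.kercen hπ) h

theorem order_pi {g : K} (hg : orderOf (g : G) = 11) : orderOf (π g) = 11 := by
  have : Fact (Nat.Prime 11) := ⟨by norm_num⟩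
  have hgo : orderOf g = 11 := by rw [← Subgroup.orderOf_coe]; exact hg
  apply orderOf_eq_prime
  · rw [← map_pow, ← hgo, pow_orderOf_eq_one, map_one]
  · intro h
    rw [hπ.ker] at h
    rcases h with h | h
    · rw [h, orderOf_one] at hg; norm_num at hg
    · have h1 : orderOf (g : G) ∣ 2 := by
        rw [h]; apply orderOf_dvd_of_pow_eq_one
        rw [pow_two]; exact A_sq σ.rA
      rw [hg] at h1; norm_num at h1

include hQ

/-- centralisers of elements of order eleven -/
theorem c11 : ∀ g ∈ K, orderOf g = 11 → ∀ k ∈ K, k * g = g * k → ∃ j : ℕ, k = g ^ j ∨ k = g ^ j * x ^ 2 := by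
  intro g hg ho k hk hkg
  have h1 : π ⟨k, hk⟩ ∈ zpowers (π ⟨g, hg⟩) := by
    apply hQ.cent _ (σ.order_pi hπ ho)
    rw [← map_mul, ← map_mul]
    congr 1
    exact Subtype.ext hkg
  have hfin : IsOfFinOrder (π ⟨g, hg⟩) := by rw [← orderOf_pos_iff, σ.order_pi hπ ho]; norm_num
  rw [← hfin.mem_powers_iff_mem_zpowers] at h1
  obtain ⟨j, hj⟩ := h1
  have hj' : π (⟨g, hg⟩ ^ j) = π ⟨k, hk⟩ := by rw [map_pow]; exact hj
  have h2 : π ((⟨g, hg⟩ ^ j)⁻¹ * ⟨k, hk⟩) = 1 := by rw [map_mul, map_inv, hj', inv_mul_cancel]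
  rw [hπ.ker] at h2
  refine ⟨j, ?_⟩
  rcases h2 with h2 | h2
  · left
    exact (inv_mul_eq_one.1 h2).symm
  · right
    exact (inv_mul_eq_iff_eq_mul.1 h2)

theorem cent_K' {h : G} (hh : h ∈ H) (hc : ∀ k ∈ K, h * k = k * h) : h = 1 ∨ h = x ^ 2 :=
  σ.cent_K (σ.c11 hπ hQ) hh hc

/-- every automorphism fixes `x ^ 2` up to conjugacy -/
theorem step1 (α : MulAut G) : ∃ c : G, (MulAut.conj c * α) (x ^ 2) = x ^ 2 := by
  have : Fact (Nat.Prime 11) := ⟨by norm_num⟩
  have h11 : 11 ∣ Nat.card H := by rw [σ.cardH]; norm_num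
  obtain ⟨g', hg'⟩ := exists_prime_orderOf_dvd_card' 11 h11
  obtain ⟨g, hgdef⟩ : ∃ g : G, g = g' := ⟨_, rfl⟩
  have hgH : g ∈ H := by rw [hgdef]; exact g'.2
  have hgo : orderOf g = 11 := by rw [hgdef, Subgroup.orderOf_coe]; exact hg'
  have hg11 : g ^ 11 = 1 := by rw [← hgo]; exact pow_orderOf_eq_one g
  have hgK : g ∈ K := σ.odd_mem hgH (n := 5) hg11
  obtain ⟨c, hc⟩ := AutSyl.exists_conj (P := zpowers (α g)) (P' := zpowers g) (p := 11)
    (by rw [Nat.card_zpowers, MulEquiv.orderOf_eq, hgo]) (by rw [Nat.card_zpowers, hgo])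
    (by rw [σ.card_G]; norm_num)
  refine ⟨c, ?_⟩
  obtain ⟨α1, hα1⟩ : ∃ α1, α1 = MulAut.conj c * α := ⟨_, rfl⟩
  rw [← hα1]
  have h1 : α1 g ∈ zpowers g := by rw [hα1]; exact (hc _).1 (mem_zpowers _)
  obtain ⟨B, hB⟩ : ∃ B, B = α1 (x ^ 2) := ⟨_, rfl⟩
  rw [← hB]
  have hBB : B * B = 1 := by rw [hB, ← map_mul, A_sq σ.rA, map_one]
  have hB1 : B ≠ 1 := by
    intro h
    rw [hB] at h
    exact σ.A_ne ((map_eq_one_iff α1 α1.injective).1 h)
  have hcA := σ.cenA g hgH
  have hBg1 : B * α1 g = α1 g * B := by rw [hB, ← map_mul, ← map_mul, hcA]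
  have hα1g : α1 g ≠ 1 := by
    intro h
    have h2 : g = 1 := (map_eq_one_iff α1 α1.injective).1 h
    rw [h2, orderOf_one] at hgo; norm_num at hgo
  have hg2 : g ∈ zpowers (α1 g) := by
    have h3 : (⟨g, mem_zpowers g⟩ : zpowers g) ∈ zpowers (⟨α1 g, h1⟩ : zpowers g) := by
      apply mem_zpowers_of_prime_card (p := 11) (by rw [Nat.card_zpowers, hgo])
      intro h; exact hα1g (congrArg Subtype.val h)
    obtain ⟨m, hm⟩ := mem_zpowers_iff.1 h3
    exact mem_zpowers_iff.2 ⟨m, congrArg Subtype.val hm⟩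
  have hBg : B * g = g * B := by
    obtain ⟨m, hm⟩ := mem_zpowers_iff.1 hg2
    rw [← hm]
    exact ((show Commute B (α1 g) from hBg1).zpow_right m).eq
  have hBH : B ∈ H := by
    by_contra hBH
    apply σ.not_eleven hBH
    have h3 : zpowers g ≤ TT H B := by
      rw [zpowers_le]
      refine ⟨hgH, ?_⟩
      rw [mul_assoc, ← hBg, inv_mul_cancel_left]; exact hgH
    have h4 := card_dvd_of_le h3
    rwa [Nat.card_zpowers, hgo] at h4
  by_cases hBK : B ∈ K
  · obtain ⟨j, hj⟩ := σ.c11 hπ hQ g hgK hgo B hBK hBg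
    have hgA : Commute (g ^ j) (x ^ 2) := (show Commute g (x ^ 2) from hcA).pow_left j
    have h3 : g ^ (2 * j) = 1 := by
      rcases hj with hj | hj
      · rw [hj] at hBB
        rw [two_mul, pow_add]; exact hBB
      · rw [hj, ← pow_two, hgA.mul_pow, pow_two (x ^ 2), A_sq σ.rA, mul_one, ← pow_mul] at hBB
        rw [mul_comm]; exact hBB
    have h4 : 11 ∣ 2 * j := by rw [← hgo]; exact orderOf_dvd_of_pow_eq_one h3
    have h5 : 11 ∣ j := by omega
    have h6 : g ^ j = 1 := by rw [← hgo] at h5; exact orderOf_dvd_iff_pow_eq_one.1 h5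
    rw [h6, one_mul] at hj
    rcases hj with hj | hj
    · exact absurd hj hB1
    · exact hj
  · exfalso
    obtain ⟨γ, hγ⟩ := σ.conjK hπ hBH
    obtain ⟨β, hβ⟩ := σ.ind hπ γ
    have hβg : β (π ⟨g, hgK⟩) = π ⟨g, hgK⟩ := by
      rw [hβ]
      congr 1
      apply Subtype.ext
      rw [hγ]
      show B * g * B⁻¹ = g
      rw [hBg, mul_inv_cancel_right]
    obtain ⟨u, hu, hβu⟩ := hQ.aut β _ (σ.order_pi hπ hgo) hβg
    have hββ : ∀ k, β (β k) = k := by
      intro k
      obtain ⟨k, rfl⟩ := hπ.surj k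
      rw [hβ, hβ]
      congr 1
      apply Subtype.ext
      rw [hγ, hγ]
      have hB' : B⁻¹ = B := inv_eq_of_mul_eq_one_right hBB
      rw [hB']
      calc B * (B * (k : G) * B) * B = (B * B) * k * (B * B) := by group
        _ = k := by rw [hBB, one_mul, mul_one]
    have hu2 : ∀ k, (u * u) * k = k * (u * u) := by
      intro k
      have h3 := hββ k
      rw [hβu, hβu] at h3
      calc (u * u) * k = (u * (u * k * u⁻¹) * u⁻¹) * (u * u) := by group
        _ = k * (u * u) := by rw [h3]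
    have hu1 : u = 1 := by
      by_contra hne
      have ho := σ.order_pi hπ (g := ⟨g, hgK⟩) hgo
      -- `u` generates
      have hcard : Nat.card (zpowers (π ⟨g, hgK⟩)) = 11 := by rw [Nat.card_zpowers, ho]
      have hu11 : u ^ 11 = 1 := by
        obtain ⟨m, rfl⟩ := mem_zpowers_iff.1 hu
        rw [← zpow_natCast, ← zpow_mul, mul_comm, zpow_mul, zpow_natCast, ← ho, pow_orderOf_eq_one, one_zpow]
      have huu : u * u ≠ 1 := by
        intro h
        apply hne
        have e : u ^ 11 = (u * u) ^ 5 * u := by rw [← pow_two, ← pow_mul, ← pow_succ]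
        rw [hu11, h, one_pow, one_mul] at e
        exact e.symm
      have h3 : (⟨π ⟨g, hgK⟩, mem_zpowers _⟩ : zpowers (π ⟨g, hgK⟩)) ∈
          zpowers (⟨u * u, mul_mem hu hu⟩ : zpowers (π ⟨g, hgK⟩)) := by
        apply mem_zpowers_of_prime_card (p := 11) hcard
        intro h; exact huu (congrArg Subtype.val h)
      obtain ⟨m, hm⟩ := mem_zpowers_iff.1 h3
      have hm' : (u * u) ^ m = π ⟨g, hgK⟩ := congrArg Subtype.val hm
      have hall : ∀ k : Q, k ∈ zpowers (π ⟨g, hgK⟩) := by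
        intro k
        apply hQ.cent _ ho
        rw [← hm']
        exact ((show Commute k (u * u) from (hu2 k).symm).zpow_right m).eq
      -- then `Q` is abelian and perfect
      have hab : ∀ a b : Q, a * b = b * a := by
        intro a b
        obtain ⟨i, rfl⟩ := mem_zpowers_iff.1 (hall a)
        obtain ⟨j, rfl⟩ := mem_zpowers_iff.1 (hall b)
        rw [← zpow_add, ← zpow_add, add_comm]
      have hker : commutator K ≤ π.ker := by
        rw [_root_.commutator_def, commutator_le]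
        intro a _ b _
        rw [MonoidHom.mem_ker, map_commutatorElement, commutatorElement_eq_one_iff_mul_comm]
        exact hab _ _
      have h4 : π ⟨g, hgK⟩ = 1 := hker (by rw [hπ.perf]; trivial)
      rw [h4, orderOf_one] at ho
      norm_num at ho
    have hfix : γ.toMonoidHom = MonoidHom.id K := by
      apply σ.hom_eq hπ
      intro k
      change π (γ k) = π k
      rw [← hβ, hβu, hu1, one_mul, inv_one, mul_one]
    have hcomm : ∀ k ∈ K, B * k = k * B := by
      intro k hk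
      have h3 : (γ ⟨k, hk⟩ : K) = ⟨k, hk⟩ := DFunLike.congr_fun hfix ⟨k, hk⟩
      have h4 := congrArg (fun w : K => (w : G)) h3
      simp only at h4
      rw [hγ] at h4
      exact mul_inv_eq_iff_eq_mul.1 h4
    rcases σ.cent_K' hπ hQ hBH hcomm with h | h
    · exact hB1 h
    · apply hBK
      rw [h]; exact pow_mem σ.xK 2

end

end Sit

end Cfsg.Agent.Lib.HNOutB
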