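import Cfsg.Agent.Lib.HNOutE

/-! Automorphisms of the Harada-Norton group: reduction to the two standard ones. -/

set_option autoImplicit false
set_option linter.unusedSectionVars false
set_option maxRecDepth 100000

namespace Cfsg.Agent.Lib.HNOutB

open Subgroup Cfsg.Agent.Lib.HNOutA Cfsg.Agent.Lib.HNMulA Cfsg.Agent.Lib.HNMulB

open scoped commutatorElement

namespace Sit

variable {G : Type} [Group G] [Finite G] {x y z t : G} {H U K : Subgroup G} {s : Fin 8 → G} {S : Fin 8 → Subgroup G}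
  (σ : Sit x y z t H U K s S)

section
include σ

/-- automorphisms fixing `x ^ 2` preserve `H` -/
theorem aut_H {α : MulAut G} (h : α (x ^ 2) = x ^ 2) {g : G} : α g ∈ H ↔ g ∈ H := by
  constructor
  · intro hg
    apply σ.centA
    apply α.injective
    rw [map_mul, map_mul, h]
    exact σ.cenA _ hg
  · intro hg
    apply σ.centA
    rw [← h, ← map_mul, ← map_mul, σ.cenA g hg]

theorem comm_mem {a b : G} (ha : a ∈ H) (hb : b ∈ H) : a * b * a⁻¹ * b⁻¹ ∈ K := by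
  have ha' := inv_mem ha
  have hb' := inv_mem hb
  have key : ∀ c ∈ H, (c⁻¹ ∈ K ↔ c ∈ K) := fun c _ => inv_mem_iff
  rw [σ.Kmul _ (mul_mem (mul_mem ha hb) ha') _ hb', σ.Kmul _ (mul_mem ha hb) _ ha', σ.Kmul _ ha _ hb, key a ha, key b hb]
  tauto

end

section

variable {Q : Type} [Group Q] {π : K →* Q} (hπ : Cov x K π) (hQ : HSlike Q)
include σ hπ

theorem aut_K {α : MulAut G} (h : α (x ^ 2) = x ^ 2) {g : G} (hg : g ∈ K) : α g ∈ K := by
  have h1 : commutator K ≤ (K.comap α.toMonoidHom).subgroupOf K := by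
    rw [_root_.commutator_def, commutator_le]
    intro a _ b _
    show α ((⁅a, b⁆ : K) : G) ∈ K
    have e : ((⁅a, b⁆ : K) : G) = (a : G) * (b : G) * (a : G)⁻¹ * (b : G)⁻¹ := rfl
    rw [e, map_mul, map_mul, map_mul, map_inv, map_inv]
    exact σ.comm_mem ((σ.aut_H h).2 (σ.KH a.2)) ((σ.aut_H h).2 (σ.KH b.2))
  have h2 : (⟨g, hg⟩ : K) ∈ (K.comap α.toMonoidHom).subgroupOf K := h1 (by rw [hπ.perf]; trivial)
  exact h2

theorem restrict {α : MulAut G} (h : α (x ^ 2) = x ^ 2) : ∃ γ : MulAut K, ∀ k : K, ((γ k : K) : G) = α k := by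
  let f : K →* K := (α.toMonoidHom.comp K.subtype).codRestrict K (fun k => σ.aut_K hπ h k.2)
  have hf : ∀ k : K, ((f k : K) : G) = α k := fun k => rfl
  have hinj : Function.Injective f := by
    intro a b hab
    apply Subtype.ext
    apply α.injective
    rw [← hf, ← hf, hab]
  exact ⟨MulEquiv.ofBijective f ⟨hinj, Finite.surjective_of_injective hinj⟩, hf⟩

include hQ

/-- up to inner automorphisms, `K` is fixed -/
theorem step2 {α : MulAut G} (h : α (x ^ 2) = x ^ 2) : ∃ c ∈ H, ∀ k ∈ K, (MulAut.conj c * α) k = k := by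
  obtain ⟨γ, hγ⟩ := σ.restrict hπ h
  obtain ⟨β, hβ⟩ := σ.ind hπ γ
  obtain ⟨ζ, hζ⟩ := σ.conjK hπ σ.zH
  obtain ⟨βz, hβz⟩ := σ.ind hπ ζ
  -- it suffices to match on the quotient
  have key : ∀ c ∈ H, (∀ k : K, ∀ k' : K, (k' : G) = c * γ k * c⁻¹ → π k' = π k) → ∀ k ∈ K, (MulAut.conj c * α) k = k := by
    intro c hc h1 k hk
    obtain ⟨δ, hδ⟩ := σ.conjK hπ hc
    have h2 : (δ.toMonoidHom.comp γ.toMonoidHom) = MonoidHom.id K := by
      apply σ.hom_eq hπ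
      intro k
      exact h1 k _ (hδ (γ k))
    have h3 := DFunLike.congr_fun h2 ⟨k, hk⟩
    have h4 := congrArg (fun w : K => (w : G)) h3
    change ((δ (γ ⟨k, hk⟩) : K) : G) = k at h4
    rw [hδ, hγ] at h4
    exact h4
  -- the automorphism induced by `z` is not inner
  have hzn : βz ∉ Cfsg.Inn Q := by
    rintro ⟨q, hq⟩
    obtain ⟨k0, rfl⟩ := hπ.surj q
    have h1 : ζ.toMonoidHom = (MulAut.conj k0).toMonoidHom := by
      apply σ.hom_eq hπ
      intro k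
      change π (ζ k) = π (k0 * k * k0⁻¹)
      rw [← hβz, ← hq, map_mul, map_mul, map_inv]
      rfl
    have h2 : ∀ k ∈ K, ((k0 : G)⁻¹ * z) * k = k * ((k0 : G)⁻¹ * z) := by
      intro k hk
      have h3 := DFunLike.congr_fun h1 ⟨k, hk⟩
      have h4 := congrArg (fun w : K => (w : G)) h3
      change ((ζ ⟨k, hk⟩ : K) : G) = (k0 : G) * k * (k0 : G)⁻¹ at h4
      rw [hζ] at h4
      calc ((k0 : G)⁻¹ * z) * k = (k0 : G)⁻¹ * (z * k * z⁻¹) * z := by group
        _ = (k0 : G)⁻¹ * ((k0 : G) * k * (k0 : G)⁻¹) * z := by rw [← h4]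
        _ = k * ((k0 : G)⁻¹ * z) := by group
    have h3 := σ.cent_K' hπ hQ (mul_mem (inv_mem (σ.KH k0.2)) σ.zH) h2
    apply σ.zK
    have h4 : (k0 : G)⁻¹ * z ∈ K := by
      rcases h3 with h3 | h3
      · rw [h3]; exact one_mem _
      · rw [h3]; exact pow_mem σ.xK 2
    exact (mul_mem_cancel_left (inv_mem k0.2)).1 h4
  have hidx : (Cfsg.Inn Q).index = 2 := hQ.out
  by_cases hb : β ∈ Cfsg.Inn Q
  · obtain ⟨q, hq⟩ := hb
    obtain ⟨k0, rfl⟩ := hπ.surj q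
    refine ⟨(k0 : G)⁻¹, inv_mem (σ.KH k0.2), key _ (inv_mem (σ.KH k0.2)) ?_⟩
    intro k k' hk'
    have h1 : k' = k0⁻¹ * γ k * k0 := by
      apply Subtype.ext
      rw [hk']
      show _ = (k0 : G)⁻¹ * (γ k : G) * k0
      rw [inv_inv]
    rw [h1, map_mul, map_mul, map_inv, ← hβ, ← hq]
    show (π k0)⁻¹ * (π k0 * π k * (π k0)⁻¹) * π k0 = π k
    group
  · have h1 : βz * β ∈ Cfsg.Inn Q := by
      rw [mul_mem_iff_of_index_two hidx]
      exact ⟨fun h => absurd h hzn, fun h => absurd h hb⟩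
    obtain ⟨q, hq⟩ := h1
    obtain ⟨k0, rfl⟩ := hπ.surj q
    refine ⟨(k0 : G)⁻¹ * z, mul_mem (inv_mem (σ.KH k0.2)) σ.zH, key _ (mul_mem (inv_mem (σ.KH k0.2)) σ.zH) ?_⟩
    intro k k' hk'
    have h1 : k' = k0⁻¹ * ζ (γ k) * k0 := by
      apply Subtype.ext
      rw [hk']
      show _ = (k0 : G)⁻¹ * ((ζ (γ k) : K) : G) * k0
      rw [hζ]; group
    have h2 : π (ζ (γ k)) = π k0 * π k * (π k0)⁻¹ := by
      rw [← hβz, ← hβ]
      have h3 := DFunLike.congr_fun hq (π k)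
      exact h3.symm
    rw [h1, map_mul, map_mul, map_inv, h2]
    group

/-- the image of `z` -/
theorem step3 {α : MulAut G} (h : ∀ k ∈ K, α k = k) : α z = z ∨ α z = z * x ^ 2 := by
  have hA : α (x ^ 2) = x ^ 2 := h _ (pow_mem σ.xK 2)
  have hz' : α z ∈ H := (σ.aut_H hA).2 σ.zH
  have h1 : ∀ k ∈ K, (z⁻¹ * α z) * k = k * (z⁻¹ * α z) := by
    intro k hk
    have h2 := σ.Knorm z σ.zH k hk
    have h3 := h _ h2
    rw [map_mul, map_mul, map_inv, h k hk] at h3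
    calc (z⁻¹ * α z) * k = z⁻¹ * (α z * k * (α z)⁻¹) * α z := by group
      _ = z⁻¹ * (z * k * z⁻¹) * α z := by rw [h3]
      _ = k * (z⁻¹ * α z) := by group
  rcases σ.cent_K' hπ hQ (mul_mem (inv_mem σ.zH) hz') h1 with h2 | h2
  · left; exact (inv_mul_eq_one.1 h2).symm
  · right; exact inv_mul_eq_iff_eq_mul.1 h2

/-- the image of `t` is a power -/
theorem step4 {α : MulAut G} (h : ∀ k ∈ K, α k = k) : ∃ m : ℕ, m < 4 ∧ α t = t ^ (2 ^ m) := by
  have hA : α (x ^ 2) = x ^ 2 := h _ (pow_mem σ.xK 2)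
  have hx := h x σ.xK
  obtain ⟨t', ht'⟩ : ∃ t', t' = α t := ⟨_, rfl⟩
  rw [← ht']
  have h5 : t' ^ 5 = 1 := by rw [ht', ← map_pow, σ.rB.1, map_one]
  have hc : x⁻¹ * t' * x * t' ^ 2 = 1 := by
    have := congrArg α σ.rB.2.1
    rw [map_mul, map_mul, map_mul, map_inv, map_pow, hx, map_one] at this
    rw [ht']; exact this
  have htH : t' ∉ H := by
    rw [ht', σ.aut_H hA]; exact σ.tH
  have hUt : ∀ u ∈ U, u * t' = t' * u := by
    intro u hu
    have := congrArg α (σ.Ut u hu)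
    rw [map_mul, map_mul, h u (σ.UK hu)] at this
    rw [ht']; exact this
  have hAt' : (x ^ 2)⁻¹ * t' * x ^ 2 = t'⁻¹ := by
    rw [act_two (c := 1) (fun g => Commute.one_left g) hc, inv_one, one_mul, eq_inv_iff_mul_eq_one, ← pow_succ]
    exact h5
  -- action of `x` on powers of `t`
  have hxt : x * t * x⁻¹ = t ^ 2 := by
    have e1 := t_conj σ.rB
    have e2 : (x * t * x⁻¹) ^ 5 = 1 := by rw [conj_pow, σ.rB.1]; group
    have e3 : t = ((x * t * x⁻¹) ^ 2)⁻¹ := by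
      rw [conj_pow]
      calc t = x * (x⁻¹ * t * x) * x⁻¹ := by group
        _ = x * (t ^ 2)⁻¹ * x⁻¹ := by rw [e1]
        _ = (x * t ^ 2 * x⁻¹)⁻¹ := by group
    calc x * t * x⁻¹ = (x * t * x⁻¹) ^ 5 * (((x * t * x⁻¹) ^ 2)⁻¹) ^ 2 := by group
      _ = t ^ 2 := by rw [e2, one_mul, ← e3]
  have hxm : ∀ m n : ℕ, x ^ m * t ^ n = t ^ (n * 2 ^ m) * x ^ m := by
    intro m n
    induction m with
    | zero => simp
    | succ m ih =>
      have e1 : x * t ^ (n * 2 ^ m) = t ^ (n * 2 ^ (m + 1)) * x := by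
        have e2 : x * t ^ (n * 2 ^ m) * x⁻¹ = t ^ (n * 2 ^ (m + 1)) := by
          rw [← conj_pow, hxt, ← pow_mul]; congr 1; ring
        rw [← e2, inv_mul_cancel_right]
      calc x ^ (m + 1) * t ^ n = x * (x ^ m * t ^ n) := by rw [pow_succ']; group
        _ = (x * t ^ (n * 2 ^ m)) * x ^ m := by rw [ih]; group
        _ = t ^ (n * 2 ^ (m + 1)) * x ^ (m + 1) := by rw [e1, pow_succ' x m]; group
  obtain ⟨a, ha, b, hb, e, hn⟩ := σ.fixU htH (by
    intro u hu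
    rw [mul_assoc, hUt u hu, inv_mul_cancel_left]; exact σ.UH hu)
  obtain ⟨m, hm, u, hu, rfl⟩ := σ.norm_eq (σ.c11 hπ hQ) a ha hn
  refine ⟨m, hm, ?_⟩
  -- the difference
  obtain ⟨f, hf⟩ : ∃ f, f = x ^ m * u * b := ⟨_, rfl⟩
  have hfH : f ∈ H := by rw [hf]; exact mul_mem ha hb
  have e1 : t' = t ^ (2 ^ m) * f := by
    have e2 := hxm m 1
    rw [pow_one, one_mul] at e2
    calc t' = x ^ m * (u * t) * b := by rw [e]; group
      _ = (x ^ m * t) * u * b := by rw [σ.Ut u hu]; group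
      _ = t ^ (2 ^ m) * f := by rw [e2, hf]; group
  have hUtn : ∀ u ∈ U, ∀ n : ℕ, Commute u (t ^ n) := fun u hu n => (show Commute u t from σ.Ut u hu).pow_right n
  have hUf : ∀ u ∈ U, u * f = f * u := by
    intro u hu
    have e2 : f = (t ^ (2 ^ m))⁻¹ * t' := by rw [e1]; group
    rw [e2]
    exact (((hUtn u hu _).inv_right).mul_right (show Commute u t' from hUt u hu)).eq
  have hfn : f ∈ normalizer (U : Set G) := by
    rw [mem_normalizer_iff]
    intro u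
    constructor
    · intro hu
      rw [← hUf u hu, mul_inv_cancel_right]; exact hu
    · intro hu
      have h1 := hUf _ hu
      have h2 : u = f * u * f⁻¹ := by
        calc u = f⁻¹ * (f * u * f⁻¹ * f) := by group
          _ = f⁻¹ * (f * (f * u * f⁻¹)) := by rw [h1]
          _ = f * u * f⁻¹ := by group
      rw [h2]; exact hu
  obtain ⟨m', hm', u', hu', hf'⟩ := σ.norm_eq (σ.c11 hπ hQ) f hfH hfn
  -- conjugate by `x ^ 2`
  obtain ⟨n, hnn⟩ : ∃ n, n = 2 ^ m := ⟨_, rfl⟩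
  rw [← hnn] at e1 ⊢
  have hAtn : (x ^ 2)⁻¹ * t ^ n * x ^ 2 = (t ^ n)⁻¹ := by
    rw [← conj_pow', A_t σ.rB, inv_pow]
  have e3 : (t ^ n)⁻¹ * f = f⁻¹ * (t ^ n)⁻¹ := by
    have e4 : (x ^ 2)⁻¹ * t' * x ^ 2 = (t ^ n)⁻¹ * f := by
      calc (x ^ 2)⁻¹ * t' * x ^ 2 = ((x ^ 2)⁻¹ * t ^ n * x ^ 2) * ((x ^ 2)⁻¹ * (f * x ^ 2)) := by rw [e1]; group
        _ = (t ^ n)⁻¹ * f := by rw [hAtn, σ.cenA f hfH, inv_mul_cancel_left]
    rw [← e4, hAt', e1, mul_inv_rev]
  have e5 : f * (t ^ n)⁻¹ = (t ^ (n * 2 ^ m'))⁻¹ * f := by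
    have e6 := hxm m' n
    have e7 : f * t ^ n = t ^ (n * 2 ^ m') * f := by
      calc f * t ^ n = x ^ m' * (u' * t ^ n) := by rw [hf']; group
        _ = (x ^ m' * t ^ n) * u' := by rw [(hUtn u' hu' n).eq]; group
        _ = t ^ (n * 2 ^ m') * f := by rw [e6, hf']; group
    calc f * (t ^ n)⁻¹ = (t ^ (n * 2 ^ m'))⁻¹ * (t ^ (n * 2 ^ m') * f) * (t ^ n)⁻¹ := by group
      _ = (t ^ (n * 2 ^ m'))⁻¹ * (f * t ^ n) * (t ^ n)⁻¹ := by rw [e7]
      _ = (t ^ (n * 2 ^ m'))⁻¹ * f := by group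
  have e8 : f * f = t ^ (n * 2 ^ m') * (t ^ n)⁻¹ := by
    have e9 : f * (t ^ n)⁻¹ * f = (t ^ n)⁻¹ := by rw [mul_assoc, e3]; group
    rw [e5] at e9
    calc f * f = t ^ (n * 2 ^ m') * ((t ^ (n * 2 ^ m'))⁻¹ * f * f) := by group
      _ = t ^ (n * 2 ^ m') * (t ^ n)⁻¹ := by rw [e9]
  have hn5 : ¬ 5 ∣ n := by
    rw [hnn]
    intro h
    have := (Nat.Prime.dvd_of_dvd_pow (by norm_num) h : 5 ∣ 2)
    norm_num at this
  have hm0 : m' = 0 := by
    by_contra hne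
    have e9 : t ^ (n * (2 ^ m' - 1)) = f * f := by
      rw [e8, Nat.mul_sub_one, pow_sub _ (Nat.le_mul_of_pos_right n (by positivity))]
    have e10 : ¬ 5 ∣ n * (2 ^ m' - 1) := by
      intro h
      rcases (Nat.Prime.dvd_mul (by norm_num)).1 h with h | h
      · exact hn5 h
      · interval_cases m' <;> omega
    exact σ.tpow e10 (by rw [e9]; exact mul_mem hfH hfH)
  rw [hm0, pow_zero, mul_one, mul_inv_cancel] at e8
  rw [hm0, pow_zero, one_mul] at hf'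
  have hft : Commute f (t ^ n) := by rw [hf']; exact hUtn u' hu' n
  have e11 : f = 1 := by
    have e12 : f ^ 5 = 1 := by
      rw [e1, hft.symm.mul_pow, ← pow_mul, mul_comm n 5, pow_mul, σ.rB.1, one_pow, one_mul] at h5
      exact h5
    have e13 : f ^ 5 = (f * f) ^ 2 * f := by rw [← pow_two, ← pow_mul, ← pow_succ]
    rw [e12, e8, one_pow, one_mul] at e13
    exact e13.symm
  rw [e1, e11, mul_one]

end

end Sit

end Cfsg.Agent.Lib.HNOutB
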