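import Cfsg.Agent.Lib.HNOutF

/-! The outer automorphism group has order two. -/

set_option autoImplicit false
set_option linter.unusedSectionVars false
set_option maxRecDepth 100000

namespace Cfsg.Agent.Lib.HNOutB

open Subgroup Cfsg.Agent.Lib.HNOutA Cfsg.Agent.Lib.HNMulA Cfsg.Agent.Lib.HNMulB

section

variable {G : Type*} [Group G] {x y z t : G}

theorem A_t' (hA : RelA x y z) (hB : RelB x y z t) (n : ℕ) : x ^ 2 * t ^ n * (x ^ 2)⁻¹ = (t ^ n)⁻¹ := by
  have h1 := A_t hB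
  have h2 := conj_pow' (x ^ 2) t n
  rw [h1, A_inv hA, inv_pow] at h2
  rw [A_inv hA]; exact h2.symm

theorem x_t (hB : RelB x y z t) (n : ℕ) : x * t ^ n * x⁻¹ = t ^ (2 * n) := by
  have e1 := t_conj hB
  have e2 : (x * t * x⁻¹) ^ 5 = 1 := by rw [conj_pow, hB.1]; group
  have e3 : t = ((x * t * x⁻¹) ^ 2)⁻¹ := by
    rw [conj_pow]
    calc t = x * (x⁻¹ * t * x) * x⁻¹ := by group
      _ = x * (t ^ 2)⁻¹ * x⁻¹ := by rw [e1]
      _ = (x * t ^ 2 * x⁻¹)⁻¹ := by group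
  have e4 : x * t * x⁻¹ = t ^ 2 := by
    calc x * t * x⁻¹ = (x * t * x⁻¹) ^ 5 * (((x * t * x⁻¹) ^ 2)⁻¹) ^ 2 := by group
      _ = t ^ 2 := by rw [e2, one_mul, ← e3]
  rw [← conj_pow, e4, ← pow_mul]

theorem x_zA (hA : RelA x y z) : x * (z * x ^ 2) * x⁻¹ = z := by
  have h1 := z_conj hA
  rw [← A_z hA] at h1
  rw [← h1]; group

theorem no_two (hA : RelA x y z) (hB : RelB x y z t) (ht : t ≠ 1) : (z * t ^ 2) ^ 3 ≠ 1 := by
  intro h
  exact ht (two_cubes hB.1 (by rw [← pow_two]; exact hA.2.2.2.2.2.2.1) hB.2.2.2 h)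

theorem no_three (hA : RelA x y z) (hB : RelB x y z t) (ht : t ≠ 1) : (z * t ^ 3) ^ 3 ≠ 1 := by
  intro h
  have h1 := cube_inv (e := 1) (by rw [← pow_two]; exact hA.2.2.2.2.2.2.1) (fun g => Commute.one_left g) h
  have h2 : (t ^ 3)⁻¹ = t ^ 2 := by
    rw [inv_eq_iff_mul_eq_one, ← pow_add]; exact hB.1
  rw [h2, inv_one] at h1
  exact no_two hA hB ht h1

end

namespace Sit

variable {G : Type} [Group G] [Finite G] {x y z t : G} {H U K : Subgroup G} {s : Fin 8 → G} {S : Fin 8 → Subgroup G}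
  (σ : Sit x y z t H U K s S)

section

variable {Q : Type} [Group Q] {π : K →* Q} (hπ : Cov x K π) (hQ : HSlike Q)
include σ hπ hQ

/-- the standard form -/
theorem step5 (α : MulAut G) : ∃ g : G, (MulAut.conj g * α) x = x ∧ (MulAut.conj g * α) y = y ∧
    (((MulAut.conj g * α) z = z ∧ (MulAut.conj g * α) t = t) ∨
      ((MulAut.conj g * α) z = z * x ^ 2 ∧ (MulAut.conj g * α) t = t ^ 2)) := by
  obtain ⟨c1, h1⟩ := σ.step1 hπ hQ α
  obtain ⟨c2, -, h2⟩ := σ.step2 hπ hQ h1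
  obtain ⟨α2, hα2⟩ : ∃ α2, α2 = MulAut.conj c2 * (MulAut.conj c1 * α) := ⟨_, rfl⟩
  rw [← hα2] at h2
  have hred : ∀ d : G, MulAut.conj (d * c2 * c1) * α = MulAut.conj d * α2 := by
    intro d
    rw [hα2, map_mul, map_mul]; simp only [mul_assoc]
  -- it is enough to work with `α2`
  suffices H : ∃ d : G, (MulAut.conj d * α2) x = x ∧ (MulAut.conj d * α2) y = y ∧
      (((MulAut.conj d * α2) z = z ∧ (MulAut.conj d * α2) t = t) ∨
        ((MulAut.conj d * α2) z = z * x ^ 2 ∧ (MulAut.conj d * α2) t = t ^ 2)) by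
    obtain ⟨d, hd⟩ := H
    refine ⟨d * c2 * c1, ?_⟩
    rw [hred]; exact hd
  have hx := h2 x σ.xK
  have hy := h2 y σ.yK
  have h3 : ∀ w : G, (MulAut.conj (1 : G) * α2) w = α2 w := by
    intro w
    rw [map_one, one_mul]
  have hA : ∀ w : G, (MulAut.conj (x ^ 2) * α2) w = x ^ 2 * α2 w * (x ^ 2)⁻¹ := fun w => rfl
  have hxA : x ^ 2 * x * (x ^ 2)⁻¹ = x := by group
  have hyA : x ^ 2 * y * (x ^ 2)⁻¹ = y := by rw [← A_y σ.rA, mul_inv_cancel_right]
  have hzA : x ^ 2 * z * (x ^ 2)⁻¹ = z := by rw [← A_z σ.rA, mul_inv_cancel_right]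
  obtain ⟨m, hm, ht⟩ := σ.step4 hπ hQ h2
  have hrel : (α2 z * α2 t) ^ 3 = 1 := by rw [← map_mul, ← map_pow, σ.rB.2.2.2, map_one]
  have h5 := σ.rB.1
  have p8 : t ^ 8 = t ^ 3 := by
    calc t ^ 8 = t ^ 5 * t ^ 3 := by rw [← pow_add]
      _ = t ^ 3 := by rw [h5, one_mul]
  have p3i : (t ^ 3)⁻¹ = t ^ 2 := by
    rw [inv_eq_iff_mul_eq_one, ← pow_add]; exact h5
  have p4i : (t ^ 4)⁻¹ = t := by
    rw [inv_eq_iff_mul_eq_one, ← pow_succ]; exact h5
  rcases σ.step3 hπ hQ h2 with hz | hz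
  · rw [hz, ht] at hrel
    interval_cases m
    · refine ⟨1, ?_, ?_, Or.inl ⟨?_, ?_⟩⟩
      · rw [h3, hx]
      · rw [h3, hy]
      · rw [h3, hz]
      · rw [h3, ht]; norm_num
    · exact absurd hrel (no_two σ.rA σ.rB σ.t_ne)
    · refine ⟨x ^ 2, ?_, ?_, Or.inl ⟨?_, ?_⟩⟩
      · rw [hA, hx, hxA]
      · rw [hA, hy, hyA]
      · rw [hA, hz, hzA]
      · rw [hA, ht, A_t' σ.rA σ.rB]; exact p4i
    · have h8 : t ^ 2 ^ 3 = t ^ 3 := p8
      rw [h8] at hrel
      exact absurd hrel (no_three σ.rA σ.rB σ.t_ne)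
  · rw [hz, ht] at hrel
    have hrel2 : (z * t ^ (2 * 2 ^ m)) ^ 3 = 1 := by
      have e1 : z * t ^ (2 * 2 ^ m) = x * (z * x ^ 2 * t ^ 2 ^ m) * x⁻¹ := by
        calc z * t ^ (2 * 2 ^ m) = (x * (z * x ^ 2) * x⁻¹) * (x * t ^ 2 ^ m * x⁻¹) := by rw [x_zA σ.rA, x_t σ.rB]
          _ = _ := by group
      rw [e1, conj_pow, hrel]; group
    interval_cases m
    · exact absurd hrel2 (no_two σ.rA σ.rB σ.t_ne)
    · refine ⟨1, ?_, ?_, Or.inr ⟨?_, ?_⟩⟩
      · rw [h3, hx]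
      · rw [h3, hy]
      · rw [h3, hz]
      · rw [h3, ht]; norm_num
    · have h8 : t ^ (2 * 2 ^ 2) = t ^ 3 := p8
      rw [h8] at hrel2
      exact absurd hrel2 (no_three σ.rA σ.rB σ.t_ne)
    · refine ⟨x ^ 2, ?_, ?_, Or.inr ⟨?_, ?_⟩⟩
      · rw [hA, hx, hxA]
      · rw [hA, hy, hyA]
      · rw [hA, hz]
        calc x ^ 2 * (z * x ^ 2) * (x ^ 2)⁻¹ = x ^ 2 * z := by group
          _ = z * x ^ 2 := (A_z σ.rA).symm
      · have h8 : t ^ 2 ^ 3 = t ^ 3 := p8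
        rw [hA, ht, h8, A_t' σ.rA σ.rB]; exact p3i

/-- the outer automorphism is not inner -/
theorem not_inner {β : MulAut G} (hx : β x = x) (hy : β y = y) (hz : β z = z * x ^ 2) : β ∉ Cfsg.Inn G := by
  rintro ⟨g, hg⟩
  have hA : β (x ^ 2) = x ^ 2 := by rw [map_pow, hx]
  have key : ∀ h ∈ closure ({x, y, z} : Set G), h ∈ H ∧ (h ∈ K → β h = h) ∧ (h ∉ K → β h = h * x ^ 2) := by
    intro h hh
    induction hh using closure_induction with
    | mem a ha =>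
      rcases ha with rfl | rfl | rfl
      · exact ⟨σ.xH, fun _ => hx, fun h => absurd σ.xK h⟩
      · exact ⟨σ.yH, fun _ => hy, fun h => absurd σ.yK h⟩
      · exact ⟨σ.zH, fun h => absurd h σ.zK, fun _ => hz⟩
    | one => exact ⟨one_mem _, fun _ => map_one β, fun h => absurd (one_mem _) h⟩
    | mul a b _ _ ha hb =>
      obtain ⟨a1, a2, a3⟩ := ha
      obtain ⟨b1, b2, b3⟩ := hb
      have hk := σ.Kmul a a1 b b1
      refine ⟨mul_mem a1 b1, fun h => ?_, fun h => ?_⟩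
      · rw [hk] at h
        by_cases hak : a ∈ K
        · rw [map_mul, a2 hak, b2 (h.1 hak)]
        · have hbk : b ∉ K := fun h' => hak (h.2 h')
          rw [map_mul, a3 hak, b3 hbk]
          calc a * x ^ 2 * (b * x ^ 2) = a * (x ^ 2 * b) * x ^ 2 := by group
            _ = a * b * (x ^ 2 * x ^ 2) := by rw [← σ.cenA b b1]; group
            _ = a * b := by rw [A_sq σ.rA, mul_one]
      · rw [hk] at h
        by_cases hak : a ∈ K
        · have hbk : b ∉ K := fun h' => h ⟨fun _ => h', fun _ => hak⟩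
          rw [map_mul, a2 hak, b3 hbk]; group
        · have hbk : b ∈ K := by
            by_contra h'
            exact h ⟨fun h'' => absurd h'' hak, fun h'' => absurd h'' h'⟩
          rw [map_mul, a3 hak, b2 hbk]
          calc a * x ^ 2 * b = a * (x ^ 2 * b) := by group
            _ = a * b * x ^ 2 := by rw [← σ.cenA b b1]; group
    | inv a _ ha =>
      obtain ⟨a1, a2, a3⟩ := ha
      refine ⟨inv_mem a1, fun h => ?_, fun h => ?_⟩
      · rw [map_inv, a2 (inv_mem_iff.1 h)]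
      · have hak : a ∉ K := fun h' => h (inv_mem h')
        rw [map_inv, a3 hak, mul_inv_rev, A_inv σ.rA, σ.cenA _ (inv_mem a1)]
  have hfix : ∀ k ∈ K, β k = k := by
    intro k hk
    have hk' := σ.KH hk
    rw [σ.hH] at hk'
    exact (key k hk').2.1 hk
  have hg' : ∀ k, β k = g * k * g⁻¹ := fun k => by rw [← hg]; rfl
  have hcomm : ∀ k ∈ K, g * k = k * g := by
    intro k hk
    have h1 := hfix k hk
    rw [hg'] at h1
    exact mul_inv_eq_iff_eq_mul.1 h1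
  have hgH : g ∈ H := σ.centA (hcomm _ (pow_mem σ.xK 2))
  have hgz : g * z = z * g := by
    rcases σ.cent_K' hπ hQ hgH hcomm with h | h
    · rw [h, one_mul, mul_one]
    · rw [h]; exact (A_z σ.rA).symm
  have h1 : z * x ^ 2 = z := by
    rw [← hz, hg', hgz, mul_inv_cancel_right]
  exact σ.A_ne (mul_eq_left.1 h1)

/-- the outer automorphism group -/
theorem out_two {β : MulAut G} (hx : β x = x) (hy : β y = y) (hz : β z = z * x ^ 2) (ht : β t = t ^ 2) :
    Nat.card (Cfsg.Out G) = 2 := by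
  have hni := σ.not_inner hπ hQ hx hy hz
  -- automorphisms are determined by the generators
  have hext : ∀ α γ : MulAut G, α x = γ x → α y = γ y → α z = γ z → α t = γ t → α = γ := by
    intro α γ e1 e2 e3 e4
    have h1 : (⊤ : Subgroup G) ≤ α.toMonoidHom.eqLocus γ.toMonoidHom := by
      rw [← σ.top, closure_le]
      rintro a (rfl | rfl | rfl | rfl)
      · exact e1
      · exact e2
      · exact e3
      · exact e4
    ext g
    exact h1 (mem_top g)
  have hββ : β * β ∈ Cfsg.Inn G := by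
    refine ⟨x ^ 2, ?_⟩
    apply hext
    · show x ^ 2 * x * (x ^ 2)⁻¹ = β (β x)
      rw [hx, hx]; group
    · show x ^ 2 * y * (x ^ 2)⁻¹ = β (β y)
      rw [hy, hy, ← A_y σ.rA, mul_inv_cancel_right]
    · show x ^ 2 * z * (x ^ 2)⁻¹ = β (β z)
      rw [hz, map_mul, hz, map_pow, hx, mul_assoc z, A_sq σ.rA, mul_one, ← A_z σ.rA, mul_inv_cancel_right]
    · show x ^ 2 * t * (x ^ 2)⁻¹ = β (β t)
      have h1 := A_t' σ.rA σ.rB 1
      rw [pow_one] at h1
      rw [ht, map_pow, ht, ← pow_mul, h1, inv_eq_iff_mul_eq_one, ← pow_succ']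
      exact σ.rB.1
  show (Cfsg.Inn G).index = 2
  rw [Subgroup.index_eq_two_iff]
  refine ⟨β, fun b => ?_⟩
  have hinn : ∀ g : G, MulAut.conj g ∈ Cfsg.Inn G := fun g => ⟨g, rfl⟩
  obtain ⟨g, g1, g2, g3⟩ := σ.step5 hπ hQ b
  rcases g3 with ⟨g3, g4⟩ | ⟨g3, g4⟩
  · right
    have hb : MulAut.conj g * b = 1 := hext _ _ g1 g2 g3 g4
    have hb' : b = (MulAut.conj g)⁻¹ := by rw [← mul_eq_one_iff_eq_inv', hb]
    have hbi : b ∈ Cfsg.Inn G := by rw [hb']; exact inv_mem (hinn g)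
    refine ⟨hbi, fun h => hni ?_⟩
    exact (mul_mem_cancel_left hbi).1 h
  · left
    have hb : MulAut.conj g * b = β := hext _ _ (by rw [g1, hx]) (by rw [g2, hy]) (by rw [g3, hz]) (by rw [g4, ht])
    have hb' : b = (MulAut.conj g)⁻¹ * β := by rw [← hb, inv_mul_cancel_left]
    refine ⟨?_, ?_⟩
    · rw [hb', mul_assoc]
      exact mul_mem (inv_mem (hinn g)) hββ
    · intro h
      rw [hb'] at h
      exact hni ((mul_mem_cancel_left (inv_mem (hinn g))).1 h)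

end

end Sit

end Cfsg.Agent.Lib.HNOutB
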