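import Cfsg.Agent.Lib.LeechOutH

/-!
The outer automorphism group of `HS`: conclusion.
-/

set_option autoImplicit false

namespace Cfsg.Agent.Lib.LeechSyl

open Cfsg Cfsg.Agent.Lib.Golay Cfsg.Agent.Lib.LeechMin Cfsg.Agent.Lib.GolayCoset Cfsg.Agent.Lib.LeechXi
  Cfsg.Agent.Lib.LeechTrans Cfsg.Agent.Lib.LeechCo2 Cfsg.Agent.Lib.LeechFrame Cfsg.Agent.Lib.LeechCount
  Cfsg.Agent.Lib.LeechOrder Cfsg.Agent.Lib.LeechMod Cfsg.Agent.Lib.LeechQuot Cfsg.Agent.Lib.LeechChain
open Subgroup
open scoped Pointwise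

theorem smul_sub' (g : Co0) (v w : leechLattice) : g • (v - w) = g • v - g • w := by
  rw [sub_eq_add_neg, smul_add', smul_neg', ← sub_eq_add_neg]

/-- a permutation interchanging the two distinguished points -/
theorem swap_exists : ∃ T : Co0, T • U none = U none - S hab ∧ T • S hab = -S hab := by
  obtain ⟨t, ht, t1, t2⟩ := exists_two (a := none) (b := b0) (a' := b0) (b' := none) hab hab.symm
  have ts1 : t.symm none = b0 := by rw [Equiv.symm_apply_eq, t2]
  have ts2 : t.symm b0 = none := by rw [Equiv.symm_apply_eq, t1]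
  refine ⟨peH ⟨t, ht⟩, ?_, ?_⟩
  · apply Subtype.ext
    rw [peH_smul]
    funext i
    show (U none : GolayPt → ℤ) (t.symm i) = (U none : GolayPt → ℤ) i - (S hab : GolayPt → ℤ) i
    by_cases h1 : i = none
    · rw [h1, ts1]
      show (U none : GolayPt → ℤ) (some 0) = _
      rw [U_some, U_none, S_none]; norm_num
    by_cases h2 : i = b0
    · rw [h2, ts2]
      show _ = (U none : GolayPt → ℤ) (some 0) - _
      rw [U_some, U_none, S_b0]; norm_num
    have h3 : t.symm i ≠ none := fun h => h2 (by rw [Equiv.symm_apply_eq, t1] at h; exact h)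
    rw [coe_S, Pi.sub_apply, Pi.single_eq_of_ne h1, Pi.single_eq_of_ne h2]
    obtain ⟨j, hj⟩ := Option.ne_none_iff_exists'.1 h3
    obtain ⟨j', hj'⟩ := Option.ne_none_iff_exists'.1 h1
    rw [hj, hj', U_some, U_some]; norm_num
  · apply Subtype.ext
    rw [peH_smul]
    funext i
    show (S hab : GolayPt → ℤ) (t.symm i) = ((-S hab : leechLattice) : GolayPt → ℤ) i
    rw [coe_neg', Pi.neg_apply]
    by_cases h1 : i = none
    · rw [h1, ts1, S_none, S_b0]
    by_cases h2 : i = b0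
    · rw [h2, ts2, S_none, S_b0]; norm_num
    have h3 : t.symm i ≠ none := fun h => h2 (by rw [Equiv.symm_apply_eq, t1] at h; exact h)
    have h4 : t.symm i ≠ b0 := fun h => h1 (by rw [Equiv.symm_apply_eq, t2] at h; exact h)
    rw [coe_S, Pi.sub_apply, Pi.sub_apply, Pi.single_eq_of_ne h3, Pi.single_eq_of_ne h4, Pi.single_eq_of_ne h1,
      Pi.single_eq_of_ne h2]; norm_num

theorem conj_HS {T : Co0} (h1 : T • U none = U none - S hab) (h2 : T • S hab = -S hab) (g : Co0) :
    g ∈ fixL [U none, S hab] ↔ T * g * T⁻¹ ∈ fixL [U none, S hab] := by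
  have e1 : T • (U none - S hab) = U none := by rw [smul_sub', h1, h2]; abel
  have e2 : T • (-S hab) = S hab := by rw [smul_neg', h2, neg_neg]
  rw [mem_fix2, mem_fix2, conj_fix e1, conj_fix e2, smul_sub', smul_neg']
  constructor
  · rintro ⟨h3, h4⟩
    rw [h3, h4]; exact ⟨rfl, rfl⟩
  · rintro ⟨h3, h4⟩
    have h5 := neg_injective h4
    rw [h5] at h3
    exact ⟨sub_left_injective h3, h5⟩

theorem out_HS : Nat.card (Out GHS) = 2 := by
  obtain ⟨T, hT1, hT2⟩ := swap_exists
  let τ : MulAut GHS := conjEquiv T _ _ (conj_HS hT1 hT2)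
  have hτ : ∀ g : GHS, ((τ g : GHS) : Co0) = T * g * T⁻¹ := fun g => rfl
  refine card_out_eq_two (fun β => β (fH tq) = fH tq ∧ β (fH tr) = fH tr)
    (fun β => β (fH tq) = (fH tq)⁻¹ ∧ β (fH tr) = fH tr) ?_ ?_ ?_ τ ?_
  · intro α
    exact step_A22 (q := fH tq) (r := fH tr) (by rw [orderOf_injective fH fH_inj, orderOf_tq])
      (by rw [← map_inv, ← map_mul, ← map_mul, tr_tq, map_pow]) (by rw [← map_pow, tr_pow, map_one])
      (by rw [card_GHS]; norm_num) (fun g hg => cent_tq fH fH_inj fH_norm hg) α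
  · rintro β ⟨h1, h2⟩
    exact HS_trivial β h1 h2
  · rintro β γ ⟨h1, h2⟩ ⟨h3, h4⟩
    refine ⟨?_, ?_⟩
    · rw [MulAut.mul_apply, h1, map_inv, h3, inv_inv]
    · rw [MulAut.mul_apply, h2, h4]
  · rintro ⟨h, hh⟩
    have h1 : ∀ g : GHS, (h : Co0) * g * (h : Co0)⁻¹ = T * g * T⁻¹ := by
      intro g
      rw [← hτ, ← hh]; rfl
    have h2 : (h : Co0)⁻¹ * T = 1 ∨ (h : Co0)⁻¹ * T = negOne := by
      apply cent_M22
      intro g hg
      have h3 := h1 ⟨g, hsH_M22 hg⟩
      have h4 : (h : Co0) * g * (h : Co0)⁻¹ = T * g * T⁻¹ := h3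
      have h5 : T * g = (h : Co0) * g * (h : Co0)⁻¹ * T := by rw [h4]; group
      rw [mul_assoc, h5]; group
    have hU := (mem_fix2.1 h.2).1
    have hn : (U none - S hab : leechLattice) ≠ U none ∧ (U none - S hab : leechLattice) ≠ -U none := by
      have e1 : ((U none - S hab : leechLattice) : GolayPt → ℤ) none = 1 := by
        show (U none : GolayPt → ℤ) none - (S hab : GolayPt → ℤ) none = 1
        rw [U_none, S_none]; norm_num
      refine ⟨fun h6 => ?_, fun h6 => ?_⟩
      · rw [h6, U_none] at e1; norm_num at e1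
      · rw [h6, coe_neg', Pi.neg_apply, U_none] at e1; norm_num at e1
    rcases h2 with h2 | h2
    · rw [inv_mul_eq_one] at h2
      rw [← h2, hU] at hT1
      exact hn.1 hT1.symm
    · have h3 : T = (h : Co0) * negOne := by rw [← h2, mul_inv_cancel_left]
      rw [h3, mul_smul, negOne_smul, smul_neg', hU] at hT1
      exact hn.2 hT1.symm

/-- stabilisers of two vectors inside the lattice automorphisms -/
noncomputable def stab2Equiv (v w : leechLattice) :
    ↥((Co0 ⊓ MulAction.stabilizer (Equiv.Perm leechLattice) v) ⊓ MulAction.stabilizer (Equiv.Perm leechLattice) w) ≃*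
      ↥(MulAction.stabilizer Co0 v ⊓ MulAction.stabilizer Co0 w) where
  toFun g := ⟨⟨g.1, g.2.1.1⟩, g.2.1.2, g.2.2⟩
  invFun g := ⟨g.1.1, ⟨g.1.2, g.2.1⟩, g.2.2⟩
  left_inv _ := rfl
  right_inv _ := rfl
  map_mul' _ _ := rfl

theorem spor_HS : Nat.card (Out Spor.HS) = 2 := by
  have h1 : sqNorm (Spor.leechU' : GolayPt → ℤ) = 32 := by
    show sqNorm Spor.vecU' = 32
    decide +kernel
  have h2 : -Spor.leechV ∈ cls [(Spor.leechU', 16)] 48 := by
    rw [mem_cls1]
    constructor
    · show sqNorm (-Spor.vecV) = 48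
      decide +kernel
    · show dotInt Spor.vecU' (-Spor.vecV) = 16
      decide +kernel
  obtain ⟨k, hk1, hk2⟩ := stdHS h1 h2
  have e : ↥(MulAction.stabilizer Co0 Spor.leechV ⊓ MulAction.stabilizer Co0 Spor.leechU') ≃* GHS :=
    conjEquiv k _ _ (by
      intro g
      rw [mem_fix2, conj_fix hk1, conj_fix hk2, Subgroup.mem_inf, MulAction.mem_stabilizer_iff, MulAction.mem_stabilizer_iff,
        smul_neg']
      constructor
      · rintro ⟨h3, h4⟩
        exact ⟨by rw [h3], h4⟩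
      · rintro ⟨h3, h4⟩
        exact ⟨neg_injective h3, h4⟩)
  rw [← out_HS]
  exact Cfsg.Agent.Lib.H58J2.out_congr ((stab2Equiv Spor.leechV Spor.leechU').trans e)

end Cfsg.Agent.Lib.LeechSyl
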