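import Cfsg.Agent.Lib.HNOutE
import Cfsg.Agent.Lib.LeechOutH2

/-! Facts on the Higman-Sims group. -/

set_option autoImplicit false

namespace Cfsg.Agent.Lib.HNOutH

open Cfsg Cfsg.Agent.Lib.Golay Cfsg.Agent.Lib.LeechMin Cfsg.Agent.Lib.GolayCoset Cfsg.Agent.Lib.LeechXi
  Cfsg.Agent.Lib.LeechTrans Cfsg.Agent.Lib.LeechCo2 Cfsg.Agent.Lib.LeechFrame Cfsg.Agent.Lib.LeechCount
  Cfsg.Agent.Lib.LeechOrder Cfsg.Agent.Lib.LeechMod Cfsg.Agent.Lib.LeechQuot Cfsg.Agent.Lib.LeechChain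
  Cfsg.Agent.Lib.LeechSyl
open Subgroup

/-- the lattice version of the group -/
theorem spor_equiv : Nonempty (↥Spor.HS ≃* GHS) := by
  have h1 : sqNorm (Spor.leechU' : GolayPt → ℤ) = 32 := by
    show sqNorm Spor.vecU' = 32
    decide +kernel
  have h2 : -Spor.leechV ∈ cls [(Spor.leechU', 16)] 48 := by
    rw [mem_cls1]
    constructor
    · show sqNorm (-Spor.vecV) = 48
      decide +kernel
    · show dotInt Spor.vecU' (-Spor.vecV) = 16
      decide +kernel
  obtain ⟨k, hk1, hk2⟩ := stdHS h1 h2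
  have e : ↥(MulAction.stabilizer Co0 Spor.leechV ⊓ MulAction.stabilizer Co0 Spor.leechU') ≃* GHS :=
    conjEquiv k _ _ (by
      intro g
      rw [mem_fix2, conj_fix hk1, conj_fix hk2, Subgroup.mem_inf, MulAction.mem_stabilizer_iff, MulAction.mem_stabilizer_iff,
        smul_neg']
      constructor
      · rintro ⟨h3, h4⟩
        exact ⟨by rw [h3], h4⟩
      · rintro ⟨h3, h4⟩
        exact ⟨neg_injective h3, h4⟩)
  exact ⟨(stab2Equiv Spor.leechV Spor.leechU').trans e⟩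

/-- the element of order eleven -/
theorem conj_q {g : GHS} (hg : orderOf g = 11) : ∃ c : GHS, ∀ y, y ∈ zpowers g ↔ c * y * c⁻¹ ∈ zpowers (fH tq) := by
  have : Fact (Nat.Prime 11) := ⟨by norm_num⟩
  exact AutSyl.exists_conj (P := zpowers g) (P' := zpowers (fH tq)) (p := 11)
    (by rw [Nat.card_zpowers, hg]) (by rw [Nat.card_zpowers, orderOf_injective fH fH_inj, orderOf_tq])
    (by rw [card_GHS]; norm_num)

theorem hslike : HNOutB.HSlike GHS := by
  have : Fact (Nat.Prime 11) := ⟨by norm_num⟩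
  have hq11 : orderOf (fH tq) = 11 := by rw [orderOf_injective fH fH_inj, orderOf_tq]
  have hcq : Nat.card (zpowers (fH tq)) = 11 := by rw [Nat.card_zpowers, hq11]
  have gen : ∀ w : GHS, w ∈ zpowers (fH tq) → w ≠ 1 → fH tq ∈ zpowers w := by
    intro w hw hw1
    have h3 : (⟨fH tq, mem_zpowers _⟩ : zpowers (fH tq)) ∈ zpowers (⟨w, hw⟩ : zpowers (fH tq)) := by
      apply mem_zpowers_of_prime_card (p := 11) hcq
      intro h; exact hw1 (congrArg Subtype.val h)
    obtain ⟨m, hm⟩ := mem_zpowers_iff.1 h3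
    exact mem_zpowers_iff.2 ⟨m, congrArg Subtype.val hm⟩
  refine ⟨?_, ?_, out_HS⟩
  · intro g hg k hk
    obtain ⟨c, hc⟩ := conj_q hg
    rw [hc]
    apply cent_tq fH fH_inj fH_norm
    have h1 : fH tq ∈ zpowers (c * g * c⁻¹) := by
      apply gen _ ((hc g).1 (mem_zpowers g))
      intro h
      have : g = 1 := by
        calc g = c⁻¹ * (c * g * c⁻¹) * c := by group
          _ = 1 := by rw [h]; group
      rw [this, orderOf_one] at hg
      norm_num at hg
    obtain ⟨m, hm⟩ := mem_zpowers_iff.1 h1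
    rw [← hm]
    have h2 : Commute (c * k * c⁻¹) (c * g * c⁻¹) := by
      show c * k * c⁻¹ * (c * g * c⁻¹) = c * g * c⁻¹ * (c * k * c⁻¹)
      calc c * k * c⁻¹ * (c * g * c⁻¹) = c * (k * g) * c⁻¹ := by group
        _ = c * (g * k) * c⁻¹ := by rw [hk]
        _ = _ := by group
    exact (h2.zpow_right m).eq
  · intro β g hg hβ
    obtain ⟨c, hc⟩ := conj_q hg
    obtain ⟨δ, hδ⟩ : ∃ δ, δ = MulAut.conj c * β * (MulAut.conj c)⁻¹ := ⟨_, rfl⟩
    have hδ' : ∀ w, δ w = c * β (c⁻¹ * w * c) * c⁻¹ := by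
      intro w
      rw [hδ]
      show c * β ((MulAut.conj c)⁻¹ w) * c⁻¹ = _
      rw [MulAut.conj_inv_apply]
    have hδg : δ (c * g * c⁻¹) = c * g * c⁻¹ := by
      rw [hδ']
      have : c⁻¹ * (c * g * c⁻¹) * c = g := by group
      rw [this, hβ]
    have h1 : fH tq ∈ zpowers (c * g * c⁻¹) := by
      apply gen _ ((hc g).1 (mem_zpowers g))
      intro h
      have : g = 1 := by
        calc g = c⁻¹ * (c * g * c⁻¹) * c := by group
          _ = 1 := by rw [h]; group
      rw [this, orderOf_one] at hg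
      norm_num at hg
    have hδq : δ (fH tq) = fH tq := by
      obtain ⟨m, hm⟩ := mem_zpowers_iff.1 h1
      rw [← hm, map_zpow, hδg]
    obtain ⟨q, hq⟩ : ∃ q, q = fH tq := ⟨_, rfl⟩
    obtain ⟨r, hr⟩ : ∃ r, r = fH tr := ⟨_, rfl⟩
    have hqr : r * q * r⁻¹ = q ^ 3 := by
      rw [hq, hr, ← map_inv, ← map_mul, ← map_mul, tr_tq, map_pow]
    have hq1 : q ^ 11 = 1 := by rw [hq, ← hq11, pow_orderOf_eq_one]
    rw [← hq] at hδq
    -- the image of `r`
    have h2 : (r⁻¹ * δ r) * q = q * (r⁻¹ * δ r) := by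
      have h3 := congrArg δ hqr
      rw [map_mul, map_mul, map_inv, map_pow, hδq] at h3
      calc (r⁻¹ * δ r) * q = r⁻¹ * (δ r * q * (δ r)⁻¹) * δ r := by group
        _ = r⁻¹ * (r * q * r⁻¹) * δ r := by rw [h3, hqr]
        _ = q * (r⁻¹ * δ r) := by group
    have h3 : r⁻¹ * δ r ∈ zpowers q := by
      rw [hq] at h2 ⊢
      exact cent_tq fH fH_inj fH_norm h2
    have hfin : IsOfFinOrder q := by rw [← orderOf_pos_iff, hq, hq11]; norm_num
    rw [← hfin.mem_powers_iff_mem_zpowers] at h3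
    obtain ⟨i, hi⟩ := h3
    have hi' : δ r = r * q ^ i := by
      have : q ^ i = r⁻¹ * δ r := hi
      rw [this, mul_inv_cancel_left]
    -- conjugate by a power of `q`
    have hrj : r⁻¹ * q * r = q ^ 4 := by
      have h4 : r⁻¹ * q ^ 3 * r = q := by rw [← hqr]; group
      have h5 : q = (q ^ 3) ^ 4 := by
        rw [← pow_mul]
        calc q = q ^ 11 * q := by rw [hq1, one_mul]
          _ = q ^ (3 * 4) := by rw [← pow_succ]
      calc r⁻¹ * q * r = r⁻¹ * (q ^ 3) ^ 4 * r := by rw [← h5]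
        _ = (r⁻¹ * q ^ 3 * r) ^ 4 := by rw [HNMulB.conj_pow']
        _ = q ^ 4 := by rw [h4]
    have hrn : ∀ n : ℕ, q ^ n * r = r * q ^ (4 * n) := by
      intro n
      have h4 : r⁻¹ * q ^ n * r = q ^ (4 * n) := by rw [← HNMulB.conj_pow', hrj, ← pow_mul]
      rw [← h4]; group
    let j := 4 * i
    have hj : q ^ j * r * (q ^ j)⁻¹ = r * q ^ i := by
      rw [hrn, mul_assoc]
      congr 1
      rw [mul_inv_eq_iff_eq_mul, ← pow_add]
      have h4 : 4 * j = i + j + 11 * i := by simp only [j]; ring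
      rw [h4, pow_add, pow_mul, hq1, one_pow, mul_one]
    have h5 : (MulAut.conj (q ^ j))⁻¹ * δ = 1 := by
      apply HS_trivial
      · show (MulAut.conj (q ^ j))⁻¹ (δ (fH tq)) = fH tq
        rw [← hq, hδq, MulAut.conj_inv_apply]
        group
      · show (MulAut.conj (q ^ j))⁻¹ (δ (fH tr)) = fH tr
        rw [← hr, hi', ← hj, MulAut.conj_inv_apply]
        group
    have h6 : δ = MulAut.conj (q ^ j) := (inv_mul_eq_one.1 h5).symm
    refine ⟨c⁻¹ * q ^ j * c, ?_, ?_⟩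
    · rw [hc]
      have : c * (c⁻¹ * q ^ j * c) * c⁻¹ = q ^ j := by group
      rw [this, hq]
      exact pow_mem (mem_zpowers _) j
    · intro k
      have h7 : δ (c * k * c⁻¹) = q ^ j * (c * k * c⁻¹) * (q ^ j)⁻¹ := by rw [h6]; rfl
      rw [hδ'] at h7
      have h8 : c⁻¹ * (c * k * c⁻¹) * c = k := by group
      rw [h8] at h7
      calc β k = c⁻¹ * (c * β k * c⁻¹) * c := by group
        _ = _ := by rw [h7]; group

end Cfsg.Agent.Lib.HNOutH
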