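import Cfsg.Agent.Lib.HNMain
import Cfsg.Agent.Lib.HNOutB

/-!
# The Harada-Norton group: points and stabilisers of the double coset enumeration
-/

set_option autoImplicit false
set_option linter.all false
set_option maxRecDepth 100000

namespace Cfsg.Agent.Lib.HNOutI

open Cfsg.Spor Cfsg.Agent.Lib.Dce Cfsg.Agent.Lib.BenesWord Cfsg.Agent.Lib.CosetGroup Cfsg.Agent.Lib.CoxBridge
open Cfsg.Agent.Lib.HNT Cfsg.Agent.Lib.HNU Cfsg.Agent.Lib.HNPH
open Cfsg.Agent.Lib.HNPL (swap_inv)

section up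

variable {P : Type*} [Group P] {xs : ℕ → P} {φ : P →* Equiv.Perm ℕ} {tab : ℕ → ℕ} {L m : ℕ} {base : List ℕ}
variable {G : Type*} [Group G] {ph phI : List (ℕ × ℕ)} {iv : ℕ → ℕ}
variable (hact : ∀ c < L, ∀ i < m, φ (xs c) i = look (tab c) i) (hlt : ∀ c < L, ∀ i < m, look (tab c) i < m)
  (hbase : ∀ b ∈ base, b < m) (hfaith : ∀ g, (∀ b ∈ base, φ g b = b) → g = 1)
include hact hlt hbase hfaith

/-- the points -/
theorem upper_pts [Finite P] (ψ : P →* G) (t : G) (K0 : Subgroup G)
    (hph : ∀ p ∈ ph, t * ψ (xs p.1) = ψ (xs p.2) * t) (hI : ∀ p ∈ phI, (p.2, p.1) ∈ ph)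
    {rels : List (List Tok)} (hrels : ∀ r ∈ rels, seqG xs ψ t r = 1) {n0 : ℕ}
    (hiv : ∀ c < n0, xs (iv c) = (xs c)⁻¹) (hn0 : ∀ r ∈ rels, r.all (tokL n0) = true)
    (hgen : ∀ K : Subgroup G, (∀ p, ψ p ∈ K) → t ∈ K → K = ⊤)
    {init : List ℕ} (hK0 : ∀ s ∈ init, ψ (xs s) ∈ K0)
    {ds : List (ℕ × List ℕ × Bool)} (hds : defOk 0 ds = true) {its : List Item} {st : St}
    (hrun : run tab L base ph phI iv rels ⟨defEdges 0 ds, init.map (fun s => (0, s))⟩ its = some st)
    {k pt mo : ℕ} (hk : 0 < k) (hj : jOk k st.edges = true)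
    (hpt : pt < mo) (hm : ∀ g i, i < mo → φ g i < mo) (hcov : ∀ i < k, ∀ q < mo, Good xs φ mo st pt i q)
    (hB : ∀ g, φ g pt = pt → g ∈ Bs xs ph) :
    ∃ c : ℕ → G ⧸ K0, c 0 = ((1 : G) : G ⧸ K0) ∧ (∀ n (h : n < ds.length), c (n + 1) =
      (bif (ds[n]).2.2 then (MulAction.toPermHom G (G ⧸ K0) t)⁻¹ else MulAction.toPermHom G (G ⧸ K0) t)
        (ψ (ev xs (ds[n]).2.1) • (c (ds[n]).1))) ∧ (∀ i, ∀ g ∈ Sg xs st.stab i, ψ g • c i = c i) ∧
      ∀ y, ∃ p i, i < k ∧ y = ψ p • c i := by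
  have hds' := defOk_spec hds
  obtain ⟨c, hc0, hc⟩ := exists_c xs ((MulAction.toPermHom G (G ⧸ K0)).comp ψ) (MulAction.toPermHom G (G ⧸ K0) t)
    ((1 : G) : G ⧸ K0) ds (fun n h => by have := hds' n h; omega)
  have hinv : Inv xs ((MulAction.toPermHom G (G ⧸ K0)).comp ψ) (MulAction.toPermHom G (G ⧸ K0) t) c
      ⟨defEdges 0 ds, init.map (fun s => (0, s))⟩ := by
    refine ⟨defEdges_spec 0 ds (fun j hj' => by rw [zero_add]; exact hc j hj'), ?_⟩
    intro p hp
    obtain ⟨s, hs, rfl⟩ := List.mem_map.mp hp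
    show (MulAction.toPermHom G (G ⧸ K0)) (ψ (xs s)) (c 0) = c 0
    rw [hc0]
    show ψ (xs s) • ((1 : G) : G ⧸ K0) = ((1 : G) : G ⧸ K0)
    rw [MulAction.Quotient.smul_coe, smul_eq_mul, mul_one]
    exact QuotientGroup.eq.mpr (by simpa using hK0 s hs)
  have hph' : ∀ p ∈ ph, MulAction.toPermHom G (G ⧸ K0) t * ((MulAction.toPermHom G (G ⧸ K0)).comp ψ) (xs p.1) =
      ((MulAction.toPermHom G (G ⧸ K0)).comp ψ) (xs p.2) * MulAction.toPermHom G (G ⧸ K0) t := by
    intro p hp
    simp only [MonoidHom.comp_apply, ← map_mul, hph p hp]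
  have hphI' : ∀ p ∈ phI, (MulAction.toPermHom G (G ⧸ K0) t)⁻¹ * ((MulAction.toPermHom G (G ⧸ K0)).comp ψ) (xs p.1) =
      ((MulAction.toPermHom G (G ⧸ K0)).comp ψ) (xs p.2) * (MulAction.toPermHom G (G ⧸ K0) t)⁻¹ := by
    intro p hp
    have := hph' _ (hI p hp)
    simp only at this
    rw [inv_mul_eq_iff_eq_mul, ← mul_assoc, this, mul_inv_cancel_right]
  have hst := run_sound hact hlt hbase hfaith hph' hphI' (rels := rels) (fun r hr => by
    rw [seqP_seqG, hrels r hr, map_one]) hiv hn0 hinv hrun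
  have hs := surj (k := k) hst hph' hm hpt hcov hB (fun E hE => (jOk_spec hj E hE).2) hk (by
    intro S h0 hP hT hTi y
    obtain ⟨g, rfl⟩ := QuotientGroup.mk_surjective y
    let K : Subgroup G :=
      { carrier := {g | (∀ y ∈ S, g • y ∈ S) ∧ ∀ y ∈ S, g⁻¹ • y ∈ S}
        one_mem' := by simp
        mul_mem' := by
          rintro a b ⟨ha, ha'⟩ ⟨hb, hb'⟩
          exact ⟨fun y hy => by rw [mul_smul]; exact ha _ (hb _ hy), fun y hy => by rw [mul_inv_rev, mul_smul]; exact hb' _ (ha' _ hy)⟩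
        inv_mem' := by
          rintro a ⟨ha, ha'⟩
          exact ⟨ha', fun y hy => by rw [inv_inv]; exact ha y hy⟩ }
    have hK : K = ⊤ := hgen K (fun p => ⟨fun y hy => hP p y hy, fun y hy => by
      rw [← map_inv]; exact hP p⁻¹ y hy⟩) ⟨fun y hy => hT y hy, fun y hy => by
      have := hTi y hy
      rwa [← map_inv] at this⟩
    have hg : g ∈ K := by rw [hK]; trivial
    have := hg.1 (c 0) h0
    rw [hc0] at this
    have h3 : g • ((1 : G) : G ⧸ K0) = (g : G ⧸ K0) := by
      rw [MulAction.Quotient.smul_coe, smul_eq_mul, mul_one]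
    rwa [h3] at this)
  exact ⟨c, hc0, hc, fun i g hg => Sg_fix hst.2 hg, hs⟩

end up

/-- the points for the group -/
theorem pts {G : Type*} [Group G] {x y z t : G} (h : RelN x y z t) (hgen : Subgroup.closure {x, y, z, t} = ⊤) :
    ∃ (ψ : PH →* G) (c : ℕ → G ⧸ (Subgroup.closure {x, y, z} : Subgroup G)), ψ (xh 0) = x ∧ ψ (xh 1) = x⁻¹ ∧ ψ (xh 2) = y ∧
      ψ (xh 3) = y⁻¹ ∧ ψ (xh 4) = z ∧ ψ (xh 7) = x⁻¹ * y * x ∧ ψ (xh 6) = (x⁻¹ * y * x)⁻¹ ∧
      c 0 = ((1 : G) : G ⧸ (Subgroup.closure {x, y, z} : Subgroup G)) ∧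
      c 1 = ((t : G) : G ⧸ (Subgroup.closure {x, y, z} : Subgroup G)) ∧ (∀ i, ∀ g ∈ Sg xh fin.stab i, ψ g • c i = c i) ∧
      ∀ y, ∃ p i, i < 9 ∧ y = ψ p • c i := by
  obtain ⟨ψ, q0, q1, q2, q3, q4⟩ := psi_exists h.h
  have hfP : Finite PH := ph_exists.1
  have hcP : Nat.card PH = 177408000 := ph_exists.2.1
  have hfaith := ph_exists.2.2.1
  obtain ⟨ty, tyx⟩ := tw_rel h.t5 h.tx h.ty
  have q7 : ψ (xh 7) = x⁻¹ * y * x := by rw [xh7, map_mul, map_mul, q0, q1, q2]
  have q6 : ψ (xh 6) = (x⁻¹ * y * x)⁻¹ := by rw [xh6, map_inv, q7]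
  have hmain := upper_pts (base := base) (ph := ph) (phI := phI) (iv := iv) acts.1 acts.2
    hbase hfaith ψ t (Subgroup.closure {x, y, z})
    (by
      intro p hp
      simp only [ph, List.mem_cons, List.not_mem_nil, or_false] at hp
      rcases hp with rfl | rfl | rfl | rfl
      · show t * ψ (xh 2) = ψ (xh 2) * t
        rw [q2]; exact ty
      · show t * ψ (xh 7) = ψ (xh 7) * t
        rw [q7]; exact tyx
      · show t * ψ (xh 3) = ψ (xh 3) * t
        rw [q3]; exact swap_inv ty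
      · show t * ψ (xh 6) = ψ (xh 6) * t
        rw [q6]; exact swap_inv tyx)
    (by decide) (rels := rels) (by
      intro r hr
      simp only [rels, List.mem_cons, List.not_mem_nil, or_false] at hr
      rcases hr with rfl | rfl | rfl | rfl | rfl | rfl
      · simp only [seqG, tokG, one_mul, ev_cons, ev_nil, mul_one, q4]
        have := h.zt
        rw [pow_succ, pow_two] at this
        simpa only [mul_assoc] using this
      · simp only [seqG, tokG, one_mul, ev_cons, ev_nil, mul_one, map_mul, q0, q1]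
        have h3 : x⁻¹ * t * x = t ^ 3 := by
          have h4 : x⁻¹ * t * x = (t ^ 2)⁻¹ := eq_inv_of_mul_eq_one_left h.tx
          rw [h4, inv_eq_iff_mul_eq_one, ← pow_add]; exact h.t5
        have h9 : x⁻¹ * (x⁻¹ * t * x) * x = t ^ 9 := by
          rw [h3]
          have : x⁻¹ * t ^ 3 * x = (x⁻¹ * t * x) ^ 3 := by rw [pow_succ, pow_two, pow_succ, pow_two]; group
          rw [this, h3, ← pow_mul]
        calc x⁻¹ * x⁻¹ * t * (x * x) * t = (x⁻¹ * (x⁻¹ * t * x) * x) * t := by group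
          _ = t ^ 10 := by rw [h9, ← pow_succ]
          _ = 1 := by rw [show (10 : ℕ) = 5 * 2 by norm_num, pow_mul, h.t5, one_pow]
      · simp only [seqG, tokG, one_mul]
        have := h.t5
        rw [pow_succ, pow_succ, pow_succ, pow_two] at this
        simpa only [mul_assoc] using this
      · simp only [seqG, tokG, one_mul, ev_cons, ev_nil, mul_one, q0, q1]
        have := h.tx
        rw [pow_two] at this
        simpa only [mul_assoc] using this
      · simp only [seqG, tokG, one_mul, inv_mul_cancel]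
      · simp only [seqG, tokG, one_mul, mul_inv_cancel]) (n0 := 5) hiv (by decide) (by
      intro K hP hz
      rw [eq_top_iff, ← hgen, Subgroup.closure_le]
      rintro _ (rfl | rfl | rfl | rfl)
      · rw [← q0]; exact hP _
      · rw [← q2]; exact hP _
      · rw [← q4]; exact hP _
      · exact hz) (init := init) (by
      have hx : x ∈ Subgroup.closure ({x, y, z} : Set G) := Subgroup.subset_closure (by simp)
      have hy : y ∈ Subgroup.closure ({x, y, z} : Set G) := Subgroup.subset_closure (by simp)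
      have hz : z ∈ Subgroup.closure ({x, y, z} : Set G) := Subgroup.subset_closure (by simp)
      intro s hs
      simp only [init, List.mem_cons, List.not_mem_nil, or_false] at hs
      rcases hs with rfl | rfl | rfl | rfl | rfl
      · rw [q0]; exact hx
      · rw [q1]; exact Subgroup.inv_mem _ hx
      · rw [q2]; exact hy
      · rw [q3]; exact Subgroup.inv_mem _ hy
      · rw [q4]; exact hz) c_ds (runE_sound c_run) (k := 9) (pt := 0) (mo := 1408) (by norm_num) c_j (by norm_num) hm (by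
      intro i hi
      interval_cases i
      · exact cover_sound acts.1 acts.2 c_cov0
      · exact cover_sound acts.1 acts.2 c_cov1
      · exact cover_sound acts.1 acts.2 c_cov2
      · exact cover_sound acts.1 acts.2 c_cov3
      · exact cover_sound acts.1 acts.2 c_cov4
      · exact cover_sound acts.1 acts.2 c_cov5
      · exact cover_sound acts.1 acts.2 c_cov6
      · exact cover_sound acts.1 acts.2 c_cov7
      · exact cover_sound acts.1 acts.2 c_cov8) B_stab.1
  obtain ⟨c, hc0, hc, hst, hs⟩ := hmain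
  refine ⟨ψ, c, q0, q1, q2, q3, q4, q7, q6, hc0, ?_, hst, hs⟩
  have h1 := hc 0 (by decide)
  have e1 : (ds[0]'(by decide)) = (0, [], false) := rfl
  rw [e1] at h1
  rw [zero_add] at h1
  rw [h1]
  simp only [cond_false, ev_nil, map_one, one_smul, hc0]
  show t • ((1 : G) : G ⧸ (Subgroup.closure {x, y, z} : Subgroup G)) = _
  rw [MulAction.Quotient.smul_coe, smul_eq_mul, mul_one]

/-- suborbit lengths, in the order of the enumeration -/
def L9 : Fin 9 → ℕ := ![1, 1408, 35200, 2200, 123200, 354816, 739200, 5775, 277200]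

theorem idx_le (i : Fin 9) : (Sg xh fin.stab (i : ℕ)).index ≤ L9 i := by
  have hfP : Finite PH := ph_exists.1
  have hcP : Nat.card PH = 177408000 := ph_exists.2.1
  fin_cases i
  · exact index_le (n := 1) hcP (chainH_card acts.1 acts.2 (K := Sg xh fin.stab 0)
      (allIn_spec (l := List.range 5) (by decide +kernel)) _ c_chain) (by norm_num) (by norm_num)
  · exact index_le (n := 1408) hcP (chainH_card acts.1 acts.2 (allIn_spec c_g1) _ c_ch1) (by norm_num) (by norm_num)
  · exact index_le (n := 35200) hcP (chainH_card acts.1 acts.2 (allIn_spec c_g2) _ c_ch2) (by norm_num) (by norm_num)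
  · exact index_le (n := 2200) hcP (chainH_card acts.1 acts.2 (allIn_spec c_g3) _ c_ch3) (by norm_num) (by norm_num)
  · exact index_le (n := 123200) hcP (chainH_card acts.1 acts.2 (allIn_spec c_g4) _ c_ch4) (by norm_num) (by norm_num)
  · exact index_le (n := 354816) hcP (chainH_card acts.1 acts.2 (allIn_spec c_g5) _ c_ch5) (by norm_num) (by norm_num)
  · exact index_le (n := 739200) hcP (chainH_card acts.1 acts.2 (allIn_spec c_g6) _ c_ch6) (by norm_num) (by norm_num)
  · exact index_le (n := 5775) hcP (chainH_card acts.1 acts.2 (allIn_spec c_g7) _ c_ch7) (by norm_num) (by norm_num)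
  · exact index_le (n := 277200) hcP (chainH_card acts.1 acts.2 (allIn_spec c_g8) _ c_ch8) (by norm_num) (by norm_num)

end Cfsg.Agent.Lib.HNOutI
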