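import Cfsg.Agent.Lib.HNOutI

/-!
# The Harada-Norton group: the double coset data
-/

set_option autoImplicit false
set_option linter.all false
set_option maxRecDepth 100000

namespace Cfsg.Agent.Lib.HNOutJ

open Cfsg.Agent.Lib.Dce Cfsg.Agent.Lib.HNU Cfsg.Agent.Lib.HNPH Cfsg.Agent.Lib.HNOutI Cfsg.Agent.Lib.HNOutA Cfsg.Agent.Lib.HNOutB
open Subgroup Cfsg.Agent.Lib.HNT

/-- order of the suborbits -/
def jj : Fin 8 → Fin 9 := ![1, 3, 7, 2, 4, 8, 5, 6]

theorem jj_L : ∀ i, L9 (jj i) = LL8 i := by decide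

theorem jj_surj : ∀ j : Fin 9, j = 0 ∨ ∃ i, jj i = j := by decide

theorem sum_L9 : ∑ i, L9 i = 1539000 := by decide

theorem exists_data {G : Type} [Group G] [Finite G] {x y z t : G} (h : RelN x y z t)
    (hgen : Subgroup.closure {x, y, z, t} = ⊤) (hidx : (closure {x, y, z} : Subgroup G).index = 1539000)
    (hcard : Nat.card G = 273030912000000) :
    Nat.card (closure {x, y, z} : Subgroup G) = 177408000 ∧
      ∃ (s : Fin 8 → G) (S : Fin 8 → Subgroup G), Data (closure {x, y, z} : Subgroup G) s S LL8 ∧ s 0 = t ∧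
        S 0 = closure {y, x⁻¹ * y * x} := by
  have hfP : Finite PH := ph_exists.1
  have hcP : Nat.card PH = 177408000 := ph_exists.2.1
  have hcH : Nat.card (closure {x, y, z} : Subgroup G) = 177408000 := by
    have h1 := Subgroup.card_mul_index (closure {x, y, z} : Subgroup G)
    rw [hidx, hcard] at h1
    omega
  refine ⟨hcH, ?_⟩
  obtain ⟨ψ, c, q0, q1, q2, q3, q4, q7, q6, hc0, hc1, hst, hs⟩ := pts h hgen
  obtain ⟨ty, tyx⟩ := tw_rel h.t5 h.tx h.ty
  have hx : x ∈ closure ({x, y, z} : Set G) := subset_closure (by simp)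
  have hy : y ∈ closure ({x, y, z} : Set G) := subset_closure (by simp)
  have hz : z ∈ closure ({x, y, z} : Set G) := subset_closure (by simp)
  -- the range
  have hrange : ∀ p, ψ p ∈ closure ({x, y, z} : Set G) := by
    have hK : (closure ({x, y, z} : Set G)).comap ψ = ⊤ := by
      apply PG_top c_all
      intro c hc
      have e : xb HNT.tab HNT.iv 1408 5 c = xh c := (ext_lt hc).symm
      rw [mem_comap]
      interval_cases c
      · rw [e, q0]; exact hx
      · rw [e, q1]; exact inv_mem hx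
      · rw [e, q2]; exact hy
      · rw [e, q3]; exact inv_mem hy
      · rw [e, q4]; exact hz
    intro p
    have : p ∈ (closure ({x, y, z} : Set G)).comap ψ := by rw [hK]; trivial
    exact this
  have hrange' : ψ.range = closure ({x, y, z} : Set G) := by
    apply le_antisymm
    · rintro _ ⟨p, rfl⟩; exact hrange p
    · rw [closure_le]
      rintro _ (rfl | rfl | rfl)
      · exact ⟨_, q0⟩
      · exact ⟨_, q2⟩
      · exact ⟨_, q4⟩
  have hinj : Function.Injective ψ := by
    have h1 : Function.Surjective ψ.rangeRestrict := ψ.rangeRestrict_surjective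
    have h2 : Nat.card PH = Nat.card ψ.range := by rw [hrange', hcH, hcP]
    have h3 := (Nat.bijective_iff_surjective_and_card ψ.rangeRestrict).2 ⟨h1, h2⟩
    intro a b hab
    exact h3.1 (Subtype.ext hab)
  -- the indices
  have hle := card_le (P := PH) (xs := xh) (A := (MulAction.toPermHom G (G ⧸ closure ({x, y, z} : Set G))).comp ψ) (c := c)
    (st := fin) (k := 9) (by
      intro p hp
      exact hst p.1 _ (subset_closure ⟨p.2, hp, rfl⟩)) hs
  have hidx' : Nat.card (G ⧸ closure ({x, y, z} : Set G)) = 1539000 := hidx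
  rw [hidx'] at hle
  have hsum : ∑ i : Fin 9, (Sg xh fin.stab (i : ℕ)).index = ∑ i, L9 i := by
    apply le_antisymm
    · exact Finset.sum_le_sum fun i _ => idx_le i
    · rw [sum_L9]; exact hle.2
  have hind : ∀ i : Fin 9, (Sg xh fin.stab (i : ℕ)).index = L9 i := by
    intro i
    exact (Finset.sum_eq_sum_iff_of_le fun i _ => idx_le i).1 hsum i (Finset.mem_univ i)
  -- representatives
  have hrep : ∀ i : Fin 8, ∃ g : G, c (jj i : ℕ) = ((g : G) : G ⧸ closure ({x, y, z} : Set G)) ∧ (i = 0 → g = t) := by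
    intro i
    by_cases hi : i = 0
    · subst hi
      exact ⟨t, hc1, fun _ => rfl⟩
    · obtain ⟨g, hg⟩ := QuotientGroup.mk_surjective (c (jj i : ℕ))
      exact ⟨g, hg.symm, fun h => absurd h hi⟩
  choose s hsc hst0 using hrep
  have hU : closure {y, x⁻¹ * y * x} = (Bs xh ph).map ψ := by
    rw [Bs, MonoidHom.map_closure]
    apply le_antisymm
    · rw [closure_le]
      rintro _ (rfl | rfl)
      · exact subset_closure ⟨xh 2, ⟨(2, 2), by simp [ph], rfl⟩, q2⟩
      · exact subset_closure ⟨xh 7, ⟨(7, 7), by simp [ph], rfl⟩, q7⟩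
    · rw [closure_le]
      rintro _ ⟨_, ⟨p, hp, rfl⟩, rfl⟩
      simp only [ph, List.mem_cons, List.not_mem_nil, or_false] at hp
      rcases hp with rfl | rfl | rfl | rfl
      · show ψ (xh 2) ∈ _
        rw [q2]; exact subset_closure (by simp)
      · show ψ (xh 7) ∈ _
        rw [q7]; exact subset_closure (by simp)
      · show ψ (xh 3) ∈ _
        rw [q3]; exact inv_mem (subset_closure (by simp))
      · show ψ (xh 6) ∈ _
        rw [q6]; exact inv_mem (subset_closure (by simp))
  have hcm : ∀ T : Subgroup PH, Nat.card (T.map ψ) = Nat.card T := fun T =>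
    (Nat.card_congr (T.equivMapOfInjective ψ hinj).toEquiv).symm
  refine ⟨s, fun i => if i = 0 then closure {y, x⁻¹ * y * x} else (Sg xh fin.stab (jj i : ℕ)).map ψ, ⟨?_, ?_, ?_, ?_⟩,
    hst0 0 rfl, if_pos rfl⟩
  · intro g
    obtain ⟨p, i, hi, hpi⟩ := hs ((g : G) : G ⧸ closure ({x, y, z} : Set G))
    rcases jj_surj ⟨i, hi⟩ with h0 | ⟨k, hk⟩
    · left
      have : i = 0 := congrArg Fin.val h0
      rw [this, hc0, MulAction.Quotient.smul_coe, smul_eq_mul, mul_one, eq_comm, QuotientGroup.eq] at hpi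
      have : g = ψ p * ((ψ p)⁻¹ * g) := by group
      rw [this]; exact mul_mem (hrange p) hpi
    · right
      have hk' : (jj k : ℕ) = i := congrArg Fin.val hk
      rw [← hk', hsc, MulAction.Quotient.smul_coe, smul_eq_mul, eq_comm, QuotientGroup.eq] at hpi
      exact ⟨k, ψ p, hrange p, _, hpi, by group⟩
  · intro i
    by_cases hi : i = 0
    · subst hi
      simp only [if_pos]
      rw [hst0 0 rfl, closure_le]
      rintro _ (rfl | rfl)
      · refine ⟨hy, ?_⟩
        rw [mul_assoc, ← ty, inv_mul_cancel_left]; exact hy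
      · refine ⟨mul_mem (mul_mem (inv_mem hx) hy) hx, ?_⟩
        rw [mul_assoc t⁻¹, ← tyx, inv_mul_cancel_left]; exact mul_mem (mul_mem (inv_mem hx) hy) hx
    · simp only [if_neg hi]
      rintro _ ⟨p, hp, rfl⟩
      refine ⟨hrange p, ?_⟩
      have h1 := hst (jj i : ℕ) p hp
      rw [hsc, MulAction.Quotient.smul_coe, smul_eq_mul, eq_comm, QuotientGroup.eq] at h1
      rw [mul_assoc]; exact h1
  · intro i
    by_cases hi : i = 0
    · subst hi
      simp only [if_pos]
      rw [hU, hcm, B_stab.2, hcH]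
      rfl
    · simp only [if_neg hi]
      rw [hcm, ← jj_L, ← hind, Subgroup.card_mul_index, hcP, hcH]
  · rw [hidx]; decide

end Cfsg.Agent.Lib.HNOutJ
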