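import Cfsg.Agent.Lib.HNOutJ
import Cfsg.Agent.Lib.HNOutG
import Cfsg.Agent.Lib.HNOutH
import Cfsg.Agent.Lib.HNMulC

/-!
# The outer automorphism group of the Harada-Norton group
-/

set_option autoImplicit false

namespace Cfsg.Agent.Lib.HNOutK

open Subgroup Cfsg.Agent.Lib.HNMulA Cfsg.Agent.Lib.HNMulB Cfsg.Agent.Lib.HNMulC Cfsg.Agent.Lib.HNOutA Cfsg.Agent.Lib.HNOutB
open Cfsg.Spor

/-- the relations for the twisted generators -/
theorem relA' {G : Type*} [Group G] {x y z : G} (h : RelA x y z) : RelA x y (z * x ^ 2) := by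
  have hs := A_sq h
  have hi := A_inv h
  have hy : Commute y (x ^ 2) := A_y h
  have hz : Commute z (x ^ 2) := A_z h
  have hx : Commute x (x ^ 2) := Commute.self_pow x 2
  obtain ⟨a1, a2, a3, a4, a5, a6, a7, a8, a9, a10⟩ := h
  refine ⟨a1, a2, a3, a4, a5, a6, ?_, ?_, ?_, ?_⟩
  · rw [hz.mul_pow, a7, one_mul, pow_two]; exact hs
  · have e : z * x ^ 2 * x = z * x * x ^ 2 := by rw [mul_assoc, ← hx.eq, mul_assoc]
    rw [e, (hz.mul_left hx).mul_pow, a8, one_mul, pow_two]; exact hs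
  · set W := y * x * y * x * y ^ 2 * x * y⁻¹ with hW
    have hWc : Commute W (x ^ 2) := by
      rw [hW]
      exact ((((((hy.mul_left hx).mul_left hy).mul_left hx).mul_left (hy.pow_left 2)).mul_left hx).mul_left hy.inv_left)
    have e : (z * x ^ 2)⁻¹ * W⁻¹ * (z * x ^ 2) * W = z⁻¹ * W⁻¹ * z * W := by
      have c : Commute (z⁻¹ * W⁻¹ * z * W) (x ^ 2) :=
        ((hz.inv_left.mul_left hWc.inv_left).mul_left hz).mul_left hWc
      calc (z * x ^ 2)⁻¹ * W⁻¹ * (z * x ^ 2) * W = (x ^ 2)⁻¹ * (z⁻¹ * W⁻¹ * z * (x ^ 2 * W)) := by group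
        _ = (x ^ 2)⁻¹ * ((z⁻¹ * W⁻¹ * z * W) * x ^ 2) := by rw [← hWc.eq]; group
        _ = (x ^ 2)⁻¹ * (x ^ 2 * (z⁻¹ * W⁻¹ * z * W)) := by rw [c.eq]
        _ = _ := by group
    rw [e]; exact a9
  · set V := y ^ 3 * x * y * x * y with hV
    have hVc : Commute V (x ^ 2) := by
      rw [hV]
      exact (((((hy.pow_left 3).mul_left hx).mul_left hy).mul_left hx).mul_left hy)
    have c : Commute (V⁻¹ * z * V * x) (x ^ 2) := ((hVc.inv_left.mul_left hz).mul_left hVc).mul_left hx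
    have e : V⁻¹ * (z * x ^ 2) * V * x = (V⁻¹ * z * V * x) * x ^ 2 := by
      calc V⁻¹ * (z * x ^ 2) * V * x = V⁻¹ * z * (x ^ 2 * V) * x := by group
        _ = V⁻¹ * z * V * (x ^ 2 * x) := by rw [← hVc.eq]; group
        _ = V⁻¹ * z * V * (x * x ^ 2) := by rw [hx.eq]
        _ = _ := by group
    rw [e, c.mul_pow]
    have c3 : Commute ((V⁻¹ * z * V * x) ^ 3) (x ^ 2) := c.pow_left 3
    calc z * x ^ 2 * ((V⁻¹ * z * V * x) ^ 3 * (x ^ 2) ^ 3) = z * (x ^ 2 * (V⁻¹ * z * V * x) ^ 3) * (x ^ 2) ^ 3 := by group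
      _ = z * ((V⁻¹ * z * V * x) ^ 3 * x ^ 2) * (x ^ 2) ^ 3 := by rw [c3.eq]
      _ = z * (V⁻¹ * z * V * x) ^ 3 * ((x ^ 2 * x ^ 2) * (x ^ 2 * x ^ 2)) := by group
      _ = 1 := by rw [hs, mul_one, mul_one]; exact a10

theorem relB' {G : Type*} [Group G] {x y z t : G} (hA : RelA x y z) (hB : RelB x y z t) : RelB x y (z * x ^ 2) (t ^ 2) := by
  have hzc := z_conj hA
  have htc := t_conj hB
  have hat := A_t hB
  have hty := t_y hB
  have hz : Commute z (x ^ 2) := A_z hA
  obtain ⟨b1, b2, b3, b4⟩ := hB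
  refine ⟨?_, ?_, ?_, ?_⟩
  · rw [← pow_mul, mul_comm, pow_mul, b1, one_pow]
  · have e : x⁻¹ * t ^ 2 * x = (x⁻¹ * t * x) ^ 2 := by rw [pow_two, pow_two]; group
    rw [e, htc, pow_two, pow_two (t ^ 2)]; group
  · have e : y⁻¹ * t ^ 2 * y = t ^ 2 := by
      have h1 : t ^ 2 * y = y * t ^ 2 := by
        rw [pow_two, mul_assoc, ← hty, ← mul_assoc, ← hty, mul_assoc]
      rw [mul_assoc, h1, inv_mul_cancel_left]
    have : (t ^ 2)⁻¹ * y⁻¹ * t ^ 2 * y = (t ^ 2)⁻¹ * (y⁻¹ * t ^ 2 * y) := by group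
    rw [this, e, inv_mul_cancel]
  · -- conjugate by `x`, then by `x ^ 2`
    have h1 : (x ^ 2 * z * (t ^ 2)⁻¹) ^ 3 = 1 := by
      have e : x ^ 2 * z * (t ^ 2)⁻¹ = x⁻¹ * (z * t) * x := by
        rw [← hzc, ← htc]; group
      rw [e]
      have : (x⁻¹ * (z * t) * x) ^ 3 = x⁻¹ * (z * t) ^ 3 * x := by rw [pow_three, pow_three]; group
      rw [this, b4]; group
    have h2 : (x ^ 2)⁻¹ * (x ^ 2 * z * (t ^ 2)⁻¹) * x ^ 2 = z * x ^ 2 * t ^ 2 := by
      have e2 : (x ^ 2)⁻¹ * (t ^ 2)⁻¹ * x ^ 2 = t ^ 2 := by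
        have : (x ^ 2)⁻¹ * (t ^ 2)⁻¹ * x ^ 2 = ((x ^ 2)⁻¹ * t * x ^ 2)⁻¹ * ((x ^ 2)⁻¹ * t * x ^ 2)⁻¹ := by group
        rw [this, hat, inv_inv, pow_two]
      calc (x ^ 2)⁻¹ * (x ^ 2 * z * (t ^ 2)⁻¹) * x ^ 2 = z * (x ^ 2 * ((x ^ 2)⁻¹ * (t ^ 2)⁻¹ * x ^ 2)) := by group
        _ = z * x ^ 2 * t ^ 2 := by rw [e2]; group
    rw [← h2]
    have : ((x ^ 2)⁻¹ * (x ^ 2 * z * (t ^ 2)⁻¹) * x ^ 2) ^ 3 = (x ^ 2)⁻¹ * (x ^ 2 * z * (t ^ 2)⁻¹) ^ 3 * x ^ 2 := by
      rw [pow_three, pow_three]; group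
    rw [this, h1]; group

theorem top_gen : closure {gx, gy, gz, gt} = ⊤ := Cfsg.Agent.Lib.HNPH.genGN

/-- the outer automorphism -/
theorem exists_beta (hfin : Finite HN) : ∃ β : MulAut HN, β gx = gx ∧ β gy = gy ∧ β gz = gz * gx ^ 2 ∧ β gt = gt ^ 2 := by
  obtain ⟨φ, f1, f2, f3, f4⟩ := exists_hom (relA' relA) (relB' relA relB)
  have hs : Function.Surjective φ := by
    rw [← MonoidHom.range_eq_top, eq_top_iff, ← top_gen, closure_le]
    have h1 : gx ∈ φ.range := ⟨_, f1⟩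
    rintro _ (rfl | rfl | rfl | rfl)
    · exact h1
    · exact ⟨_, f2⟩
    · have h3 : gz * gx ^ 2 ∈ φ.range := ⟨_, f3⟩
      have := mul_mem h3 (inv_mem (pow_mem h1 2))
      rwa [mul_inv_cancel_right] at this
    · have h4 : gt ^ 2 ∈ φ.range := ⟨_, f4⟩
      have h5 := pow_mem h4 3
      have : (gt ^ 2) ^ 3 = gt := by
        rw [← pow_mul, show 2 * 3 = 5 + 1 from rfl, pow_succ, relB.1, one_mul]
      rwa [this] at h5
  exact ⟨MulEquiv.ofBijective φ ⟨Finite.injective_iff_surjective.2 hs, hs⟩, f1, f2, f3, f4⟩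

theorem gx_sq_ne (hidx : (closure {gx, gy, gz} : Subgroup HN).index = 1539000) : gx ^ 2 ≠ 1 := by
  intro h
  have h1 := A_t relB
  rw [h, inv_one, one_mul, mul_one] at h1
  have h2 : gt ^ 2 = 1 := by rw [pow_two]; nth_rewrite 1 [h1]; exact inv_mul_cancel _
  have h3 : gt = 1 := by
    have h5 := relB.1
    rw [show 5 = 2 * 2 + 1 from rfl, pow_succ, pow_mul, h2, one_pow, one_mul] at h5
    exact h5
  have h4 : (⊤ : Subgroup HN) ≤ closure {gx, gy, gz} := by
    rw [← top_gen, closure_le]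
    rintro _ (rfl | rfl | rfl | rfl)
    · exact subset_closure (by simp)
    · exact subset_closure (by simp)
    · exact subset_closure (by simp)
    · rw [h3]; exact one_mem _
  rw [top_le_iff.1 h4, index_top] at hidx
  norm_num at hidx

theorem out_HN (hfin : Finite HN) (hcard : Nat.card HN = 273030912000000)
    (hidx : (closure {gx, gy, gz} : Subgroup HN).index = 1539000) (hp : commutator (↥HS) = ⊤)
    (hK : ∃ K : Subgroup NN, K.Normal ∧ K.index = 2 ∧ Cfsg.IsNonsplitDoubleCover K HS) : Nat.card (Cfsg.Out HN) = 2 := by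
  obtain ⟨K', hKn, hK2, hKd⟩ := hK
  have hperf : commutator K' = ⊤ := StemDbl.dbl_perfect hKd hp
  obtain ⟨hcH, s, S, hD, hs0, hS0⟩ := HNOutJ.exists_data (x := gx) (y := gy) (z := gz) (t := gt)
    Cfsg.Agent.Lib.HNPH.relGN top_gen hidx hcard
  let x : NN := ⟨gx, gx_mem⟩
  let y : NN := ⟨gy, gy_mem⟩
  let z : NN := ⟨gz, gz_mem⟩
  have hA : RelA x y z := by
    obtain ⟨a1, a2, a3, a4, a5, a6, a7, a8, a9, a10⟩ := relA
    exact ⟨Subtype.ext a1, Subtype.ext a2, Subtype.ext a3, Subtype.ext a4, Subtype.ext a5, Subtype.ext a6,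
      Subtype.ext a7, Subtype.ext a8, Subtype.ext a9, Subtype.ext a10⟩
  have hgen : ∀ L : Subgroup NN, x ∈ L → y ∈ L → z ∈ L → L = ⊤ := by
    intro L hx hy hz
    rw [eq_top_iff]
    rintro ⟨g, hg⟩ -
    have h1 : NN ≤ L.map NN.subtype := by
      refine NN_eq.le.trans ?_
      rw [closure_le]
      rintro a (rfl | rfl | rfl)
      · exact ⟨x, hx, rfl⟩
      · exact ⟨y, hy, rfl⟩
      · exact ⟨z, hz, rfl⟩
    obtain ⟨l, hl, hlg⟩ := h1 hg
    have : l = ⟨g, hg⟩ := Subtype.ext hlg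
    rwa [← this]
  obtain ⟨hxK, hyK, hzK⟩ := index_two hA hK2 hgen
  have hmem : ∀ (g : HN) (hg : g ∈ NN), g ∈ K'.map NN.subtype ↔ (⟨g, hg⟩ : NN) ∈ K' := by
    intro g hg
    constructor
    · rintro ⟨k, hk, rfl⟩; exact hk
    · intro h; exact ⟨_, h, rfl⟩
  have hle : K'.map NN.subtype ≤ closure {gx, gy, gz} := by
    rw [← NN_eq]
    rintro _ ⟨k, -, rfl⟩
    exact k.2
  have hNN : ∀ g, g ∈ closure ({gx, gy, gz} : Set HN) → g ∈ NN := fun g hg => by rw [NN_eq]; exact hg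
  -- the centre
  have hx2 : (x ^ 2 : NN) ∈ K' := pow_mem hxK 2
  have hcomm : ∀ g : NN, g * x ^ 2 = x ^ 2 * g := by
    intro g
    have h1 : (centralizer {x ^ 2} : Subgroup NN) = ⊤ := hgen _
      (mem_centralizer_singleton_iff.2 (by group)) (mem_centralizer_singleton_iff.2 (A_y hA))
      (mem_centralizer_singleton_iff.2 (A_z hA))
    have h2 : g ∈ (centralizer {x ^ 2} : Subgroup NN) := by rw [h1]; trivial
    exact mem_centralizer_singleton_iff.1 h2
  have hne := gx_sq_ne hidx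
  have hcen : ∀ k : K', k ∈ center K' ↔ ((k : NN) : HN) = 1 ∨ ((k : NN) : HN) = gx ^ 2 := by
    intro k
    have hc2 := hKd.1
    have h0 : (⟨⟨x ^ 2, hx2⟩, mem_center_iff.2 fun g => Subtype.ext (hcomm g)⟩ : center K') ≠ 1 := by
      intro h
      apply hne
      exact congrArg (fun a : center K' => (((a : K') : NN) : HN)) h
    constructor
    · intro hk
      by_contra hcon
      push Not at hcon
      have : Nat.card (center K') ≥ 3 := by
        have : Finite (center K') := Nat.finite_of_card_ne_zero (by rw [hc2]; norm_num)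
        let f : Fin 3 → center K' := ![1, ⟨⟨x ^ 2, hx2⟩, mem_center_iff.2 fun g => Subtype.ext (hcomm g)⟩, ⟨k, hk⟩]
        have hf : Function.Injective f := by
          intro a b hab
          have e1 : (1 : center K') ≠ ⟨k, hk⟩ := by
            intro h
            exact hcon.1 (congrArg (fun a : center K' => (((a : K') : NN) : HN)) h).symm
          have e2 : (⟨⟨x ^ 2, hx2⟩, mem_center_iff.2 fun g => Subtype.ext (hcomm g)⟩ : center K') ≠ ⟨k, hk⟩ := by
            intro h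
            exact hcon.2 (congrArg (fun a : center K' => (((a : K') : NN) : HN)) h).symm
          fin_cases a <;> fin_cases b
          · rfl
          · exact absurd hab.symm h0
          · exact absurd hab e1
          · exact absurd hab h0
          · rfl
          · exact absurd hab e2
          · exact absurd hab.symm e1
          · exact absurd hab.symm e2
          · rfl
        simpa using Nat.card_le_card_of_injective f hf
      omega
    · rintro (h | h)
      · have : k = 1 := Subtype.ext (Subtype.ext h)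
        rw [this]; exact one_mem _
      · have : k = ⟨x ^ 2, hx2⟩ := Subtype.ext (Subtype.ext h)
        rw [this]; exact mem_center_iff.2 fun g => Subtype.ext (hcomm g)
  have σ : Sit gx gy gz gt (closure {gx, gy, gz}) (closure {gy, gx⁻¹ * gy * gx}) (K'.map NN.subtype) s S :=
    { rA := relA
      rB := relB
      top := top_gen
      hH := rfl
      hU := rfl
      cardH := hcH
      data := hD
      s0 := hs0
      S0 := hS0
      KH := hle
      Knorm := by
        rintro h hh _ ⟨k, hk, rfl⟩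
        exact ⟨⟨h, hNN h hh⟩ * k * ⟨h, hNN h hh⟩⁻¹, hKn.conj_mem k hk _, rfl⟩
      Kmul := by
        intro a ha b hb
        have e := mul_mem_iff_of_index_two hK2 (a := ⟨a, hNN a ha⟩) (b := ⟨b, hNN b hb⟩)
        rw [hmem a (hNN a ha), hmem b (hNN b hb), hmem (a * b) (mul_mem (hNN a ha) (hNN b hb))]
        exact e
      xK := ⟨x, hxK, rfl⟩
      yK := ⟨y, hyK, rfl⟩
      zK := by
        rw [hmem gz gz_mem]; exact hzK
      Kcen := by
        rintro _ ⟨k, hk, rfl⟩ h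
        have h1 : (⟨k, hk⟩ : K') ∈ center K' := by
          rw [mem_center_iff]
          intro g
          apply Subtype.ext
          apply Subtype.ext
          exact (h _ ⟨(g : NN), g.2, rfl⟩).symm
        exact (hcen _).1 h1 }
  -- the covering
  obtain ⟨e⟩ := hKd.2.1
  obtain ⟨e2⟩ := HNOutH.spor_equiv
  have hinj : Function.Injective NN.subtype := NN.subtype_injective
  let e1 : K' ≃* (K'.map NN.subtype) := K'.equivMapOfInjective NN.subtype hinj
  let π : (K'.map NN.subtype) →* LeechSyl.GHS :=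
    (e2.toMonoidHom.comp (e.toMonoidHom.comp (QuotientGroup.mk' (center K')))).comp e1.symm.toMonoidHom
  have hπ : Cov gx (K'.map NN.subtype) π := by
    refine ⟨?_, ?_, ?_⟩
    · exact (e2.surjective.comp (e.surjective.comp (QuotientGroup.mk'_surjective _))).comp e1.symm.surjective
    · intro k
      obtain ⟨k', rfl⟩ := e1.surjective k
      have h1 : π (e1 k') = e2 (e (QuotientGroup.mk' (center K') k')) := by
        show e2 (e (QuotientGroup.mk' (center K') (e1.symm (e1 k')))) = _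
        rw [e1.symm_apply_apply]
      rw [h1, map_eq_one_iff _ e2.injective, map_eq_one_iff _ e.injective, QuotientGroup.mk'_apply,
        QuotientGroup.eq_one_iff]
      exact hcen k'
    · exact StemDbl.perfect_congr e1 hperf
  obtain ⟨β, b1, b2, b3, b4⟩ := exists_beta hfin
  exact σ.out_two hπ HNOutH.hslike b1 b2 b3 b4

end Cfsg.Agent.Lib.HNOutK
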