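import Cfsg.Agent.Lib.HNFaith

/-!
# The Harada-Norton group is simple
-/

set_option autoImplicit false
set_option linter.all false
set_option maxRecDepth 100000

namespace Cfsg.Agent.Lib.HNPH

open Cfsg.Spor Cfsg.Agent.Lib.Dce Cfsg.Agent.Lib.BenesWord Cfsg.Agent.Lib.CosetGroup Cfsg.Agent.Lib.CoxBridge
open Cfsg.Agent.Lib.HNT Cfsg.Agent.Lib.HNU Cfsg.Agent.Lib.HNPL

/-- a token word with five fixed points is trivial -/
theorem seq_one {ψ : PH →* HN} (hF : ∀ p, F (ψ p) = AX p) {r : List Tok}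
    (h0 : seqP xh AX T r (ev xh [] • cx 0) = ev xh [] • cx 0)
    (h : ∀ w ∈ bw, seqP xh AX T r (ev xh w • cx 1) = ev xh w • cx 1) :
    seqG xh ψ (PresentedGroup.of HN.Gen.t) r = 1 := by
  apply fix_one
  · rw [F_seq hF]
    simpa only [ev_nil, one_smul] using h0
  · intro w hw
    rw [F_seq hF]; exact h w hw

theorem seqG_rep {P G : Type*} [Group P] [Group G] {xs : ℕ → P} (ψ : P →* G) (t : G) (r : List Tok) (n : ℕ) :
    seqG xs ψ t (rep r n) = seqG xs ψ t r ^ n := by
  have happ : ∀ a b : List Tok, seqG xs ψ t (a ++ b) = seqG xs ψ t b * seqG xs ψ t a := by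
    intro a b
    induction a with
    | nil => rw [List.nil_append, seqG, mul_one]
    | cons k a ih => rw [List.cons_append, seqG, seqG, ih, mul_assoc]
  induction n with
  | zero => rw [rep, seqG, pow_zero]
  | succ n ih => rw [rep, happ, ih, pow_succ']

theorem fixw {r : List Tok} {i : ℕ} {e : List ℕ} {ss : List Step} {s : List ℕ} (h : fixP tab 83 base ph phI HNM.st 9 r i e ss s = true) :
    seqP xh AX T r (ev xh e • cx i) = ev xh e • cx i :=
  fixP_sound acts.1 acts.2 hbase ph_exists.2.2.1 T_spec.1 (sOk_spec HNM.c_s) (by decide) h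

/-- `t` is a product of two elements of order 19 -/
theorem t_prod : ∃ a b : HN, a ^ 19 = 1 ∧ b ^ 19 = 1 ∧ (PresentedGroup.of HN.Gen.t : HN) = a⁻¹ * b := by
  obtain ⟨ψ, _, _, _, hF, _⟩ := psiN
  have ha := seq_one hF (r := HNFixD.wa) (fixw HNFixD.c_wa_0) (by
    intro w hw
    simp only [bw, List.mem_cons, List.not_mem_nil, or_false] at hw
    rcases hw with rfl | rfl | rfl | rfl
    · exact fixw HNFixD.c_wa_1
    · exact fixw HNFixD.c_wa_2
    · exact fixw HNFixD.c_wa_3
    · exact fixw HNFixD.c_wa_4)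
  have hb := seq_one hF (r := HNFixD.wb) (fixw HNFixD.c_wb_0) (by
    intro w hw
    simp only [bw, List.mem_cons, List.not_mem_nil, or_false] at hw
    rcases hw with rfl | rfl | rfl | rfl
    · exact fixw HNFixD.c_wb_1
    · exact fixw HNFixD.c_wb_2
    · exact fixw HNFixD.c_wb_3
    · exact fixw HNFixD.c_wb_4)
  rw [HNFixD.wa, seqG_rep] at ha
  rw [HNFixD.wb, seqG_rep] at hb
  refine ⟨_, _, ha, hb, ?_⟩
  simp only [seqG, tokG, one_mul]
  group

/-- collapse -/
theorem collapse {G : Type*} [Group G] {x y z t : G} (h : RelN x y z t) (ht : t = 1) : x = 1 ∧ y = 1 ∧ z = 1 := by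
  have hz : z = 1 := by
    have h1 := h.zt
    rw [ht, mul_one] at h1
    have h2 := h.h.z2
    calc z = z ^ 3 * (z ^ 2)⁻¹ := by group
      _ = 1 := by rw [h1, h2]; group
  have hx : x = 1 := by
    have h1 := h.h.zx
    rw [hz, one_mul] at h1
    have h2 := h.h.zg
    rw [hz] at h2
    have h3 : x ^ 3 = 1 := by
      rw [one_mul, mul_one, inv_mul_cancel, one_mul] at h2
      exact h2
    calc x = x ^ 3 * (x ^ 2)⁻¹ := by group
      _ = 1 := by rw [h1, h3]; group
  have hy : y = 1 := by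
    have h6 := h.h.l.y6
    have h8 := h.h.l.e
    have h15 := h.h.l.d
    rw [hx] at h8 h15
    simp only [one_mul, inv_one] at h8 h15
    have e2 : y ^ 2 = 1 := by
      calc y ^ 2 = (y ^ 6)⁻¹ * y ^ 8 := by group
        _ = 1 := by rw [h6, h8]; group
    have e3 : y ^ 3 = 1 := by
      rw [mul_one, ← pow_add, ← pow_mul] at h15
      calc y ^ 3 = (y ^ 6)⁻¹ * (y ^ 6)⁻¹ * y ^ 15 := by group
        _ = 1 := by rw [h6]; norm_num at h15; rw [h15]; group
    calc y = y ^ 3 * (y ^ 2)⁻¹ := by group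
      _ = 1 := by rw [e2, e3]; group
  exact ⟨hx, hy, hz⟩

theorem idx_eq {i n r : ℕ} (h1 : r ≤ Nat.card (Sg xh fin.stab i)) (h2 : Nat.card (Sg xh HNM.st.stab i) ≤ r) (h : n * r = 177408000)
    (hr : 0 < r) : (Sg xh HNM.st.stab i).index = n :=
  le_antisymm (index_le ph_exists.2.1 h1 hr h) (le_index ph_exists.2.1 h2 h hr)

theorem idx0 : (Sg xh HNM.st.stab 0).index = 1 :=
  idx_eq (r := 177408000) (chainH_card acts.1 acts.2 (K := Sg xh fin.stab 0)
    (allIn_spec (l := List.range 5) (by decide +kernel)) _ c_chain) (by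
      rw [← ph_exists.2.1]; exact Subgroup.card_le_card_group _) (by norm_num) (by norm_num)
theorem idx1 : (Sg xh HNM.st.stab 1).index = 1408 :=
  idx_eq (chainH_card acts.1 acts.2 (allIn_spec c_g1) _ c_ch1) s1_le (by norm_num) (by norm_num)
theorem idx2 : (Sg xh HNM.st.stab 2).index = 35200 :=
  idx_eq (chainH_card acts.1 acts.2 (allIn_spec c_g2) _ c_ch2)
    (card_Sg_le acts.1 acts.2 hbase ph_exists.2.2.1 HNM.c_on2 HNM.c_u2 HNM.c_sz2) (by norm_num) (by norm_num)
theorem idx3 : (Sg xh HNM.st.stab 3).index = 2200 :=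
  idx_eq (chainH_card acts.1 acts.2 (allIn_spec c_g3) _ c_ch3)
    (card_Sg_le acts.1 acts.2 hbase ph_exists.2.2.1 HNM.c_on3 HNM.c_u3 HNM.c_sz3) (by norm_num) (by norm_num)
theorem idx4 : (Sg xh HNM.st.stab 4).index = 123200 :=
  idx_eq (chainH_card acts.1 acts.2 (allIn_spec c_g4) _ c_ch4)
    (card_Sg_le acts.1 acts.2 hbase ph_exists.2.2.1 HNM.c_on4 HNM.c_u4 HNM.c_sz4) (by norm_num) (by norm_num)
theorem idx5 : (Sg xh HNM.st.stab 5).index = 354816 :=
  idx_eq (chainH_card acts.1 acts.2 (allIn_spec c_g5) _ c_ch5)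
    (card_Sg_le acts.1 acts.2 hbase ph_exists.2.2.1 HNM.c_on5 HNM.c_u5 HNM.c_sz5) (by norm_num) (by norm_num)
theorem idx6 : (Sg xh HNM.st.stab 6).index = 739200 :=
  idx_eq (chainH_card acts.1 acts.2 (allIn_spec c_g6) _ c_ch6)
    (card_Sg_le acts.1 acts.2 hbase ph_exists.2.2.1 HNM.c_on6 HNM.c_u6 HNM.c_sz6) (by norm_num) (by norm_num)
theorem idx7 : (Sg xh HNM.st.stab 7).index = 5775 :=
  idx_eq (chainH_card acts.1 acts.2 (allIn_spec c_g7) _ c_ch7)
    (card_Sg_le acts.1 acts.2 hbase ph_exists.2.2.1 HNM.c_on7 HNM.c_u7 HNM.c_sz7) (by norm_num) (by norm_num)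
theorem idx8 : (Sg xh HNM.st.stab 8).index = 277200 :=
  idx_eq (chainH_card acts.1 acts.2 (allIn_spec c_g8) _ c_ch8)
    (card_Sg_le acts.1 acts.2 hbase ph_exists.2.2.1 HNM.c_on8 HNM.c_u8 HNM.c_sz8) (by norm_num) (by norm_num)

theorem sums : ∀ b1 b2 b3 b4 b5 b6 b7 b8 : Bool,
    (((((((((1 + (bif b1 then 1408 else 0)) + (bif b2 then 35200 else 0)) + (bif b3 then 2200 else 0)) +
      (bif b4 then 123200 else 0)) + (bif b5 then 354816 else 0)) + (bif b6 then 739200 else 0)) + (bif b7 then 5775 else 0)) +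
      (bif b8 then 277200 else 0))) ∣ 1539000 →
    (((((((((1 + (bif b1 then 1408 else 0)) + (bif b2 then 35200 else 0)) + (bif b3 then 2200 else 0)) +
      (bif b4 then 123200 else 0)) + (bif b5 then 354816 else 0)) + (bif b6 then 739200 else 0)) + (bif b7 then 5775 else 0)) +
      (bif b8 then 277200 else 0))) = 1 ∨
    (((((((((1 + (bif b1 then 1408 else 0)) + (bif b2 then 35200 else 0)) + (bif b3 then 2200 else 0)) +
      (bif b4 then 123200 else 0)) + (bif b5 then 354816 else 0)) + (bif b6 then 739200 else 0)) + (bif b7 then 5775 else 0)) +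
      (bif b8 then 277200 else 0))) = 1539000 := by decide +kernel

instance : MulAction.IsPretransitive HN X := by
  constructor
  intro a b
  obtain ⟨g, rfl⟩ := trans_X a
  obtain ⟨g', rfl⟩ := trans_X b
  exact ⟨g' * g⁻¹, by rw [mul_smul, inv_smul_smul]⟩

instance : FaithfulSMul HN X := by
  constructor
  intro a b h
  apply F_inj
  ext1 z
  exact h z

theorem blocks (B : Set X) (h0 : cx 0 ∈ B) (hB : ∀ g ∈ MulAction.stabilizer HN (cx 0), ∀ z ∈ B, g • z ∈ B)
    (hd : B.ncard ∣ Nat.card X) : B.ncard = 1 ∨ B.ncard = Nat.card X := by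
  obtain ⟨ψ, _, _, _, hF, hr⟩ := psiN
  obtain ⟨b, hb, hn⟩ := inv_ncard B (by
    intro p z hz
    have h1 : ψ p ∈ HH := by rw [← hr]; exact ⟨p, rfl⟩
    rw [main_idx.2.2] at h1
    have h2 := hB _ h1 z hz
    rw [act_eq, hF] at h2
    exact h2)
  have hb0 : b 0 = true := by
    rw [hb]
    have : cx 0 = xp (SS xh HNM.st 9) 0 := by
      show cc xh HNM.st 9 _ 0 = _
      rw [cc, dif_pos (by norm_num)]
      rfl
    rw [← this]; exact h0
  rw [main_idx.2.1] at hd ⊢
  rw [hn, Fin.sum_univ_castSucc, Fin.sum_univ_eight] at hd ⊢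
  have e0 : (SS xh HNM.st 9 (Fin.castSucc 0)).index = 1 := idx0
  have e1 : (SS xh HNM.st 9 (Fin.castSucc 1)).index = 1408 := idx1
  have e2 : (SS xh HNM.st 9 (Fin.castSucc 2)).index = 35200 := idx2
  have e3 : (SS xh HNM.st 9 (Fin.castSucc 3)).index = 2200 := idx3
  have e4 : (SS xh HNM.st 9 (Fin.castSucc 4)).index = 123200 := idx4
  have e5 : (SS xh HNM.st 9 (Fin.castSucc 5)).index = 354816 := idx5
  have e6 : (SS xh HNM.st 9 (Fin.castSucc 6)).index = 739200 := idx6
  have e7 : (SS xh HNM.st 9 (Fin.castSucc 7)).index = 5775 := idx7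
  have e8 : (SS xh HNM.st 9 (Fin.last 8)).index = 277200 := idx8
  have hb0' : b (Fin.castSucc 0) = true := hb0
  rw [e0, e1, e2, e3, e4, e5, e6, e7, e8, hb0'] at hd ⊢
  exact sums _ _ _ _ _ _ _ _ hd

theorem simple_HN : IsSimpleGroup HN := by
  have hnt : Nontrivial HN := by
    apply Finite.one_lt_card_iff_nontrivial.mp
    rw [card_HN]; norm_num
  refine ⟨fun N hN => ?_⟩
  rcases normal_trans (cx 0) blocks N with h | h
  · exact Or.inl h
  · right
    have h19 : Nat.Coprime 19 N.index := by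
      rw [Nat.Prime.coprime_iff_not_dvd (by norm_num)]
      intro hd
      rw [main_idx.2.1] at h
      obtain ⟨c, hc⟩ := h
      obtain ⟨d, hd⟩ := hd
      have h1 := N.card_mul_index
      rw [card_HN, hc, hd] at h1
      have h2 : 19 ∣ 177408000 := by
        refine ⟨c * d, ?_⟩
        have h3 : 1539000 * (c * (19 * d)) = 1539000 * 177408000 := by rw [← mul_assoc, h1]
        have h4 := Nat.eq_of_mul_eq_mul_left (by norm_num) h3
        rw [← h4]; ring
      norm_num at h2
    obtain ⟨a, b, ha, hb, ht⟩ := t_prod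
    have ha' := mem_of_pow h19 ha
    have hb' := mem_of_pow h19 hb
    have ht' : (PresentedGroup.of HN.Gen.t : HN) ∈ N := by
      rw [ht]; exact N.mul_mem (N.inv_mem ha') hb'
    have hq : RelN (QuotientGroup.mk' N (PresentedGroup.of HN.Gen.x)) (QuotientGroup.mk' N (PresentedGroup.of HN.Gen.y))
        (QuotientGroup.mk' N (PresentedGroup.of HN.Gen.z)) (QuotientGroup.mk' N (PresentedGroup.of HN.Gen.t)) := by
      obtain ⟨k1, k2, k3, k4, k5⟩ := relGN
      refine ⟨RelH.map _ k1, ?_, ?_, ?_, ?_⟩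
      · rw [← map_pow, k2, map_one]
      · rw [← map_one (QuotientGroup.mk' N), ← k3]; simp only [map_mul, map_pow, map_inv]
      · rw [← map_one (QuotientGroup.mk' N), ← k4]; simp only [map_mul, map_pow, map_inv]
      · rw [← map_one (QuotientGroup.mk' N), ← k5]; simp only [map_mul, map_pow, map_inv]
    obtain ⟨hx, hy, hz⟩ := collapse hq ((QuotientGroup.eq_one_iff _).mpr ht')
    rw [eq_top_iff, ← genGN, Subgroup.closure_le]
    rintro _ (rfl | rfl | rfl | rfl)
    · exact (QuotientGroup.eq_one_iff _).mp hx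
    · exact (QuotientGroup.eq_one_iff _).mp hy
    · exact (QuotientGroup.eq_one_iff _).mp hz
    · exact ht'

end Cfsg.Agent.Lib.HNPH
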