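import Cfsg.Agent.Lib.HNOutK
import Cfsg.Agent.Lib.HNSimple
import Cfsg.Agent.Lib.H58SMHS

/-!
# The Harada-Norton group: final assembly
-/

set_option autoImplicit false

namespace Cfsg.Agent.Lib.HNOutL

open Subgroup Cfsg.Agent.Lib.HNMulC Cfsg.Spor Cfsg.Agent.Lib.SchurSylow

theorem perf_HS : commutator (↥HS) = ⊤ := by
  apply StemDbl.perfect_congr H58SM.HS.equivHS
  exact H58SM.perfect_of_simple H58SM.HS.simple (by rw [H58SM.HS.cardG]; norm_num)

theorem idx : (closure {gx, gy, gz} : Subgroup HN).index = 1539000 := Cfsg.Agent.Lib.HNPH.main_idx.1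

/-- the multiplier of the Higman-Sims group -/
theorem mul_HS : HasCyclicSchurMultiplier (↥HS) 2 :=
  hasSchurMultiplier_congr H58SM.HS.equivHS (hasCyclic_of_squarefree Nat.prime_two.squarefree H58SM.HS.stem_two H58SM.HS.exists_stem)

theorem mul_of (hK : ∃ K : Subgroup NN, K.Normal ∧ K.index = 2 ∧ Cfsg.IsNonsplitDoubleCover K HS) :
    HasCyclicSchurMultiplier HN 1 := has_one inferInstance mul_HS perf_HS hK

theorem out_of (hK : ∃ K : Subgroup NN, K.Normal ∧ K.index = 2 ∧ Cfsg.IsNonsplitDoubleCover K HS) :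
    Nat.card (Cfsg.Out HN) = 2 := HNOutK.out_HN inferInstance Cfsg.Agent.Lib.HNPH.card_HN idx perf_HS hK

end Cfsg.Agent.Lib.HNOutL
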