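import Cfsg.Agent.Lib.HNPL3
import Cfsg.Agent.Lib.HNHRel

/-!
# The presented group on `x, y, z`: order at most 177408000
-/

set_option autoImplicit false
set_option linter.all false
set_option maxRecDepth 100000

namespace Cfsg.Agent.Lib.HNPH

open Cfsg.Spor Cfsg.Agent.Lib.Dce Cfsg.Agent.Lib.BenesWord Cfsg.Agent.Lib.CosetGroup Cfsg.Agent.Lib.CoxBridge
open Cfsg.Agent.Lib.HNPL

/-- the presented group on `x, y, z` -/
abbrev GrH := CoxPresented HNH.Gen HNH.edges HNH.extra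

theorem relGH : RelH (PresentedGroup.of HNH.Gen.x : GrH) (PresentedGroup.of HNH.Gen.y) (PresentedGroup.of HNH.Gen.z) := by
  have h := (HNHRel.C.rel_x []).2.1
  have hx : HNHRel.C.x [] 0 = (PresentedGroup.of HNH.Gen.x : GrH) := HNHRel.C.x_of_lt [] (by decide)
  have hy : HNHRel.C.x [] 1 = (PresentedGroup.of HNH.Gen.y : GrH) := HNHRel.C.x_of_lt [] (by decide)
  have hz : HNHRel.C.x [] 2 = (PresentedGroup.of HNH.Gen.z : GrH) := HNHRel.C.x_of_lt [] (by decide)
  have key : ∀ W ∈ HNHRel.extraW, W.eval (HNHRel.C.x []) = 1 := h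
  simp only [HNHRel.extraW, List.forall_mem_cons, Wd.eval, hx, hy, hz] at key
  obtain ⟨k1, k2, k3, k4, k5, k6, k7, k8, k9, k10, _⟩ := key
  exact ⟨⟨k1, k2, k3, k4, k5, k6⟩, k7, k8, k9, k10⟩

/-- homomorphisms out of `GrH` -/
theorem homGH {G : Type*} [Group G] {x y z : G} (h : RelH x y z) :
    ∃ f : GrH →* G, f (PresentedGroup.of HNH.Gen.x) = x ∧ f (PresentedGroup.of HNH.Gen.y) = y ∧ f (PresentedGroup.of HNH.Gen.z) = z := by
  obtain ⟨f, hf⟩ := HNHRel.C.hom (fun c => if c = 0 then x else if c = 1 then y else z) (fun i hi => absurd hi (by simp [HNHRel.C]))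
    (by intro W hW; exact absurd (show W ∈ HNHRel.coxW from HNHRel.coxW_eq ▸ hW) (by simp [HNHRel.coxW])) (by
      show ∀ W ∈ HNHRel.extraW, _
      simp only [HNHRel.extraW, List.forall_mem_cons, Wd.eval]
      exact ⟨h.l.y6, h.l.b, h.l.c, h.l.d, h.l.e, h.l.f, h.z2, h.zx, h.zb, h.zg, by simp⟩)
  exact ⟨f, hf 0 (by decide), hf 1 (by decide), hf 2 (by decide)⟩

theorem genGH : Subgroup.closure {(PresentedGroup.of HNH.Gen.x : GrH), PresentedGroup.of HNH.Gen.y, PresentedGroup.of HNH.Gen.z} = ⊤ := by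
  rw [eq_top_iff, ← PresentedGroup.closure_range_of, Subgroup.closure_le]
  rintro _ ⟨a, rfl⟩
  cases a
  · exact Subgroup.subset_closure (by simp)
  · exact Subgroup.subset_closure (by simp)
  · exact Subgroup.subset_closure (by simp)

theorem card_GH : Finite GrH ∧ Nat.card GrH ≤ 177408000 := card_H relGH genGH

end Cfsg.Agent.Lib.HNPH
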