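import Cfsg.Agent.Lib.HNPH
import Cfsg.Agent.Lib.HNU

/-!
# The presented group on `x, y, z` is a permutation group of degree 1408
-/

set_option autoImplicit false
set_option linter.all false
set_option maxRecDepth 100000

namespace Cfsg.Agent.Lib.HNPH

open Cfsg.Spor Cfsg.Agent.Lib.Dce Cfsg.Agent.Lib.BenesWord Cfsg.Agent.Lib.CosetGroup Cfsg.Agent.Lib.CoxBridge
open Cfsg.Agent.Lib.HNT Cfsg.Agent.Lib.HNU

/-- the permutation group -/
abbrev PH := PG HNT.tab HNT.iv 1408 5

/-- letters of the permutation group -/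
noncomputable def xh : ℕ → PH := ext (xb tab iv 1408 5) 5 wd

/-- translation of letters -/
def mu (c : ℕ) : List ℕ := bif Nat.beq c 0 then [0] else bif Nat.beq c 1 then [2] else bif Nat.beq c 2 then [4] else []

theorem mu_lets : ∀ c, lets 5 (mu c) = true := by
  intro c
  unfold mu
  cases Nat.beq c 0 <;> cases Nat.beq c 1 <;> cases Nat.beq c 2 <;> rfl

theorem acts : (∀ c < 83, ∀ i < 1408, PH.subtype (xh c) i = look (tab c) i) ∧ ∀ c < 83, ∀ i < 1408, look (tab c) i < 1408 :=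
  ext_act (φ := PH.subtype) (fun c hc i hi => xb_act c_all hc hi) (fun c hc i hi => base_lt c_all hc hi) c_mac rfl

theorem hrelT : relT tab iv 1408 mu HNHRel.extraW = true := by decide +kernel

/-- the map onto the permutation group -/
theorem f0_exists : ∃ f : GrH →* PH, f (PresentedGroup.of HNH.Gen.x) = xb tab iv 1408 5 0 ∧
    f (PresentedGroup.of HNH.Gen.y) = xb tab iv 1408 5 2 ∧ f (PresentedGroup.of HNH.Gen.z) = xb tab iv 1408 5 4 := by
  have h := relT_sound (μ := mu) (l := HNHRel.extraW) c_all mu_lets hrelT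
  simp only [HNHRel.extraW, List.forall_mem_cons, Wd.eval] at h
  obtain ⟨k1, k2, k3, k4, k5, k6, k7, k8, k9, k10, _⟩ := h
  have e0 : ev (xb tab iv 1408 5) (mu 0) = xb tab iv 1408 5 0 := by
    show ev (xb tab iv 1408 5) [0] = _
    simp [ev]
  have e1 : ev (xb tab iv 1408 5) (mu 1) = xb tab iv 1408 5 2 := by
    show ev (xb tab iv 1408 5) [2] = _
    simp [ev]
  have e2 : ev (xb tab iv 1408 5) (mu 2) = xb tab iv 1408 5 4 := by
    show ev (xb tab iv 1408 5) [4] = _
    simp [ev]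
  rw [e1] at k1
  rw [e2] at k7
  simp only [e0, e1, e2] at k2 k3 k4 k5 k6 k8 k9 k10
  exact homGH ⟨⟨k1, k2, k3, k4, k5, k6⟩, k7, k8, k9, k10⟩

theorem ph_exists : Finite PH ∧ Nat.card PH = 177408000 ∧ (∀ g : PH, (∀ b ∈ base, PH.subtype g b = b) → g = 1) ∧
    ∃ ψ : PH →* GrH, Function.Bijective ψ ∧ ψ (xb tab iv 1408 5 0) = PresentedGroup.of HNH.Gen.x ∧
      ψ (xb tab iv 1408 5 2) = PresentedGroup.of HNH.Gen.y ∧ ψ (xb tab iv 1408 5 4) = PresentedGroup.of HNH.Gen.z := by
  obtain ⟨f, f0, f2, f4⟩ := f0_exists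
  have hon : Function.Surjective f := by
    apply onto_of c_all
    intro c hc
    interval_cases c
    · exact ⟨_, f0⟩
    · refine ⟨(PresentedGroup.of HNH.Gen.x)⁻¹, ?_⟩
      rw [map_inv, f0, ← xb_iv c_all (by norm_num)]; rfl
    · exact ⟨_, f2⟩
    · refine ⟨(PresentedGroup.of HNH.Gen.y)⁻¹, ?_⟩
      rw [map_inv, f2, ← xb_iv c_all (by norm_num)]; rfl
    · exact ⟨_, f4⟩
  obtain ⟨hfin, hle⟩ := card_GH
  have hfP : Finite PH := Finite.of_surjective _ hon
  have hlow := chain_ge acts.1 acts.2 _ c_chain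
  obtain ⟨hb, hc1, hc2⟩ := bij_of_card f hon hle hlow
  let e := MulEquiv.ofBijective f hb
  refine ⟨hfP, hc2, ?_, e.symm.toMonoidHom, e.symm.bijective, ?_, ?_, ?_⟩
  · intro g hg
    apply (chain_faith acts.1 acts.2 _ c_chain (le_of_eq hc2)).2 g
    intro b hb'
    apply hg
    revert hb'
    revert b
    decide
  · show e.symm _ = _
    rw [MulEquiv.symm_apply_eq]; exact f0.symm
  · show e.symm _ = _
    rw [MulEquiv.symm_apply_eq]; exact f2.symm
  · show e.symm _ = _
    rw [MulEquiv.symm_apply_eq]; exact f4.symm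

end Cfsg.Agent.Lib.HNPH
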