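import Cfsg.Agent.Lib.DceAux
import Cfsg.Agent.Lib.HNLU
import Cfsg.Agent.Lib.HNLAIdx
import Cfsg.Agent.Lib.HNSAIdx

/-!
# The subgroup `⟨x, y⟩`: order 1512000
-/

set_option autoImplicit false
set_option linter.all false

namespace Cfsg.Agent.Lib.HNPL

open Cfsg.Spor Cfsg.Agent.Lib.Dce Cfsg.Agent.Lib.BenesWord Cfsg.Agent.Lib.CosetGroup Cfsg.Agent.Lib.CoxBridge

/-- the presented group on `x, y` -/
abbrev GrL := CoxPresented HNL.Gen HNL.edges HNL.extra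
/-- the small presented group -/
abbrev GrS := CoxPresented HNS.Gen HNS.edges HNS.extra
/-- the permutation group -/
abbrev PL := PG HNLT.tab HNLT.iv 432 4

theorem card_GS : Finite GrS ∧ Nat.card GrS ≤ 24 := by
  obtain ⟨φ, f, _, _, _, _, _, _, _, _, hidx⟩ := HNSAIdx.main _ rfl
  have hq3 : (HNSRel.C.x HNSA.L0 2) ^ 3 = 1 := (HNSRel.C.rel_x HNSA.L0).2.1 (Wd.pow (Wd.g 2) 3) (by simp [HNSRel.C, HNSRel.extraW])
  refine bound_of_index hidx (by norm_num) (le_bound ?_ (zp_bound (n := 3) (by norm_num) hq3)) (by norm_num)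
  rw [Subgroup.closure_le]
  rintro _ ⟨W, hW, rfl⟩
  have : W = Wd.g 2 := by simpa [HNSAB.WS] using hW
  subst this
  exact Subgroup.mem_zpowers _

/-- relations of `GrL` in any group -/
structure RelL {G : Type*} [Group G] (x y : G) : Prop where
  y6 : y ^ 6 = 1
  b : x ^ 2 * y * x ^ 2 * y⁻¹ = 1
  c : (x⁻¹ * y⁻¹ * x * y) ^ 3 = 1
  d : (x⁻¹ * y ^ 2 * x * y ^ 3) ^ 3 = 1
  e : (x * y) ^ 8 = 1
  f : (x * y * x * y ^ 3) ^ 4 = 1

namespace RelL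
variable {G : Type*} [Group G] {x y : G} (h : RelL x y)
include h

theorem yu : y * x ^ 2 * y⁻¹ = (x ^ 2)⁻¹ := by
  have h1 : x ^ 2 * (y * x ^ 2 * y⁻¹) = 1 := by
    rw [← h.b]; simp only [mul_assoc]
  exact eq_inv_of_mul_eq_one_right h1

theorem x4 : x ^ 4 = 1 := by
  have hy := h.yu
  -- conjugation by the relator `d`
  have hy' : ∀ n : ℕ, y ^ n * x ^ 2 * (y ^ n)⁻¹ = (if n % 2 = 0 then x ^ 2 else (x ^ 2)⁻¹) := by
    intro n
    induction n with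
    | zero => simp
    | succ n ih =>
      have e1 : y ^ (n + 1) * x ^ 2 * (y ^ (n + 1))⁻¹ = y * (y ^ n * x ^ 2 * (y ^ n)⁻¹) * y⁻¹ := by
        rw [pow_succ']; group
      rw [e1, ih]
      by_cases hn : n % 2 = 0
      · rw [if_pos hn, if_neg (by omega), hy]
      · rw [if_neg hn, if_pos (by omega)]
        have : y * (x ^ 2)⁻¹ * y⁻¹ = (y * x ^ 2 * y⁻¹)⁻¹ := by group
        rw [this, hy, inv_inv]
  have h3 := hy' 3
  have h2 := hy' 2
  rw [if_neg (by norm_num)] at h3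
  rw [if_pos (by norm_num)] at h2
  set r := x⁻¹ * y ^ 2 * x * y ^ 3 with hr
  have hr1 : r * x ^ 2 * r⁻¹ = (x ^ 2)⁻¹ := by
    have e1 : r * x ^ 2 * r⁻¹ = x⁻¹ * (y ^ 2 * (x * (y ^ 3 * x ^ 2 * (y ^ 3)⁻¹) * x⁻¹) * (y ^ 2)⁻¹) * x := by rw [hr]; group
    have e2 : x * (x ^ 2)⁻¹ * x⁻¹ = (x ^ 2)⁻¹ := by group
    have e3 : y ^ 2 * (x ^ 2)⁻¹ * (y ^ 2)⁻¹ = (y ^ 2 * x ^ 2 * (y ^ 2)⁻¹)⁻¹ := by group
    rw [e1, h3, e2, e3, h2]; group
  have hr3 : r ^ 3 * x ^ 2 * (r ^ 3)⁻¹ = (x ^ 2)⁻¹ := by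
    have e1 : r ^ 3 * x ^ 2 * (r ^ 3)⁻¹ = r * (r * (r * x ^ 2 * r⁻¹) * r⁻¹) * r⁻¹ := by
      have : r ^ 3 = r * (r * r) := by rw [pow_succ', pow_two]
      rw [this]
      simp only [mul_inv_rev, mul_assoc]
    have e2 : r * (x ^ 2)⁻¹ * r⁻¹ = (r * x ^ 2 * r⁻¹)⁻¹ := by group
    rw [e1, hr1, e2, hr1, inv_inv, hr1]
  rw [h.d] at hr3
  simp only [one_mul, inv_one, mul_one] at hr3
  have : x ^ 4 = x ^ 2 * x ^ 2 := by group
  rw [this]
  nth_rewrite 1 [hr3]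
  group

theorem uy : x ^ 2 * y = y * x ^ 2 := by
  have h1 := h.yu
  have h2 : (x ^ 2)⁻¹ = x ^ 2 := by
    have := h.x4
    rw [inv_eq_iff_mul_eq_one, ← pow_add]; exact this
  rw [h2] at h1
  rw [mul_inv_eq_iff_eq_mul] at h1
  exact h1.symm

end RelL

theorem relGL : RelL (PresentedGroup.of HNL.Gen.x : GrL) (PresentedGroup.of HNL.Gen.y) := by
  have h := (HNLRel.C.rel_x []).2.1
  have hx : HNLRel.C.x [] 0 = (PresentedGroup.of HNL.Gen.x : GrL) := HNLRel.C.x_of_lt [] (by decide)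
  have hy : HNLRel.C.x [] 1 = (PresentedGroup.of HNL.Gen.y : GrL) := HNLRel.C.x_of_lt [] (by decide)
  have key : ∀ W ∈ HNLRel.extraW, W.eval (HNLRel.C.x []) = 1 := h
  simp only [HNLRel.extraW, List.forall_mem_cons, Wd.eval, hx, hy] at key
  obtain ⟨k1, k2, k3, k4, k5, k6, k7, _⟩ := key
  exact ⟨k1, k2, k3, k4, k5, k6⟩

/-- homomorphisms out of `GrL` -/
theorem homGL {G : Type*} [Group G] {x y : G} (h : RelL x y) :
    ∃ f : GrL →* G, f (PresentedGroup.of HNL.Gen.x) = x ∧ f (PresentedGroup.of HNL.Gen.y) = y := by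
  obtain ⟨f, hf⟩ := HNLRel.C.hom (fun c => if c = 0 then x else y) (fun i hi => absurd hi (by simp [HNLRel.C]))
    (by intro W hW; exact absurd (show W ∈ HNLRel.coxW from HNLRel.coxW_eq ▸ hW) (by simp [HNLRel.coxW])) (by
      show ∀ W ∈ HNLRel.extraW, _
      simp only [HNLRel.extraW, List.forall_mem_cons, Wd.eval]
      exact ⟨h.y6, h.b, h.c, h.d, h.e, h.f, h.x4, by simp⟩)
  exact ⟨f, hf 0 (by decide), hf 1 (by decide)⟩

/-- homomorphism out of the small group -/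
theorem homGS {G : Type*} [Group G] {x y : G} (h : RelL x y) :
    ∃ f : GrS →* G, f (PresentedGroup.of HNS.Gen.u) = x ^ 2 ∧ f (PresentedGroup.of HNS.Gen.s) = x⁻¹ * y ^ 3 * x ∧
      f (PresentedGroup.of HNS.Gen.q) = y ^ 2 := by
  have hx4 := h.x4
  have hu : Commute (x ^ 2) y := h.uy
  have hux : Commute (x ^ 2) x := (Commute.refl x).pow_left 2
  have huu : x ^ 2 * x ^ 2 = 1 := by rw [← pow_add]; exact hx4
  have hss : (x⁻¹ * y ^ 3 * x) * (x⁻¹ * y ^ 3 * x) = 1 := by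
    have : (x⁻¹ * y ^ 3 * x) * (x⁻¹ * y ^ 3 * x) = x⁻¹ * y ^ 6 * x := by group
    rw [this, h.y6]; group
  have hus : Commute (x ^ 2) (x⁻¹ * y ^ 3 * x) :=
    ((hux.inv_right).mul_right (hu.pow_right 3)).mul_right hux
  have hq3 : (y ^ 2) ^ 3 = 1 := by rw [← pow_mul]; exact h.y6
  have hxs : x * y ^ 3 * x⁻¹ = x⁻¹ * y ^ 3 * x := by
    have e1 : x⁻¹ * y ^ 3 * x = x⁻¹ * (x ^ 2 * y ^ 3 * (x ^ 2)⁻¹) * x := by
      rw [(hu.pow_right 3).eq]; group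
    rw [e1]; group
  have hqs : (y ^ 2 * (x⁻¹ * y ^ 3 * x)) ^ 3 = 1 := by
    rw [← hxs]
    have e1 : (y ^ 2 * (x * y ^ 3 * x⁻¹)) ^ 3 = x * (x⁻¹ * y ^ 2 * x * y ^ 3) ^ 3 * x⁻¹ := by
      have : y ^ 2 * (x * y ^ 3 * x⁻¹) = x * (x⁻¹ * y ^ 2 * x * y ^ 3) * x⁻¹ := by group
      rw [this, conj_pow]
    rw [e1, h.d]; group
  have huq : Commute (x ^ 2) (y ^ 2) := hu.pow_right 2
  let y' : ℕ → G := fun c => if c = 0 then x ^ 2 else if c = 1 then x⁻¹ * y ^ 3 * x else y ^ 2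
  obtain ⟨f, hf⟩ := HNSRel.C.hom y' (by
      intro i hi
      change i < 2 at hi
      interval_cases i
      · exact huu
      · exact hss)
    (by
      intro W hW
      have hW' : W ∈ HNSRel.coxW := HNSRel.coxW_eq ▸ hW
      simp only [HNSRel.coxW, List.mem_cons, List.not_mem_nil, or_false] at hW'
      subst hW'
      show (x ^ 2 * (x⁻¹ * y ^ 3 * x)) ^ 2 = 1
      rw [hus.mul_pow, pow_two (x ^ 2), huu, pow_two, hss, one_mul]) (by
      show ∀ W ∈ HNSRel.extraW, _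
      simp only [HNSRel.extraW, List.forall_mem_cons, Wd.eval]
      refine ⟨hq3, hqs, ?_, by simp⟩
      show x ^ 2 * y ^ 2 * x ^ 2 * (y ^ 2)⁻¹ = 1
      rw [huq.eq, mul_assoc (y ^ 2), huu, mul_one, mul_inv_cancel])
  exact ⟨f, hf 0 (by decide), hf 1 (by decide), hf 2 (by decide)⟩

theorem card_GL : Finite GrL ∧ Nat.card GrL ≤ 1512000 := by
  obtain ⟨φ, f, _, _, _, _, _, _, _, _, hidx⟩ := HNLAIdx.main _ rfl
  obtain ⟨g, g1, g2, g3⟩ := homGS relGL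
  refine bound_of_index hidx (by norm_num) (le_bound ?_ (range_bound g card_GS)) (by norm_num)
  rw [Subgroup.closure_le]
  have hx : HNLRel.C.x HNLA.L0 0 = (PresentedGroup.of HNL.Gen.x : GrL) := HNLRel.C.x_of_lt _ (by decide)
  have hy : HNLRel.C.x HNLA.L0 1 = (PresentedGroup.of HNL.Gen.y : GrL) := HNLRel.C.x_of_lt _ (by decide)
  have k2 := HNLA.x_further 2 (by decide)
  have k4 := HNLA.x_further 4 (by decide)
  have k6 := HNLA.x_further 6 (by decide)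
  rintro _ ⟨W, hW, rfl⟩
  simp only [HNLAB.WS, List.mem_cons, List.not_mem_nil, or_false] at hW
  rcases hW with rfl | rfl | rfl
  · exact ⟨PresentedGroup.of HNS.Gen.s, by rw [g2]; exact (by simpa [HNLAB.xw, Wd.eval, hx, hy] using k2)⟩
  · exact ⟨PresentedGroup.of HNS.Gen.q, by rw [g3]; exact (by simpa [HNLAB.xw, Wd.eval, hx, hy] using k4)⟩
  · exact ⟨PresentedGroup.of HNS.Gen.u, by rw [g1]; exact (by simpa [HNLAB.xw, Wd.eval, hx, hy] using k6)⟩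

end Cfsg.Agent.Lib.HNPL
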