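import Cfsg.Agent.Lib.HNPL

/-!
# The group `⟨x, y, z⟩`: order at most 177408000
-/

set_option autoImplicit false
set_option linter.all false
set_option maxRecDepth 100000

namespace Cfsg.Agent.Lib.HNPL

open Cfsg.Spor Cfsg.Agent.Lib.Dce Cfsg.Agent.Lib.BenesWord Cfsg.Agent.Lib.CosetGroup Cfsg.Agent.Lib.CoxBridge
open Cfsg.Agent.Lib.HNLT Cfsg.Agent.Lib.HNLU

/-- letters of the permutation group -/
noncomputable def xl : ℕ → PL := ext (xb tab iv 432 4) 4 wd

/-- translation of letters -/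
def mu (c : ℕ) : List ℕ := bif Nat.beq c 0 then [0] else bif Nat.beq c 1 then [2] else []

theorem mu_lets : ∀ c, lets 4 (mu c) = true := by
  intro c
  unfold mu
  cases Nat.beq c 0 <;> cases Nat.beq c 1 <;> rfl

theorem acts : (∀ c < 60, ∀ i < 432, PL.subtype (xl c) i = look (tab c) i) ∧ ∀ c < 60, ∀ i < 432, look (tab c) i < 432 :=
  ext_act (φ := PL.subtype) (fun c hc i hi => xb_act c_all hc hi) (fun c hc i hi => base_lt c_all hc hi) c_mac rfl

/-- the map onto the permutation group -/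
theorem f0_exists : ∃ f : GrL →* PL, f (PresentedGroup.of HNL.Gen.x) = xb tab iv 432 4 0 ∧
    f (PresentedGroup.of HNL.Gen.y) = xb tab iv 432 4 2 := by
  have h := relT_sound (μ := mu) (l := HNLRel.extraW) c_all mu_lets (by decide +kernel)
  simp only [HNLRel.extraW, List.forall_mem_cons, Wd.eval] at h
  obtain ⟨k1, k2, k3, k4, k5, k6, k7, _⟩ := h
  have e0 : ev (xb tab iv 432 4) (mu 0) = xb tab iv 432 4 0 := by simp [mu, ev]
  have e1 : ev (xb tab iv 432 4) (mu 1) = xb tab iv 432 4 2 := by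
    show ev (xb tab iv 432 4) [2] = _
    simp [ev]
  rw [e1] at k1
  simp only [e0, e1] at k2 k3 k4 k5 k6
  exact homGL ⟨k1, k2, k3, k4, k5, k6⟩

theorem pl_exists : Finite PL ∧ Nat.card PL = 1512000 ∧ (∀ g : PL, (∀ b ∈ base, PL.subtype g b = b) → g = 1) ∧
    ∃ ψ : PL →* GrL, ψ (xb tab iv 432 4 0) = PresentedGroup.of HNL.Gen.x ∧ ψ (xb tab iv 432 4 2) = PresentedGroup.of HNL.Gen.y := by
  obtain ⟨f, f0, f2⟩ := f0_exists
  have hon : Function.Surjective f := by
    apply onto_of c_all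
    intro c hc
    interval_cases c
    · exact ⟨_, f0⟩
    · refine ⟨(PresentedGroup.of HNL.Gen.x)⁻¹, ?_⟩
      rw [map_inv, f0, ← xb_iv c_all (by norm_num)]; rfl
    · exact ⟨_, f2⟩
    · refine ⟨(PresentedGroup.of HNL.Gen.y)⁻¹, ?_⟩
      rw [map_inv, f2, ← xb_iv c_all (by norm_num)]; rfl
  obtain ⟨hfin, hle⟩ := card_GL
  have hfP : Finite PL := Finite.of_surjective _ hon
  have hlow := chain_ge acts.1 acts.2 _ c_chain
  obtain ⟨hb, hc1, hc2⟩ := bij_of_card f hon hle hlow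
  let e := MulEquiv.ofBijective f hb
  refine ⟨hfP, hc2, ?_, e.symm.toMonoidHom, ?_, ?_⟩
  · intro g hg
    apply (chain_faith acts.1 acts.2 _ c_chain (le_of_eq hc2)).2 g
    intro b hb'
    apply hg
    revert hb'
    revert b
    decide
  · show e.symm _ = _
    rw [MulEquiv.symm_apply_eq]; exact f0.symm
  · show e.symm _ = _
    rw [MulEquiv.symm_apply_eq]; exact f2.symm

end Cfsg.Agent.Lib.HNPL
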