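import Cfsg.Agent.Lib.HNPL2
import Cfsg.Agent.Lib.DceAux2

/-!
# The group `⟨x, y, z⟩`: order at most 177408000
-/

set_option autoImplicit false
set_option linter.all false
set_option maxRecDepth 100000

namespace Cfsg.Agent.Lib.HNPL

open Cfsg.Spor Cfsg.Agent.Lib.Dce Cfsg.Agent.Lib.BenesWord Cfsg.Agent.Lib.CosetGroup Cfsg.Agent.Lib.CoxBridge
open Cfsg.Agent.Lib.HNLT Cfsg.Agent.Lib.HNLU

/-- relations of `⟨x, y, z⟩` -/
structure RelH {G : Type*} [Group G] (x y z : G) : Prop where
  l : RelL x y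
  z2 : z ^ 2 = 1
  zx : (z * x) ^ 2 = 1
  zb : (z⁻¹ * (y * x * y * x * (y ^ 2) * x * (y⁻¹))⁻¹ * z * (y * x * y * x * (y ^ 2) * x * (y⁻¹))) * ((x ^ 2)⁻¹) = 1
  zg : z * (((((y ^ 3) * x * y * x * y)⁻¹ * z * ((y ^ 3) * x * y * x * y)) * x) ^ 3) = 1

theorem swap_inv {G : Type*} [Group G] {z b c : G} (h : z * b = c * z) : z * b⁻¹ = c⁻¹ * z := by
  have : c = z * b * z⁻¹ := eq_mul_inv_of_mul_eq h.symm
  subst this
  group

theorem hm : ∀ (g : PL) (i : ℕ), i < 50 → PL.subtype g i < 50 := PG_block c_all (by norm_num) (by decide +kernel)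

theorem hiv : ∀ c < 4, xl (iv c) = (xl c)⁻¹ := by
  intro c hc
  have h1 : xl c = xb tab iv 432 4 c := ext_lt hc
  have h2 : xl (iv c) = xb tab iv 432 4 (iv c) := ext_lt (allI_spec c_all c hc).2.1
  rw [h1, h2, xb_iv c_all hc]

theorem card_H {G : Type*} [Group G] {x y z : G} (h : RelH x y z) (hgen : Subgroup.closure {x, y, z} = ⊤) :
    Finite G ∧ Nat.card G ≤ 177408000 := by
  obtain ⟨hfP, hcP, hfaith, ψ0, p0, p2⟩ := pl_exists
  obtain ⟨f, f0, f2⟩ := homGL h.l
  set ψ : PL →* G := f.comp ψ0 with hψ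
  have q0 : ψ (xl 0) = x := by
    rw [show xl 0 = xb tab iv 432 4 0 from ext_lt (by norm_num), hψ, MonoidHom.comp_apply, p0, f0]
  have q2 : ψ (xl 2) = y := by
    rw [show xl 2 = xb tab iv 432 4 2 from ext_lt (by norm_num), hψ, MonoidHom.comp_apply, p2, f2]
  have q1 : ψ (xl 1) = x⁻¹ := by
    rw [show xl 1 = (xl 0)⁻¹ from hiv 0 (by norm_num), map_inv, q0]
  have q3 : ψ (xl 3) = y⁻¹ := by
    rw [show xl 3 = (xl 2)⁻¹ from hiv 2 (by norm_num), map_inv, q2]
  have hw : ∀ w : List ℕ, lets 4 w = true → ev (xb tab iv 432 4) w = ev xl w := fun w hw => (ev_ext hw).symm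
  have q7 : ψ (xl 7) = y * x * y * x * (y ^ 2) * x * (y⁻¹) := by
    rw [show xl 7 = ev (xb tab iv 432 4) [2, 0, 2, 0, 2, 2, 0, 3] from rfl, hw _ rfl]
    simp only [ev_cons, ev_nil, map_mul, q0, q1, q2, q3, mul_one, pow_two, mul_assoc]
  have eqw : ∀ u v : List ℕ, eqP tab 60 base u v = true → ev xl u = ev xl v := fun u v huv =>
    eqP_sound (m := 432) acts.1 acts.2 (by intro b hb; revert hb; revert b; decide) hfaith huv
  have q6 : ψ (xl 6) = x ^ 2 := by
    rw [show xl 6 = ev (xb tab iv 432 4) [0, 0] from rfl, hw _ rfl]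
    simp only [ev_cons, ev_nil, map_mul, q0, mul_one, pow_two]
  have q8 : ψ (xl 8) = (ψ (xl 7))⁻¹ := by
    have := eqw [8, 7] [] (by decide +kernel)
    simp only [ev_cons, ev_nil, mul_one] at this
    rw [← map_inv, eq_inv_of_mul_eq_one_left this]
  have q14 : ψ (xl 14) = ψ (xl 7) * x ^ 2 := by
    have := eqw [14] [7, 6] (by decide +kernel)
    simp only [ev_cons, ev_nil, mul_one] at this
    rw [← q6, ← map_mul, this]
  have q13 : ψ (xl 13) = (ψ (xl 14))⁻¹ := by
    have := eqw [13, 14] [] (by decide +kernel)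
    simp only [ev_cons, ev_nil, mul_one] at this
    rw [← map_inv, eq_inv_of_mul_eq_one_left this]
  set b := ψ (xl 7) with hb
  have hx4 := h.l.x4
  have hzz : z * z = 1 := by rw [← pow_two]; exact h.z2
  have hzi : z⁻¹ = z := inv_eq_of_mul_eq_one_left hzz
  have hzx : z * x = x⁻¹ * z := by
    have := h.zx
    rw [pow_two] at this
    have h1 : z * x * z = x⁻¹ := eq_inv_of_mul_eq_one_left (by rw [← this]; group)
    rw [← h1, mul_assoc (z * x), hzz, mul_one]
  have hzX : z * x⁻¹ = x * z := by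
    have h1 : z * (z * x) * z = z * (x⁻¹ * z) * z := by rw [hzx]
    rw [← mul_assoc z z, hzz, one_mul, ← mul_assoc z x⁻¹ z, mul_assoc (z * x⁻¹), hzz, mul_one] at h1
    exact h1.symm
  have hzb : z * b = (b * x ^ 2) * z := by
    have h1 := h.zb
    rw [← q7, hzi, mul_inv_eq_one] at h1
    have hxx : z * x ^ 2 = x ^ 2 * z := by
      have h5 : (x ^ 2)⁻¹ = x ^ 2 := by rw [inv_eq_iff_mul_eq_one, ← pow_add]; exact hx4
      calc z * x ^ 2 = z * x * x := by rw [pow_two, mul_assoc]
        _ = x⁻¹ * z * x := by rw [hzx]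
        _ = x⁻¹ * (z * x) := by rw [mul_assoc]
        _ = (x ^ 2)⁻¹ * z := by rw [hzx, pow_two, mul_inv_rev, mul_assoc]
        _ = x ^ 2 * z := by rw [h5]
    have h2 : z * b = b * z * (z * b⁻¹ * z * b) := by
      have : b * z * (z * b⁻¹ * z * b) = b * (z * z) * (b⁻¹ * (z * b)) := by simp only [mul_assoc]
      rw [this, hzz, mul_one, mul_inv_cancel_left]
    rw [h2, h1, mul_assoc, hxx, ← mul_assoc]
  have hK0 : Nat.card (Subgroup.map ψ (Gl xl [4, 5, 6])) ≤ 4000 ∧ Finite (Subgroup.map ψ (Gl xl [4, 5, 6])) := by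
    have h1 := chainU_sound acts.1 acts.2 (by intro b hb; revert hb; revert b; decide) hfaith c_uk
    rw [c_szk] at h1
    have hsur := (ψ.subgroupMap_surjective (Gl xl [4, 5, 6]))
    exact ⟨le_trans (Nat.card_le_card_of_surjective _ hsur) h1, Finite.of_surjective _ hsur⟩
  have hmain := upper_main (base := base) (ph := ph) (phI := phI) (iv := iv) acts.1 acts.2
    (by intro b hb; revert hb; revert b; decide) hfaith ψ z (Subgroup.map ψ (Gl xl [4, 5, 6]))
    (by
      intro p hp
      simp only [ph, List.mem_cons, List.not_mem_nil, or_false] at hp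
      rcases hp with rfl | rfl | rfl | rfl
      · show z * ψ (xl 0) = ψ (xl 1) * z
        rw [q0, q1]; exact hzx
      · show z * ψ (xl 7) = ψ (xl 14) * z
        rw [q14]; exact hzb
      · show z * ψ (xl 1) = ψ (xl 0) * z
        rw [q0, q1]; exact hzX
      · show z * ψ (xl 8) = ψ (xl 13) * z
        rw [q13, q14, q8]; exact swap_inv hzb)
    (by decide) (rels := rels) (by
      intro r hr
      simp only [rels, List.mem_cons, List.not_mem_nil, or_false] at hr
      rcases hr with rfl | rfl | rfl | rfl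
      · simp only [seqG, tokG, one_mul, hzz]
      · simp only [seqG, tokG, one_mul, ev_cons, ev_nil, map_mul, q0, q1, q2, q3, mul_one]
        have h1 := h.zg
        have e : (y ^ 3 * x * y * x * y) = y * (y * (y * (x * (y * (x * y))))) := by
          simp only [pow_succ, pow_zero, one_mul, mul_assoc]
        rw [e] at h1
        set g := y * (y * (y * (x * (y * (x * y))))) with hg
        have e1 : y * (y * (y * (x * (y * (x * (y * x)))))) = g * x := by rw [hg]; simp only [mul_assoc]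
        have e2 : y⁻¹ * (x⁻¹ * (y⁻¹ * (x⁻¹ * (y⁻¹ * (y⁻¹ * y⁻¹))))) = g⁻¹ := by
          rw [hg]; simp only [mul_inv_rev, mul_assoc]
        have e3 : y * (y * (y * (x * (y * (x * (y * (x * g⁻¹))))))) = g * x * g⁻¹ := by
          rw [← e1]; simp only [mul_assoc]
        rw [e1, e2, e3]
        have h2 : (g⁻¹ * z * g * x) ^ 3 = z⁻¹ := eq_inv_of_mul_eq_one_right h1
        have h3 : g⁻¹ * z * (g * x * g⁻¹) * z * (g * x * g⁻¹) * z * (g * x) * z = (g⁻¹ * z * g * x) ^ 3 * z := by
          rw [pow_succ, pow_two]; group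
        rw [h3, h2, inv_mul_cancel]
      · simp only [seqG, tokG, one_mul, inv_mul_cancel]
      · simp only [seqG, tokG, one_mul, mul_inv_cancel]) (n0 := 4) hiv (by decide) (by
      intro K hP hz
      rw [eq_top_iff, ← hgen, Subgroup.closure_le]
      rintro _ (rfl | rfl | rfl)
      · rw [← q0]; exact hP _
      · rw [← q2]; exact hP _
      · exact hz) (init := init) (by
      intro s hs
      exact Subgroup.mem_map_of_mem ψ (Subgroup.subset_closure ⟨s, hs, rfl⟩)) c_ds (runE_sound c_run) (k := 6) (pt := 0) (mo := 50) (by norm_num) c_j (by norm_num) hm (by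
      intro i hi
      interval_cases i
      · exact cover_sound acts.1 acts.2 c_cov0
      · exact cover_sound acts.1 acts.2 c_cov1
      · exact cover_sound acts.1 acts.2 c_cov2
      · exact cover_sound acts.1 acts.2 c_cov3
      · exact cover_sound acts.1 acts.2 c_cov4
      · exact cover_sound acts.1 acts.2 c_cov5) (by
      exact (stab_of (φ := PL.subtype) (N := 1512000) (b := 30240) (pt := 0) acts.1 acts.2 (le_of_eq hcP) (by norm_num) c_ptg0
        (chainH_card acts.1 acts.2 (K := Bs xl ph) (by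
          intro w hw
          obtain ⟨p, hp, rfl⟩ := List.mem_map.mp hw
          rw [ev_cons, ev_nil, mul_one]
          exact Subgroup.subset_closure ⟨p, hp, rfl⟩) _ c_bb)
        (Bs_fix (xs := xl) (φ := PL.subtype) (ph := ph) (pt := 0) acts.1 acts.2 (by norm_num) (by decide +kernel)) (by norm_num) (by norm_num)).1)
  have i0 := index_le (n := 126) hcP (chainH_card acts.1 acts.2 (allIn_spec c_g0) _ c_ch0) (by norm_num) (by norm_num)
  have i1 := index_le (n := 6300) hcP (chainH_card acts.1 acts.2 (allIn_spec c_g1) _ c_ch1) (by norm_num) (by norm_num)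
  have i2 := index_le (n := 6300) hcP (chainH_card acts.1 acts.2 (allIn_spec c_g2) _ c_ch2) (by norm_num) (by norm_num)
  have i3 := index_le (n := 126) hcP (chainH_card acts.1 acts.2 (allIn_spec c_g3) _ c_ch3) (by norm_num) (by norm_num)
  have i4 := index_le (n := 15750) hcP (chainH_card acts.1 acts.2 (allIn_spec c_g4) _ c_ch4) (by norm_num) (by norm_num)
  have i5 := index_le (n := 15750) hcP (chainH_card acts.1 acts.2 (allIn_spec c_g5) _ c_ch5) (by norm_num) (by norm_num)
  refine bound_of_quot (n := 44352) ⟨hmain.1, le_trans hmain.2 ?_⟩ ⟨hK0.2, hK0.1⟩ (by norm_num)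
  rw [Fin.sum_univ_six]
  simp only [Fin.val_zero, Fin.val_one, Fin.val_two]
  have := add_le_add (add_le_add (add_le_add (add_le_add (add_le_add i0 i1) i2) i3) i4) i5
  exact this

end Cfsg.Agent.Lib.HNPL
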