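import Cfsg.Prelude.Def_SporCoxeter

set_option autoImplicit false
set_option linter.all false

namespace Cfsg.Agent.Lib.HNS
open Cfsg.Spor

/-- generators -/
inductive Gen
  | u
  | s
  | q
  deriving DecidableEq

/-- edges of the diagram -/
def edges : List (Gen × ℕ × Gen) :=
  [(.u, 2, .s)]

/-- further relators -/
def extra : List (FreeGroup Gen) := [
  ((FreeGroup.of Gen.q) ^ 3),
  (((FreeGroup.of Gen.q) * (FreeGroup.of Gen.s)) ^ 3),
  ((((FreeGroup.of Gen.u) * (FreeGroup.of Gen.q)) * (FreeGroup.of Gen.u)) * ((FreeGroup.of Gen.q))⁻¹)]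

end Cfsg.Agent.Lib.HNS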