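import Cfsg.Agent.Lib.HNSAB

set_option autoImplicit false
set_option linter.all false
set_option maxRecDepth 100000
set_option Elab.async false

namespace Cfsg.Agent.Lib.HNSAC0
open Cfsg.Spor Cfsg.Agent.Lib.BenesPerm Cfsg.Agent.Lib.BenesAct Cfsg.Agent.Lib.BenesWord
open Cfsg.Agent.Lib.BenesPlane Cfsg.Agent.Lib.CosetClosure Cfsg.Agent.Lib.CosetFacts
open Cfsg.Agent.Lib.CosetMain Cfsg.Agent.Lib.CoxBridge Cfsg.Agent.Lib.CosetGroup Cfsg.Agent.Lib.CosetInst Cfsg.Agent.Lib.CosetInj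
open Cfsg.Agent.Lib.BenesPack Cfsg.Agent.Lib.CosetPack Cfsg.Agent.Lib.CosetChain Cfsg.Agent.Lib.CosetWide Cfsg.Agent.Lib.CosetWide2
open Cfsg.Agent.Lib.HNSRel Cfsg.Agent.Lib.HNSAN0 Cfsg.Agent.Lib.HNSAR0 Cfsg.Agent.Lib.HNSAD Cfsg.Agent.Lib.HNSAB

noncomputable def cl0_0 : Nat := (nat_lit 0x94)
noncomputable def cl0_1 : Nat := (nat_lit 0xa0)
noncomputable def cl0_2 : Nat := (nat_lit 0xa2)
noncomputable def cl0 : Net := (Net.cons (nat_lit 0) cl0_0 (Net.cons (nat_lit 1) cl0_1 (Net.cons (nat_lit 2) cl0_2 Net.nil)))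
def simd0 : List (Wd × ℕ) := [((Wd.pow (Wd.g 2) 3), 1), ((Wd.pow (Wd.mul (Wd.g 0) (Wd.g 1)) 2), 2), ((Wd.mul (Wd.mul (Wd.mul (Wd.g 0) (Wd.g 2)) (Wd.g 0)) (Wd.inv (Wd.g 2))), 4), ((Wd.pow (Wd.mul (Wd.g 2) (Wd.g 1)) 3), 2)]
theorem cov0 : relsMK nets ivx R 2 (simd0.map (splitW ivx)) Net.nil (claimK cl0) = true := by decide +kernel
theorem slet0 : simdLetK ivx 4 simd0 = true := by decide +kernel
theorem smem0 : ∀ q ∈ simd0, q.1 ∈ wrels := by decide +kernel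


end Cfsg.Agent.Lib.HNSAC0
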