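import Cfsg.Agent.Lib.CosetFacts

set_option autoImplicit false
set_option linter.all false
set_option maxRecDepth 100000

namespace Cfsg.Agent.Lib.HNSAD
open Cfsg.Agent.Lib.BenesPerm Cfsg.Agent.Lib.CosetFacts

noncomputable def d0 : Nat := (nat_lit 0x2)
noncomputable def d1 : Nat := (nat_lit 0xc)
noncomputable def d2 : Nat := (nat_lit 0x50)
noncomputable def d3 : Nat := (nat_lit 0xa0)
noncomputable def D : Net := (Net.cons (nat_lit 0) d0 (Net.cons (nat_lit 1) d1 (Net.cons (nat_lit 2) d2 (Net.cons (nat_lit 3) d3 Net.nil))))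
noncomputable def Tp0 : Nat := (nat_lit 0x300000000000)
noncomputable def T : Tr := (Tr.leaf Tp0)
noncomputable def DTp0 : Nat := (nat_lit 0x0)
noncomputable def DT : Tr := (Tr.leaf DTp0)
noncomputable def E : Ex := (Ex.cons (nat_lit 3) (nat_lit 0) (nat_lit 0) Ex.nil)
noncomputable def nd : Nat := (nat_lit 0)

end Cfsg.Agent.Lib.HNSAD
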