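import Cfsg.Agent.Lib.BenesPerm

set_option autoImplicit false
set_option linter.all false
set_option maxRecDepth 100000

namespace Cfsg.Agent.Lib.HNSAN0
open Cfsg.Agent.Lib.BenesPerm

noncomputable def m0_0 : Nat := (nat_lit 0x5)
noncomputable def m0_1 : Nat := (nat_lit 0x30)
noncomputable def n0 : Net := (Net.cons (nat_lit 1) m0_0 (Net.cons (nat_lit 2) m0_1 Net.nil))
noncomputable def m1_0 : Nat := (nat_lit 0x50)
noncomputable def m1_1 : Nat := (nat_lit 0x3)
noncomputable def n1 : Net := (Net.cons (nat_lit 1) m1_0 (Net.cons (nat_lit 2) m1_1 Net.nil))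
noncomputable def m2_0 : Nat := (nat_lit 0x10)
noncomputable def m2_1 : Nat := (nat_lit 0x10)
noncomputable def m2_2 : Nat := (nat_lit 0xc)
noncomputable def m2_3 : Nat := (nat_lit 0x10)
noncomputable def m2_4 : Nat := (nat_lit 0x40)
noncomputable def n2 : Net := (Net.cons (nat_lit 1) m2_0 (Net.cons (nat_lit 2) m2_1 (Net.cons (nat_lit 4) m2_2 (Net.cons (nat_lit 2) m2_3 (Net.cons (nat_lit 1) m2_4 Net.nil)))))
noncomputable def m3_0 : Nat := (nat_lit 0x40)
noncomputable def m3_1 : Nat := (nat_lit 0x10)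
noncomputable def m3_2 : Nat := (nat_lit 0xc)
noncomputable def m3_3 : Nat := (nat_lit 0x10)
noncomputable def m3_4 : Nat := (nat_lit 0x10)
noncomputable def n3 : Net := (Net.cons (nat_lit 1) m3_0 (Net.cons (nat_lit 2) m3_1 (Net.cons (nat_lit 4) m3_2 (Net.cons (nat_lit 2) m3_3 (Net.cons (nat_lit 1) m3_4 Net.nil)))))

end Cfsg.Agent.Lib.HNSAN0
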