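import Cfsg.Agent.Lib.BenesPerm

set_option autoImplicit false
set_option linter.all false
set_option maxRecDepth 100000

namespace Cfsg.Agent.Lib.HNSAR0

noncomputable def r0_0 : Nat := (nat_lit 0xc)
noncomputable def r0_1 : Nat := (nat_lit 0xf0)
noncomputable def r0 : List Nat := (List.cons r0_0 (List.cons r0_1 List.nil))
noncomputable def r1_0 : Nat := (nat_lit 0x30)
noncomputable def r1_1 : Nat := (nat_lit 0xc0)
noncomputable def r1 : List Nat := (List.cons r1_0 (List.cons r1_1 List.nil))
noncomputable def r2_0 : Nat := (nat_lit 0xa2)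
noncomputable def r2_1 : Nat := (nat_lit 0x0)
noncomputable def r2 : List Nat := (List.cons r2_0 (List.cons r2_1 List.nil))
noncomputable def r3_0 : Nat := (nat_lit 0x52)
noncomputable def r3_1 : Nat := (nat_lit 0x0)
noncomputable def r3 : List Nat := (List.cons r3_0 (List.cons r3_1 List.nil))

end Cfsg.Agent.Lib.HNSAR0
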