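import Cfsg.Agent.Lib.HNSRel
import Cfsg.Agent.Lib.CosetWide2
import Cfsg.Agent.Lib.HNSAN0
import Cfsg.Agent.Lib.HNSAR0
import Cfsg.Agent.Lib.HNSAD

set_option autoImplicit false
set_option linter.all false
set_option maxRecDepth 100000

namespace Cfsg.Agent.Lib.HNSAB
open Cfsg.Spor Cfsg.Agent.Lib.BenesPerm Cfsg.Agent.Lib.BenesAct Cfsg.Agent.Lib.BenesWord
open Cfsg.Agent.Lib.BenesPlane Cfsg.Agent.Lib.CosetClosure Cfsg.Agent.Lib.CosetFacts
open Cfsg.Agent.Lib.CosetMain Cfsg.Agent.Lib.CoxBridge Cfsg.Agent.Lib.CosetGroup Cfsg.Agent.Lib.CosetInst Cfsg.Agent.Lib.CosetInj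
open Cfsg.Agent.Lib.BenesPack Cfsg.Agent.Lib.CosetPack Cfsg.Agent.Lib.CosetChain Cfsg.Agent.Lib.CosetWide Cfsg.Agent.Lib.CosetWide2
open Cfsg.Agent.Lib.HNSRel Cfsg.Agent.Lib.HNSAN0 Cfsg.Agent.Lib.HNSAR0 Cfsg.Agent.Lib.HNSAD

/-- the networks -/
noncomputable def nets : List Net := [n0, n1, n2, n3]

/-- the ranks -/
noncomputable def R : List (List Nat) := (List.cons r0 (List.cons r1 (List.cons r2 (List.cons r3 List.nil))))

/-- inverse letters -/
noncomputable def ivx : ℕ → ℕ := ivOf [0, 1, 3, 2]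

/-- words of the further letters -/
def xw : List Wd := [(Wd.inv (Wd.g 2))]

/-- relators -/
def wrels : List Wd := [(Wd.pow (Wd.mul (Wd.g 0) (Wd.g 1)) 2),
  (Wd.pow (Wd.g 2) 3),
  (Wd.pow (Wd.mul (Wd.g 2) (Wd.g 1)) 3),
  (Wd.mul (Wd.mul (Wd.mul (Wd.g 0) (Wd.g 2)) (Wd.g 0)) (Wd.inv (Wd.g 2)))]

/-- relations of the lanes -/
def eqs0 : List (List ℕ × List ℕ) := [([0, 0], []), ([1, 1], []), ([3, 2], []), ([2, 3], []), ([0, 1], [1, 0]), ([2, 2], [3]), ([2, 1, 2], [1, 3, 1]), ([0, 2], [2, 0])]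

/-- all relations of the lanes -/
def eqs : List (List ℕ × List ℕ) := eqs0

/-- words for the subgroup -/
def WS : List Wd := [(Wd.g 2)]

/-- all scripts -/
noncomputable def scr : Scr := Scr.nil

/-- trivial relators -/
def wtriv : List Wd := [Wd.mul (Wd.g 0) (Wd.g 0), Wd.mul (Wd.g 1) (Wd.g 1), Wd.mul (Wd.g 2) (Wd.g 3), Wd.mul (Wd.g 3) (Wd.g 2)]

/-- patterns -/
def pats : List Wd := wtriv ++ (rels ++ rels.map Wd.inv)

/-- patterns as lists of letters -/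
noncomputable def patL : List (List ℕ) := pats.map (fun W => (W.flat ivx).reverse)

theorem c_wok : wOK 3 xw rels wrels = true := by decide +kernel
theorem c_wback : wBack 3 xw rels wrels = true := by decide +kernel
theorem c_inv_sub : ∀ q ∈ invPairs ivx 4, q ∈ eqs := by decide +kernel
theorem c_rel_sub : ∀ q ∈ wrels.map (halfW ivx), q ∈ eqs := by decide +kernel

end Cfsg.Agent.Lib.HNSAB
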