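import Cfsg.Agent.Lib.HNS
import Cfsg.Agent.Lib.CosetGroup

set_option autoImplicit false
set_option linter.all false

namespace Cfsg.Agent.Lib.HNSRel

open Cfsg.Spor Cfsg.Agent.Lib.BenesPerm Cfsg.Agent.Lib.BenesAct Cfsg.Agent.Lib.BenesWord
open Cfsg.Agent.Lib.BenesPlane Cfsg.Agent.Lib.CosetClosure Cfsg.Agent.Lib.CosetFacts
open Cfsg.Agent.Lib.CosetMain Cfsg.Agent.Lib.CoxBridge Cfsg.Agent.Lib.CosetGroup

/-- letters to generators -/
def gen (c : ℕ) : HNS.Gen :=
  match c with
  | 0 => .u
  | 1 => .s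
  | _ => .q

/-- generators to letters -/
def idx (a : HNS.Gen) : ℕ :=
  match a with
  | .u => 0
  | .s => 1
  | .q => 2

/-- the further relators as words -/
def extraW : List Wd := [
  (Wd.pow (Wd.g 2) 3),
  (Wd.pow (Wd.mul (Wd.g 2) (Wd.g 1)) 3),
  (Wd.mul (Wd.mul (Wd.mul (Wd.g 0) (Wd.g 2)) (Wd.g 0)) (Wd.inv (Wd.g 2)))]

/-- the Coxeter relators as words -/
def coxW : List Wd := [
  (Wd.pow (Wd.mul (Wd.g 0) (Wd.g 1)) 2)]

theorem coxW_eq : coxWds HNS.edges gen 2 = coxW := rfl

/-- the presentation data -/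
def C : CoxData HNS.Gen HNS.edges HNS.extra where
  gen := gen
  idx := idx
  nn := 2
  ng := 3
  extraW := extraW
  hgi := by intro a; cases a <;> rfl
  hlt := by intro a; cases a <;> decide
  hidx := by intro i hi; interval_cases i <;> rfl
  hnode := by intro a ha; cases a <;> first | decide | (exfalso; revert ha; decide)
  hnode' := by intro i hi; interval_cases i <;> decide
  hnn := by decide
  hextra := rfl
  hlets := by decide

/-- all relators -/
def rels : List Wd := coxW ++ extraW

/-- periods of the relators -/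
def pers : List ℕ := [2, 1, 2, 4]

/-- relators with the number of positions used for deductions -/
def simd : List (Wd × ℕ) := rels.zip pers

/-- inverse letters -/
noncomputable def iv : ℕ → ℕ := ivOf [0, 1, 3, 2]

/-- trivial relators -/
def triv : List Wd := [Wd.mul (Wd.g 0) (Wd.g 0), Wd.mul (Wd.g 1) (Wd.g 1), Wd.mul (Wd.g 2) (Wd.g 3), Wd.mul (Wd.g 3) (Wd.g 2)]

/-- patterns of relators -/
def pats0 : List Wd := triv ++ (rels ++ rels.map Wd.inv)

end Cfsg.Agent.Lib.HNSRel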