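import Cfsg.Agent.Lib.HNPH2
import Cfsg.Agent.Lib.HNRel

/-!
# The Harada-Norton group: `⟨x, y, z⟩` has index at most 1539000
-/

set_option autoImplicit false
set_option linter.all false
set_option maxRecDepth 100000

namespace Cfsg.Agent.Lib.HNPH

open Cfsg.Spor Cfsg.Agent.Lib.Dce Cfsg.Agent.Lib.BenesWord Cfsg.Agent.Lib.CosetGroup Cfsg.Agent.Lib.CoxBridge
open Cfsg.Agent.Lib.HNT Cfsg.Agent.Lib.HNU Cfsg.Agent.Lib.HNPL

/-- relations of the Harada-Norton group -/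
structure RelN {G : Type*} [Group G] (x y z t : G) : Prop where
  h : RelH x y z
  t5 : t ^ 5 = 1
  tx : (x⁻¹ * t * x) * (t ^ 2) = 1
  ty : t⁻¹ * y⁻¹ * t * y = 1
  zt : (z * t) ^ 3 = 1

theorem relGN : RelN (PresentedGroup.of HN.Gen.x : HN) (PresentedGroup.of HN.Gen.y) (PresentedGroup.of HN.Gen.z)
    (PresentedGroup.of HN.Gen.t) := by
  have h := (HNRel.C.rel_x []).2.1
  have hx : HNRel.C.x [] 0 = (PresentedGroup.of HN.Gen.x : HN) := HNRel.C.x_of_lt [] (by decide)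
  have hy : HNRel.C.x [] 1 = (PresentedGroup.of HN.Gen.y : HN) := HNRel.C.x_of_lt [] (by decide)
  have hz : HNRel.C.x [] 2 = (PresentedGroup.of HN.Gen.z : HN) := HNRel.C.x_of_lt [] (by decide)
  have ht : HNRel.C.x [] 3 = (PresentedGroup.of HN.Gen.t : HN) := HNRel.C.x_of_lt [] (by decide)
  have key : ∀ W ∈ HNRel.extraW, W.eval (HNRel.C.x []) = 1 := h
  simp only [HNRel.extraW, List.forall_mem_cons, Wd.eval, hx, hy, hz, ht] at key
  obtain ⟨k1, k2, k3, k4, k5, k6, k7, k8, k9, k10, k11, k12, k13, k14, _⟩ := key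
  exact ⟨⟨⟨k1, k2, k3, k4, k5, k6⟩, k7, k8, k9, k10⟩, k11, k12, k13, k14⟩

/-- homomorphisms out of `HN` -/
theorem homGN {G : Type*} [Group G] {x y z t : G} (h : RelN x y z t) :
    ∃ f : HN →* G, f (PresentedGroup.of HN.Gen.x) = x ∧ f (PresentedGroup.of HN.Gen.y) = y ∧ f (PresentedGroup.of HN.Gen.z) = z ∧
      f (PresentedGroup.of HN.Gen.t) = t := by
  obtain ⟨f, hf⟩ := HNRel.C.hom (fun c => if c = 0 then x else if c = 1 then y else if c = 2 then z else t)
    (fun i hi => absurd hi (by simp [HNRel.C]))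
    (by intro W hW; exact absurd (show W ∈ HNRel.coxW from HNRel.coxW_eq ▸ hW) (by simp [HNRel.coxW])) (by
      show ∀ W ∈ HNRel.extraW, _
      simp only [HNRel.extraW, List.forall_mem_cons, Wd.eval]
      exact ⟨h.h.l.y6, h.h.l.b, h.h.l.c, h.h.l.d, h.h.l.e, h.h.l.f, h.h.z2, h.h.zx, h.h.zb, h.h.zg, h.t5, h.tx, h.ty, h.zt, by simp⟩)
  exact ⟨f, hf 0 (by decide), hf 1 (by decide), hf 2 (by decide), hf 3 (by decide)⟩

theorem genGN : Subgroup.closure {(PresentedGroup.of HN.Gen.x : HN), PresentedGroup.of HN.Gen.y, PresentedGroup.of HN.Gen.z,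
    PresentedGroup.of HN.Gen.t} = ⊤ := by
  rw [eq_top_iff, ← PresentedGroup.closure_range_of, Subgroup.closure_le]
  rintro _ ⟨a, rfl⟩
  cases a
  · exact Subgroup.subset_closure (by simp)
  · exact Subgroup.subset_closure (by simp)
  · exact Subgroup.subset_closure (by simp)
  · exact Subgroup.subset_closure (by simp)

theorem hm : ∀ (g : PH) (i : ℕ), i < 1408 → PH.subtype g i < 1408 := fun g i hi => PG_lt c_all g hi

theorem hiv : ∀ c < 5, xh (iv c) = (xh c)⁻¹ := by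
  intro c hc
  have h1 : xh c = xb tab iv 1408 5 c := ext_lt hc
  have h2 : xh (iv c) = xb tab iv 1408 5 (iv c) := ext_lt (allI_spec c_all c hc).2.1
  rw [h1, h2, xb_iv c_all hc]

theorem hbase : ∀ b ∈ base, b < 1408 := by decide

/-- data of the map from the permutation group -/
theorem psi_exists {G : Type*} [Group G] {x y z : G} (h : RelH x y z) : ∃ ψ : PH →* G, ψ (xh 0) = x ∧ ψ (xh 1) = x⁻¹ ∧
    ψ (xh 2) = y ∧ ψ (xh 3) = y⁻¹ ∧ ψ (xh 4) = z := by
  obtain ⟨_, _, _, ψ0, _, p0, p2, p4⟩ := ph_exists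
  obtain ⟨f, f0, f2, f4⟩ := homGH h
  have e0 : (f.comp ψ0) (xh 0) = x := by
    rw [show xh 0 = xb tab iv 1408 5 0 from ext_lt (by norm_num), MonoidHom.comp_apply, p0, f0]
  have e2 : (f.comp ψ0) (xh 2) = y := by
    rw [show xh 2 = xb tab iv 1408 5 2 from ext_lt (by norm_num), MonoidHom.comp_apply, p2, f2]
  have e4 : (f.comp ψ0) (xh 4) = z := by
    rw [show xh 4 = xb tab iv 1408 5 4 from ext_lt (by norm_num), MonoidHom.comp_apply, p4, f4]
  refine ⟨f.comp ψ0, e0, ?_, e2, ?_, e4⟩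
  · rw [show xh 1 = (xh 0)⁻¹ from hiv 0 (by norm_num), map_inv, e0]
  · rw [show xh 3 = (xh 2)⁻¹ from hiv 2 (by norm_num), map_inv, e2]

theorem eqw {u v : List ℕ} (huv : eqP tab 83 base u v = true) : ev xh u = ev xh v :=
  eqP_sound (m := 1408) acts.1 acts.2 hbase ph_exists.2.2.1 huv

/-- the letter 7 -/
theorem xh7 : xh 7 = xh 1 * xh 2 * xh 0 := by
  have := eqw (u := [7]) (v := [1, 2, 0]) (by decide +kernel)
  simpa only [ev_cons, ev_nil, mul_one, mul_assoc] using this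

theorem xh6 : xh 6 = (xh 7)⁻¹ := by
  have := eqw (u := [6, 7]) (v := []) (by decide +kernel)
  simp only [ev_cons, ev_nil, mul_one] at this
  exact eq_inv_of_mul_eq_one_left this

/-- the stabilizer of the point `0` -/
theorem B_stab : (∀ g : PH, PH.subtype g 0 = 0 → g ∈ Bs xh ph) ∧ Nat.card (Bs xh ph) = 126000 := by
  have : Finite PH := ph_exists.1
  exact stab_of (φ := PH.subtype) (N := 177408000) (b := 126000) (pt := 0) acts.1 acts.2 (le_of_eq ph_exists.2.1) (by norm_num) c_ptg0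
        (chainH_card acts.1 acts.2 (K := Bs xh ph) (by
          intro w hw
          obtain ⟨p, hp, rfl⟩ := List.mem_map.mp hw
          rw [ev_cons, ev_nil, mul_one]
          exact Subgroup.subset_closure ⟨p, hp, rfl⟩) _ c_bb)
        (Bs_fix (xs := xh) (φ := PH.subtype) (ph := ph) (pt := 0) acts.1 acts.2 (by norm_num) (by decide +kernel)) (by norm_num) (by norm_num)

/-- the twisting relations -/
theorem tw_rel {G : Type*} [Group G] {x y t : G} (t5 : t ^ 5 = 1) (tx : (x⁻¹ * t * x) * (t ^ 2) = 1) (ty : t⁻¹ * y⁻¹ * t * y = 1) :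
    t * y = y * t ∧ t * (x⁻¹ * y * x) = (x⁻¹ * y * x) * t := by
  have h1 : Commute t y := by
    have : t * y = y * t := by
      have h2 : y⁻¹ * t * y = t := by
        have : t⁻¹ * (y⁻¹ * t * y) = 1 := by rw [← ty]; group
        exact (inv_mul_eq_one.mp this).symm
      nth_rewrite 2 [← h2]
      group
    exact this
  have h3 : x⁻¹ * t * x = t ^ 3 := by
    have h4 : x⁻¹ * t * x = (t ^ 2)⁻¹ := eq_inv_of_mul_eq_one_left tx
    rw [h4, inv_eq_iff_mul_eq_one, ← pow_add]; exact t5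
  have h5 : x⁻¹ * t ^ 2 * x = t := by
    have h6 : x⁻¹ * t ^ 2 * x = (x⁻¹ * t * x) ^ 2 := by rw [pow_two, pow_two]; group
    rw [h6, h3, ← pow_mul]
    have : t ^ (3 * 2) = t ^ 5 * t := by rw [← pow_succ]
    rw [this, t5, one_mul]
  refine ⟨h1, ?_⟩
  have h7 : t ^ 2 * y = y * t ^ 2 := (h1.pow_left 2).eq
  calc t * (x⁻¹ * y * x) = (x⁻¹ * t ^ 2 * x) * (x⁻¹ * y * x) := by rw [h5]
    _ = x⁻¹ * (t ^ 2 * y) * x := by group
    _ = x⁻¹ * (y * t ^ 2) * x := by rw [h7]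
    _ = (x⁻¹ * y * x) * (x⁻¹ * t ^ 2 * x) := by group
    _ = (x⁻¹ * y * x) * t := by rw [h5]

end Cfsg.Agent.Lib.HNPH
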