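import Cfsg.Agent.Lib.HNUp

/-!
# The Harada-Norton group: `⟨x, y, z⟩` has index at most 1539000
-/

set_option autoImplicit false
set_option linter.all false
set_option maxRecDepth 100000

namespace Cfsg.Agent.Lib.HNPH

open Cfsg.Spor Cfsg.Agent.Lib.Dce Cfsg.Agent.Lib.BenesWord Cfsg.Agent.Lib.CosetGroup Cfsg.Agent.Lib.CoxBridge
open Cfsg.Agent.Lib.HNT Cfsg.Agent.Lib.HNU Cfsg.Agent.Lib.HNPL

theorem upper {G : Type*} [Group G] {x y z t : G} (h : RelN x y z t) (hgen : Subgroup.closure {x, y, z, t} = ⊤) :
    Finite (G ⧸ (Subgroup.closure {x, y, z} : Subgroup G)) ∧ Nat.card (G ⧸ (Subgroup.closure {x, y, z} : Subgroup G)) ≤ 1539000 := by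
  obtain ⟨ψ, q0, q1, q2, q3, q4⟩ := psi_exists h.h
  have hfP : Finite PH := ph_exists.1
  have hcP : Nat.card PH = 177408000 := ph_exists.2.1
  have hfaith := ph_exists.2.2.1
  obtain ⟨ty, tyx⟩ := tw_rel h.t5 h.tx h.ty
  have q7 : ψ (xh 7) = x⁻¹ * y * x := by rw [xh7, map_mul, map_mul, q0, q1, q2]
  have q6 : ψ (xh 6) = (x⁻¹ * y * x)⁻¹ := by rw [xh6, map_inv, q7]
  have hmain := upper_main (base := base) (ph := ph) (phI := phI) (iv := iv) acts.1 acts.2
    hbase hfaith ψ t (Subgroup.closure {x, y, z})
    (by
      intro p hp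
      simp only [ph, List.mem_cons, List.not_mem_nil, or_false] at hp
      rcases hp with rfl | rfl | rfl | rfl
      · show t * ψ (xh 2) = ψ (xh 2) * t
        rw [q2]; exact ty
      · show t * ψ (xh 7) = ψ (xh 7) * t
        rw [q7]; exact tyx
      · show t * ψ (xh 3) = ψ (xh 3) * t
        rw [q3]; exact swap_inv ty
      · show t * ψ (xh 6) = ψ (xh 6) * t
        rw [q6]; exact swap_inv tyx)
    (by decide) (rels := rels) (by
      intro r hr
      simp only [rels, List.mem_cons, List.not_mem_nil, or_false] at hr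
      rcases hr with rfl | rfl | rfl | rfl | rfl | rfl
      · simp only [seqG, tokG, one_mul, ev_cons, ev_nil, mul_one, q4]
        have := h.zt
        rw [pow_succ, pow_two] at this
        simpa only [mul_assoc] using this
      · simp only [seqG, tokG, one_mul, ev_cons, ev_nil, mul_one, map_mul, q0, q1]
        have h3 : x⁻¹ * t * x = t ^ 3 := by
          have h4 : x⁻¹ * t * x = (t ^ 2)⁻¹ := eq_inv_of_mul_eq_one_left h.tx
          rw [h4, inv_eq_iff_mul_eq_one, ← pow_add]; exact h.t5
        have h9 : x⁻¹ * (x⁻¹ * t * x) * x = t ^ 9 := by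
          rw [h3]
          have : x⁻¹ * t ^ 3 * x = (x⁻¹ * t * x) ^ 3 := by rw [pow_succ, pow_two, pow_succ, pow_two]; group
          rw [this, h3, ← pow_mul]
        calc x⁻¹ * x⁻¹ * t * (x * x) * t = (x⁻¹ * (x⁻¹ * t * x) * x) * t := by group
          _ = t ^ 10 := by rw [h9, ← pow_succ]
          _ = 1 := by rw [show (10 : ℕ) = 5 * 2 by norm_num, pow_mul, h.t5, one_pow]
      · simp only [seqG, tokG, one_mul]
        have := h.t5
        rw [pow_succ, pow_succ, pow_succ, pow_two] at this
        simpa only [mul_assoc] using this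
      · simp only [seqG, tokG, one_mul, ev_cons, ev_nil, mul_one, q0, q1]
        have := h.tx
        rw [pow_two] at this
        simpa only [mul_assoc] using this
      · simp only [seqG, tokG, one_mul, inv_mul_cancel]
      · simp only [seqG, tokG, one_mul, mul_inv_cancel]) (n0 := 5) hiv (by decide) (by
      intro K hP hz
      rw [eq_top_iff, ← hgen, Subgroup.closure_le]
      rintro _ (rfl | rfl | rfl | rfl)
      · rw [← q0]; exact hP _
      · rw [← q2]; exact hP _
      · rw [← q4]; exact hP _
      · exact hz) (init := init) (by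
      have hx : x ∈ Subgroup.closure ({x, y, z} : Set G) := Subgroup.subset_closure (by simp)
      have hy : y ∈ Subgroup.closure ({x, y, z} : Set G) := Subgroup.subset_closure (by simp)
      have hz : z ∈ Subgroup.closure ({x, y, z} : Set G) := Subgroup.subset_closure (by simp)
      intro s hs
      simp only [init, List.mem_cons, List.not_mem_nil, or_false] at hs
      rcases hs with rfl | rfl | rfl | rfl | rfl
      · rw [q0]; exact hx
      · rw [q1]; exact Subgroup.inv_mem _ hx
      · rw [q2]; exact hy
      · rw [q3]; exact Subgroup.inv_mem _ hy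
      · rw [q4]; exact hz) c_ds (runE_sound c_run) (k := 9) (pt := 0) (mo := 1408) (by norm_num) c_j (by norm_num) hm (by
      intro i hi
      interval_cases i
      · exact cover_sound acts.1 acts.2 c_cov0
      · exact cover_sound acts.1 acts.2 c_cov1
      · exact cover_sound acts.1 acts.2 c_cov2
      · exact cover_sound acts.1 acts.2 c_cov3
      · exact cover_sound acts.1 acts.2 c_cov4
      · exact cover_sound acts.1 acts.2 c_cov5
      · exact cover_sound acts.1 acts.2 c_cov6
      · exact cover_sound acts.1 acts.2 c_cov7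
      · exact cover_sound acts.1 acts.2 c_cov8) B_stab.1
  have i0 := index_le (n := 1) hcP (chainH_card acts.1 acts.2 (K := Sg xh fin.stab 0)
    (allIn_spec (l := List.range 5) (by decide +kernel)) _ c_chain) (by norm_num) (by norm_num)
  have i1 := index_le (n := 1408) hcP (chainH_card acts.1 acts.2 (allIn_spec c_g1) _ c_ch1) (by norm_num) (by norm_num)
  have i2 := index_le (n := 35200) hcP (chainH_card acts.1 acts.2 (allIn_spec c_g2) _ c_ch2) (by norm_num) (by norm_num)
  have i3 := index_le (n := 2200) hcP (chainH_card acts.1 acts.2 (allIn_spec c_g3) _ c_ch3) (by norm_num) (by norm_num)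
  have i4 := index_le (n := 123200) hcP (chainH_card acts.1 acts.2 (allIn_spec c_g4) _ c_ch4) (by norm_num) (by norm_num)
  have i5 := index_le (n := 354816) hcP (chainH_card acts.1 acts.2 (allIn_spec c_g5) _ c_ch5) (by norm_num) (by norm_num)
  have i6 := index_le (n := 739200) hcP (chainH_card acts.1 acts.2 (allIn_spec c_g6) _ c_ch6) (by norm_num) (by norm_num)
  have i7 := index_le (n := 5775) hcP (chainH_card acts.1 acts.2 (allIn_spec c_g7) _ c_ch7) (by norm_num) (by norm_num)
  have i8 := index_le (n := 277200) hcP (chainH_card acts.1 acts.2 (allIn_spec c_g8) _ c_ch8) (by norm_num) (by norm_num)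
  refine ⟨hmain.1, le_trans hmain.2 ?_⟩
  rw [Fin.sum_univ_castSucc, Fin.sum_univ_eight]
  exact add_le_add (add_le_add (add_le_add (add_le_add (add_le_add (add_le_add (add_le_add (add_le_add i0 i1) i2) i3) i4) i5) i6) i7) i8

end Cfsg.Agent.Lib.HNPH
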