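import Mathlib

/-!
The free commutative distributive Steiner quasigroup on four generators has 81 elements
(Hall triple systems): in every commutative, distributive Steiner quasigroup `(P, o)` four elements are
the images of `0, e₁, e₂, e₃` under a homomorphism `V = (ZMod 3)⁴ → P`, where `V` carries the operation
`star`.  Proved by a kernel-checked certificate.
-/

set_option autoImplicit false

namespace Cfsg.Agent.Lib.HTS81

/-- the index set -/
abbrev V : Type := ZMod 3 × ZMod 3 × ZMod 3 × ZMod 3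

/-- the operation of the 81-point Hall triple system -/
def star (u v : V) : V :=
  (2 * u.1 + 2 * v.1, 2 * u.2.1 + 2 * v.2.1, 2 * u.2.2.1 + 2 * v.2.2.1,
    2 * u.2.2.2 + 2 * v.2.2.2 + 2 * ((u.2.2.1 + 2 * v.2.2.1) * (u.1 * v.2.1 + 2 * (u.2.1 * v.1))))

/-! ### numerical version -/

/-- base-3 digit `k` (k = 27, 9, 3, 1) -/
def dt (k i : ℕ) : ℕ := Nat.mod (Nat.div i k) 3

/-- the operation on codes `27 x₁ + 9 x₂ + 3 x₃ + x₄` -/
def T (i j : ℕ) : ℕ :=
  Nat.add (Nat.mul 27 (Nat.mod (Nat.mul 2 (Nat.add (dt 27 i) (dt 27 j))) 3))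
    (Nat.add (Nat.mul 9 (Nat.mod (Nat.mul 2 (Nat.add (dt 9 i) (dt 9 j))) 3))
    (Nat.add (Nat.mul 3 (Nat.mod (Nat.mul 2 (Nat.add (dt 3 i) (dt 3 j))) 3))
    (Nat.mod (Nat.add (Nat.mul 2 (Nat.add (dt 1 i) (dt 1 j)))
      (Nat.mul 2 (Nat.mul (Nat.add (dt 3 i) (Nat.mul 2 (dt 3 j)))
        (Nat.add (Nat.mul (dt 27 i) (dt 9 j)) (Nat.mul 2 (Nat.mul (dt 9 i) (dt 27 j))))))) 3)))

theorem T_def (i j : ℕ) : T i j = 27 * (2 * (dt 27 i + dt 27 j) % 3) + (9 * (2 * (dt 9 i + dt 9 j) % 3) +
    (3 * (2 * (dt 3 i + dt 3 j) % 3) +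
    (2 * (dt 1 i + dt 1 j) + 2 * ((dt 3 i + 2 * dt 3 j) * (dt 27 i * dt 9 j + 2 * (dt 9 i * dt 27 j)))) % 3)) :=
  rfl

theorem T_lt (i j : ℕ) : T i j < 81 := by
  have h := fun n : ℕ => Nat.mod_lt n (show 3 > 0 by norm_num)
  have h1 := h (2 * (dt 27 i + dt 27 j))
  have h2 := h (2 * (dt 9 i + dt 9 j))
  have h3 := h (2 * (dt 3 i + dt 3 j))
  have h4 := h (2 * (dt 1 i + dt 1 j) + 2 * ((dt 3 i + 2 * dt 3 j) * (dt 27 i * dt 9 j + 2 * (dt 9 i * dt 27 j))))
  rw [T_def]
  omega

/-- is the pair `(i, j)` marked in the bitmap `K` -/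
def kn (K i j : ℕ) : Bool := Nat.beq (Nat.land (Nat.shiftRight K (Nat.add (Nat.mul 81 i) j)) 1) 1

/-- mark the pair `(i, j)` -/
def mark1 (K i j : ℕ) : ℕ := Nat.lor K (Nat.shiftLeft 1 (Nat.add (Nat.mul 81 i) j))

/-- mark the whole line `a, b, c` -/
def mark (K a b c : ℕ) : ℕ := mark1 (mark1 (mark1 (mark1 (mark1 (mark1 K a b) b a) a c) c a) b c) c b

/-- numerical Steiner property of the line `a, b, c` -/
def lineOK (a b c : ℕ) : Bool :=
  cond (Nat.beq (T a b) c) (cond (Nat.beq (T b a) c) (cond (Nat.beq (T a c) b) (cond (Nat.beq (T c a) b)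
    (cond (Nat.beq (T b c) a) (Nat.beq (T c b) a) false) false) false) false) false

theorem testBit_eq (K n : ℕ) : Nat.beq (Nat.land (Nat.shiftRight K n) 1) 1 = K.testBit n := by
  show Nat.beq ((K >>> n) &&& 1) 1 = _
  rw [Nat.testBit_eq_decide_div_mod_eq, Nat.and_one_is_mod, Nat.shiftRight_eq_div_pow]
  rcases Nat.mod_two_eq_zero_or_one (K / 2 ^ n) with h | h <;> rw [h] <;> decide

theorem kn_eq (K i j : ℕ) : kn K i j = K.testBit (81 * i + j) := testBit_eq K _

theorem kn_mark1 {K a b i j : ℕ} (hb : b < 81) (hj : j < 81) (h : kn (mark1 K a b) i j = true) :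
    kn K i j = true ∨ (i = a ∧ j = b) := by
  rw [kn_eq] at h
  rw [kn_eq]
  have h' : (K ||| (1 <<< (81 * a + b))).testBit (81 * i + j) = true := h
  rw [Nat.testBit_or, Nat.one_shiftLeft, Nat.testBit_two_pow, Bool.or_eq_true, decide_eq_true_eq] at h'
  rcases h' with h' | h'
  · exact Or.inl h'
  · right; omega

/-- definitions: `a * 81 + b` defines the point `T a b` -/
def defL : List ℕ := [
  3, 9, 27, 252, 24, 255, 21, 270, 60, 273, 57, 756, 72, 279, 78, 282, 75, 759, 80, 283, 77, 286, 74, 762,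
  76, 287, 73, 281, 79, 765, 63, 288, 69, 291, 66, 766, 65, 289, 71, 292, 68, 767, 64, 290, 70, 293, 67, 775,
  56, 271, 62, 274, 59, 776, 55, 272, 61, 275, 58, 2242, 2, 84, 8, 85, 7, 90, 20, 91, 19, 93, 26, 94, 25, 96,
  23, 97, 22]

/-- deductions by distributivity: `(a * 81 + b) * 81 + c` -/
def dedL : List ℕ := [
  158193, 20661, 20679, 1704, 1707, 1710, 395847, 22119, 22173, 4620, 4623, 4644, 474579, 240573, 514674,
  514431, 22848, 22920, 260499, 6078, 6081, 6111, 494505, 527310, 267303, 508437, 507384, 23172, 23243,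
  286500, 5997, 6000, 6034, 488187, 60297, 218709, 478786, 501309, 504954, 504468, 504711, 293304, 291846,
  291603, 292089, 482517, 481383, 485028, 485271, 484785, 22767, 22834, 254181, 252723, 252480, 252237, 6402,
  6405, 6443, 520506, 524151, 524394, 524637, 61983, 62037, 120297, 120300, 120345, 120342, 5112, 5121, 5130,
  414315, 414558, 418203, 417960, 23337, 23352, 23382, 296706, 297435, 296949, 297678, 5613, 5601, 5622,
  456354, 453438, 457083, 453924, 457569, 23577, 23583, 23592, 23628, 23640, 316875, 317604, 316389, 317118,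
  5349, 5352, 5367, 5361, 5376, 5391, 433998, 437643, 433755, 437400, 62070, 62058, 62126, 62087, 271010,
  358976, 5289, 5277, 5295, 429462, 432945, 429786, 430839, 23421, 23430, 23469, 303753, 304239, 307803,
  305049, 5778, 5805, 5772, 469557, 466803, 470691, 466560, 470448, 23658, 23667, 23670, 23706, 23723,
  323679, 323193, 323436, 323922, 5511, 5514, 5517, 5526, 5541, 5554, 447363, 450522, 451008, 447120, 62148,
  62142, 62139, 62203, 62193, 252243, 252891, 451072, 452368, 5205, 5199, 5217, 422982, 420876, 426060,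
  425250, 425007, 425412, 425898, 23505, 23508, 23547, 310071, 311043, 310314, 312501, 312015, 312582,
  311367, 5679, 5688, 5700, 463077, 460485, 463887, 460242, 463644, 464373, 464859, 464535, 23739, 23742,
  23757, 23793, 23803, 329511, 330483, 329754, 330726, 331698, 331941, 331779, 5430, 5433, 5454, 5481, 5451,
  5474, 440316, 444447, 440802, 444204, 445176, 444933, 445338, 62793, 62799, 62796, 62787, 62840, 62846,
  62843, 62825, 304245, 305055, 304002, 478523, 478442, 478847, 4545, 4554, 4560, 4548, 4557, 4551, 4575,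
  4573, 4580, 373167, 372924, 373896, 373248, 373329, 373653, 21960, 21975, 21963, 21972, 21966, 21969,
  22029, 22025, 22027, 186870, 186708, 187275, 187680, 186951, 186789, 5031, 5040, 5046, 5034, 5043, 5037,
  5058, 5065, 5063, 409050, 413100, 412776, 412938, 412857, 413262, 412695, 22200, 22203, 22218, 22206,
  22215, 22209, 22212, 22266, 22271, 22273, 22256, 206310, 206877, 206715, 206553, 206391, 206958, 4782,
  4785, 4788, 4797, 4803, 4791, 4800, 4794, 4821, 4819, 4817, 4807, 392931, 393336, 393498, 393417, 393093,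
  393255, 62874, 62880, 62877, 62871, 62868, 62913, 62920, 62926, 62923, 311049, 311940, 312021, 311373,
  312669, 311292, 311859, 311697, 4464, 4473, 4479, 4467, 4476, 4470, 4497, 4495, 4493, 365472, 366525,
  366282, 367011, 365229, 366120, 365634, 365958, 366201, 22041, 22056, 22044, 22053, 22047, 22050, 22107,
  22112, 22105, 193674, 193512, 193350, 192945, 194322, 192459, 193998, 193026, 194403, 4950, 4959, 4965,
  4953, 4962, 4956, 4980, 4978, 4985, 402570, 406296, 406701, 406134, 406053, 406458, 406620, 404595, 405081,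
  404757, 22281, 22284, 22299, 22287, 22296, 22290, 22293, 22353, 22349, 22351, 22336, 213114, 212952,
  213519, 213357, 213195, 213033, 212142, 212385, 212223, 4701, 4704, 4707, 4716, 4722, 4710, 4719, 4713,
  4734, 4741, 4739, 4727, 386856, 386532, 386694, 386613, 387018, 386451, 385398, 385155, 385560, 181656,
  181662, 181659, 181674, 181679, 181681, 181665, 181650, 181642, 181640, 181673, 181654, 181649, 181644,
  181669, 181631, 181634, 181637, 233687, 233768, 233363, 232796, 232634, 233201, 231905, 232391, 189, 216,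
  222, 192, 219, 195, 234, 198, 240, 201, 237, 204, 202, 205, 199, 225, 207, 231, 210, 228, 213, 208, 211,
  214, 190, 193, 196, 6831, 6860, 6858, 6833, 6864, 6834, 6866, 6861, 6837, 6876, 6842, 6840, 6878, 6882,
  6843, 6884, 6879, 6846, 6867, 6851, 6849, 6869, 6873, 6852, 6875, 6870, 6855, 675, 702, 708, 678, 705, 681,
  720, 684, 726, 687, 723, 690, 688, 691, 685, 711, 693, 717, 696, 714, 699, 694, 697, 700, 676, 679, 682,
  52731, 6887, 6912, 6941, 6939, 6914, 6945, 6947, 6957, 6923, 6921, 6959, 6963, 6965, 6925, 6964, 6961,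
  6948, 6932, 6930, 6950, 6954, 6956, 6931, 6949, 6955, 6913, 6940, 6946, 6893, 570, 573, 594, 621, 627, 597,
  624, 600, 639, 603, 645, 606, 642, 609, 647, 644, 641, 630, 612, 636, 615, 633, 618, 632, 638, 635, 623,
  629, 626, 569, 7317, 7346, 7344, 7319, 7350, 7322, 7320, 7352, 7347, 7325, 7323, 7349, 7362, 7326, 7364,
  7368, 7370, 7365, 7334, 7367, 7330, 7369, 7366, 7363, 7353, 7358, 7360, 462854, 462206, 1647, 1674, 1680,
  1650, 1677, 1653, 1692, 1656, 1698, 1659, 1662, 1700, 1660, 1697, 1663, 1657, 1696, 1664, 1693, 1658, 1661,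
  1665, 1668, 1666, 1672, 1670, 1673, 131949, 132435, 132192, 7373, 7398, 7427, 7425, 7400, 7431, 7403, 7401,
  7433, 7428, 7406, 7404, 7430, 7443, 7445, 7449, 7412, 7451, 7446, 7413, 7448, 7450, 7447, 7408, 7444, 7442,
  7437, 7435, 7379, 7376, 7391, 1548, 1557, 1566, 1593, 1599, 1569, 1596, 1572, 1611, 1575, 1578, 1614, 1581,
  1619, 1579, 1582, 1613, 1576, 1615, 1583, 1577, 1618, 1580, 1584, 1590, 1588, 1591, 1586, 1589, 1541,
  125307, 125064, 7560, 7589, 7587, 7562, 7593, 7565, 7563, 7595, 7590, 7568, 7566, 7592, 7605, 7607, 7611,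
  7574, 7613, 7608, 7575, 7610, 7612, 7609, 7570, 7606, 7598, 7602, 7600, 7536, 7540, 7542, 7552, 80191,
  2133, 2160, 2127, 2121, 2166, 2136, 2163, 2139, 2178, 2142, 2145, 2181, 2148, 2186, 2146, 2149, 2180, 2143,
  2182, 2150, 2144, 2185, 2147, 2154, 2157, 2152, 2155, 2153, 2159, 2113, 171558, 170829, 171315, 7616, 7641,
  7670, 7668, 7643, 7674, 7646, 7644, 7676, 7671, 7649, 7647, 7673, 7686, 7652, 7688, 7692, 7653, 7694, 7689,
  7691, 7693, 7657, 7690, 7687, 7677, 7682, 7684, 7622, 7619, 7634, 7625, 7640, 85861, 2052, 2079, 2049,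
  2037, 2046, 2040, 2085, 2055, 2082, 2058, 2061, 2103, 2064, 2100, 2067, 2065, 2102, 2068, 2099, 2062, 2069,
  2098, 2063, 2104, 2066, 2070, 2073, 2071, 2077, 2075, 2078, 2027, 2033, 164430, 164916, 7803, 7832, 7830,
  7805, 7836, 7808, 7806, 7838, 7833, 7811, 7809, 7835, 7848, 7814, 7850, 7854, 7815, 7856, 7851, 7853, 7855,
  7819, 7852, 7849, 7847, 7842, 7840, 7779, 7784, 7780, 7783, 7782, 7781, 7796, 7795, 7794, 1866, 1869, 1872,
  1881, 1890, 1917, 1887, 1875, 1923, 1893, 1920, 1896, 1899, 1941, 1902, 1938, 1905, 1903, 1940, 1906, 1937,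
  1900, 1907, 1936, 1901, 1942, 1904, 1908, 1914, 1912, 1915, 1910, 1913, 1867, 1870, 1873, 152118, 7859,
  7884, 7913, 7911, 7886, 7917, 7889, 7887, 7919, 7914, 7892, 7890, 7916, 7929, 7893, 7931, 7935, 7937, 7932,
  7901, 7934, 7897, 7936, 7933, 7930, 7922, 7926, 7924, 7860, 7865, 7861, 7864, 7863, 7862, 7877, 7876, 7875,
  7880, 1785, 1788, 1791, 1800, 1809, 1836, 1806, 1794, 1803, 1797, 1842, 1812, 1839, 1815, 1854, 1818, 1860,
  1821, 1824, 1862, 1822, 1859, 1825, 1819, 1858, 1826, 1855, 1820, 1823, 1830, 1833, 1828, 1831, 1829, 1835,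
  1784, 1790, 1787, 1793]

/-- check the definitions, updating the set of defined points -/
def chkDef (L : List ℕ) : ℕ → Bool :=
  List.rec (motive := fun _ => ℕ → Bool) (fun _ => true) (fun c _ ih S =>
    cond (Nat.beq (Nat.land (Nat.shiftRight S (Nat.div c 81)) 1) 1)
    (cond (Nat.beq (Nat.land (Nat.shiftRight S (Nat.mod c 81)) 1) 1)
    (cond (Nat.beq (Nat.land (Nat.shiftRight S (T (Nat.div c 81) (Nat.mod c 81))) 1) 1) false
      (ih (Nat.lor S (Nat.shiftLeft 1 (T (Nat.div c 81) (Nat.mod c 81)))))) false) false) L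

/-- the pairs known after the definitions -/
def knDef (L : List ℕ) : ℕ → ℕ :=
  List.rec (motive := fun _ => ℕ → ℕ) (fun K => K) (fun c _ ih K =>
    ih (cond (lineOK (Nat.div c 81) (Nat.mod c 81) (T (Nat.div c 81) (Nat.mod c 81)))
      (mark K (Nat.div c 81) (Nat.mod c 81) (T (Nat.div c 81) (Nat.mod c 81))) K)) L

/-- one deduction -/
def ded1 (K a b c x y z w : ℕ) : ℕ :=
  cond (kn K a b) (cond (kn K a c) (cond (kn K b c)
    (cond (cond (kn K x c) true (kn K y z)) (cond (lineOK x c w) (cond (lineOK y z w)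
      (mark (mark K x c w) y z w) K) K) K) K) K) K

/-- process the deductions -/
def knDed (L : List ℕ) : ℕ → ℕ :=
  List.rec (motive := fun _ => ℕ → ℕ) (fun K => K) (fun e _ ih K =>
    ih (ded1 K (Nat.div e 6561) (Nat.mod (Nat.div e 81) 81) (Nat.mod e 81)
      (T (Nat.div e 6561) (Nat.mod (Nat.div e 81) 81)) (T (Nat.div e 6561) (Nat.mod e 81))
      (T (Nat.mod (Nat.div e 81) 81) (Nat.mod e 81))
      (T (T (Nat.div e 6561) (Nat.mod (Nat.div e 81) 81)) (Nat.mod e 81)))) L

/-- the final bitmap is full off the diagonal -/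
def full (K : ℕ) : Bool :=
  Nat.rec (motive := fun _ => Bool) true (fun i ih => cond (Nat.rec (motive := fun _ => Bool) true
    (fun j ih' => cond (cond (Nat.beq i j) true (kn K i j)) ih' false) 81) ih false) 81

/-- the initially defined points: 0, 27, 9, 3 -/
def S0 : ℕ := 134218249

set_option maxRecDepth 100000 in
theorem chkDef_true : chkDef defL S0 = true := by decide +kernel

set_option maxRecDepth 100000 in
theorem full_true : full (knDed dedL (knDef defL 0)) = true := by decide +kernel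

end Cfsg.Agent.Lib.HTS81
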