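import Mathlib

/-!
Factorised groups `G = H K` (every element is a product of an element of `H` and an element
of `K`).
-/

set_option autoImplicit false

namespace Cfsg.Agent.Lib.Products

open Pointwise

variable {G : Type*} [Group G]

/-- `G = HK` gives `G = KH`. -/
theorem symm {H K : Subgroup G} (h : ∀ g : G, ∃ a ∈ H, ∃ b ∈ K, g = a * b) :
    ∀ g : G, ∃ b ∈ K, ∃ a ∈ H, g = b * a := by
  intro g
  obtain ⟨a, ha, b, hb, e⟩ := h g⁻¹
  exact ⟨b⁻¹, K.inv_mem hb, a⁻¹, H.inv_mem ha, by rw [← mul_inv_rev, ← e, inv_inv]⟩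

/-- membership in a conjugate -/
theorem mem_conj_smul {H : Subgroup G} {g x : G} :
    x ∈ MulAut.conj g • H ↔ g⁻¹ * x * g ∈ H := by
  rw [Subgroup.mem_pointwise_smul_iff_inv_smul_mem, ← map_inv, MulAut.smul_def,
    MulAut.conj_apply, inv_inv]

theorem conj_smul_eq_self_of_mem {H : Subgroup G} {g : G} (hg : g ∈ H) :
    MulAut.conj g • H = H := by
  ext x
  rw [mem_conj_smul]
  constructor
  · intro h
    have := H.mul_mem (H.mul_mem hg h) (H.inv_mem hg)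
    simpa [mul_assoc] using this
  · intro h
    exact H.mul_mem (H.mul_mem (H.inv_mem hg) h) hg

/-- Conjugates of the two factors are simultaneously conjugate. -/
theorem exists_conj {H K : Subgroup G} (h : ∀ g : G, ∃ a ∈ H, ∃ b ∈ K, g = a * b) (x y : G) :
    ∃ g : G, MulAut.conj x • H = MulAut.conj g • H ∧ MulAut.conj y • K = MulAut.conj g • K ∧
      x⁻¹ * g ∈ H ∧ y⁻¹ * g ∈ K := by
  obtain ⟨a, ha, b, hb, e⟩ := h (x⁻¹ * y)
  refine ⟨x * a, ?_, ?_, ?_, ?_⟩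
  · rw [map_mul, mul_smul, conj_smul_eq_self_of_mem ha]
  · have : x * a = y * b⁻¹ := by
      have : y = x * (a * b) := by rw [← e]; group
      rw [this]; group
    rw [this, map_mul, mul_smul, conj_smul_eq_self_of_mem (K.inv_mem hb)]
  · simpa using ha
  · have : x * a = y * b⁻¹ := by
      have : y = x * (a * b) := by rw [← e]; group
      rw [this]; group
    rw [this]; simpa using hb

/-- If `G = HK` then `G = H^x K^y` for all `x`, `y`. -/
theorem conj_factor {H K : Subgroup G} (h : ∀ g : G, ∃ a ∈ H, ∃ b ∈ K, g = a * b) (x y : G) :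
    ∀ g : G, ∃ a ∈ MulAut.conj x • H, ∃ b ∈ MulAut.conj y • K, g = a * b := by
  obtain ⟨z, hz1, hz2, -, -⟩ := exists_conj h x y
  intro g
  obtain ⟨a, ha, b, hb, e⟩ := h (z⁻¹ * g * z)
  refine ⟨z * a * z⁻¹, ?_, z * b * z⁻¹, ?_, ?_⟩
  · rw [hz1, mem_conj_smul]; simpa [mul_assoc] using ha
  · rw [hz2, mem_conj_smul]; simpa [mul_assoc] using hb
  · have : g = z * (z⁻¹ * g * z) * z⁻¹ := by group
    rw [this, e]; group

/-- Dedekind: if `G = HK` and `H ≤ M` then `M = H (M ∩ K)`. -/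
theorem dedekind_left {H K M : Subgroup G} (h : ∀ g : G, ∃ a ∈ H, ∃ b ∈ K, g = a * b)
    (hM : H ≤ M) : ∀ g ∈ M, ∃ a ∈ H, ∃ b ∈ M ⊓ K, g = a * b := by
  intro g hg
  obtain ⟨a, ha, b, hb, e⟩ := h g
  refine ⟨a, ha, b, Subgroup.mem_inf.mpr ⟨?_, hb⟩, e⟩
  have : b = a⁻¹ * g := by rw [e]; group
  rw [this]
  exact M.mul_mem (M.inv_mem (hM ha)) hg

/-- Dedekind: if `G = HK` and `K ≤ M` then `M = (M ∩ H) K`. -/
theorem dedekind_right {H K M : Subgroup G} (h : ∀ g : G, ∃ a ∈ H, ∃ b ∈ K, g = a * b)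
    (hM : K ≤ M) : ∀ g ∈ M, ∃ a ∈ M ⊓ H, ∃ b ∈ K, g = a * b := by
  intro g hg
  obtain ⟨a, ha, b, hb, e⟩ := h g
  refine ⟨a, Subgroup.mem_inf.mpr ⟨?_, ha⟩, b, hb, e⟩
  have : a = g * b⁻¹ := by rw [e]; group
  rw [this]
  exact M.mul_mem hg (M.inv_mem (hM hb))

/-- Passing from a factorisation inside `M ≤ G` to one of the group `M`. -/
theorem subgroupOf_factor {A B M : Subgroup G} 
    (h : ∀ g ∈ M, ∃ a ∈ M ⊓ A, ∃ b ∈ M ⊓ B, g = a * b) :
    ∀ g : M, ∃ a ∈ A.subgroupOf M, ∃ b ∈ B.subgroupOf M, g = a * b := by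
  intro g
  obtain ⟨a, ha, b, hb, e⟩ := h g.1 g.2
  exact ⟨⟨a, ha.1⟩, Subgroup.mem_subgroupOf.mpr ha.2, ⟨b, hb.1⟩,
    Subgroup.mem_subgroupOf.mpr hb.2, Subtype.ext e⟩

/-- factorisation of `M` when `H ≤ M`. -/
theorem subgroupOf_left {H K M : Subgroup G} (h : ∀ g : G, ∃ a ∈ H, ∃ b ∈ K, g = a * b)
    (hM : H ≤ M) : ∀ g : M, ∃ a ∈ H.subgroupOf M, ∃ b ∈ K.subgroupOf M, g = a * b := by
  apply subgroupOf_factor
  intro g hg
  obtain ⟨a, ha, b, hb, e⟩ := dedekind_left h hM g hg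
  exact ⟨a, ⟨hM ha, ha⟩, b, hb, e⟩

/-- factorisation of `M` when `K ≤ M`. -/
theorem subgroupOf_right {H K M : Subgroup G} (h : ∀ g : G, ∃ a ∈ H, ∃ b ∈ K, g = a * b)
    (hM : K ≤ M) : ∀ g : M, ∃ a ∈ H.subgroupOf M, ∃ b ∈ K.subgroupOf M, g = a * b := by
  apply subgroupOf_factor
  intro g hg
  obtain ⟨a, ha, b, hb, e⟩ := dedekind_right h hM g hg
  exact ⟨a, ha, b, ⟨hM hb, hb⟩, e⟩

/-- Images of factorised groups are factorised. -/
theorem map_factor {G' : Type*} [Group G'] {H K : Subgroup G}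
    (h : ∀ g : G, ∃ a ∈ H, ∃ b ∈ K, g = a * b) (f : G →* G') (hf : Function.Surjective f) :
    ∀ g : G', ∃ a ∈ H.map f, ∃ b ∈ K.map f, g = a * b := by
  intro g
  obtain ⟨g, rfl⟩ := hf g
  obtain ⟨a, ha, b, hb, e⟩ := h g
  exact ⟨f a, Subgroup.mem_map_of_mem f ha, f b, Subgroup.mem_map_of_mem f hb,
    by rw [e, map_mul]⟩

/-- Wielandt's lemma: if `G = HK`, `A ⊴ H`, `B ⊴ K`, then the normalizer of `⟨A, B⟩` is
factorised. -/
theorem normalizer_factor [Finite G] {H K A B : Subgroup G}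
    (hHK : ∀ g : G, ∃ h ∈ H, ∃ k ∈ K, g = h * k)
    (hA : H ≤ Subgroup.normalizer (A : Set G)) (hB : K ≤ Subgroup.normalizer (B : Set G)) :
    ∀ g ∈ Subgroup.normalizer ((A ⊔ B : Subgroup G) : Set G),
      ∃ h ∈ Subgroup.normalizer ((A ⊔ B : Subgroup G) : Set G) ⊓ H,
        ∃ k ∈ Subgroup.normalizer ((A ⊔ B : Subgroup G) : Set G) ⊓ K, g = h * k := by
  intro l hl
  obtain ⟨h, hh, k, hk, e⟩ := hHK l
  set D : Subgroup G := A ⊔ B with hD
  -- `h⁻¹ D h = k D k⁻¹`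
  have key : MulAut.conj h⁻¹ • D = MulAut.conj k • D := by
    ext x
    rw [mem_conj_smul, mem_conj_smul, inv_inv]
    have hl' := Subgroup.mem_normalizer_iff.mp hl (k⁻¹ * x * k)
    have : l * (k⁻¹ * x * k) * l⁻¹ = h * x * h⁻¹ := by rw [e]; group
    rw [this] at hl'
    exact hl'.symm
  have hA' : A ≤ MulAut.conj h⁻¹ • D := by
    intro a ha
    rw [mem_conj_smul, inv_inv]
    exact (le_sup_left : A ≤ D) ((Subgroup.mem_normalizer_iff.mp (hA hh) a).mp ha)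
  have hB' : B ≤ MulAut.conj h⁻¹ • D := by
    rw [key]
    intro b hb
    rw [mem_conj_smul]
    have := (Subgroup.mem_normalizer_iff.mp (hB (K.inv_mem hk)) b).mp hb
    rw [inv_inv] at this
    exact (le_sup_right : B ≤ D) this
  have hle : D ≤ MulAut.conj h⁻¹ • D := sup_le hA' hB'
  have hcard : Nat.card (MulAut.conj h⁻¹ • D : Subgroup G) = Nat.card D :=
    Nat.card_congr (Subgroup.equivSMul (MulAut.conj h⁻¹) D).symm.toEquiv
  have heq : D = MulAut.conj h⁻¹ • D := Subgroup.eq_of_le_of_card_ge hle (le_of_eq hcard)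
  have hhN : h ∈ Subgroup.normalizer ((D : Subgroup G) : Set G) := by
    rw [Subgroup.mem_normalizer_iff]
    intro x
    conv_lhs => rw [heq]
    rw [mem_conj_smul, inv_inv]
  have hkN : k ∈ Subgroup.normalizer ((D : Subgroup G) : Set G) := by
    have : k = h⁻¹ * l := by rw [e]; group
    rw [this]
    exact Subgroup.mul_mem _ (Subgroup.inv_mem _ hhN) hl
  exact ⟨h, ⟨hhN, hh⟩, k, ⟨hkN, hk⟩, e⟩

end Cfsg.Agent.Lib.Products
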