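import Mathlib
import Cfsg.Agent.Lib.Products
import Cfsg.Agent.Lib.SubgroupTools

/-!
Kegel's lemma on permuting subgroups (helper10).
-/

set_option autoImplicit false

namespace Cfsg.Agent.Lib.Kegel

open Subgroup Pointwise
open Cfsg.Agent.Lib.Products (mem_conj_smul conj_factor)

variable {G : Type*} [Group G]

/-- `X` and `W` permute: `W X ⊆ X W`. -/
def Permutes (X W : Subgroup G) : Prop :=
  ∀ w ∈ W, ∀ x ∈ X, ∃ x' ∈ X, ∃ w' ∈ W, w * x = x' * w'

/-- The product `X W` of permuting subgroups, as a subgroup. -/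
def prodSubgroup {X W : Subgroup G} (h : Permutes X W) : Subgroup G where
  carrier := (X : Set G) * (W : Set G)
  one_mem' := ⟨1, X.one_mem, 1, W.one_mem, mul_one 1⟩
  mul_mem' := by
    rintro _ _ ⟨x, hx, w, hw, rfl⟩ ⟨y, hy, v, hv, rfl⟩
    obtain ⟨y', hy', w', hw', e⟩ := h w hw y hy
    refine ⟨x * y', X.mul_mem hx hy', w' * v, W.mul_mem hw' hv, ?_⟩
    show x * y' * (w' * v) = x * w * (y * v)
    calc x * y' * (w' * v) = x * (y' * w') * v := by group
      _ = x * (w * y) * v := by rw [e]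
      _ = _ := by group
  inv_mem' := by
    rintro _ ⟨x, hx, w, hw, rfl⟩
    obtain ⟨y', hy', w', hw', e⟩ := h w⁻¹ (W.inv_mem hw) x⁻¹ (X.inv_mem hx)
    refine ⟨y', hy', w', hw', ?_⟩
    show y' * w' = (x * w)⁻¹
    rw [← e, mul_inv_rev]

theorem coe_prodSubgroup {X W : Subgroup G} (h : Permutes X W) :
    (prodSubgroup h : Set G) = (X : Set G) * (W : Set G) := rfl

theorem permutes_of_coe_eq {X W S : Subgroup G} (h : (S : Set G) = (X : Set G) * (W : Set G)) :
    Permutes X W := by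
  intro w hw x hx
  have h1 : w ∈ S := by
    rw [← SetLike.mem_coe, h]
    exact ⟨1, X.one_mem, w, hw, one_mul w⟩
  have h2 : x ∈ S := by
    rw [← SetLike.mem_coe, h]
    exact ⟨x, hx, 1, W.one_mem, mul_one x⟩
  have h3 := S.mul_mem h1 h2
  rw [← SetLike.mem_coe, h] at h3
  obtain ⟨x', hx', w', hw', e⟩ := h3
  exact ⟨x', hx', w', hw', e.symm⟩

theorem Permutes.symm {X W : Subgroup G} (h : Permutes X W) : Permutes W X := by
  intro x hx w hw
  obtain ⟨x', hx', w', hw', e⟩ := h w⁻¹ (W.inv_mem hw) x⁻¹ (X.inv_mem hx)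
  refine ⟨w'⁻¹, W.inv_mem hw', x'⁻¹, X.inv_mem hx', ?_⟩
  rw [← mul_inv_rev, ← e, mul_inv_rev, inv_inv, inv_inv]

theorem permutes_of_le_normalizer {X W : Subgroup G} (h : W ≤ normalizer (X : Set G)) :
    Permutes X W := by
  intro w hw x hx
  refine ⟨w * x * w⁻¹, (mem_normalizer_iff.mp (h hw) x).mp hx, w, hw, by group⟩

theorem Permutes.coe_sup {X W : Subgroup G} (h : Permutes X W) :
    ((X ⊔ W : Subgroup G) : Set G) = (X : Set G) * (W : Set G) := by
  have e : X ⊔ W = prodSubgroup h := by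
    apply le_antisymm
    · refine sup_le ?_ ?_
      · intro x hx; exact ⟨x, hx, 1, W.one_mem, mul_one x⟩
      · intro w hw; exact ⟨1, X.one_mem, w, hw, one_mul w⟩
    · rintro _ ⟨x, hx, w, hw, rfl⟩
      exact mul_mem (mem_sup_left hx) (mem_sup_right hw)
  rw [e]; rfl

theorem Permutes.mem_sup {X W : Subgroup G} (h : Permutes X W) {g : G} :
    g ∈ X ⊔ W ↔ ∃ x ∈ X, ∃ w ∈ W, g = x * w := by
  rw [← SetLike.mem_coe, h.coe_sup]
  constructor
  · rintro ⟨x, hx, w, hw, rfl⟩; exact ⟨x, hx, w, hw, rfl⟩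
  · rintro ⟨x, hx, w, hw, rfl⟩; exact ⟨x, hx, w, hw, rfl⟩

/-- Two subgroups permuting with `W` generate a subgroup permuting with `W`. -/
theorem Permutes.sup {X Y W : Subgroup G} (hX : Permutes X W) (hY : Permutes Y W) :
    Permutes (X ⊔ Y) W := by
  have key : ∀ x ∈ Subgroup.closure ((X : Set G) ∪ (Y : Set G)), ∀ w ∈ W,
      ∃ x' ∈ X ⊔ Y, ∃ w' ∈ W, w * x = x' * w' := by
    intro x hx
    induction hx using Subgroup.closure_induction'' with
    | mem x hx =>
      intro w hw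
      rcases hx with hx | hx
      · obtain ⟨x', hx', w', hw', e⟩ := hX w hw x hx
        exact ⟨x', mem_sup_left hx', w', hw', e⟩
      · obtain ⟨x', hx', w', hw', e⟩ := hY w hw x hx
        exact ⟨x', mem_sup_right hx', w', hw', e⟩
    | inv_mem x hx =>
      intro w hw
      rcases hx with hx | hx
      · obtain ⟨x', hx', w', hw', e⟩ := hX w hw x⁻¹ (X.inv_mem hx)
        exact ⟨x', mem_sup_left hx', w', hw', e⟩
      · obtain ⟨x', hx', w', hw', e⟩ := hY w hw x⁻¹ (Y.inv_mem hx)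
        exact ⟨x', mem_sup_right hx', w', hw', e⟩
    | one =>
      intro w hw
      exact ⟨1, one_mem _, w, hw, by simp⟩
    | mul x y _ _ ihx ihy =>
      intro w hw
      obtain ⟨x', hx', w', hw', e⟩ := ihx w hw
      obtain ⟨y', hy', w'', hw'', e'⟩ := ihy w' hw'
      refine ⟨x' * y', mul_mem hx' hy', w'', hw'', ?_⟩
      rw [← mul_assoc, e, mul_assoc, e', mul_assoc]
  intro w hw x hx
  rw [sup_eq_closure] at hx
  exact key x hx w hw

theorem Permutes.conj {X W : Subgroup G} (h : Permutes X W) (g : G) :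
    Permutes (MulAut.conj g • X) (MulAut.conj g • W) := by
  intro w hw x hx
  rw [mem_conj_smul] at hw hx
  obtain ⟨x', hx', w', hw', e⟩ := h _ hw _ hx
  refine ⟨g * x' * g⁻¹, ?_, g * w' * g⁻¹, ?_, ?_⟩
  · rw [mem_conj_smul]; simpa [mul_assoc] using hx'
  · rw [mem_conj_smul]; simpa [mul_assoc] using hw'
  · calc w * x = g * ((g⁻¹ * w * g) * (g⁻¹ * x * g)) * g⁻¹ := by group
      _ = g * (x' * w') * g⁻¹ := by rw [e]
      _ = _ := by group

/-- **Kegel's lemma.** -/
theorem kegel [Finite G] {A B : Subgroup G} (hperm : ∀ x : G, Permutes A (MulAut.conj x • B))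
    (hne : ∀ x : G, A ⊔ (MulAut.conj x • B) ≠ ⊤) :
    ∃ N : Subgroup G, N.Normal ∧ N ≠ ⊤ ∧ (A ≤ N ∨ B ≤ N) := by
  classical
  by_contra hcon
  push Not at hcon
  -- maximal overgroup `A'` of `A` with the same property
  have hfin : ({A' : Subgroup G | A ≤ A' ∧ (∀ x : G, Permutes A' (MulAut.conj x • B)) ∧
      ∀ x : G, A' ⊔ (MulAut.conj x • B) ≠ ⊤}).Nonempty := ⟨A, le_rfl, hperm, hne⟩
  obtain ⟨A', hA'⟩ := Set.Finite.exists_maximal (Set.toFinite _) hfin
  obtain ⟨hAA', hperm', hne'⟩ := hA'.prop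
  -- `A'` is not normal
  have hA'top : A' ≠ ⊤ := by
    intro h
    apply hne' 1
    rw [h, top_sup_eq]
  have hnn : ¬ A'.Normal := fun hn => (hcon A' hn hA'top).1 hAA'
  -- a conjugate of `B` not normalizing `A'`
  have hz : ∃ z : G, ¬ (MulAut.conj z • B) ≤ normalizer (A' : Set G) := by
    by_contra hall
    push Not at hall
    have hle : normalClosure (B : Set G) ≤ normalizer (A' : Set G) := by
      rw [normalClosure, closure_le]
      intro b hb
      obtain ⟨b', hb', hc⟩ := Group.mem_conjugatesOfSet_iff.mp hb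
      obtain ⟨c, rfl⟩ := isConj_iff.mp hc
      apply hall c
      rw [mem_conj_smul]
      simpa [mul_assoc] using hb'
    by_cases htop : normalClosure (B : Set G) = ⊤
    · rw [htop, top_le_iff, normalizer_eq_top_iff] at hle
      exact hnn hle
    · exact (hcon _ normalClosure_normal htop).2 (fun b hb => subset_normalClosure hb)
  obtain ⟨z, hz⟩ := hz
  obtain ⟨y, hy, hyn⟩ := SetLike.not_le_iff_exists.mp hz
  -- `A* = ⟨A', A'^y⟩`
  set A2 : Subgroup G := A' ⊔ MulAut.conj y • A' with hA2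
  have hlt : A' < A2 := by
    refine lt_of_le_of_ne le_sup_left ?_
    intro h
    apply hyn
    rw [Lib.SubgroupTools.mem_normalizer_iff_conj_smul]
    apply Subgroup.eq_of_le_of_card_ge
    · rw [h]
      exact le_trans (by rw [← h]) (le_sup_right : MulAut.conj y • A' ≤ A2)
    · rw [Lib.SubgroupTools.card_conj_smul]
  have hle2 : A2 ≤ A' ⊔ MulAut.conj z • B := by
    refine sup_le le_sup_left ?_
    intro x hx
    rw [mem_conj_smul] at hx
    have : x = y * (y⁻¹ * x * y) * y⁻¹ := by group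
    rw [this]
    exact mul_mem (mul_mem (mem_sup_right hy) (mem_sup_left hx)) (inv_mem (mem_sup_right hy))
  have hperm2 : ∀ x : G, Permutes A2 (MulAut.conj x • B) := by
    intro x
    apply Permutes.sup (hperm' x)
    have h1 := (hperm' (y⁻¹ * x)).conj y
    rwa [← mul_smul, ← map_mul, mul_inv_cancel_left] at h1
  -- maximality
  have hex : ∃ x : G, A2 ⊔ MulAut.conj x • B = ⊤ := by
    by_contra hall
    push Not at hall
    have := hA'.le_of_ge ⟨hAA'.trans hlt.le, hperm2, hall⟩ hlt.le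
    exact absurd this (not_le_of_gt hlt)
  obtain ⟨x, hx⟩ := hex
  have hG : ∀ g : G, ∃ a ∈ (A' ⊔ MulAut.conj z • B), ∃ b ∈ MulAut.conj x • B, g = a * b := by
    intro g
    have : g ∈ A2 ⊔ MulAut.conj x • B := by rw [hx]; trivial
    obtain ⟨a, ha, b, hb, e⟩ := ((hperm2 x).mem_sup).mp this
    exact ⟨a, hle2 ha, b, hb, e⟩
  have hG2 := conj_factor hG 1 (z * x⁻¹)
  apply hne' z
  rw [eq_top_iff]
  intro g _
  obtain ⟨a, ha, b, hb, rfl⟩ := hG2 g
  rw [map_one, one_smul] at ha
  rw [← mul_smul, ← map_mul, inv_mul_cancel_right] at hb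
  exact mul_mem ha (mem_sup_right hb)

end Cfsg.Agent.Lib.Kegel
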