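import Mathlib
import Cfsg.Agent.Lib.Products
import Cfsg.Agent.Lib.Kegel
import Cfsg.Agent.Lib.HallPi
import Cfsg.Agent.Lib.LocBase
import Cfsg.Agent.Lib.Subnormal
import Cfsg.Agent.Lib.MinNormSolv

/-!
Sylow and Hall subgroups of factorised groups (helper10).
-/

set_option autoImplicit false

namespace Cfsg.Agent.Lib.ProdHall

open Subgroup Pointwise
open Cfsg.Agent.Lib.Products Cfsg.Agent.Lib.Kegel
open Cfsg.Agent.Lib.LocBase (IsSyl)
open Cfsg.Agent.Lib.HallPi
open Cfsg.Agent.Lib.SubgroupTools (conj_smul_of_mem_normalizer card_conj_smul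
  card_mul_relIndex_of_le card_mul_set map_conj_smul conj_smul_mono)

universe u

/-- `|H K| |H ∩ K| = |H| |K|` in a factorised group. -/
theorem card_mul_card_inf {G : Type*} [Group G] [Finite G] {H K : Subgroup G}
    (hHK : ∀ g : G, ∃ h ∈ H, ∃ k ∈ K, g = h * k) :
    Nat.card G * Nat.card (H ⊓ K : Subgroup G) = Nat.card H * Nat.card K := by
  rw [← card_mul_set H K]
  congr 1
  have : ((H : Set G) * (K : Set G)) = Set.univ := by
    rw [Set.eq_univ_iff_forall]
    intro g
    obtain ⟨h, hh, k, hk, rfl⟩ := hHK g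
    exact ⟨h, hh, k, hk, rfl⟩
  rw [this, Nat.card_univ]

/-- In a factorised group `G = HK` there is a Sylow subgroup `R` of `G` such that `R ∩ H` and
`R ∩ K` are Sylow in `H` and `K`; and then `R = (R ∩ H)(R ∩ K)`. -/
theorem exists_sylow_factor {G : Type*} [Group G] [Finite G] {H K : Subgroup G}
    (hHK : ∀ g : G, ∃ h ∈ H, ∃ k ∈ K, g = h * k) (p : ℕ) [hp : Fact p.Prime] :
    ∃ P Q R : Subgroup G, IsSyl p P H ∧ IsSyl p Q K ∧ IsSyl p R ⊤ ∧
      (R : Set G) = (P : Set G) * (Q : Set G) := by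
  obtain ⟨P0, hP0⟩ := Lib.LocBase.exists_isSyl p H
  obtain ⟨Q0, hQ0⟩ := Lib.LocBase.exists_isSyl p K
  obtain ⟨R1, hR1, hP0R1⟩ := Lib.LocBase.exists_isSyl_ge hP0.pgroup (le_top : P0 ≤ ⊤)
  obtain ⟨R2, hR2, hQ0R2⟩ := Lib.LocBase.exists_isSyl_ge hQ0.pgroup (le_top : Q0 ≤ ⊤)
  obtain ⟨g, -, hg⟩ := hR2.conj hR1
  -- `R2 = g R1 g⁻¹`, `g = k h`
  obtain ⟨k, hk, h, hh, rfl⟩ := symm hHK g
  set R : Subgroup G := R1.map (MulAut.conj h).toMonoidHom with hR
  have hRsyl : IsSyl p R ⊤ := by
    have := hR1.map_conj h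
    rwa [show (⊤ : Subgroup G).map (MulAut.conj h).toMonoidHom = ⊤ from
      Subgroup.map_top_of_surjective _ (MulAut.conj h).surjective] at this
  have hHh : H.map (MulAut.conj h).toMonoidHom = H :=
    Lib.LocBase.map_conj_eq_of_mem (le_normalizer hh)
  have hKk : K.map (MulAut.conj k⁻¹).toMonoidHom = K :=
    Lib.LocBase.map_conj_eq_of_mem (le_normalizer (K.inv_mem hk))
  set P : Subgroup G := P0.map (MulAut.conj h).toMonoidHom with hP
  set Q : Subgroup G := Q0.map (MulAut.conj k⁻¹).toMonoidHom with hQ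
  have hPsyl : IsSyl p P H := by
    have := hP0.map_conj h
    rwa [hHh] at this
  have hQsyl : IsSyl p Q K := by
    have := hQ0.map_conj k⁻¹
    rwa [hKk] at this
  have hPR : P ≤ R := Subgroup.map_mono hP0R1
  have hQR : Q ≤ R := by
    have h1 : Q ≤ R2.map (MulAut.conj k⁻¹).toMonoidHom := Subgroup.map_mono hQ0R2
    rw [← hg, ← Lib.LocBase.map_conj_mul, inv_mul_cancel_left] at h1
    exact h1
  refine ⟨P, Q, R, hPsyl, hQsyl, hRsyl, ?_⟩
  -- orders
  have hsub : (P : Set G) * (Q : Set G) ⊆ (R : Set G) := by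
    rintro _ ⟨x, hx, y, hy, rfl⟩
    exact R.mul_mem (hPR hx) (hQR hy)
  symm
  apply Set.eq_of_subset_of_ncard_le hsub
  have e1 := card_mul_set P Q
  have e2 := card_mul_card_inf hHK
  have e3 := card_mul_relIndex_of_le hPsyl.le
  have e4 := card_mul_relIndex_of_le hQsyl.le
  have e5 := card_mul_relIndex_of_le hRsyl.le
  rw [Subgroup.card_top] at e5
  -- `D` Sylow of `H ∩ K` containing `P ∩ Q`
  have hle : P ⊓ Q ≤ H ⊓ K := le_inf (inf_le_left.trans hPsyl.le) (inf_le_right.trans hQsyl.le)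
  have e6 := card_mul_relIndex_of_le hle
  -- |R| * [G:R] * |P∩Q| * [H∩K:P∩Q] = |P| [H:P] |Q| [K:Q]
  have e7 : Nat.card R * (R.relIndex ⊤ * (Nat.card (P ⊓ Q : Subgroup G) * (P ⊓ Q).relIndex (H ⊓ K)))
      = (Nat.card P * Nat.card Q) * (P.relIndex H * Q.relIndex K) := by
    calc _ = (Nat.card R * R.relIndex ⊤) * (Nat.card (P ⊓ Q : Subgroup G) * (P ⊓ Q).relIndex (H ⊓ K)) := by ring
      _ = Nat.card G * Nat.card (H ⊓ K : Subgroup G) := by rw [e5, e6]
      _ = Nat.card H * Nat.card K := e2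
      _ = _ := by rw [← e3, ← e4]; ring
  have hcopr : ∀ n : ℕ, ¬ p ∣ n → ∀ m, (p ^ m).Coprime n := fun n hn m =>
    Nat.Coprime.pow_left m ((Nat.Prime.coprime_iff_not_dvd hp.out).mpr hn)
  obtain ⟨r, hr⟩ := IsPGroup.iff_card.mp hRsyl.pgroup
  obtain ⟨a, ha⟩ := IsPGroup.iff_card.mp hPsyl.pgroup
  obtain ⟨b, hb⟩ := IsPGroup.iff_card.mp hQsyl.pgroup
  obtain ⟨c, hc⟩ := IsPGroup.iff_card.mp (hPsyl.pgroup.to_le (inf_le_left : P ⊓ Q ≤ P))
  -- `|R| |P ∩ Q| ∣ |P| |Q|`
  have hdvd : Nat.card R * Nat.card (P ⊓ Q : Subgroup G) ∣ Nat.card P * Nat.card Q := by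
    have h1 : Nat.card R * Nat.card (P ⊓ Q : Subgroup G) ∣
        (Nat.card P * Nat.card Q) * (P.relIndex H * Q.relIndex K) := by
      rw [← e7]
      refine ⟨R.relIndex ⊤ * (P ⊓ Q).relIndex (H ⊓ K), by ring⟩
    refine Nat.Coprime.dvd_of_dvd_mul_right ?_ h1
    rw [hr, hc, ← pow_add]
    apply hcopr
    intro hd
    rcases hp.out.dvd_mul.mp hd with h | h
    · exact hPsyl.ndvd h
    · exact hQsyl.ndvd h
  have hle2 : Nat.card R * Nat.card (P ⊓ Q : Subgroup G) ≤ Nat.card P * Nat.card Q :=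
    Nat.le_of_dvd (Nat.mul_pos Nat.card_pos Nat.card_pos) hdvd
  rw [← e1] at hle2
  have := Nat.le_of_mul_le_mul_right hle2 Nat.card_pos
  rw [← Nat.card_coe_set_eq, ← Nat.card_coe_set_eq]
  exact this

/-- Hall subgroups `A ⊴ H`, `B ⊴ K` of a solvable group `G = HK` permute. -/
theorem permutes_aux (n : ℕ) : ∀ (G : Type u) [Group G] [Finite G] [Group.IsSolvable G],
    Nat.card G ≤ n → ∀ H K A B : Subgroup G, (∀ g : G, ∃ h ∈ H, ∃ k ∈ K, g = h * k) →
    H ≤ normalizer (A : Set G) → K ≤ normalizer (B : Set G) →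
    (Nat.card A).Coprime A.index → (Nat.card B).Coprime B.index → Permutes A B := by
  induction n with
  | zero =>
    intro G _ _ _ hn
    have : 0 < Nat.card G := Nat.card_pos
    omega
  | succ n ih =>
    intro G _ _ _ hn H K A B hHK hA hB hAh hBh
    rcases subsingleton_or_nontrivial G with hG | hG
    · intro w hw x hx
      exact ⟨1, one_mem _, 1, one_mem _, Subsingleton.elim _ _⟩
    obtain ⟨N, hNn, hN, hNmin'⟩ := Lib.Subnormal.exists_isMinNormal (G := G)
    have hNmin : ∀ K : Subgroup G, K.Normal → K ≤ N → K = ⊥ ∨ K = N := by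
      intro K hK hKN
      by_cases h : K = ⊥
      · exact Or.inl h
      · exact Or.inr (hNmin' K hK hKN h)
    obtain ⟨p, hp, hNab, hNel⟩ := Lib.MinNormSolv.elementary_of_minimal hN hNmin
    obtain ⟨d, hd, hNcard⟩ := Lib.MinNormSolv.card_eq_prime_pow hN hp hNel
    set π := QuotientGroup.mk' N with hπ
    have hπs : Function.Surjective π := QuotientGroup.mk'_surjective N
    have hcardlt : Nat.card (G ⧸ N) ≤ n := by
      have h1 := Subgroup.card_mul_index N
      have h2 : 1 < Nat.card N := (Subgroup.one_lt_card_iff_ne_bot N).mpr hN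
      have h3 : Nat.card (G ⧸ N) = N.index := rfl
      have h4 : 0 < N.index := Nat.pos_of_ne_zero Subgroup.index_ne_zero_of_finite
      rw [h3]
      nlinarith
    have hmapN : ∀ X Y : Subgroup G, X ≤ normalizer (Y : Set G) →
        X.map π ≤ normalizer ((Y.map π : Subgroup (G ⧸ N)) : Set (G ⧸ N)) := by
      intro X Y h
      exact (Subgroup.map_mono h).trans (Subgroup.le_normalizer_map π)
    have hhall : ∀ X : Subgroup G, (Nat.card X).Coprime X.index →
        (Nat.card (X.map π)).Coprime (X.map π).index := by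
      intro X h
      exact (h.coprime_dvd_left (Subgroup.card_map_dvd X π)).coprime_dvd_right
        (Subgroup.index_map_dvd X hπs)
    have hperm := ih (G ⧸ N) hcardlt (H.map π) (K.map π) (A.map π) (B.map π)
      (map_factor hHK π hπs) (hmapN _ _ hA) (hmapN _ _ hB) (hhall A hAh) (hhall B hBh)
    -- permuting modulo `N`
    have hmod : ∀ b ∈ B, ∀ a ∈ A, ∃ a' ∈ A, ∃ b' ∈ B, ∃ n ∈ N, b * a = a' * b' * n := by
      intro b hb a ha
      obtain ⟨_, ⟨a', ha', rfl⟩, _, ⟨b', hb', rfl⟩, e⟩ :=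
        hperm (π b) (mem_map_of_mem π hb) (π a) (mem_map_of_mem π ha)
      refine ⟨a', ha', b', hb', (a' * b')⁻¹ * (b * a), ?_, by group⟩
      have h1 : π (a' * b') = π (b * a) := by rw [map_mul, map_mul, e]
      exact QuotientGroup.eq.mp h1
    by_cases hpA : p ∣ Nat.card A
    · -- `N ≤ A`
      have hNA : N ≤ A := by
        apply le_of_normal_piNum _ (isPiHall_primes A hAh)
        rw [hNcard]
        exact piNum_prime_pow hp hpA
      intro b hb a ha
      obtain ⟨a', ha', b', hb', n, hn, e⟩ := hmod b hb a ha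
      refine ⟨a' * (b' * n * b'⁻¹), A.mul_mem ha' (hNA (hNn.conj_mem n hn b')), b', hb', ?_⟩
      rw [e]; group
    by_cases hpB : p ∣ Nat.card B
    · have hNB : N ≤ B := by
        apply le_of_normal_piNum _ (isPiHall_primes B hBh)
        rw [hNcard]
        exact piNum_prime_pow hp hpB
      intro b hb a ha
      obtain ⟨a', ha', b', hb', n, hn, e⟩ := hmod b hb a ha
      refine ⟨a', ha', b' * n, B.mul_mem hb' (hNB hn), ?_⟩
      rw [e]; group
    -- `p ∤ |A| |B|`
    set τ : Set ℕ := {q | q ∣ Nat.card A ∨ q ∣ Nat.card B} with hτ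
    have hpτ : p ∉ τ := by
      rintro (h | h)
      · exact hpA h
      · exact hpB h
    have hAτ : PiNum τ (Nat.card A) := fun q _ h => Or.inl h
    have hBτ : PiNum τ (Nat.card B) := fun q _ h => Or.inr h
    have hNτ : PiNum τᶜ (Nat.card N) := by
      rw [hNcard]; exact piNum_prime_pow hp hpτ
    set L : Subgroup G := (A.map π ⊔ B.map π).comap π with hL
    have hAL : A ≤ L := by
      intro x hx
      exact mem_sup_left (mem_map_of_mem π hx)
    have hBL : B ≤ L := by
      intro x hx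
      exact mem_sup_right (mem_map_of_mem π hx)
    have hNL : N ≤ L := by
      intro x hx
      have : π x = 1 := (QuotientGroup.eq_one_iff x).mpr hx
      show π x ∈ (A.map π ⊔ B.map π : Subgroup (G ⧸ N))
      rw [this]; exact one_mem _
    have hLs : Group.IsSolvable L := inferInstance
    -- order of `L / N`
    have hLcard : Nat.card L = Nat.card (A.map π ⊔ B.map π : Subgroup (G ⧸ N)) * Nat.card N := by
      have h1 := Lib.SubgroupTools.card_map_mul_card_inf_ker π L
      rw [hπ, QuotientGroup.ker_mk', inf_eq_right.mpr hNL, ← hπ, hL,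
        Subgroup.map_comap_eq_self_of_surjective hπs] at h1
      rw [hL, ← h1]
    have hbarτ : PiNum τ (Nat.card (A.map π ⊔ B.map π : Subgroup (G ⧸ N))) := by
      have h1 := card_mul_set (A.map π) (B.map π)
      rw [← hperm.coe_sup] at h1
      have h2 : Nat.card (A.map π ⊔ B.map π : Subgroup (G ⧸ N)) ∣
          Nat.card (A.map π) * Nat.card (B.map π) := Dvd.intro _ h1
      exact ((hAτ.of_dvd (Subgroup.card_map_dvd A π)).mul
        (hBτ.of_dvd (Subgroup.card_map_dvd B π))).of_dvd h2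
    obtain ⟨T, hT, hAT⟩ := exists_le_isPiHallOf hLs A hAL hAτ
    obtain ⟨g, hgL, hBg⟩ := exists_conj_le_rel hLs hT hBL hBτ
    have hT' := isPiHallOf_iff.mp hT
    -- `T ∩ N = 1`
    have hTN : T ⊓ N = ⊥ := by
      apply Lib.SubgroupTools.inf_eq_bot_of_coprime'
      exact hT'.2.1.coprime hNτ
    -- `|T| = |L / N|`, hence `L = N T`
    have hTcard : Nat.card T = Nat.card (A.map π ⊔ B.map π : Subgroup (G ⧸ N)) := by
      have h1 := card_mul_relIndex_of_le hT'.1
      rw [hLcard] at h1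
      apply Nat.dvd_antisymm
      · exact hT'.2.1.dvd_of_dvd_mul_right hNτ (h1 ▸ dvd_mul_right _ _)
      · exact hbarτ.dvd_of_dvd_mul_right hT'.2.2 (h1.symm ▸ dvd_mul_right _ _)
    have hLNT : L = N ⊔ T := by
      symm
      apply Subgroup.eq_of_le_of_card_ge (sup_le hNL hT'.1)
      have h1 := Lib.SubgroupTools.card_sup_of_disjoint (N := N) (H := T)
        le_normalizer_of_normal (disjoint_iff.mpr (by rw [inf_comm]; exact hTN))
      rw [h1, hLcard, hTcard, mul_comm]
    rw [hLNT] at hgL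
    obtain ⟨n, hn, t, ht, rfl⟩ := mem_sup_of_normal_left.mp hgL
    -- `B₁ = conj n⁻¹ • B ≤ T`
    set B1 : Subgroup G := MulAut.conj n⁻¹ • B with hB1
    have hB1T : B1 ≤ T := by
      have h1 := conj_smul_mono n⁻¹ hBg
      rw [← mul_smul, ← map_mul, inv_mul_cancel_left,
        Lib.SubgroupTools.conj_smul_self_of_mem ht] at h1
      exact h1
    have hB1map : B1.map π = B.map π := by
      rw [hB1, map_conj_smul]
      have : π n⁻¹ = 1 := (QuotientGroup.eq_one_iff _).mpr (N.inv_mem hn)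
      rw [this, map_one, one_smul]
    have hTprod : (T : Set G) = (A : Set G) * (B1 : Set G) := by
      apply Set.Subset.antisymm
      · intro t ht
        have h1 : π t ∈ A.map π ⊔ B.map π := hT'.1 ht
        rw [← hB1map] at h1
        rw [← hB1map] at hperm
        obtain ⟨_, ⟨a, ha, rfl⟩, _, ⟨b, hb, rfl⟩, e⟩ := hperm.mem_sup.mp h1
        have h2 : (a * b)⁻¹ * t ∈ T ⊓ N := by
          refine mem_inf.mpr ⟨T.mul_mem (T.inv_mem (T.mul_mem (hAT ha) (hB1T hb))) ht, ?_⟩
          rw [← map_mul] at e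
          exact QuotientGroup.eq.mp e.symm
        rw [hTN, mem_bot] at h2
        have h3 : t = a * b := (inv_mul_eq_one.mp h2).symm
        exact ⟨a, ha, b, hb, h3.symm⟩
      · rintro _ ⟨a, ha, b, hb, rfl⟩
        exact T.mul_mem (hAT ha) (hB1T hb)
    have hperm1 : Permutes A B1 := permutes_of_coe_eq hTprod
    -- `n⁻¹ = h k`
    obtain ⟨h, hh, k, hk, e⟩ := hHK n⁻¹
    have e1 : B1 = MulAut.conj h • B := by
      rw [hB1, e, map_mul, mul_smul, conj_smul_of_mem_normalizer (hB hk)]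
    have e2 : A = MulAut.conj h • A := (conj_smul_of_mem_normalizer (hA hh)).symm
    have hperm2 := hperm1.conj h⁻¹
    rw [e1, ← mul_smul, ← map_mul, inv_mul_cancel, map_one, one_smul] at hperm2
    rwa [conj_smul_of_mem_normalizer (inv_mem (hA hh))] at hperm2

/-- Hall subgroups `A ⊴ H`, `B ⊴ K` of a solvable group `G = HK`: all conjugates permute. -/
theorem permutes_conj {G : Type u} [Group G] [Finite G] [Group.IsSolvable G]
    {H K A B : Subgroup G} (hHK : ∀ g : G, ∃ h ∈ H, ∃ k ∈ K, g = h * k)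
    (hA : H ≤ normalizer (A : Set G)) (hB : K ≤ normalizer (B : Set G))
    (hAh : (Nat.card A).Coprime A.index) (hBh : (Nat.card B).Coprime B.index) (x y : G) :
    Permutes (MulAut.conj x • A) (MulAut.conj y • B) := by
  have hperm := permutes_aux _ G le_rfl H K A B hHK hA hB hAh hBh
  obtain ⟨g, -, -, h1, h2⟩ := exists_conj hHK x y
  have e1 : MulAut.conj x • A = MulAut.conj g • A := by
    have : g = x * (x⁻¹ * g) := by group
    rw [this, map_mul, mul_smul, conj_smul_of_mem_normalizer (hA h1)]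
  have e2 : MulAut.conj y • B = MulAut.conj g • B := by
    have : g = y * (y⁻¹ * g) := by group
    rw [this, map_mul, mul_smul, conj_smul_of_mem_normalizer (hB h2)]
  rw [e1, e2]
  exact hperm.conj g

/-- If `A ≤ N(A₁)`-type factors permute, all conjugates do. -/
theorem permutes_conj_of_permutes {G : Type*} [Group G] {H K A B : Subgroup G}
    (hHK : ∀ g : G, ∃ h ∈ H, ∃ k ∈ K, g = h * k)
    (hA : H ≤ normalizer (A : Set G)) (hB : K ≤ normalizer (B : Set G)) (hperm : Permutes A B)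
    (x y : G) : ∃ g : G, MulAut.conj x • A = MulAut.conj g • A ∧
      MulAut.conj y • B = MulAut.conj g • B ∧ Permutes (MulAut.conj x • A) (MulAut.conj y • B) := by
  obtain ⟨g, -, -, h1, h2⟩ := exists_conj hHK x y
  have e1 : MulAut.conj x • A = MulAut.conj g • A := by
    have : g = x * (x⁻¹ * g) := by group
    rw [this, map_mul, mul_smul, conj_smul_of_mem_normalizer (hA h1)]
  have e2 : MulAut.conj y • B = MulAut.conj g • B := by
    have : g = y * (y⁻¹ * g) := by group
    rw [this, map_mul, mul_smul, conj_smul_of_mem_normalizer (hB h2)]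
  refine ⟨g, e1, e2, ?_⟩
  rw [e1, e2]
  exact hperm.conj g

end Cfsg.Agent.Lib.ProdHall
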