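import Mathlib
import Cfsg.Agent.Lib.HallPi
import Cfsg.Agent.Lib.ProdHall

/-!
Normal Hall subgroups of the factors of a factorised group.  (helper10)
-/

set_option autoImplicit false

namespace Cfsg.Agent.Lib.HallFactor

open Subgroup Pointwise
open Cfsg.Agent.Lib.HallPi Cfsg.Agent.Lib.ProdHall
open Cfsg.Agent.Lib.LocBase (IsSyl)
open Cfsg.Agent.Lib.SubgroupTools (card_mul_relIndex_of_le)

/-- A normal Hall subgroup of `C` contains the `π`-subgroups of `C`. -/
theorem le_of_normal_hall {G : Type*} [Group G] [Finite G] {π : Set ℕ} {X C P : Subgroup G}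
    (hX : Cfsg.IsPiHallOf π X C) (hn : C ≤ normalizer (X : Set G)) (hP : P ≤ C)
    (hPπ : PiNum π (Nat.card P)) : P ≤ X := by
  rw [isPiHallOf_iff] at hX
  have h4 : X.relIndex (X ⊔ P) ∣ X.relIndex C :=
    ⟨_, (relIndex_mul_relIndex X (X ⊔ P) C le_sup_left (sup_le hX.1 hP)).symm⟩
  have h5 : X.relIndex (X ⊔ P) ∣ Nat.card P := by
    have h6 := Lib.SubgroupTools.card_sup_mul_card_inf (N := X) (H := P) (hP.trans hn)
    have h7 := card_mul_relIndex_of_le (le_sup_left : X ≤ X ⊔ P)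
    rw [← h7, mul_assoc] at h6
    have h8 := Nat.eq_of_mul_eq_mul_left Nat.card_pos h6
    exact Dvd.intro _ h8
  have h3 : X.relIndex (X ⊔ P) = 1 := (hPπ.of_dvd h5).eq_one (hX.2.2.of_dvd h4)
  exact le_sup_right.trans (relIndex_eq_one.mp h3)

/-- If `G = CF` and `T` contains normal Hall `π`-subgroups of both factors, then `|G : T|` is a
`π'`-number. -/
theorem index_factor {G : Type*} [Group G] [Finite G] {π : Set ℕ} {X Y C F T : Subgroup G}
    (hprod : ∀ g : G, ∃ a ∈ C, ∃ b ∈ F, g = a * b)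
    (hX : Cfsg.IsPiHallOf π X C) (hXn : C ≤ normalizer (X : Set G))
    (hY : Cfsg.IsPiHallOf π Y F) (hYn : F ≤ normalizer (Y : Set G))
    (hXT : X ≤ T) (hYT : Y ≤ T) : PiNum πᶜ T.index := by
  intro r hr hrd hrπ
  have : Fact r.Prime := ⟨hr⟩
  obtain ⟨P, Q, R, hP, hQ, hR, hPQ⟩ := exists_sylow_factor hprod r
  have hpi : ∀ {P : Subgroup G}, IsPGroup r P → PiNum π (Nat.card P) := by
    intro P hP
    obtain ⟨k, hk⟩ := IsPGroup.iff_card.mp hP
    rw [hk]
    exact piNum_prime_pow hr hrπ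
  have hPX : P ≤ X := le_of_normal_hall hX hXn hP.le (hpi hP.pgroup)
  have hQY : Q ≤ Y := le_of_normal_hall hY hYn hQ.le (hpi hQ.pgroup)
  have hRT : R ≤ T := by
    intro x hx
    have : x ∈ (P : Set G) * (Q : Set G) := by rw [← hPQ]; exact hx
    obtain ⟨a, ha, b, hb, rfl⟩ := this
    exact mul_mem (hXT (hPX ha)) (hYT (hQY hb))
  apply hR.ndvd
  rw [relIndex_top_right, ← relIndex_mul_index hRT]
  exact hrd.mul_left _

end Cfsg.Agent.Lib.HallFactor
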