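import Cfsg.Agent.Lib.OutBound

/-!
# Normal form of automorphisms modulo inner ones (helper79)

`X` generates a self-centralizing Sylow subgroup of prime order and `U` normalizes it.
-/

set_option autoImplicit false

namespace Cfsg.Agent.Lib.LaneOut79

section

variable {G : Type*} [Group G]

theorem conj_pow' {U X : G} {r : ℕ} (h : U * X * U⁻¹ = X ^ r) (a j : ℕ) :
    U ^ a * X ^ j * (U ^ a)⁻¹ = X ^ (j * r ^ a) := by
  induction a with
  | zero => simp
  | succ a ih =>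
    have h1 : U * X ^ (j * r ^ a) * U⁻¹ = (U * X * U⁻¹) ^ (j * r ^ a) := by rw [conj_pow]
    calc U ^ (a + 1) * X ^ j * (U ^ (a + 1))⁻¹ = U * (U ^ a * X ^ j * (U ^ a)⁻¹) * U⁻¹ := by
          rw [pow_succ', mul_inv_rev]; simp only [mul_assoc]
      _ = _ := by rw [ih, h1, h, ← pow_mul]; congr 1; rw [pow_succ]; ring

theorem pow_mod_eq {X : G} {p : ℕ} (hX : orderOf X = p) (a : ℕ) : X ^ (a % p) = X ^ a := by
  rw [← hX, pow_mod_orderOf]

/-- normal form of an automorphism -/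
theorem exists_norm [Finite G] {p : ℕ} (hp : p.Prime) (hpG : p ∣ Nat.card G) (hpG2 : ¬ p * p ∣ Nat.card G) {X U : G}
    (hX : orderOf X = p) {r r' s : ℕ} (hU : U * X * U⁻¹ = X ^ r) (hU' : U⁻¹ * X * U = X ^ r')
    (hC : ∀ c : G, c * X = X * c → c ∈ Subgroup.zpowers X) (hs : ¬ p ∣ s)
    (hrep : ∀ j < p, j ≠ 0 → ∃ a < p, (j * r ^ a) % p = 1 ∨ (j * r ^ a) % p = s)
    (hadj : ∀ l < p, ∃ m < p, (r' * m + l) % p = m) (α : MulAut G) :
    ∃ g : G, ((MulAut.conj g * α) X = X ∨ (MulAut.conj g * α) X = X ^ s) ∧ (MulAut.conj g * α) U = U := by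
  have hF : Fact p.Prime := ⟨hp⟩
  have hcard : ∀ P : Sylow p G, Nat.card P = p := by
    intro P
    rw [Sylow.card_eq_multiplicity]
    have hpos : Nat.card G ≠ 0 := Nat.card_pos.ne'
    have h1 : (Nat.card G).factorization p = 1 := by
      have h2 : 1 ≤ (Nat.card G).factorization p := (hp.dvd_iff_one_le_factorization hpos).1 hpG
      have h3 : (Nat.card G).factorization p < 2 := by
        by_contra h4
        apply hpG2
        rw [← pow_two]
        exact (hp.pow_dvd_iff_le_factorization hpos).2 (by omega)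
      omega
    rw [h1, pow_one]
  have hz : ∀ z : G, orderOf z = p → ∃ P : Sylow p G, (P : Subgroup G) = Subgroup.zpowers z := by
    intro z hz
    have h1 : IsPGroup p (Subgroup.zpowers z) := IsPGroup.of_card (n := 1) (by rw [Nat.card_zpowers, hz, pow_one])
    obtain ⟨P, hP⟩ := h1.exists_le_sylow
    refine ⟨P, (Subgroup.eq_of_le_of_card_ge hP ?_).symm⟩
    rw [Nat.card_zpowers, hz]
    exact (hcard P).le
  -- step 1
  have hay : orderOf (α X) = p := by rw [MulEquiv.orderOf_eq, hX]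
  obtain ⟨P, hP⟩ := hz X hX
  obtain ⟨Q, hQ⟩ := hz (α X) hay
  obtain ⟨g, hg⟩ := MulAction.exists_smul_eq G Q P
  have h1 : g * α X * g⁻¹ ∈ Subgroup.zpowers X := by
    rw [← hP, ← hg, Sylow.coe_subgroup_smul, Subgroup.mem_smul_pointwise_iff_exists]
    exact ⟨α X, by rw [hQ]; exact Subgroup.mem_zpowers _, rfl⟩
  have h2 : orderOf (g * α X * g⁻¹) = p := by
    have : g * α X * g⁻¹ = MulAut.conj g (α X) := rfl
    rw [this, MulEquiv.orderOf_eq, hay]
  classical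
  rw [mem_zpowers_iff_mem_range_orderOf, hX] at h1
  obtain ⟨j, hj, hj2⟩ := Finset.mem_image.1 h1
  rw [Finset.mem_range] at hj
  have hj2' : X ^ j = g * α X * g⁻¹ := hj2
  have hj0 : j ≠ 0 := by
    rintro rfl
    rw [pow_zero] at hj2'
    rw [← hj2', orderOf_one] at h2
    exact hp.one_lt.ne h2
  -- step 2
  obtain ⟨a, ha, ha2⟩ := hrep j hj hj0
  set g2 := U ^ a * g with hg2
  have h3 : g2 * α X * g2⁻¹ = X ^ ((j * r ^ a) % p) := by
    rw [pow_mod_eq hX, ← conj_pow' hU a j, hj2', hg2, mul_inv_rev]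
    simp only [mul_assoc]
  -- the exponent
  obtain ⟨e, he1, he2⟩ : ∃ e, ¬ p ∣ e ∧ g2 * α X * g2⁻¹ = X ^ e ∧ (e = 1 ∨ e = s) := by
    rcases ha2 with h | h
    · exact ⟨1, fun hd => hp.one_lt.ne' (Nat.dvd_one.1 hd), by rw [h3, h], Or.inl rfl⟩
    · exact ⟨s, hs, by rw [h3, h], Or.inr rfl⟩
  -- step 3
  have h4 : (U⁻¹ * (g2 * α U * g2⁻¹)) * X ^ e = X ^ e * (U⁻¹ * (g2 * α U * g2⁻¹)) := by
    have h5 : (g2 * α U * g2⁻¹) * (g2 * α X * g2⁻¹) * (g2 * α U * g2⁻¹)⁻¹ = (g2 * α X * g2⁻¹) ^ r := by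
      have h6 : α U * α X * (α U)⁻¹ = α X ^ r := by rw [← map_mul, ← map_inv, ← map_mul, hU, map_pow]
      rw [conj_pow, ← h6]
      group
    rw [he2.1] at h5
    have h7 : U * X ^ e * U⁻¹ = (X ^ e) ^ r := by
      have := conj_pow' hU 1 e
      rw [pow_one, pow_one] at this
      rw [this, pow_mul]
    have h8 : (g2 * α U * g2⁻¹) * X ^ e = (U * X ^ e * U⁻¹) * (g2 * α U * g2⁻¹) := by
      rw [h7, ← h5]; group
    calc (U⁻¹ * (g2 * α U * g2⁻¹)) * X ^ e = U⁻¹ * ((g2 * α U * g2⁻¹) * X ^ e) := by rw [mul_assoc]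
      _ = U⁻¹ * ((U * X ^ e * U⁻¹) * (g2 * α U * g2⁻¹)) := by rw [h8]
      _ = _ := by group
  have h5 : (U⁻¹ * (g2 * α U * g2⁻¹)) * X = X * (U⁻¹ * (g2 * α U * g2⁻¹)) := by
    obtain ⟨f, hf⟩ : ∃ f : ℕ, X ^ (e * f) = X := by
      have hcop : Nat.Coprime e p := ((Nat.Prime.coprime_iff_not_dvd hp).2 he1).symm
      obtain ⟨f, hf⟩ := Nat.exists_mul_mod_eq_one_of_coprime hcop hp.one_lt
      refine ⟨f, ?_⟩
      rw [← pow_mod_eq hX, hf.2, pow_one]
    have h6 : Commute (U⁻¹ * (g2 * α U * g2⁻¹)) (X ^ e) := h4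
    have h7 := (h6.pow_right f).eq
    rw [← pow_mul, hf] at h7
    exact h7
  have h6 := hC _ h5
  rw [mem_zpowers_iff_mem_range_orderOf, hX] at h6
  obtain ⟨l, hl, hl2⟩ := Finset.mem_image.1 h6
  rw [Finset.mem_range] at hl
  have hl2' : X ^ l = U⁻¹ * (g2 * α U * g2⁻¹) := hl2
  -- step 4
  obtain ⟨m, hm, hm2⟩ := hadj l hl
  refine ⟨X ^ m * g2, ?_, ?_⟩
  · have h7 : (MulAut.conj (X ^ m * g2) * α) X = X ^ e := by
      show (X ^ m * g2) * α X * (X ^ m * g2)⁻¹ = X ^ e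
      calc (X ^ m * g2) * α X * (X ^ m * g2)⁻¹ = X ^ m * (g2 * α X * g2⁻¹) * (X ^ m)⁻¹ := by group
        _ = X ^ m * X ^ e * (X ^ m)⁻¹ := by rw [he2.1]
        _ = X ^ e := by rw [← pow_add, add_comm, pow_add, mul_inv_cancel_right]
    rcases he2.2 with h | h
    · left; rw [h7, h, pow_one]
    · right; rw [h7, h]
  · show (X ^ m * g2) * α U * (X ^ m * g2)⁻¹ = U
    have h8 : g2 * α U * g2⁻¹ = U * X ^ l := by rw [hl2']; group
    have h9 : U⁻¹ * X ^ m * U = X ^ (m * r') := by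
      have := conj_pow' (U := U⁻¹) (X := X) (r := r') (by rw [inv_inv]; exact hU') 1 m
      rw [pow_one, pow_one, inv_inv] at this
      exact this
    calc (X ^ m * g2) * α U * (X ^ m * g2)⁻¹ = X ^ m * (g2 * α U * g2⁻¹) * (X ^ m)⁻¹ := by group
      _ = U * ((U⁻¹ * X ^ m * U) * X ^ l) * (X ^ m)⁻¹ := by rw [h8]; group
      _ = U * (X ^ ((r' * m + l) % p)) * (X ^ m)⁻¹ := by
          rw [h9, ← pow_add, pow_mod_eq hX, mul_comm m r']
      _ = U := by rw [hm2, mul_inv_cancel_right]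

end

section out

variable {G : Type*} [Group G]

theorem card_out_le_two [Finite G] (h : ∀ α β : MulAut G, α ∉ Cfsg.Inn G → β ∉ Cfsg.Inn G → α⁻¹ * β ∈ Cfsg.Inn G) :
    Nat.card (Cfsg.Out G) ≤ 2 := by
  classical
  by_cases hall : ∀ α : MulAut G, α ∈ Cfsg.Inn G
  · have : Subsingleton (Cfsg.Out G) := by
      refine ⟨fun a b => ?_⟩
      obtain ⟨a, rfl⟩ := QuotientGroup.mk_surjective a
      obtain ⟨b, rfl⟩ := QuotientGroup.mk_surjective b
      exact QuotientGroup.eq.2 (hall _)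
    rw [Nat.card_of_subsingleton (1 : Cfsg.Out G)]
    norm_num
  · push Not at hall
    obtain ⟨β, hβ⟩ := hall
    have hsurj : Function.Surjective (fun b : Bool => (if b then (1 : Cfsg.Out G) else (β : Cfsg.Out G))) := by
      intro a
      obtain ⟨a, rfl⟩ := QuotientGroup.mk_surjective a
      by_cases ha : a ∈ Cfsg.Inn G
      · exact ⟨true, ((QuotientGroup.eq_one_iff a).2 ha).symm⟩
      · exact ⟨false, QuotientGroup.eq.2 (h β a hβ ha)⟩
    have := Nat.card_le_card_of_surjective _ hsurj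
    rwa [Nat.card_eq_fintype_card (α := Bool), Fintype.card_bool] at this

theorem card_out_eq_two [Finite G] (h : ∀ α β : MulAut G, α ∉ Cfsg.Inn G → β ∉ Cfsg.Inn G → α⁻¹ * β ∈ Cfsg.Inn G)
    (θ : MulAut G) (hθ : θ ∉ Cfsg.Inn G) : Nat.card (Cfsg.Out G) = 2 := by
  apply le_antisymm (card_out_le_two h)
  have h1 : (θ : Cfsg.Out G) ≠ 1 := fun h => hθ ((QuotientGroup.eq_one_iff θ).1 h)
  have hf : Finite (Cfsg.Out G) := by
    have : Finite (MulAut G) := Finite.of_injective (fun f : MulAut G => (f : G → G)) DFunLike.coe_injective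
    infer_instance
  have : Nontrivial (Cfsg.Out G) := ⟨⟨_, _, h1⟩⟩
  exact Finite.one_lt_card

/-- all automorphisms fixing `X` and `U` are inner, at most two classes of values of `X` -/
theorem card_out_eq_two' [Finite G] {X U : G} {s : ℕ}
    (hnorm : ∀ α : MulAut G, ∃ g : G, ((MulAut.conj g * α) X = X ∨ (MulAut.conj g * α) X = X ^ s) ∧
      (MulAut.conj g * α) U = U)
    (hin : ∀ α : MulAut G, α X = X → α U = U → α ∈ Cfsg.Inn G)
    (θ : MulAut G) (hθ : θ ∉ Cfsg.Inn G) : Nat.card (Cfsg.Out G) = 2 := by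
  apply card_out_eq_two _ θ hθ
  have key : ∀ α : MulAut G, α ∉ Cfsg.Inn G → ∃ g : G, (MulAut.conj g * α) X = X ^ s ∧ (MulAut.conj g * α) U = U := by
    intro α hα
    obtain ⟨g, h | h, h2⟩ := hnorm α
    · exfalso
      apply hα
      have h3 := hin _ h h2
      have h4 : MulAut.conj g ∈ Cfsg.Inn G := ⟨g, rfl⟩
      have h5 := (Cfsg.Inn G).mul_mem ((Cfsg.Inn G).inv_mem h4) h3
      rwa [inv_mul_cancel_left] at h5
    · exact ⟨g, h, h2⟩
  intro α β hα hβ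
  obtain ⟨g, hg1, hg2⟩ := key α hα
  obtain ⟨g', hg1', hg2'⟩ := key β hβ
  have h1 : (MulAut.conj g * α)⁻¹ * (MulAut.conj g' * β) ∈ Cfsg.Inn G := by
    apply hin
    · rw [MulAut.mul_apply, hg1', ← hg1, MulAut.inv_apply_self]
    · rw [MulAut.mul_apply, hg2', ← hg2, MulAut.inv_apply_self, hg2]
  have h4 : ∀ g : G, MulAut.conj g ∈ Cfsg.Inn G := fun g => ⟨g, rfl⟩
  -- α⁻¹ conj(g)⁻¹ conj(g') β ∈ Inn ; Inn normal
  have h5 : α⁻¹ * ((MulAut.conj g)⁻¹ * MulAut.conj g') * α ∈ Cfsg.Inn G := by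
    have := Subgroup.Normal.conj_mem (inferInstance : (Cfsg.Inn G).Normal) _
      ((Cfsg.Inn G).mul_mem ((Cfsg.Inn G).inv_mem (h4 g)) (h4 g')) α⁻¹
    rwa [inv_inv] at this
  have h6 : α⁻¹ * β = (α⁻¹ * ((MulAut.conj g)⁻¹ * MulAut.conj g') * α)⁻¹ *
      ((MulAut.conj g * α)⁻¹ * (MulAut.conj g' * β)) := by group
  rw [h6]
  exact (Cfsg.Inn G).mul_mem ((Cfsg.Inn G).inv_mem h5) h1

end out

end Cfsg.Agent.Lib.LaneOut79
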