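import Cfsg.Agent.Lib.HeOut79
import Cfsg.Agent.Lib.LaneOut79b

/-! The outer automorphism group of the Held group has order 2 (helper79). -/

set_option autoImplicit false
set_option maxRecDepth 100000
set_option exponentiation.threshold 5000

namespace Cfsg.Agent.Lib.HeOut79
open Cfsg Cfsg.Spor
open Cfsg.Agent.Lib.BenesPerm Cfsg.Agent.Lib.BenesAct Cfsg.Agent.Lib.BenesWord Cfsg.Agent.Lib.BenesPack
open Cfsg.Agent.Lib.TransLanes Cfsg.Agent.Lib.LaneTools Cfsg.Agent.Lib.LaneOut79
open Cfsg.Agent.Lib.HeRel Cfsg.Agent.Lib.HeNetsA Cfsg.Agent.Lib.HeAIdx Cfsg.Agent.Lib.HeA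
open Cfsg.Agent.Lib.CoxBridge Cfsg.Agent.Lib.CosetGroup

/-- the group -/
abbrev G : Type := CoxPresented He.Gen He.edges He.extra

/-- the letters -/
noncomputable abbrev x : ℕ → G := C.x L0

theorem tabs_ok : TabsOK nets 12 7 tabs := by
  intro c hc
  interval_cases c
  · exact tb0_ok
  · exact tb1_ok
  · exact tb2_ok
  · exact tb3_ok
  · exact tb4_ok
  · exact tb5_ok
  · exact tb6_ok

theorem pt {w : List ℕ} {i j : ℕ} (h : ptT tabs 7 w i j = true) (hi : i < 4096 := by norm_num) : wfn nets w i = j :=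
  ptT_spec (k := 12) c_nets tabs_ok (by norm_num; exact hi) h

theorem gen_top (P : Subgroup G) (h : ∀ c < 7, x c ∈ P) : P = ⊤ := by
  rw [eq_top_iff, ← C.closure_letters L0, Subgroup.closure_le]
  rintro g ⟨w, hw, rfl⟩
  obtain ⟨c, hc, rfl⟩ := List.mem_map.mp hw
  exact h c (List.mem_range.mp hc)

/-- invariance of an orbit mask -/
theorem mask_inv {G : Type*} [Group G] {φ : G →* Equiv.Perm ℕ} {H : Subgroup G} {n : ℕ} {f : ℕ → G ⧸ H}
    (heq : ∀ g i, i < n → g • f i = f (φ g i)) (hlt : ∀ g i, i < n → φ g i < n)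
    (hfinj : ∀ i j, i < n → j < n → f i = f j → i = j) {r M : ℕ}
    (ho : MulAction.orbit H (f r) = f '' {i | Nat.testBit M i = true}) (hM : ∀ i, M.testBit i = true → i < n)
    {g : G} (hg : g ∈ H) {q : ℕ} (hq : q < n) : M.testBit (φ g q) = M.testBit q := by
  have key : ∀ (g : G), g ∈ H → ∀ q, q < n → M.testBit q = true → M.testBit (φ g q) = true := by
    intro g hg q hq h
    have h1 : f q ∈ MulAction.orbit H (f r) := by rw [ho]; exact ⟨q, h, rfl⟩
    obtain ⟨⟨h', hh'⟩, h1⟩ := h1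
    have h1' : h' • f r = f q := h1
    have h2 : f (φ g q) ∈ MulAction.orbit H (f r) := by
      refine ⟨⟨g * h', H.mul_mem hg hh'⟩, ?_⟩
      show (g * h') • f r = f (φ g q)
      rw [mul_smul, h1', heq g q hq]
    rw [ho] at h2
    obtain ⟨j, hj, hj2⟩ := h2
    have h3 := hfinj _ _ (hM j hj) (hlt g q hq) hj2
    rw [← h3]; exact hj
  rw [Bool.eq_iff_iff]
  constructor
  · intro h
    have h1 := key g⁻¹ (H.inv_mem hg) _ (hlt g q hq) h
    rwa [← Equiv.Perm.mul_apply, ← map_mul, inv_mul_cancel, map_one] at h1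
  · exact key g hg q hq

theorem bits_lt {M n : ℕ} (h : M < 2 ^ n) (i : ℕ) (hi : M.testBit i = true) : i < n := by
  by_contra hc
  push Not at hc
  rw [Nat.testBit_lt_two_pow (lt_of_lt_of_le h (Nat.pow_le_pow_right (by norm_num) hc))] at hi
  exact absurd hi (by simp)

theorem M0_lt : M0 < 2 ^ 2058 := by decide +kernel
theorem M1_lt : M1 < 2 ^ 2058 := by decide +kernel
theorem M2_lt : M2 < 2 ^ 2058 := by decide +kernel
theorem M3_lt : M3 < 2 ^ 2058 := by decide +kernel

/-- the setting -/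
theorem setting : IsSimpleGroup G ∧ Nat.card G = 4030387200 ∧ ∃ φ : G →* Equiv.Perm ℕ,
    LaneOut79.Ctx x φ nets 12 2058 iv Ms ∧ Function.Injective φ ∧
    (∀ g, (∀ b ∈ [34, 15, 1, 0], φ g b = b) → g = 1) := by
  obtain ⟨hs, hcard, φ, hφ, hinj, hbase⟩ := Cfsg.Agent.Lib.HeOrd.main
  refine ⟨hs, hcard, φ, ?_, hinj, hbase⟩
  obtain ⟨φ', f, hφ', hf0, heq, hlt, hfinj, horb, hfix, hfsurj, hidx, o0, o1, o2, o3⟩ :=
    Cfsg.Agent.Lib.HeAIdx.main _ rfl
  have he : φ = φ' := by
    have h1 : φ.eqLocus φ' = ⊤ := gen_top _ (fun c _ => by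
      show φ (x c) = φ' (x c)
      rw [hφ, hφ'])
    refine MonoidHom.ext fun g => ?_
    have : g ∈ φ.eqLocus φ' := by rw [h1]; exact Subgroup.mem_top _
    exact this
  subst he
  refine ⟨c_nets, hφ, x_iv0, by norm_num, by norm_num, hlt, ?_⟩
  intro M hM g hg q hq
  have hgH := mem_of_fix (by norm_num) hf0 heq g hg
  simp only [Ms, List.mem_cons, List.not_mem_nil, or_false] at hM
  rcases hM with rfl | rfl | rfl | rfl
  · exact mask_inv heq hlt hfinj o0.1 (bits_lt M0_lt) hgH hq
  · exact mask_inv heq hlt hfinj o1.1 (bits_lt M1_lt) hgH hq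
  · exact mask_inv heq hlt hfinj o2.1 (bits_lt M2_lt) hgH hq
  · exact mask_inv heq hlt hfinj o3.1 (bits_lt M3_lt) hgH hq

section

variable {φ : G →* Equiv.Perm ℕ} (K : LaneOut79.Ctx x φ nets 12 2058 iv Ms) (hinj : Function.Injective φ)
  (hbase : ∀ g, (∀ b ∈ [34, 15, 1, 0], φ g b = b) → g = 1)
include K

theorem φpt {w : List ℕ} {i j : ℕ} (h : ptT tabs 7 w i j = true) (hi : i < 4096 := by norm_num) :
    φ (Wx x w) i = j := by
  rw [K.φ_word]; exact pt h hi

/-- an element commuting with `X` fixes lane 0 -/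
theorem fix0 (c : G) (hc : c * Wx x X = Wx x X * c) : φ c 0 = 0 := by
  have h1 : φ (Wx x X) (φ c 0) = φ c 0 := by
    have h2 : φ (Wx x X) 0 = 0 := φpt K X_fix0
    rw [← Equiv.Perm.mul_apply, ← map_mul, ← hc, map_mul, Equiv.Perm.mul_apply, h2]
  rw [K.φ_word] at h1
  have h2 := (fixOK_spec (i := φ c 0) K.hns K.hn fixX (K.hlt c 0 K.h0)).2 h1
  by_contra hne
  have h3 : (1 : ℕ).testBit (φ c 0) = false := Nat.testBit_lt_two_pow (by
    have : 1 ≤ φ c 0 := Nat.one_le_iff_ne_zero.2 hne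
    calc 1 < 2 ^ 1 := by norm_num
      _ ≤ 2 ^ φ c 0 := Nat.pow_le_pow_right (by norm_num) this)
  rw [h3] at h2
  exact absurd h2 (by simp)

theorem fixU_cases (l : ℕ) (hl : l < 2058) (h : φ (Wx x U) l = l) : l = 0 ∨ l = 306 := by
  rw [K.φ_word] at h
  have h2 := (fixOK_spec (i := l) K.hns K.hn fixU hl).2 h
  have h3 : Nat.lor 1 (Nat.pow 2 306) = 2 ^ 0 ||| 2 ^ 306 := rfl
  rw [h3, Nat.testBit_or, Nat.testBit_two_pow, Nat.testBit_two_pow, Bool.or_eq_true, decide_eq_true_eq,
    decide_eq_true_eq] at h2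
  rcases h2 with h | h
  · exact Or.inl h.symm
  · exact Or.inr h.symm

include hbase in
/-- the centralizer of `X` -/
theorem centX (c : G) (hc : c * Wx x X = Wx x X * c) : c ∈ Subgroup.zpowers (Wx x X) := by
  refine K.step_cyc (tb := t46) (b := 46) (e := 17) (L := [(0, 0, 2)]) (reps := reps1) (M := M2) (pt t46_pt) bit1 sub1
    cov1 (Subgroup.mem_zpowers _) (φpt K X_fix0) ?_ ?_ c hc (fix0 K c hc)
  · intro r hr hne c hc hcb
    have h1 : r ∈ (46 :: mis1.map (fun e => e.2.1)) := by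
      rw [← bitsK_spec, Nat.eq_of_beq_eq_true mis1_cov, bitsK_spec]; exact hr
    rcases List.mem_cons.1 h1 with h1 | h1
    · exact hne h1
    · obtain ⟨e, he, her⟩ := List.mem_map.1 h1
      obtain ⟨h2, h3, h4, h5⟩ := misT_spec mis1_ok e he
      refine K.excl_mis hc (tb := t46) (tr := e.1) ?_ (pt h3) (pt h4) h5
      rw [K.φ_word, K.φ_word, pt t46_pt, pt h2, hcb, her]
  · intro c hc hF
    have : c = 1 := by
      refine K.pins hbase hc hF ?_
      intro b hb
      simp only [List.mem_cons, List.not_mem_nil, or_false] at hb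
      rcases hb with rfl | rfl | rfl | rfl
      · right; exact ⟨_, pin1_34⟩
      · right; exact ⟨_, pin1_15⟩
      · right; exact ⟨_, pin1_1⟩
      · left; rfl
    rw [this]; exact Subgroup.one_mem _

include hinj in
theorem UD_comm : Wx x D * Wx x U = Wx x U * Wx x D := by
  have := K.eq_of_rel hinj relUD
  rw [Wx_append, Wx_append] at this
  exact this.symm

include hinj in
theorem U_pow : Wx x U ^ 8 = 1 := by
  rw [← Wx_wpow]; exact K.one_of_rel hinj relU8

include hinj in
theorem D_sq : Wx x D ^ 2 = 1 := by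
  have := K.one_of_rel hinj relD2
  rwa [Wx_append, ← pow_two] at this

/-- the abelian group `⟨U, D⟩` -/
def KE : Subgroup G := Subgroup.closure {Wx x U, Wx x D}

include hinj in
theorem mem_KE {c : G} (hc : c ∈ KE) : ∃ i < 8, ∃ j < 2, c = Wx x U ^ i * Wx x D ^ j := by
  have hcomm : Commute (Wx x D) (Wx x U) := UD_comm K hinj
  have h1 : ∃ i j : ℕ, c = Wx x U ^ i * Wx x D ^ j := by
    unfold KE at hc
    induction hc using Subgroup.closure_induction with
    | mem y hy =>
      rcases hy with rfl | hy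
      · exact ⟨1, 0, by simp⟩
      · exact ⟨0, 1, by rw [Set.mem_singleton_iff.1 hy]; simp⟩
    | one => exact ⟨0, 0, by simp⟩
    | mul a b _ _ ha hb =>
      obtain ⟨i, j, rfl⟩ := ha
      obtain ⟨i', j', rfl⟩ := hb
      refine ⟨i + i', j + j', ?_⟩
      have h2 : Wx x D ^ j * Wx x U ^ i' = Wx x U ^ i' * Wx x D ^ j := (hcomm.pow_pow j i').eq
      calc Wx x U ^ i * Wx x D ^ j * (Wx x U ^ i' * Wx x D ^ j') =
          Wx x U ^ i * (Wx x D ^ j * Wx x U ^ i') * Wx x D ^ j' := by simp only [mul_assoc]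
        _ = _ := by rw [h2, pow_add, pow_add]; simp only [mul_assoc]
    | inv a _ ha =>
      obtain ⟨i, j, rfl⟩ := ha
      refine ⟨7 * i, 7 * j, ?_⟩
      have h2 : Commute (Wx x U ^ i) (Wx x D ^ j) := (hcomm.symm.pow_pow i j)
      have h3 : (Wx x U ^ i * Wx x D ^ j) ^ 8 = 1 := by
        rw [h2.mul_pow, ← pow_mul, ← pow_mul, mul_comm i 8, mul_comm j 8, pow_mul, U_pow K hinj, one_pow,
          show 8 * j = 2 * (4 * j) by ring, pow_mul, D_sq K hinj, one_pow, mul_one]
      rw [inv_eq_iff_mul_eq_one]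
      calc Wx x U ^ i * Wx x D ^ j * (Wx x U ^ (7 * i) * Wx x D ^ (7 * j))
          = (Wx x U ^ i * Wx x D ^ j) * (Wx x U ^ i * Wx x D ^ j) ^ 7 := by
            rw [h2.mul_pow, ← pow_mul, ← pow_mul, mul_comm i 7, mul_comm j 7]
        _ = 1 := by rw [← pow_succ', h3]
  obtain ⟨i, j, rfl⟩ := h1
  refine ⟨i % 8, Nat.mod_lt _ (by norm_num), j % 2, Nat.mod_lt _ (by norm_num), ?_⟩
  rw [← pow_eq_pow_mod i (U_pow K hinj), ← pow_eq_pow_mod j (D_sq K hinj)]

omit K in
theorem U_mem : Wx x U ∈ KE := Subgroup.subset_closure (by simp)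
omit K in
theorem D_mem : Wx x D ∈ KE := Subgroup.subset_closure (by simp)

include hinj in
theorem Ws1_ok (i j : ℕ) : Wx x (wpow U i ++ wpow D j) ∈ KE ∧
    Wx x (wpow U i ++ wpow D j) * Wx x U = Wx x U * Wx x (wpow U i ++ wpow D j) ∧
    φ (Wx x (wpow U i ++ wpow D j)) 0 = 0 ∧ φ (Wx x (wpow U i ++ wpow D j)) 306 = 306 := by
  have hcomm : Commute (Wx x D) (Wx x U) := UD_comm K hinj
  rw [Wx_append, Wx_wpow, Wx_wpow]
  refine ⟨KE.mul_mem (KE.pow_mem U_mem i) (KE.pow_mem D_mem j), ?_, ?_, ?_⟩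
  · exact (((Commute.refl (Wx x U)).pow_left i).mul_left (hcomm.pow_left j)).eq
  · rw [map_mul, Equiv.Perm.mul_apply, map_pow, map_pow, Function.IsFixedPt.perm_pow (φpt K D_fix0) j]
    exact Function.IsFixedPt.perm_pow (φpt K U_fix0) i
  · rw [map_mul, Equiv.Perm.mul_apply, map_pow, map_pow, Function.IsFixedPt.perm_pow (φpt K D_fix306) j]
    exact Function.IsFixedPt.perm_pow (φpt K U_fix306) i

include hinj hbase in
/-- the centralizer of `U` in the stabilizer of lane 0 -/
theorem centU (c : G) (hc : c * Wx x U = Wx x U * c) (hc0 : φ c 0 = 0) : c ∈ KE := by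
  have h306 : φ c 306 = 306 := by
    have h1 : φ (Wx x U) (φ c 306) = φ c 306 := by
      have h2 : φ (Wx x U) 306 = 306 := φpt K U_fix306
      rw [← Equiv.Perm.mul_apply, ← map_mul, ← hc, map_mul, Equiv.Perm.mul_apply, h2]
    rcases fixU_cases K _ (K.hlt c 306 (by norm_num)) h1 with h2 | h2
    · exfalso
      have h3 : φ c 306 = φ c 0 := by rw [h2, hc0]
      exact absurd ((φ c).injective h3) (by norm_num)
    · exact h2
  have ht306 : φ (Wx x t306) 0 = 306 := φpt K t306_pt
  refine K.step_cov (Ts := [t306]) (tb := t68) (b := 68) (L := A1) (Ws := Ws1) (reps := [68, 471]) (pt t68_pt) bitA1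
    covA1 ?_ ?_ ?_ c hc ⟨hc0, by
      intro t ht
      rw [List.mem_singleton.1 ht, ht306, h306]⟩
  · intro w hw
    obtain ⟨i, j, rfl⟩ : ∃ i j, w = wpow U i ++ wpow D j := by
      unfold Ws1 at hw
      rw [List.mem_flatMap] at hw
      obtain ⟨i, _, hw⟩ := hw
      rcases List.mem_cons.1 hw with h | hw
      · exact ⟨i, 0, by rw [h]; simp [wpow]⟩
      · exact ⟨i, 1, by rw [List.mem_singleton.1 hw]; simp [wpow]⟩
    obtain ⟨h1, h2, h3, h4⟩ := Ws1_ok K hinj i j
    refine ⟨h1, h2, h3, ?_⟩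
    intro t ht
    rw [List.mem_singleton.1 ht, ht306, h4]
  · intro r hr hne c hc hF hcb
    simp only [List.mem_cons, List.not_mem_nil, or_false] at hr
    rcases hr with rfl | rfl
    · exact hne rfl
    · refine K.excl_emp hc hF (tb := t68) (tr := t471) ?_ emp1a emp1b
      rw [φpt K t68_pt, φpt K t471_pt, hcb]
  · intro c hc hF
    have ht68 : φ (Wx x t68) 0 = 68 := φpt K t68_pt
    refine K.step_cov (Ts := [t306, t68]) (tb := t111) (b := 111) (L := A2) (Ws := Ws2) (reps := [111, 275]) (pt t111_pt)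
      bitA2 covA2 ?_ ?_ ?_ c hc hF
    · intro w hw
      unfold Ws2 at hw
      rcases List.mem_cons.1 hw with rfl | hw
      · refine ⟨KE.one_mem, ?_, ?_⟩
        · rw [Wx_nil, one_mul, mul_one]
        · rw [Wx_nil]
          refine ⟨by rw [map_one]; rfl, fun t _ => by rw [map_one]; rfl⟩
      · rw [List.mem_singleton] at hw
        have hw' : w = wpow U 4 ++ wpow D 1 := by rw [hw]; simp [wpow]
        obtain ⟨h1, h2, h3, h4⟩ := Ws1_ok K hinj 4 1
        rw [hw']
        refine ⟨h1, h2, h3, ?_⟩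
        intro t ht
        simp only [List.mem_cons, List.not_mem_nil, or_false] at ht
        rcases ht with rfl | rfl
        · rw [ht306, h4]
        · rw [ht68, ← hw', hw]
          exact φpt K UD_fix68
    · intro r hr hne c hc hF hcb
      simp only [List.mem_cons, List.not_mem_nil, or_false] at hr
      rcases hr with rfl | rfl
      · exact hne rfl
      · refine K.excl_emp hc hF (tb := t111) (tr := t275) ?_ emp2a emp2b
        rw [φpt K t111_pt, φpt K t275_pt, hcb]
    · intro c hc hF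
      have : c = 1 := by
        refine K.pins hbase hc hF ?_
        intro b hb
        simp only [List.mem_cons, List.not_mem_nil, or_false] at hb
        rcases hb with rfl | rfl | rfl | rfl
        · right; exact ⟨_, pin3_34⟩
        · right; exact ⟨_, pin3_15⟩
        · right; exact ⟨_, pin3_1⟩
        · left; rfl
      rw [this]; exact Subgroup.one_mem _

include hinj in
/-- a subgroup containing `X`, `U` and `W` is everything -/
theorem top_of (P : Subgroup G) (hX : Wx x X ∈ P) (hU : Wx x U ∈ P) (hW : Wx x W ∈ P) : P = ⊤ := by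
  have key : ∀ p : List ℕ, Wx x (flatK mvs p) ∈ P := by
    intro p
    induction p with
    | nil => exact P.one_mem
    | cons i p ih =>
      rw [flatK_cons, Wx_append]
      refine P.mul_mem ?_ ih
      rcases nthK_mem [] mvs i with h | h
      · rw [h]; exact P.one_mem
      · generalize nthK [] mvs i = v at h ⊢
        simp only [mvs, List.mem_cons, List.not_mem_nil, or_false] at h
        rcases h with h | h | h | h | h
        · rw [h]; exact hX
        · rw [h, Wx_iw K.hiv]; exact P.inv_mem hX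
        · rw [h]; exact hU
        · rw [h, Wx_iw K.hiv]; exact P.inv_mem hU
        · rw [h]; exact hW
  apply gen_top
  have h1 : ∀ (c : ℕ) (s : List ℕ), relD nets 12 4 (flatK mvs s ++ iw iv [c]) = true → x c ∈ P := by
    intro c s h
    have h2 := K.eq_of_rel hinj h
    have h3 : Wx x [c] = x c := by simp [Wx]
    rw [← h3, ← h2]
    exact key s
  intro c hc
  interval_cases c
  · exact h1 0 _ s0_ok
  · exact h1 1 _ s1_ok
  · exact h1 2 _ s2_ok
  · exact h1 3 _ s3_ok
  · exact h1 4 _ s4_ok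
  · exact h1 5 _ s5_ok
  · exact h1 6 _ s6_ok

/-- exclusion of a candidate through a power -/
theorem cand_ne {w : List ℕ} {m y z : ℕ} (h : ptT tabs 7 (wpow w m) y z = true) (hy : y < 4096) (hyz : y ≠ z)
    (h1 : Wx x w ^ m = 1) : False := by
  apply hyz
  have h2 := φpt K h hy
  rw [Wx_wpow, h1, map_one] at h2
  exact h2

include hinj hbase in
/-- an automorphism fixing `X` and `U` is trivial -/
theorem aut_one (α : MulAut G) (hX : α (Wx x X) = Wx x X) (hU : α (Wx x U) = Wx x U) : α = 1 := by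
  have hW2 : Wx x W * Wx x W = 1 := by
    have := K.eq_of_rel hinj relW2
    rwa [Wx_append, Wx_nil] at this
  have hWU : Wx x W * (Wx x U * (Wx x W)⁻¹) = (Wx x U)⁻¹ := by
    have := K.eq_of_rel hinj relWU
    rwa [Wx_append, Wx_append, Wx_iw K.hiv, Wx_iw K.hiv] at this
  have hXW : (Wx x X * Wx x W) ^ 8 = 1 := by
    have := K.eq_of_rel hinj relXW
    rwa [Wx_wpow, Wx_append, Wx_nil] at this
  set c := α (Wx x W) with hc
  have hc2 : c * c = 1 := by rw [hc, ← map_mul, hW2, map_one]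
  have hcU : c * (Wx x U * c⁻¹) = (Wx x U)⁻¹ := by
    have h := congrArg α hWU
    rwa [map_mul, map_mul, map_inv, map_inv, hU] at h
  have hXc : (Wx x X * c) ^ 8 = 1 := by
    have h := congrArg α hXW
    rwa [map_pow, map_mul, hX, map_one] at h
  have hU0 : φ (Wx x U) 0 = 0 := φpt K U_fix0
  have hW0 : φ (Wx x W) 0 = 306 := φpt K W_306
  have hX0 : φ (Wx x X) 0 = 0 := φpt K X_fix0
  have hUcU : Wx x U * (c * Wx x U) = c := by
    have h : c * Wx x U * c⁻¹ = (Wx x U)⁻¹ := by rw [mul_assoc]; exact hcU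
    have h2 : c * Wx x U = (Wx x U)⁻¹ * c := by rw [← h]; group
    rw [h2, mul_inv_cancel_left]
  have hfix : φ (Wx x U) (φ c 0) = φ c 0 := by
    have h := congrArg (fun g => φ g 0) hUcU
    simp only [map_mul, Equiv.Perm.mul_apply, hU0] at h
    exact h
  have hc306 : φ c 0 = 306 := by
    rcases fixU_cases K _ (K.hlt c 0 (by norm_num)) hfix with h | h
    · exfalso
      let P : Subgroup G := (MulAction.stabilizer (Equiv.Perm ℕ) 0).comap (φ.comp α.toMonoidHom)
      have hP : P = ⊤ := by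
        apply top_of K hinj
        · show φ (α (Wx x X)) 0 = 0
          rw [hX]; exact hX0
        · show φ (α (Wx x U)) 0 = 0
          rw [hU]; exact hU0
        · exact h
      have h1 : α.symm (Wx x W) ∈ P := by rw [hP]; exact Subgroup.mem_top _
      have h2 : φ (α (α.symm (Wx x W))) 0 = 0 := h1
      rw [MulEquiv.apply_symm_apply, hW0] at h2
      exact absurd h2 (by norm_num)
    · exact h
  -- the centralizer element
  have h1 : ((Wx x W)⁻¹ * c) * Wx x U = Wx x U * ((Wx x W)⁻¹ * c) := by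
    have h2 : c * Wx x U = (Wx x U)⁻¹ * c := by
      have h : c * Wx x U * c⁻¹ = (Wx x U)⁻¹ := by rw [mul_assoc]; exact hcU
      rw [← h]; group
    have h3 : (Wx x W)⁻¹ * (Wx x U)⁻¹ = Wx x U * (Wx x W)⁻¹ := by
      rw [← hWU]; group
    rw [mul_assoc, h2, ← mul_assoc, h3, mul_assoc]
  have h2 : φ ((Wx x W)⁻¹ * c) 0 = 0 := by
    rw [map_mul, Equiv.Perm.mul_apply, hc306, ← hW0, ← Equiv.Perm.mul_apply, ← map_mul, inv_mul_cancel, map_one]
    rfl
  obtain ⟨i, hi, j, hj, hij⟩ := mem_KE K hinj (centU K hinj hbase _ h1 h2)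
  have h3 : c = Wx x (W ++ (wpow U i ++ wpow D j)) := by
    rw [Wx_append, Wx_append, Wx_wpow, Wx_wpow, ← hij, mul_inv_cancel_left]
  have h4 : Wx x (W ++ (wpow U i ++ wpow D j)) ^ 2 = 1 := by rw [← h3, pow_two, hc2]
  have h5 : Wx x (X ++ (W ++ (wpow U i ++ wpow D j))) ^ 8 = 1 := by rw [Wx_append, ← h3, hXc]
  have h6 : i = 0 ∧ j = 0 := by
    interval_cases j
    · refine ⟨?_, rfl⟩
      interval_cases i
      · rfl
      · exact (cand_ne K cd_1_0 (by norm_num) (by norm_num) h5).elim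
      · exact (cand_ne K cd_2_0 (by norm_num) (by norm_num) h5).elim
      · exact (cand_ne K cd_3_0 (by norm_num) (by norm_num) h5).elim
      · exact (cand_ne K cd_4_0 (by norm_num) (by norm_num) h5).elim
      · exact (cand_ne K cd_5_0 (by norm_num) (by norm_num) h5).elim
      · exact (cand_ne K cd_6_0 (by norm_num) (by norm_num) h5).elim
      · exact (cand_ne K cd_7_0 (by norm_num) (by norm_num) h5).elim
    · exfalso
      interval_cases i
      · exact cand_ne K cd_0_1 (by norm_num) (by norm_num) h4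
      · exact cand_ne K cd_1_1 (by norm_num) (by norm_num) h4
      · exact cand_ne K cd_2_1 (by norm_num) (by norm_num) h4
      · exact cand_ne K cd_3_1 (by norm_num) (by norm_num) h4
      · exact cand_ne K cd_4_1 (by norm_num) (by norm_num) h4
      · exact cand_ne K cd_5_1 (by norm_num) (by norm_num) h4
      · exact cand_ne K cd_6_1 (by norm_num) (by norm_num) h4
      · exact cand_ne K cd_7_1 (by norm_num) (by norm_num) h4
  have h7 : α (Wx x W) = Wx x W := by
    rw [← hc, h3, h6.1, h6.2, Wx_append, Wx_append, Wx_wpow, Wx_wpow, pow_zero, pow_zero, mul_one, mul_one]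
  have h8 : α.toMonoidHom.eqLocus (MonoidHom.id G) = ⊤ := top_of K hinj _ hX hU h7
  ext g
  have : g ∈ α.toMonoidHom.eqLocus (MonoidHom.id G) := by rw [h8]; exact Subgroup.mem_top _
  exact this

end

end Cfsg.Agent.Lib.HeOut79
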