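import Cfsg.Agent.Lib.HeisGL

/-!
# The centralizer of an involution of `U` in `U : GL(U)`
-/

set_option autoImplicit false
set_option linter.style.haveILetI false
set_option linter.unusedVariables false
set_option linter.unusedSimpArgs false
set_option linter.unusedSectionVars false

namespace Cfsg.Agent.Lib.HeisGL

open Matrix

variable {G : Type*} [Group G]

/-- coordinates for an elementary abelian group. -/
theorem exists_eps [Finite G] (n : ℕ) (U : Subgroup G) (hU : Cfsg.IsElementaryAbelian 2 U)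
    (hcard : Nat.card U = 2 ^ (n + 1)) {z : G} (hzU : z ∈ U) (hz1 : z ≠ 1) :
    ∃ ε : (ZMod 2 × (Fin n → ZMod 2)) → G, (∀ v, ε v ∈ U) ∧ (∀ v w, ε (v + w) = ε v * ε w) ∧
      Function.Injective ε ∧ (∀ u ∈ U, ∃ v, ε v = u) ∧ ε (1, 0) = z := by
  obtain ⟨h1, h2⟩ := hU
  letI : CommGroup U := { (inferInstance : Group U) with mul_comm := h1.is_comm.comm }
  haveI : Fact (Nat.Prime 2) := ⟨Nat.prime_two⟩
  letI : Module (ZMod 2) (Additive U) := AddCommGroup.zmodModule (n := 2) (by
    intro x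
    have : (Additive.toMul x : U) ^ 2 = 1 := Subtype.ext (h2 _ (Additive.toMul x).2)
    exact congrArg Additive.ofMul this)
  haveI : Finite (Additive U) := inferInstanceAs (Finite U)
  haveI : Module.Finite (ZMod 2) (Additive U) := Module.Finite.of_finite
  have hfr : Module.finrank (ZMod 2) (Additive U) = n + 1 := by
    have h3 := Module.natCard_eq_pow_finrank (K := ZMod 2) (V := Additive U)
    have h4 : Nat.card (Additive U) = 2 ^ (n + 1) := hcard
    rw [h4, Nat.card_zmod] at h3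
    exact (Nat.pow_right_injective (le_refl 2) h3).symm
  have hfr' : Module.finrank (ZMod 2) (ZMod 2 × (Fin n → ZMod 2)) = n + 1 := by
    rw [Module.finrank_prod, Module.finrank_self, Module.finrank_fin_fun]; ring
  obtain ⟨g, hg⟩ := exists_linearEquiv_map (K := ZMod 2) (hfr'.trans hfr.symm)
    (v := ((1, 0) : ZMod 2 × (Fin n → ZMod 2))) (by intro h; simpa using congrArg Prod.fst h)
    (w := (Additive.ofMul ⟨z, hzU⟩ : Additive U)) (by
      intro h
      apply hz1
      exact congrArg (fun x : Additive U => ((Additive.toMul x : U) : G)) h)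
  refine ⟨fun v => ((Additive.toMul (g v) : U) : G), fun v => (Additive.toMul (g v)).2, ?_, ?_, ?_, ?_⟩
  · intro v w
    show ((Additive.toMul (g (v + w)) : U) : G) = _
    rw [map_add]; rfl
  · intro v w h
    exact g.injective (Additive.toMul.injective (Subtype.ext h))
  · intro u hu
    refine ⟨g.symm (Additive.ofMul ⟨u, hu⟩), ?_⟩
    show ((Additive.toMul (g (g.symm (Additive.ofMul ⟨u, hu⟩))) : U) : G) = u
    rw [LinearEquiv.apply_symm_apply]; rfl
  · show ((Additive.toMul (g (1, 0)) : U) : G) = z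
    rw [hg]; rfl

/-- the linear automorphism `(a, x) ↦ (a + f·x, A x)`. -/
def alpha {n : ℕ} (h : HH n) (v : ZMod 2 × (Fin n → ZMod 2)) : ZMod 2 × (Fin n → ZMod 2) :=
  (v.1 + h.f ⬝ᵥ v.2, (h.A : Matrix (Fin n) (Fin n) (ZMod 2)) *ᵥ v.2)

theorem alpha_add {n : ℕ} (h : HH n) (v w : ZMod 2 × (Fin n → ZMod 2)) :
    alpha h (v + w) = alpha h v + alpha h w := by
  unfold alpha
  ext1
  · simp only [Prod.fst_add, Prod.snd_add, dotProduct_add]; ring
  · simp only [Prod.snd_add, mulVec_add]

theorem alpha_mul {n : ℕ} (h k : HH n) (v : ZMod 2 × (Fin n → ZMod 2)) :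
    alpha (h * k) v = alpha h (alpha k v) := by
  unfold alpha
  ext1
  · simp only [HH.mul_f, add_dotProduct, dotProduct_mulVec]; ring
  · simp only [HH.mul_A, Units.val_mul, mulVec_mulVec]

theorem alpha_one {n : ℕ} (v : ZMod 2 × (Fin n → ZMod 2)) : alpha (1 : HH n) v = v := by
  unfold alpha
  ext1 <;> simp

theorem alpha_congr {n : ℕ} {h k : HH n} (hf : h.f = k.f) (hA : h.A = k.A) : alpha h = alpha k := by
  funext v; unfold alpha; rw [hf, hA]

theorem alpha_inj {n : ℕ} {h : HH n} (hv : ∀ v, alpha h v = v) : h.f = 0 ∧ h.A = 1 := by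
  constructor
  · funext i
    have := congrArg Prod.fst (hv (0, Pi.single i 1))
    simpa [alpha] using this
  · apply Units.ext
    apply Matrix.ext_of_mulVec_single
    intro i
    have := congrArg Prod.snd (hv (0, Pi.single i 1))
    rw [Units.val_one, one_mulVec]
    exact this

/-- every linear automorphism fixing `(1,0)` is an `alpha`. -/
theorem exists_alpha {n : ℕ} (ψ : (ZMod 2 × (Fin n → ZMod 2)) →+ (ZMod 2 × (Fin n → ZMod 2)))
    (hψ : Function.Injective ψ) (h1 : ψ (1, 0) = (1, 0)) : ∃ h : HH n, ∀ v, ψ v = alpha h v := by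
  haveI : Fact (Nat.Prime 2) := ⟨Nat.prime_two⟩
  have ha : ∀ a : ZMod 2, ψ (a, 0) = (a, 0) := by
    intro a
    rcases HH.z2 a with h | h
    · rw [h]; exact map_zero ψ
    · rw [h, h1]
  let i2 : (Fin n → ZMod 2) →+ (ZMod 2 × (Fin n → ZMod 2)) := AddMonoidHom.inr _ _
  let L : (Fin n → ZMod 2) →ₗ[ZMod 2] (Fin n → ZMod 2) :=
    AddMonoidHom.toZModLinearMap 2 ((AddMonoidHom.snd _ _).comp (ψ.comp i2))
  let lam : (Fin n → ZMod 2) →ₗ[ZMod 2] ZMod 2 :=
    AddMonoidHom.toZModLinearMap 2 ((AddMonoidHom.fst _ _).comp (ψ.comp i2))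
  have hL : ∀ x, L x = (ψ (0, x)).2 := fun x => rfl
  have hlam : ∀ x, lam x = (ψ (0, x)).1 := fun x => rfl
  have hLi : Function.Injective L := by
    rw [← LinearMap.ker_eq_bot, LinearMap.ker_eq_bot']
    intro x hx
    rw [hL] at hx
    have h2 : ψ (0, x) = ψ ((ψ (0, x)).1, 0) := by
      rw [ha]; exact Prod.ext rfl hx
    have := hψ h2
    exact congrArg Prod.snd this
  obtain ⟨A, hA⟩ := exists_GL_of_linearEquiv (LinearEquiv.ofInjectiveEndo L hLi)
  refine ⟨⟨0, fun j => lam (Pi.single j 1), 0, A⟩, ?_⟩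
  rintro ⟨a, x⟩
  have h3 : ψ (a, x) = (a, 0) + ψ (0, x) := by
    rw [← ha, ← map_add]; simp
  rw [h3]
  unfold alpha
  ext1
  · simp only [Prod.fst_add]
    rw [← hlam]
    congr 1
    rw [dotProduct]
    conv_lhs => rw [LinearMap.pi_apply_eq_sum_univ lam x]
    apply Finset.sum_congr rfl
    intro j _
    rw [smul_eq_mul, mul_comm]
    congr 2
    funext k
    simp [Pi.single_apply, eq_comm]
  · simp only [Prod.snd_add]
    rw [← hL, zero_add, hA]
    rfl

section aff

variable [Finite G] {n : ℕ} (hn : 1 ≤ n) (U M : Subgroup G) [U.Normal] (hU : Cfsg.IsElementaryAbelian 2 U)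
  (hUcard : Nat.card ↥U = 2 ^ (n + 1)) (hUM : U ⊓ M = ⊥) (hUM' : U ⊔ M = ⊤)
  (hfaith : ∀ m ∈ M, (∀ u ∈ U, m * u * m⁻¹ = u) → m = 1)
  (hfull : ∀ φ : ↥U ≃* ↥U, ∃ m ∈ M, ∀ u : ↥U, ((φ u : ↥U) : G) = m * u * m⁻¹)
  {z : G} (hzU : z ∈ U) (hz1 : z ≠ 1)

include hn hU hUcard hUM hUM' hfaith hfull hzU hz1 in
theorem exists_setting_aff : Nonempty (Setting z n) := by
  obtain ⟨ε, hεU, hεadd, hεinj, hεsurj, hεz⟩ := exists_eps n U hU hUcard hzU hz1
  -- the element of `M` inducing `alpha h`
  have hμ : ∀ h : HH n, ∃ m ∈ M, ∀ v, m * ε v * m⁻¹ = ε (alpha h v) := by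
    intro h
    let E : (ZMod 2 × (Fin n → ZMod 2)) ≃ U :=
      Equiv.ofBijective (fun v => (⟨ε v, hεU v⟩ : U)) ⟨fun v w hvw => hεinj (congrArg Subtype.val hvw),
        fun u => (hεsurj u u.2).imp fun v hv => Subtype.ext hv⟩
    let A : (ZMod 2 × (Fin n → ZMod 2)) ≃ (ZMod 2 × (Fin n → ZMod 2)) :=
      { toFun := alpha h
        invFun := alpha h⁻¹
        left_inv := fun v => by rw [← alpha_mul, inv_mul_cancel, alpha_one]
        right_inv := fun v => by rw [← alpha_mul, mul_inv_cancel, alpha_one] }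
    have hE : ∀ v w, E (v + w) = E v * E w := fun v w => Subtype.ext (hεadd v w)
    let Φ : U ≃* U :=
      { toEquiv := (E.symm.trans A).trans E
        map_mul' := fun x y => by
          obtain ⟨v, rfl⟩ := E.surjective x
          obtain ⟨w, rfl⟩ := E.surjective y
          show E (A (E.symm (E v * E w))) = E (A (E.symm (E v))) * E (A (E.symm (E w)))
          rw [← hE, Equiv.symm_apply_apply, Equiv.symm_apply_apply, Equiv.symm_apply_apply, ← hE]
          congr 1
          exact alpha_add h v w }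
    obtain ⟨m, hm, hm'⟩ := hfull Φ
    refine ⟨m, hm, fun v => ?_⟩
    have := hm' (E v)
    have h2 : ((Φ (E v) : U) : G) = ε (alpha h v) := by
      show ((E (A (E.symm (E v))) : U) : G) = _
      rw [Equiv.symm_apply_apply]; rfl
    rw [h2] at this
    exact this.symm
  choose μ hμM hμ using hμ
  have huniq : ∀ m ∈ M, ∀ m' ∈ M, (∀ v, m * ε v * m⁻¹ = m' * ε v * m'⁻¹) → m = m' := by
    intro m hm m' hm' h
    have : m'⁻¹ * m = 1 := by
      apply hfaith _ (mul_mem (inv_mem hm') hm)
      intro u hu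
      obtain ⟨v, rfl⟩ := hεsurj u hu
      have h3 := h v
      have h4 : m'⁻¹ * m * ε v * (m'⁻¹ * m)⁻¹ = m'⁻¹ * (m * ε v * m⁻¹) * m' := by group
      rw [h4, h3]; group
    rw [inv_mul_eq_one] at this
    exact this.symm
  have hμmul : ∀ h k : HH n, μ (h * k) = μ h * μ k := by
    intro h k
    apply huniq _ (hμM _) _ (mul_mem (hμM _) (hμM _))
    intro v
    rw [hμ, alpha_mul, ← hμ, ← hμ]
    group
  have hμone : ∀ h : HH n, (∀ v, alpha h v = v) → μ h = 1 := by
    intro h hh
    apply huniq _ (hμM _) _ (one_mem _)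
    intro v
    rw [hμ, hh]; group
  have hε0 : ε 0 = 1 := by
    have := hεadd 0 0
    rw [add_zero] at this
    exact (left_eq_mul.1 this)
  let φ : HH n →* G :=
    { toFun := fun h => ε (h.c, h.w) * μ h
      map_one' := by
        rw [hμone 1 alpha_one]
        show ε (0, 0) * 1 = 1
        rw [mul_one]; exact hε0
      map_mul' := fun h k => by
        rw [hμmul]
        have h1 : ((h * k).c, (h * k).w) = (h.c, h.w) + alpha h (k.c, k.w) := by
          unfold alpha
          ext1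
          · simp only [HH.mul_c, Prod.fst_add]; ring
          · simp only [HH.mul_w, Prod.snd_add]
        rw [h1, hεadd, ← hμ]
        group }
  have hφ : ∀ h, φ h = ε (h.c, h.w) * μ h := fun _ => rfl
  have hinj : Function.Injective φ := by
    rw [injective_iff_map_eq_one]
    intro h hh
    rw [hφ] at hh
    have h1 : μ h ∈ U ⊓ M := ⟨by
      have : μ h = (ε (h.c, h.w))⁻¹ := (eq_inv_of_mul_eq_one_right hh)
      rw [this]; exact U.inv_mem (hεU _), hμM _⟩
    rw [hUM, Subgroup.mem_bot] at h1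
    rw [h1, mul_one] at hh
    have h2 : (h.c, h.w) = 0 := hεinj (by rw [hh, hε0])
    have h3 : ∀ v, alpha h v = v := by
      intro v
      apply hεinj
      rw [← hμ, h1]; group
    obtain ⟨h4, h5⟩ := alpha_inj h3
    exact HH.ext (congrArg Prod.fst h2) h4 (congrArg Prod.snd h2) h5
  have hφz : φ (HH.zz n) = z := by
    rw [hφ, hμone (HH.zz n) (fun v => by unfold alpha; simp [HH.zz]), mul_one]
    exact hεz
  have hrange : φ.range = Subgroup.centralizer ({z} : Set G) := by
    ext g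
    rw [Subgroup.mem_centralizer_singleton_iff]
    constructor
    · rintro ⟨x, rfl⟩
      rw [← hφz, ← map_mul, ← map_mul, HH.zz_comm]
    · intro hg
      have hgT : g ∈ U ⊔ M := by rw [hUM']; exact Subgroup.mem_top _
      obtain ⟨u, hu, m, hm, rfl⟩ := Subgroup.mem_sup_of_normal_left.1 hgT
      obtain ⟨w, rfl⟩ := hεsurj u hu
      have hcomm : ∀ v w, ε v * ε w = ε w * ε v := by
        intro v w; rw [← hεadd, ← hεadd, add_comm]
      have hmz : m * z * m⁻¹ = z := by
        have h1 : ε w * (m * z * m⁻¹) * (ε w)⁻¹ = z := by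
          have : ε w * (m * z * m⁻¹) * (ε w)⁻¹ = (ε w * m * z) * (ε w * m)⁻¹ := by group
          rw [this, hg]; group
        have h2 : m * z * m⁻¹ = (ε w)⁻¹ * z * ε w := by
          calc m * z * m⁻¹ = (ε w)⁻¹ * (ε w * (m * z * m⁻¹) * (ε w)⁻¹) * ε w := by group
            _ = _ := by rw [h1]
        rw [h2, ← hεz, mul_assoc, hcomm, inv_mul_cancel_left]
      have hex : ∀ v, ∃ v', ε v' = m * ε v * m⁻¹ := fun v =>
        hεsurj _ ((inferInstance : U.Normal).conj_mem _ (hεU v) m)
      choose ψ hψ using hex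
      let Ψ : (ZMod 2 × (Fin n → ZMod 2)) →+ (ZMod 2 × (Fin n → ZMod 2)) :=
        { toFun := ψ
          map_zero' := hεinj (by rw [hψ, hε0]; group)
          map_add' := fun v w => hεinj (by rw [hψ, hεadd, hεadd, hψ, hψ]; group) }
      obtain ⟨k, hk⟩ := exists_alpha Ψ
        (fun v w hvw => by
          apply hεinj
          have h1 : ψ v = ψ w := hvw
          have h2 : m * ε v * m⁻¹ = m * ε w * m⁻¹ := by rw [← hψ, ← hψ, h1]
          exact mul_left_cancel (mul_right_cancel h2))
        (hεinj (by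
          show ε (ψ (1, 0)) = _
          rw [hψ, hεz, hmz]))
      refine ⟨⟨w.1, k.f, w.2, k.A⟩, ?_⟩
      rw [hφ]
      congr 1
      apply huniq _ (hμM _) _ hm
      intro v
      rw [hμ, ← hψ]
      congr 1
      have h5 : ψ v = alpha k v := hk v
      rw [h5]
      exact congrFun (alpha_congr rfl rfl) v
  exact ⟨Setting.ofHom hn φ hinj hrange hφz⟩

include hU in
theorem le_pCore_of_elab : U ≤ Cfsg.pCore 2 G := by
  apply le_sSup
  refine ⟨inferInstance, ?_⟩
  intro x
  refine ⟨1, ?_⟩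
  apply Subtype.ext
  rw [pow_one]
  exact hU.2 x x.2

include hU hzU in
theorem le_QG : U ≤ QG z := by
  intro u hu
  have hUC : U ≤ Subgroup.centralizer ({z} : Set G) := by
    intro x hx
    rw [Subgroup.mem_centralizer_singleton_iff]
    exact congrArg Subtype.val (hU.1.is_comm.comm (⟨x, hx⟩ : U) ⟨z, hzU⟩)
  refine ⟨⟨u, hUC hu⟩, ?_, rfl⟩
  have h1 : U.subgroupOf (Subgroup.centralizer ({z} : Set G)) ≤
      Cfsg.pCore 2 ↥(Subgroup.centralizer ({z} : Set G)) := by
    apply le_sSup
    refine ⟨inferInstance, ?_⟩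
    intro x
    refine ⟨1, ?_⟩
    apply Subtype.ext
    apply Subtype.ext
    rw [pow_one]
    exact hU.2 _ x.2
  exact h1 hu

end aff

end Cfsg.Agent.Lib.HeisGL
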