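import Cfsg.Agent.Lib.HeisSL
import Cfsg.Agent.S5422

/-!
# Largeness in the setting `C(z) = 2^{1+2n}:GL_n(2)`
-/

set_option autoImplicit false
set_option linter.style.haveILetI false
set_option linter.unusedVariables false
set_option linter.unusedSimpArgs false
set_option linter.unusedSectionVars false

namespace Cfsg.Agent.Lib.HeisGL

open Matrix Cfsg.Agent.Lib.LargeExtra

section

variable {G : Type*} [Group G] [Finite G] {z : G} {n : ℕ}

theorem Setting.large (S : Setting z n) (hn2 : 2 ≤ n) (g : G) (hg : g * z * g⁻¹ ≠ z)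
    (hgQ : g * z * g⁻¹ ∈ QG z) : Cfsg.IsLargeExtraspecial (QG z) := by
  have h := S.preLarge
  refine (Cfsg.Agent.S5422.result (QG z) S.isExtraspecial h.centralizer_eq h.centralizer_le n hn2 S.card_Q g
    ?_ ?_).2.2
  · intro hN
    rw [Subgroup.mem_normalizer_iff] at hN
    have h1 := (hN z).1 (h.mem_map_iff.2 (Or.inr rfl))
    rcases h.mem_map_iff.1 h1 with h2 | h2
    · apply h.ne
      have : z = g⁻¹ * (g * z * g⁻¹) * g := by group
      rw [this, h2]; group
    · exact hg h2
  · rintro _ ⟨x, hx, rfl⟩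
    rcases h.mem_map_iff.1 hx with h2 | h2
    · rw [h2, map_one]; exact one_mem _
    · rw [h2]; exact hgQ

end

section SL

variable {n : ℕ} {z : SpecialLinearGroup (Fin (n + 2)) (ZMod 2)}

theorem large_SL (hn : 2 ≤ n)
    (hz : (z : Matrix (Fin (n + 2)) (Fin (n + 2)) (ZMod 2)) = Matrix.transvection 0 1 1) :
    Cfsg.IsLargeExtraspecial (QG z) := by
  have S := settingSL (z := z) (by omega : 1 ≤ n) hz
  have S' := settingSL (z := z) (by omega : 1 ≤ n) hz
  let k : Fin n := ⟨0, by omega⟩
  have h1k : (1 : Fin (n + 2)) ≠ k.succ.succ := by simp [Fin.ext_iff]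
  have h0k : (0 : Fin (n + 2)) ≠ k.succ.succ := by simp [Fin.ext_iff]
  have h01 : (0 : Fin (n + 2)) ≠ 1 := by simp [Fin.ext_iff]
  let g : SpecialLinearGroup (Fin (n + 2)) (ZMod 2) :=
    ⟨Matrix.transvection 1 k.succ.succ 1, Matrix.det_transvection_of_ne _ _ h1k _⟩
  let y : HH n := ⟨1, Pi.single k 1, 0, 1⟩
  have hy : mat y = 1 + Matrix.single 0 1 1 + Matrix.single 0 k.succ.succ 1 := by
    ext i j
    rw [Matrix.add_apply, Matrix.add_apply]
    refine Fin.cases ?_ (fun i => ?_) i
    · refine Fin.cases ?_ (fun j => ?_) j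
      · simp [mat00, Matrix.single_apply]
      · refine Fin.cases ?_ (fun j => ?_) j
        · rw [mat01]; simp [y, Matrix.single_apply, Matrix.one_apply, Fin.ext_iff]
        · rw [mat0s]; simp [y, Matrix.single_apply, Matrix.one_apply, Fin.ext_iff, Pi.single_apply, eq_comm]
    · refine Fin.cases ?_ (fun i => ?_) i
      · refine Fin.cases ?_ (fun j => ?_) j
        · rw [mat10]; simp [y, Matrix.single_apply, Matrix.one_apply, Fin.ext_iff]
        · refine Fin.cases ?_ (fun j => ?_) j
          · rw [mat11]; simp [y, Matrix.single_apply, Matrix.one_apply, Fin.ext_iff]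
          · rw [mat1s]; simp [Matrix.single_apply, Matrix.one_apply, Fin.ext_iff]
      · refine Fin.cases ?_ (fun j => ?_) j
        · rw [mats0]; simp [Matrix.single_apply, Matrix.one_apply, Fin.ext_iff]
        · refine Fin.cases ?_ (fun j => ?_) j
          · rw [mats1]; simp [y, Matrix.single_apply, Matrix.one_apply, Fin.ext_iff]
          · rw [matss]; simp [y, Matrix.single_apply, Matrix.one_apply, Fin.ext_iff]
  have hgz : g * z = toSLH y * g := by
    apply Subtype.ext
    show Matrix.transvection 1 k.succ.succ 1 * (z : Matrix (Fin (n + 2)) (Fin (n + 2)) (ZMod 2)) =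
      mat y * Matrix.transvection 1 k.succ.succ 1
    rw [hy, hz, Matrix.transvection, Matrix.transvection]
    have e1 : Matrix.single (1 : Fin (n + 2)) k.succ.succ (1 : ZMod 2) * Matrix.single 0 1 1 = 0 :=
      Matrix.single_mul_single_of_ne _ _ _ _ h0k.symm _
    have e2 : Matrix.single (0 : Fin (n + 2)) 1 (1 : ZMod 2) * Matrix.single 1 k.succ.succ 1 =
        Matrix.single 0 k.succ.succ 1 := by
      rw [Matrix.single_mul_single_same, mul_one]
    have e3 : Matrix.single (0 : Fin (n + 2)) k.succ.succ (1 : ZMod 2) * Matrix.single 1 k.succ.succ 1 = 0 :=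
      Matrix.single_mul_single_of_ne _ _ _ _ h1k.symm _
    have e4 : Matrix.single (0 : Fin (n + 2)) k.succ.succ (1 : ZMod 2) + Matrix.single 0 k.succ.succ 1 = 0 := by
      rw [← Matrix.single_add, show (1 : ZMod 2) + 1 = 0 by decide, Matrix.single_zero]
    simp only [add_mul, mul_add, one_mul, mul_one, e1, e2, e3, add_zero]
    have : ∀ a b c : Matrix (Fin (n + 2)) (Fin (n + 2)) (ZMod 2), c + c = 0 → 1 + a + b = 1 + b + c + (a + c) := by
      intro a b c hc
      have : 1 + b + c + (a + c) = 1 + a + b + (c + c) := by abel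
      rw [this, hc, add_zero]
    exact this _ _ _ e4
  have hgz' : g * z * g⁻¹ = toSLH y := by rw [hgz, mul_inv_cancel_right]
  have hyQ : toSLH y ∈ QG z := by
    have h1 : QG z = (HH.QQ n).map (Setting.ofHom (z := z) (by omega : 1 ≤ n) toSLH toSLH_injective
      (range_toSLH hz) (Subtype.ext (by rw [hz]; exact mat_zz))).φ := Setting.QG_eq _
    rw [h1]
    refine ⟨y, rfl, ?_⟩
    exact Setting.ofHom_φ _ _ _ _ _ _
  refine S.large hn g ?_ ?_
  · rw [hgz']
    intro h
    have h2 : mat y = mat (HH.zz n) := by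
      rw [mat_zz, ← hz, ← h]; rfl
    have h3 := congrFun (congrArg HH.f (mat_inj h2)) k
    simp [y, HH.zz] at h3
  · rw [hgz']; exact hyQ

end SL

end Cfsg.Agent.Lib.HeisGL
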