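import Cfsg.Agent.Lib.HeisAff
import Cfsg.Agent.Lib.HeisLarge
import Cfsg.Agent.Lib.GolayOctadA8
import Cfsg.Agent.Lib.GolayGraph

/-!
# The centralizer of an octad involution of `M24`
-/

set_option autoImplicit false
set_option linter.style.haveILetI false
set_option linter.unusedVariables false
set_option linter.unusedSimpArgs false
set_option linter.unusedSectionVars false

namespace Cfsg.Agent.Lib.HeisGL

open Matrix

section gen

variable {G : Type*} [Group G]

/-- coordinates for an elementary abelian group. -/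
theorem exists_eps' [Finite G] (m : ℕ) (U : Subgroup G) (hU : Cfsg.IsElementaryAbelian 2 U)
    (hcard : Nat.card U = 2 ^ m) :
    ∃ ε : (Fin m → ZMod 2) → U, (∀ v w, ε (v + w) = ε v * ε w) ∧ Function.Bijective ε := by
  obtain ⟨h1, h2⟩ := hU
  letI : CommGroup U := { (inferInstance : Group U) with mul_comm := h1.is_comm.comm }
  haveI : Fact (Nat.Prime 2) := ⟨Nat.prime_two⟩
  letI : Module (ZMod 2) (Additive U) := AddCommGroup.zmodModule (n := 2) (by
    intro x
    have : (Additive.toMul x : U) ^ 2 = 1 := Subtype.ext (h2 _ (Additive.toMul x).2)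
    exact congrArg Additive.ofMul this)
  haveI : Finite (Additive U) := inferInstanceAs (Finite U)
  haveI : Module.Finite (ZMod 2) (Additive U) := Module.Finite.of_finite
  have hfr : Module.finrank (ZMod 2) (Additive U) = m := by
    have h3 := Module.natCard_eq_pow_finrank (K := ZMod 2) (V := Additive U)
    have h4 : Nat.card (Additive U) = 2 ^ m := hcard
    rw [h4, Nat.card_zmod] at h3
    exact (Nat.pow_right_injective (le_refl 2) h3).symm
  let g : (Fin m → ZMod 2) ≃ₗ[ZMod 2] Additive U :=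
    LinearEquiv.ofFinrankEq _ _ ((Module.finrank_fin_fun (ZMod 2)).trans hfr.symm)
  refine ⟨fun v => Additive.toMul (g v), fun v w => ?_, ?_⟩
  · show Additive.toMul (g (v + w)) = _
    rw [map_add]; rfl
  · exact Additive.toMul.bijective.comp g.bijective

theorem card_aut_le [Finite G] (m : ℕ) (U : Subgroup G) (hU : Cfsg.IsElementaryAbelian 2 U)
    (hcard : Nat.card U = 2 ^ m) : Nat.card (U ≃* U) ≤ Nat.card (GL (Fin m) (ZMod 2)) := by
  haveI : Fact (Nat.Prime 2) := ⟨Nat.prime_two⟩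
  obtain ⟨ε, hadd, hbij⟩ := exists_eps' m U hU hcard
  let E : (Fin m → ZMod 2) ≃ U := Equiv.ofBijective ε hbij
  have hE : ∀ v w, E (v + w) = E v * E w := hadd
  have hEs : ∀ x y, E.symm (x * y) = E.symm x + E.symm y := by
    intro x y
    apply E.injective
    rw [hE, Equiv.apply_symm_apply, Equiv.apply_symm_apply, Equiv.apply_symm_apply]
  have key : ∀ φ : U ≃* U, ∃ A : GL (Fin m) (ZMod 2), ∀ v, E ((A : Matrix (Fin m) (Fin m) (ZMod 2)) *ᵥ v) =
      φ (E v) := by
    intro φ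
    let f : (Fin m → ZMod 2) →+ (Fin m → ZMod 2) :=
      AddMonoidHom.mk' (fun v => E.symm (φ (E v))) (fun v w => by rw [hE, map_mul, hEs])
    have hf : Function.Bijective (AddMonoidHom.toZModLinearMap 2 f) :=
      (E.symm.bijective.comp φ.bijective).comp E.bijective
    obtain ⟨A, hA⟩ := exists_GL_of_linearEquiv (LinearEquiv.ofBijective _ hf)
    refine ⟨A, fun v => ?_⟩
    rw [hA]
    show E (E.symm (φ (E v))) = _
    rw [Equiv.apply_symm_apply]
  choose A hA using key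
  apply Nat.card_le_card_of_injective A
  intro φ ψ h
  apply MulEquiv.ext
  intro x
  obtain ⟨v, rfl⟩ := E.surjective x
  rw [← hA, ← hA, h]

theorem card_GL4 : Nat.card (GL (Fin 4) (ZMod 2)) = 20160 := by
  haveI : Fact (Nat.Prime 2) := ⟨Nat.prime_two⟩
  rw [Matrix.card_GL_field]
  simp only [Fin.prod_univ_four, ZMod.card]
  rfl

theorem le_QG' [Finite G] (U : Subgroup G) (hU : Cfsg.IsElementaryAbelian 2 U) {z : G} (hzU : z ∈ U)
    (hN : ∀ x : G, x * z = z * x → ∀ u ∈ U, x * u * x⁻¹ ∈ U) : U ≤ QG z := by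
  intro u hu
  have hUC : U ≤ Subgroup.centralizer ({z} : Set G) := by
    intro x hx
    rw [Subgroup.mem_centralizer_singleton_iff]
    exact congrArg Subtype.val (hU.1.is_comm.comm (⟨x, hx⟩ : U) ⟨z, hzU⟩)
  refine ⟨⟨u, hUC hu⟩, ?_, rfl⟩
  have h1 : U.subgroupOf (Subgroup.centralizer ({z} : Set G)) ≤
      Cfsg.pCore 2 ↥(Subgroup.centralizer ({z} : Set G)) := by
    apply le_sSup
    refine ⟨⟨?_⟩, ?_⟩
    · intro n hn g
      exact hN g (Subgroup.mem_centralizer_singleton_iff.1 g.2) _ hn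
    · intro x
      refine ⟨1, ?_⟩
      apply Subtype.ext
      apply Subtype.ext
      rw [pow_one]
      exact hU.2 _ x.2
  exact h1 hu

end gen

section aff

variable {G : Type*} [Group G] [Finite G] {n : ℕ} (hn : 1 ≤ n) (U M : Subgroup G) [U.Normal]
  (hU : Cfsg.IsElementaryAbelian 2 U)
  (hUcard : Nat.card ↥U = 2 ^ (n + 1))
  (hfull : ∀ φ : ↥U ≃* ↥U, ∃ m ∈ M, ∀ u : ↥U, ((φ u : ↥U) : G) = m * u * m⁻¹)
  {z : G} (hzU : z ∈ U) (hz1 : z ≠ 1)

include hn hU hUcard hfull hzU hz1 in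
theorem exists_moving : ∃ m ∈ M, m * z * m⁻¹ ≠ z := by
  obtain ⟨ε, hεU, hεadd, hεinj, hεsurj, hεz⟩ := exists_eps n U hU hUcard hzU hz1
  let E : (ZMod 2 × (Fin n → ZMod 2)) ≃ U :=
    Equiv.ofBijective (fun v => (⟨ε v, hεU v⟩ : U)) ⟨fun v w hvw => hεinj (congrArg Subtype.val hvw),
      fun u => (hεsurj u u.2).imp fun v hv => Subtype.ext hv⟩
  let i : Fin n := ⟨0, hn⟩
  let a : (ZMod 2 × (Fin n → ZMod 2)) → (ZMod 2 × (Fin n → ZMod 2)) := fun v => (v.1, v.2 + Pi.single i v.1)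
  have haa : ∀ v, a (a v) = v := by
    rintro ⟨x, y⟩
    show (x, y + Pi.single i x + Pi.single i x) = (x, y)
    rw [add_assoc, ← Pi.single_add]
    have : ∀ x : ZMod 2, x + x = 0 := by decide
    rw [this, Pi.single_zero, add_zero]
  have hadd : ∀ v w, a (v + w) = a v + a w := by
    intro v w
    show (v.1 + w.1, v.2 + w.2 + Pi.single i (v.1 + w.1)) = (v.1 + w.1, v.2 + Pi.single i v.1 + (w.2 + Pi.single i w.1))
    rw [Pi.single_add]
    congr 1
    abel
  let A : (ZMod 2 × (Fin n → ZMod 2)) ≃ (ZMod 2 × (Fin n → ZMod 2)) := ⟨a, a, haa, haa⟩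
  have hE : ∀ v w, E (v + w) = E v * E w := fun v w => Subtype.ext (hεadd v w)
  let Φ : U ≃* U :=
    { toEquiv := (E.symm.trans A).trans E
      map_mul' := fun x y => by
        obtain ⟨v, rfl⟩ := E.surjective x
        obtain ⟨w, rfl⟩ := E.surjective y
        show E (A (E.symm (E v * E w))) = E (A (E.symm (E v))) * E (A (E.symm (E w)))
        rw [← hE, Equiv.symm_apply_apply, Equiv.symm_apply_apply, Equiv.symm_apply_apply, ← hE]
        congr 1
        exact hadd v w }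
  obtain ⟨m, hm, hm'⟩ := hfull Φ
  refine ⟨m, hm, fun h => ?_⟩
  have h1 := hm' (E (1, 0))
  have h2 : ((Φ (E (1, 0)) : U) : G) = ε (a (1, 0)) := by
    show ((E (A (E.symm (E (1, 0)))) : U) : G) = _
    rw [Equiv.symm_apply_apply]; rfl
  have h3 : ((E (1, 0) : U) : G) = z := hεz
  rw [h2, h3, h, ← hεz] at h1
  have h4 := hεinj h1
  have h5 := congrFun (congrArg Prod.snd h4) i
  simp [a] at h5

end aff

section M24

open Cfsg Cfsg.Agent.Lib.Golay

open scoped Pointwise

/-- elements of `M24` fixing all the points outside an octad are trivial. -/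
theorem eq_one_of_fix_compl {o : Finset GolayPt} (ho : o ∈ octads) {g : Equiv.Perm GolayPt} (hg : g ∈ M24)
    (h : ∀ x, x ∉ o → g x = x) : g = 1 := by
  obtain ⟨c, hc, hd⟩ := exists_disjoint ho
  have hcard : (o ∪ c).card = 16 := by
    rw [Finset.card_union_of_disjoint hd, ho.2, hc.2]
  obtain ⟨p, hp⟩ : ∃ p, p ∉ o ∪ c := by
    by_contra hcon
    push Not at hcon
    have : o ∪ c = Finset.univ := Finset.eq_univ_iff_forall.2 hcon
    rw [this, Finset.card_univ] at hcard
    revert hcard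
    decide
  rw [Finset.mem_union, not_or] at hp
  have h1 : g ∈ OctPt c := mem_OctPt.2 ⟨hg, fun x hx => h x (fun hxo => (Finset.disjoint_left.1 hd hxo hx))⟩
  exact OctPt_fix_eq_one hc hp.2 h1 (h p hp.1)

theorem card_stab_pt {o : Finset GolayPt} (ho : o ∈ octads) {p : GolayPt} (hp : p ∉ o) :
    Nat.card ↥(M24 ⊓ MulAction.stabilizer (Equiv.Perm GolayPt) o ⊓ MulAction.stabilizer (Equiv.Perm GolayPt) p) =
      20160 := by
  obtain ⟨_, _, ⟨e⟩⟩ := octad_complement o ho p hp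
  rw [Nat.card_congr e.toEquiv]
  have := nat_card_alternatingGroup (α := Fin 8)
  rw [this, Nat.card_eq_fintype_card, Fintype.card_fin]
  rfl

theorem OctPt_le_OctSt (o : Finset GolayPt) : OctPt o ≤ OctSt o := by
  intro g hg
  have hg' := mem_OctPt.mp hg
  refine ⟨hg'.1, smul_eq_of_mem_iff fun x => ?_⟩
  constructor
  · intro hx
    by_contra hxo
    have h1 := hg'.2 _ hx
    exact hxo (by rwa [← g.injective h1])
  · intro hx; rw [hg'.2 x hx]; exact hx

theorem OctSt_normalizes {o : Finset GolayPt} {g h : Equiv.Perm GolayPt} (hg : g ∈ OctSt o) (hh : h ∈ OctPt o) :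
    g * h * g⁻¹ ∈ OctPt o := by
  rw [mem_OctPt] at hh ⊢
  refine ⟨M24.mul_mem (M24.mul_mem hg.1 hh.1) (M24.inv_mem hg.1), fun p hp => ?_⟩
  have h1 : g⁻¹ p ∈ o := by
    rw [← mem_iff_of_smul_eq hg.2, perm_apply_inv]; exact hp
  rw [Equiv.Perm.mul_apply, Equiv.Perm.mul_apply, hh.2 _ h1, perm_apply_inv]

theorem settingM24 (z : ↥M24) (hz : orderOf z = 2)
    (hfix : (Finset.univ.filter fun p : GolayPt => (z : Equiv.Perm GolayPt) p = p) ∈ octads) :
    Nonempty (Setting z 3) ∧ ∃ g : ↥M24, g * z * g⁻¹ ≠ z ∧ g * z * g⁻¹ ∈ QG z := by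
  generalize ho' : (Finset.univ.filter fun p : GolayPt => (z : Equiv.Perm GolayPt) p = p) = o at hfix
  have ho : o ∈ octads := hfix
  have hzo : ∀ x, x ∈ o ↔ (z : Equiv.Perm GolayPt) x = x := by
    intro x; rw [← ho']; simp
  obtain ⟨p, hp⟩ : ∃ p, p ∉ o := by
    by_contra hcon
    push Not at hcon
    have : o = Finset.univ := Finset.eq_univ_iff_forall.2 hcon
    have h8 := ho.2
    rw [this, Finset.card_univ] at h8
    revert h8
    decide
  have hle := OctPt_le_OctSt o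
  have hzU : (z : Equiv.Perm GolayPt) ∈ OctPt o := mem_OctPt.2 ⟨z.2, fun x hx => (hzo x).1 hx⟩
  let U' : Subgroup ↥(OctSt o) := (OctPt o).subgroupOf (OctSt o)
  let M' : Subgroup ↥(OctSt o) := (MulAction.stabilizer (Equiv.Perm GolayPt) p).subgroupOf (OctSt o)
  have hU'mem : ∀ x : ↥(OctSt o), x ∈ U' ↔ (x : Equiv.Perm GolayPt) ∈ OctPt o := fun x => Iff.rfl
  have hM'mem : ∀ x : ↥(OctSt o), x ∈ M' ↔ (x : Equiv.Perm GolayPt) p = p := fun x => Iff.rfl
  haveI hN : U'.Normal := ⟨fun n hn g => OctSt_normalizes g.2 hn⟩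
  have hU : Cfsg.IsElementaryAbelian 2 U' := by
    refine ⟨⟨⟨fun a b => Subtype.ext (Subtype.ext (OctPt_comm ho a.2 b.2))⟩⟩, ?_⟩
    intro a ha
    apply Subtype.ext
    show (a : Equiv.Perm GolayPt) ^ 2 = 1
    rw [pow_two]; exact OctPt_sq ho ha
  have hUcard : Nat.card ↥U' = 2 ^ (3 + 1) := by
    rw [Nat.card_congr (Subgroup.subgroupOfEquivOfLe hle).toEquiv, card_OctPt ho]
    norm_num
  have hUM : U' ⊓ M' = ⊥ := by
    rw [eq_bot_iff]
    rintro g ⟨h1, h2⟩
    rw [Subgroup.mem_bot]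
    exact Subtype.ext (OctPt_fix_eq_one ho hp h1 h2)
  have hUM' : U' ⊔ M' = ⊤ := by
    rw [eq_top_iff]
    rintro g _
    have hgp : (g : Equiv.Perm GolayPt) p ∉ o := by rw [mem_iff_of_smul_eq g.2.2]; exact hp
    obtain ⟨h, hh, hq⟩ := OctPt_transitive ho hp hgp
    have h2 : g = (⟨h, hle hh⟩ : ↥(OctSt o)) * ((⟨h, hle hh⟩ : ↥(OctSt o))⁻¹ * g) := by group
    rw [h2]
    apply Subgroup.mul_mem_sup
    · exact hh
    · rw [hM'mem]
      show (h⁻¹ * (g : Equiv.Perm GolayPt)) p = p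
      rw [Equiv.Perm.mul_apply, ← hq, perm_inv_apply]
  have hfaith : ∀ m ∈ M', (∀ u ∈ U', m * u * m⁻¹ = u) → m = 1 := by
    intro m hm hmu
    apply Subtype.ext
    apply eq_one_of_fix_compl ho m.2.1
    intro x hx
    obtain ⟨u, hu, rfl⟩ := OctPt_transitive ho hp hx
    have h1 := hmu ⟨u, hle hu⟩ hu
    rw [mul_inv_eq_iff_eq_mul] at h1
    have h2 : (m : Equiv.Perm GolayPt) * u = u * m := congrArg Subtype.val h1
    rw [← Equiv.Perm.mul_apply, h2, Equiv.Perm.mul_apply, (hM'mem m).1 hm]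
  have hcardM : Nat.card ↥M' = 20160 := by
    rw [← card_stab_pt ho hp]
    apply Nat.card_congr
    exact
      { toFun := fun g => ⟨g.1.1, g.1.2, g.2⟩
        invFun := fun g => ⟨⟨g.1, g.2.1⟩, g.2.2⟩
        left_inv := fun g => rfl
        right_inv := fun g => rfl }
  have hfull : ∀ φ : ↥U' ≃* ↥U', ∃ m ∈ M', ∀ u : ↥U', ((φ u : ↥U') : ↥(OctSt o)) = m * u * m⁻¹ := by
    let F : ↥M' → (↥U' ≃* ↥U') := fun m => (MulAut.conjNormal (m : ↥(OctSt o)) : MulAut U')
    have hF : ∀ (m : ↥M') (u : ↥U'), ((F m u : ↥U') : ↥(OctSt o)) = m * u * (m : ↥(OctSt o))⁻¹ :=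
      fun m u => MulAut.conjNormal_apply _ _
    have hFinj : Function.Injective F := by
      intro a b hab
      have h1 : (b : ↥(OctSt o))⁻¹ * a = 1 := by
        apply hfaith _ (M'.mul_mem (M'.inv_mem b.2) a.2)
        intro u hu
        have h2 : ((F a ⟨u, hu⟩ : ↥U') : ↥(OctSt o)) = ((F b ⟨u, hu⟩ : ↥U') : ↥(OctSt o)) := by rw [hab]
        rw [hF, hF] at h2
        have h3 : (b : ↥(OctSt o))⁻¹ * a * u * ((b : ↥(OctSt o))⁻¹ * a)⁻¹ =
            (b : ↥(OctSt o))⁻¹ * (a * u * (a : ↥(OctSt o))⁻¹) * b := by group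
        rw [h3, h2]
        group
      rw [inv_mul_eq_one] at h1
      exact (Subtype.ext h1).symm
    haveI : Finite (↥U' ≃* ↥U') := by
      apply Finite.of_injective (fun φ : ↥U' ≃* ↥U' => (φ : ↥U' → ↥U')) DFunLike.coe_injective
    have hbij := hFinj.bijective_of_nat_card_le (by
      rw [hcardM]
      refine (card_aut_le 4 U' hU hUcard).trans ?_
      rw [card_GL4])
    intro φ
    obtain ⟨m, hm⟩ := hbij.2 φ
    refine ⟨m, m.2, fun u => ?_⟩
    rw [← hm]; exact hF m u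
  have hz1 : z ≠ 1 := by
    intro h; rw [h, orderOf_one] at hz; exact absurd hz (by norm_num)
  let z' : ↥(OctSt o) := ⟨z, hle hzU⟩
  have hz'U : z' ∈ U' := hzU
  have hz'1 : z' ≠ 1 := fun h => hz1 (Subtype.ext (congrArg (fun x : ↥(OctSt o) => (x : Equiv.Perm GolayPt)) h))
  obtain ⟨S'⟩ := exists_setting_aff (n := 3) (by norm_num) U' M' hU hUcard hUM hUM' hfaith hfull hz'U hz'1
  obtain ⟨m, hm, hmz⟩ := exists_moving (n := 3) (by norm_num) U' M' hU hUcard hfull hz'U hz'1
  let ι : ↥(OctSt o) →* ↥M24 := Subgroup.inclusion inf_le_left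
  have hι : Function.Injective ι := Subgroup.inclusion_injective _
  have hcz : ∀ x : ↥M24, x * z = z * x → (x : Equiv.Perm GolayPt) ∈ OctSt o := by
    intro x hx
    refine ⟨x.2, smul_eq_of_mem_iff fun q => ?_⟩
    have h1 : (x : Equiv.Perm GolayPt) * z = z * x := congrArg Subtype.val hx
    rw [hzo, hzo]
    constructor
    · intro h
      apply (x : Equiv.Perm GolayPt).injective
      rw [← Equiv.Perm.mul_apply, h1, Equiv.Perm.mul_apply, h]
    · intro h
      rw [← Equiv.Perm.mul_apply, ← h1, Equiv.Perm.mul_apply, h]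
  have hr : (ι.comp S'.φ).range = Subgroup.centralizer ({z} : Set ↥M24) := by
    ext x
    rw [Subgroup.mem_centralizer_singleton_iff]
    constructor
    · rintro ⟨y, rfl⟩
      have h1 : S'.φ y ∈ S'.φ.range := ⟨y, rfl⟩
      rw [S'.range_φ, Subgroup.mem_centralizer_singleton_iff] at h1
      exact congrArg ι h1
    · intro hx
      have h1 : (⟨x, hcz x hx⟩ : ↥(OctSt o)) ∈ S'.φ.range := by
        rw [S'.range_φ, Subgroup.mem_centralizer_singleton_iff]
        exact Subtype.ext (congrArg (fun x : ↥M24 => (x : Equiv.Perm GolayPt)) hx)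
      obtain ⟨y, hy⟩ := h1
      refine ⟨y, ?_⟩
      rw [MonoidHom.comp_apply, hy]
      rfl
  refine ⟨⟨Setting.ofHom (by norm_num) (ι.comp S'.φ) (hι.comp S'.φ_injective) hr ?_⟩, ι m, ?_, ?_⟩
  · rw [MonoidHom.comp_apply, S'.φ_zz]; rfl
  · intro h
    apply hmz
    apply hι
    exact h
  · have h2 : (OctPt o).subgroupOf M24 ≤ QG z := by
      apply le_QG'
      · refine ⟨⟨⟨fun a b => Subtype.ext (Subtype.ext (OctPt_comm ho a.2 b.2))⟩⟩, ?_⟩
        intro a ha
        apply Subtype.ext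
        show (a : Equiv.Perm GolayPt) ^ 2 = 1
        rw [pow_two]; exact OctPt_sq ho ha
      · exact hzU
      · intro x hx u hu
        exact OctSt_normalizes (hcz x hx) hu
    apply h2
    exact OctSt_normalizes m.2 hzU

end M24

end Cfsg.Agent.Lib.HeisGL
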