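import Cfsg.Agent.Lib.HeisGL

/-!
# The centralizer of a transvection in `SL_{n+2}(2)` is `HH n`
-/

set_option autoImplicit false
set_option linter.style.haveILetI false
set_option linter.unusedVariables false
set_option linter.unusedSimpArgs false
set_option linter.unusedSectionVars false

namespace Cfsg.Agent.Lib.HeisGL

open Matrix

variable {n : ℕ}

/-- the matrix `[[1, c, f], [0, 1, 0], [0, w, A]]`. -/
def mat (h : HH n) : Matrix (Fin (n + 2)) (Fin (n + 2)) (ZMod 2) :=
  Matrix.of fun i j => Fin.cases (Fin.cases 1 (fun j => Fin.cases h.c h.f j) j)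
    (fun i => Fin.cases (Fin.cases 0 (fun j => Fin.cases 1 (fun _ => 0) j) j)
      (fun i => Fin.cases 0 (fun j => Fin.cases (h.w i) (fun j => (h.A : Matrix (Fin n) (Fin n) (ZMod 2)) i j) j) j) i) i

theorem mat00 (h : HH n) : mat h 0 0 = 1 := rfl
theorem mat01 (h : HH n) : mat h 0 (Fin.succ 0) = h.c := rfl
theorem mat0s (h : HH n) (j : Fin n) : mat h 0 j.succ.succ = h.f j := rfl
theorem mat10 (h : HH n) : mat h (Fin.succ 0) 0 = 0 := rfl
theorem mat11 (h : HH n) : mat h (Fin.succ 0) (Fin.succ 0) = 1 := rfl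
theorem mat1s (h : HH n) (j : Fin n) : mat h (Fin.succ 0) j.succ.succ = 0 := rfl
theorem mats0 (h : HH n) (i : Fin n) : mat h i.succ.succ 0 = 0 := rfl
theorem mats1 (h : HH n) (i : Fin n) : mat h i.succ.succ (Fin.succ 0) = h.w i := rfl
theorem matss (h : HH n) (i j : Fin n) : mat h i.succ.succ j.succ.succ =
    (h.A : Matrix (Fin n) (Fin n) (ZMod 2)) i j := rfl

theorem mat_mul (x y : HH n) : mat (x * y) = mat x * mat y := by
  ext i j
  rw [mul_apply, Fin.sum_univ_succ, Fin.sum_univ_succ]
  refine Fin.cases ?_ (fun i => ?_) i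
  · refine Fin.cases ?_ (fun j => ?_) j
    · simp only [mat00, mat10, mats0, mul_zero, Finset.sum_const_zero, add_zero, mul_one]
    · refine Fin.cases ?_ (fun j => ?_) j
      · simp only [mat00, mat01, mat11, mat0s, mats1, HH.mul_c, one_mul, mul_one]
        rw [dotProduct]; ring
      · simp only [mat00, mat0s, mat01, mat1s, matss, HH.mul_f, one_mul, mul_zero, zero_add, Pi.add_apply]
        rfl
  · refine Fin.cases ?_ (fun i => ?_) i
    · refine Fin.cases ?_ (fun j => ?_) j
      · simp only [mat00, mat10, mat11, mat1s, mats0, mul_zero, zero_mul, Finset.sum_const_zero, add_zero]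
      · refine Fin.cases ?_ (fun j => ?_) j
        · simp only [mat00, mat10, mat01, mat11, mat1s, mats1, zero_mul, one_mul, Finset.sum_const_zero, add_zero,
            zero_add]
        · simp only [mat00, mat10, mat0s, mat11, mat1s, matss, zero_mul, one_mul, Finset.sum_const_zero, add_zero,
            zero_add]
    · refine Fin.cases ?_ (fun j => ?_) j
      · simp only [mats0, mat00, mats1, mat10, matss, mul_zero, zero_mul, Finset.sum_const_zero, add_zero]
      · refine Fin.cases ?_ (fun j => ?_) j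
        · simp only [mats0, mat01, mats1, mat11, matss, zero_mul, mul_one, zero_add, HH.mul_w, Pi.add_apply]
          rfl
        · simp only [mats0, mat0s, mats1, mat1s, matss, zero_mul, mul_zero, zero_add, HH.mul_A, Units.val_mul,
            mul_apply]

theorem mat_one : mat (1 : HH n) = 1 := by
  ext i j
  refine Fin.cases ?_ (fun i => ?_) i
  · refine Fin.cases ?_ (fun j => ?_) j
    · rfl
    · refine Fin.cases ?_ (fun j => ?_) j
      · rfl
      · simp [mat0s, Matrix.one_apply, Fin.ext_iff]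
  · refine Fin.cases ?_ (fun i => ?_) i
    · refine Fin.cases ?_ (fun j => ?_) j
      · rfl
      · refine Fin.cases ?_ (fun j => ?_) j
        · rfl
        · rw [mat1s]; simp [Matrix.one_apply, Fin.ext_iff]
    · refine Fin.cases ?_ (fun j => ?_) j
      · rw [mats0]; simp [Matrix.one_apply, Fin.ext_iff]
      · refine Fin.cases ?_ (fun j => ?_) j
        · rw [mats1]; simp [Matrix.one_apply, Fin.ext_iff]
        · rw [matss]; simp [Matrix.one_apply, Fin.ext_iff]

theorem mat_inj {x y : HH n} (h : mat x = mat y) : x = y := by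
  ext1
  · rw [← mat01, ← mat01, h]
  · funext j; rw [← mat0s, ← mat0s, h]
  · funext i; rw [← mats1, ← mats1, h]
  · apply Units.ext
    ext i j
    rw [← matss, ← matss, h]

theorem det_mat (x : HH n) : (mat x).det = 1 := by
  have h1 : (mat x).det * (mat x⁻¹).det = 1 := by
    rw [← det_mul, ← mat_mul, mul_inv_cancel, mat_one, det_one]
  rcases HH.z2 (mat x).det with h | h
  · rw [h, zero_mul] at h1; exact absurd h1 (by decide)
  · exact h

/-- the embedding. -/
def toSLH : HH n →* SpecialLinearGroup (Fin (n + 2)) (ZMod 2) where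
  toFun x := ⟨mat x, det_mat x⟩
  map_one' := Subtype.ext mat_one
  map_mul' x y := Subtype.ext (mat_mul x y)

theorem toSLH_injective : Function.Injective (toSLH (n := n)) := fun x y h =>
  mat_inj (congrArg Subtype.val h)

theorem mat_zz : mat (HH.zz n) = Matrix.transvection 0 1 1 := by
  have h10 : (Fin.succ 0 : Fin (n + 2)) = 1 := rfl
  ext i j
  rw [Matrix.transvection, Matrix.add_apply]
  refine Fin.cases ?_ (fun i => ?_) i
  · refine Fin.cases ?_ (fun j => ?_) j
    · simp [mat00, Matrix.single_apply]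
    · refine Fin.cases ?_ (fun j => ?_) j
      · rw [mat01]; simp [HH.zz, Matrix.single_apply, Matrix.one_apply, Fin.ext_iff]
      · rw [mat0s]; simp [HH.zz, Matrix.single_apply, Matrix.one_apply, Fin.ext_iff]
  · refine Fin.cases ?_ (fun i => ?_) i
    · refine Fin.cases ?_ (fun j => ?_) j
      · rw [mat10]; simp [HH.zz, Matrix.single_apply, Matrix.one_apply, Fin.ext_iff]
      · refine Fin.cases ?_ (fun j => ?_) j
        · rw [mat11]; simp [HH.zz, Matrix.single_apply, Matrix.one_apply, Fin.ext_iff]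
        · rw [mat1s]; simp [Matrix.single_apply, Matrix.one_apply, Fin.ext_iff]
    · refine Fin.cases ?_ (fun j => ?_) j
      · rw [mats0]; simp [Matrix.single_apply, Matrix.one_apply, Fin.ext_iff]
      · refine Fin.cases ?_ (fun j => ?_) j
        · rw [mats1]; simp [HH.zz, Matrix.single_apply, Matrix.one_apply, Fin.ext_iff]
        · rw [matss]; simp [HH.zz, Matrix.single_apply, Matrix.one_apply, Fin.ext_iff]

variable {z : SpecialLinearGroup (Fin (n + 2)) (ZMod 2)}

/-- entries of a matrix commuting with the transvection. -/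
theorem entries {g : SpecialLinearGroup (Fin (n + 2)) (ZMod 2)}
    (hz : (z : Matrix (Fin (n + 2)) (Fin (n + 2)) (ZMod 2)) = Matrix.transvection 0 1 1)
    (hg : g * z = z * g) :
    (∀ i, i ≠ 0 → (g : Matrix (Fin (n + 2)) (Fin (n + 2)) (ZMod 2)) i 0 = 0) ∧
    (∀ j, j ≠ 1 → (g : Matrix (Fin (n + 2)) (Fin (n + 2)) (ZMod 2)) 1 j = 0) ∧
    (g : Matrix (Fin (n + 2)) (Fin (n + 2)) (ZMod 2)) 0 0 = 1 ∧
    (g : Matrix (Fin (n + 2)) (Fin (n + 2)) (ZMod 2)) 1 1 = 1 := by
  have h1 : (g : Matrix (Fin (n + 2)) (Fin (n + 2)) (ZMod 2)) * Matrix.single 0 1 1 =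
      Matrix.single 0 1 1 * (g : Matrix (Fin (n + 2)) (Fin (n + 2)) (ZMod 2)) := by
    have : (g : Matrix (Fin (n + 2)) (Fin (n + 2)) (ZMod 2)) * (z : Matrix (Fin (n + 2)) (Fin (n + 2)) (ZMod 2)) =
        (z : Matrix (Fin (n + 2)) (Fin (n + 2)) (ZMod 2)) * (g : Matrix (Fin (n + 2)) (Fin (n + 2)) (ZMod 2)) :=
      congrArg Subtype.val hg
    rw [hz, Matrix.transvection, mul_add, add_mul, mul_one, one_mul] at this
    exact add_left_cancel this
  have hi : ∀ i, i ≠ 0 → (g : Matrix (Fin (n + 2)) (Fin (n + 2)) (ZMod 2)) i 0 = 0 := by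
    intro i hi
    have := congrFun (congrFun h1 i) 1
    simpa [Matrix.mul_single_apply_same, Matrix.single_mul_apply_of_ne, hi, Ne.symm hi] using this
  have hj : ∀ j, j ≠ 1 → (g : Matrix (Fin (n + 2)) (Fin (n + 2)) (ZMod 2)) 1 j = 0 := by
    intro j hj
    have := congrFun (congrFun h1 0) j
    simpa [Matrix.mul_single_apply_of_ne, Matrix.single_mul_apply_same, hj, Ne.symm hj] using this.symm
  have h00 : (g : Matrix (Fin (n + 2)) (Fin (n + 2)) (ZMod 2)) 0 0 =
      (g : Matrix (Fin (n + 2)) (Fin (n + 2)) (ZMod 2)) 1 1 := by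
    have := congrFun (congrFun h1 0) 1
    simpa using this
  have h0 : (g : Matrix (Fin (n + 2)) (Fin (n + 2)) (ZMod 2)) 0 0 = 1 := by
    rcases HH.z2 ((g : Matrix (Fin (n + 2)) (Fin (n + 2)) (ZMod 2)) 0 0) with h | h
    · exfalso
      have hdet := g.2
      rw [Matrix.det_eq_zero_of_column_eq_zero 0] at hdet
      · exact absurd hdet (by decide)
      · intro i
        by_cases hi0 : i = 0
        · rw [hi0]; exact h
        · exact hi i hi0
    · exact h
  exact ⟨hi, hj, h0, h00 ▸ h0⟩

theorem range_toSLH (hz : (z : Matrix (Fin (n + 2)) (Fin (n + 2)) (ZMod 2)) = Matrix.transvection 0 1 1) :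
    (toSLH (n := n)).range = Subgroup.centralizer ({z} : Set (SpecialLinearGroup (Fin (n + 2)) (ZMod 2))) := by
  have hzz : toSLH (HH.zz n) = z := Subtype.ext (by rw [hz]; exact mat_zz)
  ext g
  rw [Subgroup.mem_centralizer_singleton_iff]
  constructor
  · rintro ⟨x, rfl⟩
    rw [← hzz, ← map_mul, ← map_mul, HH.zz_comm]
  · intro hg
    have hg' : g⁻¹ * z = z * g⁻¹ := by
      rw [inv_mul_eq_iff_eq_mul, ← mul_assoc, hg, mul_inv_cancel_right]
    obtain ⟨h1, h2, h3, h4⟩ := entries hz hg
    obtain ⟨k1, k2, k3, k4⟩ := entries hz hg'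
    have hb : ∀ {a b : SpecialLinearGroup (Fin (n + 2)) (ZMod 2)},
        (∀ i, i ≠ 0 → (a : Matrix (Fin (n + 2)) (Fin (n + 2)) (ZMod 2)) i 0 = 0) →
        (∀ j, j ≠ 1 → (b : Matrix (Fin (n + 2)) (Fin (n + 2)) (ZMod 2)) 1 j = 0) → a * b = 1 →
        ((a : Matrix (Fin (n + 2)) (Fin (n + 2)) (ZMod 2)).submatrix (fun i : Fin n => i.succ.succ)
          (fun i : Fin n => i.succ.succ)) *
        ((b : Matrix (Fin (n + 2)) (Fin (n + 2)) (ZMod 2)).submatrix (fun i : Fin n => i.succ.succ)
          (fun i : Fin n => i.succ.succ)) = 1 := by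
      intro a b ha hb hab
      ext i j
      have h5 := congrFun (congrFun (congrArg Subtype.val hab) i.succ.succ) j.succ.succ
      have h6 : ((a : Matrix (Fin (n + 2)) (Fin (n + 2)) (ZMod 2)) *
        (b : Matrix (Fin (n + 2)) (Fin (n + 2)) (ZMod 2))) i.succ.succ j.succ.succ =
          (1 : Matrix (Fin (n + 2)) (Fin (n + 2)) (ZMod 2)) i.succ.succ j.succ.succ := h5
      rw [mul_apply, Fin.sum_univ_succ, Fin.sum_univ_succ, ha _ (Fin.succ_ne_zero _)] at h6
      have h7 : (b : Matrix (Fin (n + 2)) (Fin (n + 2)) (ZMod 2)) (Fin.succ 0) j.succ.succ = 0 := by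
        apply hb
        intro h; simp [Fin.ext_iff] at h
      rw [h7, zero_mul, mul_zero, zero_add, zero_add] at h6
      rw [mul_apply]
      simp only [submatrix_apply]
      rw [h6]
      simp [Matrix.one_apply, Fin.ext_iff]
    let A : GL (Fin n) (ZMod 2) := ⟨_, _, hb h1 k2 (mul_inv_cancel g), hb k1 h2 (inv_mul_cancel g)⟩
    refine ⟨⟨(g : Matrix (Fin (n + 2)) (Fin (n + 2)) (ZMod 2)) 0 1,
      fun j => (g : Matrix (Fin (n + 2)) (Fin (n + 2)) (ZMod 2)) 0 j.succ.succ,
      fun i => (g : Matrix (Fin (n + 2)) (Fin (n + 2)) (ZMod 2)) i.succ.succ 1, A⟩, ?_⟩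
    apply Subtype.ext
    show mat _ = (g : Matrix (Fin (n + 2)) (Fin (n + 2)) (ZMod 2))
    ext i j
    refine Fin.cases ?_ (fun i => ?_) i
    · refine Fin.cases ?_ (fun j => ?_) j
      · rw [mat00, h3]
      · refine Fin.cases ?_ (fun j => ?_) j
        · rfl
        · rfl
    · refine Fin.cases ?_ (fun i => ?_) i
      · refine Fin.cases ?_ (fun j => ?_) j
        · rw [mat10]; exact (h2 0 (by simp [Fin.ext_iff])).symm
        · refine Fin.cases ?_ (fun j => ?_) j
          · rw [mat11]; exact h4.symm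
          · rw [mat1s]; exact (h2 _ (by simp [Fin.ext_iff])).symm
      · refine Fin.cases ?_ (fun j => ?_) j
        · rw [mats0]; exact (h1 _ (by simp [Fin.ext_iff])).symm
        · refine Fin.cases ?_ (fun j => ?_) j
          · rfl
          · rfl

/-- the centralizer of a transvection. -/
noncomputable def settingSL (hn : 1 ≤ n)
    (hz : (z : Matrix (Fin (n + 2)) (Fin (n + 2)) (ZMod 2)) = Matrix.transvection 0 1 1) : Setting z n :=
  Setting.ofHom hn toSLH toSLH_injective (range_toSLH hz) (Subtype.ext (by rw [hz]; exact mat_zz))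

/-- `GL_n(2) = SL_n(2)`. -/
noncomputable def glEquivSL : GL (Fin n) (ZMod 2) ≃* SpecialLinearGroup (Fin n) (ZMod 2) :=
  (MulEquiv.ofBijective (SpecialLinearGroup.toGL : SpecialLinearGroup (Fin n) (ZMod 2) →* GL (Fin n) (ZMod 2)) (by
    constructor
    · exact SpecialLinearGroup.toGL_injective
    · intro A
      have h1 : (A : Matrix (Fin n) (Fin n) (ZMod 2)).det = 1 := by
        have h2 : IsUnit (A : Matrix (Fin n) (Fin n) (ZMod 2)).det :=
          (Matrix.isUnit_iff_isUnit_det _).1 A.isUnit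
        rcases HH.z2 (A : Matrix (Fin n) (Fin n) (ZMod 2)).det with h | h
        · rw [h] at h2; exact absurd h2 (by decide)
        · exact h
      exact ⟨⟨_, h1⟩, Units.ext rfl⟩)).symm

end Cfsg.Agent.Lib.HeisGL
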