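import Cfsg.Agent.Lib.HeringTwoC
import Cfsg.Agent.S0205

/-!
# Part D (helper48): nontrivial elements fix at most two points
-/

set_option autoImplicit false
set_option linter.all false

namespace Cfsg.Agent.Lib.HeringTwo

open MulAction Subgroup

variable {G Ω : Type*} [Group G] [MulAction G Ω] {t : G} [Finite G] [Finite Ω] [FaithfulSMul G Ω]

/-- the odd order elements of `G_f` inverted by all involutions of `G_f` -/
def InE (f : Ω) (d : G) : Prop :=
  d • f = f ∧ Odd (orderOf d) ∧ ∀ s : G, orderOf s = 2 → s • f = f → s * d * s⁻¹ = d⁻¹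

omit [Finite G] [Finite Ω] [FaithfulSMul G Ω] in
theorem mul_sq_inv {s d : G} (hs : orderOf s = 2) (hd : Odd (orderOf d)) (hsd : s * d * s⁻¹ = d⁻¹) :
    orderOf (s * (d * d)) = 2 := by
  haveI : Fact (Nat.Prime 2) := ⟨Nat.prime_two⟩
  have hss : s * s = 1 := by rw [← pow_two, ← hs, pow_orderOf_eq_one]
  have hsi : s⁻¹ = s := inv_eq_of_mul_eq_one_left hss
  apply orderOf_eq_prime
  · rw [pow_two]
    calc s * (d * d) * (s * (d * d)) = (s * d * s⁻¹) * (s * d * s) * (d * d) := by group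
      _ = d⁻¹ * d⁻¹ * (d * d) := by
        rw [hsd]
        have : s * d * s = d⁻¹ := by rw [← hsd, hsi]
        rw [this]
      _ = 1 := by group
  · intro h1
    have h2 : s = (d * d)⁻¹ := eq_inv_of_mul_eq_one_left h1
    have h3 : Odd (orderOf (d * d)) := by
      rw [← pow_two]
      exact hd.of_dvd_nat (orderOf_pow_dvd 2)
    rw [h2, orderOf_inv] at hs
    rw [hs] at h3
    exact absurd h3 (by decide)

theorem InE.comm (h : Hyp G Ω 1 t) {f : Ω} (h2 : ∃ g : Ω, g ≠ f) {d e : G} (hd : InE f d) (he : InE f e) :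
    d * e = e * d := by
  obtain ⟨s, hs, hsf⟩ := h.exists_inv_fix f h2
  have h1 := mul_sq_inv hs hd.2.1 (hd.2.2 s hs hsf)
  have h3 : (s * (d * d)) • f = f := by rw [mul_smul, mul_smul, hd.1, hd.1, hsf]
  have h4 := he.2.2 _ h1 h3
  rw [← he.2.2 s hs hsf] at h4
  have h5 : s * ((d * d) * e * (d * d)⁻¹) * s⁻¹ = s * e * s⁻¹ := by rw [← h4]; group
  have h6 := mul_left_cancel (mul_right_cancel h5)
  have h7 : d * d ∈ centralizer ({e} : Set G) := by
    rw [mul_inv_eq_iff_eq_mul] at h6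
    exact mem_centralizer_singleton_iff.2 h6
  exact mem_centralizer_singleton_iff.1 (mem_of_odd hd.2.1 h7)

/-- the subgroup `E(f)` -/
def E (h : Hyp G Ω 1 t) (f : Ω) (h2 : ∃ g : Ω, g ≠ f) : Subgroup G where
  carrier := {d | InE f d}
  one_mem' := ⟨one_smul _ _, by rw [orderOf_one]; exact odd_one, fun s _ _ => by group⟩
  mul_mem' := by
    intro d e hd he
    have hc : Commute d e := hd.comm h h2 he
    refine ⟨by rw [mul_smul, he.1, hd.1], ?_, ?_⟩
    · exact (hd.2.1.mul he.2.1).of_dvd_nat hc.orderOf_mul_dvd_mul_orderOf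
    · intro s hs hsf
      have h1 := hd.2.2 s hs hsf
      have h3 := he.2.2 s hs hsf
      calc s * (d * e) * s⁻¹ = (s * d * s⁻¹) * (s * e * s⁻¹) := by group
        _ = (e * d)⁻¹ := by rw [h1, h3, mul_inv_rev]
        _ = (d * e)⁻¹ := by rw [hc.eq]
  inv_mem' := by
    intro d hd
    refine ⟨by rw [inv_smul_eq_iff, hd.1], by rw [orderOf_inv]; exact hd.2.1, ?_⟩
    intro s hs hsf
    have h1 := hd.2.2 s hs hsf
    calc s * d⁻¹ * s⁻¹ = (s * d * s⁻¹)⁻¹ := by group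
      _ = (d⁻¹)⁻¹ := by rw [h1]

theorem mem_E {h : Hyp G Ω 1 t} {f : Ω} {h2 : ∃ g : Ω, g ≠ f} {d : G} : d ∈ E h f h2 ↔ InE f d := Iff.rfl

/-- `d` fixes three points -/
def T3 (Ω : Type*) {G : Type*} [Group G] [MulAction G Ω] (d : G) : Prop :=
  ∃ a b c : Ω, a ≠ b ∧ b ≠ c ∧ a ≠ c ∧ d • a = a ∧ d • b = b ∧ d • c = c

theorem InE.t3 (h : Hyp G Ω 1 t) (hno : NoTwo G Ω) {f δ : Ω} (hfδ : f ≠ δ) {d : G} (hd : InE f d)
    (hδ : d • δ = δ) : T3 Ω d ∧ ∀ s : G, orderOf s = 2 → s • f = f → d • (s • δ) = s • δ ∧ s • δ ≠ δ ∧ s • δ ≠ f := by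
  have key : ∀ s : G, orderOf s = 2 → s • f = f → d • (s • δ) = s • δ ∧ s • δ ≠ δ ∧ s • δ ≠ f := by
    intro s hs hsf
    have h1 := hd.2.2 s hs hsf
    refine ⟨?_, ?_, ?_⟩
    · have h3 : d * s = s * d⁻¹ := by
        have h4 : s * d⁻¹ * s⁻¹ = d := by
          have : s * d⁻¹ * s⁻¹ = (s * d * s⁻¹)⁻¹ := by group
          rw [this, h1, inv_inv]
        rw [mul_inv_eq_iff_eq_mul] at h4
        exact h4.symm
      rw [← mul_smul, h3, mul_smul]
      have : d⁻¹ • δ = δ := by rw [inv_smul_eq_iff, hδ]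
      rw [this]
    · intro h3
      exact hfδ (hno s hs f δ hsf h3)
    · intro h3
      exact hfδ (smul_left_cancel s (hsf.trans h3.symm))
  obtain ⟨s, hs, hsf⟩ := h.exists_inv_fix f ⟨δ, hfδ.symm⟩
  obtain ⟨h1, h2, h3⟩ := key s hs hsf
  exact ⟨⟨f, δ, s • δ, hfδ, Ne.symm h2, Ne.symm h3, hd.1, hδ, h1⟩, key⟩

theorem T3.pick {d : G} (hd : T3 Ω d) (f : Ω) : ∃ b c : Ω, f ≠ b ∧ b ≠ c ∧ f ≠ c ∧ d • b = b ∧ d • c = c := by
  obtain ⟨a, b, c, hab, hbc, hac, h1, h2, h3⟩ := hd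
  by_cases ha : f = a
  · subst ha; exact ⟨b, c, hab, hbc, hac, h2, h3⟩
  · by_cases hb : f = b
    · subst hb; exact ⟨a, c, hab.symm, hac, hbc, h1, h3⟩
    · exact ⟨a, b, ha, hab, hb, h1, h2⟩

theorem T3.inE (h : Hyp G Ω 1 t) (hno : NoTwo G Ω) {d : G} (hd1 : d ≠ 1) (hd : T3 Ω d) {f : Ω} (hf : d • f = f) :
    InE f d := by
  obtain ⟨b, c, hfb, hbc, hfc, hb, hc⟩ := hd.pick f
  obtain ⟨s, hs, hsf, hsd⟩ := h.exists_inv hno hd1 hfb hbc hfc hf hb hc
  exact ⟨hf, odd_of_fix hno hfb hf hb, fun s' hs' hsf' => h.all_invert hno hfb hs hsf hs' hsf'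
    (mem_St.2 ⟨hf, hb⟩) hsd⟩

theorem orderOf_conj' (g x : G) : orderOf (g * x * g⁻¹) = orderOf x := by
  have := orderOf_injective (MulAut.conj g).toMonoidHom (MulAut.conj g).injective x
  rw [← this]; simp

theorem InE.conj {f : Ω} {d : G} (hd : InE f d) (g : G) : InE (g • f) (g * d * g⁻¹) := by
  refine ⟨by rw [mul_smul, mul_smul, inv_smul_smul, hd.1], by rw [orderOf_conj']; exact hd.2.1, ?_⟩
  intro s hs hsf
  have h1 := hd.2.2 (g⁻¹ * s * g) (by
    have := orderOf_conj' g⁻¹ s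
    rw [inv_inv] at this
    rw [this]; exact hs) (by rw [mul_smul, mul_smul, hsf, inv_smul_smul])
  calc s * (g * d * g⁻¹) * s⁻¹ = g * ((g⁻¹ * s * g) * d * (g⁻¹ * s * g)⁻¹) * g⁻¹ := by group
    _ = g * d⁻¹ * g⁻¹ := by rw [h1]
    _ = (g * d * g⁻¹)⁻¹ := by group

/-- the groups `E(γ) ∩ G_γ'` have constant order -/
theorem card_E_inf (h : Hyp G Ω 1 t) {a b c d : Ω} (hab : a ≠ b) (hcd : c ≠ d) :
    Nat.card {x : G // InE a x ∧ x • b = b} = Nat.card {x : G // InE c x ∧ x • d = d} := by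
  obtain ⟨g, h1, h2⟩ := h.two a b c d hab hcd
  refine Nat.card_congr ((MulAut.conj g).toEquiv.subtypeEquiv ?_)
  intro x
  show InE a x ∧ x • b = b ↔ InE c (g * x * g⁻¹) ∧ (g * x * g⁻¹) • d = d
  constructor
  · rintro ⟨h3, h4⟩
    refine ⟨h1 ▸ h3.conj g, ?_⟩
    rw [← h2, mul_smul, mul_smul, inv_smul_smul, h4]
  · rintro ⟨h3, h4⟩
    refine ⟨?_, ?_⟩
    · have h5 := h3.conj g⁻¹
      have h6 : g⁻¹ * (g * x * g⁻¹) * g⁻¹⁻¹ = x := by group
      have h7 : g⁻¹ • c = a := by rw [← h1, inv_smul_smul]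
      rwa [h6, h7] at h5
    · rw [← h2, mul_smul, mul_smul, inv_smul_smul] at h4
      exact smul_left_cancel g h4

/-- the derived series inside `G` -/
def ser (X : Subgroup G) : ℕ → Subgroup G
  | 0 => X
  | n + 1 => ⁅ser X n, ser X n⁆

omit [Finite G] [Finite Ω] [FaithfulSMul G Ω] [MulAction G Ω] in
theorem ser_eq (X : Subgroup G) (n : ℕ) : ser X n = (derivedSeries X n).map X.subtype := by
  induction n with
  | zero => simp [ser, derivedSeries_zero, ← MonoidHom.range_eq_map]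
  | succ n ih => rw [derivedSeries_succ, Subgroup.map_commutator, ← ih]; rfl

omit [Finite G] [Finite Ω] [FaithfulSMul G Ω] [MulAction G Ω] in
theorem ser_le (X : Subgroup G) (n : ℕ) : ser X n ≤ X := by
  rw [ser_eq]; exact map_subtype_le _

omit [Finite G] [Finite Ω] [FaithfulSMul G Ω] [MulAction G Ω] in
theorem ser_conj (X : Subgroup G) {g : G} (hg : X.map (MulAut.conj g).toMonoidHom = X) (n : ℕ) :
    (ser X n).map (MulAut.conj g).toMonoidHom = ser X n := by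
  induction n with
  | zero => exact hg
  | succ n ih =>
    show (⁅ser X n, ser X n⁆).map _ = ⁅ser X n, ser X n⁆
    rw [Subgroup.map_commutator, ih]

omit [Finite G] [Finite Ω] [FaithfulSMul G Ω] [MulAction G Ω] in
theorem ser_conj_mem (X : Subgroup G) {g : G} (hg : X.map (MulAut.conj g).toMonoidHom = X) {n : ℕ} {x : G}
    (hx : x ∈ ser X n) : g * x * g⁻¹ ∈ ser X n := by
  rw [← ser_conj X hg n]
  exact ⟨x, hx, rfl⟩

omit [Finite Ω] [FaithfulSMul G Ω] [MulAction G Ω] in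
theorem map_conj_eq {X : Subgroup G} {g : G} (hg : ∀ x ∈ X, g * x * g⁻¹ ∈ X) :
    X.map (MulAut.conj g).toMonoidHom = X := by
  apply Subgroup.eq_of_le_of_card_ge
  · rintro _ ⟨x, hx, rfl⟩
    exact hg x hx
  · rw [Nat.card_congr (X.equivMapOfInjective _ (MulAut.conj g).injective).toEquiv.symm]

/-- **Part D.** -/
theorem Hyp.partD (h : Hyp G Ω 1 t) (hno : NoTwo G Ω) {d : G} (hd1 : d ≠ 1) {f δ ε : Ω} (hfδ : f ≠ δ)
    (hδε : δ ≠ ε) (hfε : f ≠ ε) (hdf : d • f = f) (hdδ : d • δ = δ) (hdε : d • ε = ε) : False := by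
  classical
  have hdT : T3 Ω d := ⟨f, δ, ε, hfδ, hδε, hfε, hdf, hdδ, hdε⟩
  have hdE := hdT.inE h hno hd1 hdf
  have hf2 : ∃ g : Ω, g ≠ f := ⟨δ, hfδ.symm⟩
  -- `D₀`
  set D0 : Subgroup G := E h f hf2 ⊓ stabilizer G δ with hD0
  have memD0 : ∀ {x : G}, x ∈ D0 ↔ InE f x ∧ x • δ = δ := Iff.rfl
  have hdD0 : d ∈ D0 := memD0.2 ⟨hdE, hdδ⟩
  have hD0T : ∀ x ∈ D0, x ≠ 1 → T3 Ω x := fun x hx hx1 =>
    ((memD0.1 hx).1.t3 h hno hfδ (memD0.1 hx).2).1
  -- `Δ`
  let Dl : Ω → Prop := fun x => ∀ y ∈ D0, y • x = x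
  have hDlf : Dl f := fun y hy => (memD0.1 hy).1.1
  have hDlδ : Dl δ := fun y hy => (memD0.1 hy).2
  have hDl3 : ∀ a b : Ω, ∃ c : Ω, Dl c ∧ c ≠ a ∧ c ≠ b := by
    obtain ⟨s, hs, hsf⟩ := h.exists_inv_fix f hf2
    have h3 := (hdE.t3 h hno hfδ hdδ).2 s hs hsf
    have h4 : Dl (s • δ) := fun y hy => (((memD0.1 hy).1.t3 h hno hfδ (memD0.1 hy).2).2 s hs hsf).1
    intro a b
    by_cases h5 : f ≠ a ∧ f ≠ b
    · exact ⟨f, hDlf, h5⟩
    · by_cases h6 : δ ≠ a ∧ δ ≠ b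
      · exact ⟨δ, hDlδ, h6⟩
      · refine ⟨s • δ, h4, ?_, ?_⟩
        · rintro rfl
          rw [not_and_or, not_not, not_not] at h5 h6
          rcases h5 with h5 | h5
          · exact h3.2.2 h5.symm
          · rcases h6 with h6 | h6
            · exact h3.2.1 h6.symm
            · exact hfδ (h5.trans h6.symm)
        · rintro rfl
          rw [not_and_or, not_not, not_not] at h5 h6
          rcases h5 with h5 | h5
          · rcases h6 with h6 | h6
            · exact hfδ (h5.trans h6.symm)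
            · exact h3.2.1 h6.symm
          · exact h3.2.2 h5.symm
  -- `E(γ) ∩ G_γ' = D₀`
  have hEinf : ∀ a b : Ω, a ≠ b → Dl a → Dl b → ∀ x : G, InE a x → x • b = b → x ∈ D0 := by
    intro a b hab ha hb
    let F : {x : G // InE f x ∧ x • δ = δ} → {x : G // InE a x ∧ x • b = b} := fun x => ⟨x.1, by
      refine ⟨?_, hb x.1 (memD0.2 x.2)⟩
      by_cases hx1 : x.1 = 1
      · rw [hx1]; exact ⟨one_smul _ _, by rw [orderOf_one]; exact odd_one, fun s _ _ => by group⟩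
      · exact (hD0T x.1 (memD0.2 x.2) hx1).inE h hno hx1 (ha x.1 (memD0.2 x.2))⟩
    have hF : Function.Injective F := fun x y hxy => Subtype.ext (Subtype.mk.inj hxy)
    haveI := Fintype.ofFinite {x : G // InE f x ∧ x • δ = δ}
    haveI := Fintype.ofFinite {x : G // InE a x ∧ x • b = b}
    have hsurj : Function.Surjective F := by
      refine ((Fintype.bijective_iff_injective_and_card _).2 ⟨hF, ?_⟩).2
      rw [← Nat.card_eq_fintype_card, ← Nat.card_eq_fintype_card]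
      exact card_E_inf h hfδ hab
    intro x hx1 hx2
    obtain ⟨z, hz⟩ := hsurj ⟨x, hx1, hx2⟩
    have h5 : z.1 = x := congrArg Subtype.val hz
    rw [← h5]; exact memD0.2 z.2
  -- some element of `E(f)` moves `δ`
  have hEmove : ∃ e : G, InE f e ∧ e • δ ≠ δ := by
    by_contra hcon
    push Not at hcon
    apply hd1
    apply FaithfulSMul.eq_of_smul_eq_smul (α := Ω)
    intro x
    rw [one_smul]
    by_cases hx : x = f
    · rw [hx, hdf]
    · obtain ⟨g, hg1, hg2⟩ := h.two f x f δ (Ne.symm hx) hfδ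
      have h5 := hdE.conj g
      rw [hg1] at h5
      have h6 := hcon _ h5
      rw [← hg2, mul_smul, mul_smul, inv_smul_smul] at h6
      exact smul_left_cancel g h6
  -- `X = C(D₀)`
  set X : Subgroup G := centralizer (D0 : Set G) with hX
  have hXodd : Odd (Nat.card X) := by
    rw [← Nat.not_even_iff_odd]
    intro hev
    obtain ⟨z, hz⟩ := exists_prime_orderOf_dvd_card' (G := X) 2 (even_iff_two_dvd.1 hev)
    have hz' : orderOf (z : G) = 2 := by rw [← hz]; exact Subgroup.orderOf_coe z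
    have h5 : Commute d z := (mem_centralizer_iff.1 z.2 d hdD0)
    exact hd1 (h.eq_one_of_comm hno hz' h5 hfδ hdf hdδ)
  have hXsol : Group.IsSolvable X := Cfsg.Agent.S0205.result hXodd
  have hXodd' : ∀ x ∈ X, Odd (orderOf x) := fun x hx => hXodd.of_dvd_nat (Subgroup.orderOf_dvd_natCard _ hx)
  have hXDl : ∀ x ∈ X, ∀ a, Dl a → Dl (x • a) := by
    intro x hx a ha y hy
    rw [← mul_smul, mem_centralizer_iff.1 hx y hy, mul_smul, ha y hy]
  have hXtrans : ∀ a b : Ω, Dl a → Dl b → ∃ x ∈ X, x • a = b := by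
    intro a b ha hb
    by_cases hab : a = b
    · exact ⟨1, one_mem _, by rw [one_smul, hab]⟩
    · obtain ⟨c, hc, hca, hcb⟩ := hDl3 a b
      obtain ⟨u, hu1, hu2⟩ := h.exists_swap (Ne.symm hca)
      obtain ⟨v, hv1, hv2⟩ := h.exists_swap hcb
      refine ⟨v * u, ?_, by rw [mul_smul, hu1, hv1]⟩
      rw [hX, mem_centralizer_iff]
      intro y hy
      have e1 := h.inverts (Ne.symm hca) hu1 hu2 (mem_St.2 ⟨ha y hy, hc y hy⟩ : y ∈ St G a c)
      have e2 := h.inverts hcb hv1 hv2 (inv_mem (mem_St.2 ⟨hc y hy, hb y hy⟩ : y ∈ St G c b))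
      have e3 : (v * u) * y * (v * u)⁻¹ = y := by
        calc (v * u) * y * (v * u)⁻¹ = v * (u * y * u⁻¹) * v⁻¹ := by group
          _ = y := by rw [e1, e2, inv_inv]
      rw [mul_inv_eq_iff_eq_mul] at e3
      exact e3.symm
  -- the term of the derived series
  have hser : ∃ n, ser X n = ⊥ := by
    obtain ⟨n, hn⟩ := hXsol
    exact ⟨n, by rw [ser_eq, hn, Subgroup.map_bot]⟩
  let P : ℕ → Prop := fun n => ∀ v ∈ ser X n, ∀ a, Dl a → v • a = a
  have hPex : ∃ n, P n := by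
    obtain ⟨n, hn⟩ := hser
    refine ⟨n, ?_⟩
    intro v hv a _
    rw [hn, mem_bot] at hv
    rw [hv, one_smul]
  have hP0 : ¬ P 0 := by
    intro hP
    obtain ⟨x, hx, hxa⟩ := hXtrans f δ hDlf hDlδ
    exact hfδ ((hP x hx f hDlf).symm.trans hxa)
  obtain ⟨j, hj, hj1⟩ : ∃ j, ¬ P j ∧ P (j + 1) := by
    have h5 := Nat.find_spec hPex
    have h6 : Nat.find hPex ≠ 0 := by
      intro h7; rw [h7] at h5; exact hP0 h5
    obtain ⟨j, hj⟩ : ∃ j, Nat.find hPex = j + 1 := ⟨Nat.find hPex - 1, by omega⟩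
    exact ⟨j, Nat.find_min hPex (by omega), hj ▸ h5⟩
  set V := ser X j with hV
  have hVX : V ≤ X := ser_le X j
  have hVcomm : ∀ v ∈ V, ∀ w ∈ V, ∀ a, Dl a → v • (w • a) = w • (v • a) := by
    intro v hv w hw a ha
    have h5 : v⁻¹ * w⁻¹ * v * w ∈ ser X (j + 1) := by
      have h5 := Subgroup.commutator_mem_commutator (H₁ := ser X j) (H₂ := ser X j) (inv_mem hv) (inv_mem hw)
      rw [commutatorElement_def, inv_inv, inv_inv] at h5
      exact h5
    have h6 := hj1 _ h5 a ha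
    have h7 : v⁻¹ * w⁻¹ * v * w = (w * v)⁻¹ * (v * w) := by group
    rw [h7, mul_smul, inv_smul_eq_iff, mul_smul, mul_smul] at h6
    exact h6
  have hVconj : ∀ x ∈ X, ∀ v ∈ V, x * v * x⁻¹ ∈ V := by
    intro x hx v hv
    exact ser_conj_mem X (map_conj_eq fun y hy => mul_mem (mul_mem hx hy) (inv_mem hx)) hv
  have hVs : ∀ s : G, orderOf s = 2 → s • f = f → ∀ v ∈ V, s * v * s⁻¹ ∈ V := by
    intro s hs hsf v hv
    refine ser_conj_mem X (map_conj_eq fun y hy => ?_) hv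
    rw [hX, mem_centralizer_iff]
    intro z hz
    have h5 : s * z⁻¹ * s⁻¹ = z := by
      have h6 := (memD0.1 hz).1.2.2 s hs hsf
      have : s * z⁻¹ * s⁻¹ = (s * z * s⁻¹)⁻¹ := by group
      rw [this, h6, inv_inv]
    have h7 := mem_centralizer_iff.1 hy z⁻¹ (inv_mem hz)
    calc z * (s * y * s⁻¹) = (s * z⁻¹ * s⁻¹) * (s * y * s⁻¹) := by rw [h5]
      _ = s * (z⁻¹ * y) * s⁻¹ := by group
      _ = s * (y * z⁻¹) * s⁻¹ := by rw [h7]
      _ = (s * y * s⁻¹) * (s * z⁻¹ * s⁻¹) := by group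
      _ = (s * y * s⁻¹) * z := by rw [h5]
  -- an element `v₁` of `V` moving `f`
  obtain ⟨v1, hv1, hv1f⟩ : ∃ v ∈ V, v • f ≠ f := by
    have hj' : ∃ v ∈ V, ∃ a, Dl a ∧ v • a ≠ a := by
      by_contra hcon
      push Not at hcon
      exact hj fun v hv a ha => hcon v hv a ha
    obtain ⟨v, hv, a, ha, hva⟩ := hj'
    obtain ⟨x, hx, hxa⟩ := hXtrans a f ha hDlf
    refine ⟨x * v * x⁻¹, hVconj x hx v hv, ?_⟩
    intro h5
    apply hva
    rw [← hxa, mul_smul, mul_smul, inv_smul_smul] at h5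
    exact smul_left_cancel x h5
  have hDl1 : Dl (v1 • f) := hXDl v1 (hVX hv1) f hDlf
  -- involutions of `G_f` invert the orbit `V f`
  have hinv : ∀ s : G, orderOf s = 2 → s • f = f → ∀ v ∈ V, s • (v • f) = v⁻¹ • f := by
    intro s hs hsf v hv
    have hss : s * s = 1 := by rw [← pow_two, ← hs, pow_orderOf_eq_one]
    have hsi : s⁻¹ = s := inv_eq_of_mul_eq_one_left hss
    have hsv := hVs s hs hsf v hv
    have h5 : s • ((v * (s * v * s⁻¹)) • f) = (v * (s * v * s⁻¹)) • f := by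
      calc s • ((v * (s * v * s⁻¹)) • f) = ((s * v * s⁻¹) * (s * s * v) * (s * s)⁻¹) • (s • f) := by
            rw [← mul_smul, ← mul_smul]; congr 1; group
        _ = ((s * v * s⁻¹) * v) • f := by rw [hss, hsf, inv_one, mul_one, one_mul]
        _ = (v * (s * v * s⁻¹)) • f := by
            rw [mul_smul (s * v * s⁻¹) v, mul_smul v (s * v * s⁻¹)]
            exact hVcomm _ hsv v hv f hDlf
    have h6 := hno s hs _ _ h5 hsf
    rw [mul_smul] at h6
    have h7 : (s * v * s⁻¹) • f = v⁻¹ • f := by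
      rw [eq_inv_smul_iff]; exact h6
    have h8 : s⁻¹ • f = f := by rw [inv_smul_eq_iff, hsf]
    rw [← h7, mul_smul, mul_smul, h8]
  -- every element of `E(f)` fixes `v₁ f`
  obtain ⟨e, heE, heδ⟩ := hEmove
  obtain ⟨s, hs, hsf⟩ := h.exists_inv_fix f hf2
  have hs' := mul_sq_inv hs heE.2.1 (heE.2.2 s hs hsf)
  have hsf' : (s * (e * e)) • f = f := by rw [mul_smul, mul_smul, heE.1, heE.1, hsf]
  have h5 : (e * e) • (v1 • f) = v1 • f := by
    have h6 := hinv _ hs' hsf' v1 hv1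
    rw [mul_smul] at h6
    have h7 := hinv s hs hsf v1⁻¹ (inv_mem hv1)
    rw [inv_inv] at h7
    have hss : s * s = 1 := by rw [← pow_two, ← hs, pow_orderOf_eq_one]
    calc (e * e) • (v1 • f) = s • (s • ((e * e) • (v1 • f))) := by rw [← mul_smul s s, hss, one_smul]
      _ = s • (v1⁻¹ • f) := by rw [h6]
      _ = v1 • f := h7
  have h6 : e ∈ stabilizer G (v1 • f) := mem_of_odd heE.2.1 (show e * e ∈ stabilizer G (v1 • f) from h5)
  have h7 := hEinf f (v1 • f) (Ne.symm hv1f) hDlf hDl1 e heE h6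
  exact heδ (memD0.1 h7).2

end Cfsg.Agent.Lib.HeringTwo
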