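import Cfsg.Agent.Lib.HeringTwoD
import Cfsg.Agent.Lib.ZassReg
import Cfsg.Agent.Lib.ZassOdd
import Cfsg.Agent.Lib.Sharp3Pgl
import Cfsg.Agent.Lib.CITSuz
import Cfsg.Agent.Lib.FrobThm
import Cfsg.Agent.S0738
import Cfsg.Agent.S0731
import Cfsg.Agent.S0742
import Cfsg.Agent.S0885
import Cfsg.Agent.S0338
import Cfsg.Agent.S0347
import Cfsg.Agent.S1136

/-!
# Part E (helper48): conclusion
-/

set_option autoImplicit false
set_option linter.all false

namespace Cfsg.Agent.Lib.HeringTwo

open MulAction Subgroup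

variable {G Ω : Type*} [Group G] [MulAction G Ω] {i : ℕ} {t : G} [Finite G] [Finite Ω] [FaithfulSMul G Ω]

theorem Hyp.fix3 (h : Hyp G Ω i t) {x : G} (hx : x ≠ 1) {a b c : Ω} (hab : a ≠ b) (hbc : b ≠ c) (hac : a ≠ c)
    (h1 : x • a = a) (h2 : x • b = b) (h3 : x • c = c) : False := by
  by_cases hno : NoTwo G Ω
  · have hi := h.i_le hno
    obtain ⟨s, hs, hsa, -⟩ := h.exists_inv hno hx hab hbc hac h1 h2 h3
    have h4 := (h.invol hs).fix s (Commute.refl s) (h.invol hs).ne_one
    have h5 : i = 1 := by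
      have : i ≠ 0 := by
        rintro rfl
        rw [Nat.card_eq_zero] at h4
        rcases h4 with h4 | h4
        · exact h4.false ⟨a, hsa⟩
        · exact (not_finite_iff_infinite.2 h4) inferInstance
      omega
    subst h5
    exact h.partD hno hx hab hbc hac h1 h2 h3
  · unfold NoTwo at hno
    push Not at hno
    obtain ⟨s, hs, c', d', h4, h5, h6⟩ := hno
    exact h.partB hs h6 h4 h5 hx hab hbc hac h1 h2 h3

omit [Finite Ω] in
/-- sharply two-transitive groups have a regular normal subgroup -/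
theorem exists_regular (h2 : ∀ a b c d : Ω, a ≠ b → c ≠ d → ∃ g : G, g • a = c ∧ g • b = d) {a₀ b₀ : Ω}
    (h0 : a₀ ≠ b₀) (hreg : ∀ g : G, g ≠ 1 → ∀ a b : Ω, a ≠ b → g • a = a → g • b ≠ b) :
    ∃ R : Subgroup G, R.Normal ∧ (∀ x y : Ω, ∃ r ∈ R, r • x = y) ∧ ∀ x : Ω, ∀ r ∈ R, r • x = x → r = 1 := by
  classical
  have htr : ∀ x y : Ω, ∃ g : G, g • x = y := by
    intro x y
    by_cases hxy : x = y
    · exact ⟨1, by rw [one_smul, hxy]⟩
    · obtain ⟨g, h1, -⟩ := h2 x y y x hxy (Ne.symm hxy)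
      exact ⟨g, h1⟩
  by_cases hst : stabilizer G a₀ = ⊥
  · refine ⟨⊤, inferInstance, fun x y => ?_, fun x r _ hr => ?_⟩
    · obtain ⟨g, hg⟩ := htr x y
      exact ⟨g, mem_top _, hg⟩
    · obtain ⟨g, hg⟩ := htr x a₀
      have h1 : g * r * g⁻¹ ∈ stabilizer G a₀ := by
        rw [mem_stabilizer_iff, ← hg, mul_smul, mul_smul, inv_smul_smul, hr]
      rw [hst, mem_bot] at h1
      have : r = g⁻¹ * (g * r * g⁻¹) * g := by group
      rw [this, h1]; group
  · have hF : Cfsg.IsFrobeniusComplement (stabilizer G a₀) := by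
      refine ⟨hst, ?_, ?_⟩
      · intro htop
        obtain ⟨g, hg⟩ := htr a₀ b₀
        have h3 : g ∈ stabilizer G a₀ := by rw [htop]; exact mem_top _
        exact h0 ((mem_stabilizer_iff.1 h3).symm.trans hg)
      · intro g hg
        rw [eq_bot_iff]
        rintro x ⟨hx1, hx2⟩
        rw [mem_bot]
        by_contra hx
        have h3 : g⁻¹ * x * g ∈ stabilizer G a₀ := by
          obtain ⟨y, hy, rfl⟩ := hx2
          have : g⁻¹ * (g * y * g⁻¹) * g = y := by group
          show g⁻¹ * (g * y * g⁻¹) * g ∈ _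
          rw [this]; exact hy
        have h4 : x • (g • a₀) = g • a₀ := by
          have h5 : (g⁻¹ * x * g) • a₀ = a₀ := h3
          rw [mul_smul, mul_smul, inv_smul_eq_iff] at h5
          exact h5
        exact hreg x hx a₀ (g • a₀) (fun h5 => hg h5.symm) hx1 h4
    obtain ⟨N, -, hNn, hc⟩ := FrobThm.exists_kernel hF
    have key : ∀ z : Ω, ∃ n ∈ N, n • a₀ = z := by
      intro z
      obtain ⟨g, hg⟩ := htr a₀ z
      obtain ⟨⟨⟨n, hn⟩, ⟨k, hk⟩⟩, hnk, -⟩ := hc.existsUnique g
      refine ⟨n, hn, ?_⟩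
      have hk' : k • a₀ = a₀ := hk
      have hnk' : n * k = g := hnk
      rw [← hg, ← hnk', mul_smul, hk']
    refine ⟨N, hNn, fun x y => ?_, fun x r hr hrx => ?_⟩
    · obtain ⟨n, hn, rfl⟩ := key x
      obtain ⟨m, hm, rfl⟩ := key y
      exact ⟨m * n⁻¹, N.mul_mem hm (N.inv_mem hn), by rw [mul_smul, inv_smul_smul]⟩
    · obtain ⟨n, hn, rfl⟩ := key x
      have h3 : n⁻¹ * r * n ∈ (N ⊓ stabilizer G a₀ : Subgroup G) := by
        refine ⟨N.mul_mem (N.mul_mem (N.inv_mem hn) hr) hn, ?_⟩
        show (n⁻¹ * r * n) • a₀ = a₀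
        rw [mul_smul, mul_smul, hrx, inv_smul_smul]
      rw [hc.disjoint.eq_bot, mem_bot] at h3
      have : r = n * (n⁻¹ * r * n) * n⁻¹ := by group
      rw [this, h3]; group

theorem Hyp.main [Fintype Ω] (h : Hyp G Ω i t) (h2 : IsMultiplyPretransitive G Ω 2) :
    (∃ (F : Type) (_ : Field F) (_ : Fintype F), Nonempty (G ≃* Matrix.ProjectiveSpecialLinearGroup (Fin 2) F)) ∨
    Cfsg.Lie.IsoSuzuki G ∨
    (∃ R : Subgroup G, R.Normal ∧ (∀ x y : Ω, ∃ r ∈ R, r • x = y) ∧ ∀ x : Ω, ∀ r ∈ R, r • x = x → r = 1) := by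
  classical
  haveI : Fact (Nat.Prime 2) := ⟨Nat.prime_two⟩
  by_cases hR : ∃ R : Subgroup G, R.Normal ∧ (∀ x y : Ω, ∃ r ∈ R, r • x = y) ∧ ∀ x : Ω, ∀ r ∈ R, r • x = x → r = 1
  · exact Or.inr (Or.inr hR)
  obtain ⟨y0, hy0⟩ := exists_moved (Ω := Ω) h.ne_one
  have hD : ∃ g : G, g ≠ 1 ∧ ∃ a b : Ω, a ≠ b ∧ g • a = a ∧ g • b = b := by
    by_contra hcon
    push Not at hcon
    exact hR (exists_regular h.two hy0 (fun g hg a b hab h3 => hcon g hg a b hab h3))
  have hZ : Cfsg.IsZassenhausGroup G Ω := by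
    refine ⟨inferInstance, h2, ?_, hD, ?_⟩
    · intro g a b c hab hbc hac h3 h4 h5
      by_contra hg
      exact h.fix3 hg hab hbc hac h3 h4 h5
    · intro N hN hNt
      by_contra hcon
      push Not at hcon
      apply hR
      refine ⟨N, hN, fun x y => ?_, fun x r hr hrx => ?_⟩
      · obtain ⟨g, hg⟩ := exists_smul_eq N x y
        exact ⟨g, g.2, hg⟩
      · have h3 : (⟨r, hr⟩ : N) ∈ stabilizer N x := hrx
        rw [hcon x, mem_bot] at h3
        exact congrArg Subtype.val h3
  obtain ⟨-, -, a, b, hab, -, -⟩ := hD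
  by_cases hno : NoTwo G Ω
  · have ho : Odd (Nat.card ↥(stabilizer G a ⊓ stabilizer G b)) := by
      rw [← Nat.not_even_iff_odd]
      intro hev
      obtain ⟨z, hz⟩ := exists_prime_orderOf_dvd_card' (G := ↥(stabilizer G a ⊓ stabilizer G b)) 2
        (even_iff_two_dvd.1 hev)
      have hz' : orderOf (z : G) = 2 := by rw [← hz]; exact Subgroup.orderOf_coe z
      exact hab (hno z hz' a b z.2.1 z.2.2)
    have h3 := Lib.ZassKernel.three_le_card hZ
    rw [Nat.card_eq_fintype_card] at h3
    obtain ⟨H, hHa, hHcard, hHfix⟩ := Lib.ZassOdd.exists_kernel hZ a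
    have hreg := Lib.ZassReg.reg_of_kernel H hHa hHcard hHfix
    have hn := Lib.ZassReg.normal_of_kernel hZ H hHa hHcard hHfix
    have hHc : Nat.card H + 1 = Fintype.card Ω := by rw [hHcard, Nat.card_eq_fintype_card]
    rcases Cfsg.Agent.S0885.result hZ hab (Nat.card H) _ hHc.symm rfl ho H hHa hHc hHfix with
        h | ⟨hH2, hna, -⟩
    · left
      obtain ⟨hab', p, f, hp, -, hΩ⟩ := Cfsg.Agent.S0738.result hZ hab (by omega) H hHa hn
        (fun y z hy hz => hreg y z hy hz)
      rcases Cfsg.Agent.S0731.result hZ a H hHa hn hab' (fun y z hy hz => hreg y z hy hz) with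
        ⟨h3t, hsharp⟩ | ⟨K, i1, i2, -, h⟩
      · -- sharply 3-transitive
        have hc1 := Lib.SharpMult.card_of_sharp h3t
          (by rw [Nat.card_eq_fintype_card]; omega) hsharp
        have hc2 := Lib.ZassOdd.card_group hZ hab
        have he3 := Lib.ZassOdd.three_le_of_odd hZ hab ho
        rw [hc1] at hc2
        obtain ⟨m, hm⟩ : ∃ m, Nat.card Ω = m + 3 :=
          ⟨Nat.card Ω - 3, by rw [Nat.card_eq_fintype_card]; omega⟩
        rw [hm] at hc2
        have hde : (m + 3).descFactorial 3 = (m + 3) * ((m + 2) * (m + 1)) := by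
          simp [Nat.descFactorial]; ring
        have hm3 : m + 3 - 1 = m + 2 := by omega
        rw [hde, hm3] at hc2
        have h4 := Nat.eq_of_mul_eq_mul_left (by omega) hc2
        have h5 := Nat.eq_of_mul_eq_mul_left (by omega) h4
        rw [Nat.card_eq_fintype_card, hΩ] at hm
        have hp2 : p = 2 := by
          by_contra hp2
          have hodd : Odd (p ^ f) := (hp.odd_of_ne_two hp2).pow
          rw [← h5] at ho
          obtain ⟨k, hk⟩ := hodd
          obtain ⟨l, hl⟩ := ho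
          omega
        subst hp2
        have hf : 2 ≤ f := by
          by_contra hf
          have : f = 0 ∨ f = 1 := by omega
          rcases this with rfl | rfl <;> omega
        obtain ⟨F, i1, i2, hF, ⟨φ⟩⟩ := Lib.Sharp3Pgl.main_case hf hΩ h3t hsharp
        obtain ⟨ψ⟩ := Lib.Sharp3Pgl.psl_equiv_pgl (F := F) (by omega) hF
        exact ⟨F, i1, i2, ⟨φ.trans ψ.symm⟩⟩
      · exact ⟨K, i1, i2, h⟩
    · -- `H` is a nonabelian `2`-group
      obtain ⟨u0, v0, huv⟩ := hna
      haveI : Nontrivial H := ⟨⟨u0 * v0, v0 * u0, huv⟩⟩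
      have hHeven : Even (Nat.card H) := by
        obtain ⟨k, hk⟩ := (IsPGroup.iff_card).1 hH2
        have h4 : 1 < Nat.card H := Finite.one_lt_card
        rw [hk] at h4 ⊢
        exact (Nat.even_pow' (by rintro rfl; simp at h4)).2 even_two
      have hodd : Odd (Fintype.card Ω) := by rw [← hHc]; exact hHeven.add_one
      haveI := Cfsg.Agent.S0338.result hZ hodd
      have hsuz := Cfsg.Agent.S0347.result hZ a H hHa hn hH2 ⟨u0, v0, huv⟩ (fun y z hy hz => hreg y z hy hz)
      have h3G := CIT.not_three_dvd_suzuki hsuz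
      obtain ⟨u, hu1, hu2⟩ := h.exists_swap hab
      have hu := h.swap hab hu1 hu2
      have hconj : ∀ g ∈ stabilizer G a, ∀ x ∈ H, g * x * g⁻¹ ∈ H := by
        intro g hg x hx
        have := hn.conj_mem ⟨x, hHa hx⟩ (mem_subgroupOf.2 hx) ⟨g, hg⟩
        exact mem_subgroupOf.1 this
      have hS : Cfsg.IsRankOneSetup G Ω a u H := by
        refine ⟨h2, hu.tt, hu.ne_one, ?_, hHa, hconj, ?_, ?_, hHeven, by rw [hu1]; exact ho⟩
        · intro h4
          exact hab ((mem_stabilizer_iff.1 h4).symm.trans hu1)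
        · rw [hu1, eq_bot_iff]
          rintro x ⟨hx1, hx2⟩
          rw [mem_bot]
          by_contra hx
          exact hab (hHfix x hx1 hx b hx2).symm
        · rw [hu1]
          apply le_antisymm (sup_le hHa inf_le_left)
          intro g hg
          have hgb : g • b ≠ a := by
            intro h4
            apply hab
            have h5 : g • a = a := hg
            exact smul_left_cancel g (h5.trans h4.symm)
          obtain ⟨x, hx, -⟩ := hreg b (g • b) (Ne.symm hab) hgb
          have h4 : (x : G)⁻¹ * g ∈ (stabilizer G a ⊓ stabilizer G b : Subgroup G) := by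
            refine mem_inf.2 ⟨mul_mem (inv_mem (hHa x.2)) hg, ?_⟩
            show ((x : G)⁻¹ * g) • b = b
            rw [mul_smul, ← hx, inv_smul_smul]
          have h5 : g = x * ((x : G)⁻¹ * g) := by group
          rw [h5]
          exact mul_mem (mem_sup_left x.2) (mem_sup_right h4)
      have h2i : ∃ x y : G, x ≠ 1 ∧ y ≠ 1 ∧ x ≠ y ∧ x * x = 1 ∧ y * y = 1 ∧ x * y = y * x := by
        haveI hcb : Nontrivial (Subgroup.center H) := hH2.center_nontrivial
        obtain ⟨⟨z, hzc⟩, hz1⟩ := exists_ne (1 : Subgroup.center H)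
        have hz1' : z ≠ 1 := fun h4 => hz1 (Subtype.ext h4)
        obtain ⟨k, hk⟩ := hH2 z
        obtain ⟨j, hj1, hj2⟩ := two_elem (G := H) hz1' hk
        set w : H := z ^ 2 ^ j with hw
        have hwc : w ∈ Subgroup.center H := pow_mem hzc _
        obtain ⟨d, hd, hd1⟩ := Lib.ZassOdd.exists_ne_one hZ hab
        have hwo : orderOf (w : G) = 2 := by rw [← hj2]; exact Subgroup.orderOf_coe w
        have hww : (w : G) * w = 1 := by rw [← pow_two, ← hwo, pow_orderOf_eq_one]
        have hw1 : (w : G) ≠ 1 := by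
          intro h4
          rw [h4, orderOf_one] at hwo
          omega
        have hdw := hconj d hd.1 w w.2
        refine ⟨w, d * w * d⁻¹, hw1, ?_, ?_, hww, ?_, ?_⟩
        · intro h4
          apply hw1
          have : (w : G) = d⁻¹ * (d * w * d⁻¹) * d := by group
          rw [this, h4]; group
        · intro h4
          apply hd1
          have h5 : d * (w : G) = w * d := by
            nth_rw 2 [h4]; group
          have hdb : d • b = b := hd.2
          have h6 : d • ((w : G) • b) = (w : G) • b := by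
            rw [← mul_smul, h5, mul_smul, hdb]
          have h7 : (w : G) • b ≠ b := fun h8 => hab (hHfix w w.2 hw1 b h8).symm
          have h8 : (w : G) • b ≠ a := by
            intro h9
            apply hab
            have h10 : (w : G) • a = a := hHa w.2
            exact smul_left_cancel (w : G) (h10.trans h9.symm)
          exact hZ.2.2.1 d a b ((w : G) • b) hab (Ne.symm h7) (Ne.symm h8) hd.1 hdb h6
        · calc d * (w : G) * d⁻¹ * (d * w * d⁻¹) = d * (w * w) * d⁻¹ := by group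
            _ = 1 := by rw [hww]; group
        · have := Subgroup.mem_center_iff.1 hwc ⟨_, hdw⟩
          exact (congrArg Subtype.val this).symm
      obtain ⟨L, hLn, hLodd, hL⟩ := Cfsg.Agent.S1136.result hS h2i
      have hLtop : L = ⊤ := by
        rcases hLn.eq_bot_or_eq_top with h4 | h4
        · exfalso
          rw [h4, Subgroup.index_bot] at hLodd
          rw [← Nat.not_even_iff_odd] at hLodd
          apply hLodd
          exact even_iff_two_dvd.2 (h.ht ▸ orderOf_dvd_natCard t)
        · exact h4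
      have e0 : G ≃* L := (Subgroup.topEquiv.symm).trans (MulEquiv.subgroupCongr hLtop.symm)
      rcases hL with ⟨F, i1, i2, -, ⟨e⟩⟩ | ⟨F, i1, i2, m, hm, hF, ⟨e⟩⟩ | ⟨F, i1, i2, n, -, hF, ⟨e⟩⟩
      · exact Or.inl ⟨F, i1, i2, ⟨e0.trans e⟩⟩
      · exact Or.inr (Or.inl ⟨F, i1, i2, m, hm, hF, ⟨e0.trans e⟩⟩)
      · exfalso
        apply h3G
        rw [Nat.card_congr (e0.trans e).toEquiv]
        exact CIT.three_dvd_psu hF
  · left
    unfold NoTwo at hno
    push Not at hno
    obtain ⟨s, hs, c, d, h3, h4, hcd⟩ := hno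
    have hs' := h.invol hs
    have hD2 : 2 * Nat.card (St G c d) ≤ Nat.card (centralizer ({s} : Set G)) := by
      obtain ⟨u, hu1, hu2⟩ := h.exists_swap hcd
      have huC := hs'.swap_mem hcd h3 h4 hu1 hu2
      have hle : St G c d ≤ centralizer ({s} : Set G) := fun x hx => hs'.St_le hcd h3 h4 hx
      obtain ⟨k, hk⟩ := Subgroup.card_dvd_of_le hle
      have hk0 : k ≠ 0 := by
        rintro rfl
        have : 0 < Nat.card (centralizer ({s} : Set G)) := Nat.card_pos
        omega
      have hk1 : k ≠ 1 := by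
        rintro rfl
        have h5 := Subgroup.eq_of_le_of_card_ge hle (by rw [hk, mul_one])
        have h6 : u ∈ St G c d := by rw [h5]; exact huC
        exact hcd ((mem_St.1 h6).1.symm.trans hu1)
      rw [hk, mul_comm]
      exact Nat.mul_le_mul_left _ (by omega)
    have hi2 : 2 ≤ i := by
      have h5 := hs'.fix s (Commute.refl s) hs'.ne_one
      rw [← h5]
      haveI : Nontrivial {x : Ω // s • x = x} := ⟨⟨⟨c, h3⟩, ⟨d, h4⟩, fun h6 => hcd (congrArg Subtype.val h6)⟩⟩
      exact Finite.one_lt_card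
    have hcC := hs'.card_C
    have heven : Even (Nat.card ↥(stabilizer G c ⊓ stabilizer G d)) := by
      have h5 : s ∈ (stabilizer G c ⊓ stabilizer G d : Subgroup G) := ⟨h3, h4⟩
      exact even_iff_two_dvd.2 (hs ▸ Subgroup.orderOf_dvd_natCard _ h5)
    obtain ⟨p, f, K, i1, i2, -, -, -, -, e⟩ := Cfsg.Agent.S0742.result hZ hcd heven (by
      have : Nat.card ↥(stabilizer G c ⊓ stabilizer G d) = Nat.card (St G c d) := rfl
      rw [this, ← Nat.card_eq_fintype_card (α := Ω)]
      omega)
    exact ⟨K, i1, i2, e⟩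

end Cfsg.Agent.Lib.HeringTwo
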