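import Cfsg.Agent.Lib.HigmanLin

/-!
# Multiplicative quadratic maps of finite fields of characteristic two (helper6)
-/

set_option autoImplicit false
set_option linter.all false

namespace Cfsg.Agent.Lib.HigmanQuad

open Cfsg HigmanLin

variable {F : Type*} [Field F] [Finite F] [CharP F 2]

/-- if `x φ(x) = 1` has only the trivial solution then `φ` has odd order -/
theorem odd_order (φ : F ≃+* F) (h : ∀ x : F, x * φ x = 1 → x = 1) : Odd (orderOf φ) := by
  classical
  haveI : Finite (F ≃+* F) :=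
    Finite.of_injective (fun σ : F ≃+* F => (σ : F → F)) DFunLike.coe_injective
  letI : Fintype (F ≃+* F) := Fintype.ofFinite _
  by_contra hodd
  rw [Nat.not_odd_iff_even] at hodd
  obtain ⟨m, hm⟩ := hodd
  have hm0 : 0 < m := by
    have := orderOf_pos φ
    omega
  have hpow : φ ^ (2 * m) = 1 := by
    rw [two_mul, ← hm]; exact pow_orderOf_eq_one φ
  -- a nonzero coefficient vector
  let c : (F ≃+* F) → F := ∑ i ∈ Finset.range m, (Pi.single (φ ^ (2 * i)) 1) +
    ∑ i ∈ Finset.range m, (Pi.single (φ ^ (2 * i + 1)) 1)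
  have hc1 : c 1 = 1 := by
    have e1 : (∑ i ∈ Finset.range m, (Pi.single (φ ^ (2 * i)) 1 : (F ≃+* F) → F)) 1 = 1 := by
      rw [Finset.sum_apply]
      rw [Finset.sum_eq_single 0]
      · rw [mul_zero, pow_zero, Pi.single_eq_same]
      · intro i hi hi0
        rw [Pi.single_eq_of_ne]
        intro he
        have := orderOf_dvd_of_pow_eq_one he.symm
        rw [hm] at this
        have h2 := Nat.le_of_dvd (by omega) this
        rw [Finset.mem_range] at hi
        omega
      · intro h0
        rw [Finset.mem_range] at h0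
        omega
    have e2 : (∑ i ∈ Finset.range m, (Pi.single (φ ^ (2 * i + 1)) 1 : (F ≃+* F) → F)) 1 = 0 := by
      rw [Finset.sum_apply]
      apply Finset.sum_eq_zero
      intro i hi
      rw [Pi.single_eq_of_ne]
      intro he
      have := orderOf_dvd_of_pow_eq_one he.symm
      rw [hm] at this
      have h3 : 2 ∣ m + m := ⟨m, by ring⟩
      have h4 := h3.trans this
      omega
    change (∑ i ∈ Finset.range m, (Pi.single (φ ^ (2 * i)) 1 : (F ≃+* F) → F)) 1 +
      (∑ i ∈ Finset.range m, (Pi.single (φ ^ (2 * i + 1)) 1 : (F ≃+* F) → F)) 1 = 1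
    rw [e1, e2, add_zero]
  have hc0 : c ≠ 0 := fun h0 => by
    rw [h0] at hc1
    exact zero_ne_one hc1
  have hex : ∃ x : F, ∑ σ : F ≃+* F, c σ * σ x ≠ 0 := by
    by_contra hcon
    push Not at hcon
    exact hc0 (indep c hcon)
  obtain ⟨x, hx⟩ := hex
  set y : F := ∑ i ∈ Finset.range m, (φ ^ (2 * i)) x with hy
  have hsum : ∑ σ : F ≃+* F, c σ * σ x = y + φ y := by
    have e1 : ∀ (k : ℕ → ℕ), ∑ σ : F ≃+* F,
        (∑ i ∈ Finset.range m, (Pi.single (φ ^ (k i)) 1 : (F ≃+* F) → F)) σ * σ x =
        ∑ i ∈ Finset.range m, (φ ^ (k i)) x := by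
      intro k
      simp only [Finset.sum_apply, Finset.sum_mul]
      rw [Finset.sum_comm]
      refine Finset.sum_congr rfl fun i _ => ?_
      simp [Pi.single_apply]
    have e2 : ∑ σ : F ≃+* F, c σ * σ x = ∑ i ∈ Finset.range m, (φ ^ (2 * i)) x +
        ∑ i ∈ Finset.range m, (φ ^ (2 * i + 1)) x := by
      rw [← e1 (fun i => 2 * i), ← e1 (fun i => 2 * i + 1), ← Finset.sum_add_distrib]
      refine Finset.sum_congr rfl fun σ _ => ?_
      rw [← add_mul]; rfl
    rw [e2, hy, map_sum]
    congr 1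
    refine Finset.sum_congr rfl fun i _ => ?_
    rw [pow_succ']; rfl
  rw [hsum] at hx
  -- φ² y = y
  have hyy : φ (φ y) = y := by
    have e1 : φ (φ y) = ∑ i ∈ Finset.range m, (φ ^ (2 * (i + 1))) x := by
      rw [hy, map_sum, map_sum]
      refine Finset.sum_congr rfl fun i _ => ?_
      rw [show 2 * (i + 1) = 2 * i + 1 + 1 by ring, pow_succ', pow_succ']; rfl
    have e2 := Finset.sum_range_succ (fun i => (φ ^ (2 * i)) x) m
    have e3 := Finset.sum_range_succ' (fun i => (φ ^ (2 * i)) x) m
    rw [e2] at e3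
    rw [hpow, mul_zero, pow_zero] at e3
    rw [e1]
    exact (add_right_cancel e3).symm
  have hy0 : y ≠ 0 := by
    intro h0
    rw [h0, map_zero, add_zero] at hx
    exact hx rfl
  have hφy0 : φ y ≠ 0 := fun h0 => hy0 ((map_eq_zero φ).1 h0)
  have h1 := h (y / φ y) (by
    rw [map_div₀, hyy]
    field_simp)
  rw [div_eq_one_iff_eq hφy0] at h1
  apply hx
  rw [← h1]
  exact CharTwo.add_self_eq_zero y

/-- multiplicative quadratic maps -/
theorem quad_map (Q : F → F) (hQ : ∀ x y, Q (x * y) = Q x * Q y) (B : F →+ F →+ F)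
    (hB : ∀ x y, Q (x + y) = Q x + Q y + B x y) (hB0 : B ≠ 0) (hinj : ∀ x, Q x = 1 → x = 1) :
    ∃ ρ φ : F ≃+* F, φ ≠ RingEquiv.refl F ∧ Odd (orderOf φ) ∧ ∀ x, Q x = ρ x * φ (ρ x) := by
  classical
  haveI : Finite (F ≃+* F) :=
    Finite.of_injective (fun σ : F ≃+* F => (σ : F → F)) DFunLike.coe_injective
  letI : Fintype (F ≃+* F) := Fintype.ofFinite _
  haveI : Fintype F := Fintype.ofFinite F
  obtain ⟨s, c, hc⟩ := (S1140.result (F := F)).2.2 B
  let C : (F ≃+* F) → (F ≃+* F) → F := fun σ τ => if (σ, τ) ∈ s then c (σ, τ) else 0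
  have hC : ∀ x y, B x y = ∑ σ : F ≃+* F, (∑ τ : F ≃+* F, C σ τ * τ y) * σ x := by
    intro x y
    rw [hc x y]
    have e1 : ∑ p ∈ s, c p * (p.1 x * p.2 y) =
        ∑ p : (F ≃+* F) × (F ≃+* F), C p.1 p.2 * (p.1 x * p.2 y) := by
      rw [← Finset.sum_filter_add_sum_filter_not Finset.univ (· ∈ s)]
      rw [Finset.filter_mem_eq_inter, Finset.univ_inter]
      rw [Finset.sum_congr rfl (g := fun p => C p.1 p.2 * (p.1 x * p.2 y)) (by
        intro p hp
        have : C p.1 p.2 = c p := if_pos hp
        rw [this])]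
      symm
      rw [add_eq_left]
      apply Finset.sum_eq_zero
      intro p hp
      rw [Finset.mem_filter] at hp
      have : C p.1 p.2 = 0 := if_neg hp.2
      rw [this, zero_mul]
    rw [e1, Fintype.sum_prod_type]
    refine Finset.sum_congr rfl fun σ _ => ?_
    rw [Finset.sum_mul]
    refine Finset.sum_congr rfl fun τ _ => by ring
  have hQB : ∀ k x y, B (k * x) (k * y) = Q k * B x y := by
    intro k x y
    have h1 := hB (k * x) (k * y)
    rw [← mul_add, hQ, hQ, hQ, hB x y] at h1
    have := h1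
    linear_combination -h1
  have hne : ∃ σ τ, C σ τ ≠ 0 := by
    by_contra hcon
    push Not at hcon
    apply hB0
    ext x y
    rw [hC]
    simp [hcon]
  obtain ⟨σ, τ, hστ⟩ := hne
  have hQf : ∀ k, Q k = σ k * τ k := by
    intro k
    have h1 : ∀ y, (fun σ : F ≃+* F => ∑ τ : F ≃+* F, (C σ τ * (σ k * τ k - Q k)) * τ y) = 0 := by
      intro y
      apply indep
      intro x
      have h2 := hQB k x y
      rw [hC, hC, Finset.mul_sum, ← sub_eq_zero, ← Finset.sum_sub_distrib] at h2
      rw [← h2]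
      refine Finset.sum_congr rfl fun σ _ => ?_
      rw [map_mul]
      rw [Finset.sum_mul, Finset.sum_mul, Finset.sum_mul, Finset.mul_sum, ← Finset.sum_sub_distrib]
      refine Finset.sum_congr rfl fun τ _ => ?_
      rw [map_mul]; ring
    have h3 : (fun τ : F ≃+* F => C σ τ * (σ k * τ k - Q k)) = 0 := by
      apply indep
      intro y
      exact congrFun (h1 y) σ
    have h4 := congrFun h3 τ
    simp only [Pi.zero_apply] at h4
    have h5 := (mul_eq_zero.1 h4).resolve_left hστ
    exact (sub_eq_zero.1 h5).symm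
  have hne : σ ≠ τ := by
    rintro rfl
    apply hB0
    ext x y
    have h1 := hB x y
    rw [hQf, hQf, hQf, map_add] at h1
    have h2 := CharTwo.add_self_eq_zero (σ x * σ y)
    change B x y = 0
    linear_combination -h1 + h2
  have hform : ∀ x, Q x = σ x * (σ.symm.trans τ) (σ x) := by
    intro x
    rw [RingEquiv.trans_apply, RingEquiv.symm_apply_apply]
    exact hQf x
  refine ⟨σ, σ.symm.trans τ, ?_, ?_, hform⟩
  · intro he
    apply hne
    ext x
    have := RingEquiv.congr_fun he (σ x)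
    rw [RingEquiv.trans_apply, RingEquiv.symm_apply_apply] at this
    exact this.symm
  · apply odd_order
    intro x hx
    have h1 := hform (σ.symm x)
    rw [RingEquiv.apply_symm_apply, hx] at h1
    have h2 := hinj _ h1
    rw [← RingEquiv.apply_symm_apply σ x, h2, map_one]

end Cfsg.Agent.Lib.HigmanQuad
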