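import Cfsg.Agent.Lib.HigmanIso
import Cfsg.Prelude.Def_LieRecognition

/-!
# The groups `suzukiTypeA` (helper6)
-/

set_option autoImplicit false
set_option linter.all false

namespace Cfsg.Agent.Lib.HigmanTypeA

open Cfsg

variable {F : Type*} [Field F] (φ : F →+* F)

/-- the matrix -/
def mt (x y : F) : Matrix (Fin 3) (Fin 3) F := !![1, 0, 0; x, 1, 0; y, φ x, 1]

theorem mt_mul (x y x' y' : F) : mt φ x y * mt φ x' y' = mt φ (x + x') (y + y' + φ x * x') := by
  ext i j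
  fin_cases i <;> fin_cases j <;> simp [mt, Matrix.mul_apply, Fin.sum_univ_three] <;> ring

theorem mt_zero : mt φ 0 0 = 1 := by
  ext i j
  fin_cases i <;> fin_cases j <;> simp [mt]

/-- as invertible matrices -/
def gl (x y : F) : GL (Fin 3) F where
  val := mt φ x y
  inv := mt φ (-x) (-y + φ x * x)
  val_inv := by
    rw [mt_mul, ← mt_zero φ]
    congr 1 <;> ring
  inv_val := by
    rw [mt_mul, ← mt_zero φ]
    congr 1
    · ring
    · rw [map_neg]; ring

theorem gl_mul (x y x' y' : F) : gl φ x y * gl φ x' y' = gl φ (x + x') (y + y' + φ x * x') := by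
  apply Units.ext
  exact mt_mul φ x y x' y'

theorem gl_one : gl φ 0 0 = 1 := Units.ext (mt_zero φ)

theorem gl_inv (x y : F) : (gl φ x y)⁻¹ = gl φ (-x) (-y + φ x * x) := by
  rw [inv_eq_iff_mul_eq_one, gl_mul, ← gl_one φ]
  congr 1 <;> ring

theorem mem_iff (g : GL (Fin 3) F) : g ∈ suzukiTypeA F φ ↔ ∃ x y, g = gl φ x y := by
  constructor
  · intro hg
    refine Subgroup.closure_induction (p := fun g _ => ∃ x y, g = gl φ x y) ?_ ?_ ?_ ?_ hg
    · rintro g ⟨x, y, hxy⟩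
      exact ⟨x, y, Units.ext hxy⟩
    · exact ⟨0, 0, (gl_one φ).symm⟩
    · rintro a b _ _ ⟨x, y, rfl⟩ ⟨x', y', rfl⟩
      exact ⟨_, _, gl_mul φ x y x' y'⟩
    · rintro a _ ⟨x, y, rfl⟩
      exact ⟨_, _, gl_inv φ x y⟩
  · rintro ⟨x, y, rfl⟩
    exact Subgroup.subset_closure ⟨x, y, rfl⟩

/-- coordinates -/
noncomputable def cx (g : suzukiTypeA F φ) : F := (g : GL (Fin 3) F).1 1 0
noncomputable def cy (g : suzukiTypeA F φ) : F := (g : GL (Fin 3) F).1 2 0

/-- elements from coordinates -/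
noncomputable def el (x y : F) : suzukiTypeA F φ := ⟨gl φ x y, (mem_iff φ _).2 ⟨x, y, rfl⟩⟩

theorem cx_el (x y : F) : cx φ (el φ x y) = x := by
  simp [cx, el, gl, mt]

theorem cy_el (x y : F) : cy φ (el φ x y) = y := by
  simp [cy, el, gl, mt]

theorem exists_el (g : suzukiTypeA F φ) : ∃ x y, g = el φ x y := by
  obtain ⟨x, y, h⟩ := (mem_iff φ _).1 g.2
  exact ⟨x, y, Subtype.ext h⟩

theorem el_mul (x y x' y' : F) : el φ x y * el φ x' y' = el φ (x + x') (y + y' + φ x * x') :=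
  Subtype.ext (gl_mul φ x y x' y')

theorem el_one : el φ 0 0 = 1 := Subtype.ext (gl_one φ)

/-- the coordinates as an equivalence -/
noncomputable def equiv : suzukiTypeA F φ ≃ F × F where
  toFun g := (cx φ g, cy φ g)
  invFun p := el φ p.1 p.2
  left_inv g := by
    obtain ⟨x, y, rfl⟩ := exists_el φ g
    simp only [cx_el, cy_el]
  right_inv p := by
    simp only [cx_el, cy_el]

theorem card : Nat.card (suzukiTypeA F φ) = Nat.card F ^ 2 := by
  rw [Nat.card_congr (equiv φ), Nat.card_prod, pow_two]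

theorem ext : HigmanIso.Ext (cx φ) (cy φ) := by
  refine ⟨?_, fun e => ⟨el φ e 0, cx_el φ _ _⟩, ?_, ?_, ?_, fun e => ⟨el φ 0 e, cx_el φ _ _, cy_el φ _ _⟩⟩
  · intro a b
    obtain ⟨x, y, rfl⟩ := exists_el φ a
    obtain ⟨x', y', rfl⟩ := exists_el φ b
    rw [el_mul, cx_el, cx_el, cx_el]
  · intro z hz a
    obtain ⟨x, y, rfl⟩ := exists_el φ a
    obtain ⟨x', y', rfl⟩ := exists_el φ z
    rw [cx_el] at hz
    subst hz
    rw [el_mul, el_mul, map_zero]
    congr 1 <;> ring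
  · intro z w hz hw
    obtain ⟨x, y, rfl⟩ := exists_el φ z
    obtain ⟨x', y', rfl⟩ := exists_el φ w
    rw [cx_el] at hz hw
    subst hz hw
    rw [el_mul, cy_el, cy_el, cy_el, mul_zero, add_zero]
  · intro z hz h0
    obtain ⟨x, y, rfl⟩ := exists_el φ z
    rw [cx_el] at hz
    rw [cy_el] at h0
    rw [hz, h0, el_one]

theorem sq (g : suzukiTypeA F φ) [CharP F 2] : cy φ (g * g) = cx φ g * φ (cx φ g) := by
  obtain ⟨x, y, rfl⟩ := exists_el φ g
  rw [el_mul, cy_el, cx_el, CharTwo.add_self_eq_zero, zero_add, mul_comm]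

end Cfsg.Agent.Lib.HigmanTypeA
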