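import Cfsg.Agent.Lib.HigmanCard
import Cfsg.Agent.Lib.HigmanQuad
import Cfsg.Agent.Lib.HigmanTypeA

/-!
# Suzuki 2-groups of order `q ^ 2` are of type A (helper6)
-/

set_option autoImplicit false
set_option linter.all false

namespace Cfsg.Agent.Lib.HigmanBase

open Cfsg HigmanLin
open scoped commutatorElement

universe u v

variable {P : Type u} [Group P] [Finite P] {K : Type v} [CommGroup K]

theorem Hyp.typeA {φ : K →* MulAut P} (h : Hyp φ) (hna : ∃ x y : P, x * y ≠ y * x)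
    {F : Type u} [Field F] [CharP F 2] [Finite F] {ι : P → F} {χ : K → F} (f : Fld φ ι χ)
    (hcard : Nat.card P = Nat.card F ^ 2) :
    ∃ (E : Type) (_ : Field E) (_ : Fintype E) (ψ : E ≃+* E), Fintype.card E = Nat.card F ∧
      ψ ≠ RingEquiv.refl E ∧ Odd (orderOf ψ) ∧ Nonempty (P ≃* suzukiTypeA E (ψ : E →+* E)) := by
  classical
  haveI := h.Z_normal
  haveI : Fintype F := Fintype.ofFinite F
  have hZ : ∀ k, ∀ x ∈ h.Z, φ k x ∈ h.Z := fun k x hx => h.Z_inv k hx
  set V := P ⧸ h.Z with hV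
  -- V is commutative
  have hVc : ∀ a b : V, a * b = b * a := by
    intro a b
    induction a using QuotientGroup.induction_on with
    | H a =>
    induction b using QuotientGroup.induction_on with
    | H b =>
    rw [← commutatorElement_eq_one_iff_mul_comm]
    exact (QuotientGroup.eq_one_iff _).2 (h.comm_mem hna a b)
  letI : CommGroup V := { (inferInstance : Group V) with mul_comm := hVc }
  let Φ := quot φ h.Z hZ
  letI : MulDistribMulAction K V := MulDistribMulAction.compHom V Φ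
  have hsm : ∀ (k : K) (x : P), k • (x : V) = ((φ k x : P) : V) := fun k x => quot_mk φ h.Z hZ k x
  have hcV : Nat.card V = Nat.card F := by
    have h1 := h.Z.card_eq_card_quotient_mul_card_subgroup
    rw [f.card_Z h, hcard, pow_two] at h1
    exact (Nat.eq_of_mul_eq_mul_right Nat.card_pos h1).symm
  obtain ⟨n, hn2, hn⟩ := h.card_F f
  have hq4 : 4 ≤ Nat.card F := by
    rw [hn]
    calc 4 = 2 ^ 2 := by norm_num
      _ ≤ 2 ^ n := Nat.pow_le_pow_right (by norm_num) hn2
  haveI : Finite V := inferInstance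
  haveI : Fintype V := Fintype.ofFinite V
  haveI : Nontrivial V := by
    rw [← Finite.one_lt_card_iff_nontrivial, hcV]; omega
  -- K is finite of order q - 1
  let eK : K ≃ Fˣ := Equiv.ofBijective (fun k => Units.mk0 (χ k) (f.χ_ne k)) ⟨by
    intro k l hkl
    have h1 : χ k = χ l := congrArg Units.val hkl
    have h2 : χ (k * l⁻¹) = 1 := by
      rw [f.χ_mul, f.χ_inv, h1, mul_inv_cancel₀ (f.χ_ne l)]
    exact mul_inv_eq_one.1 (f.χ_inj h h2), by
    intro u
    obtain ⟨k, hk⟩ := f.χ_surj u u.ne_zero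
    exact ⟨k, Units.ext hk⟩⟩
  haveI : Fintype K := Fintype.ofEquiv _ eK.symm
  have hcK : Fintype.card K = Fintype.card F - 1 := by
    rw [Fintype.card_congr eK, Fintype.card_units]
  -- regularity
  have hfix : ∀ (k : K) (a : V), k • a = a → a ≠ 1 → k = 1 := by
    intro k a hka ha
    induction a using QuotientGroup.induction_on with
    | H a =>
    by_contra hk
    apply ha
    rw [hsm] at hka
    have h1 : a⁻¹ * φ k a ∈ h.Z := QuotientGroup.eq.1 hka.symm
    exact (QuotientGroup.eq_one_iff a).2 (h.fpf_quot hk (hZ k) h1)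
  have hreg : ∀ a b : V, a ≠ 1 → b ≠ 1 → ∃! k : K, k • a = b := by
    intro a b ha hb
    have hne : ∀ k : K, k • a ≠ 1 := by
      intro k hk
      apply ha
      have := congrArg (fun t => k⁻¹ • t) hk
      simpa using this
    let g : K → {v : V // v ≠ 1} := fun k => ⟨k • a, hne k⟩
    have hg : Function.Injective g := by
      intro k l hkl
      have h1 : k • a = l • a := congrArg Subtype.val hkl
      have h2 : (l⁻¹ * k) • a = a := by rw [mul_smul, h1, inv_smul_smul]
      have h3 := hfix _ _ h2 ha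
      exact (inv_mul_eq_one.1 h3).symm
    have hb' : Function.Bijective g := by
      rw [Fintype.bijective_iff_injective_and_card]
      refine ⟨hg, ?_⟩
      rw [hcK, Fintype.card_subtype_compl, Fintype.card_subtype_eq]
      rw [Nat.card_eq_fintype_card, Nat.card_eq_fintype_card] at hcV
      rw [hcV]
    obtain ⟨k, hk⟩ := hb'.2 ⟨b, hb⟩
    refine ⟨k, congrArg Subtype.val hk, fun l hl => hg ?_⟩
    rw [hk]
    exact Subtype.ext hl
  obtain ⟨fE, η, χ', hη1, hηm, hηa, hχ0, hχs⟩ := RegField.exists_field hreg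
  letI := fE
  haveI : Finite (RegField.Wrap V) := Finite.of_equiv _ η
  haveI : Fintype (RegField.Wrap V) := Fintype.ofFinite _
  have hcW : Nat.card (RegField.Wrap V) = 2 ^ n := by
    rw [← hn, ← hcV]; exact (Nat.card_congr η).symm
  haveI hF2 : Fact (Nat.Prime 2) := ⟨Nat.prime_two⟩
  -- the target field
  have hn0 : n ≠ 0 := by omega
  let E := GaloisField 2 n
  have hcE : Nat.card E = 2 ^ n := GaloisField.card 2 n hn0
  haveI : Finite E := Nat.finite_of_card_ne_zero (by rw [hcE]; positivity)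
  haveI : Fintype E := Fintype.ofFinite E
  haveI : CharP E 2 := inferInstance
  let e1 : RegField.Wrap V ≃+* E := FiniteField.ringEquivOfCardEq (by
    rw [← Nat.card_eq_fintype_card, ← Nat.card_eq_fintype_card, hcW, hcE])
  let e2 : F ≃+* E := FiniteField.ringEquivOfCardEq (by
    rw [← Nat.card_eq_fintype_card, ← Nat.card_eq_fintype_card, hn, hcE])
  -- base point
  obtain ⟨v1, hv1⟩ := η.surjective 1
  obtain ⟨x1, rfl⟩ := QuotientGroup.mk_surjective v1
  have hx1 : x1 ∉ h.Z := by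
    intro hx
    rw [← QuotientGroup.eq_one_iff] at hx
    rw [hx, hη1] at hv1
    exact zero_ne_one hv1
  have hx1' : ι (x1 * x1) ≠ 0 := fun h0 => hx1 (f.inj _ (h.sq_mem hna x1) h0)
  set c0 := ι (x1 * x1) with hc0
  -- squares depend only on the class
  have hsqc : ∀ x y : P, (x : V) = y → x * x = y * y := by
    intro x y hxy
    have h1 : x⁻¹ * y ∈ h.Z := QuotientGroup.eq.1 hxy
    have h2 : y = x * (x⁻¹ * y) := by group
    have h3 := h.central (h.mem_Z.1 h1)
    calc x * x = x * x * ((x⁻¹ * y) * (x⁻¹ * y)) := by rw [h.mem_Z.1 h1, mul_one]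
      _ = x * (x * (x⁻¹ * y)) * (x⁻¹ * y) := by group
      _ = x * ((x⁻¹ * y) * x) * (x⁻¹ * y) := by rw [h3 x]
      _ = y * y := by group
  let α : P → E := fun x => e1 (η (x : V))
  let γ : P → E := fun z => e2 (ι z / c0)
  let Q : E → E := fun v => γ (Quotient.out (η.symm (e1.symm v)) * Quotient.out (η.symm (e1.symm v)))
  have hQ : ∀ x : P, Q (α x) = γ (x * x) := by
    intro x
    change γ (Quotient.out (η.symm (e1.symm (e1 (η (x : V))))) *
      Quotient.out (η.symm (e1.symm (e1 (η (x : V)))))) = γ (x * x)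
    rw [RingEquiv.symm_apply_apply, Equiv.symm_apply_apply]
    rw [hsqc _ x (Quotient.out_eq (x : V))]
  have hα0 : ∀ x, α x = 0 ↔ x ∈ h.Z := by
    intro x
    change e1 (η (x : V)) = 0 ↔ _
    rw [map_eq_zero, ← hη1, η.injective.eq_iff, QuotientGroup.eq_one_iff]
  have hαs : ∀ v, ∃ x, α x = v := by
    intro v
    obtain ⟨x, hx⟩ := QuotientGroup.mk_surjective (η.symm (e1.symm v))
    refine ⟨x, ?_⟩
    change e1 (η (x : V)) = v
    rw [hx, Equiv.apply_symm_apply, RingEquiv.apply_symm_apply]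
  have hαm : ∀ x y, α (x * y) = α x + α y := by
    intro x y
    change e1 (η ((x * y : P) : V)) = e1 (η (x : V)) + e1 (η (y : V))
    rw [QuotientGroup.mk_mul, hηm, map_add]
  have hγm : ∀ z w, z ∈ h.Z → w ∈ h.Z → γ (z * w) = γ z + γ w := by
    intro z w hz hw
    change e2 (ι (z * w) / c0) = e2 (ι z / c0) + e2 (ι w / c0)
    rw [f.add z w hz hw, add_div, map_add]
  have hγ0 : ∀ z ∈ h.Z, γ z = 0 → z = 1 := by
    intro z hz h0
    have h1 := (map_eq_zero e2).1 h0
    exact f.inj z hz ((div_eq_zero_iff.1 h1).resolve_right hx1')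
  have hγs : ∀ v, ∃ z ∈ h.Z, γ z = v := by
    intro v
    obtain ⟨z, hz, hz2⟩ := f.surj (c0 * e2.symm v)
    refine ⟨z, hz, ?_⟩
    change e2 (ι z / c0) = v
    rw [hz2, mul_div_cancel_left₀ _ hx1', RingEquiv.apply_symm_apply]
  -- multiplicativity
  have hαk : ∀ k x, α (φ k x) = e1 (χ' k) * α x := by
    intro k x
    change e1 (η ((φ k x : P) : V)) = e1 (χ' k) * e1 (η (x : V))
    rw [← map_mul, ← hηa, hsm]
  have hγk : ∀ k z, z ∈ h.Z → γ (φ k z) = e2 (χ k) * γ z := by
    intro k z hz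
    change e2 (ι (φ k z) / c0) = e2 (χ k) * e2 (ι z / c0)
    rw [f.act k z hz, ← map_mul, mul_div_assoc]
  have hα1 : α x1 = 1 := by
    change e1 (η (x1 : V)) = 1
    rw [hv1, map_one]
  have hQk : ∀ k v, Q (e1 (χ' k) * v) = e2 (χ k) * Q v := by
    intro k v
    obtain ⟨x, rfl⟩ := hαs v
    rw [← hαk, hQ, hQ, ← map_mul, hγk _ _ (h.sq_mem hna x)]
  have hQ1 : Q 1 = 1 := by
    have h1 := hQ x1
    rw [hα1] at h1
    rw [h1]
    change e2 (ι (x1 * x1) / c0) = 1
    rw [← hc0, div_self hx1', map_one]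
  have hQk1 : ∀ k, Q (e1 (χ' k)) = e2 (χ k) := by
    intro k
    have := hQk k 1
    rwa [mul_one, hQ1, mul_one] at this
  have hQ0 : Q 0 = 0 := by
    have h1 : α 1 = 0 := (hα0 1).2 h.Z.one_mem
    have h2 := hQ 1
    rw [h1] at h2
    rw [h2, one_mul]
    change e2 (ι 1 / c0) = 0
    rw [f.map_one, zero_div, map_zero]
  have hks : ∀ v : E, v ≠ 0 → ∃ k, e1 (χ' k) = v := by
    intro v hv
    obtain ⟨k, hk⟩ := hχs (e1.symm v) (by
      intro h0; exact hv ((map_eq_zero e1.symm).1 h0))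
    exact ⟨k, by rw [hk, RingEquiv.apply_symm_apply]⟩
  have hQm : ∀ x y, Q (x * y) = Q x * Q y := by
    intro x y
    by_cases hx : x = 0
    · rw [hx, zero_mul, hQ0, zero_mul]
    · obtain ⟨k, rfl⟩ := hks x hx
      rw [hQk, hQk1]
  -- the bilinear map
  have hBex : ∃ B : E →+ E →+ E, ∀ x y, Q (x + y) = Q x + Q y + B x y := by
    have hadd : ∀ x y : P, Q (α x + α y) = Q (α x) + Q (α y) + γ ⁅x, y⁆ := by
      intro x y
      rw [← hαm, hQ, hQ, hQ, h.sq_mul hna, hγm _ _ (h.Z.mul_mem (h.sq_mem hna x) (h.sq_mem hna y))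
        (h.comm_mem hna x y), hγm _ _ (h.sq_mem hna x) (h.sq_mem hna y)]
    have hb : ∀ x y : P, Q (α x + α y) - Q (α x) - Q (α y) = γ ⁅x, y⁆ := by
      intro x y; rw [hadd]; ring
    refine ⟨AddMonoidHom.mk' (fun x => AddMonoidHom.mk' (fun y => Q (x + y) - Q x - Q y) ?_) ?_, ?_⟩
    · intro a b
      obtain ⟨x, rfl⟩ := hαs x
      obtain ⟨a, rfl⟩ := hαs a
      obtain ⟨b, rfl⟩ := hαs b
      rw [← hαm a b, hb, hb, hb, h.comm_mul_right hna, hγm _ _ (h.comm_mem hna x a) (h.comm_mem hna x b)]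
    · intro a b
      ext y
      obtain ⟨y, rfl⟩ := hαs y
      obtain ⟨a, rfl⟩ := hαs a
      obtain ⟨b, rfl⟩ := hαs b
      change Q (α a + α b + α y) - Q (α a + α b) - Q (α y) =
        (Q (α a + α y) - Q (α a) - Q (α y)) + (Q (α b + α y) - Q (α b) - Q (α y))
      rw [← hαm a b, hb, hb, hb, h.comm_mul_left hna, hγm _ _ (h.comm_mem hna a y) (h.comm_mem hna b y)]
    · intro x y
      change Q (x + y) = Q x + Q y + (Q (x + y) - Q x - Q y)
      ring
  obtain ⟨B, hB⟩ := hBex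
  have hB0 : B ≠ 0 := by
    intro h0
    obtain ⟨x, y, hxy⟩ := hna
    apply hxy
    rw [← commutatorElement_eq_one_iff_mul_comm]
    apply hγ0 _ (h.comm_mem ⟨x, y, hxy⟩ x y)
    have h1 := hB (α x) (α y)
    rw [h0, ← hαm, hQ, hQ, hQ, h.sq_mul ⟨x, y, hxy⟩,
      hγm _ _ (h.Z.mul_mem (h.sq_mem ⟨x, y, hxy⟩ x) (h.sq_mem ⟨x, y, hxy⟩ y))
        (h.comm_mem ⟨x, y, hxy⟩ x y), hγm _ _ (h.sq_mem ⟨x, y, hxy⟩ x) (h.sq_mem ⟨x, y, hxy⟩ y)] at h1
    have h2 : (0 : E →+ E →+ E) (α x) (α y) = 0 := rfl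
    rw [h2, add_zero] at h1
    exact add_eq_left.1 h1
  have hinj : ∀ v, Q v = 1 → v = 1 := by
    intro v hv
    have hv0 : v ≠ 0 := by
      rintro rfl
      rw [hQ0] at hv
      exact zero_ne_one hv
    obtain ⟨k, rfl⟩ := hks v hv0
    rw [hQk1] at hv
    have h1 : χ k = 1 := by
      apply e2.injective
      rw [hv, map_one]
    have h2 := f.χ_inj h h1
    subst h2
    have h3 := hαk 1 x1
    rw [map_one, hα1, mul_one] at h3
    rw [← h3]
    exact hα1
  obtain ⟨ρ, ψ, hψ1, hψo, hψ⟩ := HigmanQuad.quad_map Q hQm B hB hB0 hinj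
  refine ⟨E, inferInstance, inferInstance, ψ, ?_, hψ1, hψo, ?_⟩
  · rw [← Nat.card_eq_fintype_card, hcE, hn]
  · -- the isomorphism
    have hext : HigmanIso.Ext (fun x => ρ (α x)) γ := by
      refine ⟨?_, ?_, ?_, ?_, ?_, ?_⟩
      · intro x y; rw [hαm, map_add]
      · intro e
        obtain ⟨x, hx⟩ := hαs (ρ.symm e)
        exact ⟨x, by rw [hx, RingEquiv.apply_symm_apply]⟩
      · intro z hz x
        have hz' : z ∈ h.Z := (hα0 z).1 ((map_eq_zero ρ).1 hz)
        exact h.central hz' x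
      · intro z w hz hw
        exact hγm z w ((hα0 z).1 ((map_eq_zero ρ).1 hz)) ((hα0 w).1 ((map_eq_zero ρ).1 hw))
      · intro z hz h0
        exact hγ0 z ((hα0 z).1 ((map_eq_zero ρ).1 hz)) h0
      · intro e
        obtain ⟨z, hz, hz2⟩ := hγs e
        exact ⟨z, by rw [(hα0 z).2 hz, map_zero], hz2⟩
    haveI : Finite (suzukiTypeA E (ψ : E →+* E)) :=
      Finite.of_equiv _ (HigmanTypeA.equiv (ψ : E →+* E)).symm
    refine HigmanIso.exists_iso hext (HigmanTypeA.ext (ψ : E →+* E)) (fun e => CharTwo.add_self_eq_zero e)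
      ?_ ?_
    · intro x x' hxx
      rw [← hQ, hψ, HigmanTypeA.sq, hxx]; rfl
    · rw [HigmanTypeA.card, hcard, hn, hcE]

end Cfsg.Agent.Lib.HigmanBase
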