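import Cfsg.Agent.Lib.HigmanLin
import Cfsg.Agent.Lib.RegField
import Cfsg.Agent.Lib.PGroupOdd

/-!
# 2-groups with a commutative group of automorphisms regular on the involutions (helper6):
basic facts, after G. Higman
-/

set_option autoImplicit false
set_option linter.all false

namespace Cfsg.Agent.Lib.HigmanBase

open Cfsg

universe u v

variable {P : Type u} [Group P] [Finite P] {K : Type v} [CommGroup K]

/-- a finite 2-group with a commutative group of automorphisms regular on the involutions -/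
structure Hyp (φ : K →* MulAut P) : Prop where
  isP : IsPGroup 2 P
  two : ∃ x y : P, x ≠ y ∧ x ≠ 1 ∧ x * x = 1 ∧ y ≠ 1 ∧ y * y = 1
  reg : ∀ x y : P, x ≠ 1 → x * x = 1 → y ≠ 1 → y * y = 1 → ∃! k : K, φ k x = y

theorem exists_invol (hP : IsPGroup 2 P) {x : P} (hx : x ≠ 1) :
    ∃ n : ℕ, x ^ (2 ^ n) ≠ 1 ∧ x ^ (2 ^ n) * x ^ (2 ^ n) = 1 := by
  obtain ⟨m, hm⟩ := IsPGroup.iff_orderOf.1 hP x
  have hm0 : m ≠ 0 := by
    rintro rfl
    rw [pow_zero, orderOf_eq_one_iff] at hm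
    exact hx hm
  obtain ⟨n, rfl⟩ := Nat.exists_eq_succ_of_ne_zero hm0
  refine ⟨n, ?_, ?_⟩
  · intro h
    have := orderOf_dvd_of_pow_eq_one h
    rw [hm] at this
    have h2 := Nat.le_of_dvd (by positivity) this
    have h3 : 2 ^ n < 2 ^ (n + 1) := Nat.pow_lt_pow_right (by norm_num) (Nat.lt_succ_self n)
    omega
  · rw [← pow_add, ← two_mul, ← pow_succ', ← Nat.succ_eq_add_one, ← hm]
    exact pow_orderOf_eq_one x

namespace Hyp

variable {φ : K →* MulAut P} (h : Hyp φ)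

include h

theorem nontriv : Nontrivial P := by
  obtain ⟨x, y, hxy, -⟩ := h.two
  exact ⟨⟨x, y, hxy⟩⟩

theorem exists_central : ∃ z : P, z ≠ 1 ∧ z * z = 1 ∧ ∀ y, z * y = y * z := by
  haveI := h.nontriv
  haveI := h.isP.center_nontrivial
  obtain ⟨z, hz⟩ := exists_ne (1 : Subgroup.center P)
  have hz1 : (z : P) ≠ 1 := fun h => hz (Subtype.ext h)
  obtain ⟨n, hn1, hn2⟩ := exists_invol h.isP hz1
  refine ⟨(z : P) ^ (2 ^ n), hn1, hn2, fun y => ?_⟩
  have := (Subgroup.mem_center_iff.1 ((Subgroup.center P).pow_mem z.2 (2 ^ n))) y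
  exact this.symm

/-- involutions are central -/
theorem central {x : P} (hx : x * x = 1) (y : P) : x * y = y * x := by
  by_cases hx1 : x = 1
  · rw [hx1, one_mul, mul_one]
  obtain ⟨z, hz1, hz2, hz3⟩ := h.exists_central
  obtain ⟨k, hk, -⟩ := h.reg z x hz1 hz2 hx1 hx
  have := congrArg (φ k) (hz3 ((φ k).symm y))
  rw [map_mul, map_mul, hk, MulEquiv.apply_symm_apply] at this
  exact this

/-- the subgroup of elements of order at most two -/
def Z : Subgroup P where
  carrier := {x | x * x = 1}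
  one_mem' := by simp
  mul_mem' := by
    intro a b ha hb
    simp only [Set.mem_setOf_eq] at ha hb ⊢
    calc a * b * (a * b) = a * (b * a) * b := by group
      _ = a * (a * b) * b := by rw [h.central ha b]
      _ = (a * a) * (b * b) := by group
      _ = 1 := by rw [ha, hb, one_mul]
  inv_mem' := by
    intro a ha
    simp only [Set.mem_setOf_eq] at ha ⊢
    rw [← mul_inv_rev, ha, inv_one]

theorem mem_Z {x : P} : x ∈ h.Z ↔ x * x = 1 := Iff.rfl

theorem Z_normal : h.Z.Normal := by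
  constructor
  intro n hn g
  rw [h.mem_Z] at hn ⊢
  rw [← h.central hn g]
  calc n * g * g⁻¹ * (n * g * g⁻¹) = n * n := by group
    _ = 1 := hn

theorem inv_eq {x : P} (hx : x * x = 1) : x⁻¹ = x := inv_eq_of_mul_eq_one_left hx

theorem fpf {k : K} (hk : k ≠ 1) {x : P} (hx : φ k x = x) : x = 1 := by
  by_contra hx1
  obtain ⟨n, hn1, hn2⟩ := exists_invol h.isP hx1
  apply hk
  refine (h.reg _ _ hn1 hn2 hn1 hn2).unique ?_ ?_
  · rw [map_pow, hx]
  · rw [map_one]; rfl

theorem fpf_quot {k : K} (hk : k ≠ 1) {N : Subgroup P} (hN : ∀ x ∈ N, φ k x ∈ N)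
    {x : P} (hx : x⁻¹ * φ k x ∈ N) : x ∈ N := by
  -- the map `n ↦ (x n)⁻¹ φ(x n)` from N to N is injective
  let f : N → N := fun n => ⟨(x * n)⁻¹ * φ k (x * n), by
    rw [map_mul, mul_inv_rev]
    have : (n : P)⁻¹ * x⁻¹ * (φ k x * φ k n) = (n : P)⁻¹ * (x⁻¹ * φ k x) * φ k n := by group
    rw [this]
    exact N.mul_mem (N.mul_mem (N.inv_mem n.2) hx) (hN _ n.2)⟩
  have hf : Function.Injective f := by
    intro a b hab
    have hab' : (x * a)⁻¹ * φ k (x * a) = (x * b)⁻¹ * φ k (x * b) := congrArg Subtype.val hab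
    have h1 : φ k ((x * b) * (x * a)⁻¹) = (x * b) * (x * a)⁻¹ := by
      rw [map_mul, map_inv]
      have h2 : φ k (x * b) = (x * b) * ((x * a)⁻¹ * φ k (x * a)) := by
        rw [hab']; group
      rw [h2]; group
    have h3 := h.fpf hk h1
    have h4 : x * (b : P) = x * a := by
      have := mul_inv_eq_one.1 h3
      exact this
    exact Subtype.ext (mul_left_cancel h4).symm
  obtain ⟨n, hn⟩ := (Finite.injective_iff_surjective.1 hf) 1
  have hn' : (x * n)⁻¹ * φ k (x * n) = 1 := congrArg Subtype.val hn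
  have h5 : φ k (x * n) = x * n := by
    rw [inv_mul_eq_one] at hn'
    exact hn'.symm
  have h6 := h.fpf hk h5
  have : x = (n : P)⁻¹ := eq_inv_of_mul_eq_one_left h6
  rw [this]
  exact N.inv_mem n.2

end Hyp

/-- coordinates on the involutions -/
structure Fld (φ : K →* MulAut P) {F : Type u} [Field F] (ι : P → F) (χ : K → F) : Prop where
  add : ∀ x y : P, x * x = 1 → y * y = 1 → ι (x * y) = ι x + ι y
  inj : ∀ x : P, x * x = 1 → ι x = 0 → x = 1
  surj : ∀ c : F, ∃ x : P, x * x = 1 ∧ ι x = c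
  act : ∀ (k : K) (x : P), x * x = 1 → ι (φ k x) = χ k * ι x
  χ_ne : ∀ k, χ k ≠ 0
  χ_surj : ∀ c : F, c ≠ 0 → ∃ k, χ k = c

theorem Hyp.exists_fld {φ : K →* MulAut P} (h : Hyp φ) :
    ∃ (F : Type u) (_ : Field F) (ι : P → F) (χ : K → F), Finite F ∧ CharP F 2 ∧ Fld φ ι χ := by
  classical
  letI : CommGroup h.Z := { (inferInstance : Group h.Z) with
    mul_comm := fun a b => Subtype.ext (h.central a.2 b) }
  letI : MulDistribMulAction K h.Z :=
    { smul := fun k z => ⟨φ k z, by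
        rw [h.mem_Z, ← map_mul, h.mem_Z.1 z.2, map_one]⟩
      one_smul := fun z => Subtype.ext (by
        change φ 1 (z : P) = z
        rw [map_one]; rfl)
      mul_smul := fun k l z => Subtype.ext (by
        change φ (k * l) (z : P) = φ k (φ l z)
        rw [map_mul]; rfl)
      smul_mul := fun k a b => Subtype.ext (by
        change φ k ((a : P) * b) = φ k a * φ k b
        rw [map_mul])
      smul_one := fun k => Subtype.ext (by
        change φ k ((1 : h.Z) : P) = 1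
        rw [OneMemClass.coe_one, map_one]) }
  have hsmul : ∀ (k : K) (z : h.Z), ((k • z : h.Z) : P) = φ k z := fun k z => rfl
  haveI : Nontrivial h.Z := by
    obtain ⟨x, y, hxy, -, hx, -, hy⟩ := h.two
    exact ⟨⟨⟨x, hx⟩, ⟨y, hy⟩, fun h => hxy (congrArg Subtype.val h)⟩⟩
  have hne1 : ∀ a : h.Z, a ≠ 1 → (a : P) ≠ 1 := fun a ha h => ha (Subtype.ext h)
  obtain ⟨fF, e, χ, he0, headd, hact, hχ0, hχs⟩ := RegField.exists_field (A := h.Z) (D := K) (by
    intro a b ha hb
    obtain ⟨k, hk1, hk2⟩ := h.reg a b (hne1 a ha) a.2 (hne1 b hb) b.2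
    refine ⟨k, Subtype.ext hk1, fun k' hk' => hk2 k' ?_⟩
    exact congrArg Subtype.val hk')
  letI := fF
  haveI : Finite (RegField.Wrap h.Z) := Finite.of_equiv _ e
  refine ⟨RegField.Wrap h.Z, fF, fun x => if hx : x * x = 1 then e ⟨x, hx⟩ else 0, χ,
    inferInstance, ?_, ?_⟩
  · apply CharTwo.of_one_ne_zero_of_two_eq_zero one_ne_zero
    obtain ⟨a, ha⟩ := e.surjective 1
    have h1 : a * a = 1 := Subtype.ext a.2
    have h2 := headd a a
    rw [h1, he0, ha] at h2
    rw [← one_add_one_eq_two]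
    exact h2.symm
  · refine ⟨?_, ?_, ?_, ?_, hχ0, hχs⟩
    · intro x y hx hy
      have hxy : x * y * (x * y) = 1 := h.Z.mul_mem hx hy
      rw [dif_pos hx, dif_pos hy, dif_pos hxy]
      exact headd ⟨x, hx⟩ ⟨y, hy⟩
    · intro x hx h0
      rw [dif_pos hx, ← he0] at h0
      exact congrArg Subtype.val (e.injective h0)
    · intro c
      obtain ⟨a, ha⟩ := e.surjective c
      have ha2 : (a : P) * a = 1 := a.2
      refine ⟨a, ha2, ?_⟩
      rw [dif_pos ha2]
      exact ha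
    · intro k x hx
      have hx' : φ k x * φ k x = 1 := by rw [← map_mul, hx, map_one]
      rw [dif_pos hx, dif_pos hx']
      exact hact k ⟨x, hx⟩

namespace Fld

variable {φ : K →* MulAut P} (h : Hyp φ) {F : Type u} [Field F] {ι : P → F} {χ : K → F}
  (f : Fld φ ι χ)

include f

theorem map_one : ι 1 = 0 := by
  have := f.add 1 1 (one_mul 1) (one_mul 1)
  rw [one_mul] at this
  simpa using this

include h in
theorem inj' {x y : P} (hx : x * x = 1) (hy : y * y = 1) (hxy : ι x = ι y) [CharP F 2] : x = y := by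
  have h1 := f.add x y hx hy
  rw [hxy, CharTwo.add_self_eq_zero] at h1
  have h2 := f.inj _ (h.Z.mul_mem hx hy) h1
  rw [← h.inv_eq hy]
  exact eq_inv_of_mul_eq_one_left h2

theorem χ_one : χ 1 = 1 := by
  obtain ⟨x, hx, hx1⟩ := f.surj 1
  have := f.act 1 x hx
  rw [_root_.map_one, hx1, mul_one] at this
  rw [← this, ← hx1]; rfl

theorem χ_mul (k l : K) : χ (k * l) = χ k * χ l := by
  obtain ⟨x, hx, hx1⟩ := f.surj 1
  have h1 := f.act (k * l) x hx
  have hx' : φ l x * φ l x = 1 := by rw [← map_mul, hx, _root_.map_one]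
  have h2 := f.act k _ hx'
  rw [map_mul, hx1, mul_one] at h1
  rw [f.act l x hx, hx1, mul_one] at h2
  rw [← h1, ← h2]; rfl

theorem χ_inv (k : K) : χ k⁻¹ = (χ k)⁻¹ := by
  have := f.χ_mul k⁻¹ k
  rw [inv_mul_cancel, f.χ_one] at this
  exact eq_inv_of_mul_eq_one_left this.symm

include h in
theorem χ_inj {k : K} (hk : χ k = 1) [CharP F 2] : k = 1 := by
  obtain ⟨x, hx, hx1⟩ := f.surj 1
  have hx0 : x ≠ 1 := by
    rintro rfl
    rw [f.map_one] at hx1
    exact zero_ne_one hx1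
  have h1 := f.act k x hx
  rw [hk, one_mul] at h1
  have hx' : φ k x * φ k x = 1 := by rw [← map_mul, hx, _root_.map_one]
  have h2 := f.inj' h hx' hx h1
  exact (h.reg x x hx0 hx hx0 hx).unique h2 (by rw [_root_.map_one]; rfl)

include h in
/-- there are at least four elements in the field -/
theorem exists_ne [CharP F 2] : ∃ c : F, c ≠ 0 ∧ c ≠ 1 := by
  obtain ⟨x, y, hxy, hx1, hx, hy1, hy⟩ := h.two
  have hx0 : ι x ≠ 0 := fun h0 => hx1 (f.inj x hx h0)
  have hy0 : ι y ≠ 0 := fun h0 => hy1 (f.inj y hy h0)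
  refine ⟨ι x / ι y, div_ne_zero hx0 hy0, fun h0 => hxy ?_⟩
  rw [div_eq_one_iff_eq hy0] at h0
  exact f.inj' h hx hy h0

include h in
theorem exists_k [CharP F 2] : ∃ k : K, k ≠ 1 ∧ χ k ≠ 1 := by
  obtain ⟨c, hc0, hc1⟩ := f.exists_ne h
  obtain ⟨k, hk⟩ := f.χ_surj c hc0
  refine ⟨k, ?_, by rw [hk]; exact hc1⟩
  rintro rfl
  rw [f.χ_one] at hk
  exact hc1 hk.symm

include h in
theorem card_Z [CharP F 2] : Nat.card h.Z = Nat.card F := by
  refine Nat.card_congr (Equiv.ofBijective (fun z : h.Z => ι (z : P)) ⟨?_, ?_⟩)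
  · intro a b hab
    exact Subtype.ext (f.inj' h a.2 b.2 hab)
  · intro c
    obtain ⟨x, hx, hxc⟩ := f.surj c
    exact ⟨⟨x, hx⟩, hxc⟩

include h in
/-- the image of a `K`-invariant homomorphism into `Z` is everything as soon as it is nontrivial -/
theorem surj_of_ne [CharP F 2] {p : P → P} {S : Set P} (hS : ∀ k, ∀ x ∈ S, φ k x ∈ S)
    (hp : ∀ x ∈ S, p x * p x = 1) (hpk : ∀ k, ∀ x ∈ S, p (φ k x) = φ k (p x)) {x₀ : P}
    (h0 : x₀ ∈ S) (h1 : p x₀ ≠ 1) (c : F) (hc : c ≠ 0) : ∃ x ∈ S, ι (p x) = c := by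
  have h2 : ι (p x₀) ≠ 0 := fun h => h1 (f.inj _ (hp x₀ h0) h)
  obtain ⟨k, hk⟩ := f.χ_surj (c / ι (p x₀)) (div_ne_zero hc h2)
  refine ⟨φ k x₀, hS k x₀ h0, ?_⟩
  rw [hpk k x₀ h0, f.act k _ (hp x₀ h0), hk, div_mul_cancel₀ _ h2]

end Fld

end Cfsg.Agent.Lib.HigmanBase
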