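import Cfsg.Agent.Lib.HigmanN

/-!
# Higman's theorem on Suzuki 2-groups (helper6): the centralizer of `N` is abelian
-/

set_option autoImplicit false
set_option linter.all false

namespace Cfsg.Agent.Lib.HigmanBase

open Cfsg
open scoped commutatorElement

universe u v

variable {P : Type u} [Group P] [Finite P] {K : Type v} [CommGroup K]

/-- restriction of an action to an invariant subgroup -/
def restr (φ : K →* MulAut P) (C : Subgroup P) (hC : ∀ k, ∀ c ∈ C, φ k c ∈ C) : K →* MulAut C where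
  toFun k :=
    { toFun := fun c => ⟨φ k c, hC k c c.2⟩
      invFun := fun c => ⟨φ k⁻¹ c, hC k⁻¹ c c.2⟩
      left_inv := fun c => Subtype.ext (by
        change φ k⁻¹ (φ k c) = c
        rw [← MulAut.mul_apply, ← map_mul, inv_mul_cancel, map_one]; rfl)
      right_inv := fun c => Subtype.ext (by
        change φ k (φ k⁻¹ c) = c
        rw [← MulAut.mul_apply, ← map_mul, mul_inv_cancel, map_one]; rfl)
      map_mul' := fun a b => Subtype.ext (by
        change φ k ((a : P) * b) = φ k a * φ k b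
        rw [map_mul]) }
  map_one' := by
    ext c
    change φ 1 (c : P) = c
    rw [map_one]; rfl
  map_mul' := by
    intro k l
    ext c
    change φ (k * l) (c : P) = φ k (φ l c)
    rw [map_mul]; rfl

theorem restr_coe (φ : K →* MulAut P) (C : Subgroup P) (hC : ∀ k, ∀ c ∈ C, φ k c ∈ C) (k : K)
    (c : C) : ((restr φ C hC k c : C) : P) = φ k c := rfl

theorem map_eq_of_inv (φ : K →* MulAut P) (Z : Subgroup P) (hZ : ∀ k, ∀ c ∈ Z, φ k c ∈ Z) (k : K) :
    Z.map (φ k : P →* P) = Z := by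
  ext x
  constructor
  · rintro ⟨y, hy, rfl⟩
    exact hZ k y hy
  · intro hx
    refine ⟨φ k⁻¹ x, hZ k⁻¹ x hx, ?_⟩
    change φ k (φ k⁻¹ x) = x
    rw [← MulAut.mul_apply, ← map_mul, mul_inv_cancel, map_one]; rfl

/-- the action on an invariant quotient -/
def quot (φ : K →* MulAut P) (Z : Subgroup P) [Z.Normal] (hZ : ∀ k, ∀ c ∈ Z, φ k c ∈ Z) :
    K →* MulAut (P ⧸ Z) where
  toFun k := QuotientGroup.congr Z Z (φ k) (map_eq_of_inv φ Z hZ k)
  map_one' := by
    ext x
    induction x using QuotientGroup.induction_on with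
    | H x =>
      rw [QuotientGroup.congr_mk, map_one]; rfl
  map_mul' := by
    intro k l
    ext x
    induction x using QuotientGroup.induction_on with
    | H x =>
      rw [MulAut.mul_apply, QuotientGroup.congr_mk, QuotientGroup.congr_mk, QuotientGroup.congr_mk,
        map_mul]; rfl

theorem quot_mk (φ : K →* MulAut P) (Z : Subgroup P) [Z.Normal] (hZ : ∀ k, ∀ c ∈ Z, φ k c ∈ Z)
    (k : K) (x : P) : quot φ Z hZ k (x : P ⧸ Z) = ((φ k x : P) : P ⧸ Z) :=
  QuotientGroup.congr_mk Z Z (φ k) (map_eq_of_inv φ Z hZ k) x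

/-- the conclusion of Higman's theorem -/
def Concl (P : Type*) [Group P] : Prop := (∀ x y : P, x * y = y * x) ∨ ∀ x : P, x * x * (x * x) = 1

namespace Ctx

variable {φ : K →* MulAut P} {h : Hyp φ} {N : Subgroup P} (c : Ctx h N)

include c

/-- the centralizer of `N` -/
theorem C_inv (k : K) {x : P} (hx : x ∈ Subgroup.centralizer (N : Set P)) :
    φ k x ∈ Subgroup.centralizer (N : Set P) := by
  rw [Subgroup.mem_centralizer_iff] at hx ⊢
  intro n hn
  have := hx _ (c.inv k⁻¹ n hn)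
  have h4 := congrArg (φ k) this
  rw [map_mul, map_mul] at h4
  have h5 : φ k (φ k⁻¹ n) = n := by
    rw [← MulAut.mul_apply, ← map_mul, mul_inv_cancel, map_one]; rfl
  rw [h5] at h4
  exact h4

theorem C_normal : (Subgroup.centralizer (N : Set P)).Normal := by
  haveI := c.normal
  exact Subgroup.normal_centralizer

theorem N_le_C : N ≤ Subgroup.centralizer (N : Set P) := by
  intro n hn
  rw [Subgroup.mem_centralizer_iff]
  intro m hm
  exact c.abel m hm n hn

theorem sq_mem_C (x : P) : x * x ∈ Subgroup.centralizer (N : Set P) := by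
  rw [Subgroup.mem_centralizer_iff]
  intro n hn
  exact (c.sq_comm hn x).symm

variable {F : Type u} [Field F] [CharP F 2] {ι : P → F} {χ : K → F} (f : Fld φ ι χ)

include f

theorem mem_N {x : P} (hx : x ∈ Subgroup.centralizer (N : Set P)) (hx2 : x * x ∈ h.Z) : x ∈ N :=
  c.mem_of_sq f (fun n hn => (Subgroup.mem_centralizer_iff.1 hx n hn).symm) hx2

/-- the quotient `C / Z` satisfies the hypotheses -/
theorem hyp_quot (hC : ∀ k, ∀ x ∈ Subgroup.centralizer (N : Set P),
      φ k x ∈ Subgroup.centralizer (N : Set P))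
    [hn : (h.Z.subgroupOf (Subgroup.centralizer (N : Set P))).Normal]
    (hZ : ∀ k, ∀ x ∈ h.Z.subgroupOf (Subgroup.centralizer (N : Set P)),
      restr φ _ hC k x ∈ h.Z.subgroupOf (Subgroup.centralizer (N : Set P))) :
    Hyp (quot (restr φ _ hC) (h.Z.subgroupOf (Subgroup.centralizer (N : Set P))) hZ) := by
  set C := Subgroup.centralizer (N : Set P) with hCdef
  have hmk1 : ∀ x : C, ((x : C ⧸ h.Z.subgroupOf C) = 1 ↔ (x : P) ∈ h.Z) := by
    intro x
    rw [QuotientGroup.eq_one_iff, Subgroup.mem_subgroupOf]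
  have hsqmk : ∀ x : C, ((x : C ⧸ h.Z.subgroupOf C) * (x : C ⧸ h.Z.subgroupOf C) = 1 ↔
      (x : P) * x ∈ h.Z) := by
    intro x
    rw [← QuotientGroup.mk_mul, hmk1]; rfl
  have hinv : ∀ x : C, (x : P) * x ∈ h.Z → (x : P) ∈ N := fun x hx => c.mem_N f x.2 hx
  refine ⟨(h.isP.to_subgroup C).to_quotient _, ?_, ?_⟩
  · obtain ⟨a, ha0, ha1⟩ := f.exists_ne h
    obtain ⟨n1, hn1, hw1⟩ := c.w_surj f 1
    obtain ⟨n2, hn2, hw2⟩ := c.w_surj f a
    refine ⟨((⟨n1, c.N_le_C hn1⟩ : C) : C ⧸ h.Z.subgroupOf C),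
      ((⟨n2, c.N_le_C hn2⟩ : C) : C ⧸ h.Z.subgroupOf C), ?_, ?_, ?_, ?_, ?_⟩
    · intro he
      rw [QuotientGroup.eq, Subgroup.mem_subgroupOf] at he
      have he' : n1⁻¹ * n2 ∈ h.Z := he
      have hw : ι (n2 * n2) = ι (n1 * n1) := by
        have : n2 = n1 * (n1⁻¹ * n2) := by group
        rw [this, c.w_add f hn1 (c.Zle he'), h.mem_Z.1 he', f.map_one, add_zero]
      rw [hw1, hw2] at hw
      exact ha1 hw
    · intro he
      rw [hmk1] at he
      have he' : n1 * n1 = 1 := he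
      rw [he', f.map_one] at hw1
      exact zero_ne_one hw1
    · rw [hsqmk]; exact c.sq n1 hn1
    · intro he
      rw [hmk1] at he
      have he' : n2 * n2 = 1 := he
      rw [he', f.map_one] at hw2
      exact ha0 hw2.symm
    · rw [hsqmk]; exact c.sq n2 hn2
  · intro x y hx1 hx2 hy1 hy2
    induction x using QuotientGroup.induction_on with
    | H x =>
    induction y using QuotientGroup.induction_on with
    | H y =>
    rw [Ne, hmk1] at hx1 hy1
    rw [hsqmk] at hx2 hy2
    have hxN := hinv x hx2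
    have hyN := hinv y hy2
    have hx0 : ι ((x : P) * x) ≠ 0 := fun h0 => hx1 (c.w_ker f hxN h0)
    have hy0 : ι ((y : P) * y) ≠ 0 := fun h0 => hy1 (c.w_ker f hyN h0)
    have key : ∀ k : K, quot (restr φ _ hC) (h.Z.subgroupOf C) hZ k (x : C ⧸ h.Z.subgroupOf C) =
        (y : C ⧸ h.Z.subgroupOf C) ↔ χ k * ι ((x : P) * x) = ι ((y : P) * y) := by
      intro k
      rw [quot_mk, QuotientGroup.eq, Subgroup.mem_subgroupOf]
      have e : (((restr φ C hC k x)⁻¹ * y : C) : P) = (φ k x)⁻¹ * y := rfl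
      rw [e, ← c.w_act f hxN k]
      have hkx := c.inv k _ hxN
      constructor
      · intro he
        have : (y : P) = φ k x * ((φ k x)⁻¹ * y) := by group
        rw [this, c.w_add f hkx (c.Zle he), h.mem_Z.1 he, f.map_one, add_zero]
      · intro he
        apply c.w_ker f (N.mul_mem (N.inv_mem hkx) hyN)
        have h1 := c.w_add f hkx (N.mul_mem (N.inv_mem hkx) hyN)
        rw [show φ k (x : P) * ((φ k x)⁻¹ * y) = (y : P) by group, he] at h1
        have := h1
        exact (add_eq_left.1 this.symm)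
    obtain ⟨k, hk⟩ := f.χ_surj (ι ((y : P) * y) / ι ((x : P) * x)) (div_ne_zero hy0 hx0)
    refine ⟨k, ?_, fun k' hk' => ?_⟩
    · change quot (restr φ _ hC) (h.Z.subgroupOf C) hZ k (x : C ⧸ h.Z.subgroupOf C) =
        (y : C ⧸ h.Z.subgroupOf C)
      rw [key, hk, div_mul_cancel₀ _ hx0]
    · have h1 := (key k').1 hk'
      have h2 : χ k' = χ k := by
        rw [hk, eq_div_iff hx0, h1]
      have h3 : χ (k' * k⁻¹) = 1 := by
        rw [f.χ_mul, f.χ_inv, h2, mul_inv_cancel₀ (f.χ_ne k)]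
      have h4 := f.χ_inj h h3
      exact mul_inv_eq_one.1 h4

theorem comm_C (IH : ∀ (Q : Type u) [Group Q] [Finite Q] (ψ : K →* MulAut Q),
      Nat.card Q < Nat.card P → Hyp ψ → Concl Q) :
    ∀ a ∈ Subgroup.centralizer (N : Set P), ∀ b ∈ Subgroup.centralizer (N : Set P),
      ⁅a, b⁆ ∈ h.Z := by
  set C := Subgroup.centralizer (N : Set P) with hCdef
  have hC : ∀ k, ∀ x ∈ C, φ k x ∈ C := fun k x hx => c.C_inv k hx
  haveI := h.Z_normal
  haveI hn : (h.Z.subgroupOf C).Normal := inferInstance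
  have hZ : ∀ k, ∀ x ∈ h.Z.subgroupOf C, restr φ _ hC k x ∈ h.Z.subgroupOf C := by
    intro k x hx
    rw [Subgroup.mem_subgroupOf] at hx ⊢
    exact h.Z_inv k hx
  have hy := c.hyp_quot f hC hZ
  have hcard : Nat.card (C ⧸ h.Z.subgroupOf C) < Nat.card P := by
    have h1 := (h.Z.subgroupOf C).card_eq_card_quotient_mul_card_subgroup
    have h2 : Nat.card C ≤ Nat.card P := Nat.card_le_card_of_injective (Subtype.val : C → P)
      Subtype.val_injective
    have h3 : 2 ≤ Nat.card (h.Z.subgroupOf C) := by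
      obtain ⟨x, y, hxy, -, hx, -, hy⟩ := h.two
      have h4 : 1 < Nat.card (h.Z.subgroupOf C) := by
        rw [Finite.one_lt_card_iff_nontrivial]
        have hxC : x ∈ C := c.N_le_C (c.Zle hx)
        have hyC : y ∈ C := c.N_le_C (c.Zle hy)
        refine ⟨⟨⟨⟨x, hxC⟩, hx⟩, ⟨⟨y, hyC⟩, hy⟩, fun he => hxy ?_⟩⟩
        exact congrArg (fun t : h.Z.subgroupOf C => ((t : C) : P)) he
      exact h4
    have h5 : 0 < Nat.card (C ⧸ h.Z.subgroupOf C) := Nat.card_pos
    rw [h1] at h2
    nlinarith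
  have hcon := IH (C ⧸ h.Z.subgroupOf C) _ hcard hy
  intro a ha b hb
  rcases hcon with hab | h4
  · have h1 := hab ((⟨a, ha⟩ : C) : C ⧸ h.Z.subgroupOf C) ((⟨b, hb⟩ : C) : C ⧸ h.Z.subgroupOf C)
    rw [← commutatorElement_eq_one_iff_mul_comm] at h1
    have h2 : ((⁅(⟨a, ha⟩ : C), (⟨b, hb⟩ : C)⁆ : C) : C ⧸ h.Z.subgroupOf C) = 1 := h1
    rw [QuotientGroup.eq_one_iff, Subgroup.mem_subgroupOf] at h2
    exact h2
  · have hsq : ∀ x ∈ C, x * x ∈ N := by
      intro x hx
      apply c.mem_N f (C.mul_mem hx hx)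
      have h1 := h4 ((⟨x, hx⟩ : C) : C ⧸ h.Z.subgroupOf C)
      have h2 : (((⟨x, hx⟩ : C) * ⟨x, hx⟩ * (⟨x, hx⟩ * ⟨x, hx⟩) : C) : C ⧸ h.Z.subgroupOf C) = 1 := h1
      rw [QuotientGroup.eq_one_iff, Subgroup.mem_subgroupOf] at h2
      exact h2
    have hN := c.normal
    have hcomm : ⁅a, b⁆ ∈ N := by
      have : ⁅a, b⁆ = (a * b) * (a * b) * (b⁻¹ * (a * a)⁻¹ * b⁻¹⁻¹) * (b * b)⁻¹ := by
        rw [commutatorElement_def]; group
      rw [this]
      exact N.mul_mem (N.mul_mem (hsq _ (C.mul_mem ha hb))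
        (hN.conj_mem _ (N.inv_mem (hsq a ha)) _)) (N.inv_mem (hsq b hb))
    rw [h.mem_Z]
    have e := comm_eq a b
    set z := ⁅a, b⁆ with hz
    have hza : z * a = a * z := (Subgroup.mem_centralizer_iff.1 ha z hcomm)
    have hab2 : a * a * b = b * (a * a) := (Subgroup.mem_centralizer_iff.1 hb _ (hsq a ha))
    have h5 : a * a * b = z * z * (b * (a * a)) := by
      calc a * a * b = a * (a * b) := by group
        _ = a * (z * (b * a)) := by rw [e]
        _ = (a * z) * b * a := by group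
        _ = (z * a) * b * a := by rw [hza]
        _ = z * (a * b) * a := by group
        _ = z * (z * (b * a)) * a := by rw [e]
        _ = _ := by group
    rw [hab2] at h5
    exact (right_eq_mul.1 h5)

end Ctx

end Cfsg.Agent.Lib.HigmanBase
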