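import Cfsg.Agent.Lib.HigmanThm
import Cfsg.Prelude.Def_LieRecognition

/-!
# Suzuki 2-groups (helper6): consequences of Higman's theorem
-/

set_option autoImplicit false
set_option linter.all false

namespace Cfsg.Agent.Lib.HigmanBase

open Cfsg HigmanLin
open scoped commutatorElement

universe u v

variable {P : Type u} [Group P] [Finite P] {K : Type v} [CommGroup K]

namespace Hyp

variable {φ : K →* MulAut P} (h : Hyp φ) (hna : ∃ x y : P, x * y ≠ y * x)

include h hna

theorem sq_mem (x : P) : x * x ∈ h.Z := by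
  rcases h.main with hab | h4
  · obtain ⟨x, y, hxy⟩ := hna
    exact absurd (hab x y) hxy
  · exact h4 x

theorem comm_mem (x y : P) : ⁅x, y⁆ ∈ h.Z := by
  haveI := h.Z_normal
  have : ⁅x, y⁆ = (x * y) * (x * y) * (y⁻¹ * (x * x)⁻¹ * y⁻¹⁻¹) * (y * y)⁻¹ := by
    rw [commutatorElement_def]; group
  rw [this]
  exact h.Z.mul_mem (h.Z.mul_mem (h.sq_mem hna _)
    (h.Z_normal.conj_mem _ (h.Z.inv_mem (h.sq_mem hna x)) _)) (h.Z.inv_mem (h.sq_mem hna y))

theorem center_eq : Subgroup.center P = h.Z := by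
  apply le_antisymm
  · intro z hz
    rw [Subgroup.mem_center_iff] at hz
    by_contra hz1
    apply hna.elim
    intro x hx
    obtain ⟨y, hxy⟩ := hx
    apply hxy
    -- every element is central
    have hall : ∀ x : P, ∀ y, x * y = y * x := by
      intro x y
      by_cases hx1 : x * x = 1
      · exact h.central hx1 y
      obtain ⟨k, hk, -⟩ := h.reg (z * z) (x * x) hz1 (h.sq_mem hna z) hx1 (h.sq_mem hna x)
      set w := φ k z with hw
      have hw1 : w * w = x * x := by rw [hw, ← map_mul]; exact hk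
      have hwc : ∀ y, y * w = w * y := by
        intro y
        have := congrArg (φ k) (hz ((φ k).symm y))
        rw [map_mul, map_mul, MulEquiv.apply_symm_apply] at this
        exact this
      have h1 : (x * w⁻¹) * (x * w⁻¹) = 1 := by
        have e : w⁻¹ * x = x * w⁻¹ := by
          have := hwc x
          calc w⁻¹ * x = w⁻¹ * (x * w) * w⁻¹ := by group
            _ = w⁻¹ * (w * x) * w⁻¹ := by rw [this]
            _ = x * w⁻¹ := by group
        calc (x * w⁻¹) * (x * w⁻¹) = x * (w⁻¹ * x) * w⁻¹ := by group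
          _ = x * (x * w⁻¹) * w⁻¹ := by rw [e]
          _ = (x * x) * (w * w)⁻¹ := by group
          _ = 1 := by rw [hw1]; group
      have h2 := h.central h1 y
      have h3 := hwc y
      calc x * y = (x * w⁻¹) * (w * y) := by group
        _ = (x * w⁻¹) * (y * w) := by rw [h3]
        _ = ((x * w⁻¹) * y) * w := by group
        _ = (y * (x * w⁻¹)) * w := by rw [h2]
        _ = y * x := by group
    exact hall x y
  · intro z hz
    rw [Subgroup.mem_center_iff]
    intro y
    exact (h.central hz y).symm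

end Hyp

theorem exists_hyp {P : Type u} [Group P] (hP : Cfsg.IsSuzukiTwoGroup P) :
    ∃ (K : Type u) (_ : CommGroup K) (φ : K →* MulAut P), Finite P ∧ IsCyclic K ∧ Hyp φ ∧
      (∃ x y : P, x * y ≠ y * x) := by
  obtain ⟨hfin, hp, hna, htwo, K, hK, hreg⟩ := hP
  haveI := hK
  letI : CommGroup K := IsCyclic.commGroup
  refine ⟨K, inferInstance, K.subtype, hfin, hK, ⟨hp, htwo, ?_⟩, hna⟩
  intro x y hx1 hx hy1 hy
  exact hreg x y hx1 hx hy1 hy

/-- the sign of an additive map to `ZMod 2` -/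
def sg (a : ZMod 2) : ℤ := if a = 0 then 1 else -1

theorem sg_add (a b : ZMod 2) : sg (a + b) = sg a * sg b := by
  revert a b; decide

theorem sg_zero : sg 0 = 1 := rfl

theorem sg_sq (a : ZMod 2) : sg a * sg a = 1 := by
  revert a; decide

/-- sum of a sign over a finite group -/
theorem sum_sg {Q : Type*} [Group Q] [Fintype Q] (l : Q → ZMod 2)
    (hl : ∀ a b, l (a * b) = l a + l b) :
    ∑ x : Q, sg (l x) = 0 ∨ ∑ x : Q, sg (l x) = Fintype.card Q := by
  by_cases h0 : ∀ x, l x = 0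
  · right
    simp [h0, sg_zero]
  · left
    push Not at h0
    obtain ⟨t, ht⟩ := h0
    have h1 : ∑ x : Q, sg (l x) = ∑ x : Q, sg (l (t * x)) :=
      (Equiv.sum_comp (Equiv.mulLeft t) (fun x => sg (l x))).symm
    have h2 : ∀ x, sg (l (t * x)) = - sg (l x) := by
      intro x
      rw [hl, sg_add]
      have : sg (l t) = -1 := if_neg ht
      rw [this]; ring
    simp only [h2, Finset.sum_neg_distrib] at h1
    linarith

namespace Hyp

variable {φ : K →* MulAut P} (h : Hyp φ) (hna : ∃ x y : P, x * y ≠ y * x)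
variable {F : Type u} [Field F] [CharP F 2] {ι : P → F} {χ : K → F} (f : Fld φ ι χ)

include h hna

theorem comm_mul_left (a b x : P) : ⁅a * b, x⁆ = ⁅a, x⁆ * ⁅b, x⁆ := by
  have h1 : ⁅a * b, x⁆ = a * ⁅b, x⁆ * a⁻¹ * ⁅a, x⁆ := by
    simp only [commutatorElement_def]; group
  have h2 := h.central (h.mem_Z.1 (h.comm_mem hna b x))
  rw [h1, ← h2 a]
  have h3 := h2 ⁅a, x⁆
  rw [← h3]; group

theorem comm_mul_right (a b x : P) : ⁅x, a * b⁆ = ⁅x, a⁆ * ⁅x, b⁆ := by
  have h1 : ⁅x, a * b⁆ = ⁅x, a⁆ * (a * ⁅x, b⁆ * a⁻¹) := by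
    simp only [commutatorElement_def]; group
  have h2 := h.central (h.mem_Z.1 (h.comm_mem hna x b)) a
  rw [h1, ← h2]; group

/-- squares of products -/
theorem sq_mul (a b : P) : (a * b) * (a * b) = (a * a) * (b * b) * ⁅a, b⁆ := by
  have h2 := h.central (h.mem_Z.1 (h.comm_mem hna b a))
  have e := comm_eq b a
  have h3 : ⁅b, a⁆ = ⁅a, b⁆ := by
    rw [← commutatorElement_inv]
    exact h.inv_eq (h.comm_mem hna a b)
  calc (a * b) * (a * b) = a * (b * a) * b := by group
    _ = a * (⁅b, a⁆ * (a * b)) * b := by rw [← e]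
    _ = (a * ⁅b, a⁆) * (a * b * b) := by group
    _ = (⁅b, a⁆ * a) * (a * b * b) := by rw [h2 a]
    _ = ⁅b, a⁆ * ((a * a) * (b * b)) := by group
    _ = ((a * a) * (b * b)) * ⁅b, a⁆ := h2 _
    _ = _ := by rw [h3]

include f

/-- the sum of signs squared -/
theorem sum_sq [Fintype P] (ψ : F →+ ZMod 2) :
    (∑ x : P, sg (ψ (ι (x * x)))) = 0 ∨
      ∃ j : ℕ, (∑ x : P, sg (ψ (ι (x * x)))) ^ 2 = 2 ^ j := by
  classical
  -- the radical
  have hβl : ∀ a b x : P, ψ (ι ⁅a * b, x⁆) = ψ (ι ⁅a, x⁆) + ψ (ι ⁅b, x⁆) := by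
    intro a b x
    rw [h.comm_mul_left hna, f.add _ _ (h.comm_mem hna a x) (h.comm_mem hna b x), map_add]
  have hβr : ∀ a b x : P, ψ (ι ⁅x, a * b⁆) = ψ (ι ⁅x, a⁆) + ψ (ι ⁅x, b⁆) := by
    intro a b x
    rw [h.comm_mul_right hna, f.add _ _ (h.comm_mem hna x a) (h.comm_mem hna x b), map_add]
  let R : Subgroup P :=
    { carrier := {u | ∀ v, ψ (ι ⁅v, u⁆) = 0}
      one_mem' := fun v => by rw [commutatorElement_one_right, f.map_one, map_zero]
      mul_mem' := fun {a b} ha hb v => by rw [hβr, ha v, hb v, add_zero]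
      inv_mem' := fun {a} ha v => by
        have := hβr a a⁻¹ v
        rw [mul_inv_cancel, commutatorElement_one_right, f.map_one, map_zero, ha v, zero_add] at this
        exact this.symm }
  have hRmem : ∀ u, u ∈ R ↔ ∀ v, ψ (ι ⁅v, u⁆) = 0 := fun u => Iff.rfl
  have hmul : ∀ u v : P, sg (ψ (ι ((v * u) * (v * u)))) =
      sg (ψ (ι (v * v))) * sg (ψ (ι (u * u))) * sg (ψ (ι ⁅v, u⁆)) := by
    intro u v
    rw [h.sq_mul hna, f.add _ _ (h.Z.mul_mem (h.sq_mem hna v) (h.sq_mem hna u)) (h.comm_mem hna v u),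
      f.add _ _ (h.sq_mem hna v) (h.sq_mem hna u), map_add, map_add, sg_add, sg_add]
  set S := ∑ x : P, sg (ψ (ι (x * x))) with hS
  have hS2 : S ^ 2 = ∑ u : P, sg (ψ (ι (u * u))) * ∑ v : P, sg (ψ (ι ⁅v, u⁆)) := by
    calc S ^ 2 = ∑ v : P, sg (ψ (ι (v * v))) * S := by rw [pow_two, hS, Finset.sum_mul]
      _ = ∑ v : P, sg (ψ (ι (v * v))) * ∑ u : P, sg (ψ (ι ((v * u) * (v * u)))) := by
          refine Finset.sum_congr rfl fun v _ => ?_
          congr 1
          exact (Equiv.sum_comp (Equiv.mulLeft v) (fun x => sg (ψ (ι (x * x))))).symm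
      _ = ∑ v : P, ∑ u : P, sg (ψ (ι (u * u))) * sg (ψ (ι ⁅v, u⁆)) := by
          refine Finset.sum_congr rfl fun v _ => ?_
          rw [Finset.mul_sum]
          refine Finset.sum_congr rfl fun u _ => ?_
          rw [hmul]
          have := sg_sq (ψ (ι (v * v)))
          linear_combination (sg (ψ (ι (u * u))) * sg (ψ (ι ⁅v, u⁆))) * this
      _ = _ := by
          rw [Finset.sum_comm]
          refine Finset.sum_congr rfl fun u _ => ?_
          rw [Finset.mul_sum]
  have hinner : ∀ u : P, ∑ v : P, sg (ψ (ι ⁅v, u⁆)) = if u ∈ R then (Fintype.card P : ℤ) else 0 := by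
    intro u
    by_cases hu : u ∈ R
    · rw [if_pos hu]
      have h0 := (hRmem u).1 hu
      simp [h0, sg_zero]
    · rw [if_neg hu]
      rcases sum_sg (fun v => ψ (ι ⁅v, u⁆)) (fun a b => hβl a b u) with h1 | h1
      · exact h1
      · exfalso
        apply hu
        rw [hRmem]
        intro v
        by_contra hv
        have h2 : ∑ v : P, sg (ψ (ι ⁅v, u⁆)) < ∑ v : P, (1 : ℤ) := by
          apply Finset.sum_lt_sum
          · intro i _
            unfold sg; split_ifs <;> norm_num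
          · refine ⟨v, Finset.mem_univ v, ?_⟩
            rw [sg, if_neg hv]; norm_num
        rw [h1] at h2
        simp at h2
  have hS3 : S ^ 2 = (Fintype.card P : ℤ) * ∑ u : R, sg (ψ (ι ((u : P) * u))) := by
    rw [hS2]
    simp_rw [hinner]
    rw [Finset.mul_sum]
    simp only [mul_ite, mul_zero]
    rw [← Finset.sum_filter]
    rw [← Finset.sum_subtype (Finset.univ.filter (· ∈ R)) (fun x => by simp)
      (fun u : P => (Fintype.card P : ℤ) * sg (ψ (ι (u * u))))]
    refine Finset.sum_congr rfl fun u _ => mul_comm _ _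
  obtain ⟨M, hM⟩ := IsPGroup.iff_card.1 h.isP
  obtain ⟨r, hr⟩ := IsPGroup.iff_card.1 (h.isP.to_subgroup R)
  rcases sum_sg (fun u : R => ψ (ι ((u : P) * u))) (by
    intro a b
    have e : (((a * b : R) : P)) * ((a * b : R) : P) = (a : P) * b * (a * b) := rfl
    rw [e, h.sq_mul hna, f.add _ _ (h.Z.mul_mem (h.sq_mem hna _) (h.sq_mem hna _))
      (h.comm_mem hna _ _), f.add _ _ (h.sq_mem hna _) (h.sq_mem hna _), map_add, map_add,
      (hRmem _).1 b.2 a, add_zero]) with h1 | h1
  · left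
    rw [h1, mul_zero] at hS3
    exact pow_eq_zero_iff (two_ne_zero) |>.1 hS3
  · right
    refine ⟨M + r, ?_⟩
    rw [hS3, h1, ← Nat.card_eq_fintype_card, ← Nat.card_eq_fintype_card, hM, hr, pow_add]
    push_cast
    rfl

end Hyp

end Cfsg.Agent.Lib.HigmanBase
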