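import Cfsg.Agent.Lib.HigmanC

/-!
# Higman's theorem on Suzuki 2-groups (helper6): the centralizer of `N` is abelian
-/

set_option autoImplicit false
set_option linter.all false

namespace Cfsg.Agent.Lib.HigmanBase

open Cfsg
open scoped commutatorElement

universe u v

variable {P : Type u} [Group P] [Finite P] {K : Type v} [CommGroup K]

theorem p4 {G : Type*} [Monoid G] (x : G) : x ^ (2 ^ 2) = x * x * (x * x) := by
  rw [show (2 : ℕ) ^ 2 = 2 + 2 from rfl, pow_add, pow_two]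

namespace Ctx

variable {φ : K →* MulAut P} {h : Hyp φ} {N : Subgroup P} (c : Ctx h N)

include c

/-- a bound on the exponent -/
theorem exists_exp (C : Subgroup P) (hC4 : ∃ x ∈ C, x * x * (x * x) ≠ 1) :
    ∃ m : ℕ, 2 ≤ m ∧ (∀ x ∈ C, x ^ (2 ^ m) * x ^ (2 ^ m) = 1) ∧ ∃ x ∈ C, x ^ (2 ^ m) ≠ 1 := by
  classical
  have hex : ∃ E : ℕ, ∀ x ∈ C, x ^ (2 ^ E) = 1 := by
    obtain ⟨n, hn⟩ := IsPGroup.iff_card.1 h.isP
    refine ⟨n, fun x _ => ?_⟩
    rw [← hn]; exact pow_card_eq_one'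
  set E := Nat.find hex with hE
  have hE1 : ∀ x ∈ C, x ^ (2 ^ E) = 1 := Nat.find_spec hex
  have hE3 : 3 ≤ E := by
    by_contra hlt
    obtain ⟨x, hx, hx4⟩ := hC4
    apply hx4
    have h1 : x ^ (2 ^ 2) = 1 := by
      have : (2 : ℕ) ^ 2 = 2 ^ E * 2 ^ (2 - E) := by rw [← pow_add]; congr 1; omega
      rw [this, pow_mul, hE1 x hx, one_pow]
    rw [← p4, h1]
  obtain ⟨m, hm⟩ : ∃ m, E = m + 1 := ⟨E - 1, by omega⟩
  refine ⟨m, by omega, fun x hx => ?_, ?_⟩
  · rw [← pow_add, ← two_mul, ← pow_succ', ← hm]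
    exact hE1 x hx
  · by_contra hcon
    push Not at hcon
    have := Nat.find_min hex (m := m) (by omega)
    exact this hcon

variable {F : Type u} [Field F] [CharP F 2] {ι : P → F} {χ : K → F} (f : Fld φ ι χ)

include f

/-- surjectivity of the top power map -/
theorem pow_surj {C : Subgroup P} (hC : ∀ k, ∀ x ∈ C, φ k x ∈ C) {m : ℕ}
    (hm : ∀ x ∈ C, x ^ (2 ^ m) * x ^ (2 ^ m) = 1) (hm1 : ∃ x ∈ C, x ^ (2 ^ m) ≠ 1) (v : F) :
    ∃ x ∈ C, ι (x ^ (2 ^ m)) = v := by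
  by_cases hv : v = 0
  · exact ⟨1, C.one_mem, by rw [one_pow, f.map_one, hv]⟩
  · obtain ⟨x, hx, hx1⟩ := hm1
    exact f.surj_of_ne h (p := fun n => n ^ (2 ^ m)) (S := (C : Set P)) (fun k x hx => hC k x hx)
      (fun x hx => hm x hx) (fun k x _ => by rw [map_pow]) hx hx1 v hv

theorem C_comm (IH : ∀ (Q : Type u) [Group Q] [Finite Q] (ψ : K →* MulAut Q),
      Nat.card Q < Nat.card P → Hyp ψ → Concl Q) [Finite F] :
    ∀ a ∈ Subgroup.centralizer (N : Set P), ∀ b ∈ Subgroup.centralizer (N : Set P),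
      a * b = b * a := by
  classical
  haveI : Finite (F ≃+* F) :=
    Finite.of_injective (fun σ : F ≃+* F => (σ : F → F)) DFunLike.coe_injective
  letI : Fintype (F ≃+* F) := Fintype.ofFinite _
  have hcomm := c.comm_C f IH
  set C := Subgroup.centralizer (N : Set P) with hCdef
  have hC : ∀ k, ∀ x ∈ C, φ k x ∈ C := fun k x hx => c.C_inv k hx
  by_cases h4 : ∀ x ∈ C, x * x * (x * x) = 1
  · have hCN : ∀ x ∈ C, x ∈ N := fun x hx => c.mem_N f hx (h4 x hx)
    intro a ha b hb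
    exact c.abel a (hCN a ha) b (hCN b hb)
  push Not at h4
  obtain ⟨m, hm2, hm, hm1⟩ := exists_exp c C h4
  -- squares are central in C
  have hsq : ∀ a ∈ C, ∀ b ∈ C, a * a * b = b * (a * a) := by
    intro a ha b hb
    have h1 : ⁅b, a⁆ ∈ h.Z := hcomm b hb a ha
    exact sq_comm_aux h h1
  -- the power maps
  have hpow : ∀ j, 2 ≤ j → ∀ a ∈ C, ∀ b ∈ C, (a * b) ^ (2 ^ j) = a ^ (2 ^ j) * b ^ (2 ^ j) := by
    intro j hj
    induction j, hj using Nat.le_induction with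
    | base =>
      intro a ha b hb
      have e := comm_eq b a
      set z := ⁅b, a⁆ with hz
      have hzZ : z * z = 1 := hcomm b hb a ha
      have hzc := h.central hzZ
      have e2 : (a * b) * (a * b) = z * ((a * a) * (b * b)) := by
        calc (a * b) * (a * b) = a * (b * a) * b := by group
          _ = a * (z * (a * b)) * b := by rw [e]
          _ = (a * z) * (a * b * b) := by group
          _ = (z * a) * (a * b * b) := by rw [hzc a]
          _ = _ := by group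
      have e3 : (a * a) * (b * b) = (b * b) * (a * a) := hsq a ha _ (C.mul_mem hb hb)
      rw [p4, p4, p4]
      calc (a * b) * (a * b) * ((a * b) * (a * b)) = (z * ((a * a) * (b * b))) * (z * ((a * a) * (b * b))) := by rw [e2]
        _ = z * (((a * a) * (b * b)) * z) * ((a * a) * (b * b)) := by group
        _ = z * (z * ((a * a) * (b * b))) * ((a * a) * (b * b)) := by rw [← hzc]
        _ = (z * z) * ((a * a) * ((b * b) * (a * a)) * (b * b)) := by group
        _ = (a * a) * ((a * a) * (b * b)) * (b * b) := by rw [hzZ, one_mul, e3]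
        _ = (a * a) * (a * a) * ((b * b) * (b * b)) := by group
    | succ j hj ih =>
      intro a ha b hb
      have hbj : b ^ (2 ^ j) * a ^ (2 ^ j) = a ^ (2 ^ j) * b ^ (2 ^ j) := by
        obtain ⟨i, rfl⟩ : ∃ i, j = i + 1 := ⟨j - 1, by omega⟩
        have : ∀ x : P, x ^ (2 ^ (i + 1)) = x ^ (2 ^ i) * x ^ (2 ^ i) := by
          intro x
          rw [← pow_add, ← two_mul, ← pow_succ']
        rw [this b]
        exact hsq _ (C.pow_mem hb _) _ (C.pow_mem ha _)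
      have : ∀ x : P, x ^ (2 ^ (j + 1)) = x ^ (2 ^ j) * x ^ (2 ^ j) := by
        intro x
        rw [← pow_add, ← two_mul, ← pow_succ']
      rw [this, this, this, ih a ha b hb]
      calc a ^ (2 ^ j) * b ^ (2 ^ j) * (a ^ (2 ^ j) * b ^ (2 ^ j)) =
          a ^ (2 ^ j) * (b ^ (2 ^ j) * a ^ (2 ^ j)) * b ^ (2 ^ j) := by group
        _ = a ^ (2 ^ j) * (a ^ (2 ^ j) * b ^ (2 ^ j)) * b ^ (2 ^ j) := by rw [hbj]
        _ = _ := by group
  have hsurj := c.pow_surj f hC hm hm1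
  -- small powers in Z implies central
  have hsucc : ∀ (x : P) (j : ℕ), x ^ (2 ^ (j + 1)) = x ^ (2 ^ j) * x ^ (2 ^ j) := by
    intro x j
    rw [← pow_add, ← two_mul, ← pow_succ']
  have hcen : ∀ j, j + 1 ≤ m → ∀ a ∈ C, a ^ (2 ^ j) ∈ h.Z → ∀ b ∈ C, a * b = b * a := by
    intro j
    induction j with
    | zero =>
      intro _ a ha haZ b hb
      rw [pow_zero, pow_one] at haZ
      exact h.central haZ b
    | succ j ih =>
      intro hj a ha haZ b hb
      obtain ⟨d, hd, hd2⟩ := hsurj (ι (a ^ (2 ^ (j + 1))))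
      have h1 := f.inj' h (hm d hd) haZ hd2
      obtain ⟨i, hi⟩ : ∃ i, m = i + 1 + (j + 1) := ⟨m - 1 - (j + 1), by omega⟩
      set e := d ^ (2 ^ (i + 1)) with he
      have he1 : e ^ (2 ^ (j + 1)) = a ^ (2 ^ (j + 1)) := by
        rw [he, ← pow_mul, ← pow_add, ← hi, h1]
      have heC : e ∈ C := C.pow_mem hd _
      have hec : ∀ x ∈ C, e * x = x * e := by
        intro x hx
        rw [he, hsucc]
        exact hsq _ (C.pow_mem hd _) x hx
      have hcm : Commute a e⁻¹ := by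
        apply Commute.inv_right
        exact (hec a ha).symm
      have h2 : (a * e⁻¹) ^ (2 ^ (j + 1)) = 1 := by
        rw [hcm.mul_pow, inv_pow, he1, mul_inv_cancel]
      have h3 : (a * e⁻¹) ^ (2 ^ j) ∈ h.Z := by
        rw [h.mem_Z, ← hsucc, h2]
      have h4 := ih (by omega) (a * e⁻¹) (C.mul_mem ha (C.inv_mem heC)) h3 b hb
      have h5 := hec b hb
      calc a * b = (a * e⁻¹) * (e * b) := by group
        _ = (a * e⁻¹) * (b * e) := by rw [h5]
        _ = ((a * e⁻¹) * b) * e := by group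
        _ = (b * (a * e⁻¹)) * e := by rw [h4]
        _ = b * a := by group
  have hker : ∀ a ∈ C, ι (a ^ (2 ^ m)) = 0 → ∀ b ∈ C, a * b = b * a := by
    intro a ha h0
    obtain ⟨i, rfl⟩ : ∃ i, m = i + 1 := ⟨m - 1, by omega⟩
    apply hcen i (by omega) a ha
    rw [h.mem_Z, ← hsucc]
    exact f.inj _ (hm a ha) h0
  have hπadd : ∀ a ∈ C, ∀ b ∈ C, ι ((a * b) ^ (2 ^ m)) = ι (a ^ (2 ^ m)) + ι (b ^ (2 ^ m)) := by
    intro a ha b hb
    rw [hpow m hm2 a ha b hb]
    exact f.add _ _ (hm a ha) (hm b hb)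
  have hcm1 : ∀ a ∈ C, ∀ b ∈ C, ∀ x ∈ C, ⁅x, a * b⁆ = ⁅x, a⁆ * ⁅x, b⁆ := by
    intro a ha b hb x hx
    have h1 : ⁅x, a * b⁆ = ⁅x, a⁆ * (a * ⁅x, b⁆ * a⁻¹) := by
      simp only [commutatorElement_def]; group
    have h2 := h.central (h.mem_Z.1 (hcomm x hx b hb)) a
    rw [h1, ← h2]; group
  have hcm2 : ∀ a ∈ C, ∀ b ∈ C, ∀ x ∈ C, ⁅a * b, x⁆ = ⁅a, x⁆ * ⁅b, x⁆ := by
    intro a ha b hb x hx
    have h1 : ⁅a * b, x⁆ = a * ⁅b, x⁆ * a⁻¹ * ⁅a, x⁆ := by
      simp only [commutatorElement_def]; group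
    have h2 := h.central (h.mem_Z.1 (hcomm b hb x hx))
    rw [h1, ← h2 a]
    have h3 := h2 ⁅a, x⁆
    rw [← h3]; group
  have hone : ∀ a b : P, a * b = b * a → ι ⁅a, b⁆ = 0 := by
    intro a b hab
    rw [commutatorElement_eq_one_iff_mul_comm.2 hab, f.map_one]
  -- the pairings
  let S : AddSubgroup (F →+ F) :=
    { carrier := {b | ∃ x ∈ C, ∀ d ∈ C, b (ι (d ^ (2 ^ m))) = ι ⁅x, d⁆}
      zero_mem' := ⟨1, C.one_mem, fun d hd => by
        rw [commutatorElement_one_left, f.map_one]; rfl⟩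
      add_mem' := by
        rintro a b ⟨x, hxC, hx⟩ ⟨y, hyC, hy⟩
        refine ⟨x * y, C.mul_mem hxC hyC, fun d hd => ?_⟩
        rw [hcm2 x hxC y hyC d hd, f.add _ _ (hcomm x hxC d hd) (hcomm y hyC d hd),
          AddMonoidHom.add_apply, hx d hd, hy d hd]
      neg_mem' := by
        rintro a ⟨x, hxC, hx⟩
        refine ⟨x, hxC, fun d hd => ?_⟩
        rw [AddMonoidHom.neg_apply, CharTwo.neg_eq, hx d hd] }
  have hSmem : ∀ b, b ∈ S ↔ ∃ x ∈ C, ∀ d ∈ C, b (ι (d ^ (2 ^ m))) = ι ⁅x, d⁆ := fun b => Iff.rfl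
  have hb0 : ∀ b : F →+ F, ∀ x ∈ C, (∀ d ∈ C, b (ι (d ^ (2 ^ m))) = ι ⁅x, d⁆) →
      (∀ d ∈ C, x * d = d * x) → b = 0 := by
    intro b x hx hb hxc
    ext v
    obtain ⟨d, hd, rfl⟩ := hsurj v
    rw [hb d hd, hone x d (hxc d hd)]; rfl
  have hconj : ∀ b : F →+ F, ∀ x ∈ C, (∀ d ∈ C, b (ι (d ^ (2 ^ m))) = ι ⁅x, d⁆) → ∀ k : K,
      ∀ d ∈ C, HigmanLin.cj (χ k) b (ι (d ^ (2 ^ m))) = ι ⁅φ k x, d⁆ := by
    intro b x hx hb k d hd
    have h5 : φ k (φ k⁻¹ d) = d := by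
      rw [← MulAut.mul_apply, ← map_mul, mul_inv_cancel, map_one]; rfl
    rw [HigmanLin.cj_apply, ← f.χ_inv, ← f.act k⁻¹ _ (hm d hd), map_pow, hb _ (hC k⁻¹ d hd),
      ← f.act k _ (hcomm x hx _ (hC k⁻¹ d hd)), map_commutatorElement, h5]
  have hmono := HigmanLin.mono S (by
    rintro κ hκ b ⟨x, hxC, hx⟩
    obtain ⟨k, rfl⟩ := f.χ_surj κ hκ
    exact ⟨φ k x, hC k x hxC, hconj b x hxC hx k⟩) (by
    rintro κ hκ hκ1 b ⟨x, hxC, hx⟩ he
    obtain ⟨k, rfl⟩ := f.χ_surj κ hκ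
    have h1 := hconj b x hxC hx k
    rw [he] at h1
    have hk1 : k ≠ 1 := by
      rintro rfl
      exact hκ1 f.χ_one
    have hkx := hC k x hxC
    -- x⁻¹ φ k x is central in C
    have h2 : ∀ d ∈ C, (x⁻¹ * φ k x) * d = d * (x⁻¹ * φ k x) := by
      intro d hd
      have h3 : ⁅x, d⁆ = ⁅φ k x, d⁆ := by
        apply f.inj' h (hcomm x hxC d hd) (hcomm _ hkx d hd)
        rw [← hx d hd, ← h1 d hd]
      have h4 : ⁅x⁻¹ * φ k x, d⁆ = 1 := by
        have h5 := hcm2 x hxC _ (C.mul_mem (C.inv_mem hxC) hkx) d hd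
        rw [show x * (x⁻¹ * φ k x) = φ k x by group, ← h3] at h5
        exact (left_eq_mul.1 h5)
      exact commutatorElement_eq_one_iff_mul_comm.1 h4
    let ZC : Subgroup P := C ⊓ Subgroup.centralizer (C : Set P)
    have h6 : x ∈ ZC := by
      apply h.fpf_quot hk1 (N := ZC)
      · intro y hy
        refine ⟨hC k y hy.1, Subgroup.mem_centralizer_iff.2 fun d hd => ?_⟩
        have h7 := (Subgroup.mem_centralizer_iff.1 hy.2) _ (hC k⁻¹ d hd)
        have h8 := congrArg (φ k) h7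
        have h9 : φ k (φ k⁻¹ d) = d := by
          rw [← MulAut.mul_apply, ← map_mul, mul_inv_cancel, map_one]; rfl
        rw [map_mul, map_mul, h9] at h8
        exact h8
      · refine ⟨C.mul_mem (C.inv_mem hxC) hkx, Subgroup.mem_centralizer_iff.2 fun d hd => ?_⟩
        exact (h2 d hd).symm
    exact hb0 b x hxC hx fun d hd => ((Subgroup.mem_centralizer_iff.1 h6.2) d hd).symm)
  -- all pairings vanish
  have hS0 : ∀ b ∈ S, b = 0 := by
    intro b hb
    obtain ⟨co, hco, hcoS⟩ := hmono b hb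
    by_contra hb0'
    have : ∃ σ, co σ ≠ 0 := by
      by_contra hall
      push Not at hall
      apply hb0'
      ext v
      rw [hco]
      simp [hall]
    obtain ⟨σ, hσ⟩ := this
    obtain ⟨x, hxC, hx⟩ := hcoS σ hσ 1
    have h1 := hx x hxC
    rw [commutatorElement_self, f.map_one, HigmanLin.mon_apply, one_mul] at h1
    have h2 : ι (x ^ (2 ^ m)) = 0 := (map_eq_zero σ).1 h1
    have h3 := hb0 _ x hxC hx (hker x hxC h2)
    have h4 := DFunLike.congr_fun h3 (1 : F)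
    rw [HigmanLin.mon_apply, map_one, one_mul] at h4
    exact one_ne_zero h4
  intro a ha b hb
  obtain ⟨bb, hbb⟩ := lift C (fun d => ι (d ^ (2 ^ m))) (fun d => ι ⁅a, d⁆) hπadd (by
    intro d hd e he
    rw [hcm1 d hd e he a ha]
    exact f.add _ _ (hcomm a ha d hd) (hcomm a ha e he)) hsurj (by
    intro d hd h0
    exact hone a d (hker d hd h0 a ha).symm)
  have h1 : bb = 0 := hS0 bb ⟨a, ha, hbb⟩
  have h2 := hbb b hb
  rw [h1] at h2
  have h3 : ⁅a, b⁆ = 1 := f.inj _ (hcomm a ha b hb) h2.symm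
  exact commutatorElement_eq_one_iff_mul_comm.1 h3

end Ctx

end Cfsg.Agent.Lib.HigmanBase
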