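import Mathlib

/-!
# Central extensions with the same squaring map (helper6)
-/

set_option autoImplicit false
set_option linter.all false

namespace Cfsg.Agent.Lib.HigmanIso

open scoped commutatorElement

/-- a finite group with an additive map to `E` whose kernel is central and identified with `E'` -/
structure Ext {P : Type*} [Group P] {E E' : Type*} [AddCommGroup E] [AddCommGroup E'] (α : P → E)
    (γ : P → E') : Prop where
  map_mul : ∀ x y, α (x * y) = α x + α y
  surj : ∀ e, ∃ x, α x = e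
  cen : ∀ z, α z = 0 → ∀ x, z * x = x * z
  mul : ∀ z w, α z = 0 → α w = 0 → γ (z * w) = γ z + γ w
  inj : ∀ z, α z = 0 → γ z = 0 → z = 1
  surj' : ∀ e, ∃ z, α z = 0 ∧ γ z = e

variable {P P' : Type*} [Group P] [Group P'] {E E' : Type*} [AddCommGroup E] [AddCommGroup E']
  {α : P → E} {γ : P → E'} {α' : P' → E} {γ' : P' → E'}

namespace Ext

variable (h : Ext α γ)

include h

theorem map_one : α 1 = 0 := by
  have := h.map_mul 1 1
  rw [one_mul] at this
  simpa using this

theorem map_inv (x : P) : α x⁻¹ = - α x := by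
  have := h.map_mul x⁻¹ x
  rw [inv_mul_cancel, h.map_one] at this
  exact eq_neg_of_add_eq_zero_left this.symm

theorem one : γ 1 = 0 := by
  have := h.mul 1 1 h.map_one h.map_one
  rw [one_mul] at this
  simpa using this

theorem inv (z : P) (hz : α z = 0) : γ z⁻¹ = - γ z := by
  have := h.mul z⁻¹ z (by rw [h.map_inv, hz, neg_zero]) hz
  rw [inv_mul_cancel, h.one] at this
  exact eq_neg_of_add_eq_zero_left this.symm

/-- `[x,y]` in terms of squares -/
theorem comm_mem (h2 : ∀ e : E, e + e = 0) (x y : P) : α ⁅x, y⁆ = 0 := by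
  rw [commutatorElement_def, h.map_mul, h.map_mul, h.map_mul, h.map_inv, h.map_inv]
  abel

theorem γ_comm (h2 : ∀ e : E, e + e = 0) (x y : P) :
    γ ⁅x, y⁆ = γ ((x * y) * (x * y)) - γ (x * x) - γ (y * y) := by
  have hsq : ∀ x, α (x * x) = 0 := fun x => by rw [h.map_mul, h2]
  have h3 : (x * y) * (x * y) = ⁅x, y⁆ * ((y * y) * (x * x)) := by
    have h4 : ⁅x, y⁆ * ((y * y) * (x * x)) = x * y * (x⁻¹ * (y * (x * x))) := by
      rw [commutatorElement_def]; group
    have h5 : y * (x * x) = (x * x) * y := (h.cen _ (hsq x) y).symm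
    rw [h4, h5]; group
  have h6 : γ ((x * y) * (x * y)) = γ ⁅x, y⁆ + (γ (y * y) + γ (x * x)) := by
    rw [h3, h.mul _ _ (h.comm_mem h2 x y) (by rw [h.map_mul, hsq, hsq, add_zero]),
      h.mul _ _ (hsq y) (hsq x)]
  rw [h6]; abel

end Ext

theorem exists_graph [Finite P] [Finite P'] (h : Ext α γ) (h' : Ext α' γ')
    (h2 : ∀ e : E, e + e = 0)
    (hsq : ∀ (x : P) (x' : P'), α x = α' x' → γ (x * x) = γ' (x' * x')) :
    ∃ M : Subgroup (P × P'), (∀ m ∈ M, α m.1 = α' m.2) ∧
      (∀ m ∈ M, α m.1 = 0 → γ m.1 = γ' m.2) ∧ ∀ p : P, ∃ p', (p, p') ∈ M := by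
  classical
  let D0 : Subgroup (P × P') :=
    { carrier := {m | α m.1 = 0 ∧ α' m.2 = 0 ∧ γ m.1 = γ' m.2}
      one_mem' := ⟨h.map_one, h'.map_one, by
        change γ 1 = γ' 1
        rw [h.one, h'.one]⟩
      mul_mem' := by
        rintro a b ⟨ha1, ha2, ha3⟩ ⟨hb1, hb2, hb3⟩
        refine ⟨?_, ?_, ?_⟩
        · change α (a.1 * b.1) = 0
          rw [h.map_mul, ha1, hb1, add_zero]
        · change α' (a.2 * b.2) = 0
          rw [h'.map_mul, ha2, hb2, add_zero]
        · change γ (a.1 * b.1) = γ' (a.2 * b.2)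
          rw [h.mul _ _ ha1 hb1, h'.mul _ _ ha2 hb2, ha3, hb3]
      inv_mem' := by
        rintro a ⟨ha1, ha2, ha3⟩
        refine ⟨?_, ?_, ?_⟩
        · change α (a.1⁻¹) = 0
          rw [h.map_inv, ha1, neg_zero]
        · change α' (a.2⁻¹) = 0
          rw [h'.map_inv, ha2, neg_zero]
        · change γ (a.1⁻¹) = γ' (a.2⁻¹)
          rw [h.inv _ ha1, h'.inv _ ha2, ha3] }
  have hD0 : ∀ m, m ∈ D0 ↔ α m.1 = 0 ∧ α' m.2 = 0 ∧ γ m.1 = γ' m.2 := fun m => Iff.rfl
  let good : Subgroup (P × P') → Prop := fun M => D0 ≤ M ∧ (∀ m ∈ M, α m.1 = α' m.2) ∧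
    (∀ m ∈ M, α m.1 = 0 → γ m.1 = γ' m.2)
  have hg0 : good D0 := ⟨le_rfl, fun m hm => by rw [((hD0 m).1 hm).1, ((hD0 m).1 hm).2.1],
    fun m hm _ => ((hD0 m).1 hm).2.2⟩
  obtain ⟨M, hM⟩ := (Set.toFinite {M | good M}).exists_maximal ⟨D0, hg0⟩
  have hMg : good M := hM.1
  refine ⟨M, hMg.2.1, hMg.2.2, ?_⟩
  intro p0
  by_contra hno
  push Not at hno
  obtain ⟨p1, hp1⟩ := h'.surj (α p0)
  set d : P × P' := (p0, p1) with hd
  have hdd : d * d ∈ M := by
    apply hMg.1
    rw [hD0]
    refine ⟨?_, ?_, ?_⟩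
    · change α (p0 * p0) = 0
      rw [h.map_mul, h2]
    · change α' (p1 * p1) = 0
      rw [h'.map_mul, h2]
    · exact hsq p0 p1 hp1.symm
  have hcomm : ∀ m ∈ M, d * m * d⁻¹ ∈ M := by
    intro m hm
    have hma := hMg.2.1 m hm
    have h1 : ⁅d, m⁆ ∈ D0 := by
      rw [hD0]
      refine ⟨h.comm_mem h2 p0 m.1, h'.comm_mem h2 p1 m.2, ?_⟩
      change γ ⁅p0, m.1⁆ = γ' ⁅p1, m.2⁆
      rw [h.γ_comm h2, h'.γ_comm h2, hsq p0 p1 hp1.symm, hsq m.1 m.2 hma,
        hsq (p0 * m.1) (p1 * m.2) (by rw [h.map_mul, h'.map_mul, hp1, hma])]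
    have h3 : d * m * d⁻¹ = ⁅d, m⁆ * m := by rw [commutatorElement_def]; group
    rw [h3]
    exact M.mul_mem (hMg.1 h1) hm
  have hcomm' : ∀ m ∈ M, d⁻¹ * m * d ∈ M := by
    intro m hm
    have h1 := hcomm m hm
    have h3 : d⁻¹ * m * d = (d * d)⁻¹ * (d * m * d⁻¹) * (d * d) := by group
    rw [h3]
    exact M.mul_mem (M.mul_mem (M.inv_mem hdd) h1) hdd
  let M' : Subgroup (P × P') :=
    { carrier := {x | x ∈ M ∨ x * d ∈ M}
      one_mem' := Or.inl M.one_mem
      mul_mem' := by
        rintro a b (ha | ha) (hb | hb)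
        · exact Or.inl (M.mul_mem ha hb)
        · right; rw [mul_assoc]; exact M.mul_mem ha hb
        · right
          have : a * b * d = (a * d) * (d⁻¹ * b * d) := by group
          rw [this]
          exact M.mul_mem ha (hcomm' b hb)
        · left
          have : a * b = (a * d) * (d⁻¹ * (b * d) * d) * (d * d)⁻¹ := by group
          rw [this]
          exact M.mul_mem (M.mul_mem ha (hcomm' _ hb)) (M.inv_mem hdd)
      inv_mem' := by
        rintro a (ha | ha)
        · exact Or.inl (M.inv_mem ha)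
        · right
          have : a⁻¹ * d = (d * (a * d)⁻¹ * d⁻¹) * (d * d) := by group
          rw [this]
          exact M.mul_mem (hcomm _ (M.inv_mem ha)) hdd }
  have hM'mem : ∀ x, x ∈ M' ↔ x ∈ M ∨ x * d ∈ M := fun x => Iff.rfl
  have hMM' : M ≤ M' := fun x hx => Or.inl hx
  have hdM' : d ∈ M' := Or.inr hdd
  have hdM : d ∉ M := hno p1
  have hαd : ∀ x, x * d ∈ M → α x.1 = α' x.2 := by
    intro x hx
    have h1 := hMg.2.1 _ hx
    change α (x.1 * p0) = α' (x.2 * p1) at h1
    rw [h.map_mul, h'.map_mul, hp1] at h1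
    exact add_right_cancel h1
  have hgM' : good M' := by
    refine ⟨hMg.1.trans hMM', ?_, ?_⟩
    · rintro x (hx | hx)
      · exact hMg.2.1 x hx
      · exact hαd x hx
    · rintro x (hx | hx) h0
      · exact hMg.2.2 x hx h0
      · exfalso
        -- x.1 is central in the kernel
        obtain ⟨w, hw1, hw2⟩ := h'.surj' (γ x.1⁻¹)
        have hz : (x.1⁻¹, w) ∈ M := by
          apply hMg.1
          rw [hD0]
          exact ⟨by rw [h.map_inv, h0, neg_zero], hw1, hw2.symm⟩
        have := M.mul_mem hz hx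
        have e : ((x.1⁻¹, w) * (x * d) : P × P') = (p0, w * (x.2 * p1)) := by
          ext
          · change x.1⁻¹ * (x.1 * p0) = p0
            group
          · rfl
        rw [e] at this
        exact hno _ this
  exact hdM (hM.2 hgM' hMM' hdM')

theorem exists_iso [Finite P] [Finite P'] (h : Ext α γ) (h' : Ext α' γ')
    (h2 : ∀ e : E, e + e = 0)
    (hsq : ∀ (x : P) (x' : P'), α x = α' x' → γ (x * x) = γ' (x' * x'))
    (hcard : Nat.card P = Nat.card P') : Nonempty (P ≃* P') := by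
  classical
  obtain ⟨M, hM1, hM2, hM3⟩ := exists_graph h h' h2 hsq
  choose g hg using hM3
  have huniq : ∀ p a b, (p, a) ∈ M → (p, b) ∈ M → a = b := by
    intro p a b ha hb
    have h1 : ((p, a)⁻¹ * (p, b) : P × P') ∈ M := M.mul_mem (M.inv_mem ha) hb
    have e : ((p, a)⁻¹ * (p, b) : P × P') = (1, a⁻¹ * b) := by
      ext
      · change p⁻¹ * p = 1; group
      · rfl
    rw [e] at h1
    have h3 := hM1 _ h1
    have h4 := hM2 _ h1 h.map_one
    change α 1 = α' (a⁻¹ * b) at h3
    change γ 1 = γ' (a⁻¹ * b) at h4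
    rw [h.map_one] at h3
    rw [h.one] at h4
    have := h'.inj _ h3.symm h4.symm
    exact (inv_mul_eq_one.1 this)
  let F : P →* P' :=
    { toFun := g
      map_one' := huniq 1 _ _ (hg 1) M.one_mem
      map_mul' := fun a b => huniq (a * b) _ _ (hg (a * b)) (M.mul_mem (hg a) (hg b)) }
  have hinj : Function.Injective F := by
    rw [injective_iff_map_eq_one]
    intro p hp
    have hp' : g p = 1 := hp
    have h1 := hg p
    rw [hp'] at h1
    have h3 := hM1 _ h1
    change α p = α' 1 at h3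
    rw [h'.map_one] at h3
    have h4 := hM2 _ h1 h3
    change γ p = γ' 1 at h4
    rw [h'.one] at h4
    exact h.inj p h3 h4
  haveI : Fintype P := Fintype.ofFinite P
  haveI : Fintype P' := Fintype.ofFinite P'
  have hbij : Function.Bijective F := by
    rw [Fintype.bijective_iff_injective_and_card]
    rw [Nat.card_eq_fintype_card, Nat.card_eq_fintype_card] at hcard
    exact ⟨hinj, hcard⟩
  exact ⟨MulEquiv.ofBijective F hbij⟩

end Cfsg.Agent.Lib.HigmanIso
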