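import Cfsg.Agent.S1140

/-!
# Additive maps of a finite field of characteristic two and the action of the multiplicative
group by conjugation (helper6)
-/

set_option autoImplicit false
set_option linter.all false
set_option linter.unusedSectionVars false
set_option linter.style.haveILetI false

namespace Cfsg.Agent.Lib.HigmanLin

open Cfsg

section

variable {F : Type*} [Field F] [Finite F] [CharP F 2]

theorem indep [Fintype (F ≃+* F)] (c : (F ≃+* F) → F) (h : ∀ x : F, ∑ σ : F ≃+* F, c σ * σ x = 0) :
    c = 0 := by
  have h1 := S1140.linInd F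
  rw [Fintype.linearIndependent_iff] at h1
  funext σ
  refine h1 c ?_ σ
  funext x
  have := h x
  simpa [Finset.sum_apply] using this

theorem two_zero : (1 : F) + 1 = 0 := by
  have := CharTwo.add_self_eq_zero (1 : F)
  exact this

/-- the basic functional equation -/
theorem four_aut (ρ τ σ : F ≃+* F) (h : ∀ κ : F, ρ κ * τ κ = κ * ρ (σ κ)) : σ = τ := by
  classical
  haveI : Finite (F ≃+* F) :=
    Finite.of_injective (fun σ : F ≃+* F => (σ : F → F)) DFunLike.coe_injective
  letI : Fintype (F ≃+* F) := Fintype.ofFinite _
  have h1 : ∀ κ : F, ρ κ + τ κ = κ + ρ (σ κ) := by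
    intro κ
    have e := h (κ + 1)
    simp only [map_add, map_one] at e
    have e2 := h κ
    linear_combination e - e2
  let c : (F ≃+* F) → F := Pi.single ρ 1 + Pi.single τ 1 + Pi.single (RingEquiv.refl F) 1 +
    Pi.single (σ.trans ρ) 1
  have hc : c = 0 := by
    apply indep
    intro x
    have : ∑ μ : F ≃+* F, c μ * μ x = ρ x + τ x + x + ρ (σ x) := by
      simp only [c, Pi.add_apply, add_mul, Finset.sum_add_distrib, Pi.single_apply, ite_mul,
        one_mul, zero_mul, Finset.sum_ite_eq', Finset.mem_univ, if_true]
      rfl
    rw [this, h1 x]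
    have := CharTwo.add_self_eq_zero (x + ρ (σ x))
    linear_combination this
  have h11 : (1 : F) + 1 = 0 := two_zero
  have h10 : (1 : F) ≠ 0 := one_ne_zero
  have cr : ∀ μ, (if μ = ρ then (1 : F) else 0) + (if μ = τ then (1 : F) else 0) +
      (if μ = RingEquiv.refl F then (1 : F) else 0) + (if μ = σ.trans ρ then (1 : F) else 0) = 0 := by
    intro μ
    have := congrFun hc μ
    simpa [c, Pi.single_apply] using this
  by_contra hne
  by_cases hρτ : ρ = τ
  · subst hρτ
    have hs : RingEquiv.refl F = σ.trans ρ := by
      by_contra hs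
      have := cr (RingEquiv.refl F)
      rw [if_neg hs, if_pos rfl] at this
      split_ifs at this
      · apply h10; linear_combination this - h11
      · apply h10; linear_combination this
    have hs' : ∀ x, ρ (σ x) = x := fun x => (RingEquiv.congr_fun hs x).symm
    have h3 : ∀ x, ρ x = x := by
      intro x
      have := h x
      rw [hs'] at this
      have e : (ρ x + x) * (ρ x + x) = 0 := by
        have h2 := CharTwo.add_self_eq_zero (x * x)
        have h3 := CharTwo.add_self_eq_zero (x * ρ x)
        linear_combination this + h3 + h2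
      have e2 := mul_self_eq_zero.1 e
      have h4 := CharTwo.add_self_eq_zero x
      linear_combination e2 - h4
    apply hne
    ext x
    have := hs' x
    rw [h3] at this
    rw [this, h3]
  · have hρ := cr ρ
    rw [if_pos rfl, if_neg hρτ] at hρ
    have hτ := cr τ
    rw [if_neg (fun h => hρτ h.symm), if_pos rfl] at hτ
    by_cases h1' : ρ = RingEquiv.refl F
    · rw [if_pos h1'] at hρ
      have hτ1 : ¬ τ = RingEquiv.refl F := fun h => hρτ (h1'.trans h.symm)
      rw [if_neg hτ1] at hτ
      by_cases h2' : τ = σ.trans ρ
      · apply hne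
        rw [h2', h1']
        rfl
      · rw [if_neg h2'] at hτ
        apply h10; linear_combination hτ
    · rw [if_neg h1'] at hρ
      by_cases h2' : ρ = σ.trans ρ
      · have hσ : σ = RingEquiv.refl F := by
          ext x
          have := RingEquiv.congr_fun h2' x
          exact (ρ.injective this).symm
        have h3' : ¬ τ = σ.trans ρ := by
          rw [← h2']; exact fun h => hρτ h.symm
        rw [if_neg h3'] at hτ
        by_cases h4' : τ = RingEquiv.refl F
        · exact hne (hσ.trans h4'.symm)
        · rw [if_neg h4'] at hτ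
          apply h10; linear_combination hτ
      · rw [if_neg h2'] at hρ
        apply h10; linear_combination hρ

/-- `α(κ)β(κ) = κ³` -/
theorem cube_aut (α β : F ≃+* F) (hαβ : α ≠ β) (h : ∀ κ : F, α κ * β κ = κ * (κ * κ)) :
    α = RingEquiv.refl F ∨ β = RingEquiv.refl F := by
  classical
  haveI : Finite (F ≃+* F) :=
    Finite.of_injective (fun σ : F ≃+* F => (σ : F → F)) DFunLike.coe_injective
  letI : Fintype (F ≃+* F) := Fintype.ofFinite _
  haveI : Fact (Nat.Prime 2) := ⟨Nat.prime_two⟩
  have h1 : ∀ κ : F, α κ + β κ = κ + κ * κ := by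
    intro κ
    have e := h (κ + 1)
    simp only [map_add, map_one] at e
    have e2 := h κ
    have e3 := CharTwo.add_self_eq_zero (κ * κ)
    have e4 := CharTwo.add_self_eq_zero κ
    linear_combination e - e2 + e3 + e4
  let φ : F ≃+* F := frobeniusEquiv F 2
  have hφ : ∀ x, φ x = x * x := fun x => by
    rw [frobeniusEquiv_apply, frobenius_def, pow_two]
  let c : (F ≃+* F) → F := Pi.single α 1 + Pi.single β 1 + Pi.single (RingEquiv.refl F) 1 +
    Pi.single φ 1
  have hc : c = 0 := by
    apply indep
    intro x
    have : ∑ μ : F ≃+* F, c μ * μ x = α x + β x + x + φ x := by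
      simp only [c, Pi.add_apply, add_mul, Finset.sum_add_distrib, Pi.single_apply, ite_mul,
        one_mul, zero_mul, Finset.sum_ite_eq', Finset.mem_univ, if_true]
      rfl
    rw [this, h1 x, hφ]
    have := CharTwo.add_self_eq_zero (x + x * x)
    linear_combination this
  have h11 : (1 : F) + 1 = 0 := two_zero
  have h10 : (1 : F) ≠ 0 := one_ne_zero
  have cr : ∀ μ, (if μ = α then (1 : F) else 0) + (if μ = β then (1 : F) else 0) +
      (if μ = RingEquiv.refl F then (1 : F) else 0) + (if μ = φ then (1 : F) else 0) = 0 := by
    intro μ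
    have := congrFun hc μ
    simpa [c, Pi.single_apply] using this
  by_contra hcon
  push Not at hcon
  have hα := cr α
  have hβ := cr β
  rw [if_pos rfl, if_neg hαβ, if_neg hcon.1] at hα
  rw [if_neg (fun h => hαβ h.symm), if_pos rfl, if_neg hcon.2] at hβ
  have a1 : α = φ := by
    by_contra h2
    rw [if_neg h2] at hα
    apply h10; linear_combination hα
  have a2 : β = φ := by
    by_contra h2
    rw [if_neg h2] at hβ
    apply h10; linear_combination hβ
  exact hαβ (a1.trans a2.symm)

/-- action on coefficient vectors -/
def act (κ : F) (c : (F ≃+* F) → F) : (F ≃+* F) → F := fun σ => κ / σ κ * c σ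

omit [Finite F] [CharP F 2] in
theorem act_apply (κ : F) (c : (F ≃+* F) → F) (σ : F ≃+* F) : act κ c σ = κ / σ κ * c σ := rfl

omit [Finite F] in
theorem div_inj {σ : F ≃+* F} (h : ∀ κ : F, κ ≠ 0 → κ / σ κ = 1 → κ = 1) :
    Function.Injective (fun κ : F => κ / σ κ) := by
  intro a b hab
  simp only at hab
  by_cases ha : a = 0
  · by_cases hb : b = 0
    · rw [ha, hb]
    · rw [ha, zero_div] at hab
      have := (div_eq_zero_iff.1 hab.symm)
      rcases this with h1 | h1
      · exact absurd h1 hb
      · exact absurd ((map_eq_zero σ).1 h1) hb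
  · have ha' : σ a ≠ 0 := fun h1 => ha ((map_eq_zero σ).1 h1)
    by_cases hb : b = 0
    · rw [hb, zero_div] at hab
      rcases div_eq_zero_iff.1 hab with h1 | h1
      · exact absurd h1 ha
      · exact absurd h1 ha'
    · have hb' : σ b ≠ 0 := fun h1 => hb ((map_eq_zero σ).1 h1)
      have := h (a / b) (div_ne_zero ha hb) (by
        rw [map_div₀]
        rw [div_eq_div_iff ha' hb'] at hab
        field_simp
        linear_combination hab)
      rw [div_eq_one_iff_eq hb] at this
      exact this

theorem coeff (S : AddSubgroup ((F ≃+* F) → F))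
    (hinv : ∀ κ : F, κ ≠ 0 → ∀ c ∈ S, act κ c ∈ S)
    (hfpf : ∀ κ : F, κ ≠ 0 → κ ≠ 1 → ∀ c ∈ S, act κ c = c → c = 0) [DecidableEq (F ≃+* F)] :
    ∀ c ∈ S, ∀ σ, c σ ≠ 0 → ∀ a, (Pi.single σ a : (F ≃+* F) → F) ∈ S := by
  classical
  haveI : Finite (F ≃+* F) :=
    Finite.of_injective (fun σ : F ≃+* F => (σ : F → F)) DFunLike.coe_injective
  letI : Fintype (F ≃+* F) := Fintype.ofFinite _
  have key : ∀ n : ℕ, ∀ c ∈ S, (Finset.univ.filter (fun σ => c σ ≠ 0)).card = n →
      ∀ σ, c σ ≠ 0 → ∀ a, (Pi.single σ a : (F ≃+* F) → F) ∈ S := by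
    intro n
    induction n using Nat.strong_induction_on with
    | _ n ih =>
      intro c hc hn σ hσ a
      by_cases hex : ∃ s ∈ S, (∀ τ, c τ = 0 → s τ = 0) ∧ (∃ τ, c τ ≠ 0 ∧ s τ = 0) ∧ s ≠ 0
      · obtain ⟨s, hs, hs1, ⟨τ, hτ1, hτ2⟩, hs0⟩ := hex
        obtain ⟨μ, hμ⟩ := Function.ne_iff.1 hs0
        have hμ' : s μ ≠ 0 := hμ
        have hlt : (Finset.univ.filter (fun σ => s σ ≠ 0)).card < n := by
          rw [← hn]
          apply Finset.card_lt_card
          refine Finset.ssubset_iff_subset_ne.2 ⟨?_, ?_⟩
          · intro ν hν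
            rw [Finset.mem_filter] at hν ⊢
            exact ⟨Finset.mem_univ _, fun h => hν.2 (hs1 ν h)⟩
          · intro heq
            have : τ ∈ Finset.univ.filter (fun σ => s σ ≠ 0) := by
              rw [heq, Finset.mem_filter]
              exact ⟨Finset.mem_univ _, hτ1⟩
            rw [Finset.mem_filter] at this
            exact this.2 hτ2
        have hsing := ih _ hlt s hs rfl μ hμ'
        have hcμ : c μ ≠ 0 := fun h => hμ' (hs1 μ h)
        by_cases hσμ : σ = μ
        · rw [hσμ]; exact hsing a
        · set c' : (F ≃+* F) → F := c - Pi.single μ (c μ) with hc'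
          have hc'S : c' ∈ S := S.sub_mem hc (hsing _)
          have hc'1 : ∀ ν, ν ≠ μ → c' ν = c ν := by
            intro ν hν
            rw [hc', Pi.sub_apply, Pi.single_eq_of_ne hν, sub_zero]
          have hc'2 : c' μ = 0 := by
            rw [hc', Pi.sub_apply, Pi.single_eq_same, sub_self]
          have hlt' : (Finset.univ.filter (fun σ => c' σ ≠ 0)).card < n := by
            rw [← hn]
            apply Finset.card_lt_card
            refine Finset.ssubset_iff_subset_ne.2 ⟨?_, ?_⟩
            · intro ν hν
              rw [Finset.mem_filter] at hν ⊢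
              refine ⟨Finset.mem_univ _, fun h => hν.2 ?_⟩
              by_cases hνμ : ν = μ
              · rw [hνμ]; exact hc'2
              · rw [hc'1 ν hνμ]; exact h
            · intro heq
              have : μ ∈ Finset.univ.filter (fun σ => c' σ ≠ 0) := by
                rw [heq, Finset.mem_filter]
                exact ⟨Finset.mem_univ _, hcμ⟩
              rw [Finset.mem_filter] at this
              exact this.2 hc'2
          exact ih _ hlt' c' hc'S rfl σ (by rw [hc'1 σ hσμ]; exact hσ) a
      · push Not at hex
        -- minimal support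
        have hmin : ∀ s ∈ S, (∀ τ, c τ = 0 → s τ = 0) → ∀ τ, c τ ≠ 0 → s τ = 0 → s = 0 :=
          fun s hs h1 τ h2 h3 => hex s hs h1 ⟨τ, h2, h3⟩
        have hc0 : c ≠ 0 := fun h => hσ (by rw [h]; rfl)
        have hactz : ∀ κ τ, c τ = 0 → act κ c τ = 0 := by
          intro κ τ h
          rw [act_apply, h, mul_zero]
        have hactS : ∀ κ, act κ c ∈ S := by
          intro κ
          by_cases hκ : κ = 0
          · have : act κ c = 0 := by
              funext τ
              rw [act_apply, hκ, zero_div, zero_mul]; rfl
            rw [this]; exact S.zero_mem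
          · exact hinv κ hκ c hc
        have hinjτ : ∀ τ, c τ ≠ 0 → Function.Injective (fun κ : F => κ / τ κ) := by
          intro τ hτ
          apply div_inj
          intro κ hκ h1
          by_contra hκ1
          apply hc0
          apply hfpf κ hκ hκ1 c hc
          have hs : act κ c - c = 0 := by
            apply hmin _ (S.sub_mem (hactS κ) hc) _ τ hτ
            · rw [Pi.sub_apply, act_apply, h1, one_mul, sub_self]
            · intro ν hν
              rw [Pi.sub_apply, hactz κ ν hν, hν, sub_self]
          exact sub_eq_zero.1 hs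
        have hbij : Function.Bijective (fun κ : F => κ / σ κ) :=
          Finite.injective_iff_bijective.1 (hinjτ σ hσ)
        -- only one index
        have honly : ∀ τ, c τ ≠ 0 → σ = τ := by
          intro τ hτ
          by_contra hne
          let e : F ≃ F := Equiv.ofBijective _ hbij
          have he : ∀ κ, e κ = κ / σ κ := fun κ => rfl
          let g : F → F := fun x => (e.symm x) / τ (e.symm x)
          have hg : ∀ κ, g (κ / σ κ) = κ / τ κ := by
            intro κ
            have : e.symm (κ / σ κ) = κ := by rw [← he, e.symm_apply_apply]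
            simp only [g, this]
          have hadd : ∀ x y, g (x + y) = g x + g y := by
            intro x y
            obtain ⟨κ, rfl⟩ := hbij.2 x
            obtain ⟨l, rfl⟩ := hbij.2 y
            obtain ⟨m, hm⟩ := hbij.2 (κ / σ κ + l / σ l)
            simp only at hm ⊢
            rw [← hm, hg, hg, hg]
            have hs : act κ c + act l c + act m c = 0 := by
              apply hmin _ (S.add_mem (S.add_mem (hactS κ) (hactS l)) (hactS m)) _ σ hσ
              · rw [Pi.add_apply, Pi.add_apply, act_apply, act_apply, act_apply, hm]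
                have := CharTwo.add_self_eq_zero ((κ / σ κ + l / σ l) * c σ)
                linear_combination this
              · intro ν hν
                rw [Pi.add_apply, Pi.add_apply, hactz κ ν hν, hactz l ν hν, hactz m ν hν]
                simp
            have h2 := congrFun hs τ
            rw [Pi.add_apply, Pi.add_apply, act_apply, act_apply, act_apply, Pi.zero_apply,
              ← add_mul, ← add_mul] at h2
            rcases mul_eq_zero.1 h2 with h3 | h3
            · have := CharTwo.add_self_eq_zero (m / τ m)
              linear_combination this - h3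
            · exact absurd h3 hτ
          have hmul : ∀ x y, g (x * y) = g x * g y := by
            intro x y
            obtain ⟨κ, rfl⟩ := hbij.2 x
            obtain ⟨l, rfl⟩ := hbij.2 y
            simp only
            have : κ / σ κ * (l / σ l) = (κ * l) / σ (κ * l) := by
              rw [map_mul, div_mul_div_comm]
            rw [this, hg, hg, hg, map_mul, div_mul_div_comm]
          have hone : g 1 = 1 := by
            have : (1 : F) = 1 / σ 1 := by rw [map_one, div_one]
            rw [this, hg, map_one, div_one]
            simp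
          have hzero : g 0 = 0 := by
            have : (0 : F) = 0 / σ 0 := by rw [zero_div]
            rw [this, hg, zero_div]
            simp
          let gh : F →+* F :=
            { toFun := g
              map_one' := hone
              map_mul' := hmul
              map_zero' := hzero
              map_add' := hadd }
          have hgb : Function.Bijective gh :=
            Finite.injective_iff_bijective.1 gh.injective
          let ρ : F ≃+* F := RingEquiv.ofBijective gh hgb
          have hρ : ∀ x, ρ x = g x := fun x => rfl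
          apply hne
          apply four_aut ρ τ σ
          intro κ
          by_cases hκ : κ = 0
          · rw [hκ]; simp
          · have h2 := hg κ
            rw [← hρ, map_div₀] at h2
            have h3 : ρ (σ κ) ≠ 0 := by
              intro h; exact hκ ((map_eq_zero σ).1 ((map_eq_zero ρ).1 h))
            have h4 : τ κ ≠ 0 := by
              intro h; exact hκ ((map_eq_zero τ).1 h)
            rw [div_eq_div_iff h3 h4] at h2
            exact h2
        -- conclusion
        obtain ⟨κ, hκ⟩ := hbij.2 (a / c σ)
        simp only at hκ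
        have : (Pi.single σ a : (F ≃+* F) → F) = act κ c := by
          funext τ
          by_cases hτ : τ = σ
          · rw [hτ, Pi.single_eq_same, act_apply, hκ, div_mul_cancel₀ _ hσ]
          · rw [Pi.single_eq_of_ne hτ, act_apply]
            by_cases h0 : c τ = 0
            · rw [h0, mul_zero]
            · exact absurd (honly τ h0).symm hτ
        rw [this]
        exact hactS κ
  intro c hc
  exact key _ c hc rfl

/-- `x ↦ a σ(x)` -/
def mon (a : F) (σ : F ≃+* F) : F →+ F := (AddMonoidHom.mulLeft a).comp (σ : F →+* F).toAddMonoidHom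

omit [Finite F] [CharP F 2] in
theorem mon_apply (a : F) (σ : F ≃+* F) (x : F) : mon a σ x = a * σ x := rfl

/-- conjugation by a scalar -/
def cj (κ : F) (b : F →+ F) : F →+ F :=
  (AddMonoidHom.mulLeft κ).comp (b.comp (AddMonoidHom.mulLeft κ⁻¹))

omit [Finite F] [CharP F 2] in
theorem cj_apply (κ : F) (b : F →+ F) (x : F) : cj κ b x = κ * b (κ⁻¹ * x) := rfl

theorem mono (S : AddSubgroup (F →+ F))
    (hinv : ∀ κ : F, κ ≠ 0 → ∀ b ∈ S, cj κ b ∈ S)
    (hfpf : ∀ κ : F, κ ≠ 0 → κ ≠ 1 → ∀ b ∈ S, cj κ b = b → b = 0) [Fintype (F ≃+* F)] :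
    ∀ b ∈ S, ∃ c : (F ≃+* F) → F, (∀ x, b x = ∑ σ : F ≃+* F, c σ * σ x) ∧
      ∀ σ, c σ ≠ 0 → ∀ a, mon a σ ∈ S := by
  classical
  haveI : Fintype F := Fintype.ofFinite F
  let e : ((F ≃+* F) → F) →+ (F →+ F) :=
    { toFun := fun c => ∑ σ : F ≃+* F, mon (c σ) σ
      map_zero' := by
        ext x
        simp [AddMonoidHom.finset_sum_apply, mon_apply]
      map_add' := by
        intro c d
        ext x
        simp [AddMonoidHom.finset_sum_apply, mon_apply, add_mul, Finset.sum_add_distrib] }
  have he : ∀ c x, e c x = ∑ σ : F ≃+* F, c σ * σ x := by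
    intro c x
    change (∑ σ : F ≃+* F, mon (c σ) σ) x = _
    rw [AddMonoidHom.finset_sum_apply]
    rfl
  have hinj : ∀ c, e c = 0 → c = 0 := by
    intro c hc
    apply indep
    intro x
    rw [← he, hc]; rfl
  have hact : ∀ κ c, κ ≠ 0 → e (act κ c) = cj κ (e c) := by
    intro κ c hκ
    ext x
    rw [he, cj_apply, he, Finset.mul_sum]
    refine Finset.sum_congr rfl fun σ _ => ?_
    have : σ κ ≠ 0 := fun h => hκ ((map_eq_zero σ).1 h)
    rw [act_apply, map_mul, map_inv₀]
    field_simp
  have hsingle : ∀ σ a, e (Pi.single σ a) = mon a σ := by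
    intro σ a
    ext x
    rw [he, mon_apply]
    simp [Pi.single_apply]
  have hcoeff := coeff (S.comap e) (by
    intro κ hκ c hc
    rw [AddSubgroup.mem_comap] at hc ⊢
    rw [hact κ c hκ]
    exact hinv κ hκ _ hc) (by
    intro κ hκ hκ1 c hc h
    rw [AddSubgroup.mem_comap] at hc
    apply hinj
    apply hfpf κ hκ hκ1 _ hc
    rw [← hact κ c hκ, h])
  intro b hb
  obtain ⟨c, hc⟩ := S1140.span_all b
  have hbc : e c = b := by
    ext x
    rw [he, hc]
  refine ⟨c, hc, fun σ hσ a => ?_⟩
  have := hcoeff c (by rw [AddSubgroup.mem_comap, hbc]; exact hb) σ hσ a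
  rw [AddSubgroup.mem_comap, hsingle] at this
  exact this

end

end Cfsg.Agent.Lib.HigmanLin
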