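import Cfsg.Agent.Lib.HigmanD

/-!
# Higman's theorem on Suzuki 2-groups (helper6): main theorem
-/

set_option autoImplicit false
set_option linter.all false

namespace Cfsg.Agent.Lib.HigmanBase

open Cfsg HigmanLin
open scoped commutatorElement

universe u v

variable {P : Type u} [Group P] [Finite P] {K : Type v} [CommGroup K]

namespace Ctx

variable {φ : K →* MulAut P} {h : Hyp φ} {N : Subgroup P} (c : Ctx h N)
variable {F : Type u} [Field F] [CharP F 2] {ι : P → F} {χ : K → F} (f : Fld φ ι χ)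

include c f

/-- the trivial automorphism does not occur -/
theorem not_mon_one {a : F} (ha : mon a (RingEquiv.refl F) ∈ c.SS f) : a = 0 := by
  obtain ⟨x, hx⟩ := ha
  obtain ⟨k, hk1, hk2⟩ := f.exists_k h
  have h1 := c.b_conj f hx k
  have h2 : cj (χ k) (mon a (RingEquiv.refl F)) = mon a (RingEquiv.refl F) := by
    ext v
    rw [cj_apply, mon_apply, mon_apply]
    change χ k * (a * ((χ k)⁻¹ * v)) = a * v
    have := f.χ_ne k
    field_simp
  rw [h2] at h1
  have h3 := c.b_same f hx h1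
  have h4 : x ∈ Subgroup.centralizer (N : Set P) := by
    apply h.fpf_quot hk1 (N := Subgroup.centralizer (N : Set P))
    · intro y hy
      exact c.C_inv k hy
    · rw [Subgroup.mem_centralizer_iff]
      intro n hn
      exact h3 n hn
  have h5 := c.b_eq_zero f hx (fun n hn => Subgroup.mem_centralizer_iff.1 h4 n hn)
  have h6 := DFunLike.congr_fun h5 (1 : F)
  rw [mon_apply, map_one, mul_one] at h6
  exact h6

/-- if `C` is abelian, of exponent at least eight, then `P = C` -/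
theorem P_comm [Finite F] (hCc : ∀ a ∈ Subgroup.centralizer (N : Set P),
      ∀ b ∈ Subgroup.centralizer (N : Set P), a * b = b * a)
    (hC4 : ∃ x ∈ Subgroup.centralizer (N : Set P), x * x * (x * x) ≠ 1) :
    ∀ x y : P, x * y = y * x := by
  classical
  haveI : Finite (F ≃+* F) :=
    Finite.of_injective (fun σ : F ≃+* F => (σ : F → F)) DFunLike.coe_injective
  letI : Fintype (F ≃+* F) := Fintype.ofFinite _
  have hCn := c.C_normal
  have hNC := c.N_le_C
  have hsqC := c.sq_mem_C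
  have hmemN : ∀ x ∈ Subgroup.centralizer (N : Set P), x * x ∈ h.Z → x ∈ N :=
    fun x hx hx2 => c.mem_N f hx hx2
  have hmemC : ∀ x, x ∈ Subgroup.centralizer (N : Set P) ↔ ∀ n ∈ N, n * x = x * n :=
    fun x => Subgroup.mem_centralizer_iff
  have hC : ∀ k, ∀ x ∈ Subgroup.centralizer (N : Set P), φ k x ∈ Subgroup.centralizer (N : Set P) :=
    fun k x hx => c.C_inv k hx
  obtain ⟨m, hm2, hm, hm1⟩ := exists_exp c (Subgroup.centralizer (N : Set P)) hC4
  have hsurj := c.pow_surj f hC hm hm1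
  generalize Subgroup.centralizer (N : Set P) = C at *
  have hsucc : ∀ (x : P) (j : ℕ), x ^ (2 ^ (j + 1)) = x ^ (2 ^ j) * x ^ (2 ^ j) := by
    intro x j
    rw [← pow_add, ← two_mul, ← pow_succ']
  -- every element of N is a square in C
  have hroot : ∀ n ∈ N, ∃ m ∈ C, m * m = n := by
    intro n hn
    obtain ⟨i, rfl⟩ : ∃ i, m = i + 2 := ⟨m - 2, by omega⟩
    obtain ⟨a, ha, ha2⟩ := hsurj (ι (n * n))
    have h1 : a ^ (2 ^ (i + 2)) = n * n := f.inj' h (hm a ha) (c.sq n hn) ha2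
    have hnC := hNC hn
    have hcm : Commute n (a ^ (2 ^ (i + 1)))⁻¹ := by
      apply Commute.inv_right
      exact hCc n hnC _ (C.pow_mem ha _)
    have h2 : (n * (a ^ (2 ^ (i + 1)))⁻¹) * (n * (a ^ (2 ^ (i + 1)))⁻¹) = 1 := by
      have e := hcm.eq
      calc (n * (a ^ (2 ^ (i + 1)))⁻¹) * (n * (a ^ (2 ^ (i + 1)))⁻¹)
          = n * ((a ^ (2 ^ (i + 1)))⁻¹ * n) * (a ^ (2 ^ (i + 1)))⁻¹ := by group
        _ = n * (n * (a ^ (2 ^ (i + 1)))⁻¹) * (a ^ (2 ^ (i + 1)))⁻¹ := by rw [← e]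
        _ = (n * n) * (a ^ (2 ^ (i + 1)) * a ^ (2 ^ (i + 1)))⁻¹ := by group
        _ = 1 := by rw [← hsucc, h1]; group
    obtain ⟨b, hb, hb2⟩ := hsurj (ι (n * (a ^ (2 ^ (i + 1)))⁻¹))
    have h3 := f.inj' h (hm b hb) h2 hb2
    refine ⟨a ^ (2 ^ i) * b ^ (2 ^ (i + 1)), C.mul_mem (C.pow_mem ha _) (C.pow_mem hb _), ?_⟩
    have hab : b ^ (2 ^ (i + 1)) * a ^ (2 ^ i) = a ^ (2 ^ i) * b ^ (2 ^ (i + 1)) :=
      hCc _ (C.pow_mem hb _) _ (C.pow_mem ha _)
    calc a ^ (2 ^ i) * b ^ (2 ^ (i + 1)) * (a ^ (2 ^ i) * b ^ (2 ^ (i + 1)))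
        = a ^ (2 ^ i) * (b ^ (2 ^ (i + 1)) * a ^ (2 ^ i)) * b ^ (2 ^ (i + 1)) := by group
      _ = (a ^ (2 ^ i) * a ^ (2 ^ i)) * (b ^ (2 ^ (i + 1)) * b ^ (2 ^ (i + 1))) := by
          rw [hab]; group
      _ = a ^ (2 ^ (i + 1)) * b ^ (2 ^ (i + 2)) := by rw [← hsucc, ← hsucc]
      _ = b ^ (2 ^ (i + 2)) * a ^ (2 ^ (i + 1)) :=
          hCc _ (C.pow_mem ha _) _ (C.pow_mem hb _)
      _ = n := by rw [h3]; group
  -- pairings are idempotent
  have hidem : ∀ b ∈ c.SS f, ∀ v, b (b v) = b v := by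
    rintro b ⟨x, hx⟩ v
    obtain ⟨n, hn, rfl⟩ := c.w_surj f v
    obtain ⟨m, hmC, rfl⟩ := hroot n hn
    set a := m⁻¹ * (x * m * x⁻¹) with ha
    have haC : a ∈ C := C.mul_mem (C.inv_mem hmC) (hCn.conj_mem m hmC x)
    have hma : x * m * x⁻¹ = m * a := by rw [ha]; group
    have ham : a * m = m * a := hCc a haC m hmC
    have h1 : x * (m * m) * x⁻¹ = m * m * (a * a) := by
      calc x * (m * m) * x⁻¹ = (x * m * x⁻¹) * (x * m * x⁻¹) := by group
        _ = m * (a * m) * a := by rw [hma]; group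
        _ = m * m * (a * a) := by rw [ham]; group
    have h2 : ⁅m * m, x⁆ = (a * a)⁻¹ := by
      have e : ⁅m * m, x⁆ = (m * m) * (x * (m * m) * x⁻¹)⁻¹ := by
        rw [commutatorElement_def]; group
      have e2 : (m * m) * (a * a) = (a * a) * (m * m) :=
        hCc _ (C.mul_mem hmC hmC) _ (C.mul_mem haC haC)
      rw [e, h1, e2]; group
    have hZ := c.comm _ hn x
    rw [h2] at hZ
    have hZ' : a * a ∈ h.Z := by
      have := h.Z.inv_mem hZ
      rwa [inv_inv] at this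
    have haN := hmemN a haC hZ'
    have h3 : (a * a)⁻¹ = a * a := h.inv_eq hZ'
    rw [h3] at h2
    -- the second step
    have h4 : x * a * x⁻¹ = a⁻¹ := by
      have hxx := hCc (x * x) (hsqC x) m hmC
      have e1 : (x * x) * m * (x * x)⁻¹ = m := by rw [hxx]; group
      have e2 : (x * x) * m * (x * x)⁻¹ = x * (x * m * x⁻¹) * x⁻¹ := by group
      rw [e2, hma] at e1
      have e3 : x * (m * a) * x⁻¹ = (x * m * x⁻¹) * (x * a * x⁻¹) := by group
      rw [e3, hma] at e1
      have e4 : m * (a * (x * a * x⁻¹)) = m * 1 := by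
        rw [mul_one, ← mul_assoc]; exact e1
      exact eq_inv_of_mul_eq_one_right (mul_left_cancel e4)
    have h5 : ⁅a, x⁆ = a * a := by
      have e : ⁅a, x⁆ = a * (x * a * x⁻¹)⁻¹ := by rw [commutatorElement_def]; group
      rw [e, h4, inv_inv]
    rw [hx _ hn, h2, hx a haN, h5]
  have hS0 : ∀ b ∈ c.SS f, b = 0 := by
    intro b hb
    obtain ⟨co, hco, hcoS⟩ := c.mono_SS f b hb
    by_contra hb0
    have : ∃ σ, co σ ≠ 0 := by
      by_contra hall
      push Not at hall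
      apply hb0
      ext v
      rw [hco]
      simp [hall]
    obtain ⟨σ, hσ⟩ := this
    have h1 := hidem _ (hcoS σ hσ 1)
    have hσ1 : σ = RingEquiv.refl F := by
      ext v
      have := h1 v
      simp only [mon_apply, one_mul] at this
      exact σ.injective this
    have h2 := c.not_mon_one f (a := 1) (by rw [← hσ1]; exact hcoS σ hσ 1)
    exact one_ne_zero h2
  have hall : ∀ x : P, x ∈ C := by
    intro x
    obtain ⟨b, hb⟩ := c.exists_b f x
    have h1 := hS0 b ⟨x, hb⟩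
    rw [hmemC]
    intro n hn
    have h2 := hb n hn
    rw [h1] at h2
    exact commutatorElement_eq_one_iff_mul_comm.1 (f.inj _ (c.comm n hn x) h2.symm)
  intro x y
  exact hCc x (hall x) y (hall y)

end Ctx

end Cfsg.Agent.Lib.HigmanBase
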