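import Cfsg.Agent.Lib.HigmanBase

/-!
# Higman's theorem on Suzuki 2-groups (helper6): the normal subgroup `N`
-/

set_option autoImplicit false
set_option linter.all false

namespace Cfsg.Agent.Lib.HigmanBase

open Cfsg
open scoped commutatorElement

universe u v

variable {P : Type u} [Group P] [Finite P] {K : Type v} [CommGroup K]

/-- lifting an additive map through an additive surjection -/
theorem lift {Q : Type*} [Group Q] {F : Type*} [AddCommGroup F] (C : Subgroup Q) (π l : Q → F)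
    (hπ : ∀ c ∈ C, ∀ d ∈ C, π (c * d) = π c + π d)
    (hl : ∀ c ∈ C, ∀ d ∈ C, l (c * d) = l c + l d)
    (hs : ∀ v, ∃ c ∈ C, π c = v) (hk : ∀ c ∈ C, π c = 0 → l c = 0) :
    ∃ b : F →+ F, ∀ c ∈ C, b (π c) = l c := by
  have hl1 : l 1 = 0 := by
    have := hl 1 C.one_mem 1 C.one_mem
    rw [one_mul] at this
    simpa using this
  have hπ1 : π 1 = 0 := by
    have := hπ 1 C.one_mem 1 C.one_mem
    rw [one_mul] at this
    simpa using this
  have hli : ∀ c ∈ C, l c⁻¹ = - l c := by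
    intro c hc
    have := hl c⁻¹ (C.inv_mem hc) c hc
    rw [inv_mul_cancel, hl1] at this
    exact eq_neg_of_add_eq_zero_left this.symm
  have hπi : ∀ c ∈ C, π c⁻¹ = - π c := by
    intro c hc
    have := hπ c⁻¹ (C.inv_mem hc) c hc
    rw [inv_mul_cancel, hπ1] at this
    exact eq_neg_of_add_eq_zero_left this.symm
  have hwd : ∀ c ∈ C, ∀ d ∈ C, π c = π d → l c = l d := by
    intro c hc d hd hcd
    have h1 : π (c⁻¹ * d) = 0 := by
      rw [hπ _ (C.inv_mem hc) _ hd, hπi c hc, hcd, neg_add_cancel]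
    have h2 := hk _ (C.mul_mem (C.inv_mem hc) hd) h1
    rw [hl _ (C.inv_mem hc) _ hd, hli c hc] at h2
    exact neg_add_eq_zero.1 h2
  choose g hg hgπ using hs
  refine ⟨{ toFun := fun v => l (g v), map_zero' := ?_, map_add' := ?_ }, ?_⟩
  · exact hk _ (hg 0) (hgπ 0)
  · intro v w
    change l (g (v + w)) = l (g v) + l (g w)
    rw [← hl _ (hg v) _ (hg w)]
    apply hwd _ (hg _) _ (C.mul_mem (hg v) (hg w))
    rw [hπ _ (hg v) _ (hg w), hgπ, hgπ, hgπ]
  · intro c hc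
    exact hwd _ (hg _) _ hc (hgπ _)

/-- generated by squares and involutions -/
def T (P : Type*) [Group P] : Subgroup P := Subgroup.closure {t | (∃ x, t = x * x) ∨ t * t = 1}

theorem T_map {P : Type*} [Group P] (e : P ≃* P) : ∀ x ∈ T P, e x ∈ T P := by
  intro x hx
  have : T P ≤ (T P).comap e.toMonoidHom := by
    rw [T, Subgroup.closure_le]
    rintro t (⟨y, rfl⟩ | ht)
    · refine Subgroup.subset_closure (Or.inl ⟨e y, ?_⟩)
      exact map_mul e y y
    · refine Subgroup.subset_closure (Or.inr ?_)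
      change e t * e t = 1
      rw [← map_mul, ht, map_one]
  exact this hx

theorem T_normal {P : Type*} [Group P] : (T P).Normal := by
  constructor
  intro n hn g
  exact T_map (MulAut.conj g) n hn

/-- the context of the proof -/
structure Ctx {φ : K →* MulAut P} (h : Hyp φ) (N : Subgroup P) : Prop where
  Zle : h.Z ≤ N
  sq : ∀ n ∈ N, n * n ∈ h.Z
  comm : ∀ n ∈ N, ∀ p : P, ⁅n, p⁆ ∈ h.Z
  abel : ∀ n ∈ N, ∀ m ∈ N, n * m = m * n
  inv : ∀ k, ∀ n ∈ N, φ k n ∈ N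
  ne : ∃ n ∈ N, n ∉ h.Z

section

variable {φ : K →* MulAut P} (h : Hyp φ)

theorem Hyp.Z_inv (k : K) {x : P} (hx : x ∈ h.Z) : φ k x ∈ h.Z := by
  rw [h.mem_Z] at hx ⊢
  rw [← map_mul, hx, map_one]

/-- `n x = [n,x] x n` -/
theorem comm_eq {Q : Type*} [Group Q] (n x : Q) : n * x = ⁅n, x⁆ * (x * n) := by
  rw [commutatorElement_def]; group

theorem sq_comm_aux {n x : P} (hn : ⁅n, x⁆ ∈ h.Z) : x * x * n = n * (x * x) := by
  set z := ⁅n, x⁆ with hz
  have e := comm_eq n x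
  rw [← hz] at e
  have hzc := h.central (h.mem_Z.1 hn)
  calc x * x * n = z * z * (x * x * n) := by rw [h.mem_Z.1 hn, one_mul]
    _ = z * (z * x) * (x * n) := by group
    _ = z * (x * z) * (x * n) := by rw [hzc x]
    _ = (z * x) * (z * (x * n)) := by group
    _ = (z * x) * (n * x) := by rw [← e]
    _ = z * (x * n) * x := by group
    _ = n * x * x := by rw [← e]
    _ = n * (x * x) := by group

/-- the elements of order two of the centre modulo `Z` -/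
def MM : Subgroup P where
  carrier := {n | n * n ∈ h.Z ∧ ∀ p, ⁅n, p⁆ ∈ h.Z}
  one_mem' := by
    refine ⟨?_, fun p => ?_⟩
    · rw [one_mul]; exact h.Z.one_mem
    · rw [commutatorElement_one_left]; exact h.Z.one_mem
  mul_mem' := by
    rintro a b ⟨ha1, ha2⟩ ⟨hb1, hb2⟩
    haveI := h.Z_normal
    refine ⟨?_, fun p => ?_⟩
    · have : a * b * (a * b) = a * a * (a⁻¹ * ⁅b, a⁆ * a⁻¹⁻¹) * (b * b) := by
        rw [commutatorElement_def]; group
      rw [this]
      exact h.Z.mul_mem (h.Z.mul_mem ha1 (h.Z_normal.conj_mem _ (hb2 a) a⁻¹)) hb1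
    · have : ⁅a * b, p⁆ = a * ⁅b, p⁆ * a⁻¹ * ⁅a, p⁆ := by
        simp only [commutatorElement_def]; group
      rw [this]
      exact h.Z.mul_mem (h.Z_normal.conj_mem _ (hb2 p) a) (ha2 p)
  inv_mem' := by
    rintro a ⟨ha1, ha2⟩
    refine ⟨?_, fun p => ?_⟩
    · rw [← mul_inv_rev]; exact h.Z.inv_mem ha1
    · have : ⁅a⁻¹, p⁆ = a⁻¹ * ⁅a, p⁆⁻¹ * a⁻¹⁻¹ := by
        simp only [commutatorElement_def]; group
      rw [this]
      exact h.Z_normal.conj_mem _ (h.Z.inv_mem (ha2 p)) a⁻¹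

theorem mem_MM {n : P} : n ∈ MM h ↔ n * n ∈ h.Z ∧ ∀ p, ⁅n, p⁆ ∈ h.Z := Iff.rfl

theorem T_comm {n : P} (hn : n ∈ MM h) : ∀ t ∈ T P, t * n = n * t := by
  intro t ht
  have : T P ≤ Subgroup.centralizer {n} := by
    rw [T, Subgroup.closure_le]
    rintro t (⟨y, rfl⟩ | ht)
    · rw [SetLike.mem_coe, Subgroup.mem_centralizer_singleton_iff]
      exact sq_comm_aux h (((mem_MM h).1 hn).2 y)
    · rw [SetLike.mem_coe, Subgroup.mem_centralizer_singleton_iff]
      exact h.central ht n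
  have h2 := this ht
  rw [Subgroup.mem_centralizer_singleton_iff] at h2
  exact h2

theorem exists_ctx (hx : ∃ x : P, x * x * (x * x) ≠ 1) : ∃ N : Subgroup P, Ctx h N := by
  have hZM : h.Z ≤ MM h := by
    intro z hz
    rw [mem_MM, h.mem_Z.1 hz]
    refine ⟨h.Z.one_mem, fun p => ?_⟩
    have : ⁅z, p⁆ = 1 := by
      rw [commutatorElement_def, h.central hz p]; group
    rw [this]; exact h.Z.one_mem
  have hZT : h.Z ≤ T P := fun z hz => Subgroup.subset_closure (Or.inr hz)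
  refine ⟨MM h ⊓ T P, ⟨le_inf hZM hZT, fun n hn => hn.1.1, fun n hn => hn.1.2, ?_, ?_, ?_⟩⟩
  · intro n hn m hm
    exact T_comm h hm.1 n hn.2
  · intro k n hn
    refine ⟨⟨?_, fun p => ?_⟩, T_map (φ k) n hn.2⟩
    · rw [← map_mul]; exact h.Z_inv k hn.1.1
    · have : ⁅φ k n, p⁆ = φ k ⁅n, (φ k).symm p⁆ := by
        rw [map_commutatorElement, MulEquiv.apply_symm_apply]
      rw [this]
      exact h.Z_inv k (hn.1.2 _)
  · haveI := h.Z_normal
    haveI := T_normal (P := P)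
    haveI : Fact (Nat.Prime 2) := ⟨Nat.prime_two⟩
    have hq : IsPGroup 2 (P ⧸ h.Z) := h.isP.to_quotient _
    have hnorm : ((T P).map (QuotientGroup.mk' h.Z)).Normal :=
      Subgroup.Normal.map inferInstance _ (QuotientGroup.mk'_surjective _)
    obtain ⟨x, hx⟩ := hx
    have hne : (T P).map (QuotientGroup.mk' h.Z) ≠ ⊥ := by
      intro hb
      rw [Subgroup.map_eq_bot_iff, QuotientGroup.ker_mk'] at hb
      have : x * x ∈ T P := Subgroup.subset_closure (Or.inl ⟨x, rfl⟩)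
      exact hx (hb this)
    obtain ⟨y, hy1, hy2, hy3⟩ := PGroupOdd.exists_central_mem hq hnorm hne
    obtain ⟨t, ht, rfl⟩ := hy1
    have hmk : ∀ a : P, QuotientGroup.mk' h.Z a = 1 ↔ a ∈ h.Z := fun a => by
      rw [← MonoidHom.mem_ker, QuotientGroup.ker_mk']
    refine ⟨t, ⟨⟨?_, fun p => ?_⟩, ht⟩, fun htZ => ?_⟩
    · rw [← hmk, map_mul, ← pow_two, ← hy3, pow_orderOf_eq_one]
    · rw [← hmk, map_commutatorElement, commutatorElement_eq_one_iff_mul_comm]
      exact (Subgroup.mem_center_iff.1 hy2 _).symm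
    · rw [(hmk t).2 htZ, orderOf_one] at hy3
      norm_num at hy3

end

namespace Ctx

variable {φ : K →* MulAut P} {h : Hyp φ} {N : Subgroup P} (c : Ctx h N)

include c

theorem normal : N.Normal := by
  constructor
  intro n hn g
  have : g * n * g⁻¹ = ⁅n, g⁆⁻¹ * n := by rw [commutatorElement_def]; group
  rw [this]
  exact N.mul_mem (N.inv_mem (c.Zle (c.comm n hn g))) hn

theorem sq_comm {n : P} (hn : n ∈ N) (x : P) : x * x * n = n * (x * x) :=
  sq_comm_aux h (c.comm n hn x)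

theorem comm_mul {n : P} (hn : n ∈ N) (x y : P) : ⁅n, x * y⁆ = ⁅n, x⁆ * ⁅n, y⁆ := by
  have h1 : ⁅n, x * y⁆ = ⁅n, x⁆ * (x * ⁅n, y⁆ * x⁻¹) := by
    simp only [commutatorElement_def]; group
  have h2 := h.central (h.mem_Z.1 (c.comm n hn y)) x
  rw [h1, ← h2]; group

theorem mul_comm' {n m : P} (hn : n ∈ N) (hm : m ∈ N) (x : P) : ⁅n * m, x⁆ = ⁅n, x⁆ * ⁅m, x⁆ := by
  have h1 : ⁅n * m, x⁆ = n * ⁅m, x⁆ * n⁻¹ * ⁅n, x⁆ := by
    simp only [commutatorElement_def]; group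
  have h2 := h.central (h.mem_Z.1 (c.comm m hm x))
  rw [h1, ← h2 n]
  have h3 := h2 ⁅n, x⁆
  rw [← h3]; group

variable {F : Type u} [Field F] [CharP F 2] {ι : P → F} {χ : K → F} (f : Fld φ ι χ)

include f

theorem w_add {n m : P} (hn : n ∈ N) (hm : m ∈ N) :
    ι (n * m * (n * m)) = ι (n * n) + ι (m * m) := by
  have : n * m * (n * m) = (n * n) * (m * m) := by
    calc n * m * (n * m) = n * (m * n) * m := by group
      _ = n * (n * m) * m := by rw [c.abel m hm n hn]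
      _ = _ := by group
  rw [this]
  exact f.add _ _ (c.sq n hn) (c.sq m hm)

theorem w_ker {n : P} (hn : n ∈ N) (h0 : ι (n * n) = 0) : n ∈ h.Z :=
  f.inj _ (c.sq n hn) h0

theorem w_surj (v : F) : ∃ n ∈ N, ι (n * n) = v := by
  by_cases hv : v = 0
  · exact ⟨1, N.one_mem, by rw [one_mul, f.map_one, hv]⟩
  · obtain ⟨n, hn, hn0⟩ := c.ne
    refine f.surj_of_ne h (p := fun n => n * n) (S := (N : Set P)) (fun k x hx => c.inv k x hx)
      (fun x hx => c.sq x hx) (fun k x _ => ?_) hn (fun h0 => hn0 h0) v hv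
    rw [map_mul]

theorem mem_of_sq {x : P} (hx : ∀ n ∈ N, x * n = n * x) (hx2 : x * x ∈ h.Z) : x ∈ N := by
  obtain ⟨n, hn, hn2⟩ := c.w_surj f (ι (x * x))
  have h1 := f.inj' h (c.sq n hn) hx2 hn2
  have h2 : (x * n⁻¹) * (x * n⁻¹) = 1 := by
    have h3 : n⁻¹ * x = x * n⁻¹ := by
      have := hx n hn
      calc n⁻¹ * x = n⁻¹ * (x * n) * n⁻¹ := by group
        _ = n⁻¹ * (n * x) * n⁻¹ := by rw [this]
        _ = x * n⁻¹ := by group
    calc (x * n⁻¹) * (x * n⁻¹) = x * (n⁻¹ * x) * n⁻¹ := by group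
      _ = x * (x * n⁻¹) * n⁻¹ := by rw [h3]
      _ = (x * x) * (n * n)⁻¹ := by group
      _ = 1 := by rw [h1]; group
  have h4 : x * n⁻¹ ∈ N := c.Zle (h.mem_Z.2 h2)
  have : x = x * n⁻¹ * n := by group
  rw [this]
  exact N.mul_mem h4 hn

theorem w_act {n : P} (hn : n ∈ N) (k : K) : ι (φ k n * φ k n) = χ k * ι (n * n) := by
  rw [← map_mul]
  exact f.act k _ (c.sq n hn)

/-- the pairing with an element -/
theorem exists_b (x : P) : ∃ b : F →+ F, ∀ n ∈ N, b (ι (n * n)) = ι ⁅n, x⁆ := by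
  refine lift N (fun n => ι (n * n)) (fun n => ι ⁅n, x⁆) (fun a ha b hb => c.w_add f ha hb) ?_
    (c.w_surj f) ?_
  · intro a ha b hb
    rw [c.mul_comm' ha hb]
    exact f.add _ _ (c.comm a ha x) (c.comm b hb x)
  · intro a ha h0
    have hz := c.w_ker f ha h0
    have : ⁅a, x⁆ = 1 := by
      rw [commutatorElement_def, h.central hz x]; group
    rw [this, f.map_one]

/-- the set of pairings -/
def SS : AddSubgroup (F →+ F) where
  carrier := {b | ∃ x, ∀ n ∈ N, b (ι (n * n)) = ι ⁅n, x⁆}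
  zero_mem' := ⟨1, fun n hn => by
    rw [commutatorElement_one_right, f.map_one]; rfl⟩
  add_mem' := by
    rintro a b ⟨x, hx⟩ ⟨y, hy⟩
    refine ⟨x * y, fun n hn => ?_⟩
    rw [c.comm_mul hn, f.add _ _ (c.comm n hn x) (c.comm n hn y), AddMonoidHom.add_apply, hx n hn,
      hy n hn]
  neg_mem' := by
    rintro a ⟨x, hx⟩
    refine ⟨x, fun n hn => ?_⟩
    rw [AddMonoidHom.neg_apply, CharTwo.neg_eq, hx n hn]

theorem mem_SS {b : F →+ F} : b ∈ c.SS f ↔ ∃ x, ∀ n ∈ N, b (ι (n * n)) = ι ⁅n, x⁆ := Iff.rfl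

theorem b_ext {b b' : F →+ F} {x : P} (hb : ∀ n ∈ N, b (ι (n * n)) = ι ⁅n, x⁆)
    (hb' : ∀ n ∈ N, b' (ι (n * n)) = ι ⁅n, x⁆) : b = b' := by
  ext v
  obtain ⟨n, hn, rfl⟩ := c.w_surj f v
  rw [hb n hn, hb' n hn]

theorem b_conj {b : F →+ F} {x : P} (hb : ∀ n ∈ N, b (ι (n * n)) = ι ⁅n, x⁆) (k : K) :
    ∀ n ∈ N, HigmanLin.cj (χ k) b (ι (n * n)) = ι ⁅n, φ k x⁆ := by
  intro n hn
  rw [HigmanLin.cj_apply, ← f.χ_inv]
  have h1 := c.w_act f hn k⁻¹
  rw [← h1, hb _ (c.inv k⁻¹ n hn), ← f.act k _ (c.comm _ (c.inv k⁻¹ n hn) x),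
    map_commutatorElement]
  have : φ k (φ k⁻¹ n) = n := by
    rw [← MulAut.mul_apply, ← map_mul, mul_inv_cancel, map_one]; rfl
  rw [this]

/-- elements with the same pairing are congruent modulo the centralizer -/
theorem b_same {b : F →+ F} {x y : P} (hb : ∀ n ∈ N, b (ι (n * n)) = ι ⁅n, x⁆)
    (hb' : ∀ n ∈ N, b (ι (n * n)) = ι ⁅n, y⁆) : ∀ n ∈ N, n * (x⁻¹ * y) = (x⁻¹ * y) * n := by
  intro n hn
  have h1 : ⁅n, x⁆ = ⁅n, y⁆ := by
    apply f.inj' h (c.comm n hn x) (c.comm n hn y)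
    rw [← hb n hn, ← hb' n hn]
  have h2 : n * x * n⁻¹ * x⁻¹ = n * y * n⁻¹ * y⁻¹ := h1
  have h3 : x * n⁻¹ * x⁻¹ = y * n⁻¹ * y⁻¹ := by
    have := congrArg (fun t => n⁻¹ * t) h2
    simpa [mul_assoc] using this
  have h4 : n⁻¹ * (x⁻¹ * y) = (x⁻¹ * y) * n⁻¹ := by
    calc n⁻¹ * (x⁻¹ * y) = x⁻¹ * (x * n⁻¹ * x⁻¹) * y := by group
      _ = x⁻¹ * (y * n⁻¹ * y⁻¹) * y := by rw [h3]
      _ = _ := by group
  calc n * (x⁻¹ * y) = n * ((x⁻¹ * y) * n⁻¹) * n := by group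
    _ = n * (n⁻¹ * (x⁻¹ * y)) * n := by rw [h4]
    _ = _ := by group

theorem b_eq_zero {b : F →+ F} {x : P} (hb : ∀ n ∈ N, b (ι (n * n)) = ι ⁅n, x⁆)
    (hx : ∀ n ∈ N, n * x = x * n) : b = 0 := by
  ext v
  obtain ⟨n, hn, rfl⟩ := c.w_surj f v
  have : ⁅n, x⁆ = 1 := by rw [commutatorElement_def, hx n hn]; group
  rw [hb n hn, this, f.map_one]; rfl

theorem mono_SS [Finite F] [Fintype (F ≃+* F)] : ∀ b ∈ c.SS f, ∃ co : (F ≃+* F) → F,
    (∀ x, b x = ∑ σ : F ≃+* F, co σ * σ x) ∧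
      ∀ σ, co σ ≠ 0 → ∀ a, HigmanLin.mon a σ ∈ c.SS f := by
  apply HigmanLin.mono
  · rintro κ hκ b ⟨x, hx⟩
    obtain ⟨k, rfl⟩ := f.χ_surj κ hκ
    exact ⟨φ k x, c.b_conj f hx k⟩
  · rintro κ hκ hκ1 b ⟨x, hx⟩ he
    obtain ⟨k, rfl⟩ := f.χ_surj κ hκ
    have h1 := c.b_conj f hx k
    rw [he] at h1
    have h2 := c.b_same f hx h1
    have hk1 : k ≠ 1 := by
      rintro rfl
      exact hκ1 f.χ_one
    have h3 : x ∈ Subgroup.centralizer (N : Set P) := by
      apply h.fpf_quot hk1 (N := Subgroup.centralizer (N : Set P))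
      · intro y hy
        rw [Subgroup.mem_centralizer_iff] at hy ⊢
        intro n hn
        have := hy _ (c.inv k⁻¹ n hn)
        have h4 := congrArg (φ k) this
        rw [map_mul, map_mul] at h4
        have h5 : φ k (φ k⁻¹ n) = n := by
          rw [← MulAut.mul_apply, ← map_mul, mul_inv_cancel, map_one]; rfl
        rw [h5] at h4
        exact h4
      · rw [Subgroup.mem_centralizer_iff]
        intro n hn
        exact h2 n hn
    rw [Subgroup.mem_centralizer_iff] at h3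
    exact c.b_eq_zero f hx h3

end Ctx

end Cfsg.Agent.Lib.HigmanBase
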