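import Cfsg.Agent.Lib.HigmanMain

/-!
# Higman's theorem on Suzuki 2-groups (helper6): the theorem
-/

set_option autoImplicit false
set_option linter.all false

namespace Cfsg.Agent.Lib.HigmanBase

open Cfsg HigmanLin
open scoped commutatorElement

universe u v

variable {P : Type u} [Group P] [Finite P] {K : Type v} [CommGroup K]

namespace Ctx

variable {φ : K →* MulAut P} {h : Hyp φ} {N : Subgroup P} (c : Ctx h N)
variable {F : Type u} [Field F] [CharP F 2] {ι : P → F} {χ : K → F} (f : Fld φ ι χ)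

include c f

theorem cj_mon {κ : F} (hκ : κ ≠ 0) (a : F) (σ : F ≃+* F) :
    cj κ (mon a σ) = mon (a * (κ / σ κ)) σ := by
  ext v
  have : σ κ ≠ 0 := fun h => hκ ((map_eq_zero σ).1 h)
  rw [cj_apply, mon_apply, mon_apply, map_mul, map_inv₀]
  field_simp

/-- the case `C = N` -/
theorem sq_mem_Z [Finite F] (hCN : ∀ x ∈ Subgroup.centralizer (N : Set P), x ∈ N) (x : P) :
    x * x ∈ h.Z := by
  classical
  haveI : Finite (F ≃+* F) :=
    Finite.of_injective (fun σ : F ≃+* F => (σ : F → F)) DFunLike.coe_injective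
  letI : Fintype (F ≃+* F) := Fintype.ofFinite _
  have hZn := h.Z_normal
  let R : P → (F →+ F) → Prop := fun x b => ∀ n ∈ N, b (ι (n * n)) = ι ⁅n, x⁆
  have hRex : ∀ x, ∃ b, R x b := fun x => c.exists_b f x
  have hRmul : ∀ x y b b', R x b → R y b' → R (x * y) (b + b') := by
    intro x y b b' hb hb' n hn
    rw [c.comm_mul hn, f.add _ _ (c.comm n hn x) (c.comm n hn y), AddMonoidHom.add_apply, hb n hn,
      hb' n hn]
  have hR1 : R 1 0 := fun n hn => by rw [commutatorElement_one_right, f.map_one]; rfl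
  have hRfun : ∀ x b b', R x b → R x b' → b = b' := fun x b b' hb hb' => c.b_ext f hb hb'
  have hRinv : ∀ x b, R x b → R x⁻¹ b := by
    intro x b hb
    obtain ⟨b', hb'⟩ := hRex x⁻¹
    have h1 := hRmul _ _ _ _ hb hb'
    rw [mul_inv_cancel] at h1
    have h2 := hRfun _ _ _ h1 hR1
    have : b' = b := by
      have e : b' = -b := eq_neg_of_add_eq_zero_right h2
      rw [e]
      ext v
      rw [AddMonoidHom.neg_apply, CharTwo.neg_eq]
    rw [← this]; exact hb'
  have hRzero : ∀ x, R x 0 → x ∈ N := by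
    intro x hx
    apply hCN
    rw [Subgroup.mem_centralizer_iff]
    intro n hn
    have := c.b_same f hR1 hx n hn
    simpa using this
  have hRN : ∀ n ∈ N, R n 0 := by
    intro n hn m hm
    have : ⁅m, n⁆ = 1 := commutatorElement_eq_one_iff_mul_comm.2 (c.abel m hm n hn)
    rw [this, f.map_one]; rfl
  have hadd2 : ∀ b : F →+ F, b + b = 0 := by
    intro b
    ext v
    rw [AddMonoidHom.add_apply, CharTwo.add_self_eq_zero]; rfl
  have hcommN : ∀ x y : P, ⁅x, y⁆ ∈ N := by
    intro x y
    obtain ⟨b, hb⟩ := hRex x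
    obtain ⟨b', hb'⟩ := hRex y
    apply hRzero
    have := hRmul _ _ _ _ (hRmul _ _ _ _ (hRmul _ _ _ _ hb hb') (hRinv _ _ hb)) (hRinv _ _ hb')
    have e : b + b' + b + b' = 0 := by
      have : b + b' + b + b' = (b + b) + (b' + b') := by abel
      rw [this, hadd2, hadd2, add_zero]
    rw [e] at this
    exact this
  -- the good automorphisms
  let good : (F ≃+* F) → Prop := fun σ => ∀ a, mon a σ ∈ c.SS f
  have hgood1 : ∀ σ, good σ → σ ≠ RingEquiv.refl F := by
    rintro σ hσ rfl
    exact one_ne_zero (c.not_mon_one f (hσ 1))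
  have hσ0 : ∀ (σ : F ≃+* F) (v : F), σ v = 0 → v = 0 := fun σ v h => (map_eq_zero σ).1 h
  -- Claim A
  have hA : ∀ x a σ, R x (mon a σ) → x * x ∈ h.Z := by
    intro x a σ hx
    by_cases ha : a = 0
    · have h0 : mon a σ = 0 := by
        ext v
        rw [mon_apply, ha, zero_mul]; rfl
      rw [h0] at hx
      exact c.sq x (hRzero x hx)
    · have hxx : x * x ∈ N := hCN _ (c.sq_mem_C x)
      have h1 := hx _ hxx
      have h2 : ⁅x * x, x⁆ = 1 := by rw [commutatorElement_def]; group
      rw [h2, f.map_one, mon_apply] at h1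
      have h3 := (mul_eq_zero.1 h1).resolve_left ha
      have h4 := f.inj _ (c.sq _ hxx) (hσ0 σ _ h3)
      exact h4
  have hadd_mon : ∀ (a b : F) (σ : F ≃+* F), mon a σ + mon b σ = mon (a + b) σ := by
    intro a b σ
    ext v
    rw [AddMonoidHom.add_apply, mon_apply, mon_apply, mon_apply, add_mul]
  -- Claim B, equal automorphisms
  have hB1 : ∀ x y a b σ, R x (mon a σ) → R y (mon b σ) → ⁅x, y⁆ ∈ h.Z := by
    intro x y a b σ hx hy
    have h1 := hA x a σ hx
    have h2 := hA y b σ hy
    have h3 := hRmul _ _ _ _ hx hy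
    rw [hadd_mon] at h3
    have h4 := hA _ _ σ h3
    have : ⁅x, y⁆ = (x * y) * (x * y) * (y⁻¹ * (x * x)⁻¹ * y⁻¹⁻¹) * (y * y)⁻¹ := by
      rw [commutatorElement_def]; group
    rw [this]
    exact h.Z.mul_mem (h.Z.mul_mem h4 (hZn.conj_mem _ (h.Z.inv_mem h1) _)) (h.Z.inv_mem h2)
  -- the symmetry
  let B : P → P → F := fun x y => ι (⁅y, x⁆ * ⁅y, x⁆)
  have hBsymm : ∀ x y, B x y = B y x := by
    intro x y
    have : ⁅y, x⁆ * ⁅y, x⁆ = ⁅x, y⁆ * ⁅x, y⁆ := by
      rw [← commutatorElement_inv x y, ← mul_inv_rev]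
      exact h.inv_eq (c.sq _ (hcommN x y))
    change ι (⁅y, x⁆ * ⁅y, x⁆) = ι (⁅x, y⁆ * ⁅x, y⁆)
    rw [this]
  have hS1 : ∀ x x' y a a' σ, R x (mon a σ) → R x' (mon a' σ) →
      a' * σ (B x y) = a * σ (B x' y) := by
    intro x x' y a a' σ hx hx'
    have hz := hB1 x' x a' a σ hx' hx
    set u := ⁅y, x⁆ with hu
    set u' := ⁅y, x'⁆ with hu'
    have huN : u ∈ N := hcommN y x
    have hu'N : u' ∈ N := hcommN y x'
    have e1 : ⁅u, x'⁆ = ⁅u', x⁆ := by
      have hyx : y * x * y⁻¹ = u * x := by rw [hu, commutatorElement_def]; group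
      have hyx' : y * x' * y⁻¹ = u' * x' := by rw [hu', commutatorElement_def]; group
      set z := ⁅x', x⁆ with hzd
      have hzc := h.central (h.mem_Z.1 hz)
      have e0 : x' * x = z * (x * x') := comm_eq x' x
      have e2 : (u' * x') * (u * x) = z * ((u * x) * (u' * x')) := by
        calc (u' * x') * (u * x) = (y * x' * y⁻¹) * (y * x * y⁻¹) := by rw [hyx, hyx']
          _ = y * (x' * x) * y⁻¹ := by group
          _ = y * (z * (x * x')) * y⁻¹ := by rw [e0]
          _ = (y * z) * (x * x') * y⁻¹ := by group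
          _ = (z * y) * (x * x') * y⁻¹ := by rw [hzc y]
          _ = z * ((y * x * y⁻¹) * (y * x' * y⁻¹)) := by group
          _ = _ := by rw [hyx, hyx']
      -- x' u = ε⁻¹ u x' where ε = [u,x']
      have hε := c.comm u huN x'
      have hε' := c.comm u' hu'N x
      set ε := ⁅u, x'⁆ with hεd
      set ε' := ⁅u', x⁆ with hε'd
      have e3 : x' * u = ε * (u * x') := by
        have : u * x' = ε * (x' * u) := comm_eq u x'
        rw [this, ← mul_assoc, h.mem_Z.1 hε, one_mul]
      have e4 : x * u' = ε' * (u' * x) := by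
        have : u' * x = ε' * (x * u') := comm_eq u' x
        rw [this, ← mul_assoc, h.mem_Z.1 hε', one_mul]
      have e5 : (u' * x') * (u * x) = ε * z * (u' * u * (x * x')) := by
        calc (u' * x') * (u * x) = u' * (x' * u) * x := by group
          _ = u' * (ε * (u * x')) * x := by rw [e3]
          _ = (u' * ε) * (u * (x' * x)) := by group
          _ = (ε * u') * (u * (z * (x * x'))) := by rw [h.central (h.mem_Z.1 hε) u', e0]
          _ = ε * (u' * u * z) * (x * x') := by group
          _ = ε * (z * (u' * u)) * (x * x') := by rw [hzc (u' * u)]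
          _ = _ := by group
      have e6 : z * ((u * x) * (u' * x')) = ε' * z * (u' * u * (x * x')) := by
        calc z * ((u * x) * (u' * x')) = z * (u * (x * u') * x') := by group
          _ = z * (u * (ε' * (u' * x)) * x') := by rw [e4]
          _ = z * ((u * ε') * (u' * (x * x'))) := by group
          _ = z * ((ε' * u) * (u' * (x * x'))) := by rw [h.central (h.mem_Z.1 hε') u]
          _ = (z * ε') * (u * u') * (x * x') := by group
          _ = (ε' * z) * (u' * u) * (x * x') := by rw [hzc ε', c.abel u huN u' hu'N]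
          _ = _ := by group
      rw [e5, e6] at e2
      exact mul_right_cancel (mul_right_cancel e2)
    have h1 := hx' u huN
    have h2 := hx u' hu'N
    rw [mon_apply] at h1 h2
    change a' * σ (ι (u * u)) = a * σ (ι (u' * u'))
    rw [h1, h2, e1]
  have hBact : ∀ x y k, B (φ k x) (φ k y) = χ k * B x y := by
    intro x y k
    change ι (⁅φ k y, φ k x⁆ * ⁅φ k y, φ k x⁆) = χ k * ι (⁅y, x⁆ * ⁅y, x⁆)
    rw [← map_commutatorElement]
    exact c.w_act f (hcommN y x) k
  -- Claim B, different automorphisms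
  have hB2 : ∀ x y a b σ τ, good σ → good τ → σ ≠ τ → R x (mon a σ) → R y (mon b τ) →
      ⁅y, x⁆ ∈ h.Z := by
    intro x y a b σ τ hgσ hgτ hne hx hy
    obtain ⟨x1, hx1⟩ := hgσ 1
    obtain ⟨y1, hy1⟩ := hgτ 1
    have hformula : ∀ x y a b, R x (mon a σ) → R y (mon b τ) →
        B x y = σ.symm a * τ.symm b * B x1 y1 := by
      intro x y a b hx hy
      have e1 : ∀ y, B x y = σ.symm a * B x1 y := by
        intro y
        have h1 := hS1 x x1 y a 1 σ hx hx1
        rw [one_mul] at h1
        have h2 := congrArg σ.symm h1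
        rw [map_mul, RingEquiv.symm_apply_apply, RingEquiv.symm_apply_apply] at h2
        exact h2
      have e2 : B x1 y = τ.symm b * B x1 y1 := by
        have h1 := hS1 y y1 x1 b 1 τ hy hy1
        rw [one_mul] at h1
        have h2 := congrArg τ.symm h1
        rw [map_mul, RingEquiv.symm_apply_apply, RingEquiv.symm_apply_apply] at h2
        rw [hBsymm x1 y, h2, hBsymm y1 x1]
      rw [e1, e2]; ring
    have he : B x1 y1 = 0 := by
      by_contra he
      have hcube : ∀ κ : F, σ.symm κ * τ.symm κ = κ * (κ * κ) := by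
        intro κ
        by_cases hκ : κ = 0
        · rw [hκ]; simp
        obtain ⟨k, rfl⟩ := f.χ_surj κ hκ
        have h1 := c.b_conj f hx1 k
        have h2 := c.b_conj f hy1 k
        rw [c.cj_mon f hκ, one_mul] at h1 h2
        have h3 := hformula _ _ _ _ h1 h2
        rw [hBact] at h3
        have h4 := mul_right_cancel₀ he h3
        rw [map_div₀, map_div₀, RingEquiv.symm_apply_apply, RingEquiv.symm_apply_apply] at h4
        field_simp at h4
        linear_combination -h4
      have hst : σ.symm ≠ τ.symm := by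
        intro he
        apply hne
        ext v
        have := RingEquiv.congr_fun he (σ v)
        rw [RingEquiv.symm_apply_apply] at this
        have h5 := congrArg τ this
        rw [RingEquiv.apply_symm_apply] at h5
        exact h5.symm
      rcases cube_aut σ.symm τ.symm hst hcube with h1 | h1
      · apply hgood1 σ hgσ
        ext v
        have := RingEquiv.congr_fun h1 (σ v)
        rw [RingEquiv.symm_apply_apply] at this
        exact this.symm
      · apply hgood1 τ hgτ
        ext v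
        have := RingEquiv.congr_fun h1 (τ v)
        rw [RingEquiv.symm_apply_apply] at this
        exact this.symm
    have h1 := hformula x y a b hx hy
    rw [he, mul_zero] at h1
    exact f.inj _ (c.sq _ (hcommN y x)) h1
  -- generation
  let X : Set P := {x | ∃ a σ, good σ ∧ R x (mon a σ)} ∪ N
  have hgen : ∀ x : P, x ∈ Subgroup.closure X := by
    intro x
    obtain ⟨b, hb⟩ := hRex x
    obtain ⟨co, hco, hcoS⟩ := c.mono_SS f b ⟨x, hb⟩
    have hb' : b = ∑ σ : F ≃+* F, mon (co σ) σ := by
      ext v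
      rw [hco, AddMonoidHom.finset_sum_apply]; rfl
    have hpart : ∀ s : Finset (F ≃+* F), ∃ y ∈ Subgroup.closure X, R y (∑ σ ∈ s, mon (co σ) σ) := by
      intro s
      induction s using Finset.induction_on with
      | empty => exact ⟨1, Subgroup.one_mem _, by rw [Finset.sum_empty]; exact hR1⟩
      | insert σ s hσ ih =>
        obtain ⟨y, hy1, hy2⟩ := ih
        rw [Finset.sum_insert hσ]
        by_cases h0 : co σ = 0
        · have : mon (co σ) σ = 0 := by
            ext v
            rw [mon_apply, h0, zero_mul]; rfl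
          rw [this, zero_add]
          exact ⟨y, hy1, hy2⟩
        · obtain ⟨t, ht⟩ := hcoS σ h0 (co σ)
          refine ⟨t * y, Subgroup.mul_mem _ (Subgroup.subset_closure (Or.inl ?_)) hy1,
            hRmul _ _ _ _ ht hy2⟩
          exact ⟨co σ, σ, hcoS σ h0, ht⟩
    obtain ⟨y, hy1, hy2⟩ := hpart Finset.univ
    rw [← hb'] at hy2
    have h1 : y⁻¹ * x ∈ N := by
      apply hRzero
      have := hRmul _ _ _ _ (hRinv _ _ hy2) hb
      rwa [hadd2] at this
    have : x = y * (y⁻¹ * x) := by group
    rw [this]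
    exact Subgroup.mul_mem _ hy1 (Subgroup.subset_closure (Or.inr h1))
  have hXX : ∀ x ∈ X, ∀ y ∈ X, ⁅y, x⁆ ∈ h.Z := by
    rintro x (⟨a, σ, hgσ, hx⟩ | hx) y (⟨b, τ, hgτ, hy⟩ | hy)
    · by_cases hne : σ = τ
      · subst hne
        exact hB1 y x b a σ hy hx
      · exact hB2 x y a b σ τ hgσ hgτ hne hx hy
    · exact c.comm y hy x
    · have := h.Z.inv_mem (c.comm x hx y)
      rwa [commutatorElement_inv] at this
    · exact c.comm y hy x
  have hXsq : ∀ x ∈ X, x * x ∈ h.Z := by
    rintro x (⟨a, σ, hgσ, hx⟩ | hx)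
    · exact hA x a σ hx
    · exact c.sq x hx
  -- pass to the quotient
  have hmk : ∀ a : P, (a : P ⧸ h.Z) = 1 ↔ a ∈ h.Z := fun a => QuotientGroup.eq_one_iff a
  have hc1 : ∀ x : P, ∀ y ∈ X, ⁅x, y⁆ ∈ h.Z := by
    intro x y hy
    refine Subgroup.closure_induction (p := fun x _ => ⁅x, y⁆ ∈ h.Z) ?_ ?_ ?_ ?_ (hgen x)
    · intro x hx; exact hXX y hy x hx
    · rw [commutatorElement_one_left]; exact h.Z.one_mem
    · intro a b _ _ ha hb
      have : ⁅a * b, y⁆ = a * ⁅b, y⁆ * a⁻¹ * ⁅a, y⁆ := by
        simp only [commutatorElement_def]; group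
      rw [this]
      exact h.Z.mul_mem (hZn.conj_mem _ hb a) ha
    · intro a _ ha
      have : ⁅a⁻¹, y⁆ = a⁻¹ * ⁅a, y⁆⁻¹ * a⁻¹⁻¹ := by
        simp only [commutatorElement_def]; group
      rw [this]
      exact hZn.conj_mem _ (h.Z.inv_mem ha) _
  refine Subgroup.closure_induction (p := fun x _ => x * x ∈ h.Z) hXsq ?_ ?_ ?_ (hgen x)
  · rw [one_mul]; exact h.Z.one_mem
  · intro a b _ hbX ha hb
    -- commutator of a and b
    have hab : ⁅a, b⁆ ∈ h.Z := by
      have h1 : ⁅b, a⁆ ∈ h.Z := by
        refine Subgroup.closure_induction (p := fun b _ => ⁅b, a⁆ ∈ h.Z) ?_ ?_ ?_ ?_ hbX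
        · intro y hy
          have := h.Z.inv_mem (hc1 a y hy)
          rwa [commutatorElement_inv] at this
        · rw [commutatorElement_one_left]; exact h.Z.one_mem
        · intro p q _ _ hp hq
          have : ⁅p * q, a⁆ = p * ⁅q, a⁆ * p⁻¹ * ⁅p, a⁆ := by
            simp only [commutatorElement_def]; group
          rw [this]
          exact h.Z.mul_mem (hZn.conj_mem _ hq p) hp
        · intro p _ hp
          have : ⁅p⁻¹, a⁆ = p⁻¹ * ⁅p, a⁆⁻¹ * p⁻¹⁻¹ := by
            simp only [commutatorElement_def]; group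
          rw [this]
          exact hZn.conj_mem _ (h.Z.inv_mem hp) _
      have := h.Z.inv_mem h1
      rwa [commutatorElement_inv] at this
    have e : a * b * (a * b) = a * a * (a⁻¹ * ⁅a, b⁆⁻¹ * a⁻¹⁻¹) * (b * b) := by
      rw [commutatorElement_def]; group
    rw [e]
    exact h.Z.mul_mem (h.Z.mul_mem ha (hZn.conj_mem _ (h.Z.inv_mem hab) _)) hb
  · intro a _ ha
    rw [← mul_inv_rev]
    exact h.Z.inv_mem ha

end Ctx

/-- Higman's theorem: `P` is abelian or of exponent dividing four -/
theorem main_aux (n : ℕ) : ∀ (P : Type u) [Group P] [Finite P] (φ : K →* MulAut P),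
    Nat.card P = n → Hyp φ → Concl P := by
  induction n using Nat.strong_induction_on with
  | _ n ih =>
    intro P _ _ φ hn h
    by_cases h4 : ∀ x : P, x * x * (x * x) = 1
    · exact Or.inr h4
    push Not at h4
    obtain ⟨N, c⟩ := exists_ctx h h4
    obtain ⟨F, _, ι, χ, _, _, f⟩ := h.exists_fld
    have hC := c.C_comm f (fun Q _ _ ψ hlt hψ => ih (Nat.card Q) (by rw [← hn]; exact hlt) Q ψ rfl hψ)
    by_cases hC4 : ∃ x ∈ Subgroup.centralizer (N : Set P), x * x * (x * x) ≠ 1
    · exact Or.inl (c.P_comm f hC hC4)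
    · push Not at hC4
      obtain ⟨x, hx⟩ := h4
      exact absurd (c.sq_mem_Z f (fun y hy => c.mem_N f hy (hC4 y hy)) x) hx

theorem Hyp.main {φ : K →* MulAut P} (h : Hyp φ) :
    (∀ x y : P, x * y = y * x) ∨ ∀ x : P, x * x * (x * x) = 1 :=
  main_aux _ P φ rfl h

end Cfsg.Agent.Lib.HigmanBase
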