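import Cfsg.Agent.Lib.FPFNilp
import Cfsg.Agent.Lib.CoprimeGen
import Cfsg.Agent.Lib.Supersolvable2
import Cfsg.Agent.Lib.ConjSylow

/-! Hughes subgroups I (helper9): action of a `p`-group on a `q`-group in which all the elements outside a proper
normal subgroup have order `p` and act without fixed points; the Frobenius identity in norm form. -/

set_option autoImplicit false
open scoped commutatorElement

namespace Cfsg.Agent.Lib.Hughes

open Subgroup

section Identity

variable {W Q : Type*} [CommGroup W] [Group Q] [Finite Q]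

/-- The Frobenius-group identity for a group `Q` with a fixed-point-free automorphism of prime order, acting
compatibly on an abelian group with trivial norm. -/
theorem norm_identity {p : ℕ} (hp : p.Prime) (a : Q →* MulAut W) (α : MulAut Q) (β : MulAut W)
    (hαβ : ∀ q w, β (a q w) = a (α q) (β w)) (hα : α ^ p = 1)
    (hαf : ∀ q, α q = q → q = 1) (hβn : ∀ w, ∏ i ∈ Finset.range p, (β ^ i) w = 1)
    (hQ : ∀ w, (∀ q, a q w = w) → w = 1) (w : W) : w ^ Nat.card Q = 1 := by
  classical
  have := Fintype.ofFinite Q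
  have hαβ' : ∀ i : ℕ, ∀ q w, (β ^ i) (a q w) = a ((α ^ i) q) ((β ^ i) w) := by
    intro i
    induction i with
    | zero => intro q w; rfl
    | succ i ih =>
      intro q w
      rw [pow_succ', MulAut.mul_apply, ih, hαβ, pow_succ', MulAut.mul_apply, MulAut.mul_apply]
  have e1 : ∀ k : Q, ∏ i ∈ Finset.range p, a k ((β ^ i) (a k⁻¹ w)) = 1 := by
    intro k
    rw [← map_prod, hβn, map_one]
  have e2 : ∏ i ∈ Finset.range p, ∏ k : Q, a k ((β ^ i) (a k⁻¹ w)) = 1 := by
    rw [Finset.prod_comm]
    exact Finset.prod_eq_one fun k _ => e1 k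
  have e3 : ∀ i ∈ Finset.range p, i ≠ 0 → ∏ k : Q, a k ((β ^ i) (a k⁻¹ w)) = 1 := by
    intro i hi hi0
    let σ : Q → Q := fun k => k * (α ^ i) k⁻¹
    have hσ : Function.Injective σ := by
      intro k k' hkk
      have h1 : k * (α ^ i) k⁻¹ = k' * (α ^ i) k'⁻¹ := hkk
      have h2 : (α ^ i) (k'⁻¹ * k) = k'⁻¹ * k := by
        rw [map_mul, map_inv, map_inv] at *
        calc ((α ^ i) k')⁻¹ * (α ^ i) k = k'⁻¹ * (k' * ((α ^ i) k')⁻¹) * (α ^ i) k := by group
          _ = k'⁻¹ * (k * ((α ^ i) k)⁻¹) * (α ^ i) k := by rw [h1]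
          _ = k'⁻¹ * k := by group
      exact (inv_mul_eq_one.1 (FPFNilp.pow_fixed hp hα hαf hi hi0 h2)).symm
    have hσb : Function.Bijective σ := Finite.injective_iff_bijective.1 hσ
    have h4 : ∏ k : Q, a k ((β ^ i) (a k⁻¹ w)) = ∏ k : Q, a k ((β ^ i) w) := by
      refine Fintype.prod_equiv (Equiv.ofBijective σ hσb) _ _ ?_
      intro k
      change a k ((β ^ i) (a k⁻¹ w)) = a (k * (α ^ i) k⁻¹) ((β ^ i) w)
      rw [hαβ', map_mul]; rfl
    rw [h4]
    apply hQ
    intro q
    rw [map_prod]
    refine Fintype.prod_equiv (Equiv.mulLeft q) _ _ ?_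
    intro k
    change a q (a k ((β ^ i) w)) = a (q * k) ((β ^ i) w)
    rw [map_mul]; rfl
  rw [Finset.prod_eq_single_of_mem 0 (Finset.mem_range.2 hp.pos) e3] at e2
  have e4 : ∀ k : Q, a k ((β ^ 0) (a k⁻¹ w)) = w := by
    intro k
    rw [pow_zero, MulAut.one_apply, map_inv, MulAut.apply_inv_self]
  simp only [e4, Finset.prod_const, Finset.card_univ] at e2
  rw [Nat.card_eq_fintype_card]
  exact e2

end Identity

/-- the faithful version -/
theorem faithful_case {G : Type*} [Group G] [Finite G] {p : ℕ} [hp : Fact p.Prime] {T T₁ Q : Subgroup G}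
    (hT : IsPGroup p T) (hTT : T₁ ≤ T) (hTn : T ≤ normalizer (T₁ : Set G)) (hne : T₁ ≠ T)
    (hQs : Group.IsSolvable Q) (hQp : (Nat.card Q).Coprime p) (hTQ : T ≤ normalizer (Q : Set G))
    (hx : ∀ x ∈ T, x ∉ T₁ → x ^ p = 1 ∧ ∀ y ∈ Q, x * y = y * x → y = 1)
    (hf : T ⊓ centralizer (Q : Set G) = ⊥) : T₁ = ⊥ ∧ Nat.card T = p := by
  -- the basic contradiction
  have key : ∀ z ∈ T, z ≠ 1 → z ^ p = 1 → (∀ t ∈ T, z * t = t * z) → ∀ x ∈ T, x ∉ T₁ → x ∉ zpowers z →
      (∀ a ∈ T, a ∉ zpowers z → a ∈ zpowers z ⊔ zpowers x → ∀ y ∈ Q, a * y = y * a → y = 1) → False := by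
    intro z hz hz1 hzp hzc x hxT hxT1 hxz hfix
    have hxp := (hx x hxT hxT1).1
    set A := zpowers z ⊔ zpowers x with hA
    have hAT : A ≤ T := by
      rw [hA]; exact sup_le (by rwa [zpowers_le]) (by rwa [zpowers_le])
    have hAcl : A = closure {z, x} := by
      rw [hA, zpowers_eq_closure, zpowers_eq_closure, ← Subgroup.closure_union]; rfl
    have hAc : IsMulCommutative A := by
      rw [hAcl]
      apply Subgroup.isMulCommutative_closure
      intro a ha b hb
      simp only [Set.mem_insert_iff, Set.mem_singleton_iff] at ha hb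
      rcases ha with rfl | rfl <;> rcases hb with rfl | rfl
      · rfl
      · exact hzc _ hxT
      · exact (hzc _ hxT).symm
      · rfl
    have hzA : z ∈ A := (le_sup_left : zpowers z ≤ A) (mem_zpowers z)
    have hxA : x ∈ A := (le_sup_right : zpowers x ≤ A) (mem_zpowers x)
    have hcop : (Nat.card A).Coprime (Nat.card Q) := by
      obtain ⟨k, hk⟩ := IsPGroup.iff_card.mp (hT.to_le hAT)
      rw [hk]
      exact hQp.symm.pow_left k
    have h1 := CoprimeGen.le_iSup_centralizer_of_solvable (A := A) hp.out hzA hxA hAc hz1 hzp hxp hxz _ Q rfl hQs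
      (hAT.trans hTQ) hcop
    have h2 : Q ≤ centralizer {z} := by
      refine h1.trans (iSup₂_le ?_)
      rintro a ⟨haA, ha1⟩
      by_cases haz : a ∈ zpowers z
      · -- `⟨a⟩ = ⟨z⟩`
        refine inf_le_right.trans ?_
        have hzo : orderOf z = p := orderOf_eq_prime hzp hz1
        have hao : orderOf a = p := by
          rcases (Nat.dvd_prime hp.out).mp (hzo ▸ orderOf_dvd_of_mem_zpowers haz) with h | h
          · exact absurd (orderOf_eq_one_iff.mp h) ha1
          · exact h
        have hle : zpowers a ≤ zpowers z := by rwa [zpowers_le]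
        have heq : zpowers a = zpowers z := by
          apply eq_of_le_of_card_ge hle
          rw [Nat.card_zpowers, Nat.card_zpowers, hao, hzo]
        intro y hy
        have hza : z ∈ zpowers a := by rw [heq]; exact mem_zpowers z
        obtain ⟨k, rfl⟩ := mem_zpowers_iff.mp hza
        rw [mem_centralizer_singleton_iff] at hy ⊢
        exact ((show Commute y a from hy).zpow_right k).eq
      · refine le_trans ?_ bot_le
        rintro y ⟨hyQ, hy⟩
        rw [mem_bot]
        replace hy : y ∈ centralizer {a} := hy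
        rw [mem_centralizer_singleton_iff] at hy
        exact hfix a (hAT haA) haz haA y hyQ hy.symm
    have h3 : z ∈ T ⊓ centralizer (Q : Set G) := by
      refine ⟨hz, mem_centralizer_iff.mpr fun y hy => ?_⟩
      have := h2 hy
      rwa [mem_centralizer_singleton_iff] at this
    rw [hf, mem_bot] at h3
    exact hz1 h3
  obtain ⟨x, hxT, hxT1⟩ : ∃ x ∈ T, x ∉ T₁ := by
    by_contra hno
    push Not at hno
    exact hne (le_antisymm hTT hno)
  have hT1bot : T₁ = ⊥ := by
    by_contra hT1
    have h1 := Supersolvable.inf_centralizer_ne_bot hT hTT hTn hT1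
    have h2 : p ∣ Nat.card (T₁ ⊓ centralizer (T : Set G) : Subgroup G) := by
      rcases ((hT.to_le hTT).to_le (inf_le_left : T₁ ⊓ centralizer (T : Set G) ≤ T₁)).card_eq_or_dvd with h | h
      · exact absurd (Subgroup.card_eq_one.mp h) h1
      · exact h
    obtain ⟨⟨z, hz⟩, hzo⟩ := exists_prime_orderOf_dvd_card' p h2
    rw [Subgroup.orderOf_mk] at hzo
    have hz1 : z ≠ 1 := by
      intro h
      rw [h, orderOf_one] at hzo
      exact hp.out.one_lt.ne hzo
    refine key z (hTT hz.1) hz1 (by rw [← hzo]; exact pow_orderOf_eq_one z) ?_ x hxT hxT1 ?_ ?_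
    · intro t ht
      exact (mem_centralizer_iff.mp hz.2 t ht).symm
    · intro h
      have : zpowers z ≤ T₁ := by rw [zpowers_le]; exact hz.1
      exact hxT1 (this h)
    · intro a haT haz haA y hyQ hay
      refine (hx a haT ?_).2 y hyQ hay
      intro haT1
      -- a = z^i x^j
      have hzx : zpowers x ≤ normalizer (zpowers z : Set G) := by
        refine le_trans ?_ (centralizer_le_normalizer _)
        rw [zpowers_le, mem_centralizer_iff]
        intro w hw
        have hw' : w ∈ zpowers z := hw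
        obtain ⟨k, rfl⟩ := mem_zpowers_iff.mp hw'
        have hc : Commute z x := (mem_centralizer_iff.mp hz.2 x hxT).symm
        exact (hc.zpow_left k).eq
      obtain ⟨b, hb, c, hc, rfl⟩ := (ConjSylow.mem_sup_of_le_normalizer' hzx).mp haA
      have hbT1 : b ∈ T₁ := (show zpowers z ≤ T₁ by rw [zpowers_le]; exact hz.1) hb
      have hcT1 : c ∈ T₁ := by
        have := mul_mem (inv_mem hbT1) haT1
        rwa [inv_mul_cancel_left] at this
      apply haz
      have hc1 : c = 1 := by
        by_contra hc1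
        have hxp := (hx x hxT hxT1).1
        have hx1 : x ≠ 1 := fun h => hxT1 (h ▸ one_mem _)
        have hxo : orderOf x = p := orderOf_eq_prime hxp hx1
        have hco : orderOf c = p := by
          rcases (Nat.dvd_prime hp.out).mp (hxo ▸ orderOf_dvd_of_mem_zpowers hc) with h | h
          · exact absurd (orderOf_eq_one_iff.mp h) hc1
          · exact h
        have hle : zpowers c ≤ zpowers x := by rwa [zpowers_le]
        have heq : zpowers c = zpowers x := by
          apply eq_of_le_of_card_ge hle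
          rw [Nat.card_zpowers, Nat.card_zpowers, hco, hxo]
        apply hxT1
        have h5 : x ∈ zpowers c := by rw [heq]; exact mem_zpowers x
        exact (show zpowers c ≤ T₁ by rwa [zpowers_le]) h5
      rw [hc1, mul_one]
      exact hb
  refine ⟨hT1bot, ?_⟩
  subst hT1bot
  -- `T` has order `p`
  have hTne : T ≠ ⊥ := hne.symm
  have h1 := Supersolvable.inf_centralizer_ne_bot hT le_rfl le_normalizer hTne
  have h2 : p ∣ Nat.card (T ⊓ centralizer (T : Set G) : Subgroup G) := by
    rcases (hT.to_le (inf_le_left : T ⊓ centralizer (T : Set G) ≤ T)).card_eq_or_dvd with h | h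
    · exact absurd (Subgroup.card_eq_one.mp h) h1
    · exact h
  obtain ⟨⟨z, hz⟩, hzo⟩ := exists_prime_orderOf_dvd_card' p h2
  rw [Subgroup.orderOf_mk] at hzo
  have hz1 : z ≠ 1 := by
    intro h
    rw [h, orderOf_one] at hzo
    exact hp.out.one_lt.ne hzo
  have hTz : T = zpowers z := by
    apply le_antisymm
    · intro x hxT
      by_contra hxz
      refine key z hz.1 hz1 (by rw [← hzo]; exact pow_orderOf_eq_one z) ?_ x hxT ?_ hxz ?_
      · intro t ht
        exact (mem_centralizer_iff.mp hz.2 t ht).symm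
      · intro h
        rw [mem_bot] at h
        exact hxz (h ▸ one_mem _)
      · intro a haT haz _ y hyQ hay
        refine (hx a haT ?_).2 y hyQ hay
        intro h
        rw [mem_bot] at h
        exact haz (h ▸ one_mem _)
    · rw [zpowers_le]; exact hz.1
  rw [hTz, Nat.card_zpowers, hzo]

/-- **Lemma E**: a `p`-group `T` acting on a solvable `p'`-group `Q ≠ 1`, such that the elements of `T` outside the proper
normal subgroup `T₁` have order `p` and no fixed points on `Q`. Then `T₁` centralizes `Q` and has index `p`. -/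
theorem centralizes_and_index {G : Type*} [Group G] [Finite G] {p : ℕ} [hp : Fact p.Prime] {T T₁ Q : Subgroup G}
    (hT : IsPGroup p T) (hTT : T₁ ≤ T) (hTn : T ≤ normalizer (T₁ : Set G)) (hne : T₁ ≠ T)
    (hQs : Group.IsSolvable Q) (hQ1 : Q ≠ ⊥) (hQp : (Nat.card Q).Coprime p) (hTQ : T ≤ normalizer (Q : Set G))
    (hx : ∀ x ∈ T, x ∉ T₁ → x ^ p = 1 ∧ ∀ y ∈ Q, x * y = y * x → y = 1) :
    T₁ ≤ centralizer (Q : Set G) ∧ T₁.relIndex T = p := by
  let φ : T →* MulAut Q := (Q.normalizerMonoidHom).comp (inclusion hTQ)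
  have hφ : ∀ (r : T) (x : Q), ((φ r x : Q) : G) = r * x * (r : G)⁻¹ := fun r x => rfl
  let R : Subgroup (MulAut Q) := φ.range
  let ρ : R →* MulAut Q := R.subtype
  let G' := Q ⋊[ρ] R
  have hfin : Finite G' := by
    have : Finite (MulAut Q) := inferInstance
    exact Finite.of_injective (fun g : G' => (g.left, g.right)) (by
      intro a b hab
      simp only [Prod.mk.injEq] at hab
      exact SemidirectProduct.ext hab.1 hab.2)
  let ψ : T →* G' := (SemidirectProduct.inr).comp φ.rangeRestrict
  let ι : Q →* G' := SemidirectProduct.inl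
  have hψι : ∀ (t : T) (y : Q), ψ t * ι y * (ψ t)⁻¹ = ι (φ t y) := by
    intro t y
    have h1 := SemidirectProduct.inl_aut (φ := ρ) (φ.rangeRestrict t) y
    rw [map_inv] at h1
    exact h1.symm
  have hιinj : Function.Injective ι := SemidirectProduct.inl_injective
  have hψ1 : ∀ t : T, ψ t = 1 → (t : G) ∈ centralizer (Q : Set G) := by
    intro t ht
    rw [mem_centralizer_iff]
    intro y hy
    have h1 := hψι t ⟨y, hy⟩
    rw [ht, one_mul, inv_one, mul_one] at h1
    have h2 := congrArg Subtype.val (hιinj h1)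
    rw [hφ] at h2
    have h3 : y = t * y * (t : G)⁻¹ := h2
    calc y * t = (t * y * (t : G)⁻¹) * t := by rw [← h3]
      _ = t * y := by group
  have hcomm : ∀ (t : T) (y : Q), ψ t * ι y = ι y * ψ t → (t : G) * y = y * t := by
    intro t y h
    have h1 := hψι t y
    rw [h, mul_inv_cancel_right] at h1
    have h2 := congrArg Subtype.val (hιinj h1)
    rw [hφ] at h2
    calc (t : G) * y = (t * y * (t : G)⁻¹) * t := by group
      _ = y * t := by rw [← h2]
  have hker : ∀ t : T, ψ t ∈ (T₁.subgroupOf T).map ψ → (t : G) ∈ T₁ := by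
    rintro t ⟨s, hs, hst⟩
    by_contra ht
    have h1 : ψ (s⁻¹ * t) = 1 := by rw [map_mul, map_inv, hst, inv_mul_cancel]
    have h2 := hψ1 _ h1
    have h3 : ((s⁻¹ * t : T) : G) ∉ T₁ := by
      intro h
      apply ht
      have := mul_mem (mem_subgroupOf.mp hs) h
      simpa using this
    have h4 := (hx _ (s⁻¹ * t : T).2 h3).2
    apply hQ1
    rw [eq_bot_iff]
    intro y hy
    rw [mem_bot]
    exact h4 y hy (mem_centralizer_iff.mp h2 y hy).symm
  have hfc := faithful_case (p := p) (T := ψ.range) (T₁ := (T₁.subgroupOf T).map ψ) (Q := ι.range)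
    (by
      rw [MonoidHom.range_eq_map]
      exact (hT.to_subgroup (⊤ : Subgroup T)).map ψ)
    (by rintro _ ⟨t, _, rfl⟩; exact ⟨t, rfl⟩)
    (by
      rintro _ ⟨t, rfl⟩
      apply ConjSylow.mem_normalizer_of_forall
      rintro _ ⟨s, hs, rfl⟩
      refine ⟨t * s * t⁻¹, ?_, by simp⟩
      exact mem_subgroupOf.mpr ((mem_normalizer_iff.mp (hTn t.2) _).mp (mem_subgroupOf.mp hs)))
    (by
      intro h
      apply hne
      apply le_antisymm hTT
      intro t ht
      exact hker ⟨t, ht⟩ (by rw [h]; exact ⟨_, rfl⟩))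
    (Group.isSolvable_of_surjective ι.rangeRestrict_surjective)
    (by
      have : Nat.card ι.range = Nat.card Q := (Nat.card_congr (MonoidHom.ofInjective hιinj).toEquiv).symm
      rw [this]; exact hQp)
    (by
      rintro _ ⟨t, rfl⟩
      apply ConjSylow.mem_normalizer_of_forall
      rintro _ ⟨y, rfl⟩
      rw [hψι]
      exact ⟨_, rfl⟩)
    (by
      rintro _ ⟨t, rfl⟩ ht
      have htT1 : (t : G) ∉ T₁ := fun h => ht ⟨t, mem_subgroupOf.mpr h, rfl⟩
      have h1 := hx t t.2 htT1
      refine ⟨?_, ?_⟩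
      · rw [← map_pow]
        have : t ^ p = 1 := Subtype.ext h1.1
        rw [this, map_one]
      · rintro _ ⟨y, rfl⟩ hy
        have h2 := h1.2 y y.2 (hcomm t y hy)
        have : y = 1 := Subtype.ext h2
        rw [this, map_one])
    (by
      rw [eq_bot_iff]
      rintro _ ⟨⟨t, rfl⟩, hc⟩
      rw [mem_bot]
      have h1 : φ t = 1 := by
        ext y
        rw [MulAut.one_apply, hφ]
        have h2 := hcomm t y (mem_centralizer_iff.mp hc (ι y) ⟨y, rfl⟩).symm
        rw [h2]; group
      have h3 : φ.rangeRestrict t = 1 := Subtype.ext h1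
      change SemidirectProduct.inr (φ.rangeRestrict t) = 1
      rw [h3, map_one])
  obtain ⟨h1, h2⟩ := hfc
  have hkereq : ψ.ker = T₁.subgroupOf T := by
    ext t
    rw [MonoidHom.mem_ker, mem_subgroupOf]
    constructor
    · intro h
      apply hker
      rw [h]
      exact one_mem _
    · intro h
      have : ψ t ∈ (T₁.subgroupOf T).map ψ := ⟨t, mem_subgroupOf.mpr h, rfl⟩
      rw [h1, mem_bot] at this
      exact this
  refine ⟨?_, ?_⟩
  · intro t ht
    have h3 : (⟨t, hTT ht⟩ : T) ∈ ψ.ker := by rw [hkereq]; exact mem_subgroupOf.mpr ht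
    exact hψ1 _ h3
  · rw [relIndex, ← hkereq, index_ker, h2]

end Cfsg.Agent.Lib.Hughes
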