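import Cfsg.Agent.Lib.Hughes
import Cfsg.Agent.Lib.H31FPFNilp2
import Cfsg.Agent.Lib.Fitting
import Cfsg.Agent.Lib.H23Nilp
import Cfsg.Agent.Lib.PCoreTools

/-! Hughes subgroups II (helper9): Kegel's theorem, a normal subgroup `H` of prime index `p` such that all the elements
outside `H` have order `p` is nilpotent; the Hughes-Thompson theorem. -/

set_option autoImplicit false
open scoped commutatorElement

namespace Cfsg.Agent.Lib.Hughes

open Subgroup Cfsg Cfsg.Agent.Lib.ConjSylow Cfsg.Agent.Lib.PNilp

universe u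

theorem eq_one_of_commute {G : Type*} [Group G] {p : ℕ} {H : Subgroup G} (hH : ∀ g : G, g ∉ H → g ^ p = 1) {x k : G}
    (hx : x ∉ H) (hk : (orderOf k).Coprime p) (hc : x * k = k * x) : k = 1 := by
  have hkp : k ^ p = 1 := by
    by_cases hkH : k ∈ H
    · have h1 : k * x ∉ H := fun h => hx (by
        have := mul_mem (inv_mem hkH) h
        rwa [inv_mul_cancel_left] at this)
      have h2 := hH _ h1
      have h3 : Commute k x := hc.symm
      rw [h3.mul_pow, hH x hx, mul_one] at h2
      exact h2
    · exact hH k hkH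
  have h1 : orderOf k ∣ p := orderOf_dvd_of_pow_eq_one hkp
  exact orderOf_eq_one_iff.mp (Nat.Coprime.eq_one_of_dvd hk h1)

theorem normal_of_isSylowIn {G : Type*} [Group G] [Finite G] {q : ℕ} [hq : Fact q.Prime] {H A : Subgroup G} [H.Normal]
    (hHn : Group.IsNilpotent H) (hA : IsSylowIn q A H) : A.Normal := by
  have h1 : (hA.toSylow : Subgroup H).Normal := (Group.isNilpotent_of_finite_tfae.out 0 3 rfl rfl).mp hHn q hq _
  have h2 := Sylow.characteristic_of_normal _ h1
  have h3 : ((hA.toSylow : Subgroup H)).map H.subtype = A := by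
    rw [hA.coe_toSylow]
    exact map_subgroupOf_eq_of_le hA.1
  rw [← h3]
  infer_instance

/-- the order of an element of a subgroup of order prime to `p` -/
theorem orderOf_coprime_of_mem {G : Type*} [Group G] [Finite G] {p : ℕ} {K : Subgroup G} (hK : (Nat.card K).Coprime p)
    {y : G} (hy : y ∈ K) : (orderOf y).Coprime p := by
  apply Nat.Coprime.coprime_dvd_left _ hK
  rw [← Subgroup.orderOf_mk y hy]
  exact orderOf_dvd_natCard _

/-- Claim 1: if `H` has a normal `p`-complement, it is nilpotent. -/
theorem nilpotent_of_npc {G : Type u} [Group G] [Finite G] {p : ℕ} [hp : Fact p.Prime] {H : Subgroup G} [hHn : H.Normal]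
    (hidx : H.index = p) (hH : ∀ g : G, g ∉ H → g ^ p = 1) (hnpc : HasNormalPComplement p H) :
    Group.IsNilpotent H := by
  rw [hasNormalPComplement_iff_pResidual] at hnpc
  have hchar := pResidual_characteristic (G := H) p
  obtain ⟨K, hKdef⟩ : ∃ K : Subgroup G, K = (pResidual p H).map H.subtype := ⟨_, rfl⟩
  have hKn : K.Normal := by rw [hKdef]; infer_instance
  have hKH : K ≤ H := by rw [hKdef]; exact map_subtype_le _
  have hKc : Nat.card K = Nat.card (pResidual p H) := by
    rw [hKdef]; exact card_map_of_injective H.subtype_injective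
  have hKp : (Nat.card K).Coprime p := by
    rw [hKc]
    exact ((Nat.Prime.coprime_iff_not_dvd hp.out).mpr hnpc).symm
  obtain ⟨P⟩ : Nonempty (Sylow p G) := inferInstance
  have hPH : ¬ (P : Subgroup G) ≤ H := by
    intro h
    apply P.not_dvd_index
    have := index_dvd_of_le h
    rwa [hidx] at this
  obtain ⟨x, hxP, hxH⟩ := SetLike.not_le_iff_exists.mp hPH
  -- `K` is nilpotent
  have hKnil : Group.IsNilpotent K := by
    have hα : ∀ k : K, ((MulAut.conjNormal x k : K) : G) = x * k * x⁻¹ := fun k => rfl
    apply H31FPFNilp2.isNilpotent hp.out (MulAut.conjNormal x : MulAut K)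
    · intro k hk
      have h1 := congrArg Subtype.val hk
      have h2 : x * (k : G) * x⁻¹ = k := h1
      have h3 : x * (k : G) = k * x := by
        calc x * (k : G) = (x * k * x⁻¹) * x := by group
          _ = k * x := by rw [h2]
      exact Subtype.ext (eq_one_of_commute hH hxH (orderOf_coprime_of_mem hKp k.2) h3)
    · rw [← map_pow, hH x hxH, map_one]
  -- `P ⊓ H` centralizes the Sylow subgroups of `K`
  have hcent : ∀ (q : ℕ) (_ : Fact q.Prime) (Q : Sylow q K),
      (P : Subgroup G) ⊓ H ≤ centralizer (((Q : Subgroup K).map K.subtype : Subgroup G) : Set G) := by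
    intro q hq Q
    set Q0 : Subgroup G := (Q : Subgroup K).map K.subtype with hQ0
    by_cases hQ1 : Q0 = ⊥
    · rw [hQ1]
      intro y _
      rw [mem_centralizer_iff]
      intro z hz
      have : z = 1 := hz
      rw [this, one_mul, mul_one]
    have hQs : IsSylowIn q Q0 K := isSylowIn_of_sylow Q
    have hQn : Q0.Normal := normal_of_isSylowIn hKnil hQs
    have hQcop : (Nat.card Q0).Coprime p := Nat.Coprime.coprime_dvd_left (card_dvd_of_le hQs.1) hKp
    have hsolv : Group.IsSolvable Q0 := by
      have := hQs.2.1.isNilpotent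
      infer_instance
    have hLE := centralizes_and_index (T := (P : Subgroup G)) (T₁ := (P : Subgroup G) ⊓ H) (Q := Q0) P.2 inf_le_left
      (by
        intro g hg
        apply mem_normalizer_of_forall
        rintro y ⟨hy1, hy2⟩
        exact ⟨(P : Subgroup G).mul_mem ((P : Subgroup G).mul_mem hg hy1) ((P : Subgroup G).inv_mem hg),
          hHn.conj_mem y hy2 g⟩)
      (by
        intro h
        exact hPH (inf_eq_left.mp h)) hsolv hQ1 hQcop le_normalizer_of_normal
      (by
        intro y hyP hy
        have hyH : y ∉ H := fun h => hy ⟨hyP, h⟩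
        refine ⟨hH y hyH, ?_⟩
        intro z hz hyz
        exact eq_one_of_commute hH hyH (orderOf_coprime_of_mem hQcop hz) hyz)
    exact hLE.1
  have hcK : (P : Subgroup G) ⊓ H ≤ centralizer (K : Set G) := by
    rw [le_centralizer_iff]
    have h1 : (centralizer (((P : Subgroup G) ⊓ H : Subgroup G) : Set G)).subgroupOf K = ⊤ := by
      apply FPFNilp.eq_top_of_sylow_le
      intro q hq
      obtain ⟨Q⟩ : Nonempty (Sylow q K) := inferInstance
      refine ⟨Q, ?_⟩
      intro y hy
      rw [mem_subgroupOf]
      have h2 := hcent q hq Q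
      rw [le_centralizer_iff] at h2
      exact h2 ⟨y, hy, rfl⟩
    rw [subgroupOf_eq_top] at h1
    exact h1
  -- conclusion
  have hS : IsSylowIn p ((P : Subgroup G) ⊓ H) H := (sylow_isSylowIn_top P).inf le_top le_normalizer_of_normal
  have hsup := sylow_sup_pResidual hS.toSylow
  have hSn : (hS.toSylow : Subgroup H).Normal := by
    rw [← normalizer_eq_top_iff, eq_top_iff, ← hsup]
    apply sup_le le_normalizer
    refine le_trans ?_ (centralizer_le_normalizer _)
    intro y hy
    rw [mem_centralizer_iff]
    intro z hz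
    have hyK : (y : G) ∈ K := by rw [hKdef]; exact ⟨y, hy, rfl⟩
    have hz' : (z : G) ∈ (P : Subgroup G) ⊓ H := by
      have : z ∈ (hS.toSylow : Subgroup H) := hz
      rw [hS.coe_toSylow] at this
      exact mem_subgroupOf.mp this
    exact Subtype.ext (mem_centralizer_iff.mp (hcK hz') y hyK).symm
  have hSnil : Group.IsNilpotent (hS.toSylow : Subgroup H) := (hS.toSylow).2.isNilpotent
  have hRnil : Group.IsNilpotent (pResidual p H) := by
    let e : (pResidual p H) ≃* K := ((pResidual p H).equivMapOfInjective H.subtype H.subtype_injective).trans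
      (MulEquiv.subgroupCongr hKdef.symm)
    exact Group.nilpotent_of_mulEquiv e.symm
  have h := H23Nilp.isNilpotent_sup hSnil hRnil
  rw [hsup] at h
  exact Group.nilpotent_of_mulEquiv Subgroup.topEquiv

/-- the norm of `x` on an abelian subgroup `V ≤ H` -/
theorem norm_pow {G : Type*} [Group G] {V : Subgroup G} [V.Normal] [hV : IsMulCommutative V] (x : G) (v : V) (n : ℕ) :
    letI : CommGroup V := { (inferInstance : Group V) with mul_comm := hV.is_comm.comm }
    (((∏ i ∈ Finset.range n, ((MulAut.conjNormal x : MulAut V) ^ i) v : V) : G)) * x ^ n = ((v : G) * x) ^ n := by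
  let _ : CommGroup V := { (inferInstance : Group V) with mul_comm := hV.is_comm.comm }
  have hpow : ∀ i : ℕ, ((((MulAut.conjNormal x : MulAut V) ^ i) v : V) : G) = x ^ i * v * (x ^ i)⁻¹ := by
    intro i
    rw [← map_pow]
    rfl
  induction n with
  | zero => simp
  | succ n ih =>
    rw [Finset.prod_range_succ, pow_succ ((v : G) * x), ← ih]
    have h1 : ∀ a b : V, ((a * b : V) : G) = (a : G) * b := fun _ _ => rfl
    rw [h1, hpow, pow_succ]
    group

/-- Claim 2: a minimal normal `p`-subgroup with nilpotent quotient. -/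
theorem nilpotent_of_minimal {G : Type u} [Group G] [Finite G] {p : ℕ} [hp : Fact p.Prime] {H : Subgroup G} [hHn : H.Normal]
    (hidx : H.index = p) (hH : ∀ g : G, g ∉ H → g ^ p = 1) {V : Subgroup G} [hVn : V.Normal] (hVH : V ≤ H)
    (hV1 : V ≠ ⊥) (hVp : IsPGroup p V) (hVmin : ∀ K : Subgroup G, K.Normal → K ≤ V → K = ⊥ ∨ K = V)
    (hquot : Group.IsNilpotent (H.map (QuotientGroup.mk' V))) : Group.IsNilpotent H := by
  have hVsolv : Group.IsSolvable V := by
    have := hVp.isNilpotent
    infer_instance
  obtain ⟨hVab, _⟩ := Fitting.minimal_normal_solvable hV1 hVsolv hVmin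
  have hcV : ∀ a ∈ V, ∀ b ∈ V, a * b = b * a := fun a ha b hb =>
    congrArg Subtype.val (hVab.is_comm.comm ⟨a, ha⟩ ⟨b, hb⟩)
  have hHbn : (H.map (QuotientGroup.mk' V)).Normal := hHn.map _ (QuotientGroup.mk'_surjective V)
  -- `V Q` is normal in `G`
  have hL : ∀ (q : ℕ) (_ : Fact q.Prime) (Q : Subgroup G), IsSylowIn q Q H → (Q ⊔ V).Normal := by
    intro q hq Q hQ
    have h1 : IsSylowIn q (Q.map (QuotientGroup.mk' V)) (H.map (QuotientGroup.mk' V)) := by
      refine ⟨map_mono hQ.1, hQ.2.1.map _, fun hd => hQ.2.2 (hd.trans ?_)⟩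
      rw [relIndex_map_map, QuotientGroup.ker_mk', sup_eq_left.mpr hVH]
      exact relIndex_dvd_of_le_left _ le_sup_left
    have h2 := normal_of_isSylowIn hquot h1
    have h3 : (Q.map (QuotientGroup.mk' V)).comap (QuotientGroup.mk' V) = Q ⊔ V := by
      rw [comap_map_eq, QuotientGroup.ker_mk']
    rw [← h3]
    exact h2.comap _
  have hsyl : ∀ (q : ℕ) (_ : Fact q.Prime) (Q : Subgroup G), IsSylowIn q Q H → Q.Normal := by
    intro q hq Q hQ
    have hLn := hL q hq Q hQ
    by_cases hqp : q = p
    · subst hqp
      have h1 : V ≤ Q := by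
        have h2 : V.subgroupOf H ≤ (hQ.toSylow : Subgroup H) :=
          IsPGroup.le_sylow_of_normal (hVp.comap_subtype) hQ.toSylow
        rw [hQ.coe_toSylow] at h2
        intro v hv
        exact mem_subgroupOf.mp (h2 (show (⟨v, hVH hv⟩ : H) ∈ V.subgroupOf H from mem_subgroupOf.mpr hv))
      rwa [sup_eq_left.mpr h1] at hLn
    · have hLH : Q ⊔ V ≤ H := sup_le hQ.1 hVH
      have hQL : IsSylowIn q Q (Q ⊔ V) := hQ.mono le_sup_left hLH
      have hfr : normalizer (Q : Set G) ⊔ (Q ⊔ V) = ⊤ := by
        have h1 := Sylow.normalizer_sup_eq_top hQL.toSylow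
        have h2 : ((hQL.toSylow : Subgroup (Q ⊔ V : Subgroup G)) : Subgroup (Q ⊔ V : Subgroup G)).map (Q ⊔ V).subtype = Q := by
          rw [hQL.coe_toSylow]
          exact map_subgroupOf_eq_of_le hQL.1
        rw [h2] at h1
        exact h1
      have hNH : ¬ normalizer (Q : Set G) ≤ H := by
        intro h
        have h1 : (⊤ : Subgroup G) ≤ H := by rw [← hfr]; exact sup_le h hLH
        rw [top_le_iff] at h1
        rw [h1, index_top] at hidx
        exact hp.out.one_lt.ne hidx
      obtain ⟨x, hxN, hxH⟩ := SetLike.not_le_iff_exists.mp hNH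
      have hNV : normalizer (Q : Set G) ⊔ V = ⊤ := by
        rw [eq_top_iff, ← hfr]
        exact sup_le le_sup_left (sup_le (le_normalizer.trans le_sup_left) le_sup_right)
      -- `C_V(Q)`
      have hWn : (V ⊓ centralizer (Q : Set G)).Normal := by
        rw [← normalizer_eq_top_iff, eq_top_iff, ← hNV]
        apply sup_le
        · intro g hg
          apply mem_normalizer_of_forall
          rintro y ⟨hy1, hy2⟩
          refine ⟨hVn.conj_mem y hy1 g, ?_⟩
          replace hy2 : y ∈ centralizer (Q : Set G) := hy2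
          rw [mem_centralizer_iff] at hy2
          change g * y * g⁻¹ ∈ centralizer (Q : Set G)
          rw [mem_centralizer_iff]
          intro z hz
          have hz' : g⁻¹ * z * g ∈ Q := (mem_normalizer_iff''.mp hg z).mp hz
          have h1 := hy2 _ hz'
          calc z * (g * y * g⁻¹) = g * ((g⁻¹ * z * g) * y) * g⁻¹ := by group
            _ = g * (y * (g⁻¹ * z * g)) * g⁻¹ := by rw [h1]
            _ = g * y * g⁻¹ * z := by group
        · refine le_trans ?_ (centralizer_le_normalizer _)
          intro v hv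
          rw [mem_centralizer_iff]
          rintro y ⟨hy1, _⟩
          exact hcV y hy1 v hv
      have hQcard : ∃ k, Nat.card Q = q ^ k := IsPGroup.iff_card.mp hQ.2.1
      have hQcop : (Nat.card Q).Coprime p := by
        obtain ⟨k, hk⟩ := hQcard
        rw [hk]
        exact Nat.Coprime.pow_left _ ((Nat.coprime_primes hq.out hp.out).mpr hqp)
      rcases hVmin _ hWn inf_le_left with hW | hW
      · -- the Frobenius identity
        exfalso
        let _ : CommGroup V := { (inferInstance : Group V) with mul_comm := hVab.is_comm.comm }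
        let a : Q →* MulAut V := MulAut.conjNormal.comp Q.subtype
        let α : MulAut Q := PCoreTools.conjAut x hxN
        let β : MulAut V := MulAut.conjNormal x
        have ha : ∀ (k : Q) (w : V), ((a k w : V) : G) = k * w * (k : G)⁻¹ := fun _ _ => rfl
        have hα : ∀ k : Q, ((α k : Q) : G) = x * k * x⁻¹ := fun k => PCoreTools.conjAut_coe x hxN k
        have hβ : ∀ w : V, ((β w : V) : G) = x * w * x⁻¹ := fun _ => rfl
        have hxp := hH x hxH
        have hαn : ∀ (n : ℕ) (k : Q), ((((α ^ n) k : Q)) : G) = x ^ n * k * (x ^ n)⁻¹ := by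
          intro n
          induction n with
          | zero => intro k; simp
          | succ n ih =>
            intro k
            rw [pow_succ', MulAut.mul_apply, hα, ih, pow_succ']
            group
        have hid : ∀ w : V, w ^ Nat.card Q = 1 := by
          refine norm_identity hp.out a α β ?_ ?_ ?_ ?_ ?_
          · intro k w
            apply Subtype.ext
            rw [hβ, ha, ha, hα, hβ]
            group
          · ext k
            rw [hαn, hxp]
            simp
          · intro k hk
            have h1 := congrArg Subtype.val hk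
            rw [hα] at h1
            have h3 : x * (k : G) = k * x := by
              calc x * (k : G) = (x * k * x⁻¹) * x := by group
                _ = k * x := by rw [h1]
            exact Subtype.ext (eq_one_of_commute hH hxH (orderOf_coprime_of_mem hQcop k.2) h3)
          · intro w
            have h1 := norm_pow x w p
            have hwx : (w : G) * x ∉ H := fun h => hxH (by
              have := mul_mem (inv_mem (hVH w.2)) h
              rwa [inv_mul_cancel_left] at this)
            rw [hH _ hwx, hxp, mul_one] at h1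
            exact Subtype.ext h1
          · intro w hw
            have h1 : (w : G) ∈ V ⊓ centralizer (Q : Set G) := by
              refine ⟨w.2, ?_⟩
              change (w : G) ∈ centralizer (Q : Set G)
              rw [mem_centralizer_iff]
              intro y hy
              have h2 := congrArg Subtype.val (hw ⟨y, hy⟩)
              rw [ha] at h2
              calc y * (w : G) = (y * w * y⁻¹) * y := by group
                _ = w * y := by rw [show y * (w : G) * y⁻¹ = w from h2]
            rw [hW, mem_bot] at h1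
            exact Subtype.ext h1
        apply hV1
        rw [eq_bot_iff]
        intro v hv
        rw [mem_bot]
        have h1 := congrArg Subtype.val (hid ⟨v, hv⟩)
        have h2 : v ^ Nat.card Q = 1 := h1
        have h3 : orderOf v ∣ Nat.card Q := orderOf_dvd_of_pow_eq_one h2
        obtain ⟨m, hm⟩ := IsPGroup.iff_card.mp hVp
        have h4 : orderOf v ∣ p ^ m := by
          rw [← hm, ← Subgroup.orderOf_mk v hv]; exact orderOf_dvd_natCard _
        have h5 := Nat.dvd_gcd h3 h4
        rw [(hQcop.pow_right m)] at h5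
        exact orderOf_eq_one_iff.1 (Nat.dvd_one.1 h5)
      · -- `V` centralizes `Q`
        have hVC : V ≤ centralizer (Q : Set G) := by
          rw [← hW]; exact inf_le_right
        have hQn : (hQL.toSylow : Subgroup (Q ⊔ V : Subgroup G)).Normal := by
          rw [hQL.coe_toSylow, normal_subgroupOf_iff_le_normalizer le_sup_left]
          exact sup_le le_normalizer (hVC.trans (centralizer_le_normalizer _))
        have hQc := Sylow.characteristic_of_normal _ hQn
        have h2 : ((hQL.toSylow : Subgroup (Q ⊔ V : Subgroup G)) : Subgroup (Q ⊔ V : Subgroup G)).map (Q ⊔ V).subtype = Q := by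
          rw [hQL.coe_toSylow]
          exact map_subgroupOf_eq_of_le hQL.1
        rw [← h2]
        infer_instance
  refine (Group.isNilpotent_of_finite_tfae (G := H)).out 0 3 rfl rfl |>.mpr ?_
  intro q hq S
  have h1 := hsyl q hq _ (isSylowIn_of_sylow S)
  have h2 : ((S : Subgroup H).map H.subtype).subgroupOf H = S := by
    rw [Subgroup.subgroupOf, comap_map_eq_self_of_injective H.subtype_injective]
  rw [← h2]
  infer_instance

theorem abelian_of_two {G : Type*} [Group G] {H : Subgroup G} (hne : H ≠ ⊤) (hH : ∀ g : G, g ∉ H → g ^ 2 = 1) :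
    IsMulCommutative H := by
  obtain ⟨x, hx⟩ : ∃ x, x ∉ H := by
    by_contra hno
    push Not at hno
    exact hne (eq_top_iff.mpr fun g _ => hno g)
  have hinv : ∀ h ∈ H, x * h * x⁻¹ = h⁻¹ := by
    intro h hh
    have h1 : x * h ∉ H := fun hc => hx (by
      have := mul_mem hc (inv_mem hh)
      rwa [mul_inv_cancel_right] at this)
    have h2 := hH _ h1
    have h3 := hH _ hx
    rw [pow_two] at h2 h3
    have h4 : x⁻¹ = x := inv_eq_of_mul_eq_one_left h3
    rw [h4]
    exact eq_inv_of_mul_eq_one_left (by rw [← h2]; group)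
  rw [isMulCommutative_iff_of_setLike]
  intro a ha b hb
  have h1 := hinv _ (mul_mem ha hb)
  have h2 : x * (a * b) * x⁻¹ = (x * a * x⁻¹) * (x * b * x⁻¹) := by group
  rw [h2, hinv a ha, hinv b hb] at h1
  have h3 := congrArg (fun y => y⁻¹) h1
  simpa using h3.symm

theorem nilpotent_of_not_two {G : Type u} [Group G] [Finite G] {p : ℕ} [hp : Fact p.Prime] (hp2 : p ≠ 2) {H : Subgroup G}
    [hHn : H.Normal] (hidx : H.index = p) (hH : ∀ g : G, g ∉ H → g ^ p = 1)
    (hsub : ∀ M : Subgroup G, ¬ M ≤ H → M ≠ ⊤ → Group.IsNilpotent (H.subgroupOf M))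
    (hN : ∀ V : Subgroup G, V.Normal → V ≤ H → IsPGroup p V → V = ⊥) : Group.IsNilpotent H := by
  apply nilpotent_of_npc hidx hH
  obtain ⟨P⟩ : Nonempty (Sylow p G) := inferInstance
  have hPH : ¬ (P : Subgroup G) ≤ H := by
    intro h
    apply P.not_dvd_index
    have := index_dvd_of_le h
    rwa [hidx] at this
  have hS : IsSylowIn p ((P : Subgroup G) ⊓ H) H := (sylow_isSylowIn_top P).inf le_top le_normalizer_of_normal
  set R : Sylow p H := hS.toSylow with hR
  have hRmap : (R : Subgroup H).map H.subtype = (P : Subgroup G) ⊓ H := by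
    rw [hR, hS.coe_toSylow]
    exact map_subgroupOf_eq_of_le hS.1
  by_cases hR1 : (R : Subgroup H) = ⊥
  · apply hasNormalPComplement_of_not_dvd
    intro hd
    have h1 := R.not_dvd_index
    rw [hR1, index_bot] at h1
    exact h1 hd
  have hZeq : Cfsg.centerThompsonAOf (R : Subgroup H) =
      ZJThm.ZJ (fun A : Subgroup H => IsMulCommutative A) (R : Subgroup H) := ZJThm.centerThompsonAOf_eq _
  obtain ⟨Z, hZdef⟩ : ∃ Z : Subgroup H, Z = Cfsg.centerThompsonAOf (R : Subgroup H) := ⟨_, rfl⟩
  rw [← hZdef] at hZeq
  have hZle : Z ≤ (R : Subgroup H) := by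
    rw [hZeq]; exact (ZJThm.fam_ab (p := p)).ZJ_le_self _
  have hZmap : ∀ φ : MulAut H, (R : Subgroup H).map (φ : H →* H) = R → Z.map (φ : H →* H) = Z := by
    intro φ hφ
    have hφinj : Function.Injective (φ : H →* H) := φ.injective
    rw [hZeq, ClosedPS.ZJ_map_inj (f := (φ : H →* H)) hφinj (Q := fun A => IsMulCommutative A)
      (fun A => ThompsonJ.comm_map_iff hφinj A) (ThompsonJ.maxAb_nonempty _), hφ]
  have hZ1 : Z ≠ ⊥ := by
    have h1 : (⊤ : Subgroup (R : Subgroup H)) ≠ ⊥ := by
      intro h2
      apply hR1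
      rw [← Subgroup.card_eq_one, ← Subgroup.card_top, h2, Subgroup.card_bot]
    obtain ⟨z, -, hz1, hz⟩ := UniqueInvolution.exists_central_of_normal R.2 ⊤ h1
    intro h
    apply hz1
    have h2 : (z : H) ∈ Z := by
      rw [hZeq]
      show (z : H) ∈ sInf _
      rw [Subgroup.mem_sInf]
      intro A hA
      refine ThompsonJ.mem_of_centralizes_ab hA z.2 ?_
      rw [Subgroup.mem_centralizer_iff]
      intro x hx
      exact congrArg Subtype.val (hz ⟨x, hA.1 hx⟩)
    rw [h, Subgroup.mem_bot] at h2
    exact Subtype.ext h2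
  -- the normalizer of `Z` in `G`
  obtain ⟨Z', hZ'⟩ : ∃ Z' : Subgroup G, Z' = Z.map H.subtype := ⟨_, rfl⟩
  have hPN : (P : Subgroup G) ≤ normalizer (Z' : Set G) := by
    intro g hg
    apply mem_normalizer_of_forall
    intro y hy
    rw [hZ'] at hy ⊢
    obtain ⟨z, hz, rfl⟩ := hy
    have h1 : (R : Subgroup H).map ((MulAut.conjNormal g : MulAut H) : H →* H) = R := by
      have hle : (R : Subgroup H).map ((MulAut.conjNormal g : MulAut H) : H →* H) ≤ R := by
        rintro _ ⟨r, hr, rfl⟩
        have hr' : r ∈ (R : Subgroup H) := hr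
        rw [hR, hS.coe_toSylow, mem_subgroupOf] at hr' ⊢
        refine ⟨?_, Subtype.prop _⟩
        exact (P : Subgroup G).mul_mem ((P : Subgroup G).mul_mem hg hr'.1) ((P : Subgroup G).inv_mem hg)
      apply eq_of_le_of_card_ge hle
      have hinj : Function.Injective ((MulAut.conjNormal g : MulAut H) : H →* H) :=
        (MulAut.conjNormal g : MulAut H).injective
      rw [card_map_of_injective hinj]
    have h2 := hZmap _ h1
    have h3 : (MulAut.conjNormal g : MulAut H) z ∈ Z := by
      rw [← h2]; exact ⟨z, hz, rfl⟩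
    exact ⟨_, h3, rfl⟩
  have hMne : normalizer (Z' : Set G) ≠ ⊤ := by
    intro h
    have hn : Z'.Normal := normalizer_eq_top_iff.mp h
    have h1 := hN Z' hn (by rw [hZ']; exact map_subtype_le _) (by
      rw [hZ']
      exact (R.2.to_le hZle).map _)
    rw [hZ', Subgroup.map_eq_bot_iff_of_injective _ H.subtype_injective] at h1
    exact hZ1 h1
  have hnil := hsub (normalizer (Z' : Set G)) (fun h => hPH (hPN.trans h)) hMne
  have hnil2 : Group.IsNilpotent (normalizer (Z : Set H)) := by
    -- `N_H(Z)` embeds in `H ⊓ N_G(Z')`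
    have hmem : ∀ y : normalizer (Z : Set H), ((y : H) : G) ∈ normalizer (Z' : Set G) := by
      intro y
      apply mem_normalizer_of_forall
      intro w hw
      rw [hZ'] at hw ⊢
      obtain ⟨z, hz, rfl⟩ := hw
      exact ⟨(y : H) * z * (y : H)⁻¹, (mem_normalizer_iff.mp y.2 z).mp hz, rfl⟩
    let f : normalizer (Z : Set H) →* H.subgroupOf (normalizer (Z' : Set G)) :=
      { toFun := fun y => ⟨⟨((y : H) : G), hmem y⟩, mem_subgroupOf.mpr (y : H).2⟩
        map_one' := rfl
        map_mul' := fun _ _ => rfl }
    have hf : Function.Injective f := by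
      intro a b hab
      have h1 := congrArg (fun w : H.subgroupOf (normalizer (Z' : Set G)) => ((w : normalizer (Z' : Set G)) : G)) hab
      exact Subtype.ext (Subtype.ext h1)
    let e := MonoidHom.ofInjective hf
    exact Group.nilpotent_of_mulEquiv e.symm
  have hc := FPFNilp.normalComplement_of_nilpotent hnil2 p
  apply Cfsg.Agent.S0659.result hp2 R
  rw [← hZdef]
  exact hc

theorem kegel_aux (n : ℕ) : ∀ (G : Type u) [Group G] [Finite G], Nat.card G = n → ∀ (p : ℕ) [hp : Fact p.Prime]
    (H : Subgroup G) [H.Normal], H.index = p → (∀ g : G, g ∉ H → g ^ p = 1) → Group.IsNilpotent H := by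
  induction n using Nat.strong_induction_on with
  | _ n ih =>
    intro G _ _ hn p hp H hHn hidx hH
    by_cases hp2 : p = 2
    · subst hp2
      have := abelian_of_two (H := H) (by
        intro h
        rw [h, index_top] at hidx
        omega) hH
      letI : CommGroup H := { (inferInstance : Group H) with mul_comm := this.is_comm.comm }
      exact CommGroup.isNilpotent
    by_cases hV : ∀ V : Subgroup G, V.Normal → V ≤ H → IsPGroup p V → V = ⊥
    · apply nilpotent_of_not_two hp2 hidx hH _ hV
      intro M hM hMt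
      have hlt : Nat.card M < n := by
        rw [← hn]
        exact lt_of_le_of_ne (card_le_card_group M) fun h => hMt (eq_top_of_card_eq _ h)
      apply ih _ hlt M rfl p (H.subgroupOf M)
      · have h1 : H.relIndex M ∣ p := hidx ▸ relIndex_dvd_index_of_normal H M
        rcases (Nat.dvd_prime hp.out).mp h1 with h2 | h2
        · exact absurd (relIndex_eq_one.mp h2) hM
        · exact h2
      · intro g hg
        rw [mem_subgroupOf] at hg
        exact Subtype.ext (hH g hg)
    · push Not at hV
      obtain ⟨V0, hV01, hV02, hV03, hV04⟩ := hV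
      have hne : ({N : Subgroup G | N.Normal ∧ N ≠ ⊥ ∧ N ≤ V0}).Nonempty := ⟨V0, hV01, hV04, le_rfl⟩
      obtain ⟨V, hVm⟩ := (Set.toFinite {N : Subgroup G | N.Normal ∧ N ≠ ⊥ ∧ N ≤ V0}).exists_minimal hne
      obtain ⟨hVn, hVne, hVV0⟩ := hVm.prop
      have hVmin : ∀ K : Subgroup G, K.Normal → K ≤ V → K = ⊥ ∨ K = V := by
        intro K hK hKN
        by_cases hb : K = ⊥
        · exact Or.inl hb
        · exact Or.inr (le_antisymm hKN (hVm.le_of_le ⟨hK, hb, hKN.trans hVV0⟩ hKN))
      have hVH := hVV0.trans hV02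
      apply nilpotent_of_minimal hidx hH hVH hVne (hV03.to_le hVV0) hVmin
      have hlt : Nat.card (G ⧸ V) < n := by
        have h1 := Subgroup.card_mul_index V
        have h2 : 1 < Nat.card V := (Subgroup.one_lt_card_iff_ne_bot V).mpr hVne
        have h3 : Nat.card (G ⧸ V) = V.index := rfl
        have h4 : 0 < V.index := Nat.pos_of_ne_zero Subgroup.index_ne_zero_of_finite
        rw [h3, ← hn]
        nlinarith
      have hn' : (H.map (QuotientGroup.mk' V)).Normal := hHn.map _ (QuotientGroup.mk'_surjective V)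
      apply ih _ hlt (G ⧸ V) rfl p (H.map (QuotientGroup.mk' V))
      · rw [index_map_eq _ (QuotientGroup.mk'_surjective V) (by rw [QuotientGroup.ker_mk']; exact hVH)]
        exact hidx
      · intro g hg
        obtain ⟨g, rfl⟩ := QuotientGroup.mk'_surjective V g
        have hg' : g ∉ H := fun h => hg ⟨g, h, rfl⟩
        rw [← map_pow, hH g hg', map_one]

/-- **Kegel's theorem**. -/
theorem kegel {G : Type u} [Group G] [Finite G] {p : ℕ} [hp : Fact p.Prime] (H : Subgroup G) [H.Normal]
    (hidx : H.index = p) (hH : ∀ g : G, g ∉ H → g ^ p = 1) : Group.IsNilpotent H :=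
  kegel_aux _ G rfl p H hidx hH

/-- **Hughes-Thompson**: the index of a proper Hughes subgroup of a group which is not a `p`-group. -/
theorem index_eq {G : Type u} [Group G] [Finite G] {p : ℕ} [hp : Fact p.Prime] (hG : ¬ IsPGroup p G) (H : Subgroup G)
    [hHn : H.Normal] (hne : H ≠ ⊤) (hH : ∀ g : G, g ∉ H → g ^ p = 1) : H.index = p := by
  -- the index is a power of `p`
  have hquot : IsPGroup p (G ⧸ H) := by
    intro g
    obtain ⟨g, rfl⟩ := QuotientGroup.mk_surjective g
    refine ⟨1, ?_⟩
    rw [pow_one]
    by_cases hg : g ∈ H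
    · rw [(QuotientGroup.eq_one_iff g).mpr hg, one_pow]
    · rw [← QuotientGroup.mk_pow, hH g hg]; rfl
  obtain ⟨k, hk⟩ := IsPGroup.iff_card.mp hquot
  have hidx : H.index = p ^ k := hk
  have hk0 : k ≠ 0 := by
    rintro rfl
    rw [pow_zero, index_eq_one] at hidx
    exact hne hidx
  -- a prime `q ≠ p`
  obtain ⟨q, hq, hqp, hqG⟩ : ∃ q : ℕ, q.Prime ∧ q ≠ p ∧ q ∣ Nat.card G := by
    by_contra hno
    push Not at hno
    apply hG
    apply IsPGroup.of_card (n := (Nat.card G).primeFactorsList.length)
    exact Nat.eq_prime_pow_of_unique_prime_dvd Nat.card_pos.ne' (fun {d} hd hdd => by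
      by_contra hdp
      exact hno d hd hdp hdd)
  have : Fact q.Prime := ⟨hq⟩
  have hqH : q ∣ Nat.card H := by
    rw [← H.card_mul_index, hidx] at hqG
    rcases (Nat.Prime.dvd_mul hq).mp hqG with h | h
    · exact h
    · exact absurd ((Nat.prime_dvd_prime_iff_eq hq hp.out).mp (hq.dvd_of_dvd_pow h)) hqp
  obtain ⟨Q, hQ⟩ := exists_isSylowIn q H
  have hQ1 : Q ≠ ⊥ := by
    intro h
    have := hQ.2.2
    rw [h, relIndex_bot_left] at this
    exact this hqH
  have hfr : normalizer (Q : Set G) ⊔ H = ⊤ := by
    have h1 := Sylow.normalizer_sup_eq_top hQ.toSylow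
    have h2 : ((hQ.toSylow : Subgroup H)).map H.subtype = Q := by
      rw [hQ.coe_toSylow]
      exact map_subgroupOf_eq_of_le hQ.1
    rw [h2] at h1
    exact h1
  set N := normalizer (Q : Set G) with hN
  obtain ⟨T, hT⟩ := exists_isSylowIn p N
  -- `T H = G`
  have hNT : N ≤ T ⊔ H := by
    have h1 : ((T ⊔ H) ⊓ N).relIndex N ∣ T.relIndex N := relIndex_dvd_of_le_left N (le_inf le_sup_left hT.1)
    have h2 : ((T ⊔ H) ⊓ N).relIndex N ∣ H.relIndex N := by
      rw [inf_relIndex_right]
      exact relIndex_dvd_of_le_left N le_sup_right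
    have h3 : H.relIndex N ∣ p ^ k := hidx ▸ relIndex_dvd_index_of_normal H N
    obtain ⟨j, _, hj⟩ := (Nat.dvd_prime_pow hp.out).mp (h2.trans h3)
    have hj0 : j = 0 := by
      by_contra hj0
      apply hT.2.2
      refine dvd_trans ?_ h1
      rw [hj]
      exact dvd_pow_self p hj0
    rw [hj0, pow_zero, relIndex_eq_one] at hj
    exact hj.trans inf_le_left
  have hTH : T ⊔ H = ⊤ := by
    rw [eq_top_iff, ← hfr]
    exact sup_le hNT le_sup_right
  have hrel : (T ⊓ H).relIndex T = H.index := by
    rw [inf_relIndex_left, ← relIndex_sup_right, hTH, relIndex_top_right]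
  have hsolv : Group.IsSolvable Q := by
    have := hQ.2.1.isNilpotent
    infer_instance
  have hQcop : (Nat.card Q).Coprime p := by
    obtain ⟨m, hm⟩ := IsPGroup.iff_card.mp hQ.2.1
    rw [hm]
    exact Nat.Coprime.pow_left _ ((Nat.coprime_primes hq hp.out).mpr hqp)
  have hLE := centralizes_and_index (T := T) (T₁ := T ⊓ H) (Q := Q) hT.2.1 inf_le_left
    (by
      intro g hg
      apply mem_normalizer_of_forall
      rintro y ⟨hy1, hy2⟩
      exact ⟨T.mul_mem (T.mul_mem hg hy1) (T.inv_mem hg), hHn.conj_mem y hy2 g⟩)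
    (by
      intro h
      rw [h, relIndex_self, hidx] at hrel
      have h1 : 1 < p ^ k := Nat.one_lt_pow hk0 hp.out.one_lt
      omega) hsolv hQ1 hQcop hT.1
    (by
      intro y hyT hy
      have hyH : y ∉ H := fun h => hy ⟨hyT, h⟩
      refine ⟨hH y hyH, ?_⟩
      intro z hz hyz
      exact eq_one_of_commute hH hyH (orderOf_coprime_of_mem hQcop hz) hyz)
  rw [← hrel]
  exact hLE.2

end Cfsg.Agent.Lib.Hughes
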