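import Mathlib
import Cfsg.Prelude.Def_Solvable

/-!
# Transitive linear groups over prime fields: the field generated by a normal abelian subgroup (helper61)
-/

set_option autoImplicit false

namespace Cfsg.Agent.Lib.HupA

variable {q : ℕ} [hq : Fact q.Prime] {V : Type*} [AddCommGroup V] [Module (ZMod q) V]
  {G : Type*} [Group G]

/-- the endomorphism given by a group element -/
def en (ρ : G →* (V ≃ₗ[ZMod q] V)) (g : G) : Module.End (ZMod q) V := ((ρ g : V ≃ₗ[ZMod q] V) : V →ₗ[ZMod q] V)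

theorem en_apply (ρ : G →* (V ≃ₗ[ZMod q] V)) (g : G) (v : V) : en ρ g v = ρ g v := rfl

theorem en_mul (ρ : G →* (V ≃ₗ[ZMod q] V)) (g h : G) : en ρ (g * h) = en ρ g * en ρ h := by
  ext v; simp [en]

theorem en_one (ρ : G →* (V ≃ₗ[ZMod q] V)) : en ρ 1 = 1 := by
  ext v; simp [en]

theorem en_pow (ρ : G →* (V ≃ₗ[ZMod q] V)) (g : G) (n : ℕ) : en ρ (g ^ n) = en ρ g ^ n := by
  induction n with
  | zero => simp [en_one]
  | succ n ih => rw [pow_succ, pow_succ, en_mul, ih]

theorem en_inj {ρ : G →* (V ≃ₗ[ZMod q] V)} (hρ : Function.Injective ρ) {g h : G} (he : en ρ g = en ρ h) : g = h := by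
  apply hρ
  ext v
  exact congrArg (fun f : Module.End (ZMod q) V => f v) he

theorem inv_apply_apply (ρ : G →* (V ≃ₗ[ZMod q] V)) (g : G) (v : V) : ρ g⁻¹ (ρ g v) = v := by
  have h : ρ g⁻¹ * ρ g = 1 := by rw [← map_mul, inv_mul_cancel, map_one]
  exact congrArg (fun f : V ≃ₗ[ZMod q] V => f v) h

theorem apply_inv_apply (ρ : G →* (V ≃ₗ[ZMod q] V)) (g : G) (v : V) : ρ g (ρ g⁻¹ v) = v := by
  have h : ρ g * ρ g⁻¹ = 1 := by rw [← map_mul, mul_inv_cancel, map_one]
  exact congrArg (fun f : V ≃ₗ[ZMod q] V => f v) h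

theorem mul_apply (ρ : G →* (V ≃ₗ[ZMod q] V)) (g h : G) (v : V) : ρ (g * h) v = ρ g (ρ h v) := by
  rw [map_mul]; rfl

theorem en_inv_mul (ρ : G →* (V ≃ₗ[ZMod q] V)) (g : G) : en ρ g⁻¹ * en ρ g = 1 := by
  rw [← en_mul, inv_mul_cancel, en_one]

theorem en_mul_inv (ρ : G →* (V ≃ₗ[ZMod q] V)) (g : G) : en ρ g * en ρ g⁻¹ = 1 := by
  rw [← en_mul, mul_inv_cancel, en_one]

/-- the algebra generated by a subgroup -/
def alg (ρ : G →* (V ≃ₗ[ZMod q] V)) (A : Subgroup G) : Subalgebra (ZMod q) (Module.End (ZMod q) V) :=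
  Algebra.adjoin (ZMod q) {e | ∃ a ∈ A, e = en ρ a}

theorem en_mem_alg (ρ : G →* (V ≃ₗ[ZMod q] V)) {A : Subgroup G} {a : G} (ha : a ∈ A) : en ρ a ∈ alg ρ A :=
  Algebra.subset_adjoin ⟨a, ha, rfl⟩

theorem alg_mono (ρ : G →* (V ≃ₗ[ZMod q] V)) {A B : Subgroup G} (h : A ≤ B) : alg ρ A ≤ alg ρ B :=
  Algebra.adjoin_mono (fun _ ⟨a, ha, he⟩ => ⟨a, h ha, he⟩)

theorem commute_of_mem_alg (ρ : G →* (V ≃ₗ[ZMod q] V)) {A : Subgroup G} {y : Module.End (ZMod q) V}
    (hy : ∀ a ∈ A, y * en ρ a = en ρ a * y) {x : Module.End (ZMod q) V} (hx : x ∈ alg ρ A) : y * x = x * y := by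
  refine Algebra.adjoin_induction (p := fun x _ => y * x = x * y) ?_ ?_ ?_ ?_ hx
  · rintro _ ⟨a, ha, rfl⟩
    exact hy a ha
  · intro r
    exact (Algebra.commutes r y).symm
  · intro a b _ _ h1 h2
    rw [mul_add, add_mul, h1, h2]
  · intro a b _ _ h1 h2
    rw [← mul_assoc, h1, mul_assoc, h2, mul_assoc]

theorem alg_comm (ρ : G →* (V ≃ₗ[ZMod q] V)) {A : Subgroup G} (hA : ∀ a ∈ A, ∀ b ∈ A, a * b = b * a)
    {x y : Module.End (ZMod q) V} (hx : x ∈ alg ρ A) (hy : y ∈ alg ρ A) : x * y = y * x := by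
  refine commute_of_mem_alg ρ ?_ hy
  intro a ha
  symm
  refine commute_of_mem_alg ρ ?_ hx
  intro b hb
  rw [← en_mul, ← en_mul, hA a ha b hb]

theorem conj_mem_alg (ρ : G →* (V ≃ₗ[ZMod q] V)) {A : Subgroup G} (g : G) (hg : ∀ a ∈ A, g * a * g⁻¹ ∈ A)
    {x : Module.End (ZMod q) V} (hx : x ∈ alg ρ A) : en ρ g * x * en ρ g⁻¹ ∈ alg ρ A := by
  refine Algebra.adjoin_induction (p := fun x _ => en ρ g * x * en ρ g⁻¹ ∈ alg ρ A) ?_ ?_ ?_ ?_ hx
  · rintro _ ⟨a, ha, rfl⟩
    rw [← en_mul, ← en_mul]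
    exact en_mem_alg ρ (hg a ha)
  · intro r
    have : en ρ g * algebraMap (ZMod q) (Module.End (ZMod q) V) r * en ρ g⁻¹ = algebraMap (ZMod q) (Module.End (ZMod q) V) r := by
      rw [← Algebra.commutes r, mul_assoc, en_mul_inv, mul_one]
    rw [this]
    exact Subalgebra.algebraMap_mem _ r
  · intro a b _ _ h1 h2
    rw [mul_add, add_mul]
    exact add_mem h1 h2
  · intro a b _ _ h1 h2
    have : en ρ g * (a * b) * en ρ g⁻¹ = (en ρ g * a * en ρ g⁻¹) * (en ρ g * b * en ρ g⁻¹) := by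
      calc en ρ g * (a * b) * en ρ g⁻¹ = en ρ g * a * 1 * b * en ρ g⁻¹ := by simp only [mul_one, mul_assoc]
        _ = en ρ g * a * (en ρ g⁻¹ * en ρ g) * b * en ρ g⁻¹ := by rw [en_inv_mul]
        _ = _ := by simp only [mul_assoc]
    rw [this]
    exact mul_mem h1 h2

variable [Finite V]

/-- `G` is transitive on nonzero vectors. -/
def Tr (ρ : G →* (V ≃ₗ[ZMod q] V)) : Prop := ∀ v w : V, v ≠ 0 → w ≠ 0 → ∃ g : G, ρ g v = w

/-- The annihilator in the algebra. -/
def ann (ρ : G →* (V ≃ₗ[ZMod q] V)) (A : Subgroup G) (v : V) : Set (Module.End (ZMod q) V) :=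
  {c | c ∈ alg ρ A ∧ c v = 0}

theorem finite_end : Finite (Module.End (ZMod q) V) :=
  Finite.of_injective (fun f : Module.End (ZMod q) V => (f : V → V)) DFunLike.coe_injective

theorem ann_ncard_le (ρ : G →* (V ≃ₗ[ZMod q] V)) {A : Subgroup G} (hA : A.Normal) (v : V) (g : G) :
    (ann ρ A v).ncard ≤ (ann ρ A (ρ g v)).ncard := by
  have := finite_end (q := q) (V := V)
  refine Set.ncard_le_ncard_of_injOn (fun c => en ρ g * c * en ρ g⁻¹) ?_ ?_ (Set.toFinite _)
  · rintro c ⟨hc, hv⟩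
    refine ⟨conj_mem_alg ρ g (fun a ha => hA.conj_mem a ha g) hc, ?_⟩
    rw [Module.End.mul_apply, Module.End.mul_apply, en_apply ρ g⁻¹, inv_apply_apply, hv, map_zero]
  · intro a _ b _ hab
    simp only at hab
    have h2 : ∀ y : Module.End (ZMod q) V, en ρ g⁻¹ * (en ρ g * y * en ρ g⁻¹) * en ρ g = y := by
      intro y
      calc en ρ g⁻¹ * (en ρ g * y * en ρ g⁻¹) * en ρ g = (en ρ g⁻¹ * en ρ g) * y * (en ρ g⁻¹ * en ρ g) := by
            simp only [mul_assoc]
        _ = y := by rw [en_inv_mul, one_mul, mul_one]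
    rw [← h2 a, hab, h2]

theorem ann_ncard_eq {ρ : G →* (V ≃ₗ[ZMod q] V)} (ht : Tr ρ) {A : Subgroup G} (hA : A.Normal) {v w : V}
    (hv : v ≠ 0) (hw : w ≠ 0) : (ann ρ A v).ncard = (ann ρ A w).ncard := by
  obtain ⟨g, hg⟩ := ht v w hv hw
  obtain ⟨h, hh⟩ := ht w v hw hv
  apply le_antisymm
  · rw [← hg]; exact ann_ncard_le ρ hA v g
  · rw [← hh]; exact ann_ncard_le ρ hA w h

theorem ann_eq_of_subset {ρ : G →* (V ≃ₗ[ZMod q] V)} (ht : Tr ρ) {A : Subgroup G} (hA : A.Normal) {v w : V}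
    (hv : v ≠ 0) (hw : w ≠ 0) (h : ann ρ A v ⊆ ann ρ A w) : ann ρ A v = ann ρ A w := by
  have := finite_end (q := q) (V := V)
  exact Set.eq_of_subset_of_ncard_le h (ann_ncard_eq ht hA hw hv).le (Set.toFinite _)

/-- The algebra generated by a normal abelian subgroup acts freely on nonzero vectors. -/
theorem apply_ne_zero {ρ : G →* (V ≃ₗ[ZMod q] V)} (ht : Tr ρ) {A : Subgroup G} (hA : A.Normal)
    (hc : ∀ a ∈ A, ∀ b ∈ A, a * b = b * a) {k : Module.End (ZMod q) V} (hk : k ∈ alg ρ A) (hk0 : k ≠ 0)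
    {v : V} (hv : v ≠ 0) : k v ≠ 0 := by
  intro hkv
  obtain ⟨w, hw⟩ : ∃ w, k w ≠ 0 := by
    by_contra h
    push Not at h
    exact hk0 (LinearMap.ext h)
  have hw0 : w ≠ 0 := by rintro rfl; exact hw (map_zero k)
  have hku : k (v + w) = k w := by rw [map_add, hkv, zero_add]
  have hu0 : v + w ≠ 0 := by
    intro h
    rw [h, map_zero] at hku
    exact hw hku.symm
  have key : ∀ u : V, u ≠ 0 → k u ≠ 0 → ann ρ A u = ann ρ A (k u) := by
    intro u hu hku
    apply ann_eq_of_subset ht hA hu hku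
    rintro c ⟨hc1, hc2⟩
    refine ⟨hc1, ?_⟩
    rw [← Module.End.mul_apply, alg_comm ρ hc hc1 hk, Module.End.mul_apply, hc2, map_zero]
  have h1 : ann ρ A (v + w) = ann ρ A w := by
    rw [key _ hu0 (by rw [hku]; exact hw), hku, ← key w hw0 hw]
  have h2 : ann ρ A w ⊆ ann ρ A v := by
    intro c hcw
    have h3 : c ∈ ann ρ A (v + w) := h1 ▸ hcw
    refine ⟨hcw.1, ?_⟩
    have h4 := h3.2
    rw [map_add, hcw.2, add_zero] at h4
    exact h4
  have h5 := ann_eq_of_subset ht hA hw0 hv h2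
  have h6 : k ∈ ann ρ A w := by rw [h5]; exact ⟨hk, hkv⟩
  exact hw h6.2

/-- Data: `A` is a normal abelian subgroup of the group `G`, transitive on the nonzero vectors. -/
structure NA (ρ : G →* (V ≃ₗ[ZMod q] V)) (A : Subgroup G) : Prop where
  inj : Function.Injective ρ
  tr : Tr ρ
  normal : A.Normal
  comm : ∀ a ∈ A, ∀ b ∈ A, a * b = b * a

variable {ρ : G →* (V ≃ₗ[ZMod q] V)} {A : Subgroup G}

theorem NA.apply_ne_zero (h : NA ρ A) {k : Module.End (ZMod q) V} (hk : k ∈ alg ρ A) (hk0 : k ≠ 0)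
    {v : V} (hv : v ≠ 0) : k v ≠ 0 := HupA.apply_ne_zero h.tr h.normal h.comm hk hk0 hv

/-- commutative ring structure on the algebra -/
abbrev commRingK (h : NA ρ A) : CommRing (alg ρ A) :=
  { (inferInstance : Ring (alg ρ A)) with
    mul_comm := fun x y => Subtype.ext (alg_comm ρ h.comm x.2 y.2) }

theorem isDomain_alg [Nontrivial V] (h : NA ρ A) : IsDomain (alg ρ A) := by
  have : NoZeroDivisors (alg ρ A) := by
    constructor
    intro a b hab
    by_contra hne
    push Not at hne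
    obtain ⟨v, hv⟩ := exists_ne (0 : V)
    have h1 : (b : Module.End (ZMod q) V) ≠ 0 := fun h' => hne.2 (Subtype.ext h')
    have h2 : (a : Module.End (ZMod q) V) ≠ 0 := fun h' => hne.1 (Subtype.ext h')
    have h3 := h.apply_ne_zero a.2 h2 (h.apply_ne_zero b.2 h1 hv)
    apply h3
    rw [← Module.End.mul_apply]
    have h4 : (a : Module.End (ZMod q) V) * (b : Module.End (ZMod q) V) = 0 := by
      have := congrArg (fun x : alg ρ A => (x : Module.End (ZMod q) V)) hab
      simpa using this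
    rw [h4]; rfl
  exact NoZeroDivisors.to_isDomain _

theorem finite_alg : Finite (alg ρ A) := by
  have := finite_end (q := q) (V := V)
  infer_instance

/-- The field generated by a normal abelian subgroup. -/
noncomputable abbrev fieldK [Nontrivial V] (h : NA ρ A) : Field (alg ρ A) := by
  letI := commRingK h
  haveI := isDomain_alg h
  haveI := finite_alg (ρ := ρ) (A := A)
  let _ := Fintype.ofFinite (alg ρ A)
  classical
  exact Fintype.fieldOfDomain (alg ρ A)

theorem card_alg_eq (ρ : G →* (V ≃ₗ[ZMod q] V)) (A : Subgroup G) :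
    Nat.card (alg ρ A) = q ^ Module.finrank (ZMod q) (alg ρ A) := by
  have := finite_alg (ρ := ρ) (A := A)
  let _ := Fintype.ofFinite (alg ρ A)
  rw [Nat.card_eq_fintype_card, Module.card_eq_pow_finrank (K := ZMod q), ZMod.card]

theorem card_V_eq : Nat.card V = q ^ Module.finrank (ZMod q) V := by
  let _ := Fintype.ofFinite V
  rw [Nat.card_eq_fintype_card, Module.card_eq_pow_finrank (K := ZMod q), ZMod.card]

/-- `V` is a vector space over the field. -/
theorem exists_card_pow [Nontrivial V] (h : NA ρ A) : ∃ m : ℕ, 1 ≤ m ∧ Nat.card V = Nat.card (alg ρ A) ^ m ∧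
    Module.finrank (ZMod q) V = Module.finrank (ZMod q) (alg ρ A) * m := by
  have := finite_alg (ρ := ρ) (A := A)
  letI := fieldK h
  let _ := Fintype.ofFinite (alg ρ A)
  let _ := Fintype.ofFinite V
  letI : Module (alg ρ A) V := inferInstance
  haveI : IsScalarTower (ZMod q) (alg ρ A) V := inferInstance
  refine ⟨Module.finrank (alg ρ A) V, ?_, ?_, ?_⟩
  · exact Module.finrank_pos
  · rw [Nat.card_eq_fintype_card, Nat.card_eq_fintype_card]
    exact Module.card_eq_pow_finrank (K := alg ρ A)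
  · exact (Module.finrank_mul_finrank (ZMod q) (alg ρ A) V).symm

/-- conjugation on the algebra -/
noncomputable def conjAlg (hA : A.Normal) (g : G) : alg ρ A →ₐ[ZMod q] alg ρ A where
  toFun x := ⟨en ρ g * x * en ρ g⁻¹, conj_mem_alg ρ g (fun a ha => hA.conj_mem a ha g) x.2⟩
  map_one' := by
    apply Subtype.ext
    simp only [OneMemClass.coe_one, mul_one]
    exact en_mul_inv ρ g
  map_mul' := by
    intro a b
    apply Subtype.ext
    simp only [MulMemClass.coe_mul]
    calc en ρ g * ((a : Module.End (ZMod q) V) * b) * en ρ g⁻¹ = en ρ g * a * 1 * b * en ρ g⁻¹ := by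
            simp only [mul_one, mul_assoc]
        _ = en ρ g * a * (en ρ g⁻¹ * en ρ g) * b * en ρ g⁻¹ := by rw [en_inv_mul]
        _ = _ := by simp only [mul_assoc]
  map_zero' := by
    apply Subtype.ext
    simp
  map_add' := by
    intro a b
    apply Subtype.ext
    simp only [AddMemClass.coe_add, mul_add, add_mul]
  commutes' := by
    intro r
    apply Subtype.ext
    simp only [SubalgebraClass.coe_algebraMap]
    rw [← Algebra.commutes r, mul_assoc, en_mul_inv, mul_one]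

theorem conjAlg_coe (hA : A.Normal) (g : G) (x : alg ρ A) :
    ((conjAlg hA g x : alg ρ A) : Module.End (ZMod q) V) = en ρ g * x * en ρ g⁻¹ := rfl

/-- conjugation as a homomorphism -/
noncomputable def sig (ρ : G →* (V ≃ₗ[ZMod q] V)) (hA : A.Normal) : G →* (alg ρ A ≃ₐ[ZMod q] alg ρ A) where
  toFun g := AlgEquiv.ofAlgHom (conjAlg hA g) (conjAlg hA g⁻¹)
    (by
      ext x : 1
      apply Subtype.ext
      simp only [AlgHom.comp_apply, conjAlg_coe, AlgHom.id_apply, inv_inv]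
      calc en ρ g * (en ρ g⁻¹ * x * en ρ g) * en ρ g⁻¹ = (en ρ g * en ρ g⁻¹) * x * (en ρ g * en ρ g⁻¹) := by
            simp only [mul_assoc]
        _ = x := by rw [en_mul_inv, one_mul, mul_one])
    (by
      ext x : 1
      apply Subtype.ext
      simp only [AlgHom.comp_apply, conjAlg_coe, AlgHom.id_apply, inv_inv]
      calc en ρ g⁻¹ * (en ρ g * x * en ρ g⁻¹) * en ρ g = (en ρ g⁻¹ * en ρ g) * x * (en ρ g⁻¹ * en ρ g) := by
            simp only [mul_assoc]
        _ = x := by rw [en_inv_mul, one_mul, mul_one])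
  map_one' := by
    ext x : 1
    apply Subtype.ext
    show en ρ 1 * x * en ρ 1⁻¹ = (x : Module.End (ZMod q) V)
    rw [inv_one, en_one, one_mul, mul_one]
  map_mul' := by
    intro g g'
    ext x : 1
    apply Subtype.ext
    show en ρ (g * g') * x * en ρ (g * g')⁻¹ = en ρ g * (en ρ g' * x * en ρ g'⁻¹) * en ρ g⁻¹
    rw [mul_inv_rev, en_mul, en_mul]
    simp only [mul_assoc]

theorem sig_coe (hA : A.Normal) (g : G) (x : alg ρ A) :
    ((sig ρ hA g x : alg ρ A) : Module.End (ZMod q) V) = en ρ g * x * en ρ g⁻¹ := rfl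

theorem ker_sig (hinj : Function.Injective ρ) (hA : A.Normal) : (sig ρ hA).ker = Subgroup.centralizer (A : Set G) := by
  ext g
  rw [MonoidHom.mem_ker, Subgroup.mem_centralizer_iff]
  constructor
  · intro h a ha
    have h1 := congrArg (fun f : alg ρ A ≃ₐ[ZMod q] alg ρ A => ((f ⟨en ρ a, en_mem_alg ρ ha⟩ : alg ρ A) : Module.End (ZMod q) V)) h
    simp only [sig_coe] at h1
    have h2 : en ρ (g * a * g⁻¹) = en ρ a := by
      rw [en_mul, en_mul]; exact h1
    have h3 := en_inj hinj h2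
    exact (mul_inv_eq_iff_eq_mul.mp h3).symm
  · intro h
    ext x : 1
    apply Subtype.ext
    rw [sig_coe]
    have h1 : en ρ g * (x : Module.End (ZMod q) V) = x * en ρ g := by
      refine commute_of_mem_alg ρ ?_ x.2
      intro a ha
      rw [← en_mul, ← en_mul, h a ha]
    rw [h1, mul_assoc, en_mul_inv, mul_one]
    rfl

theorem card_aut [Nontrivial V] (h : NA ρ A) :
    Nat.card (alg ρ A ≃ₐ[ZMod q] alg ρ A) = Module.finrank (ZMod q) (alg ρ A) := by
  have := finite_alg (ρ := ρ) (A := A)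
  letI := fieldK h
  exact IsGalois.card_aut_eq_finrank (ZMod q) (alg ρ A)

end Cfsg.Agent.Lib.HupA
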