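import Cfsg.Agent.Lib.HupA

/-!
# Transitive linear groups over prime fields: semilinearity criteria (helper61)
-/

set_option autoImplicit false

namespace Cfsg.Agent.Lib.HupB

open HupA

variable {q : ℕ} [hq : Fact q.Prime] {V : Type*} [AddCommGroup V] [Module (ZMod q) V] [Finite V]
  {G : Type*} [Group G] {ρ : G →* (V ≃ₗ[ZMod q] V)} {A : Subgroup G}

/-- The group acts semilinearly on a one-dimensional space over the field with `|V|` elements. -/
def Semi (ρ : G →* (V ≃ₗ[ZMod q] V)) : Prop :=
  ∃ (f : ℕ) (e : V ≃+ GaloisField q f), Nat.card V = q ^ f ∧ ∀ g : G, ∃ (a : GaloisField q f)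
    (σ : GaloisField q f ≃+* GaloisField q f), ∀ v : V, e (ρ g v) = a * σ (e v)

theorem isCyclic_A [Nontrivial V] (h : NA ρ A) : IsCyclic A := by
  have := finite_alg (ρ := ρ) (A := A)
  letI := commRingK h
  haveI := isDomain_alg h
  let φ : A →* alg ρ A :=
    { toFun := fun a => ⟨en ρ a, en_mem_alg ρ a.2⟩
      map_one' := Subtype.ext (en_one ρ)
      map_mul' := fun a b => Subtype.ext (en_mul ρ a b) }
  have hφ : Function.Injective φ := by
    intro a b hab
    apply Subtype.ext
    apply en_inj h.inj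
    exact congrArg (fun x : alg ρ A => (x : Module.End (ZMod q) V)) hab
  have : Finite A := Finite.of_injective φ hφ
  exact isCyclic_of_injective_ringHom φ hφ

theorem card_A_dvd [Nontrivial V] (h : NA ρ A) : Nat.card A ∣ Nat.card (alg ρ A) - 1 := by
  have := finite_alg (ρ := ρ) (A := A)
  letI := fieldK h
  let φ : A →* alg ρ A :=
    { toFun := fun a => ⟨en ρ a, en_mem_alg ρ a.2⟩
      map_one' := Subtype.ext (en_one ρ)
      map_mul' := fun a b => Subtype.ext (en_mul ρ a b) }
  have hφ : Function.Injective φ := by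
    intro a b hab
    apply Subtype.ext
    apply en_inj h.inj
    exact congrArg (fun x : alg ρ A => (x : Module.End (ZMod q) V)) hab
  rw [← Nat.card_units]
  have h2 : Function.Injective φ.toHomUnits := by
    intro a b hab
    apply hφ
    exact congrArg (fun x : (alg ρ A)ˣ => (x : alg ρ A)) hab
  exact Subgroup.card_dvd_of_injective _ h2

theorem index_dvd [Nontrivial V] (h : NA ρ A) :
    (Subgroup.centralizer (A : Set G)).index ∣ Module.finrank (ZMod q) (alg ρ A) := by
  have := finite_alg (ρ := ρ) (A := A)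
  rw [← ker_sig h.inj h.normal, Subgroup.index_ker, ← card_aut h]
  exact Subgroup.card_subgroup_dvd_card _

theorem mem_centralizer_of_pow [Nontrivial V] (h : NA ρ A) {s : ℕ} (hs : s.Prime) {x : G} (hx : x ^ s = 1)
    (hlt : Module.finrank (ZMod q) (alg ρ A) < s) : x ∈ Subgroup.centralizer (A : Set G) := by
  have := finite_alg (ρ := ρ) (A := A)
  rw [← ker_sig h.inj h.normal, MonoidHom.mem_ker]
  have h1 : orderOf (sig ρ h.normal x) ∣ s := orderOf_dvd_of_pow_eq_one (by rw [← map_pow, hx, map_one])
  have h2 : orderOf (sig ρ h.normal x) ∣ Module.finrank (ZMod q) (alg ρ A) := by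
    rw [← card_aut h]
    exact orderOf_dvd_natCard _
  rcases (Nat.dvd_prime hs).1 h1 with h3 | h3
  · exact orderOf_eq_one_iff.mp h3
  · exfalso
    rw [h3] at h2
    have h4 : 0 < Module.finrank (ZMod q) (alg ρ A) := by
      have : Nontrivial (alg ρ A) := (isDomain_alg h).toNontrivial
      exact Module.finrank_pos
    have := Nat.le_of_dvd h4 h2
    omega

/-- An orbit map. -/
theorem apply_injective [Nontrivial V] (h : NA ρ A) {v : V} (hv : v ≠ 0) :
    Function.Injective (fun k : alg ρ A => (k : Module.End (ZMod q) V) v) := by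
  intro a b hab
  by_contra hne
  have h1 : ((a - b : alg ρ A) : Module.End (ZMod q) V) ≠ 0 := by
    intro h'
    apply hne
    have : a - b = 0 := Subtype.ext h'
    exact sub_eq_zero.mp this
  apply h.apply_ne_zero (a - b).2 h1 hv
  simp only at hab
  rw [AddSubgroupClass.coe_sub, LinearMap.sub_apply, hab, sub_self]

theorem card_alg_le [Nontrivial V] (h : NA ρ A) : Nat.card (alg ρ A) ≤ Nat.card V := by
  obtain ⟨v, hv⟩ := exists_ne (0 : V)
  exact Nat.card_le_card_of_injective _ (apply_injective h hv)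

theorem semi_of_card [Nontrivial V] (h : NA ρ A) (hc : Nat.card (alg ρ A) = Nat.card V) : Semi ρ := by
  have hfin := finite_alg (ρ := ρ) (A := A)
  letI := fieldK h
  obtain ⟨v, hv⟩ := exists_ne (0 : V)
  have hbij : Function.Bijective (fun k : alg ρ A => (k : Module.End (ZMod q) V) v) := by
    have hfinV : Fintype V := Fintype.ofFinite V
    have hfinK : Fintype (alg ρ A) := Fintype.ofFinite _
    rw [Fintype.bijective_iff_injective_and_card]
    refine ⟨apply_injective h hv, ?_⟩
    rw [← Nat.card_eq_fintype_card, ← Nat.card_eq_fintype_card, hc]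
  let e0 : alg ρ A ≃+ V :=
    { Equiv.ofBijective _ hbij with
      map_add' := fun a b => by
        show ((a + b : alg ρ A) : Module.End (ZMod q) V) v = (a : Module.End (ZMod q) V) v + (b : Module.End (ZMod q) V) v
        rw [AddMemClass.coe_add, LinearMap.add_apply] }
  have he0 : ∀ k : alg ρ A, e0 k = (k : Module.End (ZMod q) V) v := fun k => rfl
  set f := Module.finrank (ZMod q) (alg ρ A) with hf
  let θ : alg ρ A ≃ₐ[ZMod q] GaloisField q f := GaloisField.algEquivGaloisField q f (card_alg_eq ρ A)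
  refine ⟨f, e0.symm.trans θ.toAddEquiv, by rw [← hc, card_alg_eq], ?_⟩
  intro g
  refine ⟨θ (e0.symm (ρ g v)), (θ.symm.trans ((sig ρ h.normal g).trans θ)).toRingEquiv, ?_⟩
  intro w
  obtain ⟨k, rfl⟩ := e0.surjective w
  have h1 : e0.symm (ρ g (e0 k)) = (sig ρ h.normal g k) * e0.symm (ρ g v) := by
    have h2 : e0 ((sig ρ h.normal g k) * e0.symm (ρ g v)) =
        ((sig ρ h.normal g k : alg ρ A) : Module.End (ZMod q) V) (e0 (e0.symm (ρ g v))) := rfl
    rw [AddEquiv.symm_apply_eq, h2, AddEquiv.apply_symm_apply,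
      sig_coe, Module.End.mul_apply, Module.End.mul_apply, en_apply ρ g⁻¹, inv_apply_apply]
    rfl
  show θ (e0.symm (ρ g (e0 k))) = θ (e0.symm (ρ g v)) * θ (sig ρ h.normal g (θ.symm (θ (e0.symm (e0 k)))))
  rw [h1, AddEquiv.symm_apply_apply, AlgEquiv.symm_apply_apply, map_mul, mul_comm]

end Cfsg.Agent.Lib.HupB
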