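import Mathlib
import Cfsg.Agent.Lib.PGroupClassTwo

/-!
# Groups whose commutators lie in a central subgroup of order `p`: `|E : Z(E)|` is an even power of `p` (helper61)
-/

set_option autoImplicit false

open Subgroup
open scoped commutatorElement

namespace Cfsg.Agent.Lib.HupC

open Cfsg.Agent.Lib.PGroupClassTwo

/-- `z` is central of order `p` and all commutators are powers of `z`. -/
structure XC (p : ℕ) (E : Type*) [Group E] (z : E) : Prop where
  ord : orderOf z = p
  cen : z ∈ center E
  comm : ∀ x y : E, ⁅x, y⁆ ∈ zpowers z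

variable {E : Type*} [Group E] {z : E} {p : ℕ}

theorem XC.zpowers_le (h : XC p E z) : zpowers z ≤ center E := by
  rw [Subgroup.zpowers_le]; exact h.cen

theorem XC.comm_mem (h : XC p E z) (x y : E) : ⁅x, y⁆ ∈ center E := h.zpowers_le (h.comm x y)

theorem XC.commute (h : XC p E z) (k : ℤ) (x : E) : Commute (z ^ k) x :=
  (mem_center_iff.mp (h.zpowers_le ⟨k, rfl⟩) x).symm

/-- `z` is a commutator in the non-commutative case. -/
theorem XC.exists_comm_eq [Finite E] [hp : Fact p.Prime] (h : XC p E z) {x y : E} (hxy : x * y ≠ y * x) :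
    ∃ k : ℤ, ⁅x, y ^ k⁆ = z := by
  have h1 := h.comm x y
  have hne : ⁅x, y⁆ ≠ 1 := fun h' => hxy (commutatorElement_eq_one_iff_mul_comm.mp h')
  have hle : zpowers ⁅x, y⁆ ≤ zpowers z := by rwa [Subgroup.zpowers_le]
  have hord : orderOf ⁅x, y⁆ = p := by
    apply orderOf_eq_prime _ hne
    obtain ⟨k, hk⟩ := h1
    simp only at hk
    rw [← hk, ← zpow_natCast, zpow_comm, zpow_natCast, ← h.ord, pow_orderOf_eq_one, one_zpow]
  have heq : zpowers ⁅x, y⁆ = zpowers z := by
    apply Subgroup.eq_of_le_of_card_ge hle
    rw [Nat.card_zpowers, Nat.card_zpowers, h.ord, hord]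
  have hz : z ∈ zpowers ⁅x, y⁆ := by rw [heq]; exact mem_zpowers z
  obtain ⟨k, hk⟩ := hz
  exact ⟨k, by rw [comm_zpow_right h.comm_mem]; exact hk⟩

section decomposition

variable {x y : E}

theorem XC.comm_x (h : XC p E z) (hxy : ⁅x, y⁆ = z) (i j : ℤ) {c : E} (hc : c ∈ centralizer ({x, y} : Set E)) :
    ⁅x, x ^ i * y ^ j * c⁆ = z ^ j := by
  have hc1 : ⁅x, c⁆ = 1 := by
    rw [commutatorElement_eq_one_iff_mul_comm]
    exact mem_centralizer_iff.mp hc x (by simp)
  rw [comm_mul_right h.comm_mem, comm_mul_right h.comm_mem, hc1, mul_one, comm_zpow_right h.comm_mem,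
    comm_zpow_right h.comm_mem, hxy, commutatorElement_self, one_zpow, one_mul]

theorem XC.comm_y (h : XC p E z) (hxy : ⁅x, y⁆ = z) (i j : ℤ) {c : E} (hc : c ∈ centralizer ({x, y} : Set E)) :
    ⁅x ^ i * y ^ j * c, y⁆ = z ^ i := by
  have hc1 : ⁅c, y⁆ = 1 := by
    rw [commutatorElement_eq_one_iff_mul_comm]
    exact (mem_centralizer_iff.mp hc y (by simp)).symm
  rw [comm_mul_left h.comm_mem, comm_mul_left h.comm_mem, hc1, mul_one, comm_zpow_left h.comm_mem,
    comm_zpow_left h.comm_mem, hxy, commutatorElement_self, one_zpow, mul_one]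

/-- The decomposition `E = ⟨x, y⟩ C_E(x, y)`. -/
theorem XC.exists_eq (h : XC p E z) (hxy : ⁅x, y⁆ = z) (e : E) :
    ∃ i j : ℤ, ∃ c ∈ centralizer ({x, y} : Set E), e = x ^ i * y ^ j * c := by
  obtain ⟨j, hj⟩ := h.comm x e
  obtain ⟨i, hi⟩ := h.comm e y
  simp only at hi hj
  refine ⟨i, j, (x ^ i * y ^ j)⁻¹ * e, ?_, by group⟩
  have hone : (1 : E) ∈ centralizer ({x, y} : Set E) := one_mem _
  have h1 := h.comm_x hxy i j hone
  have h2 := h.comm_y hxy i j hone
  rw [mul_one] at h1 h2
  rw [mem_centralizer_iff]
  intro w hw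
  rcases hw with rfl | hw
  · rw [← commutatorElement_eq_one_iff_mul_comm, comm_mul_right h.comm_mem, comm_inv_right h.comm_mem, h1, hj,
      inv_mul_cancel]
  · rw [Set.mem_singleton_iff] at hw
    rw [hw]
    symm
    rw [← commutatorElement_eq_one_iff_mul_comm, comm_mul_left h.comm_mem, comm_inv_left h.comm_mem, h2, hi,
      inv_mul_cancel]

theorem XC.mem_centralizer (h : XC p E z) {k : ℤ} {S : Set E} : z ^ k ∈ centralizer S := by
  rw [mem_centralizer_iff]
  intro w _
  exact (h.commute k w).eq.symm

theorem XC.mem_centralizer' (h : XC p E z) {S : Set E} : z ∈ centralizer S := by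
  have := h.mem_centralizer (k := 1) (S := S)
  rwa [zpow_one] at this

theorem XC.cent (h : XC p E z) (hxy : ⁅x, y⁆ = z) :
    XC p (centralizer ({x, y} : Set E)) ⟨z, h.mem_centralizer'⟩ ∧
      Nat.card (center (centralizer ({x, y} : Set E))) = Nat.card (center E) := by
  have hmem : ∀ w : centralizer ({x, y} : Set E), (w : E) ∈ zpowers z →
      w ∈ zpowers (⟨z, h.mem_centralizer'⟩ : Subgroup.centralizer ({x, y} : Set E)) := by
    rintro w ⟨k, hk⟩
    exact ⟨k, Subtype.ext hk⟩
  refine ⟨⟨?_, ?_, fun a b => ?_⟩, ?_⟩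
  · rw [Subgroup.orderOf_mk, h.ord]
  · rw [mem_center_iff]
    intro g
    apply Subtype.ext
    have := (h.commute 1 (g : E)).eq
    rw [zpow_one] at this
    exact this.symm
  · apply hmem
    exact h.comm a b
  · have hmap : (center (centralizer ({x, y} : Set E))).map (centralizer ({x, y} : Set E)).subtype = center E := by
      ext e
      constructor
      · rintro ⟨a, ha, rfl⟩
        show (a : E) ∈ center E
        rw [mem_center_iff]
        intro e
        obtain ⟨i, j, c, hc, rfl⟩ := h.exists_eq hxy e
        have h1 : Commute (a : E) x := (mem_centralizer_iff.mp a.2 x (by simp)).symm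
        have h2 : Commute (a : E) y := (mem_centralizer_iff.mp a.2 y (by simp)).symm
        have h3 : Commute (a : E) c := by
          have := mem_center_iff.mp ha ⟨c, hc⟩
          exact (congrArg Subtype.val this).symm
        exact (((h1.zpow_right i).mul_right (h2.zpow_right j)).mul_right h3).eq.symm
      · intro he
        have he1 : e ∈ centralizer ({x, y} : Set E) := Subgroup.center_le_centralizer _ he
        refine ⟨⟨e, he1⟩, ?_, rfl⟩
        show (⟨e, he1⟩ : Subgroup.centralizer ({x, y} : Set E)) ∈ center _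
        rw [mem_center_iff]
        intro g
        exact Subtype.ext (mem_center_iff.mp he g)
    rw [← hmap]
    exact (Nat.card_congr ((center (centralizer ({x, y} : Set E))).equivMapOfInjective _
      (Subgroup.subtype_injective _)).toEquiv)

/-- `|E| = p² |C_E(x, y)|`. -/
theorem XC.card_eq [Finite E] (h : XC p E z) (hxy : ⁅x, y⁆ = z) :
    Nat.card E = p ^ 2 * Nat.card (Subgroup.centralizer ({x, y} : Set E)) := by
  let f : E →* zpowers z × zpowers z :=
    { toFun := fun e => (⟨⁅x, e⁆, h.comm _ _⟩, ⟨⁅e, y⁆, h.comm _ _⟩)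
      map_one' := by
        apply Prod.ext <;> apply Subtype.ext <;> simp
      map_mul' := fun a b => by
        apply Prod.ext <;> apply Subtype.ext
        · exact comm_mul_right h.comm_mem x a b
        · exact comm_mul_left h.comm_mem a b y }
  have hker : f.ker = Subgroup.centralizer ({x, y} : Set E) := by
    ext e
    rw [MonoidHom.mem_ker, mem_centralizer_iff]
    constructor
    · intro he w hw
      have h1 : ⁅x, e⁆ = 1 := congrArg (fun t => (t.1 : E)) he
      have h2 : ⁅e, y⁆ = 1 := congrArg (fun t => (t.2 : E)) he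
      rcases hw with rfl | hw
      · exact commutatorElement_eq_one_iff_mul_comm.mp h1
      · rw [Set.mem_singleton_iff] at hw
        rw [hw]
        exact (commutatorElement_eq_one_iff_mul_comm.mp h2).symm
    · intro he
      apply Prod.ext <;> apply Subtype.ext
      · exact commutatorElement_eq_one_iff_mul_comm.mpr (he x (by simp))
      · exact commutatorElement_eq_one_iff_mul_comm.mpr (he y (by simp)).symm
  have hsurj : Function.Surjective f := by
    rintro ⟨⟨_, j, rfl⟩, ⟨_, i, rfl⟩⟩
    have hone : (1 : E) ∈ Subgroup.centralizer ({x, y} : Set E) := one_mem _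
    refine ⟨x ^ i * y ^ j * 1, ?_⟩
    apply Prod.ext <;> apply Subtype.ext
    · exact h.comm_x hxy i j hone
    · exact h.comm_y hxy i j hone
  have h1 : f.ker.index = p ^ 2 := by
    rw [Subgroup.index_ker, MonoidHom.range_eq_top.mpr hsurj, Subgroup.card_top, Nat.card_prod, Nat.card_zpowers,
      h.ord, pow_two]
  rw [← hker, ← h1, Subgroup.index_mul_card]

/-- The index of the centre is an even power of `p`. -/
theorem XC.exists_card [Finite E] [hp : Fact p.Prime] (h : XC p E z) :
    ∃ n : ℕ, Nat.card E = p ^ (2 * n) * Nat.card (center E) := by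
  have key : ∀ m : ℕ, ∀ (E : Type _) [Group E] [Finite E] (z : E), XC p E z → Nat.card E ≤ m →
      ∃ n : ℕ, Nat.card E = p ^ (2 * n) * Nat.card (center E) := by
    intro m
    induction m with
    | zero =>
      intro E _ _ z _ hm
      exact absurd hm (by have := Nat.card_pos (α := E); omega)
    | succ m ih =>
      intro E _ _ z h hm
      by_cases hc : ∃ x y : E, x * y ≠ y * x
      · obtain ⟨x, y, hxy⟩ := hc
        obtain ⟨k, hk⟩ := h.exists_comm_eq hxy
        have hcard := h.card_eq hk
        have hlt : Nat.card (Subgroup.centralizer ({x, y ^ k} : Set E)) ≤ m := by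
          have h1 : 2 ≤ p ^ 2 := by
            have := hp.out.two_le
            nlinarith
          have h2 : 0 < Nat.card (Subgroup.centralizer ({x, y ^ k} : Set E)) := Nat.card_pos
          nlinarith
        obtain ⟨h3, h4⟩ := h.cent hk
        obtain ⟨n, hn⟩ := ih _ _ h3 hlt
        refine ⟨n + 1, ?_⟩
        rw [hcard, hn, h4, ← mul_assoc, ← pow_add]
        congr 2
        ring
      · refine ⟨0, ?_⟩
        push Not at hc
        have h1 : center E = ⊤ := by
          rw [eq_top_iff]
          intro x _
          rw [mem_center_iff]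
          intro g
          exact hc g x
        rw [h1, Subgroup.card_top]
        simp
  exact key _ E z h le_rfl

end decomposition

end Cfsg.Agent.Lib.HupC
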