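import Cfsg.Agent.Lib.HupB
import Cfsg.Agent.Lib.HupC
import Cfsg.Agent.Lib.Fitting

/-!
# Transitive linear groups over prime fields: orders, the `q`-core (helper61)
-/

set_option autoImplicit false

namespace Cfsg.Agent.Lib.HupD

open HupA HupB

variable {q : ℕ} [hq : Fact q.Prime] {V : Type*} [AddCommGroup V] [Module (ZMod q) V] [Finite V]
  {G : Type*} [Group G] {ρ : G →* (V ≃ₗ[ZMod q] V)} {A : Subgroup G}

/-- the action on vectors -/
@[reducible] def act (ρ : G →* (V ≃ₗ[ZMod q] V)) : MulAction G V where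
  smul g v := ρ g v
  one_smul v := by
    show ρ 1 v = v
    rw [map_one]; rfl
  mul_smul g h v := HupA.mul_apply ρ g h v

theorem card_compl_zero : Nat.card {w : V // w ≠ 0} = Nat.card V - 1 := by
  have h1 : ({0}ᶜ : Set V).ncard = Nat.card V - ({0} : Set V).ncard := Set.ncard_compl _
  rw [Set.ncard_singleton] at h1
  rw [← h1]
  rfl

theorem card_dvd [Finite G] [Nontrivial V] (ht : Tr ρ) : Nat.card V - 1 ∣ Nat.card G := by
  letI := act ρ
  obtain ⟨v, hv⟩ := exists_ne (0 : V)
  have h1 : MulAction.orbit G v = {w : V | w ≠ 0} := by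
    ext w
    constructor
    · rintro ⟨g, rfl⟩
      show ρ g v ≠ 0
      intro h
      exact hv ((map_eq_zero_iff (ρ g) (ρ g).injective).mp h)
    · intro hw
      obtain ⟨g, hg⟩ := ht v w hv hw
      exact ⟨g, hg⟩
  have h2 := Nat.card_congr (MulAction.orbitEquivQuotientStabilizer G v)
  rw [h1] at h2
  have h3 : Nat.card {w : V // w ≠ 0} = Nat.card V - 1 := card_compl_zero
  have h4 : Nat.card ({w : V | w ≠ 0} : Set V) = Nat.card V - 1 := h3
  rw [h4] at h2
  rw [h2]
  exact Subgroup.card_quotient_dvd_card _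

/-- if the centralizer of the normal abelian subgroup `A` is contained in `A`, then the group is semilinear. -/
theorem semi_of_self_centralizing [Finite G] [Nontrivial V] (h : NA ρ A)
    (hc : Subgroup.centralizer (A : Set G) ≤ A) : Semi ρ := by
  have hfin := finite_alg (ρ := ρ) (A := A)
  obtain ⟨m, hm, hV, hf⟩ := exists_card_pow h
  set d := Module.finrank (ZMod q) (alg ρ A) with hd
  have hK := card_alg_eq ρ A
  rw [← hd] at hK
  have hd1 : 1 ≤ d := by
    have : Nontrivial (alg ρ A) := (isDomain_alg h).toNontrivial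
    exact Module.finrank_pos
  have hidx : A.index ≤ d := by
    have h1 : A.index ∣ (Subgroup.centralizer (A : Set G)).index := Subgroup.index_dvd_of_le hc
    exact Nat.le_of_dvd hd1 (h1.trans (index_dvd h))
  have hA : Nat.card A ≤ Nat.card (alg ρ A) - 1 := by
    refine Nat.le_of_dvd ?_ (card_A_dvd h)
    rw [hK]
    have : 2 ≤ q ^ d := by
      calc 2 ≤ q := hq.out.two_le
        _ = q ^ 1 := (pow_one q).symm
        _ ≤ q ^ d := Nat.pow_le_pow_right hq.out.pos hd1
    omega
  have hG : Nat.card V - 1 ≤ Nat.card A * A.index := by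
    rw [Subgroup.card_mul_index]
    exact Nat.le_of_dvd Nat.card_pos (card_dvd h.tr)
  have hKd : d < Nat.card (alg ρ A) := by
    rw [hK]
    exact Nat.lt_pow_self hq.out.one_lt
  apply semi_of_card h
  rcases Nat.lt_or_ge 1 m with hm2 | hm2
  · exfalso
    set K := Nat.card (alg ρ A) with hKdef
    have h1 : K ^ 2 ≤ Nat.card V := by
      rw [hV]; exact Nat.pow_le_pow_right (by omega) hm2
    have h2 : Nat.card A * A.index ≤ (K - 1) * d := Nat.mul_le_mul hA hidx
    obtain ⟨k, hk⟩ : ∃ k, K = k + 1 := ⟨K - 1, by omega⟩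
    rw [hk] at h1 h2 hKd
    have h3 : (k + 1) ^ 2 ≤ k * d + 1 := by
      have : (k + 1 - 1) * d = k * d := by simp
      omega
    have h4 : k * d ≤ k * k := Nat.mul_le_mul_left _ (by omega)
    have h5 : (k + 1) ^ 2 = k * k + 2 * k + 1 := by ring
    have h6 : k ≠ 0 := by rintro rfl; omega
    omega
  · have : m = 1 := by omega
    rw [hV, this, pow_one]

/-- A normal `q`-subgroup is trivial. -/
theorem eq_bot_of_isPGroup [Finite G] [Nontrivial V] (hinj : Function.Injective ρ) (ht : Tr ρ) {N : Subgroup G} (hN : N.Normal)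
    (hq' : IsPGroup q N) : N = ⊥ := by
  letI := act ρ
  have h1 := hq'.card_modEq_card_fixedPoints V
  have h0 : (0 : V) ∈ MulAction.fixedPoints N V := by
    intro g
    show ρ (g : G) 0 = 0
    exact map_zero _
  have hdvd : q ∣ Nat.card V := by
    rw [card_V_eq (q := q) (V := V)]
    exact dvd_pow_self q (Module.finrank_pos (R := ZMod q) (M := V)).ne'
  have h2 : q ∣ Nat.card (MulAction.fixedPoints N V) := (Nat.ModEq.dvd_iff h1 (dvd_refl q)).mp hdvd
  have h3 : 1 < Nat.card (MulAction.fixedPoints N V) := by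
    have : 0 < Nat.card (MulAction.fixedPoints N V) := by
      have : Nonempty (MulAction.fixedPoints N V) := ⟨⟨0, h0⟩⟩
      exact Nat.card_pos
    exact lt_of_lt_of_le hq.out.one_lt (Nat.le_of_dvd this h2)
  rw [Finite.one_lt_card_iff_nontrivial] at h3
  obtain ⟨⟨v, hv⟩, hne⟩ := exists_ne (⟨0, h0⟩ : MulAction.fixedPoints N V)
  have hv0 : v ≠ 0 := fun h => hne (Subtype.ext h)
  rw [Subgroup.eq_bot_iff_forall]
  intro n hn
  apply hinj
  rw [map_one]
  ext w
  rw [LinearEquiv.coe_one, id]
  by_cases hw : w = 0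
  · rw [hw, map_zero]
  obtain ⟨g, hg⟩ := ht v w hv0 hw
  have h4 : ρ (g⁻¹ * n * g) v = v := hv ⟨g⁻¹ * n * g, by
    have := hN.conj_mem n hn g⁻¹
    rwa [inv_inv] at this⟩
  rw [← hg]
  calc ρ n (ρ g v) = ρ g (ρ (g⁻¹ * n * g) v) := by
        rw [← HupA.mul_apply, ← HupA.mul_apply]
        congr 2
        group
    _ = ρ g v := by rw [h4]

end Cfsg.Agent.Lib.HupD
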