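import Cfsg.Agent.Lib.HupD

/-!
# Class two normal subgroups of transitive linear groups (helper61)
-/

set_option autoImplicit false

open scoped commutatorElement

namespace Cfsg.Agent.Lib.HupE

open HupA HupB HupC HupD

/-- Coset representatives of the centre are linearly independent if commutators are scalars. -/
theorem linInd {K V D : Type*} [Field K] [AddCommGroup V] [Module K V] [FiniteDimensional K V]
    [Nontrivial V] [Group D] (τ : D →* Module.End K V) (lam : D → K)
    (hcomm : ∀ x y : D, τ ⁅x, y⁆ = lam ⁅x, y⁆ • (1 : Module.End K V))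
    (hinj : ∀ x y : D, (∀ d : D, lam ⁅d, x⁆ = lam ⁅d, y⁆) → x⁻¹ * y ∈ Subgroup.center D) :
    LinearIndependent K (fun c : D ⧸ Subgroup.center D => τ c.out) := by
    rw [linearIndependent_iff']
    intro s
    classical
    induction s using Finset.induction_on with
    | empty => simp
    | insert a s ha ih =>
      intro g hg
      have hconj : ∀ d : D, ∑ i ∈ insert a s, (g i * lam ⁅d, i.out⁆) • τ i.out = 0 := by
        intro d
        have h1 : ∀ t : D, τ d * τ t * τ d⁻¹ = lam ⁅d, t⁆ • τ t := by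
          intro t
          rw [← map_mul, ← map_mul]
          have : d * t * d⁻¹ = ⁅d, t⁆ * t := by rw [commutatorElement_def]; group
          rw [this, map_mul, hcomm, smul_mul_assoc, one_mul]
        have h2 : τ d * (∑ i ∈ insert a s, g i • τ i.out) * τ d⁻¹ = 0 := by rw [hg, mul_zero, zero_mul]
        rw [Finset.mul_sum, Finset.sum_mul] at h2
        rw [← h2]
        refine Finset.sum_congr rfl fun i _ => ?_
        rw [mul_smul_comm, smul_mul_assoc, h1, smul_smul]
      have hsub : ∀ d : D, ∀ i ∈ s, g i * (lam ⁅d, i.out⁆ - lam ⁅d, a.out⁆) = 0 := by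
        intro d
        refine ih (fun i => g i * (lam ⁅d, i.out⁆ - lam ⁅d, a.out⁆)) ?_
        have h1 := hconj d
        have h2 : (lam ⁅d, a.out⁆) • ∑ i ∈ insert a s, g i • τ i.out = 0 := by rw [hg, smul_zero]
        rw [Finset.sum_insert ha] at h1
        rw [Finset.sum_insert ha, smul_add, smul_smul, Finset.smul_sum] at h2
        have h3 : ∑ i ∈ s, (g i * (lam ⁅d, i.out⁆ - lam ⁅d, a.out⁆)) • τ i.out =
            ((g a * lam ⁅d, a.out⁆) • τ a.out + ∑ i ∈ s, (g i * lam ⁅d, i.out⁆) • τ i.out) -
            ((lam ⁅d, a.out⁆ * g a) • τ a.out + ∑ i ∈ s, lam ⁅d, a.out⁆ • g i • τ i.out) := by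
          rw [mul_comm (lam ⁅d, a.out⁆) (g a), add_sub_add_left_eq_sub, ← Finset.sum_sub_distrib]
          refine Finset.sum_congr rfl fun i _ => ?_
          rw [smul_smul, ← sub_smul]
          congr 1
          ring
        rw [h3, h1, h2, sub_zero]
      have hs0 : ∀ i ∈ s, g i = 0 := by
        intro i hi
        by_contra hgi
        have h1 : ∀ d : D, lam ⁅d, i.out⁆ = lam ⁅d, a.out⁆ := by
          intro d
          have := (mul_eq_zero.mp (hsub d i hi)).resolve_left hgi
          exact sub_eq_zero.mp this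
        have h2 := hinj _ _ h1
        have h3 : i = a := by
          rw [← Quotient.out_eq i, ← Quotient.out_eq a]
          exact QuotientGroup.eq.mpr h2
        exact ha (h3 ▸ hi)
      have ha0 : g a = 0 := by
        rw [Finset.sum_insert ha] at hg
        have h1 : ∑ i ∈ s, g i • τ i.out = 0 := Finset.sum_eq_zero fun i hi => by rw [hs0 i hi, zero_smul]
        rw [h1, add_zero] at hg
        rcases smul_eq_zero.mp hg with h | h
        · exact h
        · exfalso
          have h2 : (1 : Module.End K V) = 0 := by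
            rw [← map_one τ, ← inv_mul_cancel (a.out), map_mul, h, mul_zero]
          exact one_ne_zero h2
      intro i hi
      rcases Finset.mem_insert.mp hi with rfl | hi
      · exact ha0
      · exact hs0 i hi

theorem index_center_le {K V D : Type*} [Field K] [AddCommGroup V] [Module K V] [FiniteDimensional K V]
    [Nontrivial V] [Group D] [Finite D] (τ : D →* Module.End K V) (lam : D → K)
    (hcomm : ∀ x y : D, τ ⁅x, y⁆ = lam ⁅x, y⁆ • (1 : Module.End K V))
    (hinj : ∀ x y : D, (∀ d : D, lam ⁅d, x⁆ = lam ⁅d, y⁆) → x⁻¹ * y ∈ Subgroup.center D) :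
    (Subgroup.center D).index ≤ Module.finrank K V ^ 2 := by
  have hli := linInd τ lam hcomm hinj
  have : Fintype (D ⧸ Subgroup.center D) := Fintype.ofFinite _
  have h1 := hli.fintype_card_le_finrank
  rw [Module.finrank_linearMap, ← pow_two] at h1
  have h2 : Fintype.card (D ⧸ Subgroup.center D) = (Subgroup.center D).index := by
    rw [Subgroup.index, Nat.card_eq_fintype_card]
  rw [← h2]
  exact h1

variable {q : ℕ} [hq : Fact q.Prime] {V : Type*} [AddCommGroup V] [Module (ZMod q) V] [Finite V]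
  {G : Type*} [Group G]

/-- `D` is a nonabelian normal `r`-subgroup whose centre is `A`, with commutators and `r`-th powers in `A`. -/
structure DD (ρ : G →* (V ≃ₗ[ZMod q] V)) (D A : Subgroup G) (r : ℕ) : Prop where
  na : NA ρ A
  Dn : D.Normal
  rp : r.Prime
  rD : IsPGroup r D
  cen : ∀ x, x ∈ A ↔ x ∈ D ∧ ∀ y ∈ D, x * y = y * x
  pow : ∀ x ∈ D, x ^ r ∈ A
  comm : ∀ x ∈ D, ∀ y ∈ D, ⁅x, y⁆ ∈ A
  nonab : ∃ x ∈ D, ∃ y ∈ D, x * y ≠ y * x

variable {ρ : G →* (V ≃ₗ[ZMod q] V)} {D A : Subgroup G} {r : ℕ}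

theorem DD.A_le (h : DD ρ D A r) : A ≤ D := fun x hx => ((h.cen x).mp hx).1

theorem DD.mem_center (h : DD ρ D A r) (x : D) : x ∈ Subgroup.center D ↔ (x : G) ∈ A := by
  rw [h.cen, Subgroup.mem_center_iff]
  constructor
  · intro hx
    exact ⟨x.2, fun y hy => (congrArg Subtype.val (hx ⟨y, hy⟩)).symm⟩
  · rintro ⟨-, hx⟩ g
    exact Subtype.ext (hx g g.2).symm

theorem DD.comm_mem (h : DD ρ D A r) (x y : D) : ⁅x, y⁆ ∈ Subgroup.center D := by
  rw [h.mem_center]
  exact h.comm x x.2 y y.2

theorem DD.map_center (h : DD ρ D A r) : (Subgroup.center D).map D.subtype = A := by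
  ext x
  constructor
  · rintro ⟨y, hy, rfl⟩
    exact (h.mem_center y).mp hy
  · intro hx
    exact ⟨⟨x, h.A_le hx⟩, (h.mem_center _).mpr hx, rfl⟩

theorem DD.card_center (h : DD ρ D A r) : Nat.card (Subgroup.center D) = Nat.card A := by
  rw [← h.map_center]
  exact Nat.card_congr ((Subgroup.center D).equivMapOfInjective _ (Subgroup.subtype_injective _)).toEquiv

theorem DD.pow_comm (h : DD ρ D A r) (x y : D) : ⁅x, y⁆ ^ r = 1 := by
  rw [← PGroupClassTwo.comm_pow_left h.comm_mem, commutatorElement_eq_one_iff_mul_comm]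
  exact (Subgroup.mem_center_iff.mp ((h.mem_center (x ^ r)).mpr (h.pow x x.2)) y).symm

theorem DD.xc [Finite G] [Nontrivial V] (h : DD ρ D A r) : ∃ z : D, XC r D z := by
  have : Fact r.Prime := ⟨h.rp⟩
  obtain ⟨x, hx, y, hy, hxy⟩ := h.nonab
  set c : D := ⁅(⟨x, hx⟩ : D), (⟨y, hy⟩ : D)⁆ with hc
  have hc1 : c ≠ 1 := by
    intro h1
    rw [hc, commutatorElement_eq_one_iff_mul_comm] at h1
    exact hxy (congrArg Subtype.val h1)
  have hcr : c ^ r = 1 := h.pow_comm _ _
  have hord : orderOf c = r := orderOf_eq_prime hcr hc1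
  refine ⟨c, hord, h.comm_mem _ _, ?_⟩
  intro a b
  have hcyc : IsCyclic A := isCyclic_A h.na
  have hcA : (c : G) ∈ A := (h.mem_center c).mp (h.comm_mem _ _)
  set c' : A := ⟨c, hcA⟩ with hc'
  have hc'ord : orderOf c' = r := by
    rw [← hord, ← Subgroup.orderOf_coe c', ← Subgroup.orderOf_coe c]
  have : Fintype A := Fintype.ofFinite A
  classical
  have h1 : ((Finset.univ : Finset A).filter (fun a => a ^ r = 1)).card ≤ r := IsCyclic.card_pow_eq_one_le h.rp.pos
  have h2 : ((Subgroup.zpowers c' : Set A).toFinset) ⊆ (Finset.univ : Finset A).filter (fun a => a ^ r = 1) := by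
    intro t ht
    rw [Set.mem_toFinset] at ht
    obtain ⟨k, rfl⟩ := ht
    rw [Finset.mem_filter]
    refine ⟨Finset.mem_univ _, ?_⟩
    simp only
    rw [← zpow_natCast, zpow_comm, zpow_natCast, ← hc'ord, pow_orderOf_eq_one, one_zpow]
  have h3 : (Subgroup.zpowers c' : Set A).toFinset.card = r := by
    rw [Set.toFinset_card, ← Nat.card_eq_fintype_card]
    exact (Nat.card_zpowers c').trans hc'ord
  have h4 := Finset.eq_of_subset_of_card_le h2 (by rw [h3]; exact h1)
  have hab : (⟨(⁅a, b⁆ : D), (h.mem_center _).mp (h.comm_mem a b)⟩ : A) ∈ (Subgroup.zpowers c' : Set A).toFinset := by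
    rw [h4, Finset.mem_filter]
    refine ⟨Finset.mem_univ _, ?_⟩
    apply Subtype.ext
    exact congrArg (fun t : D => (t : G)) (h.pow_comm a b)
  rw [Set.mem_toFinset] at hab
  obtain ⟨k, hk⟩ := hab
  refine ⟨k, ?_⟩
  apply Subtype.ext
  have := congrArg Subtype.val hk
  simpa using this

theorem DD.index_le [Finite G] [Nontrivial V] (h : DD ρ D A r) {m : ℕ} (hm : Nat.card V = Nat.card (alg ρ A) ^ m) :
    (Subgroup.center D).index ≤ m ^ 2 := by
  have hfin := finite_alg (ρ := ρ) (A := A)
  letI := fieldK h.na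
  let _ := Fintype.ofFinite (alg ρ A)
  let _ := Fintype.ofFinite V
  have hmf : m = Module.finrank (alg ρ A) V := by
    have h1 : Nat.card V = Nat.card (alg ρ A) ^ Module.finrank (alg ρ A) V := by
      rw [Nat.card_eq_fintype_card, Nat.card_eq_fintype_card]
      exact Module.card_eq_pow_finrank (K := alg ρ A)
    rw [hm] at h1
    have h2 : 1 < Nat.card (alg ρ A) := Finite.one_lt_card
    exact Nat.pow_right_injective h2 h1
  have hsm : ∀ (k : alg ρ A) (v : V), k • v = (k : Module.End (ZMod q) V) v := fun k v => rfl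
  let τ : D →* Module.End (alg ρ A) V :=
    { toFun := fun d =>
        { toFun := fun v => ρ d v
          map_add' := fun v w => map_add _ v w
          map_smul' := fun k v => by
            rw [hsm, RingHom.id_apply, hsm]
            have h1 : en ρ (d : G) * (k : Module.End (ZMod q) V) = k * en ρ d := by
              refine commute_of_mem_alg ρ ?_ k.2
              intro a ha
              rw [← en_mul, ← en_mul, ((h.cen a).mp ha).2 d d.2]
            exact congrArg (fun f : Module.End (ZMod q) V => f v) h1 }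
      map_one' := by
        ext v
        show ρ ((1 : D) : G) v = v
        rw [OneMemClass.coe_one, map_one]; rfl
      map_mul' := fun a b => by
        ext v
        exact HupA.mul_apply ρ (a : G) (b : G) v }
  classical
  let lam : D → alg ρ A := fun x => if hx : (x : G) ∈ A then ⟨en ρ x, en_mem_alg ρ hx⟩ else 0
  have hlam : ∀ x : D, ∀ hx : (x : G) ∈ A, lam x = ⟨en ρ x, en_mem_alg ρ hx⟩ := fun x hx => dif_pos hx
  rw [hmf]
  refine index_center_le τ lam ?_ ?_
  · intro x y
    have hxy : ((⁅x, y⁆ : D) : G) ∈ A := (h.mem_center _).mp (h.comm_mem x y)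
    ext v
    rw [hlam _ hxy]
    rfl
  · intro x y hxy
    rw [Subgroup.mem_center_iff]
    intro d
    have h1 : ((⁅d, x⁆ : D) : G) ∈ A := (h.mem_center _).mp (h.comm_mem _ _)
    have h2 : ((⁅d, y⁆ : D) : G) ∈ A := (h.mem_center _).mp (h.comm_mem _ _)
    have h3 := hxy d
    rw [hlam _ h1, hlam _ h2] at h3
    have h4 : ⁅d, x⁆ = ⁅d, y⁆ := Subtype.ext (en_inj h.na.inj (congrArg Subtype.val h3))
    rw [← commutatorElement_eq_one_iff_mul_comm, PGroupClassTwo.comm_mul_right h.comm_mem,
      PGroupClassTwo.comm_inv_right h.comm_mem, h4, inv_mul_cancel]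

end Cfsg.Agent.Lib.HupE
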