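import Cfsg.Agent.Lib.HupE

/-!
# Class two normal subgroups of transitive linear groups: an element of prime order acting on them (helper61)
-/

set_option autoImplicit false

open scoped commutatorElement

namespace Cfsg.Agent.Lib.HupF

open HupA HupB HupC HupD HupE

variable {q : ℕ} [hq : Fact q.Prime] {V : Type*} [AddCommGroup V] [Module (ZMod q) V] [Finite V]
  {G : Type*} [Group G] {ρ : G →* (V ≃ₗ[ZMod q] V)} {D A : Subgroup G} {r : ℕ}

theorem eq_one_of_pow_coprime {g : G} {a b : ℕ} (hab : Nat.Coprime a b) (ha : g ^ a = 1) (hb : g ^ b = 1) : g = 1 := by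
  rw [← orderOf_eq_one_iff]
  exact Nat.eq_one_of_dvd_coprimes hab (orderOf_dvd_of_pow_eq_one ha) (orderOf_dvd_of_pow_eq_one hb)

theorem pow_card_eq_one_of_mem [Finite G] {D : Subgroup G} {g : G} (hg : g ∈ D) : g ^ Nat.card D = 1 := by
  have h1 : (⟨g, hg⟩ : D) ^ Nat.card D = 1 := pow_card_eq_one'
  exact congrArg Subtype.val h1

theorem card_dvd_pow [Finite G] (h : DD ρ D A r) : ∃ k, Nat.card D = r ^ k := by
  have : Fact r.Prime := ⟨h.rp⟩
  exact h.rD.exists_card_eq

/-- if `x` normalises the coset of `A` containing `N`, it centralises `N`. -/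
theorem commute_of_coset [Finite G] (h : DD ρ D A r) {x : G} {s : ℕ} (hs : s.Prime) (hsr : s ≠ r) (hx : x ^ s = 1)
    (hxA : ∀ a ∈ A, x * a = a * x) {N : G} (hN : ∃ a ∈ A, x * N * x⁻¹ = N * a) : x * N = N * x := by
  obtain ⟨a, ha, hN⟩ := hN
  have h1 : ∀ k : ℕ, x ^ k * N * (x ^ k)⁻¹ = N * a ^ k := by
    intro k
    induction k with
    | zero => simp
    | succ k ih =>
      have hc : x ^ k * a * (x ^ k)⁻¹ = a := by
        have : Commute (x ^ k) a := Commute.pow_left (hxA a ha) k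
        rw [this.eq]; group
      calc x ^ (k + 1) * N * (x ^ (k + 1))⁻¹ = x ^ k * (x * N * x⁻¹) * (x ^ k)⁻¹ := by
            rw [pow_succ]; group
        _ = (x ^ k * N * (x ^ k)⁻¹) * (x ^ k * a * (x ^ k)⁻¹) := by rw [hN]; group
        _ = N * a ^ (k + 1) := by rw [ih, hc, pow_succ, mul_assoc]
  have h2 := h1 s
  rw [hx, one_mul, inv_one, mul_one] at h2
  have h3 : a ^ s = 1 := by
    have : N * a ^ s = N * 1 := by rw [mul_one]; exact h2.symm
    exact mul_left_cancel this
  obtain ⟨k, hk⟩ := card_dvd_pow h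
  have h4 : a ^ (r ^ k) = 1 := by
    rw [← hk]
    exact pow_card_eq_one_of_mem (h.A_le ha)
  have h5 : a = 1 := eq_one_of_pow_coprime
    (Nat.Coprime.pow_right k ((Nat.coprime_primes hs h.rp).mpr hsr)) h3 h4
  rw [h5, mul_one] at hN
  exact mul_inv_eq_iff_eq_mul.mp hN

/-- The centre of `C_D(x)` is `A`. -/
theorem mem_A_of_central [Finite G] (h : DD ρ D A r) {x : G} {s : ℕ} (hs : s.Prime) (hsr : s ≠ r) (hx : x ^ s = 1)
    (hxA : ∀ a ∈ A, x * a = a * x) {c : G} (hc : c ∈ D) (hxc : x * c = c * x)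
    (hcc : ∀ y ∈ D, x * y = y * x → c * y = y * c) : c ∈ A := by
  rw [h.cen]
  refine ⟨hc, ?_⟩
  intro d hd
  -- N = (d x)^s
  set N := (d * x) ^ s with hN
  have hND : N ∈ D := by
    have := h.Dn
    have h1 : (QuotientGroup.mk' D) N = 1 := by
      rw [hN, map_pow, map_mul]
      have h2 : (QuotientGroup.mk' D) d = 1 := (QuotientGroup.eq_one_iff d).mpr hd
      rw [h2, one_mul, ← map_pow, hx, map_one]
    exact (QuotientGroup.eq_one_iff N).mp h1
  have hxN : x * N = N * x := by
    refine commute_of_coset h hs hsr hx hxA ⟨⁅N⁻¹, d⁻¹⁆, h.comm _ (inv_mem hND) _ (inv_mem hd), ?_⟩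
    have h1 : x * N * x⁻¹ = d⁻¹ * N * d := by
      have h2 : d * (x * N * x⁻¹) * d⁻¹ = N := by
        have h3 : (d * x) * N * (d * x)⁻¹ = N := by
          have : Commute (d * x) N := Commute.self_pow (d * x) s
          rw [this.eq]; group
        calc d * (x * N * x⁻¹) * d⁻¹ = (d * x) * N * (d * x)⁻¹ := by group
          _ = N := h3
      calc x * N * x⁻¹ = d⁻¹ * (d * (x * N * x⁻¹) * d⁻¹) * d := by group
        _ = d⁻¹ * N * d := by rw [h2]
    rw [h1, commutatorElement_def]
    group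
  have hcN := hcc N hND hxN
  -- commutators
  set e := ⁅d, c⁆ with he
  have heA : e ∈ A := h.comm d hd c hc
  have hed : Commute e d := ((h.cen e).mp heA).2 d hd
  have hex : Commute e x := (hxA e heA).symm
  have hedx : Commute e (d * x) := hed.mul_right hex
  have h1 : (d * x) * c * (d * x)⁻¹ = e * c := by
    have : x * c * x⁻¹ = c := by rw [hxc]; group
    calc (d * x) * c * (d * x)⁻¹ = d * (x * c * x⁻¹) * d⁻¹ := by group
      _ = d * c * d⁻¹ := by rw [this]
      _ = e * c := by rw [he, commutatorElement_def]; group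
  have h2 : ∀ k : ℕ, (d * x) ^ k * c * ((d * x) ^ k)⁻¹ = e ^ k * c := by
    intro k
    induction k with
    | zero => simp
    | succ k ih =>
      have hc' : (d * x) ^ k * e * ((d * x) ^ k)⁻¹ = e := by
        have : Commute ((d * x) ^ k) e := (hedx.pow_right k).symm
        rw [this.eq]; group
      calc (d * x) ^ (k + 1) * c * ((d * x) ^ (k + 1))⁻¹ = (d * x) ^ k * ((d * x) * c * (d * x)⁻¹) * ((d * x) ^ k)⁻¹ := by
            rw [pow_succ]; group
        _ = ((d * x) ^ k * e * ((d * x) ^ k)⁻¹) * ((d * x) ^ k * c * ((d * x) ^ k)⁻¹) := by rw [h1]; group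
        _ = e ^ (k + 1) * c := by rw [ih, hc', pow_succ', mul_assoc]
  have h3 := h2 s
  rw [← hN, ← hcN, mul_inv_cancel_right] at h3
  have h4 : e ^ s = 1 := by
    have : 1 * c = e ^ s * c := by rw [one_mul]; exact h3
    exact (mul_right_cancel this).symm
  have h5 : e ^ r = 1 := by
    have := h.pow_comm ⟨d, hd⟩ ⟨c, hc⟩
    exact congrArg (fun t : D => (t : G)) this
  have h6 : e = 1 := eq_one_of_pow_coprime ((Nat.coprime_primes hs h.rp).mpr hsr) h4 h5
  rw [he, commutatorElement_eq_one_iff_mul_comm] at h6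
  exact h6.symm

/-- Counting fixed points of an element of prime order on a normal subgroup. -/
theorem card_modEq_of_conj [Finite G] (D C : Subgroup G) (hD : D.Normal) {x : G} {s : ℕ} (hs : s.Prime) (hx : x ^ s = 1)
    (hC : ∀ g, g ∈ C ↔ g ∈ D ∧ x * g = g * x) : Nat.card D ≡ Nat.card C [MOD s] := by
  have : Fact s.Prime := ⟨hs⟩
  letI : MulAction (Subgroup.zpowers x) D :=
    { smul := fun g d => ⟨(g : G) * d * (g : G)⁻¹, hD.conj_mem d d.2 g⟩
      one_smul := fun d => by
        apply Subtype.ext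
        show ((1 : Subgroup.zpowers x) : G) * d * ((1 : Subgroup.zpowers x) : G)⁻¹ = d
        simp
      mul_smul := fun g h d => by
        apply Subtype.ext
        show ((g * h : Subgroup.zpowers x) : G) * d * ((g * h : Subgroup.zpowers x) : G)⁻¹ =
          (g : G) * ((h : G) * d * (h : G)⁻¹) * (g : G)⁻¹
        rw [Subgroup.coe_mul]; group }
  have hp : IsPGroup s (Subgroup.zpowers x) := by
    intro g
    refine ⟨1, ?_⟩
    obtain ⟨g, k, rfl⟩ := g
    apply Subtype.ext
    show (x ^ k) ^ (s ^ 1) = 1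
    rw [pow_one, ← zpow_natCast, zpow_comm, zpow_natCast, hx, one_zpow]
  have h1 := hp.card_modEq_card_fixedPoints D
  refine h1.trans ?_
  have h2 : Nat.card (MulAction.fixedPoints (Subgroup.zpowers x) D) = Nat.card C := by
    refine Nat.card_congr
      { toFun := fun d => ⟨(d : D), (hC _).mpr ⟨(d : D).2, ?_⟩⟩
        invFun := fun c => ⟨⟨c, ((hC c).mp c.2).1⟩, ?_⟩
        left_inv := fun d => rfl
        right_inv := fun c => rfl }
    · have := d.2 ⟨x, Subgroup.mem_zpowers x⟩
      have h3 : x * ((d : D) : G) * x⁻¹ = ((d : D) : G) := congrArg Subtype.val this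
      exact mul_inv_eq_iff_eq_mul.mp h3
    · rintro ⟨_, k, rfl⟩
      apply Subtype.ext
      show x ^ k * (c : G) * (x ^ k)⁻¹ = c
      have h3 : Commute x (c : G) := ((hC c).mp c.2).2
      have h4 : Commute (x ^ k) (c : G) := h3.zpow_left k
      rw [h4.eq]; group
  rw [h2]

theorem prime_le [Finite G] [Nontrivial V] (h : DD ρ D A r) {x : G} {s : ℕ} (hs : s.Prime) (hsr : s ≠ r) (hx : x ^ s = 1)
    (hxA : ∀ a ∈ A, x * a = a * x) (hxD : ∃ d ∈ D, x * d ≠ d * x) {m : ℕ}
    (hm : Nat.card V = Nat.card (alg ρ A) ^ m) :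
    ∃ n, Nat.card D = r ^ (2 * n) * Nat.card A ∧ 1 ≤ n ∧ r ^ n ≤ m ∧ s ≤ r ^ n + 1 := by
  have : Fact r.Prime := ⟨h.rp⟩
  obtain ⟨z, hz⟩ := h.xc
  obtain ⟨n, hn⟩ := hz.exists_card
  rw [h.card_center] at hn
  -- the centralizer
  let C : Subgroup G := D ⊓ Subgroup.centralizer {x}
  have hC : ∀ g, g ∈ C ↔ g ∈ D ∧ x * g = g * x := by
    intro g
    rw [Subgroup.mem_inf, Subgroup.mem_centralizer_iff]
    simp
  have hzA : (z : G) ∈ A := (h.mem_center z).mp hz.cen
  have hzC : (z : G) ∈ C := (hC _).mpr ⟨z.2, hxA z hzA⟩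
  have hzC' : XC r C ⟨z, hzC⟩ := by
    refine ⟨?_, ?_, ?_⟩
    · rw [Subgroup.orderOf_mk, Subgroup.orderOf_coe, hz.ord]
    · rw [Subgroup.mem_center_iff]
      intro g
      apply Subtype.ext
      exact (((h.cen z).mp hzA).2 g ((hC g).mp g.2).1).symm
    · intro a b
      obtain ⟨k, hk⟩ := hz.comm ⟨a, ((hC a).mp a.2).1⟩ ⟨b, ((hC b).mp b.2).1⟩
      refine ⟨k, ?_⟩
      apply Subtype.ext
      exact congrArg (fun t : D => (t : G)) hk
  obtain ⟨k', hk'⟩ := hzC'.exists_card
  have hcard : Nat.card (Subgroup.center C) = Nat.card A := by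
    have hmap : (Subgroup.center C).map C.subtype = A := by
      ext g
      constructor
      · rintro ⟨c, hc, rfl⟩
        have hc' := Subgroup.mem_center_iff.mp hc
        refine mem_A_of_central h hs hsr hx hxA ((hC c).mp c.2).1 ((hC c).mp c.2).2 ?_
        intro y hy hxy
        exact (congrArg Subtype.val (hc' ⟨y, (hC y).mpr ⟨hy, hxy⟩⟩)).symm
      · intro hg
        have hgC : g ∈ C := (hC g).mpr ⟨h.A_le hg, hxA g hg⟩
        refine ⟨⟨g, hgC⟩, ?_, rfl⟩
        show (⟨g, hgC⟩ : C) ∈ Subgroup.center C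
        rw [Subgroup.mem_center_iff]
        intro c
        apply Subtype.ext
        exact (((h.cen g).mp hg).2 c ((hC c).mp c.2).1).symm
    rw [← hmap]
    exact Nat.card_congr ((Subgroup.center C).equivMapOfInjective _ (Subgroup.subtype_injective _)).toEquiv
  rw [hcard] at hk'
  have hCD : Nat.card C < Nat.card D := by
    have hle : C ≤ D := inf_le_left
    refine lt_of_le_of_ne (Nat.le_of_dvd Nat.card_pos (Subgroup.card_dvd_of_le hle)) ?_
    intro heq
    have : C = D := Subgroup.eq_of_le_of_card_ge hle heq.symm.le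
    obtain ⟨d, hd, hxd⟩ := hxD
    rw [← this] at hd
    exact hxd ((hC d).mp hd).2
  have hmod := card_modEq_of_conj D C h.Dn hs hx hC
  have hApos : 0 < Nat.card A := Nat.card_pos
  rw [hn, hk'] at hCD hmod
  have hlt : k' < n := by
    have h1 : r ^ (2 * k') < r ^ (2 * n) := lt_of_mul_lt_mul_right hCD (Nat.zero_le _)
    have h2 := (Nat.pow_lt_pow_iff_right h.rp.one_lt).mp h1
    omega
  obtain ⟨j, hj⟩ : ∃ j, n = k' + j := ⟨n - k', by omega⟩
  have hj1 : 1 ≤ j := by omega
  have hsA : Nat.Coprime s (Nat.card A) := by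
    obtain ⟨k, hk⟩ := card_dvd_pow h
    have h1 : Nat.card A ∣ r ^ k := by rw [← hk]; exact Subgroup.card_dvd_of_le h.A_le
    exact Nat.Coprime.coprime_dvd_right h1 (Nat.Coprime.pow_right k ((Nat.coprime_primes hs h.rp).mpr hsr))
  have hdvd : s ∣ r ^ (2 * j) - 1 := by
    have h1 : s ∣ r ^ (2 * n) * Nat.card A - r ^ (2 * k') * Nat.card A := (Nat.modEq_iff_dvd' hCD.le).mp hmod.symm
    have h2 : r ^ (2 * n) * Nat.card A - r ^ (2 * k') * Nat.card A = (r ^ (2 * k') * Nat.card A) * (r ^ (2 * j) - 1) := by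
      rw [Nat.mul_sub, mul_one, hj]
      congr 1
      rw [mul_add, pow_add]
      ring
    rw [h2] at h1
    refine Nat.Coprime.dvd_of_dvd_mul_left ?_ h1
    exact Nat.Coprime.mul_right (Nat.Coprime.pow_right _ ((Nat.coprime_primes hs h.rp).mpr hsr)) hsA
  have hsle : s ≤ r ^ j + 1 := by
    have h1 : r ^ (2 * j) - 1 = (r ^ j + 1) * (r ^ j - 1) := by
      have : r ^ (2 * j) = (r ^ j) ^ 2 := by rw [← pow_mul]; congr 1; ring
      rw [this]
      have := Nat.sq_sub_sq (r ^ j) 1
      rw [one_pow] at this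
      exact this
    rw [h1] at hdvd
    have hrj : 2 ≤ r ^ j := by
      calc 2 ≤ r := h.rp.two_le
        _ = r ^ 1 := (pow_one r).symm
        _ ≤ r ^ j := Nat.pow_le_pow_right h.rp.pos hj1
    rcases (Nat.Prime.dvd_mul hs).mp hdvd with h2 | h2
    · exact Nat.le_of_dvd (by omega) h2
    · have := Nat.le_of_dvd (by omega) h2
      omega
  refine ⟨n, hn, by omega, ?_, ?_⟩
  · have h1 := h.index_le hm
    have h2 : (Subgroup.center D).index = r ^ (2 * n) := by
      have h3 := Subgroup.index_mul_card (Subgroup.center D)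
      rw [h.card_center, hn] at h3
      exact Nat.eq_of_mul_eq_mul_right hApos h3
    rw [h2] at h1
    have h3 : (r ^ n) ^ 2 ≤ m ^ 2 := by
      rw [← pow_mul, mul_comm n 2]; exact h1
    exact (Nat.pow_le_pow_iff_left (by norm_num)).mp h3
  · have : r ^ j ≤ r ^ n := Nat.pow_le_pow_right h.rp.pos (by omega)
    omega

end Cfsg.Agent.Lib.HupF
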