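import Cfsg.Agent.Lib.HupF
import Cfsg.Agent.Lib.HBBasic
import Cfsg.Agent.S0093
import Cfsg.Agent.S0121

/-!
# Transitive solvable linear groups: critical subgroups and primitive primes (helper61)
-/

set_option autoImplicit false

open scoped commutatorElement

namespace Cfsg.Agent.Lib.HupG

open HupA HupB HupC HupD HupE HupF

/-- Critical subgroup of a normal `r`-subgroup, inside the big group. -/
theorem exists_crit {G : Type*} [Group G] [Finite G] {r : ℕ} (hr : r.Prime) {R : Subgroup G} (hRn : R.Normal)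
    (hR : IsPGroup r R) : ∃ D : Subgroup G, D.Normal ∧ D ≤ R ∧ (∀ x ∈ D, ∀ y ∈ D, x ^ r * y = y * x ^ r) ∧
      (∀ x ∈ D, ∀ y ∈ R, ⁅x, y⁆ ∈ D ∧ ∀ w ∈ D, ⁅x, y⁆ * w = w * ⁅x, y⁆) ∧
      (∀ x ∈ R, (∀ y ∈ D, x * y = y * x) → x ∈ D) ∧
      (∀ (x : G) (s : ℕ), x ^ s = 1 → s.Coprime r → (∀ y ∈ D, x * y = y * x) → ∀ y ∈ R, x * y = y * x) := by
  have : Fact r.Prime := ⟨hr⟩
  obtain ⟨H, hH, h1, h2, h3⟩ := Cfsg.Agent.S0093.result hR
  refine ⟨H.map R.subtype, Cfsg.Agent.Lib.Fitting.normal_map_subtype_of_characteristic hH, Subgroup.map_subtype_le H, ?_, ?_, ?_, ?_⟩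
  · rintro _ ⟨x, hx, rfl⟩ _ ⟨y, hy, rfl⟩
    have hHp : IsPGroup r H := hR.to_subgroup H
    have h4 : (⟨x, hx⟩ : H) ^ r ∈ frattini H := HBBasic.pow_mem_frattini hHp _
    have h5 : x ^ r ∈ Subgroup.centralizer (H : Set R) := h1 ⟨_, h4, rfl⟩
    have h6 := Subgroup.mem_centralizer_iff.mp h5 y hy
    exact (congrArg Subtype.val h6).symm
  · rintro _ ⟨x, hx, rfl⟩ y hy
    have h4 : ⁅x, (⟨y, hy⟩ : R)⁆ ∈ H ⊓ Subgroup.centralizer (H : Set R) :=
      h2 (Subgroup.commutator_mem_commutator hx (Subgroup.mem_top _))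
    refine ⟨⟨_, h4.1, rfl⟩, ?_⟩
    rintro _ ⟨w, hw, rfl⟩
    have h6 := Subgroup.mem_centralizer_iff.mp h4.2 w hw
    exact (congrArg Subtype.val h6).symm
  · intro x hx hxy
    refine ⟨⟨x, hx⟩, h3 ?_, rfl⟩
    rw [Subgroup.mem_centralizer_iff]
    intro y hy
    apply Subtype.ext
    exact (hxy y ⟨y, hy, rfl⟩).symm
  · intro x s hxs hsr hxy y hy
    let a : MulAut R := MulAut.conjNormal x
    have ha1 : a ^ s = 1 := by
      show (MulAut.conjNormal x) ^ s = (1 : MulAut R)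
      rw [← map_pow, hxs, map_one]
    have ha : Nat.Coprime (orderOf a) r :=
      Nat.Coprime.coprime_dvd_left (orderOf_dvd_of_pow_eq_one ha1) hsr
    have h4 := Cfsg.Agent.S0121.result hR H hH h1 h2 h3 a ha (by
      intro w hw
      apply Subtype.ext
      show ((MulAut.conjNormal x w : R) : G) = w
      rw [MulAut.conjNormal_apply, hxy w ⟨w, hw, rfl⟩]
      group)
    have h5 : a ⟨y, hy⟩ = ⟨y, hy⟩ := by rw [h4]; rfl
    have h6 := congrArg Subtype.val h5
    have h7 : x * y * x⁻¹ = y := by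
      have : ((MulAut.conjNormal x (⟨y, hy⟩ : R) : R) : G) = x * y * x⁻¹ := MulAut.conjNormal_apply _ _
      rw [← this]; exact h6
    exact mul_inv_eq_iff_eq_mul.mp h7

variable {q : ℕ} [hq : Fact q.Prime] {V : Type*} [AddCommGroup V] [Module (ZMod q) V] [Finite V]
  {G : Type*} [Group G] {ρ : G →* (V ≃ₗ[ZMod q] V)}

/-- the centre of a normal subgroup, as a subgroup of the big group -/
def Zc (N : Subgroup G) : Subgroup G := N ⊓ Subgroup.centralizer (N : Set G)

theorem mem_Zc {N : Subgroup G} {x : G} : x ∈ Zc N ↔ x ∈ N ∧ ∀ y ∈ N, x * y = y * x := by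
  unfold Zc
  rw [Subgroup.mem_inf, Subgroup.mem_centralizer_iff]
  constructor
  · rintro ⟨h1, h2⟩
    exact ⟨h1, fun y hy => (h2 y hy).symm⟩
  · rintro ⟨h1, h2⟩
    exact ⟨h1, fun y hy => (h2 y hy).symm⟩

theorem na_Zc (hinj : Function.Injective ρ) (ht : Tr ρ) {N : Subgroup G} (hN : N.Normal) : NA ρ (Zc N) := by
  refine ⟨hinj, ht, ?_, ?_⟩
  · constructor
    intro x hx g
    rw [mem_Zc] at hx ⊢
    refine ⟨hN.conj_mem x hx.1 g, ?_⟩
    intro y hy
    have h1 := hx.2 (g⁻¹ * y * g) (by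
      have := hN.conj_mem y hy g⁻¹
      rwa [inv_inv] at this)
    calc g * x * g⁻¹ * y = g * (x * (g⁻¹ * y * g)) * g⁻¹ := by group
      _ = g * ((g⁻¹ * y * g) * x) * g⁻¹ := by rw [h1]
      _ = y * (g * x * g⁻¹) := by group
  · intro a ha b hb
    exact (mem_Zc.mp ha).2 b (mem_Zc.mp hb).1

/-- Either the critical subgroup is abelian or it gives the `DD` data. -/
theorem dd_of_crit (hinj : Function.Injective ρ) (ht : Tr ρ) {r : ℕ} (hr : r.Prime) {D R : Subgroup G} (hD : D.Normal)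
    (hDR : D ≤ R) (hR : IsPGroup r R)
    (h1 : ∀ x ∈ D, ∀ y ∈ D, x ^ r * y = y * x ^ r)
    (h2 : ∀ x ∈ D, ∀ y ∈ R, ⁅x, y⁆ ∈ D ∧ ∀ w ∈ D, ⁅x, y⁆ * w = w * ⁅x, y⁆)
    (hna : ∃ x ∈ D, ∃ y ∈ D, x * y ≠ y * x) : DD ρ D (Zc D) r :=
  { na := na_Zc hinj ht hD
    Dn := hD
    rp := hr
    rD := hR.to_le hDR
    cen := fun x => mem_Zc
    pow := fun x hx => mem_Zc.mpr ⟨pow_mem hx r, h1 x hx⟩
    comm := fun x hx y hy => mem_Zc.mpr (h2 x hx y (hDR hy))
    nonab := hna }

/-- If an element `x` of the primitive prime order `s` lies in a normal abelian subgroup then the group is semilinear. -/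
theorem semi_of_mem [Finite G] [Nontrivial V] {A : Subgroup G} (h : NA ρ A) {s : ℕ}
    (hsd : s ∣ Nat.card A) (hprim : ∀ i, 1 ≤ i → i < Module.finrank (ZMod q) V → ¬ s ∣ q ^ i - 1) : Semi ρ := by
  obtain ⟨m, hm, hV, hf⟩ := exists_card_pow h
  have hfin := finite_alg (ρ := ρ) (A := A)
  set d := Module.finrank (ZMod q) (alg ρ A) with hd
  have hd1 : 1 ≤ d := by
    have : Nontrivial (alg ρ A) := (isDomain_alg h).toNontrivial
    exact Module.finrank_pos
  have h1 : s ∣ q ^ d - 1 := by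
    have := hsd.trans (card_A_dvd h)
    rwa [card_alg_eq] at this
  have h2 : ¬ d < Module.finrank (ZMod q) V := fun h' => hprim d hd1 h' h1
  have hm1 : m = 1 := by
    by_contra hne
    apply h2
    rw [hf]
    have : 2 ≤ m := by omega
    nlinarith
  apply semi_of_card h
  rw [hV, hm1, pow_one]

/-- The main reduction with a primitive prime divisor. -/
theorem primitive_case [Finite G] [Nontrivial V] [hsol : Group.IsSolvable G] (hinj : Function.Injective ρ) (ht : Tr ρ)
    {s : ℕ} (hs : s.Prime) (hsd : s ∣ q ^ Module.finrank (ZMod q) V - 1)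
    (hprim : ∀ i, 1 ≤ i → i < Module.finrank (ZMod q) V → ¬ s ∣ q ^ i - 1)
    (hlt : Module.finrank (ZMod q) V < s) :
    Semi ρ ∨ ∃ (D A : Subgroup G) (r n m : ℕ), DD ρ D A r ∧ r ≠ s ∧ Nat.card V = Nat.card (alg ρ A) ^ m ∧
      Module.finrank (ZMod q) V = Module.finrank (ZMod q) (alg ρ A) * m ∧
      Nat.card D = r ^ (2 * n) * Nat.card A ∧ 1 ≤ n ∧ r ^ n ≤ m ∧ s ≤ r ^ n + 1 := by
  have : Fact s.Prime := ⟨hs⟩
  have hsG : s ∣ Nat.card G := by
    refine dvd_trans ?_ (card_dvd ht)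
    rwa [card_V_eq (q := q) (V := V)]
  obtain ⟨x, hx⟩ := exists_prime_orderOf_dvd_card' s hsG
  have hxs : x ^ s = 1 := by rw [← hx, pow_orderOf_eq_one]
  have hdf : ∀ {A : Subgroup G}, NA ρ A → Module.finrank (ZMod q) (alg ρ A) ≤ Module.finrank (ZMod q) V := by
    intro A hA
    obtain ⟨m, hm, hV, hf⟩ := exists_card_pow hA
    rw [hf]
    exact Nat.le_mul_of_pos_right _ hm
  by_cases hall : ∀ r : ℕ, r.Prime → ∀ y ∈ Cfsg.pCore r G, x * y = y * x
  · left
    -- x lies in the Fitting subgroup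
    have hxF : ∀ y ∈ Cfsg.fittingSubgroup G, x * y = y * x := by
      have hle : Cfsg.fittingSubgroup G ≤ Subgroup.centralizer {x} := by
        rw [Cfsg.Agent.Lib.Fitting.fittingSubgroup_eq_iSup_pCore]
        apply iSup_le
        rintro ⟨r, hr⟩ y hy
        rw [Subgroup.mem_centralizer_iff]
        intro w hw
        rw [Set.mem_singleton_iff.mp hw]
        exact hall r hr y hy
      intro y hy
      exact Subgroup.mem_centralizer_iff.mp (hle hy) x (Set.mem_singleton x)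
    have hxmem : x ∈ Cfsg.fittingSubgroup G := by
      apply Cfsg.Agent.Lib.Fitting.centralizer_fittingSubgroup_le
      rw [Subgroup.mem_centralizer_iff]
      intro y hy
      exact (hxF y hy).symm
    have hna := na_Zc hinj ht (Cfsg.Agent.Lib.Fitting.normal_fittingSubgroup (G := G))
    have hxA : x ∈ Zc (Cfsg.fittingSubgroup G) := mem_Zc.mpr ⟨hxmem, hxF⟩
    refine semi_of_mem hna ?_ hprim
    rw [← hx]
    exact Subgroup.orderOf_dvd_natCard _ hxA
  · push Not at hall
    obtain ⟨r, hr, y, hy, hxy⟩ := hall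
    have : Fact r.Prime := ⟨hr⟩
    have hRn : (Cfsg.pCore r G).Normal := Cfsg.Agent.Lib.Fitting.normal_pCore r
    have hR : IsPGroup r (Cfsg.pCore r G) := Cfsg.Agent.Lib.Fitting.isPGroup_pCore r
    by_cases hrs : r = s
    · left
      subst hrs
      have hna := na_Zc hinj ht hRn
      refine semi_of_mem hna ?_ hprim
      have hne : Nontrivial (Cfsg.pCore r G) := by
        refine ⟨⟨⟨y, hy⟩, 1, ?_⟩⟩
        intro h
        have : y = 1 := congrArg Subtype.val h
        rw [this] at hxy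
        exact hxy (by simp)
      have hcn : Nontrivial (Subgroup.center (Cfsg.pCore r G)) := hR.center_nontrivial
      have hmap : (Subgroup.center (Cfsg.pCore r G)).map (Cfsg.pCore r G).subtype = Zc (Cfsg.pCore r G) := by
        ext g
        rw [mem_Zc]
        constructor
        · rintro ⟨c, hc, rfl⟩
          exact ⟨c.2, fun y hy => (congrArg Subtype.val (Subgroup.mem_center_iff.mp hc ⟨y, hy⟩)).symm⟩
        · rintro ⟨h1, h2⟩
          refine ⟨⟨g, h1⟩, ?_, rfl⟩
          show (⟨g, h1⟩ : Cfsg.pCore r G) ∈ Subgroup.center _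
          rw [Subgroup.mem_center_iff]
          intro c
          exact Subtype.ext (h2 c c.2).symm
      rw [← hmap]
      have hcard : Nat.card ((Subgroup.center (Cfsg.pCore r G)).map (Cfsg.pCore r G).subtype) =
          Nat.card (Subgroup.center (Cfsg.pCore r G)) :=
        (Nat.card_congr ((Subgroup.center (Cfsg.pCore r G)).equivMapOfInjective _ (Subgroup.subtype_injective _)).toEquiv).symm
      rw [hcard]
      obtain ⟨k, hk⟩ := (hR.to_subgroup (Subgroup.center (Cfsg.pCore r G))).exists_card_eq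
      have h1 : 1 < Nat.card (Subgroup.center (Cfsg.pCore r G)) := Finite.one_lt_card
      rw [hk] at h1 ⊢
      have hk0 : k ≠ 0 := by rintro rfl; simp at h1
      exact dvd_pow_self r hk0
    · right
      obtain ⟨D, hDn, hDR, h1, h2, h3, h4⟩ := exists_crit hr hRn hR
      have hsr : s.Coprime r := (Nat.coprime_primes hs hr).mpr (Ne.symm hrs)
      have hxD : ∃ d ∈ D, x * d ≠ d * x := by
        by_contra hcon
        push Not at hcon
        exact hxy (h4 x s hxs hsr hcon y hy)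
      have hcent : ∀ {A : Subgroup G}, NA ρ A → ∀ a ∈ A, x * a = a * x := by
        intro A hA a ha
        have h5 := mem_centralizer_of_pow hA hs hxs (lt_of_le_of_lt (hdf hA) hlt)
        exact (Subgroup.mem_centralizer_iff.mp h5 a ha).symm
      have hna : ∃ x ∈ D, ∃ y ∈ D, x * y ≠ y * x := by
        by_contra hcon
        push Not at hcon
        obtain ⟨d, hd, hxd⟩ := hxD
        exact hxd (hcent ⟨hinj, ht, hDn, hcon⟩ d hd)
      have hDD := dd_of_crit hinj ht hr hDn hDR hR h1 h2 hna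
      obtain ⟨m, hm, hV, hf⟩ := exists_card_pow hDD.na
      obtain ⟨n, hn1, hn2, hn3, hn4⟩ := prime_le hDD hs (Ne.symm hrs) hxs (hcent hDD.na) hxD hV
      exact ⟨D, Zc D, r, n, m, hDD, hrs, hV, hf, hn1, hn2, hn3, hn4⟩

end Cfsg.Agent.Lib.HupG
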