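import Cfsg.Agent.Lib.HupG

/-!
# Transitive linear groups with a normal class two 2-subgroup with scalar centre: counting involutions (helper61)
-/

set_option autoImplicit false

open scoped commutatorElement

namespace Cfsg.Agent.Lib.HupH

open HupA HupB HupC HupD HupE HupF HupG

variable {q : ℕ} [hq : Fact q.Prime] {V : Type*} [AddCommGroup V] [Module (ZMod q) V] [Finite V]
  {G : Type*} [Group G] {ρ : G →* (V ≃ₗ[ZMod q] V)} {D A : Subgroup G} {r : ℕ}

theorem dd_ne [Finite G] [Nontrivial V] (h : DD ρ D A r) : r ≠ q := by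
  rintro rfl
  have h1 := eq_bot_of_isPGroup h.na.inj h.na.tr h.Dn h.rD
  obtain ⟨x, hx, y, hy, hxy⟩ := h.nonab
  rw [h1, Subgroup.mem_bot] at hx hy
  exact hxy (by rw [hx, hy])

theorem exists_scalar [Nontrivial V] (h1 : Module.finrank (ZMod q) (alg ρ A) = 1) {a : G} (ha : a ∈ A) :
    ∃ c : ZMod q, ∀ v, ρ a v = c • v := by
  have hfin := finite_alg (ρ := ρ) (A := A)
  have h2 : alg ρ A = ⊥ := Subalgebra.finrank_eq_one_iff.mp h1
  have h3 := en_mem_alg ρ ha
  rw [h2, Algebra.mem_bot] at h3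
  obtain ⟨c, hc⟩ := h3
  refine ⟨c, fun v => ?_⟩
  have := congrArg (fun f : Module.End (ZMod q) V => f v) hc
  exact this.symm

theorem smul_eq_self {c : ZMod q} {v : V} (hv : v ≠ 0) (h : c • v = v) : c = 1 := by
  have h1 : (c - 1) • v = 0 := by rw [sub_smul, one_smul, h, sub_self]
  rcases smul_eq_zero.mp h1 with h2 | h2
  · exact sub_eq_zero.mp h2
  · exact absurd h2 hv

theorem eq_one_of_smul [Nontrivial V] (hinj : Function.Injective ρ) {a : G} (h : ∀ v, ρ a v = v) : a = 1 := by
  apply hinj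
  rw [map_one]
  ext v
  exact h v

theorem two_ne (hq2 : q ≠ 2) : (2 : ZMod q) ≠ 0 := by
  intro h
  have h1 : ((2 : ℕ) : ZMod q) = 0 := by exact_mod_cast h
  rw [ZMod.natCast_eq_zero_iff] at h1
  exact hq2 ((Nat.prime_dvd_prime_iff_eq hq.out Nat.prime_two).mp h1)

theorem eq_zero_of_add_self (hq2 : q ≠ 2) {v : V} (h : v + v = 0) : v = 0 := by
  have h1 : (2 : ZMod q) • v = 0 := by rw [two_smul]; exact h
  exact (smul_eq_zero.mp h1).resolve_left (two_ne hq2)

/-- An element of order two of `A` is the scalar `-1`. -/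
theorem neg_of_sq [Nontrivial V] (hinj : Function.Injective ρ) (h1 : Module.finrank (ZMod q) (alg ρ A) = 1) {a : G} (ha : a ∈ A)
    (ha2 : a ^ 2 = 1) (hne : a ≠ 1) (v : V) : ρ a v = -v := by
  obtain ⟨c, hc⟩ := exists_scalar h1 ha
  obtain ⟨w, hw⟩ := exists_ne (0 : V)
  have h2 : c * c = 1 := by
    apply smul_eq_self hw
    rw [mul_smul, ← hc w, ← hc, ← HupA.mul_apply, ← pow_two, ha2, map_one]; rfl
  have h3 : (c - 1) * (c + 1) = 0 := by linear_combination h2
  rcases mul_eq_zero.mp h3 with h4 | h4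
  · exfalso
    apply hne
    apply eq_one_of_smul hinj
    intro v
    rw [hc, sub_eq_zero.mp h4, one_smul]
  · rw [hc, eq_neg_of_add_eq_zero_left h4, neg_smul, one_smul]

/-- Fixed points of a noncentral involution. -/
theorem card_fix [Finite G] [Nontrivial V] (h : DD ρ D A 2) (h1 : Module.finrank (ZMod q) (alg ρ A) = 1) {Q : ℕ}
    (hQ : Nat.card V = Q ^ 2) {d : G} (hd : d ∈ D) (hdA : d ∉ A) (hd2 : d ^ 2 = 1) :
    Nat.card {v : V // ρ d v = v} = Q := by
  have hq2 : q ≠ 2 := (dd_ne h).symm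
  obtain ⟨b, hb, hbd⟩ : ∃ b ∈ D, d * b ≠ b * d := by
    by_contra hcon
    push Not at hcon
    exact hdA ((h.cen d).mpr ⟨hd, hcon⟩)
  have hc : ⁅b, d⁆ ∈ A := h.comm b hb d hd
  have hc2 : ⁅b, d⁆ ^ 2 = 1 := congrArg (fun t : D => (t : G)) (h.pow_comm ⟨b, hb⟩ ⟨d, hd⟩)
  have hc1 : ⁅b, d⁆ ≠ 1 := by
    intro h'
    exact hbd (commutatorElement_eq_one_iff_mul_comm.mp h').symm
  have hneg := neg_of_sq h.na.inj h1 hc hc2 hc1
  have hbd1 : ∀ v, ρ b (ρ d v) = - ρ d (ρ b v) := by
    intro v
    rw [← hneg, ← HupA.mul_apply, ← HupA.mul_apply, ← HupA.mul_apply]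
    congr 2
    rw [commutatorElement_def]; group
  have hdd : ∀ v, ρ d (ρ d v) = v := by
    intro v
    rw [← HupA.mul_apply, ← pow_two, hd2, map_one]; rfl
  -- E₊ and E₋
  have he : Nat.card {v : V // ρ d v = v} = Nat.card {v : V // ρ d v = -v} := by
    apply le_antisymm
    · refine Nat.card_le_card_of_injective (fun v : {v : V // ρ d v = v} => (⟨ρ b v, ?_⟩ : {v : V // ρ d v = -v})) ?_
      · have h5 := hbd1 v
        rw [v.2] at h5
        have h6 := congrArg (fun t => -t) h5
        simp only [neg_neg] at h6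
        exact h6.symm
      · intro v w hvw
        exact Subtype.ext ((ρ b).injective (congrArg Subtype.val hvw))
    · refine Nat.card_le_card_of_injective (fun v : {v : V // ρ d v = -v} => (⟨ρ b v, ?_⟩ : {v : V // ρ d v = v})) ?_
      · have := hbd1 v
        rw [v.2, map_neg, neg_inj] at this
        exact this.symm
      · intro v w hvw
        exact Subtype.ext ((ρ b).injective (congrArg Subtype.val hvw))
  have hprod : Nat.card V = Nat.card {v : V // ρ d v = v} * Nat.card {v : V // ρ d v = -v} := by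
    rw [← Nat.card_prod]
    apply le_antisymm
    · refine Nat.card_le_card_of_injective (fun v : V => ((⟨v + ρ d v, ?_⟩ : {v : V // ρ d v = v}),
        (⟨v - ρ d v, ?_⟩ : {v : V // ρ d v = -v}))) ?_
      · rw [map_add, hdd, add_comm]
      · rw [map_sub, hdd, neg_sub]
      · intro v w hvw
        have e1 : v + ρ d v = w + ρ d w := congrArg (fun t => ((t.1 : {v : V // ρ d v = v}) : V)) hvw
        have e2 : v - ρ d v = w - ρ d w := congrArg (fun t => ((t.2 : {v : V // ρ d v = -v}) : V)) hvw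
        have e3 : (v - w) + (v - w) = 0 := by
          have : (v - w) + (v - w) = ((v + ρ d v) - (w + ρ d w)) + ((v - ρ d v) - (w - ρ d w)) := by abel
          rw [this, e1, e2]; abel
        exact sub_eq_zero.mp (eq_zero_of_add_self hq2 e3)
    · refine Nat.card_le_card_of_injective (fun t : {v : V // ρ d v = v} × {v : V // ρ d v = -v} => (t.1 : V) + t.2) ?_
      rintro ⟨⟨a, ha⟩, ⟨b, hb⟩⟩ ⟨⟨a', ha'⟩, ⟨b', hb'⟩⟩ hab
      simp only at hab
      have e1 : ρ d (a + b) = ρ d (a' + b') := by rw [hab]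
      rw [map_add, map_add, ha, hb, ha', hb'] at e1
      have e2 : (a - a') + (a - a') = 0 := by
        have : (a - a') + (a - a') = ((a + b) - (a' + b')) + ((a + -b) - (a' + -b')) := by abel
        rw [this, hab, e1]; abel
      have e3 := sub_eq_zero.mp (eq_zero_of_add_self hq2 e2)
      subst e3
      have e4 : b = b' := add_left_cancel hab
      subst e4
      rfl
  rw [← he, ← pow_two, hQ] at hprod
  exact (Nat.pow_left_injective (n := 2) (by norm_num) hprod).symm

/-- The set of noncentral involutions. -/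
def J (D A : Subgroup G) : Set G := {d | d ∈ D ∧ d ∉ A ∧ d ^ 2 = 1}

theorem count [Finite G] [Nontrivial V] (h : DD ρ D A 2) (h1 : Module.finrank (ZMod q) (alg ρ A) = 1) {Q : ℕ}
    (hQ : Nat.card V = Q ^ 2) : ∃ c : ℕ, (J D A).ncard = (Q + 1) * c := by
  classical
  have := Fintype.ofFinite V
  have := Fintype.ofFinite G
  obtain ⟨v₀, hv₀⟩ := exists_ne (0 : V)
  have hQ2 : 2 ≤ Q := by
    by_contra hcon
    have h2 : 1 < Nat.card V := Finite.one_lt_card
    rw [hQ] at h2
    have : Q ≤ 1 := by omega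
    have : Q ^ 2 ≤ 1 ^ 2 := Nat.pow_le_pow_left this 2
    omega
  -- stabilizers
  have hle : ∀ v : V, ∀ g : G, (Finset.univ.filter (fun d : G => d ∈ D ∧ ρ d v = v)).card ≤
      (Finset.univ.filter (fun d : G => d ∈ D ∧ ρ d (ρ g v) = ρ g v)).card := by
    intro v g
    refine Finset.card_le_card_of_injOn (fun d => g * d * g⁻¹) ?_ ?_
    · intro d hd
      simp only [Finset.coe_filter, Finset.mem_univ, true_and, Set.mem_ofPred_eq] at hd ⊢
      refine ⟨h.Dn.conj_mem d hd.1 g, ?_⟩
      rw [HupA.mul_apply, HupA.mul_apply, inv_apply_apply, hd.2]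
    · intro a _ b _ hab
      simp only at hab
      exact mul_left_cancel (mul_right_cancel hab)
  set c0 := (Finset.univ.filter (fun d : G => d ∈ D ∧ ρ d v₀ = v₀)).card with hc0
  have hconst : ∀ v : V, v ≠ 0 → (Finset.univ.filter (fun d : G => d ∈ D ∧ ρ d v = v)).card = c0 := by
    intro v hv
    obtain ⟨g, hg⟩ := h.na.tr v₀ v hv₀ hv
    obtain ⟨g', hg'⟩ := h.na.tr v v₀ hv hv₀
    apply le_antisymm
    · have := hle v g'; rw [hg'] at this; exact this
    · have := hle v₀ g; rw [hg] at this; exact this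
  have hc1 : 1 ≤ c0 := by
    rw [hc0]
    apply Finset.card_pos.mpr
    refine ⟨1, ?_⟩
    rw [Finset.mem_filter]
    exact ⟨Finset.mem_univ _, one_mem _, by rw [map_one]; rfl⟩
  -- double counting
  set S : Finset V := Finset.univ.filter (fun v => v ≠ 0) with hS
  have hScard : S.card = Q ^ 2 - 1 := by
    rw [hS, Finset.filter_ne', Finset.card_erase_of_mem (Finset.mem_univ _), Finset.card_univ,
      ← Nat.card_eq_fintype_card, hQ]
  have hdc : ∑ v ∈ S, (Finset.univ.filter (fun d : G => d ∈ D ∧ ρ d v = v)).card =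
      ∑ d : G, (S.filter (fun v => d ∈ D ∧ ρ d v = v)).card := by
    simp only [Finset.card_filter]
    rw [Finset.sum_comm]
  have hL : ∑ v ∈ S, (Finset.univ.filter (fun d : G => d ∈ D ∧ ρ d v = v)).card = (Q ^ 2 - 1) * c0 := by
    rw [Finset.sum_congr rfl (g := fun _ => c0), Finset.sum_const, hScard, smul_eq_mul]
    intro v hv
    exact hconst v (Finset.mem_filter.mp hv).2
  -- values
  have hval : ∀ d : G, (S.filter (fun v => d ∈ D ∧ ρ d v = v)).card =
      (if d = 1 then Q ^ 2 - 1 else 0) + (if d ∈ J D A then Q - 1 else 0) := by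
    intro d
    by_cases hd1 : d = 1
    · subst hd1
      have hnJ : (1 : G) ∉ J D A := fun h' => h'.2.1 (one_mem _)
      rw [if_pos rfl, if_neg hnJ, add_zero, ← hScard]
      congr 1
      apply Finset.filter_true_of_mem
      intro v _
      exact ⟨one_mem _, by rw [map_one]; rfl⟩
    · rw [if_neg hd1, zero_add]
      by_cases hJ : d ∈ J D A
      · rw [if_pos hJ]
        obtain ⟨hdD, hdA, hd2⟩ := hJ
        have h2 := card_fix h h1 hQ hdD hdA hd2
        have h3 : S.filter (fun v => d ∈ D ∧ ρ d v = v) = (Finset.univ.filter (fun v => ρ d v = v)).erase 0 := by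
          ext v
          simp only [hS, Finset.mem_filter, Finset.mem_univ, true_and, Finset.mem_erase]
          tauto
        rw [h3, Finset.card_erase_of_mem]
        · rw [← Fintype.card_subtype, ← Nat.card_eq_fintype_card, h2]
        · simp
      · rw [if_neg hJ, Finset.card_eq_zero, Finset.filter_eq_empty_iff]
        rintro v hv ⟨hdD, hdv⟩
        have hv0 : v ≠ 0 := (Finset.mem_filter.mp hv).2
        have hd2A : d ^ 2 ∈ A := h.pow d hdD
        have hfix2 : ρ (d ^ 2) v = v := by rw [pow_two, HupA.mul_apply, hdv, hdv]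
        have hsc : ∀ a ∈ A, ρ a v = v → a = 1 := by
          intro a ha hav
          obtain ⟨c, hc⟩ := exists_scalar h1 ha
          have h5 : c = 1 := smul_eq_self hv0 (by rw [← hc, hav])
          apply eq_one_of_smul h.na.inj
          intro w
          rw [hc, h5, one_smul]
        have hd2 := hsc _ hd2A hfix2
        by_cases hdA : d ∈ A
        · exact hd1 (hsc d hdA hdv)
        · exact hJ ⟨hdD, hdA, hd2⟩
  have hR : ∑ d : G, (S.filter (fun v => d ∈ D ∧ ρ d v = v)).card = (Q ^ 2 - 1) + (J D A).ncard * (Q - 1) := by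
    rw [Finset.sum_congr rfl (fun d _ => hval d), Finset.sum_add_distrib, Finset.sum_ite_eq' Finset.univ (1 : G),
      if_pos (Finset.mem_univ _), ← Finset.sum_filter, Finset.sum_const, smul_eq_mul]
    congr 2
    rw [Set.ncard_eq_toFinset_card']
    congr 1
    ext d
    simp
  rw [hL, hR] at hdc
  refine ⟨c0 - 1, ?_⟩
  obtain ⟨Q', rfl⟩ : ∃ Q', Q = Q' + 1 := ⟨Q - 1, by omega⟩
  obtain ⟨c', hc'⟩ : ∃ c', c0 = c' + 1 := ⟨c0 - 1, by omega⟩
  rw [hc'] at hdc ⊢
  have e1 : (Q' + 1) ^ 2 - 1 = Q' * (Q' + 1 + 1) := by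
    have : (Q' + 1) ^ 2 = Q' * (Q' + 1 + 1) + 1 := by ring
    omega
  rw [e1] at hdc
  simp only [Nat.add_sub_cancel] at hdc ⊢
  have e2 : Q' * ((Q' + 1 + 1) * c') = Q' * (J D A).ncard := by
    have : Q' * (Q' + 1 + 1) * (c' + 1) = Q' * ((Q' + 1 + 1) * c') + Q' * (Q' + 1 + 1) := by ring
    rw [this] at hdc
    have h5 : (J D A).ncard * Q' = Q' * (J D A).ncard := mul_comm _ _
    omega
  exact (Nat.eq_of_mul_eq_mul_left (by omega) e2).symm

end Cfsg.Agent.Lib.HupH
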