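import Cfsg.Agent.Lib.HupH
import Cfsg.Agent.S2904

/-!
# Huppert's theorem in dimension at least three (helper61)
-/

set_option autoImplicit false

open scoped commutatorElement

namespace Cfsg.Agent.Lib.HupI

open HupA HupB HupC HupD HupE HupF HupG HupH

variable {q : ℕ} [hq : Fact q.Prime] {V : Type*} [AddCommGroup V] [Module (ZMod q) V] [Finite V]
  {G : Type*} [Group G] {ρ : G →* (V ≃ₗ[ZMod q] V)} {D A : Subgroup G} {r : ℕ}

theorem J_le [Finite G] [Nontrivial V] (h : DD ρ D A 2) (h1 : Module.finrank (ZMod q) (alg ρ A) = 1) :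
    (J D A).ncard ≤ 2 * (Subgroup.center D).index := by
  classical
  have := Fintype.ofFinite G
  have := Fintype.ofFinite D
  have : Fintype (D ⧸ Subgroup.center D) := Fintype.ofFinite _
  let T : Finset D := Finset.univ.filter (fun d : D => (d : G) ∈ J D A)
  have hT : (J D A).ncard = T.card := by
    rw [Set.ncard_eq_toFinset_card']
    symm
    refine Finset.card_bij (s := T) (t := (J D A).toFinset) (fun d _ => (d : G)) ?_ ?_ ?_
    · intro d hd
      rw [Set.mem_toFinset]
      exact (Finset.mem_filter.mp hd).2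
    · intro a _ b _ hab
      exact Subtype.ext hab
    · intro g hg
      rw [Set.mem_toFinset] at hg
      exact ⟨⟨g, hg.1⟩, Finset.mem_filter.mpr ⟨Finset.mem_univ _, hg⟩, rfl⟩
  rw [hT]
  have h2 := Finset.card_le_mul_card_image (s := T) (f := fun d : D => (QuotientGroup.mk d : D ⧸ Subgroup.center D)) 2 (by
    intro b _
    by_contra hcon
    push Not at hcon
    rw [Finset.two_lt_card] at hcon
    obtain ⟨d0, h0, d1, h1', d2, h2', h01, h02, h12⟩ := hcon
    rw [Finset.mem_filter] at h0 h1' h2'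
    have hkey : ∀ d : D, d ∈ T → (QuotientGroup.mk d : D ⧸ Subgroup.center D) = b → d ≠ d0 →
        ((d0⁻¹ * d : D) : G) ∈ A ∧ ((d0⁻¹ * d : D) : G) ^ 2 = 1 ∧ ((d0⁻¹ * d : D) : G) ≠ 1 := by
      intro d hd hdb hne
      have e1 : d0⁻¹ * d ∈ Subgroup.center D := by
        rw [← QuotientGroup.eq, h0.2, hdb]
      have e2 := (h.mem_center _).mp e1
      refine ⟨e2, ?_, ?_⟩
      · have hd0 : (d0 : G) ^ 2 = 1 := (Finset.mem_filter.mp h0.1).2.2.2
        have hd' : (d : G) ^ 2 = 1 := (Finset.mem_filter.mp hd).2.2.2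
        have e3 : ((d0⁻¹ * d : D) : G) * d0 = d0 * ((d0⁻¹ * d : D) : G) := ((h.cen _).mp e2).2 d0 d0.2
        have e4 : (d : G) = d0 * ((d0⁻¹ * d : D) : G) := by
          rw [Subgroup.coe_mul, Subgroup.coe_inv, mul_inv_cancel_left]
        have e5 : Commute (d0 : G) ((d0⁻¹ * d : D) : G) := e3.symm
        rw [e4, e5.mul_pow, hd0, one_mul] at hd'
        exact hd'
      · intro e3
        apply hne
        have e4 : d0⁻¹ * d = 1 := Subtype.ext e3
        exact (inv_mul_eq_one.mp e4).symm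
    obtain ⟨a1, a2, a3⟩ := hkey d1 h1'.1 h1'.2 (Ne.symm h01)
    obtain ⟨b1, b2, b3⟩ := hkey d2 h2'.1 h2'.2 (Ne.symm h02)
    have e1 : ((d0⁻¹ * d1 : D) : G) = ((d0⁻¹ * d2 : D) : G) := by
      apply h.na.inj
      ext v
      rw [neg_of_sq h.na.inj h1 a1 a2 a3, neg_of_sq h.na.inj h1 b1 b2 b3]
    exact h12 (mul_left_cancel (Subtype.ext e1)))
  refine h2.trans (Nat.mul_le_mul_left 2 ?_)
  refine (Finset.card_le_univ _).trans ?_
  rw [← Nat.card_eq_fintype_card]
  rfl

/-- The centralizer of an element has index at most two. -/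
theorem card_centralizer_ge [Finite G] [Nontrivial V] (h : DD ρ D A 2) {a : G} (ha : a ∈ D) :
    Nat.card D ≤ 2 * Nat.card (D ⊓ Subgroup.centralizer {a} : Subgroup G) := by
  obtain ⟨z, hz⟩ := h.xc
  let φ : D →* Subgroup.zpowers z :=
    { toFun := fun d => ⟨⁅d, (⟨a, ha⟩ : D)⁆, hz.comm _ _⟩
      map_one' := by
        apply Subtype.ext
        simp
      map_mul' := fun x y => by
        apply Subtype.ext
        exact PGroupClassTwo.comm_mul_left h.comm_mem x y _ }
  have h1 : φ.ker.index ≤ 2 := by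
    rw [Subgroup.index_ker]
    calc Nat.card φ.range ≤ Nat.card (Subgroup.zpowers z) := Subgroup.card_le_card_group _
      _ = 2 := by rw [Nat.card_zpowers, hz.ord]
  have h2 : Nat.card φ.ker = Nat.card (D ⊓ Subgroup.centralizer {a} : Subgroup G) := by
    have hmap : φ.ker.map D.subtype = D ⊓ Subgroup.centralizer {a} := by
      ext g
      rw [Subgroup.mem_inf, Subgroup.mem_centralizer_iff]
      constructor
      · rintro ⟨d, hd, rfl⟩
        refine ⟨d.2, ?_⟩
        intro w hw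
        rw [Set.mem_singleton_iff.mp hw]
        have h3 : ⁅d, (⟨a, ha⟩ : D)⁆ = 1 := congrArg Subtype.val (MonoidHom.mem_ker.mp hd)
        rw [commutatorElement_eq_one_iff_mul_comm] at h3
        exact (congrArg Subtype.val h3).symm
      · rintro ⟨hg, hga⟩
        refine ⟨⟨g, hg⟩, ?_, rfl⟩
        show (⟨g, hg⟩ : D) ∈ φ.ker
        rw [MonoidHom.mem_ker]
        apply Subtype.ext
        show ⁅(⟨g, hg⟩ : D), (⟨a, ha⟩ : D)⁆ = 1
        rw [commutatorElement_eq_one_iff_mul_comm]
        exact Subtype.ext (hga a (Set.mem_singleton a)).symm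
    rw [← hmap]
    exact Nat.card_congr (φ.ker.equivMapOfInjective _ (Subgroup.subtype_injective _)).toEquiv
  have h3 := Subgroup.index_mul_card φ.ker
  rw [← h2, ← h3]
  exact Nat.mul_le_mul_right _ h1

/-- if `g ∈ D \ A` has a square which is a square in `A`, there is a noncentral involution. -/
theorem J_of_square [Finite G] [Nontrivial V] (h : DD ρ D A 2) {g c : G} (hg : g ∈ D) (hgA : g ∉ A) (hc : c ∈ A)
    (hgc : g ^ 2 = c ^ 2) : (J D A).Nonempty := by
  refine ⟨g * c⁻¹, mul_mem hg (inv_mem (h.A_le hc)), ?_, ?_⟩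
  · intro h'
    apply hgA
    have := mul_mem h' hc
    rwa [inv_mul_cancel_right] at this
  · have h1 : Commute g c⁻¹ := (((h.cen c).mp hc).2 g hg).symm |> Commute.inv_right
    rw [h1.mul_pow, hgc, inv_pow, mul_inv_cancel]

theorem J_nonempty [Finite G] [Nontrivial V] (h : DD ρ D A 2) (hidx : 8 * Nat.card A ≤ Nat.card D) :
    (J D A).Nonempty := by
  have hApos : 0 < Nat.card A := Nat.card_pos
  obtain ⟨a, ha, haA⟩ : ∃ a ∈ D, a ∉ A := by
    by_contra hcon
    push Not at hcon
    have : Nat.card D ≤ Nat.card A := Nat.le_of_dvd hApos (Subgroup.card_dvd_of_le hcon)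
    omega
  have h1 := card_centralizer_ge h ha
  -- find b
  obtain ⟨b, hbC, hbA, hbaA⟩ : ∃ b ∈ (D ⊓ Subgroup.centralizer {a} : Subgroup G), b ∉ A ∧ a * b ∉ A := by
    by_contra hcon
    push Not at hcon
    have h2 : Nat.card (D ⊓ Subgroup.centralizer {a} : Subgroup G) ≤ Nat.card A + Nat.card A := by
      rw [← Nat.card_sum]
      classical
      refine Nat.card_le_card_of_injective (fun b : (D ⊓ Subgroup.centralizer {a} : Subgroup G) =>
        if hb : (b : G) ∈ A then (Sum.inl ⟨b, hb⟩ : A ⊕ A) else Sum.inr ⟨a * b, hcon b b.2 hb⟩) ?_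
      intro x y hxy
      simp only at hxy
      split_ifs at hxy with e1 e2 e2
      · have h5 := Sum.inl.inj hxy
        exact Subtype.ext (congrArg (fun t : A => (t : G)) h5)
      · have h5 := Sum.inr.inj hxy
        exact Subtype.ext (mul_left_cancel (congrArg (fun t : A => (t : G)) h5))
    omega
  have hbD : b ∈ D := (Subgroup.mem_inf.mp hbC).1
  have hab : a * b = b * a := Subgroup.mem_centralizer_iff.mp (Subgroup.mem_inf.mp hbC).2 a (Set.mem_singleton a)
  have hcyc : IsCyclic A := isCyclic_A h.na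
  obtain ⟨⟨g0, hg0⟩, hgen⟩ := hcyc.exists_generator
  have hpow : ∀ g ∈ A, ∃ i : ℤ, g = g0 ^ i := by
    intro g hg
    obtain ⟨i, hi⟩ := hgen ⟨g, hg⟩
    exact ⟨i, (congrArg Subtype.val hi).symm⟩
  obtain ⟨i, hi⟩ := hpow _ (h.pow a ha)
  obtain ⟨j, hj⟩ := hpow _ (h.pow b hbD)
  rcases Int.even_or_odd i with ⟨i', hi'⟩ | ⟨i', hi'⟩
  · refine J_of_square h ha haA (c := g0 ^ i') (zpow_mem hg0 _) ?_
    rw [hi, hi', zpow_add, pow_two]
  rcases Int.even_or_odd j with ⟨j', hj'⟩ | ⟨j', hj'⟩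
  · refine J_of_square h hbD hbA (c := g0 ^ j') (zpow_mem hg0 _) ?_
    rw [hj, hj', zpow_add, pow_two]
  · refine J_of_square h (mul_mem ha hbD) hbaA (c := g0 ^ (i' + j' + 1)) (zpow_mem hg0 _) ?_
    have hc : Commute a b := hab
    rw [hc.mul_pow, hi, hj, ← zpow_add, pow_two, ← zpow_add, hi', hj']
    congr 1
    ring

theorem numeric {n : ℕ} (hn : 4 ≤ n) : 2 * 4 ^ n < 3 ^ (2 ^ (n - 1)) := by
  obtain ⟨k, rfl⟩ : ∃ k, n = k + 4 := ⟨n - 4, by omega⟩
  clear hn
  induction k with
  | zero => norm_num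
  | succ k ih =>
    have e1 : k + 1 + 4 - 1 = (k + 4 - 1) + 1 := by omega
    have e2 : 2 * 4 ^ (k + 1 + 4) = 4 * (2 * 4 ^ (k + 4)) := by ring
    rw [e2, e1, pow_succ 2 (k + 4 - 1), mul_two (2 ^ (k + 4 - 1)), pow_add 3]
    have e3 : 4 ≤ 3 ^ 2 ^ (k + 4 - 1) := by
      have : 1 ≤ 4 ^ (k + 4) := Nat.one_le_pow _ _ (by norm_num)
      have : 4 ^ 1 ≤ 4 ^ (k + 4) := Nat.pow_le_pow_right (by norm_num) (by omega)
      omega
    calc 4 * (2 * 4 ^ (k + 4)) ≤ 3 ^ 2 ^ (k + 4 - 1) * (2 * 4 ^ (k + 4)) := Nat.mul_le_mul_right _ e3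
      _ < 3 ^ 2 ^ (k + 4 - 1) * 3 ^ 2 ^ (k + 4 - 1) := Nat.mul_lt_mul_of_pos_left ih (by positivity)

/-- Huppert's theorem in dimension at least three, except for `2^6`. -/
theorem ge_three [Finite G] [Nontrivial V] [hsol : Group.IsSolvable G] (hinj : Function.Injective ρ) (ht : Tr ρ)
    (hf3 : 3 ≤ Module.finrank (ZMod q) V) (h26 : ¬ (q = 2 ∧ Module.finrank (ZMod q) V = 6)) :
    Semi ρ ∨ Nat.card V = 81 := by
  set f := Module.finrank (ZMod q) V with hf
  obtain ⟨s, hs, hsd, hprim⟩ := Cfsg.Agent.S2904.result q f hq.out.one_lt (by omega) h26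
    (by rintro ⟨h, -⟩; omega)
  have hprim' : ∀ i, 1 ≤ i → i < f → ¬ s ∣ q ^ i - 1 := fun i hi hif => hprim i (by omega) hif
  -- s ≡ 1 mod f
  have hsq : ¬ s ∣ q := by
    intro h'
    have h1 : s ∣ q ^ f := dvd_pow h' (by omega)
    have h2 : s ∣ q ^ f - (q ^ f - 1) := Nat.dvd_sub h1 hsd
    have h3 : 1 ≤ q ^ f := Nat.one_le_pow _ _ hq.out.pos
    have h4 : q ^ f - (q ^ f - 1) = 1 := by omega
    rw [h4] at h2
    exact hs.one_lt.ne' (Nat.dvd_one.mp h2)
  have hlt : f < s := by
    by_contra hcon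
    push Not at hcon
    have : Fact s.Prime := ⟨hs⟩
    have h1 : s ∣ q ^ (s - 1) - 1 := by
      have h2 : Nat.Coprime q s := by
        rw [Nat.coprime_comm]; exact (Nat.Prime.coprime_iff_not_dvd hs).mpr hsq
      have h3 := Nat.ModEq.pow_totient h2
      rw [Nat.totient_prime hs] at h3
      exact (Nat.modEq_iff_dvd' (Nat.one_le_pow _ _ hq.out.pos)).mp h3.symm
    have h2 := hs.two_le
    exact hprim' (s - 1) (by omega) (by omega) h1
  rcases primitive_case hinj ht hs hsd hprim' hlt with h | ⟨D, A, r, n, m, hDD, hrs, hV, hfm, hD, hn, hrm, hsr⟩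
  · exact Or.inl h
  right
  have hr := hDD.rp
  set d := Module.finrank (ZMod q) (alg ρ A) with hd
  have hd1 : 1 ≤ d := by
    have := finite_alg (ρ := ρ) (A := A)
    have : Nontrivial (alg ρ A) := (isDomain_alg hDD.na).toNontrivial
    exact Module.finrank_pos
  have hmf : m ≤ f := by rw [hf, hfm]; exact Nat.le_mul_of_pos_left _ hd1
  have hm : m = f := by omega
  have hrf : r ^ n = f := by omega
  have hsf : s = f + 1 := by omega
  have hd' : d = 1 := by
    have h1 : f = d * f := by rw [← hm]; rw [← hf] at hfm; rw [← hfm, hm]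
    have h2 : 1 * f = d * f := by rw [one_mul]; exact h1
    exact (Nat.eq_of_mul_eq_mul_right (by omega) h2).symm
  -- r = 2
  have hr2 : r = 2 := by
    rcases hr.eq_two_or_odd' with h | h
    · exact h
    · exfalso
      have h1 : Odd (r ^ n) := h.pow
      rw [hrf] at h1
      have h2 : Even s := by rw [hsf]; exact h1.add_one
      have h3 := (Nat.Prime.even_iff hs).mp h2
      omega
  subst hr2
  have hq2 : q ≠ 2 := (dd_ne hDD).symm
  have hq3 : 3 ≤ q := by have := hq.out.two_le; omega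
  have hn2 : 2 ≤ n := by
    by_contra hcon
    have : n = 1 := by omega
    rw [this] at hrf
    omega
  have hVQ : Nat.card V = (q ^ (2 ^ (n - 1))) ^ 2 := by
    rw [card_V_eq (q := q) (V := V), ← hf, ← hrf, ← pow_mul, ← pow_succ]
    congr 2
    omega
  obtain ⟨c, hc⟩ := count hDD hd' hVQ
  have hJne : (J D A).Nonempty := by
    apply J_nonempty hDD
    rw [hD]
    have : 2 ^ (2 * 2) ≤ 2 ^ (2 * n) := Nat.pow_le_pow_right (by norm_num) (by omega)
    exact Nat.mul_le_mul_right _ (by omega)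
  have hJpos : 0 < (J D A).ncard := (Set.ncard_pos (Set.toFinite _)).mpr hJne
  have hc0 : c ≠ 0 := by rintro rfl; rw [hc] at hJpos; simp at hJpos
  have hidx : (Subgroup.center D).index = 4 ^ n := by
    have h3 := Subgroup.index_mul_card (Subgroup.center D)
    rw [hDD.card_center, hD] at h3
    have h4 := Nat.eq_of_mul_eq_mul_right Nat.card_pos h3
    rw [h4, pow_mul]
    norm_num
  have hJ := J_le hDD hd'
  rw [hidx, hc] at hJ
  have hbound : q ^ (2 ^ (n - 1)) + 1 ≤ 2 * 4 ^ n :=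
    le_trans (Nat.le_mul_of_pos_right _ (by omega)) hJ
  rcases Nat.lt_or_ge n 4 with hn4 | hn4
  · have : n = 2 ∨ n = 3 := by omega
    rcases this with rfl | rfl
    · norm_num at hbound
      have hq5 : q ≤ 5 := by
        by_contra hcon
        have : 6 ^ 2 ≤ q ^ 2 := Nat.pow_le_pow_left (by omega) 2
        omega
      have hq35 : q = 3 ∨ q = 4 ∨ q = 5 := by omega
      rcases hq35 with h | h | h
      · rw [hVQ, h]; norm_num
      · exfalso
        have := hq.out
        rw [h] at this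
        exact absurd this (by norm_num)
      · exfalso
        apply hsq
        rw [hsf, ← hrf, h]
        norm_num
    · exfalso
      rw [hsf, ← hrf] at hs
      norm_num at hs
  · exfalso
    have h1 := numeric hn4
    have h2 : 3 ^ (2 ^ (n - 1)) ≤ q ^ (2 ^ (n - 1)) := Nat.pow_le_pow_left hq3 _
    omega

end Cfsg.Agent.Lib.HupI
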