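import Cfsg.Agent.Lib.HupI

/-!
# Huppert's theorem in dimension two (helper61)
-/

set_option autoImplicit false

open scoped commutatorElement

namespace Cfsg.Agent.Lib.HupJ

open HupA HupB HupC HupD HupE HupF HupG HupH HupI

variable {q : ℕ} [hq : Fact q.Prime] {V : Type*} [AddCommGroup V] [Module (ZMod q) V] [Finite V]
  {G : Type*} [Group G] {ρ : G →* (V ≃ₗ[ZMod q] V)} {D A : Subgroup G} {r : ℕ}

/-- The scalar case data in dimension two. -/
structure Two (ρ : G →* (V ≃ₗ[ZMod q] V)) (D A : Subgroup G) : Prop where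
  dd : DD ρ D A 2
  dim : Module.finrank (ZMod q) V = 2
  hA : Module.finrank (ZMod q) (alg ρ A) = 1
  idx : (Subgroup.center D).index = 4
  naC : NA ρ (Subgroup.centralizer (D : Set G))
  hC : Module.finrank (ZMod q) (alg ρ (Subgroup.centralizer (D : Set G))) = 1

theorem centralizer_comm [Finite G] [Nontrivial V] (h : DD ρ D A r)
    (hA1 : Module.finrank (ZMod q) (alg ρ A) = 1)
    (hidx : (Subgroup.center D).index = Module.finrank (ZMod q) V ^ 2) {g g' : G}
    (hg : g ∈ Subgroup.centralizer (D : Set G)) (_hg' : g' ∈ Subgroup.centralizer (D : Set G)) : g * g' = g' * g := by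
  classical
  let τ : D →* Module.End (ZMod q) V :=
    { toFun := fun d => en ρ d
      map_one' := en_one ρ
      map_mul' := fun a b => en_mul ρ a b }
  have hsc : ∀ a : G, a ∈ A → ∃ c : ZMod q, ∀ v, ρ a v = c • v := fun a ha => exists_scalar hA1 ha
  let lam : D → ZMod q := fun x => if hx : (x : G) ∈ A then (hsc x hx).choose else 0
  have hlam : ∀ x : D, (x : G) ∈ A → ∀ v, ρ (x : G) v = lam x • v := by
    intro x hx v
    have : lam x = (hsc x hx).choose := dif_pos hx
    rw [this]
    exact (hsc x hx).choose_spec v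
  have hli := linInd τ lam (by
    intro x y
    have hxy : ((⁅x, y⁆ : D) : G) ∈ A := (h.mem_center _).mp (h.comm_mem x y)
    ext v
    exact hlam _ hxy v) (by
    intro x y hxy
    rw [Subgroup.mem_center_iff]
    intro d
    have h1 : ((⁅d, x⁆ : D) : G) ∈ A := (h.mem_center _).mp (h.comm_mem _ _)
    have h2 : ((⁅d, y⁆ : D) : G) ∈ A := (h.mem_center _).mp (h.comm_mem _ _)
    have h4 : ⁅d, x⁆ = ⁅d, y⁆ := by
      apply Subtype.ext
      apply h.na.inj
      ext v
      rw [hlam _ h1, hlam _ h2, hxy d]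
    rw [← commutatorElement_eq_one_iff_mul_comm, PGroupClassTwo.comm_mul_right h.comm_mem,
      PGroupClassTwo.comm_inv_right h.comm_mem, h4, inv_mul_cancel])
  have : Fintype (D ⧸ Subgroup.center D) := Fintype.ofFinite _
  have hspan := hli.span_eq_top_of_card_eq_finrank (by
    rw [Module.finrank_linearMap, ← pow_two, ← hidx, Subgroup.index, Nat.card_eq_fintype_card])
  have hmem : en ρ g' ∈ Submodule.span (ZMod q) (Set.range (fun c : D ⧸ Subgroup.center D => τ c.out)) := by
    rw [hspan]; exact Submodule.mem_top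
  have hcomm : en ρ g * en ρ g' = en ρ g' * en ρ g := by
    refine Submodule.span_induction (p := fun y _ => en ρ g * y = y * en ρ g) ?_ ?_ ?_ ?_ hmem
    · rintro _ ⟨c, rfl⟩
      show en ρ g * en ρ ((c.out : D) : G) = en ρ ((c.out : D) : G) * en ρ g
      rw [← en_mul, ← en_mul, Subgroup.mem_centralizer_iff.mp hg _ (c.out).2]
    · rw [mul_zero, zero_mul]
    · intro a b _ _ h1 h2
      rw [mul_add, add_mul, h1, h2]
    · intro c a _ h1
      rw [mul_smul_comm, smul_mul_assoc, h1]
  apply en_inj h.na.inj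
  rw [en_mul, en_mul, hcomm]

theorem centralizer_normal (hD : D.Normal) : (Subgroup.centralizer (D : Set G)).Normal := by
  constructor
  intro x hx g
  rw [Subgroup.mem_centralizer_iff] at hx ⊢
  intro y hy
  have h1 := hx (g⁻¹ * y * g) (by
    have := hD.conj_mem y hy g⁻¹
    rwa [inv_inv] at this)
  calc y * (g * x * g⁻¹) = g * ((g⁻¹ * y * g) * x) * g⁻¹ := by group
    _ = g * (x * (g⁻¹ * y * g)) * g⁻¹ := by rw [h1]
    _ = g * x * g⁻¹ * y := by group

/-- dimension two: a normal abelian subgroup is scalar or the group is semilinear. -/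
theorem semi_or_scalar [Nontrivial V] (hf : Module.finrank (ZMod q) V = 2) (h : NA ρ A) :
    Semi ρ ∨ Module.finrank (ZMod q) (alg ρ A) = 1 := by
  obtain ⟨m, hm, hV, hfm⟩ := exists_card_pow h
  rw [hf] at hfm
  have h1 : Module.finrank (ZMod q) (alg ρ A) ∣ 2 := ⟨m, hfm⟩
  rcases (Nat.dvd_prime Nat.prime_two).mp h1 with h2 | h2
  · exact Or.inr h2
  · left
    apply semi_of_card h
    rw [h2] at hfm
    have : m = 1 := by omega
    rw [hV, this, pow_one]

theorem central_of_scalar [Nontrivial V] (h : NA ρ A) (h1 : Module.finrank (ZMod q) (alg ρ A) = 1) :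
    ∀ a ∈ A, ∀ g : G, a * g = g * a := by
  intro a ha g
  obtain ⟨c, hc⟩ := exists_scalar h1 ha
  apply h.inj
  ext v
  rw [HupA.mul_apply, HupA.mul_apply, hc, hc, map_smul]

theorem two_case [Finite G] [Nontrivial V] [hsol : Group.IsSolvable G] (hinj : Function.Injective ρ) (ht : Tr ρ)
    (hf : Module.finrank (ZMod q) V = 2) : Semi ρ ∨ ∃ D A : Subgroup G, Two ρ D A := by
  by_cases hall : ∀ r : ℕ, r.Prime → ∀ x ∈ Cfsg.pCore r G, ∀ g : G, x * g = g * x
  · left
    have hF : ∀ y ∈ Cfsg.fittingSubgroup G, ∀ g : G, y * g = g * y := by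
      have hle : Cfsg.fittingSubgroup G ≤ Subgroup.center G := by
        rw [Cfsg.Agent.Lib.Fitting.fittingSubgroup_eq_iSup_pCore]
        apply iSup_le
        rintro ⟨r, hr⟩ y hy
        rw [Subgroup.mem_center_iff]
        intro g
        exact (hall r hr y hy g).symm
      intro y hy g
      exact (Subgroup.mem_center_iff.mp (hle hy) g).symm
    have hmem : ∀ g : G, g ∈ Cfsg.fittingSubgroup G := by
      intro g
      apply Cfsg.Agent.Lib.Fitting.centralizer_fittingSubgroup_le
      rw [Subgroup.mem_centralizer_iff]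
      intro y hy
      exact hF y hy g
    have hna : NA ρ (⊤ : Subgroup G) := ⟨hinj, ht, inferInstance, fun a _ b _ => hF a (hmem a) b⟩
    exact semi_of_self_centralizing hna le_top
  · push Not at hall
    obtain ⟨r, hr, x, hx, g, hxg⟩ := hall
    have : Fact r.Prime := ⟨hr⟩
    have hRn : (Cfsg.pCore r G).Normal := Cfsg.Agent.Lib.Fitting.normal_pCore r
    have hR : IsPGroup r (Cfsg.pCore r G) := Cfsg.Agent.Lib.Fitting.isPGroup_pCore r
    obtain ⟨D, hDn, hDR, h1, h2, h3, h4⟩ := exists_crit hr hRn hR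
    by_cases hab : ∀ x ∈ D, ∀ y ∈ D, x * y = y * x
    · have hna : NA ρ D := ⟨hinj, ht, hDn, hab⟩
      rcases semi_or_scalar hf hna with h5 | h5
      · exact Or.inl h5
      · exfalso
        have h6 := central_of_scalar hna h5
        have h7 : x ∈ D := h3 x hx (fun y hy => (h6 y hy x).symm)
        exact hxg (h6 x h7 g)
    · push Not at hab
      obtain ⟨a, ha, b, hb, hab⟩ := hab
      have hDD := dd_of_crit hinj ht hr hDn hDR hR h1 h2 ⟨a, ha, b, hb, hab⟩
      rcases semi_or_scalar hf hDD.na with h5 | h5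
      · exact Or.inl h5
      obtain ⟨m, hm, hV, hfm⟩ := exists_card_pow hDD.na
      rw [h5, hf] at hfm
      have hm2 : m = 2 := by omega
      have hidx := hDD.index_le hV
      obtain ⟨z, hz⟩ := hDD.xc
      obtain ⟨n, hn⟩ := hz.exists_card
      have h6 := Subgroup.index_mul_card (Subgroup.center D)
      have h7 : (Subgroup.center D).index = r ^ (2 * n) := by
        rw [hn] at h6
        exact Nat.eq_of_mul_eq_mul_right Nat.card_pos h6
      have hn1 : 1 ≤ n := by
        by_contra hcon
        have : n = 0 := by omega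
        rw [this, mul_zero, pow_zero, Subgroup.index_eq_one] at h7
        have h8 : (⟨a, ha⟩ : D) ∈ Subgroup.center D := by rw [h7]; exact Subgroup.mem_top _
        exact hab (congrArg Subtype.val (Subgroup.mem_center_iff.mp h8 ⟨b, hb⟩)).symm
      have h8 : r ^ n ≤ 2 := by
        rw [h7, hm2] at hidx
        have : (r ^ n) ^ 2 ≤ 2 ^ 2 := by rw [← pow_mul, mul_comm n 2]; exact hidx
        exact (Nat.pow_le_pow_iff_left (by norm_num)).mp this
      have hr2 : r = 2 := by
        have h9 : r ^ 1 ≤ r ^ n := Nat.pow_le_pow_right hr.pos hn1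
        rw [pow_one] at h9
        have := hr.two_le
        omega
      subst hr2
      have hn' : n = 1 := by
        by_contra hne
        have : 2 ^ 2 ≤ 2 ^ n := Nat.pow_le_pow_right (by norm_num) (by omega)
        omega
      have hidx4 : (Subgroup.center D).index = 4 := by rw [h7, hn']; norm_num
      have hnaC : NA ρ (Subgroup.centralizer (D : Set G)) := by
        refine ⟨hinj, ht, centralizer_normal hDn, ?_⟩
        intro a ha b hb
        exact centralizer_comm hDD h5 (by rw [hidx4, hf]; norm_num) ha hb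
      rcases semi_or_scalar hf hnaC with h9 | h9
      · exact Or.inl h9
      · exact Or.inr ⟨D, Zc D, hDD, hf, h5, hidx4, hnaC, h9⟩

end Cfsg.Agent.Lib.HupJ
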