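import Cfsg.Agent.Lib.HupJ

/-!
# Huppert's theorem in dimension two: the index of the centralizer of the class two subgroup (helper61)
-/

set_option autoImplicit false

open scoped commutatorElement

namespace Cfsg.Agent.Lib.HupK

open HupA HupB HupC HupD HupE HupF HupG HupH HupI HupJ

variable {G : Type*} [Group G]

/-- conjugation on the quotient by the centre -/
@[reducible] def actQ (D : Subgroup G) [D.Normal] : MulAction G (D ⧸ Subgroup.center D) where
  smul g x := QuotientGroup.map (Subgroup.center D) (Subgroup.center D) ((MulAut.conjNormal g : MulAut D) : D →* D)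
    (by
      intro x hx
      rw [Subgroup.mem_comap, Subgroup.mem_center_iff]
      rw [Subgroup.mem_center_iff] at hx
      intro y
      have h1 := hx ((MulAut.conjNormal g : MulAut D).symm y)
      have h2 := congrArg (MulAut.conjNormal g : MulAut D) h1
      rw [map_mul, map_mul, MulEquiv.apply_symm_apply] at h2
      exact h2) x
  one_smul x := by
    induction x using QuotientGroup.induction_on with
    | H d =>
      show (QuotientGroup.mk ((MulAut.conjNormal (1 : G) : MulAut D) d) : D ⧸ Subgroup.center D) = _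
      rw [map_one]; rfl
  mul_smul g h x := by
    induction x using QuotientGroup.induction_on with
    | H d =>
      show (QuotientGroup.mk ((MulAut.conjNormal (g * h) : MulAut D) d) : D ⧸ Subgroup.center D) = _
      rw [map_mul]; rfl

/-- the permutation representation on the quotient -/
def permQ (D : Subgroup G) [D.Normal] : G →* Equiv.Perm (D ⧸ Subgroup.center D) :=
  letI := actQ D
  MulAction.toPermHom G (D ⧸ Subgroup.center D)

theorem permQ_mk (D : Subgroup G) [D.Normal] (g : G) (d : D) :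
    permQ D g (QuotientGroup.mk d) = QuotientGroup.mk (MulAut.conjNormal g d : D) := rfl

theorem permQ_one (D : Subgroup G) [D.Normal] (g : G) : permQ D g 1 = 1 := by
  have h : (1 : D ⧸ Subgroup.center D) = QuotientGroup.mk (1 : D) := rfl
  rw [h, permQ_mk, map_one]

theorem mem_ker_permQ {D : Subgroup G} [D.Normal] {g : G} :
    g ∈ (permQ D).ker ↔ ∀ d : D, ⁅g, (d : G)⁆ ∈ (Subgroup.center D).map D.subtype := by
  rw [MonoidHom.mem_ker]
  constructor
  · intro h d
    have h1 := congrArg (fun f : Equiv.Perm (D ⧸ Subgroup.center D) => f (QuotientGroup.mk d)) h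
    simp only [permQ_mk, Equiv.Perm.coe_one, id] at h1
    rw [QuotientGroup.eq] at h1
    -- (g d g⁻¹)⁻¹ d ∈ center
    have h2 : d * ((MulAut.conjNormal g d : D)⁻¹ * d)⁻¹ * d⁻¹ ∈ Subgroup.center D :=
      (inferInstance : (Subgroup.center D).Normal).conj_mem _ (inv_mem h1) d
    refine ⟨_, h2, ?_⟩
    simp only [Subgroup.subtype_apply, Subgroup.coe_mul, Subgroup.coe_inv, mul_inv_rev, inv_inv, MulAut.conjNormal_apply]
    rw [commutatorElement_def]; group
  · intro h
    ext x
    induction x using QuotientGroup.induction_on with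
    | H d =>
      rw [permQ_mk, Equiv.Perm.coe_one, id, QuotientGroup.eq]
      obtain ⟨c, hc, hcd⟩ := h d
      have h1 : d⁻¹ * c⁻¹ * d⁻¹⁻¹ ∈ Subgroup.center D :=
        (inferInstance : (Subgroup.center D).Normal).conj_mem _ (inv_mem hc) d⁻¹
      have h2 : (MulAut.conjNormal g d : D)⁻¹ * d = d⁻¹ * c⁻¹ * d⁻¹⁻¹ := by
        apply Subtype.ext
        rw [Subgroup.subtype_apply] at hcd
        simp only [Subgroup.coe_mul, Subgroup.coe_inv, MulAut.conjNormal_apply, hcd]
        rw [commutatorElement_def]; group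
      rw [h2]
      exact h1

theorem card_stab {α : Type*} [Finite α] (h4 : Nat.card α = 4) (a : α) :
    Nat.card (MulAction.stabilizer (Equiv.Perm α) a) = 6 := by
  classical
  have := Fintype.ofFinite α
  have h1 := Nat.card_congr (MulAction.orbitEquivQuotientStabilizer (Equiv.Perm α) a)
  have h2 : MulAction.orbit (Equiv.Perm α) a = Set.univ := by
    rw [Set.eq_univ_iff_forall]
    intro b
    exact ⟨Equiv.swap a b, Equiv.swap_apply_left a b⟩
  rw [h2, Nat.card_univ, h4] at h1
  have h3 := Subgroup.card_eq_card_quotient_mul_card_subgroup (MulAction.stabilizer (Equiv.Perm α) a)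
  rw [← h1, Nat.card_perm, h4] at h3
  have : Nat.factorial 4 = 24 := rfl
  omega

theorem index_ker_dvd {D : Subgroup G} [D.Normal] [Finite G] (hidx : (Subgroup.center D).index = 4) :
    (permQ D).ker.index ∣ 6 := by
  rw [Subgroup.index_ker]
  have h4 : Nat.card (D ⧸ Subgroup.center D) = 4 := hidx
  have : Finite (D ⧸ Subgroup.center D) := inferInstance
  rw [← card_stab h4 1]
  apply Subgroup.card_dvd_of_le
  rintro _ ⟨g, rfl⟩
  exact permQ_one D g

variable {q : ℕ} [hq : Fact q.Prime] {V : Type*} [AddCommGroup V] [Module (ZMod q) V] [Finite V]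
  {ρ : G →* (V ≃ₗ[ZMod q] V)} {D A : Subgroup G}

/-- generators modulo the centre -/
theorem mem_centralizer_of_gen [Finite G] [Nontrivial V] (h : Two ρ D A) {x y : G} (hx : x ∈ D) (hy : y ∈ D)
    (hxy : x * y ≠ y * x) {g : G} (hgx : g * x = x * g) (hgy : g * y = y * g) :
    g ∈ Subgroup.centralizer (D : Set G) := by
  have hAc := central_of_scalar h.dd.na h.hA
  let H : Subgroup G := D ⊓ Subgroup.centralizer {g}
  have hH : ∀ t, t ∈ H ↔ t ∈ D ∧ g * t = t * g := by
    intro t
    rw [Subgroup.mem_inf, Subgroup.mem_centralizer_iff]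
    simp
  have hAH : ∀ a ∈ A, a ∈ H := fun a ha => (hH a).mpr ⟨h.dd.A_le ha, (hAc a ha g).symm⟩
  have hxH : x ∈ H := (hH x).mpr ⟨hx, hgx⟩
  have hyH : y ∈ H := (hH y).mpr ⟨hy, hgy⟩
  have hxA : ∀ a ∈ A, ∀ b ∈ A, a = x * b → False := by
    intro a ha b hb hab
    have : x ∈ A := by
      have := mul_mem ha (inv_mem hb)
      rwa [hab, mul_inv_cancel_right] at this
    exact hxy (hAc x this y)
  have hyA : ∀ a ∈ A, ∀ b ∈ A, a = y * b → False := by
    intro a ha b hb hab
    have : y ∈ A := by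
      have := mul_mem ha (inv_mem hb)
      rwa [hab, mul_inv_cancel_right] at this
    exact hxy (hAc y this x).symm
  have hxyA : ∀ a ∈ A, ∀ b ∈ A, x * a = y * b → False := by
    intro a ha b hb hab
    apply hxy
    have e1 : x = y * (b * a⁻¹) := by rw [← mul_assoc, ← hab, mul_inv_cancel_right]
    have e2 : b * a⁻¹ ∈ A := mul_mem hb (inv_mem ha)
    rw [e1, mul_assoc y (b * a⁻¹) y, hAc _ e2 y]
  have hcardH : 3 * Nat.card A ≤ Nat.card H := by
    have e1 : 3 * Nat.card A = Nat.card (A ⊕ (A ⊕ A)) := by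
      rw [Nat.card_sum, Nat.card_sum]; ring
    rw [e1]
    refine Nat.card_le_card_of_injective (fun t : A ⊕ (A ⊕ A) => (match t with
      | Sum.inl a => ⟨a, hAH a a.2⟩
      | Sum.inr (Sum.inl a) => ⟨x * a, mul_mem hxH (hAH a a.2)⟩
      | Sum.inr (Sum.inr a) => ⟨y * a, mul_mem hyH (hAH a a.2)⟩ : H)) ?_
    rintro (⟨a, ha⟩ | ⟨a, ha⟩ | ⟨a, ha⟩) (⟨b, hb⟩ | ⟨b, hb⟩ | ⟨b, hb⟩) hab
    · have := congrArg (fun t : H => (t : G)) hab
      simp only at this
      subst this; rfl
    · exact (hxA a ha b hb (congrArg (fun t : H => (t : G)) hab)).elim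
    · exact (hyA a ha b hb (congrArg (fun t : H => (t : G)) hab)).elim
    · exact (hxA b hb a ha (congrArg (fun t : H => (t : G)) hab).symm).elim
    · have := mul_left_cancel (congrArg (fun t : H => (t : G)) hab)
      subst this; rfl
    · exact (hxyA a ha b hb (congrArg (fun t : H => (t : G)) hab)).elim
    · exact (hyA b hb a ha (congrArg (fun t : H => (t : G)) hab).symm).elim
    · exact (hxyA b hb a ha (congrArg (fun t : H => (t : G)) hab).symm).elim
    · have := mul_left_cancel (congrArg (fun t : H => (t : G)) hab)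
      subst this; rfl
  have hcardD : Nat.card D = 4 * Nat.card A := by
    have := Subgroup.index_mul_card (Subgroup.center D)
    rw [h.idx, h.dd.card_center] at this
    exact this.symm
  have hle : H ≤ D := inf_le_left
  have hA0 : 0 < Nat.card A := Nat.card_pos
  obtain ⟨k, hk⟩ := Subgroup.card_dvd_of_le hle
  have hHD : H = D := by
    apply Subgroup.eq_of_le_of_card_ge hle
    have hk1 : k < 2 := by
      by_contra hcon
      have : Nat.card H * 2 ≤ Nat.card H * k := Nat.mul_le_mul_left _ (by omega)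
      omega
    have hk0 : k ≠ 0 := by rintro rfl; omega
    have : k = 1 := by omega
    rw [hk, this, mul_one]
  rw [Subgroup.mem_centralizer_iff]
  intro t ht
  have : t ∈ H := by rw [hHD]; exact ht
  exact ((hH t).mp this).2.symm

theorem card_ker_dvd [Finite G] [Nontrivial V] [hn : D.Normal] (h : Two ρ D A) :
    Nat.card (permQ D).ker ∣ 4 * Nat.card (Subgroup.centralizer (D : Set G)) := by
  have hAc := central_of_scalar h.dd.na h.hA
  obtain ⟨x, hx, y, hy, hxy⟩ := h.dd.nonab
  obtain ⟨z, hz⟩ := h.dd.xc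
  have hmem : ∀ g ∈ (permQ D).ker, ∀ d ∈ D, ⁅g, d⁆ ∈ A := by
    intro g hg d hd
    have := mem_ker_permQ.mp hg ⟨d, hd⟩
    rwa [h.dd.map_center] at this
  -- elements of A of order dividing two
  have hcyc : IsCyclic A := isCyclic_A h.dd.na
  let A2 : Subgroup G :=
    { carrier := {a | a ∈ A ∧ a ^ 2 = 1}
      one_mem' := ⟨one_mem _, one_pow _⟩
      mul_mem' := by
        rintro a b ⟨ha, ha2⟩ ⟨hb, hb2⟩
        refine ⟨mul_mem ha hb, ?_⟩
        have : Commute a b := hAc a ha b
        rw [this.mul_pow, ha2, hb2, one_mul]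
      inv_mem' := by
        rintro a ⟨ha, ha2⟩
        exact ⟨inv_mem ha, by rw [inv_pow, ha2, inv_one]⟩ }
  have hA2 : Nat.card A2 ∣ 2 := by
    have h1 : Nat.card A2 ≤ 2 := by
      have : Fintype A := Fintype.ofFinite A
      classical
      have h2 : ((Finset.univ : Finset A).filter (fun a => a ^ 2 = 1)).card ≤ 2 := IsCyclic.card_pow_eq_one_le (by norm_num)
      refine le_trans ?_ h2
      rw [← Fintype.card_subtype, ← Nat.card_eq_fintype_card]
      refine Nat.card_le_card_of_injective (fun a : A2 => (⟨⟨a, a.2.1⟩, Subtype.ext a.2.2⟩ : {a : A // a ^ 2 = 1})) ?_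
      intro a b hab
      exact Subtype.ext (congrArg (fun t : {a : A // a ^ 2 = 1} => ((t : A) : G)) hab)
    have h3 : 0 < Nat.card A2 := Nat.card_pos
    have : Nat.card A2 = 1 ∨ Nat.card A2 = 2 := by omega
    rcases this with h | h <;> rw [h] <;> norm_num
  have hsq : ∀ g ∈ (permQ D).ker, ∀ d ∈ D, ⁅g, d⁆ ∈ A2 := by
    intro g hg d hd
    refine ⟨hmem g hg d hd, ?_⟩
    have h1 : (g * d * g⁻¹) ^ 2 = d ^ 2 := by
      have h2 : (g * d * g⁻¹) ^ 2 = g * d ^ 2 * g⁻¹ := by rw [pow_two, pow_two]; group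
      rw [h2, ← hAc _ (h.dd.pow d hd) g]; group
    have h2 : g * d * g⁻¹ = ⁅g, d⁆ * d := by rw [commutatorElement_def]; group
    have h3 : Commute ⁅g, d⁆ d := hAc _ (hmem g hg d hd) d
    rw [h2, h3.mul_pow] at h1
    have h4 : ⁅g, d⁆ ^ 2 * d ^ 2 = 1 * d ^ 2 := by rw [one_mul]; exact h1
    exact mul_right_cancel h4
  have hmul : ∀ g ∈ (permQ D).ker, ∀ g' ∈ (permQ D).ker, ∀ d ∈ D, ⁅g * g', d⁆ = ⁅g, d⁆ * ⁅g', d⁆ := by
    intro g hg g' hg' d hd
    have h1 : ⁅g * g', d⁆ = (g * ⁅g', d⁆ * g⁻¹) * ⁅g, d⁆ := by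
      simp only [commutatorElement_def]; group
    have h2 : g * ⁅g', d⁆ * g⁻¹ = ⁅g', d⁆ := by
      rw [← hAc _ (hmem g' hg' d hd) g]; group
    rw [h1, h2, hAc _ (hmem g' hg' d hd)]
  let φ : (permQ D).ker →* A2 × A2 :=
    { toFun := fun g => (⟨⁅(g : G), x⁆, hsq g g.2 x hx⟩, ⟨⁅(g : G), y⁆, hsq g g.2 y hy⟩)
      map_one' := by
        apply Prod.ext <;> apply Subtype.ext <;> simp
      map_mul' := fun g g' => by
        apply Prod.ext <;> apply Subtype.ext
        · exact hmul g g.2 g' g'.2 x hx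
        · exact hmul g g.2 g' g'.2 y hy }
  have hker : Nat.card φ.ker ∣ Nat.card (Subgroup.centralizer (D : Set G)) := by
    have hmap : φ.ker.map (permQ D).ker.subtype ≤ Subgroup.centralizer (D : Set G) := by
      rintro _ ⟨g, hg, rfl⟩
      have hg' := MonoidHom.mem_ker.mp hg
      have h1 : ⁅(g : G), x⁆ = 1 := congrArg (fun t : A2 × A2 => ((t.1 : A2) : G)) hg'
      have h2 : ⁅(g : G), y⁆ = 1 := congrArg (fun t : A2 × A2 => ((t.2 : A2) : G)) hg'
      rw [commutatorElement_eq_one_iff_mul_comm] at h1 h2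
      exact mem_centralizer_of_gen h hx hy hxy h1 h2
    have h3 : Nat.card (φ.ker.map (permQ D).ker.subtype) = Nat.card φ.ker :=
      (Nat.card_congr (φ.ker.equivMapOfInjective _ (Subgroup.subtype_injective _)).toEquiv).symm
    rw [← h3]
    exact Subgroup.card_dvd_of_le hmap
  have hidx : φ.ker.index ∣ 4 := by
    rw [Subgroup.index_ker]
    refine (Subgroup.card_subgroup_dvd_card _).trans ?_
    rw [Nat.card_prod]
    exact mul_dvd_mul hA2 hA2
  rw [← Subgroup.index_mul_card φ.ker]
  exact mul_dvd_mul hidx hker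

theorem card_G_dvd [Finite G] [Nontrivial V] (h : Two ρ D A) :
    Nat.card G ∣ 24 * Nat.card (Subgroup.centralizer (D : Set G)) := by
  have hn : D.Normal := h.dd.Dn
  have h1 := index_ker_dvd (D := D) h.idx
  have h2 := card_ker_dvd h
  rw [← Subgroup.index_mul_card (permQ D).ker]
  exact (mul_dvd_mul h1 h2).trans (dvd_of_eq (by ring))

theorem card_C_dvd [Finite G] [Nontrivial V] (h : Two ρ D A) :
    Nat.card (Subgroup.centralizer (D : Set G)) ∣ q - 1 := by
  have h1 := card_A_dvd h.naC
  rwa [card_alg_eq, h.hC, pow_one] at h1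

theorem card_V [Finite G] [Nontrivial V] (h : Two ρ D A) : Nat.card V = q ^ 2 := by
  rw [card_V_eq (q := q) (V := V), h.dim]

theorem succ_dvd [Finite G] [Nontrivial V] (h : Two ρ D A) : q + 1 ∣ 24 := by
  have h1 := (card_dvd h.dd.na.tr).trans (card_G_dvd h)
  have h2 := h1.trans (mul_dvd_mul_left 24 (card_C_dvd h))
  rw [card_V h] at h2
  have h3 : q ^ 2 - 1 = (q + 1) * (q - 1) := by
    have := Nat.sq_sub_sq q 1
    rwa [one_pow] at this
  rw [h3] at h2
  have hq1 : 0 < q - 1 := by have := hq.out.two_le; omega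
  exact Nat.dvd_of_mul_dvd_mul_right hq1 h2

theorem q_mem [Finite G] [Nontrivial V] (h : Two ρ D A) : q = 3 ∨ q = 5 ∨ q = 7 ∨ q = 11 ∨ q = 23 := by
  have h1 := succ_dvd h
  have h2 : q + 1 ∈ Nat.divisors 24 := Nat.mem_divisors.mpr ⟨h1, by norm_num⟩
  have h3 : Nat.divisors 24 = {1, 2, 3, 4, 6, 8, 12, 24} := by decide +kernel
  rw [h3] at h2
  simp only [Finset.mem_insert, Finset.mem_singleton] at h2
  have hq2 : q ≠ 2 := (dd_ne h.dd).symm
  have := hq.out.two_le
  omega

/-- Huppert's theorem in dimension two. -/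
theorem dim_two [Finite G] [Nontrivial V] [hsol : Group.IsSolvable G] (hinj : Function.Injective ρ) (ht : Tr ρ)
    (hf : Module.finrank (ZMod q) V = 2) : Semi ρ ∨ Nat.card V ∈ ({9, 25, 49, 121, 529} : Set ℕ) := by
  rcases two_case hinj ht hf with h | ⟨D, A, h⟩
  · exact Or.inl h
  · right
    rw [card_V h]
    rcases q_mem h with h | h | h | h | h <;> rw [h] <;> norm_num

end Cfsg.Agent.Lib.HupK
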