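import Cfsg.Agent.Lib.HupK

/-!
# Huppert's theorem for `2^6` (helper61)
-/

set_option autoImplicit false

open scoped commutatorElement

namespace Cfsg.Agent.Lib.HupL

open HupA HupB HupC HupD HupE HupF HupG HupH HupI HupJ HupK

variable {V : Type*} [AddCommGroup V] [Module (ZMod 2) V] [Finite V]
  {G : Type*} [Group G] {ρ : G →* (V ≃ₗ[ZMod 2] V)} {D A B : Subgroup G} {r : ℕ}

instance fact2 : Fact (Nat.Prime 2) := ⟨Nat.prime_two⟩

theorem na_sup {q : ℕ} [Fact q.Prime] {V : Type*} [AddCommGroup V] [Module (ZMod q) V] {ρ : G →* (V ≃ₗ[ZMod q] V)}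
    (hA : NA ρ A) (hB : NA ρ B) (hAB : ∀ a ∈ A, ∀ b ∈ B, a * b = b * a) : NA ρ (A ⊔ B) := by
  have hAn := hA.normal
  have hBn := hB.normal
  refine ⟨hA.inj, hA.tr, inferInstance, ?_⟩
  have h1 : A ⊔ B ≤ Subgroup.centralizer (A : Set G) := by
    refine sup_le ?_ ?_
    · intro x hx
      rw [Subgroup.mem_centralizer_iff]
      intro y hy
      exact hA.comm y hy x hx
    · intro x hx
      rw [Subgroup.mem_centralizer_iff]
      intro y hy
      exact hAB y hy x hx
  have h2 : A ⊔ B ≤ Subgroup.centralizer (B : Set G) := by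
    refine sup_le ?_ ?_
    · intro x hx
      rw [Subgroup.mem_centralizer_iff]
      intro y hy
      exact (hAB x hx y hy).symm
    · intro x hx
      rw [Subgroup.mem_centralizer_iff]
      intro y hy
      exact hB.comm y hy x hx
  have h3 : A ⊔ B ≤ Subgroup.centralizer ((A ⊔ B : Subgroup G) : Set G) := by
    have h4 : A ≤ Subgroup.centralizer ((A ⊔ B : Subgroup G) : Set G) := by
      intro x hx
      rw [Subgroup.mem_centralizer_iff]
      intro y hy
      exact (Subgroup.mem_centralizer_iff.mp (h1 hy) x hx).symm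
    have h5 : B ≤ Subgroup.centralizer ((A ⊔ B : Subgroup G) : Set G) := by
      intro x hx
      rw [Subgroup.mem_centralizer_iff]
      intro y hy
      exact (Subgroup.mem_centralizer_iff.mp (h2 hy) x hx).symm
    exact sup_le h4 h5
  intro a ha b hb
  exact (Subgroup.mem_centralizer_iff.mp (h3 ha) b hb).symm

/-- the possible dimensions of the field generated by a normal abelian subgroup of order divisible by 7. -/
theorem dim_cases [Finite G] [Nontrivial V] (hf : Module.finrank (ZMod 2) V = 6) (h : NA ρ A) (h7 : 7 ∣ Nat.card A) :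
    Semi ρ ∨ Nat.card A = 7 := by
  obtain ⟨m, hm, hV, hfm⟩ := exists_card_pow h
  have h1 := card_A_dvd h
  rw [card_alg_eq] at h1
  rw [hf] at hfm
  set d := Module.finrank (ZMod 2) (alg ρ A) with hd
  have hd6 : d ∣ 6 := ⟨m, hfm⟩
  have h2 : d ∈ Nat.divisors 6 := Nat.mem_divisors.mpr ⟨hd6, by norm_num⟩
  have h3 : Nat.divisors 6 = {1, 2, 3, 6} := by decide +kernel
  rw [h3] at h2
  simp only [Finset.mem_insert, Finset.mem_singleton] at h2
  have h7' := h7.trans h1
  rcases h2 with h2 | h2 | h2 | h2
  · rw [h2] at h7'; norm_num at h7'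
  · rw [h2] at h7'; norm_num at h7'
  · right
    rw [h2] at h1
    norm_num at h1
    exact Nat.dvd_antisymm h1 h7
  · left
    apply semi_of_card h
    rw [h2] at hfm
    have : m = 1 := by omega
    rw [hV, this, pow_one]

theorem prime_dvd_Zc [Finite G] {N : Subgroup G} {r : ℕ} (hr : r.Prime) (hN : IsPGroup r N) (hne : N ≠ ⊥) :
    r ∣ Nat.card (Zc N) := by
  have : Fact r.Prime := ⟨hr⟩
  have hnt : Nontrivial N := (Subgroup.nontrivial_iff_ne_bot N).mpr hne
  have hcn : Nontrivial (Subgroup.center N) := hN.center_nontrivial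
  have hmap : (Subgroup.center N).map N.subtype = Zc N := by
    ext g
    rw [mem_Zc]
    constructor
    · rintro ⟨c, hc, rfl⟩
      exact ⟨c.2, fun y hy => (congrArg Subtype.val (Subgroup.mem_center_iff.mp hc ⟨y, hy⟩)).symm⟩
    · rintro ⟨h1, h2⟩
      refine ⟨⟨g, h1⟩, ?_, rfl⟩
      show (⟨g, h1⟩ : N) ∈ Subgroup.center _
      rw [Subgroup.mem_center_iff]
      intro c
      exact Subtype.ext (h2 c c.2).symm
  rw [← hmap]
  have hcard : Nat.card ((Subgroup.center N).map N.subtype) = Nat.card (Subgroup.center N) :=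
    (Nat.card_congr ((Subgroup.center N).equivMapOfInjective _ (Subgroup.subtype_injective _)).toEquiv).symm
  rw [hcard]
  obtain ⟨k, hk⟩ := (hN.to_subgroup (Subgroup.center N)).exists_card_eq
  have h1 : 1 < Nat.card (Subgroup.center N) := Finite.one_lt_card
  rw [hk] at h1 ⊢
  have hk0 : k ≠ 0 := by rintro rfl; simp at h1
  exact dvd_pow_self r hk0

/-- There is a normal abelian subgroup of order divisible by 7. -/
theorem exists_seven [Finite G] [Nontrivial V] [hsol : Group.IsSolvable G] (hinj : Function.Injective ρ) (ht : Tr ρ)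
    (hf : Module.finrank (ZMod 2) V = 6) : ∃ A : Subgroup G, NA ρ A ∧ 7 ∣ Nat.card A := by
  have h7p : Nat.Prime 7 := by norm_num
  have : Fact (Nat.Prime 7) := ⟨h7p⟩
  have h7G : 7 ∣ Nat.card G := by
    refine dvd_trans ?_ (card_dvd ht)
    rw [card_V_eq (q := 2) (V := V), hf]
    norm_num
  obtain ⟨x, hx⟩ := exists_prime_orderOf_dvd_card' 7 h7G
  have hxs : x ^ 7 = 1 := by rw [← hx, pow_orderOf_eq_one]
  have hdf : ∀ {A : Subgroup G}, NA ρ A → Module.finrank (ZMod 2) (alg ρ A) ≤ 6 := by
    intro A hA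
    obtain ⟨m, hm, hV, hfm⟩ := exists_card_pow hA
    rw [← hf, hfm]
    exact Nat.le_mul_of_pos_right _ hm
  by_cases hall : ∀ r : ℕ, r.Prime → ∀ y ∈ Cfsg.pCore r G, x * y = y * x
  · have hxF : ∀ y ∈ Cfsg.fittingSubgroup G, x * y = y * x := by
      have hle : Cfsg.fittingSubgroup G ≤ Subgroup.centralizer {x} := by
        rw [Cfsg.Agent.Lib.Fitting.fittingSubgroup_eq_iSup_pCore]
        apply iSup_le
        rintro ⟨r, hr⟩ y hy
        rw [Subgroup.mem_centralizer_iff]
        intro w hw
        rw [Set.mem_singleton_iff.mp hw]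
        exact hall r hr y hy
      intro y hy
      exact Subgroup.mem_centralizer_iff.mp (hle hy) x (Set.mem_singleton x)
    have hxmem : x ∈ Cfsg.fittingSubgroup G := by
      apply Cfsg.Agent.Lib.Fitting.centralizer_fittingSubgroup_le
      rw [Subgroup.mem_centralizer_iff]
      intro y hy
      exact (hxF y hy).symm
    have hxA : x ∈ Zc (Cfsg.fittingSubgroup G) := mem_Zc.mpr ⟨hxmem, hxF⟩
    refine ⟨_, na_Zc hinj ht (Cfsg.Agent.Lib.Fitting.normal_fittingSubgroup (G := G)), ?_⟩
    rw [← hx]
    exact Subgroup.orderOf_dvd_natCard _ hxA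
  · push Not at hall
    obtain ⟨r, hr, y, hy, hxy⟩ := hall
    have : Fact r.Prime := ⟨hr⟩
    have hRn : (Cfsg.pCore r G).Normal := Cfsg.Agent.Lib.Fitting.normal_pCore r
    have hR : IsPGroup r (Cfsg.pCore r G) := Cfsg.Agent.Lib.Fitting.isPGroup_pCore r
    have hne : Cfsg.pCore r G ≠ ⊥ := by
      intro h
      rw [h, Subgroup.mem_bot] at hy
      rw [hy] at hxy
      exact hxy (by simp)
    by_cases hrs : r = 7
    · subst hrs
      exact ⟨_, na_Zc hinj ht hRn, prime_dvd_Zc hr hR hne⟩
    · exfalso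
      obtain ⟨D, hDn, hDR, h1, h2, h3, h4⟩ := exists_crit hr hRn hR
      have hsr : Nat.Coprime 7 r := (Nat.coprime_primes h7p hr).mpr (Ne.symm hrs)
      have hxD : ∃ d ∈ D, x * d ≠ d * x := by
        by_contra hcon
        push Not at hcon
        exact hxy (h4 x 7 hxs hsr hcon y hy)
      have hcent : ∀ {A : Subgroup G}, NA ρ A → ∀ a ∈ A, x * a = a * x := by
        intro A hA a ha
        have h5 := mem_centralizer_of_pow hA h7p hxs (lt_of_le_of_lt (hdf hA) (by norm_num))
        exact (Subgroup.mem_centralizer_iff.mp h5 a ha).symm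
      have hna : ∃ x ∈ D, ∃ y ∈ D, x * y ≠ y * x := by
        by_contra hcon
        push Not at hcon
        obtain ⟨d, hd, hxd⟩ := hxD
        exact hxd (hcent ⟨hinj, ht, hDn, hcon⟩ d hd)
      have hDD := dd_of_crit hinj ht hr hDn hDR hR h1 h2 hna
      obtain ⟨m, hm, hV, hfm⟩ := exists_card_pow hDD.na
      obtain ⟨n, hn1, hn2, hn3, hn4⟩ := prime_le hDD h7p (Ne.symm hrs) hxs (hcent hDD.na) hxD hV
      have hm6 : m ≤ 6 := by
        rw [← hf, hfm]
        refine Nat.le_mul_of_pos_left _ ?_
        have := finite_alg (ρ := ρ) (A := Zc D)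
        have : Nontrivial (alg ρ (Zc D)) := (isDomain_alg hDD.na).toNontrivial
        exact Module.finrank_pos
      have hr6 : r ^ n = 6 := by omega
      have h5 : 2 ∣ r ^ n := by rw [hr6]; norm_num
      have h6 : 3 ∣ r ^ n := by rw [hr6]; norm_num
      have h7 := (Nat.prime_dvd_prime_iff_eq Nat.prime_two hr).mp (Nat.prime_two.dvd_of_dvd_pow h5)
      have h8 := (Nat.prime_dvd_prime_iff_eq Nat.prime_three hr).mp (Nat.prime_three.dvd_of_dvd_pow h6)
      omega

theorem two_six [Finite G] [Nontrivial V] [hsol : Group.IsSolvable G] (hinj : Function.Injective ρ) (ht : Tr ρ)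
    (hf : Module.finrank (ZMod 2) V = 6) : Semi ρ := by
  have h7p : Nat.Prime 7 := by norm_num
  obtain ⟨A, hA, h7⟩ := exists_seven hinj ht hf
  rcases dim_cases hf hA h7 with h | hA7
  · exact h
  by_contra hns
  have hAn := hA.normal
  set C := Subgroup.centralizer (A : Set G) with hC
  have hCn : C.Normal := centralizer_normal hAn
  have hAC : A ≤ C := by
    intro a ha
    rw [hC, Subgroup.mem_centralizer_iff]
    intro b hb
    exact hA.comm b hb a ha
  have hCA : ∀ c ∈ C, ∀ a ∈ A, a * c = c * a := fun c hc a ha => Subgroup.mem_centralizer_iff.mp hc a ha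
  -- every normal r-subgroup of G inside C lies in A
  have key : ∀ (r : ℕ) (R : Subgroup G), r.Prime → R.Normal → IsPGroup r R → R ≤ C → (r = 7 → A ≤ R) → R ≤ A := by
    intro r R hr hRn hR hRC hAR
    have : Fact r.Prime := ⟨hr⟩
    by_cases hne : R = ⊥
    · rw [hne]; exact bot_le
    by_cases hr7 : r = 7
    · subst hr7
      obtain ⟨D, hDn, hDR, h1, h2, h3, h4⟩ := exists_crit hr hRn hR
      by_cases hab : ∀ x ∈ D, ∀ y ∈ D, x * y = y * x
      · have hna : NA ρ D := ⟨hinj, ht, hDn, hab⟩
        have hAD : A ≤ D := by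
          intro a ha
          exact h3 a (hAR rfl ha) (fun y hy => hCA y (hRC (hDR hy)) a ha)
        have h7D : 7 ∣ Nat.card D := h7.trans (Subgroup.card_dvd_of_le hAD)
        rcases dim_cases hf hna h7D with h | h
        · exact absurd h hns
        · have hDA : A = D := Subgroup.eq_of_le_of_card_ge hAD (by rw [hA7, h])
          intro x hx
          rw [hDA]
          refine h3 x hx ?_
          intro y hy
          rw [← hDA] at hy
          exact (hCA x (hRC hx) y hy).symm
      · exfalso
        push Not at hab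
        have hDD := dd_of_crit hinj ht hr hDn hDR hR h1 h2 hab
        obtain ⟨m, hm, hV, hfm⟩ := exists_card_pow hDD.na
        have hidx := hDD.index_le hV
        have hm6 : m ≤ 6 := by
          rw [← hf, hfm]
          refine Nat.le_mul_of_pos_left _ ?_
          have := finite_alg (ρ := ρ) (A := Zc D)
          have : Nontrivial (alg ρ (Zc D)) := (isDomain_alg hDD.na).toNontrivial
          exact Module.finrank_pos
        obtain ⟨z, hz⟩ := hDD.xc
        obtain ⟨n, hn⟩ := hz.exists_card
        have h6 := Subgroup.index_mul_card (Subgroup.center D)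
        have h7 : (Subgroup.center D).index = 7 ^ (2 * n) := by
          rw [hn] at h6
          exact Nat.eq_of_mul_eq_mul_right Nat.card_pos h6
        have hn1 : 1 ≤ n := by
          by_contra hcon
          have : n = 0 := by omega
          rw [this, mul_zero, pow_zero, Subgroup.index_eq_one] at h7
          obtain ⟨a, ha, b, hb, hab⟩ := hab
          have h8 : (⟨a, ha⟩ : D) ∈ Subgroup.center D := by rw [h7]; exact Subgroup.mem_top _
          exact hab (congrArg Subtype.val (Subgroup.mem_center_iff.mp h8 ⟨b, hb⟩)).symm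
        have h8 : 7 ^ 2 ≤ 7 ^ (2 * n) := Nat.pow_le_pow_right (by norm_num) (by omega)
        have h9 : m ^ 2 ≤ 6 ^ 2 := Nat.pow_le_pow_left hm6 2
        omega
    · exfalso
      have hZ := na_Zc hinj ht hRn
      have hAZ : ∀ a ∈ A, ∀ b ∈ Zc R, a * b = b * a := fun a ha b hb => hCA b (hRC (mem_Zc.mp hb).1) a ha
      have hsup := na_sup hA hZ hAZ
      have h7' : 7 ∣ Nat.card (A ⊔ Zc R : Subgroup G) := h7.trans (Subgroup.card_dvd_of_le le_sup_left)
      have hr' : r ∣ Nat.card (A ⊔ Zc R : Subgroup G) :=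
        (prime_dvd_Zc hr hR hne).trans (Subgroup.card_dvd_of_le le_sup_right)
      rcases dim_cases hf hsup h7' with h | h
      · exact hns h
      · rw [h] at hr'
        exact hr7 ((Nat.prime_dvd_prime_iff_eq hr h7p).mp hr')
  -- C ≤ A
  have hCle : C ≤ A := by
    have hFle : Cfsg.fittingSubgroup C ≤ A.subgroupOf C := by
      rw [Cfsg.Agent.Lib.Fitting.fittingSubgroup_eq_iSup_pCore]
      apply iSup_le
      rintro ⟨r, hr⟩
      have : Fact r.Prime := ⟨hr⟩
      have h1 : (Cfsg.pCore r C).map C.subtype ≤ A := by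
        rw [Cfsg.Agent.Lib.Fitting.pCore_map_subtype_of_normal]
        refine key r _ hr ?_ ?_ inf_le_right ?_
        · have := Cfsg.Agent.Lib.Fitting.normal_pCore r (G := G)
          infer_instance
        · exact (Cfsg.Agent.Lib.Fitting.isPGroup_pCore r (G := G)).to_le inf_le_left
        · rintro rfl
          refine le_inf ?_ hAC
          refine Cfsg.Agent.Lib.Fitting.le_pCore 7 hAn ?_
          exact IsPGroup.of_card (n := 1) (by rw [hA7, pow_one])
      intro x hx
      rw [Subgroup.mem_subgroupOf]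
      exact h1 ⟨x, hx, rfl⟩
    have : Group.IsSolvable C := inferInstance
    intro c hc
    have h2 : (⟨c, hc⟩ : C) ∈ Cfsg.fittingSubgroup C := by
      apply Cfsg.Agent.Lib.Fitting.centralizer_fittingSubgroup_le
      rw [Subgroup.mem_centralizer_iff]
      intro y hy
      have h3 := hFle hy
      rw [Subgroup.mem_subgroupOf] at h3
      exact Subtype.ext (hCA c hc y h3)
    have h3 := hFle h2
    rw [Subgroup.mem_subgroupOf] at h3
    exact h3
  exact hns (semi_of_self_centralizing hA hCle)

end Cfsg.Agent.Lib.HupL
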