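import Mathlib
import Cfsg.Agent.Lib.PrimeOrd2

/-! Direct-sum decompositions into equidimensional subspaces permuted by a linear map. (helper99) -/

set_option autoImplicit false

namespace Cfsg.Agent.Lib.ImpDec

open Module Cfsg.Agent.Lib.InvSub Cfsg.Agent.Lib.PrimeOrd

variable {F V : Type*} [Field F] [AddCommGroup V] [Module F V] [FiniteDimensional F V]

lemma finrank_biSup_le {ι : Type*} (D : ι → Submodule F V) (s : Finset ι) :
    finrank F ↥(⨆ i ∈ s, D i) ≤ ∑ i ∈ s, finrank F (D i) := by
  classical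
  induction s using Finset.induction_on with
  | empty => simp
  | insert i s hi ih =>
    rw [Finset.iSup_insert, Finset.sum_insert hi]
    have e := Submodule.finrank_sup_add_finrank_inf_eq (D i) (⨆ j ∈ s, D j)
    omega

/-- dimension count gives independence -/
lemma indep_of_finrank {ι : Type*} [Fintype ι] (D : ι → Submodule F V)
    (h : ∑ i, finrank F (D i) = finrank F ↥(iSup D)) : iSupIndep D := by
  classical
  rw [iSupIndep_def]
  intro i
  have h1 : iSup D = D i ⊔ ⨆ (j : ι) (_ : j ≠ i), D j := by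
    apply le_antisymm
    · apply iSup_le
      intro j
      by_cases hj : j = i
      · subst hj; exact le_sup_left
      · exact le_trans (le_iSup₂_of_le j hj le_rfl) le_sup_right
    · exact sup_le (le_iSup D i) (iSup_le fun j => iSup_le fun _ => le_iSup D j)
  have h2 : (⨆ (j : ι) (_ : j ≠ i), D j) = ⨆ j ∈ Finset.univ.erase i, D j := by
    apply iSup_congr; intro j
    simp
  have h3 := finrank_biSup_le D (Finset.univ.erase i)
  have h4 : ∑ j, finrank F (D j) = finrank F (D i) + ∑ j ∈ Finset.univ.erase i, finrank F (D j) :=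
    (Finset.add_sum_erase _ _ (Finset.mem_univ i)).symm
  have e := Submodule.finrank_sup_add_finrank_inf_eq (D i) (⨆ (j : ι) (_ : j ≠ i), D j)
  rw [← h1, h2] at e
  rw [h2, disjoint_iff, ← Submodule.finrank_eq_zero]
  omega

/-- `A` is the direct sum of `t` subspaces of dimension `a` permuted by `T`. -/
def Imp (T : Module.End F V) (a : ℕ) (A : Submodule F V) (t : ℕ) : Prop :=
  finrank F A = t * a ∧ ∃ (ι : Type) (_ : Fintype ι) (D : ι → Submodule F V) (σ : Equiv.Perm ι),
    Fintype.card ι = t ∧ (∀ i, finrank F (D i) = a) ∧ iSup D = A ∧ ∀ i, (D i).map T = D (σ i)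

variable {T : Module.End F V} {a : ℕ}

omit [FiniteDimensional F V] in
lemma Imp.bot : Imp T a ⊥ 0 := by
  refine ⟨by simp, Empty, inferInstance, Empty.elim, Equiv.refl _, rfl, fun i => i.elim, ?_, fun i => i.elim⟩
  rw [iSup_of_empty]

lemma Imp.sup {A B : Submodule F V} {s t : ℕ} (hA : Imp T a A s) (hB : Imp T a B t) (hd : Disjoint A B) :
    Imp T a (A ⊔ B) (s + t) := by
  obtain ⟨h1, ι, _, D, σ, hι, hD, hDs, hσ⟩ := hA
  obtain ⟨h2, κ, _, D', τ, hκ, hD', hDs', hτ⟩ := hB
  refine ⟨?_, ι ⊕ κ, inferInstance, Sum.elim D D', Equiv.Perm.sumCongr σ τ, ?_, ?_, ?_, ?_⟩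
  · have e := Submodule.finrank_sup_add_finrank_inf_eq A B
    rw [hd.eq_bot, finrank_bot, h1, h2, add_zero] at e
    rw [e]; ring
  · rw [Fintype.card_sum, hι, hκ]
  · rintro (i | i)
    · exact hD i
    · exact hD' i
  · rw [iSup_sum, ← hDs, ← hDs']; rfl
  · rintro (i | i)
    · exact hσ i
    · exact hτ i

omit [FiniteDimensional F V] in
lemma Imp.inv {A : Submodule F V} {t : ℕ} (hA : Imp T a A t) : Inv T A := by
  obtain ⟨h1, ι, _, D, σ, hι, hD, hDs, hσ⟩ := hA
  rw [inv_iff_map_le, ← hDs, Submodule.map_iSup]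
  apply iSup_le
  intro i
  rw [hσ]
  exact le_iSup D _

lemma Imp.final {t : ℕ} (hA : Imp T a ⊤ t) :
    ∃ D : Fin t → Submodule F V, (∀ i, finrank F (D i) = a) ∧ iSupIndep D ∧ iSup D = ⊤ ∧
      ∃ σ : Equiv.Perm (Fin t), ∀ j, (D j).map T = D (σ j) := by
  obtain ⟨h1, ι, _, D, σ, hι, hD, hDs, hσ⟩ := hA
  let e : ι ≃ Fin t := Fintype.equivFinOfCardEq hι
  have hs : iSup (fun i => D (e.symm i)) = ⊤ := by
    rw [← hDs]
    exact e.symm.iSup_comp (g := D)
  refine ⟨fun i => D (e.symm i), fun i => hD _, ?_, hs, (e.symm.trans σ).trans e, ?_⟩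
  · apply indep_of_finrank
    rw [hs, h1]
    simp [hD]
  · intro j
    simp only [Equiv.trans_apply, Equiv.symm_apply_apply]
    exact hσ _

lemma map_eq_of_inv (hT : Function.Injective T) {A : Submodule F V} (hA : Inv T A) : A.map T = A := by
  apply Submodule.eq_of_le_of_finrank_eq (inv_iff_map_le.mp hA)
  exact (Submodule.equivMapOfInjective T hT A).symm.finrank_eq

lemma Imp.one (hT : Function.Injective T) {A : Submodule F V} (hA : Inv T A) (hAa : finrank F A = a) :
    Imp T a A 1 := by
  refine ⟨by rw [hAa, one_mul], Unit, inferInstance, fun _ => A, Equiv.refl _, rfl, fun _ => hAa, ?_, fun _ => ?_⟩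
  · exact iSup_const
  · exact map_eq_of_inv hT hA

/-- the span of the first `r` translates -/
def cyc (T : Module.End F V) (r : ℕ) (U : Submodule F V) : Submodule F V := ⨆ i : Fin r, U.map (T ^ (i : ℕ))

omit [FiniteDimensional F V] in
lemma le_cyc {r : ℕ} (hr : 0 < r) (U : Submodule F V) : U ≤ cyc T r U := by
  refine le_trans ?_ (le_iSup _ (⟨0, hr⟩ : Fin r))
  simp [Module.End.one_eq_id]

omit [FiniteDimensional F V] in
lemma cyc_sup {r : ℕ} (U W : Submodule F V) : cyc T r (U ⊔ W) = cyc T r U ⊔ cyc T r W := by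
  unfold cyc
  simp only [Submodule.map_sup]
  exact iSup_sup_eq

omit [FiniteDimensional F V] in
lemma cyc_inv {r : ℕ} (hr : 0 < r) {U : Submodule F V} (hU : U.map (T ^ r) ≤ U) : Inv T (cyc T r U) := by
  rw [inv_iff_map_le]
  unfold cyc
  rw [Submodule.map_iSup]
  apply iSup_le
  intro i
  rw [← Submodule.map_comp, ← Module.End.mul_eq_comp, ← pow_succ']
  rcases Nat.lt_or_ge (i + 1) r with h | h
  · exact le_iSup (fun i : Fin r => U.map (T ^ (i : ℕ))) ⟨i + 1, h⟩
  · have : (i : ℕ) + 1 = r := by have := i.2; omega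
    rw [this]
    exact hU.trans (le_cyc hr U)

omit [FiniteDimensional F V] in
lemma cyc_le {r : ℕ} {U A : Submodule F V} (hA : Inv T A) (hU : U ≤ A) : cyc T r U ≤ A := by
  apply iSup_le
  intro i
  refine (Submodule.map_mono hU).trans ?_
  induction (i : ℕ) with
  | zero => simp [Module.End.one_eq_id]
  | succ k ih =>
    rw [pow_succ', Module.End.mul_eq_comp, Submodule.map_comp]
    exact (Submodule.map_mono ih).trans (inv_iff_map_le.mp hA)

lemma Imp.cycle (hT : Function.Injective T) {r : ℕ} (hr : 0 < r) {U A : Submodule F V}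
    (hU : U.map (T ^ r) ≤ U) (hUa : finrank F U = a) (hA : finrank F A = r * a) (hcyc : cyc T r U = A) :
    Imp T a A r := by
  obtain ⟨r, rfl⟩ : ∃ r', r = r' + 1 := ⟨r - 1, by omega⟩
  have hTp : ∀ k : ℕ, Function.Injective (T ^ k) := by
    intro k
    rw [Module.End.coe_pow]
    exact hT.iterate k
  have hU' : U.map (T ^ (r + 1)) = U :=
    map_eq_of_inv (hTp _) (inv_iff_map_le.mpr hU)
  refine ⟨hA, Fin (r + 1), inferInstance, fun i => U.map (T ^ (i : ℕ)), finRotate (r + 1), Fintype.card_fin _, ?_, hcyc, ?_⟩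
  · intro i
    rw [← hUa]
    exact (Submodule.equivMapOfInjective (T ^ (i : ℕ)) (hTp i) U).symm.finrank_eq
  · intro i
    rw [← Submodule.map_comp, ← Module.End.mul_eq_comp, ← pow_succ']
    rcases Nat.lt_or_ge (i : ℕ) r with h | h
    · rw [finRotate_of_lt h]
    · have hi : i = Fin.last r := by
        apply Fin.ext; have := i.2; rw [Fin.val_last]; omega
      subst hi
      rw [finRotate_last, Fin.val_last, hU']
      simp [Module.End.one_eq_id]

/-- G1: all blocks invariant. -/
theorem imp_of_ty {y : F} {c : ℕ} (h : SS T y c) (hT : Function.Injective T) {t : ℕ} :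
    ∀ {C : Submodule F V} {e s : ℕ}, Ty T y c C e s → e + s * c = t * a → s ≤ t * (a / c) → Imp T a C t := by
  induction t with
  | zero =>
    intro C e s hC h1 h2
    have hf : finrank F C = 0 := by rw [hC.fin]; omega
    rw [Submodule.finrank_eq_zero.mp hf]
    exact Imp.bot
  | succ t ih =>
    intro C e s hC h1 h2
    have hcpos := h.pos
    have hdm : c * (a / c) + a % c = a := Nat.div_add_mod a c
    obtain ⟨k, d, hk, hd, hkd, hrest⟩ : ∃ k d, k ≤ s ∧ d ≤ e ∧ d + k * c = a ∧ s - k ≤ t * (a / c) := by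
      rcases Nat.lt_or_ge s (a / c) with h3 | h3
      · have h4 : s * c ≤ a := by
          calc s * c ≤ (a / c) * c := Nat.mul_le_mul_right c h3.le
            _ ≤ a := Nat.div_mul_le_self a c
        refine ⟨s, a - s * c, le_rfl, ?_, by omega, by omega⟩
        have : a ≤ (t + 1) * a := Nat.le_mul_of_pos_left a (Nat.succ_pos t)
        omega
      · refine ⟨a / c, a % c, h3, ?_, ?_, ?_⟩
        · have h5 : s * c ≤ (t + 1) * (a / c) * c := Nat.mul_le_mul_right c h2
          have h6 : (t + 1) * a = (t + 1) * (a / c) * c + (t + 1) * (a % c) := by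
            conv_lhs => rw [← hdm]
            ring
          have h7 : a % c ≤ (t + 1) * (a % c) := Nat.le_mul_of_pos_left _ (Nat.succ_pos t)
          omega
        · rw [mul_comm (a / c) c]; omega
        · rw [Nat.add_mul, one_mul] at h2; omega
    obtain ⟨W, W', hW, hW', hdis, hsup⟩ := h.split hC hd hk
    have h8 := ih hW' (by
      have h9 : (s - k) * c = s * c - k * c := Nat.sub_mul _ _ _
      have h10 : k * c ≤ s * c := Nat.mul_le_mul_right c hk
      rw [Nat.add_mul, one_mul] at h1
      omega) hrest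
    have h11 := (Imp.one (a := a) hT hW.inv (by rw [hW.fin, hkd])).sup h8 hdis
    rw [hsup, add_comm] at h11
    exact h11

omit [FiniteDimensional F V] in
lemma map_pow_le_of_scalar {r : ℕ} {z : F} (hz : T ^ r = z • (1 : Module.End F V)) (U : Submodule F V) :
    U.map (T ^ r) ≤ U := by
  rintro _ ⟨u, hu, rfl⟩
  rw [hz]
  exact U.smul_mem z hu

omit [FiniteDimensional F V] in
lemma injective_of_scalar {r : ℕ} (hr : 0 < r) {z : F} (hz0 : z ≠ 0) (hz : T ^ r = z • (1 : Module.End F V)) :
    Function.Injective T := by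
  intro u v huv
  have h1 : (T ^ r) u = (T ^ r) v := by
    obtain ⟨r, rfl⟩ : ∃ r', r = r' + 1 := ⟨r - 1, by omega⟩
    rw [pow_succ, Module.End.mul_apply, Module.End.mul_apply, huv]
  rw [hz] at h1
  exact smul_right_injective V hz0 h1

omit [FiniteDimensional F V] in
lemma ne_bot_of_ty {y : F} {c : ℕ} (h : SS T y c) {C : Submodule F V} {e s : ℕ} (hC : Ty T y c C e s) (hs : 0 < s) :
    C ≠ ⊥ := by
  rintro rfl
  have := hC.fin
  rw [finrank_bot] at this
  have h2 : 0 < s * c := Nat.mul_pos hs h.pos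
  omega

/-- a cyclic generator for types `(0, a)`, when `T ^ r` is scalar and `c = r`. -/
lemma exists_gen {r : ℕ} {y z : F} (h : SS T y r) (hz : T ^ r = z • (1 : Module.End F V)) (s : ℕ) :
    ∀ {C : Submodule F V}, Ty T y r C 0 s → ∃ U ≤ C, finrank F U = s ∧ cyc T r U = C := by
  induction s with
  | zero =>
    intro C hC
    have hf : finrank F C = 0 := by rw [hC.fin]; omega
    rw [Submodule.finrank_eq_zero.mp hf]
    exact ⟨⊥, le_rfl, by simp, by simp [cyc]⟩
  | succ s ih =>
    intro C hC
    obtain ⟨W, W', hW, hW', hdis, hsup⟩ := h.split hC (d := 0) (k := 1) le_rfl (by omega)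
    rw [Nat.sub_zero, Nat.add_sub_cancel] at hW'
    obtain ⟨U', hU', hU'f, hU'c⟩ := ih hW'
    obtain ⟨w, hw, hwne⟩ := (Submodule.ne_bot_iff W).mp (ne_bot_of_ty h hW one_pos)
    have hwW : F ∙ w ≤ W := by rwa [Submodule.span_singleton_le_iff_mem]
    have hcW : cyc T r (F ∙ w) = W := by
      have hinv : Inv T (cyc T r (F ∙ w)) := cyc_inv h.pos (map_pow_le_of_scalar hz _)
      have hle : cyc T r (F ∙ w) ≤ W := cyc_le hW.inv hwW
      have hd : Disjoint (E T y) W := by
        rw [disjoint_iff, inf_comm]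
        exact Submodule.finrank_eq_zero.mp hW.fin_e
      have h1 := h.dvd hinv (hd.mono_right hle)
      have h2 : finrank F ↥(cyc T r (F ∙ w)) ≠ 0 := by
        intro h0
        have := (le_cyc (T := T) h.pos (F ∙ w)) (Submodule.mem_span_singleton_self w)
        rw [Submodule.finrank_eq_zero.mp h0, Submodule.mem_bot] at this
        exact hwne this
      apply Submodule.eq_of_le_of_finrank_le hle
      rw [hW.fin]
      have := Nat.le_of_dvd (Nat.pos_of_ne_zero h2) h1
      omega
    refine ⟨(F ∙ w) ⊔ U', ?_, ?_, ?_⟩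
    · rw [← hsup]; exact sup_le_sup hwW hU'
    · have e := Submodule.finrank_sup_add_finrank_inf_eq (F ∙ w) U'
      rw [(hdis.mono hwW hU').eq_bot, finrank_bot, finrank_span_singleton hwne, hU'f] at e
      omega
    · rw [cyc_sup, hcW, hU'c, hsup]

/-- G3 -/
theorem imp_of_typeC {r : ℕ} {y z : F} (h : SS T y r) (hz0 : z ≠ 0) (hz : T ^ r = z • (1 : Module.End F V))
    {t : ℕ} : ∀ {C : Submodule F V}, Ty T y r C 0 (a * t) → Imp T a C (r * t) := by
  have hT := injective_of_scalar h.pos hz0 hz
  induction t with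
  | zero =>
    intro C hC
    have hf : finrank F C = 0 := by rw [hC.fin]; omega
    rw [Submodule.finrank_eq_zero.mp hf]
    exact Imp.bot
  | succ t ih =>
    intro C hC
    obtain ⟨W, W', hW, hW', hdis, hsup⟩ := h.split hC (d := 0) (k := a) le_rfl
      (by rw [Nat.mul_succ]; omega)
    have h1 := ih (C := W') (by
      have : a * (t + 1) - a = a * t := by rw [Nat.mul_succ]; omega
      rw [this] at hW'
      exact hW')
    obtain ⟨U, hU, hUf, hUc⟩ := exists_gen h hz a hW
    have h2 : Imp T a W r := Imp.cycle hT h.pos (map_pow_le_of_scalar hz U) hUf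
      (by rw [hW.fin]; ring) hUc
    have h3 := h2.sup h1 hdis
    rw [hsup, add_comm, ← Nat.mul_succ] at h3
    exact h3

/-- G2: regular blocks, `a = 1`, `c = r - 1`. -/
theorem imp_of_regular {r : ℕ} (hr : 2 ≤ r) {y : F} (hy : y ≠ 0) (h : SS T y (r - 1))
    (hz : T ^ r = (y ^ r) • (1 : Module.End F V)) (s : ℕ) :
    ∀ {C : Submodule F V}, Ty T y (r - 1) C s s → Imp T 1 C (s * r) := by
  have hT := injective_of_scalar (by omega) (pow_ne_zero r hy) hz
  induction s with
  | zero =>
    intro C hC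
    have hf : finrank F C = 0 := by rw [hC.fin]; omega
    rw [Submodule.finrank_eq_zero.mp hf, Nat.zero_mul]
    exact Imp.bot
  | succ s ih =>
    intro C hC
    obtain ⟨W, W', hW, hW', hdis, hsup⟩ := h.split hC (d := 1) (k := 1) (by omega) (by omega)
    rw [Nat.add_sub_cancel] at hW'
    have h1 := ih hW'
    -- the piece `W` of type (1, 1)
    obtain ⟨P, Q, hP, hQ, hPQ, hPQs⟩ := h.split hW (d := 1) (k := 0) le_rfl (by omega)
    rw [Nat.sub_self, Nat.sub_zero] at hQ
    have hPE : P ≤ E T y := by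
      have h2 : P ⊓ E T y = P := by
        apply Submodule.eq_of_le_of_finrank_eq inf_le_left
        rw [hP.fin_e, hP.fin]; omega
      rw [← h2]; exact inf_le_right
    have hQE : Disjoint (E T y) Q := by
      rw [disjoint_iff, inf_comm]
      exact Submodule.finrank_eq_zero.mp hQ.fin_e
    have hPne : P ≠ ⊥ := by
      rintro rfl
      have := hP.fin
      rw [finrank_bot] at this; omega
    obtain ⟨v, hv, hvne⟩ := (Submodule.ne_bot_iff P).mp hPne
    obtain ⟨x, hx, hxne⟩ := (Submodule.ne_bot_iff Q).mp (ne_bot_of_ty h hQ one_pos)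
    have hTv : T v = y • v := Module.End.mem_eigenspace_iff.mp (hPE hv)
    set u := v + x with hu
    have huW : F ∙ u ≤ W := by
      rw [Submodule.span_singleton_le_iff_mem, ← hPQs]
      exact Submodule.add_mem_sup hv hx
    have hune : u ≠ 0 := by
      intro h0
      have h3 : v = -x := eq_neg_of_add_eq_zero_left h0
      have h4 : v ∈ Q := by rw [h3]; exact Q.neg_mem hx
      exact hvne (Submodule.disjoint_def.mp hPQ v hv h4)
    have hinv : Inv T (cyc T r (F ∙ u)) := cyc_inv (by omega) (map_pow_le_of_scalar hz _)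
    have hle : cyc T r (F ∙ u) ≤ W := cyc_le hW.inv huW
    have hucyc : u ∈ cyc T r (F ∙ u) := (le_cyc (T := T) (by omega) (F ∙ u)) (Submodule.mem_span_singleton_self u)
    have hTu : T u - y • u ∈ cyc T r (F ∙ u) := Submodule.sub_mem _ (hinv _ hucyc) (Submodule.smul_mem _ _ hucyc)
    have hTu' : T u - y • u = T x - y • x := by
      rw [hu, map_add, smul_add, hTv]; abel
    have hQle : Q ≤ cyc T r (F ∙ u) := by
      have hinv2 : Inv T (cyc T r (F ∙ u) ⊓ Q) := hinv.inf hQ.inv
      have h1 := h.dvd hinv2 (hQE.mono_right inf_le_right)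
      have h2 : finrank F ↥(cyc T r (F ∙ u) ⊓ Q) ≠ 0 := by
        intro h0
        have h3 : T x - y • x ∈ cyc T r (F ∙ u) ⊓ Q :=
          ⟨by rw [← hTu']; exact hTu, Q.sub_mem (hQ.inv x hx) (Q.smul_mem y hx)⟩
        rw [Submodule.finrank_eq_zero.mp h0, Submodule.mem_bot] at h3
        have h4 : x ∈ E T y := Module.End.mem_eigenspace_iff.mpr (sub_eq_zero.mp h3)
        exact hxne (Submodule.disjoint_def.mp hQE x h4 hx)
      have h3 : cyc T r (F ∙ u) ⊓ Q = Q := by
        apply Submodule.eq_of_le_of_finrank_le inf_le_right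
        rw [hQ.fin]
        have := Nat.le_of_dvd (Nat.pos_of_ne_zero h2) h1
        omega
      rw [← h3]; exact inf_le_left
    have hcW : cyc T r (F ∙ u) = W := by
      apply le_antisymm hle
      rw [← hPQs]
      apply sup_le _ hQle
      have hv2 : v ∈ cyc T r (F ∙ u) := by
        have : v = u - x := by rw [hu]; abel
        rw [this]
        exact Submodule.sub_mem _ hucyc (hQle hx)
      have hPf : P = F ∙ v := by
        symm
        apply Submodule.eq_of_le_of_finrank_le
        · rwa [Submodule.span_singleton_le_iff_mem]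
        · rw [finrank_span_singleton hvne, hP.fin]; omega
      rw [hPf, Submodule.span_singleton_le_iff_mem]
      exact hv2
    have h2 : Imp T 1 W r := Imp.cycle hT (by omega) (map_pow_le_of_scalar hz (F ∙ u))
      (finrank_span_singleton hune) (by rw [hW.fin]; omega) hcW
    have h3 := h2.sup h1 hdis
    rw [hsup] at h3
    have : (s + 1) * r = r + s * r := by ring
    rw [this]
    exact h3

end Cfsg.Agent.Lib.ImpDec
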