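import Mathlib
import Cfsg.Prelude.Def_GeometricClasses
import Cfsg.Agent.Lib.ImpDec
import Cfsg.Agent.Lib.JordanNil2
import Cfsg.Agent.Lib.ElusiveUni

/-! Elements of prime order of SL_n(q) permuting the summands of equidimensional decompositions. (helper99) -/

set_option autoImplicit false

namespace Cfsg.Agent.Lib.ImpDec

open Module Cfsg.Agent.Lib.InvSub Cfsg.Agent.Lib.PrimeOrd Cfsg.Agent.Lib.JordanNil Cfsg.Agent.Lib.ElusiveUni
  Cfsg.Agent.Lib.ElusiveLin

lemma le_two_form {μ : Multiset ℕ} (hμ : ∀ a ∈ μ, 0 < a ∧ a ≤ 2) :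
    μ = Multiset.replicate (μ.count 2) 2 + Multiset.replicate (μ.count 1) 1 := by
  ext c
  rw [Multiset.count_add, Multiset.count_replicate, Multiset.count_replicate]
  by_cases h1 : c = 1
  · subst h1; simp
  · by_cases h2 : c = 2
    · subst h2; simp
    · rw [if_neg (by tauto), if_neg (by tauto)]
      apply Multiset.count_eq_zero_of_notMem
      intro hc
      have := hμ c hc
      omega

lemma parts_two {μ : Multiset ℕ} (hμ : ∀ b ∈ μ, 0 < b ∧ b ≤ 2) {a t : ℕ} (ht : 1 ≤ t)
    (hsum : μ.sum = t * a) :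
    (∃ ν ≤ μ, ν.sum = a) ∨ (2 ≤ t ∧ Multiset.replicate a 2 ≤ μ) := by
  have hf := le_two_form hμ
  set A := μ.count 2 with hA
  set B := μ.count 1 with hB
  have hn : 2 * A + B = t * a := by
    rw [← hsum, hf, Multiset.sum_add, Multiset.sum_replicate, Multiset.sum_replicate]
    simp [mul_comm]
  have hat : a ≤ t * a := Nat.le_mul_of_pos_left a ht
  by_cases hcase : Even a ∨ 1 ≤ B
  · left
    obtain ⟨u, v, hu, hv, huv⟩ : ∃ u v, u ≤ A ∧ v ≤ B ∧ 2 * u + v = a := by
      by_cases hle : a / 2 ≤ A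
      · refine ⟨a / 2, a % 2, hle, ?_, by omega⟩
        rcases hcase with h | h
        · obtain ⟨k, hk⟩ := h; omega
        · omega
      · exact ⟨A, a - 2 * A, le_rfl, by omega, by omega⟩
    refine ⟨Multiset.replicate u 2 + Multiset.replicate v 1, ?_, ?_⟩
    · rw [hf]
      exact add_le_add ((Multiset.replicate_le_replicate 2).mpr hu) ((Multiset.replicate_le_replicate 1).mpr hv)
    · rw [Multiset.sum_add, Multiset.sum_replicate, Multiset.sum_replicate]
      simp only [smul_eq_mul, mul_one]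
      omega
  · right
    push Not at hcase
    obtain ⟨h1, h2⟩ := hcase
    have hB0 : B = 0 := by omega
    rw [hB0, add_zero] at hn
    rw [Nat.not_even_iff_odd] at h1
    have ht2 : Even t := by
      have : Even (t * a) := ⟨A, by omega⟩
      rcases Nat.even_mul.mp this with h | h
      · exact h
      · exact absurd h (Nat.not_even_iff_odd.mpr h1)
    have ht3 : 2 ≤ t := by obtain ⟨k, hk⟩ := ht2; omega
    refine ⟨ht3, ?_⟩
    rw [hf, hB0]
    rw [Multiset.replicate_zero, add_zero]
    apply (Multiset.replicate_le_replicate 2).mpr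
    have : 2 * a ≤ t * a := Nat.mul_le_mul_right a ht3
    omega

section unip

variable {F V : Type*} [Field F] [AddCommGroup V] [Module F V] [FiniteDimensional F V]

theorem imp_of_unip2 {T : Module.End F V} {y z : F} (hz0 : z ≠ 0)
    (hz : T ^ 2 = z • (1 : Module.End F V)) {a : ℕ} (hN2 : (T - y • (1 : Module.End F V)) ^ 2 = 0) (t : ℕ) :
    ∀ {C : Submodule F V} {μ : Multiset ℕ}, Inv (T - y • (1 : Module.End F V)) C →
      Typ (T - y • (1 : Module.End F V)) C μ → (∀ b ∈ μ, b ≤ 2) → μ.sum = t * a → Imp T a C t := by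
  have hT := injective_of_scalar (by norm_num) hz0 hz
  induction t using Nat.strong_induction_on with
  | _ t ih =>
    intro C μ hC hμ hμ2 hsum
    have hnil : IsNilpotent (T - y • (1 : Module.End F V)) := ⟨2, hN2⟩
    rcases Nat.eq_zero_or_pos t with h0 | hpos
    · subst h0
      have hf : finrank F C = 0 := by rw [hμ.finrank_eq, hsum]; simp
      rw [Submodule.finrank_eq_zero.mp hf]
      exact Imp.bot
    · have hμ' : ∀ b ∈ μ, 0 < b ∧ b ≤ 2 := fun b hb =>
        ⟨Nat.pos_of_ne_zero (by rintro rfl; exact hμ.1 hb), hμ2 b hb⟩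
      rcases parts_two hμ' hpos hsum with ⟨ν, hν, hνs⟩ | ⟨ht2, hν⟩
      · obtain ⟨U, W, hd, hs, hU, hW, hUt, hWt⟩ := hμ.split_rel hnil hC hν
        have h1 : Imp T a U 1 := Imp.one hT (inv_sub_smul_iff.mp hU) (by rw [hUt.finrank_eq, hνs])
        have h2 := ih (t - 1) (by omega) hW hWt (fun b hb => hμ2 b (Multiset.mem_of_le (Multiset.sub_le_self _ _) hb)) (by
          have h3 : (μ - ν).sum + ν.sum = μ.sum := by rw [← Multiset.sum_add, tsub_add_cancel_of_le hν]
          obtain ⟨t', rfl⟩ : ∃ t', t = t' + 1 := ⟨t - 1, by omega⟩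
          rw [Nat.add_sub_cancel]
          rw [Nat.add_mul, one_mul] at hsum
          omega)
        have h3 := h1.sup h2 hd
        rw [hs] at h3
        have h4 : 1 + (t - 1) = t := by omega
        rwa [h4] at h3
      · obtain ⟨U, W, hd, hs, hU, hW, hUt, hWt⟩ := hμ.split_rel hnil hC hν
        obtain ⟨K, hKU, hKf, hK⟩ := exists_half hU hN2 hUt
        have hcyc : cyc T 2 K = U := by
          apply le_antisymm
          · exact cyc_le (inv_sub_smul_iff.mp hU) hKU
          · rw [← hK]
            have h5 : K ≤ cyc T 2 K := le_cyc (by norm_num) K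
            apply sup_le h5
            rintro _ ⟨v, hv, rfl⟩
            have hinv : Inv T (cyc T 2 K) := cyc_inv (by norm_num) (map_pow_le_of_scalar hz K)
            rw [LinearMap.sub_apply, LinearMap.smul_apply, Module.End.one_apply]
            exact Submodule.sub_mem _ (hinv v (h5 hv)) (Submodule.smul_mem _ _ (h5 hv))
        have h1 : Imp T a U 2 := Imp.cycle hT (by norm_num) (map_pow_le_of_scalar hz K) hKf (by
          rw [hUt.finrank_eq, Multiset.sum_replicate, smul_eq_mul, mul_comm]) hcyc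
        have h2 := ih (t - 2) (by omega) hW hWt (fun b hb => hμ2 b (Multiset.mem_of_le (Multiset.sub_le_self _ _) hb)) (by
          have h3 : (μ - Multiset.replicate a 2).sum + (Multiset.replicate a 2).sum = μ.sum := by
            rw [← Multiset.sum_add, tsub_add_cancel_of_le hν]
          rw [Multiset.sum_replicate, smul_eq_mul] at h3
          obtain ⟨t', rfl⟩ : ∃ t', t = t' + 2 := ⟨t - 2, by omega⟩
          rw [Nat.add_sub_cancel]
          rw [Nat.add_mul] at hsum
          omega)
        have h3 := h1.sup h2 hd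
        rw [hs] at h3
        have h4 : 2 + (t - 2) = t := by omega
        rwa [h4] at h3

end unip

section main

variable {F : Type*} [Field F] [Fintype F] {n : ℕ}

/-- prime different from the characteristic, `c ≤ a` and `n mod c = t (a mod c)`: everything is imprimitive. -/
theorem imp_all {p r : ℕ} [Fact p.Prime] [CharP F p] [Fact r.Prime] (hrp : r ≠ p) {a t : ℕ}
    (hat : n = a * t) (hn : 0 < n)
    (hca : orderOf ((Fintype.card F : ℕ) : ZMod r) ≤ a)
    (hk : n % orderOf ((Fintype.card F : ℕ) : ZMod r) = t * (a % orderOf ((Fintype.card F : ℕ) : ZMod r)))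
    (x : Matrix.SpecialLinearGroup (Fin n) F)
    (hx : ∃ z : F, ((x ^ r : Matrix.SpecialLinearGroup (Fin n) F) : Matrix (Fin n) (Fin n) F) = z • (1 : Matrix (Fin n) (Fin n) F)) :
    Imp (tl x) a ⊤ t := by
  have hr : r.Prime := Fact.out
  obtain ⟨z, hz⟩ := hx
  have hcpos := order_pos (F := F) (p := p) (r := r) hrp
  set c := orderOf ((Fintype.card F : ℕ) : ZMod r) with hc
  have hT : (tl x) ^ r = z • (1 : Module.End F (Fin n → F)) := by
    rw [tl_pow, tl_eq_smul_iff, hz]
  have hz0 : z ≠ 0 := by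
    rintro rfl
    have h1 := (x ^ r).2
    have hne : Nonempty (Fin n) := ⟨⟨0, hn⟩⟩
    rw [hz, zero_smul, Matrix.det_zero] at h1
    exact zero_ne_one h1
  have hinj := injective_of_scalar hr.pos hz0 hT
  rcases structure_of hrp x z hz hn with ⟨y, hy0, hy, hss⟩ | ⟨hnp, hss, hE, k, hkpos, hnk, -⟩
  · obtain ⟨e, s, hty, hn'⟩ := ty_top hss
    rw [← hc] at hss hty hn'
    apply imp_of_ty hss hinj hty (by rw [← hn', hat, mul_comm])
    have h1 : s ≤ n / c := by
      rw [Nat.le_div_iff_mul_le hcpos]; omega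
    have h2 : c * (n / c) = c * (t * (a / c)) := by
      have h3 := Nat.div_add_mod n c
      have h4 : n = c * (t * (a / c)) + t * (a % c) := by
        conv_lhs => rw [hat, ← Nat.div_add_mod a c]
        ring
      omega
    have h3 := Nat.eq_of_mul_eq_mul_left hcpos h2
    omega
  · have hty : Ty (tl x) 0 r ⊤ 0 k := by
      refine ⟨inv_top, ?_, ?_⟩
      · rw [hE, inf_bot_eq, finrank_bot]
      · rw [finrank_top]; simp [hnk]; ring
    by_cases hra : r ∣ a
    · obtain ⟨a', rfl⟩ := hra
      apply imp_of_ty hss hinj hty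
      · rw [zero_add, mul_comm k r, ← hnk, hat, mul_comm]
      · rw [Nat.mul_div_cancel_left _ hr.pos]
        apply le_of_eq
        have : r * k = r * (t * a') := by rw [← hnk, hat]; ring
        exact Nat.eq_of_mul_eq_mul_left hr.pos this
    · have hrt : r ∣ t := by
        have : r ∣ a * t := by rw [← hat, hnk]; exact dvd_mul_right r k
        exact (hr.dvd_mul.mp this).resolve_left hra
      obtain ⟨t', rfl⟩ := hrt
      have hk' : k = a * t' := by
        have : r * k = r * (a * t') := by rw [← hnk, hat]; ring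
        exact Nat.eq_of_mul_eq_mul_left hr.pos this
      rw [hk'] at hty
      exact imp_of_typeC hss hz0 hT hty

/-- `r = 2 = p` -/
theorem imp_all_two [CharP F 2] {a t : ℕ} (hat : n = a * t) (hn : 0 < n)
    (x : Matrix.SpecialLinearGroup (Fin n) F)
    (hx : ∃ z : F, ((x ^ 2 : Matrix.SpecialLinearGroup (Fin n) F) : Matrix (Fin n) (Fin n) F) = z • (1 : Matrix (Fin n) (Fin n) F)) :
    Imp (tl x) a ⊤ t := by
  obtain ⟨z, hz⟩ := hx
  have : Fact (Nat.Prime 2) := ⟨Nat.prime_two⟩
  have hT : (tl x) ^ 2 = z • (1 : Module.End F (Fin n → F)) := by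
    rw [tl_pow, tl_eq_smul_iff, hz]
  have hz0 : z ≠ 0 := by
    rintro rfl
    have h1 := (x ^ 2).2
    have hne : Nonempty (Fin n) := ⟨⟨0, hn⟩⟩
    rw [hz, zero_smul, Matrix.det_zero] at h1
    exact zero_ne_one h1
  obtain ⟨y, hy, hN⟩ := exists_nil x hz
  have hnil : IsNilpotent (tl x - y • (1 : Module.End F (Fin n → F))) := ⟨2, hN⟩
  obtain ⟨μ, hμ⟩ := exists_typ_top hnil
  apply imp_of_unip2 hz0 hT hN t inv_top hμ ((hμ.pow_eq_zero_iff 2).mp hN)
  rw [← hμ.finrank_eq, finrank_top]
  simp [hat, mul_comm]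

omit [Fintype F] in
/-- from `Imp` to the statement's form -/
theorem Imp.toDec {a t : ℕ} (ha : 1 ≤ a) (ht : 2 ≤ t) {x : Matrix.SpecialLinearGroup (Fin n) F}
    (h : Imp (tl x) a ⊤ t) :
    ∃ D : Fin t → Submodule F (Fin n → F), Cfsg.Geo.IsMDecomposition a D ∧
        ∃ σ : Equiv.Perm (Fin t), ∀ j, (D j).map (Matrix.toLin' (x : Matrix (Fin n) (Fin n) F)) = D (σ j) := by
  obtain ⟨D, h1, h2, h3, σ, h4⟩ := h.final
  exact ⟨D, ⟨ht, ha, h1, h2, h3⟩, σ, h4⟩

end main

end Cfsg.Agent.Lib.ImpDec
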