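import Mathlib
import Cfsg.Agent.Lib.ImpDec2

/-! Linear maps permuting the summands of a direct decomposition: cycles, fixed vectors. (helper99) -/

set_option autoImplicit false

namespace Cfsg.Agent.Lib.ImpDec

open Module Cfsg.Agent.Lib.InvSub Cfsg.Agent.Lib.PrimeOrd

variable {F V : Type*} [Field F] [AddCommGroup V] [Module F V]

section dec

variable {ι : Type*} {D : ι → Submodule F V} (hind : iSupIndep D) (htop : iSup D = ⊤)

include hind htop in
lemma isCompl_others (l : ι) : IsCompl (D l) (⨆ (l' : ι) (_ : l' ≠ l), D l') := by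
  refine ⟨(iSupIndep_def.mp hind) l, ?_⟩
  rw [codisjoint_iff, eq_top_iff, ← htop]
  apply iSup_le
  intro j
  by_cases hj : j = l
  · subst hj; exact le_sup_left
  · exact le_trans (le_iSup₂_of_le j hj le_rfl) le_sup_right

/-- projection on the `l`-th summand -/
noncomputable def pr (l : ι) : V →ₗ[F] V := (D l).projection _ (isCompl_others hind htop l)

lemma pr_self {l : ι} {v : V} (hv : v ∈ D l) : pr hind htop l v = v :=
  Submodule.projection_apply_of_mem_left _ hv

lemma pr_mem (l : ι) (v : V) : pr hind htop l v ∈ D l := Submodule.projection_apply_mem _ v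

lemma pr_of_ne {l l' : ι} (h : l' ≠ l) {v : V} (hv : v ∈ D l') : pr hind htop l v = 0 := by
  apply Submodule.projection_apply_of_mem_right
  exact (le_iSup₂_of_le (f := fun l' (_ : l' ≠ l) => D l') l' h le_rfl) hv

lemma pr_of_notMem {l : ι} {S : Finset ι} (h : l ∉ S) {v : V} (hv : v ∈ ⨆ i ∈ S, D i) : pr hind htop l v = 0 := by
  apply Submodule.projection_apply_of_mem_right
  have : (⨆ i ∈ S, D i) ≤ ⨆ (l' : ι) (_ : l' ≠ l), D l' := by
    apply iSup_le; intro i; apply iSup_le; intro hi
    exact le_iSup₂_of_le i (by rintro rfl; exact h hi) le_rfl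
  exact this hv

include htop in
omit hind in
lemma ext_of_top {W : Type*} [AddCommGroup W] [Module F W] {f g : V →ₗ[F] W}
    (h : ∀ l, ∀ v ∈ D l, f v = g v) : f = g := by
  have h1 : (⊤ : Submodule F V) ≤ LinearMap.eqLocus f g := by
    rw [← htop]
    exact iSup_le fun l v hv => h l v hv
  exact LinearMap.ext fun v => h1 trivial

lemma sum_pr [Fintype ι] (v : V) : ∑ l, pr hind htop l v = v := by
  classical
  have : (∑ l, pr hind htop l) = LinearMap.id := by
    apply ext_of_top htop
    intro l v hv
    rw [LinearMap.sum_apply, LinearMap.id_apply, Finset.sum_eq_single l]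
    · exact pr_self hind htop hv
    · intro l' _ hl'
      exact pr_of_ne hind htop (Ne.symm hl') hv
    · intro h; exact absurd (Finset.mem_univ l) h
  have h2 := congrArg (fun f : V →ₗ[F] V => f v) this
  simpa using h2

lemma eq_zero_of_pr [Fintype ι] {v : V} (h : ∀ l, pr hind htop l v = 0) : v = 0 := by
  rw [← sum_pr hind htop v]
  exact Finset.sum_eq_zero fun l _ => h l

lemma pr_perm {T : Module.End F V} {σ : Equiv.Perm ι} (hσ : ∀ j, (D j).map T = D (σ j)) (l : ι) (v : V) :
    pr hind htop (σ l) (T v) = T (pr hind htop l v) := by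
  have : (pr hind htop (σ l)) ∘ₗ T = T ∘ₗ (pr hind htop l) := by
    apply ext_of_top htop
    intro j v hv
    rw [LinearMap.comp_apply, LinearMap.comp_apply]
    have hTv : T v ∈ D (σ j) := by rw [← hσ]; exact ⟨v, hv, rfl⟩
    by_cases hj : j = l
    · subst hj
      rw [pr_self hind htop hv, pr_self hind htop hTv]
    · rw [pr_of_ne hind htop hj hv, map_zero, pr_of_ne hind htop (fun h => hj (σ.injective h)) hTv]
  exact congrArg (fun f : V →ₗ[F] V => f v) this

omit hind htop in
lemma map_pow_perm {T : Module.End F V} {σ : Equiv.Perm ι} (hσ : ∀ j, (D j).map T = D (σ j)) (i : ℕ) (j : ι) :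
    (D j).map (T ^ i) = D ((σ ^ i) j) := by
  induction i with
  | zero => simp [Module.End.one_eq_id]
  | succ i ih =>
    rw [pow_succ', Module.End.mul_eq_comp, Submodule.map_comp, ih, hσ, pow_succ', Equiv.Perm.mul_apply]

omit hind htop in
lemma pow_mem_perm {T : Module.End F V} {σ : Equiv.Perm ι} (hσ : ∀ j, (D j).map T = D (σ j)) {i : ℕ} {j : ι}
    {v : V} (hv : v ∈ D j) : (T ^ i) v ∈ D ((σ ^ i) j) := by
  rw [← map_pow_perm hσ]; exact ⟨v, hv, rfl⟩

lemma pr_perm_pow {T : Module.End F V} {σ : Equiv.Perm ι} (hσ : ∀ j, (D j).map T = D (σ j)) (i : ℕ) (l : ι) (v : V) :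
    pr hind htop ((σ ^ i) l) ((T ^ i) v) = (T ^ i) (pr hind htop l v) := by
  induction i with
  | zero => simp
  | succ i ih =>
    rw [pow_succ', pow_succ', Equiv.Perm.mul_apply, Module.End.mul_apply, pr_perm hind htop hσ, ih,
      Module.End.mul_apply]

include hind in
omit htop in
lemma perm_pow_eq_one {T : Module.End F V} {σ : Equiv.Perm ι} (hσ : ∀ j, (D j).map T = D (σ j))
    (hne : ∀ j, D j ≠ ⊥) {r : ℕ} {z : F} (hz0 : z ≠ 0) (hz : T ^ r = z • (1 : Module.End F V)) : σ ^ r = 1 := by
  ext j
  rw [Equiv.Perm.one_apply]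
  have h1 := map_pow_perm hσ r j
  have h2 : (D j).map (T ^ r) = D j := by
    rw [hz]
    apply le_antisymm
    · rintro _ ⟨v, hv, rfl⟩
      exact (D j).smul_mem z hv
    · intro v hv
      refine ⟨z⁻¹ • v, (D j).smul_mem _ hv, ?_⟩
      rw [LinearMap.smul_apply, Module.End.one_apply, smul_smul, mul_inv_cancel₀ hz0, one_smul]
  rw [h2] at h1
  exact (hind.injective hne h1).symm

end dec

lemma perm_pow_ne {ι : Type*} {σ : Equiv.Perm ι} {r : ℕ} (hr : r.Prime) (hσ : σ ^ r = 1) {j : ι} (hj : σ j ≠ j)
    {i : ℕ} (hi : 0 < i) (hir : i < r) : (σ ^ i) j ≠ j := by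
  intro h
  have h1 : Function.minimalPeriod σ j ∣ r := by
    apply Function.IsPeriodicPt.minimalPeriod_dvd
    change (σ^[r]) j = j
    rw [← Equiv.Perm.coe_pow, hσ]; rfl
  have h2 : Function.minimalPeriod σ j ∣ i := by
    apply Function.IsPeriodicPt.minimalPeriod_dvd
    change (σ^[i]) j = j
    rw [← Equiv.Perm.coe_pow]; exact h
  rcases (Nat.dvd_prime hr).mp h1 with h3 | h3
  · apply hj
    exact Function.minimalPeriod_eq_one_iff_isFixedPt.mp h3
  · rw [h3] at h2
    have := Nat.le_of_dvd hi h2
    omega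

lemma perm_pow_inj {ι : Type*} {σ : Equiv.Perm ι} {r : ℕ} (hr : r.Prime) (hσ : σ ^ r = 1) {j : ι} (hj : σ j ≠ j)
    {i i' : ℕ} (hi : i < r) (hi' : i' < r) (h : (σ ^ i) j = (σ ^ i') j) : i = i' := by
  wlog hle : i ≤ i' generalizing i i'
  · exact (this hi' hi h.symm (by omega)).symm
  by_contra hne
  have h1 : (σ ^ (i' - i)) j = j := by
    apply (σ ^ i).injective
    rw [← Equiv.Perm.mul_apply, ← pow_add, h]
    congr 2; omega
  exact perm_pow_ne hr hσ hj (by omega) (by omega) h1

/-- the sum of the first `r` powers -/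
def trc (T : Module.End F V) (r : ℕ) : Module.End F V := ∑ i ∈ Finset.range r, T ^ i

lemma trc_apply (T : Module.End F V) (r : ℕ) (v : V) : trc T r v = ∑ i ∈ Finset.range r, (T ^ i) v := by
  rw [trc, LinearMap.sum_apply]

lemma trc_fixed {T : Module.End F V} {r : ℕ} (hT : T ^ r = 1) (v : V) : T (trc T r v) = trc T r v := by
  have h1 : T * trc T r = trc T r := by
    rw [trc, Finset.mul_sum]
    have h2 : ∑ i ∈ Finset.range r, T * T ^ i = ∑ i ∈ Finset.range r, T ^ (i + 1) :=
      Finset.sum_congr rfl fun i _ => (pow_succ' T i).symm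
    rw [h2]
    have h3 := Finset.sum_range_succ (fun i => T ^ i) r
    have h4 := Finset.sum_range_succ' (fun i => T ^ i) r
    rw [h3, hT, pow_zero] at h4
    exact (add_right_cancel h4).symm
  exact congrArg (fun f : Module.End F V => f v) h1

section dec2

variable {ι : Type*} {D : ι → Submodule F V} (hind : iSupIndep D) (htop : iSup D = ⊤)
  {T : Module.End F V} {σ : Equiv.Perm ι} (hσ : ∀ j, (D j).map T = D (σ j)) {r : ℕ} (hr : r.Prime) (hσr : σ ^ r = 1)

include hσ hr hσr in
lemma pr_trc {j : ι} (hj : σ j ≠ j) {u : V} (hu : u ∈ D j) : pr hind htop j (trc T r u) = u := by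
  rw [trc_apply, map_sum, Finset.sum_eq_single 0]
  · rw [pow_zero, Module.End.one_apply]
    exact pr_self hind htop hu
  · intro i hi hi0
    exact pr_of_ne hind htop (perm_pow_ne hr hσr hj (Nat.pos_of_ne_zero hi0) (Finset.mem_range.mp hi))
      (pow_mem_perm hσ hu)
  · intro h
    exact absurd (Finset.mem_range.mpr hr.pos) h

include hσ hr hσr hind htop in
lemma finrank_map_trc [FiniteDimensional F V] {j : ι} (hj : σ j ≠ j) :
    finrank F ↥((D j).map (trc T r)) = finrank F (D j) := by
  have hinj : Function.Injective ((trc T r).domRestrict (D j)) := by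
    rw [← LinearMap.ker_eq_bot, LinearMap.ker_eq_bot']
    intro u hu
    have h1 : trc T r (u : V) = 0 := hu
    have h2 := pr_trc hind htop hσ hr hσr hj u.2
    rw [h1, map_zero] at h2
    exact Subtype.ext h2.symm
  have h1 : (D j).map (trc T r) = LinearMap.range ((trc T r).domRestrict (D j)) := by
    ext v
    constructor
    · rintro ⟨u, hu, rfl⟩; exact ⟨⟨u, hu⟩, rfl⟩
    · rintro ⟨u, rfl⟩; exact ⟨u, u.2, rfl⟩
  rw [h1, LinearMap.finrank_range_of_inj hinj]

include hσ hr hσr hind htop in
/-- Q2 -/
lemma le_finrank_E [FiniteDimensional F V] (hT : T ^ r = 1) {j : ι} (hj : σ j ≠ j) :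
    finrank F (D j) ≤ finrank F (E T 1) := by
  rw [← finrank_map_trc hind htop hσ hr hσr hj]
  apply Submodule.finrank_mono
  rintro _ ⟨u, -, rfl⟩
  apply Module.End.mem_eigenspace_iff.mpr
  rw [one_smul, trc_fixed hT]

lemma finrank_biSup_eq [FiniteDimensional F V] (hind : iSupIndep D) (s : Finset ι) :
    finrank F ↥(⨆ i ∈ s, D i) = ∑ i ∈ s, finrank F (D i) := by
  classical
  induction s using Finset.induction_on with
  | empty => simp
  | insert i s hi ih =>
    rw [Finset.iSup_insert, Finset.sum_insert hi]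
    have hd : Disjoint (D i) (⨆ j ∈ s, D j) := hind.disjoint_biSup (x := i) (y := (s : Set ι)) (by simpa using hi)
    have e := Submodule.finrank_sup_add_finrank_inf_eq (D i) (⨆ j ∈ s, D j)
    rw [hd.eq_bot, finrank_bot] at e
    omega

include hσ hr hσr hind htop in
/-- Q3 -/
lemma finrank_add_E_le [Fintype ι] [FiniteDimensional F V] {a : ℕ} (ha : ∀ i, finrank F (D i) = a)
    {j : ι} (hj : σ j ≠ j) :
    (r - 1) * a + finrank F (E T 1) ≤ finrank F V := by
  classical
  let S : Finset ι := (Finset.range (r - 1)).image (fun i => (σ ^ i) j)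
  have hrp := hr.two_le
  have hcard : S.card = r - 1 := by
    rw [Finset.card_image_of_injOn, Finset.card_range]
    intro i hi i' hi' h
    rw [Finset.coe_range, Set.mem_Iio] at hi hi'
    exact perm_pow_inj hr hσr hj (by omega) (by omega) h
  have hC : finrank F ↥(⨆ i ∈ S, D i) = (r - 1) * a := by
    rw [finrank_biSup_eq hind, Finset.sum_congr rfl (fun i _ => ha i), Finset.sum_const, hcard, smul_eq_mul]
  have hd : Disjoint (⨆ i ∈ S, D i) (E T 1) := by
    rw [Submodule.disjoint_def]
    intro v hv hvE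
    have hTv : T v = v := by
      have := Module.End.mem_eigenspace_iff.mp hvE
      rwa [one_smul] at this
    have hTiv : ∀ i : ℕ, (T ^ i) v = v := by
      intro i
      induction i with
      | zero => simp
      | succ i ih => rw [pow_succ, Module.End.mul_apply, hTv, ih]
    apply eq_zero_of_pr hind htop
    intro l
    by_cases hl : l ∈ S
    · obtain ⟨m, hm, rfl⟩ := Finset.mem_image.mp hl
      have h0 : (σ ^ (r - 1)) j ∉ S := by
        intro h
        obtain ⟨m', hm', h'⟩ := Finset.mem_image.mp h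
        rw [Finset.mem_range] at hm'
        have := perm_pow_inj hr hσr hj (by omega) (by omega) h'
        omega
      have h1 := pr_of_notMem hind htop h0 hv
      have h2 := pr_perm_pow hind htop hσ (m + 1) ((σ ^ (r - 1)) j) v
      rw [h1, map_zero, hTiv, ← Equiv.Perm.mul_apply, ← pow_add] at h2
      have h3 : m + 1 + (r - 1) = m + r := by omega
      rw [h3, pow_add, hσr, mul_one] at h2
      exact h2
    · exact pr_of_notMem hind htop hl hv
  have e := Submodule.finrank_sup_add_finrank_inf_eq (⨆ i ∈ S, D i) (E T 1)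
  rw [hd.eq_bot, finrank_bot, hC] at e
  have := Submodule.finrank_le ((⨆ i ∈ S, D i) ⊔ E T 1)
  omega

include hσ hr hσr hind htop in
/-- Q4: at least one fixed vector for each orbit -/
lemma card_le_mul_finrank_E [Fintype ι] [FiniteDimensional F V] (hT : T ^ r = 1) (hne : ∀ j, D j ≠ ⊥)
    (hfix : ∀ j, σ j = j → D j ≤ E T 1) :
    Fintype.card ι ≤ r * finrank F (E T 1) := by
  classical
  let Q := Quotient (Equiv.Perm.SameCycle.setoid σ)
  have hu : ∀ l : ι, ∃ u ∈ D l, u ≠ 0 := fun l => (Submodule.ne_bot_iff _).mp (hne l)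
  choose u hu hu0 using hu
  -- the fixed vector attached to an orbit
  let w : Q → V := fun q => if σ q.out = q.out then u q.out else trc T r (u q.out)
  have hwE : ∀ q, w q ∈ E T 1 := by
    intro q
    simp only [w]
    split_ifs with h
    · exact hfix _ h (hu _)
    · apply Module.End.mem_eigenspace_iff.mpr
      rw [one_smul, trc_fixed hT]
  have hself : ∀ q, pr hind htop q.out (w q) = u q.out := by
    intro q
    simp only [w]
    split_ifs with h
    · exact pr_self hind htop (hu _)
    · exact pr_trc hind htop hσ hr hσr h (hu _)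
  have hother : ∀ q q', q' ≠ q → pr hind htop q.out (w q') = 0 := by
    intro q q' hq
    have hne' : ∀ i : ℕ, (σ ^ i) q'.out ≠ q.out := by
      intro i h
      apply hq
      have h1 : (Equiv.Perm.SameCycle.setoid σ).r q'.out q.out := ⟨i, by simpa using h⟩
      have h2 : (⟦q'.out⟧ : Q) = ⟦q.out⟧ := Quotient.sound h1
      rwa [Quotient.out_eq, Quotient.out_eq] at h2
    simp only [w]
    split_ifs with h
    · exact pr_of_ne hind htop (by simpa using hne' 0) (hu _)
    · rw [trc_apply, map_sum]
      exact Finset.sum_eq_zero fun i _ => pr_of_ne hind htop (hne' i) (pow_mem_perm hσ (hu _))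
  have hli : LinearIndependent F (fun q : Q => (⟨w q, hwE q⟩ : E T 1)) := by
    rw [Fintype.linearIndependent_iff]
    intro g hg q
    have h1 : ∑ q', g q' • w q' = 0 := by
      have := congrArg (fun x : E T 1 => (x : V)) hg
      simpa using this
    have h2 := congrArg (pr hind htop q.out) h1
    rw [map_sum, map_zero, Finset.sum_eq_single q] at h2
    · rw [map_smul, hself] at h2
      exact (smul_eq_zero.mp h2).resolve_right (hu0 _)
    · intro q' _ hq'
      rw [map_smul, hother q q' hq', smul_zero]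
    · intro h; exact absurd (Finset.mem_univ q) h
  have hQ : Fintype.card Q ≤ finrank F (E T 1) := hli.fintype_card_le_finrank
  have hle : Fintype.card ι ≤ Fintype.card Q * r := by
    have := Finset.card_le_mul_card_image_of_maps_to (s := (Finset.univ : Finset ι)) (t := (Finset.univ : Finset Q))
      (f := fun l => (⟦l⟧ : Q)) (fun _ _ => Finset.mem_univ _) r (by
        intro q _
        have hsub : (Finset.univ.filter (fun l : ι => (⟦l⟧ : Q) = q)) ⊆
            (Finset.range r).image (fun i => (σ ^ i) q.out) := by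
          intro l hl
          rw [Finset.mem_filter] at hl
          have h1 : (⟦q.out⟧ : Q) = ⟦l⟧ := by rw [Quotient.out_eq, hl.2]
          obtain ⟨i, hi⟩ : σ.SameCycle q.out l := Quotient.exact h1
          rw [Finset.mem_image]
          have hr0 : (r : ℤ) ≠ 0 := by exact_mod_cast hr.ne_zero
          have h2 : ((i % (r : ℤ)).toNat : ℤ) = i % r := Int.toNat_of_nonneg (Int.emod_nonneg i hr0)
          refine ⟨(i % (r : ℤ)).toNat, ?_, ?_⟩
          · rw [Finset.mem_range]
            have h3 := Int.emod_lt_of_pos i (by exact_mod_cast hr.pos : (0 : ℤ) < r)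
            omega
          · rw [← hi, ← zpow_natCast, h2]
            have h3 : σ ^ i = σ ^ (i % (r : ℤ)) := by
              conv_lhs => rw [← Int.emod_add_mul_ediv i r]
              rw [zpow_add, zpow_mul, zpow_natCast, hσr, one_zpow, mul_one]
            rw [h3]
        exact (Finset.card_le_card hsub).trans (Finset.card_image_le.trans (by rw [Finset.card_range])))
    simpa [mul_comm] using this
  calc Fintype.card ι ≤ Fintype.card Q * r := hle
    _ ≤ finrank F (E T 1) * r := Nat.mul_le_mul_right r hQ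
    _ = r * finrank F (E T 1) := mul_comm _ _

lemma ty_biSup [FiniteDimensional F V] (hind : iSupIndep D) {y : F} {c : ℕ} {e s : ι → ℕ}
    (h : ∀ i, Ty T y c (D i) (e i) (s i)) (S : Finset ι) :
    Ty T y c (⨆ i ∈ S, D i) (∑ i ∈ S, e i) (∑ i ∈ S, s i) := by
  classical
  induction S using Finset.induction_on with
  | empty =>
    refine ⟨by simpa using inv_bot, ?_, ?_⟩
    · have : (⨆ i ∈ (∅ : Finset ι), D i) = ⊥ := by simp
      rw [this]; simp
    · have : (⨆ i ∈ (∅ : Finset ι), D i) = ⊥ := by simp
      rw [this]; simp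
  | insert i S hi ih =>
    rw [Finset.iSup_insert, Finset.sum_insert hi, Finset.sum_insert hi]
    have hd : Disjoint (D i) (⨆ j ∈ S, D j) := hind.disjoint_biSup (x := i) (y := (S : Set ι)) (by simpa using hi)
    exact (h i).sup ih hd

lemma ty_unique {y : F} {c : ℕ} (hc : 0 < c) {C : Submodule F V} {e s e' s' : ℕ} (h : Ty T y c C e s)
    (h' : Ty T y c C e' s') : e = e' ∧ s = s' := by
  have h1 : e = e' := by rw [← h.fin_e, h'.fin_e]
  refine ⟨h1, ?_⟩
  have h2 := h.fin
  rw [h'.fin, h1] at h2
  have h3 : s' * c = s * c := by omega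
  exact (Nat.eq_of_mul_eq_mul_right hc h3).symm

include htop in
/-- Q1 -/
lemma le_of_all_inv [Fintype ι] [FiniteDimensional F V] (hind : iSupIndep D) {y : F} {c : ℕ} (hss : SS T y c)
    {a : ℕ} (ha : ∀ i, finrank F (D i) = a) (hinv : ∀ i, Inv T (D i)) {e s : ℕ} (hty : Ty T y c ⊤ e s) :
    s ≤ Fintype.card ι * (a / c) := by
  classical
  have h1 : ∀ i, ∃ e s, Ty T y c (D i) e s := fun i => hss.exists_ty (hinv i)
  choose e' s' h2 using h1
  have h3 := ty_biSup hind h2 Finset.univ
  have h4 : (⨆ i ∈ (Finset.univ : Finset ι), D i) = ⊤ := by rw [← htop]; simp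
  rw [h4] at h3
  have h5 := (ty_unique hss.pos hty h3).2
  rw [h5]
  calc ∑ i, s' i ≤ ∑ _i : ι, a / c := by
        apply Finset.sum_le_sum
        intro i _
        rw [Nat.le_div_iff_mul_le hss.pos, ← ha i, (h2 i).fin]
        omega
    _ = Fintype.card ι * (a / c) := by rw [Finset.sum_const, Finset.card_univ, smul_eq_mul]

end dec2

end Cfsg.Agent.Lib.ImpDec
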