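import Cfsg.Agent.Lib.CAElem
import Cfsg.Agent.Lib.ElemCent3
import Cfsg.Agent.Lib.StrongEmb
import Cfsg.Agent.Lib.SL2EvenMisc

/-!
# Groups in which the centralizer of every involution is abelian (helper81), part 1
-/

set_option autoImplicit false
open Cfsg

namespace Cfsg.Agent.Lib.InvCentAb

open MulAction Subgroup Cfsg.Agent.Lib.InvAct Cfsg.Agent.Lib.StrongEmbPt

universe u

section general

variable {G : Type u} [Group G] [Finite G] (T : Sylow 2 G)

theorem mem_of_normalizer {x : G} {k : ℕ} (hx : x ^ 2 ^ k = 1)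
    (hN : x ∈ normalizer ((T : Subgroup G) : Set G)) : x ∈ (T : Subgroup G) := by
  have hp : IsPGroup 2 (zpowers x) := by
    rintro ⟨y, n, rfl⟩
    refine ⟨k, Subtype.ext ?_⟩
    show (x ^ n) ^ 2 ^ k = 1
    rw [← zpow_natCast, ← zpow_mul, mul_comm, zpow_mul, zpow_natCast, hx, one_zpow]
  have h := hp.inf_normalizer_sylow T
  have h1 : x ∈ zpowers x ⊓ normalizer ((T : Subgroup G) : Set G) := ⟨mem_zpowers x, hN⟩
  exact (h ▸ h1 : x ∈ zpowers x ⊓ (T : Subgroup G)).2

theorem exists_pow_of_mem {x : G} (hx : x ∈ (T : Subgroup G)) : ∃ k : ℕ, x ^ 2 ^ k = 1 := by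
  obtain ⟨k, hk⟩ := T.2 ⟨x, hx⟩
  exact ⟨k, congrArg Subtype.val hk⟩

theorem exists_central_involution (hT : (T : Subgroup G) ≠ ⊥) :
    ∃ z ∈ (T : Subgroup G), orderOf z = 2 ∧ ∀ x ∈ (T : Subgroup G), x * z = z * x := by
  have : Fact (Nat.Prime 2) := ⟨Nat.prime_two⟩
  have : Nontrivial (T : Subgroup G) := (Subgroup.nontrivial_iff_ne_bot _).mpr hT
  have h1 : Nontrivial (center (T : Subgroup G)) := T.2.center_nontrivial
  have h2 : IsPGroup 2 (center (T : Subgroup G)) := T.2.to_subgroup _
  obtain ⟨n, hn⟩ := h2.exists_card_eq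
  have h3 : 2 ∣ Nat.card (center (T : Subgroup G)) := by
    rcases Nat.eq_zero_or_pos n with h0 | h0
    · exfalso
      rw [h0, pow_zero] at hn
      have h4 : 1 < Nat.card (center (T : Subgroup G)) := Finite.one_lt_card_iff_nontrivial.mpr h1
      omega
    · rw [hn]; exact dvd_pow_self 2 h0.ne'
  obtain ⟨z, hz⟩ := exists_prime_orderOf_dvd_card' 2 h3
  refine ⟨((z : (T : Subgroup G)) : G), (z : (T : Subgroup G)).2, ?_, ?_⟩
  · rw [Subgroup.orderOf_coe, Subgroup.orderOf_coe]; exact hz
  · intro x hx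
    have := Subgroup.mem_center_iff.mp z.2 ⟨x, hx⟩
    exact congrArg Subtype.val this

variable (hC : ∀ t : G, orderOf t = 2 → IsMulCommutative (centralizer ({t} : Set G)))

include hC in
omit [Finite G] in
theorem comm_of {t x y : G} (ht : orderOf t = 2) (hx : x ∈ centralizer ({t} : Set G))
    (hy : y ∈ centralizer ({t} : Set G)) : x * y = y * x := by
  have := hC t ht
  exact congrArg Subtype.val (this.is_comm.comm ⟨x, hx⟩ ⟨y, hy⟩)

include hC in
theorem T_comm {x y : G} (hx : x ∈ (T : Subgroup G)) (hy : y ∈ (T : Subgroup G)) : x * y = y * x := by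
  by_cases hT : (T : Subgroup G) = ⊥
  · rw [hT, mem_bot] at hx hy
    rw [hx, hy]
  · obtain ⟨z, hz, ho, hzc⟩ := exists_central_involution T hT
    exact comm_of hC ho (mem_centralizer_singleton_iff.mpr (hzc x hx))
      (mem_centralizer_singleton_iff.mpr (hzc y hy))

include hC in
theorem T_le_cent {t : G} (ht : t ∈ (T : Subgroup G)) : (T : Subgroup G) ≤ centralizer ({t} : Set G) := by
  intro x hx
  exact mem_centralizer_singleton_iff.mpr (T_comm T hC hx ht)

include hC in
theorem cent_eq {s t : G} (hs : s ∈ (T : Subgroup G)) (ht : t ∈ (T : Subgroup G))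
    (os : orderOf s = 2) (ot : orderOf t = 2) :
    centralizer ({s} : Set G) = centralizer ({t} : Set G) := by
  apply le_antisymm
  · intro c hc
    exact mem_centralizer_singleton_iff.mpr (comm_of hC os hc (T_le_cent T hC hs ht))
  · intro c hc
    exact mem_centralizer_singleton_iff.mpr (comm_of hC ot hc (T_le_cent T hC ht hs))

include hC in
theorem cent_le_normalizer {t : G} (ht : t ∈ (T : Subgroup G)) (ot : orderOf t = 2) :
    centralizer ({t} : Set G) ≤ normalizer ((T : Subgroup G) : Set G) := by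
  intro c hc
  rw [Subgroup.mem_normalizer_iff]
  have h1 : ∀ x ∈ (T : Subgroup G), c * x * c⁻¹ = x := by
    intro x hx
    rw [comm_of hC ot hc (T_le_cent T hC ht hx)]; group
  intro x
  constructor
  · intro hx; rw [h1 x hx]; exact hx
  · intro hx
    have h2 := h1 _ hx
    have h3 : c * x * c⁻¹ = x := by
      have h4 : c * (c * x * c⁻¹) * c⁻¹ = c * x * c⁻¹ := h2
      have h5 := mul_right_cancel h4
      exact mul_left_cancel h5
    rw [h3] at hx
    exact hx

include hC in
theorem mem_T_of_comm {t x : G} (ht : t ∈ (T : Subgroup G)) (ot : orderOf t = 2)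
    (hx : x ∈ centralizer ({t} : Set G)) {k : ℕ} (hk : x ^ 2 ^ k = 1) : x ∈ (T : Subgroup G) :=
  mem_of_normalizer T hk (cent_le_normalizer T hC ht ot hx)

theorem involution_mem_T {x : G} (hx : orderOf x = 2)
    (hN : x ∈ normalizer ((T : Subgroup G) : Set G)) : x ∈ (T : Subgroup G) :=
  mem_of_normalizer (k := 1) T (by rw [pow_one, ← hx]; exact pow_orderOf_eq_one x) hN

theorem orderOf_conj_two {x g : G} (hx : orderOf x = 2) : orderOf (g * x * g⁻¹) = 2 := by
  have : g * x * g⁻¹ = MulAut.conj g x := rfl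
  rw [this, MulEquiv.orderOf_eq, hx]

include hC in
theorem mem_normalizer_of_conj {x g : G} (hx : orderOf x = 2) (hxT : x ∈ (T : Subgroup G))
    (hg : g * x * g⁻¹ ∈ (T : Subgroup G)) : g ∈ normalizer ((T : Subgroup G) : Set G) := by
  have h1 : ∀ y ∈ (T : Subgroup G), g * y * g⁻¹ ∈ (T : Subgroup G) := by
    intro y hy
    obtain ⟨k, hk⟩ := exists_pow_of_mem T hy
    apply mem_T_of_comm T hC hg (orderOf_conj_two hx) (k := k)
    · rw [mem_centralizer_singleton_iff]
      calc g * y * g⁻¹ * (g * x * g⁻¹) = g * (y * x) * g⁻¹ := by group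
        _ = g * (x * y) * g⁻¹ := by rw [T_comm T hC hy hxT]
        _ = g * x * g⁻¹ * (g * y * g⁻¹) := by group
    · have h2 : g * y * g⁻¹ = MulAut.conj g y := rfl
      rw [h2, ← map_pow, hk, map_one]
  have h2 : (T : Subgroup G).map (MulAut.conj g).toMonoidHom ≤ T := by
    rintro _ ⟨y, hy, rfl⟩
    exact h1 y hy
  have h3 : (T : Subgroup G).map (MulAut.conj g).toMonoidHom = T := by
    apply Subgroup.eq_of_le_of_card_ge h2
    rw [Subgroup.card_map_of_injective (MulAut.conj g).injective]
  rw [Subgroup.mem_normalizer_iff]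
  intro y
  constructor
  · exact h1 y
  · intro hy
    have h4 : g * y * g⁻¹ ∈ (T : Subgroup G).map (MulAut.conj g).toMonoidHom := by rw [h3]; exact hy
    obtain ⟨z, hz, hzy⟩ := h4
    have h5 : z = y := (MulAut.conj g).injective hzy
    rw [← h5]; exact hz

theorem T_ne_bot (hnc : ¬ IsCyclic (T : Subgroup G)) : (T : Subgroup G) ≠ ⊥ := by
  intro h
  apply hnc
  have : Subsingleton (T : Subgroup G) := by
    rw [h]; infer_instance
  infer_instance

include hC in
theorem stronglyEmbedded (hT : (T : Subgroup G) ≠ ⊥) (hnn : ¬ (T : Subgroup G).Normal) :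
    Cfsg.IsStronglyEmbedded (normalizer ((T : Subgroup G) : Set G)) := by
  have : Fact (Nat.Prime 2) := ⟨Nat.prime_two⟩
  apply of_fix
  · intro h
    exact hnn (Subgroup.normalizer_eq_top_iff.mp h)
  · obtain ⟨z, hz, ho, _⟩ := exists_central_involution T hT
    exact StrongEmb.even_card_of_mem (Subgroup.le_normalizer hz) ho
  · intro x g hx hxN hg
    exact mem_normalizer_of_conj T hC hx (involution_mem_T T hx hxN)
      (involution_mem_T T (orderOf_conj_two hx) hg)

end general

end Cfsg.Agent.Lib.InvCentAb
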