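import Mathlib

/-!
# 2-groups with an involutory automorphism whose fixed points are permuted transitively by a commuting automorphism

Basic data, and passage to the quotient by the fixed points. (helper33)
-/

set_option autoImplicit false
set_option linter.unusedSectionVars false
set_option linter.unusedVariables false

namespace Cfsg.Agent.Lib.InvU3

universe u

open Subgroup

/-- an involutory automorphism of a non-trivial 2-group fixes a non-trivial central element -/
theorem exists_fixed {P : Type u} [Group P] [Finite P] (hP : IsPGroup 2 P) (hn : Nontrivial P) (α : P ≃* P)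
    (haa : ∀ x, α (α x) = x) : ∃ z ∈ center P, z ≠ 1 ∧ α z = z := by
  haveI : Fact (Nat.Prime 2) := ⟨Nat.prime_two⟩
  haveI := hP.center_nontrivial
  have hPc : IsPGroup 2 (center P) := hP.to_subgroup _
  have h2 : 2 ∣ Nat.card (center P) := by
    obtain ⟨n, hn⟩ := IsPGroup.iff_card.mp hPc
    have h1 : 1 < Nat.card (center P) := Finite.one_lt_card
    rcases n with _ | n
    · rw [hn] at h1; norm_num at h1
    · rw [hn, pow_succ]; exact Dvd.intro_left _ rfl
  obtain ⟨⟨c, hc⟩, hc2⟩ := exists_prime_orderOf_dvd_card' 2 h2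
  have hc2' : orderOf c = 2 := by rw [← hc2]; exact (Subgroup.orderOf_mk c hc).symm
  have hcc : c * c = 1 := by rw [← pow_two, ← hc2']; exact pow_orderOf_eq_one c
  have hc1 : c ≠ 1 := by rintro rfl; simp at hc2'
  by_cases h : α c = c
  · exact ⟨c, hc, hc1, h⟩
  · have hcomm : ∀ y, y * c = c * y := fun y => (mem_center_iff.1 hc y)
    have hac : α c ∈ center P := by
      rw [mem_center_iff]
      intro y
      have h1 := congrArg α (hcomm (α.symm y))
      rw [map_mul, map_mul, MulEquiv.apply_symm_apply] at h1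
      exact h1
    refine ⟨c * α c, mul_mem hc hac, ?_, ?_⟩
    · intro h1
      apply h
      have h2 : α c = c⁻¹ := (eq_inv_of_mul_eq_one_right h1)
      rw [h2]
      exact inv_eq_of_mul_eq_one_left hcc
    · rw [map_mul, haa]
      exact hcomm (α c)

variable {K : Type} [Field K]

/-- the data: an involutory automorphism `α`, a commuting automorphism `ρ`, and the fixed points of `α`
parametrised by the field `K`, on which `ρ` is multiplication by a generator `lam`. -/
structure D (lam : K) (Q : Type u) [Group Q] (α ρ : Q ≃* Q) (ι : K → Q) : Prop where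
  p2 : IsPGroup 2 Q
  aa : ∀ x, α (α x) = x
  ar : ∀ x, α (ρ x) = ρ (α x)
  add : ∀ a b, ι (a + b) = ι a * ι b
  inj : ∀ a, ι a = 1 → a = 0
  fix : ∀ x, α x = x ↔ ∃ a, ι a = x
  rho : ∀ a, ρ (ι a) = ι (lam * a)
  gen : ∀ a : K, a ≠ 0 → ∃ k : ℕ, lam ^ k = a

variable [CharP K 2] {lam : K} {Q : Type u} [Group Q] {α ρ : Q ≃* Q} {ι : K → Q}

namespace D

variable (h : D lam Q α ρ ι)

include h

theorem zero : ι 0 = 1 := by
  have h1 := h.add 0 0
  rw [add_zero] at h1
  exact (left_eq_mul.mp h1)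

theorem sq (a : K) : ι a * ι a = 1 := by
  rw [← h.add, CharTwo.add_self_eq_zero, h.zero]

theorem inv (a : K) : (ι a)⁻¹ = ι a := inv_eq_of_mul_eq_one_left (h.sq a)

theorem inj' {a b : K} (hab : ι a = ι b) : a = b := by
  have h1 : ι (a + b) = 1 := by rw [h.add, hab, h.sq]
  have h2 := h.inj _ h1
  rw [CharTwo.add_eq_zero] at h2
  exact h2

theorem fixι (a : K) : α (ι a) = ι a := (h.fix _).2 ⟨a, rfl⟩

theorem rho_iter (k : ℕ) (a : K) : (ρ : Q → Q)^[k] (ι a) = ι (lam ^ k * a) := by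
  induction k with
  | zero => simp
  | succ k ih => rw [Function.iterate_succ_apply', ih, h.rho, pow_succ]; congr 1; ring

theorem exists_iter {a b : K} (ha : a ≠ 0) (hb : b ≠ 0) : ∃ k : ℕ, (ρ : Q → Q)^[k] (ι a) = ι b := by
  obtain ⟨k, hk⟩ := h.gen (b / a) (div_ne_zero hb ha)
  exact ⟨k, by rw [h.rho_iter, hk, div_mul_cancel₀ _ ha]⟩

variable [Finite Q]

omit [CharP K 2] in
theorem nontriv : Nontrivial Q := ⟨ι 1, 1, fun h1 => one_ne_zero (h.inj _ h1)⟩

theorem central (a : K) : ι a ∈ center Q := by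
  by_cases ha : a = 0
  · rw [ha, h.zero]; exact one_mem _
  obtain ⟨z, hz, hz1, hzα⟩ := exists_fixed h.p2 h.nontriv α h.aa
  obtain ⟨b, rfl⟩ := (h.fix z).1 hzα
  have hb : b ≠ 0 := by rintro rfl; exact hz1 h.zero
  obtain ⟨k, hk⟩ := h.exists_iter hb ha
  rw [← hk]
  clear hk ha
  induction k with
  | zero => exact hz
  | succ k ih =>
    rw [Function.iterate_succ_apply', mem_center_iff]
    intro y
    have h1 := congrArg ρ (mem_center_iff.1 ih (ρ.symm y))
    rw [map_mul, map_mul, MulEquiv.apply_symm_apply] at h1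
    exact h1

theorem comm (a : K) (x : Q) : x * ι a = ι a * x := mem_center_iff.1 (h.central a) x

end D

/-- the fixed points -/
def Fx (α : Q ≃* Q) : Subgroup Q where
  carrier := {x | α x = x}
  mul_mem' := by
    intro a b ha hb
    show α (a * b) = a * b
    rw [map_mul, ha, hb]
  one_mem' := map_one α
  inv_mem' := by
    intro a ha
    show α a⁻¹ = a⁻¹
    rw [map_inv, ha]

theorem mem_Fx {α : Q ≃* Q} {x : Q} : x ∈ Fx α ↔ α x = x := Iff.rfl

namespace D

variable [Finite Q] (h : D lam Q α ρ ι)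

include h

theorem Fx_le : Fx α ≤ center Q := by
  intro x hx
  obtain ⟨a, rfl⟩ := (h.fix x).1 hx
  exact h.central a

theorem Fx_normal : (Fx α).Normal := by
  constructor
  intro x hx g
  have h1 := mem_center_iff.1 (h.Fx_le hx) g
  rw [h1, mul_assoc, mul_inv_cancel, mul_one]
  exact hx

omit [CharP K 2] [Finite Q] in
theorem map_alpha : (Fx α).map (α : Q →* Q) = Fx α := by
  ext x
  constructor
  · rintro ⟨y, hy, rfl⟩
    show α (α y) = α y
    rw [show α y = y from hy]; exact hy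
  · intro hx
    exact ⟨x, hx, hx⟩

omit [CharP K 2] [Finite Q] in
theorem map_rho : (Fx α).map (ρ : Q →* Q) = Fx α := by
  ext x
  constructor
  · rintro ⟨y, hy, rfl⟩
    show α (ρ y) = ρ y
    rw [h.ar, show α y = y from hy]
  · intro hx
    refine ⟨ρ.symm x, ?_, ρ.apply_symm_apply x⟩
    show α (ρ.symm x) = ρ.symm x
    apply ρ.injective
    rw [← h.ar, ρ.apply_symm_apply]
    exact hx

theorem delta_mul (x y : Q) (a b : K) (hx : x⁻¹ * α x = ι a) (hy : y⁻¹ * α y = ι b) :
    (x * y)⁻¹ * α (x * y) = ι (a + b) := by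
  have h1 : α x = x * ι a := by rw [← hx]; group
  have h2 : α y = y * ι b := by rw [← hy]; group
  rw [map_mul, h1, h2, h.add, mul_inv_rev]
  have h3 := h.comm a y
  calc y⁻¹ * x⁻¹ * (x * ι a * (y * ι b)) = y⁻¹ * (ι a * y) * ι b := by group
    _ = ι a * ι b := by rw [← h3]; group

theorem delta_rho (x : Q) (a : K) (hx : x⁻¹ * α x = ι a) : (ρ x)⁻¹ * α (ρ x) = ι (lam * a) := by
  rw [h.ar, ← map_inv, ← map_mul, hx, h.rho]

end D

/-- the quotient data -/
theorem D.quot [Finite Q] (h : D lam Q α ρ ι) (hne : ∃ x, α x ≠ x) :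
    ∃ (hN : (Fx α).Normal) (α' ρ' : (Q ⧸ Fx α) ≃* (Q ⧸ Fx α)) (ι' : K → Q ⧸ Fx α),
      (∀ x : Q, α' (QuotientGroup.mk x) = QuotientGroup.mk (α x)) ∧
      (∀ x : Q, ρ' (QuotientGroup.mk x) = QuotientGroup.mk (ρ x)) ∧
      (∀ (a : K) (y : Q), ι' a = QuotientGroup.mk y ↔ y⁻¹ * α y = ι a) ∧
      D lam (Q ⧸ Fx α) α' ρ' ι' := by
  have hN := h.Fx_normal
  let α' : (Q ⧸ Fx α) ≃* (Q ⧸ Fx α) := QuotientGroup.congr (Fx α) (Fx α) α h.map_alpha
  let ρ' : (Q ⧸ Fx α) ≃* (Q ⧸ Fx α) := QuotientGroup.congr (Fx α) (Fx α) ρ h.map_rho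
  have hα' : ∀ x : Q, α' (QuotientGroup.mk x) = QuotientGroup.mk (α x) := fun x => rfl
  have hρ' : ∀ x : Q, ρ' (QuotientGroup.mk x) = QuotientGroup.mk (ρ x) := fun x => rfl
  have hp : IsPGroup 2 (Q ⧸ Fx α) := h.p2.to_quotient _
  have hnt : Nontrivial (Q ⧸ Fx α) := by
    obtain ⟨x, hx⟩ := hne
    refine ⟨QuotientGroup.mk x, 1, ?_⟩
    intro h1
    exact hx ((QuotientGroup.eq_one_iff x).1 h1)
  have haa' : ∀ x, α' (α' x) = x := by
    intro x
    obtain ⟨y, rfl⟩ := QuotientGroup.mk_surjective x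
    rw [hα', hα', h.aa]
  obtain ⟨z, -, hz1, hz⟩ := exists_fixed hp hnt α' haa'
  obtain ⟨y₀, rfl⟩ := QuotientGroup.mk_surjective z
  have hfixiff : ∀ x : Q, α' (QuotientGroup.mk x) = QuotientGroup.mk x ↔ ∃ a, x⁻¹ * α x = ι a := by
    intro x
    rw [hα', eq_comm, QuotientGroup.eq, mem_Fx, h.fix]
    constructor
    · rintro ⟨a, ha⟩; exact ⟨a, ha.symm⟩
    · rintro ⟨a, ha⟩; exact ⟨a, ha.symm⟩
  obtain ⟨a₀, ha₀⟩ := (hfixiff y₀).1 hz
  have ha₀0 : a₀ ≠ 0 := by
    rintro rfl
    rw [h.zero, inv_mul_eq_one] at ha₀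
    exact hz1 ((QuotientGroup.eq_one_iff y₀).2 ha₀.symm)
  have hex : ∀ a : K, ∃ y : Q, y⁻¹ * α y = ι a := by
    intro a
    by_cases ha : a = 0
    · exact ⟨1, by rw [ha, h.zero]; simp⟩
    · obtain ⟨k, hk⟩ := h.gen (a / a₀) (div_ne_zero ha ha₀0)
      have key : ∀ j : ℕ, ((ρ : Q → Q)^[j] y₀)⁻¹ * α ((ρ : Q → Q)^[j] y₀) = ι (lam ^ j * a₀) := by
        intro j
        induction j with
        | zero => simpa using ha₀
        | succ j ih =>
          rw [Function.iterate_succ_apply', h.delta_rho _ _ ih, pow_succ]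
          congr 1; ring
      refine ⟨(ρ : Q → Q)^[k] y₀, ?_⟩
      rw [key, hk, div_mul_cancel₀ _ ha₀0]
  choose y hy using hex
  have heq : ∀ u v : Q, u⁻¹ * α u = v⁻¹ * α v → (QuotientGroup.mk u : Q ⧸ Fx α) = QuotientGroup.mk v := by
    intro u v huv
    have h1 : u * v⁻¹ ∈ Fx α := by
      have h2 : α u = u * (v⁻¹ * α v) := by rw [← huv]; group
      show α (u * v⁻¹) = u * v⁻¹
      rw [map_mul, map_inv, h2]; group
    have h2 := hN.conj_mem _ h1 u⁻¹
    rw [QuotientGroup.eq]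
    have h3 : u⁻¹ * v = (u⁻¹ * (u * v⁻¹) * u⁻¹⁻¹)⁻¹ := by group
    rw [h3]
    exact inv_mem h2
  have hι' : ∀ (a : K) (w : Q), (QuotientGroup.mk (y a) : Q ⧸ Fx α) = QuotientGroup.mk w ↔ w⁻¹ * α w = ι a := by
    intro a w
    constructor
    · intro h1
      rw [QuotientGroup.eq, mem_Fx] at h1
      have h2 : (y a)⁻¹ * w ∈ center Q := h.Fx_le h1
      have h3 := mem_center_iff.1 h2
      have h4 : w = y a * ((y a)⁻¹ * w) := by group
      have h5 : α w = α (y a) * ((y a)⁻¹ * w) := by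
        conv_lhs => rw [h4]
        rw [map_mul, h1]
      rw [h5]
      have h6 := h3 (w⁻¹ * α (y a))
      rw [← mul_assoc, h6, ← hy a]; group
    · intro h1
      exact heq _ _ ((hy a).trans h1.symm)
  refine ⟨hN, α', ρ', fun a => QuotientGroup.mk (y a), hα', hρ', hι', ?_⟩
  refine { p2 := hp, aa := haa', ar := ?_, add := ?_, inj := ?_, fix := ?_, rho := ?_, gen := h.gen }
  · intro x
    obtain ⟨w, rfl⟩ := QuotientGroup.mk_surjective x
    rw [hρ', hα', hα', hρ', h.ar]
  · intro a b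
    rw [← QuotientGroup.mk_mul, hι']
    exact h.delta_mul _ _ _ _ (hy a) (hy b)
  · intro a ha
    have h1 : (QuotientGroup.mk (y a) : Q ⧸ Fx α) = QuotientGroup.mk 1 := ha
    rw [hι'] at h1
    simp only [inv_one, map_one, mul_one] at h1
    exact h.inj a h1.symm
  · intro x
    obtain ⟨w, rfl⟩ := QuotientGroup.mk_surjective x
    rw [hfixiff]
    constructor
    · rintro ⟨a, ha⟩; exact ⟨a, (hι' a w).2 ha⟩
    · rintro ⟨a, ha⟩; exact ⟨a, (hι' a w).1 ha⟩
  · intro a
    show ρ' (QuotientGroup.mk (y a)) = _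
    rw [hρ']
    symm
    rw [hι']
    exact h.delta_rho _ _ (hy a)

end Cfsg.Agent.Lib.InvU3
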