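import Cfsg.Agent.Lib.InvU3a

/-!
Bilinear maps on a field of characteristic two compatible with scalars; the abelian case. (helper33)
-/

set_option autoImplicit false
set_option linter.unusedSectionVars false
set_option linter.unusedVariables false

namespace Cfsg.Agent.Lib.InvU3

universe u

open Subgroup

variable {K : Type} [Field K] [CharP K 2]

/-- a biadditive map `B` with `B (c a) (c b) = c B a b` satisfies `B a b ^ 2 = a b B 1 1 ^ 2` -/
theorem bil_sq [Finite K] {lam : K} (gen : ∀ a : K, a ≠ 0 → ∃ k : ℕ, lam ^ k = a) (B : K → K → K)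
    (hl : ∀ a b c, B (a + b) c = B a c + B b c) (hr : ∀ a b c, B a (b + c) = B a b + B a c)
    (hs : ∀ a b, B (lam * a) (lam * b) = lam * B a b) (a b : K) :
    B a b ^ 2 = a * b * B 1 1 ^ 2 := by
  have hl0 : ∀ b, B 0 b = 0 := by
    intro b
    have h1 := hl 0 0 b
    rw [add_zero] at h1
    exact (left_eq_add.mp h1)
  have hr0 : ∀ b, B b 0 = 0 := by
    intro b
    have h1 := hr b 0 0
    rw [add_zero] at h1
    exact (left_eq_add.mp h1)
  have hscal : ∀ c a b, B (c * a) (c * b) = c * B a b := by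
    intro c a b
    by_cases hc : c = 0
    · rw [hc]; simp [hl0]
    obtain ⟨k, rfl⟩ := gen c hc
    clear hc
    induction k generalizing a b with
    | zero => simp
    | succ k ih =>
      have h1 : lam ^ (k + 1) * a = lam ^ k * (lam * a) := by ring
      have h2 : lam ^ (k + 1) * b = lam ^ k * (lam * b) := by ring
      rw [h1, h2, ih, hs]; ring
  have hg : ∀ t, B 1 (t ^ 2) = t * B 1 1 := by
    intro t
    by_cases ht0 : t = 0
    · rw [ht0]; simp [hr0]
    by_cases ht1 : t = 1
    · rw [ht1]; simp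
    have ht2 : 1 + t ≠ 0 := by
      intro h0
      rw [CharTwo.add_eq_zero] at h0
      exact ht1 h0.symm
    have htt : t + t = 0 := CharTwo.add_self_eq_zero t
    have e1 : B 1 (t * (1 + t)) = B t (t * (1 + t)) + B (1 + t) (t * (1 + t)) := by
      rw [← hl]
      congr 1
      rw [add_comm 1 t, ← add_assoc, htt, zero_add]
    have e2 : B t (t * (1 + t)) = t * B 1 (1 + t) := by
      have := hscal t 1 (1 + t)
      rwa [mul_one] at this
    have e3 : B (1 + t) (t * (1 + t)) = (1 + t) * B 1 t := by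
      have := hscal (1 + t) 1 t
      rwa [mul_one, mul_comm (1 + t) t] at this
    rw [e2, e3] at e1
    have e4 : t * (1 + t) = t + t ^ 2 := by ring
    rw [e4, hr, hr] at e1
    have e5 : t * (B 1 1 + B 1 t) + (1 + t) * B 1 t = t * B 1 1 + B 1 t + (t + t) * B 1 t := by ring
    rw [e5, htt, zero_mul, add_zero] at e1
    have e6 : B 1 t + B 1 (t ^ 2) = B 1 t + t * B 1 1 := by rw [e1]; ring
    exact add_left_cancel e6
  by_cases ha : a = 0
  · rw [ha, hl0]; ring
  have e1 : B a b = a * B 1 (b / a) := by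
    have := hscal a 1 (b / a)
    rwa [mul_one, mul_div_cancel₀ _ ha] at this
  obtain ⟨t, ht⟩ : ∃ t : K, t ^ 2 = b / a := by
    have hinj : Function.Injective (fun t : K => t ^ 2) := by
      intro x y hxy
      exact CharTwo.sq_injective hxy
    exact (Finite.injective_iff_surjective.1 hinj) (b / a)
  rw [e1, ← ht, hg]
  have : b = a * t ^ 2 := by rw [ht, mul_div_cancel₀ _ ha]
  rw [this]; ring

/-- the homogeneous maps are linear -/
theorem hom_one {lam : K} (gen : ∀ a : K, a ≠ 0 → ∃ k : ℕ, lam ^ k = a) (s : K → K) (h0 : s 0 = 0)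
    (hs : ∀ a, s (lam * a) = lam * s a) (a : K) : s a = a * s 1 := by
  by_cases ha : a = 0
  · rw [ha, h0, zero_mul]
  obtain ⟨k, rfl⟩ := gen a ha
  clear ha
  induction k with
  | zero => simp
  | succ k ih => rw [pow_succ', hs, ih]; ring

theorem exists_gt_two [Finite K] (h4 : 2 < Nat.card K) : ∃ t : K, t ≠ 0 ∧ t ≠ 1 := by
  by_contra hcon
  push Not at hcon
  have h1 : ∀ t : K, t = 0 ∨ t = 1 := fun t => or_iff_not_imp_left.2 (hcon t)
  haveI := Fintype.ofFinite K
  classical
  have h2 : (Finset.univ : Finset K) ⊆ {0, 1} := by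
    intro t _
    rcases h1 t with h | h
    · rw [h]; simp
    · rw [h]; simp
  have h3 : Nat.card K ≤ 2 := by
    rw [Nat.card_eq_fintype_card, ← Finset.card_univ]
    exact (Finset.card_le_card h2).trans Finset.card_le_two
  omega

variable {lam : K} {Q : Type u} [Group Q] {α ρ : Q ≃* Q} {ι : K → Q}

/-- The bilinear consequence for groups: a biadditive pairing which is alternating and factors through an
equivariant map onto `K` vanishes. -/
theorem pairing_zero [Finite K] (gen : ∀ a : K, a ≠ 0 → ∃ k : ℕ, lam ^ k = a) {G : Type u} [Group G] (ρ : G → G)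
    (f : G → G → K) (τ : G → K) (hfl : ∀ x y z, f (x * y) z = f x z + f y z)
    (hfr : ∀ x y z, f x (y * z) = f x y + f x z) (hfρ : ∀ x y, f (ρ x) (ρ y) = lam * f x y)
    (halt : ∀ x, f x x = 0) (hτ : ∀ x y, τ (x * y) = τ x + τ y) (hτρ : ∀ x, τ (ρ x) = lam * τ x)
    (hτs : ∀ a, ∃ x, τ x = a) (hker : ∀ x y, τ x = 0 → f x y = 0) (x y : G) : f x y = 0 := by
  have hsymm : ∀ x y, f x y = f y x := by
    intro x y
    have h1 := halt (x * y)
    rw [hfl, hfr, hfr, halt, halt, zero_add, add_zero, CharTwo.add_eq_zero] at h1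
    exact h1
  have hτ1 : τ 1 = 0 := by
    have h1 := hτ 1 1
    rw [mul_one] at h1
    exact left_eq_add.mp h1
  have hτi : ∀ x, τ x⁻¹ = τ x := by
    intro x
    have h1 := hτ x⁻¹ x
    rw [inv_mul_cancel, hτ1] at h1
    exact (CharTwo.add_eq_zero.1 h1.symm)
  have hdep : ∀ x x' y, τ x = τ x' → f x y = f x' y := by
    intro x x' y hx
    have h1 : τ (x * x'⁻¹) = 0 := by rw [hτ, hτi, hx, CharTwo.add_self_eq_zero]
    have h2 := hker _ y h1
    have h3 : f x y = f (x * x'⁻¹ * x') y := by rw [inv_mul_cancel_right]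
    rw [h3, hfl, h2, zero_add]
  choose s hs using hτs
  have hB := bil_sq gen (fun a b => f (s a) (s b)) ?_ ?_ ?_ (τ x) (τ y)
  · have h1 : f (s (τ x)) (s (τ y)) = f x y := by
      rw [hdep _ x _ (hs _), hsymm, hdep _ y _ (hs _), hsymm]
    have h2 : f (s (τ x)) (s (τ y)) ^ 2 = 0 := by
      have h3 : f (s (τ x)) (s (τ y)) ^ 2 = τ x * τ y * f (s 1) (s 1) ^ 2 := hB
      rw [h3, halt]; ring
    rw [← h1]
    exact pow_eq_zero_iff (two_ne_zero) |>.1 h2
  · intro a b c
    show f (s (a + b)) (s c) = _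
    rw [hdep (s (a + b)) (s a * s b) _ (by rw [hτ, hs, hs, hs]), hfl]
  · intro a b c
    show f (s a) (s (b + c)) = _
    rw [hsymm, hdep (s (b + c)) (s b * s c) _ (by rw [hτ, hs, hs, hs]), hfl, hsymm, hsymm (s c)]
  · intro a b
    show f (s (lam * a)) (s (lam * b)) = _
    rw [← hfρ, hdep (s (lam * a)) (ρ (s a)) _ (by rw [hτρ, hs, hs]), hsymm,
      hdep (s (lam * b)) (ρ (s b)) _ (by rw [hτρ, hs, hs]), hsymm]

end Cfsg.Agent.Lib.InvU3
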