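import Cfsg.Agent.Lib.InvU3b

/-!
The abelian case. (helper33)
-/

set_option autoImplicit false
set_option linter.unusedSectionVars false
set_option linter.unusedVariables false

namespace Cfsg.Agent.Lib.InvU3

universe u

open Subgroup

variable {K : Type} [Field K] [CharP K 2]
variable {lam : K} {Q : Type u} [Group Q] {α ρ : Q ≃* Q} {ι : K → Q}

/-- `x ↦ x⁻¹ α(x)` for a commutative group -/
def dl (α : Q ≃* Q) (hc : ∀ x y : Q, x * y = y * x) : Q →* Q where
  toFun x := x⁻¹ * α x
  map_one' := by simp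
  map_mul' := by
    intro x y
    rw [map_mul, mul_inv_rev, hc y⁻¹ x⁻¹]
    rw [mul_assoc, mul_assoc, ← mul_assoc y⁻¹, hc y⁻¹ (α x), mul_assoc]

theorem dl_apply (α : Q ≃* Q) (hc : ∀ x y : Q, x * y = y * x) (x : Q) : dl α hc x = x⁻¹ * α x := rfl

/-- squaring -/
def sqh (hc : ∀ x y : Q, x * y = y * x) : Q →* Q where
  toFun x := x * x
  map_one' := by simp
  map_mul' := by
    intro x y
    rw [mul_assoc, ← mul_assoc y x y, hc y x, mul_assoc, mul_assoc]

theorem sqh_apply (hc : ∀ x y : Q, x * y = y * x) (x : Q) : sqh hc x = x * x := rfl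

theorem dl_eq_one (α : Q ≃* Q) (hc : ∀ x y : Q, x * y = y * x) (x : Q) : dl α hc x = 1 ↔ α x = x := by
  rw [dl_apply, inv_mul_eq_one, eq_comm]

variable [Finite Q] [Finite K]

theorem card_eq_mul (h : D lam Q α ρ ι) (hc : ∀ x y : Q, x * y = y * x)
    (hs : ∀ a : K, ∃ u : Q, dl α hc u = ι a) (hall : ∀ x, ∃ a, dl α hc x = ι a) :
    Nat.card Q = Nat.card K * Nat.card K := by
  choose s hs using hs
  rw [← Nat.card_prod]
  symm
  refine Nat.card_congr (Equiv.ofBijective (fun p : K × K => s p.1 * ι p.2) ⟨?_, ?_⟩)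
  · rintro ⟨a, b⟩ ⟨a', b'⟩ hab
    simp only at hab
    have h1 := congrArg (dl α hc) hab
    rw [map_mul, map_mul, hs, hs, (dl_eq_one α hc _).2 (h.fixι b), (dl_eq_one α hc _).2 (h.fixι b'), mul_one,
      mul_one] at h1
    have h2 := h.inj' h1
    subst h2
    have h3 := h.inj' (mul_left_cancel hab)
    rw [h3]
  · intro x
    obtain ⟨a, ha⟩ := hall x
    have h1 : dl α hc ((s a)⁻¹ * x) = 1 := by
      rw [map_mul, map_inv, hs, ha, inv_mul_cancel]
    rw [dl_eq_one, h.fix] at h1
    obtain ⟨b, hb⟩ := h1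
    exact ⟨(a, b), by simp only; rw [hb]; group⟩

theorem abelian_cases (h : D lam Q α ρ ι) (hc : ∀ x y : Q, x * y = y * x) :
    ((∀ x : Q, x * x = 1) ∧ Nat.card Q = Nat.card K * Nat.card K) ∨
      ((∀ x : Q, x * x = 1 → α x = x) ∧ ∃ τ : Q → K, (∀ x y, τ (x * y) = τ x + τ y) ∧ (∀ a, ∃ x, τ x = a) ∧
        (∀ x, τ (ρ x) = lam * τ x) ∧ (∀ x, τ x = 0 → ∃ w, x = w * w)) := by
  have hαd : ∀ x, α (dl α hc x) = (dl α hc x)⁻¹ := by
    intro x
    rw [dl_apply, map_mul, map_inv, h.aa]
    group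
  have hρd : ∀ x, dl α hc (ρ x) = ρ (dl α hc x) := by
    intro x
    rw [dl_apply, dl_apply, h.ar, map_mul, map_inv]
  by_cases hu : ∃ u : Q, u * u = 1 ∧ dl α hc u ≠ 1
  · left
    obtain ⟨u, hu1, hu2⟩ := hu
    have hsqd : ∀ v : Q, v * v = 1 → α (dl α hc v) = dl α hc v := by
      intro v hv
      rw [hαd]
      have h1 : dl α hc v * dl α hc v = 1 := by rw [← map_mul, hv, map_one]
      exact inv_eq_of_mul_eq_one_left h1
    obtain ⟨a₀, ha₀⟩ := (h.fix _).1 (hsqd u hu1)
    have ha₀0 : a₀ ≠ 0 := by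
      rintro rfl
      rw [h.zero] at ha₀
      exact hu2 ha₀.symm
    have hex : ∀ a, ∃ v : Q, v * v = 1 ∧ dl α hc v = ι a := by
      intro a
      by_cases ha : a = 0
      · exact ⟨1, by simp, by rw [ha, h.zero, map_one]⟩
      obtain ⟨k, hk⟩ := h.gen (a / a₀) (div_ne_zero ha ha₀0)
      have key : ∀ j : ℕ, ((ρ : Q → Q)^[j] u) * ((ρ : Q → Q)^[j] u) = 1 ∧
          dl α hc ((ρ : Q → Q)^[j] u) = ι (lam ^ j * a₀) := by
        intro j
        induction j with
        | zero => exact ⟨hu1, by simpa using ha₀.symm⟩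
        | succ j ih =>
          rw [Function.iterate_succ_apply', ← map_mul, ih.1, map_one]
          refine ⟨rfl, ?_⟩
          rw [hρd, ih.2, h.rho, pow_succ]
          congr 1; ring
      obtain ⟨k1, k2⟩ := key k
      exact ⟨_, k1, by rw [k2, hk, div_mul_cancel₀ _ ha₀0]⟩
    have hall : ∀ x : Q, x * x = 1 := by
      by_contra hcon
      push Not at hcon
      obtain ⟨x₀, hx₀⟩ := hcon
      -- an element of order 4
      obtain ⟨x₁, hx₁, hx₁'⟩ : ∃ x₁ : Q, x₁ * x₁ ≠ 1 ∧ (x₁ * x₁) * (x₁ * x₁) = 1 := by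
        obtain ⟨k, hk⟩ := h.p2 x₀
        have key : ∀ k : ℕ, ∀ x : Q, x ^ 2 ^ k = 1 → x * x ≠ 1 → ∃ x₁ : Q, x₁ * x₁ ≠ 1 ∧ (x₁ * x₁) * (x₁ * x₁) = 1 := by
          intro k
          induction k with
          | zero =>
            intro x hx hx1
            rw [pow_zero, pow_one] at hx
            exact absurd (by rw [hx]; simp) hx1
          | succ k ih =>
            intro x hx hx1
            by_cases h4 : (x * x) * (x * x) = 1
            · exact ⟨x, hx1, h4⟩
            · apply ih (x * x) _ h4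
              rw [← pow_two, ← pow_mul, ← pow_succ']
              exact hx
        exact key k x₀ hk hx₀
      obtain ⟨x₂, e, he1, hx₂, hefix⟩ : ∃ x₂ e : Q, e ≠ 1 ∧ x₂ * x₂ = e ∧ α e = e := by
        by_cases h5 : dl α hc (x₁ * x₁) = 1
        · exact ⟨x₁, _, hx₁, rfl, (dl_eq_one α hc _).1 h5⟩
        · refine ⟨dl α hc x₁, _, h5, ?_, hsqd _ hx₁'⟩
          rw [map_mul]
      have h6 : α (x₂ * α x₂) = x₂ * α x₂ := by
        rw [map_mul, h.aa, hc]
      have h7 : dl α hc x₂ = (x₂ * x₂)⁻¹ * (x₂ * α x₂) := by rw [dl_apply]; group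
      have h8 : α (dl α hc x₂) = dl α hc x₂ := by
        rw [h7, map_mul, map_inv, h6, hx₂, hefix]
      obtain ⟨b, hb⟩ := (h.fix _).1 h8
      obtain ⟨v, hv1, hv2⟩ := hex b
      have h9 : dl α hc (x₂ * v⁻¹) = 1 := by
        rw [map_mul, map_inv, hv2, hb, mul_inv_cancel]
      rw [dl_eq_one, h.fix] at h9
      obtain ⟨c, hc'⟩ := h9
      have h10 := h.sq c
      rw [hc'] at h10
      have h11 : (x₂ * v⁻¹) * (x₂ * v⁻¹) = (x₂ * x₂) * (v * v)⁻¹ := by
        have := map_mul (sqh hc) x₂ v⁻¹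
        simp only [sqh_apply] at this
        rw [this]; group
      rw [h11, hv1, inv_one, mul_one, hx₂] at h10
      exact he1 h10
    refine ⟨hall, card_eq_mul h hc (fun a => ?_) (fun x => ?_)⟩
    · obtain ⟨v, -, hv⟩ := hex a
      exact ⟨v, hv⟩
    · obtain ⟨a, ha⟩ := (h.fix _).1 (hsqd x (hall x))
      exact ⟨a, ha.symm⟩
  · right
    push Not at hu
    have hu' : ∀ x : Q, x * x = 1 → α x = x := fun x hx => (dl_eq_one α hc x).1 (hu x hx)
    refine ⟨hu', ?_⟩
    have hdd : ∀ x, dl α hc (dl α hc x) = (dl α hc x) ^ (-2 : ℤ) := by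
      intro x
      rw [dl_apply α hc (dl α hc x), hαd]
      rw [zpow_neg, zpow_ofNat, pow_two, mul_inv_rev]
    have hit : ∀ (j : ℕ) (x : Q), (dl α hc)^[j + 1] x = (dl α hc x) ^ ((-2 : ℤ) ^ j) := by
      intro j
      induction j with
      | zero => intro x; simp
      | succ j ih =>
        intro x
        rw [Function.iterate_succ_apply', ih, map_zpow, hdd, ← zpow_mul, pow_succ']
    obtain ⟨e, he⟩ := IsPGroup.iff_card.mp h.p2
    have hnil : ∃ M : ℕ, ∀ x : Q, (dl α hc)^[M] x = 1 := by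
      refine ⟨e + 1, fun x => ?_⟩
      rw [hit]
      have h1 : ((-2 : ℤ)) ^ e = (2 ^ e : ℕ) * (-1) ^ e := by
        push_cast
        rw [← mul_pow]; norm_num
      rw [h1, zpow_mul, zpow_natCast, ← he, pow_card_eq_one', one_zpow]
    classical
    obtain ⟨m, hm1, hm2⟩ : ∃ m : ℕ, (∀ x : Q, (dl α hc)^[m + 1] x = 1) ∧ ∃ x : Q, (dl α hc)^[m] x ≠ 1 := by
      have h1 := Nat.find_spec hnil
      rcases hM : Nat.find hnil with _ | m
      · rw [hM] at h1
        exact absurd (h1 (ι 1)) (by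
          simp only [Function.iterate_zero, id_eq]
          intro h2
          exact one_ne_zero (h.inj _ h2))
      · rw [hM] at h1
        refine ⟨m, h1, ?_⟩
        have h2 := Nat.find_min hnil (m := m) (by omega)
        push Not at h2
        exact h2
    have hfx : ∀ x : Q, ∃ a, ι a = (dl α hc)^[m] x := by
      intro x
      have h1 := hm1 x
      rw [Function.iterate_succ_apply', dl_eq_one, h.fix] at h1
      exact h1
    choose τ hτ using hfx
    have hmul : ∀ (j : ℕ) (x y : Q), (dl α hc)^[j] (x * y) = (dl α hc)^[j] x * (dl α hc)^[j] y := by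
      intro j x y
      exact iterate_map_mul (dl α hc) j x y
    have hρi : ∀ (j : ℕ) (x : Q), (dl α hc)^[j] (ρ x) = ρ ((dl α hc)^[j] x) := by
      intro j
      induction j with
      | zero => intro x; rfl
      | succ j ih => intro x; rw [Function.iterate_succ_apply', Function.iterate_succ_apply', ih, hρd]
    have hτmul : ∀ x y, τ (x * y) = τ x + τ y := by
      intro x y
      apply h.inj'
      rw [hτ, hmul, h.add, hτ, hτ]
    have hτρ : ∀ x, τ (ρ x) = lam * τ x := by
      intro x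
      apply h.inj'
      rw [hτ, hρi, ← hτ, h.rho]
    have hτs : ∀ a, ∃ x, τ x = a := by
      intro a
      have hτ1 : τ 1 = 0 := by
        have h1 := hτmul 1 1
        rw [mul_one] at h1
        exact left_eq_add.mp h1
      by_cases ha : a = 0
      · exact ⟨1, by rw [ha, hτ1]⟩
      obtain ⟨x₀, hx₀⟩ := hm2
      have h1 : τ x₀ ≠ 0 := by
        intro h1
        rw [← hτ, h1, h.zero] at hx₀
        exact hx₀ rfl
      obtain ⟨k, hk⟩ := h.gen (a / τ x₀) (div_ne_zero ha h1)
      refine ⟨(ρ : Q → Q)^[k] x₀, ?_⟩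
      have key : ∀ j : ℕ, τ ((ρ : Q → Q)^[j] x₀) = lam ^ j * τ x₀ := by
        intro j
        induction j with
        | zero => simp
        | succ j ih => rw [Function.iterate_succ_apply', hτρ, ih, pow_succ]; ring
      rw [key, hk, div_mul_cancel₀ _ h1]
    refine ⟨τ, hτmul, hτs, hτρ, ?_⟩
    -- counting
    let T : Q →* Multiplicative K :=
      { toFun := fun x => Multiplicative.ofAdd (τ x)
        map_one' := by
          have h1 := hτmul 1 1
          rw [mul_one] at h1
          have h2 : τ 1 = 0 := left_eq_add.mp h1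
          show Multiplicative.ofAdd (τ 1) = 1
          rw [h2]; rfl
        map_mul' := fun x y => by
          show Multiplicative.ofAdd (τ (x * y)) = _
          rw [hτmul]; rfl }
    have hTmem : ∀ x, x ∈ T.ker ↔ τ x = 0 := by
      intro x
      rw [MonoidHom.mem_ker]
      constructor
      · intro h1
        have h2 : Multiplicative.ofAdd (τ x) = Multiplicative.ofAdd 0 := h1
        exact Multiplicative.ofAdd.injective h2
      · intro h1
        show Multiplicative.ofAdd (τ x) = 1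
        rw [h1]; rfl
    have hTr : T.range = ⊤ := by
      rw [MonoidHom.range_eq_top]
      intro a
      obtain ⟨x, hx⟩ := hτs (Multiplicative.toAdd a)
      exact ⟨x, by show Multiplicative.ofAdd (τ x) = a; rw [hx]; rfl⟩
    have hc1 : Nat.card T.ker * Nat.card K = Nat.card Q := by
      have h1 := Subgroup.card_mul_index T.ker
      rw [Subgroup.index_ker, hTr, Subgroup.card_top] at h1
      exact h1
    have hc2 : Nat.card (sqh hc).ker * Nat.card (sqh hc).range = Nat.card Q := by
      have h1 := Subgroup.card_mul_index (sqh hc).ker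
      rw [Subgroup.index_ker] at h1
      exact h1
    have hc3 : Nat.card (sqh hc).ker = Nat.card K := by
      symm
      refine Nat.card_congr (Equiv.ofBijective (fun a : K => (⟨ι a, ?_⟩ : (sqh hc).ker)) ⟨?_, ?_⟩)
      · rw [MonoidHom.mem_ker, sqh_apply]; exact h.sq a
      · intro a b hab
        exact h.inj' (congrArg Subtype.val hab)
      · rintro ⟨x, hx⟩
        rw [MonoidHom.mem_ker, sqh_apply] at hx
        obtain ⟨a, ha⟩ := (h.fix x).1 (hu' x hx)
        exact ⟨a, Subtype.ext ha⟩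
    have hle : (sqh hc).range ≤ T.ker := by
      rintro _ ⟨w, rfl⟩
      rw [hTmem, sqh_apply, hτmul, CharTwo.add_self_eq_zero]
    have hKpos : 0 < Nat.card K := Nat.card_pos
    have heq : (sqh hc).range = T.ker := by
      apply Subgroup.eq_of_le_of_card_ge hle
      rw [hc3] at hc2
      have h1 : Nat.card T.ker * Nat.card K = Nat.card (sqh hc).range * Nat.card K := by
        rw [hc1, ← hc2, mul_comm]
      exact (Nat.eq_of_mul_eq_mul_right hKpos h1).le
    intro x hx
    have h1 : x ∈ (sqh hc).range := by rw [heq, hTmem]; exact hx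
    obtain ⟨w, hw⟩ := h1
    exact ⟨w, hw.symm⟩

end Cfsg.Agent.Lib.InvU3
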