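import Cfsg.Agent.Lib.InvU3c

/-!
The structure of the non-abelian case of order `q³`. (helper33)
-/

set_option autoImplicit false
set_option linter.unusedSectionVars false
set_option linter.unusedVariables false

namespace Cfsg.Agent.Lib.InvU3

universe u

open Subgroup

variable {K : Type} [Field K] [CharP K 2]
variable {lam : K} {Q : Type u} [Group Q] {α ρ : Q ≃* Q} {ι : K → Q}

/-- the commutator of `x` and `y` is `ι c` -/
def Cm (ι : K → Q) (x y : Q) (c : K) : Prop := x * y = y * x * ι c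

namespace D

variable (h : D lam Q α ρ ι)

include h

theorem cm_uniq {x y : Q} {c d : K} (h1 : Cm ι x y c) (h2 : Cm ι x y d) : c = d := by
  unfold Cm at h1 h2
  rw [h1] at h2
  exact h.inj' (mul_left_cancel h2)

theorem cm_self (x : Q) : Cm ι x x 0 := by
  unfold Cm; rw [h.zero, mul_one]

variable [Finite Q]

theorem cm_symm {x y : Q} {c : K} (h1 : Cm ι x y c) : Cm ι y x c := by
  unfold Cm at *
  rw [h1, mul_assoc, h.sq, mul_one]

theorem cm_mul {x y z : Q} {c d : K} (h1 : Cm ι x z c) (h2 : Cm ι y z d) : Cm ι (x * y) z (c + d) := by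
  unfold Cm at *
  have h3 := h.comm c y
  calc x * y * z = x * (y * z) := by group
    _ = (x * z) * y * ι d := by rw [h2]; group
    _ = z * x * (ι c * y) * ι d := by rw [h1]; group
    _ = z * (x * y) * ι (c + d) := by rw [← h3, h.add]; group

theorem cm_mul_right {x y z : Q} {c d : K} (h1 : Cm ι z x c) (h2 : Cm ι z y d) : Cm ι z (x * y) (c + d) :=
  h.cm_symm (h.cm_mul (h.cm_symm h1) (h.cm_symm h2))

theorem cm_rho {x y : Q} {c : K} (h1 : Cm ι x y c) : Cm ι (ρ x) (ρ y) (lam * c) := by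
  unfold Cm at *
  rw [← map_mul, h1, map_mul, map_mul, h.rho]

theorem cm_iota (a : K) (x : Q) : Cm ι (ι a) x 0 := by
  unfold Cm
  rw [h.zero, mul_one, h.comm]

theorem cm_sq {w z : Q} {c : K} (h1 : Cm ι w z c) : Cm ι (w * w) z 0 := by
  have h2 := h.cm_mul h1 h1
  rwa [CharTwo.add_self_eq_zero] at h2

theorem comm_of_cm {x y : Q} (h1 : Cm ι x y 0) : x * y = y * x := by
  unfold Cm at h1
  rw [h1, h.zero, mul_one]

end D

/-- non-abelian of order `q³` with squares in the fixed points -/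
def NA (ι : K → Q) : Prop :=
  (∃ x y : Q, x * y ≠ y * x) ∧ (∀ x : Q, ∃ s, x * x = ι s) ∧ Nat.card Q = Nat.card K ^ 3

variable [Finite Q] [Finite K]

theorem card_Fx (h : D lam Q α ρ ι) : Nat.card (Fx α) = Nat.card K := by
  symm
  refine Nat.card_congr (Equiv.ofBijective (fun a : K => (⟨ι a, h.fixι a⟩ : Fx α)) ⟨?_, ?_⟩)
  · intro a b hab
    exact h.inj' (congrArg Subtype.val hab)
  · rintro ⟨x, hx⟩
    obtain ⟨a, ha⟩ := (h.fix x).1 hx
    exact ⟨a, Subtype.ext ha⟩

/-- the structure in the non-abelian case -/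
theorem na_struct (h : D lam Q α ρ ι) (hna : NA ι) :
    ∃ (a b : Q → K) (C : K), C ≠ 0 ∧ (∀ x y, a (x * y) = a x + a y) ∧ (∀ t, ∃ x, a x = t) ∧
      (∀ x, a (ρ x) = lam * a x) ∧ (∀ y, a y = 0 → y⁻¹ * α y = ι (b y)) ∧
      (∀ t, ∃ y, a y = 0 ∧ b y = t) ∧
      (∀ x, a (x⁻¹ * α x) = 0 ∧ b (x⁻¹ * α x) = a x) ∧
      (∀ x y, ∃ c, Cm ι x y c) ∧
      (∀ x y c, Cm ι x y c → a y = 0 → c ^ 2 = C ^ 2 * (a x * b y)) ∧
      (∀ y, a y = 0 → y * y = ι (C * b y)) := by
  obtain ⟨⟨x₀, y₀, hxy⟩, hsq, hcard⟩ := hna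
  have hK1 : 1 < Nat.card K := Finite.one_lt_card
  have hne : ∃ x, α x ≠ x := by
    by_contra hcon
    push Not at hcon
    have h1 : ∀ x, ∃ a, ι a = x := fun x => (h.fix x).1 (hcon x)
    obtain ⟨a, ha⟩ := h1 x₀
    apply hxy
    rw [← ha, h.comm]
  obtain ⟨hN, α', ρ', ι', hα', hρ', hι', h'⟩ := h.quot hne
  have hsq' : ∀ x : Q ⧸ Fx α, x * x = 1 := by
    intro x
    obtain ⟨w, rfl⟩ := QuotientGroup.mk_surjective x
    obtain ⟨s, hs⟩ := hsq w
    rw [← QuotientGroup.mk_mul, hs]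
    exact (QuotientGroup.eq_one_iff _).2 (h.fixι s)
  have hc' : ∀ x y : Q ⧸ Fx α, x * y = y * x := by
    intro x y
    have h1 := hsq' (x * y)
    have hx : x⁻¹ = x := inv_eq_of_mul_eq_one_left (hsq' x)
    have hy : y⁻¹ = y := inv_eq_of_mul_eq_one_left (hsq' y)
    have h2 : (x * y)⁻¹ = x * y := inv_eq_of_mul_eq_one_left h1
    rw [← h2, mul_inv_rev, hx, hy]
  have hfix' : ∀ x : Q ⧸ Fx α, ∃ a, ι' a = dl α' hc' x := by
    intro x
    apply (h'.fix _).1
    have h1 : α' (dl α' hc' x) = (dl α' hc' x)⁻¹ := by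
      rw [dl_apply, map_mul, map_inv, h'.aa]
      group
    rw [h1]
    exact inv_eq_of_mul_eq_one_left (hsq' _)
  choose ab hab using hfix'
  have hab1 : ∀ x y, ab (x * y) = ab x + ab y := by
    intro x y
    apply h'.inj'
    rw [hab, map_mul, h'.add, hab, hab]
  have habρ : ∀ x, ab (ρ' x) = lam * ab x := by
    intro x
    apply h'.inj'
    rw [hab, ← h'.rho, hab, dl_apply, dl_apply, h'.ar, map_mul, map_inv]
  have hab0 : ∀ x, ab x = 0 ↔ α' x = x := by
    intro x
    rw [← dl_eq_one α' hc', ← hab]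
    constructor
    · intro h1; rw [h1, h'.zero]
    · intro h1; exact h'.inj _ h1
  have hcardq : Nat.card (Q ⧸ Fx α) = Nat.card K ^ 2 := by
    have h1 := Subgroup.card_mul_index (Fx α)
    rw [card_Fx h, hcard] at h1
    have h2 : Nat.card K * (Fx α).index = Nat.card K * Nat.card K ^ 2 := by rw [h1]; ring
    exact Nat.eq_of_mul_eq_mul_left (by omega) h2
  have habs : ∀ t, ∃ x, ab x = t := by
    intro t
    have hnz : ∃ x, ab x ≠ 0 := by
      by_contra hcon
      push Not at hcon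
      have h1 : Nat.card K = Nat.card (Q ⧸ Fx α) := by
        refine Nat.card_congr (Equiv.ofBijective ι' ⟨fun a b => h'.inj', ?_⟩)
        intro x
        exact (h'.fix x).1 ((hab0 x).1 (hcon x))
      rw [hcardq, pow_two] at h1
      have h2 : Nat.card K * 1 = Nat.card K * Nat.card K := by rw [mul_one]; exact h1
      have h3 := Nat.eq_of_mul_eq_mul_left (by omega) h2
      omega
    by_cases ht : t = 0
    · refine ⟨1, ?_⟩
      have h1 := hab1 1 1
      rw [mul_one] at h1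
      rw [ht]; exact left_eq_add.mp h1
    obtain ⟨x, hx⟩ := hnz
    obtain ⟨k, hk⟩ := h.gen (t / ab x) (div_ne_zero ht hx)
    refine ⟨(ρ' : (Q ⧸ Fx α) → (Q ⧸ Fx α))^[k] x, ?_⟩
    have key : ∀ j : ℕ, ab ((ρ' : (Q ⧸ Fx α) → (Q ⧸ Fx α))^[j] x) = lam ^ j * ab x := by
      intro j
      induction j with
      | zero => simp
      | succ j ih => rw [Function.iterate_succ_apply', habρ, ih, pow_succ]; ring
    rw [key, hk, div_mul_cancel₀ _ hx]
  let a : Q → K := fun x => ab (QuotientGroup.mk x)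
  have ha : ∀ x, a x = ab (QuotientGroup.mk x) := fun x => rfl
  have ha1 : ∀ x y, a (x * y) = a x + a y := by
    intro x y
    rw [ha, QuotientGroup.mk_mul, hab1]
  have has : ∀ t, ∃ x, a x = t := by
    intro t
    obtain ⟨x, hx⟩ := habs t
    obtain ⟨w, rfl⟩ := QuotientGroup.mk_surjective x
    exact ⟨w, hx⟩
  have haρ : ∀ x, a (ρ x) = lam * a x := by
    intro x
    rw [ha, ← hρ', habρ]
  have hb : ∀ y, ∃ t, a y = 0 → y⁻¹ * α y = ι t := by
    intro y
    by_cases hy : a y = 0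
    · rw [ha, hab0] at hy
      obtain ⟨t, ht⟩ := (h'.fix _).1 hy
      exact ⟨t, fun _ => (hι' t y).1 ht⟩
    · exact ⟨0, fun h1 => absurd h1 hy⟩
  choose b hb using hb
  have hker : ∀ y t, y⁻¹ * α y = ι t → a y = 0 ∧ b y = t := by
    intro y t hy
    have h1 : ι' t = QuotientGroup.mk y := (hι' t y).2 hy
    have h2 : a y = 0 := by
      rw [ha, hab0, ← h1]
      exact h'.fixι t
    refine ⟨h2, ?_⟩
    apply h.inj'
    rw [← hb y h2, hy]
  have hbs : ∀ t, ∃ y, a y = 0 ∧ b y = t := by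
    intro t
    obtain ⟨y, hy⟩ := QuotientGroup.mk_surjective (ι' t)
    exact ⟨y, hker y t ((hι' t y).1 hy.symm)⟩
  have hδ : ∀ x, a (x⁻¹ * α x) = 0 ∧ b (x⁻¹ * α x) = a x := by
    intro x
    apply hker
    rw [← hι']
    rw [QuotientGroup.mk_mul, QuotientGroup.mk_inv, ← hα']
    exact hab _
  have hcm : ∀ x y, ∃ c, Cm ι x y c := by
    intro x y
    have h1 : (QuotientGroup.mk (y * x) : Q ⧸ Fx α) = QuotientGroup.mk (x * y) := by
      rw [QuotientGroup.mk_mul, QuotientGroup.mk_mul, hc']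
    rw [QuotientGroup.eq, mem_Fx, h.fix] at h1
    obtain ⟨c, hc⟩ := h1
    refine ⟨c, ?_⟩
    unfold Cm
    rw [hc]; group
  choose f hf using hcm
  have hfu : ∀ {x y c}, Cm ι x y c → f x y = c := fun h1 => h.cm_uniq (hf _ _) h1
  have hfl : ∀ x y z, f (x * y) z = f x z + f y z := fun x y z => hfu (h.cm_mul (hf x z) (hf y z))
  have hfr : ∀ x y z, f z (x * y) = f z x + f z y := fun x y z => hfu (h.cm_mul_right (hf z x) (hf z y))
  have hfs : ∀ x y, f x y = f y x := fun x y => hfu (h.cm_symm (hf y x))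
  have hfρ : ∀ x y, f (ρ x) (ρ y) = lam * f x y := fun x y => hfu (h.cm_rho (hf x y))
  have hff : ∀ x, f x x = 0 := fun x => hfu (h.cm_self x)
  have hfix0 : ∀ y, a y = 0 → b y = 0 → ∃ c, ι c = y := by
    intro y h1 h2
    have h3 := hb y h1
    rw [h2, h.zero, inv_mul_eq_one] at h3
    exact (h.fix y).1 h3.symm
  have ha_one : a 1 = 0 := by
    have h1 := ha1 1 1
    rw [mul_one] at h1
    exact left_eq_add.mp h1
  have ha_inv : ∀ x, a x⁻¹ = a x := by
    intro x
    have h1 := ha1 x⁻¹ x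
    rw [inv_mul_cancel, ha_one] at h1
    exact (CharTwo.add_eq_zero.1 h1.symm)
  have hb1 : ∀ x y, a x = 0 → a y = 0 → b (x * y) = b x + b y := by
    intro x y hx hy
    exact (hker _ _ (h.delta_mul x y _ _ (hb x hx) (hb y hy))).2
  have hbρ : ∀ x, a x = 0 → b (ρ x) = lam * b x := by
    intro x hx
    exact (hker _ _ (h.delta_rho x _ (hb x hx))).2
  -- the pairing on ker a is zero
  let A : Subgroup Q :=
    { carrier := {x | a x = 0}
      mul_mem' := by
        intro x y hx hy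
        show a (x * y) = 0
        rw [ha1, show a x = 0 from hx, show a y = 0 from hy, add_zero]
      one_mem' := ha_one
      inv_mem' := by
        intro x hx
        show a x⁻¹ = 0
        rw [ha_inv]; exact hx }
  have hf0 : ∀ x y, a x = 0 → a y = 0 → f x y = 0 := by
    intro x y hx hy
    have hρA : ∀ x : A, ρ x.1 ∈ A := by
      intro x
      show a (ρ x.1) = 0
      rw [haρ, show a x.1 = 0 from x.2, mul_zero]
    exact pairing_zero h.gen (G := A) (fun x => ⟨ρ x.1, hρA x⟩) (fun x y => f x.1 y.1) (fun x => b x.1)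
      (fun x y z => hfl _ _ _) (fun x y z => hfr _ _ _) (fun x y => hfρ _ _) (fun x => hff _)
      (fun x y => hb1 _ _ x.2 y.2) (fun x => hbρ _ x.2)
      (fun t => by obtain ⟨y, hy1, hy2⟩ := hbs t; exact ⟨⟨y, hy1⟩, hy2⟩)
      (fun x y hx => by
        obtain ⟨c, hc⟩ := hfix0 x.1 x.2 hx
        show f x.1 y.1 = 0
        rw [← hc]
        exact hfu (h.cm_iota c _)) ⟨x, hx⟩ ⟨y, hy⟩
  have hdep1 : ∀ x x' y, a y = 0 → a x = a x' → f x y = f x' y := by
    intro x x' y hy hx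
    have h1 : a (x * x'⁻¹) = 0 := by rw [ha1, ha_inv, hx, CharTwo.add_self_eq_zero]
    have h3 : f x y = f (x * x'⁻¹ * x') y := by rw [inv_mul_cancel_right]
    rw [h3, hfl, hf0 _ _ h1 hy, zero_add]
  have hdep2 : ∀ x y y', a y = 0 → a y' = 0 → b y = b y' → f x y = f x y' := by
    intro x y y' hy hy' hbb
    have hy'i : a y'⁻¹ = 0 := by rw [ha_inv]; exact hy'
    have h0 : a (y * y'⁻¹) = 0 := by rw [ha1, hy, hy'i, add_zero]
    have h4 : b y'⁻¹ = b y' := by
      have h5 := hb1 y'⁻¹ y' hy'i hy'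
      rw [inv_mul_cancel] at h5
      have h6 : b 1 = 0 := (hker 1 0 (by rw [h.zero]; simp)).2
      rw [h6] at h5
      exact (CharTwo.add_eq_zero.1 h5.symm)
    have h1 : b (y * y'⁻¹) = 0 := by rw [hb1 _ _ hy hy'i, h4, hbb, CharTwo.add_self_eq_zero]
    obtain ⟨c, hc⟩ := hfix0 _ h0 h1
    have h3 : f x y = f x (y * y'⁻¹ * y') := by rw [inv_mul_cancel_right]
    rw [h3, hfr, ← hc, hfs x (ι c), hfu (h.cm_iota c x), zero_add]
  choose sa hsa using has
  choose sb hsb using hbs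
  let C : K := f (sa 1) (sb 1)
  have hCdef : C = f (sa 1) (sb 1) := rfl
  have hbil : ∀ x y, a y = 0 → f x y ^ 2 = C ^ 2 * (a x * b y) := by
    intro x y hy
    have h1 := bil_sq h.gen (fun t u => f (sa t) (sb u)) ?_ ?_ ?_ (a x) (b y)
    · have h2 : f (sa (a x)) (sb (b y)) = f x y := by
        rw [hdep1 _ x _ (hsb _).1 (hsa _), hdep2 _ _ y (hsb _).1 hy (hsb _).2]
      have h3 : f (sa (a x)) (sb (b y)) ^ 2 = a x * b y * C ^ 2 := h1
      rw [h2] at h3
      rw [h3]; ring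
    · intro t u v
      show f (sa (t + u)) (sb v) = _
      rw [hdep1 (sa (t + u)) (sa t * sa u) _ (hsb _).1 (by rw [ha1, hsa, hsa, hsa]), hfl]
    · intro t u v
      show f (sa t) (sb (u + v)) = _
      have h5 : a (sb u * sb v) = 0 := by rw [ha1, (hsb u).1, (hsb v).1, add_zero]
      rw [hdep2 _ (sb (u + v)) (sb u * sb v) (hsb _).1 h5
        (by rw [hb1 _ _ (hsb _).1 (hsb _).1, (hsb _).2, (hsb _).2, (hsb _).2]), hfr]
    · intro t u
      show f (sa (lam * t)) (sb (lam * u)) = _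
      have h5 : a (ρ (sb u)) = 0 := by rw [haρ, (hsb u).1, mul_zero]
      rw [← hfρ, hdep1 (sa (lam * t)) (ρ (sa t)) _ (hsb _).1 (by rw [haρ, hsa, hsa]),
        hdep2 _ (sb (lam * u)) (ρ (sb u)) (hsb _).1 h5 (by rw [hbρ _ (hsb _).1, (hsb _).2, (hsb _).2])]
  have hC0 : C ≠ 0 := by
    intro hC
    have hz : ∀ x y, a y = 0 → f x y = 0 := by
      intro x y hy
      have h1 := hbil x y hy
      rw [hC] at h1
      have h2 : f x y ^ 2 = 0 := by rw [h1]; ring
      exact pow_eq_zero_iff (two_ne_zero) |>.1 h2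
    have h1 := pairing_zero h.gen (G := Q) (ρ : Q → Q) f a hfl (fun x y z => hfr y z x) hfρ hff ha1 haρ
      (fun t => ⟨sa t, hsa t⟩) (fun x y hx => by rw [hfs]; exact hz y x hx) x₀ y₀
    have h2 := hf x₀ y₀
    rw [h1] at h2
    exact hxy (h.comm_of_cm h2)
  choose s hs using hsq
  have hsρ : ∀ x, s (ρ x) = lam * s x := by
    intro x
    apply h.inj'
    rw [← hs, ← map_mul, hs, h.rho]
  have hsmul : ∀ x y, s (x * y) = s x + s y + f y x := by
    intro x y
    apply h.inj'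
    rw [← hs, h.add, h.add, ← hs x, ← hs y]
    have h1 := hf y x
    unfold Cm at h1
    calc x * y * (x * y) = x * (y * x) * y := by group
      _ = x * x * (y * ι (f y x)) * y := by rw [h1]; group
      _ = x * x * (y * (ι (f y x) * y)) := by group
      _ = x * x * (y * y) * ι (f y x) := by rw [← h.comm]; group
  have hs1 : s 1 = 0 := by
    apply h.inj'
    rw [← hs, h.zero, mul_one]
  have hsι : ∀ c, s (ι c) = 0 := by
    intro c
    apply h.inj'
    rw [← hs, h.sq, h.zero]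
  have hsdep : ∀ y y', a y = 0 → a y' = 0 → b y = b y' → s y = s y' := by
    intro y y' hy hy' hbb
    have hy'i : a y'⁻¹ = 0 := by rw [ha_inv]; exact hy'
    have h0 : a (y * y'⁻¹) = 0 := by rw [ha1, hy, hy'i, add_zero]
    have h4 : b y'⁻¹ = b y' := by
      have h5 := hb1 y'⁻¹ y' hy'i hy'
      rw [inv_mul_cancel] at h5
      have h6 : b 1 = 0 := (hker 1 0 (by rw [h.zero]; simp)).2
      rw [h6] at h5
      exact (CharTwo.add_eq_zero.1 h5.symm)
    have h1 : b (y * y'⁻¹) = 0 := by rw [hb1 _ _ hy hy'i, h4, hbb, CharTwo.add_self_eq_zero]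
    obtain ⟨c, hc⟩ := hfix0 _ h0 h1
    have h3 : s y = s (y * y'⁻¹ * y') := by rw [inv_mul_cancel_right]
    rw [h3, hsmul, ← hc, hsι, zero_add, hfs, hfu (h.cm_iota c y'), add_zero]
  have hsb' : ∀ y, a y = 0 → s y = b y * s (sb 1) := by
    intro y hy
    have h1 := hom_one h.gen (fun t => s (sb t)) ?_ ?_ (b y)
    · have h2 : s (sb (b y)) = b y * s (sb 1) := h1
      rw [← h2]
      exact hsdep _ _ hy (hsb _).1 (hsb _).2.symm
    · show s (sb 0) = 0
      rw [hsdep (sb 0) 1 (hsb _).1 ha_one (by rw [(hsb 0).2, (hker 1 0 (by rw [h.zero]; simp)).2]), hs1]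
    · intro t
      show s (sb (lam * t)) = lam * s (sb t)
      have h5 : a (ρ (sb t)) = 0 := by rw [haρ, (hsb t).1, mul_zero]
      rw [← hsρ, hsdep (sb (lam * t)) (ρ (sb t)) (hsb _).1 h5 (by rw [hbρ _ (hsb _).1, (hsb _).2, (hsb _).2])]
  have hDC : s (sb 1) = C := by
    have hx : s (α (sa 1)) = s (sa 1) := by
      apply h.inj'
      rw [← hs, ← map_mul, hs, h.fixι]
    have hx2 : α (sa 1) = sa 1 * ((sa 1)⁻¹ * α (sa 1)) := by group
    obtain ⟨hu1, hu2⟩ := hδ (sa 1)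
    rw [hx2, hsmul, hsb' _ hu1, hu2, hsa, one_mul] at hx
    have h3 : s (sb 1) = f ((sa 1)⁻¹ * α (sa 1)) (sa 1) := by
      have h4 : s (sb 1) + f ((sa 1)⁻¹ * α (sa 1)) (sa 1) = 0 := by
        have h5 : s (sa 1) + (s (sb 1) + f ((sa 1)⁻¹ * α (sa 1)) (sa 1)) = s (sa 1) + 0 := by
          rw [add_zero, ← add_assoc]; exact hx
        exact add_left_cancel h5
      exact CharTwo.add_eq_zero.1 h4
    have h6 := hbil (sa 1) _ hu1
    rw [hu2, hsa, hfs, ← h3, mul_one, mul_one] at h6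
    exact CharTwo.sq_injective h6
  refine ⟨a, b, C, hC0, ha1, fun t => ⟨sa t, hsa t⟩, haρ, hb, fun t => ⟨sb t, hsb t⟩, hδ,
    fun x y => ⟨_, hf x y⟩, ?_, ?_⟩
  · intro x y c hc hy
    rw [← hfu hc]
    exact hbil x y hy
  · intro y hy
    rw [hs, hsb' y hy, hDC, mul_comm]

end Cfsg.Agent.Lib.InvU3
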