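import Cfsg.Agent.Lib.InvU3d

/-!
The group is abelian or of order `q³` with elementary abelian quotient. (helper33)
-/

set_option autoImplicit false
set_option linter.unusedSectionVars false
set_option linter.unusedVariables false

namespace Cfsg.Agent.Lib.InvU3

universe u

open Subgroup

variable {K : Type} [Field K] [CharP K 2] [Finite K]

/-- no proper extension of the non-abelian groups of order `q³` -/
theorem no_ext {lam : K} {Q : Type u} [Group Q] [Finite Q] {α ρ : Q ≃* Q} {ι : K → Q} (h : D lam Q α ρ ι)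
    (h4 : 2 < Nat.card K) [hN : (Fx α).Normal]
    {α' ρ' : (Q ⧸ Fx α) ≃* (Q ⧸ Fx α)} {ι' : K → Q ⧸ Fx α}
    (hα' : ∀ x : Q, α' (QuotientGroup.mk x) = QuotientGroup.mk (α x))
    (hρ' : ∀ x : Q, ρ' (QuotientGroup.mk x) = QuotientGroup.mk (ρ x))
    (hι' : ∀ (a : K) (y : Q), ι' a = QuotientGroup.mk y ↔ y⁻¹ * α y = ι a)
    (h' : D lam (Q ⧸ Fx α) α' ρ' ι') (hna : NA ι') : False := by
  obtain ⟨a₁, b₁, C, hC, ha₁, ha₁s, ha₁ρ, hb₁, hb₁s, hδ₁, hcm₁, hbil₁, hsq₁⟩ := na_struct h' hna
  let A : Q → K := fun x => a₁ (QuotientGroup.mk x)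
  let B : Q → K := fun x => b₁ (QuotientGroup.mk x)
  have hAd : ∀ x, A x = a₁ (QuotientGroup.mk x) := fun _ => rfl
  have hBd : ∀ x, B x = b₁ (QuotientGroup.mk x) := fun _ => rfl
  have hA : ∀ x y, A (x * y) = A x + A y := by
    intro x y; rw [hAd, QuotientGroup.mk_mul, ha₁]
  have hAρ : ∀ x, A (ρ x) = lam * A x := by
    intro x; rw [hAd, ← hρ', ha₁ρ]
  have hAs : ∀ t, ∃ x, A x = t := by
    intro t
    obtain ⟨x, hx⟩ := ha₁s t
    obtain ⟨w, rfl⟩ := QuotientGroup.mk_surjective x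
    exact ⟨w, hx⟩
  have hA1 : A 1 = 0 := by
    have h1 := hA 1 1
    rw [mul_one] at h1
    exact left_eq_add.mp h1
  have hAinv : ∀ x, A x⁻¹ = A x := by
    intro x
    have h1 := hA x⁻¹ x
    rw [inv_mul_cancel, hA1] at h1
    exact (CharTwo.add_eq_zero.1 h1.symm)
  have hBs : ∀ t, ∃ y, A y = 0 ∧ B y = t := by
    intro t
    obtain ⟨x, hx⟩ := hb₁s t
    obtain ⟨w, rfl⟩ := QuotientGroup.mk_surjective x
    exact ⟨w, hx⟩
  -- B is additive and equivariant on ker A
  have hBmul : ∀ x y, A x = 0 → A y = 0 → B (x * y) = B x + B y := by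
    intro x y hx hy
    have h1 := h'.delta_mul (QuotientGroup.mk x) (QuotientGroup.mk y) _ _ (hb₁ _ hx) (hb₁ _ hy)
    have h2 : A (x * y) = 0 := by rw [hA, hx, hy, add_zero]
    have h3 := hb₁ (QuotientGroup.mk (x * y)) h2
    rw [QuotientGroup.mk_mul] at h3
    rw [h1] at h3
    have h4 := h'.inj' h3
    rw [hBd, QuotientGroup.mk_mul]
    exact h4.symm
  have hBρ : ∀ x, A x = 0 → B (ρ x) = lam * B x := by
    intro x hx
    have h1 := h'.delta_rho (QuotientGroup.mk x) _ (hb₁ _ hx)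
    have h2 : A (ρ x) = 0 := by rw [hAρ, hx, mul_zero]
    have h3 := hb₁ (QuotientGroup.mk (ρ x)) h2
    rw [← hρ', h1] at h3
    have h4 := h'.inj' h3
    rw [hBd, ← hρ']
    exact h4.symm
  have hB0 : ∀ x, A x = 0 → B x = 0 → ∃ c, ι' c = QuotientGroup.mk x := by
    intro x hx hx'
    have h3 := hb₁ _ hx
    have h5 : b₁ (QuotientGroup.mk x) = 0 := hx'
    rw [h5, h'.zero, inv_mul_eq_one] at h3
    exact (h'.fix _).1 h3.symm
  have hE2 : ∀ x c, ι' c = QuotientGroup.mk x → A x = 0 ∧ B x = 0 := by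
    intro x c hc
    have h1 : α' (QuotientGroup.mk x) = QuotientGroup.mk x := by rw [← hc]; exact h'.fixι c
    obtain ⟨t, ht⟩ := hb₁s 0
    have h2 : ∀ z : Q ⧸ Fx α, α' z = z → a₁ z = 0 := by
      intro z hz
      have h3 := (hδ₁ z).2
      have h4 := (hδ₁ z).1
      rw [hz, inv_mul_cancel] at h3 h4
      have h5 := hb₁ 1 h4
      simp only [inv_one, map_one, mul_one] at h5
      rw [← h3]
      exact h'.inj _ h5.symm
    have h3 := h2 _ h1
    refine ⟨h3, ?_⟩
    have h4 := hb₁ _ h3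
    rw [h1, inv_mul_cancel] at h4
    exact h'.inj _ h4.symm
  -- commutators in ker A
  have hcomm' : ∀ x y : Q, (QuotientGroup.mk x : Q ⧸ Fx α) * QuotientGroup.mk y = QuotientGroup.mk y * QuotientGroup.mk x →
      ∃ c, Cm ι x y c := by
    intro x y hxy
    have h1 : (QuotientGroup.mk (y * x) : Q ⧸ Fx α) = QuotientGroup.mk (x * y) := by
      rw [QuotientGroup.mk_mul, QuotientGroup.mk_mul, hxy]
    rw [QuotientGroup.eq, mem_Fx, h.fix] at h1
    obtain ⟨c, hc⟩ := h1
    refine ⟨c, ?_⟩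
    unfold Cm
    rw [hc]; group
  have hc3 : ∀ x y : Q, A x = 0 → A y = 0 → ∃ c, Cm ι x y c := by
    intro x y hx hy
    obtain ⟨c, hc⟩ := hcm₁ (QuotientGroup.mk x) (QuotientGroup.mk y)
    have h1 := hbil₁ _ _ c hc hy
    have h2 : a₁ (QuotientGroup.mk x) = 0 := hx
    rw [h2, zero_mul, mul_zero] at h1
    have h3 : c = 0 := pow_eq_zero_iff (two_ne_zero) |>.1 h1
    rw [h3] at hc
    exact hcomm' x y (h'.comm_of_cm hc)
  let E3 : Subgroup Q :=
    { carrier := {x | A x = 0}
      mul_mem' := by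
        intro x y hx hy
        show A (x * y) = 0
        rw [hA, show A x = 0 from hx, show A y = 0 from hy, add_zero]
      one_mem' := hA1
      inv_mem' := by
        intro x hx
        show A x⁻¹ = 0
        rw [hAinv]; exact hx }
  have hEc : ∀ x y : E3, ∃ c, Cm ι x.1 y.1 c := fun x y => hc3 x.1 y.1 x.2 y.2
  choose g hg using hEc
  have hgu : ∀ {x y : E3} {c : K}, Cm ι x.1 y.1 c → g x y = c := fun h1 => h.cm_uniq (hg _ _) h1
  have hE3ab : ∀ x y : Q, A x = 0 → A y = 0 → x * y = y * x := by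
    intro x y hx hy
    have h1 := pairing_zero h.gen (G := E3) (fun x => ⟨ρ x.1, by
        show A (ρ x.1) = 0
        rw [hAρ, show A x.1 = 0 from x.2, mul_zero]⟩) g (fun x => B x.1)
      (fun x y z => hgu (h.cm_mul (hg x z) (hg y z))) (fun x y z => hgu (h.cm_mul_right (hg x y) (hg x z)))
      (fun x y => hgu (h.cm_rho (hg x y))) (fun x => hgu (h.cm_self x.1))
      (fun x y => hBmul _ _ x.2 y.2) (fun x => hBρ _ x.2)
      (fun t => by obtain ⟨y, hy1, hy2⟩ := hBs t; exact ⟨⟨y, hy1⟩, hy2⟩)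
      (fun x y hxB => by
        obtain ⟨c, hc⟩ := hB0 x.1 x.2 hxB
        obtain ⟨w, hw1, hw2⟩ := hBs (c / C)
        have h5 := hsq₁ (QuotientGroup.mk w) hw1
        have h6 : b₁ (QuotientGroup.mk w) = c / C := hw2
        rw [h6, mul_div_cancel₀ _ hC, hc, ← QuotientGroup.mk_mul, QuotientGroup.eq, mem_Fx, h.fix] at h5
        obtain ⟨e, he⟩ := h5
        have h7 : x.1 = (w * w) * ι e := by rw [he]; group
        obtain ⟨d, hd⟩ := hc3 w y.1 hw1 y.2
        have h8 := h.cm_mul (h.cm_sq hd) (h.cm_iota e y.1)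
        rw [← h7, add_zero] at h8
        exact hgu h8) ⟨x, hx⟩ ⟨y, hy⟩
    have h2 := hg ⟨x, hx⟩ ⟨y, hy⟩
    rw [h1] at h2
    exact h.comm_of_cm h2
  -- the pairing with E2
  have hE2c : ∀ (y : Q) (c : K), ι' c = QuotientGroup.mk y → ∀ x, ∃ d, Cm ι x y d := by
    intro y c hc x
    apply hcomm'
    rw [← hc, h'.comm]
  choose y₂ hy₂ using fun c : K => QuotientGroup.mk_surjective (ι' c)
  choose f hf using fun (x : Q) (c : K) => hE2c (y₂ c) c (hy₂ c).symm x
  -- dependence: for y with ι' c = mk y, Cm x y (f x c)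
  have hdepc : ∀ (x y : Q) (c : K), ι' c = QuotientGroup.mk y → Cm ι x y (f x c) := by
    intro x y c hc
    have h1 : (QuotientGroup.mk (y₂ c) : Q ⧸ Fx α) = QuotientGroup.mk y := by rw [hy₂, hc]
    rw [QuotientGroup.eq, mem_Fx, h.fix] at h1
    obtain ⟨e, he⟩ := h1
    have h2 : y = y₂ c * ι e := by rw [he]; group
    have h3 := h.cm_mul_right (hf x c) (h.cm_symm (h.cm_iota e x))
    rw [← h2, add_zero] at h3
    exact h3
  have hfl : ∀ x x' c, f (x * x') c = f x c + f x' c := fun x x' c =>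
    h.cm_uniq (hf _ _) (h.cm_mul (hf x c) (hf x' c))
  have hfr : ∀ x c d, f x (c + d) = f x c + f x d := by
    intro x c d
    have h1 : ι' (c + d) = QuotientGroup.mk (y₂ c * y₂ d) := by
      rw [h'.add, QuotientGroup.mk_mul, hy₂, hy₂]
    exact h.cm_uniq (hdepc x _ _ h1) (h.cm_mul_right (hf x c) (hf x d))
  have hfρ : ∀ x c, f (ρ x) (lam * c) = lam * f x c := by
    intro x c
    have h1 : ι' (lam * c) = QuotientGroup.mk (ρ (y₂ c)) := by
      rw [← h'.rho, ← hρ', hy₂]
    exact h.cm_uniq (hdepc (ρ x) _ _ h1) (h.cm_rho (hf x c))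
  have hf0 : ∀ x c, A x = 0 → f x c = 0 := by
    intro x c hx
    have h1 := hE3ab x (y₂ c) hx (hE2 _ c (hy₂ c).symm).1
    apply h.cm_uniq (hf x c)
    unfold Cm
    rw [h.zero, mul_one, h1]
  have hfdep : ∀ x x' c, A x = A x' → f x c = f x' c := by
    intro x x' c hx
    have h1 : A (x * x'⁻¹) = 0 := by rw [hA, hAinv, hx, CharTwo.add_self_eq_zero]
    have h3 : f x c = f (x * x'⁻¹ * x') c := by rw [inv_mul_cancel_right]
    rw [h3, hfl, hf0 _ _ h1, zero_add]
  choose sA hsA using hAs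
  let H : K := f (sA 1) 1
  have hHd : H = f (sA 1) 1 := rfl
  have hbil : ∀ x c, f x c ^ 2 = A x * c * H ^ 2 := by
    intro x c
    have h1 := bil_sq h.gen (fun t u => f (sA t) u) ?_ ?_ ?_ (A x) c
    · have h2 : f (sA (A x)) c = f x c := hfdep _ _ _ (hsA _)
      have h3 : f (sA (A x)) c ^ 2 = A x * c * H ^ 2 := h1
      rw [h2] at h3
      exact h3
    · intro t u v
      show f (sA (t + u)) v = _
      rw [hfdep (sA (t + u)) (sA t * sA u) _ (by rw [hA, hsA, hsA, hsA]), hfl]
    · intro t u v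
      exact hfr _ _ _
    · intro t u
      show f (sA (lam * t)) (lam * u) = _
      rw [← hfρ, hfdep (sA (lam * t)) (ρ (sA t)) _ (by rw [hAρ, hsA, hsA])]
  -- commutators of E3 with Q
  have hw : ∀ x y : Q, A y = 0 → ∃ (w : Q) (c : K), x * y = y * x * w ∧ ι' c = QuotientGroup.mk w ∧
      c ^ 2 = C ^ 2 * (A x * B y) := by
    intro x y hy
    obtain ⟨c, hc⟩ := hcm₁ (QuotientGroup.mk x) (QuotientGroup.mk y)
    have h1 := hbil₁ _ _ c hc hy
    refine ⟨(y * x)⁻¹ * (x * y), c, by group, ?_, h1⟩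
    unfold Cm at hc
    rw [QuotientGroup.mk_mul, QuotientGroup.mk_inv, QuotientGroup.mk_mul, QuotientGroup.mk_mul, hc]
    group
  -- H = 0
  obtain ⟨t, ht0, ht1⟩ := exists_gt_two (K := K) h4
  obtain ⟨y, hy0, hy1⟩ := hBs 1
  have hH : H = 0 := by
    obtain ⟨w, c, hxw, hcw, hc2⟩ := hw (sA 1) y hy0
    obtain ⟨w', c', hxw', hcw', hc2'⟩ := hw (sA t) y hy0
    have hwA := (hE2 _ _ hcw).1
    have hwA' := (hE2 _ _ hcw').1
    have hww' : w * w' = w' * w := hE3ab _ _ hwA hwA'
    have hyw : y * w = w * y := hE3ab _ _ hy0 hwA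
    have hyw' : y * w' = w' * y := hE3ab _ _ hy0 hwA'
    -- write x = sA 1, x' = sA t
    set x := sA 1 with hx
    set x' := sA t with hx'
    -- x w' = w' x ι(f x c'), x' w = w x' ι(f x' c)
    have e1 : x * w' = w' * x * ι (f x c') := hdepc x w' c' hcw'
    have e2 : x' * w = w * x' * ι (f x' c) := hdepc x' w c hcw
    -- v = commutator of x, x' in E3
    let v := (x' * x)⁻¹ * (x * x')
    have hv : x * x' = x' * x * v := by simp only [v]; group
    have hvA : A v = 0 := by
      simp only [v]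
      rw [hA, hAinv, hA, hA, add_comm (A x') (A x), CharTwo.add_self_eq_zero]
    have hvy : v * y = y * v := hE3ab _ _ hvA hy0
    have hvw : v * (w * w') = (w * w') * v := hE3ab _ _ hvA (by rw [hA, hwA, hwA', add_zero])
    -- compute x x' y in two ways
    have c1 := h.comm (f x c')
    have c2 := h.comm (f x' c)
    have e2' : w * x' = x' * w * ι (f x' c) := by rw [e2, mul_assoc, h.sq, mul_one]
    have e1' : w' * x = x * w' * ι (f x c') := by rw [e1, mul_assoc, h.sq, mul_one]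
    have l1 : x * x' * y = y * x * x' * (w * w') * ι (f x' c) := by
      calc x * x' * y = x * (x' * y) := by group
        _ = (x * y) * x' * w' := by rw [hxw']; group
        _ = y * x * (w * x') * w' := by rw [hxw]; group
        _ = y * x * x' * w * (ι (f x' c) * w') := by rw [e2']; group
        _ = y * x * x' * (w * w') * ι (f x' c) := by rw [← c2]; group
    have l2 : x' * x * y = y * x' * x * (w * w') * ι (f x c') := by
      calc x' * x * y = x' * (x * y) := by group
        _ = (x' * y) * x * w := by rw [hxw]; group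
        _ = y * x' * (w' * x) * w := by rw [hxw']; group
        _ = y * x' * x * w' * (ι (f x c') * w) := by rw [e1']; group
        _ = y * x' * x * (w' * w) * ι (f x c') := by rw [← c1]; group
        _ = y * x' * x * (w * w') * ι (f x c') := by rw [hww']
    have l3 : x * x' * y = y * x * x' * (w * w') * ι (f x c') := by
      calc x * x' * y = x' * x * (v * y) := by rw [hv]; group
        _ = (x' * x * y) * v := by rw [hvy]; group
        _ = y * x' * x * (w * w') * (ι (f x c') * v) := by rw [l2]; group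
        _ = y * x' * x * ((w * w') * v) * ι (f x c') := by rw [← c1]; group
        _ = y * (x' * x * v) * (w * w') * ι (f x c') := by rw [← hvw]; group
        _ = y * x * x' * (w * w') * ι (f x c') := by rw [← hv]; group
    have l4 : f x' c = f x c' := by
      apply h.inj'
      rw [l1] at l3
      exact mul_left_cancel l3
    have l5 := hbil x' c
    rw [l4, hbil, hx, hx', hsA, hsA, one_mul] at l5
    by_contra hH
    have l6 : c' = t * c := mul_right_cancel₀ (pow_ne_zero 2 hH) l5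
    have l7 : t ^ 2 = t := by
      have h1 : (t * c) ^ 2 = C ^ 2 * (A x' * B y) := by rw [← l6]; exact hc2'
      rw [mul_pow, hc2, hx, hx', hsA, hsA, hy1, mul_one, mul_one, mul_one] at h1
      have h2 : t ^ 2 * C ^ 2 = t * C ^ 2 := by rw [h1]; ring
      exact mul_right_cancel₀ (pow_ne_zero 2 hC) h2
    have l8 : t * (t - 1) = 0 := by
      have l9 : t * (t - 1) = t ^ 2 - t := by ring
      rw [l9, l7, sub_self]
    rcases mul_eq_zero.1 l8 with h0 | h0
    · exact ht0 h0
    · exact ht1 (sub_eq_zero.1 h0)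
  -- E2 is central and of exponent two
  have hf00 : ∀ x c, f x c = 0 := by
    intro x c
    have h1 := hbil x c
    rw [hH] at h1
    have h2 : f x c ^ 2 = 0 := by rw [h1]; ring
    exact pow_eq_zero_iff (two_ne_zero) |>.1 h2
  have hE2cen : ∀ (u : Q) (c : K), ι' c = QuotientGroup.mk u → ∀ x, x * u = u * x := by
    intro u c hc x
    have h1 := hdepc x u c hc
    rw [hf00] at h1
    exact h.comm_of_cm h1
  have hE2sq : ∀ (u : Q) (c : K), ι' c = QuotientGroup.mk u → u * u = 1 := by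
    intro u c hc
    obtain ⟨w, c', hxw, hcw, hc2⟩ := hw (sA (c ^ 2 / C ^ 2)) y hy0
    rw [hsA, hy1, mul_one, mul_div_cancel₀ _ (pow_ne_zero 2 hC)] at hc2
    have hcc : c' = c := CharTwo.sq_injective hc2
    rw [hcc] at hcw
    set x := sA (c ^ 2 / C ^ 2) with hx
    have hwA := (hE2 _ _ hcw).1
    have hyw : y * w = w * y := hE3ab _ _ hy0 hwA
    have hy2 : ι' C = QuotientGroup.mk (y * y) := by
      have h5 := hsq₁ (QuotientGroup.mk y) hy0
      have h6 : b₁ (QuotientGroup.mk y) = 1 := hy1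
      rw [h6, mul_one] at h5
      rw [QuotientGroup.mk_mul, h5]
    have h7 := hE2cen _ _ hy2 x
    have h8 := hE2cen _ _ hcw x
    have h9 : x * (y * y) = (y * y) * x * (w * w) := by
      calc x * (y * y) = (x * y) * y := by group
        _ = y * x * (w * y) := by rw [hxw]; group
        _ = y * (x * y) * w := by rw [← hyw]; group
        _ = (y * y) * x * (w * w) := by rw [hxw]; group
    rw [h7] at h9
    have h10 : w * w = 1 := (left_eq_mul.mp h9)
    have h11 : (QuotientGroup.mk w : Q ⧸ Fx α) = QuotientGroup.mk u := by rw [← hcw, hc]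
    rw [QuotientGroup.eq, mem_Fx, h.fix] at h11
    obtain ⟨e, he⟩ := h11
    have h12 : u = w * ι e := by rw [he]; group
    have h13 := h.comm e w
    rw [h12]
    calc w * ι e * (w * ι e) = w * (ι e * w) * ι e := by group
      _ = (w * w) * (ι e * ι e) := by rw [← h13]; group
      _ = 1 := by rw [h10, h.sq, one_mul]
  -- final contradiction
  have hy2 : ι' C = QuotientGroup.mk (y * y) := by
    have h5 := hsq₁ (QuotientGroup.mk y) hy0
    have h6 : b₁ (QuotientGroup.mk y) = 1 := hy1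
    rw [h6, mul_one] at h5
    rw [QuotientGroup.mk_mul, h5]
  have hαA : ∀ z, A z = 0 → A (α z) = 0 := by
    intro z hz
    have h1 := (hδ₁ (QuotientGroup.mk z)).1
    have h2 : α z = z * (z⁻¹ * α z) := by group
    rw [h2, hA, hz, zero_add, hAd, QuotientGroup.mk_mul, QuotientGroup.mk_inv, ← hα']
    exact h1
  have hyα : y * α y = α y * y := hE3ab _ _ hy0 (hαA y hy0)
  have hd : ι' 1 = QuotientGroup.mk (y⁻¹ * α y) := by
    have h1 := hb₁ (QuotientGroup.mk y) hy0
    have h6 : b₁ (QuotientGroup.mk y) = 1 := hy1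
    rw [h6] at h1
    rw [QuotientGroup.mk_mul, QuotientGroup.mk_inv, ← hα', h1]
  have hd2 := hE2sq _ _ hd
  have h1 : (y * y)⁻¹ * α (y * y) = ι C := (hι' _ _).1 hy2
  have h2 : (y * y)⁻¹ * α (y * y) = (y⁻¹ * α y) * (y⁻¹ * α y) := by
    rw [map_mul, mul_inv_rev]
    have h3 : y⁻¹ * α y = α y * y⁻¹ := by
      rw [inv_mul_eq_iff_eq_mul, ← mul_assoc, hyα, mul_assoc, mul_inv_cancel, mul_one]
    calc y⁻¹ * y⁻¹ * (α y * α y) = y⁻¹ * (y⁻¹ * α y) * α y := by group
      _ = y⁻¹ * (α y * y⁻¹) * α y := by rw [h3]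
      _ = (y⁻¹ * α y) * (y⁻¹ * α y) := by group
  rw [h2, hd2] at h1
  exact hC (h.inj _ h1.symm)

/-- the main dichotomy -/
theorem main {lam : K} (h4 : 2 < Nat.card K) : ∀ (n : ℕ) (Q : Type u) [Group Q] [Finite Q] (α ρ : Q ≃* Q) (ι : K → Q),
    Nat.card Q = n → D lam Q α ρ ι → (∀ x y : Q, x * y = y * x) ∨ NA ι := by
  intro n
  induction n using Nat.strong_induction_on with
  | _ n ih =>
  intro Q _ _ α ρ ι hn h
  by_cases hne : ∃ x, α x ≠ x
  swap
  · left
    push Not at hne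
    intro x y
    obtain ⟨a, rfl⟩ := (h.fix x).1 (hne x)
    rw [h.comm]
  obtain ⟨hN, α', ρ', ι', hα', hρ', hι', h'⟩ := h.quot hne
  have hK1 : 1 < Nat.card K := Finite.one_lt_card
  have hcardm : Nat.card K * Nat.card (Q ⧸ Fx α) = Nat.card Q := by
    have h1 := Subgroup.card_mul_index (Fx α)
    rw [card_Fx h] at h1
    exact h1
  have hlt : Nat.card (Q ⧸ Fx α) < n := by
    rw [← hn, ← hcardm]
    have h1 : 0 < Nat.card (Q ⧸ Fx α) := Nat.card_pos
    nlinarith
  rcases ih _ hlt (Q ⧸ Fx α) α' ρ' ι' rfl h' with hab | hna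
  swap
  · exact absurd (no_ext h h4 hα' hρ' hι' h' hna) (by simp)
  by_cases hQab : ∀ x y : Q, x * y = y * x
  · exact Or.inl hQab
  right
  push Not at hQab
  rcases abelian_cases h' hab with ⟨hsq, hcard⟩ | ⟨-, τ, hτ1, hτ2, hτ3, hτ4⟩
  · refine ⟨hQab, ?_, ?_⟩
    · intro x
      have h1 := hsq (QuotientGroup.mk x)
      rw [← QuotientGroup.mk_mul, QuotientGroup.eq_one_iff, mem_Fx, h.fix] at h1
      obtain ⟨s, hs⟩ := h1
      exact ⟨s, hs.symm⟩
    · rw [← hcardm, hcard]; ring
  · exfalso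
    obtain ⟨x₀, y₀, hxy⟩ := hQab
    have hcm : ∀ x y : Q, ∃ c, Cm ι x y c := by
      intro x y
      have h1 : (QuotientGroup.mk (y * x) : Q ⧸ Fx α) = QuotientGroup.mk (x * y) := by
        rw [QuotientGroup.mk_mul, QuotientGroup.mk_mul, hab]
      rw [QuotientGroup.eq, mem_Fx, h.fix] at h1
      obtain ⟨c, hc⟩ := h1
      refine ⟨c, ?_⟩
      unfold Cm
      rw [hc]; group
    choose f hf using hcm
    have hfu : ∀ {x y c}, Cm ι x y c → f x y = c := fun h1 => h.cm_uniq (hf _ _) h1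
    have h1 := pairing_zero h.gen (G := Q) (ρ : Q → Q) f (fun x => τ (QuotientGroup.mk x))
      (fun x y z => hfu (h.cm_mul (hf x z) (hf y z))) (fun x y z => hfu (h.cm_mul_right (hf x y) (hf x z)))
      (fun x y => hfu (h.cm_rho (hf x y))) (fun x => hfu (h.cm_self x))
      (fun x y => by rw [QuotientGroup.mk_mul, hτ1]) (fun x => by rw [← hρ', hτ3])
      (fun t => by
        obtain ⟨x, hx⟩ := hτ2 t
        obtain ⟨w, rfl⟩ := QuotientGroup.mk_surjective x
        exact ⟨w, hx⟩)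
      (fun x y hx => by
        obtain ⟨w, hw⟩ := hτ4 _ hx
        obtain ⟨w, rfl⟩ := QuotientGroup.mk_surjective w
        rw [← QuotientGroup.mk_mul, eq_comm, QuotientGroup.eq, mem_Fx, h.fix] at hw
        obtain ⟨e, he⟩ := hw
        have h7 : x = (w * w) * ι e := by rw [he]; group
        have h8 := h.cm_mul (h.cm_sq (hf w y)) (h.cm_iota e y)
        rw [← h7, add_zero] at h8
        exact hfu h8) x₀ y₀
    have h2 := hf x₀ y₀
    rw [h1] at h2
    exact hxy (h.comm_of_cm h2)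

end Cfsg.Agent.Lib.InvU3
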