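import Cfsg.Agent.Lib.InvU3e

/-!
Coordinates, and an isomorphism criterion. (helper33)
-/

set_option autoImplicit false
set_option linter.unusedSectionVars false
set_option linter.unusedVariables false

namespace Cfsg.Agent.Lib.InvU3

universe u v w

open Subgroup

variable {K : Type} [Field K] [CharP K 2]

/-- extension of homomorphisms from subgroups of an elementary abelian 2-group -/
theorem exists_extend {V : Type u} [CommGroup V] (hV : ∀ x : V, x * x = 1) (W : Subgroup V) (φ : V → K)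
    (hφ : ∀ x ∈ W, ∀ y ∈ W, φ (x * y) = φ x + φ y) :
    ∃ ψ : V → K, (∀ x y, ψ (x * y) = ψ x + ψ y) ∧ ∀ w ∈ W, ψ w = φ w := by
  letI : Module (ZMod 2) (Additive V) := AddCommGroup.zmodModule (n := 2) (by
    intro x
    rw [two_nsmul]
    exact hV (Additive.toMul x))
  letI : Algebra (ZMod 2) K := ZMod.algebra K 2
  let W' : AddSubgroup (Additive V) := Subgroup.toAddSubgroup W
  let W'' : Submodule (ZMod 2) (Additive V) := AddSubgroup.toZModSubmodule 2 W'
  let f₀ : W'' →+ K :=
    { toFun := fun x => φ (Additive.toMul x.1)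
      map_zero' := by
        have h1 := hφ 1 W.one_mem 1 W.one_mem
        rw [mul_one] at h1
        exact left_eq_add.mp h1
      map_add' := fun x y => hφ _ x.2 _ y.2 }
  obtain ⟨g, hg⟩ := LinearMap.exists_extend (f₀.toZModLinearMap 2)
  refine ⟨fun x => g (Additive.ofMul x), ?_, ?_⟩
  · intro x y
    exact map_add g (Additive.ofMul x) (Additive.ofMul y)
  · intro w hw
    exact congrArg (fun k : W'' →ₗ[ZMod 2] K => k ⟨Additive.ofMul w, hw⟩) hg

variable {lam : K} {Q : Type u} [Group Q] {α ρ : Q ≃* Q} {ι : K → Q}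

variable [Finite Q] [Finite K]

/-- coordinates on the non-abelian group of order `q³` -/
theorem coords (h : D lam Q α ρ ι) (hna : NA ι) (hρN : ∀ x : Q, (ρ : Q → Q)^[Nat.card K - 1] x = x) :
    ∃ (a b : Q → K) (C d : K), C ≠ 0 ∧ (∀ x y, a (x * y) = a x + a y) ∧ (∀ x y, b (x * y) = b x + b y) ∧
      (∀ s t, ∃ x, a x = s ∧ b x = t) ∧ (∀ x, a x = 0 → b x = 0 → ∃ c, ι c = x) ∧
      (∀ c, a (ι c) = 0 ∧ b (ι c) = 0) ∧
      (∀ x r, x * x = ι r → r ^ 2 = C ^ 2 * (b x ^ 2 + a x * b x + d * a x ^ 2)) := by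
  obtain ⟨a, b₀, C, hC, ha, has, haρ, hb₀, hb₀s, hδ, hcm, hbil, hsq⟩ := na_struct h hna
  have ha_one : a 1 = 0 := by
    have h1 := ha 1 1
    rw [mul_one] at h1
    exact left_eq_add.mp h1
  have ha_inv : ∀ x, a x⁻¹ = a x := by
    intro x
    have h1 := ha x⁻¹ x
    rw [inv_mul_cancel, ha_one] at h1
    exact (CharTwo.add_eq_zero.1 h1.symm)
  have haι : ∀ c, a (ι c) = 0 := by
    intro c
    have h1 := (hδ (ι c)).2
    have h2 := (hδ (ι c)).1
    rw [h.fixι, inv_mul_cancel] at h1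
    have h3 := hb₀ 1 ha_one
    simp only [inv_one, map_one, mul_one] at h3
    rw [← h1]
    exact h.inj _ h3.symm
  have hb₀1 : ∀ x y, a x = 0 → a y = 0 → b₀ (x * y) = b₀ x + b₀ y := by
    intro x y hx hy
    apply h.inj'
    rw [← hb₀ _ (by rw [ha, hx, hy, add_zero])]
    exact h.delta_mul x y _ _ (hb₀ x hx) (hb₀ y hy)
  have hb₀ρ : ∀ x, a x = 0 → b₀ (ρ x) = lam * b₀ x := by
    intro x hx
    apply h.inj'
    rw [← hb₀ _ (by rw [haρ, hx, mul_zero])]
    exact h.delta_rho x _ (hb₀ x hx)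
  have hb₀ι : ∀ c, b₀ (ι c) = 0 := by
    intro c
    have h1 := hb₀ (ι c) (haι c)
    rw [h.fixι, inv_mul_cancel] at h1
    exact h.inj _ h1.symm
  have hfix0 : ∀ y, a y = 0 → b₀ y = 0 → ∃ c, ι c = y := by
    intro y h1 h2
    have h3 := hb₀ y h1
    rw [h2, h.zero, inv_mul_eq_one] at h3
    exact (h.fix y).1 h3.symm
  have hN := h.Fx_normal
  -- the quotient is elementary abelian
  have hsq' : ∀ x : Q ⧸ Fx α, x * x = 1 := by
    intro x
    obtain ⟨w, rfl⟩ := QuotientGroup.mk_surjective x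
    obtain ⟨s, hs⟩ := hna.2.1 w
    rw [← QuotientGroup.mk_mul, hs]
    exact (QuotientGroup.eq_one_iff _).2 (h.fixι s)
  have hc' : ∀ x y : Q ⧸ Fx α, x * y = y * x := by
    intro x y
    have h1 := hsq' (x * y)
    have hx : x⁻¹ = x := inv_eq_of_mul_eq_one_left (hsq' x)
    have hy : y⁻¹ = y := inv_eq_of_mul_eq_one_left (hsq' y)
    have h2 : (x * y)⁻¹ = x * y := inv_eq_of_mul_eq_one_left h1
    rw [← h2, mul_inv_rev, hx, hy]
  let A : Subgroup Q :=
    { carrier := {x | a x = 0}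
      mul_mem' := by
        intro x y hx hy
        show a (x * y) = 0
        rw [ha, show a x = 0 from hx, show a y = 0 from hy, add_zero]
      one_mem' := ha_one
      inv_mem' := by
        intro x hx
        show a x⁻¹ = 0
        rw [ha_inv]; exact hx }
  letI iC : CommGroup (Q ⧸ Fx α) := { (inferInstance : Group (Q ⧸ Fx α)) with mul_comm := hc' }
  have hφ : ∀ x : Q ⧸ Fx α, ∃ t : K, ∀ y : Q, a y = 0 → QuotientGroup.mk y = x → b₀ y = t := by
    intro x
    obtain ⟨w, rfl⟩ := QuotientGroup.mk_surjective x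
    refine ⟨b₀ w, fun y hy hyw => ?_⟩
    rw [eq_comm, QuotientGroup.eq, mem_Fx, h.fix] at hyw
    obtain ⟨e, he⟩ := hyw
    have h1 : y = w * ι e := by rw [he]; group
    have hw : a w = 0 := by
      rw [h1, ha, haι, add_zero] at hy; exact hy
    rw [h1, hb₀1 _ _ hw (haι e), hb₀ι, add_zero]
  choose φ hφ using hφ
  obtain ⟨ψ, hψ1, hψ2⟩ := exists_extend (K := K) (V := Q ⧸ Fx α) hsq' (A.map (QuotientGroup.mk' (Fx α))) φ (by
    rintro _ ⟨x, hx, rfl⟩ _ ⟨y, hy, rfl⟩
    have hx' : a x = 0 := hx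
    have hy' : a y = 0 := hy
    rw [← map_mul]
    show φ (QuotientGroup.mk (x * y)) = φ (QuotientGroup.mk x) + φ (QuotientGroup.mk y)
    rw [← hφ _ x hx' rfl, ← hφ _ y hy' rfl, ← hφ _ (x * y) (by rw [ha, hx', hy', add_zero]) rfl, hb₀1 _ _ hx' hy'])
  let b₁ : Q → K := fun x => ψ (QuotientGroup.mk x)
  have hb₁ : ∀ x y, b₁ (x * y) = b₁ x + b₁ y := by
    intro x y
    show ψ _ = ψ _ + ψ _
    rw [QuotientGroup.mk_mul]
    exact hψ1 _ _
  have hb₁0 : ∀ x, a x = 0 → b₁ x = b₀ x := by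
    intro x hx
    show ψ _ = _
    have h1 := hψ2 (QuotientGroup.mk' (Fx α) x) ⟨x, hx, rfl⟩
    rw [hφ _ x hx rfl]
    exact h1
  set N := Nat.card K - 1 with hNdef
  have hK1 : 1 < Nat.card K := Finite.one_lt_card
  have hlam0 : lam ≠ 0 := by
    rintro rfl
    have h1 : ∀ t : K, t ≠ 0 → t = 1 := by
      intro t ht
      obtain ⟨k, hk⟩ := h.gen t ht
      rcases k with _ | k
      · rw [← hk, pow_zero]
      · rw [zero_pow (Nat.succ_ne_zero k)] at hk
        exact absurd hk.symm ht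
    obtain ⟨x, y, hxy⟩ := hna.1
    -- K has two elements; then everything is trivial
    have h2 : ρ (ι 1) = ι 0 := by rw [h.rho, zero_mul]
    rw [h.zero] at h2
    have h3 : ι 1 = 1 := ρ.injective (by rw [h2, map_one])
    exact one_ne_zero (h.inj _ h3)
  have hlamN : lam ^ N = 1 := by
    haveI := Fintype.ofFinite K
    rw [hNdef, Nat.card_eq_fintype_card]
    exact FiniteField.pow_card_sub_one_eq_one lam hlam0
  have hNodd : (N : K) = 1 := by
    haveI := Fintype.ofFinite K
    have h1 : (Nat.card K : K) = 0 := by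
      rw [Nat.card_eq_fintype_card]; exact FiniteField.cast_card_eq_zero K
    have h2 : ((N + 1 : ℕ) : K) = 0 := by
      rw [hNdef, Nat.sub_add_cancel hK1.le]; exact h1
    push_cast at h2
    rw [CharTwo.add_eq_zero] at h2
    exact h2
  -- averaging
  let b : Q → K := fun x => ∑ j ∈ Finset.range N, (lam⁻¹) ^ j * b₁ ((ρ : Q → Q)^[j] x)
  have hit : ∀ (j : ℕ) (x y : Q), (ρ : Q → Q)^[j] (x * y) = (ρ : Q → Q)^[j] x * (ρ : Q → Q)^[j] y := by
    intro j x y
    exact iterate_map_mul (ρ : Q →* Q) j x y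
  have hb : ∀ x y, b (x * y) = b x + b y := by
    intro x y
    simp only [b]
    rw [← Finset.sum_add_distrib]
    refine Finset.sum_congr rfl fun j _ => ?_
    rw [hit, hb₁]; ring
  have hb0 : ∀ x, a x = 0 → b x = b₀ x := by
    intro x hx
    have key : ∀ j : ℕ, a ((ρ : Q → Q)^[j] x) = 0 ∧ b₀ ((ρ : Q → Q)^[j] x) = lam ^ j * b₀ x := by
      intro j
      induction j with
      | zero => exact ⟨hx, by simp⟩
      | succ j ih =>
        rw [Function.iterate_succ_apply', haρ, ih.1, mul_zero, hb₀ρ _ ih.1, ih.2, pow_succ]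
        exact ⟨rfl, by ring⟩
    simp only [b]
    rw [Finset.sum_congr rfl (g := fun _ => b₀ x)]
    · rw [Finset.sum_const, Finset.card_range, nsmul_eq_mul, hNodd, one_mul]
    · intro j _
      rw [hb₁0 _ (key j).1, (key j).2, ← mul_assoc, ← mul_pow, inv_mul_cancel₀ hlam0, one_pow, one_mul]
  have hbρ : ∀ x, b (ρ x) = lam * b x := by
    intro x
    let g : ℕ → K := fun j => lam * ((lam⁻¹) ^ j * b₁ ((ρ : Q → Q)^[j] x))
    have h1 : b (ρ x) = ∑ j ∈ Finset.range N, g (j + 1) := by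
      simp only [b, g]
      refine Finset.sum_congr rfl fun j _ => ?_
      rw [← Function.iterate_succ_apply, pow_succ]
      field_simp
    have h2 : lam * b x = ∑ j ∈ Finset.range N, g j := by
      simp only [b, g]
      rw [Finset.mul_sum]
    have h3 : g N = g 0 := by
      simp only [g]
      rw [inv_pow, hlamN, hρN]
      simp
    have h4 : ∑ j ∈ Finset.range N, g (j + 1) + g 0 = ∑ j ∈ Finset.range N, g j + g N := by
      rw [← Finset.sum_range_succ, Finset.sum_range_succ']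
    rw [h1, h2]
    rw [h3] at h4
    exact add_right_cancel h4
  -- surjectivity
  have hsurj : ∀ s t, ∃ x, a x = s ∧ b x = t := by
    intro s t
    obtain ⟨x, hx⟩ := has s
    obtain ⟨y, hy1, hy2⟩ := hb₀s (b x + t)
    refine ⟨x * y, by rw [ha, hx, hy1, add_zero], ?_⟩
    rw [hb, hb0 y hy1, hy2, ← add_assoc, CharTwo.add_self_eq_zero, zero_add]
  have hfix : ∀ x, a x = 0 → b x = 0 → ∃ c, ι c = x := by
    intro x hx hbx
    rw [hb0 x hx] at hbx
    exact hfix0 x hx hbx
  have hι : ∀ c, a (ι c) = 0 ∧ b (ι c) = 0 := fun c => ⟨haι c, by rw [hb0 _ (haι c), hb₀ι]⟩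
  -- squares
  choose s hs using hna.2.1
  have hsρ : ∀ x, s (ρ x) = lam * s x := by
    intro x
    apply h.inj'
    rw [← hs, ← map_mul, hs, h.rho]
  choose f hf using hcm
  have hfu : ∀ {x y c}, Cm ι x y c → f x y = c := fun h1 => h.cm_uniq (hf _ _) h1
  have hfs : ∀ x y, f x y = f y x := fun x y => hfu (h.cm_symm (hf y x))
  have hsmul : ∀ x y, s (x * y) = s x + s y + f y x := by
    intro x y
    apply h.inj'
    rw [← hs, h.add, h.add, ← hs x, ← hs y]
    have h1 := hf y x
    unfold Cm at h1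
    calc x * y * (x * y) = x * (y * x) * y := by group
      _ = x * x * (y * ι (f y x)) * y := by rw [h1]; group
      _ = x * x * (y * (ι (f y x) * y)) := by group
      _ = x * x * (y * y) * ι (f y x) := by rw [← h.comm]; group
  have hsι : ∀ c, s (ι c) = 0 := by
    intro c
    apply h.inj'
    rw [← hs, h.sq, h.zero]
  -- the section: elements with b = 0
  choose k hk1 hk2 using fun t => hsurj t 0
  have hsk : ∀ t, s (k t) = t * s (k 1) := by
    intro t
    refine hom_one h.gen (fun t => s (k t)) ?_ ?_ t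
    · show s (k 0) = 0
      obtain ⟨c, hc⟩ := hfix (k 0) (hk1 0) (hk2 0)
      rw [← hc, hsι]
    · intro t
      show s (k (lam * t)) = lam * s (k t)
      rw [← hsρ]
      have h1 : a ((ρ (k t))⁻¹ * k (lam * t)) = 0 := by
        rw [ha, ha_inv, haρ, hk1, hk1, CharTwo.add_self_eq_zero]
      have hb_inv : ∀ x, b x⁻¹ = b x := by
        intro x
        have h2 := hb x⁻¹ x
        have h3 : b 1 = 0 := by
          have h4 := hb 1 1
          rw [mul_one] at h4
          exact left_eq_add.mp h4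
        rw [inv_mul_cancel, h3] at h2
        exact (CharTwo.add_eq_zero.1 h2.symm)
      have h2 : b ((ρ (k t))⁻¹ * k (lam * t)) = 0 := by
        rw [hb, hb_inv, hbρ, hk2, hk2, mul_zero, add_zero]
      obtain ⟨c, hc⟩ := hfix _ h1 h2
      have h3 : k (lam * t) = ρ (k t) * ι c := by rw [hc]; group
      rw [h3, hsmul, hsι, add_zero, hfu (h.cm_iota c _), add_zero]
  refine ⟨a, b, C, (s (k 1)) ^ 2 / C ^ 2, hC, ha, hb, hsurj, hfix, hι, ?_⟩
  intro x r hr
  have hrs : r = s x := by
    apply h.inj'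
    rw [← hr, hs]
  -- x = k (a x) * y with y in ker a
  set y := (k (a x))⁻¹ * x with hy
  have hxy : x = k (a x) * y := by rw [hy]; group
  have hay : a y = 0 := by rw [hy, ha, ha_inv, hk1, CharTwo.add_self_eq_zero]
  have hby : b x = b y := by
    conv_lhs => rw [hxy]
    rw [hb, hk2, zero_add]
  have h1 : s x = a x * s (k 1) + C * b y + f (k (a x)) y := by
    conv_lhs => rw [hxy]
    rw [hsmul, hsk, hfs]
    congr 2
    apply h.inj'
    rw [← hs, hsq y hay, hb0 y hay]
  have h2 := hbil (k (a x)) y _ (hf _ _) hay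
  rw [hk1, ← hb0 y hay] at h2
  rw [hrs, h1, CharTwo.add_sq, CharTwo.add_sq, h2, ← hby]
  field_simp
  ring

end Cfsg.Agent.Lib.InvU3
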