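import Mathlib

/-!
A central extension of an elementary abelian 2-group by an elementary abelian 2-group is determined by its
squaring map. (helper33)
-/

set_option autoImplicit false
set_option linter.unusedSectionVars false
set_option linter.unusedVariables false

namespace Cfsg.Agent.Lib.InvU3

universe u v w z

/-- central extension data -/
structure CE {A : Type w} {V : Type z} [AddCommGroup A] [AddCommGroup V] {Q : Type u} [Group Q]
    (i : A → Q) (p : Q → V) (s : V → A) : Prop where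
  add : ∀ a b, i (a + b) = i a * i b
  inj : ∀ a, i a = 1 → a = 0
  cen : ∀ a x, x * i a = i a * x
  mul : ∀ x y, p (x * y) = p x + p y
  ker : ∀ x, p x = 0 → ∃ a, i a = x
  pi : ∀ a, p (i a) = 0
  surj : ∀ t, ∃ x, p x = t
  sq : ∀ x, x * x = i (s (p x))

theorem iso_of_sq {A : Type w} {V : Type z} [AddCommGroup A] [AddCommGroup V] (hA : ∀ a : A, a + a = 0)
    {Q₁ : Type u} {Q₂ : Type v} [Group Q₁] [Group Q₂] [Finite Q₁] [Finite Q₂]
    {i₁ : A → Q₁} {p₁ : Q₁ → V} {i₂ : A → Q₂} {p₂ : Q₂ → V} {s : V → A}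
    (h₁ : CE i₁ p₁ s) (h₂ : CE i₂ p₂ s) : Nonempty (Q₁ ≃* Q₂) := by
  classical
  have z1 : i₁ 0 = 1 := by
    have h := h₁.add 0 0
    rw [add_zero] at h
    exact left_eq_mul.mp h
  have z2 : i₂ 0 = 1 := by
    have h := h₂.add 0 0
    rw [add_zero] at h
    exact left_eq_mul.mp h
  have q1 : ∀ a, i₁ a * i₁ a = 1 := fun a => by rw [← h₁.add, hA, z1]
  have q2 : ∀ a, i₂ a * i₂ a = 1 := fun a => by rw [← h₂.add, hA, z2]
  have inv1 : ∀ a, (i₁ a)⁻¹ = i₁ a := fun a => inv_eq_of_mul_eq_one_left (q1 a)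
  have inv2 : ∀ a, (i₂ a)⁻¹ = i₂ a := fun a => inv_eq_of_mul_eq_one_left (q2 a)
  have p11 : p₁ 1 = 0 := by rw [← z1]; exact h₁.pi 0
  have p21 : p₂ 1 = 0 := by rw [← z2]; exact h₂.pi 0
  have pinv1 : ∀ x, p₁ x⁻¹ = -p₁ x := by
    intro x
    have h := h₁.mul x⁻¹ x
    rw [inv_mul_cancel, p11] at h
    exact (neg_eq_of_add_eq_zero_left h.symm).symm
  have pinv2 : ∀ x, p₂ x⁻¹ = -p₂ x := by
    intro x
    have h := h₂.mul x⁻¹ x
    rw [inv_mul_cancel, p21] at h
    exact (neg_eq_of_add_eq_zero_left h.symm).symm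
  -- good subgroups
  let Good : Subgroup (Q₁ × Q₂) → Prop := fun C =>
    (∀ g ∈ C, p₁ g.1 = p₂ g.2) ∧ (∀ a, (i₁ a, i₂ a) ∈ C) ∧ (∀ a, (i₁ a, (1 : Q₂)) ∈ C → a = 0)
  let Δ : Subgroup (Q₁ × Q₂) :=
    { carrier := {g | ∃ a, g = (i₁ a, i₂ a)}
      mul_mem' := by
        rintro _ _ ⟨a, rfl⟩ ⟨b, rfl⟩
        exact ⟨a + b, by rw [h₁.add, h₂.add]; rfl⟩
      one_mem' := ⟨0, by rw [z1, z2]; rfl⟩
      inv_mem' := by
        rintro _ ⟨a, rfl⟩
        exact ⟨a, by rw [Prod.inv_mk, inv1, inv2]⟩ }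
  have hΔ : Good Δ := by
    refine ⟨?_, fun a => ⟨a, rfl⟩, ?_⟩
    · rintro _ ⟨a, rfl⟩
      show p₁ (i₁ a) = p₂ (i₂ a)
      rw [h₁.pi, h₂.pi]
    · rintro a ⟨b, hb⟩
      have hb1 : i₁ a = i₁ b := congrArg Prod.fst hb
      have hb2 : (1 : Q₂) = i₂ b := congrArg Prod.snd hb
      have hb0 := h₂.inj b hb2.symm
      rw [hb0, z1] at hb1
      exact h₁.inj a hb1
  obtain ⟨C, hC, hmax⟩ : ∃ C, Good C ∧ ∀ C', Good C' → C ≤ C' → C' ≤ C := by
    have hfin : (Set.univ : Set (Subgroup (Q₁ × Q₂))).Finite := Set.toFinite _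
    obtain ⟨C, -, hC⟩ := (hfin.subset (Set.subset_univ {C | Good C})).exists_le_maximal (a := Δ) hΔ
    exact ⟨C, hC.1, fun C' hC' hle => hC.2 hC' hle⟩
  obtain ⟨hC1, hC2, hC3⟩ := hC
  -- commutators in P lie in C
  have hconj : ∀ g : Q₁ × Q₂, p₁ g.1 = p₂ g.2 → ∀ c ∈ C, g⁻¹ * c * g ∈ C := by
    intro g hg c hc
    have hc' := hC1 c hc
    have hgg : g * g ∈ C := by
      have : g * g = (i₁ (s (p₁ g.1)), i₂ (s (p₁ g.1))) := by
        refine Prod.ext (h₁.sq _) ?_
        show g.2 * g.2 = _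
        rw [h₂.sq, hg]
      rw [this]; exact hC2 _
    have hcg : (c * g) * (c * g) ∈ C := by
      have hcg' : p₁ (c * g).1 = p₂ (c * g).2 := by
        show p₁ (c.1 * g.1) = p₂ (c.2 * g.2)
        rw [h₁.mul, h₂.mul, hc', hg]
      have : (c * g) * (c * g) = (i₁ (s (p₁ (c * g).1)), i₂ (s (p₁ (c * g).1))) := by
        refine Prod.ext (h₁.sq _) ?_
        show (c * g).2 * (c * g).2 = _
        rw [h₂.sq, hcg']
      rw [this]; exact hC2 _
    -- g c g = c⁻¹ (cg)(cg), so g⁻¹ c g = (g g)⁻¹ (g c g)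
    have e : g⁻¹ * c * g = (g * g)⁻¹ * (c⁻¹ * ((c * g) * (c * g))) := by group
    rw [e]
    exact mul_mem (inv_mem hgg) (mul_mem (inv_mem hc) hcg)
  have hcov : ∀ g : Q₁ × Q₂, p₁ g.1 = p₂ g.2 → ∃ a, g * (i₁ a, 1) ∈ C := by
    intro g hg
    by_contra hcon
    push Not at hcon
    have hgg : g * g ∈ C := by
      have : g * g = (i₁ (s (p₁ g.1)), i₂ (s (p₁ g.1))) := by
        refine Prod.ext (h₁.sq _) ?_
        show g.2 * g.2 = _
        rw [h₂.sq, hg]
      rw [this]; exact hC2 _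
    have hcj := hconj g hg
    let C' : Subgroup (Q₁ × Q₂) :=
      { carrier := {x | x ∈ C ∨ x * g ∈ C}
        mul_mem' := by
          rintro x y (hx | hx) (hy | hy)
          · exact Or.inl (mul_mem hx hy)
          · right
            rw [mul_assoc]; exact mul_mem hx hy
          · right
            have e : x * y * g = (x * g) * (g⁻¹ * y * g) := by group
            rw [e]
            exact mul_mem hx (hcj y hy)
          · left
            have e : x * y = (x * g) * (g⁻¹ * (y * g) * g) * (g * g)⁻¹ := by group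
            rw [e]
            exact mul_mem (mul_mem hx (hcj _ hy)) (inv_mem hgg)
        one_mem' := Or.inl (one_mem _)
        inv_mem' := by
          rintro x (hx | hx)
          · exact Or.inl (inv_mem hx)
          · right
            have e : x⁻¹ * g = (g * g) * (g⁻¹ * (x * g)⁻¹ * g) := by group
            rw [e]
            exact mul_mem hgg (hcj _ (inv_mem hx)) }
    have hgood : Good C' := by
      refine ⟨?_, fun a => Or.inl (hC2 a), ?_⟩
      · rintro x (hx | hx)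
        · exact hC1 x hx
        · have h5 := hC1 _ hx
          have h6 : p₁ (x.1 * g.1) = p₂ (x.2 * g.2) := h5
          rw [h₁.mul, h₂.mul, hg] at h6
          exact add_right_cancel h6
      · rintro a (ha | ha)
        · exact hC3 a ha
        · exfalso
          apply hcon a
          have e : g * (i₁ a, (1 : Q₂)) = (i₁ a, 1) * g := by
            refine Prod.ext (h₁.cen a g.1) ?_
            show g.2 * 1 = 1 * g.2
            rw [mul_one, one_mul]
          rw [e]; exact ha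
    have hle : C ≤ C' := fun x hx => Or.inl hx
    have h7 := hmax C' hgood hle
    have h8 : g⁻¹ ∈ C' := Or.inr (by rw [inv_mul_cancel]; exact one_mem _)
    have h9 : g ∈ C := by
      have := inv_mem (h7 h8)
      rwa [inv_inv] at this
    apply hcon 0
    rw [z1]
    show g * 1 ∈ C
    rw [mul_one]; exact h9
  have hf1 : Function.Bijective ((MonoidHom.fst Q₁ Q₂).comp C.subtype) := by
    constructor
    · rw [← MonoidHom.ker_eq_bot_iff, eq_bot_iff]
      rintro ⟨⟨x, y⟩, hxy⟩ hk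
      have hx : x = 1 := hk
      subst hx
      have h5 : p₁ 1 = p₂ y := hC1 _ hxy
      rw [p11] at h5
      obtain ⟨a, rfl⟩ := h₂.ker y h5.symm
      have h6 := mul_mem (hC2 a) (inv_mem hxy)
      have h7 : (i₁ a, i₂ a) * ((1 : Q₁), i₂ a)⁻¹ = (i₁ a, 1) := by
        refine Prod.ext ?_ ?_
        · show i₁ a * 1⁻¹ = i₁ a
          rw [inv_one, mul_one]
        · show i₂ a * (i₂ a)⁻¹ = 1
          rw [mul_inv_cancel]
      rw [h7] at h6
      have h8 := hC3 a h6
      rw [Subgroup.mem_bot]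
      apply Subtype.ext
      show ((1 : Q₁), i₂ a) = 1
      rw [h8, z2]
      rfl
    · intro x
      obtain ⟨y, hy⟩ := h₂.surj (p₁ x)
      obtain ⟨a, ha⟩ := hcov (x, y) hy.symm
      have h6 := mul_mem ha (hC2 a)
      refine ⟨⟨_, h6⟩, ?_⟩
      show x * i₁ a * i₁ a = x
      rw [mul_assoc, q1, mul_one]
  have hf2 : Function.Bijective ((MonoidHom.snd Q₁ Q₂).comp C.subtype) := by
    constructor
    · rw [← MonoidHom.ker_eq_bot_iff, eq_bot_iff]
      rintro ⟨⟨x, y⟩, hxy⟩ hk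
      have hy : y = 1 := hk
      subst hy
      have h5 : p₁ x = p₂ 1 := hC1 _ hxy
      rw [p21] at h5
      obtain ⟨a, rfl⟩ := h₁.ker x h5
      have h8 := hC3 a hxy
      rw [Subgroup.mem_bot]
      apply Subtype.ext
      show (i₁ a, (1 : Q₂)) = 1
      rw [h8, z1]
      rfl
    · intro y
      obtain ⟨x, hx⟩ := h₁.surj (p₂ y)
      obtain ⟨a, ha⟩ := hcov (x, y) hx
      refine ⟨⟨_, ha⟩, ?_⟩
      show y * 1 = y
      rw [mul_one]
  exact ⟨(MulEquiv.ofBijective _ hf1).symm.trans (MulEquiv.ofBijective _ hf2)⟩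

end Cfsg.Agent.Lib.InvU3
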