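import Cfsg.Agent.Lib.InvU3f
import Cfsg.Agent.Lib.InvU3g
import Cfsg.Agent.Lib.SylU3
import Cfsg.Agent.Lib.PSLSylow

/-!
Identification of the non-abelian groups with the Sylow 2-subgroups of `PSL(3,q)` and `PSU(3,q)`. (helper33)
-/

set_option autoImplicit false
set_option linter.unusedSectionVars false
set_option linter.unusedVariables false

namespace Cfsg.Agent.Lib.InvU3

universe u

open Subgroup Polynomial

/-- a square root in characteristic 2 -/
theorem exists_sr (K : Type) [Field K] [Finite K] [CharP K 2] : ∃ sr : K → K, (∀ x y, sr (x + y) = sr x + sr y) ∧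
    (∀ x, sr x ^ 2 = x) := by
  haveI : Fact (Nat.Prime 2) := ⟨Nat.prime_two⟩
  haveI : PerfectRing K 2 := inferInstance
  exact ⟨(frobeniusEquiv K 2).symm, fun x y => map_add _ x y, fun x => frobeniusEquiv_symm_pow_p K 2 x⟩

theorem sq_inj {K : Type} [Field K] [CharP K 2] {x y : K} (h : x ^ 2 = y ^ 2) : x = y := by
  have h1 : (x + y) ^ 2 = 0 := by
    rw [CharTwo.add_sq, h, CharTwo.add_self_eq_zero]
  have h2 : x + y = 0 := by
    rcases pow_eq_zero_iff (two_ne_zero) |>.1 h1 with h3
    exact h3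
  exact CharTwo.add_eq_zero.1 h2

section PSL

open Matrix MatrixGroups

variable (K : Type) [Field K] [Finite K] [CharP K 2]

theorem um3_isUT (a b c : K) : PSLAut.IsUT (SylU3.um a b c) := by
  constructor
  · intro i
    fin_cases i <;> simp [SylU3.um]
  · intro i j hij
    fin_cases i <;> fin_cases j <;> simp_all [SylU3.um]

theorem isUT_eq_um {M : Matrix (Fin 3) (Fin 3) K} (hM : PSLAut.IsUT M) : M = SylU3.um (M 0 1) (M 0 2) (M 1 2) := by
  ext i j
  have h0 := hM.1 0
  have h1 := hM.1 1
  have h2 := hM.1 2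
  have h3 := hM.2 1 0 (by decide)
  have h4 := hM.2 2 0 (by decide)
  have h5 := hM.2 2 1 (by decide)
  fin_cases i <;> fin_cases j <;> simp [SylU3.um] <;> assumption

/-- elements of the unitriangular group -/
def uu (a b c : K) : PSLAut.UT 3 K := ⟨⟨SylU3.um a b c, SylU3.um_det a b c⟩, um3_isUT K a b c⟩

theorem uu_mul (a b c a' b' c' : K) : uu K a b c * uu K a' b' c' = uu K (a + a') (b' + a * c' + b) (c + c') := by
  apply Subtype.ext
  apply Subtype.ext
  exact SylU3.um_mul a b c a' b' c'

theorem exists_uu (x : PSLAut.UT 3 K) : ∃ a b c, x = uu K a b c := by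
  obtain ⟨⟨M, hM⟩, hU⟩ := x
  refine ⟨M 0 1, M 0 2, M 1 2, ?_⟩
  apply Subtype.ext
  apply Subtype.ext
  exact isUT_eq_um K hU

theorem uu_one : uu K 0 0 0 = 1 := by
  apply Subtype.ext
  apply Subtype.ext
  exact SylU3.um_one

theorem ce_UT : CE (A := K) (V := K × K) (Q := PSLAut.UT 3 K) (fun c => uu K 0 c 0)
    (fun x => (x.1.1 0 1, x.1.1 1 2)) (fun t => t.1 * t.2) where
  add a b := by
    rw [uu_mul]
    congr 1 <;> ring
  inj a h := by
    have h1 := congrArg (fun x : PSLAut.UT 3 K => x.1.1 0 2) (h.trans (uu_one K).symm)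
    simpa [uu, SylU3.um] using h1
  cen a x := by
    obtain ⟨b, c, d, rfl⟩ := exists_uu K x
    rw [uu_mul, uu_mul]
    congr 1 <;> ring
  mul x y := by
    obtain ⟨b, c, d, rfl⟩ := exists_uu K x
    obtain ⟨b', c', d', rfl⟩ := exists_uu K y
    rw [uu_mul]
    simp [uu, SylU3.um]
  ker x h := by
    obtain ⟨b, c, d, rfl⟩ := exists_uu K x
    refine ⟨c, ?_⟩
    have h1 : b = 0 := by
      have := congrArg Prod.fst h
      simpa [uu, SylU3.um] using this
    have h2 : d = 0 := by
      have := congrArg Prod.snd h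
      simpa [uu, SylU3.um] using this
    rw [h1, h2]
  pi a := by simp [uu, SylU3.um]
  surj t := ⟨uu K t.1 0 t.2, by simp [uu, SylU3.um]⟩
  sq x := by
    obtain ⟨b, c, d, rfl⟩ := exists_uu K x
    rw [uu_mul]
    simp only [CharTwo.add_self_eq_zero]
    have e : c + b * d + c = b * d := by
      have := CharTwo.add_self_eq_zero c
      linear_combination this
    rw [e]
    simp [uu, SylU3.um]

theorem UT_equiv [Fintype K] (S : Sylow 2 (Matrix.ProjectiveSpecialLinearGroup (Fin 3) K)) :
    Nonempty (PSLAut.UT 3 K ≃* ↥(S : Subgroup (Matrix.ProjectiveSpecialLinearGroup (Fin 3) K))) := by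
  haveI : Fact (Nat.Prime 2) := ⟨Nat.prime_two⟩
  have hinj : Function.Injective ((QuotientGroup.mk' (Subgroup.center (Matrix.SpecialLinearGroup (Fin 3) K))).comp
      (PSLAut.UT 3 K).subtype) := by
    intro s t h
    exact Subtype.ext (PSLAut.eq_of_isUT_of_mk_eq (by norm_num) s.2 t.2 h)
  have hr : ((QuotientGroup.mk' (Subgroup.center (Matrix.SpecialLinearGroup (Fin 3) K))).comp
      (PSLAut.UT 3 K).subtype).range = PSLAut.UTb 3 K := by
    rw [MonoidHom.range_comp, range_subtype]; rfl
  have h1 : PSLAut.UTb 3 K = ((PSLAut.SylUTb 3 K 2 : Sylow 2 _) : Subgroup (Matrix.ProjectiveSpecialLinearGroup (Fin 3) K)) :=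
    (PSLAut.coe_SylUTb 3 K 2).symm
  exact ⟨((MonoidHom.ofInjective hinj).trans (MulEquiv.subgroupCongr (hr.trans h1))).trans
    (Sylow.equiv (PSLAut.SylUTb 3 K 2) S)⟩

end PSL

section PSU

variable {F : Type} [Field F] [Fintype F] [CharP F 2] {q : ℕ}

open SylU3 ClUnitary HermMat

theorem ce_U3 (hF : Fintype.card F = q ^ 2) {K : Type} [Field K] [CharP K 2] (φ : K →+* F)
    (hφ : ∀ z : F, z ^ q = z ↔ ∃ c, φ c = z) (s : F → K) (hs : ∀ z, φ (s z) = z * z ^ q) :
    CE (A := K) (V := F) (Q := U3 hF) (fun c => el hF 0 (φ c) (by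
      have h2 := two_le_q hF
      unfold Cd
      rw [(hφ _).2 ⟨c, rfl⟩, zero_pow (by omega), mul_zero, add_zero]; exact CharTwo.add_self_eq_zero _))
    (fun x => x.1.1 0 1) s where
  add a b := by
    have h2 := two_le_q hF
    rw [el_mul]
    apply el_eq
    · rw [add_zero]
    · rw [zero_mul, add_zero, map_add, add_comm]
  inj a h := by
    have h2 := two_le_q hF
    have h0 : Cd q (0 : F) 0 := by unfold Cd; rw [zero_pow (by omega)]; ring
    have h1 := el_inj (h.trans (el_one (hF := hF) (h := h0)).symm)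
    exact (map_eq_zero φ).1 h1.2
  cen a x := by
    have h2 := two_le_q hF
    obtain ⟨b, c, h, rfl⟩ := exists_el hF x
    rw [el_mul, el_mul]
    apply el_eq
    · ring
    · rw [zero_pow (by omega)]; ring
  mul x y := by
    obtain ⟨b, c, h, rfl⟩ := exists_el hF x
    obtain ⟨b', c', h', rfl⟩ := exists_el hF y
    rw [el_mul]
    rfl
  ker x hx := by
    have h2 := two_le_q hF
    obtain ⟨b, c, h, rfl⟩ := exists_el hF x
    have hb : b = 0 := hx
    subst hb
    have hc : c ^ q = c := by
      unfold Cd at h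
      rw [zero_mul, add_zero] at h
      exact (CharTwo.add_eq_zero.1 h).symm
    obtain ⟨d, hd⟩ := (hφ c).1 hc
    exact ⟨d, el_eq rfl hd⟩
  pi a := rfl
  surj t := by
    have h2 := two_le_q hF
    have h3 : (-(t * t ^ q)) ^ q = -(t * t ^ q) := by
      rw [neg_pow_q hF, mul_pow, pow_q_pow_q hF, mul_comm]
    obtain ⟨b, hb⟩ := exists_trace hF h3
    exact ⟨el hF t b (by unfold Cd; rw [hb]; ring), rfl⟩
  sq x := by
    obtain ⟨b, c, h, rfl⟩ := exists_el hF x
    rw [el_mul]
    apply el_eq
    · exact CharTwo.add_self_eq_zero b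
    · show _ = φ (s b)
      rw [hs]
      have e1 : -(b ^ q) = b ^ q := CharTwo.neg_eq _
      rw [e1]
      have := CharTwo.add_self_eq_zero c
      linear_combination this

end PSU

variable {K : Type} [Field K] [CharP K 2] [Finite K] {lam : K} {Q : Type u} [Group Q] [Finite Q]
  {α ρ : Q ≃* Q} {ι : K → Q}

/-- the `CE` data for the group `Q` -/
theorem ce_Q (h : D lam Q α ρ ι) (hna : NA ι) {a b : Q → K} {C d : K} (hC : C ≠ 0)
    (ha : ∀ x y, a (x * y) = a x + a y) (hb : ∀ x y, b (x * y) = b x + b y)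
    (hab : ∀ s t, ∃ x, a x = s ∧ b x = t) (hker : ∀ x, a x = 0 → b x = 0 → ∃ c, ι c = x)
    (hι : ∀ c, a (ι c) = 0 ∧ b (ι c) = 0)
    (hsq : ∀ x r, x * x = ι r → r ^ 2 = C ^ 2 * (b x ^ 2 + a x * b x + d * a x ^ 2))
    {sr : K → K} (hsr : ∀ x y, sr (x + y) = sr x + sr y) (hsr2 : ∀ x, sr x ^ 2 = x)
    {V : Type} [AddCommGroup V] (f : K → K → V) (hf : ∀ x y x' y', f (x + x') (y + y') = f x y + f x' y')
    (hf0 : ∀ x y, f x y = 0 → x = 0 ∧ y = 0) (hfs : ∀ t, ∃ x y, f x y = t) (s : V → K)
    (hs : ∀ x y, s (f x y) = y ^ 2 + x * y + d * x ^ 2) :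
    CE (A := K) (V := V) (Q := Q) (fun c => ι (C * sr c)) (fun x => f (a x) (b x)) s where
  add x y := by
    rw [hsr, mul_add, h.add]
  inj x hx := by
    have h1 := h.inj _ hx
    have h2 : sr x = 0 := by
      rcases mul_eq_zero.1 h1 with h3 | h3
      · exact absurd h3 hC
      · exact h3
    rw [← hsr2 x, h2]; ring
  cen c x := (h.comm _ _)
  mul x y := by rw [ha, hb, hf]
  ker x hx := by
    obtain ⟨h1, h2⟩ := hf0 _ _ hx
    obtain ⟨c, rfl⟩ := hker x h1 h2
    refine ⟨(C⁻¹ * c) ^ 2, ?_⟩
    congr 1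
    have h3 : sr ((C⁻¹ * c) ^ 2) = C⁻¹ * c := sq_inj (hsr2 _)
    rw [h3, mul_inv_cancel_left₀ hC]
  pi c := by
    rw [(hι _).1, (hι _).2]
    have := hf 0 0 0 0
    rw [add_zero] at this
    exact left_eq_add.mp this
  surj t := by
    obtain ⟨x, y, hxy⟩ := hfs t
    obtain ⟨g, hg1, hg2⟩ := hab x y
    exact ⟨g, by rw [hg1, hg2, hxy]⟩
  sq x := by
    obtain ⟨r, hr⟩ := hna.2.1 x
    rw [hr, hs]
    congr 1
    apply sq_inj
    rw [hsq x r hr, mul_pow, hsr2]

theorem ident (h : D lam Q α ρ ι) (hna : NA ι) (hρN : ∀ x : Q, (ρ : Q → Q)^[Nat.card K - 1] x = x) {n : ℕ}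
    (hn : Nat.card K = 2 ^ n) :
    (∃ (F : Type) (_ : Field F) (_ : Fintype F), Fintype.card F = 4 ^ n ∧
      ∀ S : Sylow 2 (Cfsg.PSU 3 F (2 ^ n)), Nonempty (Q ≃* ↥(S : Subgroup (Cfsg.PSU 3 F (2 ^ n))))) ∨
    (∃ (F : Type) (_ : Field F) (_ : Fintype F), Fintype.card F = 2 ^ n ∧
      ∀ S : Sylow 2 (Matrix.ProjectiveSpecialLinearGroup (Fin 3) F),
        Nonempty (Q ≃* ↥(S : Subgroup (Matrix.ProjectiveSpecialLinearGroup (Fin 3) F)))) := by
  classical
  haveI : Fact (Nat.Prime 2) := ⟨Nat.prime_two⟩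
  obtain ⟨a, b, C, d, hC, ha, hb, hab, hker, hι, hsq⟩ := coords h hna hρN
  obtain ⟨sr, hsr, hsr2⟩ := exists_sr K
  by_cases hd : ∃ r : K, r ^ 2 + r = d
  · right
    obtain ⟨r, hr⟩ := hd
    haveI : Fintype K := Fintype.ofFinite K
    refine ⟨K, inferInstance, inferInstance, by rw [← Nat.card_eq_fintype_card, hn], fun S => ?_⟩
    obtain ⟨e⟩ := UT_equiv K S
    have hce := ce_Q h hna hC ha hb hab hker hι hsq hsr hsr2 (V := K × K)
      (fun x y => (y + r * x, y + (r + 1) * x)) (by
        intro x y x' y'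
        refine Prod.ext ?_ ?_
        · show y + y' + r * (x + x') = (y + r * x) + (y' + r * x'); ring
        · show y + y' + (r + 1) * (x + x') = (y + (r + 1) * x) + (y' + (r + 1) * x'); ring) (by
        intro x y hxy
        have h1 : y + r * x = 0 := congrArg Prod.fst hxy
        have h2 : y + (r + 1) * x = 0 := congrArg Prod.snd hxy
        have hx : x = 0 := by linear_combination h2 - h1
        refine ⟨hx, ?_⟩
        rw [hx] at h1; simpa using h1) (by
        intro t
        refine ⟨t.2 - t.1, t.1 - r * (t.2 - t.1), ?_⟩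
        refine Prod.ext ?_ ?_
        · show t.1 - r * (t.2 - t.1) + r * (t.2 - t.1) = t.1; ring
        · show t.1 - r * (t.2 - t.1) + (r + 1) * (t.2 - t.1) = t.2; ring)
      (fun t => t.1 * t.2) (by
        intro x y
        show (y + r * x) * (y + (r + 1) * x) = _
        have h2 : (2 : K) = 0 := CharTwo.two_eq_zero
        rw [← hr]
        linear_combination (r * x * y) * h2)
    obtain ⟨e'⟩ := iso_of_sq (fun c : K => CharTwo.add_self_eq_zero c) hce (ce_UT K)
    exact ⟨e'.trans e⟩
  · left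
    push Not at hd
    let f : K[X] := X ^ 2 + X + Polynomial.C d
    have hfd : f.natDegree = 2 := by
      show (X ^ 2 + X + Polynomial.C d : K[X]).natDegree = 2
      compute_degree!
    have hfm : f.Monic := by
      show (X ^ 2 + X + Polynomial.C d : K[X]).Monic
      monicity!
    have hfi : Irreducible f := by
      rw [Polynomial.irreducible_iff_roots_eq_zero_of_degree_le_three (by rw [hfd]) (by rw [hfd]; norm_num)]
      rw [Multiset.eq_zero_iff_forall_notMem]
      intro r hr
      rw [Polynomial.mem_roots hfm.ne_zero, Polynomial.IsRoot.def] at hr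
      simp only [f, eval_add, eval_pow, eval_X, eval_C] at hr
      exact hd r (CharTwo.add_eq_zero.1 hr)
    haveI : Fact (Irreducible f) := ⟨hfi⟩
    let F := AdjoinRoot f
    let φ : K →+* F := AdjoinRoot.of f
    let ω : F := AdjoinRoot.root f
    have hfr : Module.finrank K F = 2 := by
      rw [(AdjoinRoot.powerBasis hfm.ne_zero).finrank, AdjoinRoot.powerBasis_dim, hfd]
    haveI : Module.Finite K F := Module.finite_of_finrank_pos (by rw [hfr]; norm_num)
    haveI : Finite F := Module.finite_of_finite K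
    haveI : Fintype F := Fintype.ofFinite F
    haveI : CharP F 2 := charP_of_injective_ringHom φ.injective 2
    have hcard : Nat.card F = Nat.card K ^ 2 := by rw [Module.natCard_eq_pow_finrank (K := K), hfr]
    have hF : Fintype.card F = (2 ^ n) ^ 2 := by rw [← Nat.card_eq_fintype_card, hcard, hn]
    have hω : ω ^ 2 + ω + φ d = 0 := by
      have h1 := AdjoinRoot.eval₂_root f
      simp only [f, eval₂_add, eval₂_pow, eval₂_X, eval₂_C] at h1
      exact h1
    have hφq : ∀ c, φ c ^ (2 ^ n) = φ c := by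
      intro c
      haveI : Fintype K := Fintype.ofFinite K
      rw [← map_pow, ← hn, Nat.card_eq_fintype_card, FiniteField.pow_card]
    have hφ : ∀ z : F, z ^ (2 ^ n) = z ↔ ∃ c, φ c = z := by
      intro z
      constructor
      · intro hz
        by_contra hcon
        haveI : Fintype K := Fintype.ofFinite K
        have hq2 := HermMat.two_le_q hF
        have hne : (X ^ (2 ^ n) - X : F[X]) ≠ 0 := FiniteField.X_pow_card_sub_X_ne_zero F (by omega)
        have hsub : Finset.univ.image (fun o : Option K => o.elim z φ) ⊆ (X ^ (2 ^ n) - X : F[X]).roots.toFinset := by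
          intro y hy
          rw [Finset.mem_image] at hy
          obtain ⟨o, -, rfl⟩ := hy
          rw [Multiset.mem_toFinset, Polynomial.mem_roots hne, Polynomial.IsRoot.def, eval_sub, eval_pow, eval_X]
          rcases o with _ | c
          · show z ^ (2 ^ n) - z = 0
            rw [hz, sub_self]
          · show φ c ^ (2 ^ n) - φ c = 0
            rw [hφq, sub_self]
        have h1 := Finset.card_le_card hsub
        rw [Finset.card_image_of_injective _ (by
          intro o o' ho
          rcases o with _ | c <;> rcases o' with _ | c'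
          · rfl
          · exact absurd ⟨c', ho.symm⟩ hcon
          · exact absurd ⟨c, ho⟩ hcon
          · exact congrArg some (φ.injective ho))] at h1
        have h2 := Multiset.toFinset_card_le (X ^ (2 ^ n) - X : F[X]).roots
        have h3 := Polynomial.card_roots' (X ^ (2 ^ n) - X : F[X])
        rw [FiniteField.X_pow_card_sub_X_natDegree_eq F (by omega)] at h3
        rw [Finset.card_univ, ← Nat.card_eq_fintype_card, Finite.card_option, hn] at h1
        omega
      · rintro ⟨c, rfl⟩
        exact hφq c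
    have hωφ : ∀ c, φ c ≠ ω := by
      intro c hc
      rw [← hc, ← map_pow, ← map_add, ← map_add] at hω
      have h1 := (map_eq_zero φ).1 hω
      exact hd c (CharTwo.add_eq_zero.1 h1)
    have hadd : ∀ x y : F, (x + y) ^ (2 ^ n) = x ^ (2 ^ n) + y ^ (2 ^ n) := fun x y => add_pow_char_pow (p := 2) (n := n) x y
    have hωq : ω ^ (2 ^ n) = ω + 1 := by
      have h1 : (ω ^ (2 ^ n)) ^ 2 + ω ^ (2 ^ n) + φ d = 0 := by
        have h2 := congrArg (fun z : F => z ^ (2 ^ n)) hω
        simp only [hadd] at h2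
        rw [hφq, zero_pow (by positivity), ← pow_mul, mul_comm 2 (2 ^ n), pow_mul] at h2
        exact h2
      have h3 : (ω ^ (2 ^ n) + ω) * (ω ^ (2 ^ n) + ω + 1) = 0 := by
        have h2 : (2 : F) = 0 := CharTwo.two_eq_zero
        linear_combination h1 + hω + (ω ^ (2 ^ n) * ω - φ d) * h2
      rcases mul_eq_zero.1 h3 with h4 | h4
      · exfalso
        obtain ⟨c, hc⟩ := (hφ ω).1 (CharTwo.add_eq_zero.1 h4)
        exact hωφ c hc
      · have h2 : (2 : F) = 0 := CharTwo.two_eq_zero
        linear_combination h4 - (ω + 1) * h2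
    have hnorm : ∀ z : F, ∃ c, φ c = z * z ^ (2 ^ n) := by
      intro z
      apply (hφ _).1
      have h4 : (z ^ (2 ^ n)) ^ (2 ^ n) = z := HermMat.pow_q_pow_q hF z
      rw [mul_pow, h4, mul_comm]
    choose s hs using hnorm
    have hF4 : Fintype.card F = 4 ^ n := by
      rw [hF, ← pow_mul, mul_comm, pow_mul]; norm_num
    refine ⟨F, inferInstance, inferInstance, hF4, fun S => ?_⟩
    obtain ⟨e⟩ := SylU3.sylow_equiv hF S
    have hf0 : ∀ x y : K, φ y + ω * φ x = 0 → x = 0 ∧ y = 0 := by
      intro x y hxy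
      by_cases hx : x = 0
      · subst hx
        rw [map_zero, mul_zero, add_zero] at hxy
        exact ⟨rfl, (map_eq_zero φ).1 hxy⟩
      · exfalso
        apply hωφ (y / x)
        have hx' : φ x ≠ 0 := (map_ne_zero φ).2 hx
        rw [map_div₀, div_eq_iff hx']
        exact CharTwo.add_eq_zero.1 hxy
    have hfs : ∀ t : F, ∃ x y : K, φ y + ω * φ x = t := by
      have hbij : Function.Bijective (fun v : K × K => φ v.2 + ω * φ v.1) := by
        apply (Nat.bijective_iff_injective_and_card _).2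
        constructor
        · intro v w hvw
          have h1 : φ (v.2 - w.2) + ω * φ (v.1 - w.1) = 0 := by
            rw [map_sub, map_sub]
            linear_combination hvw
          obtain ⟨h2, h3⟩ := hf0 _ _ h1
          exact Prod.ext (sub_eq_zero.1 h2) (sub_eq_zero.1 h3)
        · rw [Nat.card_prod, hcard, sq]
      intro t
      obtain ⟨⟨x, y⟩, hxy⟩ := hbij.2 t
      exact ⟨x, y, hxy⟩
    have hce := ce_Q h hna hC ha hb hab hker hι hsq hsr hsr2 (V := F)
      (fun x y => φ y + ω * φ x) (by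
        intro x y x' y'
        show φ (y + y') + ω * φ (x + x') = (φ y + ω * φ x) + (φ y' + ω * φ x')
        rw [map_add, map_add]; ring) hf0 hfs s (by
        intro x y
        apply φ.injective
        rw [hs, hadd, mul_pow, hφq, hφq, hωq]
        simp only [map_add, map_mul, map_pow]
        have h2 : (2 : F) = 0 := CharTwo.two_eq_zero
        linear_combination (φ x ^ 2) * hω + (ω * φ x * φ y - φ d * φ x ^ 2) * h2)
    obtain ⟨e'⟩ := iso_of_sq (fun c : K => CharTwo.add_self_eq_zero c) hce (ce_U3 hF φ hφ s hs)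
    exact ⟨e'.trans e⟩

end Cfsg.Agent.Lib.InvU3
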