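import Cfsg.Agent.Lib.InvU3a

/-!
Construction of the field structure on the fixed points. (helper33)
-/

set_option autoImplicit false
set_option linter.unusedSectionVars false
set_option linter.unusedVariables false

namespace Cfsg.Agent.Lib.InvU3

universe u

open Subgroup Polynomial

/-- a transitive endomorphism generates a field -/
theorem exists_field (E : Type u) [AddCommGroup E] [Finite E] [Nontrivial E] (T : E →ₗ[ℤ] E)
    (htr : ∀ x y : E, x ≠ 0 → y ≠ 0 → ∃ k : ℕ, (T ^ k) x = y) :
    ∃ (K : Type) (_ : Field K) (act : K →+* Module.End ℤ E) (lam : K), act lam = T ∧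
      (∀ e : E, e ≠ 0 → ∀ e', ∃ a, act a e = e') ∧ (∀ a, a ≠ 0 → ∃ k : ℕ, lam ^ k = a) := by
  obtain ⟨e₀, he₀⟩ := exists_ne (0 : E)
  let ev : ℤ[X] →ₐ[ℤ] Module.End ℤ E := Polynomial.aeval T
  let I : Ideal ℤ[X] := RingHom.ker ev
  have hX : ∀ k : ℕ, ev (X ^ k) = T ^ k := by
    intro k
    simp [ev]
  have key : ∀ f : ℤ[X], f ∉ I → ∃ k : ℕ, X ^ k * f - 1 ∈ I := by
    intro f hf
    have h1 : ∃ e, ev f e ≠ 0 := by
      by_contra hcon
      push Not at hcon
      exact hf ((RingHom.mem_ker).2 (LinearMap.ext hcon))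
    obtain ⟨e, he⟩ := h1
    have he0 : e ≠ 0 := by rintro rfl; exact he (map_zero _)
    obtain ⟨k, hk⟩ := htr _ e he he0
    refine ⟨k, (RingHom.mem_ker).2 ?_⟩
    rw [map_sub, map_mul, map_one, hX, sub_eq_zero]
    apply LinearMap.ext
    intro e'
    by_cases he' : e' = 0
    · rw [he', map_zero, map_zero]
    obtain ⟨j, rfl⟩ := htr e e' he0 he'
    have h2 : (T ^ k * ev f) * T ^ j = T ^ j * (T ^ k * ev f) := by
      rw [← hX, ← hX, ← map_mul, ← map_mul, ← map_mul]
      congr 1; ring
    have h3 := congrArg (fun g : Module.End ℤ E => g e) h2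
    simp only [Module.End.mul_apply] at h3
    rw [Module.End.mul_apply, h3, hk]
    rfl
  have hone : (1 : ℤ[X]) ∉ I := by
    intro h1
    have h2 := (RingHom.mem_ker).1 h1
    rw [map_one] at h2
    apply he₀
    have h3 := congrArg (fun g : Module.End ℤ E => g e₀) h2
    exact h3
  haveI hI : I.IsMaximal := by
    rw [Ideal.isMaximal_iff]
    refine ⟨hone, fun J x hIJ hx hxJ => ?_⟩
    obtain ⟨k, hk⟩ := key x hx
    have h1 := J.sub_mem (J.mul_mem_left (X ^ k) hxJ) (hIJ hk)
    rwa [sub_sub_cancel] at h1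
  let act : ℤ[X] ⧸ I →+* Module.End ℤ E := Ideal.Quotient.lift I (ev : ℤ[X] →+* Module.End ℤ E) (fun a ha => ha)
  refine ⟨ℤ[X] ⧸ I, Ideal.Quotient.field I, act, Ideal.Quotient.mk I X, ?_, ?_, ?_⟩
  · show ev X = T
    simp [ev]
  · intro e he e'
    by_cases he' : e' = 0
    · exact ⟨0, by rw [map_zero, he']; rfl⟩
    obtain ⟨k, hk⟩ := htr e e' he he'
    refine ⟨Ideal.Quotient.mk I (X ^ k), ?_⟩
    show ev (X ^ k) e = e'
    rw [hX, hk]
  · intro a
    obtain ⟨f, rfl⟩ := Ideal.Quotient.mk_surjective a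
    intro ha
    have hf : f ∉ I := fun hf => ha (Ideal.Quotient.eq_zero_iff_mem.2 hf)
    have h1 : ∃ e, ev f e ≠ 0 := by
      by_contra hcon
      push Not at hcon
      exact hf ((RingHom.mem_ker).2 (LinearMap.ext hcon))
    obtain ⟨e, he⟩ := h1
    have he0 : e ≠ 0 := by rintro rfl; exact he (map_zero _)
    obtain ⟨k, hk⟩ := htr e _ he0 he
    refine ⟨k, ?_⟩
    rw [← map_pow, Ideal.Quotient.eq, RingHom.mem_ker, map_sub, hX, sub_eq_zero]
    apply LinearMap.ext
    intro e'
    by_cases he' : e' = 0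
    · rw [he', map_zero, map_zero]
    obtain ⟨j, rfl⟩ := htr e e' he0 he'
    have h2 : T ^ k * T ^ j = T ^ j * T ^ k := by
      rw [← pow_add, ← pow_add, add_comm]
    have h2' : ev f * T ^ j = T ^ j * ev f := by
      rw [← hX, ← map_mul, ← map_mul]
      congr 1; ring
    have h3 := congrArg (fun g : Module.End ℤ E => g e) h2
    have h3' := congrArg (fun g : Module.End ℤ E => g e) h2'
    simp only [Module.End.mul_apply] at h3 h3'
    rw [h3, h3', hk]

theorem exists_D {Q : Type u} [Group Q] [Finite Q] (hQ : IsPGroup 2 Q) (α ρ : Q ≃* Q) (haa : ∀ x, α (α x) = x)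
    (har : ∀ x, α (ρ x) = ρ (α x)) (C : Subgroup Q) (hC : ∀ x, x ∈ C ↔ α x = x)
    (hcomm : ∀ x ∈ C, ∀ y ∈ C, x * y = y * x) (hsq : ∀ x ∈ C, x * x = 1) (hne : C ≠ ⊥)
    (htr : ∀ x y, x ∈ C → y ∈ C → x ≠ 1 → y ≠ 1 → ∃ k : ℕ, (ρ : Q → Q)^[k] x = y) :
    ∃ (K : Type) (_ : Field K) (_ : CharP K 2) (_ : Finite K) (lam : K) (ι : K → Q),
      Nat.card K = Nat.card C ∧ D lam Q α ρ ι := by
  classical
  have hρC : ∀ x ∈ C, ρ x ∈ C := by
    intro x hx
    rw [hC, har, (hC x).1 hx]
  letI : CommGroup C := { (inferInstance : Group C) with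
    mul_comm := fun x y => Subtype.ext (hcomm x x.2 y y.2) }
  let R : C →* C :=
    { toFun := fun x => ⟨ρ x, hρC x x.2⟩
      map_one' := Subtype.ext (map_one ρ)
      map_mul' := fun x y => Subtype.ext (map_mul ρ _ _) }
  let T : Additive C →ₗ[ℤ] Additive C := (MonoidHom.toAdditive R).toIntLinearMap
  have hT : ∀ x : Additive C, T x = Additive.ofMul (R (Additive.toMul x)) := fun x => rfl
  have hTk : ∀ (k : ℕ) (x : Additive C), (((T ^ k) x).toMul : Q) = (ρ : Q → Q)^[k] (x.toMul : Q) := by
    intro k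
    induction k with
    | zero => intro x; rfl
    | succ k ih =>
      intro x
      rw [pow_succ', Module.End.mul_apply, Function.iterate_succ_apply', ← ih, hT]
      rfl
  haveI : Nontrivial (Additive C) := by
    have h1 : Nontrivial C := (Subgroup.nontrivial_iff_ne_bot C).2 hne
    exact inferInstanceAs (Nontrivial C)
  haveI : Finite (Additive C) := inferInstanceAs (Finite C)
  obtain ⟨K, hK, act, lam, hlam, htrans, hgen⟩ := exists_field (Additive C) T (by
    intro x y hx hy
    have hx' : (x.toMul : Q) ≠ 1 := by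
      intro h1; apply hx
      have : x.toMul = 1 := Subtype.ext h1
      exact this
    have hy' : (y.toMul : Q) ≠ 1 := by
      intro h1; apply hy
      have : y.toMul = 1 := Subtype.ext h1
      exact this
    obtain ⟨k, hk⟩ := htr _ _ x.toMul.2 y.toMul.2 hx' hy'
    refine ⟨k, ?_⟩
    have h2 : ((T ^ k) x).toMul = y.toMul := Subtype.ext (by rw [hTk, hk])
    exact h2)
  obtain ⟨e₀, he₀⟩ := exists_ne (0 : Additive C)
  let ι : K → Q := fun a => ((act a e₀).toMul : Q)
  have hinj : ∀ a, act a e₀ = 0 → a = 0 := by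
    intro a ha
    by_contra hne0
    apply he₀
    have h1 : act (a⁻¹ * a) e₀ = 0 := by
      rw [map_mul, Module.End.mul_apply, ha, map_zero]
    rw [inv_mul_cancel₀ hne0, map_one] at h1
    exact h1
  have hι1 : ∀ a, ι a = 1 → a = 0 := by
    intro a ha
    apply hinj
    have : (act a e₀).toMul = 1 := Subtype.ext ha
    exact this
  have hadd : ∀ a b, ι (a + b) = ι a * ι b := by
    intro a b
    show ((act (a + b) e₀).toMul : Q) = _
    rw [map_add, LinearMap.add_apply, toMul_add]
    rfl
  have hι' : ∀ a, ι a ∈ C := fun a => (act a e₀).toMul.2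
  have hbij : Function.Bijective (fun a : K => act a e₀) := by
    constructor
    · intro a b hab
      have h1 : act (a - b) e₀ = 0 := by
        rw [map_sub, LinearMap.sub_apply, sub_eq_zero]; exact hab
      exact sub_eq_zero.1 (hinj _ h1)
    · intro e'
      exact htrans e₀ he₀ e'
  haveI hKf : Finite K := Finite.of_injective _ hbij.1
  have hcard : Nat.card K = Nat.card C := by
    rw [Nat.card_congr (Equiv.ofBijective _ hbij)]
    exact Nat.card_congr Additive.toMul
  have h2 : (2 : K) = 0 := by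
    apply hι1
    have h3 : (2 : K) = 1 + 1 := by norm_num
    rw [h3, hadd]
    exact hsq _ (hι' 1)
  haveI hchar : CharP K 2 := CharTwo.of_one_ne_zero_of_two_eq_zero one_ne_zero h2
  refine ⟨K, hK, hchar, hKf, lam, ι, hcard, ?_⟩
  exact
    { p2 := hQ
      aa := haa
      ar := har
      add := hadd
      inj := hι1
      fix := by
        intro x
        rw [← hC]
        constructor
        · intro hx
          obtain ⟨a, ha⟩ := hbij.2 (Additive.ofMul ⟨x, hx⟩)
          refine ⟨a, ?_⟩
          show ((act a e₀).toMul : Q) = x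
          have ha' : act a e₀ = Additive.ofMul ⟨x, hx⟩ := ha
          rw [ha']
          rfl
        · rintro ⟨a, rfl⟩
          exact hι' a
      rho := by
        intro a
        show _ = ((act (lam * a) e₀).toMul : Q)
        rw [map_mul, hlam, Module.End.mul_apply, hT]
        rfl
      gen := hgen }

end Cfsg.Agent.Lib.InvU3
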