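import Cfsg.Agent.Lib.SeqIndNil
import Cfsg.Agent.Lib.TIFN3
import Cfsg.Agent.Lib.CoherenceIrr
import Cfsg.Agent.S1492

/-!
Coherence for sets of irreducible characters, possibly real (Feit's version).
-/

set_option autoImplicit false
open Cfsg
open Cfsg.Agent.Lib.CharBasic Cfsg.Agent.Lib.Coherence Cfsg.Agent.Lib.CoherenceSys
open Cfsg.Agent.Lib.CoherenceExt Cfsg.Agent.Lib.SeqInd Cfsg.Agent.Lib.SeqIndNil
open Cfsg.Agent.Lib.CoherenceIrr

namespace Cfsg.Agent.Lib.IrrCoh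

universe u v

variable {L : Type u} [Group L] [Fintype L] {G : Type v} [Group G] [Fintype G]
variable {S : Set (L → ℂ)} {τ : (L → ℂ) → (G → ℂ)}

/-- A set of irreducible characters with a linear isometry on the combinations vanishing at `1`,
with values vanishing at `1`. -/
structure IrrSystem (S : Set (L → ℂ)) (τ : (L → ℂ) → (G → ℂ)) : Prop where
  irr : ∀ χ ∈ S, IsIrrCharacter L χ
  isometry : IsLinearIsometryOn (zspanOn S {1}ᶜ) τ
  map_one : ∀ α ∈ zspanOn S {1}ᶜ, τ α 1 = 0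

theorem IrrSystem.mono (hS : IrrSystem S τ) {T : Set (L → ℂ)} (hTS : T ⊆ S) : IrrSystem T τ :=
  ⟨fun χ h => hS.irr χ (hTS h), li_mono (fun _ h => zspanOn_mono hTS h) hS.isometry,
    fun α hα => hS.map_one α (zspanOn_mono hTS hα)⟩

theorem coherent_subset {T T' : Set (L → ℂ)} (hTT' : T ⊆ T') (hne : ∃ α ∈ zspanOn T {1}ᶜ, α ≠ 0)
    (h : IsCoherent T' {1}ᶜ τ) : IsCoherent T {1}ᶜ τ := by
  obtain ⟨-, τ₁, h1, h2⟩ := h
  exact ⟨hne, τ₁, li_mono (fun _ h => zspan_mono hTT' h) h1, fun α hα =>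
    h2 α (zspanOn_mono hTT' hα)⟩

/-- Coherence of a set of at least two irreducible characters of the same degree. -/
theorem same_degree (hS : IrrSystem S τ) (hdeg : ∀ φ ∈ S, ∀ ψ ∈ S, φ 1 = ψ 1)
    (h2 : ∃ φ ∈ S, ∃ ψ ∈ S, φ ≠ ψ) : IsCoherent S {1}ᶜ τ := by
  classical
  obtain ⟨φ₀, hφ₀, ψ₀, hψ₀, hne⟩ := h2
  have hE := isZMod_zspanOn S
  have hmem : ∀ φ ψ : S, (φ : L → ℂ) - ψ ∈ zspanOn S {1}ᶜ := by
    intro φ ψ
    rw [mem_zspanOn]
    exact ⟨zspan_sub (subset_zspan φ.2) (subset_zspan ψ.2), by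
      rw [Pi.sub_apply, hdeg φ φ.2 ψ ψ.2, sub_self]⟩
  have hin : ∀ φ ψ : S, classInner (φ : L → ℂ) ψ = if φ = ψ then 1 else 0 := by
    intro φ ψ
    rw [(hS.irr φ φ.2).classInner_eq (hS.irr ψ ψ.2)]
    simp [Subtype.ext_iff]
  obtain ⟨ε, f, hε, hf, hv⟩ := Cfsg.Agent.Lib.TIFN.exceptional_family
    (fun φ ψ : S => τ ((φ : L → ℂ) - ψ))
    (fun φ ψ => hS.isometry.2.2.2 _ (hmem φ ψ)) (fun φ ψ => hS.map_one _ (hmem φ ψ))
    (fun φ ψ θ => by
      rw [← hS.isometry.1 _ (hmem φ ψ) _ (hmem ψ θ)]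
      congr 1; abel)
    (fun φ ψ hφψ => by
      rw [hS.isometry.2.2.1 _ (hmem φ ψ) _ (hmem φ ψ), classInner_sub_left, classInner_sub_right,
        classInner_sub_right, hin, hin, hin, hin, if_pos rfl, if_pos rfl, if_neg hφψ,
        if_neg (Ne.symm hφψ)]
      norm_num)
    (fun φ ψ θ h1 h2 h3 => by
      rw [hS.isometry.2.2.1 _ (hmem φ ψ) _ (hmem φ θ), classInner_sub_left, classInner_sub_right,
        classInner_sub_right, hin, hin, hin, hin, if_pos rfl, if_neg h2, if_neg (Ne.symm h1),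
        if_neg h3]
      norm_num)
    ⟨⟨φ₀, hφ₀⟩, ⟨ψ₀, hψ₀⟩, fun h => hne (congrArg Subtype.val h)⟩
  have hεε : ε * ε = 1 := by rcases hε with h | h <;> rw [h] <;> norm_num
  have hεc : (starRingEnd ℂ) ε = ε := by rcases hε with h | h <;> rw [h] <;> simp
  set X₁ : G → ℂ := ε • ((f ⟨φ₀, hφ₀⟩ : IrrCharacter G) : G → ℂ) with hX₁
  have hXgc : IsGeneralizedCharacter G X₁ := by
    rcases hε with h | h
    · rw [hX₁, h, one_smul]; exact gc_of_irr (f ⟨φ₀, hφ₀⟩).2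
    · rw [hX₁, h, neg_smul, one_smul]; exact gc_neg (gc_of_irr (f ⟨φ₀, hφ₀⟩).2)
  obtain ⟨τ₁, h1, h2, -⟩ := pivot_extension hS.isometry hφ₀ (hS.irr _ hφ₀).one_ne_zero
    (fun θ hθ => ⟨1, by rw [hdeg θ hθ φ₀ hφ₀]; simp⟩) hXgc (by
      rw [hX₁, classInner_smul_left, classInner_smul_right, hεc, (f _).2.classInner_self,
        (hS.irr _ hφ₀).classInner_self, mul_one, hεε])
    (pivot_inner hS.isometry hφ₀ (hS.irr _ hφ₀).one_ne_zero (fun θ hθ => ⟨1, by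
      rw [hdeg θ hθ φ₀ hφ₀]; simp, by
      rw [one_smul]
      by_cases h : θ = φ₀
      · rw [h, sub_self, li_zero hE hS.isometry, classInner_zero_left, classInner_zero_left]
      · have h3 := hv ⟨θ, hθ⟩ ⟨φ₀, hφ₀⟩
        simp only at h3
        have h4 : f ⟨θ, hθ⟩ ≠ f ⟨φ₀, hφ₀⟩ := fun h' => h (congrArg Subtype.val (hf h'))
        have h5 : classInner ((f ⟨θ, hθ⟩ : IrrCharacter G) : G → ℂ)
            ((f ⟨φ₀, hφ₀⟩ : IrrCharacter G) : G → ℂ) = 0 :=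
          (f _).2.classInner_eq_zero (f _).2 (fun h' => h4 (Subtype.ext h'))
        rw [h3, hX₁, classInner_smul_left, classInner_smul_right, hεc, classInner_sub_left, h5,
          (f _).2.classInner_self, classInner_sub_left,
          (hS.irr _ hθ).classInner_eq_zero (hS.irr _ hφ₀) h, (hS.irr _ hφ₀).classInner_self,
          ← mul_assoc, hεε, one_mul]⟩))
  refine ⟨⟨_, hmem ⟨φ₀, hφ₀⟩ ⟨ψ₀, hψ₀⟩, ?_⟩, τ₁, h1, h2⟩
  exact sub_ne_zero.mpr hne

/-- Extension of a coherent set of irreducible characters by one character. -/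
theorem extend_one (hS : IrrSystem S τ) (T : Finset (L → ℂ)) (hTS : ↑T ⊆ S)
    (hcoh : IsCoherent (↑T : Set (L → ℂ)) {1}ᶜ τ) {χ χ₁ : L → ℂ} (hχ : χ ∈ S) (hχT : χ ∉ T)
    (hχ₁ : χ₁ ∈ T) (hdvd : ∀ φ ∈ S, ∃ k : ℕ, φ 1 = k * χ₁ 1)
    (hineq : 2 * (χ 1).re * (χ₁ 1).re < ∑ φ ∈ T, wt φ) :
    IsCoherent (↑T ∪ {χ} : Set (L → ℂ)) {1}ᶜ τ := by
  classical
  obtain ⟨hne, τ₁, h1, h2⟩ := hcoh
  obtain ⟨n₁, hn₁, hn₁'⟩ := (hS.irr _ (hTS hχ₁)).exists_degree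
  have hn₁C : (n₁ : ℂ) ≠ 0 := by exact_mod_cast hn₁.ne'
  have hn₁R : (0 : ℝ) < n₁ := by exact_mod_cast hn₁
  have hdeg : ∀ φ : L → ℂ, ∃ k : ℕ, φ ∈ S → φ 1 = k * χ₁ 1 := by
    intro φ
    by_cases h : φ ∈ S
    · obtain ⟨k, hk⟩ := hdvd φ h
      exact ⟨k, fun _ => hk⟩
    · exact ⟨0, fun h' => absurd h' h⟩
  choose r hr using hdeg
  set ℓ := r χ with hℓ
  have hT'S : (↑T ∪ {χ} : Set (L → ℂ)) ⊆ S := by
    rintro φ (h | h)
    · exact hTS h
    · rw [h]; exact hχ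
  have hχne : ∀ φ ∈ T, φ ≠ χ := fun φ h h' => hχT (h' ▸ h)
  have hwt : ∀ φ ∈ T, wt φ = (r φ : ℝ) ^ 2 * (n₁ : ℝ) ^ 2 := by
    intro φ hφ
    unfold wt nsq
    rw [(hS.irr _ (hTS hφ)).classInner_self, hr φ (hTS hφ), hn₁']
    have : ((r φ : ℂ) * (n₁ : ℂ)).re = r φ * n₁ := by
      have : ((r φ : ℂ) * (n₁ : ℂ)) = ((r φ * n₁ : ℕ) : ℂ) := by push_cast; ring
      rw [this, Complex.natCast_re]; push_cast; ring
    rw [this]
    simp only [Complex.one_re, div_one]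
    ring
  set W : ℕ := ∑ φ ∈ T, r φ ^ 2 with hW
  have hW2 : 2 * ℓ < W := by
    rw [Finset.sum_congr rfl hwt, ← Finset.sum_mul, hr χ hχ, hn₁'] at hineq
    have e1 : ((r χ : ℂ) * (n₁ : ℂ)).re = r χ * n₁ := by
      have : ((r χ : ℂ) * (n₁ : ℂ)) = ((r χ * n₁ : ℕ) : ℂ) := by push_cast; ring
      rw [this, Complex.natCast_re]; push_cast; ring
    rw [e1, Complex.natCast_re] at hineq
    have e2 : 2 * ((r χ : ℝ) * n₁) * n₁ = (2 * (r χ : ℝ)) * (n₁ : ℝ) ^ 2 := by ring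
    rw [e2] at hineq
    have := lt_of_mul_lt_mul_right hineq (by positivity)
    have h3 : ((2 * ℓ : ℕ) : ℝ) < ((W : ℕ) : ℝ) := by
      rw [hW, hℓ]; push_cast; exact this
    exact_mod_cast h3
  set β := τ (χ - (ℓ : ℤ) • χ₁) with hβ
  have hz₁ : χ₁ ∈ zspan (↑T : Set (L → ℂ)) := subset_zspan hχ₁
  have hβm : χ - (ℓ : ℤ) • χ₁ ∈ zspanOn S {1}ᶜ := by
    rw [mem_zspanOn]
    refine ⟨zspan_sub (subset_zspan hχ) (zspan_zsmul _ (subset_zspan (hTS hχ₁))), ?_⟩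
    rw [Pi.sub_apply, Pi.smul_apply, hr χ hχ, hℓ]; simp
  have hβgc := hS.isometry.2.2.2 _ hβm
  have hχ₁n : χ ≠ χ₁ := (hχne χ₁ hχ₁).symm
  have hχχ₁ : classInner χ χ₁ = 0 :=
    (hS.irr _ hχ).classInner_eq_zero (hS.irr _ (hTS hχ₁)) hχ₁n
  have hββ : classInner β β = 1 + (ℓ : ℂ) ^ 2 := by
    rw [hβ, hS.isometry.2.2.1 _ hβm _ hβm, classInner_sub_left, classInner_sub_right,
      classInner_sub_right, classInner_zsmul_left, classInner_zsmul_left, classInner_zsmul_right,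
      classInner_zsmul_right, (hS.irr _ hχ).classInner_self, hχχ₁, ← conj_classInner χ χ₁, hχχ₁,
      (hS.irr _ (hTS hχ₁)).classInner_self]
    push_cast
    simp only [map_zero]
    ring
  have hdm : ∀ φ ∈ T, φ - (r φ : ℤ) • χ₁ ∈ zspanOn (↑T : Set (L → ℂ)) {1}ᶜ := by
    intro φ hφ
    rw [mem_zspanOn]
    refine ⟨zspan_sub (subset_zspan hφ) (zspan_zsmul _ hz₁), ?_⟩
    rw [Pi.sub_apply, Pi.smul_apply, hr φ (hTS hφ)]; simp
  have hdτ : ∀ φ ∈ T, τ (φ - (r φ : ℤ) • χ₁) = τ₁ φ - (r φ : ℤ) • τ₁ χ₁ := by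
    intro φ hφ
    rw [← h2 _ (hdm φ hφ), li_sub (isZMod_zspan _) h1 (subset_zspan hφ) (zspan_zsmul _ hz₁),
      h1.2.1 _ hz₁]
  obtain ⟨b, hb⟩ := gc_inner_int hβgc (h1.2.2.2 _ hz₁)
  set a : ℤ := b + ℓ with ha
  have hinφ : ∀ φ ∈ T, classInner β (τ₁ φ) = r φ * a - if φ = χ₁ then (ℓ : ℂ) else 0 := by
    intro φ hφ
    have h3 := hS.isometry.2.2.1 _ hβm _ (zspanOn_mono hTS (hdm φ hφ))
    rw [hdτ φ hφ, classInner_sub_right, classInner_zsmul_right, ← hβ, hb, classInner_sub_left,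
      classInner_sub_right, classInner_sub_right, classInner_zsmul_right, classInner_zsmul_left,
      classInner_zsmul_left, classInner_zsmul_right, hχχ₁,
      (hS.irr _ hχ).classInner_eq_zero (hS.irr _ (hTS hφ)) (hχne φ hφ).symm,
      (hS.irr _ (hTS hχ₁)).classInner_self] at h3
    split_ifs with h
    · subst h
      rw [(hS.irr _ (hTS hφ)).classInner_self] at h3
      rw [ha]
      push_cast at h3 ⊢
      have h4 : (r φ : ℂ) = 1 := by
        have := hr φ (hTS hφ)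
        rw [hn₁'] at this
        exact mul_right_cancel₀ hn₁C (by rw [← this, one_mul])
      rw [h4] at h3 ⊢
      linear_combination h3
    · rw [(hS.irr _ (hTS hχ₁)).classInner_eq_zero (hS.irr _ (hTS hφ)) (Ne.symm h)] at h3
      rw [ha]
      push_cast at h3 ⊢
      linear_combination h3
  have hsirr : ∀ φ ∈ T, SIrr (τ₁ φ) := by
    intro φ hφ
    apply sirr_of_norm_one (h1.2.2.2 _ (subset_zspan hφ))
    rw [h1.2.2.1 _ (subset_zspan hφ) _ (subset_zspan hφ), (hS.irr _ (hTS hφ)).classInner_self]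
  have horth : ∀ φ ∈ T, ∀ ψ ∈ T, φ ≠ ψ → classInner (τ₁ φ) (τ₁ ψ) = 0 := by
    intro φ hφ ψ hψ hne
    rw [h1.2.2.1 _ (subset_zspan hφ) _ (subset_zspan hψ)]
    exact (hS.irr _ (hTS hφ)).classInner_eq_zero (hS.irr _ (hTS hψ)) hne
  have hr₁ : r χ₁ = 1 := by
    have := hr χ₁ (hTS hχ₁)
    rw [hn₁'] at this
    have h4 : (r χ₁ : ℂ) = 1 := mul_right_cancel₀ hn₁C (by rw [← this, one_mul])
    exact_mod_cast h4
  have hsum : ∑ φ ∈ T, ‖classInner β (τ₁ φ)‖ ^ 2 / (1 : ℝ) =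
      (a : ℝ) ^ 2 * W - 2 * a * ℓ + (ℓ : ℝ) ^ 2 := by
    have h3 : ∀ φ ∈ T, ‖classInner β (τ₁ φ)‖ ^ 2 / (1 : ℝ) = (a : ℝ) ^ 2 * (r φ : ℝ) ^ 2 +
        if φ = χ₁ then - 2 * a * ℓ + (ℓ : ℝ) ^ 2 else 0 := by
      intro φ hφ
      rw [hinφ φ hφ]
      split_ifs with h
      · subst h
        rw [hr₁]
        have : ((1 : ℕ) : ℂ) * (a : ℂ) - (ℓ : ℂ) = ((a - ℓ : ℤ) : ℂ) := by push_cast; ring
        rw [this, Complex.norm_intCast, sq_abs]
        push_cast; ring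
      · have : (r φ : ℂ) * (a : ℂ) - 0 = ((r φ * a : ℤ) : ℂ) := by push_cast; ring
        rw [this, Complex.norm_intCast, sq_abs]
        push_cast; ring
    rw [Finset.sum_congr rfl h3, Finset.sum_add_distrib, ← Finset.mul_sum, Finset.sum_ite_eq',
      if_pos hχ₁, hW]
    push_cast
    ring
  have hnsq : nsq β = 1 + (ℓ : ℝ) ^ 2 := by
    unfold nsq
    rw [hββ]
    have : (1 + (ℓ : ℂ) ^ 2) = ((1 + (ℓ : ℝ) ^ 2 : ℝ) : ℂ) := by push_cast; ring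
    rw [this, Complex.ofReal_re]
  have hbes := bessel_ineq T τ₁ (fun _ => 1) (fun _ _ => one_ne_zero)
    (fun φ hφ => by rw [(hsirr φ hφ).self]; simp) horth β
  rw [hsum, hnsq] at hbes
  have ha0 : a = 0 := by
    by_contra ha0
    have hint : 1 ≤ a ^ 2 * (W : ℤ) - 2 * a * ℓ := by
      have hW' : (2 * ℓ + 1 : ℤ) ≤ W := by exact_mod_cast hW2
      have h4 : 1 ≤ a ^ 2 := by
        have := sq_nonneg a
        rcases lt_or_gt_of_ne ha0 with h | h <;> nlinarith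
      have h5 : a ≤ a ^ 2 := Int.le_self_sq a
      have h6 : (0 : ℤ) ≤ ℓ := Int.natCast_nonneg _
      nlinarith [mul_le_mul_of_nonneg_left hW' (sq_nonneg a), mul_le_mul_of_nonneg_right h5 h6]
    have hle : (a : ℝ) ^ 2 * W - 2 * a * ℓ ≤ 1 := by linarith
    have hle' : a ^ 2 * (W : ℤ) - 2 * a * ℓ ≤ 1 := by exact_mod_cast hle
    have heq : a ^ 2 * (W : ℤ) - 2 * a * ℓ = 1 := le_antisymm hle' hint
    have heqR : (a : ℝ) ^ 2 * W - 2 * a * ℓ = 1 := by exact_mod_cast heq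
    have hβe := bessel_eq T τ₁ (fun _ => 1) (fun _ _ => one_ne_zero)
      (fun φ hφ => by rw [(hsirr φ hφ).self]; simp) horth β (by rw [hsum, hnsq]; linarith)
    have hval := congrFun hβe 1
    rw [hβ, hS.map_one _ hβm, Finset.sum_apply] at hval
    have hτ₁1 : ∀ φ ∈ T, τ₁ φ 1 = r φ * τ₁ χ₁ 1 := by
      intro φ hφ
      have h3 := hS.map_one _ (zspanOn_mono hTS (hdm φ hφ))
      rw [hdτ φ hφ, Pi.sub_apply, Pi.smul_apply, zsmul_eq_mul] at h3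
      push_cast at h3
      linear_combination h3
    have h3 : ∀ φ ∈ T, ((classInner β (τ₁ φ) / ((1 : ℝ) : ℂ)) • τ₁ φ) 1 =
        ((a : ℂ) * (r φ : ℂ) ^ 2 - if φ = χ₁ then (ℓ : ℂ) else 0) * τ₁ χ₁ 1 := by
      intro φ hφ
      rw [Pi.smul_apply, smul_eq_mul, hτ₁1 φ hφ, hinφ φ hφ]
      split_ifs with h
      · subst h
        rw [hr₁]
        push_cast
        ring
      · push_cast
        ring
    rw [← hβ, Finset.sum_congr rfl h3, ← Finset.sum_mul, Finset.sum_sub_distrib, ← Finset.mul_sum,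
      Finset.sum_ite_eq', if_pos hχ₁] at hval
    have h5 : (a : ℂ) * (W : ℂ) - ℓ = 0 := by
      have := (mul_eq_zero.mp hval.symm).resolve_right (hsirr _ hχ₁).one_ne_zero
      rw [hW]
      push_cast
      exact this
    have h6 : a * (W : ℤ) = ℓ := by
      have : ((a * (W : ℤ) - ℓ : ℤ) : ℂ) = 0 := by push_cast; exact h5
      have : (a * (W : ℤ) - ℓ : ℤ) = 0 := by exact_mod_cast this
      linarith
    have h7 : - (a * ℓ) = 1 := by
      have : a ^ 2 * (W : ℤ) = a * ℓ := by rw [← h6]; ring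
      linarith
    have h8 : (0 : ℤ) ≤ ℓ := Int.natCast_nonneg _
    have h9 : (0 : ℤ) ≤ W := Int.natCast_nonneg _
    rcases lt_or_ge a 0 with h | h
    · have : a * (W : ℤ) ≤ 0 := mul_nonpos_of_nonpos_of_nonneg h.le h9
      have : (ℓ : ℤ) = 0 := by linarith
      rw [this] at h7; simp at h7
    · have : 0 ≤ a * (ℓ : ℤ) := mul_nonneg h h8
      linarith
  have hbℓ : classInner β (τ₁ χ₁) = -ℓ := by
    rw [hb]
    have : b = -ℓ := by rw [ha] at ha0; linarith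
    rw [this]; push_cast; ring
  obtain ⟨τ₂, g1, g2, -⟩ := pivot_extension (S := (↑T ∪ {χ} : Set (L → ℂ)))
    (li_mono (fun _ h => zspanOn_mono hT'S h) hS.isometry) (Or.inl hχ₁)
    (hS.irr _ (hTS hχ₁)).one_ne_zero (fun θ hθ => ⟨r θ, by
      rw [hr θ (hT'S hθ)]; simp⟩) (h1.2.2.2 _ hz₁) (h1.2.2.1 _ hz₁ _ hz₁)
    (pivot_inner (li_mono (fun _ h => zspanOn_mono hT'S h) hS.isometry) (Or.inl hχ₁)
      (hS.irr _ (hTS hχ₁)).one_ne_zero (fun θ hθ => ⟨r θ, by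
        rw [hr θ (hT'S hθ)]; simp, by
        rcases hθ with h | h
        · rw [← h2 _ (hdm θ h)]
          exact h1.2.2.1 _ (mem_zspanOn.mp (hdm θ h)).1 _ hz₁
        · have h' : θ = χ := h
          subst h'
          rw [← hβ, hbℓ, classInner_sub_left, classInner_zsmul_left, hχχ₁,
            (hS.irr _ (hTS hχ₁)).classInner_self]
          push_cast; ring⟩))
  refine ⟨?_, τ₂, g1, g2⟩
  obtain ⟨α, hα, hα0⟩ := hne
  exact ⟨α, zspanOn_mono Set.subset_union_left hα, hα0⟩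

/-- Repeated extension. -/
theorem extend_all (hS : IrrSystem S τ) (T U : Finset (L → ℂ)) (hTS : ↑T ⊆ S) (hUS : ↑U ⊆ S)
    (hcoh : IsCoherent (↑T : Set (L → ℂ)) {1}ᶜ τ)
    {χ₁ : L → ℂ} (hχ₁ : χ₁ ∈ T)
    (hdvd : ∀ χ ∈ S, ∃ k : ℕ, χ 1 = k * χ₁ 1)
    (hineq : ∀ χ ∈ U, χ ∉ T → 2 * (χ 1).re * (χ₁ 1).re < ∑ φ ∈ T, wt φ) :
    IsCoherent (↑T ∪ ↑U : Set (L → ℂ)) {1}ᶜ τ := by
  classical
  suffices H : ∀ (n : ℕ) (T' : Finset (L → ℂ)), T ⊆ T' → (↑T' ⊆ S) →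
      (T' ⊆ T ∪ U) → IsCoherent (↑T' : Set (L → ℂ)) {1}ᶜ τ →
      (U \ T').card = n → IsCoherent (↑T ∪ ↑U : Set (L → ℂ)) {1}ᶜ τ from
    H _ T subset_rfl hTS Finset.subset_union_left hcoh rfl
  intro n
  induction n using Nat.strong_induction_on with
  | _ n ih =>
    intro T' hTT' hT'S hT'U hT'coh hn
    rcases (U \ T').eq_empty_or_nonempty with h | ⟨χ, hχ⟩
    · have h1 : U ⊆ T' := Finset.sdiff_eq_empty_iff_subset.mp h
      have h2 : T' = T ∪ U := Finset.Subset.antisymm hT'U (Finset.union_subset hTT' h1)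
      rw [h2] at hT'coh
      simpa using hT'coh
    · rw [Finset.mem_sdiff] at hχ
      have hχS : χ ∈ S := hUS hχ.1
      have hχT : χ ∉ T := fun h => hχ.2 (hTT' h)
      have hsum : ∑ φ ∈ T, wt φ ≤ ∑ φ ∈ T', wt φ :=
        Finset.sum_le_sum_of_subset_of_nonneg hTT' (fun φ _ _ => wt_nonneg φ)
      have h1 := extend_one hS T' hT'S hT'coh hχS hχ.2 (hTT' hχ₁) hdvd
        (lt_of_lt_of_le (hineq χ hχ.1 hχT) hsum)
      have e : (↑T' ∪ {χ} : Set (L → ℂ)) = ↑(T' ∪ {χ} : Finset (L → ℂ)) := by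
        simp
      rw [e] at h1
      refine ih (U \ (T' ∪ {χ})).card ?_ (T' ∪ {χ})
        (hTT'.trans Finset.subset_union_left) ?_ ?_ h1 rfl
      · rw [← hn]
        apply Finset.card_lt_card
        rw [Finset.ssubset_iff_of_subset]
        · exact ⟨χ, Finset.mem_sdiff.mpr hχ, by simp⟩
        · exact Finset.sdiff_subset_sdiff subset_rfl Finset.subset_union_left
      · intro φ hφ
        rw [← e] at hφ
        rcases hφ with h | h
        · exact hT'S h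
        · rw [h]; exact hχS
      · intro φ hφ
        simp only [Finset.mem_union, Finset.mem_singleton] at hφ ⊢
        rcases hφ with h | h
        · exact Finset.mem_union.mp (hT'U h)
        · rw [h]; exact Or.inr hχ.1

end Cfsg.Agent.Lib.IrrCoh
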