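import Cfsg.Agent.Lib.IrrCoh
import Cfsg.Agent.Lib.FrobQuot
import Cfsg.Agent.Lib.Sibley
import Cfsg.Agent.Lib.Cores3
import Cfsg.Agent.S1521

/-!
Feit's coherence theorem for Frobenius groups with nilpotent kernel: the general steps.
-/

set_option autoImplicit false
open Cfsg
open Cfsg.Agent.Lib.CharBasic Cfsg.Agent.Lib.Coherence Cfsg.Agent.Lib.CoherenceSys
open Cfsg.Agent.Lib.CoherenceExt Cfsg.Agent.Lib.SeqInd Cfsg.Agent.Lib.SeqIndNil
open Cfsg.Agent.Lib.IrrCoh Cfsg.Agent.Lib.FrobQuot Cfsg.Agent.Lib.Sibley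

namespace Cfsg.Agent.Lib.IrrCoh

universe u v

variable {L : Type u} [Group L] [Fintype L] {G : Type v} [Group G] [Fintype G]
variable {τ : (L → ℂ) → (G → ℂ)}

/-- A nilpotent group has a central element of order `p` for each prime divisor `p`. -/
theorem exists_central_order {X : Type u} [Group X] [Finite X] (hX : Group.IsNilpotent X)
    {p : ℕ} (hp : p.Prime) (hpX : p ∣ Nat.card X) :
    ∃ z : X, (∀ x : X, z * x = x * z) ∧ orderOf z = p := by
  have := Fact.mk hp
  have : Group.IsNilpotent X := hX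
  have hnorm : ∀ {p : ℕ} [Fact p.Prime] (P : Sylow p X), (P : Subgroup X).Normal := by
    have := (Group.isNilpotent_of_finite_tfae (G := X)).out 0 3
    intro p hp P
    exact (this.mp hX) p hp P
  let P : Sylow p X := default
  have hPne : (P : Subgroup X) ≠ ⊥ := by
    intro h
    have h1 : Nat.card (P : Subgroup X) = 1 := by rw [h]; exact Subgroup.card_bot
    have h2 : Nat.card P = p ^ (Nat.card X).factorization p := P.card_eq_multiplicity
    have h3 : (Nat.card X).factorization p ≠ 0 :=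
      ((Nat.Prime.dvd_iff_one_le_factorization hp Nat.card_pos.ne').mp hpX |> Nat.one_le_iff_ne_zero.mp)
    have h4 : Nat.card P = 1 := h1
    rw [h2] at h4
    exact absurd h4 (Nat.one_lt_pow h3 hp.one_lt).ne'
  obtain ⟨x, hxP, hxc, hx1⟩ := Lib.Cores.exists_mem_center_of_normal (hnorm P) hPne
  obtain ⟨k, hk⟩ := P.isPGroup'.exists_orderOf_dvd_pow ⟨x, hxP⟩
  rw [← Subgroup.orderOf_coe] at hk
  simp only at hk
  have hx : orderOf x ≠ 1 := fun h => hx1 (orderOf_eq_one_iff.mp h)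
  obtain ⟨j, -, hj⟩ := (Nat.dvd_prime_pow hp).mp hk
  have hj0 : j ≠ 0 := by rintro rfl; exact hx (by rw [hj, pow_zero])
  obtain ⟨i, rfl⟩ : ∃ i, j = i + 1 := ⟨j - 1, by omega⟩
  refine ⟨x ^ (p ^ i), ?_, ?_⟩
  · intro y
    have := Subgroup.mem_center_iff.mp (Subgroup.pow_mem _ hxc (p ^ i)) y
    exact this.symm
  · rw [orderOf_pow, hj, pow_succ, Nat.gcd_eq_right (Dvd.intro _ rfl),
      Nat.mul_div_cancel_left _ (pow_pos hp.pos _)]

variable (K : Subgroup L) [hK : K.Normal]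

/-- **The basic coherence step**. -/
theorem coherent_step (hS : IrrSystem (inducedIrrAbove K ⊥) τ)
    (hsolv : Group.IsSolvable K) (A B : Subgroup L) [A.Normal] [B.Normal] (hAK : A < K)
    (hBA : B ≤ A)
    (hA : IsCoherent (inducedIrrAbove K A) {1}ᶜ τ)
    (h : ∀ θ : K → ℂ, IsIrrCharacter K θ → (∀ b : K, (b : L) ∈ B → θ b = θ 1) →
      (¬ ∀ a : K, (a : L) ∈ A → θ a = θ 1) →
      2 * K.index * (θ 1).re < (A.relIndex K : ℝ) - 1) :
    IsCoherent (inducedIrrAbove K B) {1}ᶜ τ := by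
  classical
  obtain ⟨χ₁, hχ₁, hχ₁d⟩ := above_nonempty K A hAK hsolv
  set T := (above_finite K A).toFinset with hT
  set U := (above_finite K B).toFinset with hU
  have hTm : ∀ φ, φ ∈ T ↔ φ ∈ inducedIrrAbove K A := fun φ => Set.Finite.mem_toFinset _
  have hUm : ∀ φ, φ ∈ U ↔ φ ∈ inducedIrrAbove K B := fun φ => Set.Finite.mem_toFinset _
  have hTc : (↑T : Set (L → ℂ)) = inducedIrrAbove K A := Set.Finite.coe_toFinset _
  have hUc : (↑U : Set (L → ℂ)) = inducedIrrAbove K B := Set.Finite.coe_toFinset _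
  have hsum := sum_wt_above K A T hTm
  have hpos : (0 : ℝ) < K.index := Nat.cast_pos.mpr (Nat.pos_of_ne_zero Subgroup.index_ne_zero_of_finite)
  have h1 : IsCoherent (↑T ∪ ↑U : Set (L → ℂ)) {1}ᶜ τ := by
    refine IrrCoh.extend_all hS T U (by rw [hTc]; exact above_subset_bot K A)
      (by rw [hUc]; exact above_subset_bot K B) (by rw [hTc]; exact hA)
      ((hTm _).mpr hχ₁) ?_ ?_
    · intro χ hχ
      obtain ⟨n, hn, hn'⟩ := mem_above_deg K hχ
      exact ⟨n, by rw [hn', hχ₁d]; ring⟩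
    · intro χ hχ hχT
      rw [hUm] at hχ
      rw [hTm] at hχT
      obtain ⟨θ, hθ, h1, h2, rfl⟩ := hχ
      have h3 := h θ hθ h2 (fun h4 => hχT ⟨θ, hθ, h1, h4, rfl⟩)
      rw [hsum, Lib.IndFun.indFun_one, hχ₁d]
      obtain ⟨n, hn, hn'⟩ := hθ.exists_degree
      rw [hn'] at h3 ⊢
      simp only [Complex.natCast_re, Complex.mul_re, Complex.natCast_im, mul_zero, sub_zero] at h3 ⊢
      nlinarith
  obtain ⟨α, hα, hα0⟩ := hA.1
  refine IrrCoh.coherent_subset ?_ ⟨α, zspanOn_mono (above_mono K hBA) hα, hα0⟩ h1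
  rw [hUc]
  exact Set.subset_union_right

/-- Descent along a chief series, with the chief property. -/
theorem coherent_descent (M H₁ H : Subgroup L) [hM : M.Normal] [hH₁ : H₁.Normal] [hH : H.Normal]
    (hMH₁ : M ≤ H₁) (hH₁H : H₁ ≤ H) [(M.subgroupOf H).Normal]
    (hnil : Group.IsNilpotent (↥H ⧸ M.subgroupOf H))
    (hcoh : IsCoherent (inducedIrrAbove K H₁) {1}ᶜ τ)
    (step : ∀ A B : Subgroup L, A.Normal → B.Normal → M ≤ B → B < A → A ≤ H₁ →
      (∀ x ∈ A, ∀ y ∈ H, x * y * x⁻¹ * y⁻¹ ∈ B) →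
      (∀ C : Subgroup L, C.Normal → B ≤ C → C ≤ A → C = B ∨ C = A) →
      IsCoherent (inducedIrrAbove K A) {1}ᶜ τ →
      IsCoherent (inducedIrrAbove K B) {1}ᶜ τ) :
    IsCoherent (inducedIrrAbove K M) {1}ᶜ τ := by
  suffices key : ∀ (n : ℕ) (A : Subgroup L), A.Normal → M ≤ A → A ≤ H₁ → Nat.card A = n →
      IsCoherent (inducedIrrAbove K A) {1}ᶜ τ → IsCoherent (inducedIrrAbove K M) {1}ᶜ τ from
    key _ H₁ hH₁ hMH₁ le_rfl rfl hcoh
  intro n
  induction n using Nat.strong_induction_on with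
  | _ n ih =>
    intro A hA hMA hAH₁ hn hAcoh
    rcases hMA.lt_or_eq with h | h
    · obtain ⟨B, hB, hMB, hBA, hchief⟩ := exists_chief h
      have hle : ⁅A, H⁆ ⊔ B ≤ A := sup_le (Subgroup.commutator_le_left A H) hBA.le
      have hcomm : ⁅A, H⁆ ≤ B := by
        rcases hchief (⁅A, H⁆ ⊔ B) inferInstance le_sup_right hle with h1 | h1
        · rw [← h1]; exact le_sup_left
        · exact absurd (le_of_le_commutator_sup hnil hMB (hAH₁.trans hH₁H) h1.ge)
            (not_le_of_gt hBA)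
      have h2 := step A B hA hB hMB hBA hAH₁ (fun x hx y hy => by
        have := hcomm (Subgroup.commutator_mem_commutator hx hy)
        rwa [commutatorElement_def] at this) hchief hAcoh
      refine ih (Nat.card B) ?_ B hB hMB (hBA.le.trans hAH₁) rfl h2
      rw [← hn]
      exact Set.ncard_lt_ncard (SetLike.coe_ssubset_coe.mpr hBA) (Set.toFinite _)
    · rw [h]; exact hAcoh

/-- If `K/B` has central (relative to `K`) normal subgroup `D/B`, the squares of the degrees of the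
characters of `K/B` are at most `[K:D]`. -/
theorem sq_degree_le (B D : Subgroup L) [B.Normal] [D.Normal] (hBD : B ≤ D) (hDK : D ≤ K)
    (hcent : ∀ x ∈ D, ∀ y ∈ K, x * y * x⁻¹ * y⁻¹ ∈ B) {θ : K → ℂ} (hθ : IsIrrCharacter K θ)
    (hB : ∀ b : K, (b : L) ∈ B → θ b = θ 1) {n : ℕ} (hn : θ 1 = n) : n ^ 2 ≤ D.relIndex K := by
  have h1 := Cfsg.Agent.S1492.result θ hθ (B.subgroupOf K) ⊤ (D.subgroupOf K)
    (fun x hx => hBD hx) le_top
    (fun c _ b hb => Subgroup.Normal.conj_mem inferInstance b hb c)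
    (fun d hd c _ => by
      rw [Subgroup.mem_subgroupOf]
      exact hcent d hd c c.2)
    (fun b hb => hB b hb)
  have e2 : Nat.card (D.subgroupOf K) = Nat.card D :=
    Nat.card_congr (Subgroup.subgroupOfEquivOfLe hDK).toEquiv
  rw [e2, Subgroup.card_top, hn] at h1
  simp only [Complex.norm_natCast] at h1
  have h2 : n ^ 2 * Nat.card K * Nat.card D ≤ Nat.card K ^ 2 := by exact_mod_cast h1
  have h3 : Nat.card D * D.relIndex K = Nat.card K := by
    rw [Subgroup.relIndex, ← Subgroup.card_mul_index (D.subgroupOf K), e2]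
  have p1 : 0 < Nat.card K := Nat.card_pos
  have p2 : 0 < Nat.card D := Nat.card_pos
  have h4 : n ^ 2 * (Nat.card K * Nat.card D) ≤ D.relIndex K * (Nat.card K * Nat.card D) := by
    calc n ^ 2 * (Nat.card K * Nat.card D) = n ^ 2 * Nat.card K * Nat.card D := by ring
      _ ≤ Nat.card K ^ 2 := h2
      _ = Nat.card K * (Nat.card D * D.relIndex K) := by rw [h3]; ring
      _ = _ := by ring
  exact Nat.le_of_mul_le_mul_right h4 (Nat.mul_pos p1 p2)

/-- `S(H₁)` is coherent when `H₁` contains `[K,K]` and `[K:H₁] > e + 1`. -/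
theorem coherent_linear (hS : IrrSystem (inducedIrrAbove K ⊥) τ) (hsolv : Group.IsSolvable K)
    (H₁ : Subgroup L) [H₁.Normal] (hH₁ : ⁅K, K⁆ ≤ H₁) (hH₁K : H₁ < K)
    (hbig : K.index + 1 < H₁.relIndex K) : IsCoherent (inducedIrrAbove K H₁) {1}ᶜ τ := by
  classical
  have key : ∀ φ ∈ inducedIrrAbove K H₁, φ 1 = K.index := by
    rintro φ ⟨θ, hθ, -, h2, rfl⟩
    rw [Lib.IndFun.indFun_one, Cfsg.Agent.S1521.one_eq_one_of_const hθ
      (fun x hx => h2 x (hH₁ (Cfsg.Agent.S1521.commutator_coe K hx))), mul_one]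
  apply IrrCoh.same_degree (hS.mono (above_subset_bot K H₁))
  · intro φ hφ ψ hψ
    rw [key φ hφ, key ψ hψ]
  · obtain ⟨χ, hχ, hχ1⟩ := above_nonempty K H₁ hH₁K hsolv
    by_contra hcon
    push Not at hcon
    have hs : ∀ φ, φ ∈ ({χ} : Finset (L → ℂ)) ↔ φ ∈ inducedIrrAbove K H₁ := by
      intro φ
      rw [Finset.mem_singleton]
      constructor
      · rintro rfl; exact hχ
      · intro h; exact hcon φ h χ hχ
    have hsum := sum_wt_above K H₁ {χ} hs
    rw [Finset.sum_singleton] at hsum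
    have hw : wt χ = (K.index : ℝ) ^ 2 := by
      unfold wt nsq
      rw [(hS.irr χ (above_subset_bot K H₁ hχ)).classInner_self, hχ1]
      simp
    rw [hw] at hsum
    have he : (0 : ℝ) < K.index := by
      exact_mod_cast Nat.pos_of_ne_zero Subgroup.index_ne_zero_of_finite
    have h1 : (K.index : ℝ) = (H₁.relIndex K : ℝ) - 1 := by
      apply mul_left_cancel₀ he.ne'
      rw [← hsum]; ring
    have h2 : (K.index + 1 : ℝ) < H₁.relIndex K := by exact_mod_cast hbig
    linarith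

/-- Large quotient case. -/
theorem coherent_big (hS : IrrSystem (inducedIrrAbove K ⊥) τ) (hsolv : Group.IsSolvable K)
    (hnil : Group.IsNilpotent K) (hKK : ⁅K, K⁆ < K)
    (hbig : 4 * K.index ^ 2 + 1 < ⁅K, K⁆.relIndex K) :
    IsCoherent (inducedIrrAbove K ⊥) {1}ᶜ τ := by
  have epos : 0 < K.index := Nat.pos_of_ne_zero Subgroup.index_ne_zero_of_finite
  have hcoh₁ := coherent_linear K hS hsolv ⁅K, K⁆ le_rfl hKK (by nlinarith)
  have hbn : ((⊥ : Subgroup L).subgroupOf K).Normal := inferInstance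
  have hnil' : Group.IsNilpotent (↥K ⧸ (⊥ : Subgroup L).subgroupOf K) := inferInstance
  apply IrrCoh.coherent_descent K ⊥ ⁅K, K⁆ K bot_le hKK.le hnil' hcoh₁
  intro A B hA hB hMB hBA hAH₁ hcomm _ hAcoh
  have hAK : A < K := lt_of_le_of_lt hAH₁ hKK
  apply IrrCoh.coherent_step K hS hsolv A B hAK hBA.le hAcoh
  intro θ hθ hθB _
  obtain ⟨n, hn, hn'⟩ := hθ.exists_degree
  have hsq := sq_degree_le K B A hBA.le hAK.le hcomm hθ hθB hn'
  have h3 : A.relIndex ⁅K, K⁆ * ⁅K, K⁆.relIndex K = A.relIndex K :=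
    Subgroup.relIndex_mul_relIndex A ⁅K, K⁆ K hAH₁ hKK.le
  have p1 : 0 < A.relIndex ⁅K, K⁆ := Nat.pos_of_ne_zero Subgroup.index_ne_zero_of_finite
  have hx : 4 * K.index ^ 2 + 2 ≤ A.relIndex K := by
    rw [← h3]; nlinarith
  rw [hn']
  simp only [Complex.natCast_re]
  have hx' : (4 * (K.index : ℝ) ^ 2 + 2) ≤ A.relIndex K := by exact_mod_cast hx
  have hsq' : (n : ℝ) ^ 2 ≤ A.relIndex K := by exact_mod_cast hsq
  have he : (0 : ℝ) ≤ K.index := Nat.cast_nonneg _
  generalize (A.relIndex K : ℝ) = x at *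
  generalize (K.index : ℝ) = e at *
  have hx1 : 0 ≤ x - 1 := by nlinarith [sq_nonneg e]
  apply lt_of_pow_lt_pow_left₀ 2 hx1
  have h5 : (2 * e * (n : ℝ)) ^ 2 = 4 * e ^ 2 * (n : ℝ) ^ 2 := by ring
  rw [h5]
  have h6 : 4 * e ^ 2 * (n : ℝ) ^ 2 ≤ 4 * e ^ 2 * x := by
    apply mul_le_mul_of_nonneg_left hsq'; positivity
  nlinarith [sq_nonneg e]

/-- **Feit**: coherence when the (nilpotent) Frobenius kernel is not of prime power order. -/
theorem coherent_not_pgroup (hS : IrrSystem (inducedIrrAbove K ⊥) τ)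
    (hnil : Group.IsNilpotent K) (hK1 : K ≠ ⊥)
    (hC : ∀ k ∈ K, k ≠ 1 → Subgroup.centralizer ({k} : Set L) ≤ K)
    (hnp : ¬ ∃ p m : ℕ, p.Prime ∧ Nat.card K = p ^ m) :
    IsCoherent (inducedIrrAbove K ⊥) {1}ᶜ τ := by
  classical
  have hsolv : Group.IsSolvable K := inferInstance
  have hKnt : Nontrivial K := (Subgroup.nontrivial_iff_ne_bot K).mpr hK1
  have epos : 0 < K.index := Nat.pos_of_ne_zero Subgroup.index_ne_zero_of_finite
  have e1 : (commutator K).map K.subtype = ⁅K, K⁆ := by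
    rw [commutator_def, Subgroup.map_commutator, ← MonoidHom.range_eq_map, Subgroup.range_subtype]
  have hKK : ⁅K, K⁆ < K := by
    rw [lt_iff_le_not_ge]
    refine ⟨Subgroup.commutator_le_left K K, ?_⟩
    intro h
    have h1 := Group.IsSolvable.commutator_lt_top_of_nontrivial K
    apply h1.ne
    rw [eq_top_iff]
    intro x _
    have hx : (x : L) ∈ ⁅K, K⁆ := h x.2
    rw [← e1] at hx
    obtain ⟨y, hy, hy2⟩ := hx
    have : y = x := Subtype.ext hy2
    rw [← this]; exact hy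
  have hfrob : ∀ N : Subgroup L, N.Normal → N ≤ K → ∀ k ∈ K, k ∉ N → ∀ x : L,
      x * k * x⁻¹ * k⁻¹ ∈ N → x ∈ K := fun N _ hNK => frob_quot K N hNK hC
  have hidx : ⁅K, K⁆.relIndex K = (commutator K).index := by
    have : ⁅K, K⁆.subgroupOf K = commutator K := by
      rw [← e1, Subgroup.subgroupOf, Subgroup.comap_map_eq_self_of_injective
        (Subgroup.subtype_injective K)]
    rw [Subgroup.relIndex, this]
  -- two primes
  obtain ⟨p, q, hp, hq, hpq, hpd, hqd⟩ : ∃ p q : ℕ, p.Prime ∧ q.Prime ∧ p ≠ q ∧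
      p ∣ Nat.card K ∧ q ∣ Nat.card K := by
    have hn0 : Nat.card K ≠ 0 := Nat.card_pos.ne'
    have hn1 : Nat.card K ≠ 1 := by
      rw [Ne, Subgroup.card_eq_one]; exact hK1
    obtain ⟨p, hp, hpd⟩ := Nat.exists_prime_and_dvd hn1
    by_contra hcon
    push Not at hcon
    apply hnp
    refine ⟨p, (Nat.card K).primeFactorsList.length, hp, ?_⟩
    apply Nat.eq_prime_pow_of_unique_prime_dvd hn0
    intro q hq hqd
    by_contra hne
    exact hcon p q hp hq (Ne.symm hne) hpd hqd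
  have hpd' : p ∣ ⁅K, K⁆.relIndex K := by rw [hidx]; exact prime_dvd_index_commutator hnil hp hpd
  have hqd' : q ∣ ⁅K, K⁆.relIndex K := by rw [hidx]; exact prime_dvd_index_commutator hnil hq hqd
  -- the index of the derived group is at least (e+1)²
  have hbig : (K.index + 1) ^ 2 ≤ ⁅K, K⁆.relIndex K := by
    obtain ⟨N, hN, hN1, hN2⟩ := exists_between K ⁅K, K⁆ hKK.le le_rfl hp hq hpq hpd' hqd'
    have hcN : ∀ n ∈ K, ∀ k ∈ K, k * n * k⁻¹ * n⁻¹ ∈ ⁅K, K⁆ := fun n hn k hk =>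
      Subgroup.commutator_mem_commutator hk hn
    have hf := hfrob ⁅K, K⁆ inferInstance hKK.le
    have d1 := index_dvd_relIndex_sub_one K N ⁅K, K⁆ hN1.le hN2.le
      (fun n hn k hk => hcN n (hN2.le hn) k hk) (fun n hn hn1 x hx => hf n (hN2.le hn) hn1 x hx)
    have d2 := index_dvd_relIndex_sub_one K K N hN2.le le_rfl
      (fun n hn k hk => hN1.le (hcN n hn k hk)) (fun n hn hn1 x hx => hfrob N hN hN2.le n hn hn1 x hx)
    have hm : ⁅K, K⁆.relIndex N * N.relIndex K = ⁅K, K⁆.relIndex K :=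
      Subgroup.relIndex_mul_relIndex ⁅K, K⁆ N K hN1.le hN2.le
    have a1 : ⁅K, K⁆.relIndex N ≠ 1 := by
      rw [Ne, Subgroup.relIndex_eq_one]; exact not_le_of_gt hN1
    have b1 : N.relIndex K ≠ 1 := by
      rw [Ne, Subgroup.relIndex_eq_one]; exact not_le_of_gt hN2
    have a0 : 0 < ⁅K, K⁆.relIndex N := Nat.pos_of_ne_zero Subgroup.index_ne_zero_of_finite
    have b0 : 0 < N.relIndex K := Nat.pos_of_ne_zero Subgroup.index_ne_zero_of_finite
    have a2 : K.index + 1 ≤ ⁅K, K⁆.relIndex N := by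
      have := Nat.le_of_dvd (by omega) d1
      omega
    have b2 : K.index + 1 ≤ N.relIndex K := by
      have := Nat.le_of_dvd (by omega) d2
      omega
    rw [← hm, sq]
    exact Nat.mul_le_mul a2 b2
  have hcoh₁ := coherent_linear K hS hsolv ⁅K, K⁆ le_rfl hKK (by nlinarith)
  have hbn : ((⊥ : Subgroup L).subgroupOf K).Normal := inferInstance
  have hnil' : Group.IsNilpotent (↥K ⧸ (⊥ : Subgroup L).subgroupOf K) := inferInstance
  apply IrrCoh.coherent_descent K ⊥ ⁅K, K⁆ K bot_le hKK.le hnil' hcoh₁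
  intro A B hA hB hMB hBA hAH₁ hcomm hchief hAcoh
  have hAK : A < K := lt_of_le_of_lt hAH₁ hKK
  have hBK : B ≤ K := hBA.le.trans hAK.le
  -- the centre of K/B
  have hBn : (B.subgroupOf K).Normal := inferInstance
  let D : Subgroup L := K ⊓ (Subgroup.centralizer
    ((K.map (QuotientGroup.mk' B) : Subgroup (L ⧸ B)) : Set (L ⧸ B))).comap (QuotientGroup.mk' B)
  have hKmn : (K.map (QuotientGroup.mk' B)).Normal := hK.map _ (QuotientGroup.mk'_surjective B)
  have hcn : (Subgroup.centralizer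
    ((K.map (QuotientGroup.mk' B) : Subgroup (L ⧸ B)) : Set (L ⧸ B))).Normal := inferInstance
  have hDn : D.Normal := inferInstance
  have hDm : ∀ x : L, x ∈ D ↔ (x ∈ K ∧ ∀ y ∈ K, x * y * x⁻¹ * y⁻¹ ∈ B) := by
    intro x
    constructor
    · rintro ⟨h1, h2⟩
      refine ⟨h1, fun y hy => ?_⟩
      have h3 := Subgroup.mem_centralizer_iff.mp h2 (QuotientGroup.mk' B y) ⟨y, hy, rfl⟩
      rw [← QuotientGroup.eq_one_iff]
      have h4 : (QuotientGroup.mk' B) (x * y * x⁻¹ * y⁻¹) = 1 := by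
        rw [map_mul, map_mul, map_mul, map_inv, map_inv, ← h3]
        group
      exact h4
    · rintro ⟨h1, h2⟩
      refine ⟨h1, ?_⟩
      show x ∈ (Subgroup.centralizer
        ((K.map (QuotientGroup.mk' B) : Subgroup (L ⧸ B)) : Set (L ⧸ B))).comap
        (QuotientGroup.mk' B)
      rw [Subgroup.mem_comap, Subgroup.mem_centralizer_iff]
      rintro _ ⟨y, hy, rfl⟩
      have h3 := (QuotientGroup.eq_one_iff _).mpr (h2 y hy)
      have h4 : (QuotientGroup.mk' B) (x * y * x⁻¹ * y⁻¹) = 1 := h3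
      rw [map_mul, map_mul, map_mul, map_inv, map_inv] at h4
      exact (mul_inv_eq_iff_eq_mul.mp (mul_inv_eq_one.mp h4)).symm
  have hAD : A ≤ D := fun x hx => (hDm x).mpr ⟨hAK.le hx, fun y hy => hcomm x hx y hy⟩
  have hDK : D ≤ K := inf_le_left
  have hBD : B ≤ D := hBA.le.trans hAD
  -- elements of order r in K/B
  have hord : ∀ r : ℕ, r.Prime → r ∣ ⁅K, K⁆.relIndex K → ∃ x ∈ D, x ∉ B ∧ x ^ r ∈ B := by
    intro r hr hrd
    have hnilQ : Group.IsNilpotent (K ⧸ B.subgroupOf K) := inferInstance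
    have hcard : Nat.card (K ⧸ B.subgroupOf K) = B.relIndex K := rfl
    have hrQ : r ∣ Nat.card (K ⧸ B.subgroupOf K) := by
      rw [hcard, ← Subgroup.relIndex_mul_relIndex B ⁅K, K⁆ K (hBA.le.trans hAH₁) hKK.le]
      exact hrd.trans (Dvd.intro_left _ rfl)
    obtain ⟨z, hz, hzr⟩ := exists_central_order hnilQ hr hrQ
    obtain ⟨x, rfl⟩ := QuotientGroup.mk'_surjective (B.subgroupOf K) z
    refine ⟨x, (hDm _).mpr ⟨x.2, fun y hy => ?_⟩, ?_, ?_⟩
    · have h1 := hz (QuotientGroup.mk' (B.subgroupOf K) ⟨y, hy⟩)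
      have h2 : (QuotientGroup.mk' (B.subgroupOf K)) (x * ⟨y, hy⟩ * x⁻¹ * (⟨y, hy⟩ : K)⁻¹) = 1 := by
        rw [map_mul, map_mul, map_mul, map_inv, map_inv, h1]
        group
      have h3 := (QuotientGroup.eq_one_iff _).mp h2
      exact h3
    · intro hxB
      have h1 : (QuotientGroup.mk' (B.subgroupOf K)) x = 1 := (QuotientGroup.eq_one_iff _).mpr hxB
      rw [h1, orderOf_one] at hzr
      exact hr.one_lt.ne hzr
    · have h1 : ((QuotientGroup.mk' (B.subgroupOf K)) x) ^ r = 1 := by rw [← hzr, pow_orderOf_eq_one]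
      rw [← map_pow] at h1
      have h2 := (QuotientGroup.eq_one_iff _).mp h1
      exact h2
  have hADne : A ≠ D := by
    intro hAD'
    obtain ⟨x, hxD, hxB, hxp⟩ := hord p hp hpd'
    obtain ⟨y, hyD, hyB, hyq⟩ := hord q hq hqd'
    rw [← hAD'] at hxD hyD
    -- C = {a ∈ A | a ^ p ∈ B}
    have hpow : ∀ a ∈ A, ∀ b ∈ A, ∀ n : ℕ, (QuotientGroup.mk' B (a * b)) ^ n =
        (QuotientGroup.mk' B a) ^ n * (QuotientGroup.mk' B b) ^ n := by
      intro a ha b hb n
      have h1 : Commute (QuotientGroup.mk' B a) (QuotientGroup.mk' B b) := by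
        have h3 := (QuotientGroup.eq_one_iff _).mpr (hcomm a ha b (hAK.le hb))
        have h4 : (QuotientGroup.mk' B) (a * b * a⁻¹ * b⁻¹) = 1 := h3
        rw [map_mul, map_mul, map_mul, map_inv, map_inv] at h4
        exact mul_inv_eq_iff_eq_mul.mp (mul_inv_eq_one.mp h4)
      rw [map_mul, h1.mul_pow]
    let C : Subgroup L :=
      { carrier := {a | a ∈ A ∧ a ^ p ∈ B}
        one_mem' := ⟨A.one_mem, by rw [one_pow]; exact B.one_mem⟩
        mul_mem' := by
          rintro a b ⟨ha, ha'⟩ ⟨hb, hb'⟩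
          refine ⟨A.mul_mem ha hb, ?_⟩
          rw [← QuotientGroup.eq_one_iff]
          have h1 := hpow a ha b hb p
          rw [← map_pow, ← map_pow, ← map_pow] at h1
          have h2 : (QuotientGroup.mk' B) (a ^ p) = 1 := (QuotientGroup.eq_one_iff _).mpr ha'
          have h3 : (QuotientGroup.mk' B) (b ^ p) = 1 := (QuotientGroup.eq_one_iff _).mpr hb'
          rw [h2, h3, mul_one] at h1
          exact h1
        inv_mem' := by
          rintro a ⟨ha, ha'⟩
          refine ⟨A.inv_mem ha, ?_⟩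
          rw [inv_pow]; exact B.inv_mem ha' }
    have hCn : C.Normal := by
      constructor
      rintro a ⟨ha, ha'⟩ g
      refine ⟨hA.conj_mem a ha g, ?_⟩
      rw [conj_pow]
      exact hB.conj_mem _ ha' g
    have hBC : B ≤ C := fun b hb => ⟨hBA.le hb, B.pow_mem hb p⟩
    have hCA : C ≤ A := fun a ha => ha.1
    rcases hchief C hCn hBC hCA with h | h
    · apply hxB
      rw [← h]
      exact ⟨hxD, hxp⟩
    · have hyC : y ∈ C := by rw [h]; exact hyD
      apply hyB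
      have h1 : (QuotientGroup.mk' B y) ^ p = 1 := by
        rw [← map_pow]; exact (QuotientGroup.eq_one_iff _).mpr hyC.2
      have h2 : (QuotientGroup.mk' B y) ^ q = 1 := by
        rw [← map_pow]; exact (QuotientGroup.eq_one_iff _).mpr hyq
      have h3 : orderOf (QuotientGroup.mk' B y) ∣ 1 := by
        have hc : Nat.Coprime p q := (Nat.coprime_primes hp hq).mpr hpq
        rw [← hc]
        exact Nat.dvd_gcd (orderOf_dvd_of_pow_eq_one h1) (orderOf_dvd_of_pow_eq_one h2)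
      have h4 := orderOf_eq_one_iff.mp (Nat.dvd_one.mp h3)
      exact (QuotientGroup.eq_one_iff _).mp h4
  have hADlt : A < D := lt_of_le_of_ne hAD hADne
  have hDA : K.index + 1 ≤ A.relIndex D := by
    have h1 := index_dvd_relIndex_sub_one K D A hAD hDK
      (fun n hn k hk => by
        have h1 := ((hDm n).mp hn).2 k hk
        have h2 := B.inv_mem h1
        have h3 : (n * k * n⁻¹ * k⁻¹)⁻¹ = k * n * k⁻¹ * n⁻¹ := by group
        rw [h3] at h2
        exact hBA.le h2)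
      (fun n hn hn1 x hx => hfrob A hA hAK.le n (hDK hn) hn1 x hx)
    have a1 : A.relIndex D ≠ 1 := by
      rw [Ne, Subgroup.relIndex_eq_one]; exact not_le_of_gt hADlt
    have a0 : 0 < A.relIndex D := Nat.pos_of_ne_zero Subgroup.index_ne_zero_of_finite
    have := Nat.le_of_dvd (by omega) h1
    omega
  apply IrrCoh.coherent_step K hS hsolv A B hAK hBA.le hAcoh
  intro θ hθ hθB _
  obtain ⟨n, hn, hn'⟩ := hθ.exists_degree
  have hsq := sq_degree_le K B D hBD hDK (fun x hx y hy => ((hDm x).mp hx).2 y hy) hθ hθB hn'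
  have h3 : A.relIndex D * D.relIndex K = A.relIndex K :=
    Subgroup.relIndex_mul_relIndex A D K hAD hDK
  have h4 : A.relIndex ⁅K, K⁆ * ⁅K, K⁆.relIndex K = A.relIndex K :=
    Subgroup.relIndex_mul_relIndex A ⁅K, K⁆ K hAH₁ hKK.le
  have p1 : 0 < A.relIndex ⁅K, K⁆ := Nat.pos_of_ne_zero Subgroup.index_ne_zero_of_finite
  have hx : (K.index + 1) ^ 2 ≤ A.relIndex K := by
    rw [← h4]; nlinarith
  have hnx : n ^ 2 * (K.index + 1) ≤ A.relIndex K := by
    rw [← h3, mul_comm]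
    exact Nat.mul_le_mul hDA hsq
  rw [hn']
  simp only [Complex.natCast_re]
  have hx' : ((K.index : ℝ) + 1) ^ 2 ≤ A.relIndex K := by exact_mod_cast hx
  have hnx' : (n : ℝ) ^ 2 * ((K.index : ℝ) + 1) ≤ A.relIndex K := by exact_mod_cast hnx
  have he : (0 : ℝ) < K.index := by exact_mod_cast epos
  generalize (A.relIndex K : ℝ) = x at *
  generalize (K.index : ℝ) = e at *
  have hx1 : 0 ≤ x - 1 := by nlinarith [sq_nonneg e]
  apply lt_of_pow_lt_pow_left₀ 2 hx1
  have h5 : (2 * e * (n : ℝ)) ^ 2 = 4 * e ^ 2 * (n : ℝ) ^ 2 := by ring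
  rw [h5]
  have he1 : 0 < e + 1 := by linarith
  apply lt_of_mul_lt_mul_right _ he1.le
  have h6 : 4 * e ^ 2 * (n : ℝ) ^ 2 * (e + 1) ≤ 4 * e ^ 2 * x := by
    have : 4 * e ^ 2 * (n : ℝ) ^ 2 * (e + 1) = 4 * e ^ 2 * ((n : ℝ) ^ 2 * (e + 1)) := by ring
    rw [this]
    apply mul_le_mul_of_nonneg_left hnx'; positivity
  have h7 : 4 * e ^ 2 * x < (x - 1) ^ 2 * (e + 1) := by
    obtain ⟨y, rfl⟩ : ∃ y, x = (e + 1) ^ 2 + y := ⟨x - (e + 1) ^ 2, by ring⟩
    have hy : 0 ≤ y := by linarith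
    have : ((e + 1) ^ 2 + y - 1) ^ 2 * (e + 1) - 4 * e ^ 2 * ((e + 1) ^ 2 + y) =
        e ^ 2 * (e + 1) * e ^ 2 + y * (2 * e * (e + 2) * (e + 1) - 4 * e ^ 2) + y ^ 2 * (e + 1) := by
      ring
    have h8 : 0 < e ^ 2 * (e + 1) * e ^ 2 := by positivity
    have h9 : 0 ≤ 2 * e * (e + 2) * (e + 1) - 4 * e ^ 2 := by nlinarith [mul_pos he he, pow_pos he 3]
    have h10 : 0 ≤ y * (2 * e * (e + 2) * (e + 1) - 4 * e ^ 2) := mul_nonneg hy h9
    have h11 : 0 ≤ y ^ 2 * (e + 1) := by positivity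
    linarith
  linarith

end Cfsg.Agent.Lib.IrrCoh
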