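import Cfsg.Agent.Lib.IrrCoh2
import Cfsg.Agent.Lib.FrobPart
import Cfsg.Agent.Lib.FrobInd
import Mathlib.GroupTheory.FixedPointFree

/-!
Feit's coherence theorem for Frobenius groups with nilpotent kernel.
-/

set_option autoImplicit false
open Cfsg
open Cfsg.Agent.Lib.CharBasic Cfsg.Agent.Lib.Coherence Cfsg.Agent.Lib.CoherenceSys
open Cfsg.Agent.Lib.CoherenceExt Cfsg.Agent.Lib.SeqInd Cfsg.Agent.Lib.SeqIndNil

namespace Cfsg.Agent.Lib.IrrCoh

universe u v

variable {L : Type u} [Group L] (K : Subgroup L) [hK : K.Normal]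

/-- A Frobenius kernel of even index is abelian. -/
theorem comm_of_even_index [Finite L]
    (hC : ∀ k ∈ K, k ≠ 1 → Subgroup.centralizer ({k} : Set L) ≤ K) (h2 : 2 ∣ K.index) :
    ∀ a ∈ K, ∀ b ∈ K, a * b = b * a := by
  have hdvd := Lib.FrobPart.index_dvd_card_sub_one K K hC
  obtain ⟨x, hx⟩ := exists_prime_orderOf_dvd_card' 2 (h2.trans (Subgroup.index_dvd_card K))
  have hpc : ¬ 2 ∣ Nat.card K := by
    intro h
    have h1 : 2 ∣ Nat.card K - 1 := h2.trans hdvd
    have h2 : 0 < Nat.card K := Nat.card_pos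
    omega
  have hxK : x ∉ K := by
    intro h
    apply hpc
    have := Subgroup.orderOf_dvd_natCard K h
    rwa [hx] at this
  have hfix : MonoidHom.FixedPointFree ((MulAut.conjNormal x : K ≃* K) : K →* K) := by
    intro k hk
    by_contra hne
    apply hxK
    apply hC k k.2 (fun h => hne (Subtype.ext h))
    rw [Subgroup.mem_centralizer_singleton_iff]
    have h1 := congrArg (Subtype.val : K → L) hk
    have h2 : x * k * x⁻¹ = k := h1
    exact mul_inv_eq_iff_eq_mul.mp h2
  have hinv : Function.Involutive ((MulAut.conjNormal x : K ≃* K) : K →* K) := by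
    intro k
    apply Subtype.ext
    show x * (x * k * x⁻¹) * x⁻¹ = k
    have hx2 : x * x = 1 := by
      have := pow_orderOf_eq_one x
      rwa [hx, sq] at this
    have e : x * (x * k * x⁻¹) * x⁻¹ = (x * x) * k * (x * x)⁻¹ := by group
    rw [e, hx2]; simp
  intro a ha b hb
  have := hfix.commute_all_of_involutive hinv ⟨a, ha⟩ ⟨b, hb⟩
  exact congrArg Subtype.val this

variable [Fintype L]

/-- In a Frobenius group the members of `S` are the irreducible characters nontrivial on `K`. -/
theorem above_eq (hC : ∀ k ∈ K, k ≠ 1 → Subgroup.centralizer ({k} : Set L) ≤ K) :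
    inducedIrrAbove K (⊥ : Subgroup L) = {χ | IsIrrCharacter L χ ∧ ∃ k ∈ K, χ k ≠ χ 1} := by
  have : Fintype K := Fintype.ofFinite _
  ext φ
  constructor
  · rintro ⟨θ, hθ, hθ1, -, rfl⟩
    have hirr := Lib.FrobInd.indFun_irr K hC hθ hθ1
    refine ⟨hirr, ?_⟩
    by_contra hcon
    push Not at hcon
    have h1 := Lib.IndFun.frobenius_reciprocity' K θ _ hirr.isClassFunction
    have h2 : (fun h : K => indFun K θ (h : L)) = (indFun K θ 1) • (fun _ => 1 : K → ℂ) := by
      funext h
      rw [hcon h h.2]; simp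
    rw [hirr.classInner_self, h2, classInner_smul_left,
      isIrrCharacter_fun_one.classInner_eq_zero hθ (Ne.symm hθ1), mul_zero] at h1
    exact one_ne_zero h1
  · rintro ⟨hφ, k, hk, hne⟩
    obtain ⟨θ, hθ, hθ1, rfl⟩ := Lib.FrobInd.exists_indFun_eq K hC hφ ⟨k, hk, hne⟩
    refine ⟨θ, hθ, hθ1, fun a ha => ?_, rfl⟩
    have : a = 1 := Subtype.ext (Subgroup.mem_bot.mp ha)
    rw [this]

variable {G : Type v} [Group G] [Fintype G] {τ : (L → ℂ) → (G → ℂ)}

/-- **Feit**: coherence for Frobenius groups with nilpotent kernel. -/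
theorem feit (hS : IrrSystem (inducedIrrAbove K (⊥ : Subgroup L)) τ)
    (hnil : Group.IsNilpotent K) (hK1 : K ≠ ⊥)
    (hC : ∀ k ∈ K, k ≠ 1 → Subgroup.centralizer ({k} : Set L) ≤ K) :
    IsCoherent (inducedIrrAbove K ⊥) {1}ᶜ τ ∨
      (Nat.card K = K.index + 1 ∧ ∀ a ∈ K, ∀ b ∈ K, a * b = b * a) ∨
      (∃ p m : ℕ, p.Prime ∧ Nat.card K = p ^ m ∧ (¬ ∀ a ∈ K, ∀ b ∈ K, a * b = b * a) ∧
        ⁅K, K⁆.relIndex K ≤ 4 * K.index ^ 2 + 1) := by
  have hsolv : Group.IsSolvable K := inferInstance
  have hKnt : Nontrivial K := (Subgroup.nontrivial_iff_ne_bot K).mpr hK1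
  have hdvd := Lib.FrobPart.index_dvd_card_sub_one K K hC
  have hcard1 : 1 < Nat.card K := Finite.one_lt_card
  have hle := Nat.le_of_dvd (by omega) hdvd
  by_cases hab : ∀ a ∈ K, ∀ b ∈ K, a * b = b * a
  · by_cases hcard : Nat.card K = K.index + 1
    · exact Or.inr (Or.inl ⟨hcard, hab⟩)
    · left
      have hKK : ⁅K, K⁆ = ⊥ := by
        rw [eq_bot_iff, Subgroup.commutator_le]
        intro a ha b hb
        rw [Subgroup.mem_bot, commutatorElement_eq_one_iff_mul_comm]
        exact hab a ha b hb
      apply coherent_linear K hS hsolv ⊥ hKK.le (bot_lt_iff_ne_bot.mpr hK1)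
      rw [Subgroup.relIndex_bot_left]
      omega
  · by_cases hpg : ∃ p m : ℕ, p.Prime ∧ Nat.card K = p ^ m
    · by_cases hbig : 4 * K.index ^ 2 + 1 < ⁅K, K⁆.relIndex K
      · left
        have e1 : (commutator K).map K.subtype = ⁅K, K⁆ := by
          rw [commutator_def, Subgroup.map_commutator, ← MonoidHom.range_eq_map,
            Subgroup.range_subtype]
        have hKK : ⁅K, K⁆ < K := by
          rw [lt_iff_le_not_ge]
          refine ⟨Subgroup.commutator_le_left K K, ?_⟩
          intro h
          have h1 := Group.IsSolvable.commutator_lt_top_of_nontrivial K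
          apply h1.ne
          rw [eq_top_iff]
          intro x _
          have hx : (x : L) ∈ ⁅K, K⁆ := h x.2
          rw [← e1] at hx
          obtain ⟨y, hy, hy2⟩ := hx
          have : y = x := Subtype.ext hy2
          rw [← this]; exact hy
        exact coherent_big K hS hsolv hnil hKK hbig
      · obtain ⟨p, m, hp, hpm⟩ := hpg
        exact Or.inr (Or.inr ⟨p, m, hp, hpm, hab, not_lt.mp hbig⟩)
    · left
      exact coherent_not_pgroup K hS hnil hK1 hC hpg

/-- When `K` is abelian and `|K| = [L:K] + 1`, the set `S` has one member, and `K` is elementary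
abelian. -/
theorem exceptional (hC : ∀ k ∈ K, k ≠ 1 → Subgroup.centralizer ({k} : Set L) ≤ K)
    (hab : ∀ a ∈ K, ∀ b ∈ K, a * b = b * a) (hK1 : K ≠ ⊥) (hcard : Nat.card K = K.index + 1) :
    Nat.card {χ : L → ℂ // χ ∈ inducedIrrAbove K (⊥ : Subgroup L)} = 1 ∧
    ∀ p : ℕ, p.Prime → p ∣ Nat.card K → ∀ x ∈ K, x ^ p = 1 := by
  classical
  have hKK : ⁅K, K⁆ = ⊥ := by
    rw [eq_bot_iff, Subgroup.commutator_le]
    intro a ha b hb
    rw [Subgroup.mem_bot, commutatorElement_eq_one_iff_mul_comm]
    exact hab a ha b hb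
  have epos : 0 < K.index := Nat.pos_of_ne_zero Subgroup.index_ne_zero_of_finite
  have hKnil : Group.IsSolvable K := by
    have : IsMulCommutative K := ⟨⟨fun a b => Subtype.ext (hab a a.2 b b.2)⟩⟩
    exact isSolvable_of_comm (fun a b => Subtype.ext (hab a a.2 b b.2))
  constructor
  · set T := (above_finite K (⊥ : Subgroup L)).toFinset with hT
    have hTm : ∀ φ, φ ∈ T ↔ φ ∈ inducedIrrAbove K (⊥ : Subgroup L) :=
      fun φ => Set.Finite.mem_toFinset _
    have hsum := sum_wt_above K (⊥ : Subgroup L) T hTm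
    have hw : ∀ φ ∈ T, wt φ = (K.index : ℝ) ^ 2 := by
      intro φ hφ
      obtain ⟨θ, hθ, h1, h2, rfl⟩ := (hTm φ).mp hφ
      unfold wt nsq
      rw [(Lib.FrobInd.indFun_irr K hC hθ h1).classInner_self, Lib.IndFun.indFun_one,
        Cfsg.Agent.S1521.one_eq_one_of_const hθ (fun x hx => h2 x (by
          have := Cfsg.Agent.S1521.commutator_coe K hx
          rwa [hKK] at this))]
      simp
    rw [Finset.sum_congr rfl hw, Finset.sum_const, nsmul_eq_mul, Subgroup.relIndex_bot_left,
      hcard] at hsum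
    have he : (K.index : ℝ) ^ 2 ≠ 0 := by
      have : (0 : ℝ) < K.index := by exact_mod_cast epos
      positivity
    have h1 : (T.card : ℝ) = 1 := by
      apply mul_right_cancel₀ he
      rw [hsum]; push_cast; ring
    have h2 : T.card = 1 := by exact_mod_cast h1
    rw [← h2]
    exact Nat.subtype_card T hTm
  · intro p hp hpd x hx
    have := Fact.mk hp
    obtain ⟨y, hy⟩ := exists_prime_orderOf_dvd_card' p hpd
    have hy1 : (y : L) ≠ 1 := by
      intro h
      have : y = 1 := Subtype.ext h
      rw [this, orderOf_one] at hy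
      exact hp.one_lt.ne hy
    have hcen : Subgroup.centralizer ({(y : L)} : Set L) = K := by
      apply le_antisymm (hC y y.2 hy1)
      intro k hk
      rw [Subgroup.mem_centralizer_singleton_iff]
      exact hab k hk y y.2
    have h1 := Cfsg.Agent.Lib.CharBasic.card_isConj (y : L)
    rw [hcen] at h1
    by_cases hx1 : x = 1
    · rw [hx1, one_pow]
    have hconj : IsConj (y : L) x := by
      -- the conjugates of y fill K minus 1
      set A : Finset L := Finset.univ.filter (fun z => IsConj (y : L) z) with hA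
      set B : Finset L := Finset.univ.filter (fun z => z ∈ K ∧ z ≠ 1) with hB
      have hAB : A ⊆ B := by
        intro z hz
        rw [hA, Finset.mem_filter] at hz
        rw [hB, Finset.mem_filter]
        refine ⟨Finset.mem_univ _, ?_, ?_⟩
        · obtain ⟨c, hc⟩ := isConj_iff.mp hz.2
          rw [← hc]; exact hK.conj_mem _ y.2 c
        · rintro rfl
          exact hy1 (isConj_one_left.mp hz.2)
      have hBc : B.card = K.index := by
        have h1 : (Finset.univ.filter (fun n => n ∈ K)).card = Nat.card K := by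
          rw [Nat.card_eq_fintype_card, Fintype.card_subtype]
        have h2 : B = (Finset.univ.filter (fun n => n ∈ K)).erase 1 := by
          ext n
          simp only [hB, Finset.mem_filter, Finset.mem_univ, true_and, Finset.mem_erase]
          exact and_comm
        rw [h2, Finset.card_erase_of_mem (by simp [K.one_mem]), h1, hcard]
        omega
      have hAc : A.card = K.index := by
        rw [← h1, Nat.card_eq_fintype_card, Fintype.card_subtype]
      have hABe : A = B := Finset.eq_of_subset_of_card_le hAB (by rw [hAc, hBc])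
      have hxB : x ∈ B := by
        rw [hB, Finset.mem_filter]; exact ⟨Finset.mem_univ _, hx, hx1⟩
      rw [← hABe, hA, Finset.mem_filter] at hxB
      exact hxB.2
    obtain ⟨c, hc⟩ := isConj_iff.mp hconj
    rw [← hc, conj_pow]
    have : (y : L) ^ p = 1 := by
      have := pow_orderOf_eq_one (y : L)
      rwa [Subgroup.orderOf_coe, hy] at this
    rw [this]; simp

end Cfsg.Agent.Lib.IrrCoh
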