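import Cfsg.Agent.Lib.IrrCoh3
import Cfsg.Agent.S1522
import Cfsg.Agent.S1524

/-!
The Feit–Sibley theorem for TI nilpotent subgroups.
-/

set_option autoImplicit false
open Cfsg
open Cfsg.Agent.Lib.CharBasic Cfsg.Agent.Lib.Coherence Cfsg.Agent.Lib.CoherenceSys
open Cfsg.Agent.Lib.CoherenceExt Cfsg.Agent.Lib.SeqInd Cfsg.Agent.Lib.SeqIndNil
open Cfsg.Agent.Lib.Sibley

namespace Cfsg.Agent.Lib.IrrCoh

universe u

/-- Feit–Sibley. -/
theorem ti_feit {G : Type u} [Group G] [Fintype G] (H L : Subgroup G) [Fintype L]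
    (hH1 : H ≠ ⊥) (hnil : Group.IsNilpotent H) (hTI : IsTISubset (H : Set G))
    (hN : Subgroup.normalizer (H : Set G) = L) (hlt : H < L)
    (hC : ∀ k ∈ H, k ≠ 1 → Subgroup.centralizer ({k} : Set G) ≤ H) :
    IsCoherent {χ : L → ℂ | IsIrrCharacter L χ ∧ ∃ x : L, (x : G) ∈ H ∧ χ x ≠ χ 1} {1}ᶜ
      (fun α => indFun L α) ∨
    (Nat.card {χ : L → ℂ // IsIrrCharacter L χ ∧ ∃ x : L, (x : G) ∈ H ∧ χ x ≠ χ 1} = 1 ∧
      Nat.card H = (H.subgroupOf L).index + 1 ∧
      ∀ p : ℕ, p.Prime → p ∣ Nat.card H → IsElementaryAbelian p H) ∨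
    (∃ m : ℕ, Nat.card H = 2 ^ m ∧ ¬ 2 ∣ (H.subgroupOf L).index ∧
      (⁅H, H⁆.subgroupOf H).index < 4 * (H.subgroupOf L).index ^ 2) := by
  classical
  set K : Subgroup L := H.subgroupOf L with hK
  have hHL : H ≤ L := hlt.le
  have hKn : K.Normal := by
    constructor
    intro k hk x
    have hx : (x : G) ∈ Subgroup.normalizer (H : Set G) := by rw [hN]; exact x.2
    exact (Subgroup.mem_normalizer_iff.mp hx k).mp hk
  have hC' : ∀ k ∈ K, k ≠ 1 → Subgroup.centralizer ({k} : Set L) ≤ K := by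
    intro k hk hk1 x hx
    apply hC (k : G) hk (fun h => hk1 (Subtype.ext h))
    have := Subgroup.mem_centralizer_singleton_iff.mp hx
    exact Subgroup.mem_centralizer_singleton_iff.mpr (congrArg Subtype.val this)
  have hKbot : K ≠ ⊥ := by
    intro h
    rw [hK, Subgroup.subgroupOf_eq_bot] at h
    apply hH1
    rw [eq_bot_iff]
    intro x hx
    exact h.le_bot ⟨hx, hHL hx⟩
  have hKtop : K ≠ ⊤ := by
    intro h
    rw [hK, Subgroup.subgroupOf_eq_top] at h
    exact absurd h (not_le_of_gt hlt)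
  have hcardH : Nat.card K = Nat.card H :=
    Nat.card_congr (Subgroup.subgroupOfEquivOfLe hHL).toEquiv
  have hKnil : Group.IsNilpotent K :=
    (Group.isNilpotent_congr (Subgroup.subgroupOfEquivOfLe hHL)).mpr hnil
  have hirr : ∀ χ ∈ inducedIrrAbove K (⊥ : Subgroup L), IsIrrCharacter L χ := by
    rintro χ ⟨θ, hθ, h1, -, rfl⟩
    exact Lib.FrobInd.indFun_irr K hC' hθ h1
  have hτ := ti_isometry H L hTI hN (inducedIrrAbove K (⊥ : Subgroup L))
    (fun φ h => gc_of_irr (hirr φ h)) (by
      rintro φ ⟨θ, hθ, h1, -, rfl⟩ x hx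
      exact Lib.DadeAdj.indFun_off K _ hx)
  have hS : IrrSystem (inducedIrrAbove K (⊥ : Subgroup L)) (fun α : L → ℂ => indFun L α) :=
    ⟨hirr, hτ.1, hτ.2⟩
  have hset : {χ : L → ℂ | IsIrrCharacter L χ ∧ ∃ x : L, (x : G) ∈ H ∧ χ x ≠ χ 1} =
      inducedIrrAbove K (⊥ : Subgroup L) := by
    rw [above_eq K hC']
    rfl
  have hcommKH : (∀ a ∈ K, ∀ b ∈ K, a * b = b * a) → ∀ a ∈ H, ∀ b ∈ H, a * b = b * a := by
    intro h a ha b hb
    have := h ⟨a, hHL ha⟩ ha ⟨b, hHL hb⟩ hb
    exact congrArg (Subtype.val : L → G) this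
  rcases feit K hS hKnil hKbot hC' with h | ⟨h, hab⟩ | ⟨p, m, hp, hpm, hnab, hidx⟩
  · left
    rw [hset]; exact h
  · right; left
    obtain ⟨h1, h2⟩ := exceptional K hC' hab hKbot h
    refine ⟨?_, by rw [← hcardH]; exact h, ?_⟩
    · rw [← h1]
      apply Nat.card_congr
      apply Equiv.subtypeEquivRight
      intro χ
      exact Set.ext_iff.mp hset χ
    · intro p hp hpd
      refine ⟨⟨⟨fun a b => Subtype.ext (hcommKH hab a a.2 b b.2)⟩⟩, ?_⟩
      intro a ha
      have := h2 p hp (by rw [hcardH]; exact hpd) ⟨a, hHL ha⟩ ha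
      exact congrArg (Subtype.val : L → G) this
  · have hidxodd : ¬ 2 ∣ K.index := fun h => hnab (comm_of_even_index K hC' h)
    rcases hp.eq_two_or_odd' with rfl | hpodd
    · right; right
      refine ⟨m, by rw [← hcardH]; exact hpm, hidxodd, ?_⟩
      -- transfer the index of the derived group
      have hrel : (⁅H, H⁆.subgroupOf H).index = ⁅K, K⁆.relIndex K := by
        have e1 : ⁅K, K⁆.map L.subtype = ⁅H, H⁆ := by
          rw [Subgroup.map_commutator, hK, Subgroup.map_subgroupOf_eq_of_le hHL]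
        have e2 : K.map L.subtype = H := by rw [hK, Subgroup.map_subgroupOf_eq_of_le hHL]
        have e3 : ⁅H, H⁆.relIndex H = ⁅K, K⁆.relIndex K := by
          rw [← e1]
          conv_lhs => rw [← e2]
          exact Subgroup.relIndex_map_map_of_injective _ _ (Subgroup.subtype_injective L)
        exact e3
      rw [hrel]
      have e1 : (commutator K).map K.subtype = ⁅K, K⁆ := by
        rw [commutator_def, Subgroup.map_commutator, ← MonoidHom.range_eq_map,
          Subgroup.range_subtype]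
      have hKsolv : Group.IsSolvable K := inferInstance
      have hKnt : Nontrivial K := (Subgroup.nontrivial_iff_ne_bot K).mpr hKbot
      have hKK : ⁅K, K⁆ < K := by
        rw [lt_iff_le_not_ge]
        refine ⟨Subgroup.commutator_le_left K K, ?_⟩
        intro h
        have h1 := Group.IsSolvable.commutator_lt_top_of_nontrivial K
        apply h1.ne
        rw [eq_top_iff]
        intro x _
        have hx : (x : L) ∈ ⁅K, K⁆ := h x.2
        rw [← e1] at hx
        obtain ⟨y, hy, hy2⟩ := hx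
        have : y = x := Subtype.ext hy2
        rw [← this]; exact hy
      have hd : ⁅K, K⁆.relIndex K ∣ 2 ^ m := by rw [← hpm]; exact Subgroup.relIndex_dvd_card _ _
      obtain ⟨j, -, hj⟩ := (Nat.dvd_prime_pow hp).mp hd
      have hj0 : j ≠ 0 := by
        rintro rfl
        rw [pow_zero, Subgroup.relIndex_eq_one] at hj
        exact absurd hj (not_le_of_gt hKK)
      have heven : 2 ∣ ⁅K, K⁆.relIndex K := by rw [hj]; exact dvd_pow_self 2 hj0
      have hidx1 : K.index ≠ 1 := fun h => hKtop (Subgroup.index_eq_one.mp h)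
      have hne : ⁅K, K⁆.relIndex K ≠ 4 * K.index ^ 2 := by
        intro h
        have h1 : K.index ∣ 2 ^ j := by
          rw [← hj, h, sq]
          exact ⟨4 * K.index, by ring⟩
        obtain ⟨i, -, hi⟩ := (Nat.dvd_prime_pow Nat.prime_two).mp h1
        have hi0 : i ≠ 0 := by
          rintro rfl
          exact hidx1 (by simpa using hi)
        exact hidxodd (by rw [hi]; exact dvd_pow_self 2 hi0)
      omega
    · left
      have hodd : Odd (Nat.card L) := by
        rw [← K.card_mul_index, hpm]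
        refine hpodd.pow.mul ?_
        rw [← Nat.not_even_iff_odd, even_iff_two_dvd]
        exact hidxodd
      rw [hset]
      exact Cfsg.Agent.S1524.sibley H L hodd hHL hnil hH1 hlt.ne K hK hC' hTI hN

end Cfsg.Agent.Lib.IrrCoh
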