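import Mathlib
import Cfsg.Agent.Lib.H10PMin

/-!
# p-minimal groups of rank one (helper19): centres of overgroups of the Sylow normalizer

`D p E`: automorphisms of `E` centralizing a Sylow `p`-subgroup `R` are induced by `Z(R)`, and the class of a nontrivial
element of `Z(R)` has length `≢ 1 (mod p)`.
-/

set_option autoImplicit false

namespace Cfsg.Agent.Lib.IsoRk1

open Subgroup

variable {p : ℕ} [hp : Fact p.Prime]

/-- the two facts for a given Sylow subgroup -/
def DR (p : ℕ) (E : Type*) [Group E] (R : Subgroup E) : Prop :=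
  (∀ σ : E ≃* E, (∀ r ∈ R, σ r = r) → ∃ u ∈ R, (∀ r ∈ R, r * u = u * r) ∧ ∀ x, σ x = u * x * u⁻¹) ∧
    ∀ u ∈ R, (∀ r ∈ R, r * u = u * r) → u ≠ 1 → ¬ (centralizer ({u} : Set E)).index ≡ 1 [MOD p]

def D (p : ℕ) (E : Type*) [Group E] : Prop := ∃ R : Sylow p E, DR p E R

omit hp in
theorem DR.map {E E' : Type*} [Group E] [Group E'] {R : Subgroup E} (h : DR p E R) (e : E ≃* E') :
    DR p E' (R.map e.toMonoidHom) := by
  refine ⟨fun σ hσ => ?_, fun u hu huc hu1 hidx => ?_⟩
  · obtain ⟨u, hu, huc, hux⟩ := h.1 ((e.trans σ).trans e.symm) (fun r hr => by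
      have := hσ (e r) ⟨r, hr, rfl⟩
      simp [this])
    refine ⟨e u, ⟨u, hu, rfl⟩, ?_, fun x => ?_⟩
    · rintro _ ⟨r, hr, rfl⟩
      change e r * e u = e u * e r
      rw [← map_mul, ← map_mul, huc r hr]
    · have h1 := congrArg e (hux (e.symm x))
      simpa using h1
  · obtain ⟨u, hu, rfl⟩ := hu
    change e u ≠ 1 at hu1
    refine h.2 u hu (fun r hr => ?_) (by rintro rfl; exact hu1 (map_one e)) ?_
    · have h1 := huc (e r) ⟨r, hr, rfl⟩
      change e r * e u = e u * e r at h1
      rw [← map_mul, ← map_mul] at h1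
      exact e.injective h1
    · have h2 : centralizer ({u} : Set E) = (centralizer ({e u} : Set E')).comap e.toMonoidHom := by
        ext x
        simp only [mem_centralizer_singleton_iff, mem_comap]
        constructor
        · intro h; change e x * e u = e u * e x; rw [← map_mul, ← map_mul, h]
        · intro h
          change e x * e u = e u * e x at h
          rw [← map_mul, ← map_mul] at h
          exact e.injective h
      rw [h2, index_comap_of_surjective _ e.surjective]
      exact hidx

theorem D.equiv {E E' : Type*} [Group E] [Group E'] [Finite E] (h : D p E) (e : E ≃* E') : D p E' := by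
  obtain ⟨R, hR⟩ := h
  have he : Function.Surjective e.toMonoidHom := e.surjective
  exact ⟨R.mapSurjective he, by rw [Sylow.coe_mapSurjective]; exact hR.map e⟩

theorem D.all {E : Type*} [Group E] [Finite E] (h : D p E) (R : Sylow p E) : DR p E R := by
  obtain ⟨R₀, hR⟩ := h
  obtain ⟨g, rfl⟩ := MulAction.exists_smul_eq E R₀ R
  exact hR.map (MulAut.conj g)

/-- counting: an element of a Sylow group `S` central in `N(S)` has a conjugacy class of length `≡ 1 (mod p)` -/
theorem index_modEq_one {X : Type*} [Group X] [Finite X] (S : Sylow p X) {z : X}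
    (hzN : ∀ g ∈ normalizer ((S : Subgroup X) : Set X), g * z = z * g) :
    (centralizer ({z} : Set X)).index ≡ 1 [MOD p] := by
  classical
  set C := centralizer ({z} : Set X) with hC
  have hSC : ∀ s ∈ (S : Subgroup X), s * z = z * s := fun s hs => hzN s (le_normalizer hs)
  have h1 : Nat.card (X ⧸ C) ≡ Nat.card (MulAction.fixedPoints ↥(S : Subgroup X) (X ⧸ C)) [MOD p] :=
    S.isPGroup'.card_modEq_card_fixedPoints _
  have h2 : Nat.card (MulAction.fixedPoints ↥(S : Subgroup X) (X ⧸ C)) = 1 := by
    rw [Nat.card_eq_one_iff_unique]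
    refine ⟨⟨?_⟩, ⟨⟨((1 : X) : X ⧸ C), ?_⟩⟩⟩
    · have key : ∀ a : MulAction.fixedPoints ↥(S : Subgroup X) (X ⧸ C), (a : X ⧸ C) = ((1 : X) : X ⧸ C) := by
        rintro ⟨a, ha⟩
        obtain ⟨g, rfl⟩ := QuotientGroup.mk_surjective a
        have h3 : ∀ s ∈ (S : Subgroup X), (g⁻¹ * s * g) * z = z * (g⁻¹ * s * g) := by
          intro s hs
          have h4 := ha ⟨s, hs⟩
          have h5 : ((s * g : X) : X ⧸ C) = (g : X ⧸ C) := h4
          rw [eq_comm, QuotientGroup.eq, ← mul_assoc, hC, mem_centralizer_singleton_iff] at h5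
          exact h5
        have h6 : g * z * g⁻¹ ∈ centralizer ((S : Subgroup X) : Set X) := by
          rw [mem_centralizer_iff]
          intro s hs
          have h7 := h3 s hs
          calc s * (g * z * g⁻¹) = g * ((g⁻¹ * s * g) * z) * g⁻¹ := by group
            _ = g * (z * (g⁻¹ * s * g)) * g⁻¹ := by rw [h7]
            _ = _ := by group
        have h8 : z ∈ centralizer ((S : Subgroup X) : Set X) := by
          rw [mem_centralizer_iff]; exact fun s hs => hSC s hs
        obtain ⟨n, hn, hn'⟩ := S.conj_eq_normalizer_conj_of_mem_centralizer z g⁻¹ h8 (by simpa using h6)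
        have h9 : n⁻¹ * z * n = z := by
          rw [mul_assoc, ← hzN n hn, inv_mul_cancel_left]
        rw [h9, inv_inv] at hn'
        rw [QuotientGroup.eq, mul_one, hC, mem_centralizer_singleton_iff]
        rw [mul_inv_eq_iff_eq_mul] at hn'
        rw [inv_mul_eq_iff_eq_mul, ← mul_assoc, hn', mul_inv_cancel_right]
      intro a b
      exact Subtype.ext ((key a).trans (key b).symm)
    · intro s
      change (((s : X) * (1 : X) : X) : X ⧸ C) = _
      rw [mul_one, QuotientGroup.eq, mul_one, hC, mem_centralizer_singleton_iff]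
      exact (Commute.inv_left (hSC s s.2) : _)
  rw [h2] at h1
  exact h1

omit hp in
theorem relIndex_eq {X : Type*} [Group X] [Finite X] (E K : Subgroup X) [hE : E.Normal] (h : E ⊔ K = ⊤) :
    K.relIndex E = K.index := by
  have h1 := H10PMin.relIndex_sup_of_le_normalizer (N := E) (H := K) (by rw [normalizer_eq_top]; exact le_top)
  rw [h, relIndex_top_right, inf_comm, inf_relIndex_right] at h1
  exact h1.symm

/-- main lemma for the quotient -/
theorem eq_one {X : Type*} [Group X] [Finite X] (S : Sylow p X) (E : Subgroup X) [hE : E.Normal]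
    (hES : E ⊔ S = ⊤) (hC : ∀ c ∈ (S : Subgroup X), (∀ e ∈ E, c * e = e * c) → c = 1) (hD : D p E) {z : X}
    (hz : z ∈ (S : Subgroup X)) (hzN : ∀ g ∈ normalizer ((S : Subgroup X) : Set X), g * z = z * g) : z = 1 := by
  have hSC : ∀ s ∈ (S : Subgroup X), s * z = z * s := fun s hs => hzN s (le_normalizer hs)
  -- the Sylow subgroup of `E`
  have hpg : IsPGroup p ↥((S : Subgroup X).subgroupOf E) := by
    have h1 := S.isPGroup'
    exact h1.comap_of_injective _ E.subtype_injective
  have hidx : ¬ p ∣ ((S : Subgroup X).subgroupOf E).index := by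
    have h1 : (S : Subgroup X).relIndex E = (S : Subgroup X).index := relIndex_eq E S hES
    change ¬ p ∣ (S : Subgroup X).relIndex E
    rw [h1]
    exact S.not_dvd_index
  set R : Sylow p E := hpg.toSylow hidx with hR
  have hRm : ∀ r : E, r ∈ (R : Subgroup E) ↔ (r : X) ∈ (S : Subgroup X) := fun r => Iff.rfl
  obtain ⟨hD1, hD2⟩ := hD.all R
  obtain ⟨u, huR, huc, hu⟩ := hD1 (MulAut.conjNormal z) (fun r hr => by
    apply Subtype.ext
    rw [MulAut.conjNormal_apply, ← hSC _ ((hRm r).1 hr), mul_inv_cancel_right])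
  have h1 : z⁻¹ * (u : X) = 1 := by
    apply hC _ (mul_mem (inv_mem hz) ((hRm u).1 huR))
    intro e he
    have h2 := congrArg Subtype.val (hu ⟨e, he⟩)
    rw [MulAut.conjNormal_apply] at h2
    change z * e * z⁻¹ = (u : X) * e * (u : X)⁻¹ at h2
    have h3 : (u : X) * e = z * e * z⁻¹ * u := by rw [h2, inv_mul_cancel_right]
    rw [mul_assoc, h3]
    group
  have hzu : z = u := by rwa [inv_mul_eq_one] at h1
  by_contra hz1
  refine hD2 u huR huc (fun h => hz1 (by rw [hzu, h]; rfl)) ?_
  have h3 := index_modEq_one S hzN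
  have h4 : (centralizer ({z} : Set X)).index = (centralizer ({u} : Set E)).index := by
    have h5 : E ⊔ centralizer ({z} : Set X) = ⊤ := by
      rw [eq_top_iff, ← hES]
      apply sup_le_sup_left
      intro s hs
      rw [mem_centralizer_singleton_iff]
      exact hSC s hs
    rw [← relIndex_eq E _ h5]
    change ((centralizer ({z} : Set X)).subgroupOf E).index = _
    congr 1
    ext x
    rw [mem_subgroupOf, mem_centralizer_singleton_iff, mem_centralizer_singleton_iff, hzu]
    exact ⟨fun h => Subtype.ext h, fun h => congrArg Subtype.val h⟩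
  rwa [h4] at h3

end Cfsg.Agent.Lib.IsoRk1
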