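import Cfsg.Agent.Lib.IsoRk1c
import Cfsg.Agent.Lib.ClSLn

set_option autoImplicit false

namespace Cfsg.Agent.Lib.IsoRk1

open Subgroup Matrix

section SL2

variable {F : Type*} [Field F]

theorem sl_det (g : SpecialLinearGroup (Fin 2) F) : g.1 0 0 * g.1 1 1 - g.1 0 1 * g.1 1 0 = 1 := by
  have := g.2; rwa [det_fin_two] at this

theorem sl_mul (g h : SpecialLinearGroup (Fin 2) F) (i j : Fin 2) :
    (g * h).1 i j = g.1 i 0 * h.1 0 j + g.1 i 1 * h.1 1 j := by
  change (g.1 * h.1) i j = _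
  rw [mul_apply, Fin.sum_univ_two]

theorem sl_inv (g : SpecialLinearGroup (Fin 2) F) : (g⁻¹).1 0 0 = g.1 1 1 ∧ (g⁻¹).1 0 1 = - g.1 0 1 ∧
    (g⁻¹).1 1 0 = - g.1 1 0 ∧ (g⁻¹).1 1 1 = g.1 0 0 := by
  have h : (g⁻¹).1 = adjugate g.1 := Matrix.SpecialLinearGroup.coe_inv g
  rw [h, adjugate_fin_two]; simp

theorem sl_ext {g h : SpecialLinearGroup (Fin 2) F} (h0 : g.1 0 0 = h.1 0 0) (h1 : g.1 0 1 = h.1 0 1)
    (h2 : g.1 1 0 = h.1 1 0) (h3 : g.1 1 1 = h.1 1 1) : g = h := by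
  apply Matrix.SpecialLinearGroup.ext
  intro i j
  fin_cases i <;> fin_cases j <;> assumption

/-- upper unitriangular matrices -/
def Us (F : Type*) [Field F] : Subgroup (SpecialLinearGroup (Fin 2) F) where
  carrier := {g | g.1 0 0 = 1 ∧ g.1 1 0 = 0 ∧ g.1 1 1 = 1}
  one_mem' := ⟨rfl, rfl, rfl⟩
  mul_mem' {a b} ha hb := by
    obtain ⟨a1, a2, a3⟩ := ha; obtain ⟨b1, b2, b3⟩ := hb
    refine ⟨?_, ?_, ?_⟩ <;> rw [sl_mul] <;> simp [a1, a2, a3, b1, b2, b3]
  inv_mem' {a} ha := by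
    obtain ⟨a1, a2, a3⟩ := ha
    obtain ⟨h0, h1, h2, h3⟩ := sl_inv a
    exact ⟨by rw [h0, a3], by rw [h2, a2, neg_zero], by rw [h3, a1]⟩

theorem mem_Us {g : SpecialLinearGroup (Fin 2) F} : g ∈ Us F ↔ g.1 0 0 = 1 ∧ g.1 1 0 = 0 ∧ g.1 1 1 = 1 := Iff.rfl

def uu (b : F) : SpecialLinearGroup (Fin 2) F := ⟨!![1, b; 0, 1], by rw [det_fin_two]; simp⟩
def ww : SpecialLinearGroup (Fin 2) F := ⟨!![0, 1; -1, 0], by rw [det_fin_two]; simp⟩

theorem uu_mem (b : F) : uu b ∈ Us F := ⟨rfl, rfl, rfl⟩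

theorem eq_uu {g : SpecialLinearGroup (Fin 2) F} (hg : g ∈ Us F) : g = uu (g.1 0 1) := by
  obtain ⟨h1, h2, h3⟩ := hg
  exact sl_ext h1 rfl h2 h3

noncomputable def UsEquiv : ↥(Us F) ≃ F where
  toFun g := g.1.1 0 1
  invFun b := ⟨uu b, uu_mem b⟩
  left_inv g := Subtype.ext (eq_uu g.2).symm
  right_inv b := rfl

theorem Us_comm {g h : SpecialLinearGroup (Fin 2) F} (hg : g ∈ Us F) (hh : h ∈ Us F) : g * h = h * g := by
  obtain ⟨a1, a2, a3⟩ := hg; obtain ⟨b1, b2, b3⟩ := hh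
  apply sl_ext <;> rw [sl_mul, sl_mul] <;> simp [a1, a2, a3, b1, b2, b3, add_comm]

theorem upper_conj {n g : SpecialLinearGroup (Fin 2) F} (hn : n.1 1 0 = 0) (hg : g ∈ Us F) : n * g * n⁻¹ ∈ Us F := by
  obtain ⟨a1, a2, a3⟩ := hg
  obtain ⟨h0, h1, h2, h3⟩ := sl_inv n
  have hd := sl_det n
  rw [hn, mul_zero, sub_zero] at hd
  refine ⟨?_, ?_, ?_⟩ <;> rw [sl_mul, sl_mul, sl_mul] <;> simp [a1, a2, a3, h0, h1, h2, h3, hn, hd]
  rw [mul_comm]; exact hd

theorem upper_mem [Finite F] {n : SpecialLinearGroup (Fin 2) F} (hn : n.1 1 0 = 0) :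
    n ∈ normalizer ((Us F : Subgroup _) : Set (SpecialLinearGroup (Fin 2) F)) := by
  have hn' : (n⁻¹).1 1 0 = 0 := by rw [(sl_inv n).2.2.1, hn, neg_zero]
  rw [mem_normalizer_iff]
  intro g
  refine ⟨fun hg => upper_conj hn hg, fun hg => ?_⟩
  have h1 := upper_conj hn' hg
  have h2 : n⁻¹ * (n * g * n⁻¹) * n⁻¹⁻¹ = g := by group
  rwa [h2] at h1

theorem ww_conj {u : SpecialLinearGroup (Fin 2) F} (hu : u ∈ Us F) (h : ww⁻¹ * u * ww ∈ Us F) : u = 1 := by
  have h1 := h.2.1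
  obtain ⟨i0, i1, i2, i3⟩ := sl_inv (ww (F := F))
  obtain ⟨u1, u2, u3⟩ := hu
  have w00 : (ww (F := F)).1 0 0 = 0 := rfl
  have w01 : (ww (F := F)).1 0 1 = 1 := rfl
  have w10 : (ww (F := F)).1 1 0 = -1 := rfl
  have w11 : (ww (F := F)).1 1 1 = 0 := rfl
  rw [sl_mul, sl_mul, sl_mul, i2, i3, w00, w10, u1, u2, u3] at h1
  simp at h1
  apply sl_ext
  · exact u1
  · exact h1
  · exact u2
  · exact u3

theorem bruhat (g : SpecialLinearGroup (Fin 2) F) : g.1 1 0 = 0 ∨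
    ∃ u ∈ Us F, ∃ b : SpecialLinearGroup (Fin 2) F, b.1 1 0 = 0 ∧ g = u * ww * b := by
  by_cases hc : g.1 1 0 = 0
  · exact Or.inl hc
  right
  refine ⟨uu (g.1 0 0 / g.1 1 0), uu_mem _, ww⁻¹ * (uu (g.1 0 0 / g.1 1 0))⁻¹ * g, ?_, by group⟩
  obtain ⟨i0, i1, i2, i3⟩ := sl_inv (ww (F := F))
  obtain ⟨j0, j1, j2, j3⟩ := sl_inv (uu (g.1 0 0 / g.1 1 0))
  have w00 : (ww (F := F)).1 0 0 = 0 := rfl
  have w10 : (ww (F := F)).1 1 0 = -1 := rfl
  have v00 : (uu (g.1 0 0 / g.1 1 0)).1 0 0 = 1 := rfl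
  have v01 : (uu (g.1 0 0 / g.1 1 0)).1 0 1 = g.1 0 0 / g.1 1 0 := rfl
  have v10 : (uu (g.1 0 0 / g.1 1 0)).1 1 0 = 0 := rfl
  have v11 : (uu (g.1 0 0 / g.1 1 0)).1 1 1 = 1 := rfl
  rw [sl_mul, sl_mul, sl_mul, i2, i3, j0, j1, j2, j3, w00, w10, v00, v01, v10, v11]
  field_simp
  ring

def tu (x t : F) (ht : t * t = 1) : SpecialLinearGroup (Fin 2) F := ⟨!![t, x; 0, t], by rw [det_fin_two]; simp [ht]⟩

theorem tu_comm (x t : F) (ht : t * t = 1) (b : F) : tu x t ht * uu b = uu b * tu x t ht := by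
  have v00 : (uu b).1 0 0 = 1 := rfl
  have v01 : (uu b).1 0 1 = b := rfl
  have v10 : (uu b).1 1 0 = 0 := rfl
  have v11 : (uu b).1 1 1 = 1 := rfl
  have t00 : (tu x t ht).1 0 0 = t := rfl
  have t01 : (tu x t ht).1 0 1 = x := rfl
  have t10 : (tu x t ht).1 1 0 = 0 := rfl
  have t11 : (tu x t ht).1 1 1 = t := rfl
  apply sl_ext <;> rw [sl_mul, sl_mul] <;> simp only [v00, v01, v10, v11, t00, t01, t10, t11] <;> ring

/-- the centralizer of a transvection -/
noncomputable def centEquiv {b : F} (hb : b ≠ 0) :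
    ↥(centralizer ({uu b} : Set (SpecialLinearGroup (Fin 2) F))) ≃ F × {t : F // t * t = 1} where
  toFun g := (g.1.1 0 1, ⟨g.1.1 0 0, by
    have h := mem_centralizer_singleton_iff.1 g.2
    have h0 := congrArg (fun x : SpecialLinearGroup (Fin 2) F => x.1 0 0) h
    have h1 := congrArg (fun x : SpecialLinearGroup (Fin 2) F => x.1 0 1) h
    have v00 : (uu b).1 0 0 = 1 := rfl
    have v01 : (uu b).1 0 1 = b := rfl
    have v10 : (uu b).1 1 0 = 0 := rfl
    have v11 : (uu b).1 1 1 = 1 := rfl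
    simp only [sl_mul, v00, v01, v10, v11, mul_one, one_mul, mul_zero, add_zero] at h0 h1
    have hd := sl_det g.1
    have h2 : g.1.1 1 0 = 0 := by
      have : b * g.1.1 1 0 = 0 := by linear_combination -h0
      exact (mul_eq_zero.1 this).resolve_left hb
    have h3 : g.1.1 0 0 = g.1.1 1 1 := by
      have : b * (g.1.1 0 0 - g.1.1 1 1) = 0 := by linear_combination h1
      exact sub_eq_zero.1 ((mul_eq_zero.1 this).resolve_left hb)
    rw [h2, ← h3] at hd
    linear_combination hd⟩)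
  invFun x := ⟨tu x.1 x.2.1 x.2.2, mem_centralizer_singleton_iff.2 (tu_comm _ _ _ b)⟩
  left_inv g := by
    apply Subtype.ext
    have h := mem_centralizer_singleton_iff.1 g.2
    have h0 := congrArg (fun x : SpecialLinearGroup (Fin 2) F => x.1 0 0) h
    have h1 := congrArg (fun x : SpecialLinearGroup (Fin 2) F => x.1 0 1) h
    have v00 : (uu b).1 0 0 = 1 := rfl
    have v01 : (uu b).1 0 1 = b := rfl
    have v10 : (uu b).1 1 0 = 0 := rfl
    have v11 : (uu b).1 1 1 = 1 := rfl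
    simp only [sl_mul, v00, v01, v10, v11, mul_one, one_mul, mul_zero, add_zero] at h0 h1
    have h2 : g.1.1 1 0 = 0 := by
      have : b * g.1.1 1 0 = 0 := by linear_combination -h0
      exact (mul_eq_zero.1 this).resolve_left hb
    have h3 : g.1.1 0 0 = g.1.1 1 1 := by
      have : b * (g.1.1 0 0 - g.1.1 1 1) = 0 := by linear_combination h1
      exact sub_eq_zero.1 ((mul_eq_zero.1 this).resolve_left hb)
    apply sl_ext
    · rfl
    · rfl
    · exact h2.symm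
    · exact h3
  right_inv x := rfl

theorem card_sq_one (h2 : (2 : F) ≠ 0) : Nat.card {t : F // t * t = 1} = 2 := by
  rw [Nat.card_eq_two_iff]
  refine ⟨⟨1, by ring⟩, ⟨-1, by ring⟩, ?_, ?_⟩
  · intro h
    have h1 : (1 : F) = -1 := congrArg Subtype.val h
    apply h2
    linear_combination h1
  · ext ⟨t, ht⟩
    simp only [Set.mem_insert_iff, Set.mem_singleton_iff, Set.mem_univ, iff_true, Subtype.mk.injEq]
    exact mul_self_eq_one_iff.1 ht

end SL2

section main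

variable {F : Type*} [Field F] [Fintype F] {p : ℕ} [hp : Fact p.Prime] {q : ℕ}

theorem card_SL2 (hF : Fintype.card F = q) : Nat.card (SpecialLinearGroup (Fin 2) F) = q * (q ^ 2 - 1) := by
  have hq : 1 < q := by rw [← hF]; exact Fintype.one_lt_card
  have h := ClSLn.card_SL_formula hF 2 (by norm_num)
  simp only [Finset.prod_range_succ, Finset.prod_range_zero, zero_add, pow_one, one_mul, one_add_one_eq_two] at h
  norm_num at h
  have h1 : (q - 1) * Nat.card (SpecialLinearGroup (Fin 2) F) = (q - 1) * (q * (q ^ 2 - 1)) := by rw [h]; ring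
  exact Nat.eq_of_mul_eq_mul_left (by omega) h1

theorem not_modEq (hp5 : 5 ≤ p) {a : ℕ} (ha : a ≠ 0) (hF : Fintype.card F = p ^ a) {b : F} (hb : b ≠ 0) :
    ¬ (centralizer ({uu b} : Set (SpecialLinearGroup (Fin 2) F))).index ≡ 1 [MOD p] := by
  intro h
  have hchar : CharP F p := charP_of_card_eq_prime_pow hF
  have h2 : (2 : F) ≠ 0 := by
    intro h0
    have h1 : ((2 : ℕ) : F) = 0 := by exact_mod_cast h0
    rw [CharP.cast_eq_zero_iff F p] at h1
    have := Nat.le_of_dvd (by norm_num) h1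
    omega
  have h1 := Subgroup.card_mul_index (centralizer ({uu b} : Set (SpecialLinearGroup (Fin 2) F)))
  rw [Nat.card_congr (centEquiv hb), Nat.card_prod, card_sq_one h2, Nat.card_eq_fintype_card, hF, card_SL2 hF] at h1
  have hq : 0 < p ^ a := pow_pos hp.out.pos a
  have h3 : 2 * (centralizer ({uu b} : Set (SpecialLinearGroup (Fin 2) F))).index = (p ^ a) ^ 2 - 1 := by
    apply Nat.eq_of_mul_eq_mul_left hq
    rw [← h1]; ring
  have h4 : 2 * (centralizer ({uu b} : Set (SpecialLinearGroup (Fin 2) F))).index + 1 = (p ^ a) ^ 2 := by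
    rw [h3]; exact Nat.sub_add_cancel (Nat.one_le_pow _ _ hq)
  have h5 : 2 * (centralizer ({uu b} : Set (SpecialLinearGroup (Fin 2) F))).index + 1 ≡ 2 * 1 + 1 [MOD p] :=
    (h.mul_left 2).add_right 1
  rw [h4] at h5
  have h6 : p ∣ (p ^ a) ^ 2 := dvd_pow (dvd_pow_self p ha) (by norm_num)
  have h7 : p ∣ 3 := (h5.dvd_iff (dvd_refl p)).1 h6
  have := Nat.le_of_dvd (by norm_num) h7
  omega

theorem D_PSL (hp5 : 5 ≤ p) {a : ℕ} (ha : a ≠ 0) (hF : Fintype.card F = p ^ a) :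
    D p (Matrix.ProjectiveSpecialLinearGroup (Fin 2) F) := by
  have hchar : CharP F p := charP_of_card_eq_prime_pow hF
  have hq : 0 < p ^ a := pow_pos hp.out.pos a
  have hpq : p ∣ p ^ a := dvd_pow_self p ha
  have hp1 := hp.out.one_lt
  have hsq : p ∣ (p ^ a) ^ 2 := dvd_pow hpq (by norm_num)
  have hsqc : (p ^ a) ^ 2 - 1 + 1 = (p ^ a) ^ 2 := Nat.sub_add_cancel (Nat.one_le_pow _ _ hq)
  have hU : Nat.card (Us F) = p ^ a := by rw [Nat.card_congr UsEquiv, Nat.card_eq_fintype_card, hF]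
  have hUp : IsPGroup p (Us F) := IsPGroup.of_card hU
  have hidx : (Us F).index = (p ^ a) ^ 2 - 1 := by
    have h1 := Subgroup.card_mul_index (Us F)
    rw [hU, card_SL2 hF] at h1
    exact Nat.eq_of_mul_eq_mul_left hq h1
  have hUi : ¬ p ∣ (Us F).index := by
    rw [hidx]
    intro h
    have := (Nat.dvd_add_right h).1 (hsqc ▸ hsq)
    exact hp1.ne' (Nat.dvd_one.1 this)
  have hq4 : 4 < Fintype.card F := by
    rw [hF]
    calc 4 < p := by omega
      _ ≤ p ^ a := Nat.le_of_dvd hq hpq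
  have hex : ∃ x : F, x ≠ 0 ∧ x ^ 2 ≠ 1 := by
    classical
    by_contra hcon
    push Not at hcon
    have h1 : (Finset.univ : Finset F) ⊆ {0, 1, -1} := by
      intro x _
      by_cases hx : x = 0
      · simp [hx]
      · rcases mul_self_eq_one_iff.1 (show x * x = 1 by rw [← sq]; exact hcon x hx) with h | h
        · simp [h]
        · simp [h]
    have h2 := Finset.card_le_card h1
    rw [Finset.card_univ] at h2
    have h3 : ({0, 1, -1} : Finset F).card ≤ 3 := Finset.card_le_three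
    omega
  have hsim : IsSimpleGroup (Matrix.ProjectiveSpecialLinearGroup (Fin 2) F) :=
    ClSLn.isSimpleGroup_PSL (le_refl 2) (fun _ => hex)
  have hcc : ¬ p ∣ Nat.card (center (SpecialLinearGroup (Fin 2) F)) := by
    rw [ClSLn.card_center_SL hF 2 (by norm_num)]
    intro h
    have h1 := Nat.le_of_dvd (Nat.gcd_pos_of_pos_left _ (by norm_num)) h
    have h2 := Nat.gcd_le_left (p ^ a - 1) (show 0 < 2 by norm_num)
    omega
  refine D_quot (QuotientGroup.mk' (center (SpecialLinearGroup (Fin 2) F))) (QuotientGroup.mk'_surjective _)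
    (QuotientGroup.ker_mk' _) hcc (hUp.toSylow hUi) ?_ ww ?_ ?_ ?_ ?_
  · intro h
    have h1 := h.conj_mem (uu 1) (uu_mem 1) ww⁻¹
    rw [inv_inv] at h1
    have h2 := ww_conj (uu_mem 1) h1
    have h3 := congrArg (fun x : SpecialLinearGroup (Fin 2) F => x.1 0 1) h2
    exact one_ne_zero (α := F) h3
  · intro g
    rcases bruhat g with h | ⟨u, hu, b, hb, rfl⟩
    · exact Or.inl (upper_mem h)
    · exact Or.inr ⟨u, hu, b, upper_mem hb, rfl⟩
  · intro u hu h
    exact ww_conj hu h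
  · left
    intro u hu r hr
    exact Us_comm hr hu
  · intro u hu _ hu1
    have hu' : u = uu (u.1 0 1) := eq_uu hu
    have hb : u.1 0 1 ≠ 0 := by
      intro h0
      apply hu1
      rw [hu', h0]
      apply sl_ext <;> rfl
    rw [hu']
    exact not_modEq hp5 ha hF hb

end main

end Cfsg.Agent.Lib.IsoRk1
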