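import Cfsg.Agent.Lib.IsoRk1
import Cfsg.Agent.Lib.PNilp
import Cfsg.Agent.S2905

set_option autoImplicit false

namespace Cfsg.Agent.Lib.IsoRk1

open Subgroup Cfsg Cfsg.Agent.Lib.LocBase
open scoped commutatorElement

variable {p : ℕ} [hp : Fact p.Prime]

/-- normalizers of Sylow subgroups in quotients -/
theorem exists_mem_normalizer {P X : Type*} [Group P] [Group X] [Finite P] {f : P →* X} (hf : Function.Surjective f)
    (S : Sylow p P) {g : X} (hg : g ∈ normalizer (((S : Subgroup P).map f : Subgroup X) : Set X)) :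
    ∃ n ∈ normalizer ((S : Subgroup P) : Set P), f n = g := by
  obtain ⟨g, rfl⟩ := hf g
  set T : Subgroup P := ((S : Subgroup P).map f).comap f with hT
  have h1 : (S : Subgroup P) ≤ T := le_comap_map f _
  have h2 : ((g • S : Sylow p P) : Subgroup P) ≤ T := by
    intro x hx
    rw [Sylow.coe_subgroup_smul, Subgroup.mem_pointwise_smul_iff_inv_smul_mem] at hx
    rw [hT, mem_comap]
    have h3 := (mem_normalizer_iff.1 hg (f (g⁻¹ * x * g))).1 ⟨_, hx, by simp [MulAut.smul_def]⟩
    have h4 : f g * f (g⁻¹ * x * g) * (f g)⁻¹ = f x := by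
      rw [← map_mul, ← map_inv, ← map_mul]; congr 1; group
    rwa [h4] at h3
  obtain ⟨t, ht⟩ := MulAction.exists_smul_eq T (S.subtype h1) ((g • S).subtype h2)
  have h5 : (t : P) • S = g • S := by
    rw [Sylow.smul_subtype h1] at ht
    exact Sylow.subtype_injective ht
  have h6 : (t : P)⁻¹ * g ∈ normalizer ((S : Subgroup P) : Set P) :=
    Sylow.smul_eq_iff_mem_normalizer.1 (by rw [mul_smul, ← h5, inv_smul_smul])
  obtain ⟨s, hs, hst⟩ := t.2
  refine ⟨s * ((t : P)⁻¹ * g), mul_mem (le_normalizer hs) h6, ?_⟩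
  rw [map_mul, map_mul, map_inv, hst, mul_inv_cancel_left]

/-- the main lemma for homomorphic images -/
theorem map_eq_one {P X : Type*} [Group P] [Group X] [Finite P] {f : P →* X} (hf : Function.Surjective f)
    (S : Sylow p P) (E : Subgroup X) [hE : E.Normal] (hES : E ⊔ (S : Subgroup P).map f = ⊤)
    (hC : ∀ c ∈ (S : Subgroup P), (∀ e ∈ E, f c * e = e * f c) → f c = 1) (hD : D p E) {z : P}
    (hz : z ∈ (S : Subgroup P)) (hzN : ∀ g ∈ normalizer ((S : Subgroup P) : Set P), g * z = z * g) : f z = 1 := by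
  have : Finite X := Finite.of_surjective f hf
  apply eq_one (S.mapSurjective hf) E (by rw [Sylow.coe_mapSurjective]; exact hES) ?_ hD
    (by rw [Sylow.coe_mapSurjective]; exact ⟨z, hz, rfl⟩)
  · intro g hg
    rw [Sylow.coe_mapSurjective] at hg
    obtain ⟨n, hn, rfl⟩ := exists_mem_normalizer hf S hg
    rw [← map_mul, hzN n hn, map_mul]
  · intro c hc
    rw [Sylow.coe_mapSurjective] at hc
    obtain ⟨c, hc, rfl⟩ := hc
    exact hC c hc

/-- centralizers of `O^p(P/O_p(P))` in a `p`-minimal group -/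
theorem mem_pCore_of_centralizes {P : Type*} [Group P] [Finite P] (hmin : IsPMinimal p P) (S : Sylow p P)
    (hO : (pCore p P).Normal) (hne : ⁅pResidual p (P ⧸ pCore p P), pResidual p (P ⧸ pCore p P)⁆ ≠ ⊥)
    {c : P} (hc : c ∈ (S : Subgroup P))
    (hcE : ∀ e ∈ pResidual p (P ⧸ pCore p P), QuotientGroup.mk' (pCore p P) c * e = e * QuotientGroup.mk' (pCore p P) c) :
    c ∈ pCore p P := by
  set X := P ⧸ pCore p P with hX
  set f := QuotientGroup.mk' (pCore p P) with hf
  have hfs : Function.Surjective f := QuotientGroup.mk'_surjective _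
  set E := pResidual p X with hE
  obtain ⟨M, ⟨hM, hSM⟩, -⟩ := (hmin S).2
  have hFn : M.normalCore.Normal := inferInstance
  obtain ⟨c1, -, c3, -, -⟩ := S2905.result hmin S M hM hSM
  set N : Subgroup P := (centralizer (E : Set X)).comap f with hN
  have hEn : E.Normal := inferInstance
  have hCn : (centralizer (E : Set X)).Normal := inferInstance
  have hNn : N.Normal := hCn.comap f
  rcases c3 N hNn with h1 | h1
  · exfalso
    apply hne
    rw [commutator_eq_bot_iff_le_centralizer]
    have h2 : (pResidual p P).map f = E := PNilp.map_pResidual_of_surjective p f hfs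
    calc E = (pResidual p P).map f := h2.symm
      _ ≤ centralizer (E : Set X) := map_le_iff_le_comap.2 h1
  · have h3 : c ∈ N := mem_comap.2 (mem_centralizer_iff.2 fun e he => (hcE e he).symm)
    exact c1 N hNn.isSubnormal (h1.trans (normalCore_le M)) ⟨h3, hc⟩

/-- the theorem: an element of `S` central in `N_P(S)` lies in `O_p(P)` -/
theorem mem_pCore {P : Type*} [Group P] [Finite P] (hmin : IsPMinimal p P) (S : Sylow p P)
    (hO : (pCore p P).Normal) {K : Type*} [Group K] (e : ↥(pResidual p (P ⧸ pCore p P)) ≃* K)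
    (hperf : commutator K = ⊤) (hne : Nontrivial K) (hcop : ¬ p ∣ Nat.card (center K)) (hD : D p (K ⧸ center K)) {z : P}
    (hz : z ∈ (S : Subgroup P)) (hzN : ∀ g ∈ normalizer ((S : Subgroup P) : Set P), g * z = z * g) : z ∈ pCore p P := by
  set X := P ⧸ pCore p P with hX
  set f := QuotientGroup.mk' (pCore p P) with hf
  have hfs : Function.Surjective f := QuotientGroup.mk'_surjective _
  set E := pResidual p X with hE
  have : Finite K := Finite.of_equiv _ e.toEquiv
  have hEn : E.Normal := inferInstance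
  have hEc : commutator ↥E = ⊤ := by
    have h1 := Subgroup.map_commutator (⊤ : Subgroup K) ⊤ e.symm.toMonoidHom
    have h2 : (⊤ : Subgroup K).map e.symm.toMonoidHom = ⊤ := Subgroup.map_top_of_surjective _ e.symm.surjective
    rw [← commutator_def, hperf, h2, ← commutator_def] at h1
    exact h1.symm
  have hEE : ⁅E, E⁆ = E := by
    rw [← map_subtype_commutator, hEc, ← MonoidHom.range_eq_map, range_subtype]
  have hEne : ⁅E, E⁆ ≠ ⊥ := by
    rw [hEE]
    have : Nontrivial ↥E := e.toEquiv.nontrivial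
    exact (nontrivial_iff_ne_bot E).1 this
  -- the centre
  set Z : Subgroup X := (center E).map E.subtype with hZ
  have hZn : Z.Normal := inferInstance
  set g := QuotientGroup.mk' Z with hg
  have hgs : Function.Surjective g := QuotientGroup.mk'_surjective _
  have hZc : ¬ p ∣ Nat.card Z := by
    rw [hZ, Nat.card_congr ((center ↥E).equivMapOfInjective E.subtype E.subtype_injective).symm.toEquiv,
      Nat.card_congr (Subgroup.centerCongr e).toEquiv]
    exact hcop
  have hZE : ∀ z ∈ Z, ∀ x ∈ E, z * x = x * z := by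
    rintro _ ⟨z, hz, rfl⟩ x hx
    exact congrArg Subtype.val (mem_center_iff.1 hz ⟨x, hx⟩).symm
  have hkey := map_eq_one (f := g.comp f) (hgs.comp hfs) S (E.map g) ?_ ?_ ?_ hz hzN
  · have h1 : f z ∈ Z := (QuotientGroup.eq_one_iff (N := Z) (f z)).1 hkey
    obtain ⟨k, hk⟩ := S.isPGroup' ⟨z, hz⟩
    have hk' : z ^ p ^ k = 1 := congrArg Subtype.val hk
    have h2 : orderOf (f z) ∣ p ^ k := orderOf_dvd_of_pow_eq_one (by rw [← map_pow, hk', map_one])
    have h3 : orderOf (f z) ∣ Nat.card Z := Subgroup.orderOf_dvd_natCard Z h1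
    have h4 : Nat.Coprime (p ^ k) (Nat.card Z) := Nat.Coprime.pow_left _ ((Nat.Prime.coprime_iff_not_dvd hp.out).2 hZc)
    have h5 : orderOf (f z) = 1 := Nat.dvd_one.1 (h4 ▸ Nat.dvd_gcd h2 h3)
    rw [orderOf_eq_one_iff] at h5
    exact (QuotientGroup.eq_one_iff (N := pCore p P) z).1 h5
  · rw [← Subgroup.map_map, ← Subgroup.map_sup]
    have h1 : E ⊔ (S : Subgroup P).map f = ⊤ := by
      rw [← Subgroup.index_eq_one]
      obtain ⟨k, hk⟩ := IsPGroup.iff_card.mp (PNilp.isPGroup_quotient_pResidual (G := X) p)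
      have h2 : (E ⊔ (S : Subgroup P).map f).index ∣ p ^ k := by
        rw [← hk, ← Subgroup.index_eq_card]; exact index_dvd_of_le le_sup_left
      have h3 : (E ⊔ (S : Subgroup P).map f).index ∣ ((S : Subgroup P).map f).index := index_dvd_of_le le_sup_right
      have h4 : ¬ p ∣ ((S : Subgroup P).map f).index := by
        have := (S.mapSurjective hfs).not_dvd_index
        rwa [Sylow.coe_mapSurjective] at this
      have h5 : Nat.Coprime (p ^ k) ((S : Subgroup P).map f).index :=
        Nat.Coprime.pow_left _ ((Nat.Prime.coprime_iff_not_dvd hp.out).2 h4)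
      exact Nat.dvd_one.1 (h5 ▸ Nat.dvd_gcd h2 h3)
    rw [h1]
    exact Subgroup.map_top_of_surjective g hgs
  · intro c hc hcE
    have h1 : c ∈ pCore p P := by
      apply mem_pCore_of_centralizes hmin S hO hEne hc
      have h2 : ⁅⁅E, zpowers (f c)⁆, E⁆ = ⊥ := by
        rw [commutator_eq_bot_iff_le_centralizer, commutator_le]
        intro e he y hy
        obtain ⟨k, rfl⟩ := mem_zpowers_iff.1 hy
        have h3 : g (⁅e, (f c) ^ k⁆) = 1 := by
          have h4 : Commute (g (f c)) (g e) := hcE (g e) ⟨e, he, rfl⟩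
          rw [map_commutatorElement, map_zpow, commutatorElement_eq_one_iff_commute]
          exact (h4.zpow_left k).symm
        have h5 : ⁅e, (f c) ^ k⁆ ∈ Z := (QuotientGroup.eq_one_iff (N := Z) _).1 h3
        rw [mem_centralizer_iff]
        exact fun x hx => (hZE _ h5 x hx).symm
      have h3 : ⁅⁅E, E⁆, zpowers (f c)⁆ = ⊥ := by
        apply commutator_commutator_eq_bot_of_rotate h2
        rw [commutator_comm (zpowers (f c)) E]
        exact h2
      rw [hEE, commutator_eq_bot_iff_le_centralizer] at h3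
      intro e he
      exact mem_centralizer_iff.1 (h3 he) (f c) (mem_zpowers _)
    have h2 : f c = 1 := (QuotientGroup.eq_one_iff (N := pCore p P) c).2 h1
    change g (f c) = 1
    rw [h2, map_one]
  · have e1 : (K ⧸ center K) ≃* (↥E ⧸ center ↥E) := QuotientGroup.congr _ _ e.symm (by
      ext x
      rw [mem_map, mem_center_iff]
      constructor
      · rintro ⟨y, hy, rfl⟩ w
        have h1 := congrArg e.symm (mem_center_iff.1 hy (e w))
        simpa using h1
      · intro h
        refine ⟨e x, mem_center_iff.2 fun w => ?_, e.symm_apply_apply x⟩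
        have h1 := congrArg e (h (e.symm w))
        simpa using h1)
    have hφ := (g.subgroupMap_surjective E)
    have e2 : (↥E ⧸ (g.subgroupMap E).ker) ≃* ↥(E.map g) := QuotientGroup.quotientKerEquivOfSurjective _ hφ
    have h3 : (g.subgroupMap E).ker = center ↥E := by
      ext x
      rw [MonoidHom.mem_ker, Subtype.ext_iff]
      change g x = 1 ↔ _
      rw [hg, QuotientGroup.mk'_apply, QuotientGroup.eq_one_iff, hZ]
      exact ⟨fun ⟨y, hy, hyx⟩ => by rwa [Subtype.ext hyx] at hy, fun h => ⟨x, h, rfl⟩⟩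
    exact (hD.equiv e1).equiv ((QuotientGroup.quotientMulEquivOfEq h3.symm).trans e2)

end Cfsg.Agent.Lib.IsoRk1
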