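import Cfsg.Agent.Lib.IsoRk1U
import Cfsg.Agent.Lib.IsoRk1L
import Cfsg.Agent.Lib.IsoRk1b

set_option autoImplicit false

namespace Cfsg.Agent.Lib.IsoRk1

open Subgroup Cfsg

theorem comm_quot {K : Type*} [Group K] (h : commutator K = ⊤) : commutator (K ⧸ center K) = ⊤ := by
  have h1 := Subgroup.map_commutator (⊤ : Subgroup K) ⊤ (QuotientGroup.mk' (center K))
  have h2 : (⊤ : Subgroup K).map (QuotientGroup.mk' (center K)) = ⊤ :=
    Subgroup.map_top_of_surjective _ (QuotientGroup.mk'_surjective _)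
  rw [← commutator_def, h, h2, ← commutator_def] at h1
  exact h1.symm

theorem center_bot {K : Type*} [Group K] [hs : IsSimpleGroup K] (h : commutator K = ⊤) : center K = ⊥ := by
  rcases IsSimpleGroup.eq_bot_or_eq_top_of_normal (center K) inferInstance with h1 | h1
  · exact h1
  · exfalso
    have h2 : commutator K = ⊥ := by
      rw [commutator_def, commutator_eq_bot_iff_le_centralizer]
      intro x _
      rw [mem_centralizer_iff]
      intro y _
      have hx : x ∈ center K := by rw [h1]; trivial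
      exact (mem_center_iff.1 hx y)
    rw [h] at h2
    exact top_ne_bot h2

variable {p : ℕ} [hp : Fact p.Prime]

/-- the two cases: `K` and `K / Z(K)` -/
theorem both {P : Type*} [Group P] [Finite P] (hmin : IsPMinimal p P) (S : Sylow p P)
    (hO : (pCore p P).Normal) {K : Type*} [Group K] [Finite K] (hperf : commutator K = ⊤)
    (hcop : ¬ p ∣ Nat.card (center K)) (hs : IsSimpleGroup (K ⧸ center K)) (hD : D p (K ⧸ center K))
    (e : Nonempty (↥(pResidual p (P ⧸ pCore p P)) ≃* K) ∨ Nonempty (↥(pResidual p (P ⧸ pCore p P)) ≃* (K ⧸ center K)))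
    {z : P} (hz : z ∈ (S : Subgroup P))
    (hzN : ∀ g ∈ normalizer ((S : Subgroup P) : Set P), g * z = z * g) : z ∈ pCore p P := by
  rcases e with ⟨⟨e⟩⟩ | ⟨⟨e⟩⟩
  · have hn : Nontrivial K := by
      have h1 : Nontrivial (K ⧸ center K) := inferInstance
      by_contra h
      rw [not_nontrivial_iff_subsingleton] at h
      have : Subsingleton (K ⧸ center K) := (QuotientGroup.mk'_surjective (center K)).subsingleton
      exact not_nontrivial (K ⧸ center K) h1
    exact mem_pCore hmin S hO e hperf hn hcop hD hz hzN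
  · have hc := center_bot (comm_quot hperf)
    refine mem_pCore hmin S hO e (comm_quot hperf) inferInstance (by rw [hc, Nat.card_eq_one_iff_unique.2 ⟨inferInstance, inferInstance⟩]; exact hp.out.one_lt.ne' ∘ Nat.dvd_one.1) ?_ hz hzN
    exact hD.equiv ((QuotientGroup.quotientMulEquivOfEq hc).trans QuotientGroup.quotientBot).symm

theorem perf_SL {F : Type*} [Field F] [Fintype F] {a : ℕ} (hp5 : 5 ≤ p) (ha : a ≠ 0) (hF : Fintype.card F = p ^ a) :
    ∃ x : F, x ≠ 0 ∧ x ^ 2 ≠ 1 := by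
  classical
  have hq : 0 < p ^ a := pow_pos hp.out.pos a
  have hpq : p ∣ p ^ a := dvd_pow_self p ha
  have hq4 : 4 < Fintype.card F := by
    rw [hF]
    calc 4 < p := by omega
      _ ≤ p ^ a := Nat.le_of_dvd hq hpq
  by_contra hcon
  push Not at hcon
  have h1 : (Finset.univ : Finset F) ⊆ {0, 1, -1} := by
    intro x _
    by_cases hx : x = 0
    · simp [hx]
    · rcases mul_self_eq_one_iff.1 (show x * x = 1 by rw [← sq]; exact hcon x hx) with h | h
      · simp [h]
      · simp [h]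
  have h2 := Finset.card_le_card h1
  rw [Finset.card_univ] at h2
  have h3 : ({0, 1, -1} : Finset F).card ≤ 3 := Finset.card_le_three
  omega

theorem perf_SU {F : Type*} [Field F] [Fintype F] {q : ℕ} (hF : Fintype.card F = q ^ 2) (hq3 : 3 ≤ q) :
    commutator (SU 3 F q) = ⊤ := by
  have hgen := Cfsg.Agent.S0780.result hF 3 (by norm_num) (by omega)
  rw [eq_top_iff, ← hgen, Subgroup.closure_le]
  rintro A ⟨v, c, hv, hA⟩
  have h1 := Cfsg.Agent.S0781.result hF 3 (Or.inr ⟨rfl, by omega⟩) A v c hv hA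
  rw [commutator_eq_closure]
  exact Subgroup.subset_closure h1

theorem main {G : Type*} [Group G] [Finite G] (hp5 : 5 ≤ p)
    (S : Sylow p G) (P : Subgroup G) (hSP : (S : Subgroup G) ≤ P) (hPmin : Cfsg.IsPMinimal p ↥P) [hn : (Cfsg.pCore p ↥P).Normal]
    (hrk1 : ∃ (F : Type) (_ : Field F) (_ : Fintype F) (a : ℕ), 1 ≤ a ∧
      ((Fintype.card F = p ^ a ∧ (Nonempty (↥(Cfsg.pResidual p (↥P ⧸ Cfsg.pCore p ↥P)) ≃* Matrix.SpecialLinearGroup (Fin 2) F) ∨
                                  Nonempty (↥(Cfsg.pResidual p (↥P ⧸ Cfsg.pCore p ↥P)) ≃* Matrix.ProjectiveSpecialLinearGroup (Fin 2) F))) ∨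
       (Fintype.card F = p ^ (2 * a) ∧ (Nonempty (↥(Cfsg.pResidual p (↥P ⧸ Cfsg.pCore p ↥P)) ≃* ↥(Cfsg.SU 3 F (p ^ a))) ∨
                                        Nonempty (↥(Cfsg.pResidual p (↥P ⧸ Cfsg.pCore p ↥P)) ≃* Cfsg.PSU 3 F (p ^ a))))))
    {z : G} (hz : ∃ k : ℕ, orderOf z = p ^ k)
    (hzN : ∀ g ∈ normalizer ((S : Subgroup G) : Set G), g * z = z * g) : z ∈ (Cfsg.pCore p ↥P).map P.subtype := by
  obtain ⟨k, hk⟩ := hz
  have hzS : z ∈ (S : Subgroup G) := by
    refine mem_of_normalizes S (k := k) (by rw [← hk, pow_orderOf_eq_one]) ?_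
    rw [mem_normalizer_iff]
    intro s
    have h1 : ∀ s ∈ (S : Subgroup G), z * s * z⁻¹ = s := fun s hs => by
      rw [← hzN s (le_normalizer hs), mul_inv_cancel_right]
    constructor
    · intro hs; rw [h1 s hs]; exact hs
    · intro hs
      have h2 := h1 _ hs
      have h3 : z * s * z⁻¹ = s := by
        have h4 := congrArg (fun x => z⁻¹ * x * z) h2
        simpa [mul_assoc] using h4
      rwa [h3] at hs
  set S' : Sylow p P := S.subtype hSP with hS'
  have hmem : ∀ x : P, x ∈ (S' : Subgroup P) ↔ (x : G) ∈ (S : Subgroup G) := fun x => Iff.rfl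
  refine ⟨⟨z, hSP hzS⟩, ?_, rfl⟩
  have hzN' : ∀ g ∈ normalizer ((S' : Subgroup P) : Set P), g * (⟨z, hSP hzS⟩ : P) = ⟨z, hSP hzS⟩ * g := by
    intro g hg
    apply Subtype.ext
    apply hzN
    rw [mem_normalizer_iff] at hg ⊢
    intro x
    constructor
    · intro hx
      exact (hmem _).1 ((hg ⟨x, hSP hx⟩).1 hx)
    · intro hx
      have hxP : x ∈ P := by
        have h1 := mul_mem (mul_mem (inv_mem g.2) (hSP hx)) g.2
        have h2 : (g : G)⁻¹ * (g * x * (g : G)⁻¹) * g = x := by group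
        rwa [h2] at h1
      exact (hmem _).1 ((hg ⟨x, hxP⟩).2 hx)
  have hz' : (⟨z, hSP hzS⟩ : P) ∈ (S' : Subgroup P) := hzS
  obtain ⟨F, _, _, a, ha, ⟨hF, h⟩ | ⟨hF, h⟩⟩ := hrk1
  · have hex := perf_SL hp5 (by omega) hF
    have hperf : commutator (Matrix.SpecialLinearGroup (Fin 2) F) = ⊤ := ClSLn.commutator_SL_eq_top' (fun _ => hex)
    have hcc : ¬ p ∣ Nat.card (center (Matrix.SpecialLinearGroup (Fin 2) F)) := by
      rw [ClSLn.card_center_SL hF 2 (by norm_num)]
      intro h
      have h1 := Nat.le_of_dvd (Nat.gcd_pos_of_pos_left _ (by norm_num)) h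
      have h2 := Nat.gcd_le_left (p ^ a - 1) (show 0 < 2 by norm_num)
      omega
    exact both hPmin S' hn hperf hcc (ClSLn.isSimpleGroup_PSL (le_refl 2) (fun _ => hex)) (D_PSL hp5 (by omega) hF) h hz' hzN'
  · have hF' : Fintype.card F = (p ^ a) ^ 2 := by rw [hF, mul_comm, pow_mul]
    have hq5 : 5 ≤ p ^ a := hp5.trans (Nat.le_of_dvd (pow_pos hp.out.pos a) (dvd_pow_self p (by omega)))
    have hcc : ¬ p ∣ Nat.card (center (SU 3 F (p ^ a))) := by
      rw [ClUnitary.card_center_SU hF' (by norm_num)]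
      intro h
      have h1 := Nat.le_of_dvd (Nat.gcd_pos_of_pos_left _ (by norm_num)) h
      have h2 := Nat.gcd_le_left (p ^ a + 1) (show 0 < 3 by norm_num)
      omega
    exact both hPmin S' hn (perf_SU hF' (by omega)) hcc (S0283.result hF' 3 (by norm_num) (by omega))
      (D_PSU hF' (by omega) rfl hp5) h hz' hzN'

end Cfsg.Agent.Lib.IsoRk1
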