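import Cfsg.Agent.Lib.IsoRk1c
import Cfsg.Agent.Lib.SU3Gen2
import Cfsg.Agent.Lib.SU3Syl
import Cfsg.Agent.S0283

set_option autoImplicit false

namespace Cfsg.Agent.Lib.IsoRk1

open Subgroup Matrix Cfsg Cfsg.Agent.Lib.ClUnitary Cfsg.Agent.Lib.HermMat Cfsg.Agent.Lib.SylU3 Cfsg.Agent.Lib.SU3Gen

section gen

variable {F : Type*} [Field F] {σ : F →+* F} (hσ : ∀ x, σ (σ x) = x)

/-- stabilizer of the first vector -/
def U1 (σ : F →+* F) : Subgroup (UJ σ) where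
  carrier := {g | mx g *ᵥ ![1, 0, 0] = ![1, 0, 0]}
  one_mem' := by
    change mx 1 *ᵥ _ = _
    rw [mx_one, one_mulVec]
  mul_mem' {a b} ha hb := by
    change mx (a * b) *ᵥ _ = _
    rw [mx_mul, ← mulVec_mulVec]
    rw [show mx b *ᵥ ![1, 0, 0] = ![1, 0, 0] from hb]
    exact ha
  inv_mem' {a} ha := by
    change mx a⁻¹ *ᵥ _ = _
    have h : mx a *ᵥ ![1, 0, 0] = ![1, 0, 0] := ha
    calc mx a⁻¹ *ᵥ ![1, 0, 0] = mx a⁻¹ *ᵥ (mx a *ᵥ ![1, 0, 0]) := by rw [h]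
      _ = ![1, 0, 0] := by rw [mulVec_mulVec, ← mx_mul, inv_mul_cancel, mx_one, one_mulVec]

theorem mem_U1 {g : UJ σ} : g ∈ U1 σ ↔ mx g *ᵥ ![1, 0, 0] = ![1, 0, 0] := Iff.rfl

theorem X_mem_U1 {a b : F} (h : b + σ b + a * σ a = 0) : X hσ a b h ∈ U1 σ := by
  rw [mem_U1, mul_vec3, mx_X]
  ext i; fin_cases i <;> simp

theorem eq_X {g : UJ σ} (hg : g ∈ U1 σ) : ∃ h, g = X hσ (mx g 0 1) (mx g 0 2) h := by
  obtain ⟨a, b, h, rfl⟩ := exists_X hσ g hg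
  exact ⟨h, rfl⟩

/-- the equivalence with pairs -/
noncomputable def U1Equiv : ↥(U1 σ) ≃ {x : F × F // x.2 + σ x.2 + x.1 * σ x.1 = 0} where
  toFun g := ⟨(mx g.1 0 1, mx g.1 0 2), (eq_X hσ g.2).1⟩
  invFun x := ⟨X hσ x.1.1 x.1.2 x.2, X_mem_U1 hσ x.2⟩
  left_inv g := Subtype.ext (eq_X hσ g.2).2.symm
  right_inv x := rfl

/-- elements stabilizing the first line normalize `U1` -/
theorem norm_U1 {g : UJ σ} {l : F} (hl : l ≠ 0) (hg : mx g *ᵥ ![1, 0, 0] = ![l, 0, 0]) :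
    g ∈ normalizer ((U1 σ : Subgroup (UJ σ)) : Set (UJ σ)) := by
  have e1 : (![l, 0, 0] : Fin 3 → F) = l • ![1, 0, 0] := by
    ext i; fin_cases i <;> simp
  have hg' : mx g⁻¹ *ᵥ ![1, 0, 0] = l⁻¹ • ![1, 0, 0] := by
    have h1 : mx g⁻¹ *ᵥ (mx g *ᵥ ![1, 0, 0]) = ![1, 0, 0] := by
      rw [mulVec_mulVec, ← mx_mul, inv_mul_cancel, mx_one, one_mulVec]
    rw [hg, e1, mulVec_smul] at h1
    rw [← h1, smul_smul, inv_mul_cancel₀ hl, one_smul, h1]
  have key : ∀ x : UJ σ, mx x *ᵥ ![1, 0, 0] = ![1, 0, 0] → mx (g * x * g⁻¹) *ᵥ ![1, 0, 0] = ![1, 0, 0] := by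
    intro x hx
    rw [mx_mul, mx_mul, ← mulVec_mulVec, ← mulVec_mulVec, hg', mulVec_smul, hx, mulVec_smul, hg, e1, smul_smul,
      inv_mul_cancel₀ hl, one_smul]
  have key' : ∀ x : UJ σ, mx x *ᵥ ![1, 0, 0] = ![1, 0, 0] → mx (g⁻¹ * x * g) *ᵥ ![1, 0, 0] = ![1, 0, 0] := by
    intro x hx
    rw [mx_mul, mx_mul, ← mulVec_mulVec, ← mulVec_mulVec, hg, e1, mulVec_smul, hx, mulVec_smul, hg', smul_smul,
      mul_inv_cancel₀ hl, one_smul]
  rw [mem_normalizer_iff]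
  intro x
  refine ⟨fun hx => key x hx, fun hx => ?_⟩
  have h1 := key' _ hx
  have h2 : g⁻¹ * (g * x * g⁻¹) * g = x := by group
  rwa [h2] at h1

include hσ

/-- the first coordinate -/
theorem co_mul {g h : UJ σ} (hg : g ∈ U1 σ) (hh : h ∈ U1 σ) : mx (g * h) 0 1 = mx g 0 1 + mx h 0 1 := by
  obtain ⟨a, b, e, rfl⟩ := exists_X hσ g hg
  obtain ⟨a', b', e', rfl⟩ := exists_X hσ h hh
  obtain ⟨e'', h1⟩ := X_mul hσ e e'
  rw [h1]; rfl

theorem co_inv {g : UJ σ} (hg : g ∈ U1 σ) : mx g⁻¹ 0 1 = - mx g 0 1 := by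
  have h1 := co_mul hσ hg (inv_mem hg)
  rw [mul_inv_cancel, mx_one] at h1
  have h2 : (1 : Matrix (Fin 3) (Fin 3) F) 0 1 = 0 := rfl
  rw [h2] at h1
  linear_combination -h1

theorem central_of_co {g : UJ σ} (hg : g ∈ U1 σ) (h0 : mx g 0 1 = 0) : ∀ r ∈ U1 σ, r * g = g * r := by
  intro r hr
  obtain ⟨a, b, e, rfl⟩ := exists_X hσ g hg
  obtain ⟨a', b', e', rfl⟩ := exists_X hσ r hr
  have ha : a = 0 := h0
  subst ha
  obtain ⟨e'', h1⟩ := X_conj hσ e' e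
  have h2 : X hσ a' b' e' * X hσ 0 b e * (X hσ a' b' e')⁻¹ = X hσ 0 b e := by
    rw [h1]
    apply X_congr hσ rfl
    rw [map_zero]; ring
  exact mul_inv_eq_iff_eq_mul.1 h2

theorem exists_X_fst {τ : F} (hτ : τ + σ τ = 1) (a : F) : ∃ b, b + σ b + a * σ a = 0 :=
  ⟨-(τ * (a * σ a)), by
    rw [map_neg, map_mul, map_mul, hσ]
    linear_combination (-(a * σ a)) * hτ⟩

theorem X_inj {a b a' b' : F} {h : b + σ b + a * σ a = 0} {h' : b' + σ b' + a' * σ a' = 0}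
    (e : X hσ a b h = X hσ a' b' h') : a = a' ∧ b = b' :=
  ⟨congrArg (fun g : UJ σ => mx g 0 1) e, congrArg (fun g : UJ σ => mx g 0 2) e⟩

theorem co_of_central {τ : F} (hτ : τ + σ τ = 1) (hne : σ ≠ RingHom.id F) {g : UJ σ} (hg : g ∈ U1 σ)
    (hc : ∀ r ∈ U1 σ, r * g = g * r) : mx g 0 1 = 0 := by
  obtain ⟨a, b, e, rfl⟩ := exists_X hσ g hg
  change a = 0
  by_contra ha
  have key : ∀ a', a * σ a' = a' * σ a := by
    intro a'
    obtain ⟨b', e'⟩ := exists_X_fst hσ hτ a'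
    have h1 := hc _ (X_mem_U1 hσ e')
    obtain ⟨e'', h2⟩ := X_conj hσ e' e
    rw [← mul_inv_eq_iff_eq_mul, h2] at h1
    have h3 := (X_inj hσ h1).2
    linear_combination h3
  apply hne
  ext a'
  have h1 := key 1
  rw [map_one, mul_one, one_mul] at h1
  have h2 := key a'
  rw [← h1] at h2
  have h3 : a * (σ a' - a') = 0 := by linear_combination h2
  exact sub_eq_zero.1 ((mul_eq_zero.1 h3).resolve_left ha)

omit hσ in
theorem W_e1 : mx (W : UJ σ) *ᵥ ![1, 0, 0] = ![0, 0, 1] := by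
  rw [mul_vec3, mx_W]
  ext i; fin_cases i <;> simp

theorem X_e3 {a b : F} (h : b + σ b + a * σ a = 0) : mx (X hσ a b h) *ᵥ ![0, 0, 1] = ![b, -σ a, 1] := by
  rw [mul_vec3, mx_X]
  ext i; fin_cases i <;> simp

omit hσ in
theorem inv_vec {g : UJ σ} {v w : Fin 3 → F} (h : mx g *ᵥ v = w) : mx g⁻¹ *ᵥ w = v := by
  rw [← h, mulVec_mulVec, ← mx_mul, inv_mul_cancel, mx_one, one_mulVec]

theorem W_conj {u : UJ σ} (hu : u ∈ U1 σ) (h : W⁻¹ * u * W ∈ U1 σ) : u = 1 := by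
  obtain ⟨a, b, e, rfl⟩ := exists_X hσ u hu
  have h1 : mx (W⁻¹ * X hσ a b e * W) *ᵥ ![1, 0, 0] = ![1, 0, 0] := h
  rw [mx_mul, mx_mul, ← mulVec_mulVec, ← mulVec_mulVec, W_e1, X_e3] at h1
  have h2 : mx (W : UJ σ) *ᵥ (mx (W⁻¹ : UJ σ) *ᵥ ![b, -σ a, 1]) = ![b, -σ a, 1] := by
    rw [mulVec_mulVec, ← mx_mul, mul_inv_cancel, mx_one, one_mulVec]
  rw [h1, W_e1] at h2
  have hb : b = 0 := (congrFun h2 0).symm
  have ha : σ a = 0 := by
    have := congrFun h2 1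
    simpa using this.symm
  have ha' : a = 0 := by simpa using ha
  subst hb; subst ha'
  exact X_one hσ

theorem bruhatU (g : UJ σ) : (∃ l, l ≠ 0 ∧ mx g *ᵥ ![1, 0, 0] = ![l, 0, 0]) ∨
    ∃ u ∈ U1 σ, ∃ n : UJ σ, (∃ l, l ≠ 0 ∧ mx n *ᵥ ![1, 0, 0] = ![l, 0, 0]) ∧ g = u * W * n := by
  set v := mx g *ᵥ ![1, 0, 0] with hv
  have hJ : SU3Gen.J σ v v = 0 := by
    have h1 := g.2 ![1, 0, 0] ![1, 0, 0]
    change SU3Gen.J σ v v = _ at h1
    rw [h1]; simp [SU3Gen.J]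
  unfold SU3Gen.J at hJ
  have hv3 : v = ![v 0, v 1, v 2] := by ext i; fin_cases i <;> rfl
  by_cases h2 : v 2 = 0
  · left
    rw [h2, map_zero, mul_zero, zero_mul, zero_add, add_zero] at hJ
    have h1 : v 1 = 0 := by
      rcases mul_eq_zero.1 hJ with h | h
      · exact h
      · simpa using h
    rw [h1, h2] at hv3
    refine ⟨v 0, ?_, hv3⟩
    intro h0
    rw [h0] at hv3
    have h4 := inv_vec hv.symm
    rw [hv3] at h4
    have h5 := congrFun h4 0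
    rw [mul_vec3] at h5
    simp at h5
  · right
    have h2' : σ (v 2) ≠ 0 := (map_ne_zero σ).2 h2
    have hcd : v 0 / v 2 + σ (v 0 / v 2) + σ (-(v 1 / v 2)) * σ (σ (-(v 1 / v 2))) = 0 := by
      rw [hσ, map_neg, map_div₀, map_div₀]
      field_simp
      linear_combination hJ
    refine ⟨X hσ _ _ hcd, X_mem_U1 hσ hcd, (X hσ _ _ hcd * W)⁻¹ * g, ⟨v 2, h2, ?_⟩, by group⟩
    have h3 : mx (X hσ _ _ hcd * W) *ᵥ ![1, 0, 0] = (v 2)⁻¹ • v := by
      rw [mx_mul, ← mulVec_mulVec, W_e1, X_e3, hσ]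
      rw [hv3]
      ext i; fin_cases i <;> simp [h2, div_eq_inv_mul]
    have h5 : mx (X hσ _ _ hcd * W)⁻¹ *ᵥ ((v 2)⁻¹ • v) = ![1, 0, 0] := inv_vec h3
    rw [mx_mul, ← mulVec_mulVec, ← hv]
    generalize mx (X hσ _ _ hcd * W)⁻¹ = M at h5 ⊢
    rw [mulVec_smul] at h5
    have h6 : M *ᵥ v = (v 2) • ((v 2)⁻¹ • (M *ᵥ v)) := by rw [smul_smul, mul_inv_cancel₀ h2, one_smul]
    rw [h6, h5]
    ext i; fin_cases i <;> simp

/-- elements commuting with a transvection `X 0 b` stabilize the line -/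
theorem line_of_comm {b : F} (hb : b ≠ 0) {e : b + σ b + 0 * σ 0 = 0} {c : UJ σ}
    (hc : X hσ 0 b e * c = c * X hσ 0 b e) : ∃ l, l ≠ 0 ∧ mx c *ᵥ ![1, 0, 0] = ![l, 0, 0] := by
  have h1 : mx (X hσ 0 b e) *ᵥ (mx c *ᵥ ![0, 0, 1]) = mx c *ᵥ (mx (X hσ 0 b e) *ᵥ ![0, 0, 1]) := by
    rw [mulVec_mulVec, mulVec_mulVec, ← mx_mul, ← mx_mul, hc]
  set w := mx c *ᵥ ![0, 0, 1] with hw
  have h2 : (![b, -σ 0, 1] : Fin 3 → F) = b • ![1, 0, 0] + ![0, 0, 1] := by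
    ext i; fin_cases i <;> simp
  have h3 : mx (X hσ 0 b e) *ᵥ w = ![w 0 + b * w 2, w 1, w 2] := by
    rw [mul_vec3, mx_X]
    ext i; fin_cases i <;> simp
  rw [X_e3, h2, mulVec_add, mulVec_smul, ← hw, h3] at h1
  have h4 : mx c *ᵥ ![1, 0, 0] = ![w 2, 0, 0] := by
    have h5 : b • (mx c *ᵥ ![1, 0, 0]) = b • ![w 2, 0, 0] := by
      have h6 : b • (mx c *ᵥ ![1, 0, 0]) = ![w 0 + b * w 2, w 1, w 2] - w := by rw [h1]; abel
      rw [h6]
      ext i; fin_cases i <;> simp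
    have h6 := congrArg (fun x : Fin 3 → F => b⁻¹ • x) h5
    simp only [smul_smul, inv_mul_cancel₀ hb, one_smul] at h6
    exact h6
  obtain ⟨hl, -⟩ := exists_upper hσ c _ h4
  exact ⟨w 2, hl, h4⟩

theorem T_e1 {t : F} (ht : t ≠ 0) : mx (T hσ t ht) *ᵥ ![1, 0, 0] = ![t, 0, 0] := by
  rw [mul_vec3, mx_T]
  ext i; fin_cases i <;> simp

/-- centralizers of transvections -/
theorem comm_X0 {b : F} (hb : b ≠ 0) {e : b + σ b + 0 * σ 0 = 0} {c : UJ σ}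
    (hc : X hσ 0 b e * c = c * X hσ 0 b e) : ∃ (l : F) (hl : l ≠ 0) (u : UJ σ), u ∈ U1 σ ∧ l * σ l = 1 ∧ c = T hσ l hl * u := by
  obtain ⟨l, hl, h1⟩ := line_of_comm hσ hb hc
  obtain ⟨hl', a', b', e', rfl⟩ := exists_upper hσ c l h1
  refine ⟨l, hl', _, X_mem_U1 hσ e', ?_, rfl⟩
  have h2 := central_of_co hσ (X_mem_U1 hσ e) rfl _ (X_mem_U1 hσ e')
  have h3 : T hσ l hl' * X hσ 0 b e * (T hσ l hl')⁻¹ = X hσ 0 b e := by
    have h4 : X hσ 0 b e * (T hσ l hl' * X hσ a' b' e') = T hσ l hl' * X hσ 0 b e * X hσ a' b' e' := by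
      rw [hc, mul_assoc, mul_assoc, h2]
    rw [← mul_assoc] at h4
    have h5 := mul_right_cancel h4
    rw [← h5, mul_inv_cancel_right]
  obtain ⟨e'', h4⟩ := T_conj hσ hl' e
  rw [h4] at h3
  have h5 := (X_inj hσ h3).2
  have h6 : b * (l * σ l - 1) = 0 := by linear_combination h5
  exact sub_eq_zero.1 ((mul_eq_zero.1 h6).resolve_left hb)

theorem exists_tr0 (hne : σ ≠ RingHom.id F) : ∃ b : F, b ≠ 0 ∧ b + σ b + 0 * σ 0 = 0 := by
  have h1 : ∃ x, σ x ≠ x := by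
    by_contra h
    push Not at h
    exact hne (RingHom.ext h)
  obtain ⟨x, hx⟩ := h1
  refine ⟨x - σ x, fun h => hx (sub_eq_zero.1 h).symm, ?_⟩
  rw [map_sub, hσ, map_zero]; ring

/-- the centralizer of `U1` -/
theorem cent_U1 {τ : F} (hτ : τ + σ τ = 1) (hne : σ ≠ RingHom.id F) {c : UJ σ} (hc : ∀ r ∈ U1 σ, r * c = c * r) :
    ∃ r ∈ U1 σ, ∃ z ∈ center (UJ σ), c = r * z := by
  obtain ⟨b, hb, e⟩ := exists_tr0 hσ hne
  obtain ⟨l, hl, u, hu, hll, rfl⟩ := comm_X0 hσ hb (hc _ (X_mem_U1 hσ e))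
  obtain ⟨b1, e1⟩ := exists_X_fst hσ hτ 1
  have h1 := hc _ (X_mem_U1 hσ e1)
  obtain ⟨a, b, e', rfl⟩ := exists_X hσ u hu
  obtain ⟨e2, h2⟩ := X_conj hσ e' e1
  have h3 : T hσ l hl * (X hσ a b e' * X hσ 1 b1 e1 * (X hσ a b e')⁻¹) * (T hσ l hl)⁻¹ = X hσ 1 b1 e1 := by
    have h4 : T hσ l hl * (X hσ a b e' * X hσ 1 b1 e1 * (X hσ a b e')⁻¹) * (T hσ l hl)⁻¹ =
        (T hσ l hl * X hσ a b e') * X hσ 1 b1 e1 * (T hσ l hl * X hσ a b e')⁻¹ := by group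
    rw [h4, ← h1, mul_inv_cancel_right]
  obtain ⟨e3, h4⟩ := T_conj hσ hl e2
  rw [h2, h4] at h3
  have h5 := (X_inj hσ h3).1
  have hσl : σ l ≠ 0 := (map_ne_zero σ).2 hl
  have h6 : l ^ 2 = σ l := by
    field_simp at h5
    linear_combination h5
  have h7 : l * l ^ 2 = 1 := by rw [h6]; exact hll
  have hz : T hσ l hl ∈ center (UJ σ) := by
    rw [mem_center_iff]
    intro g
    have hm : mx (T hσ l hl) = l • (1 : Matrix (Fin 3) (Fin 3) F) := by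
      rw [mx_T, ← h6]
      have i1 : l ^ 2 * l⁻¹ = l := by field_simp
      have i2 : (l ^ 2)⁻¹ = l := by rw [inv_eq_iff_eq_inv, ← one_div, eq_div_iff hl, mul_comm]; exact h7
      rw [i1, i2]
      ext i j; fin_cases i <;> fin_cases j <;> simp
    apply mx_inj
    rw [mx_mul, mx_mul, hm]
    simp
  exact ⟨X hσ a b e', hu, _, hz, (mem_center_iff.1 hz _).symm⟩

theorem co_T_conj {t : F} (ht : t ≠ 0) {u : UJ σ} (hu : u ∈ U1 σ) :
    (T hσ t ht)⁻¹ * u * T hσ t ht ∈ U1 σ ∧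
      t ^ 2 * mx ((T hσ t ht)⁻¹ * u * T hσ t ht) 0 1 = σ t * mx u 0 1 := by
  have hn := norm_U1 ht (T_e1 hσ ht)
  have h1 : (T hσ t ht)⁻¹ * u * T hσ t ht ∈ U1 σ := by
    have := (mem_normalizer_iff.1 (inv_mem hn) u).1 hu
    rwa [inv_inv] at this
  refine ⟨h1, ?_⟩
  obtain ⟨a, b, e, h2⟩ := exists_X hσ _ h1
  have h3 : u = T hσ t ht * X hσ a b e * (T hσ t ht)⁻¹ := by rw [← h2]; group
  obtain ⟨e', h4⟩ := T_conj hσ ht e
  rw [h2, h3, h4]
  change t ^ 2 * a = σ t * (t ^ 2 * (σ t)⁻¹ * a)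
  have hσl : σ t ≠ 0 := (map_ne_zero σ).2 ht
  field_simp

end gen

section main

variable {F : Type*} [Field F] [Fintype F] {p : ℕ} [hp : Fact p.Prime] {q : ℕ}

theorem card_U1 (hF : Fintype.card F = q ^ 2) : Nat.card (U1 (frob hF)) = q ^ 3 := by
  rw [← card_U3 hF, Nat.card_congr (U1Equiv (frob_frob hF))]
  symm
  apply Nat.card_congr
  have h1 : Function.Bijective (fun x : {x : F × F // x.2 + frob hF x.2 + x.1 * frob hF x.1 = 0} => el hF x.1.1 x.1.2 x.2) := by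
    constructor
    · rintro ⟨⟨a, b⟩, h⟩ ⟨⟨a', b'⟩, h'⟩ e
      obtain ⟨h1, h2⟩ := el_inj e
      apply Subtype.ext
      exact Prod.ext h1 h2
    · intro g
      obtain ⟨a, b, h, rfl⟩ := exists_el hF g
      exact ⟨⟨(a, b), h⟩, rfl⟩
  exact (Equiv.ofBijective _ h1).symm

theorem card_UJ (hF : Fintype.card F = q ^ 2) : Nat.card (UJ (frob hF)) = q ^ 3 * ((q ^ 2 - 1) * (q ^ 3 + 1)) := by
  obtain ⟨A, Φ, -, -⟩ := SU3Gen.exists_equiv hF
  rw [Nat.card_congr Φ.toEquiv, SU3Syl.card_SU_three hF]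

theorem card_cent (hF : Fintype.card F = q ^ 2) {b : F} (hb : b ≠ 0) (e : b + frob hF b + 0 * frob hF 0 = 0) :
    Nat.card (centralizer ({X (frob_frob hF) 0 b e} : Set (UJ (frob hF)))) = (q + 1) * q ^ 3 := by
  set σ := frob hF with hσd
  have hσ : ∀ x, σ (σ x) = x := frob_frob hF
  have hσq : ∀ x, σ x = x ^ q := fun x => rfl
  rw [← card_norm_one_units hF, ← card_U1 hF, ← Nat.card_prod]
  symm
  apply Nat.card_congr
  have hmem : ∀ (x : Fˣ) (u : UJ σ), x ^ (q + 1) = 1 → u ∈ U1 σ →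
      T hσ (x : F) x.ne_zero * u ∈ centralizer ({X hσ 0 b e} : Set (UJ σ)) := by
    intro x u hx hu
    rw [mem_centralizer_singleton_iff]
    have h1 : T hσ (x : F) x.ne_zero * X hσ 0 b e * (T hσ (x : F) x.ne_zero)⁻¹ = X hσ 0 b e := by
      obtain ⟨e', h1⟩ := T_conj hσ x.ne_zero e
      rw [h1]
      apply X_congr hσ (by rw [mul_zero])
      have h2 : (x : F) * σ x = 1 := by
        rw [hσq, ← pow_succ', ← Units.val_pow_eq_pow_val, hx, Units.val_one]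
      rw [h2, one_mul]
    have h2 := central_of_co hσ (X_mem_U1 hσ e) rfl u hu
    rw [mul_inv_eq_iff_eq_mul] at h1
    rw [mul_assoc, h2, ← mul_assoc, h1, mul_assoc]
  have h1 : Function.Bijective (fun x : {x : Fˣ // x ^ (q + 1) = 1} × U1 σ =>
      (⟨T hσ (x.1.1 : F) x.1.1.ne_zero * x.2.1, hmem x.1.1 x.2.1 x.1.2 x.2.2⟩ : ↥(centralizer ({X hσ 0 b e} : Set (UJ σ))))) := by
    constructor
    · rintro ⟨⟨x, hx⟩, ⟨u, hu⟩⟩ ⟨⟨y, hy⟩, ⟨v, hv⟩⟩ h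
      have h2 : T hσ (x : F) x.ne_zero * u = T hσ (y : F) y.ne_zero * v := congrArg Subtype.val h
      have h3 : mx (T hσ (x : F) x.ne_zero * u) *ᵥ ![1, 0, 0] = mx (T hσ (y : F) y.ne_zero * v) *ᵥ ![1, 0, 0] := by rw [h2]
      rw [mx_mul, mx_mul, ← mulVec_mulVec, ← mulVec_mulVec, show mx u *ᵥ ![1, 0, 0] = ![1, 0, 0] from hu,
        show mx v *ᵥ ![1, 0, 0] = ![1, 0, 0] from hv, T_e1, T_e1] at h3
      have h4 : x = y := Units.ext (congrFun h3 0)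
      subst h4
      have h5 : u = v := mul_left_cancel h2
      subst h5
      rfl
    · rintro ⟨c, hc⟩
      obtain ⟨l, hl, u, hu, hll, rfl⟩ := comm_X0 hσ hb (mem_centralizer_singleton_iff.1 hc).symm
      refine ⟨(⟨Units.mk0 l hl, ?_⟩, ⟨u, hu⟩), rfl⟩
      apply Units.ext
      rw [Units.val_pow_eq_pow_val, Units.val_mk0, Units.val_one, pow_succ', ← hσq]
      exact hll
  exact Equiv.ofBijective _ h1

theorem not_modEqU (hF : Fintype.card F = q ^ 2) {a : ℕ} (ha : a ≠ 0) (hq : q = p ^ a) (hp3 : 3 ≤ p) {b : F} (hb : b ≠ 0)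
    (e : b + frob hF b + 0 * frob hF 0 = 0) :
    ¬ (centralizer ({X (frob_frob hF) 0 b e} : Set (UJ (frob hF)))).index ≡ 1 [MOD p] := by
  intro h
  have h1 := Subgroup.card_mul_index (centralizer ({X (frob_frob hF) 0 b e} : Set (UJ (frob hF))))
  rw [card_cent hF hb e, card_UJ hF] at h1
  set i := (centralizer ({X (frob_frob hF) 0 b e} : Set (UJ (frob hF)))).index with hi
  have hq0 : 0 < q := by rw [hq]; exact pow_pos hp.out.pos a
  have hq1 : q - 1 + 1 = q := Nat.sub_add_cancel hq0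
  have h2 : q ^ 2 - 1 = (q + 1) * (q - 1) := by rw [sq_sub_one]
  rw [h2] at h1
  have h3 : i = (q - 1) * (q ^ 3 + 1) := by
    apply Nat.eq_of_mul_eq_mul_left (show 0 < (q + 1) * q ^ 3 by positivity)
    rw [h1]; ring
  have h4 : i + (q ^ 3 + 1) = q * (q ^ 3 + 1) := by
    rw [h3]
    calc (q - 1) * (q ^ 3 + 1) + (q ^ 3 + 1) = (q - 1 + 1) * (q ^ 3 + 1) := by ring
      _ = _ := by rw [hq1]
  have hpq : p ∣ q := by rw [hq]; exact dvd_pow_self p ha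
  have h5 : i + (q ^ 3 + 1) ≡ 1 + (0 + 1) [MOD p] :=
    h.add (((Nat.modEq_zero_iff_dvd.2 (dvd_pow hpq (by norm_num)))).add_right 1)
  rw [h4] at h5
  have h6 : p ∣ q * (q ^ 3 + 1) := Dvd.dvd.mul_right hpq _
  have h7 : p ∣ 1 + (0 + 1) := (h5.dvd_iff (dvd_refl p)).1 h6
  have := Nat.le_of_dvd (by norm_num) h7
  omega

theorem D_PSU (hF : Fintype.card F = q ^ 2) {a : ℕ} (ha : a ≠ 0) (hq : q = p ^ a) (hp5 : 5 ≤ p) :
    D p (Cfsg.PSU 3 F q) := by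
  set σ := frob hF with hσd
  have hσ : ∀ x, σ (σ x) = x := frob_frob hF
  have hσq : ∀ x, σ x = x ^ q := fun x => rfl
  have hne : σ ≠ RingHom.id F := frob_ne_id hF
  have hq0 : 0 < q := by rw [hq]; exact pow_pos hp.out.pos a
  have hpq : p ∣ q := by rw [hq]; exact dvd_pow_self p ha
  have hq5 : 5 ≤ q := hp5.trans (Nat.le_of_dvd hq0 hpq)
  have hp1 := hp.out.one_lt
  have hsim : IsSimpleGroup (Cfsg.PSU 3 F q) := S0283.result hF 3 (by norm_num) (by omega)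
  obtain ⟨A, Φ, -, -⟩ := SU3Gen.exists_equiv hF
  -- trace one element
  obtain ⟨τ, hτ⟩ : ∃ τ : F, τ + σ τ = 1 := by
    have h1 := card_fiber hF (1 : F) (one_pow q)
    have h2 : Nonempty {b : F // b + b ^ q = 1} := by
      by_contra h
      rw [not_nonempty_iff] at h
      rw [Nat.card_of_isEmpty] at h1
      omega
    exact ⟨h2.some.1, h2.some.2⟩
  have hfin : Finite (UJ σ) := inferInstance
  have hU : Nat.card (U1 σ) = p ^ (a * 3) := by rw [card_U1 hF, hq, pow_mul]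
  have hUp : IsPGroup p (U1 σ) := IsPGroup.of_card hU
  have hsqc : q ^ 2 - 1 + 1 = q ^ 2 := Nat.sub_add_cancel (Nat.one_le_pow _ _ hq0)
  have hUi : ¬ p ∣ (U1 σ).index := by
    have h1 := Subgroup.card_mul_index (U1 σ)
    rw [card_U1 hF, card_UJ hF] at h1
    have h2 : (U1 σ).index = (q ^ 2 - 1) * (q ^ 3 + 1) := Nat.eq_of_mul_eq_mul_left (by positivity) h1
    rw [h2, hp.out.dvd_mul]
    rintro (h | h)
    · have := (Nat.dvd_add_right h).1 (hsqc ▸ dvd_pow hpq (by norm_num))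
      exact hp1.ne' (Nat.dvd_one.1 this)
    · have := (Nat.dvd_add_right (dvd_pow hpq (by norm_num))).1 h
      exact hp1.ne' (Nat.dvd_one.1 this)
  have hcc : ¬ p ∣ Nat.card (center (UJ σ)) := by
    rw [Nat.card_congr (Subgroup.centerCongr Φ).toEquiv, card_center_SU hF (by norm_num)]
    intro h
    have h1 := Nat.le_of_dvd (Nat.gcd_pos_of_pos_left _ (by norm_num)) h
    have h2 := Nat.gcd_le_left (q + 1) (show 0 < 3 by norm_num)
    omega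
  have hker : ((QuotientGroup.mk' (center (SU 3 F q))).comp Φ.toMonoidHom).ker = center (UJ σ) := by
    ext x
    rw [MonoidHom.mem_ker]
    change QuotientGroup.mk' (center (SU 3 F q)) (Φ x) = 1 ↔ _
    rw [QuotientGroup.mk'_apply, QuotientGroup.eq_one_iff, mem_center_iff, mem_center_iff]
    constructor
    · intro h g
      have := h (Φ g)
      rw [← map_mul, ← map_mul] at this
      exact Φ.injective this
    · intro h g
      have := congrArg Φ (h (Φ.symm g))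
      simpa using this
  -- a torus element
  obtain ⟨t, ht, htσ⟩ : ∃ t : F, t ≠ 0 ∧ t ^ 2 ≠ σ t := by
    obtain ⟨g, hg⟩ := IsCyclic.exists_generator (α := Fˣ)
    refine ⟨g, g.ne_zero, fun h => ?_⟩
    have ho : orderOf g = q ^ 2 - 1 := by
      rw [orderOf_eq_card_of_forall_mem_zpowers hg, Nat.card_units, Nat.card_eq_fintype_card, hF]
    have h1 : g ^ (q - 2) = 1 := by
      have h2 : g ^ 2 = g ^ q := Units.ext (by rw [Units.val_pow_eq_pow_val, Units.val_pow_eq_pow_val]; exact h)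
      have h3 : g ^ (q - 2) * g ^ 2 = 1 * g ^ 2 := by
        rw [← pow_add, one_mul, Nat.sub_add_cancel (by omega), h2]
      exact mul_right_cancel h3
    have h2 := orderOf_dvd_of_pow_eq_one h1
    rw [ho] at h2
    have h3 := Nat.le_of_dvd (by omega) h2
    have h4 : q * 1 < q * q := by nlinarith
    rw [sq] at h3
    omega
  refine D_quot ((QuotientGroup.mk' (center (SU 3 F q))).comp Φ.toMonoidHom)
    ((QuotientGroup.mk'_surjective _).comp Φ.surjective) hker hcc (hUp.toSylow hUi) ?_ W ?_ ?_ ?_ ?_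
  · intro h
    obtain ⟨b, hb, e⟩ := exists_tr0 hσ hne
    have h1 := h.conj_mem _ (X_mem_U1 hσ e) W⁻¹
    rw [inv_inv] at h1
    have h2 := W_conj hσ (X_mem_U1 hσ e) h1
    have h3 := congrArg (fun x : UJ σ => mx x 0 2) h2
    exact hb h3
  · intro g
    rcases bruhatU hσ g with ⟨l, hl, h⟩ | ⟨u, hu, n, ⟨l, hl, h⟩, rfl⟩
    · exact Or.inl (norm_U1 hl h)
    · exact Or.inr ⟨u, hu, n, norm_U1 hl h, rfl⟩
  · intro u hu h
    exact W_conj hσ hu h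
  · right
    refine ⟨T hσ t ht, norm_U1 ht (T_e1 hσ ht), ?_, fun c hc => cent_U1 hσ hτ hne hc, fun u hu huc => ?_⟩
    · have hσt : (σ t)⁻¹ ≠ 0 := inv_ne_zero ((map_ne_zero σ).2 ht)
      apply norm_U1 hσt
      rw [mx_mul, mx_mul, ← mulVec_mulVec, ← mulVec_mulVec, W_e1]
      have h1 : mx (T hσ t ht) *ᵥ ![0, 0, 1] = (σ t)⁻¹ • ![0, 0, 1] := by
        rw [mul_vec3, mx_T]
        ext i; fin_cases i <;> simp
      rw [h1, mulVec_smul, inv_vec W_e1]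
      ext i; fin_cases i <;> simp
    · obtain ⟨h1, h2⟩ := co_T_conj hσ ht (inv_mem hu)
      have h3 := co_of_central hσ hτ hne (mul_mem h1 hu) huc
      rw [co_mul hσ h1 hu] at h3
      rw [co_inv hσ hu] at h2
      apply central_of_co hσ hu
      have h4 : (t ^ 2 - σ t) * mx u 0 1 = 0 := by linear_combination t ^ 2 * h3 - h2
      exact (mul_eq_zero.1 h4).resolve_left (sub_ne_zero.2 htσ)
  · intro u hu huc hu1
    have h0 := co_of_central hσ hτ hne hu huc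
    obtain ⟨a, b, e, rfl⟩ := exists_X hσ u hu
    have ha : a = 0 := h0
    subst ha
    have hb : b ≠ 0 := by
      rintro rfl
      exact hu1 (X_one hσ)
    exact not_modEqU hF ‹_› hq (by omega) hb e

end main

end Cfsg.Agent.Lib.IsoRk1
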