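import Cfsg.Agent.Lib.IsoRk1

set_option autoImplicit false

namespace Cfsg.Agent.Lib.IsoRk1

open Subgroup

variable {p : ℕ} [hp : Fact p.Prime]

omit hp in
/-- a `p`-element normalizing a Sylow subgroup lies in it -/
theorem mem_of_normalizes {E : Type*} [Group E] (R : Sylow p E) {y : E} {k : ℕ} (hy : y ^ p ^ k = 1)
    (hyn : y ∈ normalizer ((R : Subgroup E) : Set E)) : y ∈ (R : Subgroup E) := by
  have h1 : IsPGroup p (zpowers y) := by
    intro g
    obtain ⟨m, hm⟩ := mem_zpowers_iff.1 g.2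
    refine ⟨k, Subtype.ext ?_⟩
    rw [coe_pow, ← hm, ← zpow_natCast, zpow_comm, zpow_natCast, hy, one_zpow]
    rfl
  have h2 := h1.inf_normalizer_sylow R
  have h3 : y ∈ zpowers y ⊓ normalizer ((R : Subgroup E) : Set E) := ⟨mem_zpowers y, hyn⟩
  have h4 : y ∈ zpowers y ⊓ (R : Subgroup E) := h2 ▸ h3
  exact h4.2

omit hp in
/-- automorphisms centralizing a Sylow subgroup in a rank one group -/
theorem aut_inner {E : Type*} [Group E] [Finite E] [hs : IsSimpleGroup E] (R : Sylow p E)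
    (hRn : ¬ (R : Subgroup E).Normal) (w : E)
    (ha : ∀ g : E, g ∈ normalizer ((R : Subgroup E) : Set E) ∨
      ∃ u ∈ (R : Subgroup E), ∃ b ∈ normalizer ((R : Subgroup E) : Set E), g = u * w * b)
    (hb : ∀ u ∈ (R : Subgroup E), w⁻¹ * u * w ∈ (R : Subgroup E) → u = 1)
    (hd : (∀ u ∈ (R : Subgroup E), ∀ r ∈ (R : Subgroup E), r * u = u * r) ∨
      ∃ h ∈ normalizer ((R : Subgroup E) : Set E), w⁻¹ * h * w ∈ normalizer ((R : Subgroup E) : Set E) ∧
        (∀ c : E, (∀ r ∈ (R : Subgroup E), r * c = c * r) → c ∈ (R : Subgroup E)) ∧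
        ∀ u ∈ (R : Subgroup E), (∀ r ∈ (R : Subgroup E), r * (h⁻¹ * u⁻¹ * h * u) = (h⁻¹ * u⁻¹ * h * u) * r) →
          ∀ r ∈ (R : Subgroup E), r * u = u * r)
    (σ : E ≃* E) (hσ : ∀ r ∈ (R : Subgroup E), σ r = r) :
    ∃ u ∈ (R : Subgroup E), (∀ r ∈ (R : Subgroup E), r * u = u * r) ∧ ∀ x, σ x = u * x * u⁻¹ := by
  set N := normalizer ((R : Subgroup E) : Set E) with hN
  have hNmem : ∀ {n r : E}, n ∈ N → r ∈ (R : Subgroup E) → n * r * n⁻¹ ∈ (R : Subgroup E) := fun hn hr =>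
    (mem_normalizer_iff.1 hn _).1 hr
  have hNmem' : ∀ {n r : E}, n ∈ N → r ∈ (R : Subgroup E) → n⁻¹ * r * n ∈ (R : Subgroup E) := fun {n r} hn hr => by
    have := hNmem (inv_mem hn) hr
    rwa [inv_inv] at this
  -- `τ` fixing `R` pointwise maps the normalizer to itself
  have hpres : ∀ τ : E ≃* E, (∀ r ∈ (R : Subgroup E), τ r ∈ (R : Subgroup E)) → ∀ n ∈ N, τ n ∈ N := by
    intro τ hτ n hn
    have hmap : (R : Subgroup E).map τ.toMonoidHom = R := by
      apply Subgroup.eq_of_le_of_card_ge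
      · rintro _ ⟨r, hr, rfl⟩; exact hτ r hr
      · rw [Subgroup.card_map_of_injective τ.injective]
    have hsurj : ∀ r ∈ (R : Subgroup E), ∃ s ∈ (R : Subgroup E), τ s = r := by
      intro r hr
      rw [← hmap] at hr
      obtain ⟨s, hs, rfl⟩ := hr
      exact ⟨s, hs, rfl⟩
    have h1 : ∀ m ∈ N, ∀ r ∈ (R : Subgroup E), τ m * r * (τ m)⁻¹ ∈ (R : Subgroup E) := by
      intro m hm r hr
      obtain ⟨s, hs, rfl⟩ := hsurj r hr
      rw [← map_inv, ← map_mul, ← map_mul]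
      exact hτ _ (hNmem hm hs)
    rw [hN, mem_normalizer_iff]
    intro r
    refine ⟨fun hr => h1 n hn r hr, fun hr => ?_⟩
    have h2 := h1 n⁻¹ (inv_mem hn) _ hr
    have h3 : τ n⁻¹ * (τ n * r * (τ n)⁻¹) * (τ n⁻¹)⁻¹ = r := by
      rw [map_inv]; group
    rwa [h3] at h2
  have hRbot : (R : Subgroup E) ≠ ⊥ := by
    intro h; apply hRn; rw [h]; infer_instance
  have hσw : ∃ u ∈ (R : Subgroup E), ∃ b ∈ N, σ w = u * w * b := by
    rcases ha (σ w) with h1 | h1
    · exfalso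
      apply hRbot
      rw [Subgroup.eq_bot_iff_forall]
      intro r hr
      apply hb r hr
      have h2 : σ (w⁻¹ * r * w) ∈ (R : Subgroup E) := by
        rw [map_mul, map_mul, map_inv, hσ r hr]
        exact hNmem' h1 hr
      have h3 := hσ _ h2
      have h4 : w⁻¹ * r * w = σ (w⁻¹ * r * w) := σ.injective h3.symm
      rw [h4]; exact h2
    · exact h1
  obtain ⟨u, hu, b, hb', hwb⟩ := hσw
  -- `u` is central in `R`
  have huc : ∀ r ∈ (R : Subgroup E), r * u = u * r := by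
    rcases hd with hd | ⟨h, hh, hwh, hC, hU⟩
    · exact hd u hu
    · have hc1 : ∀ r ∈ (R : Subgroup E), r * (σ h * h⁻¹) = (σ h * h⁻¹) * r := by
        intro r hr
        have h1 := hσ _ (hNmem' hh hr)
        rw [map_mul, map_mul, map_inv, hσ r hr] at h1
        have h2 : r = σ h * (h⁻¹ * r * h) * (σ h)⁻¹ := by rw [← h1]; group
        calc r * (σ h * h⁻¹) = (σ h * (h⁻¹ * r * h) * (σ h)⁻¹) * (σ h * h⁻¹) := by rw [← h2]
          _ = _ := by group
      have hcR := hC _ hc1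
      set c := σ h * h⁻¹ with hc
      have hσh : σ h = c * h := by rw [hc, inv_mul_cancel_right]
      -- `u⁻¹ σ(h) u` normalizes `w R w⁻¹`
      have h3 : σ (w⁻¹ * h * w) ∈ N := hpres σ (fun r hr => by rw [hσ r hr]; exact hr) _ hwh
      rw [map_mul, map_mul, map_inv, hwb, hσh] at h3
      have h4 : w⁻¹ * (u⁻¹ * c * h * u) * w ∈ N := by
        have h5 := mul_mem (mul_mem hb' h3) (inv_mem hb')
        have h6 : b * ((u * w * b)⁻¹ * (c * h) * (u * w * b)) * b⁻¹ = w⁻¹ * (u⁻¹ * c * h * u) * w := by group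
        rwa [h6] at h5
      have h5 : w⁻¹ * (h⁻¹ * u⁻¹ * c * h * u) * w ∈ N := by
        have h6 := mul_mem (inv_mem hwh) h4
        have h7 : (w⁻¹ * h * w)⁻¹ * (w⁻¹ * (u⁻¹ * c * h * u) * w) = w⁻¹ * (h⁻¹ * u⁻¹ * c * h * u) * w := by group
        rwa [h7] at h6
      have hyR : h⁻¹ * u⁻¹ * c * h * u ∈ (R : Subgroup E) := by
        have h6 := mul_mem (hNmem' hh (mul_mem (inv_mem hu) hcR)) hu
        have h7 : h⁻¹ * (u⁻¹ * c) * h * u = h⁻¹ * u⁻¹ * c * h * u := by group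
        rwa [h7] at h6
      have hy1 : h⁻¹ * u⁻¹ * c * h * u = 1 := by
        apply hb _ hyR
        obtain ⟨k, hk⟩ := R.isPGroup' ⟨_, hyR⟩
        refine mem_of_normalizes R (k := k) ?_ h5
        have h6 : (h⁻¹ * u⁻¹ * c * h * u) ^ p ^ k = 1 := congrArg Subtype.val hk
        have h7 : w⁻¹ * (h⁻¹ * u⁻¹ * c * h * u) * w = w⁻¹ * (h⁻¹ * u⁻¹ * c * h * u) * (w⁻¹)⁻¹ := by rw [inv_inv]
        rw [h7, conj_pow, h6, mul_one, mul_inv_cancel]
      -- `h⁻¹ c h` is central in `R`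
      have hcc : ∀ r ∈ (R : Subgroup E), r * (h⁻¹ * c * h) = (h⁻¹ * c * h) * r := by
        intro r hr
        have h6 := hc1 _ (hNmem hh hr)
        calc r * (h⁻¹ * c * h) = h⁻¹ * ((h * r * h⁻¹) * c) * h := by group
          _ = h⁻¹ * (c * (h * r * h⁻¹)) * h := by rw [h6]
          _ = _ := by group
      apply hU u hu
      have h6 : h⁻¹ * u⁻¹ * h * u = (h⁻¹ * c * h)⁻¹ := by
        rw [eq_inv_iff_mul_eq_one]
        calc h⁻¹ * u⁻¹ * h * u * (h⁻¹ * c * h) = h⁻¹ * u⁻¹ * h * (u * (h⁻¹ * c * h)) := by group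
          _ = h⁻¹ * u⁻¹ * h * ((h⁻¹ * c * h) * u) := by rw [hcc u hu]
          _ = h⁻¹ * u⁻¹ * c * h * u := by group
          _ = 1 := hy1
      intro r hr
      rw [h6]
      exact (Commute.inv_right (show Commute r (h⁻¹ * c * h) from hcc r hr) : _)
  refine ⟨u, hu, huc, ?_⟩
  -- the automorphism `τ`
  set τ : E ≃* E := σ.trans (MulAut.conj u⁻¹) with hτ
  have hτa : ∀ x, τ x = u⁻¹ * σ x * u := fun x => by
    rw [hτ, MulEquiv.trans_apply, MulAut.conj_apply, inv_inv]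
  have hτR : ∀ r ∈ (R : Subgroup E), τ r = r := fun r hr => by
    rw [hτa, hσ r hr, mul_assoc, huc r hr, inv_mul_cancel_left]
  have hτN : ∀ n ∈ N, τ n ∈ N := hpres τ (fun r hr => by rw [hτR r hr]; exact hr)
  have hτw : τ w = w * (b * u) := by rw [hτa, hwb]; group
  have hbu : b * u ∈ N := mul_mem hb' (le_normalizer hu)
  have h1 : ∀ x, x⁻¹ * τ x ∈ N := by
    intro x
    rcases ha x with hx | ⟨v, hv, c, hc, rfl⟩
    · exact mul_mem (inv_mem hx) (hτN x hx)
    · rw [map_mul, map_mul, hτR v hv, hτw]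
      have h2 : (v * w * c)⁻¹ * (v * (w * (b * u)) * τ c) = c⁻¹ * ((b * u) * τ c) := by group
      rw [h2]
      exact mul_mem (inv_mem hc) (mul_mem hbu (hτN c hc))
  have h2 : ∀ g, g⁻¹ * τ g ∈ N.normalCore := by
    intro g x
    have h3 := h1 (g * x⁻¹)
    rw [map_mul] at h3
    have h4 := mul_mem h3 (inv_mem (h1 x⁻¹))
    have h5 : (g * x⁻¹)⁻¹ * (τ g * τ x⁻¹) * ((x⁻¹)⁻¹ * τ x⁻¹)⁻¹ = x * (g⁻¹ * τ g) * x⁻¹ := by group
    rwa [h5] at h4
  have h3 : N.normalCore = ⊥ := by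
    rcases IsSimpleGroup.eq_bot_or_eq_top_of_normal N.normalCore inferInstance with h | h
    · exact h
    · exfalso
      apply hRn
      rw [← normalizer_eq_top_iff, ← top_le_iff, ← h]
      exact normalCore_le N
  intro x
  have h4 := h2 x
  rw [h3, mem_bot, inv_mul_eq_one] at h4
  rw [hτa] at h4
  calc σ x = u * (u⁻¹ * σ x * u) * u⁻¹ := by group
    _ = u * x * u⁻¹ := by rw [← h4]

section quot

variable {K E : Type*} [Group K] [Group E] [Finite K] (π : K →* E)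

omit [Finite K] in
/-- `p`-elements with the same image modulo a central `p'`-subgroup are equal -/
theorem inj_of (hker : π.ker = center K) (hcop : ¬ p ∣ Nat.card (center K)) {a b : K} {k : ℕ}
    (ha : a ^ p ^ k = 1) (hb : b ^ p ^ k = 1) (h : π a = π b) : a = b := by
  have h1 : b⁻¹ * a ∈ center K := by
    rw [← hker, MonoidHom.mem_ker, map_mul, map_inv, h, inv_mul_cancel]
  set z := b⁻¹ * a with hz
  have h2 : a = b * z := by rw [hz, mul_inv_cancel_left]
  have h3 : Commute b z := (mem_center_iff.1 h1 b)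
  have h4 : z ^ p ^ k = 1 := by
    rw [h2, h3.mul_pow, hb, one_mul] at ha
    exact ha
  have h5 : orderOf z ∣ p ^ k := orderOf_dvd_of_pow_eq_one h4
  have h6 : orderOf z ∣ Nat.card (center K) := Subgroup.orderOf_dvd_natCard _ h1
  have h7 : Nat.Coprime (p ^ k) (Nat.card (center K)) :=
    Nat.Coprime.pow_left _ ((Nat.Prime.coprime_iff_not_dvd hp.out).2 hcop)
  have h8 : orderOf z = 1 := Nat.dvd_one.1 (h7 ▸ Nat.dvd_gcd h5 h6)
  rw [orderOf_eq_one_iff] at h8
  rw [h2, h8, mul_one]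

theorem D_quot [hs : IsSimpleGroup E] (hπ : Function.Surjective π) (hker : π.ker = center K)
    (hcop : ¬ p ∣ Nat.card (center K)) (R : Sylow p K) (hRn : ¬ (R : Subgroup K).Normal) (w : K)
    (ha : ∀ g : K, g ∈ normalizer ((R : Subgroup K) : Set K) ∨
      ∃ u ∈ (R : Subgroup K), ∃ b ∈ normalizer ((R : Subgroup K) : Set K), g = u * w * b)
    (hb : ∀ u ∈ (R : Subgroup K), w⁻¹ * u * w ∈ (R : Subgroup K) → u = 1)
    (hd : (∀ u ∈ (R : Subgroup K), ∀ r ∈ (R : Subgroup K), r * u = u * r) ∨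
      ∃ h ∈ normalizer ((R : Subgroup K) : Set K), w⁻¹ * h * w ∈ normalizer ((R : Subgroup K) : Set K) ∧
        (∀ c : K, (∀ r ∈ (R : Subgroup K), r * c = c * r) → ∃ r ∈ (R : Subgroup K), ∃ z ∈ center K, c = r * z) ∧
        ∀ u ∈ (R : Subgroup K), (∀ r ∈ (R : Subgroup K), r * (h⁻¹ * u⁻¹ * h * u) = (h⁻¹ * u⁻¹ * h * u) * r) →
          ∀ r ∈ (R : Subgroup K), r * u = u * r)
    (hi : ∀ u ∈ (R : Subgroup K), (∀ r ∈ (R : Subgroup K), r * u = u * r) → u ≠ 1 →
      ¬ (centralizer ({u} : Set K)).index ≡ 1 [MOD p]) : D p E := by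
  have hfin : Finite E := Finite.of_surjective π hπ
  have hRp : ∀ r ∈ (R : Subgroup K), ∃ k : ℕ, r ^ p ^ k = 1 := fun r hr => by
    obtain ⟨k, hk⟩ := R.isPGroup' ⟨r, hr⟩
    exact ⟨k, congrArg Subtype.val hk⟩
  have hmono : ∀ {a : K} {k l : ℕ}, k ≤ l → a ^ p ^ k = 1 → a ^ p ^ l = 1 := fun {a k l} hkl h => by
    obtain ⟨m, rfl⟩ := Nat.exists_eq_add_of_le hkl
    rw [pow_add, pow_mul, h, one_pow]
  have hinj : ∀ {a b : K} {k l : ℕ}, a ^ p ^ k = 1 → b ^ p ^ l = 1 → π a = π b → a = b := fun {a b k l} h1 h2 h3 =>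
    inj_of π hker hcop (hmono (le_max_left k l) h1) (hmono (le_max_right k l) h2) h3
  have hconj : ∀ {a x : K} {k : ℕ}, a ^ p ^ k = 1 → (x * a * x⁻¹) ^ p ^ k = 1 := fun {a x k} h => by
    rw [conj_pow, h, mul_one, mul_inv_cancel]
  have hconj' : ∀ {a x : K} {k : ℕ}, a ^ p ^ k = 1 → (x⁻¹ * a * x) ^ p ^ k = 1 := fun {a x k} h => by
    have := hconj (x := x⁻¹) h
    rwa [inv_inv] at this
  -- commuting modulo the centre
  have hcomm : ∀ {a x : K} {k : ℕ}, a ^ p ^ k = 1 → π a * π x = π x * π a → a * x = x * a := fun {a x k} h1 h2 => by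
    have h3 : x * a * x⁻¹ = a := hinj (hconj h1) h1 (by rw [map_mul, map_mul, map_inv, ← h2, mul_inv_cancel_right])
    rw [← h3]; rw [h3]
    exact (mul_inv_eq_iff_eq_mul.1 h3).symm
  set S := R.mapSurjective hπ with hS
  have hSc : (S : Subgroup E) = (R : Subgroup K).map π := Sylow.coe_mapSurjective hπ R
  have hSn : ¬ (S : Subgroup E).Normal := by
    intro h
    apply hRn
    refine ⟨fun r hr k => ?_⟩
    have h1 := h.conj_mem (π r) (by rw [hSc]; exact ⟨r, hr, rfl⟩) (π k)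
    rw [hSc] at h1
    obtain ⟨s, hs, hs'⟩ := h1
    obtain ⟨m, hm⟩ := hRp r hr
    obtain ⟨n, hn⟩ := hRp s hs
    have h2 : k * r * k⁻¹ = s := hinj (hconj hm) hn (by rw [map_mul, map_mul, map_inv, hs'])
    rw [h2]; exact hs
  have hN : ∀ n ∈ normalizer ((R : Subgroup K) : Set K), π n ∈ normalizer ((S : Subgroup E) : Set E) := by
    have h1 : ∀ n ∈ normalizer ((R : Subgroup K) : Set K), ∀ x ∈ (S : Subgroup E), π n * x * (π n)⁻¹ ∈ (S : Subgroup E) := by
      intro n hn x hx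
      rw [hSc] at hx ⊢
      obtain ⟨r, hr, rfl⟩ := hx
      exact ⟨n * r * n⁻¹, (mem_normalizer_iff.1 hn r).1 hr, by rw [map_mul, map_mul, map_inv]⟩
    intro n hn
    rw [mem_normalizer_iff]
    intro x
    refine ⟨fun hx => h1 n hn x hx, fun hx => ?_⟩
    have h2 := h1 n⁻¹ (inv_mem hn) _ hx
    rw [map_inv] at h2
    have h3 : (π n)⁻¹ * (π n * x * (π n)⁻¹) * ((π n)⁻¹)⁻¹ = x := by group
    rwa [h3] at h2
  refine ⟨S, fun σ hσ => ?_, ?_⟩
  · refine aut_inner S hSn (π w) ?_ ?_ ?_ σ hσ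
    · intro g
      obtain ⟨g, rfl⟩ := hπ g
      rcases ha g with h1 | ⟨u, hu, b, hb, rfl⟩
      · exact Or.inl (hN g h1)
      · exact Or.inr ⟨π u, by rw [hSc]; exact ⟨u, hu, rfl⟩, π b, hN b hb, by rw [map_mul, map_mul]⟩
    · intro u hu h1
      rw [hSc] at hu h1
      obtain ⟨u, hu, rfl⟩ := hu
      obtain ⟨s, hs, hs'⟩ := h1
      obtain ⟨m, hm⟩ := hRp u hu
      obtain ⟨n, hn⟩ := hRp s hs
      have h2 : w⁻¹ * u * w = s := hinj (hconj' hm) hn (by rw [map_mul, map_mul, map_inv, hs'])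
      rw [hb u hu (by rw [h2]; exact hs), map_one]
    · rcases hd with hd | ⟨h, hh, hwh, hC, hU⟩
      · left
        intro u hu r hr
        rw [hSc] at hu hr
        obtain ⟨u, hu, rfl⟩ := hu
        obtain ⟨r, hr, rfl⟩ := hr
        rw [← map_mul, hd u hu r hr, map_mul]
      · right
        refine ⟨π h, hN h hh, by rw [← map_inv, ← map_mul, ← map_mul]; exact hN _ hwh, fun c hc => ?_, fun u hu huc => ?_⟩
        · obtain ⟨c, rfl⟩ := hπ c
          obtain ⟨r, hr, z, hz, rfl⟩ := hC c (fun r hr => by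
            obtain ⟨m, hm⟩ := hRp r hr
            exact hcomm hm (hc (π r) (by rw [hSc]; exact ⟨r, hr, rfl⟩)))
          have h1 : π z = 1 := by rw [← MonoidHom.mem_ker, hker]; exact hz
          rw [map_mul, h1, mul_one, hSc]
          exact ⟨r, hr, rfl⟩
        · rw [hSc] at hu
          obtain ⟨u, hu, rfl⟩ := hu
          have h1 := hU u hu (fun r hr => by
            obtain ⟨m, hm⟩ := hRp r hr
            apply hcomm hm
            have h2 := huc (π r) (by rw [hSc]; exact ⟨r, hr, rfl⟩)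
            simpa only [map_mul, map_inv] using h2)
          intro r hr
          rw [hSc] at hr
          obtain ⟨r, hr, rfl⟩ := hr
          rw [← map_mul, h1 r hr, map_mul]
  · intro u hu huc hu1 hidx
    rw [hSc] at hu
    obtain ⟨u, hu, rfl⟩ := hu
    obtain ⟨m, hm⟩ := hRp u hu
    refine hi u hu (fun r hr => ?_) (by rintro rfl; exact hu1 (map_one π)) ?_
    · obtain ⟨n, hn⟩ := hRp r hr
      exact hcomm hn (huc (π r) (by rw [hSc]; exact ⟨r, hr, rfl⟩))
    · have h2 : centralizer ({u} : Set K) = (centralizer ({π u} : Set E)).comap π := by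
        ext x
        simp only [mem_centralizer_singleton_iff, mem_comap]
        constructor
        · intro h; rw [← map_mul, ← map_mul, h]
        · intro h; exact (hcomm hm h.symm).symm
      rw [h2, index_comap_of_surjective _ hπ]
      exact hidx

end quot

end Cfsg.Agent.Lib.IsoRk1
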