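import Mathlib
import Cfsg.Prelude.Def_ClassicalGeometry
import Cfsg.Agent.Lib.ClIso

/-!
# Transport of isometry groups along field isomorphisms (helper14)
-/

set_option autoImplicit false

namespace Cfsg.Agent.Lib.IsomTransport

open Cfsg Cfsg.Agent.Lib.ClIso Matrix

variable {K F : Type*} [Field K] [Field F] {ι : Type} [Fintype ι] [DecidableEq ι]

/-- entrywise map of matrices -/
noncomputable def glMap (ι : Type) [Fintype ι] [DecidableEq ι] (σ : K ≃+* F) : GL ι K ≃* GL ι F :=
  Units.mapEquiv (σ.mapMatrix (m := ι)).toMulEquiv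

theorem glMap_coe (σ : K ≃+* F) (g : GL ι K) : ((glMap ι σ g : GL ι F) : Matrix ι ι F) = (g : Matrix ι ι K).map σ := rfl

theorem glMap_mulVec (σ : K ≃+* F) (g : GL ι K) (v : ι → K) :
    ((glMap ι σ g : GL ι F) : Matrix ι ι F) *ᵥ (fun i => σ (v i)) = fun i => σ (((g : Matrix ι ι K) *ᵥ v) i) := by
  funext i
  rw [glMap_coe, Matrix.mulVec, dotProduct, Matrix.mulVec, dotProduct, map_sum]
  refine Finset.sum_congr rfl fun j _ => ?_
  rw [map_mul]
  rfl

/-- transport of isometry groups -/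
noncomputable def isometryEquiv (σ : K ≃+* F) (QK : (ι → K) → K) (QF : (ι → F) → F)
    (h : ∀ v, QF (fun i => σ (v i)) = σ (QK v)) : isometryGroup K QK ≃* isometryGroup F QF :=
  subgroupEquivOfIff (glMap ι σ) _ _ (fun g => by
    constructor
    · intro hg u _
      have hu : u = fun i => σ (σ.symm (u i)) := by funext i; simp
      change QF (((glMap ι σ g : GL ι F) : Matrix ι ι F) *ᵥ u) = QF u
      rw [hu, glMap_mulVec, h, h]
      congr 1
      exact hg _ 0
    · intro hg u _
      change QK ((g : Matrix ι ι K) *ᵥ u) = QK u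
      apply σ.injective
      rw [← h, ← h, ← glMap_mulVec]
      exact hg _ 0)

theorem exists_ringEquiv_two [Fintype F] (hF : Fintype.card F = 2) : Nonempty (ZMod 2 ≃+* F) :=
  ⟨FiniteField.ringEquivOfCardEq (by rw [ZMod.card, hF])⟩

theorem quadFormPlus_map (σ : K ≃+* F) (m : ℕ) (v : Fin m ⊕ Fin m → K) :
    quadFormPlus m F (fun i => σ (v i)) = σ (quadFormPlus m K v) := by
  simp [quadFormPlus]

theorem quadFormMinus_map (σ : K ≃+* F) (m : ℕ) (v : (Fin m ⊕ Fin m) ⊕ Fin 2 → K) :
    quadFormMinus m F 1 1 (fun i => σ (v i)) = σ (quadFormMinus m K 1 1 v) := by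
  simp [quadFormMinus]

theorem quadFormOdd_map (σ : K ≃+* F) (m : ℕ) (v : Unit ⊕ (Fin m ⊕ Fin m) → K) :
    quadFormOdd m F (fun i => σ (v i)) = σ (quadFormOdd m K v) := by
  simp [quadFormOdd]

end Cfsg.Agent.Lib.IsomTransport
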