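import Cfsg.Agent.Lib.DegTools
import Cfsg.Agent.Lib.NilChar
import Cfsg.Agent.Lib.ConjCover
import Cfsg.Agent.Lib.CharDegrees
import Cfsg.Agent.Lib.DefectZero
import Cfsg.Agent.Lib.CharValues
import Cfsg.Agent.Lib.OmegaCent
import Cfsg.Agent.Lib.H32PSolv
import Cfsg.Agent.Lib.Cores
import Cfsg.Agent.Lib.DetChar

/-!
# Itô's theorem for `p`-solvable groups (helper79)
-/

set_option autoImplicit false

namespace Cfsg.Agent.Lib.ItoPSolv

open Cfsg Cfsg.Agent.Lib Cfsg.Agent.Lib.CharBasic Cfsg.Agent.Lib.Clifford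
  Cfsg.Agent.Lib.DefectZero
open scoped ComplexConjugate commutatorElement

universe u

variable {G : Type u} [Group G] [Finite G]

/-- A `p`-group fixing all irreducible characters of a normal `p'`-subgroup centralizes it. -/
theorem centralizes_of_fix {p : ℕ} [hp : Fact p.Prime] (P N : Subgroup G) [hNn : N.Normal]
    (hP : IsPGroup p P) (hN : (Nat.card N).Coprime p)
    (h : ∀ θ : IrrCharacter N, ∀ x ∈ P, cj N x (θ : N → ℂ) = θ) :
    ∀ x ∈ P, ∀ n ∈ N, x * n = n * x := by
  classical
  have hconj : ∀ x ∈ P, ∀ n : N, IsConj n (⟨x * n * x⁻¹, hNn.conj_mem n n.2 x⟩ : N) := by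
    intro x hx n
    rw [isConj_iff_forall_irr]
    intro θ
    have h1 := congrFun (h θ x hx) n
    rw [cj_apply] at h1
    exact h1.symm
  have htop : (Subgroup.centralizer (P : Set G)).subgroupOf N = ⊤ := by
    apply ConjCover.eq_top_of_forall_conj
    intro n
    let _ : MulAction P {m : N // IsConj n m} :=
      { smul := fun x m => ⟨⟨x * (m.1 : G) * (x : G)⁻¹, hNn.conj_mem _ m.1.2 x⟩,
          m.2.trans (hconj x x.2 m.1)⟩
        one_smul := fun m => by
          apply Subtype.ext; apply Subtype.ext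
          change ((1 : P) : G) * (m.1 : G) * ((1 : P) : G)⁻¹ = m.1
          simp
        mul_smul := fun x y m => by
          apply Subtype.ext; apply Subtype.ext
          change ((x * y : P) : G) * (m.1 : G) * ((x * y : P) : G)⁻¹ =
            x * (y * (m.1 : G) * (y : G)⁻¹) * (x : G)⁻¹
          rw [Subgroup.coe_mul]; group }
    have hcard : ¬ p ∣ Nat.card {m : N // IsConj n m} := by
      rw [card_isConj]
      intro hd
      have h1 := hd.trans (Subgroup.index_dvd_card _)
      have h2 : p ∣ 1 := by rw [← hN]; exact Nat.dvd_gcd h1 dvd_rfl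
      exact hp.out.one_lt.ne' (Nat.dvd_one.mp h2)
    obtain ⟨m, hm⟩ := hP.nonempty_fixed_point_of_prime_not_dvd_card {m : N // IsConj n m} hcard
    obtain ⟨c, hc⟩ := isConj_iff.mp m.2
    refine ⟨c⁻¹, ?_⟩
    rw [inv_inv, hc, Subgroup.mem_subgroupOf, Subgroup.mem_centralizer_iff]
    intro x hx
    have h1 := hm ⟨x, hx⟩
    have h2 : x * (m.1 : G) * x⁻¹ = m.1 := congrArg (fun y : {m : N // IsConj n m} => ((y.1 : N) : G)) h1
    calc x * (m.1 : G) = (x * (m.1 : G) * x⁻¹) * x := by group
      _ = m.1 * x := by rw [h2]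
  intro x hx n hn
  have h1 : (⟨n, hn⟩ : N) ∈ (Subgroup.centralizer (P : Set G)).subgroupOf N := by rw [htop]; trivial
  rw [Subgroup.mem_subgroupOf, Subgroup.mem_centralizer_iff] at h1
  exact h1 x hx

omit [Finite G] in
theorem not_dvd_of_quotient {p : ℕ} (N : Subgroup G) [N.Normal]
    (hdeg : ∀ χ : IrrCharacter G, ¬ p ∣ charDegree (χ : G → ℂ)) (ψ : IrrCharacter (G ⧸ N)) :
    ¬ p ∣ charDegree (ψ : G ⧸ N → ℂ) := by
  obtain ⟨χ, hχ⟩ := DegTools.exists_inflate N ψ
  rw [← hχ]
  exact hdeg χ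

/-- if all degrees are prime to `p` then `P` is normal. -/
theorem normal_of_degrees {p : ℕ} [hp : Fact p.Prime] (hps : IsPSolvable p G)
    (hdeg : ∀ χ : IrrCharacter G, ¬ p ∣ charDegree (χ : G → ℂ)) (P : Sylow p G) :
    (P : Subgroup G).Normal := by
  classical
  induction hn : Nat.card G using Nat.strong_induction_on generalizing G with
  | _ n ih =>
  have := Fintype.ofFinite G
  have hquot : ∀ N : Subgroup G, ∀ _ : N.Normal, N ≠ ⊥ →
      ((P : Subgroup G) ⊔ N).Normal := by
    intro N hNn hN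
    have hcard : Nat.card (G ⧸ N) < n := by
      rw [← hn, ← Subgroup.index_eq_card, ← Subgroup.card_mul_index N]
      have h1 : 1 < Nat.card N := (Subgroup.one_lt_card_iff_ne_bot N).mpr hN
      have h2 : 0 < N.index := Nat.pos_of_ne_zero Subgroup.index_ne_zero_of_finite
      nlinarith
    have h1 := ih _ hcard (G := G ⧸ N) (H32PSolv.isPSolvable_quotient hps N)
      (not_dvd_of_quotient N hdeg) (P.mapSurjective (QuotientGroup.mk'_surjective N)) rfl
    have h2 : ((P.mapSurjective (QuotientGroup.mk'_surjective N) : Sylow p (G ⧸ N)) :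
        Subgroup (G ⧸ N)) = (P : Subgroup G).map (QuotientGroup.mk' N) := rfl
    rw [h2] at h1
    have h3 := h1.comap (QuotientGroup.mk' N)
    rw [Subgroup.comap_map_eq, QuotientGroup.ker_mk'] at h3
    exact h3
  by_cases hb : pPrimeCore p G = ⊥
  · by_cases hG : pCore p G = ⊥
    · have h1 := H32PSolv.centralizer_pCore_le hps hb
      rw [hG] at h1
      have h2 : (⊤ : Subgroup G) ≤ ⊥ := by
        refine le_trans ?_ h1
        intro g _
        rw [Subgroup.mem_centralizer_iff]
        intro x hx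
        rw [Subgroup.mem_bot.mp hx]; simp
      have h3 : (P : Subgroup G) = ⊥ := le_bot_iff.mp (le_top.trans h2)
      rw [h3]; infer_instance
    · have h1 := hquot (pCore p G) inferInstance hG
      rw [sup_eq_left.mpr (Cores.pCore_le_sylow P)] at h1
      exact h1
  · set N := pPrimeCore p G with hN
    have hNn : N.Normal := inferInstance
    have := Fintype.ofFinite N
    have hNc : (Nat.card N).Coprime p := Cores.coprime_card_pPrimeCore p G
    have hM := hquot N inferInstance hb
    set M := (P : Subgroup G) ⊔ N with hMdef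
    have hfix : ∀ θ : IrrCharacter N, ∀ x ∈ (P : Subgroup G), cj N x (θ : N → ℂ) = θ := by
      intro θ x hx
      obtain ⟨χ, hχ⟩ := DegTools.exists_over N θ.2
      have h1 : ¬ p ∣ (inertia N (θ : N → ℂ)).index := by
        intro h2
        apply hdeg χ
        have h3 := CliffordCorr.degree_clifford χ.2 θ.2 hχ
        obtain ⟨e, he⟩ := (χ.2.isCharacter.restrict N).classInner_nat θ.2.isCharacter
        rw [he, ← charDegree_eq χ.2.isCharacter, ← charDegree_eq θ.2.isCharacter] at h3
        have h4 : charDegree (χ : G → ℂ) = e * ((inertia N (θ : N → ℂ)).index * charDegree (θ : N → ℂ)) := by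
          exact_mod_cast h3
        rw [h4]
        exact (h2.mul_right _).mul_left _
      have h2 := OmegaCent.relIndex_dvd_index_normal (inertia N (θ : N → ℂ)) M
      have h3 : ¬ p ∣ (inertia N (θ : N → ℂ)).relIndex M := fun h => h1 (h.trans h2)
      have h4 : (inertia N (θ : N → ℂ)).relIndex M ∣ N.relIndex M := by
        apply Subgroup.relIndex_dvd_of_le_left
        exact le_inertia θ.2.isClassFunction
      have h5 : N.relIndex M ∣ Nat.card P := by
        rw [hMdef, Subgroup.relIndex_sup_right]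
        exact Subgroup.relIndex_dvd_card _ _
      obtain ⟨j, hj⟩ := IsPGroup.iff_card.mp P.isPGroup'
      rw [hj] at h5
      obtain ⟨i, -, hi⟩ := (Nat.dvd_prime_pow hp.out).mp (h4.trans h5)
      have h6 : i = 0 := by
        by_contra h0
        apply h3; rw [hi]; exact dvd_pow_self p h0
      rw [h6, pow_zero] at hi
      have h7 : M ≤ inertia N (θ : N → ℂ) := Subgroup.relIndex_eq_one.mp hi
      exact h7 (Subgroup.mem_sup_left hx)
    have hc := centralizes_of_fix (P : Subgroup G) N P.isPGroup' hNc hfix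
    constructor
    intro x hx g
    have h1 : g * x * g⁻¹ ∈ M := hM.conj_mem x (Subgroup.mem_sup_left hx) g
    obtain ⟨y, hy, m, hm, hym⟩ := Subgroup.mem_sup_of_normal_right.mp h1
    obtain ⟨j, hj⟩ := IsPGroup.iff_card.mp P.isPGroup'
    have h2 : ∀ z ∈ (P : Subgroup G), z ^ p ^ j = 1 := by
      intro z hz
      rw [← hj]
      exact orderOf_dvd_iff_pow_eq_one.mp (Subgroup.orderOf_dvd_natCard _ hz)
    have h3 : (g * x * g⁻¹) ^ p ^ j = 1 := by
      rw [conj_pow, h2 x hx]; simp
    rw [← hym] at h3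
    have hcm : Commute y m := hc y hy m hm
    rw [hcm.mul_pow, h2 y hy, one_mul] at h3
    have h4 : orderOf m = 1 := by
      have h5 : orderOf m ∣ p ^ j := orderOf_dvd_of_pow_eq_one h3
      have h6 : orderOf m ∣ Nat.card N := Subgroup.orderOf_dvd_natCard _ hm
      exact Nat.eq_one_of_dvd_coprimes (hNc.pow_right j) h6 h5
    rw [orderOf_eq_one_iff.mp h4, mul_one] at hym
    rw [← hym]; exact hy

/-- a normal `p`-subgroup of a group with all degrees prime to `p` is abelian -/
theorem comm_of_normal {p : ℕ} [hp : Fact p.Prime]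
    (hdeg : ∀ χ : IrrCharacter G, ¬ p ∣ charDegree (χ : G → ℂ)) (P : Subgroup G) [P.Normal]
    (hP : IsPGroup p P) : ∀ a ∈ P, ∀ b ∈ P, a * b = b * a := by
  classical
  have := Fintype.ofFinite G
  have := Fintype.ofFinite P
  intro a ha b hb
  have h1 : ⁅a, b⁆ ∈ ⁅P, P⁆ := Subgroup.commutator_mem_commutator ha hb
  have h2 : IsConj ⁅a, b⁆ 1 := by
    rw [isConj_iff_forall_irr]
    intro χ
    refine NilChar.const_on_commutator χ.2.isCharacter P ?_ h1
    intro lam hlam
    have h1 : charDegree (lam : P → ℂ) ∣ charDegree (χ : G → ℂ) :=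
      DegTools.charDegree_dvd_of_constituent P χ.2 lam.2 hlam
    have h2 : charDegree (lam : P → ℂ) ∣ Nat.card P := charDegree_dvd lam.2
    obtain ⟨j, hj⟩ := IsPGroup.iff_card.mp hP
    rw [hj] at h2
    obtain ⟨i, -, hi⟩ := (Nat.dvd_prime_pow hp.out).mp h2
    have h3 : i = 0 := by
      by_contra h0
      apply hdeg χ
      rw [hi] at h1
      exact (dvd_pow_self p h0).trans h1
    rw [← charDegree_eq lam.2.isCharacter, hi, h3]; simp
  exact commutatorElement_eq_one_iff_mul_comm.mp (isConj_one_left.mp h2)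

/-- **Itô**: a `p`-solvable group with all irreducible degrees prime to `p` has a normal abelian
Sylow `p`-subgroup. -/
theorem ito_psolvable {p : ℕ} [hp : Fact p.Prime] (hps : IsPSolvable p G)
    (hdeg : ∀ χ : IrrCharacter G, ¬ p ∣ charDegree (χ : G → ℂ)) (P : Sylow p G) :
    (P : Subgroup G).Normal ∧ ∀ a ∈ (P : Subgroup G), ∀ b ∈ (P : Subgroup G), a * b = b * a := by
  have h1 := normal_of_degrees hps hdeg P
  exact ⟨h1, comm_of_normal hdeg (P : Subgroup G) P.isPGroup'⟩

/-- a linear character of a normal `p`-subgroup, invariant, and lying under a character of degree prime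
to `p`, extends to a linear character. -/
theorem exists_linear_extension {p : ℕ} [hp : Fact p.Prime] (N : Subgroup G) [hNn : N.Normal]
    (hN : IsPGroup p N) {lam : N → ℂ} (hlam : IsIrrCharacter N lam) (hlam1 : lam 1 = 1)
    (hinv : ∀ g : G, cj N g lam = lam) {χ : IrrCharacter G} [Fintype N]
    (hχ : classInner (fun n : N => (χ : G → ℂ) n) lam ≠ 0)
    (hpd : ¬ p ∣ charDegree (χ : G → ℂ)) :
    ∃ μ : G →* ℂˣ, ∀ n : N, (μ n : ℂ) = lam n := by
  classical
  have := Fintype.ofFinite G
  have hres := res_eq_smul_of_invariant χ.2 hlam hinv hχ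
  set e := classInner (fun n : N => (χ : G → ℂ) n) lam with he
  have he1 : e = (χ : G → ℂ) 1 := by
    have := congrFun hres 1
    rw [Pi.smul_apply, hlam1, smul_eq_mul, mul_one] at this
    exact this.symm
  obtain ⟨χ, d, ρ, hρ, rfl⟩ := χ
  simp only at he1 hpd hres
  have hd : ρ.character 1 = (d : ℂ) := by simp
  have hdeg : charDegree ρ.character = d := by
    have h1 := charDegree_eq (isCharacter_of_rep ρ)
    rw [hd] at h1
    exact_mod_cast h1
  rw [hdeg] at hpd
  rw [he1, hd] at hres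
  have hlamn : ∀ n : N, ‖lam n‖ = 1 := hlam.isCharacter.norm_of_linear hlam1
  have hd0 : d ≠ 0 := by rintro rfl; exact hpd (dvd_zero p)
  have hdc : (d : ℂ) ≠ 0 := by exact_mod_cast hd0
  -- scalar action of `N`
  have hscal : ∀ n : N, ρ (n : G) = lam n • LinearMap.id := by
    intro n
    have h1 : ρ.character (n : G) = (d : ℂ) * lam n := congrFun hres n
    have h2 : ‖ρ.character (n : G)‖ = (Module.finrank ℂ (Fin d → ℂ) : ℝ) := by
      rw [h1, norm_mul, hlamn, mul_one, Module.finrank_fintype_fun_eq_card, Fintype.card_fin]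
      simp
    obtain ⟨ω, hω⟩ := (CharValues.norm_character_eq_iff ρ (n : G)).mp h2
    have h3 : ρ.character (n : G) = ω * d := by
      change LinearMap.trace ℂ _ (ρ (n : G)) = _
      rw [hω, map_smul, LinearMap.trace_id]
      simp
    rw [h1, mul_comm] at h3
    rw [hω, mul_right_cancel₀ hdc h3]
  let δ : G →* ℂˣ :=
    MonoidHom.toHomUnits ((LinearMap.det : ((Fin d → ℂ) →ₗ[ℂ] (Fin d → ℂ)) →* ℂ).comp ρ)
  have hδ : ∀ n : N, ((δ (n : G) : ℂˣ) : ℂ) = lam n ^ d := by
    intro n
    change LinearMap.det (ρ (n : G)) = _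
    rw [hscal n, LinearMap.det_smul]
    simp
  -- inverse of `d` modulo `|N|`
  obtain ⟨j, hj⟩ := IsPGroup.iff_card.mp hN
  have hcop : Nat.Coprime d (Nat.card N) := by
    rw [hj]
    exact Nat.Coprime.pow_right _ ((hp.out.coprime_iff_not_dvd).mpr hpd).symm
  obtain ⟨m, hm0, hm1⟩ := Nat.chineseRemainder hcop 0 1
  obtain ⟨m', rfl⟩ := (Nat.modEq_zero_iff_dvd).mp hm0
  refine ⟨δ ^ m', fun n => ?_⟩
  rw [MonoidHom.pow_apply, Units.val_pow_eq_pow_val, hδ, ← pow_mul]
  obtain ⟨f, hf⟩ := hlam.isCharacter.exists_hom hlam1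
  have h4 : n ^ (d * m') = n := by
    have : n ^ (d * m') = n ^ 1 := by
      rw [pow_eq_pow_iff_modEq]
      exact hm1.of_dvd (orderOf_dvd_natCard n)
    rw [this, pow_one]
  rw [hf n]
  conv_rhs => rw [← h4]
  rw [map_pow, Units.val_pow_eq_pow_val]

/-- If all irreducible characters over an invariant linear character of the normal `p`-subgroup `N`
have degree prime to `p`, then `G/N` has abelian Sylow `p`-subgroups. -/
theorem commutator_mem_of_over {p : ℕ} [hp : Fact p.Prime] (hps : IsPSolvable p G)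
    (N : Subgroup G) [hNn : N.Normal]
    (hN : IsPGroup p N) {lam : N → ℂ} (hlam : IsIrrCharacter N lam) (hlam1 : lam 1 = 1)
    (hinv : ∀ g : G, cj N g lam = lam) [Fintype N]
    (hover : ∀ χ : IrrCharacter G, classInner (fun n : N => (χ : G → ℂ) n) lam ≠ 0 →
      ¬ p ∣ charDegree (χ : G → ℂ)) (P : Sylow p G) :
    ∀ a ∈ (P : Subgroup G), ∀ b ∈ (P : Subgroup G), ⁅a, b⁆ ∈ N := by
  classical
  have := Fintype.ofFinite G
  obtain ⟨χ, hχ⟩ := DegTools.exists_over N hlam
  obtain ⟨μ, hμ⟩ := exists_linear_extension N hN hlam hlam1 hinv hχ (hover χ hχ)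
  have hdeg : ∀ β : IrrCharacter (G ⧸ N), ¬ p ∣ charDegree (β : G ⧸ N → ℂ) := by
    intro β
    have h1 : IsIrrCharacter G (fun g : G => (β : G ⧸ N → ℂ) (g : G ⧸ N)) := β.2.inflate N
    have h2 := h1.mul_linear (isCharacter_of_unitsHom μ) (by simp)
    have h3 : (fun n : N => ((fun g : G => (β : G ⧸ N → ℂ) (g : G ⧸ N)) * fun g => (μ g : ℂ)) n) =
        ((β : G ⧸ N → ℂ) 1) • lam := by
      funext n
      rw [Pi.mul_apply, Pi.smul_apply, hμ n, (QuotientGroup.eq_one_iff (n : G)).mpr n.2, smul_eq_mul]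
    have h4 := hover ⟨_, h2⟩ (by
      change classInner (fun n : N => ((fun g : G => (β : G ⧸ N → ℂ) (g : G ⧸ N)) *
        fun g => (μ g : ℂ)) n) lam ≠ 0
      rw [h3, classInner_smul_left, hlam.classInner_self, mul_one]
      exact β.2.one_ne_zero)
    intro h5
    apply h4
    have h6 : ((charDegree ((fun g : G => (β : G ⧸ N → ℂ) (g : G ⧸ N)) * fun g => (μ g : ℂ)) : ℕ) : ℂ) =
        ((charDegree (β : G ⧸ N → ℂ) : ℕ) : ℂ) := by
      rw [charDegree_eq h2.isCharacter, charDegree_eq β.2.isCharacter]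
      simp
    have h7 : charDegree ((fun g : G => (β : G ⧸ N → ℂ) (g : G ⧸ N)) * fun g => (μ g : ℂ)) =
        charDegree (β : G ⧸ N → ℂ) := by exact_mod_cast h6
    change p ∣ charDegree ((fun g : G => (β : G ⧸ N → ℂ) (g : G ⧸ N)) * fun g => (μ g : ℂ))
    rw [h7]; exact h5
  have h1 := (ito_psolvable (H32PSolv.isPSolvable_quotient hps N) hdeg
    (P.mapSurjective (QuotientGroup.mk'_surjective N))).2
  intro a ha b hb
  have h2 := h1 (QuotientGroup.mk' N a) ⟨a, ha, rfl⟩ (QuotientGroup.mk' N b) ⟨b, hb, rfl⟩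
  rw [← QuotientGroup.eq_one_iff]
  change QuotientGroup.mk' N ⁅a, b⁆ = 1
  rw [map_commutatorElement]
  exact commutatorElement_eq_one_iff_mul_comm.mpr h2

end Cfsg.Agent.Lib.ItoPSolv
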