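import Cfsg.Agent.Lib.ItoThreeB48
import Cfsg.Agent.Lib.H9ItoC
import Cfsg.Agent.S0144

/-!
# Three class sizes: reduction to the nested case (helper48)
-/

set_option autoImplicit false
set_option linter.unusedSectionVars false

namespace Cfsg.Agent.Lib.ItoRed48

open Subgroup Cfsg.Agent.Lib.CSP Cfsg.Agent.Lib.CFSylow Cfsg.Agent.Lib.H9Ito

theorem two_primes {p q : ℕ} (n : ℕ) (hn : n ≠ 0) (h : ∀ l, l.Prime → l ∣ n → l = p ∨ l = q) :
    ∃ a b : ℕ, n = p ^ a * q ^ b := by
  induction n using Nat.strong_induction_on with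
  | _ n IH =>
    by_cases h1 : n = 1
    · exact ⟨0, 0, by simp [h1]⟩
    · have hl := Nat.minFac_prime h1
      obtain ⟨m, hm⟩ := Nat.minFac_dvd n
      have hm0 : m ≠ 0 := by rintro rfl; simp at hm; exact hn hm
      have hlt : m < n := by
        have h2 := hl.one_lt
        have h3 : 0 < m := Nat.pos_of_ne_zero hm0
        calc m = 1 * m := (one_mul m).symm
          _ < n.minFac * m := Nat.mul_lt_mul_of_pos_right h2 h3
          _ = n := hm.symm
      obtain ⟨a, b, hab⟩ := IH m hlt hm0 (fun l hl hlm => h l hl (by rw [hm]; exact Dvd.dvd.mul_left hlm _))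
      rcases h _ hl (Nat.minFac_dvd n) with h2 | h2
      · refine ⟨a + 1, b, ?_⟩
        rw [hm, h2, hab]; ring
      · refine ⟨a, b + 1, ?_⟩
        rw [hm, h2, hab]; ring

variable {G : Type*} [Group G] [Finite G]

/-- reduction to the nested case -/
theorem ctx_of_not_solvable (n₁ n₂ : ℕ) (h12 : n₂ < n₁)
    (h : ∀ x : G, (centralizer ({x} : Set G)).index = 1 ∨ (centralizer ({x} : Set G)).index = n₂ ∨
      (centralizer ({x} : Set G)).index = n₁) (hs : ¬ Group.IsSolvable G) : ∃ c1 c2, Ctx G c1 c2 := by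
  have hnest : ∃ x y : G, x ∉ center G ∧ y ∉ center G ∧ C x < C y := by
    by_contra hcon
    push Not at hcon
    apply hs
    apply Cfsg.Agent.Lib.ItoThreeB48.solvable_of_F n₁ n₂ h
    intro x y hx hy hxy
    by_contra hne
    exact hcon x y hx hy (lt_of_le_of_ne hxy hne)
  have hnc : ∀ g : G, g ∉ center G → (C g).index ≠ 1 := by
    intro g hg hcon
    rw [Subgroup.index_eq_one] at hcon
    exact hg (mem_center_of_C_top hcon)
  obtain ⟨x, y, hx, hy, hxy⟩ := hnest
  have hlt := card_lt_of_lt hxy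
  have hix : (C x).index = n₁ ∧ (C y).index = n₂ := by
    have e1 := (C x).card_mul_index
    have e2 := (C y).card_mul_index
    have h3 : (C y).index < (C x).index := by
      by_contra hcon
      push Not at hcon
      have h4 : Nat.card (C x) * (C x).index < Nat.card (C y) * (C y).index :=
        Nat.mul_lt_mul_of_lt_of_le hlt hcon (Nat.pos_of_ne_zero Subgroup.index_ne_zero_of_finite)
      omega
    have h5 : (C x).index = n₂ ∨ (C x).index = n₁ := (h x).resolve_left (hnc x hx)
    have h6 : (C y).index = n₂ ∨ (C y).index = n₁ := (h y).resolve_left (hnc y hy)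
    rcases h5 with h5 | h5 <;> rcases h6 with h6 | h6 <;> omega
  refine ⟨Nat.card (C x), Nat.card (C y), hlt, ?_, ?_, x, y, hx, hy, hxy⟩
  · intro g hg
    rcases (h g).resolve_left (hnc g hg) with h1 | h1
    · right
      exact Cfsg.Agent.Lib.ItoThreeB48.card_eq_of_index (h1.trans hix.2.symm)
    · left
      exact Cfsg.Agent.Lib.ItoThreeB48.card_eq_of_index (h1.trans hix.1.symm)
  · intro s q
    by_contra hcon
    push Not at hcon
    apply hs
    rw [Group.isSolvable_iff_subgroup_quotient (center G)]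
    refine ⟨Group.isSolvable_of_comm fun a b => Subtype.ext (Subgroup.mem_center_iff.1 b.2 a), ?_⟩
    have hq : ∀ s : ℕ, ∃ p : ℕ, p.Prime ∧ ∀ l : ℕ, l.Prime → l = s → l = p := by
      intro s
      by_cases hsp : s.Prime
      · exact ⟨s, hsp, fun l _ h => h⟩
      · exact ⟨2, Nat.prime_two, fun l hl h => absurd (h ▸ hl) hsp⟩
    obtain ⟨p, hp, hp'⟩ := hq s
    obtain ⟨p', hp2, hp2'⟩ := hq q
    obtain ⟨a, b, hab⟩ := two_primes (p := p) (q := p') (center G).index Subgroup.index_ne_zero_of_finite (by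
      intro l hl hlZ
      by_cases h1 : l = s
      · exact Or.inl (hp' l hl h1)
      · exact Or.inr (hp2' l hl (hcon l hl hlZ h1)))
    exact Cfsg.Agent.S0144.result (G := G ⧸ center G) p p' a b hp hp2 hab

end Cfsg.Agent.Lib.ItoRed48
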