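import Cfsg.Agent.S4248
import Cfsg.Agent.S4249
import Cfsg.Agent.S4134
import Cfsg.Agent.S0035
import Cfsg.Agent.S0042
import Cfsg.Agent.Lib.SuzukiLie
import Cfsg.Agent.Lib.SuzukiTori
import Cfsg.Agent.Lib.PSL2ClassSize
import Cfsg.Agent.Lib.DkSub
import Cfsg.Agent.Lib.SwapOrbits
import Cfsg.Agent.Lib.FrobGroup

/-!
# Groups with at most two non-trivial class sizes and no nested centralizers are solvable (helper48)
-/

set_option autoImplicit false
set_option linter.unusedSectionVars false

namespace Cfsg.Agent.Lib.ItoThreeB48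

open Subgroup

section Abs

variable {G : Type*} [Group G] [Finite G] {Q : Type*} [Group Q] [Finite Q]

/-- class sizes through the quotient -/
theorem index_map (φ : G →* Q) (hφ : Function.Surjective φ) (hk : φ.ker ≤ center G) (g : G) :
    ((centralizer {g}).map φ).index = (centralizer {g}).index :=
  Subgroup.index_map_eq _ hφ (hk.trans (Subgroup.center_le_centralizer _))

theorem card_eq_of_index {H K : Subgroup Q} (h : H.index = K.index) : Nat.card H = Nat.card K := by
  have h1 := H.card_mul_index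
  have h2 := K.card_mul_index
  rw [h] at h1
  exact Nat.eq_of_mul_eq_mul_right (Nat.pos_of_ne_zero K.index_ne_zero_of_finite) (h1.trans h2.symm)

theorem map_le (φ : G →* Q) (g : G) : (centralizer {g}).map φ ≤ centralizer {φ g} := by
  rintro _ ⟨x, hx, rfl⟩
  rw [SetLike.mem_coe, Subgroup.mem_centralizer_singleton_iff] at hx
  rw [Subgroup.mem_centralizer_singleton_iff, ← map_mul, hx, map_mul]

theorem mem_map (φ : G →* Q) (g : G) : φ g ∈ (centralizer {g}).map φ :=
  ⟨g, by rw [SetLike.mem_coe, Subgroup.mem_centralizer_singleton_iff], rfl⟩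

/-- orders of two centralizer images are different -/
theorem core_pair {N : Type*} [Group N] [Finite N] (j : N →* Q) (hj : Function.Injective j)
    (hi : j.range.index ∣ 2) (D1 D2 : Subgroup Q) (x1 x2 : N) (h1 : x1 ≠ 1) (h2 : x2 ≠ 1)
    (m1 : j x1 ∈ D1) (m2 : j x2 ∈ D2) (c1 : D1 ≤ centralizer {j x1}) (c2 : D2 ≤ centralizer {j x2})
    (hc : Nat.Coprime (Nat.card (centralizer {x1})) (Nat.card (centralizer {x2}))) :
    Nat.card D1 ≠ Nat.card D2 := by
  have hnorm : j.range.Normal := by
    rcases (Nat.dvd_prime Nat.prime_two).1 hi with h | h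
    · rw [Subgroup.index_eq_one] at h
      rw [h]; infer_instance
    · exact Subgroup.normal_of_index_eq_two h
  have key : ∀ (D : Subgroup Q) (x : N), x ≠ 1 → j x ∈ D → D ≤ centralizer {j x} →
      ∃ k e : ℕ, Nat.card D = k * e ∧ k ∣ Nat.card (centralizer {x}) ∧ 1 < k ∧ (e = 1 ∨ e = 2) := by
    intro D x hx hm hc
    refine ⟨Nat.card (D.comap j), j.range.relIndex D, ?_, ?_, ?_, ?_⟩
    · have h3 := Subgroup.card_mul_index (j.range.subgroupOf D)
      rw [← h3]
      congr 1
      have h4 : Nat.card (j.range.subgroupOf D) = Nat.card (j.range ⊓ D : Subgroup Q) := by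
        rw [← Subgroup.inf_subgroupOf_right]
        exact Nat.card_congr (Subgroup.subgroupOfEquivOfLe inf_le_right).toEquiv
      rw [h4, ← Subgroup.map_comap_eq]
      exact (Nat.card_congr (Subgroup.equivMapOfInjective _ _ hj).toEquiv).symm
    · apply Subgroup.card_dvd_of_le
      intro y hy
      have h5 := hc hy
      rw [Subgroup.mem_centralizer_singleton_iff] at h5 ⊢
      apply hj
      rw [map_mul, map_mul, h5]
    · rw [Finite.one_lt_card_iff_nontrivial]
      refine ⟨⟨⟨x, hm⟩, 1, fun h => hx (congrArg Subtype.val h)⟩⟩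
    · exact (Nat.dvd_prime Nat.prime_two).1 ((Subgroup.relIndex_dvd_index_of_normal _ _).trans hi)
  obtain ⟨k1, e1, a1, b1, l1, f1⟩ := key D1 x1 h1 m1 c1
  obtain ⟨k2, e2, a2, b2, l2, f2⟩ := key D2 x2 h2 m2 c2
  have hk : Nat.Coprime k1 k2 := Nat.Coprime.coprime_dvd_left b1 (Nat.Coprime.coprime_dvd_right b2 hc)
  intro hcon
  rw [a1, a2] at hcon
  rcases f1 with rfl | rfl <;> rcases f2 with rfl | rfl
  · have : k1 = k2 := by omega
    subst this
    rw [Nat.coprime_self] at hk; omega
  · have : k1 = k2 * 2 := by omega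
    subst this
    have := Nat.Coprime.coprime_mul_right hk
    rw [Nat.coprime_self] at this; omega
  · have : k2 = k1 * 2 := by omega
    subst this
    have := Nat.Coprime.coprime_mul_right_right hk
    rw [Nat.coprime_self] at this; omega
  · have : k1 = k2 := by omega
    subst this
    rw [Nat.coprime_self] at hk; omega

/-- three elements with pairwise coprime centralizer orders -/
def Three (N : Type*) [Group N] : Prop := ∃ x1 x2 x3 : N, x1 ≠ 1 ∧ x2 ≠ 1 ∧ x3 ≠ 1 ∧
  Nat.Coprime (Nat.card (centralizer {x1})) (Nat.card (centralizer {x2})) ∧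
  Nat.Coprime (Nat.card (centralizer {x1})) (Nat.card (centralizer {x3})) ∧
  Nat.Coprime (Nat.card (centralizer {x2})) (Nat.card (centralizer {x3}))

theorem no_three (n₁ n₂ : ℕ)
    (h : ∀ x : G, (centralizer ({x} : Set G)).index = 1 ∨ (centralizer ({x} : Set G)).index = n₂ ∨
      (centralizer ({x} : Set G)).index = n₁)
    (φ : G →* Q) (hφ : Function.Surjective φ) (hk : φ.ker = center G)
    {N : Type*} [Group N] [Finite N] (j : N →* Q) (hj : Function.Injective j)
    (hi : j.range.index ∣ 2) (h3 : Three N) : False := by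
  obtain ⟨x1, x2, x3, a1, a2, a3, c12, c13, c23⟩ := h3
  obtain ⟨g1, hg1⟩ := hφ (j x1)
  obtain ⟨g2, hg2⟩ := hφ (j x2)
  obtain ⟨g3, hg3⟩ := hφ (j x3)
  have hnc : ∀ (g : G) (x : N), x ≠ 1 → φ g = j x → (centralizer ({g} : Set G)).index ≠ 1 := by
    intro g x hx hg hcon
    rw [Subgroup.index_eq_one, Subgroup.centralizer_eq_top_iff_subset] at hcon
    have : g ∈ φ.ker := by rw [hk]; exact hcon rfl
    rw [MonoidHom.mem_ker, hg] at this
    exact hx (hj (by rw [this, map_one]))
  have hne : ∀ (g g' : G) (x x' : N), x ≠ 1 → x' ≠ 1 → φ g = j x → φ g' = j x' →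
      Nat.Coprime (Nat.card (centralizer {x})) (Nat.card (centralizer {x'})) →
      (centralizer ({g} : Set G)).index ≠ (centralizer ({g'} : Set G)).index := by
    intro g g' x x' hx hx' hg hg' hc hcon
    rw [← index_map φ hφ hk.le g, ← index_map φ hφ hk.le g'] at hcon
    refine core_pair j hj hi _ _ x x' hx hx' ?_ ?_ ?_ ?_ hc (card_eq_of_index hcon)
    · rw [← hg]; exact mem_map φ g
    · rw [← hg']; exact mem_map φ g'
    · rw [← hg]; exact map_le φ g
    · rw [← hg']; exact map_le φ g'
  have n1 := hnc g1 x1 a1 hg1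
  have n2 := hnc g2 x2 a2 hg2
  have n3 := hnc g3 x3 a3 hg3
  have m12 := hne g1 g2 x1 x2 a1 a2 hg1 hg2 c12
  have m13 := hne g1 g3 x1 x3 a1 a3 hg1 hg3 c13
  have m23 := hne g2 g3 x2 x3 a2 a3 hg2 hg3 c23
  rcases h g1 with h1 | h1 | h1 <;> rcases h g2 with h2 | h2 | h2 <;> rcases h g3 with h3 | h3 | h3 <;>
    omega

end Abs

section PSL

open Matrix Cfsg.Agent.Lib.SL2Basic Cfsg.Agent.Lib.SL2Tori Cfsg.Agent.Lib.PSL2ClassSize

variable {F : Type*} [Field F] [Fintype F]

theorem ne_one_of_index {g : Matrix.ProjectiveSpecialLinearGroup (Fin 2) F} {n : ℕ} (h : (centralizer {g}).index = n)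
    (hn : n ≠ 1) : g ≠ 1 := by
  rintro rfl
  apply hn
  rw [← h, Subgroup.index_eq_one, Subgroup.centralizer_eq_top_iff_subset]
  intro x hx
  rw [Set.mem_singleton_iff.1 hx]
  exact one_mem _

theorem card_of_index {c i A : ℕ} {g : Matrix.ProjectiveSpecialLinearGroup (Fin 2) F}
    (h : (centralizer {g}).index = i) (hA : Nat.card (Matrix.ProjectiveSpecialLinearGroup (Fin 2) F) = A)
    (h0 : 0 < i) (hc : c * i = A) : Nat.card (centralizer {g}) = c := by
  have h1 := (centralizer {g}).card_mul_index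
  rw [h, hA, ← hc] at h1
  exact Nat.eq_of_mul_eq_mul_right h0 h1

theorem two_ne_zero_of_odd (hodd : Odd (Fintype.card F)) : (2 : F) ≠ 0 := by
  intro h
  obtain ⟨p, hp⟩ := CharP.exists F
  have : Fact p.Prime := ⟨CharP.char_is_prime F p⟩
  have h1 : ((2 : ℕ) : F) = 0 := by exact_mod_cast h
  have h2 := (CharP.cast_eq_zero_iff F p 2).1 h1
  have h6 := (Nat.prime_dvd_prime_iff_eq (Fact.out : p.Prime) Nat.prime_two).1 h2
  subst h6
  obtain ⟨n, _, hn⟩ := FiniteField.card F 2
  rw [hn] at hodd
  have := n.ne_zero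
  rw [← Nat.not_even_iff_odd] at hodd
  exact hodd ((Nat.even_pow.2 ⟨even_two, this⟩))

theorem two_eq_zero_of_even (heven : Even (Fintype.card F)) : (2 : F) = 0 := by
  obtain ⟨p, hp⟩ := CharP.exists F
  have : Fact p.Prime := ⟨CharP.char_is_prime F p⟩
  obtain ⟨n, hpp, hn⟩ := FiniteField.card F p
  have h2 : p = 2 := by
    rw [hn] at heven
    have h3 := (Nat.even_pow.1 heven).1
    exact (Nat.Prime.even_iff hpp).1 h3
  subst h2
  have : ((2 : ℕ) : F) = 0 := CharP.cast_eq_zero F 2
  exact_mod_cast this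

theorem psl2_three (h4 : 4 ≤ Fintype.card F) : Three (Matrix.ProjectiveSpecialLinearGroup (Fin 2) F) := by
  have hcard := Cfsg.Agent.Lib.MobCount.card_P2 (F := F) rfl
  obtain ⟨A, hA, hAt⟩ := exists_tr (2 : F)
  have hAt4 : tr A ^ 2 = 4 := by rw [hAt]; ring
  obtain ⟨t, h0, hr⟩ := exists_no_root (F := F) h4
  obtain ⟨C, hC, hCt⟩ := exists_tr t
  rcases Nat.even_or_odd (Fintype.card F) with heven | hodd
  · have h20 := two_eq_zero_of_even heven
    obtain ⟨k, hk⟩ := heven
    have hg : Nat.gcd 2 (Fintype.card F - 1) = 1 := by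
      have : Nat.Coprime 2 (Fintype.card F - 1) := by
        rw [Nat.coprime_two_left]
        exact ⟨k - 1, by omega⟩
      exact this
    rw [hg, one_mul] at hcard
    obtain ⟨s, c, h1, hc, -⟩ := exists_root (F := F) (Or.inr ⟨h20, h4⟩)
    obtain ⟨B, hB, hBt⟩ := exists_tr s
    have iA := index_unip_two h20 hA hAt4
    have iB := index_root_ne (A := B) (Or.inl h20) (by rw [hBt]; exact h1) (c := c) (by rw [hBt]; exact hc)
    have iC := index_no_root_ne (A := C) (Or.inl h20) (by rw [hCt]; exact hr)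
    have hpos : 0 < Fintype.card F ^ 2 - 1 := by
      have : 4 ^ 2 ≤ Fintype.card F ^ 2 := Nat.pow_le_pow_left h4 2
      omega
    have hpos2 : 0 < Fintype.card F * (Fintype.card F + 1) := by positivity
    have hpos3 : 0 < Fintype.card F * (Fintype.card F - 1) := Nat.mul_pos (by omega) (by omega)
    have cA := card_of_index (c := Fintype.card F) iA hcard hpos rfl
    have cB := card_of_index (c := Fintype.card F - 1) iB hcard hpos2 (arith _).symm
    have cC := card_of_index (c := Fintype.card F + 1) iC hcard hpos3 (arith' _).symm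
    refine ⟨_, _, _, ne_one_of_index iA ?_, ne_one_of_index iB ?_, ne_one_of_index iC ?_, ?_, ?_, ?_⟩
    · have : 4 ^ 2 ≤ Fintype.card F ^ 2 := Nat.pow_le_pow_left h4 2
      omega
    · have : 4 * 5 ≤ Fintype.card F * (Fintype.card F + 1) := Nat.mul_le_mul h4 (by omega)
      omega
    · have : 4 * 3 ≤ Fintype.card F * (Fintype.card F - 1) := Nat.mul_le_mul h4 (by omega)
      omega
    · rw [cA, cB]
      have := Nat.coprime_self_sub_right (n := Fintype.card F) (m := 1) (by omega)
      rw [this]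
      exact Nat.coprime_one_right _
    · rw [cA, cC]
      simp
    · rw [cB, cC]
      have h5 : Fintype.card F + 1 = (Fintype.card F - 1) + 2 := by omega
      rw [h5, Nat.coprime_self_add_right, Nat.coprime_two_right]
      exact ⟨k - 1, by omega⟩
  · have h20 := two_ne_zero_of_odd hodd
    rw [Cfsg.Agent.Lib.DkSub.gcd_odd hodd] at hcard
    obtain ⟨k, hk⟩ := hodd
    have hk2 : 2 ≤ k := by omega
    have hsq : Fintype.card F ^ 2 - 1 = 2 * (2 * (k * (k + 1))) := by
      have : Fintype.card F ^ 2 = 2 * (2 * (k * (k + 1))) + 1 := by rw [hk]; ring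
      omega
    have hcard' : Nat.card (Matrix.ProjectiveSpecialLinearGroup (Fin 2) F) = (2 * k + 1) * (2 * (k * (k + 1))) := by
      have : 2 * Nat.card (Matrix.ProjectiveSpecialLinearGroup (Fin 2) F) = 2 * ((2 * k + 1) * (2 * (k * (k + 1)))) := by
        rw [hcard, hsq, hk]; ring
      omega
    have iA := index_unip_odd h20 hA hAt4
    have hi1 : (Fintype.card F ^ 2 - 1) / 2 = 2 * (k * (k + 1)) := by rw [hsq]; omega
    rw [hi1] at iA
    have iC := index_no_root_ne (A := C) (Or.inr (by rw [hCt]; exact h0)) (by rw [hCt]; exact hr)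
    have hi3 : Fintype.card F * (Fintype.card F - 1) = (2 * k + 1) * (2 * k) := by
      rw [hk]; congr 1
    rw [hi3] at iC
    have cA := card_of_index (c := 2 * k + 1) iA hcard' (by positivity) rfl
    have cC := card_of_index (c := k + 1) iC hcard' (by positivity) (by ring)
    have nA := ne_one_of_index iA (by
      have : 2 * 3 ≤ k * (k + 1) := Nat.mul_le_mul hk2 (by omega)
      omega)
    have nC := ne_one_of_index iC (by
      have : 5 * 4 ≤ (2 * k + 1) * (2 * k) := Nat.mul_le_mul (by omega) (by omega)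
      omega)
    have co1 : Nat.Coprime (2 * k + 1) (k + 1) := by
      have : 2 * k + 1 = k + (k + 1) := by ring
      rw [this, Nat.coprime_add_self_left]
      simp
    rcases Nat.lt_or_ge k 3 with hk3 | hk3
    · -- q = 5
      have hk2' : k = 2 := by omega
      subst hk2'
      have hcF : Fintype.card F = 5 := by omega
      have hsq1 : IsSquare (-1 : F) := FiniteField.isSquare_neg_one_iff.2 (by omega)
      obtain ⟨i, hi⟩ := hsq1
      obtain ⟨B, hB, hBt⟩ := exists_tr (0 : F)
      have iB := index_root_zero h20 hBt (c := i) (by rw [hBt]; linear_combination -hi)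
      rw [hcF] at iB
      have cB := card_of_index (c := 4) iB hcard' (by norm_num) (by norm_num)
      have nB := ne_one_of_index iB (by norm_num)
      refine ⟨_, _, _, nA, nB, nC, ?_, ?_, ?_⟩
      · rw [cA, cB]; norm_num
      · rw [cA, cC]; norm_num
      · rw [cB, cC]; norm_num
    · obtain ⟨s, c, h1, hc, h0'⟩ := exists_root (F := F) (Or.inl (by omega))
      obtain ⟨B, hB, hBt⟩ := exists_tr s
      have iB := index_root_ne (A := B) (Or.inr (by rw [hBt]; exact h0')) (by rw [hBt]; exact h1) (c := c)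
        (by rw [hBt]; exact hc)
      have hi2 : Fintype.card F * (Fintype.card F + 1) = (2 * k + 1) * (2 * (k + 1)) := by
        rw [hk]; congr 1
      rw [hi2] at iB
      have cB := card_of_index (c := k) iB hcard' (by positivity) (by ring)
      have nB := ne_one_of_index iB (by
        have : 5 * 4 ≤ (2 * k + 1) * (2 * (k + 1)) := Nat.mul_le_mul (by omega) (by omega)
        omega)
      refine ⟨_, _, _, nA, nB, nC, ?_, ?_, ?_⟩
      · rw [cA, cB]
        have : 2 * k + 1 = 1 + 2 * k := by ring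
        rw [this]
        simp
      · rw [cA, cC]; exact co1
      · rw [cB, cC]; simp

end PSL

section Sz

open Cfsg.Agent.Lib.SuzukiOvoid Cfsg.Agent.Lib.SuzukiGroup Cfsg.Agent.Lib.SuzukiFin
  Cfsg.Agent.Lib.SuzukiStab Cfsg.Agent.Lib.SuzukiSyl Cfsg.Agent.Lib.SuzukiPts
  Cfsg.Agent.Lib.SuzukiTor Cfsg.Agent.Lib.SuzukiNoFix Cfsg.Agent.Lib.SuzukiCount

theorem sz_three {F : Type*} [Field F] [Fintype F] {m : ℕ} (hm : 1 ≤ m)
    (hF : Fintype.card F = 2 ^ (2 * m + 1)) : Three (Cfsg.Sz F m) := by
  have : CharP F 2 := Cfsg.Agent.Lib.SuzukiFin.charTwo hF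
  have hθ := Cfsg.Agent.Lib.SuzukiFin.th_sq hF
  have hne := Cfsg.Agent.Lib.SuzukiFin.th_ne hm hF
  have hSz := Cfsg.Agent.Lib.SuzukiFin.Sz_eq (F := F) m
  rw [hSz]
  have hq : Nat.card F = 2 ^ (2 * m + 1) := by rw [Nat.card_eq_fintype_card, hF]
  obtain ⟨x, y, hx, hy, -, -, h1, h2, h3, h4⟩ :=
    Cfsg.Agent.Lib.SuzukiTori.two_classes _ hθ hne hm hq
  have hU : Nat.card (USub (th F m) hθ) = 2 ^ ((2 * m + 1) * 2) := by rw [card_U, hq, pow_mul]
  have hUnt : Nontrivial (USub (th F m) hθ) := by
    rw [← Finite.one_lt_card_iff_nontrivial, hU]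
    exact Nat.one_lt_two_pow (by omega)
  obtain ⟨⟨z, hz⟩, hz1⟩ := exists_ne (1 : USub (th F m) hθ)
  have hz1' : z ≠ 1 := fun h => hz1 (Subtype.ext h)
  have hzU : z ∈ Up (th F m) hθ hne (inf (th F m)) := by rw [Up_inf]; exact hz
  have h5 := centralizer_Up _ hθ hne hzU hz1'
  rw [Up_inf] at h5
  have h6 : Nat.card (centralizer {z}) ∣ 2 ^ ((2 * m + 1) * 2) := by
    rw [← hU]; exact Subgroup.card_dvd_of_le h5
  have hlt : 2 ^ (m + 1) < 2 ^ (2 * m + 1) := Nat.pow_lt_pow_right (by norm_num) (by omega)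
  have ho1 : Odd (Nat.card (centralizer {x})) := by
    rw [h3]
    have e1 : Even (2 ^ (2 * m + 1)) := Nat.even_pow.2 ⟨even_two, by omega⟩
    have e2 : Even (2 ^ (m + 1)) := Nat.even_pow.2 ⟨even_two, by omega⟩
    exact (e1.add e2).add_one
  have ho2 : Odd (Nat.card (centralizer {y})) := by
    have e1 : Even (2 ^ (2 * m + 1)) := Nat.even_pow.2 ⟨even_two, by omega⟩
    have e2 : Even (2 ^ (m + 1)) := Nat.even_pow.2 ⟨even_two, by omega⟩
    rw [← Nat.not_even_iff_odd]
    intro h
    have h7 := h.add e2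
    rw [h4] at h7
    exact (Nat.not_even_iff_odd.2 e1.add_one) h7
  refine ⟨x, y, z, hx.ne_one, hy.ne_one, hz1', ?_, ?_, ?_⟩
  · have h7 : Nat.card (centralizer {x}) = Nat.card (centralizer {y}) + 2 ^ (m + 2) := by
      have : 2 ^ (m + 2) = 2 * 2 ^ (m + 1) := by ring
      omega
    rw [h7, Nat.coprime_comm, Nat.coprime_self_add_right]
    exact Nat.Coprime.pow_right _ ho2.coprime_two_right
  · exact Nat.Coprime.coprime_dvd_right h6 (Nat.Coprime.pow_right _ ho1.coprime_two_right)
  · exact Nat.Coprime.coprime_dvd_right h6 (Nat.Coprime.pow_right _ ho2.coprime_two_right)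

end Sz

section Solv

variable {G : Type*} [Group G] [Finite G]

/-- a group with one non-trivial class size is solvable -/
theorem solvable_of_two (n : ℕ) (h : ∀ x : G, (centralizer ({x} : Set G)).index = 1 ∨ (centralizer ({x} : Set G)).index = n) :
    Group.IsSolvable G := by
  by_cases hex : ∃ x : G, (centralizer ({x} : Set G)).index ≠ 1
  · obtain ⟨x, hx⟩ := hex
    have hxn := (h x).resolve_left hx
    have hn : 1 < n := by
      have : n ≠ 0 := by rw [← hxn]; exact Subgroup.index_ne_zero_of_finite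
      rw [hxn] at hx
      omega
    obtain ⟨p, hp, a, -, hP⟩ := Cfsg.Agent.S4134.result n hn h ⟨x, hxn⟩
    obtain ⟨hPn, ⟨N, hN, hc, hNab, -⟩, -⟩ := hP default
    rw [Group.isSolvable_iff_subgroup_quotient N]
    refine ⟨Group.isSolvable_of_comm hNab.is_comm.comm, ?_⟩
    have hPs : Group.IsSolvable ((default : Sylow p G) : Subgroup G) := by
      have := (default : Sylow p G).isPGroup'.isNilpotent
      infer_instance
    refine Group.isSolvable_of_surjective (f := (QuotientGroup.mk' N).comp (((default : Sylow p G) : Subgroup G)).subtype) ?_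
    intro q
    obtain ⟨g, rfl⟩ := QuotientGroup.mk'_surjective N q
    obtain ⟨⟨u, v⟩, huv, -⟩ := (Function.bijective_iff_existsUnique _).1 hc g
    refine ⟨v, ?_⟩
    rw [← huv]
    simp only [MonoidHom.comp_apply, Subgroup.coe_subtype, map_mul]
    have : QuotientGroup.mk' N (u : G) = 1 := (QuotientGroup.eq_one_iff _).2 u.2
    rw [this, one_mul]
  · push Not at hex
    apply Group.isSolvable_of_comm
    intro a b
    have := hex a
    rw [Subgroup.index_eq_one] at this
    have h1 : b ∈ centralizer {a} := by rw [this]; exact mem_top _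
    exact (Subgroup.mem_centralizer_singleton_iff.1 h1).symm

/-- the Frobenius case -/
theorem solvable_of_frob (n₁ n₂ : ℕ)
    (h : ∀ x : G, (centralizer ({x} : Set G)).index = 1 ∨ (centralizer ({x} : Set G)).index = n₂ ∨
      (centralizer ({x} : Set G)).index = n₁)
    {Q : Type*} [Group Q] [Finite Q] (φ : G →* Q) (hφ : Function.Surjective φ) (hk : φ.ker = center G)
    (H : Subgroup Q) (hH : Cfsg.IsFrobeniusComplement H) : Group.IsSolvable Q := by
  obtain ⟨K, hK, hKn, hc⟩ := Cfsg.Agent.S0035.result H hH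
  obtain ⟨K', hK', hKn', hKnil⟩ := Cfsg.Agent.S0042.result H hH
  have hKK : K = K' := SetLike.coe_injective (hK.trans hK'.symm)
  subst hKK
  have hKs : Group.IsSolvable K := by infer_instance
  -- the complement is solvable
  have hHs : Group.IsSolvable H := by
    have hKb : K ≠ ⊥ := by
      intro hb
      rw [hb, Subgroup.isComplement'_bot_left] at hc
      exact hH.2.1 hc
    obtain ⟨k, hkK, hk1⟩ := (Subgroup.ne_bot_iff_exists_ne_one.1 hKb).elim fun x hx =>
      (⟨x, x.2, fun h => hx (Subtype.ext h)⟩ : ∃ x ∈ K, x ≠ 1)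
    obtain ⟨g, hg⟩ := hφ k
    have hcop : Nat.Coprime (Nat.card K) (Nat.card H) := by
      rw [Nat.coprime_comm]
      have h1 := Cfsg.Agent.Lib.FrobGroup.coprime_card_index hH
      rwa [hc.index_eq_card] at h1
    -- indices
    have hdiff : ∀ x : G, φ x ∈ H → φ x ≠ 1 → (centralizer ({x} : Set G)).index ≠ (centralizer ({g} : Set G)).index := by
      intro x hx hx1 hcon
      rw [← index_map φ hφ hk.le x, ← index_map φ hφ hk.le g] at hcon
      have h1 := card_eq_of_index hcon
      have h2 : Nat.card ((centralizer {x}).map φ) ∣ Nat.card H :=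
        Subgroup.card_dvd_of_le ((map_le φ x).trans (Cfsg.Agent.Lib.FrobGroup.centralizer_le hH hx hx1))
      have h3 : orderOf k ∣ Nat.card ((centralizer {g}).map φ) := by
        have h4 : k ∈ (centralizer {g}).map φ := by rw [← hg]; exact mem_map φ g
        rw [← Subgroup.orderOf_mk k h4]
        exact orderOf_dvd_natCard _
      have h5 : orderOf k ∣ Nat.card K := by
        rw [← Subgroup.orderOf_mk k hkK]
        exact orderOf_dvd_natCard _
      have h6 : orderOf k ∣ 1 := by
        rw [← hcop]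
        exact Nat.dvd_gcd h5 ((h1 ▸ h3).trans h2)
      exact hk1 (orderOf_eq_one_iff.1 (Nat.dvd_one.1 h6))
    have hgn : (centralizer ({g} : Set G)).index ≠ 1 := by
      intro hcon
      rw [Subgroup.index_eq_one, Subgroup.centralizer_eq_top_iff_subset] at hcon
      have : g ∈ φ.ker := by rw [hk]; exact hcon rfl
      rw [MonoidHom.mem_ker, hg] at this
      exact hk1 this
    obtain ⟨c, hcc⟩ : ∃ c : ℕ, ∀ x : G, φ x ∈ H → φ x ≠ 1 → (centralizer ({x} : Set G)).index = c := by
      rcases (h g).resolve_left hgn with h1 | h1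
      · refine ⟨n₁, fun x hx hx1 => ?_⟩
        have h2 := hdiff x hx hx1
        rcases h x with h3 | h3 | h3
        · exfalso
          rw [Subgroup.index_eq_one, Subgroup.centralizer_eq_top_iff_subset] at h3
          have : x ∈ φ.ker := by rw [hk]; exact h3 rfl
          exact hx1 this
        · rw [h1, h3] at h2; exact absurd rfl h2
        · exact h3
      · refine ⟨n₂, fun x hx hx1 => ?_⟩
        have h2 := hdiff x hx hx1
        rcases h x with h3 | h3 | h3
        · exfalso
          rw [Subgroup.index_eq_one, Subgroup.centralizer_eq_top_iff_subset] at h3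
          have : x ∈ φ.ker := by rw [hk]; exact h3 rfl
          exact hx1 this
        · exact h3
        · rw [h1, h3] at h2; exact absurd rfl h2
    have hL : Group.IsSolvable (H.comap φ) := by
      apply solvable_of_two (c / (H.comap φ).index)
      rintro ⟨x, hx⟩
      have e1 : centralizer ({(⟨x, hx⟩ : H.comap φ)} : Set (H.comap φ)) = (centralizer ({x} : Set G)).subgroupOf (H.comap φ) := by
        ext y
        rw [Subgroup.mem_subgroupOf, Subgroup.mem_centralizer_singleton_iff, Subgroup.mem_centralizer_singleton_iff,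
          Subtype.ext_iff]
        rfl
      rw [e1]
      by_cases hx1 : φ x = 1
      · left
        have h1 : x ∈ center G := by rw [← hk]; exact hx1
        have h2 : centralizer ({x} : Set G) = ⊤ := by
          rw [Subgroup.centralizer_eq_top_iff_subset]
          intro y hy
          rw [Set.mem_singleton_iff.1 hy]; exact h1
        rw [h2, Subgroup.top_subgroupOf, Subgroup.index_top]
      · right
        have hle : centralizer ({x} : Set G) ≤ H.comap φ := by
          intro y hy
          apply Cfsg.Agent.Lib.FrobGroup.centralizer_le hH hx hx1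
          exact map_le φ x ⟨y, hy, rfl⟩
        have h1 := Subgroup.relIndex_mul_index hle
        rw [hcc x hx hx1] at h1
        rw [← h1, Nat.mul_div_cancel _ (Nat.pos_of_ne_zero Subgroup.index_ne_zero_of_finite)]
        rfl
    refine Group.isSolvable_of_surjective (f := (φ.comp (H.comap φ).subtype).codRestrict H (fun y => y.2)) ?_
    rintro ⟨y, hy⟩
    obtain ⟨x, rfl⟩ := hφ y
    exact ⟨⟨x, hy⟩, rfl⟩
  rw [Group.isSolvable_iff_subgroup_quotient K]
  refine ⟨hKs, ?_⟩
  refine Group.isSolvable_of_surjective (f := (QuotientGroup.mk' K).comp H.subtype) ?_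
  intro q
  obtain ⟨g, rfl⟩ := QuotientGroup.mk'_surjective K q
  obtain ⟨⟨u, v⟩, huv, -⟩ := (Function.bijective_iff_existsUnique _).1 hc g
  refine ⟨v, ?_⟩
  rw [← huv]
  simp only [MonoidHom.comp_apply, Subgroup.coe_subtype, map_mul]
  have : QuotientGroup.mk' K (u : Q) = 1 := (QuotientGroup.eq_one_iff _).2 u.2
  rw [this, one_mul]

/-- the Hughes case -/
theorem solvable_of_hughes (p : ℕ) (hp : p.Prime) (hH : Subgroup.closure {g : G | g ^ p ≠ 1} ≠ ⊤) :
    Group.IsSolvable G := by
  have : Fact p.Prime := ⟨hp⟩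
  by_cases hG : IsPGroup p G
  · have := hG.isNilpotent
    infer_instance
  obtain ⟨h1, h2⟩ := Cfsg.Agent.S4249.result p hp hG hH
  have hn : (Subgroup.closure {g : G | g ^ p ≠ 1}).Normal := by
    rw [← Subgroup.normalizer_eq_top_iff, eq_top_iff]
    refine le_trans ?_ (Subgroup.normalizer_le_normalizer_closure _)
    intro x _
    intro g
    have h1 : (x * g * x⁻¹) ^ p = x * g ^ p * x⁻¹ := conj_pow
    rw [Set.mem_ofPred_eq, Set.mem_ofPred_eq, h1]
    apply not_congr
    constructor
    · intro h; rw [h]; group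
    · intro h
      have := congrArg (fun y => x⁻¹ * y * x) h
      simpa [mul_assoc] using this
  rw [Group.isSolvable_iff_subgroup_quotient (Subgroup.closure {g : G | g ^ p ≠ 1})]
  refine ⟨by infer_instance, ?_⟩
  have h3 : Nat.card (G ⧸ Subgroup.closure {g : G | g ^ p ≠ 1}) = p := h2
  have : IsCyclic (G ⧸ Subgroup.closure {g : G | g ^ p ≠ 1}) := isCyclic_of_prime_card h3
  exact Group.isSolvable_of_comm (fun a b => (IsCyclic.isMulCommutative (α := (G ⧸ Subgroup.closure {g : G | g ^ p ≠ 1}))).is_comm.comm a b)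

/-- **non-nested case of Ito's theorem on three class sizes** -/
theorem solvable_of_F (n₁ n₂ : ℕ)
    (h : ∀ x : G, (centralizer ({x} : Set G)).index = 1 ∨ (centralizer ({x} : Set G)).index = n₂ ∨
      (centralizer ({x} : Set G)).index = n₁)
    (hF : ∀ x y : G, x ∉ center G → y ∉ center G → centralizer ({x} : Set G) ≤ centralizer {y} →
      centralizer ({x} : Set G) = centralizer {y}) : Group.IsSolvable G := by
  by_cases hab : center G = ⊤
  · apply Group.isSolvable_of_comm
    intro a b
    have : b ∈ center G := by rw [hab]; exact mem_top _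
    exact Subgroup.mem_center_iff.1 this a
  -- the partition
  let A : G → Subgroup G := fun x => centralizer (centralizer ({x} : Set G) : Set G)
  have hmA : ∀ x y : G, y ∈ A x ↔ centralizer ({x} : Set G) ≤ centralizer {y} := by
    intro x y
    constructor
    · intro h1 z hz
      rw [Subgroup.mem_centralizer_singleton_iff]
      exact Subgroup.mem_centralizer_iff.1 h1 z hz
    · intro h1
      refine Subgroup.mem_centralizer_iff.2 fun z hz => ?_
      exact Subgroup.mem_centralizer_singleton_iff.1 (h1 hz)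
  have hself : ∀ x, x ∈ A x := fun x => (hmA x x).2 le_rfl
  have hZ : ∀ x, center G ≤ A x := fun x => Subgroup.center_le_centralizer _
  have heq : ∀ x y, x ∉ center G → y ∉ center G → y ∈ A x → A y = A x := by
    intro x y hx hy hyx
    have := hF x y hx hy ((hmA x y).1 hyx)
    change centralizer (centralizer ({y} : Set G) : Set G) = centralizer (centralizer ({x} : Set G) : Set G)
    rw [this]
  let φ := QuotientGroup.mk' (center G)
  have hφ : Function.Surjective φ := QuotientGroup.mk'_surjective _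
  have hk : φ.ker = center G := QuotientGroup.ker_mk' _
  have hcm : ∀ x, ((A x).map φ).comap φ = A x := by
    intro x
    rw [Subgroup.comap_map_eq, hk, sup_eq_left]
    exact hZ x
  have hmem : ∀ x y, φ y ∈ (A x).map φ ↔ y ∈ A x := by
    intro x y
    rw [← Subgroup.mem_comap, hcm]
  have hker : ∀ y, φ y = 1 ↔ y ∈ center G := by
    intro y
    rw [← MonoidHom.mem_ker, hk]
  let S : Set (Subgroup (G ⧸ center G)) := {D | ∃ x, x ∉ center G ∧ D = (A x).map φ}
  obtain ⟨x0, hx0⟩ : ∃ x, x ∉ center G := by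
    by_contra hcon
    push Not at hcon
    exact hab (eq_top_iff.2 fun x _ => hcon x)
  have hS2 : ∃ H ∈ S, ∃ K ∈ S, H ≠ K := by
    refine ⟨(A x0).map φ, ⟨x0, hx0, rfl⟩, ?_⟩
    by_contra hcon
    push Not at hcon
    apply hx0
    rw [Subgroup.mem_center_iff]
    intro y
    have h1 : y ∈ A x0 := by
      by_cases hy : y ∈ center G
      · exact hZ x0 hy
      · have := hcon _ ⟨y, hy, rfl⟩
        rw [← hmem, this, hmem]
        exact hself y
    have h2 := (hmA x0 y).1 h1
    have h3 : x0 ∈ centralizer ({x0} : Set G) := by rw [Subgroup.mem_centralizer_singleton_iff]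
    have := h2 h3
    rw [Subgroup.mem_centralizer_singleton_iff] at this
    exact this.symm
  have hS1 : ∀ H ∈ S, H ≠ ⊥ := by
    rintro _ ⟨x, hx, rfl⟩ hb
    have : φ x ∈ (A x).map φ := (hmem x x).2 (hself x)
    rw [hb, Subgroup.mem_bot, hker] at this
    exact hx this
  have hpart : ∀ g : G ⧸ center G, g ≠ 1 → ∃! H : Subgroup (G ⧸ center G), H ∈ S ∧ g ∈ H := by
    intro g hg
    obtain ⟨y, rfl⟩ := hφ g
    have hy : y ∉ center G := fun h1 => hg ((hker y).2 h1)
    refine ⟨(A y).map φ, ⟨⟨y, hy, rfl⟩, (hmem y y).2 (hself y)⟩, ?_⟩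
    rintro _ ⟨⟨x, hx, rfl⟩, hyx⟩
    rw [hmem] at hyx
    rw [heq x y hx hy hyx]
  have hfin : Group.IsSolvable (G ⧸ center G) → Group.IsSolvable G := by
    intro hs
    rw [Group.isSolvable_iff_subgroup_quotient (center G)]
    refine ⟨Group.isSolvable_of_comm fun a b => ?_, hs⟩
    exact Subtype.ext (Subgroup.mem_center_iff.1 b.2 a)
  rcases Cfsg.Agent.S4248.result S hS2 hS1 hpart with ⟨⟨e⟩⟩ | ⟨p, hp, hpH⟩ | ⟨H, hH⟩ |
    ⟨F, _, _, h4, ⟨e⟩⟩ | ⟨F, _, _, h5, hodd, ⟨e⟩⟩ | hSz
  · apply hfin
    have := Cfsg.Agent.Lib.SwapOrbits.isSolvable_perm_fin_four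
    exact Group.isSolvable_of_isSolvable_injective (f := e.toMonoidHom) e.injective
  · exact hfin (solvable_of_hughes p hp hpH)
  · exact hfin (solvable_of_frob n₁ n₂ h φ hφ hk H hH)
  · exfalso
    refine no_three n₁ n₂ h φ hφ hk e.symm.toMonoidHom e.symm.injective ?_ (psl2_three h4)
    have : e.symm.toMonoidHom.range = ⊤ := MonoidHom.range_eq_top.2 e.symm.surjective
    rw [this, Subgroup.index_top]
    exact one_dvd _
  · exfalso
    let e' : G ⧸ center G ≃* Matrix.ProjGenLinGroup (Fin 2) F := e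
    let j : Matrix.ProjectiveSpecialLinearGroup (Fin 2) F →* G ⧸ center G :=
      e'.symm.toMonoidHom.comp (Cfsg.Agent.Lib.DkSub.tP F)
    have hj : Function.Injective j := e'.symm.injective.comp Cfsg.Agent.Lib.DkSub.tP_inj
    refine no_three n₁ n₂ h φ hφ hk j hj ?_ (psl2_three (by omega))
    have h1 : j.range = (Cfsg.Agent.Lib.DkSub.LL F).map e'.symm.toMonoidHom := by
      rw [MonoidHom.range_comp]; rfl
    have h2 : ((Cfsg.Agent.Lib.DkSub.LL F).map e'.symm.toMonoidHom).index = (Cfsg.Agent.Lib.DkSub.LL F).index := by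
      apply Subgroup.index_map_eq _ e'.symm.surjective
      have : e'.symm.toMonoidHom.ker = ⊥ := (MonoidHom.ker_eq_bot_iff _).2 e'.symm.injective
      rw [this]; exact bot_le
    rw [h1, h2, Cfsg.Agent.Lib.DkSub.index_LL_odd hodd]
  · exfalso
    obtain ⟨F, _, _, m, hm, hF', ⟨e⟩⟩ := Cfsg.Agent.Lib.SuzukiLie.isoSuzuki_iff.1 hSz
    refine no_three n₁ n₂ h φ hφ hk e.symm.toMonoidHom e.symm.injective ?_ (sz_three hm hF')
    have : e.symm.toMonoidHom.range = ⊤ := MonoidHom.range_eq_top.2 e.symm.surjective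
    rw [this, Subgroup.index_top]
    exact one_dvd _

end Solv

end Cfsg.Agent.Lib.ItoThreeB48
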