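import Cfsg.Agent.Lib.CosetFacts

set_option autoImplicit false
set_option linter.all false
set_option maxRecDepth 100000

namespace Cfsg.Agent.Lib.J1PAD
open Cfsg.Agent.Lib.BenesPerm Cfsg.Agent.Lib.CosetFacts

noncomputable def d0 : Nat := (nat_lit 0x180462c08c110a50800020910a8080a004808240442242502088208144108001142)
noncomputable def d1 : Nat := (nat_lit 0xb8011200820021400440820100909484224a68098a4088902090010440a5200c)
noncomputable def d2 : Nat := (nat_lit 0xe0112811000020093c0020516c105083014100114000a150145012a8a810a0290)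
noncomputable def d3 : Nat := (nat_lit 0x4000402422244842042890200012202101408090a0108020220822401012504420)
noncomputable def d4 : Nat := (nat_lit 0x2310080400c49109428112448402440420281010200411040441044802024008800)
noncomputable def D : Net := (Net.cons (nat_lit 0) d0 (Net.cons (nat_lit 1) d1 (Net.cons (nat_lit 2) d2 (Net.cons (nat_lit 3) d3 (Net.cons (nat_lit 4) d4 Net.nil)))))
noncomputable def Tp0 : Nat := (nat_lit 0x13f0012780035b000010015c8006150013f000ae0004c60013f001760000790013f000f440026400001000b68004150000300156c0055c000010008a4002c800003000de0003790013f000354004020013f001830003180002200161c005940013f000b8c000a700003000d480035400000000c0c0044700060000b8400357000030014300050d000ff000e800055e000600017c0005cf00064000b84003550013f000234002630013f00103c0027600123000918000d800061000e58004c7000e200173000521000230008cc000ab000c10011ec0055300003000ca00032a000df000cb0002a9000e3001270004b7000c2000e3c003f800001000b10003f50000300087c0022000003000d94003660000400000000000)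
noncomputable def Tp1 : Nat := (nat_lit 0x1030012c4005b30013f0018540046300122000dc0002b80013f000268002800013f000b140035d00102000fa0004140013f00156c004d500003000b1c002c80000300133c004d000124000cc4000d500000000c60004650013f001650004e00013f000e0c00102000a0001728005c700003000c0c0030400061000d5800459000030017cc005f5000e2001038003a00000000141c005ef00064000d54002e3001210001bc0008d0013f000e7c0037a00123000c74003600006300131c003940011f0010840052000023000ba0002e9000df000b54005a800000000c9400479000c3000944002a900001000d90004b7000c400152c0040b000810002700026f00003000a7c002a0000200001700024b0000200000000000)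
noncomputable def Tp2 : Nat := (nat_lit 0x13f000d08005b30013f0015c4004f30013f000ae000040001220002680009a0013f0012d00009e001020015980060500123001034004d500121000b1c003150002100038c003930013f000c4c000d50013f00181c004650013f001158005de0013f00039c0040100003001718005c70000300112c0044c00103000ecc004ab000000008480026a000030010380040f000030011c4004720010400130c005b400042000af8002d20013f0013e4004d10000300086c0021c0006400131c004f20011f000f180056f00023000ba400429000ff0013f00040e000ff0013f0005a9000c1000b300032b001200012dc00469000c100102c0054d00083000b0400373000c3000cd8003c5000610008500024c000440008f0000b1)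
noncomputable def Tp3 : Nat := (nat_lit 0x13f0012c4002d70012000108c004f30013f00025400224000230011700045d0013f00170400041000c3000e3c004160013f0010340004900123000c54003fa00003000e48003930013f0002ec003560000300119400466001210013800045600124000408000e7000a1001424005c6000000011800059c00101000ecc004ad000e0000d2c0036f0013f0010380037d00003000ea0003a90011f000e04005b100001000fc80054a0013f001798005d7000030009f40027e00100001090004f200100001084003c60002000013400233000ff0013e80055d000e30016a0004fc000c300105c00483000000011a8005a1000030008b00022d00081000b040037600003000f60003d9000630008500024a000410002c4000b2)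
noncomputable def Tp4 : Nat := (nat_lit 0x121000d6c002d70013f0013cc005620013f0002fc002b6000630016100059a0013f0013b400042000c3001058004ec0013f001354000a600122000f500010600081001340004ef00122000354000bb0013f001544004660013f001158002cd000210008c400239000e2001620005c6000030011800046100103001660005f7000e1000db4004a30013f000e80004d7001000011c8003a900001000e04004db000030010f40043e00000000fc00054800123000d8000385001010013c8004ca001040010840050f000600010fc00429000ff00183c005e70000300100800404000c300120c00568000030011a80046b00003000b50002d600003000af4002be000210003dc003d9000030008580021700001000a78003c1)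
noncomputable def Tp5 : Nat := (nat_lit 0x13f000d18002d70013f0011200039500120000254000bf00081001668005900013f000e400009a00003001594005660013f0014d8001010012300133000533000e10013340049900081000e64004df0013f000ffc0059e0013f000c28003ff0013f0008c400048000000014a4006010000300158c00564001000017dc00599000e4000334002ae0013f0015dc004fb00103001734005a40011f001228004db00000000bdc0043d00043000ae0002b900121000d8000386000810012cc00541001020014980050f000630010a80043f000030013e4004fa00001000cc00048800061001840006120000300152000549000210008b4002cf00021000274002be000010009dc00379000030009c8002730002000087c00299)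
noncomputable def Tp6 : Nat := (nat_lit 0x13f000964003330013f000ca4002840013f0008380003e000ff0011440030a0013f000a00002bb000c00013b0005650013f000f74003f700000000dd4004c9000e0001338005bc00083000e64004dd00121001198003ff000010011980059e001210001200021900043000a9c003ce000410011800056300100001534005c9000e1000d40002ae0013f0010bc005e800101001698005cd0011f001368005b2000830008f8002f9000430008600021a000030009f80038600000000d74004b3000e30014380057500063000be00042a00003001798005e700061001288005b0000630018480060f0006300018800243000df000f8800403000830009bc002c000062000de4000f7000a0000d9800272000230014600051f)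
noncomputable def Tp7 : Nat := (nat_lit 0x15f0008780006700120000c0c00284001200000a00003e000ff001640004550012200026800280000c400159400567000030014e80053b0013f0010d8004c800003001384004e200023000a14000e300061001770005ed00003000ffc004000013f0008e40021900043000f400052c0004000159000461000030012b0004ad000c10009740028e0013f00173800578000030008d400236001020016bc004da00061000b40002fc00064000de8003ee000e4000ba800361000210001c000261000e00015d40050f0012200168800574000ff001848005e6000c100105c0048600000000a30003a0000810011a800548000df000b38005390000300092c0024c000ff000f600030f000a1000d94003720002300147c005fb)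
noncomputable def Tp8 : Nat := (nat_lit 0x14000019c000670013f0001f4003030013f001090002cd000ff0016680059500123000b540037d000c400159c005660013f0014ec0048400122000dd0004360000300177c005e000023000e5c0039800000001368005dc00003001544005520013f0008180002e000640012940052a0000000101c0055700103001580005100000100097c0034d0002400116c0057800003000bb0002ed0012400151c0060400064000bec002d000064000fb8004d1000210003600035f000030009800026100122001604006160013f00185c005f6000e20015a0005e6000c4001210004a2000010013e8004fc000800015240046b000c2000f88002ce0004200092c00311000e4000f640030f00042000138002160004300124000493)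
noncomputable def Tp9 : Nat := (nat_lit 0x1230002cc0007d0013f0013c8003fd000e20011700059500022000dc4003800011f00172c005c10013f0014e8004a20013f0015ac0053d000e00016f4005df00043000a08002880013f001770003ff00003001548006070013f00007000216000610014c0005c5000810015880058d0010100144400560000e4000e70003e1000e300116c0053500003000bb40042e001210018100054900003000b48002d300062001520005d700003000d780035f000810014fc005c8000a400099c00322001230015cc005f6000e30013e0005a8000200000900020b000030011e40047a001240014e00054700063000b8800342000210002f00031100000000a74003c3000c1001234004250004300124c005b7)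
noncomputable def Tp10 : Nat := (nat_lit 0x13f0009c80004f0013f000e500007d00003001154004560013f000dc4002d5001020012d0005c100123000f88004a2001230010680053d0013f00177c00080000e3000f7c003970013f0017b400466000030015640055a001200000b80001c0000000129c005c50008400162c005620010100165c00611000e40013dc00537000e40015e000535000030010bc005770013f00105c0054900003001020004090013f0015a000548000e1000f14004b5000830017200053e000a4000c880036800001000c0000443000ff0013e00040f000df001220005ab000030016a0005a90012100151c0053b0006300108c0049b00043000c4800314000210000f000220000c4000f580048d0002100033000337)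
noncomputable def Tp11 : Nat := (nat_lit 0x13f000d980023c0013f000a100028600003001654005960013f0009c40037d000e4000da8004a30013f00125c004a2000000008b0002d20013f0016f400035000e0000e5c003e00013f0014080059f000030018300060d000000013d4005e400003000d300034d0000000113c0058c0013f0014140061100104001794005f40013f0012ec00535000200003d8003da0013f00181000486000800010f8004080013f00120c003ef00001000a44003a500082001454005c8000a40011d8004ba00003000bfc00300000ff000e7c0055f000df0011f000330000040013e0004fc00000000fb4005450006300126c0057200043000c50002b000022000f0c003d9000c300109400534000030016e0005b9)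
noncomputable def Tp12 : Nat := (nat_lit 0x13f000d94000b100003001200004810013f001658003fd00123000b5400271000e400128c004bc0013f000d2800397000000009e4003800013f00126400036000e2000e5c0049700122001198005020002000181c0060c00043000e8c00501000c3001290004fd0000300113c0045000042000b80003c800103001750005f30013f000f64005cd000600009c0002ac0000300121400486000810010f4005580013f000cb80054700082000c800033400103001758005f800060000c000024c00000000f2800526000e000103c0039f000df000c9c00489000600012940052b001210014f00054500064000f300047e00044000f940046200003000f0c003c400021000adc003eb00003000a640029a)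
noncomputable def Tp13 : Nat := (nat_lit 0x123000364000b100043001360004e30013f0016540054f0013f0009c400008000e2001714005d00013f000f80003f800003000e00003810013f000d000008400003001258004970013f0014080008400003000acc002b40004300140400502000c1001290005000008400166c0058f00003000b7c002e000003000db00036d0013f001698000f700064000ab0003230013f0014e00048500062000c180043f0013f001818000c500043000cd00033600101001758005f9000a00012e800442000c300160c006000000100103c0055c000c2000cc000327000610011f8003ce0000300095c00258000640011f80052900081000fcc003e5000e1000c18003c4000c0001094003eb00003000ef4003bf)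
noncomputable def Tp14 : Nat := (nat_lit 0x30015ac0056c0007f001208004d80013f001154004000013f000dc000017000e4001710005d00013f000f74000f800101000e040048a0013f000d04000ea000e1001378004960013f0011980003600021000258002b400043000a1c000e6000c10014bc005ec0008100163c0059d0000300107c0042000003001300004c10013f001694000f6000200000b8002160013f000f88005af00001000c1c004500013f00182c00108000c3000f14003340011f0015f0005e3000a3001104004ba000830016040058300003000b580040c000a4000d64003ad00062001294005ac00003000d0800344000640016b40060200082000f98004ca000200002d00030600003000fa8003eb00003000efc00516)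
noncomputable def Tp15 : Nat := (nat_lit 0xc30014f4005500006400138c004820013f001000000330013f0013140003f0013f000db00030e00121000404000f800104001228004da0015f00125c000e7000e3001378005bb0013f000c280007f0000100090c0031900040001408004f6000c30017b00052e0008200167400579000c00014140056e00003001304005d30013f0011c4003da00043000868002770013f001368002ce00082001528004500013f001554000c6000c2000e94003c5001030013c40057c000a30011d800441000c300180000581000010010300055a000a4000eb00048700003000d380034f00063000d10002e200043000a94002a700082000fd40053f000e10012480059100023000954000cc000a40001cc00249)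
noncomputable def Tp16 : Nat := (nat_lit 0x13f0015b00055000061001204004e40013f00153c0007d0013f0017540009a00043000894002260013f0002a4002d40013f001228002cf0015f000f900008100001000d04004970013f000b38000e600003000c6000319000030013d4004f6000030013fc00500000ff00163c0044c0013f0015800056e001000017cc005d30013f000ea0004e3000430009e80037e0013f000dfc000a70008100155c0058e0013f00101000331000e40012d4004e6001020016080057c000a20013a0005a70000300149800527000210000c80021c00003000a5000295000a30003400025f000640010880049d00000000a8c003cb00003000ac4002b2000e2001648005b600023000cec0033c000a200092400071)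
noncomputable def Tp17 : Nat := (nat_lit 0x12400106800550000600016b8005dd0013f001170000e400064001518005d700043000898002c400124000b58000a90013f000e040022d000240008e4002dd000c40014b4005be0012300029c000e6000800015100046700041001404004f5000000013fc005ea000ff0016740058a0013f00107c0041000000000db0004be000200003a8003a800043000df8003840013f0009e000048000210002d4003040013f0015500048b001240011bc0046f0011f0017f0005ff001210017d8005e1000c000160400527000a20013a40055a00003000eb0003ae000a3000d2c003500006400127400570000c2000a90002b600003000f98003e800043000c200030900020000ac400312000c400023c00281)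
noncomputable def Tp18 : Nat := (nat_lit 0x13f001540003430013f001370002d70013f0004180039a00000000df0004d400043000c340030e0013f000df8000840013f000e000022c00024000bc40041d000c00014b4005bf0013f001808003580000300119c004680013f0014040027a000c3001804005e9000e20015e40058a0013f000b7c002d6001000017c4005d10013f000e10000ea000640011dc004e30013f0008640022b000ff00114000304000210009880035800003001350004d500102001488005fc00000000bac0042c00104000ec80042100003000e280038b000a400121c003ae000e4000cf4003500013f000a900057000000000f900053a00003000fa00053f000ff000a780059300024000c48002b0000c4000aa000391)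
noncomputable def Tp19 : Nat := (nat_lit 0x15f000d0c000340013f0017740041200121000390001060012000175c005d800060000b100030d0013f0009dc002920013f0009e4002d20002400107400436000c10016e8005ad0013f0015c8004af00043000910002450013f0013d40021a000c10017ac00601000040010c0004330013f0008c00022d000010012fc005d10013f0009e80029300064000c8c003da0013f000b440002e000ff000c14000b3000a100118c004af00043000f6c003dc00001001478005fd000e100143c0052300101001084003b4000030013a4004ea00043000b6c00405000e4000d2c0033d00003000a8c002a4000a4000d0c003e40008200153000543000ff00114c0008b000a3000c580033b000c4000e44003d3)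
noncomputable def Tp20 : Nat := (nat_lit 0x15f00095c0021e0013f0016b80056200020000254002b60013f000fb80037000064000c34002c60012000021000277001200008b000279000c4000d9c003d50013f0016b4000d500003000d5c00358000430009140031b0013f0017900002f0013f0018040035a000e20016180057a0013f0001280022c000030012f8004bf001230003a80027a0006100138c003da0013f00101800218000ff0011380030200101000e340045e00062000f6c004d40013f0009fc005fe0000300148800523000030010b00042d00041000e2c0038c000430010140041800003000848002130013f001088002a300003000d8c00364000030015300054d000ff000c240029c000a3000cf000316000c40013b800532)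
noncomputable def Tp21 : Nat := (nat_lit 0x420012380049800001001120005850013f00127c000170013f001518004c500064000b180030e0013f0009dc0022d0013f0009e40022f000c40012e0005330013f0016e800355000030012b8004af00043000c700046c0013f0013d00002e0013f0017ac004b0000240008bc00239001230001200004a0000100173c005d20013f000c08000ea000030010e0004390013f00155c0021a000ff0016380044a0010300118c004f3001200013540046f0013f001478003880000300081800207000e30010b000361000030014740051e0004300155800569000210000bc002130013f000b88003cb0000000099800363000210001a40025b00003000c1800307000a10003e40033c000c00014c800516)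
noncomputable def Tp22 : Nat := (nat_lit 0xd0000498000ff001134003010013f000d1c000400013f00175c005d50013f000db4002c60013f000210002d60013f000e08002dc000000009240031f0013f001258004aa0013f00126c004ae000430011b00046d0013f000e6c002180013f0013f800509000010010700056a00000001128005870013f00173c0045b001220002cc000ea00001000bd4004390013f0011280027a000ff00155c00589000c4000cb4002a9001210011bc004d400024000e200038c000030008e00023a000220010980042c0000300185c0061800001000d28004a1000630009ec002b800120000a8c002e2000810010b400444000c20002940025b000ff000f0800307000a0000c58003ea000a4000a00002c9)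
noncomputable def Tp23 : Nat := (nat_lit 0x13f00126000277000ff00162c004460013f0009680022400120001760005d50013f00128c00226001230002a4000840013f000abc0041a00003000c7c0032000122000d540049600121000d5c0049b00084001510005a30013f000b540037c0013f001718003a1000e4001618006140013f00161c003830013f0017480030f000200008c0002df0004400132c0057f000230003a800293000e100112800557000c2000aa400395000c1000cd8003c70013f0014740038c000030008e8002f000001000b9c00426000010015d00061800003001280004a100060000ae00027c0012000180800572000e0000ba8003db000c4000b24002d9000e0000a70003070000000095400339000c4000fec00531)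
noncomputable def Tp24 : Nat := (nat_lit 0x13f001238002d7000ff001588005850013f000838002bf00123001584004d30013f00171000042000030009680025b0013f0014f4003e4000c10002fc002950013f000d54002ce00120000b3c003310008100168c005a0001230009d8002d50013f0013840028d0000300106c0041c00023000ea8003ab0013f0012f8000b800001001414005ee0004000132c0058000101000ea00047100000001214005af000210003140032d0012100134c0052400123000f000038c00003000bc800434000ff0003c40042700121001270005a200003001708005c3000c10009b40033d0012300170000602000e3001110003db000c1000404003f7000ff0002d400307000df000f5c00494000c40014c40054e)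
noncomputable def Tp25 : Nat := (nat_lit 0x13f000d0800413000e100112000562000c20011d40056d00042000b7c003fc0013f0017400004100003000d1c003480015f0002040028e000c40011cc0057b0013f001258003e20013f000d5c0033100061000df4003ee0013f000b540001a0013f000ea8000e700000000b740041b00001000e10004e20013f0012fc000520000300141000505000610015f400477000000011c4005a5000820016bc005b20011f0012c80048b00120001494005d900021000a68003bb0002000007000206000ff000b98003b5000a20003b800363000df001420005c20006200084c000800012400155000603000ff000d840042d000c0000fd80054b000ff00090000051000c1000ce8003d7000c40003d400367)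
noncomputable def Tp26 : Nat := (nat_lit 0x123000b5c003420013f001200004480013f00102c002de0013f000ff0004110013f0017140009e000c400127c004ed0014200020400081000030011cc004740013f001378002af0013f00126c0048b00003000df00037d0013f0009d8000190013f0003a8003a300023000d640035a0013f001388003aa0013f001744000b6000c2000f1c0050400003000bd0002f500003001694005a600003001368004db00103000d6c0048b0000300144c0051400003000ee8003bb00042000bc0003bd000e30003c4002e6000e20003b800310000c100128000508000210002040028a001240018180060a000e100111000361000c4000b6400280000e100014400051000c1001468005b8000c10012e40054e)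
noncomputable def Tp27 : Nat := (nat_lit 0x13f000ccc003420000300111c004480013f00152c0041e00001000b2c003fc0013f0014c0002c5000c40013b4005c100123000e140031d000c40015ec004740013f0016ec003e40013f000b88002d700080001680005db0013f000860000480012100039c000ea00060001070003590013f000e0c003ab0013f0017c40030b001000017b8005e2000030010e80043b000030017bc005f0000030009b00026e0013f00180c0035b001200017680051300003001764005da000440010dc0051c000e40012d800576000a4000be8003b8000c30014280055600003000a240028a001200018180060b0006100092c002ff000830008b8002cc00003000b38002cf000c20016e4005fa000c0000f5c004b9)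
noncomputable def Tp28 : Nat := (nat_lit 0x1000d180049e0013f000ca4004470013f000fd00056d0013f001584002cb0013f000f44003f90000300150400542001240011b8004e5000c00014cc0057b00003000d00003410013f00108c004120013f0013580022c0013f0000b8002190013f000e0c003a2000a100106c003ad00123000ea8003830013f0017c8004570010200038000372000610013540057e000010009ac0036900043000a34000e70013f0014a4002620013f001584005da00003000a80003c7000030008c000231000e40015d8005cc000a0000be8003b9000c30015a40050a000e2000d3c0039d00083000b30002da000ff000d8c00310000c300097000101000a4000abc0034300001001464005fa00001000ce800494)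
noncomputable def Tp29 : Nat := (nat_lit 0x62001278005b50013f000c0c0047f0013f0011d4002bf0013f00134c0022a0013f0011f80006e0000100150800605000e2000f78004e50002300041800311000030016f0005bd0013f00122c005630013f00176c002d4001210001200002e0012300039c00383000a4000eb40035a0013f001124003aa0013f0017b80059700104000e38003b0000630015f8004d200062001738005e800063000e90004c20002300035800262000030015840060e00003000f200052400003000b84002e30000100085c00270000a1000ebc002f8000410018240061300003000e740039e00003000cb00032d000e4000d9000310000c30004040034a0002000019c00257000c20016dc005fb000c3000f58004b9)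
noncomputable def Tp30 : Nat := (nat_lit 0x13f000d600048c00120000ca40030300124000c840020e0013f000dec000470013f000f380002b000030010500041500003000f74003de000a20001cc0022800003001334004ce0013f001180003310013f0016800040a00000000b38003ff0013f000b8c004e0000a30012c0005090000300161c005880000300115c00458001020017b8005f20000100081c0023600061001738005ef00061000e90004c40013f000f30000d60013f00134c0060e000030014900052500102000e88002e30006300092800270000440002c4002f7000df0011ec00608000e00016b0004f9000c4000a0400091000e00004180036400003000fdc003f8000a1000ac80034300001001244005b6000c4001234004b9)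
noncomputable def Tp31 : Nat := (nat_lit 0x13f0016d40026200124001120003290013f000890003210013f001348000a50013f000a9c0007000003000e54003960012200135400536000030008a00022900000000de0004cd00123001008003310013f00119c0055900001001158005940013f000b84002cf000a3001424005ca0013f001620004e10002100041400458000030017c4005f20006100135c0057700003001738005cf0004300039c003a20013f000a940006f0013f0015700037b001230001c40024600104001090004f0000c30011e00052100044000be00043f000df00154c005aa0000300093c00250000c0000a040032d000e3000d880049c000c0000fe00034a00000000fdc0054c00003001644005920002000036800365)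
noncomputable def T : Tr := (Tr.node (Tr.node (Tr.node (Tr.node (Tr.node (Tr.leaf Tp0) (Tr.leaf Tp16)) (Tr.node (Tr.leaf Tp8) (Tr.leaf Tp24))) (Tr.node (Tr.node (Tr.leaf Tp4) (Tr.leaf Tp20)) (Tr.node (Tr.leaf Tp12) (Tr.leaf Tp28)))) (Tr.node (Tr.node (Tr.node (Tr.leaf Tp2) (Tr.leaf Tp18)) (Tr.node (Tr.leaf Tp10) (Tr.leaf Tp26))) (Tr.node (Tr.node (Tr.leaf Tp6) (Tr.leaf Tp22)) (Tr.node (Tr.leaf Tp14) (Tr.leaf Tp30))))) (Tr.node (Tr.node (Tr.node (Tr.node (Tr.leaf Tp1) (Tr.leaf Tp17)) (Tr.node (Tr.leaf Tp9) (Tr.leaf Tp25))) (Tr.node (Tr.node (Tr.leaf Tp5) (Tr.leaf Tp21)) (Tr.node (Tr.leaf Tp13) (Tr.leaf Tp29)))) (Tr.node (Tr.node (Tr.node (Tr.leaf Tp3) (Tr.leaf Tp19)) (Tr.node (Tr.leaf Tp11) (Tr.leaf Tp27))) (Tr.node (Tr.node (Tr.leaf Tp7) (Tr.leaf Tp23)) (Tr.node (Tr.leaf Tp15) (Tr.leaf Tp31))))))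
noncomputable def DTp0 : Nat := (nat_lit 0x10000000052600000000000004e2000010000000049b0000300000000467000040000000043c000020000000041000000000000003e700000000000003c600003000000003a10000200000000383000010000000036c00004000000003490000400000000329000040000000031300002000000002f900000000000002e000003000000002cd00004000000000f8000020000000029a000040000000028b000040000000027800000000000000d800004000000002560000300000000248000030000000023f00003000000000a9000000000000009d00000000000002200000000000000079000040000000020f000010000000005100003000000000390000100000000009)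
noncomputable def DTp1 : Nat := (nat_lit 0x40000000052800004000000004e7000040000000049f00004000000004690000100000000440000010000000041100004000000003e700001000000003c600000000000003a20000400000000383000000000000036d00003000000003490000300000000329000030000000031300001000000002fd00002000000002e1000030000000010200002000000002ae000030000000029b000020000000028d000030000000027800002000000000d8000030000000025600000000000000bf00001000000000b30000100000000230000020000000009d00002000000002200000200000000079000030000000020f0000200000000054000000000000003a0000000000000011)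
noncomputable def DTp2 : Nat := (nat_lit 0x10000000052900004000000004eb00001000000004a000003000000004690000300000000440000000000000041200003000000003e700004000000003c600003000000003a30000300000000383000000000000036e000020000000034a000020000000032a000010000000031400004000000002fd00000000000002e200001000000002ce00001000000002af000000000000029c000030000000028d000010000000027900000000000002650000100000000257000010000000024900002000000000b3000020000000023000000000000002250000100000000221000010000000007a000030000000006e0000000000000056000020000000003d0000100000000011)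
noncomputable def DTp3 : Nat := (nat_lit 0x20000000052900004000000004f100000000000004a1000000000000046d0000200000000443000040000000041200001000000003e800003000000003c600000000000003a60000000000000384000010000000036e000020000000034b000000000000032e000020000000031400003000000002fd00001000000002e200002000000002ce00002000000002af000040000000029c00001000000000e7000000000000027a00004000000002650000200000000257000010000000024a00004000000000b3000000000000023100002000000002250000400000000221000000000000007c000010000000006f0000300000000056000000000000003e0000000000000012)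
noncomputable def DTp4 : Nat := (nat_lit 0x40000000053800004000000004f400000000000004a300000000000004700000100000000445000030000000041200001000000003e900000000000003c700004000000003a60000200000000384000030000000036e000020000000034c000010000000032e000000000000031700000000000002fe00001000000002e300000000000002cf00004000000002af000030000000029c00002000000000e7000030000000027a00003000000002650000000000000258000010000000024d00003000000000b3000030000000023200003000000002250000300000000221000010000000007c0000200000000070000010000000005700001000000000400000000000000200)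
noncomputable def DTp5 : Nat := (nat_lit 0x30000000054000001000000004f700004000000004a600004000000004700000300000000446000010000000041400004000000003ec00003000000003c800003000000003a600001000000003850000000000000370000010000000034e000040000000032e0000400000000317000020000000030000002000000002e400002000000002cf00000000000002b0000000000000029f000030000000028f000000000000027d00004000000000d90000000000000259000040000000024d000000000000024000000000000000aa000010000000009e000010000000008d000040000000007c0000100000000210000000000000005800001000000000410000200000000200)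
noncomputable def DTp6 : Nat := (nat_lit 0x20000000054700001000000004f900004000000004a800003000000004700000100000000447000000000000041500000000000003ee00004000000003c900001000000003a7000020000000038700002000000003700000100000000351000030000000032e0000300000000317000000000000030100003000000002e500001000000002d100001000000002b1000020000000029f0000100000000290000030000000027d00003000000000d90000300000000259000020000000024e000040000000024000001000000000aa0000100000000226000020000000008d000000000000007d0000400000000210000000000000005900000000000000420000400000000200)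
noncomputable def DTp7 : Nat := (nat_lit 0x30000000055100000000000004fa00003000000004a800001000000004760000400000000449000010000000041600000000000003ef00003000000003c900004000000003a7000020000000038900000000000003740000400000000351000010000000032f0000100000000318000040000000030100003000000002e600004000000002d100002000000002b1000030000000029f00000000000000e9000010000000027e00001000000000da000010000000025a000030000000024e000030000000024000003000000000aa0000400000000227000000000000008e000010000000007e0000000000000073000040000000020900000000000000440000300000000200)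
noncomputable def DTp8 : Nat := (nat_lit 0x10000000055300003000000004fb00000000000004a900001000000004790000300000000449000030000000041700004000000003ef00001000000003cc00002000000003ac000030000000038900002000000003740000000000000352000030000000032f0000000000000319000030000000030100002000000002e800001000000002d200000000000002b200001000000002a000004000000000e9000000000000027f0000400000000267000000000000025b000010000000024f00001000000000b400001000000002330000300000000227000000000000008f000020000000007f0000000000000211000010000000005a0000400000000044000020000000001c)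
noncomputable def DTp9 : Nat := (nat_lit 0x30000000055300000000000004fe00001000000004ac000000000000047a000010000000044a000000000000041800003000000003ef00004000000003cc00000000000003ad000010000000038a000040000000037400001000000003530000200000000330000010000000031a000010000000030200003000000002e800000000000002d300002000000002b300001000000002a100003000000000e9000010000000027f0000300000000268000000000000025c000020000000024f00000000000000b500000000000000ab00001000000000a50000100000000091000040000000021d0000200000000211000040000000005a00003000000000440000200000000020)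
noncomputable def DTp10 : Nat := (nat_lit 0x10000000055500004000000004fe00003000000004b0000010000000047b000010000000044c000030000000041900003000000003f100001000000003cd00002000000003ae000000000000038b000030000000037400002000000003550000000000000331000040000000031a000040000000030200001000000002e900000000000002d400004000000000f900004000000002a100001000000000ea000040000000027f0000000000000269000030000000025c000000000000025000002000000000b50000100000000234000000000000022a0000200000000091000030000000021d0000400000000211000000000000005b00002000000000470000200000000022)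
noncomputable def DTp11 : Nat := (nat_lit 0x40000000055500003000000004fe00002000000004b4000010000000047c000000000000044d000040000000041a00001000000003f400004000000003cd00000000000003b1000020000000038e000010000000037500000000000003560000100000000331000030000000031a0000100000000303000020000000010400002000000002d400003000000000f900004000000002a20000000000000293000030000000027f000010000000026900001000000000d0000020000000025100000000000000b60000400000000234000030000000022a0000000000000092000010000000021e0000300000000211000040000000005b00001000000000480000400000000022)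
noncomputable def DTp12 : Nat := (nat_lit 0x100000000559000000000000050000004000000004b6000030000000047d000040000000044d000030000000041a00004000000003f600000000000003ce00004000000003b1000030000000038f000020000000037500004000000003560000400000000331000000000000031b000000000000030400004000000002ea00003000000002d400001000000002b500000000000002a5000010000000029400002000000000dd0000400000000269000040000000025d000040000000025100002000000000b6000010000000023500000000000000a60000100000000092000040000000021e0000100000000212000030000000005b00004000000000480000200000000024)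
noncomputable def DTp13 : Nat := (nat_lit 0x55a000020000000050200000000000004bb000000000000047e000030000000044d000010000000041e00003000000003f600001000000003cf00003000000003b10000100000000390000040000000037700003000000003560000200000000332000030000000031c000010000000030500003000000002ea00000000000002d500004000000002b500002000000002a5000020000000029400003000000000df0000300000000269000030000000025d000030000000025100001000000000b7000000000000023600001000000000a7000010000000009300001000000000800000200000000212000000000000020a00003000000000480000100000000027)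
noncomputable def DTp14 : Nat := (nat_lit 0x20000000055c000030000000050300004000000004bb0000100000000480000040000000044e000020000000041f00004000000003fb00000000000003d000001000000003b20000000000000391000030000000037700001000000003570000300000000333000000000000031d000020000000030500003000000002ec00004000000002d500002000000002b800003000000002a5000000000000029500001000000000e0000020000000026c000040000000025e00002000000000c500000000000000b8000020000000023600004000000000a7000040000000009300002000000000810000000000000213000010000000020a00001000000000490000000000000028)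
noncomputable def DTp15 : Nat := (nat_lit 0x55d000040000000050600003000000004bb00004000000004840000000000000450000000000000042100003000000003fd00003000000003d000004000000003b20000200000000392000010000000037800000000000003580000000000000335000020000000031d000040000000030500001000000002ed00003000000002d500001000000002ba00004000000002a600002000000000ed0000100000000280000040000000026d000030000000025e000000000000025200002000000000b8000040000000023700003000000000a7000000000000022200000000000000820000200000000214000040000000020a000000000000004a000000000000002b)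
noncomputable def DTp16 : Nat := (nat_lit 0x30000000055d000030000000050600001000000004bc00000000000004880000400000000451000040000000042200000000000003fe00004000000003d100000000000003b600001000000003940000000000000379000010000000035a0000100000000335000010000000031e000030000000030500000000000002ee00001000000002d600004000000002ba00001000000002a7000010000000029600002000000002800000100000000271000000000000025f000030000000025200001000000000b90000300000000238000000000000022b000010000000022200002000000000820000300000000214000030000000020a000040000000004a000020000000002c)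
noncomputable def DTp17 : Nat := (nat_lit 0x560000040000000050b00003000000004bd000010000000048a0000400000000452000000000000042300001000000003ff00001000000003d200003000000003b60000200000000394000040000000037a000010000000035b0000300000000335000040000000031e000020000000030700001000000002ee00002000000002d600000000000002bc00002000000002a7000020000000029600001000000002810000300000000271000020000000025f00002000000000c600003000000000b90000000000000239000020000000022b0000400000000222000030000000008200000000000002150000000000000060000030000000004a0000100000000201)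
noncomputable def DTp18 : Nat := (nat_lit 0x200000000568000030000000050b00002000000004be000030000000048a00003000000004520000300000000423000000000000040000001000000003d300004000000003b70000400000000394000000000000037b000040000000035b0000200000000336000030000000031e000020000000030800001000000002ef00001000000002d700003000000002bc00002000000002a800000000000000f000004000000002830000300000000272000010000000026000003000000000c800001000000000bb000010000000023a000040000000022b000030000000022200000000000000840000100000000216000010000000020c000000000000004b0000400000000201)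
noncomputable def DTp19 : Nat := (nat_lit 0x200000000569000010000000050c00003000000004c0000000000000048b00003000000004530000000000000428000020000000040200001000000003d500001000000003ba0000100000000395000020000000037b000040000000035c0000200000000337000010000000031f000010000000030900002000000002ef00004000000002d700002000000002bd00004000000002a800002000000000f0000030000000028300000000000002740000200000000260000000000000025300002000000000bb000000000000023b000030000000022b0000400000000223000030000000008400000000000002170000200000000063000040000000004b0000300000000201)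
noncomputable def DTp20 : Nat := (nat_lit 0x20000000056a000020000000050c00001000000004c1000020000000048b00003000000004540000300000000428000010000000040400000000000003d600000000000003bb000010000000039b000040000000037b000010000000035d00003000000003380000000000000320000000000000030a00000000000002f000004000000002d800002000000002bf00001000000000f500003000000000f000000000000002840000100000000274000000000000026100001000000000c900000000000000bc000040000000023b000010000000022c0000300000000223000040000000008500002000000002170000100000000064000020000000004d0000000000000202)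
noncomputable def DTp21 : Nat := (nat_lit 0x300000000571000000000000050d00003000000004c5000010000000048c0000100000000455000010000000042b000020000000040400000000000003d900001000000003bc000040000000039b000030000000037b000020000000035e000020000000033a0000300000000321000040000000030a00001000000002f100003000000002d800003000000002c200004000000000f500004000000000f10000400000000284000040000000027400001000000000d500002000000000c900002000000000bc000030000000023b000020000000022c000020000000009400003000000000850000000000000218000040000000006400004000000002040000200000000202)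
noncomputable def DTp22 : Nat := (nat_lit 0x100000000573000020000000050e00002000000004c7000030000000048f0000000000000456000010000000042c000010000000040500001000000003dd00003000000003bd000030000000039b000020000000037c0000000000000361000040000000033e0000000000000322000030000000030a00004000000002f100000000000002d900001000000002c300001000000002aa00001000000000f20000300000000284000030000000027400002000000000d500000000000000ca0000100000000241000010000000023c000000000000022d000040000000009400000000000000870000200000000218000020000000006500003000000002040000400000000202)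
noncomputable def DTp23 : Nat := (nat_lit 0x400000000573000010000000051200001000000004d100003000000004900000200000000457000000000000042e000040000000040600001000000003e100000000000003be000000000000039c000020000000037d0000300000000362000030000000033e0000000000000323000040000000030b00002000000002f200002000000002da00004000000002c300004000000002aa00002000000000f20000100000000285000010000000027500004000000000d500003000000000cb0000100000000242000040000000023c000020000000022d000030000000009400002000000000890000300000000218000040000000020d00001000000002050000300000000202)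
noncomputable def DTp24 : Nat := (nat_lit 0x300000000573000000000000051500004000000004d20000400000000495000010000000045a000020000000042f000030000000040800000000000003e200001000000003be000000000000039f000010000000037e0000000000000367000040000000033f0000200000000323000030000000030b00004000000002f300003000000002db00003000000002c300004000000002ab000010000000029700000000000000e3000040000000027500003000000000d50000000000000254000040000000024200000000000000b1000000000000022e0000100000000095000020000000008a0000100000000219000030000000020d0000100000000206000010000000002e)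
noncomputable def DTp25 : Nat := (nat_lit 0x30000000051500004000000004d30000300000000495000040000000045a0000300000000431000040000000040a00002000000003e200003000000003be000040000000039f000010000000037f000020000000036700002000000003400000400000000324000040000000030c00003000000002f300000000000002dc00003000000002c500003000000002ab000040000000029700002000000000e3000030000000027500001000000000d60000400000000254000030000000024200000000000000b2000020000000022e0000000000000096000040000000008a000040000000021900001000000000670000200000000206000020000000002e)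
noncomputable def DTp26 : Nat := (nat_lit 0x30000000051700003000000004d30000200000000496000020000000045c0000300000000432000030000000040a00004000000003e200002000000003bf000030000000039f000040000000037f000010000000036800002000000003410000300000000324000020000000010500001000000002f400002000000002dc00000000000002c800004000000002ac00004000000000f300001000000000e40000000000000276000000000000026200003000000002540000200000000243000010000000023d000030000000022e0000200000000096000030000000008a000010000000021a000040000000020e0000000000000207000000000000002f)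
noncomputable def DTp27 : Nat := (nat_lit 0x30000000051800001000000004d60000000000000497000000000000045f0000200000000435000040000000040d00003000000003e200000000000003c000001000000003a0000030000000037f000020000000036900000000000003420000400000000326000010000000030f00000000000002f500004000000002dc00002000000002c900001000000000f600003000000000f300000000000002870000100000000276000020000000026200001000000002550000300000000244000000000000023e00001000000000a8000020000000009a000000000000008b0000100000000074000030000000020e00002000000002070000400000000203)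
noncomputable def DTp28 : Nat := (nat_lit 0x10000000051b00004000000004d90000400000000499000040000000045f0000100000000437000030000000040d00004000000003e300001000000003c000002000000003a00000200000000381000040000000036a00000000000003430000200000000327000010000000010600002000000002f500003000000002dc00003000000002ca00000000000000f7000040000000029800001000000002880000400000000276000010000000026400000000000000cc0000100000000245000030000000023e000010000000022f000010000000009b000010000000008b00004000000000740000100000000068000000000000004f0000300000000203)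
noncomputable def DTp29 : Nat := (nat_lit 0x30000000051b00001000000004dc0000300000000499000030000000045f0000200000000438000010000000040e00002000000003e400004000000003c000000000000003a10000000000000382000000000000036b00001000000003440000000000000328000000000000031100004000000002f600001000000002dd00000000000002cd00004000000002ad000010000000029900001000000002890000300000000276000040000000026400000000000000cd0000100000000246000000000000023f000040000000022f000040000000009b000040000000008b000010000000021b000000000000006d00004000000002080000000000000034)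
noncomputable def DTp30 : Nat := (nat_lit 0x51e00001000000004e0000010000000049a0000300000000464000020000000043a000020000000040e00000000000003e600003000000003c000001000000003a10000200000000382000040000000036b00003000000003450000200000000328000020000000031200003000000002f600004000000002de00002000000002cd00003000000002ad0000200000000299000000000000028a000000000000027700004000000000d700000000000002560000200000000247000010000000023f00002000000000a9000030000000009b000030000000008b000000000000021c000020000000006d00001000000000500000200000000034)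
noncomputable def DTp31 : Nat := (nat_lit 0x20000000052200001000000004e1000040000000049a0000200000000466000010000000043c000000000000040f00003000000003e600002000000003c100004000000003a10000300000000382000030000000036b00002000000003470000000000000329000010000000031300001000000002f700001000000002df00004000000002cd00001000000000f8000000000000029a000020000000028a000000000000027800003000000000d700001000000002560000400000000248000040000000023f00004000000000a90000300000000224000010000000021f000020000000021c000030000000006d00002000000000500000400000000039)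
noncomputable def DT : Tr := (Tr.node (Tr.node (Tr.node (Tr.node (Tr.node (Tr.leaf DTp0) (Tr.leaf DTp16)) (Tr.node (Tr.leaf DTp8) (Tr.leaf DTp24))) (Tr.node (Tr.node (Tr.leaf DTp4) (Tr.leaf DTp20)) (Tr.node (Tr.leaf DTp12) (Tr.leaf DTp28)))) (Tr.node (Tr.node (Tr.node (Tr.leaf DTp2) (Tr.leaf DTp18)) (Tr.node (Tr.leaf DTp10) (Tr.leaf DTp26))) (Tr.node (Tr.node (Tr.leaf DTp6) (Tr.leaf DTp22)) (Tr.node (Tr.leaf DTp14) (Tr.leaf DTp30))))) (Tr.node (Tr.node (Tr.node (Tr.node (Tr.leaf DTp1) (Tr.leaf DTp17)) (Tr.node (Tr.leaf DTp9) (Tr.leaf DTp25))) (Tr.node (Tr.node (Tr.leaf DTp5) (Tr.leaf DTp21)) (Tr.node (Tr.leaf DTp13) (Tr.leaf DTp29)))) (Tr.node (Tr.node (Tr.node (Tr.leaf DTp3) (Tr.leaf DTp19)) (Tr.node (Tr.leaf DTp11) (Tr.leaf DTp27))) (Tr.node (Tr.node (Tr.leaf DTp7) (Tr.leaf DTp23)) (Tr.node (Tr.leaf DTp15) (Tr.leaf DTp31))))))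
noncomputable def s0 : Scr := (Scr.cons (nat_lit 21) (nat_lit 6) (Step.U (nat_lit 60) (Step.L (Step.L (Step.L (Step.L (Step.L (Step.L (Step.L (Step.L (Step.L (Step.L (Step.L (Step.L Step.done))))))))))))) (Scr.cons (nat_lit 8) (nat_lit 3) (Step.F (nat_lit 2) (Step.U (nat_lit 60) (Step.L Step.done))) (Scr.cons (nat_lit 8) (nat_lit 3) (Step.U (nat_lit 158) (Step.D (nat_lit 155) (Step.D (nat_lit 449) Step.done))) (Scr.cons (nat_lit 8) (nat_lit 1) (Step.U (nat_lit 31) (Step.L (Step.D (nat_lit 153) Step.done))) (Scr.cons (nat_lit 11) (nat_lit 5) (Step.U (nat_lit 792) (Step.U (nat_lit 446) (Step.F (nat_lit 5) (Step.U (nat_lit 31) (Step.L (Step.D (nat_lit 155) (Step.D (nat_lit 449) (Step.D (nat_lit 799) Step.done)))))))) (Scr.cons (nat_lit 9) (nat_lit 0) (Step.F (nat_lit 6) (Step.D (nat_lit 1019) Step.done)) (Scr.cons (nat_lit 11) (nat_lit 5) (Step.U (nat_lit 656) (Step.U (nat_lit 309) (Step.L (Step.L (Step.L (Step.L (Step.D (nat_lit 311) (Step.D (nat_lit 659) Step.done)))))))) (Scr.cons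 (nat_lit 9) (nat_lit 0) (Step.F (nat_lit 8) (Step.D (nat_lit 951) Step.done)) (Scr.cons (nat_lit 8) (nat_lit 3) (Step.L (Step.L (Step.D (nat_lit 311) Step.done))) (Scr.cons (nat_lit 9) (nat_lit 0) (Step.U (nat_lit 952) (Step.D (nat_lit 953) Step.done)) (Scr.cons (nat_lit 9) (nat_lit 0) (Step.U (nat_lit 153) (Step.D (nat_lit 154) Step.done)) (Scr.cons (nat_lit 8) (nat_lit 2) (Step.U (nat_lit 445) (Step.B (nat_lit 12) (Step.D (nat_lit 447) Step.done))) (Scr.cons (nat_lit 9) (nat_lit 0) (Step.F (nat_lit 13) (Step.D (nat_lit 790) Step.done)) (Scr.cons (nat_lit 18) (nat_lit 0) (Step.L (Step.D (nat_lit 73) Step.done)) (Scr.cons (nat_lit 21) (nat_lit 2) (Step.F (nat_lit 15) (Step.L (Step.L (Step.L (Step.L (Step.L (Step.L (Step.L (Step.L (Step.L (Step.L (Step.L (Step.L Step.done))))))))))))) (Scr.cons (nat_lit 21) (nat_lit 3) (Step.L (Step.L (Step.L (Step.L (Step.L (Step.B (nat_lit 15) (Step.B (nat_lit 16) (Step.L (Step.L (Step.L (Step.L (Step.L (Step.D (nat_lit 129) Step.done)))))))))))))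 (Scr.cons (nat_lit 8) (nat_lit 0) (Step.U (nat_lit 168) (Step.B (nat_lit 17) (Step.D (nat_lit 401) Step.done))) (Scr.cons (nat_lit 18) (nat_lit 0) (Step.F (nat_lit 18) (Step.D (nat_lit 467) Step.done)) (Scr.cons (nat_lit 8) (nat_lit 0) (Step.U (nat_lit 750) (Step.B (nat_lit 19) (Step.D (nat_lit 818) Step.done))) (Scr.cons (nat_lit 19) (nat_lit 0) (Step.F (nat_lit 20) (Step.U (nat_lit 750) (Step.F (nat_lit 18) (Step.U (nat_lit 168) (Step.L (Step.L (Step.L (Step.L (Step.D (nat_lit 31) (Step.B (nat_lit 5) (Step.B (nat_lit 12) (Step.D (nat_lit 447) (Step.B (nat_lit 14) Step.done))))))))))))) (Scr.cons (nat_lit 8) (nat_lit 0) (Step.U (nat_lit 128) (Step.L (Step.D (nat_lit 201) Step.done))) (Scr.cons (nat_lit 20) (nat_lit 3) (Step.U (nat_lit 507) (Step.F (nat_lit 22) (Step.U (nat_lit 128) (Step.D (nat_lit 129) (Step.F (nat_lit 17) (Step.D (nat_lit 168) (Step.D (nat_lit 466) (Step.D (nat_lit 817) Step.done)))))))) (Scr.cons (nat_lit 18) (nat_lit 0) (Step.F (nat_lit 23) (Step.D (nat_lit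 846) Step.done)) (Scr.cons (nat_lit 8) (nat_lit 0) (Step.L (Step.L (Step.D (nat_lit 359) Step.done))) (Scr.cons (nat_lit 21) (nat_lit 4) (Step.U (nat_lit 697) (Step.F (nat_lit 25) (Step.L (Step.L (Step.L (Step.L (Step.L (Step.L (Step.L (Step.L (Step.D (nat_lit 201) (Step.D (nat_lit 507) (Step.D (nat_lit 846) Step.done))))))))))))) (Scr.cons (nat_lit 11) (nat_lit 2) (Step.U (nat_lit 471) (Step.U (nat_lit 170) (Step.L (Step.L (Step.L (Step.L (Step.B (nat_lit 25) (Step.D (nat_lit 697) Step.done)))))))) (Scr.cons (nat_lit 8) (nat_lit 3) (Step.U (nat_lit 314) (Step.D (nat_lit 312) (Step.D (nat_lit 660) Step.done))) (Scr.cons (nat_lit 11) (nat_lit 5) (Step.U (nat_lit 470) (Step.U (nat_lit 170) (Step.L (Step.L (Step.L (Step.L (Step.B (nat_lit 25) (Step.D (nat_lit 697) Step.done)))))))) (Scr.cons (nat_lit 22) (nat_lit 2) (Step.U (nat_lit 653) (Step.U (nat_lit 306) (Step.L (Step.L (Step.L (Step.L (Step.L (Step.L (Step.L (Step.L (Step.L (Step.D (nat_lit 359) (Step.D (nat_lit 697) Step.done)))))))))))))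 (Scr.cons (nat_lit 8) (nat_lit 1) (Step.L (Step.L (Step.D (nat_lit 357) Step.done))) (Scr.cons (nat_lit 9) (nat_lit 0) (Step.U (nat_lit 357) (Step.D (nat_lit 358) Step.done)) (Scr.cons (nat_lit 8) (nat_lit 1) (Step.L (Step.L (Step.D (nat_lit 75) Step.done))) (Scr.cons (nat_lit 21) (nat_lit 13) (Step.U (nat_lit 20) (Step.U (nat_lit 2) (Step.L (Step.L (Step.L (Step.L (Step.L (Step.L (Step.L (Step.L (Step.L (Step.L (Step.D (nat_lit 76) Step.done))))))))))))) (Scr.cons (nat_lit 8) (nat_lit 2) (Step.B (nat_lit 34) (Step.U (nat_lit 76) (Step.D (nat_lit 74) Step.done))) (Scr.cons (nat_lit 9) (nat_lit 0) (Step.U (nat_lit 22) (Step.D (nat_lit 23) Step.done)) (Scr.cons (nat_lit 8) (nat_lit 2) (Step.U (nat_lit 114) (Step.B (nat_lit 36) (Step.D (nat_lit 115) Step.done))) (Scr.cons (nat_lit 10) (nat_lit 1) (Step.F (nat_lit 32) (Step.F (nat_lit 31) (Step.L (Step.L (Step.L (Step.B (nat_lit 33) (Step.U (nat_lit 75) (Step.D (nat_lit 74) (Step.F (nat_lit 35) (Step.U (nat_lit 20) (Step.D (nat_lit 23)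 (Step.D (nat_lit 115) (Step.F (nat_lit 37) Step.done))))))))))))) (Scr.cons (nat_lit 8) (nat_lit 3) (Step.B (nat_lit 32) (Step.B (nat_lit 38) (Step.D (nat_lit 370) Step.done))) (Scr.cons (nat_lit 20) (nat_lit 4) (Step.L (Step.L (Step.L (Step.L (Step.L (Step.L (Step.D (nat_lit 2) (Step.D (nat_lit 22) Step.done)))))))) (Scr.cons (nat_lit 12) (nat_lit 9) (Step.B (nat_lit 30) (Step.U (nat_lit 697) (Step.U (nat_lit 359) (Step.B (nat_lit 31) (Step.B (nat_lit 39) (Step.U (nat_lit 370) (Step.U (nat_lit 114) (Step.F (nat_lit 40) (Step.L (Step.L (Step.D (nat_lit 50) (Step.D (nat_lit 228) (Step.D (nat_lit 549) Step.done))))))))))))) Scr.nil))))))))))))))))))))))))))))))))))))))))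
noncomputable def s1 : Scr := (Scr.cons (nat_lit 18) (nat_lit 0) (Step.B (nat_lit 29) (Step.F (nat_lit 30) Step.done)) (Scr.cons (nat_lit 8) (nat_lit 2) (Step.F (nat_lit 41) (Step.F (nat_lit 42) (Step.D (nat_lit 820) Step.done))) (Scr.cons (nat_lit 8) (nat_lit 3) (Step.U (nat_lit 183) (Step.L (Step.D (nat_lit 491) Step.done))) (Scr.cons (nat_lit 21) (nat_lit 0) (Step.F (nat_lit 41) (Step.U (nat_lit 653) (Step.U (nat_lit 306) (Step.L (Step.L (Step.L (Step.L (Step.L (Step.L (Step.L (Step.L (Step.D (nat_lit 183) (Step.B (nat_lit 44) Step.done))))))))))))) (Scr.cons (nat_lit 9) (nat_lit 0) (Step.U (nat_lit 490) (Step.D (nat_lit 491) Step.done)) (Scr.cons (nat_lit 9) (nat_lit 0) (Step.U (nat_lit 85) (Step.L Step.done)) (Scr.cons (nat_lit 8) (nat_lit 2) (Step.U (nat_lit 315) (Step.B (nat_lit 47) (Step.D (nat_lit 316) Step.done))) (Scr.cons (nat_lit 12) (nat_lit 6) (Step.U (nat_lit 177) (Step.U (nat_lit 34) (Step.L (Step.L (Step.L (Step.L (Step.L (Step.L (Step.L (Step.L (Step.L (Step.L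 (Step.D (nat_lit 274) Step.done))))))))))))) (Scr.cons (nat_lit 8) (nat_lit 0) (Step.F (nat_lit 49) (Step.U (nat_lit 177) (Step.D (nat_lit 176) Step.done))) (Scr.cons (nat_lit 22) (nat_lit 6) (Step.U (nat_lit 278) (Step.U (nat_lit 65) (Step.L (Step.L (Step.L (Step.D (nat_lit 274) (Step.B (nat_lit 50) (Step.U (nat_lit 176) (Step.U (nat_lit 34) (Step.L (Step.L (Step.D (nat_lit 85) (Step.D (nat_lit 315) Step.done))))))))))))) (Scr.cons (nat_lit 9) (nat_lit 0) (Step.F (nat_lit 48) (Step.F (nat_lit 51) Step.done)) (Scr.cons (nat_lit 21) (nat_lit 13) (Step.L (Step.L (Step.L (Step.L (Step.L (Step.L (Step.L (Step.L (Step.L (Step.L (Step.D (nat_lit 65) (Step.D (nat_lit 278) (Step.F (nat_lit 52) Step.done))))))))))))) (Scr.cons (nat_lit 8) (nat_lit 1) (Step.F (nat_lit 52) (Step.F (nat_lit 53) (Step.D (nat_lit 490) Step.done))) (Scr.cons (nat_lit 8) (nat_lit 1) (Step.U (nat_lit 85) (Step.D (nat_lit 84) (Step.D (nat_lit 313) Step.done))) (Scr.cons (nat_lit 10) (nat_lit 1) (Step.B (nat_lit 27)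 (Step.F (nat_lit 29) (Step.D (nat_lit 820) (Step.F (nat_lit 43) (Step.B (nat_lit 45) (Step.F (nat_lit 46) (Step.F (nat_lit 54) (Step.F (nat_lit 52) (Step.U (nat_lit 316) (Step.F (nat_lit 47) (Step.B (nat_lit 55) (Step.U (nat_lit 313) (Step.D (nat_lit 312) (Step.D (nat_lit 660) Step.done)))))))))))))) (Scr.cons (nat_lit 1) (nat_lit 0) (Step.B (nat_lit 28) (Step.F (nat_lit 56) Step.done)) (Scr.cons (nat_lit 21) (nat_lit 4) (Step.U (nat_lit 794) (Step.B (nat_lit 14) (Step.F (nat_lit 21) (Step.U (nat_lit 818) (Step.U (nat_lit 467) (Step.D (nat_lit 466) (Step.D (nat_lit 817) (Step.B (nat_lit 24) (Step.F (nat_lit 26) (Step.F (nat_lit 27) (Step.F (nat_lit 57) (Step.D (nat_lit 661) (Step.D (nat_lit 952) Step.done))))))))))))) (Scr.cons (nat_lit 11) (nat_lit 4) (Step.F (nat_lit 11) (Step.F (nat_lit 58) (Step.U (nat_lit 794) (Step.U (nat_lit 447) (Step.F (nat_lit 12) (Step.D (nat_lit 446) (Step.D (nat_lit 791) (Step.D (nat_lit 1018) Step.done)))))))) (Scr.cons (nat_lit 8) (nat_lit 3) (Step.U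 (nat_lit 793) (Step.D (nat_lit 791) (Step.D (nat_lit 1018) Step.done))) (Scr.cons (nat_lit 13) (nat_lit 3) (Step.F (nat_lit 9) (Step.U (nat_lit 659) (Step.F (nat_lit 10) (Step.L (Step.D (nat_lit 84) (Step.D (nat_lit 314) (Step.D (nat_lit 661) (Step.D (nat_lit 953) (Step.B (nat_lit 59) (Step.F (nat_lit 60) (Step.U (nat_lit 793) (Step.D (nat_lit 792) (Step.D (nat_lit 1019) Step.done))))))))))))) (Scr.cons (nat_lit 8) (nat_lit 3) (Step.U (nat_lit 657) (Step.D (nat_lit 655) (Step.D (nat_lit 950) Step.done))) (Scr.cons (nat_lit 9) (nat_lit 0) (Step.U (nat_lit 913) (Step.D (nat_lit 914) Step.done)) (Scr.cons (nat_lit 9) (nat_lit 0) (Step.U (nat_lit 31) (Step.D (nat_lit 32) Step.done)) (Scr.cons (nat_lit 8) (nat_lit 2) (Step.U (nat_lit 159) (Step.B (nat_lit 64) (Step.D (nat_lit 160) Step.done))) (Scr.cons (nat_lit 10) (nat_lit 0) (Step.U (nat_lit 310) (Step.L (Step.L (Step.L (Step.L (Step.L (Step.L (Step.L (Step.L (Step.D (nat_lit 32) (Step.D (nat_lit 160) (Step.F (nat_lit 65) (Step.D (nat_lit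 453) Step.done))))))))))))) (Scr.cons (nat_lit 9) (nat_lit 0) (Step.U (nat_lit 472) (Step.D (nat_lit 473) Step.done)) (Scr.cons (nat_lit 8) (nat_lit 3) (Step.L (Step.D (nat_lit 171) (Step.D (nat_lit 473) Step.done))) (Scr.cons (nat_lit 8) (nat_lit 3) (Step.U (nat_lit 119) (Step.D (nat_lit 117) (Step.D (nat_lit 377) Step.done))) (Scr.cons (nat_lit 13) (nat_lit 5) (Step.F (nat_lit 69) (Step.U (nat_lit 119) (Step.U (nat_lit 24) (Step.L (Step.L (Step.L (Step.L (Step.L (Step.L (Step.L (Step.L (Step.L (Step.L Step.done))))))))))))) (Scr.cons (nat_lit 21) (nat_lit 3) (Step.B (nat_lit 67) (Step.F (nat_lit 68) (Step.F (nat_lit 70) (Step.U (nat_lit 377) (Step.U (nat_lit 117) (Step.U (nat_lit 24) (Step.L (Step.L (Step.L (Step.L (Step.L (Step.L (Step.L (Step.D (nat_lit 271) Step.done)))))))))))))) (Scr.cons (nat_lit 3) (nat_lit 0) (Step.F (nat_lit 67) (Step.B (nat_lit 71) Step.done)) (Scr.cons (nat_lit 8) (nat_lit 1) (Step.U (nat_lit 157) (Step.D (nat_lit 156) (Step.D (nat_lit 451) Step.done)))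 (Scr.cons (nat_lit 8) (nat_lit 3) (Step.L (Step.L (Step.D (nat_lit 32) Step.done))) (Scr.cons (nat_lit 11) (nat_lit 1) (Step.F (nat_lit 73) (Step.U (nat_lit 157) (Step.L (Step.D (nat_lit 32) (Step.F (nat_lit 74) (Step.L (Step.D (nat_lit 171) (Step.D (nat_lit 473) Step.done)))))))) (Scr.cons (nat_lit 9) (nat_lit 0) (Step.U (nat_lit 451) (Step.D (nat_lit 452) Step.done)) (Scr.cons (nat_lit 22) (nat_lit 5) (Step.U (nat_lit 262) (Step.U (nat_lit 64) (Step.L (Step.L (Step.L (Step.L (Step.L (Step.L (Step.L (Step.D (nat_lit 271) (Step.F (nat_lit 72) (Step.F (nat_lit 75) (Step.B (nat_lit 76) Step.done))))))))))))) (Scr.cons (nat_lit 8) (nat_lit 1) (Step.L (Step.D (nat_lit 64) (Step.D (nat_lit 262) Step.done))) (Scr.cons (nat_lit 21) (nat_lit 4) (Step.U (nat_lit 658) (Step.B (nat_lit 66) (Step.U (nat_lit 453) (Step.U (nat_lit 159) (Step.U (nat_lit 31) (Step.L (Step.D (nat_lit 156) (Step.D (nat_lit 452) (Step.F (nat_lit 77) (Step.F (nat_lit 78) (Step.D (nat_lit 264) (Step.D (nat_lit 594) (Step.D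 (nat_lit 913) Step.done))))))))))))) (Scr.cons (nat_lit 11) (nat_lit 4) (Step.F (nat_lit 63) (Step.F (nat_lit 79) (Step.U (nat_lit 658) (Step.U (nat_lit 310) (Step.L (Step.D (nat_lit 309) (Step.D (nat_lit 655) (Step.D (nat_lit 950) Step.done)))))))) (Scr.cons (nat_lit 8) (nat_lit 2) (Step.U (nat_lit 264) (Step.L (Step.D (nat_lit 265) Step.done))) Scr.nil))))))))))))))))))))))))))))))))))))))))
noncomputable def s2 : Scr := (Scr.cons (nat_lit 22) (nat_lit 0) (Step.B (nat_lit 4) (Step.D (nat_lit 799) (Step.B (nat_lit 7) (Step.F (nat_lit 61) (Step.U (nat_lit 951) (Step.U (nat_lit 656) (Step.D (nat_lit 657) (Step.B (nat_lit 62) (Step.F (nat_lit 80) (Step.U (nat_lit 914) (Step.U (nat_lit 594) (Step.B (nat_lit 81) (Step.D (nat_lit 595) (Step.D (nat_lit 915) Step.done)))))))))))))) (Scr.cons (nat_lit 3) (nat_lit 1) (Step.D (nat_lit 915) (Step.F (nat_lit 82) (Step.U (nat_lit 158) Step.done))) (Scr.cons (nat_lit 1) (nat_lit 0) (Step.D (nat_lit 595) (Step.B (nat_lit 83) (Step.D (nat_lit 156)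 Step.done))) (Scr.cons (nat_lit 9) (nat_lit 0) (Step.U (nat_lit 262) (Step.D (nat_lit 263) Step.done)) (Scr.cons (nat_lit 8) (nat_lit 1) (Step.U (nat_lit 450) (Step.D (nat_lit 452) (Step.F (nat_lit 77) (Step.B (nat_lit 85) Step.done)))) (Scr.cons (nat_lit 0) (nat_lit 0) (Step.D (nat_lit 450) (Step.B (nat_lit 86) Step.done)) (Scr.cons (nat_lit 0) (nat_lit 0) (Step.D (nat_lit 265) (Step.B (nat_lit 84) (Step.B (nat_lit 87) Step.done))) (Scr.cons (nat_lit 3) (nat_lit 1) (Step.D (nat_lit 263) (Step.F (nat_lit 88) (Step.L Step.done))) (Scr.cons (nat_lit 1) (nat_lit 0) (Step.D (nat_lit 64) (Step.B (nat_lit 89) Step.done)) (Scr.cons (nat_lit 9) (nat_lit 0) (Step.U (nat_lit 206) (Step.D (nat_lit 207) Step.done)) (Scr.cons (nat_lit 20) (nat_lit 5) (Step.U (nat_lit 175) (Step.U (nat_lit 34) (Step.L (Step.L (Step.L (Step.D (nat_lit 13) (Step.D (nat_lit 87) (Step.D (nat_lit 323) Step.done)))))))) (Scr.cons (nat_lit 8) (nat_lit 1) (Step.L (Step.D (nat_lit 13) (Step.D (nat_lit 87) Step.done)))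 (Scr.cons (nat_lit 20) (nat_lit 2) (Step.U (nat_lit 178) (Step.U (nat_lit 34) (Step.L (Step.L (Step.L (Step.L (Step.B (nat_lit 93) (Step.D (nat_lit 323) Step.done)))))))) (Scr.cons (nat_lit 8) (nat_lit 1) (Step.U (nat_lit 503) (Step.D (nat_lit 502) (Step.D (nat_lit 844) Step.done))) (Scr.cons (nat_lit 8) (nat_lit 3) (Step.U (nat_lit 196) (Step.D (nat_lit 194) (Step.D (nat_lit 501) Step.done))) (Scr.cons (nat_lit 12) (nat_lit 9) (Step.L (Step.L (Step.L (Step.L (Step.L (Step.L (Step.L (Step.L (Step.L (Step.L (Step.D (nat_lit 74) (Step.F (nat_lit 35) (Step.D (nat_lit 111) Step.done))))))))))))) (Scr.cons (nat_lit 11) (nat_lit 3) (Step.U (nat_lit 193) (Step.L (Step.B (nat_lit 97) (Step.U (nat_lit 111) (Step.U (nat_lit 20) (Step.D (nat_lit 23) (Step.D (nat_lit 116) (Step.D (nat_lit 371) Step.done)))))))) (Scr.cons (nat_lit 8) (nat_lit 3) (Step.B (nat_lit 98) (Step.U (nat_lit 371) (Step.D (nat_lit 374) Step.done))) (Scr.cons (nat_lit 9) (nat_lit 0) (Step.U (nat_lit 189) (Step.D (nat_lit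 190) Step.done)) (Scr.cons (nat_lit 8) (nat_lit 3) (Step.L (Step.L (Step.D (nat_lit 190) Step.done))) (Scr.cons (nat_lit 8) (nat_lit 2) (Step.F (nat_lit 97) (Step.L (Step.D (nat_lit 192) Step.done))) (Scr.cons (nat_lit 9) (nat_lit 0) (Step.U (nat_lit 75) (Step.D (nat_lit 76) Step.done)) (Scr.cons (nat_lit 11) (nat_lit 1) (Step.F (nat_lit 33) (Step.L (Step.L (Step.L (Step.L (Step.L (Step.L (Step.D (nat_lit 273) Step.done)))))))) (Scr.cons (nat_lit 8) (nat_lit 3) (Step.L (Step.L (Step.D (nat_lit 273) Step.done))) (Scr.cons (nat_lit 8) (nat_lit 2) (Step.U (nat_lit 274) (Step.L (Step.D (nat_lit 276) Step.done))) (Scr.cons (nat_lit 9) (nat_lit 0) (Step.F (nat_lit 106) (Step.B (nat_lit 50) Step.done)) (Scr.cons (nat_lit 8) (nat_lit 0) (Step.U (nat_lit 485) (Step.F (nat_lit 107) (Step.D (nat_lit 610) Step.done))) (Scr.cons (nat_lit 12) (nat_lit 2) (Step.U (nat_lit 499) (Step.B (nat_lit 100) (Step.F (nat_lit 101) (Step.D (nat_lit 192) (Step.F (nat_lit 102) (Step.U (nat_lit 111) (Step.B (nat_lit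 34) (Step.F (nat_lit 103) (Step.B (nat_lit 104) (Step.F (nat_lit 105) (Step.D (nat_lit 276) (Step.D (nat_lit 610) (Step.F (nat_lit 108) Step.done))))))))))))) (Scr.cons (nat_lit 21) (nat_lit 10) (Step.U (nat_lit 486) (Step.U (nat_lit 177) (Step.D (nat_lit 176) (Step.D (nat_lit 485) (Step.F (nat_lit 109) (Step.U (nat_lit 499) (Step.B (nat_lit 100) (Step.F (nat_lit 101) (Step.D (nat_lit 193) (Step.B (nat_lit 98) (Step.U (nat_lit 371) (Step.D (nat_lit 372) (Step.D (nat_lit 714) Step.done))))))))))))) (Scr.cons (nat_lit 13) (nat_lit 5) (Step.F (nat_lit 96) (Step.U (nat_lit 196) (Step.U (nat_lit 37) (Step.L (Step.L (Step.L (Step.D (nat_lit 193) (Step.B (nat_lit 99) (Step.U (nat_lit 374) (Step.D (nat_lit 372) (Step.D (nat_lit 714) (Step.F (nat_lit 110) (Step.D (nat_lit 831) Step.done))))))))))))) (Scr.cons (nat_lit 9) (nat_lit 0) (Step.U (nat_lit 177) (Step.D (nat_lit 178) Step.done)) (Scr.cons (nat_lit 8) (nat_lit 2) (Step.U (nat_lit 486) (Step.B (nat_lit 112) (Step.D (nat_lit 488) Step.done)))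 (Scr.cons (nat_lit 9) (nat_lit 0) (Step.F (nat_lit 113) (Step.D (nat_lit 831) Step.done)) (Scr.cons (nat_lit 11) (nat_lit 7) (Step.F (nat_lit 95) (Step.U (nat_lit 503) (Step.U (nat_lit 195) (Step.D (nat_lit 194) (Step.D (nat_lit 501) (Step.B (nat_lit 111) (Step.F (nat_lit 114) (Step.D (nat_lit 835) Step.done)))))))) (Scr.cons (nat_lit 9) (nat_lit 0) (Step.U (nat_lit 844) (Step.D (nat_lit 845) Step.done)) (Scr.cons (nat_lit 8) (nat_lit 3) (Step.L (Step.D (nat_lit 14) (Step.D (nat_lit 91) Step.done))) (Scr.cons (nat_lit 22) (nat_lit 1) (Step.L (Step.D (nat_lit 129) (Step.F (nat_lit 17) (Step.L (Step.L (Step.L (Step.L (Step.L (Step.L (Step.L (Step.L (Step.L (Step.B (nat_lit 117) Step.done))))))))))))) (Scr.cons (nat_lit 21) (nat_lit 3) (Step.U (nat_lit 201) (Step.B (nat_lit 118) (Step.U (nat_lit 91) (Step.U (nat_lit 14) (Step.L (Step.L (Step.L (Step.L (Step.L (Step.L (Step.L (Step.D (nat_lit 46) (Step.D (nat_lit 217) Step.done))))))))))))) (Scr.cons (nat_lit 21) (nat_lit 4) (Step.L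 (Step.L (Step.L (Step.D (nat_lit 201) (Step.B (nat_lit 119) (Step.U (nat_lit 217) (Step.U (nat_lit 46) (Step.L (Step.L (Step.L (Step.D (nat_lit 37) (Step.D (nat_lit 195) (Step.D (nat_lit 503) Step.done))))))))))))) (Scr.cons (nat_lit 12) (nat_lit 13) (Step.U (nat_lit 502) (Step.D (nat_lit 503) (Step.F (nat_lit 120) (Step.L (Step.L (Step.L (Step.L (Step.L (Step.L (Step.D (nat_lit 36) (Step.D (nat_lit 191) (Step.D (nat_lit 500) (Step.D (nat_lit 843) Step.done))))))))))))) Scr.nil))))))))))))))))))))))))))))))))))))))))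
noncomputable def s3 : Scr := (Scr.cons (nat_lit 18) (nat_lit 0) (Step.F (nat_lit 119) (Step.F (nat_lit 22) Step.done)) (Scr.cons (nat_lit 8) (nat_lit 2) (Step.U (nat_lit 46) (Step.L (Step.D (nat_lit 204) Step.done))) (Scr.cons (nat_lit 11) (nat_lit 5) (Step.U (nat_lit 92) (Step.L (Step.D (nat_lit 14) (Step.D (nat_lit 91) (Step.F (nat_lit 118) (Step.L (Step.L (Step.L Step.done)))))))) (Scr.cons (nat_lit 9) (nat_lit 0) (Step.F (nat_lit 124) (Step.D (nat_lit 330) Step.done)) (Scr.cons (nat_lit 9) (nat_lit 0) (Step.U (nat_lit 503) (Step.D (nat_lit 504) Step.done)) (Scr.cons (nat_lit 8) (nat_lit 1) (Step.F (nat_lit 126) (Step.F (nat_lit 120) (Step.B (nat_lit 125) Step.done))) (Scr.cons (nat_lit 20) (nat_lit 1) (Step.U (nat_lit 399) (Step.F (nat_lit 122) (Step.U (nat_lit 217) (Step.B (nat_lit 123) (Step.U (nat_lit 204) (Step.L (Step.B (nat_lit 125) (Step.F (nat_lit 127) Step.done)))))))) (Scr.cons (nat_lit 21) (nat_lit 6) (Step.F (nat_lit 121) (Step.U (nat_lit 502) (Step.D (nat_lit 504)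 (Step.F (nat_lit 128) (Step.U (nat_lit 399) (Step.B (nat_lit 22) (Step.U (nat_lit 201) (Step.L (Step.L (Step.L (Step.D (nat_lit 44) (Step.D (nat_lit 212) (Step.D (nat_lit 523) Step.done))))))))))))) (Scr.cons (nat_lit 8) (nat_lit 3) (Step.F (nat_lit 129) (Step.F (nat_lit 121) (Step.D (nat_lit 845) Step.done))) (Scr.cons (nat_lit 9) (nat_lit 0) (Step.U (nat_lit 44) (Step.D (nat_lit 45) Step.done)) (Scr.cons (nat_lit 8) (nat_lit 2) (Step.U (nat_lit 212) (Step.B (nat_lit 131) (Step.D (nat_lit 214) Step.done))) (Scr.cons (nat_lit 8) (nat_lit 3) (Step.U (nat_lit 45) (Step.L (Step.D (nat_lit 207) Step.done))) (Scr.cons (nat_lit 21) (nat_lit 11) (Step.U (nat_lit 482) (Step.B (nat_lit 92) (Step.F (nat_lit 94) (Step.D (nat_lit 488) (Step.D (nat_lit 835) (Step.F (nat_lit 115) (Step.B (nat_lit 116) (Step.F (nat_lit 130) (Step.U (nat_lit 523) (Step.B (nat_lit 132) (Step.U (nat_lit 214) (Step.B (nat_lit 133) (Step.F (nat_lit 91) (Step.D (nat_lit 515) Step.done)))))))))))))) (Scr.cons (nat_lit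 2) (nat_lit 0) (Step.D (nat_lit 515) (Step.F (nat_lit 134) (Step.D (nat_lit 825) Step.done))) (Scr.cons (nat_lit 2) (nat_lit 0) (Step.D (nat_lit 825) (Step.F (nat_lit 135) Step.done)) (Scr.cons (nat_lit 13) (nat_lit 2) (Step.U (nat_lit 226) (Step.U (nat_lit 48) (Step.L (Step.L (Step.L (Step.L (Step.L (Step.L (Step.L (Step.L (Step.D (nat_lit 13) (Step.D (nat_lit 87) (Step.D (nat_lit 322) Step.done))))))))))))) (Scr.cons (nat_lit 8) (nat_lit 2) (Step.U (nat_lit 547) (Step.B (nat_lit 137) (Step.D (nat_lit 667) Step.done))) (Scr.cons (nat_lit 9) (nat_lit 0) (Step.F (nat_lit 138) (Step.D (nat_lit 882) Step.done)) (Scr.cons (nat_lit 21) (nat_lit 6) (Step.U (nat_lit 460) (Step.U (nat_lit 165) (Step.L (Step.L (Step.L (Step.L (Step.L (Step.L (Step.L (Step.D (nat_lit 10) (Step.D (nat_lit 79) (Step.D (nat_lit 296) (Step.D (nat_lit 638) Step.done))))))))))))) (Scr.cons (nat_lit 18) (nat_lit 0) (Step.F (nat_lit 140) (Step.D (nat_lit 809) Step.done)) (Scr.cons (nat_lit 8) (nat_lit 0) (Step.U (nat_lit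 941) (Step.B (nat_lit 141) (Step.D (nat_lit 1026) Step.done))) (Scr.cons (nat_lit 8) (nat_lit 2) (Step.U (nat_lit 165) (Step.L (Step.D (nat_lit 167) Step.done))) (Scr.cons (nat_lit 8) (nat_lit 1) (Step.U (nat_lit 163) (Step.D (nat_lit 162) (Step.D (nat_lit 459) Step.done))) (Scr.cons (nat_lit 20) (nat_lit 4) (Step.U (nat_lit 164) (Step.U (nat_lit 33) (Step.L (Step.L (Step.L (Step.L (Step.L (Step.D (nat_lit 182) Step.done)))))))) (Scr.cons (nat_lit 8) (nat_lit 1) (Step.U (nat_lit 484) (Step.D (nat_lit 482) (Step.D (nat_lit 826) Step.done))) (Scr.cons (nat_lit 18) (nat_lit 0) (Step.F (nat_lit 92) (Step.D (nat_lit 484) Step.done)) (Scr.cons (nat_lit 9) (nat_lit 0) (Step.U (nat_lit 355) (Step.D (nat_lit 356) Step.done)) (Scr.cons (nat_lit 8) (nat_lit 1) (Step.U (nat_lit 102) (Step.D (nat_lit 101) (Step.D (nat_lit 355) Step.done))) (Scr.cons (nat_lit 12) (nat_lit 0) (Step.U (nat_lit 557) (Step.U (nat_lit 234) (Step.U (nat_lit 52) (Step.L (Step.L (Step.L (Step.L (Step.L (Step.L (Step.L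 (Step.D (nat_lit 63) (Step.D (nat_lit 254) (Step.D (nat_lit 580) Step.done))))))))))))) (Scr.cons (nat_lit 21) (nat_lit 0) (Step.U (nat_lit 234) (Step.U (nat_lit 52) (Step.L (Step.L (Step.L (Step.L (Step.B (nat_lit 78) (Step.B (nat_lit 77) (Step.F (nat_lit 76) (Step.B (nat_lit 75) (Step.F (nat_lit 68) (Step.L (Step.D (nat_lit 475) Step.done))))))))))))) (Scr.cons (nat_lit 8) (nat_lit 2) (Step.F (nat_lit 150) (Step.U (nat_lit 557) (Step.B (nat_lit 151) Step.done))) (Scr.cons (nat_lit 22) (nat_lit 1) (Step.U (nat_lit 353) (Step.L (Step.F (nat_lit 16) (Step.F (nat_lit 15) (Step.L (Step.L (Step.L (Step.L (Step.L (Step.L (Step.L (Step.D (nat_lit 475) (Step.F (nat_lit 152) (Step.F (nat_lit 150) Step.done)))))))))))))) (Scr.cons (nat_lit 1) (nat_lit 0) (Step.F (nat_lit 150) (Step.F (nat_lit 153) Step.done)) (Scr.cons (nat_lit 22) (nat_lit 5) (Step.U (nat_lit 75) (Step.L (Step.L (Step.L (Step.L (Step.L (Step.L (Step.L (Step.L (Step.L (Step.L (Step.D (nat_lit 63) (Step.D (nat_lit 255) Step.done)))))))))))))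 (Scr.cons (nat_lit 12) (nat_lit 6) (Step.F (nat_lit 149) (Step.U (nat_lit 102) (Step.U (nat_lit 16) (Step.L (Step.L (Step.D (nat_lit 353) (Step.F (nat_lit 154) (Step.U (nat_lit 580) (Step.U (nat_lit 254) (Step.D (nat_lit 255) (Step.F (nat_lit 155) (Step.B (nat_lit 104) (Step.U (nat_lit 273) (Step.D (nat_lit 272) Step.done)))))))))))))) (Scr.cons (nat_lit 3) (nat_lit 0) (Step.F (nat_lit 148) (Step.B (nat_lit 156) Step.done)) (Scr.cons (nat_lit 8) (nat_lit 1) (Step.L (Step.D (nat_lit 272) (Step.F (nat_lit 157) Step.done))) (Scr.cons (nat_lit 10) (nat_lit 0) (Step.U (nat_lit 354) (Step.D (nat_lit 356) (Step.F (nat_lit 158) (Step.L (Step.L (Step.L (Step.D (nat_lit 276) (Step.F (nat_lit 106) (Step.F (nat_lit 49) (Step.U (nat_lit 177) (Step.D (nat_lit 175) (Step.B (nat_lit 92) (Step.D (nat_lit 668) Step.done))))))))))))) (Scr.cons (nat_lit 9) (nat_lit 0) (Step.F (nat_lit 159) (Step.D (nat_lit 695) Step.done)) (Scr.cons (nat_lit 8) (nat_lit 3) (Step.U (nat_lit 356) (Step.D (nat_lit 354)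 (Step.D (nat_lit 695) Step.done))) Scr.nil))))))))))))))))))))))))))))))))))))))))
noncomputable def s4 : Scr := (Scr.cons (nat_lit 12) (nat_lit 13) (Step.F (nat_lit 161) (Step.U (nat_lit 356) (Step.U (nat_lit 101) (Step.U (nat_lit 16) (Step.L (Step.L (Step.L (Step.L (Step.L (Step.L (Step.D (nat_lit 67) (Step.D (nat_lit 282) (Step.D (nat_lit 617) Step.done))))))))))))) (Scr.cons (nat_lit 8) (nat_lit 1) (Step.U (nat_lit 618) (Step.D (nat_lit 617) (Step.D (nat_lit 929) Step.done))) (Scr.cons (nat_lit 9) (nat_lit 0) (Step.U (nat_lit 618) (Step.D (nat_lit 619) Step.done)) (Scr.cons (nat_lit 9) (nat_lit 0) (Step.U (nat_lit 840) (Step.D (nat_lit 841) Step.done)) (Scr.cons (nat_lit 9) (nat_lit 0) (Step.L (Step.D (nat_lit 67) Step.done)) (Scr.cons (nat_lit 13) (nat_lit 1) (Step.U (nat_lit 618) (Step.U (nat_lit 282) (Step.F (nat_lit 166) (Step.L (Step.L (Step.L (Step.L (Step.L (Step.L (Step.L (Step.D (nat_lit 186) (Step.D (nat_lit 495) (Step.D (nat_lit 840) Step.done))))))))))))) (Scr.cons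 (nat_lit 8) (nat_lit 1) (Step.F (nat_lit 165) (Step.F (nat_lit 167) (Step.B (nat_lit 164) Step.done))) (Scr.cons (nat_lit 19) (nat_lit 1) (Step.U (nat_lit 824) (Step.D (nat_lit 826) (Step.F (nat_lit 146) (Step.F (nat_lit 147) (Step.D (nat_lit 668) (Step.B (nat_lit 160) (Step.B (nat_lit 162) (Step.D (nat_lit 929) (Step.F (nat_lit 163) (Step.B (nat_lit 164) (Step.F (nat_lit 168) (Step.U (nat_lit 841) (Step.D (nat_lit 839) Step.done))))))))))))) (Scr.cons (nat_lit 8) (nat_lit 3) (Step.F (nat_lit 169) (Step.U (nat_lit 824) (Step.D (nat_lit 827) Step.done))) (Scr.cons (nat_lit 8) (nat_lit 1) (Step.U (nat_lit 493) (Step.D (nat_lit 492) (Step.D (nat_lit 837) Step.done))) (Scr.cons (nat_lit 21) (nat_lit 8) (Step.U (nat_lit 828) (Step.U (nat_lit 483) (Step.D (nat_lit 482) (Step.D (nat_lit 827) (Step.F (nat_lit 170) (Step.U (nat_lit 839) (Step.U (nat_lit 495) (Step.U (nat_lit 186) (Step.L (Step.L (Step.D (nat_lit 181) (Step.D (nat_lit 493) (Step.B (nat_lit 171) Step.done))))))))))))) (Scr.cons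 (nat_lit 9) (nat_lit 0) (Step.U (nat_lit 87) (Step.D (nat_lit 88) Step.done)) (Scr.cons (nat_lit 8) (nat_lit 2) (Step.U (nat_lit 322) (Step.B (nat_lit 173) (Step.D (nat_lit 324) Step.done))) (Scr.cons (nat_lit 9) (nat_lit 0) (Step.F (nat_lit 174) (Step.F (nat_lit 137) Step.done)) (Scr.cons (nat_lit 8) (nat_lit 0) (Step.U (nat_lit 546) (Step.F (nat_lit 175) (Step.D (nat_lit 669) Step.done))) (Scr.cons (nat_lit 18) (nat_lit 0) (Step.F (nat_lit 176) (Step.D (nat_lit 880) Step.done)) (Scr.cons (nat_lit 13) (nat_lit 3) (Step.B (nat_lit 145) (Step.U (nat_lit 182) (Step.D (nat_lit 181) (Step.D (nat_lit 492) (Step.D (nat_lit 837) (Step.F (nat_lit 172) (Step.U (nat_lit 828) (Step.U (nat_lit 483) (Step.B (nat_lit 92) (Step.U (nat_lit 323) (Step.D (nat_lit 322) (Step.B (nat_lit 174) (Step.D (nat_lit 669) (Step.B (nat_lit 177) Step.done)))))))))))))) (Scr.cons (nat_lit 9) (nat_lit 0) (Step.U (nat_lit 163) (Step.D (nat_lit 164) Step.done)) (Scr.cons (nat_lit 3) (nat_lit 0) (Step.D (nat_lit 880)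 (Step.F (nat_lit 178) (Step.F (nat_lit 179) Step.done))) (Scr.cons (nat_lit 0) (nat_lit 0) (Step.D (nat_lit 546) (Step.B (nat_lit 180) (Step.B (nat_lit 144) Step.done))) (Scr.cons (nat_lit 0) (nat_lit 0) (Step.B (nat_lit 144) (Step.F (nat_lit 181) Step.done)) (Scr.cons (nat_lit 19) (nat_lit 0) (Step.F (nat_lit 142) (Step.U (nat_lit 941) (Step.F (nat_lit 140) (Step.U (nat_lit 460) (Step.B (nat_lit 143) (Step.U (nat_lit 167) (Step.L (Step.D (nat_lit 33) (Step.D (nat_lit 163) (Step.B (nat_lit 182) (Step.B (nat_lit 137) (Step.D (nat_lit 667) (Step.B (nat_lit 139) Step.done))))))))))))) (Scr.cons (nat_lit 8) (nat_lit 2) (Step.U (nat_lit 960) (Step.B (nat_lit 139) (Step.F (nat_lit 183) Step.done))) (Scr.cons (nat_lit 12) (nat_lit 4) (Step.U (nat_lit 852) (Step.U (nat_lit 516) (Step.F (nat_lit 91) (Step.F (nat_lit 136) (Step.U (nat_lit 482) (Step.B (nat_lit 92) (Step.U (nat_lit 323) (Step.D (nat_lit 322) (Step.D (nat_lit 667) (Step.D (nat_lit 960) (Step.B (nat_lit 184) (Step.U (nat_lit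 1026) (Step.D (nat_lit 1027) Step.done))))))))))))) (Scr.cons (nat_lit 20) (nat_lit 3) (Step.U (nat_lit 1030) (Step.F (nat_lit 169) (Step.U (nat_lit 824) (Step.B (nat_lit 136) (Step.B (nat_lit 91) (Step.D (nat_lit 516) (Step.D (nat_lit 853) (Step.D (nat_lit 1034) Step.done)))))))) (Scr.cons (nat_lit 8) (nat_lit 1) (Step.B (nat_lit 186) (Step.U (nat_lit 1034) (Step.D (nat_lit 1035) Step.done))) (Scr.cons (nat_lit 9) (nat_lit 0) (Step.F (nat_lit 123) (Step.D (nat_lit 218) Step.done)) (Scr.cons (nat_lit 9) (nat_lit 0) (Step.U (nat_lit 300) (Step.D (nat_lit 301) Step.done)) (Scr.cons (nat_lit 18) (nat_lit 0) (Step.F (nat_lit 17) (Step.L Step.done)) (Scr.cons (nat_lit 10) (nat_lit 1) (Step.B (nat_lit 190) (Step.L (Step.L (Step.L (Step.L (Step.L (Step.L (Step.L (Step.L (Step.L (Step.L (Step.D (nat_lit 81) (Step.D (nat_lit 301) Step.done))))))))))))) (Scr.cons (nat_lit 8) (nat_lit 0) (Step.B (nat_lit 189) (Step.F (nat_lit 191) (Step.B (nat_lit 190) (Step.D (nat_lit 169) Step.done)))) (Scr.cons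 (nat_lit 3) (nat_lit 1) (Step.D (nat_lit 300) (Step.B (nat_lit 192) Step.done)) (Scr.cons (nat_lit 21) (nat_lit 11) (Step.F (nat_lit 123) (Step.U (nat_lit 46) (Step.L (Step.L (Step.L (Step.L (Step.L (Step.L (Step.L (Step.L (Step.D (nat_lit 169) (Step.F (nat_lit 193) (Step.D (nat_lit 299) Step.done))))))))))))) (Scr.cons (nat_lit 11) (nat_lit 3) (Step.U (nat_lit 535) (Step.F (nat_lit 188) (Step.B (nat_lit 194) (Step.U (nat_lit 299) (Step.U (nat_lit 81) (Step.L (Step.D (nat_lit 302) (Step.D (nat_lit 643) Step.done)))))))) (Scr.cons (nat_lit 9) (nat_lit 0) (Step.F (nat_lit 195) (Step.D (nat_lit 872) Step.done)) (Scr.cons (nat_lit 13) (nat_lit 6) (Step.U (nat_lit 1040) (Step.U (nat_lit 861) (Step.U (nat_lit 526) (Step.U (nat_lit 213) (Step.U (nat_lit 44) (Step.L (Step.L (Step.L (Step.D (nat_lit 46) (Step.D (nat_lit 218) (Step.D (nat_lit 535) (Step.D (nat_lit 872) (Step.D (nat_lit 1042) Step.done))))))))))))) (Scr.cons (nat_lit 8) (nat_lit 2) (Step.F (nat_lit 197) (Step.U (nat_lit 1040)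 (Step.D (nat_lit 1039) Step.done))) (Scr.cons (nat_lit 8) (nat_lit 1) (Step.U (nat_lit 140) (Step.D (nat_lit 139) (Step.D (nat_lit 416) Step.done))) (Scr.cons (nat_lit 20) (nat_lit 2) (Step.U (nat_lit 762) (Step.U (nat_lit 415) (Step.U (nat_lit 138) (Step.U (nat_lit 29) (Step.D (nat_lit 30) (Step.D (nat_lit 140) (Step.B (nat_lit 199) (Step.D (nat_lit 764) Step.done)))))))) (Scr.cons (nat_lit 9) (nat_lit 0) (Step.U (nat_lit 633) (Step.D (nat_lit 634) Step.done)) Scr.nil))))))))))))))))))))))))))))))))))))))))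
noncomputable def s5 : Scr := (Scr.cons (nat_lit 8) (nat_lit 2) (Step.U (nat_lit 936) (Step.B (nat_lit 201) (Step.D (nat_lit 937) Step.done))) (Scr.cons (nat_lit 20) (nat_lit 5) (Step.U (nat_lit 760) (Step.U (nat_lit 415) (Step.U (nat_lit 138) (Step.U (nat_lit 29) (Step.D (nat_lit 30) (Step.D (nat_lit 139) (Step.D (nat_lit 416) (Step.D (nat_lit 764) Step.done)))))))) (Scr.cons (nat_lit 21) (nat_lit 7) (Step.U (nat_lit 677) (Step.U (nat_lit 334) (Step.U (nat_lit 94) (Step.L (Step.L (Step.L (Step.L (Step.L (Step.L (Step.L (Step.D (nat_lit 165) (Step.D (nat_lit 461) (Step.D (nat_lit 811) Step.done))))))))))))) (Scr.cons (nat_lit 8) (nat_lit 3) (Step.F (nat_lit 140) (Step.U (nat_lit 460) (Step.D (nat_lit 462) Step.done))) (Scr.cons (nat_lit 11) (nat_lit 1) (Step.B (nat_lit 204) (Step.U (nat_lit 811) (Step.U (nat_lit 461) (Step.D (nat_lit 462) (Step.F (nat_lit 205) (Step.U (nat_lit 638) (Step.D (nat_lit 637) (Step.D (nat_lit 940) Step.done)))))))) (Scr.cons (nat_lit 9) (nat_lit 0) (Step.U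 (nat_lit 334) (Step.D (nat_lit 335) Step.done)) (Scr.cons (nat_lit 9) (nat_lit 0) (Step.L (Step.D (nat_lit 95) Step.done)) (Scr.cons (nat_lit 8) (nat_lit 2) (Step.U (nat_lit 331) (Step.B (nat_lit 208) (Step.D (nat_lit 336) Step.done))) (Scr.cons (nat_lit 19) (nat_lit 1) (Step.U (nat_lit 317) (Step.L (Step.L (Step.L (Step.L (Step.L (Step.L (Step.L (Step.L (Step.L (Step.L (Step.B (nat_lit 208) (Step.D (nat_lit 336) Step.done))))))))))))) (Scr.cons (nat_lit 18) (nat_lit 0) (Step.B (nat_lit 209) (Step.F (nat_lit 210) Step.done)) (Scr.cons (nat_lit 9) (nat_lit 0) (Step.U (nat_lit 18) (Step.D (nat_lit 19) Step.done)) (Scr.cons (nat_lit 8) (nat_lit 3) (Step.L (Step.D (nat_lit 1) (Step.D (nat_lit 19) Step.done))) (Scr.cons (nat_lit 22) (nat_lit 6) (Step.U (nat_lit 123) (Step.L (Step.L (Step.L (Step.L (Step.L (Step.L (Step.L (Step.L (Step.L (Step.L (Step.L (Step.D (nat_lit 184) Step.done))))))))))))) (Scr.cons (nat_lit 8) (nat_lit 1) (Step.F (nat_lit 214) (Step.U (nat_lit 123) (Step.D (nat_lit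 124) Step.done))) (Scr.cons (nat_lit 21) (nat_lit 1) (Step.U (nat_lit 109) (Step.B (nat_lit 212) (Step.F (nat_lit 213) (Step.L (Step.D (nat_lit 124) (Step.F (nat_lit 215) (Step.U (nat_lit 184) (Step.L (Step.L (Step.L (Step.L (Step.L (Step.D (nat_lit 317) Step.done))))))))))))) (Scr.cons (nat_lit 20) (nat_lit 4) (Step.U (nat_lit 19) (Step.U (nat_lit 1) (Step.L (Step.L (Step.L (Step.L (Step.L (Step.L Step.done)))))))) (Scr.cons (nat_lit 8) (nat_lit 3) (Step.L (Step.D (nat_lit 29) (Step.D (nat_lit 138) Step.done))) (Scr.cons (nat_lit 9) (nat_lit 0) (Step.U (nat_lit 137) (Step.D (nat_lit 138) Step.done)) (Scr.cons (nat_lit 22) (nat_lit 1) (Step.U (nat_lit 335) (Step.U (nat_lit 94) (Step.L (Step.D (nat_lit 331) (Step.B (nat_lit 211) (Step.F (nat_lit 216) (Step.U (nat_lit 109) (Step.B (nat_lit 212) (Step.B (nat_lit 217) (Step.L (Step.B (nat_lit 218) (Step.F (nat_lit 219) (Step.D (nat_lit 413) Step.done))))))))))))) (Scr.cons (nat_lit 8) (nat_lit 2) (Step.U (nat_lit 413) (Step.B (nat_lit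 219) (Step.D (nat_lit 414) Step.done))) (Scr.cons (nat_lit 20) (nat_lit 0) (Step.F (nat_lit 206) (Step.U (nat_lit 677) (Step.B (nat_lit 207) (Step.B (nat_lit 220) (Step.B (nat_lit 221) (Step.U (nat_lit 414) (Step.D (nat_lit 415) (Step.D (nat_lit 761) Step.done)))))))) (Scr.cons (nat_lit 9) (nat_lit 0) (Step.U (nat_lit 79) (Step.D (nat_lit 80) Step.done)) (Scr.cons (nat_lit 8) (nat_lit 2) (Step.U (nat_lit 296) (Step.B (nat_lit 223) (Step.D (nat_lit 298) Step.done))) (Scr.cons (nat_lit 8) (nat_lit 1) (Step.U (nat_lit 293) (Step.D (nat_lit 292) (Step.D (nat_lit 633) Step.done))) (Scr.cons (nat_lit 19) (nat_lit 1) (Step.F (nat_lit 203) (Step.U (nat_lit 760) (Step.D (nat_lit 761) (Step.F (nat_lit 222) (Step.U (nat_lit 940) (Step.U (nat_lit 637) (Step.B (nat_lit 224) (Step.U (nat_lit 298) (Step.U (nat_lit 80) (Step.D (nat_lit 77) (Step.D (nat_lit 293) (Step.B (nat_lit 225) (Step.B (nat_lit 201) (Step.D (nat_lit 937) Step.done)))))))))))))) (Scr.cons (nat_lit 3) (nat_lit 1) (Step.B (nat_lit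 202) (Step.F (nat_lit 226) Step.done)) (Scr.cons (nat_lit 8) (nat_lit 2) (Step.U (nat_lit 514) (Step.B (nat_lit 91) (Step.D (nat_lit 516) Step.done))) (Scr.cons (nat_lit 8) (nat_lit 3) (Step.U (nat_lit 304) (Step.D (nat_lit 303) (Step.D (nat_lit 648) Step.done))) (Scr.cons (nat_lit 21) (nat_lit 1) (Step.U (nat_lit 674) (Step.U (nat_lit 330) (Step.U (nat_lit 92) (Step.L (Step.L (Step.L (Step.L (Step.L (Step.D (nat_lit 12) (Step.D (nat_lit 82) (Step.D (nat_lit 304) (Step.B (nat_lit 229) (Step.D (nat_lit 944) Step.done))))))))))))) (Scr.cons (nat_lit 8) (nat_lit 3) (Step.B (nat_lit 195) (Step.U (nat_lit 643) (Step.D (nat_lit 646) Step.done))) (Scr.cons (nat_lit 22) (nat_lit 4) (Step.U (nat_lit 644) (Step.D (nat_lit 646) (Step.F (nat_lit 231) (Step.U (nat_lit 535) (Step.U (nat_lit 218) (Step.D (nat_lit 217) (Step.F (nat_lit 119) (Step.U (nat_lit 201) (Step.L (Step.L (Step.L (Step.B (nat_lit 125) (Step.D (nat_lit 674) Step.done))))))))))))) (Scr.cons (nat_lit 8) (nat_lit 1) (Step.L (Step.L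 (Step.D (nat_lit 11) Step.done))) (Scr.cons (nat_lit 12) (nat_lit 13) (Step.D (nat_lit 944) (Step.F (nat_lit 230) (Step.F (nat_lit 232) (Step.U (nat_lit 644) (Step.U (nat_lit 302) (Step.L (Step.L (Step.B (nat_lit 233) (Step.U (nat_lit 11) (Step.D (nat_lit 10) (Step.D (nat_lit 78) (Step.D (nat_lit 295) (Step.D (nat_lit 636) (Step.D (nat_lit 939) Step.done)))))))))))))) (Scr.cons (nat_lit 1) (nat_lit 0) (Step.D (nat_lit 939) (Step.F (nat_lit 234) (Step.F (nat_lit 229) Step.done))) (Scr.cons (nat_lit 2) (nat_lit 0) (Step.D (nat_lit 636) (Step.B (nat_lit 235) (Step.D (nat_lit 649) Step.done))) (Scr.cons (nat_lit 2) (nat_lit 0) (Step.D (nat_lit 649) (Step.F (nat_lit 236) Step.done)) (Scr.cons (nat_lit 22) (nat_lit 4) (Step.U (nat_lit 345) (Step.L (Step.L (Step.L (Step.L (Step.L (Step.L (Step.L (Step.L (Step.L (Step.L (Step.D (nat_lit 148) (Step.D (nat_lit 429) Step.done))))))))))))) (Scr.cons (nat_lit 12) (nat_lit 1) (Step.U (nat_lit 428) (Step.D (nat_lit 429) (Step.F (nat_lit 238) (Step.U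 (nat_lit 345) (Step.L (Step.L (Step.L (Step.L (Step.L (Step.D (nat_lit 12) (Step.D (nat_lit 82) (Step.D (nat_lit 303) (Step.D (nat_lit 647) Step.done))))))))))))) (Scr.cons (nat_lit 9) (nat_lit 0) (Step.U (nat_lit 148) (Step.D (nat_lit 149) Step.done)) (Scr.cons (nat_lit 8) (nat_lit 2) (Step.U (nat_lit 428) (Step.B (nat_lit 240) (Step.D (nat_lit 430) Step.done))) Scr.nil))))))))))))))))))))))))))))))))))))))))
noncomputable def s6 : Scr := (Scr.cons (nat_lit 18) (nat_lit 0) (Step.F (nat_lit 239) (Step.B (nat_lit 241) Step.done)) (Scr.cons (nat_lit 11) (nat_lit 5) (Step.U (nat_lit 219) (Step.L (Step.L (Step.L (Step.L (Step.L (Step.D (nat_lit 207) (Step.D (nat_lit 517) Step.done)))))))) (Scr.cons (nat_lit 9) (nat_lit 0) (Step.F (nat_lit 243) (Step.D (nat_lit 536) Step.done)) (Scr.cons (nat_lit 8) (nat_lit 2) (Step.U (nat_lit 854) (Step.B (nat_lit 244) (Step.D (nat_lit 873) Step.done))) (Scr.cons (nat_lit 8) (nat_lit 3) (Step.U (nat_lit 330) (Step.D (nat_lit 329) (Step.D (nat_lit 673)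 Step.done))) (Scr.cons (nat_lit 9) (nat_lit 0) (Step.U (nat_lit 672) (Step.D (nat_lit 673) Step.done)) (Scr.cons (nat_lit 8) (nat_lit 2) (Step.U (nat_lit 962) (Step.B (nat_lit 247) (Step.D (nat_lit 963) Step.done))) (Scr.cons (nat_lit 12) (nat_lit 8) (Step.U (nat_lit 776) (Step.U (nat_lit 428) (Step.U (nat_lit 148) (Step.L (Step.L (Step.L (Step.L (Step.L (Step.L (Step.L (Step.B (nat_lit 125) (Step.B (nat_lit 246) (Step.D (nat_lit 963) (Step.F (nat_lit 248) Step.done)))))))))))))) (Scr.cons (nat_lit 1) (nat_lit 0) (Step.D (nat_lit 962) (Step.F (nat_lit 249) Step.done)) (Scr.cons (nat_lit 13) (nat_lit 2) (Step.U (nat_lit 778) (Step.F (nat_lit 241) (Step.D (nat_lit 776) (Step.F (nat_lit 250) (Step.B (nat_lit 247) (Step.F (nat_lit 246) (Step.F (nat_lit 125) (Step.L (Step.L (Step.L (Step.D (nat_lit 219) (Step.B (nat_lit 243) (Step.D (nat_lit 854) Step.done))))))))))))) (Scr.cons (nat_lit 9) (nat_lit 0) (Step.F (nat_lit 245) (Step.F (nat_lit 251) Step.done)) (Scr.cons (nat_lit 20) (nat_lit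 2) (Step.U (nat_lit 1033) (Step.U (nat_lit 851) (Step.B (nat_lit 228) (Step.U (nat_lit 516) (Step.D (nat_lit 517) (Step.B (nat_lit 244) (Step.D (nat_lit 873) (Step.D (nat_lit 1043) Step.done)))))))) (Scr.cons (nat_lit 13) (nat_lit 2) (Step.U (nat_lit 635) (Step.U (nat_lit 294) (Step.D (nat_lit 295) (Step.F (nat_lit 237) (Step.B (nat_lit 229) (Step.U (nat_lit 648) (Step.D (nat_lit 647) (Step.B (nat_lit 242) (Step.D (nat_lit 778) (Step.F (nat_lit 252) (Step.D (nat_lit 1043) (Step.F (nat_lit 253) (Step.U (nat_lit 1033) (Step.D (nat_lit 1032) Step.done)))))))))))))) (Scr.cons (nat_lit 1) (nat_lit 0) (Step.D (nat_lit 1032) (Step.F (nat_lit 254) (Step.D (nat_lit 938) Step.done))) (Scr.cons (nat_lit 1) (nat_lit 0) (Step.D (nat_lit 938) (Step.F (nat_lit 255) Step.done)) (Scr.cons (nat_lit 12) (nat_lit 3) (Step.U (nat_lit 213) (Step.B (nat_lit 131) (Step.B (nat_lit 133) (Step.D (nat_lit 516) (Step.F (nat_lit 228) (Step.D (nat_lit 851) (Step.F (nat_lit 256) (Step.U (nat_lit 635) (Step.U (nat_lit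 294) (Step.U (nat_lit 78) (Step.D (nat_lit 77) (Step.D (nat_lit 292) (Step.D (nat_lit 633) (Step.D (nat_lit 936) Step.done)))))))))))))) (Scr.cons (nat_lit 3) (nat_lit 1) (Step.F (nat_lit 227) (Step.F (nat_lit 257) (Step.D (nat_lit 526) Step.done))) (Scr.cons (nat_lit 1) (nat_lit 0) (Step.B (nat_lit 200) (Step.B (nat_lit 258) (Step.D (nat_lit 861) Step.done))) (Scr.cons (nat_lit 0) (nat_lit 0) (Step.U (nat_lit 1039) (Step.F (nat_lit 259) (Step.D (nat_lit 999) Step.done))) (Scr.cons (nat_lit 9) (nat_lit 0) (Step.U (nat_lit 761) (Step.D (nat_lit 762) Step.done)) (Scr.cons (nat_lit 8) (nat_lit 2) (Step.U (nat_lit 998) (Step.B (nat_lit 261) (Step.D (nat_lit 999) Step.done))) (Scr.cons (nat_lit 3) (nat_lit 0) (Step.B (nat_lit 198) (Step.B (nat_lit 260) (Step.F (nat_lit 262) Step.done))) (Scr.cons (nat_lit 2) (nat_lit 0) (Step.D (nat_lit 1042) (Step.B (nat_lit 263) Step.done)) (Scr.cons (nat_lit 9) (nat_lit 0) (Step.B (nat_lit 203) (Step.F (nat_lit 227) Step.done)) (Scr.cons (nat_lit 3)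 (nat_lit 0) (Step.B (nat_lit 265) (Step.F (nat_lit 257) (Step.D (nat_lit 527) Step.done))) (Scr.cons (nat_lit 0) (nat_lit 0) (Step.D (nat_lit 760) (Step.B (nat_lit 266) (Step.D (nat_lit 863) Step.done))) (Scr.cons (nat_lit 0) (nat_lit 0) (Step.D (nat_lit 863) (Step.F (nat_lit 267) Step.done)) (Scr.cons (nat_lit 8) (nat_lit 3) (Step.U (nat_lit 527) (Step.D (nat_lit 525) (Step.D (nat_lit 860) Step.done))) (Scr.cons (nat_lit 9) (nat_lit 0) (Step.F (nat_lit 132) (Step.D (nat_lit 524) Step.done)) (Scr.cons (nat_lit 8) (nat_lit 3) (Step.U (nat_lit 524) (Step.D (nat_lit 522) (Step.D (nat_lit 858) Step.done))) (Scr.cons (nat_lit 8) (nat_lit 3) (Step.L (Step.D (nat_lit 3) (Step.D (nat_lit 28) Step.done))) (Scr.cons (nat_lit 12) (nat_lit 8) (Step.U (nat_lit 745) (Step.U (nat_lit 394) (Step.U (nat_lit 127) (Step.F (nat_lit 272) (Step.L (Step.L (Step.L (Step.L (Step.L (Step.D (nat_lit 44) (Step.D (nat_lit 212) (Step.D (nat_lit 522) (Step.D (nat_lit 858) Step.done))))))))))))) (Scr.cons (nat_lit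 9) (nat_lit 0) (Step.U (nat_lit 394) (Step.D (nat_lit 395) Step.done)) (Scr.cons (nat_lit 8) (nat_lit 2) (Step.U (nat_lit 745) (Step.B (nat_lit 274) (Step.D (nat_lit 746) Step.done))) (Scr.cons (nat_lit 20) (nat_lit 2) (Step.U (nat_lit 395) (Step.U (nat_lit 127) (Step.U (nat_lit 28) (Step.U (nat_lit 3) (Step.L (Step.L (Step.L (Step.D (nat_lit 396) Step.done)))))))) (Scr.cons (nat_lit 9) (nat_lit 0) (Step.U (nat_lit 797) (Step.D (nat_lit 798) Step.done)) (Scr.cons (nat_lit 9) (nat_lit 0) (Step.U (nat_lit 1047) (Step.D (nat_lit 1048) Step.done)) (Scr.cons (nat_lit 8) (nat_lit 3) (Step.U (nat_lit 884) (Step.D (nat_lit 883) (Step.D (nat_lit 1048) Step.done))) (Scr.cons (nat_lit 8) (nat_lit 3) (Step.B (nat_lit 160) (Step.B (nat_lit 162) (Step.D (nat_lit 930) Step.done))) (Scr.cons (nat_lit 20) (nat_lit 4) (Step.L (Step.L (Step.L (Step.L (Step.L (Step.D (nat_lit 16) (Step.D (nat_lit 101) (Step.D (nat_lit 355) Step.done)))))))) Scr.nil))))))))))))))))))))))))))))))))))))))))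
noncomputable def s7 : Scr := (Scr.cons (nat_lit 2) (nat_lit 0) (Step.B (nat_lit 281) (Step.B (nat_lit 156) Step.done)) (Scr.cons (nat_lit 13) (nat_lit 0) (Step.U (nat_lit 250) (Step.U (nat_lit 61) (Step.U (nat_lit 8) (Step.L (Step.L (Step.L (Step.L (Step.L (Step.L (Step.L (Step.L (Step.D (nat_lit 151) (Step.D (nat_lit 440) Step.done))))))))))))) (Scr.cons (nat_lit 8) (nat_lit 1) (Step.B (nat_lit 283) (Step.U (nat_lit 440) (Step.D (nat_lit 441) Step.done))) (Scr.cons (nat_lit 21) (nat_lit 1) (Step.U (nat_lit 431) (Step.L (Step.L (Step.D (nat_lit 151) (Step.D (nat_lit 441) (Step.F (nat_lit 284) (Step.U (nat_lit 250) (Step.U (nat_lit 61) (Step.U (nat_lit 8) (Step.L (Step.L (Step.L (Step.D (nat_lit 248) Step.done))))))))))))) (Scr.cons (nat_lit 18) (nat_lit 0) (Step.F (nat_lit 2) (Step.D (nat_lit 247) Step.done)) (Scr.cons (nat_lit 8) (nat_lit 0) (Step.U (nat_lit 248) (Step.B (nat_lit 286) (Step.D (nat_lit 575) Step.done))) (Scr.cons (nat_lit 9) (nat_lit 0) (Step.U (nat_lit 51) (Step.L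 Step.done)) (Scr.cons (nat_lit 8) (nat_lit 2) (Step.U (nat_lit 232) (Step.B (nat_lit 288) (Step.D (nat_lit 233) Step.done))) (Scr.cons (nat_lit 9) (nat_lit 0) (Step.F (nat_lit 289) (Step.D (nat_lit 553) Step.done)) (Scr.cons (nat_lit 8) (nat_lit 1) (Step.L (Step.L (Step.D (nat_lit 51) Step.done))) (Scr.cons (nat_lit 19) (nat_lit 0) (Step.F (nat_lit 287) (Step.U (nat_lit 248) (Step.F (nat_lit 2) (Step.U (nat_lit 60) (Step.L (Step.L (Step.L (Step.L (Step.L (Step.B (nat_lit 291) (Step.B (nat_lit 288) (Step.D (nat_lit 233) (Step.B (nat_lit 290) Step.done))))))))))))) (Scr.cons (nat_lit 8) (nat_lit 2) (Step.U (nat_lit 554) (Step.B (nat_lit 290) (Step.F (nat_lit 292) Step.done))) (Scr.cons (nat_lit 9) (nat_lit 0) (Step.B (nat_lit 287) (Step.F (nat_lit 293) Step.done)) (Scr.cons (nat_lit 13) (nat_lit 5) (Step.F (nat_lit 280) (Step.B (nat_lit 160) (Step.F (nat_lit 161) (Step.B (nat_lit 157) (Step.F (nat_lit 282) (Step.L (Step.D (nat_lit 431) (Step.B (nat_lit 285) (Step.B (nat_lit 294) (Step.U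 (nat_lit 554) (Step.F (nat_lit 289) (Step.D (nat_lit 552) (Step.D (nat_lit 884) Step.done))))))))))))) (Scr.cons (nat_lit 21) (nat_lit 3) (Step.B (nat_lit 278) (Step.F (nat_lit 279) (Step.F (nat_lit 295) (Step.U (nat_lit 930) (Step.F (nat_lit 162) (Step.F (nat_lit 161) (Step.B (nat_lit 157) (Step.F (nat_lit 282) (Step.L (Step.L (Step.L (Step.D (nat_lit 434) (Step.D (nat_lit 782) (Step.D (nat_lit 1014) Step.done)))))))))))))) (Scr.cons (nat_lit 3) (nat_lit 1) (Step.D (nat_lit 1047) (Step.B (nat_lit 296) Step.done)) (Scr.cons (nat_lit 8) (nat_lit 3) (Step.U (nat_lit 256) (Step.D (nat_lit 253) (Step.D (nat_lit 579) Step.done))) (Scr.cons (nat_lit 9) (nat_lit 0) (Step.U (nat_lit 255) (Step.D (nat_lit 256) Step.done)) (Scr.cons (nat_lit 8) (nat_lit 1) (Step.U (nat_lit 458) (Step.D (nat_lit 457) (Step.D (nat_lit 806) Step.done))) (Scr.cons (nat_lit 21) (nat_lit 9) (Step.U (nat_lit 899) (Step.F (nat_lit 298) (Step.F (nat_lit 299) (Step.F (nat_lit 155) (Step.F (nat_lit 33) (Step.L (Step.L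 (Step.L (Step.B (nat_lit 74) (Step.D (nat_lit 161) (Step.D (nat_lit 458) (Step.B (nat_lit 300) (Step.D (nat_lit 1024) Step.done))))))))))))) (Scr.cons (nat_lit 11) (nat_lit 5) (Step.U (nat_lit 897) (Step.U (nat_lit 576) (Step.U (nat_lit 249) (Step.L (Step.D (nat_lit 63) (Step.D (nat_lit 253) (Step.D (nat_lit 579) (Step.D (nat_lit 899) Step.done)))))))) (Scr.cons (nat_lit 9) (nat_lit 0) (Step.F (nat_lit 301) (Step.F (nat_lit 302) Step.done)) (Scr.cons (nat_lit 9) (nat_lit 0) (Step.U (nat_lit 806) (Step.D (nat_lit 807) Step.done)) (Scr.cons (nat_lit 8) (nat_lit 1) (Step.F (nat_lit 303) (Step.U (nat_lit 1024) (Step.B (nat_lit 304) Step.done))) (Scr.cons (nat_lit 21) (nat_lit 6) (Step.U (nat_lit 434) (Step.L (Step.L (Step.L (Step.L (Step.L (Step.L (Step.L (Step.L (Step.L (Step.D (nat_lit 48) (Step.D (nat_lit 225) (Step.D (nat_lit 545) Step.done))))))))))))) (Scr.cons (nat_lit 8) (nat_lit 3) (Step.F (nat_lit 306) (Step.U (nat_lit 434) (Step.D (nat_lit 436) Step.done))) (Scr.cons (nat_lit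 9) (nat_lit 0) (Step.U (nat_lit 556) (Step.D (nat_lit 557) Step.done)) (Scr.cons (nat_lit 3) (nat_lit 1) (Step.B (nat_lit 308) (Step.F (nat_lit 153) Step.done)) (Scr.cons (nat_lit 20) (nat_lit 4) (Step.U (nat_lit 550) (Step.U (nat_lit 229) (Step.L (Step.D (nat_lit 51) (Step.F (nat_lit 291) (Step.D (nat_lit 52) (Step.D (nat_lit 234) (Step.D (nat_lit 556) Step.done)))))))) (Scr.cons (nat_lit 8) (nat_lit 3) (Step.U (nat_lit 231) (Step.D (nat_lit 229) (Step.D (nat_lit 550) Step.done))) (Scr.cons (nat_lit 13) (nat_lit 3) (Step.L (Step.L (Step.L (Step.L (Step.L (Step.L (Step.L (Step.D (nat_lit 353) (Step.F (nat_lit 309) (Step.F (nat_lit 310) (Step.F (nat_lit 311) (Step.U (nat_lit 231) (Step.D (nat_lit 230) (Step.D (nat_lit 551) Step.done)))))))))))))) (Scr.cons (nat_lit 3) (nat_lit 1) (Step.D (nat_lit 551) (Step.F (nat_lit 312) (Step.D (nat_lit 437) Step.done))) (Scr.cons (nat_lit 3) (nat_lit 1) (Step.D (nat_lit 437) (Step.F (nat_lit 313) Step.done)) (Scr.cons (nat_lit 8) (nat_lit 0) (Step.U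 (nat_lit 694) (Step.F (nat_lit 309) (Step.D (nat_lit 886) Step.done))) (Scr.cons (nat_lit 18) (nat_lit 0) (Step.F (nat_lit 315) (Step.D (nat_lit 972) Step.done)) (Scr.cons (nat_lit 8) (nat_lit 3) (Step.U (nat_lit 23) (Step.D (nat_lit 20) (Step.D (nat_lit 112) Step.done))) (Scr.cons (nat_lit 9) (nat_lit 0) (Step.F (nat_lit 35) (Step.D (nat_lit 112) Step.done)) (Scr.cons (nat_lit 12) (nat_lit 10) (Step.U (nat_lit 632) (Step.U (nat_lit 291) (Step.U (nat_lit 74) (Step.L (Step.L (Step.L (Step.L (Step.L (Step.B (nat_lit 74) (Step.D (nat_lit 160) (Step.F (nat_lit 65) (Step.D (nat_lit 454) (Step.D (nat_lit 801) Step.done))))))))))))) (Scr.cons (nat_lit 22) (nat_lit 3) (Step.F (nat_lit 316) (Step.U (nat_lit 886) (Step.U (nat_lit 556) (Step.U (nat_lit 234) (Step.U (nat_lit 52) (Step.L (Step.B (nat_lit 40) (Step.B (nat_lit 36) (Step.B (nat_lit 317) (Step.F (nat_lit 318) (Step.D (nat_lit 291) (Step.D (nat_lit 632) (Step.B (nat_lit 319) Step.done))))))))))))) (Scr.cons (nat_lit 12) (nat_lit 0)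 (Step.B (nat_lit 307) (Step.U (nat_lit 436) (Step.L (Step.L (Step.B (nat_lit 314) (Step.U (nat_lit 230) (Step.D (nat_lit 229) (Step.D (nat_lit 550) (Step.B (nat_lit 310) (Step.D (nat_lit 886) (Step.B (nat_lit 316) (Step.B (nat_lit 320) (Step.U (nat_lit 801) (Step.D (nat_lit 800) Step.done)))))))))))))) Scr.nil))))))))))))))))))))))))))))))))))))))))
noncomputable def s8 : Scr := (Scr.cons (nat_lit 0) (nat_lit 0) (Step.D (nat_lit 800) (Step.F (nat_lit 321) (Step.D (nat_lit 879) Step.done))) (Scr.cons (nat_lit 0) (nat_lit 0) (Step.D (nat_lit 879) (Step.F (nat_lit 322) Step.done)) (Scr.cons (nat_lit 18) (nat_lit 0) (Step.F (nat_lit 306) (Step.D (nat_lit 783) Step.done)) (Scr.cons (nat_lit 11) (nat_lit 4) (Step.U (nat_lit 806) (Step.U (nat_lit 457) (Step.U (nat_lit 161) (Step.D (nat_lit 160) (Step.F (nat_lit 65) (Step.D (nat_lit 454) (Step.F (nat_lit 323) (Step.B (nat_lit 324) Step.done)))))))) (Scr.cons (nat_lit 21) (nat_lit 12) (Step.U (nat_lit 782) (Step.U (nat_lit 434) (Step.L (Step.L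 (Step.B (nat_lit 314) (Step.U (nat_lit 230) (Step.L (Step.D (nat_lit 51) (Step.F (nat_lit 291) (Step.L (Step.L (Step.D (nat_lit 555) (Step.D (nat_lit 885) Step.done))))))))))))) (Scr.cons (nat_lit 8) (nat_lit 1) (Step.F (nat_lit 326) (Step.U (nat_lit 782) (Step.D (nat_lit 783) Step.done))) (Scr.cons (nat_lit 11) (nat_lit 7) (Step.B (nat_lit 305) (Step.F (nat_lit 304) (Step.B (nat_lit 325) (Step.F (nat_lit 327) (Step.F (nat_lit 326) (Step.D (nat_lit 1014) (Step.F (nat_lit 297) (Step.D (nat_lit 1046) Step.done)))))))) (Scr.cons (nat_lit 8) (nat_lit 0) (Step.U (nat_lit 103) (Step.B (nat_lit 15) (Step.D (nat_lit 290) Step.done))) (Scr.cons (nat_lit 18) (nat_lit 0) (Step.F (nat_lit 329) (Step.D (nat_lit 360) Step.done)) (Scr.cons (nat_lit 8) (nat_lit 0) (Step.U (nat_lit 630) (Step.B (nat_lit 330) (Step.D (nat_lit 698) Step.done))) (Scr.cons (nat_lit 8) (nat_lit 1) (Step.F (nat_lit 299) (Step.F (nat_lit 155) (Step.B (nat_lit 103) Step.done))) (Scr.cons (nat_lit 19) (nat_lit 0) (Step.F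 (nat_lit 331) (Step.U (nat_lit 630) (Step.F (nat_lit 329) (Step.U (nat_lit 103) (Step.L (Step.L (Step.L (Step.B (nat_lit 33) (Step.B (nat_lit 103) (Step.F (nat_lit 332) (Step.U (nat_lit 256) (Step.D (nat_lit 253) (Step.D (nat_lit 578) Step.done))))))))))))) (Scr.cons (nat_lit 8) (nat_lit 2) (Step.U (nat_lit 577) (Step.D (nat_lit 578) (Step.F (nat_lit 333) Step.done))) (Scr.cons (nat_lit 9) (nat_lit 0) (Step.B (nat_lit 331) (Step.F (nat_lit 334) Step.done)) (Scr.cons (nat_lit 21) (nat_lit 2) (Step.U (nat_lit 744) (Step.U (nat_lit 393) (Step.U (nat_lit 127) (Step.U (nat_lit 28) (Step.U (nat_lit 3) (Step.L (Step.L (Step.L (Step.L (Step.B (nat_lit 15) (Step.D (nat_lit 290) (Step.D (nat_lit 630) (Step.D (nat_lit 935) Step.done))))))))))))) (Scr.cons (nat_lit 22) (nat_lit 5) (Step.F (nat_lit 297) (Step.D (nat_lit 1046) (Step.F (nat_lit 328) (Step.B (nat_lit 302) (Step.U (nat_lit 899) (Step.U (nat_lit 579) (Step.D (nat_lit 577) (Step.F (nat_lit 335) (Step.D (nat_lit 935) (Step.F (nat_lit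 336) (Step.U (nat_lit 744) (Step.D (nat_lit 743) (Step.D (nat_lit 993) Step.done))))))))))))) (Scr.cons (nat_lit 8) (nat_lit 1) (Step.U (nat_lit 235) (Step.D (nat_lit 234) (Step.D (nat_lit 556) Step.done))) (Scr.cons (nat_lit 21) (nat_lit 13) (Step.F (nat_lit 327) (Step.U (nat_lit 885) (Step.U (nat_lit 555) (Step.L (Step.L (Step.D (nat_lit 52) (Step.D (nat_lit 235) (Step.B (nat_lit 338) (Step.D (nat_lit 886) (Step.B (nat_lit 316) (Step.B (nat_lit 320) (Step.U (nat_lit 801) (Step.D (nat_lit 803) Step.done))))))))))))) (Scr.cons (nat_lit 9) (nat_lit 0) (Step.U (nat_lit 802) (Step.D (nat_lit 803) Step.done)) (Scr.cons (nat_lit 9) (nat_lit 0) (Step.U (nat_lit 6) (Step.D (nat_lit 7) Step.done)) (Scr.cons (nat_lit 8) (nat_lit 2) (Step.U (nat_lit 56) (Step.B (nat_lit 341) (Step.D (nat_lit 58) Step.done))) (Scr.cons (nat_lit 9) (nat_lit 0) (Step.F (nat_lit 342) (Step.D (nat_lit 240) Step.done)) (Scr.cons (nat_lit 8) (nat_lit 2) (Step.U (nat_lit 242) (Step.B (nat_lit 343) (Step.D (nat_lit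 564) Step.done))) (Scr.cons (nat_lit 8) (nat_lit 1) (Step.L (Step.D (nat_lit 0) (Step.D (nat_lit 6) Step.done))) (Scr.cons (nat_lit 12) (nat_lit 3) (Step.U (nat_lit 240) (Step.U (nat_lit 56) (Step.F (nat_lit 345) (Step.L (Step.L (Step.L (Step.L (Step.L (Step.L (Step.L (Step.L (Step.D (nat_lit 153) (Step.D (nat_lit 445) Step.done))))))))))))) (Scr.cons (nat_lit 20) (nat_lit 3) (Step.U (nat_lit 567) (Step.B (nat_lit 344) (Step.U (nat_lit 564) (Step.B (nat_lit 346) (Step.B (nat_lit 13) (Step.U (nat_lit 447) (Step.D (nat_lit 448) (Step.D (nat_lit 796) Step.done)))))))) (Scr.cons (nat_lit 9) (nat_lit 0) (Step.U (nat_lit 48) (Step.D (nat_lit 49) Step.done)) (Scr.cons (nat_lit 8) (nat_lit 2) (Step.U (nat_lit 225) (Step.B (nat_lit 348) (Step.D (nat_lit 227) Step.done))) (Scr.cons (nat_lit 22) (nat_lit 3) (Step.U (nat_lit 418) (Step.U (nat_lit 141) (Step.L (Step.L (Step.L (Step.L (Step.L (Step.L (Step.L (Step.D (nat_lit 436) (Step.F (nat_lit 307) (Step.U (nat_lit 545) (Step.B (nat_lit 349)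 Step.done))))))))))))) (Scr.cons (nat_lit 12) (nat_lit 1) (Step.U (nat_lit 548) (Step.F (nat_lit 350) (Step.U (nat_lit 418) (Step.U (nat_lit 141) (Step.L (Step.L (Step.L (Step.L (Step.L (Step.L (Step.D (nat_lit 132) (Step.D (nat_lit 404) (Step.D (nat_lit 752) Step.done))))))))))))) (Scr.cons (nat_lit 12) (nat_lit 0) (Step.U (nat_lit 406) (Step.U (nat_lit 132) (Step.L (Step.L (Step.L (Step.L (Step.L (Step.L (Step.D (nat_lit 2) (Step.D (nat_lit 23) (Step.D (nat_lit 116) (Step.D (nat_lit 372) (Step.D (nat_lit 711) Step.done))))))))))))) (Scr.cons (nat_lit 8) (nat_lit 2) (Step.F (nat_lit 352) (Step.U (nat_lit 406) (Step.D (nat_lit 404) Step.done))) (Scr.cons (nat_lit 18) (nat_lit 0) (Step.B (nat_lit 353) (Step.D (nat_lit 754) Step.done)) (Scr.cons (nat_lit 8) (nat_lit 1) (Step.B (nat_lit 351) (Step.U (nat_lit 752) (Step.D (nat_lit 754) Step.done))) (Scr.cons (nat_lit 21) (nat_lit 13) (Step.F (nat_lit 355) (Step.U (nat_lit 548) (Step.F (nat_lit 350) (Step.U (nat_lit 418) (Step.U (nat_lit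 141) (Step.F (nat_lit 217) (Step.U (nat_lit 19) (Step.U (nat_lit 1) (Step.D (nat_lit 2) (Step.D (nat_lit 23) (Step.D (nat_lit 116) (Step.D (nat_lit 372) (Step.D (nat_lit 714) Step.done))))))))))))) (Scr.cons (nat_lit 22) (nat_lit 5) (Step.U (nat_lit 691) (Step.U (nat_lit 348) (Step.U (nat_lit 100) (Step.L (Step.L (Step.L (Step.L (Step.L (Step.L (Step.D (nat_lit 34) (Step.D (nat_lit 177) (Step.D (nat_lit 487) (Step.D (nat_lit 833) Step.done))))))))))))) (Scr.cons (nat_lit 8) (nat_lit 1) (Step.U (nat_lit 349) (Step.D (nat_lit 348) (Step.D (nat_lit 691) Step.done))) (Scr.cons (nat_lit 8) (nat_lit 3) (Step.L (Step.D (nat_lit 15) (Step.D (nat_lit 97) Step.done))) (Scr.cons (nat_lit 9) (nat_lit 0) (Step.U (nat_lit 96) (Step.D (nat_lit 97) Step.done)) (Scr.cons (nat_lit 12) (nat_lit 0) (Step.U (nat_lit 831) (Step.U (nat_lit 486) (Step.D (nat_lit 487) (Step.D (nat_lit 833) (Step.F (nat_lit 357) (Step.F (nat_lit 358) (Step.U (nat_lit 349) (Step.U (nat_lit 100) (Step.B (nat_lit 359) (Step.F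 (nat_lit 360) (Step.D (nat_lit 339) (Step.D (nat_lit 681) (Step.D (nat_lit 968) Step.done))))))))))))) Scr.nil))))))))))))))))))))))))))))))))))))))))
noncomputable def s9 : Scr := (Scr.cons (nat_lit 8) (nat_lit 2) (Step.F (nat_lit 361) (Step.U (nat_lit 831) (Step.D (nat_lit 830) Step.done))) (Scr.cons (nat_lit 12) (nat_lit 8) (Step.U (nat_lit 789) (Step.U (nat_lit 444) (Step.U (nat_lit 152) (Step.L (Step.L (Step.L (Step.L (Step.L (Step.D (nat_lit 34) (Step.D (nat_lit 177) (Step.D (nat_lit 486) (Step.D (nat_lit 830) (Step.F (nat_lit 362) Step.done))))))))))))) (Scr.cons (nat_lit 11) (nat_lit 3) (Step.U (nat_lit 982) (Step.B (nat_lit 354) (Step.B (nat_lit 356) (Step.F (nat_lit 110) (Step.D (nat_lit 830) (Step.F (nat_lit 362) (Step.F (nat_lit 363) (Step.D (nat_lit 1016) Step.done)))))))) (Scr.cons (nat_lit 8) (nat_lit 3) (Step.B (nat_lit 364) (Step.U (nat_lit 1016) (Step.D (nat_lit 1017) Step.done))) (Scr.cons (nat_lit 22) (nat_lit 5) (Step.U (nat_lit 892) (Step.B (nat_lit 347) (Step.U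 (nat_lit 796) (Step.U (nat_lit 448) (Step.U (nat_lit 154) (Step.D (nat_lit 152) (Step.D (nat_lit 444) (Step.D (nat_lit 789) (Step.D (nat_lit 1017) (Step.F (nat_lit 365) (Step.U (nat_lit 982) (Step.B (nat_lit 353) (Step.D (nat_lit 753) (Step.D (nat_lit 995) Step.done)))))))))))))) (Scr.cons (nat_lit 3) (nat_lit 1) (Step.D (nat_lit 995) (Step.F (nat_lit 366) Step.done)) (Scr.cons (nat_lit 22) (nat_lit 3) (Step.U (nat_lit 898) (Step.D (nat_lit 897) (Step.F (nat_lit 303) (Step.U (nat_lit 1024) (Step.B (nat_lit 325) (Step.F (nat_lit 324) (Step.U (nat_lit 545) (Step.B (nat_lit 349) (Step.D (nat_lit 548) (Step.B (nat_lit 351) (Step.U (nat_lit 752) (Step.D (nat_lit 753) (Step.B (nat_lit 367) Step.done))))))))))))) (Scr.cons (nat_lit 12) (nat_lit 12) (Step.U (nat_lit 1020) (Step.U (nat_lit 795) (Step.D (nat_lit 796) (Step.F (nat_lit 347) (Step.D (nat_lit 892) (Step.F (nat_lit 368) (Step.U (nat_lit 898) (Step.D (nat_lit 897) (Step.B (nat_lit 305) (Step.F (nat_lit 304) (Step.B (nat_lit 325)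 (Step.B (nat_lit 339) (Step.F (nat_lit 340) (Step.D (nat_lit 1023) Step.done)))))))))))))) (Scr.cons (nat_lit 2) (nat_lit 0) (Step.D (nat_lit 1023) (Step.F (nat_lit 369) Step.done)) (Scr.cons (nat_lit 8) (nat_lit 3) (Step.U (nat_lit 798) (Step.D (nat_lit 795) (Step.D (nat_lit 1021) Step.done))) (Scr.cons (nat_lit 21) (nat_lit 1) (Step.D (nat_lit 393) (Step.D (nat_lit 743) (Step.D (nat_lit 993) (Step.F (nat_lit 337) (Step.U (nat_lit 1014) (Step.B (nat_lit 326) (Step.B (nat_lit 327) (Step.B (nat_lit 339) (Step.F (nat_lit 340) (Step.B (nat_lit 370) (Step.U (nat_lit 1020) (Step.D (nat_lit 1021) (Step.F (nat_lit 371) (Step.D (nat_lit 1022) Step.done)))))))))))))) (Scr.cons (nat_lit 0) (nat_lit 0) (Step.D (nat_lit 1022) (Step.F (nat_lit 372) (Step.D (nat_lit 392) Step.done))) (Scr.cons (nat_lit 20) (nat_lit 5) (Step.U (nat_lit 392) (Step.U (nat_lit 127) (Step.U (nat_lit 28) (Step.U (nat_lit 3) (Step.L (Step.L (Step.L (Step.D (nat_lit 396) Step.done)))))))) (Scr.cons (nat_lit 3) (nat_lit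 0) (Step.B (nat_lit 277) (Step.B (nat_lit 373) (Step.B (nat_lit 374) Step.done))) (Scr.cons (nat_lit 3) (nat_lit 1) (Step.D (nat_lit 797) (Step.B (nat_lit 375) Step.done)) (Scr.cons (nat_lit 8) (nat_lit 3) (Step.U (nat_lit 154) (Step.L (Step.D (nat_lit 443) Step.done))) (Scr.cons (nat_lit 9) (nat_lit 0) (Step.U (nat_lit 442) (Step.D (nat_lit 443) Step.done)) (Scr.cons (nat_lit 9) (nat_lit 0) (Step.U (nat_lit 985) (Step.D (nat_lit 986) Step.done)) (Scr.cons (nat_lit 9) (nat_lit 0) (Step.F (nat_lit 65) (Step.D (nat_lit 455) Step.done)) (Scr.cons (nat_lit 8) (nat_lit 2) (Step.U (nat_lit 456) (Step.B (nat_lit 380) (Step.D (nat_lit 804) Step.done))) (Scr.cons (nat_lit 9) (nat_lit 0) (Step.F (nat_lit 381) (Step.D (nat_lit 805) Step.done)) (Scr.cons (nat_lit 8) (nat_lit 2) (Step.L (Step.L (Step.D (nat_lit 70) Step.done))) (Scr.cons (nat_lit 9) (nat_lit 0) (Step.F (nat_lit 383) (Step.L Step.done)) (Scr.cons (nat_lit 8) (nat_lit 2) (Step.U (nat_lit 285) (Step.B (nat_lit 384) (Step.D (nat_lit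 352) Step.done))) (Scr.cons (nat_lit 9) (nat_lit 0) (Step.U (nat_lit 27) (Step.D (nat_lit 28) Step.done)) (Scr.cons (nat_lit 8) (nat_lit 2) (Step.U (nat_lit 125) (Step.B (nat_lit 386) (Step.D (nat_lit 126) Step.done))) (Scr.cons (nat_lit 10) (nat_lit 0) (Step.U (nat_lit 352) (Step.F (nat_lit 384) (Step.U (nat_lit 70) (Step.L (Step.L (Step.L (Step.L (Step.L (Step.D (nat_lit 3) (Step.D (nat_lit 28) (Step.D (nat_lit 126) (Step.F (nat_lit 387) (Step.D (nat_lit 389) Step.done))))))))))))) (Scr.cons (nat_lit 8) (nat_lit 3) (Step.B (nat_lit 388) (Step.U (nat_lit 389) (Step.D (nat_lit 390) Step.done))) (Scr.cons (nat_lit 9) (nat_lit 0) (Step.F (nat_lit 387) (Step.D (nat_lit 390) Step.done)) (Scr.cons (nat_lit 3) (nat_lit 0) (Step.D (nat_lit 557) (Step.F (nat_lit 153) Step.done)) (Scr.cons (nat_lit 8) (nat_lit 3) (Step.L (Step.L (Step.D (nat_lit 351) Step.done))) (Scr.cons (nat_lit 9) (nat_lit 0) (Step.U (nat_lit 350) (Step.D (nat_lit 351) Step.done)) (Scr.cons (nat_lit 12) (nat_lit 12) (Step.U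 (nat_lit 453) (Step.U (nat_lit 159) (Step.B (nat_lit 64) (Step.F (nat_lit 74) (Step.L (Step.L (Step.D (nat_lit 475) (Step.F (nat_lit 151) (Step.B (nat_lit 391) (Step.U (nat_lit 353) (Step.B (nat_lit 392) (Step.F (nat_lit 393) (Step.D (nat_lit 693) Step.done))))))))))))) (Scr.cons (nat_lit 8) (nat_lit 3) (Step.U (nat_lit 145) (Step.D (nat_lit 143) (Step.D (nat_lit 421) Step.done))) (Scr.cons (nat_lit 12) (nat_lit 3) (Step.U (nat_lit 288) (Step.U (nat_lit 72) (Step.L (Step.L (Step.L (Step.L (Step.L (Step.L (Step.L (Step.L (Step.L (Step.L (Step.D (nat_lit 308) Step.done))))))))))))) (Scr.cons (nat_lit 8) (nat_lit 2) (Step.U (nat_lit 308) (Step.L (Step.D (nat_lit 310) Step.done))) (Scr.cons (nat_lit 9) (nat_lit 0) (Step.F (nat_lit 66) (Step.F (nat_lit 397) Step.done)) (Scr.cons (nat_lit 13) (nat_lit 5) (Step.F (nat_lit 395) (Step.U (nat_lit 145) (Step.L (Step.L (Step.L (Step.L (Step.L (Step.L (Step.L (Step.D (nat_lit 72) (Step.D (nat_lit 288) (Step.B (nat_lit 396) (Step.F (nat_lit 398)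 Step.done))))))))))))) (Scr.cons (nat_lit 21) (nat_lit 3) (Step.F (nat_lit 394) (Step.F (nat_lit 399) (Step.U (nat_lit 421) (Step.U (nat_lit 143) (Step.L (Step.L (Step.L (Step.L (Step.L (Step.B (nat_lit 272) (Step.D (nat_lit 126) (Step.D (nat_lit 391) (Step.D (nat_lit 742) Step.done))))))))))))) (Scr.cons (nat_lit 22) (nat_lit 2) (Step.U (nat_lit 623) (Step.B (nat_lit 385) (Step.B (nat_lit 389) (Step.F (nat_lit 390) (Step.D (nat_lit 391) (Step.D (nat_lit 742) (Step.F (nat_lit 400) (Step.U (nat_lit 693) (Step.B (nat_lit 393) (Step.F (nat_lit 392) (Step.F (nat_lit 384) (Step.D (nat_lit 285) (Step.D (nat_lit 623) Step.done))))))))))))) Scr.nil))))))))))))))))))))))))))))))))))))))))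
noncomputable def s10 : Scr := (Scr.cons (nat_lit 9) (nat_lit 0) (Step.U (nat_lit 724) (Step.D (nat_lit 725) Step.done)) (Scr.cons (nat_lit 8) (nat_lit 2) (Step.U (nat_lit 475) (Step.L (Step.D (nat_lit 476) Step.done))) (Scr.cons (nat_lit 20) (nat_lit 4) (Step.B (nat_lit 403) (Step.U (nat_lit 476) (Step.F (nat_lit 70) (Step.U (nat_lit 377) (Step.U (nat_lit 117) (Step.D (nat_lit 118) (Step.D (nat_lit 379) (Step.D (nat_lit 724) Step.done)))))))) (Scr.cons (nat_lit 11) (nat_lit 8) (Step.F (nat_lit 402) (Step.F (nat_lit 404) (Step.F (nat_lit 151) (Step.B (nat_lit 391) (Step.U (nat_lit 353) (Step.F (nat_lit 384) (Step.D (nat_lit 285) (Step.D (nat_lit 623) Step.done)))))))) (Scr.cons (nat_lit 8) (nat_lit 3) (Step.F (nat_lit 401) (Step.F (nat_lit 405) (Step.F (nat_lit 402) Step.done))) (Scr.cons (nat_lit 8) (nat_lit 3) (Step.B (nat_lit 66) (Step.U (nat_lit 453) (Step.D (nat_lit 455) Step.done))) (Scr.cons (nat_lit 21) (nat_lit 1) (Step.U (nat_lit 723) (Step.D (nat_lit 724) (Step.F (nat_lit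 406) (Step.U (nat_lit 623) (Step.B (nat_lit 385) (Step.U (nat_lit 352) (Step.B (nat_lit 392) (Step.F (nat_lit 393) (Step.D (nat_lit 693) (Step.F (nat_lit 394) (Step.F (nat_lit 66) (Step.B (nat_lit 407) (Step.D (nat_lit 804) Step.done))))))))))))) (Scr.cons (nat_lit 8) (nat_lit 1) (Step.F (nat_lit 382) (Step.F (nat_lit 408) (Step.D (nat_lit 985) Step.done))) (Scr.cons (nat_lit 8) (nat_lit 2) (Step.U (nat_lit 787) (Step.B (nat_lit 378) (Step.D (nat_lit 788) Step.done))) (Scr.cons (nat_lit 10) (nat_lit 1) (Step.F (nat_lit 379) (Step.F (nat_lit 409) (Step.F (nat_lit 382) (Step.U (nat_lit 804) (Step.F (nat_lit 380) (Step.U (nat_lit 160) (Step.F (nat_lit 64) (Step.B (nat_lit 5) (Step.U (nat_lit 153) (Step.L (Step.D (nat_lit 443) (Step.D (nat_lit 788) (Step.F (nat_lit 410) Step.done))))))))))))) (Scr.cons (nat_lit 21) (nat_lit 1) (Step.U (nat_lit 865) (Step.U (nat_lit 529) (Step.B (nat_lit 270) (Step.B (nat_lit 271) (Step.F (nat_lit 273) (Step.B (nat_lit 275) (Step.U (nat_lit 746) (Step.B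 (nat_lit 276) (Step.F (nat_lit 376) (Step.U (nat_lit 448) (Step.B (nat_lit 377) (Step.F (nat_lit 378) (Step.D (nat_lit 787) (Step.F (nat_lit 411) Step.done)))))))))))))) (Scr.cons (nat_lit 11) (nat_lit 5) (Step.U (nat_lit 865) (Step.U (nat_lit 529) (Step.U (nat_lit 214) (Step.F (nat_lit 131) (Step.D (nat_lit 213) (Step.D (nat_lit 525) (Step.D (nat_lit 860) (Step.D (nat_lit 1038) Step.done)))))))) (Scr.cons (nat_lit 3) (nat_lit 1) (Step.D (nat_lit 986) (Step.F (nat_lit 412) (Step.B (nat_lit 413) Step.done))) (Scr.cons (nat_lit 2) (nat_lit 0) (Step.D (nat_lit 1038) (Step.F (nat_lit 414) (Step.U (nat_lit 723) Step.done))) (Scr.cons (nat_lit 1) (nat_lit 0) (Step.B (nat_lit 269) (Step.B (nat_lit 415) (Step.U (nat_lit 379) Step.done))) (Scr.cons (nat_lit 0) (nat_lit 0) (Step.F (nat_lit 268) (Step.B (nat_lit 416) (Step.D (nat_lit 378) Step.done))) (Scr.cons (nat_lit 3) (nat_lit 1) (Step.U (nat_lit 761) (Step.B (nat_lit 417) (Step.D (nat_lit 721) Step.done))) (Scr.cons (nat_lit 1) (nat_lit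 0) (Step.U (nat_lit 998) (Step.B (nat_lit 418) (Step.D (nat_lit 983) Step.done))) (Scr.cons (nat_lit 8) (nat_lit 1) (Step.U (nat_lit 496) (Step.D (nat_lit 495) (Step.D (nat_lit 840) Step.done))) (Scr.cons (nat_lit 8) (nat_lit 2) (Step.U (nat_lit 184) (Step.L (Step.D (nat_lit 185) Step.done))) (Scr.cons (nat_lit 8) (nat_lit 2) (Step.U (nat_lit 24) (Step.L (Step.D (nat_lit 26) Step.done))) (Scr.cons (nat_lit 20) (nat_lit 5) (Step.U (nat_lit 378) (Step.U (nat_lit 118) (Step.B (nat_lit 422) (Step.U (nat_lit 26) (Step.L (Step.D (nat_lit 123) (Step.B (nat_lit 214) (Step.D (nat_lit 494) Step.done)))))))) (Scr.cons (nat_lit 18) (nat_lit 0) (Step.F (nat_lit 423) (Step.D (nat_lit 721) Step.done)) (Scr.cons (nat_lit 11) (nat_lit 7) (Step.F (nat_lit 420) (Step.U (nat_lit 496) (Step.U (nat_lit 186) (Step.D (nat_lit 185) (Step.F (nat_lit 421) (Step.D (nat_lit 494) (Step.B (nat_lit 424) (Step.D (nat_lit 983) Step.done)))))))) (Scr.cons (nat_lit 2) (nat_lit 0) (Step.B (nat_lit 264) (Step.B (nat_lit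 419) (Step.F (nat_lit 425) Step.done))) (Scr.cons (nat_lit 3) (nat_lit 0) (Step.B (nat_lit 196) (Step.B (nat_lit 426) (Step.U (nat_lit 840) Step.done))) (Scr.cons (nat_lit 0) (nat_lit 0) (Step.D (nat_lit 643) (Step.B (nat_lit 427) (Step.D (nat_lit 839) Step.done))) (Scr.cons (nat_lit 2) (nat_lit 0) (Step.U (nat_lit 1030) (Step.F (nat_lit 428) (Step.U (nat_lit 302) Step.done))) (Scr.cons (nat_lit 0) (nat_lit 0) (Step.F (nat_lit 187) (Step.B (nat_lit 429) (Step.L Step.done))) (Scr.cons (nat_lit 3) (nat_lit 0) (Step.D (nat_lit 1035) (Step.B (nat_lit 430) (Step.L Step.done))) (Scr.cons (nat_lit 2) (nat_lit 0) (Step.D (nat_lit 853) (Step.B (nat_lit 431) (Step.D (nat_lit 305) Step.done))) (Scr.cons (nat_lit 1) (nat_lit 0) (Step.U (nat_lit 852) (Step.B (nat_lit 432) (Step.D (nat_lit 651) Step.done))) (Scr.cons (nat_lit 8) (nat_lit 3) (Step.U (nat_lit 98) (Step.L (Step.D (nat_lit 344) Step.done))) (Scr.cons (nat_lit 21) (nat_lit 1) (Step.U (nat_lit 611) (Step.B (nat_lit 107) (Step.U (nat_lit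 176) (Step.U (nat_lit 34) (Step.L (Step.L (Step.L (Step.L (Step.L (Step.L (Step.D (nat_lit 98) (Step.B (nat_lit 434) (Step.D (nat_lit 687) Step.done))))))))))))) (Scr.cons (nat_lit 20) (nat_lit 2) (Step.U (nat_lit 397) (Step.L (Step.L (Step.L (Step.D (nat_lit 34) (Step.D (nat_lit 177) (Step.B (nat_lit 49) (Step.D (nat_lit 606) Step.done)))))))) (Scr.cons (nat_lit 13) (nat_lit 2) (Step.U (nat_lit 611) (Step.F (nat_lit 106) (Step.D (nat_lit 606) (Step.F (nat_lit 436) (Step.U (nat_lit 397) (Step.L (Step.L (Step.L (Step.L (Step.L (Step.D (nat_lit 132) (Step.D (nat_lit 405) (Step.D (nat_lit 755) Step.done))))))))))))) (Scr.cons (nat_lit 3) (nat_lit 0) (Step.F (nat_lit 189) (Step.B (nat_lit 192) Step.done)) (Scr.cons (nat_lit 20) (nat_lit 4) (Step.F (nat_lit 438) (Step.F (nat_lit 191) (Step.U (nat_lit 129) (Step.L (Step.L (Step.L (Step.D (nat_lit 132) (Step.D (nat_lit 405) Step.done)))))))) (Scr.cons (nat_lit 8) (nat_lit 3) (Step.L (Step.D (nat_lit 81) (Step.D (nat_lit 301) Step.done)))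 (Scr.cons (nat_lit 12) (nat_lit 10) (Step.U (nat_lit 690) (Step.U (nat_lit 347) (Step.B (nat_lit 434) (Step.D (nat_lit 687) (Step.F (nat_lit 435) (Step.B (nat_lit 437) (Step.U (nat_lit 755) (Step.F (nat_lit 439) (Step.F (nat_lit 438) (Step.F (nat_lit 440) (Step.L (Step.L (Step.D (nat_lit 305) (Step.D (nat_lit 651) Step.done)))))))))))))) Scr.nil))))))))))))))))))))))))))))))))))))))))
noncomputable def s11 : Scr := (Scr.cons (nat_lit 3) (nat_lit 1) (Step.D (nat_lit 690) (Step.B (nat_lit 441) Step.done)) (Scr.cons (nat_lit 3) (nat_lit 0) (Step.F (nat_lit 185) (Step.B (nat_lit 433) (Step.F (nat_lit 442) Step.done))) (Scr.cons (nat_lit 2) (nat_lit 0) (Step.D (nat_lit 1027) (Step.B (nat_lit 443) (Step.U (nat_lit 347) Step.done))) (Scr.cons (nat_lit 9) (nat_lit 0) (Step.L (Step.D (nat_lit 98) Step.done)) (Scr.cons (nat_lit 3) (nat_lit 0) (Step.D (nat_lit 809) (Step.B (nat_lit 444) (Step.F (nat_lit 445) Step.done))) (Scr.cons (nat_lit 0) (nat_lit 0) (Step.D (nat_lit 460) (Step.B (nat_lit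 446) (Step.L Step.done))) (Scr.cons (nat_lit 1) (nat_lit 0) (Step.D (nat_lit 165) (Step.B (nat_lit 447) (Step.D (nat_lit 99) Step.done))) (Scr.cons (nat_lit 1) (nat_lit 0) (Step.D (nat_lit 99) (Step.F (nat_lit 448) Step.done)) (Scr.cons (nat_lit 20) (nat_lit 4) (Step.U (nat_lit 190) (Step.L (Step.L (Step.L (Step.L (Step.L (Step.D (nat_lit 43) (Step.D (nat_lit 210) Step.done)))))))) (Scr.cons (nat_lit 8) (nat_lit 3) (Step.U (nat_lit 498) (Step.D (nat_lit 497) (Step.D (nat_lit 842) Step.done))) (Scr.cons (nat_lit 9) (nat_lit 0) (Step.U (nat_lit 573) (Step.D (nat_lit 574) Step.done)) (Scr.cons (nat_lit 8) (nat_lit 1) (Step.U (nat_lit 247) (Step.D (nat_lit 246) (Step.D (nat_lit 573) Step.done))) (Scr.cons (nat_lit 8) (nat_lit 2) (Step.U (nat_lit 62) (Step.L (Step.D (nat_lit 249) Step.done))) (Scr.cons (nat_lit 21) (nat_lit 13) (Step.U (nat_lit 208) (Step.U (nat_lit 43) (Step.L (Step.L (Step.L (Step.L (Step.L (Step.B (nat_lit 33) (Step.B (nat_lit 155) (Step.U (nat_lit 255) (Step.U (nat_lit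 63) (Step.D (nat_lit 62) (Step.D (nat_lit 252) Step.done))))))))))))) (Scr.cons (nat_lit 8) (nat_lit 0) (Step.U (nat_lit 251) (Step.D (nat_lit 252) (Step.F (nat_lit 455) Step.done))) (Scr.cons (nat_lit 9) (nat_lit 0) (Step.U (nat_lit 210) (Step.D (nat_lit 211) Step.done)) (Scr.cons (nat_lit 8) (nat_lit 2) (Step.U (nat_lit 520) (Step.B (nat_lit 457) (Step.D (nat_lit 521) Step.done))) (Scr.cons (nat_lit 10) (nat_lit 1) (Step.F (nat_lit 452) (Step.F (nat_lit 453) (Step.U (nat_lit 247) (Step.U (nat_lit 60) (Step.L (Step.D (nat_lit 249) (Step.F (nat_lit 454) (Step.D (nat_lit 251) (Step.B (nat_lit 456) (Step.U (nat_lit 208) (Step.D (nat_lit 211) (Step.D (nat_lit 521) (Step.F (nat_lit 458) Step.done))))))))))))) (Scr.cons (nat_lit 8) (nat_lit 3) (Step.B (nat_lit 452) (Step.B (nat_lit 459) (Step.D (nat_lit 856) Step.done))) (Scr.cons (nat_lit 11) (nat_lit 7) (Step.F (nat_lit 78) (Step.L (Step.L (Step.L (Step.L (Step.L (Step.B (nat_lit 286) (Step.D (nat_lit 575) Step.done)))))))) (Scr.cons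 (nat_lit 8) (nat_lit 3) (Step.U (nat_lit 263) (Step.D (nat_lit 261) (Step.D (nat_lit 592) Step.done))) (Scr.cons (nat_lit 21) (nat_lit 5) (Step.U (nat_lit 842) (Step.U (nat_lit 497) (Step.U (nat_lit 188) (Step.D (nat_lit 190) (Step.B (nat_lit 450) (Step.D (nat_lit 520) (Step.D (nat_lit 856) (Step.F (nat_lit 460) (Step.F (nat_lit 453) (Step.D (nat_lit 575) (Step.F (nat_lit 461) (Step.B (nat_lit 85) (Step.B (nat_lit 462) Step.done))))))))))))) (Scr.cons (nat_lit 22) (nat_lit 5) (Step.U (nat_lit 855) (Step.U (nat_lit 518) (Step.U (nat_lit 209) (Step.D (nat_lit 210) (Step.F (nat_lit 450) (Step.U (nat_lit 190) (Step.D (nat_lit 188) (Step.D (nat_lit 498) (Step.B (nat_lit 451) (Step.B (nat_lit 463) (Step.U (nat_lit 592) (Step.D (nat_lit 590) (Step.D (nat_lit 910) Step.done))))))))))))) (Scr.cons (nat_lit 8) (nat_lit 3) (Step.L (Step.L (Step.D (nat_lit 260) Step.done))) (Scr.cons (nat_lit 1) (nat_lit 0) (Step.F (nat_lit 462) (Step.F (nat_lit 88) (Step.B (nat_lit 465) Step.done))) (Scr.cons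 (nat_lit 3) (nat_lit 1) (Step.D (nat_lit 592) (Step.B (nat_lit 466) (Step.U (nat_lit 260) Step.done))) (Scr.cons (nat_lit 2) (nat_lit 0) (Step.U (nat_lit 590) (Step.B (nat_lit 467) (Step.D (nat_lit 258) Step.done))) (Scr.cons (nat_lit 3) (nat_lit 1) (Step.U (nat_lit 910) (Step.B (nat_lit 468) (Step.D (nat_lit 586) Step.done))) (Scr.cons (nat_lit 1) (nat_lit 0) (Step.B (nat_lit 464) (Step.B (nat_lit 469) (Step.D (nat_lit 905) Step.done))) (Scr.cons (nat_lit 1) (nat_lit 0) (Step.D (nat_lit 905) (Step.F (nat_lit 470) Step.done)) (Scr.cons (nat_lit 8) (nat_lit 1) (Step.U (nat_lit 645) (Step.D (nat_lit 644) (Step.D (nat_lit 943) Step.done))) (Scr.cons (nat_lit 11) (nat_lit 1) (Step.F (nat_lit 472) (Step.U (nat_lit 645) (Step.U (nat_lit 302) (Step.L (Step.L (Step.D (nat_lit 305) (Step.D (nat_lit 650) (Step.D (nat_lit 946) Step.done)))))))) (Scr.cons (nat_lit 9) (nat_lit 0) (Step.U (nat_lit 730) (Step.D (nat_lit 731) Step.done)) (Scr.cons (nat_lit 8) (nat_lit 2) (Step.U (nat_lit 108) (Step.B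 (nat_lit 212) (Step.D (nat_lit 110) Step.done))) (Scr.cons (nat_lit 8) (nat_lit 2) (Step.U (nat_lit 141) (Step.L (Step.L Step.done))) (Scr.cons (nat_lit 11) (nat_lit 3) (Step.U (nat_lit 420) (Step.F (nat_lit 476) (Step.U (nat_lit 141) (Step.F (nat_lit 217) (Step.D (nat_lit 110) (Step.F (nat_lit 475) (Step.D (nat_lit 366) (Step.D (nat_lit 706) Step.done)))))))) (Scr.cons (nat_lit 8) (nat_lit 3) (Step.B (nat_lit 477) (Step.U (nat_lit 706) (Step.D (nat_lit 708) Step.done))) (Scr.cons (nat_lit 9) (nat_lit 0) (Step.F (nat_lit 476) (Step.D (nat_lit 418) Step.done)) (Scr.cons (nat_lit 12) (nat_lit 1) (Step.U (nat_lit 225) (Step.D (nat_lit 226) (Step.B (nat_lit 137) (Step.U (nat_lit 322) (Step.F (nat_lit 93) (Step.L (Step.L (Step.L (Step.L (Step.L (Step.L (Step.L (Step.D (nat_lit 341) Step.done))))))))))))) (Scr.cons (nat_lit 18) (nat_lit 0) (Step.F (nat_lit 480) (Step.B (nat_lit 349) Step.done)) Scr.nil))))))))))))))))))))))))))))))))))))))))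
noncomputable def s12 : Scr := (Scr.cons (nat_lit 22) (nat_lit 4) (Step.U (nat_lit 707) (Step.D (nat_lit 708) (Step.F (nat_lit 478) (Step.U (nat_lit 420) (Step.B (nat_lit 479) (Step.B (nat_lit 350) (Step.F (nat_lit 481) (Step.U (nat_lit 341) (Step.D (nat_lit 344) (Step.F (nat_lit 434) (Step.D (nat_lit 347) (Step.B (nat_lit 442) (Step.D (nat_lit 948) Step.done))))))))))))) (Scr.cons (nat_lit 12) (nat_lit 1) (Step.U (nat_lit 385) (Step.U (nat_lit 120) (Step.U (nat_lit 25) (Step.L (Step.B (nat_lit 213) (Step.D (nat_lit 110) (Step.F (nat_lit 475) (Step.D (nat_lit 366) (Step.D (nat_lit 707) (Step.B (nat_lit 482) (Step.U (nat_lit 948) (Step.U (nat_lit 651) (Step.D (nat_lit 650) (Step.D (nat_lit 945) Step.done)))))))))))))) (Scr.cons (nat_lit 8) (nat_lit 3) (Step.U (nat_lit 385) (Step.D (nat_lit 383) (Step.D (nat_lit 731) Step.done))) (Scr.cons (nat_lit 1) (nat_lit 0) (Step.D (nat_lit 945) (Step.F (nat_lit 483) (Step.B (nat_lit 484) Step.done))) (Scr.cons (nat_lit 3) (nat_lit 0) (Step.B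 (nat_lit 474) (Step.F (nat_lit 485) (Step.D (nat_lit 946) Step.done))) (Scr.cons (nat_lit 2) (nat_lit 0) (Step.B (nat_lit 473) (Step.F (nat_lit 486) Step.done)) (Scr.cons (nat_lit 18) (nat_lit 0) (Step.F (nat_lit 169) (Step.D (nat_lit 1028) Step.done)) (Scr.cons (nat_lit 8) (nat_lit 3) (Step.F (nat_lit 488) (Step.U (nat_lit 839) (Step.D (nat_lit 841) Step.done))) (Scr.cons (nat_lit 3) (nat_lit 1) (Step.D (nat_lit 872) (Step.B (nat_lit 426) (Step.B (nat_lit 165) Step.done))) (Scr.cons (nat_lit 1) (nat_lit 0) (Step.B (nat_lit 489) (Step.F (nat_lit 490) (Step.B (nat_lit 231) Step.done))) (Scr.cons (nat_lit 9) (nat_lit 0) (Step.U (nat_lit 645) (Step.D (nat_lit 646) Step.done)) (Scr.cons (nat_lit 3) (nat_lit 0) (Step.D (nat_lit 1028) (Step.B (nat_lit 491) (Step.F (nat_lit 492) Step.done))) (Scr.cons (nat_lit 0) (nat_lit 0) (Step.D (nat_lit 824) (Step.B (nat_lit 493) (Step.B (nat_lit 472) Step.done))) (Scr.cons (nat_lit 2) (nat_lit 0) (Step.F (nat_lit 487) (Step.F (nat_lit 494) (Step.B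 (nat_lit 136) Step.done))) (Scr.cons (nat_lit 3) (nat_lit 0) (Step.D (nat_lit 730) (Step.B (nat_lit 495) (Step.U (nat_lit 206) Step.done))) (Scr.cons (nat_lit 0) (nat_lit 0) (Step.D (nat_lit 383) (Step.B (nat_lit 496) (Step.L Step.done))) (Scr.cons (nat_lit 1) (nat_lit 0) (Step.D (nat_lit 120) (Step.B (nat_lit 497) (Step.D (nat_lit 43) Step.done))) (Scr.cons (nat_lit 2) (nat_lit 0) (Step.U (nat_lit 209) (Step.F (nat_lit 498) (Step.U (nat_lit 25) Step.done))) (Scr.cons (nat_lit 1) (nat_lit 0) (Step.U (nat_lit 518) (Step.B (nat_lit 499) (Step.D (nat_lit 24) Step.done))) (Scr.cons (nat_lit 3) (nat_lit 1) (Step.U (nat_lit 855) (Step.B (nat_lit 500) (Step.B (nat_lit 422) Step.done))) (Scr.cons (nat_lit 1) (nat_lit 0) (Step.B (nat_lit 471) (Step.B (nat_lit 501) (Step.D (nat_lit 122) Step.done))) (Scr.cons (nat_lit 9) (nat_lit 0) (Step.L (Step.D (nat_lit 147) Step.done)) (Scr.cons (nat_lit 22) (nat_lit 5) (Step.U (nat_lit 424) (Step.L (Step.L (Step.L (Step.L (Step.L (Step.L (Step.L (Step.L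 (Step.D (nat_lit 9) (Step.D (nat_lit 71) (Step.D (nat_lit 286) (Step.D (nat_lit 625) Step.done))))))))))))) (Scr.cons (nat_lit 8) (nat_lit 1) (Step.U (nat_lit 625) (Step.D (nat_lit 624) (Step.D (nat_lit 933) Step.done))) (Scr.cons (nat_lit 9) (nat_lit 0) (Step.U (nat_lit 933) (Step.D (nat_lit 934) Step.done)) (Scr.cons (nat_lit 9) (nat_lit 0) (Step.U (nat_lit 1007) (Step.D (nat_lit 1008) Step.done)) (Scr.cons (nat_lit 8) (nat_lit 3) (Step.U (nat_lit 107) (Step.D (nat_lit 104) (Step.D (nat_lit 361) Step.done))) (Scr.cons (nat_lit 13) (nat_lit 3) (Step.U (nat_lit 974) (Step.U (nat_lit 699) (Step.F (nat_lit 508) (Step.U (nat_lit 107) (Step.U (nat_lit 17) (Step.D (nat_lit 19) (Step.B (nat_lit 217) (Step.L (Step.D (nat_lit 30) (Step.D (nat_lit 139) (Step.D (nat_lit 416) (Step.D (nat_lit 763) (Step.D (nat_lit 1000) Step.done))))))))))))) (Scr.cons (nat_lit 12) (nat_lit 2) (Step.B (nat_lit 509) (Step.U (nat_lit 1000) (Step.U (nat_lit 763) (Step.F (nat_lit 199) (Step.U (nat_lit 140) (Step.U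 (nat_lit 30) (Step.L (Step.L (Step.L (Step.L (Step.D (nat_lit 423) (Step.D (nat_lit 774) (Step.D (nat_lit 1007) Step.done))))))))))))) (Scr.cons (nat_lit 9) (nat_lit 0) (Step.U (nat_lit 974) (Step.D (nat_lit 975) Step.done)) (Scr.cons (nat_lit 8) (nat_lit 1) (Step.F (nat_lit 507) (Step.F (nat_lit 510) (Step.B (nat_lit 511) Step.done))) (Scr.cons (nat_lit 8) (nat_lit 1) (Step.U (nat_lit 775) (Step.D (nat_lit 774) (Step.D (nat_lit 1007) Step.done))) (Scr.cons (nat_lit 9) (nat_lit 0) (Step.U (nat_lit 625) (Step.D (nat_lit 626) Step.done)) (Scr.cons (nat_lit 9) (nat_lit 0) (Step.U (nat_lit 424) (Step.D (nat_lit 425) Step.done)) (Scr.cons (nat_lit 8) (nat_lit 1) (Step.F (nat_lit 514) (Step.F (nat_lit 504) (Step.B (nat_lit 515) Step.done))) (Scr.cons (nat_lit 10) (nat_lit 0) (Step.U (nat_lit 973) (Step.D (nat_lit 975) (Step.F (nat_lit 512) (Step.F (nat_lit 507) (Step.F (nat_lit 513) (Step.U (nat_lit 775) (Step.U (nat_lit 423) (Step.D (nat_lit 425) (Step.F (nat_lit 516) (Step.F (nat_lit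 514) (Step.B (nat_lit 505) (Step.U (nat_lit 933) (Step.D (nat_lit 932) Step.done))))))))))))) (Scr.cons (nat_lit 8) (nat_lit 3) (Step.U (nat_lit 934) (Step.D (nat_lit 932) (Step.F (nat_lit 517) Step.done))) (Scr.cons (nat_lit 9) (nat_lit 0) (Step.U (nat_lit 53) (Step.D (nat_lit 54) Step.done)) (Scr.cons (nat_lit 8) (nat_lit 2) (Step.U (nat_lit 236) (Step.B (nat_lit 519) (Step.D (nat_lit 237) Step.done))) (Scr.cons (nat_lit 9) (nat_lit 0) (Step.F (nat_lit 520) (Step.D (nat_lit 558) Step.done)) Scr.nil))))))))))))))))))))))))))))))))))))))))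
noncomputable def s13 : Scr := (Scr.cons (nat_lit 8) (nat_lit 2) (Step.U (nat_lit 559) (Step.B (nat_lit 521) (Step.D (nat_lit 887) Step.done))) (Scr.cons (nat_lit 8) (nat_lit 1) (Step.L (Step.D (nat_lit 172) (Step.D (nat_lit 474) Step.done))) (Scr.cons (nat_lit 12) (nat_lit 13) (Step.F (nat_lit 317) (Step.U (nat_lit 23) (Step.U (nat_lit 2) (Step.L (Step.L (Step.L (Step.L (Step.L (Step.L (Step.L (Step.L (Step.L (Step.D (nat_lit 172) Step.done))))))))))))) (Scr.cons (nat_lit 8) (nat_lit 0) (Step.F (nat_lit 524) (Step.F (nat_lit 318) (Step.D (nat_lit 291) Step.done))) (Scr.cons (nat_lit 8) (nat_lit 1) (Step.L (Step.D (nat_lit 2) (Step.D (nat_lit 22) Step.done))) (Scr.cons (nat_lit 9) (nat_lit 0) (Step.F (nat_lit 422) (Step.D (nat_lit 119) Step.done)) (Scr.cons (nat_lit 8) (nat_lit 2) (Step.U (nat_lit 122) (Step.B (nat_lit 527) (Step.D (nat_lit 382) Step.done))) (Scr.cons (nat_lit 9) (nat_lit 0) (Step.F (nat_lit 528) (Step.D (nat_lit 388) Step.done)) (Scr.cons (nat_lit 19) (nat_lit 1)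 (Step.U (nat_lit 631) (Step.F (nat_lit 525) (Step.F (nat_lit 524) (Step.U (nat_lit 112) (Step.U (nat_lit 20) (Step.D (nat_lit 22) (Step.F (nat_lit 526) (Step.L (Step.D (nat_lit 26) (Step.B (nat_lit 527) (Step.D (nat_lit 382) (Step.B (nat_lit 529) (Step.D (nat_lit 739) Step.done))))))))))))) (Scr.cons (nat_lit 18) (nat_lit 0) (Step.F (nat_lit 525) (Step.D (nat_lit 474) Step.done)) (Scr.cons (nat_lit 8) (nat_lit 3) (Step.F (nat_lit 530) (Step.U (nat_lit 631) (Step.B (nat_lit 531) Step.done))) (Scr.cons (nat_lit 9) (nat_lit 0) (Step.U (nat_lit 568) (Step.D (nat_lit 569) Step.done)) (Scr.cons (nat_lit 8) (nat_lit 3) (Step.U (nat_lit 245) (Step.D (nat_lit 243) (Step.D (nat_lit 569) Step.done))) (Scr.cons (nat_lit 13) (nat_lit 0) (Step.U (nat_lit 715) (Step.U (nat_lit 373) (Step.U (nat_lit 116) (Step.F (nat_lit 36) (Step.F (nat_lit 40) (Step.L (Step.L (Step.D (nat_lit 0) (Step.D (nat_lit 7) (Step.D (nat_lit 59) (Step.D (nat_lit 245) (Step.D (nat_lit 572) (Step.D (nat_lit 895) Step.done)))))))))))))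 (Scr.cons (nat_lit 8) (nat_lit 1) (Step.B (nat_lit 535) (Step.U (nat_lit 895) (Step.D (nat_lit 896) Step.done))) (Scr.cons (nat_lit 21) (nat_lit 1) (Step.U (nat_lit 893) (Step.B (nat_lit 533) (Step.F (nat_lit 534) (Step.D (nat_lit 572) (Step.D (nat_lit 896) (Step.F (nat_lit 536) (Step.U (nat_lit 715) (Step.U (nat_lit 373) (Step.U (nat_lit 116) (Step.B (nat_lit 317) (Step.F (nat_lit 318) (Step.D (nat_lit 291) (Step.D (nat_lit 631) Step.done))))))))))))) (Scr.cons (nat_lit 9) (nat_lit 0) (Step.U (nat_lit 244) (Step.D (nat_lit 245) Step.done)) (Scr.cons (nat_lit 8) (nat_lit 2) (Step.U (nat_lit 570) (Step.B (nat_lit 538) (Step.D (nat_lit 571) Step.done))) (Scr.cons (nat_lit 12) (nat_lit 9) (Step.F (nat_lit 402) (Step.F (nat_lit 404) (Step.U (nat_lit 475) (Step.B (nat_lit 523) (Step.F (nat_lit 532) (Step.F (nat_lit 530) (Step.F (nat_lit 537) (Step.U (nat_lit 893) (Step.B (nat_lit 533) (Step.F (nat_lit 534) (Step.D (nat_lit 571) (Step.F (nat_lit 539) (Step.D (nat_lit 894) Step.done)))))))))))))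 (Scr.cons (nat_lit 8) (nat_lit 2) (Step.F (nat_lit 540) (Step.U (nat_lit 725) (Step.D (nat_lit 722) Step.done))) (Scr.cons (nat_lit 8) (nat_lit 3) (Step.U (nat_lit 7) (Step.D (nat_lit 4) (Step.D (nat_lit 54) Step.done))) (Scr.cons (nat_lit 12) (nat_lit 2) (Step.U (nat_lit 727) (Step.U (nat_lit 381) (Step.D (nat_lit 379) (Step.D (nat_lit 722) (Step.F (nat_lit 541) (Step.U (nat_lit 894) (Step.U (nat_lit 570) (Step.U (nat_lit 244) (Step.U (nat_lit 59) (Step.B (nat_lit 542) (Step.D (nat_lit 237) (Step.D (nat_lit 559) (Step.B (nat_lit 522) Step.done))))))))))))) (Scr.cons (nat_lit 2) (nat_lit 0) (Step.D (nat_lit 764) (Step.B (nat_lit 258) (Step.D (nat_lit 862) Step.done))) (Scr.cons (nat_lit 2) (nat_lit 0) (Step.D (nat_lit 862) (Step.F (nat_lit 544) Step.done)) (Scr.cons (nat_lit 9) (nat_lit 0) (Step.U (nat_lit 526) (Step.D (nat_lit 527) Step.done)) (Scr.cons (nat_lit 3) (nat_lit 0) (Step.B (nat_lit 546) (Step.B (nat_lit 416) (Step.D (nat_lit 381) Step.done))) (Scr.cons (nat_lit 2) (nat_lit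 0) (Step.F (nat_lit 545) (Step.B (nat_lit 547) (Step.D (nat_lit 727) Step.done))) (Scr.cons (nat_lit 1) (nat_lit 0) (Step.F (nat_lit 543) (Step.F (nat_lit 548) (Step.D (nat_lit 763) Step.done))) (Scr.cons (nat_lit 3) (nat_lit 0) (Step.B (nat_lit 522) (Step.B (nat_lit 549) (Step.D (nat_lit 1000) Step.done))) (Scr.cons (nat_lit 2) (nat_lit 0) (Step.B (nat_lit 509) (Step.F (nat_lit 550) (Step.D (nat_lit 888) Step.done))) (Scr.cons (nat_lit 21) (nat_lit 3) (Step.U (nat_lit 603) (Step.U (nat_lit 271) (Step.L (Step.L (Step.L (Step.L (Step.L (Step.D (nat_lit 0) (Step.D (nat_lit 7) (Step.B (nat_lit 542) (Step.D (nat_lit 237) (Step.D (nat_lit 559) (Step.D (nat_lit 888) Step.done))))))))))))) (Scr.cons (nat_lit 8) (nat_lit 2) (Step.U (nat_lit 603) (Step.F (nat_lit 72) (Step.D (nat_lit 821) Step.done))) (Scr.cons (nat_lit 18) (nat_lit 0) (Step.F (nat_lit 552) (Step.B (nat_lit 553) Step.done)) (Scr.cons (nat_lit 3) (nat_lit 0) (Step.D (nat_lit 974) (Step.B (nat_lit 551) (Step.B (nat_lit 554)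 Step.done))) (Scr.cons (nat_lit 0) (nat_lit 0) (Step.D (nat_lit 821) (Step.F (nat_lit 555) (Step.D (nat_lit 973) Step.done))) (Scr.cons (nat_lit 1) (nat_lit 0) (Step.B (nat_lit 518) (Step.F (nat_lit 556) (Step.F (nat_lit 68) Step.done))) (Scr.cons (nat_lit 3) (nat_lit 0) (Step.B (nat_lit 506) (Step.B (nat_lit 557) (Step.L Step.done))) (Scr.cons (nat_lit 0) (nat_lit 0) (Step.B (nat_lit 505) (Step.B (nat_lit 558) (Step.B (nat_lit 523) Step.done))) (Scr.cons (nat_lit 1) (nat_lit 0) (Step.B (nat_lit 504) (Step.B (nat_lit 559) (Step.F (nat_lit 532) Step.done))) (Scr.cons (nat_lit 8) (nat_lit 1) (Step.L (Step.L (Step.D (nat_lit 424) Step.done))) Scr.nil))))))))))))))))))))))))))))))))))))))))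
noncomputable def s14 : Scr := (Scr.cons (nat_lit 0) (nat_lit 0) (Step.D (nat_lit 739) (Step.F (nat_lit 560) (Step.F (nat_lit 561) Step.done))) (Scr.cons (nat_lit 3) (nat_lit 1) (Step.D (nat_lit 388) (Step.B (nat_lit 562) (Step.B (nat_lit 503) Step.done))) (Scr.cons (nat_lit 3) (nat_lit 1) (Step.B (nat_lit 503) (Step.F (nat_lit 563) Step.done)) (Scr.cons (nat_lit 3) (nat_lit 0) (Step.D (nat_lit 586) (Step.B (nat_lit 502) (Step.F (nat_lit 564) Step.done))) (Scr.cons (nat_lit 2) (nat_lit 0) (Step.D (nat_lit 258) (Step.B (nat_lit 565) Step.done)) (Scr.cons (nat_lit 8) (nat_lit 1) (Step.U (nat_lit 48) (Step.L (Step.D (nat_lit 223) Step.done))) (Scr.cons (nat_lit 8) (nat_lit 3) (Step.U (nat_lit 773) (Step.D (nat_lit 771) (Step.D (nat_lit 1006) Step.done))) (Scr.cons (nat_lit 9) (nat_lit 0) (Step.U (nat_lit 772) (Step.D (nat_lit 773) Step.done)) (Scr.cons (nat_lit 20) (nat_lit 4) (Step.U (nat_lit 455) (Step.D (nat_lit 453) (Step.F (nat_lit 399) (Step.U (nat_lit 421) (Step.U (nat_lit 143)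 (Step.D (nat_lit 144) (Step.D (nat_lit 422) (Step.D (nat_lit 772) Step.done)))))))) (Scr.cons (nat_lit 21) (nat_lit 7) (Step.F (nat_lit 568) (Step.F (nat_lit 569) (Step.F (nat_lit 570) (Step.F (nat_lit 407) (Step.F (nat_lit 397) (Step.U (nat_lit 308) (Step.L (Step.L (Step.L (Step.L (Step.D (nat_lit 398) (Step.D (nat_lit 747) (Step.D (nat_lit 994) Step.done))))))))))))) (Scr.cons (nat_lit 13) (nat_lit 3) (Step.L (Step.L (Step.L (Step.L (Step.L (Step.L (Step.L (Step.L (Step.L (Step.D (nat_lit 2) (Step.D (nat_lit 22) (Step.D (nat_lit 114) (Step.D (nat_lit 370) Step.done))))))))))))) (Scr.cons (nat_lit 12) (nat_lit 1) (Step.U (nat_lit 398) (Step.B (nat_lit 572) (Step.U (nat_lit 370) (Step.U (nat_lit 114) (Step.F (nat_lit 526) (Step.L (Step.L (Step.L (Step.L (Step.L (Step.L (Step.D (nat_lit 150) (Step.D (nat_lit 432) Step.done))))))))))))) (Scr.cons (nat_lit 11) (nat_lit 1) (Step.B (nat_lit 571) (Step.U (nat_lit 994) (Step.U (nat_lit 747) (Step.B (nat_lit 573) (Step.U (nat_lit 432) (Step.D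 (nat_lit 433) (Step.D (nat_lit 779) (Step.D (nat_lit 1010) Step.done)))))))) (Scr.cons (nat_lit 9) (nat_lit 0) (Step.U (nat_lit 1009) (Step.D (nat_lit 1010) Step.done)) (Scr.cons (nat_lit 9) (nat_lit 0) (Step.U (nat_lit 780) (Step.D (nat_lit 781) Step.done)) (Scr.cons (nat_lit 8) (nat_lit 2) (Step.U (nat_lit 1011) (Step.B (nat_lit 576) (Step.D (nat_lit 1013) Step.done))) (Scr.cons (nat_lit 8) (nat_lit 1) (Step.U (nat_lit 18) (Step.D (nat_lit 17) (Step.D (nat_lit 106) Step.done))) (Scr.cons (nat_lit 8) (nat_lit 1) (Step.B (nat_lit 211) (Step.F (nat_lit 216) (Step.D (nat_lit 367) Step.done))) (Scr.cons (nat_lit 20) (nat_lit 2) (Step.U (nat_lit 365) (Step.U (nat_lit 105) (Step.D (nat_lit 106) (Step.F (nat_lit 578) (Step.D (nat_lit 109) (Step.D (nat_lit 367) (Step.F (nat_lit 579) (Step.D (nat_lit 675) Step.done)))))))) (Scr.cons (nat_lit 18) (nat_lit 0) (Step.L (Step.D (nat_lit 174) Step.done)) (Scr.cons (nat_lit 8) (nat_lit 3) (Step.F (nat_lit 210) (Step.U (nat_lit 317) (Step.B (nat_lit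 581) Step.done))) (Scr.cons (nat_lit 12) (nat_lit 12) (Step.U (nat_lit 93) (Step.L (Step.L (Step.B (nat_lit 117) (Step.F (nat_lit 118) (Step.L (Step.L (Step.L (Step.L (Step.L (Step.L (Step.L (Step.D (nat_lit 142) Step.done))))))))))))) (Scr.cons (nat_lit 8) (nat_lit 3) (Step.U (nat_lit 95) (Step.D (nat_lit 93) (Step.D (nat_lit 333) Step.done))) (Scr.cons (nat_lit 21) (nat_lit 3) (Step.U (nat_lit 412) (Step.U (nat_lit 136) (Step.L (Step.L (Step.L (Step.L (Step.D (nat_lit 142) (Step.F (nat_lit 583) (Step.D (nat_lit 333) (Step.F (nat_lit 584) (Step.D (nat_lit 336) (Step.B (nat_lit 582) (Step.D (nat_lit 481) Step.done))))))))))))) (Scr.cons (nat_lit 8) (nat_lit 0) (Step.U (nat_lit 759) (Step.B (nat_lit 585) (Step.D (nat_lit 823) Step.done))) (Scr.cons (nat_lit 22) (nat_lit 4) (Step.U (nat_lit 997) (Step.B (nat_lit 586) (Step.U (nat_lit 823) (Step.U (nat_lit 481) (Step.F (nat_lit 581) (Step.L (Step.L (Step.D (nat_lit 398) (Step.B (nat_lit 573) (Step.U (nat_lit 432) (Step.D (nat_lit 433)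 (Step.D (nat_lit 780) (Step.D (nat_lit 1012) Step.done))))))))))))) (Scr.cons (nat_lit 21) (nat_lit 12) (Step.U (nat_lit 980) (Step.U (nat_lit 705) (Step.B (nat_lit 580) (Step.U (nat_lit 675) (Step.B (nat_lit 209) (Step.B (nat_lit 582) (Step.D (nat_lit 481) (Step.F (nat_lit 585) (Step.D (nat_lit 759) (Step.D (nat_lit 997) (Step.B (nat_lit 587) (Step.U (nat_lit 1012) (Step.D (nat_lit 1011) Step.done))))))))))))) (Scr.cons (nat_lit 9) (nat_lit 0) (Step.U (nat_lit 364) (Step.D (nat_lit 365) Step.done)) (Scr.cons (nat_lit 8) (nat_lit 2) (Step.U (nat_lit 704) (Step.B (nat_lit 589) (Step.D (nat_lit 705) Step.done))) (Scr.cons (nat_lit 9) (nat_lit 0) (Step.F (nat_lit 590) (Step.D (nat_lit 979) Step.done)) (Scr.cons (nat_lit 8) (nat_lit 1) (Step.F (nat_lit 588) (Step.U (nat_lit 980) (Step.B (nat_lit 591) Step.done))) (Scr.cons (nat_lit 8) (nat_lit 1) (Step.U (nat_lit 364) (Step.D (nat_lit 363) (Step.D (nat_lit 702) Step.done))) (Scr.cons (nat_lit 10) (nat_lit 1) (Step.U (nat_lit 1009) (Step.U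 (nat_lit 779) (Step.D (nat_lit 781) (Step.D (nat_lit 1013) (Step.F (nat_lit 577) (Step.B (nat_lit 592) (Step.F (nat_lit 591) (Step.U (nat_lit 705) (Step.F (nat_lit 589) (Step.B (nat_lit 593) (Step.U (nat_lit 702) (Step.D (nat_lit 701) (Step.D (nat_lit 977) Step.done))))))))))))) (Scr.cons (nat_lit 8) (nat_lit 3) (Step.U (nat_lit 703) (Step.D (nat_lit 701) (Step.D (nat_lit 977) Step.done))) (Scr.cons (nat_lit 9) (nat_lit 0) (Step.U (nat_lit 702) (Step.D (nat_lit 703) Step.done)) (Scr.cons (nat_lit 20) (nat_lit 2) (Step.U (nat_lit 975) (Step.U (nat_lit 699) (Step.U (nat_lit 361) (Step.U (nat_lit 104) (Step.D (nat_lit 105) (Step.D (nat_lit 364) (Step.B (nat_lit 593) (Step.D (nat_lit 978) Step.done)))))))) (Scr.cons (nat_lit 3) (nat_lit 1) (Step.F (nat_lit 511) (Step.B (nat_lit 551) (Step.F (nat_lit 552) Step.done))) (Scr.cons (nat_lit 1) (nat_lit 0) (Step.F (nat_lit 597) (Step.B (nat_lit 598) (Step.U (nat_lit 603) Step.done))) (Scr.cons (nat_lit 2) (nat_lit 0) (Step.D (nat_lit 978)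 (Step.B (nat_lit 599) (Step.U (nat_lit 271) Step.done))) (Scr.cons (nat_lit 3) (nat_lit 1) (Step.F (nat_lit 596) (Step.B (nat_lit 600) (Step.L Step.done))) Scr.nil))))))))))))))))))))))))))))))))))))))))
noncomputable def s15 : Scr := (Scr.cons (nat_lit 1) (nat_lit 0) (Step.F (nat_lit 595) (Step.B (nat_lit 601) (Step.L Step.done))) (Scr.cons (nat_lit 0) (nat_lit 0) (Step.B (nat_lit 594) (Step.B (nat_lit 602) (Step.D (nat_lit 267) Step.done))) (Scr.cons (nat_lit 3) (nat_lit 1) (Step.F (nat_lit 575) (Step.B (nat_lit 603) (Step.D (nat_lit 599) Step.done))) (Scr.cons (nat_lit 2) (nat_lit 0) (Step.B (nat_lit 574) (Step.B (nat_lit 604) (Step.D (nat_lit 919) Step.done))) (Scr.cons (nat_lit 9) (nat_lit 0) (Step.U (nat_lit 599) (Step.D (nat_lit 600) Step.done)) (Scr.cons (nat_lit 8) (nat_lit 3) (Step.L (Step.D (nat_lit 267) (Step.D (nat_lit 600) Step.done))) (Scr.cons (nat_lit 8) (nat_lit 1) (Step.B (nat_lit 480) (Step.U (nat_lit 341) (Step.D (nat_lit 343) Step.done))) (Scr.cons (nat_lit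 21) (nat_lit 4) (Step.U (nat_lit 342) (Step.D (nat_lit 343) (Step.F (nat_lit 608) (Step.U (nat_lit 225) (Step.U (nat_lit 48) (Step.L (Step.L (Step.L (Step.L (Step.L (Step.L (Step.D (nat_lit 268) (Step.D (nat_lit 601) Step.done))))))))))))) (Scr.cons (nat_lit 11) (nat_lit 3) (Step.U (nat_lit 435) (Step.D (nat_lit 436) (Step.F (nat_lit 307) (Step.U (nat_lit 545) (Step.B (nat_lit 608) (Step.U (nat_lit 343) (Step.D (nat_lit 342) (Step.D (nat_lit 683) Step.done)))))))) (Scr.cons (nat_lit 8) (nat_lit 3) (Step.B (nat_lit 610) (Step.U (nat_lit 683) (Step.D (nat_lit 685) Step.done))) (Scr.cons (nat_lit 22) (nat_lit 6) (Step.U (nat_lit 920) (Step.U (nat_lit 602) (Step.L (Step.D (nat_lit 268) (Step.D (nat_lit 601) (Step.F (nat_lit 609) (Step.D (nat_lit 685) (Step.F (nat_lit 611) (Step.U (nat_lit 435) (Step.L (Step.D (nat_lit 439) (Step.D (nat_lit 786) (Step.D (nat_lit 1015) Step.done))))))))))))) (Scr.cons (nat_lit 8) (nat_lit 1) (Step.F (nat_lit 612) (Step.U (nat_lit 920) (Step.D (nat_lit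 921) Step.done))) (Scr.cons (nat_lit 12) (nat_lit 6) (Step.F (nat_lit 116) (Step.B (nat_lit 115) (Step.U (nat_lit 835) (Step.F (nat_lit 113) (Step.B (nat_lit 110) (Step.F (nat_lit 356) (Step.F (nat_lit 355) (Step.U (nat_lit 548) (Step.F (nat_lit 481) (Step.U (nat_lit 341) (Step.D (nat_lit 342) (Step.D (nat_lit 684) (Step.D (nat_lit 969) Step.done))))))))))))) (Scr.cons (nat_lit 9) (nat_lit 0) (Step.U (nat_lit 684) (Step.D (nat_lit 685) Step.done)) (Scr.cons (nat_lit 12) (nat_lit 7) (Step.U (nat_lit 864) (Step.U (nat_lit 528) (Step.F (nat_lit 132) (Step.D (nat_lit 523) (Step.B (nat_lit 130) (Step.B (nat_lit 614) (Step.U (nat_lit 969) (Step.B (nat_lit 615) (Step.F (nat_lit 611) (Step.U (nat_lit 435) (Step.L (Step.D (nat_lit 438) (Step.D (nat_lit 784) Step.done))))))))))))) (Scr.cons (nat_lit 8) (nat_lit 3) (Step.U (nat_lit 785) (Step.D (nat_lit 784) (Step.F (nat_lit 616) Step.done))) (Scr.cons (nat_lit 21) (nat_lit 1) (Step.U (nat_lit 919) (Step.B (nat_lit 606) (Step.F (nat_lit 607)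 (Step.D (nat_lit 602) (Step.D (nat_lit 921) (Step.F (nat_lit 613) (Step.U (nat_lit 1015) (Step.U (nat_lit 786) (Step.U (nat_lit 439) (Step.D (nat_lit 438) (Step.D (nat_lit 785) (Step.B (nat_lit 617) (Step.D (nat_lit 1041) Step.done))))))))))))) (Scr.cons (nat_lit 1) (nat_lit 0) (Step.B (nat_lit 568) (Step.B (nat_lit 605) (Step.B (nat_lit 618) Step.done))) (Scr.cons (nat_lit 21) (nat_lit 2) (Step.U (nat_lit 224) (Step.L (Step.L (Step.L (Step.L (Step.L (Step.L (Step.L (Step.L (Step.L (Step.B (nat_lit 74) (Step.D (nat_lit 160) (Step.D (nat_lit 456) Step.done))))))))))))) (Scr.cons (nat_lit 9) (nat_lit 0) (Step.U (nat_lit 223) (Step.D (nat_lit 224) Step.done)) (Scr.cons (nat_lit 8) (nat_lit 2) (Step.U (nat_lit 543) (Step.B (nat_lit 621) (Step.D (nat_lit 544) Step.done))) (Scr.cons (nat_lit 11) (nat_lit 2) (Step.F (nat_lit 569) (Step.F (nat_lit 570) (Step.F (nat_lit 380) (Step.D (nat_lit 456) (Step.F (nat_lit 620) (Step.D (nat_lit 544) (Step.F (nat_lit 622) (Step.D (nat_lit 878) Step.done))))))))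 (Scr.cons (nat_lit 0) (nat_lit 0) (Step.D (nat_lit 1041) (Step.F (nat_lit 619) (Step.B (nat_lit 623) Step.done))) (Scr.cons (nat_lit 2) (nat_lit 0) (Step.D (nat_lit 878) (Step.F (nat_lit 624) (Step.U (nat_lit 864) Step.done))) (Scr.cons (nat_lit 1) (nat_lit 0) (Step.D (nat_lit 543) (Step.B (nat_lit 625) (Step.U (nat_lit 528) Step.done))) (Scr.cons (nat_lit 0) (nat_lit 0) (Step.B (nat_lit 567) (Step.B (nat_lit 626) (Step.U (nat_lit 214) Step.done))) (Scr.cons (nat_lit 3) (nat_lit 0) (Step.D (nat_lit 48) (Step.B (nat_lit 627) (Step.F (nat_lit 131) Step.done))) (Scr.cons (nat_lit 3) (nat_lit 1) (Step.D (nat_lit 44) (Step.F (nat_lit 628) Step.done)) (Scr.cons (nat_lit 8) (nat_lit 1) (Step.U (nat_lit 586) (Step.D (nat_lit 585) (Step.D (nat_lit 903) Step.done))) (Scr.cons (nat_lit 0) (nat_lit 0) (Step.F (nat_lit 630) (Step.B (nat_lit 502) (Step.D (nat_lit 387) Step.done))) (Scr.cons (nat_lit 8) (nat_lit 2) (Step.U (nat_lit 426) (Step.B (nat_lit 503) (Step.D (nat_lit 427) Step.done))) (Scr.cons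 (nat_lit 8) (nat_lit 3) (Step.U (nat_lit 388) (Step.D (nat_lit 387) (Step.D (nat_lit 738) Step.done))) (Scr.cons (nat_lit 1) (nat_lit 0) (Step.F (nat_lit 633) (Step.B (nat_lit 562) (Step.D (nat_lit 426) Step.done))) (Scr.cons (nat_lit 3) (nat_lit 1) (Step.D (nat_lit 738) (Step.B (nat_lit 634) (Step.B (nat_lit 632) Step.done))) (Scr.cons (nat_lit 3) (nat_lit 1) (Step.B (nat_lit 632) (Step.F (nat_lit 635) Step.done)) (Scr.cons (nat_lit 3) (nat_lit 0) (Step.D (nat_lit 903) (Step.B (nat_lit 631) (Step.F (nat_lit 636) Step.done))) (Scr.cons (nat_lit 9) (nat_lit 0) (Step.U (nat_lit 903) (Step.D (nat_lit 904) Step.done)) (Scr.cons (nat_lit 3) (nat_lit 1) (Step.F (nat_lit 638) (Step.B (nat_lit 631) (Step.D (nat_lit 737) Step.done))) (Scr.cons (nat_lit 8) (nat_lit 1) (Step.U (nat_lit 259) (Step.D (nat_lit 257) (Step.D (nat_lit 583) Step.done))) (Scr.cons (nat_lit 9) (nat_lit 0) (Step.U (nat_lit 259) (Step.D (nat_lit 260) Step.done)) Scr.nil))))))))))))))))))))))))))))))))))))))))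
noncomputable def s16 : Scr := (Scr.cons (nat_lit 8) (nat_lit 2) (Step.U (nat_lit 587) (Step.B (nat_lit 641) (Step.D (nat_lit 588) Step.done))) (Scr.cons (nat_lit 8) (nat_lit 1) (Step.U (nat_lit 608) (Step.D (nat_lit 607) (Step.D (nat_lit 924) Step.done))) (Scr.cons (nat_lit 9) (nat_lit 0) (Step.U (nat_lit 608) (Step.D (nat_lit 609) Step.done)) (Scr.cons (nat_lit 9) (nat_lit 0) (Step.U (nat_lit 867) (Step.D (nat_lit 868) Step.done)) (Scr.cons (nat_lit 13) (nat_lit 1) (Step.U (nat_lit 608) (Step.U (nat_lit 275) (Step.L (Step.L (Step.L (Step.L (Step.L (Step.L (Step.L (Step.D (nat_lit 45) (Step.D (nat_lit 215) (Step.D (nat_lit 530) (Step.D (nat_lit 867) Step.done))))))))))))) (Scr.cons (nat_lit 8) (nat_lit 1) (Step.F (nat_lit 645) (Step.F (nat_lit 646) (Step.B (nat_lit 644) Step.done))) (Scr.cons (nat_lit 8) (nat_lit 1) (Step.U (nat_lit 519) (Step.D (nat_lit 518) (Step.D (nat_lit 855) Step.done))) (Scr.cons (nat_lit 21) (nat_lit 13) (Step.U (nat_lit 866) (Step.U (nat_lit 530) (Step.U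 (nat_lit 215) (Step.U (nat_lit 45) (Step.D (nat_lit 43) (Step.D (nat_lit 209) (Step.D (nat_lit 519) (Step.B (nat_lit 648) (Step.B (nat_lit 464) (Step.U (nat_lit 910) (Step.U (nat_lit 590) (Step.D (nat_lit 589) (Step.D (nat_lit 909) Step.done))))))))))))) (Scr.cons (nat_lit 8) (nat_lit 0) (Step.U (nat_lit 907) (Step.D (nat_lit 909) (Step.F (nat_lit 649) Step.done))) (Scr.cons (nat_lit 8) (nat_lit 1) (Step.U (nat_lit 591) (Step.D (nat_lit 589) (Step.D (nat_lit 908) Step.done))) (Scr.cons (nat_lit 9) (nat_lit 0) (Step.U (nat_lit 591) (Step.D (nat_lit 592) Step.done)) (Scr.cons (nat_lit 19) (nat_lit 1) (Step.U (nat_lit 923) (Step.D (nat_lit 924) (Step.F (nat_lit 643) (Step.B (nat_lit 644) (Step.F (nat_lit 647) (Step.U (nat_lit 868) (Step.D (nat_lit 866) (Step.F (nat_lit 650) (Step.U (nat_lit 907) (Step.D (nat_lit 908) (Step.F (nat_lit 651) (Step.B (nat_lit 652) (Step.D (nat_lit 911) Step.done))))))))))))) (Scr.cons (nat_lit 8) (nat_lit 3) (Step.F (nat_lit 653) (Step.U (nat_lit 923) (Step.D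 (nat_lit 925) Step.done))) (Scr.cons (nat_lit 12) (nat_lit 11) (Step.F (nat_lit 654) (Step.U (nat_lit 911) (Step.F (nat_lit 462) (Step.U (nat_lit 263) (Step.U (nat_lit 64) (Step.L (Step.L (Step.D (nat_lit 0) (Step.D (nat_lit 4) (Step.D (nat_lit 54) (Step.D (nat_lit 238) (Step.D (nat_lit 561) (Step.D (nat_lit 889) Step.done))))))))))))) (Scr.cons (nat_lit 0) (nat_lit 0) (Step.U (nat_lit 911) (Step.B (nat_lit 466) (Step.D (nat_lit 588) Step.done))) (Scr.cons (nat_lit 1) (nat_lit 0) (Step.F (nat_lit 654) (Step.B (nat_lit 656) (Step.D (nat_lit 906) Step.done))) (Scr.cons (nat_lit 2) (nat_lit 0) (Step.F (nat_lit 655) (Step.B (nat_lit 657) Step.done)) (Scr.cons (nat_lit 20) (nat_lit 5) (Step.U (nat_lit 560) (Step.U (nat_lit 238) (Step.U (nat_lit 54) (Step.U (nat_lit 4) (Step.D (nat_lit 5) (Step.D (nat_lit 55) (Step.D (nat_lit 239) (Step.D (nat_lit 563) Step.done)))))))) (Scr.cons (nat_lit 12) (nat_lit 11) (Step.U (nat_lit 902) (Step.F (nat_lit 640) (Step.D (nat_lit 587) (Step.B (nat_lit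 642) (Step.D (nat_lit 906) (Step.F (nat_lit 658) (Step.U (nat_lit 889) (Step.U (nat_lit 561) (Step.D (nat_lit 560) (Step.B (nat_lit 659) (Step.U (nat_lit 563) (Step.D (nat_lit 562) (Step.D (nat_lit 890) Step.done))))))))))))) (Scr.cons (nat_lit 20) (nat_lit 5) (Step.U (nat_lit 47) (Step.L (Step.L (Step.L (Step.L (Step.D (nat_lit 0) (Step.D (nat_lit 6) (Step.D (nat_lit 57) Step.done)))))))) (Scr.cons (nat_lit 8) (nat_lit 3) (Step.U (nat_lit 540) (Step.D (nat_lit 537) (Step.D (nat_lit 874) Step.done))) (Scr.cons (nat_lit 22) (nat_lit 2) (Step.B (nat_lit 660) (Step.U (nat_lit 890) (Step.U (nat_lit 562) (Step.U (nat_lit 239) (Step.U (nat_lit 55) (Step.U (nat_lit 5) (Step.D (nat_lit 6) (Step.D (nat_lit 57) (Step.F (nat_lit 661) (Step.D (nat_lit 220) (Step.D (nat_lit 540) (Step.B (nat_lit 662) (Step.D (nat_lit 1044) Step.done))))))))))))) (Scr.cons (nat_lit 9) (nat_lit 0) (Step.U (nat_lit 539) (Step.D (nat_lit 540) Step.done)) (Scr.cons (nat_lit 8) (nat_lit 1) (Step.U (nat_lit 221) (Step.D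 (nat_lit 220) (Step.D (nat_lit 539) Step.done))) (Scr.cons (nat_lit 8) (nat_lit 2) (Step.U (nat_lit 345) (Step.B (nat_lit 445) (Step.D (nat_lit 346) Step.done))) (Scr.cons (nat_lit 10) (nat_lit 1) (Step.F (nat_lit 664) (Step.F (nat_lit 665) (Step.U (nat_lit 221) (Step.U (nat_lit 47) (Step.D (nat_lit 49) (Step.D (nat_lit 227) (Step.F (nat_lit 349) (Step.B (nat_lit 608) (Step.U (nat_lit 343) (Step.L (Step.D (nat_lit 98) (Step.D (nat_lit 346) (Step.F (nat_lit 666) Step.done))))))))))))) (Scr.cons (nat_lit 8) (nat_lit 3) (Step.B (nat_lit 664) (Step.B (nat_lit 667) (Step.B (nat_lit 238) Step.done))) (Scr.cons (nat_lit 18) (nat_lit 0) (Step.F (nat_lit 238) (Step.B (nat_lit 666) Step.done)) (Scr.cons (nat_lit 8) (nat_lit 2) (Step.U (nat_lit 688) (Step.F (nat_lit 669) (Step.D (nat_lit 777) Step.done))) (Scr.cons (nat_lit 9) (nat_lit 0) (Step.F (nat_lit 670) (Step.D (nat_lit 970) Step.done)) (Scr.cons (nat_lit 8) (nat_lit 2) (Step.U (nat_lit 338) (Step.B (nat_lit 360) (Step.D (nat_lit 340)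 Step.done))) (Scr.cons (nat_lit 10) (nat_lit 1) (Step.F (nat_lit 671) (Step.U (nat_lit 777) (Step.B (nat_lit 669) (Step.U (nat_lit 346) (Step.F (nat_lit 445) (Step.L (Step.L (Step.D (nat_lit 15) (Step.D (nat_lit 97) (Step.D (nat_lit 340) (Step.F (nat_lit 672) (Step.D (nat_lit 680) (Step.D (nat_lit 967) Step.done))))))))))))) (Scr.cons (nat_lit 9) (nat_lit 0) (Step.U (nat_lit 966) (Step.D (nat_lit 967) Step.done)) (Scr.cons (nat_lit 8) (nat_lit 3) (Step.B (nat_lit 671) (Step.B (nat_lit 673) (Step.F (nat_lit 674) Step.done))) (Scr.cons (nat_lit 21) (nat_lit 2) (Step.U (nat_lit 904) (Step.U (nat_lit 585) (Step.U (nat_lit 258) (Step.D (nat_lit 259) (Step.B (nat_lit 640) (Step.D (nat_lit 902) (Step.B (nat_lit 663) (Step.U (nat_lit 1044) (Step.F (nat_lit 662) (Step.F (nat_lit 664) (Step.B (nat_lit 668) (Step.D (nat_lit 777) (Step.B (nat_lit 675) Step.done))))))))))))) (Scr.cons (nat_lit 8) (nat_lit 1) (Step.U (nat_lit 809) (Step.D (nat_lit 808) (Step.D (nat_lit 1025) Step.done))) (Scr.cons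 (nat_lit 9) (nat_lit 0) (Step.F (nat_lit 143) (Step.D (nat_lit 462) Step.done)) (Scr.cons (nat_lit 8) (nat_lit 2) (Step.U (nat_lit 464) (Step.B (nat_lit 678) (Step.D (nat_lit 812) Step.done))) (Scr.cons (nat_lit 8) (nat_lit 0) (Step.B (nat_lit 204) (Step.U (nat_lit 811) (Step.D (nat_lit 810) Step.done))) (Scr.cons (nat_lit 13) (nat_lit 1) (Step.U (nat_lit 816) (Step.U (nat_lit 465) (Step.F (nat_lit 143) (Step.D (nat_lit 461) (Step.D (nat_lit 810) (Step.F (nat_lit 680) (Step.U (nat_lit 677) (Step.U (nat_lit 334) (Step.U (nat_lit 94) (Step.D (nat_lit 95) (Step.D (nat_lit 337) (Step.D (nat_lit 678) (Step.D (nat_lit 965) Step.done))))))))))))) Scr.nil))))))))))))))))))))))))))))))))))))))))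
noncomputable def s17 : Scr := (Scr.cons (nat_lit 8) (nat_lit 1) (Step.U (nat_lit 679) (Step.D (nat_lit 678) (Step.D (nat_lit 965) Step.done))) (Scr.cons (nat_lit 9) (nat_lit 0) (Step.U (nat_lit 332) (Step.D (nat_lit 333) Step.done)) (Scr.cons (nat_lit 11) (nat_lit 3) (Step.U (nat_lit 676) (Step.U (nat_lit 332) (Step.B (nat_lit 583) (Step.U (nat_lit 142) (Step.L (Step.F (nat_lit 476) (Step.D (nat_lit 417) (Step.D (nat_lit 765) Step.done)))))))) (Scr.cons (nat_lit 8) (nat_lit 3) (Step.B (nat_lit 684) (Step.U (nat_lit 765) (Step.D (nat_lit 768) Step.done))) (Scr.cons (nat_lit 12) (nat_lit 0) (Step.U (nat_lit 815) (Step.U (nat_lit 464) (Step.D (nat_lit 465) (Step.D (nat_lit 816) (Step.B (nat_lit 681) (Step.F (nat_lit 682) (Step.U (nat_lit 679) (Step.U (nat_lit 337) (Step.B (nat_lit 584) (Step.F (nat_lit 683) (Step.D (nat_lit 676) (Step.B (nat_lit 685) (Step.D (nat_lit 1004) Step.done))))))))))))) (Scr.cons (nat_lit 8) (nat_lit 2) (Step.F (nat_lit 686) (Step.U (nat_lit 815) (Step.D (nat_lit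 814) Step.done))) (Scr.cons (nat_lit 9) (nat_lit 0) (Step.U (nat_lit 767) (Step.D (nat_lit 768) Step.done)) (Scr.cons (nat_lit 8) (nat_lit 1) (Step.U (nat_lit 767) (Step.D (nat_lit 766) (Step.D (nat_lit 1002) Step.done))) (Scr.cons (nat_lit 10) (nat_lit 0) (Step.F (nat_lit 677) (Step.U (nat_lit 809) (Step.U (nat_lit 460) (Step.D (nat_lit 462) (Step.D (nat_lit 812) (Step.F (nat_lit 679) (Step.D (nat_lit 814) (Step.F (nat_lit 687) (Step.U (nat_lit 1004) (Step.F (nat_lit 688) (Step.B (nat_lit 689) (Step.U (nat_lit 1002) (Step.D (nat_lit 1001) Step.done))))))))))))) (Scr.cons (nat_lit 8) (nat_lit 3) (Step.U (nat_lit 1003) (Step.D (nat_lit 1001) (Step.F (nat_lit 690) Step.done))) (Scr.cons (nat_lit 0) (nat_lit 0) (Step.F (nat_lit 677) (Step.B (nat_lit 444) (Step.D (nat_lit 346) Step.done))) (Scr.cons (nat_lit 1) (nat_lit 0) (Step.B (nat_lit 691) (Step.B (nat_lit 692) (Step.D (nat_lit 688) Step.done))) (Scr.cons (nat_lit 3) (nat_lit 1) (Step.D (nat_lit 1003) (Step.B (nat_lit 693) (Step.B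 (nat_lit 670) Step.done))) (Scr.cons (nat_lit 1) (nat_lit 0) (Step.F (nat_lit 675) (Step.F (nat_lit 694) (Step.U (nat_lit 766) Step.done))) (Scr.cons (nat_lit 2) (nat_lit 0) (Step.F (nat_lit 639) (Step.B (nat_lit 676) (Step.B (nat_lit 695) (Step.U (nat_lit 417) Step.done)))) (Scr.cons (nat_lit 3) (nat_lit 1) (Step.F (nat_lit 637) (Step.D (nat_lit 904) (Step.B (nat_lit 639) (Step.B (nat_lit 696) (Step.B (nat_lit 476) Step.done))))) (Scr.cons (nat_lit 1) (nat_lit 0) (Step.D (nat_lit 426) (Step.B (nat_lit 697) (Step.D (nat_lit 419) Step.done))) (Scr.cons (nat_lit 1) (nat_lit 0) (Step.D (nat_lit 419) (Step.F (nat_lit 698) Step.done)) (Scr.cons (nat_lit 3) (nat_lit 0) (Step.D (nat_lit 737) (Step.B (nat_lit 696) (Step.D (nat_lit 418) Step.done))) (Scr.cons (nat_lit 3) (nat_lit 1) (Step.B (nat_lit 479) (Step.F (nat_lit 700) Step.done)) (Scr.cons (nat_lit 2) (nat_lit 0) (Step.F (nat_lit 350) (Step.F (nat_lit 700) (Step.D (nat_lit 736) Step.done))) (Scr.cons (nat_lit 1) (nat_lit 0) (Step.U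 (nat_lit 225) (Step.B (nat_lit 627) (Step.B (nat_lit 133) Step.done))) (Scr.cons (nat_lit 3) (nat_lit 1) (Step.F (nat_lit 349) (Step.B (nat_lit 703) (Step.U (nat_lit 207) Step.done))) (Scr.cons (nat_lit 2) (nat_lit 0) (Step.D (nat_lit 736) (Step.F (nat_lit 702) (Step.B (nat_lit 704) (Step.L Step.done)))) (Scr.cons (nat_lit 3) (nat_lit 0) (Step.B (nat_lit 701) (Step.B (nat_lit 705) (Step.D (nat_lit 513) Step.done))) (Scr.cons (nat_lit 3) (nat_lit 0) (Step.D (nat_lit 513) (Step.F (nat_lit 706) Step.done)) (Scr.cons (nat_lit 20) (nat_lit 2) (Step.U (nat_lit 49) (Step.L (Step.L (Step.L (Step.L (Step.L (Step.B (nat_lit 345) (Step.D (nat_lit 57) Step.done)))))))) (Scr.cons (nat_lit 3) (nat_lit 1) (Step.F (nat_lit 348) (Step.B (nat_lit 627) (Step.U (nat_lit 45) Step.done))) (Scr.cons (nat_lit 1) (nat_lit 0) (Step.D (nat_lit 43) (Step.F (nat_lit 498) Step.done)) (Scr.cons (nat_lit 1) (nat_lit 0) (Step.F (nat_lit 708) (Step.B (nat_lit 709) (Step.B (nat_lit 710) Step.done))) (Scr.cons (nat_lit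 2) (nat_lit 0) (Step.D (nat_lit 57) (Step.B (nat_lit 711) (Step.U (nat_lit 25) Step.done))) (Scr.cons (nat_lit 0) (nat_lit 0) (Step.B (nat_lit 345) (Step.B (nat_lit 712) (Step.B (nat_lit 526) Step.done))) (Scr.cons (nat_lit 0) (nat_lit 0) (Step.B (nat_lit 526) (Step.F (nat_lit 713) Step.done)) (Scr.cons (nat_lit 8) (nat_lit 1) (Step.U (nat_lit 757) (Step.D (nat_lit 756) (Step.D (nat_lit 996) Step.done))) (Scr.cons (nat_lit 8) (nat_lit 2) (Step.U (nat_lit 419) (Step.B (nat_lit 479) (Step.D (nat_lit 769) Step.done))) (Scr.cons (nat_lit 9) (nat_lit 0) (Step.F (nat_lit 716) (Step.D (nat_lit 770) Step.done)) (Scr.cons (nat_lit 8) (nat_lit 2) (Step.U (nat_lit 135) (Step.L (Step.L Step.done))) (Scr.cons (nat_lit 10) (nat_lit 1) (Step.F (nat_lit 717) (Step.U (nat_lit 769) (Step.F (nat_lit 479) (Step.L (Step.L (Step.L (Step.L (Step.L (Step.L (Step.L (Step.F (nat_lit 718) (Step.D (nat_lit 411) (Step.D (nat_lit 758) Step.done))))))))))))) (Scr.cons (nat_lit 9) (nat_lit 0) (Step.U (nat_lit 757)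 (Step.D (nat_lit 758) Step.done)) (Scr.cons (nat_lit 8) (nat_lit 3) (Step.B (nat_lit 717) (Step.B (nat_lit 719) (Step.F (nat_lit 720) Step.done))) Scr.nil))))))))))))))))))))))))))))))))))))))))
noncomputable def s18 : Scr := (Scr.cons (nat_lit 0) (nat_lit 0) (Step.U (nat_lit 769) (Step.F (nat_lit 700) (Step.U (nat_lit 387) Step.done))) (Scr.cons (nat_lit 1) (nat_lit 0) (Step.F (nat_lit 721) (Step.B (nat_lit 722) (Step.U (nat_lit 122) Step.done))) (Scr.cons (nat_lit 0) (nat_lit 0) (Step.F (nat_lit 715) (Step.B (nat_lit 723) (Step.U (nat_lit 26) Step.done))) (Scr.cons (nat_lit 3) (nat_lit 0) (Step.D (nat_lit 996) (Step.B (nat_lit 724) (Step.L Step.done))) (Scr.cons (nat_lit 3) (nat_lit 0) (Step.D (nat_lit 757) (Step.B (nat_lit 723) (Step.F (nat_lit 422) Step.done))) (Scr.cons (nat_lit 3) (nat_lit 1) (Step.D (nat_lit 527) (Step.B (nat_lit 416) (Step.D (nat_lit 380) Step.done))) (Scr.cons (nat_lit 3) (nat_lit 1) (Step.D (nat_lit 380) (Step.F (nat_lit 727) Step.done)) (Scr.cons (nat_lit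 2) (nat_lit 0) (Step.U (nat_lit 213) (Step.F (nat_lit 628) (Step.L Step.done))) (Scr.cons (nat_lit 3) (nat_lit 0) (Step.B (nat_lit 728) (Step.B (nat_lit 729) (Step.L Step.done))) (Scr.cons (nat_lit 2) (nat_lit 0) (Step.D (nat_lit 118) (Step.B (nat_lit 730) (Step.L Step.done))) (Scr.cons (nat_lit 1) (nat_lit 0) (Step.F (nat_lit 725) (Step.U (nat_lit 756) (Step.B (nat_lit 726) (Step.B (nat_lit 731) (Step.B (nat_lit 710) Step.done))))) (Scr.cons (nat_lit 1) (nat_lit 0) (Step.B (nat_lit 710) (Step.F (nat_lit 732) Step.done)) (Scr.cons (nat_lit 8) (nat_lit 1) (Step.U (nat_lit 206) (Step.D (nat_lit 205) (Step.D (nat_lit 511) Step.done))) (Scr.cons (nat_lit 8) (nat_lit 3) (Step.U (nat_lit 598) (Step.D (nat_lit 596) (Step.D (nat_lit 916) Step.done))) (Scr.cons (nat_lit 11) (nat_lit 1) (Step.F (nat_lit 630) (Step.U (nat_lit 586) (Step.U (nat_lit 258) (Step.D (nat_lit 260) (Step.F (nat_lit 465) (Step.D (nat_lit 266) (Step.D (nat_lit 596) (Step.D (nat_lit 916) Step.done)))))))) (Scr.cons (nat_lit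 2) (nat_lit 0) (Step.F (nat_lit 736) (Step.B (nat_lit 631) (Step.D (nat_lit 736) Step.done))) (Scr.cons (nat_lit 1) (nat_lit 0) (Step.B (nat_lit 735) (Step.B (nat_lit 737) (Step.D (nat_lit 990) Step.done))) (Scr.cons (nat_lit 1) (nat_lit 0) (Step.D (nat_lit 990) (Step.F (nat_lit 738) Step.done)) (Scr.cons (nat_lit 1) (nat_lit 0) (Step.F (nat_lit 739) (Step.F (nat_lit 702) (Step.B (nat_lit 704) (Step.D (nat_lit 205) Step.done)))) (Scr.cons (nat_lit 3) (nat_lit 1) (Step.D (nat_lit 598) (Step.B (nat_lit 740) (Step.D (nat_lit 511) Step.done))) (Scr.cons (nat_lit 8) (nat_lit 3) (Step.U (nat_lit 614) (Step.D (nat_lit 612) (Step.D (nat_lit 926) Step.done))) (Scr.cons (nat_lit 9) (nat_lit 0) (Step.U (nat_lit 511) (Step.D (nat_lit 512) Step.done)) (Scr.cons (nat_lit 8) (nat_lit 2) (Step.U (nat_lit 849) (Step.B (nat_lit 743) (Step.D (nat_lit 850) Step.done))) (Scr.cons (nat_lit 9) (nat_lit 0) (Step.F (nat_lit 744) (Step.D (nat_lit 1031) Step.done)) (Scr.cons (nat_lit 9) (nat_lit 0) (Step.U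 (nat_lit 857) (Step.D (nat_lit 858) Step.done)) (Scr.cons (nat_lit 8) (nat_lit 2) (Step.U (nat_lit 1036) (Step.B (nat_lit 746) (Step.D (nat_lit 1037) Step.done))) (Scr.cons (nat_lit 10) (nat_lit 1) (Step.F (nat_lit 745) (Step.U (nat_lit 850) (Step.F (nat_lit 743) (Step.F (nat_lit 734) (Step.U (nat_lit 206) (Step.L (Step.D (nat_lit 45) (Step.D (nat_lit 214) (Step.F (nat_lit 132) (Step.D (nat_lit 522) (Step.D (nat_lit 858) (Step.D (nat_lit 1037) (Step.F (nat_lit 747) Step.done))))))))))))) (Scr.cons (nat_lit 9) (nat_lit 0) (Step.U (nat_lit 179) (Step.D (nat_lit 180) Step.done)) (Scr.cons (nat_lit 8) (nat_lit 3) (Step.L (Step.D (nat_lit 35) (Step.D (nat_lit 180) Step.done))) (Scr.cons (nat_lit 8) (nat_lit 3) (Step.U (nat_lit 67) (Step.D (nat_lit 66) (Step.D (nat_lit 281) Step.done))) (Scr.cons (nat_lit 9) (nat_lit 0) (Step.U (nat_lit 280) (Step.D (nat_lit 281) Step.done)) (Scr.cons (nat_lit 21) (nat_lit 0) (Step.U (nat_lit 836) (Step.U (nat_lit 489) (Step.B (nat_lit 749) (Step.F (nat_lit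 750) (Step.D (nat_lit 186) (Step.D (nat_lit 496) (Step.B (nat_lit 420) (Step.F (nat_lit 167) (Step.U (nat_lit 618) (Step.U (nat_lit 282) (Step.B (nat_lit 751) (Step.F (nat_lit 752) (Step.D (nat_lit 615) Step.done))))))))))))) (Scr.cons (nat_lit 8) (nat_lit 2) (Step.U (nat_lit 615) (Step.B (nat_lit 752) (Step.D (nat_lit 616) Step.done))) (Scr.cons (nat_lit 8) (nat_lit 2) (Step.U (nat_lit 68) (Step.L (Step.D (nat_lit 69) Step.done))) (Scr.cons (nat_lit 9) (nat_lit 0) (Step.F (nat_lit 755) (Step.D (nat_lit 283) Step.done)) (Scr.cons (nat_lit 8) (nat_lit 2) (Step.U (nat_lit 284) (Step.B (nat_lit 756) (Step.D (nat_lit 620) Step.done))) (Scr.cons (nat_lit 9) (nat_lit 0) (Step.F (nat_lit 757) (Step.D (nat_lit 621) Step.done)) (Scr.cons (nat_lit 19) (nat_lit 1) (Step.B (nat_lit 753) (Step.B (nat_lit 754) (Step.U (nat_lit 616) (Step.U (nat_lit 281) (Step.U (nat_lit 66) (Step.L (Step.L (Step.L (Step.D (nat_lit 69) (Step.B (nat_lit 756) (Step.D (nat_lit 620) (Step.B (nat_lit 758) (Step.D (nat_lit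 931) Step.done))))))))))))) (Scr.cons (nat_lit 8) (nat_lit 3) (Step.F (nat_lit 759) (Step.B (nat_lit 753) (Step.D (nat_lit 928) Step.done))) (Scr.cons (nat_lit 20) (nat_lit 2) (Step.U (nat_lit 381) (Step.U (nat_lit 118) (Step.B (nat_lit 422) (Step.U (nat_lit 26) (Step.L (Step.D (nat_lit 124) (Step.F (nat_lit 215) (Step.D (nat_lit 494) Step.done)))))))) Scr.nil))))))))))))))))))))))))))))))))))))))))
noncomputable def s19 : Scr := (Scr.cons (nat_lit 9) (nat_lit 0) (Step.U (nat_lit 380) (Step.D (nat_lit 381) Step.done)) (Scr.cons (nat_lit 12) (nat_lit 13) (Step.F (nat_lit 760) (Step.F (nat_lit 759) (Step.U (nat_lit 836) (Step.U (nat_lit 489) (Step.B (nat_lit 749) (Step.F (nat_lit 750) (Step.D (nat_lit 185) (Step.F (nat_lit 421) (Step.D (nat_lit 494) (Step.F (nat_lit 761) (Step.F (nat_lit 762) (Step.D (nat_lit 726) (Step.D (nat_lit 987) Step.done))))))))))))) (Scr.cons (nat_lit 2) (nat_lit 0) (Step.U (nat_lit 726) (Step.F (nat_lit 727) (Step.U (nat_lit 213) Step.done))) (Scr.cons (nat_lit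 1) (nat_lit 0) (Step.U (nat_lit 987) (Step.B (nat_lit 764) (Step.D (nat_lit 212) Step.done))) (Scr.cons (nat_lit 0) (nat_lit 0) (Step.B (nat_lit 763) (Step.B (nat_lit 765) (Step.D (nat_lit 522) Step.done))) (Scr.cons (nat_lit 3) (nat_lit 1) (Step.D (nat_lit 928) (Step.B (nat_lit 766) (Step.D (nat_lit 857) Step.done))) (Scr.cons (nat_lit 1) (nat_lit 0) (Step.U (nat_lit 1036) (Step.F (nat_lit 767) (Step.U (nat_lit 615) Step.done))) (Scr.cons (nat_lit 8) (nat_lit 1) (Step.U (nat_lit 280) (Step.D (nat_lit 279) (Step.D (nat_lit 613) Step.done))) (Scr.cons (nat_lit 0) (nat_lit 0) (Step.B (nat_lit 748) (Step.B (nat_lit 768) (Step.B (nat_lit 769) Step.done))) (Scr.cons (nat_lit 9) (nat_lit 0) (Step.U (nat_lit 613) (Step.D (nat_lit 614) Step.done)) (Scr.cons (nat_lit 3) (nat_lit 1) (Step.D (nat_lit 1031) (Step.B (nat_lit 770) (Step.B (nat_lit 771) Step.done))) (Scr.cons (nat_lit 1) (nat_lit 0) (Step.D (nat_lit 849) (Step.B (nat_lit 772) (Step.B (nat_lit 742) Step.done))) (Scr.cons (nat_lit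 1) (nat_lit 0) (Step.B (nat_lit 742) (Step.F (nat_lit 773) Step.done)) (Scr.cons (nat_lit 21) (nat_lit 11) (Step.U (nat_lit 988) (Step.U (nat_lit 729) (Step.U (nat_lit 383) (Step.U (nat_lit 120) (Step.U (nat_lit 25) (Step.L (Step.B (nat_lit 213) (Step.B (nat_lit 217) (Step.L (Step.L (Step.D (nat_lit 419) (Step.D (nat_lit 770) (Step.D (nat_lit 1005) Step.done))))))))))))) (Scr.cons (nat_lit 8) (nat_lit 1) (Step.U (nat_lit 730) (Step.D (nat_lit 729) (Step.D (nat_lit 988) Step.done))) (Scr.cons (nat_lit 0) (nat_lit 0) (Step.F (nat_lit 776) (Step.B (nat_lit 495) (Step.B (nat_lit 734) Step.done))) (Scr.cons (nat_lit 1) (nat_lit 0) (Step.F (nat_lit 775) (Step.B (nat_lit 777) (Step.F (nat_lit 774) Step.done))) (Scr.cons (nat_lit 2) (nat_lit 0) (Step.D (nat_lit 1005) (Step.B (nat_lit 778) (Step.D (nat_lit 927) Step.done))) (Scr.cons (nat_lit 2) (nat_lit 0) (Step.D (nat_lit 927) (Step.F (nat_lit 779) Step.done)) (Scr.cons (nat_lit 3) (nat_lit 0) (Step.U (nat_lit 770) (Step.F (nat_lit 698)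 (Step.L Step.done))) (Scr.cons (nat_lit 2) (nat_lit 0) (Step.B (nat_lit 780) (Step.B (nat_lit 781) (Step.L Step.done))) (Scr.cons (nat_lit 1) (nat_lit 0) (Step.B (nat_lit 741) (Step.F (nat_lit 774) (Step.B (nat_lit 782) (Step.L Step.done)))) (Scr.cons (nat_lit 0) (nat_lit 0) (Step.B (nat_lit 734) (Step.F (nat_lit 741) (Step.B (nat_lit 783) (Step.L Step.done)))) (Scr.cons (nat_lit 3) (nat_lit 1) (Step.D (nat_lit 206) (Step.B (nat_lit 784) Step.done)) (Scr.cons (nat_lit 1) (nat_lit 0) (Step.U (nat_lit 1026) (Step.B (nat_lit 444) (Step.B (nat_lit 434) Step.done))) (Scr.cons (nat_lit 0) (nat_lit 0) (Step.F (nat_lit 183) (Step.B (nat_lit 786) (Step.D (nat_lit 687) Step.done))) (Scr.cons (nat_lit 9) (nat_lit 0) (Step.U (nat_lit 343) (Step.D (nat_lit 344) Step.done)) (Scr.cons (nat_lit 8) (nat_lit 2) (Step.U (nat_lit 686) (Step.B (nat_lit 788) (Step.D (nat_lit 687) Step.done))) (Scr.cons (nat_lit 3) (nat_lit 0) (Step.B (nat_lit 139) (Step.B (nat_lit 787) (Step.F (nat_lit 789) Step.done)))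 (Scr.cons (nat_lit 1) (nat_lit 0) (Step.D (nat_lit 686) (Step.F (nat_lit 790) Step.done)) (Scr.cons (nat_lit 0) (nat_lit 0) (Step.D (nat_lit 516) (Step.B (nat_lit 432) Step.done)) (Scr.cons (nat_lit 0) (nat_lit 0) (Step.F (nat_lit 608) (Step.B (nat_lit 703) (Step.B (nat_lit 792) Step.done))) (Scr.cons (nat_lit 1) (nat_lit 0) (Step.F (nat_lit 791) (Step.B (nat_lit 793) (Step.D (nat_lit 651) Step.done))) (Scr.cons (nat_lit 2) (nat_lit 0) (Step.U (nat_lit 226) (Step.B (nat_lit 627) (Step.D (nat_lit 215) Step.done))) (Scr.cons (nat_lit 1) (nat_lit 0) (Step.U (nat_lit 547) (Step.B (nat_lit 795) (Step.D (nat_lit 530) Step.done))) (Scr.cons (nat_lit 3) (nat_lit 1) (Step.F (nat_lit 794) (Step.F (nat_lit 138) (Step.B (nat_lit 796) (Step.D (nat_lit 867) Step.done)))) (Scr.cons (nat_lit 1) (nat_lit 0) (Step.B (nat_lit 646) (Step.F (nat_lit 797) (Step.U (nat_lit 651) Step.done))) (Scr.cons (nat_lit 3) (nat_lit 1) (Step.B (nat_lit 228) (Step.B (nat_lit 432) Step.done)) (Scr.cons (nat_lit 3) (nat_lit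 0) (Step.D (nat_lit 343) (Step.B (nat_lit 793) (Step.F (nat_lit 799) Step.done))) (Scr.cons (nat_lit 3) (nat_lit 0) (Step.F (nat_lit 799) (Step.F (nat_lit 800) Step.done)) Scr.nil))))))))))))))))))))))))))))))))))))))))
noncomputable def s20 : Scr := (Scr.cons (nat_lit 3) (nat_lit 0) (Step.D (nat_lit 608) (Step.B (nat_lit 798) (Step.B (nat_lit 801) Step.done))) (Scr.cons (nat_lit 2) (nat_lit 0) (Step.D (nat_lit 275) (Step.B (nat_lit 802) (Step.D (nat_lit 342) Step.done))) (Scr.cons (nat_lit 2) (nat_lit 0) (Step.D (nat_lit 342) (Step.F (nat_lit 803) Step.done)) (Scr.cons (nat_lit 22) (nat_lit 0) (Step.U (nat_lit 409) (Step.L (Step.L (Step.L (Step.L (Step.L (Step.L (Step.L (Step.L (Step.D (nat_lit 25) (Step.D (nat_lit 121) (Step.D (nat_lit 386) (Step.D (nat_lit 735) Step.done))))))))))))) (Scr.cons (nat_lit 8) (nat_lit 2) (Step.B (nat_lit 805) (Step.U (nat_lit 735) (Step.D (nat_lit 733) Step.done))) (Scr.cons (nat_lit 9) (nat_lit 0) (Step.U (nat_lit 133) (Step.L Step.done)) (Scr.cons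 (nat_lit 8) (nat_lit 2) (Step.U (nat_lit 407) (Step.B (nat_lit 807) (Step.D (nat_lit 408) Step.done))) (Scr.cons (nat_lit 11) (nat_lit 5) (Step.U (nat_lit 130) (Step.L (Step.L (Step.L (Step.L (Step.L (Step.L (Step.D (nat_lit 136) Step.done)))))))) (Scr.cons (nat_lit 22) (nat_lit 6) (Step.U (nat_lit 479) (Step.L (Step.D (nat_lit 174) (Step.D (nat_lit 481) (Step.F (nat_lit 585) (Step.U (nat_lit 412) (Step.F (nat_lit 809) (Step.U (nat_lit 130) (Step.L (Step.L (Step.L (Step.D (nat_lit 133) (Step.D (nat_lit 407) Step.done))))))))))))) (Scr.cons (nat_lit 8) (nat_lit 1) (Step.F (nat_lit 810) (Step.U (nat_lit 479) (Step.D (nat_lit 480) Step.done))) (Scr.cons (nat_lit 11) (nat_lit 1) (Step.B (nat_lit 811) (Step.U (nat_lit 480) (Step.L (Step.L (Step.L (Step.D (nat_lit 86) (Step.D (nat_lit 318) (Step.D (nat_lit 663) Step.done)))))))) (Scr.cons (nat_lit 9) (nat_lit 0) (Step.U (nat_lit 662) (Step.D (nat_lit 663) Step.done)) (Scr.cons (nat_lit 11) (nat_lit 6) (Step.U (nat_lit 734) (Step.D (nat_lit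 733) (Step.F (nat_lit 806) (Step.U (nat_lit 409) (Step.D (nat_lit 408) (Step.F (nat_lit 808) (Step.B (nat_lit 812) (Step.F (nat_lit 813) Step.done)))))))) (Scr.cons (nat_lit 8) (nat_lit 2) (Step.B (nat_lit 814) (Step.B (nat_lit 813) (Step.D (nat_lit 955) Step.done))) (Scr.cons (nat_lit 8) (nat_lit 3) (Step.U (nat_lit 321) (Step.D (nat_lit 318) (Step.D (nat_lit 663) Step.done))) (Scr.cons (nat_lit 13) (nat_lit 0) (Step.U (nat_lit 813) (Step.U (nat_lit 463) (Step.U (nat_lit 166) (Step.L (Step.L (Step.L (Step.L (Step.L (Step.L (Step.D (nat_lit 86) (Step.D (nat_lit 321) (Step.D (nat_lit 666) (Step.D (nat_lit 958) Step.done))))))))))))) (Scr.cons (nat_lit 8) (nat_lit 1) (Step.B (nat_lit 817) (Step.U (nat_lit 958) (Step.D (nat_lit 959) Step.done))) (Scr.cons (nat_lit 21) (nat_lit 1) (Step.U (nat_lit 954) (Step.B (nat_lit 813) (Step.F (nat_lit 816) (Step.D (nat_lit 666) (Step.D (nat_lit 959) (Step.F (nat_lit 818) (Step.U (nat_lit 813) (Step.U (nat_lit 463) (Step.U (nat_lit 166) (Step.D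 (nat_lit 165) (Step.D (nat_lit 462) (Step.F (nat_lit 205) (Step.D (nat_lit 941) Step.done))))))))))))) (Scr.cons (nat_lit 3) (nat_lit 1) (Step.B (nat_lit 142) (Step.B (nat_lit 786) (Step.U (nat_lit 344) Step.done))) (Scr.cons (nat_lit 1) (nat_lit 0) (Step.B (nat_lit 819) (Step.B (nat_lit 820) (Step.D (nat_lit 341) Step.done))) (Scr.cons (nat_lit 2) (nat_lit 0) (Step.D (nat_lit 954) (Step.B (nat_lit 821) (Step.D (nat_lit 682) Step.done))) (Scr.cons (nat_lit 2) (nat_lit 0) (Step.D (nat_lit 682) (Step.F (nat_lit 822) Step.done)) (Scr.cons (nat_lit 3) (nat_lit 0) (Step.F (nat_lit 480) (Step.B (nat_lit 703) (Step.F (nat_lit 91) Step.done))) (Scr.cons (nat_lit 2) (nat_lit 0) (Step.F (nat_lit 823) (Step.B (nat_lit 824) (Step.F (nat_lit 136) Step.done))) (Scr.cons (nat_lit 1) (nat_lit 0) (Step.B (nat_lit 814) (Step.B (nat_lit 825) (Step.U (nat_lit 482) Step.done))) (Scr.cons (nat_lit 3) (nat_lit 1) (Step.F (nat_lit 815) (Step.B (nat_lit 826) (Step.D (nat_lit 484) Step.done))) (Scr.cons (nat_lit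 9) (nat_lit 0) (Step.U (nat_lit 320) (Step.D (nat_lit 321) Step.done)) (Scr.cons (nat_lit 9) (nat_lit 0) (Step.U (nat_lit 956) (Step.D (nat_lit 957) Step.done)) (Scr.cons (nat_lit 9) (nat_lit 0) (Step.U (nat_lit 717) (Step.D (nat_lit 718) Step.done)) (Scr.cons (nat_lit 8) (nat_lit 1) (Step.U (nat_lit 376) (Step.D (nat_lit 375) (Step.D (nat_lit 717) Step.done))) (Scr.cons (nat_lit 9) (nat_lit 0) (Step.U (nat_lit 376) (Step.D (nat_lit 377) Step.done)) (Scr.cons (nat_lit 8) (nat_lit 2) (Step.U (nat_lit 719) (Step.B (nat_lit 832) (Step.D (nat_lit 720) Step.done))) (Scr.cons (nat_lit 8) (nat_lit 3) (Step.L (Step.D (nat_lit 131) (Step.D (nat_lit 403) Step.done))) (Scr.cons (nat_lit 9) (nat_lit 0) (Step.U (nat_lit 402) (Step.D (nat_lit 403) Step.done)) (Scr.cons (nat_lit 12) (nat_lit 12) (Step.U (nat_lit 720) (Step.F (nat_lit 69) (Step.U (nat_lit 119) (Step.U (nat_lit 24) (Step.D (nat_lit 25) (Step.D (nat_lit 121) (Step.D (nat_lit 386) (Step.D (nat_lit 733) (Step.F (nat_lit 806) (Step.U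 (nat_lit 409) (Step.B (nat_lit 834) (Step.F (nat_lit 835) (Step.D (nat_lit 751) Step.done))))))))))))) (Scr.cons (nat_lit 12) (nat_lit 12) (Step.F (nat_lit 831) (Step.D (nat_lit 719) (Step.B (nat_lit 833) (Step.B (nat_lit 836) (Step.U (nat_lit 751) (Step.B (nat_lit 835) (Step.F (nat_lit 834) (Step.D (nat_lit 408) (Step.F (nat_lit 808) (Step.B (nat_lit 812) (Step.F (nat_lit 816) (Step.F (nat_lit 828) (Step.D (nat_lit 665) Step.done))))))))))))) (Scr.cons (nat_lit 8) (nat_lit 1) (Step.F (nat_lit 830) (Step.B (nat_lit 837) (Step.D (nat_lit 956) Step.done))) (Scr.cons (nat_lit 9) (nat_lit 0) (Step.U (nat_lit 737) (Step.D (nat_lit 738) Step.done)) (Scr.cons (nat_lit 8) (nat_lit 2) (Step.U (nat_lit 991) (Step.B (nat_lit 839) (Step.D (nat_lit 992) Step.done))) (Scr.cons (nat_lit 10) (nat_lit 1) (Step.F (nat_lit 829) (Step.F (nat_lit 838) (Step.F (nat_lit 830) (Step.F (nat_lit 831) (Step.U (nat_lit 376) (Step.U (nat_lit 117) (Step.D (nat_lit 119) (Step.D (nat_lit 382) (Step.F (nat_lit 528)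 (Step.D (nat_lit 387) (Step.D (nat_lit 738) (Step.D (nat_lit 992) (Step.F (nat_lit 840) Step.done))))))))))))) Scr.nil))))))))))))))))))))))))))))))))))))))))
noncomputable def s21 : Scr := (Scr.cons (nat_lit 1) (nat_lit 0) (Step.U (nat_lit 991) (Step.B (nat_lit 696) (Step.U (nat_lit 141) Step.done))) (Scr.cons (nat_lit 0) (nat_lit 0) (Step.B (nat_lit 841) (Step.B (nat_lit 842) (Step.L Step.done))) (Scr.cons (nat_lit 3) (nat_lit 1) (Step.D (nat_lit 957) (Step.B (nat_lit 843) (Step.L Step.done))) (Scr.cons (nat_lit 2) (nat_lit 0) (Step.D (nat_lit 665) (Step.B (nat_lit 844) (Step.L Step.done))) (Scr.cons (nat_lit 3) (nat_lit 1) (Step.F (nat_lit 828) (Step.B (nat_lit 845) (Step.L Step.done))) (Scr.cons (nat_lit 1) (nat_lit 0) (Step.F (nat_lit 816) (Step.B (nat_lit 846) (Step.L Step.done))) (Scr.cons (nat_lit 0) (nat_lit 0) (Step.F (nat_lit 827) (Step.U (nat_lit 955) (Step.B (nat_lit 847) (Step.L Step.done)))) (Scr.cons (nat_lit 18) (nat_lit 0) (Step.F (nat_lit 661) (Step.D (nat_lit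 221) Step.done)) (Scr.cons (nat_lit 8) (nat_lit 0) (Step.U (nat_lit 241) (Step.B (nat_lit 849) (Step.D (nat_lit 541) Step.done))) (Scr.cons (nat_lit 18) (nat_lit 0) (Step.F (nat_lit 850) (Step.D (nat_lit 566) Step.done)) (Scr.cons (nat_lit 18) (nat_lit 0) (Step.F (nat_lit 25) (Step.D (nat_lit 469) Step.done)) (Scr.cons (nat_lit 8) (nat_lit 0) (Step.U (nat_lit 696) (Step.B (nat_lit 852) (Step.D (nat_lit 819) Step.done))) (Scr.cons (nat_lit 8) (nat_lit 1) (Step.U (nat_lit 73) (Step.D (nat_lit 72) (Step.D (nat_lit 287) Step.done))) (Scr.cons (nat_lit 9) (nat_lit 0) (Step.U (nat_lit 287) (Step.D (nat_lit 288) Step.done)) (Scr.cons (nat_lit 8) (nat_lit 3) (Step.L (Step.L (Step.D (nat_lit 149) Step.done))) (Scr.cons (nat_lit 12) (nat_lit 4) (Step.U (nat_lit 627) (Step.F (nat_lit 854) (Step.U (nat_lit 73) (Step.L (Step.B (nat_lit 856) (Step.F (nat_lit 240) (Step.D (nat_lit 429) (Step.F (nat_lit 668) (Step.F (nat_lit 665) (Step.D (nat_lit 541) (Step.F (nat_lit 850) (Step.D (nat_lit 565)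 (Step.D (nat_lit 891) Step.done))))))))))))) (Scr.cons (nat_lit 8) (nat_lit 2) (Step.U (nat_lit 627) (Step.B (nat_lit 855) (Step.D (nat_lit 628) Step.done))) (Scr.cons (nat_lit 18) (nat_lit 0) (Step.F (nat_lit 857) (Step.B (nat_lit 858) Step.done)) (Scr.cons (nat_lit 19) (nat_lit 0) (Step.F (nat_lit 853) (Step.U (nat_lit 696) (Step.F (nat_lit 25) (Step.L (Step.L (Step.L (Step.L (Step.L (Step.D (nat_lit 73) (Step.B (nat_lit 854) (Step.B (nat_lit 855) (Step.D (nat_lit 628) (Step.F (nat_lit 859) Step.done))))))))))))) (Scr.cons (nat_lit 9) (nat_lit 0) (Step.L (Step.D (nat_lit 273) Step.done)) (Scr.cons (nat_lit 20) (nat_lit 4) (Step.L (Step.L (Step.L (Step.L (Step.L (Step.L (Step.L (Step.D (nat_lit 40) Step.done)))))))) (Scr.cons (nat_lit 9) (nat_lit 0) (Step.U (nat_lit 40) (Step.D (nat_lit 41) Step.done)) (Scr.cons (nat_lit 8) (nat_lit 3) (Step.U (nat_lit 41) (Step.D (nat_lit 39) (Step.D (nat_lit 200) Step.done))) (Scr.cons (nat_lit 9) (nat_lit 0) (Step.U (nat_lit 199) (Step.D (nat_lit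 200) Step.done)) (Scr.cons (nat_lit 13) (nat_lit 6) (Step.B (nat_lit 865) (Step.F (nat_lit 864) (Step.F (nat_lit 863) (Step.F (nat_lit 862) (Step.B (nat_lit 15) (Step.B (nat_lit 16) (Step.L (Step.L (Step.L (Step.L (Step.L (Step.L (Step.D (nat_lit 277) Step.done))))))))))))) (Scr.cons (nat_lit 8) (nat_lit 2) (Step.F (nat_lit 866) (Step.B (nat_lit 865) (Step.D (nat_lit 506) Step.done))) (Scr.cons (nat_lit 12) (nat_lit 11) (Step.U (nat_lit 468) (Step.L (Step.L (Step.L (Step.L (Step.B (nat_lit 862) (Step.B (nat_lit 863) (Step.B (nat_lit 864) (Step.D (nat_lit 506) (Step.F (nat_lit 867) (Step.U (nat_lit 277) (Step.B (nat_lit 105) (Step.F (nat_lit 861) Step.done))))))))))))) (Scr.cons (nat_lit 13) (nat_lit 2) (Step.U (nat_lit 716) (Step.U (nat_lit 373) (Step.U (nat_lit 116) (Step.B (nat_lit 317) (Step.U (nat_lit 112) (Step.B (nat_lit 34) (Step.F (nat_lit 103) (Step.B (nat_lit 104) (Step.F (nat_lit 861) (Step.F (nat_lit 868) (Step.U (nat_lit 468) (Step.D (nat_lit 469) (Step.D (nat_lit 819)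 Step.done))))))))))))) (Scr.cons (nat_lit 8) (nat_lit 1) (Step.U (nat_lit 373) (Step.D (nat_lit 372) (Step.D (nat_lit 713) Step.done))) (Scr.cons (nat_lit 11) (nat_lit 5) (Step.U (nat_lit 566) (Step.D (nat_lit 565) (Step.D (nat_lit 891) (Step.F (nat_lit 860) (Step.F (nat_lit 869) (Step.U (nat_lit 716) (Step.B (nat_lit 870) (Step.U (nat_lit 713) (Step.D (nat_lit 712) Step.done))))))))) (Scr.cons (nat_lit 2) (nat_lit 0) (Step.D (nat_lit 712) (Step.F (nat_lit 871) Step.done)) (Scr.cons (nat_lit 13) (nat_lit 4) (Step.U (nat_lit 875) (Step.U (nat_lit 538) (Step.U (nat_lit 220) (Step.D (nat_lit 221) (Step.D (nat_lit 541) (Step.B (nat_lit 851) (Step.F (nat_lit 872) (Step.D (nat_lit 714) (Step.F (nat_lit 110) (Step.U (nat_lit 486) (Step.B (nat_lit 112) (Step.B (nat_lit 94) (Step.B (nat_lit 147) (Step.D (nat_lit 829) Step.done)))))))))))))) (Scr.cons (nat_lit 3) (nat_lit 1) (Step.D (nat_lit 875) (Step.B (nat_lit 873) Step.done)) (Scr.cons (nat_lit 8) (nat_lit 1) (Step.U (nat_lit 44) (Step.D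 (nat_lit 43) (Step.D (nat_lit 210) Step.done))) (Scr.cons (nat_lit 8) (nat_lit 1) (Step.U (nat_lit 121) (Step.D (nat_lit 120) (Step.D (nat_lit 384) Step.done))) (Scr.cons (nat_lit 9) (nat_lit 0) (Step.U (nat_lit 384) (Step.D (nat_lit 385) Step.done)) (Scr.cons (nat_lit 1) (nat_lit 0) (Step.B (nat_lit 484) (Step.F (nat_lit 485) Step.done)) (Scr.cons (nat_lit 3) (nat_lit 0) (Step.D (nat_lit 946) (Step.F (nat_lit 486) Step.done)) (Scr.cons (nat_lit 3) (nat_lit 1) (Step.B (nat_lit 879) (Step.B (nat_lit 495) (Step.B (nat_lit 91) Step.done))) (Scr.cons (nat_lit 1) (nat_lit 0) (Step.B (nat_lit 878) (Step.B (nat_lit 880) (Step.F (nat_lit 133) Step.done))) Scr.nil))))))))))))))))))))))))))))))))))))))))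
noncomputable def s22 : Scr := (Scr.cons (nat_lit 3) (nat_lit 0) (Step.B (nat_lit 877) (Step.B (nat_lit 881) (Step.F (nat_lit 131) Step.done))) (Scr.cons (nat_lit 0) (nat_lit 0) (Step.B (nat_lit 876) (Step.B (nat_lit 882) (Step.B (nat_lit 875) Step.done))) (Scr.cons (nat_lit 0) (nat_lit 0) (Step.B (nat_lit 875) (Step.F (nat_lit 883) Step.done)) (Scr.cons (nat_lit 0) (nat_lit 0) (Step.F (nat_lit 884) (Step.F (nat_lit 628) (Step.D (nat_lit 47) Step.done))) (Scr.cons (nat_lit 1) (nat_lit 0) (Step.U (nat_lit 386) (Step.B (nat_lit 885) (Step.D (nat_lit 220) Step.done))) (Scr.cons (nat_lit 2) (nat_lit 0) (Step.F (nat_lit 826) (Step.U (nat_lit 734) (Step.B (nat_lit 886) (Step.D (nat_lit 538) Step.done)))) (Scr.cons (nat_lit 3) (nat_lit 1) (Step.F (nat_lit 874) (Step.F (nat_lit 887) (Step.D (nat_lit 484) Step.done))) (Scr.cons (nat_lit 2) (nat_lit 0) (Step.F (nat_lit 848) (Step.D (nat_lit 829) (Step.B (nat_lit 888) (Step.B (nat_lit 848) (Step.D (nat_lit 142) Step.done))))) (Scr.cons (nat_lit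 2) (nat_lit 0) (Step.D (nat_lit 142) (Step.F (nat_lit 889) Step.done)) (Scr.cons (nat_lit 9) (nat_lit 0) (Step.F (nat_lit 388) (Step.F (nat_lit 385) Step.done)) (Scr.cons (nat_lit 8) (nat_lit 0) (Step.U (nat_lit 622) (Step.F (nat_lit 891) (Step.D (nat_lit 741) Step.done))) (Scr.cons (nat_lit 21) (nat_lit 2) (Step.U (nat_lit 478) (Step.U (nat_lit 173) (Step.L (Step.D (nat_lit 480) (Step.F (nat_lit 811) (Step.U (nat_lit 407) (Step.U (nat_lit 133) (Step.L (Step.B (nat_lit 272) (Step.F (nat_lit 386) (Step.D (nat_lit 125) (Step.D (nat_lit 389) (Step.D (nat_lit 741) Step.done))))))))))))) (Scr.cons (nat_lit 9) (nat_lit 0) (Step.U (nat_lit 477) (Step.D (nat_lit 478) Step.done)) (Scr.cons (nat_lit 11) (nat_lit 7) (Step.B (nat_lit 405) (Step.B (nat_lit 401) (Step.U (nat_lit 623) (Step.D (nat_lit 622) (Step.B (nat_lit 892) (Step.F (nat_lit 893) (Step.F (nat_lit 894) (Step.D (nat_lit 822) Step.done)))))))) (Scr.cons (nat_lit 9) (nat_lit 0) (Step.U (nat_lit 859) (Step.D (nat_lit 860) Step.done))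 (Scr.cons (nat_lit 3) (nat_lit 0) (Step.B (nat_lit 896) (Step.B (nat_lit 415) (Step.D (nat_lit 725) Step.done))) (Scr.cons (nat_lit 3) (nat_lit 1) (Step.D (nat_lit 859) (Step.B (nat_lit 897) Step.done)) (Scr.cons (nat_lit 0) (nat_lit 0) (Step.U (nat_lit 525) (Step.B (nat_lit 729) (Step.L Step.done))) (Scr.cons (nat_lit 3) (nat_lit 1) (Step.F (nat_lit 898) (Step.B (nat_lit 899) (Step.L Step.done))) (Scr.cons (nat_lit 2) (nat_lit 0) (Step.F (nat_lit 895) (Step.B (nat_lit 900) (Step.L Step.done))) (Scr.cons (nat_lit 1) (nat_lit 0) (Step.D (nat_lit 822) (Step.B (nat_lit 901) (Step.B (nat_lit 120) Step.done))) (Scr.cons (nat_lit 9) (nat_lit 0) (Step.U (nat_lit 826) (Step.D (nat_lit 827) Step.done)) (Scr.cons (nat_lit 1) (nat_lit 0) (Step.F (nat_lit 170) (Step.F (nat_lit 428) (Step.D (nat_lit 644) Step.done))) (Scr.cons (nat_lit 3) (nat_lit 0) (Step.B (nat_lit 903) (Step.B (nat_lit 904) (Step.B (nat_lit 232) Step.done))) (Scr.cons (nat_lit 3) (nat_lit 1) (Step.D (nat_lit 826) (Step.B (nat_lit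 905) Step.done)) (Scr.cons (nat_lit 3) (nat_lit 1) (Step.F (nat_lit 813) (Step.B (nat_lit 825) (Step.B (nat_lit 906) Step.done))) (Scr.cons (nat_lit 2) (nat_lit 0) (Step.D (nat_lit 674) (Step.F (nat_lit 907) (Step.F (nat_lit 812) Step.done))) (Scr.cons (nat_lit 0) (nat_lit 0) (Step.F (nat_lit 811) (Step.F (nat_lit 908) (Step.F (nat_lit 127) Step.done))) (Scr.cons (nat_lit 3) (nat_lit 0) (Step.B (nat_lit 902) (Step.B (nat_lit 126) (Step.F (nat_lit 909) (Step.U (nat_lit 480) Step.done)))) (Scr.cons (nat_lit 1) (nat_lit 0) (Step.B (nat_lit 120) (Step.F (nat_lit 902) (Step.B (nat_lit 910) Step.done))) (Scr.cons (nat_lit 3) (nat_lit 0) (Step.D (nat_lit 223) (Step.B (nat_lit 626) (Step.F (nat_lit 132) Step.done))) (Scr.cons (nat_lit 3) (nat_lit 0) (Step.F (nat_lit 132) (Step.F (nat_lit 912) Step.done)) (Scr.cons (nat_lit 3) (nat_lit 0) (Step.B (nat_lit 529) (Step.B (nat_lit 562) (Step.L Step.done))) (Scr.cons (nat_lit 0) (nat_lit 0) (Step.D (nat_lit 382) (Step.B (nat_lit 914) (Step.D (nat_lit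 146) Step.done))) (Scr.cons (nat_lit 0) (nat_lit 0) (Step.D (nat_lit 146) (Step.F (nat_lit 915) Step.done)) (Scr.cons (nat_lit 3) (nat_lit 0) (Step.U (nat_lit 119) (Step.B (nat_lit 731) (Step.D (nat_lit 45) Step.done))) (Scr.cons (nat_lit 0) (nat_lit 0) (Step.B (nat_lit 916) (Step.B (nat_lit 917) (Step.D (nat_lit 214) Step.done))) (Scr.cons (nat_lit 3) (nat_lit 1) (Step.F (nat_lit 913) (Step.F (nat_lit 918) Step.done)) (Scr.cons (nat_lit 9) (nat_lit 0) (Step.U (nat_lit 90) (Step.D (nat_lit 91) Step.done)) (Scr.cons (nat_lit 8) (nat_lit 2) (Step.U (nat_lit 327) (Step.B (nat_lit 920) (Step.D (nat_lit 328) Step.done))) Scr.nil))))))))))))))))))))))))))))))))))))))))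
noncomputable def s23 : Scr := (Scr.cons (nat_lit 20) (nat_lit 3) (Step.U (nat_lit 671) (Step.B (nat_lit 921) (Step.U (nat_lit 328) (Step.F (nat_lit 118) (Step.L (Step.D (nat_lit 128) (Step.D (nat_lit 400) (Step.D (nat_lit 749) Step.done)))))))) (Scr.cons (nat_lit 18) (nat_lit 0) (Step.F (nat_lit 922) (Step.D (nat_lit 961) Step.done)) (Scr.cons (nat_lit 9) (nat_lit 0) (Step.U (nat_lit 833) (Step.D (nat_lit 834) Step.done)) (Scr.cons (nat_lit 8) (nat_lit 3) (Step.U (nat_lit 834) (Step.D (nat_lit 832) (Step.D (nat_lit 1029) Step.done))) (Scr.cons (nat_lit 9) (nat_lit 0) (Step.U (nat_lit 532) (Step.D (nat_lit 533) Step.done)) (Scr.cons (nat_lit 9) (nat_lit 0) (Step.U (nat_lit 405) (Step.D (nat_lit 406) Step.done)) (Scr.cons (nat_lit 8) (nat_lit 3) (Step.U (nat_lit 218) (Step.D (nat_lit 216) (Step.D (nat_lit 533) Step.done))) (Scr.cons (nat_lit 13) (nat_lit 3) (Step.F (nat_lit 113) (Step.B (nat_lit 110) (Step.F (nat_lit 356) (Step.F (nat_lit 354) (Step.F (nat_lit 352) (Step.F (nat_lit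 927) (Step.F (nat_lit 439) (Step.F (nat_lit 193) (Step.D (nat_lit 299) (Step.F (nat_lit 194) (Step.B (nat_lit 188) (Step.B (nat_lit 928) (Step.F (nat_lit 926) Step.done))))))))))))) (Scr.cons (nat_lit 11) (nat_lit 1) (Step.U (nat_lit 870) (Step.F (nat_lit 926) (Step.F (nat_lit 929) (Step.F (nat_lit 113) (Step.U (nat_lit 486) (Step.D (nat_lit 487) (Step.D (nat_lit 832) (Step.D (nat_lit 1029) Step.done)))))))) (Scr.cons (nat_lit 8) (nat_lit 2) (Step.U (nat_lit 399) (Step.F (nat_lit 122) (Step.D (nat_lit 534) Step.done))) (Scr.cons (nat_lit 9) (nat_lit 0) (Step.F (nat_lit 931) (Step.D (nat_lit 748) Step.done)) (Scr.cons (nat_lit 8) (nat_lit 2) (Step.U (nat_lit 869) (Step.B (nat_lit 926) (Step.D (nat_lit 870) Step.done))) (Scr.cons (nat_lit 10) (nat_lit 1) (Step.F (nat_lit 932) (Step.U (nat_lit 534) (Step.B (nat_lit 122) (Step.U (nat_lit 128) (Step.L (Step.L (Step.L (Step.D (nat_lit 204) (Step.F (nat_lit 123) (Step.D (nat_lit 216) (Step.D (nat_lit 533) (Step.D (nat_lit 870) (Step.F (nat_lit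 933) Step.done))))))))))))) (Scr.cons (nat_lit 8) (nat_lit 0) (Step.F (nat_lit 934) (Step.F (nat_lit 932) (Step.D (nat_lit 871) Step.done))) (Scr.cons (nat_lit 18) (nat_lit 0) (Step.F (nat_lit 935) (Step.B (nat_lit 933) Step.done)) (Scr.cons (nat_lit 12) (nat_lit 11) (Step.U (nat_lit 971) (Step.U (nat_lit 692) (Step.B (nat_lit 358) (Step.B (nat_lit 357) (Step.B (nat_lit 924) (Step.B (nat_lit 925) (Step.F (nat_lit 930) (Step.F (nat_lit 936) (Step.U (nat_lit 871) (Step.U (nat_lit 534) (Step.B (nat_lit 122) (Step.D (nat_lit 400) (Step.D (nat_lit 749) (Step.B (nat_lit 923) Step.done)))))))))))))) (Scr.cons (nat_lit 2) (nat_lit 0) (Step.D (nat_lit 971) (Step.B (nat_lit 937) Step.done)) (Scr.cons (nat_lit 20) (nat_lit 5) (Step.U (nat_lit 362) (Step.U (nat_lit 105) (Step.D (nat_lit 106) (Step.F (nat_lit 578) (Step.D (nat_lit 109) (Step.B (nat_lit 216) (Step.F (nat_lit 211) (Step.D (nat_lit 675) Step.done)))))))) (Scr.cons (nat_lit 18) (nat_lit 0) (Step.F (nat_lit 939) (Step.D (nat_lit 700)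 Step.done)) (Scr.cons (nat_lit 11) (nat_lit 7) (Step.F (nat_lit 682) (Step.U (nat_lit 679) (Step.U (nat_lit 337) (Step.D (nat_lit 336) (Step.F (nat_lit 209) (Step.D (nat_lit 675) (Step.B (nat_lit 940) (Step.D (nat_lit 976) Step.done)))))))) (Scr.cons (nat_lit 8) (nat_lit 0) (Step.U (nat_lit 964) (Step.B (nat_lit 940) (Step.D (nat_lit 976) Step.done))) (Scr.cons (nat_lit 0) (nat_lit 0) (Step.B (nat_lit 593) (Step.B (nat_lit 600) (Step.D (nat_lit 270) Step.done))) (Scr.cons (nat_lit 8) (nat_lit 2) (Step.U (nat_lit 37) (Step.L (Step.D (nat_lit 38) Step.done))) (Scr.cons (nat_lit 9) (nat_lit 0) (Step.F (nat_lit 944) (Step.D (nat_lit 196) Step.done)) (Scr.cons (nat_lit 8) (nat_lit 2) (Step.U (nat_lit 269) (Step.L (Step.D (nat_lit 270) Step.done))) (Scr.cons (nat_lit 10) (nat_lit 1) (Step.F (nat_lit 945) (Step.U (nat_lit 38) (Step.L (Step.L (Step.L (Step.L (Step.L (Step.L (Step.L (Step.L (Step.L (Step.D (nat_lit 270) (Step.F (nat_lit 946) Step.done))))))))))))) (Scr.cons (nat_lit 8) (nat_lit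 0) (Step.F (nat_lit 947) (Step.F (nat_lit 945) (Step.D (nat_lit 198) Step.done))) (Scr.cons (nat_lit 18) (nat_lit 0) (Step.F (nat_lit 948) (Step.B (nat_lit 946) Step.done)) (Scr.cons (nat_lit 3) (nat_lit 1) (Step.F (nat_lit 589) (Step.B (nat_lit 943) (Step.F (nat_lit 949) Step.done))) (Scr.cons (nat_lit 1) (nat_lit 0) (Step.F (nat_lit 580) (Step.B (nat_lit 950) (Step.U (nat_lit 198) Step.done))) (Scr.cons (nat_lit 0) (nat_lit 0) (Step.U (nat_lit 964) (Step.B (nat_lit 951) (Step.U (nat_lit 38) Step.done))) (Scr.cons (nat_lit 3) (nat_lit 0) (Step.F (nat_lit 942) (Step.B (nat_lit 952) (Step.L Step.done))) (Scr.cons (nat_lit 2) (nat_lit 0) (Step.B (nat_lit 941) (Step.B (nat_lit 953) (Step.L Step.done))) (Scr.cons (nat_lit 1) (nat_lit 0) (Step.B (nat_lit 681) (Step.B (nat_lit 954) (Step.D (nat_lit 197) Step.done))) (Scr.cons (nat_lit 3) (nat_lit 0) (Step.D (nat_lit 816) (Step.B (nat_lit 955) (Step.D (nat_lit 505) Step.done))) (Scr.cons (nat_lit 3) (nat_lit 1) (Step.B (nat_lit 141) (Step.B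 (nat_lit 444) (Step.U (nat_lit 98) Step.done))) (Scr.cons (nat_lit 1) (nat_lit 0) (Step.F (nat_lit 205) (Step.B (nat_lit 957) (Step.L Step.done))) (Scr.cons (nat_lit 3) (nat_lit 0) (Step.B (nat_lit 678) (Step.B (nat_lit 958) (Step.L Step.done))) (Scr.cons (nat_lit 2) (nat_lit 0) (Step.U (nat_lit 465) (Step.B (nat_lit 959) (Step.D (nat_lit 100) Step.done))) (Scr.cons (nat_lit 3) (nat_lit 1) (Step.D (nat_lit 505) (Step.F (nat_lit 956) (Step.B (nat_lit 960) (Step.D (nat_lit 349) Step.done)))) Scr.nil))))))))))))))))))))))))))))))))))))))))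
noncomputable def s24 : Scr := (Scr.cons (nat_lit 1) (nat_lit 0) (Step.U (nat_lit 692) (Step.F (nat_lit 961) (Step.U (nat_lit 197) Step.done))) (Scr.cons (nat_lit 2) (nat_lit 0) (Step.F (nat_lit 938) (Step.B (nat_lit 962) (Step.L Step.done))) (Scr.cons (nat_lit 3) (nat_lit 1) (Step.B (nat_lit 923) (Step.B (nat_lit 963) (Step.L Step.done))) (Scr.cons (nat_lit 1) (nat_lit 0) (Step.D (nat_lit 749) (Step.B (nat_lit 964) (Step.L Step.done))) (Scr.cons (nat_lit 2) (nat_lit 0) (Step.D (nat_lit 400) (Step.B (nat_lit 965) (Step.D (nat_lit 187) Step.done))) (Scr.cons (nat_lit 2) (nat_lit 0) (Step.D (nat_lit 187) (Step.F (nat_lit 966) Step.done)) (Scr.cons (nat_lit 3) (nat_lit 1) (Step.D (nat_lit 526) (Step.B (nat_lit 547) Step.done)) (Scr.cons (nat_lit 20) (nat_lit 4) (Step.U (nat_lit 369) (Step.U (nat_lit 113) (Step.U (nat_lit 21) (Step.D (nat_lit 22) (Step.F (nat_lit 526) (Step.D (nat_lit 25) (Step.D (nat_lit 120) (Step.D (nat_lit 384) Step.done)))))))) (Scr.cons (nat_lit 2) (nat_lit 0)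 (Step.B (nat_lit 969) (Step.B (nat_lit 882) (Step.D (nat_lit 213) Step.done))) (Scr.cons (nat_lit 3) (nat_lit 1) (Step.D (nat_lit 369) (Step.B (nat_lit 970) (Step.B (nat_lit 968) Step.done))) (Scr.cons (nat_lit 3) (nat_lit 1) (Step.B (nat_lit 968) (Step.F (nat_lit 971) Step.done)) (Scr.cons (nat_lit 3) (nat_lit 1) (Step.F (nat_lit 972) (Step.B (nat_lit 729) (Step.L Step.done))) (Scr.cons (nat_lit 1) (nat_lit 0) (Step.U (nat_lit 368) (Step.B (nat_lit 973) (Step.L Step.done))) (Scr.cons (nat_lit 0) (nat_lit 0) (Step.U (nat_lit 709) (Step.B (nat_lit 974) (Step.L Step.done))) (Scr.cons (nat_lit 3) (nat_lit 0) (Step.U (nat_lit 981) (Step.B (nat_lit 975) (Step.L Step.done))) (Scr.cons (nat_lit 8) (nat_lit 0) (Step.U (nat_lit 838) (Step.B (nat_lit 424) (Step.D (nat_lit 983) Step.done))) (Scr.cons (nat_lit 8) (nat_lit 1) (Step.U (nat_lit 380) (Step.D (nat_lit 379) (Step.D (nat_lit 724) Step.done))) (Scr.cons (nat_lit 19) (nat_lit 0) (Step.F (nat_lit 977) (Step.U (nat_lit 838) (Step.F (nat_lit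 423) (Step.U (nat_lit 378) (Step.D (nat_lit 380) (Step.B (nat_lit 978) (Step.B (nat_lit 402) (Step.B (nat_lit 405) (Step.F (nat_lit 401) (Step.F (nat_lit 405) (Step.U (nat_lit 725) (Step.D (nat_lit 722) (Step.D (nat_lit 984) Step.done))))))))))))) (Scr.cons (nat_lit 1) (nat_lit 0) (Step.F (nat_lit 761) (Step.F (nat_lit 971) (Step.D (nat_lit 368) Step.done))) (Scr.cons (nat_lit 0) (nat_lit 0) (Step.U (nat_lit 838) (Step.B (nat_lit 980) (Step.D (nat_lit 709) Step.done))) (Scr.cons (nat_lit 3) (nat_lit 0) (Step.F (nat_lit 977) (Step.B (nat_lit 981) (Step.D (nat_lit 981) Step.done))) (Scr.cons (nat_lit 0) (nat_lit 0) (Step.F (nat_lit 979) (Step.B (nat_lit 982) Step.done)) (Scr.cons (nat_lit 3) (nat_lit 1) (Step.B (nat_lit 413) (Step.F (nat_lit 414) Step.done)) (Scr.cons (nat_lit 11) (nat_lit 1) (Step.F (nat_lit 567) (Step.U (nat_lit 48) (Step.L (Step.L (Step.L (Step.D (nat_lit 42) (Step.D (nat_lit 202) (Step.D (nat_lit 508) Step.done)))))))) (Scr.cons (nat_lit 2) (nat_lit 0) (Step.F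 (nat_lit 985) (Step.B (nat_lit 626) (Step.D (nat_lit 529) Step.done))) (Scr.cons (nat_lit 8) (nat_lit 3) (Step.U (nat_lit 203) (Step.D (nat_lit 202) (Step.D (nat_lit 508) Step.done))) (Scr.cons (nat_lit 1) (nat_lit 0) (Step.U (nat_lit 865) (Step.F (nat_lit 986) (Step.F (nat_lit 987) Step.done))) (Scr.cons (nat_lit 3) (nat_lit 1) (Step.F (nat_lit 984) (Step.B (nat_lit 988) (Step.U (nat_lit 203) Step.done))) (Scr.cons (nat_lit 2) (nat_lit 0) (Step.D (nat_lit 723) (Step.B (nat_lit 989) (Step.U (nat_lit 42) Step.done))) (Scr.cons (nat_lit 0) (nat_lit 0) (Step.U (nat_lit 722) (Step.B (nat_lit 990) (Step.L Step.done))) (Scr.cons (nat_lit 3) (nat_lit 1) (Step.U (nat_lit 984) (Step.B (nat_lit 991) (Step.L Step.done))) (Scr.cons (nat_lit 0) (nat_lit 0) (Step.F (nat_lit 976) (Step.F (nat_lit 983) (Step.B (nat_lit 992) (Step.D (nat_lit 128) Step.done)))) (Scr.cons (nat_lit 2) (nat_lit 0) (Step.B (nat_lit 967) (Step.F (nat_lit 993) Step.done)) (Scr.cons (nat_lit 8) (nat_lit 2) (Step.U (nat_lit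 604) (Step.B (nat_lit 861) (Step.D (nat_lit 605) Step.done))) (Scr.cons (nat_lit 11) (nat_lit 5) (Step.U (nat_lit 900) (Step.U (nat_lit 581) (Step.B (nat_lit 332) (Step.F (nat_lit 103) (Step.B (nat_lit 104) (Step.D (nat_lit 605) (Step.F (nat_lit 995) (Step.D (nat_lit 922) Step.done)))))))) (Scr.cons (nat_lit 22) (nat_lit 5) (Step.F (nat_lit 996) (Step.U (nat_lit 900) (Step.U (nat_lit 581) (Step.U (nat_lit 256) (Step.U (nat_lit 63) (Step.L (Step.L (Step.B (nat_lit 286) (Step.D (nat_lit 575) (Step.F (nat_lit 461) (Step.B (nat_lit 85) (Step.D (nat_lit 593) (Step.D (nat_lit 912) Step.done))))))))))))) (Scr.cons (nat_lit 2) (nat_lit 0) (Step.U (nat_lit 593) (Step.F (nat_lit 88) (Step.D (nat_lit 266) Step.done))) (Scr.cons (nat_lit 3) (nat_lit 1) (Step.U (nat_lit 912) (Step.B (nat_lit 998) (Step.D (nat_lit 597) Step.done))) (Scr.cons (nat_lit 1) (nat_lit 0) (Step.B (nat_lit 997) (Step.B (nat_lit 999) (Step.D (nat_lit 917) Step.done))) (Scr.cons (nat_lit 2) (nat_lit 0) (Step.D (nat_lit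 922) (Step.B (nat_lit 1000) Step.done)) Scr.nil))))))))))))))))))))))))))))))))))))))))
noncomputable def s25 : Scr := (Scr.cons (nat_lit 9) (nat_lit 0) (Step.U (nat_lit 597) (Step.D (nat_lit 598) Step.done)) (Scr.cons (nat_lit 8) (nat_lit 2) (Step.U (nat_lit 917) (Step.B (nat_lit 1002) (Step.D (nat_lit 918) Step.done))) (Scr.cons (nat_lit 0) (nat_lit 0) (Step.U (nat_lit 918) (Step.B (nat_lit 740) (Step.D (nat_lit 509) Step.done))) (Scr.cons (nat_lit 3) (nat_lit 0) (Step.B (nat_lit 1003) (Step.B (nat_lit 1004) (Step.D (nat_lit 847) Step.done))) (Scr.cons (nat_lit 3) (nat_lit 0) (Step.B (nat_lit 1002) (Step.B (nat_lit 740) (Step.D (nat_lit 512) Step.done))) (Scr.cons (nat_lit 3) (nat_lit 1) (Step.F (nat_lit 743) (Step.F (nat_lit 741) (Step.B (nat_lit 783) (Step.L Step.done)))) (Scr.cons (nat_lit 1) (nat_lit 0) (Step.F (nat_lit 1005) (Step.U (nat_lit 917) (Step.B (nat_lit 1006) (Step.B (nat_lit 1007) (Step.L Step.done))))) (Scr.cons (nat_lit 2) (nat_lit 0) (Step.B (nat_lit 1001) (Step.B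 (nat_lit 1005) (Step.B (nat_lit 1008) (Step.L Step.done)))) (Scr.cons (nat_lit 1) (nat_lit 0) (Step.D (nat_lit 604) (Step.B (nat_lit 1009) (Step.D (nat_lit 410) Step.done))) (Scr.cons (nat_lit 1) (nat_lit 0) (Step.D (nat_lit 410) (Step.F (nat_lit 1010) Step.done)) (Scr.cons (nat_lit 8) (nat_lit 1) (Step.L (Step.L (Step.D (nat_lit 182) Step.done))) (Scr.cons (nat_lit 3) (nat_lit 0) (Step.D (nat_lit 961) (Step.B (nat_lit 963) (Step.L Step.done))) (Scr.cons (nat_lit 2) (nat_lit 0) (Step.D (nat_lit 671) (Step.B (nat_lit 1013) (Step.L Step.done))) (Scr.cons (nat_lit 1) (nat_lit 0) (Step.D (nat_lit 327) (Step.B (nat_lit 1014) (Step.D (nat_lit 36) Step.done))) (Scr.cons (nat_lit 3) (nat_lit 0) (Step.D (nat_lit 90) (Step.B (nat_lit 1015) (Step.D (nat_lit 191) Step.done))) (Scr.cons (nat_lit 21) (nat_lit 5) (Step.U (nat_lit 629) (Step.U (nat_lit 289) (Step.B (nat_lit 856) (Step.F (nat_lit 240) (Step.D (nat_lit 429) (Step.F (nat_lit 668) (Step.U (nat_lit 539) (Step.U (nat_lit 220) (Step.U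 (nat_lit 47) (Step.L (Step.D (nat_lit 222) (Step.D (nat_lit 542) (Step.D (nat_lit 877) Step.done))))))))))))) (Scr.cons (nat_lit 2) (nat_lit 0) (Step.U (nat_lit 523) (Step.F (nat_lit 912) (Step.D (nat_lit 222) Step.done))) (Scr.cons (nat_lit 3) (nat_lit 1) (Step.B (nat_lit 129) (Step.B (nat_lit 1018) (Step.D (nat_lit 542) Step.done))) (Scr.cons (nat_lit 1) (nat_lit 0) (Step.D (nat_lit 843) (Step.B (nat_lit 1019) (Step.D (nat_lit 877) Step.done))) (Scr.cons (nat_lit 2) (nat_lit 0) (Step.B (nat_lit 1017) (Step.F (nat_lit 1020) (Step.U (nat_lit 500) Step.done))) (Scr.cons (nat_lit 3) (nat_lit 0) (Step.D (nat_lit 629) (Step.B (nat_lit 1021) (Step.F (nat_lit 1016) Step.done))) (Scr.cons (nat_lit 3) (nat_lit 1) (Step.D (nat_lit 191) (Step.F (nat_lit 1016) (Step.F (nat_lit 1022) Step.done))) (Scr.cons (nat_lit 2) (nat_lit 0) (Step.D (nat_lit 494) (Step.B (nat_lit 980) (Step.D (nat_lit 710) Step.done))) (Scr.cons (nat_lit 2) (nat_lit 0) (Step.D (nat_lit 710) (Step.F (nat_lit 1024) Step.done))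 (Scr.cons (nat_lit 2) (nat_lit 0) (Step.F (nat_lit 1025) (Step.B (nat_lit 974) (Step.L Step.done))) (Scr.cons (nat_lit 1) (nat_lit 0) (Step.D (nat_lit 184) (Step.B (nat_lit 1026) (Step.D (nat_lit 36) Step.done))) (Scr.cons (nat_lit 0) (nat_lit 0) (Step.D (nat_lit 289) (Step.F (nat_lit 1023) (Step.F (nat_lit 1027) (Step.B (nat_lit 1012) Step.done)))) (Scr.cons (nat_lit 0) (nat_lit 0) (Step.B (nat_lit 1012) (Step.F (nat_lit 1028) Step.done)) (Scr.cons (nat_lit 3) (nat_lit 0) (Step.F (nat_lit 1022) (Step.F (nat_lit 1023) (Step.F (nat_lit 1027) (Step.L Step.done)))) (Scr.cons (nat_lit 0) (nat_lit 0) (Step.D (nat_lit 14) (Step.B (nat_lit 1030) Step.done)) (Scr.cons (nat_lit 1) (nat_lit 0) (Step.U (nat_lit 548) (Step.B (nat_lit 704) (Step.D (nat_lit 205) Step.done))) (Scr.cons (nat_lit 0) (nat_lit 0) (Step.F (nat_lit 355) (Step.B (nat_lit 1032) (Step.D (nat_lit 509) Step.done))) (Scr.cons (nat_lit 3) (nat_lit 0) (Step.D (nat_lit 754) (Step.B (nat_lit 1033) (Step.D (nat_lit 847) (Step.B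 (nat_lit 1008) Step.done)))) (Scr.cons (nat_lit 0) (nat_lit 0) (Step.D (nat_lit 404) (Step.B (nat_lit 1034) (Step.D (nat_lit 134) Step.done))) (Scr.cons (nat_lit 9) (nat_lit 0) (Step.U (nat_lit 640) (Step.D (nat_lit 641) Step.done)) (Scr.cons (nat_lit 8) (nat_lit 2) (Step.U (nat_lit 728) (Step.B (nat_lit 529) (Step.D (nat_lit 739) Step.done))) (Scr.cons (nat_lit 13) (nat_lit 3) (Step.U (nat_lit 642) (Step.F (nat_lit 224) (Step.D (nat_lit 638) (Step.B (nat_lit 205) (Step.U (nat_lit 462) (Step.U (nat_lit 165) (Step.L (Step.L (Step.L (Step.L (Step.D (nat_lit 172) (Step.D (nat_lit 474) (Step.F (nat_lit 532) (Step.F (nat_lit 1037) Step.done)))))))))))))) (Scr.cons (nat_lit 3) (nat_lit 0) (Step.F (nat_lit 1037) (Step.F (nat_lit 1038) Step.done)) (Scr.cons (nat_lit 20) (nat_lit 2) (Step.U (nat_lit 641) (Step.U (nat_lit 297) (Step.B (nat_lit 223) (Step.D (nat_lit 298) (Step.D (nat_lit 642) (Step.F (nat_lit 1039) (Step.U (nat_lit 739) (Step.D (nat_lit 740) Step.done)))))))) (Scr.cons (nat_lit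 12) (nat_lit 13) (Step.U (nat_lit 942) (Step.B (nat_lit 1036) (Step.B (nat_lit 1040) (Step.U (nat_lit 740) (Step.U (nat_lit 388) (Step.U (nat_lit 122) (Step.U (nat_lit 26) (Step.L (Step.D (nat_lit 25) (Step.D (nat_lit 120) (Step.D (nat_lit 385) (Step.D (nat_lit 732) (Step.D (nat_lit 989) Step.done))))))))))))) Scr.nil))))))))))))))))))))))))))))))))))))))))
noncomputable def s26 : Scr := (Scr.cons (nat_lit 2) (nat_lit 0) (Step.U (nat_lit 732) (Step.B (nat_lit 881) (Step.D (nat_lit 215) Step.done))) (Scr.cons (nat_lit 1) (nat_lit 0) (Step.U (nat_lit 989) (Step.B (nat_lit 1042) (Step.D (nat_lit 530) Step.done))) (Scr.cons (nat_lit 0) (nat_lit 0) (Step.B (nat_lit 1041) (Step.B (nat_lit 1043) (Step.D (nat_lit 866) Step.done))) (Scr.cons (nat_lit 8) (nat_lit 3) (Step.U (nat_lit 584) (Step.D (nat_lit 582) (Step.D (nat_lit 901) Step.done))) (Scr.cons (nat_lit 1) (nat_lit 0) (Step.U (nat_lit 589) (Step.B (nat_lit 467) (Step.D (nat_lit 257) Step.done))) (Scr.cons (nat_lit 0) (nat_lit 0) (Step.U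 (nat_lit 907) (Step.B (nat_lit 1046) (Step.D (nat_lit 582) Step.done))) (Scr.cons (nat_lit 3) (nat_lit 0) (Step.F (nat_lit 650) (Step.B (nat_lit 1047) (Step.D (nat_lit 901) Step.done))) (Scr.cons (nat_lit 1) (nat_lit 0) (Step.B (nat_lit 1045) (Step.F (nat_lit 1048) Step.done)) (Scr.cons (nat_lit 1) (nat_lit 0) (Step.D (nat_lit 942) (Step.B (nat_lit 1044) (Step.F (nat_lit 1049) Step.done))) (Scr.cons (nat_lit 9) (nat_lit 0) (Step.U (nat_lit 583) (Step.D (nat_lit 584) Step.done)) (Scr.cons (nat_lit 3) (nat_lit 0) (Step.D (nat_lit 640) (Step.B (nat_lit 1050) (Step.F (nat_lit 1051) Step.done))) (Scr.cons (nat_lit 0) (nat_lit 0) (Step.B (nat_lit 640) (Step.F (nat_lit 1052) (Step.D (nat_lit 639) Step.done))) (Scr.cons (nat_lit 0) (nat_lit 0) (Step.D (nat_lit 639) (Step.F (nat_lit 1053) Step.done)) (Scr.cons (nat_lit 3) (nat_lit 0) (Step.F (nat_lit 1051) (Step.F (nat_lit 1052) Step.done)) (Scr.cons (nat_lit 8) (nat_lit 3) (Step.U (nat_lit 882) (Step.D (nat_lit 881) (Step.D (nat_lit 1045)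 Step.done))) (Scr.cons (nat_lit 1) (nat_lit 0) (Step.F (nat_lit 1056) (Step.B (nat_lit 787) (Step.F (nat_lit 435) Step.done))) (Scr.cons (nat_lit 3) (nat_lit 1) (Step.D (nat_lit 1045) (Step.B (nat_lit 1057) (Step.B (nat_lit 437) Step.done))) (Scr.cons (nat_lit 0) (nat_lit 0) (Step.D (nat_lit 881) (Step.B (nat_lit 1058) Step.done)) (Scr.cons (nat_lit 0) (nat_lit 0) (Step.F (nat_lit 1059) (Step.B (nat_lit 796) (Step.D (nat_lit 866) Step.done))) (Scr.cons (nat_lit 1) (nat_lit 0) (Step.B (nat_lit 1049) (Step.F (nat_lit 1060) (Step.U (nat_lit 755) Step.done))) (Scr.cons (nat_lit 3) (nat_lit 0) (Step.F (nat_lit 1055) (Step.B (nat_lit 1061) (Step.U (nat_lit 405) Step.done))) (Scr.cons (nat_lit 0) (nat_lit 0) (Step.F (nat_lit 1054) (Step.B (nat_lit 1062) Step.done)) (Scr.cons (nat_lit 0) (nat_lit 0) (Step.D (nat_lit 134) (Step.F (nat_lit 1035) (Step.F (nat_lit 1063) Step.done))) (Scr.cons (nat_lit 3) (nat_lit 1) (Step.D (nat_lit 259) (Step.F (nat_lit 1064) Step.done)) (Scr.cons (nat_lit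 1) (nat_lit 0) (Step.U (nat_lit 114) (Step.F (nat_lit 713) (Step.L Step.done))) (Scr.cons (nat_lit 0) (nat_lit 0) (Step.B (nat_lit 38) (Step.B (nat_lit 1066) (Step.D (nat_lit 60) Step.done))) (Scr.cons (nat_lit 3) (nat_lit 0) (Step.B (nat_lit 32) (Step.B (nat_lit 1067) (Step.B (nat_lit 2) Step.done))) (Scr.cons (nat_lit 3) (nat_lit 1) (Step.D (nat_lit 357) (Step.B (nat_lit 1068) Step.done)) (Scr.cons (nat_lit 9) (nat_lit 0) (Step.U (nat_lit 875) (Step.D (nat_lit 876) Step.done)) (Scr.cons (nat_lit 11) (nat_lit 3) (Step.U (nat_lit 829) (Step.U (nat_lit 484) (Step.D (nat_lit 482) (Step.B (nat_lit 136) (Step.B (nat_lit 734) (Step.U (nat_lit 511) (Step.D (nat_lit 510) (Step.D (nat_lit 848) Step.done)))))))) (Scr.cons (nat_lit 3) (nat_lit 1) (Step.F (nat_lit 1070) (Step.B (nat_lit 873) (Step.B (nat_lit 1071) Step.done))) (Scr.cons (nat_lit 3) (nat_lit 0) (Step.D (nat_lit 876) (Step.B (nat_lit 1072) Step.done)) (Scr.cons (nat_lit 3) (nat_lit 0) (Step.F (nat_lit 1073) (Step.F (nat_lit 887)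 (Step.B (nat_lit 92) Step.done))) (Scr.cons (nat_lit 3) (nat_lit 1) (Step.F (nat_lit 1074) (Step.F (nat_lit 1071) (Step.B (nat_lit 888) (Step.B (nat_lit 848) (Step.L Step.done))))) (Scr.cons (nat_lit 2) (nat_lit 0) (Step.D (nat_lit 323) (Step.B (nat_lit 1075) (Step.D (nat_lit 30) Step.done))) (Scr.cons (nat_lit 20) (nat_lit 4) (Step.U (nat_lit 654) (Step.U (nat_lit 307) (Step.U (nat_lit 83) (Step.L (Step.L (Step.D (nat_lit 86) (Step.D (nat_lit 319) (Step.D (nat_lit 664) Step.done)))))))) (Scr.cons (nat_lit 8) (nat_lit 1) (Step.U (nat_lit 320) (Step.D (nat_lit 319) (Step.D (nat_lit 664) Step.done))) (Scr.cons (nat_lit 0) (nat_lit 0) (Step.F (nat_lit 1078) (Step.B (nat_lit 845) (Step.B (nat_lit 916) Step.done))) (Scr.cons (nat_lit 2) (nat_lit 0) (Step.B (nat_lit 1077) (Step.B (nat_lit 1079) (Step.B (nat_lit 917) (Step.D (nat_lit 215) Step.done)))) (Scr.cons (nat_lit 3) (nat_lit 1) (Step.F (nat_lit 137) (Step.B (nat_lit 795) (Step.D (nat_lit 531) Step.done))) Scr.nil))))))))))))))))))))))))))))))))))))))))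
noncomputable def s27 : Scr := (Scr.cons (nat_lit 3) (nat_lit 1) (Step.D (nat_lit 531) (Step.F (nat_lit 1081) Step.done)) (Scr.cons (nat_lit 3) (nat_lit 1) (Step.D (nat_lit 654) (Step.B (nat_lit 1080) (Step.B (nat_lit 1082) Step.done))) (Scr.cons (nat_lit 8) (nat_lit 3) (Step.U (nat_lit 326) (Step.D (nat_lit 325) (Step.D (nat_lit 670) Step.done))) (Scr.cons (nat_lit 21) (nat_lit 5) (Step.U (nat_lit 670) (Step.U (nat_lit 325) (Step.U (nat_lit 89) (Step.L (Step.L (Step.L (Step.L (Step.L (Step.L (Step.L (Step.D (nat_lit 305) (Step.D (nat_lit 652) (Step.D (nat_lit 949) Step.done))))))))))))) (Scr.cons (nat_lit 3) (nat_lit 1) (Step.F (nat_lit 788) (Step.B (nat_lit 793) (Step.D (nat_lit 652) Step.done))) (Scr.cons (nat_lit 1) (nat_lit 0) (Step.U (nat_lit 949) (Step.F (nat_lit 1086) (Step.F (nat_lit 434) Step.done))) (Scr.cons (nat_lit 2) (nat_lit 0) (Step.B (nat_lit 1085) (Step.B (nat_lit 1087) (Step.D (nat_lit 347) Step.done))) (Scr.cons (nat_lit 8) (nat_lit 2) (Step.U (nat_lit 689) (Step.B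 (nat_lit 442) (Step.D (nat_lit 947) Step.done))) (Scr.cons (nat_lit 0) (nat_lit 0) (Step.D (nat_lit 667) (Step.B (nat_lit 794) (Step.D (nat_lit 947) Step.done))) (Scr.cons (nat_lit 3) (nat_lit 0) (Step.B (nat_lit 1089) (Step.F (nat_lit 1090) (Step.F (nat_lit 1082) Step.done))) (Scr.cons (nat_lit 1) (nat_lit 0) (Step.D (nat_lit 689) (Step.B (nat_lit 1091) Step.done)) (Scr.cons (nat_lit 1) (nat_lit 0) (Step.B (nat_lit 1084) (Step.B (nat_lit 1088) (Step.B (nat_lit 1092) Step.done))) (Scr.cons (nat_lit 3) (nat_lit 1) (Step.D (nat_lit 326) (Step.B (nat_lit 1093) (Step.B (nat_lit 1082) (Step.F (nat_lit 1083) Step.done)))) (Scr.cons (nat_lit 1) (nat_lit 0) (Step.F (nat_lit 1076) (Step.D (nat_lit 322) (Step.F (nat_lit 1083) (Step.F (nat_lit 1094) (Step.U (nat_lit 89) Step.done))))) (Scr.cons (nat_lit 0) (nat_lit 0) (Step.B (nat_lit 93) (Step.B (nat_lit 1076) (Step.B (nat_lit 1095) Step.done))) Scr.nil)))))))))))))))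
noncomputable def E : Ex := (Ex.cons (nat_lit 4) (nat_lit 0) (nat_lit 0) (Ex.cons (nat_lit 2) (nat_lit 0) (nat_lit 1) (Ex.cons (nat_lit 1) (nat_lit 178) (nat_lit 3) (Ex.cons (nat_lit 1) (nat_lit 81) (nat_lit 90) (Ex.cons (nat_lit 1) (nat_lit 141) (nat_lit 449) (Ex.cons (nat_lit 2) (nat_lit 234) (nat_lit 566) (Ex.cons (nat_lit 3) (nat_lit 74) (nat_lit 629) (Ex.cons (nat_lit 1) (nat_lit 234) (nat_lit 699) (Ex.cons (nat_lit 4) (nat_lit 231) (nat_lit 707) (Ex.cons (nat_lit 0) (nat_lit 28) (nat_lit 714) (Ex.cons (nat_lit 1) (nat_lit 46) (nat_lit 733) (Ex.cons (nat_lit 3) (nat_lit 230) (nat_lit 785) (Ex.cons (nat_lit 2) (nat_lit 187) (nat_lit 804) (Ex.cons (nat_lit 2) (nat_lit 129) (nat_lit 890) (Ex.cons (nat_lit 1) (nat_lit 248) (nat_lit 911) (Ex.cons (nat_lit 3) (nat_lit 132) (nat_lit 919) (Ex.cons (nat_lit 2) (nat_lit 154) (nat_lit 994) (Ex.cons (nat_lit 1) (nat_lit 262) (nat_lit 1011) (Ex.cons (nat_lit 0) (nat_lit 191) (nat_lit 1029) (Ex.cons (nat_lit 0) (nat_lit 62) (nat_lit 1031)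 (Ex.cons (nat_lit 3) (nat_lit 125) (nat_lit 1065) (Ex.cons (nat_lit 3) (nat_lit 177) (nat_lit 1069) (Ex.cons (nat_lit 0) (nat_lit 103) (nat_lit 1096) Ex.nil)))))))))))))))))))))))
noncomputable def nd : Nat := (nat_lit 1049)

end Cfsg.Agent.Lib.J1PAD
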