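import Cfsg.Agent.Lib.J1PRel
import Cfsg.Agent.Lib.CosetWide2
import Cfsg.Agent.Lib.J1PAN0
import Cfsg.Agent.Lib.J1PAR0
import Cfsg.Agent.Lib.J1PAD

set_option autoImplicit false
set_option linter.all false
set_option maxRecDepth 100000

namespace Cfsg.Agent.Lib.J1PAB
open Cfsg.Spor Cfsg.Agent.Lib.BenesPerm Cfsg.Agent.Lib.BenesAct Cfsg.Agent.Lib.BenesWord
open Cfsg.Agent.Lib.BenesPlane Cfsg.Agent.Lib.CosetClosure Cfsg.Agent.Lib.CosetFacts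
open Cfsg.Agent.Lib.CosetMain Cfsg.Agent.Lib.CoxBridge Cfsg.Agent.Lib.CosetGroup Cfsg.Agent.Lib.CosetInst Cfsg.Agent.Lib.CosetInj
open Cfsg.Agent.Lib.BenesPack Cfsg.Agent.Lib.CosetPack Cfsg.Agent.Lib.CosetChain Cfsg.Agent.Lib.CosetWide Cfsg.Agent.Lib.CosetWide2
open Cfsg.Agent.Lib.J1PRel Cfsg.Agent.Lib.J1PAN0 Cfsg.Agent.Lib.J1PAR0 Cfsg.Agent.Lib.J1PAD

/-- the networks -/
noncomputable def nets : List Net := [n0, n1, n2, n3, n4]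

/-- the ranks -/
noncomputable def R : List (List Nat) := (List.cons r0 (List.cons r1 (List.cons r2 (List.cons r3 (List.cons r4 List.nil)))))

/-- inverse letters -/
noncomputable def ivx : ℕ → ℕ := ivOf [0, 1, 2, 4, 3]

/-- words of the further letters -/
def xw : List Wd := [(Wd.inv (Wd.g 3))]

/-- relators -/
def wrels : List Wd := [(Wd.pow (Wd.mul (Wd.g 0) (Wd.g 1)) 19),
  (Wd.pow (Wd.mul (Wd.g 0) (Wd.g 2)) 19),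
  (Wd.pow (Wd.mul (Wd.g 1) (Wd.g 2)) 11),
  (Wd.mul (Wd.g 1) (Wd.inv (Wd.mul (Wd.mul (Wd.g 3) (Wd.g 0)) (Wd.inv (Wd.g 3))))),
  (Wd.pow (Wd.g 3) 3),
  (Wd.pow (Wd.mul (Wd.g 0) (Wd.g 3)) 7),
  (Wd.mul (Wd.mul (Wd.mul (Wd.mul (Wd.mul (Wd.mul (Wd.mul (Wd.mul (Wd.g 0) (Wd.g 2)) (Wd.g 1)) (Wd.g 3)) (Wd.g 2)) (Wd.g 3)) (Wd.g 0)) (Wd.g 2)) (Wd.g 3)),
  (Wd.mul (Wd.mul (Wd.mul (Wd.mul (Wd.mul (Wd.mul (Wd.mul (Wd.mul (Wd.mul (Wd.mul (Wd.mul (Wd.mul (Wd.mul (Wd.g 0) (Wd.g 1)) (Wd.g 2)) (Wd.g 3)) (Wd.g 1)) (Wd.g 2)) (Wd.g 3)) (Wd.g 0)) (Wd.g 1)) (Wd.inv (Wd.g 3))) (Wd.g 2)) (Wd.g 1)) (Wd.inv (Wd.g 3))) (Wd.g 1)),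
  (Wd.mul (Wd.mul (Wd.mul (Wd.mul (Wd.mul (Wd.mul (Wd.mul (Wd.mul (Wd.mul (Wd.mul (Wd.mul (Wd.mul (Wd.mul (Wd.g 1) (Wd.g 2)) (Wd.g 3)) (Wd.g 2)) (Wd.g 3)) (Wd.g 1)) (Wd.inv (Wd.g 3))) (Wd.g 1)) (Wd.g 2)) (Wd.g 3)) (Wd.g 2)) (Wd.g 3)) (Wd.g 1)) (Wd.inv (Wd.g 3)))]

/-- relations of the lanes -/
def eqs0 : List (List ℕ × List ℕ) := [([0, 0], []), ([1, 1], []), ([2, 2], []), ([4, 3], []), ([3, 4], []), ([0, 1, 0, 1, 0, 1, 0, 1, 0, 1, 0, 1, 0, 1, 0, 1, 0, 1, 0], [1, 0, 1, 0, 1, 0, 1, 0, 1, 0, 1, 0, 1, 0, 1, 0, 1, 0, 1]), ([0, 2, 0, 2, 0, 2, 0, 2, 0, 2, 0, 2, 0, 2, 0, 2, 0, 2, 0], [2, 0, 2, 0, 2, 0, 2, 0, 2, 0, 2, 0, 2, 0, 2, 0, 2, 0, 2]), ([1, 2, 1, 2, 1, 2, 1, 2, 1, 2, 1], [2, 1, 2, 1, 2, 1, 2, 1, 2, 1, 2]), ([1, 3], [3, 0]), ([3, 3], [4]), ([0, 3, 0, 3, 0, 3, 0], [4, 0, 4, 0, 4, 0, 4]), ([0, 2, 1, 3, 2],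 [4, 2, 0, 4]), ([0, 1, 2, 3, 1, 2, 3], [1, 3, 1, 2, 3, 1, 0]), ([1, 2, 3, 2, 3, 1, 4], [3, 1, 4, 2, 4, 2, 1])]

/-- all relations of the lanes -/
def eqs : List (List ℕ × List ℕ) := eqs0

/-- words for the subgroup -/
def WS : List Wd := [(Wd.g 3), (Wd.g 2)]

/-- all scripts -/
noncomputable def scr : Scr := (appS s0 (appS s1 (appS s2 (appS s3 (appS s4 (appS s5 (appS s6 (appS s7 (appS s8 (appS s9 (appS s10 (appS s11 (appS s12 (appS s13 (appS s14 (appS s15 (appS s16 (appS s17 (appS s18 (appS s19 (appS s20 (appS s21 (appS s22 (appS s23 (appS s24 (appS s25 (appS s26 s27)))))))))))))))))))))))))))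

/-- trivial relators -/
def wtriv : List Wd := [Wd.mul (Wd.g 0) (Wd.g 0), Wd.mul (Wd.g 1) (Wd.g 1), Wd.mul (Wd.g 2) (Wd.g 2), Wd.mul (Wd.g 3) (Wd.g 4), Wd.mul (Wd.g 4) (Wd.g 3)]

/-- patterns -/
def pats : List Wd := wtriv ++ (rels ++ rels.map Wd.inv)

/-- patterns as lists of letters -/
noncomputable def patL : List (List ℕ) := pats.map (fun W => (W.flat ivx).reverse)

theorem c_wok : wOK 4 xw rels wrels = true := by decide +kernel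
theorem c_wback : wBack 4 xw rels wrels = true := by decide +kernel
theorem c_inv_sub : ∀ q ∈ invPairs ivx 5, q ∈ eqs := by decide +kernel
theorem c_rel_sub : ∀ q ∈ wrels.map (halfW ivx), q ∈ eqs := by decide +kernel

end Cfsg.Agent.Lib.J1PAB
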