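import Cfsg.Agent.Lib.J1PAB

set_option autoImplicit false
set_option linter.all false
set_option maxRecDepth 100000
set_option Elab.async false

namespace Cfsg.Agent.Lib.J1PAC0
open Cfsg.Spor Cfsg.Agent.Lib.BenesPerm Cfsg.Agent.Lib.BenesAct Cfsg.Agent.Lib.BenesWord
open Cfsg.Agent.Lib.BenesPlane Cfsg.Agent.Lib.CosetClosure Cfsg.Agent.Lib.CosetFacts
open Cfsg.Agent.Lib.CosetMain Cfsg.Agent.Lib.CoxBridge Cfsg.Agent.Lib.CosetGroup Cfsg.Agent.Lib.CosetInst Cfsg.Agent.Lib.CosetInj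
open Cfsg.Agent.Lib.BenesPack Cfsg.Agent.Lib.CosetPack Cfsg.Agent.Lib.CosetChain Cfsg.Agent.Lib.CosetWide Cfsg.Agent.Lib.CosetWide2
open Cfsg.Agent.Lib.J1PRel Cfsg.Agent.Lib.J1PAN0 Cfsg.Agent.Lib.J1PAR0 Cfsg.Agent.Lib.J1PAD Cfsg.Agent.Lib.J1PAB

noncomputable def cl0_0 : Nat := (nat_lit 0x4ea953d5080502944445b4a1455480b9846099912c9100201000b08010025600a0)
noncomputable def cl0_1 : Nat := (nat_lit 0x199026ee1611955c639819844c26f4f48298020104000815061000480a004020000)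
noncomputable def cl0_2 : Nat := (nat_lit 0x361c2c07ae80b04f34017a48221123004040acd7009425140900030441500000000)
noncomputable def cl0_3 : Nat := (nat_lit 0x3bbe7bfd99dd1b7957b972d5fefed5bdaae8b1d2646c731435c32c4b6eb2401a8c6)
noncomputable def cl0_4 : Nat := (nat_lit 0x500002000000400018c002108000020000000008000000000000000000)
noncomputable def cl0 : Net := (Net.cons (nat_lit 0) cl0_0 (Net.cons (nat_lit 1) cl0_1 (Net.cons (nat_lit 2) cl0_2 (Net.cons (nat_lit 3) cl0_3 (Net.cons (nat_lit 4) cl0_4 Net.nil)))))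
def simd0 : List (Wd × ℕ) := [((Wd.pow (Wd.g 3) 3), 1), ((Wd.mul (Wd.g 1) (Wd.inv (Wd.mul (Wd.mul (Wd.g 3) (Wd.g 0)) (Wd.inv (Wd.g 3))))), 4), ((Wd.mul (Wd.mul (Wd.mul (Wd.mul (Wd.mul (Wd.mul (Wd.mul (Wd.mul (Wd.g 0) (Wd.g 2)) (Wd.g 1)) (Wd.g 3)) (Wd.g 2)) (Wd.g 3)) (Wd.g 0)) (Wd.g 2)) (Wd.g 3)), 9), ((Wd.pow (Wd.mul (Wd.g 0) (Wd.g 3)) 7), 2), ((Wd.mul (Wd.mul (Wd.mul (Wd.mul (Wd.mul (Wd.mul (Wd.mul (Wd.mul (Wd.mul (Wd.mul (Wd.mul (Wd.mul (Wd.mul (Wd.g 0) (Wd.g 1)) (Wd.g 2)) (Wd.g 3)) (Wd.g 1)) (Wd.g 2)) (Wd.g 3)) (Wd.g 0)) (Wd.g 1)) (Wd.inv (Wd.g 3))) (Wd.g 2)) (Wd.g 1)) (Wd.inv (Wd.g 3))) (Wd.g 1)), 14), ((Wd.mul (Wd.mul (Wd.mul (Wd.mul (Wd.mul (Wd.mul (Wd.mul (Wd.mul (Wd.mul (Wd.mul (Wd.mul (Wd.mul (Wd.mul (Wd.g 1) (Wd.g 2)) (Wd.g 3)) (Wd.g 2)) (Wd.g 3)) (Wd.g 1)) (Wd.inv (Wd.g 3))) (Wd.g 1)) (Wd.g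 2)) (Wd.g 3)) (Wd.g 2)) (Wd.g 3)) (Wd.g 1)) (Wd.inv (Wd.g 3))), 7), ((Wd.pow (Wd.mul (Wd.g 1) (Wd.g 2)) 11), 2), ((Wd.pow (Wd.mul (Wd.g 0) (Wd.g 1)) 19), 2), ((Wd.pow (Wd.mul (Wd.g 0) (Wd.g 2)) 19), 2)]
theorem cov0 : relsMK nets ivx R 6 (simd0.map (splitW ivx)) Net.nil (claimK cl0) = true := by decide +kernel
theorem slet0 : simdLetK ivx 5 simd0 = true := by decide +kernel
theorem smem0 : ∀ q ∈ simd0, q.1 ∈ wrels := by decide +kernel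


end Cfsg.Agent.Lib.J1PAC0
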