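import Cfsg.Agent.Lib.J1PAB

set_option autoImplicit false
set_option linter.all false
set_option maxRecDepth 100000
set_option Elab.async false

namespace Cfsg.Agent.Lib.J1PAF0
open Cfsg.Spor Cfsg.Agent.Lib.BenesPerm Cfsg.Agent.Lib.BenesAct Cfsg.Agent.Lib.BenesWord
open Cfsg.Agent.Lib.BenesPlane Cfsg.Agent.Lib.CosetClosure Cfsg.Agent.Lib.CosetFacts
open Cfsg.Agent.Lib.CosetMain Cfsg.Agent.Lib.CoxBridge Cfsg.Agent.Lib.CosetGroup Cfsg.Agent.Lib.CosetInst Cfsg.Agent.Lib.CosetInj
open Cfsg.Agent.Lib.BenesPack Cfsg.Agent.Lib.CosetPack Cfsg.Agent.Lib.CosetChain Cfsg.Agent.Lib.CosetWide Cfsg.Agent.Lib.CosetWide2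
open Cfsg.Agent.Lib.J1PRel Cfsg.Agent.Lib.J1PAN0 Cfsg.Agent.Lib.J1PAR0 Cfsg.Agent.Lib.J1PAD Cfsg.Agent.Lib.J1PAB

theorem fact0 : factsK nets ivx R 5 266 (2 ^ 9) nd T DT patL 2 s0 = true := by decide +kernel
theorem fact1 : factsK nets ivx R 5 266 (2 ^ 9) nd T DT patL 42 s1 = true := by decide +kernel
theorem fact2 : factsK nets ivx R 5 266 (2 ^ 9) nd T DT patL 82 s2 = true := by decide +kernel
theorem fact3 : factsK nets ivx R 5 266 (2 ^ 9) nd T DT patL 122 s3 = true := by decide +kernel
theorem fact4 : factsK nets ivx R 5 266 (2 ^ 9) nd T DT patL 162 s4 = true := by decide +kernel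
theorem fact5 : factsK nets ivx R 5 266 (2 ^ 9) nd T DT patL 202 s5 = true := by decide +kernel
theorem fact6 : factsK nets ivx R 5 266 (2 ^ 9) nd T DT patL 242 s6 = true := by decide +kernel
theorem fact7 : factsK nets ivx R 5 266 (2 ^ 9) nd T DT patL 282 s7 = true := by decide +kernel
theorem fact8 : factsK nets ivx R 5 266 (2 ^ 9) nd T DT patL 322 s8 = true := by decide +kernel
theorem fact9 : factsK nets ivx R 5 266 (2 ^ 9) nd T DT patL 362 s9 = true := by decide +kernel
theorem fact10 : factsK nets ivx R 5 266 (2 ^ 9) nd T DT patL 402 s10 = true := by decide +kernel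
theorem fact11 : factsK nets ivx R 5 266 (2 ^ 9) nd T DT patL 442 s11 = true := by decide +kernel
theorem fact12 : factsK nets ivx R 5 266 (2 ^ 9) nd T DT patL 482 s12 = true := by decide +kernel
theorem fact13 : factsK nets ivx R 5 266 (2 ^ 9) nd T DT patL 522 s13 = true := by decide +kernel
theorem fact14 : factsK nets ivx R 5 266 (2 ^ 9) nd T DT patL 562 s14 = true := by decide +kernel
theorem fact15 : factsK nets ivx R 5 266 (2 ^ 9) nd T DT patL 602 s15 = true := by decide +kernel
theorem fact16 : factsK nets ivx R 5 266 (2 ^ 9) nd T DT patL 642 s16 = true := by decide +kernel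
theorem fact17 : factsK nets ivx R 5 266 (2 ^ 9) nd T DT patL 682 s17 = true := by decide +kernel
theorem fact18 : factsK nets ivx R 5 266 (2 ^ 9) nd T DT patL 722 s18 = true := by decide +kernel
theorem fact19 : factsK nets ivx R 5 266 (2 ^ 9) nd T DT patL 762 s19 = true := by decide +kernel
theorem fact20 : factsK nets ivx R 5 266 (2 ^ 9) nd T DT patL 802 s20 = true := by decide +kernel
theorem fact21 : factsK nets ivx R 5 266 (2 ^ 9) nd T DT patL 842 s21 = true := by decide +kernel
theorem fact22 : factsK nets ivx R 5 266 (2 ^ 9) nd T DT patL 882 s22 = true := by decide +kernel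
theorem fact23 : factsK nets ivx R 5 266 (2 ^ 9) nd T DT patL 922 s23 = true := by decide +kernel
theorem fact24 : factsK nets ivx R 5 266 (2 ^ 9) nd T DT patL 962 s24 = true := by decide +kernel
theorem fact25 : factsK nets ivx R 5 266 (2 ^ 9) nd T DT patL 1002 s25 = true := by decide +kernel
theorem fact26 : factsK nets ivx R 5 266 (2 ^ 9) nd T DT patL 1042 s26 = true := by decide +kernel
theorem fact27 : factsK nets ivx R 5 266 (2 ^ 9) nd T DT patL 1082 s27 = true := by decide +kernel

end Cfsg.Agent.Lib.J1PAF0
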