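import Cfsg.Agent.Lib.CosetFacts

set_option autoImplicit false
set_option linter.all false
set_option maxRecDepth 100000

namespace Cfsg.Agent.Lib.J1PBD
open Cfsg.Agent.Lib.BenesPerm Cfsg.Agent.Lib.CosetFacts

noncomputable def d0 : Nat := (Nat.lor (nat_lit 0x80404910050a1140240230008048c449042011020021604aa0820210100088822220804100222440001b0884012208208200449026659041024044802198485000444000504102019428090320944090404080222212111241424122080848e20212020582128701028108a2a08a418088501900804214158004401004408408112244448000a40808a000000954126440980024241092622211248080204250000802c2001444c0208844c00950004018042208110408a04004804200505045202410810510104a5081220080840204412b10104002048280a12544312884984510d4122092224010048026c042209a10880116220151022a00440808808400484824122008080082a20086022520810504211440a408811210410010882244420080a080a9011080022108841041141014840428442202821109044a10130404a104400a02204a08420040010408422089094400112024060942125280211094010410028404254504482c0025142090008848810045040a80220228210442a0820240544045041082c10441103844402801115044200888208a104114202a08212080812820820880884304445084101094210421008104a010408884222020440044108222150020804a1040082508209105441044413000450808082511044488022820250411024a082088128208208204a10440412820822209410410)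 (Nat.shiftLeft (nat_lit 0x9c08802088014400a000c83440949030242418000018112120a025043610a20104100010a10025420200ea1121001480040182021022a015408784c002000190008) (nat_lit 4096)))
noncomputable def d1 : Nat := (Nat.lor (nat_lit 0x811242030912000080004212206088020400841451008840804600680250004080408065400000818202240424042503020102211802a800481a1550224a0001018004226082044088392604a08a00019040c04440084888204001020948300a020044a080528021c40501004018a10128920a5081028c0220904404922030220048089108a1040904244042080408109004049412224085004d8304088290322412410444200104a22881210008410022308904241110114c866002a84840a8501012652250480a41048a442202c201200412294104220090208024a00130010210120442500152098244024a4090080241020495204a040810940102912049492414002909089240011418840492248484a0109002108a021103401024488250901080904120821504290204112010120084904114090202022110085204048081089408414808090020912489008c21090004520020100902044a0208a050104484424204848284802400440210201285020148080409020842402024814080888848124a00921241011044142008502020204014290108810011201024080c088092802022422091284480888092121024248081112481044812201400241084481212404204089108101089240908902482044809209148041109240244808208402024040421480808905202022422048081084920242240490101120)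 (Nat.shiftLeft (nat_lit 0x42460000403490061830250313404040100180570081021a100cc20101c25460806a440106405020858010480444002e08a010e0c38044800848112821928028401) (nat_lit 4096)))
noncomputable def d2 : Nat := (Nat.lor (nat_lit 0x522802044a408a89823d48c60c00030401178028a2840000011810212a48014841d8120022841b8782c4500b880004020816200040104408600e020a5040022084a29c38000684886014048410000249a08811801181002010a1b849940014110045a0001400109020068445005410060420005a74a0410059920a258205480448001a004e1440a10305ab29500a0102002222108204488005a00143045290840c2641240a28082301502105802961a384c05501209a0054a0010030442828804a0220408048281508028503014010c2204482042124094c105000a804540861a2082a00110004aa09634a080000d0052c5128881420224415128293814428480024008d0501040241544808140290408080902a800110100502a0032c14090090104a5130102c67422404014182a02a2209108250aa05054448902a052a048881522810956048151121843084810495040200a8a2021c5a09028420054450282a4a80a941488212828084024a0a0a45021301810a1c0a8801444041544480a0511515082a980a920840222a0aa204080a547020a88a090301510522a02a4415110451105054454055100420808021120208280480d228208140a808551a05440a80881a0240410a895024142281040a0150008080a8082040280a9081040a0a8083516054440a88a02115115012054454054481522808205405404102a22a02)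 (Nat.shiftLeft (nat_lit 0x20212281174200c041000280a809248602000600122000404f511088002509921204082a58848089204b01a05a0889104206000d2450010a03002a11042024409a6) (nat_lit 4096)))
noncomputable def d3 : Nat := (Nat.lor (nat_lit 0x8210410020441000c0810800901002488000840848130012208440049212109001249809488010250001101000908500c8814480020112890008200401048521000180809049100140200880210804021120088020280124080280012100044088089020a80044411021004900002020024200010480080420108a100810508249213221200112200800508200a4089200848208400010800a02042900000840900800908091048404000022820804210800428400a200091008809101011000484208208041000120100814094008848004480840a0002204400080012002084200448008480042000090090802200100420080040808802410202200409121008a00482221140800a200208802041011004012084222404404484220801100a2140202004000148088220804044044402110010088200882404010004811100041220008810022042882281021200820220108444080502008810009044000101102881110800011108090804008244022022021101120090888008811080220201100010020420804401004809110008444011084202202204404408880220802220200880880222108111102204442008811004244100501120020880884111100440888401202010044122080220224100901110402411002222080401110020880888011044000220220400880880910004111040088088820044044)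 (Nat.shiftLeft (nat_lit 0x800c0a008001090445100800200901084a21a064008c8480020052400800002880808000190000181400020011204010502500080918601010000250450802040) (nat_lit 4096)))
noncomputable def d4 : Nat := (Nat.lor (nat_lit 0x2504808a80040026510002105121203092086610100284314441098841006421040241208011402040008420249d210845010a0908080024103010008802110a4a01220509201022020040100542152204224251084c424408100404424220081d00512041404028802802081220244941048400020902220040a100209020a10490000000410a0444101082042108102445190010890105084000081205042091009009210122081001122844041208401080240820440a0222110d0002022010908c1008028220024c00502812811108102881028910114408921100824004008400890a40910084001101121104404202844100888011004820044412012202011020904442601009043041100418222204802452844408880a808041102208442004444280800809104412280880888242208200104811040480a0408022220482042011022044085104402242001144441210888100a04411080812008240a0220010022100102221112110809048840414404220224412111081102201044040220002104084110880a008012220810888022010444404408808801100441204440481101100444010222204408884411022048408220a022400401091102222208811108024044a2088244110440448221202220884822024444110802220041101111022088820440440881101101022048222088110111044088088)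 (Nat.shiftLeft (nat_lit 0x110515420082a30028a004004020208c190400889466000000008208800000c4101334400220a144020040480a24201a108481000040200a420400488085205210) (nat_lit 4096)))
noncomputable def D : Net := (Net.cons (nat_lit 0) d0 (Net.cons (nat_lit 1) d1 (Net.cons (nat_lit 2) d2 (Net.cons (nat_lit 3) d3 (Net.cons (nat_lit 4) d4 Net.nil)))))
noncomputable def Tp0 : Nat := (nat_lit 0x4ff00044c028ea00021003ef8028e70043f009790023870004300a0900284f00003008d300234d0008000a28c024d30043f0089f0007bb000a0009e28024f80008400a4540291b0043f009e8c002b200382002720022ee0043f009c64020eb0043f002fd0027a9001df009b440266a00020008e44027f4001df00a2e800d0a000a0009c040274d0022400965402898000430091e00289b0004000a3b4028eb001410090bc0276b0002200974c0295b000200016ac022bb002df002e90025d90009f00814802148001df00a01c0234100001008c9002792001df009d04022f40002100875c0253b000230040880251d001df0013a402480001c2000e3c003a0001df0084240034c0002100296c025a70017f00a76402795001df0085e800876001c10099600270b0018300a2140278500003009f4c027d4001df00820c0034f00083009bd80282d002df008250001b6001df009990002c400103009ee002804001df0094d400c6200064008dac023e000063008e90010f000021001a6402321001a1009c28028c0000010091c8028970013f003880024d40014400349802343000e2008b6400da6000a20095900230700142001e740093a000210080580209f0000000000000000)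
noncomputable def Tp1 : Nat := (nat_lit 0x4ff0093780030b0002400a2a0028ab00103008e1c0103a0004300a140028240023f0089240234d00024009550025580043f009b3800ee90043f0098a80278a0008100a46c029160043f00951c002b10043f0082c8002bf0043f008bbc002c000420008ce000bf4001c10030940266a001df008ba002391001df009cfc0274b001df0044380274d0023f00851402596000600091e40289b000000089000267d001430090bc0276a0000300a56c0295c00083009a5c0271f002c2002a3c00ba40008400852402052001630093240279400003008c8c02324001df009d00008c20002300875c025390006100949001022001c20021d4004e9000030092a8028c9001df008fbc00848000c30098d4029040016300a41002795001df0093c800f86001df0090800270b001df009e10026280004400a6d8027d4001df0007280213e0004300432c025b2002df008a10004ad001df0088cc002c300064009bb0023aa001df00250002709000830004440203200061008e90010f200003008c8002321000200022140249e0014000851002229001220022bc00e20001400034980234400043008b6400cf10017f00374c02569000420090ac0243000023001480020850000100000000000)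
noncomputable def Tp2 : Nat := (nat_lit 0x4ff0085c0007bd001df008524003820043f00a63c0103a0006100902402836000c4009ed0027bd0015f0091f4025540043f0041f0028610043f0093dc00af10031f00947c024ad0043f0086a8003360043f008bb8007150043f001870020ea00043008ce0027a4003bf00167002964000e4009fd40281a001c10034280273f001df009c04029c80022100290802145000030091e40247a000820099f40268f00141009d90024310010100974c0296600081009a5c0272100023002f84022630008300868c0248100163009e500234100100008c9002112001df0033dc024ed000410094c4025ac001df0094900248b00063008950020a7000a100a358028c9000230021200245c000c000a40c029d700161009fdc02904001df002328028a6001df00318c02860000a0009148026c9001df009f5002239001df000d3802084000e300a4200297b002df002a5002211001df001354020ef00061008ea0026ed001c000318800940000830080c80203400063002ae40238f000210080d00211c000c100927802707001440088a402143000630022bc024d100161008cf8006e70011f00954000cf10016000271400dd30006300086c020a30002300895402256000c300087402019)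
noncomputable def Tp3 : Nat := (nat_lit 0x4ff000e0c02421001df009208008b1000210040e8029350043f008fa8000870008300938c00de30015f009560028a300424003ba40107c0042100231800af10008000954c025790043f00815c001220043f0027200239700420000b000061c00060008ce4027a4003bf009618004d7000df00a0680246e0039f0095d80273f001c00044380270100063000d70021450031f0091d4024a7000210089340268f00143009d90027ae0010100a59c0298a0006400958000a5200102009aac0297c0012400931c02481001df008ebc02794000e4002b9c02262001c000230800cf7000e2009ac802999001df004088028b100064008950022bd001a100a3240277e001df003abc0245c001df0098ec00ab9000000081dc02213001c3003e18008ca001df00a1780118a000a4009b2402451001df008db802670001df0089c40084c000e000a0ac02908002c20012b400a94001df008ab0004d7001df009bb40021800003009d680275b000840083f80211f00061009bb00238f000430089a000bf5000c1003e4002708001430088a4024720002400933c028ae0004100842c00808001020025b400cf10006000953c025a40006300168c022b00016100895c022e0000c400070802019)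
noncomputable def Tp4 : Nat := (nat_lit 0x4e4001ef400383001df00a2a000fbd0000300a4d0029350043f00a0d80002c000df008d34027b60014000934c025580000300a680029a1000a3003040026b2001df0095e4024ad0043f0086a40033500422001c54009c8000220097f40260300003008ce40233a003bf00288402235000e4009fd40246e0039f0090c8009e5000610031440261500021002cd8026760030400856002475000030089300224d00140009eb80286c0010300a59c02989002df002d6002560000430089780225f000010081440219c001c0008ca4023af00102009e4402621000010082e8023120023f0097ac0087e001c100922c01022001a10095bc028c7001df00a32400a3b001df002ff00283a001df00885c004910000200a748029d800083002e70022f9001c1003b9c0118a001df0089e0004ac001c00088e40236e001c40021e80084c000e400a4200282a0000100910802878001df009c3000b2f001df008ea00059c001200036900275b0008100847c021000007f008ea8026e60010100844402323000c1009700028b30002300212c0213d0002100a2b8024d100001008430023f300043009cb80272f0006400953c010c400042000c3c021100017f008954020c5000c4000874001c2)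
noncomputable def Tp5 : Nat := (nat_lit 0x1df00a2ac028e70011f00a4d0027c70043f00902400080000c2008d340234d00000008174021b30014200a1580286a0023f0030400251c001df00954c028ce00063000cd402131001df003cf402881001df000de0029ad0043f00a490027ab003bf0099a8009c3001df009fd4020b0003830033a8009e5000630031440261400001008ae4027190030400a270028c4000210004e80203f000a3008be8026a20000100967c02973002df0026e8026970004300897c026a90008200867002481002df009e08023af00061008de002421000a1008c3c025aa0023f00a66400f8d001df00887c0036b001a3009df8028c7001df0092a80044b001c1003abc00bfc001df0081e0001ab000c200a7480290400083008be4008490002000201002445001df009b2400af0001df008db80200b00021002c140263e001df0083fc0009c000c3008b7402442001df0037d002669001df00a010022aa00121009d6800da300081008dac0248c00063008e38023aa00101008c940241e00020000924020b00015f00a2580288a000430092200248900140008fcc00ddd000ff00424c0272e0004300953c0104a0006200168c0211200161001480020c50002000800c02027)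
noncomputable def Tp6 : Nat := (nat_lit 0x1c1003ef8028ab0010400a4d4027c70043f00a140001750023f0089240268b0031f0086d40291800021003c140286a0023f008648026c2001c00092b4025530043f00148802131001c200914400f3d001df0097f002161004210094c0027ab003bf00309402564001df0082c00059f000200086fc025760006300985002701000c2008bbc027190000300a2700289d000a20080fc003870002000229c024cb000a000a5cc0298c002df009c8400408000030089b40226e0000300814002051002df008c5800744001df008c900237800103009424023150023f009ac80102f001df0013040214d001df00a31c022ca001df00856c021c800000008eec0280e001df0081dc0010800003008ac8022b300081008be402468000c400911002805001df00914402628001df0088e4000920002300886000b05001df008f78001c4000e000910802653001c2002cbc00df4001df009ee00270c00021008bc40275b001df008db0020a0000210025000253300103008c940241d000230082c0006160014400a25c0288a000210021e40248400183008fd000f21000e10032f801093000640043100104a0000300844402112000610016b8022540002100016802004)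
noncomputable def Tp7 : Nat := (nat_lit 0x300921802487001df0080080003c0043f00a09000400002220089240224900302009460021b5001040087800242e00221003040021920031f00a46c025530043f009124001e40043f003cf4026fc001df002af4024be000010091ac02890003bf008c1c0056f001df008ba000c670039f0090cc021bf000430095b00256e00003008bbc022f00030400a3100289d0031f0099f4028ed00161009a88024cb000030096780259f002df008ae800409000a0009aa40226d0012200a38802927002df0019dc023ae001df0090840279200100008c540250a000430040bc02531001df00922c0221e001df0095bc02722001c000112c0215b000a10090100280e001df0088540202d00003009c5002715000030084f80213f00000008ff002843001df008c5c00820001df00820800030000240098e80263f001df00a0a8004ce00003008f2c023cd000210090a402834001df008e9c022ac0011f009d68026de001df00835c0206c0002300866c00940001010090540279000023008ba0022e90008000a25c024ec0004300881800ad400182003c5400f2100023008b4c00cce000230081200039f000200080c00211100184008a68022bf000610080900202b)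
noncomputable def Tp8 : Nat := (nat_lit 0x6100a248028ac001df008080000b20043f008f48009aa0043f0026b00255d0043f0086d40001e001040090b8025cc0043f008648007b70031f00a4580293e0043f00914c005210042200310c00f3d001c100858400abd000820093c002890003bf0019880227d001df009fd0027110039f00849c0041e000430095b8029540035f00a260027350033f008554001090031f00a3ac022400004200932c024d90004200962c0259e002c20016a400409000a40089b4026aa001df00810c0006b002c0001d100067700063001efc0242100101009dfc0290b0023f002fc802531001df00408802649001df008af4021ba000230097a8025eb0002400900002822001df0098d400195000c3009c48029a7000210084fc024660008100924402843001df009e140033a001df0088ec0001d000a200906802800001df00a42000b2200101008f340265500020001f340242900003008c680231b0012100368c026de000000081b0021f6000430015240208d0000300846c0211c00023008ba40274c0015f00a22c024ec00043002b500260f00020003894027ef00023009cdc0273800023008600008ec000620084440226800043008a68022a00000300800c02004)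
noncomputable def Tp9 : Nat := (nat_lit 0x1df0021f80215f001df008350002060043f001d680255c004220026b0009ac0043f0081780005d000a000a674029870043f0030400241f00003009460029160043f0020a00225a000a1008e4c022840043f008ae000262000030085dc02178003a40015bc00662001c2009d7c027110039f000c7c021be00043001288022090035f00a5c0022cd0033f0080f40202e0031f0093800267f0016100a1b0028e9001df009678024a9000a40080280202d000a4009aa80226e001df008108000220000100958c0294e001df009e44007bf001df008c48000480023f0096b00054c001c100887801022000030086e8021bb000e100a034029880002100a08802402001df00a75c00459000c000a69c027130000300919402466000c000a01402708001df00a21400339001df0087f00005b00023001eb40211e001df003fd40265b0010300995402661000e100a0cc028620000300999002665000e3008a20025f9001df008dac021f6000440086680208d000030090500241500003008a9c022a800143003d8c024ec000bf00983c024840015f009fb800e83001200090a802737000c3003284021cf00101008ac00243000184008afc022a0000030080a40202b)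
noncomputable def Tp10 : Nat := (nat_lit 0x1df0092f000f8d001df008d88005750043f00a5240075900003009d780275f0043f0081740005b0012100a6140299800421001edc00c100031f00956802518004230014840082800023008254022840043f0085840064d000030093c0024f100043009acc026b4000200097a402997003800010780031f00043008828026130035f00966c005e00033f00855c0210c0031f009a00008b4001df00937002050001df00967c028ca0014100a020029740004400919c026a8001df00859c0006a000bf00a5380276e001df00988400eec001df009dfc000d70023f00874c001f6000830087d0025f2001df008950021bb000e300a6200280c000a000a02c02822001df00a40c00a58000030097d8025f70000300a2380288f001c10088e00236d001df00917800819001df0098000010b000210006f402078001c1002c8800ff50010200a1d80265e000e300a18802832000200009f8020bb000e00097e402289000610087d80252500043008998025340000000846c024130002000166c022a700160002c70024af000a3002b50024840014000389000e8300124009cdc00f02000c200860000ca100100003c0800d5f0019f001624022a2000c1000ca402027)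
noncomputable def Tp11 : Nat := (nat_lit 0x1df00a24800d15001df009f1c00c310043f00a52000e810016200a4cc0275e0043f0086cc0010a0015f00a158029a1000200030e8026ef0031f00a51802917000a00034480250e0000300a1dc028780043f002af4022fb00144009964028f10000300982c0260c0004200a65c0299b001df0089b000a6200043008b34022ee0035f002910022ce0033f009290023f400300002cec008b4001df00a3a4021a0001df0092a400474000830085fc02500001df00919c0009e001df00931800138000a40095840276e001df002b9c02864001df00a42c002690023f008750001fc000830097c8025f4000410086ec021bd000e300a030025d0000c300862c02351001df003f88025a70000300a69c029a900122009ff80288e001c0008db4026eb001df002124023f2001df00a118002f6000030081dc02078000a40082440087a001df00994c0011d000e200a188029a7001600099940231b001df008084021f8001df0092300252500020001870022ef0010200a710028570000300807c020200016200a224028cf0015f001bcc02610000230033f8022db0015f00357802738000c3003fd4010cb000030090e0024390018200162400589000c4000b800060a)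
noncomputable def Tp12 : Nat := (nat_lit 0x1df00a2b002752001df00a4d4026d90002300889400b120043f00a4cc006fd0043f009560002f20014300a6800285600042009bbc026fb00303009dd802917000420033180273000023008a14026da0042100193400abd001df00a2400270f0000300a6f0029bd000010097c00299b001df009624025b200043008bb8027360034400178000a440033f00a3100283f00021002264024b6001df00a1b00253c001df00967c021ea0008300940002502001df009aa0001cc001df00a38800370000a0009dbc0294f001c1003bb000ae7001df0094200065e00221001178001fc0008300a67c029a2001df0016b8021bd001df00a0300006c001df008330002da001c100296c00fe200100009898027ff000e0009fd40281b001df009bac020de001c100206400849001df008ff8007900008200847802214000a40021e802271001df00910800326000c4009c34029a800161008c6802664001df0097e402074001df0086600214d000a1008bbc026b0000000084980243000003008344020d30016200a20c029e30015f002b5002385000210082b0022db0014000333800d5e000230081b800494001810029cc02438000200015240219b0002100033002018)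
noncomputable def Tp13 : Nat := (nat_lit 0x1c200921c02752001c10040e8026d90002300993c026500043f009d780238b0043f00934c007870014100a0dc029a000001008a7c026fb00023001f08021220002100330c027300011f009b6c02877000240083580220c001c20093c00270f000000088100260b000030097bc025f0001c0002988025890035f0096680273600001008d14027b00033f00a274024d000000008558024a2001df009eb802929001df00a5cc025d70008300a40802906001df008978004e5001df00a49c0088e001df009dbc0230d000430016c00225b001df0024240230600020003840027df0008400a660029a2001df00105c022bf001df00974000022001df008d440074f000230087c800aa300003009ffc028000000300a06c0281c001df008db40206d0000300a3f8028ff001c1001e40007900000300885002216000000089c4026ba001df00a1e0007fa00020001674022ab000230082ec00695001df008a240220b000030085300214d00161003318026af00021008448023ff00080008aa0020d10016100a790026b600142001bcc00ad4000c100182c0212c000230082cc0062a000230087e4021fa001800090e400a74000240015240219a000a00080600028f)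
noncomputable def Tp14 : Nat := (nat_lit 0x10096ac029770043f0099e4026d9000c4009d60026500043f009d7c027ed0043f0022b8023fa0015f00978802835001c4002bc002451000230090900242500161009438027310010400a1e0026db000240088300236a001df009c3c00617000e400a2b4029bd0000300a6740299e000030088700221d00343008bb80259a00003008454024020033f0091e8028e400022009288024b6001c00094f0027ae001df00a63002989000e400a40402906001df00897c0224c001df0094e4024ac001df00a53c027780008100896400c7a001c30019780090900001009064028580008400a67c02998001c20016b800417001df0087900006a001df00862c0074e000030096e8025bb000230090680241b000df00a06c0246b001df0088e0001ab000c4009c580290000001008e84027fd000a000a0000263c000430092280248c001df009104007fb000a1008dfc0270e00023008c700231d00000008d78027c4001df000f200214c00023003318022ce00023003ae8023ff00081008a9c0235c00042004588026b600020001bd4023860002300182c020ac00003008b44022d2000230087e8025fe000200084a40243800083002fb0022ea0002300091802018)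
noncomputable def Tp15 : Nat := (nat_lit 0x20002a5c025de002c30097b002679001df009d6000e8100423008e2c0275f00423001e1c008ae0015f008fa40298e0002300310c0229f0002400841000777000030094380250f0018200a100028780002400986c027d0001df0093c00093e000e100a6f4028af000a300a6780298600003009918026480039f00a6fc0297100043008f44023d2003200093400247a00003009288024a30031f0086800015f001c100976802989000e400a40802901001df009aa802690001df00875c028cd001c30095880277800003009f2c027cc00021001060021bc00003008fb0023ed0027f00a6600036a000210035e80277b001df0081a000138001df000ee0023b5000430083cc020f4000bf009ffc0263b000e0009fd40246b001df0099bc00491001df008f14020a500042009ff402802000000083b40239b000a40089c0023e4001df00a1d80244000003008df80237f00101008c78023c600003009f10027c5001c3000da0003c80017f009ab8022ce00100009e4c0284a00082008d700274c00020002e7c026a10017f0043ec027e6000c30084b0022dd00184008b4800629000200080300206e0018300333c0243f00081002fb000d0d000a4000a3c00610)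
noncomputable def Tp16 : Nat := (nat_lit 0xc2009778029770043f0030c4025ec001df009940028230000100902c02852000000097980299100141009788023e90043f002bc00229f000a10090940283100163009cc40291000182009fe0028e500103008d6402784001df0093c4003ca00043009224028af002df00a6780014400021008cb802798003820098440297100023008f3c00e7e000c400a09c028df0000100928c028c30031f0094f0003cf000030087ac021ec000c300885402501001c30089b802690001c40092b0021d70000100972402984001df009b28004ad001df008a68004180000300a0e0028390027f00a67c0036b00063002e080269c001df00068002040001df00a02c00155000430083d0023b8001000098980263b00003008e4402392001df008aa000ab9001df0084a4022b400000008e9c0280200003008e6c0239c000a4008f90026ba001df00997802875001df008dfc0059b00104008f0c0231e001df009f1002074000e0008ae0024c100160008998022ce0013f009d5002847000c3009c2000f8f0019f002254026a000161003870010fb00021000c9c0212a001800082cc022d2000430098640261a0018100333c00f2800061008b5c00d1c00063000b1c020f1)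
noncomputable def Tp17 : Nat := (nat_lit 0x2df00977800b420043f002a98026d8001c4003a04026500000300a144028520004200a6340299100003009da0027690043f009bec004ac001c100909402677000210024440250f002df009fe000dfb00100009f4002784001df00a3c40093c0031f00a2bc02537002df0097c00038c001400084e00232f0039f009d64029c00017f009ebc0281f000a1009af00292a000000091d80289a0031f009eb800947000200011f4021eb001df0094040200a001df0089b800a63001df0089bc021d700000008788025ce001df009f3002211001df001600021bc000a400a130028390033f0097c8004c100003009a780269f001df00856c00472001df00a088003b7000a0008764022080010000a6900263100003009fd4027f6001df009c20025fb001df009c5802438001df00a008001c7000bf0098fc027fc001df0080ac0003400003008a5c02298001df009c38022a900104009e3c02814001df008d780220b000e4009304022b700003008b2c022cc00121003ae402754000c1008ba4024900019f002e74024b200023003d8802461000030084a40212a00043009cec0273c000600097f8026190002300923400f8d00183008b58022c0000600083c40078b)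
noncomputable def Tp18 : Nat := (nat_lit 0x2df00a5dc0268a004210030c400aa60043f0041c40265000063001e84024100000100978c0298d00001008c00027690043f009bbc00af1000210080d4021220006100950c02910002df00a394027c0001df009f4002880001df0099640102d0031f00a6f402926002df00a66c008c2000030084dc021380038100984c0275900162008f3c027af0000300a4a80292b000030089d4022760031f00375c02540002df0008c4021eb001df0085fc020630004300875800a63001df0082400045e0004200973802984001df009f2c0262d001c100106000580000e1008fb4027f00033f002aa40221e00060009a700269e001df00112c021e8001df008f440091a000e0008ee0025bb001030098c0029a4000ff00a23c027f2001df00a014029ac001df00a400007f4001df009ff4004d8000a0008e700263f001df00840c0009e00003009bcc026f5001df008aac026f600001008a50026e8001c30083480220b000e30093040271b00003009ccc027340002300a1280284b000c30094b8028b30018200225400b9d000420084f402147001040088ac023db001bf0034b80273b00064009864025ff000230085380087e0018300347000ce000064001e2c00724)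
noncomputable def Tp19 : Nat := (nat_lit 0x2c10096ac0268a000e40043900290c0043f002c4802947000630090440285300003009788025e300003008bfc023000043f0030e40262b001df00042c0202500161009cb00292f002c400a37c027c0000630015c00227d001df0088a4029250030300a6f002926002df00a65c00fcb00144008cbc024550004300984c02615001df00833c004ad000000094f80292a00003009b00026c10030100251c00dd7002df0087b0000c2001df009400021cd0004300298c025b5001df00823c0045d002df0097380034e001c3008d9c0262d00001009828029ba001df008e3c005990033f004088025f100064009a780269d001c00011c80044b001df001d6402511000ff0096e8023b90010300a690029d4000ff00a23802390001c00097ec02805001df0093f800f20001df008e840223600021001a540231b001df008f90001ca0002000827402297001df008a640270d00084008a34023f5001df008a200202300041008b34022f00017f0094d4027330008200a128028b9000c10094b8028b400021003458027510002300851c0087100003008f14023c6001a100339c00d2e000640097fc0261a00020000da80214e00020001794022d100021000d0802138)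
noncomputable def Tp20 : Nat := (nat_lit 0xc4001560021460000300942c0250c004200041c400b120006300a14c028550043f00978c00a3c00101009da0025850043f00a73801181001df0080d4002f50017f009cac0292e00003008bf0022fd001df008da80227d001c10040b40222900022009f3c029bc0008400a6bc02711000430084b80212f0004300a700029c1001df008d6802211000430086540219600062009b000289a001c100811002051002df0097680022f001df00a408025a1001df009a40025b5001df0089ac00a61002df00a6100084d002df0098b4021ed0000300890c02244001df009fc000c610033f0041fc0291a00064009a740269f00021001740022c2001c100246800759000e3008764023b90010000a750029a50013f009ff8027f1000430094800102500063003c80026f0001df001c740266b001df008c6c002c1001df009ae80208400081009bd40235a001df00a6a0020ff00082008dd0026e2001c100808c020d200162008bc00271b00161008b2c02535000030092580249700083003e48028b20004100940c028c2000ff00851c00854000000083e4023c5000430082a0020a90000300857c0216000042008538021650019f0018a4022d10002000014002001)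
noncomputable def Tp21 : Nat := (nat_lit 0xe0009498028e000104008614020e3000030098740261e00043008460007990043f00a6340044c00100009da402963000030098a80262b001df0084880078e00023009ca40272b00003009d9802767000210089f4026d00043f009eac0283b001df00808400204001df009af400e2f000430084bc024470000300881002205001df009bd40262c000c40094840253f0002300872c00a430031f00814400026002df00a624005d2001df00a40402974000010096d40297c001df009ae0010cb0031f00972400652002c3008d9c021ed00003009a0c02684001c10087fc00c61003220040880107f000200082dc0230f00003008b04022c2001df008c4c0026c000e20097a80280d0011f009c50029d300121003928027f1000430040940291c001df0093fc026f0001df002fb4023a0001df001a54020ec000200092f00289200003008338020cf001df0097d80202900003008370020dd001df008258020d2001640093080274700021001788022cc0000300a2e4028bb0008300a2c8028b40002000237c02503000e20084f400854000c0008f180212a000610082a400a53000430080ec0203c000030085900216500180001794006290002400808402074)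
noncomputable def Tp22 : Nat := (nat_lit 0xe100a27c02921001010095280290d0000300a714029c6000a000a154028520043f00a64400a3d003bf008c00026d40000300a734029ce001df009094023fd0017f00950802729000210082d8022fd001df009f40026d00043f008fc00233a001df00835800570001df00a6bc00fcb0014000915402447000030098340260e001df0098b00236800020001ae80233c0023f00290c022750031f00811000076002df00a59c00cb5001c100a02002901001df0089300297c001df00962800ff50031f00877400666002df0087b400a530000000890c02681001df008fb4021ff00003008d1002345001df009a7c0230f000030080c002031001df008c100066600001008e70027fb001000098c002714001df009898020d10000300948802523000210093fc028ff001c1001c7400bed002ff008e7000593000240092f00289100003008d5c0235900003008d54023560000100837402373000830084580211f00163009950026eb00143008b40022dc0000100925c028b80012000a2d002751000c100a304028fc000e400917c026c7000c1008f14021290002300349c022f1000430080f0021510008100826402169000810006540202d000620084e0004a4)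
noncomputable def Tp23 : Nat := (nat_lit 0x47f00a484026890043f00952800484000a400913402829000a100a14c028510043f0097980258f003a3008a00023000043f00369c029cd001df0099dc028440017f0032e00292d0002300193c020b6001c0009144026d000021008ce8027a8001df008da40227f001c3009c4400fcb00143009120024550006400a6f8029c100023002ca40223000164009eb4027da0002100290c025940031f0085b40015a002df00963800a1d002df008c54023b1001df009aac02691001df0028e4029070031f0011b80230d002df00821c00456000c1009a10029bb001df00a0e40260300003009c940272700023008c3c00d7a0000300844c02115001df008d0000d76000e2009ee8027fb001df008f2c00016001df009af80235c0000300a47c02920001df0030f0028ff000030084240210a0033f0098fc0027e000df0085000281c0008300910002874000c10087d40235500003008dc80237300084008458020fe001df008db00265400060008e3c00aba0000300a2dc028b8001bf00a3f002755000c300a3f0028c0000e1009b1c02461001040088b00243d00100008bc402437000410080180203c000830085a4020970014400294c00d26000810012fc0083b)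
noncomputable def Tp24 : Nat := (nat_lit 0x46100a27c026890043f00a434001a9000430091340244e0004400a1500286800140009e98029dd0043f008c00004da0043f0046040278b001c1008ff4026770016100950800cb80043f001694020b600020008c1c027720043f001e18027a8001df009f3c026d2002df0043b00271100143008cbc024480006400a700029be001df002ca402298001bf0086540243a0023f009b00025940031f009364003c6002df0028f002584002df00a02002781000200007b002089001c0003fd400a390031f009de000a7b002df00896400a52001df0089100012b001df00a1300260400160008d1402725001df009a7400d7a000a000a0e00284d001df001af8027770008400833002162001df009c5000016001df0089cc0274c0004000a4700291f00021009bc4026f400021000bc40210a0033f008860020bc00023000d3c0203900083009bd402875000c0008d58025f6000c1008dd8024c50008300826c0210d001df00889c0021300142008b2c026ec00122009d3c028b7001a400a3000275500082008e080270a0000000955802940001000044080286e001010090d40275c00040008544020420000100810c02165000210006ac0206d00064001dd80218d)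
noncomputable def Tp25 : Nat := (nat_lit 0x47f0092140289f0043f0094300048b000a400a0a40244e0043f00a1500017f003bf009e980258f0043f009da4001c80042300369c011810043f008ff4006650043f008020000620043f008bf4022b7003bf009dc800c240043f003740023f1001c200a6f0026d2002df009d7c0299600140009120023300038300a6f802759001df008da0025dd001bf001fd4025210023f00a2680296d0031f00932c00934002c300287400a3c001010040300278100042002f84026a6000210043840298b0031f00958800b2e002df0031e8025a2001df009a100034d00001009810029b100164009c94027b1001df002e080277b000a400a0e00284c001c10035d8006be0008400858802352001df0098c000007001df008e380059b0004400a47c0291d000210081fc02230000a3008fdc024540033f002c14022a30002300850002142000010097dc029a600001008d58027c1000c3008dd8024c3000800084340209c001df0081f0003290017f00998c0238e001c000a368028b7001bf009d44028d800083008068020b800121009b10028a0001010046cc0110300163008b1c007ea0006100858002498000820081f002164000030081b00206d00063001f000091b)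
noncomputable def Tp26 : Nat := (nat_lit 0x47f009a24028a90043f00942c00ab0000a000a1700287f0043f0090400041e003bf009e94029690043f00a58c004d9000230029e0021dc0043f001e380230b0043f008154001200043f009d9c026bc003bf0035c8026d000423001e1800dd0003bf008c2000570002c20043b00275f00142009120027980039f008a58026af001df002ca4027ce001bf0094fc0243c002220096500289a0031f009a8801029000a1009370028cc002df00a4040100c000c3009a60026ab0033f0012ec021f70031f0026fc02668002c100294800c7a001df00a6ec0084a001df009004029b100164009ec402727001c10035e800b82000bf00845402726001df0082e8000d900084009300027ba001df0088480000f001df001c1c022a70004400a47402920001df0099840003d000a0009150023f80033f0016280263e000df008f3002142000010088400262500002009f04027c4000c200924c023720008100824c020fe001df00859000377001610088cc0238e001df009254028d900003009d4002751000000086e80256f00020003e04028a0000c4001ffc022a4001610084a0022c6000a3000e0802046000ff00923400d1400063000a94020a000023000c3c02035)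
noncomputable def Tp27 : Nat := (nat_lit 0x461009214026890043f00a430010ef001df0083f8000950043f00a14c0031f003a400963c027a50043f0096140077700023009710025c60043f009dd8002f50043f0086980032f0043f009d98028df003bf0091440277100081009db002884003bf0019940227f001df009d80007e9000610091580264c0039f003318026f2001c0008da000b29001a00025100243c0000300812c0204c0031f002e800291e000a300a330024da002df003f700290f000c0009aac0269a0033f008a9000b0400302002cb8009bf00043008c5402316001df00982802460000a400a0000263b001df009ec4002a3000a300a2f0028e6000bf008b0402406001df008c500026d000e4009c10028e1001df0098bc0002f001df008d70002b70000100866002523001df0088c4000b4000a1008fc80244f00321002c140058a000df0083e40246f0000300883c02210001df009f04001b3000a400924c02608000800084580227e001df0093080089c00160008ea802664001df0092dc028b6001bf003eb802750000a3009df80295500121009b0c028a1000c400910c02700000230032e0022c6000a30085b002179000e4003e3400d1400063008280020de00023000aa002025)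
noncomputable def Tp28 : Nat := (nat_lit 0x300a2780289f0043f004390029a3001df008f74001b40043f00a144007e80043f002a7c027a50043f008718002e900023009718029830043f00a45c001140043f0095080080d001df0092fc0271b003a00035c802451001df000bc002038003bf009b480066400020001fa402434000630091580264b00381008a5800cc6001df001b0002368000030090ec0243c0000300864402192003000040a400ba0000840099bc02705002c000403000fdc000e4009d880267b0033f009c000263d001000096800268900103008c5802509001df00a6e802886002bf00a00000599001df008d10006e3000a000a398028bd000a2008454022c1001c3009e000026d001df008c7000214001df00a7480002d001df0089cc0070800021000dac0214d001df0081fc0020a000430084cc0213400003009ef8027bf000c2008508020f9000e000989402288001df008d5800095000230081bc02071000810089e802407001df009d1c0089b00061008a44023aa001c1009254024b7001a300344c00fae000830082e0020ba0000300955802557000c4008b10022d80017f0032e00272a000a400853c0217900023001384020840000300809c02028000600080d402025)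
noncomputable def Tp29 : Nat := (nat_lit 0x47f00a278028aa004230043bc010e4001df00a0a4004a60043f00a148022f60042300373c00a9f0043f008188002ea00023008dc4027b20043f0094600005e0043f0032e002446001c4008adc024bf0016000310c0242d001df0084f000786003bf00a6f00230a001df008bd8024340015f008cb8026480039f00103c029be001df002ca40234200183003c8402840000030086480251b00021003e90028d2000c2009c14028a7000210043280297900021002dc80269b0033f00a1e8029db0010400968002688001000097b802782001df00982402882002bf00906800c61001df003498023670000300a2f4028be000a2009c9c0284e0000300894402252001df0082ec00593001df00a4100008a001df00157002390001df00948c0036b001df0088c00057e000a30020b80213900001008da0027cc001df0083e400044000e2009894029a6001df0080a400033000230081c4021fc000030089e40227a001df00340c024b70017f008298026e900042009278028b8000010088000260100083008c44023130000300a50402943000c1008b60022c5001620032e000cb8000a40085b00214f0014100891800bf9000c000164402028000bf008628020e0)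
noncomputable def Tp30 : Nat := (nat_lit 0x4640092140289e000200015d402282001df00913800ae30043f00902c0275f000230026b0021b70043f0006240210700023009ec8027d70043f008640001130042100203400cb80043f008bf0024bf00163008a780242d001df009174023f0003bf00a49802775001c3001fa0022f600003008cb40232e0039f009d64009c8001df009ebc026600018000a1000243b000200005600204b000430096d80297f001df009c1400696000210029bc025b9000230086a400522003200098f40287a0010300892c02598000000097bc0299c001df009b14029b9002bf001eb4021ff001c0001b8c00d2600001009270028be000010090140284e00044008204020c8001df001a54022a5001df009fdc00193001df009fc402274001df00a48000881001df00134802297000a400913c02457000840089e002407001df008508000cb000e100a1d4029cb001df00a69c0009b000630081f40208200080008d74026cb001c200226c00d030017f008a4c022b5001df0088000266c00023008030001ae000a4008c0c02313000200025580254b0016300294c0234300060001d4c023b6000a4008914024d600142008918024ae000c00083780206d000a3000edc020e0)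
noncomputable def Tp31 : Nat := (nat_lit 0x100921c028aa0045f0088f4026d700021002b8c0261e00043001e640240b0002100817c021b70043f008fa400439000e1009f5c025190043f008130003090000100813002190001df008bc0028190016300a0c40286b00000008fc40283c003a10094dc02775003a1009e98029570015f0099180232d0039f00984c0256c001c2008f3c026600018300a0fc0286d0006000946c0102f0004300a5fc02980001df00a29c0037d000030096e0025b9000c0009a6c0293000020001abc0233400020001140021cb000a300a6180299d001c2009824026c5002bf00980c00ed800163008d0002686001df00a2f800c670000300a0380280f000440088e802349001df009c10002c1001df008e5000454001df003928026bf001df00a47400f90001df009bd000b28000a100915c024500008400901c026ca001df0080e4002470000300989002625001df00a188001c3000640087ec0223b001df009b2c020020010100210c0238d0016100829802293001df009c1c0260600044009f4c029b6000a4008c44023030006400a4e002942000430082a4022c5000430083d8023b6000210081e40221d00141002c6c0088f000c10082800206c000bf001bb402189)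
noncomputable def Tp32 : Nat := (nat_lit 0x46100921c0289e0045f008a04004df001df00a1fc0261e0043f008e2c007990002000100c021b80043f00978800a1d000e3009464027d60043f0005580212100163008e1002773001c20092fc022f0001df00a0c4026770002200a0f0028420012200a6f4028df003bf002b98029df001410088700232d0039f008828029540004300873000a45001a000a4ac028e5000640040bc0251c000030094a40252a001df0092040013f000e40099e802762000e40035300268700021009e80027a10004200872c021d4002df00973c00367001df009164029b800023003b600241900160009a1800dd7001df00a2f402273000030090100240500044008d2402671001df00a38400597001df001c3c021ce002df0089d0007d6000a30097ec028dc001df009bc40265f000430084d00245000082009f30026ca001df0004ac020ae000ff0097e002624001df009088004ca000610088ec021fc001df0089e40202000101008e3000f3d00003009f44027d2001df0031840260500040009f4c029b7000a3009db40277d0006300a4ec0294100160008d0c022c500043008ed8023be000bf0092500221d00044000f1c0218a00141003498007fd000a1000edc006ed)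
noncomputable def Tp33 : Nat := (nat_lit 0x46200a5e0027540045f0015d002241001df00a170029c60043f001bf40240c000420086c8021b80043f0087bc00a3e000e2009f580298300420000c2c0015600161008e10027740043f008bc0000f6001c400a1ac0267700001008fe4028420030200a37c02926003bf009914026200006100941402588003830095b80220a0035f0015740281e0012400a3940282700064009470025310000300a48802923001df00867002044002df0099e802250000e1009a1c00d4e00003009e7c027a00023f00872c0055d002df00a61800382001c100982402459002bf0098100241900023008bdc00d53001df00a39802390000a000a03c0240500020000a50020c8001df00930000215001c10011500070f002df0015700242e000a10097ec028dd001df00a3f80265f000e10084d002389000c1009b28027be001df008b900034e000e3008838025f8001df001ef802228000630088a80223b001df0082480201f00103003cf40238a000e300829802227001df009f84005990005f00981c027b700003008e04023820006000a5040293c00164008958020c5000c2008ef802770000a200853c0221d000a4000f1c020e0000230025dc021af000430027e0021c4)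
noncomputable def Tp34 : Nat := (nat_lit 0x2c40096a00268a0044200137c00574001c300a7140285c00422001e64006fd00001008178021b20043f00120402592001df00808c000b1000a30093dc0278a00043001bc00237a0043f008bf0002be0002000193c022ff00003008fe0023f9003a200a37c02775003bf002c2c029ca00063000e8802182000200027200256b0035f008f3800450001bf009af0028270000300964c025940004000a60002922001df0081440216e000a3008c34025660000300a4c40293200003008158020570023f00966000c09002df00a67400364001df0084280012a002bf0090040285800023009d8c02764001df0093580087a001df000a78020f500102008320006fb001df008588002d900044008b2800d77002c2001f580055c001df003e40028dd000630088bc025dd000e0009140027ec000c0009efc02407000030082b8020af001df0097e0000b3001c1001328007be000df008a380265a001df0008040209600102003cf402784000e3008ad402654001df008df8002170005f008d380220000021001bc802382000230091f800f850002100821402253000c1008ef802783000a10085e402151000a40024d40237b00021008168021af00080002620009f8)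
noncomputable def Tp35 : Nat := (nat_lit 0x4df00a1240287c0000300a65002995001c00098780285c00021002a68025e00043f0086c800111004220028f800481001df00836800202000000098a8029cc00021008de4027dc0043f009d980071800042008bfc0230800080008a3c024c4003bf009acc0271c003a400988000b0b0000300814c020540039f009be8029530035f001d5c021cc001a300a37c026bc0006200a4640296c00021009374028d4001df009368021a1000a3009598027790006100977802931000030086a0021a90023f00892c008b7002df0097bc00875001df000bc402037002a1009064024010016000376002763001df0089180084c001df008ee8000e9001020099c40244b001df000de4020f3000440035dc0273200044008e5002796001c10097ec00f900006000977400b29000230080bc002f1001df0089e8000eb00003008b90022e6001df0088380004f00003008e740239e000df0088a8026e1001df00882c0056900062008d5c00f28000e300995002717001df008388002a90005f0083280260100063001948023040002300a290028a500023002e9002253000c3009e0c023bd000a000888002498000c10024d400fb4000200086bc00663000a300819c006c3)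
noncomputable def Tp36 : Nat := (nat_lit 0x4c1003cfc028490045f00a650027c9003bf00a7140296a000a30040f00254c0043f0086e000304000e3009e2802828001df008dc40056c00003009f08027c300081002798025520043f009f0000e42003bf008bfc02280000c3009b9402841003a2008ae4026b3003bf008870029c900003008690021a50039f00a5480229c0035f002914023cf001a0008f58026bc000030099f40267e0031f0085bc0015c0000300867c021a1000a0009de40256700003009778025df000e1001aac021aa0023f001390024e2002df00a670020be002bf0084e8006fb001df009008006ed00020008f0002811001df0092b802464001df00a03c0004e0010400912c027a2001df008edc0013c00003009c880272300040008e5002797001df004094025fb0008400997c026a5000230084340210e001df00901c0201d000c100a0740246d001df00988c000ec000c20099880274a000c2008a380222a001df009b7800c1f00103009e1002357000630002740200e001c2000aa4002a900041008800020ca00160008d0002304000000091f8028a200161008b10026a40002000364002783000bf0092f4021f9000200085ec024f5000210025dc00d7500161001604006bc)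
noncomputable def Tp37 : Nat := (nat_lit 0x4c400a5880287d0044400a654027c9003a10098740296a000a300a4e40293a0005f0087f4020cb004230098a800c39001df009f580227c001df008d6000af1000830011cc021e80043f0037ec027fa003bf00193c026d3000e2009150026e5003bf002fd00265c003a00098800221c00060008608021a4003830095a80229c0035f009980010bf001df0083f0005a50031f00939c0267e0031f009374003c9001df00a3300219f0031f009de4004d60006000a4c8025df00100001ab002135002220022dc004e4002df0097b802329002bf009164002af001df00844c002a7001df0091a0004e0001df0022400288d001df009014000190004300912c0244c001df00a0340013b000a1008b2802722000030082fc020c0001df00a0140092f001df003f68026a500081008a40023f5001df008074001b6001df009954000b7001df00a72c002a3000010088d002662000c1009b88026e2001df00368c026cd00023008c5c00d980006300803c0207d000c4008384022a9000030087fc02200000a1008c4c0230400081009348028a2000c3008b54022d800023002d100224a000a200857c021f900043008308020c300121001c300234a00062002b70007e6)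
noncomputable def Tp38 : Nat := (nat_lit 0x4df0047f80296200043008d9000e040004200a57c02961000030086ac021ac000400081c0020cb0043f00a0a000c39001df00a60c026ce001df009f0802629000830087a0021e90042200390800dfb003a0008a000064f00003009b8c026e5003bf002c94026b5000a400a3ec029e0000640086900218300384009be0029510035f002ca402972001df008f58022b7003030099f4024e70031f00a35000938001c00092b00219f0031f00959c00b2d00041009734025df001030086a802135000210085140247400000008ec002807002bf009824006fa001df009004006eb001df008be400b3e001c100919000890001df00a1380004f00104009e880244c001df0097a800376000a0009c8c0273200003008ca80232b001df009110003c3001df002efc028fd00003008a3c02290001df009efc004ab001df008f340003f001df009978006e3000c3009d28026400000300810802043001c100307c00da300100008d5c00d98000030099b80267000081008274020ff000030098140260600162008e040276d00003009348024d3000c4008b54022c4000600089280067f000a10098680249d0015f000e3c020c200122001b1000756000c00020b000ae8)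
noncomputable def Tp39 : Nat := (nat_lit 0x4c200424c011fe00043003810027c8000010096040295f000030095240254a00003009058024170043f008f680057a001c3009718026ce001df009f0c029cc00083009750025d60043f008b34002bd0043f002cd802280001df009b9400052003a2002fd000b25000a000a3ec029e10006300961c029090039f0036a802951003410042fc00b29001df009af00271a001df009aa40224d0031f003e9402529000440096d0029280031f00894002667000a2008f8802270001040095100279e000620091d0022760004200a01c0280a002bf009b1400e21002bf00906400e0f001df0021240268500003008788021e3001df009c9c000ec00003008f00023c1001df0087c80089d00000008af4027220000300a760029d9001df00200802194001c2003f6800bbf000e1009fb0026e4001df008d4c0220d001df00a074000bd001df00910000e0500003008b88022e30000300859802168000840085a40228c000200012b00220f000e0009c5c0266e000030082740209e000df009f84029b50016000a554027e200141009fa0024d300163009a900273a000df001d500268e000a30092680261f00023000e3c0204700042001bdc02377000c3002ea80225c)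
noncomputable def Tp40 : Nat := (nat_lit 0x300a1200284900440009f20029950043f00960400a3d000a400a4d80293a00001008478024170043f001d7c0229500001008770025c3001c00098a8027c3000c40096fc025d60043f001780020e90043f0015c002677001df009150000f100021002fd0026b1001df0093ec003a20000300a774029de0039f009be00278d0002400849c0212b001c0008adc026bc001df0089b4026920031f00a488008930004400a4a00297e0031f002cb402699001df008f8800b1c001000095100279f0023f00113c02276000e3003c1802622002bf00304c027ea002bf001eb0027df001df009e880283e0012100878c0242e001df008b08002a10000300a04802813000230092380248f000430031f0022be000000098d8029d8001c2000f0c0080200023003b9c024200000300994802653001c2001b6c0220d001df0091b400220001df001fec027cd000c0009900022e300083008a38024c400084009320026df000240081d0020230017f009c5c026eb000830083fc02299000c2009814027e1000030095bc0257000101008620020e3001000087dc022a4000df002d0c023bf000a10092680110e0015f00830c020470000300898002261000c4002e140225c)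
noncomputable def Tp41 : Nat := (nat_lit 0x4c300a1f4011fe0045f009f2400e160043f00a57c02590000a400a4e402936000820090580228b004240015e80075f00041009708025c50000300822c0208c000c3008de800a750043f008e5800a440043f00a1ac00662001df008fe0002af00003009c6002719001df00a3ec021830039f0033a802577003830036a8026f8001a00090c800ceb001df008584024c1001c00089340226d0031f00a60000fa300104009a640297d000c1009a64026b7001df0089c0004e100063009510025db0023f0091d000a420014400916002789002a100388400c13002a0003840007ac001c4008fc8027a2002df00878c0087a001df001740020d500100009e8802812001df0092380089d0006300985802724000010098dc029d60006100a3c0028f60002300a178028600017f009950026ea00083001c4402393001df008504005ad001c1003814007fb000430083c0023a500083009310026e2000430030780227b000230083640220b001600099b8026eb000c2008aa4026f6000000088e00266d0000300a554029560000300861c0218800103008c7c026ff000c0001d5000b43000420092100249b00140000a280204700122001fa402260000c4002ea800b85)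
noncomputable def Tp42 : Nat := (nat_lit 0x4df002a84028480045f003810027e30043f00a5840296a000630005d802058001df00805000019000a100a0180286800003009704025c20000300899002265000c10097580237a00420009fe400a440043f0090b400d72001df008fe4020e600024000a4802022001df00a784025060039f00a5680273e0039f0095a80278c001a30033a802432001c3008adc02161001df0089b4021d60031f0096d800fa400100009a640297e001df00804800197001df0082440224500061009510025dc0023f002188025970014200916002786000c2009f7c0291100003008de002379001c3009e8800849002df0087880084c001c1000a84005d00017f009df00244c001df00923c024bb000a3009de8029c20008300935c024f60006300a3d8028ef000210090800285d00163008a4c026540002300804c00207000820016b4020af000010082d4022f200160008e940274a000c0009b88026e2000430089ec026cc000620083640220f001df0088dc026070004100298802528000030088e002239000420095bc029500015f00a2900250d000e000339c0231f00021001d50023bc000bf00127c02483001430093d400dc000121008984006f700020008220021a8)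
noncomputable def Tp43 : Nat := (nat_lit 0x4df00a12400fb10044100385800e04000c1009ca00296100021008160021ac001df00825c0004e0008300849002427000c3004058027020004200804c0208c000c2009548027dc0035f008998025990043f00310c02451001df00a1080238800024008088020c70006400860c021a500381009d380273e003810036a80256a001a30090c80273f001c0008ae002161001df008934025b30031f00298c028d20031f00a5f8004d6001df0082380045c001c100138402091000630097740265e002230029080086200142009e2002642000c400993c0275800020001ba802378001df002cf8027a2002df008ecc0246400003009d000274100162008c400244c001c30022740248f000a1009de8029c30006300070002079000010093d0028f300020000c2c02121000df008a38026e00002300825002095001df000d3c020af00163002308022f400160009d240239e00003008dd00237500080009b7c026cc0000300834c0235c001df00a6d802080000430094a0021d50000100820802239000010095a0029500014400a2940250d0017f00910c026a4000ff009a8c00e7c000bf0021dc0220600143003700008c40012100226c00bf5000240086a000522)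
noncomputable def Tp44 : Nat := (nat_lit 0x4df003cfc028de00000009448029120043f009874027280006100960002937001df008a2c000e70008300909c02428000c100405802703001df0082300201e00003009548025530034000291002266004200035c800c43001df00a0f0027eb0002400836002347000640094180254100042008ca00279200381009be00294c000420027b80257400003008ae0022b9001c00087580224d00301003e9000a630031f00a4a00046e001df0089a800a60002df0011c00209100043002a50025dc000030089ac0226c001640085ac00dd90002000131c0222500060008de4007bd0033f00a0480064c00001008ecc0280900082009a500272d001df00820000108001df002a8c0248f000210080e40213d000a100888c024fa0000300a3c8028f30002200a17402863000c0008a380228e000a4008a0c0239300020000d3c0213e00163008bd0024ee0017f008e7402748000c2009ba0027d8001df00805400050000a1009c7802360001df009f4c02238000440094a0025af00003008004020020000300959c025680014300a2940290e00164009ce802443000e2002e8400e7c000a100127c00877000840086c0022eb00021008378023770006300253800bcc)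
noncomputable def Tp45 : Nat := (nat_lit 0x4c1003ec400f3f0008200a448029130043f008b0c00ae10000300960002581001df009058002970008400a19802869000df009bf802514001df008994020d000083008184021c00043f00899c000f800001008f2802817001c3008fc0027eb0000000831c02346001df00991c0254100161003f2c0284d0002100340c027460002300957c0107a00003008f94023e600100009650026c8002df0089300267c0031f0094e80019e001df009adc025b1002df001384021e100060009978025dc0000000823c0226b00164003764024ce000c4009d5c029cf001df00a038000ea0033f008f0000d53002df00224002809000200008c8020aa001df00803c0005a001c00021f800aa30002300918802463000010088900264d0007f002328028f2001df00a18c00b1b00162009948026e3000a4001c4402283001df008b980213e001620093b8022f200161008b840239d000030083e4020fa001df00826400051000a3008d800271d001df008db40266e000410096bc0252a00021000a5402022000030088f40223e00141009534028a500164009c000273a000430094ac0252c00020002cc40266b000200005a80205900023001bdc020e4001030082f0022a3)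
noncomputable def Tp46 : Nat := (nat_lit 0x300a64802993001df00a4480075a0043f00174c0261c0006300a4dc02960001df008474020cb0008100a1a402867000c4008a8402514001df0089900235b000840095ec0293f0043f008234002c60000300a368028db001df00a210027eb000e3008d1800a7b001df0088700292c000a4003f2c027f400021001858022e70002300a52c0294c000a0008f98022b900104009b200296c002c20088f80224c0031f00867c001590031f002cb40297a002df009734001cb001df00977002367000430096240258a0016100932402328000c0009d5c029d1001df009010000510033f00a04402764002df008ec80037100081009a5002740001df00820400109001df008858004900010400a22002895000630081ec022210007f0093c8024fc001df00a17402658001df00994800060002df008a0c004ab00003009a040268200001008e48027f3001df008f10000bb000010080a0020fa001df0085a4000ea000e2009944027c600000008db4027d100082008a64021de00044000a4c02081000030099e80267b000030095340254e00023001ff40212d0014200903c027ac00041002fb40266b0008400344801011000df000ee0020e400100001a5800627)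
noncomputable def Tp47 : Nat := (nat_lit 0x210097a002993001df00a44c023d300422002b84005d30006200a5800294a001df000c10020700002300909402867000a400908c02513001df009f0c026ad000c3009f900295d0043f008998007220014100a058028da001c1009db0027eb000e100877802346001c20095040221c000a2009d7c027f400160008b9c02746000620095c40294b000430088b800b360031f0085cc02919001c10096d40224c0031f0092b0003c2000630011bc021de002df00977c004e2001df009510027ca000e00089b0025890016100933802787001df00040802019001df008450000500033f0039f402763002c0001d200037100003009a5002695001df0088e8002f0001df0098cc00784001610092d002888000630088840222400064002328024f2001df00070802027001df009b8c0001f002df001c440220d000c100926c026810006400857802498001df0083dc0021c00023008f50023d9001df009320002a00000100889c02653001df009bac027d1000800096bc026f600044008dd0026720002000137c0223d0014000a4380254e001600084b400a530017f0094ac00dd20005f002c980253200043002614021b1000df000ab00218c00060003020022ae)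
noncomputable def Tp48 : Nat := (nat_lit 0x4df003ae4025e8001df00945402825000a3002a98025bc0043f009578007ac001c000832c00304001df00a19c02845000a400944c02865001c00098a8026ad000c000a574027e50043f002910023ab0014200a36c028170043f009fac006b500001008f7c0282c003bf00a7780290a00001008bd80275f001a4009be400d0c0002100276c0257100003008f5c023d80031f00a5b0024e80031f00a5fc008920031f002238021930006300877c025ca002df00a4c800b41001c1008d9c02544000e4009624026b8001630098e0028e3001df0082c4002de001df0080c0000ee0033f0037600281000021003e70028cb00080009d0402695001df0099c402109001df00a75400cae0016100a250024b1000640098c80264e00020009d0c02745001df00800c0009b001df008a3c0000a002df001b6c023950000300926c0249c0002100811802175001df008098020a4000c10080640200e001df009b7c0029e000e2009f14029e2001df009f4802293000c0008df8025ae00040008dd00267300043009d84027620015f002618028a100160009c000287a001610024e400dd20005f0024fc0265d000c400416c0107b000c3000ee0002ac0006400302000c67)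
noncomputable def Tp49 : Nat := (nat_lit 0x4df00a64c02754001c3008f4c02515000a30097b0029810043f00a52800e0f0043f00100c020cb001c100a1a4028450010200944c027c800023003710023310000100954c0293e0043f001c88027f90014200a064024bf0043f009db00233800002008f940282c003a300a7740290a00003008bd4022f6001df00987c026f90006200a5300295e000e0002cd8023d8000030080f80203f0031f0096d4024b000301000f080088e00063009728025cb002df00951802687001df009510007fd000e4009ae00258a000c20098e002756001df008bb400759001df008444002a6003200039f400dd8000630029a4025b7000200033dc02740001df00912c023f2001df00a3dc00cb0001630092c402893000610099380263300043009d0802745001df0080a8001c3001df009b9000020002c2001c44006db000c0009a080249c000a20092e4027f3001c100087002026000e10088b4023d9001df009b30006d5001640099b8029e2000c3008df4025ae001df0096b8000b90002100800802020000ff0099ec027610015f009b0c0255500021003cac0287a000030093f8024ff00041002c980093f0004300423402573000e4008d840237c000430081cc004a2)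
noncomputable def Tp50 : Nat := (nat_lit 0x4df00a64802752000c2009f2802914000a300a6040299a003bf00383c029680002300100c0205f0043f00a1140026b000e30029ec020c6000030093e0024f90000300a4f40293e00420002910007220000300a060028190043f009acc027aa000ff009f5402718003bf0028f4029dd001600093b8022f5001df008a70029c70000300a54802953001df008f60022b900003008560021590031f008930028d10004300a2c0028e80008000972c025b9002df00353802930001df009e7c00f2a0000300823c02090001df008bb000758001df009d5c023d1001df008c8c006e8000230028ec021c900003008794021e600003008744021d2001df0091300283d000200010ac021c50016300a24c028d5000a400a3dc029d5000000085dc024ef001df008404004ca001df009fb00006300003008ab8022af00082009270026e700064009260024ba001df0083e8000bc000430013680222e001c4003078006d5001df00a788020d7000c30096b8027e0001df00875400218000810099bc022a8000e10035340267b0015f003044029400016400a1bc0287b0002000234c024fe00021002240024ae000800041fc0108d00041008d8c023650002400828802208)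
noncomputable def Tp51 : Nat := (nat_lit 0x4c30043ac02752001df00a450021a8000430087c0021f1003a200963c00e0f0043f000a5c0205f0043f00a1a4006630010200a194025c70000300a3e0028f9000030081740205e000e30020a0023c2001a1009aec0281800424008ce0026b3000e2008dbc02718003bf00991002591000a300924c024d5001c100987c0229c00021008a6c026f7001df002cd8023e6000a30093a0028c5003010092c00224c001df00936c0200700081009728025b8002df009a6c02762001df009e8000f2b000210011c8021e60006100a6dc02820001df00a74402821001df001a6002379001df0092a0021c900003009744025d20006000874800605001c3008fc80244c000e10032c002583001df0091b000c7c000030088580263300160008b6c024ce001df008f8400b1b001df00914000123000c1008540022ae001df008a48000ba000bf00887c024ba001df008098000cc000e1008f5c0222e00020008d3c027b9001df009f1402021000830096b4026f6001df001170020a100084008a980266f000e20099e8025670014000955800c110004100a1c0028710004300938c024e500143008918024d600043008cf40233f000ff001b880236600021008820020a3)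
noncomputable def Tp52 : Nat := (nat_lit 0x300a22c0288c001df009458021a9000a000a668029900043f00a5800258f0043f0086dc020c90043f0090a0021af00101009bf4025c10015f009e6c028f8000030086d0021b5000e3008f080245300000008f24028180043f008c08026b3001df00808800208003bf002c2c0296b00163009d80028b50038100a5680274e00182009bdc0274e001c0008ae400b36000a10093a0028c60030300298c024b0001df00a3a00204f001df008a64001c600003009a680269b001df009e840287a000220087980257a001df00a6dc0266d001c30098b802821001df001ef402322001df008e000258c000600096dc025d100000008744025a6001df00913000b9c001df0093d802583001df00a24c02724000a400a3d0029da0017f0033f8024cc001df00a0b802658001df00915c00337000c0008abc02496001df009b9c00219000a30085780221f001df000870020180006000136c0222e0002300882c02370001df008d74020230000300808402023001c00008600045c000840099b002706001bf00a558028d00015f00a21c0105d0017f003c9c02872000800093fc024e30014000935800bfa0016100229002341000e2001b88006e200043002b6400c7c)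
noncomputable def Tp53 : Nat := (nat_lit 0x14400a230024ec001df008638025450000300a63c029900043f00a4dc027a500003009a300268d0043f00909c009770010000970c02720001410093e00279b000200095e002945000e000914c024490000200a060028260043f008ae40064f001df00836000577003a200964400b0b00161009d8002608000030095d80257700180009d38026fa0033f00a26c026750031f00964c028c60033f002f5c028d3001df00a2c00219e001df008778004d6002df0099ec0269a00024009e74027a1000210007f002090001c100a0800266d001df00a08402510001c0001a60007bd001c200872402380001df0087940036f00083009a4c025a5001df008c400051b001df0087140217c00063009c90029c3000a200a3d0029d6001610085ac00cfe00003008f84023e2001df00913c0081900083009af402711001df0092700059f000a30092e40264a001df0082b4000bb000e0008f2c0267200060008dc002350001df008348020d9000030080ac02100000e30081f0020a6000800099b002707000a3003e7c024b300141003d880105d00162003c9c00f2700082003e70027b500143002fe00112e000230022900216a00124002ba800e1e00061001810021d1)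
noncomputable def Tp54 : Nat := (nat_lit 0x1420093a40288c001c10086a40218e000a100a6040298f0043f00952400483000010089280268d000200025dc0255200003009c800272100023009e680279b000240095e002944000010084c402449001df008f54022b6000c0008494022a9001df008dbc00c33003bf001a88029650016200a134029dc0000300a56002959000a300987c028bf0033f0091e000b340031f009298025940033f003e90026a7001df00922402538001df00972800b2d002df009a440223e00100009e84010e1000e10095e8026b9001df0099b400490001df0098b802911000200013b00224f000010087240258b001df0097440088b001df009e54001940002100146c02252000030085ec0217c001df00a354029c3000030093cc024f4001610093bc0274400001008408023e2001c1008fc80081900064009af4029af001df009a08022ad0017f009d740264a001df008b840021b000440099c80237500003008d3c02350001df00883c0201f00060008400020dc00023008000000b300003008328020cb000a300a340028d600020002c6c02656000c4008584023d600081009ed4024fe000a40082f0021f700163008d04024c9000c100314800e87000a100295400ca1)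
noncomputable def Tp55 : Nat := (nat_lit 0x210022fc024e90043f0086380081500023009aac026ac0043f00a4d800a9900102009a340296f0043f001f1802552002df009c8000177001020091280279a0009f0095680293d00083001ad002335001df00a09802719001df000b10020e1001df009c60026ee003bf00962400dbd00020008870026450039f00342802958001df00926c022af0033f00219c026740031f00a2680215800320002f5c00fa4001c200867802489001df0096e002666000210088f8026780033f0098f4010e1001df00879800370001df00a08000745001df009f7c029d000021009a5402696001df0085680258b001df0096dc024ab001df008ca802064001df0082dc02252001df0010a80217b000010092cc028d50000300a3d0028f500161009d14024d80008300a0bc029ab0014400333c025bd00060009af4029b000000008294022b2001620034d00264a001df008e74005a3000e4008f2c027d80006100882c0234f0000000807c020ce00061008db8023e000023008050020150002100832c0234b000030085680215b0000300995802657000c4008f58024bf0008400938c027b500103008a8c021f700161003760024ca00000008418023e50014100187000caa)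
noncomputable def Tp56 : Nat := (nat_lit 0x14200a248024ea0043f00945400f3f001020096f0026ac0043f00a4e400a9a0023f00a5bc008b900021001f1802426002df00970c004060043f001aac021320008400a4f80255a00083008cd402337001df00a060022ef001df008aa4002c3001c4009c64026ee003bf0029880279900141009910027a5001a0009cfc0243300001008abc0271000321002cd0008670031f0091d8024a50002300890000b3b000030086740219e001c1002cb4025b8002df002f84026780033f002c100298b001df0095e80088e001df008f4000e71002bf0098b800ed700024009a4c02696001c10087240215a001df0029a4028cb001df0082fc021d0001df0089440026d001c3000e340042a001df009de8024b30007f00a3cc00fd50016100a1e4028b50008000a6ac02830001840096f40243f0000300980c0260400042008ac802710001df0085940013b001c3001c70005a300163009e38028140000100882402612001df0012b0020ce000c2009f80027d2000230080540209900042008d2c00df8000030092a0024aa0000300a78c029e4000c000a0fc028df0009f00378c024e5001020087dc0096b0016300891c02340000a1008f94022b800083001778022c9)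
noncomputable def Tp57 : Nat := (nat_lit 0x1df0093a8027530043f008f4c0287e002df009ab0004dd0043f0040f0025e0000000083280234c0043f00279802426002df008770009b40043f0091280028700160009dd00294600083009e8c027a7001df009aec026b0001df0084940071e003bf009ad0028d7003a00036f400a6200003009e94027a600120001b6002268001df008abc0246e0000000966c029700030000856002476000230099fc02680000000081400219d0031f0096c4025b8002df002ce4022630032100438400b04001df009ae4024ac001df009d5800e71002bf002bf4028590008300969402696001df008568001a1001c1003e7000a69000000082fc02328001df0014640278000021003abc0283a000a300a5580277e000610093d000fd5001df00a1e40212b0008100a0b8028010000300a5d4029760000300a6c8029b3001df008ac8020f9001df00853800376000430087b400a9400163009e3c0278e0006200302002612001df008d5c00af0001df009f80000ed0002300826802291000c10037e4024b8000a400a31c028d600043009b14026c6001230093400283f0009f0022e8027b3000e30087e0022880004100194802247000ff002c5c023dc00083008b2400cc5)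
noncomputable def Tp58 : Nat := (nat_lit 0x1c2003454024ea00424003cfc023d3002df0096f000b3a00421002a680103c000bf0093900234c0043f00a1a00041f002df0097180107c0043f009e68006aa00043008c2c027740010400951c027a7001c20089c8026b0001df0090bc023a2003bf0092d400bf400064003094026410016200a130027a600043009eec027bc001df008abc002480002200a5b8029700031f0004a8028c300001009380028eb0031f00814000078000230096c4010ca002c3002f8400b3900162002e900244300121008b94024c3001df0098e000745002a0003b5c00afd00003008ca002329001df0087240047300021002aa4025f1001df00969402328001c40009b400519000230080e00034c001bf009df8028d6000df0098dc02905001410015340212b001df008a44000ef001410096f802975000df00a2ec029b2001df009c4002142001df000da80215e0006200821c021ed00100009e3c028150004300302002273001df00366002627001df008a4c002a500023008a440229400043009d4802754000a400a340028c7000c2009b14028820012400a37c028e50008000378c008ba00001008a28026dd00162008cf402309000e4001d8000b17000a000331400c9c)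
noncomputable def Tp59 : Nat := (nat_lit 0x4df0043c0028ee000e4009cbc01093002df00a604026790002000956c02948000a20022e40234c0043f00a018009e4002df009b380294d0043f009e6c023320016400a5180277600104009e8c025470043f009ac0000f900041008e64023a2003bf002258026b1000630012f802219001df009e98029b4001bf009cf4027bb001df00854800616000030091cc024740033f00928c002f1000430085c8021730031f0086740015e0031f0096e4010ca000030082180208700161008b10024430012000868c024c5001df00a38c007460002100405402911001df009a5802329001df008e0000a800006400294002560001df009a4c020be0002100871402504000230084ec00848001a00092cc0277e000030098d802637001df00a2d40054d001df008ea8002a90014000a5d802982000c100980c028bb000230085080246b001df0092e40087f0002100079402087000810096b80281500064009898026be001c0002bc000d98001df0082980059100023009b98026ec000820084680087e001bf00a554028c7000e400a2080288600104009f74027e700043003c54024360002000309c026d500043008c240230b000430090340240f00043008b3c00cc8)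
noncomputable def Tp60 : Nat := (nat_lit 0x4df003f18029aa0002400424c02583002c100a63c0267900021001000021b60023f009a340234c0043f008eb4009e3002c30041f0026ce00044009ab4026dc0000300863c0219000023008398006fb0043f0089c8002c8001df009dac02399003a1002fd00089600163008ea40274a002bf009e980285b001a10037e00273d001df00926800d0c0000300a260028990033f00928800293000430085cc024e60031f008678003cc0031f0029bc029790000300896002259002df0011f4020a9000030085a0024c5001df009334002d7001c10040540262e000030085d002175001df001bbc025d5000620097c40107f001df0085d4008750002100811c0217c00063002ff00245b001df0035dc0277e000df00940402636001df00924c001f7001df000aa4020f00002000355402765000000087fc02603001df008ab40246b001df0099280088100062002a5002284001df00a0540003e0008400319c02273001df008268000ed001df00087402028000200080000201300020002b7002618001bf009f88024a8000030091640245a000a4008dec02526000230038280237700042009b54026dd0002100199402308000a3001b1002067000e4001828020fd)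
noncomputable def Tp61 : Nat := (nat_lit 0x4c10043c000fc6000e400960c0272f0043f0086ac021f00002200a520029490023f009a30020c90043f001d0c02572001df009464026cf0011f009e70026ad0000300945c025180043f008e200028c0043f001568020f2001df008c04020eb000010094c00292400163009900023a9002a2009064027a6001a4009cf4028ba001df00a2fc0274e0023f00a264025950033f0092d8006c20004300939c028ec0031f009224009420030100432800a6f00080002d4c02258002df0082a0001a40012400868c024c7001df0085ac0074c002bf0040540285a001610085d002329001c1002a00006ef0004300866402524001df0082f80247f001df0094100204700061002ff00245c001df008c4400669000df00a76002904001df00853c00366001df0083b80059b00161009d9402739000df00a118029ae001df008ab400249001df0034d002492001df0002cc02001001df009e3c000b800101008e8c026be001df008a50000b9001c00016440021d00064008e38026ec00103001f9802326001bf008e00028c80000300a2080288300101009f9c0252600023009f64027db00003009b54026d600003008c1c0230800142008788023b3001410083f4022d0)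
noncomputable def Tp62 : Nat := (nat_lit 0x4e400a3e80285f001df009cbc024d70010300255002387000030090200240900223008924020c90042200278c00743001c40089f00251900101008cc8026ad0008300864c0251e0043f008398006b400420000b200055a001df00193c02398000200024f40252f00164009b4402803002bf009e98027de001a100a2e80273f001c300987c0274e0023f00a2600296e0033f002264023480004300a3b0028ed0031f0021e402536000200029f4025d30008400896000b58002df008b100047c0000300852002149001df000dfc023b4002a1003b5c01015001df009a540217400021001178021d40004300949002527001c00021d4020be001df0086040038f00023008fbc00eaf001df0082e00026e000c400a76402904001df0085e400134001df008e9000c630016100a5d8011c6000c100980002846001df0089080024a001c200220400d34001df00013c02000001df009e380021500101009ee0023a7001df009bb00021700043008134003c800064009b980238e0010400985c02793001a20092a002380000e400a2180288300083003880027e7000bf0090d8027d9000a2003398026d6000a1008c300257e001410087880240f0015f008b3c00611)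
noncomputable def Tp63 : Nat := (nat_lit 0x8300938400fd1001c300424c024d700100008e1c021ab0000300a13c028500043f0026b0022490000300a288028a30043f0094640030a0043f0093e0026ad000830094780251f0043f001bec023350039f008bb80256d001c10083ac0064f0043f008ce0026b4001df00a00c02235002a200383c027a6001df009258006140002100314c027010022200a5c00289800321001b0800899000430022d0021710030000250800879000030095e40257a00084002d6002259002df00910c00a8f00021000d9c02149001df00a028006bf00003009e440279200160008bd0021740000300874c021d40006000949c0251d001df00893800875001df000e800217d00020008424023ef001c00009b80026e001600085d4020be001df00811800364001df00a0040270b0018100a1cc0288500003008db40236e00021000928020af00083008a64023df001df00804c000eb001df008c680059700003008e9c023a8001df008b2c0059a00043000f2002198000430083b8020f000104009e4c029c400021000dc00215b0000300a258028970013f0022bc027e9000a100382802436000e4008c7c00ce6000a3008c300257d0015f0090380093a0014100178400611)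
noncomputable def T : Tr := (Tr.node (Tr.node (Tr.node (Tr.node (Tr.node (Tr.node (Tr.leaf Tp0) (Tr.leaf Tp32)) (Tr.node (Tr.leaf Tp16) (Tr.leaf Tp48))) (Tr.node (Tr.node (Tr.leaf Tp8) (Tr.leaf Tp40)) (Tr.node (Tr.leaf Tp24) (Tr.leaf Tp56)))) (Tr.node (Tr.node (Tr.node (Tr.leaf Tp4) (Tr.leaf Tp36)) (Tr.node (Tr.leaf Tp20) (Tr.leaf Tp52))) (Tr.node (Tr.node (Tr.leaf Tp12) (Tr.leaf Tp44)) (Tr.node (Tr.leaf Tp28) (Tr.leaf Tp60))))) (Tr.node (Tr.node (Tr.node (Tr.node (Tr.leaf Tp2) (Tr.leaf Tp34)) (Tr.node (Tr.leaf Tp18) (Tr.leaf Tp50))) (Tr.node (Tr.node (Tr.leaf Tp10) (Tr.leaf Tp42)) (Tr.node (Tr.leaf Tp26) (Tr.leaf Tp58)))) (Tr.node (Tr.node (Tr.node (Tr.leaf Tp6) (Tr.leaf Tp38)) (Tr.node (Tr.leaf Tp22) (Tr.leaf Tp54))) (Tr.node (Tr.node (Tr.leaf Tp14) (Tr.leaf Tp46)) (Tr.node (Tr.leaf Tp30) (Tr.leaf Tp62)))))) (Tr.node (Tr.node (Tr.node (Tr.node (Tr.node (Tr.leaf Tp1) (Tr.leaf Tp33)) (Tr.node (Tr.leaf Tp17) (Tr.leaf Tp49))) (Tr.node (Tr.node (Tr.leaf Tp9) (Tr.leaf Tp41))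 (Tr.node (Tr.leaf Tp25) (Tr.leaf Tp57)))) (Tr.node (Tr.node (Tr.node (Tr.leaf Tp5) (Tr.leaf Tp37)) (Tr.node (Tr.leaf Tp21) (Tr.leaf Tp53))) (Tr.node (Tr.node (Tr.leaf Tp13) (Tr.leaf Tp45)) (Tr.node (Tr.leaf Tp29) (Tr.leaf Tp61))))) (Tr.node (Tr.node (Tr.node (Tr.node (Tr.leaf Tp3) (Tr.leaf Tp35)) (Tr.node (Tr.leaf Tp19) (Tr.leaf Tp51))) (Tr.node (Tr.node (Tr.leaf Tp11) (Tr.leaf Tp43)) (Tr.node (Tr.leaf Tp27) (Tr.leaf Tp59)))) (Tr.node (Tr.node (Tr.node (Tr.leaf Tp7) (Tr.leaf Tp39)) (Tr.node (Tr.leaf Tp23) (Tr.leaf Tp55))) (Tr.node (Tr.node (Tr.leaf Tp15) (Tr.leaf Tp47)) (Tr.node (Tr.leaf Tp31) (Tr.leaf Tp63)))))))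
noncomputable def DTp0 : Nat := (nat_lit 0x10000000261300003000000025b6000040000000255500002000000024fe000000000000249f000000000000245100003000000023f400003000000023a30000200000000dfb000030000000231400004000000022da00001000000022a400001000000022750000000000000b3b000020000000221900002000000021fc0000200000000a7500004000000021c2000010000000094700000000000008d90000000000002162000020000000087500001000000007fb0000000000002113000040000000075500001000000006ef00001000000006be000030000000064e00000000000005cc000020000000057000004000000004de0000300000002070000000000000041f0000100000002048000010000000034f0000300000002029000030000000201b000000000000200f0000000000000138000040000000003c)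
noncomputable def DTp1 : Nat := (nat_lit 0x261500000000000025bc00001000000025560000000000000fdc000030000000249f000020000000245100000000000023f500000000000023a40000300000002354000020000000231500003000000022da0000300000000c5100000000000022760000400000002242000010000000221a00003000000021fd00004000000021da00003000000021c200001000000021a5000020000000217f00002000000021630000000000002149000000000000212c0000200000002113000030000000075500004000000006ef00002000000006bf000010000000064f00004000000005cd000020000000057400002000000004df0000100000002071000020000000206100002000000003a0000020000000034f000000000000202a0000200000000285000020000000200f0000000000002006000040000000004f)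
noncomputable def DTp2 : Nat := (nat_lit 0x261600004000000025be0000200000002556000010000000250000004000000024a0000010000000245900003000000023f600004000000023a6000010000000235800001000000023160000100000000d000000000000000c540000100000000c100000300000002242000010000000221b00000000000021fe00003000000021da00001000000021c300002000000021a6000030000000217f00001000000021640000200000002149000030000000212c0000300000002113000000000000075600003000000006ef00000000000006c0000020000000064f00003000000005cd000040000000057400001000000020830000100000000499000020000000042500003000000003a00000000000002039000030000000202a0000100000000289000030000000200f0000400000002006000030000000004f)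
noncomputable def DTp3 : Nat := (nat_lit 0x30000000261600003000000025c400000000000025570000400000000fe200003000000024a1000000000000245a00004000000023fb00002000000023a7000020000000235b0000400000000d8f0000400000000d000000300000000c540000300000000c1100001000000022430000000000000b0b00004000000021fe00003000000021db00002000000021c500002000000021a700004000000008de0000000000002166000010000000087700000000000007ff000000000000211400000000000020f700002000000006f000001000000006c0000000000000065000002000000005d3000000000000209400004000000020830000100000002072000020000000042700001000000003a2000010000000203a000020000000202b000000000000028a00000000000001ca00003000000020060000400000000058)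
noncomputable def DTp4 : Nat := (nat_lit 0x40000000261700003000000025c80000100000002559000000000000250100001000000024a4000040000000245d00001000000023fd00000000000023a8000040000000235d000010000000231700004000000022de00001000000022a50000400000000c1200000000000022440000200000000b0b00003000000021fe0000100000000a780000400000000a1d00002000000021a80000400000002181000020000000216600003000000008770000200000000802000040000000211400002000000020f700002000000006f200004000000006c0000030000000065000000000000020a8000030000000209400003000000020830000400000002072000000000000042800002000000003af000040000000203a000000000000202c000000000000201c00003000000001ca000020000000013f0000300000000058)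
noncomputable def DTp5 : Nat := (nat_lit 0x10000000261d00002000000025cc0000400000002559000040000000250100000000000024a6000000000000245e00004000000023fd00001000000023ac000030000000235d000020000000231700002000000022df00004000000022a60000100000000c130000400000000b3e0000400000000b0b00001000000021ff0000200000000a7800002000000021c600001000000021a900002000000021820000300000002166000000000000214a0000400000000802000030000000211400004000000020f700002000000006f300003000000006c0000010000000065800003000000020a8000010000000209500001000000004e10000300000002072000040000000042a0000000000002049000030000000035a000010000000202c000020000000028f00003000000001e30000200000000144000000000000006a)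
noncomputable def DTp6 : Nat := (nat_lit 0x261e00001000000025cf000010000000255a000000000000250200003000000024a6000010000000246000000000000023fe00004000000023ad000030000000235f00003000000023180000300000000d010000100000000c610000000000000c140000300000002247000010000000221c000000000000220000000000000021dc0000200000000a2100002000000021a900000000000021830000100000002167000040000000214a000010000000080d000020000000211500003000000020f700004000000006f300004000000020c6000040000000065e00003000000005d500002000000020950000000000002084000010000000049f00003000000020620000100000002049000040000000035e000040000000202c000010000000029200004000000020100000300000000144000020000000006c)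
noncomputable def DTp7 : Nat := (nat_lit 0x10000000261f00004000000025cf00000000000010710000000000000ff500000000000024a80000100000000f620000100000000eb900004000000023af00002000000023620000000000000d9e0000200000000d030000400000000c610000200000000c140000400000000b41000020000000221c00002000000022000000100000000a7b00002000000021c700000000000021aa00002000000021830000100000002168000030000000214a000030000000212e000020000000211600000000000020f800001000000020e500001000000020c7000040000000066200002000000020a9000000000000209600002000000020840000000000002073000010000000043d0000400000002049000040000000036100002000000002ea0000400000000292000030000000201000003000000001450000200000000077)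
noncomputable def DTp8 : Nat := (nat_lit 0x110e00004000000025d000004000000010710000100000000ff500002000000024a800002000000024620000400000000eb900002000000023b100003000000023640000300000000d9e00001000000022e100002000000022a800001000000022770000100000002248000000000000221d000020000000220100000000000021dd00003000000021c70000000000000954000030000000090900000000000021690000100000000878000010000000212f000040000000211700001000000020f800001000000020e600001000000006c2000030000000066200001000000020aa000010000000209600002000000004e20000200000002073000000000000044b0000300000002049000040000000036400002000000002ef000040000000029300004000000001e4000040000000014b0000200000000079)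
noncomputable def DTp9 : Nat := (nat_lit 0x262000000000000025d7000030000000255c000000000000250700003000000024a800003000000024620000300000000eb900003000000023b20000100000000e04000010000000231900004000000022e10000000000000c6200001000000022780000400000002248000010000000221e000000000000220200003000000021dd0000100000000a3800001000000021ab0000100000002184000000000000216a00000000000008790000300000002130000030000000211700004000000020f800002000000020e700001000000020c8000010000000066400000000000005dd000040000000209600000000000004e30000300000002073000030000000044b00001000000003b7000030000000036400004000000002f0000010000000029700004000000020110000200000000152000020000000007d)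
noncomputable def DTp10 : Nat := (nat_lit 0x30000000262000003000000025d7000030000000255e000010000000250700004000000024a90000100000000f630000100000000eba00003000000023b400001000000023670000100000000da700001000000022e20000400000000c6200004000000022780000200000000b42000000000000221f000030000000220200000000000021de0000000000000a3900000000000021ac0000400000002184000020000000216a000010000000214b0000300000002132000000000000211800003000000020f800000000000006fd00002000000006c3000020000000066400002000000005dd000030000000209600003000000004e300001000000004a2000000000000044f00004000000003b7000010000000036500003000000002f0000040000000029700001000000001ef0000000000000156000000000000008a)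
noncomputable def DTp11 : Nat := (nat_lit 0x40000000262300003000000025d8000010000000255f000020000000250800003000000024ab0000400000000f6300000000000023ff00001000000023b500004000000023670000400000000da70000100000000d0a0000000000000c63000010000000227900002000000022490000000000002222000040000000220300003000000021df00003000000021c800004000000021ad000040000000218600004000000008a6000000000000214d0000100000000819000030000000211800001000000020f900002000000006fd00003000000006c8000000000000066500004000000020ab000010000000209700002000000004e40000000000002074000040000000044f00002000000003b80000200000000366000000000000202e000030000000029700004000000001f200004000000001560000000000000092)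
noncomputable def DTp12 : Nat := (nat_lit 0x40000000262900001000000025da000000000000107a000020000000250b00000000000024ac0000300000000f63000010000000240100000000000023b700003000000023670000100000000daa00003000000022e800003000000022aa0000300000000c1e00004000000022490000300000002222000030000000220300004000000021e000002000000021c9000030000000095c0000300000002186000010000000216b000020000000214d000000000000081a000020000000079900002000000020f900003000000006fd00004000000020c9000020000000066500003000000020ab000040000000209700004000000004e50000100000002074000010000000045000004000000003b80000400000000368000030000000202e000020000000029e00003000000001f200003000000001560000400000000093)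
noncomputable def DTp13 : Nat := (nat_lit 0x10000000262a00003000000025e1000040000000107c000020000000250c00003000000024ac0000100000002464000040000000240100003000000023b70000100000000e050000400000000daa0000100000000d0c00001000000022ab0000100000000c1f00003000000022490000300000002223000010000000220400000000000021e10000200000000a3c000040000000095f0000200000002187000020000000216b000040000000087c000010000000081d000010000000079d00000000000020fa00004000000020e800003000000020c9000020000000066600000000000005e0000000000000209800003000000004e500004000000004ab000040000000206300002000000003b90000300000000368000010000000202f000020000000201d00000000000001f5000010000000015b0000000000000098)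
noncomputable def DTp14 : Nat := (nat_lit 0x262b00001000000025e20000300000002561000030000000250d00000000000024ad0000100000002465000030000000240300004000000023ba0000000000002368000020000000231a0000300000000d0c00002000000022ab000020000000227c0000000000000b430000000000002224000000000000220500004000000021e10000300000000a3c000030000000095f000040000000090f000040000000216b000010000000214e000000000000081e000020000000079d0000100000000757000000000000070700001000000020ca000000000000066b00003000000005e0000010000000209800002000000004e90000000000002075000010000000045400002000000003ba000040000000036900000000000002f1000040000000201d00001000000020120000000000002007000030000000009b)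
noncomputable def DTp15 : Nat := (nat_lit 0x10000000262e00004000000025e40000400000002562000000000000100c00001000000024af0000000000002466000010000000240800003000000023ba0000300000002369000020000000231c0000100000000d1300001000000022ad000030000000227c0000300000000b450000100000002225000030000000220600002000000021e30000000000000a3d0000100000000966000030000000090f00000000000008ad000000000000087e0000000000002133000000000000079e0000400000000757000030000000070700004000000006d5000040000000066b00001000000005e1000040000000209800004000000004eb00004000000020750000000000000457000040000000204a000000000000203b00002000000002f1000030000000201d00004000000020120000100000002007000010000000009d)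
noncomputable def DTp16 : Nat := (nat_lit 0x20000000262e00003000000025e40000300000002565000000000000250f0000100000000f9f000030000000246900000000000024090000000000000e7d000010000000236a00002000000023200000400000000d1300003000000022ad0000300000000c24000010000000224c0000000000000b120000200000000ad400002000000021e40000100000000a3d000020000000096d000000000000091a00002000000008ad000020000000087f000030000000213300003000000007a00000300000000758000000000000070800003000000006d500001000000020b700002000000005e20000300000002098000000000000050000003000000020750000100000002064000030000000204a000020000000203b00003000000002f5000000000000201e0000300000002012000040000000200700000000000000a7)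
noncomputable def DTp17 : Nat := (nat_lit 0x40000000262e00004000000025e5000010000000256a000030000000251000001000000024b0000010000000246a000040000000240a0000400000000e7d000040000000236c00004000000023220000300000000d130000000000000c670000100000000c25000020000000224c0000100000002226000010000000220700001000000021e50000300000000a3d00000000000021ae000010000000091a00003000000008ad0000400000000880000010000000082000001000000007a10000100000000759000040000000070800001000000020cc00001000000020b800004000000005e30000000000002099000040000000051900002000000004ad0000400000002064000010000000204b000030000000203b00004000000002f6000010000000201f00000000000001fb000030000000200700001000000000aa)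
noncomputable def DTp18 : Nat := (nat_lit 0x30000000262f00004000000010eb000040000000256a000040000000251100003000000024b0000040000000246a000030000000240a00001000000023c0000030000000236c00003000000023220000100000000d1500001000000022b1000030000000227f000000000000224d0000400000002226000030000000220700000000000021e60000200000000a3e00004000000021ae000040000000091a00004000000008ae000020000000088100004000000008200000400000002119000000000000075a000030000000070800004000000020cc00003000000020b900003000000005e3000000000000209a000030000000051900002000000020760000300000002064000000000000204c000010000000036c00003000000002f6000020000000201f0000200000000201000020000000015e00000000000000af)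
noncomputable def DTp19 : Nat := (nat_lit 0x263000003000000010eb000030000000256a00003000000025150000000000000fa4000000000000246c000000000000241000000000000023c1000010000000236d00001000000023270000200000000d1500004000000022b10000000000002280000000000000224e0000300000002226000000000000220900004000000021e700004000000021ca00003000000021ae000010000000091c00003000000008ae000010000000214f0000300000000828000040000000211a000020000000075a000000000000070c00002000000006db00000000000020ba00004000000005e6000020000000209a000030000000051e0000400000002076000040000000206500001000000003c2000030000000036c000010000000203000000000000020200000200000000203000040000000016000004000000000b2)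
noncomputable def DTp20 : Nat := (nat_lit 0x30000000263000004000000025e7000030000000256c00003000000025160000300000000fa5000030000000246c000020000000241000001000000023c4000000000000236e00000000000023290000000000000d1600001000000022b20000400000002280000040000000224e0000000000002227000000000000220a00001000000021e800003000000021ca0000000000000986000020000000091c00002000000008af000020000000214f0000100000002136000010000000211b00001000000020fb000010000000070f00000000000020cd00002000000020ba00002000000005e7000030000000209a000000000000051f0000100000002077000030000000206500002000000003c3000010000000036d00002000000020300000200000002020000010000000201300003000000001600000100000002000)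
noncomputable def DTp21 : Nat := (nat_lit 0x20000000263300003000000025e7000010000000256f000000000000251700003000000024b10000100000002470000030000000241100004000000023c4000020000000236f000020000000232a0000200000000d1600000000000022b30000400000000c26000030000000224e0000200000002227000030000000220a0000100000000a800000000000000a420000100000000986000000000000218e000000000000216c00000000000021500000100000002137000000000000211c00000000000020fc000020000000071100004000000020cd000010000000067600001000000005ea000030000000057a00001000000005200000200000002077000000000000045c00001000000003c5000010000000203d000000000000203100001000000002a10000000000000207000010000000200800000000000000b3)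
noncomputable def DTp22 : Nat := (nat_lit 0x30000000263400002000000010ec0000000000002570000030000000251700000000000024b30000400000002471000010000000241200002000000023c50000000000002371000010000000232c00003000000022ec00000000000022b40000300000000c26000020000000224f00004000000022280000100000000ad900000000000021e90000100000000a420000400000000986000010000000218e000020000000216c00004000000021500000200000002137000040000000211d00001000000020fc00003000000020e900003000000020cd000000000000067700002000000005f3000020000000057e00000000000020850000000000002078000010000000045d00000000000003c6000040000000203d000010000000203200000000000020210000200000000207000040000000200800003000000000b5)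
noncomputable def DTp23 : Nat := (nat_lit 0x20000000263500004000000010ec0000400000002575000010000000251800000000000024b50000300000002471000010000000241300003000000023c70000300000002371000040000000232c00001000000022ed00003000000022b500000000000022810000200000000b5800003000000022280000200000000ada00001000000021ea0000400000000a420000300000000986000010000000218f00001000000008b100003000000021500000000000002139000030000000211d00004000000020fc000020000000071500001000000020ce000040000000068500003000000005f3000040000000057e00002000000020850000200000002078000020000000045e000000000000204d000030000000203d000010000000203300002000000020210000000000002014000030000000200800001000000000c3)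
noncomputable def DTp24 : Nat := (nat_lit 0x40000000263500000000000025ea000010000000257600002000000025180000400000000fae0000100000002473000030000000241800004000000023c800001000000023750000300000000dba00002000000022ed00004000000022b60000100000000c3100001000000022500000200000000b1b0000400000000ada0000000000000a8f00001000000021cb00002000000021b3000000000000219000004000000008b10000200000002151000010000000083f00000000000007ac00003000000020fc00001000000020eb00002000000020ce000000000000068d00000000000005f9000030000000057e000010000000208600004000000004bb0000000000000465000030000000204d000010000000203e00001000000002f900000000000020220000200000002014000030000000016300003000000000ca)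
noncomputable def DTp25 : Nat := (nat_lit 0x30000000263500001000000025eb0000000000002577000030000000251a00001000000024b700000000000024740000000000000ed700003000000023c80000100000000e0a0000000000000dbd00002000000022ee00003000000022b60000400000000c31000020000000225000001000000022290000100000000adc0000200000000a8f0000000000000a4400002000000021b40000200000002190000030000000216d0000000000002152000040000000213a00003000000007ac000020000000075d00003000000020eb00000000000020cf000020000000068e00001000000005fc000000000000209e000000000000208700003000000004bd000010000000206600001000000003c8000000000000203f00002000000002fe00001000000020230000300000002014000040000000016900000000000000cc)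
noncomputable def DTp26 : Nat := (nat_lit 0x10000000263900003000000025ec0000200000002577000020000000102200004000000024b700004000000024750000100000000ed700001000000023cc0000200000000e0a0000100000000dc40000400000000d2500000000000022b700000000000022840000400000002250000020000000222a0000000000000add00002000000021ec0000100000000a4400002000000021b50000200000002191000000000000216e0000200000002152000030000000213a00001000000007ad000040000000075f00000000000020ec00002000000020cf000040000000069400001000000006020000100000000580000040000000052100002000000004be000020000000046a00001000000003cb0000400000002040000010000000030300002000000020230000100000002015000030000000016900001000000000db)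
noncomputable def DTp27 : Nat := (nat_lit 0x263d00003000000025ed0000100000002579000000000000251f00003000000024b70000200000002477000020000000241900004000000023cc000000000000237700000000000023310000300000000d2500003000000022b7000020000000228500003000000022500000100000000b22000000000000220c00000000000021ed0000400000000a4400004000000009a80000300000002191000040000000216e0000400000002152000000000000213b000000000000211e000020000000076000004000000020ec00003000000020d0000030000000069400003000000006090000300000000580000000000000052d00004000000004bf000000000000046c00004000000003cb0000300000002040000040000000030300000000000020240000100000000208000000000000200900002000000000e0)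
noncomputable def DTp28 : Nat := (nat_lit 0x30000000264300004000000025ee000000000000257a000030000000252000000000000024b90000100000002479000010000000241c00003000000023cc0000300000000e0b000010000000233200002000000022f100002000000022b900001000000022860000300000000b800000200000000b250000200000000ae100003000000021ed0000100000000a4500000000000009aa0000100000002192000030000000216e0000300000002152000030000000213b00002000000007b3000030000000076000003000000020ec00003000000020d100001000000020bb000000000000060a0000200000000581000000000000053200004000000004c0000030000000046c000030000000204e0000000000000371000030000000030300004000000020240000400000000208000010000000200900002000000000e3)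
noncomputable def DTp29 : Nat := (nat_lit 0x40000000264400001000000025ef000010000000257b000010000000102500003000000024b9000000000000247a0000300000000ee600002000000023cd000000000000237b00000000000023330000200000000d340000000000000c7300003000000022870000100000000b820000100000000b260000400000000ae10000100000000a940000000000000a4800002000000009ac0000300000000928000020000000216f0000200000002153000010000000213c000000000000212000002000000020fe000040000000071c00001000000020d2000000000000069500000000000020ac0000000000000582000010000000208900003000000004c0000020000000046e000040000000204f000020000000037300000000000003040000300000002024000040000000020a000040000000200900001000000000eb)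
noncomputable def DTp30 : Nat := (nat_lit 0x30000000264400000000000025f0000030000000257c00000000000010290000100000000fb1000040000000247b0000100000000ee700000000000023ce0000200000000e0f000010000000233300004000000022f30000300000000c7300002000000022890000100000002251000030000000222f0000300000000ae100004000000021ee0000400000000a4800001000000021b80000000000000929000010000000217000004000000021540000100000000849000030000000212000000000000020ff000030000000071c00004000000020d2000020000000069500002000000020ac0000100000000582000010000000053c00000000000004c1000030000000046e000030000000204f0000000000000376000030000000030400003000000002a5000030000000020a000030000000200900002000000000eb)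
noncomputable def DTp31 : Nat := (nat_lit 0x20000000264500001000000025f2000030000000257f000010000000252200001000000024bf000030000000247b0000200000000ee700002000000023cf0000400000000e0f000040000000233300003000000022f300000000000022ba000010000000228c00000000000022520000100000000b280000000000000ae400003000000021ee0000300000000a4800004000000009b1000030000000219300000000000008b40000100000000885000000000000084a00001000000007b700003000000020ff000000000000071d00001000000020d300001000000020bc000030000000060c0000300000000582000000000000053d00001000000004c1000010000000046f00001000000020500000400000000376000000000000203400003000000002a6000030000000020d000030000000017400004000000000eb)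
noncomputable def DTp32 : Nat := (nat_lit 0x10000000264700004000000025f3000000000000258100000000000025230000400000000fb4000040000000247c000000000000242000002000000023d0000030000000237d000030000000233300000000000022f600004000000022ba000000000000228e0000200000000b9d0000100000000b290000200000000ae60000300000000a980000100000000a4900002000000009ba000010000000092e00003000000008b40000200000000885000020000000084a00003000000007b80000200000002100000010000000071d00002000000020d300004000000020bd0000300000000611000020000000209f000040000000208a00004000000004c1000000000000047000002000000020500000300000000376000010000000030700000000000002a70000000000000213000020000000017a00003000000000eb)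
noncomputable def DTp33 : Nat := (nat_lit 0x40000000264700003000000025f30000400000002582000020000000252600002000000024c0000000000000247d0000300000000ee900000000000023d1000010000000237e00002000000023340000100000000d4d00003000000022ba000020000000228e0000400000000b9d00001000000022310000100000000ae700000000000021ef00001000000021cd00000000000009bf000000000000219500001000000008b60000000000002155000030000000084a00003000000007bd0000400000002101000030000000071d00001000000020d400003000000020bd00000000000020ad0000100000000588000030000000208a0000000000002079000010000000047000000000000020510000200000000378000040000000030900000000000002a9000000000000021800001000000001800000100000002001)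
noncomputable def DTp34 : Nat := (nat_lit 0x10000000265400000000000025f40000200000001093000010000000252900003000000024c6000040000000247d000000000000242200002000000023d100002000000023800000200000000dcc0000000000000d4e00004000000022bc000030000000228e0000000000000ba000003000000022320000100000000ae800004000000021ef0000100000000a5200002000000009bf000040000000219700002000000008b70000400000002155000010000000084b00001000000007be0000300000002101000020000000071e00004000000020d4000000000000069800004000000020ad00002000000005890000100000000542000010000000207a000040000000047000000000000003cd0000100000000379000030000000030d00002000000002a9000000000000021900002000000001890000200000002001)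
noncomputable def DTp35 : Nat := (nat_lit 0x10000000265600004000000010ef0000400000002585000000000000252a00001000000024cd000030000000247d00004000000024220000300000000e810000100000000e16000010000000233500001000000022f700003000000022bc000010000000228f0000200000000ba10000100000002233000020000000220e00003000000021ef00001000000021cf00003000000009bf000030000000219700001000000008b90000300000002155000000000000213d00000000000007c0000020000000210200000000000020ee00003000000020d4000040000000069800003000000020ad000010000000058a0000300000000543000000000000207b000030000000047000001000000020520000100000002041000000000000031000002000000002ac0000300000000219000020000000200a0000000000002002)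
noncomputable def DTp36 : Nat := (nat_lit 0x265700001000000025f50000400000002586000030000000252d00000000000024d0000010000000247e0000100000000eec00002000000023d2000010000000238300002000000023360000000000000d530000000000000c7c000020000000228f0000200000000ba40000400000002233000040000000220e00000000000021f00000400000000a5400001000000009c3000000000000219800002000000008b90000200000002157000020000000084c00001000000007c2000010000000210300002000000020ee00001000000006e1000030000000069800001000000020ae000040000000058a000010000000208b000030000000207b000010000000206800001000000020530000400000002041000010000000031200003000000002ac000010000000021c00002000000001940000200000002002)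
noncomputable def DTp37 : Nat := (nat_lit 0x4000000025f50000200000002589000010000000102d00001000000024d00000000000000f85000040000000242300004000000023d300004000000023830000400000000dcf00004000000022f800001000000022c100000000000022900000200000000bbf0000300000002233000030000000220e0000100000000a9f00000000000021d000000000000009c4000020000000219800000000000008ba0000000000002158000040000000084c0000000000002122000040000000210500003000000020ee00002000000006e1000020000000069900002000000020ae0000400000000593000000000000208c00004000000004c6000040000000206800000000000020540000300000002041000010000000031d00002000000002ae000040000000021c000000000000019700003000000000ee)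
noncomputable def DTp38 : Nat := (nat_lit 0x3000000025f5000040000000258d000010000000253700001000000024d60000400000000f86000000000000242400003000000023d50000100000000e1c0000300000000dcf00001000000022fc00002000000022c10000100000002291000030000000225d0000100000000b2d000010000000220f0000400000000a9f00004000000021d000001000000009c4000040000000093500003000000021720000200000002158000030000000084c0000300000002123000030000000210500001000000020ef00002000000006e2000000000000069d00000000000020af0000000000000599000010000000208d000000000000207c000030000000206800000000000020550000100000002042000040000000031d00004000000002af000000000000021d000020000000019a0000000000000102)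
noncomputable def DTp39 : Nat := (nat_lit 0x1000000025f6000020000000258e00001000000025390000300000000fbd0000100000002481000030000000242400000000000023d60000000000000e1f000000000000233700000000000022fd00000000000022c200001000000022920000000000000bd70000200000000b2d0000000000000af00000200000000aa10000300000000a5800004000000009c4000030000000219900001000000021730000300000002158000010000000213e00000000000007c6000010000000210600004000000020ef00000000000006e3000020000000069d00003000000006140000400000000599000020000000208d000030000000207c000010000000047100003000000020550000200000002042000000000000031f00003000000002b00000000000000220000010000000019c0000400000000102)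
noncomputable def DTp40 : Nat := (nat_lit 0x2000000025f6000020000000258f000010000000253a00001000000024db0000000000002482000020000000242600001000000023da0000200000000e1f0000300000000dd000004000000022fe00004000000022c30000300000002292000020000000225e0000200000000b2e0000300000000af00000300000000aa10000000000000a5d00003000000009c400000000000009380000200000002173000010000000215a000020000000213e0000300000002124000020000000210600003000000020ef00003000000006e300004000000020be00001000000020b00000300000000599000010000000054e00001000000004ca000000000000047200001000000020560000000000002043000020000000032000002000000002b1000010000000023000000000000001a00000300000000102)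
noncomputable def DTp41 : Nat := (nat_lit 0x25f7000030000000258f000000000000253c00002000000024dc0000100000002485000000000000242800001000000023dd0000200000000e20000000000000233800003000000022fe0000100000000cb80000100000002293000030000000225e0000200000000b2f0000100000000af10000400000000aa20000100000000a5d00000000000009c5000040000000093800003000000008bc000020000000215a000000000000214000004000000007cc000000000000210700001000000020f000001000000020d600003000000020be0000000000000616000010000000059b000010000000055900002000000004cb000030000000047300000000000020570000200000002043000040000000032400000000000002bd000000000000023100001000000001a40000100000002003)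
noncomputable def DTp42 : Nat := (nat_lit 0x1000000010f00000200000002590000040000000253d00003000000024de0000300000002485000030000000242c00001000000023de0000100000000e21000030000000233800000000000023010000200000000cb80000400000002293000010000000225f00004000000022350000400000000af100001000000021f20000400000000a5d00000000000009c7000030000000093800003000000008bd000000000000215b000020000000214000004000000007d3000010000000210700002000000020f000004000000020d600001000000020bf0000000000000617000000000000059c000020000000208e000010000000207d00004000000004740000200000002057000030000000037a000030000000032400000000000002c00000400000002017000010000000200b0000200000002003)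
noncomputable def DTp43 : Nat := (nat_lit 0x1000000025fa0000200000002591000030000000253d00003000000024df0000200000002486000010000000242d00004000000023de0000200000002388000000000000233a000030000000230100000000000022c600003000000022930000100000000be100004000000022360000300000000af10000000000000aa30000300000000a5d00004000000009c7000010000000093900001000000008be000000000000088b000030000000214000003000000007d30000300000002107000000000000072200000000000020d700000000000020c00000200000000619000040000000059c000040000000208e000000000000207e000040000000206900004000000003d6000000000000037f000020000000032600002000000002c00000000000000236000020000000200b0000000000002004)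
noncomputable def DTp44 : Nat := (nat_lit 0x25fb0000100000002593000020000000254100000000000024e60000200000002487000040000000243100003000000023de0000400000002389000030000000233b000040000000230200002000000022c600000000000022940000000000002263000020000000223700001000000022110000100000000aa600002000000021d300001000000009c8000000000000093a00001000000008c1000010000000088e000010000000214100000000000007d40000400000002108000020000000072400001000000020d700002000000020c000001000000020b1000030000000059c000030000000208e000010000000207e000030000000206900003000000003d60000100000000382000020000000032700001000000002c10000300000000244000040000000200b0000200000002004)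
noncomputable def DTp45 : Nat := (nat_lit 0x2000000025fc0000200000002594000010000000254200003000000024e700000000000024880000000000000f2100000000000023df000040000000238b0000000000000dd2000010000000230300003000000022c8000020000000229400002000000022640000400000002237000030000000221100000000000021f300001000000021d500002000000009c8000000000000093b00000000000008c2000030000000088e000030000000214100002000000007d50000300000002108000020000000074300004000000020d700004000000006a000004000000020b1000000000000059f000010000000208f000040000000207e000010000000047d00001000000003d70000000000002044000030000000032800004000000002c10000200000002018000030000000200b0000200000000108)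
noncomputable def DTp46 : Nat := (nat_lit 0x100000002600000030000000259500004000000025420000100000000fc60000200000002488000010000000243d00002000000023e10000000000000e240000100000000dd700002000000023030000100000000cbe0000200000000c33000000000000226600001000000022380000000000000afd00001000000021f300002000000021d500000000000009c9000020000000093b00003000000008c2000030000000215c000010000000214200002000000007d60000000000000785000000000000074400003000000020d700003000000006a000000000000020b2000040000000059f000000000000209000002000000004d1000010000000048000001000000003e60000100000002044000010000000033100001000000002c3000040000000024700004000000001ac0000100000000109)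
noncomputable def DTp47 : Nat := (nat_lit 0x1000000026020000000000002598000030000000254300000000000024eb0000300000002488000010000000243e00001000000023e30000400000000e24000010000000234200002000000023040000000000000cbf0000400000000c3900003000000022660000200000002238000000000000221200004000000021f300004000000021d500004000000021b9000040000000093b0000400000002176000040000000088f000020000000214200002000000021250000400000000785000010000000074400001000000020d800001000000020c100004000000020b2000030000000059f000020000000209000001000000004d2000020000000048100003000000003e60000300000002044000000000000033200002000000002c30000300000000247000010000000200c0000400000000109)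
noncomputable def DTp48 : Nat := (nat_lit 0x400000002602000040000000259a000010000000254600003000000024eb0000200000002489000030000000243e00004000000023e3000020000000238f000030000000234200003000000023050000300000000cc00000100000000c3c00004000000022670000000000002239000010000000221200003000000021f30000000000000a6000003000000021b9000030000000093b00001000000021770000000000000892000020000000084f00004000000021250000100000000786000040000000074400003000000020d900004000000020c100003000000020b200000000000020a3000010000000209100003000000004d2000010000000048300001000000020590000400000000383000000000000033300000000000002c40000400000000248000020000000200c000040000000010b)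
noncomputable def DTp49 : Nat := (nat_lit 0x300000002602000030000000259c000040000000254600002000000024f1000010000000248b0000200000000f2600002000000023e6000020000000239000001000000023440000000000000d720000200000000cc20000300000000c3c0000300000000bf1000040000000223a00004000000022120000300000000aa70000400000000a6000003000000009da000000000000093e00000000000021780000000000000895000000000000214300002000000007e50000400000000786000030000000074400001000000020da00003000000006a9000030000000062400000000000020a40000400000002091000020000000207f000000000000048400000000000003ee0000000000000385000030000000033300003000000002c5000020000000201900000000000001ae000030000000010b)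
noncomputable def DTp50 : Nat := (nat_lit 0x10000000260300001000000010bf000030000000254600004000000024f20000000000000f900000200000000f2700000000000023e7000040000000239000002000000023470000400000000d7200004000000022ca00001000000022960000300000000bf2000010000000223c00000000000022140000000000000aa90000000000000a6200002000000009e3000010000000093f000000000000217a0000200000000895000030000000214300001000000021270000200000002109000000000000074800004000000020db00004000000006aa00003000000020b400004000000020a4000000000000055a00000000000004d50000400000000485000030000000205b0000100000000387000010000000033600000000000002c8000010000000024b00000000000001b0000000000000010c)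
noncomputable def DTp51 : Nat := (nat_lit 0x2604000030000000259d000010000000254700003000000024f20000000000000f92000020000000243f00003000000023e700003000000023900000000000000de3000000000000230900001000000022cb00001000000022970000100000000bf3000040000000223c000030000000221400002000000021f400000000000021d600000000000009e4000030000000093f000040000000217a000030000000089500004000000008620000400000002127000030000000210b000030000000074800003000000020db00002000000006ac000000000000062f00003000000020a4000000000000055c00002000000004d50000200000000487000040000000205c0000000000000388000010000000033900001000000002d9000040000000025100001000000001b1000020000000010c)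
noncomputable def DTp52 : Nat := (nat_lit 0x20000000260400003000000025a1000040000000254800001000000024f30000300000000f920000000000000f2800004000000023e80000400000000e2f0000100000000de3000030000000230900000000000022cc00002000000022970000000000000bf40000100000000b34000000000000221500003000000021f400002000000021d600003000000021be000000000000219a000030000000217a000040000000215d000030000000086200004000000007e8000020000000210c000000000000074c00001000000020dc00004000000006ae000010000000062f00001000000020a5000020000000055c00003000000004d5000010000000048a000010000000205d000040000000038c000000000000033a00000000000002da000000000000025400002000000001b30000300000000111)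
noncomputable def DTp53 : Nat := (nat_lit 0x20000000260500004000000025a3000030000000254800000000000024f40000000000002493000020000000244000001000000023e900001000000023910000400000000de3000040000000230a00002000000022cd00000000000022980000200000000bf40000400000000b34000010000000221500000000000021f500003000000021d600002000000009e5000000000000094000004000000008c4000010000000089600001000000008630000300000002128000020000000210d000020000000074e00000000000020dd00000000000006b3000040000000062f00001000000020a6000040000000055d00002000000004d7000020000000206a000000000000205e000030000000038c000010000000034000002000000002da000030000000025400001000000001b60000300000000114)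
noncomputable def DTp54 : Nat := (nat_lit 0x10000000260700003000000025a3000000000000254900002000000024f40000100000002495000010000000244100000000000023ea0000000000002392000020000000234d000010000000230b00003000000022cd000010000000229900004000000022690000300000000b34000040000000221500004000000021f50000100000000a6300004000000009e50000000000000942000020000000217c0000300000000896000040000000086300000000000007ec000000000000210f000020000000074f00002000000020dd00003000000020c4000030000000062f00000000000005a5000030000000055d00001000000004d8000040000000206a00003000000003ff0000100000002045000040000000034000001000000002dc0000300000000262000010000000200d0000000000000126)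
noncomputable def DTp55 : Nat := (nat_lit 0x40000000260700003000000025a8000020000000254900001000000024f60000400000002495000040000000244100002000000023eb0000200000002394000020000000234e0000100000000d7600001000000022d30000300000000c42000040000000226a0000200000000b36000030000000221500003000000021f50000300000000a6700003000000009e5000040000000094200001000000008c6000020000000089b000030000000086400004000000007f2000010000000210f00002000000020f300003000000006e700003000000006b4000040000000064900001000000005a500002000000005640000100000002080000010000000206b0000300000000401000040000000204500004000000020360000100000002026000040000000026d000040000000200d000010000000012a)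
noncomputable def DTp56 : Nat := (nat_lit 0x10000000260900003000000025a9000010000000254b00001000000024f80000300000002495000030000000244100001000000023ec00003000000023950000200000000df4000000000000230d0000000000000cce000000000000229c000010000000226b0000300000000b39000010000000221600001000000021f800004000000021d800001000000021bf000020000000219e00004000000008c6000000000000089c000010000000086700004000000007f4000040000000210f00003000000020f300004000000006e800001000000006b5000010000000064a00004000000005a500000000000020920000400000002080000020000000206c0000400000000402000030000000204500003000000020360000200000002026000000000000026e000030000000200d000040000000012a)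
noncomputable def DTp57 : Nat := (nat_lit 0x20000000260900003000000025b0000010000000103c00000000000024f90000100000002496000020000000244200000000000023ed00000000000023960000400000000df4000030000000230d00004000000022d4000010000000229c000040000000226f0000000000000b3a000020000000221600003000000021f800003000000021d800004000000009e6000000000000219f00003000000008c6000010000000215e000040000000086700003000000007f4000030000000210f00001000000020f400003000000006e800004000000006b5000000000000064c00003000000005a500004000000020920000300000002080000010000000206e0000100000002060000000000000204600003000000003470000400000002026000000000000201a00003000000001be000030000000012b)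
noncomputable def DTp58 : Nat := (nat_lit 0x30000000260900001000000025b1000000000000254c0000100000000fd100002000000024960000300000000f2900003000000023ee0000200000000e4200001000000023520000000000000d7700000000000022d5000040000000229c0000400000002270000010000000223d00000000000022170000400000000ab600004000000021d900003000000009e6000020000000219f00002000000008c8000040000000215e000030000000086700000000000007f5000040000000078700001000000020f500002000000020df00003000000006b5000020000000064c00002000000005a90000300000002092000000000000208100000000000004940000400000002060000020000000204600002000000020370000300000002026000030000000201a00004000000001bf000020000000012d)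
noncomputable def DTp59 : Nat := (nat_lit 0x20000000260a00000000000010cb000010000000104300001000000024fb00000000000024970000200000000f2b00000000000023f0000030000000239a0000100000000df8000030000000230e0000100000000ce7000030000000229d0000200000002272000000000000223e00001000000022170000200000000ab900003000000021d900000000000021c1000030000000219f000040000000217d000040000000089d000020000000214600004000000007f5000010000000078c00004000000020f500001000000020e000000000000006b8000010000000064d00004000000005a9000000000000056a0000000000002082000000000000206f0000300000002060000040000000038d00001000000020380000200000002027000040000000027d00001000000001c00000100000000136)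
noncomputable def DTp60 : Nat := (nat_lit 0x10000000260b00003000000025b3000040000000104300000000000024fd00001000000024990000100000000f3f00004000000023f0000000000000239c0000000000000df900002000000023100000000000000ce80000200000000c430000200000000c07000020000000223e00004000000022170000100000000abd0000300000000a7100001000000009ee00001000000021a000003000000008ca000010000000215f000010000000087000003000000007f5000040000000078c000030000000075200002000000006ed00004000000006b8000040000000064d00001000000020a7000000000000056c0000200000002082000030000000206f0000300000000415000030000000038d00002000000020380000200000002028000020000000027e00001000000001c20000000000000137)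
noncomputable def DTp61 : Nat := (nat_lit 0x260c00001000000025b400004000000025510000200000000fda00004000000024990000200000000f3f00004000000023f2000030000000239f0000200000000df900000000000023110000000000000cea00000000000022a10000100000002273000040000000223f0000100000000b040000300000000abd0000100000000a7200000000000009f000001000000021a2000010000000217e000020000000215f00001000000008740000200000002129000000000000078e00000000000020f600001000000020e200001000000006ba000030000000064d00004000000020a7000030000000056f00004000000004dd00000000000020700000200000000417000020000000038f000030000000034d00004000000002e00000000000000280000000000000200e0000200000002005)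
noncomputable def DTp62 : Nat := (nat_lit 0x260d00004000000025b400003000000025510000400000000fda00003000000024990000300000000f3f00003000000023f20000100000000e4a000040000000235300002000000023110000200000000cea00003000000022a10000200000002273000030000000223f0000300000000b0400003000000021f90000200000000a7200003000000009f000004000000021a200004000000008d200001000000021610000400000000874000020000000212a000010000000079000003000000020f600004000000020e200002000000006ba000000000000064e00000000000005ae000040000000209300003000000004dd0000100000002070000000000000041e0000200000000392000040000000034e0000000000002029000010000000201b000020000000200e0000400000002005)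
noncomputable def DTp63 : Nat := (nat_lit 0x20000000261100000000000025b500002000000025530000300000000fda000030000000249a000010000000244e00001000000023f400004000000023a3000030000000235300000000000023120000300000000cea00000000000022a300001000000022740000100000002240000020000000221800001000000021fa0000000000000a7500000000000021c2000000000000094400003000000008d20000400000002161000000000000087500000000000007fa0000300000000790000000000000075400003000000020e200000000000006bb000040000000064e00002000000005ae000010000000057000001000000004de0000400000002070000040000000041e0000100000000398000030000000034e0000200000002029000040000000201b00003000000001c50000300000002005)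
noncomputable def DT : Tr := (Tr.node (Tr.node (Tr.node (Tr.node (Tr.node (Tr.node (Tr.leaf DTp0) (Tr.leaf DTp32)) (Tr.node (Tr.leaf DTp16) (Tr.leaf DTp48))) (Tr.node (Tr.node (Tr.leaf DTp8) (Tr.leaf DTp40)) (Tr.node (Tr.leaf DTp24) (Tr.leaf DTp56)))) (Tr.node (Tr.node (Tr.node (Tr.leaf DTp4) (Tr.leaf DTp36)) (Tr.node (Tr.leaf DTp20) (Tr.leaf DTp52))) (Tr.node (Tr.node (Tr.leaf DTp12) (Tr.leaf DTp44)) (Tr.node (Tr.leaf DTp28) (Tr.leaf DTp60))))) (Tr.node (Tr.node (Tr.node (Tr.node (Tr.leaf DTp2) (Tr.leaf DTp34)) (Tr.node (Tr.leaf DTp18) (Tr.leaf DTp50))) (Tr.node (Tr.node (Tr.leaf DTp10) (Tr.leaf DTp42)) (Tr.node (Tr.leaf DTp26) (Tr.leaf DTp58)))) (Tr.node (Tr.node (Tr.node (Tr.leaf DTp6) (Tr.leaf DTp38)) (Tr.node (Tr.leaf DTp22) (Tr.leaf DTp54))) (Tr.node (Tr.node (Tr.leaf DTp14) (Tr.leaf DTp46)) (Tr.node (Tr.leaf DTp30) (Tr.leaf DTp62)))))) (Tr.node (Tr.node (Tr.node (Tr.node (Tr.node (Tr.leaf DTp1) (Tr.leaf DTp33)) (Tr.node (Tr.leaf DTp17) (Tr.leaf DTp49))) (Tr.node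 (Tr.node (Tr.leaf DTp9) (Tr.leaf DTp41)) (Tr.node (Tr.leaf DTp25) (Tr.leaf DTp57)))) (Tr.node (Tr.node (Tr.node (Tr.leaf DTp5) (Tr.leaf DTp37)) (Tr.node (Tr.leaf DTp21) (Tr.leaf DTp53))) (Tr.node (Tr.node (Tr.leaf DTp13) (Tr.leaf DTp45)) (Tr.node (Tr.leaf DTp29) (Tr.leaf DTp61))))) (Tr.node (Tr.node (Tr.node (Tr.node (Tr.leaf DTp3) (Tr.leaf DTp35)) (Tr.node (Tr.leaf DTp19) (Tr.leaf DTp51))) (Tr.node (Tr.node (Tr.leaf DTp11) (Tr.leaf DTp43)) (Tr.node (Tr.leaf DTp27) (Tr.leaf DTp59)))) (Tr.node (Tr.node (Tr.node (Tr.leaf DTp7) (Tr.leaf DTp39)) (Tr.node (Tr.leaf DTp23) (Tr.leaf DTp55))) (Tr.node (Tr.node (Tr.leaf DTp15) (Tr.leaf DTp47)) (Tr.node (Tr.leaf DTp31) (Tr.leaf DTp63)))))))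
noncomputable def s0 : Scr := (Scr.cons (nat_lit 8) (nat_lit 2) (Step.L (Step.L (Step.D (nat_lit 25) Step.done))) (Scr.cons (nat_lit 19) (nat_lit 1) (Step.L (Step.L (Step.L (Step.L (Step.L (Step.L (Step.L (Step.L (Step.L (Step.L (Step.L (Step.L (Step.D (nat_lit 25) Step.done))))))))))))) (Scr.cons (nat_lit 18) (nat_lit 0) (Step.B (nat_lit 2) (Step.F (nat_lit 3) Step.done)) (Scr.cons (nat_lit 8) (nat_lit 1) (Step.U (nat_lit 3) (Step.L (Step.D (nat_lit 39) Step.done))) (Scr.cons (nat_lit 8) (nat_lit 3) (Step.L (Step.L (Step.D (nat_lit 4) Step.done))) (Scr.cons (nat_lit 21) (nat_lit 1) (Step.U (nat_lit 36) (Step.U (nat_lit 2) (Step.L (Step.L (Step.L (Step.L (Step.L (Step.L (Step.L (Step.L (Step.L (Step.B (nat_lit 6) (Step.D (nat_lit 43) Step.done))))))))))))) (Scr.cons (nat_lit 9) (nat_lit 0) (Step.U (nat_lit 3) (Step.D (nat_lit 4) Step.done)) (Scr.cons (nat_lit 8) (nat_lit 2) (Step.U (nat_lit 41) (Step.B (nat_lit 8) (Step.D (nat_lit 43) Step.done))) (Scr.cons (nat_lit 21)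 (nat_lit 1) (Step.L (Step.L (Step.L (Step.L (Step.L (Step.L (Step.L (Step.D (nat_lit 2) (Step.D (nat_lit 36) (Step.B (nat_lit 7) (Step.F (nat_lit 9) (Step.U (nat_lit 41) (Step.B (nat_lit 5) Step.done))))))))))))) (Scr.cons (nat_lit 21) (nat_lit 3) (Step.L (Step.L (Step.D (nat_lit 3) (Step.B (nat_lit 5) (Step.F (nat_lit 10) (Step.L (Step.L (Step.L (Step.L (Step.L (Step.L (Step.L (Step.L Step.done))))))))))))) (Scr.cons (nat_lit 8) (nat_lit 3) (Step.L (Step.L (Step.D (nat_lit 24) Step.done))) (Scr.cons (nat_lit 12) (nat_lit 13) (Step.F (nat_lit 12) (Step.L (Step.L (Step.L (Step.L (Step.L (Step.L (Step.L (Step.L (Step.L (Step.L (Step.L (Step.L Step.done))))))))))))) (Scr.cons (nat_lit 9) (nat_lit 0) (Step.L (Step.D (nat_lit 24) Step.done)) (Scr.cons (nat_lit 8) (nat_lit 0) (Step.F (nat_lit 13) (Step.F (nat_lit 14) (Step.L Step.done))) (Scr.cons (nat_lit 9) (nat_lit 0) (Step.L (Step.D (nat_lit 241) Step.done)) (Scr.cons (nat_lit 10) (nat_lit 1) (Step.F (nat_lit 16) (Step.L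 (Step.L (Step.L (Step.L (Step.L (Step.L (Step.L (Step.L (Step.L (Step.L (Step.L (Step.L Step.done))))))))))))) (Scr.cons (nat_lit 8) (nat_lit 0) (Step.F (nat_lit 17) (Step.F (nat_lit 16) (Step.L Step.done))) (Scr.cons (nat_lit 8) (nat_lit 3) (Step.L (Step.D (nat_lit 54) (Step.D (nat_lit 312) Step.done))) (Scr.cons (nat_lit 8) (nat_lit 1) (Step.L (Step.L (Step.D (nat_lit 1) Step.done))) (Scr.cons (nat_lit 12) (nat_lit 4) (Step.U (nat_lit 33) (Step.F (nat_lit 20) (Step.L (Step.L (Step.L (Step.L (Step.L (Step.L (Step.L (Step.L (Step.L (Step.L (Step.D (nat_lit 116) Step.done))))))))))))) (Scr.cons (nat_lit 13) (nat_lit 5) (Step.F (nat_lit 19) (Step.L (Step.L (Step.L (Step.L (Step.L (Step.L (Step.L (Step.D (nat_lit 1) (Step.D (nat_lit 33) (Step.B (nat_lit 21) (Step.U (nat_lit 116) (Step.L Step.done))))))))))))) (Scr.cons (nat_lit 21) (nat_lit 1) (Step.L (Step.L (Step.L (Step.L (Step.L (Step.L (Step.L (Step.L (Step.F (nat_lit 22) (Step.F (nat_lit 19) (Step.L (Step.L (Step.L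 Step.done))))))))))))) (Scr.cons (nat_lit 22) (nat_lit 4) (Step.L (Step.L (Step.L (Step.L (Step.L (Step.L (Step.L (Step.L (Step.L (Step.L (Step.L (Step.L (Step.D (nat_lit 397) Step.done))))))))))))) (Scr.cons (nat_lit 21) (nat_lit 12) (Step.L (Step.L (Step.L (Step.L (Step.L (Step.L (Step.L (Step.L (Step.L (Step.L (Step.B (nat_lit 24) (Step.U (nat_lit 397) (Step.L Step.done))))))))))))) (Scr.cons (nat_lit 9) (nat_lit 0) (Step.L (Step.D (nat_lit 53) Step.done)) (Scr.cons (nat_lit 9) (nat_lit 0) (Step.L (Step.D (nat_lit 37) Step.done)) (Scr.cons (nat_lit 8) (nat_lit 1) (Step.F (nat_lit 26) (Step.L (Step.B (nat_lit 27) Step.done))) (Scr.cons (nat_lit 10) (nat_lit 0) (Step.U (nat_lit 394) (Step.L (Step.L (Step.L (Step.L (Step.L (Step.L (Step.L (Step.D (nat_lit 53) (Step.B (nat_lit 28) (Step.F (nat_lit 27) (Step.L (Step.L (Step.D (nat_lit 224) Step.done)))))))))))))) (Scr.cons (nat_lit 3) (nat_lit 1) (Step.D (nat_lit 394) (Step.B (nat_lit 29) Step.done)) (Scr.cons (nat_lit 8)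 (nat_lit 0) (Step.L (Step.D (nat_lit 224) (Step.F (nat_lit 30) (Step.D (nat_lit 393) Step.done)))) (Scr.cons (nat_lit 1) (nat_lit 0) (Step.D (nat_lit 393) (Step.F (nat_lit 31) Step.done)) (Scr.cons (nat_lit 8) (nat_lit 2) (Step.L (Step.L (Step.D (nat_lit 452) Step.done))) (Scr.cons (nat_lit 10) (nat_lit 1) (Step.L (Step.L (Step.L (Step.L (Step.L (Step.L (Step.L (Step.L (Step.L (Step.L (Step.L (Step.D (nat_lit 452) (Step.F (nat_lit 33) Step.done))))))))))))) (Scr.cons (nat_lit 21) (nat_lit 12) (Step.U (nat_lit 103) (Step.L (Step.L (Step.L (Step.L (Step.L (Step.L (Step.L (Step.L (Step.L (Step.L (Step.L (Step.L Step.done))))))))))))) (Scr.cons (nat_lit 13) (nat_lit 1) (Step.L (Step.L (Step.L (Step.L (Step.D (nat_lit 103) (Step.B (nat_lit 35) (Step.L (Step.L (Step.L (Step.L (Step.L (Step.L (Step.L Step.done))))))))))))) (Scr.cons (nat_lit 21) (nat_lit 2) (Step.L (Step.L (Step.F (nat_lit 22) (Step.U (nat_lit 312) (Step.U (nat_lit 54) (Step.L (Step.L (Step.L (Step.L (Step.L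 (Step.L (Step.L (Step.L Step.done))))))))))))) (Scr.cons (nat_lit 11) (nat_lit 2) (Step.L (Step.L (Step.L (Step.B (nat_lit 19) (Step.B (nat_lit 22) (Step.L (Step.L (Step.L Step.done)))))))) (Scr.cons (nat_lit 8) (nat_lit 2) (Step.L (Step.L (Step.D (nat_lit 604) Step.done))) (Scr.cons (nat_lit 19) (nat_lit 1) (Step.L (Step.L (Step.L (Step.L (Step.L (Step.L (Step.L (Step.L (Step.L (Step.L (Step.L (Step.L (Step.D (nat_lit 604) Step.done))))))))))))) (Scr.cons (nat_lit 18) (nat_lit 0) (Step.B (nat_lit 39) (Step.F (nat_lit 40) Step.done)) Scr.nil))))))))))))))))))))))))))))))))))))))))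
noncomputable def s1 : Scr := (Scr.cons (nat_lit 12) (nat_lit 6) (Step.U (nat_lit 136) (Step.L (Step.L (Step.L (Step.L (Step.L (Step.L (Step.L (Step.L (Step.L (Step.D (nat_lit 8) (Step.D (nat_lit 86) (Step.D (nat_lit 424) Step.done))))))))))))) (Scr.cons (nat_lit 8) (nat_lit 0) (Step.F (nat_lit 42) (Step.U (nat_lit 136) (Step.L Step.done))) (Scr.cons (nat_lit 22) (nat_lit 6) (Step.L (Step.L (Step.L (Step.D (nat_lit 8) (Step.D (nat_lit 86) (Step.D (nat_lit 424) (Step.B (nat_lit 43) (Step.L (Step.L (Step.L (Step.L (Step.L (Step.L Step.done))))))))))))) (Scr.cons (nat_lit 13) (nat_lit 2) (Step.U (nat_lit 188) (Step.L (Step.L (Step.L (Step.L (Step.L (Step.L (Step.L (Step.L (Step.L (Step.L (Step.L (Step.D (nat_lit 675) Step.done))))))))))))) (Scr.cons (nat_lit 21) (nat_lit 0) (Step.L (Step.D (nat_lit 188) (Step.B (nat_lit 45) (Step.U (nat_lit 675) (Step.L (Step.L (Step.L (Step.L (Step.L (Step.L (Step.L (Step.L (Step.L Step.done))))))))))))) (Scr.cons (nat_lit 21) (nat_lit 7)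 (Step.L (Step.L (Step.L (Step.L (Step.L (Step.L (Step.L (Step.L (Step.L (Step.L (Step.L (Step.L (Step.D (nat_lit 686) Step.done))))))))))))) (Scr.cons (nat_lit 8) (nat_lit 0) (Step.B (nat_lit 47) (Step.U (nat_lit 686) (Step.L Step.done))) (Scr.cons (nat_lit 8) (nat_lit 2) (Step.U (nat_lit 115) (Step.L (Step.L Step.done))) (Scr.cons (nat_lit 21) (nat_lit 6) (Step.U (nat_lit 162) (Step.L (Step.L (Step.L (Step.L (Step.L (Step.L (Step.L (Step.L (Step.L (Step.L (Step.D (nat_lit 115) (Step.D (nat_lit 520) Step.done))))))))))))) (Scr.cons (nat_lit 8) (nat_lit 3) (Step.F (nat_lit 50) (Step.U (nat_lit 162) (Step.D (nat_lit 163) Step.done))) (Scr.cons (nat_lit 13) (nat_lit 2) (Step.L (Step.F (nat_lit 49) (Step.D (nat_lit 520) (Step.B (nat_lit 51) (Step.U (nat_lit 163) (Step.L (Step.L (Step.L (Step.L (Step.L (Step.L (Step.L (Step.L Step.done))))))))))))) (Scr.cons (nat_lit 22) (nat_lit 5) (Step.L (Step.L (Step.L (Step.L (Step.L (Step.L (Step.L (Step.L (Step.L (Step.L (Step.L (Step.D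 (nat_lit 100) (Step.D (nat_lit 465) Step.done))))))))))))) (Scr.cons (nat_lit 12) (nat_lit 0) (Step.L (Step.L (Step.D (nat_lit 100) (Step.D (nat_lit 465) (Step.F (nat_lit 53) (Step.L (Step.L (Step.L (Step.L (Step.L (Step.L (Step.L (Step.L Step.done))))))))))))) (Scr.cons (nat_lit 12) (nat_lit 9) (Step.L (Step.L (Step.B (nat_lit 12) (Step.B (nat_lit 13) (Step.L (Step.L (Step.L (Step.L (Step.L (Step.L (Step.L (Step.L (Step.L Step.done))))))))))))) (Scr.cons (nat_lit 8) (nat_lit 2) (Step.L (Step.L (Step.D (nat_lit 713) Step.done))) (Scr.cons (nat_lit 9) (nat_lit 0) (Step.F (nat_lit 56) (Step.L Step.done)) (Scr.cons (nat_lit 10) (nat_lit 1) (Step.F (nat_lit 57) (Step.U (nat_lit 713) (Step.L (Step.L (Step.L (Step.L (Step.L (Step.L (Step.L (Step.L (Step.L (Step.L (Step.L Step.done))))))))))))) (Scr.cons (nat_lit 8) (nat_lit 2) (Step.U (nat_lit 719) (Step.L (Step.L Step.done))) (Scr.cons (nat_lit 18) (nat_lit 0) (Step.L (Step.D (nat_lit 253) Step.done)) (Scr.cons (nat_lit 13)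 (nat_lit 6) (Step.F (nat_lit 60) (Step.L (Step.L (Step.L (Step.L (Step.L (Step.L (Step.L (Step.L (Step.L (Step.L (Step.L (Step.D (nat_lit 720) Step.done))))))))))))) (Scr.cons (nat_lit 20) (nat_lit 8) (Step.B (nat_lit 59) (Step.L (Step.D (nat_lit 720) (Step.F (nat_lit 61) (Step.F (nat_lit 60) (Step.L (Step.L (Step.L (Step.L Step.done))))))))) (Scr.cons (nat_lit 1) (nat_lit 0) (Step.D (nat_lit 719) (Step.B (nat_lit 62) Step.done)) (Scr.cons (nat_lit 8) (nat_lit 3) (Step.U (nat_lit 22) (Step.L (Step.D (nat_lit 159) Step.done))) (Scr.cons (nat_lit 9) (nat_lit 0) (Step.L (Step.D (nat_lit 133) Step.done)) (Scr.cons (nat_lit 8) (nat_lit 2) (Step.U (nat_lit 597) (Step.B (nat_lit 65) (Step.D (nat_lit 598) Step.done))) (Scr.cons (nat_lit 22) (nat_lit 0) (Step.U (nat_lit 599) (Step.U (nat_lit 133) (Step.L (Step.L (Step.L (Step.L (Step.L (Step.L (Step.L (Step.L (Step.L (Step.L (Step.D (nat_lit 736) Step.done))))))))))))) (Scr.cons (nat_lit 20) (nat_lit 8) (Step.B (nat_lit 66) (Step.U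 (nat_lit 598) (Step.D (nat_lit 599) (Step.B (nat_lit 67) (Step.U (nat_lit 736) (Step.L (Step.B (nat_lit 14) (Step.B (nat_lit 13) (Step.D (nat_lit 197) Step.done))))))))) (Scr.cons (nat_lit 1) (nat_lit 0) (Step.D (nat_lit 597) (Step.B (nat_lit 68) Step.done)) (Scr.cons (nat_lit 12) (nat_lit 0) (Step.L (Step.L (Step.L (Step.L (Step.L (Step.L (Step.L (Step.L (Step.L (Step.L (Step.L (Step.L (Step.D (nat_lit 596) Step.done))))))))))))) (Scr.cons (nat_lit 21) (nat_lit 3) (Step.U (nat_lit 666) (Step.L (Step.L (Step.L (Step.L (Step.L (Step.D (nat_lit 197) (Step.F (nat_lit 69) (Step.L (Step.L (Step.D (nat_lit 596) (Step.F (nat_lit 70) (Step.D (nat_lit 703) Step.done))))))))))))) (Scr.cons (nat_lit 11) (nat_lit 5) (Step.U (nat_lit 666) (Step.L (Step.L (Step.L (Step.L (Step.L (Step.D (nat_lit 159) (Step.D (nat_lit 672) Step.done)))))))) (Scr.cons (nat_lit 18) (nat_lit 0) (Step.F (nat_lit 71) (Step.B (nat_lit 72) Step.done)) (Scr.cons (nat_lit 22) (nat_lit 4) (Step.L (Step.L (Step.D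 (nat_lit 22) (Step.B (nat_lit 64) (Step.D (nat_lit 672) (Step.F (nat_lit 73) (Step.U (nat_lit 703) (Step.L (Step.L (Step.L (Step.L (Step.L (Step.L (Step.D (nat_lit 674) Step.done)))))))))))))) (Scr.cons (nat_lit 2) (nat_lit 0) (Step.D (nat_lit 674) (Step.F (nat_lit 74) Step.done)) (Scr.cons (nat_lit 21) (nat_lit 7) (Step.L (Step.L (Step.L (Step.L (Step.L (Step.L (Step.L (Step.L (Step.L (Step.L (Step.L (Step.L (Step.D (nat_lit 411) Step.done))))))))))))) (Scr.cons (nat_lit 8) (nat_lit 0) (Step.B (nat_lit 76) (Step.U (nat_lit 411) (Step.D (nat_lit 410) Step.done))) (Scr.cons (nat_lit 11) (nat_lit 3) (Step.L (Step.B (nat_lit 77) (Step.U (nat_lit 410) (Step.L (Step.L (Step.L (Step.L (Step.D (nat_lit 746) Step.done)))))))) (Scr.cons (nat_lit 8) (nat_lit 3) (Step.B (nat_lit 78) (Step.U (nat_lit 746) (Step.L Step.done))) (Scr.cons (nat_lit 13) (nat_lit 6) (Step.U (nat_lit 727) (Step.L (Step.L (Step.L (Step.L (Step.L (Step.L (Step.L (Step.L (Step.L (Step.L (Step.L (Step.L Step.done)))))))))))))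 (Scr.cons (nat_lit 11) (nat_lit 3) (Step.U (nat_lit 726) (Step.D (nat_lit 727) (Step.B (nat_lit 80) (Step.L (Step.L (Step.L (Step.L (Step.D (nat_lit 704) Step.done)))))))) Scr.nil))))))))))))))))))))))))))))))))))))))))
noncomputable def s2 : Scr := (Scr.cons (nat_lit 11) (nat_lit 3) (Step.L (Step.L (Step.L (Step.L (Step.D (nat_lit 704) (Step.F (nat_lit 81) (Step.U (nat_lit 726) (Step.L Step.done)))))))) (Scr.cons (nat_lit 8) (nat_lit 1) (Step.L (Step.L (Step.D (nat_lit 721) Step.done))) (Scr.cons (nat_lit 12) (nat_lit 2) (Step.L (Step.L (Step.L (Step.L (Step.D (nat_lit 704) (Step.F (nat_lit 81) (Step.U (nat_lit 726) (Step.L (Step.L (Step.L (Step.L (Step.L (Step.L (Step.D (nat_lit 721) Step.done)))))))))))))) (Scr.cons (nat_lit 0) (nat_lit 0) (Step.B (nat_lit 83) (Step.F (nat_lit 84) Step.done)) (Scr.cons (nat_lit 20) (nat_lit 2) (Step.L (Step.L (Step.L (Step.L (Step.L (Step.L (Step.L (Step.D (nat_lit 45) Step.done)))))))) (Scr.cons (nat_lit 22) (nat_lit 2) (Step.L (Step.L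 (Step.L (Step.L (Step.B (nat_lit 86) (Step.U (nat_lit 45) (Step.L (Step.L (Step.L (Step.L (Step.L (Step.L (Step.L Step.done))))))))))))) (Scr.cons (nat_lit 8) (nat_lit 3) (Step.L (Step.D (nat_lit 11) (Step.D (nat_lit 109) Step.done))) (Scr.cons (nat_lit 9) (nat_lit 0) (Step.U (nat_lit 108) (Step.D (nat_lit 109) Step.done)) (Scr.cons (nat_lit 11) (nat_lit 3) (Step.L (Step.L (Step.L (Step.L (Step.L (Step.L (Step.L (Step.D (nat_lit 160) Step.done)))))))) (Scr.cons (nat_lit 9) (nat_lit 0) (Step.F (nat_lit 90) (Step.D (nat_lit 222) Step.done)) (Scr.cons (nat_lit 9) (nat_lit 0) (Step.U (nat_lit 39) (Step.D (nat_lit 40) Step.done)) (Scr.cons (nat_lit 8) (nat_lit 1) (Step.L (Step.B (nat_lit 10) (Step.B (nat_lit 92) Step.done))) (Scr.cons (nat_lit 10) (nat_lit 1) (Step.F (nat_lit 91) (Step.U (nat_lit 160) (Step.L (Step.B (nat_lit 93) (Step.F (nat_lit 92) (Step.F (nat_lit 5) (Step.U (nat_lit 3) (Step.L (Step.L (Step.L (Step.L (Step.D (nat_lit 11) (Step.D (nat_lit 109) Step.done)))))))))))))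 (Scr.cons (nat_lit 8) (nat_lit 3) (Step.B (nat_lit 91) (Step.B (nat_lit 94) (Step.F (nat_lit 89) Step.done))) (Scr.cons (nat_lit 21) (nat_lit 4) (Step.L (Step.L (Step.L (Step.L (Step.L (Step.L (Step.B (nat_lit 88) (Step.F (nat_lit 89) (Step.F (nat_lit 95) (Step.U (nat_lit 160) (Step.L (Step.L (Step.L Step.done))))))))))))) (Scr.cons (nat_lit 9) (nat_lit 0) (Step.L (Step.D (nat_lit 431) Step.done)) (Scr.cons (nat_lit 8) (nat_lit 3) (Step.U (nat_lit 90) (Step.L (Step.D (nat_lit 431) Step.done))) (Scr.cons (nat_lit 12) (nat_lit 13) (Step.F (nat_lit 98) (Step.U (nat_lit 90) (Step.L (Step.L (Step.L (Step.L (Step.L (Step.L (Step.L (Step.L (Step.L (Step.L (Step.L Step.done))))))))))))) (Scr.cons (nat_lit 8) (nat_lit 3) (Step.B (nat_lit 97) (Step.B (nat_lit 99) (Step.L Step.done))) (Scr.cons (nat_lit 20) (nat_lit 2) (Step.L (Step.L (Step.L (Step.L (Step.L (Step.L (Step.L (Step.D (nat_lit 842) Step.done)))))))) (Scr.cons (nat_lit 13) (nat_lit 3) (Step.L (Step.D (nat_lit 842) (Step.F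 (nat_lit 101) (Step.L (Step.L (Step.L (Step.L (Step.L (Step.L (Step.L (Step.L (Step.L (Step.L Step.done))))))))))))) (Scr.cons (nat_lit 11) (nat_lit 1) (Step.L (Step.L (Step.L (Step.L (Step.L (Step.L (Step.L (Step.D (nat_lit 887) Step.done)))))))) (Scr.cons (nat_lit 9) (nat_lit 0) (Step.U (nat_lit 608) (Step.D (nat_lit 609) Step.done)) (Scr.cons (nat_lit 20) (nat_lit 4) (Step.L (Step.L (Step.L (Step.L (Step.L (Step.L (Step.D (nat_lit 138) (Step.D (nat_lit 608) Step.done)))))))) (Scr.cons (nat_lit 13) (nat_lit 1) (Step.F (nat_lit 104) (Step.F (nat_lit 105) (Step.L (Step.L (Step.L (Step.L (Step.L (Step.L (Step.L (Step.L (Step.L (Step.L (Step.L Step.done))))))))))))) (Scr.cons (nat_lit 12) (nat_lit 0) (Step.L (Step.L (Step.L (Step.L (Step.L (Step.L (Step.D (nat_lit 887) (Step.F (nat_lit 103) (Step.F (nat_lit 106) (Step.F (nat_lit 104) (Step.F (nat_lit 105) (Step.L (Step.L Step.done))))))))))))) (Scr.cons (nat_lit 8) (nat_lit 3) (Step.U (nat_lit 222) (Step.L (Step.D (nat_lit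 887) Step.done))) (Scr.cons (nat_lit 9) (nat_lit 0) (Step.L (Step.D (nat_lit 228) Step.done)) (Scr.cons (nat_lit 21) (nat_lit 4) (Step.L (Step.L (Step.L (Step.L (Step.L (Step.L (Step.L (Step.L (Step.L (Step.B (nat_lit 88) (Step.F (nat_lit 94) (Step.B (nat_lit 108) (Step.F (nat_lit 103) (Step.B (nat_lit 109) Step.done)))))))))))))) (Scr.cons (nat_lit 3) (nat_lit 1) (Step.D (nat_lit 228) (Step.F (nat_lit 110) (Step.D (nat_lit 396) Step.done))) (Scr.cons (nat_lit 3) (nat_lit 1) (Step.D (nat_lit 396) (Step.F (nat_lit 111) Step.done)) (Scr.cons (nat_lit 21) (nat_lit 3) (Step.U (nat_lit 865) (Step.U (nat_lit 212) (Step.U (nat_lit 32) (Step.L (Step.L (Step.L (Step.L (Step.L (Step.L (Step.L (Step.L (Step.L (Step.D (nat_lit 892) Step.done))))))))))))) (Scr.cons (nat_lit 20) (nat_lit 2) (Step.U (nat_lit 867) (Step.U (nat_lit 212) (Step.U (nat_lit 32) (Step.L (Step.L (Step.L (Step.L (Step.D (nat_lit 869) Step.done)))))))) (Scr.cons (nat_lit 22) (nat_lit 4) (Step.L (Step.L (Step.L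 (Step.L (Step.L (Step.L (Step.D (nat_lit 892) (Step.F (nat_lit 113) (Step.U (nat_lit 865) (Step.D (nat_lit 867) (Step.B (nat_lit 114) (Step.U (nat_lit 869) (Step.L (Step.D (nat_lit 870) Step.done)))))))))))))) (Scr.cons (nat_lit 2) (nat_lit 0) (Step.D (nat_lit 870) (Step.F (nat_lit 115) Step.done)) (Scr.cons (nat_lit 21) (nat_lit 3) (Step.L (Step.L (Step.L (Step.L (Step.L (Step.L (Step.L (Step.D (nat_lit 138) (Step.D (nat_lit 609) (Step.B (nat_lit 106) (Step.L (Step.L (Step.L Step.done))))))))))))) (Scr.cons (nat_lit 22) (nat_lit 5) (Step.L (Step.L (Step.L (Step.L (Step.L (Step.L (Step.B (nat_lit 10) (Step.U (nat_lit 39) (Step.L (Step.L (Step.L (Step.L (Step.L Step.done))))))))))))) (Scr.cons (nat_lit 8) (nat_lit 1) (Step.U (nat_lit 262) (Step.D (nat_lit 261) (Step.D (nat_lit 997) Step.done))) (Scr.cons (nat_lit 12) (nat_lit 5) (Step.F (nat_lit 119) (Step.U (nat_lit 262) (Step.U (nat_lit 44) (Step.F (nat_lit 6) (Step.L (Step.L (Step.L (Step.L (Step.L (Step.L (Step.L (Step.L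 (Step.D (nat_lit 696) Step.done))))))))))))) (Scr.cons (nat_lit 22) (nat_lit 0) (Step.L (Step.L (Step.L (Step.L (Step.D (nat_lit 696) (Step.F (nat_lit 120) (Step.U (nat_lit 997) (Step.U (nat_lit 261) (Step.U (nat_lit 44) (Step.U (nat_lit 4) (Step.L (Step.L (Step.L (Step.D (nat_lit 988) Step.done)))))))))))))) Scr.nil))))))))))))))))))))))))))))))))))))))))
noncomputable def s3 : Scr := (Scr.cons (nat_lit 3) (nat_lit 0) (Step.D (nat_lit 988) (Step.F (nat_lit 121) Step.done)) (Scr.cons (nat_lit 8) (nat_lit 2) (Step.U (nat_lit 1037) (Step.L (Step.D (nat_lit 1039) Step.done))) (Scr.cons (nat_lit 9) (nat_lit 0) (Step.L (Step.F (nat_lit 35) Step.done)) (Scr.cons (nat_lit 13) (nat_lit 3) (Step.U (nat_lit 482) (Step.L (Step.L (Step.L (Step.D (nat_lit 103) (Step.F (nat_lit 124) (Step.L (Step.L (Step.L (Step.L (Step.L (Step.L (Step.D (nat_lit 947) Step.done))))))))))))) (Scr.cons (nat_lit 21) (nat_lit 1) (Step.B (nat_lit 125) (Step.U (nat_lit 947) (Step.L (Step.L (Step.L (Step.L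 (Step.L (Step.L (Step.L (Step.L (Step.L (Step.L (Step.D (nat_lit 1039) Step.done))))))))))))) (Scr.cons (nat_lit 13) (nat_lit 5) (Step.U (nat_lit 1038) (Step.D (nat_lit 1037) (Step.B (nat_lit 123) (Step.F (nat_lit 126) (Step.U (nat_lit 482) (Step.L (Step.L (Step.L (Step.L (Step.L (Step.L (Step.L (Step.L (Step.L Step.done)))))))))))))) (Scr.cons (nat_lit 2) (nat_lit 0) (Step.D (nat_lit 1038) (Step.B (nat_lit 127) Step.done)) (Scr.cons (nat_lit 20) (nat_lit 4) (Step.U (nat_lit 1067) (Step.L (Step.L (Step.L (Step.L (Step.L (Step.D (nat_lit 293) (Step.D (nat_lit 1072) Step.done)))))))) (Scr.cons (nat_lit 9) (nat_lit 0) (Step.L (Step.D (nat_lit 163) Step.done)) (Scr.cons (nat_lit 8) (nat_lit 2) (Step.L (Step.B (nat_lit 130) (Step.D (nat_lit 688) Step.done))) (Scr.cons (nat_lit 11) (nat_lit 1) (Step.L (Step.L (Step.L (Step.L (Step.L (Step.L (Step.L (Step.D (nat_lit 272) Step.done)))))))) (Scr.cons (nat_lit 21) (nat_lit 10) (Step.L (Step.L (Step.L (Step.L (Step.L (Step.L (Step.L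 (Step.L (Step.B (nat_lit 132) (Step.U (nat_lit 272) (Step.L (Step.L (Step.D (nat_lit 274) Step.done))))))))))))) (Scr.cons (nat_lit 9) (nat_lit 0) (Step.U (nat_lit 273) (Step.D (nat_lit 274) Step.done)) (Scr.cons (nat_lit 8) (nat_lit 1) (Step.U (nat_lit 48) (Step.L (Step.D (nat_lit 273) Step.done))) (Scr.cons (nat_lit 11) (nat_lit 7) (Step.F (nat_lit 135) (Step.U (nat_lit 48) (Step.L (Step.L (Step.L (Step.L (Step.L (Step.D (nat_lit 616) Step.done)))))))) (Scr.cons (nat_lit 13) (nat_lit 1) (Step.F (nat_lit 131) (Step.B (nat_lit 133) (Step.F (nat_lit 134) (Step.B (nat_lit 136) (Step.U (nat_lit 616) (Step.L (Step.L (Step.L (Step.L (Step.L (Step.L (Step.D (nat_lit 293) (Step.D (nat_lit 1072) Step.done))))))))))))) (Scr.cons (nat_lit 21) (nat_lit 7) (Step.L (Step.D (nat_lit 1067) (Step.B (nat_lit 129) (Step.F (nat_lit 137) (Step.F (nat_lit 131) (Step.L (Step.L (Step.L (Step.L (Step.L (Step.L (Step.L (Step.L Step.done))))))))))))) (Scr.cons (nat_lit 9) (nat_lit 0) (Step.U (nat_lit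 1080) (Step.D (nat_lit 1081) Step.done)) (Scr.cons (nat_lit 12) (nat_lit 2) (Step.L (Step.L (Step.L (Step.L (Step.L (Step.L (Step.L (Step.L (Step.L (Step.L (Step.L (Step.L (Step.D (nat_lit 1080) Step.done))))))))))))) (Scr.cons (nat_lit 8) (nat_lit 1) (Step.F (nat_lit 139) (Step.F (nat_lit 140) (Step.L Step.done))) (Scr.cons (nat_lit 8) (nat_lit 1) (Step.U (nat_lit 297) (Step.L (Step.D (nat_lit 1080) Step.done))) (Scr.cons (nat_lit 10) (nat_lit 0) (Step.L (Step.L (Step.L (Step.L (Step.F (nat_lit 141) (Step.F (nat_lit 139) (Step.F (nat_lit 142) (Step.U (nat_lit 297) (Step.L (Step.L (Step.L (Step.L (Step.D (nat_lit 1087) Step.done))))))))))))) (Scr.cons (nat_lit 8) (nat_lit 3) (Step.B (nat_lit 143) (Step.U (nat_lit 1087) (Step.L Step.done))) (Scr.cons (nat_lit 9) (nat_lit 0) (Step.U (nat_lit 1165) (Step.L Step.done)) (Scr.cons (nat_lit 9) (nat_lit 0) (Step.U (nat_lit 334) (Step.L Step.done)) (Scr.cons (nat_lit 8) (nat_lit 1) (Step.L (Step.L (Step.D (nat_lit 334) Step.done)))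 (Scr.cons (nat_lit 11) (nat_lit 1) (Step.F (nat_lit 147) (Step.L (Step.L (Step.L (Step.L (Step.D (nat_lit 6) (Step.D (nat_lit 65) (Step.D (nat_lit 357) Step.done)))))))) (Scr.cons (nat_lit 9) (nat_lit 0) (Step.U (nat_lit 356) (Step.D (nat_lit 357) Step.done)) (Scr.cons (nat_lit 13) (nat_lit 6) (Step.U (nat_lit 153) (Step.U (nat_lit 20) (Step.U (nat_lit 0) (Step.L (Step.L (Step.L (Step.L (Step.L (Step.L (Step.L (Step.D (nat_lit 6) (Step.D (nat_lit 67) (Step.D (nat_lit 361) Step.done))))))))))))) (Scr.cons (nat_lit 8) (nat_lit 2) (Step.F (nat_lit 150) (Step.U (nat_lit 153) (Step.D (nat_lit 151) Step.done))) (Scr.cons (nat_lit 8) (nat_lit 3) (Step.U (nat_lit 67) (Step.D (nat_lit 65) (Step.D (nat_lit 357) Step.done))) (Scr.cons (nat_lit 12) (nat_lit 11) (Step.U (nat_lit 124) (Step.L (Step.L (Step.L (Step.L (Step.L (Step.D (nat_lit 0) (Step.D (nat_lit 20) (Step.D (nat_lit 151) (Step.F (nat_lit 151) (Step.U (nat_lit 361) (Step.B (nat_lit 152) (Step.F (nat_lit 149) Step.done)))))))))))))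 (Scr.cons (nat_lit 13) (nat_lit 0) (Step.B (nat_lit 145) (Step.L (Step.F (nat_lit 146) (Step.B (nat_lit 148) (Step.F (nat_lit 149) (Step.F (nat_lit 153) (Step.U (nat_lit 124) (Step.L (Step.L (Step.L (Step.L (Step.L (Step.L (Step.L Step.done)))))))))))))) (Scr.cons (nat_lit 3) (nat_lit 0) (Step.F (nat_lit 145) (Step.B (nat_lit 154) Step.done)) (Scr.cons (nat_lit 9) (nat_lit 0) (Step.L (Step.D (nat_lit 132) Step.done)) (Scr.cons (nat_lit 12) (nat_lit 5) (Step.U (nat_lit 582) (Step.F (nat_lit 156) (Step.L (Step.L (Step.L (Step.L (Step.L (Step.L (Step.L (Step.L (Step.L (Step.L (Step.L Step.done))))))))))))) (Scr.cons (nat_lit 12) (nat_lit 8) (Step.B (nat_lit 157) (Step.L (Step.L (Step.L (Step.L (Step.L (Step.L (Step.L (Step.L (Step.L (Step.L (Step.D (nat_lit 348) (Step.D (nat_lit 1198) Step.done))))))))))))) (Scr.cons (nat_lit 20) (nat_lit 2) (Step.L (Step.L (Step.B (nat_lit 156) (Step.D (nat_lit 582) (Step.B (nat_lit 158) (Step.U (nat_lit 1198) (Step.U (nat_lit 348) (Step.L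 Step.done)))))))) (Scr.cons (nat_lit 18) (nat_lit 0) (Step.L (Step.D (nat_lit 394) Step.done)) (Scr.cons (nat_lit 3) (nat_lit 0) (Step.B (nat_lit 160) (Step.B (nat_lit 29) Step.done)) Scr.nil))))))))))))))))))))))))))))))))))))))))
noncomputable def s4 : Scr := (Scr.cons (nat_lit 8) (nat_lit 0) (Step.L (Step.B (nat_lit 161) (Step.D (nat_lit 891) Step.done))) (Scr.cons (nat_lit 21) (nat_lit 11) (Step.B (nat_lit 162) (Step.U (nat_lit 891) (Step.U (nat_lit 224) (Step.L (Step.L (Step.L (Step.L (Step.L (Step.L (Step.L (Step.L (Step.L (Step.L Step.done))))))))))))) (Scr.cons (nat_lit 8) (nat_lit 1) (Step.U (nat_lit 379) (Step.L (Step.D (nat_lit 1269) Step.done))) (Scr.cons (nat_lit 8) (nat_lit 2) (Step.U (nat_lit 194) (Step.L (Step.D (nat_lit 195) Step.done))) (Scr.cons (nat_lit 13) (nat_lit 2) (Step.L (Step.L (Step.L (Step.L (Step.L (Step.L (Step.L (Step.L (Step.L (Step.L (Step.L (Step.L (Step.L (Step.D (nat_lit 194) Step.done)))))))))))))) (Scr.cons (nat_lit 9) (nat_lit 0)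 (Step.L (Step.D (nat_lit 71) Step.done)) (Scr.cons (nat_lit 3) (nat_lit 1) (Step.F (nat_lit 165) (Step.F (nat_lit 166) (Step.B (nat_lit 167) Step.done))) (Scr.cons (nat_lit 0) (nat_lit 0) (Step.D (nat_lit 195) (Step.B (nat_lit 168) Step.done)) (Scr.cons (nat_lit 10) (nat_lit 0) (Step.F (nat_lit 164) (Step.U (nat_lit 379) (Step.L (Step.D (nat_lit 71) (Step.F (nat_lit 169) (Step.L (Step.L (Step.L (Step.L (Step.L (Step.L (Step.L (Step.L Step.done))))))))))))) (Scr.cons (nat_lit 9) (nat_lit 0) (Step.F (nat_lit 170) (Step.U (nat_lit 1269) Step.done)) (Scr.cons (nat_lit 22) (nat_lit 4) (Step.U (nat_lit 432) (Step.U (nat_lit 89) (Step.L (Step.L (Step.L (Step.L (Step.L (Step.L (Step.L (Step.L (Step.L (Step.L (Step.D (nat_lit 747) Step.done))))))))))))) (Scr.cons (nat_lit 8) (nat_lit 1) (Step.L (Step.L (Step.D (nat_lit 89) Step.done))) (Scr.cons (nat_lit 12) (nat_lit 1) (Step.L (Step.D (nat_lit 747) (Step.F (nat_lit 172) (Step.U (nat_lit 432) (Step.F (nat_lit 173) (Step.L (Step.L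 (Step.L (Step.L (Step.L (Step.L (Step.L (Step.L Step.done))))))))))))) (Scr.cons (nat_lit 8) (nat_lit 2) (Step.L (Step.L (Step.D (nat_lit 433) Step.done))) (Scr.cons (nat_lit 19) (nat_lit 1) (Step.L (Step.B (nat_lit 175) (Step.U (nat_lit 433) (Step.L (Step.L (Step.L (Step.L (Step.L (Step.L (Step.L (Step.L (Step.L (Step.L Step.done))))))))))))) (Scr.cons (nat_lit 8) (nat_lit 2) (Step.L (Step.L (Step.D (nat_lit 1395) Step.done))) (Scr.cons (nat_lit 10) (nat_lit 1) (Step.L (Step.L (Step.L (Step.L (Step.L (Step.L (Step.L (Step.L (Step.L (Step.L (Step.L (Step.D (nat_lit 1395) (Step.F (nat_lit 177) Step.done))))))))))))) (Scr.cons (nat_lit 8) (nat_lit 2) (Step.U (nat_lit 829) (Step.L (Step.D (nat_lit 831) Step.done))) (Scr.cons (nat_lit 21) (nat_lit 11) (Step.L (Step.L (Step.L (Step.L (Step.L (Step.L (Step.L (Step.L (Step.L (Step.L (Step.L (Step.L (Step.D (nat_lit 833) Step.done))))))))))))) (Scr.cons (nat_lit 9) (nat_lit 0) (Step.L (Step.D (nat_lit 362) Step.done)) (Scr.cons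 (nat_lit 8) (nat_lit 2) (Step.F (nat_lit 180) (Step.B (nat_lit 181) (Step.D (nat_lit 1225) Step.done))) (Scr.cons (nat_lit 20) (nat_lit 2) (Step.L (Step.L (Step.L (Step.L (Step.D (nat_lit 833) (Step.B (nat_lit 182) (Step.U (nat_lit 1225) (Step.D (nat_lit 1226) Step.done)))))))) (Scr.cons (nat_lit 13) (nat_lit 2) (Step.U (nat_lit 583) (Step.F (nat_lit 156) (Step.L (Step.L (Step.L (Step.L (Step.L (Step.L (Step.D (nat_lit 362) (Step.D (nat_lit 1226) (Step.F (nat_lit 183) (Step.L (Step.D (nat_lit 832) Step.done))))))))))))) (Scr.cons (nat_lit 12) (nat_lit 12) (Step.L (Step.L (Step.L (Step.L (Step.L (Step.L (Step.L (Step.L (Step.L (Step.L (Step.L (Step.D (nat_lit 132) (Step.D (nat_lit 583) Step.done))))))))))))) (Scr.cons (nat_lit 21) (nat_lit 5) (Step.B (nat_lit 179) (Step.U (nat_lit 831) (Step.L (Step.L (Step.L (Step.D (nat_lit 832) (Step.F (nat_lit 184) (Step.F (nat_lit 185) (Step.L (Step.L (Step.L (Step.L (Step.D (nat_lit 777) Step.done))))))))))))) (Scr.cons (nat_lit 8)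 (nat_lit 2) (Step.U (nat_lit 777) (Step.L (Step.D (nat_lit 779) Step.done))) (Scr.cons (nat_lit 8) (nat_lit 3) (Step.L (Step.L (Step.D (nat_lit 776) Step.done))) (Scr.cons (nat_lit 9) (nat_lit 0) (Step.U (nat_lit 775) (Step.D (nat_lit 776) Step.done)) (Scr.cons (nat_lit 22) (nat_lit 0) (Step.U (nat_lit 780) (Step.L (Step.L (Step.L (Step.L (Step.L (Step.L (Step.L (Step.L (Step.L (Step.L (Step.L (Step.D (nat_lit 1406) Step.done))))))))))))) (Scr.cons (nat_lit 8) (nat_lit 2) (Step.B (nat_lit 190) (Step.U (nat_lit 1406) (Step.D (nat_lit 1405) Step.done))) (Scr.cons (nat_lit 12) (nat_lit 11) (Step.U (nat_lit 1380) (Step.L (Step.L (Step.L (Step.L (Step.L (Step.L (Step.L (Step.D (nat_lit 1405) (Step.F (nat_lit 191) (Step.U (nat_lit 780) (Step.B (nat_lit 188) (Step.F (nat_lit 189) Step.done))))))))))))) (Scr.cons (nat_lit 21) (nat_lit 1) (Step.L (Step.L (Step.L (Step.D (nat_lit 829) (Step.B (nat_lit 186) (Step.B (nat_lit 187) (Step.U (nat_lit 779) (Step.B (nat_lit 188) (Step.F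 (nat_lit 189) (Step.F (nat_lit 192) (Step.U (nat_lit 1380) (Step.L (Step.L (Step.D (nat_lit 1385) Step.done)))))))))))))) (Scr.cons (nat_lit 0) (nat_lit 0) (Step.D (nat_lit 1385) (Step.F (nat_lit 193) Step.done)) (Scr.cons (nat_lit 21) (nat_lit 7) (Step.U (nat_lit 1359) (Step.L (Step.L (Step.L (Step.L (Step.L (Step.L (Step.L (Step.L (Step.L (Step.L (Step.L (Step.D (nat_lit 1444) Step.done))))))))))))) (Scr.cons (nat_lit 8) (nat_lit 0) (Step.B (nat_lit 195) (Step.U (nat_lit 1444) (Step.L Step.done))) (Scr.cons (nat_lit 8) (nat_lit 2) (Step.U (nat_lit 1359) (Step.L (Step.L Step.done))) (Scr.cons (nat_lit 18) (nat_lit 0) (Step.F (nat_lit 196) (Step.B (nat_lit 197) Step.done)) (Scr.cons (nat_lit 9) (nat_lit 0) (Step.U (nat_lit 72) (Step.L Step.done)) (Scr.cons (nat_lit 8) (nat_lit 2) (Step.U (nat_lit 384) (Step.B (nat_lit 199) (Step.L Step.done))) (Scr.cons (nat_lit 8) (nat_lit 2) (Step.L (Step.L (Step.D (nat_lit 463) Step.done))) Scr.nil))))))))))))))))))))))))))))))))))))))))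
noncomputable def s5 : Scr := (Scr.cons (nat_lit 12) (nat_lit 8) (Step.U (nat_lit 384) (Step.U (nat_lit 72) (Step.L (Step.L (Step.L (Step.L (Step.L (Step.L (Step.L (Step.L (Step.L (Step.D (nat_lit 463) (Step.F (nat_lit 201) Step.done))))))))))))) (Scr.cons (nat_lit 13) (nat_lit 2) (Step.L (Step.F (nat_lit 200) (Step.B (nat_lit 202) (Step.L (Step.L (Step.L (Step.L (Step.L (Step.L (Step.L (Step.L (Step.L (Step.L Step.done))))))))))))) (Scr.cons (nat_lit 9) (nat_lit 0) (Step.U (nat_lit 110) (Step.L Step.done)) (Scr.cons (nat_lit 8) (nat_lit 2) (Step.U (nat_lit 505) (Step.B (nat_lit 204) (Step.D (nat_lit 506) Step.done))) (Scr.cons (nat_lit 9) (nat_lit 0) (Step.F (nat_lit 205) (Step.D (nat_lit 1534) Step.done)) (Scr.cons (nat_lit 8) (nat_lit 1) (Step.U (nat_lit 12) (Step.L (Step.D (nat_lit 110) Step.done))) (Scr.cons (nat_lit 8) (nat_lit 2) (Step.U (nat_lit 1561) (Step.L (Step.D (nat_lit 1562) Step.done))) (Scr.cons (nat_lit 10) (nat_lit 1) (Step.F (nat_lit 206) (Step.U (nat_lit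 506) (Step.F (nat_lit 204) (Step.F (nat_lit 207) (Step.U (nat_lit 12) (Step.L (Step.L (Step.L (Step.L (Step.L (Step.L (Step.D (nat_lit 1562) (Step.F (nat_lit 208) Step.done))))))))))))) (Scr.cons (nat_lit 8) (nat_lit 0) (Step.F (nat_lit 209) (Step.F (nat_lit 206) (Step.D (nat_lit 1535) Step.done))) (Scr.cons (nat_lit 18) (nat_lit 0) (Step.F (nat_lit 210) (Step.B (nat_lit 208) Step.done)) (Scr.cons (nat_lit 9) (nat_lit 0) (Step.U (nat_lit 351) (Step.D (nat_lit 352) Step.done)) (Scr.cons (nat_lit 8) (nat_lit 2) (Step.U (nat_lit 59) (Step.L (Step.D (nat_lit 60) Step.done))) (Scr.cons (nat_lit 9) (nat_lit 0) (Step.F (nat_lit 213) (Step.D (nat_lit 337) Step.done)) (Scr.cons (nat_lit 21) (nat_lit 1) (Step.U (nat_lit 6) (Step.L (Step.L (Step.L (Step.L (Step.L (Step.L (Step.L (Step.L (Step.L (Step.L (Step.L (Step.D (nat_lit 60) Step.done))))))))))))) (Scr.cons (nat_lit 8) (nat_lit 1) (Step.F (nat_lit 214) (Step.F (nat_lit 215) (Step.D (nat_lit 66) Step.done))) (Scr.cons (nat_lit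 20) (nat_lit 2) (Step.U (nat_lit 352) (Step.L (Step.L (Step.L (Step.D (nat_lit 6) (Step.D (nat_lit 66) (Step.F (nat_lit 216) (Step.D (nat_lit 1176) Step.done)))))))) (Scr.cons (nat_lit 9) (nat_lit 0) (Step.L (Step.D (nat_lit 70) Step.done)) (Scr.cons (nat_lit 8) (nat_lit 2) (Step.U (nat_lit 364) (Step.B (nat_lit 218) (Step.D (nat_lit 377) Step.done))) (Scr.cons (nat_lit 19) (nat_lit 1) (Step.U (nat_lit 335) (Step.B (nat_lit 213) (Step.U (nat_lit 60) (Step.L (Step.L (Step.L (Step.L (Step.L (Step.L (Step.L (Step.L (Step.B (nat_lit 218) (Step.D (nat_lit 377) Step.done))))))))))))) (Scr.cons (nat_lit 18) (nat_lit 0) (Step.B (nat_lit 219) (Step.F (nat_lit 220) Step.done)) (Scr.cons (nat_lit 21) (nat_lit 3) (Step.U (nat_lit 581) (Step.L (Step.L (Step.L (Step.L (Step.L (Step.L (Step.L (Step.L (Step.L (Step.L (Step.D (nat_lit 364) (Step.D (nat_lit 1238) Step.done))))))))))))) (Scr.cons (nat_lit 8) (nat_lit 3) (Step.U (nat_lit 121) (Step.L (Step.D (nat_lit 541) Step.done))) (Scr.cons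 (nat_lit 22) (nat_lit 1) (Step.U (nat_lit 1172) (Step.F (nat_lit 221) (Step.D (nat_lit 1238) (Step.F (nat_lit 222) (Step.U (nat_lit 581) (Step.L (Step.L (Step.L (Step.L (Step.L (Step.L (Step.L (Step.D (nat_lit 121) (Step.B (nat_lit 223) Step.done)))))))))))))) (Scr.cons (nat_lit 2) (nat_lit 0) (Step.D (nat_lit 1172) (Step.B (nat_lit 224) Step.done)) (Scr.cons (nat_lit 8) (nat_lit 3) (Step.F (nat_lit 220) (Step.U (nat_lit 335) (Step.D (nat_lit 337) Step.done))) (Scr.cons (nat_lit 11) (nat_lit 8) (Step.U (nat_lit 544) (Step.L (Step.L (Step.D (nat_lit 541) (Step.F (nat_lit 225) (Step.B (nat_lit 220) (Step.B (nat_lit 226) (Step.D (nat_lit 1176) Step.done)))))))) (Scr.cons (nat_lit 12) (nat_lit 3) (Step.U (nat_lit 1213) (Step.B (nat_lit 212) (Step.B (nat_lit 217) (Step.F (nat_lit 227) (Step.U (nat_lit 544) (Step.L (Step.L (Step.L (Step.L (Step.L (Step.L (Step.L (Step.D (nat_lit 110) (Step.D (nat_lit 505) Step.done)))))))))))))) (Scr.cons (nat_lit 2) (nat_lit 0) (Step.D (nat_lit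 1213) (Step.B (nat_lit 228) Step.done)) (Scr.cons (nat_lit 13) (nat_lit 6) (Step.F (nat_lit 211) (Step.U (nat_lit 1535) (Step.F (nat_lit 205) (Step.F (nat_lit 229) (Step.U (nat_lit 351) (Step.L (Step.L (Step.L (Step.L (Step.L (Step.L (Step.D (nat_lit 339) (Step.D (nat_lit 1181) Step.done))))))))))))) (Scr.cons (nat_lit 12) (nat_lit 7) (Step.U (nat_lit 1178) (Step.U (nat_lit 338) (Step.D (nat_lit 339) (Step.D (nat_lit 1181) (Step.F (nat_lit 230) (Step.U (nat_lit 1562) (Step.L (Step.L (Step.L (Step.L (Step.L (Step.L (Step.D (nat_lit 1567) Step.done))))))))))))) (Scr.cons (nat_lit 8) (nat_lit 3) (Step.B (nat_lit 231) (Step.U (nat_lit 1567) (Step.L Step.done))) (Scr.cons (nat_lit 20) (nat_lit 4) (Step.U (nat_lit 1156) (Step.L (Step.L (Step.L (Step.L (Step.L (Step.D (nat_lit 338) (Step.D (nat_lit 1179) Step.done)))))))) (Scr.cons (nat_lit 22) (nat_lit 6) (Step.L (Step.L (Step.L (Step.L (Step.L (Step.L (Step.L (Step.L (Step.F (nat_lit 232) (Step.U (nat_lit 1178) (Step.D (nat_lit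 1179) (Step.F (nat_lit 233) (Step.U (nat_lit 1156) (Step.D (nat_lit 1155) Step.done)))))))))))))) (Scr.cons (nat_lit 1) (nat_lit 0) (Step.D (nat_lit 1155) (Step.F (nat_lit 234) (Step.D (nat_lit 518) Step.done))) (Scr.cons (nat_lit 1) (nat_lit 0) (Step.D (nat_lit 518) (Step.F (nat_lit 235) Step.done)) (Scr.cons (nat_lit 8) (nat_lit 1) (Step.L (Step.D (nat_lit 566) (Step.D (nat_lit 1643) Step.done))) (Scr.cons (nat_lit 13) (nat_lit 1) (Step.L (Step.L (Step.L (Step.L (Step.L (Step.L (Step.L (Step.L (Step.L (Step.L (Step.L (Step.D (nat_lit 566) (Step.D (nat_lit 1643) Step.done))))))))))))) (Scr.cons (nat_lit 21) (nat_lit 2) (Step.L (Step.L (Step.L (Step.L (Step.L (Step.B (nat_lit 237) (Step.F (nat_lit 238) (Step.L (Step.L (Step.L (Step.B (nat_lit 77) (Step.U (nat_lit 410) (Step.L (Step.D (nat_lit 1330) Step.done)))))))))))))) (Scr.cons (nat_lit 1) (nat_lit 0) (Step.D (nat_lit 1330) (Step.F (nat_lit 239) (Step.D (nat_lit 1629) Step.done))) (Scr.cons (nat_lit 1) (nat_lit 0)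 (Step.D (nat_lit 1629) (Step.F (nat_lit 240) Step.done)) Scr.nil))))))))))))))))))))))))))))))))))))))))
noncomputable def s6 : Scr := (Scr.cons (nat_lit 8) (nat_lit 3) (Step.L (Step.D (nat_lit 348) (Step.D (nat_lit 1198) Step.done))) (Scr.cons (nat_lit 13) (nat_lit 4) (Step.B (nat_lit 158) (Step.F (nat_lit 242) (Step.L (Step.L (Step.L (Step.L (Step.L (Step.D (nat_lit 6) (Step.B (nat_lit 215) (Step.B (nat_lit 214) (Step.F (nat_lit 226) (Step.F (nat_lit 219) (Step.D (nat_lit 1238) Step.done))))))))))))) (Scr.cons (nat_lit 8) (nat_lit 1) (Step.F (nat_lit 243) (Step.B (nat_lit 157) (Step.L Step.done))) (Scr.cons (nat_lit 10) (nat_lit 0) (Step.L (Step.L (Step.F (nat_lit 244) (Step.F (nat_lit 243) (Step.U (nat_lit 582) (Step.F (nat_lit 156) (Step.L (Step.L (Step.L (Step.L (Step.L (Step.L (Step.L Step.done))))))))))))) (Scr.cons (nat_lit 20) (nat_lit 3) (Step.U (nat_lit 188) (Step.L (Step.L (Step.L (Step.L (Step.D (nat_lit 11) (Step.D (nat_lit 107) (Step.D (nat_lit 503) Step.done))))))))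 (Scr.cons (nat_lit 9) (nat_lit 0) (Step.F (nat_lit 45) (Step.B (nat_lit 246) Step.done)) (Scr.cons (nat_lit 11) (nat_lit 4) (Step.F (nat_lit 247) (Step.U (nat_lit 675) (Step.L (Step.L (Step.L (Step.L (Step.L (Step.L Step.done)))))))) (Scr.cons (nat_lit 12) (nat_lit 10) (Step.U (nat_lit 504) (Step.F (nat_lit 95) (Step.U (nat_lit 160) (Step.L (Step.L (Step.L (Step.L (Step.L (Step.L (Step.L (Step.L (Step.D (nat_lit 150) (Step.D (nat_lit 648) Step.done))))))))))))) (Scr.cons (nat_lit 8) (nat_lit 3) (Step.U (nat_lit 650) (Step.D (nat_lit 647) (Step.D (nat_lit 1757) Step.done))) (Scr.cons (nat_lit 8) (nat_lit 1) (Step.L (Step.L (Step.D (nat_lit 1749) Step.done))) (Scr.cons (nat_lit 11) (nat_lit 1) (Step.F (nat_lit 251) (Step.L (Step.L (Step.L (Step.L (Step.D (nat_lit 150) (Step.D (nat_lit 647) (Step.D (nat_lit 1757) Step.done)))))))) (Scr.cons (nat_lit 9) (nat_lit 0) (Step.U (nat_lit 1749) (Step.D (nat_lit 1750) Step.done)) (Scr.cons (nat_lit 12) (nat_lit 11) (Step.L (Step.L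 (Step.L (Step.L (Step.L (Step.L (Step.L (Step.L (Step.L (Step.L (Step.L (Step.L (Step.D (nat_lit 1750) Step.done))))))))))))) (Scr.cons (nat_lit 22) (nat_lit 4) (Step.U (nat_lit 799) (Step.B (nat_lit 246) (Step.U (nat_lit 503) (Step.U (nat_lit 107) (Step.D (nat_lit 108) (Step.D (nat_lit 504) (Step.B (nat_lit 249) (Step.U (nat_lit 648) (Step.D (nat_lit 650) (Step.B (nat_lit 250) (Step.F (nat_lit 252) (Step.B (nat_lit 253) (Step.F (nat_lit 254) Step.done))))))))))))) (Scr.cons (nat_lit 12) (nat_lit 8) (Step.U (nat_lit 729) (Step.L (Step.L (Step.L (Step.L (Step.L (Step.F (nat_lit 255) (Step.U (nat_lit 799) (Step.U (nat_lit 188) (Step.L (Step.L (Step.L (Step.L Step.done))))))))))))) (Scr.cons (nat_lit 8) (nat_lit 2) (Step.U (nat_lit 729) (Step.L (Step.L Step.done))) (Scr.cons (nat_lit 22) (nat_lit 3) (Step.U (nat_lit 1360) (Step.L (Step.L (Step.L (Step.L (Step.F (nat_lit 248) (Step.F (nat_lit 246) (Step.U (nat_lit 188) (Step.L (Step.L (Step.L (Step.L (Step.F (nat_lit 256)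 (Step.B (nat_lit 257) Step.done)))))))))))))) (Scr.cons (nat_lit 2) (nat_lit 0) (Step.D (nat_lit 1360) (Step.B (nat_lit 258) Step.done)) (Scr.cons (nat_lit 8) (nat_lit 2) (Step.U (nat_lit 1838) (Step.L (Step.D (nat_lit 1839) Step.done))) (Scr.cons (nat_lit 10) (nat_lit 1) (Step.L (Step.L (Step.L (Step.L (Step.L (Step.L (Step.L (Step.L (Step.L (Step.L (Step.L (Step.L (Step.D (nat_lit 1839) (Step.F (nat_lit 260) Step.done)))))))))))))) (Scr.cons (nat_lit 1) (nat_lit 0) (Step.D (nat_lit 1838) (Step.F (nat_lit 261) Step.done)) (Scr.cons (nat_lit 9) (nat_lit 0) (Step.U (nat_lit 723) (Step.L Step.done)) (Scr.cons (nat_lit 8) (nat_lit 2) (Step.U (nat_lit 1847) (Step.B (nat_lit 263) (Step.D (nat_lit 1848) Step.done))) (Scr.cons (nat_lit 10) (nat_lit 1) (Step.U (nat_lit 1066) (Step.L (Step.L (Step.L (Step.L (Step.L (Step.L (Step.L (Step.L (Step.L (Step.L (Step.D (nat_lit 1848) (Step.F (nat_lit 264) Step.done))))))))))))) (Scr.cons (nat_lit 8) (nat_lit 0) (Step.F (nat_lit 265) (Step.U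 (nat_lit 1066) (Step.L Step.done))) (Scr.cons (nat_lit 18) (nat_lit 0) (Step.L (Step.F (nat_lit 266) (Step.B (nat_lit 264) Step.done))) (Scr.cons (nat_lit 0) (nat_lit 0) (Step.D (nat_lit 1848) (Step.F (nat_lit 267) Step.done)) (Scr.cons (nat_lit 9) (nat_lit 0) (Step.U (nat_lit 179) (Step.L Step.done)) (Scr.cons (nat_lit 9) (nat_lit 0) (Step.U (nat_lit 721) (Step.D (nat_lit 722) Step.done)) (Scr.cons (nat_lit 3) (nat_lit 0) (Step.F (nat_lit 270) (Step.F (nat_lit 84) Step.done)) (Scr.cons (nat_lit 8) (nat_lit 1) (Step.U (nat_lit 179) (Step.L (Step.F (nat_lit 271) Step.done))) (Scr.cons (nat_lit 8) (nat_lit 2) (Step.U (nat_lit 1851) (Step.L (Step.D (nat_lit 1852) Step.done))) (Scr.cons (nat_lit 10) (nat_lit 1) (Step.L (Step.F (nat_lit 269) (Step.B (nat_lit 272) (Step.B (nat_lit 271) (Step.L (Step.L (Step.L (Step.L (Step.L (Step.L (Step.L (Step.L (Step.D (nat_lit 1852) (Step.F (nat_lit 273) Step.done)))))))))))))) (Scr.cons (nat_lit 1) (nat_lit 0) (Step.D (nat_lit 1851) (Step.F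 (nat_lit 274) Step.done)) (Scr.cons (nat_lit 8) (nat_lit 2) (Step.U (nat_lit 168) (Step.L (Step.D (nat_lit 169) Step.done))) (Scr.cons (nat_lit 12) (nat_lit 12) (Step.U (nat_lit 169) (Step.L (Step.L (Step.L (Step.L (Step.L (Step.L (Step.L (Step.L (Step.L (Step.L (Step.L (Step.L Step.done))))))))))))) (Scr.cons (nat_lit 9) (nat_lit 0) (Step.L (Step.D (nat_lit 753) Step.done)) (Scr.cons (nat_lit 8) (nat_lit 1) (Step.F (nat_lit 278) (Step.L (Step.D (nat_lit 1079) Step.done))) (Scr.cons (nat_lit 20) (nat_lit 2) (Step.U (nat_lit 1077) (Step.U (nat_lit 296) (Step.L (Step.L (Step.L (Step.D (nat_lit 1079) (Step.F (nat_lit 279) (Step.D (nat_lit 1884) Step.done)))))))) (Scr.cons (nat_lit 12) (nat_lit 7) (Step.U (nat_lit 711) (Step.B (nat_lit 277) (Step.L (Step.L (Step.L (Step.L (Step.L (Step.L (Step.L (Step.L (Step.L (Step.L (Step.L Step.done))))))))))))) Scr.nil))))))))))))))))))))))))))))))))))))))))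
noncomputable def s7 : Scr := (Scr.cons (nat_lit 11) (nat_lit 6) (Step.U (nat_lit 296) (Step.L (Step.F (nat_lit 281) (Step.U (nat_lit 711) (Step.U (nat_lit 169) (Step.L (Step.L (Step.D (nat_lit 710) Step.done)))))))) (Scr.cons (nat_lit 9) (nat_lit 0) (Step.L (Step.D (nat_lit 710) Step.done)) (Scr.cons (nat_lit 13) (nat_lit 4) (Step.L (Step.L (Step.D (nat_lit 168) (Step.B (nat_lit 276) (Step.B (nat_lit 277) (Step.L (Step.L (Step.D (nat_lit 753) (Step.D (nat_lit 1884) (Step.F (nat_lit 280) (Step.U (nat_lit 1077) (Step.B (nat_lit 282) (Step.F (nat_lit 283) (Step.D (nat_lit 1834) Step.done)))))))))))))) (Scr.cons (nat_lit 2) (nat_lit 0) (Step.D (nat_lit 1834) (Step.F (nat_lit 284) Step.done)) (Scr.cons (nat_lit 11) (nat_lit 2) (Step.L (Step.L (Step.L (Step.L (Step.L (Step.L (Step.L (Step.D (nat_lit 950) Step.done)))))))) (Scr.cons (nat_lit 11) (nat_lit 5) (Step.U (nat_lit 246) (Step.L (Step.L (Step.L (Step.L (Step.L (Step.L (Step.D (nat_lit 950) Step.done)))))))) (Scr.cons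 (nat_lit 9) (nat_lit 0) (Step.F (nat_lit 287) (Step.D (nat_lit 958) Step.done)) (Scr.cons (nat_lit 13) (nat_lit 3) (Step.F (nat_lit 288) (Step.U (nat_lit 950) (Step.L (Step.L (Step.L (Step.L (Step.L (Step.L (Step.L (Step.L (Step.L (Step.D (nat_lit 773) (Step.D (nat_lit 1904) Step.done))))))))))))) (Scr.cons (nat_lit 12) (nat_lit 2) (Step.B (nat_lit 289) (Step.U (nat_lit 1904) (Step.U (nat_lit 773) (Step.L (Step.L (Step.L (Step.L (Step.L (Step.L (Step.L (Step.L (Step.L (Step.D (nat_lit 1923) Step.done))))))))))))) (Scr.cons (nat_lit 8) (nat_lit 2) (Step.F (nat_lit 290) (Step.U (nat_lit 958) (Step.D (nat_lit 957) Step.done))) (Scr.cons (nat_lit 8) (nat_lit 1) (Step.L (Step.L (Step.D (nat_lit 1923) Step.done))) (Scr.cons (nat_lit 9) (nat_lit 0) (Step.L (Step.D (nat_lit 586) Step.done)) (Scr.cons (nat_lit 8) (nat_lit 1) (Step.F (nat_lit 293) (Step.L (Step.L Step.done))) (Scr.cons (nat_lit 10) (nat_lit 0) (Step.L (Step.B (nat_lit 286) (Step.F (nat_lit 287) (Step.D (nat_lit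 957) (Step.F (nat_lit 291) (Step.F (nat_lit 292) (Step.L (Step.L (Step.L (Step.F (nat_lit 294) (Step.F (nat_lit 293) (Step.L (Step.L (Step.D (nat_lit 1678) Step.done)))))))))))))) (Scr.cons (nat_lit 0) (nat_lit 0) (Step.D (nat_lit 1678) (Step.F (nat_lit 295) (Step.D (nat_lit 959) Step.done))) (Scr.cons (nat_lit 0) (nat_lit 0) (Step.D (nat_lit 959) (Step.F (nat_lit 296) Step.done)) (Scr.cons (nat_lit 8) (nat_lit 3) (Step.L (Step.L (Step.D (nat_lit 956) Step.done))) (Scr.cons (nat_lit 12) (nat_lit 3) (Step.U (nat_lit 1699) (Step.L (Step.L (Step.L (Step.L (Step.L (Step.L (Step.L (Step.L (Step.L (Step.L (Step.B (nat_lit 298) (Step.U (nat_lit 956) (Step.L Step.done)))))))))))))) (Scr.cons (nat_lit 2) (nat_lit 0) (Step.D (nat_lit 1699) (Step.B (nat_lit 299) Step.done)) (Scr.cons (nat_lit 8) (nat_lit 2) (Step.U (nat_lit 1323) (Step.L (Step.D (nat_lit 1324) Step.done))) (Scr.cons (nat_lit 12) (nat_lit 8) (Step.F (nat_lit 126) (Step.U (nat_lit 482) (Step.L (Step.L (Step.L (Step.L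 (Step.L (Step.L (Step.L (Step.L (Step.L (Step.D (nat_lit 827) (Step.D (nat_lit 1964) Step.done))))))))))))) (Scr.cons (nat_lit 20) (nat_lit 8) (Step.B (nat_lit 301) (Step.U (nat_lit 1324) (Step.L (Step.D (nat_lit 1037) (Step.B (nat_lit 123) (Step.B (nat_lit 302) (Step.U (nat_lit 1964) (Step.U (nat_lit 827) (Step.L Step.done))))))))) (Scr.cons (nat_lit 1) (nat_lit 0) (Step.D (nat_lit 1323) (Step.B (nat_lit 303) Step.done)) (Scr.cons (nat_lit 9) (nat_lit 0) (Step.U (nat_lit 1278) (Step.D (nat_lit 1279) Step.done)) (Scr.cons (nat_lit 8) (nat_lit 1) (Step.L (Step.L (Step.D (nat_lit 1278) Step.done))) (Scr.cons (nat_lit 8) (nat_lit 2) (Step.U (nat_lit 1251) (Step.L (Step.D (nat_lit 1253) Step.done))) (Scr.cons (nat_lit 10) (nat_lit 1) (Step.F (nat_lit 305) (Step.F (nat_lit 306) (Step.L (Step.L (Step.L (Step.L (Step.L (Step.L (Step.L (Step.L (Step.L (Step.D (nat_lit 1253) (Step.F (nat_lit 307) Step.done))))))))))))) (Scr.cons (nat_lit 22) (nat_lit 3) (Step.L (Step.L (Step.L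 (Step.L (Step.L (Step.L (Step.L (Step.L (Step.L (Step.L (Step.L (Step.L (Step.D (nat_lit 1973) Step.done))))))))))))) (Scr.cons (nat_lit 12) (nat_lit 2) (Step.F (nat_lit 309) (Step.L (Step.L (Step.L (Step.L (Step.L (Step.L (Step.L (Step.L (Step.L (Step.L (Step.L (Step.D (nat_lit 1278) Step.done))))))))))))) (Scr.cons (nat_lit 8) (nat_lit 0) (Step.F (nat_lit 308) (Step.F (nat_lit 305) (Step.F (nat_lit 310) Step.done))) (Scr.cons (nat_lit 18) (nat_lit 0) (Step.D (nat_lit 1973) (Step.F (nat_lit 311) (Step.B (nat_lit 307) Step.done))) (Scr.cons (nat_lit 0) (nat_lit 0) (Step.D (nat_lit 1253) (Step.F (nat_lit 312) (Step.D (nat_lit 1971) Step.done))) (Scr.cons (nat_lit 0) (nat_lit 0) (Step.D (nat_lit 1971) (Step.F (nat_lit 313) Step.done)) (Scr.cons (nat_lit 8) (nat_lit 2) (Step.L (Step.L (Step.D (nat_lit 1078) Step.done))) (Scr.cons (nat_lit 9) (nat_lit 0) (Step.L (Step.D (nat_lit 887) Step.done)) (Scr.cons (nat_lit 8) (nat_lit 2) (Step.U (nat_lit 2009) (Step.B (nat_lit 316)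 (Step.D (nat_lit 2011) Step.done))) (Scr.cons (nat_lit 10) (nat_lit 1) (Step.U (nat_lit 1078) (Step.L (Step.L (Step.L (Step.L (Step.L (Step.L (Step.L (Step.D (nat_lit 160) (Step.F (nat_lit 90) (Step.L (Step.D (nat_lit 887) (Step.D (nat_lit 2011) (Step.F (nat_lit 317) Step.done)))))))))))))) (Scr.cons (nat_lit 1) (nat_lit 0) (Step.D (nat_lit 2009) (Step.F (nat_lit 318) Step.done)) (Scr.cons (nat_lit 20) (nat_lit 3) (Step.L (Step.L (Step.L (Step.L (Step.L (Step.L (Step.L (Step.D (nat_lit 835) Step.done)))))))) (Scr.cons (nat_lit 8) (nat_lit 1) (Step.B (nat_lit 320) (Step.U (nat_lit 835) (Step.D (nat_lit 836) Step.done))) Scr.nil))))))))))))))))))))))))))))))))))))))))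
noncomputable def s8 : Scr := (Scr.cons (nat_lit 21) (nat_lit 1) (Step.U (nat_lit 830) (Step.L (Step.L (Step.L (Step.D (nat_lit 836) (Step.F (nat_lit 321) (Step.L (Step.L (Step.L (Step.L (Step.L (Step.L (Step.L Step.done))))))))))))) (Scr.cons (nat_lit 21) (nat_lit 13) (Step.U (nat_lit 267) (Step.U (nat_lit 46) (Step.L (Step.L (Step.L (Step.L (Step.L (Step.L (Step.L (Step.L (Step.L (Step.L (Step.L Step.done))))))))))))) (Scr.cons (nat_lit 8) (nat_lit 3) (Step.U (nat_lit 268) (Step.D (nat_lit 267) (Step.D (nat_lit 1011) Step.done))) (Scr.cons (nat_lit 12) (nat_lit 13) (Step.F (nat_lit 324) (Step.U (nat_lit 268) (Step.U (nat_lit 46) (Step.L (Step.L (Step.L (Step.L (Step.L (Step.L (Step.L (Step.L (Step.L (Step.L Step.done))))))))))))) (Scr.cons (nat_lit 12) (nat_lit 10) (Step.U (nat_lit 1012) (Step.B (nat_lit 324) (Step.B (nat_lit 325) (Step.L (Step.B (nat_lit 124) (Step.U (nat_lit 103) (Step.L (Step.L (Step.B (nat_lit 140) (Step.F (nat_lit 142) (Step.U (nat_lit 297) (Step.L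 (Step.L Step.done))))))))))))) (Scr.cons (nat_lit 22) (nat_lit 3) (Step.B (nat_lit 315) (Step.F (nat_lit 319) (Step.L (Step.F (nat_lit 322) (Step.U (nat_lit 830) (Step.L (Step.L (Step.L (Step.F (nat_lit 323) (Step.D (nat_lit 1011) (Step.F (nat_lit 324) (Step.D (nat_lit 1012) (Step.B (nat_lit 326) Step.done))))))))))))) (Scr.cons (nat_lit 8) (nat_lit 1) (Step.L (Step.L (Step.D (nat_lit 2031) Step.done))) (Scr.cons (nat_lit 19) (nat_lit 0) (Step.U (nat_lit 2030) (Step.D (nat_lit 2031) (Step.F (nat_lit 328) (Step.L (Step.L (Step.L (Step.L (Step.L (Step.L (Step.L (Step.L (Step.L (Step.L (Step.L Step.done)))))))))))))) (Scr.cons (nat_lit 0) (nat_lit 0) (Step.D (nat_lit 2030) (Step.B (nat_lit 329) Step.done)) (Scr.cons (nat_lit 9) (nat_lit 0) (Step.L (Step.D (nat_lit 731) Step.done)) (Scr.cons (nat_lit 8) (nat_lit 3) (Step.U (nat_lit 172) (Step.L (Step.D (nat_lit 731) Step.done))) (Scr.cons (nat_lit 21) (nat_lit 11) (Step.L (Step.L (Step.L (Step.L (Step.L (Step.L (Step.L (Step.L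 (Step.L (Step.L (Step.L (Step.L (Step.D (nat_lit 300) Step.done))))))))))))) (Scr.cons (nat_lit 9) (nat_lit 0) (Step.L (Step.D (nat_lit 172) Step.done)) (Scr.cons (nat_lit 8) (nat_lit 2) (Step.F (nat_lit 333) (Step.B (nat_lit 334) (Step.D (nat_lit 733) Step.done))) (Scr.cons (nat_lit 8) (nat_lit 3) (Step.L (Step.L (Step.D (nat_lit 298) Step.done))) (Scr.cons (nat_lit 9) (nat_lit 0) (Step.U (nat_lit 297) (Step.D (nat_lit 298) Step.done)) (Scr.cons (nat_lit 20) (nat_lit 5) (Step.U (nat_lit 555) (Step.U (nat_lit 126) (Step.U (nat_lit 14) (Step.L (Step.L (Step.L (Step.L (Step.D (nat_lit 987) Step.done)))))))) (Scr.cons (nat_lit 9) (nat_lit 0) (Step.U (nat_lit 965) (Step.D (nat_lit 966) Step.done)) (Scr.cons (nat_lit 8) (nat_lit 1) (Step.U (nat_lit 249) (Step.D (nat_lit 247) (Step.D (nat_lit 965) Step.done))) (Scr.cons (nat_lit 10) (nat_lit 1) (Step.F (nat_lit 339) (Step.F (nat_lit 340) (Step.U (nat_lit 249) (Step.U (nat_lit 38) (Step.D (nat_lit 40) (Step.F (nat_lit 93) (Step.L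 (Step.L (Step.L (Step.L (Step.L (Step.L (Step.D (nat_lit 298) Step.done))))))))))))) (Scr.cons (nat_lit 8) (nat_lit 3) (Step.B (nat_lit 339) (Step.B (nat_lit 341) (Step.F (nat_lit 337) Step.done))) (Scr.cons (nat_lit 12) (nat_lit 4) (Step.U (nat_lit 556) (Step.D (nat_lit 555) (Step.B (nat_lit 338) (Step.U (nat_lit 987) (Step.L (Step.L (Step.L (Step.L (Step.D (nat_lit 38) (Step.D (nat_lit 247) (Step.D (nat_lit 965) (Step.B (nat_lit 342) (Step.D (nat_lit 1085) Step.done))))))))))))) (Scr.cons (nat_lit 21) (nat_lit 0) (Step.L (Step.L (Step.L (Step.L (Step.L (Step.L (Step.L (Step.L (Step.D (nat_lit 14) (Step.D (nat_lit 126) (Step.D (nat_lit 556) (Step.B (nat_lit 343) (Step.D (nat_lit 2158) Step.done))))))))))))) (Scr.cons (nat_lit 12) (nat_lit 2) (Step.L (Step.B (nat_lit 331) (Step.F (nat_lit 332) (Step.D (nat_lit 733) (Step.F (nat_lit 335) (Step.U (nat_lit 300) (Step.B (nat_lit 336) (Step.F (nat_lit 337) (Step.D (nat_lit 1085) (Step.D (nat_lit 2158) (Step.F (nat_lit 344)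 (Step.L (Step.L Step.done))))))))))))) (Scr.cons (nat_lit 18) (nat_lit 0) (Step.L (Step.D (nat_lit 676) Step.done)) (Scr.cons (nat_lit 8) (nat_lit 0) (Step.U (nat_lit 1091) (Step.B (nat_lit 346) (Step.D (nat_lit 1792) Step.done))) (Scr.cons (nat_lit 19) (nat_lit 1) (Step.U (nat_lit 708) (Step.B (nat_lit 276) (Step.U (nat_lit 169) (Step.L (Step.L (Step.L (Step.L (Step.L (Step.L (Step.L (Step.L (Step.L (Step.D (nat_lit 728) Step.done))))))))))))) (Scr.cons (nat_lit 8) (nat_lit 3) (Step.F (nat_lit 348) (Step.U (nat_lit 708) (Step.D (nat_lit 709) Step.done))) (Scr.cons (nat_lit 21) (nat_lit 12) (Step.F (nat_lit 277) (Step.U (nat_lit 169) (Step.L (Step.L (Step.L (Step.L (Step.L (Step.B (nat_lit 14) (Step.B (nat_lit 13) (Step.L (Step.L (Step.L (Step.D (nat_lit 835) Step.done))))))))))))) (Scr.cons (nat_lit 9) (nat_lit 0) (Step.F (nat_lit 276) (Step.D (nat_lit 709) Step.done)) (Scr.cons (nat_lit 8) (nat_lit 1) (Step.F (nat_lit 350) (Step.F (nat_lit 277) (Step.B (nat_lit 351)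 Step.done))) (Scr.cons (nat_lit 3) (nat_lit 0) (Step.F (nat_lit 66) (Step.B (nat_lit 68) Step.done)) (Scr.cons (nat_lit 8) (nat_lit 3) (Step.U (nat_lit 133) (Step.L (Step.D (nat_lit 595) Step.done))) (Scr.cons (nat_lit 9) (nat_lit 0) (Step.L (Step.D (nat_lit 595) Step.done)) (Scr.cons (nat_lit 21) (nat_lit 11) (Step.B (nat_lit 348) (Step.B (nat_lit 349) (Step.F (nat_lit 352) (Step.U (nat_lit 835) (Step.L (Step.L (Step.L (Step.D (nat_lit 197) (Step.F (nat_lit 353) (Step.U (nat_lit 598) (Step.B (nat_lit 354) (Step.F (nat_lit 355) (Step.D (nat_lit 1700) Step.done))))))))))))) (Scr.cons (nat_lit 8) (nat_lit 2) (Step.U (nat_lit 725) (Step.L (Step.D (nat_lit 728) Step.done))) (Scr.cons (nat_lit 18) (nat_lit 0) (Step.B (nat_lit 357) (Step.F (nat_lit 348) Step.done)) (Scr.cons (nat_lit 8) (nat_lit 2) (Step.F (nat_lit 356) (Step.F (nat_lit 358) (Step.D (nat_lit 1850) Step.done))) (Scr.cons (nat_lit 8) (nat_lit 1) (Step.F (nat_lit 247) (Step.U (nat_lit 675) (Step.D (nat_lit 676)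 Step.done))) (Scr.cons (nat_lit 8) (nat_lit 2) (Step.U (nat_lit 799) (Step.B (nat_lit 45) (Step.D (nat_lit 1791) Step.done))) Scr.nil))))))))))))))))))))))))))))))))))))))))
noncomputable def s9 : Scr := (Scr.cons (nat_lit 8) (nat_lit 1) (Step.L (Step.L (Step.F (nat_lit 255) Step.done))) (Scr.cons (nat_lit 10) (nat_lit 1) (Step.U (nat_lit 1091) (Step.B (nat_lit 346) (Step.F (nat_lit 360) (Step.F (nat_lit 247) (Step.D (nat_lit 1791) (Step.F (nat_lit 361) (Step.F (nat_lit 362) (Step.L (Step.L (Step.L (Step.D (nat_lit 728) (Step.F (nat_lit 357) (Step.D (nat_lit 1850) (Step.F (nat_lit 359) Step.done)))))))))))))) (Scr.cons (nat_lit 3) (nat_lit 0) (Step.F (nat_lit 359) (Step.F (nat_lit 363) Step.done)) (Scr.cons (nat_lit 18) (nat_lit 0) (Step.F (nat_lit 347) (Step.F (nat_lit 364) Step.done)) (Scr.cons (nat_lit 9) (nat_lit 0) (Step.L (Step.D (nat_lit 301) Step.done)) (Scr.cons (nat_lit 8) (nat_lit 1) (Step.F (nat_lit 366) (Step.L (Step.L Step.done))) (Scr.cons (nat_lit 10) (nat_lit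 1) (Step.B (nat_lit 365) (Step.U (nat_lit 1850) (Step.B (nat_lit 358) (Step.U (nat_lit 708) (Step.D (nat_lit 709) (Step.F (nat_lit 352) (Step.F (nat_lit 350) (Step.F (nat_lit 367) (Step.F (nat_lit 366) (Step.L (Step.L (Step.L (Step.D (nat_lit 2170) Step.done))))))))))))) (Scr.cons (nat_lit 8) (nat_lit 3) (Step.L (Step.L (Step.D (nat_lit 2170) Step.done))) (Scr.cons (nat_lit 21) (nat_lit 3) (Step.U (nat_lit 2159) (Step.U (nat_lit 1086) (Step.U (nat_lit 298) (Step.L (Step.L (Step.L (Step.L (Step.L (Step.B (nat_lit 346) (Step.D (nat_lit 1792) (Step.B (nat_lit 368) (Step.F (nat_lit 369) (Step.D (nat_lit 2171) Step.done))))))))))))) (Scr.cons (nat_lit 20) (nat_lit 2) (Step.U (nat_lit 2160) (Step.U (nat_lit 1086) (Step.U (nat_lit 298) (Step.L (Step.L (Step.L (Step.L (Step.D (nat_lit 2161) Step.done)))))))) (Scr.cons (nat_lit 22) (nat_lit 4) (Step.L (Step.L (Step.L (Step.L (Step.L (Step.L (Step.D (nat_lit 2171) (Step.F (nat_lit 370) (Step.U (nat_lit 2159) (Step.D (nat_lit 2160)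 (Step.B (nat_lit 371) (Step.U (nat_lit 2161) (Step.L (Step.D (nat_lit 2162) Step.done)))))))))))))) (Scr.cons (nat_lit 2) (nat_lit 0) (Step.D (nat_lit 2162) (Step.F (nat_lit 372) Step.done)) (Scr.cons (nat_lit 20) (nat_lit 3) (Step.U (nat_lit 353) (Step.L (Step.L (Step.L (Step.L (Step.B (nat_lit 93) (Step.D (nat_lit 252) (Step.D (nat_lit 982) Step.done)))))))) (Scr.cons (nat_lit 18) (nat_lit 0) (Step.F (nat_lit 374) (Step.D (nat_lit 1215) Step.done)) (Scr.cons (nat_lit 21) (nat_lit 0) (Step.U (nat_lit 2111) (Step.U (nat_lit 1012) (Step.U (nat_lit 268) (Step.U (nat_lit 46) (Step.L (Step.L (Step.L (Step.L (Step.D (nat_lit 40) (Step.D (nat_lit 252) (Step.D (nat_lit 982) (Step.B (nat_lit 375) (Step.D (nat_lit 2271) Step.done))))))))))))) (Scr.cons (nat_lit 12) (nat_lit 10) (Step.U (nat_lit 1232) (Step.L (Step.L (Step.L (Step.L (Step.L (Step.L (Step.L (Step.F (nat_lit 323) (Step.U (nat_lit 267) (Step.D (nat_lit 268) (Step.D (nat_lit 1012) (Step.D (nat_lit 2111) Step.done)))))))))))))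 (Scr.cons (nat_lit 8) (nat_lit 0) (Step.F (nat_lit 376) (Step.F (nat_lit 377) (Step.D (nat_lit 2277) Step.done))) (Scr.cons (nat_lit 19) (nat_lit 1) (Step.U (nat_lit 2013) (Step.F (nat_lit 162) (Step.L (Step.L (Step.L (Step.L (Step.L (Step.L (Step.L (Step.L (Step.L (Step.L (Step.D (nat_lit 2023) Step.done))))))))))))) (Scr.cons (nat_lit 18) (nat_lit 0) (Step.F (nat_lit 162) (Step.D (nat_lit 1318) Step.done)) (Scr.cons (nat_lit 8) (nat_lit 3) (Step.F (nat_lit 379) (Step.U (nat_lit 2013) (Step.B (nat_lit 380) Step.done))) (Scr.cons (nat_lit 8) (nat_lit 2) (Step.L (Step.L (Step.D (nat_lit 2023) Step.done))) (Scr.cons (nat_lit 13) (nat_lit 4) (Step.L (Step.D (nat_lit 1232) (Step.D (nat_lit 2277) (Step.F (nat_lit 378) (Step.U (nat_lit 2271) (Step.U (nat_lit 1215) (Step.U (nat_lit 353) (Step.L (Step.L (Step.L (Step.D (nat_lit 1318) (Step.F (nat_lit 381) (Step.F (nat_lit 382) (Step.D (nat_lit 2025) Step.done)))))))))))))) (Scr.cons (nat_lit 2) (nat_lit 0) (Step.D (nat_lit 2025)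 (Step.F (nat_lit 383) (Step.D (nat_lit 1236) Step.done))) (Scr.cons (nat_lit 2) (nat_lit 0) (Step.D (nat_lit 1236) (Step.F (nat_lit 384) Step.done)) (Scr.cons (nat_lit 9) (nat_lit 0) (Step.L (Step.D (nat_lit 1233) Step.done)) (Scr.cons (nat_lit 21) (nat_lit 6) (Step.U (nat_lit 1231) (Step.L (Step.L (Step.L (Step.L (Step.L (Step.L (Step.L (Step.L (Step.L (Step.L (Step.D (nat_lit 1160) (Step.D (nat_lit 2222) Step.done))))))))))))) (Scr.cons (nat_lit 8) (nat_lit 3) (Step.F (nat_lit 387) (Step.U (nat_lit 1231) (Step.D (nat_lit 1233) Step.done))) (Scr.cons (nat_lit 8) (nat_lit 2) (Step.U (nat_lit 1160) (Step.L (Step.D (nat_lit 1161) Step.done))) (Scr.cons (nat_lit 8) (nat_lit 3) (Step.L (Step.L (Step.D (nat_lit 1156) Step.done))) (Scr.cons (nat_lit 8) (nat_lit 2) (Step.U (nat_lit 518) (Step.L (Step.L Step.done))) (Scr.cons (nat_lit 9) (nat_lit 0) (Step.F (nat_lit 391) (Step.D (nat_lit 1551) Step.done)) (Scr.cons (nat_lit 3) (nat_lit 0) (Step.U (nat_lit 1551) (Step.F (nat_lit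 235) (Step.D (nat_lit 1156) Step.done))) (Scr.cons (nat_lit 3) (nat_lit 1) (Step.B (nat_lit 392) (Step.B (nat_lit 393) Step.done)) (Scr.cons (nat_lit 21) (nat_lit 11) (Step.L (Step.L (Step.L (Step.L (Step.L (Step.L (Step.B (nat_lit 386) (Step.F (nat_lit 388) (Step.U (nat_lit 2222) (Step.B (nat_lit 389) (Step.U (nat_lit 1161) (Step.B (nat_lit 390) (Step.F (nat_lit 394) (Step.D (nat_lit 1552) Step.done)))))))))))))) (Scr.cons (nat_lit 2) (nat_lit 0) (Step.D (nat_lit 1552) (Step.F (nat_lit 395) (Step.D (nat_lit 901) Step.done))) (Scr.cons (nat_lit 2) (nat_lit 0) (Step.D (nat_lit 901) (Step.F (nat_lit 396) Step.done)) (Scr.cons (nat_lit 8) (nat_lit 1) (Step.L (Step.L (Step.D (nat_lit 902) Step.done))) (Scr.cons (nat_lit 20) (nat_lit 3) (Step.L (Step.L (Step.L (Step.L (Step.L (Step.D (nat_lit 902) (Step.F (nat_lit 398) (Step.L (Step.D (nat_lit 2022) Step.done))))))))) (Scr.cons (nat_lit 1) (nat_lit 0) (Step.D (nat_lit 2022) (Step.F (nat_lit 399) Step.done)) (Scr.cons (nat_lit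 9) (nat_lit 0) (Step.L (Step.D (nat_lit 1121) Step.done)) Scr.nil))))))))))))))))))))))))))))))))))))))))
noncomputable def s10 : Scr := (Scr.cons (nat_lit 20) (nat_lit 4) (Step.U (nat_lit 317) (Step.L (Step.L (Step.L (Step.L (Step.L (Step.L (Step.D (nat_lit 327) Step.done)))))))) (Scr.cons (nat_lit 9) (nat_lit 0) (Step.U (nat_lit 327) (Step.L Step.done)) (Scr.cons (nat_lit 8) (nat_lit 0) (Step.B (nat_lit 403) (Step.L (Step.L (Step.L Step.done)))) (Scr.cons (nat_lit 2) (nat_lit 0) (Step.B (nat_lit 402) (Step.B (nat_lit 404) Step.done)) (Scr.cons (nat_lit 21) (nat_lit 6) (Step.U (nat_lit 1119) (Step.L (Step.D (nat_lit 317) (Step.B (nat_lit 405) (Step.L (Step.L (Step.L (Step.L (Step.L (Step.L (Step.L (Step.L (Step.D (nat_lit 1735) Step.done))))))))))))) (Scr.cons (nat_lit 8) (nat_lit 3) (Step.F (nat_lit 406) (Step.U (nat_lit 1119) (Step.D (nat_lit 1121) Step.done))) (Scr.cons (nat_lit 8) (nat_lit 1) (Step.U (nat_lit 1366) (Step.D (nat_lit 1365) (Step.D (nat_lit 2368) Step.done)))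 (Scr.cons (nat_lit 13) (nat_lit 1) (Step.U (nat_lit 1732) (Step.L (Step.L (Step.D (nat_lit 1735) (Step.B (nat_lit 407) (Step.U (nat_lit 1121) (Step.L (Step.D (nat_lit 317) (Step.B (nat_lit 405) (Step.L (Step.L (Step.D (nat_lit 1148) (Step.D (nat_lit 2208) Step.done))))))))))))) (Scr.cons (nat_lit 8) (nat_lit 1) (Step.L (Step.D (nat_lit 1148) (Step.D (nat_lit 2208) Step.done))) (Scr.cons (nat_lit 12) (nat_lit 0) (Step.U (nat_lit 1731) (Step.L (Step.L (Step.D (nat_lit 1732) (Step.B (nat_lit 409) (Step.F (nat_lit 410) (Step.L (Step.L (Step.L (Step.L (Step.L (Step.D (nat_lit 1149) (Step.D (nat_lit 2209) Step.done))))))))))))) (Scr.cons (nat_lit 9) (nat_lit 0) (Step.U (nat_lit 1366) (Step.D (nat_lit 1367) Step.done)) (Scr.cons (nat_lit 8) (nat_lit 2) (Step.U (nat_lit 2369) (Step.B (nat_lit 412) (Step.D (nat_lit 2371) Step.done))) (Scr.cons (nat_lit 8) (nat_lit 1) (Step.L (Step.D (nat_lit 429) (Step.D (nat_lit 1355) Step.done))) (Scr.cons (nat_lit 22) (nat_lit 4) (Step.U (nat_lit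 2360) (Step.U (nat_lit 1355) (Step.U (nat_lit 429) (Step.L (Step.L (Step.L (Step.L (Step.L (Step.L (Step.L (Step.L (Step.D (nat_lit 1366) (Step.D (nat_lit 2370) Step.done))))))))))))) (Scr.cons (nat_lit 21) (nat_lit 12) (Step.U (nat_lit 2363) (Step.L (Step.L (Step.L (Step.L (Step.L (Step.L (Step.L (Step.B (nat_lit 414) (Step.D (nat_lit 2360) (Step.B (nat_lit 415) (Step.U (nat_lit 2370) (Step.D (nat_lit 2369) Step.done))))))))))))) (Scr.cons (nat_lit 8) (nat_lit 1) (Step.F (nat_lit 416) (Step.U (nat_lit 2363) (Step.D (nat_lit 2364) Step.done))) (Scr.cons (nat_lit 9) (nat_lit 0) (Step.U (nat_lit 1150) (Step.L Step.done)) (Scr.cons (nat_lit 8) (nat_lit 2) (Step.U (nat_lit 2212) (Step.B (nat_lit 418) (Step.D (nat_lit 2213) Step.done))) (Scr.cons (nat_lit 8) (nat_lit 1) (Step.U (nat_lit 1150) (Step.D (nat_lit 1149) (Step.D (nat_lit 2210) Step.done))) (Scr.cons (nat_lit 13) (nat_lit 1) (Step.U (nat_lit 1234) (Step.L (Step.L (Step.L (Step.L (Step.L (Step.L (Step.L (Step.L (Step.L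 (Step.L (Step.D (nat_lit 1149) (Step.D (nat_lit 2210) Step.done))))))))))))) (Scr.cons (nat_lit 9) (nat_lit 0) (Step.U (nat_lit 1234) (Step.D (nat_lit 1235) Step.done)) (Scr.cons (nat_lit 11) (nat_lit 6) (Step.U (nat_lit 2024) (Step.D (nat_lit 2023) (Step.F (nat_lit 382) (Step.L (Step.L (Step.L (Step.L (Step.D (nat_lit 1235) Step.done)))))))) (Scr.cons (nat_lit 20) (nat_lit 2) (Step.U (nat_lit 392) (Step.U (nat_lit 73) (Step.L (Step.L (Step.L (Step.L (Step.L (Step.D (nat_lit 227) Step.done)))))))) (Scr.cons (nat_lit 9) (nat_lit 0) (Step.U (nat_lit 391) (Step.D (nat_lit 392) Step.done)) (Scr.cons (nat_lit 12) (nat_lit 12) (Step.U (nat_lit 2212) (Step.B (nat_lit 420) (Step.F (nat_lit 421) (Step.B (nat_lit 422) (Step.F (nat_lit 423) (Step.U (nat_lit 2024) (Step.L (Step.L (Step.L (Step.L (Step.D (nat_lit 227) (Step.F (nat_lit 424) (Step.F (nat_lit 425) (Step.D (nat_lit 1293) Step.done)))))))))))))) (Scr.cons (nat_lit 3) (nat_lit 0) (Step.F (nat_lit 419) (Step.B (nat_lit 426)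 Step.done)) (Scr.cons (nat_lit 9) (nat_lit 0) (Step.B (nat_lit 427) (Step.D (nat_lit 2318) Step.done)) (Scr.cons (nat_lit 22) (nat_lit 5) (Step.U (nat_lit 1357) (Step.L (Step.L (Step.L (Step.L (Step.L (Step.L (Step.L (Step.L (Step.D (nat_lit 73) (Step.D (nat_lit 391) (Step.D (nat_lit 1293) (Step.F (nat_lit 427) Step.done))))))))))))) (Scr.cons (nat_lit 9) (nat_lit 0) (Step.U (nat_lit 1357) (Step.D (nat_lit 1358) Step.done)) (Scr.cons (nat_lit 8) (nat_lit 1) (Step.F (nat_lit 428) (Step.F (nat_lit 429) (Step.B (nat_lit 430) Step.done))) (Scr.cons (nat_lit 10) (nat_lit 0) (Step.D (nat_lit 1367) (Step.D (nat_lit 2371) (Step.F (nat_lit 413) (Step.B (nat_lit 417) (Step.U (nat_lit 2364) (Step.L (Step.D (nat_lit 1358) (Step.F (nat_lit 431) (Step.F (nat_lit 428) (Step.U (nat_lit 2213) (Step.F (nat_lit 418) (Step.B (nat_lit 420) (Step.U (nat_lit 2210) (Step.D (nat_lit 2209) Step.done)))))))))))))) (Scr.cons (nat_lit 1) (nat_lit 0) (Step.B (nat_lit 411) (Step.F (nat_lit 432) (Step.D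 (nat_lit 1365) Step.done))) (Scr.cons (nat_lit 3) (nat_lit 1) (Step.D (nat_lit 1731) (Step.B (nat_lit 433) (Step.D (nat_lit 2368) Step.done))) (Scr.cons (nat_lit 0) (nat_lit 0) (Step.B (nat_lit 408) (Step.F (nat_lit 434) Step.done)) (Scr.cons (nat_lit 12) (nat_lit 0) (Step.U (nat_lit 2183) (Step.B (nat_lit 401) (Step.F (nat_lit 407) (Step.U (nat_lit 1735) (Step.L (Step.L (Step.F (nat_lit 435) (Step.U (nat_lit 1366) (Step.L (Step.L (Step.L (Step.L (Step.L (Step.L Step.done)))))))))))))) (Scr.cons (nat_lit 1) (nat_lit 0) (Step.D (nat_lit 2183) (Step.B (nat_lit 436) Step.done)) (Scr.cons (nat_lit 8) (nat_lit 1) (Step.L (Step.D (nat_lit 552) (Step.D (nat_lit 1622) Step.done))) (Scr.cons (nat_lit 9) (nat_lit 0) (Step.U (nat_lit 1622) (Step.D (nat_lit 1623) Step.done)) (Scr.cons (nat_lit 8) (nat_lit 2) (Step.U (nat_lit 2531) (Step.B (nat_lit 439) (Step.D (nat_lit 2532) Step.done))) (Scr.cons (nat_lit 8) (nat_lit 2) (Step.U (nat_lit 1733) (Step.L (Step.D (nat_lit 1734) Step.done)))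 Scr.nil))))))))))))))))))))))))))))))))))))))))
noncomputable def s11 : Scr := (Scr.cons (nat_lit 21) (nat_lit 5) (Step.B (nat_lit 441) (Step.U (nat_lit 1734) (Step.L (Step.L (Step.L (Step.L (Step.L (Step.L (Step.L (Step.D (nat_lit 55) (Step.D (nat_lit 314) (Step.D (nat_lit 1113) (Step.D (nat_lit 2178) Step.done))))))))))))) (Scr.cons (nat_lit 20) (nat_lit 3) (Step.F (nat_lit 442) (Step.B (nat_lit 441) (Step.U (nat_lit 1734) (Step.D (nat_lit 1735) (Step.F (nat_lit 406) (Step.U (nat_lit 1119) (Step.D (nat_lit 1120) (Step.D (nat_lit 2182) Step.done)))))))) (Scr.cons (nat_lit 9) (nat_lit 0) (Step.U (nat_lit 1113) (Step.D (nat_lit 1114) Step.done)) (Scr.cons (nat_lit 8) (nat_lit 2) (Step.U (nat_lit 2178) (Step.B (nat_lit 444) (Step.D (nat_lit 2179) Step.done))) (Scr.cons (nat_lit 18) (nat_lit 0) (Step.F (nat_lit 443) (Step.B (nat_lit 445) Step.done)) (Scr.cons (nat_lit 9) (nat_lit 0) (Step.U (nat_lit 2198) (Step.D (nat_lit 2199) Step.done)) (Scr.cons (nat_lit 8) (nat_lit 3)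 (Step.U (nat_lit 1138) (Step.D (nat_lit 1137) (Step.D (nat_lit 2199) Step.done))) (Scr.cons (nat_lit 11) (nat_lit 8) (Step.U (nat_lit 324) (Step.U (nat_lit 58) (Step.L (Step.L (Step.L (Step.L (Step.L (Step.D (nat_lit 553) Step.done)))))))) (Scr.cons (nat_lit 8) (nat_lit 0) (Step.F (nat_lit 449) (Step.U (nat_lit 324) (Step.D (nat_lit 323) Step.done))) (Scr.cons (nat_lit 9) (nat_lit 0) (Step.B (nat_lit 450) (Step.D (nat_lit 1138) Step.done)) (Scr.cons (nat_lit 9) (nat_lit 0) (Step.L (Step.D (nat_lit 317) Step.done)) (Scr.cons (nat_lit 13) (nat_lit 0) (Step.B (nat_lit 447) (Step.F (nat_lit 448) (Step.F (nat_lit 451) (Step.U (nat_lit 553) (Step.L (Step.L (Step.L (Step.L (Step.L (Step.L (Step.F (nat_lit 405) (Step.F (nat_lit 452) (Step.L (Step.D (nat_lit 2186) Step.done)))))))))))))) (Scr.cons (nat_lit 3) (nat_lit 0) (Step.F (nat_lit 447) (Step.B (nat_lit 453) Step.done)) (Scr.cons (nat_lit 12) (nat_lit 13) (Step.F (nat_lit 448) (Step.U (nat_lit 1138) (Step.U (nat_lit 323)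 (Step.U (nat_lit 58) (Step.L (Step.L (Step.L (Step.L (Step.L (Step.L (Step.L (Step.L (Step.D (nat_lit 1260) Step.done))))))))))))) (Scr.cons (nat_lit 8) (nat_lit 2) (Step.U (nat_lit 2187) (Step.D (nat_lit 2186) (Step.F (nat_lit 454) (Step.B (nat_lit 455) Step.done)))) (Scr.cons (nat_lit 3) (nat_lit 1) (Step.D (nat_lit 2187) (Step.B (nat_lit 456) Step.done)) (Scr.cons (nat_lit 8) (nat_lit 1) (Step.L (Step.L (Step.D (nat_lit 1199) Step.done))) (Scr.cons (nat_lit 21) (nat_lit 2) (Step.U (nat_lit 2185) (Step.U (nat_lit 1122) (Step.L (Step.B (nat_lit 457) (Step.F (nat_lit 455) (Step.F (nat_lit 448) (Step.F (nat_lit 451) (Step.U (nat_lit 553) (Step.L (Step.L (Step.L (Step.B (nat_lit 458) (Step.D (nat_lit 2255) Step.done))))))))))))) (Scr.cons (nat_lit 21) (nat_lit 2) (Step.F (nat_lit 446) (Step.U (nat_lit 2182) (Step.U (nat_lit 1120) (Step.L (Step.L (Step.D (nat_lit 1122) (Step.D (nat_lit 2185) (Step.B (nat_lit 459) (Step.U (nat_lit 2255) (Step.U (nat_lit 1199) (Step.L (Step.B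 (nat_lit 438) (Step.D (nat_lit 2531) Step.done))))))))))))) (Scr.cons (nat_lit 13) (nat_lit 1) (Step.F (nat_lit 440) (Step.F (nat_lit 460) (Step.F (nat_lit 445) (Step.F (nat_lit 442) (Step.U (nat_lit 1733) (Step.L (Step.L (Step.L (Step.L (Step.L (Step.L (Step.D (nat_lit 617) (Step.D (nat_lit 1718) Step.done))))))))))))) (Scr.cons (nat_lit 20) (nat_lit 4) (Step.L (Step.L (Step.L (Step.L (Step.L (Step.L (Step.D (nat_lit 617) (Step.D (nat_lit 1718) Step.done)))))))) (Scr.cons (nat_lit 8) (nat_lit 1) (Step.L (Step.L (Step.D (nat_lit 1697) Step.done))) (Scr.cons (nat_lit 12) (nat_lit 9) (Step.L (Step.L (Step.L (Step.L (Step.B (nat_lit 438) (Step.D (nat_lit 2531) (Step.B (nat_lit 440) (Step.B (nat_lit 461) (Step.F (nat_lit 462) (Step.L (Step.L (Step.B (nat_lit 463) (Step.U (nat_lit 1697) (Step.D (nat_lit 1696) Step.done)))))))))))))) (Scr.cons (nat_lit 2) (nat_lit 0) (Step.D (nat_lit 1696) (Step.F (nat_lit 464) (Step.D (nat_lit 1202) Step.done))) (Scr.cons (nat_lit 2) (nat_lit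 0) (Step.D (nat_lit 1202) (Step.F (nat_lit 465) Step.done)) (Scr.cons (nat_lit 8) (nat_lit 3) (Step.L (Step.L (Step.D (nat_lit 1873) Step.done))) (Scr.cons (nat_lit 22) (nat_lit 5) (Step.U (nat_lit 1283) (Step.L (Step.L (Step.L (Step.L (Step.L (Step.L (Step.L (Step.L (Step.L (Step.L (Step.D (nat_lit 1184) (Step.D (nat_lit 2242) Step.done))))))))))))) (Scr.cons (nat_lit 8) (nat_lit 1) (Step.L (Step.L (Step.D (nat_lit 1283) Step.done))) (Scr.cons (nat_lit 12) (nat_lit 0) (Step.U (nat_lit 2241) (Step.U (nat_lit 1183) (Step.D (nat_lit 1184) (Step.D (nat_lit 2242) (Step.F (nat_lit 468) (Step.F (nat_lit 469) (Step.L (Step.L (Step.L (Step.L (Step.D (nat_lit 382) (Step.D (nat_lit 1277) (Step.D (nat_lit 2300) Step.done))))))))))))) (Scr.cons (nat_lit 8) (nat_lit 2) (Step.F (nat_lit 470) (Step.U (nat_lit 2241) (Step.D (nat_lit 2240) Step.done))) (Scr.cons (nat_lit 20) (nat_lit 4) (Step.U (nat_lit 898) (Step.L (Step.L (Step.L (Step.L (Step.L (Step.L (Step.D (nat_lit 1802) Step.done))))))))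 (Scr.cons (nat_lit 8) (nat_lit 2) (Step.U (nat_lit 26) (Step.L (Step.D (nat_lit 184) Step.done))) (Scr.cons (nat_lit 8) (nat_lit 1) (Step.U (nat_lit 442) (Step.D (nat_lit 441) (Step.D (nat_lit 1391) Step.done))) (Scr.cons (nat_lit 21) (nat_lit 9) (Step.U (nat_lit 1918) (Step.U (nat_lit 785) (Step.F (nat_lit 473) (Step.U (nat_lit 26) (Step.L (Step.L (Step.L (Step.L (Step.L (Step.D (nat_lit 96) (Step.D (nat_lit 442) (Step.B (nat_lit 474) (Step.D (nat_lit 2389) Step.done))))))))))))) (Scr.cons (nat_lit 9) (nat_lit 0) (Step.F (nat_lit 473) (Step.D (nat_lit 186) Step.done)) (Scr.cons (nat_lit 8) (nat_lit 2) (Step.U (nat_lit 785) (Step.B (nat_lit 476) (Step.D (nat_lit 787) Step.done))) (Scr.cons (nat_lit 19) (nat_lit 1) (Step.U (nat_lit 771) (Step.L (Step.L (Step.L (Step.L (Step.L (Step.L (Step.L (Step.L (Step.L (Step.D (nat_lit 184) (Step.B (nat_lit 476) (Step.D (nat_lit 787) Step.done))))))))))))) (Scr.cons (nat_lit 18) (nat_lit 0) (Step.B (nat_lit 477) (Step.F (nat_lit 478)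 Step.done)) (Scr.cons (nat_lit 8) (nat_lit 2) (Step.U (nat_lit 1901) (Step.F (nat_lit 479) (Step.D (nat_lit 1917) Step.done))) (Scr.cons (nat_lit 9) (nat_lit 0) (Step.U (nat_lit 897) (Step.D (nat_lit 898) Step.done)) Scr.nil))))))))))))))))))))))))))))))))))))))))
noncomputable def s12 : Scr := (Scr.cons (nat_lit 8) (nat_lit 3) (Step.L (Step.L (Step.D (nat_lit 898) Step.done))) (Scr.cons (nat_lit 9) (nat_lit 0) (Step.L (Step.D (nat_lit 772) Step.done)) (Scr.cons (nat_lit 8) (nat_lit 1) (Step.F (nat_lit 184) (Step.F (nat_lit 185) (Step.B (nat_lit 483) Step.done))) (Scr.cons (nat_lit 8) (nat_lit 3) (Step.F (nat_lit 478) (Step.U (nat_lit 771) (Step.D (nat_lit 772) Step.done))) (Scr.cons (nat_lit 12) (nat_lit 3) (Step.B (nat_lit 481) (Step.F (nat_lit 482) (Step.L (Step.L (Step.L (Step.L (Step.L (Step.L (Step.D (nat_lit 832) (Step.B (nat_lit 484) (Step.F (nat_lit 485) (Step.F (nat_lit 478) (Step.D (nat_lit 1901) Step.done))))))))))))) (Scr.cons (nat_lit 11) (nat_lit 8) (Step.F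 (nat_lit 475) (Step.U (nat_lit 1918) (Step.D (nat_lit 1917) (Step.F (nat_lit 480) (Step.F (nat_lit 486) (Step.U (nat_lit 897) (Step.D (nat_lit 896) (Step.D (nat_lit 2018) Step.done)))))))) (Scr.cons (nat_lit 9) (nat_lit 0) (Step.U (nat_lit 1391) (Step.D (nat_lit 1392) Step.done)) (Scr.cons (nat_lit 8) (nat_lit 2) (Step.U (nat_lit 2389) (Step.B (nat_lit 488) (Step.D (nat_lit 2390) Step.done))) (Scr.cons (nat_lit 11) (nat_lit 1) (Step.F (nat_lit 474) (Step.U (nat_lit 442) (Step.U (nat_lit 96) (Step.L (Step.L (Step.L (Step.D (nat_lit 1381) (Step.D (nat_lit 2384) Step.done)))))))) (Scr.cons (nat_lit 8) (nat_lit 3) (Step.U (nat_lit 1384) (Step.D (nat_lit 1381) (Step.D (nat_lit 2384) Step.done))) (Scr.cons (nat_lit 9) (nat_lit 0) (Step.U (nat_lit 1383) (Step.D (nat_lit 1384) Step.done)) (Scr.cons (nat_lit 9) (nat_lit 0) (Step.U (nat_lit 573) (Step.D (nat_lit 574) Step.done)) (Scr.cons (nat_lit 8) (nat_lit 2) (Step.U (nat_lit 1658) (Step.B (nat_lit 493) (Step.D (nat_lit 1659)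 Step.done))) (Scr.cons (nat_lit 8) (nat_lit 1) (Step.L (Step.L (Step.D (nat_lit 573) Step.done))) (Scr.cons (nat_lit 8) (nat_lit 2) (Step.U (nat_lit 1889) (Step.L (Step.D (nat_lit 1890) Step.done))) (Scr.cons (nat_lit 10) (nat_lit 1) (Step.U (nat_lit 1659) (Step.F (nat_lit 493) (Step.F (nat_lit 495) (Step.L (Step.L (Step.L (Step.L (Step.L (Step.L (Step.L (Step.L (Step.L (Step.D (nat_lit 1890) (Step.F (nat_lit 496) Step.done)))))))))))))) (Scr.cons (nat_lit 1) (nat_lit 0) (Step.D (nat_lit 1889) (Step.F (nat_lit 497) Step.done)) (Scr.cons (nat_lit 22) (nat_lit 3) (Step.B (nat_lit 494) (Step.F (nat_lit 498) (Step.L (Step.L (Step.L (Step.L (Step.L (Step.L (Step.L (Step.L (Step.L (Step.L (Step.D (nat_lit 1383) Step.done))))))))))))) (Scr.cons (nat_lit 12) (nat_lit 6) (Step.U (nat_lit 2390) (Step.F (nat_lit 488) (Step.B (nat_lit 490) (Step.F (nat_lit 491) (Step.F (nat_lit 492) (Step.F (nat_lit 499) (Step.U (nat_lit 1658) (Step.F (nat_lit 495) (Step.L (Step.L (Step.L (Step.L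 (Step.L (Step.D (nat_lit 2256) Step.done)))))))))))))) (Scr.cons (nat_lit 9) (nat_lit 0) (Step.L (Step.D (nat_lit 1203) Step.done)) (Scr.cons (nat_lit 8) (nat_lit 2) (Step.U (nat_lit 2256) (Step.B (nat_lit 501) (Step.D (nat_lit 2262) Step.done))) (Scr.cons (nat_lit 9) (nat_lit 0) (Step.U (nat_lit 346) (Step.D (nat_lit 347) Step.done)) (Scr.cons (nat_lit 8) (nat_lit 2) (Step.U (nat_lit 1192) (Step.B (nat_lit 503) (Step.D (nat_lit 1194) Step.done))) (Scr.cons (nat_lit 19) (nat_lit 1) (Step.U (nat_lit 2247) (Step.B (nat_lit 504) (Step.U (nat_lit 1194) (Step.U (nat_lit 347) (Step.U (nat_lit 64) (Step.L (Step.L (Step.L (Step.L (Step.L (Step.L (Step.B (nat_lit 501) (Step.D (nat_lit 2262) Step.done))))))))))))) (Scr.cons (nat_lit 18) (nat_lit 0) (Step.B (nat_lit 502) (Step.F (nat_lit 505) Step.done)) (Scr.cons (nat_lit 3) (nat_lit 0) (Step.B (nat_lit 489) (Step.B (nat_lit 500) (Step.B (nat_lit 506) Step.done))) (Scr.cons (nat_lit 0) (nat_lit 0) (Step.F (nat_lit 487) (Step.B (nat_lit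 507) (Step.U (nat_lit 2247) Step.done))) (Scr.cons (nat_lit 2) (nat_lit 0) (Step.D (nat_lit 2018) (Step.B (nat_lit 508) (Step.D (nat_lit 2248) Step.done))) (Scr.cons (nat_lit 2) (nat_lit 0) (Step.D (nat_lit 2248) (Step.F (nat_lit 509) Step.done)) (Scr.cons (nat_lit 8) (nat_lit 3) (Step.L (Step.D (nat_lit 64) (Step.D (nat_lit 347) Step.done))) (Scr.cons (nat_lit 21) (nat_lit 1) (Step.F (nat_lit 472) (Step.U (nat_lit 898) (Step.D (nat_lit 896) (Step.F (nat_lit 510) (Step.B (nat_lit 504) (Step.U (nat_lit 1194) (Step.F (nat_lit 511) (Step.L (Step.L (Step.L (Step.L (Step.D (nat_lit 1183) (Step.D (nat_lit 2240) Step.done))))))))))))) (Scr.cons (nat_lit 8) (nat_lit 1) (Step.L (Step.D (nat_lit 340) (Step.D (nat_lit 1182) Step.done))) (Scr.cons (nat_lit 12) (nat_lit 5) (Step.F (nat_lit 513) (Step.L (Step.L (Step.L (Step.L (Step.L (Step.L (Step.L (Step.L (Step.L (Step.L (Step.L (Step.D (nat_lit 1799) Step.done))))))))))))) (Scr.cons (nat_lit 13) (nat_lit 6) (Step.L (Step.L (Step.L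 (Step.L (Step.L (Step.L (Step.D (nat_lit 340) (Step.D (nat_lit 1182) (Step.B (nat_lit 514) (Step.U (nat_lit 1799) (Step.L (Step.D (nat_lit 680) (Step.D (nat_lit 1800) Step.done))))))))))))) (Scr.cons (nat_lit 21) (nat_lit 1) (Step.U (nat_lit 1472) (Step.L (Step.L (Step.L (Step.L (Step.L (Step.L (Step.D (nat_lit 680) (Step.D (nat_lit 1800) (Step.F (nat_lit 515) (Step.L (Step.L (Step.D (nat_lit 2227) Step.done))))))))))))) (Scr.cons (nat_lit 8) (nat_lit 1) (Step.L (Step.L (Step.D (nat_lit 176) Step.done))) (Scr.cons (nat_lit 9) (nat_lit 0) (Step.U (nat_lit 176) (Step.L Step.done)) (Scr.cons (nat_lit 8) (nat_lit 2) (Step.U (nat_lit 744) (Step.B (nat_lit 518) (Step.D (nat_lit 745) Step.done))) (Scr.cons (nat_lit 9) (nat_lit 0) (Step.F (nat_lit 519) (Step.D (nat_lit 1868) Step.done)) (Scr.cons (nat_lit 9) (nat_lit 0) (Step.U (nat_lit 679) (Step.D (nat_lit 680) Step.done)) Scr.nil))))))))))))))))))))))))))))))))))))))))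
noncomputable def s13 : Scr := (Scr.cons (nat_lit 8) (nat_lit 1) (Step.L (Step.L (Step.D (nat_lit 679) Step.done))) (Scr.cons (nat_lit 9) (nat_lit 0) (Step.U (nat_lit 31) (Step.D (nat_lit 32) Step.done)) (Scr.cons (nat_lit 8) (nat_lit 2) (Step.U (nat_lit 209) (Step.B (nat_lit 523) (Step.D (nat_lit 211) Step.done))) (Scr.cons (nat_lit 10) (nat_lit 1) (Step.F (nat_lit 521) (Step.F (nat_lit 522) (Step.L (Step.L (Step.L (Step.L (Step.L (Step.B (nat_lit 20) (Step.U (nat_lit 1) (Step.L (Step.D (nat_lit 32) (Step.D (nat_lit 211) (Step.F (nat_lit 524) Step.done))))))))))))) (Scr.cons (nat_lit 8) (nat_lit 3) (Step.B (nat_lit 521) (Step.B (nat_lit 525) (Step.D (nat_lit 860) Step.done))) (Scr.cons (nat_lit 21) (nat_lit 10) (Step.F (nat_lit 526) (Step.U (nat_lit 679) (Step.L (Step.L (Step.L (Step.L (Step.L (Step.L (Step.L (Step.L (Step.B (nat_lit 517) (Step.D (nat_lit 744) (Step.D (nat_lit 1868) Step.done))))))))))))) (Scr.cons (nat_lit 8) (nat_lit 2) (Step.F (nat_lit 515) (Step.L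 (Step.L Step.done))) (Scr.cons (nat_lit 20) (nat_lit 2) (Step.B (nat_lit 520) (Step.F (nat_lit 527) (Step.U (nat_lit 860) (Step.F (nat_lit 525) (Step.D (nat_lit 1800) (Step.B (nat_lit 528) (Step.L (Step.D (nat_lit 1168) Step.done)))))))) (Scr.cons (nat_lit 12) (nat_lit 7) (Step.U (nat_lit 1326) (Step.L (Step.L (Step.L (Step.L (Step.B (nat_lit 517) (Step.D (nat_lit 744) (Step.B (nat_lit 519) (Step.B (nat_lit 529) (Step.U (nat_lit 1168) (Step.L (Step.L (Step.D (nat_lit 2227) Step.done))))))))))))) (Scr.cons (nat_lit 8) (nat_lit 3) (Step.B (nat_lit 530) (Step.U (nat_lit 2227) (Step.D (nat_lit 2228) Step.done))) (Scr.cons (nat_lit 8) (nat_lit 2) (Step.L (Step.L (Step.D (nat_lit 2226) Step.done))) (Scr.cons (nat_lit 9) (nat_lit 0) (Step.F (nat_lit 532) (Step.D (nat_lit 2228) Step.done)) (Scr.cons (nat_lit 10) (nat_lit 1) (Step.F (nat_lit 533) (Step.U (nat_lit 2226) (Step.L (Step.L (Step.L (Step.B (nat_lit 147) (Step.U (nat_lit 334) (Step.L (Step.L (Step.L (Step.L (Step.L (Step.D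 (nat_lit 1873) Step.done))))))))))))) (Scr.cons (nat_lit 21) (nat_lit 3) (Step.B (nat_lit 471) (Step.F (nat_lit 512) (Step.F (nat_lit 472) (Step.U (nat_lit 898) (Step.L (Step.L (Step.L (Step.D (nat_lit 1472) (Step.B (nat_lit 516) (Step.F (nat_lit 530) (Step.B (nat_lit 531) (Step.B (nat_lit 534) (Step.F (nat_lit 467) (Step.D (nat_lit 1877) Step.done)))))))))))))) (Scr.cons (nat_lit 3) (nat_lit 0) (Step.F (nat_lit 471) (Step.B (nat_lit 535) Step.done)) (Scr.cons (nat_lit 21) (nat_lit 4) (Step.F (nat_lit 467) (Step.D (nat_lit 1877) (Step.F (nat_lit 536) (Step.U (nat_lit 2240) (Step.U (nat_lit 1183) (Step.L (Step.L (Step.L (Step.L (Step.L (Step.L (Step.L (Step.L (Step.D (nat_lit 2264) Step.done)))))))))))))) (Scr.cons (nat_lit 9) (nat_lit 0) (Step.U (nat_lit 1872) (Step.D (nat_lit 1873) Step.done)) (Scr.cons (nat_lit 3) (nat_lit 0) (Step.D (nat_lit 2264) (Step.F (nat_lit 537) (Step.F (nat_lit 538) Step.done))) (Scr.cons (nat_lit 3) (nat_lit 1) (Step.D (nat_lit 1872) (Step.F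 (nat_lit 539) Step.done)) (Scr.cons (nat_lit 8) (nat_lit 3) (Step.U (nat_lit 512) (Step.D (nat_lit 509) (Step.D (nat_lit 1537) Step.done))) (Scr.cons (nat_lit 9) (nat_lit 0) (Step.U (nat_lit 12) (Step.L Step.done)) (Scr.cons (nat_lit 13) (nat_lit 0) (Step.U (nat_lit 2003) (Step.U (nat_lit 877) (Step.U (nat_lit 215) (Step.B (nat_lit 21) (Step.U (nat_lit 116) (Step.L (Step.L (Step.L (Step.F (nat_lit 542) (Step.D (nat_lit 112) (Step.D (nat_lit 512) (Step.D (nat_lit 1543) (Step.D (nat_lit 2486) Step.done))))))))))))) (Scr.cons (nat_lit 8) (nat_lit 1) (Step.B (nat_lit 543) (Step.U (nat_lit 2486) (Step.D (nat_lit 2487) Step.done))) (Scr.cons (nat_lit 21) (nat_lit 6) (Step.D (nat_lit 2487) (Step.F (nat_lit 544) (Step.U (nat_lit 2003) (Step.U (nat_lit 877) (Step.U (nat_lit 215) (Step.U (nat_lit 33) (Step.U (nat_lit 1) (Step.L (Step.L (Step.L (Step.L (Step.D (nat_lit 202) (Step.D (nat_lit 846) (Step.D (nat_lit 1975) Step.done)))))))))))))) (Scr.cons (nat_lit 2) (nat_lit 0) (Step.D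 (nat_lit 1975) (Step.F (nat_lit 545) (Step.U (nat_lit 1543) Step.done))) (Scr.cons (nat_lit 1) (nat_lit 0) (Step.D (nat_lit 846) (Step.B (nat_lit 546) (Step.B (nat_lit 541) Step.done))) (Scr.cons (nat_lit 1) (nat_lit 0) (Step.B (nat_lit 541) (Step.F (nat_lit 547) Step.done)) (Scr.cons (nat_lit 9) (nat_lit 0) (Step.U (nat_lit 511) (Step.D (nat_lit 512) Step.done)) (Scr.cons (nat_lit 8) (nat_lit 2) (Step.U (nat_lit 1541) (Step.B (nat_lit 549) (Step.D (nat_lit 1542) Step.done))) (Scr.cons (nat_lit 12) (nat_lit 9) (Step.U (nat_lit 2017) (Step.U (nat_lit 894) (Step.U (nat_lit 226) (Step.L (Step.L (Step.L (Step.L (Step.L (Step.L (Step.D (nat_lit 202) (Step.F (nat_lit 548) (Step.D (nat_lit 1542) (Step.F (nat_lit 550) (Step.D (nat_lit 2485) Step.done)))))))))))))) (Scr.cons (nat_lit 2) (nat_lit 0) (Step.D (nat_lit 2485) (Step.F (nat_lit 551) Step.done)) (Scr.cons (nat_lit 8) (nat_lit 1) (Step.U (nat_lit 568) (Step.D (nat_lit 567) (Step.D (nat_lit 1645) Step.done))) (Scr.cons (nat_lit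 9) (nat_lit 0) (Step.U (nat_lit 568) (Step.D (nat_lit 569) Step.done)) (Scr.cons (nat_lit 8) (nat_lit 3) (Step.U (nat_lit 130) (Step.D (nat_lit 128) (Step.D (nat_lit 569) Step.done))) (Scr.cons (nat_lit 9) (nat_lit 0) (Step.U (nat_lit 1) (Step.D (nat_lit 2) Step.done)) (Scr.cons (nat_lit 20) (nat_lit 2) (Step.L (Step.L (Step.L (Step.L (Step.L (Step.L (Step.B (nat_lit 20) (Step.D (nat_lit 34) Step.done)))))))) (Scr.cons (nat_lit 21) (nat_lit 3) (Step.L (Step.L (Step.L (Step.L (Step.L (Step.L (Step.L (Step.L (Step.L (Step.L (Step.L (Step.D (nat_lit 15) (Step.D (nat_lit 129) Step.done))))))))))))) (Scr.cons (nat_lit 13) (nat_lit 0) (Step.U (nat_lit 884) (Step.U (nat_lit 220) (Step.U (nat_lit 36) (Step.F (nat_lit 556) (Step.D (nat_lit 34) (Step.F (nat_lit 557) (Step.L (Step.L (Step.B (nat_lit 558) (Step.U (nat_lit 129) (Step.D (nat_lit 130) (Step.D (nat_lit 572) (Step.D (nat_lit 1650) Step.done))))))))))))) (Scr.cons (nat_lit 8) (nat_lit 1) (Step.B (nat_lit 559) (Step.U (nat_lit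 1650) (Step.D (nat_lit 1651) Step.done))) (Scr.cons (nat_lit 8) (nat_lit 3) (Step.U (nat_lit 2) (Step.L (Step.D (nat_lit 32) Step.done))) Scr.nil))))))))))))))))))))))))))))))))))))))))
noncomputable def s14 : Scr := (Scr.cons (nat_lit 21) (nat_lit 1) (Step.U (nat_lit 1647) (Step.B (nat_lit 554) (Step.F (nat_lit 555) (Step.D (nat_lit 572) (Step.D (nat_lit 1651) (Step.F (nat_lit 560) (Step.U (nat_lit 884) (Step.U (nat_lit 220) (Step.U (nat_lit 36) (Step.B (nat_lit 561) (Step.F (nat_lit 523) (Step.D (nat_lit 209) (Step.F (nat_lit 525) Step.done))))))))))))) (Scr.cons (nat_lit 8) (nat_lit 0) (Step.U (nat_lit 678) (Step.D (nat_lit 680) (Step.F (nat_lit 562) Step.done))) (Scr.cons (nat_lit 20) (nat_lit 3) (Step.U (nat_lit 1644) (Step.D (nat_lit 1645) (Step.F (nat_lit 553) (Step.D (nat_lit 1647) (Step.F (nat_lit 563) (Step.U (nat_lit 678) (Step.L (Step.D (nat_lit 1798) Step.done)))))))) (Scr.cons (nat_lit 8) (nat_lit 1) (Step.B (nat_lit 564) (Step.U (nat_lit 1798) (Step.D (nat_lit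 1799) Step.done))) (Scr.cons (nat_lit 9) (nat_lit 0) (Step.U (nat_lit 202) (Step.D (nat_lit 203) Step.done)) (Scr.cons (nat_lit 8) (nat_lit 3) (Step.U (nat_lit 203) (Step.L (Step.D (nat_lit 843) Step.done))) (Scr.cons (nat_lit 20) (nat_lit 4) (Step.U (nat_lit 843) (Step.L (Step.L (Step.L (Step.L (Step.L (Step.L (Step.L Step.done)))))))) (Scr.cons (nat_lit 12) (nat_lit 0) (Step.L (Step.L (Step.L (Step.L (Step.L (Step.L (Step.L (Step.L (Step.L (Step.L (Step.L (Step.L (Step.D (nat_lit 1208) Step.done))))))))))))) (Scr.cons (nat_lit 8) (nat_lit 2) (Step.U (nat_lit 1874) (Step.L (Step.D (nat_lit 1876) Step.done))) (Scr.cons (nat_lit 12) (nat_lit 11) (Step.U (nat_lit 282) (Step.L (Step.L (Step.L (Step.L (Step.L (Step.L (Step.L (Step.L (Step.L (Step.L (Step.L (Step.L Step.done))))))))))))) (Scr.cons (nat_lit 8) (nat_lit 1) (Step.L (Step.L (Step.D (nat_lit 1560) Step.done))) (Scr.cons (nat_lit 8) (nat_lit 2) (Step.L (Step.L (Step.D (nat_lit 806) Step.done))) (Scr.cons (nat_lit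 20) (nat_lit 3) (Step.U (nat_lit 1559) (Step.D (nat_lit 1560) (Step.F (nat_lit 572) (Step.L (Step.B (nat_lit 573) (Step.U (nat_lit 806) (Step.D (nat_lit 807) (Step.D (nat_lit 1939) Step.done)))))))) (Scr.cons (nat_lit 18) (nat_lit 0) (Step.F (nat_lit 574) (Step.D (nat_lit 2500) Step.done)) (Scr.cons (nat_lit 8) (nat_lit 3) (Step.L (Step.D (nat_lit 189) (Step.D (nat_lit 801) Step.done))) (Scr.cons (nat_lit 9) (nat_lit 0) (Step.U (nat_lit 800) (Step.D (nat_lit 801) Step.done)) (Scr.cons (nat_lit 8) (nat_lit 3) (Step.U (nat_lit 52) (Step.L (Step.D (nat_lit 284) Step.done))) (Scr.cons (nat_lit 8) (nat_lit 2) (Step.U (nat_lit 616) (Step.L (Step.L Step.done))) (Scr.cons (nat_lit 21) (nat_lit 4) (Step.B (nat_lit 136) (Step.B (nat_lit 579) (Step.L (Step.L (Step.L (Step.L (Step.L (Step.L (Step.L (Step.L (Step.L (Step.L (Step.D (nat_lit 803) Step.done))))))))))))) (Scr.cons (nat_lit 22) (nat_lit 0) (Step.U (nat_lit 805) (Step.L (Step.L (Step.D (nat_lit 803) (Step.F (nat_lit 580)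 (Step.U (nat_lit 273) (Step.L (Step.L (Step.L (Step.L (Step.L (Step.D (nat_lit 288) (Step.D (nat_lit 1054) Step.done))))))))))))) (Scr.cons (nat_lit 8) (nat_lit 2) (Step.B (nat_lit 581) (Step.U (nat_lit 1054) (Step.D (nat_lit 1053) Step.done))) (Scr.cons (nat_lit 12) (nat_lit 12) (Step.U (nat_lit 1045) (Step.F (nat_lit 578) (Step.U (nat_lit 52) (Step.L (Step.L (Step.L (Step.D (nat_lit 288) (Step.D (nat_lit 1053) (Step.F (nat_lit 582) (Step.U (nat_lit 805) (Step.B (nat_lit 576) (Step.F (nat_lit 577) (Step.D (nat_lit 1936) Step.done))))))))))))) (Scr.cons (nat_lit 9) (nat_lit 0) (Step.U (nat_lit 283) (Step.D (nat_lit 284) Step.done)) (Scr.cons (nat_lit 8) (nat_lit 2) (Step.U (nat_lit 1044) (Step.B (nat_lit 584) (Step.D (nat_lit 1045) Step.done))) (Scr.cons (nat_lit 8) (nat_lit 1) (Step.U (nat_lit 283) (Step.D (nat_lit 282) (Step.D (nat_lit 1043) Step.done))) (Scr.cons (nat_lit 21) (nat_lit 2) (Step.F (nat_lit 575) (Step.U (nat_lit 1939) (Step.U (nat_lit 807) (Step.L (Step.L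 (Step.B (nat_lit 576) (Step.F (nat_lit 577) (Step.D (nat_lit 1936) (Step.F (nat_lit 583) (Step.F (nat_lit 585) (Step.U (nat_lit 1044) (Step.B (nat_lit 586) (Step.D (nat_lit 2135) Step.done))))))))))))) (Scr.cons (nat_lit 8) (nat_lit 1) (Step.U (nat_lit 294) (Step.D (nat_lit 293) (Step.D (nat_lit 1072) Step.done))) (Scr.cons (nat_lit 8) (nat_lit 3) (Step.U (nat_lit 274) (Step.L (Step.D (nat_lit 1023) Step.done))) (Scr.cons (nat_lit 9) (nat_lit 0) (Step.L (Step.D (nat_lit 1023) Step.done)) (Scr.cons (nat_lit 21) (nat_lit 0) (Step.U (nat_lit 1939) (Step.U (nat_lit 807) (Step.L (Step.L (Step.L (Step.D (nat_lit 294) (Step.B (nat_lit 588) (Step.F (nat_lit 137) (Step.F (nat_lit 131) (Step.B (nat_lit 133) (Step.B (nat_lit 589) (Step.F (nat_lit 590) (Step.D (nat_lit 2122) Step.done))))))))))))) (Scr.cons (nat_lit 21) (nat_lit 12) (Step.F (nat_lit 570) (Step.U (nat_lit 1874) (Step.L (Step.L (Step.F (nat_lit 571) (Step.D (nat_lit 1043) (Step.D (nat_lit 2135) (Step.F (nat_lit 587)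 (Step.F (nat_lit 575) (Step.B (nat_lit 591) (Step.U (nat_lit 2122) (Step.L (Step.L (Step.D (nat_lit 2119) Step.done)))))))))))))) (Scr.cons (nat_lit 1) (nat_lit 0) (Step.D (nat_lit 2119) (Step.F (nat_lit 592) Step.done)) (Scr.cons (nat_lit 8) (nat_lit 2) (Step.U (nat_lit 2122) (Step.B (nat_lit 590) (Step.D (nat_lit 2123) Step.done))) (Scr.cons (nat_lit 21) (nat_lit 5) (Step.B (nat_lit 594) (Step.U (nat_lit 2123) (Step.F (nat_lit 589) (Step.F (nat_lit 134) (Step.B (nat_lit 136) (Step.U (nat_lit 616) (Step.L (Step.L (Step.L (Step.D (nat_lit 59) (Step.D (nat_lit 336) (Step.D (nat_lit 1174) (Step.D (nat_lit 2233) Step.done))))))))))))) (Scr.cons (nat_lit 9) (nat_lit 0) (Step.U (nat_lit 1174) (Step.D (nat_lit 1175) Step.done)) (Scr.cons (nat_lit 8) (nat_lit 2) (Step.U (nat_lit 2233) (Step.B (nat_lit 596) (Step.D (nat_lit 2235) Step.done))) (Scr.cons (nat_lit 8) (nat_lit 3) (Step.U (nat_lit 1175) (Step.D (nat_lit 1173) (Step.D (nat_lit 2232) Step.done))) (Scr.cons (nat_lit 9)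 (nat_lit 0) (Step.U (nat_lit 2231) (Step.D (nat_lit 2232) Step.done)) (Scr.cons (nat_lit 21) (nat_lit 10) (Step.U (nat_lit 1871) (Step.D (nat_lit 1873) (Step.F (nat_lit 467) (Step.D (nat_lit 1876) (Step.F (nat_lit 593) (Step.L (Step.L (Step.D (nat_lit 2122) (Step.B (nat_lit 595) (Step.B (nat_lit 597) (Step.U (nat_lit 2235) (Step.B (nat_lit 598) (Step.F (nat_lit 599) Step.done))))))))))))) (Scr.cons (nat_lit 11) (nat_lit 8) (Step.U (nat_lit 2266) (Step.U (nat_lit 1207) (Step.L (Step.L (Step.L (Step.L (Step.D (nat_lit 1871) (Step.B (nat_lit 600) Step.done)))))))) Scr.nil))))))))))))))))))))))))))))))))))))))))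
noncomputable def s15 : Scr := (Scr.cons (nat_lit 8) (nat_lit 0) (Step.D (nat_lit 2231) (Step.F (nat_lit 601) (Step.U (nat_lit 2266) (Step.D (nat_lit 2265) Step.done)))) (Scr.cons (nat_lit 1) (nat_lit 0) (Step.D (nat_lit 2265) (Step.F (nat_lit 602) (Step.D (nat_lit 2230) Step.done))) (Scr.cons (nat_lit 1) (nat_lit 0) (Step.D (nat_lit 2230) (Step.F (nat_lit 603) Step.done)) (Scr.cons (nat_lit 11) (nat_lit 1) (Step.F (nat_lit 513) (Step.L (Step.L (Step.L (Step.D (nat_lit 59) (Step.D (nat_lit 336) (Step.D (nat_lit 1173) (Step.D (nat_lit 2232) Step.done)))))))) (Scr.cons (nat_lit 12) (nat_lit 0) (Step.B (nat_lit 548) (Step.B (nat_lit 566) (Step.B (nat_lit 567) (Step.B (nat_lit 568) (Step.L (Step.B (nat_lit 569) (Step.U (nat_lit 1208) (Step.L (Step.D (nat_lit 1207) (Step.F (nat_lit 604) (Step.D (nat_lit 2232) (Step.F (nat_lit 605) (Step.B (nat_lit 514) (Step.F (nat_lit 565) Step.done)))))))))))))) (Scr.cons (nat_lit 0) (nat_lit 0) (Step.F (nat_lit 565) (Step.F (nat_lit 606)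 (Step.D (nat_lit 1542) Step.done))) (Scr.cons (nat_lit 3) (nat_lit 0) (Step.D (nat_lit 1799) (Step.B (nat_lit 607) (Step.F (nat_lit 550) Step.done))) (Scr.cons (nat_lit 2) (nat_lit 0) (Step.F (nat_lit 552) (Step.F (nat_lit 608) (Step.L Step.done))) (Scr.cons (nat_lit 1) (nat_lit 0) (Step.D (nat_lit 2017) (Step.B (nat_lit 609) (Step.L Step.done))) (Scr.cons (nat_lit 3) (nat_lit 0) (Step.D (nat_lit 894) (Step.B (nat_lit 610) (Step.L Step.done))) (Scr.cons (nat_lit 2) (nat_lit 0) (Step.D (nat_lit 226) (Step.B (nat_lit 611) Step.done)) (Scr.cons (nat_lit 8) (nat_lit 0) (Step.U (nat_lit 225) (Step.L (Step.D (nat_lit 681) Step.done))) (Scr.cons (nat_lit 12) (nat_lit 9) (Step.U (nat_lit 157) (Step.L (Step.L (Step.L (Step.L (Step.L (Step.L (Step.L (Step.L (Step.B (nat_lit 6) (Step.D (nat_lit 43) (Step.F (nat_lit 9) (Step.D (nat_lit 255) Step.done))))))))))))) (Scr.cons (nat_lit 9) (nat_lit 0) (Step.U (nat_lit 157) (Step.D (nat_lit 158) Step.done)) (Scr.cons (nat_lit 8) (nat_lit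 2) (Step.F (nat_lit 614) (Step.B (nat_lit 615) (Step.D (nat_lit 665) Step.done))) (Scr.cons (nat_lit 21) (nat_lit 5) (Step.F (nat_lit 613) (Step.U (nat_lit 225) (Step.L (Step.L (Step.L (Step.L (Step.L (Step.B (nat_lit 10) (Step.F (nat_lit 5) (Step.D (nat_lit 41) (Step.D (nat_lit 255) (Step.B (nat_lit 616) (Step.D (nat_lit 1782) Step.done))))))))))))) (Scr.cons (nat_lit 12) (nat_lit 0) (Step.L (Step.L (Step.L (Step.L (Step.L (Step.L (Step.L (Step.L (Step.L (Step.L (Step.L (Step.L (Step.D (nat_lit 1320) Step.done))))))))))))) (Scr.cons (nat_lit 8) (nat_lit 2) (Step.F (nat_lit 618) (Step.L (Step.D (nat_lit 469) Step.done))) (Scr.cons (nat_lit 18) (nat_lit 0) (Step.B (nat_lit 619) (Step.D (nat_lit 1455) Step.done)) (Scr.cons (nat_lit 8) (nat_lit 3) (Step.F (nat_lit 620) (Step.U (nat_lit 1320) (Step.D (nat_lit 1322) Step.done))) (Scr.cons (nat_lit 13) (nat_lit 3) (Step.F (nat_lit 616) (Step.U (nat_lit 255) (Step.U (nat_lit 41) (Step.B (nat_lit 8) (Step.F (nat_lit 6) (Step.L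 (Step.L (Step.L (Step.L (Step.L (Step.L (Step.L (Step.D (nat_lit 478) Step.done))))))))))))) (Scr.cons (nat_lit 12) (nat_lit 13) (Step.B (nat_lit 621) (Step.U (nat_lit 1322) (Step.L (Step.L (Step.L (Step.L (Step.L (Step.L (Step.L (Step.L (Step.D (nat_lit 478) (Step.F (nat_lit 622) (Step.D (nat_lit 1782) Step.done))))))))))))) (Scr.cons (nat_lit 11) (nat_lit 2) (Step.U (nat_lit 894) (Step.U (nat_lit 226) (Step.L (Step.D (nat_lit 681) (Step.B (nat_lit 617) (Step.F (nat_lit 623) (Step.U (nat_lit 1455) (Step.D (nat_lit 1454) Step.done)))))))) (Scr.cons (nat_lit 0) (nat_lit 0) (Step.F (nat_lit 624) (Step.B (nat_lit 610) (Step.L Step.done))) (Scr.cons (nat_lit 2) (nat_lit 0) (Step.D (nat_lit 1454) (Step.B (nat_lit 625) (Step.L Step.done))) (Scr.cons (nat_lit 0) (nat_lit 0) (Step.D (nat_lit 469) (Step.B (nat_lit 626) (Step.D (nat_lit 161) Step.done))) (Scr.cons (nat_lit 0) (nat_lit 0) (Step.D (nat_lit 161) (Step.F (nat_lit 627) Step.done)) (Scr.cons (nat_lit 8) (nat_lit 2) (Step.U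 (nat_lit 124) (Step.L (Step.D (nat_lit 166) Step.done))) (Scr.cons (nat_lit 9) (nat_lit 0) (Step.U (nat_lit 0) (Step.L Step.done)) (Scr.cons (nat_lit 8) (nat_lit 2) (Step.U (nat_lit 20) (Step.B (nat_lit 630) (Step.D (nat_lit 21) Step.done))) (Scr.cons (nat_lit 9) (nat_lit 0) (Step.F (nat_lit 631) (Step.D (nat_lit 153) Step.done)) (Scr.cons (nat_lit 8) (nat_lit 2) (Step.U (nat_lit 154) (Step.B (nat_lit 632) (Step.D (nat_lit 657) Step.done))) (Scr.cons (nat_lit 9) (nat_lit 0) (Step.F (nat_lit 633) (Step.D (nat_lit 660) Step.done)) (Scr.cons (nat_lit 8) (nat_lit 2) (Step.U (nat_lit 1766) (Step.B (nat_lit 634) (Step.D (nat_lit 1772) Step.done))) (Scr.cons (nat_lit 8) (nat_lit 1) (Step.U (nat_lit 0) (Step.L (Step.D (nat_lit 19) Step.done))) (Scr.cons (nat_lit 19) (nat_lit 1) (Step.U (nat_lit 910) (Step.L (Step.L (Step.L (Step.L (Step.D (nat_lit 19) (Step.F (nat_lit 636) (Step.B (nat_lit 630) (Step.D (nat_lit 21) (Step.B (nat_lit 632) (Step.D (nat_lit 657) (Step.B (nat_lit 634)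 (Step.D (nat_lit 1772) Step.done))))))))))))) (Scr.cons (nat_lit 18) (nat_lit 0) (Step.B (nat_lit 635) (Step.F (nat_lit 637) Step.done)) (Scr.cons (nat_lit 8) (nat_lit 2) (Step.U (nat_lit 238) (Step.L (Step.D (nat_lit 240) Step.done))) (Scr.cons (nat_lit 12) (nat_lit 7) (Step.U (nat_lit 932) (Step.U (nat_lit 238) (Step.L (Step.L (Step.L (Step.L (Step.L (Step.L (Step.L (Step.L (Step.L (Step.L (Step.L Step.done))))))))))))) (Scr.cons (nat_lit 8) (nat_lit 3) (Step.B (nat_lit 640) (Step.L (Step.L Step.done))) Scr.nil))))))))))))))))))))))))))))))))))))))))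
noncomputable def s16 : Scr := (Scr.cons (nat_lit 9) (nat_lit 0) (Step.L (Step.D (nat_lit 911) Step.done)) (Scr.cons (nat_lit 8) (nat_lit 3) (Step.F (nat_lit 637) (Step.U (nat_lit 910) (Step.D (nat_lit 911) Step.done))) (Scr.cons (nat_lit 13) (nat_lit 3) (Step.U (nat_lit 938) (Step.F (nat_lit 639) (Step.D (nat_lit 932) (Step.B (nat_lit 641) (Step.L (Step.L (Step.L (Step.L (Step.L (Step.L (Step.L (Step.B (nat_lit 642) (Step.F (nat_lit 643) (Step.F (nat_lit 635) Step.done)))))))))))))) (Scr.cons (nat_lit 3) (nat_lit 1) (Step.F (nat_lit 638) (Step.F (nat_lit 644) Step.done)) (Scr.cons (nat_lit 8) (nat_lit 3) (Step.L (Step.L (Step.D (nat_lit 1331) Step.done))) (Scr.cons (nat_lit 9) (nat_lit 0) (Step.U (nat_lit 411) (Step.L Step.done)) (Scr.cons (nat_lit 8) (nat_lit 2) (Step.L (Step.L (Step.D (nat_lit 141) Step.done))) (Scr.cons (nat_lit 18) (nat_lit 0) (Step.F (nat_lit 77) (Step.B (nat_lit 648) Step.done)) (Scr.cons (nat_lit 8) (nat_lit 2) (Step.U (nat_lit 614) (Step.F (nat_lit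 649) (Step.D (nat_lit 1332) Step.done))) (Scr.cons (nat_lit 8) (nat_lit 1) (Step.L (Step.D (nat_lit 178) (Step.D (nat_lit 751) Step.done))) (Scr.cons (nat_lit 22) (nat_lit 5) (Step.U (nat_lit 751) (Step.U (nat_lit 178) (Step.L (Step.L (Step.L (Step.L (Step.L (Step.L (Step.L (Step.L (Step.B (nat_lit 648) (Step.D (nat_lit 615) (Step.D (nat_lit 1712) Step.done))))))))))))) (Scr.cons (nat_lit 21) (nat_lit 13) (Step.L (Step.L (Step.L (Step.B (nat_lit 14) (Step.F (nat_lit 12) (Step.L (Step.L (Step.B (nat_lit 651) (Step.B (nat_lit 652) (Step.U (nat_lit 1712) (Step.U (nat_lit 615) (Step.D (nat_lit 614) (Step.D (nat_lit 1711) Step.done))))))))))))) (Scr.cons (nat_lit 9) (nat_lit 0) (Step.L (Step.D (nat_lit 718) Step.done)) (Scr.cons (nat_lit 8) (nat_lit 1) (Step.U (nat_lit 1710) (Step.D (nat_lit 1711) (Step.F (nat_lit 653) (Step.B (nat_lit 654) Step.done)))) (Scr.cons (nat_lit 0) (nat_lit 0) (Step.D (nat_lit 1710) (Step.B (nat_lit 655) Step.done)) (Scr.cons (nat_lit 9) (nat_lit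 0) (Step.U (nat_lit 715) (Step.D (nat_lit 716) Step.done)) (Scr.cons (nat_lit 8) (nat_lit 2) (Step.U (nat_lit 1843) (Step.B (nat_lit 657) (Step.D (nat_lit 1844) Step.done))) (Scr.cons (nat_lit 10) (nat_lit 1) (Step.U (nat_lit 1333) (Step.F (nat_lit 647) (Step.F (nat_lit 76) (Step.B (nat_lit 77) (Step.D (nat_lit 1332) (Step.F (nat_lit 650) (Step.B (nat_lit 656) (Step.F (nat_lit 654) (Step.L (Step.L (Step.D (nat_lit 171) (Step.D (nat_lit 716) (Step.D (nat_lit 1844) (Step.F (nat_lit 658) Step.done)))))))))))))) (Scr.cons (nat_lit 1) (nat_lit 0) (Step.D (nat_lit 1843) (Step.F (nat_lit 659) Step.done)) (Scr.cons (nat_lit 8) (nat_lit 3) (Step.L (Step.D (nat_lit 171) (Step.D (nat_lit 716) Step.done))) (Scr.cons (nat_lit 8) (nat_lit 2) (Step.F (nat_lit 61) (Step.F (nat_lit 60) (Step.D (nat_lit 732) Step.done))) (Scr.cons (nat_lit 8) (nat_lit 1) (Step.F (nat_lit 642) (Step.L (Step.L Step.done))) (Scr.cons (nat_lit 21) (nat_lit 2) (Step.B (nat_lit 657) (Step.F (nat_lit 661) (Step.D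 (nat_lit 720) (Step.B (nat_lit 662) (Step.U (nat_lit 732) (Step.L (Step.L (Step.L (Step.L (Step.L (Step.L (Step.F (nat_lit 663) (Step.F (nat_lit 643) Step.done))))))))))))) (Scr.cons (nat_lit 21) (nat_lit 4) (Step.U (nat_lit 1635) (Step.U (nat_lit 563) (Step.L (Step.L (Step.L (Step.L (Step.L (Step.L (Step.D (nat_lit 1331) (Step.F (nat_lit 646) (Step.D (nat_lit 1333) (Step.F (nat_lit 660) (Step.B (nat_lit 664) (Step.F (nat_lit 637) Step.done)))))))))))))) (Scr.cons (nat_lit 1) (nat_lit 0) (Step.D (nat_lit 1635) (Step.B (nat_lit 665) Step.done)) (Scr.cons (nat_lit 8) (nat_lit 1) (Step.F (nat_lit 645) (Step.F (nat_lit 666) (Step.D (nat_lit 1636) Step.done))) (Scr.cons (nat_lit 1) (nat_lit 0) (Step.D (nat_lit 1766) (Step.F (nat_lit 644) Step.done)) (Scr.cons (nat_lit 21) (nat_lit 12) (Step.F (nat_lit 629) (Step.U (nat_lit 124) (Step.L (Step.L (Step.L (Step.L (Step.L (Step.D (nat_lit 563) (Step.D (nat_lit 1636) (Step.F (nat_lit 667) (Step.F (nat_lit 668) (Step.F (nat_lit 633)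 (Step.D (nat_lit 659) (Step.D (nat_lit 1769) Step.done)))))))))))))) (Scr.cons (nat_lit 1) (nat_lit 0) (Step.D (nat_lit 1769) (Step.F (nat_lit 669) (Step.D (nat_lit 693) Step.done))) (Scr.cons (nat_lit 1) (nat_lit 0) (Step.D (nat_lit 693) (Step.F (nat_lit 670) Step.done)) (Scr.cons (nat_lit 9) (nat_lit 0) (Step.U (nat_lit 2001) (Step.D (nat_lit 2002) Step.done)) (Scr.cons (nat_lit 9) (nat_lit 0) (Step.F (nat_lit 629) (Step.D (nat_lit 551) Step.done)) (Scr.cons (nat_lit 8) (nat_lit 2) (Step.U (nat_lit 693) (Step.B (nat_lit 673) (Step.D (nat_lit 1620) Step.done))) (Scr.cons (nat_lit 9) (nat_lit 0) (Step.F (nat_lit 674) (Step.D (nat_lit 1815) Step.done)) (Scr.cons (nat_lit 9) (nat_lit 0) (Step.L (Step.D (nat_lit 14) Step.done)) (Scr.cons (nat_lit 8) (nat_lit 2) (Step.U (nat_lit 15) (Step.B (nat_lit 676) (Step.D (nat_lit 125) Step.done))) (Scr.cons (nat_lit 8) (nat_lit 2) (Step.U (nat_lit 1646) (Step.B (nat_lit 554) (Step.D (nat_lit 1648) Step.done))) (Scr.cons (nat_lit 10)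 (nat_lit 1) (Step.F (nat_lit 675) (Step.U (nat_lit 1620) (Step.F (nat_lit 673) (Step.U (nat_lit 166) (Step.L (Step.L (Step.D (nat_lit 14) (Step.D (nat_lit 125) (Step.F (nat_lit 677) (Step.D (nat_lit 128) (Step.D (nat_lit 569) (Step.D (nat_lit 1648) (Step.F (nat_lit 678) Step.done))))))))))))) (Scr.cons (nat_lit 3) (nat_lit 0) (Step.U (nat_lit 1815) (Step.F (nat_lit 670) (Step.D (nat_lit 1771) Step.done))) (Scr.cons (nat_lit 0) (nat_lit 0) (Step.F (nat_lit 679) (Step.B (nat_lit 680) Step.done)) Scr.nil))))))))))))))))))))))))))))))))))))))))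
noncomputable def s17 : Scr := (Scr.cons (nat_lit 2) (nat_lit 0) (Step.D (nat_lit 1644) (Step.F (nat_lit 606) (Step.D (nat_lit 1543) Step.done))) (Scr.cons (nat_lit 1) (nat_lit 0) (Step.U (nat_lit 2486) (Step.F (nat_lit 682) (Step.U (nat_lit 567) Step.done))) (Scr.cons (nat_lit 3) (nat_lit 1) (Step.B (nat_lit 543) (Step.B (nat_lit 683) (Step.D (nat_lit 568) Step.done))) (Scr.cons (nat_lit 1) (nat_lit 0) (Step.D (nat_lit 2003) (Step.B (nat_lit 684) (Step.D (nat_lit 1646) Step.done))) (Scr.cons (nat_lit 8) (nat_lit 1) (Step.U (nat_lit 877) (Step.D (nat_lit 876) (Step.D (nat_lit 2001) Step.done))) (Scr.cons (nat_lit 0) (nat_lit 0) (Step.F (nat_lit 681) (Step.F (nat_lit 685) (Step.B (nat_lit 686) Step.done))) (Scr.cons (nat_lit 3) (nat_lit 1) (Step.F (nat_lit 672) (Step.F (nat_lit 687) (Step.U (nat_lit 1771) Step.done))) (Scr.cons (nat_lit 11) (nat_lit 5) (Step.U (nat_lit 893) (Step.U (nat_lit 226) (Step.D (nat_lit 225) (Step.B (nat_lit 613) (Step.B (nat_lit 617) (Step.F (nat_lit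 623) (Step.U (nat_lit 1455) (Step.D (nat_lit 1454) Step.done)))))))) (Scr.cons (nat_lit 9) (nat_lit 0) (Step.F (nat_lit 689) (Step.D (nat_lit 2016) Step.done)) (Scr.cons (nat_lit 21) (nat_lit 12) (Step.U (nat_lit 1453) (Step.U (nat_lit 469) (Step.L (Step.L (Step.L (Step.L (Step.L (Step.L (Step.L (Step.L (Step.D (nat_lit 478) (Step.F (nat_lit 622) (Step.D (nat_lit 1782) Step.done))))))))))))) (Scr.cons (nat_lit 8) (nat_lit 2) (Step.U (nat_lit 33) (Step.B (nat_lit 556) (Step.D (nat_lit 35) Step.done))) (Scr.cons (nat_lit 9) (nat_lit 0) (Step.F (nat_lit 9) (Step.D (nat_lit 256) Step.done)) (Scr.cons (nat_lit 8) (nat_lit 1) (Step.F (nat_lit 693) (Step.F (nat_lit 7) (Step.D (nat_lit 220) Step.done))) (Scr.cons (nat_lit 20) (nat_lit 2) (Step.U (nat_lit 878) (Step.U (nat_lit 215) (Step.B (nat_lit 692) (Step.U (nat_lit 35) (Step.D (nat_lit 36) (Step.D (nat_lit 220) (Step.F (nat_lit 694) (Step.D (nat_lit 992) Step.done)))))))) (Scr.cons (nat_lit 13) (nat_lit 3) (Step.F (nat_lit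 690) (Step.U (nat_lit 1454) (Step.D (nat_lit 1453) (Step.B (nat_lit 691) (Step.U (nat_lit 1782) (Step.F (nat_lit 616) (Step.U (nat_lit 255) (Step.D (nat_lit 256) (Step.D (nat_lit 992) (Step.F (nat_lit 695) (Step.U (nat_lit 878) (Step.D (nat_lit 876) (Step.D (nat_lit 2002) Step.done))))))))))))) (Scr.cons (nat_lit 3) (nat_lit 1) (Step.F (nat_lit 690) (Step.B (nat_lit 625) (Step.L Step.done))) (Scr.cons (nat_lit 2) (nat_lit 0) (Step.F (nat_lit 688) (Step.F (nat_lit 696) (Step.B (nat_lit 697) (Step.L Step.done)))) (Scr.cons (nat_lit 1) (nat_lit 0) (Step.B (nat_lit 671) (Step.B (nat_lit 698) (Step.L Step.done))) (Scr.cons (nat_lit 0) (nat_lit 0) (Step.D (nat_lit 166) (Step.B (nat_lit 699) (Step.B (nat_lit 93) Step.done))) (Scr.cons (nat_lit 0) (nat_lit 0) (Step.B (nat_lit 93) (Step.F (nat_lit 700) Step.done)) (Scr.cons (nat_lit 8) (nat_lit 2) (Step.U (nat_lit 77) (Step.L (Step.L Step.done))) (Scr.cons (nat_lit 9) (nat_lit 0) (Step.F (nat_lit 702) (Step.D (nat_lit 408) Step.done))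 (Scr.cons (nat_lit 20) (nat_lit 5) (Step.U (nat_lit 875) (Step.U (nat_lit 215) (Step.B (nat_lit 692) (Step.U (nat_lit 35) (Step.D (nat_lit 36) (Step.B (nat_lit 7) (Step.B (nat_lit 693) (Step.D (nat_lit 992) Step.done)))))))) (Scr.cons (nat_lit 8) (nat_lit 2) (Step.L (Step.L (Step.D (nat_lit 50) Step.done))) (Scr.cons (nat_lit 9) (nat_lit 0) (Step.F (nat_lit 705) (Step.D (nat_lit 52) Step.done)) (Scr.cons (nat_lit 19) (nat_lit 1) (Step.U (nat_lit 254) (Step.B (nat_lit 9) (Step.U (nat_lit 43) (Step.U (nat_lit 4) (Step.L (Step.L (Step.L (Step.L (Step.L (Step.L (Step.D (nat_lit 50) (Step.B (nat_lit 706) (Step.D (nat_lit 287) Step.done))))))))))))) (Scr.cons (nat_lit 8) (nat_lit 3) (Step.F (nat_lit 707) (Step.U (nat_lit 254) (Step.D (nat_lit 256) Step.done))) (Scr.cons (nat_lit 12) (nat_lit 9) (Step.B (nat_lit 704) (Step.U (nat_lit 992) (Step.F (nat_lit 708) (Step.U (nat_lit 287) (Step.B (nat_lit 578) (Step.U (nat_lit 284) (Step.D (nat_lit 282) (Step.B (nat_lit 571) (Step.L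 (Step.L (Step.L (Step.D (nat_lit 333) (Step.D (nat_lit 1164) Step.done))))))))))))) (Scr.cons (nat_lit 3) (nat_lit 1) (Step.D (nat_lit 2002) (Step.B (nat_lit 688) (Step.B (nat_lit 698) (Step.B (nat_lit 90) Step.done)))) (Scr.cons (nat_lit 1) (nat_lit 0) (Step.D (nat_lit 876) (Step.B (nat_lit 710) (Step.B (nat_lit 95) Step.done))) (Scr.cons (nat_lit 8) (nat_lit 1) (Step.U (nat_lit 108) (Step.D (nat_lit 106) (Step.D (nat_lit 502) Step.done))) (Scr.cons (nat_lit 0) (nat_lit 0) (Step.U (nat_lit 875) (Step.B (nat_lit 711) (Step.B (nat_lit 712) Step.done))) (Scr.cons (nat_lit 21) (nat_lit 11) (Step.U (nat_lit 502) (Step.U (nat_lit 106) (Step.U (nat_lit 11) (Step.L (Step.L (Step.L (Step.L (Step.L (Step.L (Step.L (Step.D (nat_lit 77) (Step.D (nat_lit 408) (Step.D (nat_lit 1317) Step.done))))))))))))) (Scr.cons (nat_lit 1) (nat_lit 0) (Step.F (nat_lit 709) (Step.B (nat_lit 713) (Step.B (nat_lit 714) Step.done))) (Scr.cons (nat_lit 2) (nat_lit 0) (Step.D (nat_lit 1317) (Step.F (nat_lit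 715) (Step.U (nat_lit 1164) Step.done))) (Scr.cons (nat_lit 9) (nat_lit 0) (Step.U (nat_lit 332) (Step.D (nat_lit 333) Step.done)) (Scr.cons (nat_lit 3) (nat_lit 0) (Step.B (nat_lit 703) (Step.B (nat_lit 716) (Step.F (nat_lit 717) Step.done))) (Scr.cons (nat_lit 3) (nat_lit 1) (Step.D (nat_lit 332) (Step.F (nat_lit 718) Step.done)) (Scr.cons (nat_lit 11) (nat_lit 8) (Step.U (nat_lit 696) (Step.L (Step.D (nat_lit 166) (Step.F (nat_lit 629) (Step.B (nat_lit 153) (Step.U (nat_lit 356) (Step.D (nat_lit 355) (Step.D (nat_lit 1217) Step.done)))))))) (Scr.cons (nat_lit 8) (nat_lit 0) (Step.F (nat_lit 720) (Step.U (nat_lit 696) (Step.D (nat_lit 695) Step.done))) Scr.nil))))))))))))))))))))))))))))))))))))))))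
noncomputable def s18 : Scr := (Scr.cons (nat_lit 9) (nat_lit 0) (Step.B (nat_lit 721) (Step.D (nat_lit 1819) Step.done)) (Scr.cons (nat_lit 21) (nat_lit 13) (Step.U (nat_lit 717) (Step.L (Step.L (Step.L (Step.L (Step.L (Step.L (Step.L (Step.L (Step.L (Step.L (Step.D (nat_lit 178) (Step.D (nat_lit 752) Step.done))))))))))))) (Scr.cons (nat_lit 12) (nat_lit 11) (Step.F (nat_lit 723) (Step.U (nat_lit 717) (Step.L (Step.L (Step.L (Step.L (Step.B (nat_lit 14) (Step.F (nat_lit 12) (Step.D (nat_lit 25) (Step.F (nat_lit 2) (Step.L (Step.D (nat_lit 695) (Step.D (nat_lit 1819) Step.done))))))))))))) (Scr.cons (nat_lit 22) (nat_lit 4) (Step.U (nat_lit 1218) (Step.U (nat_lit 356) (Step.D (nat_lit 355) (Step.D (nat_lit 1217) (Step.B (nat_lit 722) (Step.F (nat_lit 724) (Step.U (nat_lit 752) (Step.U (nat_lit 178) (Step.L (Step.L (Step.L (Step.L (Step.D (nat_lit 1863) Step.done))))))))))))) (Scr.cons (nat_lit 3) (nat_lit 1) (Step.B (nat_lit 675) (Step.B (nat_lit 680) Step.done)) (Scr.cons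 (nat_lit 3) (nat_lit 0) (Step.D (nat_lit 2001) (Step.F (nat_lit 687) (Step.F (nat_lit 726) Step.done))) (Scr.cons (nat_lit 0) (nat_lit 0) (Step.D (nat_lit 1620) (Step.F (nat_lit 727) (Step.B (nat_lit 710) (Step.U (nat_lit 160) Step.done)))) (Scr.cons (nat_lit 3) (nat_lit 1) (Step.D (nat_lit 551) (Step.B (nat_lit 728) (Step.L Step.done))) (Scr.cons (nat_lit 2) (nat_lit 0) (Step.F (nat_lit 153) (Step.B (nat_lit 729) (Step.L Step.done))) (Scr.cons (nat_lit 1) (nat_lit 0) (Step.U (nat_lit 1218) (Step.B (nat_lit 730) (Step.L Step.done))) (Scr.cons (nat_lit 3) (nat_lit 0) (Step.F (nat_lit 725) (Step.B (nat_lit 731) (Step.L Step.done))) (Scr.cons (nat_lit 2) (nat_lit 0) (Step.D (nat_lit 1863) (Step.B (nat_lit 732) (Step.D (nat_lit 1207) Step.done))) (Scr.cons (nat_lit 2) (nat_lit 0) (Step.D (nat_lit 1207) (Step.F (nat_lit 733) Step.done)) (Scr.cons (nat_lit 22) (nat_lit 5) (Step.L (Step.L (Step.L (Step.L (Step.L (Step.L (Step.L (Step.L (Step.L (Step.L (Step.L (Step.D (nat_lit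 232) (Step.D (nat_lit 909) Step.done))))))))))))) (Scr.cons (nat_lit 12) (nat_lit 0) (Step.U (nat_lit 908) (Step.L (Step.D (nat_lit 232) (Step.D (nat_lit 909) (Step.F (nat_lit 735) (Step.L (Step.L (Step.L (Step.L (Step.L (Step.L (Step.L (Step.L Step.done))))))))))))) (Scr.cons (nat_lit 8) (nat_lit 2) (Step.F (nat_lit 736) (Step.U (nat_lit 908) (Step.D (nat_lit 906) Step.done))) (Scr.cons (nat_lit 21) (nat_lit 5) (Step.B (nat_lit 737) (Step.U (nat_lit 906) (Step.L (Step.L (Step.L (Step.L (Step.L (Step.L (Step.L (Step.L (Step.L (Step.D (nat_lit 791) (Step.D (nat_lit 1924) Step.done))))))))))))) (Scr.cons (nat_lit 21) (nat_lit 10) (Step.U (nat_lit 855) (Step.U (nat_lit 206) (Step.U (nat_lit 29) (Step.L (Step.L (Step.L (Step.L (Step.L (Step.L (Step.L (Step.L (Step.L (Step.L Step.done))))))))))))) (Scr.cons (nat_lit 13) (nat_lit 4) (Step.F (nat_lit 738) (Step.F (nat_lit 736) (Step.U (nat_lit 908) (Step.L (Step.L (Step.L (Step.L (Step.L (Step.L (Step.L (Step.L (Step.L (Step.F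 (nat_lit 739) Step.done))))))))))))) (Scr.cons (nat_lit 9) (nat_lit 0) (Step.U (nat_lit 791) (Step.L Step.done)) (Scr.cons (nat_lit 8) (nat_lit 1) (Step.F (nat_lit 740) (Step.U (nat_lit 1924) (Step.B (nat_lit 741) Step.done))) (Scr.cons (nat_lit 8) (nat_lit 1) (Step.L (Step.D (nat_lit 117) (Step.D (nat_lit 527) Step.done))) (Scr.cons (nat_lit 18) (nat_lit 0) (Step.F (nat_lit 21) (Step.B (nat_lit 692) Step.done)) (Scr.cons (nat_lit 8) (nat_lit 2) (Step.U (nat_lit 217) (Step.F (nat_lit 744) (Step.D (nat_lit 523) Step.done))) (Scr.cons (nat_lit 20) (nat_lit 4) (Step.B (nat_lit 745) (Step.U (nat_lit 523) (Step.U (nat_lit 116) (Step.L (Step.L (Step.L (Step.D (nat_lit 117) (Step.D (nat_lit 527) Step.done)))))))) (Scr.cons (nat_lit 9) (nat_lit 0) (Step.F (nat_lit 524) (Step.D (nat_lit 860) Step.done)) (Scr.cons (nat_lit 13) (nat_lit 6) (Step.U (nat_lit 1822) (Step.L (Step.L (Step.L (Step.L (Step.L (Step.L (Step.D (nat_lit 176) (Step.D (nat_lit 744) (Step.D (nat_lit 1868) (Step.F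 (nat_lit 527) (Step.F (nat_lit 747) (Step.D (nat_lit 864) Step.done))))))))))))) (Scr.cons (nat_lit 8) (nat_lit 2) (Step.F (nat_lit 748) (Step.U (nat_lit 1822) (Step.D (nat_lit 1821) Step.done))) (Scr.cons (nat_lit 12) (nat_lit 11) (Step.U (nat_lit 1617) (Step.U (nat_lit 550) (Step.U (nat_lit 124) (Step.L (Step.L (Step.L (Step.L (Step.L (Step.D (nat_lit 1821) (Step.F (nat_lit 749) (Step.U (nat_lit 864) (Step.D (nat_lit 863) (Step.D (nat_lit 1990) Step.done))))))))))))) (Scr.cons (nat_lit 8) (nat_lit 3) (Step.U (nat_lit 551) (Step.D (nat_lit 550) (Step.D (nat_lit 1619) Step.done))) (Scr.cons (nat_lit 21) (nat_lit 2) (Step.U (nat_lit 1989) (Step.U (nat_lit 861) (Step.U (nat_lit 210) (Step.B (nat_lit 523) (Step.D (nat_lit 211) (Step.D (nat_lit 863) (Step.D (nat_lit 1990) (Step.F (nat_lit 750) (Step.U (nat_lit 1617) (Step.D (nat_lit 1619) (Step.F (nat_lit 751) (Step.D (nat_lit 1620) (Step.D (nat_lit 2530) Step.done))))))))))))) (Scr.cons (nat_lit 8) (nat_lit 0) (Step.B (nat_lit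 681) (Step.F (nat_lit 726) (Step.D (nat_lit 2530) Step.done))) (Scr.cons (nat_lit 3) (nat_lit 0) (Step.F (nat_lit 753) (Step.F (nat_lit 685) (Step.U (nat_lit 877) Step.done))) (Scr.cons (nat_lit 2) (nat_lit 0) (Step.B (nat_lit 752) (Step.B (nat_lit 754) (Step.U (nat_lit 215) Step.done))) (Scr.cons (nat_lit 3) (nat_lit 1) (Step.D (nat_lit 1989) (Step.B (nat_lit 755) (Step.B (nat_lit 692) Step.done))) (Scr.cons (nat_lit 1) (nat_lit 0) (Step.D (nat_lit 861) (Step.B (nat_lit 756) (Step.D (nat_lit 217) Step.done))) (Scr.cons (nat_lit 2) (nat_lit 0) (Step.F (nat_lit 746) (Step.F (nat_lit 757) (Step.U (nat_lit 210) Step.done))) (Scr.cons (nat_lit 8) (nat_lit 1) (Step.U (nat_lit 31) (Step.D (nat_lit 29) (Step.D (nat_lit 206) Step.done))) (Scr.cons (nat_lit 0) (nat_lit 0) (Step.B (nat_lit 743) (Step.B (nat_lit 758) (Step.B (nat_lit 759) Step.done))) (Scr.cons (nat_lit 1) (nat_lit 0) (Step.U (nat_lit 855) (Step.F (nat_lit 760) (Step.L Step.done))) Scr.nil))))))))))))))))))))))))))))))))))))))))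
noncomputable def s19 : Scr := (Scr.cons (nat_lit 0) (nat_lit 0) (Step.F (nat_lit 742) (Step.B (nat_lit 761) (Step.D (nat_lit 1575) Step.done))) (Scr.cons (nat_lit 0) (nat_lit 0) (Step.D (nat_lit 1575) (Step.F (nat_lit 762) Step.done)) (Scr.cons (nat_lit 2) (nat_lit 0) (Step.D (nat_lit 659) (Step.B (nat_lit 698) (Step.L Step.done))) (Scr.cons (nat_lit 3) (nat_lit 0) (Step.U (nat_lit 660) (Step.B (nat_lit 764) (Step.L Step.done))) (Scr.cons (nat_lit 0) (nat_lit 0) (Step.U (nat_lit 1772) (Step.B (nat_lit 765) (Step.L Step.done))) (Scr.cons (nat_lit 2) (nat_lit 0) (Step.B (nat_lit 664) (Step.B (nat_lit 766) (Step.L Step.done))) (Scr.cons (nat_lit 1) (nat_lit 0) (Step.F (nat_lit 660) (Step.B (nat_lit 767) (Step.L Step.done))) (Scr.cons (nat_lit 0) (nat_lit 0) (Step.D (nat_lit 1333) (Step.B (nat_lit 768) (Step.D (nat_lit 1801) Step.done))) (Scr.cons (nat_lit 0) (nat_lit 0) (Step.D (nat_lit 1801) (Step.F (nat_lit 769) Step.done)) (Scr.cons (nat_lit 9) (nat_lit 0) (Step.U (nat_lit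 1882) (Step.D (nat_lit 1883) Step.done)) (Scr.cons (nat_lit 10) (nat_lit 1) (Step.L (Step.L (Step.L (Step.L (Step.L (Step.L (Step.L (Step.L (Step.L (Step.L (Step.L (Step.L (Step.D (nat_lit 1883) Step.done))))))))))))) (Scr.cons (nat_lit 8) (nat_lit 3) (Step.B (nat_lit 771) (Step.F (nat_lit 772) (Step.L Step.done))) (Scr.cons (nat_lit 8) (nat_lit 3) (Step.U (nat_lit 753) (Step.L (Step.D (nat_lit 1883) Step.done))) (Scr.cons (nat_lit 22) (nat_lit 4) (Step.B (nat_lit 771) (Step.F (nat_lit 774) (Step.F (nat_lit 278) (Step.L (Step.L (Step.L (Step.L (Step.L (Step.L (Step.L (Step.L (Step.D (nat_lit 150) (Step.D (nat_lit 649) (Step.D (nat_lit 1758) Step.done)))))))))))))) (Scr.cons (nat_lit 1) (nat_lit 0) (Step.F (nat_lit 773) (Step.B (nat_lit 775) Step.done)) (Scr.cons (nat_lit 9) (nat_lit 0) (Step.F (nat_lit 249) (Step.D (nat_lit 1529) Step.done)) (Scr.cons (nat_lit 8) (nat_lit 1) (Step.F (nat_lit 777) (Step.U (nat_lit 648) (Step.D (nat_lit 649) Step.done))) (Scr.cons (nat_lit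 2) (nat_lit 0) (Step.D (nat_lit 215) (Step.B (nat_lit 711) (Step.D (nat_lit 504) Step.done))) (Scr.cons (nat_lit 3) (nat_lit 0) (Step.U (nat_lit 1529) (Step.F (nat_lit 779) (Step.B (nat_lit 21) Step.done))) (Scr.cons (nat_lit 0) (nat_lit 0) (Step.F (nat_lit 778) (Step.B (nat_lit 780) (Step.D (nat_lit 523) Step.done))) (Scr.cons (nat_lit 8) (nat_lit 1) (Step.U (nat_lit 862) (Step.D (nat_lit 861) (Step.D (nat_lit 1988) Step.done))) (Scr.cons (nat_lit 9) (nat_lit 0) (Step.U (nat_lit 1988) (Step.D (nat_lit 1989) Step.done)) (Scr.cons (nat_lit 3) (nat_lit 0) (Step.B (nat_lit 783) (Step.B (nat_lit 755) (Step.B (nat_lit 21) Step.done))) (Scr.cons (nat_lit 0) (nat_lit 0) (Step.B (nat_lit 782) (Step.B (nat_lit 784) (Step.D (nat_lit 523) Step.done))) (Scr.cons (nat_lit 3) (nat_lit 1) (Step.D (nat_lit 862) (Step.B (nat_lit 785) Step.done)) (Scr.cons (nat_lit 3) (nat_lit 1) (Step.F (nat_lit 249) (Step.F (nat_lit 779) (Step.B (nat_lit 692) Step.done))) (Scr.cons (nat_lit 1) (nat_lit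 0) (Step.D (nat_lit 217) (Step.F (nat_lit 757) Step.done)) (Scr.cons (nat_lit 1) (nat_lit 0) (Step.D (nat_lit 648) (Step.B (nat_lit 787) (Step.B (nat_lit 788) Step.done))) (Scr.cons (nat_lit 8) (nat_lit 2) (Step.U (nat_lit 278) (Step.B (nat_lit 706) (Step.D (nat_lit 287) Step.done))) (Scr.cons (nat_lit 18) (nat_lit 0) (Step.B (nat_lit 790) (Step.F (nat_lit 707) Step.done)) (Scr.cons (nat_lit 22) (nat_lit 6) (Step.U (nat_lit 155) (Step.L (Step.L (Step.L (Step.L (Step.L (Step.L (Step.L (Step.L (Step.L (Step.L (Step.D (nat_lit 47) (Step.D (nat_lit 269) Step.done))))))))))))) (Scr.cons (nat_lit 8) (nat_lit 1) (Step.F (nat_lit 792) (Step.U (nat_lit 155) (Step.D (nat_lit 156) Step.done))) (Scr.cons (nat_lit 21) (nat_lit 1) (Step.U (nat_lit 147) (Step.L (Step.L (Step.L (Step.D (nat_lit 156) (Step.F (nat_lit 793) (Step.U (nat_lit 269) (Step.U (nat_lit 47) (Step.L (Step.B (nat_lit 6) (Step.F (nat_lit 8) (Step.D (nat_lit 41) (Step.D (nat_lit 254) Step.done))))))))))))) (Scr.cons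 (nat_lit 8) (nat_lit 1) (Step.B (nat_lit 791) (Step.F (nat_lit 794) (Step.D (nat_lit 638) Step.done))) (Scr.cons (nat_lit 20) (nat_lit 2) (Step.U (nat_lit 634) (Step.U (nat_lit 146) (Step.L (Step.L (Step.D (nat_lit 147) (Step.D (nat_lit 638) (Step.F (nat_lit 795) (Step.D (nat_lit 1031) Step.done)))))))) (Scr.cons (nat_lit 9) (nat_lit 0) (Step.U (nat_lit 633) (Step.D (nat_lit 634) Step.done)) (Scr.cons (nat_lit 21) (nat_lit 0) (Step.U (nat_lit 861) (Step.U (nat_lit 210) (Step.B (nat_lit 523) (Step.F (nat_lit 561) (Step.D (nat_lit 36) (Step.D (nat_lit 220) (Step.F (nat_lit 694) (Step.F (nat_lit 708) (Step.F (nat_lit 790) (Step.D (nat_lit 1031) (Step.F (nat_lit 796) (Step.F (nat_lit 797) (Step.D (nat_lit 1739) Step.done))))))))))))) (Scr.cons (nat_lit 0) (nat_lit 0) (Step.F (nat_lit 798) (Step.B (nat_lit 756) (Step.U (nat_lit 35) Step.done))) (Scr.cons (nat_lit 1) (nat_lit 0) (Step.D (nat_lit 1739) (Step.B (nat_lit 799) (Step.B (nat_lit 561) Step.done))) (Scr.cons (nat_lit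 3) (nat_lit 0) (Step.D (nat_lit 633) (Step.B (nat_lit 800) (Step.F (nat_lit 523) Step.done))) Scr.nil))))))))))))))))))))))))))))))))))))))))
noncomputable def s20 : Scr := (Scr.cons (nat_lit 2) (nat_lit 0) (Step.D (nat_lit 146) (Step.B (nat_lit 801) (Step.D (nat_lit 210) (Step.F (nat_lit 789) Step.done)))) (Scr.cons (nat_lit 3) (nat_lit 1) (Step.F (nat_lit 786) (Step.F (nat_lit 789) (Step.F (nat_lit 802) (Step.L Step.done)))) (Scr.cons (nat_lit 2) (nat_lit 0) (Step.U (nat_lit 1758) (Step.B (nat_lit 781) (Step.B (nat_lit 803) (Step.L Step.done)))) (Scr.cons (nat_lit 1) (nat_lit 0) (Step.B (nat_lit 776) (Step.B (nat_lit 804) (Step.D (nat_lit 1741) Step.done))) (Scr.cons (nat_lit 1) (nat_lit 0) (Step.D (nat_lit 1741) (Step.F (nat_lit 805) Step.done)) (Scr.cons (nat_lit 18) (nat_lit 0) (Step.B (nat_lit 151) (Step.D (nat_lit 652) Step.done)) (Scr.cons (nat_lit 8) (nat_lit 0) (Step.U (nat_lit 1224) (Step.B (nat_lit 807) (Step.D (nat_lit 1759) Step.done))) (Scr.cons (nat_lit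 8) (nat_lit 2) (Step.L (Step.L (Step.D (nat_lit 635) Step.done))) (Scr.cons (nat_lit 9) (nat_lit 0) (Step.F (nat_lit 809) (Step.D (nat_lit 1740) Step.done)) (Scr.cons (nat_lit 19) (nat_lit 0) (Step.F (nat_lit 808) (Step.U (nat_lit 1224) (Step.B (nat_lit 151) (Step.U (nat_lit 151) (Step.B (nat_lit 631) (Step.U (nat_lit 21) (Step.L (Step.L (Step.L (Step.L (Step.L (Step.D (nat_lit 635) (Step.B (nat_lit 810) Step.done))))))))))))) (Scr.cons (nat_lit 1) (nat_lit 0) (Step.D (nat_lit 154) (Step.B (nat_lit 764) (Step.L Step.done))) (Scr.cons (nat_lit 3) (nat_lit 1) (Step.F (nat_lit 632) (Step.B (nat_lit 812) (Step.L Step.done))) (Scr.cons (nat_lit 1) (nat_lit 0) (Step.F (nat_lit 150) (Step.B (nat_lit 813) (Step.L Step.done))) (Scr.cons (nat_lit 0) (nat_lit 0) (Step.U (nat_lit 1224) (Step.B (nat_lit 814) (Step.L Step.done))) (Scr.cons (nat_lit 3) (nat_lit 0) (Step.F (nat_lit 808) (Step.B (nat_lit 815) (Step.L Step.done))) (Scr.cons (nat_lit 0) (nat_lit 0) (Step.F (nat_lit 811)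 (Step.B (nat_lit 816) (Step.L Step.done))) (Scr.cons (nat_lit 3) (nat_lit 0) (Step.D (nat_lit 1740) (Step.B (nat_lit 817) Step.done)) (Scr.cons (nat_lit 8) (nat_lit 1) (Step.U (nat_lit 847) (Step.L (Step.D (nat_lit 1977) Step.done))) (Scr.cons (nat_lit 9) (nat_lit 0) (Step.F (nat_lit 745) (Step.D (nat_lit 880) Step.done)) (Scr.cons (nat_lit 10) (nat_lit 1) (Step.F (nat_lit 820) (Step.U (nat_lit 523) (Step.B (nat_lit 744) (Step.U (nat_lit 35) (Step.F (nat_lit 556) (Step.F (nat_lit 20) (Step.L (Step.L (Step.L (Step.L (Step.L (Step.L (Step.D (nat_lit 848) Step.done))))))))))))) (Scr.cons (nat_lit 9) (nat_lit 0) (Step.U (nat_lit 847) (Step.D (nat_lit 848) Step.done)) (Scr.cons (nat_lit 8) (nat_lit 3) (Step.B (nat_lit 820) (Step.B (nat_lit 821) (Step.F (nat_lit 822) Step.done))) (Scr.cons (nat_lit 8) (nat_lit 3) (Step.U (nat_lit 521) (Step.D (nat_lit 519) (Step.D (nat_lit 1554) Step.done))) (Scr.cons (nat_lit 11) (nat_lit 1) (Step.B (nat_lit 47) (Step.U (nat_lit 686) (Step.L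 (Step.D (nat_lit 163) (Step.F (nat_lit 51) (Step.U (nat_lit 520) (Step.D (nat_lit 519) (Step.D (nat_lit 1554) Step.done)))))))) (Scr.cons (nat_lit 8) (nat_lit 2) (Step.L (Step.L (Step.D (nat_lit 627) Step.done))) (Scr.cons (nat_lit 22) (nat_lit 4) (Step.U (nat_lit 1574) (Step.U (nat_lit 527) (Step.U (nat_lit 117) (Step.L (Step.L (Step.L (Step.L (Step.D (nat_lit 115) (Step.D (nat_lit 521) (Step.B (nat_lit 824) (Step.F (nat_lit 825) (Step.B (nat_lit 826) (Step.D (nat_lit 1726) Step.done))))))))))))) (Scr.cons (nat_lit 18) (nat_lit 0) (Step.L (Step.B (nat_lit 826) Step.done)) (Scr.cons (nat_lit 12) (nat_lit 12) (Step.U (nat_lit 931) (Step.U (nat_lit 238) (Step.L (Step.L (Step.L (Step.L (Step.L (Step.L (Step.L (Step.L (Step.L (Step.B (nat_lit 828) (Step.D (nat_lit 1726) Step.done))))))))))))) (Scr.cons (nat_lit 21) (nat_lit 4) (Step.U (nat_lit 1976) (Step.D (nat_lit 1977) (Step.F (nat_lit 819) (Step.F (nat_lit 823) (Step.F (nat_lit 745) (Step.B (nat_lit 746) (Step.D (nat_lit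 1574) (Step.B (nat_lit 827) (Step.F (nat_lit 829) (Step.U (nat_lit 931) (Step.U (nat_lit 238) (Step.D (nat_lit 239) (Step.D (nat_lit 935) Step.done))))))))))))) (Scr.cons (nat_lit 9) (nat_lit 0) (Step.U (nat_lit 935) (Step.D (nat_lit 936) Step.done)) (Scr.cons (nat_lit 8) (nat_lit 2) (Step.B (nat_lit 830) (Step.B (nat_lit 831) (Step.D (nat_lit 2052) Step.done))) (Scr.cons (nat_lit 3) (nat_lit 0) (Step.F (nat_lit 635) (Step.F (nat_lit 644) Step.done)) (Scr.cons (nat_lit 20) (nat_lit 2) (Step.U (nat_lit 936) (Step.U (nat_lit 239) (Step.L (Step.D (nat_lit 240) (Step.D (nat_lit 938) (Step.F (nat_lit 833) (Step.U (nat_lit 1772) (Step.D (nat_lit 1773) Step.done)))))))) (Scr.cons (nat_lit 2) (nat_lit 0) (Step.U (nat_lit 1773) (Step.B (nat_lit 765) (Step.L Step.done))) (Scr.cons (nat_lit 1) (nat_lit 0) (Step.B (nat_lit 834) (Step.B (nat_lit 835) (Step.L Step.done))) (Scr.cons (nat_lit 0) (nat_lit 0) (Step.U (nat_lit 2052) (Step.B (nat_lit 836) (Step.D (nat_lit 682) Step.done)))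 (Scr.cons (nat_lit 3) (nat_lit 0) (Step.B (nat_lit 832) (Step.B (nat_lit 837) (Step.D (nat_lit 1804) Step.done))) (Scr.cons (nat_lit 3) (nat_lit 0) (Step.B (nat_lit 831) (Step.B (nat_lit 836) (Step.D (nat_lit 684) Step.done))) (Scr.cons (nat_lit 9) (nat_lit 0) (Step.U (nat_lit 794) (Step.D (nat_lit 795) Step.done)) (Scr.cons (nat_lit 9) (nat_lit 0) (Step.U (nat_lit 1636) (Step.D (nat_lit 1637) Step.done)) Scr.nil))))))))))))))))))))))))))))))))))))))))
noncomputable def s21 : Scr := (Scr.cons (nat_lit 8) (nat_lit 1) (Step.L (Step.L (Step.D (nat_lit 187) Step.done))) (Scr.cons (nat_lit 10) (nat_lit 1) (Step.F (nat_lit 841) (Step.F (nat_lit 667) (Step.F (nat_lit 645) (Step.U (nat_lit 910) (Step.D (nat_lit 911) (Step.B (nat_lit 663) (Step.L (Step.L (Step.L (Step.B (nat_lit 842) (Step.U (nat_lit 187) (Step.L (Step.D (nat_lit 795) Step.done))))))))))))) (Scr.cons (nat_lit 8) (nat_lit 3) (Step.B (nat_lit 840) (Step.F (nat_lit 843) (Step.F (nat_lit 841) Step.done))) (Scr.cons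 (nat_lit 9) (nat_lit 0) (Step.U (nat_lit 187) (Step.L Step.done)) (Scr.cons (nat_lit 8) (nat_lit 2) (Step.U (nat_lit 796) (Step.B (nat_lit 845) (Step.D (nat_lit 797) Step.done))) (Scr.cons (nat_lit 21) (nat_lit 1) (Step.U (nat_lit 798) (Step.L (Step.L (Step.L (Step.L (Step.L (Step.L (Step.L (Step.L (Step.L (Step.L (Step.B (nat_lit 336) (Step.F (nat_lit 341) Step.done))))))))))))) (Scr.cons (nat_lit 8) (nat_lit 0) (Step.U (nat_lit 963) (Step.D (nat_lit 966) (Step.F (nat_lit 847) Step.done))) (Scr.cons (nat_lit 20) (nat_lit 3) (Step.U (nat_lit 1935) (Step.B (nat_lit 846) (Step.U (nat_lit 797) (Step.D (nat_lit 798) (Step.F (nat_lit 848) (Step.U (nat_lit 963) (Step.D (nat_lit 964) (Step.D (nat_lit 2068) Step.done)))))))) (Scr.cons (nat_lit 8) (nat_lit 3) (Step.U (nat_lit 660) (Step.D (nat_lit 658) (Step.D (nat_lit 1768) Step.done))) (Scr.cons (nat_lit 20) (nat_lit 5) (Step.U (nat_lit 653) (Step.U (nat_lit 152) (Step.B (nat_lit 631) (Step.U (nat_lit 21) (Step.L (Step.D (nat_lit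 155) (Step.B (nat_lit 792) (Step.D (nat_lit 1013) Step.done)))))))) (Scr.cons (nat_lit 21) (nat_lit 10) (Step.U (nat_lit 884) (Step.U (nat_lit 220) (Step.B (nat_lit 7) (Step.U (nat_lit 43) (Step.F (nat_lit 6) (Step.L (Step.D (nat_lit 47) (Step.D (nat_lit 269) (Step.D (nat_lit 1013) (Step.F (nat_lit 851) (Step.U (nat_lit 653) (Step.D (nat_lit 654) (Step.D (nat_lit 1762) Step.done))))))))))))) (Scr.cons (nat_lit 9) (nat_lit 0) (Step.U (nat_lit 220) (Step.D (nat_lit 221) Step.done)) (Scr.cons (nat_lit 8) (nat_lit 3) (Step.U (nat_lit 221) (Step.D (nat_lit 219) (Step.D (nat_lit 883) Step.done))) (Scr.cons (nat_lit 9) (nat_lit 0) (Step.U (nat_lit 882) (Step.D (nat_lit 883) Step.done)) (Scr.cons (nat_lit 22) (nat_lit 0) (Step.U (nat_lit 886) (Step.U (nat_lit 221) (Step.U (nat_lit 36) (Step.U (nat_lit 2) (Step.L (Step.L (Step.L (Step.L (Step.L (Step.D (nat_lit 6) (Step.D (nat_lit 66) (Step.D (nat_lit 358) (Step.D (nat_lit 1221) Step.done))))))))))))) (Scr.cons (nat_lit 8) (nat_lit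 2) (Step.B (nat_lit 856) (Step.U (nat_lit 1221) (Step.D (nat_lit 1219) Step.done))) (Scr.cons (nat_lit 12) (nat_lit 11) (Step.U (nat_lit 1171) (Step.U (nat_lit 335) (Step.U (nat_lit 59) (Step.L (Step.L (Step.D (nat_lit 6) (Step.D (nat_lit 66) (Step.D (nat_lit 358) (Step.D (nat_lit 1219) (Step.F (nat_lit 857) (Step.U (nat_lit 886) (Step.B (nat_lit 854) (Step.F (nat_lit 855) Step.done))))))))))))) (Scr.cons (nat_lit 21) (nat_lit 3) (Step.U (nat_lit 1171) (Step.B (nat_lit 225) (Step.U (nat_lit 541) (Step.L (Step.L (Step.L (Step.L (Step.L (Step.L (Step.L (Step.D (nat_lit 113) (Step.D (nat_lit 513) (Step.D (nat_lit 1544) Step.done))))))))))))) (Scr.cons (nat_lit 8) (nat_lit 2) (Step.U (nat_lit 111) (Step.B (nat_lit 542) (Step.D (nat_lit 113) Step.done))) (Scr.cons (nat_lit 9) (nat_lit 0) (Step.F (nat_lit 860) (Step.D (nat_lit 508) Step.done)) (Scr.cons (nat_lit 9) (nat_lit 0) (Step.F (nat_lit 677) (Step.D (nat_lit 130) Step.done)) (Scr.cons (nat_lit 19) (nat_lit 1) (Step.U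 (nat_lit 507) (Step.B (nat_lit 860) (Step.U (nat_lit 113) (Step.L (Step.L (Step.L (Step.L (Step.L (Step.L (Step.B (nat_lit 676) (Step.D (nat_lit 125) (Step.B (nat_lit 862) (Step.D (nat_lit 571) Step.done))))))))))))) (Scr.cons (nat_lit 8) (nat_lit 3) (Step.F (nat_lit 863) (Step.U (nat_lit 507) (Step.D (nat_lit 508) Step.done))) (Scr.cons (nat_lit 8) (nat_lit 2) (Step.U (nat_lit 554) (Step.B (nat_lit 862) (Step.D (nat_lit 571) Step.done))) (Scr.cons (nat_lit 13) (nat_lit 4) (Step.D (nat_lit 1762) (Step.F (nat_lit 852) (Step.U (nat_lit 884) (Step.B (nat_lit 853) (Step.B (nat_lit 854) (Step.F (nat_lit 855) (Step.F (nat_lit 858) (Step.B (nat_lit 859) (Step.U (nat_lit 1544) (Step.U (nat_lit 513) (Step.B (nat_lit 861) (Step.F (nat_lit 864) (Step.F (nat_lit 865) (Step.D (nat_lit 1626) Step.done)))))))))))))) (Scr.cons (nat_lit 2) (nat_lit 0) (Step.D (nat_lit 1626) (Step.F (nat_lit 866) (Step.D (nat_lit 1761) Step.done))) (Scr.cons (nat_lit 2) (nat_lit 0) (Step.D (nat_lit 1761)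 (Step.F (nat_lit 867) Step.done)) (Scr.cons (nat_lit 20) (nat_lit 2) (Step.U (nat_lit 1762) (Step.B (nat_lit 868) (Step.B (nat_lit 865) (Step.U (nat_lit 571) (Step.D (nat_lit 572) (Step.D (nat_lit 1651) (Step.F (nat_lit 560) (Step.B (nat_lit 852) Step.done)))))))) (Scr.cons (nat_lit 9) (nat_lit 0) (Step.U (nat_lit 66) (Step.D (nat_lit 67) Step.done)) (Scr.cons (nat_lit 8) (nat_lit 2) (Step.U (nat_lit 358) (Step.B (nat_lit 870) (Step.D (nat_lit 360) Step.done))) (Scr.cons (nat_lit 11) (nat_lit 5) (Step.U (nat_lit 654) (Step.U (nat_lit 152) (Step.D (nat_lit 151) (Step.F (nat_lit 151) (Step.U (nat_lit 361) (Step.D (nat_lit 360) (Step.F (nat_lit 871) (Step.D (nat_lit 1220) Step.done)))))))) (Scr.cons (nat_lit 9) (nat_lit 0) (Step.F (nat_lit 872) (Step.D (nat_lit 1762) Step.done)) (Scr.cons (nat_lit 21) (nat_lit 7) (Step.F (nat_lit 869) (Step.F (nat_lit 873) (Step.U (nat_lit 1220) (Step.U (nat_lit 358) (Step.U (nat_lit 66) (Step.B (nat_lit 215) (Step.U (nat_lit 60) (Step.L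 (Step.D (nat_lit 6) (Step.D (nat_lit 66) (Step.D (nat_lit 358) (Step.D (nat_lit 1220) (Step.B (nat_lit 873) Step.done))))))))))))) (Scr.cons (nat_lit 8) (nat_lit 2) (Step.U (nat_lit 884) (Step.B (nat_lit 853) (Step.D (nat_lit 885) Step.done))) (Scr.cons (nat_lit 21) (nat_lit 5) (Step.U (nat_lit 1768) (Step.U (nat_lit 658) (Step.U (nat_lit 154) (Step.F (nat_lit 631) (Step.D (nat_lit 152) (Step.D (nat_lit 654) (Step.D (nat_lit 1762) (Step.F (nat_lit 869) (Step.F (nat_lit 874) (Step.F (nat_lit 869) (Step.F (nat_lit 852) (Step.B (nat_lit 875) (Step.D (nat_lit 2008) Step.done))))))))))))) (Scr.cons (nat_lit 9) (nat_lit 0) (Step.U (nat_lit 249) (Step.D (nat_lit 250) Step.done)) (Scr.cons (nat_lit 8) (nat_lit 3) (Step.U (nat_lit 40) (Step.D (nat_lit 38) (Step.D (nat_lit 250) Step.done))) (Scr.cons (nat_lit 11) (nat_lit 5) (Step.U (nat_lit 980) (Step.U (nat_lit 251) (Step.F (nat_lit 5) (Step.U (nat_lit 3) (Step.L (Step.L (Step.L (Step.D (nat_lit 985) Step.done)))))))) (Scr.cons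 (nat_lit 8) (nat_lit 3) (Step.F (nat_lit 3) (Step.L (Step.D (nat_lit 14) Step.done))) (Scr.cons (nat_lit 12) (nat_lit 9) (Step.U (nat_lit 557) (Step.U (nat_lit 126) (Step.F (nat_lit 880) (Step.U (nat_lit 25) (Step.B (nat_lit 12) (Step.U (nat_lit 24) (Step.L (Step.L (Step.L (Step.L (Step.L (Step.L (Step.D (nat_lit 985) Step.done))))))))))))) Scr.nil))))))))))))))))))))))))))))))))))))))))
noncomputable def s22 : Scr := (Scr.cons (nat_lit 11) (nat_lit 5) (Step.L (Step.L (Step.L (Step.L (Step.L (Step.L (Step.L (Step.D (nat_lit 558) Step.done)))))))) (Scr.cons (nat_lit 13) (nat_lit 1) (Step.U (nat_lit 983) (Step.U (nat_lit 252) (Step.F (nat_lit 92) (Step.D (nat_lit 251) (Step.D (nat_lit 980) (Step.B (nat_lit 879) (Step.F (nat_lit 881) (Step.U (nat_lit 557) (Step.U (nat_lit 126) (Step.F (nat_lit 676) (Step.L (Step.L (Step.B (nat_lit 882) Step.done))))))))))))) (Scr.cons (nat_lit 11) (nat_lit 2) (Step.L (Step.L (Step.L (Step.L (Step.L (Step.L (Step.L (Step.D (nat_lit 558) Step.done))))))))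 (Scr.cons (nat_lit 12) (nat_lit 13) (Step.U (nat_lit 971) (Step.B (nat_lit 877) (Step.F (nat_lit 878) (Step.D (nat_lit 252) (Step.D (nat_lit 983) (Step.B (nat_lit 883) (Step.F (nat_lit 884) (Step.L (Step.L (Step.D (nat_lit 15) (Step.D (nat_lit 130) (Step.D (nat_lit 572) (Step.D (nat_lit 1650) Step.done))))))))))))) (Scr.cons (nat_lit 18) (nat_lit 0) (Step.F (nat_lit 559) (Step.B (nat_lit 875) Step.done)) (Scr.cons (nat_lit 8) (nat_lit 0) (Step.B (nat_lit 885) (Step.B (nat_lit 886) (Step.D (nat_lit 2008) Step.done))) (Scr.cons (nat_lit 12) (nat_lit 10) (Step.U (nat_lit 1934) (Step.B (nat_lit 844) (Step.F (nat_lit 667) (Step.F (nat_lit 668) (Step.B (nat_lit 634) (Step.B (nat_lit 850) (Step.B (nat_lit 876) (Step.F (nat_lit 887) (Step.U (nat_lit 971) (Step.B (nat_lit 340) (Step.U (nat_lit 965) (Step.D (nat_lit 964) (Step.D (nat_lit 2068) Step.done))))))))))))) (Scr.cons (nat_lit 9) (nat_lit 0) (Step.B (nat_lit 849) (Step.F (nat_lit 888) Step.done)) (Scr.cons (nat_lit 8) (nat_lit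 1) (Step.B (nat_lit 849) (Step.U (nat_lit 2068) (Step.D (nat_lit 2069) Step.done))) (Scr.cons (nat_lit 21) (nat_lit 4) (Step.U (nat_lit 1454) (Step.D (nat_lit 1455) (Step.B (nat_lit 623) (Step.U (nat_lit 1782) (Step.F (nat_lit 616) (Step.U (nat_lit 255) (Step.U (nat_lit 41) (Step.U (nat_lit 3) (Step.L (Step.D (nat_lit 38) (Step.D (nat_lit 247) (Step.D (nat_lit 964) (Step.D (nat_lit 2069) Step.done))))))))))))) (Scr.cons (nat_lit 1) (nat_lit 0) (Step.F (nat_lit 891) (Step.B (nat_lit 625) (Step.L Step.done))) (Scr.cons (nat_lit 0) (nat_lit 0) (Step.B (nat_lit 890) (Step.B (nat_lit 892) (Step.L Step.done))) (Scr.cons (nat_lit 3) (nat_lit 1) (Step.F (nat_lit 889) (Step.B (nat_lit 893) (Step.L Step.done))) (Scr.cons (nat_lit 2) (nat_lit 0) (Step.D (nat_lit 1934) (Step.B (nat_lit 894) (Step.L Step.done))) (Scr.cons (nat_lit 1) (nat_lit 0) (Step.F (nat_lit 844) (Step.B (nat_lit 895) (Step.L Step.done))) (Scr.cons (nat_lit 3) (nat_lit 0) (Step.D (nat_lit 1636) (Step.B (nat_lit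 896) (Step.L Step.done))) (Scr.cons (nat_lit 2) (nat_lit 0) (Step.D (nat_lit 563) (Step.B (nat_lit 897) (Step.D (nat_lit 239) Step.done))) (Scr.cons (nat_lit 3) (nat_lit 1) (Step.F (nat_lit 839) (Step.U (nat_lit 935) (Step.F (nat_lit 898) (Step.L Step.done)))) (Scr.cons (nat_lit 1) (nat_lit 0) (Step.F (nat_lit 838) (Step.B (nat_lit 830) (Step.B (nat_lit 839) (Step.B (nat_lit 899) (Step.L Step.done))))) (Scr.cons (nat_lit 2) (nat_lit 0) (Step.D (nat_lit 1976) (Step.B (nat_lit 838) (Step.B (nat_lit 900) (Step.D (nat_lit 1641) Step.done)))) (Scr.cons (nat_lit 2) (nat_lit 0) (Step.D (nat_lit 1641) (Step.F (nat_lit 901) Step.done)) (Scr.cons (nat_lit 22) (nat_lit 5) (Step.U (nat_lit 1065) (Step.L (Step.L (Step.L (Step.L (Step.L (Step.L (Step.L (Step.B (nat_lit 6) (Step.D (nat_lit 44) (Step.D (nat_lit 262) (Step.D (nat_lit 1000) (Step.D (nat_lit 2100) Step.done))))))))))))) (Scr.cons (nat_lit 8) (nat_lit 1) (Step.L (Step.L (Step.D (nat_lit 1065) Step.done))) (Scr.cons (nat_lit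 12) (nat_lit 0) (Step.U (nat_lit 2099) (Step.U (nat_lit 999) (Step.D (nat_lit 1000) (Step.D (nat_lit 2100) (Step.F (nat_lit 903) (Step.F (nat_lit 904) (Step.L (Step.L (Step.L (Step.L (Step.L (Step.D (nat_lit 1058) (Step.D (nat_lit 2146) Step.done))))))))))))) (Scr.cons (nat_lit 8) (nat_lit 2) (Step.F (nat_lit 905) (Step.U (nat_lit 2099) (Step.D (nat_lit 2098) Step.done))) (Scr.cons (nat_lit 21) (nat_lit 5) (Step.B (nat_lit 906) (Step.U (nat_lit 2098) (Step.U (nat_lit 999) (Step.U (nat_lit 262) (Step.U (nat_lit 44) (Step.F (nat_lit 6) (Step.L (Step.L (Step.D (nat_lit 11) (Step.D (nat_lit 106) (Step.D (nat_lit 501) (Step.D (nat_lit 1526) (Step.D (nat_lit 2471) Step.done))))))))))))) (Scr.cons (nat_lit 22) (nat_lit 4) (Step.U (nat_lit 1805) (Step.U (nat_lit 683) (Step.L (Step.L (Step.L (Step.L (Step.B (nat_lit 90) (Step.B (nat_lit 95) (Step.U (nat_lit 108) (Step.D (nat_lit 106) (Step.D (nat_lit 501) (Step.D (nat_lit 1526) (Step.D (nat_lit 2472) Step.done))))))))))))) (Scr.cons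 (nat_lit 8) (nat_lit 1) (Step.L (Step.L (Step.D (nat_lit 683) Step.done))) (Scr.cons (nat_lit 20) (nat_lit 2) (Step.U (nat_lit 895) (Step.U (nat_lit 226) (Step.L (Step.L (Step.L (Step.L (Step.B (nat_lit 909) (Step.D (nat_lit 1806) Step.done)))))))) (Scr.cons (nat_lit 9) (nat_lit 0) (Step.U (nat_lit 894) (Step.D (nat_lit 895) Step.done)) (Scr.cons (nat_lit 3) (nat_lit 1) (Step.F (nat_lit 911) (Step.B (nat_lit 610) (Step.L Step.done))) (Scr.cons (nat_lit 1) (nat_lit 0) (Step.F (nat_lit 910) (Step.B (nat_lit 912) (Step.D (nat_lit 681) Step.done))) (Scr.cons (nat_lit 2) (nat_lit 0) (Step.D (nat_lit 1806) (Step.B (nat_lit 913) (Step.B (nat_lit 617) Step.done))) (Scr.cons (nat_lit 1) (nat_lit 0) (Step.D (nat_lit 1782) (Step.F (nat_lit 914) (Step.D (nat_lit 1805) Step.done))) (Scr.cons (nat_lit 3) (nat_lit 0) (Step.F (nat_lit 908) (Step.F (nat_lit 915) (Step.F (nat_lit 616) Step.done))) (Scr.cons (nat_lit 2) (nat_lit 0) (Step.D (nat_lit 2472) (Step.B (nat_lit 916) (Step.U (nat_lit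 255) Step.done))) (Scr.cons (nat_lit 9) (nat_lit 0) (Step.U (nat_lit 853) (Step.D (nat_lit 854) Step.done)) (Scr.cons (nat_lit 21) (nat_lit 4) (Step.U (nat_lit 501) (Step.D (nat_lit 502) (Step.F (nat_lit 712) (Step.F (nat_lit 95) (Step.F (nat_lit 90) (Step.L (Step.L (Step.L (Step.L (Step.L (Step.D (nat_lit 29) (Step.D (nat_lit 205) (Step.D (nat_lit 853) Step.done))))))))))))) (Scr.cons (nat_lit 8) (nat_lit 1) (Step.F (nat_lit 918) (Step.F (nat_lit 919) (Step.D (nat_lit 1526) Step.done))) (Scr.cons (nat_lit 8) (nat_lit 3) (Step.U (nat_lit 854) (Step.D (nat_lit 852) (Step.D (nat_lit 1985) Step.done))) Scr.nil))))))))))))))))))))))))))))))))))))))))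
noncomputable def s23 : Scr := (Scr.cons (nat_lit 20) (nat_lit 4) (Step.U (nat_lit 1985) (Step.U (nat_lit 852) (Step.U (nat_lit 205) (Step.D (nat_lit 206) (Step.F (nat_lit 759) (Step.D (nat_lit 210) (Step.D (nat_lit 861) (Step.D (nat_lit 1988) Step.done)))))))) (Scr.cons (nat_lit 2) (nat_lit 0) (Step.B (nat_lit 922) (Step.B (nat_lit 784) (Step.U (nat_lit 116) Step.done))) (Scr.cons (nat_lit 1) (nat_lit 0) (Step.B (nat_lit 921) (Step.B (nat_lit 923) (Step.L Step.done))) (Scr.cons (nat_lit 0) (nat_lit 0) (Step.F (nat_lit 917) (Step.F (nat_lit 920) (Step.B (nat_lit 924) (Step.L Step.done)))) (Scr.cons (nat_lit 1) (nat_lit 0) (Step.U (nat_lit 2471) (Step.B (nat_lit 917) (Step.B (nat_lit 925) (Step.L Step.done)))) (Scr.cons (nat_lit 2) (nat_lit 0) (Step.B (nat_lit 907) (Step.B (nat_lit 926) (Step.L Step.done))) (Scr.cons (nat_lit 0) (nat_lit 0) (Step.D (nat_lit 2146) (Step.B (nat_lit 927) (Step.L Step.done))) (Scr.cons (nat_lit 1) (nat_lit 0) (Step.D (nat_lit 1058) (Step.B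 (nat_lit 928) (Step.D (nat_lit 552) Step.done))) (Scr.cons (nat_lit 1) (nat_lit 0) (Step.D (nat_lit 552) (Step.F (nat_lit 929) Step.done)) (Scr.cons (nat_lit 9) (nat_lit 0) (Step.U (nat_lit 925) (Step.D (nat_lit 926) Step.done)) (Scr.cons (nat_lit 21) (nat_lit 5) (Step.U (nat_lit 1634) (Step.U (nat_lit 562) (Step.L (Step.L (Step.L (Step.L (Step.D (nat_lit 14) (Step.F (nat_lit 880) (Step.U (nat_lit 25) (Step.B (nat_lit 12) (Step.D (nat_lit 173) (Step.D (nat_lit 738) (Step.D (nat_lit 1866) Step.done))))))))))))) (Scr.cons (nat_lit 8) (nat_lit 3) (Step.U (nat_lit 564) (Step.D (nat_lit 562) (Step.D (nat_lit 1634) Step.done))) (Scr.cons (nat_lit 13) (nat_lit 4) (Step.F (nat_lit 932) (Step.F (nat_lit 933) (Step.U (nat_lit 564) (Step.L (Step.L (Step.L (Step.L (Step.L (Step.L (Step.L (Step.L (Step.D (nat_lit 537) (Step.D (nat_lit 1600) Step.done))))))))))))) (Scr.cons (nat_lit 9) (nat_lit 0) (Step.U (nat_lit 738) (Step.D (nat_lit 739) Step.done)) (Scr.cons (nat_lit 8) (nat_lit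 1) (Step.F (nat_lit 934) (Step.U (nat_lit 1866) (Step.B (nat_lit 935) Step.done))) (Scr.cons (nat_lit 9) (nat_lit 0) (Step.F (nat_lit 639) (Step.D (nat_lit 933) Step.done)) (Scr.cons (nat_lit 12) (nat_lit 6) (Step.F (nat_lit 937) (Step.D (nat_lit 938) (Step.F (nat_lit 668) (Step.F (nat_lit 633) (Step.D (nat_lit 659) (Step.F (nat_lit 671) (Step.U (nat_lit 166) (Step.L (Step.L (Step.B (nat_lit 12) (Step.D (nat_lit 173) (Step.D (nat_lit 738) (Step.D (nat_lit 1866) Step.done))))))))))))) (Scr.cons (nat_lit 10) (nat_lit 1) (Step.U (nat_lit 1865) (Step.U (nat_lit 737) (Step.D (nat_lit 739) (Step.F (nat_lit 936) (Step.F (nat_lit 934) (Step.F (nat_lit 938) (Step.F (nat_lit 937) (Step.U (nat_lit 240) (Step.L (Step.L (Step.L (Step.L (Step.D (nat_lit 926) Step.done))))))))))))) (Scr.cons (nat_lit 8) (nat_lit 0) (Step.B (nat_lit 931) (Step.F (nat_lit 939) (Step.U (nat_lit 1865) (Step.D (nat_lit 1864) Step.done)))) (Scr.cons (nat_lit 1) (nat_lit 0) (Step.D (nat_lit 1864) (Step.F (nat_lit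 940) Step.done)) (Scr.cons (nat_lit 3) (nat_lit 0) (Step.D (nat_lit 2069) (Step.B (nat_lit 892) (Step.L Step.done))) (Scr.cons (nat_lit 2) (nat_lit 0) (Step.D (nat_lit 964) (Step.B (nat_lit 942) (Step.L Step.done))) (Scr.cons (nat_lit 1) (nat_lit 0) (Step.D (nat_lit 247) (Step.B (nat_lit 943) (Step.D (nat_lit 164) Step.done))) (Scr.cons (nat_lit 1) (nat_lit 0) (Step.D (nat_lit 164) (Step.F (nat_lit 944) Step.done)) (Scr.cons (nat_lit 1) (nat_lit 0) (Step.F (nat_lit 878) (Step.F (nat_lit 700) (Step.L Step.done))) (Scr.cons (nat_lit 3) (nat_lit 1) (Step.D (nat_lit 250) (Step.B (nat_lit 946) (Step.L Step.done))) (Scr.cons (nat_lit 1) (nat_lit 0) (Step.B (nat_lit 945) (Step.B (nat_lit 947) (Step.B (nat_lit 12) Step.done))) (Scr.cons (nat_lit 2) (nat_lit 0) (Step.U (nat_lit 173) (Step.F (nat_lit 948) (Step.L Step.done))) (Scr.cons (nat_lit 0) (nat_lit 0) (Step.U (nat_lit 737) (Step.B (nat_lit 949) (Step.L Step.done))) (Scr.cons (nat_lit 1) (nat_lit 0) (Step.F (nat_lit 941)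 (Step.B (nat_lit 950) (Step.L Step.done))) (Scr.cons (nat_lit 3) (nat_lit 1) (Step.D (nat_lit 925) (Step.B (nat_lit 951) Step.done)) (Scr.cons (nat_lit 8) (nat_lit 2) (Step.U (nat_lit 493) (Step.L (Step.L Step.done))) (Scr.cons (nat_lit 21) (nat_lit 5) (Step.U (nat_lit 135) (Step.U (nat_lit 16) (Step.L (Step.L (Step.L (Step.L (Step.L (Step.L (Step.L (Step.L (Step.L (Step.L (Step.D (nat_lit 493) Step.done))))))))))))) (Scr.cons (nat_lit 8) (nat_lit 3) (Step.L (Step.D (nat_lit 16) (Step.D (nat_lit 135) Step.done))) (Scr.cons (nat_lit 13) (nat_lit 3) (Step.F (nat_lit 953) (Step.F (nat_lit 954) (Step.F (nat_lit 955) (Step.L (Step.L (Step.L (Step.L (Step.L (Step.L (Step.L (Step.D (nat_lit 19) (Step.D (nat_lit 148) (Step.D (nat_lit 644) Step.done))))))))))))) (Scr.cons (nat_lit 0) (nat_lit 0) (Step.D (nat_lit 21) (Step.B (nat_lit 812) (Step.B (nat_lit 20) Step.done))) (Scr.cons (nat_lit 3) (nat_lit 0) (Step.D (nat_lit 1) (Step.F (nat_lit 957) (Step.F (nat_lit 630) Step.done)))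 (Scr.cons (nat_lit 0) (nat_lit 0) (Step.F (nat_lit 636) (Step.F (nat_lit 958) (Step.L Step.done))) (Scr.cons (nat_lit 1) (nat_lit 0) (Step.U (nat_lit 148) (Step.B (nat_lit 959) (Step.L Step.done))) (Scr.cons (nat_lit 3) (nat_lit 0) (Step.U (nat_lit 644) (Step.B (nat_lit 960) (Step.L Step.done))) Scr.nil))))))))))))))))))))))))))))))))))))))))
noncomputable def s24 : Scr := (Scr.cons (nat_lit 2) (nat_lit 0) (Step.B (nat_lit 956) (Step.B (nat_lit 961) (Step.D (nat_lit 529) Step.done))) (Scr.cons (nat_lit 2) (nat_lit 0) (Step.D (nat_lit 529) (Step.F (nat_lit 962) Step.done)) (Scr.cons (nat_lit 8) (nat_lit 3) (Step.U (nat_lit 1090) (Step.D (nat_lit 1089) (Step.D (nat_lit 2168) Step.done))) (Scr.cons (nat_lit 9) (nat_lit 0) (Step.F (nat_lit 335) (Step.D (nat_lit 1090) Step.done)) (Scr.cons (nat_lit 10) (nat_lit 1) (Step.F (nat_lit 965) (Step.U (nat_lit 733) (Step.F (nat_lit 334) (Step.L (Step.L (Step.L (Step.L (Step.D (nat_lit 25) (Step.F (nat_lit 2) (Step.D (nat_lit 166) (Step.F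 (nat_lit 629) (Step.D (nat_lit 550) (Step.D (nat_lit 1619) Step.done))))))))))))) (Scr.cons (nat_lit 8) (nat_lit 2) (Step.U (nat_lit 971) (Step.B (nat_lit 877) (Step.D (nat_lit 973) Step.done))) (Scr.cons (nat_lit 21) (nat_lit 11) (Step.F (nat_lit 967) (Step.U (nat_lit 971) (Step.B (nat_lit 340) (Step.B (nat_lit 342) (Step.D (nat_lit 1085) (Step.F (nat_lit 343) (Step.U (nat_lit 556) (Step.U (nat_lit 126) (Step.U (nat_lit 14) (Step.L (Step.D (nat_lit 124) (Step.D (nat_lit 551) (Step.D (nat_lit 1621) Step.done))))))))))))) (Scr.cons (nat_lit 21) (nat_lit 12) (Step.F (nat_lit 968) (Step.U (nat_lit 973) (Step.F (nat_lit 878) (Step.D (nat_lit 252) (Step.D (nat_lit 983) (Step.B (nat_lit 883) (Step.U (nat_lit 558) (Step.L (Step.L (Step.L (Step.D (nat_lit 127) (Step.D (nat_lit 561) (Step.D (nat_lit 1633) Step.done))))))))))))) (Scr.cons (nat_lit 21) (nat_lit 10) (Step.U (nat_lit 2166) (Step.D (nat_lit 2168) (Step.F (nat_lit 964) (Step.B (nat_lit 966) (Step.F (nat_lit 751) (Step.D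 (nat_lit 1621) (Step.B (nat_lit 969) (Step.U (nat_lit 1633) (Step.U (nat_lit 561) (Step.U (nat_lit 127) (Step.L (Step.D (nat_lit 559) (Step.D (nat_lit 1630) Step.done))))))))))))) (Scr.cons (nat_lit 1) (nat_lit 0) (Step.F (nat_lit 751) (Step.B (nat_lit 728) (Step.L Step.done))) (Scr.cons (nat_lit 0) (nat_lit 0) (Step.B (nat_lit 966) (Step.B (nat_lit 971) (Step.L Step.done))) (Scr.cons (nat_lit 1) (nat_lit 0) (Step.F (nat_lit 964) (Step.B (nat_lit 972) (Step.L Step.done))) (Scr.cons (nat_lit 3) (nat_lit 1) (Step.D (nat_lit 2168) (Step.B (nat_lit 973) (Step.L Step.done))) (Scr.cons (nat_lit 1) (nat_lit 0) (Step.U (nat_lit 2166) (Step.B (nat_lit 974) (Step.D (nat_lit 1088) Step.done))) (Scr.cons (nat_lit 2) (nat_lit 0) (Step.F (nat_lit 970) (Step.B (nat_lit 975) (Step.D (nat_lit 2165) Step.done))) (Scr.cons (nat_lit 9) (nat_lit 0) (Step.U (nat_lit 663) (Step.D (nat_lit 664) Step.done)) (Scr.cons (nat_lit 8) (nat_lit 2) (Step.U (nat_lit 1779) (Step.B (nat_lit 977) (Step.D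 (nat_lit 1781) Step.done))) (Scr.cons (nat_lit 8) (nat_lit 1) (Step.U (nat_lit 157) (Step.L (Step.D (nat_lit 663) Step.done))) (Scr.cons (nat_lit 21) (nat_lit 11) (Step.F (nat_lit 978) (Step.U (nat_lit 1779) (Step.F (nat_lit 979) (Step.B (nat_lit 614) (Step.U (nat_lit 255) (Step.B (nat_lit 9) (Step.F (nat_lit 7) (Step.U (nat_lit 36) (Step.U (nat_lit 2) (Step.L (Step.D (nat_lit 29) (Step.D (nat_lit 207) (Step.D (nat_lit 858) Step.done))))))))))))) (Scr.cons (nat_lit 9) (nat_lit 0) (Step.U (nat_lit 206) (Step.D (nat_lit 207) Step.done)) (Scr.cons (nat_lit 8) (nat_lit 2) (Step.U (nat_lit 855) (Step.B (nat_lit 981) (Step.D (nat_lit 857) Step.done))) (Scr.cons (nat_lit 8) (nat_lit 2) (Step.U (nat_lit 1088) (Step.L (Step.D (nat_lit 2164) Step.done))) (Scr.cons (nat_lit 11) (nat_lit 5) (Step.B (nat_lit 980) (Step.U (nat_lit 858) (Step.D (nat_lit 857) (Step.F (nat_lit 982) (Step.B (nat_lit 739) (Step.D (nat_lit 2164) (Step.F (nat_lit 983) (Step.D (nat_lit 2165) Step.done))))))))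 (Scr.cons (nat_lit 8) (nat_lit 3) (Step.U (nat_lit 1527) (Step.D (nat_lit 1525) (Step.D (nat_lit 2470) Step.done))) (Scr.cons (nat_lit 8) (nat_lit 3) (Step.U (nat_lit 528) (Step.D (nat_lit 526) (Step.D (nat_lit 1573) Step.done))) (Scr.cons (nat_lit 9) (nat_lit 0) (Step.U (nat_lit 527) (Step.D (nat_lit 528) Step.done)) (Scr.cons (nat_lit 21) (nat_lit 7) (Step.F (nat_lit 986) (Step.F (nat_lit 987) (Step.F (nat_lit 746) (Step.U (nat_lit 217) (Step.F (nat_lit 692) (Step.U (nat_lit 33) (Step.F (nat_lit 20) (Step.L (Step.L (Step.B (nat_lit 90) (Step.B (nat_lit 95) (Step.D (nat_lit 504) (Step.B (nat_lit 249) Step.done))))))))))))) (Scr.cons (nat_lit 11) (nat_lit 1) (Step.B (nat_lit 988) (Step.F (nat_lit 249) (Step.U (nat_lit 504) (Step.U (nat_lit 108) (Step.D (nat_lit 106) (Step.D (nat_lit 501) (Step.D (nat_lit 1525) (Step.D (nat_lit 2470) Step.done)))))))) (Scr.cons (nat_lit 22) (nat_lit 5) (Step.F (nat_lit 984) (Step.B (nat_lit 980) (Step.U (nat_lit 858) (Step.U (nat_lit 207)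 (Step.D (nat_lit 205) (Step.D (nat_lit 853) (Step.F (nat_lit 919) (Step.D (nat_lit 1527) (Step.B (nat_lit 985) (Step.F (nat_lit 989) (Step.U (nat_lit 1573) (Step.D (nat_lit 1571) (Step.D (nat_lit 2507) Step.done))))))))))))) (Scr.cons (nat_lit 9) (nat_lit 0) (Step.U (nat_lit 1572) (Step.D (nat_lit 1573) Step.done)) (Scr.cons (nat_lit 8) (nat_lit 3) (Step.U (nat_lit 1528) (Step.B (nat_lit 249) (Step.F (nat_lit 988) (Step.F (nat_lit 991) Step.done)))) (Scr.cons (nat_lit 3) (nat_lit 1) (Step.D (nat_lit 1572) (Step.F (nat_lit 992) Step.done)) (Scr.cons (nat_lit 1) (nat_lit 0) (Step.U (nat_lit 1528) (Step.F (nat_lit 779) (Step.U (nat_lit 33) (Step.F (nat_lit 957) Step.done)))) (Scr.cons (nat_lit 3) (nat_lit 0) (Step.B (nat_lit 993) (Step.B (nat_lit 994) (Step.F (nat_lit 630) (Step.F (nat_lit 958) Step.done)))) (Scr.cons (nat_lit 2) (nat_lit 0) (Step.U (nat_lit 1571) (Step.B (nat_lit 995) (Step.L Step.done))) (Scr.cons (nat_lit 3) (nat_lit 1) (Step.U (nat_lit 2507) (Step.B (nat_lit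 996) (Step.L Step.done))) (Scr.cons (nat_lit 1) (nat_lit 0) (Step.B (nat_lit 976) (Step.B (nat_lit 990) (Step.B (nat_lit 997) (Step.L Step.done)))) (Scr.cons (nat_lit 2) (nat_lit 0) (Step.D (nat_lit 2165) (Step.F (nat_lit 976) (Step.B (nat_lit 998) (Step.L Step.done)))) (Scr.cons (nat_lit 1) (nat_lit 0) (Step.D (nat_lit 1088) (Step.B (nat_lit 999) (Step.D (nat_lit 1997) Step.done))) (Scr.cons (nat_lit 1) (nat_lit 0) (Step.D (nat_lit 1997) (Step.F (nat_lit 1000) Step.done)) Scr.nil))))))))))))))))))))))))))))))))))))))))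
noncomputable def s25 : Scr := (Scr.cons (nat_lit 8) (nat_lit 3) (Step.U (nat_lit 181) (Step.D (nat_lit 180) (Step.D (nat_lit 754) Step.done))) (Scr.cons (nat_lit 21) (nat_lit 12) (Step.L (Step.L (Step.L (Step.L (Step.L (Step.L (Step.L (Step.L (Step.L (Step.L (Step.L (Step.L (Step.D (nat_lit 756) Step.done))))))))))))) (Scr.cons (nat_lit 9) (nat_lit 0) (Step.F (nat_lit 1003) (Step.D (nat_lit 1262) Step.done)) (Scr.cons (nat_lit 11) (nat_lit 4) (Step.F (nat_lit 1004) (Step.U (nat_lit 756) (Step.L (Step.L (Step.L (Step.L (Step.D (nat_lit 180) (Step.D (nat_lit 754) Step.done)))))))) (Scr.cons (nat_lit 8) (nat_lit 3) (Step.U (nat_lit 914) (Step.D (nat_lit 912) (Step.D (nat_lit 2035) Step.done))) (Scr.cons (nat_lit 20) (nat_lit 5) (Step.U (nat_lit 350) (Step.L (Step.L (Step.L (Step.D (nat_lit 6) (Step.B (nat_lit 215) (Step.B (nat_lit 214) (Step.D (nat_lit 1176) Step.done)))))))) (Scr.cons (nat_lit 8) (nat_lit 3) (Step.U (nat_lit 70) (Step.L (Step.D (nat_lit 373) Step.done)))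 (Scr.cons (nat_lit 12) (nat_lit 8) (Step.U (nat_lit 1209) (Step.B (nat_lit 1007) (Step.U (nat_lit 1176) (Step.F (nat_lit 226) (Step.U (nat_lit 377) (Step.B (nat_lit 1008) (Step.U (nat_lit 373) (Step.L (Step.L (Step.L (Step.L (Step.D (nat_lit 912) (Step.D (nat_lit 2035) Step.done))))))))))))) (Scr.cons (nat_lit 18) (nat_lit 0) (Step.F (nat_lit 1007) (Step.D (nat_lit 1210) Step.done)) (Scr.cons (nat_lit 11) (nat_lit 6) (Step.U (nat_lit 543) (Step.L (Step.L (Step.D (nat_lit 541) (Step.F (nat_lit 225) (Step.U (nat_lit 335) (Step.D (nat_lit 337) (Step.D (nat_lit 1176) (Step.B (nat_lit 1010) Step.done))))))))) (Scr.cons (nat_lit 3) (nat_lit 1) (Step.D (nat_lit 1210) (Step.F (nat_lit 1011) Step.done)) (Scr.cons (nat_lit 8) (nat_lit 2) (Step.U (nat_lit 1209) (Step.B (nat_lit 1012) (Step.D (nat_lit 1610) Step.done))) (Scr.cons (nat_lit 22) (nat_lit 3) (Step.U (nat_lit 1885) (Step.L (Step.L (Step.D (nat_lit 181) (Step.B (nat_lit 1002) (Step.F (nat_lit 1005) (Step.U (nat_lit 1262)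 (Step.L (Step.L (Step.L (Step.D (nat_lit 914) (Step.B (nat_lit 1006) (Step.F (nat_lit 1009) (Step.B (nat_lit 1013) Step.done)))))))))))))) (Scr.cons (nat_lit 2) (nat_lit 0) (Step.D (nat_lit 1885) (Step.B (nat_lit 1014) Step.done)) (Scr.cons (nat_lit 3) (nat_lit 1) (Step.F (nat_lit 149) (Step.B (nat_lit 730) (Step.L Step.done))) (Scr.cons (nat_lit 2) (nat_lit 0) (Step.B (nat_lit 148) (Step.B (nat_lit 1016) (Step.L Step.done))) (Scr.cons (nat_lit 0) (nat_lit 0) (Step.B (nat_lit 147) (Step.B (nat_lit 1017) (Step.D (nat_lit 350) Step.done))) (Scr.cons (nat_lit 1) (nat_lit 0) (Step.U (nat_lit 1209) (Step.F (nat_lit 1018) (Step.L Step.done))) (Scr.cons (nat_lit 3) (nat_lit 1) (Step.F (nat_lit 1013) (Step.B (nat_lit 1019) (Step.L Step.done))) (Scr.cons (nat_lit 2) (nat_lit 0) (Step.B (nat_lit 1015) (Step.B (nat_lit 1020) (Step.D (nat_lit 1170) Step.done))) (Scr.cons (nat_lit 2) (nat_lit 0) (Step.D (nat_lit 1170) (Step.F (nat_lit 1021) Step.done)) (Scr.cons (nat_lit 9) (nat_lit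 0) (Step.F (nat_lit 616) (Step.D (nat_lit 991) Step.done)) (Scr.cons (nat_lit 8) (nat_lit 2) (Step.U (nat_lit 1782) (Step.B (nat_lit 1023) (Step.D (nat_lit 2093) Step.done))) (Scr.cons (nat_lit 8) (nat_lit 2) (Step.L (Step.L (Step.D (nat_lit 1458) Step.done))) (Scr.cons (nat_lit 8) (nat_lit 2) (Step.U (nat_lit 2312) (Step.L (Step.D (nat_lit 2427) Step.done))) (Scr.cons (nat_lit 10) (nat_lit 1) (Step.U (nat_lit 2091) (Step.U (nat_lit 990) (Step.D (nat_lit 991) (Step.D (nat_lit 2093) (Step.F (nat_lit 1024) (Step.F (nat_lit 623) (Step.U (nat_lit 1455) (Step.U (nat_lit 469) (Step.L (Step.D (nat_lit 1458) (Step.F (nat_lit 1025) (Step.D (nat_lit 2427) (Step.F (nat_lit 1026) Step.done))))))))))))) (Scr.cons (nat_lit 8) (nat_lit 0) (Step.F (nat_lit 1027) (Step.U (nat_lit 2091) (Step.D (nat_lit 2090) Step.done))) (Scr.cons (nat_lit 2) (nat_lit 0) (Step.U (nat_lit 255) (Step.B (nat_lit 925) (Step.L Step.done))) (Scr.cons (nat_lit 0) (nat_lit 0) (Step.U (nat_lit 990) (Step.B (nat_lit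 1029) (Step.L Step.done))) (Scr.cons (nat_lit 1) (nat_lit 0) (Step.U (nat_lit 2090) (Step.B (nat_lit 1030) (Step.L Step.done))) (Scr.cons (nat_lit 3) (nat_lit 1) (Step.B (nat_lit 1028) (Step.B (nat_lit 1031) (Step.L Step.done))) (Scr.cons (nat_lit 1) (nat_lit 0) (Step.D (nat_lit 2312) (Step.B (nat_lit 1032) (Step.D (nat_lit 1627) Step.done))) (Scr.cons (nat_lit 1) (nat_lit 0) (Step.D (nat_lit 1627) (Step.F (nat_lit 1033) Step.done)) (Scr.cons (nat_lit 20) (nat_lit 5) (Step.U (nat_lit 145) (Step.L (Step.L (Step.L (Step.L (Step.L (Step.L (Step.L Step.done)))))))) (Scr.cons (nat_lit 18) (nat_lit 0) (Step.F (nat_lit 1035) (Step.D (nat_lit 625) Step.done)) (Scr.cons (nat_lit 8) (nat_lit 1) (Step.U (nat_lit 625) (Step.D (nat_lit 624) (Step.D (nat_lit 1722) Step.done))) (Scr.cons (nat_lit 11) (nat_lit 5) (Step.U (nat_lit 1162) (Step.U (nat_lit 331) (Step.L (Step.L (Step.L (Step.L (Step.D (nat_lit 333) (Step.D (nat_lit 1164) Step.done)))))))) (Scr.cons (nat_lit 13) (nat_lit 0)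 (Step.U (nat_lit 624) (Step.B (nat_lit 1035) (Step.L (Step.L (Step.D (nat_lit 331) (Step.D (nat_lit 1162) (Step.B (nat_lit 1038) (Step.F (nat_lit 709) (Step.B (nat_lit 704) (Step.U (nat_lit 992) (Step.F (nat_lit 693) (Step.D (nat_lit 259) (Step.D (nat_lit 996) Step.done))))))))))))) (Scr.cons (nat_lit 18) (nat_lit 0) (Step.F (nat_lit 1039) (Step.D (nat_lit 1722) Step.done)) (Scr.cons (nat_lit 3) (nat_lit 1) (Step.F (nat_lit 9) (Step.B (nat_lit 925) (Step.L Step.done))) Scr.nil))))))))))))))))))))))))))))))))))))))))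
noncomputable def s26 : Scr := (Scr.cons (nat_lit 2) (nat_lit 0) (Step.U (nat_lit 259) (Step.B (nat_lit 1041) (Step.L Step.done))) (Scr.cons (nat_lit 1) (nat_lit 0) (Step.U (nat_lit 996) (Step.B (nat_lit 1042) (Step.L Step.done))) (Scr.cons (nat_lit 3) (nat_lit 0) (Step.F (nat_lit 1040) (Step.B (nat_lit 1043) (Step.D (nat_lit 132) Step.done))) (Scr.cons (nat_lit 21) (nat_lit 7) (Step.U (nat_lit 1212) (Step.U (nat_lit 351) (Step.L (Step.L (Step.L (Step.L (Step.L (Step.L (Step.L (Step.L (Step.D (nat_lit 320) (Step.D (nat_lit 1130) (Step.D (nat_lit 2194) Step.done))))))))))))) (Scr.cons (nat_lit 8) (nat_lit 0) (Step.B (nat_lit 1045) (Step.U (nat_lit 2194) (Step.D (nat_lit 2193) Step.done))) (Scr.cons (nat_lit 13) (nat_lit 5) (Step.D (nat_lit 1130) (Step.D (nat_lit 2193) (Step.F (nat_lit 1046) (Step.U (nat_lit 1212) (Step.U (nat_lit 351) (Step.L (Step.L (Step.L (Step.B (nat_lit 10) (Step.B (nat_lit 92) (Step.B (nat_lit 878) (Step.F (nat_lit 877) (Step.D (nat_lit 972) (Step.D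 (nat_lit 2076) Step.done)))))))))))))) (Scr.cons (nat_lit 9) (nat_lit 0) (Step.L (Step.D (nat_lit 57) Step.done)) (Scr.cons (nat_lit 8) (nat_lit 2) (Step.U (nat_lit 320) (Step.B (nat_lit 1048) (Step.D (nat_lit 322) Step.done))) (Scr.cons (nat_lit 3) (nat_lit 1) (Step.D (nat_lit 2076) (Step.F (nat_lit 1047) (Step.B (nat_lit 1049) Step.done))) (Scr.cons (nat_lit 2) (nat_lit 0) (Step.D (nat_lit 972) (Step.B (nat_lit 1050) (Step.D (nat_lit 1135) Step.done))) (Scr.cons (nat_lit 2) (nat_lit 0) (Step.D (nat_lit 1135) (Step.F (nat_lit 1051) Step.done)) (Scr.cons (nat_lit 3) (nat_lit 0) (Step.B (nat_lit 877) (Step.B (nat_lit 946) (Step.L Step.done))) (Scr.cons (nat_lit 2) (nat_lit 0) (Step.B (nat_lit 1052) (Step.B (nat_lit 1053) (Step.L Step.done))) (Scr.cons (nat_lit 0) (nat_lit 0) (Step.D (nat_lit 322) (Step.B (nat_lit 1054) (Step.L Step.done))) (Scr.cons (nat_lit 3) (nat_lit 1) (Step.D (nat_lit 57) (Step.B (nat_lit 1055) (Step.D (nat_lit 174) Step.done))) (Scr.cons (nat_lit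 1) (nat_lit 0) (Step.U (nat_lit 740) (Step.F (nat_lit 1056) (Step.L Step.done))) (Scr.cons (nat_lit 9) (nat_lit 0) (Step.U (nat_lit 174) (Step.D (nat_lit 175) Step.done)) (Scr.cons (nat_lit 8) (nat_lit 2) (Step.U (nat_lit 740) (Step.B (nat_lit 1058) (Step.D (nat_lit 742) Step.done))) (Scr.cons (nat_lit 11) (nat_lit 6) (Step.U (nat_lit 2077) (Step.U (nat_lit 973) (Step.F (nat_lit 877) (Step.F (nat_lit 1052) (Step.U (nat_lit 322) (Step.F (nat_lit 1048) (Step.D (nat_lit 321) (Step.D (nat_lit 1133) Step.done)))))))) (Scr.cons (nat_lit 2) (nat_lit 0) (Step.U (nat_lit 1621) (Step.B (nat_lit 728) (Step.L Step.done))) (Scr.cons (nat_lit 1) (nat_lit 0) (Step.B (nat_lit 968) (Step.B (nat_lit 1061) (Step.L Step.done))) (Scr.cons (nat_lit 2) (nat_lit 0) (Step.U (nat_lit 2077) (Step.B (nat_lit 1062) (Step.L Step.done))) (Scr.cons (nat_lit 1) (nat_lit 0) (Step.F (nat_lit 1060) (Step.B (nat_lit 1063) (Step.L Step.done))) (Scr.cons (nat_lit 3) (nat_lit 1) (Step.D (nat_lit 1133) (Step.B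 (nat_lit 1064) (Step.L Step.done))) (Scr.cons (nat_lit 11) (nat_lit 1) (Step.L (Step.L (Step.L (Step.L (Step.L (Step.L (Step.L (Step.D (nat_lit 175) Step.done)))))))) (Scr.cons (nat_lit 2) (nat_lit 0) (Step.D (nat_lit 321) (Step.B (nat_lit 1065) (Step.B (nat_lit 1066) Step.done))) (Scr.cons (nat_lit 8) (nat_lit 1) (Step.L (Step.L (Step.D (nat_lit 318) Step.done))) (Scr.cons (nat_lit 0) (nat_lit 0) (Step.U (nat_lit 742) (Step.F (nat_lit 1067) (Step.B (nat_lit 1068) Step.done))) (Scr.cons (nat_lit 9) (nat_lit 0) (Step.U (nat_lit 1665) (Step.D (nat_lit 1666) Step.done)) (Scr.cons (nat_lit 12) (nat_lit 2) (Step.F (nat_lit 233) (Step.U (nat_lit 1156) (Step.L (Step.L (Step.L (Step.L (Step.L (Step.L (Step.L (Step.L (Step.D (nat_lit 131) (Step.D (nat_lit 578) (Step.D (nat_lit 1665) Step.done))))))))))))) (Scr.cons (nat_lit 9) (nat_lit 0) (Step.U (nat_lit 1179) (Step.D (nat_lit 1180) Step.done)) (Scr.cons (nat_lit 8) (nat_lit 1) (Step.F (nat_lit 1070) (Step.F (nat_lit 1071) (Step.B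 (nat_lit 1072) Step.done))) (Scr.cons (nat_lit 21) (nat_lit 2) (Step.U (nat_lit 1180) (Step.U (nat_lit 338) (Step.L (Step.L (Step.D (nat_lit 60) (Step.F (nat_lit 215) (Step.D (nat_lit 67) (Step.D (nat_lit 361) (Step.F (nat_lit 150) (Step.F (nat_lit 632) (Step.D (nat_lit 154) (Step.D (nat_lit 658) (Step.D (nat_lit 1767) Step.done))))))))))))) (Scr.cons (nat_lit 0) (nat_lit 0) (Step.U (nat_lit 658) (Step.B (nat_lit 764) (Step.L Step.done))) (Scr.cons (nat_lit 1) (nat_lit 0) (Step.U (nat_lit 1767) (Step.B (nat_lit 1075) (Step.L Step.done))) (Scr.cons (nat_lit 2) (nat_lit 0) (Step.B (nat_lit 1074) (Step.B (nat_lit 1076) (Step.L Step.done))) (Scr.cons (nat_lit 0) (nat_lit 0) (Step.B (nat_lit 1073) (Step.B (nat_lit 1077) (Step.D (nat_lit 685) Step.done))) (Scr.cons (nat_lit 8) (nat_lit 1) (Step.U (nat_lit 165) (Step.D (nat_lit 164) (Step.D (nat_lit 690) Step.done))) (Scr.cons (nat_lit 11) (nat_lit 1) (Step.F (nat_lit 1079) (Step.U (nat_lit 165) (Step.L (Step.L (Step.L (Step.L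 (Step.D (nat_lit 685) (Step.D (nat_lit 1808) Step.done)))))))) (Scr.cons (nat_lit 3) (nat_lit 1) (Step.U (nat_lit 690) (Step.F (nat_lit 944) (Step.D (nat_lit 249) Step.done))) Scr.nil))))))))))))))))))))))))))))))))))))))))
noncomputable def s27 : Scr := (Scr.cons (nat_lit 2) (nat_lit 0) (Step.F (nat_lit 1080) (Step.B (nat_lit 1081) (Step.F (nat_lit 1052) Step.done))) (Scr.cons (nat_lit 9) (nat_lit 0) (Step.F (nat_lit 1049) (Step.D (nat_lit 1131) Step.done)) (Scr.cons (nat_lit 3) (nat_lit 1) (Step.D (nat_lit 1808) (Step.B (nat_lit 1082) (Step.B (nat_lit 1083) Step.done))) (Scr.cons (nat_lit 3) (nat_lit 1) (Step.B (nat_lit 1084) (Step.F (nat_lit 1083) (Step.B (nat_lit 1054) (Step.L Step.done)))) (Scr.cons (nat_lit 3) (nat_lit 1) (Step.D (nat_lit 1666) (Step.B (nat_lit 1078) (Step.B (nat_lit 1085) (Step.L Step.done)))) (Scr.cons (nat_lit 8) (nat_lit 3) (Step.L (Step.L (Step.D (nat_lit 175) Step.done))) (Scr.cons (nat_lit 1) (nat_lit 0) (Step.D (nat_lit 578) (Step.B (nat_lit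 1086) (Step.B (nat_lit 1087) (Step.F (nat_lit 1067) Step.done)))) (Scr.cons (nat_lit 0) (nat_lit 0) (Step.D (nat_lit 131) (Step.B (nat_lit 1088) (Step.B (nat_lit 1068) Step.done))) (Scr.cons (nat_lit 3) (nat_lit 0) (Step.F (nat_lit 1057) (Step.B (nat_lit 1059) (Step.B (nat_lit 1069) (Step.F (nat_lit 1089) (Step.D (nat_lit 132) Step.done))))) (Scr.cons (nat_lit 0) (nat_lit 0) (Step.B (nat_lit 1037) (Step.B (nat_lit 1044) (Step.F (nat_lit 1090) (Step.L Step.done)))) (Scr.cons (nat_lit 3) (nat_lit 0) (Step.B (nat_lit 1036) (Step.B (nat_lit 1091) Step.done)) (Scr.cons (nat_lit 8) (nat_lit 3) (Step.L (Step.L (Step.D (nat_lit 1598) Step.done))) (Scr.cons (nat_lit 9) (nat_lit 0) (Step.U (nat_lit 536) (Step.L Step.done)) (Scr.cons (nat_lit 20) (nat_lit 5) (Step.U (nat_lit 1594) (Step.U (nat_lit 535) (Step.U (nat_lit 120) (Step.U (nat_lit 13) (Step.L (Step.L (Step.D (nat_lit 536) (Step.D (nat_lit 1599) Step.done)))))))) (Scr.cons (nat_lit 12) (nat_lit 8) (Step.U (nat_lit 1050)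 (Step.L (Step.L (Step.L (Step.L (Step.L (Step.L (Step.L (Step.L (Step.L (Step.D (nat_lit 238) (Step.D (nat_lit 931) (Step.D (nat_lit 2048) Step.done))))))))))))) (Scr.cons (nat_lit 9) (nat_lit 0) (Step.L (Step.D (nat_lit 286) Step.done)) (Scr.cons (nat_lit 8) (nat_lit 3) (Step.L (Step.D (nat_lit 13) (Step.D (nat_lit 120) Step.done))) (Scr.cons (nat_lit 9) (nat_lit 0) (Step.U (nat_lit 119) (Step.D (nat_lit 120) Step.done)) (Scr.cons (nat_lit 22) (nat_lit 1) (Step.U (nat_lit 286) (Step.L (Step.B (nat_lit 705) (Step.D (nat_lit 278) (Step.B (nat_lit 791) (Step.F (nat_lit 794) (Step.U (nat_lit 147) (Step.L (Step.L (Step.L (Step.B (nat_lit 1098) (Step.F (nat_lit 1099) (Step.D (nat_lit 532) Step.done))))))))))))) (Scr.cons (nat_lit 8) (nat_lit 2) (Step.U (nat_lit 532) (Step.B (nat_lit 1099) (Step.D (nat_lit 534) Step.done))) (Scr.cons (nat_lit 20) (nat_lit 0) (Step.F (nat_lit 1096) (Step.U (nat_lit 1050) (Step.B (nat_lit 1097) (Step.B (nat_lit 1100) (Step.B (nat_lit 1101) (Step.U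 (nat_lit 534) (Step.D (nat_lit 535) (Step.D (nat_lit 1596) Step.done)))))))) (Scr.cons (nat_lit 8) (nat_lit 1) (Step.U (nat_lit 237) (Step.D (nat_lit 236) (Step.D (nat_lit 923) Step.done))) (Scr.cons (nat_lit 9) (nat_lit 0) (Step.U (nat_lit 923) (Step.D (nat_lit 924) Step.done)) (Scr.cons (nat_lit 19) (nat_lit 1) (Step.F (nat_lit 1095) (Step.U (nat_lit 1594) (Step.D (nat_lit 1596) (Step.F (nat_lit 1102) (Step.U (nat_lit 2048) (Step.U (nat_lit 931) (Step.B (nat_lit 639) (Step.U (nat_lit 240) (Step.L (Step.L (Step.D (nat_lit 237) (Step.B (nat_lit 1103) (Step.B (nat_lit 1104) (Step.D (nat_lit 2044) Step.done)))))))))))))) (Scr.cons (nat_lit 0) (nat_lit 0) (Step.D (nat_lit 2044) (Step.F (nat_lit 1105) Step.done)) (Scr.cons (nat_lit 8) (nat_lit 3) (Step.L (Step.L (Step.D (nat_lit 795) Step.done))) (Scr.cons (nat_lit 3) (nat_lit 1) (Step.F (nat_lit 840) (Step.B (nat_lit 895) (Step.L Step.done))) (Scr.cons (nat_lit 1) (nat_lit 0) (Step.B (nat_lit 1107) (Step.B (nat_lit 1108)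 (Step.D (nat_lit 236) Step.done))) (Scr.cons (nat_lit 3) (nat_lit 0) (Step.U (nat_lit 924) (Step.F (nat_lit 1109) (Step.L Step.done))) (Scr.cons (nat_lit 0) (nat_lit 0) (Step.F (nat_lit 1106) (Step.B (nat_lit 1110) (Step.L Step.done))) (Scr.cons (nat_lit 2) (nat_lit 0) (Step.D (nat_lit 1599) (Step.B (nat_lit 1111) (Step.D (nat_lit 188) Step.done))) (Scr.cons (nat_lit 3) (nat_lit 1) (Step.F (nat_lit 1094) (Step.B (nat_lit 1112) (Step.B (nat_lit 45) Step.done))) (Scr.cons (nat_lit 1) (nat_lit 0) (Step.D (nat_lit 675) (Step.F (nat_lit 1113) (Step.B (nat_lit 1093) Step.done))) (Scr.cons (nat_lit 1) (nat_lit 0) (Step.B (nat_lit 1093) (Step.F (nat_lit 1114) Step.done)) (Scr.cons (nat_lit 9) (nat_lit 0) (Step.U (nat_lit 1982) (Step.D (nat_lit 1983) Step.done)) (Scr.cons (nat_lit 8) (nat_lit 3) (Step.U (nat_lit 872) (Step.D (nat_lit 871) (Step.D (nat_lit 1996) Step.done))) (Scr.cons (nat_lit 20) (nat_lit 5) (Step.U (nat_lit 632) (Step.U (nat_lit 146) (Step.L (Step.L (Step.D (nat_lit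 147) (Step.B (nat_lit 794) (Step.F (nat_lit 791) (Step.D (nat_lit 1031) Step.done)))))))) (Scr.cons (nat_lit 18) (nat_lit 0) (Step.F (nat_lit 1118) (Step.D (nat_lit 1738) Step.done)) (Scr.cons (nat_lit 13) (nat_lit 5) (Step.F (nat_lit 1117) (Step.U (nat_lit 872) (Step.L (Step.L (Step.L (Step.D (nat_lit 2) (Step.D (nat_lit 36) (Step.B (nat_lit 7) (Step.B (nat_lit 693) (Step.F (nat_lit 708) (Step.F (nat_lit 790) (Step.D (nat_lit 1031) (Step.B (nat_lit 1119) Step.done))))))))))))) (Scr.cons (nat_lit 21) (nat_lit 4) (Step.F (nat_lit 1120) (Step.U (nat_lit 1996) (Step.U (nat_lit 871) (Step.L (Step.L (Step.L (Step.L (Step.L (Step.L (Step.L (Step.L (Step.D (nat_lit 851) (Step.D (nat_lit 1982) Step.done))))))))))))) Scr.nil))))))))))))))))))))))))))))))))))))))))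
noncomputable def s28 : Scr := (Scr.cons (nat_lit 8) (nat_lit 1) (Step.F (nat_lit 1116) (Step.F (nat_lit 1121) (Step.F (nat_lit 1119) Step.done))) (Scr.cons (nat_lit 3) (nat_lit 1) (Step.F (nat_lit 797) (Step.B (nat_lit 800) (Step.U (nat_lit 32) Step.done))) (Scr.cons (nat_lit 1) (nat_lit 0) (Step.F (nat_lit 796) (Step.B (nat_lit 1123) (Step.D (nat_lit 29) Step.done))) (Scr.cons (nat_lit 3) (nat_lit 0) (Step.D (nat_lit 206) (Step.F (nat_lit 760) (Step.L Step.done))) (Scr.cons (nat_lit 0) (nat_lit 0) (Step.B (nat_lit 1122) (Step.B (nat_lit 1124) (Step.B (nat_lit 1125) (Step.L Step.done)))) (Scr.cons (nat_lit 3) (nat_lit 1) (Step.D (nat_lit 1983) (Step.B (nat_lit 1126) (Step.D (nat_lit 525) Step.done))) (Scr.cons (nat_lit 2) (nat_lit 0) (Step.D (nat_lit 851) (Step.B (nat_lit 1127) Step.done)) (Scr.cons (nat_lit 8) (nat_lit 2) (Step.L (Step.L (Step.D (nat_lit 915) Step.done))) (Scr.cons (nat_lit 9) (nat_lit 0) (Step.U (nat_lit 19) (Step.L Step.done)) (Scr.cons (nat_lit 8)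 (nat_lit 2) (Step.U (nat_lit 148) (Step.B (nat_lit 1130) (Step.D (nat_lit 149) Step.done))) (Scr.cons (nat_lit 19) (nat_lit 1) (Step.U (nat_lit 643) (Step.B (nat_lit 1131) (Step.U (nat_lit 149) (Step.L (Step.L (Step.L (Step.L (Step.L (Step.L (Step.L (Step.L (Step.L (Step.D (nat_lit 915) Step.done))))))))))))) (Scr.cons (nat_lit 18) (nat_lit 0) (Step.B (nat_lit 1129) (Step.F (nat_lit 1132) Step.done)) (Scr.cons (nat_lit 0) (nat_lit 0) (Step.U (nat_lit 643) (Step.B (nat_lit 960) (Step.L Step.done))) (Scr.cons (nat_lit 3) (nat_lit 1) (Step.B (nat_lit 1133) (Step.B (nat_lit 1134) (Step.D (nat_lit 525) Step.done))) (Scr.cons (nat_lit 2) (nat_lit 0) (Step.B (nat_lit 1128) (Step.F (nat_lit 1135) (Step.D (nat_lit 917) Step.done))) (Scr.cons (nat_lit 2) (nat_lit 0) (Step.D (nat_lit 917) (Step.F (nat_lit 1136) Step.done)) (Scr.cons (nat_lit 9) (nat_lit 0) (Step.U (nat_lit 686) (Step.D (nat_lit 687) Step.done)) (Scr.cons (nat_lit 21) (nat_lit 4) (Step.U (nat_lit 336) (Step.B (nat_lit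 213) (Step.U (nat_lit 60) (Step.L (Step.L (Step.L (Step.L (Step.L (Step.L (Step.L (Step.L (Step.L (Step.D (nat_lit 686) Step.done))))))))))))) (Scr.cons (nat_lit 8) (nat_lit 1) (Step.F (nat_lit 1138) (Step.F (nat_lit 1139) (Step.D (nat_lit 1174) Step.done))) (Scr.cons (nat_lit 8) (nat_lit 2) (Step.U (nat_lit 1725) (Step.F (nat_lit 828) (Step.D (nat_lit 1809) Step.done))) (Scr.cons (nat_lit 12) (nat_lit 1) (Step.U (nat_lit 1725) (Step.D (nat_lit 1726) (Step.F (nat_lit 827) (Step.U (nat_lit 1574) (Step.F (nat_lit 743) (Step.L (Step.L (Step.L (Step.F (nat_lit 542) (Step.D (nat_lit 112) (Step.D (nat_lit 510) (Step.D (nat_lit 1538) (Step.D (nat_lit 2479) Step.done))))))))))))) (Scr.cons (nat_lit 8) (nat_lit 1) (Step.B (nat_lit 1142) (Step.U (nat_lit 2479) (Step.D (nat_lit 2480) Step.done))) (Scr.cons (nat_lit 9) (nat_lit 0) (Step.U (nat_lit 1539) (Step.D (nat_lit 1540) Step.done)) (Scr.cons (nat_lit 8) (nat_lit 2) (Step.U (nat_lit 2482) (Step.B (nat_lit 1144) (Step.D (nat_lit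 2483) Step.done))) (Scr.cons (nat_lit 10) (nat_lit 1) (Step.U (nat_lit 2235) (Step.F (nat_lit 596) (Step.F (nat_lit 1140) (Step.F (nat_lit 1138) (Step.F (nat_lit 47) (Step.L (Step.D (nat_lit 1809) (Step.F (nat_lit 1141) (Step.B (nat_lit 1143) (Step.U (nat_lit 2480) (Step.U (nat_lit 1538) (Step.D (nat_lit 1540) (Step.D (nat_lit 2483) (Step.F (nat_lit 1145) Step.done)))))))))))))) (Scr.cons (nat_lit 1) (nat_lit 0) (Step.D (nat_lit 2482) (Step.F (nat_lit 1146) Step.done)) (Scr.cons (nat_lit 8) (nat_lit 1) (Step.U (nat_lit 511) (Step.D (nat_lit 510) (Step.D (nat_lit 1539) Step.done))) (Scr.cons (nat_lit 12) (nat_lit 13) (Step.U (nat_lit 2118) (Step.U (nat_lit 1022) (Step.L (Step.D (nat_lit 2122) (Step.B (nat_lit 595) (Step.B (nat_lit 597) (Step.F (nat_lit 1147) (Step.F (nat_lit 1148) (Step.U (nat_lit 511) (Step.U (nat_lit 112) (Step.D (nat_lit 111) (Step.D (nat_lit 508) (Step.D (nat_lit 1536) (Step.D (nat_lit 2478) Step.done)))))))))))))) (Scr.cons (nat_lit 1) (nat_lit 0)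 (Step.D (nat_lit 2478) (Step.F (nat_lit 1149) Step.done)) (Scr.cons (nat_lit 9) (nat_lit 0) (Step.U (nat_lit 877) (Step.D (nat_lit 878) Step.done)) (Scr.cons (nat_lit 8) (nat_lit 2) (Step.U (nat_lit 2003) (Step.B (nat_lit 1151) (Step.D (nat_lit 2004) Step.done))) (Scr.cons (nat_lit 18) (nat_lit 0) (Step.F (nat_lit 543) (Step.B (nat_lit 1152) Step.done)) (Scr.cons (nat_lit 3) (nat_lit 0) (Step.F (nat_lit 1153) (Step.B (nat_lit 683) (Step.D (nat_lit 569) Step.done))) (Scr.cons (nat_lit 0) (nat_lit 0) (Step.D (nat_lit 2004) (Step.B (nat_lit 1154) (Step.D (nat_lit 1648) Step.done))) (Scr.cons (nat_lit 0) (nat_lit 0) (Step.D (nat_lit 1648) (Step.F (nat_lit 1155) Step.done)) (Scr.cons (nat_lit 3) (nat_lit 0) (Step.U (nat_lit 878) (Step.B (nat_lit 711) (Step.U (nat_lit 108) Step.done))) (Scr.cons (nat_lit 0) (nat_lit 0) (Step.B (nat_lit 1156) (Step.B (nat_lit 1157) (Step.U (nat_lit 11) Step.done))) (Scr.cons (nat_lit 1) (nat_lit 0) (Step.B (nat_lit 555) (Step.B (nat_lit 1158)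 (Step.L Step.done))) (Scr.cons (nat_lit 0) (nat_lit 0) (Step.U (nat_lit 571) (Step.B (nat_lit 1159) (Step.L Step.done))) (Scr.cons (nat_lit 1) (nat_lit 0) (Step.F (nat_lit 864) (Step.B (nat_lit 1160) (Step.L Step.done))) Scr.nil))))))))))))))))))))))))))))))))))))))))
noncomputable def s29 : Scr := (Scr.cons (nat_lit 2) (nat_lit 0) (Step.U (nat_lit 1536) (Step.B (nat_lit 1161) (Step.L Step.done))) (Scr.cons (nat_lit 1) (nat_lit 0) (Step.F (nat_lit 1150) (Step.B (nat_lit 1162) (Step.L Step.done))) (Scr.cons (nat_lit 0) (nat_lit 0) (Step.D (nat_lit 2118) (Step.B (nat_lit 1163) (Step.L Step.done))) (Scr.cons (nat_lit 1) (nat_lit 0) (Step.D (nat_lit 1022) (Step.B (nat_lit 1164) Step.done)) (Scr.cons (nat_lit 8) (nat_lit 3) (Step.U (nat_lit 929) (Step.D (nat_lit 927) (Step.D (nat_lit 2045) Step.done))) (Scr.cons (nat_lit 20) (nat_lit 4) (Step.U (nat_lit 2045) (Step.U (nat_lit 927) (Step.L (Step.L (Step.L (Step.D (nat_lit 239) (Step.D (nat_lit 934) (Step.D (nat_lit 2050) Step.done))))))))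 (Scr.cons (nat_lit 8) (nat_lit 1) (Step.U (nat_lit 935) (Step.D (nat_lit 934) (Step.D (nat_lit 2050) Step.done))) (Scr.cons (nat_lit 0) (nat_lit 0) (Step.F (nat_lit 1168) (Step.B (nat_lit 839) (Step.B (nat_lit 899) (Step.L Step.done)))) (Scr.cons (nat_lit 2) (nat_lit 0) (Step.B (nat_lit 1167) (Step.B (nat_lit 1169) (Step.L Step.done))) (Scr.cons (nat_lit 1) (nat_lit 0) (Step.B (nat_lit 1166) (Step.B (nat_lit 1170) (Step.D (nat_lit 566) Step.done))) (Scr.cons (nat_lit 3) (nat_lit 1) (Step.D (nat_lit 929) (Step.B (nat_lit 1171) (Step.D (nat_lit 1643) Step.done))) (Scr.cons (nat_lit 1) (nat_lit 0) (Step.B (nat_lit 238) (Step.F (nat_lit 1172) (Step.D (nat_lit 928) Step.done))) (Scr.cons (nat_lit 1) (nat_lit 0) (Step.D (nat_lit 928) (Step.F (nat_lit 1173) Step.done)) (Scr.cons (nat_lit 9) (nat_lit 0) (Step.U (nat_lit 265) (Step.D (nat_lit 266) Step.done)) (Scr.cons (nat_lit 8) (nat_lit 3) (Step.L (Step.L (Step.D (nat_lit 266) Step.done))) (Scr.cons (nat_lit 22) (nat_lit 6)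 (Step.U (nat_lit 1015) (Step.U (nat_lit 271) (Step.L (Step.L (Step.L (Step.L (Step.L (Step.L (Step.L (Step.L (Step.L (Step.D (nat_lit 310) (Step.D (nat_lit 1108) Step.done))))))))))))) (Scr.cons (nat_lit 8) (nat_lit 1) (Step.F (nat_lit 1177) (Step.U (nat_lit 1015) (Step.D (nat_lit 1016) Step.done))) (Scr.cons (nat_lit 21) (nat_lit 1) (Step.U (nat_lit 1010) (Step.B (nat_lit 1175) (Step.F (nat_lit 1176) (Step.D (nat_lit 271) (Step.D (nat_lit 1016) (Step.F (nat_lit 1178) (Step.U (nat_lit 1108) (Step.U (nat_lit 310) (Step.L (Step.L (Step.L (Step.D (nat_lit 307) (Step.D (nat_lit 1103) Step.done))))))))))))) (Scr.cons (nat_lit 8) (nat_lit 2) (Step.U (nat_lit 307) (Step.L (Step.D (nat_lit 308) Step.done))) (Scr.cons (nat_lit 9) (nat_lit 0) (Step.L (Step.D (nat_lit 313) Step.done)) (Scr.cons (nat_lit 19) (nat_lit 1) (Step.U (nat_lit 1103) (Step.B (nat_lit 1180) (Step.U (nat_lit 308) (Step.L (Step.L (Step.L (Step.L (Step.L (Step.L (Step.L (Step.L (Step.B (nat_lit 1181) (Step.D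 (nat_lit 1111) Step.done))))))))))))) (Scr.cons (nat_lit 8) (nat_lit 3) (Step.F (nat_lit 1182) (Step.U (nat_lit 1103) (Step.D (nat_lit 1104) Step.done))) (Scr.cons (nat_lit 9) (nat_lit 0) (Step.F (nat_lit 1180) (Step.D (nat_lit 1104) Step.done)) (Scr.cons (nat_lit 12) (nat_lit 12) (Step.U (nat_lit 308) (Step.L (Step.L (Step.L (Step.L (Step.L (Step.L (Step.L (Step.L (Step.L (Step.L (Step.D (nat_lit 231) (Step.D (nat_lit 905) Step.done))))))))))))) (Scr.cons (nat_lit 8) (nat_lit 1) (Step.F (nat_lit 1184) (Step.B (nat_lit 1185) (Step.D (nat_lit 2028) Step.done))) (Scr.cons (nat_lit 9) (nat_lit 0) (Step.U (nat_lit 47) (Step.L Step.done)) (Scr.cons (nat_lit 8) (nat_lit 2) (Step.U (nat_lit 269) (Step.B (nat_lit 1187) (Step.D (nat_lit 270) Step.done))) (Scr.cons (nat_lit 20) (nat_lit 2) (Step.U (nat_lit 656) (Step.U (nat_lit 152) (Step.B (nat_lit 631) (Step.U (nat_lit 21) (Step.L (Step.D (nat_lit 156) (Step.F (nat_lit 793) (Step.D (nat_lit 1013) Step.done)))))))) (Scr.cons (nat_lit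 9) (nat_lit 0) (Step.U (nat_lit 655) (Step.D (nat_lit 656) Step.done)) (Scr.cons (nat_lit 12) (nat_lit 12) (Step.F (nat_lit 1186) (Step.F (nat_lit 1183) (Step.F (nat_lit 1182) (Step.F (nat_lit 1179) (Step.U (nat_lit 1010) (Step.B (nat_lit 1175) (Step.F (nat_lit 1176) (Step.D (nat_lit 270) (Step.F (nat_lit 1188) (Step.D (nat_lit 1013) (Step.F (nat_lit 1189) (Step.F (nat_lit 1190) (Step.D (nat_lit 1764) Step.done))))))))))))) (Scr.cons (nat_lit 9) (nat_lit 0) (Step.U (nat_lit 1618) (Step.D (nat_lit 1619) Step.done)) (Scr.cons (nat_lit 3) (nat_lit 1) (Step.F (nat_lit 674) (Step.F (nat_lit 670) (Step.D (nat_lit 1770) Step.done))) (Scr.cons (nat_lit 3) (nat_lit 1) (Step.D (nat_lit 1770) (Step.F (nat_lit 1193) Step.done)) (Scr.cons (nat_lit 20) (nat_lit 7) (Step.B (nat_lit 868) (Step.B (nat_lit 865) (Step.U (nat_lit 571) (Step.D (nat_lit 572) (Step.D (nat_lit 1650) (Step.F (nat_lit 559) (Step.B (nat_lit 852) (Step.U (nat_lit 1762) (Step.D (nat_lit 1760) Step.done))))))))) (Scr.cons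 (nat_lit 0) (nat_lit 0) (Step.D (nat_lit 1760) (Step.F (nat_lit 1195) Step.done)) (Scr.cons (nat_lit 12) (nat_lit 3) (Step.B (nat_lit 1192) (Step.F (nat_lit 751) (Step.D (nat_lit 1620) (Step.F (nat_lit 1194) (Step.U (nat_lit 659) (Step.U (nat_lit 154) (Step.F (nat_lit 631) (Step.D (nat_lit 152) (Step.D (nat_lit 654) (Step.F (nat_lit 1196) (Step.U (nat_lit 654) (Step.D (nat_lit 655) (Step.D (nat_lit 1763) Step.done))))))))))))) (Scr.cons (nat_lit 3) (nat_lit 0) (Step.B (nat_lit 1192) (Step.B (nat_lit 971) (Step.L Step.done))) (Scr.cons (nat_lit 2) (nat_lit 0) (Step.F (nat_lit 1197) (Step.B (nat_lit 1198) (Step.L Step.done))) (Scr.cons (nat_lit 1) (nat_lit 0) (Step.D (nat_lit 1763) (Step.B (nat_lit 1199) (Step.L Step.done))) (Scr.cons (nat_lit 2) (nat_lit 0) (Step.U (nat_lit 1764) (Step.B (nat_lit 1200) (Step.L Step.done))) Scr.nil))))))))))))))))))))))))))))))))))))))))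
noncomputable def s30 : Scr := (Scr.cons (nat_lit 1) (nat_lit 0) (Step.B (nat_lit 1191) (Step.B (nat_lit 1201) (Step.L Step.done))) (Scr.cons (nat_lit 0) (nat_lit 0) (Step.B (nat_lit 1186) (Step.B (nat_lit 1202) (Step.L Step.done))) (Scr.cons (nat_lit 1) (nat_lit 0) (Step.B (nat_lit 1183) (Step.B (nat_lit 1203) (Step.L Step.done))) (Scr.cons (nat_lit 3) (nat_lit 1) (Step.B (nat_lit 1182) (Step.B (nat_lit 1204) (Step.L Step.done))) (Scr.cons (nat_lit 1) (nat_lit 0) (Step.B (nat_lit 1179) (Step.B (nat_lit 1205) Step.done)) (Scr.cons (nat_lit 8) (nat_lit 0) (Step.L (Step.L (Step.D (nat_lit 1469) Step.done))) (Scr.cons (nat_lit 18) (nat_lit 0) (Step.F (nat_lit 1207) (Step.B (nat_lit 143) Step.done)) (Scr.cons (nat_lit 9) (nat_lit 0) (Step.U (nat_lit 2421) (Step.D (nat_lit 2422) Step.done)) (Scr.cons (nat_lit 12) (nat_lit 2) (Step.U (nat_lit 1470) (Step.L (Step.L (Step.L (Step.L (Step.L (Step.B (nat_lit 53) (Step.U (nat_lit 465) (Step.U (nat_lit 100) (Step.L (Step.D (nat_lit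 463) (Step.D (nat_lit 1443) (Step.D (nat_lit 2421) Step.done))))))))))))) (Scr.cons (nat_lit 8) (nat_lit 1) (Step.F (nat_lit 1209) (Step.F (nat_lit 1210) (Step.D (nat_lit 2434) Step.done))) (Scr.cons (nat_lit 8) (nat_lit 1) (Step.L (Step.D (nat_lit 760) (Step.D (nat_lit 1893) Step.done))) (Scr.cons (nat_lit 12) (nat_lit 5) (Step.F (nat_lit 1212) (Step.L (Step.L (Step.L (Step.L (Step.L (Step.L (Step.L (Step.L (Step.L (Step.L (Step.D (nat_lit 724) (Step.D (nat_lit 1849) Step.done))))))))))))) (Scr.cons (nat_lit 22) (nat_lit 5) (Step.F (nat_lit 1209) (Step.F (nat_lit 1210) (Step.U (nat_lit 1470) (Step.L (Step.D (nat_lit 724) (Step.D (nat_lit 1849) (Step.F (nat_lit 1213) (Step.U (nat_lit 1893) (Step.U (nat_lit 760) (Step.L (Step.L (Step.L (Step.L Step.done))))))))))))) (Scr.cons (nat_lit 21) (nat_lit 1) (Step.U (nat_lit 2163) (Step.F (nat_lit 1208) (Step.U (nat_lit 1469) (Step.D (nat_lit 1470) (Step.D (nat_lit 2434) (Step.F (nat_lit 1211) (Step.B (nat_lit 1214) (Step.L (Step.L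 (Step.L (Step.L (Step.D (nat_lit 1118) (Step.D (nat_lit 2181) Step.done))))))))))))) (Scr.cons (nat_lit 11) (nat_lit 5) (Step.F (nat_lit 1215) (Step.U (nat_lit 2163) (Step.U (nat_lit 1087) (Step.L (Step.F (nat_lit 739) (Step.B (nat_lit 742) (Step.F (nat_lit 741) (Step.D (nat_lit 1925) Step.done)))))))) (Scr.cons (nat_lit 3) (nat_lit 0) (Step.B (nat_lit 740) (Step.B (nat_lit 761) (Step.D (nat_lit 1576) Step.done))) (Scr.cons (nat_lit 12) (nat_lit 6) (Step.U (nat_lit 1106) (Step.L (Step.L (Step.L (Step.L (Step.L (Step.L (Step.L (Step.B (nat_lit 705) (Step.D (nat_lit 278) (Step.D (nat_lit 1031) (Step.F (nat_lit 1118) (Step.D (nat_lit 1737) Step.done))))))))))))) (Scr.cons (nat_lit 8) (nat_lit 0) (Step.F (nat_lit 1218) (Step.U (nat_lit 1106) (Step.D (nat_lit 1105) Step.done))) (Scr.cons (nat_lit 0) (nat_lit 0) (Step.U (nat_lit 632) (Step.B (nat_lit 801) (Step.B (nat_lit 759) (Step.F (nat_lit 760) Step.done)))) (Scr.cons (nat_lit 1) (nat_lit 0) (Step.U (nat_lit 1737) (Step.B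 (nat_lit 1220) (Step.L Step.done))) (Scr.cons (nat_lit 3) (nat_lit 0) (Step.F (nat_lit 1219) (Step.B (nat_lit 1221) (Step.D (nat_lit 1576) Step.done))) (Scr.cons (nat_lit 1) (nat_lit 0) (Step.D (nat_lit 1924) (Step.B (nat_lit 1217) (Step.F (nat_lit 1222) (Step.U (nat_lit 1105) Step.done)))) (Scr.cons (nat_lit 2) (nat_lit 0) (Step.U (nat_lit 1925) (Step.B (nat_lit 1223) (Step.L Step.done))) (Scr.cons (nat_lit 3) (nat_lit 0) (Step.B (nat_lit 1216) (Step.B (nat_lit 1224) (Step.L Step.done))) (Scr.cons (nat_lit 0) (nat_lit 0) (Step.D (nat_lit 2181) (Step.B (nat_lit 1225) (Step.L Step.done))) (Scr.cons (nat_lit 1) (nat_lit 0) (Step.D (nat_lit 1118) (Step.B (nat_lit 1226) (Step.F (nat_lit 1206) Step.done))) (Scr.cons (nat_lit 1) (nat_lit 0) (Step.F (nat_lit 1206) (Step.F (nat_lit 1227) Step.done)) (Scr.cons (nat_lit 9) (nat_lit 0) (Step.U (nat_lit 2302) (Step.D (nat_lit 2303) Step.done)) (Scr.cons (nat_lit 21) (nat_lit 6) (Step.U (nat_lit 1814) (Step.U (nat_lit 692) (Step.U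 (nat_lit 165) (Step.L (Step.L (Step.L (Step.L (Step.L (Step.L (Step.L (Step.D (nat_lit 1973) (Step.B (nat_lit 310) (Step.D (nat_lit 2304) Step.done))))))))))))) (Scr.cons (nat_lit 3) (nat_lit 1) (Step.U (nat_lit 965) (Step.B (nat_lit 943) (Step.D (nat_lit 165) Step.done))) (Scr.cons (nat_lit 1) (nat_lit 0) (Step.F (nat_lit 342) (Step.B (nat_lit 1231) (Step.D (nat_lit 692) Step.done))) (Scr.cons (nat_lit 0) (nat_lit 0) (Step.U (nat_lit 1814) (Step.F (nat_lit 1232) (Step.B (nat_lit 142) Step.done))) (Scr.cons (nat_lit 3) (nat_lit 0) (Step.F (nat_lit 1230) (Step.B (nat_lit 1233) (Step.U (nat_lit 1080) Step.done))) (Scr.cons (nat_lit 2) (nat_lit 0) (Step.D (nat_lit 2304) (Step.B (nat_lit 1234) (Step.L Step.done))) (Scr.cons (nat_lit 12) (nat_lit 10) (Step.L (Step.L (Step.L (Step.L (Step.L (Step.L (Step.L (Step.L (Step.L (Step.L (Step.L (Step.L (Step.D (nat_lit 1776) Step.done))))))))))))) (Scr.cons (nat_lit 3) (nat_lit 1) (Step.F (nat_lit 305) (Step.B (nat_lit 1235) (Step.B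 (nat_lit 1236) Step.done))) (Scr.cons (nat_lit 8) (nat_lit 3) (Step.U (nat_lit 1279) (Step.L (Step.D (nat_lit 2303) Step.done))) (Scr.cons (nat_lit 1) (nat_lit 0) (Step.D (nat_lit 1776) (Step.F (nat_lit 1237) (Step.B (nat_lit 1238) Step.done))) (Scr.cons (nat_lit 20) (nat_lit 2) (Step.U (nat_lit 1777) (Step.L (Step.L (Step.L (Step.L (Step.D (nat_lit 157) (Step.B (nat_lit 979) (Step.D (nat_lit 1780) Step.done)))))))) (Scr.cons (nat_lit 8) (nat_lit 3) (Step.U (nat_lit 127) (Step.L (Step.D (nat_lit 560) Step.done))) Scr.nil))))))))))))))))))))))))))))))))))))))))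
noncomputable def s31 : Scr := (Scr.cons (nat_lit 3) (nat_lit 1) (Step.F (nat_lit 969) (Step.B (nat_lit 1061) (Step.L Step.done))) (Scr.cons (nat_lit 1) (nat_lit 0) (Step.D (nat_lit 1633) (Step.B (nat_lit 1242) (Step.L Step.done))) (Scr.cons (nat_lit 2) (nat_lit 0) (Step.D (nat_lit 561) (Step.B (nat_lit 1243) (Step.L Step.done))) (Scr.cons (nat_lit 1) (nat_lit 0) (Step.F (nat_lit 1241) (Step.B (nat_lit 1244) (Step.L Step.done))) (Scr.cons (nat_lit 3) (nat_lit 1) (Step.D (nat_lit 560) (Step.B (nat_lit 1245) (Step.D (nat_lit 663) Step.done))) (Scr.cons (nat_lit 2) (nat_lit 0) (Step.U (nat_lit 1780) (Step.F (nat_lit 1246) (Step.L Step.done))) (Scr.cons (nat_lit 1) (nat_lit 0) (Step.B (nat_lit 1240) (Step.B (nat_lit 1247) (Step.D (nat_lit 1631) Step.done))) (Scr.cons (nat_lit 3) (nat_lit 0) (Step.B (nat_lit 1229) (Step.F (nat_lit 1239) (Step.D (nat_lit 1777) (Step.B (nat_lit 1248) Step.done)))) (Scr.cons (nat_lit 21) (nat_lit 12) (Step.U (nat_lit 559) (Step.L (Step.L (Step.L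 (Step.L (Step.L (Step.L (Step.D (nat_lit 0) (Step.B (nat_lit 636) (Step.D (nat_lit 148) (Step.D (nat_lit 644) (Step.F (nat_lit 956) (Step.D (nat_lit 1501) Step.done))))))))))))) (Scr.cons (nat_lit 8) (nat_lit 1) (Step.F (nat_lit 1250) (Step.U (nat_lit 559) (Step.L Step.done))) (Scr.cons (nat_lit 21) (nat_lit 3) (Step.U (nat_lit 1631) (Step.L (Step.L (Step.F (nat_lit 1251) (Step.U (nat_lit 1501) (Step.F (nat_lit 953) (Step.F (nat_lit 954) (Step.F (nat_lit 955) (Step.L (Step.L (Step.L (Step.L (Step.D (nat_lit 1701) Step.done))))))))))))) (Scr.cons (nat_lit 3) (nat_lit 0) (Step.D (nat_lit 2302) (Step.B (nat_lit 1249) (Step.B (nat_lit 1252) Step.done))) (Scr.cons (nat_lit 2) (nat_lit 0) (Step.D (nat_lit 1701) (Step.F (nat_lit 1253) (Step.D (nat_lit 2301) Step.done))) (Scr.cons (nat_lit 2) (nat_lit 0) (Step.D (nat_lit 2301) (Step.F (nat_lit 1254) Step.done)) (Scr.cons (nat_lit 9) (nat_lit 0) (Step.L (Step.D (nat_lit 1056) Step.done)) (Scr.cons (nat_lit 8) (nat_lit 2) (Step.U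 (nat_lit 2142) (Step.B (nat_lit 1256) (Step.D (nat_lit 2144) Step.done))) (Scr.cons (nat_lit 8) (nat_lit 3) (Step.U (nat_lit 1056) (Step.L (Step.D (nat_lit 2141) Step.done))) (Scr.cons (nat_lit 8) (nat_lit 1) (Step.L (Step.L (Step.D (nat_lit 289) Step.done))) (Scr.cons (nat_lit 20) (nat_lit 4) (Step.U (nat_lit 2141) (Step.L (Step.L (Step.D (nat_lit 289) (Step.F (nat_lit 1259) (Step.L (Step.D (nat_lit 1058) (Step.D (nat_lit 2147) Step.done)))))))) (Scr.cons (nat_lit 3) (nat_lit 1) (Step.U (nat_lit 2147) (Step.B (nat_lit 928) (Step.L Step.done))) (Scr.cons (nat_lit 2) (nat_lit 0) (Step.B (nat_lit 1260) (Step.B (nat_lit 1261) (Step.D (nat_lit 1624) Step.done))) (Scr.cons (nat_lit 1) (nat_lit 0) (Step.D (nat_lit 124) (Step.B (nat_lit 729) (Step.B (nat_lit 10) Step.done))) (Scr.cons (nat_lit 0) (nat_lit 0) (Step.B (nat_lit 5) (Step.F (nat_lit 1263) (Step.L Step.done))) (Scr.cons (nat_lit 2) (nat_lit 0) (Step.U (nat_lit 42) (Step.B (nat_lit 1264) (Step.L Step.done))) (Scr.cons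 (nat_lit 0) (nat_lit 0) (Step.U (nat_lit 257) (Step.B (nat_lit 1265) (Step.L Step.done))) (Scr.cons (nat_lit 3) (nat_lit 1) (Step.U (nat_lit 993) (Step.B (nat_lit 1266) (Step.L Step.done))) (Scr.cons (nat_lit 2) (nat_lit 0) (Step.U (nat_lit 2094) (Step.B (nat_lit 1267) (Step.D (nat_lit 1624) Step.done))) (Scr.cons (nat_lit 9) (nat_lit 0) (Step.U (nat_lit 993) (Step.D (nat_lit 994) Step.done)) (Scr.cons (nat_lit 8) (nat_lit 3) (Step.U (nat_lit 258) (Step.D (nat_lit 257) (Step.D (nat_lit 994) Step.done))) (Scr.cons (nat_lit 22) (nat_lit 6) (Step.U (nat_lit 2095) (Step.U (nat_lit 995) (Step.U (nat_lit 258) (Step.U (nat_lit 42) (Step.B (nat_lit 8) (Step.F (nat_lit 6) (Step.L (Step.L (Step.L (Step.L (Step.L (Step.D (nat_lit 1530) (Step.D (nat_lit 2475) Step.done))))))))))))) (Scr.cons (nat_lit 8) (nat_lit 1) (Step.F (nat_lit 1271) (Step.U (nat_lit 2095) (Step.D (nat_lit 2096) Step.done))) (Scr.cons (nat_lit 21) (nat_lit 1) (Step.U (nat_lit 2094) (Step.B (nat_lit 1269) (Step.F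 (nat_lit 1270) (Step.D (nat_lit 995) (Step.D (nat_lit 2096) (Step.F (nat_lit 1272) (Step.U (nat_lit 2475) (Step.U (nat_lit 1530) (Step.L (Step.L (Step.L (Step.F (nat_lit 641) (Step.D (nat_lit 2049) Step.done))))))))))))) (Scr.cons (nat_lit 3) (nat_lit 1) (Step.F (nat_lit 633) (Step.B (nat_lit 764) (Step.L Step.done))) (Scr.cons (nat_lit 1) (nat_lit 0) (Step.F (nat_lit 668) (Step.B (nat_lit 1274) (Step.L Step.done))) (Scr.cons (nat_lit 0) (nat_lit 0) (Step.F (nat_lit 1275) (Step.B (nat_lit 667) (Step.B (nat_lit 896) (Step.D (nat_lit 240) Step.done)))) (Scr.cons (nat_lit 3) (nat_lit 0) (Step.B (nat_lit 639) (Step.F (nat_lit 1276) (Step.L Step.done))) (Scr.cons (nat_lit 2) (nat_lit 0) (Step.U (nat_lit 932) (Step.B (nat_lit 1277) (Step.L Step.done))) (Scr.cons (nat_lit 0) (nat_lit 0) (Step.U (nat_lit 2049) (Step.B (nat_lit 1278) (Step.D (nat_lit 1803) Step.done))) (Scr.cons (nat_lit 1) (nat_lit 0) (Step.F (nat_lit 1268) (Step.B (nat_lit 1273) (Step.B (nat_lit 1279) Step.done)))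 (Scr.cons (nat_lit 1) (nat_lit 0) (Step.B (nat_lit 1258) (Step.B (nat_lit 1262) (Step.B (nat_lit 1280) Step.done))) Scr.nil))))))))))))))))))))))))))))))))))))))))
noncomputable def s32 : Scr := (Scr.cons (nat_lit 0) (nat_lit 0) (Step.D (nat_lit 1803) (Step.F (nat_lit 1281) (Step.D (nat_lit 2144) Step.done))) (Scr.cons (nat_lit 3) (nat_lit 0) (Step.B (nat_lit 1257) (Step.F (nat_lit 1282) (Step.L Step.done))) (Scr.cons (nat_lit 1) (nat_lit 0) (Step.D (nat_lit 2142) (Step.B (nat_lit 1283) Step.done)) (Scr.cons (nat_lit 8) (nat_lit 1) (Step.L (Step.L (Step.D (nat_lit 1093) Step.done))) (Scr.cons (nat_lit 20) (nat_lit 3) (Step.U (nat_lit 1092) (Step.D (nat_lit 1093) (Step.F (nat_lit 1285) (Step.L (Step.L (Step.L (Step.D (nat_lit 940) (Step.D (nat_lit 2053) Step.done)))))))) (Scr.cons (nat_lit 8) (nat_lit 1) (Step.U (nat_lit 1020) (Step.D (nat_lit 1019) (Step.D (nat_lit 2115) Step.done))) (Scr.cons (nat_lit 13) (nat_lit 1) (Step.U (nat_lit 1169) (Step.L (Step.L (Step.L (Step.L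 (Step.L (Step.L (Step.L (Step.L (Step.L (Step.L (Step.D (nat_lit 1019) (Step.D (nat_lit 2115) Step.done))))))))))))) (Scr.cons (nat_lit 21) (nat_lit 0) (Step.U (nat_lit 2053) (Step.U (nat_lit 940) (Step.L (Step.L (Step.L (Step.D (nat_lit 1020) (Step.B (nat_lit 1287) (Step.F (nat_lit 1288) (Step.U (nat_lit 1169) (Step.L (Step.L (Step.L (Step.B (nat_lit 515) Step.done))))))))))))) (Scr.cons (nat_lit 1) (nat_lit 0) (Step.D (nat_lit 1646) (Step.F (nat_lit 685) Step.done)) (Scr.cons (nat_lit 0) (nat_lit 0) (Step.B (nat_lit 686) (Step.F (nat_lit 687) Step.done)) (Scr.cons (nat_lit 3) (nat_lit 1) (Step.F (nat_lit 726) (Step.F (nat_lit 727) (Step.B (nat_lit 710) (Step.B (nat_lit 91) Step.done)))) (Scr.cons (nat_lit 0) (nat_lit 0) (Step.B (nat_lit 1291) (Step.B (nat_lit 1292) (Step.B (nat_lit 94) Step.done))) (Scr.cons (nat_lit 1) (nat_lit 0) (Step.B (nat_lit 1290) (Step.B (nat_lit 1293) (Step.F (nat_lit 88) Step.done))) (Scr.cons (nat_lit 2) (nat_lit 0) (Step.U (nat_lit 1647)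 (Step.B (nat_lit 1294) (Step.L Step.done))) (Scr.cons (nat_lit 1) (nat_lit 0) (Step.F (nat_lit 562) (Step.B (nat_lit 1295) (Step.L Step.done))) (Scr.cons (nat_lit 2) (nat_lit 0) (Step.U (nat_lit 1800) (Step.B (nat_lit 1296) (Step.D (nat_lit 1531) Step.done))) (Scr.cons (nat_lit 0) (nat_lit 0) (Step.B (nat_lit 1289) (Step.B (nat_lit 1297) (Step.D (nat_lit 2476) Step.done))) (Scr.cons (nat_lit 0) (nat_lit 0) (Step.D (nat_lit 2476) (Step.F (nat_lit 1298) Step.done)) (Scr.cons (nat_lit 8) (nat_lit 2) (Step.U (nat_lit 1312) (Step.L (Step.L Step.done))) (Scr.cons (nat_lit 9) (nat_lit 0) (Step.F (nat_lit 1300) (Step.D (nat_lit 2332) Step.done)) (Scr.cons (nat_lit 9) (nat_lit 0) (Step.U (nat_lit 1314) (Step.D (nat_lit 1315) Step.done)) (Scr.cons (nat_lit 8) (nat_lit 2) (Step.U (nat_lit 2335) (Step.B (nat_lit 1302) (Step.D (nat_lit 2336) Step.done))) (Scr.cons (nat_lit 10) (nat_lit 1) (Step.F (nat_lit 1301) (Step.L (Step.L (Step.L (Step.L (Step.L (Step.L (Step.L (Step.F (nat_lit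 702) (Step.D (nat_lit 407) (Step.D (nat_lit 1315) (Step.D (nat_lit 2336) (Step.F (nat_lit 1303) Step.done))))))))))))) (Scr.cons (nat_lit 8) (nat_lit 0) (Step.F (nat_lit 1304) (Step.F (nat_lit 1301) (Step.D (nat_lit 2333) Step.done))) (Scr.cons (nat_lit 18) (nat_lit 0) (Step.F (nat_lit 1305) (Step.B (nat_lit 1303) Step.done)) (Scr.cons (nat_lit 8) (nat_lit 3) (Step.U (nat_lit 408) (Step.D (nat_lit 407) (Step.D (nat_lit 1315) Step.done))) (Scr.cons (nat_lit 8) (nat_lit 3) (Step.L (Step.L (Step.D (nat_lit 333) Step.done))) (Scr.cons (nat_lit 1) (nat_lit 0) (Step.F (nat_lit 1307) (Step.B (nat_lit 716) (Step.F (nat_lit 1308) Step.done))) (Scr.cons (nat_lit 0) (nat_lit 0) (Step.U (nat_lit 2336) (Step.B (nat_lit 1309) (Step.L Step.done))) (Scr.cons (nat_lit 3) (nat_lit 1) (Step.B (nat_lit 1306) (Step.B (nat_lit 1310) (Step.L Step.done))) (Scr.cons (nat_lit 11) (nat_lit 3) (Step.U (nat_lit 1531) (Step.L (Step.L (Step.L (Step.D (nat_lit 912) (Step.D (nat_lit 2035) (Step.F (nat_lit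 1009) (Step.D (nat_lit 2268) Step.done)))))))) (Scr.cons (nat_lit 8) (nat_lit 3) (Step.B (nat_lit 1312) (Step.U (nat_lit 2268) (Step.D (nat_lit 2269) Step.done))) (Scr.cons (nat_lit 1) (nat_lit 0) (Step.B (nat_lit 515) (Step.B (nat_lit 1297) (Step.B (nat_lit 1313) Step.done))) (Scr.cons (nat_lit 1) (nat_lit 0) (Step.B (nat_lit 1313) (Step.F (nat_lit 1314) Step.done)) (Scr.cons (nat_lit 1) (nat_lit 0) (Step.D (nat_lit 2333) (Step.B (nat_lit 1311) (Step.F (nat_lit 1315) Step.done))) (Scr.cons (nat_lit 0) (nat_lit 0) (Step.F (nat_lit 1299) (Step.F (nat_lit 1316) (Step.L Step.done))) (Scr.cons (nat_lit 3) (nat_lit 1) (Step.B (nat_lit 1286) (Step.B (nat_lit 1317) (Step.L Step.done))) (Scr.cons (nat_lit 2) (nat_lit 0) (Step.D (nat_lit 1092) (Step.B (nat_lit 1318) (Step.D (nat_lit 404) Step.done))) (Scr.cons (nat_lit 2) (nat_lit 0) (Step.D (nat_lit 404) (Step.F (nat_lit 1319) Step.done)) (Scr.cons (nat_lit 13) (nat_lit 6) (Step.U (nat_lit 2288) (Step.U (nat_lit 1259) (Step.L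 (Step.L (Step.L (Step.L (Step.L (Step.L (Step.L (Step.D (nat_lit 70) (Step.D (nat_lit 378) (Step.D (nat_lit 1268) (Step.D (nat_lit 2294) Step.done))))))))))))) Scr.nil))))))))))))))))))))))))))))))))))))))))
noncomputable def s33 : Scr := (Scr.cons (nat_lit 8) (nat_lit 2) (Step.F (nat_lit 1321) (Step.U (nat_lit 2288) (Step.D (nat_lit 2287) Step.done))) (Scr.cons (nat_lit 8) (nat_lit 3) (Step.U (nat_lit 1268) (Step.D (nat_lit 1266) (Step.D (nat_lit 2291) Step.done))) (Scr.cons (nat_lit 9) (nat_lit 0) (Step.U (nat_lit 2290) (Step.D (nat_lit 2291) Step.done)) (Scr.cons (nat_lit 12) (nat_lit 11) (Step.L (Step.L (Step.L (Step.L (Step.L (Step.L (Step.L (Step.L (Step.D (nat_lit 1259) (Step.D (nat_lit 2287) (Step.F (nat_lit 1322) (Step.U (nat_lit 2294) (Step.B (nat_lit 1323) (Step.F (nat_lit 1324) Step.done)))))))))))))) (Scr.cons (nat_lit 3) (nat_lit 0) (Step.D (nat_lit 2290) (Step.F (nat_lit 1325) (Step.D (nat_lit 1276) Step.done))) (Scr.cons (nat_lit 3) (nat_lit 0) (Step.D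 (nat_lit 1276) (Step.F (nat_lit 1326) Step.done)) (Scr.cons (nat_lit 11) (nat_lit 2) (Step.U (nat_lit 1859) (Step.L (Step.L (Step.L (Step.L (Step.L (Step.D (nat_lit 735) (Step.D (nat_lit 1861) Step.done)))))))) (Scr.cons (nat_lit 11) (nat_lit 5) (Step.U (nat_lit 1858) (Step.L (Step.L (Step.L (Step.L (Step.L (Step.D (nat_lit 735) (Step.D (nat_lit 1861) Step.done)))))))) (Scr.cons (nat_lit 8) (nat_lit 1) (Step.U (nat_lit 375) (Step.D (nat_lit 374) (Step.D (nat_lit 1263) Step.done))) (Scr.cons (nat_lit 19) (nat_lit 0) (Step.U (nat_lit 731) (Step.L (Step.L (Step.L (Step.B (nat_lit 14) (Step.B (nat_lit 13) (Step.L (Step.L (Step.L (Step.L (Step.L (Step.D (nat_lit 363) (Step.D (nat_lit 1230) Step.done))))))))))))) (Scr.cons (nat_lit 8) (nat_lit 0) (Step.B (nat_lit 331) (Step.B (nat_lit 1331) (Step.U (nat_lit 1230) (Step.D (nat_lit 1228) Step.done)))) (Scr.cons (nat_lit 1) (nat_lit 0) (Step.D (nat_lit 1228) (Step.F (nat_lit 1332) Step.done)) (Scr.cons (nat_lit 12) (nat_lit 5)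 (Step.F (nat_lit 1330) (Step.U (nat_lit 375) (Step.U (nat_lit 69) (Step.L (Step.L (Step.L (Step.L (Step.D (nat_lit 363) (Step.B (nat_lit 1333) (Step.B (nat_lit 331) (Step.F (nat_lit 332) (Step.D (nat_lit 734) (Step.D (nat_lit 1860) Step.done))))))))))))) (Scr.cons (nat_lit 22) (nat_lit 5) (Step.F (nat_lit 1329) (Step.U (nat_lit 1858) (Step.L (Step.B (nat_lit 334) (Step.D (nat_lit 734) (Step.D (nat_lit 1860) (Step.F (nat_lit 1334) (Step.U (nat_lit 1263) (Step.U (nat_lit 374) (Step.U (nat_lit 69) (Step.L (Step.L (Step.D (nat_lit 1240) Step.done))))))))))))) (Scr.cons (nat_lit 21) (nat_lit 1) (Step.U (nat_lit 2169) (Step.U (nat_lit 1090) (Step.F (nat_lit 333) (Step.L (Step.D (nat_lit 1859) (Step.B (nat_lit 1328) (Step.B (nat_lit 1335) (Step.U (nat_lit 1240) (Step.L (Step.D (nat_lit 364) (Step.B (nat_lit 221) (Step.D (nat_lit 1171) (Step.D (nat_lit 2229) Step.done))))))))))))) (Scr.cons (nat_lit 2) (nat_lit 0) (Step.U (nat_lit 2169) (Step.B (nat_lit 972) (Step.D (nat_lit 299)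 Step.done))) (Scr.cons (nat_lit 20) (nat_lit 2) (Step.L (Step.L (Step.L (Step.L (Step.L (Step.L (Step.L (Step.D (nat_lit 299) Step.done)))))))) (Scr.cons (nat_lit 1) (nat_lit 0) (Step.F (nat_lit 1336) (Step.B (nat_lit 1337) (Step.F (nat_lit 1338) Step.done))) (Scr.cons (nat_lit 0) (nat_lit 0) (Step.D (nat_lit 2229) (Step.B (nat_lit 1339) (Step.L Step.done))) (Scr.cons (nat_lit 1) (nat_lit 0) (Step.D (nat_lit 1171) (Step.B (nat_lit 1340) (Step.L Step.done))) (Scr.cons (nat_lit 3) (nat_lit 0) (Step.F (nat_lit 220) (Step.B (nat_lit 1341) (Step.L Step.done))) (Scr.cons (nat_lit 0) (nat_lit 0) (Step.D (nat_lit 377) (Step.B (nat_lit 1342) (Step.L Step.done))) (Scr.cons (nat_lit 2) (nat_lit 0) (Step.U (nat_lit 378) (Step.B (nat_lit 1343) (Step.L Step.done))) (Scr.cons (nat_lit 0) (nat_lit 0) (Step.U (nat_lit 1266) (Step.B (nat_lit 1344) (Step.L Step.done))) (Scr.cons (nat_lit 3) (nat_lit 1) (Step.B (nat_lit 1327) (Step.B (nat_lit 1345) (Step.D (nat_lit 2214) Step.done))) (Scr.cons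 (nat_lit 3) (nat_lit 1) (Step.D (nat_lit 2214) (Step.F (nat_lit 1346) Step.done)) (Scr.cons (nat_lit 8) (nat_lit 2) (Step.L (Step.L (Step.D (nat_lit 761) Step.done))) (Scr.cons (nat_lit 9) (nat_lit 0) (Step.F (nat_lit 1348) (Step.L Step.done)) (Scr.cons (nat_lit 20) (nat_lit 2) (Step.B (nat_lit 1349) (Step.L (Step.L (Step.L (Step.L (Step.L (Step.B (nat_lit 1068) (Step.D (nat_lit 1128) Step.done)))))))) (Scr.cons (nat_lit 9) (nat_lit 0) (Step.U (nat_lit 318) (Step.D (nat_lit 319) Step.done)) (Scr.cons (nat_lit 8) (nat_lit 3) (Step.U (nat_lit 319) (Step.L (Step.D (nat_lit 1126) Step.done))) (Scr.cons (nat_lit 9) (nat_lit 0) (Step.U (nat_lit 1125) (Step.D (nat_lit 1126) Step.done)) (Scr.cons (nat_lit 8) (nat_lit 2) (Step.U (nat_lit 2190) (Step.B (nat_lit 1353) (Step.D (nat_lit 2191) Step.done))) (Scr.cons (nat_lit 12) (nat_lit 8) (Step.U (nat_lit 2046) (Step.L (Step.L (Step.L (Step.L (Step.L (Step.B (nat_lit 1348) (Step.B (nat_lit 1350) (Step.U (nat_lit 1128) (Step.B (nat_lit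 1351) (Step.B (nat_lit 1352) (Step.D (nat_lit 2191) (Step.F (nat_lit 1354) Step.done))))))))))))) (Scr.cons (nat_lit 21) (nat_lit 7) (Step.U (nat_lit 2037) (Step.U (nat_lit 913) (Step.L (Step.L (Step.D (nat_lit 911) (Step.F (nat_lit 643) (Step.U (nat_lit 1772) (Step.B (nat_lit 850) (Step.B (nat_lit 876) (Step.F (nat_lit 887) (Step.U (nat_lit 971) (Step.D (nat_lit 972) (Step.D (nat_lit 2075) Step.done))))))))))))) (Scr.cons (nat_lit 9) (nat_lit 0) (Step.U (nat_lit 2075) (Step.D (nat_lit 2076) Step.done)) (Scr.cons (nat_lit 3) (nat_lit 0) (Step.B (nat_lit 1357) (Step.F (nat_lit 1047) (Step.D (nat_lit 1131) Step.done))) (Scr.cons (nat_lit 0) (nat_lit 0) (Step.B (nat_lit 1356) (Step.B (nat_lit 1358) Step.done)) (Scr.cons (nat_lit 9) (nat_lit 0) (Step.U (nat_lit 913) (Step.D (nat_lit 914) Step.done)) (Scr.cons (nat_lit 8) (nat_lit 2) (Step.U (nat_lit 2037) (Step.B (nat_lit 1360) (Step.D (nat_lit 2038) Step.done))) Scr.nil))))))))))))))))))))))))))))))))))))))))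
noncomputable def s34 : Scr := (Scr.cons (nat_lit 19) (nat_lit 0) (Step.U (nat_lit 2191) (Step.U (nat_lit 1126) (Step.L (Step.D (nat_lit 318) (Step.F (nat_lit 1068) (Step.B (nat_lit 1048) (Step.D (nat_lit 322) (Step.B (nat_lit 1083) (Step.F (nat_lit 1359) (Step.B (nat_lit 1361) (Step.U (nat_lit 2038) (Step.U (nat_lit 914) (Step.D (nat_lit 912) (Step.D (nat_lit 2034) Step.done)))))))))))))) (Scr.cons (nat_lit 3) (nat_lit 0) (Step.B (nat_lit 1354) (Step.B (nat_lit 1362) (Step.U (nat_lit 2034) Step.done))) (Scr.cons (nat_lit 2) (nat_lit 0) (Step.B (nat_lit 1355) (Step.B (nat_lit 1363) (Step.D (nat_lit 2033) Step.done))) (Scr.cons (nat_lit 1) (nat_lit 0) (Step.D (nat_lit 2046) (Step.B (nat_lit 1364) Step.done)) (Scr.cons (nat_lit 1) (nat_lit 0) (Step.U (nat_lit 1574) (Step.B (nat_lit 758) (Step.D (nat_lit 209) Step.done))) (Scr.cons (nat_lit 3) (nat_lit 0) (Step.F (nat_lit 827) (Step.B (nat_lit 1366) (Step.D (nat_lit 860) Step.done))) (Scr.cons (nat_lit 2) (nat_lit 0) (Step.D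 (nat_lit 1726) (Step.B (nat_lit 1367) (Step.B (nat_lit 527) Step.done))) (Scr.cons (nat_lit 3) (nat_lit 0) (Step.B (nat_lit 645) (Step.B (nat_lit 1275) (Step.L Step.done))) (Scr.cons (nat_lit 0) (nat_lit 0) (Step.D (nat_lit 910) (Step.B (nat_lit 1369) (Step.B (nat_lit 522) Step.done))) (Scr.cons (nat_lit 1) (nat_lit 0) (Step.F (nat_lit 526) (Step.F (nat_lit 1370) (Step.L Step.done))) (Scr.cons (nat_lit 2) (nat_lit 0) (Step.B (nat_lit 1368) (Step.F (nat_lit 527) (Step.B (nat_lit 1371) (Step.L Step.done)))) (Scr.cons (nat_lit 0) (nat_lit 0) (Step.D (nat_lit 627) (Step.B (nat_lit 1372) (Step.D (nat_lit 912) Step.done))) (Scr.cons (nat_lit 2) (nat_lit 0) (Step.U (nat_lit 2033) (Step.F (nat_lit 1373) (Step.D (nat_lit 628) Step.done))) (Scr.cons (nat_lit 1) (nat_lit 0) (Step.B (nat_lit 1365) (Step.B (nat_lit 1374) (Step.D (nat_lit 1727) Step.done))) (Scr.cons (nat_lit 1) (nat_lit 0) (Step.D (nat_lit 1727) (Step.F (nat_lit 1375) (Step.L Step.done))) (Scr.cons (nat_lit 2) (nat_lit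 0) (Step.D (nat_lit 628) (Step.B (nat_lit 1376) (Step.D (nat_lit 1070) Step.done))) (Scr.cons (nat_lit 2) (nat_lit 0) (Step.D (nat_lit 1070) (Step.F (nat_lit 1377) Step.done)) (Scr.cons (nat_lit 13) (nat_lit 0) (Step.U (nat_lit 916) (Step.L (Step.L (Step.L (Step.L (Step.L (Step.L (Step.L (Step.L (Step.D (nat_lit 27) (Step.D (nat_lit 192) (Step.D (nat_lit 812) (Step.D (nat_lit 1942) Step.done))))))))))))) (Scr.cons (nat_lit 8) (nat_lit 1) (Step.B (nat_lit 1379) (Step.U (nat_lit 1942) (Step.D (nat_lit 1943) Step.done))) (Scr.cons (nat_lit 9) (nat_lit 0) (Step.U (nat_lit 191) (Step.D (nat_lit 192) Step.done)) (Scr.cons (nat_lit 8) (nat_lit 2) (Step.U (nat_lit 810) (Step.B (nat_lit 1381) (Step.D (nat_lit 811) Step.done))) (Scr.cons (nat_lit 9) (nat_lit 0) (Step.U (nat_lit 2520) (Step.D (nat_lit 2521) Step.done)) (Scr.cons (nat_lit 8) (nat_lit 1) (Step.U (nat_lit 1590) (Step.D (nat_lit 1589) (Step.D (nat_lit 2520) Step.done))) (Scr.cons (nat_lit 8) (nat_lit 3) (Step.U (nat_lit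 1591) (Step.D (nat_lit 1588) (Step.D (nat_lit 2518) Step.done))) (Scr.cons (nat_lit 11) (nat_lit 5) (Step.U (nat_lit 1239) (Step.L (Step.L (Step.L (Step.L (Step.L (Step.D (nat_lit 380) (Step.D (nat_lit 1270) Step.done)))))))) (Scr.cons (nat_lit 9) (nat_lit 0) (Step.L (Step.D (nat_lit 121) Step.done)) (Scr.cons (nat_lit 12) (nat_lit 12) (Step.U (nat_lit 547) (Step.U (nat_lit 123) (Step.B (nat_lit 1387) (Step.B (nat_lit 223) (Step.F (nat_lit 225) (Step.F (nat_lit 221) (Step.U (nat_lit 364) (Step.L (Step.L (Step.L (Step.L (Step.L (Step.D (nat_lit 1274) Step.done))))))))))))) (Scr.cons (nat_lit 8) (nat_lit 3) (Step.U (nat_lit 548) (Step.D (nat_lit 547) (Step.D (nat_lit 1613) Step.done))) (Scr.cons (nat_lit 8) (nat_lit 2) (Step.U (nat_lit 123) (Step.B (nat_lit 1387) (Step.D (nat_lit 545) Step.done))) (Scr.cons (nat_lit 9) (nat_lit 0) (Step.F (nat_lit 1390) (Step.D (nat_lit 548) Step.done)) (Scr.cons (nat_lit 19) (nat_lit 1) (Step.U (nat_lit 1586) (Step.B (nat_lit 1101) (Step.U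 (nat_lit 534) (Step.U (nat_lit 120) (Step.U (nat_lit 13) (Step.L (Step.L (Step.L (Step.L (Step.B (nat_lit 1387) (Step.D (nat_lit 545) (Step.B (nat_lit 1391) (Step.D (nat_lit 1614) Step.done))))))))))))) (Scr.cons (nat_lit 8) (nat_lit 3) (Step.F (nat_lit 1392) (Step.U (nat_lit 1586) (Step.D (nat_lit 1587) Step.done))) (Scr.cons (nat_lit 21) (nat_lit 3) (Step.U (nat_lit 2295) (Step.U (nat_lit 1270) (Step.U (nat_lit 380) (Step.L (Step.L (Step.L (Step.D (nat_lit 1274) (Step.F (nat_lit 1388) (Step.D (nat_lit 1613) (Step.F (nat_lit 1389) (Step.D (nat_lit 1614) (Step.B (nat_lit 1393) (Step.D (nat_lit 2517) Step.done))))))))))))) (Scr.cons (nat_lit 9) (nat_lit 0) (Step.F (nat_lit 1101) (Step.D (nat_lit 1587) Step.done)) (Scr.cons (nat_lit 13) (nat_lit 0) (Step.U (nat_lit 2292) (Step.U (nat_lit 1267) (Step.U (nat_lit 378) (Step.F (nat_lit 218) (Step.L (Step.D (nat_lit 1239) (Step.B (nat_lit 1386) (Step.D (nat_lit 2295) (Step.B (nat_lit 1394) (Step.U (nat_lit 2517) (Step.F (nat_lit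 1395) (Step.D (nat_lit 1593) (Step.D (nat_lit 2522) Step.done))))))))))))) (Scr.cons (nat_lit 11) (nat_lit 4) (Step.B (nat_lit 1396) (Step.U (nat_lit 2522) (Step.U (nat_lit 1593) (Step.U (nat_lit 534) (Step.F (nat_lit 1099) (Step.D (nat_lit 533) (Step.D (nat_lit 1588) (Step.D (nat_lit 2518) Step.done)))))))) (Scr.cons (nat_lit 9) (nat_lit 0) (Step.U (nat_lit 1267) (Step.D (nat_lit 1268) Step.done)) (Scr.cons (nat_lit 8) (nat_lit 2) (Step.U (nat_lit 2292) (Step.B (nat_lit 1398) (Step.D (nat_lit 2293) Step.done))) (Scr.cons (nat_lit 3) (nat_lit 1) (Step.F (nat_lit 1324) (Step.F (nat_lit 1325) (Step.L Step.done))) (Scr.cons (nat_lit 1) (nat_lit 0) (Step.B (nat_lit 1323) (Step.B (nat_lit 1400) Step.done)) Scr.nil))))))))))))))))))))))))))))))))))))))))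
noncomputable def s35 : Scr := (Scr.cons (nat_lit 21) (nat_lit 4) (Step.B (nat_lit 1385) (Step.F (nat_lit 1397) (Step.B (nat_lit 1399) (Step.U (nat_lit 2293) (Step.B (nat_lit 1401) (Step.L (Step.L (Step.L (Step.L (Step.L (Step.L (Step.D (nat_lit 383) (Step.D (nat_lit 1281) (Step.D (nat_lit 2309) Step.done)))))))))))))) (Scr.cons (nat_lit 9) (nat_lit 0) (Step.U (nat_lit 1590) (Step.D (nat_lit 1591) Step.done)) (Scr.cons (nat_lit 3) (nat_lit 0) (Step.D (nat_lit 2309) (Step.F (nat_lit 1402) (Step.F (nat_lit 1403) Step.done))) (Scr.cons (nat_lit 0) (nat_lit 0) (Step.F (nat_lit 1384) (Step.F (nat_lit 1404) (Step.D (nat_lit 2308) Step.done))) (Scr.cons (nat_lit 3) (nat_lit 0) (Step.F (nat_lit 1383) (Step.B (nat_lit 1405) Step.done)) (Scr.cons (nat_lit 12) (nat_lit 13) (Step.F (nat_lit 1008) (Step.U (nat_lit 70) (Step.L (Step.L (Step.L (Step.L (Step.L (Step.L (Step.L (Step.L (Step.L (Step.D (nat_lit 27) (Step.D (nat_lit 190) Step.done))))))))))))) (Scr.cons (nat_lit 12) (nat_lit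 4) (Step.U (nat_lit 2521) (Step.U (nat_lit 1589) (Step.D (nat_lit 1588) (Step.D (nat_lit 2518) (Step.F (nat_lit 1397) (Step.U (nat_lit 2292) (Step.U (nat_lit 1267) (Step.U (nat_lit 378) (Step.B (nat_lit 1008) (Step.B (nat_lit 1407) (Step.U (nat_lit 190) (Step.D (nat_lit 191) (Step.D (nat_lit 810) (Step.D (nat_lit 1941) Step.done)))))))))))))) (Scr.cons (nat_lit 3) (nat_lit 1) (Step.F (nat_lit 1406) (Step.B (nat_lit 1408) Step.done)) (Scr.cons (nat_lit 11) (nat_lit 6) (Step.U (nat_lit 2039) (Step.B (nat_lit 1380) (Step.U (nat_lit 1943) (Step.U (nat_lit 812) (Step.D (nat_lit 811) (Step.F (nat_lit 1382) (Step.D (nat_lit 1941) (Step.F (nat_lit 1409) Step.done)))))))) (Scr.cons (nat_lit 8) (nat_lit 1) (Step.U (nat_lit 119) (Step.D (nat_lit 118) (Step.D (nat_lit 531) Step.done))) (Scr.cons (nat_lit 20) (nat_lit 4) (Step.U (nat_lit 2514) (Step.U (nat_lit 1583) (Step.U (nat_lit 530) (Step.D (nat_lit 531) (Step.F (nat_lit 1411) (Step.D (nat_lit 533) (Step.D (nat_lit 1589) (Step.D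 (nat_lit 2520) Step.done)))))))) (Scr.cons (nat_lit 2) (nat_lit 0) (Step.B (nat_lit 1412) (Step.B (nat_lit 1405) Step.done)) (Scr.cons (nat_lit 9) (nat_lit 0) (Step.U (nat_lit 690) (Step.D (nat_lit 691) Step.done)) (Scr.cons (nat_lit 8) (nat_lit 2) (Step.U (nat_lit 1812) (Step.B (nat_lit 1414) (Step.D (nat_lit 1813) Step.done))) (Scr.cons (nat_lit 21) (nat_lit 12) (Step.U (nat_lit 1810) (Step.U (nat_lit 689) (Step.U (nat_lit 164) (Step.L (Step.L (Step.L (Step.L (Step.L (Step.B (nat_lit 909) (Step.D (nat_lit 1805) (Step.B (nat_lit 908) (Step.U (nat_lit 2472) (Step.D (nat_lit 2471) Step.done))))))))))))) (Scr.cons (nat_lit 8) (nat_lit 1) (Step.F (nat_lit 1416) (Step.U (nat_lit 1810) (Step.D (nat_lit 1811) Step.done))) (Scr.cons (nat_lit 9) (nat_lit 0) (Step.U (nat_lit 1526) (Step.D (nat_lit 1527) Step.done)) (Scr.cons (nat_lit 8) (nat_lit 2) (Step.U (nat_lit 2471) (Step.B (nat_lit 1418) (Step.D (nat_lit 2473) Step.done))) (Scr.cons (nat_lit 8) (nat_lit 1) (Step.B (nat_lit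 827) (Step.F (nat_lit 829) (Step.D (nat_lit 2047) Step.done))) (Scr.cons (nat_lit 9) (nat_lit 0) (Step.U (nat_lit 2047) (Step.D (nat_lit 2048) Step.done)) (Scr.cons (nat_lit 8) (nat_lit 2) (Step.U (nat_lit 1050) (Step.B (nat_lit 1097) (Step.D (nat_lit 1051) Step.done))) (Scr.cons (nat_lit 20) (nat_lit 3) (Step.B (nat_lit 1421) (Step.F (nat_lit 1096) (Step.B (nat_lit 1422) (Step.U (nat_lit 1051) (Step.B (nat_lit 1100) (Step.B (nat_lit 1101) (Step.U (nat_lit 534) (Step.D (nat_lit 535) (Step.D (nat_lit 1595) Step.done))))))))) (Scr.cons (nat_lit 0) (nat_lit 0) (Step.B (nat_lit 1420) (Step.B (nat_lit 1423) Step.done)) (Scr.cons (nat_lit 21) (nat_lit 7) (Step.U (nat_lit 2468) (Step.D (nat_lit 2470) (Step.F (nat_lit 989) (Step.F (nat_lit 986) (Step.F (nat_lit 987) (Step.D (nat_lit 1574) (Step.B (nat_lit 1424) (Step.U (nat_lit 1595) (Step.U (nat_lit 535) (Step.U (nat_lit 120) (Step.D (nat_lit 118) (Step.D (nat_lit 530) (Step.D (nat_lit 1585) Step.done))))))))))))) (Scr.cons (nat_lit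 8) (nat_lit 2) (Step.U (nat_lit 1584) (Step.D (nat_lit 1585) (Step.F (nat_lit 1425) Step.done))) (Scr.cons (nat_lit 9) (nat_lit 0) (Step.F (nat_lit 1426) (Step.D (nat_lit 2516) Step.done)) (Scr.cons (nat_lit 8) (nat_lit 1) (Step.F (nat_lit 1427) (Step.U (nat_lit 2468) (Step.D (nat_lit 2469) Step.done))) (Scr.cons (nat_lit 19) (nat_lit 1) (Step.B (nat_lit 1415) (Step.U (nat_lit 1813) (Step.U (nat_lit 691) (Step.D (nat_lit 689) (Step.D (nat_lit 1811) (Step.F (nat_lit 1417) (Step.B (nat_lit 1419) (Step.U (nat_lit 2473) (Step.U (nat_lit 1527) (Step.D (nat_lit 1525) (Step.D (nat_lit 2469) (Step.F (nat_lit 1428) (Step.U (nat_lit 2516) (Step.D (nat_lit 2515) Step.done)))))))))))))) (Scr.cons (nat_lit 0) (nat_lit 0) (Step.D (nat_lit 2515) (Step.F (nat_lit 1429) Step.done)) (Scr.cons (nat_lit 3) (nat_lit 0) (Step.B (nat_lit 967) (Step.B (nat_lit 1062) (Step.L Step.done))) (Scr.cons (nat_lit 1) (nat_lit 0) (Step.U (nat_lit 1812) (Step.B (nat_lit 1081) (Step.D (nat_lit 971) (Step.B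 (nat_lit 1431) Step.done)))) (Scr.cons (nat_lit 0) (nat_lit 0) (Step.B (nat_lit 1430) (Step.B (nat_lit 1432) (Step.L Step.done))) (Scr.cons (nat_lit 1) (nat_lit 0) (Step.D (nat_lit 1584) (Step.B (nat_lit 1433) (Step.L Step.done))) (Scr.cons (nat_lit 0) (nat_lit 0) (Step.U (nat_lit 1583) (Step.B (nat_lit 1434) (Step.L Step.done))) (Scr.cons (nat_lit 3) (nat_lit 0) (Step.U (nat_lit 2514) (Step.B (nat_lit 1435) (Step.L Step.done))) (Scr.cons (nat_lit 2) (nat_lit 0) (Step.F (nat_lit 1413) (Step.B (nat_lit 1436) (Step.L Step.done))) (Scr.cons (nat_lit 1) (nat_lit 0) (Step.B (nat_lit 1410) (Step.B (nat_lit 1437) (Step.L Step.done))) (Scr.cons (nat_lit 2) (nat_lit 0) (Step.D (nat_lit 2039) (Step.B (nat_lit 1438) (Step.L Step.done))) (Scr.cons (nat_lit 1) (nat_lit 0) (Step.D (nat_lit 916) (Step.B (nat_lit 1439) (Step.D (nat_lit 462) Step.done))) (Scr.cons (nat_lit 1) (nat_lit 0) (Step.D (nat_lit 462) (Step.F (nat_lit 1440) Step.done)) Scr.nil))))))))))))))))))))))))))))))))))))))))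
noncomputable def s36 : Scr := (Scr.cons (nat_lit 22) (nat_lit 2) (Step.U (nat_lit 714) (Step.L (Step.L (Step.L (Step.L (Step.L (Step.L (Step.L (Step.L (Step.L (Step.L (Step.L (Step.L Step.done))))))))))))) (Scr.cons (nat_lit 18) (nat_lit 0) (Step.F (nat_lit 1442) (Step.D (nat_lit 1842) Step.done)) (Scr.cons (nat_lit 9) (nat_lit 0) (Step.U (nat_lit 1826) (Step.D (nat_lit 1827) Step.done)) (Scr.cons (nat_lit 12) (nat_lit 2) (Step.U (nat_lit 714) (Step.L (Step.L (Step.L (Step.L (Step.L (Step.L (Step.L (Step.L (Step.L (Step.D (nat_lit 167) (Step.D (nat_lit 700) (Step.D (nat_lit 1826) Step.done))))))))))))) (Scr.cons (nat_lit 8) (nat_lit 1) (Step.F (nat_lit 1444) (Step.F (nat_lit 1445) (Step.D (nat_lit 1842) Step.done))) (Scr.cons (nat_lit 8) (nat_lit 1) (Step.U (nat_lit 701) (Step.D (nat_lit 700) (Step.D (nat_lit 1826) Step.done))) (Scr.cons (nat_lit 8) (nat_lit 2) (Step.L (Step.L (Step.D (nat_lit 702) Step.done))) (Scr.cons (nat_lit 8) (nat_lit 2) (Step.U (nat_lit 1558)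 (Step.L (Step.D (nat_lit 1828) Step.done))) (Scr.cons (nat_lit 10) (nat_lit 0) (Step.U (nat_lit 1914) (Step.B (nat_lit 1443) (Step.F (nat_lit 1446) (Step.F (nat_lit 1444) (Step.F (nat_lit 1447) (Step.U (nat_lit 701) (Step.U (nat_lit 167) (Step.L (Step.D (nat_lit 702) (Step.F (nat_lit 1448) (Step.D (nat_lit 1828) (Step.F (nat_lit 1449) (Step.D (nat_lit 2498) Step.done))))))))))))) (Scr.cons (nat_lit 8) (nat_lit 3) (Step.B (nat_lit 1450) (Step.U (nat_lit 2498) (Step.D (nat_lit 2499) Step.done))) (Scr.cons (nat_lit 8) (nat_lit 3) (Step.U (nat_lit 57) (Step.L (Step.D (nat_lit 317) Step.done))) (Scr.cons (nat_lit 8) (nat_lit 2) (Step.U (nat_lit 1122) (Step.B (nat_lit 452) (Step.D (nat_lit 1123) Step.done))) (Scr.cons (nat_lit 20) (nat_lit 3) (Step.U (nat_lit 2184) (Step.B (nat_lit 1453) (Step.U (nat_lit 1123) (Step.B (nat_lit 405) (Step.L (Step.L (Step.D (nat_lit 1136) (Step.D (nat_lit 2197) Step.done)))))))) (Scr.cons (nat_lit 13) (nat_lit 1) (Step.U (nat_lit 1204) (Step.U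 (nat_lit 349) (Step.L (Step.L (Step.L (Step.L (Step.L (Step.L (Step.L (Step.L (Step.D (nat_lit 1136) (Step.D (nat_lit 2197) (Step.F (nat_lit 1454) Step.done))))))))))))) (Scr.cons (nat_lit 12) (nat_lit 0) (Step.U (nat_lit 2196) (Step.U (nat_lit 1132) (Step.U (nat_lit 321) (Step.B (nat_lit 1048) (Step.B (nat_lit 1452) (Step.D (nat_lit 1123) (Step.F (nat_lit 1453) (Step.D (nat_lit 2184) (Step.F (nat_lit 1455) (Step.U (nat_lit 1204) (Step.U (nat_lit 349) (Step.L (Step.D (nat_lit 1201) Step.done))))))))))))) (Scr.cons (nat_lit 8) (nat_lit 2) (Step.F (nat_lit 1456) (Step.U (nat_lit 2196) (Step.D (nat_lit 2195) Step.done))) (Scr.cons (nat_lit 9) (nat_lit 0) (Step.F (nat_lit 1457) (Step.D (nat_lit 2261) Step.done)) (Scr.cons (nat_lit 1) (nat_lit 0) (Step.U (nat_lit 1132) (Step.B (nat_lit 1065) (Step.L Step.done))) (Scr.cons (nat_lit 0) (nat_lit 0) (Step.U (nat_lit 2195) (Step.B (nat_lit 1459) (Step.D (nat_lit 1828) Step.done))) (Scr.cons (nat_lit 9) (nat_lit 0) (Step.F (nat_lit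 1449) (Step.D (nat_lit 2499) Step.done)) (Scr.cons (nat_lit 3) (nat_lit 1) (Step.F (nat_lit 1458) (Step.B (nat_lit 1460) (Step.B (nat_lit 1461) Step.done))) (Scr.cons (nat_lit 8) (nat_lit 3) (Step.U (nat_lit 1203) (Step.D (nat_lit 1201) (Step.D (nat_lit 2261) Step.done))) (Scr.cons (nat_lit 1) (nat_lit 0) (Step.B (nat_lit 1451) (Step.F (nat_lit 1462) (Step.F (nat_lit 1463) Step.done))) (Scr.cons (nat_lit 9) (nat_lit 0) (Step.F (nat_lit 489) (Step.F (nat_lit 475) Step.done)) (Scr.cons (nat_lit 3) (nat_lit 1) (Step.F (nat_lit 1465) (Step.B (nat_lit 500) (Step.B (nat_lit 502) Step.done))) (Scr.cons (nat_lit 0) (nat_lit 0) (Step.D (nat_lit 2262) (Step.F (nat_lit 1466) Step.done)) (Scr.cons (nat_lit 0) (nat_lit 0) (Step.D (nat_lit 1914) (Step.B (nat_lit 1464) (Step.B (nat_lit 1467) Step.done))) (Scr.cons (nat_lit 2) (nat_lit 0) (Step.D (nat_lit 1918) (Step.F (nat_lit 1468) (Step.L Step.done))) (Scr.cons (nat_lit 1) (nat_lit 0) (Step.D (nat_lit 785) (Step.B (nat_lit 1469) (Step.L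 Step.done))) (Scr.cons (nat_lit 0) (nat_lit 0) (Step.D (nat_lit 184) (Step.B (nat_lit 1470) Step.done)) (Scr.cons (nat_lit 8) (nat_lit 3) (Step.L (Step.L (Step.D (nat_lit 1447) Step.done))) (Scr.cons (nat_lit 3) (nat_lit 1) (Step.D (nat_lit 2520) (Step.B (nat_lit 1405) Step.done)) (Scr.cons (nat_lit 11) (nat_lit 2) (Step.U (nat_lit 2307) (Step.L (Step.L (Step.D (nat_lit 383) (Step.D (nat_lit 1281) (Step.D (nat_lit 2308) (Step.F (nat_lit 1473) (Step.D (nat_lit 2519) Step.done)))))))) (Scr.cons (nat_lit 0) (nat_lit 0) (Step.F (nat_lit 1424) (Step.B (nat_lit 1366) (Step.F (nat_lit 525) (Step.B (nat_lit 1296) Step.done)))) (Scr.cons (nat_lit 1) (nat_lit 0) (Step.D (nat_lit 1595) (Step.B (nat_lit 1475) (Step.L Step.done))) (Scr.cons (nat_lit 2) (nat_lit 0) (Step.D (nat_lit 535) (Step.B (nat_lit 1476) (Step.L Step.done))) (Scr.cons (nat_lit 3) (nat_lit 0) (Step.B (nat_lit 1099) (Step.B (nat_lit 1477) (Step.L Step.done))) (Scr.cons (nat_lit 2) (nat_lit 0) (Step.U (nat_lit 533)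 (Step.B (nat_lit 1478) (Step.D (nat_lit 45) Step.done))) (Scr.cons (nat_lit 1) (nat_lit 0) (Step.U (nat_lit 1589) (Step.B (nat_lit 1479) (Step.F (nat_lit 86) Step.done))) (Scr.cons (nat_lit 2) (nat_lit 0) (Step.U (nat_lit 2519) (Step.B (nat_lit 1480) (Step.L Step.done))) Scr.nil))))))))))))))))))))))))))))))))))))))))
noncomputable def s37 : Scr := (Scr.cons (nat_lit 0) (nat_lit 0) (Step.B (nat_lit 1474) (Step.B (nat_lit 1481) (Step.L Step.done))) (Scr.cons (nat_lit 3) (nat_lit 0) (Step.D (nat_lit 2307) (Step.B (nat_lit 1482) (Step.D (nat_lit 1447) Step.done))) (Scr.cons (nat_lit 1) (nat_lit 0) (Step.B (nat_lit 1472) (Step.F (nat_lit 1483) Step.done)) (Scr.cons (nat_lit 9) (nat_lit 0) (Step.U (nat_lit 498) (Step.L Step.done)) (Scr.cons (nat_lit 9) (nat_lit 0) (Step.U (nat_lit 1466) (Step.D (nat_lit 1467) Step.done)) (Scr.cons (nat_lit 8) (nat_lit 2) (Step.U (nat_lit 243) (Step.L (Step.D (nat_lit 244) Step.done))) (Scr.cons (nat_lit 9) (nat_lit 0) (Step.F (nat_lit 1487)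 (Step.D (nat_lit 952) Step.done)) (Scr.cons (nat_lit 21) (nat_lit 0) (Step.U (nat_lit 473) (Step.U (nat_lit 102) (Step.L (Step.L (Step.L (Step.L (Step.L (Step.L (Step.L (Step.L (Step.L (Step.D (nat_lit 163) (Step.F (nat_lit 51) Step.done))))))))))))) (Scr.cons (nat_lit 10) (nat_lit 1) (Step.F (nat_lit 1488) (Step.U (nat_lit 244) (Step.L (Step.L (Step.L (Step.L (Step.L (Step.L (Step.L (Step.D (nat_lit 162) (Step.B (nat_lit 50) (Step.F (nat_lit 1489) (Step.D (nat_lit 1467) Step.done))))))))))))) (Scr.cons (nat_lit 8) (nat_lit 0) (Step.B (nat_lit 1486) (Step.F (nat_lit 1490) (Step.F (nat_lit 1488) (Step.D (nat_lit 953) Step.done)))) (Scr.cons (nat_lit 3) (nat_lit 1) (Step.D (nat_lit 1466) (Step.B (nat_lit 1491) Step.done)) (Scr.cons (nat_lit 13) (nat_lit 5) (Step.U (nat_lit 1514) (Step.B (nat_lit 1485) (Step.L (Step.L (Step.L (Step.L (Step.D (nat_lit 102) (Step.D (nat_lit 473) (Step.B (nat_lit 1492) (Step.U (nat_lit 953) (Step.F (nat_lit 1487) (Step.D (nat_lit 951) (Step.D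 (nat_lit 2061) Step.done))))))))))))) (Scr.cons (nat_lit 8) (nat_lit 3) (Step.U (nat_lit 924) (Step.D (nat_lit 922) (Step.D (nat_lit 2043) Step.done))) (Scr.cons (nat_lit 12) (nat_lit 8) (Step.U (nat_lit 1978) (Step.U (nat_lit 850) (Step.U (nat_lit 204) (Step.L (Step.L (Step.L (Step.L (Step.L (Step.L (Step.L (Step.D (nat_lit 236) (Step.D (nat_lit 922) (Step.D (nat_lit 2043) Step.done))))))))))))) (Scr.cons (nat_lit 20) (nat_lit 3) (Step.U (nat_lit 204) (Step.L (Step.L (Step.L (Step.L (Step.L (Step.L (Step.D (nat_lit 354) Step.done)))))))) (Scr.cons (nat_lit 18) (nat_lit 0) (Step.F (nat_lit 1496) (Step.D (nat_lit 850) Step.done)) (Scr.cons (nat_lit 8) (nat_lit 0) (Step.U (nat_lit 1216) (Step.B (nat_lit 1497) (Step.D (nat_lit 1978) Step.done))) (Scr.cons (nat_lit 22) (nat_lit 4) (Step.U (nat_lit 1796) (Step.U (nat_lit 677) (Step.L (Step.L (Step.L (Step.L (Step.L (Step.D (nat_lit 236) (Step.D (nat_lit 924) (Step.B (nat_lit 1494) (Step.F (nat_lit 1495) (Step.F (nat_lit 1498)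 (Step.D (nat_lit 2273) Step.done))))))))))))) (Scr.cons (nat_lit 2) (nat_lit 0) (Step.D (nat_lit 1935) (Step.B (nat_lit 893) (Step.L Step.done))) (Scr.cons (nat_lit 1) (nat_lit 0) (Step.D (nat_lit 796) (Step.B (nat_lit 1500) (Step.L Step.done))) (Scr.cons (nat_lit 3) (nat_lit 1) (Step.F (nat_lit 845) (Step.B (nat_lit 1501) (Step.D (nat_lit 677) Step.done))) (Scr.cons (nat_lit 1) (nat_lit 0) (Step.U (nat_lit 1796) (Step.F (nat_lit 1502) (Step.B (nat_lit 1107) (Step.B (nat_lit 1108) Step.done)))) (Scr.cons (nat_lit 3) (nat_lit 0) (Step.F (nat_lit 1499) (Step.B (nat_lit 1503) (Step.L Step.done))) (Scr.cons (nat_lit 2) (nat_lit 0) (Step.D (nat_lit 2273) (Step.B (nat_lit 1504) (Step.L Step.done))) (Scr.cons (nat_lit 0) (nat_lit 0) (Step.D (nat_lit 1216) (Step.B (nat_lit 1505) (Step.L Step.done))) (Scr.cons (nat_lit 1) (nat_lit 0) (Step.D (nat_lit 354) (Step.B (nat_lit 1506) (Step.D (nat_lit 243) Step.done))) (Scr.cons (nat_lit 2) (nat_lit 0) (Step.U (nat_lit 951) (Step.F (nat_lit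 1507) (Step.L Step.done))) (Scr.cons (nat_lit 3) (nat_lit 0) (Step.U (nat_lit 2061) (Step.B (nat_lit 1508) (Step.L Step.done))) (Scr.cons (nat_lit 2) (nat_lit 0) (Step.B (nat_lit 1493) (Step.B (nat_lit 1509) (Step.L Step.done))) (Scr.cons (nat_lit 1) (nat_lit 0) (Step.D (nat_lit 1514) (Step.B (nat_lit 1510) (Step.L Step.done))) (Scr.cons (nat_lit 8) (nat_lit 2) (Step.U (nat_lit 1166) (Step.B (nat_lit 146) (Step.D (nat_lit 1167) Step.done))) (Scr.cons (nat_lit 1) (nat_lit 0) (Step.U (nat_lit 1166) (Step.B (nat_lit 1017) (Step.L Step.done))) (Scr.cons (nat_lit 3) (nat_lit 1) (Step.F (nat_lit 1512) (Step.B (nat_lit 1513) (Step.D (nat_lit 1211) Step.done))) (Scr.cons (nat_lit 3) (nat_lit 1) (Step.D (nat_lit 1211) (Step.F (nat_lit 1514) Step.done)) (Scr.cons (nat_lit 3) (nat_lit 1) (Step.F (nat_lit 1485) (Step.B (nat_lit 1511) (Step.B (nat_lit 1515) Step.done))) (Scr.cons (nat_lit 0) (nat_lit 0) (Step.D (nat_lit 1167) (Step.F (nat_lit 1516) Step.done)) (Scr.cons (nat_lit 0)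 (nat_lit 0) (Step.U (nat_lit 534) (Step.B (nat_lit 1477) (Step.L Step.done))) (Scr.cons (nat_lit 3) (nat_lit 1) (Step.F (nat_lit 1395) (Step.B (nat_lit 1518) (Step.L Step.done))) (Scr.cons (nat_lit 2) (nat_lit 0) (Step.U (nat_lit 2517) (Step.B (nat_lit 1519) (Step.L Step.done))) (Scr.cons (nat_lit 3) (nat_lit 1) (Step.B (nat_lit 1394) (Step.B (nat_lit 1520) (Step.L Step.done))) Scr.nil))))))))))))))))))))))))))))))))))))))))
noncomputable def s38 : Scr := (Scr.cons (nat_lit 8) (nat_lit 1) (Step.L (Step.L (Step.D (nat_lit 453) Step.done))) (Scr.cons (nat_lit 20) (nat_lit 2) (Step.L (Step.L (Step.L (Step.L (Step.L (Step.L (Step.B (nat_lit 1522) (Step.D (nat_lit 1411) Step.done)))))))) (Scr.cons (nat_lit 1) (nat_lit 0) (Step.D (nat_lit 2295) (Step.B (nat_lit 1521) (Step.B (nat_lit 1523) Step.done))) (Scr.cons (nat_lit 2) (nat_lit 0) (Step.D (nat_lit 1411) (Step.F (nat_lit 1524) (Step.U (nat_lit 1270) Step.done))) (Scr.cons (nat_lit 9) (nat_lit 0) (Step.U (nat_lit 379) (Step.D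 (nat_lit 380) Step.done)) (Scr.cons (nat_lit 3) (nat_lit 0) (Step.D (nat_lit 453) (Step.B (nat_lit 1525) (Step.F (nat_lit 1526) Step.done))) (Scr.cons (nat_lit 3) (nat_lit 1) (Step.D (nat_lit 379) (Step.F (nat_lit 1527) Step.done)) (Scr.cons (nat_lit 8) (nat_lit 3) (Step.L (Step.D (nat_lit 1006) (Step.D (nat_lit 2106) Step.done))) (Scr.cons (nat_lit 9) (nat_lit 0) (Step.U (nat_lit 56) (Step.L Step.done)) (Scr.cons (nat_lit 8) (nat_lit 2) (Step.U (nat_lit 315) (Step.B (nat_lit 1530) (Step.L Step.done))) (Scr.cons (nat_lit 10) (nat_lit 0) (Step.L (Step.L (Step.L (Step.L (Step.L (Step.L (Step.L (Step.L (Step.L (Step.L (Step.L (Step.F (nat_lit 1531) (Step.D (nat_lit 1115) Step.done))))))))))))) (Scr.cons (nat_lit 8) (nat_lit 3) (Step.B (nat_lit 1532) (Step.U (nat_lit 1115) (Step.D (nat_lit 1116) Step.done))) (Scr.cons (nat_lit 9) (nat_lit 0) (Step.U (nat_lit 1007) (Step.L Step.done)) (Scr.cons (nat_lit 8) (nat_lit 1) (Step.U (nat_lit 265) (Step.L (Step.D (nat_lit 1007) Step.done)))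 (Scr.cons (nat_lit 2) (nat_lit 0) (Step.D (nat_lit 1010) (Step.F (nat_lit 1227) (Step.L Step.done))) (Scr.cons (nat_lit 0) (nat_lit 0) (Step.F (nat_lit 1535) (Step.B (nat_lit 1536) (Step.L Step.done))) (Scr.cons (nat_lit 9) (nat_lit 0) (Step.F (nat_lit 1531) (Step.D (nat_lit 1116) Step.done)) (Scr.cons (nat_lit 3) (nat_lit 1) (Step.F (nat_lit 1534) (Step.B (nat_lit 1537) (Step.B (nat_lit 1538) Step.done))) (Scr.cons (nat_lit 1) (nat_lit 0) (Step.B (nat_lit 1533) (Step.F (nat_lit 1539) (Step.B (nat_lit 1529) Step.done))) (Scr.cons (nat_lit 1) (nat_lit 0) (Step.B (nat_lit 1529) (Step.F (nat_lit 1540) Step.done)) (Scr.cons (nat_lit 8) (nat_lit 1) (Step.U (nat_lit 955) (Step.D (nat_lit 954) (Step.D (nat_lit 2062) Step.done))) (Scr.cons (nat_lit 13) (nat_lit 1) (Step.U (nat_lit 1028) (Step.U (nat_lit 276) (Step.U (nat_lit 48) (Step.L (Step.L (Step.L (Step.L (Step.L (Step.L (Step.L (Step.D (nat_lit 245) (Step.D (nat_lit 954) (Step.D (nat_lit 2062) Step.done))))))))))))) (Scr.cons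 (nat_lit 21) (nat_lit 6) (Step.U (nat_lit 1024) (Step.U (nat_lit 275) (Step.U (nat_lit 48) (Step.L (Step.L (Step.L (Step.L (Step.L (Step.L (Step.L (Step.L (Step.D (nat_lit 977) (Step.D (nat_lit 2082) Step.done))))))))))))) (Scr.cons (nat_lit 8) (nat_lit 3) (Step.F (nat_lit 1544) (Step.U (nat_lit 1024) (Step.D (nat_lit 1026) Step.done))) (Scr.cons (nat_lit 21) (nat_lit 0) (Step.U (nat_lit 2059) (Step.U (nat_lit 949) (Step.L (Step.L (Step.D (nat_lit 245) (Step.D (nat_lit 955) (Step.B (nat_lit 1542) (Step.F (nat_lit 1543) (Step.U (nat_lit 1028) (Step.U (nat_lit 276) (Step.D (nat_lit 275) (Step.D (nat_lit 1026) (Step.F (nat_lit 1545) Step.done))))))))))))) (Scr.cons (nat_lit 12) (nat_lit 10) (Step.U (nat_lit 395) (Step.L (Step.L (Step.L (Step.L (Step.L (Step.L (Step.L (Step.L (Step.L (Step.L (Step.D (nat_lit 204) (Step.D (nat_lit 849) Step.done))))))))))))) (Scr.cons (nat_lit 3) (nat_lit 1) (Step.B (nat_lit 1496) (Step.B (nat_lit 1506) (Step.L Step.done))) (Scr.cons (nat_lit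 1) (nat_lit 0) (Step.U (nat_lit 849) (Step.B (nat_lit 1548) (Step.L Step.done))) (Scr.cons (nat_lit 3) (nat_lit 0) (Step.B (nat_lit 1547) (Step.B (nat_lit 1549) (Step.L Step.done))) (Scr.cons (nat_lit 2) (nat_lit 0) (Step.D (nat_lit 395) (Step.B (nat_lit 1550) (Step.D (nat_lit 949) Step.done))) (Scr.cons (nat_lit 1) (nat_lit 0) (Step.U (nat_lit 2059) (Step.F (nat_lit 1551) (Step.L Step.done))) (Scr.cons (nat_lit 0) (nat_lit 0) (Step.F (nat_lit 1546) (Step.B (nat_lit 1552) (Step.L Step.done))) (Scr.cons (nat_lit 2) (nat_lit 0) (Step.D (nat_lit 2082) (Step.B (nat_lit 1553) (Step.L Step.done))) (Scr.cons (nat_lit 1) (nat_lit 0) (Step.D (nat_lit 977) (Step.B (nat_lit 1554) (Step.D (nat_lit 1297) Step.done))) (Scr.cons (nat_lit 1) (nat_lit 0) (Step.D (nat_lit 1297) (Step.F (nat_lit 1555) Step.done)) (Scr.cons (nat_lit 3) (nat_lit 1) (Step.F (nat_lit 477) (Step.B (nat_lit 1469) (Step.L Step.done))) (Scr.cons (nat_lit 1) (nat_lit 0) (Step.F (nat_lit 485) (Step.B (nat_lit 1557)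 (Step.L Step.done))) (Scr.cons (nat_lit 0) (nat_lit 0) (Step.B (nat_lit 484) (Step.B (nat_lit 1558) (Step.L Step.done))) (Scr.cons (nat_lit 1) (nat_lit 0) (Step.D (nat_lit 832) (Step.B (nat_lit 1559) (Step.D (nat_lit 1911) Step.done))) (Scr.cons (nat_lit 1) (nat_lit 0) (Step.D (nat_lit 1911) (Step.F (nat_lit 1560) Step.done)) Scr.nil))))))))))))))))))))))))))))))))))))))))
noncomputable def s39 : Scr := (Scr.cons (nat_lit 3) (nat_lit 1) (Step.F (nat_lit 476) (Step.B (nat_lit 1470) (Step.L Step.done))) (Scr.cons (nat_lit 2) (nat_lit 0) (Step.U (nat_lit 788) (Step.B (nat_lit 1562) (Step.L Step.done))) (Scr.cons (nat_lit 3) (nat_lit 1) (Step.U (nat_lit 1920) (Step.B (nat_lit 1563) Step.done)) (Scr.cons (nat_lit 9) (nat_lit 0) (Step.U (nat_lit 593) (Step.D (nat_lit 594) Step.done)) (Scr.cons (nat_lit 18) (nat_lit 0) (Step.F (nat_lit 558) (Step.D (nat_lit 200) Step.done)) (Scr.cons (nat_lit 8) (nat_lit 0) (Step.U (nat_lit 570) (Step.B (nat_lit 1566) (Step.D (nat_lit 841) Step.done)))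 (Scr.cons (nat_lit 18) (nat_lit 0) (Step.F (nat_lit 1567) (Step.D (nat_lit 1649) Step.done)) (Scr.cons (nat_lit 8) (nat_lit 1) (Step.L (Step.L (Step.D (nat_lit 200) Step.done))) (Scr.cons (nat_lit 11) (nat_lit 1) (Step.F (nat_lit 1569) (Step.L (Step.L (Step.L (Step.L (Step.L (Step.L (Step.L Step.done)))))))) (Scr.cons (nat_lit 21) (nat_lit 2) (Step.F (nat_lit 1568) (Step.U (nat_lit 841) (Step.B (nat_lit 1570) (Step.L (Step.L (Step.L (Step.D (nat_lit 231) (Step.D (nat_lit 905) (Step.F (nat_lit 1185) (Step.F (nat_lit 1180) (Step.U (nat_lit 307) (Step.L (Step.D (nat_lit 1099) Step.done))))))))))))) (Scr.cons (nat_lit 22) (nat_lit 2) (Step.F (nat_lit 1571) (Step.F (nat_lit 1568) (Step.U (nat_lit 841) (Step.U (nat_lit 200) (Step.L (Step.L (Step.L (Step.L (Step.L (Step.L (Step.L (Step.L (Step.D (nat_lit 1954) Step.done))))))))))))) (Scr.cons (nat_lit 8) (nat_lit 2) (Step.U (nat_lit 1099) (Step.L (Step.D (nat_lit 1100) Step.done))) (Scr.cons (nat_lit 18) (nat_lit 0) (Step.F (nat_lit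 1572) (Step.B (nat_lit 1573) Step.done)) (Scr.cons (nat_lit 9) (nat_lit 0) (Step.U (nat_lit 960) (Step.D (nat_lit 961) Step.done)) (Scr.cons (nat_lit 8) (nat_lit 2) (Step.U (nat_lit 2066) (Step.B (nat_lit 1575) (Step.D (nat_lit 2067) Step.done))) (Scr.cons (nat_lit 10) (nat_lit 1) (Step.B (nat_lit 1574) (Step.U (nat_lit 1100) (Step.L (Step.L (Step.L (Step.L (Step.L (Step.L (Step.L (Step.L (Step.D (nat_lit 961) (Step.D (nat_lit 2067) (Step.F (nat_lit 1576) Step.done))))))))))))) (Scr.cons (nat_lit 12) (nat_lit 8) (Step.U (nat_lit 1916) (Step.U (nat_lit 784) (Step.U (nat_lit 183) (Step.L (Step.L (Step.L (Step.L (Step.L (Step.L (Step.L (Step.D (nat_lit 960) (Step.D (nat_lit 2066) (Step.F (nat_lit 1577) (Step.B (nat_lit 1574) Step.done)))))))))))))) (Scr.cons (nat_lit 2) (nat_lit 0) (Step.D (nat_lit 1916) (Step.B (nat_lit 1578) Step.done)) (Scr.cons (nat_lit 3) (nat_lit 0) (Step.D (nat_lit 568) (Step.B (nat_lit 1294) (Step.L Step.done))) (Scr.cons (nat_lit 0) (nat_lit 0) (Step.D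 (nat_lit 128) (Step.B (nat_lit 1580) (Step.L Step.done))) (Scr.cons (nat_lit 2) (nat_lit 0) (Step.U (nat_lit 129) (Step.B (nat_lit 1581) (Step.L Step.done))) (Scr.cons (nat_lit 0) (nat_lit 0) (Step.U (nat_lit 570) (Step.B (nat_lit 1582) (Step.L Step.done))) (Scr.cons (nat_lit 3) (nat_lit 1) (Step.U (nat_lit 1649) (Step.B (nat_lit 1583) (Step.D (nat_lit 265) Step.done))) (Scr.cons (nat_lit 2) (nat_lit 0) (Step.F (nat_lit 1571) (Step.B (nat_lit 1584) (Step.D (nat_lit 1010) Step.done))) (Scr.cons (nat_lit 3) (nat_lit 1) (Step.F (nat_lit 1573) (Step.B (nat_lit 1585) (Step.D (nat_lit 2109) Step.done))) (Scr.cons (nat_lit 3) (nat_lit 1) (Step.D (nat_lit 2109) (Step.F (nat_lit 1586) Step.done)) (Scr.cons (nat_lit 3) (nat_lit 1) (Step.F (nat_lit 1587) (Step.F (nat_lit 1227) (Step.L Step.done))) (Scr.cons (nat_lit 2) (nat_lit 0) (Step.B (nat_lit 1579) (Step.B (nat_lit 1588) (Step.L Step.done))) (Scr.cons (nat_lit 8) (nat_lit 3) (Step.L (Step.L (Step.D (nat_lit 594) Step.done)))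 (Scr.cons (nat_lit 1) (nat_lit 0) (Step.D (nat_lit 784) (Step.B (nat_lit 1589) (Step.B (nat_lit 1590) Step.done))) (Scr.cons (nat_lit 3) (nat_lit 0) (Step.B (nat_lit 1565) (Step.F (nat_lit 1591) (Step.U (nat_lit 183) Step.done))) (Scr.cons (nat_lit 3) (nat_lit 0) (Step.D (nat_lit 593) (Step.B (nat_lit 1592) (Step.F (nat_lit 1564) Step.done))) (Scr.cons (nat_lit 3) (nat_lit 0) (Step.F (nat_lit 1564) (Step.F (nat_lit 1593) Step.done)) (Scr.cons (nat_lit 12) (nat_lit 5) (Step.F (nat_lit 1522) (Step.L (Step.L (Step.L (Step.L (Step.L (Step.L (Step.L (Step.L (Step.L (Step.L (Step.D (nat_lit 385) (Step.D (nat_lit 1284) Step.done))))))))))))) (Scr.cons (nat_lit 8) (nat_lit 3) (Step.U (nat_lit 71) (Step.L (Step.D (nat_lit 380) Step.done))) (Scr.cons (nat_lit 1) (nat_lit 0) (Step.F (nat_lit 1595) (Step.B (nat_lit 1525) (Step.F (nat_lit 1596) Step.done))) (Scr.cons (nat_lit 3) (nat_lit 0) (Step.D (nat_lit 1284) (Step.B (nat_lit 1597) (Step.F (nat_lit 167) Step.done))) (Scr.cons (nat_lit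 2) (nat_lit 0) (Step.D (nat_lit 385) (Step.B (nat_lit 1598) (Step.D (nat_lit 381) Step.done))) (Scr.cons (nat_lit 2) (nat_lit 0) (Step.D (nat_lit 381) (Step.F (nat_lit 1599) Step.done)) (Scr.cons (nat_lit 9) (nat_lit 0) (Step.F (nat_lit 504) (Step.D (nat_lit 2249) Step.done)) Scr.nil))))))))))))))))))))))))))))))))))))))))
noncomputable def s40 : Scr := (Scr.cons (nat_lit 8) (nat_lit 3) (Step.F (nat_lit 505) (Step.U (nat_lit 2247) (Step.D (nat_lit 2249) Step.done))) (Scr.cons (nat_lit 1) (nat_lit 0) (Step.F (nat_lit 1602) (Step.F (nat_lit 1466) Step.done)) (Scr.cons (nat_lit 1) (nat_lit 0) (Step.B (nat_lit 1603) (Step.F (nat_lit 1468) (Step.L Step.done))) (Scr.cons (nat_lit 3) (nat_lit 0) (Step.B (nat_lit 1601) (Step.B (nat_lit 1604) (Step.L Step.done))) (Scr.cons (nat_lit 0) (nat_lit 0) (Step.D (nat_lit 1194) (Step.B (nat_lit 1605) (Step.D (nat_lit 456) Step.done))) (Scr.cons (nat_lit 0) (nat_lit 0) (Step.D (nat_lit 456) (Step.F (nat_lit 1606) Step.done)) (Scr.cons (nat_lit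 8) (nat_lit 2) (Step.U (nat_lit 1514) (Step.B (nat_lit 1485) (Step.D (nat_lit 1515) Step.done))) (Scr.cons (nat_lit 21) (nat_lit 4) (Step.F (nat_lit 1493) (Step.B (nat_lit 1608) (Step.U (nat_lit 1515) (Step.L (Step.L (Step.L (Step.L (Step.L (Step.L (Step.D (nat_lit 104) (Step.D (nat_lit 484) (Step.D (nat_lit 1488) (Step.D (nat_lit 2440) Step.done))))))))))))) (Scr.cons (nat_lit 8) (nat_lit 2) (Step.F (nat_lit 1609) (Step.U (nat_lit 2061) (Step.D (nat_lit 2060) Step.done))) (Scr.cons (nat_lit 9) (nat_lit 0) (Step.F (nat_lit 1610) (Step.U (nat_lit 2440) Step.done)) (Scr.cons (nat_lit 0) (nat_lit 0) (Step.U (nat_lit 2060) (Step.B (nat_lit 1508) (Step.L Step.done))) (Scr.cons (nat_lit 3) (nat_lit 1) (Step.F (nat_lit 1611) (Step.B (nat_lit 1612) (Step.L Step.done))) (Scr.cons (nat_lit 2) (nat_lit 0) (Step.D (nat_lit 1488) (Step.B (nat_lit 1613) (Step.L Step.done))) (Scr.cons (nat_lit 1) (nat_lit 0) (Step.D (nat_lit 484) (Step.B (nat_lit 1614) (Step.L Step.done))) (Scr.cons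 (nat_lit 0) (nat_lit 0) (Step.D (nat_lit 104) (Step.B (nat_lit 1615) (Step.D (nat_lit 64) Step.done))) (Scr.cons (nat_lit 3) (nat_lit 0) (Step.U (nat_lit 347) (Step.F (nat_lit 1616) (Step.L Step.done))) (Scr.cons (nat_lit 0) (nat_lit 0) (Step.B (nat_lit 1607) (Step.B (nat_lit 1617) (Step.D (nat_lit 488) Step.done))) (Scr.cons (nat_lit 0) (nat_lit 0) (Step.D (nat_lit 488) (Step.F (nat_lit 1618) Step.done)) (Scr.cons (nat_lit 8) (nat_lit 3) (Step.L (Step.L (Step.D (nat_lit 706) Step.done))) (Scr.cons (nat_lit 9) (nat_lit 0) (Step.U (nat_lit 705) (Step.D (nat_lit 706) Step.done)) (Scr.cons (nat_lit 9) (nat_lit 0) (Step.U (nat_lit 48) (Step.D (nat_lit 49) Step.done)) (Scr.cons (nat_lit 8) (nat_lit 2) (Step.U (nat_lit 275) (Step.B (nat_lit 1622) (Step.D (nat_lit 277) Step.done))) (Scr.cons (nat_lit 21) (nat_lit 7) (Step.U (nat_lit 2104) (Step.U (nat_lit 1004) (Step.U (nat_lit 264) (Step.L (Step.L (Step.L (Step.L (Step.L (Step.L (Step.D (nat_lit 48) (Step.D (nat_lit 275) (Step.D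 (nat_lit 1025) (Step.D (nat_lit 2125) Step.done))))))))))))) (Scr.cons (nat_lit 8) (nat_lit 0) (Step.B (nat_lit 1624) (Step.U (nat_lit 2125) (Step.D (nat_lit 2124) Step.done))) (Scr.cons (nat_lit 13) (nat_lit 4) (Step.F (nat_lit 1623) (Step.D (nat_lit 1025) (Step.D (nat_lit 2124) (Step.F (nat_lit 1625) (Step.U (nat_lit 2104) (Step.U (nat_lit 1004) (Step.U (nat_lit 264) (Step.L (Step.L (Step.L (Step.L (Step.B (nat_lit 1620) (Step.F (nat_lit 1621) (Step.D (nat_lit 1830) Step.done)))))))))))))) (Scr.cons (nat_lit 2) (nat_lit 0) (Step.D (nat_lit 1830) (Step.F (nat_lit 1626) (Step.D (nat_lit 1030) Step.done))) (Scr.cons (nat_lit 2) (nat_lit 0) (Step.D (nat_lit 1030) (Step.F (nat_lit 1627) Step.done)) (Scr.cons (nat_lit 11) (nat_lit 1) (Step.U (nat_lit 1831) (Step.F (nat_lit 1621) (Step.F (nat_lit 1628) (Step.F (nat_lit 1623) (Step.U (nat_lit 275) (Step.D (nat_lit 276) (Step.D (nat_lit 1027) (Step.D (nat_lit 2126) Step.done)))))))) (Scr.cons (nat_lit 8) (nat_lit 3) (Step.U (nat_lit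 1029) (Step.D (nat_lit 1027) (Step.D (nat_lit 2126) Step.done))) (Scr.cons (nat_lit 9) (nat_lit 0) (Step.U (nat_lit 2062) (Step.D (nat_lit 2063) Step.done)) (Scr.cons (nat_lit 9) (nat_lit 0) (Step.U (nat_lit 1028) (Step.D (nat_lit 1029) Step.done)) (Scr.cons (nat_lit 8) (nat_lit 1) (Step.F (nat_lit 1631) (Step.F (nat_lit 1543) (Step.B (nat_lit 1632) Step.done))) (Scr.cons (nat_lit 2) (nat_lit 0) (Step.D (nat_lit 204) (Step.B (nat_lit 1548) (Step.D (nat_lit 245) Step.done))) (Scr.cons (nat_lit 1) (nat_lit 0) (Step.U (nat_lit 954) (Step.F (nat_lit 1634) (Step.L Step.done))) (Scr.cons (nat_lit 3) (nat_lit 0) (Step.U (nat_lit 2063) (Step.B (nat_lit 1635) (Step.L Step.done))) (Scr.cons (nat_lit 0) (nat_lit 0) (Step.F (nat_lit 1633) (Step.B (nat_lit 1636) (Step.L Step.done))) (Scr.cons (nat_lit 1) (nat_lit 0) (Step.F (nat_lit 1630) (Step.B (nat_lit 1637) (Step.L Step.done))) (Scr.cons (nat_lit 2) (nat_lit 0) (Step.B (nat_lit 1629) (Step.B (nat_lit 1638) (Step.L Step.done)))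 (Scr.cons (nat_lit 0) (nat_lit 0) (Step.D (nat_lit 1831) (Step.B (nat_lit 1639) (Step.L Step.done))) (Scr.cons (nat_lit 1) (nat_lit 0) (Step.B (nat_lit 1620) (Step.B (nat_lit 1640) (Step.D (nat_lit 213) Step.done))) Scr.nil))))))))))))))))))))))))))))))))))))))))
noncomputable def s41 : Scr := (Scr.cons (nat_lit 1) (nat_lit 0) (Step.D (nat_lit 213) (Step.F (nat_lit 1641) Step.done)) (Scr.cons (nat_lit 9) (nat_lit 0) (Step.U (nat_lit 1856) (Step.D (nat_lit 1857) Step.done)) (Scr.cons (nat_lit 13) (nat_lit 3) (Step.U (nat_lit 1684) (Step.U (nat_lit 590) (Step.L (Step.L (Step.L (Step.L (Step.L (Step.L (Step.L (Step.D (nat_lit 23) (Step.D (nat_lit 170) (Step.D (nat_lit 712) (Step.D (nat_lit 1837) Step.done))))))))))))) (Scr.cons (nat_lit 8) (nat_lit 1) (Step.L (Step.D (nat_lit 23) (Step.D (nat_lit 170) Step.done))) (Scr.cons (nat_lit 12) (nat_lit 2) (Step.B (nat_lit 1644) (Step.U (nat_lit 1837) (Step.U (nat_lit 712) (Step.F (nat_lit 1645) (Step.L (Step.L (Step.L (Step.L (Step.L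 (Step.L (Step.L (Step.D (nat_lit 730) (Step.D (nat_lit 1856) Step.done))))))))))))) (Scr.cons (nat_lit 9) (nat_lit 0) (Step.U (nat_lit 1684) (Step.D (nat_lit 1685) Step.done)) (Scr.cons (nat_lit 8) (nat_lit 1) (Step.F (nat_lit 1643) (Step.F (nat_lit 1646) (Step.B (nat_lit 1647) Step.done))) (Scr.cons (nat_lit 8) (nat_lit 1) (Step.L (Step.D (nat_lit 730) (Step.D (nat_lit 1856) Step.done))) (Scr.cons (nat_lit 9) (nat_lit 0) (Step.U (nat_lit 465) (Step.D (nat_lit 466) Step.done)) (Scr.cons (nat_lit 8) (nat_lit 1) (Step.F (nat_lit 1650) (Step.F (nat_lit 53) (Step.L Step.done))) (Scr.cons (nat_lit 8) (nat_lit 1) (Step.U (nat_lit 465) (Step.D (nat_lit 464) (Step.D (nat_lit 1446) Step.done))) (Scr.cons (nat_lit 10) (nat_lit 0) (Step.U (nat_lit 1683) (Step.D (nat_lit 1685) (Step.F (nat_lit 1648) (Step.F (nat_lit 1643) (Step.F (nat_lit 1649) (Step.L (Step.L (Step.L (Step.F (nat_lit 1651) (Step.F (nat_lit 1650) (Step.B (nat_lit 1652) (Step.U (nat_lit 1446) (Step.D (nat_lit 1445)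 Step.done))))))))))))) (Scr.cons (nat_lit 3) (nat_lit 1) (Step.F (nat_lit 1409) (Step.B (nat_lit 1437) (Step.L Step.done))) (Scr.cons (nat_lit 2) (nat_lit 0) (Step.D (nat_lit 1941) (Step.B (nat_lit 1654) (Step.D (nat_lit 100) Step.done))) (Scr.cons (nat_lit 1) (nat_lit 0) (Step.D (nat_lit 810) (Step.B (nat_lit 1655) (Step.D (nat_lit 464) Step.done))) (Scr.cons (nat_lit 8) (nat_lit 1) (Step.U (nat_lit 191) (Step.D (nat_lit 190) (Step.D (nat_lit 808) Step.done))) (Scr.cons (nat_lit 0) (nat_lit 0) (Step.U (nat_lit 1445) (Step.F (nat_lit 1656) (Step.B (nat_lit 1657) Step.done))) (Scr.cons (nat_lit 3) (nat_lit 0) (Step.B (nat_lit 1653) (Step.B (nat_lit 1658) (Step.U (nat_lit 808) Step.done))) (Scr.cons (nat_lit 1) (nat_lit 0) (Step.F (nat_lit 1008) (Step.B (nat_lit 1343) (Step.L Step.done))) (Scr.cons (nat_lit 0) (nat_lit 0) (Step.F (nat_lit 1407) (Step.B (nat_lit 1660) (Step.D (nat_lit 1151) Step.done))) (Scr.cons (nat_lit 0) (nat_lit 0) (Step.D (nat_lit 1151) (Step.F (nat_lit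 1661) Step.done)) (Scr.cons (nat_lit 0) (nat_lit 0) (Step.D (nat_lit 1683) (Step.B (nat_lit 1659) (Step.F (nat_lit 1662) Step.done))) (Scr.cons (nat_lit 2) (nat_lit 0) (Step.D (nat_lit 590) (Step.B (nat_lit 1663) (Step.D (nat_lit 1152) Step.done))) (Scr.cons (nat_lit 2) (nat_lit 0) (Step.D (nat_lit 1152) (Step.F (nat_lit 1664) Step.done)) (Scr.cons (nat_lit 8) (nat_lit 2) (Step.F (nat_lit 70) (Step.L (Step.D (nat_lit 167) Step.done))) (Scr.cons (nat_lit 18) (nat_lit 0) (Step.B (nat_lit 1666) (Step.D (nat_lit 701) Step.done)) (Scr.cons (nat_lit 1) (nat_lit 0) (Step.D (nat_lit 2389) (Step.B (nat_lit 507) Step.done)) (Scr.cons (nat_lit 3) (nat_lit 1) (Step.B (nat_lit 475) (Step.B (nat_lit 507) Step.done)) (Scr.cons (nat_lit 3) (nat_lit 1) (Step.F (nat_lit 1669) (Step.F (nat_lit 1468) (Step.F (nat_lit 1442) Step.done))) (Scr.cons (nat_lit 1) (nat_lit 0) (Step.B (nat_lit 1668) (Step.B (nat_lit 1670) (Step.B (nat_lit 1445) Step.done))) (Scr.cons (nat_lit 0) (nat_lit 0) (Step.B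 (nat_lit 1447) (Step.F (nat_lit 1671) (Step.F (nat_lit 474) Step.done))) (Scr.cons (nat_lit 9) (nat_lit 0) (Step.U (nat_lit 442) (Step.D (nat_lit 443) Step.done)) (Scr.cons (nat_lit 3) (nat_lit 1) (Step.B (nat_lit 1667) (Step.B (nat_lit 1672) (Step.B (nat_lit 1673) Step.done))) (Scr.cons (nat_lit 20) (nat_lit 2) (Step.U (nat_lit 443) (Step.U (nat_lit 96) (Step.L (Step.L (Step.L (Step.L (Step.L (Step.D (nat_lit 445) Step.done)))))))) (Scr.cons (nat_lit 1) (nat_lit 0) (Step.B (nat_lit 70) (Step.B (nat_lit 1674) (Step.B (nat_lit 1675) Step.done))) (Scr.cons (nat_lit 2) (nat_lit 0) (Step.D (nat_lit 445) (Step.F (nat_lit 1676) (Step.D (nat_lit 703) Step.done))) (Scr.cons (nat_lit 2) (nat_lit 0) (Step.D (nat_lit 703) (Step.F (nat_lit 1677) Step.done)) (Scr.cons (nat_lit 8) (nat_lit 3) (Step.L (Step.D (nat_lit 782) (Step.D (nat_lit 1915) Step.done))) (Scr.cons (nat_lit 9) (nat_lit 0) (Step.L (Step.D (nat_lit 1692) Step.done)) (Scr.cons (nat_lit 8) (nat_lit 2) (Step.U (nat_lit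 1694) (Step.B (nat_lit 1565) (Step.D (nat_lit 1695) Step.done))) Scr.nil))))))))))))))))))))))))))))))))))))))))
noncomputable def s42 : Scr := (Scr.cons (nat_lit 10) (nat_lit 1) (Step.F (nat_lit 1680) (Step.L (Step.L (Step.L (Step.L (Step.L (Step.L (Step.L (Step.L (Step.L (Step.D (nat_lit 594) (Step.D (nat_lit 1695) (Step.F (nat_lit 1681) Step.done))))))))))))) (Scr.cons (nat_lit 8) (nat_lit 0) (Step.F (nat_lit 1682) (Step.F (nat_lit 1680) (Step.D (nat_lit 1693) Step.done))) (Scr.cons (nat_lit 18) (nat_lit 0) (Step.F (nat_lit 1683) (Step.B (nat_lit 1681) Step.done)) (Scr.cons (nat_lit 8) (nat_lit 1) (Step.U (nat_lit 183) (Step.L (Step.D (nat_lit 783) Step.done))) (Scr.cons (nat_lit 0) (nat_lit 0) (Step.U (nat_lit 1695) (Step.F (nat_lit 1591) (Step.B (nat_lit 1685) Step.done))) (Scr.cons (nat_lit 9) (nat_lit 0) (Step.U (nat_lit 783) (Step.L Step.done)) (Scr.cons (nat_lit 3) (nat_lit 1) (Step.B (nat_lit 1684) (Step.B (nat_lit 1686) (Step.B (nat_lit 1687) Step.done))) (Scr.cons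 (nat_lit 1) (nat_lit 0) (Step.D (nat_lit 1693) (Step.B (nat_lit 1688) (Step.B (nat_lit 1679) Step.done))) (Scr.cons (nat_lit 1) (nat_lit 0) (Step.B (nat_lit 1679) (Step.F (nat_lit 1689) Step.done)) (Scr.cons (nat_lit 21) (nat_lit 12) (Step.U (nat_lit 2236) (Step.U (nat_lit 1177) (Step.U (nat_lit 338) (Step.L (Step.L (Step.L (Step.D (nat_lit 6) (Step.D (nat_lit 66) (Step.F (nat_lit 216) (Step.F (nat_lit 226) (Step.F (nat_lit 219) (Step.D (nat_lit 1238) (Step.D (nat_lit 2278) Step.done))))))))))))) (Scr.cons (nat_lit 8) (nat_lit 1) (Step.F (nat_lit 1691) (Step.U (nat_lit 2236) (Step.D (nat_lit 2237) Step.done))) (Scr.cons (nat_lit 9) (nat_lit 0) (Step.U (nat_lit 2237) (Step.D (nat_lit 2238) Step.done)) (Scr.cons (nat_lit 8) (nat_lit 3) (Step.U (nat_lit 1180) (Step.D (nat_lit 1177) (Step.D (nat_lit 2238) Step.done))) (Scr.cons (nat_lit 1) (nat_lit 0) (Step.F (nat_lit 1694) (Step.B (nat_lit 1077) (Step.L Step.done))) (Scr.cons (nat_lit 3) (nat_lit 0) (Step.B (nat_lit 1693)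 (Step.B (nat_lit 1695) (Step.B (nat_lit 828) Step.done))) (Scr.cons (nat_lit 0) (nat_lit 0) (Step.B (nat_lit 1692) (Step.B (nat_lit 1696) (Step.B (nat_lit 1372) (Step.D (nat_lit 912) Step.done)))) (Scr.cons (nat_lit 1) (nat_lit 0) (Step.D (nat_lit 2278) (Step.B (nat_lit 1697) (Step.F (nat_lit 1373) (Step.L Step.done)))) (Scr.cons (nat_lit 3) (nat_lit 0) (Step.B (nat_lit 243) (Step.B (nat_lit 1698) (Step.B (nat_lit 1036) (Step.B (nat_lit 1091) Step.done)))) (Scr.cons (nat_lit 2) (nat_lit 0) (Step.F (nat_lit 158) (Step.B (nat_lit 1699) (Step.D (nat_lit 1124) Step.done))) (Scr.cons (nat_lit 1) (nat_lit 0) (Step.B (nat_lit 242) (Step.B (nat_lit 1700) (Step.D (nat_lit 2189) Step.done))) (Scr.cons (nat_lit 1) (nat_lit 0) (Step.D (nat_lit 2189) (Step.F (nat_lit 1701) Step.done)) (Scr.cons (nat_lit 9) (nat_lit 0) (Step.U (nat_lit 482) (Step.D (nat_lit 483) Step.done)) (Scr.cons (nat_lit 20) (nat_lit 2) (Step.U (nat_lit 483) (Step.L (Step.L (Step.L (Step.L (Step.L (Step.L (Step.D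 (nat_lit 1070) Step.done)))))))) (Scr.cons (nat_lit 1) (nat_lit 0) (Step.B (nat_lit 1704) (Step.F (nat_lit 1377) (Step.L Step.done))) (Scr.cons (nat_lit 3) (nat_lit 0) (Step.B (nat_lit 1703) (Step.B (nat_lit 1705) (Step.L Step.done))) (Scr.cons (nat_lit 2) (nat_lit 0) (Step.F (nat_lit 125) (Step.B (nat_lit 1706) (Step.D (nat_lit 1124) Step.done))) (Scr.cons (nat_lit 8) (nat_lit 3) (Step.U (nat_lit 947) (Step.D (nat_lit 946) (Step.D (nat_lit 2057) Step.done))) (Scr.cons (nat_lit 1) (nat_lit 0) (Step.F (nat_lit 1702) (Step.F (nat_lit 1707) (Step.B (nat_lit 1708) Step.done))) (Scr.cons (nat_lit 3) (nat_lit 1) (Step.D (nat_lit 2057) (Step.F (nat_lit 1709) (Step.L Step.done))) (Scr.cons (nat_lit 0) (nat_lit 0) (Step.D (nat_lit 946) (Step.B (nat_lit 1710) Step.done)) (Scr.cons (nat_lit 8) (nat_lit 3) (Step.L (Step.D (nat_lit 1195) (Step.D (nat_lit 2251) Step.done))) (Scr.cons (nat_lit 9) (nat_lit 0) (Step.L (Step.D (nat_lit 1463) Step.done)) (Scr.cons (nat_lit 9) (nat_lit 0)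 (Step.U (nat_lit 485) (Step.D (nat_lit 486) Step.done)) (Scr.cons (nat_lit 8) (nat_lit 2) (Step.U (nat_lit 1489) (Step.B (nat_lit 1714) (Step.D (nat_lit 1490) Step.done))) (Scr.cons (nat_lit 10) (nat_lit 1) (Step.F (nat_lit 1713) (Step.L (Step.L (Step.L (Step.L (Step.L (Step.L (Step.L (Step.L (Step.D (nat_lit 104) (Step.D (nat_lit 486) (Step.D (nat_lit 1490) (Step.F (nat_lit 1715) Step.done))))))))))))) (Scr.cons (nat_lit 3) (nat_lit 1) (Step.U (nat_lit 485) (Step.B (nat_lit 1615) (Step.L Step.done))) (Scr.cons (nat_lit 1) (nat_lit 0) (Step.U (nat_lit 1489) (Step.B (nat_lit 1717) (Step.L Step.done))) (Scr.cons (nat_lit 0) (nat_lit 0) (Step.B (nat_lit 1716) (Step.B (nat_lit 1718) (Step.D (nat_lit 1195) Step.done))) (Scr.cons (nat_lit 3) (nat_lit 0) (Step.B (nat_lit 1713) (Step.B (nat_lit 1719) (Step.D (nat_lit 2251) Step.done))) (Scr.cons (nat_lit 1) (nat_lit 0) (Step.B (nat_lit 1712) (Step.F (nat_lit 1720) Step.done)) Scr.nil))))))))))))))))))))))))))))))))))))))))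
noncomputable def s43 : Scr := (Scr.cons (nat_lit 8) (nat_lit 3) (Step.L (Step.L (Step.D (nat_lit 1521) Step.done))) (Scr.cons (nat_lit 12) (nat_lit 4) (Step.L (Step.L (Step.L (Step.L (Step.L (Step.L (Step.L (Step.L (Step.L (Step.L (Step.L (Step.L (Step.D (nat_lit 1376) Step.done))))))))))))) (Scr.cons (nat_lit 13) (nat_lit 5) (Step.F (nat_lit 1722) (Step.L (Step.L (Step.L (Step.L (Step.L (Step.L (Step.L (Step.L (Step.L (Step.B (nat_lit 1723) (Step.U (nat_lit 1376) (Step.L Step.done))))))))))))) (Scr.cons (nat_lit 8) (nat_lit 2) (Step.U (nat_lit 409) (Step.B (nat_lit 703) (Step.D (nat_lit 1316) Step.done))) (Scr.cons (nat_lit 9) (nat_lit 0) (Step.F (nat_lit 1725) (Step.D (nat_lit 1319) Step.done)) (Scr.cons (nat_lit 10) (nat_lit 1) (Step.F (nat_lit 1726) (Step.U (nat_lit 1316) (Step.F (nat_lit 703) (Step.L (Step.L (Step.L (Step.L (Step.L (Step.L (Step.L (Step.L (Step.L (Step.D (nat_lit 1309) Step.done))))))))))))) (Scr.cons (nat_lit 9) (nat_lit 0) (Step.L (Step.D (nat_lit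 1309) Step.done)) (Scr.cons (nat_lit 8) (nat_lit 3) (Step.B (nat_lit 1726) (Step.B (nat_lit 1727) (Step.F (nat_lit 1728) Step.done))) (Scr.cons (nat_lit 0) (nat_lit 0) (Step.U (nat_lit 1316) (Step.B (nat_lit 716) (Step.D (nat_lit 1163) Step.done))) (Scr.cons (nat_lit 1) (nat_lit 0) (Step.F (nat_lit 1729) (Step.B (nat_lit 1730) (Step.D (nat_lit 2225) Step.done))) (Scr.cons (nat_lit 1) (nat_lit 0) (Step.D (nat_lit 2225) (Step.F (nat_lit 1731) Step.done)) (Scr.cons (nat_lit 3) (nat_lit 1) (Step.F (nat_lit 1012) (Step.F (nat_lit 1018) (Step.L Step.done))) (Scr.cons (nat_lit 1) (nat_lit 0) (Step.D (nat_lit 543) (Step.B (nat_lit 1733) (Step.B (nat_lit 1308) Step.done))) (Scr.cons (nat_lit 0) (nat_lit 0) (Step.U (nat_lit 1163) (Step.F (nat_lit 1734) (Step.D (nat_lit 542) Step.done))) (Scr.cons (nat_lit 1) (nat_lit 0) (Step.F (nat_lit 1732) (Step.B (nat_lit 1735) (Step.D (nat_lit 1609) Step.done))) (Scr.cons (nat_lit 1) (nat_lit 0) (Step.D (nat_lit 1609) (Step.F (nat_lit 1736)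 Step.done)) (Scr.cons (nat_lit 8) (nat_lit 2) (Step.U (nat_lit 500) (Step.L (Step.D (nat_lit 1522) Step.done))) (Scr.cons (nat_lit 9) (nat_lit 0) (Step.F (nat_lit 1738) (Step.D (nat_lit 1524) Step.done)) (Scr.cons (nat_lit 8) (nat_lit 2) (Step.U (nat_lit 2463) (Step.B (nat_lit 1739) (Step.D (nat_lit 2466) Step.done))) (Scr.cons (nat_lit 19) (nat_lit 1) (Step.U (nat_lit 2456) (Step.B (nat_lit 1608) (Step.U (nat_lit 1515) (Step.L (Step.L (Step.L (Step.L (Step.L (Step.L (Step.L (Step.D (nat_lit 1522) (Step.B (nat_lit 1739) (Step.D (nat_lit 2466) Step.done))))))))))))) (Scr.cons (nat_lit 18) (nat_lit 0) (Step.B (nat_lit 1740) (Step.F (nat_lit 1741) Step.done)) (Scr.cons (nat_lit 0) (nat_lit 0) (Step.U (nat_lit 2456) (Step.B (nat_lit 1510) (Step.L Step.done))) (Scr.cons (nat_lit 3) (nat_lit 1) (Step.B (nat_lit 1742) (Step.B (nat_lit 1743) (Step.L Step.done))) (Scr.cons (nat_lit 1) (nat_lit 0) (Step.D (nat_lit 2463) (Step.B (nat_lit 1744) (Step.L Step.done))) (Scr.cons (nat_lit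 0) (nat_lit 0) (Step.D (nat_lit 1522) (Step.B (nat_lit 1745) (Step.D (nat_lit 542) Step.done))) (Scr.cons (nat_lit 1) (nat_lit 0) (Step.F (nat_lit 1737) (Step.F (nat_lit 1746) (Step.B (nat_lit 1722) Step.done))) (Scr.cons (nat_lit 2) (nat_lit 0) (Step.F (nat_lit 1724) (Step.F (nat_lit 1747) (Step.D (nat_lit 2330) Step.done))) (Scr.cons (nat_lit 2) (nat_lit 0) (Step.D (nat_lit 2330) (Step.F (nat_lit 1748) Step.done)) (Scr.cons (nat_lit 9) (nat_lit 0) (Step.U (nat_lit 836) (Step.D (nat_lit 837) Step.done)) (Scr.cons (nat_lit 8) (nat_lit 2) (Step.U (nat_lit 1829) (Step.B (nat_lit 1621) (Step.D (nat_lit 1831) Step.done))) (Scr.cons (nat_lit 10) (nat_lit 1) (Step.F (nat_lit 1750) (Step.F (nat_lit 321) (Step.B (nat_lit 320) (Step.B (nat_lit 352) (Step.F (nat_lit 351) (Step.U (nat_lit 169) (Step.L (Step.L (Step.L (Step.L (Step.D (nat_lit 706) (Step.D (nat_lit 1831) (Step.F (nat_lit 1751) Step.done))))))))))))) (Scr.cons (nat_lit 8) (nat_lit 0) (Step.F (nat_lit 1752) (Step.F (nat_lit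 1750) (Step.D (nat_lit 1969) Step.done))) (Scr.cons (nat_lit 18) (nat_lit 0) (Step.F (nat_lit 1753) (Step.B (nat_lit 1751) Step.done)) (Scr.cons (nat_lit 3) (nat_lit 1) (Step.B (nat_lit 1754) (Step.B (nat_lit 1639) (Step.L Step.done))) (Scr.cons (nat_lit 1) (nat_lit 0) (Step.D (nat_lit 1969) (Step.B (nat_lit 1755) (Step.L Step.done))) (Scr.cons (nat_lit 0) (nat_lit 0) (Step.B (nat_lit 321) (Step.B (nat_lit 1756) (Step.D (nat_lit 871) Step.done))) (Scr.cons (nat_lit 0) (nat_lit 0) (Step.D (nat_lit 871) (Step.F (nat_lit 1757) Step.done)) (Scr.cons (nat_lit 9) (nat_lit 0) (Step.F (nat_lit 184) (Step.D (nat_lit 1670) Step.done)) (Scr.cons (nat_lit 8) (nat_lit 1) (Step.F (nat_lit 1759) (Step.U (nat_lit 832) (Step.L Step.done))) (Scr.cons (nat_lit 9) (nat_lit 0) (Step.U (nat_lit 759) (Step.L Step.done)) Scr.nil))))))))))))))))))))))))))))))))))))))))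
noncomputable def s44 : Scr := (Scr.cons (nat_lit 8) (nat_lit 2) (Step.U (nat_lit 1891) (Step.B (nat_lit 1761) (Step.D (nat_lit 1892) Step.done))) (Scr.cons (nat_lit 10) (nat_lit 1) (Step.L (Step.F (nat_lit 1760) (Step.F (nat_lit 1759) (Step.B (nat_lit 484) (Step.F (nat_lit 483) (Step.L (Step.L (Step.L (Step.L (Step.L (Step.L (Step.D (nat_lit 1892) (Step.F (nat_lit 1762) Step.done))))))))))))) (Scr.cons (nat_lit 8) (nat_lit 1) (Step.U (nat_lit 960) (Step.L (Step.D (nat_lit 2065) Step.done))) (Scr.cons (nat_lit 2) (nat_lit 0) (Step.U (nat_lit 1128) (Step.F (nat_lit 1089) (Step.L Step.done))) (Scr.cons (nat_lit 1) (nat_lit 0) (Step.B (nat_lit 1350) (Step.B (nat_lit 1765) (Step.L Step.done))) (Scr.cons (nat_lit 3) (nat_lit 1) (Step.F (nat_lit 1349) (Step.B (nat_lit 1766) (Step.D (nat_lit 1669) Step.done))) (Scr.cons (nat_lit 3) (nat_lit 0) (Step.F (nat_lit 1572) (Step.B (nat_lit 1585) (Step.D (nat_lit 2110) Step.done))) (Scr.cons (nat_lit 3) (nat_lit 0) (Step.D (nat_lit 2110)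 (Step.F (nat_lit 1768) Step.done)) (Scr.cons (nat_lit 3) (nat_lit 1) (Step.F (nat_lit 1769) (Step.F (nat_lit 1227) Step.done)) (Scr.cons (nat_lit 3) (nat_lit 0) (Step.D (nat_lit 1669) (Step.F (nat_lit 1767) (Step.F (nat_lit 1770) Step.done))) (Scr.cons (nat_lit 0) (nat_lit 0) (Step.F (nat_lit 1577) (Step.F (nat_lit 1771) (Step.L Step.done))) (Scr.cons (nat_lit 1) (nat_lit 0) (Step.D (nat_lit 2066) (Step.B (nat_lit 1772) (Step.L Step.done))) (Scr.cons (nat_lit 0) (nat_lit 0) (Step.F (nat_lit 1764) (Step.B (nat_lit 1773) (Step.D (nat_lit 1892) Step.done))) (Scr.cons (nat_lit 3) (nat_lit 0) (Step.D (nat_lit 2065) (Step.B (nat_lit 1774) (Step.F (nat_lit 1762) Step.done))) (Scr.cons (nat_lit 0) (nat_lit 0) (Step.B (nat_lit 1763) (Step.F (nat_lit 1775) (Step.D (nat_lit 2064) Step.done))) (Scr.cons (nat_lit 0) (nat_lit 0) (Step.D (nat_lit 2064) (Step.F (nat_lit 1776) Step.done)) (Scr.cons (nat_lit 9) (nat_lit 0) (Step.L (Step.D (nat_lit 457) Step.done)) (Scr.cons (nat_lit 3)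 (nat_lit 1) (Step.D (nat_lit 2249) (Step.B (nat_lit 1604) (Step.B (nat_lit 1778) Step.done))) (Scr.cons (nat_lit 2) (nat_lit 0) (Step.F (nat_lit 510) (Step.B (nat_lit 1779) (Step.D (nat_lit 1420) Step.done))) (Scr.cons (nat_lit 2) (nat_lit 0) (Step.D (nat_lit 1420) (Step.F (nat_lit 1780) Step.done)) (Scr.cons (nat_lit 8) (nat_lit 3) (Step.U (nat_lit 457) (Step.D (nat_lit 456) (Step.D (nat_lit 1419) Step.done))) (Scr.cons (nat_lit 1) (nat_lit 0) (Step.D (nat_lit 1192) (Step.B (nat_lit 1779) (Step.B (nat_lit 1782) Step.done))) (Scr.cons (nat_lit 1) (nat_lit 0) (Step.B (nat_lit 1782) (Step.F (nat_lit 1783) Step.done)) (Scr.cons (nat_lit 3) (nat_lit 1) (Step.U (nat_lit 346) (Step.F (nat_lit 1616) (Step.L Step.done))) (Scr.cons (nat_lit 1) (nat_lit 0) (Step.B (nat_lit 1784) (Step.B (nat_lit 1785) (Step.L Step.done))) (Scr.cons (nat_lit 2) (nat_lit 0) (Step.F (nat_lit 1781) (Step.B (nat_lit 1786) (Step.L Step.done))) (Scr.cons (nat_lit 1) (nat_lit 0) (Step.D (nat_lit 896) (Step.B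 (nat_lit 1787) (Step.D (nat_lit 1493) Step.done))) (Scr.cons (nat_lit 1) (nat_lit 0) (Step.D (nat_lit 1493) (Step.F (nat_lit 1788) Step.done)) (Scr.cons (nat_lit 8) (nat_lit 3) (Step.L (Step.D (nat_lit 101) (Step.D (nat_lit 468) Step.done))) (Scr.cons (nat_lit 9) (nat_lit 0) (Step.U (nat_lit 467) (Step.D (nat_lit 468) Step.done)) (Scr.cons (nat_lit 22) (nat_lit 0) (Step.U (nat_lit 471) (Step.L (Step.L (Step.L (Step.L (Step.L (Step.L (Step.L (Step.L (Step.D (nat_lit 7) (Step.D (nat_lit 80) (Step.D (nat_lit 415) (Step.D (nat_lit 1339) Step.done))))))))))))) (Scr.cons (nat_lit 8) (nat_lit 2) (Step.B (nat_lit 1792) (Step.U (nat_lit 1339) (Step.D (nat_lit 1337) Step.done))) (Scr.cons (nat_lit 12) (nat_lit 12) (Step.U (nat_lit 1329) (Step.L (Step.L (Step.L (Step.D (nat_lit 7) (Step.D (nat_lit 80) (Step.D (nat_lit 415) (Step.D (nat_lit 1337) (Step.F (nat_lit 1793) (Step.U (nat_lit 471) (Step.B (nat_lit 1790) (Step.F (nat_lit 1791) (Step.D (nat_lit 1452) Step.done)))))))))))))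 (Scr.cons (nat_lit 21) (nat_lit 2) (Step.U (nat_lit 1714) (Step.L (Step.L (Step.L (Step.L (Step.L (Step.L (Step.L (Step.L (Step.L (Step.L (Step.D (nat_lit 1515) (Step.D (nat_lit 2457) Step.done))))))))))))) (Scr.cons (nat_lit 3) (nat_lit 1) (Step.F (nat_lit 1608) (Step.B (nat_lit 1510) (Step.L Step.done))) (Scr.cons (nat_lit 1) (nat_lit 0) (Step.U (nat_lit 2457) (Step.B (nat_lit 1796) (Step.L Step.done))) (Scr.cons (nat_lit 2) (nat_lit 0) (Step.B (nat_lit 1795) (Step.B (nat_lit 1797) (Step.L Step.done))) (Scr.cons (nat_lit 8) (nat_lit 2) (Step.L (Step.L (Step.D (nat_lit 1329) Step.done))) (Scr.cons (nat_lit 3) (nat_lit 1) (Step.D (nat_lit 1714) (Step.B (nat_lit 1798) (Step.B (nat_lit 1799) Step.done))) (Scr.cons (nat_lit 1) (nat_lit 0) (Step.F (nat_lit 1794) (Step.F (nat_lit 1800) (Step.L Step.done))) Scr.nil))))))))))))))))))))))))))))))))))))))))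
noncomputable def s45 : Scr := (Scr.cons (nat_lit 2) (nat_lit 0) (Step.D (nat_lit 1452) (Step.B (nat_lit 1801) (Step.L Step.done))) (Scr.cons (nat_lit 3) (nat_lit 1) (Step.F (nat_lit 1791) (Step.B (nat_lit 1802) (Step.L Step.done))) (Scr.cons (nat_lit 1) (nat_lit 0) (Step.B (nat_lit 1790) (Step.B (nat_lit 1803) Step.done)) (Scr.cons (nat_lit 8) (nat_lit 1) (Step.L (Step.L (Step.D (nat_lit 2015) Step.done))) (Scr.cons (nat_lit 8) (nat_lit 3) (Step.U (nat_lit 1049) (Step.D (nat_lit 1048) (Step.D (nat_lit 2136) Step.done))) (Scr.cons (nat_lit 9) (nat_lit 0) (Step.U (nat_lit 1004) (Step.D (nat_lit 1005) Step.done)) (Scr.cons (nat_lit 8) (nat_lit 2) (Step.U (nat_lit 2104) (Step.B (nat_lit 1807) (Step.D (nat_lit 2105) Step.done))) (Scr.cons (nat_lit 18) (nat_lit 0) (Step.F (nat_lit 1625) (Step.B (nat_lit 1808) Step.done)) (Scr.cons (nat_lit 20) (nat_lit 2) (Step.U (nat_lit 1005) (Step.U (nat_lit 264) (Step.L (Step.L (Step.L (Step.L (Step.F (nat_lit 663) (Step.D (nat_lit 2032)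 Step.done)))))))) (Scr.cons (nat_lit 1) (nat_lit 0) (Step.F (nat_lit 643) (Step.B (nat_lit 766) (Step.L Step.done))) (Scr.cons (nat_lit 2) (nat_lit 0) (Step.U (nat_lit 2032) (Step.B (nat_lit 1811) (Step.L Step.done))) (Scr.cons (nat_lit 1) (nat_lit 0) (Step.D (nat_lit 1541) (Step.F (nat_lit 608) Step.done)) (Scr.cons (nat_lit 1) (nat_lit 0) (Step.B (nat_lit 1810) (Step.B (nat_lit 1812) (Step.F (nat_lit 1813) Step.done))) (Scr.cons (nat_lit 0) (nat_lit 0) (Step.U (nat_lit 2105) (Step.B (nat_lit 1814) (Step.B (nat_lit 1148) Step.done))) (Scr.cons (nat_lit 3) (nat_lit 1) (Step.B (nat_lit 1809) (Step.B (nat_lit 1815) (Step.B (nat_lit 1144) Step.done))) (Scr.cons (nat_lit 8) (nat_lit 3) (Step.U (nat_lit 1540) (Step.D (nat_lit 1538) (Step.D (nat_lit 2481) Step.done))) (Scr.cons (nat_lit 1) (nat_lit 0) (Step.D (nat_lit 2124) (Step.B (nat_lit 1816) (Step.B (nat_lit 1817) Step.done))) (Scr.cons (nat_lit 3) (nat_lit 0) (Step.F (nat_lit 1421) (Step.B (nat_lit 1423) Step.done)) (Scr.cons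 (nat_lit 3) (nat_lit 1) (Step.B (nat_lit 1819) (Step.B (nat_lit 1475) (Step.L Step.done))) (Scr.cons (nat_lit 2) (nat_lit 0) (Step.B (nat_lit 1096) (Step.B (nat_lit 1820) (Step.L Step.done))) (Scr.cons (nat_lit 1) (nat_lit 0) (Step.D (nat_lit 1050) (Step.B (nat_lit 1821) (Step.F (nat_lit 1813) Step.done))) (Scr.cons (nat_lit 0) (nat_lit 0) (Step.F (nat_lit 1148) (Step.F (nat_lit 1822) (Step.L Step.done))) (Scr.cons (nat_lit 9) (nat_lit 0) (Step.L (Step.D (nat_lit 1049) Step.done)) (Scr.cons (nat_lit 3) (nat_lit 1) (Step.F (nat_lit 1144) (Step.B (nat_lit 1823) (Step.B (nat_lit 1824) Step.done))) (Scr.cons (nat_lit 1) (nat_lit 0) (Step.B (nat_lit 1818) (Step.F (nat_lit 1817) (Step.B (nat_lit 1825) (Step.B (nat_lit 1806) Step.done)))) (Scr.cons (nat_lit 1) (nat_lit 0) (Step.B (nat_lit 1806) (Step.F (nat_lit 1826) Step.done)) (Scr.cons (nat_lit 1) (nat_lit 0) (Step.F (nat_lit 1545) (Step.B (nat_lit 1553) (Step.L Step.done))) (Scr.cons (nat_lit 3) (nat_lit 1) (Step.D (nat_lit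 1026) (Step.B (nat_lit 1828) (Step.L Step.done))) (Scr.cons (nat_lit 2) (nat_lit 0) (Step.U (nat_lit 1025) (Step.B (nat_lit 1829) (Step.L Step.done))) (Scr.cons (nat_lit 1) (nat_lit 0) (Step.B (nat_lit 1827) (Step.B (nat_lit 1830) (Step.L Step.done))) (Scr.cons (nat_lit 3) (nat_lit 1) (Step.D (nat_lit 1049) (Step.B (nat_lit 1831) (Step.D (nat_lit 2015) Step.done))) (Scr.cons (nat_lit 0) (nat_lit 0) (Step.B (nat_lit 1805) (Step.F (nat_lit 1832) Step.done)) (Scr.cons (nat_lit 9) (nat_lit 0) (Step.U (nat_lit 888) (Step.D (nat_lit 889) Step.done)) (Scr.cons (nat_lit 8) (nat_lit 1) (Step.L (Step.L (Step.D (nat_lit 888) Step.done))) (Scr.cons (nat_lit 10) (nat_lit 1) (Step.F (nat_lit 1834) (Step.F (nat_lit 1835) (Step.L (Step.L (Step.D (nat_lit 37) (Step.F (nat_lit 28) (Step.F (nat_lit 26) (Step.L (Step.L (Step.L (Step.L (Step.L (Step.L Step.done))))))))))))) (Scr.cons (nat_lit 3) (nat_lit 1) (Step.U (nat_lit 2062) (Step.B (nat_lit 1635) (Step.L Step.done))) (Scr.cons (nat_lit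 1) (nat_lit 0) (Step.B (nat_lit 1543) (Step.B (nat_lit 1837) (Step.L Step.done))) (Scr.cons (nat_lit 3) (nat_lit 0) (Step.D (nat_lit 1028) (Step.B (nat_lit 1838) (Step.L Step.done))) (Scr.cons (nat_lit 2) (nat_lit 0) (Step.D (nat_lit 276) (Step.B (nat_lit 1839) (Step.L Step.done))) (Scr.cons (nat_lit 0) (nat_lit 0) (Step.F (nat_lit 135) (Step.B (nat_lit 1840) (Step.L Step.done))) Scr.nil))))))))))))))))))))))))))))))))))))))))
noncomputable def s46 : Scr := (Scr.cons (nat_lit 1) (nat_lit 0) (Step.F (nat_lit 580) (Step.B (nat_lit 1841) (Step.L Step.done))) (Scr.cons (nat_lit 3) (nat_lit 0) (Step.D (nat_lit 803) (Step.B (nat_lit 1842) (Step.D (nat_lit 889) Step.done))) (Scr.cons (nat_lit 0) (nat_lit 0) (Step.F (nat_lit 1836) (Step.F (nat_lit 1843) (Step.D (nat_lit 802) Step.done))) (Scr.cons (nat_lit 0) (nat_lit 0) (Step.D (nat_lit 802) (Step.F (nat_lit 1844) Step.done)) (Scr.cons (nat_lit 8) (nat_lit 1) (Step.L (Step.L (Step.D (nat_lit 591) Step.done))) (Scr.cons (nat_lit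 20) (nat_lit 2) (Step.U (nat_lit 1685) (Step.U (nat_lit 590) (Step.L (Step.L (Step.L (Step.L (Step.B (nat_lit 1846) (Step.D (nat_lit 1686) Step.done)))))))) (Scr.cons (nat_lit 20) (nat_lit 5) (Step.U (nat_lit 1683) (Step.U (nat_lit 590) (Step.L (Step.L (Step.L (Step.L (Step.D (nat_lit 591) (Step.D (nat_lit 1686) Step.done)))))))) (Scr.cons (nat_lit 9) (nat_lit 0) (Step.F (nat_lit 1653) (Step.B (nat_lit 1848) Step.done)) (Scr.cons (nat_lit 9) (nat_lit 0) (Step.U (nat_lit 808) (Step.D (nat_lit 809) Step.done)) (Scr.cons (nat_lit 3) (nat_lit 1) (Step.F (nat_lit 1849) (Step.B (nat_lit 1658) (Step.B (nat_lit 1850) Step.done))) (Scr.cons (nat_lit 9) (nat_lit 0) (Step.U (nat_lit 372) (Step.D (nat_lit 373) Step.done)) (Scr.cons (nat_lit 8) (nat_lit 3) (Step.B (nat_lit 1852) (Step.B (nat_lit 1407) (Step.D (nat_lit 809) Step.done))) (Scr.cons (nat_lit 1) (nat_lit 0) (Step.B (nat_lit 1847) (Step.B (nat_lit 1851) (Step.F (nat_lit 1853) Step.done))) (Scr.cons (nat_lit 8) (nat_lit 1)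 (Step.F (nat_lit 1003) (Step.L (Step.D (nat_lit 372) Step.done))) (Scr.cons (nat_lit 0) (nat_lit 0) (Step.B (nat_lit 1648) (Step.B (nat_lit 1854) (Step.F (nat_lit 1855) Step.done))) (Scr.cons (nat_lit 3) (nat_lit 0) (Step.B (nat_lit 1643) (Step.B (nat_lit 1856) (Step.F (nat_lit 1003) Step.done))) (Scr.cons (nat_lit 0) (nat_lit 0) (Step.B (nat_lit 1649) (Step.B (nat_lit 1857) (Step.D (nat_lit 1261) Step.done))) (Scr.cons (nat_lit 0) (nat_lit 0) (Step.D (nat_lit 1261) (Step.F (nat_lit 1858) Step.done)) (Scr.cons (nat_lit 8) (nat_lit 3) (Step.U (nat_lit 186) (Step.D (nat_lit 185) (Step.D (nat_lit 786) Step.done))) (Scr.cons (nat_lit 12) (nat_lit 5) (Step.F (nat_lit 1685) (Step.U (nat_lit 183) (Step.L (Step.L (Step.L (Step.L (Step.L (Step.L (Step.L (Step.L (Step.L (Step.L (Step.D (nat_lit 1450) Step.done))))))))))))) (Scr.cons (nat_lit 22) (nat_lit 6) (Step.U (nat_lit 1289) (Step.U (nat_lit 388) (Step.L (Step.L (Step.D (nat_lit 1450) (Step.F (nat_lit 1861) (Step.U (nat_lit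 783) (Step.L (Step.L (Step.L (Step.L (Step.L (Step.D (nat_lit 789) Step.done))))))))))))) (Scr.cons (nat_lit 8) (nat_lit 1) (Step.F (nat_lit 1862) (Step.U (nat_lit 1289) (Step.D (nat_lit 1290) Step.done))) (Scr.cons (nat_lit 12) (nat_lit 12) (Step.U (nat_lit 1919) (Step.F (nat_lit 1860) (Step.U (nat_lit 186) (Step.U (nat_lit 26) (Step.L (Step.L (Step.D (nat_lit 789) (Step.B (nat_lit 1863) (Step.U (nat_lit 1290) (Step.U (nat_lit 388) (Step.L (Step.D (nat_lit 1288) (Step.D (nat_lit 2315) Step.done))))))))))))) (Scr.cons (nat_lit 1) (nat_lit 0) (Step.F (nat_lit 1860) (Step.B (nat_lit 1562) (Step.L Step.done))) (Scr.cons (nat_lit 0) (nat_lit 0) (Step.U (nat_lit 1919) (Step.B (nat_lit 1865) (Step.L Step.done))) (Scr.cons (nat_lit 1) (nat_lit 0) (Step.F (nat_lit 1864) (Step.B (nat_lit 1866) (Step.L Step.done))) (Scr.cons (nat_lit 2) (nat_lit 0) (Step.D (nat_lit 2315) (Step.B (nat_lit 1867) (Step.L Step.done))) (Scr.cons (nat_lit 3) (nat_lit 1) (Step.D (nat_lit 1288) (Step.B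 (nat_lit 1868) (Step.D (nat_lit 774) Step.done))) (Scr.cons (nat_lit 3) (nat_lit 1) (Step.D (nat_lit 774) (Step.F (nat_lit 1869) Step.done)) (Scr.cons (nat_lit 8) (nat_lit 3) (Step.L (Step.L (Step.D (nat_lit 444) Step.done))) (Scr.cons (nat_lit 3) (nat_lit 1) (Step.B (nat_lit 71) (Step.F (nat_lit 1677) (Step.L Step.done))) (Scr.cons (nat_lit 1) (nat_lit 0) (Step.D (nat_lit 666) (Step.B (nat_lit 1872) (Step.B (nat_lit 1871) Step.done))) (Scr.cons (nat_lit 1) (nat_lit 0) (Step.B (nat_lit 1871) (Step.F (nat_lit 1873) Step.done)) (Scr.cons (nat_lit 8) (nat_lit 3) (Step.U (nat_lit 1546) (Step.D (nat_lit 1545) (Step.D (nat_lit 2490) Step.done))) (Scr.cons (nat_lit 9) (nat_lit 0) (Step.U (nat_lit 579) (Step.D (nat_lit 580) Step.done)) (Scr.cons (nat_lit 8) (nat_lit 2) (Step.U (nat_lit 1667) (Step.B (nat_lit 1876) (Step.D (nat_lit 1668) Step.done))) (Scr.cons (nat_lit 8) (nat_lit 1) (Step.U (nat_lit 579) (Step.D (nat_lit 578) (Step.D (nat_lit 1665) Step.done))) (Scr.cons (nat_lit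 21) (nat_lit 11) (Step.F (nat_lit 1877) (Step.U (nat_lit 1667) (Step.B (nat_lit 1878) (Step.F (nat_lit 1071) (Step.F (nat_lit 233) (Step.U (nat_lit 1156) (Step.L (Step.L (Step.L (Step.L (Step.D (nat_lit 514) (Step.D (nat_lit 1546) (Step.D (nat_lit 2491) Step.done))))))))))))) (Scr.cons (nat_lit 3) (nat_lit 0) (Step.U (nat_lit 580) (Step.B (nat_lit 1088) (Step.L Step.done))) (Scr.cons (nat_lit 0) (nat_lit 0) (Step.U (nat_lit 1668) (Step.B (nat_lit 1880) (Step.L Step.done))) Scr.nil))))))))))))))))))))))))))))))))))))))))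
noncomputable def s47 : Scr := (Scr.cons (nat_lit 1) (nat_lit 0) (Step.F (nat_lit 1879) (Step.B (nat_lit 1881) (Step.L Step.done))) (Scr.cons (nat_lit 2) (nat_lit 0) (Step.D (nat_lit 2491) (Step.B (nat_lit 1882) (Step.D (nat_lit 1120) Step.done))) (Scr.cons (nat_lit 1) (nat_lit 0) (Step.F (nat_lit 1875) (Step.B (nat_lit 1883) (Step.D (nat_lit 2182) Step.done))) (Scr.cons (nat_lit 3) (nat_lit 1) (Step.D (nat_lit 2490) (Step.B (nat_lit 1884) (Step.F (nat_lit 443) Step.done))) (Scr.cons (nat_lit 2) (nat_lit 0) (Step.B (nat_lit 442) (Step.F (nat_lit 1885) (Step.D (nat_lit 2489) Step.done))) (Scr.cons (nat_lit 2) (nat_lit 0) (Step.D (nat_lit 2489) (Step.F (nat_lit 1886) Step.done)) (Scr.cons (nat_lit 1) (nat_lit 0) (Step.D (nat_lit 2178) (Step.F (nat_lit 1885) (Step.D (nat_lit 2488) Step.done))) (Scr.cons (nat_lit 1) (nat_lit 0) (Step.D (nat_lit 2488) (Step.F (nat_lit 1888) Step.done)) (Scr.cons (nat_lit 3) (nat_lit 1) (Step.F (nat_lit 1175) (Step.B (nat_lit 1536) (Step.L Step.done)))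 (Scr.cons (nat_lit 1) (nat_lit 0) (Step.B (nat_lit 1176) (Step.B (nat_lit 1890) (Step.D (nat_lit 55) Step.done))) (Scr.cons (nat_lit 2) (nat_lit 0) (Step.U (nat_lit 314) (Step.F (nat_lit 1891) (Step.L Step.done))) (Scr.cons (nat_lit 3) (nat_lit 1) (Step.U (nat_lit 1113) (Step.B (nat_lit 1892) (Step.L Step.done))) (Scr.cons (nat_lit 1) (nat_lit 0) (Step.B (nat_lit 1889) (Step.B (nat_lit 1893) (Step.L Step.done))) (Scr.cons (nat_lit 2) (nat_lit 0) (Step.F (nat_lit 1887) (Step.B (nat_lit 1894) (Step.L Step.done))) (Scr.cons (nat_lit 1) (nat_lit 0) (Step.D (nat_lit 1733) (Step.B (nat_lit 1895) (Step.D (nat_lit 2026) Step.done))) (Scr.cons (nat_lit 1) (nat_lit 0) (Step.D (nat_lit 2026) (Step.F (nat_lit 1896) Step.done)) (Scr.cons (nat_lit 11) (nat_lit 1) (Step.F (nat_lit 1805) (Step.L (Step.L (Step.L (Step.L (Step.L (Step.D (nat_lit 1296) (Step.D (nat_lit 2321) Step.done)))))))) (Scr.cons (nat_lit 22) (nat_lit 4) (Step.U (nat_lit 1615) (Step.U (nat_lit 549) (Step.L (Step.L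 (Step.L (Step.L (Step.L (Step.L (Step.D (nat_lit 14) (Step.F (nat_lit 880) (Step.D (nat_lit 177) (Step.D (nat_lit 749) (Step.D (nat_lit 1880) Step.done))))))))))))) (Scr.cons (nat_lit 8) (nat_lit 1) (Step.L (Step.L (Step.D (nat_lit 549) Step.done))) (Scr.cons (nat_lit 12) (nat_lit 1) (Step.U (nat_lit 1879) (Step.D (nat_lit 1880) (Step.F (nat_lit 1899) (Step.U (nat_lit 1615) (Step.F (nat_lit 1900) (Step.L (Step.L (Step.L (Step.L (Step.L (Step.L (Step.D (nat_lit 1582) (Step.D (nat_lit 2511) Step.done))))))))))))) (Scr.cons (nat_lit 8) (nat_lit 1) (Step.B (nat_lit 1901) (Step.U (nat_lit 2511) (Step.D (nat_lit 2513) Step.done))) (Scr.cons (nat_lit 3) (nat_lit 1) (Step.D (nat_lit 40) (Step.F (nat_lit 700) (Step.B (nat_lit 2) Step.done))) (Scr.cons (nat_lit 2) (nat_lit 0) (Step.U (nat_lit 177) (Step.F (nat_lit 1903) (Step.L Step.done))) (Scr.cons (nat_lit 3) (nat_lit 1) (Step.U (nat_lit 749) (Step.B (nat_lit 1904) (Step.L Step.done))) (Scr.cons (nat_lit 1) (nat_lit 0) (Step.U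 (nat_lit 1879) (Step.B (nat_lit 1905) (Step.D (nat_lit 977) Step.done))) (Scr.cons (nat_lit 0) (nat_lit 0) (Step.F (nat_lit 1902) (Step.B (nat_lit 1906) (Step.D (nat_lit 2081) Step.done))) (Scr.cons (nat_lit 3) (nat_lit 1) (Step.D (nat_lit 2513) (Step.B (nat_lit 1907) Step.done)) (Scr.cons (nat_lit 0) (nat_lit 0) (Step.U (nat_lit 2081) (Step.B (nat_lit 1554) (Step.D (nat_lit 1296) Step.done))) (Scr.cons (nat_lit 3) (nat_lit 0) (Step.B (nat_lit 1908) (Step.B (nat_lit 1909) (Step.D (nat_lit 2321) Step.done))) (Scr.cons (nat_lit 2) (nat_lit 0) (Step.B (nat_lit 1898) (Step.F (nat_lit 1910) (Step.D (nat_lit 2512) Step.done))) (Scr.cons (nat_lit 2) (nat_lit 0) (Step.D (nat_lit 2512) (Step.F (nat_lit 1911) (Step.F (nat_lit 1832) (Step.L Step.done)))) (Scr.cons (nat_lit 0) (nat_lit 0) (Step.D (nat_lit 1582) (Step.B (nat_lit 1912) (Step.D (nat_lit 2137) Step.done))) (Scr.cons (nat_lit 0) (nat_lit 0) (Step.D (nat_lit 2137) (Step.F (nat_lit 1913) Step.done)) (Scr.cons (nat_lit 8)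 (nat_lit 3) (Step.L (Step.D (nat_lit 1296) (Step.D (nat_lit 2321) Step.done))) (Scr.cons (nat_lit 1) (nat_lit 0) (Step.B (nat_lit 1915) (Step.F (nat_lit 1910) Step.done)) (Scr.cons (nat_lit 1) (nat_lit 0) (Step.B (nat_lit 1916) (Step.B (nat_lit 1912) (Step.D (nat_lit 2138) Step.done))) (Scr.cons (nat_lit 1) (nat_lit 0) (Step.D (nat_lit 2138) (Step.F (nat_lit 1917) Step.done)) (Scr.cons (nat_lit 9) (nat_lit 0) (Step.U (nat_lit 1937) (Step.D (nat_lit 1938) Step.done)) (Scr.cons (nat_lit 8) (nat_lit 3) (Step.U (nat_lit 804) (Step.D (nat_lit 802) (Step.D (nat_lit 1938) Step.done))) (Scr.cons (nat_lit 9) (nat_lit 0) (Step.U (nat_lit 803) (Step.D (nat_lit 804) Step.done)) Scr.nil))))))))))))))))))))))))))))))))))))))))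
noncomputable def s48 : Scr := (Scr.cons (nat_lit 8) (nat_lit 1) (Step.F (nat_lit 1921) (Step.F (nat_lit 580) (Step.B (nat_lit 134) Step.done))) (Scr.cons (nat_lit 8) (nat_lit 0) (Step.L (Step.L (Step.D (nat_lit 610) Step.done))) (Scr.cons (nat_lit 12) (nat_lit 3) (Step.B (nat_lit 1919) (Step.F (nat_lit 1920) (Step.B (nat_lit 1922) (Step.F (nat_lit 134) (Step.B (nat_lit 136) (Step.U (nat_lit 616) (Step.L (Step.L (Step.L (Step.L (Step.D (nat_lit 610) (Step.F (nat_lit 1923) (Step.D (nat_lit 1569) Step.done))))))))))))) (Scr.cons (nat_lit 8) (nat_lit 3) (Step.B (nat_lit 1834) (Step.B (nat_lit 1836) (Step.D (nat_lit 1057) Step.done))) (Scr.cons (nat_lit 3) (nat_lit 1) (Step.F (nat_lit 1921) (Step.B (nat_lit 1842) (Step.D (nat_lit 888) Step.done))) (Scr.cons (nat_lit 1) (nat_lit 0) (Step.F (nat_lit 1925) (Step.F (nat_lit 1926) (Step.B (nat_lit 1920) Step.done))) (Scr.cons (nat_lit 9) (nat_lit 0) (Step.L (Step.D (nat_lit 1057) Step.done)) (Scr.cons (nat_lit 3) (nat_lit 0) (Step.B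 (nat_lit 1919) (Step.F (nat_lit 1927) (Step.F (nat_lit 1928) Step.done))) (Scr.cons (nat_lit 2) (nat_lit 0) (Step.F (nat_lit 1924) (Step.B (nat_lit 1929) (Step.L Step.done))) (Scr.cons (nat_lit 1) (nat_lit 0) (Step.D (nat_lit 1569) (Step.B (nat_lit 1930) (Step.D (nat_lit 2148) Step.done))) (Scr.cons (nat_lit 1) (nat_lit 0) (Step.D (nat_lit 2148) (Step.F (nat_lit 1931) Step.done)) (Scr.cons (nat_lit 8) (nat_lit 2) (Step.L (Step.L (Step.D (nat_lit 603) Step.done))) (Scr.cons (nat_lit 12) (nat_lit 12) (Step.U (nat_lit 601) (Step.F (nat_lit 955) (Step.L (Step.L (Step.L (Step.L (Step.L (Step.D (nat_lit 603) (Step.F (nat_lit 1933) (Step.L (Step.L (Step.L (Step.L Step.done))))))))))))) (Scr.cons (nat_lit 9) (nat_lit 0) (Step.U (nat_lit 1995) (Step.D (nat_lit 1996) Step.done)) (Scr.cons (nat_lit 3) (nat_lit 0) (Step.F (nat_lit 1119) (Step.B (nat_lit 1124) (Step.B (nat_lit 1125) (Step.L Step.done)))) (Scr.cons (nat_lit 2) (nat_lit 0) (Step.B (nat_lit 1120) (Step.B (nat_lit 1936)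 (Step.D (nat_lit 529) Step.done))) (Scr.cons (nat_lit 3) (nat_lit 0) (Step.B (nat_lit 1935) (Step.B (nat_lit 1937) (Step.D (nat_lit 1581) Step.done))) (Scr.cons (nat_lit 3) (nat_lit 1) (Step.D (nat_lit 1995) (Step.B (nat_lit 1938) Step.done)) (Scr.cons (nat_lit 3) (nat_lit 0) (Step.U (nat_lit 1581) (Step.F (nat_lit 962) (Step.F (nat_lit 953) Step.done))) (Scr.cons (nat_lit 3) (nat_lit 1) (Step.B (nat_lit 1939) (Step.B (nat_lit 1940) Step.done)) (Scr.cons (nat_lit 3) (nat_lit 1) (Step.F (nat_lit 1941) (Step.F (nat_lit 1757) (Step.L Step.done))) (Scr.cons (nat_lit 2) (nat_lit 0) (Step.B (nat_lit 954) (Step.B (nat_lit 1942) (Step.L Step.done))) (Scr.cons (nat_lit 0) (nat_lit 0) (Step.U (nat_lit 601) (Step.B (nat_lit 1943) (Step.L Step.done))) (Scr.cons (nat_lit 1) (nat_lit 0) (Step.F (nat_lit 1934) (Step.B (nat_lit 1944) (Step.D (nat_lit 1442) Step.done))) (Scr.cons (nat_lit 1) (nat_lit 0) (Step.D (nat_lit 1442) (Step.F (nat_lit 1945) Step.done)) (Scr.cons (nat_lit 8) (nat_lit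 2) (Step.U (nat_lit 789) (Step.L (Step.D (nat_lit 790) Step.done))) (Scr.cons (nat_lit 9) (nat_lit 0) (Step.F (nat_lit 1947) (Step.F (nat_lit 1862) Step.done)) (Scr.cons (nat_lit 21) (nat_lit 0) (Step.U (nat_lit 1518) (Step.U (nat_lit 499) (Step.L (Step.L (Step.L (Step.L (Step.L (Step.L (Step.L (Step.D (nat_lit 388) (Step.D (nat_lit 1289) (Step.F (nat_lit 1948) (Step.D (nat_lit 1922) Step.done))))))))))))) (Scr.cons (nat_lit 8) (nat_lit 1) (Step.U (nat_lit 1519) (Step.D (nat_lit 1518) (Step.D (nat_lit 2460) Step.done))) (Scr.cons (nat_lit 22) (nat_lit 6) (Step.U (nat_lit 2438) (Step.U (nat_lit 1487) (Step.U (nat_lit 483) (Step.L (Step.L (Step.L (Step.L (Step.L (Step.L (Step.L (Step.D (nat_lit 499) (Step.D (nat_lit 1519) (Step.D (nat_lit 2461) Step.done))))))))))))) (Scr.cons (nat_lit 2) (nat_lit 0) (Step.U (nat_lit 1487) (Step.B (nat_lit 1705) (Step.L Step.done))) (Scr.cons (nat_lit 1) (nat_lit 0) (Step.U (nat_lit 2438) (Step.B (nat_lit 1952) (Step.L Step.done))) (Scr.cons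 (nat_lit 3) (nat_lit 1) (Step.F (nat_lit 1951) (Step.B (nat_lit 1953) (Step.L Step.done))) (Scr.cons (nat_lit 1) (nat_lit 0) (Step.D (nat_lit 2461) (Step.B (nat_lit 1954) (Step.L Step.done))) (Scr.cons (nat_lit 0) (nat_lit 0) (Step.F (nat_lit 1950) (Step.B (nat_lit 1955) (Step.B (nat_lit 1662) Step.done))) (Scr.cons (nat_lit 3) (nat_lit 0) (Step.D (nat_lit 2460) (Step.B (nat_lit 1956) (Step.D (nat_lit 809) Step.done))) (Scr.cons (nat_lit 8) (nat_lit 1) (Step.U (nat_lit 944) (Step.D (nat_lit 943) (Step.D (nat_lit 2055) Step.done))) (Scr.cons (nat_lit 11) (nat_lit 1) (Step.F (nat_lit 1958) (Step.U (nat_lit 944) (Step.L (Step.L (Step.L (Step.L (Step.D (nat_lit 948) (Step.D (nat_lit 2058) Step.done)))))))) (Scr.cons (nat_lit 21) (nat_lit 9) (Step.L (Step.L (Step.L (Step.L (Step.L (Step.L (Step.L (Step.L (Step.L (Step.L (Step.L (Step.L (Step.D (nat_lit 1570) Step.done))))))))))))) (Scr.cons (nat_lit 13) (nat_lit 0) (Step.U (nat_lit 1112) (Step.L (Step.L (Step.L (Step.L (Step.L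 (Step.L (Step.D (nat_lit 1570) (Step.F (nat_lit 1960) (Step.L (Step.L (Step.D (nat_lit 793) (Step.D (nat_lit 1929) Step.done))))))))))))) Scr.nil))))))))))))))))))))))))))))))))))))))))
noncomputable def s49 : Scr := (Scr.cons (nat_lit 11) (nat_lit 4) (Step.B (nat_lit 1961) (Step.U (nat_lit 1929) (Step.U (nat_lit 793) (Step.L (Step.L (Step.L (Step.D (nat_lit 792) (Step.D (nat_lit 1926) Step.done)))))))) (Scr.cons (nat_lit 12) (nat_lit 3) (Step.U (nat_lit 1928) (Step.L (Step.D (nat_lit 792) (Step.D (nat_lit 1926) (Step.F (nat_lit 1962) (Step.U (nat_lit 1112) (Step.L (Step.L (Step.L (Step.L (Step.L (Step.D (nat_lit 539) (Step.D (nat_lit 1602) Step.done))))))))))))) (Scr.cons (nat_lit 8) (nat_lit 0) (Step.U (nat_lit 363) (Step.L (Step.L Step.done))) (Scr.cons (nat_lit 18) (nat_lit 0) (Step.F (nat_lit 1964) (Step.D (nat_lit 1230) Step.done)) (Scr.cons (nat_lit 13) (nat_lit 1) (Step.F (nat_lit 182) (Step.U (nat_lit 833) (Step.L (Step.L (Step.L (Step.L (Step.L (Step.L (Step.L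 (Step.L (Step.D (nat_lit 27) (Step.D (nat_lit 190) (Step.D (nat_lit 808) Step.done))))))))))))) (Scr.cons (nat_lit 12) (nat_lit 0) (Step.F (nat_lit 1965) (Step.L (Step.D (nat_lit 833) (Step.B (nat_lit 182) (Step.B (nat_lit 1966) (Step.F (nat_lit 1657) (Step.U (nat_lit 191) (Step.U (nat_lit 27) (Step.L (Step.L (Step.L (Step.L (Step.D (nat_lit 1927) Step.done))))))))))))) (Scr.cons (nat_lit 21) (nat_lit 12) (Step.U (nat_lit 1592) (Step.U (nat_lit 534) (Step.F (nat_lit 1098) (Step.L (Step.D (nat_lit 539) (Step.D (nat_lit 1602) (Step.F (nat_lit 1963) (Step.U (nat_lit 1928) (Step.D (nat_lit 1927) (Step.F (nat_lit 1967) (Step.U (nat_lit 1230) (Step.D (nat_lit 1229) (Step.D (nat_lit 2275) Step.done))))))))))))) (Scr.cons (nat_lit 12) (nat_lit 11) (Step.U (nat_lit 1592) (Step.U (nat_lit 534) (Step.F (nat_lit 1098) (Step.L (Step.L (Step.L (Step.L (Step.L (Step.L (Step.B (nat_lit 3) (Step.D (nat_lit 177) (Step.D (nat_lit 748) (Step.D (nat_lit 1878) Step.done))))))))))))) (Scr.cons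 (nat_lit 1) (nat_lit 0) (Step.U (nat_lit 748) (Step.B (nat_lit 1904) (Step.L Step.done))) (Scr.cons (nat_lit 12) (nat_lit 12) (Step.F (nat_lit 544) (Step.U (nat_lit 2003) (Step.B (nat_lit 1151) (Step.B (nat_lit 695) (Step.U (nat_lit 992) (Step.U (nat_lit 256) (Step.U (nat_lit 41) (Step.B (nat_lit 5) (Step.U (nat_lit 39) (Step.L (Step.L (Step.D (nat_lit 976) (Step.D (nat_lit 2080) Step.done))))))))))))) (Scr.cons (nat_lit 3) (nat_lit 1) (Step.U (nat_lit 2487) (Step.F (nat_lit 682) (Step.D (nat_lit 1645) Step.done))) (Scr.cons (nat_lit 1) (nat_lit 0) (Step.F (nat_lit 1971) (Step.B (nat_lit 1972) Step.done)) (Scr.cons (nat_lit 0) (nat_lit 0) (Step.F (nat_lit 553) (Step.B (nat_lit 1294) (Step.L Step.done))) (Scr.cons (nat_lit 1) (nat_lit 0) (Step.B (nat_lit 1973) (Step.B (nat_lit 1974) (Step.L Step.done))) (Scr.cons (nat_lit 2) (nat_lit 0) (Step.D (nat_lit 2080) (Step.B (nat_lit 1975) (Step.L Step.done))) (Scr.cons (nat_lit 3) (nat_lit 0) (Step.U (nat_lit 1878) (Step.B (nat_lit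 1970) (Step.D (nat_lit 976) (Step.B (nat_lit 1976) Step.done)))) (Scr.cons (nat_lit 2) (nat_lit 0) (Step.B (nat_lit 1969) (Step.B (nat_lit 1977) (Step.L Step.done))) (Scr.cons (nat_lit 3) (nat_lit 1) (Step.F (nat_lit 1968) (Step.B (nat_lit 1978) (Step.L Step.done))) (Scr.cons (nat_lit 1) (nat_lit 0) (Step.D (nat_lit 2275) (Step.B (nat_lit 1979) (Step.L Step.done))) (Scr.cons (nat_lit 2) (nat_lit 0) (Step.D (nat_lit 1229) (Step.B (nat_lit 1980) (Step.L Step.done))) (Scr.cons (nat_lit 0) (nat_lit 0) (Step.D (nat_lit 363) (Step.B (nat_lit 1981) (Step.D (nat_lit 948) Step.done))) (Scr.cons (nat_lit 3) (nat_lit 0) (Step.U (nat_lit 2058) (Step.F (nat_lit 1982) (Step.L Step.done))) (Scr.cons (nat_lit 2) (nat_lit 0) (Step.B (nat_lit 1959) (Step.B (nat_lit 1983) (Step.D (nat_lit 833) Step.done))) (Scr.cons (nat_lit 8) (nat_lit 2) (Step.B (nat_lit 1966) (Step.B (nat_lit 1850) (Step.D (nat_lit 1940) Step.done))) (Scr.cons (nat_lit 9) (nat_lit 0) (Step.F (nat_lit 1985) (Step.F (nat_lit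 182) Step.done)) (Scr.cons (nat_lit 3) (nat_lit 0) (Step.D (nat_lit 2055) (Step.B (nat_lit 1984) (Step.F (nat_lit 1986) Step.done))) (Scr.cons (nat_lit 0) (nat_lit 0) (Step.D (nat_lit 1940) (Step.F (nat_lit 1987) Step.done)) (Scr.cons (nat_lit 0) (nat_lit 0) (Step.F (nat_lit 1949) (Step.B (nat_lit 1957) (Step.B (nat_lit 1988) Step.done))) (Scr.cons (nat_lit 1) (nat_lit 0) (Step.D (nat_lit 1922) (Step.B (nat_lit 1989) (Step.U (nat_lit 943) Step.done))) (Scr.cons (nat_lit 0) (nat_lit 0) (Step.D (nat_lit 790) (Step.B (nat_lit 1990) (Step.D (nat_lit 942) Step.done))) (Scr.cons (nat_lit 0) (nat_lit 0) (Step.D (nat_lit 942) (Step.F (nat_lit 1991) Step.done)) (Scr.cons (nat_lit 8) (nat_lit 3) (Step.U (nat_lit 1379) (Step.D (nat_lit 1377) (Step.D (nat_lit 2382) Step.done))) (Scr.cons (nat_lit 13) (nat_lit 6) (Step.F (nat_lit 1993) (Step.U (nat_lit 1379) (Step.L (Step.L (Step.L (Step.L (Step.D (nat_lit 96) (Step.D (nat_lit 441) (Step.D (nat_lit 1391) (Step.D (nat_lit 2389) (Step.F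 (nat_lit 475) (Step.U (nat_lit 1918) (Step.B (nat_lit 479) (Step.D (nat_lit 1902) Step.done)))))))))))))) (Scr.cons (nat_lit 3) (nat_lit 0) (Step.D (nat_lit 2382) (Step.B (nat_lit 1994) Step.done)) (Scr.cons (nat_lit 20) (nat_lit 0) (Step.U (nat_lit 1903) (Step.F (nat_lit 485) (Step.F (nat_lit 478) (Step.D (nat_lit 1902) (Step.F (nat_lit 1995) (Step.U (nat_lit 1377) (Step.D (nat_lit 1378) (Step.D (nat_lit 2383) Step.done)))))))) (Scr.cons (nat_lit 2) (nat_lit 0) (Step.U (nat_lit 1903) (Step.B (nat_lit 1558) (Step.D (nat_lit 781) Step.done))) (Scr.cons (nat_lit 0) (nat_lit 0) (Step.F (nat_lit 1996) (Step.B (nat_lit 1997) (Step.D (nat_lit 1912) Step.done))) (Scr.cons (nat_lit 3) (nat_lit 1) (Step.D (nat_lit 2383) (Step.B (nat_lit 1998) Step.done)) (Scr.cons (nat_lit 8) (nat_lit 3) (Step.U (nat_lit 1481) (Step.D (nat_lit 1480) (Step.D (nat_lit 2436) Step.done))) (Scr.cons (nat_lit 8) (nat_lit 1) (Step.U (nat_lit 482) (Step.D (nat_lit 481) (Step.D (nat_lit 1486) Step.done)))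 Scr.nil))))))))))))))))))))))))))))))))))))))))
noncomputable def s50 : Scr := (Scr.cons (nat_lit 11) (nat_lit 1) (Step.F (nat_lit 2001) (Step.U (nat_lit 482) (Step.L (Step.L (Step.L (Step.D (nat_lit 477) (Step.D (nat_lit 1480) (Step.D (nat_lit 2436) Step.done)))))))) (Scr.cons (nat_lit 0) (nat_lit 0) (Step.F (nat_lit 2001) (Step.B (nat_lit 1706) (Step.L Step.done))) (Scr.cons (nat_lit 2) (nat_lit 0) (Step.F (nat_lit 2002) (Step.B (nat_lit 2003) (Step.L Step.done))) (Scr.cons (nat_lit 1) (nat_lit 0) (Step.B (nat_lit 2000) (Step.B (nat_lit 2004) (Step.L Step.done))) (Scr.cons (nat_lit 3) (nat_lit 1) (Step.D (nat_lit 1481) (Step.B (nat_lit 2005) (Step.L Step.done))) (Scr.cons (nat_lit 2) (nat_lit 0) (Step.D (nat_lit 477) (Step.B (nat_lit 2006) (Step.D (nat_lit 781) Step.done))) (Scr.cons (nat_lit 0) (nat_lit 0) (Step.U (nat_lit 1912) (Step.F (nat_lit 2007) (Step.L Step.done))) (Scr.cons (nat_lit 3) (nat_lit 0) (Step.B (nat_lit 1999) (Step.B (nat_lit 2008) (Step.L Step.done)))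 (Scr.cons (nat_lit 2) (nat_lit 0) (Step.D (nat_lit 1378) (Step.B (nat_lit 2009) (Step.D (nat_lit 1640) Step.done))) (Scr.cons (nat_lit 2) (nat_lit 0) (Step.D (nat_lit 1640) (Step.F (nat_lit 2010) Step.done)) (Scr.cons (nat_lit 21) (nat_lit 7) (Step.U (nat_lit 1440) (Step.L (Step.L (Step.L (Step.L (Step.L (Step.L (Step.L (Step.L (Step.L (Step.L (Step.D (nat_lit 584) (Step.D (nat_lit 1673) Step.done))))))))))))) (Scr.cons (nat_lit 8) (nat_lit 0) (Step.B (nat_lit 2012) (Step.U (nat_lit 1673) (Step.D (nat_lit 1672) Step.done))) (Scr.cons (nat_lit 13) (nat_lit 2) (Step.U (nat_lit 587) (Step.L (Step.D (nat_lit 584) (Step.D (nat_lit 1672) (Step.F (nat_lit 2013) (Step.U (nat_lit 1440) (Step.L (Step.L (Step.L (Step.L (Step.L (Step.D (nat_lit 459) (Step.D (nat_lit 1432) Step.done))))))))))))) (Scr.cons (nat_lit 8) (nat_lit 1) (Step.L (Step.L (Step.D (nat_lit 459) Step.done))) (Scr.cons (nat_lit 11) (nat_lit 1) (Step.F (nat_lit 2015) (Step.L (Step.L (Step.L (Step.L (Step.L (Step.D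 (nat_lit 101) (Step.D (nat_lit 468) Step.done)))))))) (Scr.cons (nat_lit 2) (nat_lit 0) (Step.B (nat_lit 2016) (Step.B (nat_lit 1803) (Step.L Step.done))) (Scr.cons (nat_lit 1) (nat_lit 0) (Step.U (nat_lit 1432) (Step.B (nat_lit 2017) (Step.L Step.done))) (Scr.cons (nat_lit 3) (nat_lit 0) (Step.B (nat_lit 2014) (Step.B (nat_lit 2018) (Step.L Step.done))) (Scr.cons (nat_lit 2) (nat_lit 0) (Step.D (nat_lit 587) (Step.B (nat_lit 2019) (Step.D (nat_lit 1250) Step.done))) (Scr.cons (nat_lit 2) (nat_lit 0) (Step.D (nat_lit 1250) (Step.F (nat_lit 2020) Step.done)) (Scr.cons (nat_lit 8) (nat_lit 3) (Step.U (nat_lit 325) (Step.L (Step.D (nat_lit 1140) Step.done))) (Scr.cons (nat_lit 13) (nat_lit 5) (Step.F (nat_lit 2022) (Step.U (nat_lit 325) (Step.L (Step.L (Step.L (Step.L (Step.L (Step.L (Step.L (Step.L (Step.L (Step.L (Step.D (nat_lit 630) Step.done))))))))))))) (Scr.cons (nat_lit 3) (nat_lit 0) (Step.D (nat_lit 459) (Step.B (nat_lit 2017) (Step.D (nat_lit 630) Step.done)))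 (Scr.cons (nat_lit 2) (nat_lit 0) (Step.B (nat_lit 2023) (Step.F (nat_lit 2024) (Step.L Step.done))) (Scr.cons (nat_lit 3) (nat_lit 1) (Step.D (nat_lit 1140) (Step.B (nat_lit 2025) (Step.D (nat_lit 1431) Step.done))) (Scr.cons (nat_lit 3) (nat_lit 1) (Step.D (nat_lit 1431) (Step.F (nat_lit 2026) Step.done)) (Scr.cons (nat_lit 9) (nat_lit 0) (Step.U (nat_lit 619) (Step.D (nat_lit 620) Step.done)) (Scr.cons (nat_lit 8) (nat_lit 1) (Step.U (nat_lit 143) (Step.D (nat_lit 142) (Step.D (nat_lit 619) Step.done))) (Scr.cons (nat_lit 8) (nat_lit 2) (Step.U (nat_lit 1417) (Step.L (Step.D (nat_lit 1418) Step.done))) (Scr.cons (nat_lit 10) (nat_lit 1) (Step.F (nat_lit 2028) (Step.F (nat_lit 2029) (Step.U (nat_lit 143) (Step.U (nat_lit 18) (Step.L (Step.L (Step.L (Step.L (Step.L (Step.L (Step.L (Step.D (nat_lit 1418) (Step.F (nat_lit 2030) Step.done))))))))))))) (Scr.cons (nat_lit 8) (nat_lit 0) (Step.F (nat_lit 2031) (Step.F (nat_lit 2028) (Step.D (nat_lit 1720) Step.done))) (Scr.cons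 (nat_lit 18) (nat_lit 0) (Step.F (nat_lit 2032) (Step.B (nat_lit 2030) Step.done)) (Scr.cons (nat_lit 9) (nat_lit 0) (Step.U (nat_lit 143) (Step.D (nat_lit 144) Step.done)) (Scr.cons (nat_lit 8) (nat_lit 3) (Step.L (Step.D (nat_lit 104) (Step.D (nat_lit 486) Step.done))) (Scr.cons (nat_lit 13) (nat_lit 5) (Step.F (nat_lit 2035) (Step.L (Step.L (Step.L (Step.L (Step.L (Step.L (Step.L (Step.L (Step.L (Step.L (Step.L (Step.D (nat_lit 1402) Step.done))))))))))))) (Scr.cons (nat_lit 8) (nat_lit 3) (Step.L (Step.D (nat_lit 18) (Step.D (nat_lit 144) Step.done))) (Scr.cons (nat_lit 21) (nat_lit 4) (Step.F (nat_lit 2036) (Step.U (nat_lit 486) (Step.U (nat_lit 104) (Step.L (Step.L (Step.L (Step.L (Step.L (Step.L (Step.L (Step.B (nat_lit 2037) (Step.D (nat_lit 623) (Step.D (nat_lit 1721) Step.done))))))))))))) (Scr.cons (nat_lit 3) (nat_lit 0) (Step.U (nat_lit 486) (Step.B (nat_lit 1615) (Step.L Step.done))) (Scr.cons (nat_lit 2) (nat_lit 0) (Step.F (nat_lit 2036) (Step.B (nat_lit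 2039) (Step.L Step.done))) (Scr.cons (nat_lit 1) (nat_lit 0) (Step.F (nat_lit 2038) (Step.B (nat_lit 2040) (Step.D (nat_lit 1196) Step.done))) Scr.nil))))))))))))))))))))))))))))))))))))))))
noncomputable def s51 : Scr := (Scr.cons (nat_lit 21) (nat_lit 1) (Step.U (nat_lit 741) (Step.B (nat_lit 1058) (Step.F (nat_lit 1087) (Step.L (Step.L (Step.L (Step.L (Step.F (nat_lit 146) (Step.B (nat_lit 148) (Step.F (nat_lit 152) (Step.F (nat_lit 870) (Step.D (nat_lit 358) (Step.D (nat_lit 1219) Step.done))))))))))))) (Scr.cons (nat_lit 21) (nat_lit 0) (Step.U (nat_lit 419) (Step.U (nat_lit 82) (Step.L (Step.L (Step.L (Step.L (Step.L (Step.B (nat_lit 1087) (Step.F (nat_lit 1058) (Step.D (nat_lit 741) (Step.B (nat_lit 2042) (Step.F (nat_lit 857) (Step.B (nat_lit 856) Step.done))))))))))))) (Scr.cons (nat_lit 9) (nat_lit 0) (Step.F (nat_lit 871) (Step.D (nat_lit 1221) Step.done)) (Scr.cons (nat_lit 8) (nat_lit 0) (Step.B (nat_lit 2043) (Step.F (nat_lit 2044) (Step.D (nat_lit 1223)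 Step.done))) (Scr.cons (nat_lit 9) (nat_lit 0) (Step.U (nat_lit 328) (Step.D (nat_lit 329) Step.done)) (Scr.cons (nat_lit 8) (nat_lit 3) (Step.L (Step.L (Step.D (nat_lit 329) Step.done))) (Scr.cons (nat_lit 13) (nat_lit 3) (Step.U (nat_lit 82) (Step.L (Step.L (Step.D (nat_lit 410) (Step.F (nat_lit 77) (Step.L (Step.L (Step.L (Step.L (Step.L (Step.L (Step.L (Step.B (nat_lit 2047) (Step.F (nat_lit 2046) Step.done)))))))))))))) (Scr.cons (nat_lit 3) (nat_lit 0) (Step.F (nat_lit 2046) (Step.F (nat_lit 2048) Step.done)) (Scr.cons (nat_lit 8) (nat_lit 2) (Step.U (nat_lit 419) (Step.F (nat_lit 2049) (Step.D (nat_lit 1153) Step.done))) (Scr.cons (nat_lit 18) (nat_lit 0) (Step.F (nat_lit 2045) (Step.B (nat_lit 2050) Step.done)) (Scr.cons (nat_lit 8) (nat_lit 3) (Step.U (nat_lit 81) (Step.D (nat_lit 78) (Step.D (nat_lit 412) Step.done))) (Scr.cons (nat_lit 20) (nat_lit 1) (Step.F (nat_lit 2052) (Step.U (nat_lit 81) (Step.U (nat_lit 7) (Step.L (Step.L (Step.D (nat_lit 82) (Step.F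 (nat_lit 2049) (Step.D (nat_lit 1153) Step.done)))))))) (Scr.cons (nat_lit 9) (nat_lit 0) (Step.U (nat_lit 80) (Step.D (nat_lit 81) Step.done)) (Scr.cons (nat_lit 21) (nat_lit 2) (Step.U (nat_lit 2274) (Step.U (nat_lit 1222) (Step.U (nat_lit 359) (Step.B (nat_lit 870) (Step.D (nat_lit 360) (Step.D (nat_lit 1223) (Step.B (nat_lit 2051) (Step.F (nat_lit 2053) (Step.F (nat_lit 2052) (Step.F (nat_lit 2054) (Step.D (nat_lit 415) (Step.D (nat_lit 1337) (Step.D (nat_lit 2343) Step.done))))))))))))) (Scr.cons (nat_lit 1) (nat_lit 0) (Step.B (nat_lit 152) (Step.B (nat_lit 1016) (Step.L Step.done))) (Scr.cons (nat_lit 3) (nat_lit 0) (Step.B (nat_lit 870) (Step.B (nat_lit 2056) (Step.L Step.done))) (Scr.cons (nat_lit 2) (nat_lit 0) (Step.U (nat_lit 359) (Step.B (nat_lit 2057) (Step.L Step.done))) (Scr.cons (nat_lit 1) (nat_lit 0) (Step.U (nat_lit 1222) (Step.B (nat_lit 2058) (Step.L Step.done))) (Scr.cons (nat_lit 3) (nat_lit 0) (Step.U (nat_lit 2274) (Step.B (nat_lit 2059) (Step.L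 Step.done))) (Scr.cons (nat_lit 2) (nat_lit 0) (Step.F (nat_lit 2055) (Step.B (nat_lit 2060) (Step.L Step.done))) (Scr.cons (nat_lit 1) (nat_lit 0) (Step.D (nat_lit 2343) (Step.B (nat_lit 2061) (Step.D (nat_lit 1196) Step.done))) (Scr.cons (nat_lit 3) (nat_lit 0) (Step.B (nat_lit 1793) (Step.B (nat_lit 2062) (Step.D (nat_lit 2253) Step.done))) (Scr.cons (nat_lit 3) (nat_lit 0) (Step.D (nat_lit 2253) (Step.F (nat_lit 2063) Step.done)) (Scr.cons (nat_lit 3) (nat_lit 0) (Step.D (nat_lit 1721) (Step.B (nat_lit 2041) (Step.B (nat_lit 2064) Step.done))) (Scr.cons (nat_lit 2) (nat_lit 0) (Step.D (nat_lit 623) (Step.B (nat_lit 2065) (Step.U (nat_lit 471) Step.done))) (Scr.cons (nat_lit 3) (nat_lit 0) (Step.B (nat_lit 2034) (Step.B (nat_lit 2066) (Step.L Step.done))) (Scr.cons (nat_lit 0) (nat_lit 0) (Step.F (nat_lit 2029) (Step.B (nat_lit 2067) (Step.L Step.done))) (Scr.cons (nat_lit 1) (nat_lit 0) (Step.U (nat_lit 1720) (Step.B (nat_lit 2068) (Step.L Step.done))) (Scr.cons (nat_lit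 3) (nat_lit 0) (Step.F (nat_lit 2033) (Step.B (nat_lit 2069) (Step.L Step.done))) (Scr.cons (nat_lit 0) (nat_lit 0) (Step.D (nat_lit 1418) (Step.B (nat_lit 2070) (Step.D (nat_lit 2311) Step.done))) (Scr.cons (nat_lit 0) (nat_lit 0) (Step.D (nat_lit 2311) (Step.F (nat_lit 2071) Step.done)) (Scr.cons (nat_lit 8) (nat_lit 3) (Step.L (Step.D (nat_lit 1496) (Step.D (nat_lit 2443) Step.done))) (Scr.cons (nat_lit 3) (nat_lit 0) (Step.D (nat_lit 536) (Step.B (nat_lit 1112) (Step.B (nat_lit 246) Step.done))) (Scr.cons (nat_lit 0) (nat_lit 0) (Step.F (nat_lit 360) (Step.F (nat_lit 2074) (Step.L Step.done))) (Scr.cons (nat_lit 1) (nat_lit 0) (Step.U (nat_lit 1792) (Step.B (nat_lit 2075) (Step.D (nat_lit 1597) Step.done))) (Scr.cons (nat_lit 0) (nat_lit 0) (Step.F (nat_lit 368) (Step.B (nat_lit 2076) (Step.D (nat_lit 2523) Step.done))) (Scr.cons (nat_lit 0) (nat_lit 0) (Step.D (nat_lit 2523) (Step.F (nat_lit 2077) Step.done)) (Scr.cons (nat_lit 8) (nat_lit 1) (Step.L (Step.L (Step.D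 (nat_lit 820) Step.done))) (Scr.cons (nat_lit 20) (nat_lit 2) (Step.U (nat_lit 1952) (Step.U (nat_lit 819) (Step.L (Step.L (Step.L (Step.L (Step.B (nat_lit 2079) (Step.D (nat_lit 1953) Step.done)))))))) (Scr.cons (nat_lit 9) (nat_lit 0) (Step.U (nat_lit 1951) (Step.D (nat_lit 1952) Step.done)) Scr.nil))))))))))))))))))))))))))))))))))))))))
noncomputable def s52 : Scr := (Scr.cons (nat_lit 9) (nat_lit 0) (Step.U (nat_lit 86) (Step.D (nat_lit 87) Step.done)) (Scr.cons (nat_lit 8) (nat_lit 2) (Step.U (nat_lit 424) (Step.B (nat_lit 2082) (Step.D (nat_lit 425) Step.done))) (Scr.cons (nat_lit 13) (nat_lit 6) (Step.L (Step.L (Step.L (Step.L (Step.L (Step.L (Step.L (Step.L (Step.L (Step.L (Step.D (nat_lit 8) (Step.D (nat_lit 87) (Step.D (nat_lit 426) Step.done))))))))))))) (Scr.cons (nat_lit 12) (nat_lit 13) (Step.L (Step.L (Step.L (Step.L (Step.L (Step.L (Step.L (Step.L (Step.L (Step.L (Step.L (Step.L (Step.D (nat_lit 309) Step.done))))))))))))) (Scr.cons (nat_lit 8) (nat_lit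 2) (Step.F (nat_lit 2084) (Step.L (Step.B (nat_lit 2085) Step.done))) (Scr.cons (nat_lit 20) (nat_lit 3) (Step.U (nat_lit 1348) (Step.B (nat_lit 2083) (Step.U (nat_lit 425) (Step.D (nat_lit 426) (Step.B (nat_lit 2086) (Step.F (nat_lit 2085) (Step.D (nat_lit 819) (Step.D (nat_lit 1950) Step.done)))))))) (Scr.cons (nat_lit 8) (nat_lit 1) (Step.B (nat_lit 2087) (Step.U (nat_lit 1950) (Step.D (nat_lit 1951) Step.done))) (Scr.cons (nat_lit 11) (nat_lit 3) (Step.U (nat_lit 1348) (Step.B (nat_lit 43) (Step.L (Step.L (Step.D (nat_lit 16) (Step.D (nat_lit 135) (Step.B (nat_lit 954) (Step.D (nat_lit 1499) Step.done)))))))) (Scr.cons (nat_lit 8) (nat_lit 3) (Step.B (nat_lit 2089) (Step.U (nat_lit 1499) (Step.D (nat_lit 1500) Step.done))) (Scr.cons (nat_lit 9) (nat_lit 0) (Step.F (nat_lit 1250) (Step.D (nat_lit 1630) Step.done)) (Scr.cons (nat_lit 9) (nat_lit 0) (Step.F (nat_lit 953) (Step.D (nat_lit 1500) Step.done)) (Scr.cons (nat_lit 8) (nat_lit 1) (Step.F (nat_lit 2091) (Step.U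 (nat_lit 1501) (Step.B (nat_lit 2092) Step.done))) (Scr.cons (nat_lit 0) (nat_lit 0) (Step.F (nat_lit 2093) (Step.B (nat_lit 998) (Step.D (nat_lit 871) Step.done))) (Scr.cons (nat_lit 1) (nat_lit 0) (Step.B (nat_lit 2090) (Step.B (nat_lit 2094) (Step.D (nat_lit 1994) Step.done))) (Scr.cons (nat_lit 1) (nat_lit 0) (Step.D (nat_lit 1994) (Step.F (nat_lit 2095) Step.done)) (Scr.cons (nat_lit 1) (nat_lit 0) (Step.F (nat_lit 2096) (Step.F (nat_lit 1757) (Step.L Step.done))) (Scr.cons (nat_lit 0) (nat_lit 0) (Step.F (nat_lit 2088) (Step.B (nat_lit 2097) (Step.L Step.done))) (Scr.cons (nat_lit 3) (nat_lit 1) (Step.F (nat_lit 2081) (Step.B (nat_lit 2098) (Step.L Step.done))) (Scr.cons (nat_lit 1) (nat_lit 0) (Step.F (nat_lit 2080) (Step.B (nat_lit 2099) (Step.B (nat_lit 369) Step.done))) (Scr.cons (nat_lit 20) (nat_lit 5) (Step.U (nat_lit 1949) (Step.U (nat_lit 819) (Step.L (Step.L (Step.L (Step.L (Step.D (nat_lit 820) (Step.D (nat_lit 1953) Step.done)))))))) (Scr.cons (nat_lit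 19) (nat_lit 0) (Step.F (nat_lit 2101) (Step.U (nat_lit 1949) (Step.D (nat_lit 1951) (Step.F (nat_lit 2088) (Step.B (nat_lit 2089) (Step.U (nat_lit 1499) (Step.B (nat_lit 953) (Step.L (Step.L (Step.L (Step.L (Step.L (Step.L Step.done))))))))))))) (Scr.cons (nat_lit 0) (nat_lit 0) (Step.B (nat_lit 2078) (Step.F (nat_lit 2100) (Step.B (nat_lit 2102) Step.done))) (Scr.cons (nat_lit 1) (nat_lit 0) (Step.D (nat_lit 1597) (Step.B (nat_lit 2103) (Step.B (nat_lit 2073) Step.done))) (Scr.cons (nat_lit 1) (nat_lit 0) (Step.B (nat_lit 2073) (Step.F (nat_lit 2104) Step.done)) (Scr.cons (nat_lit 2) (nat_lit 0) (Step.D (nat_lit 1700) (Step.F (nat_lit 363) Step.done)) (Scr.cons (nat_lit 1) (nat_lit 0) (Step.B (nat_lit 356) (Step.F (nat_lit 363) Step.done)) (Scr.cons (nat_lit 1) (nat_lit 0) (Step.D (nat_lit 493) (Step.B (nat_lit 1942) (Step.F (nat_lit 277) Step.done))) (Scr.cons (nat_lit 3) (nat_lit 0) (Step.B (nat_lit 276) (Step.F (nat_lit 2108) (Step.L Step.done))) (Scr.cons (nat_lit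 0) (nat_lit 0) (Step.U (nat_lit 708) (Step.B (nat_lit 2109) (Step.L Step.done))) (Scr.cons (nat_lit 1) (nat_lit 0) (Step.F (nat_lit 2107) (Step.B (nat_lit 2110) (Step.L Step.done))) (Scr.cons (nat_lit 2) (nat_lit 0) (Step.B (nat_lit 2106) (Step.B (nat_lit 2111) (Step.D (nat_lit 1497) Step.done))) (Scr.cons (nat_lit 2) (nat_lit 0) (Step.D (nat_lit 1497) (Step.F (nat_lit 2112) Step.done)) (Scr.cons (nat_lit 9) (nat_lit 0) (Step.L (Step.D (nat_lit 611) Step.done)) (Scr.cons (nat_lit 12) (nat_lit 8) (Step.U (nat_lit 1707) (Step.L (Step.L (Step.L (Step.L (Step.L (Step.L (Step.L (Step.L (Step.L (Step.D (nat_lit 470) (Step.D (nat_lit 1459) (Step.D (nat_lit 2428) Step.done))))))))))))) (Scr.cons (nat_lit 8) (nat_lit 2) (Step.U (nat_lit 606) (Step.L (Step.D (nat_lit 607) Step.done))) (Scr.cons (nat_lit 9) (nat_lit 0) (Step.F (nat_lit 2116) (Step.D (nat_lit 1705) Step.done)) (Scr.cons (nat_lit 8) (nat_lit 2) (Step.U (nat_lit 621) (Step.B (nat_lit 2034) (Step.D (nat_lit 622) Step.done)))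 (Scr.cons (nat_lit 10) (nat_lit 1) (Step.F (nat_lit 2117) (Step.U (nat_lit 607) (Step.L (Step.L (Step.L (Step.L (Step.L (Step.L (Step.L (Step.D (nat_lit 18) (Step.D (nat_lit 144) (Step.D (nat_lit 622) (Step.F (nat_lit 2118) Step.done))))))))))))) (Scr.cons (nat_lit 8) (nat_lit 0) (Step.F (nat_lit 2119) (Step.F (nat_lit 2117) (Step.D (nat_lit 1706) Step.done))) (Scr.cons (nat_lit 18) (nat_lit 0) (Step.F (nat_lit 2120) (Step.B (nat_lit 2118) Step.done)) Scr.nil))))))))))))))))))))))))))))))))))))))))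
noncomputable def s53 : Scr := (Scr.cons (nat_lit 12) (nat_lit 4) (Step.U (nat_lit 1127) (Step.F (nat_lit 1068) (Step.L (Step.L (Step.L (Step.L (Step.L (Step.L (Step.L (Step.L (Step.L (Step.D (nat_lit 606) (Step.D (nat_lit 1704) Step.done))))))))))))) (Scr.cons (nat_lit 1) (nat_lit 0) (Step.U (nat_lit 1127) (Step.F (nat_lit 1089) (Step.L Step.done))) (Scr.cons (nat_lit 3) (nat_lit 0) (Step.F (nat_lit 2122) (Step.B (nat_lit 2123) (Step.L Step.done))) (Scr.cons (nat_lit 2) (nat_lit 0) (Step.D (nat_lit 1704) (Step.B (nat_lit 2124) (Step.L Step.done))) (Scr.cons (nat_lit 3) (nat_lit 1) (Step.F (nat_lit 2116) (Step.B (nat_lit 2125) (Step.D (nat_lit 588) Step.done))) (Scr.cons (nat_lit 1) (nat_lit 0) (Step.U (nat_lit 1706) (Step.B (nat_lit 2126) (Step.D (nat_lit 1680) Step.done))) (Scr.cons (nat_lit 3) (nat_lit 1) (Step.F (nat_lit 2121) (Step.B (nat_lit 2127) Step.done)) (Scr.cons (nat_lit 0) (nat_lit 0) (Step.U (nat_lit 622) (Step.B (nat_lit 2066) (Step.L Step.done))) (Scr.cons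 (nat_lit 8) (nat_lit 2) (Step.U (nat_lit 470) (Step.L (Step.L Step.done))) (Scr.cons (nat_lit 9) (nat_lit 0) (Step.F (nat_lit 2130) (Step.D (nat_lit 1461) Step.done)) (Scr.cons (nat_lit 3) (nat_lit 1) (Step.F (nat_lit 2128) (Step.B (nat_lit 2129) (Step.B (nat_lit 2131) Step.done))) (Scr.cons (nat_lit 8) (nat_lit 3) (Step.U (nat_lit 1461) (Step.D (nat_lit 1459) (Step.D (nat_lit 2428) Step.done))) (Scr.cons (nat_lit 1) (nat_lit 0) (Step.D (nat_lit 1680) (Step.B (nat_lit 2132) (Step.B (nat_lit 2133) Step.done))) (Scr.cons (nat_lit 2) (nat_lit 0) (Step.B (nat_lit 2115) (Step.F (nat_lit 2134) (Step.D (nat_lit 1681) Step.done))) (Scr.cons (nat_lit 8) (nat_lit 1) (Step.L (Step.D (nat_lit 17) (Step.D (nat_lit 137) Step.done))) (Scr.cons (nat_lit 13) (nat_lit 3) (Step.L (Step.L (Step.L (Step.L (Step.L (Step.L (Step.L (Step.L (Step.L (Step.D (nat_lit 17) (Step.D (nat_lit 137) (Step.D (nat_lit 605) (Step.D (nat_lit 1702) Step.done))))))))))))) (Scr.cons (nat_lit 21) (nat_lit 12)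 (Step.U (nat_lit 1688) (Step.U (nat_lit 592) (Step.L (Step.L (Step.L (Step.L (Step.L (Step.L (Step.B (nat_lit 2136) (Step.D (nat_lit 605) (Step.D (nat_lit 1702) (Step.F (nat_lit 2137) (Step.D (nat_lit 1707) Step.done))))))))))))) (Scr.cons (nat_lit 8) (nat_lit 1) (Step.F (nat_lit 2138) (Step.U (nat_lit 1688) (Step.D (nat_lit 1690) Step.done))) (Scr.cons (nat_lit 3) (nat_lit 0) (Step.F (nat_lit 496) (Step.F (nat_lit 497) Step.done)) (Scr.cons (nat_lit 8) (nat_lit 3) (Step.L (Step.D (nat_lit 592) (Step.D (nat_lit 1691) Step.done))) (Scr.cons (nat_lit 9) (nat_lit 0) (Step.F (nat_lit 2083) (Step.B (nat_lit 43) Step.done)) (Scr.cons (nat_lit 12) (nat_lit 13) (Step.F (nat_lit 2141) (Step.L (Step.L (Step.L (Step.L (Step.L (Step.L (Step.L (Step.L (Step.L (Step.F (nat_lit 2142) (Step.D (nat_lit 1350) (Step.D (nat_lit 2352) Step.done))))))))))))) (Scr.cons (nat_lit 18) (nat_lit 0) (Step.L (Step.D (nat_lit 1671) Step.done)) (Scr.cons (nat_lit 8) (nat_lit 3) (Step.F (nat_lit 2144)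 (Step.L (Step.L Step.done))) (Scr.cons (nat_lit 9) (nat_lit 0) (Step.U (nat_lit 2353) (Step.D (nat_lit 2354) Step.done)) (Scr.cons (nat_lit 22) (nat_lit 5) (Step.U (nat_lit 1502) (Step.U (nat_lit 494) (Step.L (Step.L (Step.L (Step.L (Step.D (nat_lit 493) (Step.D (nat_lit 1500) (Step.F (nat_lit 2090) (Step.U (nat_lit 1348) (Step.B (nat_lit 2083) (Step.D (nat_lit 1350) (Step.D (nat_lit 2353) Step.done))))))))))))) (Scr.cons (nat_lit 9) (nat_lit 0) (Step.U (nat_lit 1502) (Step.D (nat_lit 1503) Step.done)) (Scr.cons (nat_lit 8) (nat_lit 1) (Step.F (nat_lit 2146) (Step.F (nat_lit 2147) (Step.B (nat_lit 2148) Step.done))) (Scr.cons (nat_lit 21) (nat_lit 13) (Step.U (nat_lit 1485) (Step.U (nat_lit 481) (Step.L (Step.L (Step.L (Step.L (Step.L (Step.L (Step.L (Step.L (Step.L (Step.D (nat_lit 494) (Step.D (nat_lit 1503) Step.done))))))))))))) (Scr.cons (nat_lit 20) (nat_lit 4) (Step.U (nat_lit 994) (Step.U (nat_lit 257) (Step.U (nat_lit 42) (Step.B (nat_lit 8) (Step.D (nat_lit 43)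 (Step.D (nat_lit 259) (Step.D (nat_lit 996) (Step.F (nat_lit 1039) Step.done)))))))) (Scr.cons (nat_lit 3) (nat_lit 0) (Step.U (nat_lit 994) (Step.B (nat_lit 1266) (Step.L Step.done))) (Scr.cons (nat_lit 2) (nat_lit 0) (Step.F (nat_lit 2151) (Step.B (nat_lit 2152) (Step.L Step.done))) (Scr.cons (nat_lit 1) (nat_lit 0) (Step.D (nat_lit 624) (Step.B (nat_lit 2153) (Step.D (nat_lit 581) Step.done))) (Scr.cons (nat_lit 1) (nat_lit 0) (Step.D (nat_lit 581) (Step.F (nat_lit 2154) Step.done)) (Scr.cons (nat_lit 3) (nat_lit 1) (Step.D (nat_lit 483) (Step.B (nat_lit 1705) (Step.F (nat_lit 1035) Step.done))) (Scr.cons (nat_lit 1) (nat_lit 0) (Step.B (nat_lit 2155) (Step.F (nat_lit 2156) (Step.D (nat_lit 481) Step.done))) (Scr.cons (nat_lit 0) (nat_lit 0) (Step.U (nat_lit 1485) (Step.F (nat_lit 2157) (Step.L Step.done))) (Scr.cons (nat_lit 1) (nat_lit 0) (Step.F (nat_lit 2150) (Step.B (nat_lit 2158) (Step.L Step.done))) (Scr.cons (nat_lit 0) (nat_lit 0) (Step.B (nat_lit 2149) (Step.B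 (nat_lit 2159) (Step.L Step.done))) (Scr.cons (nat_lit 3) (nat_lit 1) (Step.D (nat_lit 2354) (Step.B (nat_lit 2160) (Step.D (nat_lit 1671) Step.done))) Scr.nil))))))))))))))))))))))))))))))))))))))))
noncomputable def s54 : Scr := (Scr.cons (nat_lit 1) (nat_lit 0) (Step.F (nat_lit 2145) (Step.F (nat_lit 2161) (Step.D (nat_lit 2352) Step.done))) (Scr.cons (nat_lit 0) (nat_lit 0) (Step.B (nat_lit 2143) (Step.F (nat_lit 2162) (Step.D (nat_lit 1890) Step.done))) (Scr.cons (nat_lit 9) (nat_lit 0) (Step.U (nat_lit 1690) (Step.D (nat_lit 1691) Step.done)) (Scr.cons (nat_lit 3) (nat_lit 0) (Step.F (nat_lit 2140) (Step.F (nat_lit 2163) (Step.F (nat_lit 2164) Step.done))) (Scr.cons (nat_lit 0) (nat_lit 0) (Step.F (nat_lit 2135) (Step.B (nat_lit 2139) (Step.F (nat_lit 2165) (Step.U (nat_lit 1659) Step.done)))) (Scr.cons (nat_lit 8) (nat_lit 3) (Step.U (nat_lit 574) (Step.L (Step.D (nat_lit 1656) Step.done))) (Scr.cons (nat_lit 1) (nat_lit 0) (Step.D (nat_lit 1707) (Step.B (nat_lit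 2135) (Step.B (nat_lit 2166) (Step.B (nat_lit 2167) Step.done)))) (Scr.cons (nat_lit 3) (nat_lit 1) (Step.D (nat_lit 1656) (Step.F (nat_lit 2168) (Step.B (nat_lit 2114) Step.done))) (Scr.cons (nat_lit 3) (nat_lit 1) (Step.B (nat_lit 2114) (Step.F (nat_lit 2169) Step.done)) (Scr.cons (nat_lit 9) (nat_lit 0) (Step.U (nat_lit 134) (Step.D (nat_lit 135) Step.done)) (Scr.cons (nat_lit 8) (nat_lit 2) (Step.U (nat_lit 600) (Step.B (nat_lit 2171) (Step.D (nat_lit 601) Step.done))) (Scr.cons (nat_lit 10) (nat_lit 1) (Step.L (Step.L (Step.L (Step.L (Step.L (Step.L (Step.L (Step.L (Step.L (Step.D (nat_lit 16) (Step.D (nat_lit 135) (Step.D (nat_lit 601) (Step.F (nat_lit 2172) Step.done))))))))))))) (Scr.cons (nat_lit 8) (nat_lit 0) (Step.F (nat_lit 2173) (Step.L (Step.L Step.done))) (Scr.cons (nat_lit 18) (nat_lit 0) (Step.F (nat_lit 2174) (Step.B (nat_lit 2172) Step.done)) (Scr.cons (nat_lit 8) (nat_lit 1) (Step.L (Step.L (Step.D (nat_lit 699) Step.done))) (Scr.cons (nat_lit 11)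 (nat_lit 3) (Step.U (nat_lit 1687) (Step.B (nat_lit 2175) (Step.B (nat_lit 1934) (Step.L (Step.B (nat_lit 2176) (Step.U (nat_lit 699) (Step.D (nat_lit 698) (Step.D (nat_lit 1823) Step.done)))))))) (Scr.cons (nat_lit 8) (nat_lit 3) (Step.B (nat_lit 2177) (Step.U (nat_lit 1823) (Step.D (nat_lit 1825) Step.done))) (Scr.cons (nat_lit 18) (nat_lit 0) (Step.F (nat_lit 1723) (Step.L Step.done)) (Scr.cons (nat_lit 3) (nat_lit 1) (Step.B (nat_lit 2175) (Step.B (nat_lit 1944) (Step.F (nat_lit 2179) Step.done))) (Scr.cons (nat_lit 2) (nat_lit 0) (Step.D (nat_lit 1376) (Step.F (nat_lit 2180) (Step.D (nat_lit 1687) Step.done))) (Scr.cons (nat_lit 1) (nat_lit 0) (Step.F (nat_lit 2178) (Step.F (nat_lit 2181) (Step.L Step.done))) (Scr.cons (nat_lit 3) (nat_lit 1) (Step.D (nat_lit 1825) (Step.B (nat_lit 2182) (Step.L Step.done))) (Scr.cons (nat_lit 2) (nat_lit 0) (Step.D (nat_lit 698) (Step.B (nat_lit 2183) Step.done)) (Scr.cons (nat_lit 20) (nat_lit 5) (Step.U (nat_lit 10) (Step.L (Step.L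 (Step.L (Step.L (Step.L (Step.L (Step.D (nat_lit 45) Step.done)))))))) (Scr.cons (nat_lit 22) (nat_lit 0) (Step.U (nat_lit 2056) (Step.U (nat_lit 945) (Step.L (Step.L (Step.L (Step.L (Step.L (Step.D (nat_lit 45) (Step.F (nat_lit 2185) (Step.D (nat_lit 99) (Step.D (nat_lit 461) (Step.D (nat_lit 1441) (Step.D (nat_lit 2420) Step.done))))))))))))) (Scr.cons (nat_lit 8) (nat_lit 2) (Step.U (nat_lit 383) (Step.L (Step.D (nat_lit 1280) Step.done))) (Scr.cons (nat_lit 9) (nat_lit 0) (Step.F (nat_lit 2187) (Step.D (nat_lit 1282) Step.done)) (Scr.cons (nat_lit 8) (nat_lit 2) (Step.U (nat_lit 2306) (Step.B (nat_lit 2188) (Step.D (nat_lit 2310) Step.done))) (Scr.cons (nat_lit 19) (nat_lit 1) (Step.U (nat_lit 2305) (Step.L (Step.L (Step.L (Step.L (Step.L (Step.L (Step.L (Step.L (Step.L (Step.D (nat_lit 1280) (Step.B (nat_lit 2188) (Step.D (nat_lit 2310) Step.done))))))))))))) (Scr.cons (nat_lit 18) (nat_lit 0) (Step.B (nat_lit 2189) (Step.F (nat_lit 2190) Step.done)) (Scr.cons (nat_lit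 3) (nat_lit 1) (Step.D (nat_lit 1590) (Step.F (nat_lit 1404) Step.done)) (Scr.cons (nat_lit 3) (nat_lit 1) (Step.F (nat_lit 2192) (Step.B (nat_lit 1479) (Step.F (nat_lit 2185) Step.done))) (Scr.cons (nat_lit 2) (nat_lit 0) (Step.D (nat_lit 1281) (Step.B (nat_lit 2193) (Step.D (nat_lit 99) Step.done))) (Scr.cons (nat_lit 3) (nat_lit 1) (Step.F (nat_lit 2187) (Step.B (nat_lit 2194) (Step.D (nat_lit 461) Step.done))) (Scr.cons (nat_lit 1) (nat_lit 0) (Step.U (nat_lit 2306) (Step.B (nat_lit 2195) (Step.D (nat_lit 1441) Step.done))) (Scr.cons (nat_lit 3) (nat_lit 0) (Step.F (nat_lit 2191) (Step.B (nat_lit 2196) (Step.D (nat_lit 2420) Step.done))) (Scr.cons (nat_lit 1) (nat_lit 0) (Step.B (nat_lit 2186) (Step.F (nat_lit 2197) Step.done)) (Scr.cons (nat_lit 3) (nat_lit 0) (Step.B (nat_lit 1947) (Step.B (nat_lit 1990) (Step.D (nat_lit 945) Step.done))) (Scr.cons (nat_lit 2) (nat_lit 0) (Step.U (nat_lit 2056) (Step.F (nat_lit 2199) (Step.D (nat_lit 1921) Step.done))) (Scr.cons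 (nat_lit 20) (nat_lit 2) (Step.L (Step.L (Step.L (Step.L (Step.D (nat_lit 388) (Step.D (nat_lit 1290) (Step.F (nat_lit 1863) (Step.D (nat_lit 1921) Step.done)))))))) Scr.nil))))))))))))))))))))))))))))))))))))))))
noncomputable def s55 : Scr := (Scr.cons (nat_lit 1) (nat_lit 0) (Step.F (nat_lit 2198) (Step.B (nat_lit 2200) (Step.F (nat_lit 2201) Step.done))) (Scr.cons (nat_lit 0) (nat_lit 0) (Step.D (nat_lit 2305) (Step.B (nat_lit 2202) (Step.D (nat_lit 2319) Step.done))) (Scr.cons (nat_lit 0) (nat_lit 0) (Step.D (nat_lit 2319) (Step.F (nat_lit 2203) Step.done)) (Scr.cons (nat_lit 8) (nat_lit 3) (Step.L (Step.D (nat_lit 1456) (Step.D (nat_lit 2425) Step.done))) (Scr.cons (nat_lit 8) (nat_lit 3) (Step.L (Step.D (nat_lit 472) (Step.D (nat_lit 1465) Step.done))) (Scr.cons (nat_lit 9) (nat_lit 0) (Step.U (nat_lit 1464) (Step.D (nat_lit 1465) Step.done)) (Scr.cons (nat_lit 18) (nat_lit 0) (Step.B (nat_lit 494) (Step.F (nat_lit 2140) Step.done)) (Scr.cons (nat_lit 3) (nat_lit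 1) (Step.B (nat_lit 2208) (Step.F (nat_lit 2163) (Step.U (nat_lit 1691) Step.done))) (Scr.cons (nat_lit 12) (nat_lit 10) (Step.U (nat_lit 781) (Step.L (Step.L (Step.L (Step.L (Step.L (Step.L (Step.L (Step.L (Step.L (Step.L (Step.L (Step.D (nat_lit 1382) Step.done))))))))))))) (Scr.cons (nat_lit 9) (nat_lit 0) (Step.F (nat_lit 2210) (Step.D (nat_lit 1913) Step.done)) (Scr.cons (nat_lit 8) (nat_lit 1) (Step.F (nat_lit 2211) (Step.U (nat_lit 1382) (Step.D (nat_lit 1383) Step.done))) (Scr.cons (nat_lit 3) (nat_lit 0) (Step.U (nat_lit 1913) (Step.F (nat_lit 2007) (Step.L Step.done))) (Scr.cons (nat_lit 0) (nat_lit 0) (Step.F (nat_lit 2212) (Step.B (nat_lit 2213) (Step.L Step.done))) (Scr.cons (nat_lit 2) (nat_lit 0) (Step.F (nat_lit 2209) (Step.B (nat_lit 499) (Step.B (nat_lit 2214) (Step.D (nat_lit 1639) Step.done)))) (Scr.cons (nat_lit 2) (nat_lit 0) (Step.D (nat_lit 1639) (Step.F (nat_lit 2215) (Step.D (nat_lit 1689) Step.done))) (Scr.cons (nat_lit 21) (nat_lit 4) (Step.U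 (nat_lit 1689) (Step.D (nat_lit 1690) (Step.F (nat_lit 2139) (Step.U (nat_lit 1707) (Step.L (Step.L (Step.L (Step.L (Step.L (Step.D (nat_lit 18) (Step.D (nat_lit 142) (Step.D (nat_lit 618) (Step.D (nat_lit 1719) Step.done))))))))))))) (Scr.cons (nat_lit 3) (nat_lit 1) (Step.D (nat_lit 144) (Step.B (nat_lit 2066) (Step.L Step.done))) (Scr.cons (nat_lit 1) (nat_lit 0) (Step.U (nat_lit 142) (Step.B (nat_lit 2218) (Step.L Step.done))) (Scr.cons (nat_lit 2) (nat_lit 0) (Step.U (nat_lit 618) (Step.B (nat_lit 2219) (Step.L Step.done))) (Scr.cons (nat_lit 3) (nat_lit 1) (Step.U (nat_lit 1719) (Step.B (nat_lit 2220) (Step.D (nat_lit 1457) Step.done))) (Scr.cons (nat_lit 1) (nat_lit 0) (Step.B (nat_lit 2216) (Step.B (nat_lit 2217) (Step.B (nat_lit 2221) (Step.D (nat_lit 2426) Step.done)))) (Scr.cons (nat_lit 9) (nat_lit 0) (Step.L (Step.D (nat_lit 478) Step.done)) (Scr.cons (nat_lit 8) (nat_lit 2) (Step.U (nat_lit 479) (Step.B (nat_lit 2223) (Step.D (nat_lit 1482) Step.done))) (Scr.cons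 (nat_lit 9) (nat_lit 0) (Step.F (nat_lit 2224) (Step.D (nat_lit 1483) Step.done)) (Scr.cons (nat_lit 10) (nat_lit 1) (Step.F (nat_lit 2225) (Step.U (nat_lit 1482) (Step.F (nat_lit 2223) (Step.L (Step.L (Step.L (Step.L (Step.L (Step.L (Step.L (Step.L (Step.D (nat_lit 472) (Step.D (nat_lit 1465) Step.done))))))))))))) (Scr.cons (nat_lit 8) (nat_lit 3) (Step.B (nat_lit 2225) (Step.B (nat_lit 2226) (Step.F (nat_lit 2207) Step.done))) (Scr.cons (nat_lit 3) (nat_lit 1) (Step.F (nat_lit 616) (Step.B (nat_lit 1029) (Step.L Step.done))) (Scr.cons (nat_lit 2) (nat_lit 0) (Step.F (nat_lit 622) (Step.B (nat_lit 2228) (Step.L Step.done))) (Scr.cons (nat_lit 0) (nat_lit 0) (Step.U (nat_lit 1482) (Step.B (nat_lit 2229) (Step.L Step.done))) (Scr.cons (nat_lit 1) (nat_lit 0) (Step.F (nat_lit 2227) (Step.B (nat_lit 2230) (Step.D (nat_lit 1638) Step.done))) (Scr.cons (nat_lit 1) (nat_lit 0) (Step.D (nat_lit 1638) (Step.F (nat_lit 2231) Step.done)) (Scr.cons (nat_lit 1) (nat_lit 0) (Step.D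 (nat_lit 2426) (Step.F (nat_lit 2222) (Step.B (nat_lit 2232) Step.done))) (Scr.cons (nat_lit 9) (nat_lit 0) (Step.U (nat_lit 1457) (Step.L Step.done)) (Scr.cons (nat_lit 3) (nat_lit 1) (Step.F (nat_lit 2207) (Step.F (nat_lit 2233) (Step.B (nat_lit 2234) Step.done))) (Scr.cons (nat_lit 1) (nat_lit 0) (Step.B (nat_lit 2206) (Step.B (nat_lit 2235) (Step.B (nat_lit 2205) Step.done))) (Scr.cons (nat_lit 1) (nat_lit 0) (Step.B (nat_lit 2205) (Step.F (nat_lit 2236) Step.done)) (Scr.cons (nat_lit 8) (nat_lit 1) (Step.L (Step.D (nat_lit 487) (Step.D (nat_lit 1491) Step.done))) (Scr.cons (nat_lit 9) (nat_lit 0) (Step.U (nat_lit 1401) (Step.D (nat_lit 1402) Step.done)) (Scr.cons (nat_lit 11) (nat_lit 7) (Step.F (nat_lit 2238) (Step.L (Step.L (Step.D (nat_lit 104) (Step.D (nat_lit 486) (Step.B (nat_lit 2036) (Step.F (nat_lit 2239) (Step.D (nat_lit 2395) Step.done)))))))) (Scr.cons (nat_lit 8) (nat_lit 2) (Step.U (nat_lit 2395) (Step.B (nat_lit 2239) (Step.D (nat_lit 2396) Step.done)))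 Scr.nil))))))))))))))))))))))))))))))))))))))))
noncomputable def s56 : Scr := (Scr.cons (nat_lit 21) (nat_lit 4) (Step.B (nat_lit 2240) (Step.B (nat_lit 2241) (Step.U (nat_lit 2396) (Step.B (nat_lit 2038) (Step.U (nat_lit 1721) (Step.U (nat_lit 623) (Step.F (nat_lit 2037) (Step.L (Step.L (Step.L (Step.L (Step.D (nat_lit 1421) (Step.D (nat_lit 2406) Step.done))))))))))))) (Scr.cons (nat_lit 22) (nat_lit 0) (Step.U (nat_lit 2407) (Step.U (nat_lit 1422) (Step.D (nat_lit 1421) (Step.D (nat_lit 2406) (Step.F (nat_lit 2242) (Step.U (nat_lit 1491) (Step.U (nat_lit 487) (Step.L (Step.L (Step.L (Step.D (nat_lit 490) (Step.D (nat_lit 1495) (Step.D (nat_lit 2442) Step.done))))))))))))) (Scr.cons (nat_lit 8) (nat_lit 2) (Step.B (nat_lit 2243) (Step.U (nat_lit 2442) (Step.D (nat_lit 2441) Step.done))) (Scr.cons (nat_lit 8) (nat_lit 3) (Step.U (nat_lit 1439) (Step.D (nat_lit 1437) (Step.D (nat_lit 2419) Step.done))) (Scr.cons (nat_lit 12) (nat_lit 13) (Step.F (nat_lit 2245) (Step.U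 (nat_lit 1439) (Step.L (Step.L (Step.L (Step.L (Step.L (Step.L (Step.L (Step.D (nat_lit 105) (Step.D (nat_lit 492) (Step.D (nat_lit 1498) (Step.D (nat_lit 2444) Step.done))))))))))))) (Scr.cons (nat_lit 9) (nat_lit 0) (Step.U (nat_lit 1438) (Step.D (nat_lit 1439) Step.done)) (Scr.cons (nat_lit 20) (nat_lit 4) (Step.U (nat_lit 1419) (Step.U (nat_lit 456) (Step.L (Step.L (Step.L (Step.L (Step.L (Step.D (nat_lit 1438) Step.done)))))))) (Scr.cons (nat_lit 2) (nat_lit 0) (Step.F (nat_lit 2248) (Step.F (nat_lit 1783) (Step.D (nat_lit 1193) Step.done))) (Scr.cons (nat_lit 3) (nat_lit 1) (Step.F (nat_lit 2247) (Step.B (nat_lit 2249) (Step.D (nat_lit 2250) Step.done))) (Scr.cons (nat_lit 2) (nat_lit 0) (Step.U (nat_lit 1193) (Step.B (nat_lit 1785) (Step.L Step.done))) (Scr.cons (nat_lit 3) (nat_lit 1) (Step.B (nat_lit 2250) (Step.U (nat_lit 2250) (Step.B (nat_lit 2251) (Step.D (nat_lit 490) Step.done)))) (Scr.cons (nat_lit 1) (nat_lit 0) (Step.F (nat_lit 2245) (Step.B (nat_lit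 2252) (Step.D (nat_lit 1495) Step.done))) (Scr.cons (nat_lit 0) (nat_lit 0) (Step.F (nat_lit 2246) (Step.B (nat_lit 2253) (Step.D (nat_lit 2441) Step.done))) (Scr.cons (nat_lit 1) (nat_lit 0) (Step.D (nat_lit 2444) (Step.B (nat_lit 2254) Step.done)) (Scr.cons (nat_lit 9) (nat_lit 0) (Step.U (nat_lit 491) (Step.D (nat_lit 492) Step.done)) (Scr.cons (nat_lit 8) (nat_lit 1) (Step.L (Step.D (nat_lit 105) (Step.D (nat_lit 491) Step.done))) (Scr.cons (nat_lit 0) (nat_lit 0) (Step.D (nat_lit 169) (Step.F (nat_lit 2108) (Step.B (nat_lit 2257) Step.done))) (Scr.cons (nat_lit 3) (nat_lit 1) (Step.F (nat_lit 2256) (Step.F (nat_lit 2258) (Step.L Step.done))) (Scr.cons (nat_lit 2) (nat_lit 0) (Step.U (nat_lit 1498) (Step.B (nat_lit 2259) (Step.L Step.done))) (Scr.cons (nat_lit 1) (nat_lit 0) (Step.F (nat_lit 2255) (Step.B (nat_lit 2260) (Step.L Step.done))) (Scr.cons (nat_lit 3) (nat_lit 0) (Step.B (nat_lit 2244) (Step.B (nat_lit 2261) (Step.L Step.done))) (Scr.cons (nat_lit 2) (nat_lit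 0) (Step.D (nat_lit 2407) (Step.B (nat_lit 2262) (Step.L Step.done))) (Scr.cons (nat_lit 3) (nat_lit 1) (Step.D (nat_lit 1422) (Step.B (nat_lit 2263) (Step.D (nat_lit 1412) Step.done))) (Scr.cons (nat_lit 3) (nat_lit 1) (Step.D (nat_lit 1412) (Step.F (nat_lit 2264) Step.done)) (Scr.cons (nat_lit 12) (nat_lit 0) (Step.U (nat_lit 1244) (Step.U (nat_lit 366) (Step.U (nat_lit 68) (Step.L (Step.L (Step.L (Step.L (Step.L (Step.L (Step.L (Step.L (Step.D (nat_lit 1196) (Step.D (nat_lit 2252) Step.done))))))))))))) (Scr.cons (nat_lit 8) (nat_lit 2) (Step.F (nat_lit 2266) (Step.U (nat_lit 1244) (Step.D (nat_lit 1242) Step.done))) (Scr.cons (nat_lit 18) (nat_lit 0) (Step.F (nat_lit 563) (Step.D (nat_lit 1797) Step.done)) (Scr.cons (nat_lit 21) (nat_lit 2) (Step.F (nat_lit 2268) (Step.B (nat_lit 562) (Step.D (nat_lit 1800) (Step.B (nat_lit 528) (Step.L (Step.L (Step.L (Step.L (Step.L (Step.L (Step.B (nat_lit 2047) (Step.D (nat_lit 1153) (Step.D (nat_lit 2215) Step.done)))))))))))))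 (Scr.cons (nat_lit 3) (nat_lit 0) (Step.F (nat_lit 2268) (Step.B (nat_lit 1295) (Step.L Step.done))) (Scr.cons (nat_lit 2) (nat_lit 0) (Step.F (nat_lit 2269) (Step.B (nat_lit 2270) (Step.L Step.done))) (Scr.cons (nat_lit 1) (nat_lit 0) (Step.D (nat_lit 2215) (Step.B (nat_lit 2271) (Step.L Step.done))) (Scr.cons (nat_lit 2) (nat_lit 0) (Step.B (nat_lit 2053) (Step.B (nat_lit 2272) (Step.D (nat_lit 68) Step.done))) (Scr.cons (nat_lit 1) (nat_lit 0) (Step.B (nat_lit 2052) (Step.B (nat_lit 2273) (Step.D (nat_lit 366) Step.done))) (Scr.cons (nat_lit 0) (nat_lit 0) (Step.U (nat_lit 1242) (Step.F (nat_lit 2274) (Step.D (nat_lit 417) Step.done))) (Scr.cons (nat_lit 8) (nat_lit 2) (Step.U (nat_lit 415) (Step.B (nat_lit 2054) (Step.D (nat_lit 417) Step.done))) (Scr.cons (nat_lit 3) (nat_lit 0) (Step.B (nat_lit 2267) (Step.B (nat_lit 2275) (Step.F (nat_lit 2276) Step.done))) (Scr.cons (nat_lit 0) (nat_lit 0) (Step.D (nat_lit 2252) (Step.B (nat_lit 2277) Step.done)) (Scr.cons (nat_lit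 20) (nat_lit 3) (Step.U (nat_lit 1460) (Step.B (nat_lit 2130) (Step.L (Step.D (nat_lit 471) (Step.B (nat_lit 1793) (Step.U (nat_lit 1337) (Step.D (nat_lit 1338) (Step.D (nat_lit 2344) Step.done)))))))) (Scr.cons (nat_lit 18) (nat_lit 0) (Step.F (nat_lit 2279) (Step.D (nat_lit 2430) Step.done)) (Scr.cons (nat_lit 20) (nat_lit 3) (Step.U (nat_lit 1689) (Step.D (nat_lit 1690) (Step.F (nat_lit 2139) (Step.B (nat_lit 2115) (Step.U (nat_lit 2428) (Step.U (nat_lit 1459) (Step.D (nat_lit 1460) (Step.D (nat_lit 2429) Step.done)))))))) Scr.nil))))))))))))))))))))))))))))))))))))))))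
noncomputable def s57 : Scr := (Scr.cons (nat_lit 8) (nat_lit 1) (Step.B (nat_lit 2281) (Step.U (nat_lit 2429) (Step.D (nat_lit 2430) Step.done))) (Scr.cons (nat_lit 0) (nat_lit 0) (Step.F (nat_lit 2282) (Step.F (nat_lit 2216) (Step.L Step.done))) (Scr.cons (nat_lit 3) (nat_lit 1) (Step.B (nat_lit 2280) (Step.B (nat_lit 2283) (Step.L Step.done))) (Scr.cons (nat_lit 1) (nat_lit 0) (Step.D (nat_lit 2344) (Step.B (nat_lit 2284) (Step.L Step.done))) (Scr.cons (nat_lit 2) (nat_lit 0) (Step.D (nat_lit 1338) (Step.B (nat_lit 2285) (Step.L Step.done))) (Scr.cons (nat_lit 0) (nat_lit 0) (Step.B (nat_lit 2278) (Step.B (nat_lit 2286) (Step.L Step.done))) (Scr.cons (nat_lit 1) (nat_lit 0) (Step.D (nat_lit 1196) (Step.B (nat_lit 2287) (Step.D (nat_lit 403) Step.done))) (Scr.cons (nat_lit 1) (nat_lit 0) (Step.D (nat_lit 403) (Step.F (nat_lit 2288) Step.done)) (Scr.cons (nat_lit 13) (nat_lit 2) (Step.U (nat_lit 2224) (Step.F (nat_lit 389) (Step.D (nat_lit 2222) (Step.B (nat_lit 388)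 (Step.U (nat_lit 1233) (Step.L (Step.L (Step.L (Step.L (Step.D (nat_lit 68) (Step.D (nat_lit 366) (Step.D (nat_lit 1243) (Step.D (nat_lit 2280) Step.done))))))))))))) (Scr.cons (nat_lit 3) (nat_lit 1) (Step.U (nat_lit 1243) (Step.F (nat_lit 2274) (Step.U (nat_lit 81) Step.done))) (Scr.cons (nat_lit 1) (nat_lit 0) (Step.U (nat_lit 2280) (Step.B (nat_lit 2291) (Step.D (nat_lit 79) Step.done))) (Scr.cons (nat_lit 3) (nat_lit 0) (Step.B (nat_lit 2290) (Step.B (nat_lit 2292) (Step.D (nat_lit 414) Step.done))) (Scr.cons (nat_lit 2) (nat_lit 0) (Step.D (nat_lit 2224) (Step.B (nat_lit 2293) (Step.D (nat_lit 1336) Step.done))) (Scr.cons (nat_lit 2) (nat_lit 0) (Step.D (nat_lit 1336) (Step.F (nat_lit 2294) Step.done)) (Scr.cons (nat_lit 9) (nat_lit 0) (Step.U (nat_lit 413) (Step.D (nat_lit 414) Step.done)) (Scr.cons (nat_lit 8) (nat_lit 1) (Step.U (nat_lit 80) (Step.D (nat_lit 79) (Step.D (nat_lit 413) Step.done))) (Scr.cons (nat_lit 1) (nat_lit 0) (Step.D (nat_lit 415) (Step.B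 (nat_lit 2286) (Step.L Step.done))) (Scr.cons (nat_lit 0) (nat_lit 0) (Step.F (nat_lit 2297) (Step.B (nat_lit 2298) (Step.L Step.done))) (Scr.cons (nat_lit 3) (nat_lit 1) (Step.F (nat_lit 2296) (Step.B (nat_lit 2299) (Step.L Step.done))) (Scr.cons (nat_lit 2) (nat_lit 0) (Step.F (nat_lit 2295) (Step.B (nat_lit 2300) (Step.L Step.done))) (Scr.cons (nat_lit 0) (nat_lit 0) (Step.D (nat_lit 1161) (Step.B (nat_lit 2301) (Step.D (nat_lit 1334) Step.done))) (Scr.cons (nat_lit 0) (nat_lit 0) (Step.D (nat_lit 1334) (Step.F (nat_lit 2302) Step.done)) (Scr.cons (nat_lit 22) (nat_lit 0) (Step.U (nat_lit 1071) (Step.D (nat_lit 1072) (Step.F (nat_lit 129) (Step.U (nat_lit 1067) (Step.L (Step.L (Step.L (Step.L (Step.L (Step.L (Step.L (Step.D (nat_lit 769) (Step.D (nat_lit 1899) Step.done))))))))))))) (Scr.cons (nat_lit 8) (nat_lit 2) (Step.B (nat_lit 2304) (Step.U (nat_lit 1899) (Step.D (nat_lit 1898) Step.done))) (Scr.cons (nat_lit 12) (nat_lit 12) (Step.U (nat_lit 1892) (Step.L (Step.L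 (Step.L (Step.L (Step.L (Step.D (nat_lit 769) (Step.D (nat_lit 1898) (Step.F (nat_lit 2305) (Step.U (nat_lit 1071) (Step.U (nat_lit 293) (Step.L (Step.D (nat_lit 1073) Step.done))))))))))))) (Scr.cons (nat_lit 22) (nat_lit 6) (Step.B (nat_lit 2306) (Step.U (nat_lit 1073) (Step.L (Step.L (Step.L (Step.L (Step.L (Step.L (Step.L (Step.L (Step.L (Step.L (Step.D (nat_lit 1966) Step.done))))))))))))) (Scr.cons (nat_lit 8) (nat_lit 1) (Step.F (nat_lit 2307) (Step.B (nat_lit 2306) (Step.D (nat_lit 2156) Step.done))) (Scr.cons (nat_lit 11) (nat_lit 3) (Step.U (nat_lit 762) (Step.L (Step.L (Step.L (Step.L (Step.L (Step.L (Step.D (nat_lit 1698) Step.done)))))))) (Scr.cons (nat_lit 8) (nat_lit 1) (Step.L (Step.L (Step.D (nat_lit 1227) Step.done))) (Scr.cons (nat_lit 21) (nat_lit 8) (Step.F (nat_lit 2309) (Step.U (nat_lit 762) (Step.L (Step.F (nat_lit 1761) (Step.D (nat_lit 1891) (Step.F (nat_lit 1763) (Step.B (nat_lit 183) (Step.U (nat_lit 1226) (Step.U (nat_lit 362) (Step.L (Step.L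 (Step.L (Step.B (nat_lit 2310) Step.done))))))))))))) (Scr.cons (nat_lit 11) (nat_lit 1) (Step.F (nat_lit 2310) (Step.L (Step.L (Step.L (Step.L (Step.D (nat_lit 68) (Step.D (nat_lit 365) (Step.D (nat_lit 1241) Step.done)))))))) (Scr.cons (nat_lit 21) (nat_lit 11) (Step.U (nat_lit 2156) (Step.F (nat_lit 2306) (Step.U (nat_lit 1892) (Step.L (Step.D (nat_lit 762) (Step.B (nat_lit 2309) (Step.B (nat_lit 2311) (Step.B (nat_lit 2312) (Step.U (nat_lit 1241) (Step.U (nat_lit 365) (Step.D (nat_lit 366) (Step.D (nat_lit 1244) (Step.D (nat_lit 2281) Step.done))))))))))))) (Scr.cons (nat_lit 3) (nat_lit 0) (Step.U (nat_lit 1244) (Step.F (nat_lit 2274) (Step.F (nat_lit 2054) Step.done))) (Scr.cons (nat_lit 2) (nat_lit 0) (Step.U (nat_lit 2281) (Step.B (nat_lit 2314) (Step.D (nat_lit 416) Step.done))) (Scr.cons (nat_lit 1) (nat_lit 0) (Step.B (nat_lit 2313) (Step.B (nat_lit 2315) (Step.D (nat_lit 1340) Step.done))) (Scr.cons (nat_lit 0) (nat_lit 0) (Step.B (nat_lit 2308) (Step.B (nat_lit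 2316) (Step.D (nat_lit 2345) Step.done))) (Scr.cons (nat_lit 0) (nat_lit 0) (Step.D (nat_lit 2345) (Step.F (nat_lit 2317) Step.done)) (Scr.cons (nat_lit 2) (nat_lit 0) (Step.U (nat_lit 416) (Step.B (nat_lit 2298) (Step.L Step.done))) (Scr.cons (nat_lit 1) (nat_lit 0) (Step.U (nat_lit 1340) (Step.B (nat_lit 2319) (Step.L Step.done))) (Scr.cons (nat_lit 0) (nat_lit 0) (Step.F (nat_lit 2318) (Step.B (nat_lit 2320) (Step.L Step.done))) Scr.nil))))))))))))))))))))))))))))))))))))))))
noncomputable def s58 : Scr := (Scr.cons (nat_lit 1) (nat_lit 0) (Step.D (nat_lit 1966) (Step.B (nat_lit 2321) (Step.D (nat_lit 1344) Step.done))) (Scr.cons (nat_lit 1) (nat_lit 0) (Step.D (nat_lit 1344) (Step.F (nat_lit 2322) Step.done)) (Scr.cons (nat_lit 1) (nat_lit 0) (Step.D (nat_lit 366) (Step.F (nat_lit 2274) Step.done)) (Scr.cons (nat_lit 3) (nat_lit 1) (Step.F (nat_lit 2054) (Step.B (nat_lit 2298) (Step.L Step.done))) (Scr.cons (nat_lit 1) (nat_lit 0) (Step.B (nat_lit 2324) (Step.B (nat_lit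 2325) (Step.L Step.done))) (Scr.cons (nat_lit 0) (nat_lit 0) (Step.U (nat_lit 365) (Step.B (nat_lit 2326) (Step.L Step.done))) (Scr.cons (nat_lit 3) (nat_lit 0) (Step.U (nat_lit 1241) (Step.B (nat_lit 2327) (Step.L Step.done))) (Scr.cons (nat_lit 2) (nat_lit 0) (Step.B (nat_lit 2312) (Step.B (nat_lit 2328) (Step.L Step.done))) (Scr.cons (nat_lit 1) (nat_lit 0) (Step.B (nat_lit 2311) (Step.B (nat_lit 2329) (Step.L Step.done))) (Scr.cons (nat_lit 0) (nat_lit 0) (Step.D (nat_lit 1698) (Step.B (nat_lit 2330) (Step.D (nat_lit 2334) Step.done))) (Scr.cons (nat_lit 0) (nat_lit 0) (Step.D (nat_lit 2334) (Step.F (nat_lit 2331) Step.done)) (Scr.cons (nat_lit 8) (nat_lit 3) (Step.L (Step.D (nat_lit 1200) (Step.D (nat_lit 2258) Step.done))) (Scr.cons (nat_lit 8) (nat_lit 2) (Step.U (nat_lit 1462) (Step.B (nat_lit 2131) (Step.D (nat_lit 2431) Step.done))) (Scr.cons (nat_lit 9) (nat_lit 0) (Step.F (nat_lit 2334) (Step.D (nat_lit 2432) Step.done)) (Scr.cons (nat_lit 9) (nat_lit 0) (Step.U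 (nat_lit 1321) (Step.D (nat_lit 1322) Step.done)) (Scr.cons (nat_lit 8) (nat_lit 2) (Step.U (nat_lit 2338) (Step.B (nat_lit 2336) (Step.D (nat_lit 2339) Step.done))) (Scr.cons (nat_lit 10) (nat_lit 1) (Step.F (nat_lit 2335) (Step.U (nat_lit 2431) (Step.F (nat_lit 2131) (Step.L (Step.L (Step.L (Step.L (Step.D (nat_lit 469) (Step.F (nat_lit 619) (Step.U (nat_lit 1320) (Step.D (nat_lit 1322) (Step.D (nat_lit 2339) (Step.F (nat_lit 2337) Step.done))))))))))))) (Scr.cons (nat_lit 22) (nat_lit 0) (Step.U (nat_lit 1245) (Step.U (nat_lit 367) (Step.U (nat_lit 68) (Step.L (Step.L (Step.L (Step.L (Step.L (Step.L (Step.L (Step.L (Step.L (Step.D (nat_lit 2260) Step.done))))))))))))) (Scr.cons (nat_lit 3) (nat_lit 0) (Step.U (nat_lit 367) (Step.B (nat_lit 2326) (Step.L Step.done))) (Scr.cons (nat_lit 2) (nat_lit 0) (Step.U (nat_lit 1245) (Step.B (nat_lit 2340) (Step.L Step.done))) (Scr.cons (nat_lit 1) (nat_lit 0) (Step.F (nat_lit 2339) (Step.B (nat_lit 2341) (Step.L Step.done))) (Scr.cons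 (nat_lit 3) (nat_lit 1) (Step.D (nat_lit 2260) (Step.B (nat_lit 2342) (Step.D (nat_lit 1321) Step.done))) (Scr.cons (nat_lit 1) (nat_lit 0) (Step.U (nat_lit 2338) (Step.F (nat_lit 2343) (Step.L Step.done))) (Scr.cons (nat_lit 0) (nat_lit 0) (Step.B (nat_lit 2338) (Step.B (nat_lit 2344) (Step.L Step.done))) (Scr.cons (nat_lit 3) (nat_lit 1) (Step.D (nat_lit 2432) (Step.B (nat_lit 2345) (Step.L Step.done))) (Scr.cons (nat_lit 1) (nat_lit 0) (Step.D (nat_lit 1462) (Step.B (nat_lit 2346) (Step.B (nat_lit 2333) Step.done))) (Scr.cons (nat_lit 1) (nat_lit 0) (Step.B (nat_lit 2333) (Step.F (nat_lit 2347) Step.done)) (Scr.cons (nat_lit 2) (nat_lit 0) (Step.D (nat_lit 1681) (Step.B (nat_lit 2166) (Step.D (nat_lit 1660) Step.done))) (Scr.cons (nat_lit 2) (nat_lit 0) (Step.D (nat_lit 1660) (Step.F (nat_lit 2349) Step.done)) (Scr.cons (nat_lit 1) (nat_lit 0) (Step.B (nat_lit 2133) (Step.F (nat_lit 2134) Step.done)) (Scr.cons (nat_lit 3) (nat_lit 0) (Step.B (nat_lit 2335) (Step.B (nat_lit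 2345) (Step.L Step.done))) (Scr.cons (nat_lit 0) (nat_lit 0) (Step.D (nat_lit 2431) (Step.B (nat_lit 2352) (Step.D (nat_lit 1200) Step.done))) (Scr.cons (nat_lit 1) (nat_lit 0) (Step.F (nat_lit 2351) (Step.B (nat_lit 2353) (Step.D (nat_lit 2257) Step.done))) (Scr.cons (nat_lit 1) (nat_lit 0) (Step.D (nat_lit 2257) (Step.F (nat_lit 2354) Step.done)) (Scr.cons (nat_lit 3) (nat_lit 1) (Step.B (nat_lit 2131) (Step.B (nat_lit 2353) Step.done)) (Scr.cons (nat_lit 21) (nat_lit 1) (Step.L (Step.L (Step.L (Step.L (Step.L (Step.L (Step.L (Step.L (Step.D (nat_lit 574) (Step.B (nat_lit 2350) (Step.F (nat_lit 2355) (Step.F (nat_lit 2356) (Step.L (Step.D (nat_lit 2259) Step.done)))))))))))))) (Scr.cons (nat_lit 0) (nat_lit 0) (Step.D (nat_lit 2259) (Step.F (nat_lit 2357) (Step.D (nat_lit 1703) Step.done))) (Scr.cons (nat_lit 0) (nat_lit 0) (Step.D (nat_lit 1703) (Step.F (nat_lit 2358) Step.done)) (Scr.cons (nat_lit 9) (nat_lit 0) (Step.U (nat_lit 576) (Step.L Step.done)) (Scr.cons (nat_lit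 8) (nat_lit 2) (Step.U (nat_lit 1663) (Step.B (nat_lit 2360) (Step.D (nat_lit 1664) Step.done))) Scr.nil))))))))))))))))))))))))))))))))))))))))
noncomputable def s59 : Scr := (Scr.cons (nat_lit 8) (nat_lit 3) (Step.U (nat_lit 1248) (Step.D (nat_lit 1247) (Step.D (nat_lit 2283) Step.done))) (Scr.cons (nat_lit 8) (nat_lit 2) (Step.U (nat_lit 370) (Step.L (Step.D (nat_lit 371) Step.done))) (Scr.cons (nat_lit 9) (nat_lit 0) (Step.F (nat_lit 2363) (Step.D (nat_lit 1254) Step.done)) (Scr.cons (nat_lit 8) (nat_lit 2) (Step.U (nat_lit 1255) (Step.B (nat_lit 2364) (Step.D (nat_lit 2284) Step.done))) (Scr.cons (nat_lit 9) (nat_lit 0) (Step.F (nat_lit 2365) (Step.D (nat_lit 2285) Step.done)) (Scr.cons (nat_lit 8) (nat_lit 2) (Step.L (Step.L (Step.D (nat_lit 369) Step.done))) (Scr.cons (nat_lit 10) (nat_lit 1) (Step.F (nat_lit 2366) (Step.U (nat_lit 2284) (Step.F (nat_lit 2364) (Step.U (nat_lit 371) (Step.L (Step.L (Step.L (Step.L (Step.L (Step.D (nat_lit 369) (Step.F (nat_lit 2367)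 (Step.D (nat_lit 1247) (Step.D (nat_lit 2283) Step.done))))))))))))) (Scr.cons (nat_lit 8) (nat_lit 1) (Step.U (nat_lit 576) (Step.D (nat_lit 575) (Step.D (nat_lit 1661) Step.done))) (Scr.cons (nat_lit 11) (nat_lit 1) (Step.F (nat_lit 2369) (Step.U (nat_lit 576) (Step.L (Step.L (Step.L (Step.L (Step.L (Step.D (nat_lit 1679) Step.done)))))))) (Scr.cons (nat_lit 8) (nat_lit 3) (Step.U (nat_lit 589) (Step.L (Step.D (nat_lit 1679) Step.done))) (Scr.cons (nat_lit 9) (nat_lit 0) (Step.U (nat_lit 588) (Step.D (nat_lit 589) Step.done)) (Scr.cons (nat_lit 8) (nat_lit 3) (Step.L (Step.D (nat_lit 5) (Step.D (nat_lit 63) Step.done))) (Scr.cons (nat_lit 20) (nat_lit 4) (Step.U (nat_lit 63) (Step.U (nat_lit 5) (Step.L (Step.L (Step.L (Step.L (Step.L (Step.L Step.done)))))))) (Scr.cons (nat_lit 21) (nat_lit 10) (Step.B (nat_lit 2370) (Step.F (nat_lit 2371) (Step.F (nat_lit 2372) (Step.F (nat_lit 2355) (Step.U (nat_lit 1200) (Step.L (Step.L (Step.L (Step.B (nat_lit 2373) (Step.B (nat_lit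 2374) (Step.L (Step.D (nat_lit 371) (Step.D (nat_lit 1255) (Step.D (nat_lit 2285) Step.done)))))))))))))) (Scr.cons (nat_lit 0) (nat_lit 0) (Step.F (nat_lit 2368) (Step.F (nat_lit 2375) (Step.F (nat_lit 2369) Step.done))) (Scr.cons (nat_lit 1) (nat_lit 0) (Step.B (nat_lit 2362) (Step.B (nat_lit 2376) (Step.D (nat_lit 1663) Step.done))) (Scr.cons (nat_lit 3) (nat_lit 1) (Step.F (nat_lit 2361) (Step.F (nat_lit 2377) (Step.U (nat_lit 1248) Step.done))) (Scr.cons (nat_lit 0) (nat_lit 0) (Step.D (nat_lit 1664) (Step.B (nat_lit 2378) Step.done)) (Scr.cons (nat_lit 8) (nat_lit 3) (Step.L (Step.L (Step.D (nat_lit 1206) Step.done))) (Scr.cons (nat_lit 8) (nat_lit 1) (Step.U (nat_lit 342) (Step.D (nat_lit 341) (Step.D (nat_lit 1186) Step.done))) (Scr.cons (nat_lit 11) (nat_lit 1) (Step.F (nat_lit 2381) (Step.U (nat_lit 342) (Step.U (nat_lit 61) (Step.D (nat_lit 63) (Step.F (nat_lit 2373) (Step.L (Step.L (Step.D (nat_lit 1206) Step.done)))))))) (Scr.cons (nat_lit 9) (nat_lit 0) (Step.U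 (nat_lit 1186) (Step.D (nat_lit 1187) Step.done)) (Scr.cons (nat_lit 8) (nat_lit 3) (Step.U (nat_lit 1187) (Step.D (nat_lit 1185) (Step.D (nat_lit 2243) Step.done))) (Scr.cons (nat_lit 8) (nat_lit 1) (Step.U (nat_lit 1142) (Step.D (nat_lit 1141) (Step.D (nat_lit 2202) Step.done))) (Scr.cons (nat_lit 9) (nat_lit 0) (Step.U (nat_lit 629) (Step.D (nat_lit 630) Step.done)) (Scr.cons (nat_lit 8) (nat_lit 2) (Step.U (nat_lit 1728) (Step.B (nat_lit 2386) (Step.D (nat_lit 1729) Step.done))) (Scr.cons (nat_lit 20) (nat_lit 4) (Step.B (nat_lit 2387) (Step.U (nat_lit 1729) (Step.F (nat_lit 2023) (Step.U (nat_lit 1140) (Step.L (Step.L (Step.D (nat_lit 1141) (Step.D (nat_lit 2202) Step.done)))))))) (Scr.cons (nat_lit 9) (nat_lit 0) (Step.U (nat_lit 459) (Step.L Step.done)) (Scr.cons (nat_lit 3) (nat_lit 1) (Step.F (nat_lit 2389) (Step.B (nat_lit 2017) (Step.D (nat_lit 629) Step.done))) (Scr.cons (nat_lit 8) (nat_lit 3) (Step.L (Step.D (nat_lit 458) (Step.D (nat_lit 1428) Step.done)))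 (Scr.cons (nat_lit 1) (nat_lit 0) (Step.U (nat_lit 1728) (Step.F (nat_lit 2390) (Step.B (nat_lit 2391) Step.done))) (Scr.cons (nat_lit 2) (nat_lit 0) (Step.F (nat_lit 2388) (Step.B (nat_lit 2392) (Step.D (nat_lit 2413) Step.done))) (Scr.cons (nat_lit 2) (nat_lit 0) (Step.D (nat_lit 2413) (Step.F (nat_lit 2393) Step.done)) (Scr.cons (nat_lit 9) (nat_lit 0) (Step.U (nat_lit 75) (Step.D (nat_lit 76) Step.done)) (Scr.cons (nat_lit 8) (nat_lit 2) (Step.U (nat_lit 401) (Step.B (nat_lit 2395) (Step.D (nat_lit 402) Step.done))) (Scr.cons (nat_lit 9) (nat_lit 0) (Step.F (nat_lit 2396) (Step.D (nat_lit 1307) Step.done)) (Scr.cons (nat_lit 8) (nat_lit 1) (Step.L (Step.L (Step.D (nat_lit 75) Step.done))) (Scr.cons (nat_lit 10) (nat_lit 1) (Step.F (nat_lit 2397) (Step.U (nat_lit 402) (Step.F (nat_lit 2395) (Step.F (nat_lit 2398) (Step.L (Step.L (Step.L (Step.L (Step.L (Step.L (Step.L (Step.D (nat_lit 1329) (Step.F (nat_lit 1799) Step.done))))))))))))) (Scr.cons (nat_lit 8) (nat_lit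 0) (Step.F (nat_lit 2399) (Step.F (nat_lit 2397) (Step.D (nat_lit 1308) Step.done))) (Scr.cons (nat_lit 18) (nat_lit 0) (Step.F (nat_lit 2400) (Step.B (nat_lit 1799) Step.done)) Scr.nil))))))))))))))))))))))))))))))))))))))))
noncomputable def s60 : Scr := (Scr.cons (nat_lit 9) (nat_lit 0) (Step.U (nat_lit 1427) (Step.D (nat_lit 1428) Step.done)) (Scr.cons (nat_lit 22) (nat_lit 1) (Step.U (nat_lit 2329) (Step.U (nat_lit 1306) (Step.B (nat_lit 2396) (Step.D (nat_lit 1308) (Step.B (nat_lit 2401) (Step.B (nat_lit 1794) (Step.U (nat_lit 1452) (Step.B (nat_lit 1791) (Step.F (nat_lit 2016) (Step.B (nat_lit 2389) (Step.B (nat_lit 2391) (Step.F (nat_lit 2402) (Step.D (nat_lit 2412) Step.done))))))))))))) (Scr.cons (nat_lit 9) (nat_lit 0) (Step.U (nat_lit 1661) (Step.D (nat_lit 1662) Step.done)) (Scr.cons (nat_lit 3) (nat_lit 1) (Step.D (nat_lit 2285) (Step.F (nat_lit 2375) (Step.B (nat_lit 2404) Step.done))) (Scr.cons (nat_lit 3) (nat_lit 1) (Step.B (nat_lit 2404) (Step.F (nat_lit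 2405) Step.done)) (Scr.cons (nat_lit 3) (nat_lit 0) (Step.U (nat_lit 1705) (Step.B (nat_lit 2125) (Step.D (nat_lit 589) Step.done))) (Scr.cons (nat_lit 0) (nat_lit 0) (Step.F (nat_lit 2119) (Step.B (nat_lit 2407) (Step.D (nat_lit 1682) Step.done))) (Scr.cons (nat_lit 0) (nat_lit 0) (Step.D (nat_lit 1682) (Step.F (nat_lit 2408) Step.done)) (Scr.cons (nat_lit 3) (nat_lit 0) (Step.B (nat_lit 2118) (Step.B (nat_lit 2129) (Step.F (nat_lit 2130) Step.done))) (Scr.cons (nat_lit 0) (nat_lit 0) (Step.B (nat_lit 2409) (Step.B (nat_lit 2410) (Step.D (nat_lit 1459) Step.done))) (Scr.cons (nat_lit 0) (nat_lit 0) (Step.D (nat_lit 1459) (Step.F (nat_lit 2411) Step.done)) (Scr.cons (nat_lit 12) (nat_lit 13) (Step.F (nat_lit 2391) (Step.L (Step.L (Step.L (Step.L (Step.L (Step.L (Step.L (Step.L (Step.L (Step.L (Step.D (nat_lit 631) (Step.D (nat_lit 1736) Step.done))))))))))))) (Scr.cons (nat_lit 8) (nat_lit 0) (Step.F (nat_lit 2413) (Step.F (nat_lit 2402) (Step.D (nat_lit 2412) Step.done)))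 (Scr.cons (nat_lit 12) (nat_lit 9) (Step.D (nat_lit 1255) (Step.F (nat_lit 2406) (Step.B (nat_lit 2370) (Step.F (nat_lit 2371) (Step.F (nat_lit 2412) (Step.U (nat_lit 470) (Step.L (Step.L (Step.L (Step.L (Step.B (nat_lit 2391) (Step.B (nat_lit 2413) (Step.B (nat_lit 2414) (Step.F (nat_lit 2403) Step.done)))))))))))))) (Scr.cons (nat_lit 2) (nat_lit 0) (Step.F (nat_lit 2403) (Step.F (nat_lit 2415) (Step.D (nat_lit 1256) Step.done))) (Scr.cons (nat_lit 9) (nat_lit 0) (Step.U (nat_lit 62) (Step.D (nat_lit 63) Step.done)) (Scr.cons (nat_lit 8) (nat_lit 2) (Step.U (nat_lit 344) (Step.B (nat_lit 2417) (Step.D (nat_lit 345) Step.done))) (Scr.cons (nat_lit 11) (nat_lit 3) (Step.U (nat_lit 1256) (Step.F (nat_lit 2363) (Step.U (nat_lit 370) (Step.F (nat_lit 2374) (Step.D (nat_lit 345) (Step.F (nat_lit 2418) (Step.D (nat_lit 1190) (Step.D (nat_lit 2245) Step.done)))))))) (Scr.cons (nat_lit 8) (nat_lit 3) (Step.B (nat_lit 2419) (Step.U (nat_lit 2245) (Step.D (nat_lit 2246) Step.done)))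 (Scr.cons (nat_lit 1) (nat_lit 0) (Step.D (nat_lit 2412) (Step.B (nat_lit 2416) (Step.B (nat_lit 2420) Step.done))) (Scr.cons (nat_lit 3) (nat_lit 1) (Step.D (nat_lit 2246) (Step.F (nat_lit 2421) (Step.B (nat_lit 2402) Step.done))) (Scr.cons (nat_lit 2) (nat_lit 0) (Step.F (nat_lit 2394) (Step.F (nat_lit 2422) (Step.U (nat_lit 1190) Step.done))) (Scr.cons (nat_lit 0) (nat_lit 0) (Step.B (nat_lit 2385) (Step.B (nat_lit 2423) (Step.D (nat_lit 1189) Step.done))) (Scr.cons (nat_lit 0) (nat_lit 0) (Step.D (nat_lit 1189) (Step.F (nat_lit 2424) Step.done)) (Scr.cons (nat_lit 21) (nat_lit 0) (Step.L (Step.L (Step.L (Step.L (Step.L (Step.L (Step.D (nat_lit 1142) (Step.F (nat_lit 2425) (Step.U (nat_lit 344) (Step.U (nat_lit 62) (Step.D (nat_lit 61) (Step.D (nat_lit 341) (Step.D (nat_lit 1187) (Step.B (nat_lit 2384) Step.done)))))))))))))) (Scr.cons (nat_lit 1) (nat_lit 0) (Step.B (nat_lit 2384) (Step.F (nat_lit 2426) (Step.L Step.done))) (Scr.cons (nat_lit 3) (nat_lit 0) (Step.B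 (nat_lit 2383) (Step.B (nat_lit 2427) (Step.L Step.done))) (Scr.cons (nat_lit 2) (nat_lit 0) (Step.F (nat_lit 2382) (Step.B (nat_lit 2428) (Step.L Step.done))) (Scr.cons (nat_lit 1) (nat_lit 0) (Step.B (nat_lit 2380) (Step.B (nat_lit 2429) (Step.D (nat_lit 840) Step.done))) (Scr.cons (nat_lit 1) (nat_lit 0) (Step.D (nat_lit 840) (Step.F (nat_lit 2430) Step.done)) (Scr.cons (nat_lit 11) (nat_lit 5) (Step.U (nat_lit 1144) (Step.L (Step.L (Step.L (Step.L (Step.L (Step.D (nat_lit 1143) (Step.D (nat_lit 2203) Step.done)))))))) (Scr.cons (nat_lit 11) (nat_lit 2) (Step.U (nat_lit 1145) (Step.L (Step.L (Step.L (Step.L (Step.L (Step.D (nat_lit 1143) (Step.D (nat_lit 2203) Step.done)))))))) (Scr.cons (nat_lit 9) (nat_lit 0) (Step.U (nat_lit 1145) (Step.D (nat_lit 1146) Step.done)) (Scr.cons (nat_lit 3) (nat_lit 0) (Step.D (nat_lit 2202) (Step.B (nat_lit 2423) (Step.D (nat_lit 1191) Step.done))) (Scr.cons (nat_lit 3) (nat_lit 0) (Step.D (nat_lit 1191) (Step.F (nat_lit 2435) Step.done))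 (Scr.cons (nat_lit 13) (nat_lit 0) (Step.U (nat_lit 2204) (Step.U (nat_lit 1145) (Step.L (Step.L (Step.L (Step.D (nat_lit 1141) (Step.F (nat_lit 2436) (Step.U (nat_lit 344) (Step.U (nat_lit 62) (Step.D (nat_lit 61) (Step.D (nat_lit 343) (Step.D (nat_lit 1188) (Step.D (nat_lit 2244) Step.done))))))))))))) (Scr.cons (nat_lit 8) (nat_lit 2) (Step.U (nat_lit 2204) (Step.B (nat_lit 2434) (Step.D (nat_lit 2205) Step.done))) (Scr.cons (nat_lit 18) (nat_lit 0) (Step.F (nat_lit 2437) (Step.B (nat_lit 2438) Step.done)) (Scr.cons (nat_lit 3) (nat_lit 1) (Step.D (nat_lit 1187) (Step.B (nat_lit 2427) (Step.L Step.done))) (Scr.cons (nat_lit 1) (nat_lit 0) (Step.D (nat_lit 341) (Step.B (nat_lit 2440) (Step.D (nat_lit 46) Step.done))) Scr.nil))))))))))))))))))))))))))))))))))))))))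
noncomputable def s61 : Scr := (Scr.cons (nat_lit 3) (nat_lit 0) (Step.U (nat_lit 343) (Step.B (nat_lit 2441) (Step.D (nat_lit 268) Step.done))) (Scr.cons (nat_lit 2) (nat_lit 0) (Step.U (nat_lit 1188) (Step.B (nat_lit 2442) (Step.D (nat_lit 1012) Step.done))) (Scr.cons (nat_lit 1) (nat_lit 0) (Step.U (nat_lit 2244) (Step.B (nat_lit 2443) (Step.D (nat_lit 2111) Step.done))) (Scr.cons (nat_lit 3) (nat_lit 0) (Step.F (nat_lit 2439) (Step.B (nat_lit 2444) (Step.F (nat_lit 377) Step.done))) (Scr.cons (nat_lit 0) (nat_lit 0) (Step.D (nat_lit 2205) (Step.B (nat_lit 2445) (Step.D (nat_lit 2276) Step.done))) (Scr.cons (nat_lit 0) (nat_lit 0) (Step.D (nat_lit 2276) (Step.F (nat_lit 2446) Step.done)) (Scr.cons (nat_lit 8) (nat_lit 0) (Step.U (nat_lit 2087) (Step.B (nat_lit 375) (Step.D (nat_lit 2271) Step.done))) (Scr.cons (nat_lit 12) (nat_lit 2) (Step.U (nat_lit 1724) (Step.L (Step.L (Step.D (nat_lit 145) (Step.B (nat_lit 1035) (Step.L (Step.B (nat_lit 2047) (Step.B (nat_lit 2049)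 (Step.U (nat_lit 82) (Step.L (Step.D (nat_lit 418) (Step.D (nat_lit 1341) (Step.D (nat_lit 2346) Step.done))))))))))))) (Scr.cons (nat_lit 9) (nat_lit 0) (Step.U (nat_lit 2346) (Step.D (nat_lit 2347) Step.done)) (Scr.cons (nat_lit 8) (nat_lit 1) (Step.U (nat_lit 1342) (Step.D (nat_lit 1341) (Step.D (nat_lit 2346) Step.done))) (Scr.cons (nat_lit 8) (nat_lit 2) (Step.U (nat_lit 405) (Step.L (Step.D (nat_lit 406) Step.done))) (Scr.cons (nat_lit 19) (nat_lit 1) (Step.U (nat_lit 1313) (Step.B (nat_lit 2452) (Step.U (nat_lit 406) (Step.L (Step.L (Step.L (Step.L (Step.L (Step.L (Step.L (Step.L (Step.L (Step.D (nat_lit 1343) Step.done))))))))))))) (Scr.cons (nat_lit 8) (nat_lit 1) (Step.L (Step.L (Step.D (nat_lit 828) Step.done))) (Scr.cons (nat_lit 20) (nat_lit 5) (Step.U (nat_lit 1965) (Step.L (Step.D (nat_lit 828) (Step.F (nat_lit 2454) (Step.D (nat_lit 830) (Step.B (nat_lit 322) (Step.L (Step.D (nat_lit 2010) Step.done)))))))) (Scr.cons (nat_lit 12) (nat_lit 0) (Step.U (nat_lit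 405) (Step.L (Step.L (Step.L (Step.L (Step.L (Step.D (nat_lit 1965) (Step.B (nat_lit 2455) (Step.U (nat_lit 2010) (Step.B (nat_lit 319) (Step.F (nat_lit 315) (Step.L (Step.L (Step.D (nat_lit 1082) Step.done)))))))))))))) (Scr.cons (nat_lit 0) (nat_lit 0) (Step.D (nat_lit 1082) (Step.F (nat_lit 2456) (Step.D (nat_lit 1313) Step.done))) (Scr.cons (nat_lit 3) (nat_lit 0) (Step.F (nat_lit 2453) (Step.F (nat_lit 2457) (Step.D (nat_lit 1084) Step.done))) (Scr.cons (nat_lit 0) (nat_lit 0) (Step.D (nat_lit 1343) (Step.B (nat_lit 2458) Step.done)) (Scr.cons (nat_lit 9) (nat_lit 0) (Step.U (nat_lit 1083) (Step.D (nat_lit 1084) Step.done)) (Scr.cons (nat_lit 9) (nat_lit 0) (Step.F (nat_lit 326) (Step.D (nat_lit 2112) Step.done)) (Scr.cons (nat_lit 8) (nat_lit 1) (Step.F (nat_lit 2461) (Step.L (Step.D (nat_lit 1083) Step.done))) (Scr.cons (nat_lit 8) (nat_lit 2) (Step.U (nat_lit 2111) (Step.B (nat_lit 326) (Step.D (nat_lit 2157) Step.done))) (Scr.cons (nat_lit 10) (nat_lit 1) (Step.F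 (nat_lit 2450) (Step.F (nat_lit 2451) (Step.U (nat_lit 1342) (Step.U (nat_lit 418) (Step.L (Step.B (nat_lit 2459) (Step.F (nat_lit 2460) (Step.F (nat_lit 2462) (Step.F (nat_lit 2461) (Step.D (nat_lit 2157) (Step.F (nat_lit 2463) (Step.B (nat_lit 376) (Step.B (nat_lit 378) Step.done))))))))))))) (Scr.cons (nat_lit 18) (nat_lit 0) (Step.F (nat_lit 378) (Step.F (nat_lit 2448) Step.done)) (Scr.cons (nat_lit 8) (nat_lit 3) (Step.B (nat_lit 2449) (Step.B (nat_lit 2450) (Step.B (nat_lit 2464) (Step.B (nat_lit 2465) Step.done)))) (Scr.cons (nat_lit 3) (nat_lit 1) (Step.F (nat_lit 2448) (Step.F (nat_lit 2466) Step.done)) (Scr.cons (nat_lit 0) (nat_lit 0) (Step.D (nat_lit 2087) (Step.F (nat_lit 2466) Step.done)) (Scr.cons (nat_lit 2) (nat_lit 0) (Step.U (nat_lit 252) (Step.F (nat_lit 700) (Step.L Step.done))) (Scr.cons (nat_lit 1) (nat_lit 0) (Step.U (nat_lit 982) (Step.B (nat_lit 2469) (Step.D (nat_lit 695) Step.done))) (Scr.cons (nat_lit 0) (nat_lit 0) (Step.F (nat_lit 2468) (Step.B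 (nat_lit 2470) (Step.D (nat_lit 1818) Step.done))) (Scr.cons (nat_lit 0) (nat_lit 0) (Step.D (nat_lit 1818) (Step.F (nat_lit 2471) Step.done)) (Scr.cons (nat_lit 3) (nat_lit 1) (Step.B (nat_lit 374) (Step.B (nat_lit 2470) (Step.F (nat_lit 721) Step.done))) (Scr.cons (nat_lit 3) (nat_lit 1) (Step.F (nat_lit 721) (Step.F (nat_lit 2473) Step.done)) (Scr.cons (nat_lit 0) (nat_lit 0) (Step.B (nat_lit 720) (Step.F (nat_lit 2473) Step.done)) (Scr.cons (nat_lit 9) (nat_lit 0) (Step.U (nat_lit 696) (Step.D (nat_lit 697) Step.done)) (Scr.cons (nat_lit 9) (nat_lit 0) (Step.U (nat_lit 997) (Step.D (nat_lit 998) Step.done)) (Scr.cons (nat_lit 8) (nat_lit 1) (Step.F (nat_lit 2477) (Step.B (nat_lit 120) (Step.B (nat_lit 2476) Step.done))) (Scr.cons (nat_lit 9) (nat_lit 0) (Step.F (nat_lit 882) (Step.L Step.done)) (Scr.cons (nat_lit 9) (nat_lit 0) (Step.U (nat_lit 983) (Step.D (nat_lit 984) Step.done)) (Scr.cons (nat_lit 8) (nat_lit 1) (Step.F (nat_lit 2479) (Step.F (nat_lit 883) (Step.B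 (nat_lit 2480) Step.done))) Scr.nil))))))))))))))))))))))))))))))))))))))))
noncomputable def s62 : Scr := (Scr.cons (nat_lit 3) (nat_lit 0) (Step.U (nat_lit 984) (Step.B (nat_lit 2469) (Step.D (nat_lit 697) Step.done))) (Scr.cons (nat_lit 0) (nat_lit 0) (Step.B (nat_lit 2481) (Step.B (nat_lit 2482) (Step.F (nat_lit 2478) Step.done))) (Scr.cons (nat_lit 0) (nat_lit 0) (Step.F (nat_lit 2478) (Step.F (nat_lit 2483) Step.done)) (Scr.cons (nat_lit 19) (nat_lit 0) (Step.F (nat_lit 2433) (Step.B (nat_lit 2434) (Step.F (nat_lit 2447) (Step.B (nat_lit 377) (Step.B (nat_lit 376) (Step.B (nat_lit 2467) (Step.F (nat_lit 2472) (Step.B (nat_lit 2474) (Step.F (nat_lit 2475) (Step.B (nat_lit 2476) (Step.B (nat_lit 2484) (Step.L (Step.L (Step.D (nat_lit 1653) Step.done)))))))))))))) (Scr.cons (nat_lit 3) (nat_lit 0) (Step.B (nat_lit 2432) (Step.B (nat_lit 2485) (Step.U (nat_lit 1653) Step.done))) (Scr.cons (nat_lit 1) (nat_lit 0) (Step.D (nat_lit 1144) (Step.B (nat_lit 2486) (Step.D (nat_lit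 1652) Step.done))) (Scr.cons (nat_lit 1) (nat_lit 0) (Step.D (nat_lit 1652) (Step.F (nat_lit 2487) Step.done)) (Scr.cons (nat_lit 8) (nat_lit 1) (Step.U (nat_lit 1435) (Step.D (nat_lit 1434) (Step.D (nat_lit 2416) Step.done))) (Scr.cons (nat_lit 20) (nat_lit 4) (Step.U (nat_lit 2414) (Step.U (nat_lit 1429) (Step.L (Step.D (nat_lit 459) (Step.F (nat_lit 2015) (Step.L (Step.D (nat_lit 1434) (Step.D (nat_lit 2416) Step.done)))))))) (Scr.cons (nat_lit 9) (nat_lit 0) (Step.U (nat_lit 1139) (Step.D (nat_lit 1140) Step.done)) (Scr.cons (nat_lit 8) (nat_lit 2) (Step.U (nat_lit 2200) (Step.B (nat_lit 2491) (Step.D (nat_lit 2201) Step.done))) (Scr.cons (nat_lit 0) (nat_lit 0) (Step.U (nat_lit 2201) (Step.B (nat_lit 2025) (Step.D (nat_lit 1429) Step.done))) (Scr.cons (nat_lit 3) (nat_lit 0) (Step.B (nat_lit 2492) (Step.B (nat_lit 2493) (Step.D (nat_lit 2414) Step.done))) (Scr.cons (nat_lit 2) (nat_lit 0) (Step.F (nat_lit 2490) (Step.F (nat_lit 2494) Step.done)) (Scr.cons (nat_lit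 3) (nat_lit 0) (Step.D (nat_lit 2414) (Step.F (nat_lit 2494) Step.done)) (Scr.cons (nat_lit 1) (nat_lit 0) (Step.B (nat_lit 2022) (Step.B (nat_lit 2025) (Step.D (nat_lit 1430) Step.done))) (Scr.cons (nat_lit 1) (nat_lit 0) (Step.D (nat_lit 1430) (Step.F (nat_lit 2497) Step.done)) (Scr.cons (nat_lit 9) (nat_lit 0) (Step.L (Step.D (nat_lit 325) Step.done)) (Scr.cons (nat_lit 8) (nat_lit 3) (Step.L (Step.L (Step.D (nat_lit 1654) Step.done))) (Scr.cons (nat_lit 8) (nat_lit 3) (Step.U (nat_lit 697) (Step.D (nat_lit 694) (Step.D (nat_lit 1817) Step.done))) (Scr.cons (nat_lit 11) (nat_lit 1) (Step.F (nat_lit 651) (Step.L (Step.L (Step.L (Step.L (Step.L (Step.D (nat_lit 694) (Step.D (nat_lit 1817) Step.done)))))))) (Scr.cons (nat_lit 9) (nat_lit 0) (Step.U (nat_lit 751) (Step.D (nat_lit 752) Step.done)) (Scr.cons (nat_lit 21) (nat_lit 6) (Step.F (nat_lit 2496) (Step.U (nat_lit 1429) (Step.B (nat_lit 2498) (Step.F (nat_lit 2499) (Step.L (Step.L (Step.D (nat_lit 1654) (Step.F (nat_lit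 2500) (Step.F (nat_lit 2484) (Step.B (nat_lit 2501) (Step.F (nat_lit 2502) (Step.B (nat_lit 2503) (Step.F (nat_lit 723) (Step.D (nat_lit 1845) Step.done)))))))))))))) (Scr.cons (nat_lit 2) (nat_lit 0) (Step.B (nat_lit 2495) (Step.B (nat_lit 2504) (Step.U (nat_lit 1845) Step.done))) (Scr.cons (nat_lit 0) (nat_lit 0) (Step.B (nat_lit 2489) (Step.B (nat_lit 2505) (Step.U (nat_lit 717) Step.done))) (Scr.cons (nat_lit 3) (nat_lit 0) (Step.D (nat_lit 1435) (Step.B (nat_lit 2506) (Step.D (nat_lit 718) Step.done))) (Scr.cons (nat_lit 3) (nat_lit 0) (Step.D (nat_lit 718) (Step.F (nat_lit 2507) Step.done)) (Scr.cons (nat_lit 8) (nat_lit 3) (Step.U (nat_lit 837) (Step.D (nat_lit 834) (Step.D (nat_lit 1968) Step.done))) (Scr.cons (nat_lit 9) (nat_lit 0) (Step.F (nat_lit 1623) (Step.D (nat_lit 1026) Step.done)) (Scr.cons (nat_lit 8) (nat_lit 2) (Step.U (nat_lit 977) (Step.L (Step.D (nat_lit 978) Step.done))) (Scr.cons (nat_lit 9) (nat_lit 0) (Step.U (nat_lit 975) (Step.L Step.done))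 (Scr.cons (nat_lit 21) (nat_lit 11) (Step.U (nat_lit 1967) (Step.D (nat_lit 1968) (Step.F (nat_lit 2509) (Step.B (nat_lit 1752) (Step.U (nat_lit 1829) (Step.F (nat_lit 1628) (Step.B (nat_lit 2510) (Step.F (nat_lit 1545) (Step.U (nat_lit 2082) (Step.B (nat_lit 2511) (Step.U (nat_lit 978) (Step.L (Step.F (nat_lit 2512) (Step.D (nat_lit 2079) Step.done)))))))))))))) (Scr.cons (nat_lit 2) (nat_lit 0) (Step.D (nat_lit 2079) (Step.F (nat_lit 2513) Step.done)) (Scr.cons (nat_lit 3) (nat_lit 1) (Step.F (nat_lit 981) (Step.F (nat_lit 760) (Step.L Step.done))) (Scr.cons (nat_lit 2) (nat_lit 0) (Step.U (nat_lit 858) (Step.B (nat_lit 2515) (Step.D (nat_lit 529) Step.done))) (Scr.cons (nat_lit 1) (nat_lit 0) (Step.B (nat_lit 980) (Step.B (nat_lit 2516) (Step.D (nat_lit 1580) Step.done))) (Scr.cons (nat_lit 3) (nat_lit 0) (Step.F (nat_lit 2517) (Step.B (nat_lit 984) (Step.F (nat_lit 976) (Step.B (nat_lit 998) (Step.D (nat_lit 872) Step.done))))) (Scr.cons (nat_lit 9) (nat_lit 0) (Step.L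 (Step.D (nat_lit 560) Step.done)) (Scr.cons (nat_lit 3) (nat_lit 0) (Step.B (nat_lit 2519) (Step.B (nat_lit 1245) (Step.D (nat_lit 664) Step.done))) (Scr.cons (nat_lit 0) (nat_lit 0) (Step.F (nat_lit 2518) (Step.F (nat_lit 2517) (Step.U (nat_lit 1781) (Step.F (nat_lit 2520) (Step.F (nat_lit 1251) Step.done))))) Scr.nil))))))))))))))))))))))))))))))))))))))))
noncomputable def s63 : Scr := (Scr.cons (nat_lit 0) (nat_lit 0) (Step.F (nat_lit 1251) (Step.F (nat_lit 2521) (Step.D (nat_lit 1998) Step.done))) (Scr.cons (nat_lit 0) (nat_lit 0) (Step.D (nat_lit 1998) (Step.F (nat_lit 2522) Step.done)) (Scr.cons (nat_lit 3) (nat_lit 0) (Step.D (nat_lit 836) (Step.B (nat_lit 1756) (Step.D (nat_lit 872) Step.done))) (Scr.cons (nat_lit 0) (nat_lit 0) (Step.F (nat_lit 2523) (Step.F (nat_lit 2524) (Step.D (nat_lit 834) Step.done))) (Scr.cons (nat_lit 1) (nat_lit 0) (Step.U (nat_lit 1967) (Step.F (nat_lit 2525) (Step.D (nat_lit 1632) Step.done))) (Scr.cons (nat_lit 2) (nat_lit 0) (Step.B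 (nat_lit 2514) (Step.B (nat_lit 2526) Step.done)) (Scr.cons (nat_lit 8) (nat_lit 2) (Step.U (nat_lit 460) (Step.L (Step.L Step.done))) (Scr.cons (nat_lit 12) (nat_lit 7) (Step.L (Step.L (Step.B (nat_lit 2498) (Step.F (nat_lit 2499) (Step.L (Step.L (Step.L (Step.L (Step.L (Step.L (Step.L (Step.L (Step.D (nat_lit 974) (Step.D (nat_lit 2078) Step.done)))))))))))))) (Scr.cons (nat_lit 0) (nat_lit 0) (Step.D (nat_lit 2078) (Step.F (nat_lit 2529) (Step.L Step.done))) (Scr.cons (nat_lit 1) (nat_lit 0) (Step.D (nat_lit 974) (Step.B (nat_lit 2530) (Step.D (nat_lit 460) Step.done))) (Scr.cons (nat_lit 3) (nat_lit 1) (Step.F (nat_lit 2528) (Step.F (nat_lit 2531) (Step.D (nat_lit 975) Step.done))) (Scr.cons (nat_lit 2) (nat_lit 0) (Step.F (nat_lit 2527) (Step.F (nat_lit 2532) (Step.L Step.done))) (Scr.cons (nat_lit 1) (nat_lit 0) (Step.D (nat_lit 1632) (Step.B (nat_lit 2533) (Step.D (nat_lit 2418) Step.done))) (Scr.cons (nat_lit 1) (nat_lit 0) (Step.D (nat_lit 2418) (Step.F (nat_lit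 2534) Step.done)) (Scr.cons (nat_lit 20) (nat_lit 5) (Step.U (nat_lit 295) (Step.L (Step.L (Step.L (Step.L (Step.L (Step.L (Step.D (nat_lit 299) Step.done)))))))) (Scr.cons (nat_lit 21) (nat_lit 7) (Step.U (nat_lit 1074) (Step.B (nat_lit 2536) (Step.U (nat_lit 299) (Step.L (Step.L (Step.L (Step.L (Step.L (Step.L (Step.L (Step.L (Step.L (Step.L Step.done))))))))))))) (Scr.cons (nat_lit 8) (nat_lit 2) (Step.L (Step.L (Step.F (nat_lit 2537) Step.done))) (Scr.cons (nat_lit 9) (nat_lit 0) (Step.F (nat_lit 2538) (Step.D (nat_lit 1855) Step.done)) (Scr.cons (nat_lit 11) (nat_lit 1) (Step.L (Step.L (Step.L (Step.L (Step.L (Step.L (Step.D (nat_lit 446) (Step.D (nat_lit 1396) Step.done)))))))) (Scr.cons (nat_lit 9) (nat_lit 0) (Step.U (nat_lit 1375) (Step.L Step.done)) (Scr.cons (nat_lit 8) (nat_lit 2) (Step.U (nat_lit 2379) (Step.B (nat_lit 2541) (Step.D (nat_lit 2380) Step.done))) (Scr.cons (nat_lit 21) (nat_lit 5) (Step.U (nat_lit 1393) (Step.L (Step.L (Step.L (Step.L (Step.L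 (Step.L (Step.L (Step.L (Step.L (Step.L (Step.D (nat_lit 1375) (Step.D (nat_lit 2379) Step.done))))))))))))) (Scr.cons (nat_lit 8) (nat_lit 3) (Step.L (Step.L (Step.D (nat_lit 1393) Step.done))) (Scr.cons (nat_lit 13) (nat_lit 3) (Step.F (nat_lit 2542) (Step.F (nat_lit 2543) (Step.F (nat_lit 2544) (Step.L (Step.L (Step.L (Step.L (Step.L (Step.L (Step.L (Step.L (Step.D (nat_lit 1404) (Step.D (nat_lit 2398) Step.done))))))))))))) (Scr.cons (nat_lit 9) (nat_lit 0) (Step.U (nat_lit 2386) (Step.D (nat_lit 2387) Step.done)) (Scr.cons (nat_lit 8) (nat_lit 3) (Step.U (nat_lit 667) (Step.L (Step.D (nat_lit 1783) Step.done))) (Scr.cons (nat_lit 13) (nat_lit 5) (Step.F (nat_lit 2547) (Step.U (nat_lit 667) (Step.D (nat_lit 666) (Step.B (nat_lit 71) (Step.U (nat_lit 703) (Step.L (Step.B (nat_lit 1066) (Step.F (nat_lit 1087) (Step.L (Step.L (Step.L (Step.L (Step.D (nat_lit 1870) Step.done))))))))))))) (Scr.cons (nat_lit 20) (nat_lit 0) (Step.F (nat_lit 2548) (Step.F (nat_lit 2547) (Step.U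 (nat_lit 667) (Step.L (Step.L (Step.L (Step.D (nat_lit 668) (Step.D (nat_lit 1786) Step.done)))))))) (Scr.cons (nat_lit 9) (nat_lit 0) (Step.F (nat_lit 231) (Step.D (nat_lit 2239) Step.done)) (Scr.cons (nat_lit 3) (nat_lit 0) (Step.B (nat_lit 1072) (Step.B (nat_lit 1077) (Step.D (nat_lit 687) Step.done))) (Scr.cons (nat_lit 8) (nat_lit 3) (Step.U (nat_lit 687) (Step.D (nat_lit 685) (Step.D (nat_lit 1808) Step.done))) (Scr.cons (nat_lit 1) (nat_lit 0) (Step.B (nat_lit 2552) (Step.B (nat_lit 1082) (Step.D (nat_lit 1134) Step.done))) (Scr.cons (nat_lit 1) (nat_lit 0) (Step.B (nat_lit 2553) (Step.U (nat_lit 1134) (Step.B (nat_lit 1054) (Step.L Step.done)))) (Scr.cons (nat_lit 3) (nat_lit 0) (Step.D (nat_lit 1179) (Step.B (nat_lit 2551) (Step.B (nat_lit 2554) (Step.L Step.done)))) (Scr.cons (nat_lit 2) (nat_lit 0) (Step.U (nat_lit 1178) (Step.B (nat_lit 2555) (Step.L Step.done))) (Scr.cons (nat_lit 3) (nat_lit 0) (Step.U (nat_lit 2239) (Step.B (nat_lit 2556) (Step.D (nat_lit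 1870) Step.done))) (Scr.cons (nat_lit 3) (nat_lit 1) (Step.B (nat_lit 2550) (Step.B (nat_lit 2557) Step.done)) (Scr.cons (nat_lit 8) (nat_lit 3) (Step.L (Step.L (Step.D (nat_lit 1793) Step.done))) (Scr.cons (nat_lit 12) (nat_lit 13) (Step.F (nat_lit 2559) (Step.L (Step.L (Step.L (Step.L (Step.L (Step.L (Step.L (Step.L (Step.L (Step.L (Step.L (Step.D (nat_lit 1869) Step.done))))))))))))) (Scr.cons (nat_lit 1) (nat_lit 0) (Step.F (nat_lit 232) (Step.B (nat_lit 2556) (Step.D (nat_lit 1869) Step.done))) Scr.nil))))))))))))))))))))))))))))))))))))))))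
noncomputable def s64 : Scr := (Scr.cons (nat_lit 0) (nat_lit 0) (Step.B (nat_lit 2560) (Step.F (nat_lit 2561) (Step.D (nat_lit 2504) Step.done))) (Scr.cons (nat_lit 0) (nat_lit 0) (Step.D (nat_lit 2504) (Step.F (nat_lit 2562) Step.done)) (Scr.cons (nat_lit 21) (nat_lit 13) (Step.L (Step.L (Step.L (Step.L (Step.L (Step.L (Step.L (Step.L (Step.L (Step.L (Step.L (Step.D (nat_lit 522) (Step.D (nat_lit 1557) Step.done))))))))))))) (Scr.cons (nat_lit 8) (nat_lit 2) (Step.B (nat_lit 2564) (Step.U (nat_lit 1557) (Step.D (nat_lit 1556) Step.done))) (Scr.cons (nat_lit 9) (nat_lit 0) (Step.F (nat_lit 2565) (Step.D (nat_lit 1793) Step.done)) (Scr.cons (nat_lit 8) (nat_lit 2) (Step.U (nat_lit 1388) (Step.L (Step.D (nat_lit 1390) Step.done))) (Scr.cons (nat_lit 9) (nat_lit 0) (Step.F (nat_lit 2567) (Step.D (nat_lit 2388) Step.done)) (Scr.cons (nat_lit 9) (nat_lit 0) (Step.F (nat_lit 49) (Step.D (nat_lit 521) Step.done)) (Scr.cons (nat_lit 8) (nat_lit 2) (Step.U (nat_lit 522) (Step.B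 (nat_lit 2569) (Step.D (nat_lit 1555) Step.done))) (Scr.cons (nat_lit 8) (nat_lit 2) (Step.B (nat_lit 723) (Step.U (nat_lit 752) (Step.D (nat_lit 750) Step.done))) (Scr.cons (nat_lit 9) (nat_lit 0) (Step.F (nat_lit 2571) (Step.D (nat_lit 1846) Step.done)) (Scr.cons (nat_lit 3) (nat_lit 0) (Step.D (nat_lit 2416) (Step.B (nat_lit 2505) (Step.D (nat_lit 1846) Step.done))) (Scr.cons (nat_lit 3) (nat_lit 1) (Step.B (nat_lit 2572) (Step.F (nat_lit 2573) Step.done)) (Scr.cons (nat_lit 12) (nat_lit 11) (Step.U (nat_lit 2495) (Step.U (nat_lit 1553) (Step.U (nat_lit 519) (Step.U (nat_lit 115) (Step.L (Step.L (Step.L (Step.L (Step.L (Step.L (Step.L (Step.L (Step.D (nat_lit 1436) (Step.D (nat_lit 2417) Step.done)))))))))))))) (Scr.cons (nat_lit 2) (nat_lit 0) (Step.D (nat_lit 2495) (Step.B (nat_lit 2575) Step.done)) (Scr.cons (nat_lit 21) (nat_lit 2) (Step.U (nat_lit 1881) (Step.B (nat_lit 2574) (Step.U (nat_lit 1434) (Step.L (Step.L (Step.L (Step.D (nat_lit 1436) (Step.D (nat_lit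 2417) (Step.F (nat_lit 2576) (Step.U (nat_lit 1553) (Step.D (nat_lit 1554) (Step.F (nat_lit 824) (Step.D (nat_lit 1555) (Step.D (nat_lit 2496) Step.done)))))))))))))) (Scr.cons (nat_lit 1) (nat_lit 0) (Step.D (nat_lit 2496) (Step.F (nat_lit 2577) Step.done)) (Scr.cons (nat_lit 9) (nat_lit 0) (Step.F (nat_lit 2570) (Step.D (nat_lit 1557) Step.done)) (Scr.cons (nat_lit 8) (nat_lit 2) (Step.U (nat_lit 2496) (Step.B (nat_lit 2579) (Step.D (nat_lit 2497) Step.done))) (Scr.cons (nat_lit 9) (nat_lit 0) (Step.U (nat_lit 516) (Step.D (nat_lit 517) Step.done)) (Scr.cons (nat_lit 8) (nat_lit 2) (Step.U (nat_lit 1549) (Step.B (nat_lit 2581) (Step.D (nat_lit 1550) Step.done))) (Scr.cons (nat_lit 19) (nat_lit 1) (Step.U (nat_lit 2494) (Step.B (nat_lit 2582) (Step.U (nat_lit 1550) (Step.U (nat_lit 517) (Step.U (nat_lit 114) (Step.L (Step.L (Step.L (Step.L (Step.B (nat_lit 2569) (Step.D (nat_lit 1555) (Step.B (nat_lit 2579) (Step.D (nat_lit 2497) Step.done))))))))))))) (Scr.cons (nat_lit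 18) (nat_lit 0) (Step.B (nat_lit 2580) (Step.F (nat_lit 2583) Step.done)) (Scr.cons (nat_lit 3) (nat_lit 1) (Step.F (nat_lit 2584) (Step.F (nat_lit 2577) Step.done)) (Scr.cons (nat_lit 11) (nat_lit 7) (Step.U (nat_lit 662) (Step.L (Step.L (Step.L (Step.L (Step.L (Step.L (Step.L (Step.B (nat_lit 653) Step.done))))))))) (Scr.cons (nat_lit 1) (nat_lit 0) (Step.B (nat_lit 653) (Step.F (nat_lit 2586) (Step.D (nat_lit 1778) Step.done))) (Scr.cons (nat_lit 1) (nat_lit 0) (Step.D (nat_lit 1778) (Step.F (nat_lit 2587) Step.done)) (Scr.cons (nat_lit 13) (nat_lit 5) (Step.L (Step.L (Step.L (Step.L (Step.L (Step.L (Step.L (Step.D (nat_lit 662) (Step.B (nat_lit 2588) (Step.L (Step.D (nat_lit 1434) (Step.F (nat_lit 2574) (Step.D (nat_lit 1881) (Step.F (nat_lit 2585) Step.done)))))))))))))) (Scr.cons (nat_lit 3) (nat_lit 1) (Step.F (nat_lit 2585) (Step.F (nat_lit 2589) (Step.L Step.done))) (Scr.cons (nat_lit 1) (nat_lit 0) (Step.B (nat_lit 2578) (Step.B (nat_lit 2590) (Step.D (nat_lit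 1388) Step.done))) (Scr.cons (nat_lit 3) (nat_lit 0) (Step.B (nat_lit 2570) (Step.B (nat_lit 2591) (Step.D (nat_lit 2388) Step.done))) (Scr.cons (nat_lit 3) (nat_lit 1) (Step.B (nat_lit 2568) (Step.F (nat_lit 2592) Step.done)) (Scr.cons (nat_lit 8) (nat_lit 1) (Step.L (Step.L (Step.D (nat_lit 1387) Step.done))) (Scr.cons (nat_lit 10) (nat_lit 1) (Step.F (nat_lit 2549) (Step.F (nat_lit 2558) (Step.U (nat_lit 1567) (Step.L (Step.B (nat_lit 2563) (Step.F (nat_lit 2566) (Step.U (nat_lit 1556) (Step.F (nat_lit 2593) (Step.U (nat_lit 1390) (Step.L (Step.B (nat_lit 2594) (Step.U (nat_lit 1387) (Step.D (nat_lit 1386) (Step.D (nat_lit 2387) Step.done)))))))))))))) (Scr.cons (nat_lit 3) (nat_lit 0) (Step.B (nat_lit 2546) (Step.F (nat_lit 2595) (Step.U (nat_lit 1786) Step.done))) (Scr.cons (nat_lit 3) (nat_lit 1) (Step.D (nat_lit 2386) (Step.B (nat_lit 2596) Step.done)) (Scr.cons (nat_lit 8) (nat_lit 0) (Step.U (nat_lit 1784) (Step.F (nat_lit 2597) (Step.D (nat_lit 2385) Step.done)))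 (Scr.cons (nat_lit 11) (nat_lit 7) (Step.L (Step.L (Step.L (Step.L (Step.L (Step.L (Step.D (nat_lit 668) (Step.F (nat_lit 2597) (Step.D (nat_lit 2385) Step.done))))))))) (Scr.cons (nat_lit 3) (nat_lit 1) (Step.B (nat_lit 2598) (Step.F (nat_lit 2599) (Step.D (nat_lit 1933) Step.done))) (Scr.cons (nat_lit 3) (nat_lit 1) (Step.D (nat_lit 1933) (Step.F (nat_lit 2600) Step.done)) Scr.nil))))))))))))))))))))))))))))))))))))))))
noncomputable def s65 : Scr := (Scr.cons (nat_lit 1) (nat_lit 0) (Step.D (nat_lit 2385) (Step.F (nat_lit 2599) (Step.D (nat_lit 1932) Step.done))) (Scr.cons (nat_lit 1) (nat_lit 0) (Step.D (nat_lit 1932) (Step.F (nat_lit 2602) Step.done)) (Scr.cons (nat_lit 21) (nat_lit 11) (Step.F (nat_lit 2601) (Step.B (nat_lit 2603) (Step.U (nat_lit 1386) (Step.L (Step.L (Step.L (Step.L (Step.L (Step.L (Step.L (Step.D (nat_lit 1404) (Step.D (nat_lit 2398) (Step.F (nat_lit 2545) Step.done))))))))))))) (Scr.cons (nat_lit 8) (nat_lit 3) (Step.L (Step.L (Step.D (nat_lit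 1862) Step.done))) (Scr.cons (nat_lit 8) (nat_lit 3) (Step.L (Step.L (Step.D (nat_lit 743) Step.done))) (Scr.cons (nat_lit 12) (nat_lit 13) (Step.F (nat_lit 2606) (Step.L (Step.L (Step.L (Step.L (Step.L (Step.D (nat_lit 166) (Step.F (nat_lit 629) (Step.B (nat_lit 153) (Step.D (nat_lit 1218) (Step.B (nat_lit 725) (Step.U (nat_lit 1863) (Step.B (nat_lit 2605) Step.done))))))))))))) (Scr.cons (nat_lit 21) (nat_lit 3) (Step.U (nat_lit 1785) (Step.U (nat_lit 668) (Step.L (Step.L (Step.L (Step.L (Step.L (Step.L (Step.L (Step.B (nat_lit 2605) (Step.F (nat_lit 2607) (Step.F (nat_lit 2606) (Step.L Step.done))))))))))))) (Scr.cons (nat_lit 3) (nat_lit 1) (Step.F (nat_lit 231) (Step.B (nat_lit 2556) (Step.F (nat_lit 2608) Step.done))) (Scr.cons (nat_lit 1) (nat_lit 0) (Step.D (nat_lit 1785) (Step.F (nat_lit 2609) (Step.D (nat_lit 2503) Step.done))) (Scr.cons (nat_lit 1) (nat_lit 0) (Step.D (nat_lit 2503) (Step.F (nat_lit 2610) Step.done)) (Scr.cons (nat_lit 12) (nat_lit 2) (Step.U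 (nat_lit 2394) (Step.U (nat_lit 1399) (Step.L (Step.D (nat_lit 446) (Step.D (nat_lit 1396) (Step.F (nat_lit 2540) (Step.D (nat_lit 1404) (Step.D (nat_lit 2398) (Step.F (nat_lit 2545) (Step.F (nat_lit 2604) (Step.U (nat_lit 1784) (Step.F (nat_lit 2611) (Step.B (nat_lit 2558) Step.done))))))))))))) (Scr.cons (nat_lit 9) (nat_lit 0) (Step.U (nat_lit 1398) (Step.D (nat_lit 1399) Step.done)) (Scr.cons (nat_lit 8) (nat_lit 2) (Step.U (nat_lit 2392) (Step.B (nat_lit 2613) (Step.D (nat_lit 2393) Step.done))) (Scr.cons (nat_lit 11) (nat_lit 1) (Step.L (Step.L (Step.L (Step.L (Step.D (nat_lit 1870) (Step.F (nat_lit 2612) (Step.U (nat_lit 2394) (Step.D (nat_lit 2393) (Step.F (nat_lit 2614) Step.done))))))))) (Scr.cons (nat_lit 8) (nat_lit 1) (Step.F (nat_lit 2539) (Step.U (nat_lit 1074) (Step.D (nat_lit 1075) Step.done))) (Scr.cons (nat_lit 21) (nat_lit 0) (Step.L (Step.L (Step.L (Step.L (Step.L (Step.L (Step.L (Step.F (nat_lit 106) (Step.F (nat_lit 104) (Step.F (nat_lit 105) (Step.L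 (Step.L (Step.D (nat_lit 616) Step.done))))))))))))) (Scr.cons (nat_lit 8) (nat_lit 2) (Step.U (nat_lit 1979) (Step.L (Step.D (nat_lit 1980) Step.done))) (Scr.cons (nat_lit 10) (nat_lit 1) (Step.U (nat_lit 1853) (Step.D (nat_lit 1855) (Step.B (nat_lit 2616) (Step.U (nat_lit 1075) (Step.U (nat_lit 295) (Step.L (Step.L (Step.L (Step.L (Step.F (nat_lit 579) (Step.F (nat_lit 2617) (Step.L (Step.D (nat_lit 1980) (Step.F (nat_lit 2618) Step.done)))))))))))))) (Scr.cons (nat_lit 1) (nat_lit 0) (Step.D (nat_lit 1979) (Step.F (nat_lit 2619) Step.done)) (Scr.cons (nat_lit 22) (nat_lit 4) (Step.F (nat_lit 2620) (Step.L (Step.L (Step.L (Step.L (Step.L (Step.L (Step.L (Step.L (Step.D (nat_lit 59) (Step.D (nat_lit 336) (Step.D (nat_lit 1174) (Step.D (nat_lit 2234) Step.done))))))))))))) (Scr.cons (nat_lit 8) (nat_lit 3) (Step.F (nat_lit 2621) (Step.U (nat_lit 1853) (Step.D (nat_lit 1855) Step.done))) (Scr.cons (nat_lit 0) (nat_lit 0) (Step.F (nat_lit 1140) (Step.B (nat_lit 2554) (Step.L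 Step.done))) (Scr.cons (nat_lit 2) (nat_lit 0) (Step.U (nat_lit 2234) (Step.B (nat_lit 2623) (Step.L Step.done))) (Scr.cons (nat_lit 1) (nat_lit 0) (Step.F (nat_lit 2622) (Step.B (nat_lit 2624) (Step.D (nat_lit 1867) Step.done))) (Scr.cons (nat_lit 1) (nat_lit 0) (Step.D (nat_lit 1867) (Step.F (nat_lit 2625) Step.done)) (Scr.cons (nat_lit 1) (nat_lit 0) (Step.D (nat_lit 2392) (Step.F (nat_lit 2615) (Step.B (nat_lit 2626) Step.done))) (Scr.cons (nat_lit 3) (nat_lit 0) (Step.B (nat_lit 2539) (Step.F (nat_lit 2627) (Step.U (nat_lit 1398) Step.done))) (Scr.cons (nat_lit 3) (nat_lit 1) (Step.B (nat_lit 2538) (Step.B (nat_lit 2628) Step.done)) (Scr.cons (nat_lit 8) (nat_lit 1) (Step.U (nat_lit 447) (Step.L (Step.D (nat_lit 1398) Step.done))) (Scr.cons (nat_lit 0) (nat_lit 0) (Step.F (nat_lit 2616) (Step.F (nat_lit 2627) (Step.F (nat_lit 2630) Step.done))) (Scr.cons (nat_lit 3) (nat_lit 0) (Step.D (nat_lit 1075) (Step.B (nat_lit 2631) (Step.U (nat_lit 447) Step.done))) (Scr.cons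 (nat_lit 0) (nat_lit 0) (Step.D (nat_lit 295) (Step.B (nat_lit 2632) (Step.D (nat_lit 446) Step.done))) (Scr.cons (nat_lit 0) (nat_lit 0) (Step.D (nat_lit 446) (Step.F (nat_lit 2633) Step.done)) (Scr.cons (nat_lit 3) (nat_lit 0) (Step.U (nat_lit 620) (Step.B (nat_lit 2219) (Step.L Step.done))) (Scr.cons (nat_lit 0) (nat_lit 0) (Step.F (nat_lit 2031) (Step.B (nat_lit 2635) (Step.D (nat_lit 1458) Step.done))) (Scr.cons (nat_lit 0) (nat_lit 0) (Step.D (nat_lit 1458) (Step.F (nat_lit 2636) Step.done)) (Scr.cons (nat_lit 9) (nat_lit 0) (Step.U (nat_lit 540) (Step.D (nat_lit 541) Step.done)) (Scr.cons (nat_lit 8) (nat_lit 2) (Step.U (nat_lit 1606) (Step.B (nat_lit 2638) (Step.D (nat_lit 1608) Step.done))) (Scr.cons (nat_lit 8) (nat_lit 3) (Step.U (nat_lit 814) (Step.L (Step.D (nat_lit 1944) Step.done))) (Scr.cons (nat_lit 12) (nat_lit 13) (Step.F (nat_lit 19) (Step.L (Step.L (Step.L (Step.L (Step.L (Step.L (Step.L (Step.L (Step.L (Step.L (Step.D (nat_lit 193) (Step.D (nat_lit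 815) Step.done))))))))))))) Scr.nil))))))))))))))))))))))))))))))))))))))))
noncomputable def s66 : Scr := (Scr.cons (nat_lit 9) (nat_lit 0) (Step.U (nat_lit 311) (Step.D (nat_lit 312) Step.done)) (Scr.cons (nat_lit 8) (nat_lit 0) (Step.F (nat_lit 2641) (Step.F (nat_lit 2642) (Step.D (nat_lit 1109) Step.done))) (Scr.cons (nat_lit 8) (nat_lit 2) (Step.U (nat_lit 302) (Step.L (Step.D (nat_lit 303) Step.done))) (Scr.cons (nat_lit 9) (nat_lit 0) (Step.F (nat_lit 2644) (Step.D (nat_lit 1095) Step.done)) (Scr.cons (nat_lit 19) (nat_lit 0) (Step.F (nat_lit 2643) (Step.F (nat_lit 2641) (Step.U (nat_lit 312) (Step.U (nat_lit 54) (Step.L (Step.L (Step.L (Step.L (Step.L (Step.L (Step.L (Step.D (nat_lit 303) (Step.B (nat_lit 2645) Step.done))))))))))))) (Scr.cons (nat_lit 8) (nat_lit 2) (Step.U (nat_lit 1096) (Step.B (nat_lit 2645) (Step.F (nat_lit 2646) Step.done))) (Scr.cons (nat_lit 9) (nat_lit 0) (Step.B (nat_lit 2643) (Step.F (nat_lit 2647) Step.done)) (Scr.cons (nat_lit 8) (nat_lit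 1) (Step.F (nat_lit 2648) (Step.U (nat_lit 815) (Step.D (nat_lit 816) Step.done))) (Scr.cons (nat_lit 11) (nat_lit 1) (Step.B (nat_lit 2649) (Step.U (nat_lit 816) (Step.U (nat_lit 193) (Step.L (Step.L (Step.L (Step.L (Step.D (nat_lit 1944) Step.done)))))))) (Scr.cons (nat_lit 22) (nat_lit 0) (Step.U (nat_lit 1110) (Step.B (nat_lit 2642) (Step.B (nat_lit 22) (Step.L (Step.L (Step.L (Step.L (Step.L (Step.L (Step.L (Step.D (nat_lit 122) (Step.D (nat_lit 546) (Step.D (nat_lit 1612) Step.done))))))))))))) (Scr.cons (nat_lit 8) (nat_lit 2) (Step.B (nat_lit 2651) (Step.U (nat_lit 1612) (Step.D (nat_lit 1611) Step.done))) (Scr.cons (nat_lit 21) (nat_lit 1) (Step.B (nat_lit 2640) (Step.F (nat_lit 2650) (Step.B (nat_lit 2647) (Step.U (nat_lit 1109) (Step.D (nat_lit 1110) (Step.B (nat_lit 2652) (Step.U (nat_lit 1611) (Step.U (nat_lit 546) (Step.U (nat_lit 122) (Step.L (Step.L (Step.D (nat_lit 121) (Step.B (nat_lit 223) (Step.D (nat_lit 1608) Step.done)))))))))))))) (Scr.cons (nat_lit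 9) (nat_lit 0) (Step.U (nat_lit 813) (Step.D (nat_lit 814) Step.done)) (Scr.cons (nat_lit 3) (nat_lit 0) (Step.B (nat_lit 2639) (Step.F (nat_lit 2653) (Step.F (nat_lit 2654) Step.done))) (Scr.cons (nat_lit 1) (nat_lit 0) (Step.D (nat_lit 1606) (Step.B (nat_lit 2655) Step.done)) (Scr.cons (nat_lit 22) (nat_lit 0) (Step.U (nat_lit 1285) (Step.U (nat_lit 386) (Step.D (nat_lit 385) (Step.D (nat_lit 1284) (Step.F (nat_lit 1595) (Step.U (nat_lit 453) (Step.L (Step.L (Step.L (Step.L (Step.L (Step.D (nat_lit 455) (Step.D (nat_lit 1416) Step.done))))))))))))) (Scr.cons (nat_lit 9) (nat_lit 0) (Step.L (Step.D (nat_lit 386) Step.done)) (Scr.cons (nat_lit 9) (nat_lit 0) (Step.U (nat_lit 83) (Step.D (nat_lit 84) Step.done)) (Scr.cons (nat_lit 8) (nat_lit 2) (Step.U (nat_lit 420) (Step.B (nat_lit 2659) (Step.D (nat_lit 421) Step.done))) (Scr.cons (nat_lit 10) (nat_lit 1) (Step.F (nat_lit 2658) (Step.L (Step.L (Step.L (Step.L (Step.L (Step.L (Step.L (Step.L (Step.L (Step.D (nat_lit 84)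 (Step.D (nat_lit 421) (Step.F (nat_lit 2660) Step.done))))))))))))) (Scr.cons (nat_lit 8) (nat_lit 0) (Step.F (nat_lit 2661) (Step.F (nat_lit 2658) (Step.D (nat_lit 387) Step.done))) (Scr.cons (nat_lit 11) (nat_lit 3) (Step.U (nat_lit 1415) (Step.D (nat_lit 1416) (Step.F (nat_lit 2657) (Step.U (nat_lit 1285) (Step.B (nat_lit 2661) (Step.B (nat_lit 2662) (Step.D (nat_lit 1287) (Step.D (nat_lit 2313) Step.done)))))))) (Scr.cons (nat_lit 9) (nat_lit 0) (Step.U (nat_lit 2525) (Step.D (nat_lit 2526) Step.done)) (Scr.cons (nat_lit 3) (nat_lit 1) (Step.D (nat_lit 1855) (Step.F (nat_lit 2627) (Step.B (nat_lit 2613) Step.done))) (Scr.cons (nat_lit 2) (nat_lit 0) (Step.U (nat_lit 2394) (Step.F (nat_lit 2665) (Step.D (nat_lit 1854) Step.done))) (Scr.cons (nat_lit 1) (nat_lit 0) (Step.F (nat_lit 2612) (Step.B (nat_lit 2666) Step.done)) (Scr.cons (nat_lit 11) (nat_lit 1) (Step.F (nat_lit 1657) (Step.U (nat_lit 191) (Step.U (nat_lit 27) (Step.L (Step.L (Step.L (Step.D (nat_lit 802)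 (Step.D (nat_lit 1938) Step.done)))))))) (Scr.cons (nat_lit 21) (nat_lit 4) (Step.L (Step.B (nat_lit 1003) (Step.B (nat_lit 1855) (Step.B (nat_lit 1853) (Step.F (nat_lit 1850) (Step.B (nat_lit 2668) (Step.F (nat_lit 1920) (Step.F (nat_lit 1921) (Step.F (nat_lit 580) (Step.F (nat_lit 135) (Step.D (nat_lit 275) (Step.D (nat_lit 1025) (Step.D (nat_lit 2125) Step.done))))))))))))) (Scr.cons (nat_lit 18) (nat_lit 0) (Step.L (Step.D (nat_lit 2036) Step.done)) (Scr.cons (nat_lit 20) (nat_lit 4) (Step.U (nat_lit 1887) (Step.U (nat_lit 755) (Step.L (Step.L (Step.L (Step.L (Step.L (Step.D (nat_lit 2036) Step.done)))))))) (Scr.cons (nat_lit 8) (nat_lit 3) (Step.U (nat_lit 758) (Step.D (nat_lit 755) (Step.D (nat_lit 1887) Step.done))) (Scr.cons (nat_lit 9) (nat_lit 0) (Step.U (nat_lit 757) (Step.D (nat_lit 758) Step.done)) (Scr.cons (nat_lit 8) (nat_lit 1) (Step.F (nat_lit 1004) (Step.U (nat_lit 756) (Step.D (nat_lit 757) Step.done))) (Scr.cons (nat_lit 8) (nat_lit 2) (Step.U (nat_lit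 1171) (Step.F (nat_lit 221) (Step.D (nat_lit 1237) Step.done))) (Scr.cons (nat_lit 10) (nat_lit 0) (Step.U (nat_lit 1888) (Step.F (nat_lit 2673) (Step.F (nat_lit 2674) (Step.F (nat_lit 1004) (Step.B (nat_lit 1855) (Step.U (nat_lit 372) (Step.L (Step.D (nat_lit 70) (Step.D (nat_lit 377) (Step.F (nat_lit 219) (Step.D (nat_lit 1237) (Step.F (nat_lit 2675) (Step.D (nat_lit 2229) Step.done))))))))))))) (Scr.cons (nat_lit 8) (nat_lit 3) (Step.B (nat_lit 2676) (Step.U (nat_lit 2229) (Step.B (nat_lit 859) Step.done))) (Scr.cons (nat_lit 12) (nat_lit 8) (Step.F (nat_lit 2669) (Step.B (nat_lit 2670) (Step.F (nat_lit 2671) (Step.F (nat_lit 2672) (Step.D (nat_lit 1888) (Step.B (nat_lit 2677) (Step.F (nat_lit 859) (Step.U (nat_lit 1171) (Step.B (nat_lit 225) (Step.U (nat_lit 541) (Step.L (Step.D (nat_lit 1603) (Step.D (nat_lit 2524) Step.done))))))))))))) (Scr.cons (nat_lit 8) (nat_lit 1) (Step.U (nat_lit 540) (Step.L (Step.D (nat_lit 1605) Step.done))) (Scr.cons (nat_lit 21) (nat_lit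 4) (Step.U (nat_lit 1604) (Step.D (nat_lit 1605) (Step.F (nat_lit 2679) (Step.B (nat_lit 2656) (Step.U (nat_lit 813) (Step.L (Step.L (Step.L (Step.L (Step.L (Step.L (Step.L (Step.D (nat_lit 1957) Step.done))))))))))))) (Scr.cons (nat_lit 9) (nat_lit 0) (Step.U (nat_lit 1957) (Step.D (nat_lit 1958) Step.done)) Scr.nil))))))))))))))))))))))))))))))))))))))))
noncomputable def s67 : Scr := (Scr.cons (nat_lit 20) (nat_lit 4) (Step.F (nat_lit 1625) (Step.B (nat_lit 1624) (Step.B (nat_lit 2678) (Step.U (nat_lit 2524) (Step.U (nat_lit 1603) (Step.D (nat_lit 1604) (Step.B (nat_lit 2680) (Step.B (nat_lit 2681) Step.done)))))))) (Scr.cons (nat_lit 2) (nat_lit 0) (Step.F (nat_lit 2682) (Step.B (nat_lit 1816) (Step.D (nat_lit 2484) Step.done))) (Scr.cons (nat_lit 2) (nat_lit 0) (Step.B (nat_lit 2683) (Step.U (nat_lit 2484) (Step.B (nat_lit 1825) (Step.D (nat_lit 2139) Step.done)))) (Scr.cons (nat_lit 2) (nat_lit 0) (Step.D (nat_lit 2139) (Step.F (nat_lit 2684) Step.done)) (Scr.cons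 (nat_lit 2) (nat_lit 0) (Step.F (nat_lit 2685) (Step.B (nat_lit 1831) (Step.D (nat_lit 2014) Step.done))) (Scr.cons (nat_lit 2) (nat_lit 0) (Step.D (nat_lit 2014) (Step.F (nat_lit 2686) Step.done)) (Scr.cons (nat_lit 8) (nat_lit 1) (Step.U (nat_lit 913) (Step.L (Step.D (nat_lit 2036) Step.done))) (Scr.cons (nat_lit 3) (nat_lit 1) (Step.D (nat_lit 1868) (Step.F (nat_lit 1368) (Step.B (nat_lit 1372) (Step.D (nat_lit 913) Step.done)))) (Scr.cons (nat_lit 8) (nat_lit 0) (Step.B (nat_lit 1356) (Step.U (nat_lit 2075) (Step.D (nat_lit 2074) Step.done))) (Scr.cons (nat_lit 1) (nat_lit 0) (Step.U (nat_lit 2074) (Step.B (nat_lit 1050) (Step.D (nat_lit 1134) Step.done))) (Scr.cons (nat_lit 3) (nat_lit 0) (Step.B (nat_lit 2690) (Step.B (nat_lit 2691) Step.done)) (Scr.cons (nat_lit 3) (nat_lit 1) (Step.B (nat_lit 2692) (Step.F (nat_lit 2553) (Step.B (nat_lit 2554) (Step.D (nat_lit 176) Step.done)))) (Scr.cons (nat_lit 0) (nat_lit 0) (Step.F (nat_lit 2693) (Step.B (nat_lit 1359) (Step.F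 (nat_lit 1084) (Step.U (nat_lit 685) Step.done)))) (Scr.cons (nat_lit 1) (nat_lit 0) (Step.B (nat_lit 2689) (Step.D (nat_lit 2037) (Step.B (nat_lit 2693) (Step.B (nat_lit 2694) (Step.L Step.done))))) (Scr.cons (nat_lit 0) (nat_lit 0) (Step.F (nat_lit 2688) (Step.F (nat_lit 2689) (Step.B (nat_lit 2695) (Step.D (nat_lit 1809) Step.done)))) (Scr.cons (nat_lit 2) (nat_lit 0) (Step.B (nat_lit 2671) (Step.B (nat_lit 2696) Step.done)) (Scr.cons (nat_lit 8) (nat_lit 1) (Step.U (nat_lit 1513) (Step.L (Step.D (nat_lit 2455) Step.done))) (Scr.cons (nat_lit 11) (nat_lit 1) (Step.F (nat_lit 2698) (Step.U (nat_lit 1513) (Step.L (Step.L (Step.L (Step.D (nat_lit 499) (Step.D (nat_lit 1517) (Step.D (nat_lit 2459) Step.done)))))))) (Scr.cons (nat_lit 8) (nat_lit 3) (Step.U (nat_lit 1520) (Step.D (nat_lit 1517) (Step.D (nat_lit 2459) Step.done))) (Scr.cons (nat_lit 9) (nat_lit 0) (Step.U (nat_lit 1519) (Step.D (nat_lit 1520) Step.done)) (Scr.cons (nat_lit 8) (nat_lit 2) (Step.U (nat_lit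 2461) (Step.B (nat_lit 2701) (Step.D (nat_lit 2462) Step.done))) (Scr.cons (nat_lit 9) (nat_lit 0) (Step.F (nat_lit 2702) (Step.F (nat_lit 1951) Step.done)) (Scr.cons (nat_lit 3) (nat_lit 0) (Step.B (nat_lit 2703) (Step.B (nat_lit 1953) (Step.L Step.done))) (Scr.cons (nat_lit 0) (nat_lit 0) (Step.D (nat_lit 2462) (Step.B (nat_lit 2704) (Step.L Step.done))) (Scr.cons (nat_lit 1) (nat_lit 0) (Step.F (nat_lit 2700) (Step.B (nat_lit 2705) (Step.L Step.done))) (Scr.cons (nat_lit 2) (nat_lit 0) (Step.B (nat_lit 2699) (Step.B (nat_lit 2706) (Step.L Step.done))) (Scr.cons (nat_lit 18) (nat_lit 0) (Step.F (nat_lit 1142) (Step.B (nat_lit 1141) Step.done)) (Scr.cons (nat_lit 1) (nat_lit 0) (Step.U (nat_lit 1725) (Step.B (nat_lit 1372) (Step.L Step.done))) (Scr.cons (nat_lit 3) (nat_lit 0) (Step.F (nat_lit 1142) (Step.B (nat_lit 2709) (Step.L Step.done))) (Scr.cons (nat_lit 3) (nat_lit 1) (Step.F (nat_lit 2708) (Step.B (nat_lit 2710) Step.done)) (Scr.cons (nat_lit 3) (nat_lit 0) (Step.D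 (nat_lit 2455) (Step.B (nat_lit 2707) (Step.F (nat_lit 2711) Step.done))) (Scr.cons (nat_lit 2) (nat_lit 0) (Step.B (nat_lit 2697) (Step.F (nat_lit 2712) (Step.D (nat_lit 2454) Step.done))) (Scr.cons (nat_lit 2) (nat_lit 0) (Step.D (nat_lit 2454) (Step.F (nat_lit 2713) Step.done)) (Scr.cons (nat_lit 3) (nat_lit 0) (Step.B (nat_lit 2676) (Step.B (nat_lit 1339) (Step.L Step.done))) (Scr.cons (nat_lit 8) (nat_lit 1) (Step.L (Step.L (Step.D (nat_lit 1076) Step.done))) (Scr.cons (nat_lit 0) (nat_lit 0) (Step.D (nat_lit 1888) (Step.B (nat_lit 2715) (Step.B (nat_lit 2716) Step.done))) (Scr.cons (nat_lit 3) (nat_lit 1) (Step.D (nat_lit 1076) (Step.F (nat_lit 2717) Step.done)) (Scr.cons (nat_lit 21) (nat_lit 4) (Step.F (nat_lit 2687) (Step.L (Step.L (Step.L (Step.L (Step.B (nat_lit 2714) (Step.F (nat_lit 2672) (Step.F (nat_lit 2718) (Step.L (Step.L (Step.L (Step.D (nat_lit 1397) (Step.D (nat_lit 2391) Step.done))))))))))))) (Scr.cons (nat_lit 22) (nat_lit 4) (Step.L (Step.L (Step.D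 (nat_lit 1870) (Step.B (nat_lit 2667) (Step.U (nat_lit 1854) (Step.L (Step.D (nat_lit 1397) (Step.D (nat_lit 2391) (Step.F (nat_lit 2719) (Step.F (nat_lit 2681) (Step.F (nat_lit 2680) (Step.U (nat_lit 1604) (Step.D (nat_lit 1605) (Step.D (nat_lit 2527) Step.done)))))))))))))) (Scr.cons (nat_lit 2) (nat_lit 0) (Step.D (nat_lit 2527) (Step.F (nat_lit 2720) (Step.D (nat_lit 1568) Step.done))) Scr.nil))))))))))))))))))))))))))))))))))))))))
noncomputable def s68 : Scr := (Scr.cons (nat_lit 3) (nat_lit 0) (Step.D (nat_lit 1605) (Step.B (nat_lit 2721) (Step.D (nat_lit 2506) Step.done))) (Scr.cons (nat_lit 3) (nat_lit 0) (Step.D (nat_lit 2506) (Step.F (nat_lit 2722) Step.done)) (Scr.cons (nat_lit 0) (nat_lit 0) (Step.B (nat_lit 2679) (Step.B (nat_lit 2721) (Step.D (nat_lit 2505) Step.done))) (Scr.cons (nat_lit 0) (nat_lit 0) (Step.D (nat_lit 2505) (Step.F (nat_lit 2724) Step.done)) (Scr.cons (nat_lit 13) (nat_lit 0) (Step.U (nat_lit 2299) (Step.U (nat_lit 1275) (Step.U (nat_lit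 381) (Step.L (Step.L (Step.L (Step.L (Step.D (nat_lit 364) (Step.B (nat_lit 221) (Step.B (nat_lit 225) (Step.F (nat_lit 2638) (Step.D (nat_lit 1607) (Step.D (nat_lit 2528) Step.done))))))))))))) (Scr.cons (nat_lit 8) (nat_lit 1) (Step.B (nat_lit 2726) (Step.U (nat_lit 2528) (Step.D (nat_lit 2529) Step.done))) (Scr.cons (nat_lit 3) (nat_lit 1) (Step.U (nat_lit 1275) (Step.F (nat_lit 1599) (Step.L Step.done))) (Scr.cons (nat_lit 1) (nat_lit 0) (Step.U (nat_lit 2299) (Step.B (nat_lit 2728) (Step.D (nat_lit 387) Step.done))) (Scr.cons (nat_lit 0) (nat_lit 0) (Step.F (nat_lit 2727) (Step.B (nat_lit 2729) (Step.D (nat_lit 1286) Step.done))) (Scr.cons (nat_lit 18) (nat_lit 0) (Step.F (nat_lit 2662) (Step.B (nat_lit 2660) Step.done)) (Scr.cons (nat_lit 8) (nat_lit 0) (Step.U (nat_lit 1286) (Step.B (nat_lit 2731) (Step.D (nat_lit 1345) Step.done))) (Scr.cons (nat_lit 3) (nat_lit 0) (Step.D (nat_lit 2529) (Step.B (nat_lit 2730) (Step.B (nat_lit 2732) Step.done))) (Scr.cons (nat_lit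 2) (nat_lit 0) (Step.D (nat_lit 1607) (Step.B (nat_lit 2733) (Step.D (nat_lit 2348) Step.done))) (Scr.cons (nat_lit 2) (nat_lit 0) (Step.D (nat_lit 2348) (Step.F (nat_lit 2734) Step.done)) (Scr.cons (nat_lit 20) (nat_lit 3) (Step.U (nat_lit 2526) (Step.U (nat_lit 1604) (Step.F (nat_lit 2723) (Step.B (nat_lit 2725) (Step.F (nat_lit 2735) (Step.F (nat_lit 2732) (Step.U (nat_lit 1286) (Step.D (nat_lit 1287) (Step.D (nat_lit 2314) Step.done))))))))) (Scr.cons (nat_lit 3) (nat_lit 1) (Step.B (nat_lit 2664) (Step.B (nat_lit 2736) Step.done)) (Scr.cons (nat_lit 21) (nat_lit 10) (Step.L (Step.L (Step.L (Step.L (Step.L (Step.L (Step.L (Step.L (Step.D (nat_lit 455) (Step.D (nat_lit 1415) (Step.B (nat_lit 2663) (Step.U (nat_lit 2313) (Step.D (nat_lit 2314) (Step.F (nat_lit 2737) Step.done)))))))))))))) (Scr.cons (nat_lit 3) (nat_lit 0) (Step.D (nat_lit 2525) (Step.F (nat_lit 2738) (Step.D (nat_lit 1425) Step.done))) (Scr.cons (nat_lit 2) (nat_lit 0) (Step.D (nat_lit 1604) (Step.B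 (nat_lit 2739) (Step.D (nat_lit 2411) Step.done))) (Scr.cons (nat_lit 2) (nat_lit 0) (Step.D (nat_lit 2411) (Step.F (nat_lit 2740) Step.done)) (Scr.cons (nat_lit 22) (nat_lit 2) (Step.L (Step.L (Step.D (nat_lit 813) (Step.F (nat_lit 2656) (Step.U (nat_lit 540) (Step.L (Step.F (nat_lit 2741) (Step.U (nat_lit 1425) (Step.L (Step.L (Step.L (Step.L (Step.D (nat_lit 1417) (Step.D (nat_lit 2405) Step.done)))))))))))))) (Scr.cons (nat_lit 2) (nat_lit 0) (Step.D (nat_lit 2405) (Step.F (nat_lit 2742) (Step.L Step.done))) (Scr.cons (nat_lit 0) (nat_lit 0) (Step.B (nat_lit 2637) (Step.B (nat_lit 2743) (Step.D (nat_lit 1945) Step.done))) (Scr.cons (nat_lit 0) (nat_lit 0) (Step.D (nat_lit 1945) (Step.F (nat_lit 2744) Step.done)) (Scr.cons (nat_lit 20) (nat_lit 3) (Step.L (Step.L (Step.L (Step.L (Step.L (Step.L (Step.D (nat_lit 538) (Step.D (nat_lit 1601) Step.done)))))))) (Scr.cons (nat_lit 9) (nat_lit 0) (Step.L (Step.D (nat_lit 537) Step.done)) (Scr.cons (nat_lit 22) (nat_lit 6)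 (Step.U (nat_lit 937) (Step.D (nat_lit 938) (Step.F (nat_lit 833) (Step.F (nat_lit 664) (Step.B (nat_lit 657) (Step.F (nat_lit 661) (Step.L (Step.L (Step.L (Step.B (nat_lit 14) (Step.D (nat_lit 173) (Step.D (nat_lit 738) (Step.D (nat_lit 1866) Step.done))))))))))))) (Scr.cons (nat_lit 9) (nat_lit 0) (Step.F (nat_lit 934) (Step.F (nat_lit 2748) Step.done)) (Scr.cons (nat_lit 22) (nat_lit 4) (Step.U (nat_lit 1745) (Step.B (nat_lit 2746) (Step.U (nat_lit 1601) (Step.U (nat_lit 538) (Step.B (nat_lit 2747) (Step.D (nat_lit 1600) (Step.B (nat_lit 2749) (Step.U (nat_lit 937) (Step.F (nat_lit 639) (Step.U (nat_lit 238) (Step.D (nat_lit 239) (Step.D (nat_lit 935) (Step.D (nat_lit 2051) Step.done))))))))))))) (Scr.cons (nat_lit 2) (nat_lit 0) (Step.U (nat_lit 2051) (Step.B (nat_lit 839) (Step.B (nat_lit 899) (Step.D (nat_lit 565) Step.done)))) (Scr.cons (nat_lit 3) (nat_lit 1) (Step.B (nat_lit 2750) (Step.B (nat_lit 2751) (Step.D (nat_lit 1642) Step.done))) (Scr.cons (nat_lit 1)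 (nat_lit 0) (Step.D (nat_lit 1745) (Step.B (nat_lit 2752) Step.done)) (Scr.cons (nat_lit 22) (nat_lit 3) (Step.L (Step.L (Step.L (Step.L (Step.L (Step.L (Step.L (Step.L (Step.L (Step.L (Step.L (Step.L (Step.D (nat_lit 1414) (Step.D (nat_lit 2404) Step.done)))))))))))))) (Scr.cons (nat_lit 3) (nat_lit 0) (Step.D (nat_lit 2404) (Step.F (nat_lit 2754) (Step.L Step.done))) (Scr.cons (nat_lit 2) (nat_lit 0) (Step.D (nat_lit 1414) (Step.B (nat_lit 2755) (Step.D (nat_lit 565) Step.done))) (Scr.cons (nat_lit 3) (nat_lit 1) (Step.U (nat_lit 1642) (Step.F (nat_lit 2756) (Step.L Step.done))) (Scr.cons (nat_lit 1) (nat_lit 0) (Step.B (nat_lit 2753) (Step.B (nat_lit 2757) (Step.D (nat_lit 1380) Step.done))) (Scr.cons (nat_lit 2) (nat_lit 0) (Step.F (nat_lit 192) (Step.F (nat_lit 2758) (Step.L Step.done))) (Scr.cons (nat_lit 3) (nat_lit 0) (Step.D (nat_lit 775) (Step.B (nat_lit 2759) (Step.D (nat_lit 637) Step.done))) (Scr.cons (nat_lit 3) (nat_lit 0) (Step.D (nat_lit 637) (Step.F (nat_lit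 2760) Step.done)) Scr.nil))))))))))))))))))))))))))))))))))))))))
noncomputable def s69 : Scr := (Scr.cons (nat_lit 8) (nat_lit 2) (Step.U (nat_lit 1715) (Step.L (Step.D (nat_lit 1716) Step.done))) (Scr.cons (nat_lit 9) (nat_lit 0) (Step.U (nat_lit 1547) (Step.D (nat_lit 1548) Step.done)) (Scr.cons (nat_lit 8) (nat_lit 2) (Step.U (nat_lit 2492) (Step.B (nat_lit 2763) (Step.D (nat_lit 2493) Step.done))) (Scr.cons (nat_lit 8) (nat_lit 1) (Step.U (nat_lit 516) (Step.D (nat_lit 515) (Step.D (nat_lit 1547) Step.done))) (Scr.cons (nat_lit 19) (nat_lit 1) (Step.U (nat_lit 2221) (Step.B (nat_lit 389) (Step.U (nat_lit 1161) (Step.L (Step.L (Step.L (Step.L (Step.L (Step.D (nat_lit 114) (Step.D (nat_lit 516) (Step.B (nat_lit 2765) (Step.B (nat_lit 2763) (Step.D (nat_lit 2493) Step.done))))))))))))) (Scr.cons (nat_lit 8) (nat_lit 3) (Step.F (nat_lit 2766) (Step.U (nat_lit 2221) (Step.D (nat_lit 2223) Step.done))) (Scr.cons (nat_lit 9) (nat_lit 0) (Step.F (nat_lit 389) (Step.D (nat_lit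 2223) Step.done)) (Scr.cons (nat_lit 3) (nat_lit 1) (Step.F (nat_lit 2768) (Step.B (nat_lit 2301) (Step.D (nat_lit 1335) Step.done))) (Scr.cons (nat_lit 1) (nat_lit 0) (Step.B (nat_lit 2767) (Step.B (nat_lit 2769) (Step.D (nat_lit 2342) Step.done))) (Scr.cons (nat_lit 3) (nat_lit 1) (Step.B (nat_lit 2764) (Step.B (nat_lit 2770) Step.done)) (Scr.cons (nat_lit 12) (nat_lit 3) (Step.U (nat_lit 1999) (Step.U (nat_lit 873) (Step.U (nat_lit 214) (Step.B (nat_lit 21) (Step.U (nat_lit 116) (Step.L (Step.L (Step.L (Step.L (Step.D (nat_lit 114) (Step.D (nat_lit 515) (Step.D (nat_lit 1547) (Step.D (nat_lit 2492) Step.done))))))))))))) (Scr.cons (nat_lit 1) (nat_lit 0) (Step.U (nat_lit 33) (Step.F (nat_lit 957) (Step.L Step.done))) (Scr.cons (nat_lit 0) (nat_lit 0) (Step.U (nat_lit 214) (Step.B (nat_lit 2773) (Step.L Step.done))) (Scr.cons (nat_lit 1) (nat_lit 0) (Step.U (nat_lit 873) (Step.B (nat_lit 2774) (Step.D (nat_lit 639) Step.done))) (Scr.cons (nat_lit 3) (nat_lit 0) (Step.U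 (nat_lit 1999) (Step.B (nat_lit 2775) (Step.D (nat_lit 1746) Step.done))) (Scr.cons (nat_lit 2) (nat_lit 0) (Step.F (nat_lit 2772) (Step.B (nat_lit 2776) Step.done)) (Scr.cons (nat_lit 3) (nat_lit 1) (Step.F (nat_lit 189) (Step.B (nat_lit 2759) (Step.L Step.done))) (Scr.cons (nat_lit 1) (nat_lit 0) (Step.B (nat_lit 188) (Step.B (nat_lit 2778) (Step.D (nat_lit 639) Step.done))) (Scr.cons (nat_lit 3) (nat_lit 0) (Step.U (nat_lit 1746) (Step.F (nat_lit 2779) (Step.L Step.done))) (Scr.cons (nat_lit 2) (nat_lit 0) (Step.B (nat_lit 2777) (Step.B (nat_lit 2780) (Step.D (nat_lit 778) Step.done))) (Scr.cons (nat_lit 3) (nat_lit 1) (Step.F (nat_lit 2771) (Step.B (nat_lit 2781) (Step.D (nat_lit 1909) Step.done))) (Scr.cons (nat_lit 1) (nat_lit 0) (Step.D (nat_lit 2342) (Step.B (nat_lit 2782) Step.done)) (Scr.cons (nat_lit 20) (nat_lit 4) (Step.F (nat_lit 2766) (Step.U (nat_lit 2221) (Step.D (nat_lit 2222) (Step.F (nat_lit 387) (Step.U (nat_lit 1231) (Step.D (nat_lit 1232) (Step.D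 (nat_lit 2277) (Step.F (nat_lit 378) Step.done)))))))) (Scr.cons (nat_lit 2) (nat_lit 0) (Step.F (nat_lit 2784) (Step.B (nat_lit 2770) Step.done)) (Scr.cons (nat_lit 2) (nat_lit 0) (Step.B (nat_lit 2785) (Step.B (nat_lit 2782) Step.done)) (Scr.cons (nat_lit 21) (nat_lit 11) (Step.U (nat_lit 1715) (Step.L (Step.L (Step.L (Step.L (Step.L (Step.D (nat_lit 1335) (Step.B (nat_lit 2783) (Step.F (nat_lit 2786) (Step.B (nat_lit 2467) (Step.F (nat_lit 2472) (Step.U (nat_lit 695) (Step.D (nat_lit 697) (Step.D (nat_lit 1820) Step.done)))))))))))))) (Scr.cons (nat_lit 2) (nat_lit 0) (Step.D (nat_lit 1820) (Step.F (nat_lit 2787) Step.done)) (Scr.cons (nat_lit 11) (nat_lit 8) (Step.D (nat_lit 1716) (Step.F (nat_lit 2762) (Step.F (nat_lit 2788) (Step.B (nat_lit 2484) (Step.F (nat_lit 2479) (Step.U (nat_lit 558) (Step.L (Step.L (Step.D (nat_lit 1628) Step.done))))))))) (Scr.cons (nat_lit 2) (nat_lit 0) (Step.D (nat_lit 1628) (Step.F (nat_lit 2789) (Step.D (nat_lit 1717) Step.done))) (Scr.cons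 (nat_lit 2) (nat_lit 0) (Step.D (nat_lit 1717) (Step.F (nat_lit 2790) Step.done)) (Scr.cons (nat_lit 8) (nat_lit 3) (Step.L (Step.L (Step.D (nat_lit 1713) Step.done))) (Scr.cons (nat_lit 9) (nat_lit 0) (Step.U (nat_lit 1816) (Step.D (nat_lit 1817) Step.done)) (Scr.cons (nat_lit 20) (nat_lit 5) (Step.L (Step.L (Step.L (Step.L (Step.L (Step.L (Step.D (nat_lit 1) (Step.D (nat_lit 34) Step.done)))))))) (Scr.cons (nat_lit 18) (nat_lit 0) (Step.F (nat_lit 2794) (Step.D (nat_lit 199) Step.done)) (Scr.cons (nat_lit 8) (nat_lit 0) (Step.U (nat_lit 216) (Step.B (nat_lit 2795) (Step.D (nat_lit 839) Step.done))) (Scr.cons (nat_lit 8) (nat_lit 1) (Step.U (nat_lit 199) (Step.D (nat_lit 198) (Step.D (nat_lit 838) Step.done))) (Scr.cons (nat_lit 10) (nat_lit 0) (Step.F (nat_lit 2797) (Step.U (nat_lit 199) (Step.L (Step.L (Step.L (Step.L (Step.L (Step.L (Step.L (Step.L (Step.L (Step.L (Step.L Step.done))))))))))))) (Scr.cons (nat_lit 8) (nat_lit 3) (Step.U (nat_lit 478) (Step.L (Step.F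 (nat_lit 2798) Step.done))) (Scr.cons (nat_lit 8) (nat_lit 3) (Step.U (nat_lit 991) (Step.D (nat_lit 990) (Step.D (nat_lit 2092) Step.done))) (Scr.cons (nat_lit 11) (nat_lit 1) (Step.F (nat_lit 119) (Step.U (nat_lit 262) (Step.U (nat_lit 44) (Step.F (nat_lit 8) (Step.D (nat_lit 41) (Step.D (nat_lit 255) (Step.D (nat_lit 990) (Step.D (nat_lit 2092) Step.done)))))))) Scr.nil))))))))))))))))))))))))))))))))))))))))
noncomputable def s70 : Scr := (Scr.cons (nat_lit 21) (nat_lit 10) (Step.U (nat_lit 2005) (Step.U (nat_lit 879) (Step.B (nat_lit 2796) (Step.U (nat_lit 839) (Step.B (nat_lit 2797) (Step.F (nat_lit 2799) (Step.F (nat_lit 622) (Step.B (nat_lit 1023) (Step.B (nat_lit 2800) (Step.F (nat_lit 2801) (Step.B (nat_lit 2477) (Step.B (nat_lit 2478) (Step.B (nat_lit 2501) (Step.F (nat_lit 2793) Step.done)))))))))))))) (Scr.cons (nat_lit 2) (nat_lit 0) (Step.D (nat_lit 2005) (Step.B (nat_lit 2802) Step.done)) (Scr.cons (nat_lit 2) (nat_lit 0) (Step.U (nat_lit 34) (Step.F (nat_lit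 957) (Step.L Step.done))) (Scr.cons (nat_lit 0) (nat_lit 0) (Step.U (nat_lit 216) (Step.B (nat_lit 2804) (Step.L Step.done))) (Scr.cons (nat_lit 1) (nat_lit 0) (Step.U (nat_lit 879) (Step.B (nat_lit 2805) (Step.L Step.done))) (Scr.cons (nat_lit 2) (nat_lit 0) (Step.F (nat_lit 2803) (Step.B (nat_lit 2806) (Step.D (nat_lit 1774) Step.done))) (Scr.cons (nat_lit 3) (nat_lit 0) (Step.F (nat_lit 2793) (Step.B (nat_lit 2807) Step.done)) (Scr.cons (nat_lit 12) (nat_lit 7) (Step.F (nat_lit 2762) (Step.F (nat_lit 2788) (Step.B (nat_lit 2501) (Step.B (nat_lit 2808) (Step.U (nat_lit 1774) (Step.L (Step.L (Step.L (Step.L (Step.L (Step.L (Step.L (Step.D (nat_lit 1205) (Step.D (nat_lit 2263) Step.done)))))))))))))) (Scr.cons (nat_lit 0) (nat_lit 0) (Step.D (nat_lit 2263) (Step.F (nat_lit 2809) (Step.U (nat_lit 1716) Step.done))) (Scr.cons (nat_lit 1) (nat_lit 0) (Step.D (nat_lit 1205) (Step.B (nat_lit 2810) (Step.B (nat_lit 2792) Step.done))) (Scr.cons (nat_lit 1) (nat_lit 0) (Step.B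 (nat_lit 2792) (Step.F (nat_lit 2811) Step.done)) (Scr.cons (nat_lit 8) (nat_lit 3) (Step.U (nat_lit 1328) (Step.D (nat_lit 1325) (Step.D (nat_lit 2340) Step.done))) (Scr.cons (nat_lit 8) (nat_lit 1) (Step.L (Step.L (Step.D (nat_lit 1327) Step.done))) (Scr.cons (nat_lit 21) (nat_lit 1) (Step.U (nat_lit 824) (Step.L (Step.L (Step.L (Step.L (Step.L (Step.L (Step.L (Step.L (Step.L (Step.L (Step.L (Step.L (Step.D (nat_lit 1716) Step.done)))))))))))))) (Scr.cons (nat_lit 0) (nat_lit 0) (Step.D (nat_lit 1716) (Step.F (nat_lit 2815) (Step.D (nat_lit 1961) Step.done))) (Scr.cons (nat_lit 0) (nat_lit 0) (Step.D (nat_lit 1961) (Step.F (nat_lit 2816) Step.done)) (Scr.cons (nat_lit 11) (nat_lit 5) (Step.U (nat_lit 824) (Step.L (Step.L (Step.L (Step.D (nat_lit 28) (Step.D (nat_lit 196) (Step.D (nat_lit 822) (Step.D (nat_lit 1956) Step.done)))))))) (Scr.cons (nat_lit 11) (nat_lit 2) (Step.U (nat_lit 825) (Step.L (Step.L (Step.L (Step.D (nat_lit 28) (Step.D (nat_lit 196) (Step.D (nat_lit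 822) (Step.D (nat_lit 1956) Step.done)))))))) (Scr.cons (nat_lit 9) (nat_lit 0) (Step.U (nat_lit 825) (Step.D (nat_lit 826) Step.done)) (Scr.cons (nat_lit 19) (nat_lit 1) (Step.U (nat_lit 2340) (Step.U (nat_lit 1325) (Step.D (nat_lit 1327) (Step.F (nat_lit 2814) (Step.L (Step.L (Step.L (Step.L (Step.L (Step.F (nat_lit 2817) (Step.B (nat_lit 2818) (Step.F (nat_lit 2819) (Step.B (nat_lit 2820) (Step.D (nat_lit 1963) Step.done)))))))))))))) (Scr.cons (nat_lit 1) (nat_lit 0) (Step.B (nat_lit 2813) (Step.B (nat_lit 2821) Step.done)) (Scr.cons (nat_lit 8) (nat_lit 3) (Step.U (nat_lit 1131) (Step.D (nat_lit 1129) (Step.D (nat_lit 2192) Step.done))) (Scr.cons (nat_lit 12) (nat_lit 8) (Step.U (nat_lit 1264) (Step.U (nat_lit 375) (Step.U (nat_lit 69) (Step.L (Step.L (Step.L (Step.L (Step.L (Step.L (Step.L (Step.D (nat_lit 320) (Step.D (nat_lit 1129) (Step.D (nat_lit 2192) Step.done))))))))))))) (Scr.cons (nat_lit 9) (nat_lit 0) (Step.U (nat_lit 375) (Step.D (nat_lit 376) Step.done))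 (Scr.cons (nat_lit 8) (nat_lit 2) (Step.U (nat_lit 1264) (Step.B (nat_lit 2825) (Step.D (nat_lit 1265) Step.done))) (Scr.cons (nat_lit 22) (nat_lit 4) (Step.U (nat_lit 1625) (Step.B (nat_lit 450) (Step.U (nat_lit 323) (Step.U (nat_lit 58) (Step.L (Step.L (Step.L (Step.D (nat_lit 320) (Step.D (nat_lit 1131) (Step.B (nat_lit 2823) (Step.F (nat_lit 2824) (Step.B (nat_lit 2826) (Step.D (nat_lit 2289) Step.done))))))))))))) (Scr.cons (nat_lit 1) (nat_lit 0) (Step.F (nat_lit 2823) (Step.F (nat_lit 1084) (Step.D (nat_lit 1807) Step.done))) (Scr.cons (nat_lit 2) (nat_lit 0) (Step.B (nat_lit 2824) (Step.B (nat_lit 2828) Step.done)) (Scr.cons (nat_lit 1) (nat_lit 0) (Step.U (nat_lit 1807) (Step.B (nat_lit 1085) (Step.L Step.done))) (Scr.cons (nat_lit 2) (nat_lit 0) (Step.B (nat_lit 2829) (Step.B (nat_lit 2830) (Step.L Step.done))) (Scr.cons (nat_lit 3) (nat_lit 1) (Step.F (nat_lit 2826) (Step.B (nat_lit 2831) (Step.L Step.done))) (Scr.cons (nat_lit 2) (nat_lit 0) (Step.U (nat_lit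 2289) (Step.B (nat_lit 2832) (Step.L Step.done))) (Scr.cons (nat_lit 3) (nat_lit 1) (Step.B (nat_lit 2827) (Step.B (nat_lit 2833) (Step.L Step.done))) (Scr.cons (nat_lit 1) (nat_lit 0) (Step.D (nat_lit 1625) (Step.B (nat_lit 2834) (Step.D (nat_lit 2341) Step.done))) (Scr.cons (nat_lit 1) (nat_lit 0) (Step.D (nat_lit 2341) (Step.F (nat_lit 2835) Step.done)) (Scr.cons (nat_lit 12) (nat_lit 0) (Step.F (nat_lit 2822) (Step.U (nat_lit 1328) (Step.L (Step.L (Step.L (Step.B (nat_lit 2836) (Step.F (nat_lit 449) (Step.U (nat_lit 324) (Step.U (nat_lit 58) (Step.L (Step.L (Step.L (Step.D (nat_lit 1008) (Step.D (nat_lit 2107) Step.done)))))))))))))) (Scr.cons (nat_lit 0) (nat_lit 0) (Step.D (nat_lit 2107) (Step.F (nat_lit 2837) (Step.U (nat_lit 1963) Step.done))) (Scr.cons (nat_lit 8) (nat_lit 3) (Step.U (nat_lit 826) (Step.L (Step.D (nat_lit 1960) Step.done))) (Scr.cons (nat_lit 1) (nat_lit 0) (Step.D (nat_lit 1008) (Step.B (nat_lit 2838) (Step.B (nat_lit 2839) Step.done))) (Scr.cons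 (nat_lit 3) (nat_lit 1) (Step.D (nat_lit 1960) (Step.F (nat_lit 2840) (Step.D (nat_lit 1009) Step.done))) Scr.nil))))))))))))))))))))))))))))))))))))))))
noncomputable def s71 : Scr := (Scr.cons (nat_lit 3) (nat_lit 1) (Step.D (nat_lit 1009) (Step.F (nat_lit 2841) Step.done)) (Scr.cons (nat_lit 13) (nat_lit 1) (Step.U (nat_lit 1900) (Step.U (nat_lit 770) (Step.L (Step.L (Step.L (Step.L (Step.L (Step.L (Step.L (Step.F (nat_lit 1530) (Step.D (nat_lit 316) (Step.D (nat_lit 1117) (Step.D (nat_lit 2180) Step.done))))))))))))) (Scr.cons (nat_lit 3) (nat_lit 0) (Step.D (nat_lit 265) (Step.B (nat_lit 1536) (Step.F (nat_lit 1530) Step.done))) (Scr.cons (nat_lit 2) (nat_lit 0) (Step.U (nat_lit 316) (Step.F (nat_lit 2844) (Step.L Step.done))) (Scr.cons (nat_lit 1) (nat_lit 0) (Step.U (nat_lit 1117) (Step.B (nat_lit 2845) (Step.D (nat_lit 1008) Step.done))) (Scr.cons (nat_lit 8) (nat_lit 1) (Step.U (nat_lit 1009) (Step.D (nat_lit 1008) (Step.D (nat_lit 2108) Step.done))) (Scr.cons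 (nat_lit 11) (nat_lit 1) (Step.F (nat_lit 2847) (Step.U (nat_lit 1009) (Step.L (Step.D (nat_lit 266) (Step.F (nat_lit 1176) (Step.D (nat_lit 271) (Step.D (nat_lit 1014) (Step.D (nat_lit 2114) Step.done)))))))) (Scr.cons (nat_lit 8) (nat_lit 3) (Step.U (nat_lit 1017) (Step.D (nat_lit 1014) (Step.D (nat_lit 2114) Step.done))) (Scr.cons (nat_lit 9) (nat_lit 0) (Step.U (nat_lit 1016) (Step.D (nat_lit 1017) Step.done)) (Scr.cons (nat_lit 11) (nat_lit 2) (Step.U (nat_lit 655) (Step.U (nat_lit 152) (Step.D (nat_lit 153) (Step.B (nat_lit 150) (Step.U (nat_lit 361) (Step.D (nat_lit 360) (Step.F (nat_lit 871) (Step.D (nat_lit 1220) Step.done)))))))) (Scr.cons (nat_lit 10) (nat_lit 0) (Step.U (nat_lit 1765) (Step.F (nat_lit 1190) (Step.B (nat_lit 2851) (Step.F (nat_lit 872) (Step.F (nat_lit 1196) (Step.D (nat_lit 1762) (Step.F (nat_lit 874) (Step.F (nat_lit 873) (Step.F (nat_lit 2851) (Step.U (nat_lit 655) (Step.D (nat_lit 653) (Step.B (nat_lit 851) (Step.D (nat_lit 2113) Step.done)))))))))))))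 (Scr.cons (nat_lit 12) (nat_lit 8) (Step.U (nat_lit 1108) (Step.U (nat_lit 310) (Step.L (Step.L (Step.D (nat_lit 308) (Step.B (nat_lit 1185) (Step.D (nat_lit 2028) (Step.B (nat_lit 1191) (Step.U (nat_lit 1764) (Step.B (nat_lit 1190) (Step.B (nat_lit 1189) (Step.D (nat_lit 2113) (Step.F (nat_lit 2852) Step.done))))))))))))) (Scr.cons (nat_lit 8) (nat_lit 2) (Step.U (nat_lit 1763) (Step.B (nat_lit 1190) (Step.D (nat_lit 1765) Step.done))) (Scr.cons (nat_lit 3) (nat_lit 1) (Step.F (nat_lit 2854) (Step.B (nat_lit 1199) (Step.L Step.done))) (Scr.cons (nat_lit 2) (nat_lit 0) (Step.B (nat_lit 2853) (Step.B (nat_lit 2855) (Step.L Step.done))) (Scr.cons (nat_lit 0) (nat_lit 0) (Step.F (nat_lit 1178) (Step.B (nat_lit 2856) (Step.L Step.done))) (Scr.cons (nat_lit 3) (nat_lit 1) (Step.F (nat_lit 2850) (Step.B (nat_lit 2857) (Step.D (nat_lit 230) Step.done))) (Scr.cons (nat_lit 1) (nat_lit 0) (Step.F (nat_lit 2849) (Step.B (nat_lit 2858) (Step.D (nat_lit 904) Step.done))) (Scr.cons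 (nat_lit 2) (nat_lit 0) (Step.B (nat_lit 2848) (Step.B (nat_lit 2859) (Step.D (nat_lit 2027) Step.done))) (Scr.cons (nat_lit 3) (nat_lit 1) (Step.D (nat_lit 2108) (Step.B (nat_lit 2860) Step.done)) (Scr.cons (nat_lit 3) (nat_lit 1) (Step.U (nat_lit 2180) (Step.B (nat_lit 2846) (Step.B (nat_lit 2861) Step.done))) (Scr.cons (nat_lit 1) (nat_lit 0) (Step.B (nat_lit 2843) (Step.B (nat_lit 2862) Step.done)) (Scr.cons (nat_lit 3) (nat_lit 1) (Step.F (nat_lit 2861) (Step.B (nat_lit 2838) (Step.U (nat_lit 826) Step.done))) (Scr.cons (nat_lit 1) (nat_lit 0) (Step.B (nat_lit 2863) (Step.B (nat_lit 2864) (Step.D (nat_lit 824) Step.done))) (Scr.cons (nat_lit 3) (nat_lit 0) (Step.B (nat_lit 2762) (Step.F (nat_lit 2815) (Step.D (nat_lit 1962) Step.done))) (Scr.cons (nat_lit 3) (nat_lit 0) (Step.D (nat_lit 1962) (Step.F (nat_lit 2866) Step.done)) (Scr.cons (nat_lit 3) (nat_lit 0) (Step.D (nat_lit 1900) (Step.B (nat_lit 2865) (Step.B (nat_lit 2867) Step.done))) (Scr.cons (nat_lit 2) (nat_lit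 0) (Step.B (nat_lit 2788) (Step.F (nat_lit 2868) (Step.U (nat_lit 770) Step.done))) (Scr.cons (nat_lit 21) (nat_lit 0) (Step.U (nat_lit 293) (Step.L (Step.L (Step.L (Step.L (Step.L (Step.L (Step.L (Step.L (Step.L (Step.L (Step.L (Step.D (nat_lit 681) Step.done))))))))))))) (Scr.cons (nat_lit 0) (nat_lit 0) (Step.D (nat_lit 240) (Step.F (nat_lit 1276) (Step.D (nat_lit 225) Step.done))) (Scr.cons (nat_lit 3) (nat_lit 0) (Step.F (nat_lit 613) (Step.F (nat_lit 2871) (Step.L Step.done))) (Scr.cons (nat_lit 0) (nat_lit 0) (Step.B (nat_lit 2870) (Step.B (nat_lit 2872) (Step.L Step.done))) (Scr.cons (nat_lit 2) (nat_lit 0) (Step.U (nat_lit 1071) (Step.B (nat_lit 2873) (Step.D (nat_lit 930) Step.done))) (Scr.cons (nat_lit 20) (nat_lit 2) (Step.U (nat_lit 921) (Step.U (nat_lit 235) (Step.L (Step.L (Step.L (Step.L (Step.L (Step.D (nat_lit 930) Step.done)))))))) (Scr.cons (nat_lit 1) (nat_lit 0) (Step.F (nat_lit 2304) (Step.B (nat_lit 2874) (Step.F (nat_lit 2875) Step.done))) (Scr.cons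 (nat_lit 3) (nat_lit 1) (Step.D (nat_lit 1899) (Step.B (nat_lit 2876) (Step.U (nat_lit 921) Step.done))) (Scr.cons (nat_lit 1) (nat_lit 0) (Step.D (nat_lit 769) (Step.B (nat_lit 2877) (Step.D (nat_lit 920) Step.done))) (Scr.cons (nat_lit 1) (nat_lit 0) (Step.D (nat_lit 920) (Step.F (nat_lit 2878) Step.done)) (Scr.cons (nat_lit 1) (nat_lit 0) (Step.F (nat_lit 2501) (Step.B (nat_lit 2869) (Step.F (nat_lit 2879) Step.done))) (Scr.cons (nat_lit 2) (nat_lit 0) (Step.B (nat_lit 2502) (Step.B (nat_lit 2880) (Step.U (nat_lit 235) Step.done))) Scr.nil))))))))))))))))))))))))))))))))))))))))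
noncomputable def s72 : Scr := (Scr.cons (nat_lit 0) (nat_lit 0) (Step.B (nat_lit 651) (Step.B (nat_lit 2881) (Step.D (nat_lit 234) Step.done))) (Scr.cons (nat_lit 0) (nat_lit 0) (Step.D (nat_lit 234) (Step.F (nat_lit 2882) Step.done)) (Scr.cons (nat_lit 20) (nat_lit 4) (Step.U (nat_lit 1533) (Step.L (Step.L (Step.D (nat_lit 110) (Step.F (nat_lit 207) (Step.D (nat_lit 112) (Step.D (nat_lit 510) (Step.D (nat_lit 1539) Step.done)))))))) (Scr.cons (nat_lit 21) (nat_lit 6) (Step.L (Step.L (Step.L (Step.L (Step.D (nat_lit 1207) (Step.F (nat_lit 604) (Step.D (nat_lit 2232) (Step.F (nat_lit 598) (Step.D (nat_lit 2235) (Step.F (nat_lit 1147) (Step.F (nat_lit 2884) (Step.U (nat_lit 1533) (Step.D (nat_lit 1532) (Step.D (nat_lit 2477) Step.done)))))))))))))) (Scr.cons (nat_lit 2) (nat_lit 0) (Step.D (nat_lit 2477) (Step.F (nat_lit 2885) (Step.D (nat_lit 353) Step.done))) (Scr.cons (nat_lit 1) (nat_lit 0) (Step.D (nat_lit 1532) (Step.B (nat_lit 2886) (Step.D (nat_lit 1214) Step.done)))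 (Scr.cons (nat_lit 1) (nat_lit 0) (Step.D (nat_lit 1214) (Step.F (nat_lit 2887) Step.done)) (Scr.cons (nat_lit 3) (nat_lit 0) (Step.B (nat_lit 2476) (Step.B (nat_lit 2869) (Step.L Step.done))) (Scr.cons (nat_lit 0) (nat_lit 0) (Step.F (nat_lit 2475) (Step.B (nat_lit 2889) (Step.L Step.done))) (Scr.cons (nat_lit 1) (nat_lit 0) (Step.F (nat_lit 2888) (Step.B (nat_lit 2890) (Step.D (nat_lit 763) Step.done))) (Scr.cons (nat_lit 1) (nat_lit 0) (Step.D (nat_lit 763) (Step.F (nat_lit 2891) Step.done)) (Scr.cons (nat_lit 8) (nat_lit 0) (Step.U (nat_lit 214) (Step.B (nat_lit 21) (Step.D (nat_lit 524) Step.done))) (Scr.cons (nat_lit 18) (nat_lit 0) (Step.F (nat_lit 2893) (Step.D (nat_lit 874) Step.done)) (Scr.cons (nat_lit 8) (nat_lit 0) (Step.U (nat_lit 1563) (Step.B (nat_lit 2894) (Step.D (nat_lit 2000) Step.done))) (Scr.cons (nat_lit 9) (nat_lit 0) (Step.F (nat_lit 982) (Step.F (nat_lit 740) Step.done)) (Scr.cons (nat_lit 19) (nat_lit 0) (Step.F (nat_lit 2895) (Step.U (nat_lit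 1563) (Step.F (nat_lit 2893) (Step.U (nat_lit 214) (Step.B (nat_lit 692) (Step.U (nat_lit 35) (Step.U (nat_lit 2) (Step.L (Step.D (nat_lit 31) (Step.B (nat_lit 759) (Step.B (nat_lit 981) (Step.D (nat_lit 857) (Step.B (nat_lit 2896) Step.done))))))))))))) (Scr.cons (nat_lit 0) (nat_lit 0) (Step.B (nat_lit 2897) (Step.B (nat_lit 1217) (Step.F (nat_lit 1222) (Step.D (nat_lit 2176) Step.done)))) (Scr.cons (nat_lit 9) (nat_lit 0) (Step.L (Step.D (nat_lit 637) Step.done)) (Scr.cons (nat_lit 3) (nat_lit 1) (Step.U (nat_lit 874) (Step.B (nat_lit 2774) (Step.B (nat_lit 2899) Step.done))) (Scr.cons (nat_lit 8) (nat_lit 3) (Step.U (nat_lit 637) (Step.L (Step.D (nat_lit 1744) Step.done))) (Scr.cons (nat_lit 1) (nat_lit 0) (Step.U (nat_lit 2000) (Step.B (nat_lit 2900) (Step.B (nat_lit 2901) Step.done))) (Scr.cons (nat_lit 0) (nat_lit 0) (Step.D (nat_lit 2176) (Step.F (nat_lit 2898) (Step.B (nat_lit 2902) Step.done))) (Scr.cons (nat_lit 8) (nat_lit 1) (Step.U (nat_lit 775) (Step.L (Step.D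 (nat_lit 1906) Step.done))) (Scr.cons (nat_lit 0) (nat_lit 0) (Step.F (nat_lit 2904) (Step.B (nat_lit 2759) (Step.L Step.done))) (Scr.cons (nat_lit 3) (nat_lit 0) (Step.D (nat_lit 1906) (Step.B (nat_lit 2905) (Step.D (nat_lit 1744) Step.done))) (Scr.cons (nat_lit 0) (nat_lit 0) (Step.B (nat_lit 2903) (Step.F (nat_lit 2906) (Step.D (nat_lit 1905) Step.done))) (Scr.cons (nat_lit 0) (nat_lit 0) (Step.D (nat_lit 1905) (Step.F (nat_lit 2907) Step.done)) (Scr.cons (nat_lit 11) (nat_lit 2) (Step.L (Step.L (Step.L (Step.L (Step.L (Step.L (Step.L (Step.D (nat_lit 1069) Step.done)))))))) (Scr.cons (nat_lit 11) (nat_lit 5) (Step.U (nat_lit 670) (Step.L (Step.L (Step.L (Step.L (Step.L (Step.L (Step.D (nat_lit 1069) Step.done)))))))) (Scr.cons (nat_lit 13) (nat_lit 2) (Step.U (nat_lit 2097) (Step.F (nat_lit 2477) (Step.B (nat_lit 2801) (Step.F (nat_lit 2800) (Step.U (nat_lit 991) (Step.F (nat_lit 614) (Step.U (nat_lit 157) (Step.L (Step.L (Step.L (Step.D (nat_lit 670) (Step.B (nat_lit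 2910) (Step.D (nat_lit 2155) Step.done))))))))))))) (Scr.cons (nat_lit 2) (nat_lit 0) (Step.U (nat_lit 2097) (Step.F (nat_lit 2483) (Step.D (nat_lit 1655) Step.done))) (Scr.cons (nat_lit 3) (nat_lit 0) (Step.F (nat_lit 2911) (Step.B (nat_lit 2912) Step.done)) (Scr.cons (nat_lit 8) (nat_lit 1) (Step.L (Step.L (Step.D (nat_lit 767) Step.done))) (Scr.cons (nat_lit 11) (nat_lit 1) (Step.F (nat_lit 2914) (Step.L (Step.L (Step.L (Step.L (Step.L (Step.L (Step.D (nat_lit 776) Step.done)))))))) (Scr.cons (nat_lit 2) (nat_lit 0) (Step.B (nat_lit 2915) (Step.B (nat_lit 2778) (Step.D (nat_lit 640) Step.done))) (Scr.cons (nat_lit 0) (nat_lit 0) (Step.B (nat_lit 2914) (Step.B (nat_lit 2916) (Step.D (nat_lit 1747) Step.done))) (Scr.cons (nat_lit 0) (nat_lit 0) (Step.D (nat_lit 1747) (Step.F (nat_lit 2917) Step.done)) (Scr.cons (nat_lit 0) (nat_lit 0) (Step.F (nat_lit 2484) (Step.B (nat_lit 2869) (Step.F (nat_lit 2918) Step.done))) (Scr.cons (nat_lit 2) (nat_lit 0) (Step.D (nat_lit 640)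 (Step.F (nat_lit 2919) (Step.D (nat_lit 1655) Step.done))) (Scr.cons (nat_lit 3) (nat_lit 1) (Step.B (nat_lit 2913) (Step.F (nat_lit 2920) (Step.L Step.done))) Scr.nil))))))))))))))))))))))))))))))))))))))))
noncomputable def s73 : Scr := (Scr.cons (nat_lit 1) (nat_lit 0) (Step.D (nat_lit 2155) (Step.B (nat_lit 2921) (Step.L Step.done))) (Scr.cons (nat_lit 0) (nat_lit 0) (Step.B (nat_lit 2909) (Step.B (nat_lit 2922) (Step.B (nat_lit 2908) Step.done))) (Scr.cons (nat_lit 0) (nat_lit 0) (Step.B (nat_lit 2908) (Step.F (nat_lit 2923) Step.done)) (Scr.cons (nat_lit 8) (nat_lit 3) (Step.U (nat_lit 970) (Step.D (nat_lit 967) (Step.D (nat_lit 2071) Step.done))) (Scr.cons (nat_lit 9) (nat_lit 0) (Step.U (nat_lit 2266) (Step.D (nat_lit 2267) Step.done)) (Scr.cons (nat_lit 21) (nat_lit 4) (Step.U (nat_lit 2070) (Step.B (nat_lit 339) (Step.B (nat_lit 341) (Step.F (nat_lit 336) (Step.L (Step.D (nat_lit 299) (Step.F (nat_lit 1338) (Step.L (Step.L (Step.L (Step.L (Step.D (nat_lit 1207)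 (Step.D (nat_lit 2266) Step.done))))))))))))) (Scr.cons (nat_lit 11) (nat_lit 4) (Step.F (nat_lit 2926) (Step.F (nat_lit 2927) (Step.U (nat_lit 2070) (Step.F (nat_lit 340) (Step.U (nat_lit 249) (Step.D (nat_lit 248) (Step.D (nat_lit 967) (Step.D (nat_lit 2071) Step.done)))))))) (Scr.cons (nat_lit 22) (nat_lit 3) (Step.U (nat_lit 2073) (Step.U (nat_lit 968) (Step.D (nat_lit 970) (Step.B (nat_lit 2925) (Step.F (nat_lit 2928) (Step.U (nat_lit 2267) (Step.U (nat_lit 1207) (Step.L (Step.L (Step.L (Step.L (Step.D (nat_lit 353) (Step.D (nat_lit 1215) Step.done))))))))))))) (Scr.cons (nat_lit 9) (nat_lit 0) (Step.U (nat_lit 2072) (Step.D (nat_lit 2073) Step.done)) (Scr.cons (nat_lit 11) (nat_lit 6) (Step.U (nat_lit 1723) (Step.U (nat_lit 626) (Step.L (Step.D (nat_lit 1724) (Step.F (nat_lit 2468) (Step.B (nat_lit 375) (Step.F (nat_lit 2929) (Step.F (nat_lit 2930) Step.done)))))))) (Scr.cons (nat_lit 8) (nat_lit 1) (Step.U (nat_lit 969) (Step.D (nat_lit 968) (Step.D (nat_lit 2072)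 Step.done))) (Scr.cons (nat_lit 11) (nat_lit 1) (Step.F (nat_lit 2932) (Step.U (nat_lit 969) (Step.U (nat_lit 248) (Step.D (nat_lit 250) (Step.F (nat_lit 878) (Step.D (nat_lit 252) (Step.D (nat_lit 981) (Step.D (nat_lit 2086) Step.done)))))))) (Scr.cons (nat_lit 0) (nat_lit 0) (Step.U (nat_lit 981) (Step.B (nat_lit 2469) (Step.D (nat_lit 694) Step.done))) (Scr.cons (nat_lit 3) (nat_lit 0) (Step.U (nat_lit 2086) (Step.B (nat_lit 2934) (Step.D (nat_lit 1817) Step.done))) (Scr.cons (nat_lit 2) (nat_lit 0) (Step.B (nat_lit 2933) (Step.B (nat_lit 2935) (Step.F (nat_lit 2502) Step.done))) (Scr.cons (nat_lit 1) (nat_lit 0) (Step.B (nat_lit 2931) (Step.B (nat_lit 2936) (Step.B (nat_lit 652) Step.done))) (Scr.cons (nat_lit 2) (nat_lit 0) (Step.D (nat_lit 1723) (Step.B (nat_lit 2937) Step.done)) (Scr.cons (nat_lit 1) (nat_lit 0) (Step.F (nat_lit 652) (Step.B (nat_lit 2881) (Step.L Step.done))) (Scr.cons (nat_lit 2) (nat_lit 0) (Step.B (nat_lit 2938) (Step.B (nat_lit 2939) (Step.L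 Step.done))) (Scr.cons (nat_lit 0) (nat_lit 0) (Step.D (nat_lit 626) (Step.B (nat_lit 2940) (Step.D (nat_lit 242) Step.done))) (Scr.cons (nat_lit 0) (nat_lit 0) (Step.D (nat_lit 242) (Step.F (nat_lit 2941) Step.done)) (Scr.cons (nat_lit 2) (nat_lit 0) (Step.D (nat_lit 1881) (Step.B (nat_lit 2590) (Step.D (nat_lit 1389) Step.done))) (Scr.cons (nat_lit 2) (nat_lit 0) (Step.D (nat_lit 1389) (Step.F (nat_lit 2943) Step.done)) (Scr.cons (nat_lit 3) (nat_lit 0) (Step.D (nat_lit 751) (Step.B (nat_lit 2881) (Step.L Step.done))) (Scr.cons (nat_lit 0) (nat_lit 0) (Step.U (nat_lit 750) (Step.B (nat_lit 2945) (Step.L Step.done))) (Scr.cons (nat_lit 2) (nat_lit 0) (Step.B (nat_lit 2944) (Step.B (nat_lit 2946) (Step.D (nat_lit 919) Step.done))) (Scr.cons (nat_lit 2) (nat_lit 0) (Step.D (nat_lit 919) (Step.F (nat_lit 2947) Step.done)) (Scr.cons (nat_lit 2) (nat_lit 0) (Step.B (nat_lit 738) (Step.B (nat_lit 1217) (Step.F (nat_lit 1222) (Step.D (nat_lit 2177) Step.done)))) (Scr.cons (nat_lit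 2) (nat_lit 0) (Step.D (nat_lit 2177) (Step.F (nat_lit 2949) Step.done)) (Scr.cons (nat_lit 2) (nat_lit 0) (Step.F (nat_lit 2950) (Step.F (nat_lit 2923) (Step.D (nat_lit 1788) Step.done))) (Scr.cons (nat_lit 2) (nat_lit 0) (Step.D (nat_lit 1788) (Step.F (nat_lit 2951) Step.done)) (Scr.cons (nat_lit 8) (nat_lit 3) (Step.F (nat_lit 1132) (Step.U (nat_lit 643) (Step.D (nat_lit 644) Step.done))) (Scr.cons (nat_lit 9) (nat_lit 0) (Step.F (nat_lit 1131) (Step.D (nat_lit 644) Step.done)) (Scr.cons (nat_lit 9) (nat_lit 0) (Step.U (nat_lit 2167) (Step.D (nat_lit 2168) Step.done)) (Scr.cons (nat_lit 8) (nat_lit 2) (Step.U (nat_lit 645) (Step.B (nat_lit 2954) (Step.D (nat_lit 1754) Step.done))) (Scr.cons (nat_lit 20) (nat_lit 4) (Step.U (nat_lit 1755) (Step.B (nat_lit 2956) (Step.U (nat_lit 1754) (Step.F (nat_lit 956) (Step.B (nat_lit 2092) (Step.F (nat_lit 2093) (Step.F (nat_lit 970) (Step.U (nat_lit 2166) (Step.D (nat_lit 2167) Step.done))))))))) (Scr.cons (nat_lit 3) (nat_lit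 0) (Step.F (nat_lit 2955) (Step.F (nat_lit 2957) Step.done)) (Scr.cons (nat_lit 11) (nat_lit 1) (Step.B (nat_lit 2462) (Step.U (nat_lit 1083) (Step.L (Step.D (nat_lit 298) (Step.F (nat_lit 336) (Step.D (nat_lit 300) (Step.D (nat_lit 1089) (Step.D (nat_lit 2168) Step.done)))))))) (Scr.cons (nat_lit 22) (nat_lit 1) (Step.U (nat_lit 2040) (Step.U (nat_lit 917) (Step.B (nat_lit 1129) (Step.B (nat_lit 2953) (Step.F (nat_lit 2954) (Step.D (nat_lit 645) (Step.D (nat_lit 1755) (Step.F (nat_lit 2958) (Step.F (nat_lit 2959) (Step.U (nat_lit 2112) (Step.D (nat_lit 2111) (Step.F (nat_lit 377) (Step.D (nat_lit 2277) Step.done))))))))))))) (Scr.cons (nat_lit 3) (nat_lit 0) (Step.U (nat_lit 2040) (Step.F (nat_lit 1136) (Step.L Step.done))) Scr.nil))))))))))))))))))))))))))))))))))))))))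
noncomputable def s74 : Scr := (Scr.cons (nat_lit 2) (nat_lit 0) (Step.F (nat_lit 2960) (Step.B (nat_lit 2961) (Step.D (nat_lit 1984) Step.done))) (Scr.cons (nat_lit 3) (nat_lit 0) (Step.B (nat_lit 378) (Step.B (nat_lit 2962) Step.done)) (Scr.cons (nat_lit 9) (nat_lit 0) (Step.U (nat_lit 764) (Step.D (nat_lit 765) Step.done)) (Scr.cons (nat_lit 8) (nat_lit 2) (Step.U (nat_lit 1894) (Step.B (nat_lit 2964) (Step.D (nat_lit 1895) Step.done))) (Scr.cons (nat_lit 8) (nat_lit 3) (Step.U (nat_lit 182) (Step.L (Step.D (nat_lit 765) Step.done))) (Scr.cons (nat_lit 9) (nat_lit 0) (Step.L (Step.D (nat_lit 182) Step.done)) (Scr.cons (nat_lit 3) (nat_lit 1) (Step.D (nat_lit 697) (Step.B (nat_lit 2869) (Step.B (nat_lit 2967) Step.done))) (Scr.cons (nat_lit 1) (nat_lit 0) (Step.F (nat_lit 2966) (Step.F (nat_lit 2968) (Step.D (nat_lit 695) Step.done))) (Scr.cons (nat_lit 0) (nat_lit 0) (Step.U (nat_lit 1895) (Step.B (nat_lit 2969) (Step.B (nat_lit 2472) Step.done))) (Scr.cons (nat_lit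 3) (nat_lit 0) (Step.B (nat_lit 2965) (Step.B (nat_lit 2970) (Step.F (nat_lit 2467) Step.done))) (Scr.cons (nat_lit 3) (nat_lit 0) (Step.F (nat_lit 375) (Step.B (nat_lit 2470) (Step.D (nat_lit 1819) Step.done))) (Scr.cons (nat_lit 3) (nat_lit 0) (Step.D (nat_lit 1819) (Step.F (nat_lit 2972) Step.done)) (Scr.cons (nat_lit 3) (nat_lit 0) (Step.B (nat_lit 2964) (Step.B (nat_lit 2969) (Step.B (nat_lit 2973) Step.done))) (Scr.cons (nat_lit 2) (nat_lit 0) (Step.B (nat_lit 724) (Step.F (nat_lit 2972) (Step.F (nat_lit 2929) Step.done))) (Scr.cons (nat_lit 2) (nat_lit 0) (Step.F (nat_lit 2929) (Step.F (nat_lit 2975) Step.done)) (Scr.cons (nat_lit 3) (nat_lit 1) (Step.F (nat_lit 2503) (Step.B (nat_lit 2881) (Step.L Step.done))) (Scr.cons (nat_lit 2) (nat_lit 0) (Step.B (nat_lit 2974) (Step.B (nat_lit 2976) (Step.B (nat_lit 2977) (Step.L Step.done)))) (Scr.cons (nat_lit 1) (nat_lit 0) (Step.B (nat_lit 2971) (Step.U (nat_lit 2271) (Step.F (nat_lit 2974) (Step.B (nat_lit 2978) (Step.L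 Step.done))))) (Scr.cons (nat_lit 3) (nat_lit 0) (Step.F (nat_lit 2963) (Step.F (nat_lit 2971) (Step.B (nat_lit 2979) (Step.L Step.done)))) (Scr.cons (nat_lit 2) (nat_lit 0) (Step.D (nat_lit 1984) (Step.B (nat_lit 2980) (Step.D (nat_lit 2042) Step.done))) (Scr.cons (nat_lit 2) (nat_lit 0) (Step.D (nat_lit 2042) (Step.F (nat_lit 2981) Step.done)) (Scr.cons (nat_lit 1) (nat_lit 0) (Step.B (nat_lit 723) (Step.B (nat_lit 2977) (Step.L Step.done))) (Scr.cons (nat_lit 0) (nat_lit 0) (Step.D (nat_lit 717) (Step.B (nat_lit 2983) (Step.D (nat_lit 233) Step.done))) (Scr.cons (nat_lit 3) (nat_lit 0) (Step.U (nat_lit 918) (Step.F (nat_lit 2984) (Step.L Step.done))) (Scr.cons (nat_lit 0) (nat_lit 0) (Step.U (nat_lit 2041) (Step.B (nat_lit 2985) Step.done)) (Scr.cons (nat_lit 0) (nat_lit 0) (Step.B (nat_lit 656) (Step.F (nat_lit 2507) (Step.D (nat_lit 1433) Step.done))) (Scr.cons (nat_lit 0) (nat_lit 0) (Step.D (nat_lit 1433) (Step.F (nat_lit 2987) Step.done)) (Scr.cons (nat_lit 3)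 (nat_lit 0) (Step.D (nat_lit 1712) (Step.B (nat_lit 2939) (Step.L Step.done))) (Scr.cons (nat_lit 2) (nat_lit 0) (Step.D (nat_lit 615) (Step.B (nat_lit 2989) (Step.L Step.done))) (Scr.cons (nat_lit 1) (nat_lit 0) (Step.U (nat_lit 614) (Step.B (nat_lit 2990) (Step.L Step.done))) (Scr.cons (nat_lit 0) (nat_lit 0) (Step.B (nat_lit 2988) (Step.B (nat_lit 2991) (Step.D (nat_lit 939) Step.done))) (Scr.cons (nat_lit 0) (nat_lit 0) (Step.D (nat_lit 939) (Step.F (nat_lit 2992) (Step.F (nat_lit 2986) Step.done))) (Scr.cons (nat_lit 0) (nat_lit 0) (Step.F (nat_lit 2986) (Step.F (nat_lit 2993) Step.done)) (Scr.cons (nat_lit 8) (nat_lit 2) (Step.L (Step.L (Step.D (nat_lit 962) Step.done))) (Scr.cons (nat_lit 9) (nat_lit 0) (Step.F (nat_lit 2995) (Step.D (nat_lit 1107) Step.done)) (Scr.cons (nat_lit 10) (nat_lit 1) (Step.F (nat_lit 2996) (Step.U (nat_lit 962) (Step.L (Step.L (Step.L (Step.L (Step.L (Step.L (Step.L (Step.L (Step.L (Step.D (nat_lit 304) (Step.D (nat_lit 1097) Step.done)))))))))))))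 (Scr.cons (nat_lit 8) (nat_lit 3) (Step.U (nat_lit 305) (Step.D (nat_lit 304) (Step.D (nat_lit 1097) Step.done))) (Scr.cons (nat_lit 8) (nat_lit 2) (Step.L (Step.L (Step.D (nat_lit 821) Step.done))) (Scr.cons (nat_lit 9) (nat_lit 0) (Step.F (nat_lit 2999) (Step.D (nat_lit 823) Step.done)) (Scr.cons (nat_lit 8) (nat_lit 2) (Step.U (nat_lit 1955) (Step.B (nat_lit 3000) (Step.D (nat_lit 1959) Step.done))) Scr.nil))))))))))))))))))))))))))))))))))))))))
noncomputable def s75 : Scr := (Scr.cons (nat_lit 19) (nat_lit 1) (Step.U (nat_lit 1351) (Step.B (nat_lit 2086) (Step.F (nat_lit 2085) (Step.L (Step.L (Step.L (Step.L (Step.L (Step.L (Step.L (Step.D (nat_lit 821) (Step.B (nat_lit 3000) (Step.D (nat_lit 1959) Step.done))))))))))))) (Scr.cons (nat_lit 18) (nat_lit 0) (Step.B (nat_lit 3001) (Step.F (nat_lit 3002) Step.done)) (Scr.cons (nat_lit 9) (nat_lit 0) (Step.U (nat_lit 230) (Step.L Step.done)) (Scr.cons (nat_lit 2) (nat_lit 0) (Step.D (nat_lit 2027) (Step.B (nat_lit 2864)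 (Step.L Step.done))) (Scr.cons (nat_lit 1) (nat_lit 0) (Step.D (nat_lit 904) (Step.B (nat_lit 3005) (Step.L Step.done))) (Scr.cons (nat_lit 3) (nat_lit 1) (Step.F (nat_lit 3004) (Step.B (nat_lit 3006) (Step.B (nat_lit 2999) Step.done))) (Scr.cons (nat_lit 1) (nat_lit 0) (Step.U (nat_lit 1955) (Step.F (nat_lit 3007) (Step.L Step.done))) (Scr.cons (nat_lit 3) (nat_lit 0) (Step.F (nat_lit 3003) (Step.B (nat_lit 3008) (Step.L Step.done))) (Scr.cons (nat_lit 0) (nat_lit 0) (Step.D (nat_lit 1351) (Step.B (nat_lit 3009) (Step.L Step.done))) (Scr.cons (nat_lit 2) (nat_lit 0) (Step.D (nat_lit 426) (Step.B (nat_lit 3010) (Step.L Step.done))) (Scr.cons (nat_lit 0) (nat_lit 0) (Step.U (nat_lit 425) (Step.B (nat_lit 3011) (Step.L Step.done))) (Scr.cons (nat_lit 9) (nat_lit 0) (Step.L (Step.D (nat_lit 305) Step.done)) (Scr.cons (nat_lit 3) (nat_lit 1) (Step.F (nat_lit 2142) (Step.B (nat_lit 3012) (Step.B (nat_lit 3013) Step.done))) (Scr.cons (nat_lit 1) (nat_lit 0) (Step.F (nat_lit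 2998) (Step.F (nat_lit 3014) (Step.L Step.done))) (Scr.cons (nat_lit 0) (nat_lit 0) (Step.B (nat_lit 2997) (Step.B (nat_lit 3015) (Step.L Step.done))) (Scr.cons (nat_lit 3) (nat_lit 1) (Step.D (nat_lit 1107) (Step.B (nat_lit 3016) (Step.D (nat_lit 602) Step.done))) (Scr.cons (nat_lit 3) (nat_lit 1) (Step.D (nat_lit 602) (Step.F (nat_lit 3017) Step.done)) (Scr.cons (nat_lit 8) (nat_lit 1) (Step.L (Step.L (Step.D (nat_lit 1294) Step.done))) (Scr.cons (nat_lit 11) (nat_lit 1) (Step.L (Step.L (Step.L (Step.L (Step.L (Step.L (Step.L (Step.D (nat_lit 1840) Step.done)))))))) (Scr.cons (nat_lit 8) (nat_lit 3) (Step.L (Step.L (Step.D (nat_lit 1840) Step.done))) (Scr.cons (nat_lit 12) (nat_lit 12) (Step.F (nat_lit 3019) (Step.L (Step.L (Step.L (Step.L (Step.B (nat_lit 648) (Step.D (nat_lit 614) (Step.B (nat_lit 656) (Step.F (nat_lit 654) (Step.B (nat_lit 3020) (Step.F (nat_lit 3021) (Step.L (Step.D (nat_lit 1841) Step.done))))))))))))) (Scr.cons (nat_lit 9) (nat_lit 0) (Step.U (nat_lit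 1294) (Step.D (nat_lit 1295) Step.done)) (Scr.cons (nat_lit 8) (nat_lit 2) (Step.F (nat_lit 3022) (Step.B (nat_lit 3023) (Step.D (nat_lit 2320) Step.done))) (Scr.cons (nat_lit 8) (nat_lit 3) (Step.L (Step.L (Step.D (nat_lit 1295) Step.done))) (Scr.cons (nat_lit 21) (nat_lit 1) (Step.U (nat_lit 1347) (Step.U (nat_lit 423) (Step.U (nat_lit 85) (Step.U (nat_lit 8) (Step.L (Step.L (Step.L (Step.L (Step.L (Step.L (Step.L (Step.B (nat_lit 3025) (Step.D (nat_lit 2320) Step.done))))))))))))) (Scr.cons (nat_lit 22) (nat_lit 0) (Step.U (nat_lit 1836) (Step.U (nat_lit 710) (Step.L (Step.L (Step.L (Step.L (Step.L (Step.L (Step.L (Step.D (nat_lit 1841) (Step.B (nat_lit 3024) (Step.F (nat_lit 3026) (Step.D (nat_lit 2351) Step.done))))))))))))) (Scr.cons (nat_lit 20) (nat_lit 0) (Step.U (nat_lit 1835) (Step.D (nat_lit 1836) (Step.B (nat_lit 3027) (Step.U (nat_lit 2351) (Step.U (nat_lit 1347) (Step.U (nat_lit 423) (Step.D (nat_lit 422) (Step.D (nat_lit 1346) (Step.D (nat_lit 2350) Step.done)))))))))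 (Scr.cons (nat_lit 8) (nat_lit 2) (Step.U (nat_lit 1833) (Step.B (nat_lit 283) (Step.D (nat_lit 1835) Step.done))) (Scr.cons (nat_lit 3) (nat_lit 0) (Step.D (nat_lit 2350) (Step.F (nat_lit 3028) (Step.F (nat_lit 3029) Step.done))) (Scr.cons (nat_lit 1) (nat_lit 0) (Step.D (nat_lit 1833) (Step.F (nat_lit 3030) (Step.D (nat_lit 2349) Step.done))) (Scr.cons (nat_lit 1) (nat_lit 0) (Step.D (nat_lit 2349) (Step.F (nat_lit 3031) Step.done)) (Scr.cons (nat_lit 3) (nat_lit 1) (Step.D (nat_lit 87) (Step.B (nat_lit 3011) (Step.L Step.done))) (Scr.cons (nat_lit 1) (nat_lit 0) (Step.U (nat_lit 85) (Step.B (nat_lit 3033) (Step.L Step.done))) (Scr.cons (nat_lit 0) (nat_lit 0) (Step.U (nat_lit 422) (Step.B (nat_lit 3034) (Step.L Step.done))) (Scr.cons (nat_lit 2) (nat_lit 0) (Step.U (nat_lit 1346) (Step.B (nat_lit 3035) (Step.L Step.done))) (Scr.cons (nat_lit 1) (nat_lit 0) (Step.F (nat_lit 3032) (Step.B (nat_lit 3036) (Step.D (nat_lit 1094) Step.done))) (Scr.cons (nat_lit 1) (nat_lit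 0) (Step.D (nat_lit 1094) (Step.F (nat_lit 3037) Step.done)) (Scr.cons (nat_lit 8) (nat_lit 3) (Step.U (nat_lit 76) (Step.D (nat_lit 74) (Step.D (nat_lit 400) Step.done))) (Scr.cons (nat_lit 11) (nat_lit 3) (Step.U (nat_lit 900) (Step.L (Step.L (Step.L (Step.D (nat_lit 831) (Step.F (nat_lit 179) (Step.B (nat_lit 186) (Step.D (nat_lit 1907) Step.done)))))))) (Scr.cons (nat_lit 8) (nat_lit 3) (Step.B (nat_lit 3040) (Step.U (nat_lit 1907) (Step.D (nat_lit 1908) Step.done))) Scr.nil))))))))))))))))))))))))))))))))))))))))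
noncomputable def s76 : Scr := (Scr.cons (nat_lit 11) (nat_lit 5) (Step.L (Step.L (Step.L (Step.L (Step.L (Step.L (Step.D (nat_lit 223) (Step.D (nat_lit 890) Step.done)))))))) (Scr.cons (nat_lit 8) (nat_lit 3) (Step.U (nat_lit 889) (Step.L (Step.D (nat_lit 2012) Step.done))) (Scr.cons (nat_lit 12) (nat_lit 2) (Step.L (Step.L (Step.L (Step.L (Step.L (Step.L (Step.L (Step.L (Step.L (Step.L (Step.L (Step.D (nat_lit 430) (Step.D (nat_lit 1362) Step.done))))))))))))) (Scr.cons (nat_lit 8) (nat_lit 2) (Step.L (Step.L (Step.D (nat_lit 488) Step.done))) (Scr.cons (nat_lit 9) (nat_lit 0) (Step.F (nat_lit 3045) (Step.D (nat_lit 489) Step.done)) (Scr.cons (nat_lit 8) (nat_lit 2) (Step.U (nat_lit 1492) (Step.B (nat_lit 3046) (Step.D (nat_lit 1494) Step.done))) (Scr.cons (nat_lit 19) (nat_lit 1) (Step.U (nat_lit 1471) (Step.L (Step.L (Step.L (Step.L (Step.L (Step.L (Step.L (Step.L (Step.L (Step.D (nat_lit 488) (Step.B (nat_lit 3046) (Step.D (nat_lit 1494) Step.done))))))))))))) (Scr.cons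 (nat_lit 9) (nat_lit 0) (Step.F (nat_lit 3042) (Step.L Step.done)) (Scr.cons (nat_lit 8) (nat_lit 3) (Step.F (nat_lit 3048) (Step.U (nat_lit 1471) (Step.F (nat_lit 3049) Step.done))) (Scr.cons (nat_lit 12) (nat_lit 8) (Step.F (nat_lit 3044) (Step.D (nat_lit 1402) (Step.F (nat_lit 2036) (Step.F (nat_lit 2035) (Step.D (nat_lit 488) (Step.D (nat_lit 1492) (Step.B (nat_lit 3047) (Step.B (nat_lit 3050) (Step.U (nat_lit 890) (Step.U (nat_lit 223) (Step.L (Step.L (Step.D (nat_lit 2012) Step.done))))))))))))) (Scr.cons (nat_lit 9) (nat_lit 0) (Step.U (nat_lit 1362) (Step.D (nat_lit 1363) Step.done)) (Scr.cons (nat_lit 8) (nat_lit 2) (Step.U (nat_lit 97) (Step.L (Step.D (nat_lit 448) Step.done))) (Scr.cons (nat_lit 20) (nat_lit 5) (Step.U (nat_lit 1403) (Step.U (nat_lit 449) (Step.B (nat_lit 3053) (Step.U (nat_lit 448) (Step.L (Step.B (nat_lit 3044) (Step.B (nat_lit 3052) (Step.D (nat_lit 2367) Step.done)))))))) (Scr.cons (nat_lit 22) (nat_lit 6) (Step.U (nat_lit 2020) (Step.U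 (nat_lit 899) (Step.B (nat_lit 3042) (Step.U (nat_lit 890) (Step.U (nat_lit 223) (Step.L (Step.D (nat_lit 889) (Step.B (nat_lit 3043) (Step.F (nat_lit 3051) (Step.B (nat_lit 3052) (Step.D (nat_lit 2367) (Step.F (nat_lit 3054) (Step.D (nat_lit 2397) Step.done))))))))))))) (Scr.cons (nat_lit 8) (nat_lit 1) (Step.F (nat_lit 3055) (Step.U (nat_lit 2020) (Step.D (nat_lit 2021) Step.done))) (Scr.cons (nat_lit 8) (nat_lit 3) (Step.U (nat_lit 1363) (Step.D (nat_lit 1361) (Step.D (nat_lit 2366) Step.done))) (Scr.cons (nat_lit 9) (nat_lit 0) (Step.U (nat_lit 2365) (Step.D (nat_lit 2366) Step.done)) (Scr.cons (nat_lit 9) (nat_lit 0) (Step.U (nat_lit 93) (Step.D (nat_lit 94) Step.done)) (Scr.cons (nat_lit 8) (nat_lit 2) (Step.U (nat_lit 436) (Step.B (nat_lit 3059) (Step.D (nat_lit 437) Step.done))) (Scr.cons (nat_lit 21) (nat_lit 7) (Step.U (nat_lit 1400) (Step.U (nat_lit 447) (Step.L (Step.L (Step.L (Step.L (Step.L (Step.L (Step.D (nat_lit 9) (Step.D (nat_lit 93) (Step.D (nat_lit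 436) (Step.D (nat_lit 1369) (Step.D (nat_lit 2373) Step.done))))))))))))) (Scr.cons (nat_lit 8) (nat_lit 0) (Step.B (nat_lit 3061) (Step.U (nat_lit 2373) (Step.D (nat_lit 2372) Step.done))) (Scr.cons (nat_lit 13) (nat_lit 3) (Step.U (nat_lit 1370) (Step.F (nat_lit 3060) (Step.D (nat_lit 1369) (Step.D (nat_lit 2372) (Step.F (nat_lit 3062) (Step.U (nat_lit 1400) (Step.U (nat_lit 447) (Step.L (Step.L (Step.L (Step.B (nat_lit 3044) (Step.B (nat_lit 3052) (Step.B (nat_lit 3057) (Step.F (nat_lit 3058) Step.done)))))))))))))) (Scr.cons (nat_lit 3) (nat_lit 0) (Step.F (nat_lit 3058) (Step.F (nat_lit 3063) Step.done)) (Scr.cons (nat_lit 21) (nat_lit 0) (Step.F (nat_lit 3041) (Step.U (nat_lit 900) (Step.L (Step.L (Step.D (nat_lit 899) (Step.D (nat_lit 2021) (Step.F (nat_lit 3056) (Step.U (nat_lit 2397) (Step.B (nat_lit 3054) (Step.U (nat_lit 2367) (Step.B (nat_lit 3057) (Step.B (nat_lit 3064) (Step.D (nat_lit 2374) Step.done))))))))))))) (Scr.cons (nat_lit 9) (nat_lit 0) (Step.F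 (nat_lit 187) (Step.D (nat_lit 1908) Step.done)) (Scr.cons (nat_lit 8) (nat_lit 0) (Step.F (nat_lit 3065) (Step.F (nat_lit 3066) (Step.D (nat_lit 1910) Step.done))) (Scr.cons (nat_lit 9) (nat_lit 0) (Step.U (nat_lit 399) (Step.D (nat_lit 400) Step.done)) (Scr.cons (nat_lit 8) (nat_lit 2) (Step.U (nat_lit 1303) (Step.B (nat_lit 3068) (Step.D (nat_lit 1304) Step.done))) (Scr.cons (nat_lit 8) (nat_lit 2) (Step.U (nat_lit 403) (Step.L (Step.D (nat_lit 1310) Step.done))) (Scr.cons (nat_lit 9) (nat_lit 0) (Step.F (nat_lit 3070) (Step.D (nat_lit 1311) Step.done)) (Scr.cons (nat_lit 19) (nat_lit 1) (Step.U (nat_lit 2325) (Step.B (nat_lit 3069) (Step.U (nat_lit 1304) (Step.U (nat_lit 400) (Step.U (nat_lit 74) (Step.D (nat_lit 75) (Step.F (nat_lit 2398) (Step.L (Step.L (Step.L (Step.D (nat_lit 1310) (Step.B (nat_lit 3071) (Step.D (nat_lit 2331) Step.done))))))))))))) (Scr.cons (nat_lit 8) (nat_lit 3) (Step.F (nat_lit 3072) (Step.U (nat_lit 2325) (Step.D (nat_lit 2326) Step.done)))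 (Scr.cons (nat_lit 3) (nat_lit 0) (Step.U (nat_lit 1311) (Step.F (nat_lit 2288) (Step.D (nat_lit 1197) Step.done))) (Scr.cons (nat_lit 8) (nat_lit 1) (Step.F (nat_lit 3052) (Step.F (nat_lit 3044) (Step.D (nat_lit 1401) Step.done))) (Scr.cons (nat_lit 3) (nat_lit 0) (Step.B (nat_lit 2239) (Step.B (nat_lit 2040) (Step.D (nat_lit 1197) Step.done))) (Scr.cons (nat_lit 0) (nat_lit 0) (Step.B (nat_lit 3075) (Step.B (nat_lit 3076) (Step.D (nat_lit 2254) Step.done))) (Scr.cons (nat_lit 0) (nat_lit 0) (Step.D (nat_lit 2254) (Step.F (nat_lit 3077) Step.done)) (Scr.cons (nat_lit 0) (nat_lit 0) (Step.U (nat_lit 2331) (Step.B (nat_lit 3074) (Step.B (nat_lit 3078) Step.done))) (Scr.cons (nat_lit 1) (nat_lit 0) (Step.F (nat_lit 3073) (Step.B (nat_lit 3079) (Step.B (nat_lit 3057) Step.done))) (Scr.cons (nat_lit 9) (nat_lit 0) (Step.F (nat_lit 3069) (Step.D (nat_lit 2326) Step.done)) Scr.nil))))))))))))))))))))))))))))))))))))))))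
noncomputable def s77 : Scr := (Scr.cons (nat_lit 3) (nat_lit 0) (Step.F (nat_lit 3064) (Step.F (nat_lit 3080) (Step.F (nat_lit 3081) Step.done))) (Scr.cons (nat_lit 1) (nat_lit 0) (Step.U (nat_lit 2374) (Step.B (nat_lit 3082) (Step.D (nat_lit 2327) Step.done))) (Scr.cons (nat_lit 3) (nat_lit 1) (Step.F (nat_lit 3067) (Step.B (nat_lit 3083) Step.done)) (Scr.cons (nat_lit 9) (nat_lit 0) (Step.L (Step.D (nat_lit 290) Step.done)) (Scr.cons (nat_lit 8) (nat_lit 2) (Step.U (nat_lit 1060) (Step.B (nat_lit 3085) (Step.D (nat_lit 1061) Step.done))) (Scr.cons (nat_lit 20) (nat_lit 5) (Step.U (nat_lit 260) (Step.U (nat_lit 44) (Step.U (nat_lit 4) (Step.L (Step.L (Step.L (Step.L (Step.L Step.done)))))))) (Scr.cons (nat_lit 21) (nat_lit 11) (Step.F (nat_lit 3086) (Step.U (nat_lit 1060) (Step.L (Step.L (Step.D (nat_lit 397) (Step.F (nat_lit 24) (Step.L (Step.L (Step.F (nat_lit 3087) (Step.U (nat_lit 260) (Step.D (nat_lit 261) (Step.D (nat_lit 998) (Step.D (nat_lit 2097) Step.done)))))))))))))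 (Scr.cons (nat_lit 1) (nat_lit 0) (Step.B (nat_lit 3088) (Step.B (nat_lit 2912) Step.done)) (Scr.cons (nat_lit 8) (nat_lit 3) (Step.U (nat_lit 53) (Step.L (Step.D (nat_lit 290) Step.done))) (Scr.cons (nat_lit 3) (nat_lit 0) (Step.D (nat_lit 48) (Step.B (nat_lit 1840) (Step.D (nat_lit 37) Step.done))) (Scr.cons (nat_lit 0) (nat_lit 0) (Step.B (nat_lit 28) (Step.F (nat_lit 3091) (Step.L Step.done))) (Scr.cons (nat_lit 1) (nat_lit 0) (Step.F (nat_lit 3090) (Step.B (nat_lit 3092) (Step.L Step.done))) (Scr.cons (nat_lit 0) (nat_lit 0) (Step.U (nat_lit 1061) (Step.B (nat_lit 3093) (Step.D (nat_lit 1021) Step.done))) (Scr.cons (nat_lit 1) (nat_lit 0) (Step.F (nat_lit 3089) (Step.B (nat_lit 3094) (Step.D (nat_lit 2116) Step.done))) (Scr.cons (nat_lit 1) (nat_lit 0) (Step.D (nat_lit 2116) (Step.F (nat_lit 3095) Step.done)) (Scr.cons (nat_lit 1) (nat_lit 0) (Step.B (nat_lit 3096) (Step.F (nat_lit 2920) (Step.L Step.done))) (Scr.cons (nat_lit 0) (nat_lit 0) (Step.D (nat_lit 1021)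 (Step.B (nat_lit 3097) (Step.D (nat_lit 779) Step.done))) (Scr.cons (nat_lit 1) (nat_lit 0) (Step.U (nat_lit 1910) (Step.F (nat_lit 3098) (Step.L Step.done))) (Scr.cons (nat_lit 3) (nat_lit 1) (Step.F (nat_lit 3084) (Step.B (nat_lit 3099) (Step.L Step.done))) (Scr.cons (nat_lit 1) (nat_lit 0) (Step.D (nat_lit 2327) (Step.B (nat_lit 3100) (Step.L Step.done))) (Scr.cons (nat_lit 0) (nat_lit 0) (Step.D (nat_lit 1304) (Step.B (nat_lit 3101) (Step.L Step.done))) (Scr.cons (nat_lit 1) (nat_lit 0) (Step.B (nat_lit 3039) (Step.B (nat_lit 3102) (Step.L Step.done))) (Scr.cons (nat_lit 3) (nat_lit 1) (Step.D (nat_lit 76) (Step.B (nat_lit 3103) (Step.D (nat_lit 289) Step.done))) (Scr.cons (nat_lit 0) (nat_lit 0) (Step.B (nat_lit 1259) (Step.F (nat_lit 3104) Step.done)) (Scr.cons (nat_lit 21) (nat_lit 12) (Step.U (nat_lit 1271) (Step.L (Step.L (Step.L (Step.L (Step.L (Step.L (Step.L (Step.L (Step.L (Step.L (Step.L (Step.D (nat_lit 1930) Step.done))))))))))))) (Scr.cons (nat_lit 8)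 (nat_lit 1) (Step.U (nat_lit 1578) (Step.D (nat_lit 1577) (Step.D (nat_lit 2508) Step.done))) (Scr.cons (nat_lit 11) (nat_lit 5) (Step.U (nat_lit 1986) (Step.U (nat_lit 856) (Step.F (nat_lit 759) (Step.U (nat_lit 31) (Step.D (nat_lit 30) (Step.D (nat_lit 208) (Step.D (nat_lit 859) (Step.D (nat_lit 1987) Step.done)))))))) (Scr.cons (nat_lit 2) (nat_lit 0) (Step.U (nat_lit 856) (Step.F (nat_lit 760) (Step.L Step.done))) (Scr.cons (nat_lit 1) (nat_lit 0) (Step.U (nat_lit 1986) (Step.B (nat_lit 3109) (Step.D (nat_lit 1577) Step.done))) (Scr.cons (nat_lit 3) (nat_lit 1) (Step.F (nat_lit 3108) (Step.B (nat_lit 3110) (Step.D (nat_lit 2508) Step.done))) (Scr.cons (nat_lit 0) (nat_lit 0) (Step.B (nat_lit 3107) (Step.F (nat_lit 3111) Step.done)) (Scr.cons (nat_lit 9) (nat_lit 0) (Step.U (nat_lit 139) (Step.D (nat_lit 140) Step.done)) (Scr.cons (nat_lit 8) (nat_lit 2) (Step.U (nat_lit 612) (Step.B (nat_lit 3113) (Step.D (nat_lit 613) Step.done))) (Scr.cons (nat_lit 11) (nat_lit 1)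 (Step.F (nat_lit 636) (Step.U (nat_lit 0) (Step.L (Step.L (Step.L (Step.L (Step.L (Step.D (nat_lit 140) Step.done)))))))) (Scr.cons (nat_lit 2) (nat_lit 0) (Step.F (nat_lit 3115) (Step.B (nat_lit 959) (Step.D (nat_lit 30) Step.done))) (Scr.cons (nat_lit 0) (nat_lit 0) (Step.U (nat_lit 613) (Step.B (nat_lit 3116) (Step.D (nat_lit 208) Step.done))) (Scr.cons (nat_lit 3) (nat_lit 0) (Step.B (nat_lit 3114) (Step.B (nat_lit 3117) (Step.D (nat_lit 859) Step.done))) (Scr.cons (nat_lit 2) (nat_lit 0) (Step.U (nat_lit 1987) (Step.F (nat_lit 3118) (Step.D (nat_lit 1709) Step.done))) (Scr.cons (nat_lit 0) (nat_lit 0) (Step.B (nat_lit 3112) (Step.B (nat_lit 3119) Step.done)) (Scr.cons (nat_lit 9) (nat_lit 0) (Step.L (Step.D (nat_lit 817) Step.done)) Scr.nil))))))))))))))))))))))))))))))))))))))))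
noncomputable def s78 : Scr := (Scr.cons (nat_lit 9) (nat_lit 0) (Step.U (nat_lit 1272) (Step.D (nat_lit 1273) Step.done)) (Scr.cons (nat_lit 8) (nat_lit 2) (Step.U (nat_lit 2296) (Step.B (nat_lit 3122) (Step.D (nat_lit 2297) Step.done))) (Scr.cons (nat_lit 10) (nat_lit 1) (Step.U (nat_lit 1947) (Step.F (nat_lit 3121) (Step.L (Step.L (Step.L (Step.L (Step.B (nat_lit 169) (Step.F (nat_lit 167) (Step.L (Step.L (Step.L (Step.D (nat_lit 1273) (Step.D (nat_lit 2297) (Step.F (nat_lit 3123) Step.done)))))))))))))) (Scr.cons (nat_lit 1) (nat_lit 0) (Step.D (nat_lit 2296) (Step.F (nat_lit 3124) Step.done)) (Scr.cons (nat_lit 8) (nat_lit 2) (Step.U (nat_lit 1946) (Step.B (nat_lit 3121) (Step.D (nat_lit 1947) Step.done))) (Scr.cons (nat_lit 21) (nat_lit 2) (Step.U (nat_lit 1098) (Step.U (nat_lit 306) (Step.L (Step.L (Step.L (Step.L (Step.L (Step.L (Step.D (nat_lit 309) (Step.F (nat_lit 2086) (Step.F (nat_lit 2084) (Step.L (Step.D (nat_lit 1946) Step.done))))))))))))) (Scr.cons (nat_lit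 1) (nat_lit 0) (Step.B (nat_lit 2084) (Step.B (nat_lit 3010) (Step.D (nat_lit 306) Step.done))) (Scr.cons (nat_lit 3) (nat_lit 0) (Step.U (nat_lit 1098) (Step.F (nat_lit 3128) (Step.L Step.done))) (Scr.cons (nat_lit 2) (nat_lit 0) (Step.F (nat_lit 3127) (Step.B (nat_lit 3129) (Step.L Step.done))) (Scr.cons (nat_lit 3) (nat_lit 1) (Step.F (nat_lit 3126) (Step.B (nat_lit 3130) (Step.D (nat_lit 818) Step.done))) (Scr.cons (nat_lit 20) (nat_lit 3) (Step.U (nat_lit 1709) (Step.B (nat_lit 3114) (Step.U (nat_lit 613) (Step.F (nat_lit 3115) (Step.B (nat_lit 1130) (Step.D (nat_lit 149) (Step.D (nat_lit 646) (Step.D (nat_lit 1756) Step.done)))))))) (Scr.cons (nat_lit 13) (nat_lit 1) (Step.U (nat_lit 1948) (Step.U (nat_lit 818) (Step.L (Step.L (Step.D (nat_lit 819) (Step.D (nat_lit 1950) (Step.F (nat_lit 2087) (Step.B (nat_lit 2090) (Step.F (nat_lit 2092) (Step.B (nat_lit 956) (Step.F (nat_lit 2954) (Step.D (nat_lit 646) (Step.D (nat_lit 1756) (Step.F (nat_lit 3132) Step.done))))))))))))))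 (Scr.cons (nat_lit 1) (nat_lit 0) (Step.D (nat_lit 1948) (Step.B (nat_lit 3133) Step.done)) (Scr.cons (nat_lit 1) (nat_lit 0) (Step.B (nat_lit 3125) (Step.B (nat_lit 3131) (Step.B (nat_lit 3134) Step.done))) (Scr.cons (nat_lit 8) (nat_lit 1) (Step.F (nat_lit 3106) (Step.U (nat_lit 1271) (Step.D (nat_lit 1272) Step.done))) (Scr.cons (nat_lit 0) (nat_lit 0) (Step.B (nat_lit 3120) (Step.F (nat_lit 3135) (Step.F (nat_lit 3136) Step.done))) (Scr.cons (nat_lit 3) (nat_lit 0) (Step.B (nat_lit 3106) (Step.F (nat_lit 3137) (Step.U (nat_lit 1578) Step.done))) (Scr.cons (nat_lit 1) (nat_lit 0) (Step.D (nat_lit 1271) (Step.B (nat_lit 3138) Step.done)) (Scr.cons (nat_lit 9) (nat_lit 0) (Step.L (Step.D (nat_lit 1714) Step.done)) (Scr.cons (nat_lit 3) (nat_lit 0) (Step.B (nat_lit 3140) (Step.B (nat_lit 1798) (Step.B (nat_lit 2400) Step.done))) (Scr.cons (nat_lit 1) (nat_lit 0) (Step.D (nat_lit 1308) (Step.F (nat_lit 3141) (Step.D (nat_lit 1730) Step.done))) (Scr.cons (nat_lit 1) (nat_lit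 0) (Step.D (nat_lit 1730) (Step.F (nat_lit 3142) Step.done)) (Scr.cons (nat_lit 0) (nat_lit 0) (Step.U (nat_lit 402) (Step.B (nat_lit 3103) (Step.L Step.done))) (Scr.cons (nat_lit 1) (nat_lit 0) (Step.B (nat_lit 3143) (Step.B (nat_lit 3144) (Step.D (nat_lit 1055) Step.done))) (Scr.cons (nat_lit 1) (nat_lit 0) (Step.D (nat_lit 1055) (Step.F (nat_lit 3145) Step.done)) (Scr.cons (nat_lit 8) (nat_lit 1) (Step.L (Step.L (Step.D (nat_lit 1775) Step.done))) (Scr.cons (nat_lit 11) (nat_lit 1) (Step.F (nat_lit 3147) (Step.L (Step.L (Step.L (Step.L (Step.L (Step.D (nat_lit 669) (Step.D (nat_lit 1787) Step.done)))))))) (Scr.cons (nat_lit 8) (nat_lit 3) (Step.U (nat_lit 671) (Step.D (nat_lit 669) (Step.D (nat_lit 1787) Step.done))) (Scr.cons (nat_lit 3) (nat_lit 0) (Step.D (nat_lit 1576) (Step.F (nat_lit 1222) Step.done)) (Scr.cons (nat_lit 9) (nat_lit 0) (Step.L (Step.D (nat_lit 671) Step.done)) (Scr.cons (nat_lit 3) (nat_lit 1) (Step.B (nat_lit 3150) (Step.F (nat_lit 2923) (Step.B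 (nat_lit 3151) Step.done))) (Scr.cons (nat_lit 1) (nat_lit 0) (Step.F (nat_lit 3149) (Step.F (nat_lit 3152) (Step.L Step.done))) (Scr.cons (nat_lit 2) (nat_lit 0) (Step.B (nat_lit 3148) (Step.B (nat_lit 3153) (Step.L Step.done))) (Scr.cons (nat_lit 3) (nat_lit 0) (Step.D (nat_lit 1775) (Step.B (nat_lit 3154) (Step.D (nat_lit 1579) Step.done))) (Scr.cons (nat_lit 0) (nat_lit 0) (Step.U (nat_lit 2510) (Step.F (nat_lit 3155) (Step.L Step.done))) (Scr.cons (nat_lit 9) (nat_lit 0) (Step.U (nat_lit 1578) (Step.D (nat_lit 1579) Step.done)) (Scr.cons (nat_lit 8) (nat_lit 2) (Step.U (nat_lit 2509) (Step.B (nat_lit 3157) (Step.D (nat_lit 2510) Step.done))) (Scr.cons (nat_lit 1) (nat_lit 0) (Step.D (nat_lit 1930) (Step.F (nat_lit 3137) (Step.D (nat_lit 2509) Step.done))) (Scr.cons (nat_lit 3) (nat_lit 1) (Step.F (nat_lit 3156) (Step.F (nat_lit 3158) (Step.F (nat_lit 3159) (Step.D (nat_lit 1931) Step.done)))) (Scr.cons (nat_lit 3) (nat_lit 1) (Step.D (nat_lit 1931) (Step.F (nat_lit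 3160) Step.done)) Scr.nil))))))))))))))))))))))))))))))))))))))))
noncomputable def s79 : Scr := (Scr.cons (nat_lit 9) (nat_lit 0) (Step.L (Step.D (nat_lit 476) Step.done)) (Scr.cons (nat_lit 8) (nat_lit 2) (Step.U (nat_lit 1476) (Step.B (nat_lit 3162) (Step.D (nat_lit 1478) Step.done))) (Scr.cons (nat_lit 9) (nat_lit 0) (Step.F (nat_lit 3163) (Step.D (nat_lit 2435) Step.done)) (Scr.cons (nat_lit 11) (nat_lit 5) (Step.U (nat_lit 881) (Step.U (nat_lit 218) (Step.U (nat_lit 35) (Step.F (nat_lit 556) (Step.D (nat_lit 34) (Step.D (nat_lit 216) (Step.B (nat_lit 2796) (Step.D (nat_lit 1970) Step.done)))))))) (Scr.cons (nat_lit 9) (nat_lit 0) (Step.F (nat_lit 3165) (Step.D (nat_lit 2007) Step.done)) (Scr.cons (nat_lit 12) (nat_lit 9) (Step.F (nat_lit 3166) (Step.U (nat_lit 1970) (Step.U (nat_lit 839) (Step.B (nat_lit 2797) (Step.F (nat_lit 2799) (Step.U (nat_lit 478) (Step.L (Step.L (Step.L (Step.L (Step.D (nat_lit 74) (Step.D (nat_lit 400) (Step.D (nat_lit 1305) Step.done)))))))))))))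 (Scr.cons (nat_lit 8) (nat_lit 2) (Step.F (nat_lit 3167) (Step.U (nat_lit 2007) (Step.D (nat_lit 2006) Step.done))) (Scr.cons (nat_lit 13) (nat_lit 3) (Step.F (nat_lit 3168) (Step.U (nat_lit 1305) (Step.F (nat_lit 3039) (Step.U (nat_lit 76) (Step.L (Step.L (Step.L (Step.L (Step.L (Step.L (Step.L (Step.D (nat_lit 1476) (Step.D (nat_lit 2435) Step.done))))))))))))) (Scr.cons (nat_lit 3) (nat_lit 1) (Step.F (nat_lit 692) (Step.B (nat_lit 2773) (Step.L Step.done))) (Scr.cons (nat_lit 2) (nat_lit 0) (Step.U (nat_lit 218) (Step.B (nat_lit 3170) (Step.L Step.done))) (Scr.cons (nat_lit 1) (nat_lit 0) (Step.U (nat_lit 881) (Step.B (nat_lit 3171) (Step.L Step.done))) (Scr.cons (nat_lit 0) (nat_lit 0) (Step.U (nat_lit 2006) (Step.B (nat_lit 3172) (Step.D (nat_lit 636) Step.done))) (Scr.cons (nat_lit 2) (nat_lit 0) (Step.F (nat_lit 3169) (Step.B (nat_lit 3173) (Step.D (nat_lit 1742) Step.done))) (Scr.cons (nat_lit 3) (nat_lit 1) (Step.B (nat_lit 3164) (Step.B (nat_lit 3174) Step.done))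 (Scr.cons (nat_lit 8) (nat_lit 3) (Step.U (nat_lit 476) (Step.D (nat_lit 475) (Step.D (nat_lit 1475) Step.done))) (Scr.cons (nat_lit 20) (nat_lit 2) (Step.U (nat_lit 1474) (Step.U (nat_lit 474) (Step.L (Step.L (Step.L (Step.L (Step.L (Step.D (nat_lit 1477) Step.done)))))))) (Scr.cons (nat_lit 9) (nat_lit 0) (Step.U (nat_lit 1473) (Step.D (nat_lit 1474) Step.done)) (Scr.cons (nat_lit 12) (nat_lit 7) (Step.L (Step.L (Step.L (Step.L (Step.L (Step.L (Step.L (Step.L (Step.L (Step.L (Step.L (Step.L (Step.D (nat_lit 1794) Step.done))))))))))))) (Scr.cons (nat_lit 8) (nat_lit 3) (Step.B (nat_lit 3179) (Step.U (nat_lit 1794) (Step.D (nat_lit 1795) Step.done))) (Scr.cons (nat_lit 22) (nat_lit 4) (Step.U (nat_lit 1790) (Step.U (nat_lit 673) (Step.L (Step.L (Step.L (Step.L (Step.L (Step.L (Step.L (Step.D (nat_lit 1795) (Step.F (nat_lit 3180) (Step.L (Step.L (Step.D (nat_lit 1300) Step.done)))))))))))))) (Scr.cons (nat_lit 3) (nat_lit 0) (Step.D (nat_lit 1790) (Step.B (nat_lit 3181)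 Step.done)) (Scr.cons (nat_lit 8) (nat_lit 0) (Step.U (nat_lit 1059) (Step.L (Step.D (nat_lit 1299) Step.done))) (Scr.cons (nat_lit 18) (nat_lit 0) (Step.F (nat_lit 3183) (Step.D (nat_lit 2149) Step.done)) (Scr.cons (nat_lit 21) (nat_lit 10) (Step.U (nat_lit 1299) (Step.L (Step.L (Step.L (Step.L (Step.L (Step.L (Step.L (Step.L (Step.L (Step.L (Step.D (nat_lit 868) (Step.D (nat_lit 1992) Step.done))))))))))))) (Scr.cons (nat_lit 9) (nat_lit 0) (Step.F (nat_lit 2798) (Step.U (nat_lit 838) Step.done)) (Scr.cons (nat_lit 22) (nat_lit 1) (Step.F (nat_lit 3184) (Step.B (nat_lit 3185) (Step.U (nat_lit 1992) (Step.U (nat_lit 868) (Step.L (Step.L (Step.L (Step.D (nat_lit 1) (Step.D (nat_lit 34) (Step.F (nat_lit 2794) (Step.D (nat_lit 198) (Step.F (nat_lit 3186) (Step.D (nat_lit 1479) Step.done))))))))))))) (Scr.cons (nat_lit 12) (nat_lit 5) (Step.U (nat_lit 1789) (Step.B (nat_lit 3182) (Step.U (nat_lit 1300) (Step.D (nat_lit 1299) (Step.B (nat_lit 3184) (Step.B (nat_lit 3187) (Step.U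 (nat_lit 1479) (Step.L (Step.L (Step.L (Step.L (Step.D (nat_lit 474) (Step.D (nat_lit 1473) Step.done))))))))))))) (Scr.cons (nat_lit 21) (nat_lit 7) (Step.F (nat_lit 3176) (Step.F (nat_lit 3162) (Step.D (nat_lit 1477) (Step.F (nat_lit 3177) (Step.F (nat_lit 3178) (Step.F (nat_lit 3188) (Step.U (nat_lit 1789) (Step.U (nat_lit 673) (Step.L (Step.L (Step.L (Step.D (nat_lit 698) (Step.D (nat_lit 1824) Step.done))))))))))))) (Scr.cons (nat_lit 9) (nat_lit 0) (Step.U (nat_lit 1824) (Step.D (nat_lit 1825) Step.done)) (Scr.cons (nat_lit 3) (nat_lit 0) (Step.B (nat_lit 3190) (Step.B (nat_lit 2182) (Step.L Step.done))) (Scr.cons (nat_lit 0) (nat_lit 0) (Step.B (nat_lit 3189) (Step.B (nat_lit 3191) (Step.L Step.done))) (Scr.cons (nat_lit 1) (nat_lit 0) (Step.B (nat_lit 3176) (Step.B (nat_lit 3192) (Step.L Step.done))) (Scr.cons (nat_lit 0) (nat_lit 0) (Step.U (nat_lit 1478) (Step.B (nat_lit 3193) (Step.L Step.done))) (Scr.cons (nat_lit 3) (nat_lit 1) (Step.F (nat_lit 3175) (Step.B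 (nat_lit 3194) (Step.D (nat_lit 2381) Step.done))) (Scr.cons (nat_lit 3) (nat_lit 1) (Step.D (nat_lit 2381) (Step.F (nat_lit 3195) Step.done)) (Scr.cons (nat_lit 3) (nat_lit 0) (Step.B (nat_lit 3168) (Step.B (nat_lit 3173) (Step.D (nat_lit 1743) Step.done))) (Scr.cons (nat_lit 3) (nat_lit 0) (Step.D (nat_lit 1743) (Step.F (nat_lit 3197) Step.done)) (Scr.cons (nat_lit 2) (nat_lit 0) (Step.U (nat_lit 1305) (Step.B (nat_lit 3102) (Step.L Step.done))) (Scr.cons (nat_lit 3) (nat_lit 1) (Step.B (nat_lit 3198) (Step.B (nat_lit 3199) (Step.L Step.done))) (Scr.cons (nat_lit 2) (nat_lit 0) (Step.U (nat_lit 1742) (Step.B (nat_lit 3200) (Step.L Step.done))) Scr.nil))))))))))))))))))))))))))))))))))))))))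
noncomputable def s80 : Scr := (Scr.cons (nat_lit 3) (nat_lit 0) (Step.B (nat_lit 3196) (Step.B (nat_lit 3201) (Step.D (nat_lit 2145) Step.done))) (Scr.cons (nat_lit 3) (nat_lit 0) (Step.D (nat_lit 2145) (Step.F (nat_lit 3202) Step.done)) (Scr.cons (nat_lit 9) (nat_lit 0) (Step.U (nat_lit 2464) (Step.D (nat_lit 2465) Step.done)) (Scr.cons (nat_lit 12) (nat_lit 8) (Step.U (nat_lit 2134) (Step.U (nat_lit 1042) (Step.U (nat_lit 281) (Step.L (Step.D (nat_lit 1039) (Step.F (nat_lit 126) (Step.B (nat_lit 1703) (Step.B (nat_lit 1704) (Step.U (nat_lit 1070) (Step.L (Step.L (Step.D (nat_lit 1068) (Step.D (nat_lit 2154) Step.done))))))))))))) (Scr.cons (nat_lit 8) (nat_lit 3) (Step.L (Step.D (nat_lit 1068) (Step.D (nat_lit 2154) Step.done))) (Scr.cons (nat_lit 20) (nat_lit 5) (Step.U (nat_lit 480) (Step.L (Step.L (Step.L (Step.L (Step.L (Step.L (Step.D (nat_lit 1070) Step.done)))))))) (Scr.cons (nat_lit 18) (nat_lit 0) (Step.F (nat_lit 3207) (Step.D (nat_lit 1484) Step.done)) (Scr.cons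 (nat_lit 8) (nat_lit 1) (Step.F (nat_lit 1951) (Step.U (nat_lit 2438) (Step.D (nat_lit 2439) Step.done))) (Scr.cons (nat_lit 21) (nat_lit 1) (Step.U (nat_lit 2437) (Step.F (nat_lit 3208) (Step.F (nat_lit 1704) (Step.D (nat_lit 1487) (Step.D (nat_lit 2439) (Step.F (nat_lit 3209) (Step.U (nat_lit 2461) (Step.U (nat_lit 1519) (Step.U (nat_lit 499) (Step.L (Step.F (nat_lit 1485) (Step.D (nat_lit 1514) (Step.D (nat_lit 2456) Step.done))))))))))))) (Scr.cons (nat_lit 13) (nat_lit 5) (Step.B (nat_lit 3205) (Step.F (nat_lit 3206) (Step.L (Step.L (Step.L (Step.D (nat_lit 1070) (Step.B (nat_lit 3208) (Step.D (nat_lit 2437) (Step.B (nat_lit 3210) (Step.F (nat_lit 1742) (Step.U (nat_lit 2463) (Step.F (nat_lit 1738) (Step.D (nat_lit 1523) (Step.D (nat_lit 2465) Step.done)))))))))))))) (Scr.cons (nat_lit 3) (nat_lit 1) (Step.B (nat_lit 3204) (Step.F (nat_lit 3211) Step.done)) (Scr.cons (nat_lit 22) (nat_lit 0) (Step.U (nat_lit 2103) (Step.U (nat_lit 1003) (Step.U (nat_lit 263) (Step.L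 (Step.L (Step.L (Step.L (Step.L (Step.L (Step.D (nat_lit 281) (Step.D (nat_lit 1042) (Step.D (nat_lit 2134) (Step.F (nat_lit 3212) Step.done))))))))))))) (Scr.cons (nat_lit 21) (nat_lit 9) (Step.U (nat_lit 1506) (Step.U (nat_lit 495) (Step.L (Step.L (Step.L (Step.L (Step.D (nat_lit 500) (Step.D (nat_lit 1523) (Step.D (nat_lit 2464) (Step.F (nat_lit 3213) (Step.U (nat_lit 2103) (Step.U (nat_lit 1003) (Step.D (nat_lit 1001) (Step.D (nat_lit 2101) Step.done)))))))))))))) (Scr.cons (nat_lit 1) (nat_lit 0) (Step.D (nat_lit 2101) (Step.F (nat_lit 3214) (Step.D (nat_lit 2446) Step.done))) (Scr.cons (nat_lit 1) (nat_lit 0) (Step.D (nat_lit 2446) (Step.F (nat_lit 3215) Step.done)) (Scr.cons (nat_lit 9) (nat_lit 0) (Step.U (nat_lit 1896) (Step.D (nat_lit 1897) Step.done)) (Scr.cons (nat_lit 8) (nat_lit 3) (Step.U (nat_lit 768) (Step.D (nat_lit 766) (Step.D (nat_lit 1897) Step.done))) (Scr.cons (nat_lit 9) (nat_lit 0) (Step.U (nat_lit 767) (Step.D (nat_lit 768) Step.done)) (Scr.cons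 (nat_lit 13) (nat_lit 6) (Step.B (nat_lit 3217) (Step.F (nat_lit 3218) (Step.F (nat_lit 3219) (Step.B (nat_lit 2915) (Step.F (nat_lit 189) (Step.F (nat_lit 192) (Step.U (nat_lit 1380) (Step.L (Step.L (Step.L (Step.D (nat_lit 98) (Step.D (nat_lit 454) (Step.D (nat_lit 1413) Step.done))))))))))))) (Scr.cons (nat_lit 8) (nat_lit 1) (Step.F (nat_lit 3217) (Step.B (nat_lit 3220) (Step.D (nat_lit 2403) Step.done))) (Scr.cons (nat_lit 3) (nat_lit 1) (Step.F (nat_lit 3219) (Step.B (nat_lit 2916) (Step.D (nat_lit 1748) Step.done))) (Scr.cons (nat_lit 3) (nat_lit 1) (Step.D (nat_lit 1748) (Step.F (nat_lit 3222) Step.done)) (Scr.cons (nat_lit 3) (nat_lit 1) (Step.F (nat_lit 3223) (Step.F (nat_lit 2919) (Step.L Step.done))) (Scr.cons (nat_lit 1) (nat_lit 0) (Step.F (nat_lit 3218) (Step.B (nat_lit 3224) (Step.L Step.done))) (Scr.cons (nat_lit 0) (nat_lit 0) (Step.F (nat_lit 3221) (Step.B (nat_lit 3225) (Step.L Step.done))) (Scr.cons (nat_lit 3) (nat_lit 0) (Step.D (nat_lit 2403) (Step.B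 (nat_lit 3226) (Step.L Step.done))) (Scr.cons (nat_lit 2) (nat_lit 0) (Step.D (nat_lit 1413) (Step.B (nat_lit 3227) (Step.L Step.done))) (Scr.cons (nat_lit 3) (nat_lit 1) (Step.D (nat_lit 454) (Step.B (nat_lit 3228) (Step.L Step.done))) (Scr.cons (nat_lit 2) (nat_lit 0) (Step.D (nat_lit 98) (Step.B (nat_lit 3229) (Step.D (nat_lit 263) Step.done))) (Scr.cons (nat_lit 0) (nat_lit 0) (Step.U (nat_lit 1001) (Step.F (nat_lit 3230) (Step.L Step.done))) (Scr.cons (nat_lit 1) (nat_lit 0) (Step.B (nat_lit 3216) (Step.B (nat_lit 3231) (Step.L Step.done))) (Scr.cons (nat_lit 3) (nat_lit 0) (Step.D (nat_lit 1506) (Step.B (nat_lit 3232) (Step.L Step.done))) (Scr.cons (nat_lit 2) (nat_lit 0) (Step.D (nat_lit 495) (Step.B (nat_lit 3233) (Step.D (nat_lit 1426) Step.done))) (Scr.cons (nat_lit 2) (nat_lit 0) (Step.D (nat_lit 1426) (Step.F (nat_lit 3234) Step.done)) (Scr.cons (nat_lit 22) (nat_lit 6) (Step.U (nat_lit 1930) (Step.L (Step.L (Step.L (Step.L (Step.L (Step.L (Step.L (Step.L (Step.L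 (Step.L (Step.D (nat_lit 986) (Step.D (nat_lit 2088) Step.done))))))))))))) (Scr.cons (nat_lit 3) (nat_lit 1) (Step.B (nat_lit 3157) (Step.F (nat_lit 3155) Step.done)) (Scr.cons (nat_lit 3) (nat_lit 1) (Step.F (nat_lit 3236) (Step.F (nat_lit 3137) (Step.B (nat_lit 3237) Step.done))) (Scr.cons (nat_lit 1) (nat_lit 0) (Step.D (nat_lit 2088) (Step.B (nat_lit 3238) (Step.L Step.done))) (Scr.cons (nat_lit 3) (nat_lit 0) (Step.D (nat_lit 986) (Step.B (nat_lit 3239) (Step.D (nat_lit 661) Step.done))) (Scr.cons (nat_lit 3) (nat_lit 0) (Step.D (nat_lit 661) (Step.F (nat_lit 3240) Step.done)) Scr.nil))))))))))))))))))))))))))))))))))))))))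
noncomputable def s81 : Scr := (Scr.cons (nat_lit 12) (nat_lit 9) (Step.U (nat_lit 2054) (Step.U (nat_lit 941) (Step.L (Step.L (Step.L (Step.L (Step.L (Step.L (Step.L (Step.L (Step.D (nat_lit 291) (Step.D (nat_lit 1062) (Step.D (nat_lit 2152) Step.done))))))))))))) (Scr.cons (nat_lit 8) (nat_lit 2) (Step.U (nat_lit 292) (Step.L (Step.D (nat_lit 1063) Step.done))) (Scr.cons (nat_lit 9) (nat_lit 0) (Step.F (nat_lit 3243) (Step.D (nat_lit 1064) Step.done)) (Scr.cons (nat_lit 19) (nat_lit 1) (Step.U (nat_lit 2150) (Step.B (nat_lit 3086) (Step.U (nat_lit 1061) (Step.U (nat_lit 290) (Step.L (Step.L (Step.L (Step.L (Step.L (Step.L (Step.D (nat_lit 1063) (Step.B (nat_lit 3244) (Step.D (nat_lit 2153) Step.done))))))))))))) (Scr.cons (nat_lit 8) (nat_lit 3) (Step.F (nat_lit 3245) (Step.U (nat_lit 2150) (Step.D (nat_lit 2151) Step.done))) (Scr.cons (nat_lit 9) (nat_lit 0) (Step.F (nat_lit 3086) (Step.D (nat_lit 2151) Step.done)) (Scr.cons (nat_lit 3) (nat_lit 1) (Step.F (nat_lit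 3247) (Step.B (nat_lit 3094) (Step.D (nat_lit 2117) Step.done))) (Scr.cons (nat_lit 1) (nat_lit 0) (Step.B (nat_lit 3246) (Step.B (nat_lit 3248) Step.done)) (Scr.cons (nat_lit 3) (nat_lit 1) (Step.U (nat_lit 2117) (Step.B (nat_lit 3097) (Step.L Step.done))) (Scr.cons (nat_lit 1) (nat_lit 0) (Step.B (nat_lit 3249) (Step.B (nat_lit 3250) (Step.L Step.done))) (Scr.cons (nat_lit 0) (nat_lit 0) (Step.D (nat_lit 2153) (Step.B (nat_lit 3251) (Step.F (nat_lit 99) Step.done))) (Scr.cons (nat_lit 3) (nat_lit 0) (Step.B (nat_lit 3244) (Step.B (nat_lit 3252) (Step.F (nat_lit 97) Step.done))) (Scr.cons (nat_lit 8) (nat_lit 1) (Step.L (Step.D (nat_lit 430) (Step.D (nat_lit 1362) Step.done))) (Scr.cons (nat_lit 0) (nat_lit 0) (Step.D (nat_lit 1063) (Step.B (nat_lit 3253) (Step.B (nat_lit 3254) Step.done))) (Scr.cons (nat_lit 8) (nat_lit 3) (Step.L (Step.D (nat_lit 291) (Step.D (nat_lit 1062) Step.done))) (Scr.cons (nat_lit 1) (nat_lit 0) (Step.B (nat_lit 3044) (Step.F (nat_lit 3255)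 (Step.B (nat_lit 3256) Step.done))) (Scr.cons (nat_lit 2) (nat_lit 0) (Step.U (nat_lit 2152) (Step.F (nat_lit 3257) (Step.L Step.done))) (Scr.cons (nat_lit 1) (nat_lit 0) (Step.B (nat_lit 3242) (Step.B (nat_lit 3258) (Step.L Step.done))) (Scr.cons (nat_lit 3) (nat_lit 0) (Step.D (nat_lit 2054) (Step.B (nat_lit 3259) (Step.L Step.done))) (Scr.cons (nat_lit 2) (nat_lit 0) (Step.D (nat_lit 941) (Step.B (nat_lit 3260) (Step.D (nat_lit 1394) Step.done))) (Scr.cons (nat_lit 2) (nat_lit 0) (Step.D (nat_lit 1394) (Step.F (nat_lit 3261) Step.done)) (Scr.cons (nat_lit 9) (nat_lit 0) (Step.U (nat_lit 2210) (Step.D (nat_lit 2211) Step.done)) (Scr.cons (nat_lit 8) (nat_lit 1) (Step.F (nat_lit 3263) (Step.F (nat_lit 421) (Step.B (nat_lit 422) Step.done))) (Scr.cons (nat_lit 20) (nat_lit 5) (Step.U (nat_lit 1364) (Step.L (Step.L (Step.L (Step.D (nat_lit 9) (Step.D (nat_lit 92) (Step.D (nat_lit 435) (Step.D (nat_lit 1368) Step.done)))))))) (Scr.cons (nat_lit 0) (nat_lit 0) (Step.D (nat_lit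 2209) (Step.F (nat_lit 432) (Step.D (nat_lit 1364) Step.done))) (Scr.cons (nat_lit 3) (nat_lit 0) (Step.F (nat_lit 3265) (Step.F (nat_lit 3266) (Step.D (nat_lit 2211) Step.done))) (Scr.cons (nat_lit 0) (nat_lit 0) (Step.F (nat_lit 3264) (Step.F (nat_lit 3267) Step.done)) (Scr.cons (nat_lit 8) (nat_lit 1) (Step.U (nat_lit 93) (Step.D (nat_lit 92) (Step.D (nat_lit 435) Step.done))) (Scr.cons (nat_lit 2) (nat_lit 0) (Step.D (nat_lit 1370) (Step.B (nat_lit 3082) (Step.D (nat_lit 2328) Step.done))) (Scr.cons (nat_lit 2) (nat_lit 0) (Step.D (nat_lit 2328) (Step.F (nat_lit 3270) Step.done)) (Scr.cons (nat_lit 2) (nat_lit 0) (Step.F (nat_lit 3271) (Step.B (nat_lit 3101) (Step.L Step.done))) (Scr.cons (nat_lit 0) (nat_lit 0) (Step.D (nat_lit 437) (Step.B (nat_lit 3272) (Step.L Step.done))) (Scr.cons (nat_lit 3) (nat_lit 0) (Step.B (nat_lit 3059) (Step.B (nat_lit 3273) (Step.L Step.done))) (Scr.cons (nat_lit 0) (nat_lit 0) (Step.F (nat_lit 3269) (Step.B (nat_lit 3274) (Step.L Step.done)))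 (Scr.cons (nat_lit 2) (nat_lit 0) (Step.U (nat_lit 1368) (Step.B (nat_lit 3275) (Step.L Step.done))) (Scr.cons (nat_lit 0) (nat_lit 0) (Step.B (nat_lit 3268) (Step.B (nat_lit 3276) (Step.L Step.done))) (Scr.cons (nat_lit 3) (nat_lit 1) (Step.D (nat_lit 1235) (Step.B (nat_lit 3277) (Step.D (nat_lit 1018) Step.done))) (Scr.cons (nat_lit 3) (nat_lit 1) (Step.D (nat_lit 1018) (Step.F (nat_lit 3278) Step.done)) (Scr.cons (nat_lit 8) (nat_lit 1) (Step.U (nat_lit 1510) (Step.D (nat_lit 1509) (Step.D (nat_lit 2449) Step.done))) (Scr.cons (nat_lit 20) (nat_lit 4) (Step.U (nat_lit 2445) (Step.U (nat_lit 1505) (Step.U (nat_lit 495) (Step.L (Step.L (Step.L (Step.D (nat_lit 1509) (Step.D (nat_lit 2449) Step.done)))))))) Scr.nil))))))))))))))))))))))))))))))))))))))))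
noncomputable def s82 : Scr := (Scr.cons (nat_lit 8) (nat_lit 3) (Step.U (nat_lit 1507) (Step.D (nat_lit 1505) (Step.D (nat_lit 2445) Step.done))) (Scr.cons (nat_lit 9) (nat_lit 0) (Step.U (nat_lit 1506) (Step.D (nat_lit 1507) Step.done)) (Scr.cons (nat_lit 3) (nat_lit 1) (Step.F (nat_lit 3283) (Step.B (nat_lit 3232) (Step.L Step.done))) (Scr.cons (nat_lit 1) (nat_lit 0) (Step.F (nat_lit 3282) (Step.B (nat_lit 3284) (Step.L Step.done))) (Scr.cons (nat_lit 2) (nat_lit 0) (Step.F (nat_lit 3281) (Step.B (nat_lit 3285) (Step.L Step.done))) (Scr.cons (nat_lit 0) (nat_lit 0) (Step.B (nat_lit 3280) (Step.B (nat_lit 3286) (Step.D (nat_lit 1423) Step.done))) (Scr.cons (nat_lit 8) (nat_lit 1) (Step.F (nat_lit 2681) (Step.F (nat_lit 2680) (Step.D (nat_lit 2525) Step.done))) (Scr.cons (nat_lit 0) (nat_lit 0) (Step.B (nat_lit 3288) (Step.F (nat_lit 2738) (Step.D (nat_lit 1423) Step.done))) (Scr.cons (nat_lit 3) (nat_lit 0) (Step.B (nat_lit 2681) (Step.B (nat_lit 3289) (Step.D (nat_lit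 2409) Step.done))) (Scr.cons (nat_lit 3) (nat_lit 0) (Step.D (nat_lit 2409) (Step.F (nat_lit 3290) Step.done)) (Scr.cons (nat_lit 3) (nat_lit 0) (Step.D (nat_lit 1510) (Step.B (nat_lit 3287) (Step.B (nat_lit 3291) Step.done))) (Scr.cons (nat_lit 3) (nat_lit 1) (Step.D (nat_lit 1957) (Step.F (nat_lit 3292) Step.done)) (Scr.cons (nat_lit 9) (nat_lit 0) (Step.L (Step.D (nat_lit 439) Step.done)) (Scr.cons (nat_lit 8) (nat_lit 3) (Step.U (nat_lit 95) (Step.L (Step.D (nat_lit 439) Step.done))) (Scr.cons (nat_lit 8) (nat_lit 1) (Step.L (Step.L (Step.D (nat_lit 440) Step.done))) (Scr.cons (nat_lit 20) (nat_lit 4) (Step.U (nat_lit 434) (Step.U (nat_lit 91) (Step.U (nat_lit 9) (Step.L (Step.L (Step.L (Step.L (Step.D (nat_lit 440) Step.done)))))))) (Scr.cons (nat_lit 8) (nat_lit 3) (Step.U (nat_lit 94) (Step.D (nat_lit 91) (Step.D (nat_lit 434) Step.done))) (Scr.cons (nat_lit 1) (nat_lit 0) (Step.F (nat_lit 3298) (Step.B (nat_lit 3273) (Step.L Step.done))) (Scr.cons (nat_lit 2) (nat_lit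 0) (Step.F (nat_lit 3297) (Step.B (nat_lit 3299) (Step.L Step.done))) (Scr.cons (nat_lit 3) (nat_lit 1) (Step.D (nat_lit 1537) (Step.F (nat_lit 547) (Step.B (nat_lit 566) Step.done))) (Scr.cons (nat_lit 0) (nat_lit 0) (Step.D (nat_lit 509) (Step.B (nat_lit 3301) Step.done)) (Scr.cons (nat_lit 9) (nat_lit 0) (Step.U (nat_lit 1046) (Step.D (nat_lit 1047) Step.done)) (Scr.cons (nat_lit 8) (nat_lit 3) (Step.U (nat_lit 286) (Step.D (nat_lit 285) (Step.D (nat_lit 1047) Step.done))) (Scr.cons (nat_lit 21) (nat_lit 2) (Step.B (nat_lit 3303) (Step.F (nat_lit 3304) (Step.B (nat_lit 1100) (Step.B (nat_lit 1101) (Step.U (nat_lit 534) (Step.F (nat_lit 1098) (Step.L (Step.L (Step.L (Step.F (nat_lit 630) (Step.D (nat_lit 20) (Step.D (nat_lit 151) (Step.D (nat_lit 651) Step.done))))))))))))) (Scr.cons (nat_lit 3) (nat_lit 0) (Step.B (nat_lit 631) (Step.B (nat_lit 812) (Step.L Step.done))) (Scr.cons (nat_lit 0) (nat_lit 0) (Step.U (nat_lit 151) (Step.B (nat_lit 3306) (Step.L Step.done)))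 (Scr.cons (nat_lit 1) (nat_lit 0) (Step.U (nat_lit 651) (Step.B (nat_lit 3307) (Step.L Step.done))) (Scr.cons (nat_lit 2) (nat_lit 0) (Step.B (nat_lit 3305) (Step.B (nat_lit 3308) (Step.L Step.done))) (Scr.cons (nat_lit 3) (nat_lit 0) (Step.D (nat_lit 1046) (Step.B (nat_lit 3309) (Step.D (nat_lit 203) Step.done))) (Scr.cons (nat_lit 0) (nat_lit 0) (Step.D (nat_lit 285) (Step.B (nat_lit 3310) (Step.F (nat_lit 3302) Step.done))) (Scr.cons (nat_lit 0) (nat_lit 0) (Step.F (nat_lit 3302) (Step.F (nat_lit 3311) Step.done)) (Scr.cons (nat_lit 0) (nat_lit 0) (Step.B (nat_lit 3296) (Step.B (nat_lit 3300) (Step.F (nat_lit 3312) Step.done))) (Scr.cons (nat_lit 9) (nat_lit 0) (Step.L (Step.D (nat_lit 95) Step.done)) (Scr.cons (nat_lit 3) (nat_lit 1) (Step.D (nat_lit 203) (Step.F (nat_lit 3313) (Step.B (nat_lit 3314) Step.done))) (Scr.cons (nat_lit 1) (nat_lit 0) (Step.F (nat_lit 3295) (Step.F (nat_lit 3315) (Step.D (nat_lit 201) Step.done))) (Scr.cons (nat_lit 9) (nat_lit 0) (Step.U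 (nat_lit 1676) (Step.D (nat_lit 1677) Step.done)) (Scr.cons (nat_lit 8) (nat_lit 3) (Step.U (nat_lit 586) (Step.D (nat_lit 585) (Step.D (nat_lit 1677) Step.done))) (Scr.cons (nat_lit 20) (nat_lit 1) (Step.F (nat_lit 3318) (Step.U (nat_lit 586) (Step.L (Step.L (Step.L (Step.D (nat_lit 587) (Step.B (nat_lit 2014) (Step.D (nat_lit 2415) Step.done)))))))) (Scr.cons (nat_lit 0) (nat_lit 0) (Step.U (nat_lit 2415) (Step.B (nat_lit 2018) (Step.L Step.done))) (Scr.cons (nat_lit 8) (nat_lit 1) (Step.U (nat_lit 202) (Step.D (nat_lit 201) (Step.D (nat_lit 844) Step.done))) Scr.nil))))))))))))))))))))))))))))))))))))))))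
noncomputable def s83 : Scr := (Scr.cons (nat_lit 20) (nat_lit 7) (Step.U (nat_lit 1252) (Step.L (Step.L (Step.L (Step.L (Step.L (Step.L (Step.D (nat_lit 202) (Step.B (nat_lit 3321) Step.done))))))))) (Scr.cons (nat_lit 2) (nat_lit 0) (Step.D (nat_lit 1252) (Step.B (nat_lit 3322) Step.done)) (Scr.cons (nat_lit 2) (nat_lit 0) (Step.B (nat_lit 3319) (Step.B (nat_lit 3320) (Step.B (nat_lit 3323) Step.done))) (Scr.cons (nat_lit 3) (nat_lit 0) (Step.B (nat_lit 3317) (Step.B (nat_lit 3324) (Step.U (nat_lit 844) Step.done))) (Scr.cons (nat_lit 3) (nat_lit 1) (Step.D (nat_lit 1676) (Step.B (nat_lit 3325) Step.done)) (Scr.cons (nat_lit 3) (nat_lit 0) (Step.B (nat_lit 3294) (Step.B (nat_lit 3316) (Step.F (nat_lit 3326) Step.done))) (Scr.cons (nat_lit 9) (nat_lit 0) (Step.U (nat_lit 844) (Step.D (nat_lit 845) Step.done)) (Scr.cons (nat_lit 3) (nat_lit 1) (Step.D (nat_lit 1677) (Step.B (nat_lit 3324) (Step.B (nat_lit 3328) Step.done))) (Scr.cons (nat_lit 21) (nat_lit 3) (Step.U (nat_lit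 1972) (Step.L (Step.L (Step.L (Step.L (Step.L (Step.L (Step.L (Step.L (Step.L (Step.D (nat_lit 1208) (Step.F (nat_lit 569) (Step.D (nat_lit 1981) Step.done))))))))))))) (Scr.cons (nat_lit 3) (nat_lit 1) (Step.B (nat_lit 307) (Step.F (nat_lit 312) Step.done)) (Scr.cons (nat_lit 22) (nat_lit 4) (Step.U (nat_lit 845) (Step.U (nat_lit 201) (Step.D (nat_lit 203) (Step.B (nat_lit 567) (Step.B (nat_lit 568) (Step.L (Step.D (nat_lit 1981) (Step.F (nat_lit 3330) (Step.U (nat_lit 1972) (Step.F (nat_lit 3331) (Step.U (nat_lit 1251) (Step.B (nat_lit 3323) (Step.B (nat_lit 3328) (Step.D (nat_lit 1974) Step.done)))))))))))))) (Scr.cons (nat_lit 2) (nat_lit 0) (Step.D (nat_lit 1974) (Step.F (nat_lit 3332) Step.done)) (Scr.cons (nat_lit 2) (nat_lit 0) (Step.B (nat_lit 3329) (Step.F (nat_lit 3333) (Step.F (nat_lit 3329) (Step.D (nat_lit 1675) Step.done)))) (Scr.cons (nat_lit 2) (nat_lit 0) (Step.D (nat_lit 1675) (Step.F (nat_lit 3334) Step.done)) (Scr.cons (nat_lit 2) (nat_lit 0) (Step.B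 (nat_lit 3327) (Step.F (nat_lit 3335) (Step.F (nat_lit 3327) (Step.D (nat_lit 1373) Step.done)))) (Scr.cons (nat_lit 2) (nat_lit 0) (Step.D (nat_lit 1373) (Step.F (nat_lit 3336) Step.done)) (Scr.cons (nat_lit 9) (nat_lit 0) (Step.U (nat_lit 1886) (Step.D (nat_lit 1887) Step.done)) (Scr.cons (nat_lit 13) (nat_lit 5) (Step.U (nat_lit 2355) (Step.F (nat_lit 3003) (Step.U (nat_lit 1955) (Step.F (nat_lit 2999) (Step.L (Step.D (nat_lit 1958) (Step.F (nat_lit 2682) (Step.U (nat_lit 2124) (Step.D (nat_lit 2125) (Step.F (nat_lit 2669) (Step.B (nat_lit 2670) (Step.F (nat_lit 2671) (Step.F (nat_lit 3338) Step.done))))))))))))) (Scr.cons (nat_lit 1) (nat_lit 0) (Step.U (nat_lit 2355) (Step.B (nat_lit 3009) (Step.L Step.done))) (Scr.cons (nat_lit 2) (nat_lit 0) (Step.F (nat_lit 3339) (Step.B (nat_lit 3340) (Step.D (nat_lit 907) Step.done))) (Scr.cons (nat_lit 3) (nat_lit 1) (Step.F (nat_lit 3338) (Step.B (nat_lit 3341) (Step.D (nat_lit 2029) Step.done))) (Scr.cons (nat_lit 3) (nat_lit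 1) (Step.D (nat_lit 2029) (Step.F (nat_lit 3342) Step.done)) (Scr.cons (nat_lit 8) (nat_lit 3) (Step.U (nat_lit 1035) (Step.D (nat_lit 1034) (Step.D (nat_lit 2130) Step.done))) (Scr.cons (nat_lit 9) (nat_lit 0) (Step.U (nat_lit 2129) (Step.D (nat_lit 2130) Step.done)) (Scr.cons (nat_lit 9) (nat_lit 0) (Step.L (Step.D (nat_lit 1040) Step.done)) (Scr.cons (nat_lit 8) (nat_lit 2) (Step.U (nat_lit 1041) (Step.B (nat_lit 3346) (Step.D (nat_lit 2131) Step.done))) (Scr.cons (nat_lit 9) (nat_lit 0) (Step.F (nat_lit 3347) (Step.D (nat_lit 2133) Step.done)) (Scr.cons (nat_lit 8) (nat_lit 2) (Step.U (nat_lit 280) (Step.L (Step.L Step.done))) (Scr.cons (nat_lit 10) (nat_lit 1) (Step.F (nat_lit 3348) (Step.U (nat_lit 2131) (Step.F (nat_lit 3346) (Step.L (Step.L (Step.L (Step.L (Step.L (Step.L (Step.L (Step.F (nat_lit 3349) (Step.D (nat_lit 1034) (Step.D (nat_lit 2130) Step.done))))))))))))) (Scr.cons (nat_lit 8) (nat_lit 3) (Step.B (nat_lit 3348) (Step.B (nat_lit 3350) (Step.F (nat_lit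 3345) Step.done))) (Scr.cons (nat_lit 22) (nat_lit 2) (Step.U (nat_lit 2132) (Step.U (nat_lit 1040) (Step.L (Step.L (Step.L (Step.L (Step.L (Step.L (Step.L (Step.L (Step.L (Step.B (nat_lit 3256) (Step.D (nat_lit 2152) Step.done))))))))))))) (Scr.cons (nat_lit 3) (nat_lit 1) (Step.B (nat_lit 3352) (Step.B (nat_lit 3258) (Step.L Step.done))) (Scr.cons (nat_lit 2) (nat_lit 0) (Step.D (nat_lit 2132) (Step.B (nat_lit 3353) (Step.L Step.done))) (Scr.cons (nat_lit 0) (nat_lit 0) (Step.U (nat_lit 2131) (Step.B (nat_lit 3354) (Step.L Step.done))) (Scr.cons (nat_lit 1) (nat_lit 0) (Step.F (nat_lit 3351) (Step.B (nat_lit 3355) (Step.L Step.done))) (Scr.cons (nat_lit 3) (nat_lit 1) (Step.F (nat_lit 3345) (Step.B (nat_lit 3356) (Step.B (nat_lit 2718) Step.done))) (Scr.cons (nat_lit 1) (nat_lit 0) (Step.B (nat_lit 3344) (Step.B (nat_lit 3357) (Step.B (nat_lit 2672) Step.done))) (Scr.cons (nat_lit 9) (nat_lit 0) (Step.F (nat_lit 3349) (Step.D (nat_lit 1035) Step.done)) (Scr.cons (nat_lit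 3) (nat_lit 0) (Step.B (nat_lit 3343) (Step.F (nat_lit 3358) (Step.F (nat_lit 3359) Step.done))) (Scr.cons (nat_lit 2) (nat_lit 0) (Step.D (nat_lit 907) (Step.B (nat_lit 3360) (Step.D (nat_lit 1036) Step.done))) Scr.nil))))))))))))))))))))))))))))))))))))))))
noncomputable def s84 : Scr := (Scr.cons (nat_lit 2) (nat_lit 0) (Step.D (nat_lit 1036) (Step.F (nat_lit 3361) Step.done)) (Scr.cons (nat_lit 8) (nat_lit 3) (Step.L (Step.L (Step.D (nat_lit 1504) Step.done))) (Scr.cons (nat_lit 9) (nat_lit 0) (Step.L (Step.D (nat_lit 1356) Step.done)) (Scr.cons (nat_lit 8) (nat_lit 2) (Step.U (nat_lit 2361) (Step.B (nat_lit 3364) (Step.D (nat_lit 2362) Step.done))) (Scr.cons (nat_lit 9) (nat_lit 0) (Step.U (nat_lit 427) (Step.D (nat_lit 428) Step.done)) (Scr.cons (nat_lit 8) (nat_lit 2) (Step.U (nat_lit 1353) (Step.B (nat_lit 3366) (Step.D (nat_lit 1354) Step.done))) (Scr.cons (nat_lit 19) (nat_lit 1) (Step.U (nat_lit 2358) (Step.B (nat_lit 3367) (Step.U (nat_lit 1354) (Step.U (nat_lit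 428) (Step.L (Step.L (Step.L (Step.L (Step.L (Step.L (Step.L (Step.B (nat_lit 3364) (Step.D (nat_lit 2362) Step.done))))))))))))) (Scr.cons (nat_lit 18) (nat_lit 0) (Step.B (nat_lit 3365) (Step.F (nat_lit 3368) Step.done)) (Scr.cons (nat_lit 9) (nat_lit 0) (Step.L (Step.D (nat_lit 88) Step.done)) (Scr.cons (nat_lit 8) (nat_lit 3) (Step.U (nat_lit 88) (Step.L (Step.D (nat_lit 428) Step.done))) (Scr.cons (nat_lit 12) (nat_lit 9) (Step.U (nat_lit 1408) (Step.U (nat_lit 450) (Step.L (Step.L (Step.L (Step.L (Step.L (Step.L (Step.B (nat_lit 3370) (Step.B (nat_lit 3371) (Step.D (nat_lit 1354) (Step.F (nat_lit 3367) (Step.D (nat_lit 2359) Step.done))))))))))))) (Scr.cons (nat_lit 9) (nat_lit 0) (Step.U (nat_lit 1408) (Step.D (nat_lit 1409) Step.done)) (Scr.cons (nat_lit 8) (nat_lit 2) (Step.F (nat_lit 3372) (Step.B (nat_lit 3373) (Step.D (nat_lit 2400) Step.done))) (Scr.cons (nat_lit 13) (nat_lit 3) (Step.F (nat_lit 3374) (Step.U (nat_lit 2359) (Step.U (nat_lit 1353) (Step.B (nat_lit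 3366) (Step.F (nat_lit 3371) (Step.F (nat_lit 3370) (Step.L (Step.L (Step.L (Step.L (Step.D (nat_lit 440) (Step.D (nat_lit 1374) (Step.D (nat_lit 2378) Step.done))))))))))))) (Scr.cons (nat_lit 1) (nat_lit 0) (Step.U (nat_lit 1374) (Step.B (nat_lit 3300) (Step.L Step.done))) (Scr.cons (nat_lit 3) (nat_lit 0) (Step.U (nat_lit 2378) (Step.B (nat_lit 3376) (Step.L Step.done))) (Scr.cons (nat_lit 2) (nat_lit 0) (Step.B (nat_lit 2687) (Step.B (nat_lit 3289) (Step.D (nat_lit 2408) Step.done))) (Scr.cons (nat_lit 2) (nat_lit 0) (Step.D (nat_lit 2408) (Step.F (nat_lit 3378) Step.done)) (Scr.cons (nat_lit 2) (nat_lit 0) (Step.B (nat_lit 3375) (Step.B (nat_lit 3377) (Step.F (nat_lit 3379) Step.done))) (Scr.cons (nat_lit 3) (nat_lit 0) (Step.B (nat_lit 3374) (Step.B (nat_lit 3380) (Step.B (nat_lit 3291) Step.done))) (Scr.cons (nat_lit 2) (nat_lit 0) (Step.D (nat_lit 2359) (Step.B (nat_lit 3381) (Step.F (nat_lit 3292) (Step.L Step.done)))) (Scr.cons (nat_lit 0) (nat_lit 0) (Step.U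 (nat_lit 2358) (Step.B (nat_lit 3382) (Step.L Step.done))) (Scr.cons (nat_lit 3) (nat_lit 1) (Step.B (nat_lit 3369) (Step.B (nat_lit 3383) (Step.L Step.done))) (Scr.cons (nat_lit 1) (nat_lit 0) (Step.D (nat_lit 2361) (Step.B (nat_lit 3384) (Step.B (nat_lit 3363) Step.done))) (Scr.cons (nat_lit 1) (nat_lit 0) (Step.B (nat_lit 3363) (Step.F (nat_lit 3385) Step.done)) (Scr.cons (nat_lit 8) (nat_lit 1) (Step.U (nat_lit 1371) (Step.L (Step.D (nat_lit 2376) Step.done))) (Scr.cons (nat_lit 8) (nat_lit 3) (Step.L (Step.L (Step.D (nat_lit 438) Step.done))) (Scr.cons (nat_lit 11) (nat_lit 1) (Step.F (nat_lit 3387) (Step.U (nat_lit 1371) (Step.L (Step.D (nat_lit 438) (Step.F (nat_lit 3388) (Step.L (Step.D (nat_lit 1372) (Step.D (nat_lit 2377) Step.done)))))))) (Scr.cons (nat_lit 9) (nat_lit 0) (Step.U (nat_lit 1032) (Step.D (nat_lit 1033) Step.done)) (Scr.cons (nat_lit 8) (nat_lit 2) (Step.U (nat_lit 2127) (Step.B (nat_lit 3390) (Step.D (nat_lit 2128) Step.done))) (Scr.cons (nat_lit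 13) (nat_lit 2) (Step.U (nat_lit 2084) (Step.F (nat_lit 2511) (Step.D (nat_lit 2082) (Step.B (nat_lit 1545) (Step.U (nat_lit 1026) (Step.U (nat_lit 275) (Step.U (nat_lit 48) (Step.L (Step.L (Step.D (nat_lit 51) (Step.D (nat_lit 279) (Step.D (nat_lit 1032) (Step.D (nat_lit 2127) Step.done))))))))))))) (Scr.cons (nat_lit 9) (nat_lit 0) (Step.F (nat_lit 3391) (Step.F (nat_lit 3392) Step.done)) (Scr.cons (nat_lit 12) (nat_lit 0) (Step.U (nat_lit 1033) (Step.U (nat_lit 279) (Step.U (nat_lit 51) (Step.L (Step.L (Step.L (Step.L (Step.L (Step.L (Step.L (Step.D (nat_lit 263) (Step.D (nat_lit 1002) (Step.D (nat_lit 2102) Step.done))))))))))))) (Scr.cons (nat_lit 1) (nat_lit 0) (Step.U (nat_lit 1002) (Step.F (nat_lit 3230) (Step.L Step.done))) (Scr.cons (nat_lit 0) (nat_lit 0) (Step.U (nat_lit 2102) (Step.B (nat_lit 3395) (Step.L Step.done))) (Scr.cons (nat_lit 1) (nat_lit 0) (Step.B (nat_lit 3394) (Step.B (nat_lit 3396) (Step.L Step.done))) (Scr.cons (nat_lit 0) (nat_lit 0) (Step.U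 (nat_lit 2128) (Step.B (nat_lit 3397) (Step.L Step.done))) (Scr.cons (nat_lit 3) (nat_lit 1) (Step.F (nat_lit 3393) (Step.B (nat_lit 3398) (Step.L Step.done))) (Scr.cons (nat_lit 2) (nat_lit 0) (Step.D (nat_lit 2084) (Step.B (nat_lit 3399) (Step.L Step.done))) (Scr.cons (nat_lit 0) (nat_lit 0) (Step.D (nat_lit 978) (Step.B (nat_lit 3400) (Step.D (nat_lit 1372) Step.done))) Scr.nil))))))))))))))))))))))))))))))))))))))))
noncomputable def s85 : Scr := (Scr.cons (nat_lit 3) (nat_lit 0) (Step.U (nat_lit 2377) (Step.F (nat_lit 3401) (Step.L Step.done))) (Scr.cons (nat_lit 2) (nat_lit 0) (Step.B (nat_lit 3389) (Step.B (nat_lit 3402) (Step.L Step.done))) (Scr.cons (nat_lit 9) (nat_lit 0) (Step.U (nat_lit 549) (Step.L Step.done)) (Scr.cons (nat_lit 8) (nat_lit 2) (Step.U (nat_lit 1615) (Step.B (nat_lit 3404) (Step.D (nat_lit 1616) Step.done))) (Scr.cons (nat_lit 18) (nat_lit 0) (Step.F (nat_lit 1899) (Step.B (nat_lit 3405) Step.done)) (Scr.cons (nat_lit 2) (nat_lit 0) (Step.U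 (nat_lit 1880) (Step.B (nat_lit 1905) (Step.L Step.done))) (Scr.cons (nat_lit 3) (nat_lit 0) (Step.F (nat_lit 3406) (Step.B (nat_lit 3407) (Step.D (nat_lit 2083) Step.done))) (Scr.cons (nat_lit 3) (nat_lit 0) (Step.D (nat_lit 2083) (Step.F (nat_lit 3408) Step.done)) (Scr.cons (nat_lit 3) (nat_lit 0) (Step.D (nat_lit 2376) (Step.B (nat_lit 3403) (Step.B (nat_lit 3409) Step.done))) (Scr.cons (nat_lit 0) (nat_lit 0) (Step.D (nat_lit 1616) (Step.F (nat_lit 3410) (Step.D (nat_lit 2375) Step.done))) (Scr.cons (nat_lit 0) (nat_lit 0) (Step.D (nat_lit 2375) (Step.F (nat_lit 3411) Step.done)) (Scr.cons (nat_lit 9) (nat_lit 0) (Step.U (nat_lit 1565) (Step.D (nat_lit 1566) Step.done)) (Scr.cons (nat_lit 8) (nat_lit 2) (Step.U (nat_lit 2501) (Step.B (nat_lit 3413) (Step.D (nat_lit 2502) Step.done))) (Scr.cons (nat_lit 13) (nat_lit 0) (Step.U (nat_lit 1101) (Step.L (Step.L (Step.L (Step.L (Step.D (nat_lit 1105) (Step.F (nat_lit 1219) (Step.U (nat_lit 1737) (Step.B (nat_lit 1118) (Step.U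 (nat_lit 1031) (Step.B (nat_lit 791) (Step.D (nat_lit 989) (Step.D (nat_lit 2089) Step.done))))))))))))) (Scr.cons (nat_lit 8) (nat_lit 2) (Step.U (nat_lit 1101) (Step.L (Step.D (nat_lit 1102) Step.done))) (Scr.cons (nat_lit 18) (nat_lit 0) (Step.F (nat_lit 3415) (Step.B (nat_lit 3416) Step.done)) (Scr.cons (nat_lit 21) (nat_lit 0) (Step.U (nat_lit 2140) (Step.U (nat_lit 1052) (Step.L (Step.L (Step.L (Step.L (Step.D (nat_lit 50) (Step.D (nat_lit 278) (Step.B (nat_lit 791) (Step.D (nat_lit 989) (Step.D (nat_lit 2089) (Step.B (nat_lit 3417) (Step.D (nat_lit 2175) Step.done))))))))))))) (Scr.cons (nat_lit 0) (nat_lit 0) (Step.U (nat_lit 254) (Step.B (nat_lit 925) (Step.L Step.done))) (Scr.cons (nat_lit 2) (nat_lit 0) (Step.U (nat_lit 989) (Step.B (nat_lit 3419) (Step.L Step.done))) (Scr.cons (nat_lit 1) (nat_lit 0) (Step.U (nat_lit 2089) (Step.B (nat_lit 3420) (Step.L Step.done))) (Scr.cons (nat_lit 3) (nat_lit 0) (Step.F (nat_lit 3417) (Step.B (nat_lit 3421) (Step.L Step.done)))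 (Scr.cons (nat_lit 8) (nat_lit 3) (Step.L (Step.L (Step.D (nat_lit 1566) Step.done))) (Scr.cons (nat_lit 1) (nat_lit 0) (Step.U (nat_lit 2175) (Step.B (nat_lit 3422) (Step.B (nat_lit 3423) Step.done))) (Scr.cons (nat_lit 0) (nat_lit 0) (Step.B (nat_lit 3418) (Step.B (nat_lit 3424) (Step.D (nat_lit 2502) Step.done))) (Scr.cons (nat_lit 3) (nat_lit 1) (Step.B (nat_lit 3414) (Step.F (nat_lit 3425) Step.done)) (Scr.cons (nat_lit 0) (nat_lit 0) (Step.D (nat_lit 2502) (Step.F (nat_lit 3425) Step.done)) (Scr.cons (nat_lit 21) (nat_lit 6) (Step.B (nat_lit 3426) (Step.F (nat_lit 3427) (Step.F (nat_lit 3423) (Step.L (Step.L (Step.L (Step.L (Step.L (Step.L (Step.L (Step.F (nat_lit 2741) (Step.U (nat_lit 1425) (Step.D (nat_lit 1424) (Step.D (nat_lit 2410) Step.done)))))))))))))) (Scr.cons (nat_lit 1) (nat_lit 0) (Step.D (nat_lit 2501) (Step.B (nat_lit 3428) Step.done)) (Scr.cons (nat_lit 20) (nat_lit 4) (Step.U (nat_lit 2399) (Step.U (nat_lit 1407) (Step.U (nat_lit 450) (Step.L (Step.L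 (Step.D (nat_lit 451) (Step.D (nat_lit 1410) (Step.D (nat_lit 2401) Step.done)))))))) (Scr.cons (nat_lit 8) (nat_lit 3) (Step.U (nat_lit 1409) (Step.D (nat_lit 1407) (Step.D (nat_lit 2399) Step.done))) (Scr.cons (nat_lit 0) (nat_lit 0) (Step.D (nat_lit 2400) (Step.B (nat_lit 3380) (Step.U (nat_lit 1423) Step.done))) (Scr.cons (nat_lit 1) (nat_lit 0) (Step.F (nat_lit 3431) (Step.B (nat_lit 3432) (Step.D (nat_lit 1424) Step.done))) (Scr.cons (nat_lit 2) (nat_lit 0) (Step.F (nat_lit 3430) (Step.B (nat_lit 3433) (Step.D (nat_lit 2410) Step.done))) (Scr.cons (nat_lit 13) (nat_lit 1) (Step.U (nat_lit 1832) (Step.U (nat_lit 707) (Step.L (Step.L (Step.L (Step.L (Step.L (Step.L (Step.L (Step.L (Step.D (nat_lit 451) (Step.D (nat_lit 1410) (Step.D (nat_lit 2401) Step.done))))))))))))) (Scr.cons (nat_lit 1) (nat_lit 0) (Step.B (nat_lit 3429) (Step.F (nat_lit 3434) (Step.F (nat_lit 3435) Step.done))) (Scr.cons (nat_lit 3) (nat_lit 0) (Step.D (nat_lit 1832) (Step.F (nat_lit 3436) (Step.U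 (nat_lit 1565) Step.done))) (Scr.cons (nat_lit 2) (nat_lit 0) (Step.D (nat_lit 707) (Step.B (nat_lit 3437) (Step.D (nat_lit 1564) Step.done))) (Scr.cons (nat_lit 2) (nat_lit 0) (Step.D (nat_lit 1564) (Step.F (nat_lit 3438) Step.done)) (Scr.cons (nat_lit 9) (nat_lit 0) (Step.L (Step.D (nat_lit 1468) Step.done)) (Scr.cons (nat_lit 8) (nat_lit 2) (Step.U (nat_lit 1516) (Step.B (nat_lit 3440) (Step.D (nat_lit 2433) Step.done))) Scr.nil))))))))))))))))))))))))))))))))))))))))
noncomputable def s86 : Scr := (Scr.cons (nat_lit 9) (nat_lit 0) (Step.F (nat_lit 3441) (Step.D (nat_lit 2458) Step.done)) (Scr.cons (nat_lit 8) (nat_lit 2) (Step.U (nat_lit 496) (Step.L (Step.D (nat_lit 497) Step.done))) (Scr.cons (nat_lit 10) (nat_lit 1) (Step.F (nat_lit 3442) (Step.U (nat_lit 2433) (Step.F (nat_lit 3440) (Step.L (Step.L (Step.L (Step.L (Step.L (Step.L (Step.D (nat_lit 497) (Step.F (nat_lit 3443) (Step.D (nat_lit 1508) (Step.D (nat_lit 2448) Step.done))))))))))))) (Scr.cons (nat_lit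 9) (nat_lit 0) (Step.U (nat_lit 2447) (Step.D (nat_lit 2448) Step.done)) (Scr.cons (nat_lit 8) (nat_lit 3) (Step.B (nat_lit 3442) (Step.B (nat_lit 3444) (Step.F (nat_lit 3445) Step.done))) (Scr.cons (nat_lit 8) (nat_lit 2) (Step.U (nat_lit 1707) (Step.B (nat_lit 2114) (Step.D (nat_lit 1708) Step.done))) (Scr.cons (nat_lit 22) (nat_lit 3) (Step.U (nat_lit 1468) (Step.L (Step.L (Step.L (Step.L (Step.L (Step.L (Step.L (Step.D (nat_lit 470) (Step.D (nat_lit 1461) (Step.B (nat_lit 2133) (Step.F (nat_lit 2115) (Step.B (nat_lit 3447) Step.done))))))))))))) (Scr.cons (nat_lit 3) (nat_lit 1) (Step.F (nat_lit 3447) (Step.B (nat_lit 2135) (Step.B (nat_lit 2166) (Step.U (nat_lit 574) Step.done)))) (Scr.cons (nat_lit 2) (nat_lit 0) (Step.B (nat_lit 3448) (Step.B (nat_lit 3449) (Step.L Step.done))) (Scr.cons (nat_lit 0) (nat_lit 0) (Step.U (nat_lit 2433) (Step.B (nat_lit 3450) (Step.D (nat_lit 1657) Step.done))) (Scr.cons (nat_lit 1) (nat_lit 0) (Step.F (nat_lit 3446) (Step.B (nat_lit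 3451) Step.done)) (Scr.cons (nat_lit 1) (nat_lit 0) (Step.D (nat_lit 1353) (Step.B (nat_lit 3382) (Step.D (nat_lit 496) Step.done))) (Scr.cons (nat_lit 21) (nat_lit 12) (Step.L (Step.L (Step.L (Step.L (Step.L (Step.L (Step.L (Step.L (Step.L (Step.L (Step.L (Step.D (nat_lit 229) (Step.D (nat_lit 903) Step.done))))))))))))) (Scr.cons (nat_lit 8) (nat_lit 1) (Step.F (nat_lit 3454) (Step.L (Step.D (nat_lit 427) Step.done))) (Scr.cons (nat_lit 0) (nat_lit 0) (Step.U (nat_lit 1508) (Step.F (nat_lit 3453) (Step.F (nat_lit 3455) Step.done))) (Scr.cons (nat_lit 9) (nat_lit 0) (Step.F (nat_lit 3454) (Step.L Step.done)) (Scr.cons (nat_lit 3) (nat_lit 1) (Step.U (nat_lit 2447) (Step.B (nat_lit 3456) (Step.B (nat_lit 3457) Step.done))) (Scr.cons (nat_lit 8) (nat_lit 3) (Step.L (Step.D (nat_lit 1352) (Step.D (nat_lit 2357) Step.done))) (Scr.cons (nat_lit 9) (nat_lit 0) (Step.U (nat_lit 2356) (Step.D (nat_lit 2357) Step.done)) (Scr.cons (nat_lit 22) (nat_lit 4) (Step.B (nat_lit 3460)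 (Step.F (nat_lit 3459) (Step.F (nat_lit 3457) (Step.U (nat_lit 903) (Step.U (nat_lit 229) (Step.L (Step.L (Step.L (Step.L (Step.D (nat_lit 2) (Step.B (nat_lit 561) (Step.D (nat_lit 212) (Step.D (nat_lit 866) (Step.D (nat_lit 1991) Step.done)))))))))))))) (Scr.cons (nat_lit 3) (nat_lit 0) (Step.F (nat_lit 3460) (Step.B (nat_lit 3461) Step.done)) (Scr.cons (nat_lit 3) (nat_lit 1) (Step.F (nat_lit 556) (Step.F (nat_lit 957) (Step.L Step.done))) (Scr.cons (nat_lit 1) (nat_lit 0) (Step.F (nat_lit 561) (Step.B (nat_lit 3463) (Step.L Step.done))) (Scr.cons (nat_lit 2) (nat_lit 0) (Step.U (nat_lit 212) (Step.B (nat_lit 3464) (Step.L Step.done))) (Scr.cons (nat_lit 3) (nat_lit 1) (Step.U (nat_lit 866) (Step.B (nat_lit 3465) (Step.L Step.done))) (Scr.cons (nat_lit 2) (nat_lit 0) (Step.U (nat_lit 1991) (Step.B (nat_lit 3466) (Step.L Step.done))) (Scr.cons (nat_lit 3) (nat_lit 1) (Step.B (nat_lit 3462) (Step.B (nat_lit 3467) (Step.D (nat_lit 1753) Step.done))) (Scr.cons (nat_lit 1)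 (nat_lit 0) (Step.B (nat_lit 3459) (Step.B (nat_lit 3468) Step.done)) (Scr.cons (nat_lit 1) (nat_lit 0) (Step.F (nat_lit 3452) (Step.B (nat_lit 3458) (Step.B (nat_lit 3469) Step.done))) (Scr.cons (nat_lit 3) (nat_lit 1) (Step.B (nat_lit 3441) (Step.B (nat_lit 3451) Step.done)) (Scr.cons (nat_lit 3) (nat_lit 0) (Step.D (nat_lit 1753) (Step.F (nat_lit 3470) (Step.F (nat_lit 3471) Step.done))) (Scr.cons (nat_lit 1) (nat_lit 0) (Step.D (nat_lit 1516) (Step.F (nat_lit 3472) (Step.D (nat_lit 1752) Step.done))) (Scr.cons (nat_lit 1) (nat_lit 0) (Step.D (nat_lit 1752) (Step.F (nat_lit 3473) Step.done)) (Scr.cons (nat_lit 20) (nat_lit 5) (Step.L (Step.L (Step.L (Step.L (Step.D (nat_lit 73) (Step.D (nat_lit 390) (Step.D (nat_lit 1291) (Step.D (nat_lit 2316) Step.done)))))))) (Scr.cons (nat_lit 9) (nat_lit 0) (Step.U (nat_lit 1291) (Step.D (nat_lit 1292) Step.done)) (Scr.cons (nat_lit 20) (nat_lit 8) (Step.U (nat_lit 389) (Step.U (nat_lit 73) (Step.L (Step.L (Step.L (Step.L (Step.L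 (Step.D (nat_lit 227) Step.done)))))))) (Scr.cons (nat_lit 21) (nat_lit 11) (Step.F (nat_lit 3367) (Step.U (nat_lit 1353) (Step.F (nat_lit 3455) (Step.U (nat_lit 903) (Step.U (nat_lit 229) (Step.L (Step.L (Step.D (nat_lit 227) (Step.F (nat_lit 3477) (Step.U (nat_lit 389) (Step.D (nat_lit 390) (Step.D (nat_lit 1292) (Step.D (nat_lit 2317) Step.done))))))))))))) (Scr.cons (nat_lit 3) (nat_lit 1) (Step.F (nat_lit 3367) (Step.B (nat_lit 3382) (Step.L Step.done))) (Scr.cons (nat_lit 1) (nat_lit 0) (Step.F (nat_lit 3478) (Step.B (nat_lit 3479) (Step.L Step.done))) (Scr.cons (nat_lit 2) (nat_lit 0) (Step.D (nat_lit 2317) (Step.B (nat_lit 3480) (Step.L Step.done))) Scr.nil))))))))))))))))))))))))))))))))))))))))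
noncomputable def s87 : Scr := (Scr.cons (nat_lit 3) (nat_lit 0) (Step.B (nat_lit 3476) (Step.B (nat_lit 3481) (Step.L Step.done))) (Scr.cons (nat_lit 2) (nat_lit 0) (Step.U (nat_lit 2316) (Step.B (nat_lit 3482) (Step.L Step.done))) (Scr.cons (nat_lit 3) (nat_lit 1) (Step.B (nat_lit 3475) (Step.B (nat_lit 3483) (Step.D (nat_lit 2467) Step.done))) (Scr.cons (nat_lit 3) (nat_lit 1) (Step.D (nat_lit 2467) (Step.F (nat_lit 3484) Step.done)) (Scr.cons (nat_lit 8) (nat_lit 1) (Step.L (Step.L (Step.D (nat_lit 642) Step.done))) (Scr.cons (nat_lit 11) (nat_lit 3) (Step.U (nat_lit 573) (Step.L (Step.L (Step.L (Step.L (Step.B (nat_lit 3486) (Step.U (nat_lit 642) (Step.D (nat_lit 641) (Step.D (nat_lit 1751) Step.done))))))))) (Scr.cons (nat_lit 0) (nat_lit 0) (Step.D (nat_lit 1751) (Step.F (nat_lit 3487) (Step.F (nat_lit 495) Step.done))) (Scr.cons (nat_lit 2) (nat_lit 0) (Step.D (nat_lit 641) (Step.B (nat_lit 3488) (Step.D (nat_lit 577) Step.done))) (Scr.cons (nat_lit 2) (nat_lit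 0) (Step.D (nat_lit 577) (Step.F (nat_lit 3489) Step.done)) (Scr.cons (nat_lit 9) (nat_lit 0) (Step.U (nat_lit 2452) (Step.D (nat_lit 2453) Step.done)) (Scr.cons (nat_lit 21) (nat_lit 9) (Step.U (nat_lit 2452) (Step.U (nat_lit 1511) (Step.L (Step.L (Step.L (Step.L (Step.L (Step.L (Step.L (Step.L (Step.L (Step.L (Step.L (Step.D (nat_lit 1993) Step.done)))))))))))))) (Scr.cons (nat_lit 3) (nat_lit 0) (Step.F (nat_lit 3491) (Step.B (nat_lit 3492) Step.done)) (Scr.cons (nat_lit 8) (nat_lit 2) (Step.U (nat_lit 868) (Step.L (Step.L Step.done))) (Scr.cons (nat_lit 9) (nat_lit 0) (Step.F (nat_lit 3494) (Step.D (nat_lit 1992) Step.done)) (Scr.cons (nat_lit 8) (nat_lit 1) (Step.F (nat_lit 3495) (Step.D (nat_lit 1993) (Step.F (nat_lit 3493) Step.done))) (Scr.cons (nat_lit 20) (nat_lit 5) (Step.F (nat_lit 3493) (Step.F (nat_lit 3496) (Step.F (nat_lit 3185) (Step.F (nat_lit 3183) (Step.U (nat_lit 1059) (Step.L (Step.B (nat_lit 482) (Step.U (nat_lit 898) (Step.L Step.done))))))))) (Scr.cons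 (nat_lit 1) (nat_lit 0) (Step.D (nat_lit 1993) (Step.B (nat_lit 3497) (Step.D (nat_lit 2019) Step.done))) (Scr.cons (nat_lit 1) (nat_lit 0) (Step.D (nat_lit 2019) (Step.F (nat_lit 3498) Step.done)) (Scr.cons (nat_lit 8) (nat_lit 1) (Step.U (nat_lit 1298) (Step.D (nat_lit 1297) (Step.D (nat_lit 2322) Step.done))) (Scr.cons (nat_lit 11) (nat_lit 1) (Step.F (nat_lit 3500) (Step.U (nat_lit 1298) (Step.L (Step.L (Step.L (Step.D (nat_lit 398) (Step.D (nat_lit 1301) (Step.D (nat_lit 2323) Step.done)))))))) (Scr.cons (nat_lit 3) (nat_lit 1) (Step.U (nat_lit 2322) (Step.F (nat_lit 1555) (Step.L Step.done))) (Scr.cons (nat_lit 2) (nat_lit 0) (Step.F (nat_lit 3501) (Step.B (nat_lit 3502) (Step.D (nat_lit 979) Step.done))) (Scr.cons (nat_lit 3) (nat_lit 1) (Step.D (nat_lit 2323) (Step.B (nat_lit 3503) (Step.D (nat_lit 2085) Step.done))) (Scr.cons (nat_lit 3) (nat_lit 1) (Step.D (nat_lit 2085) (Step.F (nat_lit 3504) Step.done)) (Scr.cons (nat_lit 12) (nat_lit 11) (Step.U (nat_lit 1994)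 (Step.U (nat_lit 871) (Step.L (Step.L (Step.L (Step.L (Step.L (Step.L (Step.L (Step.L (Step.D (nat_lit 398) (Step.D (nat_lit 1302) (Step.D (nat_lit 2324) Step.done))))))))))))) (Scr.cons (nat_lit 2) (nat_lit 0) (Step.F (nat_lit 3506) (Step.F (nat_lit 2095) (Step.U (nat_lit 1348) Step.done))) (Scr.cons (nat_lit 3) (nat_lit 1) (Step.D (nat_lit 2324) (Step.B (nat_lit 3507) (Step.B (nat_lit 2083) Step.done))) (Scr.cons (nat_lit 1) (nat_lit 0) (Step.D (nat_lit 1302) (Step.B (nat_lit 3508) (Step.D (nat_lit 1349) Step.done))) (Scr.cons (nat_lit 1) (nat_lit 0) (Step.D (nat_lit 1349) (Step.F (nat_lit 3509) Step.done)) (Scr.cons (nat_lit 1) (nat_lit 0) (Step.F (nat_lit 3510) (Step.B (nat_lit 3012) (Step.L Step.done))) (Scr.cons (nat_lit 0) (nat_lit 0) (Step.U (nat_lit 1301) (Step.B (nat_lit 3511) (Step.L Step.done))) (Scr.cons (nat_lit 3) (nat_lit 0) (Step.B (nat_lit 3505) (Step.B (nat_lit 3512) (Step.D (nat_lit 2174) Step.done))) (Scr.cons (nat_lit 3) (nat_lit 0) (Step.D (nat_lit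 2174) (Step.F (nat_lit 3513) Step.done)) (Scr.cons (nat_lit 3) (nat_lit 0) (Step.F (nat_lit 260) (Step.F (nat_lit 261) Step.done)) (Scr.cons (nat_lit 20) (nat_lit 5) (Step.L (Step.L (Step.L (Step.L (Step.L (Step.L (Step.D (nat_lit 453) (Step.D (nat_lit 1411) Step.done)))))))) (Scr.cons (nat_lit 18) (nat_lit 0) (Step.F (nat_lit 3516) (Step.F (nat_lit 3515) Step.done)) (Scr.cons (nat_lit 3) (nat_lit 0) (Step.F (nat_lit 3517) (Step.F (nat_lit 1524) (Step.F (nat_lit 1386) Step.done))) (Scr.cons (nat_lit 3) (nat_lit 1) (Step.F (nat_lit 3515) (Step.B (nat_lit 3518) Step.done)) (Scr.cons (nat_lit 8) (nat_lit 3) (Step.L (Step.L (Step.D (nat_lit 2279) Step.done))) (Scr.cons (nat_lit 20) (nat_lit 5) (Step.U (nat_lit 2216) (Step.U (nat_lit 1154) (Step.U (nat_lit 329) (Step.L (Step.L (Step.D (nat_lit 330) (Step.D (nat_lit 1158) (Step.D (nat_lit 2219) Step.done)))))))) Scr.nil))))))))))))))))))))))))))))))))))))))))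
noncomputable def s88 : Scr := (Scr.cons (nat_lit 0) (nat_lit 0) (Step.D (nat_lit 1153) (Step.B (nat_lit 2272) (Step.L Step.done))) (Scr.cons (nat_lit 2) (nat_lit 0) (Step.U (nat_lit 1154) (Step.B (nat_lit 3522) (Step.L Step.done))) (Scr.cons (nat_lit 0) (nat_lit 0) (Step.U (nat_lit 2216) (Step.B (nat_lit 3523) (Step.L Step.done))) (Scr.cons (nat_lit 3) (nat_lit 0) (Step.F (nat_lit 3521) (Step.B (nat_lit 3524) (Step.D (nat_lit 2279) Step.done))) (Scr.cons (nat_lit 1) (nat_lit 0) (Step.B (nat_lit 3520) (Step.F (nat_lit 3525) Step.done)) (Scr.cons (nat_lit 9) (nat_lit 0) (Step.U (nat_lit 1158) (Step.D (nat_lit 1159) Step.done)) (Scr.cons (nat_lit 12) (nat_lit 12) (Step.F (nat_lit 1045) (Step.U (nat_lit 1212) (Step.B (nat_lit 212) (Step.B (nat_lit 217) (Step.U (nat_lit 1176) (Step.U (nat_lit 337) (Step.U (nat_lit 59) (Step.L (Step.L (Step.L (Step.D (nat_lit 330) (Step.D (nat_lit 1159) (Step.D (nat_lit 2220) Step.done))))))))))))) (Scr.cons (nat_lit 3) (nat_lit 1) (Step.F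 (nat_lit 146) (Step.B (nat_lit 1017) (Step.D (nat_lit 351) Step.done))) (Scr.cons (nat_lit 1) (nat_lit 0) (Step.U (nat_lit 1212) (Step.F (nat_lit 3529) (Step.L Step.done))) (Scr.cons (nat_lit 0) (nat_lit 0) (Step.F (nat_lit 1045) (Step.B (nat_lit 3530) (Step.L Step.done))) (Scr.cons (nat_lit 1) (nat_lit 0) (Step.F (nat_lit 3528) (Step.B (nat_lit 3531) (Step.D (nat_lit 1874) Step.done))) (Scr.cons (nat_lit 2) (nat_lit 0) (Step.D (nat_lit 2220) (Step.B (nat_lit 3532) Step.done)) (Scr.cons (nat_lit 8) (nat_lit 3) (Step.U (nat_lit 1451) (Step.D (nat_lit 1448) (Step.D (nat_lit 2423) Step.done))) (Scr.cons (nat_lit 8) (nat_lit 1) (Step.L (Step.D (nat_lit 494) (Step.D (nat_lit 1502) Step.done))) (Scr.cons (nat_lit 11) (nat_lit 1) (Step.F (nat_lit 3535) (Step.L (Step.L (Step.L (Step.L (Step.L (Step.D (nat_lit 1448) (Step.D (nat_lit 2423) Step.done)))))))) (Scr.cons (nat_lit 3) (nat_lit 0) (Step.B (nat_lit 2148) (Step.B (nat_lit 2159) (Step.L Step.done))) (Scr.cons (nat_lit 2)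 (nat_lit 0) (Step.F (nat_lit 3536) (Step.B (nat_lit 3537) (Step.D (nat_lit 1674) Step.done))) (Scr.cons (nat_lit 1) (nat_lit 0) (Step.B (nat_lit 3534) (Step.B (nat_lit 3538) Step.done)) (Scr.cons (nat_lit 18) (nat_lit 0) (Step.L (Step.D (nat_lit 326) Step.done)) (Scr.cons (nat_lit 8) (nat_lit 1) (Step.U (nat_lit 1318) (Step.L (Step.D (nat_lit 2272) Step.done))) (Scr.cons (nat_lit 20) (nat_lit 2) (Step.U (nat_lit 2207) (Step.U (nat_lit 1147) (Step.F (nat_lit 3540) (Step.L (Step.L (Step.D (nat_lit 2272) (Step.F (nat_lit 3541) (Step.D (nat_lit 2337) Step.done)))))))) (Scr.cons (nat_lit 22) (nat_lit 3) (Step.U (nat_lit 2337) (Step.F (nat_lit 380) (Step.U (nat_lit 891) (Step.F (nat_lit 30) (Step.L (Step.L (Step.L (Step.L (Step.L (Step.L (Step.L (Step.L (Step.D (nat_lit 584) (Step.D (nat_lit 1673) Step.done)))))))))))))) (Scr.cons (nat_lit 1) (nat_lit 0) (Step.B (nat_lit 3542) (Step.B (nat_lit 3543) Step.done)) (Scr.cons (nat_lit 12) (nat_lit 6) (Step.U (nat_lit 1157) (Step.D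 (nat_lit 1159) (Step.B (nat_lit 3533) (Step.U (nat_lit 1874) (Step.L (Step.L (Step.L (Step.L (Step.L (Step.L (Step.L (Step.D (nat_lit 584) (Step.D (nat_lit 1673) (Step.F (nat_lit 3544) Step.done)))))))))))))) (Scr.cons (nat_lit 1) (nat_lit 0) (Step.F (nat_lit 3544) (Step.F (nat_lit 3545) (Step.D (nat_lit 2217) Step.done))) (Scr.cons (nat_lit 1) (nat_lit 0) (Step.D (nat_lit 2217) (Step.F (nat_lit 3546) Step.done)) (Scr.cons (nat_lit 9) (nat_lit 0) (Step.U (nat_lit 2206) (Step.D (nat_lit 2207) Step.done)) (Scr.cons (nat_lit 3) (nat_lit 0) (Step.B (nat_lit 3548) (Step.F (nat_lit 3545) (Step.D (nat_lit 2218) Step.done))) (Scr.cons (nat_lit 3) (nat_lit 0) (Step.D (nat_lit 2218) (Step.F (nat_lit 3549) Step.done)) (Scr.cons (nat_lit 8) (nat_lit 3) (Step.U (nat_lit 1159) (Step.D (nat_lit 1157) (Step.D (nat_lit 2218) Step.done))) (Scr.cons (nat_lit 1) (nat_lit 0) (Step.B (nat_lit 3551) (Step.F (nat_lit 3549) Step.done)) (Scr.cons (nat_lit 22) (nat_lit 3) (Step.U (nat_lit 2424)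 (Step.U (nat_lit 1449) (Step.D (nat_lit 1451) (Step.B (nat_lit 3539) (Step.U (nat_lit 1674) (Step.L (Step.D (nat_lit 584) (Step.D (nat_lit 1673) (Step.F (nat_lit 3547) (Step.B (nat_lit 3550) (Step.F (nat_lit 3552) (Step.B (nat_lit 3533) (Step.B (nat_lit 570) Step.done))))))))))))) (Scr.cons (nat_lit 3) (nat_lit 0) (Step.D (nat_lit 2423) (Step.B (nat_lit 3538) Step.done)) (Scr.cons (nat_lit 12) (nat_lit 1) (Step.U (nat_lit 2121) (Step.B (nat_lit 593) (Step.F (nat_lit 3553) (Step.U (nat_lit 2424) (Step.U (nat_lit 1449) (Step.D (nat_lit 1448) (Step.B (nat_lit 3554) (Step.U (nat_lit 1674) (Step.L (Step.L (Step.L (Step.L (Step.L (Step.D (nat_lit 2172) Step.done)))))))))))))) (Scr.cons (nat_lit 1) (nat_lit 0) (Step.D (nat_lit 2172) (Step.F (nat_lit 3555) Step.done)) (Scr.cons (nat_lit 22) (nat_lit 2) (Step.U (nat_lit 2402) (Step.B (nat_lit 3519) (Step.U (nat_lit 1239) (Step.L (Step.B (nat_lit 3526) (Step.U (nat_lit 2219) (Step.B (nat_lit 3527) (Step.B (nat_lit 3533) (Step.B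 (nat_lit 570) (Step.F (nat_lit 593) (Step.D (nat_lit 2121) (Step.F (nat_lit 3556) (Step.D (nat_lit 2173) Step.done))))))))))))) (Scr.cons (nat_lit 22) (nat_lit 5) (Step.L (Step.L (Step.L (Step.L (Step.L (Step.L (Step.L (Step.L (Step.L (Step.L (Step.D (nat_lit 979) (Step.F (nat_lit 3514) (Step.D (nat_lit 2173) (Step.F (nat_lit 3557) Step.done)))))))))))))) (Scr.cons (nat_lit 2) (nat_lit 0) (Step.D (nat_lit 2402) (Step.F (nat_lit 3558) Step.done)) (Scr.cons (nat_lit 9) (nat_lit 0) (Step.U (nat_lit 2120) (Step.D (nat_lit 2121) Step.done)) (Scr.cons (nat_lit 3) (nat_lit 1) (Step.F (nat_lit 3557) (Step.F (nat_lit 3558) Step.done)) Scr.nil))))))))))))))))))))))))))))))))))))))))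
noncomputable def s89 : Scr := (Scr.cons (nat_lit 21) (nat_lit 13) (Step.L (Step.L (Step.L (Step.L (Step.L (Step.L (Step.L (Step.L (Step.L (Step.L (Step.F (nat_lit 3561) (Step.U (nat_lit 2173) (Step.B (nat_lit 3556) (Step.F (nat_lit 3560) Step.done)))))))))))))) (Scr.cons (nat_lit 3) (nat_lit 1) (Step.F (nat_lit 3560) (Step.F (nat_lit 3562) (Step.L Step.done))) (Scr.cons (nat_lit 1) (nat_lit 0) (Step.B (nat_lit 3556) (Step.B (nat_lit 3563) (Step.D (nat_lit 2270) Step.done))) (Scr.cons (nat_lit 1) (nat_lit 0) (Step.D (nat_lit 2270) (Step.F (nat_lit 3564) Step.done)) (Scr.cons (nat_lit 9) (nat_lit 0) (Step.U (nat_lit 2450) (Step.D (nat_lit 2451) Step.done)) (Scr.cons (nat_lit 8) (nat_lit 3) (Step.U (nat_lit 1512) (Step.L (Step.D (nat_lit 2451) Step.done))) (Scr.cons (nat_lit 3) (nat_lit 0) (Step.D (nat_lit 2120) (Step.F (nat_lit 3562) (Step.D (nat_lit 1512) Step.done))) (Scr.cons (nat_lit 1) (nat_lit 0) (Step.F (nat_lit 3567) (Step.F (nat_lit 3568) (Step.B (nat_lit 593)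 Step.done))) (Scr.cons (nat_lit 3) (nat_lit 0) (Step.B (nat_lit 3566) (Step.B (nat_lit 3569) (Step.F (nat_lit 570) Step.done))) (Scr.cons (nat_lit 3) (nat_lit 1) (Step.D (nat_lit 2450) (Step.B (nat_lit 3570) Step.done)) (Scr.cons (nat_lit 9) (nat_lit 0) (Step.U (nat_lit 2187) (Step.D (nat_lit 2188) Step.done)) (Scr.cons (nat_lit 3) (nat_lit 0) (Step.F (nat_lit 3572) (Step.B (nat_lit 456) Step.done)) (Scr.cons (nat_lit 20) (nat_lit 4) (Step.U (nat_lit 1257) (Step.L (Step.L (Step.L (Step.L (Step.L (Step.D (nat_lit 1260) (Step.F (nat_lit 3573) Step.done)))))))) (Scr.cons (nat_lit 8) (nat_lit 3) (Step.L (Step.L (Step.D (nat_lit 1257) Step.done))) (Scr.cons (nat_lit 13) (nat_lit 3) (Step.U (nat_lit 2194) (Step.U (nat_lit 1130) (Step.U (nat_lit 320) (Step.B (nat_lit 1048) (Step.B (nat_lit 1452) (Step.F (nat_lit 452) (Step.L (Step.D (nat_lit 2188) (Step.F (nat_lit 3574) (Step.F (nat_lit 3575) (Step.L (Step.L (Step.D (nat_lit 1258) Step.done))))))))))))) (Scr.cons (nat_lit 2)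 (nat_lit 0) (Step.F (nat_lit 3576) (Step.B (nat_lit 3531) (Step.D (nat_lit 1875) Step.done))) (Scr.cons (nat_lit 2) (nat_lit 0) (Step.D (nat_lit 1875) (Step.F (nat_lit 3577) Step.done)) (Scr.cons (nat_lit 21) (nat_lit 9) (Step.L (Step.L (Step.L (Step.L (Step.L (Step.L (Step.L (Step.L (Step.B (nat_lit 3571) (Step.U (nat_lit 1874) (Step.B (nat_lit 3578) (Step.U (nat_lit 1258) (Step.L (Step.D (nat_lit 2286) Step.done)))))))))))))) (Scr.cons (nat_lit 1) (nat_lit 0) (Step.D (nat_lit 2286) (Step.F (nat_lit 3579) (Step.D (nat_lit 2474) Step.done))) (Scr.cons (nat_lit 1) (nat_lit 0) (Step.D (nat_lit 2474) (Step.F (nat_lit 3580) Step.done)) (Scr.cons (nat_lit 12) (nat_lit 4) (Step.U (nat_lit 2298) (Step.L (Step.L (Step.L (Step.L (Step.L (Step.L (Step.L (Step.L (Step.L (Step.L (Step.L (Step.D (nat_lit 2143) Step.done))))))))))))) (Scr.cons (nat_lit 8) (nat_lit 2) (Step.U (nat_lit 1249) (Step.L (Step.L Step.done))) (Scr.cons (nat_lit 22) (nat_lit 0) (Step.L (Step.L (Step.L (Step.D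 (nat_lit 2143) (Step.F (nat_lit 3582) (Step.U (nat_lit 2298) (Step.F (nat_lit 3583) (Step.U (nat_lit 1249) (Step.L (Step.L (Step.L (Step.D (nat_lit 368) (Step.D (nat_lit 1246) (Step.D (nat_lit 2282) Step.done)))))))))))))) (Scr.cons (nat_lit 3) (nat_lit 1) (Step.D (nat_lit 2282) (Step.F (nat_lit 3584) (Step.L Step.done))) (Scr.cons (nat_lit 1) (nat_lit 0) (Step.D (nat_lit 1246) (Step.B (nat_lit 3585) (Step.L Step.done))) (Scr.cons (nat_lit 3) (nat_lit 0) (Step.D (nat_lit 368) (Step.B (nat_lit 3586) (Step.D (nat_lit 1057) Step.done))) (Scr.cons (nat_lit 3) (nat_lit 0) (Step.D (nat_lit 1057) (Step.F (nat_lit 3587) Step.done)) Scr.nil)))))))))))))))))))))))))))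
noncomputable def E : Ex := (Ex.cons (nat_lit 0) (nat_lit 0) (nat_lit 0) (Ex.cons (nat_lit 1) (nat_lit 0) (nat_lit 1) (Ex.cons (nat_lit 4) (nat_lit 450) (nat_lit 4) (Ex.cons (nat_lit 4) (nat_lit 1546) (nat_lit 11) (Ex.cons (nat_lit 4) (nat_lit 1552) (nat_lit 15) (Ex.cons (nat_lit 4) (nat_lit 1828) (nat_lit 18) (Ex.cons (nat_lit 1) (nat_lit 2107) (nat_lit 23) (Ex.cons (nat_lit 3) (nat_lit 2331) (nat_lit 25) (Ex.cons (nat_lit 1) (nat_lit 1773) (nat_lit 32) (Ex.cons (nat_lit 0) (nat_lit 2552) (nat_lit 34) (Ex.cons (nat_lit 1) (nat_lit 1724) (nat_lit 36) (Ex.cons (nat_lit 2) (nat_lit 2022) (nat_lit 37) (Ex.cons (nat_lit 0) (nat_lit 2792) (nat_lit 38) (Ex.cons (nat_lit 4) (nat_lit 2949) (nat_lit 41) (Ex.cons (nat_lit 3) (nat_lit 3020) (nat_lit 44) (Ex.cons (nat_lit 0) (nat_lit 1575) (nat_lit 46) (Ex.cons (nat_lit 4) (nat_lit 3175) (nat_lit 48) (Ex.cons (nat_lit 3) (nat_lit 3196) (nat_lit 52) (Ex.cons (nat_lit 1) (nat_lit 3233) (nat_lit 54) (Ex.cons (nat_lit 1) (nat_lit 3242)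 (nat_lit 55) (Ex.cons (nat_lit 0) (nat_lit 3228) (nat_lit 58) (Ex.cons (nat_lit 1) (nat_lit 1553) (nat_lit 63) (Ex.cons (nat_lit 2) (nat_lit 1417) (nat_lit 75) (Ex.cons (nat_lit 1) (nat_lit 3341) (nat_lit 79) (Ex.cons (nat_lit 3) (nat_lit 3296) (nat_lit 82) (Ex.cons (nat_lit 0) (nat_lit 1577) (nat_lit 85) (Ex.cons (nat_lit 4) (nat_lit 3366) (nat_lit 87) (Ex.cons (nat_lit 1) (nat_lit 2045) (nat_lit 96) (Ex.cons (nat_lit 1) (nat_lit 3445) (nat_lit 100) (Ex.cons (nat_lit 2) (nat_lit 1878) (nat_lit 102) (Ex.cons (nat_lit 1) (nat_lit 3061) (nat_lit 107) (Ex.cons (nat_lit 3) (nat_lit 684) (nat_lit 112) (Ex.cons (nat_lit 2) (nat_lit 1762) (nat_lit 116) (Ex.cons (nat_lit 4) (nat_lit 3614) (nat_lit 117) (Ex.cons (nat_lit 1) (nat_lit 3719) (nat_lit 118) (Ex.cons (nat_lit 4) (nat_lit 2839) (nat_lit 122) (Ex.cons (nat_lit 2) (nat_lit 2362) (nat_lit 128) (Ex.cons (nat_lit 0) (nat_lit 3423) (nat_lit 138) (Ex.cons (nat_lit 1) (nat_lit 3880) (nat_lit 144) (Ex.cons (nat_lit 4) (nat_lit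 3348) (nat_lit 155) (Ex.cons (nat_lit 1) (nat_lit 2191) (nat_lit 159) (Ex.cons (nat_lit 1) (nat_lit 4020) (nat_lit 163) (Ex.cons (nat_lit 3) (nat_lit 2244) (nat_lit 171) (Ex.cons (nat_lit 4) (nat_lit 4113) (nat_lit 174) (Ex.cons (nat_lit 4) (nat_lit 4219) (nat_lit 176) (Ex.cons (nat_lit 0) (nat_lit 4237) (nat_lit 178) (Ex.cons (nat_lit 0) (nat_lit 3539) (nat_lit 194) (Ex.cons (nat_lit 4) (nat_lit 4170) (nat_lit 198) (Ex.cons (nat_lit 3) (nat_lit 4299) (nat_lit 203) (Ex.cons (nat_lit 1) (nat_lit 2167) (nat_lit 236) (Ex.cons (nat_lit 1) (nat_lit 2367) (nat_lit 241) (Ex.cons (nat_lit 3) (nat_lit 4398) (nat_lit 245) (Ex.cons (nat_lit 2) (nat_lit 3313) (nat_lit 259) (Ex.cons (nat_lit 1) (nat_lit 4243) (nat_lit 262) (Ex.cons (nat_lit 0) (nat_lit 3422) (nat_lit 268) (Ex.cons (nat_lit 1) (nat_lit 3374) (nat_lit 275) (Ex.cons (nat_lit 2) (nat_lit 3256) (nat_lit 285) (Ex.cons (nat_lit 0) (nat_lit 2883) (nat_lit 297) (Ex.cons (nat_lit 2) (nat_lit 3708) (nat_lit 300) (Ex.cons (nat_lit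 1) (nat_lit 3538) (nat_lit 304) (Ex.cons (nat_lit 0) (nat_lit 2234) (nat_lit 314) (Ex.cons (nat_lit 2) (nat_lit 3873) (nat_lit 327) (Ex.cons (nat_lit 0) (nat_lit 3715) (nat_lit 330) (Ex.cons (nat_lit 1) (nat_lit 4355) (nat_lit 345) (Ex.cons (nat_lit 2) (nat_lit 3879) (nat_lit 373) (Ex.cons (nat_lit 2) (nat_lit 3616) (nat_lit 385) (Ex.cons (nat_lit 2) (nat_lit 2772) (nat_lit 397) (Ex.cons (nat_lit 1) (nat_lit 4347) (nat_lit 400) (Ex.cons (nat_lit 1) (nat_lit 4189) (nat_lit 437) (Ex.cons (nat_lit 2) (nat_lit 2973) (nat_lit 466) (Ex.cons (nat_lit 3) (nat_lit 4014) (nat_lit 540) (Ex.cons (nat_lit 2) (nat_lit 681) (nat_lit 612) (Ex.cons (nat_lit 0) (nat_lit 1116) (nat_lit 628) (Ex.cons (nat_lit 0) (nat_lit 541) (nat_lit 701) (Ex.cons (nat_lit 3) (nat_lit 968) (nat_lit 719) (Ex.cons (nat_lit 2) (nat_lit 3331) (nat_lit 734) (Ex.cons (nat_lit 0) (nat_lit 3480) (nat_lit 763) (Ex.cons (nat_lit 0) (nat_lit 2368) (nat_lit 770) (Ex.cons (nat_lit 1) (nat_lit 3491) (nat_lit 806) (Ex.cons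 (nat_lit 4) (nat_lit 1749) (nat_lit 818) (Ex.cons (nat_lit 2) (nat_lit 3572) (nat_lit 902) (Ex.cons (nat_lit 1) (nat_lit 1982) (nat_lit 930) (Ex.cons (nat_lit 3) (nat_lit 1443) (nat_lit 952) (Ex.cons (nat_lit 2) (nat_lit 2708) (nat_lit 963) (Ex.cons (nat_lit 1) (nat_lit 2043) (nat_lit 1001) (Ex.cons (nat_lit 2) (nat_lit 3380) (nat_lit 1022) (Ex.cons (nat_lit 1) (nat_lit 4085) (nat_lit 1034) (Ex.cons (nat_lit 4) (nat_lit 2124) (nat_lit 1092) (Ex.cons (nat_lit 1) (nat_lit 1418) (nat_lit 1115) (Ex.cons (nat_lit 2) (nat_lit 1755) (nat_lit 1137) (Ex.cons (nat_lit 1) (nat_lit 1936) (nat_lit 1165) (Ex.cons (nat_lit 1) (nat_lit 3053) (nat_lit 1174) (Ex.cons (nat_lit 1) (nat_lit 2121) (nat_lit 1228) (Ex.cons (nat_lit 2) (nat_lit 3007) (nat_lit 1255) (Ex.cons (nat_lit 1) (nat_lit 4490) (nat_lit 1284) (Ex.cons (nat_lit 2) (nat_lit 2050) (nat_lit 1320) (Ex.cons (nat_lit 3) (nat_lit 2250) (nat_lit 1347) (Ex.cons (nat_lit 2) (nat_lit 1372) (nat_lit 1378) (Ex.cons (nat_lit 1) (nat_lit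 1807) (nat_lit 1441) (Ex.cons (nat_lit 0) (nat_lit 622) (nat_lit 1471) (Ex.cons (nat_lit 1) (nat_lit 4066) (nat_lit 1484) (Ex.cons (nat_lit 0) (nat_lit 2723) (nat_lit 1517) (Ex.cons (nat_lit 3) (nat_lit 1066) (nat_lit 1528) (Ex.cons (nat_lit 1) (nat_lit 3068) (nat_lit 1541) (Ex.cons (nat_lit 1) (nat_lit 1881) (nat_lit 1556) (Ex.cons (nat_lit 1) (nat_lit 1726) (nat_lit 1561) (Ex.cons (nat_lit 4) (nat_lit 1305) (nat_lit 1594) (Ex.cons (nat_lit 2) (nat_lit 928) (nat_lit 1600) (Ex.cons (nat_lit 0) (nat_lit 1099) (nat_lit 1619) (Ex.cons (nat_lit 1) (nat_lit 1488) (nat_lit 1642) (Ex.cons (nat_lit 2) (nat_lit 1257) (nat_lit 1665) (Ex.cons (nat_lit 2) (nat_lit 1047) (nat_lit 1678) (Ex.cons (nat_lit 1) (nat_lit 2946) (nat_lit 1690) (Ex.cons (nat_lit 0) (nat_lit 881) (nat_lit 1711) (Ex.cons (nat_lit 1) (nat_lit 2665) (nat_lit 1721) (Ex.cons (nat_lit 2) (nat_lit 4223) (nat_lit 1749) (Ex.cons (nat_lit 0) (nat_lit 3366) (nat_lit 1758) (Ex.cons (nat_lit 0) (nat_lit 3544) (nat_lit 1777)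 (Ex.cons (nat_lit 1) (nat_lit 1775) (nat_lit 1789) (Ex.cons (nat_lit 1) (nat_lit 508) (nat_lit 1804) (Ex.cons (nat_lit 0) (nat_lit 1964) (nat_lit 1833) (Ex.cons (nat_lit 0) (nat_lit 1981) (nat_lit 1845) (Ex.cons (nat_lit 0) (nat_lit 3319) (nat_lit 1859) (Ex.cons (nat_lit 3) (nat_lit 2313) (nat_lit 1870) (Ex.cons (nat_lit 1) (nat_lit 1408) (nat_lit 1874) (Ex.cons (nat_lit 1) (nat_lit 3091) (nat_lit 1897) (Ex.cons (nat_lit 0) (nat_lit 2813) (nat_lit 1914) (Ex.cons (nat_lit 1) (nat_lit 4117) (nat_lit 1918) (Ex.cons (nat_lit 1) (nat_lit 2791) (nat_lit 1932) (Ex.cons (nat_lit 1) (nat_lit 3194) (nat_lit 1946) (Ex.cons (nat_lit 0) (nat_lit 1655) (nat_lit 1992) (Ex.cons (nat_lit 2) (nat_lit 2495) (nat_lit 2011) (Ex.cons (nat_lit 2) (nat_lit 1252) (nat_lit 2021) (Ex.cons (nat_lit 3) (nat_lit 2146) (nat_lit 2027) (Ex.cons (nat_lit 0) (nat_lit 2617) (nat_lit 2072) (Ex.cons (nat_lit 1) (nat_lit 2820) (nat_lit 2105) (Ex.cons (nat_lit 2) (nat_lit 2980) (nat_lit 2113) (Ex.cons (nat_lit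 3) (nat_lit 2873) (nat_lit 2170) (Ex.cons (nat_lit 2) (nat_lit 1033) (nat_lit 2184) (Ex.cons (nat_lit 0) (nat_lit 4060) (nat_lit 2204) (Ex.cons (nat_lit 1) (nat_lit 2671) (nat_lit 2237) (Ex.cons (nat_lit 3) (nat_lit 2620) (nat_lit 2265) (Ex.cons (nat_lit 1) (nat_lit 2190) (nat_lit 2289) (Ex.cons (nat_lit 0) (nat_lit 2169) (nat_lit 2303) (Ex.cons (nat_lit 1) (nat_lit 3543) (nat_lit 2323) (Ex.cons (nat_lit 0) (nat_lit 2976) (nat_lit 2332) (Ex.cons (nat_lit 1) (nat_lit 2659) (nat_lit 2348) (Ex.cons (nat_lit 0) (nat_lit 4004) (nat_lit 2359) (Ex.cons (nat_lit 0) (nat_lit 2228) (nat_lit 2379) (Ex.cons (nat_lit 1) (nat_lit 2201) (nat_lit 2431) (Ex.cons (nat_lit 1) (nat_lit 2151) (nat_lit 2488) (Ex.cons (nat_lit 4) (nat_lit 2628) (nat_lit 2508) (Ex.cons (nat_lit 1) (nat_lit 2857) (nat_lit 2535) (Ex.cons (nat_lit 3) (nat_lit 2533) (nat_lit 2629) (Ex.cons (nat_lit 0) (nat_lit 799) (nat_lit 2634) (Ex.cons (nat_lit 0) (nat_lit 2658) (nat_lit 2745) (Ex.cons (nat_lit 4) (nat_lit 1634)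 (nat_lit 2761) (Ex.cons (nat_lit 2) (nat_lit 2853) (nat_lit 2791) (Ex.cons (nat_lit 1) (nat_lit 2198) (nat_lit 2812) (Ex.cons (nat_lit 3) (nat_lit 3536) (nat_lit 2842) (Ex.cons (nat_lit 0) (nat_lit 1564) (nat_lit 2883) (Ex.cons (nat_lit 1) (nat_lit 2749) (nat_lit 2892) (Ex.cons (nat_lit 0) (nat_lit 3139) (nat_lit 2924) (Ex.cons (nat_lit 0) (nat_lit 1370) (nat_lit 2942) (Ex.cons (nat_lit 2) (nat_lit 2504) (nat_lit 2948) (Ex.cons (nat_lit 2) (nat_lit 3901) (nat_lit 2952) (Ex.cons (nat_lit 2) (nat_lit 3579) (nat_lit 2982) (Ex.cons (nat_lit 0) (nat_lit 1826) (nat_lit 2994) (Ex.cons (nat_lit 3) (nat_lit 2088) (nat_lit 3018) (Ex.cons (nat_lit 1) (nat_lit 3256) (nat_lit 3038) (Ex.cons (nat_lit 0) (nat_lit 342) (nat_lit 3105) (Ex.cons (nat_lit 1) (nat_lit 2801) (nat_lit 3139) (Ex.cons (nat_lit 1) (nat_lit 3088) (nat_lit 3146) (Ex.cons (nat_lit 3) (nat_lit 4481) (nat_lit 3161) (Ex.cons (nat_lit 4) (nat_lit 4220) (nat_lit 3203) (Ex.cons (nat_lit 2) (nat_lit 1153) (nat_lit 3235)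 (Ex.cons (nat_lit 4) (nat_lit 1887) (nat_lit 3241) (Ex.cons (nat_lit 2) (nat_lit 1859) (nat_lit 3262) (Ex.cons (nat_lit 3) (nat_lit 2222) (nat_lit 3279) (Ex.cons (nat_lit 3) (nat_lit 2719) (nat_lit 3293) (Ex.cons (nat_lit 2) (nat_lit 2476) (nat_lit 3337) (Ex.cons (nat_lit 2) (nat_lit 1789) (nat_lit 3362) (Ex.cons (nat_lit 1) (nat_lit 4156) (nat_lit 3386) (Ex.cons (nat_lit 0) (nat_lit 2834) (nat_lit 3412) (Ex.cons (nat_lit 2) (nat_lit 1491) (nat_lit 3439) (Ex.cons (nat_lit 1) (nat_lit 2726) (nat_lit 3474) (Ex.cons (nat_lit 3) (nat_lit 4324) (nat_lit 3485) (Ex.cons (nat_lit 2) (nat_lit 1396) (nat_lit 3490) (Ex.cons (nat_lit 1) (nat_lit 3588) (nat_lit 3499) (Ex.cons (nat_lit 2) (nat_lit 4606) (nat_lit 3559) (Ex.cons (nat_lit 1) (nat_lit 3903) (nat_lit 3565) (Ex.cons (nat_lit 1) (nat_lit 4038) (nat_lit 3581) (Ex.cons (nat_lit 4) (nat_lit 899) (nat_lit 3588) Ex.nil)))))))))))))))))))))))))))))))))))))))))))))))))))))))))))))))))))))))))))))))))))))))))))))))))))))))))))))))))))))))))))))))))))))))))))))))))))))))))))))))))))))))))))))))))))))))))))))))))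
noncomputable def nd : Nat := (nat_lit 2533)

end Cfsg.Agent.Lib.J1PBD
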