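import Cfsg.Agent.Lib.J1PRel
import Cfsg.Agent.Lib.CosetWide2
import Cfsg.Agent.Lib.J1PBN0
import Cfsg.Agent.Lib.J1PBR0
import Cfsg.Agent.Lib.J1PBD

set_option autoImplicit false
set_option linter.all false
set_option maxRecDepth 100000

namespace Cfsg.Agent.Lib.J1PBB
open Cfsg.Spor Cfsg.Agent.Lib.BenesPerm Cfsg.Agent.Lib.BenesAct Cfsg.Agent.Lib.BenesWord
open Cfsg.Agent.Lib.BenesPlane Cfsg.Agent.Lib.CosetClosure Cfsg.Agent.Lib.CosetFacts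
open Cfsg.Agent.Lib.CosetMain Cfsg.Agent.Lib.CoxBridge Cfsg.Agent.Lib.CosetGroup Cfsg.Agent.Lib.CosetInst Cfsg.Agent.Lib.CosetInj
open Cfsg.Agent.Lib.BenesPack Cfsg.Agent.Lib.CosetPack Cfsg.Agent.Lib.CosetChain Cfsg.Agent.Lib.CosetWide Cfsg.Agent.Lib.CosetWide2
open Cfsg.Agent.Lib.J1PRel Cfsg.Agent.Lib.J1PBN0 Cfsg.Agent.Lib.J1PBR0 Cfsg.Agent.Lib.J1PBD

/-- the networks -/
noncomputable def nets : List Net := [n0, n1, n2, n3, n4]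

/-- the ranks -/
noncomputable def R : List (List Nat) := (List.cons r0 (List.cons r1 (List.cons r2 (List.cons r3 (List.cons r4 List.nil)))))

/-- inverse letters -/
noncomputable def ivx : ℕ → ℕ := ivOf [0, 1, 2, 4, 3]

/-- words of the further letters -/
def xw : List Wd := [(Wd.inv (Wd.g 3))]

/-- relators -/
def wrels : List Wd := [(Wd.pow (Wd.mul (Wd.g 0) (Wd.g 1)) 19),
  (Wd.pow (Wd.mul (Wd.g 0) (Wd.g 2)) 19),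
  (Wd.pow (Wd.mul (Wd.g 1) (Wd.g 2)) 11),
  (Wd.mul (Wd.g 1) (Wd.inv (Wd.mul (Wd.mul (Wd.g 3) (Wd.g 0)) (Wd.inv (Wd.g 3))))),
  (Wd.pow (Wd.g 3) 3),
  (Wd.pow (Wd.mul (Wd.g 0) (Wd.g 3)) 7),
  (Wd.mul (Wd.mul (Wd.mul (Wd.mul (Wd.mul (Wd.mul (Wd.mul (Wd.mul (Wd.g 0) (Wd.g 2)) (Wd.g 1)) (Wd.g 3)) (Wd.g 2)) (Wd.g 3)) (Wd.g 0)) (Wd.g 2)) (Wd.g 3)),
  (Wd.mul (Wd.mul (Wd.mul (Wd.mul (Wd.mul (Wd.mul (Wd.mul (Wd.mul (Wd.mul (Wd.mul (Wd.mul (Wd.mul (Wd.mul (Wd.g 0) (Wd.g 1)) (Wd.g 2)) (Wd.g 3)) (Wd.g 1)) (Wd.g 2)) (Wd.g 3)) (Wd.g 0)) (Wd.g 1)) (Wd.inv (Wd.g 3))) (Wd.g 2)) (Wd.g 1)) (Wd.inv (Wd.g 3))) (Wd.g 1)),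
  (Wd.mul (Wd.mul (Wd.mul (Wd.mul (Wd.mul (Wd.mul (Wd.mul (Wd.mul (Wd.mul (Wd.mul (Wd.mul (Wd.mul (Wd.mul (Wd.g 1) (Wd.g 2)) (Wd.g 3)) (Wd.g 2)) (Wd.g 3)) (Wd.g 1)) (Wd.inv (Wd.g 3))) (Wd.g 1)) (Wd.g 2)) (Wd.g 3)) (Wd.g 2)) (Wd.g 3)) (Wd.g 1)) (Wd.inv (Wd.g 3)))]

/-- relations of the lanes -/
def eqs0 : List (List ℕ × List ℕ) := [([0, 0], []), ([1, 1], []), ([2, 2], []), ([4, 3], []), ([3, 4], []), ([0, 1, 0, 1, 0, 1, 0, 1, 0, 1, 0, 1, 0, 1, 0, 1, 0, 1, 0], [1, 0, 1, 0, 1, 0, 1, 0, 1, 0, 1, 0, 1, 0, 1, 0, 1, 0, 1]), ([0, 2, 0, 2, 0, 2, 0, 2, 0, 2, 0, 2, 0, 2, 0, 2, 0, 2, 0], [2, 0, 2, 0, 2, 0, 2, 0, 2, 0, 2, 0, 2, 0, 2, 0, 2, 0, 2]), ([1, 2, 1, 2, 1, 2, 1, 2, 1, 2, 1], [2, 1, 2, 1, 2, 1, 2, 1, 2, 1, 2]), ([1, 3], [3, 0]), ([3, 3], [4]), ([0, 3, 0, 3, 0, 3, 0], [4, 0, 4, 0, 4, 0, 4]), ([0, 2, 1, 3, 2], [4, 2, 0, 4]), ([0, 1,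 2, 3, 1, 2, 3], [1, 3, 1, 2, 3, 1, 0]), ([1, 2, 3, 2, 3, 1, 4], [3, 1, 4, 2, 4, 2, 1])]

/-- all relations of the lanes -/
def eqs : List (List ℕ × List ℕ) := eqs0

/-- words for the subgroup -/
def WS : List Wd := [(Wd.g 0), (Wd.g 1)]

/-- all scripts -/
noncomputable def scr : Scr := (appS s0 (appS s1 (appS s2 (appS s3 (appS s4 (appS s5 (appS s6 (appS s7 (appS s8 (appS s9 (appS s10 (appS s11 (appS s12 (appS s13 (appS s14 (appS s15 (appS s16 (appS s17 (appS s18 (appS s19 (appS s20 (appS s21 (appS s22 (appS s23 (appS s24 (appS s25 (appS s26 (appS s27 (appS s28 (appS s29 (appS s30 (appS s31 (appS s32 (appS s33 (appS s34 (appS s35 (appS s36 (appS s37 (appS s38 (appS s39 (appS s40 (appS s41 (appS s42 (appS s43 (appS s44 (appS s45 (appS s46 (appS s47 (appS s48 (appS s49 (appS s50 (appS s51 (appS s52 (appS s53 (appS s54 (appS s55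 (appS s56 (appS s57 (appS s58 (appS s59 (appS s60 (appS s61 (appS s62 (appS s63 (appS s64 (appS s65 (appS s66 (appS s67 (appS s68 (appS s69 (appS s70 (appS s71 (appS s72 (appS s73 (appS s74 (appS s75 (appS s76 (appS s77 (appS s78 (appS s79 (appS s80 (appS s81 (appS s82 (appS s83 (appS s84 (appS s85 (appS s86 (appS s87 (appS s88 s89)))))))))))))))))))))))))))))))))))))))))))))))))))))))))))))))))))))))))))))))))))))))))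

/-- trivial relators -/
def wtriv : List Wd := [Wd.mul (Wd.g 0) (Wd.g 0), Wd.mul (Wd.g 1) (Wd.g 1), Wd.mul (Wd.g 2) (Wd.g 2), Wd.mul (Wd.g 3) (Wd.g 4), Wd.mul (Wd.g 4) (Wd.g 3)]

/-- patterns -/
def pats : List Wd := wtriv ++ (rels ++ rels.map Wd.inv)

/-- patterns as lists of letters -/
noncomputable def patL : List (List ℕ) := pats.map (fun W => (W.flat ivx).reverse)

theorem c_wok : wOK 4 xw rels wrels = true := by decide +kernel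
theorem c_wback : wBack 4 xw rels wrels = true := by decide +kernel
theorem c_inv_sub : ∀ q ∈ invPairs ivx 5, q ∈ eqs := by decide +kernel
theorem c_rel_sub : ∀ q ∈ wrels.map (halfW ivx), q ∈ eqs := by decide +kernel

end Cfsg.Agent.Lib.J1PBB
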