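import Cfsg.Agent.Lib.J1PBB

set_option autoImplicit false
set_option linter.all false
set_option maxRecDepth 100000
set_option Elab.async false

namespace Cfsg.Agent.Lib.J1PBF0
open Cfsg.Spor Cfsg.Agent.Lib.BenesPerm Cfsg.Agent.Lib.BenesAct Cfsg.Agent.Lib.BenesWord
open Cfsg.Agent.Lib.BenesPlane Cfsg.Agent.Lib.CosetClosure Cfsg.Agent.Lib.CosetFacts
open Cfsg.Agent.Lib.CosetMain Cfsg.Agent.Lib.CoxBridge Cfsg.Agent.Lib.CosetGroup Cfsg.Agent.Lib.CosetInst Cfsg.Agent.Lib.CosetInj
open Cfsg.Agent.Lib.BenesPack Cfsg.Agent.Lib.CosetPack Cfsg.Agent.Lib.CosetChain Cfsg.Agent.Lib.CosetWide Cfsg.Agent.Lib.CosetWide2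
open Cfsg.Agent.Lib.J1PRel Cfsg.Agent.Lib.J1PBN0 Cfsg.Agent.Lib.J1PBR0 Cfsg.Agent.Lib.J1PBD Cfsg.Agent.Lib.J1PBB

theorem fact0 : factsK nets ivx R 5 4620 (2 ^ 13) nd T DT patL 2 s0 = true := by decide +kernel
theorem fact1 : factsK nets ivx R 5 4620 (2 ^ 13) nd T DT patL 42 s1 = true := by decide +kernel
theorem fact2 : factsK nets ivx R 5 4620 (2 ^ 13) nd T DT patL 82 s2 = true := by decide +kernel
theorem fact3 : factsK nets ivx R 5 4620 (2 ^ 13) nd T DT patL 122 s3 = true := by decide +kernel
theorem fact4 : factsK nets ivx R 5 4620 (2 ^ 13) nd T DT patL 162 s4 = true := by decide +kernel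
theorem fact5 : factsK nets ivx R 5 4620 (2 ^ 13) nd T DT patL 202 s5 = true := by decide +kernel
theorem fact6 : factsK nets ivx R 5 4620 (2 ^ 13) nd T DT patL 242 s6 = true := by decide +kernel
theorem fact7 : factsK nets ivx R 5 4620 (2 ^ 13) nd T DT patL 282 s7 = true := by decide +kernel
theorem fact8 : factsK nets ivx R 5 4620 (2 ^ 13) nd T DT patL 322 s8 = true := by decide +kernel
theorem fact9 : factsK nets ivx R 5 4620 (2 ^ 13) nd T DT patL 362 s9 = true := by decide +kernel
theorem fact10 : factsK nets ivx R 5 4620 (2 ^ 13) nd T DT patL 402 s10 = true := by decide +kernel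
theorem fact11 : factsK nets ivx R 5 4620 (2 ^ 13) nd T DT patL 442 s11 = true := by decide +kernel
theorem fact12 : factsK nets ivx R 5 4620 (2 ^ 13) nd T DT patL 482 s12 = true := by decide +kernel
theorem fact13 : factsK nets ivx R 5 4620 (2 ^ 13) nd T DT patL 522 s13 = true := by decide +kernel
theorem fact14 : factsK nets ivx R 5 4620 (2 ^ 13) nd T DT patL 562 s14 = true := by decide +kernel
theorem fact15 : factsK nets ivx R 5 4620 (2 ^ 13) nd T DT patL 602 s15 = true := by decide +kernel
theorem fact16 : factsK nets ivx R 5 4620 (2 ^ 13) nd T DT patL 642 s16 = true := by decide +kernel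
theorem fact17 : factsK nets ivx R 5 4620 (2 ^ 13) nd T DT patL 682 s17 = true := by decide +kernel
theorem fact18 : factsK nets ivx R 5 4620 (2 ^ 13) nd T DT patL 722 s18 = true := by decide +kernel
theorem fact19 : factsK nets ivx R 5 4620 (2 ^ 13) nd T DT patL 762 s19 = true := by decide +kernel
theorem fact20 : factsK nets ivx R 5 4620 (2 ^ 13) nd T DT patL 802 s20 = true := by decide +kernel
theorem fact21 : factsK nets ivx R 5 4620 (2 ^ 13) nd T DT patL 842 s21 = true := by decide +kernel
theorem fact22 : factsK nets ivx R 5 4620 (2 ^ 13) nd T DT patL 882 s22 = true := by decide +kernel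
theorem fact23 : factsK nets ivx R 5 4620 (2 ^ 13) nd T DT patL 922 s23 = true := by decide +kernel
theorem fact24 : factsK nets ivx R 5 4620 (2 ^ 13) nd T DT patL 962 s24 = true := by decide +kernel
theorem fact25 : factsK nets ivx R 5 4620 (2 ^ 13) nd T DT patL 1002 s25 = true := by decide +kernel
theorem fact26 : factsK nets ivx R 5 4620 (2 ^ 13) nd T DT patL 1042 s26 = true := by decide +kernel
theorem fact27 : factsK nets ivx R 5 4620 (2 ^ 13) nd T DT patL 1082 s27 = true := by decide +kernel
theorem fact28 : factsK nets ivx R 5 4620 (2 ^ 13) nd T DT patL 1122 s28 = true := by decide +kernel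
theorem fact29 : factsK nets ivx R 5 4620 (2 ^ 13) nd T DT patL 1162 s29 = true := by decide +kernel
theorem fact30 : factsK nets ivx R 5 4620 (2 ^ 13) nd T DT patL 1202 s30 = true := by decide +kernel
theorem fact31 : factsK nets ivx R 5 4620 (2 ^ 13) nd T DT patL 1242 s31 = true := by decide +kernel
theorem fact32 : factsK nets ivx R 5 4620 (2 ^ 13) nd T DT patL 1282 s32 = true := by decide +kernel
theorem fact33 : factsK nets ivx R 5 4620 (2 ^ 13) nd T DT patL 1322 s33 = true := by decide +kernel
theorem fact34 : factsK nets ivx R 5 4620 (2 ^ 13) nd T DT patL 1362 s34 = true := by decide +kernel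
theorem fact35 : factsK nets ivx R 5 4620 (2 ^ 13) nd T DT patL 1402 s35 = true := by decide +kernel
theorem fact36 : factsK nets ivx R 5 4620 (2 ^ 13) nd T DT patL 1442 s36 = true := by decide +kernel
theorem fact37 : factsK nets ivx R 5 4620 (2 ^ 13) nd T DT patL 1482 s37 = true := by decide +kernel
theorem fact38 : factsK nets ivx R 5 4620 (2 ^ 13) nd T DT patL 1522 s38 = true := by decide +kernel
theorem fact39 : factsK nets ivx R 5 4620 (2 ^ 13) nd T DT patL 1562 s39 = true := by decide +kernel
theorem fact40 : factsK nets ivx R 5 4620 (2 ^ 13) nd T DT patL 1602 s40 = true := by decide +kernel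
theorem fact41 : factsK nets ivx R 5 4620 (2 ^ 13) nd T DT patL 1642 s41 = true := by decide +kernel
theorem fact42 : factsK nets ivx R 5 4620 (2 ^ 13) nd T DT patL 1682 s42 = true := by decide +kernel
theorem fact43 : factsK nets ivx R 5 4620 (2 ^ 13) nd T DT patL 1722 s43 = true := by decide +kernel
theorem fact44 : factsK nets ivx R 5 4620 (2 ^ 13) nd T DT patL 1762 s44 = true := by decide +kernel
theorem fact45 : factsK nets ivx R 5 4620 (2 ^ 13) nd T DT patL 1802 s45 = true := by decide +kernel
theorem fact46 : factsK nets ivx R 5 4620 (2 ^ 13) nd T DT patL 1842 s46 = true := by decide +kernel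
theorem fact47 : factsK nets ivx R 5 4620 (2 ^ 13) nd T DT patL 1882 s47 = true := by decide +kernel
theorem fact48 : factsK nets ivx R 5 4620 (2 ^ 13) nd T DT patL 1922 s48 = true := by decide +kernel
theorem fact49 : factsK nets ivx R 5 4620 (2 ^ 13) nd T DT patL 1962 s49 = true := by decide +kernel
theorem fact50 : factsK nets ivx R 5 4620 (2 ^ 13) nd T DT patL 2002 s50 = true := by decide +kernel
theorem fact51 : factsK nets ivx R 5 4620 (2 ^ 13) nd T DT patL 2042 s51 = true := by decide +kernel
theorem fact52 : factsK nets ivx R 5 4620 (2 ^ 13) nd T DT patL 2082 s52 = true := by decide +kernel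
theorem fact53 : factsK nets ivx R 5 4620 (2 ^ 13) nd T DT patL 2122 s53 = true := by decide +kernel
theorem fact54 : factsK nets ivx R 5 4620 (2 ^ 13) nd T DT patL 2162 s54 = true := by decide +kernel
theorem fact55 : factsK nets ivx R 5 4620 (2 ^ 13) nd T DT patL 2202 s55 = true := by decide +kernel
theorem fact56 : factsK nets ivx R 5 4620 (2 ^ 13) nd T DT patL 2242 s56 = true := by decide +kernel
theorem fact57 : factsK nets ivx R 5 4620 (2 ^ 13) nd T DT patL 2282 s57 = true := by decide +kernel
theorem fact58 : factsK nets ivx R 5 4620 (2 ^ 13) nd T DT patL 2322 s58 = true := by decide +kernel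
theorem fact59 : factsK nets ivx R 5 4620 (2 ^ 13) nd T DT patL 2362 s59 = true := by decide +kernel

end Cfsg.Agent.Lib.J1PBF0
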