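import Cfsg.Agent.Lib.J1PBB

set_option autoImplicit false
set_option linter.all false
set_option maxRecDepth 100000
set_option Elab.async false

namespace Cfsg.Agent.Lib.J1PBF1
open Cfsg.Spor Cfsg.Agent.Lib.BenesPerm Cfsg.Agent.Lib.BenesAct Cfsg.Agent.Lib.BenesWord
open Cfsg.Agent.Lib.BenesPlane Cfsg.Agent.Lib.CosetClosure Cfsg.Agent.Lib.CosetFacts
open Cfsg.Agent.Lib.CosetMain Cfsg.Agent.Lib.CoxBridge Cfsg.Agent.Lib.CosetGroup Cfsg.Agent.Lib.CosetInst Cfsg.Agent.Lib.CosetInj
open Cfsg.Agent.Lib.BenesPack Cfsg.Agent.Lib.CosetPack Cfsg.Agent.Lib.CosetChain Cfsg.Agent.Lib.CosetWide Cfsg.Agent.Lib.CosetWide2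
open Cfsg.Agent.Lib.J1PRel Cfsg.Agent.Lib.J1PBN0 Cfsg.Agent.Lib.J1PBR0 Cfsg.Agent.Lib.J1PBD Cfsg.Agent.Lib.J1PBB

theorem fact60 : factsK nets ivx R 5 4620 (2 ^ 13) nd T DT patL 2402 s60 = true := by decide +kernel
theorem fact61 : factsK nets ivx R 5 4620 (2 ^ 13) nd T DT patL 2442 s61 = true := by decide +kernel
theorem fact62 : factsK nets ivx R 5 4620 (2 ^ 13) nd T DT patL 2482 s62 = true := by decide +kernel
theorem fact63 : factsK nets ivx R 5 4620 (2 ^ 13) nd T DT patL 2522 s63 = true := by decide +kernel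
theorem fact64 : factsK nets ivx R 5 4620 (2 ^ 13) nd T DT patL 2562 s64 = true := by decide +kernel
theorem fact65 : factsK nets ivx R 5 4620 (2 ^ 13) nd T DT patL 2602 s65 = true := by decide +kernel
theorem fact66 : factsK nets ivx R 5 4620 (2 ^ 13) nd T DT patL 2642 s66 = true := by decide +kernel
theorem fact67 : factsK nets ivx R 5 4620 (2 ^ 13) nd T DT patL 2682 s67 = true := by decide +kernel
theorem fact68 : factsK nets ivx R 5 4620 (2 ^ 13) nd T DT patL 2722 s68 = true := by decide +kernel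
theorem fact69 : factsK nets ivx R 5 4620 (2 ^ 13) nd T DT patL 2762 s69 = true := by decide +kernel
theorem fact70 : factsK nets ivx R 5 4620 (2 ^ 13) nd T DT patL 2802 s70 = true := by decide +kernel
theorem fact71 : factsK nets ivx R 5 4620 (2 ^ 13) nd T DT patL 2842 s71 = true := by decide +kernel
theorem fact72 : factsK nets ivx R 5 4620 (2 ^ 13) nd T DT patL 2882 s72 = true := by decide +kernel
theorem fact73 : factsK nets ivx R 5 4620 (2 ^ 13) nd T DT patL 2922 s73 = true := by decide +kernel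
theorem fact74 : factsK nets ivx R 5 4620 (2 ^ 13) nd T DT patL 2962 s74 = true := by decide +kernel
theorem fact75 : factsK nets ivx R 5 4620 (2 ^ 13) nd T DT patL 3002 s75 = true := by decide +kernel
theorem fact76 : factsK nets ivx R 5 4620 (2 ^ 13) nd T DT patL 3042 s76 = true := by decide +kernel
theorem fact77 : factsK nets ivx R 5 4620 (2 ^ 13) nd T DT patL 3082 s77 = true := by decide +kernel
theorem fact78 : factsK nets ivx R 5 4620 (2 ^ 13) nd T DT patL 3122 s78 = true := by decide +kernel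
theorem fact79 : factsK nets ivx R 5 4620 (2 ^ 13) nd T DT patL 3162 s79 = true := by decide +kernel
theorem fact80 : factsK nets ivx R 5 4620 (2 ^ 13) nd T DT patL 3202 s80 = true := by decide +kernel
theorem fact81 : factsK nets ivx R 5 4620 (2 ^ 13) nd T DT patL 3242 s81 = true := by decide +kernel
theorem fact82 : factsK nets ivx R 5 4620 (2 ^ 13) nd T DT patL 3282 s82 = true := by decide +kernel
theorem fact83 : factsK nets ivx R 5 4620 (2 ^ 13) nd T DT patL 3322 s83 = true := by decide +kernel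
theorem fact84 : factsK nets ivx R 5 4620 (2 ^ 13) nd T DT patL 3362 s84 = true := by decide +kernel
theorem fact85 : factsK nets ivx R 5 4620 (2 ^ 13) nd T DT patL 3402 s85 = true := by decide +kernel
theorem fact86 : factsK nets ivx R 5 4620 (2 ^ 13) nd T DT patL 3442 s86 = true := by decide +kernel
theorem fact87 : factsK nets ivx R 5 4620 (2 ^ 13) nd T DT patL 3482 s87 = true := by decide +kernel
theorem fact88 : factsK nets ivx R 5 4620 (2 ^ 13) nd T DT patL 3522 s88 = true := by decide +kernel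
theorem fact89 : factsK nets ivx R 5 4620 (2 ^ 13) nd T DT patL 3562 s89 = true := by decide +kernel

end Cfsg.Agent.Lib.J1PBF1
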