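import Cfsg.Agent.Lib.H10Enum

set_option autoImplicit false
set_option maxRecDepth 100000
set_option linter.style.longLine false

/-! Certificate data (coset enumeration). -/

namespace Cfsg.Agent.Lib.J2Enum0

open Cfsg.Agent.Lib.H10Enum

/-- the facts -/
def T : ℕ := 0x40020050e00800a040070090200b00a0200700b0400b0080200a0090200500702009005020080060200200204004003020000000e00b0060400a0060e009004030080040e007003020060030e00500103004001020030010e00200004001000

/-- the relators -/
def R : List (List ℕ) := [[2, 2, 2, 2, 2], [2, 4, 2, 4, 2, 4], [2, 2, 4, 3, 3, 4, 2, 2, 4, 14], [14, 2, 14, 2]]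

/-- rules -/
def rs0 : List Rule := [
  ⟨0, 0, 1, 1, [0x1000080007000d000e, 0x290023002100250014]⟩,
  ⟨1, 1, 1, 1, [0x80002001900030007000c]⟩,
  ⟨2, 1, 1, 1, [0x10000800020018001800030007000d00150016]⟩,
  ⟨2, 2, 1, 1, [0x16001f0010001a00060009001a000d001f0012, 0x4001900190003000900110027002900230017]⟩,
  ⟨2, 8, 1, 1, [0x28002a0014001f0010001a000f002300210015]⟩,
  ⟨2, 9, 1, 1, [0x14000c00060002001900190003000b00210011]⟩,
  ⟨3, 1, 1, 1, [0x400190005000d, 0x120008000b000f, 0xa0007000f0010, 0xe000d00170013]⟩]

/-- all rules -/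
def rs : List Rule := rs0

theorem ok : check T 132 11 11 24 [1] [11] R rs = true := by decide +kernel

/-- closure table -/
def E1 : ℕ := 0x140011000f000e00130005001000070002000d0003000b

theorem cl1 : chkC T 132 12 24 E1 1 12 = true := by decide +kernel

/-- closure table -/
def E2 : ℕ := 0x12000900150012001500090017000c000c001700000000

theorem cl2 : chkC T 132 12 24 E2 2 12 = true := by decide +kernel

/-- closure table -/
def E7 : ℕ := 0xa0016000800160006000a000400080006000100040001

theorem cl7 : chkC T 132 12 24 E7 7 12 = true := by decide +kernel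

end Cfsg.Agent.Lib.J2Enum0
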