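import Cfsg.Agent.Lib.H10Enum

set_option autoImplicit false
set_option maxRecDepth 100000
set_option linter.style.longLine false

/-! Certificate data (coset enumeration). -/

namespace Cfsg.Agent.Lib.J2Enum1

open Cfsg.Agent.Lib.H10Enum

/-- the facts -/
def T : ℕ := 0x4001001040040020e0050040e0020030c004004020050040c0050050c003002040030050e0000000400000002000000030050030200400203003001020020010c001000

/-- the relators -/
def R : List (List ℕ) := [[2, 2, 2, 2, 2], [2, 4, 2, 4, 2, 4], [2, 2, 4, 3, 3, 4, 2, 2, 4, 14], [14, 2, 14, 2], [4, 12, 4, 12, 4, 12, 4, 12], [4, 2, 12, 3, 3, 4, 2, 12, 3, 3], [2, 12, 2, 12, 2, 12], [2, 2, 12, 3, 3, 12, 2, 2, 12, 14]]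

/-- rules -/
def rs0 : List Rule := [
  ⟨0, 0, 1, 1, [0xa000600050009000b]⟩,
  ⟨2, 1, 1, 1, [0xd000d000f000c000c000f000d000d000f0007]⟩,
  ⟨2, 5, 1, 1, [0x19000a0012001e0019000a001200180008000f]⟩,
  ⟨3, 0, 1, 1, [0xa001d0009000e]⟩,
  ⟨5, 0, 1, 1, [0x60002000c000c000f000d00030007000b0008, 0x50015000b001800200009001b000800040010]⟩,
  ⟨6, 1, 1, 1, [0x60002000d000300050009, 0x190016000a00140009000c]⟩,
  ⟨7, 1, 1, 1, [0x900190017001800080015000600050015000d]⟩,
  ⟨7, 5, 1, 1, [0xa000600020010000d000d00030007000b000a]⟩]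

/-- all rules -/
def rs : List Rule := rs0

theorem ok : check T 196 11 5 17 [1, 2] [5, 6] R rs = true := by decide +kernel

/-- closure table -/
def E1 : ℕ := 0xb00030004000100020005

theorem cl1 : chkC T 196 6 17 E1 1 6 = true := by decide +kernel

/-- closure table -/
def E2 : ℕ := 0x8000f0008000f00100006

theorem cl2 : chkC T 196 6 17 E2 2 6 = true := by decide +kernel

/-- closure table -/
def E6 : ℕ := 0xa000c0009000900000000

theorem cl6 : chkC T 196 6 17 E6 6 6 = true := by decide +kernel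

end Cfsg.Agent.Lib.J2Enum1
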