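import Cfsg.Agent.Lib.J2Enum0
import Cfsg.Agent.Lib.J2Enum1
import Cfsg.Agent.Lib.J2Enum2
import Cfsg.Agent.Lib.J2Enum3

set_option autoImplicit false
set_option linter.all false

/-! A presentation of the Hall-Janko group by coset enumeration. -/

namespace Cfsg.Agent.Lib.J2Pres

open Cfsg.Agent.Lib.H10Enum

/-- the index bound from a coset enumeration certificate -/
theorem enum_index {Γ : Type*} [Group Γ] {g : ℕ → Γ} {T iv fuel m N n : ℕ} {sub S : List ℕ} {R : List (List ℕ)}
    {rs : List Rule} (letters : List ℕ) (E : ℕ → ℕ) (hg0 : g 0 = 1) (hiv : ∀ c, iv.testBit c = true → (g c)⁻¹ = g c)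
    (hR : ∀ w ∈ R, wval g w = 1) (B : Subgroup Γ) (hsub : ∀ c ∈ sub, g c ∈ B)
    (h : check T iv fuel m N sub S R rs = true) (hn : 0 < n)
    (hgen : Subgroup.closure {a | ∃ c ∈ letters, a = g c} = ⊤)
    (hcl : ∀ c ∈ letters, chkC T iv n N (E c) c n = true) : Finite (Γ ⧸ B) ∧ Nat.card (Γ ⧸ B) ≤ n := by
  have hp : ∀ c ∈ sub, g c • ((1 : Γ) : Γ ⧸ B) = ((1 : Γ) : Γ ⧸ B) := by
    intro c hc
    rw [MulAction.Quotient.smul_coe, smul_eq_mul, mul_one, QuotientGroup.eq]
    simpa using B.inv_mem (hsub c hc)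
  have hgood := sound (x := g) (p := ((1 : Γ) : Γ ⧸ B)) hg0 hiv hR hp h
  refine card_le_of_closed (f := pts T g ((1 : Γ) : Γ ⧸ B)) hn _ hgen ?_
  rintro a ⟨c, hc, rfl⟩ j hj
  exact chkC_sound hiv hgood n (hcl c hc) j hj

theorem card_le_mul {Γ : Type*} [Group Γ] (B : Subgroup Γ) [hB : Finite B] {n b : ℕ} (h : Finite (Γ ⧸ B) ∧ Nat.card (Γ ⧸ B) ≤ n)
    (hb : Nat.card B ≤ b) : Finite Γ ∧ Nat.card Γ ≤ n * b := by
  haveI := h.1
  have hf : Finite Γ := by
    exact Finite.of_equiv _ (Subgroup.groupEquivQuotientProdSubgroup (s := B)).symm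
  refine ⟨hf, ?_⟩
  rw [Subgroup.card_eq_card_quotient_mul_card_subgroup B]
  exact Nat.mul_le_mul h.2 hb

section defs
variable {G : Type*} [Group G]

/-- the involution inverting `x` -/
def Yv (x k : G) : G := x * x * k * x⁻¹ * x⁻¹ * k * x * x * k

/-- relations of `A5` -/
structure RelK (x k : G) : Prop where
  x5 : x * x * x * x * x = 1
  k2 : k * k = 1
  xk : x * k * x * k * x * k = 1
  y2 : Yv x k * Yv x k = 1
  yx : Yv x k * x * Yv x k * x = 1

/-- relations of the normalizer of a `3A`-subgroup -/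
structure RelB (x k w s : G) : Prop extends RelK x k where
  w3 : w * w * w = 1
  wx : w * x = x * w
  wk : w * k = k * w
  s2 : s * s = 1
  sx : s * x = x * s
  sy : s * Yv x k = Yv x k * s
  ws : w * s * w * s = 1
  kq : k * (s * k * s) * k * (s * k * s) * k * (s * k * s) * k * (s * k * s) = 1
  e : k * x * (s * k * s) * x⁻¹ * x⁻¹ * k * x * (s * k * s) * x⁻¹ * x⁻¹ = w

/-- relations of the Hall-Janko group -/
structure Rels (x k w s t : G) : Prop extends RelB x k w s where
  t2 : t * t = 1
  wt : w * t * w * t * w * t = 1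
  ts : t * s * t * s * t * s = 1
  tx : t * x = x * t
  tk : t * k = k * t

/-- the letters -/
def gl (x k w s t : G) : ℕ → G
  | 1 => x
  | 2 => k
  | 3 => w
  | 4 => s
  | 5 => t
  | 6 => s * k * s
  | 7 => Yv x k
  | _ => 1

theorem tb_lt {n c : ℕ} (hn : n < 256) (h : n.testBit c = true) : c < 8 := by
  by_contra hc8
  rw [Nat.testBit_lt_two_pow (x := n) (i := c)] at h
  · simp at h
  · exact lt_of_lt_of_le (by norm_num; exact hn : n < 2 ^ 8) (Nat.pow_le_pow_right (by norm_num) (by omega))

theorem inv_of_sq {a : G} (h : a * a = 1) : a⁻¹ = a := inv_eq_of_mul_eq_one_left h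

theorem comm_Yv {x k c : G} (hx : c * x = x * c) (hk : c * k = k * c) : c * Yv x k = Yv x k * c := by
  have h1 : Commute c x := hx
  have h2 : Commute c k := hk
  have h3 : Commute c (Yv x k) := by
    unfold Yv
    exact (((((((h1.mul_right h1).mul_right h2).mul_right h1.inv_right).mul_right h1.inv_right).mul_right h2).mul_right
      h1).mul_right h1).mul_right h2
  exact h3

namespace RelK
variable {x k : G}

theorem hR (h : RelK x k) (w s t : G) : ∀ v ∈ J2Enum0.R, wval (gl x k w s t) v = 1 := by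
  unfold J2Enum0.R
  simp only [List.forall_mem_cons, List.not_mem_nil, false_implies, implies_true, and_true]
  refine ⟨?_, ?_, ?_, ?_⟩
  · simpa [wval, val, gl, mul_assoc] using h.x5
  · simpa [wval, val, gl, mul_assoc] using h.xk
  · have := h.y2
    nth_rewrite 1 [Yv] at this
    simpa [wval, val, gl, mul_assoc] using this
  · simpa [wval, val, gl, mul_assoc] using h.yx

theorem hiv (h : RelK x k) (w s t : G) : ∀ c, (132 : ℕ).testBit c = true → (gl x k w s t c)⁻¹ = gl x k w s t c := by
  intro c hc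
  have hlt := tb_lt (n := 132) (by norm_num) hc
  interval_cases c <;> first | (exfalso; revert hc; decide) | skip
  · exact inv_of_sq h.k2
  · exact inv_of_sq h.y2

theorem map {H : Type*} [Group H] (f : G →* H) (h : RelK x k) : RelK (f x) (f k) where
  x5 := by simpa using congrArg f h.x5
  k2 := by simpa using congrArg f h.k2
  xk := by simpa using congrArg f h.xk
  y2 := by simpa [Yv] using congrArg f h.y2
  yx := by simpa [Yv] using congrArg f h.yx

end RelK

theorem Yv_conj (g x k : G) : g * Yv x k * g⁻¹ = Yv (g * x * g⁻¹) (g * k * g⁻¹) := by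
  unfold Yv
  group

theorem of_comm {a b : G} (h : a * b = b * a) : a * b * a⁻¹ * b⁻¹ = 1 := by
  rw [h]; group

namespace RelB
variable {x k w s : G}

theorem si (h : RelB x k w s) : s⁻¹ = s := inv_of_sq h.s2
theorem ki (h : RelB x k w s) : k⁻¹ = k := inv_of_sq h.k2

theorem q2 (h : RelB x k w s) : (s * k * s) * (s * k * s) = 1 := by
  have : (s * k * s) * (s * k * s) = s * k * (s * s) * k * s := by group
  rw [this, h.s2, mul_one, mul_assoc s k k, h.k2, mul_one, h.s2]

theorem q_conj (h : RelB x k w s) : s * k * s = s * k * s⁻¹ := by rw [h.si]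
theorem x_conj (h : RelB x k w s) : s * x * s⁻¹ = x := mul_inv_eq_iff_eq_mul.2 h.sx

theorem xq (h : RelB x k w s) : x * (s * k * s) * x * (s * k * s) * x * (s * k * s) = 1 := by
  have h1 := congrArg (fun g => s * g * s⁻¹) h.xk
  simp only [mul_one, mul_inv_cancel] at h1
  have h2 : s * (x * k * x * k * x * k) * s⁻¹ = (s * x * s⁻¹) * (s * k * s⁻¹) * (s * x * s⁻¹) * (s * k * s⁻¹) *
    (s * x * s⁻¹) * (s * k * s⁻¹) := by group
  rw [h2, h.x_conj, ← h.q_conj] at h1
  exact h1

theorem Yq (h : RelB x k w s) : Yv x (s * k * s) = Yv x k := by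
  have h1 := Yv_conj s x k
  rw [h.x_conj, ← h.q_conj] at h1
  rw [← h1, mul_inv_eq_iff_eq_mul]
  exact h.sy

theorem wsi (h : RelB x k w s) : w * s = s * w⁻¹ := by
  have h1 := h.ws
  have h2 : w * s * (w * s) = 1 := by simpa [mul_assoc] using h1
  have h3 : w * s = (w * s)⁻¹ := eq_inv_of_mul_eq_one_left h2
  rw [h3, mul_inv_rev, h.si]

theorem wsi' (h : RelB x k w s) : w⁻¹ * s = s * w := by
  have h1 := h.wsi
  have h2 : s * (w * s) * s = s * (s * w⁻¹) * s := by rw [h1]
  have h3 : s * (w * s) * s = s * w * (s * s) := by group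
  have h4 : s * (s * w⁻¹) * s = (s * s) * w⁻¹ * s := by group
  rw [h3, h4, h.s2, mul_one, one_mul] at h2
  exact h2.symm

theorem wq (h : RelB x k w s) : w * (s * k * s) = (s * k * s) * w := by
  have h1 : w⁻¹ * k = k * w⁻¹ := by
    have h2 : Commute w k := h.wk
    exact h2.inv_left
  calc w * (s * k * s) = (w * s) * k * s := by group
    _ = s * (w⁻¹ * k) * s := by rw [h.wsi]; group
    _ = s * k * (w⁻¹ * s) := by rw [h1]; group
    _ = (s * k * s) * w := by rw [h.wsi']; group

theorem hR (h : RelB x k w s) (t : G) : ∀ v ∈ J2Enum2.R, wval (gl x k w s t) v = 1 := by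
  unfold J2Enum2.R
  have hK := h.toRelK.hR w s t
  unfold J2Enum0.R at hK
  simp only [List.forall_mem_cons, List.not_mem_nil, false_implies, implies_true, and_true] at hK ⊢
  refine ⟨hK.1, hK.2.1, hK.2.2.1, hK.2.2.2, ?_, ?_, ?_, ?_, ?_, ?_, ?_, ?_, ?_, ?_, ?_, ?_, ?_⟩
  · simpa [wval, val, gl, mul_assoc] using h.w3
  · have := of_comm h.sx.symm
    simpa [wval, val, gl, mul_assoc] using this
  · have := of_comm h.sy.symm
    rw [h.si, inv_of_sq h.y2] at this
    simpa [wval, val, gl, mul_assoc] using this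
  · have := of_comm h.wx
    simpa [wval, val, gl, mul_assoc] using this
  · have := of_comm h.wk
    rw [h.ki] at this
    simpa [wval, val, gl, mul_assoc] using this
  · simpa [wval, val, gl, mul_assoc] using h.ws
  · have := h.q2
    simpa [wval, val, gl, mul_assoc] using this
  · simpa [wval, val, gl, mul_assoc] using h.kq
  · have := h.e
    rw [← mul_inv_eq_one] at this
    simpa [wval, val, gl, mul_assoc] using this
  · have := of_comm (comm_Yv h.wx h.wk)
    rw [inv_of_sq h.y2] at this
    simpa [wval, val, gl, mul_assoc] using this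
  · simpa [wval, val, gl, mul_assoc] using h.xq
  · have := h.y2
    nth_rewrite 1 [← h.Yq, Yv] at this
    simpa [wval, val, gl, mul_assoc] using this
  · have := of_comm h.wq
    rw [inv_of_sq h.q2] at this
    simpa [wval, val, gl, mul_assoc] using this

theorem hiv (h : RelB x k w s) (t : G) : ∀ c, (212 : ℕ).testBit c = true → (gl x k w s t c)⁻¹ = gl x k w s t c := by
  intro c hc
  have hlt := tb_lt (n := 212) (by norm_num) hc
  interval_cases c <;> first | (exfalso; revert hc; decide) | skip
  · exact h.ki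
  · exact h.si
  · exact inv_of_sq h.q2
  · exact inv_of_sq h.y2

theorem map {H : Type*} [Group H] (f : G →* H) (h : RelB x k w s) : RelB (f x) (f k) (f w) (f s) where
  toRelK := h.toRelK.map f
  w3 := by simpa using congrArg f h.w3
  wx := by simpa using congrArg f h.wx
  wk := by simpa using congrArg f h.wk
  s2 := by simpa using congrArg f h.s2
  sx := by simpa using congrArg f h.sx
  sy := by simpa [Yv] using congrArg f h.sy
  ws := by simpa using congrArg f h.ws
  kq := by simpa using congrArg f h.kq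
  e := by simpa using congrArg f h.e

end RelB

namespace Rels
variable {x k w s t : G}

theorem ti (h : Rels x k w s t) : t⁻¹ = t := inv_of_sq h.t2

theorem hR (h : Rels x k w s t) : ∀ v ∈ J2Enum3.R, wval (gl x k w s t) v = 1 := by
  unfold J2Enum3.R
  have hB := h.toRelB.hR t
  unfold J2Enum2.R at hB
  simp only [List.forall_mem_cons, List.not_mem_nil, false_implies, implies_true, and_true] at hB ⊢
  obtain ⟨h1, h2, h3, h4, h5, h6, h7, h8, h9, h10, h11, h12, h13, h14, h15, h16, h17⟩ := hB
  refine ⟨h1, h2, h3, h4, h5, h6, h7, h8, h9, h10, h11, h12, h13, h14, h15, h16, h17, ?_, ?_, ?_, ?_, ?_⟩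
  · simpa [wval, val, gl, mul_assoc] using h.wt
  · simpa [wval, val, gl, mul_assoc] using h.ts
  · have := of_comm h.tx
    rw [h.ti] at this
    simpa [wval, val, gl, mul_assoc] using this
  · have := of_comm h.tk
    rw [h.ti, h.ki] at this
    simpa [wval, val, gl, mul_assoc] using this
  · have := of_comm (comm_Yv h.tx h.tk)
    rw [inv_of_sq h.y2, h.ti] at this
    simpa [wval, val, gl, mul_assoc] using this

theorem map {H : Type*} [Group H] (f : G →* H) (h : Rels x k w s t) : Rels (f x) (f k) (f w) (f s) (f t) where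
  toRelB := h.toRelB.map f
  t2 := by simpa using congrArg f h.t2
  wt := by simpa using congrArg f h.wt
  ts := by simpa using congrArg f h.ts
  tx := by simpa using congrArg f h.tx
  tk := by simpa using congrArg f h.tk

theorem hiv (h : Rels x k w s t) : ∀ c, (244 : ℕ).testBit c = true → (gl x k w s t c)⁻¹ = gl x k w s t c := by
  intro c hc
  have hlt := tb_lt (n := 244) (by norm_num) hc
  interval_cases c <;> first | (exfalso; revert hc; decide) | skip
  · exact h.ki
  · exact h.si
  · exact h.ti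
  · exact inv_of_sq h.q2
  · exact inv_of_sq h.y2

end Rels

end defs

section bounds

theorem closure_sub {Γ : Type*} [Group Γ] (A : Set Γ) :
    Subgroup.closure {a : ↥(Subgroup.closure A) | (a : Γ) ∈ A} = ⊤ := by
  exact Subgroup.closure_closure_coe_preimage

/-- the bound for `⟨x, k⟩` -/
theorem RelK.bound {Γ : Type*} [Group Γ] {x k : Γ} (h : RelK x k) (hgen : Subgroup.closure ({x, k} : Set Γ) = ⊤) :
    Finite Γ ∧ Nat.card Γ ≤ 60 := by
  have hord : orderOf x ∣ 5 := orderOf_dvd_of_pow_eq_one (by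
    have := h.x5
    simpa [pow_succ, mul_assoc] using this)
  have hpos : 0 < orderOf x := Nat.pos_of_dvd_of_pos hord (by norm_num)
  have hfin : Finite (Subgroup.zpowers x) := by
    have := (orderOf_pos_iff.1 hpos)
    exact this.finite_zpowers
  have hle : Nat.card (Subgroup.zpowers x) ≤ 5 := by
    rw [Nat.card_zpowers]
    exact Nat.le_of_dvd (by norm_num) hord
  have h1 := enum_index (g := gl x k 1 1 1) [1, 2, 7] (fun c => if c = 1 then J2Enum0.E1 else if c = 2 then J2Enum0.E2 else J2Enum0.E7) rfl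
    (h.hiv 1 1 1) (h.hR 1 1 1) (Subgroup.zpowers x) (by simp [gl]) J2Enum0.ok (n := 12) (by norm_num)
    (by
      rw [eq_top_iff, ← hgen, Subgroup.closure_le]
      rintro a (rfl | rfl)
      · exact Subgroup.subset_closure ⟨1, by simp, rfl⟩
      · exact Subgroup.subset_closure ⟨2, by simp, rfl⟩) (by
      intro c hc
      simp only [List.mem_cons, List.not_mem_nil, or_false] at hc
      rcases hc with rfl | rfl | rfl
      · exact J2Enum0.cl1
      · exact J2Enum0.cl2
      · exact J2Enum0.cl7)
  exact card_le_mul (Subgroup.zpowers x) h1 hle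

/-- the bound for `⟨x, k, w, s⟩` -/
theorem RelB.bound {Γ : Type*} [Group Γ] {x k w s : Γ} (h : RelB x k w s)
    (hgen : Subgroup.closure ({x, k, w, s} : Set Γ) = ⊤) : Finite Γ ∧ Nat.card Γ ≤ 2160 := by
  let A : Set Γ := {x, k}
  let K := Subgroup.closure A
  have hx : x ∈ K := Subgroup.subset_closure (by simp [A])
  have hk : k ∈ K := Subgroup.subset_closure (by simp [A])
  have hK : RelK (⟨x, hx⟩ : K) ⟨k, hk⟩ :=
    ⟨Subtype.ext h.x5, Subtype.ext h.k2, Subtype.ext h.xk, Subtype.ext h.y2, Subtype.ext h.yx⟩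
  have hKgen : Subgroup.closure ({⟨x, hx⟩, ⟨k, hk⟩} : Set K) = ⊤ := by
    rw [← closure_sub A]
    congr 1
    ext ⟨a, ha⟩
    simp only [A, Subtype.ext_iff, Set.mem_insert_iff, Set.mem_singleton_iff, Set.mem_setOf_eq]
    exact Iff.rfl
  obtain ⟨hf, hc⟩ := hK.bound hKgen
  have h1 := enum_index (g := gl x k w s 1) [1, 2, 3, 4] (fun c => if c = 1 then J2Enum2.E1 else if c = 2 then J2Enum2.E2
      else if c = 3 then J2Enum2.E3 else J2Enum2.E4) rfl
    (h.hiv 1) (h.hR 1) K (by
      intro c hc
      simp only [List.mem_cons, List.not_mem_nil, or_false] at hc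
      rcases hc with rfl | rfl
      · exact hx
      · exact hk) J2Enum2.ok (n := 36) (by norm_num)
    (by
      rw [eq_top_iff, ← hgen, Subgroup.closure_le]
      rintro a (rfl | rfl | rfl | rfl)
      · exact Subgroup.subset_closure ⟨1, by simp, rfl⟩
      · exact Subgroup.subset_closure ⟨2, by simp, rfl⟩
      · exact Subgroup.subset_closure ⟨3, by simp, rfl⟩
      · exact Subgroup.subset_closure ⟨4, by simp, rfl⟩) (by
      intro c hc
      simp only [List.mem_cons, List.not_mem_nil, or_false] at hc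
      rcases hc with rfl | rfl | rfl | rfl
      · exact J2Enum2.cl1
      · exact J2Enum2.cl2
      · exact J2Enum2.cl3
      · exact J2Enum2.cl4)
  exact card_le_mul K h1 hc

/-- the bound for the whole group -/
theorem Rels.bound {Γ : Type*} [Group Γ] {x k w s t : Γ} (h : Rels x k w s t)
    (hgen : Subgroup.closure ({x, k, w, s, t} : Set Γ) = ⊤) : Finite Γ ∧ Nat.card Γ ≤ 604800 := by
  let A : Set Γ := {x, k, w, s}
  let B := Subgroup.closure A
  have hx : x ∈ B := Subgroup.subset_closure (by simp [A])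
  have hk : k ∈ B := Subgroup.subset_closure (by simp [A])
  have hw : w ∈ B := Subgroup.subset_closure (by simp [A])
  have hs : s ∈ B := Subgroup.subset_closure (by simp [A])
  have hB : RelB (⟨x, hx⟩ : B) ⟨k, hk⟩ ⟨w, hw⟩ ⟨s, hs⟩ :=
    ⟨⟨Subtype.ext h.x5, Subtype.ext h.k2, Subtype.ext h.xk, Subtype.ext h.y2, Subtype.ext h.yx⟩,
      Subtype.ext h.w3, Subtype.ext h.wx, Subtype.ext h.wk, Subtype.ext h.s2, Subtype.ext h.sx, Subtype.ext h.sy,
      Subtype.ext h.ws, Subtype.ext h.kq, Subtype.ext h.e⟩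
  have hBgen : Subgroup.closure ({⟨x, hx⟩, ⟨k, hk⟩, ⟨w, hw⟩, ⟨s, hs⟩} : Set B) = ⊤ := by
    rw [← closure_sub A]
    congr 1
    ext ⟨a, ha⟩
    simp only [A, Subtype.ext_iff, Set.mem_insert_iff, Set.mem_singleton_iff, Set.mem_setOf_eq]
    exact Iff.rfl
  obtain ⟨hf, hc⟩ := hB.bound hBgen
  have h1 := enum_index (g := gl x k w s t) [1, 2, 3, 4, 5] (fun c => if c = 1 then J2Enum3.E1 else if c = 2 then J2Enum3.E2
      else if c = 3 then J2Enum3.E3 else if c = 4 then J2Enum3.E4 else J2Enum3.E5) rfl
    h.hiv h.hR B (by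
      intro c hc
      simp only [List.mem_cons, List.not_mem_nil, or_false] at hc
      rcases hc with rfl | rfl | rfl | rfl
      · exact hx
      · exact hk
      · exact hw
      · exact hs) J2Enum3.ok (n := 280) (by norm_num)
    (by
      rw [eq_top_iff, ← hgen, Subgroup.closure_le]
      rintro a (rfl | rfl | rfl | rfl | rfl)
      · exact Subgroup.subset_closure ⟨1, by simp, rfl⟩
      · exact Subgroup.subset_closure ⟨2, by simp, rfl⟩
      · exact Subgroup.subset_closure ⟨3, by simp, rfl⟩
      · exact Subgroup.subset_closure ⟨4, by simp, rfl⟩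
      · exact Subgroup.subset_closure ⟨5, by simp, rfl⟩) (by
      intro c hc
      simp only [List.mem_cons, List.not_mem_nil, or_false] at hc
      rcases hc with rfl | rfl | rfl | rfl | rfl
      · exact J2Enum3.cl1
      · exact J2Enum3.cl2
      · exact J2Enum3.cl3
      · exact J2Enum3.cl4
      · exact J2Enum3.cl5)
  exact card_le_mul B h1 hc

end bounds

end Cfsg.Agent.Lib.J2Pres
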