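import Cfsg.Agent.Lib.J3PB
import Mathlib

set_option autoImplicit false
open Cfsg Cfsg.Agent.Lib.LargeExtra Cfsg.Agent.Lib.JTw Cfsg.Agent.Lib.JTw.Setup

namespace Cfsg.Agent.Lib.J3P

variable {G : Type*} [Group G] [Finite G]
set_option linter.unusedSectionVars false

namespace PP
variable {S : Setup G} {a b : G}

theorem X_le_N : X a b ≤ Subgroup.normalizer ((X a b : Subgroup G) : Set G) := Subgroup.le_normalizer

theorem card_stab (h1 : One S) (p : PP S a b) :
    Nat.card ↥(Subgroup.normalizer ((X a b : Subgroup G) : Set G) ⊓ Subgroup.centralizer ({a} : Set G)) = 192 := by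
  set K := Subgroup.normalizer ((X a b : Subgroup G) : Set G) ⊓ Subgroup.centralizer ({a} : Set G) with hK
  have h2 := InvAct.card_conj_orbit K b
  have h3 : K ⊓ Subgroup.centralizer ({b} : Set G) = X a b := by
    apply le_antisymm
    · rintro x ⟨⟨_, h4⟩, h5⟩
      exact ⟨h4, h5⟩
    · intro x hx
      exact ⟨⟨X_le_N hx, hx.1⟩, hx.2⟩
  have h4 : {v : G | ∃ k ∈ K, k * b * k⁻¹ = v} = ((X a b : Subgroup G) : Set G) \ ((Bk S a b a : Subgroup G) : Set G) := by
    ext v
    constructor
    · rintro ⟨k, ⟨hk1, hk2⟩, rfl⟩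
      refine ⟨norm_mem hk1 p.b_mem, fun h => p.hbq ?_⟩
      have h5 := h.2
      have e : k * a * k⁻¹ = a := cj_eq_self.2 (mem_centralizer_one.1 hk2)
      have h6 := (mem_q_conj p.ha k (y := k * b * k⁻¹)).1 (by rw [e]; exact h5)
      have e2 : k⁻¹ * (k * b * k⁻¹) * k = b := by group
      rwa [e2] at h6
    · rintro ⟨hv1, hv2⟩
      have q : PP S a v := ⟨p.ha, p.X_sq hv1, (mem_X.1 hv1).1, fun h => hv2 ⟨hv1, h⟩⟩
      obtain ⟨c, hc1, hc2⟩ := p.conj_to q
      have e : c * a * c⁻¹ = a := cj_eq_self.2 hc1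
      refine ⟨c, ⟨?_, mem_centralizer_one.2 hc1⟩, hc2⟩
      exact p.norm_of (n := c) (by rw [e, hc2]; exact q) (by rw [e]; exact p.a_mem) (by rw [hc2]; exact hv1)
  have h5 : (((X a b : Subgroup G) : Set G) \ ((Bk S a b a : Subgroup G) : Set G)).ncard = 12 := by
    have hsub : ((Bk S a b a : Subgroup G) : Set G) ⊆ ((X a b : Subgroup G) : Set G) := fun x hx => hx.1
    rw [Set.ncard_sdiff hsub, ← card_eq_ncard, ← card_eq_ncard, p.card_X, p.card_Bk]
  rw [h2, h3, h4, h5, p.card_X]

theorem card_N (h1 : One S) (p : PP S a b) :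
    Nat.card ↥(Subgroup.normalizer ((X a b : Subgroup G) : Set G)) = 2880 := by
  have h2 := InvAct.card_conj_orbit (Subgroup.normalizer ((X a b : Subgroup G) : Set G)) a
  have h3 : {v : G | ∃ k ∈ Subgroup.normalizer ((X a b : Subgroup G) : Set G), k * a * k⁻¹ = v} =
      ((X a b : Subgroup G) : Set G) \ {1} := by
    ext v
    constructor
    · rintro ⟨k, hk, rfl⟩
      refine ⟨norm_mem hk p.a_mem, fun h => p.a1 ?_⟩
      exact cj_eq_one.1 h
    · rintro ⟨hv1, hv2⟩
      exact p.trans h1 hv1 hv2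
  have h4 : (((X a b : Subgroup G) : Set G) \ {1}).ncard = 15 := by
    have hsub : ({1} : Set G) ⊆ ((X a b : Subgroup G) : Set G) := by
      rintro x rfl; exact one_mem _
    rw [Set.ncard_sdiff hsub, ← card_eq_ncard, p.card_X, Set.ncard_singleton]
  rw [h2, h3, h4, p.card_stab h1]

/-- the set of blocks -/
def BB (S : Setup G) (a b : G) : Set (Subgroup G) := {K | ∃ c ∈ X a b, c ≠ 1 ∧ K = Bk S a b c}

theorem card_BB (h1 : One S) (p : PP S a b) : (BB S a b).ncard ≤ 5 := by
  classical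
  have : Fintype G := Fintype.ofFinite G
  set Xs : Finset G := Finset.univ.filter (fun c => c ∈ X a b ∧ c ≠ 1) with hXs
  have hXc : Xs.card = 15 := by
    have h4 : (((X a b : Subgroup G) : Set G) \ {1}).ncard = 15 := by
      have hsub : ({1} : Set G) ⊆ ((X a b : Subgroup G) : Set G) := by
        rintro x rfl; exact one_mem _
      rw [Set.ncard_sdiff hsub, ← card_eq_ncard, p.card_X, Set.ncard_singleton]
    rw [← h4, ← Set.ncard_coe_finset]
    congr 1
    ext x; simp [hXs]
  have himg : BB S a b = ((Xs.image (fun c => Bk S a b c) : Finset (Subgroup G)) : Set (Subgroup G)) := by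
    ext K
    simp only [BB, Set.mem_setOf_eq, Finset.coe_image, Set.mem_image, hXs, Finset.coe_filter, Finset.mem_univ,
      true_and]
    constructor
    · rintro ⟨c, hc, hc1, rfl⟩; exact ⟨c, ⟨hc, hc1⟩, rfl⟩
    · rintro ⟨c, ⟨hc, hc1⟩, rfl⟩; exact ⟨c, hc, hc1, rfl⟩
  rw [himg, Set.ncard_coe_finset]
  have hfib : ∀ K ∈ Xs.image (fun c => Bk S a b c), 3 ≤ (Xs.filter (fun c => Bk S a b c = K)).card := by
    intro K hK
    obtain ⟨c, hc, rfl⟩ := Finset.mem_image.1 hK
    rw [hXs, Finset.mem_filter] at hc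
    obtain ⟨_, hc, hc1⟩ := hc
    have h5 : ((Bk S a b c : Subgroup G) : Set G) \ {1} ⊆ ((Xs.filter (fun d => Bk S a b d = Bk S a b c) : Finset G) : Set G) := by
      rintro d ⟨hd, hd1⟩
      simp only [hXs, Finset.coe_filter, Finset.mem_filter, Finset.mem_univ, true_and, Set.mem_setOf_eq]
      exact ⟨⟨hd.1, hd1⟩, p.Bk_same' h1 hc hc1 hd hd1⟩
    have h6 := Set.ncard_le_ncard h5 (Finset.finite_toSet _)
    have hsub : ({1} : Set G) ⊆ ((Bk S a b c : Subgroup G) : Set G) := by
      rintro x rfl; exact one_mem _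
    rw [Set.ncard_sdiff hsub, ← card_eq_ncard, p.card_Bk' h1 hc hc1, Set.ncard_singleton, Set.ncard_coe_finset] at h6
    exact h6
  have h7 := Finset.card_nsmul_le_sum (Xs.image (fun c => Bk S a b c))
    (fun K => (Xs.filter (fun c => Bk S a b c = K)).card) 3 hfib
  have h8 : ∑ K ∈ Xs.image (fun c => Bk S a b c), (Xs.filter (fun c => Bk S a b c = K)).card = Xs.card := by
    symm
    apply Finset.card_eq_sum_card_fiberwise
    intro c hc
    exact Finset.mem_coe.2 (Finset.mem_image_of_mem _ hc)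
  rw [h8, hXc] at h7
  simp only [smul_eq_mul] at h7
  omega

theorem map_BB (h1 : One S) (p : PP S a b) {n : G} (hn : n ∈ Subgroup.normalizer ((X a b : Subgroup G) : Set G))
    {K : Subgroup G} (hK : K ∈ BB S a b) : K.map (MulAut.conj n).toMonoidHom ∈ BB S a b := by
  obtain ⟨c, hc, hc1, rfl⟩ := hK
  exact ⟨n * c * n⁻¹, norm_mem hn hc, fun h => hc1 (cj_eq_one.1 h), p.Bk_conj h1 hc hc1 hn⟩

theorem map_map_conj (m n : G) (K : Subgroup G) :
    (K.map (MulAut.conj n).toMonoidHom).map (MulAut.conj m).toMonoidHom = K.map (MulAut.conj (m * n)).toMonoidHom := by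
  rw [Subgroup.map_map]
  congr 1
  ext x
  simp [MulAut.conj_apply, mul_assoc]

theorem map_one_conj (K : Subgroup G) : K.map (MulAut.conj (1 : G)).toMonoidHom = K := by
  ext x
  simp [Subgroup.mem_map]

/-- the action of the normalizer on the blocks -/
noncomputable def act (h1 : One S) (p : PP S a b) :
    ↥(Subgroup.normalizer ((X a b : Subgroup G) : Set G)) →* Equiv.Perm ↥(BB S a b) where
  toFun n :=
    { toFun := fun K => ⟨K.1.map (MulAut.conj n.1).toMonoidHom, p.map_BB h1 n.2 K.2⟩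
      invFun := fun K => ⟨K.1.map (MulAut.conj (n.1)⁻¹).toMonoidHom, p.map_BB h1 (inv_mem n.2) K.2⟩
      left_inv := fun K => Subtype.ext (by
        simp only [map_map_conj, inv_mul_cancel, map_one_conj])
      right_inv := fun K => Subtype.ext (by
        simp only [map_map_conj, mul_inv_cancel, map_one_conj]) }
  map_one' := by
    ext1 K
    exact Subtype.ext (map_one_conj K.1)
  map_mul' m n := by
    ext1 K
    exact Subtype.ext (map_map_conj m.1 n.1 K.1).symm

theorem mem_ker (h1 : One S) (p : PP S a b) {n : ↥(Subgroup.normalizer ((X a b : Subgroup G) : Set G))}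
    (hn : n ∈ (p.act h1).ker) {c : G} (hc : c ∈ X a b) (hc1 : c ≠ 1) : (n : G) * c * (n : G)⁻¹ ∈ Bk S a b c := by
  rw [MonoidHom.mem_ker] at hn
  have h2 := congrArg (fun f => (f ⟨Bk S a b c, c, hc, hc1, rfl⟩).1) hn
  have h3 : (Bk S a b c).map (MulAut.conj (n : G)).toMonoidHom = Bk S a b c := h2
  rw [p.Bk_conj h1 hc hc1 n.2] at h3
  rw [← h3]
  exact p.self_mem h1 (norm_mem n.2 hc) (fun h => hc1 (cj_eq_one.1 h))

/-- the kernel as a subgroup of `G` -/
theorem card_ker (h1 : One S) (p : PP S a b) : Nat.card (p.act h1).ker = 48 := by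
  set L : Subgroup G := (p.act h1).ker.map (Subgroup.subtype _) with hL
  have hcL : Nat.card L = Nat.card (p.act h1).ker :=
    Nat.card_congr ((p.act h1).ker.equivMapOfInjective _ (Subgroup.subtype_injective _)).symm.toEquiv
  have hLX : L ⊓ Subgroup.centralizer ({a} : Set G) = X a b := by
    apply le_antisymm
    · rintro x ⟨⟨n, hn, rfl⟩, hx⟩
      exact p.semireg h1 (fun c hc hc1 => p.mem_ker h1 hn hc hc1) (mem_centralizer_one.1 hx)
    · intro x hx
      refine ⟨⟨⟨x, X_le_N hx⟩, ?_, rfl⟩, hx.1⟩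
      change _ ∈ (p.act h1).ker
      rw [MonoidHom.mem_ker]
      ext1 K
      obtain ⟨K, c, hc, hc1, rfl⟩ := K
      apply Subtype.ext
      change (Bk S a b c).map (MulAut.conj x).toMonoidHom = Bk S a b c
      rw [p.Bk_conj h1 hc hc1 (X_le_N hx), cj_eq_self.2 (p.X_comm hx hc)]
  have h2 := InvAct.card_conj_orbit L a
  rw [hLX, p.card_X] at h2
  have h3 : {v : G | ∃ k ∈ L, k * a * k⁻¹ = v} ⊆ ((Bk S a b a : Subgroup G) : Set G) \ {1} := by
    rintro v ⟨k, ⟨n, hn, rfl⟩, rfl⟩
    exact ⟨p.mem_ker h1 hn p.a_mem p.a1, fun h => p.a1 (cj_eq_one.1 h)⟩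
  have h4 := Set.ncard_le_ncard h3 (Set.toFinite _)
  have hsub : ({1} : Set G) ⊆ ((Bk S a b a : Subgroup G) : Set G) := by
    rintro x rfl; exact one_mem _
  rw [Set.ncard_sdiff hsub, ← card_eq_ncard, p.card_Bk, Set.ncard_singleton] at h4
  have h5 := Subgroup.card_mul_index (p.act h1).ker
  rw [Subgroup.index_ker, p.card_N h1] at h5
  have h6 : Nat.card (p.act h1).range ∣ 120 := by
    have h7 := Subgroup.card_subgroup_dvd_card (p.act h1).range
    rw [Nat.card_perm] at h7
    have h8 := p.card_BB h1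
    rw [← Nat.card_coe_set_eq] at h8
    exact h7.trans (by
      have h9 := Nat.factorial_dvd_factorial h8
      exact h9)
  rw [← hcL]
  set m := {v : G | ∃ k ∈ L, k * a * k⁻¹ = v}.ncard with hm
  rw [← hcL, h2] at h5
  have hm0 : m ≠ 0 := by
    intro h; rw [h] at h5; simp at h5
  have hm3 : m ≤ 3 := h4
  rw [h2]
  interval_cases m
  · exact absurd rfl hm0
  · exfalso
    have : Nat.card (p.act h1).range = 180 := by omega
    rw [this] at h6; revert h6; decide
  · exfalso
    have : Nat.card (p.act h1).range = 90 := by omega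
    rw [this] at h6; revert h6; decide
  · rfl

theorem exists_xys (h1 : One S) (p : PP S a b) : ∃ x y s : G, orderOf x = 5 ∧ orderOf y = 3 ∧ orderOf s = 2 ∧
    x * y = y * x ∧ s * y = y * s := by
  have h3p : Fact (Nat.Prime 3) := ⟨Nat.prime_three⟩
  have h5p : Fact (Nat.Prime 5) := ⟨Nat.prime_five⟩
  have h2p : Fact (Nat.Prime 2) := ⟨Nat.prime_two⟩
  set N := Subgroup.normalizer ((X a b : Subgroup G) : Set G) with hN
  set L := (p.act h1).ker with hL
  have hLn : L.Normal := MonoidHom.normal_ker _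
  obtain ⟨P⟩ : Nonempty (Sylow 3 L) := inferInstance
  have hPc : Nat.card P = 3 := by
    rw [P.card_eq_multiplicity, p.card_ker h1]
    have : Nat.factorization 48 3 = 1 := by
      rw [show 48 = 2 ^ 4 * 3 by norm_num]
      rw [Nat.factorization_mul (by norm_num) (by norm_num), Nat.factorization_pow]
      simp [Nat.Prime.factorization Nat.prime_two, Nat.Prime.factorization Nat.prime_three]
    rw [this]; norm_num
  set P' : Subgroup N := (P : Subgroup L).map L.subtype with hP'
  have hP'c : Nat.card P' = 3 := by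
    rw [← hPc]
    exact Nat.card_congr ((P : Subgroup L).equivMapOfInjective _ (Subgroup.subtype_injective _)).symm.toEquiv
  have hfr := Sylow.normalizer_sup_eq_top P
  set M := Subgroup.normalizer ((P' : Subgroup N) : Set N) with hM
  have hcard : 180 ∣ Nat.card M := by
    have e1 : L.relIndex M = 60 := by
      rw [← Subgroup.relIndex_sup_right, hfr, Subgroup.relIndex_top_right]
      have e2 := Subgroup.card_mul_index L
      rw [p.card_ker h1, p.card_N h1] at e2
      omega
    have e3 := Subgroup.card_mul_index (L.subgroupOf M)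
    change _ * L.relIndex M = _ at e3
    rw [e1] at e3
    have e4 : 3 ∣ Nat.card (L.subgroupOf M) := by
      have e5 : P' ≤ M := Subgroup.le_normalizer
      have e6 : P' ≤ L := by
        rintro _ ⟨y, _, rfl⟩; exact y.2
      have e7 : Nat.card (P'.subgroupOf M) = 3 := by
        rw [← hP'c]; exact Nat.card_congr (Subgroup.subgroupOfEquivOfLe e5).toEquiv
      rw [← e7]
      apply Subgroup.card_dvd_of_le
      intro y hy
      exact e6 hy
    obtain ⟨k, hk⟩ := e4
    rw [← e3, hk]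
    exact ⟨k, by ring⟩
  -- a generator
  have hP'n : Nontrivial P' := by
    rw [← Finite.one_lt_card_iff_nontrivial, hP'c]; norm_num
  obtain ⟨y, hyo⟩ := exists_prime_orderOf_dvd_card' (G := P') 3 (by rw [hP'c])
  have hyo' : orderOf (y : N) = 3 := by rw [Subgroup.orderOf_coe, hyo]
  have hzp : Subgroup.zpowers (y : N) = P' := by
    apply Subgroup.eq_of_le_of_card_ge
    · rw [Subgroup.zpowers_le]; exact y.2
    · rw [hP'c, Nat.card_zpowers, hyo']
  have hyy : ∀ m ∈ M, m * (y : N) * m⁻¹ = y ∨ m * (y : N) * m⁻¹ = (y : N)⁻¹ := by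
    intro m hm
    have e1 : m * (y : N) * m⁻¹ ∈ Subgroup.zpowers (y : N) := by
      rw [hzp]; exact (Subgroup.mem_normalizer_iff.1 hm _).1 y.2
    have e2 : orderOf (m * (y : N) * m⁻¹) = 3 := by
      rw [← hyo']
      exact orderOf_injective (MulAut.conj m).toMonoidHom (MulAut.conj m).injective (y : N)
    obtain ⟨k, hk⟩ := Subgroup.mem_zpowers_iff.1 e1
    have e3 := zpow_mod_orderOf (y : N) k
    rw [hyo'] at e3
    have hk0 : k % ((3 : ℕ) : ℤ) = 0 ∨ k % ((3 : ℕ) : ℤ) = 1 ∨ k % ((3 : ℕ) : ℤ) = 2 := by omega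
    have y3 : (y : N) ^ 3 = 1 := by rw [← hyo']; exact pow_orderOf_eq_one _
    rcases hk0 with h | h | h
    · exfalso
      rw [h, zpow_zero, hk] at e3
      rw [← e3, orderOf_one] at e2; omega
    · left
      rw [h, zpow_one, hk] at e3
      exact e3.symm
    · right
      rw [h, hk] at e3
      rw [← e3, eq_comm, inv_eq_iff_mul_eq_one]
      rw [show ((2 : ℤ)) = ((2 : ℕ) : ℤ) by norm_num, zpow_natCast, ← pow_succ']
      exact y3
  have h90 : 90 ∣ Nat.card ↥(M ⊓ Subgroup.centralizer ({(y : N)} : Set N)) := by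
    have e1 := InvAct.card_conj_orbit M (y : N)
    have e2 : {v : N | ∃ k ∈ M, k * (y : N) * k⁻¹ = v} ⊆ {(y : N), (y : N)⁻¹} := by
      rintro v ⟨k, hk, rfl⟩
      rcases hyy k hk with h | h
      · rw [h]; exact Or.inl rfl
      · rw [h]; exact Or.inr rfl
    have e3 := Set.ncard_le_ncard e2 (Set.toFinite _)
    have e4 : ({(y : N), (y : N)⁻¹} : Set N).ncard ≤ 2 := by
      refine (Set.ncard_insert_le _ _).trans ?_
      rw [Set.ncard_singleton]
    set m := {v : N | ∃ k ∈ M, k * (y : N) * k⁻¹ = v}.ncard with hm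
    have hm2 : m ≤ 2 := e3.trans e4
    obtain ⟨k, hk⟩ := hcard
    interval_cases m
    · exfalso
      rw [zero_mul] at e1
      exact Nat.card_pos.ne' e1
    · rw [one_mul] at e1; rw [← e1, hk]; exact ⟨2 * k, by ring⟩
    · rw [hk] at e1
      exact ⟨k, by omega⟩
  set C := M ⊓ Subgroup.centralizer ({(y : N)} : Set N) with hC
  obtain ⟨x, hx⟩ := exists_prime_orderOf_dvd_card' (G := C) 5 ((by norm_num : 5 ∣ 90).trans h90)
  obtain ⟨s, hs⟩ := exists_prime_orderOf_dvd_card' (G := C) 2 ((by norm_num : 2 ∣ 90).trans h90)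
  refine ⟨((x : N) : G), ((y : N) : G), ((s : N) : G), ?_, ?_, ?_, ?_, ?_⟩
  · rw [Subgroup.orderOf_coe, Subgroup.orderOf_coe, hx]
  · rw [Subgroup.orderOf_coe, hyo']
  · rw [Subgroup.orderOf_coe, Subgroup.orderOf_coe, hs]
  · have h := mem_centralizer_one.1 x.2.2
    exact congrArg (Subtype.val) h
  · have h := mem_centralizer_one.1 s.2.2
    exact congrArg (Subtype.val) h

end PP

/-- piece B -/
theorem exists_xys (S : Setup G) (h1 : One S) : ∃ x y s : G, orderOf x = 5 ∧ orderOf y = 3 ∧ orderOf s = 2 ∧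
    x * y = y * x ∧ s * y = y * s := by
  have f := S.exists_four
  obtain ⟨t, ht⟩ := f.exists_T
  exact PP.exists_xys (a := S.z) (b := t) h1 ⟨S.z_z, f.T_sq ht, f.R_comm_u ht.1, ht.2.1⟩

end Cfsg.Agent.Lib.J3P
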