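import Cfsg.Agent.Lib.JTw16

/-!
# J3, piece C2 (helper26): the centralizer of `s` modulo `y` is dihedral of order eight
-/

set_option autoImplicit false
set_option linter.all false

open Cfsg Cfsg.Agent.Lib.LargeExtra Cfsg.Agent.Lib.JTw Cfsg.Agent.Lib.JTw.Setup

namespace Cfsg.Agent.Lib.J3P

theorem cent_dih {G : Type*} [Group G] [Finite G] (S : Setup G) {s y : G} (hs : S.Z s) (hy : orderOf y = 3)
    (hsy : s * y = y * s)
    [hn : (Subgroup.zpowers y |>.subgroupOf (Subgroup.centralizer ({y} : Set G))).Normal]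
    (hsC : s ∈ Subgroup.centralizer ({y} : Set G)) :
    Nonempty (Subgroup.centralizer ({(QuotientGroup.mk (⟨s, hsC⟩ : Subgroup.centralizer ({y} : Set G)) :
      Subgroup.centralizer ({y} : Set G) ⧸ (Subgroup.zpowers y).subgroupOf (Subgroup.centralizer ({y} : Set G)))} :
        Set (Subgroup.centralizer ({y} : Set G) ⧸ (Subgroup.zpowers y).subgroupOf (Subgroup.centralizer ({y} : Set G)))) ≃*
      DihedralGroup 4) := by
  obtain ⟨w, f⟩ := Z_exists_four S hs
  have h := hs.base
  have hss : s * s = 1 := h.pre.sq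
  obtain ⟨-, ⟨e⟩⟩ := h.three_dih f.hmem f.hw2 f.hw1 f.hwu hsy.symm hy
  set C := Subgroup.centralizer ({y} : Set G) with hC
  set N := (Subgroup.zpowers y).subgroupOf C with hN
  have hyC : y ∈ C := mem_centralizer_one.2 rfl
  -- the map
  let φ : ↥(S.q s ⊓ C) →* C ⧸ N := (QuotientGroup.mk' N).comp (Subgroup.inclusion (inf_le_right : S.q s ⊓ C ≤ C))
  have hφ : ∀ a : ↥(S.q s ⊓ C), φ a = QuotientGroup.mk (⟨(a : G), a.2.2⟩ : C) := fun a => rfl
  have hinj : Function.Injective φ := by
    rw [injective_iff_map_eq_one]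
    intro a ha
    rw [hφ] at ha
    have h1 : (⟨(a : G), a.2.2⟩ : C) ∈ N := (QuotientGroup.eq_one_iff _).1 ha
    have h2 : (a : G) ∈ Subgroup.zpowers y := Subgroup.mem_subgroupOf.1 h1
    exact Subtype.ext (h.three_coprime hy h2 a.2.1)
  have hrange : φ.range = Subgroup.centralizer ({(QuotientGroup.mk (⟨s, hsC⟩ : C) : C ⧸ N)} : Set (C ⧸ N)) := by
    apply le_antisymm
    · rintro _ ⟨a, rfl⟩
      rw [Subgroup.mem_centralizer_singleton_iff, hφ, ← QuotientGroup.mk_mul, ← QuotientGroup.mk_mul]
      congr 1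
      apply Subtype.ext
      exact h.pre.cen a a.2.1
    · intro c hc
      obtain ⟨⟨c, hcC⟩, rfl⟩ := QuotientGroup.mk_surjective c
      rw [Subgroup.mem_centralizer_singleton_iff, ← QuotientGroup.mk_mul, ← QuotientGroup.mk_mul, QuotientGroup.eq] at hc
      have hc' : (c * s)⁻¹ * (s * c) ∈ Subgroup.zpowers y := Subgroup.mem_subgroupOf.1 hc
      have hcy : c * y = y * c := mem_centralizer_one.1 hcC
      obtain ⟨k, hk⟩ := hc'
      have hk : y ^ k = (c * s)⁻¹ * (s * c) := hk
      have hcom : s * y ^ k = y ^ k * s := ((show Commute s y from hsy).zpow_right k).eq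
      have hcomc : c * y ^ k = y ^ k * c := ((show Commute c y from hcy).zpow_right k).eq
      have h1 : s * c = c * s * y ^ k := by rw [hk]; group
      have h2 : y ^ k * y ^ k = 1 := by
        have h3 : c * (s * s) = c * (s * s) * (y ^ k * y ^ k) := by
          calc c * (s * s) = (s * s) * c := by rw [hss, one_mul, mul_one]
            _ = s * (s * c) := by rw [mul_assoc]
            _ = s * (c * s * y ^ k) := by rw [h1]
            _ = (s * c) * (s * y ^ k) := by simp only [mul_assoc]
            _ = c * s * y ^ k * (s * y ^ k) := by rw [h1]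
            _ = c * s * (y ^ k * s) * y ^ k := by simp only [mul_assoc]
            _ = c * s * (s * y ^ k) * y ^ k := by rw [hcom]
            _ = c * (s * s) * (y ^ k * y ^ k) := by simp only [mul_assoc]
        exact (mul_eq_left.1 h3.symm)
      have hyk : y ^ k = 1 := by
        have h4 : (y ^ k) ^ 3 = 1 := by
          rw [← zpow_natCast, ← zpow_mul, mul_comm, zpow_mul, zpow_natCast, ← hy, pow_orderOf_eq_one, one_zpow]
        rw [pow_succ, pow_two, h2, one_mul] at h4
        exact h4
      rw [hyk, mul_one] at h1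
      obtain ⟨r, hr, q, hq, hyq, hcrq⟩ := h.three_cent hsy.symm hy h1.symm hcy
      refine ⟨⟨q, hq, mem_centralizer_one.2 hyq.symm⟩, ?_⟩
      rw [hφ, QuotientGroup.eq]
      show _ ∈ N
      rw [hN, Subgroup.mem_subgroupOf]
      show q⁻¹ * c ∈ Subgroup.zpowers y
      have hrq : r * q = q * r := by
        obtain ⟨i, hi⟩ := hr
        have hi : y ^ i = r := hi
        rw [← hi]
        exact (Commute.zpow_left (show Commute y q from hyq) i).eq
      rw [hcrq, hrq, inv_mul_cancel_left]
      exact hr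
  rw [← hrange]
  exact ⟨(MonoidHom.ofInjective hinj).symm.trans e⟩

end Cfsg.Agent.Lib.J3P
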