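import Cfsg.Agent.Lib.JTw16

/-!
# J3, piece C3 (helper26): an involution of `C(s)` inverting `y`
-/

set_option autoImplicit false
set_option linter.all false

open Cfsg Cfsg.Agent.Lib.LargeExtra Cfsg.Agent.Lib.JTw Cfsg.Agent.Lib.JTw.Setup

namespace Cfsg.Agent.Lib.J3P

set_option synthInstance.maxSize 1024 in
theorem a5_gen : ∀ a : alternatingGroup (Fin 5), a * a = 1 → a ≠ 1 →
    ∃ g : alternatingGroup (Fin 5), (a * (g * a * g⁻¹)) ^ 3 = 1 ∧ a * (g * a * g⁻¹) ≠ 1 := by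
  decide +kernel

theorem exists_inv {G : Type*} [Group G] [Finite G] (S : Setup G) {s y : G} (hs : S.Z s) (hy : orderOf y = 3)
    (hsy : s * y = y * s) : ∃ j : G, j * s = s * j ∧ j * j = 1 ∧ j * y * j⁻¹ = y⁻¹ := by
  obtain ⟨w, f⟩ := Z_exists_four S hs
  obtain ⟨t, ht⟩ := Four.exists_T f
  have h := hs.base
  have hts : t * s = s * t := f.R_comm_u ht.1
  have htq : t ∉ S.q s := ht.2.1
  have htt : t * t = 1 := f.T_sq ht
  have hti : t⁻¹ = t := inv_eq_of_mul_eq_one_left htt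
  obtain ⟨φ, hsurj, hk⟩ := h.ex
  let t' : Subgroup.centralizer ({s} : Set G) := ⟨t, mem_centralizer_one.2 hts⟩
  have htt' : t' * t' = 1 := Subtype.ext htt
  have hφt : φ t' ≠ 1 := fun h1 => htq ((hk t').1 h1)
  obtain ⟨g, hg3, hg1⟩ := a5_gen (φ t') (by rw [← map_mul, htt', map_one]) hφt
  obtain ⟨g0, rfl⟩ := hsurj g
  set u : Subgroup.centralizer ({s} : Set G) := t' * (g0 * t' * g0⁻¹) with hu
  have hφu : φ u = φ t' * (φ g0 * φ t' * (φ g0)⁻¹) := by rw [hu, map_mul, map_mul, map_mul, map_inv]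
  have hu3 : (u : G) ^ 3 ∈ S.q s := by
    have h1 : φ (u ^ 3) = 1 := by rw [map_pow, hφu, hg3]
    exact (hk _).1 h1
  have hu1 : φ u ≠ 1 := by rw [hφu]; exact hg1
  have hz2 : s * s = 1 := h.pre.sq
  have hu12 : ((u : G) ^ 4) ^ 3 = 1 := by
    have h1 : ((u : G) ^ 4) ^ 3 = ((u : G) ^ 3 * (u : G) ^ 3) * ((u : G) ^ 3 * (u : G) ^ 3) := by
      rw [← pow_mul, ← pow_add, ← pow_add]
    rw [h1]
    rcases h.pre.qsq _ hu3 with h2 | h2
    · rw [h2, one_mul]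
    · rw [h2, hz2]
  have hu4 : (u : G) ^ 4 ≠ 1 := by
    intro h1
    apply hu1
    have h2 : u ^ 4 = 1 := Subtype.ext h1
    have h3 : φ u ^ 4 = 1 := by rw [← map_pow, h2, map_one]
    have h4 : φ u ^ 3 = 1 := by rw [hφu, hg3]
    rw [pow_succ, h4, one_mul] at h3
    exact h3
  have ho : orderOf ((u : G) ^ 4) = 3 := ord3 hu12 hu4
  have hus : (u : G) ^ 4 * s = s * (u : G) ^ 4 :=
    ((show Commute (u : G) s from mem_centralizer_one.1 u.2).pow_left 4).eq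
  have hinv : t * (u : G) * t⁻¹ = (u : G)⁻¹ := by
    have h1 : t' * u * t'⁻¹ = u⁻¹ := by
      have hti' : t'⁻¹ = t' := inv_eq_of_mul_eq_one_left htt'
      have h2 : (g0 * t' * g0⁻¹)⁻¹ = g0 * t' * g0⁻¹ := by
        rw [mul_inv_rev, mul_inv_rev, inv_inv, hti', mul_assoc]
      rw [hu, mul_inv_rev, h2, hti', ← mul_assoc t' t', htt', one_mul]
    exact congrArg Subtype.val h1
  have hinv4 : t * (u : G) ^ 4 * t⁻¹ = ((u : G) ^ 4)⁻¹ := by
    rw [← conj_pow, hinv, inv_pow]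
  obtain ⟨c, hcs, hc⟩ := h.three_conj hus ho hsy.symm hy
  refine ⟨c * t * c⁻¹, ?_, ?_, ?_⟩
  · have hc' : c⁻¹ * s = s * c⁻¹ := inv_comm_iff.2 hcs
    rw [mul_assoc, hc', ← mul_assoc, mul_assoc c t, hts, ← mul_assoc, hcs, mul_assoc, mul_assoc, mul_assoc]
  · rw [cj_sq, htt]; group
  · calc c * t * c⁻¹ * y * (c * t * c⁻¹)⁻¹ = c * t * c⁻¹ * (c * (u : G) ^ 4 * c⁻¹) * (c * t * c⁻¹)⁻¹ := by rw [hc]
      _ = c * (t * (u : G) ^ 4 * t⁻¹) * c⁻¹ := by group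
      _ = (c * (u : G) ^ 4 * c⁻¹)⁻¹ := by rw [hinv4]; group
      _ = y⁻¹ := by rw [hc]

end Cfsg.Agent.Lib.J3P
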