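import Cfsg.Agent.Lib.J3PDef
import Cfsg.Agent.S3035
import Cfsg.Agent.Lib.LargeExtra
import Cfsg.Agent.Lib.ClSLn
import Cfsg.Agent.Lib.CDeg2
import Mathlib

/-!
# J3 from one class of involutions, piece D (helper6): the centralizer of an element of order three
-/

set_option autoImplicit false
open Cfsg Cfsg.Agent.Lib.LargeExtra Cfsg.Agent.Lib.JTw Cfsg.Agent.Lib.JTw.Setup

namespace Cfsg.Agent.Lib.J3P

theorem pD_s5 : ∃ s g : Equiv.Perm (Fin 5), orderOf s = 2 ∧ g ^ 3 = 1 ∧ g * s = s * g ∧ g ≠ 1 := by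
  refine ⟨c[0, 1], c[2, 3, 4], ?_, by decide, by decide, by decide⟩
  exact orderOf_eq_prime (by decide) (by decide)

/-- a group of order divisible by 5 with all involution centralizers dihedral of order eight is `A₆` -/
theorem a6_of_cent {Y : Type*} [Group Y] [Finite Y] (h5 : 5 ∣ Nat.card Y) {z : Y} (hz : orderOf z = 2)
    (hD : ∀ s : Y, orderOf s = 2 → Nonempty (↥(Subgroup.centralizer ({s} : Set Y)) ≃* DihedralGroup 4)) :
    Nonempty (Y ≃* alternatingGroup (Fin 6)) := by
  classical
  have hcard : ∀ s : Y, orderOf s = 2 → Nat.card (Subgroup.centralizer ({s} : Set Y)) = 8 := by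
    intro s hs
    obtain ⟨e⟩ := hD s hs
    rw [Nat.card_congr e.toEquiv, DihedralGroup.nat_card]
  have hfree : ∀ s : Y, orderOf s = 2 → ∀ k : Y, Odd (orderOf k) → k * s = s * k → k = 1 := by
    intro s hs k hk hks
    have h1 : orderOf k ∣ 8 := by
      rw [← hcard s hs]
      exact Subgroup.orderOf_dvd_natCard _ (Subgroup.mem_centralizer_singleton_iff.2 hks)
    have h2 : (orderOf k).Coprime (2 ^ 3) := (Nat.coprime_two_right.2 hk).pow_right 3
    exact orderOf_eq_one_iff.1 (Nat.Coprime.eq_one_of_dvd h2 h1)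
  have hsq : ∀ s : Y, orderOf s = 2 → s * s = 1 := fun s hs => by
    have := pow_orderOf_eq_one s
    rwa [hs, pow_two] at this
  rcases Cfsg.Agent.S3035.result z hz (hD z hz) with h | ⟨⟨e⟩⟩ | ⟨⟨e⟩⟩ | ⟨⟨e⟩⟩ | h
  · exfalso
    obtain ⟨e⟩ := hD z hz
    -- a second involution commuting with z
    obtain ⟨t, ht, htz, htne⟩ : ∃ t : Y, orderOf t = 2 ∧ t * z = z * t ∧ t ≠ z := by
      have ho : ∀ i : ZMod 4, orderOf (((e.symm (DihedralGroup.sr i)) : Subgroup.centralizer ({z} : Set Y)) : Y) = 2 := by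
        intro i
        rw [Subgroup.orderOf_coe, MulEquiv.orderOf_eq, DihedralGroup.orderOf_sr]
      have hc : ∀ i : ZMod 4, (((e.symm (DihedralGroup.sr i)) : Subgroup.centralizer ({z} : Set Y)) : Y) * z =
          z * (((e.symm (DihedralGroup.sr i)) : Subgroup.centralizer ({z} : Set Y)) : Y) := fun i =>
        Subgroup.mem_centralizer_singleton_iff.1 (e.symm (DihedralGroup.sr i)).2
      by_cases h0 : (((e.symm (DihedralGroup.sr 0)) : Subgroup.centralizer ({z} : Set Y)) : Y) = z
      · refine ⟨_, ho 1, hc 1, fun h1 => ?_⟩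
        have h2 := e.symm.injective (Subtype.ext (h1.trans h0.symm))
        have h3 := DihedralGroup.sr.inj h2
        exact absurd h3 (by decide)
      · exact ⟨_, ho 0, hc 0, h0⟩
    have hzt : orderOf (z * t) = 2 := by
      apply orderOf_eq_prime
      · rw [pow_two]
        calc z * t * (z * t) = z * (t * z) * t := by group
          _ = (z * z) * (t * t) := by rw [htz]; group
          _ = 1 := by rw [hsq z hz, hsq t ht, one_mul]
      · intro h1
        apply htne
        have h2 : t = z⁻¹ := eq_inv_of_mul_eq_one_right h1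
        rw [h2]
        exact inv_eq_of_mul_eq_one_left (hsq z hz)
    have hOo : Odd (Nat.card (oddCore Y)) := by
      rw [← Nat.not_even_iff_odd, even_iff_two_dvd]
      exact CDeg.odd_card_oddCore
    have hOn : (oddCore Y).Normal := inferInstance
    have hfr : ∀ s : Y, orderOf s = 2 → ∀ k ∈ oddCore Y, k * s = s * k → k = 1 := by
      intro s hs k hk hks
      exact hfree s hs k (Odd.of_dvd_nat hOo (Subgroup.orderOf_dvd_natCard _ hk)) hks
    have hO : oddCore Y = ⊥ := eq_bot_of_three hOo (hsq z hz) (hsq t ht) (fun k hk => hOn.conj_mem _ hk _)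
      (fun k hk => hOn.conj_mem _ hk _) (hfr z hz) (hfr t ht) (hfr _ hzt)
    rw [hO, sup_bot_eq] at h
    have h8 := hcard z hz
    rw [h, Subgroup.card_top] at h8
    rw [h8] at h5
    revert h5; decide
  · exfalso
    rw [Nat.card_congr e.toEquiv, Nat.card_eq_fintype_card, Fintype.card_perm, Fintype.card_fin] at h5
    revert h5; decide
  · exfalso
    obtain ⟨s, g, hs, hg, hgs, hg1⟩ := pD_s5
    apply hg1
    have h1 := hfree (e.symm s) (by rw [MulEquiv.orderOf_eq, hs]) (e.symm g)
      (by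
        rw [MulEquiv.orderOf_eq]
        exact Odd.of_dvd_nat (by decide) (orderOf_dvd_of_pow_eq_one hg))
      (by rw [← map_mul, ← map_mul, hgs])
    rwa [EmbeddingLike.map_eq_one_iff] at h1
  · exfalso
    have h168 : Nat.card (Matrix.SpecialLinearGroup (Fin 3) (ZMod 2)) = 168 := by
      have h := ClSLn.card_SL_formula (F := ZMod 2) (q := 2) (ZMod.card 2) 3 (by norm_num)
      simp [Finset.prod_range_succ, -Nat.card_eq_fintype_card] at h
      omega
    rw [Nat.card_congr e.toEquiv, h168] at h5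
    revert h5; decide
  · exact h

theorem lift_inv {G : Type*} [Group G] {y : G} (hy : orderOf y = 3)
    [hn : (Subgroup.zpowers y |>.subgroupOf (Subgroup.centralizer ({y} : Set G))).Normal]
    (q : Subgroup.centralizer ({y} : Set G) ⧸ (Subgroup.zpowers y).subgroupOf (Subgroup.centralizer ({y} : Set G)))
    (hq : orderOf q = 2) : ∃ (s : G) (hsC : s ∈ Subgroup.centralizer ({y} : Set G)), orderOf s = 2 ∧
      (QuotientGroup.mk (⟨s, hsC⟩ : Subgroup.centralizer ({y} : Set G)) :
        Subgroup.centralizer ({y} : Set G) ⧸ (Subgroup.zpowers y).subgroupOf (Subgroup.centralizer ({y} : Set G))) = q := by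
  obtain ⟨⟨g, hgC⟩, rfl⟩ := QuotientGroup.mk_surjective q
  have hgy : g * y = y * g := Subgroup.mem_centralizer_singleton_iff.1 hgC
  have h1 := pow_orderOf_eq_one (QuotientGroup.mk (⟨g, hgC⟩ : Subgroup.centralizer ({y} : Set G)) :
        Subgroup.centralizer ({y} : Set G) ⧸ (Subgroup.zpowers y).subgroupOf (Subgroup.centralizer ({y} : Set G)))
  rw [hq, ← QuotientGroup.mk_pow, QuotientGroup.eq_one_iff, Subgroup.mem_subgroupOf] at h1
  have h2 : g ^ 2 ∈ Subgroup.zpowers y := h1
  obtain ⟨k, hk⟩ := Subgroup.mem_zpowers_iff.1 h2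
  have hcomm : Commute g (y ^ k) := (show Commute g y from hgy).zpow_right k
  have hyC : y ^ k ∈ Subgroup.centralizer ({y} : Set G) := by
    rw [Subgroup.mem_centralizer_singleton_iff]
    exact ((Commute.refl y).zpow_left k).eq
  have h3 : (g * y ^ k) ^ 2 = 1 := by
    rw [hcomm.mul_pow, ← hk, ← zpow_natCast (y ^ k) 2, ← zpow_mul, ← zpow_add]
    have h4 : k + k * ((2 : ℕ) : ℤ) = 3 * k := by push_cast; ring
    rw [h4, zpow_mul]
    have h5 : y ^ (3 : ℤ) = 1 := by
      have := pow_orderOf_eq_one y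
      rw [hy] at this
      exact_mod_cast this
    rw [h5, one_zpow]
  have hmk : (QuotientGroup.mk (⟨g * y ^ k, mul_mem hgC hyC⟩ : Subgroup.centralizer ({y} : Set G)) :
        Subgroup.centralizer ({y} : Set G) ⧸ (Subgroup.zpowers y).subgroupOf (Subgroup.centralizer ({y} : Set G))) =
      QuotientGroup.mk (⟨g, hgC⟩ : Subgroup.centralizer ({y} : Set G)) := by
    rw [eq_comm, QuotientGroup.eq, Subgroup.mem_subgroupOf]
    show g⁻¹ * (g * y ^ k) ∈ Subgroup.zpowers y
    rw [inv_mul_cancel_left]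
    exact Subgroup.zpow_mem_zpowers y k
  refine ⟨g * y ^ k, mul_mem hgC hyC, ?_, hmk⟩
  apply orderOf_eq_prime h3
  intro h6
  have h7 : (QuotientGroup.mk (⟨g, hgC⟩ : Subgroup.centralizer ({y} : Set G)) :
        Subgroup.centralizer ({y} : Set G) ⧸ (Subgroup.zpowers y).subgroupOf (Subgroup.centralizer ({y} : Set G))) = 1 := by
    rw [← hmk, QuotientGroup.eq_one_iff, Subgroup.mem_subgroupOf]
    show g * y ^ k ∈ Subgroup.zpowers y
    rw [h6]; exact one_mem _
  rw [h7, orderOf_one] at hq
  omega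

theorem quot_a6_of {G : Type*} [Group G] [Finite G] (S : Setup G) (h1 : One S) {x y s : G} (hx : orderOf x = 5)
    (hy : orderOf y = 3) (hs : orderOf s = 2) (hxy : x * y = y * x) (hsy : s * y = y * s)
    [hn : (Subgroup.zpowers y |>.subgroupOf (Subgroup.centralizer ({y} : Set G))).Normal]
    (cent_dih : ∀ {s : G} (_ : S.Z s) (_ : s * y = y * s) (hsC : s ∈ Subgroup.centralizer ({y} : Set G)),
      Nonempty (Subgroup.centralizer ({(QuotientGroup.mk (⟨s, hsC⟩ : Subgroup.centralizer ({y} : Set G)) :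
      Subgroup.centralizer ({y} : Set G) ⧸ (Subgroup.zpowers y).subgroupOf (Subgroup.centralizer ({y} : Set G)))} :
        Set (Subgroup.centralizer ({y} : Set G) ⧸ (Subgroup.zpowers y).subgroupOf (Subgroup.centralizer ({y} : Set G)))) ≃*
      DihedralGroup 4)) :
    Nonempty ((Subgroup.centralizer ({y} : Set G) ⧸ (Subgroup.zpowers y).subgroupOf (Subgroup.centralizer ({y} : Set G))) ≃*
      alternatingGroup (Fin 6)) := by
  classical
  have hsC : s ∈ Subgroup.centralizer ({y} : Set G) := Subgroup.mem_centralizer_singleton_iff.2 hsy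
  have hxC : x ∈ Subgroup.centralizer ({y} : Set G) := Subgroup.mem_centralizer_singleton_iff.2 hxy
  have hord : ∀ {g : G} (hgC : g ∈ Subgroup.centralizer ({y} : Set G)) {p : ℕ} (hp : p.Prime) (hp3 : p ≠ 3)
      (hg : orderOf g = p), orderOf (QuotientGroup.mk (⟨g, hgC⟩ : Subgroup.centralizer ({y} : Set G)) :
        Subgroup.centralizer ({y} : Set G) ⧸ (Subgroup.zpowers y).subgroupOf (Subgroup.centralizer ({y} : Set G))) = p := by
    intro g hgC p hp hp3 hg
    haveI : Fact p.Prime := ⟨hp⟩
    apply orderOf_eq_prime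
    · rw [← QuotientGroup.mk_pow]
      have h2 : (⟨g, hgC⟩ : Subgroup.centralizer ({y} : Set G)) ^ p = 1 := by
        apply Subtype.ext
        show g ^ p = 1
        rw [← hg, pow_orderOf_eq_one]
      rw [h2]; rfl
    · intro h3
      rw [QuotientGroup.eq_one_iff, Subgroup.mem_subgroupOf] at h3
      have h4 : orderOf g ∣ Nat.card (Subgroup.zpowers y) := Subgroup.orderOf_dvd_natCard _ h3
      rw [Nat.card_zpowers, hy, hg, Nat.prime_dvd_prime_iff_eq hp Nat.prime_three] at h4
      exact hp3 h4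
  refine a6_of_cent ?_ (hord hsC Nat.prime_two (by decide) hs) ?_
  · have h2 := hord hxC Nat.prime_five (by decide) hx
    rw [← h2]
    exact orderOf_dvd_natCard _
  · intro q hq
    obtain ⟨u, huC, hu, rfl⟩ := lift_inv hy q hq
    have hu1 : u ≠ 1 := by rintro rfl; rw [orderOf_one] at hu; omega
    have huu : u * u = 1 := by
      have := pow_orderOf_eq_one u
      rwa [hu, pow_two] at this
    exact cent_dih (h1 u huu hu1) (Subgroup.mem_centralizer_singleton_iff.1 huC) huC

end Cfsg.Agent.Lib.J3P
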