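import Cfsg.Agent.Lib.JTw26
import Mathlib

set_option autoImplicit false
open Cfsg Cfsg.Agent.Lib.LargeExtra Cfsg.Agent.Lib.JTw Cfsg.Agent.Lib.JTw.Setup

namespace Cfsg.Agent.Lib.J3P

/-- one class of involutions -/
def One {G : Type*} [Group G] (S : Setup G) : Prop := ∀ y : G, y * y = 1 → y ≠ 1 → S.Z y

/-- the 5-local configuration -/
structure Five (G : Type*) [Group G] (x y j i : G) : Prop where
  hx : orderOf x = 5
  hy : orderOf y = 3
  hj : orderOf j = 2
  hi : orderOf i = 2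
  xy : x * y = y * x
  xj : x * j = j * x
  jy : j * y * j⁻¹ = y⁻¹
  ix : i * x * i⁻¹ = x⁻¹
  iy : i * y = y * i
  ij : i * j = j * i
  card : Nat.card (Subgroup.normalizer (Subgroup.zpowers x : Set G)) = 60

end Cfsg.Agent.Lib.J3P
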