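import Cfsg.Agent.Lib.J3PC4
import Cfsg.Agent.Lib.J3PE0
import Cfsg.Agent.Lib.J3PDef

/-!
# S0456, piece E1 (helper26): an involution inverting `y` and centralizing `x`
-/

set_option autoImplicit false
set_option linter.all false

namespace Cfsg.Agent.Lib.J3P.E1

open Subgroup Cfsg

variable {G : Type*} [Group G] [Finite G]

theorem conj_pow_pow {g x : G} {k : ℕ} (h : g * x * g⁻¹ = x ^ k) (m : ℕ) : g ^ m * x * (g ^ m)⁻¹ = x ^ (k ^ m) := by
  induction m with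
  | zero => simp
  | succ m ih =>
    have h1 : g ^ (m + 1) * x * (g ^ (m + 1))⁻¹ = g ^ m * (g * x * g⁻¹) * (g ^ m)⁻¹ := by rw [pow_succ]; group
    rw [h1, h]
    have h2 : g ^ m * x ^ k * (g ^ m)⁻¹ = (g ^ m * x * (g ^ m)⁻¹) ^ k := by rw [conj_pow]
    rw [h2, ih, ← pow_mul, pow_succ]

theorem two_pow_odd_mod_three {m : ℕ} (hm : Odd m) : 2 ^ m % 3 = 2 := by
  obtain ⟨k, rfl⟩ := hm
  rw [pow_succ, pow_mul, Nat.mul_mod, Nat.pow_mod]
  norm_num

theorem four_pow_odd_mod_five {m : ℕ} (hm : Odd m) : 4 ^ m % 5 = 4 := by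
  obtain ⟨k, rfl⟩ := hm
  rw [pow_succ, pow_mul, Nat.mul_mod, Nat.pow_mod]
  norm_num

/-- 2-part of an element -/
theorem exists_two_part (g : G) : ∃ m a : ℕ, Odd m ∧ orderOf (g ^ m) = 2 ^ a := by
  obtain ⟨k, m, hm2, hkm⟩ := Nat.exists_eq_pow_mul_and_not_dvd (orderOf_pos g).ne' 2 (by norm_num)
  refine ⟨m, k, ?_, ?_⟩
  · rw [← Nat.not_even_iff_odd, even_iff_two_dvd]; exact hm2
  · rw [orderOf_pow, hkm, Nat.gcd_eq_right (dvd_mul_left _ _), Nat.mul_div_cancel _ (Nat.pos_of_ne_zero (by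
      rintro rfl; exact hm2 (dvd_zero 2)))]

theorem ord_dvd_card {H : Subgroup G} {y : G} (hy : y ∈ H) : orderOf y ∣ Nat.card H := by
  have := orderOf_dvd_natCard (⟨y, hy⟩ : H)
  rwa [orderOf_mk] at this

theorem mem_norm_of_inv {g x : G} (h : g * x * g⁻¹ = x⁻¹) : g ∈ Subgroup.normalizer (Subgroup.zpowers x : Set G) := by
  rw [Subgroup.mem_normalizer_iff]
  intro n
  have h' : g⁻¹ * x * g = x⁻¹ := by
    have h1 : (g * x * g⁻¹)⁻¹ = (x⁻¹)⁻¹ := by rw [h]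
    rw [inv_inv] at h1
    have h2 : x = g * x⁻¹ * g⁻¹ := by
      have h3 : g * x⁻¹ * g⁻¹ = (g * x * g⁻¹)⁻¹ := by group
      rw [h3, h1]
    calc g⁻¹ * x * g = g⁻¹ * (g * x⁻¹ * g⁻¹) * g := by rw [← h2]
      _ = x⁻¹ := by group
  constructor
  · rintro ⟨k, rfl⟩
    refine ⟨-k, ?_⟩
    show x ^ (-k) = g * x ^ k * g⁻¹
    rw [← conj_zpow, h, inv_zpow, zpow_neg]
  · rintro ⟨k, hk⟩
    refine ⟨-k, ?_⟩
    have h1 : n = g⁻¹ * x ^ k * (g⁻¹)⁻¹ := by
      have : x ^ k = g * n * g⁻¹ := hk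
      rw [this]; group
    have h2 : g⁻¹ * x * (g⁻¹)⁻¹ = x⁻¹ := by rw [inv_inv]; exact h'
    show x ^ (-k) = n
    rw [h1, ← conj_zpow, h2, inv_zpow, zpow_neg]

theorem main {x y : G} (hx : orderOf x = 5) (hy : orderOf y = 3) (hxy : x * y = y * x)
    (hinv : ∃ j : G, j * y * j⁻¹ = y⁻¹)
    (h1080 : Nat.card (Subgroup.centralizer ({y} : Set G)) = 1080)
    (h15 : Nat.card ↥(Subgroup.centralizer ({x} : Set G) ⊓ Subgroup.centralizer ({y} : Set G)) = 15)
    (h30 : Nat.card ↥(Subgroup.normalizer (Subgroup.zpowers x : Set G) ⊓ Subgroup.centralizer ({y} : Set G)) = 30)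
    (hi : ∃ i : G, i * y = y * i ∧ i * x * i⁻¹ = x⁻¹)
    (hno : ∀ s g : G, s * s = 1 → s ≠ 1 → s * y = y * s → g * s = s * g → g * y * g⁻¹ = y⁻¹ → g ^ 4 = 1 → g ^ 2 = 1) :
    ∃ j : G, orderOf j = 2 ∧ j * x = x * j ∧ j * y * j⁻¹ = y⁻¹ := by
  have hx5 : x ^ 5 = 1 := by rw [← hx]; exact pow_orderOf_eq_one x
  have hy3 : y ^ 3 = 1 := by rw [← hy]; exact pow_orderOf_eq_one y
  have hyi : y⁻¹ = y ^ 2 := by
    rw [inv_eq_iff_mul_eq_one, ← pow_succ', hy3]
  have hx1 : x ≠ 1 := by rintro rfl; simp at hx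
  have hy1 : y ≠ 1 := by rintro rfl; simp at hy
  have hyne : y⁻¹ ≠ y := by
    intro h
    have h2 : y * y = 1 := by rw [← inv_eq_iff_mul_eq_one]; exact h
    have h3 : orderOf y ∣ 2 := orderOf_dvd_of_pow_eq_one (by rw [pow_two]; exact h2)
    rw [hy] at h3
    norm_num at h3
  have hxne : x⁻¹ ≠ x := by
    intro h
    have h2 : x * x = 1 := by rw [← inv_eq_iff_mul_eq_one]; exact h
    have h3 : orderOf x ∣ 2 := orderOf_dvd_of_pow_eq_one (by rw [pow_two]; exact h2)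
    rw [hx] at h3
    norm_num at h3
  have hpowmod : ∀ k : ℕ, x ^ k = x ^ (k % 5) := fun k => by rw [← hx, pow_mod_orderOf]
  have hypowmod : ∀ k : ℕ, y ^ k = y ^ (k % 3) := fun k => by rw [← hy, pow_mod_orderOf]
  -- an element inverting y and normalizing <x>
  have hg0 : ∃ g : G, g * y * g⁻¹ = y⁻¹ ∧ ∃ k : ℕ, k < 5 ∧ g * x * g⁻¹ = x ^ k := by
    obtain ⟨j, hj⟩ := hinv
    set C : Subgroup G := Subgroup.centralizer ({y} : Set G) with hC
    have hxC : x ∈ C := by rw [hC, mem_centralizer_singleton_iff]; exact hxy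
    have hx'C : j * x * j⁻¹ ∈ C := by
      rw [hC, mem_centralizer_singleton_iff]
      have h1 : y = j * y⁻¹ * j⁻¹ := by
        have h0 : j * y⁻¹ * j⁻¹ = y := by
          calc j * y⁻¹ * j⁻¹ = (j * y * j⁻¹)⁻¹ := by group
            _ = y := by rw [hj, inv_inv]
        exact h0.symm
      have h2 : x * y⁻¹ = y⁻¹ * x := by
        have := (Commute.inv_right (show Commute x y from hxy)).eq
        exact this
      calc (j * x * j⁻¹) * y = (j * x * j⁻¹) * (j * y⁻¹ * j⁻¹) := by rw [← h1]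
        _ = j * (x * y⁻¹) * j⁻¹ := by group
        _ = j * (y⁻¹ * x) * j⁻¹ := by rw [h2]
        _ = (j * y⁻¹ * j⁻¹) * (j * x * j⁻¹) := by group
        _ = y * (j * x * j⁻¹) := by rw [← h1]
    haveI : Fact (Nat.Prime 5) := ⟨by norm_num⟩
    have key : ∀ z : C, orderOf z = 5 → ∃ P : Sylow 5 C, (P : Subgroup C) = zpowers z := by
      intro z hz
      have h1 : IsPGroup 5 (zpowers z) := IsPGroup.of_card (n := 1) (by rw [Nat.card_zpowers, hz, pow_one])
      have h2 : ¬ 5 ∣ (zpowers z).index := by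
        have h3 := (zpowers z).card_mul_index
        rw [Nat.card_zpowers, hz, h1080] at h3
        have h4 : (zpowers z).index = 216 := by omega
        rw [h4]; norm_num
      exact ⟨h1.toSylow h2, rfl⟩
    obtain ⟨P1, hP1⟩ := key ⟨x, hxC⟩ (by rw [orderOf_mk]; exact hx)
    obtain ⟨P2, hP2⟩ := key ⟨j * x * j⁻¹, hx'C⟩ (by
      rw [orderOf_mk]
      have : orderOf (j * x * j⁻¹) = orderOf x := orderOf_injective (MulAut.conj j).toMonoidHom (MulAut.conj j).injective x ▸ rfl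
      rw [this, hx])
    obtain ⟨c, hc⟩ := MulAction.exists_smul_eq C P2 P1
    have h1 : c * ⟨j * x * j⁻¹, hx'C⟩ * c⁻¹ ∈ (P1 : Subgroup C) := by
      rw [← hc, Sylow.coe_subgroup_smul, Subgroup.mem_smul_pointwise_iff_exists]
      refine ⟨⟨j * x * j⁻¹, hx'C⟩, ?_, rfl⟩
      rw [hP2]; exact mem_zpowers _
    rw [hP1] at h1
    obtain ⟨n, hn⟩ := h1
    have hn' : x ^ n = (c : G) * (j * x * j⁻¹) * (c : G)⁻¹ := congrArg Subtype.val hn
    refine ⟨(c : G) * j, ?_, ?_⟩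
    · have h2 : (c : G) * y = y * (c : G) := mem_centralizer_singleton_iff.1 c.2
      have h3 : (c : G) * y⁻¹ = y⁻¹ * (c : G) := (Commute.inv_right (show Commute (c : G) y from h2)).eq
      calc (c : G) * j * y * ((c : G) * j)⁻¹ = (c : G) * (j * y * j⁻¹) * (c : G)⁻¹ := by group
        _ = (c : G) * y⁻¹ * (c : G)⁻¹ := by rw [hj]
        _ = y⁻¹ := by rw [h3]; group
    · refine ⟨(n % 5).toNat, ?_, ?_⟩
      · have := Int.emod_lt_of_pos n (show (0 : ℤ) < 5 by norm_num)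
        have h0 := Int.emod_nonneg n (show (5 : ℤ) ≠ 0 by norm_num)
        omega
      · have h0 := Int.emod_nonneg n (show (5 : ℤ) ≠ 0 by norm_num)
        have h2 : x ^ (n % 5).toNat = x ^ n := by
          rw [← zpow_natCast, Int.toNat_of_nonneg h0]
          have h5 : (5 : ℤ) = (orderOf x : ℤ) := by rw [hx]; rfl
          rw [h5, zpow_mod_orderOf]
        rw [h2, hn']; group
  obtain ⟨g, hgy, k, hk5, hgx⟩ := hg0
  have hgy2 : g * y * g⁻¹ = y ^ 2 := by rw [hgy, hyi]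
  -- conclusion from an element inverting y and centralizing x
  have fin : ∀ g1 : G, g1 * y * g1⁻¹ = y ^ 2 → g1 * x * g1⁻¹ = x ^ 1 →
      ∃ j : G, orderOf j = 2 ∧ j * x = x * j ∧ j * y * j⁻¹ = y⁻¹ := by
    intro g1 h1 h2
    obtain ⟨m, a, hm, ho⟩ := exists_two_part g1
    have e1 := conj_pow_pow h1 m
    have e2 := conj_pow_pow h2 m
    rw [hypowmod, two_pow_odd_mod_three hm, ← hyi] at e1
    rw [one_pow, pow_one] at e2
    have e3 : g1 ^ m * x = x * g1 ^ m := mul_inv_eq_iff_eq_mul.1 e2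
    have e4 : (g1 ^ m) ^ 2 * y = y * (g1 ^ m) ^ 2 := by
      have h3 : g1 ^ m * y⁻¹ * (g1 ^ m)⁻¹ = y := by
        calc g1 ^ m * y⁻¹ * (g1 ^ m)⁻¹ = (g1 ^ m * y * (g1 ^ m)⁻¹)⁻¹ := by
              rw [mul_inv_rev, mul_inv_rev, inv_inv, mul_assoc]
          _ = y := by rw [e1, inv_inv]
      have h4 : (g1 ^ m) ^ 2 * y * ((g1 ^ m) ^ 2)⁻¹ = y := by
        calc (g1 ^ m) ^ 2 * y * ((g1 ^ m) ^ 2)⁻¹ = g1 ^ m * (g1 ^ m * y * (g1 ^ m)⁻¹) * (g1 ^ m)⁻¹ := by group
          _ = y := by rw [e1, h3]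
      exact mul_inv_eq_iff_eq_mul.1 h4
    have e5 : (g1 ^ m) ^ 2 ∈ Subgroup.centralizer ({x} : Set G) ⊓ Subgroup.centralizer ({y} : Set G) := by
      refine ⟨?_, ?_⟩
      · exact mem_centralizer_singleton_iff.2 ((show Commute (g1 ^ m) x from e3).pow_left 2).eq
      · exact mem_centralizer_singleton_iff.2 e4
    have e6 := ord_dvd_card e5
    rw [h15] at e6
    have e7 : orderOf ((g1 ^ m) ^ 2) ∣ 2 ^ a := by
      rw [← ho]; exact orderOf_pow_dvd 2
    have e8 : orderOf ((g1 ^ m) ^ 2) = 1 :=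
      Nat.eq_one_of_dvd_coprimes (Nat.Coprime.pow_right a (by norm_num : Nat.Coprime 15 2)) e6 e7
    rw [orderOf_eq_one_iff] at e8
    refine ⟨g1 ^ m, orderOf_eq_prime e8 ?_, e3, e1⟩
    intro h3
    rw [h3, one_mul, inv_one, mul_one] at e1
    exact hyne e1.symm
  have c23 : k ^ 2 % 5 = 4 → False := by
    intro hk
    obtain ⟨m, a, hm, ho⟩ := exists_two_part g
    have e1 := conj_pow_pow hgy2 m
    have e2 := conj_pow_pow hgx m
    rw [hypowmod, two_pow_odd_mod_three hm, ← hyi] at e1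
    set g' := g ^ m with hg'
    -- g'^2 commutes with y
    have e3 : g' * y⁻¹ * g'⁻¹ = y := by
      calc g' * y⁻¹ * g'⁻¹ = (g' * y * g'⁻¹)⁻¹ := by group
        _ = y := by rw [e1, inv_inv]
    have e4 : g' ^ 2 * y = y * g' ^ 2 := by
      have h4 : g' ^ 2 * y * (g' ^ 2)⁻¹ = y := by
        calc g' ^ 2 * y * (g' ^ 2)⁻¹ = g' * (g' * y * g'⁻¹) * g'⁻¹ := by
              rw [pow_two, mul_inv_rev]; simp only [mul_assoc]
          _ = y := by rw [e1, e3]
      exact mul_inv_eq_iff_eq_mul.1 h4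
    have e5 : g' ^ 2 * x * (g' ^ 2)⁻¹ = x⁻¹ := by
      have h5 := conj_pow_pow e2 2
      rw [h5, hpowmod]
      have h6 : (k ^ m) ^ 2 % 5 = 4 := by
        rw [← pow_mul, mul_comm m 2, pow_mul, Nat.pow_mod, hk]
        exact four_pow_odd_mod_five hm
      rw [h6, eq_comm, inv_eq_iff_mul_eq_one, ← pow_succ', hx5]
    have e6 : g' ^ 2 ∈ Subgroup.normalizer (Subgroup.zpowers x : Set G) ⊓ Subgroup.centralizer ({y} : Set G) := by
      refine ⟨?_, mem_centralizer_singleton_iff.2 e4⟩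
      exact Cfsg.Agent.Lib.J3P.E1.mem_norm_of_inv e5
    have e7 := ord_dvd_card e6
    rw [h30] at e7
    have e8 : orderOf (g' ^ 2) ∣ 2 ^ a := by
      rw [← ho]; exact orderOf_pow_dvd 2
    have e9 : orderOf (g' ^ 2) ∣ 2 := by
      have h1 : Nat.Coprime (orderOf (g' ^ 2)) 15 := Nat.Coprime.coprime_dvd_left e8 (Nat.Coprime.pow_left a (by norm_num))
      exact h1.dvd_of_dvd_mul_right (show orderOf (g' ^ 2) ∣ 2 * 15 from e7)
    have e10 : (g' ^ 2) ^ 2 = 1 := orderOf_dvd_iff_pow_eq_one.1 e9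
    have e11 : g' ^ 2 ≠ 1 := by
      intro h
      rw [h, one_mul, inv_one, mul_one] at e5
      exact hxne e5.symm
    apply e11
    apply hno (g' ^ 2) g' (by rw [← pow_two]; exact e10) e11 e4 (by rw [← pow_succ, ← pow_succ']) e1
    rw [← pow_mul] at e10
    exact e10
  interval_cases k
  · -- k = 0
    exfalso
    rw [pow_zero] at hgx
    apply hx1
    calc x = g⁻¹ * (g * x * g⁻¹) * g := by group
      _ = 1 := by rw [hgx]; group
  · exact fin g hgy2 hgx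
  · exact (c23 (by norm_num)).elim
  · exact (c23 (by norm_num)).elim
  · -- k = 4
    obtain ⟨i, hiy, hix⟩ := hi
    apply fin (i * g)
    · have h3 : i * y ^ 2 = y ^ 2 * i := ((show Commute i y from hiy).pow_right 2).eq
      calc i * g * y * (i * g)⁻¹ = i * (g * y * g⁻¹) * i⁻¹ := by group
        _ = y ^ 2 := by rw [hgy2, h3]; group
    · calc i * g * x * (i * g)⁻¹ = i * (g * x * g⁻¹) * i⁻¹ := by group
        _ = (i * x * i⁻¹) ^ 4 := by rw [hgx, conj_pow]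
        _ = x ^ 1 := by
          rw [hix, inv_pow, inv_eq_iff_mul_eq_one, ← pow_add, hx5]

end Cfsg.Agent.Lib.J3P.E1

namespace Cfsg.Agent.Lib.J3P

open Cfsg Cfsg.Agent.Lib.LargeExtra Cfsg.Agent.Lib.JTw Cfsg.Agent.Lib.JTw.Setup

/-- E1 from the quotient isomorphism (D) and the involutions of C3 -/
theorem exists_j_of {G : Type*} [Group G] [Finite G] (S : Setup G) (h1 : One S) {x y s : G} (hx : orderOf x = 5)
    (hy : orderOf y = 3) (hs : orderOf s = 2) (hxy : x * y = y * x) (hsy : s * y = y * s)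
    [hn : (Subgroup.zpowers y |>.subgroupOf (Subgroup.centralizer ({y} : Set G))).Normal]
    (e : (Subgroup.centralizer ({y} : Set G) ⧸ (Subgroup.zpowers y).subgroupOf (Subgroup.centralizer ({y} : Set G))) ≃*
      alternatingGroup (Fin 6))
    (exists_inv : ∀ {s : G}, S.Z s → s * y = y * s → ∃ j : G, j * s = s * j ∧ j * j = 1 ∧ j * y * j⁻¹ = y⁻¹) :
    ∃ j : G, orderOf j = 2 ∧ j * x = x * j ∧ j * y * j⁻¹ = y⁻¹ := by
  obtain ⟨h1080, h15, h30, i, hi2, hiy, hix⟩ := six_facts hy e hx hxy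
  have hss : s * s = 1 := by rw [← pow_two, ← hs]; exact pow_orderOf_eq_one s
  have hs1 : s ≠ 1 := by rintro rfl; simp at hs
  obtain ⟨j, -, -, hj⟩ := exists_inv (h1 s hss hs1) hsy
  refine E1.main hx hy hxy ⟨j, hj⟩ h1080 h15 h30 ⟨i, hiy, hix⟩ ?_
  intro s g hss hs1 hsy hgs hgy h4
  exact no_four_of S (h1 s hss hs1) hy hsy (exists_inv (h1 s hss hs1) hsy) hgs hgy h4

end Cfsg.Agent.Lib.J3P
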