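import Cfsg.Agent.Lib.J3PB2
import Cfsg.Agent.Lib.J3PC5
import Cfsg.Agent.Lib.J3PE2
import Mathlib

set_option autoImplicit false
open Cfsg Cfsg.Agent.Lib.LargeExtra Cfsg.Agent.Lib.JTw Cfsg.Agent.Lib.JTw.Setup

namespace Cfsg.Agent.Lib.J3P

variable {G : Type*} [Group G] [Finite G]
set_option linter.unusedSectionVars false

theorem zp_fifteen {x y : G} (hx : orderOf x = 5) (hy : orderOf y = 3) (hxy : x * y = y * x)
    (h15 : Nat.card ↥(Subgroup.centralizer ({x} : Set G) ⊓ Subgroup.centralizer ({y} : Set G)) = 15) {w : G}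
    (hwx : w * x = x * w) (hwy : w * y = y * w) : ∃ k : ℤ, w = x ^ k * y ^ k := by
  have hc : Commute x y := hxy
  have ho : orderOf (x * y) = 15 := by
    rw [hc.orderOf_mul_eq_mul_orderOf_of_coprime (by rw [hx, hy]; norm_num), hx, hy]
  have he : Subgroup.zpowers (x * y) = Subgroup.centralizer ({x} : Set G) ⊓ Subgroup.centralizer ({y} : Set G) := by
    apply Subgroup.eq_of_le_of_card_ge
    · rw [Subgroup.zpowers_le]
      refine ⟨mem_centralizer_one.2 ?_, mem_centralizer_one.2 ?_⟩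
      · rw [mul_assoc, ← hxy]
      · rw [hxy, mul_assoc, hxy, ← mul_assoc]
    · rw [h15, Nat.card_zpowers, ho]
  have hw : w ∈ Subgroup.zpowers (x * y) := by
    rw [he]; exact ⟨mem_centralizer_one.2 hwx, mem_centralizer_one.2 hwy⟩
  obtain ⟨k, hk⟩ := Subgroup.mem_zpowers_iff.1 hw
  exact ⟨k, by rw [← hk, hc.mul_zpow]⟩

theorem cj_zpow (g a : G) (k : ℤ) : g * a ^ k * g⁻¹ = (g * a * g⁻¹) ^ k := conj_zpow.symm

theorem ij_comm {x y j i : G} (hx : orderOf x = 5) (hy : orderOf y = 3) (hj : j * j = 1) (hi : i * i = 1)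
    (hxy : x * y = y * x) (xj : x * j = j * x) (jy : j * y * j⁻¹ = y⁻¹) (ix : i * x * i⁻¹ = x⁻¹) (iy : i * y = y * i)
    (h15 : Nat.card ↥(Subgroup.centralizer ({x} : Set G) ⊓ Subgroup.centralizer ({y} : Set G)) = 15) :
    i * j = j * i := by
  have ii : i⁻¹ = i := inv_eq_of_mul_eq_one_left hi
  have ji : j⁻¹ = j := inv_eq_of_mul_eq_one_left hj
  have jx : j * x * j⁻¹ = x := cj_eq_self.2 xj.symm
  have iy' : i * y * i⁻¹ = y := cj_eq_self.2 iy
  set d := i * j * i * j with hd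
  have hdx : d * x = x * d := by
    have e1 : i * x = x⁻¹ * i := by rw [← ix]; group
    have e2 : i * x⁻¹ = x * i := by
      rw [← mul_inv_eq_iff_eq_mul, ← conj_inv, ix, inv_inv]
    have e3 : j * x = x * j := xj.symm
    have e4 : j * x⁻¹ = x⁻¹ * j := by
      rw [mul_inv_eq_iff_eq_mul, mul_assoc, e3, ← mul_assoc, inv_mul_cancel, one_mul]
    calc d * x = i * j * i * (j * x) := by rw [hd]; group
      _ = i * j * (i * x) * j := by rw [e3]; group
      _ = i * (j * x⁻¹) * i * j := by rw [e1]; group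
      _ = (i * x⁻¹) * j * i * j := by rw [e4]; group
      _ = x * d := by rw [e2, hd]; group
  have hdy : d * y = y * d := by
    have e1 : j * y = y⁻¹ * j := by rw [← jy]; group
    have e2 : j * y⁻¹ = y * j := by
      rw [← mul_inv_eq_iff_eq_mul, ← conj_inv, jy, inv_inv]
    have e4 : i * y⁻¹ = y⁻¹ * i := by
      rw [mul_inv_eq_iff_eq_mul, mul_assoc, iy, ← mul_assoc, inv_mul_cancel, one_mul]
    calc d * y = i * j * i * (j * y) := by rw [hd]; group
      _ = i * j * (i * y⁻¹) * j := by rw [e1]; group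
      _ = i * (j * y⁻¹) * i * j := by rw [e4]; group
      _ = (i * y) * j * i * j := by rw [e2]; group
      _ = y * d := by rw [iy, hd]; group
  obtain ⟨k, hk⟩ := zp_fifteen hx hy hxy h15 hdx hdy
  have hdinv : d⁻¹ = j * i * j * i := by rw [hd]; simp only [mul_inv_rev, ii, ji, mul_assoc]
  have hjd : j * d * j⁻¹ = d⁻¹ := by
    rw [hdinv, hd, ji]
    have : j * (i * j * i * j) * j = j * i * j * i * (j * j) := by group
    rw [this, hj, mul_one]
  have hid : i * d * i⁻¹ = d⁻¹ := by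
    rw [hdinv, hd, ii]
    have : i * (i * j * i * j) * i = (i * i) * (j * i * j * i) := by group
    rw [this, hi, one_mul]
  have hcx : Commute (x ^ k) (y ^ k) := (show Commute x y from hxy).zpow_zpow k k
  have e1 : x ^ k * (y⁻¹) ^ k = (y ^ k)⁻¹ * (x ^ k)⁻¹ := by
    rw [hk, cj_mul, cj_zpow, cj_zpow, jx, jy, mul_inv_rev] at hjd
    exact hjd
  have e2 : (x⁻¹) ^ k * y ^ k = (y ^ k)⁻¹ * (x ^ k)⁻¹ := by
    rw [hk, cj_mul, cj_zpow, cj_zpow, ix, iy', mul_inv_rev] at hid
    exact hid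
  rw [inv_zpow] at e1 e2
  have hx2 : (x ^ k) * (x ^ k) = 1 := by
    have h3 : x ^ k = (x ^ k)⁻¹ := by
      have : (y ^ k)⁻¹ * x ^ k = (y ^ k)⁻¹ * (x ^ k)⁻¹ := by
        rw [← e1]; exact (hcx.symm.inv_left).eq
      exact mul_left_cancel this
    nth_rewrite 2 [h3]
    rw [mul_inv_cancel]
  have hy2 : (y ^ k) * (y ^ k) = 1 := by
    have h3 : y ^ k = (y ^ k)⁻¹ := by
      have : (x ^ k)⁻¹ * y ^ k = (x ^ k)⁻¹ * (y ^ k)⁻¹ := by
        rw [e2]; exact (hcx.symm.inv_left.inv_right).eq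
      exact mul_left_cancel this
    nth_rewrite 2 [h3]
    rw [mul_inv_cancel]
  have hx1 : x ^ k = 1 := by
    have h5 : (x ^ k) ^ 5 = 1 := by
      rw [← zpow_natCast, ← zpow_mul, mul_comm, zpow_mul, zpow_natCast, ← hx, pow_orderOf_eq_one, one_zpow]
    have : x ^ k = (x ^ k) ^ 5 * ((x ^ k * x ^ k) * (x ^ k * x ^ k))⁻¹ := by group
    rw [this, h5, hx2]; group
  have hy1 : y ^ k = 1 := by
    have h3 : (y ^ k) ^ 3 = 1 := by
      rw [← zpow_natCast, ← zpow_mul, mul_comm, zpow_mul, zpow_natCast, ← hy, pow_orderOf_eq_one, one_zpow]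
    have : y ^ k = (y ^ k) ^ 3 * (y ^ k * y ^ k)⁻¹ := by group
    rw [this, h3, hy2]; group
  rw [hx1, hy1, mul_one] at hk
  have h4 : i * j * (i * j) = 1 := by rw [← mul_assoc, ← hd, hk]
  have h5 : (i * j)⁻¹ = i * j := inv_eq_of_mul_eq_one_left h4
  rw [mul_inv_rev, ii, ji] at h5
  exact h5.symm

theorem card_cent_x (S : Setup G) (h1 : One S) {x y j : G} (hx : orderOf x = 5) (hy : orderOf y = 3)
    (hj : orderOf j = 2) (hxy : x * y = y * x) (jx : j * x = x * j) (jy : j * y * j⁻¹ = y⁻¹)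
    (h15 : Nat.card ↥(Subgroup.centralizer ({x} : Set G) ⊓ Subgroup.centralizer ({y} : Set G)) = 15) :
    Nat.card (Subgroup.centralizer ({x} : Set G)) = 30 := by
  have hZj : S.Z j := by
    have h := InvAct.orderOf_two_iff.1 hj
    exact h1 j h.1 h.2
  set H := Subgroup.centralizer ({x} : Set G) with hH
  have hxH : x ∈ H := mem_centralizer_one.2 rfl
  have hyH : y ∈ H := mem_centralizer_one.2 hxy.symm
  have hjH : j ∈ H := mem_centralizer_one.2 jx
  have hcc : ∀ (a : G) (ha : a ∈ H), Nat.card (Subgroup.centralizer ({(⟨a, ha⟩ : H)} : Set H)) =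
      Nat.card ↥(H ⊓ Subgroup.centralizer ({a} : Set G)) := by
    intro a ha
    have e : (Subgroup.centralizer ({(⟨a, ha⟩ : H)} : Set H)).map H.subtype = H ⊓ Subgroup.centralizer ({a} : Set G) := by
      ext v
      constructor
      · rintro ⟨w, hw, rfl⟩
        refine ⟨w.2, mem_centralizer_one.2 ?_⟩
        exact congrArg Subtype.val (mem_centralizer_one.1 hw)
      · rintro ⟨hv1, hv2⟩
        refine ⟨⟨v, hv1⟩, mem_centralizer_one.2 ?_, rfl⟩
        exact Subtype.ext (mem_centralizer_one.1 hv2)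
    rw [← e]
    exact Nat.card_congr (Subgroup.equivMapOfInjective _ _ (Subgroup.subtype_injective _)).toEquiv
  apply cent_thirty (H := H) (x := ⟨x, hxH⟩) (y := ⟨y, hyH⟩) (j := ⟨j, hjH⟩)
  · intro g; exact Subtype.ext (mem_centralizer_one.1 g.2)
  · rw [← hx]; exact (Subgroup.orderOf_mk x hxH)
  · rw [← hy]; exact (Subgroup.orderOf_mk y hyH)
  · rw [← hj]; exact (Subgroup.orderOf_mk j hjH)
  · exact Subtype.ext jy
  · rw [hcc j hjH, inf_comm]
    exact cent_five S hZj hx jx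
  · rw [hcc y hyH]; exact h15

theorem exists_five_of (S : Setup G) (h1 : One S) {x y j i : G} (hx : orderOf x = 5) (hy : orderOf y = 3)
    (hj : orderOf j = 2) (hi : orderOf i = 2) (hxy : x * y = y * x) (jx : j * x = x * j) (jy : j * y * j⁻¹ = y⁻¹)
    (iy : i * y = y * i) (ix : i * x * i⁻¹ = x⁻¹)
    (h15 : Nat.card ↥(Subgroup.centralizer ({x} : Set G) ⊓ Subgroup.centralizer ({y} : Set G)) = 15)
    (h30 : Nat.card ↥(Subgroup.normalizer (Subgroup.zpowers x : Set G) ⊓ Subgroup.centralizer ({y} : Set G)) = 30) :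
    Five G x y j i := by
  have hc30 := card_cent_x S h1 hx hy hj hxy jx jy h15
  have hi2 := (InvAct.orderOf_two_iff.1 hi).1
  have hj2 := (InvAct.orderOf_two_iff.1 hj).1
  refine ⟨hx, hy, hj, hi, hxy, jx.symm, jy, ix, iy, ij_comm hx hy hj2 hi2 hxy jx.symm jy ix iy h15, ?_⟩
  set N := Subgroup.normalizer (Subgroup.zpowers x : Set G) with hN
  have hyp3 : y ^ 3 = 1 := by rw [← hy]; exact pow_orderOf_eq_one y
  have hNy : ∀ n ∈ N, n * y * n⁻¹ = y ∨ n * y * n⁻¹ = y⁻¹ := by
    intro n hn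
    have hnx : ∃ m : ℤ, n⁻¹ * x * n = x ^ m := by
      have h2 : n⁻¹ * x * n⁻¹⁻¹ ∈ Subgroup.zpowers x :=
        (Subgroup.mem_normalizer_iff.1 (inv_mem hn) x).1 (Subgroup.mem_zpowers x)
      obtain ⟨m, hm⟩ := Subgroup.mem_zpowers_iff.1 h2
      exact ⟨m, by rw [hm, inv_inv]⟩
    obtain ⟨m, hm⟩ := hnx
    have e1 : x = n * x ^ m * n⁻¹ := by rw [← hm]; group
    have hcx : (n * y * n⁻¹) * x = x * (n * y * n⁻¹) := by
      rw [e1, ← cj_mul, ← cj_mul]
      have : y * x ^ m = x ^ m * y := ((show Commute x y from hxy).zpow_left m).symm.eq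
      rw [this]
    have hcube : (n * y * n⁻¹) ^ 3 = 1 := by
      rw [conj_pow, ← hy, pow_orderOf_eq_one]; group
    have hW : n * y * n⁻¹ ∈ Subgroup.centralizer ({x} : Set G) ⊓ Subgroup.centralizer ({y} : Set G) := by
      set W := (Subgroup.centralizer ({y} : Set G)).subgroupOf (Subgroup.centralizer ({x} : Set G)) with hWd
      have hWc : Nat.card W = 15 := by
        rw [← h15]
        have e : W.map (Subgroup.subtype _) = Subgroup.centralizer ({x} : Set G) ⊓ Subgroup.centralizer ({y} : Set G) := by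
          rw [hWd, Subgroup.subgroupOf_map_subtype, inf_comm]
        rw [← e]
        exact Nat.card_congr (Subgroup.equivMapOfInjective _ _ (Subgroup.subtype_injective _)).toEquiv
      have hWi : W.index = 2 := by
        have h2 := Subgroup.card_mul_index W
        rw [hWc, hc30] at h2
        omega
      have h3 := Subgroup.mul_self_mem_of_index_two hWi (⟨n * y * n⁻¹, mem_centralizer_one.2 hcx⟩ : Subgroup.centralizer ({x} : Set G))
      have h4 := mul_mem h3 h3
      have h5 : (n * y * n⁻¹) * (n * y * n⁻¹) * ((n * y * n⁻¹) * (n * y * n⁻¹)) ∈ Subgroup.centralizer ({y} : Set G) := h4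
      have h6 : (n * y * n⁻¹) * (n * y * n⁻¹) * ((n * y * n⁻¹) * (n * y * n⁻¹)) = n * y * n⁻¹ := by
        have : (n * y * n⁻¹) * (n * y * n⁻¹) * ((n * y * n⁻¹) * (n * y * n⁻¹)) = (n * y * n⁻¹) ^ 3 * (n * y * n⁻¹) := by
          simp only [pow_succ, pow_zero, one_mul, mul_assoc]
        rw [this, hcube, one_mul]
      rw [h6] at h5
      exact ⟨mem_centralizer_one.2 hcx, h5⟩
    obtain ⟨k, hk⟩ := zp_fifteen hx hy hxy h15 (mem_centralizer_one.1 hW.1) (mem_centralizer_one.1 hW.2)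
    -- the cube is trivial, so `x ^ k = 1`
    have hcxy : Commute (x ^ k) (y ^ k) := (show Commute x y from hxy).zpow_zpow k k
    have hy3 : (y ^ k) ^ 3 = 1 := by
      rw [← zpow_natCast, ← zpow_mul, mul_comm, zpow_mul, zpow_natCast, ← hy, pow_orderOf_eq_one, one_zpow]
    have hx5 : (x ^ k) ^ 5 = 1 := by
      rw [← zpow_natCast, ← zpow_mul, mul_comm, zpow_mul, zpow_natCast, ← hx, pow_orderOf_eq_one, one_zpow]
    have hx3 : (x ^ k) ^ 3 = 1 := by
      have h7 := hcube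
      rw [hk, hcxy.mul_pow, hy3, mul_one] at h7
      exact h7
    have hx1 : x ^ k = 1 := by
      have : x ^ k = (x ^ k) ^ 3 * (x ^ k) ^ 3 * ((x ^ k) ^ 5)⁻¹ := by group
      rw [this, hx3, hx5]; group
    rw [hx1, one_mul] at hk
    have hk3 := zpow_mod_orderOf y k
    rw [hy] at hk3
    have hk0 : k % ((3 : ℕ) : ℤ) = 0 ∨ k % ((3 : ℕ) : ℤ) = 1 ∨ k % ((3 : ℕ) : ℤ) = 2 := by omega
    rcases hk0 with h | h | h
    · exfalso
      rw [h, zpow_zero] at hk3
      rw [← hk3] at hk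
      have : y = 1 := cj_eq_one.1 hk
      rw [this, orderOf_one] at hy; omega
    · left; rw [hk, ← hk3, h, zpow_one]
    · right
      rw [hk, ← hk3, h, eq_comm, inv_eq_iff_mul_eq_one]
      rw [show ((2 : ℤ)) = ((2 : ℕ) : ℤ) by norm_num, zpow_natCast, ← pow_succ']
      exact hyp3
  have h3 := InvAct.card_conj_orbit N y
  have h4 : {v : G | ∃ k ∈ N, k * y * k⁻¹ = v} = {y, y⁻¹} := by
    ext v
    constructor
    · rintro ⟨k, hk, rfl⟩
      rcases hNy k hk with h | h
      · rw [h]; exact Or.inl rfl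
      · rw [h]; exact Or.inr rfl
    · rintro (h | h)
      · exact ⟨1, one_mem _, by rw [h]; group⟩
      · refine ⟨j, ?_, by rw [jy]; exact h.symm⟩
        apply Subgroup.mem_normalizer_fintype
        intro z hz
        obtain ⟨m, rfl⟩ := Subgroup.mem_zpowers_iff.1 hz
        refine Subgroup.mem_zpowers_iff.2 ⟨m, ?_⟩
        rw [← conj_zpow, cj_eq_self.2 jx]
  have h5 : ({y, y⁻¹} : Set G).ncard = 2 := by
    apply Set.ncard_pair
    intro h
    have h6 : y * y = 1 := by nth_rewrite 2 [h]; exact mul_inv_cancel y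
    have h7 : orderOf y ∣ 2 := orderOf_dvd_of_pow_eq_one (by rw [pow_two]; exact h6)
    rw [hy] at h7; revert h7; decide
  rw [h3, h4, h5, h30]

end Cfsg.Agent.Lib.J3P
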