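import Cfsg.Agent.Lib.J3PDef
import Cfsg.Agent.Lib.J3PF2a
import Mathlib

set_option autoImplicit false

namespace Cfsg.Agent.Lib.J3P

section

variable {G : Type*} [Group G] {x y j i : G}

theorem mul_self_of_two {g : G} (h : orderOf g = 2) : g * g = 1 := by
  rw [← pow_two, ← h, pow_orderOf_eq_one]

theorem Five.fxs (h : Five G x y j i) : i * x * i = x⁻¹ := by
  have h1 := h.ix
  rwa [inv_eq_of_mul_eq_one_left (mul_self_of_two h.hi)] at h1

theorem Five.fys (h : Five G x y j i) : j * y * j = y⁻¹ := by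
  have h1 := h.jy
  rwa [inv_eq_of_mul_eq_one_left (mul_self_of_two h.hj)] at h1

theorem Five.x5 (h : Five G x y j i) : x ^ 5 = 1 := by rw [← h.hx, pow_orderOf_eq_one]
theorem Five.y3 (h : Five G x y j i) : y ^ 3 = 1 := by rw [← h.hy, pow_orderOf_eq_one]

noncomputable def fx (h : Five G x y j i) : DihedralGroup 5 →* G :=
  DihedralHom.lift x i h.x5 (mul_self_of_two h.hi) h.fxs

noncomputable def fy (h : Five G x y j i) : DihedralGroup 3 →* G :=
  DihedralHom.lift y j h.y3 (mul_self_of_two h.hj) h.fys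

theorem f_comm (h : Five G x y j i) (u : DihedralGroup 5) (v : DihedralGroup 3) : Commute (fx h u) (fy h v) := by
  apply lift_commute
  · apply Commute.symm
    apply lift_commute
    · exact h.xy.symm
    · exact h.xj.symm
  · apply Commute.symm
    apply lift_commute
    · exact h.iy.symm
    · exact h.ij.symm

/-- `D10 × S3` as a subgroup -/
noncomputable def phi (h : Five G x y j i) : DihedralGroup 5 × DihedralGroup 3 →* G :=
  MonoidHom.noncommCoprod (fx h) (fy h) (f_comm h)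

theorem phi_apply (h : Five G x y j i) (u : DihedralGroup 5) (v : DihedralGroup 3) :
    phi h (u, v) = fx h u * fy h v := rfl

theorem phi_r (h : Five G x y j i) : phi h (DihedralGroup.r 1, 1) = x := by
  rw [phi_apply, map_one, mul_one]
  exact DihedralHom.lift_r_one _ _ _ _ _

theorem phi_sr (h : Five G x y j i) : phi h (DihedralGroup.sr 0, 1) = i := by
  rw [phi_apply, map_one, mul_one]
  exact DihedralHom.lift_sr_zero _ _ _ _ _

theorem phi_r' (h : Five G x y j i) : phi h (1, DihedralGroup.r 1) = y := by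
  rw [phi_apply, map_one, one_mul]
  exact DihedralHom.lift_r_one _ _ _ _ _

theorem phi_sr' (h : Five G x y j i) : phi h (1, DihedralGroup.sr 0) = j := by
  rw [phi_apply, map_one, one_mul]
  exact DihedralHom.lift_sr_zero _ _ _ _ _

theorem fx_inj (h : Five G x y j i) : Function.Injective (fx h) := by
  apply lift_injective _ _ _ h.hx
  intro hm
  obtain ⟨k, hk⟩ := Subgroup.mem_zpowers_iff.1 hm
  have h1 : i * x * i⁻¹ = x := by
    rw [← hk]
    have : x ^ k * x = x * x ^ k := ((Commute.refl x).zpow_left k).eq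
    rw [this, mul_inv_cancel_right]
  rw [h.ix] at h1
  have h2 : x ^ 2 = 1 := by
    rw [pow_two]; nth_rewrite 1 [← h1]; exact inv_mul_cancel x
  have := orderOf_dvd_of_pow_eq_one h2
  rw [h.hx] at this
  omega

theorem fy_inj (h : Five G x y j i) : Function.Injective (fy h) := by
  apply lift_injective _ _ _ h.hy
  intro hm
  obtain ⟨k, hk⟩ := Subgroup.mem_zpowers_iff.1 hm
  have h1 : j * y * j⁻¹ = y := by
    rw [← hk]
    have : y ^ k * y = y * y ^ k := ((Commute.refl y).zpow_left k).eq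
    rw [this, mul_inv_cancel_right]
  rw [h.jy] at h1
  have h2 : y ^ 2 = 1 := by
    rw [pow_two]; nth_rewrite 1 [← h1]; exact inv_mul_cancel y
  have := orderOf_dvd_of_pow_eq_one h2
  rw [h.hy] at this
  omega

theorem phi_inj (h : Five G x y j i) : Function.Injective (phi h) := by
  rw [injective_iff_map_eq_one]
  rintro ⟨u, v⟩ huv
  rw [phi_apply] at huv
  have hu : fx h u = fy h v⁻¹ := by rw [map_inv]; exact eq_inv_of_mul_eq_one_left huv
  have hc : ∀ w, fx h u * fx h w = fx h w * fx h u := by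
    intro w
    rw [hu]; exact (f_comm h w v⁻¹).symm.eq
  have hu1 : u = 1 := by
    apply dih5_center
    · apply fx_inj h; rw [map_mul, map_mul]; exact hc _
    · apply fx_inj h; rw [map_mul, map_mul]; exact hc _
  rw [hu1, map_one] at hu
  have hv : v = 1 := by
    apply inv_eq_one.1
    apply fy_inj h
    rw [← hu, map_one]
  rw [hu1, hv]; rfl

theorem phi_range [Finite G] (h : Five G x y j i) :
    (phi h).range = Subgroup.normalizer (Subgroup.zpowers x : Set G) := by
  apply Subgroup.eq_of_le_of_card_ge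
  · rintro _ ⟨g, rfl⟩
    have key : ∀ g : DihedralGroup 5 × DihedralGroup 3, phi h g * x * (phi h g)⁻¹ ∈ Subgroup.zpowers x := by
      intro g
      have h1 : phi h g * x * (phi h g)⁻¹ = phi h (g * (DihedralGroup.r 1, 1) * g⁻¹) := by
        rw [map_mul, map_mul, map_inv, phi_r]
      rw [h1]
      rcases conj_x g with h2 | h2
      · rw [h2, phi_r]; exact Subgroup.mem_zpowers x
      · rw [h2, map_inv, phi_r]; exact Subgroup.inv_mem _ (Subgroup.mem_zpowers x)
    have key2 : ∀ g : DihedralGroup 5 × DihedralGroup 3, ∀ z ∈ Subgroup.zpowers x,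
        phi h g * z * (phi h g)⁻¹ ∈ Subgroup.zpowers x := by
      rintro g z ⟨k, rfl⟩
      show phi h g * x ^ k * (phi h g)⁻¹ ∈ _
      rw [← conj_zpow]
      exact Subgroup.zpow_mem _ (key g) k
    rw [Subgroup.mem_normalizer_iff]
    intro z
    constructor
    · intro hz; exact key2 g z hz
    · intro hz
      have := key2 g⁻¹ _ hz
      rw [map_inv] at this
      convert this using 1
      group
  · rw [h.card]
    have : Nat.card (phi h).range = Nat.card (DihedralGroup 5 × DihedralGroup 3) := by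
      rw [← Nat.card_congr (MonoidHom.ofInjective (phi_inj h)).toEquiv]
    rw [this, Nat.card_prod, DihedralGroup.nat_card, DihedralGroup.nat_card]

theorem count [Finite G] (h : Five G x y j i) (a : ZMod 5) (ha : a ≠ 0) (s : DihedralGroup 3) :
    Nat.card {p : G × G // orderOf p.1 = 2 ∧ orderOf p.2 = 2 ∧ p.1 * p.2 = phi h (DihedralGroup.r a, s)} = cnt s := by
  classical
  rw [← count_dih a s ha]
  set τ : DihedralGroup 5 × DihedralGroup 3 := (DihedralGroup.r a, s) with hτ
  have hτ2 : ∀ a : ZMod 5, ∀ s : DihedralGroup 3, a ≠ 0 → ∀ t : DihedralGroup 5 × DihedralGroup 3,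
      t * t = 1 → t * (DihedralGroup.r a, s) ≠ 1 := by
    decide +kernel
  have h6 : ∀ a : ZMod 5, ∀ s : DihedralGroup 3, (DihedralGroup.r a, s) ^ 6 = ((DihedralGroup.r a, 1) : DihedralGroup 5 × DihedralGroup 3) := by
    decide +kernel
  have hb : ∃ b : ℕ, ((DihedralGroup.r a, 1) : DihedralGroup 5 × DihedralGroup 3) ^ b = (DihedralGroup.r 1, 1) := by
    have : ∀ a : ZMod 5, a ≠ 0 → ∃ b : Fin 5, ((DihedralGroup.r a, 1) : DihedralGroup 5 × DihedralGroup 3) ^ (b : ℕ) = (DihedralGroup.r 1, 1) := by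
      decide +kernel
    obtain ⟨b, hb⟩ := this a ha
    exact ⟨b, hb⟩
  have hord : ∀ g : G, orderOf g = 2 ↔ g ≠ 1 ∧ g * g = 1 := by
    intro g
    rw [orderOf_eq_prime_iff, pow_two]; tauto
  have hne : ∀ t : DihedralGroup 5 × DihedralGroup 3, t ≠ 1 → phi h t ≠ 1 := by
    intro t ht h1
    exact ht (phi_inj h (by rw [h1, map_one]))
  let F := (Finset.univ.filter (fun t : DihedralGroup 5 × DihedralGroup 3 => t ≠ 1 ∧ t * t = 1 ∧ t * τ * t = τ⁻¹))
  show _ = F.card
  have hF : ∀ t ∈ F, t ≠ 1 ∧ t * t = 1 ∧ t * τ * t = τ⁻¹ := fun t ht => (Finset.mem_filter.1 ht).2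
  let f : {t // t ∈ F} → {p : G × G // orderOf p.1 = 2 ∧ orderOf p.2 = 2 ∧ p.1 * p.2 = phi h τ} :=
    fun t => ⟨(phi h t.1, phi h (t.1 * τ)), by
      obtain ⟨t, ht⟩ := t
      obtain ⟨h1, h2, h3⟩ := hF t ht
      refine ⟨(hord _).2 ⟨hne t h1, by rw [← map_mul, h2, map_one]⟩,
        (hord _).2 ⟨hne _ (hτ2 a s ha t h2), ?_⟩, ?_⟩
      · rw [← map_mul]
        have : t * τ * (t * τ) = 1 := by
          rw [← mul_assoc, h3, inv_mul_cancel]
        rw [this, map_one]
      · show phi h t * phi h (t * τ) = phi h τ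
        rw [← map_mul, ← mul_assoc, h2, one_mul]⟩
  have hf : Function.Bijective f := by
    constructor
    · rintro ⟨t, ht⟩ ⟨t', ht'⟩ he
      have h1 : phi h t = phi h t' := congrArg (fun p => p.1.1) he
      exact Subtype.ext (phi_inj h h1)
    · rintro ⟨⟨t1, t2⟩, h1, h2, h3⟩
      dsimp only at h1 h2 h3
      obtain ⟨h1a, h1b⟩ := (hord _).1 h1
      obtain ⟨h2a, h2b⟩ := (hord _).1 h2
      have i1 : t1⁻¹ = t1 := inv_eq_of_mul_eq_one_left h1b
      have i2 : t2⁻¹ = t2 := inv_eq_of_mul_eq_one_left h2b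
      have h4 : t1 * phi h τ * t1⁻¹ = (phi h τ)⁻¹ := by
        rw [← h3, mul_inv_rev, i1, i2, ← mul_assoc, h1b, one_mul]
      have h5 : t1 * x * t1⁻¹ = x⁻¹ := by
        obtain ⟨b, hb⟩ := hb
        have e1 : x = phi h τ ^ (6 * b) := by
          rw [← map_pow, pow_mul, h6 a s, hb, phi_r]
        rw [e1, ← conj_pow, h4, inv_pow]
      have h6 : t1 ∈ (phi h).range := by
        rw [phi_range, Subgroup.mem_normalizer_iff]
        have key : ∀ g : G, g * x * g⁻¹ = x⁻¹ → ∀ z ∈ Subgroup.zpowers x, g * z * g⁻¹ ∈ Subgroup.zpowers x := by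
          rintro g hg z ⟨k, rfl⟩
          show g * x ^ k * g⁻¹ ∈ _
          rw [← conj_zpow, hg]
          exact Subgroup.zpow_mem _ (Subgroup.inv_mem _ (Subgroup.mem_zpowers x)) k
        intro z
        constructor
        · intro hz; exact key t1 h5 z hz
        · intro hz
          have := key t1 h5 _ hz
          have e : t1 * (t1 * z * t1⁻¹) * t1⁻¹ = z := by
            rw [i1]
            calc t1 * (t1 * z * t1) * t1 = (t1 * t1) * z * (t1 * t1) := by group
              _ = z := by rw [h1b, one_mul, mul_one]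
          rwa [e] at this
      obtain ⟨t, rfl⟩ := h6
      have h7 : t * t = 1 := phi_inj h (by rw [map_mul, h1b, map_one])
      have h8 : t ≠ 1 := by rintro rfl; exact h1a (map_one _)
      have h9 : t * τ * t = τ⁻¹ := by
        apply phi_inj h
        rw [map_mul, map_mul, map_inv, ← h4, i1]
      refine ⟨⟨t, Finset.mem_filter.2 ⟨Finset.mem_univ _, h8, h7, h9⟩⟩, ?_⟩
      apply Subtype.ext
      apply Prod.ext
      · rfl
      · show phi h (t * τ) = t2
        rw [map_mul, ← h3, ← mul_assoc, h1b, one_mul]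
  rw [← Nat.card_eq_of_bijective f hf, Nat.card_eq_fintype_card, Fintype.card_coe]

theorem fx_r (h : Five G x y j i) (k : ℕ) : fx h (DihedralGroup.r (k : ZMod 5)) = x ^ k := by
  have e : fx h (DihedralGroup.r (k : ZMod 5)) = x ^ (k : ZMod 5).val := lift_r _ _ _ _
  rw [e, ZMod.val_natCast, ← h.hx, pow_mod_orderOf]

theorem fy_r (h : Five G x y j i) (k : ℕ) : fy h (DihedralGroup.r (k : ZMod 3)) = y ^ k := by
  have e : fy h (DihedralGroup.r (k : ZMod 3)) = y ^ (k : ZMod 3).val := lift_r _ _ _ _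
  rw [e, ZMod.val_natCast, ← h.hy, pow_mod_orderOf]

theorem fy_sr (h : Five G x y j i) (k : ℕ) : fy h (DihedralGroup.sr (k : ZMod 3)) = j * y ^ k := by
  have e : fy h (DihedralGroup.sr (k : ZMod 3)) = j * y ^ (k : ZMod 3).val := lift_sr _ _ _ _
  rw [e, ZMod.val_natCast, ← h.hy, pow_mod_orderOf]

/-- Piece F2. -/
theorem F2 [Finite G] (h : Five G x y j i) {k : ℕ} (hk : ¬ 5 ∣ k) :
    Nat.card {p : G × G // orderOf p.1 = 2 ∧ orderOf p.2 = 2 ∧ p.1 * p.2 = x ^ k} = 20 ∧
    Nat.card {p : G × G // orderOf p.1 = 2 ∧ orderOf p.2 = 2 ∧ p.1 * p.2 = x ^ k * y} = 15 ∧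
    Nat.card {p : G × G // orderOf p.1 = 2 ∧ orderOf p.2 = 2 ∧ p.1 * p.2 = x ^ k * y ^ 2} = 15 ∧
    Nat.card {p : G × G // orderOf p.1 = 2 ∧ orderOf p.2 = 2 ∧ p.1 * p.2 = x ^ k * j} = 10 ∧
    Nat.card {p : G × G // orderOf p.1 = 2 ∧ orderOf p.2 = 2 ∧ p.1 * p.2 = x ^ k * (j * y)} = 10 ∧
    Nat.card {p : G × G // orderOf p.1 = 2 ∧ orderOf p.2 = 2 ∧ p.1 * p.2 = x ^ k * (j * y ^ 2)} = 10 := by
  have ha : (k : ZMod 5) ≠ 0 := by
    intro h0; exact hk ((ZMod.natCast_eq_zero_iff k 5).1 h0)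
  have e0 := count h (k : ZMod 5) ha (DihedralGroup.r ((0 : ℕ) : ZMod 3))
  have e1 := count h (k : ZMod 5) ha (DihedralGroup.r ((1 : ℕ) : ZMod 3))
  have e2 := count h (k : ZMod 5) ha (DihedralGroup.r ((2 : ℕ) : ZMod 3))
  have e3 := count h (k : ZMod 5) ha (DihedralGroup.sr ((0 : ℕ) : ZMod 3))
  have e4 := count h (k : ZMod 5) ha (DihedralGroup.sr ((1 : ℕ) : ZMod 3))
  have e5 := count h (k : ZMod 5) ha (DihedralGroup.sr ((2 : ℕ) : ZMod 3))
  rw [phi_apply, fx_r, fy_r] at e0 e1 e2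
  rw [phi_apply, fx_r, fy_sr] at e3 e4 e5
  rw [pow_zero, mul_one] at e0 e3
  rw [pow_one] at e1 e4
  exact ⟨e0, e1, e2, e3, e4, e5⟩

end

end Cfsg.Agent.Lib.J3P
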