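import Cfsg.Agent.Lib.J3PDef
import Cfsg.Agent.Lib.ColTools
import Cfsg.Agent.Lib.BlockKlein

/-!
# Piece F3 of the order of the third Janko group: the class structure formula
-/

set_option autoImplicit false

namespace Cfsg.Agent.Lib.J3P

open scoped ComplexConjugate
open Cfsg Cfsg.Agent.Lib.CharBasic Cfsg.Agent.Lib.ColTools

universe u

section Count

variable {G : Type u} [Group G]

theorem isConj_iff_inv (hone : ∀ a b : G, orderOf a = 2 → orderOf b = 2 → IsConj a b) {j : G} (hj : orderOf j = 2)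
    (g : G) : orderOf g = 2 ↔ IsConj j g := by
  constructor
  · intro h
    exact hone j g hj h
  · intro h
    obtain ⟨c, hc⟩ := isConj_iff.1 h
    have h1 : orderOf ((MulAut.conj c) j) = orderOf j := MulEquiv.orderOf_eq (MulAut.conj c) j
    rw [MulAut.conj_apply] at h1
    rw [← hc, h1, hj]

/-- the number of factorisations of an element into two involutions, by the structure formula -/
theorem inv_count [Finite G] (hone : ∀ a b : G, orderOf a = 2 → orderOf b = 2 → IsConj a b) {j : G}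
    (hj : orderOf j = 2) (g : G) :
    (Nat.card {p : G × G // orderOf p.1 = 2 ∧ orderOf p.2 = 2 ∧ p.1 * p.2 = g} : ℂ) =
      (Nat.card G : ℂ) / (Nat.card (Subgroup.centralizer ({j} : Set G)) : ℂ) ^ 2 *
        ∑ χ : IrrCharacter G, (χ : G → ℂ) j ^ 2 / (χ : G → ℂ) 1 * (χ : G → ℂ) g := by
  classical
  have h1 := struct_const j j g
  have h2 : Nat.card {p : G × G // orderOf p.1 = 2 ∧ orderOf p.2 = 2 ∧ p.1 * p.2 = g} =
      Nat.card {p : G × G // IsConj j p.1 ∧ IsConj j p.2 ∧ p.1 * p.2 = g} := by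
    apply Nat.card_congr
    apply Equiv.subtypeEquivRight
    intro p
    rw [isConj_iff_inv hone hj, isConj_iff_inv hone hj]
  have hc : (Nat.card (Subgroup.centralizer ({j} : Set G)) : ℂ) ≠ 0 := by
    exact_mod_cast (Nat.card_pos (α := Subgroup.centralizer ({j} : Set G))).ne'
  have hreal : ∀ χ : IrrCharacter G, conj ((χ : G → ℂ) j) = (χ : G → ℂ) j := by
    intro χ
    obtain ⟨a, ha⟩ := BlockKlein.exists_int_of_involution χ.2.isCharacter hj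
    rw [ha]
    simp
  have h3 : (Nat.card {p : G × G // orderOf p.1 = 2 ∧ orderOf p.2 = 2 ∧ p.1 * p.2 = g} : ℂ) *
      ((Nat.card (Subgroup.centralizer ({j} : Set G)) : ℂ)) ^ 2 = (Nat.card G : ℂ) *
        ∑ χ : IrrCharacter G, (χ : G → ℂ) j ^ 2 / (χ : G → ℂ) 1 * (χ : G → ℂ) g := by
    have h4 := congrArg conj h1
    rw [h2]
    simp only [map_mul, map_sum, map_div₀, Complex.conj_natCast, hreal] at h4
    rw [sq, h4]
    congr 1
    refine Finset.sum_congr rfl fun χ _ => ?_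
    have h5 : conj ((χ : G → ℂ) g⁻¹) = (χ : G → ℂ) g := by
      rw [conj_apply, inv_inv]
    have h6 : conj ((χ : G → ℂ) 1) = (χ : G → ℂ) 1 := by
      rw [apply_one]; simp
    rw [h5, h6]
    ring
  rw [div_mul_eq_mul_div, eq_div_iff (pow_ne_zero 2 hc), h3]

theorem inner_count [Fintype G] (hone : ∀ a b : G, orderOf a = 2 → orderOf b = 2 → IsConj a b) {j : G}
    (hj : orderOf j = 2) (ψ : IrrCharacter G) :
    classInner (fun g : G => (Nat.card {p : G × G // orderOf p.1 = 2 ∧ orderOf p.2 = 2 ∧ p.1 * p.2 = g} : ℂ))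
      (ψ : G → ℂ) =
      (Nat.card G : ℂ) / (Nat.card (Subgroup.centralizer ({j} : Set G)) : ℂ) ^ 2 *
        ((ψ : G → ℂ) j ^ 2 / (ψ : G → ℂ) 1) := by
  classical
  have h1 : (fun g : G => (Nat.card {p : G × G // orderOf p.1 = 2 ∧ orderOf p.2 = 2 ∧ p.1 * p.2 = g} : ℂ)) =
      ((Nat.card G : ℂ) / (Nat.card (Subgroup.centralizer ({j} : Set G)) : ℂ) ^ 2) •
        ∑ χ : IrrCharacter G, ((χ : G → ℂ) j ^ 2 / (χ : G → ℂ) 1) • (χ : G → ℂ) := by
    funext g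
    rw [inv_count hone hj g]
    simp [Finset.sum_apply]
  rw [h1, classInner_smul_left, classInner_sum_left]
  congr 1
  rw [Finset.sum_eq_single ψ]
  · rw [classInner_smul_left, irr_orthonormal, if_pos rfl, mul_one]
  · intro χ _ hne
    rw [classInner_smul_left, irr_orthonormal, if_neg hne, mul_zero]
  · intro h
    exact absurd (Finset.mem_univ _) h

theorem count_isClass [Finite G] (hone : ∀ a b : G, orderOf a = 2 → orderOf b = 2 → IsConj a b) {j : G}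
    (hj : orderOf j = 2) :
    IsClassFunction G
      (fun g : G => (Nat.card {p : G × G // orderOf p.1 = 2 ∧ orderOf p.2 = 2 ∧ p.1 * p.2 = g} : ℂ)) := by
  intro g h
  show (Nat.card {p : G × G // orderOf p.1 = 2 ∧ orderOf p.2 = 2 ∧ p.1 * p.2 = h * g * h⁻¹} : ℂ) =
    (Nat.card {p : G × G // orderOf p.1 = 2 ∧ orderOf p.2 = 2 ∧ p.1 * p.2 = g} : ℂ)
  rw [inv_count hone hj, inv_count hone hj]
  congr 1
  refine Finset.sum_congr rfl fun χ _ => ?_
  rw [χ.2.isClassFunction g h]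

end Count

/-- the degree equation, from the decomposition F1 and the counts F2 -/
theorem char_eq_of {G : Type u} [Group G] [Fintype G] {x y j i : G} (h : Five G x y j i)
    (hone : ∀ a b : G, orderOf a = 2 → orderOf b = 2 → IsConj a b)
    (hc : Nat.card (Subgroup.centralizer ({j} : Set G)) = 1920)
    (hF1 : ∃ (χ₁ χ₂ : IrrCharacter G) (e₁ e₂ : ℤ), (e₁ = 1 ∨ e₁ = -1) ∧ (e₂ = 1 ∨ e₂ = -1) ∧ χ₁ ≠ χ₂ ∧
      (χ₁ : G → ℂ) ≠ 1 ∧ (χ₂ : G → ℂ) ≠ 1 ∧ (1 + (e₁:ℂ) * χ₁.1 1 + (e₂:ℂ) * χ₂.1 1 = 0) ∧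
      (∀ t : G, orderOf t = 2 → 1 + (e₁:ℂ) * χ₁.1 t + (e₂:ℂ) * χ₂.1 t = 0) ∧
      ∀ (a : G → ℂ) (c : Fin 6 → ℂ), IsClassFunction G a →
        (∀ k : ℕ, ¬ 5 ∣ k → a (x^k) = c 0 ∧ a (x^k * y) = c 1 ∧ a (x^k * y^2) = c 2 ∧ a (x^k * j) = c 3 ∧
          a (x^k * (j * y)) = c 4 ∧ a (x^k * (j * y^2)) = c 5) →
        classInner a 1 + (e₁:ℂ) * classInner a χ₁.1 + (e₂:ℂ) * classInner a χ₂.1 = (∑ m, c m) / 6)
    (hF2 : ∀ k : ℕ, ¬ 5 ∣ k →
      Nat.card {p : G × G // orderOf p.1 = 2 ∧ orderOf p.2 = 2 ∧ p.1 * p.2 = x ^ k} = 20 ∧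
      Nat.card {p : G × G // orderOf p.1 = 2 ∧ orderOf p.2 = 2 ∧ p.1 * p.2 = x ^ k * y} = 15 ∧
      Nat.card {p : G × G // orderOf p.1 = 2 ∧ orderOf p.2 = 2 ∧ p.1 * p.2 = x ^ k * y ^ 2} = 15 ∧
      Nat.card {p : G × G // orderOf p.1 = 2 ∧ orderOf p.2 = 2 ∧ p.1 * p.2 = x ^ k * j} = 10 ∧
      Nat.card {p : G × G // orderOf p.1 = 2 ∧ orderOf p.2 = 2 ∧ p.1 * p.2 = x ^ k * (j * y)} = 10 ∧
      Nat.card {p : G × G // orderOf p.1 = 2 ∧ orderOf p.2 = 2 ∧ p.1 * p.2 = x ^ k * (j * y ^ 2)} = 10) :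
    ∃ F A : ℤ, F ≠ 0 ∧ F ≠ -1 ∧ (Nat.card G : ℤ) * (F - A) ^ 2 = 49152000 * (F * (F + 1)) ∧
      1 + A ^ 2 + (A + 1) ^ 2 ≤ 1920 := by
  classical
  obtain ⟨χ₁, χ₂, e₁, e₂, he₁, he₂, hne, h1, h2, hdeg, hinv, hres⟩ := hF1
  obtain ⟨α₁, hα₁⟩ := BlockKlein.exists_int_of_involution χ₁.2.isCharacter h.hj
  obtain ⟨α₂, hα₂⟩ := BlockKlein.exists_int_of_involution χ₂.2.isCharacter h.hj
  have hd₁ := apply_one χ₁
  have hd₂ := apply_one χ₂
  have hp₁ := deg_pos χ₁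
  have hp₂ := deg_pos χ₂
  set d₁ := deg χ₁ with hd₁def
  set d₂ := deg χ₂ with hd₂def
  have hdegZ : 1 + e₁ * d₁ + e₂ * d₂ = 0 := by
    have := hdeg
    rw [hd₁, hd₂] at this
    exact_mod_cast this
  have hinvZ : 1 + e₁ * α₁ + e₂ * α₂ = 0 := by
    have := hinv j h.hj
    rw [hα₁, hα₂] at this
    exact_mod_cast this
  have hse₁ : e₁ ^ 2 = 1 := by rcases he₁ with rfl | rfl <;> norm_num
  have hse₂ : e₂ ^ 2 = 1 := by rcases he₂ with rfl | rfl <;> norm_num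
  have he₁0 : e₁ ≠ 0 := by rcases he₁ with rfl | rfl <;> norm_num
  have he₂0 : e₂ ≠ 0 := by rcases he₂ with rfl | rfl <;> norm_num
  have hd₁Z : (d₁ : ℤ) ≠ 0 := by exact_mod_cast hp₁.ne'
  have hd₂Z : (d₂ : ℤ) ≠ 0 := by exact_mod_cast hp₂.ne'
  have hmain := hres _ ![20, 15, 15, 10, 10, 10] (count_isClass hone h.hj) (fun k hk => by
    obtain ⟨a0, a1, a2, a3, a4, a5⟩ := hF2 k hk
    refine ⟨?_, ?_, ?_, ?_, ?_, ?_⟩
    · show (Nat.card _ : ℂ) = _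
      rw [a0]; simp
    · show (Nat.card _ : ℂ) = _
      rw [a1]; simp
    · show (Nat.card _ : ℂ) = _
      rw [a2]; simp
    · show (Nat.card _ : ℂ) = _
      rw [a3]; simp
    · show (Nat.card _ : ℂ) = _
      rw [a4]; simp
    · show (Nat.card _ : ℂ) = _
      rw [a5]; simp)
  have i0 := inner_count hone h.hj (triv G)
  have i1 := inner_count hone h.hj χ₁
  have i2 := inner_count hone h.hj χ₂
  rw [triv_apply, triv_apply] at i0
  have i0' : classInner (fun g : G => (Nat.card {p : G × G // orderOf p.1 = 2 ∧ orderOf p.2 = 2 ∧ p.1 * p.2 = g} : ℂ))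
      (1 : G → ℂ) = (Nat.card G : ℂ) / (1920 : ℂ) ^ 2 := by
    have : ((1 : G → ℂ)) = (triv G : G → ℂ) := rfl
    rw [this, i0, hc]
    norm_num
  rw [hc] at i1 i2
  rw [i0', i1, i2, hα₁, hα₂, hd₁, hd₂] at hmain
  have hsum : (∑ m : Fin 6, (![20, 15, 15, 10, 10, 10] : Fin 6 → ℂ) m) = 80 := by
    simp [Fin.sum_univ_succ]
    norm_num
  rw [hsum] at hmain
  have hd₁C : (d₁ : ℂ) ≠ 0 := by exact_mod_cast hp₁.ne'
  have hd₂C : (d₂ : ℂ) ≠ 0 := by exact_mod_cast hp₂.ne'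
  -- clear denominators
  have hZ : (Nat.card G : ℤ) * (3 * (d₁ * d₂ + e₁ * α₁ ^ 2 * d₂ + e₂ * α₂ ^ 2 * d₁)) =
      40 * 3686400 * (d₁ * d₂) := by
    have h3 : (Nat.card G : ℂ) * (3 * (d₁ * d₂ + e₁ * α₁ ^ 2 * d₂ + e₂ * α₂ ^ 2 * d₁)) =
      40 * 3686400 * (d₁ * d₂) := by
      have h4 := hmain
      push_cast at h4
      field_simp at h4
      linear_combination (1 / 2 : ℂ) * h4
    exact_mod_cast h3
  have hF0 : e₁ * (d₁ : ℤ) ≠ 0 := mul_ne_zero he₁0 hd₁Z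
  have hF1' : e₁ * (d₁ : ℤ) ≠ -1 := by
    intro h3
    rw [h3] at hdegZ
    have : e₂ * (d₂ : ℤ) = 0 := by linarith
    exact mul_ne_zero he₂0 hd₂Z this
  refine ⟨e₁ * d₁, e₁ * α₁, hF0, hF1', ?_, ?_⟩
  · have h3 : (3 : ℤ) * ((Nat.card G : ℤ) * (e₁ * d₁ - e₁ * α₁) ^ 2) =
        3 * (49152000 * (e₁ * d₁ * (e₁ * d₁ + 1))) := by
      rcases he₁ with rfl | rfl <;> rcases he₂ with rfl | rfl
      · have hd2 : (d₂ : ℤ) = -(1 + d₁) := by linarith
        have hα2 : α₂ = -(1 + α₁) := by linarith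
        rw [hd2, hα2] at hZ
        linear_combination (-1 : ℤ) * hZ
      · have hd2 : (d₂ : ℤ) = 1 + d₁ := by linarith
        have hα2 : α₂ = 1 + α₁ := by linarith
        rw [hd2, hα2] at hZ
        linear_combination (1 : ℤ) * hZ
      · have hd2 : (d₂ : ℤ) = -(1 - d₁) := by linarith
        have hα2 : α₂ = -(1 - α₁) := by linarith
        rw [hd2, hα2] at hZ
        linear_combination (1 : ℤ) * hZ
      · have hd2 : (d₂ : ℤ) = 1 - d₁ := by linarith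
        have hα2 : α₂ = 1 - α₁ := by linarith
        rw [hd2, hα2] at hZ
        linear_combination (-1 : ℤ) * hZ
    exact mul_left_cancel₀ (by norm_num) h3
  · have hcol := col_norm (G := G) j
    rw [hc] at hcol
    have ht1 : triv G ≠ χ₁ := fun hh => h1 (by rw [← hh]; rfl)
    have ht2 : triv G ≠ χ₂ := fun hh => h2 (by rw [← hh]; rfl)
    have hsub : ∑ χ ∈ ({triv G, χ₁, χ₂} : Finset (IrrCharacter G)), ‖(χ : G → ℂ) j‖ ^ 2 ≤
        ∑ χ : IrrCharacter G, ‖(χ : G → ℂ) j‖ ^ 2 :=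
      Finset.sum_le_sum_of_subset_of_nonneg (Finset.subset_univ _) fun _ _ _ => by positivity
    rw [hcol, Finset.sum_insert (by simp [ht1, ht2]), Finset.sum_insert (by simp [hne]), Finset.sum_singleton,
      triv_apply, hα₁, hα₂] at hsub
    have e1 : ‖((α₁ : ℤ) : ℂ)‖ ^ 2 = ((α₁ ^ 2 : ℤ) : ℝ) := by
      rw [Complex.norm_intCast]; push_cast; exact sq_abs _
    have e2 : ‖((α₂ : ℤ) : ℂ)‖ ^ 2 = ((α₂ ^ 2 : ℤ) : ℝ) := by
      rw [Complex.norm_intCast]; push_cast; exact sq_abs _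
    rw [e1, e2, norm_one] at hsub
    have hsub' : (1 : ℤ) + (α₁ ^ 2 + α₂ ^ 2) ≤ 1920 := by
      have h3 : ((1 + (α₁ ^ 2 + α₂ ^ 2) : ℤ) : ℝ) ≤ ((1920 : ℤ) : ℝ) := by
        push_cast
        push_cast at hsub
        linarith
      exact_mod_cast h3
    have h4 : (e₁ * α₁) ^ 2 = α₁ ^ 2 := by rw [mul_pow, hse₁, one_mul]
    have h5 : (e₁ * α₁ + 1) ^ 2 = α₂ ^ 2 := by
      have h6 : e₁ * α₁ + 1 = -(e₂ * α₂) := by linarith
      rw [h6, neg_sq, mul_pow, hse₂, one_mul]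
    rw [h4, h5]
    linarith

end Cfsg.Agent.Lib.J3P
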