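import Cfsg.Agent.Lib.J3PF1
import Cfsg.Agent.Lib.J3PF2
import Cfsg.Agent.Lib.J3PF3

/-!
# Pieces F1, F2 and F3 together: the degree equation of the third Janko group
-/

set_option autoImplicit false

namespace Cfsg.Agent.Lib.J3P

open Cfsg

universe u

theorem char_eq {G : Type u} [Group G] [Finite G] {x y j i : G} (h : Five G x y j i)
    (hone : ∀ a b : G, orderOf a = 2 → orderOf b = 2 → IsConj a b)
    (hc : Nat.card (Subgroup.centralizer ({j} : Set G)) = 1920) :
    ∃ F A : ℤ, F ≠ 0 ∧ F ≠ -1 ∧ (Nat.card G : ℤ) * (F - A) ^ 2 = 49152000 * (F * (F + 1)) ∧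
      1 + A ^ 2 + (A + 1) ^ 2 ≤ 1920 := by
  have := Fintype.ofFinite G
  exact char_eq_of h hone hc (F1 h) (fun k hk => F2 h hk)

end Cfsg.Agent.Lib.J3P
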