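import Cfsg.Agent.Lib.J3PDef
import Mathlib

/-!
# Piece G3 of S0456-PLAN (helper1): Sylow 5-subgroups
-/

set_option autoImplicit false

namespace Cfsg.Agent.Lib.J3P

variable {G : Type*} [Group G] [Finite G]

theorem syl5 {x y j i : G} (h : Five G x y j i) : 60 ∣ Nat.card G ∧ Nat.card G / 60 % 5 = 1 := by
  have : Fact (Nat.Prime 5) := ⟨by norm_num⟩
  have hcx : Nat.card (Subgroup.zpowers x) = 5 ^ 1 := by rw [Nat.card_zpowers, h.hx]; norm_num
  have h25 : ¬ 5 ^ (1 + 1) ∣ Nat.card G := by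
    intro hd
    have h1 := Sylow.prime_pow_dvd_card_normalizer hd hcx
    rw [h.card] at h1
    revert h1
    decide
  have hpx : IsPGroup 5 (Subgroup.zpowers x) := IsPGroup.of_card hcx
  obtain ⟨P, hP⟩ := hpx.exists_le_sylow
  obtain ⟨k, hk⟩ := IsPGroup.iff_card.1 P.isPGroup'
  have hk1 : k ≤ 1 := by
    by_contra hlt
    apply h25
    exact (pow_dvd_pow 5 (by omega)).trans (hk ▸ Subgroup.card_subgroup_dvd_card (P : Subgroup G))
  have hPx : Subgroup.zpowers x = (P : Subgroup G) := by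
    apply Subgroup.eq_of_le_of_card_ge hP
    rw [hcx, hk]
    exact Nat.pow_le_pow_right (by norm_num) hk1
  have hn := P.card_eq_index_normalizer
  have hmod : Nat.card (Sylow 5 G) % 5 = 1 := card_sylow_modEq_one 5 G
  have hN : Nat.card (Subgroup.normalizer ((P : Subgroup G) : Set G)) = 60 := by rw [← hPx]; exact h.card
  have hmul := Subgroup.card_mul_index (Subgroup.normalizer ((P : Subgroup G) : Set G))
  rw [hN] at hmul
  refine ⟨⟨_, hmul.symm⟩, ?_⟩
  rw [← hmul, Nat.mul_div_cancel_left _ (by norm_num)]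
  rw [← hmod, hn]
  rfl

end Cfsg.Agent.Lib.J3P
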