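import Cfsg.Agent.Lib.J3PDef
import Cfsg.Agent.Lib.J3PB2
import Cfsg.Agent.Lib.J3PE0
import Cfsg.Agent.Lib.J3PE3
import Cfsg.Agent.Lib.J3PDa
import Cfsg.Agent.Lib.J3PEntry
import Cfsg.Agent.Lib.J3PC2
import Cfsg.Agent.Lib.J3PC3b
import Cfsg.Agent.Lib.J3PE1
import Cfsg.Agent.Lib.J3PF
import Cfsg.Agent.Lib.J3PG1
import Cfsg.Agent.Lib.J3PG2
import Cfsg.Agent.Lib.J3PG3

/-! # Janko's third group: assembly (everything but the last pieces, which are hypotheses here) -/

set_option autoImplicit false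
open Cfsg Cfsg.Agent.Lib.LargeExtra Cfsg.Agent.Lib.JTw Cfsg.Agent.Lib.JTw.Setup

namespace Cfsg.Agent.Lib.J3P

/-- the order from the five-local configuration, with the last pieces as hypotheses -/
theorem order_of_five {G : Type*} [Group G] [Finite G] (S : Setup G) (h1 : One S) {x y j i : G} (h : Five G x y j i)
    (h27 : 27 ∣ Nat.card G)
    (char_eq : ∀ (_ : ∀ a b : G, orderOf a = 2 → orderOf b = 2 → IsConj a b)
      (_ : Nat.card (Subgroup.centralizer ({j} : Set G)) = 1920),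
      ∃ F A : ℤ, F ≠ 0 ∧ F ≠ -1 ∧ (Nat.card G : ℤ) * (F - A) ^ 2 = 49152000 * (F * (F + 1)) ∧
      1 + A ^ 2 + (A + 1) ^ 2 ≤ 1920)
    (syl5 : 60 ∣ Nat.card G ∧ Nat.card G / 60 % 5 = 1)
    (arith : ∀ {n : ℕ} {F A : ℤ} (_ : Odd n) (_ : 32 * n % 5 = 1) (_ : 27 ∣ 1920 * n) (_ : F ≠ 0) (_ : F ≠ -1)
      (_ : ((1920 * n : ℕ) : ℤ) * (F - A) ^ 2 = 49152000 * (F * (F + 1))) (_ : 1 + A ^ 2 + (A + 1) ^ 2 ≤ 1920),
      1920 * n = 50232960 ∨ 1920 * n = 48850560) :
    Nat.card G = 50232960 ∨ Nat.card G = 48850560 := by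
  have hZ : ∀ a : G, orderOf a = 2 → S.Z a := by
    intro a ha
    refine h1 a ?_ ?_
    · rw [← pow_two, ← ha, pow_orderOf_eq_one]
    · intro h'; rw [h', orderOf_one] at ha; omega
  have hj1920 : Nat.card (Subgroup.centralizer ({j} : Set G)) = 1920 := (hZ j h.hj).base.card_cent
  obtain ⟨F, A, hF0, hF1, hEq, hA⟩ := char_eq (fun a b ha hb => (hZ a ha).symm.trans (hZ b hb)) hj1920
  obtain ⟨n, hn⟩ : 1920 ∣ Nat.card G := by
    rw [← hj1920]; exact Subgroup.card_subgroup_dvd_card _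
  obtain ⟨P⟩ : Nonempty (Sylow 2 G) := inferInstance
  have hP : Nat.card P = 2 ^ 7 := card_sylow (hZ j h.hj) P
  have hodd : Odd n := by
    rw [← Nat.not_even_iff_odd]
    intro he
    obtain ⟨m, hm⟩ := he
    have h8 : 2 ^ 8 ∣ Nat.card G := by
      rw [hn, hm]; exact ⟨15 * m, by ring⟩
    have h9 := P.pow_dvd_card_of_pow_dvd_card h8
    rw [hP] at h9
    exact absurd (Nat.le_of_dvd (by norm_num) h9) (by norm_num)
  rw [hn] at h27 hEq syl5 ⊢
  refine arith hodd ?_ h27 hF0 hF1 hEq hA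
  have h2 := syl5.2
  have h3 : 1920 * n / 60 = 32 * n := by omega
  rwa [h3] at h2

/-- the five-local configuration, with the last pieces as hypotheses -/
theorem exists_five_asm {G : Type*} [Group G] [Finite G] (S : Setup G) (h1 : One S)
    (cent_dih : ∀ {s y : G} (_ : S.Z s) (_ : orderOf y = 3) (_ : s * y = y * s)
      [hn : (Subgroup.zpowers y |>.subgroupOf (Subgroup.centralizer ({y} : Set G))).Normal]
      (hsC : s ∈ Subgroup.centralizer ({y} : Set G)),
      Nonempty (Subgroup.centralizer ({(QuotientGroup.mk (⟨s, hsC⟩ : Subgroup.centralizer ({y} : Set G)) :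
      Subgroup.centralizer ({y} : Set G) ⧸ (Subgroup.zpowers y).subgroupOf (Subgroup.centralizer ({y} : Set G)))} :
        Set (Subgroup.centralizer ({y} : Set G) ⧸ (Subgroup.zpowers y).subgroupOf (Subgroup.centralizer ({y} : Set G)))) ≃*
      DihedralGroup 4))
    (exists_j : ∀ {x y s : G} (_ : orderOf x = 5) (_ : orderOf y = 3) (_ : orderOf s = 2)
      (_ : x * y = y * x) (_ : s * y = y * s), ∃ j : G, orderOf j = 2 ∧ j * x = x * j ∧ j * y * j⁻¹ = y⁻¹) :
    (∃ x y j i : G, Five G x y j i) ∧ 27 ∣ Nat.card G := by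
  obtain ⟨x, y, s, hx, hy, hs, hxy, hsy⟩ := exists_xys S h1
  have hn : ((Subgroup.zpowers y).subgroupOf (Subgroup.centralizer ({y} : Set G))).Normal := by
    refine ⟨fun a ha g => ?_⟩
    rw [Subgroup.mem_subgroupOf] at ha ⊢
    have h2 : (g : G) * (a : G) * (g : G)⁻¹ = (a : G) := by
      obtain ⟨k, hk⟩ := Subgroup.mem_zpowers_iff.1 ha
      rw [← hk]
      have h3 : Commute (g : G) y := (mem_centralizer_one.1 g.2)
      rw [(h3.zpow_right k).eq]; group
    simpa [h2] using ha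
  obtain ⟨e⟩ := quot_a6_of S h1 hx hy hs hxy hsy (fun hs' hsy' hsC => cent_dih hs' hy hsy' hsC)
  obtain ⟨c1, c2, c3, i, hi, iy, ix⟩ := six_facts hy e hx hxy
  obtain ⟨j, hj, jx, jy⟩ := exists_j hx hy hs hxy hsy
  refine ⟨⟨x, y, j, i, exists_five_of S h1 hx hy hj hi hxy jx jy iy ix c2 c3⟩, ?_⟩
  have h4 : Nat.card (Subgroup.centralizer ({y} : Set G)) ∣ Nat.card G := Subgroup.card_subgroup_dvd_card _
  rw [c1] at h4
  exact Dvd.dvd.trans (by norm_num) h4

/-- the five-local configuration and `27 ∣ |G|` -/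
theorem exists_five {G : Type*} [Group G] [Finite G] (S : Setup G) (h1 : One S) :
    (∃ x y j i : G, Five G x y j i) ∧ 27 ∣ Nat.card G := by
  refine exists_five_asm S h1 (fun hs hy hsy hn hsC => cent_dih S hs hy hsy hsC) ?_
  intro x y s hx hy hs hxy hsy
  have hn : ((Subgroup.zpowers y).subgroupOf (Subgroup.centralizer ({y} : Set G))).Normal := by
    refine ⟨fun a ha g => ?_⟩
    rw [Subgroup.mem_subgroupOf] at ha ⊢
    have h2 : (g : G) * (a : G) * (g : G)⁻¹ = (a : G) := by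
      obtain ⟨k, hk⟩ := Subgroup.mem_zpowers_iff.1 ha
      rw [← hk]
      have h3 : Commute (g : G) y := (mem_centralizer_one.1 g.2)
      rw [(h3.zpow_right k).eq]; group
    simpa [h2] using ha
  obtain ⟨e⟩ := quot_a6_of S h1 hx hy hs hxy hsy (fun hs' hsy' hsC => cent_dih S hs' hy hsy' hsC)
  exact exists_j_of S h1 hx hy hs hxy hsy e (fun hs' hsy' => exists_inv S hs' hy hsy')

/-- the order of a simple group with one class of involutions and the setup -/
theorem order_one {G : Type*} [Group G] [Finite G] [IsSimpleGroup G] (S : Setup G) (h1 : One S) :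
    Nat.card G = 50232960 := by
  obtain ⟨⟨x, y, j, i, h⟩, h27⟩ := exists_five S h1
  rcases order_of_five S h1 h h27 (fun ho hc => char_eq h ho hc) (syl5 h)
    (fun a1 a2 a3 a4 a5 a6 a7 => arith a1 a2 a3 a4 a5 a6 a7) with h4 | h4
  · exact h4
  · exact (not_simple h4).elim

end Cfsg.Agent.Lib.J3P
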