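import Cfsg.Agent.Lib.J3PDef
import Cfsg.Agent.Lib.InvAct
import Cfsg.Agent.Lib.SubgroupTools
import Mathlib

set_option autoImplicit false
open Cfsg Cfsg.Agent.Lib.LargeExtra Cfsg.Agent.Lib.JTw Cfsg.Agent.Lib.JTw.Setup

namespace Cfsg.Agent.Lib.J3P

variable {G : Type*} [Group G] [Finite G]
set_option linter.unusedSectionVars false

/-- pairs of commuting involutions, the second outside the large subgroup of the first -/
structure PP (S : Setup G) (a b : G) : Prop where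
  ha : S.Z a
  hb2 : b * b = 1
  comm : b * a = a * b
  hbq : b ∉ S.q a

namespace PP
variable {S : Setup G} {a b : G}

theorem exT (p : PP S a b) : ∃ w : G, S.Four a w ∧ b ∈ Four.T S a w := by
  obtain ⟨g, hg⟩ := isConj_iff.1 p.ha
  have f := S.exists_four
  have f1 := f.conj g
  rw [hg] at f1
  obtain ⟨t, ht⟩ := f1.exists_T
  obtain ⟨c, hc1, hc2⟩ := (f1.T_class ht).1 b p.comm p.hbq p.hb2
  have f2 := f1.conj c
  have e : c * a * c⁻¹ = a := cj_eq_self.2 hc1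
  refine ⟨c * (g * S.v * g⁻¹) * c⁻¹, by rwa [e] at f2, ?_⟩
  have h := (f1.T_conj c (y := b)).2 (by
    have e2 : c⁻¹ * b * c = t := by rw [← hc2]; group
    rw [e2]; exact ht)
  rwa [e] at h

theorem hb1 (p : PP S a b) : b ≠ 1 := fun h => p.hbq (h ▸ one_mem _)

theorem a2 (p : PP S a b) : a * a = 1 := p.ha.base.pre.sq
theorem a1 (p : PP S a b) : a ≠ 1 := p.ha.base.pre.ne

theorem hne (p : PP S a b) : a ≠ b := by
  obtain ⟨w, f, ht⟩ := p.exT
  intro h
  exact ht.2.1 (h ▸ f.V_le_q ((f.mem_V).2 (Or.inr (Or.inl rfl))))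

theorem symm (h1 : One S) (p : PP S a b) : PP S b a := by
  refine ⟨h1 b p.hb2 p.hb1, p.a2, p.comm.symm, fun h => ?_⟩
  have f : S.Four b a := ⟨h1 b p.hb2 p.hb1, h, p.a2, p.a1, p.hne⟩
  exact p.hbq f.swap.hmem

theorem conj_to (p : PP S a b) {b' : G} (p' : PP S a b') : ∃ c : G, c * a = a * c ∧ c * b * c⁻¹ = b' := by
  obtain ⟨w, f, ht⟩ := p.exT
  exact (f.T_class ht).1 b' p'.comm p'.hbq p'.hb2

theorem conj (p : PP S a b) (x : G) : PP S (x * a * x⁻¹) (x * b * x⁻¹) := by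
  refine ⟨S.Z_conj p.ha x, by rw [cj_sq, p.hb2]; group, ?_, ?_⟩
  · rw [← cj_mul, ← cj_mul, p.comm]
  · rw [mem_q_conj p.ha]
    have e : x⁻¹ * (x * b * x⁻¹) * x = b := by group
    rw [e]; exact p.hbq

theorem swap (h1 : One S) (p : PP S a b) : ∃ h : G, h * a * h⁻¹ = b ∧ h * b * h⁻¹ = a := by
  have hZb : S.Z b := h1 b p.hb2 p.hb1
  obtain ⟨g1, hg1⟩ := isConj_iff.1 p.ha
  obtain ⟨g2, hg2⟩ := isConj_iff.1 hZb
  have hg : (g2 * g1⁻¹) * a * (g2 * g1⁻¹)⁻¹ = b := by rw [← hg1, ← hg2]; group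
  have p1 := p.conj (g2 * g1⁻¹)
  rw [hg] at p1
  obtain ⟨c, hc1, hc2⟩ := p1.conj_to (p.symm h1)
  refine ⟨c * (g2 * g1⁻¹), ?_, ?_⟩
  · rw [cj_cj, hg]; exact cj_eq_self.2 hc1
  · rw [cj_cj, hc2]

/-- the elementary group of order 16 -/
def X (a b : G) : Subgroup G := Subgroup.centralizer ({a} : Set G) ⊓ Subgroup.centralizer ({b} : Set G)

omit [Finite G] in
theorem mem_X {c : G} : c ∈ X a b ↔ c * a = a * c ∧ c * b = b * c := by
  rw [X, Subgroup.mem_inf, mem_centralizer_one, mem_centralizer_one]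

theorem card_X (p : PP S a b) : Nat.card (X a b) = 16 := by
  obtain ⟨w, f, ht⟩ := p.exT
  exact (f.T_class ht).2

theorem X_sq (p : PP S a b) {c : G} (hc : c ∈ X a b) : c * c = 1 := by
  obtain ⟨w, f, ht⟩ := p.exT
  obtain ⟨_, h | h⟩ := f.mem_cent ht (mem_X.1 hc).1 (mem_X.1 hc).2
  · rcases f.mem_V.1 h with h | h | h | h
    · rw [h]; group
    · rw [h]; exact f.hu2
    · rw [h]; exact f.hw2
    · rw [h]; exact f.mul_sq
  · exact f.T_sq h

theorem X_comm (p : PP S a b) {c d : G} (hc : c ∈ X a b) (hd : d ∈ X a b) : c * d = d * c := by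
  have h1 := p.X_sq hc
  have h2 := p.X_sq hd
  have h3 := p.X_sq (mul_mem hc hd)
  have e1 : c⁻¹ = c := inv_eq_of_mul_eq_one_left h1
  have e2 : d⁻¹ = d := inv_eq_of_mul_eq_one_left h2
  have e3 : (c * d)⁻¹ = c * d := inv_eq_of_mul_eq_one_left h3
  rw [mul_inv_rev, e1, e2] at e3
  exact e3.symm

theorem a_mem (p : PP S a b) : a ∈ X a b := mem_X.2 ⟨rfl, p.comm.symm⟩
theorem b_mem (p : PP S a b) : b ∈ X a b := mem_X.2 ⟨p.comm, rfl⟩

theorem X_eq (p : PP S a b) {c d : G} (hc : c ∈ X a b) (hd : d ∈ X a b) (q : PP S c d) : X c d = X a b := by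
  symm
  apply Subgroup.eq_of_le_of_card_ge
  · intro e he
    exact mem_X.2 ⟨p.X_comm he hc, p.X_comm he hd⟩
  · rw [p.card_X, q.card_X]

/-- elements of `X`: either outside `q a`, or `b` is outside `q c` -/
theorem cases (p : PP S a b) {c : G} (hc : c ∈ X a b) (hc1 : c ≠ 1) :
    PP S a c ∨ (c ∈ S.q a ∧ PP S c b) := by
  obtain ⟨w, f, ht⟩ := p.exT
  obtain ⟨_, h | h⟩ := f.mem_cent ht (mem_X.1 hc).1 (mem_X.1 hc).2
  · right
    refine ⟨f.V_le_q h, ?_, p.hb2, (mem_X.1 hc).2.symm, ?_⟩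
    · rcases f.mem_V.1 h with h | h | h | h
      · exact absurd h hc1
      · rw [h]; exact f.hu
      · rw [h]; exact f.hw
      · rw [h]; exact f.left.hu
    · rcases f.mem_V.1 h with h | h | h | h
      · exact absurd h hc1
      · rw [h]; exact ht.2.1
      · rw [h]; exact ht.2.2.1
      · rw [h]; exact ht.2.2.2
  · left
    exact ⟨p.ha, p.X_sq hc, (mem_X.1 hc).1, h.2.1⟩

theorem mem_norm {H : Subgroup G} {n : G} (h : ∀ x ∈ H, n * x * n⁻¹ ∈ H) : n ∈ Subgroup.normalizer (H : Set G) :=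
  Subgroup.mem_normalizer_fintype h

theorem norm_of (p : PP S a b) {n : G} (q : PP S (n * a * n⁻¹) (n * b * n⁻¹)) (h1 : n * a * n⁻¹ ∈ X a b)
    (h2 : n * b * n⁻¹ ∈ X a b) : n ∈ Subgroup.normalizer ((X a b : Subgroup G) : Set G) := by
  apply mem_norm
  intro x hx
  rw [← p.X_eq h1 h2 q]
  refine mem_X.2 ⟨?_, ?_⟩
  · rw [← cj_mul, ← cj_mul, (mem_X.1 hx).1]
  · rw [← cj_mul, ← cj_mul, (mem_X.1 hx).2]

theorem swap_mem (h1 : One S) (p : PP S a b) {c d : G} (hc : c ∈ X a b) (hd : d ∈ X a b) (q : PP S c d) :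
    ∃ n ∈ Subgroup.normalizer ((X a b : Subgroup G) : Set G), n * c * n⁻¹ = d ∧ n * d * n⁻¹ = c := by
  obtain ⟨h, e1, e2⟩ := q.swap h1
  refine ⟨h, ?_, e1, e2⟩
  have hX := p.X_eq hc hd q
  have := q.norm_of (n := h) (by rw [e1, e2]; exact q.symm h1) (by rw [e1, hX]; exact hd) (by rw [e2, hX]; exact hc)
  rwa [hX] at this

theorem trans (h1 : One S) (p : PP S a b) {c : G} (hc : c ∈ X a b) (hc1 : c ≠ 1) :
    ∃ n ∈ Subgroup.normalizer ((X a b : Subgroup G) : Set G), n * a * n⁻¹ = c := by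
  rcases p.cases hc hc1 with h | ⟨_, h⟩
  · obtain ⟨n, hn, e, _⟩ := p.swap_mem h1 p.a_mem hc h
    exact ⟨n, hn, e⟩
  · obtain ⟨n1, hn1, e1, e1'⟩ := p.swap_mem h1 hc p.b_mem h
    obtain ⟨n2, hn2, e2, _⟩ := p.swap_mem h1 p.a_mem p.b_mem p
    refine ⟨n1 * n2, mul_mem hn1 hn2, ?_⟩
    rw [cj_cj, e2, e1']

theorem norm_mem {n x : G} (hn : n ∈ Subgroup.normalizer ((X a b : Subgroup G) : Set G)) (hx : x ∈ X a b) :
    n * x * n⁻¹ ∈ X a b := (Subgroup.mem_normalizer_iff.1 hn x).1 hx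

/-- every nontrivial element of `X` is the first member of a pair defining `X` -/
theorem pair_at (h1 : One S) (p : PP S a b) {c : G} (hc : c ∈ X a b) (hc1 : c ≠ 1) :
    ∃ d ∈ X a b, PP S c d ∧ X c d = X a b := by
  obtain ⟨n, hn, e⟩ := p.trans h1 hc hc1
  have q := p.conj n
  rw [e] at q
  exact ⟨n * b * n⁻¹, norm_mem hn p.b_mem, q, p.X_eq hc (norm_mem hn p.b_mem) q⟩

/-- the block -/
def Bk (S : Setup G) (a b c : G) : Subgroup G := X a b ⊓ S.q c

theorem Bk_eq_V (p : PP S a b) : ∃ w, S.Four a w ∧ b ∈ Four.T S a w ∧ Bk S a b a = Four.V a w := by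
  obtain ⟨w, f, ht⟩ := p.exT
  refine ⟨w, f, ht, ?_⟩
  ext x
  constructor
  · rintro ⟨h1, h2⟩
    obtain ⟨_, h | h⟩ := f.mem_cent ht (mem_X.1 h1).1 (mem_X.1 h1).2
    · exact h
    · exact absurd h2 h.2.1
  · intro h
    refine ⟨mem_X.2 ⟨?_, ?_⟩, f.V_le_q h⟩
    · rcases f.mem_V.1 h with h | h | h | h
      · rw [h]; group
      · rw [h]
      · rw [h]; exact f.comm.symm
      · rw [h, mul_assoc, ← f.comm, ← mul_assoc]
    · exact (f.R_comm_V ht.1 h).symm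

theorem card_Bk (p : PP S a b) : Nat.card (Bk S a b a) = 4 := by
  obtain ⟨w, f, ht, e⟩ := p.Bk_eq_V
  rw [e]; exact f.card_V

theorem Bk_same (p : PP S a b) {d : G} (hd : d ∈ Bk S a b a) (hd1 : d ≠ 1) : Bk S a b d = Bk S a b a := by
  obtain ⟨w, f, ht, e⟩ := p.Bk_eq_V
  rw [e] at hd ⊢
  ext x
  constructor
  · rintro ⟨h1, h2⟩
    obtain ⟨_, h | h⟩ := f.mem_cent ht (mem_X.1 h1).1 (mem_X.1 h1).2
    · exact h
    · exfalso
      rcases f.mem_V.1 hd with h' | h' | h' | h'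
      · exact hd1 h'
      · exact h.2.1 (h' ▸ h2)
      · exact h.2.2.1 (h' ▸ h2)
      · exact h.2.2.2 (h' ▸ h2)
  · intro h
    have hx : x ∈ Bk S a b a := by rw [e]; exact h
    refine ⟨hx.1, ?_⟩
    rcases f.mem_V.1 hd with h' | h' | h' | h'
    · exact absurd h' hd1
    · rw [h']; exact f.V_le_q h
    · rw [h']; exact f.V_le_q' h
    · rw [h']; exact f.V_le_q'' h

theorem Bk_same' (h1 : One S) (p : PP S a b) {c d : G} (hc : c ∈ X a b) (hc1 : c ≠ 1) (hd : d ∈ Bk S a b c)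
    (hd1 : d ≠ 1) : Bk S a b d = Bk S a b c := by
  obtain ⟨e, he, q, hX⟩ := p.pair_at h1 hc hc1
  have := q.Bk_same (d := d) (by simpa only [Bk, hX] using hd) hd1
  simpa only [Bk, hX] using this

theorem card_Bk' (h1 : One S) (p : PP S a b) {c : G} (hc : c ∈ X a b) (hc1 : c ≠ 1) : Nat.card (Bk S a b c) = 4 := by
  obtain ⟨e, he, q, hX⟩ := p.pair_at h1 hc hc1
  have := q.card_Bk
  simpa only [Bk, hX] using this

theorem self_mem (h1 : One S) (p : PP S a b) {c : G} (hc : c ∈ X a b) (hc1 : c ≠ 1) : c ∈ Bk S a b c := by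
  obtain ⟨d, hd, q, hX⟩ := p.pair_at h1 hc hc1
  obtain ⟨w, f, ht, e⟩ := q.Bk_eq_V
  have : c ∈ Bk S c d c := by rw [e]; exact f.mem_V.2 (Or.inr (Or.inl rfl))
  simpa only [Bk, hX] using this

theorem Bk_conj (h1 : One S) (p : PP S a b) {c n : G} (hc : c ∈ X a b) (hc1 : c ≠ 1)
    (hn : n ∈ Subgroup.normalizer ((X a b : Subgroup G) : Set G)) :
    (Bk S a b c).map (MulAut.conj n).toMonoidHom = Bk S a b (n * c * n⁻¹) := by
  have hZc : S.Z c := h1 c (p.X_sq hc) hc1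
  ext x
  constructor
  · rintro ⟨y, ⟨hy1, hy2⟩, rfl⟩
    exact ⟨norm_mem hn hy1, conj_mem_q hZc n hy2⟩
  · rintro ⟨hx1, hx2⟩
    refine ⟨n⁻¹ * x * n, ⟨?_, ?_⟩, by simp [MulAut.conj_apply, mul_assoc]⟩
    · have := norm_mem (inv_mem hn) hx1
      simpa using this
    · exact (mem_q_conj hZc n).1 hx2

/-- an element fixing all blocks and one involution of `X` lies in `X` -/
theorem semireg (h1 : One S) (p : PP S a b) {l : G}
    (hfix : ∀ c ∈ X a b, c ≠ 1 → l * c * l⁻¹ ∈ Bk S a b c) (hl : l * a = a * l) : l ∈ X a b := by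
  refine mem_X.2 ⟨hl, ?_⟩
  by_contra hne
  have hbb : l * b * l⁻¹ ∈ Bk S a b b := hfix b p.b_mem p.hb1
  have hb' : l * b * l⁻¹ ≠ b := fun h => hne (cj_eq_self.1 h)
  set b' := l * b * l⁻¹ with hb'd
  have hs : a * b ∈ X a b := mul_mem p.a_mem p.b_mem
  have hs1 : a * b ≠ 1 := by
    intro h
    apply p.hne
    have : a⁻¹ = b := inv_eq_of_mul_eq_one_right h
    rw [← this]; exact (inv_eq_of_mul_eq_one_left p.a2).symm
  have hls := hfix (a * b) hs hs1
  rw [cj_mul, cj_eq_self.2 hl, ← hb'd] at hls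
  have hss := p.self_mem h1 hs hs1
  have hbself := p.self_mem h1 p.b_mem p.hb1
  have hprod : b * b' ∈ Bk S a b (a * b) := by
    have h3 := mul_mem hss hls
    have e : a * b * (a * b') = b * b' := by
      have e1 : a * b = b * a := p.comm.symm
      rw [e1, mul_assoc, ← mul_assoc a a b', p.a2, one_mul]
    rwa [e] at h3
  have hprod' : b * b' ∈ Bk S a b b := mul_mem hbself hbb
  have hne1 : b * b' ≠ 1 := by
    intro h
    apply hb'
    have : b⁻¹ = b' := inv_eq_of_mul_eq_one_right h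
    rw [← this]; exact inv_eq_of_mul_eq_one_left p.hb2
  have e1 := p.Bk_same' h1 hs hs1 hprod hne1
  have e2 := p.Bk_same' h1 p.b_mem p.hb1 hprod' hne1
  rw [e1] at e2
  have h4 : a * b ∈ Bk S a b b := by rw [← e2]; exact hss
  have h5 : a ∈ Bk S a b b := by
    have h6 := mul_mem h4 hbself
    rwa [mul_assoc, p.hb2, mul_one] at h6
  exact (p.symm h1).hbq h5.2

end PP

end Cfsg.Agent.Lib.J3P
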