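import Cfsg.Agent.Lib.J3PDef
import Cfsg.Agent.Lib.SubgroupTools

/-!
# Piece C1 of S0456 (helper79)
-/

set_option autoImplicit false
open Cfsg Cfsg.Agent.Lib Cfsg.Agent.Lib.LargeExtra Cfsg.Agent.Lib.JTw Cfsg.Agent.Lib.JTw.Setup Subgroup

namespace Cfsg.Agent.Lib.J3P

variable {G : Type*} [Group G] [Finite G]

/-- card of `(Q ∩ C(y)) ⊔ ⟨y⟩` -/
theorem card_aux {s y : G} {Q : Subgroup G} (hQs : ∀ q ∈ Q, q * s = s * q) (hsy : s * y = y * s)
    (hco : (Nat.card Q).Coprime (orderOf y))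
    (hc : ∀ c : G, c * s = s * c → c * y = y * c → ∃ r ∈ zpowers y, ∃ q ∈ Q, y * q = q * y ∧ c = r * q) :
    Nat.card ↥(centralizer ({s} : Set G) ⊓ centralizer ({y} : Set G)) =
      Nat.card ↥(Q ⊓ centralizer ({y} : Set G)) * orderOf y := by
  have h1 : centralizer ({s} : Set G) ⊓ centralizer ({y} : Set G) = (Q ⊓ centralizer ({y} : Set G)) ⊔ zpowers y := by
    apply le_antisymm
    · rintro c ⟨h1, h2⟩
      obtain ⟨r, hr, q, hq, hq2, rfl⟩ := hc c (mem_centralizer_one.1 h1) (mem_centralizer_one.1 h2)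
      exact mul_mem (mem_sup_right hr) (mem_sup_left ⟨hq, mem_centralizer_one.2 hq2.symm⟩)
    · apply sup_le
      · rintro q ⟨hq, hq2⟩
        exact ⟨mem_centralizer_one.2 (hQs q hq), hq2⟩
      · rw [zpowers_le]
        exact ⟨mem_centralizer_one.2 hsy.symm, mem_centralizer_one.2 rfl⟩
  have h2 : zpowers y ≤ normalizer ((Q ⊓ centralizer ({y} : Set G) : Subgroup G) : Set G) := by
    rw [zpowers_le, mem_normalizer_iff]
    intro q
    have key : ∀ q : G, q ∈ Q ⊓ centralizer ({y} : Set G) → y * q * y⁻¹ = q := by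
      rintro q ⟨-, hq⟩
      rw [← mem_centralizer_one.1 hq]; group
    constructor
    · intro hq
      rw [key q hq]; exact hq
    · intro hq
      have h3 := key _ hq
      have h4 : y * q * y⁻¹ = q := by
        have : y * (y * q * y⁻¹) * y⁻¹ = y * q * y⁻¹ := h3
        have h5 := mul_right_cancel this
        exact mul_left_cancel h5
      rw [h4] at hq
      exact hq
  have h3 : (Nat.card ↥(Q ⊓ centralizer ({y} : Set G))).Coprime (Nat.card (zpowers y)) := by
    rw [Nat.card_zpowers]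
    exact Nat.Coprime.coprime_dvd_left (card_dvd_of_le inf_le_left) hco
  rw [h1, SubgroupTools.card_sup_of_coprime h2 h3, Nat.card_zpowers]

-- [C1]
theorem cent_card (S : Setup G) {s y : G} (hs : S.Z s) (hy : orderOf y = 3) (hsy : s * y = y * s) :
    Nat.card ↥(Subgroup.centralizer ({s} : Set G) ⊓ Subgroup.centralizer ({y} : Set G)) = 24 := by
  have hb := hs.base
  obtain ⟨w, f⟩ := Z_exists_four S hs
  have h8 := (hb.three_dih f.hmem f.hw2 f.hw1 f.hwu hsy.symm hy).1
  rw [card_aux (fun q hq => hb.pre.cen q hq) hsy (by rw [hb.card, hy]; norm_num)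
    (fun c h1 h2 => hb.three_cent hsy.symm hy h1 h2), h8, hy]

end Cfsg.Agent.Lib.J3P
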