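import Cfsg.Agent.Lib.JTw16

/-!
# J3, piece C4 (helper30): no element of order four inverts `y` inside `C(s)`.
-/

set_option autoImplicit false

open Cfsg Cfsg.Agent.Lib.LargeExtra Cfsg.Agent.Lib.JTw Cfsg.Agent.Lib.JTw.Setup Cfsg.Agent.Lib.JTw.Setup.Four

namespace Cfsg.Agent.Lib.J3P

namespace C4

variable {G : Type*} [Group G]

theorem swap_comm {x y a : G} (hx : x * y * x⁻¹ = y⁻¹) (ha : y * a = a * y) :
    y * (x * a * x⁻¹) = (x * a * x⁻¹) * y := by
  have h1 : x * y⁻¹ * x⁻¹ = y := by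
    have h := congrArg (fun t => t⁻¹) hx
    simpa [mul_assoc] using h
  have h2 : y⁻¹ * a = a * y⁻¹ := by
    rw [inv_mul_eq_iff_eq_mul, ← mul_assoc, ha, mul_assoc, mul_inv_cancel, mul_one]
  calc y * (x * a * x⁻¹) = (x * y⁻¹ * x⁻¹) * (x * a * x⁻¹) := by rw [h1]
    _ = x * (y⁻¹ * a) * x⁻¹ := by group
    _ = x * (a * y⁻¹) * x⁻¹ := by rw [h2]
    _ = (x * a * x⁻¹) * (x * y⁻¹ * x⁻¹) := by group
    _ = (x * a * x⁻¹) * y := by rw [h1]

variable [Finite G]

theorem star (S : Setup G) {s y x d : G} (hs : S.Z s) (hy : orderOf y = 3) (hsy : s * y = y * s)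
    (hxs : x * s = s * x) (hxy : x * y * x⁻¹ = y⁻¹) (hd : d ∈ S.q s) (hd2 : d * d = 1)
    (hd1 : d ≠ 1) (hds : d ≠ s) (hyd : y * d = d * y) (hxd : x * d = d * x) : False := by
  have f : S.Four s d := ⟨hs, hd, hd2, hd1, hds⟩
  have hc := hs.base.card_cent_two hd hd2 hd1 hds
  set M := Subgroup.centralizer ({s} : Set G) ⊓ Subgroup.centralizer ({d} : Set G) with hM
  have hRM : R S s d ≤ M := fun r hr =>
    ⟨mem_centralizer_one.2 (f.R_comm_u hr), mem_centralizer_one.2 (f.R_comm_w hr)⟩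
  have hMs : ∀ m ∈ M, m * s = s * m := fun m hm => mem_centralizer_one.1 hm.1
  have hMd : ∀ m ∈ M, m * d = d * m := fun m hm => mem_centralizer_one.1 hm.2
  set N := (R S s d).subgroupOf M with hN
  have hNn : N.Normal := by
    constructor
    intro n hn g
    have h1 := f.conj_R (hMs g g.2) (hMd g g.2) (show (n : G) ∈ R S s d from hn)
    exact h1
  have hNc : Nat.card N = 64 := by
    rw [hN, SubgroupTools.card_subgroupOf_of_le hRM, f.card_R]
  have hq : Nat.card (M ⧸ N) = 3 := by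
    have h1 := Subgroup.card_eq_card_quotient_mul_card_subgroup N
    rw [hc, hNc] at h1
    omega
  have : Fact (Nat.Prime 3) := ⟨by norm_num⟩
  have hcyc : IsCyclic (M ⧸ N) := isCyclic_of_prime_card hq
  obtain ⟨g0, hg0⟩ := hcyc.exists_generator
  have hxM : x ∈ M := ⟨mem_centralizer_one.2 hxs, mem_centralizer_one.2 hxd⟩
  have hyM : y ∈ M := ⟨mem_centralizer_one.2 hsy.symm, mem_centralizer_one.2 hyd⟩
  have hcomm : (QuotientGroup.mk' N ⟨x, hxM⟩) * (QuotientGroup.mk' N ⟨y, hyM⟩) =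
      (QuotientGroup.mk' N ⟨y, hyM⟩) * (QuotientGroup.mk' N ⟨x, hxM⟩) := by
    obtain ⟨i, hi⟩ := hg0 (QuotientGroup.mk' N ⟨x, hxM⟩)
    obtain ⟨k, hk⟩ := hg0 (QuotientGroup.mk' N ⟨y, hyM⟩)
    have hi : g0 ^ i = _ := hi
    have hk : g0 ^ k = _ := hk
    rw [← hi, ← hk]
    exact ((Commute.refl g0).zpow_zpow i k).eq
  have h1 : QuotientGroup.mk' N (⟨x, hxM⟩ * ⟨y, hyM⟩ * ⟨x, hxM⟩⁻¹ * ⟨y, hyM⟩⁻¹) = 1 := by
    rw [map_mul, map_mul, map_mul, map_inv, map_inv, hcomm]
    group
  have h2' : (⟨x, hxM⟩ * ⟨y, hyM⟩ * ⟨x, hxM⟩⁻¹ * ⟨y, hyM⟩⁻¹ : M) ∈ N := (QuotientGroup.eq_one_iff _).mp h1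
  have h2 : x * y * x⁻¹ * y⁻¹ ∈ R S s d := h2'
  rw [hxy] at h2
  have h3 : y⁻¹ * y⁻¹ = y := by
    have h4 : y ^ 3 = 1 := pow3 hy
    have h5 : y * y * y = 1 := by rw [← h4, pow_succ, pow_two]
    rw [← mul_inv_rev, inv_eq_iff_mul_eq_one]
    exact h5
  rw [h3] at h2
  have h4 := Subgroup.orderOf_dvd_natCard _ h2
  rw [f.card_R, hy] at h4
  norm_num at h4

theorem star2 (S : Setup G) {s x r : G} (hs : S.Z s) (hxs : x * s = s * x) (hx2 : x * x = 1)
    (hxq : x ∉ S.q s) (hr : r ∈ S.q s) (hxr : x * r = r * x) : r * r = 1 := by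
  obtain ⟨w, f⟩ := Z_exists_four S hs
  obtain ⟨t, ht⟩ := Four.exists_T f
  obtain ⟨c, hc, hct⟩ := (f.T_class ht).1 x hxs hxq hx2
  have hc' : c⁻¹ * s = s * c⁻¹ := inv_comm_iff.2 hc
  have h1 : c⁻¹ * r * c⁻¹⁻¹ ∈ S.q s := hs.base.pre.norm c⁻¹ hc' r hr
  rw [inv_inv] at h1
  have h2 : (c⁻¹ * r * c) * t = t * (c⁻¹ * r * c) := by
    rw [← hct] at hxr
    have h3 : c⁻¹ * (c * t * c⁻¹ * r) * c = c⁻¹ * (r * (c * t * c⁻¹)) * c := by rw [hxr]
    have h4 : c⁻¹ * (c * t * c⁻¹ * r) * c = t * (c⁻¹ * r * c) := by group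
    have h5 : c⁻¹ * (r * (c * t * c⁻¹)) * c = (c⁻¹ * r * c) * t := by group
    rw [h4, h5] at h3
    exact h3.symm
  have h3 := f.cent_T ht h1 h2
  have h4 := f.V_sq h3
  have h5 : c⁻¹ * r * c * (c⁻¹ * r * c) = c⁻¹ * (r * r) * c := by group
  rw [h5] at h4
  have h6 : r * r = c * (c⁻¹ * (r * r) * c) * c⁻¹ := by group
  rw [h6, h4]; group

theorem not_mem (S : Setup G) {s y x : G} (hs : S.Z s) (hy : orderOf y = 3) (hsy : s * y = y * s)
    (hxy : x * y * x⁻¹ = y⁻¹) : x ∉ S.q s := by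
  intro hx
  have h1 : y * x⁻¹ * y⁻¹ ∈ S.q s := hs.base.pre.norm y hsy.symm _ (inv_mem hx)
  have h2 : x * (y * x⁻¹ * y⁻¹) ∈ S.q s := mul_mem hx h1
  have h3 : x * (y * x⁻¹ * y⁻¹) = y⁻¹ * y⁻¹ := by rw [← hxy]; group
  have h4 : y⁻¹ * y⁻¹ = y := by
    have h4 : y ^ 3 = 1 := pow3 hy
    have h5 : y * y * y = 1 := by rw [← h4, pow_succ, pow_two]
    rw [← mul_inv_rev, inv_eq_iff_mul_eq_one]
    exact h5
  rw [h3, h4] at h2
  have h5 := Subgroup.orderOf_dvd_natCard _ h2
  rw [hs.base.card, hy] at h5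
  norm_num at h5

end C4

open C4

variable {G : Type*} [Group G] [Finite G]

/-- [C4], with the involution of [C3] as a hypothesis. -/
theorem no_four_of (S : Setup G) {s y g : G} (hs : S.Z s) (hy : orderOf y = 3) (hsy : s * y = y * s)
    (hinv : ∃ j : G, j * s = s * j ∧ j * j = 1 ∧ j * y * j⁻¹ = y⁻¹)
    (hgs : g * s = s * g) (hg : g * y * g⁻¹ = y⁻¹) (h4 : g ^ 4 = 1) : g ^ 2 = 1 := by
  obtain ⟨j, hjs, hj2, hjy⟩ := hinv
  by_contra hg2
  have h := hs.base
  have hss : s * s = 1 := h.pre.sq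
  have hs1 : s ≠ 1 := h.pre.ne
  have hji : j⁻¹ = j := inv_eq_iff_mul_eq_one.2 hj2
  have hjq : j ∉ S.q s := not_mem S hs hy hsy hjy
  have hcen : ∀ q ∈ S.q s, q * s = s * q := h.pre.cen
  -- g = r' q j
  have hgj : (g * j) * y = y * (g * j) := by
    have h1 : j * y = y⁻¹ * j := by rw [← hjy]; group
    have h2 : g * y⁻¹ = y * g := by
      have h3 := congrArg (fun t => t⁻¹) hg
      have h4 : g * y⁻¹ * g⁻¹ = y := by simpa [mul_assoc] using h3
      exact mul_inv_eq_iff_eq_mul.1 h4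
    rw [mul_assoc, h1, ← mul_assoc, h2, mul_assoc]
  have hgjs : (g * j) * s = s * (g * j) := by
    rw [mul_assoc, hjs, ← mul_assoc, hgs, mul_assoc]
  obtain ⟨r', hr', q, hq, hyq, hgq⟩ := h.three_cent hsy.symm hy hgjs hgj
  have hgeq : g = r' * q * j := by
    rw [← hgq, mul_assoc, hj2, mul_one]
  have hjr : j * r' = r'⁻¹ * j := by
    obtain ⟨i, hi⟩ := hr'
    have hi : y ^ i = r' := hi
    have h1 : (j * y * j⁻¹) ^ i = j * y ^ i * j⁻¹ := conj_zpow
    rw [hjy, hi] at h1
    have h2 : y⁻¹ ^ i = r'⁻¹ := by rw [inv_zpow, hi]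
    rw [h2] at h1
    rw [h1]; group
  have hrq : r' * q = q * r' := by
    obtain ⟨i, hi⟩ := hr'
    have hi : y ^ i = r' := hi
    rw [← hi]
    exact (Commute.zpow_left (show Commute y q from hyq) i).eq
  obtain ⟨q', hq'⟩ : ∃ q' : G, q' = j * q * j⁻¹ := ⟨_, rfl⟩
  have hq'mem : q' ∈ S.q s := by rw [hq']; exact h.pre.norm j hjs q hq
  have hyq' : y * q' = q' * y := by rw [hq']; exact swap_comm hjy hyq
  have hjqq : j * q = q' * j := by rw [hq']; group
  have hgg : g * g = q * q' := by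
    calc g * g = r' * q * (j * r') * q * j := by rw [hgeq]; group
      _ = r' * q * (r'⁻¹ * j) * q * j := by rw [hjr]
      _ = r' * q * r'⁻¹ * (j * q) * j := by group
      _ = r' * q * r'⁻¹ * (q' * j) * j := by rw [hjqq]
      _ = (r' * q) * r'⁻¹ * q' * (j * j) := by group
      _ = q * q' := by rw [hrq, hj2]; group
  have hdm : q * q' ∈ S.q s := mul_mem hq hq'mem
  have hd1 : q * q' ≠ 1 := by
    rw [← hgg]; intro h1; apply hg2; rw [pow_two, h1]
  have hd2 : (q * q') * (q * q') = 1 := by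
    rw [← hgg]
    rw [← h4, pow_succ, pow_succ, pow_two]; simp only [mul_assoc]
  have hyd : y * (q * q') = (q * q') * y := by
    rw [← mul_assoc, hyq, mul_assoc, hyq', mul_assoc]
  have hgd : g * (q * q') = (q * q') * g := by rw [← hgg, mul_assoc]
  have hds : q * q' = s := by
    by_contra hne
    exact star S hs hy hsy hgs hg hdm hd2 hd1 hne hyd hgd
  rcases h.pre.qsq q hq with hqq | hqq
  · -- q is an involution
    have hq1 : q ≠ 1 := by
      intro h1
      rw [hq', h1] at hds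
      apply hs1
      rw [← hds]; group
    have hqs : q ≠ s := by
      intro h1
      rw [hq', h1] at hds
      apply hs1
      have h2 : j * s * j⁻¹ = s := cj_eq_self.2 hjs
      rw [h2, hss] at hds
      exact hds.symm
    have hq'e : q' = s * q := by
      have h1 : q * (q * q') = q * s := by rw [hds]
      rw [← mul_assoc, hqq, one_mul, hcen q hq] at h1
      exact h1
    obtain ⟨hfix, ⟨b₀, hb₀, hb₀q, hyb₀⟩, -⟩ := h.three_fix hq hqq hq1 hqs hsy.symm hyq hy
    -- a noncommuting involution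
    have hex : ∃ b ∈ S.q s, b * q ≠ q * b ∧ y * b = b * y ∧ b * b = 1 := by
      rcases h.pre.qsq b₀ hb₀ with hbb | hbb
      · exact ⟨b₀, hb₀, hb₀q, hyb₀, hbb⟩
      · refine ⟨q * b₀, mul_mem hq hb₀, ?_, ?_, ?_⟩
        · intro h1
          rw [mul_assoc] at h1
          exact hb₀q (mul_left_cancel h1)
        · rw [← mul_assoc, hyq, mul_assoc, hyb₀, mul_assoc]
        · have h1 : q * b₀ = s * (b₀ * q) := by
            rcases h.pre.comm q hq b₀ hb₀ with h2 | h2
            · exact absurd h2.symm hb₀q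
            · exact h2
          calc q * b₀ * (q * b₀) = s * (b₀ * q) * (q * b₀) := by rw [← h1]
            _ = s * (b₀ * (q * q) * b₀) := by group
            _ = s * (b₀ * b₀) := by rw [hqq]; group
            _ = 1 := by rw [hbb, hss]
    obtain ⟨b, hb, hbq, hyb, hbb⟩ := hex
    have hbi : b⁻¹ = b := inv_eq_iff_mul_eq_one.2 hbb
    have hqb : q * b = s * (b * q) := by
      rcases h.pre.comm q hq b hb with h2 | h2
      · exact absurd h2.symm hbq
      · exact h2
    have hb1 : b ≠ 1 := by rintro rfl; simp at hbq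
    have hbs : b ≠ s := by
      rintro rfl
      exact hbq (hcen q hq).symm
    obtain ⟨b', hb'⟩ : ∃ b' : G, b' = j * b * j⁻¹ := ⟨_, rfl⟩
    have hb'mem : b' ∈ S.q s := by rw [hb']; exact h.pre.norm j hjs b hb
    have hyb' : y * b' = b' * y := by rw [hb']; exact swap_comm hjy hyb
    have hb'b' : b' * b' = 1 := by
      rw [hb']
      have : j * b * j⁻¹ * (j * b * j⁻¹) = j * (b * b) * j⁻¹ := by group
      rw [this, hbb]; group
    -- b' does not commute with q
    have hqb' : q * b' = s * (b' * q) := by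
      rcases h.pre.comm q hq b' hb'mem with h2 | h2
      · exfalso
        apply hbq
        -- conjugate back
        have h3 : q' * b' = b' * q' := by
          rw [hq'e, mul_assoc, h2, ← mul_assoc, ← mul_assoc, hcen b' hb'mem]
        have h5 : j * (q * b) * j⁻¹ = j * (b * q) * j⁻¹ := by
          have e1 : j * (q * b) * j⁻¹ = q' * b' := by rw [hq', hb']; group
          have e2 : j * (b * q) * j⁻¹ = b' * q' := by rw [hq', hb']; group
          rw [e1, e2, h3]
        exact (cj_inj h5).symm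
      · exact h2
    have hcq : (b * b') * q = q * (b * b') := by
      calc (b * b') * q = (s * s) * (b * b' * q) := by rw [hss, one_mul]
        _ = s * (s * b) * (b' * q) := by group
        _ = s * (b * s) * (b' * q) := by rw [hcen b hb]
        _ = s * b * (s * (b' * q)) := by group
        _ = s * b * (q * b') := by rw [← hqb']
        _ = (s * (b * q)) * b' := by group
        _ = (q * b) * b' := by rw [← hqb]
        _ = q * (b * b') := by group
    have hyc : y * (b * b') = (b * b') * y := by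
      rw [← mul_assoc, hyb, mul_assoc, hyb', mul_assoc]
    have hcV := hfix (b * b') (mul_mem hb hb'mem) hcq hyc
    rw [h.mem_V hq hqq] at hcV
    have hb'e : b' = b * (b * b') := by rw [← mul_assoc, hbb, one_mul]
    have hbqbq : (b * q) * (b * q) = s := by
      calc (b * q) * (b * q) = b * (q * b) * q := by group
        _ = b * (s * (b * q)) * q := by rw [hqb]
        _ = (b * s) * b * (q * q) := by group
        _ = (s * b) * b * (q * q) := by rw [hcen b hb]
        _ = s * (b * b) * (q * q) := by group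
        _ = s := by rw [hbb, hqq, mul_one, mul_one]
    rcases hcV with hc | hc | hc | hc
    · -- b' = b
      rw [hc, mul_one] at hb'e
      have h5 : j * b = b * j := cj_eq_self.1 (by rw [← hb']; exact hb'e)
      exact star S hs hy hsy hjs hjy hb hbb hb1 hbs hyb h5
    · -- b' = b s
      rw [hc] at hb'e
      have h5 : j * (q * b) * j⁻¹ = q * b := by
        have e1 : j * (q * b) * j⁻¹ = q' * b' := by rw [hq', hb']; group
        rw [e1, hq'e, hb'e]
        calc s * q * (b * s) = s * q * (s * b) := by rw [hcen b hb]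
          _ = s * (q * s) * b := by group
          _ = s * (s * q) * b := by rw [hcen q hq]
          _ = (s * s) * (q * b) := by group
          _ = q * b := by rw [hss, one_mul]
      have h6 := star2 S hs hjs hj2 hjq (mul_mem hq hb) (cj_eq_self.1 h5)
      apply hs1
      have h7 : q * b * (q * b) = s := by
        calc q * b * (q * b) = s * (b * q) * (q * b) := by rw [← hqb]
          _ = s * (b * (q * q) * b) := by group
          _ = s * (b * b) := by rw [hqq]; group
          _ = s := by rw [hbb, mul_one]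
      rw [h7] at h6
      exact h6
    · rw [hc] at hb'e
      rw [hb'e, hbqbq] at hb'b'
      exact hs1 hb'b'
    · rw [hc] at hb'e
      have h5 : b' * b' = s := by
        rw [hb'e]
        calc b * (s * q) * (b * (s * q)) = (b * s) * q * ((b * s) * q) := by group
          _ = (s * b) * q * ((s * b) * q) := by rw [hcen b hb]
          _ = s * ((b * q) * s) * (b * q) := by group
          _ = s * (s * (b * q)) * (b * q) := by rw [hcen _ (mul_mem hb hq)]
          _ = (s * s) * ((b * q) * (b * q)) := by group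
          _ = s := by rw [hss, hbqbq, one_mul]
      rw [h5] at hb'b'
      exact hs1 hb'b'
  · -- q of order 4
    have hq'e : q' = q := by
      rw [← hqq] at hds
      exact mul_left_cancel hds
    have h5 : j * q = q * j := cj_eq_self.1 (by rw [← hq']; exact hq'e)
    have h6 := star2 S hs hjs hj2 hjq hq h5
    rw [hqq] at h6
    exact hs1 h6

end Cfsg.Agent.Lib.J3P
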