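import Cfsg.Agent.Lib.J3PE1
import Cfsg.Agent.Lib.J3PDa
import Cfsg.Agent.Lib.J3PC2
import Cfsg.Agent.Lib.J3PC3b

/-!
# J3, piece E1, final form (helper26)
-/

set_option autoImplicit false
set_option linter.all false

open Cfsg Cfsg.Agent.Lib.LargeExtra Cfsg.Agent.Lib.JTw Cfsg.Agent.Lib.JTw.Setup

namespace Cfsg.Agent.Lib.J3P

theorem zpow_normal {G : Type*} [Group G] (y : G) :
    ((Subgroup.zpowers y).subgroupOf (Subgroup.centralizer ({y} : Set G))).Normal := by
  refine ⟨fun a ha g => ?_⟩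
  rw [Subgroup.mem_subgroupOf] at ha ⊢
  obtain ⟨k, hk⟩ := ha
  have hk : y ^ k = (a : G) := hk
  have hg : (g : G) * y = y * (g : G) := mem_centralizer_one.1 g.2
  have h1 : (g : G) * y ^ k = y ^ k * (g : G) := ((show Commute (g : G) y from hg).zpow_right k).eq
  refine ⟨k, ?_⟩
  show y ^ k = (g : G) * (a : G) * (g : G)⁻¹
  rw [← hk, h1, mul_inv_cancel_right]

theorem exists_j {G : Type*} [Group G] [Finite G] (S : Setup G) (h1 : One S) {x y s : G} (hx : orderOf x = 5)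
    (hy : orderOf y = 3) (hs : orderOf s = 2) (hxy : x * y = y * x) (hsy : s * y = y * s) :
    ∃ j : G, orderOf j = 2 ∧ j * x = x * j ∧ j * y * j⁻¹ = y⁻¹ := by
  have hn := zpow_normal y
  obtain ⟨e⟩ := quot_a6_of S h1 hx hy hs hxy hsy (fun hs hsy hsC => cent_dih S hs hy hsy hsC)
  exact exists_j_of S h1 hx hy hs hxy hsy e (fun hs hsy => exists_inv S hs hy hsy)

end Cfsg.Agent.Lib.J3P
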