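import Cfsg.Agent.Lib.JTw25
import Cfsg.Agent.Lib.ZStarU
import Mathlib

set_option autoImplicit false
set_option linter.all false

/-! The hypothesis that `z` is not weakly closed, from the `Z*`-theorem. -/

namespace Cfsg.Agent.Lib.JTw

open Cfsg Cfsg.Agent.Lib Cfsg.Agent.Lib.LargeExtra Setup

theorem card_filter_mem {G : Type*} [Group G] [Fintype G] (H : Subgroup G) [DecidablePred (· ∈ H)] :
    (Finset.univ.filter (· ∈ H)).card = Nat.card H := by
  rw [Nat.card_eq_fintype_card, Fintype.card_subtype]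

/-- centralizers of involutions acting on `Q` are not small -/
theorem Base.four_le {G : Type*} [Group G] [Finite G] {z : G} {Q : Subgroup G} (h : Base z Q) {y : G}
    (hyz : y * z = z * y) (hy2 : y * y = 1) : 4 ≤ Nat.card ↥(Q ⊓ Subgroup.centralizer ({y} : Set G)) := by
  classical
  haveI := Fintype.ofFinite G
  set A := Q ⊓ Subgroup.centralizer ({y} : Set G) with hA
  have yi : y⁻¹ = y := inv_eq_of_mul_eq_one_left hy2
  have hyQ : ∀ q ∈ Q, y * q * y⁻¹ ∈ Q := h.pre.norm y hyz
  let s : Finset G := Finset.univ.filter (· ∈ Q)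
  let f : G → G := fun q => q⁻¹ * (y * q * y⁻¹)
  have hs : s.card = 32 := by
    show (Finset.univ.filter (· ∈ Q)).card = 32
    rw [card_filter_mem, h.card]
  -- fibres
  have hfib : ∀ a ∈ s.image f, (s.filter (fun x => f x = a)).card ≤ Nat.card A := by
    intro a ha
    obtain ⟨q, hq, rfl⟩ := Finset.mem_image.1 ha
    rw [← card_filter_mem A]
    apply Finset.card_le_card_of_injOn (fun x => x * q⁻¹)
    · intro x hx
      simp only [Finset.coe_filter, Set.mem_setOf_eq] at hx
      have hxQ : x ∈ Q := (Finset.mem_filter.1 hx.1).2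
      have hqQ : q ∈ Q := (Finset.mem_filter.1 hq).2
      have hxq : x⁻¹ * (y * x * y⁻¹) = q⁻¹ * (y * q * y⁻¹) := hx.2
      simp only [Finset.coe_filter, Finset.mem_univ, true_and, Set.mem_setOf_eq]
      refine Subgroup.mem_inf.2 ⟨Q.mul_mem hxQ (Q.inv_mem hqQ), mem_centralizer_one.2 ?_⟩
      have h1 : y * x * y⁻¹ = x * q⁻¹ * (y * q * y⁻¹) := by
        rw [← mul_right_inj x⁻¹, hxq]; group
      have h2 : y * (x * q⁻¹) * y⁻¹ = x * q⁻¹ := by
        calc y * (x * q⁻¹) * y⁻¹ = (y * x * y⁻¹) * (y * q * y⁻¹)⁻¹ := by group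
          _ = x * q⁻¹ := by rw [h1]; group
      exact (mul_inv_eq_iff_eq_mul.1 h2).symm
    · intro x _ x' _ hxx
      exact mul_right_cancel hxx
  have h1 := Finset.card_le_mul_card_image s (Nat.card A) hfib
  -- the image
  let I1 : Finset G := Finset.univ.filter (· ∈ A)
  let I2 : Finset G := Finset.univ.filter (fun m => m ∈ Q ∧ y * m * y⁻¹ = z * m)
  have hI : s.image f ⊆ I1 ∪ I2 := by
    intro m hm
    obtain ⟨q, hq, rfl⟩ := Finset.mem_image.1 hm
    have hqQ : q ∈ Q := (Finset.mem_filter.1 hq).2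
    have hmQ : f q ∈ Q := Q.mul_mem (Q.inv_mem hqQ) (hyQ q hqQ)
    have h2 : y * f q * y⁻¹ = (f q)⁻¹ := by
      show y * (q⁻¹ * (y * q * y⁻¹)) * y⁻¹ = (q⁻¹ * (y * q * y⁻¹))⁻¹
      have : y * (q⁻¹ * (y * q * y⁻¹)) * y⁻¹ = (y * q⁻¹ * y⁻¹) * ((y * y) * q * (y * y)⁻¹) := by group
      rw [this, hy2]; group
    rw [Finset.mem_union]
    rcases h.pre.qsq _ hmQ with h3 | h3
    · left
      have h4 : (f q)⁻¹ = f q := inv_eq_of_mul_eq_one_left h3
      rw [h4] at h2
      exact Finset.mem_filter.2 ⟨Finset.mem_univ _, Subgroup.mem_inf.2 ⟨hmQ, mem_centralizer_one.2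
        (mul_inv_eq_iff_eq_mul.1 h2).symm⟩⟩
    · right
      refine Finset.mem_filter.2 ⟨Finset.mem_univ _, hmQ, ?_⟩
      rw [h2]
      apply inv_eq_of_mul_eq_one_left
      rw [mul_assoc, h3, h.pre.sq]
  have hI2 : I2.card ≤ Nat.card A := by
    rcases Finset.eq_empty_or_nonempty I2 with h0 | ⟨m0, hm0⟩
    · rw [h0]; simp
    · obtain ⟨-, hm0Q, hm0y⟩ := Finset.mem_filter.1 hm0
      rw [← card_filter_mem A]
      apply Finset.card_le_card_of_injOn (fun x => m0⁻¹ * x)
      · intro x hx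
        obtain ⟨-, hxQ, hxy⟩ := Finset.mem_filter.1 (Finset.mem_coe.1 hx)
        simp only [Finset.coe_filter, Finset.mem_univ, true_and, Set.mem_setOf_eq]
        refine Subgroup.mem_inf.2 ⟨Q.mul_mem (Q.inv_mem hm0Q) hxQ, mem_centralizer_one.2 ?_⟩
        have h2 : y * (m0⁻¹ * x) * y⁻¹ = m0⁻¹ * x := by
          calc y * (m0⁻¹ * x) * y⁻¹ = (y * m0 * y⁻¹)⁻¹ * (y * x * y⁻¹) := by group
            _ = m0⁻¹ * x := by rw [hm0y, hxy]; group
        exact (mul_inv_eq_iff_eq_mul.1 h2).symm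
      · intro x _ x' _ hxx
        exact mul_left_cancel hxx
  have h2 : (s.image f).card ≤ Nat.card A + Nat.card A := by
    refine (Finset.card_le_card hI).trans ((Finset.card_union_le _ _).trans ?_)
    exact Nat.add_le_add (le_of_eq (card_filter_mem A)) hI2
  rw [hs] at h1
  by_contra hcon
  have h3 : Nat.card A ≤ 3 := by omega
  have h4 : Nat.card A * (s.image f).card ≤ 3 * 6 := Nat.mul_le_mul h3 (by omega)
  omega

/-- `z` is conjugate to another element of `Q` as soon as it is not isolated -/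
theorem Base.nwc {G : Type*} [Group G] [Finite G] {z : G} {Q : Subgroup G} (h : Base z Q)
    (hmin : ∀ E : Subgroup G, E ≤ Q → (∀ a ∈ E, a * a = 1) → Nat.card E ≤ 4) {g : G}
    (hc : g * z * g⁻¹ * z = z * (g * z * g⁻¹)) (hne : g * z * g⁻¹ ≠ z) : ∃ v ∈ Q, v ≠ z ∧ IsConj z v := by
  by_contra hcon
  push Not at hcon
  have WC : ∀ v ∈ Q, IsConj z v → v = z := fun v hv hzv => by
    by_contra hvz
    exact hcon v hv hvz hzv
  obtain ⟨y, hy⟩ : ∃ y, y = g * z * g⁻¹ := ⟨_, rfl⟩
  rw [← hy] at hc hne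
  have hzy : IsConj z y := isConj_iff.2 ⟨g, hy.symm⟩
  have hyQ : y ∉ Q := fun hyQ => hne (WC y hyQ hzy)
  have hy2 : y * y = 1 := by
    rw [hy, show g * z * g⁻¹ * (g * z * g⁻¹) = g * (z * z) * g⁻¹ by group, h.pre.sq]; group
  obtain ⟨φ, hφs, hφ⟩ := h.ex
  -- the conjugate `s`
  obtain ⟨s, hs⟩ : ∃ s, s = g⁻¹ * z * g := ⟨_, rfl⟩
  have hsz : s * z = z * s := by
    have : g⁻¹ * (y * z) * g = g⁻¹ * (z * y) * g := by rw [hc]
    have e1 : g⁻¹ * (y * z) * g = z * s := by rw [hy, hs]; group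
    have e2 : g⁻¹ * (z * y) * g = s * z := by rw [hy, hs]; group
    rw [e1, e2] at this
    exact this.symm
  have hsne : s ≠ z := by
    intro h0
    apply hne
    rw [hy]
    nth_rewrite 1 [← h0]
    rw [hs]; group
  have hzs : IsConj z s := isConj_iff.2 ⟨g⁻¹, by rw [hs]; group⟩
  have hsQ : s ∉ Q := fun hq => hsne (WC s hq hzs)
  have hs2 : s * s = 1 := by
    rw [hs, show g⁻¹ * z * g * (g⁻¹ * z * g) = g⁻¹ * (z * z) * g by group, h.pre.sq]; group
  -- `z` is not a square in `C_Q(y)`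
  have hsqr : ∀ a ∈ Q, a * y = y * a → a * a = 1 := by
    intro a haQ hay
    rcases h.pre.qsq a haQ with h1 | h1
    · exact h1
    · exfalso
      have hb : (g⁻¹ * a * g) * z = z * (g⁻¹ * a * g) := by
        have e1 : (g⁻¹ * a * g) * z = g⁻¹ * (a * y) * g := by rw [hy]; group
        have e2 : z * (g⁻¹ * a * g) = g⁻¹ * (y * a) * g := by rw [hy]; group
        rw [e1, e2, hay]
      have hbC : g⁻¹ * a * g ∈ Subgroup.centralizer ({z} : Set G) := mem_centralizer_one.2 hb
      have hsC : s ∈ Subgroup.centralizer ({z} : Set G) := mem_centralizer_one.2 hsz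
      have hbb : (⟨g⁻¹ * a * g, hbC⟩ : Subgroup.centralizer ({z} : Set G)) ^ 2 = ⟨s, hsC⟩ := by
        apply Subtype.ext
        show (g⁻¹ * a * g) ^ 2 = s
        rw [pow_two, show g⁻¹ * a * g * (g⁻¹ * a * g) = g⁻¹ * (a * a) * g by group, h1, hs]
      have hss : (⟨s, hsC⟩ : Subgroup.centralizer ({z} : Set G)) ^ 2 = 1 := by
        apply Subtype.ext
        show s ^ 2 = 1
        rw [pow_two, hs2]
      have h4 : (φ ⟨g⁻¹ * a * g, hbC⟩) ^ 4 = 1 := by
        rw [show (4 : ℕ) = 2 * 2 by norm_num, pow_mul, ← map_pow, hbb, ← map_pow, hss, map_one]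
      have h30 : (φ ⟨g⁻¹ * a * g, hbC⟩) ^ 30 = 1 := a5_pow _
      have h2 : (φ ⟨g⁻¹ * a * g, hbC⟩) ^ 2 = 1 := by
        have : (φ ⟨g⁻¹ * a * g, hbC⟩) ^ 2 = (φ ⟨g⁻¹ * a * g, hbC⟩) ^ 30 * ((φ ⟨g⁻¹ * a * g, hbC⟩) ^ 4)⁻¹ ^ 7 := by group
        rw [this, h4, h30]; simp
      rw [← map_pow, hbb, hφ] at h2
      exact hsQ h2
  have hA4 : Nat.card ↥(Q ⊓ Subgroup.centralizer ({y} : Set G)) = 4 := by
    apply le_antisymm
    · apply hmin _ inf_le_left
      intro a ha
      obtain ⟨ha1, ha2⟩ := Subgroup.mem_inf.1 ha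
      exact hsqr a ha1 (mem_centralizer_one.1 ha2)
    · exact h.four_le hc hy2
  obtain ⟨hcl, -⟩ := h.inv_class hc hyQ hy2 hA4
  obtain ⟨c, hcz, hcy⟩ := hcl s hsz hsQ hs2
  -- `u = g c` swaps `z` and `y`
  obtain ⟨u, hu⟩ : ∃ u, u = g * c := ⟨_, rfl⟩
  have huz : u * z * u⁻¹ = y := by
    rw [hu, hy, show g * c * z * (g * c)⁻¹ = g * (c * z) * c⁻¹ * g⁻¹ by group, hcz]; group
  have huy : u * y * u⁻¹ = z := by
    rw [hu, show g * c * y * (g * c)⁻¹ = g * (c * y * c⁻¹) * g⁻¹ by group, hcy, hs]; group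
  -- an element of `A`
  have hex : ∃ a ∈ Q ⊓ Subgroup.centralizer ({y} : Set G), a ≠ 1 ∧ a ≠ z := by
    by_contra hno
    push Not at hno
    have hle : Q ⊓ Subgroup.centralizer ({y} : Set G) ≤ Subgroup.zpowers z := by
      intro a ha
      by_cases h1 : a = 1
      · rw [h1]; exact one_mem _
      · rw [hno a ha h1]; exact Subgroup.mem_zpowers z
    have := Subgroup.card_le_of_le hle
    rw [hA4, Nat.card_zpowers, h.pre.orderOf] at this
    omega
  obtain ⟨a, haA, ha1, haz⟩ := hex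
  obtain ⟨haQ, hay⟩ := Subgroup.mem_inf.1 haA
  rw [mem_centralizer_one] at hay
  have ha2 : a * a = 1 := hsqr a haQ hay
  have haz' : a * z = z * a := h.pre.cen a haQ
  -- elements of `C(z) ∩ C(y)` of order 2 not conjugate to `z`
  have key : ∀ r : G, r * z = z * r → r * y = y * r → r * r = 1 → r ≠ 1 → ¬ IsConj z r → r = a ∨ r = a * z := by
    intro r hrz hry hr2 hr1 hrn
    have hrQ : r ∈ Q := by
      by_contra hrQ
      obtain ⟨c', hcz', hcy'⟩ := hcl r hrz hrQ hr2
      exact hrn (hzy.trans (isConj_iff.2 ⟨c', hcy'⟩))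
    have hrzz : r ≠ z := fun h0 => hrn (h0 ▸ IsConj.refl _)
    -- `{1, z, a, az}` is everything
    by_contra hno
    push Not at hno
    classical
    haveI := Fintype.ofFinite G
    have hE : ({1, z, a, a * z, r} : Finset G).card = 5 := by
      have hz1 := h.pre.ne
      have e1 : a * z ≠ 1 := by
        intro h0
        apply haz
        have : a = z⁻¹ := eq_inv_of_mul_eq_one_left h0
        rw [this]; exact inv_eq_of_mul_eq_one_left h.pre.sq
      have e2 : a * z ≠ z := fun h0 => ha1 (mul_eq_right.1 h0)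
      have e3 : a * z ≠ a := fun h0 => hz1 (mul_eq_left.1 h0)
      rw [Finset.card_insert_of_notMem, Finset.card_insert_of_notMem, Finset.card_insert_of_notMem,
        Finset.card_insert_of_notMem, Finset.card_singleton]
      · simp only [Finset.mem_singleton]; exact fun h0 => hno.2 h0.symm
      · simp only [Finset.mem_insert, Finset.mem_singleton, not_or]
        exact ⟨fun h0 => e3 h0.symm, fun h0 => hno.1 h0.symm⟩
      · simp only [Finset.mem_insert, Finset.mem_singleton, not_or]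
        exact ⟨fun h0 => haz h0.symm, fun h0 => e2 h0.symm, fun h0 => hrzz h0.symm⟩
      · simp only [Finset.mem_insert, Finset.mem_singleton, not_or]
        exact ⟨fun h0 => hz1 h0.symm, fun h0 => ha1 h0.symm, fun h0 => e1 h0.symm, fun h0 => hr1 h0.symm⟩
    have hsub : ({1, z, a, a * z, r} : Finset G) ⊆ Finset.univ.filter (· ∈ Q ⊓ Subgroup.centralizer ({y} : Set G)) := by
      intro x hx
      simp only [Finset.mem_filter, Finset.mem_univ, true_and]
      have hzA : z ∈ Q ⊓ Subgroup.centralizer ({y} : Set G) :=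
        Subgroup.mem_inf.2 ⟨h.pre.mem, mem_centralizer_one.2 hc.symm⟩
      simp only [Finset.mem_insert, Finset.mem_singleton] at hx
      rcases hx with rfl | rfl | rfl | rfl | rfl
      · exact one_mem _
      · exact hzA
      · exact haA
      · exact mul_mem haA hzA
      · exact Subgroup.mem_inf.2 ⟨hrQ, mem_centralizer_one.2 hry⟩
    have := Finset.card_le_card hsub
    rw [hE, card_filter_mem, hA4] at this
    omega
  -- conjugation by `u`
  have hnc : ∀ r : G, r ∈ Q → r ≠ z → ¬ IsConj z r := fun r hr hrz hcj => hrz (WC r hr hcj)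
  have himg : ∀ r : G, r ∈ Q → r ≠ 1 → r ≠ z → r * y = y * r → u * r * u⁻¹ = a ∨ u * r * u⁻¹ = a * z := by
    intro r hrQ hr1 hrz hry
    have hrzz := h.pre.cen r hrQ
    apply key
    · have e1 : u * r * u⁻¹ * z = u * (r * y) * u⁻¹ := by
        rw [show u * (r * y) * u⁻¹ = (u * r * u⁻¹) * (u * y * u⁻¹) by group, huy]
      have e2 : z * (u * r * u⁻¹) = u * (y * r) * u⁻¹ := by
        rw [show u * (y * r) * u⁻¹ = (u * y * u⁻¹) * (u * r * u⁻¹) by group, huy]
      rw [e1, e2, hry]
    · have e1 : u * r * u⁻¹ * y = u * (r * z) * u⁻¹ := by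
        rw [show u * (r * z) * u⁻¹ = (u * r * u⁻¹) * (u * z * u⁻¹) by group, huz]
      have e2 : y * (u * r * u⁻¹) = u * (z * r) * u⁻¹ := by
        rw [show u * (z * r) * u⁻¹ = (u * z * u⁻¹) * (u * r * u⁻¹) by group, huz]
      rw [e1, e2, hrzz]
    · rw [show u * r * u⁻¹ * (u * r * u⁻¹) = u * (r * r) * u⁻¹ by group, hsqr r hrQ hry]; group
    · intro h0
      exact hr1 (cj_eq_one.1 h0)
    · intro hcj
      exact hnc r hrQ hrz (hcj.trans (isConj_iff.2 ⟨u⁻¹, by group⟩))
  have haz1 : a * z ≠ 1 := by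
    intro h0
    apply haz
    have : a = z⁻¹ := eq_inv_of_mul_eq_one_left h0
    rw [this]; exact inv_eq_of_mul_eq_one_left h.pre.sq
  have hzA : z * y = y * z := hc.symm
  have i1 := himg a haQ ha1 haz hay
  have i2 := himg (a * z) (Q.mul_mem haQ h.pre.mem) haz1 (fun h0 => ha1 (mul_eq_right.1 h0)) (by
    rw [mul_assoc, hzA, ← mul_assoc, hay, mul_assoc])
  have hprod : (u * a * u⁻¹) * (u * (a * z) * u⁻¹) = y := by
    rw [show (u * a * u⁻¹) * (u * (a * z) * u⁻¹) = u * ((a * a) * z) * u⁻¹ by group, ha2, one_mul, huz]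
  have hneq : u * a * u⁻¹ ≠ u * (a * z) * u⁻¹ := by
    intro h0
    exact h.pre.ne (mul_eq_left.1 (cj_inj h0).symm)
  apply hne
  rw [← hprod]
  rcases i1 with i1 | i1 <;> rcases i2 with i2 | i2
  · exact absurd (i1.trans i2.symm) hneq
  · rw [i1, i2, ← mul_assoc, ha2, one_mul]
  · rw [i1, i2, mul_assoc, ← haz', ← mul_assoc, ha2, one_mul]
  · exact absurd (i1.trans i2.symm) hneq

/-- the setup from the hypotheses with `C / Q` isomorphic to `A5` -/
theorem exists_setup' {G : Type*} [Group G] [Finite G] [IsSimpleGroup G] (t : G) (ht : orderOf t = 2)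
    (Q : Subgroup (Subgroup.centralizer ({t} : Set G))) [Q.Normal] (hQ : Cfsg.IsExtraspecial 2 Q) (hcard : Nat.card Q = 32)
    (hminus : ∀ E : Subgroup Q, Cfsg.IsElementaryAbelian 2 E → Nat.card E ≤ 2 ^ 2)
    (h2c : Subgroup.centralizer (Q : Set (Subgroup.centralizer ({t} : Set G))) ≤ Q)
    (e : (Subgroup.centralizer ({t} : Set G)) ⧸ Q ≃* alternatingGroup (Fin 5)) : ∃ S : Setup G, S.z = t := by
  have htC : t ∈ Subgroup.centralizer ({t} : Set G) := mem_centralizer_one.2 rfl
  have ht1 : t ≠ 1 := by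
    intro h; rw [h, orderOf_one] at ht; omega
  have htQ : (⟨t, htC⟩ : Subgroup.centralizer ({t} : Set G)) ∈ Q := by
    apply h2c
    rw [Subgroup.mem_centralizer_iff]
    intro q hq
    apply Subtype.ext
    exact mem_centralizer_one.1 q.2
  obtain ⟨z', hz'⟩ := exists_exData hQ
  have hzt : z' = ⟨t, htC⟩ := by
    rcases hz'.center _ htQ (fun x hx => Subtype.ext (mem_centralizer_one.1 x.2).symm) with h | h
    · exact absurd (congrArg Subtype.val h) ht1
    · exact h.symm
  have hex : ExData (Q.map (Subgroup.centralizer ({t} : Set G)).subtype) t := by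
    have := hz'.map_subtype
    rw [hzt] at this
    exact this
  have hb : Base t (Q.map (Subgroup.centralizer ({t} : Set G)).subtype) := by
    refine ⟨⟨hex, ?_, ?_⟩, ?_, e.toMonoidHom.comp (QuotientGroup.mk' Q), ?_, ?_⟩
    · intro x hx
      have hxt : x * t = t * x := (hx t hex.mem).symm
      have hxC : x ∈ Subgroup.centralizer ({t} : Set G) := mem_centralizer_one.2 hxt
      have hxQ : (⟨x, hxC⟩ : Subgroup.centralizer ({t} : Set G)) ∈ Q := by
        apply h2c
        rw [Subgroup.mem_centralizer_iff]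
        intro q hq
        apply Subtype.ext
        exact hx q ⟨q, hq, rfl⟩
      exact hex.center x ⟨_, hxQ, rfl⟩ (fun y hy => (hx y hy).symm)
    · rintro x hx _ ⟨q, hq, rfl⟩
      exact ⟨⟨x, mem_centralizer_one.2 hx⟩ * q * ⟨x, mem_centralizer_one.2 hx⟩⁻¹,
        (inferInstance : Q.Normal).conj_mem q hq _, rfl⟩
    · rw [Subgroup.card_map_of_injective (Subgroup.subtype_injective _), hcard]
    · exact e.surjective.comp (QuotientGroup.mk'_surjective Q)
    · intro x
      have h1 : (e.toMonoidHom.comp (QuotientGroup.mk' Q)) x = e (QuotientGroup.mk x) := rfl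
      rw [h1, EmbeddingLike.map_eq_one_iff, QuotientGroup.eq_one_iff]
      constructor
      · intro hx; exact ⟨x, hx, rfl⟩
      · rintro ⟨y, hy, hyx⟩
        have : y = x := Subtype.ext hyx
        rwa [← this]
  have hmin : ∀ E : Subgroup G, E ≤ Q.map (Subgroup.centralizer ({t} : Set G)).subtype → (∀ a ∈ E, a * a = 1) → Nat.card E ≤ 4 := by
    intro E hE hE2
    let E' : Subgroup Q := (E.comap (Subgroup.centralizer ({t} : Set G)).subtype).comap Q.subtype
    have h1 : IsElementaryAbelian 2 E' := by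
      have hsq : ∀ a ∈ E', a ^ 2 = 1 := by
        intro a ha
        have : (((a : Q) : Subgroup.centralizer ({t} : Set G)) : G) ∈ E := ha
        apply Subtype.ext; apply Subtype.ext
        show (((a : Q) : Subgroup.centralizer ({t} : Set G)) : G) ^ 2 = 1
        rw [pow_two]
        exact hE2 _ this
      refine ⟨isMulCommutative_iff_of_setLike.mpr ?_, hsq⟩
      intro a ha b hb
      have e1 : a⁻¹ = a := inv_eq_of_mul_eq_one_left (by rw [← pow_two]; exact hsq a ha)
      have e2 : b⁻¹ = b := inv_eq_of_mul_eq_one_left (by rw [← pow_two]; exact hsq b hb)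
      have e3 : (a * b)⁻¹ = a * b := inv_eq_of_mul_eq_one_left (by rw [← pow_two]; exact hsq _ (E'.mul_mem ha hb))
      rw [← e3, mul_inv_rev, e1, e2]
    have h2 := hminus E' h1
    have h3 : Nat.card E ≤ Nat.card E' := by
      refine Nat.card_le_card_of_injective (fun x : E => (⟨⟨(hE x.2).choose, (hE x.2).choose_spec.1⟩, ?_⟩ : E')) ?_
      · show (((hE x.2).choose : Subgroup.centralizer ({t} : Set G)) : G) ∈ E
        have := (hE x.2).choose_spec.2
        have h4 : (((hE x.2).choose : Subgroup.centralizer ({t} : Set G)) : G) = x := this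
        rw [h4]; exact x.2
      · intro x y hxy
        have h4 : (((hE x.2).choose : Subgroup.centralizer ({t} : Set G)) : G) = x := (hE x.2).choose_spec.2
        have h5 : (((hE y.2).choose : Subgroup.centralizer ({t} : Set G)) : G) = y := (hE y.2).choose_spec.2
        apply Subtype.ext
        rw [← h4, ← h5]
        exact congrArg (fun s : E' => (((s : Q) : Subgroup.centralizer ({t} : Set G)) : G)) hxy
    exact h3.trans h2
  -- the `Z*`-theorem
  have hniso : ¬ IsIsolated t := by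
    intro hiso
    have hZ := ZStarU.inZStar_of_isIsolated ⟨1, by rw [ht, pow_one]⟩ hiso
    have hZ' : ∀ g : G, g * t * g⁻¹ * t⁻¹ ∈ pPrimeCore 2 G := hZ
    have hodd : Nat.Coprime 2 (Nat.card (pPrimeCore 2 G)) := (Lib.Cores.coprime_card_pPrimeCore 2 G).symm
    haveI := pPrimeCore_normal 2 G
    rcases (inferInstance : (pPrimeCore 2 G).Normal).eq_bot_or_eq_top with h0 | h0
    · have hcen : t ∈ Subgroup.center G := by
        rw [Subgroup.mem_center_iff]
        intro g
        have := hZ' g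
        rw [h0, Subgroup.mem_bot] at this
        exact mul_inv_eq_iff_eq_mul.1 (mul_inv_eq_one.1 this)
      have hCtop : Subgroup.centralizer ({t} : Set G) = ⊤ := by
        rw [eq_top_iff]
        intro g _
        exact mem_centralizer_one.2 (Subgroup.mem_center_iff.1 hcen g)
      rcases (inferInstance : (Subgroup.center G).Normal).eq_bot_or_eq_top with h1 | h1
      · rw [h1, Subgroup.mem_bot] at hcen
        exact ht1 hcen
      · obtain ⟨a, ha, b, hb', hab⟩ := hex.nonab
        apply hab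
        have : b ∈ Subgroup.center G := by rw [h1]; trivial
        exact Subgroup.mem_center_iff.1 this a
    · rw [h0] at hodd
      have h2 : 2 ∣ Nat.card (⊤ : Subgroup G) := by
        rw [Subgroup.card_top, ← ht]; exact orderOf_dvd_natCard t
      have h3 := Nat.dvd_gcd (dvd_refl 2) h2
      rw [hodd] at h3
      omega
  unfold IsIsolated at hniso
  push Not at hniso
  obtain ⟨g, hg1, hg2⟩ := hniso
  obtain ⟨v, hvQ, hvt, hcj⟩ := hb.nwc hmin (g := g) hg1.symm hg2
  exact ⟨⟨t, _, hb, v, hvQ, hvt, hcj⟩, rfl⟩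

end Cfsg.Agent.Lib.JTw
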