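import Mathlib
import Cfsg.Agent.Lib.Extraspecial
import Cfsg.Agent.Lib.ExtraCount
import Cfsg.Agent.Lib.J3PEntry
import Cfsg.Agent.Lib.JTw26

/-!
# Entry without the one-class hypothesis (helper26): an extraspecial subgroup of order 32 with `C / E ≃ A₅` is large
-/

set_option autoImplicit false
set_option linter.all false

namespace Cfsg.Agent.Lib.J3P

open Cfsg Subgroup Cfsg.Agent.Lib.Extraspecial Cfsg.Agent.Lib
open scoped commutatorElement

theorem entry_cent2_aux {G : Type*} [Group G] [Finite G] [IsSimpleGroup G] (t : G) (ht : orderOf t = 2)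
    (H : Subgroup G) (hH : H = centralizer ({t} : Set G))
    (E : Subgroup H) [E.Normal] (hE : Nat.card E = 32) (hX : Cfsg.IsExtraspecial 2 E)
    (e : H ⧸ E ≃* alternatingGroup (Fin 5)) : Subgroup.centralizer (E : Set H) ≤ E := by
  classical
  haveI : Fact (Nat.Prime 2) := ⟨Nat.prime_two⟩
  have hHiff : ∀ u : G, u ∈ H ↔ u * t = t * u := by
    intro u
    rw [hH]; exact mem_centralizer_singleton_iff
  by_contra hcon
  set D : Subgroup H := centralizer (E : Set H) with hD
  have hyp := ExtraCount.Hyp.of_isExtraspecial hX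
  obtain ⟨z, hz⟩ := XS.of_extraspecial hX
  -- the quotient
  have hQ60 : Nat.card (H ⧸ E) = 60 := by
    rw [Nat.card_congr e.toEquiv, Nat.card_eq_fintype_card]; rfl
  haveI hsA : IsSimpleGroup (alternatingGroup (Fin 5)) := alternatingGroup.isSimpleGroup_five
  haveI hsQ : IsSimpleGroup (H ⧸ E) := by
    haveI : Nontrivial (H ⧸ E) := Finite.one_lt_card_iff_nontrivial.1 (by rw [hQ60]; norm_num)
    exact IsSimpleGroup.isSimpleGroup_of_surjective e.symm.toMonoidHom e.symm.surjective
  have hQc : center (H ⧸ E) = ⊥ := by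
    rcases IsSimpleGroup.eq_bot_or_eq_top_of_normal (center (H ⧸ E)) inferInstance with h | h
    · exact h
    · exfalso
      have hcc : ∀ a b : H ⧸ E, a * b = b * a := by
        intro a b
        have h1 : a ∈ center (H ⧸ E) := by rw [h]; exact mem_top a
        exact (mem_center_iff.1 h1 b).symm
      letI : CommGroup (H ⧸ E) := { (inferInstance : Group (H ⧸ E)) with mul_comm := hcc }
      have hp := IsSimpleGroup.prime_card (α := H ⧸ E)
      rw [hQ60] at hp
      norm_num at hp
  -- `t` in `E`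
  have htt : t * t = 1 := by rw [← pow_two, ← ht]; exact pow_orderOf_eq_one t
  have ht1 : t ≠ 1 := by rintro rfl; rw [orderOf_one] at ht; norm_num at ht
  have htH : t ∈ H := (hHiff t).2 rfl
  set tH : H := ⟨t, htH⟩ with htHd
  have hcen : ∀ h : H, h * tH = tH * h := by
    intro h
    apply Subtype.ext
    exact (hHiff _).1 h.2
  have htE : tH ∈ E := by
    rw [← QuotientGroup.eq_one_iff, ← mem_bot, ← hQc, mem_center_iff]
    intro g
    obtain ⟨h, rfl⟩ := QuotientGroup.mk_surjective g
    rw [← QuotientGroup.mk_mul, hcen, QuotientGroup.mk_mul]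
  have htHtH : tH * tH = 1 := Subtype.ext htt
  have htH1 : tH ≠ 1 := fun h => ht1 (congrArg Subtype.val h)
  -- central elements of `E`
  have hcE : ∀ c : E, c ∈ center E → (c : H) = 1 ∨ (c : H) = tH := by
    intro c hc
    by_cases h1 : c = 1
    · left; rw [h1]; rfl
    · right
      have h2 : (⟨tH, htE⟩ : E) ∈ center E := by
        rw [mem_center_iff]
        intro g
        exact Subtype.ext (hcen g)
      have h3 := hyp.eq_of_ne_one hc h2 h1 (fun h => htH1 (congrArg Subtype.val h))
      exact congrArg Subtype.val h3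
  -- every element is a product
  have hprod : ∀ h : H, ∃ d ∈ D, ∃ c ∈ E, h = d * c := by
    have hn : (D.map (QuotientGroup.mk' E)).Normal := by
      have : D.Normal := by rw [hD]; infer_instance
      exact Subgroup.Normal.map this _ (QuotientGroup.mk'_surjective E)
    rcases IsSimpleGroup.eq_bot_or_eq_top_of_normal _ hn with h | h
    · exfalso
      apply hcon
      rw [Subgroup.map_eq_bot_iff, QuotientGroup.ker_mk'] at h
      exact h
    · intro g
      have h1 : (QuotientGroup.mk' E g) ∈ D.map (QuotientGroup.mk' E) := by rw [h]; exact mem_top _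
      obtain ⟨d, hd, hdg⟩ := h1
      refine ⟨d, hd, d⁻¹ * g, ?_, by group⟩
      exact QuotientGroup.eq.1 hdg
  -- commutators of elements of a 2-subgroup
  have hcomm : ∀ (X : Subgroup H), IsPGroup 2 X → ∀ x ∈ X, ∀ y ∈ X, ⁅x, y⁆ = 1 ∨ ⁅x, y⁆ = tH := by
    intro X hXp x hx y hy
    obtain ⟨d1, hd1, e1, he1, rfl⟩ := hprod x
    obtain ⟨d2, hd2, e2, he2, rfl⟩ := hprod y
    have hde : ∀ d ∈ D, ∀ c ∈ E, d * c = c * d := fun d hd c hc => (mem_centralizer_iff.1 hd c hc).symm
    have h1 : ⁅d1 * e1, d2 * e2⁆ = ⁅d1, d2⁆ * ⁅e1, e2⁆ := by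
      have ha : Commute d1 e2 := hde d1 hd1 e2 he2
      have hb : Commute d2 e1 := hde d2 hd2 e1 he1
      have hc : Commute d1 e1 := hde d1 hd1 e1 he1
      have hd : Commute d2 e2 := hde d2 hd2 e2 he2
      have h2 : Commute e1 (d2 * d1⁻¹ * d2⁻¹) := ((hb.symm).mul_right (hc.symm.inv_right)).mul_right (hb.symm.inv_right)
      have h3 : Commute e2 (d1⁻¹ * d2⁻¹) := (ha.symm.inv_right).mul_right (hd.symm.inv_right)
      rw [commutatorElement_def, commutatorElement_def, commutatorElement_def]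
      calc d1 * e1 * (d2 * e2) * (d1 * e1)⁻¹ * (d2 * e2)⁻¹
          = d1 * (e1 * d2) * e2 * (e1⁻¹ * d1⁻¹) * (e2⁻¹ * d2⁻¹) := by group
        _ = d1 * (d2 * e1) * e2 * (d1⁻¹ * e1⁻¹) * (d2⁻¹ * e2⁻¹) := by
            rw [hb.symm.eq, (hc.symm.inv_inv).eq, (hd.symm.inv_inv).eq]
        _ = d1 * d2 * (e1 * (e2 * d1⁻¹) * (e1⁻¹ * d2⁻¹) * e2⁻¹) := by group
        _ = d1 * d2 * (e1 * (d1⁻¹ * e2) * (d2⁻¹ * e1⁻¹) * e2⁻¹) := by
            rw [(ha.symm.inv_right).eq, (hb.symm.inv_inv).eq]
        _ = d1 * d2 * ((e1 * d1⁻¹) * (e2 * d2⁻¹) * e1⁻¹ * e2⁻¹) := by group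
        _ = d1 * d2 * ((d1⁻¹ * e1) * (d2⁻¹ * e2) * e1⁻¹ * e2⁻¹) := by
            rw [(hc.symm.inv_right).eq, (hd.symm.inv_right).eq]
        _ = d1 * d2 * (d1⁻¹ * (e1 * d2⁻¹) * e2 * e1⁻¹ * e2⁻¹) := by group
        _ = d1 * d2 * (d1⁻¹ * (d2⁻¹ * e1) * e2 * e1⁻¹ * e2⁻¹) := by rw [(hb.symm.inv_right).eq]
        _ = d1 * d2 * d1⁻¹ * d2⁻¹ * (e1 * e2 * e1⁻¹ * e2⁻¹) := by group
    have h2 : ⁅d1, d2⁆ = 1 ∨ ⁅d1, d2⁆ = tH := by
      have h3 : ⁅d1, d2⁆ ∈ E := by
        rw [← QuotientGroup.eq_one_iff]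
        have h4 : IsPGroup 2 (X.map (QuotientGroup.mk' E)) := hXp.map _
        have hm1 : (QuotientGroup.mk' E) d1 ∈ X.map (QuotientGroup.mk' E) := by
          refine ⟨d1 * e1, hx, ?_⟩
          rw [map_mul]
          have : QuotientGroup.mk' E e1 = 1 := (QuotientGroup.eq_one_iff e1).2 he1
          rw [this, mul_one]
        have hm2 : (QuotientGroup.mk' E) d2 ∈ X.map (QuotientGroup.mk' E) := by
          refine ⟨d2 * e2, hy, ?_⟩
          rw [map_mul]
          have : QuotientGroup.mk' E e2 = 1 := (QuotientGroup.eq_one_iff e2).2 he2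
          rw [this, mul_one]
        have h5 := two_comm hQ60 h4 hm1 hm2
        have h6 : (QuotientGroup.mk' E) ⁅d1, d2⁆ = 1 := by
          rw [map_commutatorElement, commutatorElement_eq_one_iff_mul_comm]
          exact h5
        exact h6
      have h4 : ⁅d1, d2⁆ ∈ D := D.mul_mem (D.mul_mem (D.mul_mem hd1 hd2) (D.inv_mem hd1)) (D.inv_mem hd2)
      apply hcE ⟨⁅d1, d2⁆, h3⟩
      rw [mem_center_iff]
      intro g
      exact Subtype.ext (hde _ h4 _ g.2).symm
    have h3 : ⁅e1, e2⁆ = 1 ∨ ⁅e1, e2⁆ = tH := by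
      have h4 := hcE _ (hyp.comm_mem ⟨e1, he1⟩ ⟨e2, he2⟩)
      exact h4
    rw [h1]
    rcases h2 with h2 | h2 <;> rcases h3 with h3 | h3 <;> rw [h2, h3]
    · left; rw [mul_one]
    · right; rw [one_mul]
    · right; rw [mul_one]
    · left; exact htHtH
  have hEp : IsPGroup 2 E := IsPGroup.of_card (n := 5) (by rw [hE]; norm_num)
  -- `t` is isolated
  have hiso : IsIsolated t := by
    intro g hg
    obtain ⟨u, hug⟩ : ∃ u : G, u = g * t * g⁻¹ := ⟨_, rfl⟩
    have hg' : g * t * g⁻¹ = u := hug.symm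
    rw [hg'] at hg ⊢
    by_contra hne
    have huH : u ∈ H := (hHiff u).2 hg.eq.symm
    obtain ⟨d, hd, c, hc, hu⟩ := hprod ⟨u, huH⟩
    set A : Subgroup E := centralizer ({(⟨c, hc⟩ : E)} : Set E) with hA
    -- the order of `A`
    let f : E →* Subgroup.center E :=
      { toFun := fun x => ⟨⁅x, (⟨c, hc⟩ : E)⁆, hyp.comm_mem x _⟩
        map_one' := Subtype.ext (commutatorElement_one_left _)
        map_mul' := fun x y => Subtype.ext (hyp.comm_mul_left x y _) }
    have hker : f.ker = A := by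
      ext x
      rw [MonoidHom.mem_ker, hA, mem_centralizer_singleton_iff]
      constructor
      · intro h
        have h1 : ⁅x, (⟨c, hc⟩ : E)⁆ = 1 := congrArg Subtype.val h
        exact commutatorElement_eq_one_iff_mul_comm.1 h1
      · intro h
        exact Subtype.ext (commutatorElement_eq_one_iff_mul_comm.2 h)
    have hcardA : 16 ≤ Nat.card A := by
      have h1 := f.ker.card_mul_index
      rw [Subgroup.index_ker, hker, hE] at h1
      have h2 : Nat.card f.range ≤ 2 := by
        rw [← hX.2]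
        exact Nat.card_le_card_of_injective _ f.range.subtype_injective
      by_contra hlt
      push Not at hlt
      have h3 : Nat.card A * Nat.card f.range ≤ 15 * 2 := Nat.mul_le_mul (by omega) h2
      omega
    have hAc : ∀ a ∈ A, ∀ b ∈ A, a * b = b * a := by
      intro a ha b hb
      let A1 : Subgroup G := (A.map E.subtype).map H.subtype
      let A2 : Subgroup G := A1.map (MulAut.conj g⁻¹).toMonoidHom
      have hA2 : IsPGroup 2 A2 := (((hEp.to_subgroup A).map _).map _).map _
      have hX2 : IsPGroup 2 (A2.subgroupOf H) := hA2.comap_of_injective H.subtype H.subtype_injective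
      have hmem : ∀ k ∈ A, ∃ hk : g⁻¹ * ((k : H) : G) * g ∈ H, (⟨g⁻¹ * ((k : H) : G) * g, hk⟩ : H) ∈ A2.subgroupOf H := by
        intro k hk
        have h1 : (k : E) * ⟨c, hc⟩ = ⟨c, hc⟩ * k := mem_centralizer_singleton_iff.1 hk
        have h1' : (k : H) * c = c * (k : H) := congrArg Subtype.val h1
        have h1'' : (k : H) * d = d * (k : H) := mem_centralizer_iff.1 hd (k : H) k.2
        have h2' : (k : H) * ⟨u, huH⟩ = ⟨u, huH⟩ * (k : H) := by
          rw [hu, ← mul_assoc, h1'', mul_assoc, h1', ← mul_assoc]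
        have h2 : ((k : H) : G) * u = u * ((k : H) : G) := congrArg Subtype.val h2'
        refine ⟨?_, ?_⟩
        · rw [hHiff]
          have h3 : t = g⁻¹ * u * g := by rw [hug]; group
          rw [h3]
          calc g⁻¹ * ((k : H) : G) * g * (g⁻¹ * u * g) = g⁻¹ * (((k : H) : G) * u) * g := by group
            _ = g⁻¹ * (u * ((k : H) : G)) * g := by rw [h2]
            _ = g⁻¹ * u * g * (g⁻¹ * ((k : H) : G) * g) := by group
        · rw [mem_subgroupOf]
          refine ⟨((k : H) : G), ⟨(k : H), ⟨k, hk, rfl⟩, rfl⟩, ?_⟩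
          change g⁻¹ * ((k : H) : G) * g⁻¹⁻¹ = _
          rw [inv_inv]
      obtain ⟨hc1, hc2⟩ := hmem a ha
      obtain ⟨hc3, hc4⟩ := hmem b hb
      have h1 := hcomm _ hX2 _ hc2 _ hc4
      have h2 := hcE _ (hyp.comm_mem a b)
      have h3 : (((⁅a, b⁆ : E) : H) : G) = ⁅((a : H) : G), ((b : H) : G)⁆ := rfl
      have h4 : ⁅((a : H) : G), ((b : H) : G)⁆ = 1 ∨ ⁅((a : H) : G), ((b : H) : G)⁆ = t := by
        rcases h2 with h2 | h2
        · left; rw [← h3, h2]; rfl
        · right; rw [← h3, h2]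
      have h5 : ⁅((a : H) : G), ((b : H) : G)⁆ = 1 ∨ ⁅((a : H) : G), ((b : H) : G)⁆ = u := by
        have h6 : g * ⁅g⁻¹ * ((a : H) : G) * g, g⁻¹ * ((b : H) : G) * g⁆ * g⁻¹ = ⁅((a : H) : G), ((b : H) : G)⁆ := by
          rw [commutatorElement_def, commutatorElement_def]; group
        rcases h1 with h1 | h1
        · left
          have h7 := congrArg Subtype.val h1
          change ⁅g⁻¹ * ((a : H) : G) * g, g⁻¹ * ((b : H) : G) * g⁆ = 1 at h7
          rw [← h6, h7]; group
        · right
          have h7 := congrArg Subtype.val h1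
          change ⁅g⁻¹ * ((a : H) : G) * g, g⁻¹ * ((b : H) : G) * g⁆ = t at h7
          rw [← h6, h7, hg']
      have h6 : ⁅((a : H) : G), ((b : H) : G)⁆ = 1 := by
        rcases h4 with h4 | h4
        · exact h4
        rcases h5 with h5 | h5
        · exact h5
        · exact absurd (h5.symm.trans h4) hne
      have h7 : ((a : H) : G) * ((b : H) : G) = ((b : H) : G) * ((a : H) : G) := commutatorElement_eq_one_iff_mul_comm.1 h6
      exact Subtype.ext (Subtype.ext h7)
    -- counting
    have h5 := hyp.card_centralizer_mul A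
    have h6 : Nat.card (A ⊓ center E : Subgroup E) ≤ 2 := by
      have h7 : Nat.card (A ⊓ center E : Subgroup E) ∣ Nat.card (center E) := card_dvd_of_le inf_le_right
      rw [hX.2] at h7
      exact Nat.le_of_dvd (by norm_num) h7
    have h7 : Nat.card A ≤ Nat.card (centralizer (A : Set E)) := by
      apply Nat.card_le_card_of_injective (Subgroup.inclusion (show A ≤ centralizer (A : Set E) from ?_)) (Subgroup.inclusion_injective _)
      intro a ha
      rw [mem_centralizer_iff]
      intro b hb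
      exact hAc b hb a ha
    have h8 : 16 * 16 ≤ Nat.card (centralizer (A : Set E)) * Nat.card A := Nat.mul_le_mul (hcardA.trans h7) hcardA
    rw [h5, hE] at h8
    omega
  -- the `Z*`-theorem
  have hZ := ZStarU.inZStar_of_isIsolated ⟨1, by rw [ht, pow_one]⟩ hiso
  have hZ' : ∀ g : G, g * t * g⁻¹ * t⁻¹ ∈ pPrimeCore 2 G := hZ
  have hodd : Nat.Coprime 2 (Nat.card (pPrimeCore 2 G)) := (Lib.Cores.coprime_card_pPrimeCore 2 G).symm
  haveI := pPrimeCore_normal 2 G
  rcases (inferInstance : (pPrimeCore 2 G).Normal).eq_bot_or_eq_top with h0 | h0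
  · have hcent : t ∈ Subgroup.center G := by
      rw [Subgroup.mem_center_iff]
      intro g
      have := hZ' g
      rw [h0, Subgroup.mem_bot] at this
      exact mul_inv_eq_iff_eq_mul.1 (mul_inv_eq_one.1 this)
    rcases (inferInstance : (Subgroup.center G).Normal).eq_bot_or_eq_top with h1 | h1
    · rw [h1, Subgroup.mem_bot] at hcent
      exact ht1 hcent
    · obtain ⟨a, b, hab⟩ := XS.not_comm_of_extraspecial hX
      apply hab
      have : ((b : H) : G) ∈ Subgroup.center G := by rw [h1]; trivial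
      exact Subtype.ext (Subtype.ext (Subgroup.mem_center_iff.1 this ((a : H) : G)))
  · rw [h0] at hodd
    have h2 : 2 ∣ Nat.card (⊤ : Subgroup G) := by
      rw [Subgroup.card_top, ← ht]; exact orderOf_dvd_natCard t
    have h3 := Nat.dvd_gcd (dvd_refl 2) h2
    rw [hodd] at h3
    omega

theorem entry_cent2 {G : Type*} [Group G] [Finite G] [IsSimpleGroup G] (t : G) (ht : orderOf t = 2)
    (E : Subgroup (Subgroup.centralizer ({t} : Set G))) [E.Normal] (hE : Nat.card E = 32) (hX : Cfsg.IsExtraspecial 2 E)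
    (e : (Subgroup.centralizer ({t} : Set G)) ⧸ E ≃* alternatingGroup (Fin 5)) :
    Subgroup.centralizer (E : Set (Subgroup.centralizer ({t} : Set G))) ≤ E :=
  entry_cent2_aux t ht _ rfl E hE hX e

/-- the dichotomy: the setup exists without any hypothesis on classes -/
theorem exists_setup2 {G : Type*} [Group G] [Finite G] [IsSimpleGroup G] (t : G) (ht : orderOf t = 2)
    (E : Subgroup (Subgroup.centralizer ({t} : Set G))) [E.Normal] (hE : Nat.card E = 32) (hX : Cfsg.IsExtraspecial 2 E)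
    (e : (Subgroup.centralizer ({t} : Set G)) ⧸ E ≃* alternatingGroup (Fin 5)) :
    ∃ S : Cfsg.Agent.Lib.JTw.Setup G, S.z = t := by
  have hc := entry_cent2 t ht E hE hX e
  have h5 : 5 ∣ Nat.card (Subgroup.centralizer ({t} : Set G)) := by
    have h60 : Nat.card ((Subgroup.centralizer ({t} : Set G)) ⧸ E) = 60 := by
      rw [Nat.card_congr e.toEquiv, Nat.card_eq_fintype_card]; rfl
    have h1 := E.card_mul_index
    rw [hE, Subgroup.index_eq_card, h60] at h1
    rw [← h1]; norm_num
  exact Cfsg.Agent.Lib.JTw.exists_setup' t ht E hX hE (entry_minus E hE hX h5 hc) hc e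

end Cfsg.Agent.Lib.J3P
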