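import Mathlib
import Cfsg.Agent.Lib.IndFun
import Cfsg.Agent.Lib.CharBasic2
import Cfsg.Agent.Lib.Coherence
import Cfsg.Agent.Lib.J3PDef

set_option autoImplicit false
set_option linter.unusedSectionVars false

/-!
`S0456`, piece F1: TI induction from the centralizer of an element of order 5.
-/

open Cfsg Cfsg.Agent.Lib.CharBasic Cfsg.Agent.Lib.IndFun

namespace Cfsg.Agent.Lib.J3P

namespace Five

section Grp
variable {G : Type*} [Group G] {x y j i : G}

theorem pf_jj (h : Five G x y j i) : j * j = 1 := by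
  have := pow_orderOf_eq_one j
  rwa [h.hj, pow_two] at this

theorem pf_j2 (h : Five G x y j i) : j ^ 2 = 1 := by rw [pow_two]; exact h.pf_jj

theorem pf_x5 (h : Five G x y j i) : x ^ 5 = 1 := by
  have := pow_orderOf_eq_one x
  rwa [h.hx] at this

theorem pf_y3 (h : Five G x y j i) : y ^ 3 = 1 := by
  have := pow_orderOf_eq_one y
  rwa [h.hy] at this

theorem pf_y_ne (h : Five G x y j i) : y⁻¹ ≠ y := by
  intro h1
  have h2 : y ^ 2 = 1 := by
    rw [pow_two]
    calc y * y = y⁻¹ * y := by rw [h1]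
      _ = 1 := inv_mul_cancel y
  have := orderOf_dvd_of_pow_eq_one h2
  rw [h.hy] at this
  omega

theorem pf_x_ne (h : Five G x y j i) : x⁻¹ ≠ x := by
  intro h1
  have h2 : x ^ 2 = 1 := by
    rw [pow_two]
    calc x * x = x⁻¹ * x := by rw [h1]
      _ = 1 := inv_mul_cancel x
  have := orderOf_dvd_of_pow_eq_one h2
  rw [h.hx] at this
  omega

theorem pf_jyp (h : Five G x y j i) (b : ℤ) : y ^ b * j = j * y ^ (-b) := by
  have h1 : (j * y * j⁻¹) ^ b = y⁻¹ ^ b := by rw [h.jy]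
  rw [conj_zpow] at h1
  have h2 : j * y ^ (-b) = y ^ b * j := by
    have h3 : j * y ^ (-b) * j⁻¹ = (j * y * j⁻¹) ^ (-b) := by rw [conj_zpow]
    rw [h.jy, inv_zpow', neg_neg] at h3
    rw [← h3]; group
  exact h2.symm

theorem pf_jpow (h : Five G x y j i) (e : ℤ) : j ^ e = 1 ∨ j ^ e = j := by
  rcases Int.even_or_odd' e with ⟨k, rfl | rfl⟩
  · left
    rw [zpow_mul, zpow_ofNat, h.pf_j2, one_zpow]
  · right
    rw [zpow_add, zpow_mul, zpow_ofNat, h.pf_j2, one_zpow, one_mul, zpow_one]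

/-- products in `⟨y, j⟩`. -/
theorem pf_mul_form (h : Five G x y j i) (e b e' b' : ℤ) :
    ∃ b'' : ℤ, (j ^ e * y ^ b) * (j ^ e' * y ^ b') = j ^ (e + e') * y ^ b'' := by
  rcases h.pf_jpow e' with h1 | h1
  · refine ⟨b + b', ?_⟩
    rw [zpow_add, h1, zpow_add]
    group
  · refine ⟨-b + b', ?_⟩
    rw [zpow_add, h1, zpow_add]
    calc j ^ e * y ^ b * (j * y ^ b') = j ^ e * (y ^ b * j) * y ^ b' := by group
      _ = _ := by rw [h.pf_jyp]; group

theorem pf_six (h : Five G x y j i) (e b : ℤ) : (j ^ e * y ^ b) ^ 6 = 1 := by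
  rcases h.pf_jpow e with h1 | h1
  · rw [h1, one_mul, ← zpow_natCast, ← zpow_mul]
    have : y ^ (b * ((6 : ℕ) : ℤ)) = (y ^ 3) ^ (2 * b) := by
      rw [← zpow_natCast, ← zpow_mul]; congr 1; push_cast; ring
    rw [this, h.pf_y3, one_zpow]
  · rw [h1]
    have h2 : (j * y ^ b) ^ 2 = 1 := by
      rw [pow_two]
      calc j * y ^ b * (j * y ^ b) = j * (y ^ b * j) * y ^ b := by group
        _ = (j * j) * (y ^ (-b) * y ^ b) := by rw [h.pf_jyp]; group
        _ = 1 := by rw [h.pf_jj, one_mul, ← zpow_add]; simp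
    rw [show 6 = 2 * 3 from rfl, pow_mul, h2, one_pow]

theorem pf_x_comm (h : Five G x y j i) (k e b : ℤ) :
    Commute (x ^ k) (j ^ e * y ^ b) := by
  have h1 : Commute x j := h.xj
  have h2 : Commute x y := h.xy
  exact ((h1.zpow_zpow k e).mul_right (h2.zpow_zpow k b))

theorem pf_six' (h : Five G x y j i) (k e b : ℤ) : (x ^ k * (j ^ e * y ^ b)) ^ 6 = x ^ k := by
  rw [(h.pf_x_comm k e b).mul_pow, h.pf_six, mul_one, ← zpow_natCast, ← zpow_mul]
  have : x ^ (k * ((6 : ℕ) : ℤ)) = (x ^ 5) ^ k * x ^ k := by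
    rw [← zpow_natCast, ← zpow_mul, ← zpow_add]; congr 1; push_cast; ring
  rw [this, h.pf_x5, one_zpow, one_mul]

theorem pf_j_not_mem (h : Five G x y j i) : j ∉ Subgroup.zpowers y := by
  intro hm
  obtain ⟨k, hk⟩ := Subgroup.mem_zpowers_iff.1 hm
  have h1 : j * y * j⁻¹ = y := by
    rw [← hk]; group
  rw [h.jy] at h1
  exact h.pf_y_ne h1

theorem pf_inj_form (h : Five G x y j i) {k e b k' e' b' : ℕ} (hk : k < 5) (hk' : k' < 5)
    (he : e < 2) (he' : e' < 2) (hb : b < 3) (hb' : b' < 3)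
    (heq : x ^ k * (j ^ e * y ^ b) = x ^ k' * (j ^ e' * y ^ b')) : k = k' ∧ e = e' ∧ b = b' := by
  have h6 := congrArg (· ^ 6) heq
  have e1 := h.pf_six' k e b
  have e2 := h.pf_six' k' e' b'
  simp only [zpow_natCast] at e1 e2
  simp only [e1, e2] at h6
  have hkk : k = k' := by
    have := (pow_inj_mod (x := x)).1 h6
    rw [h.hx, Nat.mod_eq_of_lt hk, Nat.mod_eq_of_lt hk'] at this
    exact this
  subst hkk
  have h2 := mul_left_cancel heq
  have hee : e = e' := by
    by_contra hne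
    apply h.pf_j_not_mem
    have h3 : (j ^ (e' : ℤ))⁻¹ * j ^ (e : ℤ) = y ^ (b' : ℤ) * (y ^ (b : ℤ))⁻¹ := by
      rw [inv_mul_eq_iff_eq_mul, ← mul_assoc, eq_mul_inv_iff_mul_eq]
      simp only [zpow_natCast]
      exact h2
    have h4 : j = (j ^ (e' : ℤ))⁻¹ * j ^ (e : ℤ) := by
      have : (e = 0 ∧ e' = 1) ∨ (e = 1 ∧ e' = 0) := by omega
      rcases this with ⟨rfl, rfl⟩ | ⟨rfl, rfl⟩
      · simp only [Nat.cast_one, zpow_one, Nat.cast_zero, zpow_zero, mul_one]
        exact eq_inv_of_mul_eq_one_left h.pf_jj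
      · simp
    rw [h4, h3, ← zpow_neg, ← zpow_add]
    exact Subgroup.zpow_mem _ (Subgroup.mem_zpowers y) _
  subst hee
  have h3 := mul_left_cancel h2
  have := (pow_inj_mod (x := y)).1 h3
  rw [h.hy, Nat.mod_eq_of_lt hb, Nat.mod_eq_of_lt hb'] at this
  exact ⟨rfl, rfl, this⟩

theorem pf_form_mem (h : Five G x y j i) (k e b : ℤ) :
    x ^ k * (j ^ e * y ^ b) ∈ Subgroup.centralizer ({x} : Set G) := by
  rw [Subgroup.mem_centralizer_singleton_iff]
  have h1 : Commute x j := h.xj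
  have h2 : Commute x y := h.xy
  exact (((Commute.refl x).zpow_right k).mul_right
    ((h1.zpow_right e).mul_right (h2.zpow_right b))).eq.symm

/-- the thirty elements -/
def pf_fm (h : Five G x y j i) (p : Fin 5 × Fin 2 × Fin 3) : Subgroup.centralizer ({x} : Set G) :=
  ⟨x ^ (p.1 : ℤ) * (j ^ ((p.2.1 : ℕ) : ℤ) * y ^ ((p.2.2 : ℕ) : ℤ)), h.pf_form_mem _ _ _⟩

theorem pf_fm_coe (h : Five G x y j i) (p : Fin 5 × Fin 2 × Fin 3) :
    ((h.pf_fm p : Subgroup.centralizer ({x} : Set G)) : G) =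
      x ^ (p.1 : ℕ) * (j ^ (p.2.1 : ℕ) * y ^ (p.2.2 : ℕ)) := by
  simp only [pf_fm]
  norm_cast

theorem pf_fm_inj (h : Five G x y j i) : Function.Injective h.pf_fm := by
  rintro ⟨k, e, b⟩ ⟨k', e', b'⟩ heq
  have h1 := congrArg (fun c : Subgroup.centralizer ({x} : Set G) => (c : G)) heq
  simp only [pf_fm_coe] at h1
  obtain ⟨h2, h3, h4⟩ := h.pf_inj_form k.2 k'.2 e.2 e'.2 b.2 b'.2 h1
  rw [Fin.ext h2, Fin.ext h3, Fin.ext h4]

theorem pf_cent_le (x : G) : Subgroup.centralizer ({x} : Set G) ≤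
    Subgroup.normalizer (Subgroup.zpowers x : Set G) := by
  intro g hg
  rw [Subgroup.mem_centralizer_singleton_iff] at hg
  rw [Subgroup.mem_normalizer_iff]
  intro w
  constructor
  · intro hw
    obtain ⟨k, rfl⟩ := Subgroup.mem_zpowers_iff.1 hw
    have h1 : g * x ^ k * g⁻¹ = x ^ k := by
      have : Commute g (x ^ k) := (show Commute g x from hg).zpow_right k
      rw [this.eq, mul_inv_cancel_right]
    rw [h1]; exact hw
  · intro hw
    obtain ⟨k, hk⟩ := Subgroup.mem_zpowers_iff.1 hw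
    have h1 : w = x ^ k := by
      have : Commute g⁻¹ (x ^ k) := (show Commute g x from hg).inv_left.zpow_right k
      calc w = g⁻¹ * (g * w * g⁻¹) * g := by group
        _ = g⁻¹ * x ^ k * g := by rw [hk]
        _ = x ^ k := by rw [this.eq]; group
    rw [h1]; exact Subgroup.zpow_mem _ (Subgroup.mem_zpowers x) k

theorem pf_ii (h : Five G x y j i) : i * i = 1 := by
  have := pow_orderOf_eq_one i
  rwa [h.hi, pow_two] at this

theorem pf_i_mem (h : Five G x y j i) : i ∈ Subgroup.normalizer (Subgroup.zpowers x : Set G) := by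
  rw [Subgroup.mem_normalizer_iff]
  intro w
  have key : ∀ w, w ∈ Subgroup.zpowers x → i * w * i⁻¹ ∈ Subgroup.zpowers x := by
    intro w hw
    obtain ⟨k, rfl⟩ := Subgroup.mem_zpowers_iff.1 hw
    rw [← conj_zpow, h.ix]
    exact Subgroup.zpow_mem _ (Subgroup.inv_mem _ (Subgroup.mem_zpowers x)) k
  refine ⟨key w, fun hw => ?_⟩
  have := key _ hw
  have h7 : i * (i * w * i⁻¹) * i⁻¹ = w := by
    calc i * (i * w * i⁻¹) * i⁻¹ = (i * i) * w * (i * i)⁻¹ := by group
      _ = w := by rw [h.pf_ii]; group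
  rwa [h7] at this

theorem pf_i_not_mem (h : Five G x y j i) : i ∉ Subgroup.centralizer ({x} : Set G) := by
  intro h6
  rw [Subgroup.mem_centralizer_singleton_iff] at h6
  have h7 := h.ix
  rw [h6, mul_inv_cancel_right] at h7
  exact h.pf_x_ne h7.symm

theorem pf_card_C [Finite G] (h : Five G x y j i) :
    Nat.card (Subgroup.centralizer ({x} : Set G)) = 30 := by
  have hle := pf_cent_le x
  have h1 : Nat.card (Subgroup.centralizer ({x} : Set G)) ∣ 60 := by
    rw [← h.card]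
    exact Subgroup.card_dvd_of_le hle
  have h2 : 30 ≤ Nat.card (Subgroup.centralizer ({x} : Set G)) := by
    have := Nat.card_le_card_of_injective _ h.pf_fm_inj
    simpa using this
  have h3 : Nat.card (Subgroup.centralizer ({x} : Set G)) ≠ 60 := by
    intro h4
    have h5 : Subgroup.centralizer ({x} : Set G) =
      Subgroup.normalizer (Subgroup.zpowers x : Set G) := by
      apply Subgroup.eq_of_le_of_card_ge hle
      rw [h4, h.card]
    exact h.pf_i_not_mem (h5 ▸ h.pf_i_mem)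
  obtain ⟨m, hm⟩ := h1
  have h0 : 0 < m := by
    rcases Nat.eq_zero_or_pos m with h0 | h0
    · rw [h0] at hm; omega
    · exact h0
  have h4 : m ≤ 2 := by
    by_contra hcon
    have : 3 ≤ m := by omega
    nlinarith
  interval_cases m
  · omega
  · omega

theorem pf_fm_bij [Finite G] (h : Five G x y j i) : Function.Bijective h.pf_fm := by
  have := Fintype.ofFinite (Subgroup.centralizer ({x} : Set G))
  rw [Fintype.bijective_iff_injective_and_card]
  refine ⟨h.pf_fm_inj, ?_⟩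
  rw [← Nat.card_eq_fintype_card, ← Nat.card_eq_fintype_card, h.pf_card_C]
  simp

end Grp

section Grp2
variable {G : Type*} [Group G] {x y j i : G}

theorem pf_mem_N_iff [Finite G] (h : Five G x y j i) (g : G) :
    g ∈ Subgroup.normalizer (Subgroup.zpowers x : Set G) ↔
      g ∈ Subgroup.centralizer ({x} : Set G) ∨ i * g ∈ Subgroup.centralizer ({x} : Set G) := by
  constructor
  · intro hg
    by_cases hgC : g ∈ Subgroup.centralizer ({x} : Set G)
    · exact Or.inl hgC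
    · right
      set N := Subgroup.normalizer (Subgroup.zpowers x : Set G) with hN
      set K := (Subgroup.centralizer ({x} : Set G)).subgroupOf N with hK
      have h1 : Nat.card K = 30 := by
        rw [← h.pf_card_C]
        exact Nat.card_congr (Subgroup.subgroupOfEquivOfLe (pf_cent_le x)).toEquiv
      have h2 : K.index = 2 := by
        have h3 := K.card_mul_index
        rw [h1, h.card] at h3
        omega
      have h4 := (Subgroup.mul_mem_iff_of_index_two h2 (a := ⟨i, h.pf_i_mem⟩) (b := ⟨g, hg⟩)).2 (by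
        rw [Subgroup.mem_subgroupOf, Subgroup.mem_subgroupOf]
        exact iff_of_false h.pf_i_not_mem hgC)
      exact h4
  · rintro (h1 | h1)
    · exact pf_cent_le x h1
    · have h2 := Subgroup.mul_mem _ h.pf_i_mem (pf_cent_le x h1)
      rwa [← mul_assoc, h.pf_ii, one_mul] at h2

theorem pf_not_both (h : Five G x y j i) {g : G} (h1 : g ∈ Subgroup.centralizer ({x} : Set G)) :
    i * g ∉ Subgroup.centralizer ({x} : Set G) := by
  intro h2
  apply h.pf_i_not_mem
  have := Subgroup.mul_mem _ h2 (Subgroup.inv_mem _ h1)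
  rwa [mul_inv_cancel_right] at this

/-- conjugates of nontrivial powers of `x` -/
theorem pf_mem_N_of [Finite G] (h : Five G x y j i) {g : G} {k : ℕ} (hk : ¬ 5 ∣ k)
    (hg : g⁻¹ * x ^ k * g ∈ Subgroup.zpowers x) :
    g ∈ Subgroup.normalizer (Subgroup.zpowers x : Set G) := by
  have hcop : Nat.Coprime k 5 := ((Nat.prime_five.coprime_iff_not_dvd).2 hk).symm
  obtain ⟨l, -, hl⟩ := Nat.exists_mul_mod_eq_one_of_coprime hcop (by norm_num)
  have h1 : (x ^ k) ^ l = x := by
    rw [← pow_mul]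
    have := (pow_mod_orderOf x (k * l)).symm
    rw [h.hx, hl, pow_one] at this
    exact this
  have h2 : g⁻¹ * x * g ∈ Subgroup.zpowers x := by
    have h3 : g⁻¹ * x * g = (g⁻¹ * x ^ k * g) ^ l := by
      have := conj_pow (a := g⁻¹) (b := x ^ k) (i := l)
      rw [inv_inv] at this
      rw [this, h1]
    rw [h3]
    exact Subgroup.pow_mem _ hg l
  have h3 : g⁻¹ ∈ Subgroup.normalizer (Subgroup.zpowers x : Set G) := by
    apply Subgroup.mem_normalizer_fintype
    intro n hn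
    obtain ⟨m, rfl⟩ := Subgroup.mem_zpowers_iff.1 hn
    rw [← conj_zpow, inv_inv]
    exact Subgroup.zpow_mem _ h2 m
  simpa using Subgroup.inv_mem _ h3

end Grp2

/-! ### the linear character of the centralizer -/
section Chr
universe u
variable {G : Type u} [Group G] [Finite G] {x y j i : G}

theorem pf_exists_form (h : Five G x y j i) (c : Subgroup.centralizer ({x} : Set G)) :
    ∃ k e b : ℤ, (c : G) = x ^ k * (j ^ e * y ^ b) := by
  obtain ⟨p, rfl⟩ := h.pf_fm_bij.2 c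
  exact ⟨_, _, _, rfl⟩

theorem pf_six_mem (h : Five G x y j i) (c : Subgroup.centralizer ({x} : Set G)) :
    (c : G) ^ 6 ∈ Subgroup.zpowers x := by
  obtain ⟨k, e, b, hc⟩ := h.pf_exists_form c
  rw [hc, h.pf_six']
  exact Subgroup.zpow_mem _ (Subgroup.mem_zpowers x) k

theorem pf_six_mul (h : Five G x y j i) (c d : Subgroup.centralizer ({x} : Set G)) :
    ((c : G) * d) ^ 6 = (c : G) ^ 6 * (d : G) ^ 6 := by
  obtain ⟨k, e, b, hc⟩ := h.pf_exists_form c
  obtain ⟨k', e', b', hd⟩ := h.pf_exists_form d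
  obtain ⟨b'', hb⟩ := h.pf_mul_form e b e' b'
  have h1 : (c : G) * d = x ^ (k + k') * (j ^ (e + e') * y ^ b'') := by
    rw [hc, hd, ← hb, zpow_add]
    have := (h.pf_x_comm k' e b).eq
    calc x ^ k * (j ^ e * y ^ b) * (x ^ k' * (j ^ e' * y ^ b'))
        = x ^ k * ((j ^ e * y ^ b) * x ^ k') * (j ^ e' * y ^ b') := by group
      _ = _ := by rw [← this]; group
  rw [h1, h.pf_six', hc, hd, h.pf_six', h.pf_six', zpow_add]

/-- sixth power -/
noncomputable def pf_p6 (h : Five G x y j i) :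
    Subgroup.centralizer ({x} : Set G) →* Subgroup.zpowers x where
  toFun c := ⟨(c : G) ^ 6, h.pf_six_mem c⟩
  map_one' := by ext; simp
  map_mul' c d := by
    ext
    simp only [Subgroup.coe_mul]
    exact h.pf_six_mul c d

/-- a primitive fifth root of unity -/
noncomputable def om : ℂ := Complex.exp (2 * Real.pi * Complex.I / 5)

theorem om_prim : IsPrimitiveRoot om 5 := by
  have := Complex.isPrimitiveRoot_exp 5 (by norm_num)
  simpa [om] using this

theorem om_ne : om ≠ 0 := om_prim.ne_zero (by norm_num)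

noncomputable def omu : ℂˣ := Units.mk0 om om_ne

theorem orderOf_omu : orderOf omu = 5 := by
  have h1 : orderOf ((omu : ℂˣ) : ℂ) = 5 := om_prim.eq_orderOf.symm
  rwa [orderOf_units] at h1

/-- faithful character of `⟨x⟩` -/
noncomputable def pf_chx (h : Five G x y j i) : Subgroup.zpowers x →* ℂˣ :=
  monoidHomOfForallMemZpowers (g := (⟨x, Subgroup.mem_zpowers x⟩ : Subgroup.zpowers x))
    (g' := omu) (by
      rintro ⟨w, hw⟩
      obtain ⟨k, rfl⟩ := Subgroup.mem_zpowers_iff.1 hw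
      exact Subgroup.mem_zpowers_iff.2 ⟨k, by ext; simp⟩) (by
      rw [orderOf_omu, Subgroup.orderOf_mk, h.hx])

theorem pf_chx_x (h : Five G x y j i) : h.pf_chx ⟨x, Subgroup.mem_zpowers x⟩ = omu :=
  monoidHomOfForallMemZpowers_apply_gen _ _

/-- the linear character `x^k s ↦ ω^k` of the centralizer -/
noncomputable def pf_lam (h : Five G x y j i) : Subgroup.centralizer ({x} : Set G) →* ℂˣ :=
  h.pf_chx.comp h.pf_p6

theorem pf_lam_form (h : Five G x y j i) (c : Subgroup.centralizer ({x} : Set G)) {k e b : ℤ}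
    (hc : (c : G) = x ^ k * (j ^ e * y ^ b)) : (h.pf_lam c : ℂ) = om ^ k := by
  have h1 : h.pf_p6 c = (⟨x, Subgroup.mem_zpowers x⟩ : Subgroup.zpowers x) ^ k := by
    ext
    simp only [pf_p6, MonoidHom.coe_mk, OneHom.coe_mk, Subgroup.coe_zpow]
    rw [hc, h.pf_six']
  rw [pf_lam, MonoidHom.comp_apply, h1, map_zpow, h.pf_chx_x, Units.val_zpow_eq_zpow_val]
  rfl

theorem pf_lam_eq_of_six (h : Five G x y j i) {c d : Subgroup.centralizer ({x} : Set G)}
    (hcd : (c : G) ^ 6 = (d : G) ^ 6) : h.pf_lam c = h.pf_lam d := by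
  have h1 : h.pf_p6 c = h.pf_p6 d := by ext; exact hcd
  rw [pf_lam, MonoidHom.comp_apply, h1]
  rfl

/-- `1 - λ` -/
noncomputable def pf_al (h : Five G x y j i) : Subgroup.centralizer ({x} : Set G) → ℂ :=
  fun c => 1 - (h.pf_lam c : ℂ)

theorem pf_al_gen (h : Five G x y j i) :
    IsGeneralizedCharacter (Subgroup.centralizer ({x} : Set G)) h.pf_al := by
  have h1 := (isCharacter_of_unitsHom h.pf_lam).isGeneralized
  have h2 := (isGeneralized_one (G := Subgroup.centralizer ({x} : Set G))).sub h1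
  exact h2

theorem pf_al_eq_zero (h : Five G x y j i) {c : Subgroup.centralizer ({x} : Set G)}
    (hc : (c : G) ^ 6 = 1) : h.pf_al c = 0 := by
  have h1 : h.pf_lam c = h.pf_lam 1 := h.pf_lam_eq_of_six (by rw [hc]; simp)
  simp only [pf_al, h1, map_one, Units.val_one, sub_self]

/-! ### the induced class function -/

theorem pf_psi_six [Fintype G] (h : Five G x y j i) {g : G} (hg : g ^ 6 = 1) :
    indFun (Subgroup.centralizer ({x} : Set G)) h.pf_al g = 0 := by
  rw [indFun_apply, Finset.sum_eq_zero, mul_zero]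
  intro t _
  by_cases hm : t⁻¹ * g * t ∈ Subgroup.centralizer ({x} : Set G)
  · rw [extendByZero_mem _ _ hm]
    apply h.pf_al_eq_zero
    have := conj_pow (a := t⁻¹) (b := g) (i := 6)
    rw [inv_inv] at this
    change (t⁻¹ * g * t) ^ 6 = 1
    rw [this, hg]; group
  · exact extendByZero_not_mem _ _ hm

/-- conjugation of `x ^ k` by elements of `C` and of `i C`. -/
theorem pf_conj_C (h : Five G x y j i) {g : G} (hg : g ∈ Subgroup.centralizer ({x} : Set G)) (k : ℕ) :
    g⁻¹ * x ^ k * g = x ^ k := by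
  rw [Subgroup.mem_centralizer_singleton_iff] at hg
  have : Commute g⁻¹ (x ^ k) := (show Commute g x from hg).inv_left.pow_right k
  rw [this.eq]; group

theorem pf_conj_iC (h : Five G x y j i) {g : G}
    (hg : i * g ∈ Subgroup.centralizer ({x} : Set G)) (k : ℕ) :
    g⁻¹ * x ^ k * g = (x ^ k)⁻¹ := by
  have h1 := h.pf_conj_C hg k
  have h2 : i * x ^ k * i⁻¹ = (x ^ k)⁻¹ := by
    rw [← conj_pow, h.ix, inv_pow]
  have hi' : i⁻¹ = i := inv_eq_of_mul_eq_one_left h.pf_ii
  have h3 : i⁻¹ * x ^ k * i = (x ^ k)⁻¹ := by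
    rw [hi'] at h2 ⊢; exact h2
  have h4 : g⁻¹ * (i⁻¹ * x ^ k * i) * g = x ^ k := by
    rw [← h1]
    conv_lhs => rw [h1]
    group
  rw [h3] at h4
  calc g⁻¹ * x ^ k * g = (g⁻¹ * (x ^ k)⁻¹ * g)⁻¹ := by group
    _ = (x ^ k)⁻¹ := by rw [h4]

theorem pf_psi_val [Fintype G] (h : Five G x y j i) {k : ℕ} (hk : ¬ 5 ∣ k)
    {c : Subgroup.centralizer ({x} : Set G)} (hc : (c : G) ^ 6 = x ^ k) :
    indFun (Subgroup.centralizer ({x} : Set G)) h.pf_al c = 2 - (h.pf_lam c : ℂ) - (h.pf_lam c : ℂ)⁻¹ := by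
  classical
  have hpow : ∀ t : G, (t⁻¹ * (c : G) * t) ^ 6 = t⁻¹ * x ^ k * t := by
    intro t
    have := conj_pow (a := t⁻¹) (b := (c : G)) (i := 6)
    rw [inv_inv] at this
    rw [this, hc]
  have key : ∀ t : G, extendByZero (Subgroup.centralizer ({x} : Set G)) h.pf_al (t⁻¹ * (c : G) * t) =
      (if t ∈ Subgroup.centralizer ({x} : Set G) then (1 - (h.pf_lam c : ℂ)) else 0) + (if i * t ∈ Subgroup.centralizer ({x} : Set G) then (1 - (h.pf_lam c : ℂ)⁻¹) else 0) := by
    intro t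
    by_cases h1 : t ∈ Subgroup.centralizer ({x} : Set G)
    · rw [if_pos h1, if_neg (h.pf_not_both h1), add_zero]
      have hm : t⁻¹ * (c : G) * t ∈ Subgroup.centralizer ({x} : Set G) := Subgroup.mul_mem _ (Subgroup.mul_mem _ (Subgroup.inv_mem _ h1) c.2) h1
      rw [extendByZero_mem _ _ hm]
      have h2 : h.pf_lam ⟨t⁻¹ * (c : G) * t, hm⟩ = h.pf_lam c := by
        apply h.pf_lam_eq_of_six
        change (t⁻¹ * (c : G) * t) ^ 6 = _
        rw [hpow, h.pf_conj_C h1, hc]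
      simp only [pf_al, h2]
    · rw [if_neg h1, zero_add]
      by_cases h2 : i * t ∈ Subgroup.centralizer ({x} : Set G)
      · rw [if_pos h2]
        have hm : t⁻¹ * (c : G) * t ∈ Subgroup.centralizer ({x} : Set G) := by
          rw [Subgroup.mem_centralizer_singleton_iff]
          -- t normalizes `⟨x⟩`
          have h3 : t * x * t⁻¹ = x⁻¹ := by
            have h4 := h.pf_conj_iC h2 1
            rw [pow_one] at h4
            have h5 : x = t * x⁻¹ * t⁻¹ := by rw [← h4]; group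
            have h6 : x⁻¹ = (t * x⁻¹ * t⁻¹)⁻¹ := by rw [← h5]
            rw [h6]; group
          have h4 : (c : G) * x = x * c := Subgroup.mem_centralizer_singleton_iff.1 c.2
          have h5 : (c : G) * x⁻¹ = x⁻¹ * c :=
            ((show Commute (c : G) x from h4).inv_right).eq
          calc t⁻¹ * (c : G) * t * x = t⁻¹ * (c : G) * (t * x * t⁻¹) * t := by group
            _ = t⁻¹ * ((c : G) * x⁻¹) * t := by rw [h3]; group
            _ = t⁻¹ * (x⁻¹ * c) * t := by rw [h5]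
            _ = (t⁻¹ * x⁻¹ * t) * (t⁻¹ * c * t) := by group
            _ = x * (t⁻¹ * c * t) := by
              congr 1
              rw [← h3]; group
        rw [extendByZero_mem _ _ hm]
        have h3 : h.pf_lam ⟨t⁻¹ * (c : G) * t, hm⟩ = h.pf_lam c⁻¹ := by
          apply h.pf_lam_eq_of_six
          change (t⁻¹ * (c : G) * t) ^ 6 = _
          rw [hpow, h.pf_conj_iC h2, Subgroup.coe_inv, inv_pow, hc]
        simp only [pf_al, h3, map_inv, Units.val_inv_eq_inv_val]
      · rw [if_neg h2]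
        by_cases hm : t⁻¹ * (c : G) * t ∈ Subgroup.centralizer ({x} : Set G)
        · exfalso
          have h3 : t⁻¹ * x ^ k * t ∈ Subgroup.zpowers x := by
            rw [← hpow]
            exact h.pf_six_mem ⟨_, hm⟩
          rcases (h.pf_mem_N_iff t).1 (h.pf_mem_N_of hk h3) with h4 | h4
          · exact h1 h4
          · exact h2 h4
        · exact extendByZero_not_mem _ _ hm
  rw [indFun_apply, Finset.sum_congr rfl (fun t _ => key t), Finset.sum_add_distrib]
  have e1 : ∀ w : ℂ, ∑ t : G, (if t ∈ Subgroup.centralizer ({x} : Set G) then w else 0) = 30 * w := by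
    intro w
    rw [← Finset.sum_filter, Finset.sum_const, nsmul_eq_mul]
    congr 1
    have : (Finset.univ.filter (fun t : G => t ∈ Subgroup.centralizer ({x} : Set G))).card = Nat.card (Subgroup.centralizer ({x} : Set G)) := by
      rw [Nat.card_eq_fintype_card, Fintype.card_subtype]
    rw [this, h.pf_card_C]; norm_num
  have e2 : ∀ w : ℂ, ∑ t : G, (if i * t ∈ Subgroup.centralizer ({x} : Set G) then w else 0) = 30 * w := by
    intro w
    rw [← e1 w]
    exact Fintype.sum_equiv (Equiv.mulLeft i) _ _ (fun t => rfl)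
  rw [e1, e2, h.pf_card_C]
  push_cast
  ring

/-! ### inner products -/

theorem pf_sum_C (h : Five G x y j i) [Fintype (Subgroup.centralizer ({x} : Set G))]
    (f : Subgroup.centralizer ({x} : Set G) → ℂ) :
    ∑ c, f c = ∑ k : Fin 5, ∑ e : Fin 2, ∑ b : Fin 3, f (h.pf_fm (k, e, b)) := by
  have h1 := Fintype.sum_bijective h.pf_fm h.pf_fm_bij (fun p => f (h.pf_fm p)) f (fun _ => rfl)
  rw [← h1, Fintype.sum_prod_type]
  refine Finset.sum_congr rfl fun k _ => ?_
  rw [Fintype.sum_prod_type]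

theorem conj_om_pow (k : ℕ) : (starRingEnd ℂ) (om ^ k) = (om ^ 4) ^ k := by
  rw [map_pow]
  congr 1
  have h1 : om * om ^ 4 = 1 := by
    rw [← pow_succ']; exact om_prim.pow_eq_one
  have h2 : (starRingEnd ℂ) om = om⁻¹ := by
    rw [Complex.inv_def]
    have : Complex.normSq om = 1 := by
      rw [Complex.normSq_eq_norm_sq, om_prim.norm'_eq_one (by norm_num)]
      norm_num
    rw [this]; simp
  rw [h2]
  exact inv_eq_of_mul_eq_one_right h1

theorem om_sum : 1 + om + om ^ 2 + om ^ 3 + om ^ 4 = 0 := by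
  have h := om_prim.geom_sum_eq_zero (by norm_num)
  rw [← h]
  simp [Finset.sum_range_succ]

theorem pf_al_fm (h : Five G x y j i) (p : Fin 5 × Fin 2 × Fin 3) :
    h.pf_al (h.pf_fm p) = 1 - om ^ (p.1 : ℕ) := by
  have h1 := h.pf_lam_form (h.pf_fm p) (k := ((p.1 : ℕ) : ℤ)) (e := ((p.2.1 : ℕ) : ℤ))
    (b := ((p.2.2 : ℕ) : ℤ)) rfl
  rw [pf_al, h1, zpow_natCast]

theorem pf_inner_psi [Fintype G] (h : Five G x y j i) (a : G → ℂ) (c : Fin 6 → ℂ)
    (ha : IsClassFunction G a)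
    (hc : ∀ k : ℕ, ¬ 5 ∣ k → a (x ^ k) = c 0 ∧ a (x ^ k * y) = c 1 ∧ a (x ^ k * y ^ 2) = c 2 ∧
      a (x ^ k * j) = c 3 ∧ a (x ^ k * (j * y)) = c 4 ∧ a (x ^ k * (j * y ^ 2)) = c 5) :
    classInner a (indFun (Subgroup.centralizer ({x} : Set G)) h.pf_al) = (∑ m, c m) / 6 := by
  have := Fintype.ofFinite (Subgroup.centralizer ({x} : Set G))
  rw [frobenius_reciprocity' _ _ _ ha]
  unfold classInner
  rw [h.pf_card_C, h.pf_sum_C]
  have key : ∀ k : Fin 5, ∑ e : Fin 2, ∑ b : Fin 3, a ((h.pf_fm (k, e, b) :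
      Subgroup.centralizer ({x} : Set G)) : G) * (starRingEnd ℂ) (h.pf_al (h.pf_fm (k, e, b))) =
      (∑ m, c m) * (1 - (om ^ 4) ^ (k : ℕ)) := by
    intro k
    by_cases hk : (k : ℕ) = 0
    · rw [hk, pow_zero, sub_self, mul_zero]
      refine Finset.sum_eq_zero fun e _ => Finset.sum_eq_zero fun b _ => ?_
      rw [h.pf_al_fm, hk]
      simp
    · have hk5 : ¬ 5 ∣ (k : ℕ) := by
        intro hd
        have := Nat.le_of_dvd (Nat.pos_of_ne_zero hk) hd
        have := k.2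
        omega
      obtain ⟨c0, c1, c2, c3, c4, c5⟩ := hc k hk5
      have e1 : ∀ e b, (starRingEnd ℂ) (h.pf_al (h.pf_fm (k, e, b))) = 1 - (om ^ 4) ^ (k : ℕ) := by
        intro e b
        rw [h.pf_al_fm, map_sub, map_one, conj_om_pow]
      simp only [e1, pf_fm_coe]
      simp only [Fin.sum_univ_two, Fin.sum_univ_three, Fin.sum_univ_six, Fin.coe_ofNat_eq_mod,
        Nat.zero_mod, Nat.one_mod, Nat.mod_succ, pow_zero, one_mul, pow_one, mul_one]
      rw [c0, c1, c2, c3, c4, c5]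
      ring
  rw [Finset.sum_congr rfl (fun k _ => key k)]
  have h5 : om ^ 5 = 1 := om_prim.pow_eq_one
  have hs := om_sum
  rw [← Finset.mul_sum]
  have h6 : ∑ k : Fin 5, (1 - (om ^ 4) ^ (k : ℕ)) = 5 := by
    simp only [Fin.sum_univ_five, Fin.coe_ofNat_eq_mod, Nat.zero_mod, Nat.one_mod,
      Nat.mod_succ, pow_zero, pow_one]
    norm_num
    linear_combination (-(om ^ 3) - om ^ 2 * (om ^ 5 + 1) - om * (om ^ 10 + om ^ 5 + 1)) * h5 - hs
  rw [h6]
  push_cast
  ring

theorem pf_norm_psi [Fintype G] (h : Five G x y j i) :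
    classInner (indFun (Subgroup.centralizer ({x} : Set G)) h.pf_al)
      (indFun (Subgroup.centralizer ({x} : Set G)) h.pf_al) = 3 := by
  have := Fintype.ofFinite (Subgroup.centralizer ({x} : Set G))
  rw [frobenius_reciprocity' _ _ _ (indFun_isClassFunction _ _)]
  unfold classInner
  rw [h.pf_card_C, h.pf_sum_C]
  have key : ∀ k : Fin 5, ∑ e : Fin 2, ∑ b : Fin 3,
      indFun (Subgroup.centralizer ({x} : Set G)) h.pf_al ((h.pf_fm (k, e, b) :
      Subgroup.centralizer ({x} : Set G)) : G) * (starRingEnd ℂ) (h.pf_al (h.pf_fm (k, e, b))) =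
      6 * ((2 - om ^ (k : ℕ) - (om ^ 4) ^ (k : ℕ)) * (1 - (om ^ 4) ^ (k : ℕ))) := by
    intro k
    by_cases hk : (k : ℕ) = 0
    · rw [hk, pow_zero, pow_zero, sub_self, mul_zero, mul_zero]
      refine Finset.sum_eq_zero fun e _ => Finset.sum_eq_zero fun b _ => ?_
      rw [h.pf_al_fm, hk]
      simp
    · have hk5 : ¬ 5 ∣ (k : ℕ) := by
        intro hd
        have := Nat.le_of_dvd (Nat.pos_of_ne_zero hk) hd
        have := k.2
        omega
      have e1 : ∀ e b, (starRingEnd ℂ) (h.pf_al (h.pf_fm (k, e, b))) = 1 - (om ^ 4) ^ (k : ℕ) := by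
        intro e b
        rw [h.pf_al_fm, map_sub, map_one, conj_om_pow]
      have e2 : ∀ e b, indFun (Subgroup.centralizer ({x} : Set G)) h.pf_al ((h.pf_fm (k, e, b) :
          Subgroup.centralizer ({x} : Set G)) : G) = 2 - om ^ (k : ℕ) - (om ^ 4) ^ (k : ℕ) := by
        intro e b
        have hh := h.pf_lam_form (h.pf_fm (k, e, b)) (k := ((k : ℕ) : ℤ)) (e := ((e : ℕ) : ℤ))
          (b := ((b : ℕ) : ℤ)) rfl
        have h6 : ((h.pf_fm (k, e, b) : Subgroup.centralizer ({x} : Set G)) : G) ^ 6 = x ^ (k : ℕ) := by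
          have := h.pf_six' ((k : ℕ) : ℤ) ((e : ℕ) : ℤ) ((b : ℕ) : ℤ)
          rw [← zpow_natCast x (k : ℕ)]
          exact this
        rw [h.pf_psi_val hk5 h6, hh, zpow_natCast]
        congr 1
        have h1 : om ^ (k : ℕ) * (om ^ 4) ^ (k : ℕ) = 1 := by
          rw [← mul_pow, ← pow_succ', om_prim.pow_eq_one, one_pow]
        exact inv_eq_of_mul_eq_one_right h1
      simp only [e1, e2, Finset.sum_const, Finset.card_univ, Fintype.card_fin, nsmul_eq_mul]
      push_cast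
      ring
  rw [Finset.sum_congr rfl (fun k _ => key k)]
  have h5 : om ^ 5 = 1 := om_prim.pow_eq_one
  have hs := om_sum
  rw [← Finset.mul_sum]
  have h6 : ∑ k : Fin 5, ((2 - om ^ (k : ℕ) - (om ^ 4) ^ (k : ℕ)) * (1 - (om ^ 4) ^ (k : ℕ))) =
      15 := by
    simp only [Fin.sum_univ_five, Fin.coe_ofNat_eq_mod, Nat.zero_mod, Nat.one_mod,
      Nat.mod_succ, pow_zero, pow_one]
    norm_num
    linear_combination (4 - 2 * om - 2 * om ^ 2 - 2 * om ^ 3 + om ^ 4 + 3 * om ^ 5 - 2 * om ^ 6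
      - 2 * om ^ 7 + om ^ 9 + 2 * om ^ 10 - 2 * om ^ 11 + om ^ 12 + om ^ 14 + om ^ 15 + om ^ 17
      + om ^ 19 + om ^ 22 + om ^ 27) * h5 - 3 * hs
  rw [h6]
  push_cast
  norm_num

theorem pf_one_psi [Fintype G] (h : Five G x y j i) :
    classInner (1 : G → ℂ) (indFun (Subgroup.centralizer ({x} : Set G)) h.pf_al) = 1 := by
  rw [h.pf_inner_psi 1 (fun _ => 1) (fun _ _ => rfl) (fun _ _ => ⟨rfl, rfl, rfl, rfl, rfl, rfl⟩)]
  simp

end Chr
end Five

universe u

/-- **Piece F1.** -/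
theorem F1 {G : Type u} [Group G] [Fintype G] {x y j i : G} (h : Five G x y j i) :
    ∃ (χ₁ χ₂ : IrrCharacter G) (e₁ e₂ : ℤ), (e₁ = 1 ∨ e₁ = -1) ∧ (e₂ = 1 ∨ e₂ = -1) ∧ χ₁ ≠ χ₂ ∧
      (χ₁ : G → ℂ) ≠ 1 ∧ (χ₂ : G → ℂ) ≠ 1 ∧
      (1 + (e₁ : ℂ) * χ₁.1 1 + (e₂ : ℂ) * χ₂.1 1 = 0) ∧
      (∀ t : G, orderOf t = 2 → 1 + (e₁ : ℂ) * χ₁.1 t + (e₂ : ℂ) * χ₂.1 t = 0) ∧
      ∀ (a : G → ℂ) (c : Fin 6 → ℂ), IsClassFunction G a →
        (∀ k : ℕ, ¬ 5 ∣ k → a (x ^ k) = c 0 ∧ a (x ^ k * y) = c 1 ∧ a (x ^ k * y ^ 2) = c 2 ∧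
          a (x ^ k * j) = c 3 ∧ a (x ^ k * (j * y)) = c 4 ∧ a (x ^ k * (j * y ^ 2)) = c 5) →
        classInner a 1 + (e₁ : ℂ) * classInner a χ₁.1 + (e₂ : ℂ) * classInner a χ₂.1 =
          (∑ m, c m) / 6 := by
  set Ψ := indFun (Subgroup.centralizer ({x} : Set G)) h.pf_al with hΨ
  have hgen : IsGeneralizedCharacter G Ψ := h.pf_al_gen.indFun _
  have hθ : IsGeneralizedCharacter G (Ψ - 1) := hgen.sub isGeneralized_one
  have h1 : classInner (1 : G → ℂ) Ψ = 1 := h.pf_one_psi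
  have h1' : classInner Ψ (1 : G → ℂ) = 1 := by
    rw [← classInner_conj_symm, h1, map_one]
  have h11 : classInner (1 : G → ℂ) 1 = 1 := isIrrCharacter_one.classInner_self
  have hn : classInner (Ψ - 1) (Ψ - 1) = 2 := by
    rw [IndFun.classInner_sub_left, IndFun.classInner_sub_right, IndFun.classInner_sub_right,
      h.pf_norm_psi, h1, h1', h11]
    norm_num
  obtain ⟨α, β, hα, hβ, hαβ, hsum⟩ := Coherence.norm_two_decomp hθ hn
  have ex : ∀ γ : G → ℂ, Coherence.SIrr γ → ∃ (χ : IrrCharacter G) (e : ℤ), (e = 1 ∨ e = -1) ∧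
      γ = (e : ℂ) • χ.1 := by
    rintro γ (hγ | hγ)
    · exact ⟨⟨γ, hγ⟩, 1, Or.inl rfl, by simp⟩
    · exact ⟨⟨-γ, hγ⟩, -1, Or.inr rfl, by simp⟩
  obtain ⟨χ₁, e₁, he₁, rfl⟩ := ex α hα
  obtain ⟨χ₂, e₂, he₂, rfl⟩ := ex β hβ
  have hz₁ : (e₁ : ℂ) ≠ 0 := by rcases he₁ with rfl | rfl <;> simp
  have hz₂ : (e₂ : ℂ) ≠ 0 := by rcases he₂ with rfl | rfl <;> simp
  have hne : χ₁ ≠ χ₂ := by
    rintro rfl
    rw [IndFun.classInner_smul_left, IndFun.classInner_smul_right, χ₁.2.classInner_self] at hαβ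
    rcases he₁ with rfl | rfl <;> rcases he₂ with rfl | rfl <;> simp at hαβ
  have hval : ∀ g, Ψ g = 1 + (e₁ : ℂ) * χ₁.1 g + (e₂ : ℂ) * χ₂.1 g := by
    intro g
    have := congrFun hsum g
    simp only [Pi.sub_apply, Pi.one_apply, Pi.add_apply, Pi.smul_apply, smul_eq_mul] at this
    linear_combination this
  have h0 : classInner (Ψ - 1) (1 : G → ℂ) = 0 := by
    rw [IndFun.classInner_sub_left, h1', h11, sub_self]
  have hne1 : (χ₁ : G → ℂ) ≠ 1 := by
    intro h2
    have h3 : χ₂.1 ≠ 1 := fun h4 => hne (Subtype.ext (h2.trans h4.symm))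
    rw [hsum, IndFun.classInner_add_left, IndFun.classInner_smul_left,
      IndFun.classInner_smul_left, h2, h11, χ₂.2.classInner_eq_zero isIrrCharacter_one h3] at h0
    apply hz₁
    simpa using h0
  have hne2 : (χ₂ : G → ℂ) ≠ 1 := by
    intro h2
    have h3 : χ₁.1 ≠ 1 := hne1
    rw [hsum, IndFun.classInner_add_left, IndFun.classInner_smul_left,
      IndFun.classInner_smul_left, h2, h11, χ₁.2.classInner_eq_zero isIrrCharacter_one h3] at h0
    apply hz₂
    simpa using h0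
  refine ⟨χ₁, χ₂, e₁, e₂, he₁, he₂, hne, hne1, hne2, ?_, ?_, ?_⟩
  · rw [← hval]
    exact h.pf_psi_six (one_pow 6)
  · intro t ht
    rw [← hval]
    apply h.pf_psi_six
    have h2 : t ^ 2 = 1 := by rw [← ht]; exact pow_orderOf_eq_one t
    rw [show 6 = 2 * 3 from rfl, pow_mul, h2, one_pow]
  · intro a c ha hc
    rw [← h.pf_inner_psi a c ha hc, ← hΨ]
    have h2 : Ψ = 1 + ((e₁ : ℂ) • χ₁.1 + (e₂ : ℂ) • χ₂.1) := by
      rw [← hsum]; abel
    have c1 : (starRingEnd ℂ) (e₁ : ℂ) = e₁ := by simp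
    have c2 : (starRingEnd ℂ) (e₂ : ℂ) = e₂ := by simp
    rw [h2, IndFun.classInner_add_right, IndFun.classInner_add_right,
      IndFun.classInner_smul_right, IndFun.classInner_smul_right, c1, c2]
    ring
end Cfsg.Agent.Lib.J3P
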