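import Cfsg.Agent.Lib.J3PEntry2
import Cfsg.Agent.Lib.J3PAsm

/-!
# The order of Janko's second and third groups (assembly, helper26)
-/

set_option autoImplicit false
set_option linter.all false

open Cfsg Cfsg.Agent.Lib.LargeExtra Cfsg.Agent.Lib.JTw Cfsg.Agent.Lib.JTw.Setup

namespace Cfsg.Agent.Lib.J3P

theorem one_of {G : Type*} [Group G] [Finite G] (S : Setup G) (hone : ∀ x y : G, orderOf x = 2 → orderOf y = 2 → IsConj x y) :
    One S := by
  intro y hy hy1
  have ho : ∀ a : G, a * a = 1 → a ≠ 1 → orderOf a = 2 := fun a ha ha1 => InvAct.orderOf_two_iff.2 ⟨ha, ha1⟩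
  exact hone _ _ (ho _ S.base.pre.sq S.base.pre.ne) (ho _ hy hy1)

theorem dichotomy {G : Type*} [Group G] [Finite G] [IsSimpleGroup G] (S : Setup G) : Cfsg.IsJ2 G ∨ Cfsg.IsJ3 G := by
  by_cases hcl : ∃ x y : G, orderOf x = 2 ∧ orderOf y = 2 ∧ ¬ IsConj x y
  · exact Or.inl ⟨inferInstance, Cfsg.Agent.Lib.JTw.order S hcl⟩
  · push Not at hcl
    exact Or.inr ⟨inferInstance, order_one S (one_of S hcl)⟩

end Cfsg.Agent.Lib.J3P
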