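import Mathlib
import Cfsg.Agent.Lib.PBKill

/-!
# Sylow subgroups of order 17 and 19 of a simple group of order 50232960 (helper54)
-/

set_option autoImplicit false
set_option linter.all false

namespace Cfsg.Agent.Lib.J3Syl

open Cfsg Subgroup Cfsg.Agent.Lib.DefOneLoc Cfsg.Agent.Lib.DefOneOrd Cfsg.Agent.Lib.CharBasic
open Cfsg.Agent.Lib.DefOneGram Cfsg.Agent.Lib.DefOne Cfsg.Agent.Lib.BRB0 Cfsg.Agent.Lib.BRCore
open Cfsg.Agent.Lib.PBData Cfsg.Agent.Lib.DefOnePrin Cfsg.Agent.Lib.BlockThird Cfsg.Agent.Lib.SmallSimple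
open Cfsg.Agent.Lib.PBNum Cfsg.Agent.Lib.PBExt Cfsg.Agent.Lib.PBStruct Cfsg.Agent.Lib.PBFull
open Cfsg.Agent.Lib.PBLocal Cfsg.Agent.Lib.PBKill
open scoped ComplexConjugate

universe u

theorem a1 : sols (fun _ => true) 50232960 19 3 293760 3 7087 = [] := by decide +kernel
theorem a2 : sols (fun _ => true) 50232960 19 3 1920 459 7087 = [] := by decide +kernel
theorem a3 : sols (fun _ => true) 50232960 19 9 1920 153 7087 = [] := by decide +kernel
theorem b1 : 3 - 1 + ((cands 19 (3 * 293760) 7087 (if (3 : ℕ) == 1 then 2 else 2 * 19)).filter (fun d => (fun _ => true) d.natAbs)).length < 80 := by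
  decide +kernel
theorem b2 : 3 - 1 + ((cands 19 (3 * 1920) 7087 (if (459 : ℕ) == 1 then 2 else 2 * 19)).filter (fun d => (fun _ => true) d.natAbs)).length < 80 := by
  decide +kernel
theorem b3 : 9 - 1 + ((cands 19 (9 * 1920) 7087 (if (153 : ℕ) == 1 then 2 else 2 * 19)).filter (fun d => (fun _ => true) d.natAbs)).length < 80 := by
  decide +kernel

variable {G : Type u} [Group G]

theorem no_sols [Fintype G] [IsSimpleGroup G] (hG : ¬ IsMulCommutative G) {p : ℕ} [Fact p.Prime] (Q : Sylow p G)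
    (hQ : Nat.card Q = p) {e c n N b : ℕ}
    (hN : Nat.card (normalizer ((Q : Subgroup G) : Set G)) = p * (e * c))
    (hC : Nat.card (centralizer ((Q : Subgroup G) : Set G)) = p * c) (hcard : Nat.card G = N)
    (hn : Nat.card (Sylow p G) = n) (hb : N < (b + 1) ^ 2)
    (hlen : e - 1 + ((cands p (e * n) b (if c == 1 then 2 else 2 * p)).filter (fun d => (fun _ => true) d.natAbs)).length < 80)
    (hs : sols (fun _ => true) N p e n c b = []) : False := by
  obtain ⟨D, i, ⟨B⟩⟩ := exists_PBE Q hQ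
  subst hn
  obtain ⟨l, hl, -⟩ := sols_of hG hQ B.toPB hN hC hcard hb (fun _ => true) (fun _ _ => rfl) hlen
  rw [hs] at hl
  exact List.not_mem_nil hl

theorem cases19 : ∀ e ∈ Nat.divisors 18, ∀ c ∈ Nat.divisors 4131, e ≠ 1 → 2643840 % (e * c) = 0 → (2643840 / (e * c)) % 19 = 1 →
    (e = 3 ∧ c = 3) ∨ (e = 3 ∧ c = 459) ∨ (e = 9 ∧ c = 153) ∨ (e = 9 ∧ c = 1) := by decide +kernel

theorem cases17 : ∀ e ∈ Nat.divisors 16, ∀ c ∈ Nat.divisors 243, e ≠ 1 → 2954880 % (e * c) = 0 → (2954880 / (e * c)) % 17 = 1 →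
    (e = 8 ∧ c = 1) ∨ (e = 16 ∧ c = 9) := by decide +kernel

theorem nineteen [Fintype G] [IsSimpleGroup G] (hcard : Nat.card G = 50232960) (X : Sylow 19 G)
    (h2 : ¬ 2 ∣ Nat.card (centralizer ((X : Subgroup G) : Set G))) (h5 : ¬ 5 ∣ Nat.card (centralizer ((X : Subgroup G) : Set G))) :
    Nat.card (X : Subgroup G) = 19 ∧ Nat.card (centralizer ((X : Subgroup G) : Set G)) = 19 ∧
      Nat.card (normalizer ((X : Subgroup G) : Set G)) = 171 := by
  haveI : Fact (Nat.Prime 19) := ⟨by norm_num⟩
  have hG : ¬ IsMulCommutative G := not_comm (by rw [hcard]; norm_num)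
  obtain ⟨hP, e, c, hN, hC, he, he1, hecn, hmod, hn1⟩ := SylEven.data hG (p := 19) (M := 2643840) (by rw [hcard]) (by norm_num) X
  have hc2 : ¬ 2 ∣ c := fun h => h2 (by rw [hC]; exact h.mul_left _)
  have hc5 : ¬ 5 ∣ c := fun h => h5 (by rw [hC]; exact h.mul_left _)
  have hc : c ∣ 4131 := by
    have h3 : c ∣ 640 * 4131 := by
      rw [show 640 * 4131 = 2643840 by norm_num, ← hecn]
      exact (Dvd.intro_left _ rfl).mul_right _
    apply Nat.Coprime.dvd_of_dvd_mul_left _ h3
    rw [show 640 = 2 ^ 7 * 5 by norm_num]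
    exact Nat.Coprime.mul_right (Nat.Coprime.pow_right _ ((Nat.Prime.coprime_iff_not_dvd (by norm_num)).2 hc2).symm)
      ((Nat.Prime.coprime_iff_not_dvd (by norm_num)).2 hc5).symm
  have hn0 : 0 < Nat.card (Sylow 19 G) := Nat.card_pos
  have hec0 : 0 < e * c := by
    rcases Nat.eq_zero_or_pos (e * c) with h0 | h0
    · rw [h0, zero_mul] at hecn; norm_num at hecn
    · exact h0
  have hnd : 2643840 / (e * c) = Nat.card (Sylow 19 G) := by rw [← hecn]; exact Nat.mul_div_cancel_left _ hec0
  have hcs := cases19 e (Nat.mem_divisors.2 ⟨he, by norm_num⟩) c (Nat.mem_divisors.2 ⟨hc, by norm_num⟩) he1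
    (Nat.mod_eq_zero_of_dvd (by rw [← hecn]; exact Dvd.intro _ rfl)) (by rw [hnd]; exact hmod)
  rcases hcs with ⟨rfl, rfl⟩ | ⟨rfl, rfl⟩ | ⟨rfl, rfl⟩ | ⟨rfl, rfl⟩
  · exact (no_sols hG X hP hN hC hcard (n := 293760) (by omega) (b := 7087) (by norm_num) b1 a1).elim
  · exact (no_sols hG X hP hN hC hcard (n := 1920) (by omega) (b := 7087) (by norm_num) b2 a2).elim
  · exact (no_sols hG X hP hN hC hcard (n := 1920) (by omega) (b := 7087) (by norm_num) b3 a3).elim
  · exact ⟨hP, by rw [hC], by rw [hN]⟩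

theorem seventeen [Fintype G] [IsSimpleGroup G] (hcard : Nat.card G = 50232960) (Y : Sylow 17 G)
    (h2 : ¬ 2 ∣ Nat.card (centralizer ((Y : Subgroup G) : Set G))) (h5 : ¬ 5 ∣ Nat.card (centralizer ((Y : Subgroup G) : Set G)))
    (h19 : ¬ 19 ∣ Nat.card (centralizer ((Y : Subgroup G) : Set G)))
    (h3 : ∀ q s : G, orderOf q = 3 → orderOf s = 2 → q * s = s * q → q ∉ centralizer ((Y : Subgroup G) : Set G)) :
    Nat.card (Y : Subgroup G) = 17 ∧ Nat.card (centralizer ((Y : Subgroup G) : Set G)) = 17 ∧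
      Nat.card (normalizer ((Y : Subgroup G) : Set G)) = 136 := by
  classical
  haveI : Fact (Nat.Prime 17) := ⟨by norm_num⟩
  haveI : Fact (Nat.Prime 3) := ⟨by norm_num⟩
  have hG : ¬ IsMulCommutative G := not_comm (by rw [hcard]; norm_num)
  obtain ⟨hP, e, c, hN, hC, he, he1, hecn, hmod, hn1⟩ := SylEven.data hG (p := 17) (M := 2954880) (by rw [hcard]) (by norm_num) Y
  have hc2 : ¬ 2 ∣ c := fun h => h2 (by rw [hC]; exact h.mul_left _)
  have hc5 : ¬ 5 ∣ c := fun h => h5 (by rw [hC]; exact h.mul_left _)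
  have hc19 : ¬ 19 ∣ c := fun h => h19 (by rw [hC]; exact h.mul_left _)
  have hc : c ∣ 243 := by
    have h3 : c ∣ 12160 * 243 := by
      rw [show 12160 * 243 = 2954880 by norm_num, ← hecn]
      exact (Dvd.intro_left _ rfl).mul_right _
    apply Nat.Coprime.dvd_of_dvd_mul_left _ h3
    rw [show 12160 = 2 ^ 7 * 5 * 19 by norm_num]
    exact Nat.Coprime.mul_right (Nat.Coprime.mul_right (Nat.Coprime.pow_right _ ((Nat.Prime.coprime_iff_not_dvd (by norm_num)).2 hc2).symm)
      ((Nat.Prime.coprime_iff_not_dvd (by norm_num)).2 hc5).symm) ((Nat.Prime.coprime_iff_not_dvd (by norm_num)).2 hc19).symm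
  have hn0 : 0 < Nat.card (Sylow 17 G) := Nat.card_pos
  have hec0 : 0 < e * c := by
    rcases Nat.eq_zero_or_pos (e * c) with h0 | h0
    · rw [h0, zero_mul] at hecn; norm_num at hecn
    · exact h0
  have hnd : 2954880 / (e * c) = Nat.card (Sylow 17 G) := by rw [← hecn]; exact Nat.mul_div_cancel_left _ hec0
  have hcs := cases17 e (Nat.mem_divisors.2 ⟨he, by norm_num⟩) c (Nat.mem_divisors.2 ⟨hc, by norm_num⟩) he1
    (Nat.mod_eq_zero_of_dvd (by rw [← hecn]; exact Dvd.intro _ rfl)) (by rw [hnd]; exact hmod)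
  rcases hcs with ⟨rfl, rfl⟩ | ⟨rfl, rfl⟩
  · exact ⟨hP, by rw [hC], by rw [hN]⟩
  · exfalso
    set C := centralizer ((Y : Subgroup G) : Set G) with hCd
    set N := normalizer ((Y : Subgroup G) : Set G) with hNd
    have hCN : C ≤ N := centralizer_le_normalizer _
    -- the Sylow 3-subgroup of `C`
    obtain ⟨S⟩ : Nonempty (Sylow 3 C) := inferInstance
    have hS : Nat.card (S : Subgroup C) = 9 := by
      have h1 := S.card_eq_multiplicity
      rw [hC] at h1
      have h2 : (17 * 9 : ℕ).factorization 3 = 2 := by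
        rw [show (17 * 9 : ℕ) = 3 ^ 2 * 17 by norm_num, Nat.factorization_mul (by norm_num) (by norm_num),
          Nat.Prime.factorization_pow (by norm_num)]
        simp [Nat.factorization_eq_zero_of_not_dvd]
      rw [h2] at h1
      exact h1
    have hS1 : Nat.card (Sylow 3 C) = 1 := by
      have h1 := card_sylow_modEq_one 3 C
      have h2 : Nat.card (Sylow 3 C) ∣ (S : Subgroup C).index := S.card_dvd_index
      have h4 : (S : Subgroup C).index = 17 := by
        have := (S : Subgroup C).card_mul_index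
        rw [hS, hC] at this
        omega
      rw [h4] at h2
      rcases (Nat.dvd_prime (by norm_num)).1 h2 with h5 | h5
      · exact h5
      · rw [h5] at h1
        exact absurd h1 (by decide)
    haveI : Subsingleton (Sylow 3 C) := (Nat.card_eq_one_iff_unique.1 hS1).1
    have hchar : (S : Subgroup C).Characteristic := Sylow.characteristic_of_subsingleton S
    set R : Subgroup G := (S : Subgroup C).map C.subtype with hR
    have hRc : Nat.card R = 9 := by rw [hR, Subgroup.card_map_of_injective C.subtype_injective, hS]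
    have hRC : R ≤ C := Subgroup.map_subtype_le _
    have hR9 : ∀ r ∈ R, r ^ 9 = 1 := by
      intro r hr
      have h1 : orderOf r ∣ 9 := by rw [← hRc]; exact Subgroup.orderOf_dvd_natCard _ hr
      exact orderOf_dvd_iff_pow_eq_one.1 h1
    have hRmem : ∀ x ∈ C, x ^ 9 = 1 → x ∈ R := by
      intro x hx hx9
      have h1 : IsPGroup 3 (zpowers (⟨x, hx⟩ : C)) := by
        apply IsPGroup.of_card_dvd_pow (n := 2)
        rw [Nat.card_zpowers]
        exact orderOf_dvd_of_pow_eq_one (Subtype.ext hx9)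
      obtain ⟨T, hT⟩ := h1.exists_le_sylow
      rw [Subsingleton.elim T S] at hT
      exact ⟨⟨x, hx⟩, hT (mem_zpowers _), rfl⟩
    have hNC : ∀ n ∈ N, ∀ x ∈ C, n * x * n⁻¹ ∈ C := by
      intro n hn x hx
      rw [hCd, mem_centralizer_iff]
      intro y hy
      have h1 : n⁻¹ * y * n ∈ (Y : Subgroup G) := by
        have := (mem_normalizer_iff.1 (inv_mem hn) y).1 hy
        rwa [inv_inv] at this
      have h2 := mem_centralizer_iff.1 hx _ h1
      calc y * (n * x * n⁻¹) = n * ((n⁻¹ * y * n) * x) * n⁻¹ := by group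
        _ = n * (x * (n⁻¹ * y * n)) * n⁻¹ := by rw [h2]
        _ = n * x * n⁻¹ * y := by group
    have hNR : ∀ n ∈ N, ∀ r ∈ R, n * r * n⁻¹ ∈ R := by
      intro n hn r hr
      apply hRmem _ (hNC n hn r (hRC hr))
      rw [conj_pow, hR9 r hr, mul_one, mul_inv_cancel]
    -- an element of order three
    obtain ⟨q, hq⟩ := exists_prime_orderOf_dvd_card' (G := R) 3 (by rw [hRc]; norm_num)
    have hq3 : orderOf (q : G) = 3 := by rw [Subgroup.orderOf_coe, hq]
    have hq1 : (q : G) ≠ 1 := by intro h; rw [h, orderOf_one] at hq3; norm_num at hq3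
    set K : Subgroup G := N ⊓ centralizer ({(q : G)} : Set G) with hK
    have hle : Nat.card N ≤ 8 * Nat.card K := by
      let s : Finset G := Finset.univ.filter (fun n => n ∈ N)
      have hs' : s.card = Nat.card N := by
        rw [Nat.card_eq_fintype_card, Fintype.card_subtype]
      let t : Finset G := (Finset.univ.filter (fun n => n ∈ R)).erase 1
      have ht : t.card = 8 := by
        rw [Finset.card_erase_of_mem (by rw [Finset.mem_filter]; exact ⟨Finset.mem_univ _, one_mem _⟩)]
        have : (Finset.univ.filter (fun n => n ∈ R)).card = 9 := by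
          rw [← hRc, Nat.card_eq_fintype_card, Fintype.card_subtype]
        rw [this]
      have himg : s.image (fun n => n * (q : G) * n⁻¹) ⊆ t := by
        intro y hy
        rw [Finset.mem_image] at hy
        obtain ⟨n, hn, rfl⟩ := hy
        rw [Finset.mem_filter] at hn
        rw [Finset.mem_erase, Finset.mem_filter]
        refine ⟨?_, Finset.mem_univ _, hNR n hn.2 q q.2⟩
        intro h
        apply hq1
        calc (q : G) = n⁻¹ * (n * (q : G) * n⁻¹) * n := by group
          _ = 1 := by rw [h]; group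
      have hfib : ∀ a ∈ s.image (fun n => n * (q : G) * n⁻¹), (s.filter (fun n => n * (q : G) * n⁻¹ = a)).card ≤ Nat.card K := by
        intro a ha
        rw [Finset.mem_image] at ha
        obtain ⟨n0, hn0, rfl⟩ := ha
        have h7 : (Finset.univ.filter (fun n => n ∈ K)).card = Nat.card K := by
          rw [Nat.card_eq_fintype_card, Fintype.card_subtype]
        rw [← h7]
        apply Finset.card_le_card_of_injOn (fun n => n0⁻¹ * n)
        · intro n hn
          rw [Finset.mem_coe, Finset.mem_filter, Finset.mem_filter] at hn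
          rw [Finset.mem_filter] at hn0
          rw [Finset.mem_coe, Finset.mem_filter]
          refine ⟨Finset.mem_univ _, ?_⟩
          rw [hK, mem_inf, mem_centralizer_singleton_iff]
          refine ⟨mul_mem (inv_mem hn0.2) hn.1.2, ?_⟩
          calc n0⁻¹ * n * (q : G) = n0⁻¹ * (n * (q : G) * n⁻¹) * n := by group
            _ = n0⁻¹ * (n0 * (q : G) * n0⁻¹) * n := by rw [hn.2]
            _ = (q : G) * (n0⁻¹ * n) := by group
        · intro x _ y _ hxy
          exact mul_left_cancel hxy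
      have h1 := Finset.card_le_mul_card_image s (Nat.card K) hfib
      rw [hs'] at h1
      have h2 : (s.image (fun n => n * (q : G) * n⁻¹)).card ≤ 8 := by rw [← ht]; exact Finset.card_le_card himg
      calc Nat.card N ≤ Nat.card K * (s.image (fun n => n * (q : G) * n⁻¹)).card := h1
        _ ≤ Nat.card K * 8 := Nat.mul_le_mul_left _ h2
        _ = 8 * Nat.card K := by ring
    have hKN : Nat.card K ∣ 16 * 153 := by
      have h1 : Nat.card K ∣ Nat.card N := card_dvd_of_le inf_le_left
      rw [hN] at h1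
      exact h1
    have h2K : 2 ∣ Nat.card K := by
      by_contra h
      have h1 : Nat.card K ∣ 153 := by
        apply Nat.Coprime.dvd_of_dvd_mul_left _ hKN
        rw [show 16 = 2 ^ 4 by norm_num]
        exact Nat.Coprime.pow_right _ ((Nat.Prime.coprime_iff_not_dvd (by norm_num)).2 h).symm
      have h2 := Nat.le_of_dvd (by norm_num) h1
      rw [hN] at hle
      omega
    haveI : Fact (Nat.Prime 2) := ⟨Nat.prime_two⟩
    obtain ⟨s, hs⟩ := exists_prime_orderOf_dvd_card' (G := K) 2 h2K
    have hs2 : orderOf (s : G) = 2 := by rw [Subgroup.orderOf_coe, hs]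
    have hsq : (s : G) * q = q * s := mem_centralizer_singleton_iff.1 (mem_inf.1 s.2).2
    exact h3 q s hq3 hs2 hsq.symm (hRC q.2)

end Cfsg.Agent.Lib.J3Syl
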