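import Mathlib
import Cfsg.Agent.Lib.J3Syl
import Cfsg.Agent.Lib.OrdMiscS

/-!
# Sylow subgroups of order 17 and 19 of a simple group of order 50232960, conclusion (helper54)
-/

set_option autoImplicit false
set_option linter.all false

namespace Cfsg.Agent.Lib.J3Syl

open Cfsg Subgroup

universe u

theorem quot {G : Type u} [Group G] [Finite G] {p : ℕ} [Fact p.Prime] (P : Subgroup G) (hP : Nat.card P = p)
    (hC : centralizer (P : Set G) = P) (k : ℕ) (hN : Nat.card (normalizer (P : Set G)) = p * k) :
    ∃ h : (P.subgroupOf (normalizer (P : Set G))).Normal,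
      IsCyclic (↥(normalizer (P : Set G)) ⧸ P.subgroupOf (normalizer (P : Set G))) ∧
      Nat.card (↥(normalizer (P : Set G)) ⧸ P.subgroupOf (normalizer (P : Set G))) = k := by
  have hn : (P.subgroupOf (normalizer (P : Set G))).Normal := Subgroup.normal_in_normalizer
  refine ⟨hn, ?_, ?_⟩
  · haveI := OrdMiscS.aut_cyclic P hP
    have hker : (P.normalizerMonoidHom).ker = P.subgroupOf (normalizer (P : Set G)) := by
      rw [normalizerMonoidHom_ker, hC]
    let φ : ↥(normalizer (P : Set G)) ⧸ P.subgroupOf (normalizer (P : Set G)) →* MulAut P :=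
      QuotientGroup.lift _ P.normalizerMonoidHom (fun x hx => by rw [hker]; exact hx)
    have hinj : Function.Injective φ := by
      rw [injective_iff_map_eq_one]
      intro x hx
      obtain ⟨y, rfl⟩ := QuotientGroup.mk_surjective x
      have h1 : P.normalizerMonoidHom y = 1 := hx
      rw [← MonoidHom.mem_ker, hker] at h1
      exact (QuotientGroup.eq_one_iff y).2 h1
    exact isCyclic_of_injective φ hinj
  · have h1 := (P.subgroupOf (normalizer (P : Set G))).card_mul_index
    rw [Nat.card_congr (Subgroup.subgroupOfEquivOfLe le_normalizer).toEquiv, hP, hN] at h1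
    rw [← Subgroup.index_eq_card]
    exact Nat.eq_of_mul_eq_mul_left (Fact.out (p := p.Prime)).pos h1

theorem cent_eq {G : Type u} [Group G] [Finite G] {p : ℕ} [Fact p.Prime] (P : Subgroup G) (hP : Nat.card P = p)
    (hC : Nat.card (centralizer (P : Set G)) = p) : centralizer (P : Set G) = P := by
  symm
  apply Subgroup.eq_of_le_of_card_ge
  · haveI : IsCyclic P := isCyclic_of_prime_card hP
    letI : CommGroup P := IsCyclic.commGroup
    intro x hx
    rw [mem_centralizer_iff]
    intro y hy
    exact congrArg Subtype.val (mul_comm (⟨y, hy⟩ : P) ⟨x, hx⟩)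
  · rw [hP, hC]

/-- a prime not dividing the order of any centralizer of an element of prime order `r` -/
theorem not_dvd {G : Type u} [Group G] [Finite G] {p r : ℕ} [Fact p.Prime] [Fact r.Prime] (P : Subgroup G) (hP : Nat.card P = p)
    (h : ∀ u : G, orderOf u = r → ¬ p ∣ Nat.card (centralizer ({u} : Set G))) : ¬ r ∣ Nat.card (centralizer (P : Set G)) := by
  intro hr
  obtain ⟨u, hu⟩ := exists_prime_orderOf_dvd_card' (G := centralizer (P : Set G)) r hr
  apply h (u : G) (by rw [Subgroup.orderOf_coe, hu])
  rw [← hP]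
  apply Subgroup.card_dvd_of_le
  intro x hx
  rw [mem_centralizer_singleton_iff]
  exact mem_centralizer_iff.1 u.2 x hx

theorem final {G : Type u} [Group G] [Finite G] [IsSimpleGroup G] (hcard : Nat.card G = 50232960)
    (hinv : ∀ s : G, orderOf s = 2 → Nat.card (centralizer ({s} : Set G)) = 1920)
    (h5 : ∀ u : G, orderOf u = 5 → Nat.card (centralizer ({u} : Set G)) ∣ 60)
    (h3 : ∀ q s : G, orderOf q = 3 → orderOf s = 2 → q * s = s * q → Nat.card (centralizer ({q} : Set G)) = 1080) :
    (∀ X : Sylow 19 G, Subgroup.centralizer ((X : Subgroup G) : Set G) = X ∧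
        ∃ h : ((X : Subgroup G).subgroupOf (Subgroup.normalizer ((X : Subgroup G) : Set G))).Normal,
          IsCyclic (↥(Subgroup.normalizer ((X : Subgroup G) : Set G)) ⧸ (X : Subgroup G).subgroupOf _) ∧
          Nat.card (↥(Subgroup.normalizer ((X : Subgroup G) : Set G)) ⧸ (X : Subgroup G).subgroupOf _) = 9) ∧
    (∀ Y : Sylow 17 G, Subgroup.centralizer ((Y : Subgroup G) : Set G) = Y ∧
        ∃ h : ((Y : Subgroup G).subgroupOf (Subgroup.normalizer ((Y : Subgroup G) : Set G))).Normal,
          IsCyclic (↥(Subgroup.normalizer ((Y : Subgroup G) : Set G)) ⧸ (Y : Subgroup G).subgroupOf _) ∧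
          Nat.card (↥(Subgroup.normalizer ((Y : Subgroup G) : Set G)) ⧸ (Y : Subgroup G).subgroupOf _) = 8) := by
  classical
  letI := Fintype.ofFinite G
  haveI : Fact (Nat.Prime 19) := ⟨by norm_num⟩
  haveI : Fact (Nat.Prime 17) := ⟨by norm_num⟩
  haveI : Fact (Nat.Prime 5) := ⟨by norm_num⟩
  haveI : Fact (Nat.Prime 2) := ⟨Nat.prime_two⟩
  have hG : ¬ IsMulCommutative G := PBKill.not_comm (by rw [hcard]; norm_num)
  have h19c : ∀ X : Sylow 19 G, Nat.card (X : Subgroup G) = 19 := fun X =>
    (SylEven.data hG (p := 19) (M := 2643840) (by rw [hcard]) (by norm_num) X).1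
  have h17c : ∀ X : Sylow 17 G, Nat.card (X : Subgroup G) = 17 := fun X =>
    (SylEven.data hG (p := 17) (M := 2954880) (by rw [hcard]) (by norm_num) X).1
  have key19 : ∀ X : Sylow 19 G, Nat.card (X : Subgroup G) = 19 ∧ Nat.card (centralizer ((X : Subgroup G) : Set G)) = 19 ∧
      Nat.card (normalizer ((X : Subgroup G) : Set G)) = 171 := by
    intro X
    apply nineteen hcard X
    · apply not_dvd (p := 19) (X : Subgroup G) (h19c X)
      intro u hu
      rw [hinv u hu]; norm_num
    · apply not_dvd (p := 19) (X : Subgroup G) (h19c X)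
      intro u hu h
      have := h.trans (h5 u hu)
      norm_num at this
  have key17 : ∀ X : Sylow 17 G, Nat.card (X : Subgroup G) = 17 ∧ Nat.card (centralizer ((X : Subgroup G) : Set G)) = 17 ∧
      Nat.card (normalizer ((X : Subgroup G) : Set G)) = 136 := by
    intro X
    apply seventeen hcard X
    · apply not_dvd (p := 17) (X : Subgroup G) (h17c X)
      intro u hu
      rw [hinv u hu]; norm_num
    · apply not_dvd (p := 17) (X : Subgroup G) (h17c X)
      intro u hu h
      have := h.trans (h5 u hu)
      norm_num at this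
    · apply not_dvd (p := 17) (X : Subgroup G) (h17c X)
      intro u hu h
      -- the Sylow subgroup generated by `u`
      have hp : IsPGroup 19 (zpowers u) := IsPGroup.of_card (n := 1) (by rw [Nat.card_zpowers, hu, pow_one])
      obtain ⟨Z, hZ⟩ := hp.exists_le_sylow
      have hZe : (Z : Subgroup G) = zpowers u := by
        symm
        apply Subgroup.eq_of_le_of_card_ge hZ
        rw [h19c Z, Nat.card_zpowers, hu]
      obtain ⟨-, h1, -⟩ := key19 Z
      rw [hZe, zpowers_eq_closure, centralizer_closure] at h1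
      rw [h1] at h
      norm_num at h
    · intro q s hq hs hqs hqC
      have h1 := h3 q s hq hs hqs
      have h2 : Nat.card (X : Subgroup G) ∣ Nat.card (centralizer ({q} : Set G)) := by
        apply Subgroup.card_dvd_of_le
        intro x hx
        rw [mem_centralizer_singleton_iff]
        exact mem_centralizer_iff.1 hqC x hx
      rw [h17c X, h1] at h2
      norm_num at h2
  refine ⟨fun X => ?_, fun X => ?_⟩
  · obtain ⟨h1, h2, h3'⟩ := key19 X
    have h4 := cent_eq (X : Subgroup G) h1 h2
    exact ⟨h4, quot (X : Subgroup G) h1 h4 9 (by rw [h3'])⟩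
  · obtain ⟨h1, h2, h3'⟩ := key17 X
    have h4 := cent_eq (X : Subgroup G) h1 h2
    exact ⟨h4, quot (X : Subgroup G) h1 h4 8 (by rw [h3'])⟩

end Cfsg.Agent.Lib.J3Syl
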