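import Mathlib
import Cfsg.Agent.Lib.J3PDef
import Cfsg.Agent.Lib.J3PE0
import Cfsg.Agent.Lib.J3PE3
import Cfsg.Agent.Lib.J3PDa
import Cfsg.Agent.Lib.J3PC2
import Cfsg.Agent.Lib.J3Syl2

/-!
# Local data for the Sylow 17- and 19-subgroups of a group of `J₃`-type (helper54)
-/

set_option autoImplicit false
set_option linter.all false

namespace Cfsg.Agent.Lib.J3Syl

open Cfsg Subgroup Cfsg.Agent.Lib.LargeExtra Cfsg.Agent.Lib.JTw Cfsg.Agent.Lib.JTw.Setup Cfsg.Agent.Lib.J3P

/-- elements of order `p` are conjugate into each other's subgroups if `p²` does not divide the order -/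
theorem conj_prime {H : Type*} [Group H] [Finite H] {p : ℕ} [hp : Fact p.Prime] (hsq : ¬ p ^ 2 ∣ Nat.card H) {a b : H}
    (ha : orderOf a = p) (hb : orderOf b = p) : ∃ h : H, h * a * h⁻¹ ∈ zpowers b := by
  have hcard : ∀ P : Sylow p H, p ∣ Nat.card H → Nat.card (P : Subgroup H) = p := by
    intro P hd
    obtain ⟨n, hn⟩ := IsPGroup.iff_card.1 P.2
    have h1 : p ^ n ∣ Nat.card H := by rw [← hn]; exact Subgroup.card_subgroup_dvd_card _
    have h2 : n ≤ 1 := by
      by_contra hcon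
      exact hsq ((pow_dvd_pow p (by omega)).trans h1)
    have h3 : p ∣ Nat.card (P : Subgroup H) := P.dvd_card_of_dvd_card hd
    have hn' : Nat.card (P : Subgroup H) = p ^ n := hn
    rcases Nat.le_one_iff_eq_zero_or_eq_one.1 h2 with h4 | h4
    · rw [hn', h4, pow_zero] at h3
      exact absurd (Nat.dvd_one.1 h3) hp.out.one_lt.ne'
    · rw [hn', h4, pow_one]
  have hd : p ∣ Nat.card H := by rw [← ha]; exact orderOf_dvd_natCard a
  have hz : ∀ c : H, orderOf c = p → ∃ P : Sylow p H, (P : Subgroup H) = zpowers c := by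
    intro c hc
    have h1 : IsPGroup p (zpowers c) := IsPGroup.of_card (n := 1) (by rw [Nat.card_zpowers, hc, pow_one])
    obtain ⟨P, hP⟩ := h1.exists_le_sylow
    refine ⟨P, ?_⟩
    symm
    apply Subgroup.eq_of_le_of_card_ge hP
    rw [hcard P hd, Nat.card_zpowers, hc]
  obtain ⟨P, hP⟩ := hz a ha
  obtain ⟨P', hP'⟩ := hz b hb
  obtain ⟨h, hh⟩ := MulAction.exists_smul_eq H P P'
  refine ⟨h, ?_⟩
  rw [← hP', ← hh]
  rw [Sylow.coe_subgroup_smul, Subgroup.mem_pointwise_smul_iff_inv_smul_mem, hP]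
  have h1 : (MulAut.conj h)⁻¹ • (h * a * h⁻¹) = a := by
    rw [MulAut.smul_def, ← map_inv, MulAut.conj_apply]; group
  rw [h1]
  exact mem_zpowers a

/-- the same centralizer -/
theorem cent_eq_of_mem {H : Type*} [Group H] [Finite H] {p : ℕ} [hp : Fact p.Prime] {a b : H}
    (ha : orderOf a = p) (hb : orderOf b = p) (h : a ∈ zpowers b) :
    centralizer ({a} : Set H) = centralizer ({b} : Set H) := by
  have h1 : zpowers a = zpowers b := by
    apply Subgroup.eq_of_le_of_card_ge (zpowers_le.2 h)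
    rw [Nat.card_zpowers, Nat.card_zpowers, ha, hb]
  rw [← centralizer_closure, ← zpowers_eq_closure, h1, zpowers_eq_closure, centralizer_closure]

theorem card_cent_conj {H : Type*} [Group H] [Finite H] (g a : H) :
    Nat.card (centralizer ({g * a * g⁻¹} : Set H)) = Nat.card (centralizer ({a} : Set H)) := by
  letI := Fintype.ofFinite H
  exact A7Table.card_cent_conj (isConj_iff.2 ⟨g⁻¹, by group⟩)

variable {G : Type*} [Group G] [Finite G]

theorem order_conj (g a : G) : orderOf (g * a * g⁻¹) = orderOf a := by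
  have := MulEquiv.orderOf_eq (MulAut.conj g) a
  rwa [MulAut.conj_apply] at this

theorem five_cent {x y j i : G} (h : Five G x y j i) (hsq : ¬ 5 ^ 2 ∣ Nat.card G) {u : G} (hu : orderOf u = 5) :
    Nat.card (centralizer ({u} : Set G)) ∣ 60 := by
  haveI : Fact (Nat.Prime 5) := ⟨by norm_num⟩
  obtain ⟨g, hg⟩ := conj_prime hsq hu h.hx
  rw [← card_cent_conj g u, cent_eq_of_mem (p := 5) ((order_conj g u).trans hu) h.hx hg, ← h.card]
  apply Subgroup.card_dvd_of_le
  intro w hw
  rw [mem_centralizer_singleton_iff] at hw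
  rw [mem_normalizer_iff]
  intro v
  constructor
  · intro hv
    obtain ⟨k, rfl⟩ := mem_zpowers_iff.1 hv
    have h1 : w * x ^ k * w⁻¹ = x ^ k := by
      rw [((show Commute w x from hw).zpow_right k).eq]; group
    rw [h1]
    exact hv
  · intro hv
    obtain ⟨k, hk⟩ := mem_zpowers_iff.1 hv
    have h1 : v = x ^ k := by
      have h2 : v = w⁻¹ * (w * v * w⁻¹) * w := by group
      rw [h2, ← hk]
      have h3 : w⁻¹ * x ^ k = x ^ k * w⁻¹ := ((show Commute w x from hw).zpow_right k).inv_left.eq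
      rw [h3]; group
    rw [h1]
    exact mem_zpowers_iff.2 ⟨k, rfl⟩

theorem inv_cent (S : Setup G) (h1 : One S) {s : G} (hs : orderOf s = 2) : Nat.card (centralizer ({s} : Set G)) = 1920 := by
  have hZ : S.Z s := by
    refine h1 s ?_ ?_
    · rw [← pow_two, ← hs, pow_orderOf_eq_one]
    · intro h'; rw [h', orderOf_one] at hs; omega
  exact hZ.base.card_cent

theorem three_cent (S : Setup G) (h1 : One S) {x y j i : G} (h : Five G x y j i) {q s : G} (hq : orderOf q = 3)
    (hs : orderOf s = 2) (hqs : q * s = s * q) : Nat.card (centralizer ({q} : Set G)) = 1080 := by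
  haveI : Fact (Nat.Prime 3) := ⟨by norm_num⟩
  have hZ : ∀ a : G, orderOf a = 2 → S.Z a := by
    intro a ha
    refine h1 a ?_ ?_
    · rw [← pow_two, ← ha, pow_orderOf_eq_one]
    · intro h'; rw [h', orderOf_one] at ha; omega
  -- the centralizer of `y`
  have hn : ((Subgroup.zpowers y).subgroupOf (Subgroup.centralizer ({y} : Set G))).Normal := by
    refine ⟨fun a ha g => ?_⟩
    rw [Subgroup.mem_subgroupOf] at ha ⊢
    have h2 : (g : G) * (a : G) * (g : G)⁻¹ = (a : G) := by
      obtain ⟨k, hk⟩ := Subgroup.mem_zpowers_iff.1 ha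
      rw [← hk]
      have h3 : Commute (g : G) y := (mem_centralizer_singleton_iff.1 g.2)
      rw [(h3.zpow_right k).eq]; group
    simpa [h2] using ha
  obtain ⟨e⟩ := quot_a6_of S h1 h.hx h.hy h.hi h.xy h.iy (fun hs' hsy' hsC => cent_dih S hs' h.hy hsy' hsC)
  obtain ⟨c1, -, -, -⟩ := six_facts h.hy e h.hx h.xy
  -- conjugate `s` to `i`
  obtain ⟨g, hg⟩ := isConj_iff.1 ((hZ s hs).symm.trans (hZ i h.hi))
  have hcomm : (g * q * g⁻¹) * i = i * (g * q * g⁻¹) := by
    rw [← hg]
    calc g * q * g⁻¹ * (g * s * g⁻¹) = g * (q * s) * g⁻¹ := by group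
      _ = g * (s * q) * g⁻¹ := by rw [hqs]
      _ = g * s * g⁻¹ * (g * q * g⁻¹) := by group
  set H := centralizer ({i} : Set G) with hH
  have hH1 : Nat.card H = 1920 := inv_cent S h1 h.hi
  have hq' : g * q * g⁻¹ ∈ H := by rw [hH, mem_centralizer_singleton_iff]; exact hcomm
  have hy' : y ∈ H := by rw [hH, mem_centralizer_singleton_iff]; exact h.iy.symm
  have hoq : orderOf (⟨g * q * g⁻¹, hq'⟩ : H) = 3 := by
    rw [← Subgroup.orderOf_coe]; exact (order_conj g q).trans hq
  have hoy : orderOf (⟨y, hy'⟩ : H) = 3 := by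
    rw [← Subgroup.orderOf_coe]; exact h.hy
  obtain ⟨w, hw⟩ := conj_prime (p := 3) (by rw [hH1]; norm_num) hoq hoy
  obtain ⟨k, hk⟩ := mem_zpowers_iff.1 hw
  have h2 : (w : G) * (g * q * g⁻¹) * (w : G)⁻¹ ∈ zpowers y :=
    mem_zpowers_iff.2 ⟨k, congrArg Subtype.val hk⟩
  rw [← card_cent_conj g q, ← card_cent_conj (w : G) (g * q * g⁻¹),
    cent_eq_of_mem (p := 3) ((order_conj _ _).trans ((order_conj g q).trans hq)) h.hy h2]
  exact c1

end Cfsg.Agent.Lib.J3Syl
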