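import Cfsg.Agent.Lib.J4Gen

/-!
# The enumeration for the action on cosets
-/

set_option autoImplicit false
set_option linter.all false
set_option maxRecDepth 100000

namespace Cfsg.Agent.Lib.J4E

section act
variable {Γ : Type*} [Group Γ] (ψ : Pg →* Γ) (τ : Γ) (K : Subgroup Γ)

/-- the action of `P` on cosets -/
def AK : Pg →* Equiv.Perm (Γ ⧸ K) := (MulAction.toPermHom Γ (Γ ⧸ K)).comp ψ
/-- the action of `τ` on cosets -/
def TK : Equiv.Perm (Γ ⧸ K) := MulAction.toPermHom Γ (Γ ⧸ K) τ

/-- element of a list -/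
noncomputable def opG (xs : ℕ → Pg) : List (ℕ × ℕ) → Γ
  | [] => 1
  | v :: vs => opG xs vs * (ψ (evw xs 24 v.1) * τ)

theorem Op_eq (xs : ℕ → Pg) (vs : List (ℕ × ℕ)) : Op xs (AK ψ K) (TK τ K) vs = MulAction.toPermHom Γ (Γ ⧸ K) (opG ψ τ xs vs) := by
  induction vs with
  | nil => rw [Op, opG, map_one]
  | cons v vs ih => rw [Op, ih, opG, map_mul, map_mul]; rfl

theorem Op_one (xs : ℕ → Pg) {vs : List (ℕ × ℕ)} (h : opG ψ τ xs vs = 1) : Op xs (AK ψ K) (TK τ K) vs = 1 := by
  rw [Op_eq, h, map_one]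

theorem TK_sq (h : τ * τ = 1) : TK τ K * TK τ K = 1 := by
  show MulAction.toPermHom Γ (Γ ⧸ K) τ * MulAction.toPermHom Γ (Γ ⧸ K) τ = 1
  rw [← map_mul, h, map_one]

theorem TK_comm {g : Pg} (h : τ * ψ g = ψ g * τ) : TK τ K * AK ψ K g = AK ψ K g * TK τ K := by
  show MulAction.toPermHom Γ (Γ ⧸ K) τ * MulAction.toPermHom Γ (Γ ⧸ K) (ψ g) = MulAction.toPermHom Γ (Γ ⧸ K) (ψ g) * MulAction.toPermHom Γ (Γ ⧸ K) τ
  rw [← map_mul, h, map_mul]

theorem perm_y0 (g : Γ) : MulAction.toPermHom Γ (Γ ⧸ K) g ((1 : Γ) : Γ ⧸ K) = ((g : Γ) : Γ ⧸ K) := by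
  show g • ((1 : Γ) : Γ ⧸ K) = _
  rw [← QuotientGroup.mk_mul_of_mem g K.one_mem]
  show ((g * 1 : Γ) : Γ ⧸ K) = _
  rfl

theorem AK_y0 (hK : ∀ p, ψ p ∈ K) (p : Pg) : AK ψ K p ((1 : Γ) : Γ ⧸ K) = ((1 : Γ) : Γ ⧸ K) := by
  show MulAction.toPermHom Γ (Γ ⧸ K) (ψ p) ((1 : Γ) : Γ ⧸ K) = _
  rw [perm_y0, QuotientGroup.eq, mul_one]
  exact K.inv_mem (hK p)

theorem mem_of_fix {g : Γ} (h : MulAction.toPermHom Γ (Γ ⧸ K) g ((1 : Γ) : Γ ⧸ K) = ((1 : Γ) : Γ ⧸ K)) : g ∈ K := by
  rw [perm_y0, QuotientGroup.eq, mul_one] at h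
  exact (K.inv_mem_iff).mp h

theorem act_trans (hτ : τ * τ = 1) (hgen : Subgroup.closure (Set.range ψ ∪ {τ}) = ⊤) (S : Set (Γ ⧸ K)) (h0 : ((1 : Γ) : Γ ⧸ K) ∈ S)
    (hA : ∀ p, ∀ y ∈ S, AK ψ K p y ∈ S) (hT : ∀ y ∈ S, TK τ K y ∈ S) : ∀ y, y ∈ S := by
  let M : Subgroup Γ :=
    { carrier := {g | ∀ y, y ∈ S ↔ MulAction.toPermHom Γ (Γ ⧸ K) g y ∈ S}
      one_mem' := by intro y; simp
      mul_mem' := by
        intro a b ha hb y
        rw [map_mul, Equiv.Perm.mul_apply, ← ha, ← hb]
      inv_mem' := by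
        intro a ha y
        rw [map_inv]
        have := ha ((MulAction.toPermHom Γ (Γ ⧸ K) a)⁻¹ y)
        rw [← Equiv.Perm.mul_apply, mul_inv_cancel, Equiv.Perm.one_apply] at this
        exact this.symm }
  have hM : M = ⊤ := by
    rw [eq_top_iff, ← hgen, Subgroup.closure_le]
    rintro g (⟨p, rfl⟩ | rfl)
    · intro y
      constructor
      · intro hy; exact hA p y hy
      · intro hy
        have h1 := hA p⁻¹ _ hy
        have h2 : AK ψ K p⁻¹ (MulAction.toPermHom Γ (Γ ⧸ K) (ψ p) y) = y := by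
          show MulAction.toPermHom Γ (Γ ⧸ K) (ψ p⁻¹) _ = y
          rw [← Equiv.Perm.mul_apply, ← map_mul, ← map_mul, inv_mul_cancel, map_one, map_one]; rfl
        rw [h2] at h1; exact h1
    · intro y
      constructor
      · intro hy; exact hT y hy
      · intro hy
        have h1 := hT _ hy
        have h2 : TK g K (MulAction.toPermHom Γ (Γ ⧸ K) g y) = y := by
          show MulAction.toPermHom Γ (Γ ⧸ K) g _ = y
          rw [← Equiv.Perm.mul_apply, ← map_mul, hτ, map_one]; rfl
        rw [h2] at h1; exact h1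
  intro y
  obtain ⟨g, rfl⟩ := QuotientGroup.mk_surjective y
  have h1 : g ∈ M := by rw [hM]; trivial
  have h2 := (h1 ((1 : Γ) : Γ ⧸ K)).mp h0
  rw [perm_y0] at h2
  exact h2

end act

/-! ### expansion of letters -/

/-- digits of a word in the order of the product -/
def dgl : ℕ → ℕ → List ℕ
  | 0, _ => []
  | n + 1, w => bif Nat.beq w 0 then [] else dgl n (w / 4096) ++ [w % 4096]

theorem evw_dgl {P : Type*} [Group P] (xs : ℕ → P) (n w : ℕ) : evw xs n w = ((dgl n w).map xs).prod := by
  induction n generalizing w with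
  | zero => rfl
  | succ n ih =>
    unfold evw dgl
    cases Nat.beq w 0 with
    | true => rfl
    | false =>
      simp only [cond_false]
      rw [ih, List.map_append, List.prod_append, List.map_cons, List.map_nil, List.prod_cons, List.prod_nil, mul_one]

/-- concatenation -/
def expls (f : ℕ → Option (List ℕ)) : List ℕ → Option (List ℕ)
  | [] => some []
  | a :: l => match f a with
    | none => none
    | some x => match expls f l with
      | none => none
      | some y => some (x ++ y)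

/-- expansion of a letter -/
def expl (WT : Tr ℕ) : ℕ → ℕ → Option (List ℕ)
  | 0, _ => none
  | n + 1, c => bif Nat.blt c 4 then some [c] else bif Nat.blt c 4096 then expls (expl WT n) (dgl 24 (WT.get c)) else none

theorem expls_spec {P : Type*} [Group P] {xs b : ℕ → P} {f : ℕ → Option (List ℕ)} (hf : ∀ c l, f c = some l → xs c = (l.map b).prod)
    (l : List ℕ) {l' : List ℕ} (h : expls f l = some l') : (l.map xs).prod = (l'.map b).prod := by
  induction l generalizing l' with
  | nil => simp only [expls, Option.some.injEq] at h; subst h; rfl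
  | cons a l ih =>
    unfold expls at h
    cases ha : f a with
    | none => rw [ha] at h; simp at h
    | some x =>
      rw [ha] at h; simp only at h
      cases hl : expls f l with
      | none => rw [hl] at h; simp at h
      | some y =>
        rw [hl] at h; simp only [Option.some.injEq] at h
        subst h
        rw [List.map_cons, List.prod_cons, ih hl, hf a x ha, List.map_append, List.prod_append]

theorem Ins.expl_spec {LT WT : Tr ℕ} {FT : Tr Fact} {nD : ℕ} (I : Ins LT WT FT nD) (n c : ℕ) {l : List ℕ} (h : expl WT n c = some l) :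
    xv bP (fun c => WT.get c) c = (l.map bP).prod := by
  induction n generalizing c l with
  | zero => simp [expl] at h
  | succ n ih =>
    unfold expl at h
    cases h4 : Nat.blt c 4 with
    | true =>
      rw [h4] at h
      simp only [cond_true, Option.some.injEq] at h
      subst h
      rw [xv_lt _ _ (Nat.blt_eq.mp h4)]
      simp
    | false =>
      rw [h4] at h
      simp only [cond_false] at h
      cases h5 : Nat.blt c 4096 with
      | false => rw [h5] at h; simp at h
      | true =>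
        rw [h5] at h
        simp only [cond_true] at h
        have hc : ¬ c < 4 := fun h' => by rw [Nat.blt_eq.mpr h'] at h4; simp at h4
        rw [xv_ge _ _ hc (I.cl c (by omega) (Nat.blt_eq.mp h5)).1, evw_dgl]
        exact expls_spec (fun c l hl => ih c hl) _ h

end Cfsg.Agent.Lib.J4E
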