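import Cfsg.Agent.Lib.J4VGlue2

/-!
The centralizer of the involution `hh` of the fourth Janko group: words and matrix computations (helper57).
-/

set_option autoImplicit false
set_option linter.all false
set_option maxRecDepth 100000
set_option Elab.async false

namespace Cfsg.Agent.Lib.J4CA

open Cfsg.Spor Cfsg.Agent.Lib.H58SM Cfsg.Agent.Lib.BenesWord Cfsg.Agent.Lib.MatF2 Cfsg.Agent.Lib.CosetGroup
open Cfsg.Agent.Lib.CoxBridge Cfsg.Agent.Lib.J4Rho Cfsg.Agent.Lib.ProjSL Cfsg.Agent.Lib.J4RhoHom Cfsg.Agent.Lib.J4Words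

/-- generators of the centralizer -/
def gw (k : ℕ) : List ℕ :=
  match k with
  | 0 => [1]
  | 1 => [0, 1, 0, 3, 0, 3, 0, 3, 0, 3, 0, 1, 0, 1, 0, 1, 0, 1, 0, 3, 0]
  | 2 => iw lw ++ [2] ++ lw
  | _ => [0] ++ lh ++ [0]

/-- the 77 vectors -/
def vtl : List ℕ := [0xfff, 0x209f7c2112a4bb, 0x44047fffff949, 0x209f7c2112aa27, 0xe4df39ffe14120, 0xe39f4dffe14360, 0x44047fffff6bb, 0x44047fffffe52, 0x209f7c2112a4c7, 0x30033fffffb09, 0xe4df39ffe149b8, 0x44076e76fd679, 0xe39f4dffe1440a, 0xe4df39ffe14755, 0xe39f4dffe14272, 0x30033fffff4fb, 0xe4df39ffe14032, 0xe7df3b188e9dfd, 0x44047fffffe5f, 0x209f7c2112a5a4, 0xc00033399c33e2, 0x30033fffffd00, 0x7404518902a17, 0xe7df3b188e9ae6, 0xe39f7ce7716c50, 0x24df0ac67d7d3d, 0x44076e76fd113, 0xe7df3b188e9d8c, 0x30033fffffd0d, 0xc00033399c3597, 0x44076e76fd8e5, 0xe39f4dffe14ae7, 0xe7df3b188e9568, 0x209f4d39828c9d, 0xc30000c663c714, 0x209f4d39828b8b, 0xc00033399c35e6, 0xc00033399c3c6c, 0x7404518902486, 0x27df082112a7e4, 0x740451890228f, 0x7407400000dbf, 0xe39f7ce77164c8,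 0x24df0ac67d73a1, 0xe39f7ce7716b4b, 0xc00002210c1bb8, 0xc30000c663c768, 0xe39f7ce7716c2c, 0x44076e76fd070, 0x209f4d3982820c, 0xc30000c663c110, 0x209f4d39828ae5, 0xc30000c663ce93, 0x27df082112a975, 0x27df082112a6fb, 0x740740000024d, 0x7407400000ca0, 0xc00002210c144a, 0x7407400000cad, 0xc00002210c1bc9, 0xc00002210c124e, 0xc00002210c1adb, 0x24df0ac67d7b48, 0xc00002210c1ad6, 0x74045189023e1, 0x24df0ac67d7a2b, 0xc00002210c1555, 0xc00002210c135c, 0x27df082112a795, 0xc00002210c1320, 0xc00002210c1dcd, 0xc00002210c1dbc, 0xc00002210c1dc0, 0xc00002210c1cae, 0xc00002210c132d, 0xc00002210c1aa7, 0xc00002210c1bc4]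

/-- the vectors -/
def vt (i : ℕ) : ℕ := vtl.getD i 0

/-- the permutations -/
def T77 : List (List ℕ) := [[0, 2, 4, 7, 1, 11, 13, 16, 6, 20, 19, 23, 26, 8, 30, 29, 3, 14, 10, 18, 34, 37, 39, 5, 41, 24, 27, 12, 36, 46, 17, 48, 31, 22, 9, 40, 50, 52, 53, 33, 54, 25, 56, 44, 58, 45, 15, 55, 32, 38, 28, 64, 21, 49, 35, 62, 65, 70, 43, 72, 59, 67, 47, 63, 68, 42, 61, 66, 51, 75, 76, 71, 60, 69, 74, 73, 57], [0, 1, 5, 8, 9, 2, 14, 12, 3, 4, 21, 24, 7, 28, 6, 16, 15, 27, 31, 19, 20, 10, 38, 23, 11, 34, 44, 17, 13, 36, 47, 18, 32, 49, 25, 35, 29, 37, 22, 39, 40, 41, 48, 46, 26, 59, 43, 30, 42, 33, 62, 51, 65, 53, 54, 58, 56, 61, 55, 45, 73, 57, 50, 75, 64, 52, 76, 67, 68, 72, 70, 71, 69, 60, 74, 63, 66], [1, 0, 4, 3, 2, 9, 15, 17, 8, 5, 22, 25, 27, 29, 16, 6, 14, 7, 33, 19, 35, 38, 10, 40, 34, 11, 45, 12, 36, 13, 30, 49, 37, 18, 24, 20, 28, 32, 21, 39, 23, 54, 57, 43, 59, 26, 46, 47, 61, 31, 63, 64, 66, 67, 41, 69, 56, 42, 72, 44, 60, 48, 75, 50, 51, 76, 52, 53, 71, 55, 70, 68, 58, 73, 74, 62, 65], [0,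 3, 6, 1, 10, 12, 2, 18, 19, 9, 4, 11, 5, 16, 31, 15, 13, 32, 7, 8, 36, 21, 22, 27, 42, 43, 26, 23, 28, 37, 30, 14, 17, 49, 50, 51, 20, 29, 38, 53, 40, 55, 24, 25, 47, 60, 52, 44, 48, 33, 34, 35, 46, 39, 68, 41, 58, 71, 56, 72, 45, 74, 65, 69, 64, 62, 67, 66, 54, 63, 76, 57, 59, 75, 61, 73, 70]]

/-- entries -/
def tp (k i : ℕ) : ℕ := (T77.getD k []).getD i 0

theorem gok : ∀ k < 4, ok (gw k) = true := by decide +kernel

/-- action check -/
def achk : Bool := (List.range 4).all fun k => frc (ev (gw k)) fun A => (List.range 77).all fun i => Nat.beq (mm (vt i) A) (vt (tp k i))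

theorem achk_ok : achk = true := by decide +kernel

/-- commuting with the involution -/
def zchk : Bool := frc (ev lh) fun z => (List.range 4).all fun k => frc (ev (gw k)) fun A => Nat.beq (mm z A) (mm A z)

theorem zchk_ok : zchk = true := by decide +kernel

theorem vt_inj : ∀ i < 77, ∀ j < 77, vt i = vt j → i = j := by decide +kernel
theorem vt_lt : ∀ i < 77, vt i < 2 ^ 112 := by decide +kernel
theorem tp_lt : ∀ k < 4, ∀ i < 77, tp k i < 77 := by decide +kernel

/-- conjugating words -/
def qcw (k : ℕ) : List ℕ :=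
  match k with
  | 0 => [0, 1, 0, 1, 0, 3, 0, 3, 0]
  | 1 => [0, 1, 0, 1, 0, 3, 0, 3, 0, 3]
  | 2 => [0, 1, 0, 1, 0, 3, 0, 3, 0, 1]
  | 3 => [0, 1, 0, 3, 0, 1, 0, 3, 0, 3, 0, 1, 0, 3, 0]
  | 4 => [0, 1, 0, 3, 0, 1, 0, 1, 0, 3, 0, 1, 0, 3, 0]
  | 5 => [0, 1, 0, 1, 0, 3, 0, 1, 0, 3, 0, 3, 0, 3, 0]
  | 6 => [0, 1, 0, 3, 0, 1, 0, 3, 0, 1, 0, 3, 2, 1, 0, 1, 0, 1, 0, 1, 0, 3, 0]
  | 7 => [0, 1, 0, 3, 0, 1, 0, 1, 0, 3, 0, 3, 2, 1, 0, 1, 0, 1, 0, 1, 0, 3, 0]
  | 8 => [0, 1, 0, 3, 0, 1, 0, 3, 0, 1, 0, 3, 2, 1, 0, 1, 0, 1, 0, 1, 0, 3, 0, 3]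
  | 9 => [0, 1, 0, 3, 0, 1, 0, 3, 0, 1, 0, 3, 2, 1, 0, 1, 0, 1, 0, 1, 0, 3, 0, 1]
  | 10 => [0, 1, 0, 3, 0, 1, 0, 1, 0, 3, 0, 3, 2, 1, 0, 1, 0, 1, 0, 1, 0, 3, 0, 3]
  | _ => [0, 1, 0, 3, 0, 1, 0, 1, 0, 3, 0, 3, 2, 1, 0, 1, 0, 1, 0, 1, 0, 3, 0, 1]

/-- generators of the extraspecial group -/
def qw (k : ℕ) : List ℕ := iw (qcw k) ++ lh ++ qcw k

/-- packed matrices -/
def qm (k : ℕ) : ℕ := ev (qw k)

theorem qok : ∀ k < 12, ok (qw k) = true := by decide +kernel

/-- commutator matrix -/
def cml : List (List Bool) := [[false, false, false, false, false, false, false, false, true, false, false, false], [false, false, false, false, false, false, false, false, false, true, false, false], [false, false, false, false, false, false, true, false, false, false, false, false], [false, false, false, false, false, false, false, false, false, true, true, true], [false, false, false, false, false, false, true, true, true, true, false, false], [false, false, false, false, false, false, true, false, false, false,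 false, true], [false, false, true, false, true, true, false, false, false, false, false, true], [false, false, false, false, true, false, false, false, true, false, false, false], [true, false, false, false, true, false, false, true, false, false, false, false], [false, true, false, true, true, false, false, false, false, false, true, false], [false, false, false, true, false, false, false, false, false, true, false, false], [false, false, false, true, false, true, true, false, false, false, false, false]]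
/-- inverse -/
def tml : List (List Bool) := [[false, true, true, false, true, false, false, true, true, false, false, false], [true, false, true, true, false, true, false, true, false, true, true, false], [true, true, false, false, false, true, true, true, false, false, true, true], [false, true, false, false, false, false, false, false, false, false, true, false], [true, false, false, false, false, false, false, true, false, false, false, false], [false, true, true, false, false, false, false, false, false, false, true, true], [false, false, true, false, false, false, false, false, false, false, false, false], [true, true, true, false, true, false, false, false, false, false, false, false], [true, false, false, false, false, false, false, false, false, false, false, false], [false, true, false, false, false, false, false, false, false, false, false, false], [false, true, true, true, false, true, false, false, false, false, false, false], [false, false, true, false, false, true, false, false, false,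 false, false, false]]
/-- entries -/
def cmx (i j : ℕ) : Bool := (cml.getD i []).getD j false
/-- entries -/
def tmx (i j : ℕ) : Bool := (tml.getD i []).getD j false

/-- commutators -/
def kchk : Bool := frc (ev lh) fun z => (List.range 12).all fun i => frc (qm i) fun a => (List.range 12).all fun j => frc (qm j) fun b =>
  frc (mm b a) fun m => Nat.beq (mm a b) (cond (cmx i j) (mm z m) m)

theorem kchk_ok : kchk = true := by decide +kernel

/-- commuting with the involution, and squares -/
def kchk2 : Bool := frc (ev lh) fun z => (List.range 12).all fun i => frc (qm i) fun a => Nat.beq (mm a z) (mm z a) && Nat.beq (mm a a) one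

theorem kchk2_ok : kchk2 = true := by decide +kernel

/-- trivial action on the 77 vectors -/
def kchk3 : Bool := (List.range 12).all fun i => frc (qm i) fun a => (List.range 77).all fun j => Nat.beq (mm (vt j) a) (vt j)

theorem kchk3_ok : kchk3 = true := by decide +kernel

/-- the element of order 3 -/
def rw0 : List ℕ := [1, 0, 3, 0, 3, 0, 3, 0, 1, 0, 1, 0, 3, 0, 3, 0, 1, 0, 1, 0, 1, 0]
/-- the element of order 3 -/
def rw3 : List ℕ := rw0 ++ rw0 ++ rw0 ++ rw0

theorem rok : ok rw3 = true := by decide +kernel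

/-- trivial action of the element of order 3 -/
def kchk4 : Bool := frc (ev rw3) fun a => frc (ev lh) fun z => Nat.beq (mm a z) (mm z a) && (Nat.beq (mm a (mm a a)) one && (List.range 77).all fun j => Nat.beq (mm (vt j) a) (vt j))

theorem kchk4_ok : kchk4 = true := by decide +kernel

theorem r_ne : pr rw3 ≠ pr [] := pr_ne rok (by decide +kernel) 0 0 (by norm_num) (by norm_num) (by decide +kernel)

/-- conjugates of the generators of the extraspecial group -/
def cq0 (k : ℕ) : List ℕ × Bool :=
  match k with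
  | 0 => ([2], false)
  | 1 => ([0], false)
  | 2 => ([1], false)
  | 3 => ([3, 4, 5], true)
  | 4 => ([0, 1, 5], true)
  | 5 => ([2, 3, 5], true)
  | 6 => ([9], false)
  | 7 => ([11], false)
  | 8 => ([6], false)
  | 9 => ([8], false)
  | 10 => ([7], false)
  | _ => ([10], false)

/-- conjugates of the generators of the extraspecial group -/
def cq1 (k : ℕ) : List ℕ × Bool :=
  match k with
  | 0 => ([0, 2, 5], false)
  | 1 => ([1, 2, 5], false)
  | 2 => ([0, 1, 2, 3], true)
  | 3 => ([3], false)
  | 4 => ([3, 4], false)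
  | 5 => ([0, 1, 3, 5], true)
  | 6 => ([2, 5, 6], false)
  | 7 => ([7], false)
  | 8 => ([0, 2, 3, 5, 6, 7, 8], false)
  | 9 => ([7, 9], false)
  | 10 => ([0, 6, 10], false)
  | _ => ([2, 4, 5, 6, 8, 9, 10, 11], false)

/-- conjugates of the generators of the extraspecial group -/
def cq2 (k : ℕ) : List ℕ × Bool :=
  match k with
  | 0 => ([0], false)
  | 1 => ([0, 7], true)
  | 2 => ([1, 10], true)
  | 3 => ([0, 2, 5, 6, 7], false)
  | 4 => ([1, 7, 9, 10], false)
  | 5 => ([1, 2, 5, 10], true)
  | 6 => ([1, 2, 3, 5], true)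
  | 7 => ([0, 1], true)
  | 8 => ([8], false)
  | 9 => ([0, 1, 2, 4], true)
  | 10 => ([0, 2, 7], false)
  | _ => ([1, 2, 10, 11], true)

/-- conjugates of the generators of the extraspecial group -/
def cq3 (k : ℕ) : List ℕ × Bool :=
  match k with
  | 0 => ([0], false)
  | 1 => ([1], false)
  | 2 => ([2], false)
  | 3 => ([3], false)
  | 4 => ([4], false)
  | 5 => ([5], false)
  | 6 => ([1, 4, 5, 6], false)
  | 7 => ([5, 7], false)
  | 8 => ([1, 2, 8], false)
  | 9 => ([0, 1, 3, 9], false)
  | 10 => ([1, 2, 5, 10], true)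
  | _ => ([0, 1, 2, 3, 4, 5, 11], false)

/-- conjugates of the generators of the extraspecial group -/
def cq4 (k : ℕ) : List ℕ × Bool :=
  match k with
  | 0 => ([2, 5], true)
  | 1 => ([0, 1, 2, 4], true)
  | 2 => ([1, 2, 3, 5], true)
  | 3 => ([3, 4], true)
  | 4 => ([3], true)
  | 5 => ([0, 1, 3], false)
  | 6 => ([1, 6, 10], false)
  | 7 => ([2, 5, 9], false)
  | 8 => ([2, 8, 11], false)
  | 9 => ([0, 7, 9], true)
  | 10 => ([0, 1, 2, 4, 6], false)
  | _ => ([1, 2, 3, 5, 8], true)

/-- conjugation tables -/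
def cq (g k : ℕ) : List ℕ × Bool :=
  match g with
  | 0 => cq0 k
  | 1 => cq1 k
  | 2 => cq2 k
  | 3 => cq3 k
  | _ => cq4 k

/-- the normalizing elements -/
def gw5 (g : ℕ) : List ℕ :=
  match g with
  | 4 => rw3
  | g => gw g

/-- product of several generators -/
def qpm : List ℕ → ℕ
  | [] => one
  | k :: l => mm (qm k) (qpm l)

/-- conjugation check -/
def kchk5 : Bool := frc (ev lh) fun z => (List.range 5).all fun g => frc (ev (gw5 g)) fun A => (List.range 12).all fun k =>
  frc (qpm (cq g k).1) fun m => Nat.beq (mm (qm k) A) (mm A (cond (cq g k).2 (mm z m) m))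

theorem kchk5_ok : kchk5 = true := by decide +kernel

theorem gok5 : ∀ g < 5, ok (gw5 g) = true := by decide +kernel

theorem cq_lt : ∀ g < 5, ∀ k < 12, ∀ j ∈ (cq g k).1, j < 12 := by decide +kernel

end Cfsg.Agent.Lib.J4CA

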