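import Cfsg.Agent.Lib.J4CE
import Cfsg.Agent.Lib.J4CD

/-!
Masks for the elementary abelian group of order `2^11` and the orbit of `hh` under the Mathieu subgroup (helper57).
-/

set_option autoImplicit false
set_option linter.all false
set_option maxRecDepth 100000
set_option Elab.async false

namespace Cfsg.Agent.Lib.J4CF

open Cfsg.Spor Cfsg.Agent.Lib.H58SM Cfsg.Agent.Lib.BenesWord Cfsg.Agent.Lib.MatF2 Cfsg.Agent.Lib.CosetGroup
open Cfsg.Agent.Lib.CoxBridge Cfsg.Agent.Lib.J4Rho Cfsg.Agent.Lib.ProjSL Cfsg.Agent.Lib.J4RhoHom Cfsg.Agent.Lib.J4Words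
open Cfsg.Agent.Lib.ChainCard Cfsg.Agent.Lib.J4Main Cfsg.Agent.Lib.J4HRel Cfsg.Agent.Lib.J4VGlue Cfsg.Agent.Lib.J4CE

/-- the element of a mask -/
noncomputable def mel (m k : ℕ) : GM := ExGen.P vv (fun i => m.testBit i) k

theorem mel_succ (m k : ℕ) : mel m (k + 1) = mel m k * cond (m.testBit k) (vv k) 1 := rfl

theorem mel_mem (m : ℕ) {k : ℕ} (hk : k ≤ 11) : mel m k ∈ VG := ExGen.P_mem (q := vv) (n := 11) (fun i => m.testBit i) hk

theorem mel_xor (a b : ℕ) {k : ℕ} (hk : k ≤ 11) : mel (Nat.xor a b) k = mel a k * mel b k := by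
  induction k with
  | zero => exact (mul_one _).symm
  | succ k ih =>
    have h0 : (Nat.xor a b).testBit k = (a.testBit k ^^ b.testBit k) := Nat.testBit_xor a b k
    rw [mel_succ, mel_succ, mel_succ, h0, ih (by omega)]
    have h1 : vv k * mel b k = mel b k * vv k := VG_comm (vv_mem (by omega)) (mel_mem b (by omega))
    have h2 : vv k * vv k = 1 := J4VGlue.sq (by omega)
    cases a.testBit k <;> cases b.testBit k
    · simp
    · simp [mul_assoc]
    · simp only [Bool.xor_false, cond_true, cond_false, mul_one]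
      rw [mul_assoc, mul_assoc, h1]
    · simp only [Bool.xor_self, cond_true, cond_false, mul_one]
      calc mel a k * mel b k = mel a k * mel b k * (vv k * vv k) := by rw [h2, mul_one]
        _ = mel a k * (mel b k * vv k) * vv k := by simp only [mul_assoc]
        _ = mel a k * (vv k * mel b k) * vv k := by rw [h1]
        _ = _ := by simp only [mul_assoc]

theorem mel_zero (k : ℕ) : mel 0 k = 1 := by
  have h : mel 0 k = ExGen.P vv (fun _ => false) k := ExGen.P_congr (fun i _ => Nat.zero_testBit i)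
  rw [h, ExGen.P_false]

theorem mel_pow (k n : ℕ) : mel (2 ^ k) n = if k < n then vv k else 1 := by
  induction n with
  | zero => rfl
  | succ n ih =>
    rw [mel_succ, ih, Nat.testBit_two_pow]
    rcases Nat.lt_trichotomy k n with h | h | h
    · rw [if_pos h, if_pos (by omega), decide_eq_false (by omega)]; simp
    · subst h
      rw [if_neg (by omega), if_pos (by omega)]; simp
    · rw [if_neg (by omega), if_neg (by omega), decide_eq_false (by omega)]; simp

/-- every element has a mask -/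
theorem exists_mel {a : GM} (ha : a ∈ VG) : ∃ m < 2048, a = mel m 11 := by
  refine Subgroup.closure_induction (p := fun a _ => ∃ m < 2048, a = mel m 11) ?_ ?_ ?_ ?_ ha
  · rintro _ ⟨k, hk, rfl⟩
    refine ⟨2 ^ k, ?_, ?_⟩
    · calc 2 ^ k < 2 ^ 11 := Nat.pow_lt_pow_right (by norm_num) hk
        _ = 2048 := by norm_num
    · rw [mel_pow, if_pos hk]
  · exact ⟨0, by norm_num, (mel_zero 11).symm⟩
  · rintro _ _ _ _ ⟨m, hm, rfl⟩ ⟨m', hm', rfl⟩
    exact ⟨Nat.xor m m', Nat.xor_lt_two_pow (n := 11) hm hm', (mel_xor m m' le_rfl).symm⟩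
  · rintro a ha' ⟨m, hm, rfl⟩
    exact ⟨m, hm, inv_eq_of_mul_eq_one_left (VG_sq (mel_mem m le_rfl))⟩

/-- action on masks -/
def act (t m : ℕ) : ℕ :=
  Nat.rec 0 (fun k acc => Nat.xor acc (Nat.mul (gt t 11 2047 k) (Nat.land (Nat.shiftRight m k) 1))) 11

/-- masks of lists -/
def mo : List ℕ → ℕ
  | [] => 0
  | k :: l => Nat.xor (2 ^ k) (mo l)

theorem mo_spec (l : List ℕ) (hl : ∀ k ∈ l, k < 11) : mel (mo l) 11 = (l.map fun k => pr (vw k)).prod := by
  induction l with
  | nil => exact mel_zero 11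
  | cons k l ih =>
    rw [List.map_cons, List.prod_cons, ← ih (fun d hd => hl d (List.mem_cons_of_mem _ hd))]
    show mel (Nat.xor (2 ^ k) (mo l)) 11 = _
    rw [mel_xor _ _ le_rfl, mel_pow, if_pos (hl k List.mem_cons_self)]
    rfl

/-- table for x -/
def TX : ℕ := 0x1500400404004000400404004000802
/-- table for y -/
def TY : ℕ := 0x1ab20010c0202005b04000402002001

theorem bit1 (m k : ℕ) : Nat.land (Nat.shiftRight m k) 1 = (m.testBit k).toNat := by
  have h : (m >>> k) &&& 1 = (m.testBit k).toNat := by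
    rw [Nat.and_one_is_mod, Nat.toNat_testBit, Nat.shiftRight_eq_div_pow]
  exact h

theorem act_spec {c : ℕ} {t : ℕ} (h : ∀ k < 11, (x c)⁻¹ * vv k * x c = mel (gt t 11 2047 k) 11) (m : ℕ) :
    (x c)⁻¹ * mel m 11 * x c = mel (act t m) 11 := by
  have key : ∀ n ≤ 11, (x c)⁻¹ * mel m n * x c = mel (Nat.rec 0 (fun k acc => Nat.xor acc (Nat.mul (gt t 11 2047 k) (Nat.land (Nat.shiftRight m k) 1))) n) 11 := by
    intro n
    induction n with
    | zero =>
      intro _
      show (x c)⁻¹ * 1 * x c = mel 0 11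
      rw [mel_zero]; group
    | succ n ih =>
      intro hn
      have e1 : mel (Nat.rec 0 (fun k acc => Nat.xor acc (Nat.mul (gt t 11 2047 k) (Nat.land (Nat.shiftRight m k) 1))) (n + 1)) 11 =
        mel (Nat.xor (Nat.rec 0 (fun k acc => Nat.xor acc (Nat.mul (gt t 11 2047 k) (Nat.land (Nat.shiftRight m k) 1))) n)
          (Nat.mul (gt t 11 2047 n) (Nat.land (Nat.shiftRight m n) 1))) 11 := rfl
      rw [e1, mel_xor _ _ le_rfl, ← ih (by omega), mel_succ, bit1]
      cases m.testBit n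
      · have e2 : Nat.mul (gt t 11 2047 n) (false.toNat) = 0 := Nat.mul_zero _
        rw [e2, mel_zero]
        simp
      · have e2 : Nat.mul (gt t 11 2047 n) (true.toNat) = gt t 11 2047 n := Nat.mul_one _
        rw [e2, ← h n (by omega)]
        simp only [cond_true]
        group
  exact key 11 le_rfl

theorem tab_of {c : ℕ} (hc : c < 4) {t : ℕ → List ℕ} {T : ℕ} (ht : ∀ k < 11, ∀ j ∈ t k, j < 11) (h : gchk c t = true)
    (hT : ∀ k < 11, gt T 11 2047 k = mo (t k)) : ∀ k < 11, (x c)⁻¹ * vv k * x c = mel (gt T 11 2047 k) 11 := by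
  intro k hk
  have h1 := List.all_eq_true.1 h k (List.mem_range.2 hk)
  have h2 : vv k * x c = x c * ((t k).map fun k => pr (vw k)).prod := by
    apply Units.ext
    rw [Units.val_mul, Units.val_mul, vv_val hk, pm_spec _ (ht k hk), x_val c hc]
    show Mt 112 (vm k) * Mt 112 (TB c) = Mt 112 (TB c) * Mt 112 (pm (t k))
    rw [← mm_spec, ← mm_spec, Nat.eq_of_beq_eq_true h1]
  rw [mul_assoc, h2, inv_mul_cancel_left, hT k hk, mo_spec _ (ht k hk)]

theorem actX (m : ℕ) : (x 0)⁻¹ * mel m 11 * x 0 = mel (act TX m) 11 :=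
  act_spec (tab_of (by norm_num) tx_lt gx (by decide +kernel)) m
theorem actY (m : ℕ) : (x 1)⁻¹ * mel m 11 * x 1 = mel (act TY m) 11 :=
  act_spec (tab_of (by norm_num) ty_lt gy (by decide +kernel)) m

/-- walk -/
def walk (n : ℕ) : ℕ → ℕ → ℕ → ℕ :=
  Nat.rec (fun _ _ s => s) (fun _ r W m s => frc (act (cond (Nat.beq (Nat.land W 1) 1) TY TX) m) fun m' => frc (Nat.lor s (Nat.shiftLeft 1 m')) fun s' =>
    frc (Nat.shiftRight W 1) fun W' => r W' m' s') n

/-- masks of conjugates of `hh` -/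
def Rch (m : ℕ) : Prop := ∃ p ∈ PP, rho (p⁻¹ * hh * p) = mel m 11

theorem rch_x {m : ℕ} (h : Rch m) : Rch (act TX m) := by
  obtain ⟨p, hp, h⟩ := h
  refine ⟨p * X 0, PP.mul_mem hp (Subgroup.subset_closure (by simp)), ?_⟩
  rw [← actX, ← h]
  simp only [map_mul, map_inv, rho_X 0 (by norm_num), mul_inv_rev, mul_assoc]

theorem rch_y {m : ℕ} (h : Rch m) : Rch (act TY m) := by
  obtain ⟨p, hp, h⟩ := h
  refine ⟨p * X 1, PP.mul_mem hp (Subgroup.subset_closure (by simp)), ?_⟩
  rw [← actY, ← h]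
  simp only [map_mul, map_inv, rho_X 1 (by norm_num), mul_inv_rev, mul_assoc]

theorem walk_spec (n : ℕ) : ∀ (W m s : ℕ), Rch m → (∀ i, s.testBit i = true → Rch i) → ∀ i, (walk n W m s).testBit i = true → Rch i := by
  induction n with
  | zero => intro W m s _ hs i hi; exact hs i hi
  | succ n ih =>
    intro W m s hm hs i hi
    have e : walk (n + 1) W m s = frc (act (cond (Nat.beq (Nat.land W 1) 1) TY TX) m) fun m' => frc (Nat.lor s (Nat.shiftLeft 1 m')) fun s' =>
      frc (Nat.shiftRight W 1) fun W' => walk n W' m' s' := rfl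
    rw [e, frc_eq, frc_eq, frc_eq] at hi
    have hm' : Rch (act (cond (Nat.beq (Nat.land W 1) 1) TY TX) m) := by
      cases Nat.beq (Nat.land W 1) 1
      · exact rch_x hm
      · exact rch_y hm
    refine ih _ _ _ hm' ?_ i hi
    intro j hj
    have h1 : (s ||| (1 <<< (act (cond (Nat.beq (Nat.land W 1) 1) TY TX) m))).testBit j = true := hj
    rw [Nat.testBit_or, Bool.or_eq_true] at h1
    rcases h1 with h1 | h1
    · exact hs j h1
    · rw [Nat.one_shiftLeft, Nat.testBit_two_pow] at h1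
      rw [← of_decide_eq_true h1]
      exact hm'

/-- count bits -/
def cnt (s n : ℕ) : ℕ → ℕ := Nat.rec (fun acc => acc) (fun i r acc => frc (Nat.add acc (Nat.land (Nat.shiftRight s i) 1)) r) n

theorem cnt_spec (s n : ℕ) : ∀ acc, cnt s n acc = acc + ((Finset.range n).filter fun i => s.testBit i = true).card := by
  induction n with
  | zero => intro acc; rfl
  | succ n ih =>
    intro acc
    have e : cnt s (n + 1) acc = frc (Nat.add acc (Nat.land (Nat.shiftRight s n) 1)) (cnt s n) := rfl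
    rw [e, frc_eq, ih, bit1, Finset.range_add_one, Finset.filter_insert]
    show acc + _ + _ = _
    cases h : s.testBit n
    · simp
    · rw [if_pos rfl, Finset.card_insert_of_notMem (by simp)]
      simp only [Bool.toNat_true]
      omega

/-- the walk -/
def WW0 : ℕ := 0x2adadb6a56d556eadb5d5ab55b6b75b2adb555d6aa52b25ad55b56d2adb696f6a9554aaded554ab6dbb56d5a56db6a6db6ad556cd9b5b5ab692b6a94ab2b55b4a5595aaad4ad9acd5b6dabd66cda52d5a5aaada9aa95b59b6d4955aab554a955564aa555534aab4a5b5a54aaa956d4aa4a94aaa9554a95554a952aa92a5525552a954aaaab56cdaa52aaaa56d55292a956555294aa54b5552a559555552aa9552a555554d5549552d2a554aaaaea96d5294aa955aaa954a55555555552aaaa554aa92a5552ab54aa5552a92a52a94aaa94aaaa554aa94a9552adacaa954aaa955b555552aaa52a5555aa552aa5534aaaaaab5552a5655aaaaaaaa952aaa54955552aaa94aaaaad4aaaaaa55aaaa55555554b555552aaa5a52aaaaab5554aaaaaaaaa954aa955555556aa556aaaaaad2aad5aaaaa955aaaaaaaa5555555aaa54aaaaaaa57555555552aaaaaaaaaa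

/-- the visited masks -/
def SS : ℕ := walk 2666 WW0 1 2

theorem SS_cnt : Nat.beq (frc SS fun s => cnt s 2048 0) 1771 = true := by decide +kernel

theorem rch1 : Rch 1 := by
  refine ⟨1, PP.one_mem, ?_⟩
  have h1 : vv 0 = pr lh := by
    show pr (iw [] ++ lh ++ []) = pr lh
    rw [List.append_nil]
    rfl
  have h2 : mel 1 11 = vv 0 := by
    have := mel_pow 0 11
    rw [pow_zero, if_pos (by norm_num)] at this
    exact this
  rw [h2, h1, inv_one, one_mul, mul_one, rho_hh]

theorem rch_all : ∀ i, SS.testBit i = true → Rch i := by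
  apply walk_spec _ _ _ _ rch1
  intro i hi
  have h1 : (2 ^ 1 : ℕ).testBit i = true := hi
  rw [Nat.testBit_two_pow] at h1
  rw [← of_decide_eq_true h1]
  exact rch1

theorem SS_card : ((Finset.range 2048).filter fun i => SS.testBit i = true).card = 1771 := by
  have h1 := Nat.eq_of_beq_eq_true SS_cnt
  rw [frc_eq, cnt_spec, Nat.zero_add] at h1
  exact h1

section card

variable (D : J4Main.Hyp) (hD : D.V = VV)
include D hD

theorem card_VV : Nat.card VV = 2 ^ 11 := by rw [← hD]; exact D.card_V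

theorem mel_inj : ∀ a < 2048, ∀ b < 2048, mel a 11 = mel b 11 → a = b := by
  let F : Fin 2048 → VG := fun m => ⟨mel m 11, mel_mem _ le_rfl⟩
  have h1 : Function.Surjective F := by
    rintro ⟨a, ha⟩
    obtain ⟨m, hm, rfl⟩ := exists_mel ha
    exact ⟨⟨m, hm⟩, rfl⟩
  haveI : Finite VG := Finite.of_surjective F h1
  let E : VV → VG := fun v => ⟨rho v.1, rho_VV v.1 v.2⟩
  have h2 : Function.Injective E := fun a b h => Subtype.ext (D.inj (congrArg Subtype.val h))
  have h3 := Nat.card_le_card_of_injective E h2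
  rw [card_VV D hD] at h3
  have h4 : Function.Bijective F := by
    rw [Nat.bijective_iff_surjective_and_card]
    refine ⟨h1, ?_⟩
    have h5 := Nat.card_le_card_of_surjective F h1
    rw [Nat.card_fin] at h5 ⊢
    omega
  intro a ha b hb h
  have h5 : F ⟨a, ha⟩ = F ⟨b, hb⟩ := Subtype.ext h
  exact congrArg Fin.val (h4.1 h5)

/-- the orbit is large -/
theorem orb_ge : 1771 ≤ {w : J4 | ∃ p ∈ PP, w = p⁻¹ * hh * p}.ncard := by
  classical
  haveI := D.finite
  rw [Set.ncard_eq_toFinset_card _ (Set.toFinite {w : J4 | ∃ p ∈ PP, w = p⁻¹ * hh * p}), ← SS_card]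
  let g : ℕ → J4 := fun i => if h : SS.testBit i = true then (rch_all i h).choose⁻¹ * hh * (rch_all i h).choose else 1
  have hg : ∀ i, SS.testBit i = true → g i ∈ {w : J4 | ∃ p ∈ PP, w = p⁻¹ * hh * p} ∧ rho (g i) = mel i 11 := by
    intro i h
    have e : g i = (rch_all i h).choose⁻¹ * hh * (rch_all i h).choose := dif_pos h
    rw [e]
    exact ⟨⟨_, (rch_all i h).choose_spec.1, rfl⟩, (rch_all i h).choose_spec.2⟩
  apply Finset.card_le_card_of_injOn g
  · intro i hi
    have h1 := (Finset.mem_filter.1 (Finset.mem_coe.1 hi)).2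
    exact Finset.mem_coe.2 ((Set.Finite.mem_toFinset _).2 (hg i h1).1)
  · intro i hi j hj h
    have h1 := Finset.mem_filter.1 (Finset.mem_coe.1 hi)
    have h2 := Finset.mem_filter.1 (Finset.mem_coe.1 hj)
    apply mel_inj D hD i (Finset.mem_range.1 h1.1) j (Finset.mem_range.1 h2.1)
    rw [← (hg i h1.2).2, ← (hg j h2.2).2, h]

theorem cPP : Nat.card (PP ⊓ Subgroup.centralizer ({hh} : Set J4) : Subgroup J4) ≤ 138240 := by
  haveI := D.finite
  have h1 : Nat.card (PP ⊓ Subgroup.centralizer ({hh} : Set J4) : Subgroup J4) * {w : J4 | ∃ p ∈ PP, w = p⁻¹ * hh * p}.ncard ≤ Nat.card PP := by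
    apply J4CD.fib_ge (fun p : PP => p.1⁻¹ * hh * p.1) _ _ (Set.toFinite _)
    · intro p
      exact ⟨p.1, p.2, rfl⟩
    · rintro w ⟨p, hp, rfl⟩
      let F : (PP ⊓ Subgroup.centralizer ({hh} : Set J4) : Subgroup J4) → {a : PP // a.1⁻¹ * hh * a.1 = p⁻¹ * hh * p} := fun c =>
        ⟨⟨c.1 * p, PP.mul_mem c.2.1 hp⟩, by
          have h2 : c.1 * hh = hh * c.1 := J4Abs.com.1 c.2.2
          show (c.1 * p)⁻¹ * hh * (c.1 * p) = _
          calc (c.1 * p)⁻¹ * hh * (c.1 * p) = p⁻¹ * c.1⁻¹ * (hh * c.1) * p := by group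
            _ = p⁻¹ * c.1⁻¹ * (c.1 * hh) * p := by rw [h2]
            _ = _ := by group⟩
      apply Nat.card_le_card_of_injective F
      intro a b h
      have h2 : a.1 * p = b.1 * p := congrArg (fun x : {a : PP // a.1⁻¹ * hh * a.1 = p⁻¹ * hh * p} => x.1.1) h
      exact Subtype.ext (mul_right_cancel h2)
  rw [D.card_PP] at h1
  have h2 := orb_ge D hD
  have h3 : Nat.card (PP ⊓ Subgroup.centralizer ({hh} : Set J4) : Subgroup J4) * 1771 ≤ 244823040 := (Nat.mul_le_mul_left _ h2).trans h1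
  omega

omit D hD in
theorem KK_norm : KK ≤ Subgroup.normalizer (VV : Set J4) := by
  rw [KK, Subgroup.closure_le]
  rintro w hw
  rcases hw with rfl | rfl | rfl
  · exact norm_VV (Subgroup.subset_closure (by simp))
  · exact norm_VV (Subgroup.subset_closure (by simp))
  · exact Subgroup.le_normalizer hh_mem

omit D hD in
theorem KK_dec {k : J4} (hk : k ∈ KK) : ∃ v ∈ VV, ∃ p ∈ PP, k = v * p := by
  have hn : ∀ p ∈ PP, ∀ v ∈ VV, p * v * p⁻¹ ∈ VV := fun p hp v hv => (Subgroup.mem_normalizer_iff.1 (norm_VV hp) v).1 hv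
  refine Subgroup.closure_induction (p := fun k _ => ∃ v ∈ VV, ∃ p ∈ PP, k = v * p) ?_ ?_ ?_ ?_ hk
  · rintro w (rfl | rfl | rfl)
    · exact ⟨1, VV.one_mem, _, Subgroup.subset_closure (by simp), (one_mul _).symm⟩
    · exact ⟨1, VV.one_mem, _, Subgroup.subset_closure (by simp), (one_mul _).symm⟩
    · exact ⟨_, hh_mem, 1, PP.one_mem, (mul_one _).symm⟩
  · exact ⟨1, VV.one_mem, 1, PP.one_mem, (mul_one _).symm⟩
  · rintro _ _ _ _ ⟨v, hv, p, hp, rfl⟩ ⟨v', hv', p', hp', rfl⟩
    exact ⟨v * (p * v' * p⁻¹), VV.mul_mem hv (hn p hp v' hv'), p * p', PP.mul_mem hp hp', by group⟩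
  · rintro _ _ ⟨v, hv, p, hp, rfl⟩
    refine ⟨p⁻¹ * v⁻¹ * p⁻¹⁻¹, hn _ (PP.inv_mem hp) _ (VV.inv_mem hv), p⁻¹, PP.inv_mem hp, by group⟩

theorem VV_comm {a b : J4} (ha : a ∈ VV) (hb : b ∈ VV) : a * b = b * a := by
  apply D.inj
  rw [map_mul, map_mul]
  exact VG_comm (rho_VV a ha) (rho_VV b hb)

theorem cKK : Nat.card (KK ⊓ Subgroup.centralizer ({hh} : Set J4) : Subgroup J4) ≤ 2048 * 138240 := by
  haveI := D.finite
  let F : VV × (PP ⊓ Subgroup.centralizer ({hh} : Set J4) : Subgroup J4) → J4 := fun a => a.1.1 * a.2.1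
  have h1 : ((KK ⊓ Subgroup.centralizer ({hh} : Set J4) : Subgroup J4) : Set J4) ⊆ Set.range F := by
    rintro k ⟨hk, hc⟩
    obtain ⟨v, hv, p, hp, rfl⟩ := KK_dec hk
    have h2 : v * p * hh = hh * (v * p) := J4Abs.com.1 hc
    have h3 : v * hh = hh * v := VV_comm D hD hv hh_mem
    refine ⟨(⟨v, hv⟩, ⟨p, hp, J4Abs.com.2 ?_⟩), rfl⟩
    have h4 : v * (p * hh) = v * (hh * p) := by
      rw [← mul_assoc, h2, ← mul_assoc, ← h3, mul_assoc]
    exact mul_left_cancel h4
  have h2 : Nat.card (KK ⊓ Subgroup.centralizer ({hh} : Set J4) : Subgroup J4) ≤ (Set.range F).ncard := by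
    have := Set.ncard_le_ncard h1 (Set.toFinite _)
    exact this
  refine h2.trans ?_
  have h3 : (Set.range F).ncard ≤ Nat.card (VV × (PP ⊓ Subgroup.centralizer ({hh} : Set J4) : Subgroup J4)) := by
    rw [← Set.image_univ]
    refine (Set.ncard_image_le (Set.toFinite _)).trans ?_
    rw [Set.ncard_univ]
  refine h3.trans ?_
  rw [Nat.card_prod, card_VV D hD]
  exact Nat.mul_le_mul_left _ (cPP D hD)

end card

end Cfsg.Agent.Lib.J4CF
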