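import Cfsg.Agent.Lib.J4CG

/-!
Kernel tests for the conjugates of the elementary abelian group: the representatives (helper57).
-/

set_option autoImplicit false
set_option linter.all false
set_option maxRecDepth 100000
set_option Elab.async false

namespace Cfsg.Agent.Lib.J4CH

open Cfsg.Spor Cfsg.Agent.Lib.H58SM Cfsg.Agent.Lib.BenesWord Cfsg.Agent.Lib.MatF2 Cfsg.Agent.Lib.CosetGroup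
open Cfsg.Agent.Lib.CoxBridge Cfsg.Agent.Lib.J4Rho Cfsg.Agent.Lib.ProjSL Cfsg.Agent.Lib.J4RhoHom Cfsg.Agent.Lib.J4Words
open Cfsg.Agent.Lib.ChainCard Cfsg.Agent.Lib.J4Main Cfsg.Agent.Lib.J4HRel Cfsg.Agent.Lib.J4VGlue Cfsg.Agent.Lib.J4CE Cfsg.Agent.Lib.J4CF
open Cfsg.Agent.Lib.J4CG

/-- representative -/
def w0 : List ℕ := []
/-- representative -/
def w1 : List ℕ := [2, 1, 0, 3, 0, 3, 0, 3, 0, 1, 0, 3, 0]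
/-- representative -/
def w2 : List ℕ := [2, 1, 0, 3, 0, 3, 0, 3, 0, 1, 0, 3, 0, 2, 1, 0, 3, 0, 3, 0, 3, 0, 1, 0, 3, 0]
/-- representative -/
def w3 : List ℕ := [2, 1, 0, 3, 0, 3, 0, 3, 0, 3, 0, 3, 0, 3, 0, 1, 0, 3, 0, 3, 0, 1, 0, 1, 0, 3, 0, 1, 0, 1, 0, 3, 0, 1, 0, 1, 0, 3, 0, 1, 0, 2, 1, 0, 3, 0, 3, 0, 3, 0, 1, 0, 3, 0, 2, 1, 0, 3, 0, 3, 0, 3, 0, 1, 0, 3, 0]
/-- representative -/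
def w4 : List ℕ := [2, 1, 0, 3, 0, 3, 0, 3, 0, 1, 0, 1, 0, 1, 0, 1, 0, 2, 1, 0, 3, 0, 3, 0, 3, 0, 1, 0, 3, 0, 2, 1, 0, 3, 0, 3, 0, 3, 0, 1, 0, 3, 0]
/-- representative -/
def w5 : List ℕ := [2, 1, 0, 1, 0, 3, 0, 1, 0, 1, 0, 1, 0, 3, 0, 3, 0, 1, 0, 2, 1, 0, 3, 0, 3, 0, 3, 0, 1, 0, 3, 0, 2, 1, 0, 3, 0, 3, 0, 3, 0, 1, 0, 3, 0]
/-- representative -/
def w6 : List ℕ := [2, 1, 0, 1, 0, 1, 0, 1, 0, 3, 0, 1, 0, 1, 0, 3, 0, 1, 0, 3, 0, 3, 0, 1, 0, 3, 0, 3, 0, 1, 0, 2, 1, 0, 3, 0, 3, 0, 3, 0, 1, 0, 3, 0, 2, 1, 0, 3, 0, 3, 0, 3, 0, 1, 0, 3, 0]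
/-- representative -/
def w7 : List ℕ := [2, 1, 0, 3, 0, 3, 0, 3, 0, 1, 0, 3, 0, 3, 0, 1, 0, 3, 0, 2, 1, 0, 3, 0, 3, 0, 3, 0, 1, 0, 3, 0, 2, 1, 0, 3, 0, 3, 0, 3, 0, 1, 0, 3, 0]
/-- representative -/
def w8 : List ℕ := [2, 3, 0, 1, 0, 1, 0, 1, 0, 1, 0, 1, 0, 1, 0, 3, 0, 1, 0, 1, 0, 3, 0, 1, 0, 3, 0, 3, 0, 1, 0, 3, 0, 3, 0, 1, 0, 2, 1, 0, 3, 0, 3, 0, 3, 0, 1, 0, 3, 0, 2, 1, 0, 3, 0, 3, 0, 3, 0, 1, 0, 3, 0]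
/-- representative -/
def w9 : List ℕ := [2, 1, 0, 3, 0, 3, 0, 3, 0, 1, 0, 1, 0, 1, 0, 3, 0, 3, 0, 1, 0, 3, 0, 3, 0, 1, 0, 1, 0, 3, 0, 1, 0, 1, 0, 3, 0, 1, 0, 1, 0, 2, 1, 0, 3, 0, 3, 0, 3, 0, 3, 0, 3, 0, 3, 0, 1, 0, 3, 0, 3, 0, 1, 0, 1, 0, 3, 0, 1, 0, 1, 0, 3, 0, 1, 0, 1, 0, 3, 0, 1, 0, 2, 1, 0, 3, 0, 3, 0, 3, 0, 1, 0, 3, 0, 2, 1, 0, 3, 0, 3, 0, 3, 0, 1, 0, 3, 0]
/-- representative -/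
def w10 : List ℕ := [2, 1, 0, 3, 0, 1, 0, 1, 0, 1, 0, 3, 0, 1, 0, 3, 0, 3, 0, 1, 0, 3, 0, 1, 0, 1, 0, 1, 0, 3, 0, 3, 0, 1, 0, 1, 0, 3, 0, 2, 1, 0, 3, 0, 3, 0, 3, 0, 3, 0, 3, 0, 3, 0, 1, 0, 3, 0, 3, 0, 1, 0, 1, 0, 3, 0, 1, 0, 1, 0, 3, 0, 1, 0, 1, 0, 3, 0, 1, 0, 2, 1, 0, 3, 0, 3, 0, 3, 0, 1, 0, 3, 0, 2, 1, 0, 3, 0, 3, 0, 3, 0, 1, 0, 3, 0]
/-- representative -/
def w11 : List ℕ := [2, 1, 0, 3, 0, 3, 0, 1, 0, 3, 0, 1, 0, 1, 0, 1, 0, 3, 0, 3, 0, 1, 0, 1, 0, 3, 0, 1, 0, 1, 0, 3, 0, 1, 0, 1, 0, 3, 0, 1, 0, 2, 1, 0, 3, 0, 3, 0, 3, 0, 3, 0, 3, 0, 3, 0, 1, 0, 3, 0, 3, 0, 1, 0, 1, 0, 3, 0, 1, 0, 1, 0, 3, 0, 1, 0, 1, 0, 3, 0, 1, 0, 2, 1, 0, 3, 0, 3, 0, 3, 0, 1, 0, 3, 0, 2, 1, 0, 3, 0, 3, 0, 3, 0, 1, 0, 3, 0]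
/-- representative -/
def w12 : List ℕ := [2, 1, 0, 3, 0, 3, 0, 3, 0, 1, 0, 3, 0, 1, 0, 3, 0, 3, 0, 2, 1, 0, 3, 0, 3, 0, 3, 0, 3, 0, 3, 0, 3, 0, 1, 0, 3, 0, 3, 0, 1, 0, 1, 0, 3, 0, 1, 0, 1, 0, 3, 0, 1, 0, 1, 0, 3, 0, 1, 0, 2, 1, 0, 3, 0, 3, 0, 3, 0, 1, 0, 3, 0, 2, 1, 0, 3, 0, 3, 0, 3, 0, 1, 0, 3, 0]
/-- representative -/
def w13 : List ℕ := [2, 1, 0, 1, 0, 3, 0, 1, 0, 3, 0, 3, 0, 1, 0, 3, 0, 3, 0, 1, 0, 1, 0, 3, 0, 1, 0, 1, 0, 3, 0, 1, 0, 1, 0, 3, 0, 2, 1, 0, 3, 0, 3, 0, 3, 0, 3, 0, 3, 0, 3, 0, 1, 0, 3, 0, 3, 0, 1, 0, 1, 0, 3, 0, 1, 0, 1, 0, 3, 0, 1, 0, 1, 0, 3, 0, 1, 0, 2, 1, 0, 3, 0, 3, 0, 3, 0, 1, 0, 3, 0, 2, 1, 0, 3, 0, 3, 0, 3, 0, 1, 0, 3, 0]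
/-- representative -/
def w14 : List ℕ := [2, 1, 0, 3, 0, 3, 0, 3, 0, 1, 0, 1, 0, 1, 0, 3, 0, 1, 0, 3, 0, 1, 0, 2, 1, 0, 3, 0, 3, 0, 3, 0, 3, 0, 3, 0, 3, 0, 1, 0, 3, 0, 3, 0, 1, 0, 1, 0, 3, 0, 1, 0, 1, 0, 3, 0, 1, 0, 1, 0, 3, 0, 1, 0, 2, 1, 0, 3, 0, 3, 0, 3, 0, 1, 0, 3, 0, 2, 1, 0, 3, 0, 3, 0, 3, 0, 1, 0, 3, 0]
/-- representative -/
def w15 : List ℕ := [2, 3, 0, 1, 0, 1, 0, 1, 0, 3, 0, 3, 0, 2, 1, 0, 1, 0, 1, 0, 1, 0, 3, 0, 1, 0, 1, 0, 3, 0, 1, 0, 3, 0, 3, 0, 1, 0, 3, 0, 3, 0, 1, 0, 2, 1, 0, 3, 0, 3, 0, 3, 0, 1, 0, 3, 0, 2, 1, 0, 3, 0, 3, 0, 3, 0, 1, 0, 3, 0]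
/-- representative -/
def w16 : List ℕ := [2, 1, 0, 3, 0, 3, 0, 3, 0, 3, 0, 1, 0, 1, 0, 1, 0, 1, 0, 3, 0, 2, 1, 0, 1, 0, 1, 0, 1, 0, 3, 0, 1, 0, 1, 0, 3, 0, 1, 0, 3, 0, 3, 0, 1, 0, 3, 0, 3, 0, 1, 0, 2, 1, 0, 3, 0, 3, 0, 3, 0, 1, 0, 3, 0, 2, 1, 0, 3, 0, 3, 0, 3, 0, 1, 0, 3, 0]
/-- representative -/
def w17 : List ℕ := [2, 1, 0, 1, 0, 1, 0, 1, 0, 3, 0, 3, 0, 3, 0, 3, 0, 3, 0, 3, 0, 2, 1, 0, 3, 0, 3, 0, 3, 0, 3, 0, 3, 0, 3, 0, 1, 0, 3, 0, 3, 0, 1, 0, 1, 0, 3, 0, 1, 0, 1, 0, 3, 0, 1, 0, 1, 0, 3, 0, 1, 0, 2, 1, 0, 3, 0, 3, 0, 3, 0, 1, 0, 3, 0, 2, 1, 0, 3, 0, 3, 0, 3, 0, 1, 0, 3, 0]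
/-- representative -/
def w18 : List ℕ := [2, 1, 0, 3, 0, 3, 0, 3, 0, 1, 0, 1, 0, 3, 0, 3, 0, 3, 0, 3, 0, 3, 0, 1, 0, 3, 0, 3, 0, 1, 0, 3, 0, 3, 0, 1, 0, 1, 0, 3, 0, 1, 0, 2, 1, 0, 1, 0, 3, 0, 1, 0, 1, 0, 1, 0, 3, 0, 3, 0, 1, 0, 2, 1, 0, 3, 0, 3, 0, 3, 0, 1, 0, 3, 0, 2, 1, 0, 3, 0, 3, 0, 3, 0, 1, 0, 3, 0]
/-- representative -/
def w19 : List ℕ := [2, 1, 0, 3, 0, 3, 0, 1, 0, 1, 0, 3, 0, 3, 0, 3, 0, 1, 0, 1, 0, 3, 0, 3, 0, 2, 1, 0, 3, 0, 3, 0, 3, 0, 1, 0, 3, 0, 3, 0, 1, 0, 3, 0, 2, 1, 0, 3, 0, 3, 0, 3, 0, 1, 0, 3, 0, 2, 1, 0, 3, 0, 3, 0, 3, 0, 1, 0, 3, 0]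
/-- representatives -/
def wd (k : ℕ) : List ℕ :=
  match k with
  | 0 => w0
  | 1 => w1
  | 2 => w2
  | 3 => w3
  | 4 => w4
  | 5 => w5
  | 6 => w6
  | 7 => w7
  | 8 => w8
  | 9 => w9
  | 10 => w10
  | 11 => w11
  | 12 => w12
  | 13 => w13
  | 14 => w14
  | 15 => w15
  | 16 => w16
  | 17 => w17
  | 18 => w18
  | _ => w19
/-- vectors -/
def ui (k : ℕ) : ℕ :=
  match k with
  | 0 => 0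
  | 1 => 4
  | 2 => 0
  | 3 => 0
  | 4 => 0
  | 5 => 0
  | 6 => 0
  | 7 => 0
  | 8 => 0
  | 9 => 0
  | 10 => 0
  | 11 => 0
  | 12 => 0
  | 13 => 0
  | 14 => 0
  | 15 => 0
  | 16 => 0
  | 17 => 2
  | 18 => 4
  | _ => 0
/-- lists of masks -/
def LL (k : ℕ) : List ℕ :=
  match k with
  | 1 => [414, 629, 1003, 1206, 1320, 1731, 1885]
  | 17 => [373]
  | 18 => [288, 648, 936, 1112, 1400, 1744, 2032]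
  | 19 => [932]
  | _ => []

theorem wd_ok : ∀ k < 20, ok (iw (wd k)) = true ∧ ok (wd k) = true ∧ ui k < 12 := by decide +kernel

theorem c1 : chk (iw (wd 1)) (ui 1) (LL 1) = true := by decide +kernel
theorem c2 : chk (iw (wd 2)) (ui 2) (LL 2) = true := by decide +kernel
theorem c3 : chk (iw (wd 3)) (ui 3) (LL 3) = true := by decide +kernel
theorem c4 : chk (iw (wd 4)) (ui 4) (LL 4) = true := by decide +kernel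
theorem c5 : chk (iw (wd 5)) (ui 5) (LL 5) = true := by decide +kernel
theorem c6 : chk (iw (wd 6)) (ui 6) (LL 6) = true := by decide +kernel
theorem c7 : chk (iw (wd 7)) (ui 7) (LL 7) = true := by decide +kernel
theorem c8 : chk (iw (wd 8)) (ui 8) (LL 8) = true := by decide +kernel
theorem c9 : chk (iw (wd 9)) (ui 9) (LL 9) = true := by decide +kernel
theorem c10 : chk (iw (wd 10)) (ui 10) (LL 10) = true := by decide +kernel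
theorem c11 : chk (iw (wd 11)) (ui 11) (LL 11) = true := by decide +kernel
theorem c12 : chk (iw (wd 12)) (ui 12) (LL 12) = true := by decide +kernel
theorem c13 : chk (iw (wd 13)) (ui 13) (LL 13) = true := by decide +kernel
theorem c14 : chk (iw (wd 14)) (ui 14) (LL 14) = true := by decide +kernel
theorem c15 : chk (iw (wd 15)) (ui 15) (LL 15) = true := by decide +kernel
theorem c16 : chk (iw (wd 16)) (ui 16) (LL 16) = true := by decide +kernel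
theorem c17 : chk (iw (wd 17)) (ui 17) (LL 17) = true := by decide +kernel
theorem c18 : chk (iw (wd 18)) (ui 18) (LL 18) = true := by decide +kernel
theorem c19 : chk (iw (wd 19)) (ui 19) (LL 19) = true := by decide +kernel

theorem chk_all (k : ℕ) (hk : k < 20) (h0 : 0 < k) : chk (iw (wd k)) (ui k) (LL k) = true := by
  interval_cases k
  · exact c1
  · exact c2
  · exact c3
  · exact c4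
  · exact c5
  · exact c6
  · exact c7
  · exact c8
  · exact c9
  · exact c10
  · exact c11
  · exact c12
  · exact c13
  · exact c14
  · exact c15
  · exact c16
  · exact c17
  · exact c18
  · exact c19

/-- the number of elements that stay in the elementary abelian group -/
theorem wj (D : J4Main.Hyp) (k : ℕ) (hk : k < 20) (h0 : 0 < k) : (J4CD.Wj PP VV hh (pJ (wd k))).ncard ≤ (LL k).length := by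
  obtain ⟨h1, h2, h3⟩ := wd_ok k hk
  apply wj_le D (y := iw (wd k)) _ h1 h3 (chk_all k hk h0)
  rw [map_inv, rho_pJ h2, pr_iw]

end Cfsg.Agent.Lib.J4CH
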