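import Cfsg.Agent.Lib.J4DatM

set_option autoImplicit false
set_option linter.all false
set_option maxRecDepth 100000
set_option exponentiation.threshold 100000

namespace Cfsg.Agent.Lib.J4E

theorem kM0 : chkR (LI LTM) (dlI 520) FTM base7 relsM 19 krelM 74 78 FIM 0 120 = true := by decide +kernel
theorem kM1 : chkR (LI LTM) (dlI 520) FTM base7 relsM 19 krelM 74 78 FIM 120 120 = true := by decide +kernel
theorem kM2 : chkR (LI LTM) (dlI 520) FTM base7 relsM 19 krelM 74 78 FIM 240 120 = true := by decide +kernel
theorem kM3 : chkR (LI LTM) (dlI 520) FTM base7 relsM 19 krelM 74 78 FIM 360 120 = true := by decide +kernel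

end Cfsg.Agent.Lib.J4E
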