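import Cfsg.Agent.Lib.J4DatV

set_option autoImplicit false
set_option linter.all false
set_option maxRecDepth 100000
set_option exponentiation.threshold 100000

namespace Cfsg.Agent.Lib.J4E

theorem kV0 : chkR (LI LTV) (dlI 757) FTV base7 relsV 3 krelV 0 0 FIV 0 100 = true := by decide +kernel
theorem kV1 : chkR (LI LTV) (dlI 757) FTV base7 relsV 3 krelV 0 0 FIV 100 91 = true := by decide +kernel

end Cfsg.Agent.Lib.J4E
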