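import Cfsg.Agent.Lib.J4Main

/-!
Relations between the involution `hh` and the Mathieu subgroup of the presented fourth Janko group, from memberships (helper57).
-/

set_option autoImplicit false
set_option linter.all false
set_option maxRecDepth 100000
set_option Elab.async false

namespace Cfsg.Agent.Lib.J4HRel

open Cfsg.Spor Cfsg.Agent.Lib.H58SM Cfsg.Agent.Lib.BenesWord Cfsg.Agent.Lib.MatF2 Cfsg.Agent.Lib.CosetGroup
open Cfsg.Agent.Lib.CoxBridge Cfsg.Agent.Lib.J4Rho Cfsg.Agent.Lib.ProjSL Cfsg.Agent.Lib.J4RhoHom Cfsg.Agent.Lib.J4Words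
open Cfsg.Agent.Lib.ChainCard Cfsg.Agent.Lib.J4Main

theorem simple_PP (hP : Nonempty (PP ≃* M24)) : IsSimpleGroup PP := by
  obtain ⟨e⟩ := hP
  haveI := Cfsg.Agent.Lib.Golay.M24_simple
  exact Cfsg.Agent.Lib.Golay.isSimpleGroup_of_mulEquiv e.symm Cfsg.Agent.Lib.Golay.M24_simple

theorem card_PP (hP : Nonempty (PP ≃* M24)) : Nat.card PP = 244823040 := by
  obtain ⟨e⟩ := hP
  rw [Nat.card_congr e.toEquiv, Cfsg.Agent.Lib.Golay.natCard_M24]

theorem rho_gg_ne : rho gg ≠ 1 := by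
  intro h
  apply gh_ne
  rw [pr_append, pr_append, ← rho_gg, h, one_mul, mul_one]

/-- the representation is faithful on the Mathieu subgroup -/
theorem one_of (hP : Nonempty (PP ≃* M24)) {a : J4} (ha : a ∈ PP) (h : rho a = 1) : a = 1 := by
  have h0 := simple_PP hP
  rcases h0.eq_bot_or_eq_top_of_normal (rho.comp PP.subtype).ker inferInstance with h1 | h1
  · have h2 : (⟨a, ha⟩ : PP) ∈ (rho.comp PP.subtype).ker := h
    rw [h1, Subgroup.mem_bot] at h2
    exact congrArg Subtype.val h2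
  · exfalso
    have h2 : (⟨gg, gg_mem⟩ : PP) ∈ (rho.comp PP.subtype).ker := by rw [h1]; exact Subgroup.mem_top _
    exact rho_gg_ne h2

theorem eq_of (hP : Nonempty (PP ≃* M24)) {a b : J4} (ha : a ∈ PP) (hb : b ∈ PP) (h : rho a = rho b) : a = b := by
  have h1 : a * b⁻¹ = 1 := one_of hP (PP.mul_mem ha (PP.inv_mem hb)) (by rw [map_mul, map_inv, h, mul_inv_cancel])
  rwa [mul_inv_eq_one] at h1

/-- words without the letter `t` -/
def okP (l : List ℕ) : Bool := l.all fun c => Nat.beq c 0 || Nat.beq c 1 || Nat.beq c 3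

theorem mem_PP {l : List ℕ} (h : okP l = true) : pJ l ∈ PP := by
  have h0 : X 0 ∈ PP := Subgroup.subset_closure (by simp)
  have h1 : X 1 ∈ PP := Subgroup.subset_closure (by simp)
  induction l with
  | nil => exact PP.one_mem
  | cons c l ih =>
    rw [okP, List.all_cons, Bool.and_eq_true] at h
    show XX c * pJ l ∈ PP
    apply PP.mul_mem _ (ih h.2)
    have h2 := h.1
    rw [Bool.or_eq_true, Bool.or_eq_true] at h2
    rcases h2 with (h2 | h2) | h2
    · rw [Nat.eq_of_beq_eq_true h2]; exact h0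
    · rw [Nat.eq_of_beq_eq_true h2]; exact h1
    · rw [Nat.eq_of_beq_eq_true h2]; exact PP.inv_mem h1

/-- an element commuting with the involution -/
def lc1 : List ℕ := [3,0,1,0,1,0,3,0,1,0,3,0,3,0,3,0,3,0,3,0,3,0,1,0,1,0,1,0,1,0,1,0,1,0,1,0,3,0,1,0,3,0,1,0,3,0,1,0,3,0,1,0,1,0,1,0]
/-- an element commuting with the involution -/
def lc2 : List ℕ := [3,0,1,0,3,0,3,0,1,0,3,0,3,0,3,0,1,0,3,0,1,0,1,0,3,0,1,0,1,0,1,0,3,0,1,0,3,0,1,0,3,0,1,0]
/-- an element of the trio group -/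
def lgt : List ℕ := [1,0,1,0,3,0,1,0,1,0,3,0,1,0,1,0,1,0,1,0,3,0,3,0,3,0,3,0,3,0,3,0,3,0,1,0,1,0,3,0,1,0,3,0,3,0,3,0,3,0,3,0,1,0,1,0]

theorem k1 : pr (lc1 ++ lh) = pr (lh ++ lc1) := pr_eq (by decide +kernel) (by decide +kernel) (by decide +kernel)
theorem k2 : pr (lc2 ++ lh) = pr (lh ++ lc2) := pr_eq (by decide +kernel) (by decide +kernel) (by decide +kernel)
theorem k3 : pr (lh ++ lh) = pr [] := pr_eq (by decide +kernel) (by decide +kernel) (by decide +kernel)
theorem k4 : pr (lh ++ lgt) ^ 3 = 1 := pr_pow (by decide +kernel) [true, true] (by decide +kernel)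
theorem o1 : okP lc1 = true := by decide +kernel
theorem o2 : okP lc2 = true := by decide +kernel
theorem og : okP lgt = true := by decide +kernel
theorem oo1 : ok lc1 = true := by decide +kernel
theorem oo2 : ok lc2 = true := by decide +kernel
theorem oog : ok lgt = true := by decide +kernel

/-- the relations between `hh` and the Mathieu subgroup -/
theorem rels (hP : Nonempty (PP ≃* M24)) (m1 : hh⁻¹ * pJ lc1 * hh ∈ PP) (m2 : hh⁻¹ * pJ lc2 * hh ∈ PP) (m3 : hh * hh ∈ PP)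
    (m4 : hh * pJ lgt * hh * pJ lgt * hh ∈ PP) :
    pJ lc1 * hh = hh * pJ lc1 ∧ pJ lc2 * hh = hh * pJ lc2 ∧ hh * hh = 1 ∧ (hh * pJ lgt) ^ 3 = 1 := by
  have c : ∀ l : List ℕ, ok l = true → okP l = true → pr (l ++ lh) = pr (lh ++ l) → hh⁻¹ * pJ l * hh ∈ PP → pJ l * hh = hh * pJ l := by
    intro l h1 h2 h3 h4
    have h5 := eq_of hP h4 (mem_PP h2) (by
      rw [map_mul, map_mul, map_inv, rho_hh, rho_pJ h1, mul_assoc]
      rw [pr_append, pr_append] at h3
      rw [h3, inv_mul_cancel_left])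
    calc pJ l * hh = hh * (hh⁻¹ * pJ l * hh) := by group
      _ = hh * pJ l := by rw [h5]
  refine ⟨c _ oo1 o1 k1 m1, c _ oo2 o2 k2 m2, ?_, ?_⟩
  · apply one_of hP m3
    rw [map_mul, rho_hh, ← pr_append, k3, pr_nil]
  · have h1 : (hh * pJ lgt) ^ 3 = (hh * pJ lgt * hh * pJ lgt * hh) * pJ lgt := by
      simp only [pow_succ, pow_zero, one_mul, mul_assoc]
    rw [h1]
    apply one_of hP (PP.mul_mem m4 (mem_PP og))
    rw [← h1, map_pow, map_mul, rho_hh, rho_pJ oog, ← pr_append, k4]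

end Cfsg.Agent.Lib.J4HRel
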