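import Cfsg.Agent.Lib.J4Psi
import Cfsg.Agent.Lib.J4HRel

/-!
# The relations of J4 for the enumerations
-/

set_option autoImplicit false
set_option linter.all false
set_option maxRecDepth 100000

namespace Cfsg.Agent.Lib.J4E

open Cfsg.Spor Cfsg.Agent.Lib.BenesWord Cfsg.Agent.Lib.CosetGroup Cfsg.Agent.Lib.CoxBridge Cfsg.Agent.Lib.J4Main Cfsg.Agent.Lib.J4RhoHom

theorem rJ (n : ℕ) (h : n < J4Rho.extraW.length) : (J4Rho.extraW[n]).eval J4RhoHom.X = 1 := relJ _ (List.getElem_mem h)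

theorem X0_sq : (X 0) * (X 0) = 1 := by
  have h : (X 0) ^ 2 = 1 := rJ 0 (by decide)
  rw [← pow_two]; exact h
theorem X0_inv : (X 0)⁻¹ = X 0 := inv_eq_of_mul_eq_one_left X0_sq
theorem t_sq : (X 2) * (X 2) = 1 := by
  have h : (X 2) ^ 2 = 1 := rJ 7 (by decide)
  rw [← pow_two]; exact h
theorem t_inv : (X 2)⁻¹ = X 2 := inv_eq_of_mul_eq_one_left t_sq

theorem comm_of {G : Type*} [Group G] {t a : G} (h : t⁻¹ * a⁻¹ * t * a = 1) : t * a = a * t := by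
  have h1 : t⁻¹ * a⁻¹ * t * a = (a * t)⁻¹ * (t * a) := by group
  rw [h1] at h
  exact (inv_mul_eq_one.mp h).symm

theorem t_x : X 2 * pJ [0] = pJ [0] * X 2 := by
  have h : (X 2)⁻¹ * (X 0)⁻¹ * (X 2) * (X 0) = 1 := rJ 9 (by decide)
  have e : pJ [0] = X 0 := by show X 0 * 1 = X 0; rw [mul_one]
  rw [e]; exact comm_of h

/-- the word `d` -/
def ld : List ℕ := [1, 0, 1, 0, 3, 0, 3, 0, 1, 0, 1, 0, 1]

theorem t_d : X 2 * pJ ld = pJ ld * X 2 := by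
  have h : (X 2)⁻¹ * (X 1 * X 0 * X 1 * ((X 0 * (X 1)⁻¹) ^ 2) * ((X 0 * X 1) ^ 3))⁻¹ * (X 2) *
      (X 1 * X 0 * X 1 * ((X 0 * (X 1)⁻¹) ^ 2) * ((X 0 * X 1) ^ 3)) = 1 := rJ 8 (by decide)
  have e : pJ ld = X 1 * X 0 * X 1 * ((X 0 * (X 1)⁻¹) ^ 2) * ((X 0 * X 1) ^ 3) := by
    show X 1 * (X 0 * (X 1 * (X 0 * ((X 1)⁻¹ * (X 0 * ((X 1)⁻¹ * (X 0 * (X 1 * (X 0 * (X 1 * (X 0 * (X 1 * 1)))))))))))) = _
    simp only [pow_succ, pow_zero, one_mul, mul_assoc, mul_one]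
  rw [e]; exact comm_of h

/-- the word `v` -/
noncomputable def vJ : J4 := X 1 * X 0 * (X 1)⁻¹ * X 0 * X 1 * X 0 * (X 1)⁻¹ * X 0

theorem rel11 : (X 1 * (vJ⁻¹ * X 2 * vJ)) ^ 3 = 1 := rJ 10 (by decide)

/-- the word `u` -/
noncomputable def uJ : J4 := X 1 * X 0 * X 1 * X 0 * X 1 * X 0 * X 1
/-- the word `w` -/
noncomputable def wJ : J4 := ((X 0 * X 1) ^ 3) * X 1 * ((X 0 * X 1) ^ 6) * X 1

theorem rel12 : ((uJ ^ 3) * X 2 * (wJ⁻¹ * X 2 * wJ)) ^ 2 = 1 := rJ 11 (by decide)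

theorem pJ_cons (c : ℕ) (l : List ℕ) : pJ (c :: l) = XX c * pJ l := rfl
theorem pJ_nil : pJ [] = 1 := rfl
theorem XX0 : XX 0 = X 0 := rfl
theorem XX1 : XX 1 = X 1 := rfl
theorem XX3 : XX 3 = (X 1)⁻¹ := rfl

/-- lists -/
def lw : List ℕ := [1, 0, 1, 0, 1, 0, 1, 0, 3, 0]
def lwi : List ℕ := [0, 1, 0, 3, 0, 3, 0, 3, 0, 3]

theorem pJ_lw : pJ lw = WW := by
  show pJ [1, 0, 1, 0, 1, 0, 1, 0, 3, 0] = (X 1 * X 0) ^ 4 * (X 1)⁻¹ * X 0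
  simp only [pJ_cons, pJ_nil, XX0, XX1, XX3, pow_succ, pow_zero, one_mul, mul_assoc, mul_one]

theorem pJ_lwi : pJ lwi = WW⁻¹ := by
  show pJ [0, 1, 0, 3, 0, 3, 0, 3, 0, 3] = ((X 1 * X 0) ^ 4 * (X 1)⁻¹ * X 0)⁻¹
  simp only [pJ_cons, pJ_nil, XX0, XX1, XX3, pow_succ, pow_zero, one_mul, mul_assoc, mul_one, mul_inv_rev, inv_inv, X0_inv]

/-- the letters of the relators -/
structure RelC (LT WT : Tr ℕ) : Prop where
  x94 : chkX WT 94 [0] = true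
  x95 : chkX WT 95 ld = true
  x67 : chkX WT 67 ([1, 0, 3, 0, 1, 0, 3, 0] ++ [1] ++ [0, 1, 0, 3, 0, 1, 0, 3]) = true
  x68 : chkX WT 68 [0, 1, 0, 1, 0, 1, 1, 0, 1, 0, 1, 0, 1, 0, 1, 0, 1, 0, 1, 1] = true
  x72 : chkX WT 72 ([0, 1, 0, 1, 0, 1, 1, 0, 1, 0, 1, 0, 1, 0, 1, 0, 1, 0, 1, 1] ++ [1, 0, 1, 0, 1, 0, 1, 1, 0, 1, 0, 1, 0, 1, 1, 0, 1, 0, 1, 0, 1]) = true
  pr : chkV (LI LT) base7 [(66, 67), (73, 72)] = true

theorem evw_one {P : Type*} [Group P] (xs : ℕ → P) (a n : ℕ) (ha : 0 < a) (ha' : a < 4096) : evw xs (n + 2) a = xs a := by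
  have h4 : Nat.beq a 0 = false := by
    apply Bool.eq_false_iff.mpr
    intro h
    have := Nat.eq_of_beq_eq_true h
    omega
  have h5 : a / 4096 = 0 := by omega
  have h6 : a % 4096 = a := by omega
  have h7 : Nat.beq 0 0 = true := rfl
  rw [evw, h4, h5, h6, evw, h7]
  simp

section
variable {LT WT : Tr ℕ} {FT : Tr Fact} {nD : ℕ} (I : Ins LT WT FT nD) (RC : RelC LT WT)
include I RC

theorem psi66 : psi (xv bP (fun c => WT.get c) 66) = vJ * (X 1)⁻¹ * vJ⁻¹ := by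
  have h1 := I.inv_pairs (faith Pg_le).2 _ RC.pr (66, 67) (by simp)
  have h2 : xv bP (fun c => WT.get c) 66 * xv bP (fun c => WT.get c) 67 = 1 := by
    have e1 := evw_one (xv bP (fun c => WT.get c)) 66 22 (by norm_num) (by norm_num)
    have e2 := evw_one (xv bP (fun c => WT.get c)) 67 22 (by norm_num) (by norm_num)
    rw [← e1, ← e2]; exact h1
  have h3 : psi (xv bP (fun c => WT.get c) 67) = vJ * X 1 * vJ⁻¹ := by
    rw [I.psi_letter 67 _ RC.x67]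
    show pJ [1, 0, 3, 0, 1, 0, 3, 0, 1, 0, 1, 0, 3, 0, 1, 0, 3] = (X 1 * X 0 * (X 1)⁻¹ * X 0 * X 1 * X 0 * (X 1)⁻¹ * X 0) * X 1 *
      (X 1 * X 0 * (X 1)⁻¹ * X 0 * X 1 * X 0 * (X 1)⁻¹ * X 0)⁻¹
    simp only [pJ_cons, pJ_nil, XX0, XX1, XX3, mul_assoc, mul_one, mul_inv_rev, inv_inv, X0_inv]
  have h4 := congrArg psi h2
  rw [map_mul, map_one, h3] at h4
  rw [eq_inv_of_mul_eq_one_left h4]
  group

theorem psi68 : psi (xv bP (fun c => WT.get c) 68) = wJ := by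
  rw [I.psi_letter 68 _ RC.x68]
  show _ = ((X 0 * X 1) ^ 3) * X 1 * ((X 0 * X 1) ^ 6) * X 1
  simp only [pJ_cons, pJ_nil, XX0, XX1, XX3, pow_succ, pow_zero, one_mul, mul_assoc, mul_one]

theorem psi73 : psi (xv bP (fun c => WT.get c) 73) = (wJ * uJ ^ 3)⁻¹ := by
  have h1 := I.inv_pairs (faith Pg_le).2 _ RC.pr (73, 72) (by simp)
  have h2 : xv bP (fun c => WT.get c) 73 * xv bP (fun c => WT.get c) 72 = 1 := by
    have e1 := evw_one (xv bP (fun c => WT.get c)) 73 22 (by norm_num) (by norm_num)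
    have e2 := evw_one (xv bP (fun c => WT.get c)) 72 22 (by norm_num) (by norm_num)
    rw [← e1, ← e2]; exact h1
  have h3 : psi (xv bP (fun c => WT.get c) 72) = wJ * uJ ^ 3 := by
    rw [I.psi_letter 72 _ RC.x72]
    show _ = (((X 0 * X 1) ^ 3) * X 1 * ((X 0 * X 1) ^ 6) * X 1) * (X 1 * X 0 * X 1 * X 0 * X 1 * X 0 * X 1) ^ 3
    simp only [List.cons_append, List.nil_append, pJ_cons, pJ_nil, XX0, XX1, XX3, pow_succ, pow_zero, one_mul, mul_assoc, mul_one]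
  have h4 := congrArg psi h2
  rw [map_mul, map_one, h3] at h4
  exact eq_inv_of_mul_eq_one_left h4

theorem op1 : opG psi (X 2) (xv bP (fun c => WT.get c)) [(66, 67), (66, 67), (66, 67)] = 1 := by
  have e1 := evw_one (xv bP (fun c => WT.get c)) 66 22 (by norm_num) (by norm_num)
  simp only [opG]
  show 1 * (psi (evw (xv bP (fun c => WT.get c)) (22 + 2) 66) * X 2) * (psi (evw (xv bP (fun c => WT.get c)) (22 + 2) 66) * X 2) *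
    (psi (evw (xv bP (fun c => WT.get c)) (22 + 2) 66) * X 2) = 1
  rw [e1, psi66 I RC, one_mul]
  have h : (vJ * (X 1)⁻¹ * vJ⁻¹ * X 2) = (vJ * (X 1)⁻¹) * (X 1 * (vJ⁻¹ * X 2 * vJ))⁻¹ * (vJ * (X 1)⁻¹)⁻¹ := by
    have : (vJ * (X 1)⁻¹) * (X 1 * (vJ⁻¹ * X 2 * vJ))⁻¹ * (vJ * (X 1)⁻¹)⁻¹ = vJ * (X 1)⁻¹ * vJ⁻¹ * (X 2)⁻¹ := by group
    rw [this, t_inv]
  have h2 : (vJ * (X 1)⁻¹ * vJ⁻¹ * X 2) * (vJ * (X 1)⁻¹ * vJ⁻¹ * X 2) * (vJ * (X 1)⁻¹ * vJ⁻¹ * X 2) = (vJ * (X 1)⁻¹ * vJ⁻¹ * X 2) ^ 3 := by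
    rw [pow_succ, pow_two]
  rw [h2, h, conj_pow, inv_pow, rel11]
  simp

theorem op2 : opG psi (X 2) (xv bP (fun c => WT.get c)) [(68, 69), (73, 72), (68, 69), (73, 72)] = 1 := by
  have e1 := evw_one (xv bP (fun c => WT.get c)) 68 22 (by norm_num) (by norm_num)
  have e2 := evw_one (xv bP (fun c => WT.get c)) 73 22 (by norm_num) (by norm_num)
  simp only [opG]
  show 1 * (psi (evw (xv bP (fun c => WT.get c)) (22 + 2) 73) * X 2) * (psi (evw (xv bP (fun c => WT.get c)) (22 + 2) 68) * X 2) *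
    (psi (evw (xv bP (fun c => WT.get c)) (22 + 2) 73) * X 2) * (psi (evw (xv bP (fun c => WT.get c)) (22 + 2) 68) * X 2) = 1
  rw [e1, e2, psi68 I RC, psi73 I RC, one_mul]
  have h : (wJ * uJ ^ 3)⁻¹ * X 2 * (wJ * X 2) = (uJ ^ 3)⁻¹ * ((uJ ^ 3) * X 2 * (wJ⁻¹ * X 2 * wJ))⁻¹ * ((uJ ^ 3)⁻¹)⁻¹ := by
    have : (uJ ^ 3)⁻¹ * ((uJ ^ 3) * X 2 * (wJ⁻¹ * X 2 * wJ))⁻¹ * ((uJ ^ 3)⁻¹)⁻¹ = (wJ * uJ ^ 3)⁻¹ * (X 2)⁻¹ * (wJ * (X 2)⁻¹) := by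
      simp only [mul_inv_rev, inv_inv, mul_assoc, inv_mul_cancel, mul_one]
    rw [this, t_inv]
  have h2 : (wJ * uJ ^ 3)⁻¹ * X 2 * (wJ * X 2) * ((wJ * uJ ^ 3)⁻¹ * X 2) * (wJ * X 2) = ((wJ * uJ ^ 3)⁻¹ * X 2 * (wJ * X 2)) ^ 2 := by
    rw [pow_two]; simp only [mul_assoc]
  rw [h2, h, conj_pow, inv_pow, rel12]
  simp

theorem t94 : X 2 * psi (xv bP (fun c => WT.get c) 94) = psi (xv bP (fun c => WT.get c) 94) * X 2 := by
  rw [I.psi_letter 94 _ RC.x94]; exact t_x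
theorem t95 : X 2 * psi (xv bP (fun c => WT.get c) 95) = psi (xv bP (fun c => WT.get c) 95) * X 2 := by
  rw [I.psi_letter 95 _ RC.x95]; exact t_d

end

theorem supp (g : Pg) : (∀ i, ¬ i < 3795 → φ3 g i = i) ∧ (∀ i, ¬ i < 1771 → φ6 g i = i) := by
  obtain ⟨z, hz⟩ := g
  have hs : ∀ z : G0, z ∈ Pg → (∀ i, ¬ i < 3795 → z.2.1 i = i) ∧ (∀ i, ¬ i < 1771 → z.2.2 i = i) := by
    intro z hz
    refine Subgroup.closure_induction (p := fun z _ => (∀ i, ¬ i < 3795 → z.2.1 i = i) ∧ (∀ i, ¬ i < 1771 → z.2.2 i = i)) ?_ ?_ ?_ ?_ hz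
    · rintro z (rfl | rfl)
      · exact ⟨fun i hi => mkPerm_ge (h := q3) hi, fun i hi => mkPerm_ge (h := q5) hi⟩
      · exact ⟨fun i hi => mkPerm_ge (h := q4) hi, fun i hi => mkPerm_ge (h := q6) hi⟩
    · exact ⟨fun i _ => rfl, fun i _ => rfl⟩
    · rintro a b _ _ ⟨a2, a3⟩ ⟨b2, b3⟩
      refine ⟨fun i hi => ?_, fun i hi => ?_⟩
      · show a.2.1 (b.2.1 i) = i; rw [b2 i hi, a2 i hi]
      · show a.2.2 (b.2.2 i) = i; rw [b3 i hi, a3 i hi]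
    · rintro a _ ⟨a2, a3⟩
      refine ⟨fun i hi => ?_, fun i hi => ?_⟩
      · show a.2.1⁻¹ i = i; rw [Equiv.Perm.inv_eq_iff_eq, a2 i hi]
      · show a.2.2⁻¹ i = i; rw [Equiv.Perm.inv_eq_iff_eq, a3 i hi]
  exact hs z hz

theorem supp3 (g : Pg) (i : ℕ) (hi : i < 3795) : φ3 g i < 3795 := by
  by_contra h
  have h1 := (supp g).1 _ h
  have h2 := (φ3 g).injective h1
  exact h (by rw [h2]; exact hi)

theorem supp6 (g : Pg) (i : ℕ) (hi : i < 1771) : φ6 g i < 1771 := by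
  by_contra h
  have h1 := (supp g).2 _ h
  have h2 := (φ6 g).injective h1
  exact h (by rw [h2]; exact hi)

theorem J4_gen : Subgroup.closure (Set.range psi ∪ {X 2}) = (⊤ : Subgroup J4) := by
  rw [eq_top_iff, ← PresentedGroup.closure_range_of, Subgroup.closure_le]
  rintro z ⟨a, rfl⟩
  cases a
  · exact Subgroup.subset_closure (Or.inl ⟨px, psi_px⟩)
  · exact Subgroup.subset_closure (Or.inl ⟨py, psi_py⟩)
  · exact Subgroup.subset_closure (Or.inr rfl)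

end Cfsg.Agent.Lib.J4E
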