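import Cfsg.Agent.Lib.J4DatM

set_option autoImplicit false
set_option linter.all false
set_option maxRecDepth 100000
set_option exponentiation.threshold 100000

namespace Cfsg.Agent.Lib.J4E

theorem covM0 : cover (LI LTM) U3 66 FTM base7 2316 20 3795 388 0 CRM0 CGM0 = true := by decide +kernel
theorem covM1 : cover (LI LTM) U3 66 FTM base7 2316 20 3795 388 1 CRM1 CGM1 = true := by decide +kernel
theorem covM2 : cover (LI LTM) U3 66 FTM base7 2316 20 3795 388 2 CRM2 CGM2 = true := by decide +kernel
theorem covM3 : cover (LI LTM) U3 66 FTM base7 2316 20 3795 388 3 CRM3 CGM3 = true := by decide +kernel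
theorem covM4 : cover (LI LTM) U3 66 FTM base7 2316 20 3795 388 4 CRM4 CGM4 = true := by decide +kernel

end Cfsg.Agent.Lib.J4E
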