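import Cfsg.Agent.Lib.J4DatM

set_option autoImplicit false
set_option linter.all false
set_option maxRecDepth 100000
set_option exponentiation.threshold 100000

namespace Cfsg.Agent.Lib.J4E

theorem covM5 : cover (LI LTM) U3 66 FTM base7 2316 20 3795 388 5 CRM5 CGM5 = true := by decide +kernel
theorem covM6 : cover (LI LTM) U3 66 FTM base7 2316 20 3795 388 6 CRM6 CGM6 = true := by decide +kernel
theorem covM7 : cover (LI LTM) U3 66 FTM base7 2316 20 3795 388 7 CRM7 CGM7 = true := by decide +kernel
theorem covM8 : cover (LI LTM) U3 66 FTM base7 2316 20 3795 388 8 CRM8 CGM8 = true := by decide +kernel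
theorem covM9 : cover (LI LTM) U3 66 FTM base7 2316 20 3795 388 9 CRM9 CGM9 = true := by decide +kernel

end Cfsg.Agent.Lib.J4E
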