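import Cfsg.Agent.Lib.J4DatM

set_option autoImplicit false
set_option linter.all false
set_option maxRecDepth 100000
set_option exponentiation.threshold 100000

namespace Cfsg.Agent.Lib.J4E

theorem covM10 : cover (LI LTM) U3 66 FTM base7 2316 20 3795 388 10 CRM10 CGM10 = true := by decide +kernel
theorem covM11 : cover (LI LTM) U3 66 FTM base7 2316 20 3795 388 11 CRM11 CGM11 = true := by decide +kernel
theorem covM12 : cover (LI LTM) U3 66 FTM base7 2316 20 3795 388 12 CRM12 CGM12 = true := by decide +kernel
theorem covM13 : cover (LI LTM) U3 66 FTM base7 2316 20 3795 388 13 CRM13 CGM13 = true := by decide +kernel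
theorem covM14 : cover (LI LTM) U3 66 FTM base7 2316 20 3795 388 14 CRM14 CGM14 = true := by decide +kernel

end Cfsg.Agent.Lib.J4E
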