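import Cfsg.Agent.Lib.J4DatM

set_option autoImplicit false
set_option linter.all false
set_option maxRecDepth 100000
set_option exponentiation.threshold 100000

namespace Cfsg.Agent.Lib.J4E

theorem covM15 : cover (LI LTM) U3 66 FTM base7 2316 20 3795 388 15 CRM15 CGM15 = true := by decide +kernel
theorem covM16 : cover (LI LTM) U3 66 FTM base7 2316 20 3795 388 16 CRM16 CGM16 = true := by decide +kernel
theorem covM17 : cover (LI LTM) U3 66 FTM base7 2316 20 3795 388 17 CRM17 CGM17 = true := by decide +kernel
theorem covM18 : cover (LI LTM) U3 66 FTM base7 2316 20 3795 388 18 CRM18 CGM18 = true := by decide +kernel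
theorem covM19 : cover (LI LTM) U3 66 FTM base7 2316 20 3795 388 19 CRM19 CGM19 = true := by decide +kernel

end Cfsg.Agent.Lib.J4E
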