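import Cfsg.Agent.Lib.J4DatV

set_option autoImplicit false
set_option linter.all false
set_option maxRecDepth 100000
set_option exponentiation.threshold 100000

namespace Cfsg.Agent.Lib.J4E

theorem covV0 : cover (LI LTV) U6 66 FTV base7 191 3 1771 1494 0 CRV0 CGV0 = true := by decide +kernel
theorem covV1 : cover (LI LTV) U6 66 FTV base7 191 3 1771 1494 1 CRV1 CGV1 = true := by decide +kernel
theorem covV2 : cover (LI LTV) U6 66 FTV base7 191 3 1771 1494 2 CRV2 CGV2 = true := by decide +kernel

end Cfsg.Agent.Lib.J4E
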