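import Mathlib

/-!
# Double coset enumeration with an involution centralizing a point stabilizer: static certificates
-/

set_option autoImplicit false
set_option linter.all false

namespace Cfsg.Agent.Lib.J4E

/-- tree -/
inductive Tr (α : Type) where
  | l (a : α) : Tr α
  | n (a b : Tr α) : Tr α

/-- lookup -/
def Tr.get {α : Type} : Tr α → ℕ → α
  | Tr.l v, _ => v
  | Tr.n a b, c => bif Nat.beq (c % 2) 0 then a.get (c / 2) else b.get (c / 2)

/-- action of a word (base 4096, the last letter is the lowest digit) -/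
def ap (L : ℕ → ℕ → ℕ) : ℕ → ℕ → ℕ → ℕ
  | 0, _, i => i
  | n + 1, w, i => bif Nat.beq w 0 then i else ap L n (w / 4096) (L (w % 4096) i)

/-- facts -/
inductive Fact where
  | z : Fact
  | e (i h j a : ℕ) : Fact
  | s (i c : ℕ) : Fact

/-- the letter of a fact -/
def Fact.c : Fact → ℕ
  | Fact.s _ c => c
  | _ => 0

/-- steps -/
inductive SL where
  | z : SL
  | c (f s b : ℕ) (t : SL) : SL

/-- proofs of facts -/
inductive Item where
  | no : Item
  | df : Item
  | ini : Item
  | pr (p q : ℕ) : Item
  | iv (p : ℕ) : Item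
  | rl (r f i w : ℕ) (fw bw : SL) : Item
  | kl (f : ℕ) (fw bw : SL) : Item

/-- elements -/
inductive EX where
  | nil : EX
  | w (v : ℕ) (t : EX) : EX
  | d (v : ℕ) (t : EX) : EX

/-- points -/
inductive R where
  | no : R
  | pt (i : ℕ) (X : EX) : R

/-- results -/
inductive R2 where
  | no : R2
  | gap (i : ℕ) (X : EX) (j : ℕ) (Y : EX) : R2
  | full (i : ℕ) (X : EX) (j : ℕ) (Y : EX) : R2

/-- agreement on the base -/
def eqb (f g : ℕ → ℕ) : List ℕ → Bool
  | [] => true
  | b :: l => Nat.beq (f b) (g b) && eqb f g l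

section defs
variable (L : ℕ → ℕ → ℕ) (dl : ℕ → ℕ) (FT : Tr Fact) (base : List ℕ)

/-- action of an element -/
def apX : EX → ℕ → ℕ
  | EX.nil, i => i
  | EX.w v t, i => ap L 24 v (apX t i)
  | EX.d v t, i => ap (fun c => L (dl c)) 24 v (apX t i)

/-- action of a word of stabilizer facts -/
def apS (s i : ℕ) : ℕ := ap (fun f => L (FT.get f).c) 24 s i

/-- is it a stabilizer fact -/
def isS (i : ℕ) : Fact → Bool
  | Fact.s i' _ => Nat.beq i' i
  | _ => false

/-- a word of stabilizer facts known at time `k` -/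
def okS (k i : ℕ) : ℕ → ℕ → Bool
  | 0, w => true
  | n + 1, w => bif Nat.beq w 0 then true else
      (Nat.blt (w % 4096) k && isS i (FT.get (w % 4096))) && okS k i n (w / 4096)

/-- step along an edge -/
def tstep (k i : ℕ) (X : EX) (f s b : ℕ) : R :=
  match FT.get (f / 2) with
  | Fact.e ei eh ej ea =>
    bif Nat.blt (f / 2) k && okS FT k i 24 s then
      bif Nat.beq (f % 2) 0 then
        bif Nat.beq ei i && eqb (fun β => apX L dl X (apS L FT s β)) (fun β => apX L dl (EX.d b (EX.w eh EX.nil)) β) base then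
          R.pt ej (EX.d b (EX.w ea EX.nil)) else R.no
      else
        bif Nat.beq ej i && eqb (fun β => apX L dl X (apS L FT s β)) (fun β => apX L dl (EX.d b (EX.w ea EX.nil)) β) base then
          R.pt ei (EX.d b (EX.w eh EX.nil)) else R.no
    else R.no
  | _ => R.no

/-- backward path -/
def bwd (k : ℕ) : List (ℕ × ℕ) → SL → ℕ → EX → R
  | [], _, i, X => R.pt i X
  | v :: vs, SL.c f s b t, i, X =>
    match bwd k vs t i X with
    | R.pt j X' => tstep L dl FT base k j (EX.w v.2 X') f s b
    | R.no => R.no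
  | _ :: _, SL.z, _, _ => R.no

/-- deduction -/
def ded (k : ℕ) : List (ℕ × ℕ) → ℕ → ℕ → EX → SL → ℕ → EX → SL → R2
  | [], _, i, X, _, j, Y, _ => R2.full i X j Y
  | v :: vs, 0, i, X, _, j, Y, bw =>
    match bwd L dl FT base k vs bw j Y with
    | R.pt j' Y' => R2.gap i X j' (EX.w v.2 Y')
    | R.no => R2.no
  | v :: vs, f + 1, i, X, SL.c e s b t, j, Y, bw =>
    match tstep L dl FT base k i X e s b with
    | R.pt i' X' => ded k vs f i' (EX.w v.1 X') t j Y bw
    | R.no => R2.no
  | _ :: _, _ + 1, _, _, SL.z, _, _, _ => R2.no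

/-- check of a fact against a deduction -/
def fits : Fact → R2 → Bool
  | Fact.e i h j a, R2.gap i' X j' Y => (Nat.beq i i' && Nat.beq j j') &&
      (eqb (apX L dl X) (ap L 24 h) base && eqb (apX L dl Y) (ap L 24 a) base)
  | Fact.s i c, R2.full i' X j' Y => (Nat.beq i i' && Nat.beq i j') && eqb (fun β => apX L dl Y (L c β)) (apX L dl X) base
  | _, _ => false

/-- relator lookup -/
def nthR : List (List (ℕ × ℕ)) → ℕ → List (ℕ × ℕ)
  | [], _ => [(0, 0), (0, 0)]
  | a :: _, 0 => a
  | _ :: l, n + 1 => nthR l n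

variable (rels : List (List (ℕ × ℕ))) (nd : ℕ) (krel : List (ℕ × ℕ)) (kX kY : ℕ)

/-- check of a fact -/
def chk1 (k : ℕ) : Fact → Item → Bool
  | Fact.z, _ => true
  | Fact.e _ _ _ _, Item.df => Nat.blt k nd
  | Fact.s i c, Item.ini => Nat.beq i 0 && Nat.blt c 4
  | Fact.s i c, Item.pr p q => (Nat.blt p k && Nat.blt q k) && ((isS i (FT.get p) && isS i (FT.get q)) &&
      eqb (L c) (fun β => L (FT.get p).c (L (FT.get q).c β)) base)
  | Fact.s i c, Item.iv p => Nat.blt p k && (isS i (FT.get p) && eqb (fun β => L c (L (FT.get p).c β)) (fun β => β) base)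
  | F, Item.rl r f i w fw bw => fits L dl base F (ded L dl FT base k (nthR rels r) f i (EX.w w EX.nil) fw i (EX.w w EX.nil) bw)
  | F, Item.kl f fw bw => fits L dl base F (ded L dl FT base k krel f 0 (EX.w kX EX.nil) fw 0 (EX.w kY EX.nil) bw)
  | _, _ => false

/-- check of a range of facts -/
def chkR (FI : Tr Item) (lo : ℕ) : ℕ → Bool
  | 0 => true
  | n + 1 => chk1 L dl FT base rels nd krel kX kY (lo + n) (FT.get (lo + n)) (FI.get (lo + n)) && chkR FI lo n

end defs

/-! ### soundness -/

section sound
variable {P : Type*} [Group P] (xs : ℕ → P)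

/-- value of a word -/
def evw (xs : ℕ → P) : ℕ → ℕ → P
  | 0, _ => 1
  | n + 1, w => bif Nat.beq w 0 then 1 else evw xs n (w / 4096) * xs (w % 4096)

theorem ap_sound {xs : ℕ → P} {φ : P →* Equiv.Perm ℕ} {L : ℕ → ℕ → ℕ} {m : ℕ}
    (hL : ∀ c, c < 4096 → ∀ i < m, φ (xs c) i = L c i ∧ L c i < m) (n w i : ℕ) (hi : i < m) :
    φ (evw xs n w) i = ap L n w i ∧ ap L n w i < m := by
  induction n generalizing w i with
  | zero => exact ⟨by simp [evw, ap], hi⟩
  | succ n ih =>
    unfold evw ap
    cases Nat.beq w 0 with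
    | true => exact ⟨by simp, by simpa using hi⟩
    | false =>
      simp only [cond_false]
      have h1 := hL (w % 4096) (Nat.mod_lt _ (by norm_num)) i hi
      have h2 := ih (w / 4096) (L (w % 4096) i) h1.2
      refine ⟨?_, h2.2⟩
      rw [map_mul, Equiv.Perm.mul_apply, h1.1, h2.1]

/-- value of an element -/
def evX (xs : ℕ → P) (dl : ℕ → ℕ) : EX → P
  | EX.nil => 1
  | EX.w v t => evw xs 24 v * evX xs dl t
  | EX.d v t => evw (fun c => xs (dl c)) 24 v * evX xs dl t

theorem apX_sound {xs : ℕ → P} {φ : P →* Equiv.Perm ℕ} {L : ℕ → ℕ → ℕ} {dl : ℕ → ℕ} {m : ℕ}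
    (hL : ∀ c, c < 4096 → ∀ i < m, φ (xs c) i = L c i ∧ L c i < m) (hdl : ∀ c, dl c < 4096) (X : EX) (i : ℕ) (hi : i < m) :
    φ (evX xs dl X) i = apX L dl X i ∧ apX L dl X i < m := by
  induction X with
  | nil => exact ⟨by simp [evX, apX], hi⟩
  | w v t ih =>
    have h2 := ap_sound (xs := xs) hL 24 v _ ih.2
    refine ⟨?_, h2.2⟩
    rw [evX, map_mul, Equiv.Perm.mul_apply, ih.1, h2.1]; rfl
  | d v t ih =>
    have h2 := ap_sound (xs := fun c => xs (dl c)) (L := fun c => L (dl c)) (fun c _ i hi => hL (dl c) (hdl c) i hi) 24 v _ ih.2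
    refine ⟨?_, h2.2⟩
    rw [evX, map_mul, Equiv.Perm.mul_apply, ih.1, h2.1]; rfl

theorem eqb_iff {f g : ℕ → ℕ} {l : List ℕ} : eqb f g l = true ↔ ∀ b ∈ l, f b = g b := by
  induction l with
  | nil => simp [eqb]
  | cons b l ih => simp [eqb, ih]

/-- equality in `P` from the base -/
theorem eqP {φ : P →* Equiv.Perm ℕ} {m : ℕ} {base : List ℕ} (hbase : ∀ b ∈ base, b < m)
    (hfaith : ∀ g, (∀ b ∈ base, φ g b = b) → g = 1) {g g' : P} {f f' : ℕ → ℕ}
    (h1 : ∀ i < m, φ g i = f i) (h2 : ∀ i < m, φ g' i = f' i) (h : eqb f f' base = true) : g = g' := by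
  rw [eqb_iff] at h
  have : g'⁻¹ * g = 1 := by
    apply hfaith
    intro b hb
    rw [map_mul, map_inv, Equiv.Perm.mul_apply, Equiv.Perm.inv_eq_iff_eq, h1 b (hbase b hb), h2 b (hbase b hb), h b hb]
  exact (inv_mul_eq_one.mp this).symm

variable {Y : Type*} (A : P →* Equiv.Perm Y) (T : Equiv.Perm Y) (c : ℕ → Y)

/-- meaning of a fact -/
def Holds : Fact → Prop
  | Fact.z => True
  | Fact.e i h j a => T (A (evw xs 24 h) (c i)) = A (evw xs 24 a) (c j)
  | Fact.s i l => A (xs l) (c i) = c i

/-- the operator of a list -/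
def Op : List (ℕ × ℕ) → Equiv.Perm Y
  | [] => 1
  | v :: vs => Op vs * (A (evw xs 24 v.1) * T)

variable {xs A T c} {φ : P →* Equiv.Perm ℕ} {L : ℕ → ℕ → ℕ} {dl : ℕ → ℕ} {m : ℕ} {FT : Tr Fact} {base : List ℕ}
  (hL : ∀ c, c < 4096 → ∀ i < m, φ (xs c) i = L c i ∧ L c i < m) (hdl : ∀ c, dl c < 4096)
  (hbase : ∀ b ∈ base, b < m) (hfaith : ∀ g, (∀ b ∈ base, φ g b = b) → g = 1)
  (hFc : ∀ f, (FT.get f).c < 4096)

theorem okS_sound {k i : ℕ} (hk : ∀ f < k, Holds xs A T c (FT.get f)) (n w : ℕ) (h : okS FT k i n w = true) :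
    A (evw (fun f => xs (FT.get f).c) n w) (c i) = c i := by
  induction n generalizing w with
  | zero => simp [evw]
  | succ n ih =>
    unfold okS at h
    unfold evw
    cases hw : Nat.beq w 0 with
    | true => simp
    | false =>
      rw [hw] at h
      simp only [cond_false, Bool.and_eq_true] at h ⊢
      obtain ⟨⟨h1, h2⟩, h3⟩ := h
      rw [map_mul, Equiv.Perm.mul_apply]
      have h4 := hk _ (by simpa [Nat.blt_eq] using h1)
      cases hF : FT.get (w % 4096) with
      | z => rw [hF] at h2; simp [isS] at h2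
      | e _ _ _ _ => rw [hF] at h2; simp [isS] at h2
      | s i' l =>
        rw [hF] at h2 h4
        simp only [isS, Nat.beq_eq] at h2
        have h5 : i' = i := h2
        subst h5
        rw [show (Fact.s i' l).c = l from rfl, show A (xs l) (c i') = c i' from h4]
        exact ih _ h3

variable (hT : T * T = 1) (hD : ∀ d, T * A (xs (dl d)) = A (xs (dl d)) * T)

include hD in
theorem D_comm (n w : ℕ) : T * A (evw (fun c => xs (dl c)) n w) = A (evw (fun c => xs (dl c)) n w) * T := by
  induction n generalizing w with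
  | zero => simp [evw]
  | succ n ih =>
    unfold evw
    cases Nat.beq w 0 with
    | true => simp
    | false =>
      simp only [cond_false]
      rw [map_mul, ← mul_assoc, ih, mul_assoc, hD, mul_assoc]

include hL hdl hbase hfaith hFc hT hD

theorem tstep_sound {k i : ℕ} (hk : ∀ f < k, Holds xs A T c (FT.get f)) {X : EX} {f s b j : ℕ} {X' : EX}
    (h : tstep L dl FT base k i X f s b = R.pt j X') : T (A (evX xs dl X) (c i)) = A (evX xs dl X') (c j) := by
  have hTT : ∀ y, T (T y) = y := fun y => by rw [← Equiv.Perm.mul_apply, hT]; rfl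
  unfold tstep at h
  cases hF : FT.get (f / 2) with
  | z => rw [hF] at h; simp at h
  | s _ _ => rw [hF] at h; simp at h
  | e ei eh ej ea =>
    rw [hF] at h
    simp only at h
    cases hc : (Nat.blt (f / 2) k && okS FT k i 24 s) with
    | false => rw [hc] at h; simp at h
    | true =>
      rw [hc] at h
      simp only [cond_true] at h
      rw [Bool.and_eq_true] at hc
      have h0 := hk _ (by simpa [Nat.blt_eq] using hc.1)
      rw [hF] at h0
      have h1 : A (evw (fun f => xs (FT.get f).c) 24 s) (c i) = c i := okS_sound hk 24 s hc.2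
      have key : ∀ w : ℕ, eqb (fun β => apX L dl X (apS L FT s β)) (fun β => apX L dl (EX.d b (EX.w w EX.nil)) β) base = true →
          A (evX xs dl X) (c i) = A (evw (fun c => xs (dl c)) 24 b) (A (evw xs 24 w) (c i)) := by
        intro w hw
        have h2 : evX xs dl X * evw (fun f => xs (FT.get f).c) 24 s = evX xs dl (EX.d b (EX.w w EX.nil)) := by
          refine eqP hbase hfaith (fun i hi => ?_) (fun i hi => (apX_sound hL hdl _ i hi).1) hw
          have h3 := ap_sound (xs := fun f => xs (FT.get f).c) (L := fun f => L (FT.get f).c) (fun f _ i hi => hL _ (hFc f) i hi) 24 s i hi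
          rw [map_mul, Equiv.Perm.mul_apply, h3.1]
          exact (apX_sound hL hdl X _ h3.2).1
        simp only [evX, mul_one] at h2
        rw [← Equiv.Perm.mul_apply, ← map_mul, ← h2, map_mul, Equiv.Perm.mul_apply, h1]
      have hb := D_comm hD 24 b
      cases hd : Nat.beq (f % 2) 0 with
      | true =>
        rw [hd] at h
        simp only [cond_true] at h
        cases hc2 : (Nat.beq ei i && eqb (fun β => apX L dl X (apS L FT s β)) (fun β => apX L dl (EX.d b (EX.w eh EX.nil)) β) base) with
        | false => rw [hc2] at h; simp at h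
        | true =>
          rw [hc2] at h
          simp only [cond_true, R.pt.injEq] at h
          obtain ⟨rfl, rfl⟩ := h
          simp only [Bool.and_eq_true, Nat.beq_eq] at hc2
          obtain ⟨hi, hq⟩ := hc2
          have hi' : ei = i := hi
          subst hi'
          rw [key eh hq, ← Equiv.Perm.mul_apply T, hb, Equiv.Perm.mul_apply]
          have : T (A (evw xs 24 eh) (c ei)) = A (evw xs 24 ea) (c ej) := h0
          rw [this]
          simp only [evX, mul_one, map_mul, Equiv.Perm.mul_apply]
      | false =>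
        rw [hd] at h
        simp only [cond_false] at h
        cases hc2 : (Nat.beq ej i && eqb (fun β => apX L dl X (apS L FT s β)) (fun β => apX L dl (EX.d b (EX.w ea EX.nil)) β) base) with
        | false => rw [hc2] at h; simp at h
        | true =>
          rw [hc2] at h
          simp only [cond_true, R.pt.injEq] at h
          obtain ⟨rfl, rfl⟩ := h
          simp only [Bool.and_eq_true, Nat.beq_eq] at hc2
          obtain ⟨hi, hq⟩ := hc2
          have hi' : ej = i := hi
          subst hi'
          rw [key ea hq, ← Equiv.Perm.mul_apply T, hb, Equiv.Perm.mul_apply]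
          have : T (A (evw xs 24 eh) (c ei)) = A (evw xs 24 ea) (c ej) := h0
          rw [← this, hTT]
          simp only [evX, mul_one, map_mul, Equiv.Perm.mul_apply]

theorem bwd_sound {k : ℕ} (hk : ∀ f < k, Holds xs A T c (FT.get f)) (vs : List (ℕ × ℕ))
    (hv : ∀ v ∈ vs, evw xs 24 v.1 * evw xs 24 v.2 = 1) (t : SL) {i : ℕ} {X : EX} {j : ℕ} {X' : EX}
    (h : bwd L dl FT base k vs t i X = R.pt j X') : Op xs A T vs (A (evX xs dl X') (c j)) = A (evX xs dl X) (c i) := by
  have hTT : ∀ y, T (T y) = y := fun y => by rw [← Equiv.Perm.mul_apply, hT]; rfl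
  induction vs generalizing t j X' with
  | nil =>
    unfold bwd at h
    simp only [R.pt.injEq] at h
    obtain ⟨rfl, rfl⟩ := h
    simp [Op]
  | cons v vs ih =>
    cases t with
    | z => simp [bwd] at h
    | c f s b t =>
      unfold bwd at h
      cases hb : bwd L dl FT base k vs t i X with
      | no => rw [hb] at h; simp at h
      | pt j1 X1 =>
        rw [hb] at h
        simp only at h
        have h1 := ih (fun v hv' => hv v (List.mem_cons_of_mem _ hv')) t hb
        have h2 := tstep_sound hL hdl hbase hfaith hFc hT hD hk h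
        rw [← h1]
        simp only [Op, Equiv.Perm.mul_apply]
        congr 1
        rw [← h2, hTT]
        simp only [evX, map_mul, Equiv.Perm.mul_apply]
        rw [← Equiv.Perm.mul_apply, ← map_mul, hv v (by simp)]
        simp

theorem ded_sound {k : ℕ} (hk : ∀ f < k, Holds xs A T c (FT.get f)) (vs : List (ℕ × ℕ))
    (hv : ∀ v ∈ vs, evw xs 24 v.1 * evw xs 24 v.2 = 1) (f : ℕ) {i : ℕ} {X : EX} (fw : SL) {j : ℕ} {Y' : EX} (bw : SL)
    (h0 : Op xs A T vs (A (evX xs dl X) (c i)) = A (evX xs dl Y') (c j)) :
    (∀ i' X' j' Y'', ded L dl FT base k vs f i X fw j Y' bw = R2.gap i' X' j' Y'' →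
      T (A (evX xs dl X') (c i')) = A (evX xs dl Y'') (c j')) ∧
    (∀ i' X' j' Y'', ded L dl FT base k vs f i X fw j Y' bw = R2.full i' X' j' Y'' →
      A (evX xs dl X') (c i') = A (evX xs dl Y'') (c j')) := by
  induction vs generalizing f i X fw with
  | nil =>
    refine ⟨fun i' X' j' Y'' h => by simp [ded] at h, fun i' X' j' Y'' h => ?_⟩
    unfold ded at h
    simp only [R2.full.injEq] at h
    obtain ⟨rfl, rfl, rfl, rfl⟩ := h
    simpa [Op] using h0
  | cons v vs ih =>
    cases f with
    | zero =>
      refine ⟨fun i' X' j' Y'' h => ?_, fun i' X' j' Y'' h => ?_⟩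
      · unfold ded at h
        cases hb : bwd L dl FT base k vs bw j Y' with
        | no => rw [hb] at h; simp at h
        | pt j1 Y1 =>
          rw [hb] at h
          simp only [R2.gap.injEq] at h
          obtain ⟨rfl, rfl, rfl, rfl⟩ := h
          have h1 := bwd_sound hL hdl hbase hfaith hFc hT hD hk vs (fun v hv' => hv v (List.mem_cons_of_mem _ hv')) bw hb
          rw [← h1] at h0
          simp only [Op, Equiv.Perm.mul_apply] at h0
          have h2 := (Op xs A T vs).injective h0
          simp only [evX, map_mul, Equiv.Perm.mul_apply]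
          have h9 : ∀ y, A (evw xs 24 v.2) (A (evw xs 24 v.1) y) = y := fun y => by
            rw [← Equiv.Perm.mul_apply, ← map_mul, mul_eq_one_comm.mp (hv v (by simp))]
            simp
          rw [← h2, h9]
      · unfold ded at h
        cases hb : bwd L dl FT base k vs bw j Y' with
        | no => rw [hb] at h; simp at h
        | pt j1 Y1 => rw [hb] at h; simp at h
    | succ f =>
      cases fw with
      | z => exact ⟨fun i' X' j' Y'' h => by simp [ded] at h, fun i' X' j' Y'' h => by simp [ded] at h⟩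
      | c e s b t =>
        cases ht : tstep L dl FT base k i X e s b with
        | no =>
          refine ⟨fun i' X' j' Y'' h => ?_, fun i' X' j' Y'' h => ?_⟩
          · unfold ded at h; rw [ht] at h; simp at h
          · unfold ded at h; rw [ht] at h; simp at h
        | pt i1 X1 =>
          have h1 := tstep_sound hL hdl hbase hfaith hFc hT hD hk ht
          have h2 : Op xs A T vs (A (evX xs dl (EX.w v.1 X1)) (c i1)) = A (evX xs dl Y') (c j) := by
            rw [← h0]
            simp only [Op, Equiv.Perm.mul_apply, h1, evX, map_mul]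
          have h3 := ih (fun v hv' => hv v (List.mem_cons_of_mem _ hv')) f t h2
          have h4 : ded L dl FT base k (v :: vs) (f + 1) i X (SL.c e s b t) j Y' bw = ded L dl FT base k vs f i1 (EX.w v.1 X1) t j Y' bw := by
            conv_lhs => unfold ded
            rw [ht]
          rw [h4]
          exact h3

omit hFc hT hD in
theorem fits_sound {F : Fact} {r : R2} (hFl : F.c < 4096) (h : fits L dl base F r = true)
    (h1 : ∀ i' X' j' Y'', r = R2.gap i' X' j' Y'' → T (A (evX xs dl X') (c i')) = A (evX xs dl Y'') (c j'))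
    (h2 : ∀ i' X' j' Y'', r = R2.full i' X' j' Y'' → A (evX xs dl X') (c i') = A (evX xs dl Y'') (c j')) :
    Holds xs A T c F := by
  cases F with
  | z => trivial
  | e i hh j a =>
    cases r with
    | no => simp [fits] at h
    | full _ _ _ _ => simp [fits] at h
    | gap i' X j' Z =>
      simp only [fits, Bool.and_eq_true, Nat.beq_eq] at h
      obtain ⟨⟨h3, h4⟩, h5, h6⟩ := h
      have h3' : i = i' := h3
      have h4' : j = j' := h4
      subst h3' h4'
      have h7 := h1 _ _ _ _ rfl
      have h8 : evX xs dl X = evw xs 24 hh := eqP hbase hfaith (fun i hi => (apX_sound hL hdl _ i hi).1)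
        (fun i hi => (ap_sound hL 24 hh i hi).1) h5
      have h9 : evX xs dl Z = evw xs 24 a := eqP hbase hfaith (fun i hi => (apX_sound hL hdl _ i hi).1)
        (fun i hi => (ap_sound hL 24 a i hi).1) h6
      rw [h8, h9] at h7
      exact h7
  | s i l =>
    cases r with
    | no => simp [fits] at h
    | gap _ _ _ _ => simp [fits] at h
    | full i' X j' Z =>
      simp only [fits, Bool.and_eq_true, Nat.beq_eq] at h
      obtain ⟨⟨h3, h4⟩, h5⟩ := h
      have h3' : i = i' := h3
      have h4' : i = j' := h4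
      subst h3' h4'
      have h7 := h2 _ _ _ _ rfl
      have h8 : evX xs dl Z * xs l = evX xs dl X := by
        refine eqP hbase hfaith (fun i hi => ?_) (fun i hi => (apX_sound hL hdl _ i hi).1) h5
        have h9 := hL l hFl i hi
        rw [map_mul, Equiv.Perm.mul_apply, h9.1]
        exact (apX_sound hL hdl _ _ h9.2).1
      rw [← h8, map_mul, Equiv.Perm.mul_apply] at h7
      exact (A (evX xs dl Z)).injective h7

variable {rels : List (List (ℕ × ℕ))} {nd : ℕ} {krel : List (ℕ × ℕ)} {kX kY : ℕ}
  (hrels : ∀ r, Op xs A T (nthR rels r) = 1) (hrv : ∀ r, ∀ v ∈ nthR rels r, evw xs 24 v.1 * evw xs 24 v.2 = 1)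
  (hkv : ∀ v ∈ krel, evw xs 24 v.1 * evw xs 24 v.2 = 1)
  (hkr : Op xs A T krel (A (evw xs 24 kX) (c 0)) = A (evw xs 24 kY) (c 0))
  (hdef : ∀ k < nd, Holds xs A T c (FT.get k)) (hini : ∀ l < 4, A (xs l) (c 0) = c 0)
include hrels hrv hkv hkr hdef hini

theorem chk1_sound {k : ℕ} (hk : ∀ f < k, Holds xs A T c (FT.get f)) {I : Item}
    (h : chk1 L dl FT base rels nd krel kX kY k (FT.get k) I = true) : Holds xs A T c (FT.get k) := by
  have hFl := hFc k
  cases hF : FT.get k with
  | z => trivial
  | e i hh j a =>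
    rw [hF] at h hFl
    cases I with
    | no => simp [chk1] at h
    | ini => simp [chk1] at h
    | pr _ _ => simp [chk1] at h
    | iv _ => simp [chk1] at h
    | df =>
      have := hdef k (by simpa [chk1, Nat.blt_eq] using h)
      rwa [hF] at this
    | rl r f i0 w fw bw =>
      have h' : fits L dl base (Fact.e i hh j a) (ded L dl FT base k (nthR rels r) f i0 (EX.w w EX.nil) fw i0 (EX.w w EX.nil) bw) = true := h
      have h3 := ded_sound hL hdl hbase hfaith hFc hT hD hk (nthR rels r) (hrv r) f (i := i0) (X := EX.w w EX.nil) fw (j := i0)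
        (Y' := EX.w w EX.nil) bw (by rw [hrels r]; rfl)
      exact fits_sound hL hdl hbase hfaith hFl h' h3.1 h3.2
    | kl f fw bw =>
      have h' : fits L dl base (Fact.e i hh j a) (ded L dl FT base k krel f 0 (EX.w kX EX.nil) fw 0 (EX.w kY EX.nil) bw) = true := h
      have h3 := ded_sound hL hdl hbase hfaith hFc hT hD hk krel hkv f (i := 0) (X := EX.w kX EX.nil) fw (j := 0)
        (Y' := EX.w kY EX.nil) bw (by simpa only [evX, mul_one] using hkr)
      exact fits_sound hL hdl hbase hfaith hFl h' h3.1 h3.2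
  | s i l =>
    rw [hF] at h hFl
    cases I with
    | no => simp [chk1] at h
    | df => simp [chk1] at h
    | ini =>
      simp only [chk1, Bool.and_eq_true, Nat.beq_eq, Nat.blt_eq] at h
      have h1 : i = 0 := h.1
      subst h1
      exact hini l h.2
    | pr p q =>
      simp only [chk1, Bool.and_eq_true, Nat.blt_eq] at h
      obtain ⟨⟨hp, hq⟩, ⟨hsp, hsq⟩, heq⟩ := h
      have hp' := hk p hp
      have hq' := hk q hq
      have hcp := hFc p
      have hcq := hFc q
      cases hFp : FT.get p with
      | z => rw [hFp] at hsp; simp [isS] at hsp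
      | e _ _ _ _ => rw [hFp] at hsp; simp [isS] at hsp
      | s ip lp =>
        cases hFq : FT.get q with
        | z => rw [hFq] at hsq; simp [isS] at hsq
        | e _ _ _ _ => rw [hFq] at hsq; simp [isS] at hsq
        | s iq lq =>
          rw [hFp] at hsp hp' heq hcp
          rw [hFq] at hsq hq' heq hcq
          simp only [isS, Nat.beq_eq] at hsp hsq
          have e1 : ip = i := hsp
          have e2 : iq = i := hsq
          subst e1
          have e3 : iq = ip := e2
          subst e3
          have h8 : xs l = xs lp * xs lq := by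
            refine eqP hbase hfaith (fun i hi => (hL l hFl i hi).1) (fun i hi => ?_) heq
            have h9 := hL lq hcq i hi
            rw [map_mul, Equiv.Perm.mul_apply, h9.1]
            exact (hL lp hcp _ h9.2).1
          show A (xs l) (c iq) = c iq
          rw [h8, map_mul, Equiv.Perm.mul_apply]
          rw [show A (xs lq) (c iq) = c iq from hq', show A (xs lp) (c iq) = c iq from hp']
    | iv p =>
      simp only [chk1, Bool.and_eq_true, Nat.blt_eq] at h
      obtain ⟨hp, hsp, heq⟩ := h
      have hp' := hk p hp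
      have hcp := hFc p
      cases hFp : FT.get p with
      | z => rw [hFp] at hsp; simp [isS] at hsp
      | e _ _ _ _ => rw [hFp] at hsp; simp [isS] at hsp
      | s ip lp =>
        rw [hFp] at hsp hp' heq hcp
        simp only [isS, Nat.beq_eq] at hsp
        have e1 : ip = i := hsp
        subst e1
        have h8 : xs l * xs lp = 1 := by
          refine eqP hbase hfaith (fun i hi => ?_) (fun i hi => by simp) heq
          have h9 := hL lp hcp i hi
          rw [map_mul, Equiv.Perm.mul_apply, h9.1]
          exact (hL l hFl _ h9.2).1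
        show A (xs l) (c ip) = c ip
        rw [eq_inv_of_mul_eq_one_left h8, map_inv, Equiv.Perm.inv_eq_iff_eq]
        exact (show A (xs lp) (c ip) = c ip from hp').symm
    | rl r f i0 w fw bw =>
      have h' : fits L dl base (Fact.s i l) (ded L dl FT base k (nthR rels r) f i0 (EX.w w EX.nil) fw i0 (EX.w w EX.nil) bw) = true := h
      have h3 := ded_sound hL hdl hbase hfaith hFc hT hD hk (nthR rels r) (hrv r) f (i := i0) (X := EX.w w EX.nil) fw (j := i0)
        (Y' := EX.w w EX.nil) bw (by rw [hrels r]; rfl)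
      exact fits_sound hL hdl hbase hfaith hFl h' h3.1 h3.2
    | kl f fw bw =>
      have h' : fits L dl base (Fact.s i l) (ded L dl FT base k krel f 0 (EX.w kX EX.nil) fw 0 (EX.w kY EX.nil) bw) = true := h
      have h3 := ded_sound hL hdl hbase hfaith hFc hT hD hk krel hkv f (i := 0) (X := EX.w kX EX.nil) fw (j := 0)
        (Y' := EX.w kY EX.nil) bw (by simpa only [evX, mul_one] using hkr)
      exact fits_sound hL hdl hbase hfaith hFl h' h3.1 h3.2

/-- all facts hold -/
theorem facts_hold {N : ℕ} (h : ∀ k < N, ∃ I, chk1 L dl FT base rels nd krel kX kY k (FT.get k) I = true) :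
    ∀ k < N, Holds xs A T c (FT.get k) := by
  intro k
  induction k using Nat.strong_induction_on with
  | _ k ih =>
    intro hk
    obtain ⟨I, hI⟩ := h k hk
    exact chk1_sound hL hdl hbase hfaith hFc hT hD hrels hrv hkv hkr hdef hini (fun f hf => ih f hf (by omega)) hI

end sound

theorem chkR_spec {L : ℕ → ℕ → ℕ} {dl : ℕ → ℕ} {FT : Tr Fact} {base : List ℕ} {rels : List (List (ℕ × ℕ))} {nd : ℕ}
    {krel : List (ℕ × ℕ)} {kX kY : ℕ} {FI : Tr Item} {lo n : ℕ} (h : chkR L dl FT base rels nd krel kX kY FI lo n = true) :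
    ∀ k, lo ≤ k → k < lo + n → ∃ I, chk1 L dl FT base rels nd krel kX kY k (FT.get k) I = true := by
  induction n with
  | zero => intro k h1 h2; omega
  | succ n ih =>
    simp only [chkR, Bool.and_eq_true] at h
    intro k h1 h2
    by_cases hk : k = lo + n
    · subst hk; exact ⟨_, h.1⟩
    · exact ih h.2 k h1 (by omega)

end Cfsg.Agent.Lib.J4E
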