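import Cfsg.Agent.Lib.J4Eng

/-!
# Double coset enumeration: letters, chains, coverage
-/

set_option autoImplicit false
set_option linter.all false

namespace Cfsg.Agent.Lib.J4E

/-! ### letters -/

/-- letters of a word are smaller than `c` -/
def lets (c : ℕ) : ℕ → ℕ → Bool
  | 0, w => true
  | n + 1, w => bif Nat.beq w 0 then true else Nat.blt (w % 4096) c && lets c n (w / 4096)

section letters
variable {P : Type*} [Group P]

/-- guarded value of a word -/
noncomputable def evg (c : ℕ) (f : (d : ℕ) → d < c → P) : ℕ → ℕ → P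
  | 0, _ => 1
  | n + 1, w => bif Nat.beq w 0 then 1 else evg c f n (w / 4096) * (if h : w % 4096 < c then f (w % 4096) h else 1)

/-- letters -/
noncomputable def xv (b : ℕ → P) (wd : ℕ → ℕ) (c : ℕ) : P :=
  if c < 4 then b c else evg c (fun d _ => xv b wd d) 24 (wd c)
termination_by c

theorem evg_eq {c : ℕ} {f : (d : ℕ) → d < c → P} {g : ℕ → P} (h : ∀ d (hd : d < c), f d hd = g d) (n w : ℕ)
    (hw : lets c n w = true) : evg c f n w = evw g n w := by
  induction n generalizing w with
  | zero => rfl
  | succ n ih =>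
    unfold evg evw
    unfold lets at hw
    cases hb : Nat.beq w 0 with
    | true => rfl
    | false =>
      rw [hb] at hw
      simp only [cond_false, Bool.and_eq_true, Nat.blt_eq] at hw ⊢
      rw [ih _ hw.2, dif_pos hw.1, h]

theorem xv_lt (b : ℕ → P) (wd : ℕ → ℕ) {c : ℕ} (hc : c < 4) : xv b wd c = b c := by
  rw [xv, if_pos hc]

theorem xv_ge (b : ℕ → P) (wd : ℕ → ℕ) {c : ℕ} (hc : ¬ c < 4) (hl : lets c 24 (wd c) = true) :
    xv b wd c = evw (xv b wd) 24 (wd c) := by
  rw [xv, if_neg hc]
  exact evg_eq (g := xv b wd) (fun d _ => by rw [xv]) 24 _ hl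

end letters

/-- check of the points of a letter -/
def chkP (L : ℕ → ℕ → ℕ) (m c w : ℕ) : ℕ → Bool
  | 0 => true
  | i + 1 => (Nat.beq (L c i) (ap L 24 w i) && Nat.blt (L c i) m) && chkP L m c w i

/-- check of letters `lo .. lo+n-1` -/
def chkL (L : ℕ → ℕ → ℕ) (wd : ℕ → ℕ) (m lo : ℕ) : ℕ → Bool
  | 0 => true
  | n + 1 => (lets (lo + n) 24 (wd (lo + n)) && chkP L m (lo + n) (wd (lo + n)) m) && chkL L wd m lo n

theorem chkP_spec {L : ℕ → ℕ → ℕ} {m c w n : ℕ} (h : chkP L m c w n = true) : ∀ i < n, L c i = ap L 24 w i ∧ L c i < m := by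
  induction n with
  | zero => intro i hi; omega
  | succ n ih =>
    simp only [chkP, Bool.and_eq_true, Nat.beq_eq, Nat.blt_eq] at h
    intro i hi
    rcases Nat.lt_succ_iff_lt_or_eq.mp hi with hi | rfl
    · exact ih h.2 i hi
    · exact h.1

theorem chkL_spec {L : ℕ → ℕ → ℕ} {wd : ℕ → ℕ} {m lo n : ℕ} (h : chkL L wd m lo n = true) : ∀ c, lo ≤ c → c < lo + n →
    lets c 24 (wd c) = true ∧ ∀ i < m, L c i = ap L 24 (wd c) i ∧ L c i < m := by
  induction n with
  | zero => intro c h1 h2; omega
  | succ n ih =>
    simp only [chkL, Bool.and_eq_true] at h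
    intro c h1 h2
    by_cases hc : c = lo + n
    · subst hc; exact ⟨h.1.1, chkP_spec h.1.2⟩
    · exact ih h.2 c h1 (by omega)

section act
variable {P : Type*} [Group P] {xs : ℕ → P} {φ : P →* Equiv.Perm ℕ} {L : ℕ → ℕ → ℕ} {m : ℕ}

theorem ap_sound' {nU : ℕ} (hL : ∀ c, c < nU → ∀ i < m, φ (xs c) i = L c i ∧ L c i < m) (n w i : ℕ) (hw : lets nU n w = true)
    (hi : i < m) : φ (evw xs n w) i = ap L n w i ∧ ap L n w i < m := by
  induction n generalizing w i with
  | zero => exact ⟨by simp [evw, ap], hi⟩
  | succ n ih =>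
    unfold evw ap
    unfold lets at hw
    cases hb : Nat.beq w 0 with
    | true => exact ⟨by simp, by simpa using hi⟩
    | false =>
      rw [hb] at hw
      simp only [cond_false, Bool.and_eq_true, Nat.blt_eq] at hw ⊢
      have h1 := hL (w % 4096) hw.1 i hi
      have h2 := ih (w / 4096) (L (w % 4096) i) hw.2 h1.2
      refine ⟨?_, h2.2⟩
      rw [map_mul, Equiv.Perm.mul_apply, h1.1, h2.1]

/-- all letters act by their tables -/
theorem act_all {b : ℕ → P} {wd : ℕ → ℕ} {nU : ℕ} (h4 : ∀ c < 4, ∀ i < m, φ (b c) i = L c i ∧ L c i < m)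
    (hU : ∀ c, 4 ≤ c → c < nU → lets c 24 (wd c) = true ∧ ∀ i < m, L c i = ap L 24 (wd c) i ∧ L c i < m) :
    ∀ c, c < nU → ∀ i < m, φ (xv b wd c) i = L c i ∧ L c i < m := by
  intro c
  induction c using Nat.strong_induction_on with
  | _ c ih =>
    intro hc i hi
    by_cases h : c < 4
    · rw [xv_lt b wd h]; exact h4 c h i hi
    · obtain ⟨h1, h2⟩ := hU c (not_lt.mp h) hc
      rw [xv_ge b wd h h1]
      have h3 := ap_sound' (xs := xv b wd) (φ := φ) (L := L) (m := m) (nU := c) (fun d hd i hi => ih d hd (by omega) i hi) 24 (wd c) i h1 hi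
      rw [h3.1]
      exact ⟨(h2 i hi).1.symm, (h2 i hi).2⟩

end act

/-! ### growth -/

/-- grow a mask: points coded by digits `q + 1` in base `B` -/
def grow (E : ℕ → ℕ) (B : ℕ) : ℕ → ℕ → ℕ → ℕ → Option (ℕ × ℕ)
  | 0, l, M, n => some (M, n)
  | k + 1, l, M, n => bif Nat.beq l 0 then some (M, n) else
      bif Nat.testBit M (l % B - 1) && !(Nat.testBit M (E (l % B - 1))) then
        grow E B k (l / B) (M ||| 2 ^ (E (l % B - 1))) (n + 1) else none

theorem testBit_or (M q j : ℕ) : (M ||| 2 ^ q).testBit j = true ↔ M.testBit j = true ∨ q = j := by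
  simp [Nat.testBit_or, Nat.testBit_two_pow]

theorem grow_sound {E : ℕ → ℕ} {B m : ℕ} {Q : ℕ → Prop} (hE : ∀ q < m, Q q → E q < m ∧ Q (E q)) (k l : ℕ) {M n M' n' : ℕ}
    {F : Finset ℕ} (hF : F.card = n) (hMF : ∀ q, M.testBit q = true ↔ q ∈ F) (hFQ : ∀ q ∈ F, q < m ∧ Q q)
    (h : grow E B k l M n = some (M', n')) :
    ∃ F' : Finset ℕ, F'.card = n' ∧ (∀ q, M'.testBit q = true ↔ q ∈ F') ∧ ∀ q ∈ F', q < m ∧ Q q := by
  induction k generalizing l M n F with
  | zero => simp only [grow, Option.some.injEq, Prod.mk.injEq] at h; obtain ⟨rfl, rfl⟩ := h; exact ⟨F, hF, hMF, hFQ⟩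
  | succ k ih =>
    unfold grow at h
    cases hl : Nat.beq l 0 with
    | true =>
      rw [hl] at h
      simp only [cond_true, Option.some.injEq, Prod.mk.injEq] at h
      obtain ⟨rfl, rfl⟩ := h
      exact ⟨F, hF, hMF, hFQ⟩
    | false =>
      rw [hl] at h
      simp only [cond_false] at h
      cases hc : (Nat.testBit M (l % B - 1) && !(Nat.testBit M (E (l % B - 1)))) with
      | false => rw [hc] at h; simp at h
      | true =>
        rw [hc] at h
        simp only [cond_true] at h
        simp only [Bool.and_eq_true, Bool.not_eq_true'] at hc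
        have h1 := hFQ _ ((hMF _).mp hc.1)
        have h2 := hE _ h1.1 h1.2
        have h4 : E (l % B - 1) ∉ F := fun h' => by
          rw [(hMF _).mpr h'] at hc; simp at hc
        refine ih (l / B) (M := M ||| 2 ^ (E (l % B - 1))) (n := n + 1) (F := insert (E (l % B - 1)) F) ?_ ?_ ?_ h
        · rw [Finset.card_insert_of_notMem h4, hF]
        · intro j
          rw [testBit_or, Finset.mem_insert, hMF]
          constructor
          · rintro (h | h)
            · exact Or.inr h
            · exact Or.inl h.symm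
          · rintro (h | h)
            · exact Or.inr h.symm
            · exact Or.inl h
        · intro j hj
          rcases Finset.mem_insert.mp hj with rfl | hj
          · exact h2
          · exact hFQ j hj

/-- growth with several words -/
def growG (E : ℕ → ℕ → ℕ) (V : ℕ → Bool) (B : ℕ) (fuel : ℕ) (prev : List ℕ) : List (ℕ × ℕ) → ℕ → ℕ → Option (ℕ × ℕ)
  | [], M, n => some (M, n)
  | g :: l, M, n => bif V g.1 && eqb (E g.1) (fun β => β) prev then
      match grow (E g.1) B fuel g.2 M n with
      | none => none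
      | some p => growG E V B fuel prev l p.1 p.2 else none

/-- a stage -/
structure Stage where
  b : ℕ
  g : List (ℕ × ℕ)

/-- lower bound for the order -/
def chain (E : ℕ → ℕ → ℕ) (V : ℕ → Bool) (m : ℕ) : List ℕ → List Stage → Option ℕ
  | _, [] => some 1
  | prev, s :: l => bif Nat.blt s.b m then
      match growG E V 32 32 prev s.g (2 ^ s.b) 1 with
      | none => none
      | some p => match chain E V m (s.b :: prev) l with
        | none => none
        | some r => some (p.2 * r)
      else none

/-- base points of a chain -/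
def chainB : List ℕ → List Stage → List ℕ
  | prev, [] => prev
  | prev, s :: l => chainB (s.b :: prev) l

section chain
variable {P : Type*} [Group P] {φ : P →* Equiv.Perm ℕ} {m : ℕ}

/-- fixing a list of points -/
def fixL (φ : P →* Equiv.Perm ℕ) (K : Subgroup P) (bs : List ℕ) : Subgroup P where
  carrier := {g | g ∈ K ∧ ∀ b ∈ bs, φ g b = b}
  one_mem' := ⟨K.one_mem, fun b _ => by simp⟩
  mul_mem' := by
    rintro x y ⟨hx, hx'⟩ ⟨hy, hy'⟩
    exact ⟨K.mul_mem hx hy, fun b hb => by rw [map_mul, Equiv.Perm.mul_apply, hy' b hb, hx' b hb]⟩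
  inv_mem' := by
    rintro x ⟨hx, hx'⟩
    exact ⟨K.inv_mem hx, fun b hb => by rw [map_inv, Equiv.Perm.inv_eq_iff_eq, hx' b hb]⟩

theorem card_step [Finite P] (K : Subgroup P) (b : ℕ) (F : Finset ℕ) (hF : ∀ q ∈ F, ∃ g ∈ K, φ g b = q) :
    F.card * Nat.card (fixL φ K [b]) ≤ Nat.card K := by
  classical
  choose! g hg hgb using hF
  have hinj : Function.Injective (fun p : F × fixL φ K [b] => (⟨g p.1 * p.2, K.mul_mem (hg _ p.1.2) p.2.2.1⟩ : K)) := by
    rintro ⟨⟨q, hq⟩, ⟨h, hh⟩⟩ ⟨⟨q', hq'⟩, ⟨h', hh'⟩⟩ he
    simp only [Subtype.mk.injEq] at he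
    have h1 : φ (g q * h) b = q := by rw [map_mul, Equiv.Perm.mul_apply, hh.2 b (by simp), hgb q hq]
    have h2 : φ (g q' * h') b = q' := by rw [map_mul, Equiv.Perm.mul_apply, hh'.2 b (by simp), hgb q' hq']
    have h3 : q = q' := by rw [← h1, ← h2, he]
    subst h3
    have h4 := mul_left_cancel he
    subst h4; rfl
  have := Nat.card_le_card_of_injective _ hinj
  rwa [Nat.card_prod, Nat.card_eq_fintype_card (α := F), Fintype.card_coe] at this

variable {E : ℕ → ℕ → ℕ} {V : ℕ → Bool} {K : Subgroup P} {el : ℕ → P}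
  (hV : ∀ w, V w = true → el w ∈ K ∧ ∀ i < m, φ (el w) i = E w i ∧ E w i < m)
include hV

theorem growG_sound {B fuel : ℕ} {prev : List ℕ} (hprev : ∀ b ∈ prev, b < m) {Q : ℕ → Prop}
    (hQ : ∀ g ∈ fixL φ K prev, ∀ q, q < m → Q q → Q (φ g q)) (l : List (ℕ × ℕ)) {M n M' n' : ℕ} {F : Finset ℕ}
    (hF : F.card = n) (hMF : ∀ q, M.testBit q = true ↔ q ∈ F) (hFQ : ∀ q ∈ F, q < m ∧ Q q)
    (h : growG E V B fuel prev l M n = some (M', n')) :
    ∃ F' : Finset ℕ, F'.card = n' ∧ (∀ q, M'.testBit q = true ↔ q ∈ F') ∧ ∀ q ∈ F', q < m ∧ Q q := by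
  induction l generalizing M n F with
  | nil => simp only [growG, Option.some.injEq, Prod.mk.injEq] at h; obtain ⟨rfl, rfl⟩ := h; exact ⟨F, hF, hMF, hFQ⟩
  | cons g l ih =>
    unfold growG at h
    cases hc : (V g.1 && eqb (E g.1) (fun β => β) prev) with
    | false => rw [hc] at h; simp at h
    | true =>
      rw [hc] at h; simp only [cond_true] at h
      simp only [Bool.and_eq_true] at hc
      obtain ⟨h1, h2⟩ := hc
      obtain ⟨hK, hE⟩ := hV _ h1
      rw [eqb_iff] at h2
      have hfix : el g.1 ∈ fixL φ K prev := ⟨hK, fun b hb => by rw [(hE b (hprev b hb)).1, h2 b hb]⟩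
      cases hg : grow (E g.1) B fuel g.2 M n with
      | none => rw [hg] at h; simp at h
      | some p =>
        rw [hg] at h; simp only at h
        obtain ⟨p1, p2⟩ := p
        obtain ⟨F1, a1, a2, a3⟩ := grow_sound (E := E g.1) (B := B) (m := m) (Q := Q)
          (fun q hq hQq => ⟨(hE q hq).2, by rw [← (hE q hq).1]; exact hQ _ hfix q hq hQq⟩) fuel g.2 hF hMF hFQ hg
        exact ih a1 a2 a3 h

theorem chain_sound [Finite P] (l : List Stage) {prev : List ℕ} (hprev : ∀ b ∈ prev, b < m) {r : ℕ}
    (h : chain E V m prev l = some r) : r * Nat.card (fixL φ K (chainB prev l)) ≤ Nat.card (fixL φ K prev) := by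
  induction l generalizing prev r with
  | nil => simp only [chain, Option.some.injEq] at h; subst h; rw [one_mul, chainB]
  | cons s l ih =>
    unfold chain at h
    cases hb : Nat.blt s.b m with
    | false => rw [hb] at h; simp at h
    | true =>
      rw [hb] at h; simp only [cond_true] at h
      have hb' : s.b < m := by simpa [Nat.blt_eq] using hb
      cases hg : growG E V 32 32 prev s.g (2 ^ s.b) 1 with
      | none => rw [hg] at h; simp at h
      | some p =>
        rw [hg] at h; simp only at h
        cases hr : chain E V m (s.b :: prev) l with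
        | none => rw [hr] at h; simp at h
        | some r' =>
          rw [hr] at h; simp only [Option.some.injEq] at h
          subst h
          obtain ⟨p1, p2⟩ := p
          have h1 := ih (prev := s.b :: prev) (by
            intro b hb2
            rcases List.mem_cons.mp hb2 with rfl | hb2
            · exact hb'
            · exact hprev b hb2) hr
          obtain ⟨F, a1, a2, a3⟩ := growG_sound hV hprev (Q := fun q => ∃ g ∈ fixL φ K prev, φ g s.b = q) (by
            rintro g hg q _ ⟨g', hg', rfl⟩
            exact ⟨g * g', Subgroup.mul_mem _ hg hg', by rw [map_mul]; rfl⟩) s.g (F := {s.b}) (by simp) (by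
            intro q; simp [Nat.testBit_two_pow, eq_comm]) (by
            intro q hq
            rw [Finset.mem_singleton] at hq; subst hq
            exact ⟨hb', 1, Subgroup.one_mem _, by simp⟩) hg
          have h2 := card_step (φ := φ) (fixL φ K prev) s.b F (fun q hq => (a3 q hq).2)
          rw [a1] at h2
          show p2 * r' * _ ≤ _
          rw [mul_assoc]
          refine le_trans (Nat.mul_le_mul_left _ (le_trans h1 ?_)) h2
          apply Nat.card_mono (Set.toFinite _)
          rintro g ⟨hg1, hg2⟩
          exact ⟨⟨hg1, fun b hb => hg2 b (by simp [hb])⟩, fun b hb => by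
            rw [List.mem_singleton] at hb; subst hb; exact hg2 _ (by simp)⟩

/-- lower bound for the order of a subgroup -/
theorem chain_ge [Finite P] (l : List Stage) {r : ℕ} (h : chain E V m [] l = some r) : r ≤ Nat.card K := by
  have h1 := chain_sound hV l (prev := []) (by simp) h
  have h3 : 0 < Nat.card (fixL φ K (chainB [] l)) := Nat.card_pos
  have h4 : Nat.card (fixL φ K []) ≤ Nat.card K := by
    apply Nat.card_mono (Set.toFinite _)
    rintro g ⟨hg1, hg2⟩
    exact hg1
  exact le_trans (Nat.le_mul_of_pos_right r h3) (le_trans h1 h4)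

/-- the chain is a base if the order is known -/
theorem chain_faith [Finite P] (hKt : K = ⊤) (l : List Stage) {r : ℕ} (h : chain E V m [] l = some r)
    (hcard : Nat.card P ≤ r) : Nat.card P = r ∧ ∀ g, (∀ b ∈ chainB [] l, φ g b = b) → g = 1 := by
  have h1 := chain_sound hV l (prev := []) (by simp) h
  have h2 : Nat.card (fixL φ K []) ≤ Nat.card P := Subgroup.card_le_card_group _
  have h3 : 0 < Nat.card (fixL φ K (chainB [] l)) := Nat.card_pos
  have h0 : 0 < Nat.card P := Nat.card_pos
  have hr : 0 < r := lt_of_lt_of_le h0 hcard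
  have h4 : Nat.card (fixL φ K (chainB [] l)) = 1 := by
    have : r * Nat.card (fixL φ K (chainB [] l)) ≤ r * 1 := by
      rw [mul_one]; exact le_trans h1 (le_trans h2 hcard)
    have := Nat.le_of_mul_le_mul_left this hr
    omega
  refine ⟨le_antisymm hcard ?_, ?_⟩
  · rw [h4, mul_one] at h1
    exact le_trans h1 h2
  · intro g hg
    have h5 : (⟨g, hKt ▸ trivial, hg⟩ : fixL φ K (chainB [] l)) = 1 := by
      have := Nat.card_eq_one_iff_unique.mp h4
      exact this.1.elim _ _
    exact congrArg Subtype.val h5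

end chain

/-! ### coverage -/

section cover
variable (L : ℕ → ℕ → ℕ) (L3 : ℕ → ℕ → ℕ) (nU : ℕ) (FT : Tr Fact) (base : List ℕ) (N k mo pt : ℕ)

/-- element of an edge at an end -/
def endW (i : ℕ) : Fact → ℕ → Option ℕ
  | Fact.e ei eh ej ea, d => bif Nat.beq d 0 then (bif Nat.beq ei i && Nat.blt ej k then some eh else none) else
      (bif Nat.beq ej i && Nat.blt ei k then some ea else none)
  | _, _ => none

/-- roots of the coverage: digits in base `2^24` are `4096 * f + q` with `f = 2 * index + direction`, `q + 1` -/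
def roots (i : ℕ) : List (ℕ × ℕ) → ℕ → Option ℕ
  | [], M => some M
  | p :: l, M => match endW k i (FT.get (p.1 / 2)) (p.1 % 2) with
    | none => none
    | some w => bif (Nat.blt (p.1 / 2) N && Nat.blt p.2 mo) && (lets nU 24 w && Nat.beq (ap L3 24 w p.2) pt) then
        roots i l (M ||| 2 ^ p.2) else none

/-- growth by stabilizer facts: `(fact, word, points)` -/
def growS (i : ℕ) : List (ℕ × ℕ × ℕ) → ℕ → Option ℕ
  | [], M => some M
  | g :: l, M => bif (Nat.blt g.1 N && isS i (FT.get g.1)) && (lets nU 24 g.2.1 &&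
        eqb (L (FT.get g.1).c) (ap L 24 g.2.1) base) then
      match grow (ap L3 24 g.2.1) 4096 4096 g.2.2 M 0 with
      | none => none
      | some p => growS i l p.1 else none

/-- coverage of an orbit -/
def cover (i : ℕ) (r : List (ℕ × ℕ)) (g : List (ℕ × ℕ × ℕ)) : Bool :=
  match roots L3 nU FT N k mo pt i r 0 with
  | none => false
  | some M => match growS L L3 nU FT base N i g M with
    | none => false
    | some M' => Nat.beq M' (2 ^ mo - 1)

end cover

section main
variable {P : Type*} [Group P] {xs : ℕ → P} {φ φ2 : P →* Equiv.Perm ℕ} {L L3 : ℕ → ℕ → ℕ} {m : ℕ}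
  {Y : Type*} {A : P →* Equiv.Perm Y} {T : Equiv.Perm Y} {c : ℕ → Y} {FT : Tr Fact} {base : List ℕ} {N k mo pt nU : ℕ}

/-- reached from an edge -/
def Good (A : P →* Equiv.Perm Y) (T : Equiv.Perm Y) (c : ℕ → Y) (φ2 : P →* Equiv.Perm ℕ) (k pt i q : ℕ) : Prop :=
  ∃ (g a : P) (j : ℕ), j < k ∧ T (A g (c i)) = A a (c j) ∧ ∃ q0, φ2 g q0 = pt ∧ ∃ s, A s (c i) = c i ∧ φ2 s q0 = q

variable (hL : ∀ c, c < 4096 → ∀ i < m, φ (xs c) i = L c i ∧ L c i < m)
  (hL3 : ∀ c, c < nU → ∀ i < mo, φ2 (xs c) i = L3 c i ∧ L3 c i < mo)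
  (hbase : ∀ b ∈ base, b < m) (hfaith : ∀ g, (∀ b ∈ base, φ g b = b) → g = 1) (hFc : ∀ f, (FT.get f).c < 4096)
  (hF : ∀ f < N, Holds xs A T c (FT.get f)) (hT : T * T = 1)
include hL hL3 hbase hfaith hFc hF hT

theorem roots_sound {i : ℕ} (l : List (ℕ × ℕ)) {M M' : ℕ} (hM : ∀ q, M.testBit q = true → q < mo ∧ Good A T c φ2 k pt i q)
    (h : roots L3 nU FT N k mo pt i l M = some M') : ∀ q, M'.testBit q = true → q < mo ∧ Good A T c φ2 k pt i q := by
  have hTT : ∀ y, T (T y) = y := fun y => by rw [← Equiv.Perm.mul_apply, hT]; rfl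
  induction l generalizing M with
  | nil => simp only [roots, Option.some.injEq] at h; subst h; exact hM
  | cons p l ih =>
    unfold roots at h
    cases hE : endW k i (FT.get (p.1 / 2)) (p.1 % 2) with
    | none => rw [hE] at h; simp at h
    | some w =>
      rw [hE] at h; simp only at h
      cases hc : ((Nat.blt (p.1 / 2) N && Nat.blt p.2 mo) && (lets nU 24 w && Nat.beq (ap L3 24 w p.2) pt)) with
      | false => rw [hc] at h; simp at h
      | true =>
        rw [hc] at h; simp only [cond_true] at h
        simp only [Bool.and_eq_true, Nat.beq_eq, Nat.blt_eq] at hc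
        obtain ⟨⟨h1, h2⟩, h3, h4⟩ := hc
        have hH := hF _ h1
        have key : ∃ (a : P) (j : ℕ), j < k ∧ T (A (evw xs 24 w) (c i)) = A a (c j) := by
          cases hFF : FT.get (p.1 / 2) with
          | z => rw [hFF] at hE; simp [endW] at hE
          | s _ _ => rw [hFF] at hE; simp [endW] at hE
          | e ei eh ej ea =>
            rw [hFF] at hE hH
            unfold endW at hE
            simp only at hE
            cases hd : Nat.beq (p.1 % 2) 0 with
            | true =>
              rw [hd] at hE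
              simp only [cond_true] at hE
              cases hc2 : (Nat.beq ei i && Nat.blt ej k) with
              | false => rw [hc2] at hE; simp at hE
              | true =>
                rw [hc2] at hE
                simp only [cond_true, Option.some.injEq] at hE
                simp only [Bool.and_eq_true, Nat.beq_eq, Nat.blt_eq] at hc2
                obtain ⟨hi, hj⟩ := hc2
                have hi' : ei = i := hi
                subst hi' hE
                exact ⟨_, ej, hj, hH⟩
            | false =>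
              rw [hd] at hE
              simp only [cond_false] at hE
              cases hc2 : (Nat.beq ej i && Nat.blt ei k) with
              | false => rw [hc2] at hE; simp at hE
              | true =>
                rw [hc2] at hE
                simp only [cond_true, Option.some.injEq] at hE
                simp only [Bool.and_eq_true, Nat.beq_eq, Nat.blt_eq] at hc2
                obtain ⟨hi, hj⟩ := hc2
                have hi' : ej = i := hi
                subst hi' hE
                refine ⟨evw xs 24 eh, ei, hj, ?_⟩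
                have hH' : T (A (evw xs 24 eh) (c ei)) = A (evw xs 24 ea) (c ej) := hH
                rw [← hH', hTT]
        refine ih ?_ h
        intro q hq
        rw [testBit_or] at hq
        rcases hq with hq | rfl
        · exact hM q hq
        · obtain ⟨a, j, hj, hk⟩ := key
          refine ⟨h2, evw xs 24 w, a, j, hj, hk, p.2, ?_, 1, by simp, by simp⟩
          rw [(ap_sound' hL3 24 w p.2 h3 h2).1]; exact h4

theorem growS_sound {i : ℕ} (l : List (ℕ × ℕ × ℕ)) {M M' : ℕ} (hM : ∀ q, M.testBit q = true → q < mo ∧ Good A T c φ2 k pt i q)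
    (h : growS L L3 nU FT base N i l M = some M') : ∀ q, M'.testBit q = true → q < mo ∧ Good A T c φ2 k pt i q := by
  induction l generalizing M with
  | nil => simp only [growS, Option.some.injEq] at h; subst h; exact hM
  | cons g l ih =>
    unfold growS at h
    cases hc : ((Nat.blt g.1 N && isS i (FT.get g.1)) && (lets nU 24 g.2.1 && eqb (L (FT.get g.1).c) (ap L 24 g.2.1) base)) with
    | false => rw [hc] at h; simp at h
    | true =>
      rw [hc] at h; simp only [cond_true] at h
      simp only [Bool.and_eq_true, Nat.blt_eq] at hc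
      obtain ⟨⟨h1, h2⟩, h3, h4⟩ := hc
      have hH := hF _ h1
      have hA : A (evw xs 24 g.2.1) (c i) = c i := by
        cases hFF : FT.get g.1 with
        | z => rw [hFF] at h2; simp [isS] at h2
        | e _ _ _ _ => rw [hFF] at h2; simp [isS] at h2
        | s i' l' =>
          have hcl := hFc g.1
          rw [hFF] at h2 hH h4 hcl
          simp only [isS, Nat.beq_eq] at h2
          have e1 : i' = i := h2
          subst e1
          have h8 : xs l' = evw xs 24 g.2.1 := eqP hbase hfaith (fun i hi => (hL l' hcl i hi).1)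
            (fun i hi => (ap_sound hL 24 g.2.1 i hi).1) h4
          rw [← h8]; exact hH
      cases hg : grow (ap L3 24 g.2.1) 4096 4096 g.2.2 M 0 with
      | none => rw [hg] at h; simp at h
      | some p =>
        rw [hg] at h; simp only at h
        refine ih ?_ h
        have hw : ∀ (n l M n' : ℕ) (p : ℕ × ℕ), (∀ q, M.testBit q = true → q < mo ∧ Good A T c φ2 k pt i q) →
            grow (ap L3 24 g.2.1) 4096 n l M n' = some p → ∀ q, p.1.testBit q = true → q < mo ∧ Good A T c φ2 k pt i q := by
          intro n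
          induction n with
          | zero => intro l M n' p hM h; simp only [grow, Option.some.injEq] at h; subst h; exact hM
          | succ n ihn =>
            intro l M n' p hM h
            unfold grow at h
            cases hl : Nat.beq l 0 with
            | true => rw [hl] at h; simp only [cond_true, Option.some.injEq] at h; subst h; exact hM
            | false =>
              rw [hl] at h
              simp only [cond_false] at h
              cases hd : (Nat.testBit M (l % 4096 - 1) && !(Nat.testBit M (ap L3 24 g.2.1 (l % 4096 - 1)))) with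
              | false => rw [hd] at h; simp at h
              | true =>
                rw [hd] at h; simp only [cond_true] at h
                simp only [Bool.and_eq_true] at hd
                refine ihn _ _ _ _ ?_ h
                intro j hj
                rw [testBit_or] at hj
                rcases hj with hj | rfl
                · exact hM j hj
                · obtain ⟨k1, gg, a, jj, k2, k3, q0, k4, s, k5, k6⟩ := hM _ hd.1
                  obtain ⟨k7, k8⟩ := ap_sound' hL3 24 g.2.1 _ h3 k1
                  refine ⟨k8, gg, a, jj, k2, k3, q0, k4, evw xs 24 g.2.1 * s, ?_, ?_⟩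
                  · rw [map_mul, Equiv.Perm.mul_apply, k5, hA]
                  · rw [map_mul, Equiv.Perm.mul_apply, k6, k7]
        exact hw _ _ _ _ _ hM hg

theorem cover_sound {i : ℕ} {r : List (ℕ × ℕ)} {g : List (ℕ × ℕ × ℕ)}
    (h : cover L L3 nU FT base N k mo pt i r g = true) : ∀ q < mo, Good A T c φ2 k pt i q := by
  unfold cover at h
  cases hr : roots L3 nU FT N k mo pt i r 0 with
  | none => rw [hr] at h; simp at h
  | some M =>
    rw [hr] at h; simp only at h
    cases hg : growS L L3 nU FT base N i g M with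
    | none => rw [hg] at h; simp at h
    | some M' =>
      rw [hg] at h; simp only [Nat.beq_eq] at h
      have h1 := roots_sound hL hL3 hbase hfaith hFc hF hT r (M := 0) (i := i) (pt := pt) (k := k) (by simp) hr
      have h2 := growS_sound hL hL3 hbase hfaith hFc hF hT g h1 hg
      intro q hq
      refine (h2 q ?_).2
      have h' : M' = 2 ^ mo - 1 := h
      rw [h', Nat.testBit_two_pow_sub_one]
      exact decide_eq_true hq

omit hL hL3 hbase hfaith hFc hF hT
omit φ L L3 FT base nU N m xs in
/-- all points are reached, and the upper bound -/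
theorem card_le [Finite P] (hT : T * T = 1) (hm : ∀ g i, i < mo → φ2 g i < mo) (hpt : pt < mo)
    (hcov : ∀ i < k, ∀ q < mo, Good A T c φ2 k pt i q) (hB : ∀ g, φ2 g pt = pt → T * A g = A g * T) (hk : 0 < k)
    (htr : ∀ S : Set Y, c 0 ∈ S → (∀ p, ∀ y ∈ S, A p y ∈ S) → (∀ y ∈ S, T y ∈ S) → ∀ y, y ∈ S)
    (r : ℕ → ℕ) (hr : ∀ i < k, ∀ K : Subgroup P, (∀ s, A s (c i) = c i → s ∈ K) → r i ≤ Nat.card K)
    (n : ℕ → ℕ) (hn : ∀ i < k, Nat.card P ≤ n i * r i) (hr0 : ∀ i < k, 0 < r i) :
    Finite Y ∧ Nat.card Y ≤ ∑ i : Fin k, n i := by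
  classical
  have hs : ∀ y, ∃ p i, i < k ∧ y = A p (c i) := by
    refine htr {y | ∃ p i, i < k ∧ y = A p (c i)} ⟨1, 0, hk, by simp⟩ ?_ ?_
    · rintro p y ⟨p', i, hi, rfl⟩
      exact ⟨p * p', i, hi, by rw [map_mul, Equiv.Perm.mul_apply]⟩
    · rintro y ⟨p, i, hi, rfl⟩
      obtain ⟨g, a, j, hj, h1, q0, h2, s, h3, h4⟩ := hcov i hi (φ2 p⁻¹ pt) (hm _ _ hpt)
      have h5 : φ2 (p * s * g⁻¹) pt = pt := by
        rw [map_mul, map_mul, Equiv.Perm.mul_apply, Equiv.Perm.mul_apply, map_inv]
        have : (φ2 g)⁻¹ pt = q0 := by rw [Equiv.Perm.inv_eq_iff_eq, h2]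
        rw [this, h4, map_inv]
        exact (φ2 p).apply_symm_apply _
      have h6 := hB _ h5
      refine ⟨p * s * g⁻¹ * a, j, hj, ?_⟩
      have h7 : A p (c i) = A (p * s * g⁻¹) (A g (c i)) := by
        rw [← Equiv.Perm.mul_apply, ← map_mul, inv_mul_cancel_right, map_mul, Equiv.Perm.mul_apply, h3]
      rw [h7, ← Equiv.Perm.mul_apply T, h6, Equiv.Perm.mul_apply, h1, map_mul A _ a, Equiv.Perm.mul_apply]
  let St : ℕ → Subgroup P := fun i =>
    { carrier := {s | A s (c i) = c i}
      one_mem' := by simp
      mul_mem' := by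
        intro a b ha hb
        show A (a * b) (c i) = c i
        rw [map_mul, Equiv.Perm.mul_apply, show A b (c i) = c i from hb, show A a (c i) = c i from ha]
      inv_mem' := by
        intro a ha
        show A a⁻¹ (c i) = c i
        rw [map_inv, Equiv.Perm.inv_eq_iff_eq]; exact (show A a (c i) = c i from ha).symm }
  let f : (Σ i : Fin k, P ⧸ St i) → Y := fun z => Quotient.liftOn' z.2 (fun p => A p (c z.1)) (by
    intro a b hab
    rw [QuotientGroup.leftRel_apply] at hab
    have h1 : A (a⁻¹ * b) (c z.1) = c z.1 := hab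
    rw [map_mul, map_inv, Equiv.Perm.mul_apply, Equiv.Perm.inv_eq_iff_eq] at h1
    exact h1.symm)
  have hf : Function.Surjective f := by
    intro y
    obtain ⟨p, i, hi, rfl⟩ := hs y
    exact ⟨⟨⟨i, hi⟩, (p : P ⧸ St i)⟩, rfl⟩
  have h1 : Finite Y := Finite.of_surjective f hf
  refine ⟨h1, ?_⟩
  have h2 := Nat.card_le_card_of_surjective f hf
  rw [Nat.card_sigma] at h2
  refine le_trans h2 (Finset.sum_le_sum fun i _ => ?_)
  have h3 := (St i).index_mul_card
  have h4 := hr i i.2 (St i) (fun s hs => hs)
  have h5 := hn i i.2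
  have h6 := hr0 i i.2
  show (St i).index ≤ n i
  by_contra hlt
  rw [not_le] at hlt
  have h7 : n i * r i < (St i).index * Nat.card (St i) :=
    lt_of_lt_of_le (Nat.mul_lt_mul_of_pos_right hlt h6) (Nat.mul_le_mul_left _ h4)
  omega

end main

/-! ### definitions of points -/

section cpt
variable {P : Type*} [Group P] {Y : Type*}

/-- points from the definitions -/
noncomputable def cpt (xs : ℕ → P) (A : P →* Equiv.Perm Y) (T : Equiv.Perm Y) (y0 : Y) (FT : Tr Fact) : ℕ → Y
  | 0 => y0
  | n + 1 => match FT.get n with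
    | Fact.e i h _ _ => if hi : i < n + 1 then T (A (evw xs 24 h) (cpt xs A T y0 FT i)) else y0
    | _ => y0

/-- check of definitions -/
def defOk (FT : Tr Fact) : ℕ → Bool
  | 0 => true
  | n + 1 => (match FT.get n with
    | Fact.e i _ j a => Nat.blt i (n + 1) && (Nat.beq j (n + 1) && Nat.beq a 0)
    | _ => false) && defOk FT n

theorem def_holds {xs : ℕ → P} {A : P →* Equiv.Perm Y} {T : Equiv.Perm Y} {y0 : Y} {FT : Tr Fact} {nd : ℕ}
    (h : defOk FT nd = true) : ∀ k < nd, Holds xs A T (cpt xs A T y0 FT) (FT.get k) := by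
  induction nd with
  | zero => intro k hk; omega
  | succ n ih =>
    simp only [defOk, Bool.and_eq_true] at h
    intro k hk
    rcases Nat.lt_succ_iff_lt_or_eq.mp hk with hk | rfl
    · exact ih h.2 k hk
    · have h1 := h.1
      cases hF : FT.get k with
      | z => trivial
      | s _ _ => rw [hF] at h1; simp at h1
      | e i hh j a =>
        rw [hF] at h1
        simp only [Bool.and_eq_true, Nat.beq_eq, Nat.blt_eq] at h1
        obtain ⟨h2, h3, h4⟩ := h1
        have e1 : j = k + 1 := h3
        have e2 : a = 0 := h4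
        subst e1 e2
        show T (A (evw xs 24 hh) (cpt xs A T y0 FT i)) = A (evw xs 24 0) (cpt xs A T y0 FT (k + 1))
        have e3 : evw xs 24 0 = 1 := by simp [evw]
        rw [e3, map_one, Equiv.Perm.one_apply]
        conv_rhs => rw [cpt]
        rw [hF]
        simp only
        rw [dif_pos h2]

end cpt

end Cfsg.Agent.Lib.J4E
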