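import Cfsg.Agent.Lib.J4Ins

/-!
# Instances: facts, walks, cardinalities
-/

set_option autoImplicit false
set_option linter.all false
set_option maxRecDepth 100000

namespace Cfsg.Agent.Lib.J4E

theorem nthR_all {p : List (ℕ × ℕ) → Prop} (h0 : p [(0, 0), (0, 0)]) : ∀ (rels : List (List (ℕ × ℕ))), (∀ a ∈ rels, p a) → ∀ r, p (nthR rels r)
  | [], _, _ => by unfold nthR; exact h0
  | a :: l, h, 0 => by unfold nthR; exact h a (by simp)
  | a :: l, h, n + 1 => by
    unfold nthR
    exact nthR_all h0 l (fun b hb => h b (by simp [hb])) n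

/-- all lists -/
def chkVs (L : ℕ → ℕ → ℕ) (base : List ℕ) : List (List (ℕ × ℕ)) → Bool
  | [] => true
  | a :: l => chkV L base a && chkVs L base l

theorem chkVs_spec {L : ℕ → ℕ → ℕ} {base : List ℕ} : ∀ {l : List (List (ℕ × ℕ))}, chkVs L base l = true → ∀ a ∈ l, chkV L base a = true
  | [], _, a, ha => by simp at ha
  | b :: l, h, a, ha => by
    simp only [chkVs, Bool.and_eq_true] at h
    rcases List.mem_cons.mp ha with rfl | ha
    · exact h.1
    · exact chkVs_spec h.2 a ha

/-- walks -/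
def isR0 : R → Bool
  | R.pt i _ => Nat.beq i 0
  | R.no => false

theorem xv0 {wd : ℕ → ℕ} : evw (xv bP wd) 24 0 = 1 := by simp [evw]

section
variable {LT WT : Tr ℕ} {FT : Tr Fact} {nD : ℕ} (I : Ins LT WT FT nD) [Finite Pg] (hle : Nat.card Pg ≤ 244823040)
  {rels : List (List (ℕ × ℕ))} {nd : ℕ} {krel : List (ℕ × ℕ)} {kX kY N : ℕ}
  (hv : chkVs (LI LT) base7 rels = true) (hkv : chkV (LI LT) base7 krel = true) (hdf : defOk FT nd = true)
  (hchk : ∀ k < N, ∃ It, chk1 (LI LT) (dlI nD) FT base7 rels nd krel kX kY k (FT.get k) It = true)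
  {Y : Type*} (A : Pg →* Equiv.Perm Y) (T : Equiv.Perm Y) (y0 : Y) (hT : T * T = 1)
  (h1 : T * A (xv bP (fun c => WT.get c) 94) = A (xv bP (fun c => WT.get c) 94) * T)
  (h2 : T * A (xv bP (fun c => WT.get c) 95) = A (xv bP (fun c => WT.get c) 95) * T)
  (hrels : ∀ a ∈ rels, Op (xv bP (fun c => WT.get c)) A T a = 1)
  (hkr : Op (xv bP (fun c => WT.get c)) A T krel (A (evw (xv bP (fun c => WT.get c)) 24 kX) y0) = A (evw (xv bP (fun c => WT.get c)) 24 kY) y0)
  (hy : ∀ p, A p y0 = y0)
include I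

include hT in
omit [Finite Pg] I in
theorem Op_tt {xs : ℕ → Pg} (h0 : evw xs 24 0 = 1) : Op xs A T [(0, 0), (0, 0)] = 1 := by
  simp only [Op, h0, map_one, one_mul, hT]

include h1 h2 in
omit [Finite Pg] in
theorem Ins.hD : ∀ d, T * A (xv bP (fun c => WT.get c) (dlI nD d)) = A (xv bP (fun c => WT.get c) (dlI nD d)) * T := by
  let K : Subgroup Pg :=
    { carrier := {g | T * A g = A g * T}
      one_mem' := by simp
      mul_mem' := by
        intro a b ha hb
        show T * A (a * b) = A (a * b) * T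
        rw [map_mul, ← mul_assoc, show T * A a = A a * T from ha, mul_assoc, show T * A b = A b * T from hb, mul_assoc]
      inv_mem' := by
        intro a ha
        show T * A a⁻¹ = A a⁻¹ * T
        rw [map_inv]
        exact (Commute.inv_right (show Commute T (A a) from ha)) }
  exact I.dmem K h1 h2

include hle hv hkv hdf hchk hT h1 h2 hrels hkr hy in
theorem Ins.facts : ∀ k < N, Holds (xv bP (fun c => WT.get c)) A T (cpt (xv bP (fun c => WT.get c)) A T y0 FT) (FT.get k) := by
  have hf := (faith hle).2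
  refine facts_hold (φ := φ1) (L := LI LT) (dl := dlI nD) (m := 24) (base := base7) (rels := rels) (nd := nd) (krel := krel) (kX := kX) (kY := kY)
    I.hL I.hdl (by decide) hf I.hFc hT (I.hD A T h1 h2) ?_ ?_ ?_ ?_ ?_ ?_ hchk
  · exact nthR_all (Op_tt A T hT xv0) rels hrels
  · exact nthR_all (p := fun a => ∀ v ∈ a, evw (xv bP (fun c => WT.get c)) 24 v.1 * evw (xv bP (fun c => WT.get c)) 24 v.2 = 1)
      (by intro v hv; simp only [List.mem_cons, List.not_mem_nil, or_false, or_self] at hv; subst hv; simp [evw]) rels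
      (fun a ha => I.inv_pairs hf a (chkVs_spec hv a ha))
  · exact I.inv_pairs hf krel hkv
  · have e : cpt (xv bP (fun c => WT.get c)) A T y0 FT 0 = y0 := by rw [cpt]
    rw [e]; exact hkr
  · exact def_holds hdf
  · intro l hl
    have e : cpt (xv bP (fun c => WT.get c)) A T y0 FT 0 = y0 := by rw [cpt]
    rw [e]; exact hy _

include hle hv hkv hdf hchk hT h1 h2 hrels hkr hy in
theorem Ins.walk (vs : List (ℕ × ℕ)) (t : SL) (hvs : chkV (LI LT) base7 vs = true)
    (h : isR0 (bwd (LI LT) (dlI nD) FT base7 N vs t 0 EX.nil) = true) : Op (xv bP (fun c => WT.get c)) A T vs y0 = y0 := by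
  have hf := (faith hle).2
  have hF := I.facts hle hv hkv hdf hchk A T y0 hT h1 h2 hrels hkr hy
  cases hb : bwd (LI LT) (dlI nD) FT base7 N vs t 0 EX.nil with
  | no => rw [hb] at h; simp [isR0] at h
  | pt j X' =>
    rw [hb] at h
    have h3 : j = 0 := Nat.eq_of_beq_eq_true h
    subst h3
    have h4 := bwd_sound (φ := φ1) (L := LI LT) (dl := dlI nD) (m := 24) (base := base7) (k := N)
      I.hL I.hdl (by decide) hf I.hFc hT (I.hD A T h1 h2) hF vs (I.inv_pairs hf vs hvs) t hb
    have e : cpt (xv bP (fun c => WT.get c)) A T y0 FT 0 = y0 := by rw [cpt]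
    rw [e, hy, hy] at h4
    exact h4

/-- stabilizer chains -/
def chkCh (LT : Tr ℕ) (FT : Tr Fact) (N : ℕ) (CH : Tr (List Stage)) (RR : Tr ℕ) : ℕ → Bool
  | 0 => true
  | i + 1 => (match chain (apS (LI LT) FT) (okS FT N i 24) 24 [] (CH.get i) with
    | some r => Nat.beq r (RR.get i)
    | none => false) && chkCh LT FT N CH RR i

omit [Finite Pg] I in
theorem chkCh_spec {CH : Tr (List Stage)} {RR : Tr ℕ} {n : ℕ} (h : chkCh LT FT N CH RR n = true) :
    ∀ i < n, chain (apS (LI LT) FT) (okS FT N i 24) 24 [] (CH.get i) = some (RR.get i) := by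
  induction n with
  | zero => intro i hi; omega
  | succ n ih =>
    simp only [chkCh, Bool.and_eq_true] at h
    intro i hi
    rcases Nat.lt_succ_iff_lt_or_eq.mp hi with hi | rfl
    · exact ih h.2 i hi
    · have h1 := h.1
      cases hc : chain (apS (LI LT) FT) (okS FT N i 24) 24 [] (CH.get i) with
      | none => rw [hc] at h1; simp at h1
      | some r => rw [hc] at h1; simp only at h1; rw [Nat.eq_of_beq_eq_true h1]

include hle hv hkv hdf hchk hT h1 h2 hrels hkr hy in
theorem Ins.card (CH : Tr (List Stage)) (RR : Tr ℕ) (k : ℕ) (hk : 0 < k) (hch : chkCh LT FT N CH RR k = true)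
    (φ2 : Pg →* Equiv.Perm ℕ) (U2 : ℕ → ℕ → ℕ) (mo pt : ℕ) (hm : ∀ g i, i < mo → φ2 g i < mo) (hpt : pt < mo)
    (hL2 : ∀ c, c < 66 → ∀ i < mo, φ2 (xv bP (fun c => WT.get c) c) i = U2 c i ∧ U2 c i < mo)
    (hst : ∀ g, φ2 g pt = pt → g ∈ Subgroup.closure {xv bP (fun c => WT.get c) 94, xv bP (fun c => WT.get c) 95})
    (cr : ℕ → List (ℕ × ℕ)) (cg : ℕ → List (ℕ × ℕ × ℕ))
    (hcov : ∀ i < k, cover (LI LT) U2 66 FT base7 N k mo pt i (cr i) (cg i) = true)
    (n : ℕ → ℕ) (hn : ∀ i < k, 244823040 ≤ n i * RR.get i) (hr0 : ∀ i < k, 0 < RR.get i)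
    (htr : ∀ S : Set Y, y0 ∈ S → (∀ p, ∀ y ∈ S, A p y ∈ S) → (∀ y ∈ S, T y ∈ S) → ∀ y, y ∈ S) :
    Finite Y ∧ Nat.card Y ≤ ∑ i : Fin k, n i := by
  have hf := (faith hle).2
  have hF := I.facts hle hv hkv hdf hchk A T y0 hT h1 h2 hrels hkr hy
  have e : cpt (xv bP (fun c => WT.get c)) A T y0 FT 0 = y0 := by rw [cpt]
  refine card_le (φ2 := φ2) (A := A) (T := T) (c := cpt (xv bP (fun c => WT.get c)) A T y0 FT) (k := k) (mo := mo) (pt := pt) hT hm hpt
    (fun i hi q hq => cover_sound (φ := φ1) (φ2 := φ2) (L := LI LT) (L3 := U2) (m := 24) (nU := 66) I.hL hL2 (by decide) hf I.hFc hF hT (hcov i hi) q hq)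
    ?_ hk (by rw [e]; exact htr) (fun i => RR.get i) ?_ n ?_ hr0
  · intro g hg
    have hg' := hst g hg
    let K : Subgroup Pg :=
      { carrier := {g | T * A g = A g * T}
        one_mem' := by simp
        mul_mem' := by
          intro a b ha hb
          show T * A (a * b) = A (a * b) * T
          rw [map_mul, ← mul_assoc, show T * A a = A a * T from ha, mul_assoc, show T * A b = A b * T from hb, mul_assoc]
        inv_mem' := by
          intro a ha
          show T * A a⁻¹ = A a⁻¹ * T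
          rw [map_inv]
          exact (Commute.inv_right (show Commute T (A a) from ha)) }
    have hK : Subgroup.closure {xv bP (fun c => WT.get c) 94, xv bP (fun c => WT.get c) 95} ≤ K := by
      rw [Subgroup.closure_le]
      rintro z (rfl | rfl)
      · exact h1
      · exact h2
    exact hK hg'
  · intro i hi K hK
    refine chain_ge (φ := φ1) (K := K) (el := fun w => evw (fun f => xv bP (fun c => WT.get c) (FT.get f).c) 24 w) (V := okS FT N i 24)
      (E := apS (LI LT) FT) (m := 24) (fun w hw => ⟨hK _ (okS_sound hF 24 w hw), fun i hi => ?_⟩) (CH.get i) (chkCh_spec hch i hi)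
    exact ap_sound (xs := fun f => xv bP (fun c => WT.get c) (FT.get f).c) (L := fun f => LI LT (FT.get f).c)
      (fun f _ i hi => I.hL _ (I.hFc f) i hi) 24 w i hi
  · intro i hi
    rw [(faith hle).1]
    exact hn i hi

end

end Cfsg.Agent.Lib.J4E
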