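import Cfsg.Agent.Lib.J4P

/-!
# Instances of the double coset enumeration over M24
-/

set_option autoImplicit false
set_option linter.all false
set_option maxRecDepth 100000

namespace Cfsg.Agent.Lib.J4E

/-- table of an instance -/
def LI (LT : Tr ℕ) (c i : ℕ) : ℕ := d5 (LT.get c) i

/-- letters of the centralizer of `T` -/
def dlI (nD c : ℕ) : ℕ := bif Nat.blt c nD then (bif Nat.beq c 0 then 0 else Nat.add 93 c) else 0

/-- equality of trees on an initial segment -/
def chkE (A B : Tr ℕ) : ℕ → Bool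
  | 0 => true
  | n + 1 => Nat.beq (A.get n) (B.get n) && chkE A B n

theorem chkE_spec {A B : Tr ℕ} {n : ℕ} (h : chkE A B n = true) : ∀ c < n, A.get c = B.get c := by
  induction n with
  | zero => intro c hc; omega
  | succ n ih =>
    simp only [chkE, Bool.and_eq_true, Nat.beq_eq] at h
    intro c hc
    rcases Nat.lt_succ_iff_lt_or_eq.mp hc with hc | rfl
    · exact ih h.2 c hc
    · exact h.1

/-- the letters of the centralizer are products of two earlier ones -/
def chkDl (WT : Tr ℕ) : ℕ → Bool
  | 0 => true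
  | n + 1 => (bif Nat.blt n 3 then true else
      (Nat.blt 93 (WT.get (93 + n) / 4096) && Nat.blt (WT.get (93 + n) / 4096) (93 + n)) &&
      (Nat.blt 93 (WT.get (93 + n) % 4096) && Nat.blt (WT.get (93 + n) % 4096) (93 + n))) && chkDl WT n

theorem chkDl_spec {WT : Tr ℕ} {n : ℕ} (h : chkDl WT n = true) : ∀ c < n, 3 ≤ c →
    ((93 < WT.get (93 + c) / 4096 ∧ WT.get (93 + c) / 4096 < 93 + c) ∧ (93 < WT.get (93 + c) % 4096 ∧ WT.get (93 + c) % 4096 < 93 + c)) := by
  induction n with
  | zero => intro c hc; omega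
  | succ n ih =>
    simp only [chkDl, Bool.and_eq_true] at h
    intro c hc h3
    rcases Nat.lt_succ_iff_lt_or_eq.mp hc with hc | rfl
    · exact ih h.2 c hc h3
    · have h1 := h.1
      have h2 : Nat.blt c 3 = false := by
        apply Bool.eq_false_iff.mpr
        intro h
        have := Nat.blt_eq.mp h
        omega
      rw [h2] at h1
      simpa only [cond_false, Bool.and_eq_true, Nat.blt_eq] using h1

/-- inverse pairs -/
def chkV (L : ℕ → ℕ → ℕ) (base : List ℕ) : List (ℕ × ℕ) → Bool
  | [] => true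
  | v :: l => eqb (fun β => ap L 24 v.1 (ap L 24 v.2 β)) (fun β => β) base && chkV L base l

/-- checks of an instance -/
structure Ins (LT WT : Tr ℕ) (FT : Tr Fact) (nD : ℕ) : Prop where
  e4 : chkE LT UT24 4 = true
  cl : ∀ c, 4 ≤ c → c < 4096 → lets c 24 (WT.get c) = true ∧ ∀ i < 24, LI LT c i = ap (LI LT) 24 (WT.get c) i ∧ LI LT c i < 24
  eu : chkE WT UW 66 = true
  cd : chkDl WT nD = true
  dn : nD + 93 ≤ 4096
  fc : FT.all (fun F => Nat.blt F.c 4096) = true

/-- the base -/
def base7 : List ℕ := [6, 5, 4, 3, 2, 1, 0]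

theorem base_eq : chainB [] PCH = base7 := by decide

section
variable {LT WT : Tr ℕ} {FT : Tr Fact} {nD : ℕ} (I : Ins LT WT FT nD)
include I

theorem Ins.hL : ∀ c, c < 4096 → ∀ i < 24, φ1 (xv bP (fun c => WT.get c) c) i = LI LT c i ∧ LI LT c i < 24 :=
  act_all (fun c hc i hi => by
    have h := b1 c hc i hi
    have h2 : LI LT c i = U24 c i := by
      unfold LI U24
      rw [chkE_spec I.e4 c hc]
    rw [h2]; exact h) I.cl

theorem Ins.xu_eq : ∀ c < 66, xv bP (fun c => WT.get c) c = xu c :=
  xv_congr bP (fun c hc => chkE_spec I.eu c hc)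

theorem Ins.hL3 : ∀ c, c < 66 → ∀ i < 3795, φ3 (xv bP (fun c => WT.get c) c) i = U3 c i ∧ U3 c i < 3795 := by
  intro c hc
  rw [I.xu_eq c hc]
  exact act3 c hc

theorem Ins.hL6 : ∀ c, c < 66 → ∀ i < 1771, φ6 (xv bP (fun c => WT.get c) c) i = U6 c i ∧ U6 c i < 1771 := by
  intro c hc
  rw [I.xu_eq c hc]
  exact act6 c hc

theorem Ins.hdl : ∀ c, dlI nD c < 4096 := by
  intro c
  have := I.dn
  unfold dlI
  cases h : Nat.blt c nD with
  | true =>
    have h1 := Nat.blt_eq.mp h
    cases h2 : Nat.beq c 0 with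
    | true => simp
    | false => simp only [cond_true, cond_false]; show 93 + c < 4096; omega
  | false => simp

theorem Ins.hFc : ∀ f, (FT.get f).c < 4096 := by
  intro f
  have := Tr.all_get I.fc f
  exact Nat.blt_eq.mp this

theorem Ins.dmem (K : Subgroup Pg) (h1 : xv bP (fun c => WT.get c) 94 ∈ K) (h2 : xv bP (fun c => WT.get c) 95 ∈ K) :
    ∀ c, xv bP (fun c => WT.get c) (dlI nD c) ∈ K := by
  intro c
  induction c using Nat.strong_induction_on with
  | _ c ih =>
    have hdn := I.dn
    have h0 : xv bP (fun c => WT.get c) 0 ∈ K := by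
      rw [xv_lt _ _ (by norm_num)]
      have : bP 0 = 1 := by simp [bP]
      rw [this]; exact K.one_mem
    by_cases hc : c < nD
    · have hd : ∀ e, e < nD → 0 < e → dlI nD e = 93 + e := by
        intro e he h0
        unfold dlI
        rw [Nat.blt_eq.mpr he]
        have : Nat.beq e 0 = false := by
          apply Bool.eq_false_iff.mpr
          intro h
          have := Nat.eq_of_beq_eq_true h
          omega
        rw [this]; rfl
      by_cases h3 : 3 ≤ c
      · obtain ⟨⟨a1, a2⟩, a3, a4⟩ := chkDl_spec I.cd c hc h3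
        rw [hd c hc (by omega)]
        have hl := (I.cl (93 + c) (by omega) (by omega)).1
        rw [xv_ge _ _ (by omega) hl]
        have e1 : WT.get (93 + c) = (WT.get (93 + c) / 4096) * 4096 + WT.get (93 + c) % 4096 := by omega
        have e2 := evw_two (xv bP (fun c => WT.get c)) (WT.get (93 + c) / 4096) (WT.get (93 + c) % 4096) 21 (by omega) (by omega) (by omega)
        show evw _ 24 (WT.get (93 + c)) ∈ K
        rw [e1, show (24 : ℕ) = 21 + 3 from rfl, e2]
        apply K.mul_mem
        · have := ih (WT.get (93 + c) / 4096 - 93) (by omega)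
          rw [hd _ (by omega) (by omega), show 93 + (WT.get (93 + c) / 4096 - 93) = WT.get (93 + c) / 4096 by omega] at this
          exact this
        · have := ih (WT.get (93 + c) % 4096 - 93) (by omega)
          rw [hd _ (by omega) (by omega), show 93 + (WT.get (93 + c) % 4096 - 93) = WT.get (93 + c) % 4096 by omega] at this
          exact this
      · by_cases h0' : c = 0
        · subst h0'
          unfold dlI
          rw [Nat.blt_eq.mpr hc]
          exact h0
        · rw [hd c hc (by omega)]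
          have : c = 1 ∨ c = 2 := by omega
          rcases this with rfl | rfl
          · exact h1
          · exact h2
    · unfold dlI
      have : Nat.blt c nD = false := by
        apply Bool.eq_false_iff.mpr
        intro h
        exact hc (Nat.blt_eq.mp h)
      rw [this]; exact h0

theorem Ins.inv_pairs (hfaith : ∀ g, (∀ b ∈ base7, φ1 g b = b) → g = 1) (l : List (ℕ × ℕ)) (h : chkV (LI LT) base7 l = true) :
    ∀ v ∈ l, evw (xv bP (fun c => WT.get c)) 24 v.1 * evw (xv bP (fun c => WT.get c)) 24 v.2 = 1 := by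
  induction l with
  | nil => intro v hv; simp at hv
  | cons a l ih =>
    simp only [chkV, Bool.and_eq_true] at h
    intro v hv
    rcases List.mem_cons.mp hv with rfl | hv
    · refine eqP (φ := φ1) (m := 24) (base := base7) (by decide) hfaith (f := fun β => ap (LI LT) 24 v.1 (ap (LI LT) 24 v.2 β)) (f' := fun β => β)
        (fun i hi => ?_) (fun i hi => by simp) h.1
      have h1 := ap_sound I.hL 24 v.2 i hi
      have h2 := ap_sound I.hL 24 v.1 _ h1.2
      rw [map_mul, Equiv.Perm.mul_apply, h1.1, h2.1]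
    · exact ih h.2 v hv

/-- equality of words by the base -/
theorem Ins.weq (hfaith : ∀ g, (∀ b ∈ base7, φ1 g b = b) → g = 1) (w w' : ℕ)
    (h : eqb (ap (LI LT) 24 w) (ap (LI LT) 24 w') base7 = true) :
    evw (xv bP (fun c => WT.get c)) 24 w = evw (xv bP (fun c => WT.get c)) 24 w' :=
  eqP (φ := φ1) (m := 24) (base := base7) (by decide) hfaith (fun i hi => (ap_sound I.hL 24 w i hi).1)
    (fun i hi => (ap_sound I.hL 24 w' i hi).1) h

end

/-! ### the order of the group -/

theorem pchain : chain (fun w => ap U24 24 w) (fun w => lets 66 24 w) 24 [] PCH = some 244823040 := by decide +kernel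

theorem faith [Finite Pg] (hle : Nat.card Pg ≤ 244823040) :
    Nat.card Pg = 244823040 ∧ ∀ g, (∀ b ∈ base7, φ1 g b = b) → g = 1 := by
  have h := chain_faith (φ := φ1) (K := (⊤ : Subgroup Pg)) (el := fun w => evw xu 24 w) (V := fun w => lets 66 24 w)
    (E := fun w => ap U24 24 w) (m := 24) (fun w hw => ⟨trivial, fun i hi => ap_sound' act1 24 w i hw hi⟩) rfl PCH pchain hle
  rw [base_eq] at h
  exact h

theorem trans3 : growG (fun w => ap U3 24 w) (fun w => lets 66 24 w) 4096 4096 [] TR3 (2 ^ 388) 1 = some (2 ^ 3795 - 1, 3795) := by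
  decide +kernel
theorem trans6 : growG (fun w => ap U6 24 w) (fun w => lets 66 24 w) 4096 4096 [] TR6 (2 ^ 1494) 1 = some (2 ^ 1771 - 1, 1771) := by
  decide +kernel

theorem stab_le [Finite Pg] (hle : Nat.card Pg ≤ 244823040) (φ : Pg →* Equiv.Perm ℕ) (U : ℕ → ℕ → ℕ) (m pt : ℕ) (TR : List (ℕ × ℕ)) {M : ℕ}
    (hact : ∀ c, c < 66 → ∀ i < m, φ (xu c) i = U c i ∧ U c i < m) (hpt : pt < m)
    (htr : growG (fun w => ap U 24 w) (fun w => lets 66 24 w) 4096 4096 [] TR (2 ^ pt) 1 = some (M, m)) :
    m * Nat.card (fixL φ (⊤ : Subgroup Pg) [pt]) ≤ 244823040 := by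
  obtain ⟨F, a1, a2, a3⟩ := growG_sound (φ := φ) (K := (⊤ : Subgroup Pg)) (el := fun w => evw xu 24 w) (V := fun w => lets 66 24 w)
    (E := fun w => ap U 24 w) (m := m) (fun w hw => ⟨trivial, fun i hi => ap_sound' hact 24 w i hw hi⟩) (prev := []) (by simp)
    (Q := fun q => ∃ g ∈ (⊤ : Subgroup Pg), φ g pt = q) (by
      rintro g hg q _ ⟨g', hg', rfl⟩
      exact ⟨g * g', trivial, by rw [map_mul]; rfl⟩) TR (F := {pt}) (by simp) (by
      intro q; simp [Nat.testBit_two_pow, eq_comm]) (by
      intro q hq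
      rw [Finset.mem_singleton] at hq; subst hq
      exact ⟨hpt, 1, trivial, by simp⟩) htr
  have h2 := card_step (φ := φ) (⊤ : Subgroup Pg) pt F (fun q hq => (a3 q hq).2)
  rw [a1, Subgroup.card_top] at h2
  omega

theorem stab3 [Finite Pg] (hle : Nat.card Pg ≤ 244823040) : Nat.card (fixL φ3 (⊤ : Subgroup Pg) [388]) ≤ 64512 := by
  have := stab_le hle φ3 U3 3795 388 TR3 act3 (by norm_num) trans3
  omega

theorem stab6 [Finite Pg] (hle : Nat.card Pg ≤ 244823040) : Nat.card (fixL φ6 (⊤ : Subgroup Pg) [1494]) ≤ 138240 := by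
  have := stab_le hle φ6 U6 1771 1494 TR6 act6 (by norm_num) trans6
  omega

/-- the centralizer of `T` is the stabilizer of a point -/
theorem Ins.stab_mem [Finite Pg] {LT WT : Tr ℕ} {FT : Tr Fact} {nD : ℕ} (I : Ins LT WT FT nD) (φ : Pg →* Equiv.Perm ℕ) (pt n : ℕ)
    (hst : Nat.card (fixL φ (⊤ : Subgroup Pg) [pt]) ≤ n) (DC : List Stage)
    (hch : chain (fun w => ap (fun c => LI LT (dlI nD c)) 24 w) (fun _ => true) 24 [] DC = some n)
    (h1 : φ (xv bP (fun c => WT.get c) 94) pt = pt) (h2 : φ (xv bP (fun c => WT.get c) 95) pt = pt) (g : Pg) (hg : φ g pt = pt) :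
    g ∈ Subgroup.closure {xv bP (fun c => WT.get c) 94, xv bP (fun c => WT.get c) 95} := by
  have hm := I.dmem (Subgroup.closure {xv bP (fun c => WT.get c) 94, xv bP (fun c => WT.get c) 95})
    (Subgroup.subset_closure (by simp)) (Subgroup.subset_closure (by simp))
  have hmw : ∀ n w, evw (fun c => xv bP (fun c => WT.get c) (dlI nD c)) n w ∈
      Subgroup.closure {xv bP (fun c => WT.get c) 94, xv bP (fun c => WT.get c) 95} := by
    intro n
    induction n with
    | zero => intro w; exact Subgroup.one_mem _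
    | succ n ih =>
      intro w
      unfold evw
      cases Nat.beq w 0 with
      | true => exact Subgroup.one_mem _
      | false => exact Subgroup.mul_mem _ (ih _) (hm _)
  have h3 := chain_ge (φ := φ1) (K := Subgroup.closure {xv bP (fun c => WT.get c) 94, xv bP (fun c => WT.get c) 95})
    (el := fun w => evw (fun c => xv bP (fun c => WT.get c) (dlI nD c)) 24 w) (V := fun _ => true)
    (E := fun w => ap (fun c => LI LT (dlI nD c)) 24 w) (m := 24)
    (fun w _ => ⟨hmw 24 w, fun i hi => ap_sound (xs := fun c => xv bP (fun c => WT.get c) (dlI nD c)) (L := fun c => LI LT (dlI nD c))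
      (fun c _ i hi => I.hL _ (I.hdl c) i hi) 24 w i hi⟩) DC hch
  have hle : Subgroup.closure {xv bP (fun c => WT.get c) 94, xv bP (fun c => WT.get c) 95} ≤ fixL φ (⊤ : Subgroup Pg) [pt] := by
    rw [Subgroup.closure_le]
    rintro z (rfl | rfl)
    · exact ⟨trivial, fun b hb => by rw [List.mem_singleton] at hb; subst hb; exact h1⟩
    · exact ⟨trivial, fun b hb => by rw [List.mem_singleton] at hb; subst hb; exact h2⟩
  have heq := Subgroup.eq_of_le_of_card_ge hle (le_trans hst h3)
  rw [heq]
  exact ⟨trivial, fun b hb => by rw [List.mem_singleton] at hb; subst hb; exact hg⟩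

end Cfsg.Agent.Lib.J4E
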