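import Cfsg.Agent.Lib.J4Gen
import Cfsg.Agent.Lib.J4DatV

set_option autoImplicit false
set_option linter.all false
set_option maxRecDepth 100000
set_option exponentiation.threshold 100000

namespace Cfsg.Agent.Lib.J4E

theorem lV0 : chkL (LI LTV) (fun c => WTV.get c) 24 4 512 = true := by decide +kernel
theorem lV1 : chkL (LI LTV) (fun c => WTV.get c) 24 516 512 = true := by decide +kernel
theorem lV2 : chkL (LI LTV) (fun c => WTV.get c) 24 1028 512 = true := by decide +kernel
theorem lV3 : chkL (LI LTV) (fun c => WTV.get c) 24 1540 512 = true := by decide +kernel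
theorem lV4 : chkL (LI LTV) (fun c => WTV.get c) 24 2052 512 = true := by decide +kernel
theorem lV5 : chkL (LI LTV) (fun c => WTV.get c) 24 2564 512 = true := by decide +kernel
theorem lV6 : chkL (LI LTV) (fun c => WTV.get c) 24 3076 512 = true := by decide +kernel
theorem lV7 : chkL (LI LTV) (fun c => WTV.get c) 24 3588 508 = true := by decide +kernel
theorem insV : Ins LTV WTV FTV 757 where
  e4 := by decide +kernel
  cl := by
    intro c h4 hc
    have h : c < 516 ∨ (516 ≤ c ∧ c < 1028) ∨ (1028 ≤ c ∧ c < 1540) ∨ (1540 ≤ c ∧ c < 2052) ∨ (2052 ≤ c ∧ c < 2564) ∨ (2564 ≤ c ∧ c < 3076) ∨ (3076 ≤ c ∧ c < 3588) ∨ 3588 ≤ c := by omega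
    rcases h with h | h | h | h | h | h | h | h
    · exact chkL_spec lV0 c h4 (by omega)
    · exact chkL_spec lV1 c (by omega) (by omega)
    · exact chkL_spec lV2 c (by omega) (by omega)
    · exact chkL_spec lV3 c (by omega) (by omega)
    · exact chkL_spec lV4 c (by omega) (by omega)
    · exact chkL_spec lV5 c (by omega) (by omega)
    · exact chkL_spec lV6 c (by omega) (by omega)
    · exact chkL_spec lV7 c (by omega) (by omega)
  eu := by decide +kernel
  cd := by decide +kernel
  dn := by norm_num
  fc := by decide +kernel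
theorem dcV : chain (fun w => ap (fun c => LI LTV (dlI 757 c)) 24 w) (fun _ => true) 24 [] DCV = some 138240 := by decide +kernel
theorem hvV : chkVs (LI LTV) base7 relsV = true := by decide +kernel
theorem hkvV : chkV (LI LTV) base7 krelV = true := by decide +kernel
theorem dfV : defOk FTV 3 = true := by decide +kernel
theorem chV : chkCh LTV FTV 191 CHV RRV 3 = true := by decide +kernel

end Cfsg.Agent.Lib.J4E
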