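import Cfsg.Agent.Lib.J4OutV
import Cfsg.Agent.Lib.J4ChkM0
import Cfsg.Agent.Lib.J4ChkM1
import Cfsg.Agent.Lib.J4ChkM2
import Cfsg.Agent.Lib.J4ChkM3
import Cfsg.Agent.Lib.J4ChkM4
import Cfsg.Agent.Lib.J4CovM0
import Cfsg.Agent.Lib.J4CovM1
import Cfsg.Agent.Lib.J4CovM2
import Cfsg.Agent.Lib.J4CovM3
import Cfsg.Agent.Lib.J4LetM

/-!
# The index of `KK` in J4
-/

set_option autoImplicit false
set_option linter.all false
set_option maxRecDepth 100000

namespace Cfsg.Agent.Lib.J4E

open Cfsg.Spor Cfsg.Agent.Lib.J4Main Cfsg.Agent.Lib.J4RhoHom Cfsg.Agent.Lib.J4HRel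

theorem hchkM : ∀ k < 2316, ∃ It, chk1 (LI LTM) (dlI 520) FTM base7 relsM 19 krelM 74 78 k (FTM.get k) It = true := by
  intro k hk
  by_cases h0 : k < 120
  · exact chkR_spec kM0 k (by omega) (by omega)
  by_cases h1 : k < 240
  · exact chkR_spec kM1 k (by omega) (by omega)
  by_cases h2 : k < 360
  · exact chkR_spec kM2 k (by omega) (by omega)
  by_cases h3 : k < 480
  · exact chkR_spec kM3 k (by omega) (by omega)
  by_cases h4 : k < 600
  · exact chkR_spec kM4 k (by omega) (by omega)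
  by_cases h5 : k < 720
  · exact chkR_spec kM5 k (by omega) (by omega)
  by_cases h6 : k < 840
  · exact chkR_spec kM6 k (by omega) (by omega)
  by_cases h7 : k < 960
  · exact chkR_spec kM7 k (by omega) (by omega)
  by_cases h8 : k < 1080
  · exact chkR_spec kM8 k (by omega) (by omega)
  by_cases h9 : k < 1200
  · exact chkR_spec kM9 k (by omega) (by omega)
  by_cases h10 : k < 1320
  · exact chkR_spec kM10 k (by omega) (by omega)
  by_cases h11 : k < 1440
  · exact chkR_spec kM11 k (by omega) (by omega)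
  by_cases h12 : k < 1560
  · exact chkR_spec kM12 k (by omega) (by omega)
  by_cases h13 : k < 1680
  · exact chkR_spec kM13 k (by omega) (by omega)
  by_cases h14 : k < 1800
  · exact chkR_spec kM14 k (by omega) (by omega)
  by_cases h15 : k < 1920
  · exact chkR_spec kM15 k (by omega) (by omega)
  by_cases h16 : k < 2040
  · exact chkR_spec kM16 k (by omega) (by omega)
  by_cases h17 : k < 2160
  · exact chkR_spec kM17 k (by omega) (by omega)
  by_cases h18 : k < 2280
  · exact chkR_spec kM18 k (by omega) (by omega)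
  exact chkR_spec kM19 k (by omega) (by omega)

theorem rcM : RelC LTM WTM where
  x94 := by decide +kernel
  x95 := by decide +kernel
  x67 := by decide +kernel
  x68 := by decide +kernel
  x72 := by decide +kernel
  pr := by decide +kernel

theorem f94M : Nat.beq (ap U3 24 (WTM.get 94) 388) 388 = true := by decide +kernel
theorem f95M : Nat.beq (ap U3 24 (WTM.get 95) 388) 388 = true := by decide +kernel
theorem g94M : lets 66 24 (WTM.get 94) = true := by decide +kernel
theorem g95M : lets 66 24 (WTM.get 95) = true := by decide +kernel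
theorem y74M : chkX WTM 74 lw = true := by decide +kernel
theorem y76M : chkX WTM 76 (lw ++ ([1] ++ lwi)) = true := by decide +kernel
theorem y78M : chkX WTM 78 (lw ++ [3]) = true := by decide +kernel
theorem nM : ∀ i < 20, 244823040 ≤ (244823040 / RRM.get i) * RRM.get i := by decide +kernel
theorem rM : ∀ i < 20, 0 < RRM.get i := by decide +kernel
/-- sum -/
def sumM : ℕ → ℕ
  | 0 => 0
  | n + 1 => sumM n + 244823040 / RRM.get n
theorem sM : sumM 20 = 173067389 := by decide +kernel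
theorem sumM_eq (n : ℕ) : ∑ i : Fin n, 244823040 / RRM.get (i : ℕ) = sumM n := by
  rw [Fin.sum_univ_eq_sum_range (fun i => 244823040 / RRM.get i)]
  induction n with
  | zero => rfl
  | succ n ih => rw [Finset.sum_range_succ, ih]; rfl

theorem KK_psi (p : Pg) : psi p ∈ KK := KKPP (psi_mem p)
theorem hh_KK : hh ∈ KK := Subgroup.subset_closure (by simp)

theorem krM : Op (xv bP (fun c => WTM.get c)) (AK psi KK) (TK (X 2) KK) krelM (AK psi KK (evw (xv bP (fun c => WTM.get c)) 24 74) ((1 : J4) : J4 ⧸ KK)) =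
    AK psi KK (evw (xv bP (fun c => WTM.get c)) 24 78) ((1 : J4) : J4 ⧸ KK) := by
  have e : krelM = [(76, 77), (76, 77), (0, 0)] := rfl
  have e74 := evw_one (xv bP (fun c => WTM.get c)) 74 22 (by norm_num) (by norm_num)
  have e76 := evw_one (xv bP (fun c => WTM.get c)) 76 22 (by norm_num) (by norm_num)
  have e78 := evw_one (xv bP (fun c => WTM.get c)) 78 22 (by norm_num) (by norm_num)
  have z74 : psi (xv bP (fun c => WTM.get c) 74) = WW := by rw [insM.psi_letter 74 _ y74M, pJ_lw]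
  have p1J : pJ [1] = X 1 := by show X 1 * 1 = X 1; rw [mul_one]
  have p3J : pJ [3] = (X 1)⁻¹ := by show (X 1)⁻¹ * 1 = (X 1)⁻¹; rw [mul_one]
  have z76 : psi (xv bP (fun c => WTM.get c) 76) = WW * X 1 * WW⁻¹ := by
    rw [insM.psi_letter 76 _ y76M, pJ_append, pJ_append, pJ_lw, pJ_lwi, p1J, mul_assoc]
  have z78 : psi (xv bP (fun c => WTM.get c) 78) = WW * (X 1)⁻¹ := by
    rw [insM.psi_letter 78 _ y78M, pJ_append, pJ_lw, p3J]
  rw [e, Op_eq]
  show MulAction.toPermHom J4 (J4 ⧸ KK) (opG psi (X 2) (xv bP (fun c => WTM.get c)) [(76, 77), (76, 77), (0, 0)])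
    (MulAction.toPermHom J4 (J4 ⧸ KK) (psi (evw (xv bP (fun c => WTM.get c)) (22 + 2) 74)) ((1 : J4) : J4 ⧸ KK)) =
    MulAction.toPermHom J4 (J4 ⧸ KK) (psi (evw (xv bP (fun c => WTM.get c)) (22 + 2) 78)) ((1 : J4) : J4 ⧸ KK)
  rw [e74, e78, z74, z78, ← Equiv.Perm.mul_apply, ← map_mul, perm_y0, perm_y0, QuotientGroup.eq]
  have eo : opG psi (X 2) (xv bP (fun c => WTM.get c)) [(76, 77), (76, 77), (0, 0)] = X 2 * (WW * X 1 * WW⁻¹ * X 2) * (WW * X 1 * WW⁻¹ * X 2) := by
    simp only [opG]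
    rw [xv0, map_one, one_mul, one_mul]
    show X 2 * (psi (evw (xv bP (fun c => WTM.get c)) (22 + 2) 76) * X 2) * (psi (evw (xv bP (fun c => WTM.get c)) (22 + 2) 76) * X 2) = _
    rw [e76, z76]
  rw [eo]
  have e2 : hh = (X 1 * WW⁻¹ * X 2 * WW) * (X 1 * WW⁻¹ * X 2 * WW) * (X 1 * WW⁻¹ * X 2 * WW) := by
    show (X 1 * WW⁻¹ * X 2 * WW) ^ 3 = _
    rw [pow_succ, pow_two]
  have e3 : (X 2 * (WW * X 1 * WW⁻¹ * X 2) * (WW * X 1 * WW⁻¹ * X 2) * WW)⁻¹ * (WW * (X 1)⁻¹) = hh⁻¹ := by
    rw [e2]; group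
  rw [e3]
  exact KK.inv_mem hh_KK

/-- roots -/
def crM (i : ℕ) : List (ℕ × ℕ) := match i with
  | 0 => CRM0
  | 1 => CRM1
  | 2 => CRM2
  | 3 => CRM3
  | 4 => CRM4
  | 5 => CRM5
  | 6 => CRM6
  | 7 => CRM7
  | 8 => CRM8
  | 9 => CRM9
  | 10 => CRM10
  | 11 => CRM11
  | 12 => CRM12
  | 13 => CRM13
  | 14 => CRM14
  | 15 => CRM15
  | 16 => CRM16
  | 17 => CRM17
  | 18 => CRM18
  | _ => CRM19
/-- growth -/
def cgM (i : ℕ) : List (ℕ × ℕ × ℕ) := match i with
  | 0 => CGM0
  | 1 => CGM1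
  | 2 => CGM2
  | 3 => CGM3
  | 4 => CGM4
  | 5 => CGM5
  | 6 => CGM6
  | 7 => CGM7
  | 8 => CGM8
  | 9 => CGM9
  | 10 => CGM10
  | 11 => CGM11
  | 12 => CGM12
  | 13 => CGM13
  | 14 => CGM14
  | 15 => CGM15
  | 16 => CGM16
  | 17 => CGM17
  | 18 => CGM18
  | _ => CGM19

theorem covM_all : ∀ i < 20, cover (LI LTM) U3 66 FTM base7 2316 20 3795 388 i (crM i) (cgM i) = true := by
  intro i hi
  interval_cases i
  · exact covM0
  · exact covM1
  · exact covM2
  · exact covM3
  · exact covM4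
  · exact covM5
  · exact covM6
  · exact covM7
  · exact covM8
  · exact covM9
  · exact covM10
  · exact covM11
  · exact covM12
  · exact covM13
  · exact covM14
  · exact covM15
  · exact covM16
  · exact covM17
  · exact covM18
  · exact covM19

theorem main_index : KK.index ≠ 0 ∧ KK.index ≤ 173067389 := by
  have hf := (faith Pg_le).2
  have hc := insM.card Pg_le hvM hkvM dfM hchkM (AK psi KK) (TK (X 2) KK) ((1 : J4) : J4 ⧸ KK)
    (TK_sq (X 2) KK t_sq) (TK_comm psi (X 2) KK (t94 insM rcM)) (TK_comm psi (X 2) KK (t95 insM rcM))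
    (by
      intro a ha
      have e : relsM = [[(66, 67), (66, 67), (66, 67)], [(68, 69), (73, 72), (68, 69), (73, 72)]] := rfl
      rw [e] at ha
      simp only [List.mem_cons, List.not_mem_nil, or_false] at ha
      rcases ha with rfl | rfl
      · exact Op_one psi (X 2) KK _ (op1 insM rcM)
      · exact Op_one psi (X 2) KK _ (op2 insM rcM))
    krM (AK_y0 psi KK KK_psi) CHM RRM 20 (by norm_num) chM φ3 U3 3795 388 supp3 (by norm_num) insM.hL3
    (insM.stab_mem φ3 388 64512 (stab3 Pg_le) DCM dcM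
      (fixpt insM φ3 U3 3795 388 insM.hL3 94 (by norm_num) (by norm_num) g94M f94M (by norm_num))
      (fixpt insM φ3 U3 3795 388 insM.hL3 95 (by norm_num) (by norm_num) g95M f95M (by norm_num)))
    crM cgM covM_all (fun i => 244823040 / RRM.get i) nM rM
    (fun S a b c => act_trans psi (X 2) _ t_sq J4_gen S a b c)
  obtain ⟨c1, c2⟩ := hc
  rw [sumM_eq, sM] at c2
  refine ⟨?_, c2⟩
  haveI := c1
  exact Subgroup.index_ne_zero_of_finite (H := KK)

end Cfsg.Agent.Lib.J4E
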