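import Cfsg.Agent.Lib.J4VGlue

/-!
The structure of the subgroup `KK = 2^11 : M24` of the presented fourth Janko group from an index bound (helper57).
-/

set_option autoImplicit false
set_option linter.all false
set_option maxRecDepth 100000

namespace Cfsg.Agent.Lib.J4VGlue

open Cfsg.Spor Cfsg.Agent.Lib.H58SM Cfsg.Agent.Lib.BenesWord Cfsg.Agent.Lib.MatF2 Cfsg.Agent.Lib.CosetGroup
open Cfsg.Agent.Lib.CoxBridge Cfsg.Agent.Lib.J4Rho Cfsg.Agent.Lib.ProjSL Cfsg.Agent.Lib.J4RhoHom Cfsg.Agent.Lib.J4Words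
open Cfsg.Agent.Lib.ChainCard Cfsg.Agent.Lib.J4Main Cfsg.Agent.Lib.J4HRel

theorem xx : pr [0, 0] = pr [] := pr_eq (by decide +kernel) (by decide +kernel) (by decide +kernel)
theorem yyy : pr [1, 1, 1] = pr [] := pr_eq (by decide +kernel) (by decide +kernel) (by decide +kernel)

theorem rho_PP0 {p : J4} (hp : p ∈ PP) : ∀ a ∈ VG, (rho p)⁻¹ * a * rho p ∈ VG ∧ rho p * a * (rho p)⁻¹ ∈ VG := by
  have h0 : (x 0)⁻¹ = x 0 := by
    have h := xx
    rw [pr_cons, pr_cons, pr_nil, mul_one] at h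
    exact inv_eq_of_mul_eq_one_left h
  have h1 : (x 1)⁻¹ = x 1 * x 1 := by
    have h := yyy
    rw [pr_cons, pr_cons, pr_cons, pr_nil, mul_one] at h
    exact inv_eq_of_mul_eq_one_right h
  have c0 : ∀ a ∈ VG, (x 0)⁻¹ * a * x 0 ∈ VG := fun a ha => conj_mem (by norm_num) tx_lt gx ha
  have c1 : ∀ a ∈ VG, (x 1)⁻¹ * a * x 1 ∈ VG := fun a ha => conj_mem (by norm_num) ty_lt gy ha
  refine Subgroup.closure_induction (p := fun p _ => ∀ a ∈ VG, (rho p)⁻¹ * a * rho p ∈ VG ∧ rho p * a * (rho p)⁻¹ ∈ VG) ?_ ?_ ?_ ?_ hp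
  · intro q hq a ha
    rcases hq with rfl | hq
    · rw [rho_X 0 (by norm_num)]
      refine ⟨c0 a ha, ?_⟩
      have := c0 a ha
      rwa [h0] at this ⊢
    · rw [Set.mem_singleton_iff.1 hq, rho_X 1 (by norm_num)]
      refine ⟨c1 a ha, ?_⟩
      have h2 := c1 _ (c1 a ha)
      have h3 : (x 1)⁻¹ * ((x 1)⁻¹ * a * x 1) * x 1 = x 1 * a * (x 1)⁻¹ := by
        have h4 : (x 1)⁻¹ * (x 1)⁻¹ = x 1 := by
          rw [← mul_inv_rev, ← h1, inv_inv]
        calc (x 1)⁻¹ * ((x 1)⁻¹ * a * x 1) * x 1 = ((x 1)⁻¹ * (x 1)⁻¹) * a * (x 1 * x 1) := by group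
          _ = _ := by rw [h4, ← h1]
      rwa [h3] at h2
  · intro a ha
    rw [map_one]
    simpa using ha
  · intro p q _ _ h2 h3 a ha
    rw [map_mul]
    constructor
    · have := (h3 _ (h2 a ha).1).1
      have e : (rho p * rho q)⁻¹ * a * (rho p * rho q) = (rho q)⁻¹ * ((rho p)⁻¹ * a * rho p) * rho q := by group
      rwa [e]
    · have := (h2 _ (h3 a ha).2).2
      have e : (rho p * rho q) * a * (rho p * rho q)⁻¹ = rho p * (rho q * a * (rho q)⁻¹) * (rho p)⁻¹ := by group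
      rwa [e]
  · intro p _ h2 a ha
    rw [map_inv, inv_inv]
    exact (h2 a ha).symm

theorem rho_PP {p : J4} (hp : p ∈ PP) : ∀ a ∈ VG, (rho p)⁻¹ * a * rho p ∈ VG := fun a ha => (rho_PP0 hp a ha).1

/-- the normal closure of the involution -/
noncomputable def VV : Subgroup J4 := Subgroup.closure {v | ∃ p ∈ PP, v = p * hh * p⁻¹}

theorem hh_mem : hh ∈ VV := Subgroup.subset_closure ⟨1, PP.one_mem, by simp⟩

theorem norm_VV : PP ≤ Subgroup.normalizer (VV : Set J4) := by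
  rw [VV, Subgroup.le_normalizer_closure_iff]
  rintro q hq _ ⟨p, hp, rfl⟩
  apply Subgroup.subset_closure
  exact ⟨q * p, PP.mul_mem hq hp, by group⟩

theorem PP_le : PP ≤ KK := by
  apply (Subgroup.closure_le _).2
  intro y hy
  apply Subgroup.subset_closure
  rcases hy with rfl | hy
  · simp
  · rw [Set.mem_singleton_iff] at hy
    simp [hy]

theorem VV_le : VV ≤ KK := by
  rw [VV, Subgroup.closure_le]
  rintro _ ⟨p, hp, rfl⟩
  have h1 : hh ∈ KK := Subgroup.subset_closure (by simp)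
  exact KK.mul_mem (KK.mul_mem (PP_le hp) h1) (KK.inv_mem (PP_le hp))

theorem rho_hh_mem : rho hh ∈ VG := by
  rw [rho_hh]
  have h1 : vv 0 = pr lh := by
    show pr (iw [] ++ lh ++ []) = pr lh
    rw [List.append_nil]
    rfl
  rw [← h1]
  exact vv_mem (by norm_num)

theorem rho_VV : ∀ v ∈ VV, rho v ∈ VG := by
  have h : VV ≤ VG.comap rho := by
    rw [VV, Subgroup.closure_le]
    rintro _ ⟨p, hp, rfl⟩
    show rho (p * hh * p⁻¹) ∈ VG
    have h1 := rho_PP (PP.inv_mem hp) _ rho_hh_mem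
    rw [map_inv, inv_inv] at h1
    rw [map_mul, map_mul, map_inv]
    exact h1
  exact fun v hv => h hv

theorem sq_VV {v : J4} (hv : v ∈ VV) : rho (v * v) = 1 := by
  rw [map_mul]
  exact VG_sq (rho_VV v hv)

theorem inf_VV (hP : Nonempty (PP ≃* M24)) : VV ⊓ PP = ⊥ := by
  apply J4Abs.inf_eq_bot (simple_PP hP) norm_VV
  intro h
  have h1 := sq_VV (h gg_mem)
  have h2 : (rho gg) ^ 23 = 1 := by rw [rho_gg, g_pow]
  apply rho_gg_ne
  rw [map_mul] at h1
  calc rho gg = (rho gg) ^ 23 * ((rho gg * rho gg) ^ 11)⁻¹ := by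
        rw [← pow_two, ← pow_mul, show (23 : ℕ) = 1 + 2 * 11 from rfl, pow_add, mul_inv_cancel_right, pow_one]
    _ = 1 := by rw [h2, h1, one_pow, inv_one, mul_one]

theorem gh_ne' : f gg * f hh ≠ f hh * f gg := by
  intro h
  apply gh_ne
  have h1 := congrArg Subtype.val h
  rw [Subgroup.coe_mul, Subgroup.coe_mul, f_val, f_val, rho_gg, rho_hh] at h1
  rw [pr_append, pr_append, h1]

theorem card_map : ∃ a, Nat.card (VV.map f) = 2 ^ a ∧ 11 ≤ a := by
  have h2 : IsPGroup 2 (VV.map f) := by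
    intro v
    obtain ⟨w, hw, hw2⟩ := v.2
    refine ⟨1, ?_⟩
    apply Subtype.ext
    rw [pow_one, Subgroup.coe_pow, pow_two, ← hw2, ← map_mul]
    apply Subtype.ext
    rw [f_val, sq_VV hw]
    rfl
  haveI : Fact (Nat.Prime 2) := ⟨Nat.prime_two⟩
  obtain ⟨a, ha⟩ := IsPGroup.iff_card.1 h2
  refine ⟨a, ha, ?_⟩
  have hg : (f gg) ^ 23 = 1 := by
    apply Subtype.ext
    rw [Subgroup.coe_pow, f_val, rho_gg, g_pow]
    rfl
  have hn : f gg ∈ Subgroup.normalizer ((VV.map f : Subgroup R) : Set R) :=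
    ((Subgroup.map_mono norm_VV).trans (Subgroup.le_normalizer_map f)) (Subgroup.mem_map_of_mem f gg_mem)
  obtain ⟨b, _, hb⟩ := fix_23 hg hn ha (Subgroup.mem_map_of_mem f hh_mem) gh_ne'
  omega

theorem card_KK (hP : Nonempty (PP ≃* M24)) : Nat.card KK = (PP.subgroupOf KK).index * 244823040 := by
  rw [← Subgroup.card_mul_index (PP.subgroupOf KK), Nat.card_congr (Subgroup.subgroupOfEquivOfLe PP_le).toEquiv, card_PP hP, mul_comm]

/-- squares in the normal closure are trivial -/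
theorem sq_one (hP : Nonempty (PP ≃* M24)) (h0 : (PP.subgroupOf KK).index ≠ 0) (h1 : (PP.subgroupOf KK).index ≤ 2048) :
    ∀ v ∈ VV, v * v = 1 := by
  have hK := card_KK hP
  have hK0 : Nat.card KK ≠ 0 := by rw [hK]; exact Nat.mul_ne_zero h0 (by norm_num)
  haveI : Finite KK := Nat.finite_of_card_ne_zero hK0
  haveI : Finite VV := Finite.of_injective (Subgroup.inclusion VV_le) (Subgroup.inclusion_injective _)
  have h2 := mul_dvd_sup norm_VV (inf_VV hP)
  have h3 := h2.trans (Subgroup.card_dvd_of_le (sup_le VV_le PP_le))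
  have h4 := Nat.le_of_dvd (Nat.pos_of_ne_zero hK0) h3
  rw [card_PP hP, hK] at h4
  have h5 : Nat.card VV ≤ 2048 := by
    by_contra h6
    have h7 : 2048 * 244823040 < Nat.card VV * 244823040 := Nat.mul_lt_mul_of_pos_right (by omega) (by norm_num)
    have h8 : (PP.subgroupOf KK).index * 244823040 ≤ 2048 * 244823040 := Nat.mul_le_mul_right _ h1
    omega
  obtain ⟨a, ha, ha2⟩ := card_map
  have h6 : 2048 ≤ Nat.card (VV.map f) := by
    rw [ha]
    calc 2048 = 2 ^ 11 := by norm_num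
      _ ≤ 2 ^ a := Nat.pow_le_pow_right (by norm_num) ha2
  have h7 : Function.Surjective (f.subgroupMap VV) := f.subgroupMap_surjective VV
  have h8 : Nat.card (VV.map f) ≤ Nat.card VV := Nat.card_le_card_of_surjective _ h7
  have h9 : Function.Bijective (f.subgroupMap VV) := by
    rw [Nat.bijective_iff_surjective_and_card]
    exact ⟨h7, by omega⟩
  intro v hv
  have h10 : f.subgroupMap VV (⟨v, hv⟩ * ⟨v, hv⟩) = f.subgroupMap VV 1 := by
    apply Subtype.ext
    apply Subtype.ext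
    show rho (v * v) = rho 1
    rw [sq_VV hv, map_one]
  exact congrArg Subtype.val (h9.1 h10)

/-- the structure from the index bounds -/
noncomputable def hyp (hP : Nonempty (PP ≃* M24)) (h0 : (PP.subgroupOf KK).index ≠ 0) (h1 : (PP.subgroupOf KK).index ≤ 2048)
    (i0 : KK.index ≠ 0) (i1 : KK.index ≤ 173067389) : J4Main.Hyp where
  hP := hP
  V := VV
  hV := norm_VV
  hV2 := sq_one hP h0 h1
  hhV := hh_mem
  hVK := VV_le
  hK0 := by rw [card_KK hP]; exact Nat.mul_ne_zero h0 (by norm_num)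
  hK := by rw [card_KK hP]; exact Nat.mul_le_mul_right _ h1
  hi0 := i0
  hi := i1

end Cfsg.Agent.Lib.J4VGlue
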