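import Cfsg.Agent.Lib.J4Cmn
import Cfsg.Agent.Lib.J4ChkV0
import Cfsg.Agent.Lib.J4CovV0
import Cfsg.Agent.Lib.J4LetV
import Cfsg.Agent.Lib.J4VGlue2

/-!
# The index of `P` in `KK` is at most 2048
-/

set_option autoImplicit false
set_option linter.all false
set_option maxRecDepth 100000

namespace Cfsg.Agent.Lib.J4E

open Cfsg.Spor Cfsg.Agent.Lib.J4Main Cfsg.Agent.Lib.J4RhoHom Cfsg.Agent.Lib.J4HRel

theorem hchkV : ∀ k < 191, ∃ It, chk1 (LI LTV) (dlI 757) FTV base7 relsV 3 krelV 0 0 k (FTV.get k) It = true := by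
  intro k hk
  by_cases h0 : k < 100
  · exact chkR_spec kV0 k (by omega) (by omega)
  · exact chkR_spec kV1 k (by omega) (by omega)

theorem KKPP : PP ≤ KK := J4VGlue.PP_le

/-- the homomorphism into `KK` -/
noncomputable def psiV : Pg →* KK := psi.codRestrict KK (fun p => KKPP (psi_mem p))
/-- the involution in `KK` -/
noncomputable def tauV : KK := ⟨hh, Subgroup.subset_closure (by simp)⟩

theorem psiV_coe (p : Pg) : ((psiV p : KK) : J4) = psi p := rfl

theorem genV : Subgroup.closure (Set.range psiV ∪ {tauV}) = (⊤ : Subgroup KK) := by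
  rw [eq_top_iff]
  have h : Subgroup.closure ((Subtype.val : (Subgroup.closure ({X 0, X 1, hh} : Set J4)) → J4) ⁻¹' ({X 0, X 1, hh} : Set J4)) = ⊤ :=
    Subgroup.closure_closure_coe_preimage
  have h2 : (⊤ : Subgroup KK) = Subgroup.closure ((Subtype.val : KK → J4) ⁻¹' ({X 0, X 1, hh} : Set J4)) := h.symm
  rw [h2, Subgroup.closure_le]
  rintro z (hz | hz | hz)
  · exact Subgroup.subset_closure (Or.inl ⟨px, Subtype.ext (by rw [psiV_coe, psi_px]; exact hz.symm)⟩)
  · exact Subgroup.subset_closure (Or.inl ⟨py, Subtype.ext (by rw [psiV_coe, psi_py]; exact hz.symm)⟩)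
  · exact Subgroup.subset_closure (Or.inr (Subtype.ext hz))

theorem fixpt {LT WT : Tr ℕ} {FT : Tr Fact} {nD : ℕ} (I : Ins LT WT FT nD) (φ : Pg →* Equiv.Perm ℕ) (U : ℕ → ℕ → ℕ) (mo pt : ℕ)
    (hU : ∀ c, c < 66 → ∀ i < mo, φ (xv bP (fun c => WT.get c) c) i = U c i ∧ U c i < mo) (c : ℕ) (hc : 4 ≤ c) (hc' : c < 4096)
    (hl : lets 66 24 (WT.get c) = true) (h : Nat.beq (ap U 24 (WT.get c) pt) pt = true) (hpt : pt < mo) :
    φ (xv bP (fun c => WT.get c) c) pt = pt := by
  rw [xv_ge _ _ (by omega) (I.cl c hc hc').1]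
  have h1 := ap_sound' hU 24 (WT.get c) pt hl hpt
  rw [h1.1]
  exact Nat.eq_of_beq_eq_true h

theorem y80V : chkX WTV 80 lc1 = true := by decide +kernel
theorem x94V : chkX WTV 94 lc1 = true := by decide +kernel
theorem x95V : chkX WTV 95 lc2 = true := by decide +kernel
theorem x82V : chkX WTV 82 lgt = true := by decide +kernel
theorem f94V : Nat.beq (ap U6 24 (WTV.get 94) 1494) 1494 = true := by decide +kernel
theorem f95V : Nat.beq (ap U6 24 (WTV.get 95) 1494) 1494 = true := by decide +kernel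
theorem g94V : lets 66 24 (WTV.get 94) = true := by decide +kernel
theorem g95V : lets 66 24 (WTV.get 95) = true := by decide +kernel
theorem pV : chkV (LI LTV) base7 [(83, 82)] = true := by decide +kernel
theorem nV : ∀ i < 3, 244823040 ≤ (244823040 / RRV.get i) * RRV.get i := by decide +kernel
theorem rV : ∀ i < 3, 0 < RRV.get i := by decide +kernel
theorem sV : 244823040 / RRV.get 0 + 244823040 / RRV.get 1 + 244823040 / RRV.get 2 = 2048 := by decide +kernel

theorem pp_index (h1 : pJ lc1 * hh = hh * pJ lc1) (h2 : pJ lc2 * hh = hh * pJ lc2) (h3 : hh * hh = 1) (h4 : (hh * pJ lgt) ^ 3 = 1) :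
    (PP.subgroupOf KK).index ≠ 0 ∧ (PP.subgroupOf KK).index ≤ 2048 := by
  have hf := (faith Pg_le).2
  have hKm : ∀ p, psiV p ∈ PP.subgroupOf KK := fun p => by
    rw [Subgroup.mem_subgroupOf, psiV_coe]; exact psi_mem p
  have ht : tauV * tauV = 1 := Subtype.ext h3
  have hc := insV.card Pg_le hvV hkvV dfV hchkV (AK psiV (PP.subgroupOf KK)) (TK tauV (PP.subgroupOf KK)) ((1 : KK) : KK ⧸ PP.subgroupOf KK)
    (TK_sq tauV _ ht)
    (TK_comm psiV tauV _ (Subtype.ext (by
      show hh * psi _ = psi _ * hh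
      rw [insV.psi_letter 94 _ x94V]; exact h1.symm)))
    (TK_comm psiV tauV _ (Subtype.ext (by
      show hh * psi _ = psi _ * hh
      rw [insV.psi_letter 95 _ x95V]; exact h2.symm)))
    (by
      intro a ha
      have e : ∃ w wi, relsV = [[(83, 82), (83, 82), (83, 82)], [(0, 0), (w, wi), (0, 0), (wi, w)]] := ⟨_, _, rfl⟩
      obtain ⟨w, wi, e⟩ := e
      have hpair := insV.inv_pairs hf _ (chkVs_spec hvV a ha)
      rw [e] at ha
      simp only [List.mem_cons, List.not_mem_nil, or_false] at ha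
      rcases ha with rfl | rfl
      · apply Op_one
        have e1 := evw_one (xv bP (fun c => WTV.get c)) 83 22 (by norm_num) (by norm_num)
        have e2 := evw_one (xv bP (fun c => WTV.get c)) 82 22 (by norm_num) (by norm_num)
        have hp := hpair (83, 82) (by simp)
        have hp' : xv bP (fun c => WTV.get c) 83 * xv bP (fun c => WTV.get c) 82 = 1 := by rw [← e1, ← e2]; exact hp
        have hp2 := congrArg psi hp'
        rw [map_mul, map_one, insV.psi_letter 82 _ x82V] at hp2
        have hp3 := eq_inv_of_mul_eq_one_left hp2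
        simp only [opG]
        show 1 * (psiV (evw (xv bP (fun c => WTV.get c)) (22 + 2) 83) * tauV) * (psiV (evw (xv bP (fun c => WTV.get c)) (22 + 2) 83) * tauV) *
          (psiV (evw (xv bP (fun c => WTV.get c)) (22 + 2) 83) * tauV) = 1
        rw [e1, one_mul]
        apply Subtype.ext
        show psi _ * hh * (psi _ * hh) * (psi _ * hh) = 1
        rw [hp3]
        have h5 : (pJ lgt)⁻¹ * hh = (hh * pJ lgt)⁻¹ := by
          rw [mul_inv_rev, inv_eq_of_mul_eq_one_left h3]
        rw [h5]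
        have h6 : (hh * pJ lgt)⁻¹ * (hh * pJ lgt)⁻¹ * (hh * pJ lgt)⁻¹ = ((hh * pJ lgt) ^ 3)⁻¹ := by
          rw [← inv_pow, pow_succ, pow_two]
        rw [h6, h4, inv_one]
      · apply Op_one
        have hp := hpair (wi, w) (by simp)
        have hp2 := congrArg psiV hp
        rw [map_mul, map_one] at hp2
        simp only [opG]
        rw [xv0, map_one, one_mul, one_mul]
        calc psiV (evw (xv bP (fun c => WTV.get c)) 24 wi) * tauV * tauV * (psiV (evw (xv bP (fun c => WTV.get c)) 24 w) * tauV) * tauV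
            = psiV (evw (xv bP (fun c => WTV.get c)) 24 wi) * (tauV * tauV) * psiV (evw (xv bP (fun c => WTV.get c)) 24 w) * (tauV * tauV) := by
              simp only [mul_assoc]
          _ = 1 := by rw [ht, mul_one, mul_one]; exact hp2)
    rfl (AK_y0 psiV _ hKm) CHV RRV 3 (by norm_num) chV φ6 U6 1771 1494 supp6 (by norm_num) insV.hL6
    (insV.stab_mem φ6 1494 138240 (stab6 Pg_le) DCV dcV
      (fixpt insV φ6 U6 1771 1494 insV.hL6 94 (by norm_num) (by norm_num) g94V f94V (by norm_num))
      (fixpt insV φ6 U6 1771 1494 insV.hL6 95 (by norm_num) (by norm_num) g95V f95V (by norm_num)))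
    (fun i => match i with | 0 => CRV0 | 1 => CRV1 | _ => CRV2) (fun i => match i with | 0 => CGV0 | 1 => CGV1 | _ => CGV2)
    (by
      intro i hi
      interval_cases i
      · exact covV0
      · exact covV1
      · exact covV2)
    (fun i => 244823040 / RRV.get i) nV rV
    (fun S a b c => act_trans psiV tauV _ ht genV S a b c)
  obtain ⟨c1, c2⟩ := hc
  have hs : ∑ i : Fin 3, 244823040 / RRV.get (i : ℕ) = 2048 := by
    rw [Fin.sum_univ_three]; exact sV
  rw [hs] at c2
  refine ⟨?_, c2⟩
  haveI := c1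
  exact Subgroup.index_ne_zero_of_finite (H := PP.subgroupOf KK)

end Cfsg.Agent.Lib.J4E
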