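import Cfsg.Agent.Lib.J4PTab

/-!
# M24 as a permutation group on 24 points, 3795 trios, 1771 sextets
-/

set_option autoImplicit false
set_option linter.all false
set_option maxRecDepth 100000
set_option exponentiation.threshold 100000

namespace Cfsg.Agent.Lib.J4E

open Cfsg.Agent.Lib.BenesWord

/-- table on 24 points -/
def U24 (c i : ℕ) : ℕ := d5 (UT24.get c) i
/-- table on trios -/
def U3 (c i : ℕ) : ℕ := d12 (UT3.get c) i
/-- table on sextets -/
def U6 (c i : ℕ) : ℕ := d12 (UT6.get c) i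

theorem q1 : chkQ 24 (U24 1) (U24 1) 24 = true := by decide +kernel
theorem q2 : chkQ 24 (U24 2) (U24 3) 24 = true := by decide +kernel
theorem q3 : chkQ 3795 (U3 1) (U3 1) 3795 = true := by decide +kernel
theorem q4 : chkQ 3795 (U3 2) (U3 3) 3795 = true := by decide +kernel
theorem q5 : chkQ 1771 (U6 1) (U6 1) 1771 = true := by decide +kernel
theorem q6 : chkQ 1771 (U6 2) (U6 3) 1771 = true := by decide +kernel

/-- the generator `x` -/
def xh : G0 := (mkPerm 24 (U24 1) (U24 1) q1, mkPerm 3795 (U3 1) (U3 1) q3, mkPerm 1771 (U6 1) (U6 1) q5)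
/-- the generator `y` -/
def yh : G0 := (mkPerm 24 (U24 2) (U24 3) q2, mkPerm 3795 (U3 2) (U3 3) q4, mkPerm 1771 (U6 2) (U6 3) q6)

/-- the group -/
def Pg : Subgroup G0 := Subgroup.closure {xh, yh}

/-- `x` -/
def px : Pg := ⟨xh, Subgroup.subset_closure (by simp)⟩
/-- `y` -/
def py : Pg := ⟨yh, Subgroup.subset_closure (by simp)⟩

/-- base letters -/
noncomputable def bP (c : ℕ) : Pg := if c = 1 then px else if c = 2 then py else if c = 3 then py⁻¹ else 1

/-- action on points -/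
def φ1 : Pg →* Equiv.Perm ℕ := (MonoidHom.fst _ _).comp Pg.subtype
/-- action on trios -/
def φ3 : Pg →* Equiv.Perm ℕ := ((MonoidHom.fst _ _).comp (MonoidHom.snd _ _)).comp Pg.subtype
/-- action on sextets -/
def φ6 : Pg →* Equiv.Perm ℕ := ((MonoidHom.snd _ _).comp (MonoidHom.snd _ _)).comp Pg.subtype

/-- identity table -/
def chkI (t : ℕ → ℕ → ℕ) : ℕ → Bool
  | 0 => true
  | i + 1 => Nat.beq (t 0 i) i && chkI t i

theorem chkI_spec {t : ℕ → ℕ → ℕ} {n : ℕ} (h : chkI t n = true) : ∀ i < n, t 0 i = i := by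
  induction n with
  | zero => intro i hi; omega
  | succ n ih =>
    simp only [chkI, Bool.and_eq_true, Nat.beq_eq] at h
    intro i hi
    rcases Nat.lt_succ_iff_lt_or_eq.mp hi with hi | rfl
    · exact ih h.2 i hi
    · exact h.1

theorem i1 : chkI U24 24 = true := by decide +kernel
theorem i3 : chkI U3 3795 = true := by decide +kernel
theorem i6 : chkI U6 1771 = true := by decide +kernel

theorem base4 (φ : Pg →* Equiv.Perm ℕ) (t : ℕ → ℕ → ℕ) (m : ℕ) (h1 : chkQ m (t 1) (t 1) m = true) (h2 : chkQ m (t 2) (t 3) m = true)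
    (h0 : chkI t m = true) (e1 : φ px = mkPerm m (t 1) (t 1) h1) (e2 : φ py = mkPerm m (t 2) (t 3) h2) :
    ∀ c < 4, ∀ i < m, φ (bP c) i = t c i ∧ t c i < m := by
  intro c hc i hi
  have a1 := chkQ_spec h1 i hi
  have a2 := chkQ_spec h2 i hi
  interval_cases c
  · have e : bP 0 = 1 := by simp [bP]
    rw [e, map_one, chkI_spec h0 i hi]; exact ⟨rfl, hi⟩
  · have e : bP 1 = px := by simp [bP]
    rw [e, e1, mkPerm_lt hi]; exact ⟨rfl, a1.1.1⟩
  · have e : bP 2 = py := by simp [bP]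
    rw [e, e2, mkPerm_lt hi]; exact ⟨rfl, a2.1.1⟩
  · have e : bP 3 = py⁻¹ := by simp [bP]
    rw [e, map_inv, e2, mkPerm_symm_lt hi]; exact ⟨rfl, a2.1.2⟩

theorem b1 : ∀ c < 4, ∀ i < 24, φ1 (bP c) i = U24 c i ∧ U24 c i < 24 := base4 φ1 U24 24 q1 q2 i1 rfl rfl
theorem b3 : ∀ c < 4, ∀ i < 3795, φ3 (bP c) i = U3 c i ∧ U3 c i < 3795 := base4 φ3 U3 3795 q3 q4 i3 rfl rfl
theorem b6 : ∀ c < 4, ∀ i < 1771, φ6 (bP c) i = U6 c i ∧ U6 c i < 1771 := base4 φ6 U6 1771 q5 q6 i6 rfl rfl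

theorem c1 : chkL U24 (fun c => UW.get c) 24 4 62 = true := by decide +kernel
theorem c6 : chkL U6 (fun c => UW.get c) 1771 4 62 = true := by decide +kernel
theorem c3a : chkL U3 (fun c => UW.get c) 3795 4 31 = true := by decide +kernel
theorem c3b : chkL U3 (fun c => UW.get c) 3795 35 31 = true := by decide +kernel

/-- universal letters -/
noncomputable def xu : ℕ → Pg := xv bP (fun c => UW.get c)

theorem act1 : ∀ c, c < 66 → ∀ i < 24, φ1 (xu c) i = U24 c i ∧ U24 c i < 24 :=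
  act_all b1 (fun c h4 hc => chkL_spec c1 c h4 (by omega))
theorem act3 : ∀ c, c < 66 → ∀ i < 3795, φ3 (xu c) i = U3 c i ∧ U3 c i < 3795 :=
  act_all b3 (fun c h4 hc => by
    by_cases h : c < 35
    · exact chkL_spec c3a c h4 (by omega)
    · exact chkL_spec c3b c (by omega) (by omega))
theorem act6 : ∀ c, c < 66 → ∀ i < 1771, φ6 (xu c) i = U6 c i ∧ U6 c i < 1771 :=
  act_all b6 (fun c h4 hc => chkL_spec c6 c h4 (by omega))

end Cfsg.Agent.Lib.J4E
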