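import Cfsg.Agent.Lib.J4Eng2
import Cfsg.Agent.Lib.BenesWord

/-!
# The Mathieu group M24 as a permutation group on 24, 3795, 1771 points: generalities
-/

set_option autoImplicit false
set_option linter.all false

namespace Cfsg.Agent.Lib.J4E

open Cfsg.Agent.Lib.BenesWord

/-- digits of 5 bits -/
def d5 (t i : ℕ) : ℕ := Nat.mod (Nat.shiftRight t (Nat.mul (nat_lit 5) i)) (nat_lit 32)

/-- digits of 12 bits -/
def d12 (t i : ℕ) : ℕ := Nat.mod (Nat.shiftRight t (Nat.mul (nat_lit 12) i)) (nat_lit 4096)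

/-- mutually inverse tables -/
def chkQ (m : ℕ) (f g : ℕ → ℕ) : ℕ → Bool
  | 0 => true
  | i + 1 => ((Nat.blt (f i) m && Nat.blt (g i) m) && (Nat.beq (g (f i)) i && Nat.beq (f (g i)) i)) && chkQ m f g i

theorem chkQ_spec {m : ℕ} {f g : ℕ → ℕ} {n : ℕ} (h : chkQ m f g n = true) : ∀ i < n, (f i < m ∧ g i < m) ∧ (g (f i) = i ∧ f (g i) = i) := by
  induction n with
  | zero => intro i hi; omega
  | succ n ih =>
    simp only [chkQ, Bool.and_eq_true, Nat.beq_eq, Nat.blt_eq] at h
    intro i hi
    rcases Nat.lt_succ_iff_lt_or_eq.mp hi with hi | rfl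
    · exact ih h.2 i hi
    · exact h.1

/-- permutation from tables -/
def mkPerm (m : ℕ) (f g : ℕ → ℕ) (h : chkQ m f g m = true) : Equiv.Perm ℕ where
  toFun i := if i < m then f i else i
  invFun i := if i < m then g i else i
  left_inv i := by
    by_cases hi : i < m
    · simp only [hi, if_true, ((chkQ_spec h) i hi).1.1, ((chkQ_spec h) i hi).2.1]
    · simp only [hi, if_false]
  right_inv i := by
    by_cases hi : i < m
    · simp only [hi, if_true, ((chkQ_spec h) i hi).1.2, ((chkQ_spec h) i hi).2.2]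
    · simp only [hi, if_false]

theorem mkPerm_lt {m : ℕ} {f g : ℕ → ℕ} {h : chkQ m f g m = true} {i : ℕ} (hi : i < m) : mkPerm m f g h i = f i := if_pos hi
theorem mkPerm_symm_lt {m : ℕ} {f g : ℕ → ℕ} {h : chkQ m f g m = true} {i : ℕ} (hi : i < m) : (mkPerm m f g h)⁻¹ i = g i := if_pos hi
theorem mkPerm_ge {m : ℕ} {f g : ℕ → ℕ} {h : chkQ m f g m = true} {i : ℕ} (hi : ¬ i < m) : mkPerm m f g h i = i := if_neg hi

/-- the ambient group -/
abbrev G0 : Type := Equiv.Perm ℕ × Equiv.Perm ℕ × Equiv.Perm ℕ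

/-- everything in a tree -/
def Tr.all {α : Type} (p : α → Bool) : Tr α → Bool
  | Tr.l v => p v
  | Tr.n a b => a.all p && b.all p

theorem Tr.all_get {α : Type} {p : α → Bool} {t : Tr α} (h : t.all p = true) (c : ℕ) : p (t.get c) = true := by
  induction t generalizing c with
  | l v => exact h
  | n a b iha ihb =>
    simp only [Tr.all, Bool.and_eq_true] at h
    unfold Tr.get
    cases Nat.beq (c % 2) 0 with
    | true => exact iha h.1 _
    | false => exact ihb h.2 _

/-- action of a list of base letters (`0 = x`, `1 = y`, `2 = 1`, `3 = y⁻¹`) -/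
def apl (t : ℕ → ℕ → ℕ) : List ℕ → ℕ → ℕ
  | [], i => i
  | c :: l, i => t c (apl t l i)

/-- relator checks -/
def chkW (t : ℕ → ℕ → ℕ) (l : List ℕ) : ℕ → Bool
  | 0 => true
  | i + 1 => Nat.beq (apl t l i) i && chkW t l i

theorem chkW_spec {t : ℕ → ℕ → ℕ} {l : List ℕ} {n : ℕ} (h : chkW t l n = true) : ∀ i < n, apl t l i = i := by
  induction n with
  | zero => intro i hi; omega
  | succ n ih =>
    simp only [chkW, Bool.and_eq_true, Nat.beq_eq] at h
    intro i hi
    rcases Nat.lt_succ_iff_lt_or_eq.mp hi with hi | rfl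
    · exact ih h.2 i hi
    · exact h.1

theorem xv_congr {P : Type*} [Group P] (b : ℕ → P) {wd wd' : ℕ → ℕ} {nU : ℕ} (h : ∀ c < nU, wd c = wd' c) :
    ∀ c < nU, xv b wd c = xv b wd' c := by
  intro c
  induction c using Nat.strong_induction_on with
  | _ c ih =>
    intro hc
    rw [xv, xv]
    by_cases h4 : c < 4
    · rw [if_pos h4, if_pos h4]
    · rw [if_neg h4, if_neg h4, h c hc]
      congr 1
      funext d hd
      exact ih d hd (by omega)

theorem evw_two {P : Type*} [Group P] (xs : ℕ → P) (a b n : ℕ) (ha : 0 < a) (ha' : a < 4096) (hb' : b < 4096) :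
    evw xs (n + 3) (a * 4096 + b) = xs a * xs b := by
  have h1 : (a * 4096 + b) / 4096 = a := by omega
  have h2 : (a * 4096 + b) % 4096 = b := by omega
  have h3 : Nat.beq (a * 4096 + b) 0 = false := by
    apply Bool.eq_false_iff.mpr
    intro h
    have := Nat.eq_of_beq_eq_true h
    omega
  have h4 : Nat.beq a 0 = false := by
    apply Bool.eq_false_iff.mpr
    intro h
    have := Nat.eq_of_beq_eq_true h
    omega
  have h5 : a / 4096 = 0 := by omega
  have h6 : a % 4096 = a := by omega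
  have h7 : Nat.beq 0 0 = true := rfl
  rw [evw, h3, h1, h2, evw, h4, h5, h6, evw, h7]
  simp

end Cfsg.Agent.Lib.J4E
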