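import Cfsg.Agent.Lib.J4Rel
import Cfsg.Agent.Lib.J4Act
import Cfsg.Agent.Lib.J4Main
import Cfsg.Agent.Lib.H3M24

/-!
# The homomorphism from the permutation group M24 to the presented group J4
-/

set_option autoImplicit false
set_option linter.all false
set_option maxRecDepth 100000

namespace Cfsg.Agent.Lib.J4E

open Cfsg.Spor Cfsg.Agent.Lib.BenesWord Cfsg.Agent.Lib.CosetGroup Cfsg.Agent.Lib.CoxBridge Cfsg.Agent.Lib.J4Main Cfsg.Agent.Lib.J4RhoHom

theorem relJ : ∀ W ∈ J4Rho.extraW, W.eval J4RhoHom.X = 1 :=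
  (pres_rel (edges := J4.edges) (extra := J4.extra) (gen := J4Rho.gen) (nn := 0) (ng := 3) (fun i hi => absurd hi (Nat.not_lt_zero i))
    (by norm_num) (extraW := J4Rho.extraW) rfl (by decide) J4RhoHom.X (fun c _ => rfl)).2.1

/-- pairs -/
noncomputable def vX (c : ℕ) : Pg × J4 := (vP c, X c)

theorem relV : ∀ W ∈ relW, W.eval vX = 1 := by
  intro W hW
  refine Prod.ext ?_ ?_
  · have h := Wd.map_eval (MonoidHom.fst Pg J4) vX W
    show (MonoidHom.fst Pg J4) (W.eval vX) = 1
    rw [h]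
    exact relP W hW
  · have h := Wd.map_eval (MonoidHom.snd Pg J4) vX W
    show (MonoidHom.snd Pg J4) (W.eval vX) = 1
    rw [h]
    exact relJ W (List.mem_of_mem_take hW)

/-- the diagonal -/
noncomputable def Dg : Subgroup (Pg × J4) := Subgroup.closure {vX 0, vX 1}

theorem relW_mem : ∀ n (h : n < relW.length), relW[n] ∈ relW := fun n h => List.getElem_mem h

theorem v1 : (vX 0) ^ 2 = 1 := by
  have h := relV _ (relW_mem 0 (by decide))
  simpa only [relW, J4Rho.extraW, List.take, List.getElem_cons_succ, List.getElem_cons_zero, Wd.eval] using h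
theorem v2 : (vX 1) ^ 3 = 1 := by
  have h := relV _ (relW_mem 1 (by decide))
  simpa only [relW, J4Rho.extraW, List.take, List.getElem_cons_succ, List.getElem_cons_zero, Wd.eval] using h
theorem v3 : (vX 0 * vX 1) ^ 23 = 1 := by
  have h := relV _ (relW_mem 2 (by decide))
  simpa only [relW, J4Rho.extraW, List.take, List.getElem_cons_succ, List.getElem_cons_zero, Wd.eval] using h
theorem v4 : ((vX 0)⁻¹ * (vX 1)⁻¹ * vX 0 * vX 1) ^ 12 = 1 := by
  have h := relV _ (relW_mem 3 (by decide))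
  simpa only [relW, J4Rho.extraW, List.take, List.getElem_cons_succ, List.getElem_cons_zero, Wd.eval] using h
theorem v5 : ((vX 0)⁻¹ * (vX 1 * vX 0 * vX 1)⁻¹ * vX 0 * (vX 1 * vX 0 * vX 1)) ^ 5 = 1 := by
  have h := relV _ (relW_mem 4 (by decide))
  simpa only [relW, J4Rho.extraW, List.take, List.getElem_cons_succ, List.getElem_cons_zero, Wd.eval] using h
theorem v6 : (vX 0 * vX 1 * ((vX 0 * vX 1 * vX 0 * (vX 1)⁻¹) ^ 3)) ^ 4 = 1 := by
  have h := relV _ (relW_mem 5 (by decide))
  simpa only [relW, J4Rho.extraW, List.take, List.getElem_cons_succ, List.getElem_cons_zero, Wd.eval] using h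
theorem v7 : (vX 0 * vX 1 * vX 0 * vX 1 * vX 0 * (vX 1)⁻¹) ^ 3 * (vX 0 * vX 1 * vX 0 * (vX 1)⁻¹ * vX 0 * (vX 1)⁻¹) ^ 3 = 1 := by
  have h := relV _ (relW_mem 6 (by decide))
  simpa only [relW, J4Rho.extraW, List.take, List.getElem_cons_succ, List.getElem_cons_zero, Wd.eval] using h

theorem Dg_card : Finite Dg ∧ Nat.card Dg ≤ 244823040 :=
  H3M24.m24_card (vX 0) (vX 1) v1 v2 v3 v4 v5 v6 v7

/-- projection -/
noncomputable def p1 : Dg →* Pg := (MonoidHom.fst Pg J4).comp Dg.subtype

theorem vP0 : vP 0 = px := by simp [vP]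
theorem vP1 : vP 1 = py := by simp [vP]

theorem Pg_gen : Subgroup.closure {px, py} = (⊤ : Subgroup Pg) := by
  rw [eq_top_iff]
  rintro ⟨z, hz⟩ _
  have h : ∀ z (hz : z ∈ Pg), (⟨z, hz⟩ : Pg) ∈ Subgroup.closure {px, py} := by
    intro z hz
    refine Subgroup.closure_induction (p := fun z hz => (⟨z, hz⟩ : Pg) ∈ Subgroup.closure {px, py}) ?_ ?_ ?_ ?_ hz
    · rintro z (rfl | rfl)
      · exact Subgroup.subset_closure (Or.inl rfl)
      · exact Subgroup.subset_closure (Or.inr rfl)
    · exact Subgroup.one_mem _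
    · intro a b ha hb h1 h2
      exact Subgroup.mul_mem _ h1 h2
    · intro a ha h1
      exact Subgroup.inv_mem _ h1
  exact h z hz

theorem p1_surj : Function.Surjective p1 := by
  rw [← MonoidHom.range_eq_top, eq_top_iff, ← Pg_gen, Subgroup.closure_le]
  rintro z (rfl | rfl)
  · exact ⟨⟨vX 0, Subgroup.subset_closure (Or.inl rfl)⟩, vP0⟩
  · exact ⟨⟨vX 1, Subgroup.subset_closure (Or.inr rfl)⟩, vP1⟩

instance : Finite Pg := by
  haveI := Dg_card.1
  exact Finite.of_surjective p1 p1_surj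

theorem Pg_le : Nat.card Pg ≤ 244823040 := by
  haveI := Dg_card.1
  exact le_trans (Nat.card_le_card_of_surjective p1 p1_surj) Dg_card.2

theorem p1_bij : Function.Bijective p1 := by
  haveI := Dg_card.1
  rw [Nat.bijective_iff_surjective_and_card]
  refine ⟨p1_surj, le_antisymm ?_ (Nat.card_le_card_of_surjective p1 p1_surj)⟩
  rw [(faith Pg_le).1]
  exact Dg_card.2

/-- the homomorphism -/
noncomputable def psi : Pg →* J4 := ((MonoidHom.snd Pg J4).comp Dg.subtype).comp (MulEquiv.ofBijective p1 p1_bij).symm.toMonoidHom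

theorem psi_px : psi px = X 0 := by
  have h : (MulEquiv.ofBijective p1 p1_bij) ⟨vX 0, Subgroup.subset_closure (Or.inl rfl)⟩ = px := vP0
  show ((MulEquiv.ofBijective p1 p1_bij).symm px).1.2 = X 0
  rw [← h, MulEquiv.symm_apply_apply]; rfl

theorem psi_py : psi py = X 1 := by
  have h : (MulEquiv.ofBijective p1 p1_bij) ⟨vX 1, Subgroup.subset_closure (Or.inr rfl)⟩ = py := vP1
  show ((MulEquiv.ofBijective p1 p1_bij).symm py).1.2 = X 1
  rw [← h, MulEquiv.symm_apply_apply]; rfl

theorem psi_range : psi.range = PP := by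
  rw [MonoidHom.range_eq_map, ← Pg_gen, MonoidHom.map_closure, Set.image_pair, psi_px, psi_py]
  rfl

theorem psi_mem (p : Pg) : psi p ∈ PP := by rw [← psi_range]; exact ⟨p, rfl⟩

/-- renaming of letters -/
def nm (c : ℕ) : ℕ := match c with
  | 1 => 0
  | 2 => 1
  | 3 => 3
  | _ => 4

theorem psi_b (c : ℕ) (h1 : c < 4) : psi (bP c) = XX (nm c) := by
  interval_cases c
  · show psi (bP 0) = 1
    have : bP 0 = 1 := by simp [bP]
    rw [this, map_one]
  · show psi (bP 1) = X 0
    have : bP 1 = px := by simp [bP]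
    rw [this, psi_px]
  · show psi (bP 2) = X 1
    have : bP 2 = py := by simp [bP]
    rw [this, psi_py]
  · show psi (bP 3) = (X 1)⁻¹
    have : bP 3 = py⁻¹ := by simp [bP]
    rw [this, map_inv, psi_py]

theorem psi_list (l : List ℕ) (h : ∀ c ∈ l, c < 4) : psi ((l.map bP).prod) = pJ (l.map nm) := by
  induction l with
  | nil => exact map_one psi
  | cons c l ih =>
    rw [List.map_cons, List.prod_cons, map_mul, ih (fun c hc => h c (List.mem_cons_of_mem _ hc)), psi_b c (h c List.mem_cons_self)]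
    rfl

/-- check of an expansion -/
def chkX (WT : Tr ℕ) (c : ℕ) (l : List ℕ) : Bool :=
  match expl WT 12 c with
  | none => false
  | some l' => decide (l'.map nm = l) && l'.all (fun c => Nat.blt c 4)

theorem Ins.psi_letter {LT WT : Tr ℕ} {FT : Tr Fact} {nD : ℕ} (I : Ins LT WT FT nD) (c : ℕ) (l : List ℕ) (h : chkX WT c l = true) :
    psi (xv bP (fun c => WT.get c) c) = pJ l := by
  unfold chkX at h
  cases he : expl WT 12 c with
  | none => rw [he] at h; simp at h
  | some l' =>
    rw [he] at h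
    simp only [Bool.and_eq_true, decide_eq_true_eq, List.all_eq_true] at h
    rw [I.expl_spec 12 c he, psi_list l' (fun c hc => Nat.blt_eq.mp (h.2 c hc)), h.1]

end Cfsg.Agent.Lib.J4E
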