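import Cfsg.Agent.Lib.J4RelK

set_option autoImplicit false
set_option linter.all false
set_option maxRecDepth 100000

namespace Cfsg.Agent.Lib.J4E

theorem rw3_5 : chkWs U3 3795 [J4Rho.extraW[5]] = true := by decide +kernel

end Cfsg.Agent.Lib.J4E
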