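import Cfsg.Agent.Lib.J4RelKA
import Cfsg.Agent.Lib.J4RelKB
import Cfsg.Agent.Lib.J4RelKC
import Cfsg.Agent.Lib.J4RelKD
import Cfsg.Agent.Lib.J4RelKE

/-!
# The relations of M24 in the permutation group
-/

set_option autoImplicit false
set_option linter.all false
set_option maxRecDepth 100000

namespace Cfsg.Agent.Lib.J4E

open Cfsg.Agent.Lib.BenesWord

theorem rw3 : ∀ W ∈ relW, chkW (tb U3) (W.flat J4Rho.iv) 3795 = true := by
  intro W hW
  have e : relW = [J4Rho.extraW[0], J4Rho.extraW[1]] ++ ([J4Rho.extraW[2]] ++ ([J4Rho.extraW[3]] ++ ([J4Rho.extraW[4]] ++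
    ([J4Rho.extraW[5]] ++ [J4Rho.extraW[6]])))) := rfl
  rw [e] at hW
  rcases List.mem_append.mp hW with h | hW
  · exact chkWs_spec rw3s W h
  rcases List.mem_append.mp hW with h | hW
  · exact chkWs_spec rw3_2 W h
  rcases List.mem_append.mp hW with h | hW
  · exact chkWs_spec rw3_3 W h
  rcases List.mem_append.mp hW with h | hW
  · exact chkWs_spec rw3_4 W h
  rcases List.mem_append.mp hW with h | hW
  · exact chkWs_spec rw3_5 W h
  · exact chkWs_spec rw3_6 W hW

/-- letters of the relators -/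
noncomputable def vP (c : ℕ) : Pg := if c = 0 then px else if c = 1 then py else if c = 3 then py⁻¹ else 1

theorem act_list (φ : Pg →* Equiv.Perm ℕ) (U : ℕ → ℕ → ℕ) (m : ℕ) (hb : ∀ c < 4, ∀ i < m, φ (bP c) i = U c i ∧ U c i < m) (l : List ℕ)
    (i : ℕ) (hi : i < m) : φ ((l.map vP).prod) i = apl (tb U) l i ∧ apl (tb U) l i < m := by
  induction l with
  | nil => exact ⟨by simp [apl], hi⟩
  | cons c l ih =>
    rw [List.map_cons, List.prod_cons, map_mul, Equiv.Perm.mul_apply, ih.1]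
    have ea : apl (tb U) (c :: l) i = tb U c (apl (tb U) l i) := by rw [apl]
    rw [ea]
    by_cases h0 : c = 0
    · subst h0
      have := hb 1 (by norm_num) _ ih.2
      have e1 : bP 1 = vP 0 := by simp [bP, vP]
      rw [e1] at this
      exact this
    by_cases h1 : c = 1
    · subst h1
      have := hb 2 (by norm_num) _ ih.2
      have e1 : bP 2 = vP 1 := by simp [bP, vP]
      rw [e1] at this
      exact this
    by_cases h3 : c = 3
    · subst h3
      have := hb 3 (by norm_num) _ ih.2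
      have e1 : bP 3 = vP 3 := by simp [bP, vP]
      rw [e1] at this
      exact this
    · have e1 : vP c = 1 := by simp [vP, h0, h1, h3]
      have e2 : tb U c (apl (tb U) l i) = apl (tb U) l i := by
        unfold tb
        split <;> first | rfl | (exfalso; omega)
      rw [e1, map_one, e2]
      exact ⟨rfl, ih.2⟩

theorem G0_ext {g : Pg} (h1 : ∀ i < 24, φ1 g i = i) (h3 : ∀ i < 3795, φ3 g i = i) (h6 : ∀ i < 1771, φ6 g i = i) : g = 1 := by
  have hs : ∀ z : G0, z ∈ Pg → (∀ i, ¬ i < 24 → z.1 i = i) ∧ (∀ i, ¬ i < 3795 → z.2.1 i = i) ∧ (∀ i, ¬ i < 1771 → z.2.2 i = i) := by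
    intro z hz
    refine Subgroup.closure_induction (p := fun z _ => (∀ i, ¬ i < 24 → z.1 i = i) ∧ (∀ i, ¬ i < 3795 → z.2.1 i = i) ∧ (∀ i, ¬ i < 1771 → z.2.2 i = i)) ?_ ?_ ?_ ?_ hz
    · rintro z (rfl | rfl)
      · exact ⟨fun i hi => mkPerm_ge (h := q1) hi, fun i hi => mkPerm_ge (h := q3) hi, fun i hi => mkPerm_ge (h := q5) hi⟩
      · exact ⟨fun i hi => mkPerm_ge (h := q2) hi, fun i hi => mkPerm_ge (h := q4) hi, fun i hi => mkPerm_ge (h := q6) hi⟩
    · exact ⟨fun i _ => rfl, fun i _ => rfl, fun i _ => rfl⟩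
    · rintro a b _ _ ⟨a1, a2, a3⟩ ⟨b1, b2, b3⟩
      refine ⟨fun i hi => ?_, fun i hi => ?_, fun i hi => ?_⟩
      · show a.1 (b.1 i) = i; rw [b1 i hi, a1 i hi]
      · show a.2.1 (b.2.1 i) = i; rw [b2 i hi, a2 i hi]
      · show a.2.2 (b.2.2 i) = i; rw [b3 i hi, a3 i hi]
    · rintro a _ ⟨a1, a2, a3⟩
      refine ⟨fun i hi => ?_, fun i hi => ?_, fun i hi => ?_⟩
      · show a.1⁻¹ i = i; rw [Equiv.Perm.inv_eq_iff_eq, a1 i hi]
      · show a.2.1⁻¹ i = i; rw [Equiv.Perm.inv_eq_iff_eq, a2 i hi]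
      · show a.2.2⁻¹ i = i; rw [Equiv.Perm.inv_eq_iff_eq, a3 i hi]
  obtain ⟨s1, s3, s6⟩ := hs g.1 g.2
  apply Subtype.ext
  refine Prod.ext ?_ (Prod.ext ?_ ?_)
  · apply Equiv.ext; intro i
    by_cases hi : i < 24
    · exact h1 i hi
    · exact s1 i hi
  · apply Equiv.ext; intro i
    by_cases hi : i < 3795
    · exact h3 i hi
    · exact s3 i hi
  · apply Equiv.ext; intro i
    by_cases hi : i < 1771
    · exact h6 i hi
    · exact s6 i hi

theorem px_sq : px * px = 1 := by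
  apply G0_ext
  · intro i hi
    have := act_list φ1 U24 24 b1 [0, 0] i hi
    have e : (List.map vP [0, 0]).prod = px * px := by simp [vP]
    rw [e] at this
    rw [this.1]
    exact (chkQ_spec q1 i hi).2.1
  · intro i hi
    have := act_list φ3 U3 3795 b3 [0, 0] i hi
    have e : (List.map vP [0, 0]).prod = px * px := by simp [vP]
    rw [e] at this
    rw [this.1]
    exact (chkQ_spec q3 i hi).2.1
  · intro i hi
    have := act_list φ6 U6 1771 b6 [0, 0] i hi
    have e : (List.map vP [0, 0]).prod = px * px := by simp [vP]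
    rw [e] at this
    rw [this.1]
    exact (chkQ_spec q5 i hi).2.1

theorem vP_iv (c : ℕ) : vP (J4Rho.iv c) = (vP c)⁻¹ := by
  by_cases h0 : c = 0
  · subst h0
    show vP 0 = (vP 0)⁻¹
    have e : vP 0 = px := by simp [vP]
    rw [e]; exact eq_inv_of_mul_eq_one_left px_sq
  by_cases h1 : c = 1
  · subst h1
    show vP 3 = (vP 1)⁻¹
    simp [vP]
  by_cases h3 : c = 3
  · subst h3
    show vP 1 = (vP 3)⁻¹
    simp [vP]
  · have e : J4Rho.iv c = c := by
      unfold J4Rho.iv
      have e1 : Nat.beq c 1 = false := by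
        apply Bool.eq_false_iff.mpr; intro h; exact h1 (Nat.eq_of_beq_eq_true h)
      have e3 : Nat.beq c 3 = false := by
        apply Bool.eq_false_iff.mpr; intro h; exact h3 (Nat.eq_of_beq_eq_true h)
      rw [e1, e3]; rfl
    rw [e]
    simp [vP, h0, h1, h3]

/-- the relations hold -/
theorem relP : ∀ W ∈ relW, W.eval vP = 1 := by
  intro W hW
  rw [← Wd.eval_flat vP J4Rho.iv vP_iv]
  apply G0_ext
  · intro i hi
    rw [(act_list φ1 U24 24 b1 _ i hi).1]
    exact chkW_spec (chkWs_spec rw1 W hW) i hi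
  · intro i hi
    rw [(act_list φ3 U3 3795 b3 _ i hi).1]
    exact chkW_spec (rw3 W hW) i hi
  · intro i hi
    rw [(act_list φ6 U6 1771 b6 _ i hi).1]
    exact chkW_spec (chkWs_spec rw6 W hW) i hi

end Cfsg.Agent.Lib.J4E
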