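import Cfsg.Agent.Lib.J4P
import Cfsg.Agent.Lib.J4Rho

/-!
# The relations of M24 in the permutation group
-/

set_option autoImplicit false
set_option linter.all false
set_option maxRecDepth 100000

namespace Cfsg.Agent.Lib.J4E

open Cfsg.Agent.Lib.BenesWord

/-- tables for them -/
def tb (U : ℕ → ℕ → ℕ) (c i : ℕ) : ℕ := match c with
  | 0 => U 1 i
  | 1 => U 2 i
  | 3 => U 3 i
  | _ => i

/-- the relators -/
def relW : List Wd := J4Rho.extraW.take 7

/-- check -/
def chkWs (U : ℕ → ℕ → ℕ) (m : ℕ) : List Wd → Bool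
  | [] => true
  | W :: l => chkW (tb U) (W.flat J4Rho.iv) m && chkWs U m l

theorem chkWs_spec {U : ℕ → ℕ → ℕ} {m : ℕ} : ∀ {l : List Wd}, chkWs U m l = true → ∀ W ∈ l, chkW (tb U) (W.flat J4Rho.iv) m = true
  | [], _, W, hW => by simp at hW
  | a :: l, h, W, hW => by
    simp only [chkWs, Bool.and_eq_true] at h
    rcases List.mem_cons.mp hW with rfl | hW
    · exact h.1
    · exact chkWs_spec h.2 W hW

theorem rw1 : chkWs U24 24 relW = true := by decide +kernel
theorem rw6 : chkWs U6 1771 relW = true := by decide +kernel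
theorem rw3s : chkWs U3 3795 [J4Rho.extraW[0], J4Rho.extraW[1]] = true := by decide +kernel

end Cfsg.Agent.Lib.J4E
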