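import Cfsg.Agent.Lib.J4Rep

/-!
The representation `rho : Cfsg.Spor.J4 →* GL (Fin 112) (ZMod 2)` (kernel check of the twelve relators).

* `jG 0, jG 1, jG 2` : the generators `x, y, t` of `Cfsg.Spor.J4`
* `rho`, `rho_jG`, `rho_eval : rho (W.eval jG) = W.eval gG`
* `rho_one_of`, `ne_one_of` : for words in `J4`
-/

set_option autoImplicit false
set_option linter.unusedSimpArgs false
set_option maxHeartbeats 400000

namespace Cfsg.Agent.Lib.J4Rep

open Cfsg Cfsg.Agent.Lib.BenesWord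

/-- the letters as words of Wd -/
abbrev wx : Wd := Wd.g 0
abbrev wy : Wd := Wd.g 1
abbrev wt : Wd := Wd.g 2
abbrev wz : Wd := Wd.inv (Wd.g 1)

scoped infixl:70 " ⬝ " => Wd.mul
scoped infixr:75 " ^^ " => Wd.pow

theorem r1 : oneK (wx ^^ 2) = true := by decide +kernel
theorem r2 : oneK (wy ^^ 3) = true := by decide +kernel
theorem r3 : oneK ((wx ⬝ wy) ^^ 23) = true := by decide +kernel
theorem r4 : oneK (((wx.inv ⬝ wy.inv) ⬝ wx ⬝ wy) ^^ 12) = true := by decide +kernel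
theorem r5 : oneK ((((wx.inv ⬝ (wy ⬝ wx ⬝ wy).inv) ⬝ wx) ⬝ (wy ⬝ wx ⬝ wy)) ^^ 5) = true := by decide +kernel
theorem r6 : oneK ((wx ⬝ wy ⬝ ((wx ⬝ wy ⬝ wx ⬝ wz) ^^ 3)) ^^ 4) = true := by decide +kernel
theorem r7 : oneK (((wx ⬝ wy ⬝ wx ⬝ wy ⬝ wx ⬝ wz) ^^ 3) ⬝ ((wx ⬝ wy ⬝ wx ⬝ wz ⬝ wx ⬝ wz) ^^ 3)) = true := by
  decide +kernel
theorem r8 : oneK (wt ^^ 2) = true := by decide +kernel
theorem r9 : oneK (wt.inv ⬝ (wy ⬝ wx ⬝ wy ⬝ ((wx ⬝ wz) ^^ 2) ⬝ ((wx ⬝ wy) ^^ 3)).inv ⬝ wt ⬝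
    (wy ⬝ wx ⬝ wy ⬝ ((wx ⬝ wz) ^^ 2) ⬝ ((wx ⬝ wy) ^^ 3))) = true := by decide +kernel
theorem r10 : oneK (wt.inv ⬝ wx.inv ⬝ wt ⬝ wx) = true := by decide +kernel
theorem r11 : oneK ((wy ⬝ ((wy ⬝ wx ⬝ wz ⬝ wx ⬝ wy ⬝ wx ⬝ wz ⬝ wx).inv ⬝ wt ⬝
    (wy ⬝ wx ⬝ wz ⬝ wx ⬝ wy ⬝ wx ⬝ wz ⬝ wx))) ^^ 3) = true := by decide +kernel
theorem r12 : oneK ((((wy ⬝ wx ⬝ wy ⬝ wx ⬝ wy ⬝ wx ⬝ wy) ^^ 3) ⬝ wt ⬝
    ((((wx ⬝ wy) ^^ 3) ⬝ wy ⬝ ((wx ⬝ wy) ^^ 6) ⬝ wy).inv ⬝ wt ⬝
      (((wx ⬝ wy) ^^ 3) ⬝ wy ⬝ ((wx ⬝ wy) ^^ 6) ⬝ wy))) ^^ 2) = true := by decide +kernel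

/-- images of the generators -/
def gen : Spor.J4.Gen → GG
  | .x => gG 0
  | .y => gG 1
  | .t => gG 2

theorem rels_ok : ∀ r ∈ Spor.J4.extra, FreeGroup.lift gen r = 1 := by
  intro r hr
  have hx : FreeGroup.lift gen (FreeGroup.of Spor.J4.Gen.x) = gG 0 := FreeGroup.lift_apply_of
  have hy : FreeGroup.lift gen (FreeGroup.of Spor.J4.Gen.y) = gG 1 := FreeGroup.lift_apply_of
  have ht : FreeGroup.lift gen (FreeGroup.of Spor.J4.Gen.t) = gG 2 := FreeGroup.lift_apply_of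
  simp only [Spor.J4.extra, List.mem_cons, List.not_mem_nil, or_false] at hr
  rcases hr with rfl | rfl | rfl | rfl | rfl | rfl | rfl | rfl | rfl | rfl | rfl | rfl <;>
    simp only [map_mul, map_pow, map_inv, Spor.J4.x, Spor.J4.y, Spor.J4.t, hx, hy, ht]
  · have e := eval_one r1
    simp only [wx, wy, wt, wz, Wd.eval] at e
    exact e
  · have e := eval_one r2
    simp only [wx, wy, wt, wz, Wd.eval] at e
    exact e
  · have e := eval_one r3
    simp only [wx, wy, wt, wz, Wd.eval] at e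
    exact e
  · have e := eval_one r4
    simp only [wx, wy, wt, wz, Wd.eval] at e
    exact e
  · have e := eval_one r5
    simp only [wx, wy, wt, wz, Wd.eval] at e
    exact e
  · have e := eval_one r6
    simp only [wx, wy, wt, wz, Wd.eval] at e
    exact e
  · have e := eval_one r7
    simp only [wx, wy, wt, wz, Wd.eval] at e
    exact e
  · have e := eval_one r8
    simp only [wx, wy, wt, wz, Wd.eval] at e
    exact e
  · have e := eval_one r9
    simp only [wx, wy, wt, wz, Wd.eval] at e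
    exact e
  · have e := eval_one r10
    simp only [wx, wy, wt, wz, Wd.eval] at e
    exact e
  · have e := eval_one r11
    simp only [wx, wy, wt, wz, Wd.eval] at e
    exact e
  · have e := eval_one r12
    simp only [wx, wy, wt, wz, Wd.eval] at e
    exact e

theorem cox_ok : ∀ r ∈ (Spor.coxRelators Spor.J4.edges ∪ {r | r ∈ Spor.J4.extra} : Set (FreeGroup Spor.J4.Gen)),
    FreeGroup.lift gen r = 1 := by
  intro r hr
  rcases hr with ⟨a, ha, _⟩ | hr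
  · simp [Spor.coxNodes, Spor.J4.edges] at ha
  · exact rels_ok r hr

/-- the representation of degree 112 -/
def rho : Spor.J4 →* GG := PresentedGroup.toGroup cox_ok

/-- the generators of `J4` -/
def jG (c : ℕ) : Spor.J4 :=
  match c with
  | 0 => PresentedGroup.of Spor.J4.Gen.x
  | 1 => PresentedGroup.of Spor.J4.Gen.y
  | _ => PresentedGroup.of Spor.J4.Gen.t

theorem rho_jG (c : ℕ) : rho (jG c) = gG c := by
  unfold jG
  split
  · exact PresentedGroup.toGroup.of cox_ok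
  · exact PresentedGroup.toGroup.of cox_ok
  · rename_i h0 h1
    refine (PresentedGroup.toGroup.of cox_ok).trans ?_
    unfold gen gG
    simp only

theorem rho_eval (W : Wd) : rho (W.eval jG) = W.eval gG := by
  rw [Wd.map_eval]
  congr 1
  funext c
  exact rho_jG c

theorem rho_one_of {W : Wd} (h : oneK W = true) : rho (W.eval jG) = 1 := by
  rw [rho_eval]; exact eval_one h

theorem rho_eq_of {U V : Wd} (h : eqK U V = true) : rho (U.eval jG) = rho (V.eval jG) := by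
  rw [rho_eval, rho_eval]; exact eval_eq h

theorem rho_ne_one_of {W : Wd} (i j : ℕ) (h : neK W i j = true) : rho (W.eval jG) ≠ 1 := by
  rw [rho_eval]; exact eval_ne_one i j h

theorem ne_one_of {W : Wd} (i j : ℕ) (h : neK W i j = true) : W.eval jG ≠ 1 := by
  intro e
  apply rho_ne_one_of i j h
  rw [e, map_one]

end Cfsg.Agent.Lib.J4Rep
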