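import Cfsg.Agent.Lib.J4HRel

/-!
The normal closure of the involution `hh` in `2^11 : M24` (helper57).
-/

set_option autoImplicit false
set_option linter.all false
set_option maxRecDepth 100000
set_option Elab.async false

namespace Cfsg.Agent.Lib.J4VGlue

open Cfsg.Spor Cfsg.Agent.Lib.H58SM Cfsg.Agent.Lib.BenesWord Cfsg.Agent.Lib.MatF2 Cfsg.Agent.Lib.CosetGroup
open Cfsg.Agent.Lib.CoxBridge Cfsg.Agent.Lib.J4Rho Cfsg.Agent.Lib.ProjSL Cfsg.Agent.Lib.J4RhoHom Cfsg.Agent.Lib.J4Words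
open Cfsg.Agent.Lib.ChainCard Cfsg.Agent.Lib.J4Main Cfsg.Agent.Lib.J4HRel

/-- conjugating words -/
def cwd (k : ℕ) : List ℕ :=
  match k with
  | 0 => []
  | 1 => [0]
  | 2 => [0, 1]
  | 3 => [0, 3]
  | 4 => [0, 1, 0]
  | 5 => [0, 3, 0]
  | 6 => [0, 1, 0, 1]
  | 7 => [0, 1, 0, 3]
  | 8 => [0, 1, 0, 1, 0]
  | 9 => [0, 1, 0, 3, 0]
  | _ => [0, 1, 0, 3, 0, 1]

/-- conjugates of the involution -/
def vw (k : ℕ) : List ℕ := iw (cwd k) ++ lh ++ cwd k

/-- packed matrices of the conjugates -/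
def vm (k : ℕ) : ℕ := ev (vw k)

theorem vok : ∀ k < 11, ok (vw k) = true := by decide +kernel

/-- product of several conjugates -/
def pm : List ℕ → ℕ
  | [] => one
  | k :: l => mm (vm k) (pm l)

theorem pm_spec (l : List ℕ) (hl : ∀ k ∈ l, k < 11) : (((l.map fun k => pr (vw k)).prod : GM) : Matrix (Fin 112) (Fin 112) (ZMod 2)) = Mt 112 (pm l) := by
  induction l with
  | nil => rw [show pm [] = one from rfl, one_eq]; rfl
  | cons k l ih =>
    rw [List.map_cons, List.prod_cons, Units.val_mul, ih (fun d hd => hl d (List.mem_cons_of_mem _ hd)),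
      pr_val (vok k (hl k List.mem_cons_self))]
    show _ = Mt 112 (mm (vm k) (pm l))
    rw [mm_spec]
    rfl

/-- commuting check -/
def cchk : Bool := (List.range 11).all fun i => (List.range i).all fun j => frc (vm i) fun a => frc (vm j) fun b => Nat.beq (mm a b) (mm b a)

theorem cchk_ok : cchk = true := by decide +kernel

/-- squares -/
def schk : Bool := (List.range 11).all fun i => frc (vm i) fun a => Nat.beq (mm a a) one

theorem schk_ok : schk = true := by decide +kernel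

/-- conjugation by x -/
def tx (k : ℕ) : List ℕ :=
  match k with
  | 0 => [1]
  | 1 => [0]
  | 2 => [4]
  | 3 => [5]
  | 4 => [2]
  | 5 => [3]
  | 6 => [8]
  | 7 => [9]
  | 8 => [6]
  | 9 => [7]
  | _ => [6, 8, 10]

/-- conjugation by y -/
def ty (k : ℕ) : List ℕ :=
  match k with
  | 0 => [0]
  | 1 => [2]
  | 2 => [3]
  | 3 => [1]
  | 4 => [6]
  | 5 => [1, 2, 4, 5, 7]
  | 6 => [7]
  | 7 => [4]
  | 8 => [2, 3, 8]
  | 9 => [10]
  | _ => [2, 3, 5, 7, 9, 10]

/-- conjugation check: `v_k c = c * product` -/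
def gchk (c : ℕ) (t : ℕ → List ℕ) : Bool := (List.range 11).all fun k => Nat.beq (mm (vm k) (TB c)) (mm (TB c) (pm (t k)))

theorem gx : gchk 0 tx = true := by decide +kernel
theorem gy : gchk 1 ty = true := by decide +kernel

theorem tx_lt : ∀ k < 11, ∀ j ∈ tx k, j < 11 := by decide
theorem ty_lt : ∀ k < 11, ∀ j ∈ ty k, j < 11 := by decide

/-- the generators -/
noncomputable def vv (k : ℕ) : GM := pr (vw k)

theorem vv_val {k : ℕ} (hk : k < 11) : (vv k : Matrix (Fin 112) (Fin 112) (ZMod 2)) = Mt 112 (vm k) := pr_val (vok k hk)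

theorem comm0 {i j : ℕ} (hi : i < 11) (hj : j < i) : vv i * vv j = vv j * vv i := by
  have h1 := List.all_eq_true.1 cchk_ok i (List.mem_range.2 hi)
  have h2 := List.all_eq_true.1 h1 j (List.mem_range.2 hj)
  rw [frc_eq, frc_eq] at h2
  apply Units.ext
  rw [Units.val_mul, Units.val_mul, vv_val hi, vv_val (hj.trans hi), ← mm_spec, ← mm_spec, Nat.eq_of_beq_eq_true h2]

theorem comm {i j : ℕ} (hi : i < 11) (hj : j < 11) : vv i * vv j = vv j * vv i := by
  rcases Nat.lt_trichotomy i j with h | h | h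
  · exact (comm0 hj h).symm
  · rw [h]
  · exact comm0 hi h

theorem sq {i : ℕ} (hi : i < 11) : vv i * vv i = 1 := by
  have h1 := List.all_eq_true.1 schk_ok i (List.mem_range.2 hi)
  rw [frc_eq] at h1
  apply Units.ext
  rw [Units.val_mul, vv_val hi, ← mm_spec, Nat.eq_of_beq_eq_true h1, one_eq]
  rfl

/-- the elementary abelian group -/
noncomputable def VG : Subgroup GM := Subgroup.closure {v | ∃ k < 11, v = vv k}

theorem vv_mem {k : ℕ} (hk : k < 11) : vv k ∈ VG := Subgroup.subset_closure ⟨k, hk, rfl⟩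

theorem VG_comm {a b : GM} (ha : a ∈ VG) (hb : b ∈ VG) : a * b = b * a := by
  have h1 : ∀ k < 11, VG ≤ Subgroup.centralizer {vv k} := by
    intro k hk
    rw [VG, Subgroup.closure_le]
    rintro _ ⟨j, hj, rfl⟩
    exact J4Abs.com.2 (comm hj hk)
  have h2 : VG ≤ Subgroup.centralizer {a} := by
    rw [VG, Subgroup.closure_le]
    rintro _ ⟨j, hj, rfl⟩
    exact J4Abs.com.2 (J4Abs.com.1 (h1 j hj ha)).symm
  exact (J4Abs.com.1 (h2 hb)).symm

theorem VG_sq {a : GM} (ha : a ∈ VG) : a * a = 1 := by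
  refine Subgroup.closure_induction (p := fun a _ => a * a = 1) ?_ ?_ ?_ ?_ ha
  · rintro _ ⟨k, hk, rfl⟩
    exact sq hk
  · exact mul_one _
  · intro a b ha hb h1 h2
    calc a * b * (a * b) = a * (b * a) * b := by group
      _ = a * (a * b) * b := by rw [VG_comm hb ha]
      _ = (a * a) * (b * b) := by group
      _ = 1 := by rw [h1, h2, mul_one]
  · intro a ha h1
    rw [← mul_inv_rev, h1, inv_one]

theorem conj_mem {c : ℕ} (hc : c < 4) {t : ℕ → List ℕ} (ht : ∀ k < 11, ∀ j ∈ t k, j < 11) (h : gchk c t = true) {a : GM} (ha : a ∈ VG) :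
    (x c)⁻¹ * a * x c ∈ VG := by
  have key : VG ≤ VG.comap (MulAut.conj (x c)⁻¹).toMonoidHom := by
    conv_lhs => rw [VG]
    rw [Subgroup.closure_le]
    rintro _ ⟨k, hk, rfl⟩
    have h1 := List.all_eq_true.1 h k (List.mem_range.2 hk)
    have h2 : vv k * x c = x c * ((t k).map fun k => pr (vw k)).prod := by
      apply Units.ext
      rw [Units.val_mul, Units.val_mul, vv_val hk, pm_spec _ (ht k hk), x_val c hc]
      show Mt 112 (vm k) * Mt 112 (TB c) = Mt 112 (TB c) * Mt 112 (pm (t k))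
      rw [← mm_spec, ← mm_spec, Nat.eq_of_beq_eq_true h1]
    show (x c)⁻¹ * vv k * (x c)⁻¹⁻¹ ∈ VG
    rw [inv_inv, mul_assoc, h2, inv_mul_cancel_left]
    apply Subgroup.list_prod_mem
    intro v hv
    obtain ⟨j, hj, rfl⟩ := List.mem_map.1 hv
    exact vv_mem (ht k hk j hj)
  have h1 := key ha
  have h2 : (x c)⁻¹ * a * (x c)⁻¹⁻¹ ∈ VG := h1
  rwa [inv_inv] at h2

end Cfsg.Agent.Lib.J4VGlue

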