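import Cfsg.Agent.Lib.J4RhoHom

/-!
Words in the representation of degree 112 of the fourth Janko group (helper57).
-/

set_option autoImplicit false
set_option linter.all false
set_option maxRecDepth 100000
set_option Elab.async false

namespace Cfsg.Agent.Lib.J4Words

open Cfsg.Spor Cfsg.Agent.Lib.H58SM Cfsg.Agent.Lib.BenesWord Cfsg.Agent.Lib.MatF2 Cfsg.Agent.Lib.CosetGroup
open Cfsg.Agent.Lib.CoxBridge Cfsg.Agent.Lib.J4Rho Cfsg.Agent.Lib.ProjSL Cfsg.Agent.Lib.J4RhoHom

/-- product of packed matrices -/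
def mm (A B : ℕ) : ℕ := frc B fun b => frc A fun a => mulP 112 msk ones a b

theorem mm_spec (A B : ℕ) : Mt 112 (mm A B) = Mt 112 A * Mt 112 B := by
  show Mt 112 (frc _ _) = _
  rw [frc_eq, frc_eq, mulP_spec good]

/-- powers of packed matrices -/
def pwb (A : ℕ) : List Bool → ℕ
  | [] => one
  | b :: l => frc (pwb A l) fun r => frc (mm r r) fun q => cond b (mm q A) q

/-- the exponent -/
def bv : List Bool → ℕ
  | [] => 0
  | b :: l => 2 * bv l + cond b 1 0

theorem pwb_spec (A : ℕ) (l : List Bool) : Mt 112 (pwb A l) = Mt 112 A ^ bv l := by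
  induction l with
  | nil => rw [show pwb A [] = one from rfl, one_eq, show bv [] = 0 from rfl, pow_zero]
  | cons b l ih =>
    show Mt 112 (frc _ _) = _
    rw [frc_eq, frc_eq]
    cases b with
    | false =>
      show Mt 112 (mm _ _) = _
      rw [mm_spec, ih, ← pow_add]
      congr 1
      show _ = 2 * bv l + 0
      omega
    | true =>
      show Mt 112 (mm (mm _ _) _) = _
      rw [mm_spec, mm_spec, ih, ← pow_add, ← pow_succ]
      congr 1
      show _ = 2 * bv l + 1
      omega

/-- letters in range -/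
def ok (l : List ℕ) : Bool := l.all fun c => Nat.blt c 4

theorem lt_of_ok {l : List ℕ} (h : ok l = true) : ∀ c ∈ l, c < 4 := by
  intro c hc
  have h1 := List.all_eq_true.1 h c hc
  exact Nat.le_of_ble_eq_true h1

/-- value of a word in the matrix group -/
noncomputable def pr (l : List ℕ) : GM := (l.map x).prod

theorem pr_val {l : List ℕ} (h : ok l = true) : ((pr l : GM) : Matrix (Fin 112) (Fin 112) (ZMod 2)) = Mt 112 (ev l) :=
  prod_val (lt_of_ok h)

theorem pr_append (l m : List ℕ) : pr (l ++ m) = pr l * pr m := by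
  show ((l ++ m).map x).prod = _
  rw [List.map_append, List.prod_append]
  rfl

theorem pr_cons (c : ℕ) (m : List ℕ) : pr (c :: m) = x c * pr m := by
  show ((c :: m).map x).prod = _
  rw [List.map_cons, List.prod_cons]
  rfl

theorem pr_nil : pr [] = 1 := rfl

/-- inverse word -/
def iw (l : List ℕ) : List ℕ := (l.map iv).reverse

theorem pr_iw (l : List ℕ) : pr (iw l) = (pr l)⁻¹ := by
  induction l with
  | nil => rw [show iw [] = [] from rfl, pr_nil, inv_one]
  | cons c l ih =>
    rw [show iw (c :: l) = iw l ++ [iv c] by simp [iw], pr_append, ih, pr_cons (iv c), pr_nil, mul_one, x_iv, pr_cons c l, mul_inv_rev]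

theorem pr_eq {l m : List ℕ} (hl : ok l = true) (hm : ok m = true) (h : Nat.beq (ev l) (ev m) = true) : pr l = pr m := by
  apply Units.ext
  rw [pr_val hl, pr_val hm, Nat.eq_of_beq_eq_true h]

theorem pr_pow {l : List ℕ} (hl : ok l = true) (b : List Bool) (h : Nat.beq (pwb (ev l) b) one = true) : pr l ^ bv b = 1 := by
  apply Units.ext
  rw [Units.val_pow_eq_pow_val, pr_val hl, ← pwb_spec, Nat.eq_of_beq_eq_true h, one_eq]
  rfl

theorem pr_ne {l m : List ℕ} (hl : ok l = true) (hm : ok m = true) (i j : ℕ) (hi : i < 112) (hj : j < 112)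
    (h : (Bool.xor (Nat.testBit (ev l) (112 * i + j)) (Nat.testBit (ev m) (112 * i + j))) = true) : pr l ≠ pr m := by
  intro h1
  have h2 := congrArg Units.val h1
  rw [pr_val hl, pr_val hm] at h2
  refine Mt_ne hi hj ?_ h2
  intro h3
  rw [h3] at h
  revert h
  cases Nat.testBit (ev m) (112 * i + j) <;> decide

/-- the products as packed matrices -/
theorem pr_comm {l m : List ℕ} (hl : ok l = true) (hm : ok m = true)
    (h : frc (ev l) (fun a => frc (ev m) fun b => Nat.beq (mm a b) (mm b a)) = true) : pr l * pr m = pr m * pr l := by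
  rw [frc_eq, frc_eq] at h
  apply Units.ext
  rw [Units.val_mul, Units.val_mul, pr_val hl, pr_val hm, ← mm_spec, ← mm_spec, Nat.eq_of_beq_eq_true h]

/-- an element of order 11 -/
def ls : List ℕ := [0, 3, 0, 3, 0, 3, 0, 1, 0, 1, 0, 1]

/-- an element of order 11 -/
def lu : List ℕ := [1, 0, 3, 0, 1, 0, 3, 0, 1, 0, 1, 0, 3, 0, 1, 0, 1, 0, 3, 0, 3, 0, 3, 0, 3, 2, 1, 0, 1, 0, 1, 0, 1, 0, 3, 0, 1, 0, 1, 0, 3, 0, 3, 0, 3, 0, 3, 2, 1, 0, 1, 0, 1, 0, 1, 0, 3, 0, 1, 0, 1, 0, 3, 0, 3, 0, 3, 0, 3, 2, 1, 0, 1, 0, 3, 0, 3, 0, 1, 0, 1, 0, 1, 0, 1, 0, 3, 0, 3, 0, 3, 0, 3, 0, 1, 0, 1, 0, 1, 0, 1, 0, 1, 0, 3, 0, 1, 0, 3, 0, 3, 0, 1, 0, 1, 0, 1, 0, 2, 1, 0, 3, 2, 1, 2, 1, 0, 1, 2, 3, 0, 2, 3, 2, 1, 2, 3, 0, 3, 2, 3, 2, 3]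

/-- the commutator -/
def lc : List ℕ := iw ls ++ iw lu ++ ls ++ lu

/-- a word -/
def lw : List ℕ := [1, 0, 1, 0, 1, 0, 1, 0, 3, 0]

/-- a word -/
def lh1 : List ℕ := [1] ++ iw lw ++ [2] ++ lw

/-- the cube -/
def lh : List ℕ := lh1 ++ lh1 ++ lh1

/-- an element of order 23 -/
def lg : List ℕ := [0, 1]

/-- a word -/
def q31 : List ℕ := [2, 1]

/-- a word -/
def q43 : List ℕ := [0, 1, 2]

/-- a product of conjugates of the commutator -/
def e31 : List ℕ := lc ++ iw q31 ++ lc ++ q31

/-- a product of conjugates of the involution -/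
def e43 : List ℕ := lh ++ iw q31 ++ lh ++ q31 ++ iw q43 ++ lh ++ q43

/-- an element of order 29 -/
def a29 : List ℕ := [0, 3, 0, 1, 2, 3, 0, 2, 3, 2]

/-- an element of order 31 -/
def a31 : List ℕ := [0, 3, 0, 2, 1, 2, 1, 2]

/-- an element of order 37 -/
def a37 : List ℕ := [3, 0, 2, 3]

/-- an element of order 43 -/
def a43 : List ℕ := [0, 2, 1, 0, 2, 3, 0, 2, 1]

theorem s_pow : pr (ls) ^ 11 = 1 := pr_pow (l := ls) (by decide +kernel) [true, true, false, true] (by decide +kernel)

theorem u_pow : pr (lu) ^ 11 = 1 := pr_pow (l := lu) (by decide +kernel) [true, true, false, true] (by decide +kernel)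

theorem c_pow : pr (lc) ^ 11 = 1 := pr_pow (l := lc) (by decide +kernel) [true, true, false, true] (by decide +kernel)

theorem c_ne : pr (lc) ≠ pr ([]) := pr_ne (by decide +kernel) (by decide +kernel) 0 3 (by norm_num) (by norm_num) (by decide +kernel)

theorem cs_comm : pr lc * pr ls = pr ls * pr lc := pr_comm (by decide +kernel) (by decide +kernel) (by decide +kernel)

theorem cu_comm : pr lc * pr lu = pr lu * pr lc := pr_comm (by decide +kernel) (by decide +kernel) (by decide +kernel)

theorem g_pow : pr (lg) ^ 23 = 1 := pr_pow (l := lg) (by decide +kernel) [true, true, true, false, true] (by decide +kernel)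

theorem gh_ne : pr (lg ++ lh) ≠ pr (lh ++ lg) := pr_ne (by decide +kernel) (by decide +kernel) 1 0 (by norm_num) (by norm_num) (by decide +kernel)

theorem h_ne : pr (lh) ≠ pr ([]) := pr_ne (by decide +kernel) (by decide +kernel) 2 0 (by norm_num) (by norm_num) (by decide +kernel)

theorem e31_pow : pr (e31) ^ 31 = 1 := pr_pow (l := e31) (by decide +kernel) [true, true, true, true, true] (by decide +kernel)

theorem e31_ne : pr (e31) ≠ pr ([]) := pr_ne (by decide +kernel) (by decide +kernel) 0 0 (by norm_num) (by norm_num) (by decide +kernel)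

theorem e43_pow : pr (e43) ^ 43 = 1 := pr_pow (l := e43) (by decide +kernel) [true, true, false, true, false, true] (by decide +kernel)

theorem e43_ne : pr (e43) ≠ pr ([]) := pr_ne (by decide +kernel) (by decide +kernel) 0 0 (by norm_num) (by norm_num) (by decide +kernel)

theorem a29_pow : pr (a29) ^ 29 = 1 := pr_pow (l := a29) (by decide +kernel) [true, false, true, true, true] (by decide +kernel)

theorem ya29_pow : pr (1 :: a29) ^ 29 = 1 := pr_pow (l := 1 :: a29) (by decide +kernel) [true, false, true, true, true] (by decide +kernel)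

theorem a29_ne : pr (a29) ≠ pr ([]) := pr_ne (by decide +kernel) (by decide +kernel) 0 1 (by norm_num) (by norm_num) (by decide +kernel)

theorem a31_pow : pr (a31) ^ 31 = 1 := pr_pow (l := a31) (by decide +kernel) [true, true, true, true, true] (by decide +kernel)

theorem ya31_pow : pr (1 :: a31) ^ 31 = 1 := pr_pow (l := 1 :: a31) (by decide +kernel) [true, true, true, true, true] (by decide +kernel)

theorem a31_ne : pr (a31) ≠ pr ([]) := pr_ne (by decide +kernel) (by decide +kernel) 0 0 (by norm_num) (by norm_num) (by decide +kernel)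

theorem a37_pow : pr (a37) ^ 37 = 1 := pr_pow (l := a37) (by decide +kernel) [true, false, true, false, false, true] (by decide +kernel)

theorem ya37_pow : pr (1 :: a37) ^ 37 = 1 := pr_pow (l := 1 :: a37) (by decide +kernel) [true, false, true, false, false, true] (by decide +kernel)

theorem a37_ne : pr (a37) ≠ pr ([]) := pr_ne (by decide +kernel) (by decide +kernel) 0 0 (by norm_num) (by norm_num) (by decide +kernel)

theorem a43_pow : pr (a43) ^ 43 = 1 := pr_pow (l := a43) (by decide +kernel) [true, true, false, true, false, true] (by decide +kernel)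

theorem ya43_pow : pr (1 :: a43) ^ 43 = 1 := pr_pow (l := 1 :: a43) (by decide +kernel) [true, true, false, true, false, true] (by decide +kernel)

theorem a43_ne : pr (a43) ≠ pr ([]) := pr_ne (by decide +kernel) (by decide +kernel) 0 3 (by norm_num) (by norm_num) (by decide +kernel)

end Cfsg.Agent.Lib.J4Words
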