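import Cfsg.Agent.Lib.JOneTab
import Cfsg.Prelude.Def_Spor_J1

/-!
The Janko group `J₁` (subgroup of `GL 7 11` generated by two matrices): codes of its elements, words, order 175560.

* `cd : W → ℕ` injective code, `cd_mul : cd (g * h) = mu (cd g) (cd h)`, `cd_one`, `cd_pow`
* `ev : List Bool → W` words (`false ↦ X`, `true ↦ Y`), `evc` their codes, `cd_ev`
* `cd_inS` : every element is `u_i b_j` on codes; `card_W : Nat.card W = 175560`
-/

set_option autoImplicit false
set_option linter.unusedVariables false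

namespace Cfsg.Agent.Lib.JOne

open Cfsg Cfsg.Agent.Lib.PackMat Cfsg.Agent.Lib.PackLane
open Cfsg.Agent.Lib.Golay (allLt allLt_iff)

theorem cond_false_eq {a b : Bool} : cond a b false = true ↔ a = true ∧ b = true := by
  cases a <;> simp

/-- matrices -/
abbrev Mt : Type := Matrix (Fin 7) (Fin 7) (ZMod 11)

/-- the group -/
abbrev W : Type := ↥Cfsg.Spor.J1

theorem par : Par 7 20 11 745 13 cmc rmc lmc 140 where
  hw := by norm_num
  hsh := by norm_num
  hp0 := by norm_num
  hp := by norm_num
  hwn := by norm_num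
  hcm := by decide +kernel
  hrm := by decide +kernel
  hlm := by decide +kernel
  hb := by norm_num
  hred := by decide +kernel

/-- code of a matrix -/
def cdm (A : Mt) : ℕ := rep 20 A

theorem mu_cdm (A B : Mt) : mu (cdm A) (cdm B) = cdm (A * B) := mulG_rep par A B

theorem cdm_inj {A B : Mt} (h : cdm A = cdm B) : A = B := rep_inj (by norm_num) (by norm_num) h

/-- decoding -/
def dc (c : ℕ) : Mt := dec 7 11 20 c

theorem cdm_dc {c : ℕ} (h : ok c = true) : cdm (dc c) = c := by
  apply rep_dec_of_okS (kb := 4) (top := topc) (M := mmc) (A := fvc) (by norm_num) (by norm_num) _ _ _ h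
  · decide +kernel
  · decide +kernel
  · decide +kernel

theorem mu_assoc {a b c : ℕ} (ha : ∃ A, cdm A = a) (hb : ∃ A, cdm A = b) (hc : ∃ A, cdm A = c) :
    mu (mu a b) c = mu a (mu b c) := by
  obtain ⟨A, rfl⟩ := ha
  obtain ⟨B, rfl⟩ := hb
  obtain ⟨C, rfl⟩ := hc
  rw [mu_cdm, mu_cdm, mu_cdm, mu_cdm, Matrix.mul_assoc]

theorem good_ut {i : ℕ} (h : i < 1596) : ∃ A, cdm A = ut i := ⟨dc (ut i), cdm_dc ((allLt_iff.1 ut_ok) i h)⟩

theorem good_bt {i : ℕ} (h : i < 110) : ∃ A, cdm A = bt i := ⟨dc (bt i), cdm_dc ((allLt_iff.1 bt_ok) i h)⟩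

theorem cdm_X : cdm jankoMatrixX = Xc := by
  have h1 : jankoMatrixX = dc Xc := by decide +kernel
  rw [h1]
  exact cdm_dc (by decide +kernel)

theorem cdm_Y : cdm jankoMatrixY = Yc := by
  have h1 : jankoMatrixY = dc Yc := by decide +kernel
  rw [h1]
  exact cdm_dc (by decide +kernel)

theorem cdm_one : cdm 1 = Ic := by
  have h1 : (1 : Mt) = dc Ic := by decide +kernel
  rw [h1]
  exact cdm_dc (by decide +kernel)

/-- code of a group element -/
def cd (g : W) : ℕ := cdm (g.1 : Mt)

theorem cd_mul (g h : W) : cd (g * h) = mu (cd g) (cd h) := (mu_cdm _ _).symm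

theorem cd_one : cd 1 = Ic := cdm_one

theorem cd_inj {g h : W} (e : cd g = cd h) : g = h := Subtype.ext (Units.ext (cdm_inj e))

/-- powers of a code -/
def pc (c n : ℕ) : ℕ := Nat.rec (motive := fun _ => ℕ) Ic (fun _ ih => mu c ih) n

theorem cd_pow (g : W) (n : ℕ) : cd (g ^ n) = pc (cd g) n := by
  induction n with
  | zero => rw [pow_zero, cd_one]; rfl
  | succ n ih => rw [pow_succ', cd_mul, ih]; rfl

/-- generators -/
def xW : W := ⟨Spor.jankoX, Subgroup.subset_closure (by simp)⟩

def yW : W := ⟨Spor.jankoY, Subgroup.subset_closure (by simp)⟩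

theorem cd_x : cd xW = Xc := cdm_X

theorem cd_y : cd yW = Yc := cdm_Y

/-- words -/
def ev (l : List Bool) : W := l.foldr (fun b g => (cond b yW xW) * g) 1

/-- codes of words -/
def evc (l : List Bool) : ℕ :=
  List.rec (motive := fun _ => ℕ) Ic (fun b _ ih => mu (cond b Yc Xc) ih) l

theorem cd_ev (l : List Bool) : cd (ev l) = evc l := by
  induction l with
  | nil => exact cd_one
  | cons b l ih =>
    have h1 : ev (b :: l) = (cond b yW xW) * ev l := rfl
    rw [h1, cd_mul, ih]
    cases b
    · show mu (cd xW) _ = _; rw [cd_x]; rfl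
    · show mu (cd yW) _ = _; rw [cd_y]; rfl

theorem x_pow : xW ^ 7 = 1 := by
  apply cd_inj
  rw [cd_pow, cd_x, cd_one]
  decide +kernel

theorem y_pow : yW ^ 5 = 1 := by
  apply cd_inj
  rw [cd_pow, cd_y, cd_one]
  decide +kernel

/-- the set of codes `u_i b_j` -/
def InS (c : ℕ) : Prop := ∃ i < 1596, ∃ j < 110, c = mu (ut i) (bt j)

theorem bm_spec {a b : ℕ} (ha : a < 110) (hb : b < 110) : bm a b < 110 ∧ mu (bt a) (bt b) = bt (bm a b) := by
  have h := (allLt_iff.1 ((allLt_iff.1 btMul) a ha)) b hb
  rw [cond_false_eq] at h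
  exact ⟨Nat.le_of_ble_eq_true h.1, Nat.eq_of_beq_eq_true h.2⟩

theorem inS_X {c : ℕ} (h : InS c) : InS (mu Xc c) := by
  obtain ⟨i, hi, j, hj, rfl⟩ := h
  have h1 := (allLt_iff.1 actX) i hi
  rw [cond_false_eq, cond_false_eq] at h1
  obtain ⟨h2, h3, h4⟩ := h1
  have h2' : jx i < 1596 := Nat.le_of_ble_eq_true h2
  have h3' : bx i < 110 := Nat.le_of_ble_eq_true h3
  have h4' := Nat.eq_of_beq_eq_true h4
  refine ⟨jx i, h2', bm (bx i) j, (bm_spec h3' hj).1, ?_⟩
  rw [← mu_assoc ⟨_, cdm_X⟩ (good_ut hi) (good_bt hj), h4', mu_assoc (good_ut h2') (good_bt h3') (good_bt hj),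
    (bm_spec h3' hj).2]

theorem inS_Y {c : ℕ} (h : InS c) : InS (mu Yc c) := by
  obtain ⟨i, hi, j, hj, rfl⟩ := h
  have h1 := (allLt_iff.1 actY) i hi
  rw [cond_false_eq, cond_false_eq] at h1
  obtain ⟨h2, h3, h4⟩ := h1
  have h2' : jy i < 1596 := Nat.le_of_ble_eq_true h2
  have h3' : b_y i < 110 := Nat.le_of_ble_eq_true h3
  have h4' := Nat.eq_of_beq_eq_true h4
  refine ⟨jy i, h2', bm (b_y i) j, (bm_spec h3' hj).1, ?_⟩
  rw [← mu_assoc ⟨_, cdm_Y⟩ (good_ut hi) (good_bt hj), h4', mu_assoc (good_ut h2') (good_bt h3') (good_bt hj),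
    (bm_spec h3' hj).2]

theorem inS_xmul {g : W} (h : InS (cd g)) (n : ℕ) : InS (cd (xW ^ n * g)) := by
  induction n with
  | zero => rw [pow_zero, one_mul]; exact h
  | succ n ih => rw [pow_succ', mul_assoc, cd_mul, cd_x]; exact inS_X ih

theorem inS_ymul {g : W} (h : InS (cd g)) (n : ℕ) : InS (cd (yW ^ n * g)) := by
  induction n with
  | zero => rw [pow_zero, one_mul]; exact h
  | succ n ih => rw [pow_succ', mul_assoc, cd_mul, cd_y]; exact inS_Y ih

theorem x_inv : xW⁻¹ = xW ^ 6 := inv_eq_of_mul_eq_one_right (by rw [← pow_succ', x_pow])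

theorem y_inv : yW⁻¹ = yW ^ 4 := inv_eq_of_mul_eq_one_right (by rw [← pow_succ', y_pow])

/-- induction principle -/
theorem W_induction {p : W → Prop} (h1 : p 1) (hx : ∀ g, p g → p (xW * g)) (hy : ∀ g, p g → p (yW * g)) (g : W) : p g := by
  have hxn : ∀ (n : ℕ) g, p g → p (xW ^ n * g) := by
    intro n
    induction n with
    | zero => intro g hg; rwa [pow_zero, one_mul]
    | succ n ih => intro g hg; rw [pow_succ', mul_assoc]; exact hx _ (ih g hg)
  have hyn : ∀ (n : ℕ) g, p g → p (yW ^ n * g) := by
    intro n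
    induction n with
    | zero => intro g hg; rwa [pow_zero, one_mul]
    | succ n ih => intro g hg; rw [pow_succ', mul_assoc]; exact hy _ (ih g hg)
  have key : ∀ (a : GL (Fin 7) (ZMod 11)) (ha : a ∈ Subgroup.closure {Spor.jankoX, Spor.jankoY}), p ⟨a, ha⟩ := by
    intro a ha
    induction ha using Subgroup.closure_induction_left with
    | one => exact h1
    | mul_left x hx' y hy' ih =>
      rcases hx' with rfl | hx'
      · exact hx _ ih
      · have : x = Spor.jankoY := hx'
        subst this
        exact hy _ ih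
    | inv_mul_cancel x hx' y hy' ih =>
      rcases hx' with rfl | hx'
      · have h2 := hxn 6 _ ih
        rw [← x_inv] at h2
        exact h2
      · have : x = Spor.jankoY := hx'
        subst this
        have h2 := hyn 4 _ ih
        rw [← y_inv] at h2
        exact h2
  exact key g.1 g.2

theorem cd_inS (g : W) : InS (cd g) := by
  apply W_induction (p := fun g => InS (cd g))
  · refine ⟨0, by norm_num, 0, by norm_num, ?_⟩
    rw [cd_one]
    decide +kernel
  · intro g hg
    rw [cd_mul, cd_x]
    exact inS_X hg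
  · intro g hg
    rw [cd_mul, cd_y]
    exact inS_Y hg

instance finite_W : Finite W := by
  have : Finite (GL (Fin 7) (ZMod 11)) := inferInstance
  infer_instance

theorem card_le : Nat.card W ≤ 175560 := by
  have key := cd_inS
  unfold InS at key
  choose i hi j hj hij using key
  let f : W → Fin 1596 × Fin 110 := fun g => (⟨i g, hi g⟩, ⟨j g, hj g⟩)
  have hf : Function.Injective f := by
    intro g h hgh
    apply cd_inj
    have a1 : i g = i h := congrArg (fun z : Fin 1596 × Fin 110 => (z.1 : ℕ)) hgh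
    have a2 : j g = j h := congrArg (fun z : Fin 1596 × Fin 110 => (z.2 : ℕ)) hgh
    rw [hij g, hij h, a1, a2]
  have h1 := Nat.card_le_card_of_injective f hf
  rw [Nat.card_eq_fintype_card (α := Fin 1596 × Fin 110), Fintype.card_prod, Fintype.card_fin, Fintype.card_fin] at h1
  exact h1

theorem order_ev (l : List Bool) (p : ℕ) [Fact p.Prime] (h1 : Nat.beq (pc (evc l) p) Ic = true)
    (h2 : Nat.beq (evc l) Ic = false) : orderOf (ev l) = p := by
  apply orderOf_eq_prime
  · apply cd_inj
    rw [cd_pow, cd_ev, cd_one]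
    exact Nat.eq_of_beq_eq_true h1
  · intro h
    have h3 : evc l = Ic := by rw [← cd_ev, h, cd_one]
    rw [h3] at h2
    exact absurd h2 (by decide +kernel)

/-- words for elements of small prime order -/
def w3 : List Bool := [true, false, true, false, true, false, false, false]
def w11 : List Bool := [true, true, false]
def w19 : List Bool := [true, false, false, false]

theorem order_x : orderOf xW = 7 := by
  have : Fact (Nat.Prime 7) := ⟨by norm_num⟩
  have h : xW = ev [false] := by show xW = xW * 1; rw [mul_one]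
  rw [h]
  exact order_ev _ 7 (by decide +kernel) (by decide +kernel)

theorem order_y : orderOf yW = 5 := by
  have : Fact (Nat.Prime 5) := ⟨by norm_num⟩
  have h : yW = ev [true] := by show yW = yW * 1; rw [mul_one]
  rw [h]
  exact order_ev _ 5 (by decide +kernel) (by decide +kernel)

theorem order_w3 : orderOf (ev w3) = 3 := by
  have : Fact (Nat.Prime 3) := ⟨by norm_num⟩
  exact order_ev _ 3 (by decide +kernel) (by decide +kernel)

theorem order_w11 : orderOf (ev w11) = 11 := by
  have : Fact (Nat.Prime 11) := ⟨by norm_num⟩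
  exact order_ev _ 11 (by decide +kernel) (by decide +kernel)

theorem order_w19 : orderOf (ev w19) = 19 := by
  have : Fact (Nat.Prime 19) := ⟨by norm_num⟩
  exact order_ev _ 19 (by decide +kernel) (by decide +kernel)

/-- words for a fours-like elementary abelian group of order eight and an element of order seven acting on it -/
def we (v : ℕ) : List Bool :=
  match v with
  | 0 => []
  | 1 => [false, true, true, false, false, false, false, false, true, false, true, false, false, false, false, false, false]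
  | 2 => [true, true, true, false, false, true, true, true, false, false, true, false, true, false, true, false]
  | 3 => [true, true, true, true, false, true, false, false, true, true, false, false, false, false, true, false, false, false]
  | 4 => [true, true, false, true, false, false, false, true, true, false, false, true, true, false, false, true, true]
  | 5 => [true, true, false, true, false, false, true, true, false, false, false, false, true, false, false, false, true, true]
  | 6 => [true, false, true, true, true, false, false, false, false, false]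
  | _ => [true, true, false, false, false, false, true, true, false, true, true, false, true, false, false, false, true, true]

def wz : List Bool := [true, true, true, false, true, false, false, false, true, true, true, false, false, false]

theorem we_mul : allLt 8 (fun a => allLt 8 (fun b =>
    Nat.beq (mu (evc (we a)) (evc (we b))) (evc (we (Nat.xor a b))))) = true := by decide +kernel

theorem we_ne : allLt 8 (fun a => allLt a (fun b => not (Nat.beq (evc (we a)) (evc (we b))))) = true := by decide +kernel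

/-- the elementary abelian subgroup of order eight -/
def E8 : Subgroup W where
  carrier := {g | ∃ v < 8, g = ev (we v)}
  one_mem' := ⟨0, by norm_num, rfl⟩
  mul_mem' := by
    rintro _ _ ⟨a, ha, rfl⟩ ⟨b, hb, rfl⟩
    refine ⟨Nat.xor a b, Nat.xor_lt_two_pow (n := 3) ha hb, ?_⟩
    apply cd_inj
    rw [cd_mul, cd_ev, cd_ev, cd_ev]
    exact Nat.eq_of_beq_eq_true ((allLt_iff.1 ((allLt_iff.1 we_mul) a ha)) b hb)
  inv_mem' := by
    rintro _ ⟨a, ha, rfl⟩
    refine ⟨a, ha, ?_⟩
    rw [inv_eq_iff_mul_eq_one]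
    apply cd_inj
    rw [cd_mul, cd_ev, cd_one, Nat.eq_of_beq_eq_true ((allLt_iff.1 ((allLt_iff.1 we_mul) a ha)) a ha)]
    have : Nat.xor a a = 0 := Nat.xor_self a
    rw [this]
    rfl

theorem we_inj {a b : ℕ} (ha : a < 8) (hb : b < 8) (h : ev (we a) = ev (we b)) : a = b := by
  have h' : evc (we a) = evc (we b) := by rw [← cd_ev, ← cd_ev, h]
  rcases lt_trichotomy a b with h1 | h1 | h1
  · have h2 := (allLt_iff.1 ((allLt_iff.1 we_ne) b hb)) a h1
    rw [h', Nat.beq_refl] at h2
    exact absurd h2 (by decide)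
  · exact h1
  · have h2 := (allLt_iff.1 ((allLt_iff.1 we_ne) a ha)) b h1
    rw [h', Nat.beq_refl] at h2
    exact absurd h2 (by decide)

theorem card_E8 : Nat.card E8 = 8 := by
  let f : Fin 8 → E8 := fun v => ⟨ev (we v), v, v.2, rfl⟩
  have hf : Function.Bijective f := by
    constructor
    · intro a b hab
      exact Fin.ext (we_inj a.2 b.2 (congrArg Subtype.val hab))
    · rintro ⟨g, v, hv, rfl⟩
      exact ⟨⟨v, hv⟩, rfl⟩
  rw [← Nat.card_congr (Equiv.ofBijective f hf), Nat.card_eq_fintype_card, Fintype.card_fin]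

theorem arith_card (N : ℕ) (h0 : N ≤ 175560) (hpos : 0 < N) (h8 : 8 ∣ N) (h7 : 7 ∣ N) (h5 : 5 ∣ N) (h3 : 3 ∣ N)
    (h11 : 11 ∣ N) (h19 : 19 ∣ N) : N = 175560 := by
  have h1 : 8 * 7 ∣ N := Nat.Coprime.mul_dvd_of_dvd_of_dvd (by norm_num) h8 h7
  have h2 : 8 * 7 * 5 ∣ N := Nat.Coprime.mul_dvd_of_dvd_of_dvd (by norm_num) h1 h5
  have h3' : 8 * 7 * 5 * 3 ∣ N := Nat.Coprime.mul_dvd_of_dvd_of_dvd (by norm_num) h2 h3
  have h4 : 8 * 7 * 5 * 3 * 11 ∣ N := Nat.Coprime.mul_dvd_of_dvd_of_dvd (by norm_num) h3' h11
  have h6 : 8 * 7 * 5 * 3 * 11 * 19 ∣ N := Nat.Coprime.mul_dvd_of_dvd_of_dvd (by norm_num) h4 h19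
  have h9 := Nat.le_of_dvd hpos h6
  norm_num at h9
  exact le_antisymm h0 h9

theorem dvd8 : 8 ∣ Nat.card W := by
  have h := Subgroup.card_subgroup_dvd_card E8
  rw [card_E8] at h
  exact h

theorem order_dvd (g : W) (n : ℕ) (h : orderOf g = n) : n ∣ Nat.card W := by
  subst h
  exact orderOf_dvd_natCard g

theorem card_W : Nat.card W = 175560 :=
  arith_card _ card_le Nat.card_pos dvd8 (order_dvd _ _ order_x) (order_dvd _ _ order_y) (order_dvd _ _ order_w3)
    (order_dvd _ _ order_w11) (order_dvd _ _ order_w19)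

end Cfsg.Agent.Lib.JOne
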