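import Cfsg.Agent.Lib.JOneSimple

/-!
Centralizers in the Janko group `J₁`: the centralizers of an element of order 7, of order 19 and of an involution
have orders 7, 19 and 120.
-/

set_option autoImplicit false

namespace Cfsg.Agent.Lib.JOne

open Cfsg Cfsg.Agent.Lib.PackMat Cfsg.Agent.Lib.PackLane
open Cfsg.Agent.Lib.Golay (allLt allLt_iff)

/-- evaluate `n` before passing it to `f` (kernel-friendly) -/
def force (n : ℕ) (f : ℕ → Bool) : Bool :=
  Nat.rec (motive := fun _ => Bool) (f 0) (fun k _ => f (Nat.succ k)) n

theorem force_eq (n : ℕ) (f : ℕ → Bool) : force n f = f n := by cases n <;> rfl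

/-- transposition of a packed matrix (only used through the checks below) -/
def trC (a : ℕ) : ℕ := Nat.lor (Nat.shiftLeft (Nat.land a 1393795245680168161430109488233462313779200) 720) (Nat.lor (Nat.shiftRight (Nat.land a 7687689901136609905900397148992792005224588199029463545871121439129810928489707898594683250953487282884055205729104033658114736196697143289259300654472596243348297517437261396514409249985361963597092563617690181855250913343535324605305559088683848752640819200) 720) (Nat.lor (Nat.shiftLeft (Nat.land a 1942667039552301273860335129687758767635881186733714097730922094062234564158711398400) 600) (Nat.lor (Nat.shiftRight (Nat.land a 8061127125774221868689414840902265869670377795391034414078323119907335845118464980392298032110549190667154481300536287015783379145235741609955632753309590745033551492282723157283229675848430154713921227950224898790005090504659720358256435620238501711087946589798400) 600) (Nat.lor (Nat.shiftLeft (Nat.land a 2707682665914980174398455445783058176125271251717755716627358629133002386433150761441514180242888146396305834183630979176857600) 480) (Nat.lor (Nat.shiftRight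 (Nat.land a 8452704437035830470182871856213934336555486067179949301776591743779954591130939535279834301318355185435651784631914564381956832344647006205069535738956542005585581344927929064853996050913296661451479460720482906672294154721792394323813788342847403209459724348049430937600) 480) (Nat.lor (Nat.shiftLeft (Nat.land a 3773958825690505717684448332557462742131434124661328034258361340956167041326647320511184312920457170382902679421440316250047771014943030943804735247223229492333694156800) 360) (Nat.lor (Nat.shiftRight (Nat.land a 8863303007769282971102475039501382410888005358379282519059691464325809665349716054145587532339195606923374005722194446261374767432620579178486996346223154084515157894373965664524353851814888999332897805701341712253582742421292243331779242558356456589626730790783337288748236800) 360) (Nat.lor (Nat.shiftLeft (Nat.land a 5260130885091863394122334448281317630271384772061427582310772327092151896500224099912614176179822576789466884526561013870006559841392198990535455268401335374510992982104832234920279365413053921232194472247296000) 240) (Nat.lor (Nat.shiftRight (Nat.land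 a 9293846814674683660706748867020201562879301106667914546705535036896900195653743861191763592310104372725283821424155763682967308135427556432661180680737290017324566204251075420644288864520649049401526683176683947807387546664620272876425502303968378321543636407647989539937972125696000) 240) (Nat.lor (Nat.shiftLeft (Nat.land a 7331552411209688096905133389466087346291149329218600918537343313716824782312382904267267833447979650942197778755375085405936203285798795190276263457548201682925089389140384632449914406753442210069173716537667441212993379190879444094389546403804820275200) 120) (Nat.lor (Nat.shiftRight (Nat.land a 9745304717544321094209239899984574873997726037225415163726303106849204019557820122993014700570160002734787208333655554059631128095414085413934130193484784617206124332188775660277505840403604097625255243338674547256079204131400867251670747505347446510425268099825636766563890038807147315200) 120) (Nat.land a 10218692639503754035681547937366225583077039577209676930719472006567510954011860793287523382665056095027632231765671206253631769773776920027001394501763501514771529027749177626751145964107049570271499642039094002063590507551287795779287905736167204072115685923042766898136497561332243303184203775))))))))))))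

/-- inverse codes -/
noncomputable def vt (i : ℕ) : ℕ := trC (ut i)

def wt (j : ℕ) : ℕ := trC (bt j)

theorem vt_ok : allLt 1596 (fun i => cond (ok (vt i)) (Nat.beq (mu (vt i) (ut i)) Ic) false) = true := by
  decide +kernel

theorem wt_ok : allLt 110 (fun j => cond (ok (wt j)) (Nat.beq (mu (bt j) (wt j)) Ic) false) = true := by
  decide +kernel

/-- table of the conjugates of `x` under the subgroup of order 110 -/
def cjT (x : ℕ) (n : ℕ) : ℕ :=
  Nat.rec (motive := fun _ => ℕ) 0
    (fun j ih => Nat.add ih (Nat.shiftLeft (mu (mu (bt j) x) (wt j)) (Nat.mul 980 j))) n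

/-- membership in a table of 18-bit numbers -/
def inL (L e : ℕ) (n : ℕ) : Bool :=
  Nat.rec (motive := fun _ => Bool) false (fun k ih => cond (Nat.beq (Nat.land (Nat.shiftRight L (Nat.mul 18 k)) 262143) e) true ih) n

/-- scan for elements commuting with `x` -/
noncomputable def scan (x L n : ℕ) : Bool :=
  force (cjT x 110) fun T => allLt 1596 fun i => force (mu (vt i) (mu x (ut i))) fun y =>
    allLt 110 fun j => cond (Nat.beq y (Nat.land (Nat.shiftRight T (Nat.mul 980 j)) w980))
      (inL L (Nat.add (Nat.mul 110 i) j) n) true

def LX : ℕ := 0x109003548067200c08014a001b80000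
def L19 : ℕ := 0x2644c8b8d5bfa65c6fd595c543f5147f34da0d1bf2b70ca3d525394761c1b71065680fcc006e000f900000
def L2 : ℕ := 0x9b6666d989b65e6d969b6566d949b64e6d929b6466d906c635b18c6c62db18a6c625b1886c61db1866c615b184624cd8932624c58930624bd892e624b5892c624ad892a5b62d6d8a5b6256d885b61d6d865b6156d845b60d6d825ab656ad85ab5d6ad65ab556ad45ab4d6ad25ab456ad04aad52ab44aacd2ab24aac52ab04aabd2aae4aab52aac1dc6477181dc5c77161dc5477141dc4c77121dc4477101a03c680e1a034680c1a02c680a1a02468081a01c680617ef45fbc17eec5fba17ee45fb817edc5fb617ed45fb40868421a00867c219e08674219c0866c219a086642198084a421280849c21260849421240848c21220848421200002400080001c00060001400040000c0002000040000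

theorem scanX : scan Xc LX 7 = true := by decide +kernel

theorem scan19 : scan (evc w19) L19 19 = true := by decide +kernel

theorem scan2 : scan (evc (we 1)) L2 120 = true := by decide +kernel

theorem mu_Ic_left {c : ℕ} (h : ∃ A, cdm A = c) : mu Ic c = c := by
  obtain ⟨A, rfl⟩ := h
  rw [← cdm_one, mu_cdm, one_mul]

theorem mu_Ic_right {c : ℕ} (h : ∃ A, cdm A = c) : mu c Ic = c := by
  obtain ⟨A, rfl⟩ := h
  rw [← cdm_one, mu_cdm, mul_one]

theorem good_mu {a b : ℕ} (ha : ∃ A, cdm A = a) (hb : ∃ A, cdm A = b) : ∃ A, cdm A = mu a b := by
  obtain ⟨A, rfl⟩ := ha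
  obtain ⟨B, rfl⟩ := hb
  exact ⟨A * B, (mu_cdm A B).symm⟩

theorem good_vt {i : ℕ} (h : i < 1596) : (∃ A, cdm A = vt i) ∧ mu (vt i) (ut i) = Ic := by
  have h1 := (allLt_iff.1 vt_ok) i h
  rw [cond_false_eq] at h1
  exact ⟨⟨dc (vt i), cdm_dc h1.1⟩, Nat.eq_of_beq_eq_true h1.2⟩

theorem good_wt {j : ℕ} (h : j < 110) : (∃ A, cdm A = wt j) ∧ mu (bt j) (wt j) = Ic := by
  have h1 := (allLt_iff.1 wt_ok) j h
  rw [cond_false_eq] at h1
  exact ⟨⟨dc (wt j), cdm_dc h1.1⟩, Nat.eq_of_beq_eq_true h1.2⟩

theorem lt_of_good {c : ℕ} (h : ∃ A, cdm A = c) : c < 2 ^ 980 := by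
  obtain ⟨A, rfl⟩ := h
  have h1 : cdm A < 2 ^ (20 * (7 * 7)) := P_lt (fun i _ => lt_of_lt_of_le (ent_lt A _ _) (by norm_num))
  have h2 : 20 * (7 * 7) = 980 := by norm_num
  rwa [h2] at h1

theorem cjT_eq (x : ℕ) (n : ℕ) : cjT x n = P (fun j => mu (mu (bt j) x) (wt j)) 980 n := by
  induction n with
  | zero => rfl
  | succ n ih =>
    rw [P_succ, ← ih, mul_comm, ← Nat.shiftLeft_eq]
    exact Nat.add_comm _ _

theorem w980_eq : w980 = 2 ^ 980 - 1 := by decide +kernel

theorem cjT_lane {x : ℕ} (hx : ∃ A, cdm A = x) {j : ℕ} (hj : j < 110) :
    Nat.land (Nat.shiftRight (cjT x 110) (Nat.mul 980 j)) w980 = mu (mu (bt j) x) (wt j) := by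
  rw [cjT_eq, w980_eq]
  exact extract (by norm_num) (fun i hi => lt_of_good (good_mu (good_mu (good_bt hi) hx) (good_wt hi).1)) hj

theorem inL_spec {L e n : ℕ} (h : inL L e n = true) : ∃ k < n, Nat.land (Nat.shiftRight L (Nat.mul 18 k)) 262143 = e := by
  induction n with
  | zero => exact absurd (show false = true from h) (by decide)
  | succ n ih =>
    have h1 : inL L e (n + 1) = cond (Nat.beq (Nat.land (Nat.shiftRight L (Nat.mul 18 n)) 262143) e) true (inL L e n) := rfl
    rw [h1] at h
    cases h2 : Nat.beq (Nat.land (Nat.shiftRight L (Nat.mul 18 n)) 262143) e with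
    | true => exact ⟨n, by omega, Nat.eq_of_beq_eq_true h2⟩
    | false =>
      rw [h2] at h
      obtain ⟨k, hk, h3⟩ := ih h
      exact ⟨k, by omega, h3⟩

/-- pairs representing elements commuting with `x` are in the list -/
theorem scan_spec {x L n : ℕ} (hx : ∃ A, cdm A = x) (h : scan x L n = true) {i j : ℕ} (hi : i < 1596) (hj : j < 110)
    (hc : mu (mu (ut i) (bt j)) x = mu x (mu (ut i) (bt j))) :
    ∃ k < n, Nat.land (Nat.shiftRight L (Nat.mul 18 k)) 262143 = 110 * i + j := by
  unfold scan at h
  rw [force_eq] at h
  have h1 := (allLt_iff.1 h) i hi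
  rw [force_eq] at h1
  have h2 := (allLt_iff.1 h1) j hj
  rw [cjT_lane hx hj] at h2
  have gu := good_ut hi
  have gb := good_bt hj
  have gv := good_vt hi
  have gw := good_wt hj
  have key : mu (vt i) (mu x (ut i)) = mu (mu (bt j) x) (wt j) := by
    have e1 : mu (vt i) (mu (mu (ut i) (bt j)) x) = mu (bt j) x := by
      rw [mu_assoc gu gb hx, ← mu_assoc gv.1 gu (good_mu gb hx), gv.2, mu_Ic_left (good_mu gb hx)]
    have e2 : mu (vt i) (mu x (mu (ut i) (bt j))) = mu (mu (vt i) (mu x (ut i))) (bt j) := by
      rw [← mu_assoc hx gu gb, ← mu_assoc gv.1 (good_mu hx gu) gb]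
    rw [← e1, hc, e2, mu_assoc (good_mu gv.1 (good_mu hx gu)) gb gw.1, gw.2,
      mu_Ic_right (good_mu gv.1 (good_mu hx gu))]
  rw [key, Nat.beq_refl, cond_true] at h2
  exact inL_spec h2

/-- upper bound for the order of a centralizer -/
theorem card_cent_le (x : W) (L n : ℕ) (h : scan (cd x) L n = true) :
    Nat.card (Subgroup.centralizer ({x} : Set W)) ≤ n := by
  have hx : ∃ A, cdm A = cd x := ⟨_, rfl⟩
  have key : ∀ g : Subgroup.centralizer ({x} : Set W), ∃ i j k : ℕ, i < 1596 ∧ j < 110 ∧ k < n ∧
      cd g.1 = mu (ut i) (bt j) ∧ Nat.land (Nat.shiftRight L (Nat.mul 18 k)) 262143 = 110 * i + j := by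
    intro g
    obtain ⟨i, hi, j, hj, hij⟩ := cd_inS g.1
    have hg := Subgroup.mem_centralizer_singleton_iff.1 g.2
    have hc : mu (mu (ut i) (bt j)) (cd x) = mu (cd x) (mu (ut i) (bt j)) := by
      rw [← hij, ← cd_mul, ← cd_mul, hg]
    obtain ⟨k, hk, hk2⟩ := scan_spec hx h hi hj hc
    exact ⟨i, j, k, hi, hj, hk, hij, hk2⟩
  choose i j k hi hj hk hij hL using key
  let f : Subgroup.centralizer ({x} : Set W) → Fin n := fun g => ⟨k g, hk g⟩
  have hf : Function.Injective f := by
    intro a b hab
    have e1 : k a = k b := congrArg Fin.val hab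
    have e2 : 110 * i a + j a = 110 * i b + j b := by rw [← hL a, ← hL b, e1]
    have e3 : i a = i b := by have := hj a; have := hj b; omega
    have e4 : j a = j b := by omega
    apply Subtype.ext
    apply cd_inj
    rw [hij, hij, e3, e4]
  have h1 := Nat.card_le_card_of_injective f hf
  rwa [Nat.card_eq_fintype_card (α := Fin n), Fintype.card_fin] at h1

theorem card_cent_x : Nat.card (Subgroup.centralizer ({xW} : Set W)) ≤ 7 :=
  card_cent_le xW LX 7 (by rw [cd_x]; exact scanX)

theorem card_cent_w19 : Nat.card (Subgroup.centralizer ({ev w19} : Set W)) ≤ 19 :=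
  card_cent_le _ L19 19 (by rw [cd_ev]; exact scan19)

theorem card_cent_inv : Nat.card (Subgroup.centralizer ({ev (we 1)} : Set W)) ≤ 120 :=
  card_cent_le _ L2 120 (by rw [cd_ev]; exact scan2)

end Cfsg.Agent.Lib.JOne
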