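import Cfsg.Agent.Lib.JOneAut

/-!
Every automorphism of the Janko group `J₁` is inner.
-/

set_option autoImplicit false

namespace Cfsg.Agent.Lib.JOne

open Cfsg Cfsg.Agent.Lib.PackMat Cfsg.Agent.Lib.PackLane
open Cfsg.Agent.Lib.Golay (allLt allLt_iff)

theorem exists_pair {i j : ℕ} (hi : i < 1596) (hj : j < 110) : ∃ g : W, cd g = mu (ut i) (bt j) := by
  classical
  choose fi hfi fj hfj hf using (fun g : W => cd_inS g)
  let F : W → Fin 1596 × Fin 110 := fun g => (⟨fi g, hfi g⟩, ⟨fj g, hfj g⟩)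
  have hinj : Function.Injective F := by
    intro g h hgh
    apply cd_inj
    rw [hf g, hf h]
    have h1 : fi g = fi h := congrArg (fun p => p.1.1) hgh
    have h2 : fj g = fj h := congrArg (fun p => p.2.1) hgh
    rw [h1, h2]
  have hb : Function.Bijective F := by
    rw [Nat.bijective_iff_injective_and_card]
    refine ⟨hinj, ?_⟩
    rw [card_W, Nat.card_prod, Nat.card_eq_fintype_card, Nat.card_eq_fintype_card, Fintype.card_fin,
      Fintype.card_fin]
  obtain ⟨g, hg⟩ := hb.2 (⟨i, hi⟩, ⟨j, hj⟩)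
  refine ⟨g, ?_⟩
  have h1 : fi g = i := congrArg (fun p => p.1.1) hg
  have h2 : fj g = j := congrArg (fun p => p.2.1) hg
  rw [hf g, h1, h2]

theorem conj_code {u b v w : ℕ} (hu : ∃ A, cdm A = u) (hb : ∃ A, cdm A = b) (hv : ∃ A, cdm A = v)
    (hw : ∃ A, cdm A = w) (hvu : mu v u = Ic) (hbw : mu b w = Ic) {g : W} (e : W) (hg : cd g = mu u b) :
    cd (g * e * g⁻¹) = mu (mu u (mu (mu b (cd e)) w)) v := by
  obtain ⟨U, rfl⟩ := hu
  obtain ⟨B, rfl⟩ := hb
  obtain ⟨V, rfl⟩ := hv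
  obtain ⟨Z, rfl⟩ := hw
  rw [mu_cdm, ← cdm_one] at hvu hbw
  rw [mu_cdm] at hg
  have h1 : V * U = 1 := cdm_inj hvu
  have h2 : B * Z = 1 := cdm_inj hbw
  have h3 : U * V = 1 := mul_eq_one_comm.1 h1
  have h4 : (g.1 : Mt) = U * B := cdm_inj hg
  have h5 : ((g⁻¹ : W).1 : Mt) * (g.1 : Mt) = 1 := by
    have : (g⁻¹ : W) * g = 1 := inv_mul_cancel g
    exact congrArg (fun x : W => (x.1 : Mt)) this
  have h6 : ((g⁻¹ : W).1 : Mt) = Z * V := by
    calc ((g⁻¹ : W).1 : Mt) = ((g⁻¹ : W).1 : Mt) * (U * (B * Z) * V) := by rw [h2, mul_one, h3, mul_one]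
      _ = ((g⁻¹ : W).1 : Mt) * (U * B) * (Z * V) := by simp only [mul_assoc]
      _ = Z * V := by rw [← h4, h5, one_mul]
  have he : cd e = cdm (e.1 : Mt) := rfl
  rw [he, mu_cdm, mu_cdm, mu_cdm, mu_cdm]
  have h7 : cd (g * e * g⁻¹) = cdm ((g.1 : Mt) * (e.1 : Mt) * ((g⁻¹ : W).1 : Mt)) := rfl
  have h8 : (g.1 : Mt) * (e.1 : Mt) * ((g⁻¹ : W).1 : Mt) = U * (B * (e.1 : Mt) * Z) * V := by
    rw [h6, h4]; simp only [mul_assoc]
  rw [h7, h8]

theorem conj_pair {i j : ℕ} (hi : i < 1596) (hj : j < 110) {g : W} (e : W) (hg : cd g = mu (ut i) (bt j)) :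
    cd (g * e * g⁻¹) = mu (mu (ut i) (Nat.land (Nat.shiftRight (cjT (cd e) 110) (Nat.mul 980 j)) w980)) (vt i) := by
  have hlane : Nat.land (Nat.shiftRight (cjT (cd e) 110) (Nat.mul 980 j)) w980 = mu (mu (bt j) (cd e)) (wt j) :=
    cjT_lane ⟨_, rfl⟩ hj
  rw [hlane]
  exact conj_code (good_ut hi) (good_bt hj) (good_vt hi).1 (good_wt hj).1 (good_vt hi).2 (good_wt hj).2 e hg

theorem card_cent_e : Nat.card (Subgroup.centralizer ({ev (we 1)} : Set W)) = 120 := by
  obtain ⟨t, ht, ⟨e⟩⟩ := Cfsg.Agent.S2131.result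
  have h1 := isConj_involution ht
  rw [← card_cent_conj h1, Nat.card_congr e.toEquiv, Nat.card_prod]
  have h2 : Nat.card (Multiplicative (ZMod 2)) = 2 := Nat.card_zmod 2
  have h3 : Nat.card (alternatingGroup (Fin 5)) = 60 := by
    rw [Nat.card_eq_fintype_card]; rfl
  rw [h2, h3]

theorem idx_lt {n : ℕ} (hn : n < 1463) : Nat.div (li n) 110 < 1596 ∧ Nat.mod (li n) 110 < 110 := by
  have h1 := Nat.le_of_ble_eq_true ((allLt_iff.1 li_lt) n hn)
  constructor
  · exact Nat.div_lt_of_lt_mul (by omega)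
  · exact Nat.mod_lt _ (by norm_num)

theorem ic_mono {a b : ℕ} (hab : a < b) (hb : b < 1463) : ic (cjT e1c 110) a < ic (cjT e1c 110) b := by
  have h := ic_lt
  rw [force_eq] at h
  have h1 := allLt_iff.1 h
  have h2 : ∀ n, n < 1462 → ic (cjT e1c 110) n < ic (cjT e1c 110) (n + 1) := fun n hn =>
    Nat.le_of_ble_eq_true (h1 n hn)
  clear h h1
  generalize ic (cjT e1c 110) = f at h2
  obtain ⟨d, rfl⟩ := Nat.exists_eq_add_of_lt hab
  clear hab
  induction d with
  | zero => exact h2 a (by omega)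
  | succ d ih => exact lt_trans (ih (by omega)) (h2 _ (by omega))

/-- every conjugate of the first involution is in the list -/
theorem exists_index (g : W) : ∃ n < 1463, cd (g * ev (we 1) * g⁻¹) = ic (cjT e1c 110) n := by
  classical
  have hr : ∀ n : Fin 1463, ∃ r : W, cd (r * ev (we 1) * r⁻¹) = ic (cjT e1c 110) n.1 := by
    intro n
    obtain ⟨r, hr⟩ := exists_pair (idx_lt n.2).1 (idx_lt n.2).2
    refine ⟨r, ?_⟩
    rw [conj_pair (idx_lt n.2).1 (idx_lt n.2).2 _ hr, cd_ev]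
    rfl
  choose r hr using hr
  let C := Subgroup.centralizer ({ev (we 1)} : Set W)
  let F : Fin 1463 → W ⧸ C := fun n => QuotientGroup.mk (r n)
  have hmk : ∀ a b : W, (QuotientGroup.mk a : W ⧸ C) = QuotientGroup.mk b →
      a * ev (we 1) * a⁻¹ = b * ev (we 1) * b⁻¹ := by
    intro a b hab
    have h1 : a⁻¹ * b ∈ C := QuotientGroup.eq.1 hab
    have h2 := Subgroup.mem_centralizer_singleton_iff.1 h1
    calc a * ev (we 1) * a⁻¹ = a * (ev (we 1) * (a⁻¹ * b)) * b⁻¹ := by group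
      _ = a * (a⁻¹ * b * ev (we 1)) * b⁻¹ := by rw [h2]
      _ = _ := by group
  have hinj : Function.Injective F := by
    intro m n hmn
    have h1 := congrArg cd (hmk _ _ hmn)
    rw [hr, hr] at h1
    by_contra hne
    rcases lt_or_gt_of_ne (fun h => hne (Fin.ext h)) with h | h
    · exact absurd h1 (ne_of_lt (ic_mono h n.2))
    · exact absurd h1 (ne_of_gt (ic_mono h m.2))
  have hcard : Nat.card (W ⧸ C) = 1463 := by
    have h1 := Subgroup.card_eq_card_quotient_mul_card_subgroup C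
    have h2 : Nat.card C = 120 := card_cent_e
    rw [h2, card_W] at h1
    omega
  have hb : Function.Bijective F := by
    rw [Nat.bijective_iff_injective_and_card]
    refine ⟨hinj, ?_⟩
    rw [hcard, Nat.card_eq_fintype_card, Fintype.card_fin]
  obtain ⟨n, hn⟩ := hb.2 (QuotientGroup.mk g)
  refine ⟨n.1, n.2, ?_⟩
  rw [← hr, ← hmk _ _ hn]

theorem powIs_iff (g : W) (n : ℕ) (h : W) : powIs (cd g) n (cd h) = true ↔ g ^ n * h = 1 := by
  induction n generalizing h with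
  | zero =>
    rw [pow_zero, one_mul]
    constructor
    · intro e
      apply cd_inj
      rw [cd_one]
      exact Nat.eq_of_beq_eq_true e
    · intro e
      rw [e, cd_one]
      exact Nat.beq_refl _
  | succ n ih =>
    have h1 : powIs (cd g) (n + 1) (cd h) = force (mu (cd g) (cd h)) (powIs (cd g) n) := rfl
    rw [h1, force_eq, ← cd_mul, ih, pow_succ, mul_assoc]

theorem cj7_eq {j : ℕ} (hj : j < 7) : cj7 j = cd (xW ^ j * ev wa0 * (xW ^ j)⁻¹) := by
  have h1 := Nat.eq_of_beq_eq_true ((allLt_iff.1 cj7_ok) j hj)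
  have h2 : (xW ^ j)⁻¹ = xW ^ (7 - j) := by
    apply inv_eq_of_mul_eq_one_right
    rw [← pow_add, Nat.add_sub_cancel' hj.le, x_pow]
  rw [h1, h2, cd_mul, cd_mul, cd_pow, cd_pow, cd_ev, cd_x]
  rfl

/-- the involutions with the same relations -/
theorem inv_cases {y : W} (hy : orderOf y = 2) (h3 : (y * xW) ^ 3 = 1)
    (h19 : ((y * xW) * (y * xW ^ 6)) ^ 19 = 1) : ∃ j, y = xW ^ j * ev wa0 * (xW ^ j)⁻¹ := by
  obtain ⟨g, hg⟩ := isConj_iff.1 (isConj_involution hy).symm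
  obtain ⟨n, hn, hn2⟩ := exists_index g
  have h := test_ok
  rw [force_eq] at h
  have h1 := (allLt_iff.1 h) n hn
  rw [force_eq, ← hn2, hg] at h1
  have hX : mu (cd y) Xc = cd (y * xW) := by rw [cd_mul, cd_x]
  have hX6 : mu (cd y) X6 = cd (y * xW ^ 6) := by rw [cd_mul, cd_pow, cd_x, X6_eq]
  unfold test at h1
  rw [force_eq, hX, ← cd_one, (powIs_iff _ _ _).2 (by rw [mul_one]; exact h3), cond_true, force_eq, hX6, force_eq,
    ← cd_mul, (powIs_iff _ _ _).2 (by rw [mul_one]; exact h19), cond_true] at h1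
  by_contra hno
  have h2 : allLt 7 (fun j => not (Nat.beq (cd y) (cj7 j))) = true := by
    rw [allLt_iff]
    intro j hj
    rw [Bool.not_eq_true']
    by_contra h4
    rw [Bool.not_eq_false] at h4
    have h5 := Nat.eq_of_beq_eq_true h4
    rw [cj7_eq hj] at h5
    exact hno ⟨j, cd_inj h5⟩
  rw [h2] at h1
  exact absurd h1 (by decide)

theorem n3_pow (i : ℕ) : ev wn3 ^ i * xW * (ev wn3 ^ i)⁻¹ = xW ^ (3 ^ i) := by
  induction i with
  | zero => simp
  | succ i ih =>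
    have h1 : ev wn3 * xW * (ev wn3)⁻¹ = xW ^ 3 := by rw [n3_conj]; group
    calc ev wn3 ^ (i + 1) * xW * (ev wn3 ^ (i + 1))⁻¹ = ev wn3 ^ i * (ev wn3 * xW * (ev wn3)⁻¹) * (ev wn3 ^ i)⁻¹ := by
          rw [pow_succ]; group
      _ = ev wn3 ^ i * xW ^ 3 * (ev wn3 ^ i)⁻¹ := by rw [h1]
      _ = (ev wn3 ^ i * xW * (ev wn3 ^ i)⁻¹) ^ 3 := by rw [conj_pow]
      _ = _ := by rw [ih, ← pow_mul, ← pow_succ]

theorem pow_conj {k : ℕ} (hk : ¬ 7 ∣ k) : ∃ c : W, xW ^ k = c * xW * c⁻¹ := by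
  have h1 : ∀ r < 7, r ≠ 0 → ∃ i < 6, 3 ^ i % 7 = r := by decide
  obtain ⟨i, -, hi⟩ := h1 (k % 7) (Nat.mod_lt _ (by norm_num)) (fun h => hk (Nat.dvd_of_mod_eq_zero h))
  refine ⟨ev wn3 ^ i, ?_⟩
  rw [n3_pow]
  apply pow_eq_pow_iff_modEq.2
  rw [order_x]
  exact hi.symm

theorem aut_inner (α : MulAut W) : ∃ c : W, ∀ g, α g = c * g * c⁻¹ := by
  have h7 : orderOf (α xW) = 7 := by
    exact (orderOf_injective α.toMonoidHom α.injective xW).trans order_x
  obtain ⟨u, k, hu, hk⟩ := conj_of_prime 7 25080 (by norm_num) (by rw [card_W]) (by norm_num) h7 order_x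
  obtain ⟨v, hv⟩ := pow_conj hk
  have hx : v⁻¹ * u * α xW * (v⁻¹ * u)⁻¹ = xW := by
    calc v⁻¹ * u * α xW * (v⁻¹ * u)⁻¹ = v⁻¹ * (u * α xW * u⁻¹) * v := by group
      _ = v⁻¹ * (v * xW * v⁻¹) * v := by rw [hu, hv]
      _ = xW := by group
  let β : W →* W := (MulAut.conj (v⁻¹ * u)).toMonoidHom.comp α.toMonoidHom
  have hβ : ∀ g, β g = v⁻¹ * u * α g * (v⁻¹ * u)⁻¹ := fun g => rfl
  have hβinj : Function.Injective β := fun a b hab => α.injective ((MulAut.conj (v⁻¹ * u)).injective hab)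
  have hβx : β xW = xW := hx
  have hinv : orderOf (β (ev wa0)) = 2 := by
    rw [orderOf_injective β hβinj]
    have : Fact (Nat.Prime 2) := ⟨Nat.prime_two⟩
    exact orderOf_eq_prime a0_rel.1 a0_ne
  have h3 : (β (ev wa0) * xW) ^ 3 = 1 := by
    have h := congrArg β a0_rel.2.1
    rw [map_one, map_pow, map_mul, hβx] at h
    exact h
  have h19 : ((β (ev wa0) * xW) * (β (ev wa0) * xW ^ 6)) ^ 19 = 1 := by
    have h := congrArg β a0_rel.2.2
    rw [map_one, map_pow, map_mul, map_mul, map_mul, map_pow, hβx] at h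
    exact h
  obtain ⟨j, hj⟩ := inv_cases hinv h3 h19
  have hβy : β yW = xW ^ j * yW * (xW ^ j)⁻¹ := by
    have h1 := ev2_map β (ev wa0) xW wyy
    have h2 := ev2_map (MulAut.conj (xW ^ j)).toMonoidHom (ev wa0) xW wyy
    rw [← y_eq] at h1 h2
    rw [hβx, hj] at h1
    rw [h1]
    have h4 : (MulAut.conj (xW ^ j)).toMonoidHom (ev wa0) = xW ^ j * ev wa0 * (xW ^ j)⁻¹ := rfl
    have h5 : (MulAut.conj (xW ^ j)).toMonoidHom xW = xW := by
      show xW ^ j * xW * (xW ^ j)⁻¹ = xW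
      rw [← pow_succ, pow_succ']
      group
    rw [h4, h5] at h2
    exact h2.symm
  have hall : ∀ g, β g = xW ^ j * g * (xW ^ j)⁻¹ := by
    intro g
    induction g using W_induction with
    | h1 => rw [map_one]; group
    | hx g ih =>
      rw [map_mul, ih, hβx]
      calc xW * (xW ^ j * g * (xW ^ j)⁻¹) = (xW * xW ^ j) * g * (xW ^ j)⁻¹ := by group
        _ = (xW ^ j * xW) * g * (xW ^ j)⁻¹ := by rw [← pow_succ, ← pow_succ']
        _ = _ := by group
    | hy g ih =>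
      rw [map_mul, ih, hβy]
      group
  refine ⟨u⁻¹ * v * xW ^ j, fun g => ?_⟩
  have h1 := hall g
  rw [hβ] at h1
  calc α g = (u⁻¹ * v) * (v⁻¹ * u * α g * (v⁻¹ * u)⁻¹) * (u⁻¹ * v)⁻¹ := by group
    _ = (u⁻¹ * v) * (xW ^ j * g * (xW ^ j)⁻¹) * (u⁻¹ * v)⁻¹ := by rw [h1]
    _ = _ := by group

theorem card_mulAut : Nat.card (MulAut W) ≤ Nat.card W := by
  apply Nat.card_le_card_of_surjective (MulAut.conj : W →* MulAut W)
  intro α
  obtain ⟨c, hc⟩ := aut_inner α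
  exact ⟨c, MulEquiv.ext fun g => (hc g).symm⟩

theorem card_out : Nat.card (Cfsg.Out W) = 1 := by
  have := simple_W
  have hZ : Subgroup.center W = ⊥ := by
    apply Cfsg.Agent.Lib.OutBound.center_eq_bot
    refine ⟨xW, yW, fun h => ?_⟩
    have h1 := congrArg cd h
    rw [cd_mul, cd_mul, cd_x, cd_y] at h1
    exact absurd h1 (by decide +kernel)
  have h1 := Cfsg.Agent.Lib.OutBound.card_out_mul W hZ
  have h2 := card_mulAut
  rw [← h1] at h2
  have h3 : 0 < Nat.card W := Nat.card_pos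
  have h4 : Nat.card (Cfsg.Out W) ≤ 1 := by
    by_contra h5
    push Not at h5
    have := Nat.mul_lt_mul_of_pos_right h5 h3
    omega
  have h5 : 0 < Nat.card (Cfsg.Out W) := by
    have : 0 < Nat.card (MulAut W) := Nat.card_pos
    rw [← h1] at this
    exact Nat.pos_of_mul_pos_right this
  omega

end Cfsg.Agent.Lib.JOne
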