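import Cfsg.Agent.Lib.JOneCent

/-!
Element orders of the Janko group `J₁`: each is 7, 19 or a divisor of 330, and 5, 6, 7, 11, 19 occur.
-/

set_option autoImplicit false

namespace Cfsg.Agent.Lib.JOne

open Cfsg

theorem conj_of_prime (p m : ℕ) (hp : p.Prime) (hm : Nat.card W = p * m) (hpm : ¬ p ∣ m) {x y : W}
    (hx : orderOf x = p) (hy : orderOf y = p) : ∃ (g : W) (k : ℕ), g * x * g⁻¹ = y ^ k ∧ ¬ p ∣ k := by
  have : Fact p.Prime := ⟨hp⟩
  have hf := fact_card p m hm hp hpm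
  let P : Sylow p W := Sylow.ofCard (Subgroup.zpowers x) (by rw [Nat.card_zpowers, hx, hf, pow_one])
  let Q : Sylow p W := Sylow.ofCard (Subgroup.zpowers y) (by rw [Nat.card_zpowers, hy, hf, pow_one])
  obtain ⟨g, hg⟩ := MulAction.exists_smul_eq W P Q
  have h1 : g * x * g⁻¹ ∈ (Q : Subgroup W) := by
    rw [← hg]
    exact ⟨x, Subgroup.mem_zpowers x, rfl⟩
  have h2 : g * x * g⁻¹ ∈ Subgroup.zpowers y := h1
  rw [mem_zpowers_iff_mem_range_orderOf] at h2
  obtain ⟨k, -, hk⟩ := Finset.mem_image.1 h2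
  refine ⟨g, k, hk.symm, ?_⟩
  intro hd
  have h3 : y ^ k = 1 := by rw [← hy] at hd; exact orderOf_dvd_iff_pow_eq_one.1 hd
  have hk' : y ^ k = g * x * g⁻¹ := hk
  rw [h3] at hk'
  have h4 : x = 1 := by
    have : x = g⁻¹ * (g * x * g⁻¹) * g := by group
    rw [this, ← hk']; group
  rw [h4, orderOf_one] at hx
  exact hp.one_lt.ne hx

theorem card_cent_conj {G : Type*} [Group G] {x y : G} (h : IsConj x y) :
    Nat.card (Subgroup.centralizer ({x} : Set G)) = Nat.card (Subgroup.centralizer ({y} : Set G)) := by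
  obtain ⟨c, rfl⟩ := isConj_iff.1 h
  apply Nat.card_congr
  refine ⟨fun a => ⟨c * a.1 * c⁻¹, ?_⟩, fun a => ⟨c⁻¹ * a.1 * c, ?_⟩, ?_, ?_⟩
  · rw [Subgroup.mem_centralizer_singleton_iff]
    have := Subgroup.mem_centralizer_singleton_iff.1 a.2
    calc c * a.1 * c⁻¹ * (c * x * c⁻¹) = c * (a.1 * x) * c⁻¹ := by group
      _ = c * (x * a.1) * c⁻¹ := by rw [this]
      _ = _ := by group
  · rw [Subgroup.mem_centralizer_singleton_iff]
    have := Subgroup.mem_centralizer_singleton_iff.1 a.2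
    calc c⁻¹ * a.1 * c * x = c⁻¹ * (a.1 * (c * x * c⁻¹)) * c := by group
      _ = c⁻¹ * ((c * x * c⁻¹) * a.1) * c := by rw [this]
      _ = _ := by group
  · intro a
    apply Subtype.ext
    show c⁻¹ * (c * a.1 * c⁻¹) * c = a.1
    group
  · intro a
    apply Subtype.ext
    show c * (c⁻¹ * a.1 * c) * c⁻¹ = a.1
    group

theorem cent_pow {G : Type*} [Group G] (y : G) (k : ℕ) (p : ℕ) (hp : p.Prime) (hy : orderOf y = p) (hk : ¬ p ∣ k) :
    Subgroup.centralizer ({y ^ k} : Set G) = Subgroup.centralizer ({y} : Set G) := by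
  ext g
  rw [Subgroup.mem_centralizer_singleton_iff, Subgroup.mem_centralizer_singleton_iff]
  constructor
  · intro h
    have hc : Nat.Coprime (orderOf y) k := by rw [hy]; exact (Nat.Prime.coprime_iff_not_dvd hp).2 hk
    obtain ⟨m, hm⟩ := exists_pow_eq_self_of_coprime hc.symm
    have h2 : Commute g (y ^ k) := h
    have h3 := h2.pow_right m
    rw [hm] at h3
    exact h3
  · intro h
    have h2 : Commute g y := h
    exact h2.pow_right k

/-- the order of an element is divisible by `p` only if it is `p`, for `p` with self-centralizing Sylow subgroups -/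
theorem order_eq_of_dvd (p m : ℕ) (hp : p.Prime) (hm : Nat.card W = p * m) (hpm : ¬ p ∣ m) {y : W}
    (hy : orderOf y = p) (hc : Nat.card (Subgroup.centralizer ({y} : Set W)) ≤ p) {g : W} (h : p ∣ orderOf g) :
    orderOf g = p := by
  obtain ⟨c, hc'⟩ := h
  have ho : 0 < orderOf g := orderOf_pos g
  have hc0 : 0 < c := Nat.pos_of_ne_zero (by rintro rfl; omega)
  have hx : orderOf (g ^ c) = p := by
    rw [orderOf_pow_of_dvd hc0.ne' ⟨p, by rw [hc']; ring⟩, hc', Nat.mul_div_cancel _ hc0]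
  obtain ⟨u, k, hu, hk⟩ := conj_of_prime p m hp hm hpm hx hy
  have h1 : Nat.card (Subgroup.centralizer ({g ^ c} : Set W)) ≤ p := by
    rw [card_cent_conj (isConj_iff.2 ⟨u, hu⟩), cent_pow y k p hp hy hk]
    exact hc
  have h2 : g ∈ Subgroup.centralizer ({g ^ c} : Set W) := by
    rw [Subgroup.mem_centralizer_singleton_iff]
    exact (Commute.refl g).pow_right c
  have h3 : g ^ c ∈ Subgroup.centralizer ({g ^ c} : Set W) := by
    rw [Subgroup.mem_centralizer_singleton_iff]
  have h4 : orderOf g ∣ Nat.card (Subgroup.centralizer ({g ^ c} : Set W)) := by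
    rw [← Subgroup.orderOf_mk g h2]
    exact orderOf_dvd_natCard _
  have h6 := Nat.le_of_dvd Nat.card_pos h4
  have h7 := Nat.le_of_dvd ho (Dvd.intro c hc'.symm)
  omega

theorem not_four_dvd (g : W) : ¬ 4 ∣ orderOf g := by
  rintro ⟨c, hc⟩
  have ho : 0 < orderOf g := orderOf_pos g
  have hc0 : 0 < c := Nat.pos_of_ne_zero (by rintro rfl; omega)
  have hx : orderOf (g ^ c) = 4 := by
    rw [orderOf_pow_of_dvd hc0.ne' ⟨4, by rw [hc]; ring⟩, hc, Nat.mul_div_cancel _ hc0]
  set y := g ^ c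
  have : Fact (Nat.Prime 2) := ⟨Nat.prime_two⟩
  have hf : (Nat.card W).factorization 2 = 3 := by
    rw [card_W, show (175560 : ℕ) = 2 ^ 3 * 21945 by norm_num,
      Nat.factorization_mul (by norm_num) (by norm_num), Finsupp.add_apply, Nat.prime_two.factorization_pow,
      Nat.factorization_eq_zero_of_not_dvd (by norm_num : ¬ 2 ∣ 21945)]
    simp
  let Q : Sylow 2 W := Sylow.ofCard E8 (by rw [card_E8, hf]; norm_num)
  have hP : IsPGroup 2 (Subgroup.zpowers y) := by
    apply IsPGroup.of_card (n := 2)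
    rw [Nat.card_zpowers, hx]; norm_num
  obtain ⟨P, hP'⟩ := hP.exists_le_sylow
  obtain ⟨u, hu⟩ := MulAction.exists_smul_eq W P Q
  have h1 : u * y * u⁻¹ ∈ (Q : Subgroup W) := by
    rw [← hu]
    exact ⟨y, hP' (Subgroup.mem_zpowers y), rfl⟩
  obtain ⟨v, hv, hv2⟩ : u * y * u⁻¹ ∈ E8 := h1
  have h2 : ev (we v) * ev (we v) = 1 := by
    apply cd_inj
    rw [cd_mul, cd_ev, cd_one, Nat.eq_of_beq_eq_true ((Golay.allLt_iff.1 ((Golay.allLt_iff.1 we_mul) v hv)) v hv)]
    have : Nat.xor v v = 0 := Nat.xor_self v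
    rw [this]
    rfl
  rw [← hv2] at h2
  have h3 : y ^ 2 = 1 := by
    have : y ^ 2 = u⁻¹ * (u * y * u⁻¹ * (u * y * u⁻¹)) * u := by rw [pow_two]; group
    rw [this, h2]; group
  have h4 := orderOf_dvd_of_pow_eq_one h3
  rw [hx] at h4
  exact absurd h4 (by norm_num)

theorem order_cases (g : W) : orderOf g = 7 ∨ orderOf g = 19 ∨ orderOf g ∣ 330 := by
  by_cases h7 : 7 ∣ orderOf g
  · left
    exact order_eq_of_dvd 7 25080 (by norm_num) (by rw [card_W]) (by norm_num) order_x card_cent_x h7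
  by_cases h19 : 19 ∣ orderOf g
  · right; left
    exact order_eq_of_dvd 19 9240 (by norm_num) (by rw [card_W]) (by norm_num) order_w19 card_cent_w19 h19
  right; right
  have h1 : orderOf g ∣ 175560 := by rw [← card_W]; exact orderOf_dvd_natCard g
  have h2 : orderOf g ∣ 7 * 25080 := h1
  have h3 : orderOf g ∣ 25080 :=
    (Nat.Coprime.symm ((Nat.Prime.coprime_iff_not_dvd (by norm_num)).2 h7)).dvd_of_dvd_mul_left h2
  have h4 : orderOf g ∣ 19 * 1320 := h3
  have h5 : orderOf g ∣ 1320 :=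
    (Nat.Coprime.symm ((Nat.Prime.coprime_iff_not_dvd (by norm_num)).2 h19)).dvd_of_dvd_mul_left h4
  have h6 := not_four_dvd g
  generalize orderOf g = n at h5 h6
  have hn : n ≤ 1320 := Nat.le_of_dvd (by norm_num) h5
  have key : ∀ n ≤ 1320, n ∣ 1320 → ¬ 4 ∣ n → n ∣ 330 := by decide +kernel
  exact key n hn h5 h6

/-- a word for an element of order six -/
def w6 : List Bool := [true, true, true, false]

theorem order_w6 : orderOf (ev w6) = 6 := by
  have h6 : (ev w6) ^ 6 = 1 := by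
    apply cd_inj
    rw [cd_pow, cd_ev, cd_one]
    decide +kernel
  have h2 : (ev w6) ^ 2 ≠ 1 := by
    intro h
    have := congrArg cd h
    rw [cd_pow, cd_ev, cd_one] at this
    exact absurd this (by decide +kernel)
  have h3 : (ev w6) ^ 3 ≠ 1 := by
    intro h
    have := congrArg cd h
    rw [cd_pow, cd_ev, cd_one] at this
    exact absurd this (by decide +kernel)
  have h1 := orderOf_dvd_of_pow_eq_one h6
  have h4 : ¬ orderOf (ev w6) ∣ 2 := fun h => h2 (orderOf_dvd_iff_pow_eq_one.1 h)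
  have h5 : ¬ orderOf (ev w6) ∣ 3 := fun h => h3 (orderOf_dvd_iff_pow_eq_one.1 h)
  generalize orderOf (ev w6) = n at h1 h4 h5
  have hn : n ≤ 6 := Nat.le_of_dvd (by norm_num) h1
  interval_cases n <;> omega

end Cfsg.Agent.Lib.JOne
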