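import Cfsg.Agent.Lib.JThreeSyl
import Cfsg.Prelude.Def_Spor_J3

/-!
The group `3·J₃` of 9 × 9 matrices over the computable field with four elements: membership codes and order.
-/

set_option autoImplicit false

namespace Cfsg.Agent.Lib.JThree

open Cfsg Cfsg.Agent.Lib.F4Pack Cfsg.Agent.Lib.NatTree Cfsg.Agent.Lib.K4
open Cfsg.Agent.Lib.Golay (allLt allLt_iff)

/-- invertible matrices -/
abbrev GLM : Type := GL Spor.F9 K4

/-- code of an invertible matrix -/
def cd (g : GLM) : ℕ := cdm (g : Matrix Spor.F9 Spor.F9 K4)

theorem cd_mul (g h : GLM) : cd (g * h) = mu (cd g) (cd h) := (mu_cdm _ _).symm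

theorem cd_inj {g h : GLM} (e : cd g = cd h) : g = h := Units.ext (cdm_inj e)

theorem Ic_ok : ok Ic = true := by decide +kernel

theorem cdm_one : cdm 1 = Ic := by
  have h1 : (1 : Mt) = dc Ic := by decide +kernel
  rw [h1]
  exact cdm_dc Ic_ok

theorem cd_one : cd 1 = Ic := cdm_one

/-- codes of matrices -/
def Good (c : ℕ) : Prop := ∃ A : Mt, cdm A = c

theorem good_of_ok {c : ℕ} (h : ok c = true) : Good c := ⟨dc c, cdm_dc h⟩

theorem good_mu {a b : ℕ} (ha : Good a) (hb : Good b) : Good (mu a b) := by
  obtain ⟨A, rfl⟩ := ha
  obtain ⟨B, rfl⟩ := hb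
  exact ⟨A * B, (mu_cdm A B).symm⟩

theorem mu_assoc {a b c : ℕ} (ha : Good a) (hb : Good b) (hc : Good c) :
    mu (mu a b) c = mu a (mu b c) := by
  obtain ⟨A, rfl⟩ := ha
  obtain ⟨B, rfl⟩ := hb
  obtain ⟨C, rfl⟩ := hc
  rw [mu_cdm, mu_cdm, mu_cdm, mu_cdm, Matrix.mul_assoc]

theorem mu_Ic_left {c : ℕ} (h : Good c) : mu Ic c = c := by
  obtain ⟨A, rfl⟩ := h
  rw [← cdm_one, mu_cdm, one_mul]

theorem mu_Ic_right {c : ℕ} (h : Good c) : mu c Ic = c := by
  obtain ⟨A, rfl⟩ := h
  rw [← cdm_one, mu_cdm, mul_one]

/-- unit with given code and inverse code -/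
def mkU (c c' : ℕ) (h1 : ok c = true) (h2 : ok c' = true) (h3 : mu c c' = Ic) : GLM where
  val := dc c
  inv := dc c'
  val_inv := by
    apply cdm_inj
    rw [← mu_cdm, cdm_dc h1, cdm_dc h2, h3, cdm_one]
  inv_val := by
    have h : dc c * dc c' = 1 := by
      apply cdm_inj
      rw [← mu_cdm, cdm_dc h1, cdm_dc h2, h3, cdm_one]
    exact mul_eq_one_comm.1 h

theorem cd_mkU (c c' : ℕ) (h1 : ok c = true) (h2 : ok c' = true) (h3 : mu c c' = Ic) : cd (mkU c c' h1 h2 h3) = c :=
  cdm_dc h1

def Xi : ℕ := 17218479985588534515927261251716426066728569979824701159593607991041177312957875281164798977013900433433245930607461834758130519364316915594665156649713878980154512580872456166623283250116194783556335572368428727572513540790176290604047196497974288856227517818802513700750350269288436213445906284984490630838462061611524232459116129351191583206680672197428674560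
def Yi : ℕ := 17218479969552575897642359072039966247613754071990527953551460115617352823610406563839260931924948763273140608215472607959224820879309228800746796888148720103873286327772502979360122265878080269015438782612025877107989545221906897492416009952623096991654341411586374931187361337267770460511559454112878124973835135960230124058894038076380580900542881640448262144

/-- the two generators -/
def xG : GLM := mkU Xc Xi (by decide +kernel) (by decide +kernel) (by decide +kernel)
def yG : GLM := mkU Yc Yi (by decide +kernel) (by decide +kernel) (by decide +kernel)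

theorem cd_x : cd xG = Xc := cd_mkU _ _ _ _ _
theorem cd_y : cd yG = Yc := cd_mkU _ _ _ _ _

/-- the generated group -/
def H : Subgroup GLM := Subgroup.closure {xG, yG}

theorem x_mem : xG ∈ H := Subgroup.subset_closure (by simp)
theorem y_mem : yG ∈ H := Subgroup.subset_closure (by simp)

/-- codes of elements of the group -/
def InH (c : ℕ) : Prop := ∃ g ∈ H, cd g = c

theorem inH_mul {a b : ℕ} (ha : InH a) (hb : InH b) : InH (mu a b) := by
  obtain ⟨g, hg, rfl⟩ := ha
  obtain ⟨h, hh, rfl⟩ := hb
  exact ⟨g * h, mul_mem hg hh, cd_mul g h⟩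

theorem good_inH {a : ℕ} (h : InH a) : Good a := by
  obtain ⟨g, -, rfl⟩ := h
  exact ⟨_, rfl⟩

theorem inH_of_mul {a b : ℕ} (ha : InH a) (hb : Good b) (hab : InH (mu a b)) : InH b := by
  obtain ⟨g, hg, rfl⟩ := ha
  obtain ⟨B, rfl⟩ := hb
  obtain ⟨k, hk, hk2⟩ := hab
  refine ⟨g⁻¹ * k, mul_mem (inv_mem hg) hk, ?_⟩
  have h1 : (k : Mt) = (g : Mt) * B := by
    apply cdm_inj
    rw [← mu_cdm]
    exact hk2
  have h2 : ((g⁻¹ * k : GLM) : Mt) = B := by
    rw [Units.val_mul, h1, ← mul_assoc, Units.inv_mul, one_mul]
  rw [cd, h2]

theorem good_u {i : ℕ} (h : i < 6156) : Good (ut i) := good_of_ok ((allLt_iff.1 ut_ok) i h)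
theorem good_v {i : ℕ} (h : i < 85) : Good (vt i) := good_of_ok ((allLt_iff.1 vt_ok) i h)
theorem good_w {i : ℕ} (h : i < 288) : Good (wt i) := good_of_ok ((allLt_iff.1 wt_ok) i h)

theorem u_zero : ut 0 = Ic := by
  have h := zero_ok
  rw [cond_and, cond_and] at h
  exact Nat.eq_of_beq_eq_true h.1
theorem v_zero : vt 0 = Ic := by
  have h := zero_ok
  rw [cond_and, cond_and] at h
  exact Nat.eq_of_beq_eq_true h.2.1
theorem w_zero : wt 0 = Ic := by
  have h := zero_ok
  rw [cond_and, cond_and] at h
  exact Nat.eq_of_beq_eq_true h.2.2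

theorem good_I : Good Ic := good_of_ok Ic_ok

/-! ### third level -/

theorem step_w1 {k : ℕ} (hk : k < 288) : cg c1T k < 288 ∧ mu (wt 1) (wt k) = wt (cg c1T k) := by
  have h := (allLt_iff.1 stepW1) k hk
  rw [force_eq, stepW, cond_and] at h
  exact ⟨Nat.le_of_ble_eq_true h.1, Nat.eq_of_beq_eq_true h.2⟩

theorem step_w2 {k : ℕ} (hk : k < 288) : cg c2T k < 288 ∧ mu (wt 2) (wt k) = wt (cg c2T k) := by
  have h := (allLt_iff.1 stepW2) k hk
  rw [force_eq, stepW, cond_and] at h
  exact ⟨Nat.le_of_ble_eq_true h.1, Nat.eq_of_beq_eq_true h.2⟩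

/-- induction over the third level -/
theorem w_ind {p : ℕ → Prop} (h0 : p Ic) (h1 : ∀ k < 288, p (wt k) → p (mu (wt 1) (wt k)))
    (h2 : ∀ k < 288, p (wt k) → p (mu (wt 2) (wt k))) : ∀ a < 288, p (wt a) := by
  intro a
  induction a using Nat.strong_induction_on with
  | _ a ih =>
    intro ha
    have h := (allLt_iff.1 pw_ok) a ha
    cases e0 : Nat.beq a 0 with
    | true => rw [Nat.eq_of_beq_eq_true e0, w_zero]; exact h0
    | false =>
      rw [e0, cond_false, force_eq, cond_and] at h
      obtain ⟨h3, h4⟩ := h
      have h5 : Nat.shiftRight (pw a) 1 < a := Nat.le_of_ble_eq_true h3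
      have h6 := Nat.eq_of_beq_eq_true h4
      have h7 := ih _ h5 (h5.trans ha)
      cases e1 : Nat.beq (Nat.land (pw a) 1) 0 with
      | true =>
        rw [e1, cond_true] at h6
        have := h1 _ (h5.trans ha) h7
        rwa [(step_w1 (h5.trans ha)).2, h6] at this
      | false =>
        rw [e1, cond_false] at h6
        have := h2 _ (h5.trans ha) h7
        rwa [(step_w2 (h5.trans ha)).2, h6] at this

theorem w_mul {a b : ℕ} (ha : a < 288) (hb : b < 288) : ∃ c < 288, mu (wt a) (wt b) = wt c := by
  refine w_ind (p := fun s => ∃ c < 288, mu s (wt b) = wt c) ?_ ?_ ?_ a ha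
  · exact ⟨b, hb, mu_Ic_left (good_w hb)⟩
  · rintro k hk ⟨c, hc, hc2⟩
    refine ⟨_, (step_w1 hc).1, ?_⟩
    rw [mu_assoc (good_w (by norm_num)) (good_w hk) (good_w hb), hc2, (step_w1 hc).2]
  · rintro k hk ⟨c, hc, hc2⟩
    refine ⟨_, (step_w2 hc).1, ?_⟩
    rw [mu_assoc (good_w (by norm_num)) (good_w hk) (good_w hb), hc2, (step_w2 hc).2]

/-! ### second level -/

/-- codes of the subgroup of order 24480 -/
def InS1 (c : ℕ) : Prop := ∃ j < 85, ∃ k < 288, c = mu (vt j) (wt k)

theorem good_S1 {c : ℕ} (h : InS1 c) : Good c := by
  obtain ⟨j, hj, k, hk, rfl⟩ := h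
  exact good_mu (good_v hj) (good_w hk)

/-- left multiplication preserves the set -/
def LP (c : ℕ) : Prop := Good c ∧ ∀ s, InS1 s → InS1 (mu c s)

theorem LP_mul {a b : ℕ} (ha : LP a) (hb : LP b) : LP (mu a b) := by
  refine ⟨good_mu ha.1 hb.1, fun s hs => ?_⟩
  rw [mu_assoc ha.1 hb.1 (good_S1 hs)]
  exact ha.2 _ (hb.2 _ hs)

theorem LP_I : LP Ic := ⟨good_I, fun s hs => by rwa [mu_Ic_left (good_S1 hs)]⟩

theorem step_v {T g : ℕ} (h : allLt 85 (fun j => force (bg T j) fun e => stepV g j e) = true) {j : ℕ} (hj : j < 85) :
    Nat.land (bg T j) 127 < 85 ∧ Nat.shiftRight (bg T j) 7 < 288 ∧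
      mu g (vt j) = mu (vt (Nat.land (bg T j) 127)) (wt (Nat.shiftRight (bg T j) 7)) := by
  have h1 := (allLt_iff.1 h) j hj
  rw [force_eq, stepV, cond_and, cond_and] at h1
  exact ⟨Nat.le_of_ble_eq_true h1.1, Nat.le_of_ble_eq_true h1.2.1, Nat.eq_of_beq_eq_true h1.2.2⟩

theorem LP_of_step {T g : ℕ} (hg : Good g) (h : allLt 85 (fun j => force (bg T j) fun e => stepV g j e) = true) : LP g := by
  refine ⟨hg, ?_⟩
  rintro s ⟨j, hj, k, hk, rfl⟩
  obtain ⟨h1, h2, h3⟩ := step_v h hj
  obtain ⟨c, hc, hc2⟩ := w_mul h2 hk
  refine ⟨_, h1, c, hc, ?_⟩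
  rw [← mu_assoc hg (good_v hj) (good_w hk), h3, mu_assoc (good_v h1) (good_w h2) (good_w hk), hc2]

theorem H1c_ok : ok H1c = true := by decide +kernel
theorem H2c_ok : ok H2c = true := by decide +kernel

theorem LP_h1 : LP H1c := LP_of_step (good_of_ok H1c_ok) stepV1
theorem LP_h2 : LP H2c := LP_of_step (good_of_ok H2c_ok) stepV2
theorem LP_w1 : LP (wt 1) := LP_of_step (good_w (by norm_num)) stepV3
theorem LP_w2 : LP (wt 2) := LP_of_step (good_w (by norm_num)) stepV4

theorem LP_w : ∀ k < 288, LP (wt k) :=
  w_ind LP_I (fun _ _ h => LP_mul LP_w1 h) (fun _ _ h => LP_mul LP_w2 h)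

/-- induction over the second level -/
theorem v_ind {p : ℕ → Prop} (h0 : p Ic) (h1 : ∀ k < 85, p (vt k) → p (mu H1c (vt k)))
    (h2 : ∀ k < 85, p (vt k) → p (mu H2c (vt k))) : ∀ a < 85, p (vt a) := by
  intro a
  induction a using Nat.strong_induction_on with
  | _ a ih =>
    intro ha
    have h := (allLt_iff.1 pv_ok) a ha
    cases e0 : Nat.beq a 0 with
    | true => rw [Nat.eq_of_beq_eq_true e0, v_zero]; exact h0
    | false =>
      rw [e0, cond_false, force_eq, cond_and] at h
      obtain ⟨h3, h4⟩ := h
      have h5 : Nat.shiftRight (pv a) 1 < a := Nat.le_of_ble_eq_true h3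
      have h6 := Nat.eq_of_beq_eq_true h4
      have h7 := ih _ h5 (h5.trans ha)
      have ea : Nat.land a 127 = a := by
        have key : ∀ a < 85, Nat.land a 127 = a := by decide
        exact key a ha
      have eb : Nat.shiftRight a 7 = 0 := by
        have key : ∀ a < 85, Nat.shiftRight a 7 = 0 := by decide
        exact key a ha
      cases e1 : Nat.beq (Nat.land (pv a) 1) 0 with
      | true =>
        rw [e1, cond_true] at h6
        have h8 := h1 _ (h5.trans ha) h7
        rwa [(step_v stepV1 (h5.trans ha)).2.2, h6, ea, eb, w_zero, mu_Ic_right (good_v ha)] at h8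
      | false =>
        rw [e1, cond_false] at h6
        have h8 := h2 _ (h5.trans ha) h7
        rwa [(step_v stepV2 (h5.trans ha)).2.2, h6, ea, eb, w_zero, mu_Ic_right (good_v ha)] at h8

theorem LP_v : ∀ j < 85, LP (vt j) := v_ind LP_I (fun _ _ h => LP_mul LP_h1 h) (fun _ _ h => LP_mul LP_h2 h)

theorem LP_S1 {c : ℕ} (h : InS1 c) : LP c := by
  obtain ⟨j, hj, k, hk, rfl⟩ := h
  exact LP_mul (LP_v j hj) (LP_w k hk)

/-! ### first level -/

/-- codes `u_i v_j w_k` -/
def InS0 (c : ℕ) : Prop := ∃ i < 6156, ∃ s, InS1 s ∧ c = mu (ut i) s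

theorem one_S1 : InS1 Ic := ⟨0, by norm_num, 0, by norm_num, by rw [v_zero, w_zero, mu_Ic_left good_I]⟩

theorem step_u {g i e : ℕ} (h : step g i e = true) : Nat.land e 8191 < 6156 ∧
    ∃ s, InS1 s ∧ mu g (ut i) = mu (ut (Nat.land e 8191)) s := by
  rw [step, cond_and, cond_and] at h
  obtain ⟨h1, h2, h3⟩ := h
  have h1' : Nat.land e 8191 < 6156 := Nat.le_of_ble_eq_true h1
  have h2' : Nat.shiftRight e 13 < 24480 := Nat.le_of_ble_eq_true h2
  refine ⟨h1', ?_⟩
  cases e0 : Nat.beq (Nat.shiftRight e 13) 0 with
  | true =>
    rw [e0, cond_true] at h3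
    exact ⟨Ic, one_S1, by rw [Nat.eq_of_beq_eq_true h3, mu_Ic_right (good_u h1')]⟩
  | false =>
    rw [e0, cond_false] at h3
    refine ⟨_, ⟨Nat.div (Nat.shiftRight e 13) 288, Nat.div_lt_of_lt_mul h2', Nat.mod (Nat.shiftRight e 13) 288,
      Nat.mod_lt _ (by norm_num), rfl⟩, Nat.eq_of_beq_eq_true h3⟩

theorem S0_step {g : ℕ} (hg : Good g) (h : ∀ i < 6156, ∃ e, step g i e = true) {c : ℕ} (hc : InS0 c) :
    InS0 (mu g c) := by
  obtain ⟨i, hi, s, hs, rfl⟩ := hc
  obtain ⟨e, he⟩ := h i hi
  obtain ⟨h1, t, ht, h2⟩ := step_u he
  refine ⟨_, h1, mu t s, (LP_S1 ht).2 s hs, ?_⟩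
  rw [← mu_assoc hg (good_u hi) (good_S1 hs), h2, mu_assoc (good_u h1) (good_S1 ht) (good_S1 hs)]

theorem S0_x {c : ℕ} (hc : InS0 c) : InS0 (mu Xc c) := by
  refine S0_step (good_of_ok (by decide +kernel)) (fun i hi => ?_) hc
  have h := (allLt_iff.1 stepX) i hi
  rw [force_eq] at h
  exact ⟨_, h⟩

theorem S0_y {c : ℕ} (hc : InS0 c) : InS0 (mu Yc c) := by
  refine S0_step (good_of_ok (by decide +kernel)) (fun i hi => ?_) hc
  have h := (allLt_iff.1 stepY) i hi
  rw [force_eq] at h
  exact ⟨_, h⟩

/-- powers of a code -/
def pc (c n : ℕ) : ℕ := Nat.rec (motive := fun _ => ℕ) Ic (fun _ ih => mu c ih) n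

theorem cd_pow (g : GLM) (n : ℕ) : cd (g ^ n) = pc (cd g) n := by
  induction n with
  | zero => rw [pow_zero, cd_one]; rfl
  | succ n ih => rw [pow_succ', cd_mul, ih]; rfl

theorem x_pow : xG ^ 19 = 1 := by
  apply cd_inj
  rw [cd_pow, cd_x, cd_one]
  decide +kernel

theorem y_pow : yG ^ 19 = 1 := by
  apply cd_inj
  rw [cd_pow, cd_y, cd_one]
  decide +kernel

theorem x_inv : xG⁻¹ = xG ^ 18 := inv_eq_of_mul_eq_one_right (by rw [← pow_succ', x_pow])
theorem y_inv : yG⁻¹ = yG ^ 18 := inv_eq_of_mul_eq_one_right (by rw [← pow_succ', y_pow])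

/-- induction over the group -/
theorem H_induction {p : GLM → Prop} (h1 : p 1) (hx : ∀ g ∈ H, p g → p (xG * g)) (hy : ∀ g ∈ H, p g → p (yG * g)) :
    ∀ g ∈ H, p g := by
  have hxn : ∀ (n : ℕ) (g : GLM), g ∈ H → p g → p (xG ^ n * g) := by
    intro n
    induction n with
    | zero => intro g _ h; rwa [pow_zero, one_mul]
    | succ n ih =>
      intro g hg h
      rw [pow_succ', mul_assoc]
      exact hx _ (mul_mem (pow_mem x_mem n) hg) (ih g hg h)
  have hyn : ∀ (n : ℕ) (g : GLM), g ∈ H → p g → p (yG ^ n * g) := by
    intro n
    induction n with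
    | zero => intro g _ h; rwa [pow_zero, one_mul]
    | succ n ih =>
      intro g hg h
      rw [pow_succ', mul_assoc]
      exact hy _ (mul_mem (pow_mem y_mem n) hg) (ih g hg h)
  have key : ∀ g ∈ H, ∀ k ∈ H, p k → p (g * k) := by
    intro g hg
    induction hg using Subgroup.closure_induction with
    | mem g hg =>
      intro k hk h
      rcases hg with rfl | hg
      · exact hx k hk h
      · rw [Set.mem_singleton_iff] at hg
        subst hg
        exact hy k hk h
    | one => intro k _ h; rwa [one_mul]
    | mul a b ha hb iha ihb =>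
      intro k hk h
      rw [mul_assoc]
      exact iha _ (mul_mem hb hk) (ihb k hk h)
    | inv a ha iha =>
      intro k hk h
      -- a⁻¹ is a positive word: use the finite order via the set of all `m` with `p (m * k)`
      have hfin : Finite GLM := inferInstance
      obtain ⟨n, hn, hn2⟩ := isOfFinOrder_iff_pow_eq_one.1 (isOfFinOrder_of_finite a)
      have h3 : a⁻¹ = a ^ (n - 1) := by
        apply inv_eq_of_mul_eq_one_right
        rw [← pow_succ', Nat.sub_add_cancel hn, hn2]
      rw [h3]
      have : ∀ m : ℕ, p (a ^ m * k) := by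
        intro m
        induction m with
        | zero => rwa [pow_zero, one_mul]
        | succ m ihm =>
          rw [pow_succ', mul_assoc]
          exact iha _ (mul_mem (pow_mem ha m) hk) ihm
      exact this _
  intro g hg
  have := key g hg 1 (one_mem _) h1
  rwa [mul_one] at this

theorem cd_S0 : ∀ g ∈ H, InS0 (cd g) := by
  apply H_induction
  · rw [cd_one]
    exact ⟨0, by norm_num, Ic, one_S1, by rw [u_zero, mu_Ic_left good_I]⟩
  · intro g _ h
    rw [cd_mul, cd_x]
    exact S0_x h
  · intro g _ h
    rw [cd_mul, cd_y]
    exact S0_y h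

theorem card_H_le : Nat.card H ≤ 150698880 := by
  classical
  have hS : ∀ g : H, ∃ t : Fin 6156 × Fin 85 × Fin 288, cd g.1 = mu (ut t.1) (mu (vt t.2.1) (wt t.2.2)) := by
    intro g
    obtain ⟨i, hi, s, ⟨j, hj, k, hk, rfl⟩, h⟩ := cd_S0 g.1 g.2
    exact ⟨(⟨i, hi⟩, ⟨j, hj⟩, ⟨k, hk⟩), h⟩
  choose F hF using hS
  have hinj : Function.Injective F := by
    intro g h hgh
    apply Subtype.ext
    apply cd_inj
    rw [hF g, hF h, hgh]
  have := Nat.card_le_card_of_injective F hinj
  have h2 : Nat.card (Fin 6156 × Fin 85 × Fin 288) = 150698880 := by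
    rw [Nat.card_eq_fintype_card, Fintype.card_prod, Fintype.card_prod, Fintype.card_fin, Fintype.card_fin,
      Fintype.card_fin]
  rwa [h2] at this

/-! ### the table elements are in the group -/

theorem inH_X : InH Xc := ⟨xG, x_mem, cd_x⟩
theorem inH_Y : InH Yc := ⟨yG, y_mem, cd_y⟩
theorem inH_I : InH Ic := ⟨1, one_mem _, cd_one⟩

/-- induction over the first level -/
theorem u_ind {p : ℕ → Prop} (h0 : p Ic) (h1 : ∀ k < 6156, p (ut k) → p (mu Xc (ut k)))
    (h2 : ∀ k < 6156, p (ut k) → p (mu Yc (ut k))) : ∀ a < 6156, p (ut a) := by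
  intro a
  induction a using Nat.strong_induction_on with
  | _ a ih =>
    intro ha
    have h := (allLt_iff.1 pu_ok) a ha
    cases e0 : Nat.beq a 0 with
    | true => rw [Nat.eq_of_beq_eq_true e0, u_zero]; exact h0
    | false =>
      rw [e0, cond_false, force_eq, cond_and] at h
      obtain ⟨h3, h4⟩ := h
      have h5 : Nat.shiftRight (pu a) 1 < a := Nat.le_of_ble_eq_true h3
      have h6 := Nat.eq_of_beq_eq_true h4
      have h7 := ih _ h5 (h5.trans ha)
      have ea : Nat.land a 8191 = a := (Nat.and_two_pow_sub_one_eq_mod a 13).trans (Nat.mod_eq_of_lt (by omega))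
      have eb : Nat.shiftRight a 13 = 0 := (Nat.shiftRight_eq_div_pow a 13).trans (Nat.div_eq_of_lt (by omega))
      have key : ∀ g, step g (Nat.shiftRight (pu a) 1) a = true → mu g (ut (Nat.shiftRight (pu a) 1)) = ut a := by
        intro g hg
        rw [step, cond_and, cond_and, ea, eb] at hg
        exact Nat.eq_of_beq_eq_true hg.2.2
      cases e1 : Nat.beq (Nat.land (pu a) 1) 0 with
      | true =>
        rw [e1, cond_true] at h6
        have h8 := h1 _ (h5.trans ha) h7
        have h9 := (allLt_iff.1 stepX) _ (h5.trans ha)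
        rw [force_eq, h6] at h9
        rwa [key _ h9] at h8
      | false =>
        rw [e1, cond_false] at h6
        have h8 := h2 _ (h5.trans ha) h7
        have h9 := (allLt_iff.1 stepY) _ (h5.trans ha)
        rw [force_eq, h6] at h9
        rwa [key _ h9] at h8

theorem inH_u : ∀ i < 6156, InH (ut i) := u_ind inH_I (fun _ _ h => inH_mul inH_X h) (fun _ _ h => inH_mul inH_Y h)

theorem inH_h1 : InH H1c := by
  have h := Nat.eq_of_beq_eq_true h1_ok
  refine inH_of_mul (inH_u 51 (by norm_num)) (good_of_ok H1c_ok) ?_
  rw [← h]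
  exact inH_mul inH_Y (inH_u 25 (by norm_num))

theorem inH_h2 : InH H2c := by
  have h := Nat.eq_of_beq_eq_true h2_ok
  refine inH_of_mul (inH_u 353 (by norm_num)) (good_of_ok H2c_ok) ?_
  rw [← h]
  exact inH_mul inH_X (inH_u 209 (by norm_num))

theorem inH_v : ∀ i < 85, InH (vt i) := v_ind inH_I (fun _ _ h => inH_mul inH_h1 h) (fun _ _ h => inH_mul inH_h2 h)

theorem inH_w1 : InH (wt 1) := by
  have h := Nat.eq_of_beq_eq_true w1_ok
  refine inH_of_mul (inH_v 3 (by norm_num)) (good_w (by norm_num)) ?_
  rw [← h]
  exact inH_mul inH_h1 (inH_v 3 (by norm_num))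

theorem inH_w2 : InH (wt 2) := by
  have h := Nat.eq_of_beq_eq_true w2_ok
  refine inH_of_mul (inH_v 28 (by norm_num)) (good_w (by norm_num)) ?_
  rw [← h]
  exact inH_mul inH_h2 (inH_v 22 (by norm_num))

theorem inH_w : ∀ i < 288, InH (wt i) := w_ind inH_I (fun _ _ h => inH_mul inH_w1 h) (fun _ _ h => inH_mul inH_w2 h)

theorem inH_uvw {i j k : ℕ} (hi : i < 6156) (hj : j < 85) (hk : k < 288) : InH (mu (ut i) (mu (vt j) (wt k))) :=
  inH_mul (inH_u i hi) (inH_mul (inH_v j hj) (inH_w k hk))

/-! ### the generators of the definition -/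

def gaT : ℕ := 0xa6800000000000000000000000000000000001d800000000000000000000000000000000000f0800000000000000000000000000000000001d600000000000000000000000000000000000a3800000000000000000000000000000000003dc00000000000000000000000000000000000d300000000000000000000000000000000000356000000000000000000000000000000000000783cb00000000000000000000000000000000000774000000000000000000000000000000000031f0000000000000000000000000000000000074c00000000000000000000000000000000003d500000000000000000000000000000000000c1c00000000000000000000000000000000002db00000000000000000000000000000000000b34000000000000000000000000000000000001f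
def gaF : ℕ := 0x40f88d2062c500041754b06ee60f32ab64d2a5e7698b8034d0b2493b0000000
def geT : ℕ := 0x74000000000000000000000000000000000002ca00000000000000000000000000000000000d18000000000000000000000000000000000038e00000000000000000000000000000000000f5000000000000000000000000000000000003d800000000000000000000000000000000000f3000000000000000000000000000000000003d600000000000000000000000000000000000f683fb00000000000000000000000000000000000fb400000000000000000000000000000000003f600000000000000000000000000000000000f8c00000000000000000000000000000000001f500000000000000000000000000000000000bb8000000000000000000000000000000000037c00000000000000000000000000000000000ea800000000000000000000000000000000003d1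
def geF : ℕ := 0x9bd2dd240420cc5536d6919316066454d305d6510411cab0128ac36f5645351
def gdT : ℕ := 0x1000400100040000000000000008000000000200010004000000000000000000200000420100000401000020008000000000000000000000040040042000800000000000000200000000004001000080000000000000000108000000000000100002000804200000000000000040000000001000080400000000000000000001000000100040002000000000000001008000100840010000000000000000010800040010000020000400000000000000080020001002000000040000000000000000000000000040210004001000400000000000000000400001000400000040010000000000000002000800041000000001000200080000000000000000001000400100000008042000000000000000800040010010000000200000000000000080020001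
def gdF : ℕ := 0x6b740a8a7e2a75b1fd2388a456a61e983745cfe130151a368273ab5c0000000
def gbT : ℕ := 0x1000800020010000000000000004001000000080020000000000080020000000000020008000000000000000001000400000000000800000100000001000000100000000000000080004000000100000008004000400000000000000000100004000000400000000000000200000000002000000020020000000200000000000000000000000000000000000000007800900040040002000000000000000000000080024000000000040000000001000000000000000900200000000000400040000001000000000024002000000200000000000000080000001000900200000000000000000040000000000000024001000400000000000000200000040002000900000000008000000080000000000200000024000000000000000000000000000000000001f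
def gbF : ℕ := 0x55a6352880304d6dd88dc1a09345aa9228f00000005569707444097d0000000
def gcT : ℕ := 0x10000001a00080010005001200300000000000400300010002001200340028000001a00300010009000a00000010002000000080010009000400000060005001a00000010002000a0000001000d00180024000000500120000006000d000400080010000001200340010005001800080000002000000300028002001a0024001000200000000000000000000000000000000000000007800b001c0000003000c002000400080000001c0034008000a000c0040000001000000000008000700200040007000c00140000003000a00200034007001000200000000000c000c0040007000b0000004000800000020004000700100000001c005000c00000040000000c00200040005000f000c0000008001000140000008000c000c003c000000000000000000000000000000000001f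
def gcF : ℕ := 0xaadf4fd15911b6a31cd658694faead20708978d27a7bec0010c18bb20000000

/-- code of a generator -/
def gc (T z : ℕ) : ℕ := Nat.land (Nat.shiftRight T (Nat.add (Nat.mul 1215 (Nat.div z 5)) (Nat.mod z 5))) MM

/-- check of a generator -/
noncomputable def gchk (T F z : ℕ) : Bool :=
  cond (ok (gc T z)) (force (Nat.land (Nat.shiftRight F (Nat.mul 28 z)) 268435455) fun e =>
    cond (Nat.blt (Nat.land e 8191) 6156) (cond (Nat.blt (Nat.shiftRight e 13) 24480)
     (Nat.beq (gc T z) (mu (ut (Nat.land e 8191))
        (mu (vt (Nat.div (Nat.shiftRight e 13) 288)) (wt (Nat.mod (Nat.shiftRight e 13) 288))))) false) false) false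

theorem gchk_a : allLt 9 (gchk gaT gaF) = true := by decide +kernel
theorem gchk_e : allLt 9 (gchk geT geF) = true := by decide +kernel
theorem gchk_d : allLt 9 (gchk gdT gdF) = true := by decide +kernel
theorem gchk_b : allLt 9 (gchk gbT gbF) = true := by decide +kernel
theorem gchk_c : allLt 9 (gchk gcT gcF) = true := by decide +kernel

theorem gen_a : ∀ Z : Spor.F9, Spor.j3A K4 om Z = dc (gc gaT (xn Z)) := by decide +kernel
theorem gen_e : ∀ Z : Spor.F9, Spor.j3E K4 om Z = dc (gc geT (xn Z)) := by decide +kernel
theorem gen_d : ∀ Z : Spor.F9, Spor.j3D K4 om Z = dc (gc gdT (xn Z)) := by decide +kernel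
theorem gen_b : ∀ Z : Spor.F9, Z ≠ 0 → Spor.j3B K4 Z = dc (gc gbT (xn Z)) := by decide +kernel
theorem gen_c : ∀ Z : Spor.F9, Z ≠ 0 → Spor.j3C K4 Z = dc (gc gcT (xn Z)) := by decide +kernel

theorem inH_of_gchk {T F : ℕ} (h : allLt 9 (gchk T F) = true) {z : ℕ} (hz : z < 9) : ok (gc T z) = true ∧ InH (gc T z) := by
  have h1 := (allLt_iff.1 h) z hz
  rw [gchk, cond_and, force_eq, cond_and, cond_and] at h1
  obtain ⟨h0, h1, h2, h3⟩ := h1
  refine ⟨h0, ?_⟩
  rw [Nat.eq_of_beq_eq_true h3]
  exact inH_uvw (Nat.le_of_ble_eq_true h1) (Nat.div_lt_of_lt_mul (Nat.le_of_ble_eq_true h2)) (Nat.mod_lt _ (by norm_num))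

theorem mem_of_inH {g : GLM} (h : InH (cd g)) : g ∈ H := by
  obtain ⟨k, hk, hk2⟩ := h
  rwa [cd_inj hk2] at hk

theorem gens_mem {g : GLM} (hg : (g : Matrix Spor.F9 Spor.F9 K4) ∈ Spor.j3Gens K4 om) : g ∈ H := by
  have key : ∀ {T F : ℕ} (_ : allLt 9 (gchk T F) = true) (Z : Spor.F9),
      (g : Matrix Spor.F9 Spor.F9 K4) = dc (gc T (xn Z)) → g ∈ H := by
    intro T F h Z hZ
    apply mem_of_inH
    have h1 := inH_of_gchk h (xn_lt Z)
    rw [cd, hZ, cdm_dc h1.1]
    exact h1.2
  rcases hg with (((⟨Z, hZ⟩ | ⟨Z, hZ⟩) | ⟨Z, hZ⟩) | ⟨Z, hZ0, hZ⟩) | ⟨Z, hZ0, hZ⟩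
  · exact key gchk_a Z (by rw [← hZ, gen_a])
  · exact key gchk_e Z (by rw [← hZ, gen_e])
  · exact key gchk_d Z (by rw [← hZ, gen_d])
  · exact key gchk_b Z (by rw [hZ, gen_b Z hZ0])
  · exact key gchk_c Z (by rw [hZ, gen_c Z hZ0])

/-- the four generators whose products are `x` and `y` -/
def Ec : ℕ := 568209822060729770396223463969736970958137516997922542951185910964804662659388160125433638614677705258487440747919777010865806500731037096883236750973048170321234695840420608109060203083510286167499009762182713892824643452006907848499141555775431460472977855331137185888053452663803774164582382007822838543239309148636390323730786077006770311830494976705298432001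
def Dc : ℕ := 16814921344126709587956423531301401839433520259595403805712416376419310034364368547918753212025849875526633591279847465523147709318233998379116253734724161110613785963149084643493600225951874057496730323783463097339264535377604486885308335481789774327036340120816915470191953145668143904256630009438297266128047198826806440186539365111652031449346709695496192
def Cc : ℕ := 17219004922677754592676651601096355222708210994774856682035708995845704552730169152823982399919136520899810154061227853065530161869396588964222308025715752479995125158164139437108158451897014511946965885671068212298256076601223662287275936140634650495802866011043356667361506455853433338634369555824199599943161356866244069619403389501735842663131625383362822145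
def Ac : ℕ := 568209822060729770396223463969736970958137516985858428541065029267120413573072688771333133849146606251604248427235999003286115080640816226690430288088085643062177353375263227798143152297817682332472232549852315292603310856527190923674937226452066808896001897774034294808621004711115198884962775901955520520472355525343560132272204114103389816757269267292016869377
def eU : GLM := mkU Ec 550991342604344019778156086273684335474557592240409738619331792450719672881830943151935649582397360019778483640602007292754032690999830490237271486188384207212738452299615554935874927934418320237010275920523050624485759162030733299109132855880682107395378594264866952444012120568465284771491904968927965658731529464753191946505483756334213275953258074375979008001 (by decide +kernel) (by decide +kernel) (by decide +kernel)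
def dU : GLM := mkU Dc 16035958618284902179676459819140511506386796512659045502858415017887101715000836773261857873706774654150967503161093593029980178031544881083921040092804629417976834632344216467528454624950519931696490618166117283696820008010805662453351907753250398386752702861711660474625682218786420307043932789432197547179635198340412200351068177727083255045594054656 (by decide +kernel) (by decide +kernel) (by decide +kernel)
def cU : GLM := mkU Cc 17219004922677754592676651601096355222708210994774856682035708995845704552730169152823982399919136520899810154061227853065530161869396588964222308025715752479995125158164139437108158451897014511946965885671068212298256076601223662287275936140634650495802866011043356667361506455853433338634369555824199599943161356866244069619403389501735842663131625383362822145 (by decide +kernel) (by decide +kernel) (by decide +kernel)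
def aU : GLM := mkU Ac 550991342604344019778156086273684335474557592252473853029452674148403921968146414506036153815407571641911107638127282104484984740091946716019583644088952035584502017586114585034198043961665526240246899929667740911300751778803245512031524401624534805718989303682187883819181546532110343072491218497312796023607763849691920970338679606620046392732343519258947354625 (by decide +kernel) (by decide +kernel) (by decide +kernel)

theorem eU_mem : eU ∈ Spor.threeJ3 K4 om := by
  refine Subgroup.subset_closure (Or.inl (Or.inl (Or.inl (Or.inr ⟨(0, 0), ?_⟩))))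
  show _ = dc Ec
  decide +kernel
theorem dU_mem : dU ∈ Spor.threeJ3 K4 om := by
  refine Subgroup.subset_closure (Or.inl (Or.inl (Or.inr ⟨(0, 1), ?_⟩)))
  show _ = dc Dc
  decide +kernel
theorem cU_mem : cU ∈ Spor.threeJ3 K4 om := by
  refine Subgroup.subset_closure (Or.inr ⟨(1, 0), by decide, ?_⟩)
  show dc Cc = _
  decide +kernel
theorem aU_mem : aU ∈ Spor.threeJ3 K4 om := by
  refine Subgroup.subset_closure (Or.inl (Or.inl (Or.inl (Or.inl ⟨(0, 1), ?_⟩))))
  show _ = dc Ac
  decide +kernel

theorem x_eq : xG = eU * (dU * cU) := by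
  apply cd_inj
  rw [cd_mul, cd_mul, cd_x, eU, dU, cU, cd_mkU, cd_mkU, cd_mkU]
  decide +kernel

theorem y_eq : yG * aU = aU * xG := by
  apply cd_inj
  rw [cd_mul, cd_mul, cd_x, cd_y, aU, cd_mkU]
  decide +kernel

theorem H_eq : Spor.threeJ3 K4 om = H := by
  apply le_antisymm
  · rw [Spor.threeJ3, Subgroup.closure_le]
    intro g hg
    exact gens_mem hg
  · have hx : xG ∈ Spor.threeJ3 K4 om := by
      rw [x_eq]
      exact mul_mem eU_mem (mul_mem dU_mem cU_mem)
    rw [H, Subgroup.closure_le]
    rintro g (rfl | hg)
    · exact hx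
    · rw [Set.mem_singleton_iff] at hg
      subst hg
      have : yG = aU * xG * aU⁻¹ := by rw [← y_eq]; group
      rw [this]
      exact mul_mem (mul_mem aU_mem hx) (inv_mem aU_mem)

end Cfsg.Agent.Lib.JThree
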