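import Cfsg.Agent.Lib.JThreePerm
import Cfsg.Agent.Lib.JThreeCentTab
import Cfsg.Agent.Lib.SmallSimple
import Cfsg.Agent.Lib.Pres235

/-!
Involutions of `3·J₃` and their centralizers.
-/

set_option autoImplicit false
set_option exponentiation.threshold 2000

namespace Cfsg.Agent.Lib.JThree

open Cfsg Cfsg.Agent.Lib.K4 Cfsg.Agent.Lib.F4Pack Cfsg.Agent.Lib.NatTree
open Cfsg.Agent.Lib.Golay (allLt allLt_iff)

theorem u_inj {i j : Fin 6156} (h : ((uW i : W) : W ⧸ BW) = ((uW j : W) : W ⧸ BW)) : i = j := by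
  have hs : Function.Surjective (fun i : Fin 6156 => ((uW i : W) : W ⧸ BW)) := by
    intro q
    obtain ⟨g, rfl⟩ := QuotientGroup.mk_surjective q
    obtain ⟨i, b, hb, h⟩ := exists_u g
    refine ⟨i, ?_⟩
    show ((uW i : W) : W ⧸ BW) = (g : W ⧸ BW)
    rw [QuotientGroup.eq, h, ← mul_assoc, inv_mul_cancel, one_mul]
    exact hb
  have hb : Function.Bijective (fun i : Fin 6156 => ((uW i : W) : W ⧸ BW)) := by
    refine (Nat.bijective_iff_surjective_and_card _).2 ⟨hs, ?_⟩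
    rw [Nat.card_eq_fintype_card, Fintype.card_fin]
    exact card_index.2.symm
  exact hb.1 h

/-- group elements with a given code -/
theorem exists_W {c : ℕ} (h : InH c) : ∃ g : W, cd g.1 = c := by
  obtain ⟨g, hg, h⟩ := h
  exact ⟨⟨g, hg⟩, h⟩

theorem W_ext {a b : W} (h : cd a.1 = cd b.1) : a = b := Subtype.ext (cd_inj h)

theorem cdW_mul (a b : W) : cd (a * b).1 = mu (cd a.1) (cd b.1) := by rw [Subgroup.coe_mul, cd_mul]

theorem cdW_one : cd (1 : W).1 = Ic := by rw [Subgroup.coe_one, cd_one]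

theorem S1_InH {c : ℕ} (h : InS1 c) : InH c := by
  obtain ⟨j, hj, k, hk, rfl⟩ := h
  exact inH_mul (inH_v j hj) (inH_w k hk)

theorem t0_eq' : wt 13 = T0c := Nat.eq_of_beq_eq_true t0_eq
theorem inH_t0 : InH T0c := by rw [← t0_eq']; exact inH_w 13 (by norm_num)

/-- the involution -/
noncomputable def tW : W := (exists_W inH_t0).choose
theorem cd_tW : cd tW.1 = T0c := (exists_W inH_t0).choose_spec

theorem tW_mem : tW ∈ BW := by
  rw [mem_BW, cd_tW, ← t0_eq']
  exact ⟨0, by norm_num, 13, by norm_num, by rw [v_zero, mu_Ic_left (good_w (by norm_num))]⟩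

theorem tW_sq : tW * tW = 1 := by
  apply W_ext
  rw [cdW_mul, cd_tW, cdW_one]
  have h := t0_sq
  cases e : Nat.beq T0c Ic with
  | true => rw [e] at h; exact absurd (show false = true from h) (by decide)
  | false => rw [e, cond_false] at h; exact Nat.eq_of_beq_eq_true h

theorem tW_ne : tW ≠ 1 := by
  intro h1
  have h := t0_sq
  rw [← cd_tW, h1, cdW_one, Nat.beq_refl] at h
  exact absurd (show false = true from h) (by decide)

theorem good_tb {n : ℕ} (h : n < 68) : Good (tb n) := good_of_ok ((allLt_iff.1 tb_ok) n h)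

/-! ### the class in the subgroup -/

/-- conjugation preserves the list -/
def Cl (c : ℕ) : Prop := Good c ∧ ∀ n < 68, ∃ m < 68, mu c (tb n) = mu (tb m) c

theorem Cl_mul {a b : ℕ} (ha : Cl a) (hb : Cl b) : Cl (mu a b) := by
  refine ⟨good_mu ha.1 hb.1, fun n hn => ?_⟩
  obtain ⟨m, hm, h1⟩ := hb.2 n hn
  obtain ⟨k, hk, h2⟩ := ha.2 m hm
  refine ⟨k, hk, ?_⟩
  rw [mu_assoc ha.1 hb.1 (good_tb hn), h1, ← mu_assoc ha.1 (good_tb hm) hb.1, h2,
    mu_assoc (good_tb hk) ha.1 hb.1]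

theorem Cl_I : Cl Ic := ⟨good_I, fun n hn => ⟨n, hn, by rw [mu_Ic_left (good_tb hn), mu_Ic_right (good_tb hn)]⟩⟩

theorem stepC_spec {g T : ℕ} (h : allLt 68 (stepC g T) = true) {n : ℕ} (hn : n < 68) :
    fg T n < 68 ∧ mu g (tb n) = mu (tb (fg T n)) g := by
  have h1 := (allLt_iff.1 h) n hn
  rw [stepC, force_eq, cond_and] at h1
  exact ⟨Nat.le_of_ble_eq_true h1.1, Nat.eq_of_beq_eq_true h1.2⟩

theorem Cl_of_step {g T : ℕ} (hg : Good g) (h : allLt 68 (stepC g T) = true) : Cl g :=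
  ⟨hg, fun _ hn => ⟨_, stepC_spec h hn⟩⟩

theorem Cl_h1 : Cl H1c := Cl_of_step (good_of_ok H1c_ok) stepC1
theorem Cl_h2 : Cl H2c := Cl_of_step (good_of_ok H2c_ok) stepC2
theorem Cl_w1 : Cl (wt 1) := Cl_of_step (good_w (by norm_num)) stepC3
theorem Cl_w2 : Cl (wt 2) := Cl_of_step (good_w (by norm_num)) stepC4

theorem Cl_w : ∀ k < 288, Cl (wt k) := w_ind Cl_I (fun _ _ h => Cl_mul Cl_w1 h) (fun _ _ h => Cl_mul Cl_w2 h)
theorem Cl_v : ∀ j < 85, Cl (vt j) := v_ind Cl_I (fun _ _ h => Cl_mul Cl_h1 h) (fun _ _ h => Cl_mul Cl_h2 h)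

theorem Cl_S1 {c : ℕ} (h : InS1 c) : Cl c := by
  obtain ⟨j, hj, k, hk, rfl⟩ := h
  exact Cl_mul (Cl_v j hj) (Cl_w k hk)

theorem tb_zero' : tb 0 = T0c := Nat.eq_of_beq_eq_true tb_zero

/-- conjugates of the involution under the subgroup are in the list -/
theorem conj_in {b : W} (hb : b ∈ BW) : ∃ n < 68, cd (b * tW * b⁻¹).1 = tb n := by
  obtain ⟨n, hn, h⟩ := (Cl_S1 (mem_BW.1 hb)).2 0 (by norm_num)
  refine ⟨n, hn, ?_⟩
  rw [tb_zero', ← cd_tW, ← cdW_mul] at h
  have hin : InH (tb n) := by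
    have h1 : InH (mu (tb n) (cd b.1)) := by rw [← h]; exact ⟨_, (b * tW).2, rfl⟩
    obtain ⟨g, hg, hg2⟩ := h1
    obtain ⟨m, hm⟩ := inv_pow_fin b
    refine ⟨g * (b⁻¹).1, mul_mem hg (b⁻¹).2, ?_⟩
    rw [cd_mul, hg2, mu_assoc (good_tb hn) (good_cd _) (good_cd _), ← cd_mul, ← Subgroup.coe_mul, mul_inv_cancel,
      Subgroup.coe_one, cd_one, mu_Ic_right (good_tb hn)]
  obtain ⟨s, hs⟩ := exists_W hin
  have h2 : b * tW = s * b := by
    apply W_ext
    rw [h, cdW_mul, hs]
  rw [h2, mul_inv_cancel_right, hs]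

theorem tb_inj {a b : ℕ} (ha : a < 68) (hb : b < 68) (h : tb a = tb b) : a = b :=
  inj_of_sort 68 tb (fg soT) (fun i hi => Nat.le_of_ble_eq_true ((allLt_iff.1 so_lt) i hi))
    (fun i hi => Nat.le_of_ble_eq_true ((allLt_iff.1 so_ok) i (by omega))) ha hb h

theorem step_conj {g T c : ℕ} (hg : InH g) (hgB : InS1 g) (h : allLt 68 (stepC g T) = true) {n : ℕ} (hn : n < 68)
    (hc : ∃ b ∈ BW, cd (b * tW * b⁻¹).1 = tb n) (he : fg T n = c) : ∃ b ∈ BW, cd (b * tW * b⁻¹).1 = tb c := by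
  obtain ⟨b, hb, hb2⟩ := hc
  obtain ⟨x, hx⟩ := exists_W hg
  refine ⟨x * b, mul_mem (mem_BW.2 (by rw [hx]; exact hgB)) hb, ?_⟩
  obtain ⟨h1, h2⟩ := stepC_spec h hn
  have e : x * b * tW * (x * b)⁻¹ = x * (b * tW * b⁻¹) * x⁻¹ := by group
  rw [e, cdW_mul, cdW_mul, hb2, hx, h2, he, mu_assoc (good_tb (he ▸ h1)) (good_inH hg) (good_cd _), ← hx, ← cdW_mul,
    mul_inv_cancel, cdW_one, mu_Ic_right (good_tb (he ▸ h1))]

theorem S1_w {k : ℕ} (hk : k < 288) : InS1 (wt k) := ⟨0, by norm_num, k, hk, by rw [v_zero, mu_Ic_left (good_w hk)]⟩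
theorem S1_h1 : InS1 H1c := by
  have := (LP_h1).2 _ one_S1
  rwa [mu_Ic_right (good_of_ok H1c_ok)] at this
theorem S1_h2 : InS1 H2c := by
  have := (LP_h2).2 _ one_S1
  rwa [mu_Ic_right (good_of_ok H2c_ok)] at this

theorem all_conj : ∀ n < 68, ∃ b ∈ BW, cd (b * tW * b⁻¹).1 = tb n := by
  intro a
  induction a using Nat.strong_induction_on with
  | _ a ih =>
    intro ha
    have h := (allLt_iff.1 pc_ok) a ha
    cases e0 : Nat.beq a 0 with
    | true =>
      rw [Nat.eq_of_beq_eq_true e0]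
      exact ⟨1, one_mem _, by rw [one_mul, inv_one, mul_one, cd_tW, tb_zero']⟩
    | false =>
      rw [e0, cond_false, force_eq, cond_and] at h
      obtain ⟨h3, h4⟩ := h
      have h5 : Nat.shiftRight (pcg a) 2 < a := Nat.le_of_ble_eq_true h3
      have h6 := Nat.eq_of_beq_eq_true h4
      have h7 := ih _ h5 (h5.trans ha)
      cases e1 : Nat.beq (Nat.land (pcg a) 3) 0 with
      | true =>
        rw [e1, cond_true] at h6
        exact step_conj inH_h1 S1_h1 stepC1 (h5.trans ha) h7 h6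
      | false =>
        rw [e1, cond_false] at h6
        cases e2 : Nat.beq (Nat.land (pcg a) 3) 1 with
        | true =>
          rw [e2, cond_true] at h6
          exact step_conj inH_h2 S1_h2 stepC2 (h5.trans ha) h7 h6
        | false =>
          rw [e2, cond_false] at h6
          cases e3 : Nat.beq (Nat.land (pcg a) 3) 2 with
          | true =>
            rw [e3, cond_true] at h6
            exact step_conj (inH_w 1 (by norm_num)) (S1_w (by norm_num)) stepC3 (h5.trans ha) h7 h6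
          | false =>
            rw [e3, cond_false] at h6
            exact step_conj (inH_w 2 (by norm_num)) (S1_w (by norm_num)) stepC4 (h5.trans ha) h7 h6

/-- the centralizer -/
noncomputable abbrev CW : Subgroup W := Subgroup.centralizer ({tW} : Set W)

theorem mem_CW {w : W} : w ∈ CW ↔ w * tW = tW * w := Subgroup.mem_centralizer_singleton_iff

/-- the involution in the subgroup -/
noncomputable def tB : BW := ⟨tW, tW_mem⟩

theorem card_centB : Nat.card (Subgroup.centralizer ({tB} : Set BW)) ≤ 360 := by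
  have h1 := Cfsg.Agent.Lib.SmallSimple.card_isConj_mul_card_centralizer tB
  rw [card_index.1] at h1
  have h2 : 68 ≤ Nat.card {g : BW // IsConj tB g} := by
    choose F hF using fun n : Fin 68 => all_conj n n.2
    let bb : Fin 68 → BW := fun n => ⟨F n, (hF n).1⟩
    have hbb : ∀ n, IsConj tB (bb n * tB * (bb n)⁻¹) := fun n => isConj_iff.2 ⟨bb n, rfl⟩
    have hval : ∀ n, (bb n * tB * (bb n)⁻¹).1 = F n * tW * (F n)⁻¹ := fun n => rfl
    let K : Fin 68 → {g : BW // IsConj tB g} := fun n => ⟨bb n * tB * (bb n)⁻¹, hbb n⟩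
    have hK : Function.Injective K := by
      intro a b hab
      have h2' : bb a * tB * (bb a)⁻¹ = bb b * tB * (bb b)⁻¹ := congrArg Subtype.val hab
      have h3 : F a * tW * (F a)⁻¹ = F b * tW * (F b)⁻¹ := by
        rw [← hval, ← hval, h2']
      have h4 := congrArg (fun w : W => cd w.1) h3
      have h5 : tb a = tb b := ((hF a).2.symm.trans h4).trans (hF b).2
      exact Fin.ext (tb_inj a.2 b.2 h5)
    have := Nat.card_le_card_of_injective K hK
    rwa [Nat.card_eq_fintype_card (α := Fin 68), Fintype.card_fin] at this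
  by_contra h3
  have h4 : 361 ≤ Nat.card (Subgroup.centralizer ({tB} : Set BW)) := by omega
  have := Nat.mul_le_mul h2 h4
  omega

/-- the part of the centralizer in the subgroup -/
noncomputable def DW : Subgroup W := CW ⊓ BW

theorem card_DW : Nat.card DW ≤ 360 := by
  refine le_trans ?_ card_centB
  let f : DW → Subgroup.centralizer ({tB} : Set BW) := fun d =>
    ⟨⟨d.1, d.2.2⟩, Subgroup.mem_centralizer_singleton_iff.2 (Subtype.ext (mem_CW.1 d.2.1))⟩
  apply Nat.card_le_card_of_injective f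
  intro a b hab
  apply Subtype.ext
  exact congrArg (fun w => w.1.1) hab

theorem step_u' {g i e : ℕ} (h : step g i e = true) : Nat.land e 8191 < 6156 ∧
    InS1 (mu (vt (Nat.div (Nat.shiftRight e 13) 288)) (wt (Nat.mod (Nat.shiftRight e 13) 288))) ∧
    mu g (ut i) = mu (ut (Nat.land e 8191))
      (mu (vt (Nat.div (Nat.shiftRight e 13) 288)) (wt (Nat.mod (Nat.shiftRight e 13) 288))) := by
  rw [step, cond_and, cond_and] at h
  obtain ⟨h1, h2, h3⟩ := h
  have h1' : Nat.land e 8191 < 6156 := Nat.le_of_ble_eq_true h1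
  have h2' : Nat.shiftRight e 13 < 24480 := Nat.le_of_ble_eq_true h2
  refine ⟨h1', ⟨_, Nat.div_lt_of_lt_mul h2', _, Nat.mod_lt _ (by norm_num), rfl⟩, ?_⟩
  cases e0 : Nat.beq (Nat.shiftRight e 13) 0 with
  | true =>
    rw [e0, cond_true] at h3
    have e1 := Nat.eq_of_beq_eq_true e0
    rw [e1, Nat.eq_of_beq_eq_true h3]
    have e2 : Nat.div 0 288 = 0 := by decide
    have e3 : Nat.mod 0 288 = 0 := by decide
    rw [e2, e3, v_zero, w_zero, mu_Ic_left good_I, mu_Ic_right (good_u h1')]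
  | false =>
    rw [e0, cond_false] at h3
    exact Nat.eq_of_beq_eq_true h3

theorem i16_of {c : W} (hc : c ∈ CW) {i : Fin 6156} {b : W} (hb : b ∈ BW) (h : c = uW i * b) :
    ∃ n : Fin 16, i16 n = i := by
  have h1 := (allLt_iff.1 stepT) i i.2
  rw [force_eq] at h1
  obtain ⟨h2, h3, h4⟩ := step_u' h1
  obtain ⟨s, hs⟩ := exists_W (S1_InH h3)
  have hsB : s ∈ BW := by rw [mem_BW, hs]; exact h3
  have h5 : tW * uW i = uW ⟨_, h2⟩ * s := by
    apply W_ext
    rw [cdW_mul, cdW_mul, cd_tW, cd_uW, cd_uW, hs]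
    exact h4
  have h6 : tW * uW i = uW i * (b * tW * b⁻¹) := by
    have h7 := mem_CW.1 hc
    rw [h] at h7
    calc tW * uW i = tW * (uW i * b) * b⁻¹ := by group
      _ = uW i * b * tW * b⁻¹ := by rw [h7]
      _ = _ := by group
  have h8 : (⟨_, h2⟩ : Fin 6156) = i := by
    apply u_inj
    rw [QuotientGroup.eq]
    have h9 : (uW ⟨_, h2⟩)⁻¹ * uW i = s * (b * tW * b⁻¹)⁻¹ := by
      rw [inv_mul_eq_iff_eq_mul, ← mul_assoc, ← h5, h6, mul_inv_cancel_right]
    rw [h9]
    exact mul_mem hsB (inv_mem (mul_mem (mul_mem hb tW_mem) (inv_mem hb)))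
  have h9 : s = b * tW * b⁻¹ := by
    rw [h8, h6] at h5
    exact (mul_left_cancel h5).symm
  have h10 := (allLt_iff.1 fixT) i i.2
  have h11 : Nat.land (at0 i) 8191 = i := congrArg Fin.val h8
  rw [force_eq, h11, Nat.beq_refl, cond_true] at h10
  by_contra hcon
  have h12 : allLt 16 (fun n => cond (Nat.beq (i16 n) i) false true) = true := by
    rw [allLt_iff]
    intro n hn
    cases e : Nat.beq (i16 n) i with
    | true => exact absurd ⟨⟨n, hn⟩, Nat.eq_of_beq_eq_true e⟩ hcon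
    | false => rfl
  rw [h12, cond_true, force_eq] at h10
  obtain ⟨n, hn, hn2⟩ := conj_in hb
  have h13 := (allLt_iff.1 h10) n hn
  rw [← hn2, ← h9, hs, Nat.beq_refl] at h13
  exact absurd (show false = true from h13) (by decide)

theorem card_CW : Nat.card CW ≤ 5760 := by
  have hS : ∀ c : CW, ∃ n : Fin 16, ∃ i : Fin 6156, ∃ b ∈ BW, c.1 = uW i * b ∧ i16 n = i := by
    intro c
    obtain ⟨i, b, hb, h⟩ := exists_u c.1
    obtain ⟨n, hn⟩ := i16_of c.2 hb h
    exact ⟨n, i, b, hb, h, hn⟩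
  choose F I B hB hI hF using hS
  have hrel : (DW.subgroupOf CW).index ≤ 16 := by
    have hsurj : ∀ q : CW ⧸ DW.subgroupOf CW, ∃ c : CW, (c : CW ⧸ DW.subgroupOf CW) = q := QuotientGroup.mk_surjective
    choose R hR using hsurj
    have hinj : Function.Injective (fun q => F (R q)) := by
      intro a b hab
      rw [← hR a, ← hR b, QuotientGroup.eq, Subgroup.mem_subgroupOf]
      refine Subgroup.mem_inf.2 ⟨((R a)⁻¹ * R b).2, ?_⟩
      have h1 : I (R a) = I (R b) := by
        have h2 : F (R a) = F (R b) := hab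
        exact Fin.ext ((hF (R a)).symm.trans (h2 ▸ hF (R b)))
      have h2 : (((R a)⁻¹ * R b : CW) : W) = (B (R a))⁻¹ * B (R b) := by
        rw [Subgroup.coe_mul, Subgroup.coe_inv, hI (R a), hI (R b), h1]; group
      rw [h2]
      exact mul_mem (inv_mem (hB _)) (hB _)
    have := Nat.card_le_card_of_injective _ hinj
    rwa [Nat.card_eq_fintype_card (α := Fin 16), Fintype.card_fin] at this
  have h1 := (DW.subgroupOf CW).card_mul_index
  have h2 : Nat.card (DW.subgroupOf CW) = Nat.card DW :=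
    Nat.card_congr (Subgroup.subgroupOfEquivOfLe inf_le_left).toEquiv
  rw [h2] at h1
  rw [← h1]
  exact Nat.mul_le_mul card_DW hrel

/-! ### one class of involutions -/

theorem conj_K2 {n : W} (hn : n.1 ∈ K2) (h1 : n ≠ 1) (h2 : n * n = 1) : IsConj n tW := by
  obtain ⟨i, hi, hi2⟩ := K2_spec.1 _ hn
  have h := (allLt_iff.1 cj_ok) i hi
  rw [force_eq, ← hi2] at h
  have e1 : Nat.beq (cd n.1) Ic = false := by
    rw [Bool.eq_false_iff]; intro e
    exact h1 (W_ext ((Nat.eq_of_beq_eq_true e).trans cdW_one.symm))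
  have e2 : Nat.beq (mu (cd n.1) (cd n.1)) Ic = true := by
    rw [← cdW_mul, h2, cdW_one, Nat.beq_refl]
  rw [e1, e2, cond_false, cond_true, force_eq, cond_and, cond_and, cond_and, force_eq] at h
  obtain ⟨a1, a2, a3, a4⟩ := h
  obtain ⟨g, hg⟩ := exists_W (inH_uvw (Nat.le_of_ble_eq_true a1) (Nat.le_of_ble_eq_true a2) (Nat.le_of_ble_eq_true a3))
  rw [← hg, ← cd_tW, ← cdW_mul, ← cdW_mul] at a4
  have h5 := W_ext (Nat.eq_of_beq_eq_true a4)
  exact isConj_iff.2 ⟨g, by rw [h5, mul_inv_cancel_right]⟩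

theorem conj_tW {n : W} (h1 : n ≠ 1) (h2 : n * n = 1) : IsConj n tW := by
  have f2 : Fact (Nat.Prime 2) := ⟨Nat.prime_two⟩
  have ho : orderOf n = 2 := orderOf_eq_prime (by rw [pow_two, h2]) h1
  have hP : IsPGroup 2 (Subgroup.zpowers n) := by
    apply IsPGroup.of_card (n := 1)
    rw [Nat.card_zpowers, ho, pow_one]
  obtain ⟨P, hP'⟩ := hP.exists_le_sylow
  obtain ⟨u, hu⟩ := MulAction.exists_smul_eq W P syl2
  have h4 : u * n * u⁻¹ ∈ (syl2 : Subgroup W) := by
    rw [← hu]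
    exact ⟨n, hP' (Subgroup.mem_zpowers _), rfl⟩
  have h5 : u * n * u⁻¹ ≠ 1 := by
    intro h
    apply h1
    have : n = u⁻¹ * (u * n * u⁻¹) * u := by group
    rw [this, h]; group
  have h6 : u * n * u⁻¹ * (u * n * u⁻¹) = 1 := by
    have : u * n * u⁻¹ * (u * n * u⁻¹) = u * (n * n) * u⁻¹ := by group
    rw [this, h2]; group
  exact (isConj_iff.2 ⟨u, rfl⟩).trans (conj_K2 (mem_syl2.1 h4) h5 h6)

end Cfsg.Agent.Lib.JThree
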