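import Cfsg.Agent.Lib.JThreeCentStr

/-!
The centralizer of an involution in the quotient of `3·J₃` by its centre.
-/

set_option autoImplicit false
set_option exponentiation.threshold 2000

namespace Cfsg.Agent.Lib.JThree

open Cfsg Cfsg.Agent.Lib.LargeExtra

variable {G : Type*} [Group G] (ψ : W →* G)

section
variable (hk : ψ.ker = Subgroup.center W)
include hk

theorem ker_cube {w : W} (h : w ∈ ψ.ker) : w ^ 3 = 1 := by
  rw [hk] at h
  have h1 := orderOf_dvd_natCard (⟨w, h⟩ : Subgroup.center W)
  rw [card_center, Subgroup.orderOf_mk] at h1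
  exact orderOf_dvd_iff_pow_eq_one.1 h1

theorem ker_comm {w : W} (h : w ∈ ψ.ker) (g : W) : g * w = w * g := by
  rw [hk] at h
  exact Subgroup.mem_center_iff.1 h g

theorem psi_t_ne : ψ tW ≠ 1 := by
  intro h
  have h1 := ker_cube ψ hk (MonoidHom.mem_ker.2 h)
  apply tW_ne
  rw [← h1, pow_succ, pow_two, tW_sq, one_mul]

theorem psi_t_order : orderOf (ψ tW) = 2 :=
  orderOf_eq_prime (by rw [pow_two, ← map_mul, tW_sq, map_one]) (psi_t_ne ψ hk)

/-- involutions lift -/
theorem exists_lift (hs : Function.Surjective ψ) {x : G} (hx : x * x = 1) : ∃ w : W, w * w = 1 ∧ ψ w = x := by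
  obtain ⟨w, rfl⟩ := hs x
  have h1 : w * w ∈ ψ.ker := by rw [MonoidHom.mem_ker, map_mul, hx]
  have h2 := ker_cube ψ hk h1
  refine ⟨w ^ 3, ?_, ?_⟩
  · have : w ^ 3 * w ^ 3 = (w * w) ^ 3 := by
      rw [← pow_two w, ← pow_mul, ← pow_add]
    rw [this, h2]
  · rw [map_pow, pow_succ, pow_two, hx, one_mul]

theorem psi_conj (hs : Function.Surjective ψ) {x : G} (hx : orderOf x = 2) : IsConj x (ψ tW) := by
  have h1 : x * x = 1 := by rw [← pow_two, ← hx]; exact pow_orderOf_eq_one x
  obtain ⟨w, hw, rfl⟩ := exists_lift ψ hk hs h1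
  have h2 : w ≠ 1 := by
    intro h
    rw [h, map_one, orderOf_one] at hx
    omega
  obtain ⟨c, hc⟩ := isConj_iff.1 (conj_tW h2 hw)
  exact isConj_iff.2 ⟨ψ c, by rw [← map_inv, ← map_mul, ← map_mul, hc]⟩

theorem psi_cent (hs : Function.Surjective ψ) : Subgroup.centralizer ({ψ tW} : Set G) = CW.map ψ := by
  ext g
  constructor
  · intro hg
    obtain ⟨w, rfl⟩ := hs g
    have h1 : ψ w * ψ tW = ψ tW * ψ w := Subgroup.mem_centralizer_singleton_iff.1 hg
    refine ⟨w, ?_, rfl⟩
    have h2 : (w * tW) * (tW * w)⁻¹ ∈ ψ.ker := by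
      rw [MonoidHom.mem_ker, map_mul, map_inv, map_mul, map_mul, h1, mul_inv_cancel]
    set z := (w * tW) * (tW * w)⁻¹ with hz
    have h3 : w * tW * w⁻¹ = z * tW := by rw [hz]; group
    have h4 := ker_comm ψ hk h2
    have h5 := ker_cube ψ hk h2
    have h6 : z * z = 1 := by
      have e1 : (w * tW * w⁻¹) * (w * tW * w⁻¹) = 1 := by
        have : (w * tW * w⁻¹) * (w * tW * w⁻¹) = w * (tW * tW) * w⁻¹ := by group
        rw [this, tW_sq]; group
      rw [h3] at e1
      have e2 : z * tW * (z * tW) = z * z * (tW * tW) := by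
        calc z * tW * (z * tW) = z * (tW * z) * tW := by group
          _ = z * (z * tW) * tW := by rw [h4]
          _ = _ := by group
      rw [e2, tW_sq, mul_one] at e1
      exact e1
    have h7 : z = 1 := by
      rw [pow_succ, pow_two, h6, one_mul] at h5
      exact h5
    rw [hz, mul_inv_eq_one] at h7
    exact mem_CW.2 h7
  · rintro ⟨w, hw, rfl⟩
    rw [Subgroup.mem_centralizer_singleton_iff, ← map_mul, ← map_mul, mem_CW.1 hw]

theorem card_psi_cent (hs : Function.Surjective ψ) : Nat.card (Subgroup.centralizer ({ψ tW} : Set G)) ≤ 1920 := by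
  rw [psi_cent ψ hk hs]
  let f : CW →* G := ψ.comp CW.subtype
  have h1 : f.range = CW.map ψ := by
    rw [MonoidHom.range_eq_map, ← Subgroup.map_map]
    rw [← MonoidHom.range_eq_map, Subgroup.range_subtype]
  have h2 := f.ker.card_mul_index
  rw [Subgroup.index_ker, h1] at h2
  have hcz : Nat.card ψ.ker = 3 := by rw [hk]; exact card_center
  have h3 : 3 ≤ Nat.card f.ker := by
    let k : ψ.ker → f.ker := fun z => ⟨⟨z.1, mem_CW.2 (ker_comm ψ hk z.2 tW).symm⟩, z.2⟩
    have hki : Function.Injective k := by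
      intro a b hab
      exact Subtype.ext (congrArg (fun w => w.1.1) hab)
    have h5 := Nat.card_le_card_of_injective k hki
    rw [hcz] at h5
    exact h5
  have h4 := card_CW
  by_contra h5
  have h6 : 1921 ≤ Nat.card (CW.map ψ) := by omega
  have := Nat.mul_le_mul h3 h6
  omega

theorem psi_inj {a b : W} (ha : a ∈ Q0) (hb : b ∈ Q0) (h : ψ a = ψ b) : a = b := by
  have h1 : a * b⁻¹ ∈ ψ.ker := by rw [MonoidHom.mem_ker, map_mul, map_inv, h, mul_inv_cancel]
  have h2 := ker_cube ψ hk h1
  have h3 : a * b⁻¹ ∈ Q0 := mul_mem ha (inv_mem hb)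
  have h4 : orderOf (a * b⁻¹) ∣ 32 := by
    rw [← card_Q0, ← Subgroup.orderOf_mk _ h3]
    exact orderOf_dvd_natCard _
  have h5 := orderOf_dvd_of_pow_eq_one h2
  have h6 : orderOf (a * b⁻¹) ∣ 1 := by
    have := Nat.dvd_gcd h4 h5
    rw [show Nat.gcd 32 3 = 1 by decide] at this
    exact this
  rw [Nat.dvd_one, orderOf_eq_one_iff, mul_inv_eq_one] at h6
  exact h6

/-- the data in the centralizer -/
theorem cent_struct (hs : Function.Surjective ψ) :
    ∃ (Q : Subgroup ↥(Subgroup.centralizer ({ψ tW} : Set G))) (_ : Q.Normal), Cfsg.IsExtraspecial 2 Q ∧ Nat.card Q = 32 ∧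
      (∀ E : Subgroup Q, Cfsg.IsElementaryAbelian 2 E → Nat.card E ≤ 2 ^ 2) ∧
      (∃ H : Subgroup ↥(Subgroup.centralizer ({ψ tW} : Set G)), Q.IsComplement' H) ∧
      Nonempty (↥(Subgroup.centralizer ({ψ tW} : Set G)) ⧸ Q ≃* ↥(alternatingGroup (Fin 5))) := by
  classical
  have hfin : Finite G := Finite.of_surjective ψ hs
  obtain ⟨f, hf, hf2⟩ := exists_f
  let C := Subgroup.centralizer ({ψ tW} : Set G)
  have hmem : ∀ {w : W}, w * tW = tW * w → ψ w ∈ C := by
    intro w hw
    rw [Subgroup.mem_centralizer_singleton_iff, ← map_mul, ← map_mul, hw]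
  -- the extraspecial subgroup
  let j : Q0 →* C :=
    { toFun := fun q => ⟨ψ q.1, hmem (Q0_comm_t q.2)⟩
      map_one' := Subtype.ext (map_one ψ)
      map_mul' := fun a b => Subtype.ext (map_mul ψ a.1 b.1) }
  have hj : Function.Injective j := by
    intro a b hab
    exact Subtype.ext (psi_inj ψ hk a.2 b.2 (congrArg Subtype.val hab))
  let Q : Subgroup C := j.range
  have hQ : Nat.card Q = 32 := by
    rw [← card_Q0]
    exact (Nat.card_congr (MonoidHom.ofInjective hj).toEquiv).symm
  let F : alternatingGroup (Fin 5) →* C :=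
    { toFun := fun x => ⟨ψ (f x), hmem (mem_CW.1 (hf2 x).2)⟩
      map_one' := Subtype.ext ((congrArg ψ (map_one f)).trans (map_one ψ))
      map_mul' := fun a b => Subtype.ext ((congrArg ψ (map_mul f a b)).trans (map_mul ψ _ _)) }
  have hs5 := alternatingGroup.isSimpleGroup (α := Fin 5) (by simp)
  have hc5 : Nat.card (alternatingGroup (Fin 5)) = 60 := by
    rw [Nat.card_eq_fintype_card]; rfl
  have hF : Function.Injective F := by
    rw [← MonoidHom.ker_eq_bot_iff]
    rcases IsSimpleGroup.eq_bot_or_eq_top_of_normal F.ker inferInstance with h | h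
    · exact h
    · exfalso
      have h1 : ∀ x, f x ∈ ψ.ker := by
        intro x
        have : x ∈ F.ker := by rw [h]; exact Subgroup.mem_top _
        exact congrArg Subtype.val (MonoidHom.mem_ker.1 this)
      have h2 : Function.Injective (fun x => (⟨f x, h1 x⟩ : ψ.ker)) := by
        intro a b hab
        exact hf (congrArg Subtype.val hab)
      have h3 := Nat.card_le_card_of_injective _ h2
      rw [hk, card_center, hc5] at h3
      omega
  have hnorm : ∀ x, ∀ q ∈ Q, F x * q * (F x)⁻¹ ∈ Q := by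
    rintro x _ ⟨q, rfl⟩
    have h1 : f x * q.1 * (f x)⁻¹ ∈ Q0 := (Subgroup.mem_normalizer_iff.1 (hf2 x).1 q.1).1 q.2
    refine ⟨⟨_, h1⟩, Subtype.ext ?_⟩
    show ψ (f x * q.1 * (f x)⁻¹) = ψ (f x) * ψ q.1 * (ψ (f x))⁻¹
    rw [map_mul, map_mul, map_inv]
  have hdisj : Disjoint Q F.range := by
    have hN : (Q.comap F).Normal := by
      constructor
      intro n hn g
      show F (g * n * g⁻¹) ∈ Q
      rw [map_mul, map_mul, map_inv]
      exact hnorm g _ hn
    rcases IsSimpleGroup.eq_bot_or_eq_top_of_normal (Q.comap F) hN with h | h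
    · rw [Subgroup.disjoint_def]
      rintro _ hx ⟨y, rfl⟩
      have h1 : y ∈ Q.comap F := hx
      rw [h, Subgroup.mem_bot] at h1
      rw [h1, map_one]
    · exfalso
      have h1 : ∀ x, F x ∈ Q := by
        intro x
        have : x ∈ Q.comap F := by rw [h]; exact Subgroup.mem_top _
        exact this
      have h2 : Function.Injective (fun x => (⟨F x, h1 x⟩ : Q)) := by
        intro a b hab
        exact hF (congrArg Subtype.val hab)
      have h3 := Nat.card_le_card_of_injective _ h2
      rw [hQ, hc5] at h3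
      omega
  have hcF : Nat.card F.range = 60 := by
    rw [← hc5]
    exact (Nat.card_congr (MonoidHom.ofInjective hF).toEquiv).symm
  have hcC : Nat.card C = 1920 := by
    apply le_antisymm (card_psi_cent ψ hk hs)
    have h1 := Nat.card_le_card_of_injective _ (Subgroup.mul_injective_of_disjoint hdisj)
    rw [Nat.card_prod, hQ, hcF] at h1
    exact h1
  have hcompl : Q.IsComplement' F.range :=
    Subgroup.isComplement'_of_card_mul_and_disjoint (by rw [hQ, hcF, hcC]) hdisj
  have hnormal : Q.Normal := by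
    constructor
    intro n hn g
    obtain ⟨⟨q, a⟩, hqa⟩ := hcompl.2 g
    have hqa' : (q : C) * (a : C) = g := hqa
    obtain ⟨y, hy⟩ := a.2
    rw [← hqa', mul_inv_rev]
    have e : (q : C) * (a : C) * n * ((a : C)⁻¹ * (q : C)⁻¹) = (q : C) * (F y * n * (F y)⁻¹) * (q : C)⁻¹ := by
      rw [hy]; group
    rw [e]
    exact mul_mem (mul_mem q.2 (hnorm y n hn)) (inv_mem q.2)
  -- elementwise data
  have tQ : (⟨ψ tW, hmem rfl⟩ : C) ∈ Q := ⟨⟨tW, t_mem_Q0⟩, rfl⟩
  have hjv : ∀ q : Q0, (j q : G) = ψ q.1 := fun q => rfl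
  have hex : ExData Q (⟨ψ tW, hmem rfl⟩ : C) := by
    apply ExData.of
    · apply Subtype.ext
      show ψ tW * ψ tW = 1
      rw [← map_mul, tW_sq, map_one]
    · intro h
      exact psi_t_ne ψ hk (congrArg Subtype.val h)
    · exact tQ
    · rintro _ ⟨q, rfl⟩
      apply Subtype.ext
      show ψ q.1 * ψ tW = ψ tW * ψ q.1
      rw [← map_mul, ← map_mul, Q0_comm_t q.2]
    · rintro _ ⟨a, rfl⟩ _ ⟨b, rfl⟩
      rcases Q0_comm a.2 b.2 with h | h
      · left
        apply Subtype.ext
        show ψ a.1 * ψ b.1 = ψ b.1 * ψ a.1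
        rw [← map_mul, ← map_mul, h]
      · right
        apply Subtype.ext
        show ψ a.1 * ψ b.1 = ψ tW * (ψ b.1 * ψ a.1)
        rw [← map_mul, ← map_mul, ← map_mul, h]
    · rintro _ ⟨a, rfl⟩ hcen
      by_contra hcon
      push Not at hcon
      have h1 : a.1 ≠ 1 := by
        intro h
        apply hcon.1
        have : a = 1 := Subtype.ext h
        rw [this, map_one]
      have h2 : a.1 ≠ tW := by
        intro h
        apply hcon.2
        apply Subtype.ext
        show ψ a.1 = ψ tW
        rw [h]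
      obtain ⟨b, hb, hab⟩ := Q0_cen a.2 h1 h2
      apply hab
      apply psi_inj ψ hk (mul_mem a.2 hb) (mul_mem hb a.2)
      have h3 := hcen (j ⟨b, hb⟩) ⟨⟨b, hb⟩, rfl⟩
      have h4 : ψ a.1 * ψ b = ψ b * ψ a.1 := congrArg Subtype.val h3
      rw [map_mul, map_mul, h4]
    · -- nonabelian: the centre is small
      by_contra hcon
      push Not at hcon
      have h1 : ∀ a ∈ Q0, a = 1 ∨ a = tW := by
        intro a ha
        by_contra h2
        push Not at h2
        obtain ⟨b, hb, hab⟩ := Q0_cen ha h2.1 h2.2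
        apply hab
        apply psi_inj ψ hk (mul_mem ha hb) (mul_mem hb ha)
        have h3 := hcon (j ⟨a, ha⟩) ⟨⟨a, ha⟩, rfl⟩ (j ⟨b, hb⟩) ⟨⟨b, hb⟩, rfl⟩
        have h4 : ψ a * ψ b = ψ b * ψ a := congrArg Subtype.val h3
        rw [map_mul, map_mul, h4]
      have h2 : Function.Injective (fun a : Q0 => (if a.1 = 1 then (0 : Fin 2) else 1)) := by
        intro a b hab
        rcases h1 a.1 a.2 with h3 | h3 <;> rcases h1 b.1 b.2 with h4 | h4
        · exact Subtype.ext (h3.trans h4.symm)
        · exfalso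
          have h5 : (if a.1 = 1 then (0 : Fin 2) else 1) = if b.1 = 1 then (0 : Fin 2) else 1 := hab
          rw [if_pos h3, if_neg (by rw [h4]; exact tW_ne)] at h5
          exact absurd h5 (by decide)
        · exfalso
          have h5 : (if a.1 = 1 then (0 : Fin 2) else 1) = if b.1 = 1 then (0 : Fin 2) else 1 := hab
          rw [if_pos h4, if_neg (by rw [h3]; exact tW_ne)] at h5
          exact absurd h5 (by decide)
        · exact Subtype.ext (h3.trans h4.symm)
      have h3 := Nat.card_le_card_of_injective _ h2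
      rw [card_Q0, Nat.card_eq_fintype_card, Fintype.card_fin] at h3
      omega
  refine ⟨Q, hnormal, isExtraspecial_of_exData hex, hQ, ?_, ⟨F.range, hcompl⟩, ?_⟩
  · -- no elementary abelian subgroups of order 8
    rintro E ⟨hab, hsq⟩
    have hcomm : ∀ x ∈ E, ∀ y ∈ E, x * y = y * x := by
      intro x hx y hy
      exact congrArg Subtype.val (hab.is_comm.comm (⟨x, hx⟩ : E) ⟨y, hy⟩)
    have hlift : ∀ x : Q, ∃ a : Q0, j a = x.1 := fun x => x.2
    choose A hA using hlift
    have hAinj : Function.Injective A := by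
      intro x y hxy
      apply Subtype.ext
      rw [← hA x, ← hA y, hxy]
    have hAmul : ∀ x y : Q, A (x * y) = A x * A y := by
      intro x y
      apply hj
      rw [hA, map_mul, hA, hA]; rfl
    have hAsq : ∀ x ∈ E, (A x).1 * (A x).1 = 1 := by
      intro x hx
      have h1 : x * x = 1 := by rw [← pow_two]; exact hsq x hx
      have h2 : A (x * x) = A x * A x := hAmul x x
      have h3 : A (1 : Q) = 1 := by
        apply hj
        rw [hA, map_one]; rfl
      rw [h1, h3] at h2
      exact (congrArg Subtype.val h2).symm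
    have hAcomm : ∀ x ∈ E, ∀ y ∈ E, (A x).1 * (A y).1 = (A y).1 * (A x).1 := by
      intro x hx y hy
      have h1 : A x * A y = A y * A x := by rw [← hAmul, ← hAmul, hcomm x hx y hy]
      exact congrArg Subtype.val h1
    by_cases hE : ∀ x ∈ E, (A x).1 = 1 ∨ (A x).1 = tW
    · have h2 : Function.Injective (fun x : E => (if (A x.1).1 = 1 then (0 : Fin 4) else 1)) := by
        intro a b hab
        have h5 : (if (A a.1).1 = 1 then (0 : Fin 4) else 1) = if (A b.1).1 = 1 then (0 : Fin 4) else 1 := hab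
        apply Subtype.ext
        apply hAinj
        apply Subtype.ext
        rcases hE a.1 a.2 with h3 | h3 <;> rcases hE b.1 b.2 with h4 | h4
        · exact h3.trans h4.symm
        · rw [if_pos h3, if_neg (by rw [h4]; exact tW_ne)] at h5
          exact absurd h5 (by decide)
        · rw [if_pos h4, if_neg (by rw [h3]; exact tW_ne)] at h5
          exact absurd h5 (by decide)
        · exact h3.trans h4.symm
      have h3 := Nat.card_le_card_of_injective _ h2
      rw [Nat.card_eq_fintype_card (α := Fin 4), Fintype.card_fin] at h3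
      exact h3
    · push Not at hE
      obtain ⟨x, hx, hx1, hxt⟩ := hE
      have hcase : ∀ y ∈ E, (A y).1 = 1 ∨ (A y).1 = tW ∨ (A y).1 = (A x).1 ∨ (A y).1 = (A x).1 * tW := by
        intro y hy
        by_cases h1 : (A y).1 = 1
        · exact Or.inl h1
        by_cases h2 : (A y).1 = tW
        · exact Or.inr (Or.inl h2)
        rcases Q0_e8 (A x).2 (A y).2 hx1 hxt h1 h2 (hAsq x hx) (hAsq y hy) (hAcomm x hx y hy) with h3 | h3
        · exact Or.inr (Or.inr (Or.inl h3))
        · exact Or.inr (Or.inr (Or.inr h3))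
      let g : E → W := fun y => (A y.1).1
      have hg : Function.Injective g := by
        intro a b hab
        exact Subtype.ext (hAinj (Subtype.ext hab))
      have hsub : Set.range g ⊆ (↑({1, tW, (A x).1, (A x).1 * tW} : Finset W) : Set W) := by
        rintro _ ⟨y, rfl⟩
        rcases hcase y.1 y.2 with h | h | h | h
        · simp [g, h]
        · simp [g, h]
        · simp [g, h]
        · simp [g, h]
      have h1 : Nat.card E = (Set.range g).ncard := by
        rw [Set.ncard_range_of_injective hg]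
      have h2 := Set.ncard_le_ncard hsub (Finset.finite_toSet _)
      rw [Set.ncard_coe_finset] at h2
      have h3 : ({1, tW, (A x).1, (A x).1 * tW} : Finset W).card ≤ 4 := Finset.card_le_four
      rw [h1]
      exact h2.trans h3
  · exact ⟨(hcompl.symm.QuotientMulEquiv).trans (MonoidHom.ofInjective hF).symm⟩

end

end Cfsg.Agent.Lib.JThree
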