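import Cfsg.Agent.Lib.JThreeCent
import Cfsg.Agent.Lib.LargeExtra7

/-!
Structure of the centralizer of an involution of `J₃`.
-/

set_option autoImplicit false
set_option exponentiation.threshold 2000

namespace Cfsg.Agent.Lib.JThree

open Cfsg Cfsg.Agent.Lib.K4 Cfsg.Agent.Lib.F4Pack Cfsg.Agent.Lib.NatTree Cfsg.Agent.Lib.LargeExtra
open Cfsg.Agent.Lib.Golay (allLt allLt_iff)

theorem good_qt {n : ℕ} (h : n < 32) : Good (qt n) := good_of_ok ((allLt_iff.1 qt_ok) n h)

theorem inH_Q1 : InH Q1c := by rw [← Nat.eq_of_beq_eq_true q1_in]; exact inH_uvw (by norm_num) (by norm_num) (by norm_num)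
theorem inH_Q2 : InH Q2c := by rw [← Nat.eq_of_beq_eq_true q2_in]; exact inH_uvw (by norm_num) (by norm_num) (by norm_num)
theorem inH_Q3 : InH Q3c := by rw [← Nat.eq_of_beq_eq_true q3_in]; exact inH_uvw (by norm_num) (by norm_num) (by norm_num)
theorem inH_Q4 : InH Q4c := by rw [← Nat.eq_of_beq_eq_true q4_in]; exact inH_uvw (by norm_num) (by norm_num) (by norm_num)
theorem inH_A5 : InH Ac5 := by rw [← Nat.eq_of_beq_eq_true ac_in]; exact inH_uvw (by norm_num) (by norm_num) (by norm_num)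
theorem inH_B5 : InH Bc5 := by rw [← Nat.eq_of_beq_eq_true bc_in]; exact inH_uvw (by norm_num) (by norm_num) (by norm_num)

noncomputable def q1 : W := (exists_W inH_Q1).choose
noncomputable def q2' : W := (exists_W inH_Q2).choose
noncomputable def q3' : W := (exists_W inH_Q3).choose
noncomputable def q4 : W := (exists_W inH_Q4).choose
noncomputable def aW5 : W := (exists_W inH_A5).choose
noncomputable def bW5 : W := (exists_W inH_B5).choose
theorem cd_q1 : cd q1.1 = Q1c := (exists_W inH_Q1).choose_spec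
theorem cd_q2 : cd q2'.1 = Q2c := (exists_W inH_Q2).choose_spec
theorem cd_q3 : cd q3'.1 = Q3c := (exists_W inH_Q3).choose_spec
theorem cd_q4 : cd q4.1 = Q4c := (exists_W inH_Q4).choose_spec
theorem cd_a5 : cd aW5.1 = Ac5 := (exists_W inH_A5).choose_spec
theorem cd_b5 : cd bW5.1 = Bc5 := (exists_W inH_B5).choose_spec

theorem qt_inj {a b : ℕ} (ha : a < 32) (hb : b < 32) (h : qt a = qt b) : a = b :=
  inj_of_sort 32 qt (fg sqT) (fun i hi => Nat.le_of_ble_eq_true ((allLt_iff.1 sq_lt) i hi))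
    (fun i hi => Nat.le_of_ble_eq_true ((allLt_iff.1 sq_ok) i (by omega))) ha hb h

theorem stepQ_spec {g T : ℕ} (h : allLt 32 (stepQ g T) = true) {n : ℕ} (hn : n < 32) :
    fg T n < 32 ∧ mu g (qt n) = qt (fg T n) := by
  have h1 := (allLt_iff.1 h) n hn
  rw [stepQ, force_eq, cond_and] at h1
  exact ⟨Nat.le_of_ble_eq_true h1.1, Nat.eq_of_beq_eq_true h1.2⟩

theorem stepR_spec {g T : ℕ} (h : allLt 32 (stepR g T) = true) {n : ℕ} (hn : n < 32) :
    fg T n < 32 ∧ mu g (qt n) = mu (qt (fg T n)) g := by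
  have h1 := (allLt_iff.1 h) n hn
  rw [stepR, force_eq, cond_and] at h1
  exact ⟨Nat.le_of_ble_eq_true h1.1, Nat.eq_of_beq_eq_true h1.2⟩

theorem qt_zero' : qt 0 = Ic := Nat.eq_of_beq_eq_true qt_zero

/-- the normal subgroup, in the linear group -/
noncomputable def Q0G : Subgroup GLM := Subgroup.closure {q1.1, q2'.1, q3'.1, q4.1}

theorem q_step {g : W} {G T : ℕ} (hg : cd g.1 = G) (h : allLt 32 (stepQ G T) = true) {a : ℕ} {c : ℕ}
    (ha : a < 32) (hc : fg T a = c) (hmem : g.1 ∈ Q0G) (ih : ∃ x ∈ Q0G, cd x = qt a) : ∃ x ∈ Q0G, cd x = qt c := by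
  obtain ⟨x, hx, hx2⟩ := ih
  refine ⟨g.1 * x, mul_mem hmem hx, ?_⟩
  rw [cd_mul, hg, hx2, (stepQ_spec h ha).2, hc]

theorem q_in : ∀ a < 32, ∃ x ∈ Q0G, cd x = qt a := by
  intro a
  induction a using Nat.strong_induction_on with
  | _ a ih =>
    intro ha
    have h := (allLt_iff.1 rq_ok) a ha
    cases e0 : Nat.beq a 0 with
    | true => rw [Nat.eq_of_beq_eq_true e0, qt_zero']; exact ⟨1, one_mem _, cd_one⟩
    | false =>
      rw [e0, cond_false, force_eq, cond_and] at h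
      obtain ⟨h3, h4⟩ := h
      have h5 : Nat.shiftRight (fg rqT a) 2 < a := Nat.le_of_ble_eq_true h3
      have h6 := Nat.eq_of_beq_eq_true h4
      have h7 := ih _ h5 (h5.trans ha)
      cases e1 : Nat.beq (Nat.land (fg rqT a) 3) 0 with
      | true =>
        rw [e1, cond_true] at h6
        exact q_step cd_q1 stepQ1 (h5.trans ha) h6 (Subgroup.subset_closure (by simp)) h7
      | false =>
        rw [e1, cond_false] at h6
        cases e2 : Nat.beq (Nat.land (fg rqT a) 3) 1 with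
        | true =>
          rw [e2, cond_true] at h6
          exact q_step cd_q2 stepQ2 (h5.trans ha) h6 (Subgroup.subset_closure (by simp)) h7
        | false =>
          rw [e2, cond_false] at h6
          cases e3 : Nat.beq (Nat.land (fg rqT a) 3) 2 with
          | true =>
            rw [e3, cond_true] at h6
            exact q_step cd_q3 stepQ3 (h5.trans ha) h6 (Subgroup.subset_closure (by simp)) h7
          | false =>
            rw [e3, cond_false] at h6
            exact q_step cd_q4 stepQ4 (h5.trans ha) h6 (Subgroup.subset_closure (by simp)) h7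

theorem Q0G_spec : (∀ g ∈ Q0G, ∃ i < 32, cd g = qt i) ∧ Nat.card Q0G = 32 := by
  refine table_group 32 qt (by norm_num) qt_zero' (fun i hi => good_qt hi) _ ?_ q_in (fun a ha b hb h => qt_inj ha hb h)
  rintro g (rfl | rfl | rfl | rfl) i hi
  · rw [cd_q1]; exact ⟨_, stepQ_spec stepQ1 hi⟩
  · rw [cd_q2]; exact ⟨_, stepQ_spec stepQ2 hi⟩
  · rw [cd_q3]; exact ⟨_, stepQ_spec stepQ3 hi⟩
  · rw [cd_q4]; exact ⟨_, stepQ_spec stepQ4 hi⟩

theorem Q0G_le : Q0G ≤ H := by
  rw [Q0G, Subgroup.closure_le]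
  rintro g (rfl | rfl | rfl | rfl)
  · exact q1.2
  · exact q2'.2
  · exact q3'.2
  · exact q4.2

/-- the normal subgroup -/
noncomputable def Q0 : Subgroup W := Q0G.subgroupOf H

theorem card_Q0 : Nat.card Q0 = 32 := by rw [Q0, card_subOf Q0G_le, Q0G_spec.2]

theorem Q0_code {g : W} (h : g ∈ Q0) : ∃ i < 32, cd g.1 = qt i := Q0G_spec.1 _ h

theorem Q0_of_code {g : W} {i : ℕ} (hi : i < 32) (h : cd g.1 = qt i) : g ∈ Q0 := by
  obtain ⟨x, hx, hx2⟩ := q_in i hi
  have : g.1 = x := cd_inj (h.trans hx2.symm)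
  show g.1 ∈ Q0G
  rw [this]; exact hx

theorem t_mem_Q0 : tW ∈ Q0 := Q0_of_code (i := 5) (by norm_num) (by rw [cd_tW]; exact (Nat.eq_of_beq_eq_true qt_t0).symm)

theorem Q0_comm_t {q : W} (h : q ∈ Q0) : q * tW = tW * q := by
  obtain ⟨i, hi, hi2⟩ := Q0_code h
  have h1 := (allLt_iff.1 tz_ok) i hi
  rw [force_eq, ← hi2, ← cd_tW, ← cdW_mul, ← cdW_mul] at h1
  exact W_ext (Nat.eq_of_beq_eq_true h1)

theorem Q0_comm {a b : W} (ha : a ∈ Q0) (hb : b ∈ Q0) : a * b = b * a ∨ a * b = tW * (b * a) := by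
  obtain ⟨i, hi, hi2⟩ := Q0_code ha
  obtain ⟨j, hj, hj2⟩ := Q0_code hb
  have h1 := (allLt_iff.1 comm_ok) i hi
  rw [force_eq] at h1
  have h2 := (allLt_iff.1 h1) j hj
  rw [force_eq, force_eq, force_eq, ← hi2, ← hj2, ← cd_tW, ← cdW_mul, ← cdW_mul, ← cdW_mul] at h2
  cases e : Nat.beq (cd (a * b).1) (cd (b * a).1) with
  | true => exact Or.inl (W_ext (Nat.eq_of_beq_eq_true e))
  | false => rw [e, cond_false] at h2; exact Or.inr (W_ext (Nat.eq_of_beq_eq_true h2))

theorem Q0_cen {a : W} (ha : a ∈ Q0) (h1 : a ≠ 1) (ht : a ≠ tW) : ∃ b ∈ Q0, a * b ≠ b * a := by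
  obtain ⟨i, hi, hi2⟩ := Q0_code ha
  have h := (allLt_iff.1 cen_ok) i hi
  rw [force_eq, ← hi2] at h
  have e1 : Nat.beq (cd a.1) Ic = false := by
    rw [Bool.eq_false_iff]; intro e
    exact h1 (W_ext ((Nat.eq_of_beq_eq_true e).trans cdW_one.symm))
  have e2 : Nat.beq (cd a.1) T0c = false := by
    rw [Bool.eq_false_iff]; intro e
    exact ht (W_ext ((Nat.eq_of_beq_eq_true e).trans cd_tW.symm))
  rw [e1, e2, cond_false, cond_false, force_eq, cond_and] at h
  obtain ⟨h2, h3⟩ := h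
  have h2' : fg nqT i < 32 := Nat.le_of_ble_eq_true h2
  obtain ⟨x, hx, hx2⟩ := q_in _ h2'
  refine ⟨⟨x, Q0G_le hx⟩, hx, ?_⟩
  intro hcon
  have h4 := congrArg (fun w : W => cd w.1) hcon
  have h5 : mu (cd a.1) (cd x) = mu (cd x) (cd a.1) := by
    have e3 := cdW_mul a ⟨x, Q0G_le hx⟩
    have e4 := cdW_mul ⟨x, Q0G_le hx⟩ a
    exact e3.symm.trans (h4.trans e4)
  rw [← hx2, h5, Nat.beq_refl] at h3
  exact absurd (show false = true from h3) (by decide)

theorem Q0_e8 {a b : W} (ha : a ∈ Q0) (hb : b ∈ Q0) (a1 : a ≠ 1) (at' : a ≠ tW) (b1 : b ≠ 1) (bt : b ≠ tW)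
    (a2 : a * a = 1) (b2 : b * b = 1) (hab : a * b = b * a) : b = a ∨ b = a * tW := by
  obtain ⟨i, hi, hi2⟩ := Q0_code ha
  obtain ⟨j, hj, hj2⟩ := Q0_code hb
  have h := (allLt_iff.1 e8_ok) i hi
  have key : ∀ c : W, c ≠ 1 → c ≠ tW → c * c = 1 → Nat.beq (cd c.1) Ic = false ∧ Nat.beq (cd c.1) T0c = false ∧
      Nat.beq (mu (cd c.1) (cd c.1)) Ic = true := by
    intro c c1 ct c2
    refine ⟨?_, ?_, ?_⟩
    · rw [Bool.eq_false_iff]; intro e
      exact c1 (W_ext ((Nat.eq_of_beq_eq_true e).trans cdW_one.symm))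
    · rw [Bool.eq_false_iff]; intro e
      exact ct (W_ext ((Nat.eq_of_beq_eq_true e).trans cd_tW.symm))
    · rw [← cdW_mul, c2, cdW_one, Nat.beq_refl]
  obtain ⟨k1, k2, k3⟩ := key a a1 at' a2
  obtain ⟨l1, l2, l3⟩ := key b b1 bt b2
  rw [force_eq, ← hi2, k1, k2, k3, cond_false, cond_false, cond_true] at h
  have h2 := (allLt_iff.1 h) j hj
  rw [force_eq, ← hj2, l1, l2, l3, cond_false, cond_false, cond_true, force_eq, ← cdW_mul, ← cdW_mul, hab,
    Nat.beq_refl, cond_true, ← cd_tW, ← cdW_mul] at h2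
  cases e : Nat.beq (cd b.1) (cd a.1) with
  | true => exact Or.inl (W_ext (Nat.eq_of_beq_eq_true e))
  | false => rw [e, cond_false] at h2; exact Or.inr (W_ext (Nat.eq_of_beq_eq_true h2))

theorem norm_of_step {g : W} {T : ℕ} (h : allLt 32 (stepR (cd g.1) T) = true) {q : W} (hq : q ∈ Q0) :
    g * q * g⁻¹ ∈ Q0 := by
  obtain ⟨i, hi, hi2⟩ := Q0_code hq
  obtain ⟨h1, h2⟩ := stepR_spec h hi
  obtain ⟨x, hx, hx2⟩ := q_in _ h1
  have h3 : g * q = (⟨x, Q0G_le hx⟩ : W) * g := by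
    apply W_ext
    rw [cdW_mul, cdW_mul, hi2, h2, ← hx2]
  rw [h3, mul_inv_cancel_right]
  exact hx

theorem mem_normalizer_of {G : Type*} [Group G] [Finite G] {Q : Subgroup G} {g : G} (h : ∀ q ∈ Q, g * q * g⁻¹ ∈ Q) :
    g ∈ Subgroup.normalizer (Q : Set G) := by
  have hp : ∀ m : ℕ, ∀ q ∈ Q, g ^ m * q * (g ^ m)⁻¹ ∈ Q := by
    intro m
    induction m with
    | zero => intro q hq; simpa using hq
    | succ m ih =>
      intro q hq
      have e : g ^ (m + 1) * q * (g ^ (m + 1))⁻¹ = g * (g ^ m * q * (g ^ m)⁻¹) * g⁻¹ := by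
        rw [pow_succ']; group
      rw [e]
      exact h _ (ih q hq)
  rw [Subgroup.mem_normalizer_iff]
  intro q
  refine ⟨fun hq => h q hq, fun hq => ?_⟩
  obtain ⟨m, hm⟩ := inv_pow_fin g
  have e : g ^ m * (g * q * g⁻¹) * (g ^ m)⁻¹ = q := by rw [← hm]; group
  have h1 := hp m _ hq
  rwa [e] at h1

theorem aN : aW5 ∈ Subgroup.normalizer (Q0 : Set W) :=
  mem_normalizer_of (fun q hq => norm_of_step (T := raT) (by rw [cd_a5]; exact stepRa) hq)
theorem bN : bW5 ∈ Subgroup.normalizer (Q0 : Set W) :=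
  mem_normalizer_of (fun q hq => norm_of_step (T := rbT) (by rw [cd_b5]; exact stepRb) hq)

theorem ab_facts : aW5 * tW = tW * aW5 ∧ bW5 * tW = tW * bW5 ∧ aW5 ≠ 1 ∧ aW5 ^ 3 = 1 ∧ bW5 ^ 5 = 1 ∧ (aW5 * bW5) ^ 2 = 1 := by
  have h := ab_ok
  rw [cond_and, cond_and] at h
  obtain ⟨h1, h2, h3⟩ := h
  cases e : Nat.beq Ac5 Ic with
  | true => rw [e] at h3; exact absurd (show false = true from h3) (by decide)
  | false =>
    rw [e, cond_false, cond_and, cond_and, force_eq, force_eq] at h3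
    obtain ⟨h4, h5, h6⟩ := h3
    rw [← cd_a5] at h1 h4 h6 e
    rw [← cd_b5] at h2 h5 h6
    rw [← cd_tW] at h1 h2
    rw [← cdW_mul, ← cdW_mul] at h1 h2 h4 h6
    rw [← cdW_mul, ← cdW_mul, ← cdW_mul] at h5
    rw [← cdW_one] at h4 h5 h6
    have k4 := W_ext (Nat.eq_of_beq_eq_true h4)
    have k5 := W_ext (Nat.eq_of_beq_eq_true h5)
    have k6 := W_ext (Nat.eq_of_beq_eq_true h6)
    rw [← pow_two aW5, ← pow_succ] at k4
    rw [← pow_two bW5, ← pow_add, ← pow_succ] at k5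
    rw [← pow_two] at k6
    refine ⟨W_ext (Nat.eq_of_beq_eq_true h1), W_ext (Nat.eq_of_beq_eq_true h2), ?_, k4, k5, k6⟩
    intro h7
    rw [h7, cdW_one, Nat.beq_refl] at e
    exact absurd e (by decide)

open Cfsg.Agent.Lib.Pres235 in
/-- the complement -/
theorem exists_f : ∃ f : alternatingGroup (Fin 5) →* W, Function.Injective f ∧ ∀ g, f g ∈ Subgroup.normalizer (Q0 : Set W) ∧
    f g ∈ CW := by
  obtain ⟨a1, a2, a3, a4, a5, a6⟩ := ab_facts
  obtain ⟨e, he0, he1⟩ := Cfsg.Agent.Lib.Pres235.equiv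
  let g : PresentedGroup rels →* W := PresentedGroup.toGroup (f := ![aW5, bW5]) (by
    rintro r (rfl | rfl | rfl)
    · simpa using a4
    · simpa using a5
    · simpa using a6)
  have g0 : g (PresentedGroup.of 0) = aW5 := by simp [g]
  have g1 : g (PresentedGroup.of 1) = bW5 := by simp [g]
  let f : alternatingGroup (Fin 5) →* W := g.comp e.symm.toMonoidHom
  refine ⟨f, ?_, ?_⟩
  · have hs := alternatingGroup.isSimpleGroup (α := Fin 5) (by simp)
    rw [← MonoidHom.ker_eq_bot_iff]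
    rcases IsSimpleGroup.eq_bot_or_eq_top_of_normal f.ker inferInstance with h | h
    · exact h
    · exfalso
      have h1 : f (e (PresentedGroup.of 0)) = 1 := by
        have : e (PresentedGroup.of 0) ∈ f.ker := by rw [h]; exact Subgroup.mem_top _
        exact this
      have h2 : f (e (PresentedGroup.of 0)) = g (e.symm (e (PresentedGroup.of 0))) := rfl
      rw [e.symm_apply_apply, g0] at h2
      exact a3 (h2.symm.trans h1)
  · intro x
    have h1 : (⊤ : Subgroup (PresentedGroup rels)) ≤ (Subgroup.normalizer (Q0 : Set W) ⊓ CW).comap g := by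
      rw [← closure_of, Subgroup.closure_le]
      rintro y (hy | hy)
      · refine Subgroup.mem_comap.2 ?_
        rw [hy, g0]; exact Subgroup.mem_inf.2 ⟨aN, mem_CW.2 a1⟩
      · rw [Set.mem_singleton_iff] at hy
        refine Subgroup.mem_comap.2 ?_
        rw [hy, g1]; exact Subgroup.mem_inf.2 ⟨bN, mem_CW.2 a2⟩
    exact Subgroup.mem_inf.1 (h1 (Subgroup.mem_top (e.symm x)))

end Cfsg.Agent.Lib.JThree
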