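import Cfsg.Agent.Lib.JThreeSimple

/-!
Transport of `3·J₃` from an arbitrary field with four elements to the computable one.
-/

set_option autoImplicit false

namespace Cfsg.Agent.Lib.JThree

open Cfsg Cfsg.Agent.Lib.K4
open scoped MatrixGroups

/-- the Frobenius map of `K4` -/
def frob : K4 ≃+* K4 where
  toFun a := a * a
  invFun a := a * a
  left_inv := by decide
  right_inv := by decide
  map_mul' := by decide
  map_add' := by decide

theorem exists_iso (F : Type*) [Field F] [Fintype F] (hF : Fintype.card F = 4) (ω : F) (hω : ω ^ 2 + ω + 1 = 0) :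
    ∃ φ : F ≃+* K4, φ ω = om := by
  obtain ⟨φ⟩ := exists_equiv F hF
  have h : (φ ω) ^ 2 + φ ω + 1 = 0 := by
    rw [← map_pow, ← map_add, ← map_one φ, ← map_add, hω, map_zero]
  have key : ∀ a : K4, a ^ 2 + a + 1 = 0 → a = om ∨ frob a = om := by decide
  rcases key _ h with h1 | h1
  · exact ⟨φ, h1⟩
  · exact ⟨φ.trans frob, h1⟩

section
variable {F : Type*} [Field F]

/-- the induced isomorphism of general linear groups -/
noncomputable def gl (φ : F ≃+* K4) : GL Spor.F9 F ≃* GL Spor.F9 K4 := Units.mapEquiv φ.mapMatrix.toMulEquiv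

theorem gl_val (φ : F ≃+* K4) (g : GL Spor.F9 F) :
    ((gl φ g : GL Spor.F9 K4) : Matrix Spor.F9 Spor.F9 K4) = (g : Matrix Spor.F9 Spor.F9 F).map φ := rfl

theorem map_inj {φ : F ≃+* K4} {A B : Matrix Spor.F9 Spor.F9 F} : A.map φ = B.map φ ↔ A = B :=
  ⟨fun h => Matrix.ext fun i j => φ.injective (congrFun (congrFun h i) j), fun h => by rw [h]⟩

variable {φ : F ≃+* K4} {ω : F}

theorem map_pow' (h : φ ω = om) (n : ZMod 3) : φ (Spor.omegaPow F ω n) = Spor.omegaPow K4 om n := by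
  rw [Spor.omegaPow, Spor.omegaPow, map_pow, h]

theorem map_A (h : φ ω = om) (Z : Spor.F9) : (Spor.j3A F ω Z).map φ = Spor.j3A K4 om Z := by
  rw [Spor.j3A, Spor.j3A, Matrix.diagonal_map (map_zero φ)]
  refine congrArg Matrix.diagonal (funext fun z => ?_)
  exact map_pow' h _

theorem map_E (h : φ ω = om) (Z : Spor.F9) : (Spor.j3E F ω Z).map φ = Spor.j3E K4 om Z := by
  rw [Spor.j3E, Spor.j3E, Matrix.diagonal_map (map_zero φ)]
  refine congrArg Matrix.diagonal (funext fun z => ?_)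
  exact map_pow' h _

theorem map_D (h : φ ω = om) (Z : Spor.F9) : (Spor.j3D F ω Z).map φ = Spor.j3D K4 om Z := by
  ext i j
  rw [Matrix.map_apply, Spor.j3D, Spor.j3D, Matrix.of_apply, Matrix.of_apply, Spor.j3Lam, Spor.j3Lam]
  split_ifs <;> simp [h]

theorem map_B (φ : F ≃+* K4) (Z : Spor.F9) : (Spor.j3B F Z).map φ = Spor.j3B K4 Z := by
  ext i j
  rw [Matrix.map_apply, Spor.j3B, Spor.j3B, Matrix.of_apply, Matrix.of_apply]
  split_ifs <;> simp

theorem map_C (φ : F ≃+* K4) (Z : Spor.F9) : (Spor.j3C F Z).map φ = Spor.j3C K4 Z := by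
  ext i j
  rw [Matrix.map_apply, Spor.j3C, Spor.j3C, Matrix.of_apply, Matrix.of_apply]
  split_ifs <;> simp

theorem gens_iff (h : φ ω = om) (A : Matrix Spor.F9 Spor.F9 F) : A ∈ Spor.j3Gens F ω ↔ A.map φ ∈ Spor.j3Gens K4 om := by
  constructor
  · rintro ((((⟨Z, rfl⟩ | ⟨Z, rfl⟩) | ⟨Z, rfl⟩) | ⟨Z, hZ, rfl⟩) | ⟨Z, hZ, rfl⟩)
    · exact Or.inl (Or.inl (Or.inl (Or.inl ⟨Z, (map_A h Z).symm⟩)))
    · exact Or.inl (Or.inl (Or.inl (Or.inr ⟨Z, (map_E h Z).symm⟩)))
    · exact Or.inl (Or.inl (Or.inr ⟨Z, (map_D h Z).symm⟩))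
    · exact Or.inl (Or.inr ⟨Z, hZ, map_B φ Z⟩)
    · exact Or.inr ⟨Z, hZ, map_C φ Z⟩
  · rintro ((((⟨Z, hA⟩ | ⟨Z, hA⟩) | ⟨Z, hA⟩) | ⟨Z, hZ, hA⟩) | ⟨Z, hZ, hA⟩)
    · exact Or.inl (Or.inl (Or.inl (Or.inl ⟨Z, map_inj.1 ((map_A h Z).trans hA)⟩)))
    · exact Or.inl (Or.inl (Or.inl (Or.inr ⟨Z, map_inj.1 ((map_E h Z).trans hA)⟩)))
    · exact Or.inl (Or.inl (Or.inr ⟨Z, map_inj.1 ((map_D h Z).trans hA)⟩))
    · exact Or.inl (Or.inr ⟨Z, hZ, map_inj.1 (hA.trans (map_B φ Z).symm)⟩)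
    · exact Or.inr ⟨Z, hZ, map_inj.1 (hA.trans (map_C φ Z).symm)⟩

theorem map_three (h : φ ω = om) : (Spor.threeJ3 F ω).map (gl φ).toMonoidHom = Spor.threeJ3 K4 om := by
  rw [Spor.threeJ3, Spor.threeJ3, MonoidHom.map_closure]
  refine congrArg Subgroup.closure (Set.ext fun g => ?_)
  constructor
  · rintro ⟨g, hg, rfl⟩
    exact (gens_iff h _).1 hg
  · intro hg
    refine ⟨(gl φ).symm g, ?_, (gl φ).apply_symm_apply g⟩
    refine (gens_iff h _).2 ?_
    rw [← gl_val, (gl φ).apply_symm_apply]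
    exact hg

theorem map_H (h : φ ω = om) : (Spor.threeJ3 F ω).map (gl φ).toMonoidHom = H := (map_three h).trans H_eq

/-- the isomorphism of the matrix groups -/
noncomputable def mv (h : φ ω = om) : Spor.threeJ3 F ω ≃* W :=
  ((gl φ).subgroupMap (Spor.threeJ3 F ω)).trans (MulEquiv.subgroupCongr (map_H h))

theorem mv_val (h : φ ω = om) (g : Spor.threeJ3 F ω) : ((mv h g : W) : GLM) = gl φ g.1 := rfl

end

theorem map_center {G G' : Type*} [Group G] [Group G'] (e : G ≃* G') :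
    (Subgroup.center G).map e.toMonoidHom = Subgroup.center G' := by
  ext g
  constructor
  · rintro ⟨g, hg, rfl⟩
    rw [Subgroup.mem_center_iff]
    intro k
    obtain ⟨k, rfl⟩ := e.surjective k
    have := congrArg e (Subgroup.mem_center_iff.1 hg k)
    rw [map_mul, map_mul] at this
    exact this
  · intro hg
    refine ⟨e.symm g, ?_, e.apply_symm_apply g⟩
    refine Subgroup.mem_center_iff.2 fun k => ?_
    apply e.injective
    rw [map_mul, map_mul, e.apply_symm_apply]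
    exact Subgroup.mem_center_iff.1 hg _

/-- isomorphic groups have isomorphic central quotients -/
noncomputable def quotCongr {G G' : Type*} [Group G] [Group G'] (e : G ≃* G') :
    (G ⧸ Subgroup.center G) ≃* (G' ⧸ Subgroup.center G') :=
  QuotientGroup.congr _ _ e (map_center e)

/-- the Janko group over the computable field -/
abbrev JJ : Type := W ⧸ Subgroup.center W

theorem exists_J (F : Type*) [Field F] [Fintype F] (hF : Fintype.card F = 4) (ω : F) (hω : ω ^ 2 + ω + 1 = 0) :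
    Nonempty (Spor.J3 F ω ≃* JJ) := by
  obtain ⟨φ, h⟩ := exists_iso F hF ω hω
  exact ⟨quotCongr (mv h)⟩

end Cfsg.Agent.Lib.JThree
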