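import Cfsg.Agent.Lib.JThreeBase
import Cfsg.Agent.Lib.ConjPrime

/-!
The order of `3·J₃`, its centre and the simplicity of the quotient (over the computable field with four elements).
-/

set_option autoImplicit false
set_option exponentiation.threshold 2000

namespace Cfsg.Agent.Lib.JThree

open Cfsg Cfsg.Agent.Lib.F4Pack Cfsg.Agent.Lib.NatTree Cfsg.Agent.Lib.K4 Cfsg.Agent.Lib.ConjPrime
open Cfsg.Agent.Lib.Golay (allLt allLt_iff)

theorem good_cd (g : GLM) : Good (cd g) := ⟨_, rfl⟩

theorem inj_of_sort (n : ℕ) (f o : ℕ → ℕ) (ho : ∀ i < n, o i < n) (hs : ∀ i, i + 1 < n → f (o i) < f (o (i + 1)))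
    {a b : ℕ} (ha : a < n) (hb : b < n) (h : f a = f b) : a = b := by
  have hmono : ∀ i j, i < j → j < n → f (o i) < f (o j) := by
    intro i j hij hj
    obtain ⟨d, rfl⟩ := Nat.exists_eq_add_of_lt hij
    clear hij
    induction d with
    | zero => exact hs i hj
    | succ d ih => exact lt_trans (ih (by omega)) (hs _ hj)
  let O : Fin n → Fin n := fun i => ⟨o i, ho i i.2⟩
  have hO : Function.Injective O := by
    intro i j hij
    have h1 : o i = o j := congrArg Fin.val hij
    rcases lt_trichotomy (i : ℕ) j with h2 | h2 | h2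
    · exact absurd (congrArg f h1) (ne_of_lt (hmono _ _ h2 j.2))
    · exact Fin.ext h2
    · exact absurd (congrArg f h1) (ne_of_gt (hmono _ _ h2 i.2))
  have hO2 := Finite.injective_iff_surjective.1 hO
  obtain ⟨i, hi⟩ := hO2 ⟨a, ha⟩
  obtain ⟨j, hj⟩ := hO2 ⟨b, hb⟩
  have hi' : o i = a := congrArg Fin.val hi
  have hj' : o j = b := congrArg Fin.val hj
  rcases lt_trichotomy (i : ℕ) j with h2 | h2 | h2
  · have := hmono _ _ h2 j.2
    rw [hi', hj', h] at this
    exact absurd this (lt_irrefl _)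
  · rw [← hi', ← hj', h2]
  · have := hmono _ _ h2 i.2
    rw [hi', hj', h] at this
    exact absurd this (lt_irrefl _)

/-- groups given by tables of codes -/
theorem table_group (n : ℕ) (tt : ℕ → ℕ) (hn : 0 < n) (h0 : tt 0 = Ic) (hgood : ∀ i < n, Good (tt i)) (S : Set GLM)
    (hS : ∀ g ∈ S, ∀ i < n, ∃ e < n, mu (cd g) (tt i) = tt e)
    (hin : ∀ i < n, ∃ g ∈ Subgroup.closure S, cd g = tt i)
    (hinj : ∀ a < n, ∀ b < n, tt a = tt b → a = b) :
    (∀ g ∈ Subgroup.closure S, ∃ i < n, cd g = tt i) ∧ Nat.card (Subgroup.closure S) = n := by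
  have h1 : ∀ g ∈ Subgroup.closure S, ∀ i < n, ∃ e < n, mu (cd g) (tt i) = tt e := by
    intro g hg
    induction hg using Subgroup.closure_induction with
    | mem g hg => exact hS g hg
    | one =>
      intro i hi
      exact ⟨i, hi, by rw [cd_one, mu_Ic_left (hgood i hi)]⟩
    | mul a b _ _ iha ihb =>
      intro i hi
      obtain ⟨e, he, he2⟩ := ihb i hi
      obtain ⟨f, hf, hf2⟩ := iha e he
      exact ⟨f, hf, by rw [cd_mul, mu_assoc (good_cd _) (good_cd _) (hgood i hi), he2, hf2]⟩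
    | inv a _ iha =>
      have hfin : Finite GLM := inferInstance
      obtain ⟨m, hm, hm2⟩ := isOfFinOrder_iff_pow_eq_one.1 (isOfFinOrder_of_finite a)
      have h3 : a⁻¹ = a ^ (m - 1) := by
        apply inv_eq_of_mul_eq_one_right
        rw [← pow_succ', Nat.sub_add_cancel hm, hm2]
      rw [h3]
      generalize m - 1 = r
      induction r with
      | zero =>
        intro i hi
        exact ⟨i, hi, by rw [pow_zero, cd_one, mu_Ic_left (hgood i hi)]⟩
      | succ r ihr =>
        intro i hi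
        obtain ⟨e, he, he2⟩ := ihr i hi
        obtain ⟨f, hf, hf2⟩ := iha e he
        exact ⟨f, hf, by rw [pow_succ', cd_mul, mu_assoc (good_cd _) (good_cd _) (hgood i hi), he2, hf2]⟩
  have h2 : ∀ g ∈ Subgroup.closure S, ∃ i < n, cd g = tt i := by
    intro g hg
    obtain ⟨e, he, he2⟩ := h1 g hg 0 hn
    exact ⟨e, he, by rw [← he2, h0, mu_Ic_right (good_cd _)]⟩
  refine ⟨h2, ?_⟩
  choose F hF using fun i : Fin n => hin i i.2
  let K : Fin n → Subgroup.closure S := fun i => ⟨F i, (hF i).1⟩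
  have hK : Function.Bijective K := by
    constructor
    · intro i j hij
      have h3 : F i = F j := congrArg Subtype.val hij
      have h4 := congrArg cd h3
      rw [(hF i).2, (hF j).2] at h4
      exact Fin.ext (hinj _ i.2 _ j.2 h4)
    · rintro ⟨g, hg⟩
      obtain ⟨i, hi, hi2⟩ := h2 g hg
      refine ⟨⟨i, hi⟩, Subtype.ext (cd_inj ?_)⟩
      rw [hi2]
      exact (hF ⟨i, hi⟩).2
  rw [← Nat.card_congr (Equiv.ofBijective K hK), Nat.card_eq_fintype_card, Fintype.card_fin]

theorem good_s3 {i : ℕ} (h : i < 729) : Good (s3 i) := good_of_ok ((allLt_iff.1 s3_ok) i h)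
theorem good_s2 {i : ℕ} (h : i < 128) : Good (s2 i) := good_of_ok ((allLt_iff.1 s2_ok) i h)

theorem s3_zero : s3 0 = Ic := by
  have h := s_zero
  rw [cond_and] at h
  exact Nat.eq_of_beq_eq_true h.1
theorem s2_zero : s2 0 = Ic := by
  have h := s_zero
  rw [cond_and] at h
  exact Nat.eq_of_beq_eq_true h.2

theorem s3_inj {a b : ℕ} (ha : a < 729) (hb : b < 729) (h : s3 a = s3 b) : a = b :=
  inj_of_sort 729 s3 (dg o3T) (fun i hi => Nat.le_of_ble_eq_true ((allLt_iff.1 o3_lt) i hi))
    (fun i hi => Nat.le_of_ble_eq_true ((allLt_iff.1 o3_ok) i (by omega))) ha hb h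

theorem fg_lt (T j : ℕ) : fg T j < 128 := by
  have : fg T j ≤ 127 := Nat.and_le_right
  omega

theorem s2_inj {a b : ℕ} (ha : a < 128) (hb : b < 128) (h : s2 a = s2 b) : a = b :=
  inj_of_sort 128 s2 (fg o2T) (fun i _ => fg_lt _ i)
    (fun i hi => Nat.le_of_ble_eq_true ((allLt_iff.1 o2_ok) i (by omega))) ha hb h

/-- element with a given code -/
theorem exists_el {c : ℕ} (h : InH c) : ∃ g : H, cd g.1 = c := by
  obtain ⟨g, hg, h⟩ := h
  exact ⟨⟨g, hg⟩, h⟩

theorem inH_D1 : InH D1c := by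
  have h := (inH_of_gchk gchk_d (z := 1) (by norm_num)).2
  have e : gc gdT 1 = D1c := by decide +kernel
  rwa [e] at h
theorem inH_D2 : InH D2c := by
  have h := (inH_of_gchk gchk_d (z := 3) (by norm_num)).2
  have e : gc gdT 3 = D2c := by decide +kernel
  rwa [e] at h
theorem inH_F1 : InH F1c := by
  have e : mu (ut 1546) (mu (vt 63) (wt 247)) = F1c := by decide +kernel
  rw [← e]; exact inH_uvw (by norm_num) (by norm_num) (by norm_num)
theorem inH_F2 : InH F2c := by
  have e : mu (ut 2925) (mu (vt 67) (wt 136)) = F2c := by decide +kernel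
  rw [← e]; exact inH_uvw (by norm_num) (by norm_num) (by norm_num)
theorem inH_F3 : InH F3c := by
  have e : mu (ut 1198) (mu (vt 18) (wt 247)) = F3c := by decide +kernel
  rw [← e]; exact inH_uvw (by norm_num) (by norm_num) (by norm_num)

/-- the generators of the Sylow subgroups -/
noncomputable def D1 : GLM := (inH_D1).choose
noncomputable def D2 : GLM := (inH_D2).choose
noncomputable def F1 : GLM := (inH_F1).choose
noncomputable def F2 : GLM := (inH_F2).choose
noncomputable def F3 : GLM := (inH_F3).choose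
theorem D1_mem : D1 ∈ H := (inH_D1).choose_spec.1
theorem D2_mem : D2 ∈ H := (inH_D2).choose_spec.1
theorem F1_mem : F1 ∈ H := (inH_F1).choose_spec.1
theorem F2_mem : F2 ∈ H := (inH_F2).choose_spec.1
theorem F3_mem : F3 ∈ H := (inH_F3).choose_spec.1
theorem cd_D1 : cd D1 = D1c := (inH_D1).choose_spec.2
theorem cd_D2 : cd D2 = D2c := (inH_D2).choose_spec.2
theorem cd_F1 : cd F1 = F1c := (inH_F1).choose_spec.2
theorem cd_F2 : cd F2 = F2c := (inH_F2).choose_spec.2
theorem cd_F3 : cd F3 = F3c := (inH_F3).choose_spec.2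

/-- the Sylow 3-subgroup -/
noncomputable def K3 : Subgroup GLM := Subgroup.closure {D1, D2}
/-- the Sylow 2-subgroup -/
noncomputable def K2 : Subgroup GLM := Subgroup.closure {F1, F2, F3}

theorem K3_le : K3 ≤ H := by
  rw [K3, Subgroup.closure_le]
  rintro g (rfl | rfl)
  · exact D1_mem
  · exact D2_mem

theorem K2_le : K2 ≤ H := by
  rw [K2, Subgroup.closure_le]
  rintro g (rfl | rfl | rfl)
  · exact F1_mem
  · exact F2_mem
  · exact F3_mem

theorem step_tab {n : ℕ} {T g : ℕ} {L : ℕ → ℕ → ℕ} {tt : ℕ → ℕ}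
    (h : allLt n (fun k => force (L T k) fun e => cond (Nat.blt e n) (Nat.beq (mu g (tt k)) (tt e)) false) = true)
    {k : ℕ} (hk : k < n) : L T k < n ∧ mu g (tt k) = tt (L T k) := by
  have h1 := (allLt_iff.1 h) k hk
  rw [force_eq, cond_and] at h1
  exact ⟨Nat.le_of_ble_eq_true h1.1, Nat.eq_of_beq_eq_true h1.2⟩

theorem s3_in : ∀ a < 729, ∃ g ∈ K3, cd g = s3 a := by
  intro a
  induction a using Nat.strong_induction_on with
  | _ a ih =>
    intro ha
    have h := (allLt_iff.1 q3_ok) a ha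
    cases e0 : Nat.beq a 0 with
    | true => rw [Nat.eq_of_beq_eq_true e0, s3_zero]; exact ⟨1, one_mem _, cd_one⟩
    | false =>
      rw [e0, cond_false, force_eq, cond_and] at h
      obtain ⟨h3, h4⟩ := h
      have h5 : Nat.shiftRight (q3 a) 2 < a := Nat.le_of_ble_eq_true h3
      have h6 := Nat.eq_of_beq_eq_true h4
      obtain ⟨g, hg, hg2⟩ := ih _ h5 (h5.trans ha)
      cases e1 : Nat.beq (Nat.land (q3 a) 3) 0 with
      | true =>
        rw [e1, cond_true] at h6
        refine ⟨D1 * g, mul_mem (Subgroup.subset_closure (by simp)) hg, ?_⟩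
        rw [cd_mul, cd_D1, hg2, (step_tab stepD1 (h5.trans ha)).2, h6]
      | false =>
        rw [e1, cond_false] at h6
        refine ⟨D2 * g, mul_mem (Subgroup.subset_closure (by simp)) hg, ?_⟩
        rw [cd_mul, cd_D2, hg2, (step_tab stepD2 (h5.trans ha)).2, h6]

theorem s2_in : ∀ a < 128, ∃ g ∈ K2, cd g = s2 a := by
  intro a
  induction a using Nat.strong_induction_on with
  | _ a ih =>
    intro ha
    have h := (allLt_iff.1 q2_ok) a ha
    cases e0 : Nat.beq a 0 with
    | true => rw [Nat.eq_of_beq_eq_true e0, s2_zero]; exact ⟨1, one_mem _, cd_one⟩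
    | false =>
      rw [e0, cond_false, force_eq, cond_and] at h
      obtain ⟨h3, h4⟩ := h
      have h5 : Nat.shiftRight (q2 a) 2 < a := Nat.le_of_ble_eq_true h3
      have h6 := Nat.eq_of_beq_eq_true h4
      obtain ⟨g, hg, hg2⟩ := ih _ h5 (h5.trans ha)
      cases e1 : Nat.beq (Nat.land (q2 a) 3) 0 with
      | true =>
        rw [e1, cond_true] at h6
        refine ⟨F1 * g, mul_mem (Subgroup.subset_closure (by simp)) hg, ?_⟩
        rw [cd_mul, cd_F1, hg2, (step_tab stepF1 (h5.trans ha)).2, h6]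
      | false =>
        rw [e1, cond_false] at h6
        cases e2 : Nat.beq (Nat.land (q2 a) 3) 1 with
        | true =>
          rw [e2, cond_true] at h6
          refine ⟨F2 * g, mul_mem (Subgroup.subset_closure (by simp)) hg, ?_⟩
          rw [cd_mul, cd_F2, hg2, (step_tab stepF2 (h5.trans ha)).2, h6]
        | false =>
          rw [e2, cond_false] at h6
          refine ⟨F3 * g, mul_mem (Subgroup.subset_closure (by simp)) hg, ?_⟩
          rw [cd_mul, cd_F3, hg2, (step_tab stepF3 (h5.trans ha)).2, h6]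

theorem K3_spec : (∀ g ∈ K3, ∃ i < 729, cd g = s3 i) ∧ Nat.card K3 = 729 := by
  refine table_group 729 s3 (by norm_num) s3_zero (fun i hi => good_s3 hi) _ ?_ s3_in (fun a ha b hb h => s3_inj ha hb h)
  rintro g (rfl | rfl) i hi
  · rw [cd_D1]; exact ⟨_, step_tab stepD1 hi⟩
  · rw [cd_D2]; exact ⟨_, step_tab stepD2 hi⟩

theorem K2_spec : (∀ g ∈ K2, ∃ i < 128, cd g = s2 i) ∧ Nat.card K2 = 128 := by
  refine table_group 128 s2 (by norm_num) s2_zero (fun i hi => good_s2 hi) _ ?_ s2_in (fun a ha b hb h => s2_inj ha hb h)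
  rintro g (rfl | rfl | rfl) i hi
  · rw [cd_F1]; exact ⟨_, step_tab stepF1 hi⟩
  · rw [cd_F2]; exact ⟨_, step_tab stepF2 hi⟩
  · rw [cd_F3]; exact ⟨_, step_tab stepF3 hi⟩

/-- an element of order five -/
noncomputable def z5 : GLM := (inH_u 1137 (by norm_num)).choose
theorem z5_mem : z5 ∈ H := (inH_u 1137 (by norm_num)).choose_spec.1
theorem cd_z5 : cd z5 = ut 1137 := (inH_u 1137 (by norm_num)).choose_spec.2
/-- an element of order seventeen -/
noncomputable def z17 : GLM := (inH_u 8 (by norm_num)).choose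
theorem z17_mem : z17 ∈ H := (inH_u 8 (by norm_num)).choose_spec.1
theorem cd_z17 : cd z17 = ut 8 := (inH_u 8 (by norm_num)).choose_spec.2

theorem chk17_spec {g : GLM} (h : chk17 (cd g) = true) : orderOf g = 17 := by
  have : Fact (Nat.Prime 17) := ⟨by norm_num⟩
  unfold chk17 at h
  cases e : Nat.beq (cd g) Ic with
  | true => rw [e] at h; exact absurd (show false = true from h) (by decide)
  | false =>
    rw [e, cond_false, force_eq, force_eq, force_eq, force_eq, ← cd_mul, ← cd_mul, ← cd_mul, ← cd_mul, ← cd_mul, ← cd_one] at h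
    have h1 := cd_inj (Nat.eq_of_beq_eq_true h)
    rw [← pow_two g, ← pow_add, ← pow_add, ← pow_add, ← pow_succ] at h1
    apply orderOf_eq_prime h1
    intro h2
    rw [h2, cd_one, Nat.beq_refl] at e
    exact absurd e (by decide)

theorem chk57_spec {g : GLM} (h : chk57 (cd g) = true) : 19 ∣ orderOf g := by
  unfold chk57 at h
  rw [force_eq, force_eq, ← cd_mul, ← cd_mul] at h
  cases e : Nat.beq (cd (g * g * g)) Ic with
  | true => rw [e] at h; exact absurd (show false = true from h) (by decide)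
  | false =>
    rw [e, cond_false, force_eq, force_eq, force_eq, force_eq, force_eq, ← cd_mul, ← cd_mul, ← cd_mul, ← cd_mul,
      ← cd_mul, ← cd_mul, ← cd_one] at h
    have h1 := cd_inj (Nat.eq_of_beq_eq_true h)
    rw [← pow_two g, ← pow_succ, ← pow_add, ← pow_add, ← pow_add, ← pow_add, ← pow_add, ← pow_add] at h1
    have h57 : g ^ 57 = 1 := h1
    have h3 : g ^ 3 ≠ 1 := by
      intro h2
      have : g * g * g = 1 := by rw [← h2, pow_succ, pow_two]
      rw [this, cd_one, Nat.beq_refl] at e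
      exact absurd e (by decide)
    have h4 := orderOf_dvd_of_pow_eq_one h57
    have h5 : ¬ orderOf g ∣ 3 := fun h => h3 (orderOf_dvd_iff_pow_eq_one.1 h)
    generalize orderOf g = n at h4 h5
    have hn : n ≤ 57 := Nat.le_of_dvd (by norm_num) h4
    have key : ∀ n ≤ 57, n ∣ 57 → ¬ n ∣ 3 → 19 ∣ n := by decide
    exact key n hn h4 h5

theorem order_z17 : orderOf z17 = 17 := by
  have h := wit17
  rw [force_eq, cond_and, ← cd_z17] at h
  exact chk17_spec h.1

theorem order_z5 : orderOf z5 = 5 := by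
  have : Fact (Nat.Prime 5) := ⟨by norm_num⟩
  have h := wit5
  rw [force_eq, force_eq, force_eq, ← cd_z5] at h
  cases e : Nat.beq (cd z5) Ic with
  | true => rw [e] at h; exact absurd (show false = true from h) (by decide)
  | false =>
    rw [e, cond_false, cond_and, ← cd_mul, ← cd_mul, ← cd_mul, ← cd_one] at h
    have h1 := cd_inj (Nat.eq_of_beq_eq_true h.1)
    rw [← pow_two z5, ← pow_add, ← pow_succ] at h1
    apply orderOf_eq_prime h1
    intro h2
    rw [h2, cd_one, Nat.beq_refl] at e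
    exact absurd e (by decide)

theorem order_x : orderOf xG = 19 := by
  have : Fact (Nat.Prime 19) := ⟨by norm_num⟩
  apply orderOf_eq_prime x_pow
  intro h
  have := congrArg cd h
  rw [cd_x, cd_one] at this
  exact absurd this (by decide +kernel)

theorem order_dvd {g : GLM} (hg : g ∈ H) {n : ℕ} (h : n ∣ orderOf g) : n ∣ Nat.card H := by
  refine h.trans ?_
  rw [← Subgroup.orderOf_mk g hg]
  exact orderOf_dvd_natCard _

theorem arith_card {N : ℕ} (h0 : N ≤ 150698880) (hpos : 0 < N) (h2 : 128 ∣ N) (h3 : 729 ∣ N) (h5 : 5 ∣ N) (h17 : 17 ∣ N)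
    (h19 : 19 ∣ N) : N = 150698880 := by
  have c1 : 93312 ∣ N := by
    have := Nat.Coprime.mul_dvd_of_dvd_of_dvd (by norm_num) h2 h3
    norm_num at this; exact this
  have c2 : 466560 ∣ N := by
    have := Nat.Coprime.mul_dvd_of_dvd_of_dvd (by norm_num) c1 h5
    norm_num at this; exact this
  have c3 : 7931520 ∣ N := by
    have := Nat.Coprime.mul_dvd_of_dvd_of_dvd (by norm_num) c2 h17
    norm_num at this; exact this
  have c4 : 150698880 ∣ N := by
    have := Nat.Coprime.mul_dvd_of_dvd_of_dvd (by norm_num) c3 h19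
    norm_num at this; exact this
  exact le_antisymm h0 (Nat.le_of_dvd hpos c4)

theorem card_H : Nat.card H = 150698880 := by
  apply arith_card card_H_le Nat.card_pos
  · rw [← K2_spec.2]; exact Subgroup.card_dvd_of_le K2_le
  · rw [← K3_spec.2]; exact Subgroup.card_dvd_of_le K3_le
  · exact order_dvd z5_mem (by rw [order_z5])
  · exact order_dvd z17_mem (by rw [order_z17])
  · exact order_dvd x_mem (by rw [order_x])

/-! ### scalars -/

/-- the scalar `ω` -/
noncomputable def oG : GLM := (inH_w 14 (by norm_num)).choose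
theorem o_mem : oG ∈ H := (inH_w 14 (by norm_num)).choose_spec.1
theorem cd_o : cd oG = O1c := by
  have h : wt 14 = O1c := by decide +kernel
  rw [← h]
  exact (inH_w 14 (by norm_num)).choose_spec.2

theorem o_val : (oG : Mt) = om • (1 : Mt) := by
  apply cdm_inj
  have h1 : cdm (oG : Mt) = O1c := cd_o
  have h2 : om • (1 : Mt) = dc O1c := by decide +kernel
  rw [h1, h2, cdm_dc (by decide +kernel)]

theorem o_comm (g : GLM) : oG * g = g * oG := by
  apply Units.ext
  rw [Units.val_mul, Units.val_mul, o_val, Matrix.smul_mul, Matrix.mul_smul, one_mul, mul_one]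

theorem o_sq : cd (oG * oG) = O2c := by
  rw [cd_mul, cd_o]; decide +kernel

theorem o_cube : oG ^ 3 = 1 := by
  apply cd_inj
  rw [cd_pow, cd_o, cd_one]; decide +kernel

theorem o_ne : oG ≠ 1 := by
  intro h
  have := congrArg cd h
  rw [cd_o, cd_one] at this
  exact absurd this (by decide +kernel)

theorem order_o : orderOf oG = 3 := by
  have : Fact (Nat.Prime 3) := ⟨by norm_num⟩
  exact orderOf_eq_prime o_cube o_ne

/-- elements of the group -/
abbrev W : Type := ↥H

noncomputable def oW : W := ⟨oG, o_mem⟩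
noncomputable def xW : W := ⟨xG, x_mem⟩
noncomputable def yW : W := ⟨yG, y_mem⟩
theorem xW_val : xW.1 = xG := rfl
theorem yW_val : yW.1 = yG := rfl

/-- the scalars -/
noncomputable def Z0 : Subgroup W := Subgroup.zpowers oW

theorem order_oW : orderOf oW = 3 := by rw [oW, Subgroup.orderOf_mk, order_o]

theorem card_Z0 : Nat.card Z0 = 3 := by rw [Z0, Nat.card_zpowers, order_oW]

theorem Z0_le_center : Z0 ≤ Subgroup.center W := by
  rw [Z0, Subgroup.zpowers_le, Subgroup.mem_center_iff]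
  intro g
  exact Subtype.ext (o_comm g.1).symm

theorem mem_Z0_of {g : W} (h : cd g.1 = Ic ∨ cd g.1 = O1c ∨ cd g.1 = O2c) : g ∈ Z0 := by
  rcases h with h | h | h
  · have : g = 1 := Subtype.ext (cd_inj (h.trans cd_one.symm))
    rw [this]; exact one_mem _
  · have : g = oW := Subtype.ext (cd_inj (h.trans cd_o.symm))
    rw [this]; exact Subgroup.mem_zpowers _
  · have : g = oW * oW := Subtype.ext (cd_inj (h.trans o_sq.symm))
    rw [this]; exact mul_mem (Subgroup.mem_zpowers _) (Subgroup.mem_zpowers _)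

instance : Z0.Normal := by
  constructor
  intro n hn g
  have := Subgroup.mem_center_iff.1 (Z0_le_center hn) g
  rw [this, mul_inv_cancel_right]
  exact hn

theorem card_W : Nat.card W = 150698880 := card_H

/-- the conjugating elements -/
theorem gt_spec {k : ℕ} (hk : k < 64) : ∃ g : W, cd g.1 = gt k ∧ cd (g⁻¹).1 = gv k := by
  have h := (allLt_iff.1 g_ok) k hk
  rw [cond_and, cond_and, cond_and] at h
  obtain ⟨h1, h2, h3, h4⟩ := h
  obtain ⟨g, hg, hg2⟩ := inH_u _ (Nat.le_of_ble_eq_true h1)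
  rw [Nat.eq_of_beq_eq_true h2] at hg2
  refine ⟨⟨g, hg⟩, hg2, ?_⟩
  have h5 := Nat.eq_of_beq_eq_true h4
  have h6 : (g : Mt) * dc (gv k) = 1 := by
    apply cdm_inj
    rw [← mu_cdm, cdm_dc h3, cdm_one, ← h5]
    exact congrArg (fun c => mu c (gv k)) hg2
  have h7 : ((g⁻¹ : GLM) : Mt) = dc (gv k) := by
    calc ((g⁻¹ : GLM) : Mt) = ((g⁻¹ : GLM) : Mt) * ((g : Mt) * dc (gv k)) := by rw [h6, mul_one]
      _ = dc (gv k) := by rw [← mul_assoc, Units.inv_mul, one_mul]
  show cdm ((g⁻¹ : GLM) : Mt) = gv k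
  rw [h7, cdm_dc h3]

theorem nng_spec {n : W} {k : ℕ} (hk : k < 64) {M : Subgroup W} [M.Normal] (hn : n ∈ M) :
    ∃ c ∈ M, cd c.1 = nng (cd n.1) k := by
  obtain ⟨g, hg, hg2⟩ := gt_spec hk
  refine ⟨n * (g * n * g⁻¹), mul_mem hn (Subgroup.Normal.conj_mem inferInstance n hn g), ?_⟩
  rw [nng, ← hg, ← hg2]
  show cd (n.1 * (g.1 * n.1 * (g⁻¹).1)) = _
  rw [cd_mul, cd_mul, cd_mul]

theorem dvd_of_mem {M : Subgroup W} {c : W} (hc : c ∈ M) {n : ℕ} (h : n ∣ orderOf c.1) : n ∣ Nat.card M := by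
  have h1 : orderOf c = orderOf c.1 := (Subgroup.orderOf_coe c).symm
  rw [← h1, ← Subgroup.orderOf_mk c hc] at h
  exact h.trans (orderOf_dvd_natCard _)

theorem r3_lt (i : ℕ) : r3 i < 64 := by
  have : r3 i ≤ 63 := Nat.and_le_right
  omega
theorem r2_lt (i : ℕ) : r2 i < 64 := by
  have : r2 i ≤ 63 := Nat.and_le_right
  omega

theorem step3 {M : Subgroup W} [M.Normal] {n : W} (hn : n ∈ M) (hk : n.1 ∈ K3) (h0 : n ∉ Z0) : 19 ∣ Nat.card M := by
  obtain ⟨i, hi, hi2⟩ := K3_spec.1 _ hk
  have h := (allLt_iff.1 wit3) i hi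
  rw [force_eq, ← hi2] at h
  have e1 : Nat.beq (cd n.1) Ic = false := by
    rw [Bool.eq_false_iff]; intro e; exact h0 (mem_Z0_of (Or.inl (Nat.eq_of_beq_eq_true e)))
  have e2 : Nat.beq (cd n.1) O1c = false := by
    rw [Bool.eq_false_iff]; intro e; exact h0 (mem_Z0_of (Or.inr (Or.inl (Nat.eq_of_beq_eq_true e))))
  have e3 : Nat.beq (cd n.1) O2c = false := by
    rw [Bool.eq_false_iff]; intro e; exact h0 (mem_Z0_of (Or.inr (Or.inr (Nat.eq_of_beq_eq_true e))))
  rw [e1, e2, e3, cond_false, cond_false, cond_false, force_eq] at h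
  obtain ⟨c, hc, hc2⟩ := nng_spec (r3_lt i) hn
  rw [← hc2] at h
  exact dvd_of_mem hc (chk57_spec h)

theorem step2 {M : Subgroup W} [M.Normal] {n : W} (hn : n ∈ M) (hk : n.1 ∈ K2) (h0 : n ≠ 1) : 17 ∣ Nat.card M := by
  obtain ⟨i, hi, hi2⟩ := K2_spec.1 _ hk
  have h := (allLt_iff.1 wit2) i hi
  rw [force_eq, ← hi2] at h
  have e1 : Nat.beq (cd n.1) Ic = false := by
    rw [Bool.eq_false_iff]; intro e
    exact h0 (Subtype.ext (cd_inj ((Nat.eq_of_beq_eq_true e).trans cd_one.symm)))
  rw [e1, cond_false, force_eq] at h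
  obtain ⟨c, hc, hc2⟩ := nng_spec (r2_lt i) hn
  rw [← hc2] at h
  exact dvd_of_mem hc (by rw [chk17_spec h])

theorem mem_of_prime {M : Subgroup W} [M.Normal] {p m : ℕ} (hp : p.Prime) (hm : 150698880 = p * m) (hpm : ¬ p ∣ m)
    (h : p ∣ Nat.card M) {z : W} (hz : orderOf z = p) : z ∈ M := by
  have : Fact p.Prime := ⟨hp⟩
  obtain ⟨n, hn⟩ := exists_prime_orderOf_dvd_card' p h
  have hn' : orderOf n.1 = p := by rw [Subgroup.orderOf_coe, hn]
  obtain ⟨u, k, hu, hk⟩ := conj_of_prime p m hp (by rw [card_W, hm]) hpm hn' hz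
  have h1 : z ^ k ∈ M := by
    rw [← hu]; exact Subgroup.Normal.conj_mem inferInstance _ n.2 u
  have hc : Nat.Coprime (orderOf z) k := by rw [hz]; exact (Nat.Prime.coprime_iff_not_dvd hp).2 hk
  obtain ⟨j, hj⟩ := exists_pow_eq_self_of_coprime hc.symm
  rw [← hj]
  exact pow_mem h1 j

theorem step17 {M : Subgroup W} [M.Normal] (h : 17 ∣ Nat.card M) : 19 ∣ Nat.card M := by
  have h1 := mem_of_prime (p := 17) (m := 8864640) (by norm_num) (by norm_num) (by norm_num) h
    (z := ⟨z17, z17_mem⟩) (by rw [Subgroup.orderOf_mk, order_z17])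
  obtain ⟨c, hc, hc2⟩ := nng_spec (k := 0) (by norm_num) h1
  have h2 := wit17
  rw [force_eq, cond_and, force_eq, ← cd_z17] at h2
  have h3 : chk57 (cd c.1) = true := by rw [hc2]; exact h2.2
  exact dvd_of_mem hc (chk57_spec h3)

theorem step5 {M : Subgroup W} [M.Normal] (h : 5 ∣ Nat.card M) : 19 ∣ Nat.card M := by
  have h1 := mem_of_prime (p := 5) (m := 30139776) (by norm_num) (by norm_num) (by norm_num) h
    (z := ⟨z5, z5_mem⟩) (by rw [Subgroup.orderOf_mk, order_z5])
  obtain ⟨c, hc, hc2⟩ := nng_spec (k := 11) (by norm_num) h1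
  have h2 := wit5
  rw [force_eq, force_eq, force_eq, ← cd_z5] at h2
  cases e : Nat.beq (cd z5) Ic with
  | true => rw [e] at h2; exact absurd (show false = true from h2) (by decide)
  | false =>
    rw [e, cond_false, cond_and, force_eq] at h2
    have h3 : chk57 (cd c.1) = true := by rw [hc2]; exact h2.2
    exact dvd_of_mem hc (chk57_spec h3)

theorem xy_top {M : Subgroup W} (hx : xW ∈ M) (hy : yW ∈ M) : M = ⊤ := by
  have h : H ≤ M.map H.subtype := by
    refine (Subgroup.closure_le (K := M.map H.subtype)).2 ?_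
    rintro g (hg | hg)
    · exact ⟨xW, hx, xW_val.trans hg.symm⟩
    · exact ⟨yW, hy, yW_val.trans hg.symm⟩
  rw [eq_top_iff]
  rintro ⟨g, hg⟩ -
  obtain ⟨m, hm, hm2⟩ := h hg
  have : m = ⟨g, hg⟩ := Subtype.ext hm2
  exact this ▸ hm

theorem aU_H : aU ∈ H := by rw [← H_eq]; exact aU_mem

theorem y_conj : yW = ⟨aU, aU_H⟩ * xW * (⟨aU, aU_H⟩ : W)⁻¹ := by
  rw [eq_mul_inv_iff_mul_eq]
  exact Subtype.ext y_eq

theorem step19 {M : Subgroup W} [M.Normal] (h : 19 ∣ Nat.card M) : M = ⊤ := by
  have h1 := mem_of_prime (p := 19) (m := 7931520) (by norm_num) (by norm_num) (by norm_num) h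
    (z := xW) (by rw [xW, Subgroup.orderOf_mk, order_x])
  refine xy_top h1 ?_
  rw [y_conj]
  exact Subgroup.Normal.conj_mem inferInstance _ h1 _

theorem fact2 : (Nat.card W).factorization 2 = 7 := by
  rw [card_W, show (150698880 : ℕ) = 2 ^ 7 * 1177335 by norm_num, Nat.factorization_mul (by norm_num) (by norm_num),
    Finsupp.add_apply, Nat.prime_two.factorization_pow, Nat.factorization_eq_zero_of_not_dvd (by norm_num : ¬ 2 ∣ 1177335)]
  simp

theorem fact3 : (Nat.card W).factorization 3 = 6 := by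
  rw [card_W, show (150698880 : ℕ) = 3 ^ 6 * 206720 by norm_num, Nat.factorization_mul (by norm_num) (by norm_num),
    Finsupp.add_apply, Nat.prime_three.factorization_pow, Nat.factorization_eq_zero_of_not_dvd (by norm_num : ¬ 3 ∣ 206720)]
  simp

theorem card_subOf {K : Subgroup GLM} (h : K ≤ H) : Nat.card (K.subgroupOf H) = Nat.card K :=
  Nat.card_congr (Subgroup.subgroupOfEquivOfLe h).toEquiv

/-- Sylow subgroups -/
noncomputable def syl2 : Sylow 2 W :=
  have : Fact (Nat.Prime 2) := ⟨Nat.prime_two⟩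
  Sylow.ofCard (K2.subgroupOf H) (by rw [card_subOf K2_le, K2_spec.2, fact2]; norm_num)

noncomputable def syl3 : Sylow 3 W :=
  have : Fact (Nat.Prime 3) := ⟨Nat.prime_three⟩
  Sylow.ofCard (K3.subgroupOf H) (by rw [card_subOf K3_le, K3_spec.2, fact3]; norm_num)

theorem mem_syl2 {g : W} : g ∈ (syl2 : Subgroup W) ↔ g.1 ∈ K2 := Iff.rfl
theorem mem_syl3 {g : W} : g ∈ (syl3 : Subgroup W) ↔ g.1 ∈ K3 := Iff.rfl

/-- normal subgroups properly containing the scalars -/
theorem top_of_gt {M : Subgroup W} [M.Normal] (hZ : Z0 < M) : M = ⊤ := by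
  apply step19
  have f2 : Fact (Nat.Prime 2) := ⟨Nat.prime_two⟩
  have f3 : Fact (Nat.Prime 3) := ⟨Nat.prime_three⟩
  have hcard : Nat.card M = 3 * Z0.relIndex M := by
    have := Subgroup.relIndex_mul_relIndex ⊥ Z0 M bot_le hZ.le
    rw [Subgroup.relIndex_bot_left, Subgroup.relIndex_bot_left, card_Z0] at this
    exact this.symm
  have hne : Z0.relIndex M ≠ 1 := fun h => hZ.not_ge (Subgroup.relIndex_eq_one.1 h)
  obtain ⟨r, hr, hr2⟩ := Nat.exists_prime_and_dvd hne
  have h1 : r ∣ Nat.card M := by rw [hcard]; exact hr2.mul_left 3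
  have h2 : r ∣ 150698880 := by rw [← card_W]; exact h1.trans (Subgroup.card_subgroup_dvd_card M)
  have h3 : r = 2 ∨ r = 3 ∨ r = 5 ∨ r = 17 ∨ r = 19 := by
    have e : (150698880 : ℕ) = 2 ^ 7 * (3 ^ 6 * (5 * (17 * 19))) := by norm_num
    rw [e] at h2
    rcases hr.dvd_mul.1 h2 with h | h
    · left; exact (Nat.prime_dvd_prime_iff_eq hr Nat.prime_two).1 (hr.dvd_of_dvd_pow h)
    rcases hr.dvd_mul.1 h with h | h
    · right; left; exact (Nat.prime_dvd_prime_iff_eq hr Nat.prime_three).1 (hr.dvd_of_dvd_pow h)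
    rcases hr.dvd_mul.1 h with h | h
    · right; right; left; exact (Nat.prime_dvd_prime_iff_eq hr (by norm_num)).1 h
    rcases hr.dvd_mul.1 h with h | h
    · right; right; right; left; exact (Nat.prime_dvd_prime_iff_eq hr (by norm_num)).1 h
    · right; right; right; right; exact (Nat.prime_dvd_prime_iff_eq hr (by norm_num)).1 h
  rcases h3 with rfl | rfl | rfl | rfl | rfl
  · apply step17
    obtain ⟨n, hn⟩ := exists_prime_orderOf_dvd_card' 2 h1
    have hP : IsPGroup 2 (Subgroup.zpowers n.1) := by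
      apply IsPGroup.of_card (n := 1)
      rw [Nat.card_zpowers, Subgroup.orderOf_coe, hn, pow_one]
    obtain ⟨P, hP'⟩ := hP.exists_le_sylow
    obtain ⟨u, hu⟩ := MulAction.exists_smul_eq W P syl2
    have h4 : u * n.1 * u⁻¹ ∈ (syl2 : Subgroup W) := by
      rw [← hu]
      exact ⟨n.1, hP' (Subgroup.mem_zpowers _), rfl⟩
    refine step2 (Subgroup.Normal.conj_mem inferInstance _ n.2 u) (mem_syl2.1 h4) ?_
    intro h5
    have h6 : n.1 = 1 := by
      have : n.1 = u⁻¹ * (u * n.1 * u⁻¹) * u := by group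
      rw [this, h5]; group
    have h7 : orderOf n = 1 := by rw [← Subgroup.orderOf_coe, h6, orderOf_one]
    omega
  · have h9 : 3 ^ 2 ∣ Nat.card M := by
      rw [hcard]; obtain ⟨q, hq⟩ := hr2; rw [hq]; exact ⟨q, by ring⟩
    obtain ⟨R, hR⟩ := Sylow.exists_subgroup_card_pow_prime 3 h9
    let R' : Subgroup W := R.map M.subtype
    have hR' : Nat.card R' = 9 := by
      rw [Subgroup.card_map_of_injective M.subtype_injective, hR]; norm_num
    have hP : IsPGroup 3 R' := IsPGroup.of_card (n := 2) (by rw [hR']; norm_num)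
    obtain ⟨P, hP'⟩ := hP.exists_le_sylow
    obtain ⟨u, hu⟩ := MulAction.exists_smul_eq W P syl3
    have h4 : ∀ n ∈ R', u * n * u⁻¹ ∈ (syl3 : Subgroup W) := by
      intro n hn
      rw [← hu]
      exact ⟨n, hP' hn, rfl⟩
    have h5 : ∃ n ∈ R', n ∉ Z0 := by
      by_contra hcon
      push Not at hcon
      have h6 : R' ≤ Z0 := hcon
      have := Subgroup.card_le_of_le h6
      rw [hR', card_Z0] at this
      omega
    obtain ⟨n, hn, hn0⟩ := h5
    have hnM : n ∈ M := by
      obtain ⟨m, -, rfl⟩ := hn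
      exact m.2
    refine step3 (Subgroup.Normal.conj_mem inferInstance _ hnM u) (mem_syl3.1 (h4 n hn)) ?_
    intro h7
    apply hn0
    have := Subgroup.Normal.conj_mem (inferInstance : Z0.Normal) _ h7 u⁻¹
    have e : u⁻¹ * (u * n * u⁻¹) * u⁻¹⁻¹ = n := by group
    rwa [e] at this
  · exact step5 h1
  · exact step17 h1
  · exact h1

end Cfsg.Agent.Lib.JThree
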