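import Cfsg.Agent.Lib.JThreeCent
import Cfsg.Agent.Lib.JThreeOutTab

/-!
Pairs (element of order 19, involution) of `3·J₃` with given relations.
-/

set_option autoImplicit false
set_option exponentiation.threshold 2000

namespace Cfsg.Agent.Lib.JThree

open Cfsg Cfsg.Agent.Lib.K4 Cfsg.Agent.Lib.F4Pack Cfsg.Agent.Lib.NatTree
open Cfsg.Agent.Lib.Golay (allLt allLt_iff)

theorem xW_cd : cd xW.1 = Xc := cd_x
theorem yW_cd : cd yW.1 = Yc := cd_y

theorem xW_pow : xW ^ 19 = 1 := Subtype.ext (by rw [Subgroup.coe_pow, xW_val, Subgroup.coe_one]; exact x_pow)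

theorem xpt_spec : ∀ a < 19, cd (xW ^ a).1 = xpt a := by
  have h := xpt_ok
  rw [cond_and] at h
  intro a
  induction a with
  | zero => intro _; rw [pow_zero, cdW_one, Nat.eq_of_beq_eq_true h.1]
  | succ a ih =>
    intro ha
    have h1 := (allLt_iff.1 h.2) a (by omega)
    rw [pow_succ, cdW_mul, ih (by omega), xW_cd]
    exact Nat.eq_of_beq_eq_true h1

/-- scalars -/
theorem isZ_iff {w : W} : isZ (cd w.1) = true ↔ w ∈ Z0 := by
  constructor
  · intro h
    apply mem_Z0_of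
    unfold isZ at h
    cases e1 : Nat.beq (cd w.1) Ic with
    | true => exact Or.inl (Nat.eq_of_beq_eq_true e1)
    | false =>
      rw [e1, cond_false] at h
      cases e2 : Nat.beq (cd w.1) O1c with
      | true => exact Or.inr (Or.inl (Nat.eq_of_beq_eq_true e2))
      | false =>
        rw [e2, cond_false] at h
        exact Or.inr (Or.inr (Nat.eq_of_beq_eq_true h))
  · intro h
    have h1 : w = 1 ∨ w = oW ∨ w = oW * oW := by
      classical
      rw [Z0, mem_zpowers_iff_mem_range_orderOf, order_oW] at h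
      obtain ⟨k, hk, hk2⟩ := Finset.mem_image.1 h
      rw [Finset.mem_range] at hk
      have hk2' : oW ^ k = w := hk2
      interval_cases k
      · left; rw [← hk2', pow_zero]
      · right; left; rw [← hk2', pow_one]
      · right; right; rw [← hk2', pow_two]
    have hi : ∀ c : ℕ, (c = Ic ∨ c = O1c ∨ c = O2c) → isZ c = true := by
      rintro c (rfl | rfl | rfl)
      · unfold isZ; rw [Nat.beq_refl, cond_true]
      · unfold isZ; rw [Nat.beq_refl, cond_true]; cases Nat.beq O1c Ic <;> rfl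
      · unfold isZ; rw [Nat.beq_refl]; cases Nat.beq O2c Ic <;> cases Nat.beq O2c O1c <;> rfl
    apply hi
    rcases h1 with rfl | rfl | rfl
    · exact Or.inl cdW_one
    · exact Or.inr (Or.inl cd_o)
    · exact Or.inr (Or.inr o_sq)

/-- the involution -/
theorem inH_b0 : InH B0c := by
  rw [← Nat.eq_of_beq_eq_true b0_in]; exact inH_uvw (by norm_num) (by norm_num) (by norm_num)
noncomputable def b0 : W := (exists_W inH_b0).choose
theorem cd_b0 : cd b0.1 = B0c := (exists_W inH_b0).choose_spec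

theorem b0_mul : b0 * b0 = 1 := by
  apply W_ext
  rw [cdW_mul, cd_b0, cdW_one]
  have h := b0_sq
  cases e : Nat.beq B0c Ic with
  | true => rw [e] at h; exact absurd (show false = true from h) (by decide)
  | false => rw [e, cond_false] at h; exact Nat.eq_of_beq_eq_true h

theorem b0_ne : b0 ≠ 1 := by
  intro h1
  have h := b0_sq
  rw [← cd_b0, h1, cdW_one, Nat.beq_refl] at h
  exact absurd (show false = true from h) (by decide)

/-- the two relations -/
def Rel (b : W) : Prop := (b * xW) ^ 3 ∈ Z0 ∧ (b * xW ^ 3) ^ 6 ∈ Z0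

theorem pow_six (r : W) : r * r * r * (r * r * r) = r ^ 6 := by
  rw [← pow_two r, ← pow_succ, ← pow_add]

theorem pow_three' (r : W) : r * r * r = r ^ 3 := by
  rw [← pow_two r, ← pow_succ]

theorem b0_rel' : Rel b0 := by
  have h := b0_rel
  rw [cond_and, force_eq, force_eq, force_eq, force_eq, force_eq, ← xpt_spec 3 (by norm_num), ← xW_cd, ← cd_b0] at h
  rw [← cdW_mul, ← cdW_mul, ← cdW_mul, ← cdW_mul, ← cdW_mul, ← cdW_mul, ← cdW_mul, isZ_iff, isZ_iff] at h
  rw [pow_six, pow_three'] at h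
  exact h

theorem orp_lt {k : ℕ} (hk : k < 324) : orp k < 6156 := Nat.le_of_ble_eq_true ((allLt_iff.1 orp_ok) k hk)

theorem ax_step {i : ℕ} (hi : i < 6156) : ∃ (h : Nat.land (ax i) 8191 < 6156), ∃ s ∈ BW,
    xW * uW ⟨i, hi⟩ = uW ⟨_, h⟩ * s := by
  have h := (allLt_iff.1 stepX) i hi
  rw [force_eq] at h
  obtain ⟨h1, h2, h3⟩ := step_u' h
  obtain ⟨s, hs⟩ := exists_W (S1_InH h2)
  refine ⟨h1, s, by rw [mem_BW, hs]; exact h2, ?_⟩
  apply W_ext
  rw [cdW_mul, cdW_mul, xW_cd, cd_uW, cd_uW, hs]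
  exact h3

/-- every coset is a translate of a representative under a power -/
theorem orbit_rep : ∀ m : ℕ, ∀ i : ℕ, ∀ hi : i < 6156, Nat.land (ot i) 31 = m →
    ∃ (k : ℕ) (hk : k < 324) (n : ℕ), ∃ s ∈ BW, xW ^ n * uW ⟨orp k, orp_lt hk⟩ = uW ⟨i, hi⟩ * s := by
  intro m
  induction m with
  | zero =>
    intro i hi hm
    have h := (allLt_iff.1 ot_ok) i hi
    rw [force_eq, hm, show Nat.beq 0 0 = true by decide, cond_true, cond_and] at h
    have h1 : Nat.shiftRight (ot i) 5 < 324 := Nat.le_of_ble_eq_true h.1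
    have h2 := Nat.eq_of_beq_eq_true h.2
    refine ⟨_, h1, 0, 1, one_mem _, ?_⟩
    rw [pow_zero, one_mul, mul_one]
    exact congrArg uW (Fin.ext h2)
  | succ m ih =>
    intro i hi hm
    have h := (allLt_iff.1 ot_ok) i hi
    have e0 : Nat.beq (Nat.succ m) 0 = false := rfl
    rw [force_eq, hm, show Nat.beq (m + 1) 0 = false from e0, cond_false, cond_and, cond_and] at h
    obtain ⟨h1, h2, h3⟩ := h
    have h1' : Nat.shiftRight (ot i) 5 < 6156 := Nat.le_of_ble_eq_true h1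
    have h2' := Nat.eq_of_beq_eq_true h2
    have h3' := Nat.eq_of_beq_eq_true h3
    obtain ⟨k, hk, n, s, hs, h4⟩ := ih _ h1' (Nat.succ.inj h3')
    obtain ⟨h5, r, hr, h6⟩ := ax_step h1'
    refine ⟨k, hk, n + 1, r * s, mul_mem hr hs, ?_⟩
    rw [pow_succ', mul_assoc, h4, ← mul_assoc, h6, mul_assoc]
    exact congrArg (fun z => uW z * (r * s)) (Fin.ext h2')

theorem exists_rep (i : Fin 6156) : ∃ (k : ℕ) (hk : k < 324) (n : ℕ), ∃ s ∈ BW,
    xW ^ n * uW ⟨orp k, orp_lt hk⟩ = uW i * s := orbit_rep _ i i.2 rfl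

theorem xt_spec {k : ℕ} (hk : k < 324) : ∃ X : W, cd X.1 = xt k ∧
    xW * uW ⟨orp k, orp_lt hk⟩ = uW ⟨orp k, orp_lt hk⟩ * X := by
  have h := (allLt_iff.1 xt_ok) k hk
  rw [cond_and] at h
  obtain ⟨h1, h2⟩ := h
  have h3 := Nat.eq_of_beq_eq_true h2
  refine ⟨(uW ⟨orp k, orp_lt hk⟩)⁻¹ * (xW * uW ⟨orp k, orp_lt hk⟩), ?_, by rw [mul_inv_cancel_left]⟩
  rw [cdW_mul, cdW_mul, xW_cd, cd_uW, h3, ← mu_assoc (good_cd _) (good_u (orp_lt hk)) (good_of_ok h1),
    show ut (orp k) = cd (uW ⟨orp k, orp_lt hk⟩).1 from (cd_uW ⟨orp k, orp_lt hk⟩).symm, ← cdW_mul, inv_mul_cancel, cdW_one,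
    mu_Ic_left (good_of_ok h1)]

theorem tstK_ok {k : ℕ} (hk : k < 324) : tstK k = true := by
  have h1 : k / 18 < 18 := by omega
  have h2 := (allLt_iff.1 (tst_ok h1)) (k % 18) (by omega)
  have h3 : Nat.add (Nat.mul 18 (k / 18)) (k % 18) = k := Nat.div_add_mod k 18
  rw [h3] at h2
  exact h2

/-- conjugates of `b0` under powers -/
def Pc (b : W) : Prop := ∃ a : ℕ, b = xW ^ a * b0 * (xW ^ a)⁻¹

theorem Rel_conj {b : W} (n : ℕ) : Rel (xW ^ n * b * (xW ^ n)⁻¹) → Rel b := by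
  have hz : ∀ (c w : W) (j : ℕ), (c * w * c⁻¹) ^ j ∈ Z0 → w ^ j ∈ Z0 := by
    intro c w j h
    rw [conj_pow] at h
    have h1 := Subgroup.Normal.conj_mem (inferInstance : Z0.Normal) _ h c⁻¹
    have e : c⁻¹ * (c * w ^ j * c⁻¹) * (c⁻¹)⁻¹ = w ^ j := by group
    rwa [e] at h1
  rintro ⟨h1, h2⟩
  constructor
  · apply hz (xW ^ n)
    have e : xW ^ n * (b * xW) * (xW ^ n)⁻¹ = xW ^ n * b * (xW ^ n)⁻¹ * xW := by
      have hc : xW * (xW ^ n)⁻¹ = (xW ^ n)⁻¹ * xW := ((Commute.refl xW).pow_right n).inv_right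
      rw [mul_assoc, mul_assoc, hc]; group
    rw [e]; exact h1
  · apply hz (xW ^ n)
    have e : xW ^ n * (b * xW ^ 3) * (xW ^ n)⁻¹ = xW ^ n * b * (xW ^ n)⁻¹ * xW ^ 3 := by
      have hc : xW ^ 3 * (xW ^ n)⁻¹ = (xW ^ n)⁻¹ * xW ^ 3 := (((Commute.refl xW).pow_right n).pow_left 3).inv_right
      rw [mul_assoc, mul_assoc, hc]; group
    rw [e]; exact h2

/-- conjugates of members of the class in the subgroup -/
theorem good_pair {k n : ℕ} (hk : k < 324) (hn : n < 68) {s : W} (hs : cd s.1 = tb n)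
    (h : Rel (uW ⟨orp k, orp_lt hk⟩ * s * (uW ⟨orp k, orp_lt hk⟩)⁻¹)) :
    Pc (uW ⟨orp k, orp_lt hk⟩ * s * (uW ⟨orp k, orp_lt hk⟩)⁻¹) := by
  set u := uW ⟨orp k, orp_lt hk⟩ with hu
  obtain ⟨X, hX, hX2⟩ := xt_spec hk
  rw [← hu] at hX2
  have hz : ∀ (c w : W) (j : ℕ), (c * w * c⁻¹) ^ j ∈ Z0 → w ^ j ∈ Z0 := by
    intro c w j h
    rw [conj_pow] at h
    have h1 := Subgroup.Normal.conj_mem (inferInstance : Z0.Normal) _ h c⁻¹
    have e : c⁻¹ * (c * w ^ j * c⁻¹) * (c⁻¹)⁻¹ = w ^ j := by group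
    rwa [e] at h1
  have hX3 : xW = u * X * u⁻¹ := by rw [← hX2, mul_inv_cancel_right]
  obtain ⟨h1, h2⟩ := h
  have r1 : (s * X) ^ 3 ∈ Z0 := by
    apply hz u
    have e : u * (s * X) * u⁻¹ = u * s * u⁻¹ * xW := by rw [hX3]; group
    rw [e]; exact h1
  have r2 : (s * (X * (X * X))) ^ 6 ∈ Z0 := by
    apply hz u
    have e : u * (s * (X * (X * X))) * u⁻¹ = u * s * u⁻¹ * xW ^ 3 := by
      rw [hX3, conj_pow, pow_succ, pow_two]; group
    rw [e]; exact h2
  have ht := tstK_ok hk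
  unfold tstK at ht
  rw [force_eq, force_eq] at ht
  have ht2 := (allLt_iff.1 ht) n hn
  unfold tst at ht2
  rw [← pow_three', ← isZ_iff] at r1
  rw [← pow_six, ← isZ_iff] at r2
  rw [force_eq, force_eq, force_eq, force_eq, force_eq, force_eq, force_eq, ← hs, ← hX] at ht2
  rw [← cdW_mul, ← cdW_mul, ← cdW_mul, ← cdW_mul, ← cdW_mul, ← cdW_mul, ← cdW_mul, ← cdW_mul, ← cdW_mul, r1, r2,
    cond_true, cond_true] at ht2
  by_contra hcon
  have hall : allLt 16 (fun m => cond (Nat.beq (Nat.land (gd m) 32767) (Nat.add (Nat.mul 68 k) n)) false true) = true := by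
    rw [allLt_iff]
    intro m hm
    cases e : Nat.beq (Nat.land (gd m) 32767) (Nat.add (Nat.mul 68 k) n) with
    | false => rfl
    | true =>
      exfalso
      apply hcon
      have e1 := Nat.eq_of_beq_eq_true e
      have hg := (allLt_iff.1 gd_ok) m hm
      have ek : Nat.div (Nat.add (Nat.mul 68 k) n) 68 = k := by
        show (68 * k + n) / 68 = k
        omega
      have en : Nat.mod (Nat.add (Nat.mul 68 k) n) 68 = n := by
        show (68 * k + n) % 68 = n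
        omega
      rw [force_eq, force_eq, force_eq, force_eq, e1, ek, en, cond_and, cond_and] at hg
      obtain ⟨g1, -, g3⟩ := hg
      have g1' : Nat.shiftRight (gd m) 15 < 19 := Nat.le_of_ble_eq_true g1
      set a := Nat.shiftRight (gd m) 15 with ha
      refine ⟨a, ?_⟩
      have hlt : Nat.mod (Nat.sub 19 a) 19 < 19 := Nat.mod_lt _ (by norm_num)
      have hinv : (xW ^ a)⁻¹ = xW ^ (Nat.mod (Nat.sub 19 a) 19) := by
        apply inv_eq_of_mul_eq_one_right
        rw [← pow_add]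
        apply orderOf_dvd_iff_pow_eq_one.1
        have : orderOf xW ∣ 19 := orderOf_dvd_of_pow_eq_one xW_pow
        refine this.trans ?_
        have e2 : Nat.mod (Nat.sub 19 a) 19 = (19 - a) % 19 := rfl
        rw [e2]
        omega
      rw [← xpt_spec a g1', ← xpt_spec _ hlt, ← hinv, ← cd_b0, ← cd_uW ⟨orp k, orp_lt hk⟩, ← hs] at g3
      rw [← cdW_mul, ← cdW_mul, ← cdW_mul, ← cdW_mul] at g3
      have g4 := W_ext (Nat.eq_of_beq_eq_true g3)
      rw [← hu, ← mul_assoc] at g4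
      rw [← g4, mul_inv_cancel_right]
  rw [hall] at ht2
  exact absurd (show false = true from ht2) (by decide)

/-- involutions with the relations -/
theorem Pc_of_rel {b : W} (h1 : b ≠ 1) (h2 : b * b = 1) (h : Rel b) : Pc b := by
  obtain ⟨g, hg⟩ := isConj_iff.1 (conj_tW h1 h2).symm
  obtain ⟨i, c, hc, rfl⟩ := exists_u g
  obtain ⟨k, hk, m, s, hs, hrep⟩ := exists_rep i
  obtain ⟨n, hn, hn2⟩ := conj_in (b := s⁻¹ * c) (mul_mem (inv_mem hs) hc)
  have e1 : b = xW ^ m * (uW ⟨orp k, orp_lt hk⟩ * (s⁻¹ * c * tW * (s⁻¹ * c)⁻¹) * (uW ⟨orp k, orp_lt hk⟩)⁻¹) * (xW ^ m)⁻¹ := by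
    have e2 : uW i = xW ^ m * uW ⟨orp k, orp_lt hk⟩ * s⁻¹ := by rw [hrep, mul_inv_cancel_right]
    rw [← hg, e2]; group
  rw [e1] at h
  obtain ⟨a, ha⟩ := good_pair hk hn hn2 (Rel_conj m h)
  refine ⟨m + a, ?_⟩
  rw [e1, ha, pow_add]; group

end Cfsg.Agent.Lib.JThree
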