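import Cfsg.Agent.Lib.JThreeMove

/-!
The projection of `3·J₃` (over the computable field) to the Janko group over any field with four elements.
-/

set_option autoImplicit false

namespace Cfsg.Agent.Lib.JThree

open Cfsg Cfsg.Agent.Lib.K4

theorem exists_psi (F : Type*) [Field F] [Fintype F] (hF : Fintype.card F = 4) (ω : F) (hω : ω ^ 2 + ω + 1 = 0) :
    ∃ ψ : W →* Spor.J3 F ω, Function.Surjective ψ ∧ ψ.ker = Subgroup.center W := by
  obtain ⟨φ, h⟩ := exists_iso F hF ω hω
  let e := mv h
  refine ⟨(QuotientGroup.mk' (Subgroup.center (Spor.threeJ3 F ω))).comp e.symm.toMonoidHom, ?_, ?_⟩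
  · exact (QuotientGroup.mk'_surjective _).comp e.symm.surjective
  · ext w
    rw [MonoidHom.mem_ker, MonoidHom.comp_apply]
    constructor
    · intro hw
      have h1 : e.symm w ∈ Subgroup.center (Spor.threeJ3 F ω) := (QuotientGroup.eq_one_iff _).1 hw
      rw [← map_center e]
      exact ⟨e.symm w, h1, e.apply_symm_apply w⟩
    · intro hw
      rw [← map_center e] at hw
      obtain ⟨g, hg, rfl⟩ := hw
      have h1 : e.symm.toMonoidHom (e.toMonoidHom g) = g := e.symm_apply_apply g
      rw [h1]
      exact (QuotientGroup.eq_one_iff _).2 hg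

end Cfsg.Agent.Lib.JThree
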