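import Cfsg.Agent.Lib.JThreeOutA
import Cfsg.Agent.Lib.JThreePsi
import Cfsg.Agent.Lib.JThreeCentMain
import Cfsg.Agent.Lib.ConjPrime
import Cfsg.Prelude.Def_KGroupFacts

/-!
The outer automorphism group of `J₃` has order two.
-/

set_option autoImplicit false
set_option exponentiation.threshold 2000

namespace Cfsg.Agent.Lib.JThree

open Cfsg Cfsg.Agent.Lib.K4 Cfsg.Agent.Lib.F4Pack Cfsg.Agent.Lib.NatTree Cfsg.Agent.Lib.ConjPrime
open Cfsg.Agent.Lib.Golay (allLt allLt_iff)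

/-! ### the field automorphism -/

/-- conjugation of the index set -/
def cjE : Spor.F9 ≃ Spor.F9 where
  toFun z := (z.1, -z.2)
  invFun z := (z.1, -z.2)
  left_inv z := by ext <;> simp
  right_inv z := by ext <;> simp

theorem cjE_cjE (z : Spor.F9) : cjE (cjE z) = z := cjE.left_inv z

theorem frob_frob (a : K4) : frob (frob a) = a := frob.left_inv a

/-- the semilinear conjugation on matrices -/
def sM : Mt ≃* Mt where
  toFun A := (A.submatrix cjE cjE).map frob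
  invFun A := (A.submatrix cjE cjE).map frob
  left_inv A := by
    ext i j
    show frob (frob (A (cjE (cjE i)) (cjE (cjE j)))) = A i j
    rw [frob_frob, cjE_cjE, cjE_cjE]
  right_inv A := by
    ext i j
    show frob (frob (A (cjE (cjE i)) (cjE (cjE j)))) = A i j
    rw [frob_frob, cjE_cjE, cjE_cjE]
  map_mul' A B := by
    rw [← Matrix.submatrix_mul_equiv A B cjE cjE cjE, Matrix.map_mul]

theorem sM_apply (A : Mt) (i j : Spor.F9) : sM A i j = frob (A (cjE i) (cjE j)) := rfl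

theorem sM_sM (A : Mt) : sM (sM A) = A := sM.left_inv A

/-- on invertible matrices -/
def sU : GLM ≃* GLM := Units.mapEquiv sM

theorem sU_val (g : GLM) : ((sU g : GLM) : Mt) = sM (g : Mt) := rfl

theorem sU_sU (g : GLM) : sU (sU g) = g := Units.ext (by rw [sU_val, sU_val, sM_sM])

/-- equality of matrices, as a Boolean -/
def eqM (f g : Spor.F9 → Spor.F9 → K4) : Bool := decide (∀ i j, f i j = g i j)
theorem eqM_spec {f g : Spor.F9 → Spor.F9 → K4} (h : eqM f g = true) : ∀ i j, f i j = g i j := of_decide_eq_true h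

theorem sx_mat : ∀ i j : Spor.F9, frob (dc Xc (cjE i) (cjE j)) = dc SXc i j :=
  eqM_spec (f := fun i j => frob (dc Xc (cjE i) (cjE j))) (g := fun i j => dc SXc i j) (by decide +kernel)
theorem sy_mat : ∀ i j : Spor.F9, frob (dc Yc (cjE i) (cjE j)) = dc SYc i j :=
  eqM_spec (f := fun i j => frob (dc Yc (cjE i) (cjE j))) (g := fun i j => dc SYc i j) (by decide +kernel)

theorem cd_sx : cd (sU xG) = SXc := by
  have h := sx_in
  rw [cond_and] at h
  have h1 : sM (dc Xc) = dc SXc := Matrix.ext fun i j => (sM_apply _ i j).trans (sx_mat i j)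
  have h2 : cd (sU xG) = cdm (sM (dc Xc)) := rfl
  rw [h2, h1, cdm_dc h.1]

theorem cd_sy : cd (sU yG) = SYc := by
  have h := sy_in
  rw [cond_and] at h
  have h1 : sM (dc Yc) = dc SYc := Matrix.ext fun i j => (sM_apply _ i j).trans (sy_mat i j)
  have h2 : cd (sU yG) = cdm (sM (dc Yc)) := rfl
  rw [h2, h1, cdm_dc h.1]

theorem sx_mem : sU xG ∈ H := by
  apply mem_of_inH
  have h := sx_in
  rw [cond_and] at h
  rw [cd_sx, ← Nat.eq_of_beq_eq_true h.2]
  exact inH_uvw (by norm_num) (by norm_num) (by norm_num)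

theorem sy_mem : sU yG ∈ H := by
  apply mem_of_inH
  have h := sy_in
  rw [cond_and] at h
  rw [cd_sy, ← Nat.eq_of_beq_eq_true h.2]
  exact inH_uvw (by norm_num) (by norm_num) (by norm_num)

theorem sU_mem : ∀ g ∈ H, sU g ∈ H := by
  have h : H ≤ H.comap sU.toMonoidHom := by
    refine (Subgroup.closure_le (K := H.comap sU.toMonoidHom)).2 ?_
    rintro g (hg | hg)
    · rw [hg]; exact sx_mem
    · rw [Set.mem_singleton_iff] at hg
      rw [hg]; exact sy_mem
  exact h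

/-- the automorphism of the triple cover -/
def sW : W ≃* W where
  toFun g := ⟨sU g.1, sU_mem _ g.2⟩
  invFun g := ⟨sU g.1, sU_mem _ g.2⟩
  left_inv g := Subtype.ext (sU_sU g.1)
  right_inv g := Subtype.ext (sU_sU g.1)
  map_mul' a b := Subtype.ext (map_mul sU a.1 b.1)

theorem sW_val (g : W) : (sW g).1 = sU g.1 := rfl
theorem sW_sW (g : W) : sW (sW g) = g := sW.left_inv g

theorem sW_o : sW oW ≠ oW := by
  intro h
  have h1 : sU oG = oG := congrArg Subtype.val h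
  have h2 : sM (om • (1 : Mt)) = om • (1 : Mt) := by
    have := congrArg Units.val h1
    rw [sU_val, o_val] at this
    exact this
  have h3 := congrFun (congrFun h2 0) 0
  exact absurd h3 (by decide +kernel)

/-- the projection -/
noncomputable abbrev pj : W →* JJ := QuotientGroup.mk' (Subgroup.center W)

theorem pj_surj : Function.Surjective pj := QuotientGroup.mk'_surjective _

theorem pj_eq_one {w : W} : pj w = 1 ↔ w ∈ Z0 := by
  rw [← center_eq]
  exact QuotientGroup.eq_one_iff w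

/-- the automorphism of the simple group -/
noncomputable def sJ : MulAut JJ := quotCongr sW

theorem sJ_pj (w : W) : sJ (pj w) = pj (sW w) := rfl

theorem sJ_sJ (g : JJ) : sJ (sJ g) = g := by
  obtain ⟨w, rfl⟩ := pj_surj g
  rw [sJ_pj, sJ_pj, sW_sW]

theorem Z0_cube {z : W} (hz : z ∈ Z0) : z ^ 3 = 1 := by
  have h4 := orderOf_dvd_natCard (⟨z, hz⟩ : Z0)
  rw [card_Z0, Subgroup.orderOf_mk] at h4
  exact orderOf_dvd_iff_pow_eq_one.1 h4

theorem Z0_comm {z : W} (hz : z ∈ Z0) (g : W) : g * z = z * g := Subgroup.mem_center_iff.1 (Z0_le_center hz) g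

theorem yW_pow : yW ^ 19 = 1 := Subtype.ext (by rw [Subgroup.coe_pow, yW_val, Subgroup.coe_one]; exact y_pow)

/-- elements of order 19 with the same image are equal -/
theorem eq_of_pj {a b : W} (ha : a ^ 19 = 1) (hb : b ^ 19 = 1) (h : pj a = pj b) : a = b := by
  have h1 : a * b⁻¹ ∈ Z0 := by rw [← pj_eq_one, map_mul, map_inv, h, mul_inv_cancel]
  have h2 := Z0_cube h1
  set z := a * b⁻¹ with hz
  have h3 : a = z * b := by rw [hz, inv_mul_cancel_right]
  have hc : Commute z b := (Z0_comm h1 b).symm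
  have h4 : z ^ 19 = 1 := by
    rw [h3, hc.mul_pow, hb, mul_one] at ha
    exact ha
  have h5 : z = 1 := by
    have : z ^ 19 = (z ^ 3) ^ 6 * z := by rw [← pow_mul, ← pow_succ]
    rw [this, h2, one_pow, one_mul] at h4
    exact h4
  rw [h3, h5, one_mul]

theorem xy_closure : ∀ N : Subgroup W, xW ∈ N → yW ∈ N → N = ⊤ := fun _ h1 h2 => xy_top h1 h2

theorem sJ_not_inner : sJ ∉ Inn JJ := by
  rintro ⟨c, hc⟩
  obtain ⟨g, rfl⟩ := pj_surj c
  have h1 : ∀ w : W, pj (sW w) = pj (g * w * g⁻¹) := by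
    intro w
    have h2 := congrArg (fun φ : MulAut JJ => φ (pj w)) hc
    have h3 : pj g * pj w * (pj g)⁻¹ = sJ (pj w) := h2
    rw [← sJ_pj, ← h3, map_mul, map_mul, map_inv]
  let τ : W →* W := (MulAut.conj g).toMonoidHom
  have hτ : ∀ w, τ w = g * w * g⁻¹ := fun w => rfl
  have hx : sW xW = τ xW := by
    refine eq_of_pj (by rw [← map_pow, xW_pow, map_one]) (by rw [← map_pow, xW_pow, map_one]) ?_
    rw [hτ]; exact h1 xW
  have hy : sW yW = τ yW := by
    refine eq_of_pj (by rw [← map_pow, yW_pow, map_one]) (by rw [← map_pow, yW_pow, map_one]) ?_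
    rw [hτ]; exact h1 yW
  have htop : sW.toMonoidHom.eqLocus τ = ⊤ := xy_closure _ hx hy
  have ho : oW ∈ sW.toMonoidHom.eqLocus τ := by rw [htop]; exact Subgroup.mem_top _
  have ho' : sW oW = g * oW * g⁻¹ := ho
  apply sW_o
  rw [ho', Z0_comm (Subgroup.mem_zpowers oW) g, mul_inv_cancel_right]

/-! ### inner automorphisms -/

/-- the images -/
noncomputable def xJ : JJ := pj xW
noncomputable def yJ : JJ := pj yW
noncomputable def bJ : JJ := pj b0

theorem word_W : yW = oW * (xW ^ 9 * b0 * xW ^ 2 * b0 * xW ^ 5 * b0 * xW ^ 9 * b0 * xW ^ 3 * b0 * xW ^ 2 * b0 * xW ^ 9 * b0 *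
    xW ^ 7) := by
  apply W_ext
  have h := word_ok
  rw [force_eq, force_eq, force_eq, force_eq, force_eq, force_eq, force_eq] at h
  rw [yW_cd, Nat.eq_of_beq_eq_true h]
  rw [cdW_mul, cdW_mul, cdW_mul, cdW_mul, cdW_mul, cdW_mul, cdW_mul, cdW_mul, cdW_mul, cdW_mul, cdW_mul, cdW_mul,
    cdW_mul, cdW_mul, cdW_mul, cd_b0, xpt_spec 9 (by norm_num), xpt_spec 2 (by norm_num), xpt_spec 5 (by norm_num),
    xpt_spec 3 (by norm_num), xpt_spec 7 (by norm_num), show cd oW.1 = O1c from cd_o]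

theorem pj_o : pj oW = 1 := pj_eq_one.2 (Subgroup.mem_zpowers oW)

theorem word_J : yJ = xJ ^ 9 * bJ * xJ ^ 2 * bJ * xJ ^ 5 * bJ * xJ ^ 9 * bJ * xJ ^ 3 * bJ * xJ ^ 2 * bJ * xJ ^ 9 * bJ *
    xJ ^ 7 := by
  have h := congrArg pj word_W
  rw [map_mul, pj_o, one_mul] at h
  simp only [map_mul, map_pow] at h
  exact h

theorem J_top {N : Subgroup JJ} (hx : xJ ∈ N) (hy : yJ ∈ N) : N = ⊤ := by
  have h : N.comap pj = ⊤ := xy_closure _ hx hy
  rw [eq_top_iff]
  intro g _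
  obtain ⟨w, rfl⟩ := pj_surj g
  have : w ∈ N.comap pj := by rw [h]; exact Subgroup.mem_top _
  exact this

theorem eq_id (β : JJ →* JJ) (hx : β xJ = xJ) (hb : β bJ = bJ) (g : JJ) : β g = g := by
  have hy : β yJ = yJ := by
    rw [word_J]
    simp only [map_mul, map_pow, hx, hb]
  have h1 : β.eqLocus (MonoidHom.id JJ) = ⊤ := J_top hx hy
  have h2 : g ∈ β.eqLocus (MonoidHom.id JJ) := by rw [h1]; exact Subgroup.mem_top _
  exact h2

theorem inner_of_fix (β : MulAut JJ) (hβ : β xJ = xJ) : β ∈ Inn JJ := by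
  have hk : pj.ker = Subgroup.center W := QuotientGroup.ker_mk' _
  have hbb : β bJ * β bJ = 1 := by
    rw [← map_mul, bJ, ← map_mul, b0_mul, map_one, map_one]
  obtain ⟨w, hw, hw2⟩ := exists_lift pj hk pj_surj hbb
  have hw1 : w ≠ 1 := by
    intro h
    rw [h, map_one] at hw2
    have h2 : bJ = 1 := by
      have := congrArg β.symm hw2.symm
      rwa [MulEquiv.symm_apply_apply, map_one] at this
    have h3 : b0 ∈ Z0 := pj_eq_one.1 h2
    have h4 := Z0_cube h3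
    apply b0_ne
    rw [← h4, pow_succ, pow_two, b0_mul, one_mul]
  have hrel : Rel w := by
    obtain ⟨r1, r2⟩ := b0_rel'
    rw [← pj_eq_one, map_pow, map_mul] at r1
    rw [← pj_eq_one, map_pow, map_mul, map_pow] at r2
    constructor
    · rw [← pj_eq_one, map_pow, map_mul, hw2]
      have := congrArg β r1
      rw [map_pow, map_mul, map_one] at this
      have h5 : β (pj xW) = pj xW := hβ
      rw [h5] at this
      exact this
    · rw [← pj_eq_one, map_pow, map_mul, map_pow, hw2]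
      have := congrArg β r2
      rw [map_pow, map_mul, map_pow, map_one] at this
      have h5 : β (pj xW) = pj xW := hβ
      rw [h5] at this
      exact this
  obtain ⟨a, ha⟩ := Pc_of_rel hw1 hw hrel
  have hbw : β bJ = xJ ^ a * bJ * (xJ ^ a)⁻¹ := by
    rw [← hw2, ha, map_mul, map_mul, map_inv, map_pow]; rfl
  let γ : JJ →* JJ := (MulAut.conj (xJ ^ a)⁻¹).toMonoidHom.comp β.toMonoidHom
  have hγ : ∀ g, γ g = (xJ ^ a)⁻¹ * β g * ((xJ ^ a)⁻¹)⁻¹ := fun g => rfl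
  have h1 : γ xJ = xJ := by
    rw [hγ, hβ]
    have : Commute ((xJ ^ a)⁻¹) xJ := ((Commute.refl xJ).pow_left a).inv_left
    rw [this.eq]; group
  have h2 : γ bJ = bJ := by
    rw [hγ, hbw]; group
  refine ⟨xJ ^ a, ?_⟩
  ext1 g
  have h4 := eq_id γ h1 h2 g
  rw [hγ] at h4
  rw [MulAut.conj_apply]
  calc xJ ^ a * g * (xJ ^ a)⁻¹ = xJ ^ a * ((xJ ^ a)⁻¹ * β g * ((xJ ^ a)⁻¹)⁻¹) * (xJ ^ a)⁻¹ := by rw [h4]
    _ = β g := by group

theorem xJ_pow : xJ ^ 19 = 1 := by
  rw [xJ, ← map_pow, xW_pow, map_one]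

theorem order_xJ : orderOf xJ = 19 := by
  have : Fact (Nat.Prime 19) := ⟨by norm_num⟩
  apply orderOf_eq_prime xJ_pow
  intro h
  have h1 : xW ∈ Z0 := pj_eq_one.1 h
  have h2 := Z0_cube h1
  have h3 := orderOf_dvd_of_pow_eq_one h2
  rw [xW, Subgroup.orderOf_mk, order_x] at h3
  norm_num at h3

theorem inH_n9 : InH N9c := by
  rw [← Nat.eq_of_beq_eq_true n9_in]; exact inH_uvw (by norm_num) (by norm_num) (by norm_num)
noncomputable def nW : W := (exists_W inH_n9).choose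
theorem cd_nW : cd nW.1 = N9c := (exists_W inH_n9).choose_spec

theorem n_conj : nW * xW * nW⁻¹ = xW ^ 4 := by
  rw [mul_inv_eq_iff_eq_mul]
  apply W_ext
  rw [cdW_mul, cdW_mul, cd_nW, xW_cd, xpt_spec 4 (by norm_num)]
  exact Nat.eq_of_beq_eq_true n9_ok

theorem n_pow (i : ℕ) : nW ^ i * xW * (nW ^ i)⁻¹ = xW ^ (4 ^ i) := by
  induction i with
  | zero => simp
  | succ i ih =>
    calc nW ^ (i + 1) * xW * (nW ^ (i + 1))⁻¹ = nW ^ i * (nW * xW * nW⁻¹) * (nW ^ i)⁻¹ := by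
          rw [pow_succ]; group
      _ = nW ^ i * xW ^ 4 * (nW ^ i)⁻¹ := by rw [n_conj]
      _ = (nW ^ i * xW * (nW ^ i)⁻¹) ^ 4 := by rw [conj_pow]
      _ = _ := by rw [ih, ← pow_mul, ← pow_succ]

theorem pow_cases {k : ℕ} (hk : ¬ 19 ∣ k) : ∃ c : W, xW ^ k = c * xW * c⁻¹ ∨ xW ^ k = c * xW⁻¹ * c⁻¹ := by
  have hx : orderOf xW = 19 := by rw [xW, Subgroup.orderOf_mk, order_x]
  have h1 : ∀ r < 19, r ≠ 0 → ∃ i < 9, 4 ^ i % 19 = r ∨ (18 * 4 ^ i) % 19 = r := by decide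
  obtain ⟨i, -, hi⟩ := h1 (k % 19) (Nat.mod_lt _ (by norm_num)) (fun h => hk (Nat.dvd_of_mod_eq_zero h))
  refine ⟨nW ^ i, ?_⟩
  rcases hi with hi | hi
  · left
    rw [n_pow]
    apply pow_eq_pow_iff_modEq.2
    rw [hx]
    exact hi.symm
  · right
    have h2 : xW⁻¹ = xW ^ 18 := by
      apply inv_eq_of_mul_eq_one_right
      rw [← pow_succ', xW_pow]
    rw [h2, ← conj_pow, n_pow, ← pow_mul]
    apply pow_eq_pow_iff_modEq.2
    rw [hx]
    rw [mul_comm]
    exact hi.symm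

theorem inH_c9 : InH C9c := by
  rw [← Nat.eq_of_beq_eq_true c9_in]; exact inH_uvw (by norm_num) (by norm_num) (by norm_num)
noncomputable def cW : W := (exists_W inH_c9).choose
theorem cd_cW : cd cW.1 = C9c := (exists_W inH_c9).choose_spec

theorem sW_x : sW xW = cW * xW⁻¹ * cW⁻¹ := by
  have h2 : xW⁻¹ = xW ^ 18 := by
    apply inv_eq_of_mul_eq_one_right
    rw [← pow_succ', xW_pow]
  rw [eq_mul_inv_iff_mul_eq, h2]
  apply W_ext
  rw [cdW_mul, cdW_mul, cd_cW, xpt_spec 18 (by norm_num), sW_val, xW_val, cd_sx]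
  exact Nat.eq_of_beq_eq_true c9_ok

theorem conj_mem_Inn (c : JJ) : MulAut.conj c ∈ Inn JJ := ⟨c, rfl⟩

theorem sJ_conj (c : JJ) : sJ * MulAut.conj c * sJ⁻¹ ∈ Inn JJ := by
  refine ⟨sJ c, ?_⟩
  ext1 g
  show sJ c * g * (sJ c)⁻¹ = sJ (c * (sJ⁻¹ g) * c⁻¹)
  have h3 : sJ (sJ⁻¹ g) = g := sJ.apply_symm_apply g
  rw [map_mul, map_mul, map_inv, h3]

theorem mem_or (α : MulAut JJ) : α ∈ Inn JJ ∨ sJ * α ∈ Inn JJ := by
  have hfin : Finite JJ := inferInstance
  have h19 : orderOf (α xJ) = 19 := (orderOf_injective α.toMonoidHom α.injective xJ).trans order_xJ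
  obtain ⟨u, k, hu, hk⟩ := conj_of_prime 19 2643840 (by norm_num) (by rw [card_quot]) (by norm_num) h19 order_xJ
  obtain ⟨c, hc⟩ := pow_cases hk
  have hxk : xJ ^ k = pj (xW ^ k) := by rw [map_pow]; rfl
  rcases hc with hc | hc
  · left
    have h0 : xJ ^ k = pj c * xJ * (pj c)⁻¹ := by
      rw [hxk, hc, map_mul, map_mul, map_inv]; rfl
    have hap : ∀ g : JJ, (MulAut.conj ((pj c)⁻¹ * u) * α) g = (pj c)⁻¹ * (u * α g * u⁻¹) * pj c := by
      intro g
      show ((pj c)⁻¹ * u) * α g * ((pj c)⁻¹ * u)⁻¹ = _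
      group
    have h1 : MulAut.conj ((pj c)⁻¹ * u) * α ∈ Inn JJ := by
      apply inner_of_fix
      rw [hap, hu, h0]; group
    exact (Subgroup.mul_mem_cancel_left _ (conj_mem_Inn _)).1 h1
  · right
    have h0 : xJ ^ k = pj c * xJ⁻¹ * (pj c)⁻¹ := by
      rw [hxk, hc, map_mul, map_mul, map_inv, map_inv]; rfl
    have hsx : sJ xJ = pj cW * xJ⁻¹ * (pj cW)⁻¹ := by
      show pj (sW xW) = _
      rw [sW_x, map_mul, map_mul, map_inv, map_inv]; rfl
    -- conj (cW⁻¹) * sJ * conj (c⁻¹ u) * α fixes `x`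
    have hap : ∀ g : JJ, (MulAut.conj (pj cW)⁻¹ * (sJ * (MulAut.conj ((pj c)⁻¹ * u) * α))) g =
        (pj cW)⁻¹ * sJ ((pj c)⁻¹ * (u * α g * u⁻¹) * pj c) * pj cW := by
      intro g
      show (pj cW)⁻¹ * sJ (((pj c)⁻¹ * u) * α g * ((pj c)⁻¹ * u)⁻¹) * ((pj cW)⁻¹)⁻¹ = _
      rw [inv_inv]
      have e : ((pj c)⁻¹ * u) * α g * ((pj c)⁻¹ * u)⁻¹ = (pj c)⁻¹ * (u * α g * u⁻¹) * pj c := by group
      rw [e]
    have h1 : MulAut.conj (pj cW)⁻¹ * (sJ * (MulAut.conj ((pj c)⁻¹ * u) * α)) ∈ Inn JJ := by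
      apply inner_of_fix
      rw [hap, hu, h0]
      have e : (pj c)⁻¹ * (pj c * xJ⁻¹ * (pj c)⁻¹) * pj c = xJ⁻¹ := by group
      rw [e, map_inv, hsx]; group
    have h2 := (Subgroup.mul_mem_cancel_left _ (conj_mem_Inn _)).1 h1
    have h3 : sJ * (MulAut.conj ((pj c)⁻¹ * u) * α) = (sJ * MulAut.conj ((pj c)⁻¹ * u) * sJ⁻¹) * (sJ * α) := by group
    rw [h3] at h2
    exact (Subgroup.mul_mem_cancel_left _ (sJ_conj _)).1 h2

theorem card_out : Nat.card (Cfsg.Out JJ) = 2 := by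
  show (Inn JJ).index = 2
  rw [Subgroup.index_eq_two_iff]
  refine ⟨sJ, fun b => ?_⟩
  have hsq : sJ * sJ = 1 := by
    ext1 g
    exact sJ_sJ g
  have hinv : sJ⁻¹ = sJ := inv_eq_of_mul_eq_one_right hsq
  have h1 := mem_or b⁻¹
  have h2 : b⁻¹ ∈ Inn JJ ↔ b ∈ Inn JJ := Subgroup.inv_mem_iff _
  have h3 : sJ * b⁻¹ ∈ Inn JJ ↔ b * sJ ∈ Inn JJ := by
    rw [← Subgroup.inv_mem_iff]
    rw [mul_inv_rev, inv_inv, hinv]
  rw [h2, h3] at h1
  rcases h1 with h1 | h1
  · right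
    refine ⟨h1, fun h4 => sJ_not_inner ?_⟩
    exact (Subgroup.mul_mem_cancel_left _ h1).1 h4
  · left
    refine ⟨h1, fun h4 => sJ_not_inner ?_⟩
    exact (Subgroup.mul_mem_cancel_left _ h4).1 h1

end Cfsg.Agent.Lib.JThree
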