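import Cfsg.Agent.Lib.JThreeMove

/-!
The subgroup of index 6156 of `J₃`.
-/

set_option autoImplicit false

namespace Cfsg.Agent.Lib.JThree

open Cfsg Cfsg.Agent.Lib.K4 Cfsg.Agent.Lib.F4Pack Cfsg.Agent.Lib.NatTree
open Cfsg.Agent.Lib.Golay (allLt allLt_iff)

/-- simple groups as permutation groups on cosets -/
theorem exists_perm {G : Type*} [Group G] [Finite G] [IsSimpleGroup G] (B : Subgroup G) {m : ℕ} (hm : B.index = m)
    (h1 : 1 < m) : ∃ H : Subgroup (Equiv.Perm (Fin m)), Nonempty (G ≃* H) ∧ MulAction.IsPretransitive H (Fin m) := by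
  classical
  have hc : Nat.card (G ⧸ B) = m := hm
  have e : G ⧸ B ≃ Fin m := Finite.equivFinOfCardEq hc
  let ρ : G →* Equiv.Perm (Fin m) := e.permCongrHom.toMonoidHom.comp (MulAction.toPermHom G (G ⧸ B))
  have hρ : ∀ g x, ρ g (e x) = e (g • x) := by
    intro g x
    show e (g • e.symm (e x)) = e (g • x)
    rw [e.symm_apply_apply]
  have hker : ρ.ker = ⊥ := by
    rcases IsSimpleGroup.eq_bot_or_eq_top_of_normal ρ.ker inferInstance with h | h
    · exact h
    exfalso
    have h2 : B = ⊤ := by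
      rw [eq_top_iff]
      intro g _
      have h3 : g ∈ ρ.ker := by rw [h]; exact Subgroup.mem_top _
      have h4 := hρ g ((1 : G) : G ⧸ B)
      rw [MonoidHom.mem_ker.1 h3, Equiv.Perm.one_apply] at h4
      have h5 := e.injective h4
      have h6 : ((1 : G) : G ⧸ B) = ((g * 1 : G) : G ⧸ B) := h5
      rw [QuotientGroup.eq, inv_one, one_mul, mul_one] at h6
      exact h6
    rw [h2, Subgroup.index_top] at hm
    omega
  refine ⟨ρ.range, ⟨MonoidHom.ofInjective ((MonoidHom.ker_eq_bot_iff ρ).1 hker)⟩, ⟨fun x y => ?_⟩⟩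
  obtain ⟨x, rfl⟩ := e.surjective x
  obtain ⟨y, rfl⟩ := e.surjective y
  obtain ⟨g, hg⟩ := MulAction.exists_smul_eq G x y
  refine ⟨⟨ρ g, g, rfl⟩, ?_⟩
  show ρ g (e x) = e y
  rw [hρ, hg]

theorem inv_pow_fin {G : Type*} [Group G] [Finite G] (a : G) : ∃ m : ℕ, a⁻¹ = a ^ m := by
  obtain ⟨m, hm, hm2⟩ := isOfFinOrder_iff_pow_eq_one.1 (isOfFinOrder_of_finite a)
  exact ⟨m - 1, inv_eq_of_mul_eq_one_right (by rw [← pow_succ', Nat.sub_add_cancel hm, hm2])⟩

theorem S1_mul {a b : ℕ} (ha : InS1 a) (hb : InS1 b) : InS1 (mu a b) := (LP_S1 ha).2 b hb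

theorem S1_pow (a : W) (h : InS1 (cd a.1)) (m : ℕ) : InS1 (cd (a ^ m).1) := by
  induction m with
  | zero => rw [pow_zero, Subgroup.coe_one, cd_one]; exact one_S1
  | succ m ih =>
    rw [pow_succ, Subgroup.coe_mul, cd_mul]
    exact S1_mul ih h

/-- the subgroup of order 24480 -/
def BW : Subgroup W where
  carrier := {w | InS1 (cd w.1)}
  mul_mem' {a b} ha hb := by
    show InS1 (cd (a * b).1)
    rw [Subgroup.coe_mul, cd_mul]
    exact S1_mul ha hb
  one_mem' := by
    show InS1 (cd (1 : W).1)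
    rw [Subgroup.coe_one, cd_one]
    exact one_S1
  inv_mem' {a} ha := by
    obtain ⟨m, hm⟩ := inv_pow_fin a
    show InS1 (cd (a⁻¹).1)
    rw [hm]
    exact S1_pow a ha m

theorem mem_BW {w : W} : w ∈ BW ↔ InS1 (cd w.1) := Iff.rfl

theorem card_BW_le : Nat.card BW ≤ 24480 := by
  classical
  have hS : ∀ g : BW, ∃ t : Fin 85 × Fin 288, cd g.1.1 = mu (vt t.1) (wt t.2) := by
    intro g
    obtain ⟨j, hj, k, hk, h⟩ := mem_BW.1 g.2
    exact ⟨(⟨j, hj⟩, ⟨k, hk⟩), h⟩
  choose F hF using hS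
  have hinj : Function.Injective F := by
    intro g h hgh
    apply Subtype.ext
    apply Subtype.ext
    apply cd_inj
    rw [hF g, hF h, hgh]
  have := Nat.card_le_card_of_injective F hinj
  have h2 : Nat.card (Fin 85 × Fin 288) = 24480 := by
    rw [Nat.card_eq_fintype_card, Fintype.card_prod, Fintype.card_fin, Fintype.card_fin]
  rwa [h2] at this

/-- coset representatives -/
noncomputable def uW (i : Fin 6156) : W := ⟨(inH_u i i.2).choose, (inH_u i i.2).choose_spec.1⟩
theorem cd_uW (i : Fin 6156) : cd (uW i).1 = ut i := (inH_u i i.2).choose_spec.2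

theorem exists_u (g : W) : ∃ i : Fin 6156, ∃ b ∈ BW, g = uW i * b := by
  obtain ⟨i, hi, s, hs, h⟩ := cd_S0 g.1 g.2
  have h1 : (uW ⟨i, hi⟩) * ((uW ⟨i, hi⟩)⁻¹ * g) = g := by rw [mul_inv_cancel_left]
  refine ⟨⟨i, hi⟩, (uW ⟨i, hi⟩)⁻¹ * g, ?_, h1.symm⟩
  obtain ⟨r, hr, hr2⟩ : InH s := by
    obtain ⟨j, hj, k, hk, rfl⟩ := hs
    exact inH_mul (inH_v j hj) (inH_w k hk)
  have h2 : g = uW ⟨i, hi⟩ * ⟨r, hr⟩ := by
    apply Subtype.ext
    apply cd_inj
    rw [Subgroup.coe_mul, cd_mul, cd_uW, hr2, h]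
  rw [h2, inv_mul_cancel_left, mem_BW]
  show InS1 (cd r)
  rw [hr2]
  exact hs

theorem index_BW_le : BW.index ≤ 6156 := by
  have hS : ∀ q : W ⧸ BW, ∃ i : Fin 6156, q = ((uW i : W) : W ⧸ BW) := by
    intro q
    obtain ⟨g, rfl⟩ := QuotientGroup.mk_surjective q
    obtain ⟨i, b, hb, h⟩ := exists_u g
    refine ⟨i, ?_⟩
    rw [QuotientGroup.eq, h, mul_inv_rev, mul_assoc, inv_mul_cancel, mul_one]
    exact inv_mem hb
  choose F hF using hS
  have hinj : Function.Injective F := by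
    intro g h hgh
    rw [hF g, hF h, hgh]
  have := Nat.card_le_card_of_injective F hinj
  rwa [Nat.card_eq_fintype_card (α := Fin 6156), Fintype.card_fin] at this

theorem card_index : Nat.card BW = 24480 ∧ BW.index = 6156 := by
  have h := BW.card_mul_index
  rw [card_W] at h
  have h1 := card_BW_le
  have h2 := index_BW_le
  constructor
  · by_contra h3
    have h4 : Nat.card BW ≤ 24479 := by omega
    have := Nat.mul_le_mul h4 h2
    omega
  · by_contra h3
    have h4 : BW.index ≤ 6155 := by omega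
    have := Nat.mul_le_mul h1 h4
    omega

theorem O_S1 : InS1 O1c := by
  refine ⟨0, by norm_num, 14, by norm_num, ?_⟩
  rw [v_zero, mu_Ic_left (good_w (by norm_num))]
  decide +kernel

theorem Z_le_BW : Subgroup.center W ≤ BW := by
  rw [center_eq, Z0, Subgroup.zpowers_le, mem_BW]
  show InS1 (cd oG)
  rw [cd_o]
  exact O_S1

/-- the subgroup of order 8160 of the simple group -/
noncomputable def BJ : Subgroup JJ := BW.map (QuotientGroup.mk' (Subgroup.center W))

theorem index_BJ : BJ.index = 6156 := by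
  rw [← card_index.2, BJ]
  rw [Subgroup.index_map, QuotientGroup.ker_mk', sup_eq_left.2 Z_le_BW,
    MonoidHom.range_eq_top.2 (QuotientGroup.mk'_surjective _), Subgroup.index_top, mul_one]

instance finite_JJ : Finite JJ := inferInstance

end Cfsg.Agent.Lib.JThree
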