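import Cfsg.Agent.Lib.JThreeOrd

/-!
Normal subgroups and centre of `3·J₃`; simplicity of the quotient.
-/

set_option autoImplicit false

namespace Cfsg.Agent.Lib.JThree

open Cfsg Cfsg.Agent.Lib.F4Pack Cfsg.Agent.Lib.NatTree Cfsg.Agent.Lib.K4 Cfsg.Agent.Lib.ConjPrime
open Cfsg.Agent.Lib.Golay (allLt allLt_iff)

theorem le_or_top (N : Subgroup W) [N.Normal] : N ≤ Z0 ∨ N = ⊤ := by
  by_cases h : N ≤ Z0
  · exact Or.inl h
  right
  have h1 : Z0 < N ⊔ Z0 := lt_of_le_of_ne le_sup_right (fun e => h (e ▸ le_sup_left))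
  have h2 := top_of_gt h1
  have key : ∀ g : W, g ^ 39 = g → g ∈ N := by
    intro g hg
    have h3 : g ∈ N ⊔ Z0 := by rw [h2]; exact Subgroup.mem_top _
    obtain ⟨n, hn, z, hz, rfl⟩ := Subgroup.mem_sup_of_normal_right.1 h3
    have hc : Commute n z := Subgroup.mem_center_iff.1 (Z0_le_center hz) n
    have hz3 : z ^ 3 = 1 := by
      have h4 := orderOf_dvd_natCard (⟨z, hz⟩ : Z0)
      rw [card_Z0, Subgroup.orderOf_mk] at h4
      exact orderOf_dvd_iff_pow_eq_one.1 h4
    rw [← hg, hc.mul_pow, show (39 : ℕ) = 3 * 13 by norm_num, pow_mul z, hz3, one_pow, mul_one]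
    exact pow_mem hn _
  have e : ∀ g : GLM, g ^ 19 = 1 → g ^ 39 = g := by
    intro g hg
    rw [show (39 : ℕ) = 19 * 2 + 1 by norm_num, pow_succ, pow_mul, hg, one_pow, one_mul]
  refine xy_top (key xW (Subtype.ext ?_)) (key yW (Subtype.ext ?_))
  · rw [Subgroup.coe_pow, xW_val]; exact e _ x_pow
  · rw [Subgroup.coe_pow, yW_val]; exact e _ y_pow

theorem center_eq : Subgroup.center W = Z0 := by
  apply le_antisymm _ Z0_le_center
  rcases le_or_top (Subgroup.center W) with h | h
  · exact h
  exfalso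
  have h1 : xW ∈ Subgroup.center W := by rw [h]; exact Subgroup.mem_top _
  have h2 := congrArg (fun g : W => cd g.1) (Subgroup.mem_center_iff.1 h1 yW)
  have h3 : cd (yG * xG) = cd (xG * yG) := h2
  rw [cd_mul, cd_mul, cd_x, cd_y] at h3
  exact absurd h3 (by decide +kernel)

theorem card_center : Nat.card (Subgroup.center W) = 3 := by rw [center_eq, card_Z0]

theorem card_quot : Nat.card (W ⧸ Subgroup.center W) = 50232960 := by
  have h := Subgroup.card_eq_card_quotient_mul_card_subgroup (Subgroup.center W)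
  rw [card_W, card_center] at h
  omega

theorem simple_quot : IsSimpleGroup (W ⧸ Subgroup.center W) := by
  have hnt : Nontrivial (W ⧸ Subgroup.center W) := by
    have : 1 < Nat.card (W ⧸ Subgroup.center W) := by rw [card_quot]; norm_num
    exact Finite.one_lt_card_iff_nontrivial.1 this
  refine { eq_bot_or_eq_top_of_normal := fun N hN => ?_ }
  let φ := QuotientGroup.mk' (Subgroup.center W)
  have hφ : Function.Surjective φ := QuotientGroup.mk'_surjective _
  have : (N.comap φ).Normal := hN.comap φ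
  rcases le_or_top (N.comap φ) with h | h
  · left
    rw [eq_bot_iff]
    intro q hq
    obtain ⟨g, rfl⟩ := hφ q
    have h1 : g ∈ Subgroup.center W := by rw [center_eq]; exact h hq
    rw [Subgroup.mem_bot]
    exact (QuotientGroup.eq_one_iff g).2 h1
  · right
    rw [← Subgroup.map_comap_eq_self_of_surjective hφ N, h]
    rw [← MonoidHom.range_eq_map]
    exact MonoidHom.range_eq_top.2 hφ

theorem all_H : ∀ K : Subgroup GLM, K = H → Nat.card (Subgroup.center K) = 3 ∧ Nat.card K = 150698880 ∧
    Nat.card (K ⧸ Subgroup.center K) = 50232960 ∧ IsSimpleGroup (K ⧸ Subgroup.center K) := by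
  rintro K rfl
  exact ⟨card_center, card_H, card_quot, simple_quot⟩

end Cfsg.Agent.Lib.JThree
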