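import Cfsg.Agent.Lib.LargeExtra8
import Cfsg.Agent.Lib.InvAct
import Mathlib

/-!
# Groups of Hall–Janko type: counting lemmas
-/

set_option autoImplicit false

namespace Cfsg.Agent.Lib.JTw

open Cfsg Cfsg.Agent.Lib.LargeExtra

section counting

variable {G : Type*} [Group G] [Finite G]

/-- An element of prime order acting by conjugation on a set. -/
theorem fix_mod {p : ℕ} [Fact p.Prime] {g : G} (hg : g ^ p = 1) (A : Set G)
    (hA : ∀ a ∈ A, g * a * g⁻¹ ∈ A) :
    A.ncard ≡ {a : G | a ∈ A ∧ g * a = a * g}.ncard [MOD p] := by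
  classical
  have : Fintype A := Fintype.ofFinite A
  let f : Function.End A := fun a => ⟨g * a.1 * g⁻¹, hA a.1 a.2⟩
  have hf : ∀ n : ℕ, ∀ a : A, ((f ^ n) a : A).1 = g ^ n * a.1 * (g ^ n)⁻¹ := by
    intro n
    induction n with
    | zero => intro a; rw [pow_zero, pow_zero, one_mul, inv_one, mul_one]; rfl
    | succ n ih =>
      intro a
      rw [pow_succ]
      show ((f ^ n) (f a)).1 = _
      rw [ih]
      show g ^ n * (g * a.1 * g⁻¹) * (g ^ n)⁻¹ = _
      rw [pow_succ]; group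
  have hfp : f ^ p ^ 1 = 1 := by
    funext a
    apply Subtype.ext
    rw [hf, pow_one, hg, one_mul, inv_one, mul_one]
    rfl
  have h1 := Equiv.Perm.card_fixedPoints_modEq hfp
  have e1 : Fintype.card A = A.ncard := by
    rw [← Nat.card_eq_fintype_card, Nat.card_coe_set_eq]
  have e2 : Fintype.card f.fixedPoints = {a : G | a ∈ A ∧ g * a = a * g}.ncard := by
    rw [← Nat.card_eq_fintype_card, ← Nat.card_coe_set_eq]
    apply Nat.card_congr
    refine ⟨fun x => ⟨x.1.1, x.1.2, ?_⟩, fun x => ⟨⟨x.1, x.2.1⟩, ?_⟩, fun x => rfl, fun x => rfl⟩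
    · have : f x.1 = x.1 := x.2
      have := congrArg Subtype.val this
      exact mul_inv_eq_iff_eq_mul.1 this
    · show f _ = _
      apply Subtype.ext
      exact mul_inv_eq_iff_eq_mul.2 x.2.2
  rw [e1, e2] at h1
  exact h1

/-- A set stable under right multiplication by a subgroup. -/
theorem card_dvd_of_mul (V : Subgroup G) (A : Set G) (h : ∀ a ∈ A, ∀ v ∈ V, a * v ∈ A) :
    Nat.card V ∣ A.ncard := by
  have h1 : A = (QuotientGroup.mk : G → G ⧸ V) ⁻¹' ((QuotientGroup.mk : G → G ⧸ V) '' A) := by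
    ext x
    constructor
    · intro hx; exact ⟨x, hx, rfl⟩
    · rintro ⟨a, ha, hax⟩
      rw [QuotientGroup.eq] at hax
      have := h a ha _ hax
      simpa using this
  have h2 := Nat.card_congr (QuotientGroup.preimageMkEquivSubgroupProdSet V ((QuotientGroup.mk : G → G ⧸ V) '' A))
  rw [← h1, Nat.card_prod, Nat.card_coe_set_eq] at h2
  rw [h2]; exact dvd_mul_right _ _

omit [Finite G] in
theorem mem_centralizer_one {x y : G} : x ∈ Subgroup.centralizer ({y} : Set G) ↔ x * y = y * x :=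
  Subgroup.mem_centralizer_singleton_iff

omit [Finite G] in
theorem card_eq_ncard (H : Subgroup G) : Nat.card H = (H : Set G).ncard :=
  Nat.card_coe_set_eq _

omit [Finite G] in
/-- bijection between two sets given by right multiplication. -/
theorem ncard_mul_right (A B : Set G) (g : G) (h1 : ∀ a ∈ A, a * g ∈ B) (h2 : ∀ b ∈ B, b * g⁻¹ ∈ A) :
    A.ncard = B.ncard := by
  apply Set.ncard_congr (fun a _ => a * g) h1
  · intro a b _ _ hab; exact mul_right_cancel hab
  · intro b hb; exact ⟨b * g⁻¹, h2 b hb, by simp⟩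

end counting

section base

variable {G : Type*} [Group G]

structure Base (z : G) (Q : Subgroup G) : Prop where
  pre : PreLarge Q z
  card : Nat.card Q = 32
  ex : ∃ φ : Subgroup.centralizer ({z} : Set G) →* alternatingGroup (Fin 5),
    Function.Surjective φ ∧ ∀ x, φ x = 1 ↔ (x : G) ∈ Q

namespace Base

variable {z : G} {Q : Subgroup G}

theorem card_alt5 : Nat.card (alternatingGroup (Fin 5)) = 60 := by
  rw [nat_card_alternatingGroup]
  simp [Nat.factorial]

theorem Q_le (h : Base z Q) : Q ≤ Subgroup.centralizer ({z} : Set G) := fun q hq =>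
  mem_centralizer_one.2 (h.pre.cen q hq)

theorem card_cent (h : Base z Q) : Nat.card (Subgroup.centralizer ({z} : Set G)) = 1920 := by
  obtain ⟨φ, hs, hk⟩ := h.ex
  have h1 := φ.ker.card_mul_index
  have h2 : φ.ker.index = 60 := by
    rw [Subgroup.index_ker, MonoidHom.range_eq_top.2 hs, Nat.card_congr Subgroup.topEquiv.toEquiv, card_alt5]
  have h3 : φ.ker = Q.subgroupOf (Subgroup.centralizer ({z} : Set G)) := by
    ext x
    rw [MonoidHom.mem_ker, hk, Subgroup.mem_subgroupOf]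
  have h4 : Nat.card φ.ker = 32 := by
    rw [h3, Nat.card_congr (Subgroup.subgroupOfEquivOfLe h.Q_le).toEquiv, h.card]
  rw [h2, h4] at h1
  rw [← h1]

variable [Finite G]

theorem five_fix (h : Base z Q) {π : G} (hπ : π * z = z * π) (h5 : orderOf π = 5) :
    ∀ q ∈ Q, π * q = q * π → q = 1 ∨ q = z := by
  have : Fact (Nat.Prime 5) := ⟨by norm_num⟩
  have h1 := fix_mod (p := 5) (g := π) (by rw [← h5]; exact pow_orderOf_eq_one π) (Q : Set G)
    (fun a ha => h.pre.norm π hπ a ha)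
  have h2 : {a : G | a ∈ (Q : Set G) ∧ π * a = a * π} =
      ((Q ⊓ Subgroup.centralizer ({π} : Set G) : Subgroup G) : Set G) := by
    ext a
    simp only [Set.mem_setOf_eq, SetLike.mem_coe, Subgroup.mem_inf, mem_centralizer_one]
    tauto
  rw [h2, ← card_eq_ncard, ← card_eq_ncard, h.card] at h1
  have h3 : Nat.card ↥(Q ⊓ Subgroup.centralizer ({π} : Set G)) ∣ 2 ^ 5 := by
    have := Subgroup.card_dvd_of_le (inf_le_left : Q ⊓ Subgroup.centralizer ({π} : Set G) ≤ Q)
    rwa [h.card] at this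
  obtain ⟨k, hk, hk2⟩ := (Nat.dvd_prime_pow Nat.prime_two).1 h3
  rw [hk2] at h1
  have hk3 : k = 1 ∨ k = 5 := by
    interval_cases k <;> simp [Nat.ModEq] at h1 ⊢
  have hz : z ∈ Q ⊓ Subgroup.centralizer ({π} : Set G) := ⟨h.pre.mem, mem_centralizer_one.2 hπ.symm⟩
  rcases hk3 with rfl | rfl
  · intro q hq hq2
    by_contra hcon
    push Not at hcon
    have hq' : q ∈ Q ⊓ Subgroup.centralizer ({π} : Set G) := ⟨hq, mem_centralizer_one.2 hq2.symm⟩
    have h5 : ({1, z, q} : Set G).ncard ≤ ((Q ⊓ Subgroup.centralizer ({π} : Set G) : Subgroup G) : Set G).ncard := by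
      apply Set.ncard_le_ncard _ (Set.toFinite _)
      rintro x (rfl | rfl | rfl)
      · exact one_mem _
      · exact hz
      · exact hq'
    rw [← card_eq_ncard, hk2, Set.ncard_eq_three.2 ⟨1, z, q, h.pre.ne.symm, fun e => hcon.1 e.symm,
      fun e => hcon.2 e.symm, rfl⟩] at h5
    norm_num at h5
  · exfalso
    have h6 : Q ⊓ Subgroup.centralizer ({π} : Set G) = Q :=
      Subgroup.eq_of_le_of_card_ge inf_le_left (by rw [hk2, h.card]; norm_num)
    have h7 := h.pre.cent π (by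
      intro q hq
      rw [← h6] at hq
      exact mem_centralizer_one.1 hq.2)
    rcases h7 with h7 | h7
    · rw [h7, orderOf_one] at h5; norm_num at h5
    · rw [h7, h.pre.orderOf] at h5; norm_num at h5

omit [Finite G] in
theorem conj_or (h : Base z Q) {q v : G} (hq : q ∈ Q) (hv : v ∈ Q) : q * v * q⁻¹ = v ∨ q * v * q⁻¹ = z * v := by
  rcases h.pre.comm q hq v hv with h1 | h1
  · left; rw [h1]; simp
  · right; rw [h1]; simp [mul_assoc]

omit [Finite G] in
theorem mul_z_ne (h : Base z Q) (v : G) : z * v ≠ v := by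
  intro h1
  have : z * v = 1 * v := by rw [h1, one_mul]
  exact h.pre.ne (mul_right_cancel this)

theorem card_CQ (h : Base z Q) {v : G} (hv : v ∈ Q) (hv1 : v ≠ 1) (hvz : v ≠ z) :
    Nat.card ↥(Q ⊓ Subgroup.centralizer ({v} : Set G)) = 16 := by
  have h1 := InvAct.card_conj_orbit Q v
  have h2 : {w : G | ∃ k ∈ Q, k * v * k⁻¹ = w} = {v, z * v} := by
    ext w
    constructor
    · rintro ⟨k, hk, rfl⟩
      exact h.conj_or hk hv
    · rintro (rfl | rfl)
      · exact ⟨1, one_mem _, by simp⟩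
      · obtain ⟨q, hq, hq2⟩ := h.pre.exists_conj hv hv1 hvz
        exact ⟨q, hq, hq2⟩
  rw [h2, Set.ncard_pair (h.mul_z_ne v).symm, h.card] at h1
  omega

omit [Finite G] in
theorem mem_V (h : Base z Q) {v : G} (hv : v ∈ Q) (hv2 : v * v = 1) {x : G} :
    x ∈ Subgroup.closure ({z, v} : Set G) ↔ x = 1 ∨ x = z ∨ x = v ∨ x = z * v :=
  mem_closure_pair_iff h.pre.sq hv2 (h.pre.cen v hv).symm

omit [Finite G] in
theorem card_V (h : Base z Q) {v : G} (hv : v ∈ Q) (hv2 : v * v = 1) (hv1 : v ≠ 1) (hvz : v ≠ z) :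
    Nat.card (Subgroup.closure ({z, v} : Set G)) = 4 := by
  classical
  have h1 : ((Subgroup.closure ({z, v} : Set G) : Subgroup G) : Set G) = (({1, z, v, z * v} : Finset G) : Set G) := by
    ext x
    rw [SetLike.mem_coe, h.mem_V hv hv2]
    simp
  have h3 : z * v ≠ 1 := by
    intro h4
    apply hvz
    have : v = z⁻¹ := by rw [eq_inv_iff_mul_eq_one, h.pre.cen v hv]; exact h4
    rw [this, h.pre.toExData.inv]
  have h5 : z * v ≠ z := by
    intro h4
    apply hv1
    have : z * v = z * 1 := by rw [h4, mul_one]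
    exact mul_left_cancel this
  rw [card_eq_ncard, h1, Set.ncard_coe_finset]
  rw [Finset.card_insert_of_notMem, Finset.card_insert_of_notMem, Finset.card_pair (h.mul_z_ne v).symm]
  · simp only [Finset.mem_insert, Finset.mem_singleton, not_or]
    exact ⟨hvz.symm, h5.symm⟩
  · simp only [Finset.mem_insert, Finset.mem_singleton, not_or]
    exact ⟨h.pre.ne.symm, hv1.symm, h3.symm⟩

theorem exists_five (h : Base z Q) : ∃ π : G, π * z = z * π ∧ orderOf π = 5 := by
  have : Fact (Nat.Prime 5) := ⟨by norm_num⟩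
  obtain ⟨x, hx⟩ := exists_prime_orderOf_dvd_card' (G := Subgroup.centralizer ({z} : Set G)) 5
    (by rw [h.card_cent]; norm_num)
  exact ⟨x, mem_centralizer_one.1 x.2, by rw [Subgroup.orderOf_coe]; exact hx⟩

/-- the number of solutions of `q² = 1` in `Q`. -/
theorem count (h : Base z Q) {v : G} (hv : v ∈ Q) (hv2 : v * v = 1) (hv1 : v ≠ 1) (hvz : v ≠ z) :
    {q : G | q ∈ Q ∧ q * q = 1}.ncard = 12 ∧ {q : G | q ∈ Q ∧ q * v = v * q ∧ q * q = 1}.ncard = 4 := by
  have : Fact (Nat.Prime 5) := ⟨by norm_num⟩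
  obtain ⟨π, hπ, h5⟩ := h.exists_five
  have hvz' : v * z = z * v := h.pre.cen v hv
  -- mod 5
  have m5 := fix_mod (p := 5) (g := π) (by rw [← h5]; exact pow_orderOf_eq_one π) {q : G | q ∈ Q ∧ q * q = 1} (by
    rintro a ⟨ha, ha2⟩
    refine ⟨h.pre.norm π hπ a ha, ?_⟩
    calc π * a * π⁻¹ * (π * a * π⁻¹) = π * (a * a) * π⁻¹ := by group
      _ = 1 := by rw [ha2]; group)
  have m5' : {a : G | a ∈ {q : G | q ∈ Q ∧ q * q = 1} ∧ π * a = a * π} = {1, z} := by
    ext a
    constructor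
    · rintro ⟨⟨ha, _⟩, ha3⟩
      exact h.five_fix hπ h5 a ha ha3
    · rintro (rfl | rfl)
      · exact ⟨⟨one_mem _, by simp⟩, by simp⟩
      · exact ⟨⟨h.pre.mem, h.pre.sq⟩, hπ⟩
  rw [m5', Set.ncard_pair h.pre.ne.symm] at m5
  -- the non-commuting part
  have hN : {q : G | q ∈ Q ∧ q * v ≠ v * q}.ncard = 16 := by
    have e : {q : G | q ∈ Q ∧ q * v ≠ v * q} = (Q : Set G) \ ((Q ⊓ Subgroup.centralizer ({v} : Set G) : Subgroup G) : Set G) := by
      ext q
      simp only [Set.mem_setOf_eq, Set.mem_diff, SetLike.mem_coe, Subgroup.mem_inf, mem_centralizer_one]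
      tauto
    rw [e, Set.ncard_diff (by exact_mod_cast inf_le_left), ← card_eq_ncard, ← card_eq_ncard, h.card, h.card_CQ hv hv1 hvz]
  have hflip : ∀ q ∈ Q, q * v ≠ v * q → (q * v) * (q * v) = z * (q * q) := by
    intro q hq hqv
    rcases h.pre.comm q hq v hv with h1 | h1
    · exact absurd h1 hqv
    · have h1' : v * q = z * (q * v) := by
        rw [h1, ← mul_assoc, h.pre.sq, one_mul]
      calc (q * v) * (q * v) = q * (v * q) * v := by simp only [mul_assoc]
        _ = (q * z) * q * (v * v) := by rw [h1']; simp only [mul_assoc]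
        _ = z * (q * q) := by rw [hv2, mul_one, h.pre.cen q hq]; simp only [mul_assoc]
  have hv' : v⁻¹ = v := by rw [inv_eq_iff_mul_eq_one]; exact hv2
  have hne : ∀ q : G, q * v ≠ v * q → q * v * v ≠ v * (q * v) := by
    intro q hq h2
    apply hq
    rw [← mul_assoc] at h2
    exact mul_right_cancel h2
  have hE : {q : G | q ∈ Q ∧ q * v ≠ v * q ∧ q * q = 1}.ncard = {q : G | q ∈ Q ∧ q * v ≠ v * q ∧ q * q ≠ 1}.ncard := by
    apply ncard_mul_right _ _ v
    · rintro a ⟨ha, hav, ha2⟩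
      refine ⟨mul_mem ha hv, hne a hav, ?_⟩
      rw [hflip a ha hav, ha2, mul_one]; exact h.pre.ne
    · rintro a ⟨ha, hav, ha2⟩
      rw [hv']
      refine ⟨mul_mem ha hv, hne a hav, ?_⟩
      rw [hflip a ha hav]
      rcases h.pre.qsq a ha with h3 | h3
      · exact absurd h3 ha2
      · rw [h3, h.pre.sq]
  have hU : {q : G | q ∈ Q ∧ q * v ≠ v * q ∧ q * q = 1}.ncard + {q : G | q ∈ Q ∧ q * v ≠ v * q ∧ q * q ≠ 1}.ncard = 16 := by
    rw [← hN, ← Set.ncard_union_eq]
    · congr 1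
      ext q
      simp only [Set.mem_union, Set.mem_setOf_eq]
      tauto
    · rw [Set.disjoint_left]
      rintro a ⟨_, _, h1⟩ ⟨_, _, h2⟩
      exact h2 h1
  have hS : {q : G | q ∈ Q ∧ q * q = 1}.ncard = {q : G | q ∈ Q ∧ q * v = v * q ∧ q * q = 1}.ncard +
      {q : G | q ∈ Q ∧ q * v ≠ v * q ∧ q * q = 1}.ncard := by
    rw [← Set.ncard_union_eq]
    · congr 1
      ext q
      simp only [Set.mem_union, Set.mem_setOf_eq]
      tauto
    · rw [Set.disjoint_left]
      rintro a ⟨_, h1, _⟩ ⟨_, h2, _⟩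
      exact h2 h1
  -- the commuting part
  have h4 : 4 ∣ {q : G | q ∈ Q ∧ q * v = v * q ∧ q * q = 1}.ncard := by
    have := card_dvd_of_mul (Subgroup.closure ({z, v} : Set G)) {q : G | q ∈ Q ∧ q * v = v * q ∧ q * q = 1} (by
      rintro a ⟨ha, hav, ha2⟩ w hw
      have hwQ : w ∈ Q := by
        rcases (h.mem_V hv hv2).1 hw with rfl | rfl | rfl | rfl
        · exact one_mem _
        · exact h.pre.mem
        · exact hv
        · exact mul_mem h.pre.mem hv
      have hwv : w * v = v * w := by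
        rcases (h.mem_V hv hv2).1 hw with rfl | rfl | rfl | rfl
        · simp
        · exact hvz'.symm
        · rfl
        · rw [← mul_assoc, hvz', mul_assoc]
      have hwa : w * a = a * w := by
        rcases (h.mem_V hv hv2).1 hw with rfl | rfl | rfl | rfl
        · simp
        · exact (h.pre.cen a ha).symm
        · exact hav.symm
        · rw [mul_assoc, ← hav, ← mul_assoc, ← h.pre.cen a ha, mul_assoc]
      have hww : w * w = 1 := by
        rcases (h.mem_V hv hv2).1 hw with rfl | rfl | rfl | rfl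
        · simp
        · exact h.pre.sq
        · exact hv2
        · calc z * v * (z * v) = z * (v * z) * v := by simp only [mul_assoc]
            _ = (z * z) * (v * v) := by rw [hvz']; simp only [mul_assoc]
            _ = 1 := by rw [h.pre.sq, hv2, one_mul]
      refine ⟨mul_mem ha hwQ, ?_, ?_⟩
      · rw [mul_assoc, hwv, ← mul_assoc, hav, mul_assoc]
      · calc a * w * (a * w) = a * (w * a) * w := by simp only [mul_assoc]
          _ = (a * a) * (w * w) := by rw [hwa]; simp only [mul_assoc]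
          _ = 1 := by rw [ha2, hww, one_mul])
    rwa [h.card_V hv hv2 hv1 hvz] at this
  have hle : {q : G | q ∈ Q ∧ q * v = v * q ∧ q * q = 1}.ncard ≤ 16 := by
    rw [← h.card_CQ hv hv1 hvz, card_eq_ncard]
    apply Set.ncard_le_ncard _ (Set.toFinite _)
    rintro a ⟨ha, hav, _⟩
    exact ⟨ha, mem_centralizer_one.2 hav⟩
  have h8 : {q : G | q ∈ Q ∧ q * v ≠ v * q ∧ q * q = 1}.ncard = 8 := by omega
  rw [h8] at hS
  rw [Nat.ModEq] at m5
  omega

theorem cent_inv (h : Base z Q) {v : G} (hv : v ∈ Q) (hv2 : v * v = 1) (hv1 : v ≠ 1) (hvz : v ≠ z)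
    {q : G} (hq : q ∈ Q) (hqv : q * v = v * q) (hq2 : q * q = 1) : q ∈ Subgroup.closure ({z, v} : Set G) := by
  have h1 := (h.count hv hv2 hv1 hvz).2
  have hvz' : v * z = z * v := h.pre.cen v hv
  have h2 : ((Subgroup.closure ({z, v} : Set G) : Subgroup G) : Set G) ⊆ {q : G | q ∈ Q ∧ q * v = v * q ∧ q * q = 1} := by
    intro w hw
    rcases (h.mem_V hv hv2).1 hw with rfl | rfl | rfl | rfl
    · exact ⟨one_mem _, by simp, by simp⟩
    · exact ⟨h.pre.mem, hvz'.symm, h.pre.sq⟩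
    · exact ⟨hv, rfl, hv2⟩
    · refine ⟨mul_mem h.pre.mem hv, by rw [← mul_assoc, hvz', mul_assoc], ?_⟩
      calc z * v * (z * v) = z * (v * z) * v := by simp only [mul_assoc]
            _ = (z * z) * (v * v) := by rw [hvz']; simp only [mul_assoc]
            _ = 1 := by rw [h.pre.sq, hv2, one_mul]
  have h3 := Set.eq_of_subset_of_ncard_le h2 (by rw [h1, ← card_eq_ncard, h.card_V hv hv2 hv1 hvz]) (Set.toFinite _)
  have h4 : q ∈ {q : G | q ∈ Q ∧ q * v = v * q ∧ q * q = 1} := ⟨hq, hqv, hq2⟩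
  rw [← h3] at h4
  exact h4

/-- `C(z)` is transitive on the non-central involutions of `Q`. -/
theorem conj_inv (h : Base z Q) {u v : G} (hu : u ∈ Q) (hu2 : u * u = 1) (hu1 : u ≠ 1) (huz : u ≠ z)
    (hv : v ∈ Q) (hv2 : v * v = 1) (hv1 : v ≠ 1) (hvz : v ≠ z) :
    ∃ c : G, c * z = z * c ∧ c * u * c⁻¹ = v := by
  have : Fact (Nat.Prime 5) := ⟨by norm_num⟩
  have : Fact (Nat.Prime 2) := ⟨by norm_num⟩
  obtain ⟨π, hπ, h5⟩ := h.exists_five
  by_contra hcon
  let A : Set G := {w : G | w ∈ Q ∧ w * w = 1 ∧ w ≠ 1 ∧ w ≠ z ∧ ¬ ∃ c : G, c * z = z * c ∧ c * u * c⁻¹ = w}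
  have hstab : ∀ c : G, c * z = z * c → ∀ w ∈ A, c * w * c⁻¹ ∈ A := by
    rintro c hc w ⟨hw, hw2, hw1, hwz, hwc⟩
    refine ⟨h.pre.norm c hc w hw, ?_, ?_, ?_, ?_⟩
    · calc c * w * c⁻¹ * (c * w * c⁻¹) = c * (w * w) * c⁻¹ := by group
        _ = 1 := by rw [hw2]; group
    · intro h1
      apply hw1
      rw [mul_inv_eq_one] at h1
      exact mul_left_cancel (h1.trans (mul_one c).symm)
    · intro h1
      apply hwz
      rw [mul_inv_eq_iff_eq_mul, ← hc] at h1
      exact mul_left_cancel h1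
    · rintro ⟨d, hd, hd2⟩
      apply hwc
      refine ⟨c⁻¹ * d, ?_, ?_⟩
      · have hc' : c⁻¹ * z = z * c⁻¹ := by
          rw [inv_mul_eq_iff_eq_mul, ← mul_assoc, hc, mul_inv_cancel_right]
        rw [mul_assoc, hd, ← mul_assoc, hc', mul_assoc]
      · calc c⁻¹ * d * u * (c⁻¹ * d)⁻¹ = c⁻¹ * (d * u * d⁻¹) * c := by group
          _ = w := by rw [hd2]; group
  have hvA : v ∈ A := ⟨hv, hv2, hv1, hvz, hcon⟩
  -- 5 divides the size
  have m5 := fix_mod (p := 5) (g := π) (by rw [← h5]; exact pow_orderOf_eq_one π) A (hstab π hπ)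
  have m5' : {a : G | a ∈ A ∧ π * a = a * π} = ∅ := by
    rw [Set.eq_empty_iff_forall_notMem]
    rintro a ⟨⟨ha, _, ha1, haz, _⟩, ha3⟩
    rcases h.five_fix hπ h5 a ha ha3 with h1 | h1
    · exact ha1 h1
    · exact haz h1
  rw [m5', Set.ncard_empty] at m5
  have m2 := card_dvd_of_mul (Subgroup.zpowers z) A (by
    intro a ha w hw
    rcases (mem_zpowers_of_sq h.pre.sq).1 hw with rfl | rfl
    · simpa using ha
    · obtain ⟨q, hq, hq2⟩ := h.pre.exists_conj ha.1 ha.2.2.1 ha.2.2.2.1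
      rw [h.pre.cen a ha.1, ← hq2]
      exact hstab q (h.pre.cen q hq) a ha)
  rw [Nat.card_zpowers, h.pre.orderOf] at m2
  -- but it is at most 9
  have hle : A.ncard < 10 := by
    have h1 : (insert u A ∪ {1, z}).ncard ≤ {q : G | q ∈ Q ∧ q * q = 1}.ncard := by
      apply Set.ncard_le_ncard _ (Set.toFinite _)
      rintro w ((rfl | hw) | (rfl | rfl))
      · exact ⟨hu, hu2⟩
      · exact ⟨hw.1, hw.2.1⟩
      · exact ⟨one_mem _, by simp⟩
      · exact ⟨h.pre.mem, h.pre.sq⟩
    have huA : u ∉ A := fun hA => hA.2.2.2.2 ⟨1, by simp, by simp⟩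
    rw [Set.ncard_union_eq, Set.ncard_insert_of_notMem huA (Set.toFinite _), Set.ncard_pair h.pre.ne.symm, (h.count hv hv2 hv1 hvz).1] at h1
    · omega
    · rw [Set.disjoint_left]
      rintro w (rfl | hw) (h2 | h2)
      · exact hu1 h2
      · exact huz h2
      · exact hw.2.2.1 h2
      · exact hw.2.2.2.1 h2
  have hpos : 0 < A.ncard := (Set.ncard_pos (Set.toFinite _)).2 ⟨v, hvA⟩
  rw [Nat.ModEq] at m5
  omega

/-- `|C(z) ∩ C(v)| = 192`. -/
theorem card_cent_two (h : Base z Q) {v : G} (hv : v ∈ Q) (hv2 : v * v = 1) (hv1 : v ≠ 1) (hvz : v ≠ z) :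
    Nat.card ↥(Subgroup.centralizer ({z} : Set G) ⊓ Subgroup.centralizer ({v} : Set G)) = 192 := by
  have h1 := InvAct.card_conj_orbit (Subgroup.centralizer ({z} : Set G)) v
  have h2 : {w : G | ∃ k ∈ Subgroup.centralizer ({z} : Set G), k * v * k⁻¹ = w} =
      {q : G | q ∈ Q ∧ q * q = 1} \ {1, z} := by
    ext w
    constructor
    · rintro ⟨k, hk, rfl⟩
      have hk := mem_centralizer_one.1 hk
      refine ⟨⟨h.pre.norm k hk v hv, ?_⟩, ?_⟩
      · calc k * v * k⁻¹ * (k * v * k⁻¹) = k * (v * v) * k⁻¹ := by group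
          _ = 1 := by rw [hv2]; group
      · rintro (h1 | h1)
        · apply hv1
          rw [mul_inv_eq_one] at h1
          exact mul_left_cancel (h1.trans (mul_one k).symm)
        · apply hvz
          have h1 : k * v * k⁻¹ = z := h1
          rw [mul_inv_eq_iff_eq_mul, ← hk] at h1
          exact mul_left_cancel h1
    · rintro ⟨⟨hw, hw2⟩, hw3⟩
      simp only [Set.mem_insert_iff, Set.mem_singleton_iff, not_or] at hw3
      obtain ⟨c, hc, hc2⟩ := h.conj_inv hv hv2 hv1 hvz hw hw2 hw3.1 hw3.2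
      exact ⟨c, mem_centralizer_one.2 hc, hc2⟩
  have h3 : ({q : G | q ∈ Q ∧ q * q = 1} \ {1, z}).ncard = 10 := by
    rw [Set.ncard_diff, (h.count hv hv2 hv1 hvz).1, Set.ncard_pair h.pre.ne.symm]
    rintro w (rfl | rfl)
    · exact ⟨one_mem _, by simp⟩
    · exact ⟨h.pre.mem, h.pre.sq⟩
  rw [h2, h3, h.card_cent] at h1
  omega

end Base

end base

end Cfsg.Agent.Lib.JTw
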