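import Cfsg.Agent.Lib.JTw9
import Mathlib

/-!
# Groups of Hall–Janko type: elements of order five
-/

set_option autoImplicit false

namespace Cfsg.Agent.Lib.JTw

open Cfsg Cfsg.Agent.Lib.LargeExtra Setup

section a5

theorem a5_conj5 : ∀ a b : alternatingGroup (Fin 5), a ≠ 1 → a ^ 5 = 1 → b ≠ 1 → b ^ 5 = 1 →
    ∃ c, c * a * c⁻¹ = b ∨ c * a * c⁻¹ = b ^ 2 := by
  decide +kernel

theorem a5_inv5 : ∀ a : alternatingGroup (Fin 5), a ^ 5 = 1 → ∃ c, c * a * c⁻¹ = a⁻¹ := by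
  decide +kernel

theorem a5_norm5 : ∀ a : alternatingGroup (Fin 5), a ≠ 1 → a ^ 5 = 1 →
    (Finset.univ.filter (fun c => c * a * c⁻¹ = a ∨ c * a * c⁻¹ = a ^ 2 ∨ c * a * c⁻¹ = a ^ 3 ∨ c * a * c⁻¹ = a ^ 4)).card = 10 := by
  decide +kernel

theorem a5_exists5 : ∃ a : alternatingGroup (Fin 5), orderOf a = 5 := by
  have : Fact (Nat.Prime 5) := ⟨by norm_num⟩
  exact exists_prime_orderOf_dvd_card' 5 (by rw [Base.card_alt5]; norm_num)

theorem a4_exp : ∀ a : alternatingGroup (Fin 4), a ^ 6 = 1 := by decide +kernel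

end a5

/-- `t`-type 5-elements. -/
structure T5 {G : Type*} [Group G] [Finite G] (S : Setup G) (u w t : G) (K : Subgroup G) (x : G) : Prop extends
    KK S u w t K where
  x5 : orderOf x = 5
  xK : x ∈ K

namespace KK

variable {G : Type*} [Group G] [Finite G] {S : Setup G} {u w t : G} {K : Subgroup G}

open Four TS

theorem exists_x5 (k : KK S u w t K) : ∃ x, T5 S u w t K x := by
  obtain ⟨e⟩ := k.main.2.2
  obtain ⟨a, ha⟩ := a5_exists5
  refine ⟨(e.symm a : K), k, ?_, (e.symm a).2⟩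
  rw [Subgroup.orderOf_coe, MulEquiv.orderOf_eq, ha]

theorem mem_K5 (k : KK S u w t K) {x : G} (hx : x * t = t * x) (h5 : x ^ 5 = 1) : x ∈ K := by
  have h1 := k.sq_mem_K hx
  have h2 : x = (x * x) ^ 3 := by
    have : (x * x) ^ 3 = x ^ 5 * x := by
      rw [← pow_two, ← pow_mul, ← pow_succ]
    rw [this, h5, one_mul]
  rw [h2]; exact pow_mem h1 3

/-- the centralizer of a 5-element of `K` in `C(t)`. -/
theorem card_cent_x (k : KK S u w t K) {x : G} (hx : x ∈ K) (h5 : orderOf x = 5) :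
    Nat.card ↥(Subgroup.centralizer ({x} : Set G) ⊓ Subgroup.centralizer ({t} : Set G)) = 20 ∧
    (∀ c, c * x = x * c → c * t = t * c → ∃ y ∈ Y K t, ∃ x' ∈ Subgroup.zpowers x, c = y * x') := by
  obtain ⟨e⟩ := k.main.2.2
  have hx1 : (⟨x, hx⟩ : K) ≠ 1 := by
    intro h
    have : x = 1 := congrArg Subtype.val h
    rw [this, orderOf_one] at h5; norm_num at h5
  have hx5 : (⟨x, hx⟩ : K) ^ 5 = 1 := by
    apply Subtype.ext
    show x ^ 5 = 1
    rw [← h5]; exact pow_orderOf_eq_one x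
  have h1 := a5_card_cent5 (a := e ⟨x, hx⟩) (by rwa [ne_eq, EmbeddingLike.map_eq_one_iff]) (by rw [← map_pow, hx5, map_one])
  -- C_K(x) = ⟨x⟩
  have hCK : ∀ c ∈ K, c * x = x * c → c ∈ Subgroup.zpowers x := by
    intro c hc hcx
    have h2 : Subgroup.zpowers (e ⟨x, hx⟩) ≤ Subgroup.centralizer ({e ⟨x, hx⟩} : Set (alternatingGroup (Fin 5))) := by
      rw [Subgroup.zpowers_le, mem_centralizer_one]
    have h3 : Subgroup.zpowers (e ⟨x, hx⟩) = Subgroup.centralizer ({e ⟨x, hx⟩} : Set (alternatingGroup (Fin 5))) := by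
      apply Subgroup.eq_of_le_of_card_ge h2
      rw [h1, Nat.card_zpowers, MulEquiv.orderOf_eq, ← Subgroup.orderOf_coe, h5]
    have h4 : e ⟨c, hc⟩ ∈ Subgroup.centralizer ({e ⟨x, hx⟩} : Set (alternatingGroup (Fin 5))) := by
      rw [mem_centralizer_one, ← map_mul, ← map_mul]
      congr 1
      exact Subtype.ext hcx
    rw [← h3, Subgroup.mem_zpowers_iff] at h4
    obtain ⟨n, hn⟩ := h4
    rw [← map_zpow] at hn
    have h5 := congrArg Subtype.val (e.injective hn)
    exact ⟨n, h5⟩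
  have hdec : ∀ c, c * x = x * c → c * t = t * c → ∃ y ∈ Y K t, ∃ x' ∈ Subgroup.zpowers x, c = y * x' := by
    intro c hcx hct
    obtain ⟨y, hy, x', hx', rfl⟩ := k.exists_mul hct
    refine ⟨y, hy, x', ?_, rfl⟩
    apply hCK x' hx'
    have h2 := (mem_Y.1 hy).1 x hx
    -- y x' x = x y x' = y x x'
    rw [mul_assoc, ← mul_assoc x y x', h2, mul_assoc] at hcx
    exact mul_left_cancel hcx
  refine ⟨?_, hdec⟩
  have hle : Y K t ≤ Subgroup.normalizer ((Subgroup.zpowers x : Subgroup G) : Set G) := by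
    intro y hy
    apply Subgroup.mem_normalizer_fintype
    rintro _ ⟨n, rfl⟩
    have h2 : y * x = x * y := ((mem_Y.1 hy).1 x hx).symm
    have h3 : y * x ^ n = x ^ n * y := (Commute.zpow_right h2 n)
    show y * x ^ n * y⁻¹ ∈ _
    rw [h3, mul_inv_cancel_right]
    exact ⟨n, rfl⟩
  have h2 := SubgroupTools.card_sup_mul_card_inf hle
  have h3 : Subgroup.zpowers x ⊓ Y K t = ⊥ := by
    rw [Subgroup.eq_bot_iff_forall]
    rintro y ⟨hy1, hy2⟩
    exact k.Y_inf hy2 ((Subgroup.zpowers_le.2 hx) hy1)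
  rw [h3, Subgroup.card_bot, mul_one, Nat.card_zpowers, h5, k.card_Y] at h2
  have h4 : Subgroup.zpowers x ⊔ Y K t = Subgroup.centralizer ({x} : Set G) ⊓ Subgroup.centralizer ({t} : Set G) := by
    apply le_antisymm
    · apply sup_le
      · rw [Subgroup.zpowers_le]
        exact ⟨mem_centralizer_one.2 rfl, mem_centralizer_one.2 (k.comm_t hx)⟩
      · intro y hy
        exact ⟨mem_centralizer_one.2 ((mem_Y.1 hy).1 x hx).symm, mem_centralizer_one.2 (mem_Y.1 hy).2⟩
    · rintro c ⟨hc1, hc2⟩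
      obtain ⟨y, hy, x', hx', rfl⟩ := hdec c (mem_centralizer_one.1 hc1) (mem_centralizer_one.1 hc2)
      exact mul_mem (Subgroup.mem_sup_right hy) (Subgroup.mem_sup_left hx')
  rw [← h4, h2]

end KK

namespace T5

variable {G : Type*} [Group G] [Finite G] {S : Setup G} {u w t : G} {K : Subgroup G} {x : G}

open Four TS KK

theorem pow5 (d : T5 S u w t K x) : x ^ 5 = 1 := by rw [← d.x5]; exact pow_orderOf_eq_one x

theorem ne1 (d : T5 S u w t K x) : x ≠ 1 := by
  intro h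
  have := d.x5
  rw [h, orderOf_one] at this; norm_num at this

/-- changing the involution -/
theorem change (d : T5 S u w t K x) {c : G} (hc : IsConj t c) (hcx : c * x = x * c) :
    ∃ (u' w' : G) (K' : Subgroup G), T5 S u' w' c K' x := by
  have hc2 : orderOf c = 2 := by
    obtain ⟨g, rfl⟩ := isConj_iff.1 hc
    have : g * t * g⁻¹ = MulAut.conj g t := by simp
    rw [this, MulEquiv.orderOf_eq, d.toTS.t_ord]
  have hcl : ∃ x y : G, orderOf x = 2 ∧ orderOf y = 2 ∧ ¬ IsConj x y :=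
    ⟨u, t, InvAct.orderOf_two_iff.2 ⟨d.f.hu2, d.f.hu1⟩, d.toTS.t_ord, fun h => d.hZ (d.f.hu.trans h)⟩
  obtain ⟨u', w', K', k'⟩ := exists_KK_of S hcl hc2 (fun h => d.hZ (h.trans hc.symm))
  exact ⟨u', w', K', k', d.x5, k'.mem_K5 hcx.symm d.pow5⟩

/-- 2-elements of `C(x) ∩ C(t)` are in `Y`. -/
theorem two_Y (d : T5 S u w t K x) {c : G} (hcx : c * x = x * c) (hct : c * t = t * c) {m : ℕ} (hc : c ^ 2 ^ m = 1) :
    c ∈ Y K t := by
  obtain ⟨y, hy, x', hx', rfl⟩ := (d.toKK.card_cent_x d.xK d.x5).2 c hcx hct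
  have hx'K : x' ∈ K := (Subgroup.zpowers_le.2 d.xK) hx'
  have hcomm : Commute y x' := ((mem_Y.1 hy).1 x' hx'K).symm
  rw [hcomm.mul_pow] at hc
  have h1 : y ^ 2 ^ m = (x' ^ 2 ^ m)⁻¹ := eq_inv_of_mul_eq_one_left hc
  have h2 : y ^ 2 ^ m = 1 := d.toKK.Y_inf (pow_mem hy _) (by rw [h1]; exact inv_mem (pow_mem hx'K _))
  rw [h2, one_mul] at hc
  have h3 : orderOf x' ∣ 2 ^ m := orderOf_dvd_of_pow_eq_one hc
  have h4 : orderOf x' ∣ 5 := by
    have := Subgroup.orderOf_dvd_natCard _ hx'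
    rwa [Nat.card_zpowers, d.x5] at this
  have h5 : orderOf x' ∣ 1 := by
    have h6 : Nat.Coprime (2 ^ m) 5 := Nat.Coprime.pow_left _ (by norm_num)
    have := Nat.dvd_gcd h3 h4
    rwa [Nat.Coprime.gcd_eq_one h6] at this
  have h6 : x' = 1 := orderOf_eq_one_iff.1 (Nat.dvd_one.1 h5)
  rw [h6, mul_one]; exact hy

/-- no `z`-type involution in `C(x)` -/
theorem not_Z (d : T5 S u w t K x) {c : G} (hcx : c * x = x * c) : ¬ S.Z c := by
  intro hZ
  have : Fact (Nat.Prime 2) := ⟨Nat.prime_two⟩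
  let D : Subgroup G := Subgroup.centralizer ({x} : Set G)
  have hcD : c ∈ D := mem_centralizer_one.2 hcx
  have hp : IsPGroup 2 (Subgroup.zpowers (⟨c, hcD⟩ : D)) := by
    apply IsPGroup.of_card (n := 1)
    rw [Nat.card_zpowers, pow_one]
    exact InvAct.orderOf_two_iff.2 ⟨Subtype.ext hZ.base.pre.sq, fun h => hZ.base.pre.ne (congrArg Subtype.val h)⟩
  obtain ⟨P, hP⟩ := hp.exists_le_sylow
  have hcP : (⟨c, hcD⟩ : D) ∈ (P : Subgroup D) := hP (Subgroup.mem_zpowers _)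
  have hnt : Nontrivial (P : Subgroup D) := ⟨⟨⟨_, hcP⟩, 1, fun h => hZ.base.pre.ne (congrArg (fun s : (P : Subgroup D) => ((s : D) : G)) h)⟩⟩
  have hnt2 := IsPGroup.center_nontrivial P.2
  have hcp : IsPGroup 2 (Subgroup.center (P : Subgroup D)) := P.2.to_subgroup _
  obtain ⟨m, hm⟩ := IsPGroup.iff_card.1 hcp
  have hm0 : 2 ∣ Nat.card (Subgroup.center (P : Subgroup D)) := by
    rw [hm]
    have : m ≠ 0 := by
      rintro rfl
      rw [pow_zero] at hm
      have := Finite.one_lt_card (α := Subgroup.center (P : Subgroup D))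
      omega
    exact dvd_pow_self 2 this
  obtain ⟨s, hs⟩ := exists_prime_orderOf_dvd_card' (G := Subgroup.center (P : Subgroup D)) 2 hm0
  obtain ⟨hs2, hs1⟩ := InvAct.orderOf_two_iff.1 hs
  set s' : G := (((s : (P : Subgroup D)) : D) : G) with hs'
  have hs'2 : s' * s' = 1 := congrArg (fun s : Subgroup.center (P : Subgroup D) => (((s : (P : Subgroup D)) : D) : G)) hs2
  have hs'1 : s' ≠ 1 := by
    intro h; apply hs1
    apply Subtype.ext; apply Subtype.ext; apply Subtype.ext; exact h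
  have hs'x : s' * x = x * s' := mem_centralizer_one.1 ((s : (P : Subgroup D)) : D).2
  have hPs : ∀ p ∈ (P : Subgroup D), (p : G) * s' = s' * p := by
    intro p hp
    have h4 := Subgroup.mem_center_iff.1 s.2 ⟨p, hp⟩
    exact congrArg (fun s : (P : Subgroup D) => ((s : D) : G)) h4
  rcases d.f.inv_type d.ht hs'2 hs'1 with h1 | h1
  · -- Z-type : |P| ∣ 10
    have h2 := (Setup.Z.base h1).five_cent hs'x.symm d.x5
    have h3 : Nat.card P ∣ 10 := by
      rw [← h2]
      have h3 : (P : Subgroup D).map D.subtype ≤ D ⊓ Subgroup.centralizer ({s'} : Set G) := by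
        rintro _ ⟨p, hp, rfl⟩
        exact ⟨p.2, mem_centralizer_one.2 (hPs p hp)⟩
      have h4 := Subgroup.card_dvd_of_le h3
      rwa [Subgroup.card_map_of_injective (Subgroup.subtype_injective _)] at h4
    have h4 : 4 ∣ Nat.card P := by
      have h5 : 2 ^ 2 ∣ Nat.card D := by
        have h6 : Y K t ≤ D := fun y hy => mem_centralizer_one.2 ((mem_Y.1 hy).1 x d.xK).symm
        have h7 := Subgroup.card_dvd_of_le h6
        rw [d.toKK.card_Y] at h7
        exact h7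
      exact Sylow.pow_dvd_card_of_pow_dvd_card P h5
    have h5 := h4.trans h3
    revert h5; decide
  · obtain ⟨u', w', K', d'⟩ := d.change h1 hs'x
    have h2 := hPs _ hcP
    have h3 : c ∈ Y K' s' := d'.two_Y hcx h2 (m := 1) (by rw [pow_one, pow_two]; exact hZ.base.pre.sq)
    have h4 := (d'.toKK.cent_Y h3 hZ.base.pre.ne).1
    exact d'.hZ (hZ.trans h4.symm)

theorem inv_conj (d : T5 S u w t K x) {c : G} (hcx : c * x = x * c) (hc2 : c * c = 1) (hc1 : c ≠ 1) : IsConj t c := by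
  rcases d.f.inv_type d.ht hc2 hc1 with h | h
  · exact absurd h (d.not_Z hcx)
  · exact h

end T5

end Cfsg.Agent.Lib.JTw
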