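import Cfsg.Agent.Lib.JTw10
import Mathlib

/-!
# Groups of Hall–Janko type: the centralizer of a `t`-type element of order five
-/

set_option autoImplicit false

namespace Cfsg.Agent.Lib.JTw

open Cfsg Cfsg.Agent.Lib.LargeExtra Setup

namespace KK

variable {G : Type*} [Group G] [Finite G] {S : Setup G} {u w t : G} {K : Subgroup G}

theorem card_G (k : KK S u w t K) : Nat.card G = 604800 := k.main.2.1

theorem card_P5 (k : KK S u w t K) (P : Sylow 5 G) : Nat.card P = 25 := by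
  have : Fact (Nat.Prime 5) := ⟨by norm_num⟩
  obtain ⟨n, hn⟩ := IsPGroup.iff_card.1 P.2
  have h1 : (5 ^ 2 : ℕ) ∣ Nat.card P := by
    apply Sylow.pow_dvd_card_of_pow_dvd_card
    rw [k.card_G]; norm_num
  have h2 : 2 ≤ n := by
    rw [hn] at h1
    exact (Nat.pow_dvd_pow_iff_le_right (by norm_num)).1 h1
  have h3 : n ≤ 2 := by
    by_contra h4
    push Not at h4
    have h5 : (5 ^ 3 : ℕ) ∣ 604800 := by
      rw [← k.card_G]
      refine Dvd.dvd.trans ?_ (Subgroup.card_subgroup_dvd_card (P : Subgroup G))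
      rw [hn]; exact pow_dvd_pow 5 h4
    revert h5; decide
  have h4 : n = 2 := le_antisymm h3 h2
  rw [hn, h4]; norm_num

theorem comm_P5 (k : KK S u w t K) (P : Sylow 5 G) {a b : G} (ha : a ∈ (P : Subgroup G)) (hb : b ∈ (P : Subgroup G)) :
    a * b = b * a := by
  have : Fact (Nat.Prime 5) := ⟨by norm_num⟩
  have h1 := (IsPGroup.isMulCommutative_of_card_eq_prime_sq (G := (P : Subgroup G)) (p := 5) (by rw [k.card_P5]; norm_num)).is_comm.comm ⟨a, ha⟩ ⟨b, hb⟩
  exact congrArg Subtype.val h1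

end KK

namespace T5

variable {G : Type*} [Group G] [Finite G] {S : Setup G} {u w t : G} {K : Subgroup G} {x : G}

open Four TS KK

theorem dvd25 (d : T5 S u w t K x) : 25 ∣ Nat.card (Subgroup.centralizer ({x} : Set G)) := by
  have : Fact (Nat.Prime 5) := ⟨by norm_num⟩
  have hp : IsPGroup 5 (Subgroup.zpowers x) := by
    apply IsPGroup.of_card (n := 1)
    rw [Nat.card_zpowers, d.x5]; norm_num
  obtain ⟨P, hP⟩ := hp.exists_le_sylow
  rw [← d.toKK.card_P5 P]
  apply Subgroup.card_dvd_of_le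
  intro y hy
  exact mem_centralizer_one.2 (d.toKK.comm_P5 P hy (hP (Subgroup.mem_zpowers x)))

/-- the centralizer of `x` modulo `⟨x⟩` is `A_5`. -/
theorem exists_hom (d : T5 S u w t K x) : ∃ φ : Subgroup.centralizer ({x} : Set G) →* alternatingGroup (Fin 5),
    Function.Surjective φ ∧ ∀ c, φ c = 1 ↔ (c : G) ∈ Subgroup.zpowers x := by
  have : Fact (Nat.Prime 2) := ⟨Nat.prime_two⟩
  have : Fact (Nat.Prime 5) := ⟨by norm_num⟩
  set D : Subgroup G := Subgroup.centralizer ({x} : Set G) with hD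
  have hmemD : ∀ c : D, (c : G) * x = x * c := fun c => mem_centralizer_one.1 c.2
  have hNn : ((Subgroup.zpowers x).subgroupOf D).Normal := by
    constructor
    rintro n ⟨i, hi⟩ g
    refine ⟨i, ?_⟩
    have h1 : (g : G) * x ^ i = x ^ i * g := (Commute.zpow_right (hmemD g) i)
    have h2 : (n : G) = x ^ i := hi.symm
    show x ^ i = ((g * n * g⁻¹ : D) : G)
    simp only [Subgroup.coe_mul, Subgroup.coe_inv]
    rw [h2, h1, mul_inv_cancel_right]
  let π : D →* D ⧸ (Subgroup.zpowers x).subgroupOf D := QuotientGroup.mk' _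
  have hπs : Function.Surjective π := QuotientGroup.mk'_surjective _
  have hπ : ∀ c : D, π c = 1 ↔ (c : G) ∈ Subgroup.zpowers x := by
    intro c
    show (QuotientGroup.mk c : D ⧸ (Subgroup.zpowers x).subgroupOf D) = 1 ↔ _
    rw [QuotientGroup.eq_one_iff]; rfl
  have hxpow : ∀ y ∈ Subgroup.zpowers x, y ^ 5 = 1 := by
    rintro _ ⟨i, rfl⟩
    show (x ^ i) ^ 5 = 1
    rw [← zpow_natCast, ← zpow_mul, mul_comm, zpow_mul, zpow_natCast, d.pow5, one_zpow]
  -- lifting involutions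
  have hlift : ∀ s : D ⧸ (Subgroup.zpowers x).subgroupOf D, s * s = 1 → s ≠ 1 →
      ∃ c : D, c * c = 1 ∧ c ≠ 1 ∧ π c = s := by
    intro s hs2 hs1
    obtain ⟨c, rfl⟩ := hπs s
    have h1 : ((c * c : D) : G) ∈ Subgroup.zpowers x := by
      rw [← hπ, map_mul]; exact hs2
    have h2 := hxpow _ h1
    have h3 : c ^ 5 * c ^ 5 = 1 := by
      have : c ^ 5 * c ^ 5 = (c * c) ^ 5 := by rw [← pow_add, ← pow_two, ← pow_mul]
      rw [this]
      exact Subtype.ext h2
    have h4 : π (c ^ 5) = π c := by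
      rw [map_pow]
      have : π c ^ 5 = (π c * π c) ^ 2 * π c := by rw [← pow_two, ← pow_mul, ← pow_succ]
      rw [this, hs2, one_pow, one_mul]
    refine ⟨c ^ 5, h3, ?_, h4⟩
    intro h5
    rw [h5, map_one] at h4
    exact hs1 h4.symm
  -- centralizers
  have hcent : ∀ s : D, s * s = 1 → s ≠ 1 → ∃ Y' : Subgroup G, Nat.card Y' = 4 ∧ Y' ≤ D ∧
      (∀ y ∈ Y', y * y = 1) ∧ (∀ y ∈ Y', ∀ y' ∈ Y', y * y' = y' * y) ∧
      ∀ c : D, π c * π s = π s * π c → ∃ y : D, (y : G) ∈ Y' ∧ π c = π y := by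
    intro s hs2 hs1
    have hs2' : (s : G) * s = 1 := congrArg Subtype.val hs2
    have hs1' : (s : G) ≠ 1 := fun h => hs1 (Subtype.ext h)
    obtain ⟨u', w', K', d'⟩ := d.change (d.inv_conj (hmemD s) hs2' hs1') (hmemD s)
    refine ⟨Y K' s, d'.toKK.card_Y, fun y hy => mem_centralizer_one.2 ((mem_Y.1 hy).1 x d'.xK).symm,
      fun y hy => d'.toKK.Y_sq hy, fun y hy y' hy' => d'.toKK.Y_comm hy hy', ?_⟩
    intro c hc
    -- c commutes with s
    have h1 : π (c * s * c⁻¹ * s⁻¹) = 1 := by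
      rw [map_mul, map_mul, map_mul, map_inv, map_inv, hc]; group
    rw [hπ] at h1
    obtain ⟨i, hi⟩ := h1
    have hi : x ^ i = (c : G) * s * (c : G)⁻¹ * (s : G)⁻¹ := hi
    have h2 : (c : G) * s * (c : G)⁻¹ = x ^ i * s := by rw [hi]; group
    have h3 : x ^ i * (s : G) = s * x ^ i := (Commute.zpow_left (hmemD s).symm i)
    have h4 : (x ^ i) ^ 2 = 1 := by
      have h5 : (x ^ i * (s : G)) * (x ^ i * s) = 1 := by rw [← h2, cj_sq, hs2']; group
      have h6 : (x ^ i * (s : G)) * (x ^ i * s) = x ^ i * (s * x ^ i) * s := by simp only [mul_assoc]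
      rw [h6, ← h3] at h5
      calc (x ^ i) ^ 2 = (x ^ i) * (x ^ i) * ((s : G) * s) := by rw [hs2', mul_one, pow_two]
        _ = x ^ i * (x ^ i * (s : G)) * s := by simp only [mul_assoc]
        _ = 1 := h5
    have h5 : (x ^ i) ^ 5 = 1 := hxpow _ ⟨i, rfl⟩
    have h6 : x ^ i = 1 := by
      have : (x ^ i) ^ 5 = (x ^ i) ^ 2 * (x ^ i) ^ 2 * x ^ i := by rw [← pow_add, ← pow_succ]
      rw [this, h4, one_mul, one_mul] at h5; exact h5
    rw [h6, one_mul] at h2
    have h7 : (c : G) * s = s * c := mul_inv_eq_iff_eq_mul.1 h2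
    obtain ⟨y, hy, x', hx', hcy⟩ := (d'.toKK.card_cent_x d'.xK d'.x5).2 c (hmemD c) h7
    have hyD : y ∈ D := mem_centralizer_one.2 ((mem_Y.1 hy).1 x d'.xK).symm
    have hx'D : x' ∈ D := (Subgroup.zpowers_le.2 (mem_centralizer_one.2 rfl)) hx'
    refine ⟨⟨y, hyD⟩, hy, ?_⟩
    have h8 : c = ⟨y, hyD⟩ * ⟨x', hx'D⟩ := Subtype.ext hcy
    rw [h8, map_mul, (hπ ⟨x', hx'D⟩).2 hx', mul_one]
  -- order of the quotient
  have hcardD : Nat.card D = 5 * Nat.card (D ⧸ (Subgroup.zpowers x).subgroupOf D) := by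
    rw [Subgroup.card_eq_card_quotient_mul_card_subgroup ((Subgroup.zpowers x).subgroupOf D),
      SubgroupTools.card_subgroupOf_of_le (Subgroup.zpowers_le.2 (mem_centralizer_one.2 rfl)), Nat.card_zpowers, d.x5, mul_comm]
  have h5q : 5 ∣ Nat.card (D ⧸ (Subgroup.zpowers x).subgroupOf D) := by
    have := d.dvd25
    rw [← hD, hcardD] at this
    exact Nat.dvd_of_mul_dvd_mul_left (k := 5) (by norm_num) (by simpa using this)
  have h4q : 4 ∣ Nat.card (D ⧸ (Subgroup.zpowers x).subgroupOf D) := by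
    have h6 : Y K t ≤ D := fun y hy => mem_centralizer_one.2 ((mem_Y.1 hy).1 x d.xK).symm
    have h7 := Subgroup.card_dvd_of_le h6
    rw [d.toKK.card_Y, hcardD] at h7
    exact Nat.Coprime.dvd_of_dvd_mul_left (by norm_num) h7
  obtain ⟨T⟩ : Nonempty (Sylow 2 (D ⧸ (Subgroup.zpowers x).subgroupOf D)) := inferInstance
  -- a central involution of `T`
  have h4T : 2 ^ 2 ∣ Nat.card T := Sylow.pow_dvd_card_of_pow_dvd_card T (by simpa using h4q)
  have hnt : Nontrivial (T : Subgroup (D ⧸ (Subgroup.zpowers x).subgroupOf D)) := by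
    rw [← Finite.one_lt_card_iff_nontrivial]
    exact lt_of_lt_of_le (by norm_num) (Nat.le_of_dvd Nat.card_pos h4T)
  have hnt2 := IsPGroup.center_nontrivial T.2
  have hcp : IsPGroup 2 (Subgroup.center (T : Subgroup (D ⧸ (Subgroup.zpowers x).subgroupOf D))) := T.2.to_subgroup _
  obtain ⟨m, hm⟩ := IsPGroup.iff_card.1 hcp
  have hm0 : 2 ∣ Nat.card (Subgroup.center (T : Subgroup (D ⧸ (Subgroup.zpowers x).subgroupOf D))) := by
    rw [hm]
    have : m ≠ 0 := by
      rintro rfl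
      rw [pow_zero] at hm
      have := Finite.one_lt_card (α := Subgroup.center (T : Subgroup (D ⧸ (Subgroup.zpowers x).subgroupOf D)))
      omega
    exact dvd_pow_self 2 this
  obtain ⟨s0, hs0⟩ := exists_prime_orderOf_dvd_card' (G := Subgroup.center (T : Subgroup (D ⧸ (Subgroup.zpowers x).subgroupOf D))) 2 hm0
  obtain ⟨hs02, hs01⟩ := InvAct.orderOf_two_iff.1 hs0
  obtain ⟨s, hs2, hs1, hs⟩ := hlift ((s0 : (T : Subgroup (D ⧸ (Subgroup.zpowers x).subgroupOf D))) : D ⧸ (Subgroup.zpowers x).subgroupOf D)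
    (congrArg (fun a : Subgroup.center (T : Subgroup (D ⧸ (Subgroup.zpowers x).subgroupOf D)) => ((a : (T : Subgroup (D ⧸ (Subgroup.zpowers x).subgroupOf D))) : D ⧸ (Subgroup.zpowers x).subgroupOf D)) hs02)
    (fun h => hs01 (Subtype.ext (Subtype.ext h)))
  obtain ⟨Y', hY4, hY'D, hYsq, hYc, hYcent⟩ := hcent s hs2 hs1
  have hTs : ∀ a ∈ (T : Subgroup (D ⧸ (Subgroup.zpowers x).subgroupOf D)), a * π s = π s * a := by
    intro a ha
    rw [hs]
    exact congrArg Subtype.val (Subgroup.mem_center_iff.1 s0.2 ⟨a, ha⟩)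
  have hTsq : ∀ a ∈ (T : Subgroup (D ⧸ (Subgroup.zpowers x).subgroupOf D)), a * a = 1 := by
    intro a ha
    obtain ⟨c, rfl⟩ := hπs a
    obtain ⟨y, hy, hcy⟩ := hYcent c (hTs _ ha)
    rw [hcy, ← map_mul, ← map_one π]
    congr 1
    exact Subtype.ext (hYsq _ hy)
  have hT4 : Nat.card T = 4 := by
    apply le_antisymm
    · have h1 : ((T : Subgroup (D ⧸ (Subgroup.zpowers x).subgroupOf D)) : Set (D ⧸ (Subgroup.zpowers x).subgroupOf D)) ⊆
          π '' ((Y'.subgroupOf D : Subgroup D) : Set D) := by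
        intro a ha
        obtain ⟨c, rfl⟩ := hπs a
        obtain ⟨y, hy, hcy⟩ := hYcent c (hTs _ ha)
        exact ⟨y, hy, hcy.symm⟩
      have h2 := Set.ncard_le_ncard h1 (Set.toFinite _)
      have h3 := Set.ncard_image_le (f := π) (s := ((Y'.subgroupOf D : Subgroup D) : Set D)) (Set.toFinite _)
      rw [← card_eq_ncard (Y'.subgroupOf D), SubgroupTools.card_subgroupOf_of_le hY'D, hY4] at h3
      have h4 : Nat.card T = _ := card_eq_ncard (T : Subgroup (D ⧸ (Subgroup.zpowers x).subgroupOf D))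
      rw [h4]
      exact h2.trans h3
    · exact Nat.le_of_dvd Nat.card_pos (by simpa using h4T)
  have hnc : ¬ IsCyclic (T : Subgroup (D ⧸ (Subgroup.zpowers x).subgroupOf D)) := by
    intro hcyc
    obtain ⟨g, hg⟩ := hcyc.exists_generator
    have h2 : orderOf g = 4 := by
      rw [orderOf_eq_card_of_forall_mem_zpowers hg, hT4]
    have h3 : orderOf g ∣ 2 := by
      apply orderOf_dvd_of_pow_eq_one
      rw [pow_two]
      exact Subtype.ext (hTsq g g.2)
    rw [h2] at h3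
    norm_num at h3
  have hnn : ¬ (T : Subgroup (D ⧸ (Subgroup.zpowers x).subgroupOf D)).Normal := by
    intro hn
    obtain ⟨a, ha⟩ := exists_prime_orderOf_dvd_card' (G := D ⧸ (Subgroup.zpowers x).subgroupOf D) 5 h5q
    have h1 := fix_mod (p := 5) (g := a) (by rw [← ha]; exact pow_orderOf_eq_one a)
      ((T : Subgroup (D ⧸ (Subgroup.zpowers x).subgroupOf D)) : Set (D ⧸ (Subgroup.zpowers x).subgroupOf D))
      (fun b hb => hn.conj_mem b hb a)
    have h2 : {b | b ∈ ((T : Subgroup (D ⧸ (Subgroup.zpowers x).subgroupOf D)) : Set (D ⧸ (Subgroup.zpowers x).subgroupOf D)) ∧ a * b = b * a} ⊆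
        ((T : Subgroup (D ⧸ (Subgroup.zpowers x).subgroupOf D)) : Set (D ⧸ (Subgroup.zpowers x).subgroupOf D)) := fun b hb => hb.1
    have h3 := Set.ncard_le_ncard h2 (Set.toFinite _)
    rw [← card_eq_ncard, hT4] at h1 h3
    have h4 : {b | b ∈ ((T : Subgroup (D ⧸ (Subgroup.zpowers x).subgroupOf D)) : Set (D ⧸ (Subgroup.zpowers x).subgroupOf D)) ∧ a * b = b * a} =
        ((T : Subgroup (D ⧸ (Subgroup.zpowers x).subgroupOf D)) : Set (D ⧸ (Subgroup.zpowers x).subgroupOf D)) := by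
      apply Set.eq_of_subset_of_ncard_le h2 _ (Set.toFinite _)
      rw [← card_eq_ncard, hT4]
      rw [Nat.ModEq] at h1
      omega
    have h5 : a * π s = π s * a := by
      have h6 : π s ∈ ((T : Subgroup (D ⧸ (Subgroup.zpowers x).subgroupOf D)) : Set (D ⧸ (Subgroup.zpowers x).subgroupOf D)) := by
        rw [hs]; exact (s0 : (T : Subgroup (D ⧸ (Subgroup.zpowers x).subgroupOf D))).2
      rw [← h4] at h6
      exact h6.2
    obtain ⟨c, rfl⟩ := hπs a
    obtain ⟨y, hy, hcy⟩ := hYcent c h5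
    have h6 : π c * π c = 1 := by
      rw [hcy, ← map_mul, ← map_one π]
      congr 1
      exact Subtype.ext (hYsq _ hy)
    have h7 : orderOf (π c) ∣ 2 := orderOf_dvd_of_pow_eq_one (by rw [pow_two]; exact h6)
    rw [ha] at h7
    norm_num at h7
  obtain ⟨F, hF, hF', hcard, ⟨e⟩⟩ := S1230.result T hnc hnn (by
    intro a ha
    obtain ⟨ha2, ha1⟩ := InvAct.orderOf_two_iff.1 ha
    obtain ⟨b, hb2, hb1, rfl⟩ := hlift a ha2 ha1
    obtain ⟨Y'', -, -, hYsq, hYc, hYcent⟩ := hcent b hb2 hb1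
    constructor
    · refine ⟨⟨fun a b => ?_⟩⟩
      apply Subtype.ext
      show (a : D ⧸ (Subgroup.zpowers x).subgroupOf D) * b = b * a
      have ha := mem_centralizer_one.1 a.2
      have hb := mem_centralizer_one.1 b.2
      obtain ⟨c, hc⟩ := hπs a
      obtain ⟨c', hc'⟩ := hπs b
      rw [← hc] at ha ⊢
      rw [← hc'] at hb ⊢
      obtain ⟨y, hy, hcy⟩ := hYcent c ha
      obtain ⟨y', hy', hcy'⟩ := hYcent c' hb
      rw [hcy, hcy', ← map_mul, ← map_mul]
      congr 1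
      exact Subtype.ext (hYc _ hy _ hy')
    · intro a ha
      have ha := mem_centralizer_one.1 ha
      obtain ⟨c, rfl⟩ := hπs a
      obtain ⟨y, hy, hcy⟩ := hYcent c ha
      rw [pow_two, hcy, ← map_mul, ← map_one π]
      congr 1
      exact Subtype.ext (hYsq _ hy))
  have hF4 : Fintype.card F = 4 := by
    rw [hcard, hT4]
  obtain ⟨e'⟩ := S0252.result hF4
  have e2 := e.trans e'
  refine ⟨e2.toMonoidHom.comp π, e2.surjective.comp hπs, ?_⟩
  intro c
  rw [← hπ]
  show e2 (π c) = 1 ↔ _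
  rw [EmbeddingLike.map_eq_one_iff]

end T5

end Cfsg.Agent.Lib.JTw
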