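import Cfsg.Agent.Lib.JTw11
import Mathlib

/-!
# Groups of Hall–Janko type: Sylow 5-subgroups
-/

set_option autoImplicit false

namespace Cfsg.Agent.Lib.JTw

open Cfsg Cfsg.Agent.Lib.LargeExtra Setup

section gen

variable {G : Type*} [Group G] [Finite G]

/-- An involutory map on a finite set. -/
theorem invol_mod (A : Set G) (f : G → G) (hf : ∀ a ∈ A, f a ∈ A) (hff : ∀ a ∈ A, f (f a) = a)
    (hfix : ∀ a ∈ A, f a ≠ a) : 2 ∣ A.ncard := by
  classical
  have : Fintype A := Fintype.ofFinite A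
  have : Fact (Nat.Prime 2) := ⟨Nat.prime_two⟩
  let g : Function.End A := fun a => ⟨f a.1, hf a.1 a.2⟩
  have hg : g ^ 2 ^ 1 = 1 := by
    funext a
    apply Subtype.ext
    exact hff a.1 a.2
  have h1 := Equiv.Perm.card_fixedPoints_modEq hg
  have e2 : Fintype.card g.fixedPoints = 0 := by
    rw [Fintype.card_eq_zero_iff]
    refine ⟨fun x => ?_⟩
    have : g x.1 = x.1 := x.2
    exact hfix x.1.1 x.1.2 (congrArg Subtype.val this)
  rw [e2, ← Nat.card_eq_fintype_card, Nat.card_coe_set_eq] at h1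
  exact Nat.modEq_zero_iff_dvd.1 h1

omit [Finite G] in
theorem conj_pow_pow {n x : G} {i : ℕ} (h : n * x * n⁻¹ = x ^ i) (k : ℕ) : n ^ k * x * (n ^ k)⁻¹ = x ^ (i ^ k) := by
  induction k with
  | zero => simp
  | succ k ih =>
    have : n ^ (k + 1) * x * (n ^ (k + 1))⁻¹ = n * (n ^ k * x * (n ^ k)⁻¹) * n⁻¹ := by
      rw [pow_succ']; group
    rw [this, ih, ← conj_pow, h, ← pow_mul, pow_succ']

end gen

section a5

theorem a5_card_norm5 {a : alternatingGroup (Fin 5)} (h1 : a ≠ 1) (h2 : a ^ 5 = 1) :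
    Nat.card (Subgroup.normalizer ((Subgroup.zpowers a : Subgroup (alternatingGroup (Fin 5))) : Set (alternatingGroup (Fin 5)))) = 10 := by
  classical
  refine Eq.trans ?_ (a5_norm5 a h1 h2)
  rw [card_eq_ncard, ← Set.ncard_coe_finset]
  congr 1
  have ho : orderOf a = 5 := by
    have : Fact (Nat.Prime 5) := ⟨by norm_num⟩
    exact orderOf_eq_prime h2 h1
  have hmem : ∀ b : alternatingGroup (Fin 5), b ∈ Subgroup.zpowers a → b ≠ 1 → b = a ∨ b = a ^ 2 ∨ b = a ^ 3 ∨ b = a ^ 4 := by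
    intro b hb hb1
    rw [mem_zpowers_iff_mem_range_orderOf, ho] at hb
    simp only [Finset.mem_image, Finset.mem_range] at hb
    obtain ⟨i, hi, rfl⟩ := hb
    interval_cases i
    · exact absurd (pow_zero a) hb1
    · left; exact pow_one a
    · right; left; rfl
    · right; right; left; rfl
    · right; right; right; rfl
  ext c
  simp only [SetLike.mem_coe, Finset.coe_filter, Finset.mem_univ, true_and, Set.mem_setOf_eq]
  constructor
  · intro hc
    exact hmem _ ((Subgroup.mem_normalizer_iff.1 hc a).1 (Subgroup.mem_zpowers a)) (fun h => h1 (cj_eq_one.1 h))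
  · intro hc
    apply Subgroup.mem_normalizer_fintype
    rintro _ ⟨i, rfl⟩
    show c * a ^ i * c⁻¹ ∈ Subgroup.zpowers a
    rw [← conj_zpow]
    apply zpow_mem
    rcases hc with h | h | h | h <;> rw [h]
    · exact Subgroup.mem_zpowers a
    · exact Subgroup.npow_mem_zpowers a 2
    · exact Subgroup.npow_mem_zpowers a 3
    · exact Subgroup.npow_mem_zpowers a 4

end a5

/-- `t`-type elements of order five -/
def Tt {G : Type*} [Group G] [Finite G] (S : Setup G) (x : G) : Prop := ∃ u w t K, T5 S u w t K x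

namespace T5

variable {G : Type*} [Group G] [Finite G] {S : Setup G} {u w t : G} {K : Subgroup G} {x : G}

open Four TS KK

theorem card_D (d : T5 S u w t K x) : Nat.card (Subgroup.centralizer ({x} : Set G)) = 300 := by
  obtain ⟨φ, hs, hk⟩ := d.exists_hom
  have h1 := φ.ker.card_mul_index
  have h3 : φ.ker = (Subgroup.zpowers x).subgroupOf (Subgroup.centralizer ({x} : Set G)) := by
    ext c
    rw [MonoidHom.mem_ker, hk, Subgroup.mem_subgroupOf]
  rw [Subgroup.index_ker, MonoidHom.range_eq_top.2 hs, Subgroup.card_top, Base.card_alt5, h3,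
    SubgroupTools.card_subgroupOf_of_le (Subgroup.zpowers_le.2 (mem_centralizer_one.2 rfl)), Nat.card_zpowers, d.x5] at h1
  rw [← h1]

theorem conj_t (d : T5 S u w t K x) (g : G) : ∃ u' w' K', T5 S u' w' (g * t * g⁻¹) K' (g * x * g⁻¹) := by
  have hc : IsConj t (g * t * g⁻¹) := isConj_iff.2 ⟨g, rfl⟩
  have hc2 : orderOf (g * t * g⁻¹) = 2 := by
    have : g * t * g⁻¹ = MulAut.conj g t := by simp
    rw [this, MulEquiv.orderOf_eq, d.toTS.t_ord]
  have hcl : ∃ x y : G, orderOf x = 2 ∧ orderOf y = 2 ∧ ¬ IsConj x y :=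
    ⟨u, t, InvAct.orderOf_two_iff.2 ⟨d.f.hu2, d.f.hu1⟩, d.toTS.t_ord, fun h => d.hZ (d.f.hu.trans h)⟩
  obtain ⟨u', w', K', k'⟩ := exists_KK_of S hcl hc2 (fun h => d.hZ (h.trans hc.symm))
  have h5 : orderOf (g * x * g⁻¹) = 5 := by
    have : g * x * g⁻¹ = MulAut.conj g x := by simp
    rw [this, MulEquiv.orderOf_eq, d.x5]
  refine ⟨u', w', K', k', h5, k'.mem_K5 ?_ (by rw [← h5]; exact pow_orderOf_eq_one _)⟩
  rw [← cj_mul, ← cj_mul, d.comm_t d.xK]

/-- all `t`-type subgroups of order 5 are conjugate. -/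
theorem conj_or {u' w' t' : G} {K' : Subgroup G} {y : G} (d : T5 S u w t K x) (d' : T5 S u' w' t' K' y) :
    ∃ g : G, g * x * g⁻¹ = y ∨ g * x * g⁻¹ = y ^ 2 := by
  have h1 : IsConj t t' := by
    rcases d.f.inv_type d.ht d'.toTS.t_sq d'.toTS.t_ne with h | h
    · exact absurd h d'.hZ
    · exact h
  obtain ⟨g, hg⟩ := isConj_iff.1 h1
  have hx : g * x * g⁻¹ ∈ K' := by
    apply d'.toKK.mem_K5
    · rw [← hg, ← cj_mul, ← cj_mul, d.comm_t d.xK]
    · rw [conj_pow, d.pow5]; group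
  obtain ⟨e⟩ := d'.main.2.2
  have hne : ∀ s : K', (s : G) ≠ 1 → e s ≠ 1 := by
    intro s hs h
    rw [EmbeddingLike.map_eq_one_iff] at h
    exact hs (congrArg Subtype.val h)
  have hp : ∀ s : K', (s : G) ^ 5 = 1 → e s ^ 5 = 1 := by
    intro s hs
    rw [← map_pow, EmbeddingLike.map_eq_one_iff]
    exact Subtype.ext hs
  obtain ⟨c, hc⟩ := a5_conj5 (e ⟨_, hx⟩) (e ⟨y, d'.xK⟩) (hne _ (fun h => d.ne1 (cj_eq_one.1 h)))
    (hp _ (by show (g * x * g⁻¹) ^ 5 = 1; rw [conj_pow, d.pow5]; group)) (hne _ d'.ne1) (hp _ d'.pow5)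
  obtain ⟨s, rfl⟩ := e.surjective c
  refine ⟨s * g, ?_⟩
  rcases hc with h | h
  · left
    rw [← map_mul, ← map_inv, ← map_mul] at h
    rw [cj_cj]
    exact congrArg Subtype.val (e.injective h)
  · right
    rw [← map_mul, ← map_inv, ← map_mul, ← map_pow] at h
    rw [cj_cj]
    exact congrArg Subtype.val (e.injective h)

theorem inverted (d : T5 S u w t K x) : ∃ g : G, g * x * g⁻¹ = x⁻¹ := by
  obtain ⟨e⟩ := d.main.2.2
  obtain ⟨c, hc⟩ := a5_inv5 (e ⟨x, d.xK⟩) (by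
    rw [← map_pow, EmbeddingLike.map_eq_one_iff]
    exact Subtype.ext d.pow5)
  obtain ⟨s, rfl⟩ := e.surjective c
  refine ⟨s, ?_⟩
  rw [← map_mul, ← map_inv, ← map_inv, ← map_mul] at hc
  exact congrArg Subtype.val (e.injective hc)

/-- The normalizer of `⟨x⟩` only inverts. -/
theorem norm_or (d : T5 S u w t K x) {g : G} (hg : g * x * g⁻¹ ∈ Subgroup.zpowers x) :
    g * x * g⁻¹ = x ∨ g * x * g⁻¹ = x⁻¹ := by
  classical
  have : Fact (Nat.Prime 2) := ⟨Nat.prime_two⟩
  set D : Subgroup G := Subgroup.centralizer ({x} : Set G) with hD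
  rw [mem_zpowers_iff_mem_range_orderOf, d.x5] at hg
  simp only [Finset.mem_image, Finset.mem_range] at hg
  obtain ⟨i, hi, hix⟩ := hg
  have hYD : Y K t ≤ D := fun y hy => mem_centralizer_one.2 ((mem_Y.1 hy).1 x d.xK).symm
  let Y1 : Subgroup G := (Y K t).map (MulAut.conj g).toMonoidHom
  have hmemY1 : ∀ y, y ∈ Y1 ↔ g⁻¹ * y * g ∈ Y K t := fun y => mem_map_conj_iff
  have hY1 : Nat.card Y1 = 4 := by
    rw [← d.toKK.card_Y]
    exact Nat.card_congr (Subgroup.equivMapOfInjective (Y K t) _ (MulAut.conj g).injective).toEquiv.symm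
  have hinvx : g⁻¹ * x * g ∈ Subgroup.zpowers x := by
    -- g⁻¹ acts as well on ⟨x⟩
    have h1 : ∀ y ∈ Subgroup.zpowers x, g * y * g⁻¹ ∈ Subgroup.zpowers x := by
      rintro _ ⟨j, rfl⟩
      show g * x ^ j * g⁻¹ ∈ _
      rw [← conj_zpow, ← hix]
      exact zpow_mem (Subgroup.npow_mem_zpowers x i) j
    have h2 : g ∈ Subgroup.normalizer ((Subgroup.zpowers x : Subgroup G) : Set G) :=
      Subgroup.mem_normalizer_fintype h1
    have h3 := (Subgroup.mem_normalizer_iff.1 (inv_mem h2) x).1 (Subgroup.mem_zpowers x)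
    rwa [inv_inv] at h3
  have hY1D : Y1 ≤ D := by
    intro y hy
    rw [hmemY1] at hy
    have h1 : (g⁻¹ * y * g) * (g⁻¹ * x * g) = (g⁻¹ * x * g) * (g⁻¹ * y * g) := by
      obtain ⟨j, hj⟩ := hinvx
      have hj : x ^ j = g⁻¹ * x * g := hj
      rw [← hj]
      exact (Commute.zpow_right (mem_centralizer_one.1 (hYD hy)) j)
    rw [mem_centralizer_one]
    have := congrArg (fun s => g * s * g⁻¹) h1
    simpa [mul_assoc] using this
  have hsyl : ∀ A : Subgroup G, A ≤ D → Nat.card A = 4 → IsPGroup 2 (A.subgroupOf D) ∧ ¬ 2 ∣ (A.subgroupOf D).index := by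
    intro A hA h4
    have h5 : Nat.card (A.subgroupOf D) = 4 := by rw [SubgroupTools.card_subgroupOf_of_le hA, h4]
    refine ⟨IsPGroup.of_card (n := 2) (by rw [h5]; norm_num), ?_⟩
    have h6 := (A.subgroupOf D).card_mul_index
    rw [h5, hD, d.card_D] at h6
    intro h7
    rw [hD] at h7
    omega
  obtain ⟨hp, hi1⟩ := hsyl _ hYD d.toKK.card_Y
  obtain ⟨hp1, hi1'⟩ := hsyl _ hY1D hY1
  let P : Sylow 2 D := hp.toSylow hi1
  let P1 : Sylow 2 D := hp1.toSylow hi1'
  obtain ⟨s, hs⟩ := MulAction.exists_smul_eq D P1 P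
  have hPc : (P : Subgroup D) = (Y K t).subgroupOf D := IsPGroup.toSylow_coe hp hi1
  have hP1c : (P1 : Subgroup D) = Y1.subgroupOf D := IsPGroup.toSylow_coe hp1 hi1'
  let n : G := s * g
  have hn : n ∈ Subgroup.normalizer ((Y K t : Subgroup G) : Set G) := by
    apply Subgroup.mem_normalizer_fintype
    intro y hy
    have h1 : g * y * g⁻¹ ∈ Y1 := by
      rw [hmemY1]
      have : g⁻¹ * (g * y * g⁻¹) * g = y := by group
      rw [this]; exact hy
    have h2 : (⟨g * y * g⁻¹, hY1D h1⟩ : D) ∈ (P1 : Subgroup D) := by rw [hP1c]; exact h1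
    have h3 : s * ⟨g * y * g⁻¹, hY1D h1⟩ * s⁻¹ ∈ (P : Subgroup D) := by
      have : s * ⟨g * y * g⁻¹, hY1D h1⟩ * s⁻¹ ∈ P := by
        rw [← hs]
        exact ⟨_, h2, rfl⟩
      exact this
    rw [hPc] at h3
    have h4 : (s : G) * (g * y * g⁻¹) * (s : G)⁻¹ ∈ Y K t := h3
    rw [← cj_cj] at h4
    exact h4
  have hnx : n * x * n⁻¹ = x ^ i := by
    show (s * g) * x * (s * g)⁻¹ = x ^ i
    rw [cj_cj, ← hix]
    have h1 : (s : G) * x ^ i = x ^ i * s := (Commute.pow_right (mem_centralizer_one.1 s.2) i)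
    rw [h1, mul_inv_cancel_right]
  have hn30 : n ^ 30 = 1 := by
    obtain ⟨e⟩ := d.toKK.equiv_N
    have h1 : (⟨n, hn⟩ : Subgroup.normalizer ((Y K t : Subgroup G) : Set G)) ^ 30 = 1 := by
      apply e.injective
      rw [map_pow, map_one]
      apply Prod.ext
      · show (e ⟨n, hn⟩).1 ^ 30 = 1
        have : (e ⟨n, hn⟩).1 ^ 30 = ((e ⟨n, hn⟩).1 ^ 6) ^ 5 := by rw [← pow_mul]
        rw [this, a4_exp, one_pow]
      · show (e ⟨n, hn⟩).2 ^ 30 = 1
        exact a5_pow _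
    exact congrArg Subtype.val h1
  have h1 := conj_pow_pow hnx 30
  rw [hn30, one_mul, inv_one, mul_one] at h1
  have h2 : 1 ≡ i ^ 30 [MOD 5] := by
    rw [← d.x5]
    exact pow_eq_pow_iff_modEq.1 (by rw [pow_one]; exact h1)
  rw [← hix]
  interval_cases i
  · exact absurd h2 (by decide)
  · left; exact pow_one x
  · exact absurd h2 (by decide)
  · exact absurd h2 (by decide)
  · right
    rw [eq_inv_iff_mul_eq_one, ← pow_succ]; exact d.pow5

end T5

end Cfsg.Agent.Lib.JTw
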