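import Cfsg.Agent.Lib.JTw12
import Mathlib

/-!
# Groups of Hall–Janko type: the normalizer of a Sylow 5-subgroup
-/

set_option autoImplicit false

namespace Cfsg.Agent.Lib.JTw

open Cfsg Cfsg.Agent.Lib.LargeExtra Setup

section

variable {G : Type*} [Group G] [Finite G] {S : Setup G}

open T5 KK TS

theorem Tt.conj {x : G} (h : Tt S x) (g : G) : Tt S (g * x * g⁻¹) := by
  obtain ⟨u, w, t, K, d⟩ := h
  obtain ⟨u', w', K', d'⟩ := d.conj_t g
  exact ⟨_, _, _, _, d'⟩

theorem Tt.pow {x : G} (h : Tt S x) {i : ℕ} (hi : x ^ i ≠ 1) : Tt S (x ^ i) := by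
  have : Fact (Nat.Prime 5) := ⟨by norm_num⟩
  obtain ⟨u, w, t, K, d⟩ := h
  refine ⟨u, w, t, K, d.toKK, ?_, pow_mem d.xK i⟩
  exact orderOf_eq_prime (by rw [← pow_mul, mul_comm, pow_mul, d.pow5, one_pow]) hi

theorem Tt.ne1 {x : G} (h : Tt S x) : x ≠ 1 := by
  obtain ⟨u, w, t, K, d⟩ := h
  exact d.ne1

theorem Tt.ord {x : G} (h : Tt S x) : orderOf x = 5 := by
  obtain ⟨u, w, t, K, d⟩ := h
  exact d.x5

theorem Tt.pow5 {x : G} (h : Tt S x) : x ^ 5 = 1 := by
  obtain ⟨u, w, t, K, d⟩ := h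
  exact d.pow5

theorem Tt.conj_or {x y : G} (h : Tt S x) (h' : Tt S y) : ∃ g : G, g * x * g⁻¹ = y ∨ g * x * g⁻¹ = y ^ 2 := by
  obtain ⟨u, w, t, K, d⟩ := h
  obtain ⟨u', w', t', K', d'⟩ := h'
  exact d.conj_or d'

theorem Tt.inverted {x : G} (h : Tt S x) : ∃ g : G, g * x * g⁻¹ = x⁻¹ := by
  obtain ⟨u, w, t, K, d⟩ := h
  exact d.inverted

theorem Tt.norm_or {x : G} (h : Tt S x) {g : G} (hg : g * x * g⁻¹ ∈ Subgroup.zpowers x) :
    g * x * g⁻¹ = x ∨ g * x * g⁻¹ = x⁻¹ := by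
  obtain ⟨u, w, t, K, d⟩ := h
  exact d.norm_or hg

theorem Tt.not_Z {x : G} (h : Tt S x) {c : G} (hcx : c * x = x * c) : ¬ S.Z c := by
  obtain ⟨u, w, t, K, d⟩ := h
  exact d.not_Z hcx

theorem Tt.exists_hom {x : G} (h : Tt S x) : ∃ φ : Subgroup.centralizer ({x} : Set G) →* alternatingGroup (Fin 5),
    Function.Surjective φ ∧ ∀ c, φ c = 1 ↔ (c : G) ∈ Subgroup.zpowers x := by
  obtain ⟨u, w, t, K, d⟩ := h
  exact d.exists_hom

theorem Tt.card_D {x : G} (h : Tt S x) : Nat.card (Subgroup.centralizer ({x} : Set G)) = 300 := by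
  obtain ⟨u, w, t, K, d⟩ := h
  exact d.card_D

theorem Tt.card_P5 {x : G} (h : Tt S x) (P : Sylow 5 G) : Nat.card P = 25 := by
  obtain ⟨u, w, t, K, d⟩ := h
  exact d.toKK.card_P5 P

theorem Tt.comm_P5 {x : G} (h : Tt S x) (P : Sylow 5 G) {a b : G} (ha : a ∈ (P : Subgroup G)) (hb : b ∈ (P : Subgroup G)) :
    a * b = b * a := by
  obtain ⟨u, w, t, K, d⟩ := h
  exact d.toKK.comm_P5 P ha hb

theorem Tt.card_G {x : G} (h : Tt S x) : Nat.card G = 604800 := by
  obtain ⟨u, w, t, K, d⟩ := h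
  exact d.toKK.card_G

/-- the image of a Sylow 5-subgroup in `C(x)/⟨x⟩`. -/
theorem Tt.image {x : G} (h : Tt S x) (P : Sylow 5 G) (hx : x ∈ (P : Subgroup G)) :
    ∃ φ : Subgroup.centralizer ({x} : Set G) →* alternatingGroup (Fin 5),
    Function.Surjective φ ∧ (∀ c, φ c = 1 ↔ (c : G) ∈ Subgroup.zpowers x) ∧
    ∃ a : alternatingGroup (Fin 5), a ≠ 1 ∧ a ^ 5 = 1 ∧
      ((P : Subgroup G).subgroupOf (Subgroup.centralizer ({x} : Set G))).map φ = Subgroup.zpowers a := by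
  have : Fact (Nat.Prime 5) := ⟨by norm_num⟩
  set D := Subgroup.centralizer ({x} : Set G) with hD
  obtain ⟨φ, hs, hk⟩ := h.exists_hom
  refine ⟨φ, hs, hk, ?_⟩
  have hPD : (P : Subgroup G) ≤ D := fun y hy => mem_centralizer_one.2 (h.comm_P5 P hy hx)
  have h1 := SubgroupTools.card_map_mul_card_inf_ker φ ((P : Subgroup G).subgroupOf D)
  have h2 : ((P : Subgroup G).subgroupOf D) ⊓ φ.ker = (Subgroup.zpowers x).subgroupOf D := by
    ext c
    rw [Subgroup.mem_inf, MonoidHom.mem_ker, hk, Subgroup.mem_subgroupOf, Subgroup.mem_subgroupOf]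
    constructor
    · rintro ⟨_, h3⟩; exact h3
    · intro h3; exact ⟨(Subgroup.zpowers_le.2 hx) h3, h3⟩
  rw [h2, SubgroupTools.card_subgroupOf_of_le (Subgroup.zpowers_le.2 (mem_centralizer_one.2 rfl)), Nat.card_zpowers, h.ord,
    SubgroupTools.card_subgroupOf_of_le hPD, h.card_P5] at h1
  have h3 : Nat.card (((P : Subgroup G).subgroupOf D).map φ) = 5 := by omega
  have hcyc : IsCyclic (((P : Subgroup G).subgroupOf D).map φ) := isCyclic_of_prime_card h3
  obtain ⟨a, ha⟩ := hcyc.exists_generator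
  have hoa : orderOf (a : alternatingGroup (Fin 5)) = 5 := by
    rw [Subgroup.orderOf_coe, orderOf_eq_card_of_forall_mem_zpowers ha, h3]
  refine ⟨a, ?_, orderOf_dvd_iff_pow_eq_one.1 (by rw [hoa]), ?_⟩
  · intro h4
    rw [h4, orderOf_one] at hoa
    norm_num at hoa
  · symm
    apply Subgroup.eq_of_le_of_card_ge
    · rw [Subgroup.zpowers_le]; exact a.2
    · rw [h3, Nat.card_zpowers, hoa]

/-- `C(P) = P`. -/
theorem Tt.cent_P {x : G} (h : Tt S x) (P : Sylow 5 G) (hx : x ∈ (P : Subgroup G)) :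
    Subgroup.centralizer ((P : Subgroup G) : Set G) = P := by
  apply le_antisymm
  · intro c hc
    rw [Subgroup.mem_centralizer_iff] at hc
    obtain ⟨φ, hs, hk, a, ha1, ha5, hP⟩ := h.image P hx
    have hcD : c ∈ Subgroup.centralizer ({x} : Set G) := mem_centralizer_one.2 (hc x hx).symm
    have hcent := a5_card_cent5 ha1 ha5
    have hoa : orderOf a = 5 := by
      have : Fact (Nat.Prime 5) := ⟨by norm_num⟩
      exact orderOf_eq_prime ha5 ha1
    have h1 : Subgroup.zpowers a = Subgroup.centralizer ({a} : Set (alternatingGroup (Fin 5))) := by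
      apply Subgroup.eq_of_le_of_card_ge
      · rw [Subgroup.zpowers_le, mem_centralizer_one]
      · rw [hcent, Nat.card_zpowers, hoa]
    have ha : a ∈ ((P : Subgroup G).subgroupOf (Subgroup.centralizer ({x} : Set G))).map φ := by
      rw [hP]; exact Subgroup.mem_zpowers a
    obtain ⟨p, hp, hpa⟩ := ha
    have h2 : φ ⟨c, hcD⟩ ∈ Subgroup.centralizer ({a} : Set (alternatingGroup (Fin 5))) := by
      rw [mem_centralizer_one, ← hpa, ← map_mul, ← map_mul]
      congr 1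
      exact Subtype.ext (hc p hp).symm
    rw [← h1, ← hP] at h2
    obtain ⟨q, hq, hqc⟩ := h2
    have h3 : φ (⟨c, hcD⟩ * q⁻¹) = 1 := by rw [map_mul, map_inv, hqc, mul_inv_cancel]
    rw [hk] at h3
    have h4 : c * (q : G)⁻¹ ∈ Subgroup.zpowers x := h3
    have h5 := mul_mem ((Subgroup.zpowers_le.2 hx) h4) (show (q : G) ∈ (P : Subgroup G) from hq)
    simpa using h5
  · intro p hp
    rw [Subgroup.mem_centralizer_iff]
    intro q hq
    exact h.comm_P5 P hq hp

theorem Tt.card_ND {x : G} (h : Tt S x) (P : Sylow 5 G) (hx : x ∈ (P : Subgroup G)) :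
    Nat.card ↥(Subgroup.normalizer ((P : Subgroup G) : Set G) ⊓ Subgroup.centralizer ({x} : Set G)) = 50 := by
  set D := Subgroup.centralizer ({x} : Set G) with hD
  obtain ⟨φ, hs, hk, a, ha1, ha5, hP⟩ := h.image P hx
  have hPD : (P : Subgroup G) ≤ D := fun y hy => mem_centralizer_one.2 (h.comm_P5 P hy hx)
  have h1 : (Subgroup.normalizer ((P : Subgroup G) : Set G) ⊓ D).subgroupOf D =
      (Subgroup.normalizer ((Subgroup.zpowers a : Subgroup (alternatingGroup (Fin 5))) : Set (alternatingGroup (Fin 5)))).comap φ := by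
    ext n
    rw [Subgroup.mem_subgroupOf, Subgroup.mem_comap]
    constructor
    · rintro ⟨hn, _⟩
      apply Subgroup.mem_normalizer_fintype
      intro b hb
      rw [SetLike.mem_coe, ← hP] at hb ⊢
      obtain ⟨p, hp, rfl⟩ := hb
      refine ⟨n * p * n⁻¹, ?_, by rw [map_mul, map_mul, map_inv]⟩
      exact (Subgroup.mem_normalizer_iff.1 hn p).1 hp
    · intro hn
      refine ⟨?_, n.2⟩
      apply Subgroup.mem_normalizer_fintype
      intro p hp
      have hp' : φ ⟨p, hPD hp⟩ ∈ Subgroup.zpowers a := by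
        rw [← hP]; exact ⟨_, hp, rfl⟩
      have h2 := (Subgroup.mem_normalizer_iff.1 hn _).1 hp'
      rw [← map_inv, ← map_mul, ← map_mul, ← hP] at h2
      obtain ⟨q, hq, hqc⟩ := h2
      have h3 : φ (n * ⟨p, hPD hp⟩ * n⁻¹ * q⁻¹) = 1 := by rw [map_mul, map_inv, hqc, mul_inv_cancel]
      rw [hk] at h3
      have h4 : (n : G) * p * (n : G)⁻¹ * (q : G)⁻¹ ∈ Subgroup.zpowers x := h3
      have h5 := mul_mem ((Subgroup.zpowers_le.2 hx) h4) (show (q : G) ∈ (P : Subgroup G) from hq)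
      have h6 : (n : G) * p * (n : G)⁻¹ ∈ (P : Subgroup G) := by simpa using h5
      exact h6
  have h2 := (Subgroup.comap φ (Subgroup.normalizer ((Subgroup.zpowers a : Subgroup (alternatingGroup (Fin 5))) : Set (alternatingGroup (Fin 5))))).card_mul_index
  rw [Subgroup.index_comap_of_surjective _ hs, ← h1, SubgroupTools.card_subgroupOf_of_le inf_le_right, h.card_D] at h2
  have h3 := (Subgroup.normalizer ((Subgroup.zpowers a : Subgroup (alternatingGroup (Fin 5))) : Set (alternatingGroup (Fin 5)))).card_mul_index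
  rw [a5_card_norm5 ha1 ha5, Base.card_alt5] at h3
  have h4 : (Subgroup.normalizer ((Subgroup.zpowers a : Subgroup (alternatingGroup (Fin 5))) : Set (alternatingGroup (Fin 5)))).index = 6 := by omega
  rw [h4] at h2
  exact Nat.eq_of_mul_eq_mul_right (by norm_num : 0 < 6) h2

/-- fusion in `P` is controlled by `N(P)`. -/
theorem Tt.fusion {x : G} (h : Tt S x) (P : Sylow 5 G) {a b g : G} (ha : a ∈ (P : Subgroup G)) (hb : b ∈ (P : Subgroup G))
    (hg : g * a * g⁻¹ = b) : ∃ n ∈ Subgroup.normalizer ((P : Subgroup G) : Set G), n * a * n⁻¹ = b := by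
  have : Fact (Nat.Prime 5) := ⟨by norm_num⟩
  have hc : IsMulCommutative P := ⟨⟨fun a b => Subtype.ext (h.comm_P5 P a.2 b.2)⟩⟩
  obtain ⟨n, hn, hn2⟩ := P.conj_eq_normalizer_conj_of_mem a g⁻¹ ha (by rw [inv_inv, hg]; exact hb)
  rw [inv_inv, hg] at hn2
  exact ⟨n⁻¹, inv_mem hn, by rw [hn2, inv_inv]⟩

theorem Tt.card_cl {x : G} (h : Tt S x) (P : Sylow 5 G) (hx : x ∈ (P : Subgroup G)) :
    Nat.card (Subgroup.normalizer ((P : Subgroup G) : Set G)) =
      50 * {y : G | ∃ n ∈ Subgroup.normalizer ((P : Subgroup G) : Set G), n * x * n⁻¹ = y}.ncard := by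
  have h1 := InvAct.card_conj_orbit (Subgroup.normalizer ((P : Subgroup G) : Set G)) x
  rw [h.card_ND P hx, mul_comm] at h1
  exact h1

/-- the `t`-type elements of `P`. -/
theorem Tt.ncard_TT {x : G} (h : Tt S x) (P : Sylow 5 G) (hx : x ∈ (P : Subgroup G)) :
    Nat.card (Subgroup.normalizer ((P : Subgroup G) : Set G)) = 25 * {y : G | y ∈ (P : Subgroup G) ∧ Tt S y}.ncard := by
  set N := Subgroup.normalizer ((P : Subgroup G) : Set G) with hN
  have hx2 : x ^ 2 ≠ 1 := by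
    intro h2
    have := orderOf_dvd_of_pow_eq_one h2
    rw [h.ord] at this; norm_num at this
  have h2 := h.pow hx2
  have hx2P : x ^ 2 ∈ (P : Subgroup G) := pow_mem hx 2
  have hconj : ∀ n ∈ N, ∀ y ∈ (P : Subgroup G), n * y * n⁻¹ ∈ (P : Subgroup G) := fun n hn y hy =>
    (Subgroup.mem_normalizer_iff.1 hn y).1 hy
  have e : {y : G | y ∈ (P : Subgroup G) ∧ Tt S y} =
      {y : G | ∃ n ∈ N, n * x * n⁻¹ = y} ∪ {y : G | ∃ n ∈ N, n * x ^ 2 * n⁻¹ = y} := by
    ext y
    constructor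
    · rintro ⟨hy, hyT⟩
      obtain ⟨g, hg⟩ := h.conj_or hyT
      rcases hg with hg | hg
      · left; exact h.fusion P hx hy hg
      · right
        -- g x g⁻¹ = y², so g x² g⁻¹ = y⁴ = y⁻¹, and y ~ y⁻¹
        obtain ⟨s, hs⟩ := hyT.inverted
        have h3 : (s * g) * x ^ 2 * (s * g)⁻¹ = y := by
          have h4 : g * x ^ 2 * g⁻¹ = y⁻¹ := by
            rw [← conj_pow, hg, ← pow_mul, eq_inv_iff_mul_eq_one, ← pow_succ]; exact hyT.pow5
          have h5 : s * y⁻¹ * s⁻¹ = y := by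
            have : s * y⁻¹ * s⁻¹ = (s * y * s⁻¹)⁻¹ := by group
            rw [this, hs, inv_inv]
          rw [cj_cj, h4, h5]
        exact h.fusion P hx2P hy h3
    · rintro (⟨n, hn, rfl⟩ | ⟨n, hn, rfl⟩)
      · exact ⟨hconj n hn _ hx, h.conj n⟩
      · exact ⟨hconj n hn _ hx2P, h2.conj n⟩
  have hdisj : Disjoint {y : G | ∃ n ∈ N, n * x * n⁻¹ = y} {y : G | ∃ n ∈ N, n * x ^ 2 * n⁻¹ = y} := by
    rw [Set.disjoint_left]
    rintro y ⟨n, hn, rfl⟩ ⟨m, hm, hmn⟩
    have h3 : (m⁻¹ * n) * x * (m⁻¹ * n)⁻¹ = x ^ 2 := by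
      rw [cj_cj, ← hmn]; group
    rcases h.norm_or (g := m⁻¹ * n) (by rw [h3]; exact Subgroup.npow_mem_zpowers x 2) with h4 | h4
    · rw [h3, pow_two] at h4
      exact h.ne1 (mul_left_cancel (h4.trans (mul_one x).symm))
    · rw [h3, eq_inv_iff_mul_eq_one, ← pow_succ] at h4
      have := orderOf_dvd_of_pow_eq_one h4
      rw [h.ord] at this; norm_num at this
  have h3 := h.card_cl P hx
  have h4 := h2.card_cl P hx2P
  rw [e, Set.ncard_union_eq hdisj (Set.toFinite _) (Set.toFinite _)]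
  rw [← hN] at h3 h4
  omega

theorem Tt.card_N {x : G} (h : Tt S x) (P : Sylow 5 G) (hx : x ∈ (P : Subgroup G)) :
    Nat.card (Subgroup.normalizer ((P : Subgroup G) : Set G)) = 300 := by
  have : Fact (Nat.Prime 5) := ⟨by norm_num⟩
  have h1 := h.ncard_TT P hx
  have h2 := h.card_cl P hx
  set N := Subgroup.normalizer ((P : Subgroup G) : Set G) with hN
  have hev : 2 ∣ {y : G | ∃ n ∈ N, n * x * n⁻¹ = y}.ncard := by
    apply invol_mod _ (fun y => y⁻¹)
    · rintro y ⟨n, hn, rfl⟩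
      obtain ⟨g, hg⟩ := h.inverted
      obtain ⟨m, hm, hm2⟩ := h.fusion P hx (inv_mem hx) hg
      refine ⟨n * m, mul_mem hn hm, ?_⟩
      rw [cj_cj, hm2]; group
    · intro y _; exact inv_inv y
    · rintro y ⟨n, hn, rfl⟩ h3
      have h4 : n * x * n⁻¹ * (n * x * n⁻¹) = 1 := by
        have := congrArg (fun s => s * (n * x * n⁻¹)) h3
        simp only [inv_mul_cancel] at this
        exact this.symm
      rw [cj_sq, cj_eq_one, ← pow_two] at h4
      have := orderOf_dvd_of_pow_eq_one h4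
      rw [h.ord] at this; norm_num at this
  have h3 : {y : G | y ∈ (P : Subgroup G) ∧ Tt S y}.ncard ≤ 24 := by
    have h4 : {y : G | y ∈ (P : Subgroup G) ∧ Tt S y} ⊆ ((P : Subgroup G) : Set G) \ {1} := by
      rintro y ⟨hy, hyT⟩
      exact ⟨hy, hyT.ne1⟩
    have h5 := Set.ncard_le_ncard h4 (Set.toFinite _)
    rw [Set.ncard_diff_singleton_of_mem (one_mem _), ← card_eq_ncard] at h5
    have h6 : Nat.card (P : Subgroup G) = 25 := h.card_P5 P
    rw [h6] at h5
    exact h5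
  have h4 := card_sylow_modEq_one 5 G
  rw [P.card_eq_index_normalizer] at h4
  have h5 := (Subgroup.normalizer ((P : Subgroup G) : Set G)).card_mul_index
  rw [h.card_G] at h5
  have h4' : N.index % 5 = 1 := h4
  rw [← hN] at h5
  -- arithmetic
  obtain ⟨l, hl⟩ := hev
  rw [hl] at h2
  set m := {y : G | y ∈ (P : Subgroup G) ∧ Tt S y}.ncard with hm
  have h6 : m = 4 * l := by omega
  have h7 : l ≤ 6 := by omega
  rw [h2] at h5 ⊢
  interval_cases l
  · omega
  · omega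
  · omega
  · norm_num
  · omega
  · omega
  · omega

end

end Cfsg.Agent.Lib.JTw
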