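import Cfsg.Agent.Lib.JTw13
import Mathlib

/-!
# Groups of Hall–Janko type: the classes of subgroups of order 5
-/

set_option autoImplicit false

namespace Cfsg.Agent.Lib.JTw

open Cfsg Cfsg.Agent.Lib.LargeExtra Setup

section

variable {G : Type*} [Group G] [Finite G] {S : Setup G}

theorem zpowers_eq {p : ℕ} (hp : p.Prime) {x y : G} (hx : orderOf x = p) (hy : y ∈ Subgroup.zpowers x) (hy1 : y ≠ 1) :
    Subgroup.zpowers y = Subgroup.zpowers x := by
  apply Subgroup.eq_of_le_of_card_ge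
  · rw [Subgroup.zpowers_le]; exact hy
  · have h1 := Subgroup.orderOf_dvd_natCard _ hy
    rw [Nat.card_zpowers, hx] at h1
    rcases (Nat.dvd_prime hp).1 h1 with h | h
    · exact absurd (orderOf_eq_one_iff.1 h) hy1
    · rw [Nat.card_zpowers, Nat.card_zpowers, hx, h]

theorem map_conj_zpowers (g x : G) : (Subgroup.zpowers x).map (MulAut.conj g).toMonoidHom = Subgroup.zpowers (g * x * g⁻¹) := by
  rw [MonoidHom.map_zpowers]; rfl

theorem Tt.fix3 {x : G} (h : Tt S x) (P : Sylow 5 G) (hx : x ∈ (P : Subgroup G)) {b : G}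
    (hb : b ∈ Subgroup.normalizer ((P : Subgroup G) : Set G)) (hb3 : orderOf b = 3) :
    ∀ p ∈ (P : Subgroup G), b * p = p * b → p = 1 := by
  have : Fact (Nat.Prime 3) := ⟨by norm_num⟩
  have h1 := fix_mod (p := 3) (g := b) (by rw [← hb3]; exact pow_orderOf_eq_one b) ((P : Subgroup G) : Set G)
    (fun a ha => (Subgroup.mem_normalizer_iff.1 hb a).1 ha)
  have h2 : {a : G | a ∈ ((P : Subgroup G) : Set G) ∧ b * a = a * b} =
      (((P : Subgroup G) ⊓ Subgroup.centralizer ({b} : Set G) : Subgroup G) : Set G) := by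
    ext a
    simp only [Set.mem_setOf_eq, SetLike.mem_coe, Subgroup.mem_inf, mem_centralizer_one]
    constructor
    · rintro ⟨h3, h4⟩; exact ⟨h3, h4.symm⟩
    · rintro ⟨h3, h4⟩; exact ⟨h3, h4.symm⟩
  have hP : Nat.card (P : Subgroup G) = 25 := h.card_P5 P
  rw [h2, ← card_eq_ncard, ← card_eq_ncard, hP] at h1
  have h3 : Nat.card ↥((P : Subgroup G) ⊓ Subgroup.centralizer ({b} : Set G)) ∣ 5 ^ 2 := by
    have := Subgroup.card_dvd_of_le (inf_le_left : (P : Subgroup G) ⊓ Subgroup.centralizer ({b} : Set G) ≤ P)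
    rw [hP] at this
    simpa using this
  obtain ⟨k, hk, hk2⟩ := (Nat.dvd_prime_pow (by norm_num)).1 h3
  rw [hk2] at h1
  have hk3 : k = 0 ∨ k = 2 := by
    interval_cases k <;> simp [Nat.ModEq] at h1 ⊢
  rcases hk3 with rfl | rfl
  · intro p hp hbp
    have h4 : (P : Subgroup G) ⊓ Subgroup.centralizer ({b} : Set G) = ⊥ := Subgroup.card_eq_one.1 (by rw [hk2]; rfl)
    have h5 : p ∈ (P : Subgroup G) ⊓ Subgroup.centralizer ({b} : Set G) := ⟨hp, mem_centralizer_one.2 hbp.symm⟩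
    rw [h4] at h5
    exact h5
  · exfalso
    have h4 : (P : Subgroup G) ⊓ Subgroup.centralizer ({b} : Set G) = P :=
      Subgroup.eq_of_le_of_card_ge inf_le_left (by rw [hk2, hP]; norm_num)
    have h5 : b ∈ Subgroup.centralizer ((P : Subgroup G) : Set G) := by
      rw [Subgroup.mem_centralizer_iff]
      intro p hp
      have hp : p ∈ (P : Subgroup G) := hp
      rw [← h4] at hp
      exact mem_centralizer_one.1 hp.2
    rw [h.cent_P P hx] at h5
    have h6 := Subgroup.orderOf_dvd_natCard _ h5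
    rw [hb3, hP] at h6
    norm_num at h6

theorem Tt.norm3 {x : G} (h : Tt S x) (P : Sylow 5 G) (hx : x ∈ (P : Subgroup G)) {b : G}
    (hb : b ∈ Subgroup.normalizer ((P : Subgroup G) : Set G)) (hb3 : orderOf b = 3) {y : G}
    (hy : y ∈ (P : Subgroup G)) (hy5 : orderOf y = 5) : b * y * b⁻¹ ∉ Subgroup.zpowers y := by
  intro hby
  have : Fact (Nat.Prime 3) := ⟨by norm_num⟩
  have h1 := fix_mod (p := 3) (g := b) (by rw [← hb3]; exact pow_orderOf_eq_one b) ((Subgroup.zpowers y : Set G) \ {1}) (by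
    rintro a ⟨⟨i, hi⟩, ha1⟩
    have hi : y ^ i = a := hi
    refine ⟨?_, fun h => ha1 (cj_eq_one.1 h)⟩
    rw [← hi, ← conj_zpow]
    exact zpow_mem hby i)
  rw [Set.ncard_diff_singleton_of_mem (one_mem _), ← card_eq_ncard, Nat.card_zpowers, hy5] at h1
  have h2 : {a : G | a ∈ (Subgroup.zpowers y : Set G) \ {1} ∧ b * a = a * b} = ∅ := by
    rw [Set.eq_empty_iff_forall_notMem]
    rintro a ⟨⟨ha, ha1⟩, ha2⟩
    exact ha1 (h.fix3 P hx hb hb3 a ((Subgroup.zpowers_le.2 hy) ha) ha2)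
  rw [h2, Set.ncard_empty] at h1
  revert h1; decide

theorem Tt.classes {x : G} (h : Tt S x) (P : Sylow 5 G) (hx : x ∈ (P : Subgroup G)) :
    ∃ X Y : Subgroup G, Nat.card X = 5 ∧ Nat.card Y = 5 ∧ (∀ g : G, X.map (MulAut.conj g).toMonoidHom ≠ Y) ∧
      ∀ W : Subgroup G, Nat.card W = 5 → ∃ g : G, W.map (MulAut.conj g).toMonoidHom = X ∨ W.map (MulAut.conj g).toMonoidHom = Y := by
  have : Fact (Nat.Prime 5) := ⟨by norm_num⟩
  have : Fact (Nat.Prime 3) := ⟨by norm_num⟩
  -- conjugating into P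
  have hinto : ∀ y : G, orderOf y = 5 → ∃ g : G, g * y * g⁻¹ ∈ (P : Subgroup G) := by
    intro y hy
    have hp : IsPGroup 5 (Subgroup.zpowers y) := by
      apply IsPGroup.of_card (n := 1)
      rw [Nat.card_zpowers, hy]; norm_num
    obtain ⟨P', hP'⟩ := hp.exists_le_sylow
    obtain ⟨g, hg⟩ := MulAction.exists_smul_eq G P' P
    refine ⟨g, ?_⟩
    have : g * y * g⁻¹ ∈ P := by
      rw [← hg]
      exact ⟨y, hP' (Subgroup.mem_zpowers y), rfl⟩
    exact this
  have hord : ∀ g y : G, orderOf (g * y * g⁻¹) = orderOf y := by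
    intro g y
    have : g * y * g⁻¹ = MulAut.conj g y := by simp
    rw [this, MulEquiv.orderOf_eq]
  -- a z-type element
  obtain ⟨π, hπ, hπ5⟩ := S.base.exists_five
  obtain ⟨g0, hg0⟩ := hinto π hπ5
  set y0 := g0 * π * g0⁻¹ with hy0
  have hy05 : orderOf y0 = 5 := by rw [hy0, hord, hπ5]
  have hy01 : y0 ≠ 1 := by intro h; rw [h, orderOf_one] at hy05; norm_num at hy05
  have hy0T : ¬ Tt S y0 := by
    intro hT
    apply hT.not_Z (c := g0 * S.z * g0⁻¹)
    · rw [hy0, ← cj_mul, ← cj_mul, hπ]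
    · exact S.Z_conj S.z_z g0
  have hnT : ∀ y ∈ Subgroup.zpowers y0, ¬ Tt S y := by
    intro y hy hT
    have h1 := zpowers_eq (by norm_num) hy05 hy hT.ne1
    have h2 : y0 ∈ Subgroup.zpowers y := by rw [h1]; exact Subgroup.mem_zpowers y0
    classical
    rw [mem_zpowers_iff_mem_range_orderOf] at h2
    simp only [Finset.mem_image, Finset.mem_range] at h2
    obtain ⟨i, _, hi⟩ := h2
    apply hy0T
    rw [← hi]
    exact hT.pow (by rw [hi]; exact hy01)
  -- an element of order three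
  have hN := h.card_N P hx
  obtain ⟨b', hb'⟩ := exists_prime_orderOf_dvd_card' (G := Subgroup.normalizer ((P : Subgroup G) : Set G)) 3 (by rw [hN]; norm_num)
  set b : G := (b' : G) with hb
  have hbN : b ∈ Subgroup.normalizer ((P : Subgroup G) : Set G) := b'.2
  have hb3 : orderOf b = 3 := by rw [hb, Subgroup.orderOf_coe, hb']
  let B : ℕ → Set G := fun i => {y | y ≠ 1 ∧ (b ^ i)⁻¹ * y * b ^ i ∈ Subgroup.zpowers y0}
  have hBcard : ∀ i, (B i).ncard = 4 := by
    intro i
    have h1 : ((Subgroup.zpowers y0 : Set G) \ {1}).ncard = 4 := by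
      rw [Set.ncard_diff_singleton_of_mem (one_mem _), ← card_eq_ncard, Nat.card_zpowers, hy05]
    rw [← h1]
    symm
    apply Set.ncard_congr (fun y _ => b ^ i * y * (b ^ i)⁻¹)
    · rintro y ⟨hy, hy1⟩
      refine ⟨fun h => hy1 (cj_eq_one.1 h), ?_⟩
      have : (b ^ i)⁻¹ * (b ^ i * y * (b ^ i)⁻¹) * b ^ i = y := by group
      rw [this]; exact hy
    · intro y z _ _ hyz; exact cj_inj hyz
    · rintro y ⟨hy1, hy⟩
      refine ⟨(b ^ i)⁻¹ * y * b ^ i, ⟨hy, fun h => hy1 ?_⟩, by group⟩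
      have h : (b ^ i)⁻¹ * y * b ^ i = 1 := h
      have h3 := congrArg (fun s => b ^ i * s * (b ^ i)⁻¹) h
      simpa [mul_assoc] using h3
  have hBdisj : ∀ i j, i < j → j ≤ 2 → Disjoint (B i) (B j) := by
    intro i j hij hj
    rw [Set.disjoint_left]
    rintro y ⟨hy1, hyi⟩ ⟨_, hyj⟩
    set y' := (b ^ i)⁻¹ * y * b ^ i with hy'
    have hy'1 : y' ≠ 1 := by
      intro h
      apply hy1
      have h3 := congrArg (fun s => b ^ i * s * (b ^ i)⁻¹) h
      simpa [hy', mul_assoc] using h3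
    have h1 := zpowers_eq (by norm_num) hy05 hyi hy'1
    have hy'5 : orderOf y' = 5 := by
      have := congrArg (fun H : Subgroup G => Nat.card H) h1
      simp only [Nat.card_zpowers] at this
      rw [this, hy05]
    have hy'P : y' ∈ (P : Subgroup G) := (Subgroup.zpowers_le.2 hg0) hyi
    have hji : j - i = 1 ∨ j - i = 2 := by omega
    have hc3 : orderOf ((b ^ (j - i))⁻¹) = 3 := by
      rw [orderOf_inv]
      rcases hji with h | h <;> rw [h]
      · rw [pow_one, hb3]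
      · rw [orderOf_pow, hb3]; norm_num
    apply h.norm3 P hx (b := (b ^ (j - i))⁻¹) (inv_mem (pow_mem hbN _)) hc3 hy'P hy'5
    rw [h1]
    have h2 : (b ^ (j - i))⁻¹ * y' * (b ^ (j - i))⁻¹⁻¹ = (b ^ j)⁻¹ * y * b ^ j := by
      have hj : b ^ j = b ^ i * b ^ (j - i) := by rw [← pow_add]; congr 1; omega
      rw [hj, hy']; group
    rw [h2]; exact hyj
  have hBP : ∀ i, B i ⊆ ((P : Subgroup G) : Set G) \ {1} := by
    rintro i y ⟨hy1, hy⟩
    refine ⟨?_, hy1⟩
    have h1 : (b ^ i)⁻¹ * y * b ^ i ∈ (P : Subgroup G) := (Subgroup.zpowers_le.2 hg0) hy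
    have h2 := (Subgroup.mem_normalizer_iff.1 (pow_mem hbN i) _).1 h1
    have h3 : b ^ i * ((b ^ i)⁻¹ * y * b ^ i) * (b ^ i)⁻¹ = y := by group
    rwa [h3] at h2
  have hBT : ∀ i, ∀ y ∈ B i, ¬ Tt S y := by
    rintro i y ⟨hy1, hy⟩ hT
    apply hnT _ hy
    have := hT.conj (b ^ i)⁻¹
    rwa [inv_inv] at this
  have hTT : {y : G | y ∈ (P : Subgroup G) ∧ Tt S y}.ncard = 12 := by
    have := h.ncard_TT P hx
    rw [hN] at this
    omega
  have hall : B 0 ∪ B 1 ∪ B 2 ∪ {y : G | y ∈ (P : Subgroup G) ∧ Tt S y} = ((P : Subgroup G) : Set G) \ {1} := by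
    apply Set.eq_of_subset_of_ncard_le
    · rintro y (((hy | hy) | hy) | hy)
      · exact hBP 0 hy
      · exact hBP 1 hy
      · exact hBP 2 hy
      · exact ⟨hy.1, hy.2.ne1⟩
    · have hP : Nat.card (P : Subgroup G) = 25 := h.card_P5 P
      rw [Set.ncard_diff_singleton_of_mem (one_mem _), ← card_eq_ncard, hP, Set.ncard_union_eq, Set.ncard_union_eq,
        Set.ncard_union_eq (hBdisj 0 1 (by norm_num) (by norm_num)), hBcard, hBcard, hBcard, hTT]
      · rw [Set.disjoint_union_left]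
        exact ⟨hBdisj 0 2 (by norm_num) (by norm_num), hBdisj 1 2 (by norm_num) (by norm_num)⟩
      · rw [Set.disjoint_left]
        rintro y ((hy | hy) | hy) hT
        · exact hBT 0 y hy hT.2
        · exact hBT 1 y hy hT.2
        · exact hBT 2 y hy hT.2
    · exact Set.toFinite _
  refine ⟨Subgroup.zpowers x, Subgroup.zpowers y0, by rw [Nat.card_zpowers, h.ord], by rw [Nat.card_zpowers, hy05], ?_, ?_⟩
  · intro g hg
    rw [map_conj_zpowers] at hg
    apply hnT (g * x * g⁻¹)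
    · rw [← hg]; exact Subgroup.mem_zpowers _
    · exact h.conj g
  · intro W hW
    have hcyc : IsCyclic W := isCyclic_of_prime_card hW
    obtain ⟨s', hs'⟩ := hcyc.exists_generator
    have hs5 : orderOf (s' : G) = 5 := by
      rw [Subgroup.orderOf_coe, orderOf_eq_card_of_forall_mem_zpowers hs', hW]
    have hWs : W = Subgroup.zpowers (s' : G) := by
      symm
      apply Subgroup.eq_of_le_of_card_ge
      · rw [Subgroup.zpowers_le]; exact s'.2
      · rw [hW, Nat.card_zpowers, hs5]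
    obtain ⟨g, hg⟩ := hinto _ hs5
    set s := g * (s' : G) * g⁻¹ with hs
    have hso : orderOf s = 5 := by rw [hs, hord, hs5]
    have hs1 : s ≠ 1 := by intro h; rw [h, orderOf_one] at hso; norm_num at hso
    have hsP : s ∈ ((P : Subgroup G) : Set G) \ {1} := ⟨hg, hs1⟩
    rw [← hall] at hsP
    have hfin : ∀ i, s ∈ B i → ∃ g : G, W.map (MulAut.conj g).toMonoidHom = Subgroup.zpowers x ∨ W.map (MulAut.conj g).toMonoidHom = Subgroup.zpowers y0 := by
      rintro i ⟨_, hsi⟩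
      refine ⟨(b ^ i)⁻¹ * g, Or.inr ?_⟩
      rw [hWs, map_conj_zpowers]
      apply zpowers_eq (by norm_num) hy05
      · rw [cj_cj]
        rwa [inv_inv]
      · rw [cj_cj]
        intro h1
        exact hs1 (cj_eq_one.1 h1)
    rcases hsP with ((hs0 | hs0) | hs0) | hs0
    · exact hfin 0 hs0
    · exact hfin 1 hs0
    · exact hfin 2 hs0
    · obtain ⟨g', hg'⟩ := h.conj_or hs0.2
      refine ⟨g'⁻¹ * g, Or.inl ?_⟩
      rw [hWs, map_conj_zpowers]
      have h1 : (g'⁻¹ * g) * (s' : G) * (g'⁻¹ * g)⁻¹ = g'⁻¹ * s * g' := by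
        rw [cj_cj, inv_inv]
      rw [h1]
      rcases hg' with h2 | h2
      · congr 1
        rw [← h2]; group
      · -- x = g'⁻¹ s² g'
        symm
        apply zpowers_eq (by norm_num : Nat.Prime 5)
        · have := hord g'⁻¹ s
          rw [inv_inv] at this
          rw [this, hso]
        · have h3 : x = (g'⁻¹ * s * g') ^ 2 := by
            have : g'⁻¹ * (g' * x * g'⁻¹) * g' = x := by group
            rw [← this, h2, pow_two, pow_two]; group
          rw [h3]; exact Subgroup.npow_mem_zpowers _ 2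
        · exact h.ne1

/-- the Sylow 5-structure -/
theorem sylow_five (S : Setup G) (hcl : ∃ x y : G, orderOf x = 2 ∧ orderOf y = 2 ∧ ¬ IsConj x y) (P : Sylow 5 G) :
    Subgroup.centralizer ((P : Subgroup G) : Set G) = P ∧ Nat.card P = 25 ∧
    Nat.card (Subgroup.normalizer ((P : Subgroup G) : Set G)) = 300 ∧
    ∃ X Y : Subgroup G, Nat.card X = 5 ∧ Nat.card Y = 5 ∧ (∀ g : G, X.map (MulAut.conj g).toMonoidHom ≠ Y) ∧
      ∀ W : Subgroup G, Nat.card W = 5 → ∃ g : G, W.map (MulAut.conj g).toMonoidHom = X ∨ W.map (MulAut.conj g).toMonoidHom = Y := by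
  have : Fact (Nat.Prime 5) := ⟨by norm_num⟩
  obtain ⟨t, K, k⟩ := exists_KK S hcl
  obtain ⟨x0, d⟩ := k.exists_x5
  have h0 : Tt S x0 := ⟨_, _, _, _, d⟩
  have hp : IsPGroup 5 (Subgroup.zpowers x0) := by
    apply IsPGroup.of_card (n := 1)
    rw [Nat.card_zpowers, d.x5]; norm_num
  obtain ⟨P', hP'⟩ := hp.exists_le_sylow
  obtain ⟨g, hg⟩ := MulAction.exists_smul_eq G P' P
  have hxP : g * x0 * g⁻¹ ∈ (P : Subgroup G) := by
    have : g * x0 * g⁻¹ ∈ P := by
      rw [← hg]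
      exact ⟨x0, hP' (Subgroup.mem_zpowers x0), rfl⟩
    exact this
  have h := h0.conj g
  exact ⟨h.cent_P P hxP, h.card_P5 P, h.card_N P hxP, h.classes P hxP⟩

end

end Cfsg.Agent.Lib.JTw
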