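import Mathlib
import Cfsg.Agent.Lib.PSLSylow
import Cfsg.Agent.Lib.FpfThree67
import Cfsg.Agent.Lib.DihRec
import Cfsg.Agent.Lib.QuatRec

/-!
# Groups of order 64 with an action of S3 (helper51)
-/

set_option autoImplicit false

namespace Cfsg.Agent.Lib.S3T64

open Subgroup
open scoped commutatorElement
open Cfsg.Agent.Lib

universe u

section comm
variable {T : Type u} [Group T] [Finite T] {ρ : MulAut T} (h3 : ∀ x, ρ (ρ (ρ x)) = x) (hf : ∀ x, ρ x = x → x = 1)
include h3 hf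

theorem K_center (a b : T) : ⁅a, b⁆ ∈ center T := FpfThree67.comm_mem_center h3 hf a b

theorem K_self (v : T) : ⁅v, ρ v⁆ = 1 := by
  rw [commutatorElement_eq_one_iff_mul_comm]
  exact FpfThree67.commute_phi h3 hf v

theorem K_sym (v w : T) : ⁅v, ρ w⁆ = ⁅ρ v, w⁆ := by
  have hc := K_center h3 hf
  have h1 := K_self h3 hf (v * w)
  rw [map_mul, ClassTwo67.comm_mul_left hc, ClassTwo67.comm_mul_right hc, ClassTwo67.comm_mul_right hc,
    K_self h3 hf v, K_self h3 hf w, one_mul, mul_one] at h1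
  rw [eq_inv_of_mul_eq_one_left h1, commutatorElement_inv]

theorem k11 (v w : T) : ⁅ρ v, ρ w⁆ = ρ ⁅v, w⁆ := (map_commutatorElement ρ v w).symm

theorem k02 (v w : T) : ⁅v, ρ (ρ w)⁆ = ρ ⁅v, w⁆ := by
  rw [K_sym h3 hf, k11 h3 hf]

theorem k20 (v w : T) : ⁅ρ (ρ v), w⁆ = ρ ⁅v, w⁆ := by
  rw [← K_sym h3 hf, k11 h3 hf]

theorem k01 (v w : T) : ⁅v, ρ w⁆ = ρ (ρ ⁅v, w⁆) := by
  have hc := K_center h3 hf
  have h1 : ⁅v, w * ρ w * ρ (ρ w)⁆ = 1 := by
    rw [FpfThree67.norm_eq_one h3 hf, commutatorElement_one_right]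
  rw [ClassTwo67.comm_mul_right hc, ClassTwo67.comm_mul_right hc, k02 h3 hf] at h1
  have h2 := FpfThree67.norm_eq_one h3 hf ⁅v, w⁆
  have h3' := mem_center_iff.mp (hc v (ρ w)) (ρ ⁅v, w⁆)
  rw [mul_assoc, ← h3', ← mul_assoc] at h1
  exact mul_left_cancel (h1.trans h2.symm)

theorem k10 (v w : T) : ⁅ρ v, w⁆ = ρ (ρ ⁅v, w⁆) := by
  rw [← K_sym h3 hf, k01 h3 hf]

theorem k12 (v w : T) : ⁅ρ v, ρ (ρ w)⁆ = ⁅v, w⁆ := by
  rw [k11 h3 hf, k01 h3 hf, h3]

theorem k21 (v w : T) : ⁅ρ (ρ v), ρ w⁆ = ⁅v, w⁆ := by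
  rw [k11 h3 hf, k10 h3 hf, h3]

theorem k22 (v w : T) : ⁅ρ (ρ v), ρ (ρ w)⁆ = ρ (ρ ⁅v, w⁆) := by
  rw [k11 h3 hf, k11 h3 hf]

end comm

section field
variable {F : Type*} [Field F] [Fintype F]

theorem char_two (hF : Fintype.card F = 4) : CharP F 2 := by
  have h1 : Nat.card F = 4 := by rw [Nat.card_eq_fintype_card, hF]
  obtain ⟨p, hp, n, h2, h3⟩ := FiniteField.card' F
  have hp2 : p = 2 := by
    have h4 : p ∣ 4 := by
      rw [← hF, h3]; exact dvd_pow_self p n.ne_zero
    have h5 : p ∣ 2 ^ 2 := h4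
    exact (Nat.prime_dvd_prime_iff_eq h2 Nat.prime_two).mp (h2.dvd_of_dvd_pow h5)
  subst hp2
  exact hp

theorem exists_omega (hF : Fintype.card F = 4) : ∃ w : F, w ^ 2 + w + 1 = 0 := by
  classical
  obtain ⟨w, hw⟩ : ∃ w : F, w ∉ ({0, 1} : Finset F) := by
    by_contra h
    push Not at h
    have h1 : Finset.univ ⊆ ({0, 1} : Finset F) := fun x _ => h x
    have h2 := Finset.card_le_card h1
    rw [Finset.card_univ, hF] at h2
    have h3 : ({0, 1} : Finset F).card ≤ 2 := Finset.card_le_two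
    omega
  simp only [Finset.mem_insert, Finset.mem_singleton, not_or] at hw
  refine ⟨w, ?_⟩
  have h1 : w ^ 4 = w := by rw [← hF]; exact FiniteField.pow_card w
  have h2 : w * (w - 1) * (w ^ 2 + w + 1) = 0 := by linear_combination h1
  rcases mul_eq_zero.mp h2 with h3 | h3
  · rcases mul_eq_zero.mp h3 with h4 | h4
    · exact absurd h4 hw.1
    · exact absurd (sub_eq_zero.mp h4) hw.2
  · exact h3

theorem four_cases (hF : Fintype.card F = 4) {w : F} (hw : w ^ 2 + w + 1 = 0) (s : F) :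
    s = 0 ∨ s = 1 ∨ s = w ∨ s = w + 1 := by
  haveI := char_two hF
  have h2 : (2 : F) = 0 := CharTwo.two_eq_zero
  have h1 : s ^ 4 = s := by rw [← hF]; exact FiniteField.pow_card s
  have h3 : s * ((s - 1) * ((s - w) * (s - (w + 1)))) = 0 := by
    linear_combination h1 + (s ^ 2 - s) * hw + (-w * s ^ 3 - s ^ 3 + w * s ^ 2 + s) * h2
  rcases mul_eq_zero.mp h3 with h4 | h4
  · exact Or.inl h4
  rcases mul_eq_zero.mp h4 with h5 | h5
  · exact Or.inr (Or.inl (sub_eq_zero.mp h5))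
  rcases mul_eq_zero.mp h5 with h6 | h6
  · exact Or.inr (Or.inr (Or.inl (sub_eq_zero.mp h6)))
  · exact Or.inr (Or.inr (Or.inr (sub_eq_zero.mp h6)))

/-- the function `F → T` with prescribed values -/
noncomputable def em (w : F) {T : Type*} [Group T] (a b : T) (s : F) : T :=
  open Classical in if s = 0 then 1 else if s = 1 then a else if s = w then b else a * b

variable {w : F} (hF : Fintype.card F = 4) (hw : w ^ 2 + w + 1 = 0)
include hF hw

theorem w_ne : w ≠ 0 ∧ w ≠ 1 ∧ w + 1 ≠ 0 ∧ w + 1 ≠ 1 ∧ w + 1 ≠ w := by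
  haveI := char_two hF
  have h2 : (2 : F) = 0 := CharTwo.two_eq_zero
  have h0 : w ≠ 0 := by
    rintro rfl
    norm_num at hw
  refine ⟨h0, ?_, ?_, ?_, ?_⟩
  · rintro rfl
    have : (1 : F) = 0 := by linear_combination hw - h2
    exact one_ne_zero this
  · intro h
    have : (1 : F) = 0 := by linear_combination hw - w * h
    exact one_ne_zero this
  · intro h
    exact h0 (by linear_combination h)
  · intro h
    have : (1 : F) = 0 := by linear_combination h
    exact one_ne_zero this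

variable {T : Type*} [Group T] (a b : T)

theorem em_zero : em w a b 0 = 1 := by unfold em; rw [if_pos rfl]
theorem em_one : em w a b 1 = a := by unfold em; rw [if_neg one_ne_zero, if_pos rfl]
theorem em_w : em w a b w = b := by
  obtain ⟨h0, h1, -⟩ := w_ne hF hw
  unfold em; rw [if_neg h0, if_neg h1, if_pos rfl]
theorem em_w1 : em w a b (w + 1) = a * b := by
  obtain ⟨h0, h1, h2, h3, h4⟩ := w_ne hF hw
  unfold em; rw [if_neg h2, if_neg h3, if_neg h4]

theorem add_table : (1 : F) + 1 = 0 ∧ 1 + w = w + 1 ∧ 1 + (w + 1) = w ∧ w + w = 0 ∧ w + (w + 1) = 1 ∧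
    (w + 1) + 1 = w ∧ (w + 1) + w = 1 ∧ (w + 1) + (w + 1) = 0 := by
  haveI := char_two hF
  have h2 : (2 : F) = 0 := CharTwo.two_eq_zero
  refine ⟨?_, ?_, ?_, ?_, ?_, ?_, ?_, ?_⟩
  · linear_combination h2
  · ring
  · linear_combination h2
  · linear_combination w * h2
  · linear_combination w * h2
  · linear_combination h2
  · linear_combination w * h2
  · linear_combination (w + 1) * h2

theorem mul_table : w * w = w + 1 ∧ w * (w + 1) = 1 ∧ (w + 1) * w = 1 ∧ (w + 1) * (w + 1) = w := by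
  haveI := char_two hF
  have h2 : (2 : F) = 0 := CharTwo.two_eq_zero
  refine ⟨?_, ?_, ?_, ?_⟩
  · linear_combination hw - (w + 1) * h2
  · linear_combination hw - h2
  · linear_combination hw - h2
  · linear_combination hw

theorem em_add (ha : a * a = 1) (hb : b * b = 1) (hab : a * b = b * a) (s t : F) :
    em w a b (s + t) = em w a b s * em w a b t := by
  obtain ⟨t1, t2, t3, t4, t5, t6, t7, t8⟩ := add_table hF hw
  have e0 := em_zero (w := w) hF hw a b
  have e1 := em_one (w := w) hF hw a b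
  have e2 := em_w hF hw a b
  have e3 := em_w1 hF hw a b
  rcases four_cases hF hw s with rfl | rfl | rfl | rfl
  · rw [zero_add, e0, one_mul]
  · rcases four_cases hF hw t with rfl | rfl | rfl | rfl
    · rw [add_zero, e0, mul_one]
    · rw [t1, e0, e1, ha]
    · rw [t2, e1, e2, e3]
    · rw [t3, e1, e2, e3, ← mul_assoc, ha, one_mul]
  · rcases four_cases hF hw t with rfl | rfl | rfl | rfl
    · rw [add_zero, e0, mul_one]
    · rw [e3, e2, e1, hab]
    · rw [t4, e0, e2, hb]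
    · rw [t5, e1, e2, e3, hab, ← mul_assoc, hb, one_mul]
  · rcases four_cases hF hw t with rfl | rfl | rfl | rfl
    · rw [add_zero, e0, mul_one]
    · rw [t6, e1, e2, e3, hab, mul_assoc, ha, mul_one]
    · rw [t7, e1, e2, e3, mul_assoc, hb, mul_one]
    · rw [t8, e0, e3]
      have : a * b * (a * b) = a * (b * a) * b := by group
      rw [this, ← hab]
      have : a * (a * b) * b = (a * a) * (b * b) := by group
      rw [this, ha, hb, one_mul]

end field

section iso
variable {T : Type u} [Group T] [Finite T] {ρ : MulAut T} (h3 : ∀ x, ρ (ρ (ρ x)) = x) (hf : ∀ x, ρ x = x → x = 1)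
variable {F : Type*} [Field F] [Fintype F] {w : F} (hF : Fintype.card F = 4) (hw : w ^ 2 + w + 1 = 0)
include h3 hf

theorem rho2 {e : T} (he : e * e = 1) : e * ρ e = ρ (ρ e) := by
  have h1 := FpfThree67.norm_eq_one h3 hf e
  have h2 : ρ (ρ e) * ρ (ρ e) = 1 := by rw [← map_mul, ← map_mul, he, map_one, map_one]
  exact mul_right_cancel (h1.trans h2.symm)

include hF hw

theorem em_add' {e : T} (he : e * e = 1) (s t : F) : em w e (ρ e) (s + t) = em w e (ρ e) s * em w e (ρ e) t := by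
  refine em_add hF hw _ _ he ?_ (FpfThree67.commute_phi h3 hf e) s t
  rw [← map_mul, he, map_one]

theorem em_addg {e : T} (he : e * e = 1) (s t : F) :
    em w e (ρ (ρ e)) (s + t) = em w e (ρ (ρ e)) s * em w e (ρ (ρ e)) t := by
  refine em_add hF hw _ _ he ?_ ?_ s t
  · rw [← map_mul, ← map_mul, he, map_one, map_one]
  · rw [← rho2 h3 hf he, ← mul_assoc, he, one_mul, FpfThree67.commute_phi h3 hf e, mul_assoc, he, mul_one]

theorem comm_rel {e₁ e₂ : T} (he₁ : e₁ * e₁ = 1) (he₂ : e₂ * e₂ = 1) (s t : F) :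
    em w e₁ (ρ e₁) s * em w e₂ (ρ e₂) t =
      em w ⁅e₁, e₂⁆ (ρ (ρ ⁅e₁, e₂⁆)) (s * t) * (em w e₂ (ρ e₂) t * em w e₁ (ρ e₁) s) := by
  have hc := K_center h3 hf
  have hz : ⁅e₁, e₂⁆ * ⁅e₁, e₂⁆ = 1 := by
    rw [← ClassTwo67.comm_mul_left hc, he₁, commutatorElement_one_left]
  have hcm : ∀ x y : T, x * y = ⁅x, y⁆ * (y * x) := by
    intro x y; rw [commutatorElement_def]; group
  obtain ⟨m1, m2, m3, m4⟩ := mul_table hF hw
  have r1 := rho2 h3 hf he₁
  have r2 := rho2 h3 hf he₂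
  have g0 := em_zero (w := w) hF hw ⁅e₁, e₂⁆ (ρ (ρ ⁅e₁, e₂⁆))
  have g1 := em_one (w := w) hF hw ⁅e₁, e₂⁆ (ρ (ρ ⁅e₁, e₂⁆))
  have g2 := em_w hF hw ⁅e₁, e₂⁆ (ρ (ρ ⁅e₁, e₂⁆))
  have g3 : em w ⁅e₁, e₂⁆ (ρ (ρ ⁅e₁, e₂⁆)) (w + 1) = ρ ⁅e₁, e₂⁆ := by
    rw [em_w1 hF hw, ← rho2 h3 hf hz, ← mul_assoc, hz, one_mul]
  rcases four_cases hF hw s with rfl | rfl | rfl | rfl
  · rw [zero_mul, em_zero hF hw, em_zero hF hw, one_mul, one_mul, mul_one]
  · rcases four_cases hF hw t with rfl | rfl | rfl | rfl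
    · rw [mul_zero, em_zero hF hw, em_zero hF hw, one_mul, one_mul, mul_one]
    · rw [mul_one, g1, em_one hF hw, em_one hF hw]; exact hcm _ _
    · rw [one_mul, g2, em_w hF hw, em_one hF hw, ← k01 h3 hf]; exact hcm _ _
    · rw [one_mul, g3, em_w1 hF hw, em_one hF hw, r2, ← k02 h3 hf]; exact hcm _ _
  · rcases four_cases hF hw t with rfl | rfl | rfl | rfl
    · rw [mul_zero, em_zero hF hw, em_zero hF hw, one_mul, one_mul, mul_one]
    · rw [mul_one, g2, em_w hF hw, em_one hF hw, ← k10 h3 hf]; exact hcm _ _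
    · rw [m1, g3, em_w hF hw, em_w hF hw, ← k11 h3 hf]; exact hcm _ _
    · rw [m2, g1, em_w1 hF hw, em_w hF hw, r2, ← k12 h3 hf]; exact hcm _ _
  · rcases four_cases hF hw t with rfl | rfl | rfl | rfl
    · rw [mul_zero, em_zero hF hw, em_zero hF hw, one_mul, one_mul, mul_one]
    · rw [mul_one, g3, em_w1 hF hw, em_one hF hw, r1, ← k20 h3 hf]; exact hcm _ _
    · rw [m3, g1, em_w1 hF hw, em_w hF hw, r1, ← k21 h3 hf]; exact hcm _ _
    · rw [m4, g2, em_w1 hF hw, em_w1 hF hw, r1, r2, ← k22 h3 hf]; exact hcm _ _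

theorem em_g_center {e₁ e₂ : T} (s : F) : em w ⁅e₁, e₂⁆ (ρ (ρ ⁅e₁, e₂⁆)) s ∈ center T := by
  have h1 := K_center h3 hf e₁ e₂
  have h2 : ρ (ρ ⁅e₁, e₂⁆) ∈ center T := by
    rw [← k01 h3 hf]; exact K_center h3 hf _ _
  rcases four_cases hF hw s with rfl | rfl | rfl | rfl
  · rw [em_zero hF hw]; exact one_mem _
  · rw [em_one hF hw]; exact h1
  · rw [em_w hF hw]; exact h2
  · rw [em_w1 hF hw]; exact mul_mem h1 h2

theorem em_inj {z : T} (hz : z * z = 1) (hz1 : z ≠ 1) {s : F} (h : em w z (ρ (ρ z)) s = 1) : s = 0 := by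
  rcases four_cases hF hw s with rfl | rfl | rfl | rfl
  · rfl
  · rw [em_one hF hw] at h; exact absurd h hz1
  · rw [em_w hF hw] at h
    exact absurd ((MulEquiv.map_eq_one_iff ρ).mp ((MulEquiv.map_eq_one_iff ρ).mp h)) hz1
  · rw [em_w1 hF hw, ← rho2 h3 hf hz, ← mul_assoc, hz, one_mul] at h
    exact absurd ((MulEquiv.map_eq_one_iff ρ).mp h) hz1

theorem iso_UT (hT : Nat.card T = 64) {e₁ e₂ : T} (he₁ : e₁ * e₁ = 1) (he₂ : e₂ * e₂ = 1) (hne : ⁅e₁, e₂⁆ ≠ 1) :
    Nonempty (T ≃* ↥(PSLAut.UT 3 F)) := by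
  have hc := K_center h3 hf
  have hz : ⁅e₁, e₂⁆ * ⁅e₁, e₂⁆ = 1 := by
    rw [← ClassTwo67.comm_mul_left hc, he₁, commutatorElement_one_left]
  let α : F → T := em w e₁ (ρ e₁)
  let β : F → T := em w e₂ (ρ e₂)
  let γ : F → T := em w ⁅e₁, e₂⁆ (ρ (ρ ⁅e₁, e₂⁆))
  have hα : ∀ s t, α (s + t) = α s * α t := em_add' h3 hf hF hw he₁
  have hβ : ∀ s t, β (s + t) = β s * β t := em_add' h3 hf hF hw he₂
  have hγ : ∀ s t, γ (s + t) = γ s * γ t := em_addg h3 hf hF hw hz
  have hγc : ∀ s x, x * γ s = γ s * x := fun s x => mem_center_iff.mp (em_g_center h3 hf hF hw s) x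
  have hαβ : ∀ s t, α s * β t = γ (s * t) * (β t * α s) := comm_rel h3 hf hF hw he₁ he₂
  have hγ0 : ∀ s, γ s = 1 → s = 0 := fun s => em_inj h3 hf hF hw hz hne
  have hα0 : α 0 = 1 := em_zero hF hw _ _
  have hβ0 : β 0 = 1 := em_zero hF hw _ _
  have hγ00 : γ 0 = 1 := em_zero hF hw _ _
  let Φ : ↥(PSLAut.UT 3 F) →* T :=
    { toFun := fun s => β (s.1.1 1 2) * α (s.1.1 0 1) * γ (s.1.1 0 2)
      map_one' := by
        have h01 : ((1 : ↥(PSLAut.UT 3 F)).1.1 : Matrix (Fin 3) (Fin 3) F) 0 1 = 0 := rfl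
        have h12 : ((1 : ↥(PSLAut.UT 3 F)).1.1 : Matrix (Fin 3) (Fin 3) F) 1 2 = 0 := rfl
        have h02 : ((1 : ↥(PSLAut.UT 3 F)).1.1 : Matrix (Fin 3) (Fin 3) F) 0 2 = 0 := rfl
        rw [h01, h12, h02, hα0, hβ0, hγ00, one_mul, one_mul]
      map_mul' := by
        intro s t
        have hs := s.2
        have ht := t.2
        have e01 : ((s * t).1.1 : Matrix (Fin 3) (Fin 3) F) 0 1 = s.1.1 0 1 + t.1.1 0 1 := by
          show (s.1.1 * t.1.1) 0 1 = _
          rw [Matrix.mul_apply, Fin.sum_univ_three, hs.1 0, ht.1 1, ht.2 2 1 (by decide)]; ring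
        have e12 : ((s * t).1.1 : Matrix (Fin 3) (Fin 3) F) 1 2 = s.1.1 1 2 + t.1.1 1 2 := by
          show (s.1.1 * t.1.1) 1 2 = _
          rw [Matrix.mul_apply, Fin.sum_univ_three, hs.2 1 0 (by decide), hs.1 1, ht.1 2]; ring
        have e02 : ((s * t).1.1 : Matrix (Fin 3) (Fin 3) F) 0 2 =
            s.1.1 0 1 * t.1.1 1 2 + (s.1.1 0 2 + t.1.1 0 2) := by
          show (s.1.1 * t.1.1) 0 2 = _
          rw [Matrix.mul_apply, Fin.sum_univ_three, hs.1 0, ht.1 2]; ring
        rw [e01, e12, e02, hα, hβ, hγ, hγ]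
        generalize s.1.1 0 1 = a
        generalize s.1.1 1 2 = b
        generalize s.1.1 0 2 = c
        generalize t.1.1 0 1 = a'
        generalize t.1.1 1 2 = b'
        generalize t.1.1 0 2 = c'
        calc β b * β b' * (α a * α a') * (γ (a * b') * (γ c * γ c'))
            = β b * (β b' * α a * α a' * γ (a * b')) * (γ c * γ c') := by group
          _ = β b * (γ (a * b') * (β b' * α a) * α a') * (γ c * γ c') := by
              rw [hγc (a * b') (β b' * α a * α a')]; group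
          _ = β b * (α a * β b') * α a' * (γ c * γ c') := by rw [← hαβ a b']; group
          _ = β b * α a * ((β b' * α a') * γ c) * γ c' := by group
          _ = β b * α a * γ c * (β b' * α a' * γ c') := by rw [hγc c (β b' * α a')]; group }
  have hinj : Function.Injective Φ := by
    rw [← MonoidHom.ker_eq_bot_iff, eq_bot_iff]
    intro s hs
    rw [MonoidHom.mem_ker] at hs
    have hs' : β (s.1.1 1 2) * α (s.1.1 0 1) * γ (s.1.1 0 2) = 1 := hs
    have hββ : ∀ x y, β x * β y = β y * β x := by intro x y; rw [← hβ, add_comm, hβ]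
    have hαα : ∀ x y, α x * α y = α y * α x := by intro x y; rw [← hα, add_comm, hα]
    have h01 : s.1.1 0 1 = 0 := by
      have h1 : α (s.1.1 0 1) = (β (s.1.1 1 2))⁻¹ * (γ (s.1.1 0 2))⁻¹ := by
        have h2 : α (s.1.1 0 1) = (β (s.1.1 1 2))⁻¹ * (β (s.1.1 1 2) * α (s.1.1 0 1) * γ (s.1.1 0 2)) *
          (γ (s.1.1 0 2))⁻¹ := by group
        rw [h2, hs', mul_one]
      have h2 : Commute (α (s.1.1 0 1)) (β 1) := by
        rw [h1]
        exact (Commute.inv_left (hββ _ _)).mul_left (Commute.inv_left (hγc _ _).symm)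
      have h3' := hαβ (s.1.1 0 1) 1
      rw [h2.eq, mul_one] at h3'
      exact hγ0 _ (by
        have := h3'.symm
        rwa [mul_eq_right] at this)
    rw [h01, hα0, mul_one] at hs'
    have h12 : s.1.1 1 2 = 0 := by
      have h1 : β (s.1.1 1 2) = (γ (s.1.1 0 2))⁻¹ := eq_inv_of_mul_eq_one_left hs'
      have h2 : Commute (α 1) (β (s.1.1 1 2)) := by
        rw [h1]; exact Commute.inv_right (hγc _ _)
      have h3' := hαβ 1 (s.1.1 1 2)
      rw [h2.eq, one_mul] at h3'
      exact hγ0 _ (by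
        have := h3'.symm
        rwa [mul_eq_right] at this)
    rw [h12, hβ0, one_mul] at hs'
    have h02 := hγ0 _ hs'
    rw [mem_bot]
    apply Subtype.ext
    apply Subtype.ext
    have hs2 := s.2
    ext i j
    fin_cases i <;> fin_cases j
    · exact hs2.1 0
    · exact h01
    · exact h02
    · exact hs2.2 1 0 (by decide)
    · exact hs2.1 1
    · exact h12
    · exact hs2.2 2 0 (by decide)
    · exact hs2.2 2 1 (by decide)
    · exact hs2.1 2
  have hcard : Nat.card ↥(PSLAut.UT 3 F) = Nat.card T := by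
    rw [PSLAut.card_UT, PSLAut.card_pairs, hF, hT, Fin.sum_univ_three]
    rfl
  have hbij : Function.Bijective Φ := (Nat.bijective_iff_injective_and_card Φ).mpr ⟨hinj, hcard⟩
  exact ⟨(MulEquiv.ofBijective Φ hbij).symm⟩

end iso

/-- nonabelian groups of order 8 -/
theorem order_eight {C : Type*} [Group C] [Finite C] (hC : Nat.card C = 8) (hna : ∃ a b : C, a * b ≠ b * a) :
    Nonempty (C ≃* DihedralGroup 4) ∨ Nonempty (C ≃* QuaternionGroup 2) := by
  -- an element of order 4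
  have hord : ∀ y : C, orderOf y ∣ 8 := fun y => hC ▸ orderOf_dvd_natCard y
  have hn8 : ∀ y : C, orderOf y ≠ 8 := by
    intro y hy
    have hcyc : IsCyclic C := isCyclic_of_orderOf_eq_card y (by rw [hy, hC])
    obtain ⟨a, b, hab⟩ := hna
    obtain ⟨g, hg⟩ := hcyc.exists_generator
    obtain ⟨m, hm⟩ := hg a
    obtain ⟨n, hn⟩ := hg b
    have hm' : g ^ m = a := hm
    have hn' : g ^ n = b := hn
    apply hab
    rw [← hm', ← hn', ← zpow_add, ← zpow_add, add_comm]
  obtain ⟨a, ha⟩ : ∃ a : C, orderOf a = 4 := by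
    by_contra hcon
    push Not at hcon
    have hsq : ∀ y : C, y * y = 1 := by
      intro y
      have h1 := hord y
      have h2 : orderOf y ≤ 8 := Nat.le_of_dvd (by norm_num) h1
      have h3 : orderOf y ∣ 2 := by
        have h4 := hn8 y
        have h5 := hcon y
        generalize orderOf y = m at *
        interval_cases m <;> first | omega | (exact absurd rfl h5) | (exact absurd rfl h4)
      rw [← pow_two]
      exact orderOf_dvd_iff_pow_eq_one.mp h3
    obtain ⟨a, b, hab⟩ := hna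
    apply hab
    have h1 := hsq (a * b)
    calc a * b = (a * a) * (a * b) * (b * b) := by rw [hsq a, hsq b]; group
      _ = a * (a * (a * b) * b) * b := by group
      _ = a * (a * a * (b * b)) * b := by group
      _ = (a * b) * ((a * b)⁻¹ * a * (a * a * (b * b)) * b) := by group
      _ = b * a := by
        rw [hsq a, hsq b]
        have h2 : (a * b)⁻¹ = a * b := inv_eq_of_mul_eq_one_left h1
        have h3 : (a * b)⁻¹ = b * a := by
          rw [mul_inv_rev, inv_eq_of_mul_eq_one_left (hsq a), inv_eq_of_mul_eq_one_left (hsq b)]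
        rw [mul_one, mul_one, mul_assoc _ a b, inv_mul_cancel, mul_one, ← h2, h3]
  obtain ⟨b, hb⟩ : ∃ b : C, b ∉ zpowers a := by
    by_contra hcon
    push Not at hcon
    have h1 : (⊤ : Subgroup C) ≤ zpowers a := fun y _ => hcon y
    have h2 := Subgroup.card_le_of_le h1
    rw [Nat.card_zpowers, ha, Subgroup.card_top, hC] at h2
    omega
  have hidx : (zpowers a).index = 2 := by
    have h1 := Subgroup.card_mul_index (zpowers a)
    rw [Nat.card_zpowers, ha, hC] at h1
    omega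
  have hnorm : (zpowers a).Normal := normal_of_index_eq_two hidx
  have ha4 : a ^ 4 = 1 := by rw [← ha]; exact pow_orderOf_eq_one a
  have hcl : ∀ y ∈ zpowers a, y = 1 ∨ y = a ∨ y = a ^ 2 ∨ y = a ^ 3 := by
    rintro y ⟨n, rfl⟩
    have h1 : a ^ (n % 4) = a ^ n := by
      have := zpow_mod_orderOf a n
      rw [ha] at this
      exact this
    show a ^ n = 1 ∨ a ^ n = a ∨ a ^ n = a ^ 2 ∨ a ^ n = a ^ 3
    rw [← h1]
    have h2 := Int.emod_nonneg n (by norm_num : (4 : ℤ) ≠ 0)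
    have h3 := Int.emod_lt_of_pos n (by norm_num : (0 : ℤ) < 4)
    generalize n % 4 = m at h2 h3
    interval_cases m
    · left; simp
    · right; left; simp
    · right; right; left; exact zpow_ofNat a 2
    · right; right; right; exact zpow_ofNat a 3
  have hgen : ∀ y : C, y ∈ zpowers a ∨ ∃ z ∈ zpowers a, y = b * z := by
    intro y
    by_cases hy : y ∈ zpowers a
    · exact Or.inl hy
    · refine Or.inr ⟨b⁻¹ * y, ?_, by group⟩
      have := (mul_mem_iff_of_index_two hidx (a := b⁻¹) (b := y))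
      rw [this]
      constructor
      · intro h; exact absurd (by simpa using inv_mem h) hb
      · intro h; exact absurd h hy
  have hconj : b⁻¹ * a * b = a⁻¹ := by
    have h1 : b⁻¹ * a * b ∈ zpowers a := by
      have := hnorm.conj_mem a (mem_zpowers a) b⁻¹
      simpa using this
    have hinv : a⁻¹ = a ^ 3 := by
      rw [inv_eq_iff_mul_eq_one, ← pow_succ']; exact ha4
    rw [hinv]
    rcases hcl _ h1 with h2 | h2 | h2 | h2
    · exfalso
      have h4 : a = 1 := by
        have : a = b * (b⁻¹ * a * b) * b⁻¹ := by group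
        rw [this, h2]; group
      rw [h4, orderOf_one] at ha; omega
    · exfalso
      -- then abelian
      have hba : Commute b a := by
        have : b * (b⁻¹ * a * b) = b * a := by rw [h2]
        have h5 : a * b = b * a := by rw [← this]; group
        exact h5.symm
      have hbz : ∀ z ∈ zpowers a, Commute b z := by
        rintro z ⟨n, rfl⟩
        exact hba.zpow_right n
      have hzz : ∀ z ∈ zpowers a, ∀ z' ∈ zpowers a, Commute z z' := by
        rintro z ⟨n, rfl⟩ z' ⟨m, rfl⟩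
        exact (Commute.refl a).zpow_zpow n m
      obtain ⟨y, y', hyy⟩ := hna
      apply hyy
      rcases hgen y with h | ⟨z, hz, rfl⟩
      · rcases hgen y' with h' | ⟨z', hz', rfl⟩
        · exact hzz _ h _ h'
        · exact ((hbz _ h).symm.mul_right (hzz _ h _ hz'))
      · rcases hgen y' with h' | ⟨z', hz', rfl⟩
        · exact ((hbz _ h').mul_left (hzz _ hz _ h'))
        · exact ((Commute.refl b).mul_right (hbz _ hz')).mul_left ((hbz _ hz).symm.mul_right (hzz _ hz _ hz'))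
    · exfalso
      have h4 : (b⁻¹ * a * b) ^ 2 = 1 := by rw [h2, ← pow_mul]; exact ha4
      have h5 : a ^ 2 = 1 := by
        have : a ^ 2 = b * (b⁻¹ * a * b) ^ 2 * b⁻¹ := by rw [pow_two, pow_two]; group
        rw [this, h4]; group
      have h6 := orderOf_dvd_of_pow_eq_one h5
      rw [ha] at h6
      omega
    · exact h2
  have hb2 : b * b = 1 ∨ b * b = a ^ 2 := by
    have h1 : b * b ∈ zpowers a := by
      rw [mul_mem_iff_of_index_two hidx]
    have hcomm : b⁻¹ * (b * b) * b = b * b := by group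
    rcases hcl _ h1 with h2 | h2 | h2 | h2
    · exact Or.inl h2
    · exfalso
      rw [h2, hconj] at hcomm
      have : a * a = 1 := by nth_rewrite 1 [← hcomm]; group
      rw [← pow_two] at this
      have h6 := orderOf_dvd_of_pow_eq_one this
      rw [ha] at h6; omega
    · exact Or.inr h2
    · exfalso
      have h3 : b⁻¹ * a ^ 3 * b = (b⁻¹ * a * b) ^ 3 := by simp only [pow_succ, pow_zero, one_mul]; group
      rw [h2, h3, hconj] at hcomm
      have h5 : a ^ 2 = 1 := by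
        have h7 : a⁻¹ ^ 3 * a ^ 3 = a ^ 3 * a ^ 3 := by rw [hcomm]
        have h8 : a⁻¹ ^ 3 * a ^ 3 = 1 := by group
        have h9 : a ^ 3 * a ^ 3 = a ^ 4 * a ^ 2 := by rw [← pow_add, ← pow_add]
        rw [h8, h9, ha4, one_mul] at h7
        exact h7.symm
      have h6 := orderOf_dvd_of_pow_eq_one h5
      rw [ha] at h6; omega
  rcases hb2 with h | h
  · left
    refine DihRec.dihedral_of_gens 4 a b (by norm_num) ha (by rw [hC]) hb h ?_
    have h1 : b⁻¹ = b := inv_eq_of_mul_eq_one_left h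
    have h2 : b * a * b = a⁻¹ := by rw [h1] at hconj; exact hconj
    calc b * a * (b * a) = (b * a * b) * a := by group
      _ = 1 := by rw [h2]; group
  · right
    refine QuatRec.quaternion_of 2 (by rw [hC]) a b (by rw [ha]) ?_ hconj hb
    rw [pow_two]; exact h

section main
variable {T : Type u} [Group T] [Finite T] {ρ x : MulAut T} (h3 : ∀ y, ρ (ρ (ρ y)) = y) (hf : ∀ y, ρ y = y → y = 1)
  (hx2 : ∀ y, x (x y) = y) (hxr : ∀ y, x (ρ y) = ρ (ρ (x y))) {C : Subgroup T} (hC : ∀ y : T, y ∈ C ↔ x y = y)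
  (h64 : ∀ y : T, y ^ 64 = 1)
include h3 hf hx2 hxr hC

theorem inj_CC : Function.Injective (fun p : C × C => (p.1 : T) * ρ (p.2 : T)) := by
  rintro ⟨c, d⟩ ⟨c', d'⟩ h
  have h1 : (c : T) * ρ d = c' * ρ d' := h
  have h2 : (c' : T)⁻¹ * c = ρ (d' * (d : T)⁻¹) := by
    rw [map_mul, map_inv]
    calc (c' : T)⁻¹ * c = (c' : T)⁻¹ * (c * ρ d) * (ρ d)⁻¹ := by group
      _ = ρ d' * (ρ (d : T))⁻¹ := by rw [h1]; group
  have hc : x ((c' : T)⁻¹ * c) = (c' : T)⁻¹ * c := (hC _).mp (C.mul_mem (C.inv_mem c'.2) c.2)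
  have hd : x (d' * (d : T)⁻¹) = d' * (d : T)⁻¹ := (hC _).mp (C.mul_mem d'.2 (C.inv_mem d.2))
  have h4 : d' * (d : T)⁻¹ = 1 := by
    have h5 : x (ρ (d' * (d : T)⁻¹)) = ρ (d' * (d : T)⁻¹) := by rw [← h2]; exact hc
    rw [hxr, hd] at h5
    have h6 := ρ.injective h5
    exact hf _ h6
  have h5 : (d : T) = d' := (mul_inv_eq_one.mp h4).symm
  have h6 : (c : T) = c' := by
    rw [h5] at h1
    exact mul_right_cancel h1
  exact Prod.ext (Subtype.ext h6) (Subtype.ext h5)

theorem cube (y : T) : ρ (ρ (ρ y) * (ρ y)⁻¹) * (ρ (ρ (ρ (ρ y) * (ρ y)⁻¹)))⁻¹ = y ^ 3 := by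
  rw [map_mul, map_mul, map_inv, map_inv, h3]
  have hn := FpfThree67.norm_eq_one h3 hf y
  have hc1 : Commute y (ρ y) := FpfThree67.commute_phi h3 hf y
  have hc2 : Commute (ρ y) (ρ (ρ y)) := FpfThree67.commute_phi h3 hf (ρ y)
  have hc3 : Commute (ρ (ρ y)) y := by
    have := FpfThree67.commute_phi h3 hf (ρ (ρ y))
    rw [h3] at this
    exact this
  have h1 : ρ y * ρ (ρ y) = y⁻¹ := by
    rw [eq_inv_iff_mul_eq_one, ← (hc1.mul_right hc3.symm).eq, ← mul_assoc]; exact hn
  calc y * (ρ (ρ y))⁻¹ * (ρ y * y⁻¹)⁻¹ = y * ((ρ (ρ y))⁻¹ * y) * (ρ y)⁻¹ := by group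
    _ = y * (y * (ρ (ρ y))⁻¹) * (ρ y)⁻¹ := by rw [(hc3.inv_left).eq]
    _ = y * y * (ρ y * ρ (ρ y))⁻¹ := by group
    _ = y ^ 3 := by rw [h1, inv_inv, pow_succ, pow_two]

theorem mul_card : Nat.card C * Nat.card C ≤ Nat.card T := by
  have h1 := Nat.card_le_card_of_injective _ (inj_CC h3 hf hx2 hxr hC)
  rwa [Nat.card_prod] at h1

include h64

theorem card_le : Nat.card T ≤ Nat.card C * Nat.card C := by
  have h1 : Nat.card C * C.index = Nat.card T := C.card_mul_index
  have hJ : C.index ≤ Nat.card {y : T // x y = y⁻¹} := by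
    have hm : ∀ t : T, x (t * (x t)⁻¹) = (t * (x t)⁻¹)⁻¹ := by
      intro t; rw [map_mul, map_inv, hx2]; group
    let f : T ⧸ C → {y : T // x y = y⁻¹} := Quotient.lift (fun t => ⟨t * (x t)⁻¹, hm t⟩) (by
      intro a b hab
      rw [← Quotient.eq_iff_equiv, Quotient.eq, QuotientGroup.leftRel_apply, hC] at hab
      apply Subtype.ext
      show a * (x a)⁻¹ = b * (x b)⁻¹
      rw [map_mul, map_inv] at hab
      have h2 : x b = x a * (a⁻¹ * b) := by rw [← hab]; group
      rw [h2]; group)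
    have hfi : Function.Injective f := by
      intro a b
      obtain ⟨a, rfl⟩ := Quotient.exists_rep a
      obtain ⟨b, rfl⟩ := Quotient.exists_rep b
      intro h
      have h2 : a * (x a)⁻¹ = b * (x b)⁻¹ := congrArg Subtype.val h
      apply Quotient.sound
      show QuotientGroup.leftRel C a b
      rw [QuotientGroup.leftRel_apply, hC, map_mul, map_inv]
      have h3' : (x a)⁻¹ * x b = a⁻¹ * (a * (x a)⁻¹) * x b := by group
      rw [h3', h2]; group
    exact Nat.card_le_card_of_injective f hfi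
  have hJC : Nat.card {y : T // x y = y⁻¹} ≤ Nat.card C := by
    have hm : ∀ y : {y : T // x y = y⁻¹}, ρ (ρ (y : T)) * (ρ (y : T))⁻¹ ∈ C := by
      intro y
      rw [hC, map_mul, map_inv, hxr, hxr, h3, y.2, map_inv, map_inv, inv_inv]
      have hc2 : Commute (ρ (y : T)) (ρ (ρ (y : T))) := FpfThree67.commute_phi h3 hf (ρ (y : T))
      exact (hc2.inv_left).eq
    refine Nat.card_le_card_of_injective (fun y => (⟨_, hm y⟩ : C)) ?_
    intro y y' h
    have h2 : ρ (ρ (y : T)) * (ρ (y : T))⁻¹ = ρ (ρ (y' : T)) * (ρ (y' : T))⁻¹ := congrArg Subtype.val h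
    have h4 : (y : T) ^ 3 = (y' : T) ^ 3 := by
      rw [← cube h3 hf hx2 hxr hC (y : T), ← cube h3 hf hx2 hxr hC (y' : T), h2]
    have h5 : ∀ z : T, z = (z ^ 3) ^ 43 := by
      intro z
      rw [← pow_mul]
      calc z = z * (z ^ 64) ^ 2 := by rw [h64, one_pow, mul_one]
        _ = z ^ (3 * 43) := by rw [← pow_mul, ← pow_succ']
    apply Subtype.ext
    rw [h5 (y : T), h5 (y' : T), h4]
  rw [← h1]
  exact Nat.mul_le_mul_left _ (hJ.trans hJC)

omit h64 in
theorem comm_of_comm (hT : Nat.card C * Nat.card C = Nat.card T) (hCc : ∀ c ∈ C, ∀ d ∈ C, c * d = d * c) (a b : T) :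
    a * b = b * a := by
  have hbij : Function.Bijective (fun p : C × C => (p.1 : T) * ρ (p.2 : T)) :=
    (Nat.bijective_iff_injective_and_card _).mpr ⟨inj_CC h3 hf hx2 hxr hC, by rw [Nat.card_prod, hT]⟩
  have h1 : ∀ c ∈ C, ∀ d ∈ C, Commute c (ρ d) := by
    intro c hc d hd
    have h4 : ⁅c, d⁆ = 1 := commutatorElement_eq_one_iff_mul_comm.mpr (hCc c hc d hd)
    have h5 : ⁅c, ρ d⁆ = 1 := by rw [k01 h3 hf, h4, map_one, map_one]
    exact commutatorElement_eq_one_iff_mul_comm.mp h5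
  obtain ⟨⟨c, d⟩, rfl⟩ := hbij.2 a
  obtain ⟨⟨c', d'⟩, rfl⟩ := hbij.2 b
  show Commute ((c : T) * ρ d) ((c' : T) * ρ d')
  have h2 : Commute (c : T) c' := hCc _ c.2 _ c'.2
  have h4 : Commute (ρ (d : T)) (ρ (d' : T)) := by
    show ρ (d : T) * ρ d' = ρ d' * ρ d
    rw [← map_mul, ← map_mul, hCc _ d.2 _ d'.2]
  exact (h2.mul_right (h1 _ c.2 _ d'.2)).mul_left ((h1 _ c'.2 _ d.2).symm.mul_right h4)

theorem exists_gens (hT : Nat.card T = 64) (hna : ∃ a b : T, a * b ≠ b * a) :
    (Nonempty (C ≃* DihedralGroup 4) ∨ Nonempty (C ≃* QuaternionGroup 2)) ∧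
      ∃ e₁ e₂ : T, e₁ * e₁ = 1 ∧ e₂ * e₂ = 1 ∧ ⁅e₁, e₂⁆ ≠ 1 := by
  have h1 := mul_card h3 hf hx2 hxr hC
  have h2 := card_le h3 hf hx2 hxr hC h64
  have h4 : Nat.card C * Nat.card C = 64 := by omega
  have hC8 : Nat.card C = 8 := by nlinarith
  have hCna : ∃ a b : C, a * b ≠ b * a := by
    by_contra hcon
    push Not at hcon
    obtain ⟨a, b, hab⟩ := hna
    exact hab (comm_of_comm h3 hf hx2 hxr hC (by rw [h4, hT])
      (fun c hc d hd => congrArg Subtype.val (hcon ⟨c, hc⟩ ⟨d, hd⟩)) a b)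
  have h8 := order_eight hC8 hCna
  refine ⟨h8, ?_⟩
  rcases h8 with ⟨⟨e⟩⟩ | ⟨⟨e⟩⟩
  · refine ⟨e.symm (DihedralGroup.sr 0), e.symm (DihedralGroup.sr 1), ?_, ?_, ?_⟩
    · rw [← Subgroup.coe_mul, ← map_mul]
      have : (DihedralGroup.sr 0 : DihedralGroup 4) * DihedralGroup.sr 0 = 1 := by decide
      rw [this, map_one]; rfl
    · rw [← Subgroup.coe_mul, ← map_mul]
      have : (DihedralGroup.sr 1 : DihedralGroup 4) * DihedralGroup.sr 1 = 1 := by decide
      rw [this, map_one]; rfl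
    · intro h
      rw [commutatorElement_eq_one_iff_mul_comm, ← Subgroup.coe_mul, ← Subgroup.coe_mul, ← map_mul, ← map_mul] at h
      have h5 := e.symm.injective (Subtype.ext h)
      exact absurd h5 (by decide)
  · have hc := K_center h3 hf
    set u : T := (e.symm (QuaternionGroup.a 1) : T) with hu
    set v : T := (e.symm (QuaternionGroup.xa 0) : T) with hv
    set z : T := (e.symm (QuaternionGroup.a 2) : T) with hz
    have huu : u * u = z := by
      rw [hu, hz, ← Subgroup.coe_mul, ← map_mul]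
      have : (QuaternionGroup.a 1 : QuaternionGroup 2) * QuaternionGroup.a 1 = QuaternionGroup.a 2 := by decide
      rw [this]
    have hvv : v * v = z := by
      rw [hv, hz, ← Subgroup.coe_mul, ← map_mul]
      have : (QuaternionGroup.xa 0 : QuaternionGroup 2) * QuaternionGroup.xa 0 = QuaternionGroup.a 2 := by decide
      rw [this]
    have huv : ⁅u, v⁆ = z := by
      rw [commutatorElement_def, hu, hv, hz, ← Subgroup.coe_inv, ← Subgroup.coe_inv, ← Subgroup.coe_mul,
        ← Subgroup.coe_mul, ← Subgroup.coe_mul, ← map_inv, ← map_inv, ← map_mul, ← map_mul, ← map_mul]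
      have : (QuaternionGroup.a 1 : QuaternionGroup 2) * QuaternionGroup.xa 0 * (QuaternionGroup.a 1)⁻¹ *
        (QuaternionGroup.xa 0)⁻¹ = QuaternionGroup.a 2 := by decide
      rw [this]
    have hzz : z * z = 1 := by
      rw [hz, ← Subgroup.coe_mul, ← map_mul]
      have : (QuaternionGroup.a 2 : QuaternionGroup 2) * QuaternionGroup.a 2 = 1 := by decide
      rw [this, map_one]; rfl
    have hz1 : z ≠ 1 := by
      intro h
      have h5 : e.symm (QuaternionGroup.a 2) = 1 := Subtype.ext h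
      rw [MulEquiv.map_eq_one_iff] at h5
      exact absurd h5 (by decide)
    have hzc : ∀ y, y * z = z * y := by
      intro y
      have := hc u v
      rw [huv] at this
      exact mem_center_iff.mp this y
    have hzc1 : ∀ y, y * ρ z = ρ z * y := by
      intro y
      obtain ⟨y', rfl⟩ := ρ.surjective y
      rw [← map_mul, ← map_mul, hzc]
    have hzc2 : ∀ y, y * ρ (ρ z) = ρ (ρ z) * y := by
      intro y
      obtain ⟨y', rfl⟩ := ρ.surjective y
      rw [← map_mul, ← map_mul, hzc1]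
    have hn := FpfThree67.norm_eq_one h3 hf z
    have hcm : ∀ x y : T, x * y = ⁅x, y⁆ * (y * x) := by
      intro x y; rw [commutatorElement_def]; group
    refine ⟨u * ρ v, u * ρ (ρ v), ?_, ?_, ?_⟩
    · have h5 : ρ v * u = ρ (ρ z) * (u * ρ v) := by
        have h6 := hcm u (ρ v)
        rw [k01 h3 hf, huv] at h6
        have h7 : ρ (ρ z) * ρ (ρ z) = 1 := by rw [← map_mul, ← map_mul, hzz, map_one, map_one]
        rw [h6, ← mul_assoc, h7, one_mul]
      calc u * ρ v * (u * ρ v) = u * (ρ v * u) * ρ v := by group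
        _ = u * (ρ (ρ z) * (u * ρ v)) * ρ v := by rw [h5]
        _ = (u * ρ (ρ z)) * u * (ρ v * ρ v) := by group
        _ = ρ (ρ z) * (u * u) * (ρ v * ρ v) := by rw [hzc2]; group
        _ = ρ (ρ z) * z * ρ z := by rw [huu, ← map_mul, hvv]
        _ = z * ρ z * ρ (ρ z) := by rw [hzc2 (z * ρ z)]; group
        _ = 1 := hn
    · have h5 : ρ (ρ v) * u = ρ z * (u * ρ (ρ v)) := by
        have h6 := hcm u (ρ (ρ v))
        rw [k02 h3 hf, huv] at h6
        have h7 : ρ z * ρ z = 1 := by rw [← map_mul, hzz, map_one]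
        rw [h6, ← mul_assoc, h7, one_mul]
      calc u * ρ (ρ v) * (u * ρ (ρ v)) = u * (ρ (ρ v) * u) * ρ (ρ v) := by group
        _ = u * (ρ z * (u * ρ (ρ v))) * ρ (ρ v) := by rw [h5]
        _ = (u * ρ z) * u * (ρ (ρ v) * ρ (ρ v)) := by group
        _ = ρ z * (u * u) * (ρ (ρ v) * ρ (ρ v)) := by rw [hzc1]; group
        _ = ρ z * z * ρ (ρ z) := by rw [huu, ← map_mul, ← map_mul, hvv]
        _ = 1 := by rw [← hzc1]; exact hn
    · intro h
      apply hz1
      have h5 : ⁅ρ v, u⁆ = ρ (ρ z) := by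
        have h6 : ⁅u, ρ v⁆ = ρ (ρ z) := by rw [k01 h3 hf, huv]
        have h7 : ρ (ρ z) * ρ (ρ z) = 1 := by rw [← map_mul, ← map_mul, hzz, map_one, map_one]
        rw [← commutatorElement_inv, h6]
        exact inv_eq_of_mul_eq_one_left h7
      rw [ClassTwo67.comm_mul_left hc, ClassTwo67.comm_mul_right hc, ClassTwo67.comm_mul_right hc,
        commutatorElement_self, one_mul, k02 h3 hf, huv, h5, k11 h3 hf, K_self h3 hf, map_one, mul_one] at h
      rw [mul_assoc, h, mul_one] at hn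
      exact hn

end main

theorem result {T : Type u} [Group T] [Finite T] (hT : Nat.card T = 64) (hna : ¬ IsMulCommutative T) (ρ x : MulAut T)
    (hρ : orderOf ρ = 3) (hx : orderOf x = 2)
    (hxr : x * ρ * x⁻¹ = ρ⁻¹) (hfp : ∀ y : T, ρ y = y → y = 1) (C : Subgroup T) (hC : ∀ y : T, y ∈ C ↔ x y = y) :
    (∃ (F : Type) (_ : Field F) (_ : Fintype F), Fintype.card F = 4 ∧
        ∃ S : Sylow 2 (Matrix.ProjectiveSpecialLinearGroup (Fin 3) F),
          Nonempty (T ≃* ↥(S : Subgroup (Matrix.ProjectiveSpecialLinearGroup (Fin 3) F)))) ∧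
      (Nonempty (↥C ≃* DihedralGroup 4) ∨ Nonempty (↥C ≃* QuaternionGroup 2)) := by
  have h3 : ∀ y, ρ (ρ (ρ y)) = y := by
    intro y
    have h1 : ρ ^ 3 = 1 := by rw [← hρ]; exact pow_orderOf_eq_one ρ
    have h2 : (ρ ^ 3) y = y := by rw [h1]; rfl
    exact h2
  have hx2 : ∀ y, x (x y) = y := by
    intro y
    have h1 : x ^ 2 = 1 := by rw [← hx]; exact pow_orderOf_eq_one x
    have h2 : (x ^ 2) y = y := by rw [h1]; rfl
    exact h2
  have hxr' : ∀ y, x (ρ y) = ρ (ρ (x y)) := by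
    intro y
    have h1 : x * ρ = ρ⁻¹ * x := by rw [← hxr]; group
    have h2 : x (ρ y) = ρ⁻¹ (x y) := congrArg (fun f : MulAut T => f y) h1
    rw [h2]
    apply ρ.injective
    rw [h3]
    exact MulEquiv.apply_symm_apply ρ (x y)
  have h64 : ∀ y : T, y ^ 64 = 1 := by
    intro y; rw [← hT]; exact pow_card_eq_one'
  have hna' : ∃ a b : T, a * b ≠ b * a := by
    by_contra hcon
    push Not at hcon
    exact hna ⟨⟨hcon⟩⟩
  obtain ⟨h8, e₁, e₂, he₁, he₂, hne⟩ := exists_gens h3 hfp hx2 hxr' hC h64 hT hna'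
  refine ⟨?_, h8⟩
  have : Fact (Nat.Prime 2) := ⟨Nat.prime_two⟩
  let F := GaloisField 2 2
  haveI : Fintype F := Fintype.ofFinite F
  have hF : Fintype.card F = 4 := by
    rw [← Nat.card_eq_fintype_card, GaloisField.card 2 2 (by norm_num)]; norm_num
  refine ⟨F, inferInstance, inferInstance, hF, ?_⟩
  obtain ⟨w, hw⟩ := exists_omega hF
  haveI : CharP F 2 := char_two hF
  obtain ⟨e⟩ := iso_UT h3 hfp hF hw hT he₁ he₂ hne
  refine ⟨PSLAut.SylUTb 3 F 2, ?_⟩
  rw [PSLAut.coe_SylUTb]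
  have hinj : Function.Injective ((QuotientGroup.mk' (Subgroup.center (Matrix.SpecialLinearGroup (Fin 3) F))).comp
      (PSLAut.UT 3 F).subtype) := by
    intro s t h
    exact Subtype.ext (PSLAut.eq_of_isUT_of_mk_eq (by norm_num) s.2 t.2 h)
  have hr : ((QuotientGroup.mk' (Subgroup.center (Matrix.SpecialLinearGroup (Fin 3) F))).comp
      (PSLAut.UT 3 F).subtype).range = PSLAut.UTb 3 F := by
    rw [MonoidHom.range_comp, range_subtype]; rfl
  exact ⟨e.trans ((MonoidHom.ofInjective hinj).trans (MulEquiv.subgroupCongr hr))⟩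

end Cfsg.Agent.Lib.S3T64
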