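import Cfsg.Agent.Lib.JTw14
import Cfsg.Agent.Lib.S3T64
import Mathlib

/-!
# Groups of Hall–Janko type: elements of order 3 centralizing `z`
-/

set_option autoImplicit false

namespace Cfsg.Agent.Lib.JTw

open Cfsg Cfsg.Agent.Lib Cfsg.Agent.Lib.LargeExtra Setup

section cq

variable {H L : Type*} [Group H] [Group L] {c : H} {π : H →* L}

theorem cq_lift (hodd : Odd (orderOf c)) (hπs : Function.Surjective π) (hπ : ∀ h, π h = 1 ↔ h ∈ Subgroup.zpowers c)
    {s : L} (hs2 : s * s = 1) (hs1 : s ≠ 1) : ∃ h, h * h = 1 ∧ h ≠ 1 ∧ π h = s := by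
  obtain ⟨h, rfl⟩ := hπs s
  have h1 : h * h ∈ Subgroup.zpowers c := by rw [← hπ, map_mul]; exact hs2
  have h2 : (h * h) ^ orderOf c = 1 := by
    obtain ⟨i, hi⟩ := h1
    have hi : c ^ i = h * h := hi
    rw [← hi, ← zpow_natCast, ← zpow_mul, mul_comm, zpow_mul, zpow_natCast, pow_orderOf_eq_one, one_zpow]
  obtain ⟨l, hl⟩ := hodd
  have h3 : h ^ orderOf c * h ^ orderOf c = 1 := by
    rw [← h2, ← pow_add, ← pow_two h, ← pow_mul]; congr 1; ring
  have h4 : π (h ^ orderOf c) = π h := by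
    rw [map_pow, hl, pow_succ, pow_mul, pow_two, hs2, one_pow, one_mul]
  refine ⟨_, h3, ?_, h4⟩
  intro h5
  rw [h5, map_one] at h4
  exact hs1 h4.symm

/-- two involutions with the same image are equal. -/
theorem cq_eq (hc : ∀ h : H, h * c = c * h) (hodd : Odd (orderOf c)) (hπ : ∀ h, π h = 1 ↔ h ∈ Subgroup.zpowers c)
    {a s : H} (ha2 : a * a = 1) (hs2 : s * s = 1) (h : π a = π s) : a = s := by
  have h1 : π (a * s⁻¹) = 1 := by rw [map_mul, map_inv, h, mul_inv_cancel]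
  rw [hπ] at h1
  obtain ⟨i, hi⟩ := h1
  have hi : c ^ i = a * s⁻¹ := hi
  have h2 : a = c ^ i * s := by rw [hi]; group
  have h3 : s * c ^ i = c ^ i * s := Commute.zpow_right (hc s) i
  have h4 : c ^ i * c ^ i = 1 := by
    have : a * a = (c ^ i * c ^ i) * (s * s) := by
      rw [h2]
      calc c ^ i * s * (c ^ i * s) = c ^ i * (s * c ^ i) * s := by simp only [mul_assoc]
        _ = _ := by rw [h3]; simp only [mul_assoc]
    rw [ha2, hs2, mul_one] at this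
    exact this.symm
  have h5 : (c ^ i) ^ orderOf c = 1 := by
    rw [← zpow_natCast, ← zpow_mul, mul_comm, zpow_mul, zpow_natCast, pow_orderOf_eq_one, one_zpow]
  obtain ⟨l, hl⟩ := hodd
  rw [hl, pow_succ, pow_mul, pow_two, h4, one_pow, one_mul] at h5
  rw [h2, h5, one_mul]

theorem cq_comm (hc : ∀ h : H, h * c = c * h) (hodd : Odd (orderOf c)) (hπ : ∀ h, π h = 1 ↔ h ∈ Subgroup.zpowers c)
    {a s : H} (hs2 : s * s = 1) (h : π a * π s = π s * π a) : a * s = s * a := by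
  have h1 : a * s * a⁻¹ = s := by
    apply cq_eq hc hodd hπ _ hs2
    · rw [map_mul, map_mul, map_inv, h, mul_inv_cancel_right]
    · rw [cj_sq, hs2]; group
  exact mul_inv_eq_iff_eq_mul.1 h1

theorem cq_comap (hc : ∀ h : H, h * c = c * h) (hodd : Odd (orderOf c)) (hπ : ∀ h, π h = 1 ↔ h ∈ Subgroup.zpowers c)
    {s : H} (hs2 : s * s = 1) : (Subgroup.centralizer ({π s} : Set L)).comap π = Subgroup.centralizer ({s} : Set H) := by
  ext a
  rw [Subgroup.mem_comap, mem_centralizer_one, mem_centralizer_one]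
  constructor
  · exact cq_comm hc hodd hπ hs2
  · intro h; rw [← map_mul, h, map_mul]

theorem cq_card [Finite H] (hπs : Function.Surjective π) (hc : ∀ h : H, h * c = c * h) (hodd : Odd (orderOf c))
    (hπ : ∀ h, π h = 1 ↔ h ∈ Subgroup.zpowers c) {s : H} (hs2 : s * s = 1) :
    Nat.card (Subgroup.centralizer ({s} : Set H)) = Nat.card (Subgroup.centralizer ({π s} : Set L)) * orderOf c := by
  have h1 := SubgroupTools.card_map_mul_card_inf_ker π (Subgroup.centralizer ({s} : Set H))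
  have h2 : Subgroup.centralizer ({s} : Set H) ⊓ π.ker = Subgroup.zpowers c := by
    ext a
    rw [Subgroup.mem_inf, MonoidHom.mem_ker, hπ]
    constructor
    · rintro ⟨_, h⟩; exact h
    · rintro ⟨i, hi⟩
      have hi : c ^ i = a := hi
      refine ⟨?_, ⟨i, hi⟩⟩
      rw [mem_centralizer_one, ← hi]
      exact (Commute.zpow_right (hc s) i).symm
  rw [h2, Nat.card_zpowers, ← cq_comap hc hodd hπ hs2, Subgroup.map_comap_eq_self_of_surjective hπs] at h1
  rw [h1, cq_comap hc hodd hπ hs2]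

end cq

section a5

set_option synthInstance.maxSize 1024 in
theorem a5_cent3 : ∀ a : alternatingGroup (Fin 5), a ≠ 1 → a ^ 3 = 1 → ∀ c : alternatingGroup (Fin 5),
    c * a = a * c → c = 1 ∨ c = a ∨ c = a ^ 2 := by
  decide +kernel

theorem a5_conj3 : ∀ a b : alternatingGroup (Fin 5), a ≠ 1 → a ^ 3 = 1 → b ≠ 1 → b ^ 3 = 1 → ∃ c, c * a * c⁻¹ = b := by
  decide +kernel

end a5

section sylow

variable {G : Type*} [Group G] [Finite G]

theorem sylow_conj {p : ℕ} [hp : Fact p.Prime] (T : Subgroup G) (h : ¬ p * p ∣ Nat.card T) {x y : G} (hx : x ∈ T)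
    (hy : y ∈ T) (hxp : orderOf x = p) (hyp : orderOf y = p) : ∃ t ∈ T, t * y * t⁻¹ ∈ Subgroup.zpowers x := by
  have hx' : orderOf (⟨x, hx⟩ : T) = p := by rw [← hxp, ← Subgroup.orderOf_coe]
  have hy' : orderOf (⟨y, hy⟩ : T) = p := by rw [← hyp, ← Subgroup.orderOf_coe]
  have h1 : IsPGroup p (Subgroup.zpowers (⟨x, hx⟩ : T)) := IsPGroup.of_card (n := 1) (by rw [Nat.card_zpowers, hx', pow_one])
  have h2 : ¬ p ∣ (Subgroup.zpowers (⟨x, hx⟩ : T)).index := by
    rintro ⟨k, hk⟩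
    apply h
    have h3 := (Subgroup.zpowers (⟨x, hx⟩ : T)).card_mul_index
    rw [Nat.card_zpowers, hx', hk] at h3
    rw [← h3]
    exact ⟨k, by ring⟩
  let P : Sylow p T := h1.toSylow h2
  have hP : (P : Subgroup T) = Subgroup.zpowers (⟨x, hx⟩ : T) := IsPGroup.toSylow_coe h1 h2
  have h3 : IsPGroup p (Subgroup.zpowers (⟨y, hy⟩ : T)) := IsPGroup.of_card (n := 1) (by rw [Nat.card_zpowers, hy', pow_one])
  obtain ⟨P', hP'⟩ := h3.exists_le_sylow
  obtain ⟨g, hg⟩ := MulAction.exists_smul_eq T P' P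
  have h4 : g * ⟨y, hy⟩ * g⁻¹ ∈ (P : Subgroup T) := by
    have : g * ⟨y, hy⟩ * g⁻¹ ∈ P := by
      rw [← hg]
      exact ⟨_, hP' (Subgroup.mem_zpowers _), rfl⟩
    exact this
  rw [hP] at h4
  refine ⟨g, g.2, ?_⟩
  obtain ⟨i, hi⟩ := h4
  exact ⟨i, congrArg Subtype.val hi⟩

omit [Finite G] in
theorem mem_zpowers_three {x y : G} (hx : x ^ 3 = 1) (hy : y ∈ Subgroup.zpowers x) : y = 1 ∨ y = x ∨ y = x⁻¹ := by
  obtain ⟨i, hi⟩ := hy
  have hi : x ^ i = y := hi
  have h1 : i = 3 * (i / 3) + i % 3 := (Int.mul_ediv_add_emod i 3).symm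
  have h2 : y = x ^ (i % 3) := by
    rw [← hi]
    conv_lhs => rw [h1]
    rw [zpow_add, zpow_mul]
    have : x ^ (3 : ℤ) = 1 := by exact_mod_cast hx
    rw [this, one_zpow, one_mul]
  have h3 : i % 3 = 0 ∨ i % 3 = 1 ∨ i % 3 = 2 := by omega
  rcases h3 with h | h | h
  · left; rw [h2, h, zpow_zero]
  · right; left; rw [h2, h, zpow_one]
  · right; right; rw [h2, h, eq_inv_iff_mul_eq_one]
    have : x ^ (2 : ℤ) * x = x ^ 3 := by rw [← zpow_add_one]; norm_cast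
    rw [this, hx]

omit [Finite G] in
theorem ord3 {x : G} (hx : x ^ 3 = 1) (h : x ≠ 1) : orderOf x = 3 := by
  have : Fact (Nat.Prime 3) := ⟨by norm_num⟩
  exact orderOf_eq_prime hx h

omit [Finite G] in
theorem ne_one3 {x : G} (hx : orderOf x = 3) : x ≠ 1 := by
  intro h
  rw [h, orderOf_one] at hx; norm_num at hx

omit [Finite G] in
theorem pow3 {x : G} (hx : orderOf x = 3) : x ^ 3 = 1 := by rw [← hx]; exact pow_orderOf_eq_one x

omit [Finite G] in
theorem ord_conj (g x : G) : orderOf (g * x * g⁻¹) = orderOf x := by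
  have : g * x * g⁻¹ = MulAut.conj g x := by simp
  rw [this, MulEquiv.orderOf_eq]

end sylow

namespace Base

variable {G : Type*} [Group G] [Finite G] {z : G} {Q : Subgroup G} {ρ : G}

/-- `ρ` centralizes a noncentral involution of `Q`. -/
theorem three_inv (h : Base z Q) {v : G} (hv : v ∈ Q) (hv2 : v * v = 1) (hv1 : v ≠ 1) (hvz : v ≠ z)
    (hρ : ρ * z = z * ρ) (h3 : orderOf ρ = 3) : ∃ w ∈ Q, w * w = 1 ∧ w ≠ 1 ∧ w ≠ z ∧ ρ * w = w * ρ := by
  have : Fact (Nat.Prime 3) := ⟨by norm_num⟩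
  have h1 := fix_mod (p := 3) (pow3 h3) ({q : G | q ∈ Q ∧ q * q = 1} \ {1, z}) (by
    rintro a ⟨⟨ha, ha2⟩, ha3⟩
    simp only [Set.mem_insert_iff, Set.mem_singleton_iff, not_or] at ha3
    refine ⟨⟨h.pre.norm ρ hρ a ha, by rw [cj_sq, ha2]; group⟩, ?_⟩
    simp only [Set.mem_insert_iff, Set.mem_singleton_iff, not_or]
    refine ⟨fun h1 => ha3.1 (cj_eq_one.1 h1), fun h1 => ha3.2 ?_⟩
    rw [← cj_eq_self.2 hρ] at h1
    exact cj_inj h1)
  have h3 : ({q : G | q ∈ Q ∧ q * q = 1} \ {1, z}).ncard = 10 := by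
    rw [Set.ncard_sdiff, (h.count hv hv2 hv1 hvz).1, Set.ncard_pair h.pre.ne.symm]
    rintro w (rfl | rfl)
    · exact ⟨one_mem _, by simp⟩
    · exact ⟨h.pre.mem, h.pre.sq⟩
  rw [h3] at h1
  by_contra hcon
  push Not at hcon
  have : {a : G | a ∈ ({q : G | q ∈ Q ∧ q * q = 1} \ {1, z}) ∧ ρ * a = a * ρ} = ∅ := by
    rw [Set.eq_empty_iff_forall_notMem]
    rintro a ⟨⟨⟨ha, ha2⟩, ha3⟩, ha4⟩
    simp only [Set.mem_insert_iff, Set.mem_singleton_iff, not_or] at ha3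
    exact hcon a ha ha2 ha3.1 ha3.2 ha4
  rw [this, Set.ncard_empty] at h1
  revert h1; decide

omit [Finite G] in
/-- the centralizer of `ρ` in `C(z)`. -/
theorem three_cent (h : Base z Q) (hρ : ρ * z = z * ρ) (h3 : orderOf ρ = 3) {c : G} (hcz : c * z = z * c)
    (hcρ : c * ρ = ρ * c) : ∃ r ∈ Subgroup.zpowers ρ, ∃ q ∈ Q, ρ * q = q * ρ ∧ c = r * q := by
  obtain ⟨φ, hs, hk⟩ := h.ex
  let ρ' : Subgroup.centralizer ({z} : Set G) := ⟨ρ, mem_centralizer_one.2 hρ⟩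
  let c' : Subgroup.centralizer ({z} : Set G) := ⟨c, mem_centralizer_one.2 hcz⟩
  have hρ1 : φ ρ' ≠ 1 := by
    intro h1
    have h2 : ρ ∈ Q := (hk ρ').1 h1
    have h4 := Subgroup.orderOf_dvd_natCard Q h2
    rw [h3, h.card] at h4
    norm_num at h4
  have hρ3 : φ ρ' ^ 3 = 1 := by
    rw [← map_pow]
    have : ρ' ^ 3 = 1 := Subtype.ext (pow3 h3)
    rw [this, map_one]
  have h1 := a5_cent3 (φ ρ') hρ1 hρ3 (φ c') (by
    rw [← map_mul, ← map_mul]; congr 1; exact Subtype.ext hcρ)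
  have key : ∀ i : ℕ, φ c' = φ ρ' ^ i → ∃ r ∈ Subgroup.zpowers ρ, ∃ q ∈ Q, ρ * q = q * ρ ∧ c = r * q := by
    intro i hi
    refine ⟨ρ ^ i, Subgroup.npow_mem_zpowers ρ i, (ρ ^ i)⁻¹ * c, ?_, ?_, by group⟩
    · have h4 : φ ((ρ' ^ i)⁻¹ * c') = 1 := by rw [map_mul, map_inv, map_pow, hi, inv_mul_cancel]
      exact (hk _).1 h4
    · have h5 : Commute ρ (ρ ^ i)⁻¹ := ((Commute.refl ρ).pow_right i).inv_right
      exact (h5.mul_right (show Commute ρ c from hcρ.symm)).eq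
  rcases h1 with h1 | h1 | h1
  · exact key 0 (by rw [h1, pow_zero])
  · exact key 1 (by rw [h1, pow_one])
  · exact key 2 h1

omit [Finite G] in
theorem three_coprime (h : Base z Q) (h3 : orderOf ρ = 3) {x : G} (hx : x ∈ Subgroup.zpowers ρ) (hxQ : x ∈ Q) : x = 1 := by
  rw [← orderOf_eq_one_iff]
  have h1 := Subgroup.orderOf_dvd_natCard Q hxQ
  have h2 := Subgroup.orderOf_dvd_natCard _ hx
  rw [Nat.card_zpowers, h3] at h2
  rw [h.card] at h1
  have := Nat.dvd_gcd h1 h2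
  simpa using this

/-- elements `c` of the centralizer of `ρ` in `C(z)` with `c² = 1` are in `Q`. -/
theorem three_mem (h : Base z Q) (hρ : ρ * z = z * ρ) (h3 : orderOf ρ = 3) {c : G} (hcz : c * z = z * c)
    (hcρ : c * ρ = ρ * c) (hc2 : c * c = 1) : c ∈ Q := by
  obtain ⟨r, hr, q, hq, hρq, rfl⟩ := h.three_cent hρ h3 hcz hcρ
  have h1 : r * q = q * r := by
    obtain ⟨i, hi⟩ := hr
    have hi : ρ ^ i = r := hi
    rw [← hi]
    exact (Commute.zpow_left (show Commute ρ q from hρq) i).eq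
  have h2 : r * r * (q * q) = 1 := by
    rw [← hc2]
    calc r * r * (q * q) = r * (r * q) * q := by simp only [mul_assoc]
      _ = r * (q * r) * q := by rw [h1]
      _ = r * q * (r * q) := by simp only [mul_assoc]
  have h4 : r * r ∈ Q := by
    have : r * r = (q * q)⁻¹ := eq_inv_of_mul_eq_one_left h2
    rw [this]; exact inv_mem (mul_mem hq hq)
  have h5 := h.three_coprime h3 (mul_mem hr hr) h4
  have h6 : r = 1 := by
    have h7 : r ^ 3 = 1 := by
      have := Subgroup.orderOf_dvd_natCard _ hr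
      rw [Nat.card_zpowers, h3] at this
      exact orderOf_dvd_iff_pow_eq_one.1 this
    rw [pow_succ, pow_two, h5, one_mul] at h7
    exact h7
  rw [h6, one_mul]; exact hq

theorem three_inverted (h : Base z Q) (hρ : ρ * z = z * ρ) (h3 : orderOf ρ = 3) :
    ∃ c : G, c * z = z * c ∧ c * ρ * c⁻¹ = ρ⁻¹ := by
  have : Fact (Nat.Prime 3) := ⟨by norm_num⟩
  obtain ⟨φ, hs, hk⟩ := h.ex
  let ρ' : Subgroup.centralizer ({z} : Set G) := ⟨ρ, mem_centralizer_one.2 hρ⟩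
  have hρ1 : φ ρ' ≠ 1 := by
    intro h1
    have h2 : ρ ∈ Q := (hk ρ').1 h1
    have h4 := Subgroup.orderOf_dvd_natCard Q h2
    rw [h3, h.card] at h4
    norm_num at h4
  have hρ3 : φ ρ' ^ 3 = 1 := by
    rw [← map_pow]
    have : ρ' ^ 3 = 1 := Subtype.ext (pow3 h3)
    rw [this, map_one]
  obtain ⟨b, hb⟩ := a5_conj3 (φ ρ') (φ ρ')⁻¹ hρ1 hρ3 (inv_ne_one.2 hρ1) (by rw [inv_pow, hρ3, inv_one])
  obtain ⟨x, rfl⟩ := hs b
  have hφ3 : orderOf (φ ρ') = 3 := orderOf_eq_prime hρ3 hρ1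
  let T' : Subgroup (Subgroup.centralizer ({z} : Set G)) := (Subgroup.zpowers (φ ρ')).comap φ
  have hT' : Nat.card T' = 96 := by
    have h1 := SubgroupTools.card_map_mul_card_inf_ker φ T'
    have h2 : T' ⊓ φ.ker = Q.subgroupOf (Subgroup.centralizer ({z} : Set G)) := by
      ext y
      rw [Subgroup.mem_inf, MonoidHom.mem_ker, hk, Subgroup.mem_subgroupOf]
      constructor
      · rintro ⟨_, h⟩; exact h
      · intro h4
        refine ⟨?_, h4⟩
        show φ y ∈ Subgroup.zpowers (φ ρ')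
        rw [(hk y).2 h4]; exact one_mem _
    rw [h2, SubgroupTools.card_subgroupOf_of_le h.Q_le, h.card, Subgroup.map_comap_eq_self_of_surjective hs,
      Nat.card_zpowers, hφ3] at h1
    omega
  have hρT : ρ' ∈ T' := Subgroup.mem_zpowers (φ ρ')
  have hxT : x * ρ' * x⁻¹ ∈ T' := by
    show φ (x * ρ' * x⁻¹) ∈ Subgroup.zpowers (φ ρ')
    rw [map_mul, map_mul, map_inv, hb]
    exact inv_mem (Subgroup.mem_zpowers _)
  have hρo : orderOf ρ' = 3 := by rw [← h3, ← Subgroup.orderOf_coe]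
  obtain ⟨t, ht, ht2⟩ := sylow_conj (p := 3) T' (by rw [hT']; norm_num) hρT hxT hρo (by rw [ord_conj, hρo])
  have ht : φ t ∈ Subgroup.zpowers (φ ρ') := ht
  have h5 : φ (t * (x * ρ' * x⁻¹) * t⁻¹) = (φ ρ')⁻¹ := by
    rw [map_mul, map_mul, map_inv, map_mul, map_mul, map_inv, hb]
    obtain ⟨i, hi⟩ := ht
    have hi : φ ρ' ^ i = φ t := hi
    rw [← hi]; group
  rcases mem_zpowers_three (by rw [← hρo]; exact pow_orderOf_eq_one _) ht2 with h6 | h6 | h6
  · rw [h6, map_one] at h5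
    exact absurd h5.symm (inv_ne_one.2 hρ1)
  · rw [h6] at h5
    exfalso
    apply hρ1
    have h7 : φ ρ' * φ ρ' = 1 := by nth_rewrite 2 [h5]; rw [mul_inv_cancel]
    rw [pow_succ, pow_two, h7, one_mul] at hρ3
    exact hρ3
  · refine ⟨(t * x : Subgroup.centralizer ({z} : Set G)), mem_centralizer_one.1 (t * x).2, ?_⟩
    have h7 := congrArg Subtype.val h6
    simp only [Subgroup.coe_mul, Subgroup.coe_inv] at h7 ⊢
    rw [cj_cj]
    exact h7

theorem three_conj (h : Base z Q) {ρ' : G} (hρ : ρ * z = z * ρ) (h3 : orderOf ρ = 3) (hρ' : ρ' * z = z * ρ')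
    (h3' : orderOf ρ' = 3) : ∃ c : G, c * z = z * c ∧ c * ρ * c⁻¹ = ρ' := by
  have : Fact (Nat.Prime 3) := ⟨by norm_num⟩
  obtain ⟨t, ht, ht2⟩ := sylow_conj (p := 3) (Subgroup.centralizer ({z} : Set G)) (by rw [h.card_cent]; norm_num)
    (mem_centralizer_one.2 hρ') (mem_centralizer_one.2 hρ) h3' h3
  have ht := mem_centralizer_one.1 ht
  rcases mem_zpowers_three (pow3 h3') ht2 with h6 | h6 | h6
  · exact absurd (cj_eq_one.1 h6) (ne_one3 h3)
  · exact ⟨t, ht, h6⟩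
  · obtain ⟨c, hc, hc2⟩ := h.three_inverted hρ' h3'
    refine ⟨c * t, ?_, ?_⟩
    · rw [mul_assoc, ht, ← mul_assoc, hc, mul_assoc]
    · rw [cj_cj, h6, ← _root_.conj_inv, hc2, inv_inv]

/-- The subgroup `C_Q(ρ)` is dihedral of order 8. -/
theorem three_dih (h : Base z Q) {v : G} (hv : v ∈ Q) (hv2 : v * v = 1) (hv1 : v ≠ 1) (hvz : v ≠ z)
    (hρ : ρ * z = z * ρ) (h3 : orderOf ρ = 3) :
    Nat.card ↥(Q ⊓ Subgroup.centralizer ({ρ} : Set G)) = 8 ∧
      Nonempty (↥(Q ⊓ Subgroup.centralizer ({ρ} : Set G)) ≃* DihedralGroup 4) := by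
  obtain ⟨w, hw, hw2, hw1, hwz, hρw⟩ := h.three_inv hv hv2 hv1 hvz hρ h3
  obtain ⟨-, ⟨q, hq, hqw, hρq⟩, h8⟩ := h.three_fix hw hw2 hw1 hwz hρ hρw h3
  refine ⟨h8, ?_⟩
  let q' : ↥(Q ⊓ Subgroup.centralizer ({ρ} : Set G)) := ⟨q, hq, mem_centralizer_one.2 hρq.symm⟩
  let w' : ↥(Q ⊓ Subgroup.centralizer ({ρ} : Set G)) := ⟨w, hw, mem_centralizer_one.2 hρw.symm⟩
  let z' : ↥(Q ⊓ Subgroup.centralizer ({ρ} : Set G)) := ⟨z, h.pre.mem, mem_centralizer_one.2 hρ.symm⟩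
  rcases S3T64.order_eight h8 ⟨q', w', fun h1 => hqw (congrArg Subtype.val h1)⟩ with h1 | ⟨⟨e⟩⟩
  · exact h1
  · exfalso
    have key : ∀ a b : QuaternionGroup 2, a * a = 1 → b * b = 1 → a ≠ 1 → b ≠ 1 → a = b := by decide
    have h2 := key (e w') (e z') (by rw [← map_mul, EmbeddingLike.map_eq_one_iff]; exact Subtype.ext hw2)
      (by rw [← map_mul, EmbeddingLike.map_eq_one_iff]; exact Subtype.ext h.pre.sq)
      (by rw [Ne, EmbeddingLike.map_eq_one_iff]; exact fun h => hw1 (congrArg Subtype.val h))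
      (by rw [Ne, EmbeddingLike.map_eq_one_iff]; exact fun h' => h.pre.ne (congrArg Subtype.val h'))
    exact hwz (congrArg Subtype.val (e.injective h2))

end Base

end Cfsg.Agent.Lib.JTw
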