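import Cfsg.Agent.Lib.JTw15
import Cfsg.Agent.S3035
import Cfsg.Agent.Lib.AltSix
import Cfsg.Agent.Lib.ClSLn
import Mathlib

/-!
# Groups of Hall–Janko type: the centralizer of the central elements of order 3
-/

set_option autoImplicit false

universe u

namespace Cfsg.Agent.Lib.JTw

open Cfsg Cfsg.Agent.Lib Cfsg.Agent.Lib.LargeExtra Setup

theorem exists_quot {H : Type u} [Group H] [Finite H] {c : H} (hc : ∀ h : H, h * c = c * h) :
    ∃ (L : Type u) (_ : Group L) (_ : Finite L) (π : H →* L), Function.Surjective π ∧ ∀ h, π h = 1 ↔ h ∈ Subgroup.zpowers c := by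
  have hn : (Subgroup.zpowers c).Normal := by
    constructor
    rintro n ⟨i, hi⟩ g
    have hi : c ^ i = n := hi
    refine ⟨i, ?_⟩
    show c ^ i = g * n * g⁻¹
    rw [← hi, (Commute.zpow_right (hc g) i).eq, mul_inv_cancel_right]
  refine ⟨H ⧸ Subgroup.zpowers c, inferInstance, inferInstance, QuotientGroup.mk' _, QuotientGroup.mk'_surjective _, ?_⟩
  intro h
  show (QuotientGroup.mk h : H ⧸ Subgroup.zpowers c) = 1 ↔ _
  rw [QuotientGroup.eq_one_iff]

section gen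

variable {G : Type*} [Group G] [Finite G]

/-- a criterion: Sylow 3-subgroups of `T` have order 3. -/
theorem three_closed (T : Subgroup G) (hT : ¬ 9 ∣ Nat.card T) {x g : G} (hxT : x ∈ T) (hgT : g ∈ T) (hx : orderOf x = 3)
    (hgx : g * x = x * g) (hg : g ^ 3 ∈ Subgroup.zpowers x) : g ∈ Subgroup.zpowers x := by
  have : Fact (Nat.Prime 3) := ⟨by norm_num⟩
  have h1 : g ^ 9 = 1 := by
    obtain ⟨i, hi⟩ := hg
    have hi : x ^ i = g ^ 3 := hi
    calc g ^ 9 = (g ^ 3) ^ 3 := by rw [← pow_mul]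
      _ = 1 := by rw [← hi, ← zpow_natCast, ← zpow_mul, mul_comm, zpow_mul, zpow_natCast, pow3 hx, one_zpow]
  have h2 : IsPGroup 3 (Subgroup.zpowers g) := by
    obtain ⟨n, _, hn⟩ := (Nat.dvd_prime_pow (by norm_num : Nat.Prime 3)).1
      (show orderOf g ∣ 3 ^ 2 from orderOf_dvd_of_pow_eq_one (by simpa using h1))
    exact IsPGroup.of_card (n := n) (by rw [Nat.card_zpowers, hn])
  have h3 : IsPGroup 3 (Subgroup.zpowers x) := IsPGroup.of_card (n := 1) (by rw [Nat.card_zpowers, hx, pow_one])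
  have h4 : Subgroup.zpowers g ≤ Subgroup.normalizer ((Subgroup.zpowers x : Subgroup G) : Set G) := by
    rw [Subgroup.zpowers_le]
    apply Subgroup.mem_normalizer_fintype
    rintro _ ⟨n, rfl⟩
    have h3 : g * x ^ n = x ^ n * g := (Commute.zpow_right hgx n)
    show g * x ^ n * g⁻¹ ∈ _
    rw [h3, mul_inv_cancel_right]
    exact ⟨n, rfl⟩
  have h5 : IsPGroup 3 (Subgroup.zpowers x ⊔ Subgroup.zpowers g : Subgroup G) := by
    obtain ⟨a, ha⟩ := IsPGroup.iff_card.1 h2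
    obtain ⟨b, hb⟩ := IsPGroup.iff_card.1 h3
    have h6 := SubgroupTools.card_sup_mul_card_inf h4
    have h7 : Nat.card ↥(Subgroup.zpowers x ⊔ Subgroup.zpowers g : Subgroup G) ∣ 3 ^ (b + a) := by
      rw [pow_add, ← ha, ← hb, ← h6]; exact dvd_mul_right _ _
    obtain ⟨n, _, hn⟩ := (Nat.dvd_prime_pow (by norm_num : Nat.Prime 3)).1 h7
    exact IsPGroup.of_card hn
  obtain ⟨n, hn⟩ := IsPGroup.iff_card.1 h5
  have h6 : Subgroup.zpowers x ⊔ Subgroup.zpowers g ≤ T := sup_le (Subgroup.zpowers_le.2 hxT) (Subgroup.zpowers_le.2 hgT)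
  have h7 := Subgroup.card_dvd_of_le h6
  rw [hn] at h7
  have h8 : n ≤ 1 := by
    by_contra h
    apply hT
    refine dvd_trans ?_ h7
    have : (9 : ℕ) = 3 ^ 2 := by norm_num
    rw [this]; exact pow_dvd_pow 3 (by omega)
  have h9 : Subgroup.zpowers x = Subgroup.zpowers x ⊔ Subgroup.zpowers g := by
    apply Subgroup.eq_of_le_of_card_ge le_sup_left
    rw [hn, Nat.card_zpowers, hx]
    calc 3 ^ n ≤ 3 ^ 1 := Nat.pow_le_pow_right (by norm_num) h8
      _ = 3 := by norm_num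
  rw [h9]
  exact Subgroup.mem_sup_right (Subgroup.mem_zpowers g)

end gen

section

variable {G : Type*} [Group G] [Finite G] {S : Setup G} {u w t : G} {K : Subgroup G}

theorem Z_exists_four (S : Setup G) {u : G} (hu : S.Z u) : ∃ w, S.Four u w := by
  obtain ⟨g, hg⟩ := isConj_iff.1 hu
  have h1 := S.exists_four.conj g
  rw [hg] at h1
  exact ⟨_, h1⟩

theorem KK.hcl (k : KK S u w t K) : ∃ x y : G, orderOf x = 2 ∧ orderOf y = 2 ∧ ¬ IsConj x y :=
  ⟨u, t, InvAct.orderOf_two_iff.2 ⟨k.f.hu2, k.f.hu1⟩, k.toTS.t_ord, fun h => k.hZ (k.f.hu.trans h)⟩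

/-- The centralizer of an involution has Sylow 3-subgroups of order 3. -/
theorem KK.nine (k : KK S u w t K) {h : G} (h2 : h * h = 1) (h1 : h ≠ 1) :
    ¬ 9 ∣ Nat.card (Subgroup.centralizer ({h} : Set G)) := by
  rcases k.f.inv_type k.ht h2 h1 with h | h
  · rw [h.base.card_cent]; norm_num
  · rw [← InvLocal.card_centralizer_eq_of_isConj h, k.card_Ct]; norm_num

/-- In `C(x)/⟨x⟩`, involutions do not centralize elements of order 3. -/
theorem KK.no63 (k : KK S u w t K) {x : G} (hx : orderOf x = 3) {L : Type*} [Group L]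
    {π : ↥(Subgroup.centralizer ({x} : Set G)) →* L} (hπs : Function.Surjective π)
    (hπ : ∀ c, π c = 1 ↔ (c : G) ∈ Subgroup.zpowers x) {s g : L} (hs2 : s * s = 1) (hs1 : s ≠ 1)
    (hg : g ^ 3 = 1) (hgs : g * s = s * g) : g = 1 := by
  let c0 : ↥(Subgroup.centralizer ({x} : Set G)) := ⟨x, mem_centralizer_one.2 rfl⟩
  have hc0 : ∀ h : ↥(Subgroup.centralizer ({x} : Set G)), h * c0 = c0 * h := fun h =>
    Subtype.ext (mem_centralizer_one.1 h.2)
  have ho : orderOf c0 = 3 := by rw [← Subgroup.orderOf_coe]; exact hx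
  have hodd : Odd (orderOf c0) := by rw [ho]; decide
  have hπ' : ∀ h, π h = 1 ↔ h ∈ Subgroup.zpowers c0 := by
    intro h
    rw [hπ]
    constructor
    · rintro ⟨i, hi⟩; exact ⟨i, Subtype.ext hi⟩
    · rintro ⟨i, hi⟩; exact ⟨i, congrArg Subtype.val hi⟩
  obtain ⟨h, hh2, hh1, rfl⟩ := cq_lift hodd hπs hπ' hs2 hs1
  obtain ⟨g, rfl⟩ := hπs g
  have h1 := cq_comm hc0 hodd hπ' hh2 hgs
  rw [← map_pow, hπ] at hg
  rw [hπ]
  exact three_closed (Subgroup.centralizer ({(h : G)} : Set G)) (k.nine (congrArg Subtype.val hh2) (fun h => hh1 (Subtype.ext h)))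
    (mem_centralizer_one.2 (mem_centralizer_one.1 h.2).symm) (mem_centralizer_one.2 (congrArg Subtype.val h1)) hx
    (mem_centralizer_one.1 g.2) hg

/-- elements of order 3 centralizing a `z`-type involution. -/
structure Z3 (S : Setup G) (ρ : G) : Prop where
  ord : orderOf ρ = 3
  ex : ∃ u, S.Z u ∧ ρ * u = u * ρ

namespace Z3

variable {ρ ρ' : G}

theorem conj_all (h : Z3 S ρ) (h' : Z3 S ρ') : ∃ g, g * ρ * g⁻¹ = ρ' := by
  obtain ⟨u, hu, hρ⟩ := h.ex
  obtain ⟨u', hu', hρ'⟩ := h'.ex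
  obtain ⟨g, hg⟩ := isConj_iff.1 (hu.symm.trans hu')
  obtain ⟨c, hc, hc2⟩ := hu'.base.three_conj (ρ := g * ρ * g⁻¹) (by rw [← hg, ← cj_mul, ← cj_mul, hρ])
    (by rw [ord_conj, h.ord]) hρ' h'.ord
  exact ⟨c * g, by rw [cj_cj]; exact hc2⟩

theorem inverted (h : Z3 S ρ) : ∃ g, g * ρ * g⁻¹ = ρ⁻¹ := by
  obtain ⟨u, hu, hρ⟩ := h.ex
  obtain ⟨c, hc, hc2⟩ := hu.base.three_inverted hρ h.ord
  exact ⟨c, hc2⟩

theorem conj (h : Z3 S ρ) (g : G) : Z3 S (g * ρ * g⁻¹) := by
  obtain ⟨u, hu, hρ⟩ := h.ex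
  exact ⟨by rw [ord_conj, h.ord], g * u * g⁻¹, S.Z_conj hu g, by rw [← cj_mul, ← cj_mul, hρ]⟩

end Z3

/-- the image of `C(u)` in `C(ρ)/⟨ρ⟩`. -/
theorem cent_equiv {ρ u : G} (hu : S.Z u) (hρ : ρ * u = u * ρ) (h3 : orderOf ρ = 3) {L : Type*} [Group L]
    {π : ↥(Subgroup.centralizer ({ρ} : Set G)) →* L} (hπs : Function.Surjective π)
    (hπ : ∀ c, π c = 1 ↔ (c : G) ∈ Subgroup.zpowers ρ) :
    Nonempty (↥(Subgroup.centralizer ({π ⟨u, mem_centralizer_one.2 hρ.symm⟩} : Set L)) ≃* DihedralGroup 4) := by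
  let c0 : ↥(Subgroup.centralizer ({ρ} : Set G)) := ⟨ρ, mem_centralizer_one.2 rfl⟩
  have hc0 : ∀ h : ↥(Subgroup.centralizer ({ρ} : Set G)), h * c0 = c0 * h := fun h =>
    Subtype.ext (mem_centralizer_one.1 h.2)
  have ho : orderOf c0 = 3 := by rw [← Subgroup.orderOf_coe]; exact h3
  have hodd : Odd (orderOf c0) := by rw [ho]; decide
  have hπ' : ∀ h, π h = 1 ↔ h ∈ Subgroup.zpowers c0 := by
    intro h
    rw [hπ]
    constructor
    · rintro ⟨i, hi⟩; exact ⟨i, Subtype.ext hi⟩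
    · rintro ⟨i, hi⟩; exact ⟨i, congrArg Subtype.val hi⟩
  obtain ⟨w, f⟩ := Z_exists_four S hu
  have hb := hu.base
  obtain ⟨h8, ⟨e⟩⟩ := hb.three_dih f.hmem f.hw2 f.hw1 f.hwu hρ h3
  let u0 : ↥(Subgroup.centralizer ({ρ} : Set G)) := ⟨u, mem_centralizer_one.2 hρ.symm⟩
  have hu0 : u0 * u0 = 1 := Subtype.ext f.hu2
  let D0 : Subgroup G := S.q u ⊓ Subgroup.centralizer ({ρ} : Set G)
  let F : D0 →* L := π.comp (Subgroup.inclusion inf_le_right)
  have hF : Function.Injective F := by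
    rw [injective_iff_map_eq_one]
    intro d hd
    have h1 : (d : G) ∈ Subgroup.zpowers ρ := (hπ _).1 hd
    exact Subtype.ext (hb.three_coprime h3 h1 d.2.1)
  have hr : F.range = Subgroup.centralizer ({π u0} : Set L) := by
    apply le_antisymm
    · rintro _ ⟨d, rfl⟩
      rw [mem_centralizer_one]
      show π (Subgroup.inclusion inf_le_right d) * π u0 = π u0 * π (Subgroup.inclusion inf_le_right d)
      rw [← map_mul, ← map_mul]
      congr 1
      exact Subtype.ext (hb.pre.cen d d.2.1)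
    · intro a ha
      rw [mem_centralizer_one] at ha
      obtain ⟨c, rfl⟩ := hπs a
      have h1 := cq_comm hc0 hodd hπ' hu0 ha
      obtain ⟨r, hr, q, hq, hρq, hc⟩ := hb.three_cent hρ h3 (congrArg Subtype.val h1) (mem_centralizer_one.1 c.2)
      have hqC : q ∈ Subgroup.centralizer ({ρ} : Set G) := mem_centralizer_one.2 hρq.symm
      have hrC : r ∈ Subgroup.centralizer ({ρ} : Set G) := (Subgroup.zpowers_le.2 (mem_centralizer_one.2 rfl)) hr
      refine ⟨⟨q, hq, hqC⟩, ?_⟩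
      show π ⟨q, hqC⟩ = π c
      have h2 : c = ⟨r, hrC⟩ * ⟨q, hqC⟩ := Subtype.ext hc
      rw [h2, map_mul, (hπ ⟨r, hrC⟩).2 hr, one_mul]
  exact ⟨((MulEquiv.subgroupCongr hr).symm.trans (MonoidHom.ofInjective hF).symm).trans e⟩

end

/-- A 3-element `ω` centralizing `K`. -/
structure Om {G : Type*} [Group G] [Finite G] (S : Setup G) (u w t : G) (K : Subgroup G) (ω : G) : Prop extends
    KK S u w t K where
  o3 : orderOf ω = 3
  oW : ω ∈ KK.W K t

theorem KK.exists_om {G : Type*} [Group G] [Finite G] {S : Setup G} {u w t : G} {K : Subgroup G} (k : KK S u w t K) :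
    ∃ ω, Om S u w t K ω := by
  have : Fact (Nat.Prime 3) := ⟨by norm_num⟩
  obtain ⟨x, hx⟩ := exists_prime_orderOf_dvd_card' (G := KK.W K t) 3 (by rw [k.card_W]; norm_num)
  exact ⟨x, k, by rw [Subgroup.orderOf_coe]; exact hx, x.2⟩

namespace Om

variable {G : Type u} [Group G] [Finite G] {S : Setup G} {u w t ω : G} {K : Subgroup G}

open Four TS KK

theorem comm (d : Om S u w t K ω) {x : G} (hx : x ∈ K) : ω * x = x * ω :=
  ((Subgroup.mem_centralizer_iff.1 d.oW.1) x hx).symm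

theorem uK (d : Om S u w t K ω) : u ∈ K := d.V_le (d.f.mem_V.2 (by tauto))

theorem z3 (d : Om S u w t K ω) : Z3 S ω := ⟨d.o3, u, d.f.hu, d.comm d.uK⟩

theorem K_le (d : Om S u w t K ω) : K ≤ Subgroup.centralizer ({ω} : Set G) := fun _ hx =>
  mem_centralizer_one.2 (d.comm hx).symm

theorem s5_no : ∃ s g : Equiv.Perm (Fin 5), s * s = 1 ∧ s ≠ 1 ∧ g ^ 3 = 1 ∧ g * s = s * g ∧ g ≠ 1 :=
  ⟨c[0, 1], c[2, 3, 4], by decide, by decide, by decide, by decide, by decide⟩

theorem exists_hom (d : Om S u w t K ω) : ∃ φ : Subgroup.centralizer ({ω} : Set G) →* alternatingGroup (Fin 6),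
    Function.Surjective φ ∧ ∀ c, φ c = 1 ↔ (c : G) ∈ Subgroup.zpowers ω := by
  let c0 : ↥(Subgroup.centralizer ({ω} : Set G)) := ⟨ω, mem_centralizer_one.2 rfl⟩
  have hc0 : ∀ h : ↥(Subgroup.centralizer ({ω} : Set G)), h * c0 = c0 * h := fun h =>
    Subtype.ext (mem_centralizer_one.1 h.2)
  have ho : orderOf c0 = 3 := by rw [← Subgroup.orderOf_coe]; exact d.o3
  have hodd : Odd (orderOf c0) := by rw [ho]; decide
  obtain ⟨L, _, _, π, hπs, hπ'⟩ := exists_quot hc0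
  have hπ : ∀ h, π h = 1 ↔ (h : G) ∈ Subgroup.zpowers ω := by
    intro h
    rw [hπ']
    constructor
    · rintro ⟨i, hi⟩; exact ⟨i, congrArg Subtype.val hi⟩
    · rintro ⟨i, hi⟩; exact ⟨i, Subtype.ext hi⟩
  have hωu := d.comm d.uK
  have e1 := cent_equiv d.f.hu hωu d.o3 hπs hπ
  let u0 : ↥(Subgroup.centralizer ({ω} : Set G)) := ⟨u, mem_centralizer_one.2 hωu.symm⟩
  have hu02 : π u0 * π u0 = 1 := by
    rw [← map_mul]
    have : u0 * u0 = 1 := Subtype.ext d.f.hu2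
    rw [this, map_one]
  have hinj : ∀ x (hx : x ∈ K), π ⟨x, d.K_le hx⟩ = 1 → x = 1 := by
    intro x hx h
    rw [hπ] at h
    obtain ⟨i, hi⟩ := h
    have hi : ω ^ i = x := hi
    apply d.K_center hx
    intro y hy
    rw [← hi]
    exact (Commute.zpow_right (show Commute y ω from (d.comm hy).symm) i).eq
  have hu01 : π u0 ≠ 1 := fun h => d.f.hu1 (hinj u d.uK h)
  have h60 : 60 ∣ Nat.card L := by
    rw [← d.card_K]
    apply Subgroup.card_dvd_of_injective (π.comp (Subgroup.inclusion d.K_le))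
    rw [injective_iff_map_eq_one]
    intro x hx
    exact Subtype.ext (hinj x x.2 hx)
  rcases S3035.result (π u0) (InvAct.orderOf_two_iff.2 ⟨hu02, hu01⟩) e1 with h | ⟨⟨e⟩⟩ | ⟨⟨e⟩⟩ | ⟨⟨e⟩⟩ | ⟨⟨e⟩⟩
  · exfalso
    obtain ⟨σ, hσK, hσD, hσ3, hσu⟩ := d.toKK.exists_sigma
    set w' := σ * u * σ⁻¹ with hw'
    have hw'V : w' ∈ V u w := d.toTS.D_conj_V hσD (d.f.mem_V.2 (by tauto))
    have hw'K : w' ∈ K := d.V_le hw'V
    have hw'u : w' ≠ u := fun h => hσu (mul_inv_eq_iff_eq_mul.1 h)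
    have huV : u ∈ V u w := d.f.mem_V.2 (by tauto)
    have hwu2 : (w' * u) * (w' * u) = 1 := d.f.V_sq (mul_mem hw'V huV)
    have hwu1 : w' * u ≠ 1 := by
      intro h
      apply hw'u
      rw [eq_inv_of_mul_eq_one_left h, inv_eq_iff_mul_eq_one]; exact d.f.hu2
    let σ0 : ↥(Subgroup.centralizer ({ω} : Set G)) := ⟨σ, d.K_le hσK⟩
    let w0 : ↥(Subgroup.centralizer ({ω} : Set G)) := ⟨w', d.K_le hw'K⟩
    have h1 : π σ0 ∈ Subgroup.centralizer ({π u0} : Set L) ⊔ Cfsg.oddCore L := by rw [h]; trivial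
    rw [Subgroup.mem_sup_of_normal_right] at h1
    obtain ⟨c, hc, o, ho', hco⟩ := h1
    rw [mem_centralizer_one] at hc
    have h2 : π w0 = c * (o * π u0 * o⁻¹) * c⁻¹ := by
      have : w0 = σ0 * u0 * σ0⁻¹ := rfl
      rw [this, map_mul, map_mul, map_inv, ← hco]; group
    have h3 : π w0 * π u0 ∈ Cfsg.oddCore L := by
      have h4 : π w0 * π u0 = c * (o * (π u0 * o⁻¹ * (π u0)⁻¹)) * c⁻¹ := by
        have h5 : (π u0)⁻¹ = π u0 := by rw [inv_eq_iff_mul_eq_one]; exact hu02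
        have h6 : c⁻¹ * π u0 = π u0 * c⁻¹ := inv_comm_iff.2 hc
        rw [h2, h5, mul_assoc _ c⁻¹ (π u0), h6]
        simp only [mul_assoc]
      rw [h4]
      have hn : (Cfsg.oddCore L).Normal := inferInstance
      exact hn.conj_mem _ (mul_mem ho' (hn.conj_mem _ (inv_mem ho') _)) _
    have h4 : orderOf (π w0 * π u0) = 2 := by
      rw [InvAct.orderOf_two_iff, ← map_mul]
      constructor
      · rw [← map_mul]
        have : w0 * u0 * (w0 * u0) = 1 := Subtype.ext hwu2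
        rw [this, map_one]
      · intro h5
        exact hwu1 (hinj _ (mul_mem hw'K d.uK) h5)
    have h5 := Subgroup.orderOf_dvd_natCard _ h3
    rw [h4] at h5
    exact (Nat.Prime.coprime_iff_not_dvd Nat.prime_two).1 (Cores.coprime_card_pPrimeCore 2 L).symm h5
  · exfalso
    rw [Nat.card_congr e.toEquiv, Nat.card_eq_fintype_card, Fintype.card_perm, Fintype.card_fin] at h60
    revert h60; decide
  · exfalso
    obtain ⟨s, g, hs2, hs1, hg, hgs, hg1⟩ := s5_no
    apply hg1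
    have h1 := d.toKK.no63 d.o3 hπs hπ (s := e.symm s) (g := e.symm g)
      (by rw [← map_mul, hs2, map_one]) (by rw [Ne, EmbeddingLike.map_eq_one_iff]; exact hs1)
      (by rw [← map_pow, hg, map_one]) (by rw [← map_mul, ← map_mul, hgs])
    rwa [EmbeddingLike.map_eq_one_iff] at h1
  · exfalso
    have h168 : Nat.card (Matrix.SpecialLinearGroup (Fin 3) (ZMod 2)) = 168 := by
      have h := ClSLn.card_SL_formula (F := ZMod 2) (q := 2) (ZMod.card 2) 3 (by norm_num)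
      simp [Finset.prod_range_succ, -Nat.card_eq_fintype_card] at h
      omega
    rw [Nat.card_congr e.toEquiv, h168] at h60
    revert h60; decide
  · refine ⟨e.toMonoidHom.comp π, e.surjective.comp hπs, ?_⟩
    intro c
    rw [← hπ]
    show e (π c) = 1 ↔ _
    rw [EmbeddingLike.map_eq_one_iff]

end Om

end Cfsg.Agent.Lib.JTw
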