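import Cfsg.Agent.Lib.JTw16
import Cfsg.Agent.S3277
import Mathlib

/-!
# Groups of Hall–Janko type: the noncentral elements of order 3
-/

set_option autoImplicit false

universe u

namespace Cfsg.Agent.Lib.JTw

open Cfsg Cfsg.Agent.Lib Cfsg.Agent.Lib.LargeExtra Setup

/-- An element `σ` of order 3 of `K`. -/
structure P3 {G : Type*} [Group G] [Finite G] (S : Setup G) (u w t : G) (K : Subgroup G) (σ : G) : Prop extends
    KK S u w t K where
  s3 : orderOf σ = 3
  sK : σ ∈ K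

/-- elements of order 3 centralizing an involution not of `z`-type -/
def T3 {G : Type*} [Group G] [Finite G] (S : Setup G) (σ : G) : Prop := ∃ u w t K, P3 S u w t K σ

theorem KK.p3_of {G : Type*} [Group G] [Finite G] {S : Setup G} {u w t : G} {K : Subgroup G} (k : KK S u w t K)
    {c σ : G} (hc2 : c * c = 1) (hc1 : c ≠ 1) (hcZ : ¬ S.Z c) (hcσ : σ * c = c * σ) (hσ : orderOf σ = 3) :
    ∃ (u' w' : G) (K' : Subgroup G), P3 S u' w' c K' σ := by
  obtain ⟨u', w', K', k'⟩ := exists_KK_of S k.hcl (InvAct.orderOf_two_iff.2 ⟨hc2, hc1⟩) hcZ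
  exact ⟨u', w', K', k', hσ, k'.three σ hcσ (pow3 hσ)⟩

namespace P3

variable {G : Type*} [Group G] [Finite G] {S : Setup G} {u w t σ : G} {K : Subgroup G}

open Four TS KK

theorem cent (d : P3 S u w t K σ) {c : G} (hcσ : c * σ = σ * c) (hct : c * t = t * c) :
    ∃ y ∈ Y K t, ∃ r ∈ Subgroup.zpowers σ, c = y * r := by
  obtain ⟨e⟩ := d.main.2.2
  obtain ⟨y, hy, r, hr, rfl⟩ := d.exists_mul hct
  refine ⟨y, hy, r, ?_, rfl⟩
  have h2 := (mem_Y.1 hy).1 σ d.sK
  have h3 : r * σ = σ * r := by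
    rw [mul_assoc, ← mul_assoc σ y r, h2, mul_assoc] at hcσ
    exact mul_left_cancel hcσ
  have hs1 : (⟨σ, d.sK⟩ : K) ≠ 1 := fun h => ne_one3 d.s3 (congrArg Subtype.val h)
  have hs3 : (⟨σ, d.sK⟩ : K) ^ 3 = 1 := Subtype.ext (pow3 d.s3)
  have h4 := a5_cent3 (e ⟨σ, d.sK⟩) (by rwa [ne_eq, EmbeddingLike.map_eq_one_iff]) (by rw [← map_pow, hs3, map_one])
    (e ⟨r, hr⟩) (by rw [← map_mul, ← map_mul]; congr 1; exact Subtype.ext h3)
  rcases h4 with h4 | h4 | h4
  · rw [EmbeddingLike.map_eq_one_iff] at h4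
    rw [show r = 1 from congrArg Subtype.val h4]; exact one_mem _
  · rw [show r = σ from congrArg Subtype.val (e.injective h4)]; exact Subgroup.mem_zpowers _
  · rw [← map_pow] at h4
    rw [show r = σ ^ 2 from congrArg Subtype.val (e.injective h4)]; exact Subgroup.npow_mem_zpowers _ _

theorem conj_all {u' w' t' σ' : G} {K' : Subgroup G} (d : P3 S u w t K σ) (d' : P3 S u' w' t' K' σ') :
    ∃ g, g * σ * g⁻¹ = σ' := by
  have h1 : IsConj t t' := by
    rcases d.f.inv_type d.ht d'.toTS.t_sq d'.toTS.t_ne with h | h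
    · exact absurd h d'.hZ
    · exact h
  obtain ⟨g, hg⟩ := isConj_iff.1 h1
  have hx3 : (g * σ * g⁻¹) ^ 3 = 1 := by rw [_root_.conj_pow, pow3 d.s3]; group
  have hx : g * σ * g⁻¹ ∈ K' := by
    apply d'.three
    · rw [← hg, ← cj_mul, ← cj_mul, d.comm_t d.sK]
    · exact hx3
  obtain ⟨e⟩ := d'.main.2.2
  have hne : ∀ s : K', (s : G) ≠ 1 → e s ≠ 1 := by
    intro s hs h
    rw [EmbeddingLike.map_eq_one_iff] at h
    exact hs (congrArg Subtype.val h)
  have hp : ∀ s : K', (s : G) ^ 3 = 1 → e s ^ 3 = 1 := by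
    intro s hs
    rw [← map_pow, EmbeddingLike.map_eq_one_iff]
    exact Subtype.ext hs
  obtain ⟨c, hc⟩ := a5_conj3 (e ⟨_, hx⟩) (e ⟨σ', d'.sK⟩) (hne _ (fun h => ne_one3 d.s3 (cj_eq_one.1 h)))
    (hp _ hx3) (hne _ (ne_one3 d'.s3)) (hp _ (pow3 d'.s3))
  obtain ⟨s, rfl⟩ := e.surjective c
  refine ⟨s * g, ?_⟩
  rw [← map_mul, ← map_inv, ← map_mul] at hc
  rw [cj_cj]
  exact congrArg Subtype.val (e.injective hc)

end P3

namespace T3

variable {G : Type*} [Group G] [Finite G] {S : Setup G} {σ σ' : G}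

theorem conj_all (h : T3 S σ) (h' : T3 S σ') : ∃ g, g * σ * g⁻¹ = σ' := by
  obtain ⟨u, w, t, K, d⟩ := h
  obtain ⟨u', w', t', K', d'⟩ := h'
  exact d.conj_all d'

theorem ord (h : T3 S σ) : orderOf σ = 3 := by
  obtain ⟨u, w, t, K, d⟩ := h
  exact d.s3

theorem conj (h : T3 S σ) (g : G) : T3 S (g * σ * g⁻¹) := by
  obtain ⟨u, w, t, K, d⟩ := h
  obtain ⟨u', w', K', d'⟩ := d.toKK.p3_of (c := g * t * g⁻¹) (σ := g * σ * g⁻¹) (by rw [cj_sq, d.toTS.t_sq]; group)
    (fun h => d.toTS.t_ne (cj_eq_one.1 h))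
    (fun h => d.hZ (h.trans (isConj_iff.2 ⟨g⁻¹, by group⟩)))
    (by rw [← cj_mul, ← cj_mul, d.comm_t d.sK]) (by rw [ord_conj, d.s3])
  exact ⟨_, _, _, _, d'⟩

theorem inv (h : T3 S σ) : T3 S σ⁻¹ := by
  obtain ⟨u, w, t, K, d⟩ := h
  exact ⟨u, w, t, K, d.toKK, by rw [orderOf_inv, d.s3], inv_mem d.sK⟩

end T3

theorem two_pow_mod (n : ℕ) : (2 ^ n) % 3 = 1 ∨ (2 ^ n) % 3 = 2 := by
  induction n with
  | zero => left; norm_num
  | succ n ih => rw [pow_succ]; omega

namespace P3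

variable {G : Type u} [Group G] [Finite G] {S : Setup G} {u w t σ : G} {K : Subgroup G}

open Four TS KK

theorem not27 (d : P3 S u w t K σ) : ¬ 27 ∣ Nat.card (Subgroup.centralizer ({σ} : Set G)) := by
  intro h27
  have : Fact (Nat.Prime 3) := ⟨by norm_num⟩
  let c0 : ↥(Subgroup.centralizer ({σ} : Set G)) := ⟨σ, mem_centralizer_one.2 rfl⟩
  have hc0 : ∀ h : ↥(Subgroup.centralizer ({σ} : Set G)), h * c0 = c0 * h := fun h =>
    Subtype.ext (mem_centralizer_one.1 h.2)
  have ho : orderOf c0 = 3 := by rw [← Subgroup.orderOf_coe]; exact d.s3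
  have hodd : Odd (orderOf c0) := by rw [ho]; decide
  obtain ⟨L, _, _, π, hπs, hπ'⟩ := exists_quot hc0
  have hπ : ∀ h, π h = 1 ↔ (h : G) ∈ Subgroup.zpowers σ := by
    intro h
    rw [hπ']
    constructor
    · rintro ⟨i, hi⟩; exact ⟨i, congrArg Subtype.val hi⟩
    · rintro ⟨i, hi⟩; exact ⟨i, Subtype.ext hi⟩
  have h9 : 9 ∣ Nat.card L := by
    have h1 := cq_card hπs hc0 hodd hπ' (s := 1) (by simp)
    have h2 : Subgroup.centralizer ({(1 : ↥(Subgroup.centralizer ({σ} : Set G)))} : Set _) = ⊤ := by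
      rw [eq_top_iff]; intro x _; rw [mem_centralizer_one]; simp
    have h3 : Subgroup.centralizer ({π 1} : Set L) = ⊤ := by
      rw [eq_top_iff]; intro x _; rw [mem_centralizer_one]; simp
    rw [h2, h3, Subgroup.card_top, Subgroup.card_top, ho] at h1
    rw [h1] at h27
    have : 9 * 3 ∣ Nat.card L * 3 := by simpa using h27
    exact Nat.dvd_of_mul_dvd_mul_right (by norm_num) this
  have hσt := d.comm_t d.sK
  let t0 : ↥(Subgroup.centralizer ({σ} : Set G)) := ⟨t, mem_centralizer_one.2 hσt.symm⟩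
  have ht0 : t0 * t0 = 1 := Subtype.ext d.toTS.t_sq
  have ht02 : π t0 * π t0 = 1 := by rw [← map_mul, ht0, map_one]
  have hYle : Y K t ≤ Subgroup.centralizer ({σ} : Set G) := fun y hy =>
    mem_centralizer_one.2 ((mem_Y.1 hy).1 σ d.sK).symm
  let F : ↥(Y K t) →* L := π.comp (Subgroup.inclusion hYle)
  have hFi : Function.Injective F := by
    rw [injective_iff_map_eq_one]
    intro y hy
    have h1 : (y : G) ∈ Subgroup.zpowers σ := (hπ _).1 hy
    exact Subtype.ext (d.Y_inf y.2 ((Subgroup.zpowers_le.2 d.sK) h1))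
  have hr : F.range = Subgroup.centralizer ({π t0} : Set L) := by
    apply le_antisymm
    · rintro _ ⟨y, rfl⟩
      rw [mem_centralizer_one]
      show π (Subgroup.inclusion hYle y) * π t0 = π t0 * π (Subgroup.inclusion hYle y)
      rw [← map_mul, ← map_mul]
      congr 1
      exact Subtype.ext (mem_Y.1 y.2).2
    · intro a ha
      rw [mem_centralizer_one] at ha
      obtain ⟨c, rfl⟩ := hπs a
      have h1 := cq_comm hc0 hodd hπ' ht0 ha
      obtain ⟨y, hy, r, hr, hc⟩ := d.cent (mem_centralizer_one.1 c.2) (congrArg Subtype.val h1)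
      have hrC : r ∈ Subgroup.centralizer ({σ} : Set G) := (Subgroup.zpowers_le.2 (mem_centralizer_one.2 rfl)) hr
      refine ⟨⟨y, hy⟩, ?_⟩
      show π ⟨y, hYle hy⟩ = π c
      have h2 : c = ⟨y, hYle hy⟩ * ⟨r, hrC⟩ := Subtype.ext hc
      rw [h2, map_mul, (hπ ⟨r, hrC⟩).2 hr, mul_one]
  have ht01 : π t0 ≠ 1 := by
    intro h
    have : F ⟨t, d.t_mem_Y⟩ = 1 := h
    rw [← map_one F] at this
    exact d.toTS.t_ne (congrArg Subtype.val (hFi this))
  have hC4 : Nat.card (Subgroup.centralizer ({π t0} : Set L)) = 4 := by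
    rw [← hr, ← d.card_Y]
    exact (Nat.card_congr (MonoidHom.ofInjective hFi).toEquiv).symm
  have hCe : ∀ c ∈ Subgroup.centralizer ({π t0} : Set L), c ^ 2 = 1 := by
    intro c hc
    rw [← hr] at hc
    obtain ⟨y, rfl⟩ := hc
    rw [← map_pow, pow_two]
    have : y * y = 1 := Subtype.ext (d.Y_sq y.2)
    rw [this, map_one]
  have hno : ∀ e : L, e * e = 1 → e ≠ 1 → ¬ 3 ∣ Nat.card (Subgroup.centralizer ({e} : Set L)) := by
    intro e he2 he1 h3
    obtain ⟨g, hg⟩ := exists_prime_orderOf_dvd_card' (G := Subgroup.centralizer ({e} : Set L)) 3 h3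
    have hg' : orderOf (g : L) = 3 := by rw [Subgroup.orderOf_coe]; exact hg
    exact ne_one3 hg' (d.toKK.no63 d.s3 hπs hπ he2 he1 (pow3 hg') (mem_centralizer_one.1 g.2))
  obtain ⟨ω, dω⟩ := d.toKK.exists_om
  have hωσ : ω * σ = σ * ω := dω.comm d.sK
  let ω0 : ↥(Subgroup.centralizer ({σ} : Set G)) := ⟨ω, mem_centralizer_one.2 hωσ⟩
  have hω0 : ω0 ^ 3 = 1 := Subtype.ext (pow3 dω.o3)
  have hωt : ω * t ≠ t * ω := by
    intro h
    have h1 := d.Y_sq (d.toKK.W_inf dω.oW h)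
    have h2 : orderOf ω ∣ 2 := orderOf_dvd_of_pow_eq_one (by rw [pow_two]; exact h1)
    rw [dω.o3] at h2
    revert h2; decide
  have hy : ω * t * ω⁻¹ * t⁻¹ ∈ Y K t :=
    mul_mem ((Subgroup.mem_normalizer_iff.1 dω.oW.2 t).1 d.t_mem_Y) (inv_mem d.t_mem_Y)
  obtain ⟨e⟩ := S3277.result (π t0) (InvAct.orderOf_two_iff.2 ⟨ht02, ht01⟩) hC4 hCe (by
    rintro ⟨P, N, hN, hNP⟩
    have : Fact (Nat.Prime 2) := ⟨Nat.prime_two⟩
    have hcard := hNP.card_mul
    have hNodd : ¬ 2 ∣ Nat.card N := by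
      intro h
      apply P.not_dvd_index
      have h1 := (P : Subgroup L).card_mul_index
      rw [← hcard, mul_comm] at h1
      rw [Nat.eq_of_mul_eq_mul_right Nat.card_pos h1]
      exact h
    have hidx : N.index = Nat.card P := by
      have h1 := N.card_mul_index
      rw [← hcard] at h1
      exact Nat.eq_of_mul_eq_mul_left Nat.card_pos h1
    obtain ⟨n, hn⟩ := IsPGroup.iff_card.1 P.2
    have hω1 : π ω0 ∈ N := by
      have h1 := N.pow_index_mem (π ω0)
      rw [hidx, hn] at h1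
      have h2 := two_pow_mod n
      have h3 : π ω0 ^ 3 = 1 := by rw [← map_pow, hω0, map_one]
      have h4 : ∀ m : ℕ, π ω0 ^ m = π ω0 ^ (m % 3) := by
        intro m
        conv_lhs => rw [← Nat.div_add_mod m 3, pow_add, pow_mul, h3, one_pow, one_mul]
      rw [h4] at h1
      rcases h2 with h2 | h2
      · rwa [h2, pow_one] at h1
      · rw [h2] at h1
        have h5 : π ω0 = (π ω0 ^ 2)⁻¹ := by
          rw [eq_inv_iff_mul_eq_one, ← pow_succ', h3]
        rw [h5]; exact inv_mem h1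
    have h5 : F ⟨_, hy⟩ ∈ N := by
      have h6 : F ⟨_, hy⟩ = π ω0 * (π t0 * (π ω0)⁻¹ * (π t0)⁻¹) := by
        have h7 : F ⟨_, hy⟩ = π (ω0 * t0 * ω0⁻¹ * t0⁻¹) := rfl
        rw [h7, map_mul, map_mul, map_mul, map_inv, map_inv]; group
      rw [h6]
      exact mul_mem hω1 (hN.conj_mem _ (inv_mem hω1) _)
    have h6 : orderOf (F ⟨_, hy⟩) = 2 := by
      rw [InvAct.orderOf_two_iff]
      constructor
      · rw [← map_mul]
        have : (⟨_, hy⟩ : Y K t) * ⟨_, hy⟩ = 1 := Subtype.ext (d.Y_sq hy)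
        rw [this, map_one]
      · intro h
        rw [← map_one F] at h
        have h7 : ω * t * ω⁻¹ * t⁻¹ = 1 := congrArg Subtype.val (hFi h)
        apply hωt
        rw [mul_inv_eq_one, mul_inv_eq_iff_eq_mul] at h7
        exact h7
    apply hNodd
    rw [← h6]
    exact Subgroup.orderOf_dvd_natCard _ h5) (by
    intro E hE hEe
    have key : Nat.card E ≤ 4 → 1 < Nat.card E → False := by
      intro h4 h1
      rw [Finite.one_lt_card_iff_nontrivial] at h1
      obtain ⟨e, he⟩ := exists_ne (1 : E)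
      have he1 : (e : L) ≠ 1 := fun h => he (Subtype.ext h)
      have he2 : (e : L) * e = 1 := by rw [← pow_two]; exact hEe.2 e e.2
      have h5 := InvAct.card_conj_orbit (⊤ : Subgroup L) (e : L)
      rw [top_inf_eq, Subgroup.card_top] at h5
      have h6 : {v : L | ∃ k ∈ (⊤ : Subgroup L), k * (e : L) * k⁻¹ = v}.ncard ≤ 3 := by
        have h7 : {v : L | ∃ k ∈ (⊤ : Subgroup L), k * (e : L) * k⁻¹ = v} ⊆ (E : Set L) \ {1} := by
          rintro _ ⟨g, -, rfl⟩
          exact ⟨hE.conj_mem _ e.2 g, fun h => he1 (cj_eq_one.1 h)⟩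
        have h8 := Set.ncard_le_ncard h7 (Set.toFinite _)
        rw [Set.ncard_sdiff_singleton_of_mem (one_mem _), ← card_eq_ncard] at h8
        omega
      rw [h5] at h9
      have h10 := hno _ he2 he1
      have h11 : Nat.Coprime 9 (Nat.card (Subgroup.centralizer ({(e : L)} : Set L))) := by
        have : Nat.Coprime 3 (Nat.card (Subgroup.centralizer ({(e : L)} : Set L))) :=
          (Nat.Prime.coprime_iff_not_dvd (by norm_num)).2 h10
        exact Nat.Coprime.pow_left 2 this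
      have h12 := Nat.Coprime.dvd_of_dvd_mul_right h11 h9
      have h13 : 0 < {v : L | ∃ k ∈ (⊤ : Subgroup L), k * (e : L) * k⁻¹ = v}.ncard := by
        rw [Set.ncard_pos (Set.toFinite _)]
        exact ⟨e, 1, trivial, by simp⟩
      have := Nat.le_of_dvd h13 h12
      omega
    constructor
    · intro h; exact key (by omega) (by omega)
    · intro h; exact key (by omega) (by omega))
  rw [Nat.card_congr e.toEquiv, Base.card_alt5] at h9
  revert h9; decide

end P3

end Cfsg.Agent.Lib.JTw
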