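import Cfsg.Agent.Lib.AltSix
import Mathlib

/-!
# Elements of order 3 and Sylow 3-subgroups of the alternating group of degree 6
-/

set_option autoImplicit false

namespace Cfsg.Agent.Lib.JTwA6

open Equiv Equiv.Perm

def pa : Perm (Fin 6) := swap 0 1 * swap 1 2
def pb : Perm (Fin 6) := swap 3 4 * swap 4 5

def Cond (g : Perm (Fin 6)) : Prop := g * pa = pa * g ∨ g * pa = pa⁻¹ * g ∨ g * pa = pb * g ∨ g * pa = pb⁻¹ * g

instance : DecidablePred Cond := fun g => by unfold Cond; infer_instance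

set_option maxRecDepth 100000 in
theorem card36 : (Finset.univ.filter (fun g : Perm (Fin 6) => sign g = 1 ∧ Cond g)).card = 36 := by decide +kernel

set_option maxRecDepth 100000 in
theorem comm_iff : ∀ g : Perm (Fin 6), sign g = 1 → (g * pa = pa * g ↔ g * pb = pb * g) := by decide +kernel

set_option maxRecDepth 100000 in
theorem cond_of : ∀ g : Perm (Fin 6), (g * pa * g⁻¹) * pa = pa * (g * pa * g⁻¹) → Cond g := by decide +kernel

set_option maxRecDepth 100000 in
theorem card9 : (Finset.univ.filter (fun g : Perm (Fin 6) => sign g = 1 ∧ (g * pa = pa * g))).card = 9 := by decide +kernel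

theorem sign_pa : sign pa = 1 := by decide +kernel

def PA : alternatingGroup (Fin 6) := ⟨pa, mem_alternatingGroup.2 sign_pa⟩

theorem mem_cent {g : alternatingGroup (Fin 6)} : g ∈ Subgroup.centralizer ({PA} : Set (alternatingGroup (Fin 6))) ↔
    (g : Perm (Fin 6)) * pa = pa * g := by
  rw [Subgroup.mem_centralizer_singleton_iff]
  exact ⟨fun h => congrArg Subtype.val h, fun h => Subtype.ext h⟩

theorem card_cent : Nat.card (Subgroup.centralizer ({PA} : Set (alternatingGroup (Fin 6)))) = 9 := by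
  rw [← card9, ← Fintype.card_coe, ← Nat.card_eq_fintype_card]
  refine Nat.card_congr ⟨fun g => ⟨g.1.1, ?_⟩, fun g => ⟨⟨g.1, ?_⟩, ?_⟩, fun g => rfl, fun g => rfl⟩
  · rw [Finset.mem_filter]
    exact ⟨Finset.mem_univ _, mem_alternatingGroup.1 g.1.2, mem_cent.1 g.2⟩
  · exact mem_alternatingGroup.2 (Finset.mem_filter.1 g.2).2.1
  · exact mem_cent.2 (Finset.mem_filter.1 g.2).2.2

theorem cent_iff {x y : Perm (Fin 6)} : x * y = y⁻¹ * x ↔ x * y * x⁻¹ = y⁻¹ := mul_inv_eq_iff_eq_mul.symm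

theorem mem_norm {g : alternatingGroup (Fin 6)} :
    g ∈ Subgroup.normalizer ((Subgroup.centralizer ({PA} : Set (alternatingGroup (Fin 6))) : Subgroup _) : Set (alternatingGroup (Fin 6))) ↔
      Cond g := by
  constructor
  · intro hg
    apply cond_of
    have h1 := (Subgroup.mem_normalizer_iff.1 hg PA).1 (mem_cent.2 rfl)
    exact mem_cent.1 h1
  · intro hg
    have hsg : sign (g : Perm (Fin 6)) = 1 := mem_alternatingGroup.1 g.2
    -- an element commuting with `a` has its conjugate commuting with `a`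
    have inv_iff : ∀ x y : Perm (Fin 6), x * y⁻¹ = y⁻¹ * x ↔ x * y = y * x := by
      intro x y
      constructor
      · intro h; exact (Commute.inv_right_iff.1 (show Commute x y⁻¹ from h)).eq
      · intro h; exact (Commute.inv_right_iff.2 (show Commute x y from h)).eq
    apply Subgroup.mem_normalizer_fintype
    intro n hn
    rw [SetLike.mem_coe] at hn ⊢
    rw [mem_cent] at hn ⊢
    have hsn : sign ((g * n * g⁻¹ : alternatingGroup (Fin 6)) : Perm (Fin 6)) = 1 := mem_alternatingGroup.1 (g * n * g⁻¹).2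
    simp only [Subgroup.coe_mul, Subgroup.coe_inv] at hsn ⊢
    generalize (g : Perm (Fin 6)) = g' at *
    generalize (n : Perm (Fin 6)) = n' at *
    have key : (g' * n' * g'⁻¹) * (g' * pa * g'⁻¹) = (g' * pa * g'⁻¹) * (g' * n' * g'⁻¹) := by
      calc (g' * n' * g'⁻¹) * (g' * pa * g'⁻¹) = g' * (n' * pa) * g'⁻¹ := by group
        _ = g' * (pa * n') * g'⁻¹ := by rw [hn]
        _ = _ := by group
    rcases hg with h | h | h | h
    · rw [show g' * pa * g'⁻¹ = pa from mul_inv_eq_iff_eq_mul.2 h] at key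
      exact key
    · rw [show g' * pa * g'⁻¹ = pa⁻¹ from mul_inv_eq_iff_eq_mul.2 h] at key
      exact (inv_iff _ _).1 key
    · rw [show g' * pa * g'⁻¹ = pb from mul_inv_eq_iff_eq_mul.2 h] at key
      exact (comm_iff _ hsn).2 key
    · rw [show g' * pa * g'⁻¹ = pb⁻¹ from mul_inv_eq_iff_eq_mul.2 h] at key
      exact (comm_iff _ hsn).2 ((inv_iff _ _).1 key)

theorem card_norm0 : Nat.card (Subgroup.normalizer ((Subgroup.centralizer ({PA} : Set (alternatingGroup (Fin 6))) : Subgroup _) :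
    Set (alternatingGroup (Fin 6)))) = 36 := by
  rw [← card36, ← Fintype.card_coe, ← Nat.card_eq_fintype_card]
  refine Nat.card_congr ⟨fun g => ⟨g.1.1, ?_⟩, fun g => ⟨⟨g.1, ?_⟩, ?_⟩, fun g => rfl, fun g => rfl⟩
  · rw [Finset.mem_filter]
    exact ⟨Finset.mem_univ _, mem_alternatingGroup.1 g.1.2, mem_norm.1 g.2⟩
  · exact mem_alternatingGroup.2 (Finset.mem_filter.1 g.2).2.1
  · exact mem_norm.2 (Finset.mem_filter.1 g.2).2.2

theorem card_map_conj {G : Type*} [Group G] (g : G) (H : Subgroup G) :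
    Nat.card (H.map (MulAut.conj g).toMonoidHom) = Nat.card H :=
  (Nat.card_congr (H.equivMapOfInjective _ (MulAut.conj g).injective).toEquiv).symm

theorem card_norm (T : Subgroup (alternatingGroup (Fin 6))) (hT : Nat.card T = 9) :
    Nat.card (Subgroup.normalizer ((T : Subgroup _) : Set (alternatingGroup (Fin 6)))) = 36 := by
  have : Fact (Nat.Prime 3) := ⟨by norm_num⟩
  have hsyl : ∀ T : Subgroup (alternatingGroup (Fin 6)), Nat.card T = 9 → ∃ P : Sylow 3 (alternatingGroup (Fin 6)), (P : Subgroup _) = T := by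
    intro T hT
    have h1 : IsPGroup 3 T := IsPGroup.of_card (n := 2) (by rw [hT]; norm_num)
    have h2 : ¬ 3 ∣ T.index := by
      have h3 := T.card_mul_index
      rw [hT, AltSix.card_A6] at h3
      omega
    exact ⟨h1.toSylow h2, IsPGroup.toSylow_coe h1 h2⟩
  obtain ⟨P, hP⟩ := hsyl T hT
  obtain ⟨P0, hP0⟩ := hsyl _ card_cent
  obtain ⟨g, hg⟩ := MulAction.exists_smul_eq (alternatingGroup (Fin 6)) P0 P
  have h1 : T = (Subgroup.centralizer ({PA} : Set (alternatingGroup (Fin 6)))).map (MulAut.conj g).toMonoidHom := by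
    rw [← hP0, ← hP, ← hg]; rfl
  rw [← card_norm0, h1]
  have h2 : Subgroup.normalizer (((Subgroup.centralizer ({PA} : Set (alternatingGroup (Fin 6)))).map (MulAut.conj g).toMonoidHom : Subgroup _) :
      Set (alternatingGroup (Fin 6))) = (Subgroup.normalizer ((Subgroup.centralizer ({PA} : Set (alternatingGroup (Fin 6))) : Subgroup _) :
    Set (alternatingGroup (Fin 6)))).map (MulAut.conj g).toMonoidHom := by
    symm
    exact Subgroup.map_equiv_normalizer_eq _ (MulAut.conj g)
  rw [h2, card_map_conj]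

/-- the property of a 3-element to normalize a four-group -/
def Good (c : Perm (Fin 6)) : Prop := ∃ x : Perm (Fin 6), sign x = 1 ∧ x * x = 1 ∧ x ≠ 1 ∧
  x * (c * x * c⁻¹) = (c * x * c⁻¹) * x ∧ x * (c * x * c⁻¹) = c * (c * x * c⁻¹) * c⁻¹

theorem Good.conj {c : Perm (Fin 6)} (h : Good c) (σ : Perm (Fin 6)) : Good (σ * c * σ⁻¹) := by
  obtain ⟨x, h1, h2, h3, h4, h5⟩ := h
  have e : (σ * c * σ⁻¹) * (σ * x * σ⁻¹) * (σ * c * σ⁻¹)⁻¹ = σ * (c * x * c⁻¹) * σ⁻¹ := by group
  refine ⟨σ * x * σ⁻¹, ?_, ?_, ?_, ?_, ?_⟩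
  · rw [map_mul, map_mul, map_inv, h1, mul_one, mul_inv_cancel]
  · calc σ * x * σ⁻¹ * (σ * x * σ⁻¹) = σ * (x * x) * σ⁻¹ := by group
      _ = 1 := by rw [h2]; group
  · intro h
    apply h3
    rw [mul_inv_eq_one] at h
    exact mul_left_cancel (h.trans (mul_one σ).symm)
  · rw [e]
    calc σ * x * σ⁻¹ * (σ * (c * x * c⁻¹) * σ⁻¹) = σ * (x * (c * x * c⁻¹)) * σ⁻¹ := by group
      _ = σ * ((c * x * c⁻¹) * x) * σ⁻¹ := by rw [h4]
      _ = _ := by group
  · rw [e]
    calc σ * x * σ⁻¹ * (σ * (c * x * c⁻¹) * σ⁻¹) = σ * (x * (c * x * c⁻¹)) * σ⁻¹ := by group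
      _ = σ * (c * (c * x * c⁻¹) * c⁻¹) * σ⁻¹ := by rw [h5]
      _ = _ := by group

theorem good_pa : Good pa := ⟨swap 0 1 * swap 2 3, by decide, by decide, by decide, by decide, by decide⟩

theorem good_pab : Good (pa * pb) := ⟨swap 0 3 * swap 1 4, by decide, by decide, by decide, by decide, by decide⟩

theorem good_of {c : Perm (Fin 6)} (hc : orderOf c = 3) : Good c := by
  have : Fact (Nat.Prime 3) := ⟨by norm_num⟩
  have key : ∀ g : Perm (Fin 6), orderOf g = 3 → (g.cycleType = {3} ∨ g.cycleType = {3, 3}) := by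
    intro g ho
    obtain ⟨n, hn⟩ := cycleType_prime_order (σ := g) (by rw [ho]; norm_num)
    rw [ho] at hn
    have h1 := sum_cycleType_le g
    rw [hn] at h1
    simp at h1
    have h3 : n = 0 ∨ n = 1 := by omega
    rcases h3 with rfl | rfl
    · left; rw [hn]; rfl
    · right; rw [hn]; rfl
  have hpa3 : orderOf pa = 3 := orderOf_eq_prime (by decide) (by decide)
  have hpab3 : orderOf (pa * pb) = 3 := orderOf_eq_prime (by decide) (by decide)
  have hpa : pa.cycleType = {3} := by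
    rcases key pa hpa3 with h | h
    · exact h
    · exfalso
      have h1 := sum_cycleType pa
      rw [h] at h1
      have h2 : pa.support.card = 3 := by decide
      rw [h2] at h1
      revert h1; decide
  have hpab : (pa * pb).cycleType = {3, 3} := by
    rcases key (pa * pb) hpab3 with h | h
    · exfalso
      have h1 := sum_cycleType (pa * pb)
      rw [h] at h1
      have h2 : (pa * pb).support.card = 6 := by decide
      rw [h2] at h1
      revert h1; decide
    · exact h
  rcases key c hc with h | h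
  · obtain ⟨σ, hσ⟩ := isConj_iff.1 ((Equiv.Perm.isConj_iff_cycleType_eq).2 (hpa.trans h.symm))
    rw [← hσ]; exact good_pa.conj σ
  · obtain ⟨σ, hσ⟩ := isConj_iff.1 ((Equiv.Perm.isConj_iff_cycleType_eq).2 (hpab.trans h.symm))
    rw [← hσ]; exact good_pab.conj σ

theorem a6_three (c : alternatingGroup (Fin 6)) (h1 : c ≠ 1) (h3 : c ^ 3 = 1) : ∃ x : alternatingGroup (Fin 6),
    x * x = 1 ∧ x ≠ 1 ∧ x * (c * x * c⁻¹) = (c * x * c⁻¹) * x ∧ x * (c * x * c⁻¹) = c * (c * x * c⁻¹) * c⁻¹ := by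
  have : Fact (Nat.Prime 3) := ⟨by norm_num⟩
  have h4 : orderOf (c : Perm (Fin 6)) = 3 := by rw [Subgroup.orderOf_coe]; exact orderOf_eq_prime h3 h1
  obtain ⟨x, hx1, hx2, hx3, hx4, hx5⟩ := good_of h4
  exact ⟨⟨x, mem_alternatingGroup.2 hx1⟩, Subtype.ext hx2, fun h => hx3 (congrArg Subtype.val h), Subtype.ext hx4, Subtype.ext hx5⟩

end Cfsg.Agent.Lib.JTwA6
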