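import Cfsg.Agent.Lib.JTw17
import Cfsg.Agent.Lib.JTwA6
import Mathlib

/-!
# Groups of Hall–Janko type: Sylow 3-subgroups
-/

set_option autoImplicit false

universe u

namespace Cfsg.Agent.Lib.JTw

open Cfsg Cfsg.Agent.Lib Cfsg.Agent.Lib.LargeExtra Setup

/-- data for central 3-quotients. -/
theorem cq_data {G : Type*} [Group G] [Finite G] {x : G} (hx : orderOf x = 3) {L : Type*} [Group L]
    {π : ↥(Subgroup.centralizer ({x} : Set G)) →* L} (hπ : ∀ c, π c = 1 ↔ (c : G) ∈ Subgroup.zpowers x) :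
    (∀ h : ↥(Subgroup.centralizer ({x} : Set G)), h * ⟨x, mem_centralizer_one.2 rfl⟩ = ⟨x, mem_centralizer_one.2 rfl⟩ * h) ∧
    Odd (orderOf (⟨x, mem_centralizer_one.2 rfl⟩ : ↥(Subgroup.centralizer ({x} : Set G)))) ∧
    ∀ h, π h = 1 ↔ h ∈ Subgroup.zpowers (⟨x, mem_centralizer_one.2 rfl⟩ : ↥(Subgroup.centralizer ({x} : Set G))) := by
  refine ⟨fun h => Subtype.ext (mem_centralizer_one.1 h.2), ?_, ?_⟩
  · rw [← Subgroup.orderOf_coe, hx]; decide
  · intro h
    rw [hπ]
    constructor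
    · rintro ⟨i, hi⟩; exact ⟨i, Subtype.ext hi⟩
    · rintro ⟨i, hi⟩; exact ⟨i, congrArg Subtype.val hi⟩

namespace P3

variable {G : Type*} [Group G] [Finite G] {S : Setup G} {u w t σ : G} {K : Subgroup G}

open Four TS KK

theorem cent4 (d : P3 S u w t K σ) {L : Type*} [Group L] {π : ↥(Subgroup.centralizer ({σ} : Set G)) →* L}
    (hπs : Function.Surjective π) (hπ : ∀ c, π c = 1 ↔ (c : G) ∈ Subgroup.zpowers σ) :
    Nat.card (Subgroup.centralizer ({π ⟨t, mem_centralizer_one.2 (d.comm_t d.sK).symm⟩} : Set L)) = 4 := by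
  obtain ⟨hc0, hodd, hπ'⟩ := cq_data d.s3 hπ
  have hσt := d.comm_t d.sK
  let t0 : ↥(Subgroup.centralizer ({σ} : Set G)) := ⟨t, mem_centralizer_one.2 hσt.symm⟩
  have ht0 : t0 * t0 = 1 := Subtype.ext d.toTS.t_sq
  have hYle : Y K t ≤ Subgroup.centralizer ({σ} : Set G) := fun y hy =>
    mem_centralizer_one.2 ((mem_Y.1 hy).1 σ d.sK).symm
  let F : ↥(Y K t) →* L := π.comp (Subgroup.inclusion hYle)
  have hFi : Function.Injective F := by
    rw [injective_iff_map_eq_one]
    intro y hy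
    have h1 : (y : G) ∈ Subgroup.zpowers σ := (hπ _).1 hy
    exact Subtype.ext (d.Y_inf y.2 ((Subgroup.zpowers_le.2 d.sK) h1))
  have hr : F.range = Subgroup.centralizer ({π t0} : Set L) := by
    apply le_antisymm
    · rintro _ ⟨y, rfl⟩
      rw [mem_centralizer_one]
      show π (Subgroup.inclusion hYle y) * π t0 = π t0 * π (Subgroup.inclusion hYle y)
      rw [← map_mul, ← map_mul]
      congr 1
      exact Subtype.ext (mem_Y.1 y.2).2
    · intro a ha
      rw [mem_centralizer_one] at ha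
      obtain ⟨c, rfl⟩ := hπs a
      have h1 := cq_comm hc0 hodd hπ' ht0 ha
      obtain ⟨y, hy, r, hr, hc⟩ := d.cent (mem_centralizer_one.1 c.2) (congrArg Subtype.val h1)
      have hrC : r ∈ Subgroup.centralizer ({σ} : Set G) := (Subgroup.zpowers_le.2 (mem_centralizer_one.2 rfl)) hr
      refine ⟨⟨y, hy⟩, ?_⟩
      show π ⟨y, hYle hy⟩ = π c
      have h2 : c = ⟨y, hYle hy⟩ * ⟨r, hrC⟩ := Subtype.ext hc
      rw [h2, map_mul, (hπ ⟨r, hrC⟩).2 hr, mul_one]
  show Nat.card (Subgroup.centralizer ({π t0} : Set L)) = 4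
  rw [← hr, ← d.card_Y]
  exact (Nat.card_congr (MonoidHom.ofInjective hFi).toEquiv).symm

end P3

namespace Om

variable {G : Type u} [Group G] [Finite G] {S : Setup G} {u w t ω : G} {K : Subgroup G}

open Four TS KK

theorem card_C (d : Om S u w t K ω) : Nat.card (Subgroup.centralizer ({ω} : Set G)) = 1080 := by
  obtain ⟨φ, hs, hk⟩ := d.exists_hom
  obtain ⟨hc0, hodd, hk'⟩ := cq_data d.o3 hk
  have h1 := cq_card hs hc0 hodd hk' (s := 1) (by simp)
  have h2 : Subgroup.centralizer ({(1 : ↥(Subgroup.centralizer ({ω} : Set G)))} : Set _) = ⊤ := by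
    rw [eq_top_iff]; intro x _; rw [mem_centralizer_one]; simp
  have h3 : Subgroup.centralizer ({φ 1} : Set (alternatingGroup (Fin 6))) = ⊤ := by
    rw [eq_top_iff]; intro x _; rw [mem_centralizer_one]; simp
  rw [h2, h3, Subgroup.card_top, Subgroup.card_top, AltSix.card_A6, ← Subgroup.orderOf_coe] at h1
  rw [h1]
  show 360 * orderOf ω = 1080
  rw [d.o3]

/-- all involutions centralizing `ω` are of `z`-type. -/
theorem Z_of (d : Om S u w t K ω) {c : G} (hcω : c * ω = ω * c) (hc2 : c * c = 1) (hc1 : c ≠ 1) : S.Z c := by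
  by_contra hZ
  obtain ⟨u', w', K', d'⟩ := d.toKK.p3_of hc2 hc1 hZ hcω.symm d.o3
  obtain ⟨φ, hs, hk⟩ := d.exists_hom
  have h4 := d'.cent4 hs hk
  have hcC : c ∈ Subgroup.centralizer ({ω} : Set G) := mem_centralizer_one.2 hcω
  have h2 : orderOf (φ ⟨c, hcC⟩) = 2 := by
    rw [InvAct.orderOf_two_iff]
    constructor
    · rw [← map_mul]
      have : (⟨c, hcC⟩ : ↥(Subgroup.centralizer ({ω} : Set G))) * ⟨c, hcC⟩ = 1 := Subtype.ext hc2
      rw [this, map_one]
    · intro h
      have h5 : c ∈ Subgroup.zpowers ω := (hk _).1 h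
      have h6 := Subgroup.orderOf_dvd_natCard _ h5
      rw [Nat.card_zpowers, d.o3, InvAct.orderOf_two_iff.2 ⟨hc2, hc1⟩] at h6
      revert h6; decide
  obtain ⟨e⟩ := AltSix.cent _ h2
  rw [Nat.card_congr e.toEquiv, DihedralGroup.nat_card] at h4
  omega

/-- the two types of elements of order 3 are not conjugate -/
theorem not_conj (d : Om S u w t K ω) {σ : G} (h : T3 S σ) : ¬ IsConj ω σ := by
  intro hc
  obtain ⟨u', w', t', K', d'⟩ := h
  obtain ⟨g, hg⟩ := isConj_iff.1 hc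
  have h1 : S.Z (g⁻¹ * t' * g) := by
    apply d.Z_of
    · have h2 := d'.comm_t d'.sK
      rw [← hg] at h2
      calc g⁻¹ * t' * g * ω = g⁻¹ * (t' * (g * ω * g⁻¹)) * g := by group
        _ = g⁻¹ * (g * ω * g⁻¹ * t') * g := by rw [h2]
        _ = ω * (g⁻¹ * t' * g) := by group
    · calc g⁻¹ * t' * g * (g⁻¹ * t' * g) = g⁻¹ * (t' * t') * g := by group
        _ = 1 := by rw [d'.toTS.t_sq]; group
    · intro h2
      apply d'.toTS.t_ne
      have : t' = g * (g⁻¹ * t' * g) * g⁻¹ := by group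
      rw [this, h2]; group
  exact d'.hZ (h1.trans (isConj_iff.2 ⟨g, by group⟩))

end Om

/-- A Sylow 3-subgroup containing `ω` in its center. -/
structure SyOm {G : Type*} [Group G] [Finite G] (S : Setup G) (u w t : G) (K : Subgroup G) (ω : G) (P : Sylow 3 G) : Prop
    extends Om S u w t K ω where
  memP : ω ∈ (P : Subgroup G)
  leP : (P : Subgroup G) ≤ Subgroup.centralizer ({ω} : Set G)

namespace KK

variable {G : Type*} [Group G] [Finite G] {S : Setup G} {u w t : G} {K : Subgroup G}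

theorem card_P3 (k : KK S u w t K) (P : Sylow 3 G) : Nat.card P = 27 := by
  have : Fact (Nat.Prime 3) := ⟨by norm_num⟩
  obtain ⟨n, hn⟩ := IsPGroup.iff_card.1 P.2
  have h1 : (3 ^ 3 : ℕ) ∣ Nat.card P := by
    apply Sylow.pow_dvd_card_of_pow_dvd_card
    rw [k.card_G]; norm_num
  have h2 : Nat.card P ∣ 604800 := by
    rw [← k.card_G]; exact Subgroup.card_subgroup_dvd_card _
  rw [hn] at h1 h2
  have h3 : 3 ≤ n := (Nat.pow_dvd_pow_iff_le_right (by norm_num)).1 h1
  have h4 : n ≤ 3 := by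
    by_contra h4
    have h5 : 3 ^ 4 ∣ 604800 := dvd_trans (pow_dvd_pow 3 (by omega)) h2
    revert h5; decide
  have h5 : n = 3 := le_antisymm h4 h3
  rw [hn, h5]; norm_num

end KK

theorem Om.exists_sy {G : Type u} [Group G] [Finite G] {S : Setup G} {u w t ω : G} {K : Subgroup G}
    (d : Om S u w t K ω) : ∃ P : Sylow 3 G, SyOm S u w t K ω P := by
  have : Fact (Nat.Prime 3) := ⟨by norm_num⟩
  obtain ⟨P1⟩ : Nonempty (Sylow 3 ↥(Subgroup.centralizer ({ω} : Set G))) := inferInstance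
  have h1 : 3 ^ 3 ∣ Nat.card P1 := by
    apply Sylow.pow_dvd_card_of_pow_dvd_card
    rw [d.card_C]; norm_num
  let T : Subgroup G := (P1 : Subgroup ↥(Subgroup.centralizer ({ω} : Set G))).map (Subgroup.subtype _)
  have hTp : IsPGroup 3 T := P1.2.map _
  have hT : Nat.card T = Nat.card P1 := 
    (Nat.card_congr ((P1 : Subgroup ↥(Subgroup.centralizer ({ω} : Set G))).equivMapOfInjective _ (Subgroup.subtype_injective _)).toEquiv).symm
  have hTi : ¬ 3 ∣ T.index := by
    intro h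
    have h2 := T.card_mul_index
    rw [d.card_G, hT] at h2
    have h3 : 3 ^ 3 * 3 ∣ 604800 := by rw [← h2]; exact mul_dvd_mul h1 h
    revert h3; decide
  refine ⟨hTp.toSylow hTi, d, ?_, ?_⟩
  · rw [IsPGroup.toSylow_coe]
    let c0 : ↥(Subgroup.centralizer ({ω} : Set G)) := ⟨ω, mem_centralizer_one.2 rfl⟩
    have hc0 : ∀ h : ↥(Subgroup.centralizer ({ω} : Set G)), h * c0 = c0 * h := fun h =>
      Subtype.ext (mem_centralizer_one.1 h.2)
    have hn : (Subgroup.zpowers c0).Normal := by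
      constructor
      rintro n ⟨i, hi⟩ g
      have hi : c0 ^ i = n := hi
      refine ⟨i, ?_⟩
      show c0 ^ i = g * n * g⁻¹
      rw [← hi, (Commute.zpow_right (hc0 g) i).eq, mul_inv_cancel_right]
    have hp : IsPGroup 3 (Subgroup.zpowers c0) := by
      apply IsPGroup.of_card (n := 1)
      rw [Nat.card_zpowers, ← Subgroup.orderOf_coe, pow_one]
      exact d.o3
    have h2 := P1.3 (IsPGroup.to_sup_of_normal_right P1.2 hp) le_sup_left
    have h3 : c0 ∈ (P1 : Subgroup ↥(Subgroup.centralizer ({ω} : Set G))) := by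
      rw [← h2]; exact Subgroup.mem_sup_right (Subgroup.mem_zpowers _)
    exact ⟨c0, h3, rfl⟩
  · rw [IsPGroup.toSylow_coe]
    rintro _ ⟨x, -, rfl⟩
    exact x.2

end Cfsg.Agent.Lib.JTw
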