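import Cfsg.Agent.Lib.JTw18
import Cfsg.Agent.Lib.GESGroup
import Mathlib

/-!
# Groups of Hall–Janko type: the normalizer of a Sylow 3-subgroup and the elements of order 3
-/

set_option autoImplicit false

universe u

namespace Cfsg.Agent.Lib.JTw

open Cfsg Cfsg.Agent.Lib Cfsg.Agent.Lib.LargeExtra Setup
open scoped commutatorElement

theorem sylow_conj_mem {G : Type*} [Group G] [Finite G] {p : ℕ} [Fact p.Prime] (P : Sylow p G) {x : G} {n : ℕ}
    (hx : orderOf x = p ^ n) : ∃ g : G, g * x * g⁻¹ ∈ (P : Subgroup G) := by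
  have h1 : IsPGroup p (Subgroup.zpowers x) := IsPGroup.of_card (n := n) (by rw [Nat.card_zpowers, hx])
  obtain ⟨P', hP'⟩ := h1.exists_le_sylow
  obtain ⟨g, hg⟩ := MulAction.exists_smul_eq G P' P
  refine ⟨g, ?_⟩
  have : g * x * g⁻¹ ∈ P := by
    rw [← hg]
    exact ⟨_, hP' (Subgroup.mem_zpowers _), rfl⟩
  exact this

namespace SyOm

variable {G : Type u} [Group G] [Finite G] {S : Setup G} {u w t ω : G} {K : Subgroup G} {P : Sylow 3 G}

open Four TS KK

theorem card27 (d : SyOm S u w t K ω P) : Nat.card P = 27 := d.toKK.card_P3 P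

theorem T3_ex (d : SyOm S u w t K ω P) : ∃ σ ∈ (P : Subgroup G), T3 S σ := by
  have : Fact (Nat.Prime 3) := ⟨by norm_num⟩
  obtain ⟨σ, hσK, -, hσ3, -⟩ := d.toKK.exists_sigma
  have h1 : T3 S σ := ⟨u, w, t, K, d.toKK, hσ3, hσK⟩
  obtain ⟨g, hg⟩ := sylow_conj_mem (p := 3) (n := 1) P (by rw [hσ3, pow_one])
  exact ⟨_, hg, h1.conj g⟩

theorem nonab (d : SyOm S u w t K ω P) : ¬ ∀ x y : (P : Subgroup G), x * y = y * x := by
  intro h
  obtain ⟨σ, hσ, u', w', t', K', d'⟩ := d.T3_ex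
  apply d'.not27
  rw [← d.card27]
  apply Subgroup.card_dvd_of_le
  intro y hy
  exact mem_centralizer_one.2 (congrArg Subtype.val (h ⟨y, hy⟩ ⟨σ, hσ⟩))

theorem extra (d : SyOm S u w t K ω P) : IsExtraspecial 3 (P : Subgroup G) := by
  have : Fact (Nat.Prime 3) := ⟨by norm_num⟩
  exact GESGroup.extraspecial_cube (p := 3) (by rw [d.card27]; norm_num) d.nonab

theorem center_eq (d : SyOm S u w t K ω P) {c : G} (hc : c ∈ (P : Subgroup G)) (h : ∀ x ∈ (P : Subgroup G), x * c = c * x) :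
    c ∈ Subgroup.zpowers ω := by
  have hω : (⟨ω, d.memP⟩ : (P : Subgroup G)) ∈ Subgroup.center (P : Subgroup G) := by
    rw [Subgroup.mem_center_iff]
    intro x
    exact Subtype.ext (mem_centralizer_one.1 (d.leP x.2))
  have h1 : Subgroup.zpowers (⟨ω, d.memP⟩ : (P : Subgroup G)) = Subgroup.center (P : Subgroup G) := by
    apply Subgroup.eq_of_le_of_card_ge
    · rw [Subgroup.zpowers_le]; exact hω
    · rw [d.extra.2, Nat.card_zpowers, ← Subgroup.orderOf_coe]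
      exact d.o3.symm.le
  have h2 : (⟨c, hc⟩ : (P : Subgroup G)) ∈ Subgroup.center (P : Subgroup G) := by
    rw [Subgroup.mem_center_iff]
    intro x
    exact Subtype.ext (h x x.2)
  rw [← h1] at h2
  obtain ⟨i, hi⟩ := h2
  exact ⟨i, congrArg Subtype.val hi⟩

/-- commutators are in `⟨ω⟩`. -/
theorem comm_mem (d : SyOm S u w t K ω P) {c p : G} (hc : c ∈ (P : Subgroup G)) (hp : p ∈ (P : Subgroup G)) :
    p * c * p⁻¹ * c⁻¹ ∈ Subgroup.zpowers ω := by
  have h1 := d.extra.1.2.2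
  have h2 : ⁅(⟨p, hp⟩ : (P : Subgroup G)), ⟨c, hc⟩⁆ ∈ Subgroup.center (P : Subgroup G) := by
    rw [← h1]
    exact Subgroup.commutator_mem_commutator trivial trivial
  have h3 : p * c * p⁻¹ * c⁻¹ = ((⁅(⟨p, hp⟩ : (P : Subgroup G)), ⟨c, hc⟩⁆ : (P : Subgroup G)) : G) := rfl
  rw [h3]
  apply d.center_eq (SetLike.coe_mem _)
  intro x hx
  exact congrArg Subtype.val (Subgroup.mem_center_iff.1 h2 ⟨x, hx⟩)

/-- a noncentral element `c` of `P` is conjugate to all `z c`, `z ∈ ⟨ω⟩`. -/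
theorem conj_zc (d : SyOm S u w t K ω P) {c z : G} (hc : c ∈ (P : Subgroup G)) (hcz : c ∉ Subgroup.zpowers ω)
    (hz : z ∈ Subgroup.zpowers ω) : ∃ p : G, p * c * p⁻¹ = z * c := by
  obtain ⟨p, hp, hpc⟩ : ∃ p ∈ (P : Subgroup G), p * c ≠ c * p := by
    by_contra hcon
    push Not at hcon
    exact hcz (d.center_eq hc hcon)
  have h1 := d.comm_mem hc hp
  have hωc : ∀ x ∈ (P : Subgroup G), x * ω = ω * x := fun x hx => mem_centralizer_one.1 (d.leP hx)
  obtain ⟨y, hy⟩ : ∃ y, y = p * c * p⁻¹ * c⁻¹ := ⟨_, rfl⟩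
  rw [← hy] at h1
  have hy1 : y ≠ 1 := by
    intro h
    apply hpc
    rw [hy, mul_inv_eq_one, mul_inv_eq_iff_eq_mul] at h
    exact h
  have hyz : ∀ x ∈ (P : Subgroup G), x * y = y * x := by
    intro x hx
    obtain ⟨i, hi⟩ := h1
    have hi : ω ^ i = y := hi
    rw [← hi]
    exact (Commute.zpow_right (show Commute x ω from hωc x hx) i).eq
  have h2 : p * c * p⁻¹ = y * c := by rw [hy]; group
  have h3 : (p * p) * c * (p * p)⁻¹ = y * y * c := by
    calc (p * p) * c * (p * p)⁻¹ = p * (p * c * p⁻¹) * p⁻¹ := by group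
      _ = p * (y * c) * p⁻¹ := by rw [h2]
      _ = (p * y * p⁻¹) * (p * c * p⁻¹) := cj_mul p y c
      _ = y * (y * c) := by rw [cj_eq_self.2 (hyz p hp), h2]
      _ = y * y * c := by rw [mul_assoc]
  have h4 := zpowers_eq (p := 3) (by norm_num) d.o3 h1 hy1
  rw [← h4] at hz
  have hy3 : y ^ 3 = 1 := by
    have := Subgroup.orderOf_dvd_natCard _ h1
    rw [Nat.card_zpowers, d.o3] at this
    exact orderOf_dvd_iff_pow_eq_one.1 this
  rcases mem_zpowers_three hy3 hz with h | h | h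
  · exact ⟨1, by rw [h]; simp⟩
  · exact ⟨p, by rw [h2, h]⟩
  · refine ⟨p * p, ?_⟩
    rw [h3, h]
    congr 1
    rw [eq_inv_iff_mul_eq_one, ← hy3, pow_succ, pow_two]

end SyOm

end Cfsg.Agent.Lib.JTw
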