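import Cfsg.Agent.Lib.JTw1
import Cfsg.Agent.Lib.SubgroupTools
import Cfsg.Agent.S5431
import Mathlib

/-!
# Groups of Hall–Janko type: the large subgroups attached to the conjugates of `z`
-/

set_option autoImplicit false

namespace Cfsg.Agent.Lib.JTw

open Cfsg Cfsg.Agent.Lib.LargeExtra

section defs

variable {G : Type*} [Group G]

theorem cj_mul (x a b : G) : x * (a * b) * x⁻¹ = (x * a * x⁻¹) * (x * b * x⁻¹) := by group

theorem cj_cj (x y a : G) : (x * y) * a * (x * y)⁻¹ = x * (y * a * y⁻¹) * x⁻¹ := by group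

theorem cj_inj {x a b : G} (h : x * a * x⁻¹ = x * b * x⁻¹) : a = b :=
  mul_left_cancel (mul_right_cancel h)

theorem cj_eq_one {x a : G} : x * a * x⁻¹ = 1 ↔ a = 1 := by
  constructor
  · intro h; apply cj_inj (x := x); rw [h]; group
  · rintro rfl; group

theorem cj_sq {x a : G} : (x * a * x⁻¹) * (x * a * x⁻¹) = x * (a * a) * x⁻¹ := by group

theorem cj_eq_self {x a : G} : x * a * x⁻¹ = a ↔ x * a = a * x := mul_inv_eq_iff_eq_mul

theorem inv_comm_iff {x a : G} : x⁻¹ * a = a * x⁻¹ ↔ x * a = a * x := by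
  constructor
  · intro h; rw [inv_mul_eq_iff_eq_mul, ← mul_assoc, eq_mul_inv_iff_mul_eq] at h; exact h.symm
  · intro h; rw [inv_mul_eq_iff_eq_mul, ← mul_assoc, h, mul_inv_cancel_right]

/-- the large subgroup attached to `u`. -/
def QF (z : G) (Q : Subgroup G) (u : G) : Subgroup G :=
  ⨅ (g : G) (_ : g * z * g⁻¹ = u), Q.map (MulAut.conj g).toMonoidHom

theorem mem_QF_iff {z : G} {Q : Subgroup G} (h : PreLarge Q z) {g u : G} (hg : g * z * g⁻¹ = u) {x : G} :
    x ∈ QF z Q u ↔ g⁻¹ * x * g ∈ Q := by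
  rw [← mem_map_conj_iff, QF]
  simp only [Subgroup.mem_iInf]
  constructor
  · intro hx; exact hx g hg
  · intro hx g' hg'
    rwa [h.map_conj_eq (hg'.trans hg.symm)]

theorem QF_eq {z : G} {Q : Subgroup G} (h : PreLarge Q z) {g u : G} (hg : g * z * g⁻¹ = u) :
    QF z Q u = Q.map (MulAut.conj g).toMonoidHom := by
  ext x
  rw [mem_QF_iff h hg, mem_map_conj_iff]

theorem Base.conj {z : G} {Q : Subgroup G} (h : Base z Q) (g : G) :
    Base (g * z * g⁻¹) (Q.map (MulAut.conj g).toMonoidHom) := by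
  obtain ⟨φ, hs, hk⟩ := h.ex
  have key : ∀ x : Subgroup.centralizer ({g * z * g⁻¹} : Set G), g⁻¹ * (x : G) * g ∈ Subgroup.centralizer ({z} : Set G) := by
    intro x
    have hx := mem_centralizer_one.1 x.2
    rw [mem_centralizer_one]
    have := congrArg (fun t => g⁻¹ * t * g) hx
    simpa [mul_assoc] using this
  let ψ : Subgroup.centralizer ({g * z * g⁻¹} : Set G) →* Subgroup.centralizer ({z} : Set G) :=
    { toFun := fun x => ⟨g⁻¹ * (x : G) * g, key x⟩
      map_one' := by apply Subtype.ext; simp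
      map_mul' := by intro x y; apply Subtype.ext; simp [mul_assoc] }
  refine ⟨h.pre.conj g, ?_, φ.comp ψ, ?_, ?_⟩
  · rw [← h.card]
    exact Nat.card_congr (Subgroup.equivMapOfInjective Q _ (MulAut.conj g).injective).toEquiv.symm
  · refine hs.comp ?_
    rintro ⟨y, hy⟩
    refine ⟨⟨g * y * g⁻¹, ?_⟩, ?_⟩
    · rw [mem_centralizer_one] at hy ⊢
      have := congrArg (fun t => g * t * g⁻¹) hy
      simpa [mul_assoc] using this
    · apply Subtype.ext
      show g⁻¹ * (g * y * g⁻¹) * g = y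
      group
  · intro x
    rw [MonoidHom.comp_apply, hk, mem_map_conj_iff]
    rfl

end defs

/-- the whole situation -/
structure Setup (G : Type*) [Group G] where
  z : G
  Q : Subgroup G
  base : Base z Q
  v : G
  hv : v ∈ Q
  hvz : v ≠ z
  hconj : IsConj z v

namespace Setup

variable {G : Type*} [Group G] (S : Setup G)

/-- `z`-type involutions -/
def Z (u : G) : Prop := IsConj S.z u

/-- the large subgroup attached to `u` -/
def q (u : G) : Subgroup G := QF S.z S.Q u

theorem z_z : S.Z S.z := IsConj.refl _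

theorem z_v : S.Z S.v := S.hconj

theorem Z_conj {u : G} (hu : S.Z u) (x : G) : S.Z (x * u * x⁻¹) :=
  hu.trans (isConj_iff.2 ⟨x, rfl⟩)

theorem q_z : S.q S.z = S.Q := by
  ext x
  rw [q, mem_QF_iff S.base.pre (g := 1) (by simp)]
  simp

variable {S}

theorem Z.base {u : G} (hu : S.Z u) : Base u (S.q u) := by
  obtain ⟨g, hg⟩ := isConj_iff.1 hu
  rw [q, QF_eq S.base.pre hg]
  rw [← hg]
  exact S.base.conj g

theorem mem_q_conj {u : G} (hu : S.Z u) (x : G) {y : G} : y ∈ S.q (x * u * x⁻¹) ↔ x⁻¹ * y * x ∈ S.q u := by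
  obtain ⟨g, hg⟩ := isConj_iff.1 hu
  rw [q, q, mem_QF_iff S.base.pre hg, mem_QF_iff S.base.pre (g := x * g) (by rw [← hg]; group)]
  have : (x * g)⁻¹ * y * (x * g) = g⁻¹ * (x⁻¹ * y * x) * g := by group
  rw [this]

theorem conj_mem_q {u : G} (hu : S.Z u) (x : G) {y : G} (hy : y ∈ S.q u) : x * y * x⁻¹ ∈ S.q (x * u * x⁻¹) := by
  rw [mem_q_conj hu]
  have : x⁻¹ * (x * y * x⁻¹) * x = y := by group
  rwa [this]

theorem q_conj_eq {u : G} (hu : S.Z u) (x : G) :
    (S.q u).map (MulAut.conj x).toMonoidHom = S.q (x * u * x⁻¹) := by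
  ext y
  rw [mem_map_conj_iff, mem_q_conj hu]

section fin

variable [Finite G]

theorem Z_of_mem {u w : G} (hu : S.Z u) (hw : w ∈ S.q u) (hw2 : w * w = 1) (hw1 : w ≠ 1) : S.Z w := by
  -- first for `u = z`
  have h0 : ∀ w : G, w ∈ S.Q → w * w = 1 → w ≠ 1 → S.Z w := by
    intro w hw hw2 hw1
    by_cases hwz : w = S.z
    · rw [hwz]; exact S.z_z
    · obtain ⟨g, hg⟩ := isConj_iff.1 S.hconj
      have hv2 : S.v * S.v = 1 := by
        rw [← hg, cj_sq, S.base.pre.sq]; group
      have hv1 : S.v ≠ 1 := by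
        rw [← hg]
        intro h; exact S.base.pre.ne (cj_eq_one.1 h)
      obtain ⟨c, _, hc⟩ := S.base.conj_inv S.hv hv2 hv1 S.hvz hw hw2 hw1 hwz
      rw [← hc]
      exact S.Z_conj S.z_v c
  obtain ⟨g, hg⟩ := isConj_iff.1 hu
  rw [q, mem_QF_iff S.base.pre hg] at hw
  have h1 := h0 _ hw (by
    calc g⁻¹ * w * g * (g⁻¹ * w * g) = g⁻¹ * (w * w) * g := by group
      _ = 1 := by rw [hw2]; group) (by
    intro h
    apply hw1
    have := congrArg (fun t => g * t * g⁻¹) h
    simpa [mul_assoc] using this)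
  have h2 := S.Z_conj h1 g
  have : g * (g⁻¹ * w * g) * g⁻¹ = w := by group
  rwa [this] at h2

variable (S) in
/-- two `z`-type involutions, one in the large subgroup of the other -/
structure Four (u w : G) : Prop where
  hu : S.Z u
  hmem : w ∈ S.q u
  hw2 : w * w = 1
  hw1 : w ≠ 1
  hwu : w ≠ u

namespace Four

variable {u w : G}

theorem hw (f : S.Four u w) : S.Z w := Z_of_mem f.hu f.hmem f.hw2 f.hw1

theorem pair (f : S.Four u w) : Pair (S.q u) (S.q w) u w := by
  have hb := f.hu.base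
  have hb' := f.hw.base
  refine ⟨hb.pre, hb'.pre, f.hmem, ?_, f.hwu, ?_⟩
  · have h1 : IsConj u w := f.hu.symm.trans f.hw
    obtain ⟨g, hg⟩ := isConj_iff.1 h1
    have h2 := hb.pre.mem_conj (g := g) (by rw [hg]; exact f.hmem) (by rw [hg]; exact f.hwu) (by
      rw [hg]
      exact hb.pre.toExData.exists_nonab_centralizer (by rw [hb.card]; norm_num) f.hmem f.hw1 f.hwu)
    rwa [q_conj_eq f.hu, hg] at h2
  · intro y hy
    rw [q_conj_eq f.hu, hy]

theorem hu2 (f : S.Four u w) : u * u = 1 := f.hu.base.pre.sq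

theorem hu1 (f : S.Four u w) : u ≠ 1 := f.hu.base.pre.ne

theorem comm (f : S.Four u w) : u * w = w * u := (f.hu.base.pre.cen w f.hmem).symm

theorem swap (f : S.Four u w) : S.Four w u :=
  ⟨f.hw, f.pair.hz, f.hu2, f.hu1, f.hwu.symm⟩

theorem mul_sq (f : S.Four u w) : (u * w) * (u * w) = 1 := by
  calc (u * w) * (u * w) = u * (w * u) * w := by simp only [mul_assoc]
    _ = (u * u) * (w * w) := by rw [← f.comm]; simp only [mul_assoc]
    _ = 1 := by rw [f.hu2, f.hw2, one_mul]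

theorem mul_ne_one (f : S.Four u w) : u * w ≠ 1 := by
  intro h
  apply f.hwu
  calc w = (u * u) * w := by rw [f.hu2, one_mul]
    _ = u * (u * w) := by rw [mul_assoc]
    _ = u := by rw [h, mul_one]

theorem mul_ne_left (f : S.Four u w) : u * w ≠ u := by
  intro h
  apply f.hw1
  exact mul_left_cancel (h.trans (mul_one u).symm)

theorem mul_ne_right (f : S.Four u w) : u * w ≠ w := by
  intro h
  apply f.hu1
  exact mul_right_cancel (h.trans (one_mul w).symm)

theorem right (f : S.Four u w) : S.Four u (u * w) :=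
  ⟨f.hu, mul_mem f.hu.base.pre.mem f.hmem, f.mul_sq, f.mul_ne_one, f.mul_ne_left⟩

theorem left (f : S.Four u w) : S.Four (u * w) w := by
  have h := f.swap.right.swap
  rwa [← f.comm] at h

theorem conj (f : S.Four u w) (x : G) : S.Four (x * u * x⁻¹) (x * w * x⁻¹) :=
  ⟨S.Z_conj f.hu x, conj_mem_q f.hu x f.hmem, by rw [cj_sq, f.hw2]; group,
    fun h => f.hw1 (cj_eq_one.1 h), fun h => f.hwu (cj_inj h)⟩

theorem mul_mul (f : S.Four u w) : u * w * w = u := by rw [mul_assoc, f.hw2, mul_one]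

theorem mul_mul' (f : S.Four u w) : u * (u * w) = w := by rw [← mul_assoc, f.hu2, one_mul]

/-- the four-group -/
def V (u w : G) : Subgroup G := Subgroup.closure ({u, w} : Set G)

theorem mem_V (f : S.Four u w) {x : G} : x ∈ V u w ↔ x = 1 ∨ x = u ∨ x = w ∨ x = u * w :=
  f.hu.base.mem_V f.hmem f.hw2

theorem V_swap : V w u = V u w := by
  rw [V, V, Set.pair_comm]

theorem V_right (f : S.Four u w) : V u (u * w) = V u w := by
  ext x
  rw [f.right.mem_V, f.mem_V, f.mul_mul']
  tauto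

theorem V_left (f : S.Four u w) : V (u * w) w = V u w := by
  ext x
  rw [f.left.mem_V, f.mem_V, f.mul_mul]
  tauto

theorem card_V (f : S.Four u w) : Nat.card (V u w) = 4 :=
  f.hu.base.card_V f.hmem f.hw2 f.hw1 f.hwu

theorem V_le_q (f : S.Four u w) : V u w ≤ S.q u := by
  intro x hx
  rcases f.mem_V.1 hx with rfl | rfl | rfl | rfl
  · exact one_mem _
  · exact f.hu.base.pre.mem
  · exact f.hmem
  · exact mul_mem f.hu.base.pre.mem f.hmem

theorem V_le_q' (f : S.Four u w) : V u w ≤ S.q w := by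
  rw [← V_swap]; exact f.swap.V_le_q

theorem V_le_q'' (f : S.Four u w) : V u w ≤ S.q (u * w) := by
  rw [← f.V_left]; exact f.left.V_le_q

/-- `Q_u ∩ Q_w = V`. -/
theorem inf_le (f : S.Four u w) {x : G} (h1 : x ∈ S.q u) (h2 : x ∈ S.q w) : x ∈ V u w := by
  have hc : x * w = w * x := f.hw.base.pre.cen x h2
  have hx2 : x * x = 1 := by
    rcases f.hu.base.pre.qsq x h1 with h | h
    · exact h
    · rcases f.hw.base.pre.qsq x h2 with h' | h'
      · exact h'
      · exact absurd (h'.symm.trans h) f.hwu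
  exact f.hu.base.cent_inv f.hmem f.hw2 f.hw1 f.hwu h1 hc hx2

/-- elements of `C_{Q_u}(w)` outside `V` have square `u`. -/
theorem sq_eq (f : S.Four u w) {x : G} (h1 : x ∈ S.q u) (h2 : x * w = w * x) (h3 : x ∉ V u w) :
    x * x = u := by
  rcases f.hu.base.pre.qsq x h1 with h | h
  · exact absurd (f.hu.base.cent_inv f.hmem f.hw2 f.hw1 f.hwu h1 h2 h) h3
  · exact h

/-- `C_{Q_u}(w)` -/
def A (S : Setup G) (u w : G) : Subgroup G := S.q u ⊓ Subgroup.centralizer ({w} : Set G)

omit [Finite G] in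
theorem mem_A {x : G} : x ∈ A S u w ↔ x ∈ S.q u ∧ x * w = w * x := by
  rw [A, Subgroup.mem_inf, mem_centralizer_one]

theorem card_A (f : S.Four u w) : Nat.card (A S u w) = 16 :=
  f.hu.base.card_CQ f.hmem f.hw1 f.hwu

theorem V_le_A (f : S.Four u w) : V u w ≤ A S u w := by
  intro x hx
  rw [mem_A]
  refine ⟨f.V_le_q hx, ?_⟩
  rcases f.mem_V.1 hx with rfl | rfl | rfl | rfl
  · simp
  · exact f.comm
  · rfl
  · rw [mul_assoc, ← mul_assoc w, ← f.comm, mul_assoc]

/-- The radical of `N(V)`. -/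
def R (S : Setup G) (u w : G) : Subgroup G := Pair.R (S.q u) (S.q w) u w

theorem R_eq : R S u w = A S w u ⊔ A S u w := rfl

theorem R_swap : R S w u = R S u w := Pair.R_swap

theorem A_le_R : A S u w ≤ R S u w := le_sup_right

theorem A_le_R' : A S w u ≤ R S u w := le_sup_left

theorem mem_A_conj {u w : G} (hu : S.Z u) (x : G) {y : G} :
    y ∈ A S (x * u * x⁻¹) (x * w * x⁻¹) ↔ x⁻¹ * y * x ∈ A S u w := by
  rw [mem_A, mem_A, mem_q_conj hu]
  have : y * (x * w * x⁻¹) = x * w * x⁻¹ * y ↔ x⁻¹ * y * x * w = w * (x⁻¹ * y * x) := by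
    constructor
    · intro h
      have := congrArg (fun t => x⁻¹ * t * x) h
      simpa [mul_assoc] using this
    · intro h
      have := congrArg (fun t => x * t * x⁻¹) h
      simpa [mul_assoc] using this
  rw [this]

theorem conj_mem_A {u w : G} (hu : S.Z u) (x : G) {y : G} (hy : y ∈ A S u w) :
    x * y * x⁻¹ ∈ A S (x * u * x⁻¹) (x * w * x⁻¹) := by
  rw [mem_A_conj hu]
  have : x⁻¹ * (x * y * x⁻¹) * x = y := by group
  rwa [this]

/-- `C_{Q_u}(w) = C_{Q_u}(uw)`. -/
theorem A_right (f : S.Four u w) : A S u (u * w) = A S u w := by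
  ext x
  rw [mem_A, mem_A]
  constructor
  · rintro ⟨h1, h2⟩
    refine ⟨h1, ?_⟩
    rw [← mul_assoc, f.hu.base.pre.cen x h1, mul_assoc, mul_assoc] at h2
    exact mul_left_cancel h2
  · rintro ⟨h1, h2⟩
    refine ⟨h1, ?_⟩
    rw [← mul_assoc, f.hu.base.pre.cen x h1, mul_assoc, h2, mul_assoc]

theorem A_left (f : S.Four u w) : A S (u * w) w = A S (u * w) u := by
  have h := f.right.swap.A_right
  rw [f.comm, mul_assoc, f.hu2, mul_one] at h
  rw [f.comm]; exact h

theorem A_le_normalizer (f : S.Four u w) :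
    A S u w ≤ Subgroup.normalizer ((A S w u : Subgroup G) : Set G) := by
  intro x hx
  have hx := mem_A.1 hx
  have hxu : x * u = u * x := f.hu.base.pre.cen x hx.1
  apply Subgroup.mem_normalizer_fintype
  intro y hy
  have h := conj_mem_A f.hw x hy
  rwa [cj_eq_self.2 hx.2, cj_eq_self.2 hxu] at h

theorem exists_mul (f : S.Four u w) {r : G} (hr : r ∈ R S u w) :
    ∃ a ∈ A S u w, ∃ b ∈ A S w u, r = a * b := by
  rw [R_eq, SubgroupTools.mem_sup_of_le_normalizer' f.A_le_normalizer] at hr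
  obtain ⟨a, ha, b, hb, h⟩ := hr
  exact ⟨a, ha, b, hb, h.symm⟩

theorem A_inf (f : S.Four u w) : A S w u ⊓ A S u w = V u w := by
  apply le_antisymm
  · rintro x ⟨h1, h2⟩
    exact f.inf_le (mem_A.1 h2).1 (mem_A.1 h1).1
  · refine le_inf ?_ f.V_le_A
    rw [← V_swap]; exact f.swap.V_le_A

theorem card_R (f : S.Four u w) : Nat.card (R S u w) = 64 := by
  have h := SubgroupTools.card_sup_mul_card_inf f.A_le_normalizer
  rw [f.A_inf, f.card_V, f.card_A, f.swap.card_A, ← R_eq] at h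
  omega

theorem conj_mem_R {x r : G} (f : S.Four u w) (hx : x ∈ S.q u ⊔ S.q w) (hr : r ∈ R S u w) :
    x * r * x⁻¹ ∈ R S u w := f.pair.conj_mem_R_sup hx hr

theorem R_conj (f : S.Four u w) (x : G) {y : G} : y ∈ R S (x * u * x⁻¹) (x * w * x⁻¹) ↔ x⁻¹ * y * x ∈ R S u w := by
  have key : ∀ (u w x y : G), S.Z u → S.Z w → y ∈ R S u w → x * y * x⁻¹ ∈ R S (x * u * x⁻¹) (x * w * x⁻¹) := by
    intro u w x y hu hw hy
    have : R S u w ≤ (R S (x * u * x⁻¹) (x * w * x⁻¹)).comap (MulAut.conj x).toMonoidHom := by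
      rw [R_eq]
      apply sup_le
      · intro y hy
        exact A_le_R' (conj_mem_A hw x hy)
      · intro y hy
        exact A_le_R (conj_mem_A hu x hy)
    exact this hy
  constructor
  · intro h
    have := key _ _ x⁻¹ y (S.Z_conj f.hu x) (S.Z_conj f.hw x) h
    have e1 : x⁻¹ * (x * u * x⁻¹) * x⁻¹⁻¹ = u := by group
    have e2 : x⁻¹ * (x * w * x⁻¹) * x⁻¹⁻¹ = w := by group
    rwa [e1, e2, inv_inv] at this
  · intro h
    have := key _ _ x _ f.hu f.hw h
    have e : x * (x⁻¹ * y * x) * x⁻¹ = y := by group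
    rwa [e] at this

/-- elements inducing the transpositions on `V`. -/
theorem exists_ab (f : S.Four u w) : ∃ a ∈ S.q u, ∃ b ∈ S.q w, a * u * a⁻¹ = u ∧ a * w * a⁻¹ = u * w ∧
    b * w * b⁻¹ = w ∧ b * u * b⁻¹ = u * w := f.pair.exists_ab

theorem R_left (f : S.Four u w) : R S (u * w) w = R S u w := by
  have key : ∀ {u w : G}, S.Four u w → R S (u * w) w ≤ R S u w := by
    intro u w f
    obtain ⟨a, ha, b, hb, hau, haw, hbw, hbu⟩ := f.exists_ab
    intro y hy
    have hy' : y ∈ R S (b * u * b⁻¹) (b * w * b⁻¹) := by rw [hbu, hbw]; exact hy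
    rw [f.R_conj] at hy'
    have := f.conj_mem_R (Subgroup.mem_sup_right hb) hy'
    have e : b * (b⁻¹ * y * b) * b⁻¹ = y := by group
    rwa [e] at this
  apply le_antisymm (key f)
  have := key f.left
  rwa [f.mul_mul] at this

theorem R_right (f : S.Four u w) : R S u (u * w) = R S u w := by
  have h := f.swap.R_left
  rw [← f.comm] at h
  rw [← R_swap, h, R_swap]

theorem A_le_R'' (f : S.Four u w) : A S (u * w) w ≤ R S u w := by
  rw [← f.R_left]; exact A_le_R

theorem R_comm_u (f : S.Four u w) {r : G} (hr : r ∈ R S u w) : r * u = u * r := (f.pair.R_le_z hr).1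

theorem R_comm_w (f : S.Four u w) {r : G} (hr : r ∈ R S u w) : r * w = w * r := (f.pair.R_le_z hr).2

theorem comm_V (f : S.Four u w) {r x : G} (hu : r * u = u * r) (hw : r * w = w * r) (hx : x ∈ V u w) :
    r * x = x * r := by
  rcases f.mem_V.1 hx with rfl | rfl | rfl | rfl
  · simp
  · exact hu
  · exact hw
  · rw [← mul_assoc, hu, mul_assoc, hw, mul_assoc]

theorem R_comm_V (f : S.Four u w) {r x : G} (hr : r ∈ R S u w) (hx : x ∈ V u w) : r * x = x * r :=
  f.comm_V (f.R_comm_u hr) (f.R_comm_w hr) hx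

theorem V_le_R (f : S.Four u w) : V u w ≤ R S u w := f.V_le_A.trans A_le_R

theorem V_sq (f : S.Four u w) {x : G} (hx : x ∈ V u w) : x * x = 1 := by
  rcases f.mem_V.1 hx with rfl | rfl | rfl | rfl
  · simp
  · exact f.hu2
  · exact f.hw2
  · exact f.mul_sq

theorem comm_R (f : S.Four u w) {x y : G} (hx : x ∈ R S u w) (hy : y ∈ R S u w) :
    x * y * x⁻¹ * y⁻¹ ∈ V u w := by
  have h := S5431.comm_R f.pair hx hy
  exact f.inf_le h.1 h.2

/-- elements of `R` in `Q_u` are in `A`. -/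
theorem mem_A_of (f : S.Four u w) {x : G} (hx : x ∈ R S u w) (hq : x ∈ S.q u) : x ∈ A S u w :=
  mem_A.2 ⟨hq, f.R_comm_w hx⟩

/-- the centralizer of the four-group normalizes everything. -/
theorem conj_q {u x y : G} (hu : S.Z u) (hx : x * u = u * x) (hy : y ∈ S.q u) : x * y * x⁻¹ ∈ S.q u :=
  hu.base.pre.norm x hx y hy

theorem conj_A {u x y : G} (hu : S.Z u) (hxu : x * u = u * x) (hxw : x * w = w * x) (hy : y ∈ A S u w) :
    x * y * x⁻¹ ∈ A S u w := by
  have h := conj_mem_A hu x hy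
  rwa [cj_eq_self.2 hxu, cj_eq_self.2 hxw] at h

theorem conj_R (f : S.Four u w) {x y : G} (hxu : x * u = u * x) (hxw : x * w = w * x) (hy : y ∈ R S u w) :
    x * y * x⁻¹ ∈ R S u w := by
  have h := (f.R_conj x (y := x * y * x⁻¹)).2 (by
    have e : x⁻¹ * (x * y * x⁻¹) * x = y := by group
    rwa [e])
  rwa [cj_eq_self.2 hxu, cj_eq_self.2 hxw] at h

end Four

end fin

end Setup

end Cfsg.Agent.Lib.JTw
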