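import Cfsg.Agent.Lib.JTw19
import Mathlib

/-!
# Groups of Hall–Janko type: the normalizer of a Sylow 3-subgroup and the elements of order 3 (continued)
-/

set_option autoImplicit false

universe u

namespace Cfsg.Agent.Lib.JTw

open Cfsg Cfsg.Agent.Lib Cfsg.Agent.Lib.LargeExtra Setup

theorem sylow_conj_into {G : Type*} [Group G] [Finite G] {p : ℕ} [hp : Fact p.Prime] (T E : Subgroup G) (hET : E ≤ T)
    (hE : IsPGroup p E) (h : ¬ p * Nat.card E ∣ Nat.card T) {y : G} {n : ℕ} (hy : y ∈ T) (hyp : orderOf y = p ^ n) :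
    ∃ t ∈ T, t * y * t⁻¹ ∈ E := by
  have h1 : IsPGroup p (E.subgroupOf T) := hE.comap_of_injective _ (Subgroup.subtype_injective _)
  have h2 : ¬ p ∣ (E.subgroupOf T).index := by
    rintro ⟨k, hk⟩
    apply h
    have h3 := (E.subgroupOf T).card_mul_index
    rw [SubgroupTools.card_subgroupOf_of_le hET, hk] at h3
    rw [← h3]
    exact ⟨k, by ring⟩
  let P : Sylow p T := h1.toSylow h2
  have hP : (P : Subgroup T) = E.subgroupOf T := IsPGroup.toSylow_coe h1 h2
  obtain ⟨g, hg⟩ := sylow_conj_mem P (x := (⟨y, hy⟩ : T)) (n := n) (by rw [← hyp, ← Subgroup.orderOf_coe])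
  rw [hP] at hg
  exact ⟨g, g.2, hg⟩

namespace SyOm

variable {G : Type u} [Group G] [Finite G] {S : Setup G} {u w t ω : G} {K : Subgroup G} {P : Sylow 3 G}

open Four TS KK

theorem zp_le (d : SyOm S u w t K ω P) : Subgroup.zpowers ω ≤ (P : Subgroup G) := Subgroup.zpowers_le.2 d.memP

theorem card_NC (d : SyOm S u w t K ω P) :
    Nat.card ↥(Subgroup.normalizer ((P : Subgroup G) : Set G) ⊓ Subgroup.centralizer ({ω} : Set G)) = 108 := by
  set C := Subgroup.centralizer ({ω} : Set G) with hC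
  obtain ⟨φ, hs, hk⟩ := d.exists_hom
  have hωC : Subgroup.zpowers ω ≤ C := Subgroup.zpowers_le.2 (mem_centralizer_one.2 rfl)
  let P' : Subgroup C := (P : Subgroup G).subgroupOf C
  let T := P'.map φ
  have hker : φ.ker = (Subgroup.zpowers ω).subgroupOf C := by
    ext c
    rw [MonoidHom.mem_ker, hk, Subgroup.mem_subgroupOf]
  have hkc : Nat.card φ.ker = 3 := by
    rw [hker, SubgroupTools.card_subgroupOf_of_le hωC, Nat.card_zpowers, d.o3]
  have hT : Nat.card T = 9 := by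
    have h1 := SubgroupTools.card_map_mul_card_inf_ker φ P'
    have h2 : P' ⊓ φ.ker = φ.ker := by
      rw [inf_eq_right, hker]
      intro c hc
      exact d.zp_le hc
    rw [h2, hkc, SubgroupTools.card_subgroupOf_of_le d.leP] at h1
    have h3 : Nat.card (P : Subgroup G) = 27 := d.card27
    rw [h3] at h1
    show Nat.card (P'.map φ) = 9
    omega
  have h36 := JTwA6.card_norm T hT
  have h1 : (Subgroup.normalizer ((P : Subgroup G) : Set G) ⊓ C).subgroupOf C =
      (Subgroup.normalizer ((T : Subgroup (alternatingGroup (Fin 6))) : Set (alternatingGroup (Fin 6)))).comap φ := by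
    ext c
    rw [Subgroup.mem_subgroupOf, Subgroup.mem_comap, Subgroup.mem_inf]
    constructor
    · rintro ⟨h2, -⟩
      apply Subgroup.mem_normalizer_fintype
      rintro _ ⟨p, hp, rfl⟩
      refine ⟨c * p * c⁻¹, ?_, by rw [map_mul, map_mul, map_inv]⟩
      exact (Subgroup.mem_normalizer_iff.1 h2 p).1 hp
    · intro h2
      refine ⟨?_, c.2⟩
      apply Subgroup.mem_normalizer_fintype
      intro p hp
      have h3 : φ ⟨p, d.leP hp⟩ ∈ T := ⟨⟨p, d.leP hp⟩, hp, rfl⟩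
      obtain ⟨p', hp', h4⟩ := (Subgroup.mem_normalizer_iff.1 h2 _).1 h3
      have h5 : φ (p'⁻¹ * (c * ⟨p, d.leP hp⟩ * c⁻¹)) = 1 := by
        rw [map_mul, map_mul, map_mul, map_inv, map_inv, h4, inv_mul_cancel]
      rw [hk] at h5
      have h6 := mul_mem (show (p' : G) ∈ (P : Subgroup G) from hp') (d.zp_le h5)
      have h7 : (p' : G) * ((p'⁻¹ * (c * ⟨p, d.leP hp⟩ * c⁻¹) : C) : G) = c * p * (c : G)⁻¹ := by
        simp only [Subgroup.coe_mul, Subgroup.coe_inv]; group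
      rw [h7] at h6
      exact h6
  rw [← SubgroupTools.card_subgroupOf_of_le (inf_le_right : Subgroup.normalizer ((P : Subgroup G) : Set G) ⊓ C ≤ C), h1]
  have h2 := SubgroupTools.card_map_mul_card_inf_ker φ
    ((Subgroup.normalizer ((T : Subgroup (alternatingGroup (Fin 6))) : Set (alternatingGroup (Fin 6)))).comap φ)
  rw [Subgroup.map_comap_eq_self_of_surjective hs, h36, inf_eq_right.2 (by
    intro x hx
    rw [Subgroup.mem_comap, (MonoidHom.mem_ker).1 hx]; exact one_mem _), hkc] at h2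
  exact h2.symm

theorem exists_inv (d : SyOm S u w t K ω P) : ∃ n ∈ Subgroup.normalizer ((P : Subgroup G) : Set G), n * ω * n⁻¹ = ω⁻¹ := by
  have : Fact (Nat.Prime 3) := ⟨by norm_num⟩
  obtain ⟨g, hg⟩ := d.z3.inverted
  have h1 : ((g • P : Sylow 3 G) : Subgroup G) ≤ Subgroup.centralizer ({ω} : Set G) := by
    rintro _ ⟨p, hp, rfl⟩
    rw [mem_centralizer_one]
    show g * p * g⁻¹ * ω = ω * (g * p * g⁻¹)
    have h2 : p * ω = ω * p := mem_centralizer_one.1 (d.leP hp)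
    have h3 : (g * p * g⁻¹) * (g * ω * g⁻¹) = (g * ω * g⁻¹) * (g * p * g⁻¹) := by rw [← cj_mul, ← cj_mul, h2]
    rw [hg] at h3
    exact (Commute.inv_right_iff.1 (show Commute (g * p * g⁻¹) ω⁻¹ from h3)).eq
  obtain ⟨h, hh⟩ := MulAction.exists_smul_eq (Subgroup.centralizer ({ω} : Set G)) ((g • P).subtype h1) (P.subtype d.leP)
  rw [Sylow.smul_subtype] at hh
  have h2 := Sylow.subtype_injective hh
  refine ⟨(h : G) * g, ?_, ?_⟩
  · exact Sylow.smul_eq_iff_mem_normalizer.1 (by rw [mul_smul]; exact h2)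
  · rw [cj_cj, hg]
    have h3 : (h : G) * ω = ω * h := mem_centralizer_one.1 h.2
    exact cj_eq_self.2 (Commute.inv_right (show Commute (h : G) ω from h3)).eq

theorem inv_ne (d : SyOm S u w t K ω P) : ω ≠ ω⁻¹ := by
  intro h
  have h1 : ω * ω = 1 := by nth_rewrite 2 [h]; rw [mul_inv_cancel]
  have h2 : orderOf ω ∣ 2 := orderOf_dvd_of_pow_eq_one (by rw [pow_two]; exact h1)
  rw [d.o3] at h2
  revert h2; decide

theorem card_N (d : SyOm S u w t K ω P) : Nat.card (Subgroup.normalizer ((P : Subgroup G) : Set G)) = 216 := by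
  have h1 := InvAct.card_conj_orbit (Subgroup.normalizer ((P : Subgroup G) : Set G)) ω
  have h2 : {v : G | ∃ k ∈ Subgroup.normalizer ((P : Subgroup G) : Set G), k * ω * k⁻¹ = v} = {ω, ω⁻¹} := by
    ext v
    constructor
    · rintro ⟨n, hn, rfl⟩
      have h3 : n * ω * n⁻¹ ∈ (P : Subgroup G) := (Subgroup.mem_normalizer_iff.1 hn ω).1 d.memP
      have h4 : n * ω * n⁻¹ ∈ Subgroup.zpowers ω := by
        apply d.center_eq h3
        intro x hx
        have h5 : n⁻¹ * x * n ∈ (P : Subgroup G) := (Subgroup.mem_normalizer_iff''.1 hn x).1 hx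
        have h6 : (n⁻¹ * x * n) * ω = ω * (n⁻¹ * x * n) := mem_centralizer_one.1 (d.leP h5)
        calc x * (n * ω * n⁻¹) = n * ((n⁻¹ * x * n) * ω) * n⁻¹ := by group
          _ = n * (ω * (n⁻¹ * x * n)) * n⁻¹ := by rw [h6]
          _ = n * ω * n⁻¹ * x := by group
      rcases mem_zpowers_three (pow3 d.o3) h4 with h | h | h
      · exact absurd (cj_eq_one.1 h) (ne_one3 d.o3)
      · left; exact h
      · right; exact h
    · rintro (rfl | rfl)
      · exact ⟨1, one_mem _, by simp⟩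
      · exact d.exists_inv
  rw [h2, Set.ncard_pair d.inv_ne, d.card_NC] at h1
  exact h1

theorem T3_of (d : SyOm S u w t K ω P) {c : G} (hc : c ∈ (P : Subgroup G)) (hc3 : c ^ 3 = 1)
    (hcz : c ∉ Subgroup.zpowers ω) : T3 S c := by
  have : Fact (Nat.Prime 3) := ⟨by norm_num⟩
  obtain ⟨φ, hs, hk⟩ := d.exists_hom
  obtain ⟨hc0, hodd, hk'⟩ := cq_data d.o3 hk
  let c0 : ↥(Subgroup.centralizer ({ω} : Set G)) := ⟨c, d.leP hc⟩
  have hc01 : φ c0 ≠ 1 := fun h => hcz ((hk c0).1 h)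
  have hc03 : φ c0 ^ 3 = 1 := by
    rw [← map_pow]
    have : c0 ^ 3 = 1 := Subtype.ext hc3
    rw [this, map_one]
  obtain ⟨x, hx2, hx1, hx4, hx5⟩ := JTwA6.a6_three (φ c0) hc01 hc03
  obtain ⟨v, hv2, hv1, rfl⟩ := cq_lift hodd hs hk' hx2 hx1
  have hv'2 : (c0 * v * c0⁻¹) * (c0 * v * c0⁻¹) = 1 := by rw [cj_sq, hv2]; group
  have himg : φ (c0 * v * c0⁻¹) = φ c0 * φ v * (φ c0)⁻¹ := by rw [map_mul, map_mul, map_inv]
  have hcm : v * (c0 * v * c0⁻¹) = (c0 * v * c0⁻¹) * v := by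
    apply cq_comm hc0 hodd hk' hv'2
    rw [himg]; exact hx4
  have hvv2 : (v * (c0 * v * c0⁻¹)) * (v * (c0 * v * c0⁻¹)) = 1 := by
    calc (v * (c0 * v * c0⁻¹)) * (v * (c0 * v * c0⁻¹)) = v * ((c0 * v * c0⁻¹) * v) * (c0 * v * c0⁻¹) := by group
      _ = v * (v * (c0 * v * c0⁻¹)) * (c0 * v * c0⁻¹) := by rw [hcm]
      _ = (v * v) * ((c0 * v * c0⁻¹) * (c0 * v * c0⁻¹)) := by group
      _ = 1 := by rw [hv2, hv'2, one_mul]
  have hcc : c0 * (c0 * v * c0⁻¹) * c0⁻¹ = v * (c0 * v * c0⁻¹) := by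
    apply cq_eq hc0 hodd hk' _ hvv2
    · simp only [map_mul, map_inv]
      exact hx5.symm
    · rw [cj_sq, hv'2]; group
  -- move to G
  obtain ⟨a, ha⟩ : ∃ a : G, a = v := ⟨_, rfl⟩
  obtain ⟨b, hb⟩ : ∃ b : G, b = c * a * c⁻¹ := ⟨_, rfl⟩
  have hv' : ((c0 * v * c0⁻¹ : ↥(Subgroup.centralizer ({ω} : Set G))) : G) = b := by rw [hb, ha]; rfl
  have ha2 : a * a = 1 := by rw [ha]; exact congrArg Subtype.val hv2
  have ha1 : a ≠ 1 := by rw [ha]; exact fun h => hv1 (Subtype.ext h)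
  have hb2 : b * b = 1 := by rw [hb, cj_sq, ha2]; group
  have hb1 : b ≠ 1 := by rw [hb]; exact fun h => ha1 (cj_eq_one.1 h)
  have hab : a * b = b * a := by rw [← hv', ha]; exact congrArg Subtype.val hcm
  have hcb : c * b * c⁻¹ = a * b := by rw [← hv', ha]; exact congrArg Subtype.val hcc
  have hba : b ≠ a := by
    intro h
    rw [h, ha2, cj_eq_one] at hcb
    exact ha1 hcb
  have haω : a * ω = ω * a := by rw [ha]; exact mem_centralizer_one.1 v.2
  have hbω : b * ω = ω * b := by rw [← hv']; exact mem_centralizer_one.1 (c0 * v * c0⁻¹).2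
  have hZ : S.Z a := d.Z_of haω ha2 ha1
  have f1 : S.Four a b := ⟨hZ, hZ.base.three_mem haω.symm d.o3 hab.symm hbω hb2, hb2, hb1, hba⟩
  obtain ⟨t1, ht1⟩ := f1.exists_T
  obtain ⟨K1, k1⟩ := TS.exists_K (⟨f1, ht1, f1.not_Z ht1 d.hcl⟩ : TS S a b t1)
  obtain ⟨σ, hσK, hσD, hσ3, hσa⟩ := k1.exists_sigma
  have hσT : T3 S σ := ⟨a, b, t1, K1, k1, hσ3, hσK⟩
  have hcard := k1.toTS.card_M
  -- the subgroup `⟨ω, c⟩`
  have hcω : c * ω = ω * c := mem_centralizer_one.1 (d.leP hc)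
  have hc1 : c ≠ 1 := fun h => hcz (by rw [h]; exact one_mem _)
  have hle : Subgroup.zpowers c ≤ Subgroup.normalizer ((Subgroup.zpowers ω : Subgroup G) : Set G) := by
    rw [Subgroup.zpowers_le]
    apply Subgroup.mem_normalizer_fintype
    rintro _ ⟨n, rfl⟩
    have h3 : c * ω ^ n = ω ^ n * c := (Commute.zpow_right hcω n)
    show c * ω ^ n * c⁻¹ ∈ _
    rw [h3, mul_inv_cancel_right]
    exact ⟨n, rfl⟩
  have hinf : Subgroup.zpowers ω ⊓ Subgroup.zpowers c = ⊥ := by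
    rw [Subgroup.eq_bot_iff_forall]
    rintro y ⟨hy1, hy2⟩
    by_contra hy
    apply hcz
    rw [← zpowers_eq (p := 3) (by norm_num) d.o3 hy1 hy, zpowers_eq (p := 3) (by norm_num) (ord3 hc3 hc1) hy2 hy]
    exact Subgroup.mem_zpowers c
  have hE := SubgroupTools.card_sup_mul_card_inf hle
  rw [hinf, Subgroup.card_bot, mul_one, Nat.card_zpowers, Nat.card_zpowers, d.o3, ord3 hc3 hc1] at hE
  have hωV : ∀ y ∈ V a b, ω * y = y * ω := fun y hy => f1.comm_V haω.symm hbω.symm hy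
  have hEN : Subgroup.zpowers ω ⊔ Subgroup.zpowers c ≤ Subgroup.normalizer ((V a b : Subgroup G) : Set G) := by
    apply sup_le
    · rw [Subgroup.zpowers_le]
      apply Subgroup.mem_normalizer_fintype
      intro y hy
      rw [cj_eq_self.2 (hωV y hy)]; exact hy
    · rw [Subgroup.zpowers_le]
      apply Subgroup.mem_normalizer_fintype
      intro y hy
      rw [SetLike.mem_coe, f1.mem_V] at hy ⊢
      rcases hy with rfl | rfl | rfl | rfl
      · left; group
      · right; right; left; exact hb.symm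
      · right; right; right; exact hcb
      · right; left
        rw [cj_mul, hcb, ← hb]
        calc b * (a * b) = b * (b * a) := by rw [hab]
          _ = (b * b) * a := by rw [mul_assoc]
          _ = a := by rw [hb2, one_mul]
  obtain ⟨g, hg, hgE⟩ := sylow_conj_into (p := 3) (Subgroup.normalizer ((V a b : Subgroup G) : Set G))
    (Subgroup.zpowers ω ⊔ Subgroup.zpowers c) hEN (IsPGroup.of_card (n := 2) (by rw [hE]; norm_num))
    (by rw [hE, hcard]; norm_num) (mem_D.1 hσD).1 (n := 1) (by rw [hσ3, pow_one])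
  rw [SubgroupTools.mem_sup_of_le_normalizer hle] at hgE
  obtain ⟨r, hr, s, hs', hrs⟩ := hgE
  rcases mem_zpowers_three hc3 hs' with h | h | h
  · exfalso
    rw [h, mul_one] at hrs
    apply hσa
    have h1 : g * a * g⁻¹ ∈ V a b := (Subgroup.mem_normalizer_iff.1 hg a).1 (f1.mem_V.2 (by tauto))
    have h2 : (g * σ * g⁻¹) * (g * a * g⁻¹) = (g * a * g⁻¹) * (g * σ * g⁻¹) := by
      rw [← hrs]
      obtain ⟨i, hi⟩ := hr
      have hi : ω ^ i = r := hi
      rw [← hi]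
      exact (Commute.zpow_left (show Commute ω (g * a * g⁻¹) from hωV _ h1) i).eq
    rw [← cj_mul, ← cj_mul] at h2
    exact cj_inj h2
  · rw [h] at hrs
    obtain ⟨p, hp⟩ := d.conj_zc hc hcz hr
    have h1 : c = (p⁻¹ * g) * σ * (p⁻¹ * g)⁻¹ := by
      have h2 : p * c * p⁻¹ = g * σ * g⁻¹ := hp.trans hrs
      rw [cj_cj, ← h2]; group
    rw [h1]; exact hσT.conj _
  · rw [h] at hrs
    obtain ⟨p, hp⟩ := d.conj_zc (inv_mem hc) (fun h => hcz (by rw [← inv_inv c]; exact inv_mem h)) hr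
    have h1 : c⁻¹ = (p⁻¹ * g) * σ * (p⁻¹ * g)⁻¹ := by
      have h2 : p * c⁻¹ * p⁻¹ = g * σ * g⁻¹ := hp.trans hrs
      rw [cj_cj, ← h2]; group
    have h3 : T3 S c⁻¹ := by rw [h1]; exact hσT.conj _
    have := h3.inv
    rwa [inv_inv] at this

end SyOm

end Cfsg.Agent.Lib.JTw
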