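import Cfsg.Agent.Lib.JTw20
import Mathlib

/-!
# Groups of Hall–Janko type: Sylow 7-subgroups
-/

set_option autoImplicit false

universe u

namespace Cfsg.Agent.Lib.JTw

open Cfsg Cfsg.Agent.Lib Cfsg.Agent.Lib.LargeExtra Setup

theorem cq_card_top {G : Type*} [Group G] [Finite G] {x : G} (hx : orderOf x = 3) {L : Type*} [Group L]
    {π : ↥(Subgroup.centralizer ({x} : Set G)) →* L} (hπs : Function.Surjective π)
    (hπ : ∀ c, π c = 1 ↔ (c : G) ∈ Subgroup.zpowers x) :
    Nat.card (Subgroup.centralizer ({x} : Set G)) = Nat.card L * 3 := by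
  obtain ⟨hc0, hodd, hπ'⟩ := cq_data hx hπ
  have h1 := cq_card hπs hc0 hodd hπ' (s := 1) (by simp)
  have h2 : Subgroup.centralizer ({(1 : ↥(Subgroup.centralizer ({x} : Set G)))} : Set _) = ⊤ := by
    rw [eq_top_iff]; intro x _; rw [mem_centralizer_one]; simp
  have h3 : Subgroup.centralizer ({π 1} : Set L) = ⊤ := by
    rw [eq_top_iff]; intro x _; rw [mem_centralizer_one]; simp
  rw [h2, h3, Subgroup.card_top, Subgroup.card_top, ← Subgroup.orderOf_coe] at h1
  rw [h1]
  show Nat.card L * orderOf x = _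
  rw [hx]

namespace P3

variable {G : Type u} [Group G] [Finite G] {S : Setup G} {u w t σ : G} {K : Subgroup G}

open Four TS KK

theorem gen (d : P3 S u w t K σ) {L : Type*} [Group L] [Finite L] {π : ↥(Subgroup.centralizer ({σ} : Set G)) →* L}
    (hπs : Function.Surjective π) (hπ : ∀ c, π c = 1 ↔ (c : G) ∈ Subgroup.zpowers σ) {q : ℕ} (hq3 : 3 < q)
    (h9 : q ∣ Nat.card L) (hno : ∀ e : L, e * e = 1 → e ≠ 1 → Nat.Coprime q (Nat.card (Subgroup.centralizer ({e} : Set L)))) :
    Nat.card L = 60 := by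
  have : Fact (Nat.Prime 3) := ⟨by norm_num⟩
  obtain ⟨hc0, hodd, hπ'⟩ := cq_data d.s3 hπ
  have hσt := d.comm_t d.sK
  let t0 : ↥(Subgroup.centralizer ({σ} : Set G)) := ⟨t, mem_centralizer_one.2 hσt.symm⟩
  have ht0 : t0 * t0 = 1 := Subtype.ext d.toTS.t_sq
  have ht02 : π t0 * π t0 = 1 := by rw [← map_mul, ht0, map_one]
  have hYle : Y K t ≤ Subgroup.centralizer ({σ} : Set G) := fun y hy =>
    mem_centralizer_one.2 ((mem_Y.1 hy).1 σ d.sK).symm
  let F : ↥(Y K t) →* L := π.comp (Subgroup.inclusion hYle)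
  have hFi : Function.Injective F := by
    rw [injective_iff_map_eq_one]
    intro y hy
    have h1 : (y : G) ∈ Subgroup.zpowers σ := (hπ _).1 hy
    exact Subtype.ext (d.Y_inf y.2 ((Subgroup.zpowers_le.2 d.sK) h1))
  have hr : F.range = Subgroup.centralizer ({π t0} : Set L) := by
    apply le_antisymm
    · rintro _ ⟨y, rfl⟩
      rw [mem_centralizer_one]
      show π (Subgroup.inclusion hYle y) * π t0 = π t0 * π (Subgroup.inclusion hYle y)
      rw [← map_mul, ← map_mul]
      congr 1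
      exact Subtype.ext (mem_Y.1 y.2).2
    · intro a ha
      rw [mem_centralizer_one] at ha
      obtain ⟨c, rfl⟩ := hπs a
      have h1 := cq_comm hc0 hodd hπ' ht0 ha
      obtain ⟨y, hy, r, hr, hc⟩ := d.cent (mem_centralizer_one.1 c.2) (congrArg Subtype.val h1)
      have hrC : r ∈ Subgroup.centralizer ({σ} : Set G) := (Subgroup.zpowers_le.2 (mem_centralizer_one.2 rfl)) hr
      refine ⟨⟨y, hy⟩, ?_⟩
      show π ⟨y, hYle hy⟩ = π c
      have h2 : c = ⟨y, hYle hy⟩ * ⟨r, hrC⟩ := Subtype.ext hc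
      rw [h2, map_mul, (hπ ⟨r, hrC⟩).2 hr, mul_one]
  have ht01 : π t0 ≠ 1 := by
    intro h
    have : F ⟨t, d.t_mem_Y⟩ = 1 := h
    rw [← map_one F] at this
    exact d.toTS.t_ne (congrArg Subtype.val (hFi this))
  have hC4 : Nat.card (Subgroup.centralizer ({π t0} : Set L)) = 4 := by
    rw [← hr, ← d.card_Y]
    exact (Nat.card_congr (MonoidHom.ofInjective hFi).toEquiv).symm
  have hCe : ∀ c ∈ Subgroup.centralizer ({π t0} : Set L), c ^ 2 = 1 := by
    intro c hc
    rw [← hr] at hc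
    obtain ⟨y, rfl⟩ := hc
    rw [← map_pow, pow_two]
    have : y * y = 1 := Subtype.ext (d.Y_sq y.2)
    rw [this, map_one]
  obtain ⟨ω, dω⟩ := d.toKK.exists_om
  have hωσ : ω * σ = σ * ω := dω.comm d.sK
  let ω0 : ↥(Subgroup.centralizer ({σ} : Set G)) := ⟨ω, mem_centralizer_one.2 hωσ⟩
  have hω0 : ω0 ^ 3 = 1 := Subtype.ext (pow3 dω.o3)
  have hωt : ω * t ≠ t * ω := by
    intro h
    have h1 := d.Y_sq (d.toKK.W_inf dω.oW h)
    have h2 : orderOf ω ∣ 2 := orderOf_dvd_of_pow_eq_one (by rw [pow_two]; exact h1)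
    rw [dω.o3] at h2
    revert h2; decide
  have hy : ω * t * ω⁻¹ * t⁻¹ ∈ Y K t :=
    mul_mem ((Subgroup.mem_normalizer_iff.1 dω.oW.2 t).1 d.t_mem_Y) (inv_mem d.t_mem_Y)
  obtain ⟨e⟩ := S3277.result (π t0) (InvAct.orderOf_two_iff.2 ⟨ht02, ht01⟩) hC4 hCe (by
    rintro ⟨P, N, hN, hNP⟩
    have : Fact (Nat.Prime 2) := ⟨Nat.prime_two⟩
    have hcard := hNP.card_mul
    have hNodd : ¬ 2 ∣ Nat.card N := by
      intro h
      apply P.not_dvd_index
      have h1 := (P : Subgroup L).card_mul_index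
      rw [← hcard, mul_comm] at h1
      rw [Nat.eq_of_mul_eq_mul_right Nat.card_pos h1]
      exact h
    have hidx : N.index = Nat.card P := by
      have h1 := N.card_mul_index
      rw [← hcard] at h1
      exact Nat.eq_of_mul_eq_mul_left Nat.card_pos h1
    obtain ⟨n, hn⟩ := IsPGroup.iff_card.1 P.2
    have hω1 : π ω0 ∈ N := by
      have h1 := N.pow_index_mem (π ω0)
      rw [hidx, hn] at h1
      have h2 := two_pow_mod n
      have h3 : π ω0 ^ 3 = 1 := by rw [← map_pow, hω0, map_one]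
      have h4 : ∀ m : ℕ, π ω0 ^ m = π ω0 ^ (m % 3) := by
        intro m
        conv_lhs => rw [← Nat.div_add_mod m 3, pow_add, pow_mul, h3, one_pow, one_mul]
      rw [h4] at h1
      rcases h2 with h2 | h2
      · rwa [h2, pow_one] at h1
      · rw [h2] at h1
        have h5 : π ω0 = (π ω0 ^ 2)⁻¹ := by
          rw [eq_inv_iff_mul_eq_one, ← pow_succ', h3]
        rw [h5]; exact inv_mem h1
    have h5 : F ⟨_, hy⟩ ∈ N := by
      have h6 : F ⟨_, hy⟩ = π ω0 * (π t0 * (π ω0)⁻¹ * (π t0)⁻¹) := by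
        have h7 : F ⟨_, hy⟩ = π (ω0 * t0 * ω0⁻¹ * t0⁻¹) := rfl
        rw [h7, map_mul, map_mul, map_mul, map_inv, map_inv]; group
      rw [h6]
      exact mul_mem hω1 (hN.conj_mem _ (inv_mem hω1) _)
    have h6 : orderOf (F ⟨_, hy⟩) = 2 := by
      rw [InvAct.orderOf_two_iff]
      constructor
      · rw [← map_mul]
        have : (⟨_, hy⟩ : Y K t) * ⟨_, hy⟩ = 1 := Subtype.ext (d.Y_sq hy)
        rw [this, map_one]
      · intro h
        rw [← map_one F] at h
        have h7 : ω * t * ω⁻¹ * t⁻¹ = 1 := congrArg Subtype.val (hFi h)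
        apply hωt
        rw [mul_inv_eq_one, mul_inv_eq_iff_eq_mul] at h7
        exact h7
    apply hNodd
    rw [← h6]
    exact Subgroup.orderOf_dvd_natCard _ h5) (by
    intro E hE hEe
    have key : Nat.card E ≤ 4 → 1 < Nat.card E → False := by
      intro h4 h1
      rw [Finite.one_lt_card_iff_nontrivial] at h1
      obtain ⟨e, he⟩ := exists_ne (1 : E)
      have he1 : (e : L) ≠ 1 := fun h => he (Subtype.ext h)
      have he2 : (e : L) * e = 1 := by rw [← pow_two]; exact hEe.2 e e.2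
      have h5 := InvAct.card_conj_orbit (⊤ : Subgroup L) (e : L)
      rw [top_inf_eq, Subgroup.card_top] at h5
      have h6 : {v : L | ∃ k ∈ (⊤ : Subgroup L), k * (e : L) * k⁻¹ = v}.ncard ≤ 3 := by
        have h7 : {v : L | ∃ k ∈ (⊤ : Subgroup L), k * (e : L) * k⁻¹ = v} ⊆ (E : Set L) \ {1} := by
          rintro _ ⟨g, -, rfl⟩
          exact ⟨hE.conj_mem _ e.2 g, fun h => he1 (cj_eq_one.1 h)⟩
        have h8 := Set.ncard_le_ncard h7 (Set.toFinite _)
        rw [Set.ncard_sdiff_singleton_of_mem (one_mem _), ← card_eq_ncard] at h8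
        omega
      rw [h5] at h9
      have h12 := Nat.Coprime.dvd_of_dvd_mul_right (hno _ he2 he1) h9
      have h13 : 0 < {v : L | ∃ k ∈ (⊤ : Subgroup L), k * (e : L) * k⁻¹ = v}.ncard := by
        rw [Set.ncard_pos (Set.toFinite _)]
        exact ⟨e, 1, trivial, by simp⟩
      have := Nat.le_of_dvd h13 h12
      omega
    constructor
    · intro h; exact key (by omega) (by omega)
    · intro h; exact key (by omega) (by omega))
  rw [Nat.card_congr e.toEquiv, Base.card_alt5]

theorem not7 (d : P3 S u w t K σ) : ¬ 7 ∣ Nat.card (Subgroup.centralizer ({σ} : Set G)) := by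
  intro h7
  let c0 : ↥(Subgroup.centralizer ({σ} : Set G)) := ⟨σ, mem_centralizer_one.2 rfl⟩
  have hc0 : ∀ h : ↥(Subgroup.centralizer ({σ} : Set G)), h * c0 = c0 * h := fun h =>
    Subtype.ext (mem_centralizer_one.1 h.2)
  obtain ⟨L, _, _, π, hπs, hπ'⟩ := exists_quot hc0
  have hπ : ∀ h, π h = 1 ↔ (h : G) ∈ Subgroup.zpowers σ := by
    intro h
    rw [hπ']
    constructor
    · rintro ⟨i, hi⟩; exact ⟨i, congrArg Subtype.val hi⟩
    · rintro ⟨i, hi⟩; exact ⟨i, Subtype.ext hi⟩
  obtain ⟨hc0, hodd, hπ''⟩ := cq_data d.s3 hπ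
  rw [cq_card_top d.s3 hπs hπ] at h7
  have h7' : 7 ∣ Nat.card L := Nat.Coprime.dvd_of_dvd_mul_right (by norm_num) h7
  have h60 := d.gen hπs hπ (q := 7) (by norm_num) h7' (by
    intro e he2 he1
    obtain ⟨h, hh2, hh1, rfl⟩ := cq_lift hodd hπs hπ'' he2 he1
    have h1 := cq_card hπs hc0 hodd hπ'' hh2
    rw [Nat.Prime.coprime_iff_not_dvd (by norm_num)]
    intro h2
    have h3 : 7 ∣ Nat.card (Subgroup.centralizer ({h} : Set ↥(Subgroup.centralizer ({σ} : Set G)))) := by
      rw [h1]; exact Dvd.dvd.mul_right h2 _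
    have h4 : Nat.card (Subgroup.centralizer ({h} : Set ↥(Subgroup.centralizer ({σ} : Set G)))) ∣
        Nat.card (Subgroup.centralizer ({(h : G)} : Set G)) := by
      let F : ↥(Subgroup.centralizer ({h} : Set ↥(Subgroup.centralizer ({σ} : Set G)))) →*
          ↥(Subgroup.centralizer ({(h : G)} : Set G)) :=
        ((Subgroup.subtype _).comp (Subgroup.subtype _)).codRestrict _ (fun x =>
          mem_centralizer_one.2 (congrArg Subtype.val (mem_centralizer_one.1 x.2)))
      apply Subgroup.card_dvd_of_injective F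
      intro x y hxy
      exact Subtype.ext (Subtype.ext (congrArg (fun s : ↥(Subgroup.centralizer ({(h : G)} : Set G)) => (s : G)) hxy))
    have h5 := h3.trans h4
    have hg2 : (h : G) * h = 1 := congrArg Subtype.val hh2
    have hg1 : (h : G) ≠ 1 := fun h => hh1 (Subtype.ext h)
    rcases d.f.inv_type d.ht hg2 hg1 with h | h
    · rw [h.base.card_cent] at h5; revert h5; decide
    · rw [← InvLocal.card_centralizer_eq_of_isConj h, d.card_Ct] at h5; revert h5; decide)
  rw [h60] at h7'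
  revert h7'; decide

end P3

namespace SyOm

variable {G : Type u} [Group G] [Finite G] {S : Setup G} {u w t ω : G} {K : Subgroup G} {P : Sylow 3 G}

open Four TS KK

theorem cent3 (d : SyOm S u w t K ω P) {c : G} (hc : orderOf c = 3) : IsConj c ω ∨ T3 S c := by
  have : Fact (Nat.Prime 3) := ⟨by norm_num⟩
  obtain ⟨h, hh⟩ := sylow_conj_mem (p := 3) (n := 1) P (by rw [hc, pow_one])
  by_cases hz' : h * c * h⁻¹ ∈ Subgroup.zpowers ω
  · left
    rcases mem_zpowers_three (pow3 d.o3) hz' with h1 | h1 | h1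
    · exact absurd (cj_eq_one.1 h1) (ne_one3 hc)
    · exact isConj_iff.2 ⟨h, h1⟩
    · obtain ⟨x, hx⟩ := d.z3.inverted
      refine IsConj.trans (isConj_iff.2 ⟨h, h1⟩) (IsConj.symm (isConj_iff.2 ⟨x, hx⟩))
  · right
    have h1 := d.T3_of hh (by rw [_root_.conj_pow, pow3 hc]; group) hz'
    have h2 : c = h⁻¹ * (h * c * h⁻¹) * h⁻¹⁻¹ := by group
    rw [h2]; exact h1.conj _

/-- no element of order 2 or 3 centralizes an element of order 7. -/
theorem seven (d : SyOm S u w t K ω P) {c : G} (hc : orderOf c = 2 ∨ orderOf c = 3) :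
    ¬ 7 ∣ Nat.card (Subgroup.centralizer ({c} : Set G)) := by
  intro h7
  rcases hc with hc | hc
  · obtain ⟨hc2, hc1⟩ := InvAct.orderOf_two_iff.1 hc
    rcases d.f.inv_type d.ht hc2 hc1 with h | h
    · rw [h.base.card_cent] at h7; revert h7; decide
    · rw [← InvLocal.card_centralizer_eq_of_isConj h, d.card_Ct] at h7; revert h7; decide
  · rcases d.cent3 hc with h | ⟨u', w', t', K', d'⟩
    · rw [InvLocal.card_centralizer_eq_of_isConj h, d.card_C] at h7; revert h7; decide
    · exact d'.not7 h7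

theorem sylow7 (d : SyOm S u w t K ω P) (D : Sylow 7 G) : Subgroup.centralizer ((D : Subgroup G) : Set G) = D ∧
    Nat.card (Subgroup.normalizer ((D : Subgroup G) : Set G)) = 42 ∧
    ¬ IsMulCommutative (Subgroup.normalizer ((D : Subgroup G) : Set G)) := by
  have : Fact (Nat.Prime 7) := ⟨by norm_num⟩
  have hG : Nat.card G = 604800 := d.card_G
  have hD : Nat.card (D : Subgroup G) = 7 := by
    obtain ⟨n, hn⟩ := IsPGroup.iff_card.1 D.2
    change Nat.card (D : Subgroup G) = 7 ^ n at hn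
    have h1 : (7 ^ 1 : ℕ) ∣ Nat.card D := by
      apply Sylow.pow_dvd_card_of_pow_dvd_card
      rw [hG]; norm_num
    change 7 ^ 1 ∣ Nat.card (D : Subgroup G) at h1
    have h2 : Nat.card (D : Subgroup G) ∣ 604800 := by
      rw [← hG]; exact Subgroup.card_subgroup_dvd_card _
    rw [hn] at h1 h2
    have h3 : 1 ≤ n := (Nat.pow_dvd_pow_iff_le_right (by norm_num)).1 h1
    have h4 : n ≤ 1 := by
      by_contra h4
      have h5 : 7 ^ 2 ∣ 604800 := dvd_trans (pow_dvd_pow 7 (by omega)) h2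
      revert h5; decide
    have h5 : n = 1 := le_antisymm h4 h3
    rw [hn, h5]; norm_num
  have hcyc : IsCyclic (D : Subgroup G) := isCyclic_of_prime_card hD
  set C := Subgroup.centralizer ((D : Subgroup G) : Set G) with hC
  set N := Subgroup.normalizer ((D : Subgroup G) : Set G) with hN
  have hDC : (D : Subgroup G) ≤ C := by
    intro x hx
    rw [hC, Subgroup.mem_centralizer_iff]
    intro y hy
    exact congrArg Subtype.val (IsMulCommutative.is_comm.comm (⟨y, hy⟩ : (D : Subgroup G)) ⟨x, hx⟩)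
  have hCN : C ≤ N := Subgroup.centralizer_le_normalizer _
  -- the index of `C` in `N`
  have hidx : ∃ i, i ∣ 6 ∧ Nat.card N = Nat.card C * i := by
    have h1 := (D : Subgroup G).normalizerMonoidHom.ker.card_mul_index
    rw [Subgroup.index_ker, Subgroup.normalizerMonoidHom_ker, SubgroupTools.card_subgroupOf_of_le hCN] at h1
    refine ⟨_, ?_, h1.symm⟩
    have h2 := Subgroup.card_subgroup_dvd_card (D : Subgroup G).normalizerMonoidHom.range
    rw [IsCyclic.card_mulAut, hD, Nat.totient_prime (by norm_num)] at h2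
    exact h2
  -- the order of `C`
  have hCc : ∃ c, c ∣ 25 ∧ Nat.card C = 7 * c := by
    obtain ⟨c, hc⟩ := Subgroup.card_dvd_of_le hDC
    rw [hD] at hc
    refine ⟨c, ?_, hc⟩
    have h1 : Nat.card C ∣ 604800 := by rw [← hG]; exact Subgroup.card_subgroup_dvd_card _
    rw [hc] at h1
    have h2 : c ∣ 86400 := Nat.dvd_of_mul_dvd_mul_left (k := 7) (by norm_num) (by simpa using h1)
    have key : ∀ p : ℕ, p.Prime → p = 2 ∨ p = 3 → ¬ p ∣ c := by
      intro p hp hp23 hpc
      have : Fact p.Prime := ⟨hp⟩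
      obtain ⟨x, hx⟩ := exists_prime_orderOf_dvd_card' (G := C) p (by rw [hc]; exact Dvd.dvd.mul_left hpc 7)
      have hx' : orderOf (x : G) = p := by rw [Subgroup.orderOf_coe]; exact hx
      apply d.seven (c := (x : G)) (by rw [hx']; exact hp23)
      rw [← hD]
      apply Subgroup.card_dvd_of_le
      intro y hy
      exact mem_centralizer_one.2 (Subgroup.mem_centralizer_iff.1 x.2 y hy)
    have h3 : Nat.Coprime c (2 ^ 7 * 3 ^ 3) := by
      apply Nat.Coprime.mul_right
      · exact Nat.Coprime.pow_right _ ((Nat.Prime.coprime_iff_not_dvd Nat.prime_two).2 (key 2 Nat.prime_two (Or.inl rfl))).symm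
      · exact Nat.Coprime.pow_right _ ((Nat.Prime.coprime_iff_not_dvd Nat.prime_three).2 (key 3 Nat.prime_three (Or.inr rfl))).symm
    exact Nat.Coprime.dvd_of_dvd_mul_left h3 (by norm_num; exact h2)
  obtain ⟨i, hi, hi2⟩ := hidx
  obtain ⟨c, hc, hc2⟩ := hCc
  have h1 := N.card_mul_index
  rw [hi2, hc2, hG] at h1
  have h2 := card_sylow_modEq_one (p := 7) (G := G)
  rw [D.card_eq_index_normalizer] at h2
  change N.index ≡ 1 [MOD 7] at h2
  rw [Nat.ModEq] at h2
  have hi' : i = 1 ∨ i = 2 ∨ i = 3 ∨ i = 6 := by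
    have : i ≤ 6 := Nat.le_of_dvd (by norm_num) hi
    interval_cases i <;> simp_all
  have hc' : c = 1 ∨ c = 5 ∨ c = 25 := by
    obtain ⟨k, hk, hk2⟩ := (Nat.dvd_prime_pow (by norm_num : Nat.Prime 5)).1 (show c ∣ 5 ^ 2 by simpa using hc)
    interval_cases k
    · left; simpa using hk2
    · right; left; simpa using hk2
    · right; right; simpa using hk2
  have h6 : i = 6 ∧ c = 1 := by
    rcases hi' with rfl | rfl | rfl | rfl <;> rcases hc' with rfl | rfl | rfl <;> first | exact ⟨rfl, rfl⟩ | (exfalso; omega)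
  obtain ⟨rfl, rfl⟩ := h6
  have hCD : C = D := (Subgroup.eq_of_le_of_card_ge hDC (by rw [hc2, hD])).symm
  refine ⟨hCD, by rw [hi2, hc2], ?_⟩
  intro hcomm
  have h7 : N ≤ C := by
    intro x hx
    rw [hC, Subgroup.mem_centralizer_iff]
    intro y hy
    exact congrArg Subtype.val (hcomm.is_comm.comm (⟨y, hCN (hDC hy)⟩ : N) ⟨x, hx⟩)
  have h8 := Subgroup.card_le_of_le h7
  rw [hi2, hc2] at h8
  omega

end SyOm

end Cfsg.Agent.Lib.JTw
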