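import Cfsg.Agent.Lib.JTw21
import Cfsg.Agent.Lib.JTwB5
import Mathlib

set_option autoImplicit false
set_option linter.all false
set_option linter.unusedSectionVars false

/-! J2-type groups: the commuting `A5` of a `5A`-element. -/

namespace Cfsg.Agent.Lib.JTw

open Cfsg Cfsg.Agent.Lib Cfsg.Agent.Lib.LargeExtra Setup

theorem conj_zp {G : Type*} [Group G] {x y c : G} (hxy : y * x * y⁻¹ = x⁻¹) (hc : c ∈ Subgroup.zpowers x) :
    y * c * y⁻¹ = c⁻¹ := by
  obtain ⟨i, rfl⟩ := Subgroup.mem_zpowers_iff.1 hc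
  rw [← conj_zpow, hxy, inv_zpow]

/-- the centralizer of a dihedral group of order 10 -/
theorem cent_pair {G : Type*} [Group G] [Finite G] {x y : G} (h5 : orderOf x = 5) (hxy : y * x * y⁻¹ = x⁻¹)
    {φ : ↥(Subgroup.centralizer ({x} : Set G)) →* alternatingGroup (Fin 5)} (hs : Function.Surjective φ)
    (hk : ∀ c, φ c = 1 ↔ (c : G) ∈ Subgroup.zpowers x) {a b : G} (hax : a * x = x * a) (hbx : b * x = x * b)
    (hay : a * y = y * a) (hby : b * y = y * b) (ha3 : a ^ 3 = 1) (ha1 : a ≠ 1) (hb2 : b * b = 1) (hb1 : b ≠ 1)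
    (hab : a * b * a * b * a * b = 1) :
    ∃ e : ↥(Subgroup.centralizer ({x} : Set G) ⊓ Subgroup.centralizer ({y} : Set G)) ≃* alternatingGroup (Fin 5), True := by
  have hyx : y⁻¹ * x * y = x⁻¹ := by
    have : y⁻¹ * (y * x * y⁻¹)⁻¹ * y = x⁻¹ := by group
    rw [hxy, inv_inv] at this
    exact this
  have hC : ∀ c ∈ Subgroup.centralizer ({x} : Set G), y * c * y⁻¹ ∈ Subgroup.centralizer ({x} : Set G) := by
    intro c hc
    rw [mem_centralizer_one] at hc ⊢
    have hc' : c * x⁻¹ = x⁻¹ * c := by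
      have : Commute c x := hc
      exact this.inv_right
    calc y * c * y⁻¹ * x = y * (c * (y⁻¹ * x * y)) * y⁻¹ := by group
      _ = y * ((y⁻¹ * x * y) * c) * y⁻¹ := by rw [hyx, hc']
      _ = x * (y * c * y⁻¹) := by group
  let β : ↥(Subgroup.centralizer ({x} : Set G)) →* ↥(Subgroup.centralizer ({x} : Set G)) :=
    { toFun := fun c => ⟨y * c * y⁻¹, hC c c.2⟩
      map_one' := Subtype.ext (by simp)
      map_mul' := fun c d => Subtype.ext (by
        show y * (c * d : G) * y⁻¹ = (y * c * y⁻¹) * (y * d * y⁻¹)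
        group) }
  have hβ : ∀ c, ((β c : ↥(Subgroup.centralizer ({x} : Set G))) : G) = y * c * y⁻¹ := fun c => rfl
  have hker : φ.ker ≤ (φ.comp β).ker := by
    intro c hc
    rw [MonoidHom.mem_ker] at hc ⊢
    show φ (β c) = 1
    rw [hk] at hc ⊢
    rw [hβ, conj_zp hxy hc]
    exact (Subgroup.zpowers x).inv_mem hc
  let α : alternatingGroup (Fin 5) →* alternatingGroup (Fin 5) := (φ.liftOfSurjective hs) ⟨φ.comp β, hker⟩
  have hα : ∀ c, α (φ c) = φ (β c) := fun c => φ.liftOfRightInverse_comp_apply _ _ ⟨φ.comp β, hker⟩ c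
  have hαi : Function.Injective α := by
    rw [injective_iff_map_eq_one]
    intro g hg
    obtain ⟨c, rfl⟩ := hs g
    rw [hα, hk, hβ] at hg
    rw [hk]
    have h1 := conj_zp (x := x) (y := y⁻¹) (by rw [inv_inv]; exact hyx) hg
    have h2 : y⁻¹ * (y * (c : G) * y⁻¹) * y⁻¹⁻¹ = c := by group
    rw [h2] at h1
    rw [h1]
    exact (Subgroup.zpowers x).inv_mem hg
  have hαb : Function.Bijective α := Finite.injective_iff_bijective.1 hαi
  obtain ⟨σ, hσ⟩ := (AutAlt.bijective_conjNormal (α := Fin 5) (by decide) (by decide)).2 (MulEquiv.ofBijective α hαb)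
  have hσ' : ∀ g : alternatingGroup (Fin 5), ((α g : alternatingGroup (Fin 5)) : Equiv.Perm (Fin 5)) = σ * g * σ⁻¹ := by
    intro g
    have := DFunLike.congr_fun hσ g
    have h2 := congrArg (fun s : alternatingGroup (Fin 5) => (s : Equiv.Perm (Fin 5))) this
    simp only [MulAut.conjNormal_apply] at h2
    exact h2.symm
  have hfix : ∀ (c : G) (hc : c ∈ Subgroup.centralizer ({x} : Set G)), c * y = y * c → α (φ ⟨c, hc⟩) = φ ⟨c, hc⟩ := by
    intro c hc hcy
    rw [hα]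
    congr 1
    apply Subtype.ext
    rw [hβ]
    show y * c * y⁻¹ = c
    rw [← hcy]; group
  have haC : a ∈ Subgroup.centralizer ({x} : Set G) := mem_centralizer_one.2 hax
  have hbC : b ∈ Subgroup.centralizer ({x} : Set G) := mem_centralizer_one.2 hbx
  have cop : ∀ (c : G) (hc : c ∈ Subgroup.centralizer ({x} : Set G)) (n : ℕ), c ^ n = 1 → Nat.Coprime n 5 → c ≠ 1 → φ ⟨c, hc⟩ ≠ 1 := by
    intro c hc n hcn hn hc1 h
    rw [hk] at h
    apply hc1
    have h1 : orderOf c ∣ 5 := by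
      rw [← h5]
      exact orderOf_dvd_of_mem_zpowers h
    have h2 : orderOf c ∣ n := orderOf_dvd_of_pow_eq_one hcn
    have h3 := Nat.dvd_gcd h2 h1
    rw [hn, Nat.dvd_one, orderOf_eq_one_iff] at h3
    exact h3
  have hσ1 : σ = 1 := by
    apply JTwB5.a5_fix (φ ⟨a, haC⟩) (φ ⟨b, hbC⟩) (cop a haC 3 ha3 (by norm_num) ha1) ?_
      (cop b hbC 2 (by rw [pow_two]; exact hb2) (by norm_num) hb1) ?_ ?_ σ ?_ ?_
    · rw [← map_pow]
      have : (⟨a, haC⟩ : ↥(Subgroup.centralizer ({x} : Set G))) ^ 3 = 1 := Subtype.ext ha3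
      rw [this, map_one]
    · rw [← map_mul]
      have : (⟨b, hbC⟩ : ↥(Subgroup.centralizer ({x} : Set G))) * ⟨b, hbC⟩ = 1 := Subtype.ext hb2
      rw [this, map_one]
    · simp only [← map_mul]
      have : (⟨a, haC⟩ : ↥(Subgroup.centralizer ({x} : Set G))) * ⟨b, hbC⟩ * ⟨a, haC⟩ * ⟨b, hbC⟩ * ⟨a, haC⟩ * ⟨b, hbC⟩ = 1 :=
        Subtype.ext hab
      rw [this, map_one]
    · have h1 := hσ' (φ ⟨a, haC⟩)
      rw [hfix a haC hay] at h1
      exact (mul_inv_eq_iff_eq_mul.1 h1.symm)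
    · have h1 := hσ' (φ ⟨b, hbC⟩)
      rw [hfix b hbC hby] at h1
      exact (mul_inv_eq_iff_eq_mul.1 h1.symm)
  have hα1 : ∀ c, φ (β c) = φ c := by
    intro c
    rw [← hα]
    apply Subtype.ext
    rw [hσ', hσ1]
    simp
  let D := Subgroup.centralizer ({x} : Set G) ⊓ Subgroup.centralizer ({y} : Set G)
  let ψ : D →* alternatingGroup (Fin 5) := φ.comp (Subgroup.inclusion inf_le_left)
  have hψi : Function.Injective ψ := by
    rw [injective_iff_map_eq_one]
    rintro ⟨c, hc⟩ h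
    have h1 : c ∈ Subgroup.zpowers x := (hk _).1 h
    have h2 := conj_zp hxy h1
    have h3 : c * y = y * c := mem_centralizer_one.1 (Subgroup.mem_inf.1 hc).2
    have h4 : y * c * y⁻¹ = c := by rw [← h3]; group
    rw [h4] at h2
    have h6 : c ^ 2 = 1 := by
      rw [pow_two]
      nth_rewrite 1 [h2]
      group
    have h7 : orderOf c ∣ 2 := orderOf_dvd_of_pow_eq_one h6
    have h8 : orderOf c ∣ 5 := by
      rw [← h5]
      exact orderOf_dvd_of_mem_zpowers h1
    have h9 := Nat.dvd_gcd h7 h8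
    rw [show Nat.gcd 2 5 = 1 by norm_num, Nat.dvd_one, orderOf_eq_one_iff] at h9
    exact Subtype.ext h9
  have hψs : Function.Surjective ψ := by
    intro g
    obtain ⟨c, rfl⟩ := hs g
    have h1 := hα1 c
    have h2 : φ (β c * c⁻¹) = 1 := by rw [map_mul, map_inv, h1, mul_inv_cancel]
    rw [hk] at h2
    set f : G := ((β c * c⁻¹ : ↥(Subgroup.centralizer ({x} : Set G))) : G) with hf
    have hf' : f = y * c * y⁻¹ * (c : G)⁻¹ := rfl
    have hf5 : f ^ 5 = 1 := by
      have : orderOf f ∣ 5 := by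
        rw [← h5]; exact orderOf_dvd_of_mem_zpowers h2
      exact orderOf_dvd_iff_pow_eq_one.1 this
    have hfx : f * x = x * f := by
      obtain ⟨i, hi⟩ := Subgroup.mem_zpowers_iff.1 h2
      rw [← hi]
      exact (Commute.zpow_self x i)
    have hcf : (c : G) * f = f * c := by
      obtain ⟨i, hi⟩ := Subgroup.mem_zpowers_iff.1 h2
      rw [← hi]
      have : Commute (c : G) x := mem_centralizer_one.1 c.2
      exact this.zpow_right i
    have hf3 : f ^ 3 ∈ Subgroup.zpowers x := (Subgroup.zpowers x).pow_mem h2 3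
    have h3 : y * f ^ 3 * y⁻¹ = (f ^ 3)⁻¹ := conj_zp hxy hf3
    have h4 : y * (c * f ^ 3) * y⁻¹ = c * f ^ 3 := by
      have : y * (c * f ^ 3) * y⁻¹ = (y * c * y⁻¹ * (c : G)⁻¹) * c * (y * f ^ 3 * y⁻¹) := by group
      rw [this, ← hf', h3]
      have h6 : f * (c : G) = c * f := hcf.symm
      rw [h6, mul_assoc]
      congr 1
      rw [mul_inv_eq_iff_eq_mul]
      have : f ^ 3 * f ^ 3 = f * f ^ 5 := by group
      rw [this, hf5, mul_one]
    have h5' : (c : G) * f ^ 3 ∈ D := by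
      refine Subgroup.mem_inf.2 ⟨mem_centralizer_one.2 ?_, mem_centralizer_one.2 ?_⟩
      · have h6 : Commute (c : G) x := mem_centralizer_one.1 c.2
        have h7 : Commute f x := hfx
        exact (h6.mul_left (h7.pow_left 3))
      · exact (mul_inv_eq_iff_eq_mul.1 h4).symm
    refine ⟨⟨(c : G) * f ^ 3, h5'⟩, ?_⟩
    show φ ⟨(c : G) * f ^ 3, _⟩ = φ c
    have h8 : (⟨(c : G) * f ^ 3, (Subgroup.mem_inf.1 h5').1⟩ : ↥(Subgroup.centralizer ({x} : Set G))) =
        c * (β c * c⁻¹) ^ 3 := Subtype.ext rfl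
    rw [h8, map_mul, map_pow, map_mul, map_inv, h1]
    simp
  exact ⟨MulEquiv.ofBijective ψ ⟨hψi, hψs⟩, trivial⟩

end Cfsg.Agent.Lib.JTw
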