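import Cfsg.Agent.Lib.JTw22
import Cfsg.Agent.Lib.J2PresA
import Mathlib

set_option autoImplicit false
set_option linter.all false
set_option linter.unusedSectionVars false

/-! J2-type groups: the relations. -/

namespace Cfsg.Agent.Lib.JTw

open Cfsg Cfsg.Agent.Lib Cfsg.Agent.Lib.LargeExtra Setup Cfsg.Agent.Lib.J2Pres

theorem card_a6 : Nat.card (alternatingGroup (Fin 6)) = 360 := by
  rw [nat_card_alternatingGroup]
  simp [Nat.factorial]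

universe u

theorem no_split_aux {H : Type u} [Group H] {φ : H →* alternatingGroup (Fin 6)} {x k q : H} (hr : RelA x k q)
    (htop : ∀ H' : Subgroup (alternatingGroup (Fin 6)), φ x ∈ H' → φ k ∈ H' → φ q ∈ H' → H' = ⊤) :
    ∃ M : Subgroup H, Function.Bijective (φ.comp M.subtype) := by
  let A : Set H := {x, k, q}
  let M := Subgroup.closure A
  have hx : x ∈ M := Subgroup.subset_closure (by simp [A])
  have hk : k ∈ M := Subgroup.subset_closure (by simp [A])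
  have hq : q ∈ M := Subgroup.subset_closure (by simp [A])
  have hM : RelA (⟨x, hx⟩ : M) ⟨k, hk⟩ ⟨q, hq⟩ :=
    ⟨⟨Subtype.ext hr.x5, Subtype.ext hr.k2, Subtype.ext hr.xk, Subtype.ext hr.y2, Subtype.ext hr.yx⟩,
      Subtype.ext hr.q2, Subtype.ext hr.kq4, Subtype.ext hr.e1, Subtype.ext hr.xq, Subtype.ext hr.yq⟩
  have hMgen : Subgroup.closure ({⟨x, hx⟩, ⟨k, hk⟩, ⟨q, hq⟩} : Set M) = ⊤ := by
    rw [← closure_sub A]
    congr 1
    ext ⟨a, ha⟩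
    simp only [A, Subtype.ext_iff, Set.mem_insert_iff, Set.mem_singleton_iff, Set.mem_setOf_eq]
    exact Iff.rfl
  obtain ⟨hf, hc⟩ := hM.bound hMgen
  have hmap : M.map φ = ⊤ := htop _ ⟨x, hx, rfl⟩ ⟨k, hk, rfl⟩ ⟨q, hq, rfl⟩
  have hψs : Function.Surjective (φ.comp M.subtype) := by
    intro g
    have : g ∈ M.map φ := by rw [hmap]; trivial
    obtain ⟨m, hm, rfl⟩ := this
    exact ⟨⟨m, hm⟩, rfl⟩
  refine ⟨M, ?_⟩
  have hcard : Nat.card M = 360 := by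
    apply le_antisymm hc
    rw [← card_a6]
    exact Nat.card_le_card_of_surjective _ hψs
  rw [Nat.bijective_iff_surjective_and_card]
  exact ⟨hψs, by rw [hcard, card_a6]⟩

/-- the extension `3.A6` is not split -/
theorem SyOm.no_split {G : Type u} [Group G] [Finite G] {S : Setup G} {u w t ω : G} {K : Subgroup G} {P : Sylow 3 G}
    (d : SyOm S u w t K ω P) {φ : Subgroup.centralizer ({ω} : Set G) →* alternatingGroup (Fin 6)}
    (hker : ∀ c, φ c = 1 ↔ (c : G) ∈ Subgroup.zpowers ω) {x k q : Subgroup.centralizer ({ω} : Set G)} (hr : RelA x k q)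
    (htop : ∀ H : Subgroup (alternatingGroup (Fin 6)), φ x ∈ H → φ k ∈ H → φ q ∈ H → H = ⊤) : False := by
  obtain ⟨M, hψb⟩ := no_split_aux hr htop
  apply d.nonab
  rintro ⟨p1, hp1⟩ ⟨p2, hp2⟩
  obtain ⟨⟨m1, hm1⟩, e1⟩ := hψb.2 (φ ⟨p1, d.leP hp1⟩)
  obtain ⟨⟨m2, hm2⟩, e2⟩ := hψb.2 (φ ⟨p2, d.leP hp2⟩)
  have e1 : φ m1 = φ ⟨p1, d.leP hp1⟩ := e1
  have e2 : φ m2 = φ ⟨p2, d.leP hp2⟩ := e2
  have hcen : ∀ (a b : Subgroup.centralizer ({ω} : Set G)), φ a = φ b → ∀ g : Subgroup.centralizer ({ω} : Set G), (a⁻¹ * b) * g = g * (a⁻¹ * b) := by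
    intro a b hab g
    have h1 : φ (a⁻¹ * b) = 1 := by rw [map_mul, map_inv, hab, inv_mul_cancel]
    rw [hker] at h1
    obtain ⟨i, hi⟩ := Subgroup.mem_zpowers_iff.1 h1
    apply Subtype.ext
    show ((a⁻¹ * b : Subgroup.centralizer ({ω} : Set G)) : G) * g = g * ((a⁻¹ * b : Subgroup.centralizer ({ω} : Set G)) : G)
    rw [← hi]
    have h2 : Commute (g : G) ω := mem_centralizer_one.1 g.2
    exact (h2.zpow_right i).symm
  have z1 := hcen m1 ⟨p1, d.leP hp1⟩ e1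
  have z2 := hcen m2 ⟨p2, d.leP hp2⟩ e2
  have hcomm : φ (⟨p1, d.leP hp1⟩ * ⟨p2, d.leP hp2⟩ * (⟨p1, d.leP hp1⟩)⁻¹ * (⟨p2, d.leP hp2⟩)⁻¹) = 1 := by
    rw [hker]
    exact d.comm_mem hp2 hp1
  obtain ⟨c1, hc1⟩ : ∃ c1 : Subgroup.centralizer ({ω} : Set G), c1 = ⟨p1, d.leP hp1⟩ := ⟨_, rfl⟩
  obtain ⟨c2, hc2⟩ : ∃ c2 : Subgroup.centralizer ({ω} : Set G), c2 = ⟨p2, d.leP hp2⟩ := ⟨_, rfl⟩
  rw [← hc1] at e1 z1 hcomm
  rw [← hc2] at e2 z2 hcomm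
  have hm : m1 * m2 * m1⁻¹ * m2⁻¹ = 1 := by
    have h1 : (φ.comp M.subtype) ((⟨m1, hm1⟩ : M) * ⟨m2, hm2⟩ * (⟨m1, hm1⟩ : M)⁻¹ * (⟨m2, hm2⟩ : M)⁻¹) = 1 := by
      show φ (m1 * m2 * m1⁻¹ * m2⁻¹) = 1
      rw [← hcomm]
      simp only [map_mul, map_inv, e1, e2]
    have h2 := hψb.1 (h1.trans (map_one (φ.comp M.subtype)).symm)
    exact congrArg Subtype.val h2
  have hmm : m1 * m2 = m2 * m1 := by
    have h1 : m1 * m2 * m1⁻¹ = m2 := mul_inv_eq_one.1 hm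
    exact mul_inv_eq_iff_eq_mul.1 h1
  have hcc : c1 * c2 = c2 * c1 := by
    have a1 : m1 * (m1⁻¹ * c1) = c1 := by group
    have a2 : m2 * (m2⁻¹ * c2) = c2 := by group
    have : c1 * c2 = (m1 * m2) * ((m1⁻¹ * c1) * (m2⁻¹ * c2)) := by
      calc c1 * c2 = (m1 * (m1⁻¹ * c1)) * (m2 * (m2⁻¹ * c2)) := by rw [a1, a2]
        _ = m1 * ((m1⁻¹ * c1) * m2) * (m2⁻¹ * c2) := by group
        _ = m1 * (m2 * (m1⁻¹ * c1)) * (m2⁻¹ * c2) := by rw [z1 m2]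
        _ = _ := by group
    rw [this, hmm]
    calc (m2 * m1) * ((m1⁻¹ * c1) * (m2⁻¹ * c2)) = m2 * m1 * ((m2⁻¹ * c2) * (m1⁻¹ * c1)) := by rw [z1 (m2⁻¹ * c2)]
      _ = m2 * (m1 * (m2⁻¹ * c2)) * (m1⁻¹ * c1) := by group
      _ = m2 * ((m2⁻¹ * c2) * m1) * (m1⁻¹ * c1) := by rw [z2 m1]
      _ = c2 * c1 := by group
  have h9 : (c1 : G) * c2 = c2 * c1 := congrArg Subtype.val hcc
  rw [hc1, hc2] at h9
  exact Subtype.ext h9

end Cfsg.Agent.Lib.JTw
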