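import Cfsg.Agent.Lib.JTw23
import Mathlib

set_option autoImplicit false
set_option linter.all false
set_option linter.unusedSectionVars false

/-! J2-type groups: the relations, main part. -/

namespace Cfsg.Agent.Lib.JTw

open Cfsg Cfsg.Agent.Lib Cfsg.Agent.Lib.LargeExtra Setup Cfsg.Agent.Lib.J2Pres

universe u

section
variable {G : Type u} [Group G] [Finite G] {S : Setup G} {u w t ω : G} {K : Subgroup G}

/-- generators of `K` -/
theorem KK.exists_xk (d : KK S u w t K) : ∃ x k : G, x ∈ K ∧ k ∈ K ∧ RelK x k ∧ orderOf x = 5 ∧ Yv x k ≠ 1 ∧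
    (∀ H : Subgroup G, x ∈ H → k ∈ H → K ≤ H) := by
  obtain ⟨e⟩ := d.main.2.2
  let f : alternatingGroup (Fin 5) →* G := K.subtype.comp e.symm.toMonoidHom
  have hf : Function.Injective f := by
    intro a b h
    exact e.symm.injective (Subtype.ext h)
  have hfe : ∀ c : K, f (e c) = c := by
    intro c
    show ((e.symm (e c) : K) : G) = c
    rw [e.symm_apply_apply]
  refine ⟨f JTwB5.x0, f JTwB5.k0, (e.symm JTwB5.x0).2, (e.symm JTwB5.k0).2, JTwB5.rel0.map f, ?_, ?_, ?_⟩
  · rw [orderOf_injective f hf]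
    exact orderOf_eq_prime (by decide +kernel) JTwB5.x0_ne
  · intro h
    apply JTwB5.y0_ne
    apply hf
    rw [map_one, ← h]
    simp [Yv]
  · intro H hx hk c hc
    have h1 : H.comap f = ⊤ := JTwB5.a5_gen _ hx hk
    have h2 : e ⟨c, hc⟩ ∈ H.comap f := by rw [h1]; trivial
    have h3 : f (e ⟨c, hc⟩) ∈ H := h2
    rw [hfe] at h3
    exact h3

/-- `ω` and `t` generate an `A4` -/
theorem Om.wt3 (d : Om S u w t K ω) : ω * t * ω * t * ω * t = 1 := by
  obtain ⟨e⟩ := d.toKK.equiv_W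
  have htW : t ∈ KK.W K t := d.toKK.Y_le_W d.toKK.t_mem_Y
  have h3 : ω ^ 3 = 1 := pow3 d.o3
  have h1 := JTwB5.a4_ab (e ⟨ω, d.oW⟩) (e ⟨t, htW⟩) ?_ ?_ ?_ ?_
  · rw [← map_mul, ← map_mul, ← map_mul, ← map_mul, ← map_mul, EmbeddingLike.map_eq_one_iff] at h1
    exact congrArg Subtype.val h1
  · intro h
    rw [EmbeddingLike.map_eq_one_iff] at h
    exact ne_one3 d.o3 (congrArg Subtype.val h)
  · rw [← map_mul, ← map_mul, EmbeddingLike.map_eq_one_iff]
    apply Subtype.ext
    show ω * ω * ω = 1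
    rw [← h3, pow_succ, pow_two]
  · intro h
    rw [EmbeddingLike.map_eq_one_iff] at h
    exact d.toKK.toTS.t_ne (congrArg Subtype.val h)
  · rw [← map_mul, EmbeddingLike.map_eq_one_iff]
    exact Subtype.ext d.toKK.toTS.t_sq

theorem RelK_inv {x k : G} (hr : RelK x k) : Yv x k * x * (Yv x k)⁻¹ = x⁻¹ := by
  rw [inv_of_sq hr.y2]
  exact eq_inv_of_mul_eq_one_left hr.yx

theorem Om.exists_s (d : Om S u w t K ω) {x k : G} (hx : x ∈ K) (hk : k ∈ K) (hr : RelK x k) (h5 : orderOf x = 5) :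
    ∃ s : G, s * s = 1 ∧ s * x = x * s ∧ s * Yv x k = Yv x k * s ∧ ω * s * ω * s = 1 ∧ t * s * t * s * t * s = 1 ∧
      ω * t * s ≠ 1 ∧ (ω * t * s) * (ω * t * s) * (ω * t * s) * (ω * t * s) * (ω * t * s) = 1 := by
  have hT5 : T5 S u w t K x := ⟨d.toKK, h5, hx⟩
  obtain ⟨φ, hφs, hφk⟩ := hT5.exists_hom
  have hyK : Yv x k ∈ K := by
    unfold Yv
    exact K.mul_mem (K.mul_mem (K.mul_mem (K.mul_mem (K.mul_mem (K.mul_mem (K.mul_mem (K.mul_mem hx hx) hk)
      (K.inv_mem hx)) (K.inv_mem hx)) hk) hx) hx) hk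
  have htx : t * x = x * t := (d.toKK.comm_t hx).symm
  have hty : t * Yv x k = Yv x k * t := (d.toKK.comm_t hyK).symm
  obtain ⟨e, -⟩ := cent_pair (a := ω) (b := t) h5 (RelK_inv hr) hφs hφk (d.comm hx) htx (d.comm hyK) hty (pow3 d.o3)
    (ne_one3 d.o3) d.toKK.toTS.t_sq d.toKK.toTS.t_ne d.wt3
  have hωL : ω ∈ Subgroup.centralizer ({x} : Set G) ⊓ Subgroup.centralizer ({Yv x k} : Set G) :=
    Subgroup.mem_inf.2 ⟨mem_centralizer_one.2 (d.comm hx), mem_centralizer_one.2 (d.comm hyK)⟩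
  have htL : t ∈ Subgroup.centralizer ({x} : Set G) ⊓ Subgroup.centralizer ({Yv x k} : Set G) :=
    Subgroup.mem_inf.2 ⟨mem_centralizer_one.2 htx, mem_centralizer_one.2 hty⟩
  obtain ⟨s', h1, h2, h3, h4, h6⟩ := JTwB5.a5_s (e ⟨ω, hωL⟩) (e ⟨t, htL⟩)
    (by
      intro h
      rw [EmbeddingLike.map_eq_one_iff] at h
      exact ne_one3 d.o3 (congrArg Subtype.val h))
    (by
      rw [← map_pow, EmbeddingLike.map_eq_one_iff]
      exact Subtype.ext (pow3 d.o3))
    (by
      intro h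
      rw [EmbeddingLike.map_eq_one_iff] at h
      exact d.toKK.toTS.t_ne (congrArg Subtype.val h))
    (by
      rw [← map_mul, EmbeddingLike.map_eq_one_iff]
      exact Subtype.ext d.toKK.toTS.t_sq)
    (by
      rw [← map_mul, ← map_mul, ← map_mul, ← map_mul, ← map_mul, EmbeddingLike.map_eq_one_iff]
      exact Subtype.ext d.wt3)
  obtain ⟨⟨s, hs⟩, rfl⟩ := e.surjective s'
  rw [← map_mul, EmbeddingLike.map_eq_one_iff] at h1
  rw [← map_mul, ← map_mul, ← map_mul, EmbeddingLike.map_eq_one_iff] at h2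
  rw [← map_mul, ← map_mul, ← map_mul, ← map_mul, ← map_mul, EmbeddingLike.map_eq_one_iff] at h3
  rw [← map_mul, ← map_mul] at h4 h6
  rw [← map_mul, ← map_mul, ← map_mul, ← map_mul, EmbeddingLike.map_eq_one_iff] at h6
  rw [Ne, EmbeddingLike.map_eq_one_iff] at h4
  refine ⟨s, congrArg Subtype.val h1, mem_centralizer_one.1 (Subgroup.mem_inf.1 hs).1,
    mem_centralizer_one.1 (Subgroup.mem_inf.1 hs).2, congrArg Subtype.val h2, congrArg Subtype.val h3, ?_,
    congrArg Subtype.val h6⟩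
  intro h
  exact h4 (Subtype.ext h)

theorem RelK_sub {H : Subgroup G} {x k : G} (hr : RelK x k) (hx : x ∈ H) (hk : k ∈ H) : RelK (⟨x, hx⟩ : H) ⟨k, hk⟩ :=
  ⟨Subtype.ext hr.x5, Subtype.ext hr.k2, Subtype.ext hr.xk, Subtype.ext hr.y2, Subtype.ext hr.yx⟩

theorem q_comm {w s k : G} (s2 : s * s = 1) (hws : w * s * w * s = 1) (wk : w * k = k * w) :
    (s * k * s) * w = w * (s * k * s) := by
  have si : s⁻¹ = s := inv_of_sq s2
  have h1 : w * s = s * w⁻¹ := by
    have h2 : w * s * (w * s) = 1 := by simpa [mul_assoc] using hws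
    have h3 : w * s = (w * s)⁻¹ := eq_inv_of_mul_eq_one_left h2
    rw [h3, mul_inv_rev, si]
  have h2 : w⁻¹ * s = s * w := by
    have h3 : s * (w * s) * s = s * (s * w⁻¹) * s := by rw [h1]
    have h4 : s * (w * s) * s = s * w * (s * s) := by group
    have h5 : s * (s * w⁻¹) * s = (s * s) * w⁻¹ * s := by group
    rw [h4, h5, s2, mul_one, one_mul] at h3
    exact h3.symm
  have h3 : w⁻¹ * k = k * w⁻¹ := by
    have : Commute w k := wk
    exact this.inv_left
  symm
  calc w * (s * k * s) = (w * s) * k * s := by group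
    _ = s * (w⁻¹ * k) * s := by rw [h1]; group
    _ = s * k * (w⁻¹ * s) := by rw [h3]; group
    _ = (s * k * s) * w := by rw [h2]; group

/-- the case where the two `A5`s coincide is impossible -/
theorem Om.not_same (d : Om S u w t K ω) {x k s : G} (hgen : ∀ H : Subgroup G, x ∈ H → k ∈ H → K ≤ H) (hx : x ∈ K)
    (hk : k ∈ K) (hsx : s * x = x * s) (hsk : s * k = k * s) (h1 : ω * t * s ≠ 1)
    (h5 : (ω * t * s) * (ω * t * s) * (ω * t * s) * (ω * t * s) * (ω * t * s) = 1) : False := by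
  have hg5 : orderOf (ω * t * s) = 5 := by
    apply orderOf_eq_prime _ h1
    rw [← h5]
    simp only [pow_succ, pow_zero, one_mul]
  have hcom : ∀ c ∈ K, (ω * t * s) * c = c * (ω * t * s) := by
    have h2 : K ≤ Subgroup.centralizer ({ω * t * s} : Set G) := by
      apply hgen
      · apply mem_centralizer_one.2
        have a1 : Commute x ω := (d.comm hx).symm
        have a2 : Commute x t := d.toKK.comm_t hx
        have a3 : Commute x s := hsx.symm
        exact (a1.mul_right a2).mul_right a3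
      · apply mem_centralizer_one.2
        have a1 : Commute k ω := (d.comm hk).symm
        have a2 : Commute k t := d.toKK.comm_t hk
        have a3 : Commute k s := hsk.symm
        exact (a1.mul_right a2).mul_right a3
    intro c hc
    exact (mem_centralizer_one.1 (h2 hc)).symm
  have hu := d.uK
  have hw : w ∈ K := d.V_le (d.f.mem_V.2 (by tauto))
  rcases d.f.hu.base.five_fix (hcom u hu) hg5 w d.f.hmem (hcom w hw) with h | h
  · exact d.f.hw1 h
  · exact d.f.hwu h

theorem Om.exists_rels (d : Om S u w t K ω) : ∃ x k w' s t' : G, Rels x k w' s t' ∧ x ≠ 1 := by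
  obtain ⟨x, k, hx, hk, hr, h5, hy1, hgen⟩ := d.toKK.exists_xk
  obtain ⟨s, s2, hsx, hsy, hws, hts, hg1, hg5⟩ := d.exists_s hx hk hr h5
  obtain ⟨φ, hφs, hφk⟩ := d.exists_hom
  obtain ⟨P, dP⟩ := d.exists_sy
  have si : s⁻¹ = s := inv_of_sq s2
  have hωx : ω * x = x * ω := d.comm hx
  have hωk : ω * k = k * ω := d.comm hk
  have hqω : (s * k * s) * ω = ω * (s * k * s) := q_comm s2 hws hωk
  have hxC : x ∈ Subgroup.centralizer ({ω} : Set G) := mem_centralizer_one.2 hωx.symm
  have hkC : k ∈ Subgroup.centralizer ({ω} : Set G) := mem_centralizer_one.2 hωk.symm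
  have hqC : s * k * s ∈ Subgroup.centralizer ({ω} : Set G) := mem_centralizer_one.2 hqω
  have hsxs : s * x * s⁻¹ = x := mul_inv_eq_iff_eq_mul.2 hsx
  have hrq : RelK x (s * k * s) := by
    have h1 := hr.map (MulAut.conj s).toMonoidHom
    have h2 : (MulAut.conj s).toMonoidHom x = x := hsxs
    have h3 : (MulAut.conj s).toMonoidHom k = s * k * s := by
      show s * k * s⁻¹ = s * k * s
      rw [si]
    rw [h2, h3] at h1
    exact h1
  have hYq : Yv x (s * k * s) = Yv x k := by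
    have h1 := Yv_conj s x k
    rw [hsxs, si] at h1
    rw [← h1]
    rw [hsy, mul_assoc, s2, mul_one]
  have hq2 : (s * k * s) * (s * k * s) = 1 := hrq.k2
  have hrC := RelK_sub hr hxC hkC
  have hrqC := RelK_sub hrq hxC hqC
  have hYC : Yv (⟨x, hxC⟩ : Subgroup.centralizer ({ω} : Set G)) ⟨k, hkC⟩ = Yv ⟨x, hxC⟩ ⟨s * k * s, hqC⟩ := Subtype.ext hYq.symm
  have hω3 := pow3 d.o3
  have cop : ∀ (c : G) (n : ℕ), c ^ n = 1 → Nat.Coprime n 3 → c ∈ Subgroup.zpowers ω → c = 1 := by
    intro c n hcn hn hc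
    have h1 : orderOf c ∣ 3 := by
      rw [← d.o3]
      exact orderOf_dvd_of_mem_zpowers hc
    have h2 : orderOf c ∣ n := orderOf_dvd_of_pow_eq_one hcn
    have h3 := Nat.dvd_gcd h2 h1
    rw [hn, Nat.dvd_one, orderOf_eq_one_iff] at h3
    exact h3
  have hx1 : x ≠ 1 := by
    intro h
    rw [h, orderOf_one] at h5
    omega
  have hX : φ ⟨x, hxC⟩ ≠ 1 := by
    rw [Ne, hφk]
    intro h
    exact hx1 (cop x 5 (by rw [← h5]; exact pow_orderOf_eq_one x) (by norm_num) h)
  obtain ⟨hd1, hd2, hd3⟩ := cq_data d.o3 hφk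
  have hcase := JTwB5.a6_cases (φ ⟨x, hxC⟩) (φ ⟨k, hkC⟩) (φ ⟨s * k * s, hqC⟩) hX (hrC.map φ) (hrqC.map φ) (by
    have := congrArg φ hYC
    simpa only [Yv, map_mul, map_inv] using this)
  rcases hcase with hcase | ⟨h4, h4', he⟩
  · exfalso
    have h1 : (⟨k, hkC⟩ : Subgroup.centralizer ({ω} : Set G)) = ⟨s * k * s, hqC⟩ :=
      cq_eq hd1 hd2 hd3 (Subtype.ext hr.k2) (Subtype.ext hq2) hcase
    have h2 : k = s * k * s := congrArg Subtype.val h1
    have h3 : s * k = k * s := by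
      calc s * k = (s * k * s) * s⁻¹ := by group
        _ = k * s := by rw [← h2, si]
    exact d.not_same hgen hx hk hsx h3 hg1 hg5
  · -- `(kq)^4 = 1`
    have hE : k * (s * k * s) * k * (s * k * s) * k * (s * k * s) * k * (s * k * s) = 1 := by
      have h1 : k * (s * k * s) * k * (s * k * s) * k * (s * k * s) * k * (s * k * s) ∈ Subgroup.zpowers ω := by
        have h2 : φ (⟨k, hkC⟩ * ⟨s * k * s, hqC⟩ * ⟨k, hkC⟩ * ⟨s * k * s, hqC⟩ * ⟨k, hkC⟩ * ⟨s * k * s, hqC⟩ * ⟨k, hkC⟩ *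
            ⟨s * k * s, hqC⟩) = 1 := by
          rw [← h4]
          simp only [map_mul]
        exact (hφk _).1 h2
      obtain ⟨i, hi⟩ := Subgroup.mem_zpowers_iff.1 h1
      set q := s * k * s with hq
      set E := k * q * k * q * k * q * k * q with hEd
      have h2 : k * E * k⁻¹ = E := by
        rw [← hi]
        have : Commute k ω := hωk.symm
        rw [(this.zpow_right i).eq]
        group
      have h3 : k * E * k⁻¹ = E⁻¹ := by
        have k1 : k⁻¹ = k := inv_of_sq hr.k2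
        have q1 : q⁻¹ = q := inv_of_sq hq2
        rw [hEd]
        simp only [mul_inv_rev, k1, q1]
        calc k * (k * q * k * q * k * q * k * q) * k = (k * k) * (q * k * q * k * q * k * q * k) := by group
          _ = q * k * q * k * q * k * q * k := by rw [hr.k2, one_mul]
          _ = _ := by group
      apply cop E 2 _ (by norm_num) h1
      rw [pow_two]
      nth_rewrite 1 [← h2, h3]
      group
    -- the other relation
    have hEE : k * x * (s * k * s) * x⁻¹ * x⁻¹ * k * x * (s * k * s) * x⁻¹ * x⁻¹ ∈ Subgroup.zpowers ω := by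
      have h2 : φ (⟨k, hkC⟩ * ⟨x, hxC⟩ * ⟨s * k * s, hqC⟩ * (⟨x, hxC⟩)⁻¹ * (⟨x, hxC⟩)⁻¹ * ⟨k, hkC⟩ * ⟨x, hxC⟩ * ⟨s * k * s, hqC⟩ *
          (⟨x, hxC⟩)⁻¹ * (⟨x, hxC⟩)⁻¹) = 1 := by
        rw [← he]
        simp only [map_mul, map_inv]
      exact (hφk _).1 h2
    have hne : k * x * (s * k * s) * x⁻¹ * x⁻¹ * k * x * (s * k * s) * x⁻¹ * x⁻¹ ≠ 1 := by
      intro h0
      have hrA : RelA (⟨x, hxC⟩ : Subgroup.centralizer ({ω} : Set G)) ⟨k, hkC⟩ ⟨s * k * s, hqC⟩ :=
        ⟨hrC, Subtype.ext hq2, Subtype.ext hE, Subtype.ext h0, Subtype.ext hrq.xk, hYC.symm⟩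
      refine dP.no_split hφk hrA ?_
      intro H h1 h2 h3
      by_contra hH
      haveI : IsSimpleGroup (alternatingGroup (Fin 6)) := alternatingGroup.isSimpleGroup (by simp)
      have h6 := H10Order360.card_le (G := alternatingGroup (Fin 6)) card_a6 H hH
      -- the image of `K`
      let f : K →* alternatingGroup (Fin 6) := φ.comp (Subgroup.inclusion d.K_le)
      have hf : Function.Injective f := by
        rw [injective_iff_map_eq_one]
        intro c hc
        have hc1 : (c : G) ∈ Subgroup.zpowers ω := (hφk _).1 hc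
        obtain ⟨e⟩ := d.toKK.main.2.2
        have hcen : ∀ y ∈ K, y * (c : G) = (c : G) * y := by
          intro y hy
          obtain ⟨i, hi⟩ := Subgroup.mem_zpowers_iff.1 hc1
          rw [← hi]
          have : Commute y ω := (d.comm hy).symm
          exact (this.zpow_right i)
        exact Subtype.ext (d.toKK.K_center c.2 hcen)
      have hKH : f.range ≤ H := by
        have h7 : K ≤ (H.comap φ).map (Subgroup.centralizer ({ω} : Set G)).subtype :=
          hgen _ ⟨⟨x, hxC⟩, h1, rfl⟩ ⟨⟨k, hkC⟩, h2, rfl⟩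
        rintro _ ⟨c, rfl⟩
        obtain ⟨c', hc', hcc⟩ := h7 c.2
        have : c' = Subgroup.inclusion d.K_le c := Subtype.ext hcc
        rw [this] at hc'
        exact hc'
      have hcardf : Nat.card f.range = 60 := by
        rw [← d.toKK.card_K]
        exact (Nat.card_congr (MonoidHom.ofInjective hf).toEquiv).symm
      have hHeq : f.range = H := by
        apply Subgroup.eq_of_le_of_card_ge hKH
        rw [hcardf]; exact h6
      have hmem : φ ⟨k, hkC⟩ * φ ⟨s * k * s, hqC⟩ ∈ f.range := by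
        rw [hHeq]; exact H.mul_mem h2 h3
      obtain ⟨κ, hκ⟩ := hmem
      obtain ⟨e⟩ := d.toKK.main.2.2
      have h8 : κ ^ 4 = 1 := by
        apply hf
        rw [map_pow, hκ, map_one, ← h4]
        simp only [pow_succ, pow_zero, one_mul, mul_assoc]
      have h9 : κ ^ 30 = 1 := by
        apply e.injective
        rw [map_pow, map_one]
        exact a5_pow _
      have h10 : κ ^ 2 = 1 := by
        have : κ ^ 2 = κ ^ 30 * (κ ^ 4)⁻¹ ^ 7 := by group
        rw [this, h8, h9]; simp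
      apply h4'
      have h11 : (f κ) ^ 2 = 1 := by rw [← map_pow, h10, map_one]
      rw [hκ] at h11
      rw [← h11]
      simp only [pow_succ, pow_zero, one_mul, mul_assoc]
    have hw3 : ω * ω * ω = 1 := by rw [← hω3, pow_succ, pow_two]
    rcases mem_zpowers_three hω3 hEE with h | h | h
    · exact absurd h hne
    · exact ⟨x, k, ω, s, t, ⟨⟨hr, hw3, hωx, hωk, s2, hsx, hsy, hws, hE, h⟩, d.toKK.toTS.t_sq, d.wt3, hts,
        (d.toKK.comm_t hx).symm, (d.toKK.comm_t hk).symm⟩, hx1⟩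
    · refine ⟨x, k, ω⁻¹, s, t, ⟨⟨hr, ?_, ?_, ?_, s2, hsx, hsy, ?_, hE, h⟩, d.toKK.toTS.t_sq, ?_, hts,
        (d.toKK.comm_t hx).symm, (d.toKK.comm_t hk).symm⟩, hx1⟩
      · rw [← inv_one, ← hw3]; group
      · have : Commute ω x := hωx
        exact this.inv_left
      · have : Commute ω k := hωk
        exact this.inv_left
      · have h1 : ω⁻¹ * s * ω⁻¹ * s = s⁻¹ * (s * ω⁻¹ * s * ω⁻¹) * s := by group
        have h2 : s * ω⁻¹ * s * ω⁻¹ = (ω * s * ω * s)⁻¹ := by
          simp only [mul_inv_rev, si, mul_assoc]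
        rw [h1, h2, hws]; group
      · have ti : t⁻¹ = t := inv_of_sq d.toKK.toTS.t_sq
        have h1 : ω⁻¹ * t * ω⁻¹ * t * ω⁻¹ * t = t⁻¹ * (t * ω⁻¹ * t * ω⁻¹ * t * ω⁻¹) * t := by group
        have h2 : t * ω⁻¹ * t * ω⁻¹ * t * ω⁻¹ = (ω * t * ω * t * ω * t)⁻¹ := by
          simp only [mul_inv_rev, ti, mul_assoc]
        rw [h1, h2, d.wt3]; group

end

end Cfsg.Agent.Lib.JTw
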