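import Cfsg.Agent.Lib.JTw24
import Cfsg.Agent.Lib.J2Iso
import Mathlib

set_option autoImplicit false
set_option linter.all false

/-! J2-type groups are isomorphic to the Hall-Janko group. -/

namespace Cfsg.Agent.Lib.JTw

open Cfsg Cfsg.Agent.Lib Cfsg.Agent.Lib.LargeExtra Setup

theorem isoJ2 {G : Type*} [Group G] [Finite G] (S : Setup G)
    (hcl : ∃ x y : G, orderOf x = 2 ∧ orderOf y = 2 ∧ ¬ IsConj x y) : Cfsg.Spor.IsoJ2 G := by
  obtain ⟨t, K, hK⟩ := exists_KK S hcl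
  obtain ⟨ω, hω⟩ := hK.exists_om
  obtain ⟨x, k, w, s, t', hr, hx⟩ := hω.exists_rels
  exact J2Iso.iso_of_rels hK.card_G hr hx

end Cfsg.Agent.Lib.JTw
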