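import Cfsg.Agent.Lib.JTw2
import Mathlib

/-!
# Groups of Hall–Janko type: the radical `R` of `N(V)` and its involutions
-/

set_option autoImplicit false

namespace Cfsg.Agent.Lib.JTw

open Cfsg Cfsg.Agent.Lib.LargeExtra

section gen

variable {G : Type*} [Group G]

theorem Base.three_fix [Finite G] {z : G} {Q : Subgroup G} (h : Base z Q) {v : G} (hv : v ∈ Q) (hv2 : v * v = 1)
    (hv1 : v ≠ 1) (hvz : v ≠ z) {ρ : G} (hρz : ρ * z = z * ρ) (hρv : ρ * v = v * ρ) (h3 : orderOf ρ = 3) :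
    (∀ q ∈ Q, q * v = v * q → ρ * q = q * ρ → q ∈ Subgroup.closure ({z, v} : Set G)) ∧
      (∃ q ∈ Q, q * v ≠ v * q ∧ ρ * q = q * ρ) ∧ Nat.card ↥(Q ⊓ Subgroup.centralizer ({ρ} : Set G)) = 8 := by
  have : Fact (Nat.Prime 3) := ⟨by norm_num⟩
  have hρ3 : ρ ^ 3 = 1 := by rw [← h3]; exact pow_orderOf_eq_one ρ
  have hvz' : v * z = z * v := h.pre.cen v hv
  -- the fixed points in `Q`
  have h1 := fix_mod (p := 3) hρ3 (Q : Set G) (fun a ha => h.pre.norm ρ hρz a ha)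
  have h2 : {a : G | a ∈ (Q : Set G) ∧ ρ * a = a * ρ} =
      ((Q ⊓ Subgroup.centralizer ({ρ} : Set G) : Subgroup G) : Set G) := by
    ext a
    simp only [Set.mem_setOf_eq, SetLike.mem_coe, Subgroup.mem_inf, mem_centralizer_one]
    tauto
  rw [h2, ← card_eq_ncard, ← card_eq_ncard, h.card] at h1
  have h3' : Nat.card ↥(Q ⊓ Subgroup.centralizer ({ρ} : Set G)) ∣ 2 ^ 5 := by
    have := Subgroup.card_dvd_of_le (inf_le_left : Q ⊓ Subgroup.centralizer ({ρ} : Set G) ≤ Q)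
    rwa [h.card] at this
  have hVle : Subgroup.closure ({z, v} : Set G) ≤ Q ⊓ Subgroup.centralizer ({ρ} : Set G) := by
    rw [Subgroup.closure_le]
    rintro x (rfl | rfl)
    · exact ⟨h.pre.mem, mem_centralizer_one.2 hρz.symm⟩
    · exact ⟨hv, mem_centralizer_one.2 hρv.symm⟩
  have h4 : 4 ≤ Nat.card ↥(Q ⊓ Subgroup.centralizer ({ρ} : Set G)) := by
    rw [← h.card_V hv hv2 hv1 hvz]
    exact Subgroup.card_le_of_le hVle
  have hne : Nat.card ↥(Q ⊓ Subgroup.centralizer ({ρ} : Set G)) ≠ 32 := by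
    intro h32
    have h6 : Q ⊓ Subgroup.centralizer ({ρ} : Set G) = Q :=
      Subgroup.eq_of_le_of_card_ge inf_le_left (by rw [h32, h.card])
    have h7 := h.pre.cent ρ (by
      intro q hq
      rw [← h6] at hq
      exact mem_centralizer_one.1 hq.2)
    rcases h7 with h7 | h7
    · rw [h7, orderOf_one] at h3; norm_num at h3
    · rw [h7, h.pre.orderOf] at h3; norm_num at h3
  obtain ⟨k, hk, hk2⟩ := (Nat.dvd_prime_pow Nat.prime_two).1 h3'
  rw [hk2] at h1 h4 hne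
  have hk3 : k = 3 := by
    interval_cases k <;> simp [Nat.ModEq] at h1 h4 hne ⊢
  -- a fixed point outside `C_Q(v)`
  have hN : {q : G | q ∈ Q ∧ q * v ≠ v * q}.ncard = 16 := by
    have e : {q : G | q ∈ Q ∧ q * v ≠ v * q} = (Q : Set G) \ ((Q ⊓ Subgroup.centralizer ({v} : Set G) : Subgroup G) : Set G) := by
      ext q
      simp only [Set.mem_setOf_eq, Set.mem_diff, SetLike.mem_coe, Subgroup.mem_inf, mem_centralizer_one]
      tauto
    rw [e, Set.ncard_diff (by exact_mod_cast inf_le_left), ← card_eq_ncard, ← card_eq_ncard, h.card, h.card_CQ hv hv1 hvz]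
  have m3 := fix_mod (p := 3) hρ3 {q : G | q ∈ Q ∧ q * v ≠ v * q} (by
    rintro a ⟨ha, hav⟩
    refine ⟨h.pre.norm ρ hρz a ha, ?_⟩
    intro h1
    apply hav
    have e1 := cj_mul ρ a v
    have e2 := cj_mul ρ v a
    rw [cj_eq_self.2 hρv] at e1 e2
    rw [← e1, ← e2] at h1
    exact cj_inj h1)
  rw [hN] at m3
  have hex : ∃ q ∈ Q, q * v ≠ v * q ∧ ρ * q = q * ρ := by
    by_contra hcon
    push Not at hcon
    have : {a : G | a ∈ {q : G | q ∈ Q ∧ q * v ≠ v * q} ∧ ρ * a = a * ρ} = ∅ := by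
      rw [Set.eq_empty_iff_forall_notMem]
      rintro a ⟨⟨ha, ha2⟩, ha3⟩
      exact hcon a ha ha2 ha3
    rw [this, Set.ncard_empty] at m3
    simp [Nat.ModEq] at m3
  refine ⟨?_, hex, by rw [hk2, hk3]; norm_num⟩
  intro q hq hqv hρq
  by_contra hqV
  obtain ⟨q0, hq0, hq0v, hρq0⟩ := hex
  -- `C_Q(ρ) ∩ C(v)` has order 4
  let D := Q ⊓ Subgroup.centralizer ({ρ} : Set G)
  have hD : D ⊓ Subgroup.centralizer ({v} : Set G) < D := by
    refine lt_of_le_of_ne inf_le_left ?_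
    intro h5
    have h6 : q0 ∈ D := ⟨hq0, mem_centralizer_one.2 hρq0.symm⟩
    rw [← h5] at h6
    exact hq0v (mem_centralizer_one.1 h6.2)
  have hD2 : Nat.card ↥(D ⊓ Subgroup.centralizer ({v} : Set G)) ∣ 8 := by
    have h6 : Nat.card D = 8 := by show Nat.card ↥(Q ⊓ Subgroup.centralizer ({ρ} : Set G)) = 8; rw [hk2, hk3]; norm_num
    rw [← h6]; exact Subgroup.card_dvd_of_le inf_le_left
  have hD3 : Nat.card ↥(D ⊓ Subgroup.centralizer ({v} : Set G)) < 8 := by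
    have h6 : Nat.card D = 8 := by show Nat.card ↥(Q ⊓ Subgroup.centralizer ({ρ} : Set G)) = 8; rw [hk2, hk3]; norm_num
    rw [← h6]
    by_contra h7
    push Not at h7
    exact hD.ne (Subgroup.eq_of_le_of_card_ge inf_le_left h7)
  have hV4 : Subgroup.closure ({z, v} : Set G) ≤ D ⊓ Subgroup.centralizer ({v} : Set G) := by
    refine le_inf hVle ?_
    rw [Subgroup.closure_le]
    rintro x (rfl | rfl)
    · exact mem_centralizer_one.2 hvz'.symm
    · exact mem_centralizer_one.2 rfl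
  have hlt : Subgroup.closure ({z, v} : Set G) < D ⊓ Subgroup.centralizer ({v} : Set G) := by
    refine lt_of_le_of_ne hV4 ?_
    intro h5
    apply hqV
    rw [h5]
    exact ⟨⟨hq, mem_centralizer_one.2 hρq.symm⟩, mem_centralizer_one.2 hqv⟩
  have hc4 : 4 < Nat.card ↥(D ⊓ Subgroup.centralizer ({v} : Set G)) := by
    rw [← h.card_V hv hv2 hv1 hvz]
    by_contra h7
    push Not at h7
    exact hlt.ne (Subgroup.eq_of_le_of_card_ge hV4 h7)
  have : Nat.card ↥(D ⊓ Subgroup.centralizer ({v} : Set G)) ≤ 7 := by omega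
  interval_cases Nat.card ↥(D ⊓ Subgroup.centralizer ({v} : Set G)) <;> omega

/-- coset argument -/
theorem coset_fix [Finite G] (V : Subgroup G) (hV4 : Nat.card V = 4) {ρ : G} (hρ3 : ρ ^ 3 = 1)
    (hρV : ∀ x ∈ V, ρ * x = x * ρ) {r : G} (hr : r⁻¹ * (ρ * r * ρ⁻¹) ∈ V) : ∃ x ∈ V, ρ * (r * x) = (r * x) * ρ := by
  have : Fact (Nat.Prime 3) := ⟨by norm_num⟩
  let A : Set G := {y | r⁻¹ * y ∈ V}
  have hA : A.ncard = 4 := by
    rw [← hV4, card_eq_ncard]
    symm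
    apply Set.ncard_congr (fun x _ => r * x)
    · intro x hx
      show r⁻¹ * (r * x) ∈ V
      rw [inv_mul_cancel_left]; exact hx
    · intro x y _ _ h; exact mul_left_cancel h
    · intro y hy
      exact ⟨r⁻¹ * y, hy, by simp⟩
  have h1 := fix_mod (p := 3) hρ3 A (by
    intro y hy
    have hy : r⁻¹ * y ∈ V := hy
    show r⁻¹ * (ρ * y * ρ⁻¹) ∈ V
    have h2 := cj_eq_self.2 (hρV _ hy)
    have h3 : r⁻¹ * (ρ * y * ρ⁻¹) = (r⁻¹ * (ρ * r * ρ⁻¹)) * (ρ * (r⁻¹ * y) * ρ⁻¹) := by group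
    rw [h3, h2]
    exact mul_mem hr hy)
  rw [hA] at h1
  by_contra hcon
  push Not at hcon
  have : {a : G | a ∈ A ∧ ρ * a = a * ρ} = ∅ := by
    rw [Set.eq_empty_iff_forall_notMem]
    rintro a ⟨ha, ha2⟩
    apply hcon _ ha
    rw [mul_inv_cancel_left]; exact ha2
  rw [this, Set.ncard_empty] at h1
  simp [Nat.ModEq] at h1

/-- four cosets -/
theorem four_cosets [Finite G] (V A : Subgroup G) (hVA : V ≤ A) (hc : Nat.card A = 4 * Nat.card V)
    (x : Fin 3 → G) (hx : ∀ i, x i ∈ A) (hxV : ∀ i, x i ∉ V) (hd : ∀ i j, i ≠ j → (x i)⁻¹ * x j ∉ V) :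
    ∀ y ∈ A, y ∈ V ∨ ∃ i, (x i)⁻¹ * y ∈ V := by
  classical
  have hidx : Nat.card (A ⧸ V.subgroupOf A) = 4 := by
    have h1 := (V.subgroupOf A).card_mul_index
    rw [SubgroupTools.card_subgroupOf_of_le hVA, hc, Subgroup.index] at h1
    have hpos : 0 < Nat.card V := Nat.card_pos
    nlinarith
  let F : Option (Fin 3) → A ⧸ V.subgroupOf A := fun o => match o with
    | none => QuotientGroup.mk 1
    | some i => QuotientGroup.mk ⟨x i, hx i⟩
  have hF : Function.Injective F := by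
    intro o o' h
    cases o with
    | none =>
      cases o' with
      | none => rfl
      | some j =>
        exfalso
        have : (QuotientGroup.mk 1 : A ⧸ V.subgroupOf A) = QuotientGroup.mk ⟨x j, hx j⟩ := h
        rw [QuotientGroup.eq, Subgroup.mem_subgroupOf] at this
        apply hxV j
        simpa using this
    | some i =>
      cases o' with
      | none =>
        exfalso
        have : (QuotientGroup.mk ⟨x i, hx i⟩ : A ⧸ V.subgroupOf A) = QuotientGroup.mk 1 := h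
        rw [QuotientGroup.eq, Subgroup.mem_subgroupOf] at this
        apply hxV i
        simpa using this
      | some j =>
        by_contra hij
        have : (QuotientGroup.mk ⟨x i, hx i⟩ : A ⧸ V.subgroupOf A) = QuotientGroup.mk ⟨x j, hx j⟩ := h
        rw [QuotientGroup.eq, Subgroup.mem_subgroupOf] at this
        apply hd i j (fun e => hij (by rw [e]))
        simpa using this
  have hFs : Function.Surjective F := by
    have : Fintype (A ⧸ V.subgroupOf A) := Fintype.ofFinite _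
    refine ((Fintype.bijective_iff_injective_and_card F).2 ⟨hF, ?_⟩).2
    rw [Nat.card_eq_fintype_card] at hidx
    rw [hidx]; rfl
  intro y hy
  obtain ⟨o, ho⟩ := hFs (QuotientGroup.mk ⟨y, hy⟩)
  cases o with
  | none =>
    left
    have : (QuotientGroup.mk 1 : A ⧸ V.subgroupOf A) = QuotientGroup.mk ⟨y, hy⟩ := ho
    rw [QuotientGroup.eq, Subgroup.mem_subgroupOf] at this
    simpa using this
  | some i =>
    right
    refine ⟨i, ?_⟩
    have : (QuotientGroup.mk ⟨x i, hx i⟩ : A ⧸ V.subgroupOf A) = QuotientGroup.mk ⟨y, hy⟩ := ho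
    rw [QuotientGroup.eq, Subgroup.mem_subgroupOf] at this
    simpa using this

end gen

namespace Setup.Four

variable {G : Type*} [Group G] [Finite G] {S : Setup G} {u w : G}

theorem exists_three (f : S.Four u w) : ∃ ρ : G, ρ * u = u * ρ ∧ ρ * w = w * ρ ∧ orderOf ρ = 3 := by
  have : Fact (Nat.Prime 3) := ⟨by norm_num⟩
  have hc := f.hu.base.card_cent_two f.hmem f.hw2 f.hw1 f.hwu
  obtain ⟨x, hx⟩ := exists_prime_orderOf_dvd_card' (G := ↥(Subgroup.centralizer ({u} : Set G) ⊓ Subgroup.centralizer ({w} : Set G))) 3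
    (by rw [hc]; norm_num)
  exact ⟨x, mem_centralizer_one.1 x.2.1, mem_centralizer_one.1 x.2.2, by rw [Subgroup.orderOf_coe]; exact hx⟩

section rho

variable {ρ : G}

theorem fixA (f : S.Four u w) (hρu : ρ * u = u * ρ) (hρw : ρ * w = w * ρ) (h3 : orderOf ρ = 3) {a : G}
    (ha : a ∈ A S u w) (hρa : ρ * a = a * ρ) : a ∈ V u w :=
  (f.hu.base.three_fix f.hmem f.hw2 f.hw1 f.hwu hρu hρw h3).1 a (mem_A.1 ha).1 (mem_A.1 ha).2 hρa

theorem rhoV (f : S.Four u w) (hρu : ρ * u = u * ρ) (hρw : ρ * w = w * ρ) : ∀ x ∈ V u w, ρ * x = x * ρ :=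
  fun _ hx => f.comm_V hρu hρw hx

theorem fixA_mod (f : S.Four u w) (hρu : ρ * u = u * ρ) (hρw : ρ * w = w * ρ) (h3 : orderOf ρ = 3) {a : G}
    (ha : a ∈ A S u w) (hρa : a⁻¹ * (ρ * a * ρ⁻¹) ∈ V u w) : a ∈ V u w := by
  obtain ⟨x, hx, hx2⟩ := coset_fix (V u w) f.card_V (by rw [← h3]; exact pow_orderOf_eq_one ρ) (f.rhoV hρu hρw) hρa
  have h1 := f.fixA hρu hρw h3 (mul_mem ha (f.V_le_A hx)) hx2
  have h2 := mul_mem h1 (inv_mem hx)
  simpa using h2

theorem fixR (f : S.Four u w) (hρu : ρ * u = u * ρ) (hρw : ρ * w = w * ρ) (h3 : orderOf ρ = 3) {r : G}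
    (hr : r ∈ R S u w) (hρr : ρ * r = r * ρ) : r ∈ V u w := by
  obtain ⟨a, ha, b, hb, rfl⟩ := f.exists_mul hr
  have ha' := conj_A f.hu hρu hρw ha
  have hb' := conj_A f.hw hρw hρu hb
  have h1 : (ρ * a * ρ⁻¹) * (ρ * b * ρ⁻¹) = a * b := by
    rw [← cj_mul]; exact cj_eq_self.2 hρr
  have h2 : a⁻¹ * (ρ * a * ρ⁻¹) = b * (ρ * b * ρ⁻¹)⁻¹ := by
    rw [eq_mul_inv_iff_mul_eq, mul_assoc, h1, inv_mul_cancel_left]
  have h3' : a⁻¹ * (ρ * a * ρ⁻¹) ∈ V u w := by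
    rw [← f.A_inf, Subgroup.mem_inf]
    refine ⟨?_, (A S u w).mul_mem ((A S u w).inv_mem ha) ha'⟩
    rw [h2]; exact (A S w u).mul_mem hb ((A S w u).inv_mem hb')
  have haV := f.fixA_mod hρu hρw h3 ha h3'
  have hρa := f.rhoV hρu hρw a haV
  have hρb : ρ * b = b * ρ := by
    have : ρ * (a * b) = a * b * ρ := hρr
    rw [← mul_assoc, hρa, mul_assoc, mul_assoc] at this
    exact mul_left_cancel this
  have hbV := f.swap.fixA hρw hρu h3 hb hρb
  rw [V_swap] at hbV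
  exact mul_mem haV hbV

theorem fixR_mod (f : S.Four u w) (hρu : ρ * u = u * ρ) (hρw : ρ * w = w * ρ) (h3 : orderOf ρ = 3) {r : G}
    (hr : r ∈ R S u w) (hρr : r⁻¹ * (ρ * r * ρ⁻¹) ∈ V u w) : r ∈ V u w := by
  obtain ⟨x, hx, hx2⟩ := coset_fix (V u w) f.card_V (by rw [← h3]; exact pow_orderOf_eq_one ρ) (f.rhoV hρu hρw) hρr
  have h1 := f.fixR hρu hρw h3 (mul_mem hr (f.V_le_R hx)) hx2
  have h2 := mul_mem h1 (inv_mem hx)
  simpa using h2

theorem norm_mem (f : S.Four u w) (hρu : ρ * u = u * ρ) (hρw : ρ * w = w * ρ) (h3 : orderOf ρ = 3) {r : G}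
    (hr : r ∈ R S u w) : r * (ρ * r * ρ⁻¹) * (ρ * (ρ * r * ρ⁻¹) * ρ⁻¹) ∈ V u w := by
  have hρ3 : ρ ^ 3 = 1 := by rw [← h3]; exact pow_orderOf_eq_one ρ
  have h1 := f.conj_R hρu hρw hr
  have h2 := f.conj_R hρu hρw h1
  apply f.fixR_mod hρu hρw h3 (mul_mem (mul_mem hr h1) h2)
  have e : ρ * (ρ * (ρ * r * ρ⁻¹) * ρ⁻¹) * ρ⁻¹ = r := by
    have : ρ * (ρ * (ρ * r * ρ⁻¹) * ρ⁻¹) * ρ⁻¹ = ρ ^ 3 * r * (ρ ^ 3)⁻¹ := by
      rw [pow_succ, pow_two]; group
    rw [this, hρ3]; simp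
  have e2 : ρ * (r * (ρ * r * ρ⁻¹) * (ρ * (ρ * r * ρ⁻¹) * ρ⁻¹)) * ρ⁻¹ =
      r⁻¹ * (r * (ρ * r * ρ⁻¹) * (ρ * (ρ * r * ρ⁻¹) * ρ⁻¹)) * r := by
    rw [cj_mul, cj_mul, e]; group
  rw [e2]
  have h4 := f.comm_R (inv_mem (mul_mem (mul_mem hr h1) h2)) (inv_mem hr)
  simpa [mul_assoc] using h4

/-- `ρ` is transitive on the nontrivial cosets of `V` in `A`. -/
theorem orbA (f : S.Four u w) (hρu : ρ * u = u * ρ) (hρw : ρ * w = w * ρ) (h3 : orderOf ρ = 3) {a : G}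
    (ha : a ∈ A S u w) (haV : a ∉ V u w) {y : G} (hy : y ∈ A S u w) (hyV : y ∉ V u w) :
    ∃ i : ℕ, (ρ ^ i * a * (ρ ^ i)⁻¹)⁻¹ * y ∈ V u w := by
  have hρ3 : ρ ^ 3 = 1 := by rw [← h3]; exact pow_orderOf_eq_one ρ
  have hpu : ∀ i : ℕ, ρ ^ i * u = u * ρ ^ i := fun i => (Commute.pow_left hρu i)
  have hpw : ∀ i : ℕ, ρ ^ i * w = w * ρ ^ i := fun i => (Commute.pow_left hρw i)
  have hV : ∀ i : ℕ, ∀ x ∈ V u w, ρ ^ i * x * (ρ ^ i)⁻¹ = x := fun i x hx =>
    cj_eq_self.2 (f.comm_V (hpu i) (hpw i) hx)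
  -- basic fact
  have h01 : a⁻¹ * (ρ * a * ρ⁻¹) ∉ V u w := fun h => haV (f.fixA_mod hρu hρw h3 ha h)
  have h2o : orderOf (ρ ^ 2) = 3 := by
    rw [orderOf_pow, h3]; norm_num
  have h02 : a⁻¹ * (ρ ^ 2 * a * (ρ ^ 2)⁻¹) ∉ V u w := fun h => haV (f.fixA_mod (hpu 2) (hpw 2) h2o ha h)
  let x : Fin 3 → G := fun i => ρ ^ (i : ℕ) * a * (ρ ^ (i : ℕ))⁻¹
  have key : ∀ i j : Fin 3, i < j → (x i)⁻¹ * x j ∉ V u w := by
    intro i j hij h
    have h5 : (ρ ^ (i : ℕ))⁻¹ * ((x i)⁻¹ * x j) * ρ ^ (i : ℕ) ∈ V u w := by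
      have := hV i _ h
      rw [mul_inv_eq_iff_eq_mul] at this
      rw [mul_assoc, ← this, inv_mul_cancel_left]
      exact h
    have h6 : (ρ ^ (i : ℕ))⁻¹ * ((x i)⁻¹ * x j) * ρ ^ (i : ℕ) = a⁻¹ * (ρ ^ ((j : ℕ) - i) * a * (ρ ^ ((j : ℕ) - i))⁻¹) := by
      have hj : ρ ^ (j : ℕ) = ρ ^ (i : ℕ) * ρ ^ ((j : ℕ) - i) := by
        rw [← pow_add]; congr 1; have : (i : ℕ) < j := hij; omega
      show (ρ ^ (i : ℕ))⁻¹ * ((ρ ^ (i : ℕ) * a * (ρ ^ (i : ℕ))⁻¹)⁻¹ * (ρ ^ (j : ℕ) * a * (ρ ^ (j : ℕ))⁻¹)) * ρ ^ (i : ℕ) = _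
      rw [hj]; group
    rw [h6] at h5
    have hlt : (i : ℕ) < j := hij
    have hj3 : (j : ℕ) < 3 := j.2
    have : (j : ℕ) - i = 1 ∨ (j : ℕ) - i = 2 := by omega
    rcases this with h7 | h7
    · rw [h7, pow_one] at h5; exact h01 h5
    · rw [h7] at h5; exact h02 h5
  have h4 := four_cosets (V u w) (A S u w) f.V_le_A (by rw [f.card_A, f.card_V]) x
    (fun i => conj_A f.hu (hpu i) (hpw i) ha)
    (fun i h => by
      apply haV
      have := hV i _ h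
      have h8 : ρ ^ (i : ℕ) * a * (ρ ^ (i : ℕ))⁻¹ = a := by
        have h9 : x i = ρ ^ (i : ℕ) * a * (ρ ^ (i : ℕ))⁻¹ := rfl
        rw [h9] at this
        exact cj_inj this
      have h9 : x i = a := h8
      rwa [h9] at h)
    (fun i j hij h => by
      rcases lt_or_gt_of_ne hij with h5 | h5
      · exact key i j h5 h
      · apply key j i h5
        have := inv_mem h
        simpa using this)
  rcases h4 y hy with h5 | ⟨i, h5⟩
  · exact absurd h5 hyV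
  · exact ⟨i, h5⟩

end rho

/-! ### commutator calculus in `R` -/

theorem comm_mul_right (f : S.Four u w) {a b c : G} (ha : a ∈ R S u w) (hb : b ∈ R S u w) (hc : c ∈ R S u w) :
    a * (b * c) * a⁻¹ * (b * c)⁻¹ = (a * b * a⁻¹ * b⁻¹) * (a * c * a⁻¹ * c⁻¹) := by
  have h1 := f.comm_R ha hc
  have h2 := f.R_comm_V hb h1
  calc a * (b * c) * a⁻¹ * (b * c)⁻¹ = (a * b * a⁻¹ * b⁻¹) * (b * (a * c * a⁻¹ * c⁻¹)) * b⁻¹ := by group
    _ = (a * b * a⁻¹ * b⁻¹) * (a * c * a⁻¹ * c⁻¹) := by rw [h2]; group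

theorem comm_swap (f : S.Four u w) {a b : G} (ha : a ∈ R S u w) (hb : b ∈ R S u w) :
    b * a * b⁻¹ * a⁻¹ = a * b * a⁻¹ * b⁻¹ := by
  have h1 := f.V_sq (f.comm_R ha hb)
  have h2 : b * a * b⁻¹ * a⁻¹ = (a * b * a⁻¹ * b⁻¹)⁻¹ := by group
  rw [h2, inv_eq_iff_mul_eq_one]; exact h1

theorem comm_mul_left (f : S.Four u w) {a b c : G} (ha : a ∈ R S u w) (hb : b ∈ R S u w) (hc : c ∈ R S u w) :
    (a * b) * c * (a * b)⁻¹ * c⁻¹ = (a * c * a⁻¹ * c⁻¹) * (b * c * b⁻¹ * c⁻¹) := by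
  rw [f.comm_swap hc (mul_mem ha hb), f.comm_mul_right hc ha hb, f.comm_swap ha hc, f.comm_swap hb hc]

theorem mul_sq' (f : S.Four u w) {a b : G} (ha : a ∈ R S u w) (hb : b ∈ R S u w) :
    (a * b) * (a * b) = (a * b * a⁻¹ * b⁻¹) * ((a * a) * (b * b)) := by
  have h1 := f.comm_R hb ha
  have h2 := f.R_comm_V ha h1
  rw [← f.comm_swap ha hb]
  calc (a * b) * (a * b) = (a * (b * a * b⁻¹ * a⁻¹)) * a * b * b := by group
    _ = _ := by rw [h2]; simp only [mul_assoc]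

theorem comm_V_eq_one (f : S.Four u w) {a x : G} (ha : a ∈ R S u w) (hx : x ∈ V u w) :
    a * x * a⁻¹ * x⁻¹ = 1 := by
  rw [f.R_comm_V ha hx]; group

/-! ### the set `T` -/

def T (S : Setup G) (u w : G) : Set G := {r | r ∈ R S u w ∧ r ∉ S.q u ∧ r ∉ S.q w ∧ r ∉ S.q (u * w)}

theorem T_swap (f : S.Four u w) : T S w u = T S u w := by
  ext x
  simp only [T, Set.mem_setOf_eq]
  rw [R_swap, f.comm]
  tauto

theorem T_left (f : S.Four u w) : T S (u * w) w = T S u w := by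
  ext x
  simp only [T, Set.mem_setOf_eq]
  rw [f.R_left, f.mul_mul]
  tauto

theorem T_right (f : S.Four u w) : T S u (u * w) = T S u w := by
  ext x
  simp only [T, Set.mem_setOf_eq]
  rw [f.R_right, f.mul_mul']
  tauto

theorem T_conj (f : S.Four u w) (x : G) {y : G} : y ∈ T S (x * u * x⁻¹) (x * w * x⁻¹) ↔ x⁻¹ * y * x ∈ T S u w := by
  simp only [T, Set.mem_setOf_eq]
  rw [f.R_conj, mem_q_conj f.hu, mem_q_conj f.hw, ← cj_mul, mem_q_conj f.left.hu]

theorem mul_mem_T (f : S.Four u w) {r x : G} (hr : r ∈ T S u w) (hx : x ∈ V u w) : r * x ∈ T S u w := by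
  obtain ⟨h1, h2, h3, h4⟩ := hr
  refine ⟨mul_mem h1 (f.V_le_R hx), ?_, ?_, ?_⟩
  · intro h; apply h2
    have := mul_mem h (inv_mem (f.V_le_q hx)); simpa using this
  · intro h; apply h3
    have := mul_mem h (inv_mem (f.V_le_q' hx)); simpa using this
  · intro h; apply h4
    have := mul_mem h (inv_mem (f.V_le_q'' hx)); simpa using this

theorem conj_mem_T (f : S.Four u w) {x y : G} (hxu : x * u = u * x) (hxw : x * w = w * x) (hy : y ∈ T S u w) :
    x * y * x⁻¹ ∈ T S u w := by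
  have h := (f.T_conj x (y := x * y * x⁻¹)).2 (by
    have e : x⁻¹ * (x * y * x⁻¹) * x = y := by group
    rwa [e])
  rwa [cj_eq_self.2 hxu, cj_eq_self.2 hxw] at h

/-- decomposition of an element of `T`. -/
theorem exists_mul_T (f : S.Four u w) {r : G} (hr : r ∈ T S u w) :
    ∃ a ∈ A S u w, ∃ b ∈ A S w u, r = a * b ∧ a ∉ V u w ∧ b ∉ V u w := by
  obtain ⟨h1, h2, h3, h4⟩ := hr
  obtain ⟨a, ha, b, hb, rfl⟩ := f.exists_mul h1
  refine ⟨a, ha, b, hb, rfl, ?_, ?_⟩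
  · intro h; exact h3 (mul_mem (f.V_le_q' h) (mem_A.1 hb).1)
  · intro h; exact h2 (mul_mem (mem_A.1 ha).1 (f.V_le_q h))

/-- for `a ∈ A_u ∖ V` there is `b ∈ A_w ∖ V` commuting with `a` and `ab ∈ Q_{uw}` -/
theorem exists_b0 (f : S.Four u w) {a : G} (ha : a ∈ A S u w) (haV : a ∉ V u w) :
    ∃ b ∈ A S w u, b ∉ V u w ∧ a * b ∈ S.q (u * w) ∧ a * b * a⁻¹ * b⁻¹ = 1 := by
  have haR : a ∈ R S u w := A_le_R ha
  have haR' := haR
  rw [← f.R_left] at haR'
  obtain ⟨e, he, c, hc, hac⟩ := f.left.exists_mul haR'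
  -- `c ∈ A_w(uw) = A_w(u)`
  have hc' : c ∈ A S w u := by
    have := f.swap.A_right
    rw [← f.comm] at this
    rwa [this] at hc
  have hcV : c ∉ V u w := by
    intro h
    apply haV
    -- a ∈ Q_{uw} ∩ Q_u
    have h1 : a ∈ S.q (u * w) := by rw [hac]; exact mul_mem (mem_A.1 he).1 (f.V_le_q'' h)
    have h2 := f.right.inf_le (mem_A.1 ha).1 h1
    rwa [f.V_right] at h2
  have hab : a * c⁻¹ = e := by rw [hac]; simp
  have hbV : c⁻¹ ∉ V u w := fun h => hcV (by simpa using inv_mem h)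
  refine ⟨c⁻¹, inv_mem hc', hbV, ?_, ?_⟩
  · rw [hab]; exact (mem_A.1 he).1
  · have heV : e ∉ V u w := by
      intro h
      apply haV
      have h1 : a ∈ S.q w := by rw [hac]; exact mul_mem (f.V_le_q' h) (mem_A.1 hc').1
      exact f.inf_le (mem_A.1 ha).1 h1
    have he2 : e * e = u * w := f.left.sq_eq (mem_A.1 he).1 (mem_A.1 he).2 (by rw [f.V_left]; exact heV)
    have ha2 : a * a = u := f.sq_eq (mem_A.1 ha).1 (mem_A.1 ha).2 haV
    have hb2 : c⁻¹ * c⁻¹ = w := f.swap.sq_eq (mem_A.1 (inv_mem hc')).1 (mem_A.1 (inv_mem hc')).2 (by rw [V_swap]; exact hbV)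
    have h5 := f.mul_sq' haR (A_le_R' (inv_mem hc'))
    rw [hab, he2, ha2, hb2] at h5
    have h6 : 1 * (u * w) = (a * c⁻¹ * a⁻¹ * c⁻¹⁻¹) * (u * w) := by rw [one_mul, ← hab] at *; exact h5
    exact (mul_right_cancel h6).symm

theorem claim1 (f : S.Four u w) {a b b' : G} (ha : a ∈ A S u w) (haV : a ∉ V u w) (hb : b ∈ A S w u)
    (hb' : b' ∈ A S w u) (hbV : b ∉ V u w) (hbV' : b' ∉ V u w) (hab : a * b ∉ S.q (u * w))
    (hab' : a * b' ∉ S.q (u * w)) : a * b * a⁻¹ * b⁻¹ = a * b' * a⁻¹ * b'⁻¹ := by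
  have haR : a ∈ R S u w := A_le_R ha
  have hbR : b ∈ R S u w := A_le_R' hb
  have hbR' : b' ∈ R S u w := A_le_R' hb'
  by_cases hbb : b⁻¹ * b' ∈ V u w
  · have e : b' = b * (b⁻¹ * b') := by group
    rw [e, f.comm_mul_right haR hbR (f.V_le_R hbb), f.comm_V_eq_one haR hbb, mul_one]
  · obtain ⟨b0, hb0, hb0V, hab0, hcomm⟩ := f.exists_b0 ha haV
    have hb0R : b0 ∈ R S u w := A_le_R' hb0
    have hAw : V u w ≤ A S w u := by rw [← V_swap]; exact f.swap.V_le_A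
    have hne : ∀ c : G, c ∈ A S w u → a * c ∉ S.q (u * w) → b0⁻¹ * c ∉ V u w := by
      intro c hc hac h
      apply hac
      have e : a * c = (a * b0) * (b0⁻¹ * c) := by group
      rw [e]; exact mul_mem hab0 (f.V_le_q'' h)
    have hinv : ∀ x y : G, x⁻¹ * y ∈ V u w → y⁻¹ * x ∈ V u w := by
      intro x y h
      have := inv_mem h
      simpa using this
    have h4 := four_cosets (V u w) (A S w u) hAw (by rw [f.swap.card_A, f.card_V]) ![b, b', b0]
      (by intro i; fin_cases i <;> assumption) (by intro i; fin_cases i <;> assumption)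
      (by
        intro i j hij
        fin_cases i <;> fin_cases j <;> simp only [Matrix.cons_val_zero, Matrix.cons_val_one, ne_eq, not_true_eq_false, Fin.zero_eta, Fin.mk_one, Fin.reduceFinMk, Matrix.cons_val] at hij ⊢
        · exact hbb
        · exact fun h => hne b hb hab (hinv _ _ h)
        · exact fun h => hbb (hinv _ _ h)
        · exact fun h => hne b' hb' hab' (hinv _ _ h)
        · exact hne b hb hab
        · exact hne b' hb' hab')
    have hb2 : b * b = w := f.swap.sq_eq (mem_A.1 hb).1 (mem_A.1 hb).2 (by rw [V_swap]; exact hbV)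
    have hb2' : b' * b' = w := f.swap.sq_eq (mem_A.1 hb').1 (mem_A.1 hb').2 (by rw [V_swap]; exact hbV')
    have hwV : w ∈ V u w := f.mem_V.2 (by tauto)
    rcases h4 (b * b') (mul_mem hb hb') with h5 | ⟨i, h5⟩
    · exfalso
      apply hbb
      have e : b⁻¹ * b' = (b * b)⁻¹ * (b * b') := by group
      rw [e, hb2]; exact mul_mem (inv_mem hwV) h5
    · fin_cases i
      · exfalso
        simp only [Fin.zero_eta, Matrix.cons_val_zero, inv_mul_cancel_left] at h5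
        exact hbV' h5
      · exfalso
        simp only [Fin.mk_one, Matrix.cons_val_one, Matrix.cons_val_zero] at h5
        -- b'⁻¹ b b' ∈ V so b ∈ V
        apply hbV
        have h6 := f.R_comm_V hbR' h5
        have h7 : b'⁻¹ * (b * b') = b'⁻¹ * b * b' := by rw [mul_assoc]
        have h8 : b = b' * (b'⁻¹ * (b * b')) * b'⁻¹ := by group
        rw [h8, h6]; simpa using h5
      · simp only [Fin.reduceFinMk, Matrix.cons_val] at h5
        have e : b * b' = b0 * (b0⁻¹ * (b * b')) := by group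
        have h6 : a * (b * b') * a⁻¹ * (b * b')⁻¹ = 1 := by
          rw [e, f.comm_mul_right haR hb0R (f.V_le_R h5), hcomm, f.comm_V_eq_one haR h5, mul_one]
        rw [f.comm_mul_right haR hbR hbR'] at h6
        have h7 := f.V_sq (f.comm_R haR hbR')
        exact mul_right_cancel (h6.trans h7.symm)

/-- all elements of `T` have the same square. -/
theorem same_sq (f : S.Four u w) {s s' : G} (hs : s ∈ T S u w) (hs' : s' ∈ T S u w) : s * s = s' * s' := by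
  obtain ⟨ρ, hρu, hρw, h3⟩ := f.exists_three
  have hpu : ∀ i : ℕ, ρ ^ i * u = u * ρ ^ i := fun i => (Commute.pow_left hρu i)
  have hpw : ∀ i : ℕ, ρ ^ i * w = w * ρ ^ i := fun i => (Commute.pow_left hρw i)
  obtain ⟨a, ha, b, hb, rfl, haV, hbV⟩ := f.exists_mul_T hs
  obtain ⟨a', ha', b', hb', rfl, haV', hbV'⟩ := f.exists_mul_T hs'
  obtain ⟨i, hi⟩ := f.orbA hρu hρw h3 ha haV ha' haV'
  set τ := ρ ^ i with hτ
  have hAw : V u w ≤ A S w u := by rw [← V_swap]; exact f.swap.V_le_A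
  have hta := conj_A f.hu (hpu i) (hpw i) ha
  have htb := conj_A f.hw (hpw i) (hpu i) hb
  have hcV : ∀ x ∈ V u w, τ * x * τ⁻¹ = x := fun x hx => cj_eq_self.2 (f.comm_V (hpu i) (hpw i) hx)
  have htaV : τ * a * τ⁻¹ ∉ V u w := by
    intro h
    apply haV
    have := hcV _ h
    have h8 : τ * a * τ⁻¹ = a := cj_inj this
    rwa [h8] at h
  have htbV : τ * b * τ⁻¹ ∉ V u w := by
    intro h
    apply hbV
    have := hcV _ h
    have h8 : τ * b * τ⁻¹ = b := cj_inj this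
    rwa [h8] at h
  have htT := f.conj_mem_T (hpu i) (hpw i) hs
  rw [← hτ, cj_mul] at htT
  rw [f.mul_sq' (A_le_R ha) (A_le_R' hb), f.mul_sq' (A_le_R ha') (A_le_R' hb'),
    f.sq_eq (mem_A.1 ha).1 (mem_A.1 ha).2 haV, f.sq_eq (mem_A.1 ha').1 (mem_A.1 ha').2 haV',
    f.swap.sq_eq (mem_A.1 hb).1 (mem_A.1 hb).2 (by rw [V_swap]; exact hbV),
    f.swap.sq_eq (mem_A.1 hb').1 (mem_A.1 hb').2 (by rw [V_swap]; exact hbV')]
  congr 1
  -- [a,b] = [a^τ, b^τ]
  have e1 : a * b * a⁻¹ * b⁻¹ = (τ * a * τ⁻¹) * (τ * b * τ⁻¹) * (τ * a * τ⁻¹)⁻¹ * (τ * b * τ⁻¹)⁻¹ := by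
    rw [← hcV _ (f.comm_R (A_le_R ha) (A_le_R' hb))]; group
  -- a' = a^τ x
  have e2 : a' = (τ * a * τ⁻¹) * ((τ * a * τ⁻¹)⁻¹ * a') := by group
  have e3 : a' * b' * a'⁻¹ * b'⁻¹ = (τ * a * τ⁻¹) * b' * (τ * a * τ⁻¹)⁻¹ * b'⁻¹ := by
    rw [e2, f.comm_mul_left (A_le_R hta) (f.V_le_R hi) (A_le_R' hb')]
    have : (τ * a * τ⁻¹)⁻¹ * a' * b' * ((τ * a * τ⁻¹)⁻¹ * a')⁻¹ * b'⁻¹ = 1 := by
      rw [← f.R_comm_V (A_le_R' hb') hi]; group
    rw [this, mul_one]
  rw [e1, e3]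
  apply f.claim1 hta htaV htb hb' htbV hbV' htT.2.2.2
  intro h
  apply hs'.2.2.2
  have hx := inv_mem hi
  have e4 : a' * b' = (τ * a * τ⁻¹) * b' * ((τ * a * τ⁻¹)⁻¹ * a') := by
    have := f.R_comm_V (A_le_R' hb') hi
    rw [mul_assoc, this]; group
  rw [e4]; exact mul_mem h (f.V_le_q'' hi)

/-- elements of `T` are involutions -/
theorem T_sq (f : S.Four u w) {s : G} (hs : s ∈ T S u w) : s * s = 1 := by
  obtain ⟨a, ha, b, hb, hau, haw, hbw, hbu⟩ := f.exists_ab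
  have hsV : s * s ∈ V u w := by
    obtain ⟨a, ha, b, hb, rfl, haV, hbV⟩ := f.exists_mul_T hs
    rw [f.mul_sq' (A_le_R ha) (A_le_R' hb), f.sq_eq (mem_A.1 ha).1 (mem_A.1 ha).2 haV,
      f.swap.sq_eq (mem_A.1 hb).1 (mem_A.1 hb).2 (by rw [V_swap]; exact hbV)]
    exact mul_mem (f.comm_R (A_le_R ha) (A_le_R' hb)) (f.mem_V.2 (by tauto))
  have h1 : a * s * a⁻¹ ∈ T S u w := by
    have h := (f.T_conj a (y := a * s * a⁻¹)).2 (by
      have e : a⁻¹ * (a * s * a⁻¹) * a = s := by group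
      rwa [e])
    rwa [hau, haw, f.T_right] at h
  have h2 : b * s * b⁻¹ ∈ T S u w := by
    have h := (f.T_conj b (y := b * s * b⁻¹)).2 (by
      have e : b⁻¹ * (b * s * b⁻¹) * b = s := by group
      rwa [e])
    rwa [hbu, hbw, f.T_left] at h
  have h3 := f.same_sq h1 hs
  have h4 := f.same_sq h2 hs
  rw [cj_sq] at h3 h4
  have hauw : a * (u * w) * a⁻¹ = w := by rw [cj_mul, hau, haw, f.mul_mul']
  have hbuw : b * (u * w) * b⁻¹ = u := by rw [cj_mul, hbu, hbw, f.mul_mul]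
  rcases f.mem_V.1 hsV with h | h | h | h
  · exact h
  · exfalso; rw [h, hbu] at h4; exact f.mul_ne_left h4
  · exfalso; rw [h, haw] at h3; exact f.mul_ne_right h3
  · exfalso; rw [h, hauw] at h3; exact f.mul_ne_right h3.symm

end Setup.Four

end Cfsg.Agent.Lib.JTw
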