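import Cfsg.Agent.Lib.JTw3
import Mathlib

/-!
# Groups of Hall–Janko type: centralizers of the elements of `T`
-/

set_option autoImplicit false

namespace Cfsg.Agent.Lib.JTw

open Cfsg Cfsg.Agent.Lib.LargeExtra

section a5

theorem a5_conj : ∀ a b : alternatingGroup (Fin 5), a ≠ 1 → a * a = 1 → b ≠ 1 → b * b = 1 →
    ∃ c, c * a * c⁻¹ = b := by
  decide +kernel

theorem a5_cent : ∀ a : alternatingGroup (Fin 5), a ≠ 1 → a * a = 1 →
    (Finset.univ.filter (fun c => c * a = a * c)).card = 4 := by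
  decide +kernel

theorem a5_card_cent {a : alternatingGroup (Fin 5)} (h1 : a ≠ 1) (h2 : a * a = 1) :
    Nat.card (Subgroup.centralizer ({a} : Set (alternatingGroup (Fin 5)))) = 4 := by
  classical
  rw [← a5_cent a h1 h2, card_eq_ncard, ← Set.ncard_coe_finset]
  congr 1
  ext c
  rw [SetLike.mem_coe, mem_centralizer_one]
  simp

end a5

section base

variable {G : Type*} [Group G] [Finite G] {z : G} {Q : Subgroup G}

/-- The involutions of `C(z)` outside `Q`, once one of them has a small centralizer in `Q`. -/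
theorem Base.inv_class (h : Base z Q) {x : G} (hxz : x * z = z * x) (hxQ : x ∉ Q) (hx2 : x * x = 1)
    (hcx : Nat.card ↥(Q ⊓ Subgroup.centralizer ({x} : Set G)) = 4) :
    (∀ y : G, y * z = z * y → y ∉ Q → y * y = 1 → ∃ c : G, c * z = z * c ∧ c * x * c⁻¹ = y) ∧
      Nat.card ↥(Subgroup.centralizer ({z} : Set G) ⊓ Subgroup.centralizer ({x} : Set G)) = 16 := by
  have hxi : x⁻¹ = x := by rw [inv_eq_iff_mul_eq_one]; exact hx2
  -- the group D
  have hnx : ∀ q ∈ Q, x * q * x⁻¹ ∈ Q := fun q hq => h.pre.norm x hxz q hq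
  let D : Subgroup G :=
    { carrier := {q | q ∈ Q ∧ (x * q * x⁻¹ = q ∨ x * q * x⁻¹ = z * q)}
      one_mem' := ⟨one_mem _, by left; group⟩
      mul_mem' := by
        rintro a b ⟨ha, ha'⟩ ⟨hb, hb'⟩
        refine ⟨mul_mem ha hb, ?_⟩
        rw [cj_mul]
        have e1 : a * (z * b) = z * (a * b) := by rw [← mul_assoc, h.pre.cen a ha, mul_assoc]
        have e2 : z * a * (z * b) = a * b := by
          rw [mul_assoc, e1, ← mul_assoc, h.pre.sq, one_mul]
        rcases ha' with h1 | h1 <;> rcases hb' with h2 | h2 <;> rw [h1, h2]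
        · left; rfl
        · right; exact e1
        · right; rw [mul_assoc]
        · left; exact e2
      inv_mem' := by
        rintro a ⟨ha, ha'⟩
        refine ⟨inv_mem ha, ?_⟩
        have e : x * a⁻¹ * x⁻¹ = (x * a * x⁻¹)⁻¹ := by group
        rw [e]
        rcases ha' with h1 | h1
        · left; rw [h1]
        · right; rw [h1, mul_inv_rev, h.pre.toExData.inv]
          exact h.pre.cen _ (inv_mem ha) }
  have hDQ : D ≤ Q := fun q hq => hq.1
  -- D has at most 8 elements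
  have hD8 : Nat.card D ≤ 8 := by
    have h1 := InvAct.card_conj_orbit D x
    have h2 : {w : G | ∃ k ∈ D, k * x * k⁻¹ = w}.ncard ≤ 2 := by
      have h3 : {w : G | ∃ k ∈ D, k * x * k⁻¹ = w} ⊆ {x, z * x} := by
        rintro w ⟨k, ⟨hk, hk2⟩, rfl⟩
        rcases hk2 with h4 | h4
        · left
          rw [mul_inv_eq_iff_eq_mul] at h4
          rw [← h4]; group
        · right
          rw [Set.mem_singleton_iff, mul_inv_eq_iff_eq_mul]
          rw [mul_inv_eq_iff_eq_mul] at h4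
          calc k * x = (z * z) * (k * x) := by rw [h.pre.sq, one_mul]
            _ = z * (z * k * x) := by simp only [mul_assoc]
            _ = z * (x * k) := by rw [h4]
            _ = z * x * k := by rw [mul_assoc]
      exact (Set.ncard_le_ncard h3 (Set.toFinite _)).trans ((Set.ncard_insert_le _ _).trans (by rw [Set.ncard_singleton]))
    have h3 : Nat.card ↥(D ⊓ Subgroup.centralizer ({x} : Set G)) ≤ 4 := by
      rw [← hcx]
      exact Subgroup.card_le_of_le (inf_le_inf_right _ hDQ)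
    calc Nat.card D = _ := h1
      _ ≤ 2 * 4 := Nat.mul_le_mul h2 h3
      _ = 8 := by norm_num
  -- involutions in the coset x Q
  let Y : Set G := {y | x⁻¹ * y ∈ Q ∧ y * y = 1}
  have hY8 : Y.ncard ≤ 8 := by
    refine le_trans ?_ hD8
    rw [card_eq_ncard]
    apply Set.ncard_le_ncard_of_injOn (fun y => x⁻¹ * y)
    · rintro y ⟨hy, hy2⟩
      show x⁻¹ * y ∈ D
      refine ⟨hy, ?_⟩
      -- q = x⁻¹ y, x q x⁻¹ = y x⁻¹ = q⁻¹
      have hyi : y⁻¹ = y := by rw [inv_eq_iff_mul_eq_one]; exact hy2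
      have e : x * (x⁻¹ * y) * x⁻¹ = (x⁻¹ * y)⁻¹ := by
        rw [mul_inv_rev, hyi, inv_inv, hxi]
        rw [← mul_assoc, hx2, one_mul]
      rw [e]
      rcases h.pre.qsq _ hy with h4 | h4
      · left; rw [inv_eq_iff_mul_eq_one]; exact h4
      · right
        rw [inv_eq_iff_mul_eq_one, ← mul_assoc, h.pre.cen _ hy, mul_assoc, h4, h.pre.sq]
    · intro a _ b _ hab; exact mul_left_cancel hab
  have hO : {w : G | ∃ k ∈ Q, k * x * k⁻¹ = w} = Y := by
    apply Set.eq_of_subset_of_ncard_le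
    · rintro w ⟨k, hk, rfl⟩
      refine ⟨?_, ?_⟩
      · have : x⁻¹ * (k * x * k⁻¹) = (x⁻¹ * k * x⁻¹⁻¹) * k⁻¹ := by group
        rw [this]
        exact mul_mem (h.pre.norm x⁻¹ (inv_comm_iff.2 hxz) k hk) (inv_mem hk)
      · rw [cj_sq, hx2]; group
    · have h1 := InvAct.card_conj_orbit Q x
      rw [hcx, h.card] at h1
      omega
    · exact Set.toFinite _
  have hconjQ : ∀ y : G, x⁻¹ * y ∈ Q → y * y = 1 → ∃ k ∈ Q, k * x * k⁻¹ = y := by
    intro y hy hy2
    have : y ∈ {w : G | ∃ k ∈ Q, k * x * k⁻¹ = w} := by rw [hO]; exact ⟨hy, hy2⟩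
    exact this
  obtain ⟨φ, hφs, hφk⟩ := h.ex
  have hxC : x ∈ Subgroup.centralizer ({z} : Set G) := mem_centralizer_one.2 hxz
  have hφx1 : φ ⟨x, hxC⟩ ≠ 1 := fun h1 => hxQ ((hφk _).1 h1)
  have hφx2 : φ ⟨x, hxC⟩ * φ ⟨x, hxC⟩ = 1 := by
    rw [← map_mul, ← map_one φ]
    congr 1
    exact Subtype.ext hx2
  constructor
  · intro y hyz hyQ hy2
    have hyC : y ∈ Subgroup.centralizer ({z} : Set G) := mem_centralizer_one.2 hyz
    have hφy1 : φ ⟨y, hyC⟩ ≠ 1 := fun h1 => hyQ ((hφk _).1 h1)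
    have hφy2 : φ ⟨y, hyC⟩ * φ ⟨y, hyC⟩ = 1 := by
      rw [← map_mul, ← map_one φ]
      congr 1
      exact Subtype.ext hy2
    obtain ⟨c', hc'⟩ := a5_conj _ _ hφx1 hφx2 hφy1 hφy2
    obtain ⟨⟨c, hcC⟩, rfl⟩ := hφs c'
    have hc : c * z = z * c := mem_centralizer_one.1 hcC
    have h1 : φ (⟨x, hxC⟩⁻¹ * (⟨c, hcC⟩⁻¹ * ⟨y, hyC⟩ * ⟨c, hcC⟩)) = 1 := by
      rw [map_mul, map_mul, map_mul, map_inv, map_inv, ← hc']
      group
    rw [hφk] at h1
    have h1 : x⁻¹ * (c⁻¹ * y * c) ∈ Q := h1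
    obtain ⟨k, hk, hk2⟩ := hconjQ _ h1 (by
      calc c⁻¹ * y * c * (c⁻¹ * y * c) = c⁻¹ * (y * y) * c := by group
        _ = 1 := by rw [hy2]; group)
    refine ⟨c * k, ?_, ?_⟩
    · rw [mul_assoc, h.pre.cen k hk, ← mul_assoc, hc, mul_assoc]
    · rw [cj_cj, hk2]; group
  · -- the order of the centralizer
    let H : Subgroup G := Subgroup.centralizer ({z} : Set G) ⊓ Subgroup.centralizer ({x} : Set G)
    let ψ : H →* alternatingGroup (Fin 5) := φ.comp (Subgroup.inclusion (inf_le_left : H ≤ _))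
    have hr : ψ.range = Subgroup.centralizer ({φ ⟨x, hxC⟩} : Set (alternatingGroup (Fin 5))) := by
      ext c'
      rw [mem_centralizer_one]
      constructor
      · rintro ⟨⟨c, hc⟩, rfl⟩
        show φ ⟨c, hc.1⟩ * φ ⟨x, hxC⟩ = φ ⟨x, hxC⟩ * φ ⟨c, hc.1⟩
        rw [← map_mul, ← map_mul]
        congr 1
        exact Subtype.ext (mem_centralizer_one.1 hc.2)
      · intro hc'
        obtain ⟨⟨c, hcC⟩, rfl⟩ := hφs c'
        have hc : c * z = z * c := mem_centralizer_one.1 hcC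
        have h1 : φ (⟨x, hxC⟩⁻¹ * (⟨c, hcC⟩ * ⟨x, hxC⟩ * ⟨c, hcC⟩⁻¹)) = 1 := by
          rw [map_mul, map_mul, map_mul, map_inv, map_inv, hc']
          group
        rw [hφk] at h1
        have h1 : x⁻¹ * (c * x * c⁻¹) ∈ Q := h1
        obtain ⟨k, hk, hk2⟩ := hconjQ _ h1 (by rw [cj_sq, hx2]; group)
        have hkC : k ∈ Subgroup.centralizer ({z} : Set G) := h.Q_le hk
        refine ⟨⟨k⁻¹ * c, Subgroup.mem_inf.2 ⟨mul_mem (inv_mem hkC) hcC, ?_⟩⟩, ?_⟩
        · rw [mem_centralizer_one]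
          rw [mul_inv_eq_iff_eq_mul] at hk2
          have h2 : k * x = c * x * c⁻¹ * k := hk2
          have h3 : k⁻¹ * c * x * (k⁻¹ * c)⁻¹ = x := by
            calc k⁻¹ * c * x * (k⁻¹ * c)⁻¹ = k⁻¹ * (c * x * c⁻¹ * k) := by group
              _ = x := by rw [← h2]; group
          exact mul_inv_eq_iff_eq_mul.1 h3
        · show φ ⟨k⁻¹ * c, _⟩ = φ ⟨c, hcC⟩
          have h2 : φ ⟨k, hkC⟩ = 1 := (hφk _).2 hk
          have h3 : (⟨k⁻¹ * c, mul_mem (inv_mem hkC) hcC⟩ : Subgroup.centralizer ({z} : Set G)) = ⟨k, hkC⟩⁻¹ * ⟨c, hcC⟩ := rfl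
          rw [h3, map_mul, map_inv, h2, inv_one, one_mul]
    have hk : Nat.card ψ.ker = 4 := by
      rw [← hcx]
      have : ψ.ker = (Q ⊓ Subgroup.centralizer ({x} : Set G)).subgroupOf H := by
        ext ⟨c, hc⟩
        rw [MonoidHom.mem_ker, Subgroup.mem_subgroupOf]
        show φ ⟨c, hc.1⟩ = 1 ↔ _
        rw [hφk]
        constructor
        · intro h1; exact ⟨h1, hc.2⟩
        · intro h1; exact h1.1
      rw [this]
      exact SubgroupTools.card_subgroupOf_of_le (inf_le_inf_right _ h.Q_le)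
    have h1 := ψ.ker.card_mul_index
    rw [Subgroup.index_ker, hr, a5_card_cent hφx1 hφx2, hk] at h1
    exact h1.symm

end base

namespace Setup.Four

variable {G : Type*} [Group G] [Finite G] {S : Setup G} {u w : G}

theorem A_inf' (f : S.Four u w) : A S u w ⊓ A S w u = V u w := by
  rw [inf_comm]; exact f.A_inf

/-- `|T| = 24`. -/
theorem ncard_T (f : S.Four u w) : (T S u w).ncard = 24 := by
  classical
  have h1 : ((A S u w : Set G) ∪ (A S w u : Set G)).ncard = 28 := by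
    have := Set.ncard_union_add_ncard_inter (A S u w : Set G) (A S w u : Set G)
    rw [← Subgroup.coe_inf, f.A_inf', ← card_eq_ncard, ← card_eq_ncard, ← card_eq_ncard, f.card_A, f.card_V, f.swap.card_A] at this
    omega
  have hA3 : Nat.card (A S (u * w) w) = 16 := f.left.card_A
  have h2 : (((A S u w : Set G) ∪ (A S w u : Set G)) ∪ (A S (u * w) w : Set G)).ncard = 40 := by
    have := Set.ncard_union_add_ncard_inter ((A S u w : Set G) ∪ (A S w u : Set G)) (A S (u * w) w : Set G)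
    have e : ((A S u w : Set G) ∪ (A S w u : Set G)) ∩ (A S (u * w) w : Set G) = (V u w : Set G) := by
      ext x
      constructor
      · rintro ⟨h3 | h3, h4⟩
        · have h5 := f.right.inf_le (mem_A.1 h3).1 (mem_A.1 h4).1
          rw [f.V_right] at h5; exact h5
        · have h5 := f.left.inf_le (mem_A.1 h4).1 (mem_A.1 h3).1
          rw [f.V_left] at h5; exact h5
      · intro h3
        refine ⟨Or.inl (f.V_le_A h3), ?_⟩
        rw [← f.V_left] at h3
        exact f.left.V_le_A h3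
    rw [e, h1, ← card_eq_ncard, ← card_eq_ncard, f.card_V, hA3] at this
    omega
  have h3 : T S u w = (R S u w : Set G) \ (((A S u w : Set G) ∪ (A S w u : Set G)) ∪ (A S (u * w) w : Set G)) := by
    ext x
    simp only [T, Set.mem_setOf_eq, Set.mem_diff, Set.mem_union, SetLike.mem_coe, not_or, mem_A]
    constructor
    · rintro ⟨h4, h5, h6, h7⟩
      exact ⟨h4, ⟨fun h => h5 h.1, fun h => h6 h.1⟩, fun h => h7 h.1⟩
    · rintro ⟨h4, ⟨h5, h6⟩, h7⟩
      exact ⟨h4, fun h => h5 ⟨h, f.R_comm_w h4⟩, fun h => h6 ⟨h, f.R_comm_u h4⟩, fun h => h7 ⟨h, f.R_comm_w h4⟩⟩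
  rw [h3, Set.ncard_diff, h2, ← card_eq_ncard, f.card_R]
  rintro x ((h4 | h4) | h4)
  · exact A_le_R h4
  · exact A_le_R' h4
  · exact f.A_le_R'' h4

theorem cent_T1 (f : S.Four u w) {x q : G} (hx : x ∈ T S u w) (hq : q ∈ A S u w) (hqx : q * x = x * q) :
    q ∈ V u w := by
  by_contra hqV
  obtain ⟨a, ha, b, hb, rfl, haV, hbV⟩ := f.exists_mul_T hx
  have haR := A_le_R ha
  have hbR := A_le_R' hb
  have hqR := A_le_R hq
  have hx2 := f.T_sq hx
  have ha2 : a * a = u := f.sq_eq (mem_A.1 ha).1 (mem_A.1 ha).2 haV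
  have hb2 : b * b = w := f.swap.sq_eq (mem_A.1 hb).1 (mem_A.1 hb).2 (by rw [V_swap]; exact hbV)
  have hq2 : q * q = u := f.sq_eq (mem_A.1 hq).1 (mem_A.1 hq).2 hqV
  -- [q, x] = [q,a][q,b] = 1
  have h1 : (q * a * q⁻¹ * a⁻¹) * (q * b * q⁻¹ * b⁻¹) = 1 := by
    rw [← f.comm_mul_right hqR haR hbR, hqx]; group
  -- [a, b] = u w
  have hab : a * b * a⁻¹ * b⁻¹ = u * w := by
    rw [f.mul_sq' haR hbR, ha2, hb2] at hx2
    have := f.mul_sq
    exact mul_right_cancel (hx2.trans this.symm)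
  by_cases hqa : a⁻¹ * q ∈ V u w
  · -- q ∈ a V
    have e : q = a * (a⁻¹ * q) := by group
    have h2 : q * a * q⁻¹ * a⁻¹ = 1 := by
      have h3 := f.comm_mul_left haR (f.V_le_R hqa) haR
      rw [← e] at h3
      rw [h3]
      have h4 : a⁻¹ * q * a * (a⁻¹ * q)⁻¹ * a⁻¹ = 1 := by
        rw [← f.R_comm_V haR hqa]; group
      rw [h4]; group
    have h3 : q * b * q⁻¹ * b⁻¹ = a * b * a⁻¹ * b⁻¹ := by
      have h3 := f.comm_mul_left haR (f.V_le_R hqa) hbR
      rw [← e] at h3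
      rw [h3]
      have h4 : a⁻¹ * q * b * (a⁻¹ * q)⁻¹ * b⁻¹ = 1 := by
        rw [← f.R_comm_V hbR hqa]; group
      rw [h4, mul_one]
    rw [h2, one_mul, h3, hab] at h1
    exact f.mul_ne_one h1
  · -- [q, a] = u
    have hqa2 : q * a * q⁻¹ * a⁻¹ = u := by
      rcases f.hu.base.pre.comm q (mem_A.1 hq).1 a (mem_A.1 ha).1 with h2 | h2
      · exfalso
        apply hqa
        have h3 : a⁻¹ * q ∈ A S u w := mul_mem (inv_mem ha) hq
        by_contra h4
        have h5 := f.sq_eq (mem_A.1 h3).1 (mem_A.1 h3).2 h4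
        have h6 : a⁻¹ * q * (a⁻¹ * q) = (a * a)⁻¹ * (q * q) := by
          have h7 : q * a⁻¹ = a⁻¹ * q := (inv_comm_iff.2 h2.symm).symm
          calc a⁻¹ * q * (a⁻¹ * q) = a⁻¹ * (q * a⁻¹) * q := by simp only [mul_assoc]
            _ = (a * a)⁻¹ * (q * q) := by rw [h7]; group
        rw [h6, ha2, hq2, inv_mul_cancel] at h5
        exact f.hu1 h5.symm
      · rw [h2]; simp [mul_assoc]
    rw [hqa2] at h1
    -- [q, b] ∈ {1, u w}
    by_cases hqb : q * b ∈ T S u w
    · have h2 := f.T_sq hqb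
      rw [f.mul_sq' hqR hbR, hq2, hb2] at h2
      have h3 : q * b * q⁻¹ * b⁻¹ = u * w := mul_right_cancel (h2.trans f.mul_sq.symm)
      rw [h3, f.mul_mul'] at h1
      exact f.hw1 h1
    · have hqbR : q * b ∈ R S u w := mul_mem hqR hbR
      have h2 : q * b ∈ S.q (u * w) := by
        by_contra h3
        apply hqb
        refine ⟨hqbR, ?_, ?_, h3⟩
        · intro h4
          apply hbV
          have h5 : b ∈ S.q u := by
            have := mul_mem (inv_mem (mem_A.1 hq).1) h4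
            simpa using this
          exact f.inf_le h5 (mem_A.1 hb).1
        · intro h4
          apply hqV
          have h5 : q ∈ S.q w := by
            have := mul_mem h4 (inv_mem (mem_A.1 hb).1)
            simpa using this
          exact f.inf_le (mem_A.1 hq).1 h5
      have h3 : q * b ∉ V u w := by
        intro h4
        apply hbV
        have h5 : b ∈ S.q u := by
          have := mul_mem (inv_mem (mem_A.1 hq).1) (f.V_le_q h4)
          simpa using this
        exact f.inf_le h5 (mem_A.1 hb).1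
      have h4 : (q * b) * (q * b) = u * w := f.left.sq_eq h2 (f.R_comm_w hqbR) (by rw [f.V_left]; exact h3)
      rw [f.mul_sq' hqR hbR, hq2, hb2] at h4
      have h5 : q * b * q⁻¹ * b⁻¹ = 1 := mul_right_cancel (h4.trans (one_mul _).symm)
      rw [h5, mul_one] at h1
      exact f.hu1 h1

theorem cent_T2 (f : S.Four u w) {x q : G} (hx : x ∈ T S u w) (hq : q ∈ S.q u) (hqw : q * w ≠ w * q) :
    q * x ≠ x * q := by
  intro hqx
  obtain ⟨a, ha, b, hb, rfl, haV, hbV⟩ := f.exists_mul_T hx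
  have hqu : q * u = u * q := f.hu.base.pre.cen q hq
  have hqw' : q * w * q⁻¹ = u * w := by
    rcases f.hu.base.conj_or hq f.hmem with h | h
    · exact absurd (cj_eq_self.1 h) hqw
    · exact h
  have h1 : (q * a * q⁻¹) * (q * b * q⁻¹) = a * b := by
    rw [← cj_mul]; exact cj_eq_self.2 hqx
  have h2 : q * b * q⁻¹ ∈ S.q (u * w) := by
    have := conj_mem_q f.hw q (mem_A.1 hb).1
    rwa [hqw'] at this
  have huV : u ∈ V u w := f.mem_V.2 (by tauto)
  have h3 : b ∈ S.q (u * w) := by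
    rcases f.hu.base.conj_or hq (mem_A.1 ha).1 with h4 | h4
    · rw [h4] at h1
      rw [← mul_left_cancel h1]; exact h2
    · rw [h4] at h1
      have h5 : b = a⁻¹ * u * a * (q * b * q⁻¹) := by
        have : b = a⁻¹ * (u * a * (q * b * q⁻¹)) := by rw [h1]; group
        calc b = a⁻¹ * (u * a * (q * b * q⁻¹)) := this
          _ = _ := by simp only [mul_assoc]
      have h6 : a⁻¹ * u * a = u := by
        rw [mul_assoc, ← f.hu.base.pre.cen a (mem_A.1 ha).1]; group
      rw [h5, h6]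
      exact mul_mem (f.V_le_q'' huV) h2
  apply hbV
  have h4 := f.left.inf_le h3 (mem_A.1 hb).1
  rwa [f.V_left] at h4

/-- `C_{Q_u}(x) = V` for `x ∈ T`. -/
theorem cent_T (f : S.Four u w) {x q : G} (hx : x ∈ T S u w) (hq : q ∈ S.q u) (hqx : q * x = x * q) :
    q ∈ V u w := by
  by_cases hqw : q * w = w * q
  · exact f.cent_T1 hx (mem_A.2 ⟨hq, hqw⟩) hqx
  · exact absurd hqx (f.cent_T2 hx hq hqw)

theorem card_Q_cent (f : S.Four u w) {x : G} (hx : x ∈ T S u w) :
    Nat.card ↥(S.q u ⊓ Subgroup.centralizer ({x} : Set G)) = 4 := by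
  have : S.q u ⊓ Subgroup.centralizer ({x} : Set G) = V u w := by
    apply le_antisymm
    · rintro q ⟨hq, hq2⟩
      exact f.cent_T hx hq (mem_centralizer_one.1 hq2)
    · intro q hq
      exact ⟨f.V_le_q hq, mem_centralizer_one.2 (f.R_comm_V hx.1 hq).symm⟩
  rw [this, f.card_V]

theorem T_class (f : S.Four u w) {x : G} (hx : x ∈ T S u w) :
    (∀ y : G, y * u = u * y → y ∉ S.q u → y * y = 1 → ∃ c : G, c * u = u * c ∧ c * x * c⁻¹ = y) ∧
      Nat.card ↥(Subgroup.centralizer ({u} : Set G) ⊓ Subgroup.centralizer ({x} : Set G)) = 16 :=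
  f.hu.base.inv_class (f.R_comm_u hx.1) hx.2.1 (f.T_sq hx) (f.card_Q_cent hx)

theorem conj_T (f : S.Four u w) {x y : G} (hx : x ∈ T S u w) (hy : y ∈ T S u w) : IsConj x y := by
  obtain ⟨c, _, hc⟩ := (f.T_class hx).1 y (f.R_comm_u hy.1) hy.2.1 (f.T_sq hy)
  exact isConj_iff.2 ⟨c, hc⟩

/-- `C_G(u) ∩ C_G(x) ≤ R`. -/
theorem cent_le_R (f : S.Four u w) {x : G} (hx : x ∈ T S u w) :
    R S u w ⊓ Subgroup.centralizer ({x} : Set G) = Subgroup.centralizer ({u} : Set G) ⊓ Subgroup.centralizer ({x} : Set G) := by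
  have h1 := InvAct.card_conj_orbit (R S u w) x
  have h2 : {y : G | ∃ k ∈ R S u w, k * x * k⁻¹ = y}.ncard ≤ 4 := by
    rw [← f.card_V, card_eq_ncard]
    apply Set.ncard_le_ncard_of_injOn (fun y => y * x⁻¹)
    · rintro y ⟨k, hk, rfl⟩
      exact f.comm_R hk hx.1
    · intro a _ b _ hab; exact mul_right_cancel hab
  have h3 : 16 ≤ Nat.card ↥(R S u w ⊓ Subgroup.centralizer ({x} : Set G)) := by
    rw [f.card_R] at h1
    by_contra h4
    push Not at h4
    have : {y : G | ∃ k ∈ R S u w, k * x * k⁻¹ = y}.ncard * Nat.card ↥(R S u w ⊓ Subgroup.centralizer ({x} : Set G)) ≤ 4 * 15 :=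
      Nat.mul_le_mul h2 (by omega)
    omega
  apply Subgroup.eq_of_le_of_card_ge
  · rintro y ⟨hy, hy2⟩
    exact ⟨mem_centralizer_one.2 (f.R_comm_u hy), hy2⟩
  · rw [(f.T_class hx).2]; exact h3

/-- elements of `C_G(u) ∩ C_G(x)`. -/
theorem mem_cent (f : S.Four u w) {x y : G} (hx : x ∈ T S u w) (hyu : y * u = u * y) (hyx : y * x = x * y) :
    y ∈ R S u w ∧ (y ∈ V u w ∨ y ∈ T S u w) := by
  have h1 : y ∈ Subgroup.centralizer ({u} : Set G) ⊓ Subgroup.centralizer ({x} : Set G) :=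
    ⟨mem_centralizer_one.2 hyu, mem_centralizer_one.2 hyx⟩
  rw [← f.cent_le_R hx] at h1
  refine ⟨h1.1, ?_⟩
  by_cases h2 : y ∈ S.q u
  · left; exact f.cent_T hx h2 hyx
  by_cases h3 : y ∈ S.q w
  · left
    have := f.swap.cent_T (by rw [f.T_swap]; exact hx) h3 hyx
    rwa [V_swap] at this
  by_cases h4 : y ∈ S.q (u * w)
  · left
    have := f.left.cent_T (by rw [f.T_left]; exact hx) h4 hyx
    rwa [f.V_left] at this
  · right; exact ⟨h1.1, h2, h3, h4⟩

end Setup.Four

end Cfsg.Agent.Lib.JTw
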