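import Cfsg.Agent.Lib.JTw4
import Cfsg.Agent.Lib.FocalTools
import Cfsg.Agent.S1230
import Cfsg.Agent.S0252
import Mathlib

/-!
# Groups of Hall–Janko type: the second class of involutions
-/

set_option autoImplicit false

namespace Cfsg.Agent.Lib.JTw

open Cfsg Cfsg.Agent.Lib.LargeExtra

namespace Setup

variable {G : Type*} [Group G] [Finite G] {S : Setup G}

theorem exists_four (S : Setup G) : S.Four S.z S.v := by
  obtain ⟨g, hg⟩ := isConj_iff.1 S.hconj
  refine ⟨S.z_z, by rw [S.q_z]; exact S.hv, ?_, ?_, S.hvz⟩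
  · rw [← hg, cj_sq, S.base.pre.sq]; group
  · rw [← hg]; intro h; exact S.base.pre.ne (cj_eq_one.1 h)

/-- a Sylow 2-subgroup inside `C(u)` -/
theorem exists_sylow {u : G} (hu : S.Z u) : ∃ P : Sylow 2 G, ∀ p ∈ P, p * u = u * p := by
  have : Fact (Nat.Prime 2) := ⟨Nat.prime_two⟩
  obtain ⟨P, hP⟩ := hu.base.pre.isP.exists_le_sylow
  refine ⟨P, ?_⟩
  have huP : u ∈ (P : Subgroup G) := hP hu.base.pre.mem
  have hnt : Nontrivial (P : Subgroup G) := ⟨⟨⟨u, huP⟩, 1, fun h => hu.base.pre.ne (congrArg Subtype.val h)⟩⟩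
  have hnt2 := IsPGroup.center_nontrivial P.2
  obtain ⟨⟨c, hc⟩, hc1⟩ := exists_ne (1 : Subgroup.center (P : Subgroup G))
  have hcc : ∀ p ∈ (P : Subgroup G), p * (c : G) = c * p := by
    intro p hp
    exact congrArg Subtype.val (Subgroup.mem_center_iff.1 hc ⟨p, hp⟩)
  rcases hu.base.pre.cent (c : G) (fun q hq => hcc q (hP hq)) with h | h
  · exfalso
    apply hc1
    apply Subtype.ext
    apply Subtype.ext
    exact h
  · intro p hp
    rw [← h]; exact hcc p hp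

theorem card_sylow {u : G} (hu : S.Z u) (P : Sylow 2 G) : Nat.card P = 2 ^ 7 := by
  have : Fact (Nat.Prime 2) := ⟨Nat.prime_two⟩
  obtain ⟨P0, hP0⟩ := exists_sylow hu
  have h0 : Nat.card P = Nat.card P0 := by
    rw [P.card_eq_multiplicity, P0.card_eq_multiplicity]
  have h1 : Nat.card P0 ∣ 1920 := by
    rw [← hu.base.card_cent]
    exact Subgroup.card_dvd_of_le (fun p hp => mem_centralizer_one.2 (hP0 p hp))
  obtain ⟨k, hk⟩ := IsPGroup.iff_card.1 P0.2
  have h2 : (2 ^ 7 : ℕ) ∣ Nat.card P0 := by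
    apply Sylow.pow_dvd_card_of_pow_dvd_card
    refine Dvd.dvd.trans ?_ (Subgroup.card_subgroup_dvd_card (Subgroup.centralizer ({u} : Set G)))
    rw [hu.base.card_cent]; norm_num
  have h3 : k ≤ 7 := by
    by_contra h4
    push Not at h4
    have h5 : (2 ^ 8 : ℕ) ∣ 1920 := by
      rw [hk] at h1
      exact (pow_dvd_pow 2 h4).trans h1
    revert h5; decide
  have h4 : 7 ≤ k := by
    rw [hk] at h2
    exact (Nat.pow_dvd_pow_iff_le_right (by norm_num)).1 h2
  rw [h0, hk]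
  congr 1
  omega

variable {u w t : G}

/-- every involution is conjugate to `z` or to `t`. -/
theorem Four.inv_type (f : S.Four u w) (ht : t ∈ Four.T S u w) {y : G} (hy2 : y * y = 1) (hy1 : y ≠ 1) :
    S.Z y ∨ IsConj t y := by
  have : Fact (Nat.Prime 2) := ⟨Nat.prime_two⟩
  obtain ⟨P, hP⟩ := exists_sylow f.hu
  have hy : IsPGroup 2 (Subgroup.zpowers y) := by
    apply IsPGroup.of_card (n := 1)
    rw [Nat.card_zpowers, pow_one]
    exact InvAct.orderOf_two_iff.2 ⟨hy2, hy1⟩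
  obtain ⟨P', hP'⟩ := hy.exists_le_sylow
  obtain ⟨g, hg⟩ := MulAction.exists_smul_eq G P' P
  have h1 : g * y * g⁻¹ ∈ P := by
    rw [← hg]
    exact ⟨y, hP' (Subgroup.mem_zpowers y), rfl⟩
  have h2 := hP _ h1
  have e1 : (g * y * g⁻¹) * (g * y * g⁻¹) = 1 := by rw [cj_sq, hy2]; group
  have e2 : g * y * g⁻¹ ≠ 1 := fun h => hy1 (cj_eq_one.1 h)
  by_cases h3 : g * y * g⁻¹ ∈ S.q u
  · left
    have h4 := Z_of_mem f.hu h3 e1 e2
    exact h4.trans (isConj_iff.2 ⟨g⁻¹, by group⟩)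
  · right
    obtain ⟨c, _, hc⟩ := (f.T_class ht).1 _ h2 h3 e1
    exact isConj_iff.2 ⟨g⁻¹ * c, by rw [cj_cj, hc]; group⟩

/-- with two classes of involutions the elements of `T` are not `z`-type -/
theorem Four.not_Z (f : S.Four u w) (ht : t ∈ Four.T S u w)
    (hcl : ∃ x y : G, orderOf x = 2 ∧ orderOf y = 2 ∧ ¬ IsConj x y) : ¬ S.Z t := by
  intro hZ
  obtain ⟨x, y, hx, hy, hxy⟩ := hcl
  have key : ∀ y : G, orderOf y = 2 → S.Z y := by
    intro y hy
    obtain ⟨h1, h2⟩ := InvAct.orderOf_two_iff.1 hy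
    rcases f.inv_type ht h1 h2 with h | h
    · exact h
    · exact hZ.trans h
  exact hxy ((key x hx).symm.trans (key y hy))

theorem Four.exists_T (f : S.Four u w) : ∃ t, t ∈ Four.T S u w := by
  have h := f.ncard_T
  have : (Four.T S u w).Nonempty := by
    rw [← Set.ncard_pos (Set.toFinite _), h]; norm_num
  exact this

end Setup

open Setup

/-- An element `t` of `T` which is not `z`-type. -/
structure TS {G : Type*} [Group G] [Finite G] (S : Setup G) (u w t : G) : Prop where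
  f : S.Four u w
  ht : t ∈ Four.T S u w
  hZ : ¬ S.Z t

namespace TS

variable {G : Type*} [Group G] [Finite G] {S : Setup G} {u w t : G}

open Four

/-- `C(u) ∩ C(t)` -/
def X (u t : G) : Subgroup G := Subgroup.centralizer ({u} : Set G) ⊓ Subgroup.centralizer ({t} : Set G)

omit [Finite G] in
theorem mem_X {y : G} : y ∈ X u t ↔ y * u = u * y ∧ y * t = t * y := by
  rw [X, Subgroup.mem_inf, mem_centralizer_one, mem_centralizer_one]

theorem t_sq (c : TS S u w t) : t * t = 1 := c.f.T_sq c.ht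

theorem t_ne (c : TS S u w t) : t ≠ 1 := by
  intro h
  have := c.ht.2.1
  rw [h] at this
  exact this (one_mem _)

theorem t_ord (c : TS S u w t) : orderOf t = 2 := InvAct.orderOf_two_iff.2 ⟨c.t_sq, c.t_ne⟩

theorem swap (c : TS S u w t) : TS S w u t := ⟨c.f.swap, by rw [c.f.T_swap]; exact c.ht, c.hZ⟩

theorem left (c : TS S u w t) : TS S (u * w) w t := ⟨c.f.left, by rw [c.f.T_left]; exact c.ht, c.hZ⟩

theorem conj (c : TS S u w t) (x : G) : TS S (x * u * x⁻¹) (x * w * x⁻¹) (x * t * x⁻¹) :=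
  ⟨c.f.conj x, by
    rw [c.f.T_conj]
    have e : x⁻¹ * (x * t * x⁻¹) * x = t := by group
    rw [e]; exact c.ht, fun h => c.hZ (by
      have := S.Z_conj h x⁻¹
      have e : x⁻¹ * (x * t * x⁻¹) * x⁻¹⁻¹ = t := by group
      rwa [e] at this)⟩

theorem T_not_Z (c : TS S u w t) {y : G} (hy : y ∈ Four.T S u w) : ¬ S.Z y := by
  intro h
  exact c.hZ (h.trans (c.f.conj_T hy c.ht))

theorem X_cases (c : TS S u w t) {y : G} (hy : y ∈ X u t) : y ∈ R S u w ∧ (y ∈ V u w ∨ y ∈ Four.T S u w) :=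
  c.f.mem_cent c.ht (mem_X.1 hy).1 (mem_X.1 hy).2

theorem X_sq (c : TS S u w t) {y : G} (hy : y ∈ X u t) : y * y = 1 := by
  rcases (c.X_cases hy).2 with h | h
  · exact c.f.V_sq h
  · exact c.f.T_sq h

theorem X_comm (c : TS S u w t) {x y : G} (hx : x ∈ X u t) (hy : y ∈ X u t) : x * y = y * x := by
  have h1 := c.X_sq (mul_mem hx hy)
  have h2 := c.X_sq hx
  have h3 := c.X_sq hy
  have e1 : x⁻¹ = x := by rw [inv_eq_iff_mul_eq_one]; exact h2
  have e2 : y⁻¹ = y := by rw [inv_eq_iff_mul_eq_one]; exact h3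
  have e3 : (x * y)⁻¹ = x * y := by rw [inv_eq_iff_mul_eq_one]; exact h1
  rw [mul_inv_rev, e1, e2] at e3
  exact e3.symm

theorem card_X (c : TS S u w t) : Nat.card (X u t) = 16 := (c.f.T_class c.ht).2

theorem V_le_X (c : TS S u w t) : V u w ≤ X u t := by
  intro x hx
  rw [mem_X]
  refine ⟨c.f.R_comm_u (c.f.V_le_R hx), (c.f.R_comm_V c.ht.1 hx).symm⟩

theorem t_mem_X (c : TS S u w t) : t ∈ X u t := mem_X.2 ⟨c.f.R_comm_u c.ht.1, rfl⟩

/-- the `z`-type elements of `X` -/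
theorem X_Z (c : TS S u w t) {y : G} (hy : y ∈ X u t) (hZ : S.Z y) : y ∈ V u w := by
  rcases (c.X_cases hy).2 with h | h
  · exact h
  · exact absurd hZ (c.T_not_Z h)

theorem V_Z (c : TS S u w t) {y : G} (hy : y ∈ V u w) (hy1 : y ≠ 1) : S.Z y := by
  rcases c.f.mem_V.1 hy with rfl | rfl | rfl | rfl
  · exact absurd rfl hy1
  · exact c.f.hu
  · exact c.f.hw
  · exact c.f.left.hu

theorem X_swap (c : TS S u w t) : X w t = X u t := by
  symm
  apply Subgroup.eq_of_le_of_card_ge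
  · intro y hy
    rw [mem_X]
    exact ⟨c.f.R_comm_w (c.X_cases hy).1, (mem_X.1 hy).2⟩
  · rw [c.card_X, c.swap.card_X]

theorem X_left (c : TS S u w t) : X (u * w) t = X u t := by
  rw [← c.left.X_swap, c.X_swap]

/-- elements of `C(t)` centralizing a nontrivial element of `V` are in `X` -/
theorem mem_X_of (c : TS S u w t) {y x : G} (hy : y * t = t * y) (hx : x ∈ V u w) (hx1 : x ≠ 1)
    (hyx : y * x = x * y) : y ∈ X u t := by
  rcases c.f.mem_V.1 hx with rfl | rfl | rfl | rfl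
  · exact absurd rfl hx1
  · exact mem_X.2 ⟨hyx, hy⟩
  · rw [← c.X_swap]; exact mem_X.2 ⟨hyx, hy⟩
  · rw [← c.X_left]; exact mem_X.2 ⟨hyx, hy⟩

/-- the normalizer of `V` -/
theorem T_eq_of (c : TS S u w t) {m : G} (hm : m ∈ Subgroup.normalizer ((V u w : Subgroup G) : Set G)) :
    Four.T S (m * u * m⁻¹) (m * w * m⁻¹) = Four.T S u w := by
  have h1 := c.f.pair.tri_z hm
  have h2 := c.f.pair.tri_s hm
  have hne : m * u * m⁻¹ ≠ m * w * m⁻¹ := fun h => c.f.hwu (cj_inj h).symm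
  rcases h1 with h1 | h1 | h1 <;> rcases h2 with h2 | h2 | h2 <;> rw [h1, h2] at hne ⊢
  · exact absurd rfl hne
  · exact c.f.T_right
  · exact c.f.T_swap
  · exact absurd rfl hne
  · rw [c.f.comm]
    have h3 := c.f.swap.T_right
    rw [h3]; exact c.f.T_swap
  · have h3 := c.f.right.T_swap
    rw [h3]; exact c.f.T_right
  · exact c.f.T_left
  · exact absurd rfl hne

theorem conj_T_mem (c : TS S u w t) {m y : G} (hm : m ∈ Subgroup.normalizer ((V u w : Subgroup G) : Set G))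
    (hy : y ∈ Four.T S u w) : m * y * m⁻¹ ∈ Four.T S u w := by
  rw [← c.T_eq_of hm, c.f.T_conj]
  have e : m⁻¹ * (m * y * m⁻¹) * m = y := by group
  rwa [e]

/-- `|N(V)| = 1152`. -/
theorem card_M (c : TS S u w t) : Nat.card (Subgroup.normalizer ((V u w : Subgroup G) : Set G)) = 1152 := by
  obtain ⟨a, ha, b, hb, hau, haw, hbw, hbu⟩ := c.f.exists_ab
  have haM := c.f.pair.X_le_normalizer (Subgroup.mem_sup_left ha)
  have hbM := c.f.pair.X_le_normalizer (Subgroup.mem_sup_right hb)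
  have h1 := relIndex_eq_six c.f.hu2 c.f.hw2 c.f.comm c.f.hu1 c.f.hw1 c.f.hwu.symm
    (Subgroup.normalizer ((V u w : Subgroup G) : Set G)) (fun x hx => c.f.pair.tri_z hx)
    (fun x hx => c.f.pair.tri_s hx) haM hbM hau haw hbw hbu
    (Subgroup.centralizer ({u} : Set G) ⊓ Subgroup.centralizer ({w} : Set G))
    (fun x _ => by rw [Subgroup.mem_inf, mem_centralizer_one, mem_centralizer_one])
  have hle : Subgroup.centralizer ({u} : Set G) ⊓ Subgroup.centralizer ({w} : Set G) ≤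
      Subgroup.normalizer ((V u w : Subgroup G) : Set G) := by
    rintro x ⟨h2, h3⟩
    apply Subgroup.mem_normalizer_fintype
    intro y hy
    rw [c.f.comm_V (mem_centralizer_one.1 h2) (mem_centralizer_one.1 h3) hy]
    simpa using hy
  have h2 := SubgroupTools.card_mul_relIndex_of_le hle
  rw [h1, c.f.hu.base.card_cent_two c.f.hmem c.f.hw2 c.f.hw1 c.f.hwu] at h2
  rw [← h2]

/-- `D = N(V) ∩ C(t)` -/
def D (u w t : G) : Subgroup G := Subgroup.normalizer ((V u w : Subgroup G) : Set G) ⊓ Subgroup.centralizer ({t} : Set G)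

omit [Finite G] in
theorem mem_D {y : G} : y ∈ D u w t ↔ y ∈ Subgroup.normalizer ((V u w : Subgroup G) : Set G) ∧ y * t = t * y := by
  rw [D, Subgroup.mem_inf, mem_centralizer_one]

theorem X_le_D (c : TS S u w t) : X u t ≤ D u w t := by
  intro x hx
  rw [mem_D]
  refine ⟨?_, (mem_X.1 hx).2⟩
  apply Subgroup.mem_normalizer_fintype
  intro y hy
  rw [c.f.R_comm_V (c.X_cases hx).1 hy]
  simpa using hy

theorem D_inf (c : TS S u w t) : D u w t ⊓ Subgroup.centralizer ({u} : Set G) = X u t := by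
  apply le_antisymm
  · rintro x ⟨h1, h2⟩
    exact mem_X.2 ⟨mem_centralizer_one.1 h2, (mem_D.1 h1).2⟩
  · intro x hx
    exact ⟨c.X_le_D hx, mem_centralizer_one.2 (mem_X.1 hx).1⟩

theorem card_D (c : TS S u w t) : Nat.card (D u w t) = 48 := by
  have h1 := InvAct.card_conj_orbit (Subgroup.normalizer ((V u w : Subgroup G) : Set G)) t
  have h2 : {y : G | ∃ k ∈ Subgroup.normalizer ((V u w : Subgroup G) : Set G), k * t * k⁻¹ = y}.ncard ≤ 24 := by
    rw [← c.f.ncard_T]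
    apply Set.ncard_le_ncard _ (Set.toFinite _)
    rintro y ⟨k, hk, rfl⟩
    exact c.conj_T_mem hk c.ht
  rw [c.card_M] at h1
  have h3 := InvAct.card_conj_orbit (D u w t) u
  have h4 : {y : G | ∃ k ∈ D u w t, k * u * k⁻¹ = y}.ncard ≤ 3 := by
    have : {y : G | ∃ k ∈ D u w t, k * u * k⁻¹ = y} ⊆ {u, w, u * w} := by
      rintro y ⟨k, hk, rfl⟩
      exact c.f.pair.tri_z (mem_D.1 hk).1
    refine (Set.ncard_le_ncard this (Set.toFinite _)).trans ?_
    refine (Set.ncard_insert_le _ _).trans ?_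
    have := Set.ncard_insert_le w ({u * w} : Set G)
    rw [Set.ncard_singleton] at this
    omega
  rw [c.D_inf, c.card_X] at h3
  have h5 : Nat.card (D u w t) ≤ 48 := by
    rw [h3]
    calc _ ≤ 3 * 16 := Nat.mul_le_mul_right _ h4
      _ = 48 := by norm_num
  have h6 : 1152 ≤ 24 * Nat.card (D u w t) := by
    calc 1152 = _ := h1
      _ ≤ 24 * Nat.card (D u w t) := Nat.mul_le_mul_right _ h2
  omega

/-- elements of `C(t)` normalizing `X` normalize `V` -/
theorem mem_D_of (c : TS S u w t) {n : G} (hn : ∀ x ∈ X u t, n * x * n⁻¹ ∈ X u t) (hnt : n * t = t * n) :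
    n ∈ D u w t := by
  rw [mem_D]
  refine ⟨?_, hnt⟩
  apply Subgroup.mem_normalizer_fintype
  intro y hy
  by_cases hy1 : y = 1
  · rw [hy1]; simp
  · exact c.X_Z (hn y (c.V_le_X hy)) (S.Z_conj (c.V_Z hy hy1) n)

theorem D_conj_V (_c : TS S u w t) {n x : G} (hn : n ∈ D u w t) (hx : x ∈ V u w) : n * x * n⁻¹ ∈ V u w :=
  (Subgroup.mem_normalizer_iff.1 (mem_D.1 hn).1 x).1 hx

theorem D_conj_X (c : TS S u w t) {n x : G} (hn : n ∈ D u w t) (hx : x ∈ X u t) : n * x * n⁻¹ ∈ X u t := by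
  have hn' := mem_D.1 hn
  -- n x n⁻¹ commutes with t and with n u n⁻¹ ∈ V
  have h1 : n * x * n⁻¹ * (n * u * n⁻¹) = n * u * n⁻¹ * (n * x * n⁻¹) := by
    rw [← cj_mul, ← cj_mul, (mem_X.1 hx).1]
  have h2 : n * x * n⁻¹ * t = t * (n * x * n⁻¹) := by
    have h3 : n * t * n⁻¹ = t := cj_eq_self.2 hn'.2
    calc n * x * n⁻¹ * t = n * x * n⁻¹ * (n * t * n⁻¹) := by rw [h3]
      _ = (n * t * n⁻¹) * (n * x * n⁻¹) := by rw [← cj_mul, ← cj_mul, (mem_X.1 hx).2]
      _ = t * (n * x * n⁻¹) := by rw [h3]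
  exact c.mem_X_of h2 (c.D_conj_V hn (c.f.mem_V.2 (by tauto))) (fun h => c.f.hu1 (cj_eq_one.1 h)) h1

/-- cubes of elements of `D` are in `X` -/
theorem D_cube (c : TS S u w t) {n : G} (hn : n ∈ D u w t) : n ^ 3 ∈ X u t := by
  have hnm : n ^ 3 ∈ D u w t := pow_mem hn 3
  by_cases h0 : n * u = u * n
  · exact pow_mem (mem_X.2 ⟨h0, (mem_D.1 hn).2⟩) 3
  -- n moves u, w, uw
  have hV : ∀ x ∈ V u w, x ≠ 1 → n * x * n⁻¹ = x → n ^ 3 ∈ X u t := by
    intro x hx hx1 h
    exact pow_mem (c.mem_X_of (mem_D.1 hn).2 hx hx1 (cj_eq_self.1 h)) 3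
  have huV : u ∈ V u w := c.f.mem_V.2 (by tauto)
  have hwV : w ∈ V u w := c.f.mem_V.2 (by tauto)
  have huwV : u * w ∈ V u w := c.f.mem_V.2 (by tauto)
  have h1 := c.f.pair.tri_z (mem_D.1 hn).1
  have h2 := c.f.pair.tri_s (mem_D.1 hn).1
  have e3 : n * (u * w) * n⁻¹ = (n * u * n⁻¹) * (n * w * n⁻¹) := cj_mul _ _ _
  have e4 : n ^ 3 * u * (n ^ 3)⁻¹ = n * (n * (n * u * n⁻¹) * n⁻¹) * n⁻¹ := by
    rw [pow_succ, pow_two]; group
  rcases h1 with h1 | h1 | h1
  · exact hV u huV c.f.hu1 h1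
  · rcases h2 with h2 | h2 | h2
    · -- u ↔ w, so u w fixed
      apply hV (u * w) huwV c.f.mul_ne_one
      rw [e3, h1, h2, c.f.comm]
    · exact hV w hwV c.f.hw1 h2
    · -- 3-cycle u → w → uw → u
      have h5 : n * (u * w) * n⁻¹ = u := by
        rw [e3, h1, h2, c.f.comm, ← mul_assoc, c.f.hw2, one_mul]
      rw [h1, h2, h5] at e4
      exact mem_X.2 ⟨cj_eq_self.1 e4, (mem_D.1 hnm).2⟩
  · rcases h2 with h2 | h2 | h2
    · -- u → uw, w → u
      have h5 : n * (u * w) * n⁻¹ = w := by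
        rw [e3, h1, h2, c.f.comm, c.f.swap.mul_mul]
      rw [h1, h5, h2] at e4
      exact mem_X.2 ⟨cj_eq_self.1 e4, (mem_D.1 hnm).2⟩
    · exact hV w hwV c.f.hw1 h2
    · exfalso
      have := cj_inj (h1.trans h2.symm)
      exact c.f.hwu this.symm

theorem t_not_V (c : TS S u w t) : t ∉ V u w := fun h => c.ht.2.1 (c.f.V_le_q h)

/-- `[X, D] ≤ V`. -/
theorem X_D_comm (c : TS S u w t) {n x : G} (hn : n ∈ D u w t) (hx : x ∈ X u t) :
    x⁻¹ * (n * x * n⁻¹) ∈ V u w := by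
  by_cases hxV : x ∈ V u w
  · exact mul_mem (inv_mem hxV) (c.D_conj_V hn hxV)
  have hntn : n * t * n⁻¹ = t := cj_eq_self.2 (mem_D.1 hn).2
  have hnx := c.D_conj_X hn hx
  by_cases hxt : t⁻¹ * x ∈ V u w
  · have e : x⁻¹ * (n * x * n⁻¹) = (t⁻¹ * x)⁻¹ * (n * (t⁻¹ * x) * n⁻¹) := by
      have e1 : n * (t⁻¹ * x) * n⁻¹ = t⁻¹ * (n * x * n⁻¹) := by
        rw [cj_mul]
        have : n * t⁻¹ * n⁻¹ = (n * t * n⁻¹)⁻¹ := by group
        rw [this, hntn]
      rw [e1]; group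
    rw [e]
    exact mul_mem (inv_mem hxt) (c.D_conj_V hn hxt)
  -- the cosets of V in X are V, t V, x V, t x V
  by_contra hcon
  have hVt : ∀ y ∈ X u t, y ∉ V u w → t⁻¹ * y ∉ V u w → x⁻¹ * y ∉ V u w → (t * x)⁻¹ * y ∈ V u w := by
    intro y hy h1 h2 h3
    have hinv : ∀ a b : G, a⁻¹ * b ∈ V u w → b⁻¹ * a ∈ V u w := by
      intro a b h
      have := inv_mem h
      simpa using this
    have h4 := four_cosets (V u w) (X u t) c.V_le_X (by rw [c.card_X, c.f.card_V]) ![t, x, y]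
      (by intro i; fin_cases i <;> first | exact c.t_mem_X | exact hx | exact hy)
      (by intro i; fin_cases i <;> first | exact c.t_not_V | exact hxV | exact h1)
      (by
        intro i j hij
        fin_cases i <;> fin_cases j <;> simp only [Matrix.cons_val_zero, Matrix.cons_val_one, ne_eq, not_true_eq_false, Fin.zero_eta, Fin.mk_one, Fin.reduceFinMk, Matrix.cons_val] at hij ⊢
        · exact hxt
        · exact h2
        · exact fun h => hxt (hinv _ _ h)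
        · exact h3
        · exact fun h => h2 (hinv _ _ h)
        · exact fun h => h3 (hinv _ _ h))
    rcases h4 (t * x) (mul_mem c.t_mem_X hx) with h5 | ⟨i, h5⟩
    · exfalso
      apply hxt
      have e : t⁻¹ = t := by rw [inv_eq_iff_mul_eq_one]; exact c.t_sq
      rw [e]; exact h5
    · fin_cases i
      · exfalso
        simp only [Fin.zero_eta, Matrix.cons_val_zero, inv_mul_cancel_left] at h5
        exact hxV h5
      · exfalso
        simp only [Fin.mk_one, Matrix.cons_val_one, Matrix.cons_val_zero] at h5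
        have h6 : x⁻¹ * (t * x) = t := by rw [c.X_comm c.t_mem_X hx]; group
        rw [h6] at h5
        exact c.t_not_V h5
      · simp only [Fin.reduceFinMk, Matrix.cons_val] at h5
        exact hinv _ _ h5
  have hstep : ∀ y : G, y ∈ X u t → (n * x * n⁻¹)⁻¹ * y ∈ V u w → (t * x)⁻¹ * y ∈ V u w := by
    intro y hy h
    have h1 := hVt (n * x * n⁻¹) hnx (fun h => hxV (by
      have h2 := c.D_conj_V (inv_mem hn) h
      have e : n⁻¹ * (n * x * n⁻¹) * n⁻¹⁻¹ = x := by group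
      rwa [e] at h2)) (fun h => hxt (by
      have h2 := c.D_conj_V (inv_mem hn) h
      have e : n⁻¹ * (t⁻¹ * (n * x * n⁻¹)) * n⁻¹⁻¹ = (n⁻¹ * t * n)⁻¹ * x := by group
      have e2 : n⁻¹ * t * n = t := by
        have := (cj_eq_self.2 (inv_comm_iff.2 (mem_D.1 hn).2))
        simpa using this
      rwa [e, e2] at h2)) hcon
    have e : (t * x)⁻¹ * y = ((t * x)⁻¹ * (n * x * n⁻¹)) * ((n * x * n⁻¹)⁻¹ * y) := by group
    rw [e]; exact mul_mem h1 h
  have h1 : (t * x)⁻¹ * (n * x * n⁻¹) ∈ V u w := hstep _ hnx (by rw [inv_mul_cancel]; exact one_mem _)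
  -- n² x n⁻² ∈ x V, n³ x n⁻³ ∈ t x V
  have h2 : x⁻¹ * (n ^ 2 * x * (n ^ 2)⁻¹) ∈ V u w := by
    have h3 := c.D_conj_V hn h1
    have e : n * ((t * x)⁻¹ * (n * x * n⁻¹)) * n⁻¹ = (n * x * n⁻¹)⁻¹ * (n * t * n⁻¹)⁻¹ * (n ^ 2 * x * (n ^ 2)⁻¹) := by
      rw [pow_two]; group
    rw [e, hntn] at h3
    have e2 : x⁻¹ * (n ^ 2 * x * (n ^ 2)⁻¹) = ((t * x)⁻¹ * (n * x * n⁻¹))  * ((n * x * n⁻¹)⁻¹ * t * (n ^ 2 * x * (n ^ 2)⁻¹)) := by
      have e3 : (t * x)⁻¹ * (n * x * n⁻¹) * ((n * x * n⁻¹)⁻¹ * t * (n ^ 2 * x * (n ^ 2)⁻¹)) = x⁻¹ * (t⁻¹ * t) * (n ^ 2 * x * (n ^ 2)⁻¹) := by group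
      rw [e3]; group
    rw [e2]
    have e4 : t⁻¹ = t := by rw [inv_eq_iff_mul_eq_one]; exact c.t_sq
    rw [e4] at h3
    exact mul_mem h1 h3
  have h3 : (n * x * n⁻¹)⁻¹ * (n ^ 3 * x * (n ^ 3)⁻¹) ∈ V u w := by
    have h4 := c.D_conj_V hn h2
    have e : n * (x⁻¹ * (n ^ 2 * x * (n ^ 2)⁻¹)) * n⁻¹ = (n * x * n⁻¹)⁻¹ * (n ^ 3 * x * (n ^ 3)⁻¹) := by
      have e3 : n ^ 3 = n * n * n := by rw [pow_succ, pow_two]
      rw [e3, pow_two]; group
    rwa [e] at h4
  have h4 : n ^ 3 * x * (n ^ 3)⁻¹ = x := cj_eq_self.2 (c.X_comm (c.D_cube hn) hx)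
  rw [h4] at h3
  have h5 := inv_mem h3
  apply hcon
  simpa using h5

/-- `|C(t)|₂ = 16` -/
theorem not_dvd (c : TS S u w t) : ¬ 32 ∣ Nat.card (Subgroup.centralizer ({t} : Set G)) := by
  intro h
  have : Fact (Nat.Prime 2) := ⟨Nat.prime_two⟩
  have hXle : X u t ≤ Subgroup.centralizer ({t} : Set G) := inf_le_right
  have h1 : Nat.card ((X u t).subgroupOf (Subgroup.centralizer ({t} : Set G))) = 2 ^ 4 := by
    rw [SubgroupTools.card_subgroupOf_of_le hXle, c.card_X]; norm_num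
  have h2 := Sylow.prime_pow_dvd_card_normalizer (p := 2) (n := 4) h h1
  have h3 : Nat.card (Subgroup.normalizer (((X u t).subgroupOf (Subgroup.centralizer ({t} : Set G)) : Subgroup _) : Set ↥(Subgroup.centralizer ({t} : Set G)))) ∣ 48 := by
    rw [← c.card_D]
    have h4 : (Subgroup.normalizer (((X u t).subgroupOf (Subgroup.centralizer ({t} : Set G)) : Subgroup _) : Set ↥(Subgroup.centralizer ({t} : Set G)))).map (Subgroup.centralizer ({t} : Set G)).subtype ≤ D u w t := by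
      rintro _ ⟨n, hn, rfl⟩
      apply c.mem_D_of
      · intro x hx
        have := (Subgroup.mem_normalizer_iff.1 hn ⟨x, hXle hx⟩).1 (by rw [Subgroup.mem_subgroupOf]; exact hx)
        rw [Subgroup.mem_subgroupOf] at this
        exact this
      · exact mem_centralizer_one.1 n.2
    have h5 := Subgroup.card_dvd_of_le h4
    rwa [Subgroup.card_map_of_injective (Subgroup.subtype_injective _)] at h5
  have h6 := h2.trans h3
  revert h6; decide

end TS

end Cfsg.Agent.Lib.JTw
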