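import Cfsg.Agent.Lib.JTw5
import Mathlib

/-!
# Groups of Hall–Janko type: the centralizer of the second involution
-/

set_option autoImplicit false

namespace Cfsg.Agent.Lib.JTw

open Cfsg Cfsg.Agent.Lib.LargeExtra Setup

/-- the subgroup `K` of index 4 in `C(t)`. -/
structure KK {G : Type*} [Group G] [Finite G] (S : Setup G) (u w t : G) (K : Subgroup G) : Prop extends
    TS S u w t where
  le : K ≤ Subgroup.centralizer ({t} : Set G)
  norm : ∀ g : G, g * t = t * g → ∀ k ∈ K, g * k * g⁻¹ ∈ K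
  inf : K ⊓ TS.X u t = Four.V u w
  card : Nat.card (Subgroup.centralizer ({t} : Set G)) = 4 * Nat.card K
  three : ∀ g : G, g * t = t * g → g ^ 3 = 1 → g ∈ K
  cos : ∀ g : G, g * t = t * g → ∃ x ∈ TS.X u t, x⁻¹ * g ∈ K

namespace TS

variable {G : Type*} [Group G] [Finite G] {S : Setup G} {u w t : G}

open Four

theorem exists_K (c : TS S u w t) : ∃ K : Subgroup G, KK S u w t K := by
  have : Fact (Nat.Prime 2) := ⟨Nat.prime_two⟩
  have hXle : X u t ≤ Subgroup.centralizer ({t} : Set G) := inf_le_right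
  set C := Subgroup.centralizer ({t} : Set G) with hC
  have h1 : Nat.card ((X u t).subgroupOf C) = 16 := by
    rw [SubgroupTools.card_subgroupOf_of_le hXle, c.card_X]
  have hp : IsPGroup 2 ((X u t).subgroupOf C) := IsPGroup.of_card (n := 4) (by rw [h1]; norm_num)
  have hi : ¬ 2 ∣ ((X u t).subgroupOf C).index := by
    intro h
    apply c.not_dvd
    rw [← hC, ← ((X u t).subgroupOf C).card_mul_index, h1]
    obtain ⟨k, hk⟩ := h
    rw [hk]
    exact ⟨k, by ring⟩
  let P : Sylow 2 C := hp.toSylow hi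
  have hP : (P : Subgroup C) = (X u t).subgroupOf C := IsPGroup.toSylow_coe hp hi
  have hmemP : ∀ x : C, x ∈ (P : Subgroup C) ↔ (x : G) ∈ X u t := by
    intro x; rw [hP, Subgroup.mem_subgroupOf]
  have hcomm : IsMulCommutative P := ⟨⟨fun a b => by
    apply Subtype.ext
    apply Subtype.ext
    exact c.X_comm ((hmemP _).1 a.2) ((hmemP _).1 b.2)⟩⟩
  have hVC : V u w ≤ C := c.V_le_X.trans hXle
  have hfoc : (P : Subgroup C).focalSubgroup ≤ (V u w).subgroupOf C := by
    apply FocalTools.focal_le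
    intro s hs s' hs' hss
    obtain ⟨g, hg⟩ := isConj_iff.1 hss
    obtain ⟨n, hn, hn2⟩ := P.conj_eq_normalizer_conj_of_mem s g⁻¹ hs (by rw [inv_inv, hg]; exact hs')
    rw [inv_inv, hg] at hn2
    rw [Subgroup.mem_subgroupOf, hn2]
    have hnD : ((n⁻¹ : C) : G) ∈ D u w t := by
      apply c.mem_D_of
      · intro x hx
        have h2 := (Subgroup.mem_normalizer_iff.1 (inv_mem hn) ⟨x, hXle hx⟩).1 ((hmemP _).2 hx)
        exact (hmemP _).1 h2
      · exact mem_centralizer_one.1 (n⁻¹).2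
    have h3 := c.X_D_comm hnD ((hmemP _).1 hs)
    have e : ((s⁻¹ * (n⁻¹ * s * n) : C) : G) = (s : G)⁻¹ * (((n⁻¹ : C) : G) * s * ((n⁻¹ : C) : G)⁻¹) := by
      simp
    rw [e]; exact h3
  obtain ⟨K0, hK0n, -, hK0i, hK0s, hK0x⟩ := FocalTools.exists_normal_of_focal_le P ((V u w).subgroupOf C)
    (by
      intro x hx
      exact (hmemP x).2 (c.V_le_X hx)) hfoc
  have hidx : K0.index = 4 := by
    rw [hK0x]
    have h2 := SubgroupTools.card_mul_relIndex_of_le (H := (V u w).subgroupOf C) (K := (P : Subgroup C)) (by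
      intro x hx
      exact (hmemP x).2 (c.V_le_X hx))
    rw [SubgroupTools.card_subgroupOf_of_le hVC, c.f.card_V, hP, h1] at h2
    rw [hP]
    omega
  have hmemK : ∀ x : C, (x : G) ∈ K0.map C.subtype ↔ x ∈ K0 := by
    intro x
    constructor
    · rintro ⟨y, hy, hyx⟩
      have : y = x := Subtype.ext hyx
      rwa [← this]
    · intro hx; exact ⟨x, hx, rfl⟩
  refine ⟨K0.map C.subtype, c, ?_, ?_, ?_, ?_, ?_, ?_⟩
  · exact Subgroup.map_subtype_le K0
  · rintro g hg _ ⟨k, hk, rfl⟩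
    exact ⟨⟨g, mem_centralizer_one.2 hg⟩ * k * ⟨g, mem_centralizer_one.2 hg⟩⁻¹, hK0n.conj_mem k hk _, rfl⟩
  · ext x
    constructor
    · rintro ⟨⟨k, hk, rfl⟩, hx⟩
      have h2 : k ∈ K0 ⊓ P := ⟨hk, (hmemP k).2 hx⟩
      rw [hK0i] at h2
      exact h2
    · intro hx
      have h2 : (⟨x, hVC hx⟩ : C) ∈ K0 ⊓ P := by
        rw [hK0i]; exact hx
      exact ⟨⟨_, h2.1, rfl⟩, c.V_le_X hx⟩
  · rw [Subgroup.card_map_of_injective (Subgroup.subtype_injective _), ← hidx, mul_comm, K0.card_mul_index]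
  · intro g hg hg3
    have h2 := K0.pow_index_mem ⟨g, mem_centralizer_one.2 hg⟩
    rw [hidx] at h2
    have h3 : (⟨g, mem_centralizer_one.2 hg⟩ : C) ^ 4 = ⟨g, mem_centralizer_one.2 hg⟩ := by
      apply Subtype.ext
      show g ^ 4 = g
      rw [pow_succ, hg3, one_mul]
    rw [h3] at h2
    exact ⟨_, h2, rfl⟩
  · intro g hg
    have h2 : (⟨g, mem_centralizer_one.2 hg⟩ : C) ∈ K0 ⊔ P := by rw [hK0s]; exact Subgroup.mem_top _
    rw [Subgroup.mem_sup_of_normal_left] at h2
    obtain ⟨k, hk, x, hx, hkx⟩ := h2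
    refine ⟨x, (hmemP x).1 hx, ?_⟩
    have h3 : g = (k : G) * x := (congrArg Subtype.val hkx).symm
    rw [h3]
    refine ⟨x⁻¹ * k * x⁻¹⁻¹, hK0n.conj_mem k hk _, ?_⟩
    simp [mul_assoc]

end TS

namespace KK

variable {G : Type*} [Group G] [Finite G] {S : Setup G} {u w t : G} {K : Subgroup G}

open Four TS

theorem V_le (k : KK S u w t K) : V u w ≤ K := by
  rw [← k.inf]; exact inf_le_left

theorem comm_t (k : KK S u w t K) {x : G} (hx : x ∈ K) : x * t = t * x := mem_centralizer_one.1 (k.le hx)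

theorem cent_V (k : KK S u w t K) {x y : G} (hx : x ∈ K) (hy : y ∈ V u w) (hy1 : y ≠ 1) (h : x * y = y * x) :
    x ∈ V u w := by
  rw [← k.inf]
  exact ⟨hx, k.toTS.mem_X_of (k.comm_t hx) hy hy1 h⟩

theorem t_not_mem (k : KK S u w t K) : t ∉ K := by
  intro h
  apply k.toTS.t_not_V
  rw [← k.inf]; exact ⟨h, k.toTS.t_mem_X⟩

/-- involutions of `C(t)` are conjugate into `X`. -/
theorem conj_X (k : KK S u w t K) {y : G} (hyt : y * t = t * y) (hy2 : y * y = 1) :
    ∃ g : G, g * t = t * g ∧ g * y * g⁻¹ ∈ X u t := by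
  have : Fact (Nat.Prime 2) := ⟨Nat.prime_two⟩
  have c := k.toTS
  have hXle : X u t ≤ Subgroup.centralizer ({t} : Set G) := inf_le_right
  set C := Subgroup.centralizer ({t} : Set G) with hC
  have h1 : Nat.card ((X u t).subgroupOf C) = 16 := by
    rw [SubgroupTools.card_subgroupOf_of_le hXle, c.card_X]
  have hp : IsPGroup 2 ((X u t).subgroupOf C) := IsPGroup.of_card (n := 4) (by rw [h1]; norm_num)
  have hi : ¬ 2 ∣ ((X u t).subgroupOf C).index := by
    intro h
    apply c.not_dvd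
    rw [← hC, ← ((X u t).subgroupOf C).card_mul_index, h1]
    obtain ⟨k, hk⟩ := h
    rw [hk]
    exact ⟨k, by ring⟩
  let P : Sylow 2 C := hp.toSylow hi
  have hP : (P : Subgroup C) = (X u t).subgroupOf C := IsPGroup.toSylow_coe hp hi
  have hy : IsPGroup 2 (Subgroup.zpowers (⟨y, mem_centralizer_one.2 hyt⟩ : C)) := by
    by_cases hy1 : y = 1
    · have : (⟨y, mem_centralizer_one.2 hyt⟩ : C) = 1 := Subtype.ext hy1
      rw [this, Subgroup.zpowers_one_eq_bot]
      exact IsPGroup.of_bot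
    · apply IsPGroup.of_card (n := 1)
      rw [Nat.card_zpowers, pow_one]
      exact InvAct.orderOf_two_iff.2 ⟨Subtype.ext hy2, fun h => hy1 (congrArg Subtype.val h)⟩
  obtain ⟨P', hP'⟩ := hy.exists_le_sylow
  obtain ⟨g, hg⟩ := MulAction.exists_smul_eq C P' P
  have h2 : g * ⟨y, mem_centralizer_one.2 hyt⟩ * g⁻¹ ∈ (P : Subgroup C) := by
    have : g * ⟨y, mem_centralizer_one.2 hyt⟩ * g⁻¹ ∈ P := by
      rw [← hg]
      exact ⟨_, hP' (Subgroup.mem_zpowers _), rfl⟩
    exact this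
  rw [hP] at h2
  exact ⟨g, mem_centralizer_one.1 g.2, h2⟩

/-- involutions of `K` are conjugate into `V` under `K` -/
theorem conj_V (k : KK S u w t K) {y : G} (hy : y ∈ K) (hy2 : y * y = 1) :
    ∃ g ∈ K, g * y * g⁻¹ ∈ V u w := by
  obtain ⟨g, hgt, hg⟩ := k.conj_X (k.comm_t hy) hy2
  have h1 : g * y * g⁻¹ ∈ V u w := by
    rw [← k.inf]; exact ⟨k.norm g hgt y hy, hg⟩
  -- adjust g by an element of X
  obtain ⟨x, hx, hxg⟩ := k.cos g hgt
  refine ⟨x⁻¹ * g, hxg, ?_⟩
  rw [cj_cj]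
  have h2 := k.toTS.D_conj_V (k.toTS.X_le_D (inv_mem hx)) h1
  exact h2

theorem Z_K (k : KK S u w t K) {y : G} (hy : y ∈ K) (hy2 : y * y = 1) (hy1 : y ≠ 1) : S.Z y := by
  obtain ⟨g, _, hg⟩ := k.conj_V hy hy2
  have h1 := k.toTS.V_Z hg (fun h => hy1 (cj_eq_one.1 h))
  exact h1.trans (isConj_iff.2 ⟨g⁻¹, by group⟩)

theorem conj_t (k : KK S u w t K) {y : G} (hyt : y * t = t * y) (hy2 : y * y = 1) (hy : y ∉ K) : IsConj t y := by
  obtain ⟨g, hgt, hg⟩ := k.conj_X hyt hy2
  have h1 : g * y * g⁻¹ ∉ K := by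
    intro h
    apply hy
    have := k.norm g⁻¹ (inv_comm_iff.2 hgt) _ h
    have e : g⁻¹ * (g * y * g⁻¹) * g⁻¹⁻¹ = y := by group
    rwa [e] at this
  rcases (k.toTS.X_cases hg).2 with h | h
  · exact absurd (k.V_le h) h1
  · have h2 := k.f.conj_T k.ht h
    exact h2.trans (isConj_iff.2 ⟨g⁻¹, by group⟩)

theorem mem_K_of_Z (k : KK S u w t K) {y : G} (hyt : y * t = t * y) (hZ : S.Z y) : y ∈ K := by
  by_contra h
  exact k.hZ (hZ.trans (k.conj_t hyt hZ.base.pre.sq h).symm)

/-- there is an element of order three in `K ∩ D` moving `u`. -/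
theorem exists_sigma (k : KK S u w t K) : ∃ σ ∈ K, σ ∈ D u w t ∧ orderOf σ = 3 ∧ σ * u ≠ u * σ := by
  have : Fact (Nat.Prime 3) := ⟨by norm_num⟩
  obtain ⟨x, hx⟩ := exists_prime_orderOf_dvd_card' (G := D u w t) 3 (by rw [k.toTS.card_D]; norm_num)
  have hx3 : orderOf (x : G) = 3 := by rw [Subgroup.orderOf_coe]; exact hx
  refine ⟨x, k.three x (mem_D.1 x.2).2 (by rw [← hx3]; exact pow_orderOf_eq_one _), x.2, hx3, ?_⟩
  intro h
  have h1 : (x : G) ∈ X u t := mem_X.2 ⟨h, (mem_D.1 x.2).2⟩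
  have h2 := k.toTS.X_sq h1
  have h3 : orderOf (x : G) ∣ 2 := orderOf_dvd_of_pow_eq_one (by rw [pow_two]; exact h2)
  rw [hx3] at h3
  norm_num at h3

theorem card_K_inf (k : KK S u w t K) : K ⊓ Subgroup.centralizer ({u} : Set G) = V u w := by
  apply le_antisymm
  · rintro x ⟨h1, h2⟩
    exact k.cent_V h1 (k.f.mem_V.2 (by tauto)) k.f.hu1 (mem_centralizer_one.1 h2)
  · intro x hx
    exact ⟨k.V_le hx, mem_centralizer_one.2 (k.f.R_comm_u (k.f.V_le_R hx))⟩

/-- The two cases. -/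
theorem cases (k : KK S u w t K) :
    (Nat.card (Subgroup.centralizer ({t} : Set G)) = 48 ∧ ∀ y ∈ K, y * y = 1 → y ∈ V u w) ∨
      (Nat.card (Subgroup.centralizer ({t} : Set G)) = 240 ∧ Nonempty (K ≃* alternatingGroup (Fin 5))) := by
  have : Fact (Nat.Prime 2) := ⟨Nat.prime_two⟩
  by_cases hn : ∀ g ∈ K, ∀ x ∈ V u w, g * x * g⁻¹ ∈ V u w
  · left
    constructor
    · have h1 := InvAct.card_conj_orbit K u
      have h4 : {y : G | ∃ g ∈ K, g * u * g⁻¹ = y}.ncard ≤ 3 := by
        have : {y : G | ∃ g ∈ K, g * u * g⁻¹ = y} ⊆ {u, w, u * w} := by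
          rintro y ⟨g, hg, rfl⟩
          rcases k.f.mem_V.1 (hn g hg u (k.f.mem_V.2 (by tauto))) with h | h
          · exact absurd (cj_eq_one.1 h) k.f.hu1
          · exact h
        refine (Set.ncard_le_ncard this (Set.toFinite _)).trans ?_
        refine (Set.ncard_insert_le _ _).trans ?_
        have := Set.ncard_insert_le w ({u * w} : Set G)
        rw [Set.ncard_singleton] at this
        omega
      rw [k.card_K_inf, k.f.card_V] at h1
      obtain ⟨σ, hσK, _, hσ3, _⟩ := k.exists_sigma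
      have h5 : 3 ∣ Nat.card K := by
        rw [← hσ3]
        exact Subgroup.orderOf_dvd_natCard K hσK
      have h6 := k.card
      have hpos : 0 < Nat.card K := Nat.card_pos
      omega
    · intro y hy hy2
      obtain ⟨g, hg, hg2⟩ := k.conj_V hy hy2
      have := hn g⁻¹ (inv_mem hg) _ hg2
      have e : g⁻¹ * (g * y * g⁻¹) * g⁻¹⁻¹ = y := by group
      rwa [e] at this
  · right
    have h1 : Nat.card ((V u w).subgroupOf K) = 4 := by
      rw [SubgroupTools.card_subgroupOf_of_le k.V_le, k.f.card_V]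
    have hp : IsPGroup 2 ((V u w).subgroupOf K) := IsPGroup.of_card (n := 2) (by rw [h1]; norm_num)
    have hi : ¬ 2 ∣ ((V u w).subgroupOf K).index := by
      intro h
      apply k.toTS.not_dvd
      rw [k.card, ← ((V u w).subgroupOf K).card_mul_index, h1]
      obtain ⟨m, hm⟩ := h
      rw [hm]
      exact ⟨m, by ring⟩
    let T : Sylow 2 K := hp.toSylow hi
    have hT : (T : Subgroup K) = (V u w).subgroupOf K := IsPGroup.toSylow_coe hp hi
    have hnc : ¬ IsCyclic (T : Subgroup K) := by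
      intro hcyc
      obtain ⟨g, hg⟩ := hcyc.exists_generator
      have h2 : orderOf g = 4 := by
        rw [orderOf_eq_card_of_forall_mem_zpowers hg, hT, h1]
      have h3 : orderOf g ∣ 2 := by
        apply orderOf_dvd_of_pow_eq_one
        apply Subtype.ext
        apply Subtype.ext
        have h4 : ((g : K) : G) ∈ V u w := by
          exact hT.le g.2
        show ((g : K) : G) ^ 2 = 1
        rw [pow_two]; exact k.f.V_sq h4
      rw [h2] at h3
      norm_num at h3
    have hnn : ¬ (T : Subgroup K).Normal := by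
      intro h
      apply hn
      intro g hg x hx
      have h2 := h.conj_mem ⟨x, k.V_le hx⟩ (by rw [hT]; exact hx) ⟨g, hg⟩
      rw [hT] at h2
      exact h2
    have hCV : ∀ s : K, orderOf s = 2 → ∃ g : G, ∀ c ∈ Subgroup.centralizer ({s} : Set K), g * (c : G) * g⁻¹ ∈ V u w := by
      intro s hs
      obtain ⟨hs2, hs1⟩ := InvAct.orderOf_two_iff.1 hs
      obtain ⟨g, hgK, hg⟩ := k.conj_V s.2 (congrArg Subtype.val hs2)
      refine ⟨g, ?_⟩
      intro c hc
      have hc' : (c : G) * s = s * c := congrArg Subtype.val (mem_centralizer_one.1 hc)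
      refine k.cent_V (mul_mem (mul_mem hgK c.2) (inv_mem hgK)) hg ?_ ?_
      · intro h
        exact hs1 (Subtype.ext (cj_eq_one.1 h))
      · rw [← cj_mul, ← cj_mul, hc']
    obtain ⟨F, hF, hF', hcard, ⟨e⟩⟩ := S1230.result T hnc hnn (by
      intro s hs
      obtain ⟨g, hg⟩ := hCV s hs
      constructor
      · refine ⟨⟨fun a b => ?_⟩⟩
        apply Subtype.ext
        apply Subtype.ext
        have ha := hg a a.2
        have hb := hg b b.2
        have h2 := k.f.R_comm_V (k.f.V_le_R ha) hb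
        rw [← cj_mul, ← cj_mul] at h2
        exact cj_inj h2
      · intro c hc
        apply Subtype.ext
        have h2 := k.f.V_sq (hg c hc)
        rw [cj_sq, cj_eq_one] at h2
        show (c : G) ^ 2 = 1
        rw [pow_two]; exact h2)
    have hF4 : Fintype.card F = 4 := by
      rw [hcard, hT, h1]
    obtain ⟨e'⟩ := S0252.result hF4
    have e2 := e.trans e'
    refine ⟨?_, ⟨e2⟩⟩
    rw [k.card, Nat.card_congr e2.toEquiv, Base.card_alt5]

end KK

end Cfsg.Agent.Lib.JTw
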