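import Cfsg.Agent.Lib.JTw4
import Mathlib

/-!
# Small facts on the alternating group of degree 5
-/

set_option autoImplicit false

namespace Cfsg.Agent.Lib.JTw

section a5

theorem a5_pow : ∀ a : alternatingGroup (Fin 5), a ^ 30 = 1 := by decide +kernel

theorem a5_odd (a : alternatingGroup (Fin 5)) : Odd (orderOf a) ↔ a ^ 15 = 1 := by
  constructor
  · intro h
    have h1 : orderOf a ∣ 30 := orderOf_dvd_of_pow_eq_one (a5_pow a)
    have h2 : orderOf a ∣ 15 := by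
      have h3 : Nat.Coprime (orderOf a) 2 := Nat.coprime_two_right.2 h
      exact h3.dvd_of_dvd_mul_left (show orderOf a ∣ 2 * 15 by simpa using h1)
    exact orderOf_dvd_iff_pow_eq_one.1 h2
  · intro h
    have h1 : orderOf a ∣ 15 := orderOf_dvd_of_pow_eq_one h
    exact Odd.of_dvd_nat (by decide) h1

theorem a5_inv_card : (Finset.univ.filter (fun a : alternatingGroup (Fin 5) => a * a = 1 ∧ a ≠ 1)).card = 15 := by
  decide +kernel

theorem a5_pairs : ∀ a : alternatingGroup (Fin 5), a * a = 1 → a ≠ 1 →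
    (Finset.univ.filter (fun b : alternatingGroup (Fin 5) => b * b = 1 ∧ b ≠ 1 ∧ (a * b) ^ 15 = 1)).card = 13 := by
  decide +kernel

theorem a5_pairs_card : Nat.card {p : alternatingGroup (Fin 5) × alternatingGroup (Fin 5) //
    p.1 * p.1 = 1 ∧ p.1 ≠ 1 ∧ p.2 * p.2 = 1 ∧ p.2 ≠ 1 ∧ Odd (orderOf (p.1 * p.2))} = 195 := by
  classical
  let e : {p : alternatingGroup (Fin 5) × alternatingGroup (Fin 5) //
    p.1 * p.1 = 1 ∧ p.1 ≠ 1 ∧ p.2 * p.2 = 1 ∧ p.2 ≠ 1 ∧ Odd (orderOf (p.1 * p.2))} ≃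
    Σ a : {a : alternatingGroup (Fin 5) // a * a = 1 ∧ a ≠ 1}, {b : alternatingGroup (Fin 5) // b * b = 1 ∧ b ≠ 1 ∧ (a.1 * b) ^ 15 = 1} :=
    { toFun := fun p => ⟨⟨p.1.1, p.2.1, p.2.2.1⟩, ⟨p.1.2, p.2.2.2.1, p.2.2.2.2.1, (a5_odd _).1 p.2.2.2.2.2⟩⟩
      invFun := fun q => ⟨(q.1.1, q.2.1), q.1.2.1, q.1.2.2, q.2.2.1, q.2.2.2.1, (a5_odd _).2 q.2.2.2.2⟩
      left_inv := fun p => rfl
      right_inv := fun q => rfl }
  rw [Nat.card_congr e, Nat.card_sigma, Finset.sum_congr rfl (fun a _ => by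
    show Nat.card {b : alternatingGroup (Fin 5) // b * b = 1 ∧ b ≠ 1 ∧ (a.1 * b) ^ 15 = 1} = 13
    rw [Nat.card_eq_fintype_card, Fintype.card_subtype]
    exact a5_pairs a.1 a.2.1 a.2.2)]
  rw [Finset.sum_const, Finset.card_univ, Fintype.card_subtype, a5_inv_card]
  rfl

end a5

end Cfsg.Agent.Lib.JTw
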