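import Cfsg.Agent.Lib.JTw6
import Cfsg.Agent.Lib.JTwA5
import Cfsg.Agent.S0213
import Mathlib

/-!
# Groups of Hall–Janko type: the order
-/

set_option autoImplicit false

namespace Cfsg.Agent.Lib.JTw

open Cfsg Cfsg.Agent.Lib.LargeExtra Setup

section gen

variable {G : Type*} [Group G] [Finite G]

theorem ncard_fiber (A : Set (G × G)) (J : Set G) (n : ℕ) (hJ : ∀ p ∈ A, p.2 ∈ J)
    (hfib : ∀ y ∈ J, {x | (x, y) ∈ A}.ncard = n) : A.ncard = J.ncard * n := by
  classical
  have : Fintype J := Fintype.ofFinite _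
  have e : A ≃ Σ y : J, {x | (x, (y : G)) ∈ A} :=
    { toFun := fun p => ⟨⟨p.1.2, hJ p.1 p.2⟩, ⟨p.1.1, p.2⟩⟩
      invFun := fun q => ⟨(q.2.1, q.1.1), q.2.2⟩
      left_inv := fun p => rfl
      right_inv := fun q => rfl }
  have h1 := Nat.card_congr e
  rw [Nat.card_coe_set_eq, Nat.card_sigma] at h1
  rw [h1, Finset.sum_congr rfl (fun y _ => by
    show Nat.card {x | (x, (y : G)) ∈ A} = n
    rw [Nat.card_coe_set_eq]; exact hfib y y.2)]
  rw [Finset.sum_const, Finset.card_univ, ← Nat.card_eq_fintype_card, Nat.card_coe_set_eq, smul_eq_mul]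

omit [Finite G] in
/-- if `u` is a power of `xy` with `x, y, u` involutions then `x, y` commute with `u`. -/
theorem comm_of_zpowers {x y u : G} (hx : x * x = 1) (hy : y * y = 1) (hu : u * u = 1)
    (h : u ∈ Subgroup.zpowers (x * y)) : x * u = u * x ∧ y * u = u * y := by
  obtain ⟨n, rfl⟩ := Subgroup.mem_zpowers_iff.1 h
  have hxi : x⁻¹ = x := by rw [inv_eq_iff_mul_eq_one]; exact hx
  have hyi : y⁻¹ = y := by rw [inv_eq_iff_mul_eq_one]; exact hy
  have h1 : x * (x * y) * x⁻¹ = (x * y)⁻¹ := by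
    rw [mul_inv_rev, hxi, hyi, ← mul_assoc, hx, one_mul]
  have h2 : x * (x * y) ^ n * x⁻¹ = (x * y) ^ n := by
    rw [← conj_zpow, h1, inv_zpow, inv_eq_iff_mul_eq_one]; exact hu
  have h3 := cj_eq_self.1 h2
  refine ⟨h3, ?_⟩
  have h4 : (x * y) * (x * y) ^ n = (x * y) ^ n * (x * y) := (Commute.refl (x * y)).zpow_right n
  have h5 : x * (y * (x * y) ^ n) = x * ((x * y) ^ n * y) := by
    rw [← mul_assoc, h4, ← mul_assoc, ← h3, mul_assoc]
  exact mul_left_cancel h5

end gen


namespace KK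

variable {G : Type*} [Group G] [Finite G] {S : Setup G} {u w t : G} {K : Subgroup G}

open Four TS

theorem t_not_q (k : KK S u w t K) {y : G} (h : IsConj t y) : y ∉ S.q u := by
  intro hy
  have hy2 : y * y = 1 := by
    obtain ⟨g, hg⟩ := isConj_iff.1 h
    rw [← hg, cj_sq, k.toTS.t_sq]; group
  have hy1 : y ≠ 1 := by
    obtain ⟨g, hg⟩ := isConj_iff.1 h
    rw [← hg]; intro h; exact k.toTS.t_ne (cj_eq_one.1 h)
  exact k.hZ ((Z_of_mem k.f.hu hy hy2 hy1).trans h.symm)

theorem mem_q_of_Z (k : KK S u w t K) {y : G} (h : S.Z y) (hyu : y * u = u * y) : y ∈ S.q u := by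
  by_contra hy
  obtain ⟨c, _, hc⟩ := (k.f.T_class k.ht).1 y hyu hy h.base.pre.sq
  exact k.hZ (h.trans (isConj_iff.2 ⟨c, hc⟩).symm)

/-- the first count -/
theorem count_z (k : KK S u w t K) :
    Nat.card {p : G × G // IsConj u p.1 ∧ IsConj t p.2 ∧ u ∈ Subgroup.zpowers (p.1 * p.2)} = 960 := by
  have c := k.toTS
  let J : Set G := {y | y * u = u * y ∧ y ∉ S.q u ∧ y * y = 1}
  have hJ : J.ncard = 120 := by
    have h1 := InvAct.card_conj_orbit (Subgroup.centralizer ({u} : Set G)) t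
    have h2 : {y : G | ∃ g ∈ Subgroup.centralizer ({u} : Set G), g * t * g⁻¹ = y} = J := by
      ext y
      constructor
      · rintro ⟨g, hg, rfl⟩
        have hg := mem_centralizer_one.1 hg
        refine ⟨?_, k.t_not_q (isConj_iff.2 ⟨g, rfl⟩), by rw [cj_sq, c.t_sq]; group⟩
        have h3 : g * u * g⁻¹ = u := cj_eq_self.2 hg
        calc g * t * g⁻¹ * u = (g * t * g⁻¹) * (g * u * g⁻¹) := by rw [h3]
          _ = (g * u * g⁻¹) * (g * t * g⁻¹) := by rw [← cj_mul, ← cj_mul, k.f.R_comm_u k.ht.1]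
          _ = u * (g * t * g⁻¹) := by rw [h3]
      · rintro ⟨h3, h4, h5⟩
        obtain ⟨g, hg, hg2⟩ := (k.f.T_class k.ht).1 y h3 h4 h5
        exact ⟨g, mem_centralizer_one.2 hg, hg2⟩
    rw [h2, k.f.hu.base.card_cent, (k.f.T_class k.ht).2] at h1
    omega
  have hA : ({p : G × G | IsConj u p.1 ∧ IsConj t p.2 ∧ u ∈ Subgroup.zpowers (p.1 * p.2)}).ncard = J.ncard * 8 := by
    apply ncard_fiber
    · rintro ⟨x, y⟩ ⟨h1, h2, h3⟩
      dsimp only at h1 h2 h3
      have hx2 : x * x = 1 := by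
        obtain ⟨g, hg⟩ := isConj_iff.1 h1
        rw [← hg, cj_sq, k.f.hu2]; group
      have hy2 : y * y = 1 := by
        obtain ⟨g, hg⟩ := isConj_iff.1 h2
        rw [← hg, cj_sq, c.t_sq]; group
      have h4 := comm_of_zpowers hx2 hy2 k.f.hu2 h3
      exact ⟨h4.2, k.t_not_q h2, hy2⟩
    · rintro y ⟨hyu, hyq, hy2⟩
      obtain ⟨g, hg, hg2⟩ := (k.f.T_class k.ht).1 y hyu hyq hy2
      have hyt : IsConj t y := isConj_iff.2 ⟨g, hg2⟩
      have hyi : y⁻¹ = y := by rw [inv_eq_iff_mul_eq_one]; exact hy2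
      have e : {x | (x, y) ∈ {p : G × G | IsConj u p.1 ∧ IsConj t p.2 ∧ u ∈ Subgroup.zpowers (p.1 * p.2)}} =
          {x | x ∈ S.q u ∧ x * x = 1} \ {x | x ∈ S.q u ∧ x * y = y * x} := by
        ext x
        simp only [Set.mem_setOf_eq, Set.mem_diff]
        constructor
        · rintro ⟨h1, _, h3⟩
          have hxZ : S.Z x := k.f.hu.trans h1
          have hx2 : x * x = 1 := hxZ.base.pre.sq
          have h4 := comm_of_zpowers hx2 hy2 k.f.hu2 h3
          have hxq := k.mem_q_of_Z hxZ h4.1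
          refine ⟨⟨hxq, hx2⟩, ?_⟩
          rintro ⟨_, hxy⟩
          have h5 : (x * y) * (x * y) = 1 := by
            calc (x * y) * (x * y) = x * (y * x) * y := by simp only [mul_assoc]
              _ = (x * x) * (y * y) := by rw [← hxy]; simp only [mul_assoc]
              _ = 1 := by rw [hx2, hy2, one_mul]
          rcases (mem_zpowers_of_sq h5).1 h3 with h6 | h6
          · exact k.f.hu1 h6
          · apply hyq
            have h7 : y = x⁻¹ * u := by rw [h6]; group
            rw [h7]; exact mul_mem (inv_mem hxq) k.f.hu.base.pre.mem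
        · rintro ⟨⟨hxq, hx2⟩, hxy0⟩
          have hxy : x * y ≠ y * x := fun h => hxy0 ⟨hxq, h⟩
          have hx1 : x ≠ 1 := by rintro rfl; apply hxy; simp
          have hxu : x ≠ u := fun h => hxy (by rw [h]; exact hyu.symm)
          have hxZ : S.Z x := Z_of_mem k.f.hu hxq hx2 hx1
          refine ⟨k.f.hu.symm.trans hxZ, hyt, ?_⟩
          -- x' = y x y⁻¹
          have hx'q : y * x * y⁻¹ ∈ S.q u := conj_q k.f.hu hyu hxq
          have hx'2 : (y * x * y⁻¹) * (y * x * y⁻¹) = 1 := by rw [cj_sq, hx2]; group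
          have hne : y * x * y⁻¹ ≠ x := fun h => hxy (cj_eq_self.1 h).symm
          have hg2 : (x * y) ^ 2 = x * (y * x * y⁻¹) := by
            rw [pow_two, hyi]; simp only [mul_assoc]
          by_cases hcomm : (y * x * y⁻¹) * x = x * (y * x * y⁻¹)
          · have h5 := k.f.hu.base.cent_inv hxq hx2 hx1 hxu hx'q hcomm hx'2
            rcases (k.f.hu.base.mem_V hxq hx2).1 h5 with h6 | h6 | h6 | h6
            · exact absurd (cj_eq_one.1 h6) hx1
            · exfalso; apply hxu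
              have h7 : y * x * y⁻¹ = y * u * y⁻¹ := by rw [h6]; exact (cj_eq_self.2 hyu).symm
              exact cj_inj h7
            · exact absurd h6 hne
            · have h7 : (x * y) ^ 2 = u := by
                rw [hg2, h6, ← mul_assoc, k.f.hu.base.pre.cen x hxq, mul_assoc, hx2, mul_one]
              rw [← h7]; exact Subgroup.npow_mem_zpowers _ _
          · have h5 : x * (y * x * y⁻¹) = u * ((y * x * y⁻¹) * x) := by
              rcases k.f.hu.base.pre.comm x hxq _ hx'q with h6 | h6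
              · exact absurd h6.symm hcomm
              · exact h6
            have h7 : (x * y) ^ 4 = u := by
              have h8 : (x * y) ^ 4 = (x * y) ^ 2 * (x * y) ^ 2 := by rw [← pow_add]
              rw [h8, hg2]
              calc x * (y * x * y⁻¹) * (x * (y * x * y⁻¹)) = u * ((y * x * y⁻¹) * x) * (x * (y * x * y⁻¹)) := by
                    rw [← h5]
                _ = u * ((y * x * y⁻¹) * (x * x) * (y * x * y⁻¹)) := by simp only [mul_assoc]
                _ = u * ((y * x * y⁻¹) * (y * x * y⁻¹)) := by rw [hx2, mul_one]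
                _ = u := by rw [hx'2, mul_one]
            rw [← h7]; exact Subgroup.npow_mem_zpowers _ _
      rw [e]
      -- C_Q(y) = g V g⁻¹
      have h4 : {x | x ∈ S.q u ∧ x * y = y * x}.ncard = 4 := by
        rw [← k.f.card_V, card_eq_ncard]
        symm
        apply Set.ncard_congr (fun x _ => g * x * g⁻¹)
        · intro x hx
          refine ⟨conj_q k.f.hu hg (k.f.V_le_q hx), ?_⟩
          rw [← hg2, ← cj_mul, ← cj_mul, k.f.R_comm_V k.ht.1 hx]
        · intro a b _ _ hab; exact cj_inj hab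
        · rintro x ⟨hx, hxy⟩
          refine ⟨g⁻¹ * x * g, ?_, by group⟩
          have h5 : g⁻¹ * x * g ∈ S.q u := by
            have := conj_q k.f.hu (inv_comm_iff.2 hg) hx
            rwa [inv_inv] at this
          apply k.f.cent_T k.ht h5
          rw [← hg2] at hxy
          have := congrArg (fun s => g⁻¹ * s * g) hxy
          simpa [mul_assoc] using this
      have h5 : {x | x ∈ S.q u ∧ x * y = y * x} ⊆ {x | x ∈ S.q u ∧ x * x = 1} := by
        rintro x ⟨hx, hxy⟩
        refine ⟨hx, ?_⟩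
        have h5 : g⁻¹ * x * g ∈ S.q u := by
          have := conj_q k.f.hu (inv_comm_iff.2 hg) hx
          rwa [inv_inv] at this
        have h6 := k.f.cent_T k.ht h5 (by
          rw [← hg2] at hxy
          have := congrArg (fun s => g⁻¹ * s * g) hxy
          simpa [mul_assoc] using this)
        have h7 := k.f.V_sq h6
        have h8 : x * x = g * ((g⁻¹ * x * g) * (g⁻¹ * x * g)) * g⁻¹ := by group
        rw [h8, h7]; group
      rw [Set.ncard_diff h5, h4, (k.f.hu.base.count k.f.hmem k.f.hw2 k.f.hw1 k.f.hwu).1]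
  have h1 : Nat.card {p : G × G // IsConj u p.1 ∧ IsConj t p.2 ∧ u ∈ Subgroup.zpowers (p.1 * p.2)} =
      ({p : G × G | IsConj u p.1 ∧ IsConj t p.2 ∧ u ∈ Subgroup.zpowers (p.1 * p.2)}).ncard :=
    Nat.card_coe_set_eq _
  rw [h1, hA, hJ]

theorem sq_mem_K (k : KK S u w t K) {g : G} (hg : g * t = t * g) : g * g ∈ K := by
  obtain ⟨x, hx, hxg⟩ := k.cos g hg
  have hxt := (mem_X.1 hx).2
  have h1 : g = x * (x⁻¹ * g) := by group
  have h2 : g * g = (x * (x⁻¹ * g) * x⁻¹) * (x * x) * (x⁻¹ * g) := by group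
  rw [h2, k.toTS.X_sq hx, mul_one]
  exact mul_mem (k.norm x hxt _ hxg) hxg

/-- the second count, reduced to pairs of involutions in `K`. -/
theorem count_t (k : KK S u w t K) :
    Nat.card {p : G × G // IsConj u p.1 ∧ IsConj t p.2 ∧ t ∈ Subgroup.zpowers (p.1 * p.2)} =
      Nat.card {p : K × K // p.1 * p.1 = 1 ∧ p.1 ≠ 1 ∧ p.2 * p.2 = 1 ∧ p.2 ≠ 1 ∧ Odd (orderOf (p.1 * p.2))} := by
  have c := k.toTS
  have ht2 := c.t_sq
  have hti : t⁻¹ = t := by rw [inv_eq_iff_mul_eq_one]; exact ht2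
  have key : ∀ p : G × G, (IsConj u p.1 ∧ IsConj t p.2 ∧ t ∈ Subgroup.zpowers (p.1 * p.2)) →
      p.1 ∈ K ∧ t * p.2 ∈ K ∧ p.1 * p.1 = 1 ∧ p.1 ≠ 1 ∧ (t * p.2) * (t * p.2) = 1 ∧ t * p.2 ≠ 1 ∧ Odd (orderOf (p.1 * (t * p.2))) := by
    rintro ⟨x, y⟩ ⟨h1, h2, h3⟩
    simp only at h1 h2 h3 ⊢
    have hxZ : S.Z x := k.f.hu.trans h1
    have hx2 : x * x = 1 := hxZ.base.pre.sq
    have hy2 : y * y = 1 := by
      obtain ⟨g, hg⟩ := isConj_iff.1 h2
      rw [← hg, cj_sq, c.t_sq]; group
    have h4 := comm_of_zpowers hx2 hy2 ht2 h3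
    have hxK := k.mem_K_of_Z h4.1 hxZ
    -- t * y ∈ K
    obtain ⟨n, hn⟩ := Subgroup.mem_zpowers_iff.1 h3
    have hcomm : (t * y) * (t * y) = 1 := by
      calc (t * y) * (t * y) = t * (y * t) * y := by simp only [mul_assoc]
        _ = (t * t) * (y * y) := by rw [h4.2]; simp only [mul_assoc]
        _ = 1 := by rw [ht2, hy2, one_mul]
    have hxyt : (x * y) * t = t * (x * y) := by rw [mul_assoc, h4.2, ← mul_assoc, h4.1, mul_assoc]
    have hsq : (x * y) * (x * y) ∈ K := k.sq_mem_K hxyt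
    have hnodd : Odd n := by
      rw [← Int.not_even_iff_odd]
      rintro ⟨m, hm⟩
      apply k.t_not_mem
      rw [← hn, hm, ← two_mul, zpow_mul, zpow_two]
      exact zpow_mem hsq m
    obtain ⟨m, hm⟩ := hnodd
    have htyK : t * y ∈ K := by
      -- t = (xy)^(2m) (xy), so t y⁻¹... 
      have h5 : t = ((x * y) * (x * y)) ^ m * (x * y) := by
        rw [← hn, hm, zpow_add, zpow_mul, zpow_two, zpow_one]
      have h6 : t * y = ((x * y) * (x * y)) ^ m * x * (y * y) := by
        calc t * y = ((x * y) * (x * y)) ^ m * (x * y) * y := by rw [← h5]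
          _ = _ := by simp only [mul_assoc]
      rw [h6, hy2, mul_one]
      exact mul_mem (zpow_mem hsq m) hxK
    -- odd order
    have hodd : Odd (orderOf (x * (t * y))) := by
      have h7 : x * (t * y) = t * (x * y) := by rw [← mul_assoc, h4.1, mul_assoc]
      have h8 : (x * (t * y)) ^ n = 1 := by
        rw [h7, (show Commute t (x * y) from hxyt.symm).mul_zpow, hn, hm, zpow_add, zpow_mul, zpow_two, ht2, one_zpow, one_mul, zpow_one, ht2]
      have h9 : (orderOf (x * (t * y)) : ℤ) ∣ n := orderOf_dvd_iff_zpow_eq_one.2 h8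
      have h10 : ¬ (2 ∣ orderOf (x * (t * y))) := by
        intro h
        have h11 : (2 : ℤ) ∣ n := (Int.natCast_dvd_natCast.2 h).trans h9
        omega
      rw [← Nat.not_even_iff_odd, even_iff_two_dvd]; exact h10
    refine ⟨hxK, htyK, hx2, hxZ.base.pre.ne, hcomm, ?_, hodd⟩
    intro h
    rw [h, mul_one, InvAct.orderOf_two_iff.2 ⟨hx2, hxZ.base.pre.ne⟩] at hodd
    revert hodd; decide
  have key2 : ∀ x y : G, x ∈ K → y ∈ K → x * x = 1 → x ≠ 1 → y * y = 1 → y ≠ 1 → Odd (orderOf (x * y)) →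
      IsConj u x ∧ IsConj t (t * y) ∧ t ∈ Subgroup.zpowers (x * (t * y)) := by
    intro x y hx hy hx2 hx1 hy2 hy1 hodd
    have hxt := k.comm_t hx
    have hyt := k.comm_t hy
    refine ⟨k.f.hu.symm.trans (k.Z_K hx hx2 hx1), ?_, ?_⟩
    · apply k.conj_t
      · rw [mul_assoc, hyt]
      · calc (t * y) * (t * y) = t * (y * t) * y := by simp only [mul_assoc]
          _ = (t * t) * (y * y) := by rw [hyt]; simp only [mul_assoc]
          _ = 1 := by rw [ht2, hy2, one_mul]
      · intro h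
        apply k.t_not_mem
        have := mul_mem h (inv_mem hy)
        simpa using this
    · have h7 : x * (t * y) = t * (x * y) := by rw [← mul_assoc, hxt, mul_assoc]
      have hxyt : Commute t (x * y) := by
        show t * (x * y) = x * y * t
        rw [mul_assoc, hyt, ← mul_assoc, ← mul_assoc, hxt]
      obtain ⟨m, hm⟩ := hodd
      have h8 : (x * (t * y)) ^ (orderOf (x * y)) = t := by
        rw [h7, hxyt.mul_pow, pow_orderOf_eq_one, mul_one, hm, pow_add, pow_mul, pow_two, ht2, one_pow, one_mul, pow_one]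
      have h9 := Subgroup.npow_mem_zpowers (x * (t * y)) (orderOf (x * y))
      rwa [h8] at h9
  apply Nat.card_congr
  have hord : ∀ x y : K, orderOf (x * y) = orderOf ((x : G) * y) := by
    intro x y
    rw [← Subgroup.orderOf_coe]; rfl
  refine ⟨fun p => ⟨(⟨p.1.1, (key p.1 p.2).1⟩, ⟨t * p.1.2, (key p.1 p.2).2.1⟩), ?_⟩,
    fun q => ⟨((q.1.1 : G), t * (q.1.2 : G)), ?_⟩, ?_, ?_⟩
  · have h := (key p.1 p.2).2.2
    refine ⟨Subtype.ext h.1, fun h' => h.2.1 (congrArg Subtype.val h'), Subtype.ext h.2.2.1,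
      fun h' => h.2.2.2.1 (congrArg Subtype.val h'), ?_⟩
    rw [hord]; exact h.2.2.2.2
  · have h := q.2
    have h5 := h.2.2.2.2
    rw [hord] at h5
    exact key2 q.1.1 q.1.2 q.1.1.2 q.1.2.2 (congrArg Subtype.val h.1) (fun h' => h.2.1 (Subtype.ext h'))
      (congrArg Subtype.val h.2.2.1) (fun h' => h.2.2.2.1 (Subtype.ext h')) h5
  · intro p
    apply Subtype.ext
    apply Prod.ext
    · rfl
    · show t * (t * p.1.2) = p.1.2
      rw [← mul_assoc, ht2, one_mul]
  · intro q
    apply Subtype.ext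
    apply Prod.ext
    · rfl
    · apply Subtype.ext
      show t * (t * (q.1.2 : G)) = q.1.2
      rw [← mul_assoc, ht2, one_mul]

theorem order_formula (k : KK S u w t K) :
    Nat.card G = Nat.card (Subgroup.centralizer ({t} : Set G)) * 960 + 1920 *
      Nat.card {p : K × K // p.1 * p.1 = 1 ∧ p.1 ≠ 1 ∧ p.2 * p.2 = 1 ∧ p.2 ≠ 1 ∧ Odd (orderOf (p.1 * p.2))} := by
  have hu : orderOf u = 2 := InvAct.orderOf_two_iff.2 ⟨k.f.hu2, k.f.hu1⟩
  have h := S0213.result u t hu k.toTS.t_ord (fun h => k.hZ (k.f.hu.trans h)) (by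
    intro y hy
    obtain ⟨h1, h2⟩ := InvAct.orderOf_two_iff.1 hy
    rcases k.f.inv_type k.ht h1 h2 with h3 | h3
    · left; exact k.f.hu.symm.trans h3
    · right; exact h3)
  rw [k.count_z, k.count_t, k.f.hu.base.card_cent] at h
  exact h

theorem order_cases (k : KK S u w t K) :
    (Nat.card (Subgroup.centralizer ({t} : Set G)) = 48 ∧ Nat.card G = 51840) ∨
      (Nat.card (Subgroup.centralizer ({t} : Set G)) = 240 ∧ Nat.card G = 604800 ∧ Nonempty (K ≃* alternatingGroup (Fin 5))) := by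
  rcases k.cases with ⟨h1, h2⟩ | ⟨h1, ⟨e⟩⟩
  · left
    refine ⟨h1, ?_⟩
    rw [k.order_formula, h1]
    have h3 : Nat.card {p : K × K // p.1 * p.1 = 1 ∧ p.1 ≠ 1 ∧ p.2 * p.2 = 1 ∧ p.2 ≠ 1 ∧ Odd (orderOf (p.1 * p.2))} = 3 := by
      have hprop : ∀ p : K × K, (p.1 * p.1 = 1 ∧ p.1 ≠ 1 ∧ p.2 * p.2 = 1 ∧ p.2 ≠ 1 ∧ Odd (orderOf (p.1 * p.2))) ↔
          (p.1 = p.2 ∧ (p.1 : G) ∈ ((V u w : Subgroup G) : Set G) \ {1}) := by
        rintro ⟨x, y⟩
        simp only
        constructor
        · rintro ⟨hx2, hx1, hy2, hy1, hodd⟩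
          have hxV := h2 x x.2 (congrArg Subtype.val hx2)
          have hyV := h2 y y.2 (congrArg Subtype.val hy2)
          have hxy := k.f.V_sq (mul_mem hxV hyV)
          have hxy' : (x * y) ^ 2 = 1 := by
            rw [pow_two]; exact Subtype.ext hxy
          have h4 : orderOf (x * y) ∣ 2 := orderOf_dvd_of_pow_eq_one hxy'
          have h5 : orderOf (x * y) = 1 := by
            rcases (Nat.dvd_prime Nat.prime_two).1 h4 with h | h
            · exact h
            · rw [h] at hodd; exact absurd hodd (by decide)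
          rw [orderOf_eq_one_iff] at h5
          refine ⟨?_, hxV, ?_⟩
          · have : y⁻¹ = y := by rw [inv_eq_iff_mul_eq_one]; exact hy2
            rw [← this]; exact eq_inv_of_mul_eq_one_left h5
          · intro h; exact hx1 (Subtype.ext h)
        · rintro ⟨rfl, hxV, hx1⟩
          have hx1' : x ≠ 1 := fun h => hx1 (congrArg Subtype.val h)
          have hx2 : x * x = 1 := Subtype.ext (k.f.V_sq hxV)
          refine ⟨hx2, hx1', hx2, hx1', ?_⟩
          rw [hx2, orderOf_one]; exact odd_one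
      have e1 : {p : K × K // p.1 * p.1 = 1 ∧ p.1 ≠ 1 ∧ p.2 * p.2 = 1 ∧ p.2 ≠ 1 ∧ Odd (orderOf (p.1 * p.2))} ≃
          (((V u w : Subgroup G) : Set G) \ {1} : Set G) :=
        { toFun := fun p => ⟨p.1.1, ((hprop p.1).1 p.2).2⟩
          invFun := fun x => ⟨(⟨x.1, k.V_le x.2.1⟩, ⟨x.1, k.V_le x.2.1⟩), (hprop _).2 ⟨rfl, x.2⟩⟩
          left_inv := by
            rintro ⟨⟨x, y⟩, hp⟩
            have := ((hprop (x, y)).1 hp).1
            simp only at this
            subst this
            rfl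
          right_inv := fun x => rfl }
      rw [Nat.card_congr e1, Nat.card_coe_set_eq, Set.ncard_diff_singleton_of_mem (one_mem _), ← card_eq_ncard, k.f.card_V]
    rw [h3]
  · right
    refine ⟨h1, ?_, ⟨e⟩⟩
    rw [k.order_formula, h1]
    have h3 : Nat.card {p : K × K // p.1 * p.1 = 1 ∧ p.1 ≠ 1 ∧ p.2 * p.2 = 1 ∧ p.2 ≠ 1 ∧ Odd (orderOf (p.1 * p.2))} = 195 := by
      rw [← a5_pairs_card]
      apply Nat.card_congr
      refine Equiv.subtypeEquiv (Equiv.prodCongr e.toEquiv e.toEquiv) ?_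
      rintro ⟨x, y⟩
      simp only [Equiv.prodCongr_apply, Prod.map_apply, MulEquiv.toEquiv_eq_coe, EquivLike.coe_coe]
      rw [← map_mul, ← map_mul, ← map_mul, MulEquiv.orderOf_eq]
      simp only [ne_eq, EmbeddingLike.map_eq_one_iff]
    rw [h3]

end KK

end Cfsg.Agent.Lib.JTw
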