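import Mathlib
import Cfsg.Prelude.Def_ClassicalGeometry
import Cfsg.Agent.Lib.SympAux
import Cfsg.Agent.Lib.SympBasis

set_option autoImplicit false

/-! Quadratic forms over the field of two elements, by Gauss sums (helper43). -/

namespace Cfsg.Agent.Lib.QuadF2

open Module

/-- the sign character of `ZMod 2` -/
def chi (a : ZMod 2) : ℤ := if a = 0 then 1 else -1

theorem chi_add : ∀ a b : ZMod 2, chi (a + b) = chi a * chi b := by decide
theorem chi_zero : chi 0 = 1 := rfl
theorem chi_one : chi 1 = -1 := rfl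
theorem chi_mul_self : ∀ a : ZMod 2, chi a * chi a = 1 := by decide
theorem two_cases : ∀ a : ZMod 2, a = 0 ∨ a = 1 := by decide
theorem add_self : ∀ a : ZMod 2, a + a = 0 := by decide

/-- `q` polarizes to `f`, and `f` is biadditive, alternating. -/
structure IsQ {V : Type*} [AddCommGroup V] (q : V → ZMod 2) (f : V → V → ZMod 2) : Prop where
  pol : ∀ u v, q (u + v) = q u + q v + f u v
  add_left : ∀ u v w, f (u + v) w = f u w + f v w

namespace IsQ

variable {V : Type*} [AddCommGroup V] {q : V → ZMod 2} {f : V → V → ZMod 2}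

theorem symm (h : IsQ q f) (u v : V) : f u v = f v u := by
  have h1 := h.pol u v
  have h2 := h.pol v u
  rw [add_comm v u, h1] at h2
  linear_combination h2

theorem add_right (h : IsQ q f) (u v w : V) : f u (v + w) = f u v + f u w := by
  rw [h.symm, h.add_left, h.symm v, h.symm w]

theorem f_zero_left (h : IsQ q f) (v : V) : f 0 v = 0 := by
  have := h.add_left 0 0 v
  rw [add_zero] at this
  linear_combination -this

theorem f_zero_right (h : IsQ q f) (v : V) : f v 0 = 0 := by
  rw [h.symm, h.f_zero_left]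

theorem q_zero (h : IsQ q f) : q 0 = 0 := by
  have := h.pol 0 0
  rw [add_zero, h.f_zero_left] at this
  linear_combination -this

theorem self (h : IsQ q f) [Module (ZMod 2) V] (v : V) : f v v = 0 := by
  have h1 := h.pol v v
  have h2 : v + v = 0 := by
    rw [← two_smul (ZMod 2) v]
    have : (2 : ZMod 2) = 0 := rfl
    rw [this, zero_smul]
  rw [h2, h.q_zero] at h1
  have := add_self (q v)
  linear_combination -h1 - this

/-- translation of a form by a vector -/
theorem translate (h : IsQ q f) (w : V) : IsQ (fun v => q v + f v w) f where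
  pol u v := by
    show q (u + v) + f (u + v) w = _
    rw [h.pol, h.add_left]; ring
  add_left := h.add_left

variable [Fintype V]

/-- the Gauss sum -/
def S (q : V → ZMod 2) : ℤ := ∑ v, chi (q v)

theorem S_translate (h : IsQ q f) [Module (ZMod 2) V] (w : V) : S (fun v => q v + f v w) = chi (q w) * S q := by
  unfold S
  rw [← Equiv.sum_comp (Equiv.addRight w) (fun v => chi (q v)), Finset.mul_sum]
  apply Finset.sum_congr rfl
  intro v _
  simp only [Equiv.coe_addRight]
  rw [← chi_add, h.pol]
  congr 1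
  have := add_self (q w)
  linear_combination -this

theorem sum_chi_f (h : IsQ q f) {u : V} (hu : ∃ x, f u x = 1) : ∑ v, chi (f u v) = 0 := by
  obtain ⟨x, hx⟩ := hu
  have h1 : ∑ v, chi (f u v) = - ∑ v, chi (f u v) := by
    conv_lhs => rw [← Equiv.sum_comp (Equiv.addRight x) (fun v => chi (f u v))]
    rw [← Finset.sum_neg_distrib]
    apply Finset.sum_congr rfl
    intro v _
    simp only [Equiv.coe_addRight]
    rw [h.add_right, hx, chi_add, chi_one]
    ring
  linarith

theorem S_sq (h : IsQ q f) [Module (ZMod 2) V] (hnd : ∀ u, (∀ v, f u v = 0) → u = 0) :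
    S q * S q = Fintype.card V := by
  classical
  have h32 : S q * S q = ∑ u, ∑ v, chi (q u) * chi (f u v) := by
    unfold S
    rw [Finset.sum_mul_sum, Finset.sum_comm]
    have : ∀ v, ∑ u, chi (q u) * chi (q v) = ∑ u, chi (q u) * chi (f u v) := by
      intro v
      rw [← Equiv.sum_comp (Equiv.addRight v) (fun u => chi (q u) * chi (q v))]
      apply Finset.sum_congr rfl
      intro u _
      simp only [Equiv.coe_addRight]
      rw [← chi_add, ← chi_add, h.pol]
      congr 1
      have := add_self (q v)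
      linear_combination this
    rw [Finset.sum_congr rfl fun v _ => this v, Finset.sum_comm]
  rw [h32, Finset.sum_eq_single (0 : V)]
  · simp [h.f_zero_left, h.q_zero, chi_zero]
  · intro u _ hu
    have : ∃ x, f u x = 1 := by
      by_contra hcon
      push Not at hcon
      exact hu (hnd u fun v => (two_cases _).resolve_right (hcon v))
    rw [← Finset.mul_sum, h.sum_chi_f this, mul_zero]
  · intro h; exact absurd (Finset.mem_univ _) h

theorem S_ne_zero (h : IsQ q f) [Module (ZMod 2) V] (hnd : ∀ u, (∀ v, f u v = 0) → u = 0) : S q ≠ 0 := by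
  intro h0
  have h3 := h.S_sq hnd
  rw [h0, zero_mul] at h3
  have : (0 : ℤ) < Fintype.card V := by exact_mod_cast Fintype.card_pos
  omega

omit [AddCommGroup V] in
/-- The number of zeros of `q` from its Gauss sum. -/
theorem two_mul_card_zeros (q : V → ZMod 2) :
    2 * (Nat.card {v : V // q v = 0} : ℤ) = Fintype.card V + S q := by
  classical
  have h1 : S q = ∑ v, (2 * (if q v = 0 then 1 else 0) - 1 : ℤ) := by
    unfold S
    apply Finset.sum_congr rfl
    intro v _
    unfold chi
    split_ifs <;> norm_num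
  rw [h1, Finset.sum_sub_distrib, ← Finset.mul_sum, Finset.sum_boole]
  simp only [Finset.sum_const, Finset.card_univ, nsmul_eq_mul, mul_one]
  rw [Nat.card_eq_fintype_card, Fintype.card_subtype]
  ring

/-- Gauss sum of a form vanishing on a subgroup that equals its own perp. -/
theorem S_of_isotropic (h : IsQ q f) [Module (ZMod 2) V] (U : Submodule (ZMod 2) V) (hU : ∀ u ∈ U, q u = 0)
    (hperp : ∀ v, (∀ u ∈ U, f v u = 0) → v ∈ U) : S q = Nat.card U := by
  classical
  have hf : ∀ u ∈ U, ∀ v ∈ U, f u v = 0 := by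
    intro u hu v hv
    have := h.pol u v
    rw [hU _ (U.add_mem hu hv), hU u hu, hU v hv] at this
    simpa using this.symm
  have h1 : (Nat.card U : ℤ) * S q = ∑ v : V, chi (q v) * ∑ u : U, chi (f v u) := by
    have : ∀ u : U, S q = ∑ v : V, chi (q v) * chi (f v u) := by
      intro u
      unfold S
      rw [← Equiv.sum_comp (Equiv.addRight (u : V)) (fun v => chi (q v))]
      apply Finset.sum_congr rfl
      intro v _
      simp only [Equiv.coe_addRight]
      rw [← chi_add, h.pol, hU u u.2, add_zero]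
    calc (Nat.card U : ℤ) * S q = ∑ u : U, S q := by
          rw [Finset.sum_const, Finset.card_univ, Nat.card_eq_fintype_card, nsmul_eq_mul]
      _ = ∑ u : U, ∑ v : V, chi (q v) * chi (f v u) := Finset.sum_congr rfl fun u _ => this u
      _ = ∑ v : V, chi (q v) * ∑ u : U, chi (f v u) := by
          rw [Finset.sum_comm]
          simp only [Finset.mul_sum]
  have h2 : ∀ v : V, chi (q v) * ∑ u : U, chi (f v u) = if v ∈ U then (Nat.card U : ℤ) else 0 := by
    intro v
    by_cases hv : v ∈ U
    · rw [if_pos hv, hU v hv, chi_zero, one_mul]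
      have : ∀ u : U, chi (f v u) = 1 := fun u => by rw [hf v hv u u.2, chi_zero]
      rw [Finset.sum_congr rfl fun u _ => this u]
      simp [Nat.card_eq_fintype_card]
    · rw [if_neg hv]
      obtain ⟨x, hx, hx1⟩ : ∃ x ∈ U, f v x = 1 := by
        by_contra hcon
        push Not at hcon
        exact hv (hperp v fun u hu => (two_cases _).resolve_right (hcon u hu))
      have h3 : ∑ u : U, chi (f v u) = - ∑ u : U, chi (f v u) := by
        conv_lhs => rw [← Equiv.sum_comp (Equiv.addRight (⟨x, hx⟩ : U)) (fun u : U => chi (f v u))]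
        rw [← Finset.sum_neg_distrib]
        apply Finset.sum_congr rfl
        intro u _
        simp only [Equiv.coe_addRight, Submodule.coe_add]
        rw [h.add_right, hx1, chi_add, chi_one]
        ring
      have : ∑ u : U, chi (f v u) = 0 := by linarith
      rw [this, mul_zero]
  rw [Finset.sum_congr rfl fun v _ => h2 v, ← Finset.sum_filter, Finset.sum_const, nsmul_eq_mul] at h1
  have h4 : (Finset.univ.filter (fun v : V => v ∈ U)).card = Nat.card U := by
    rw [Nat.card_eq_fintype_card, Fintype.card_subtype]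
  rw [h4] at h1
  have h5 : (Nat.card U : ℤ) ≠ 0 := by
    have : 0 < Nat.card U := Nat.card_pos
    exact_mod_cast this.ne'
  exact mul_left_cancel₀ h5 h1

end IsQ

/-- Invariance of the Gauss sum under bijections. -/
theorem S_comp {V W : Type*} [Fintype V] [Fintype W] (e : V ≃ W) (q : W → ZMod 2) :
    IsQ.S (fun v => q (e v)) = IsQ.S q := Equiv.sum_comp e (fun w => chi (q w))

/-! ### Equivalence of forms with the same polarization -/

section Equiv

variable {V : Type*} [AddCommGroup V] [Module (ZMod 2) V] {q : V → ZMod 2} {f : V → V → ZMod 2}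

theorem f_smul_left (h : IsQ q f) (c : ZMod 2) (u v : V) : f (c • u) v = c * f u v := by
  rcases two_cases c with rfl | rfl
  · rw [zero_smul, zero_mul, h.f_zero_left]
  · rw [one_smul, one_mul]

theorem f_smul_right (h : IsQ q f) (c : ZMod 2) (u v : V) : f u (c • v) = c * f u v := by
  rw [h.symm, f_smul_left h, h.symm]

/-- If `q w = 0` the forms `q` and `q + f(·, w)` are equivalent (by a transvection). -/
theorem exists_equiv_translate (h : IsQ q f) {w : V} (hw : q w = 0) :
    ∃ g : V ≃ₗ[ZMod 2] V, ∀ v, q v + f v w = q (g v) := by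
  let T : V →ₗ[ZMod 2] V :=
    { toFun := fun v => v + f v w • w
      map_add' := fun u v => by rw [h.add_left, add_smul]; abel
      map_smul' := fun c v => by rw [f_smul_left h, mul_smul, smul_add]; rfl }
  have hTT : ∀ v, T (T v) = v := by
    intro v
    show (v + f v w • w) + f (v + f v w • w) w • w = v
    rw [h.add_left, f_smul_left h, h.self, mul_zero, add_zero, add_assoc, ← add_smul, add_self,
      zero_smul, add_zero]
  refine ⟨LinearEquiv.ofInvolutive T hTT, fun v => ?_⟩
  show q v + f v w = q (v + f v w • w)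
  rcases two_cases (f v w) with h' | h'
  · rw [h', zero_smul]; simp
  · rw [h', one_smul, h.pol, hw, h']; ring

/-- All functions polarizing to `f` are of the form `q + f(·, w)` for a unique `w`. -/
theorem exists_translate [Fintype V] (h : IsQ q f) (hnd : ∀ u, (∀ v, f u v = 0) → u = 0) {q' : V → ZMod 2} (h' : IsQ q' f) :
    ∃ w, ∀ v, q' v = q v + f v w := by
  classical
  -- the linear functional `q' - q`
  let φ : V →ₗ[ZMod 2] ZMod 2 :=
    { toFun := fun v => q' v - q v
      map_add' := fun u v => by rw [h'.pol, h.pol]; ring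
      map_smul' := fun c v => by
        rcases two_cases c with rfl | rfl
        · simp [h'.q_zero, h.q_zero]
        · simp }
  let B : V →ₗ[ZMod 2] (V →ₗ[ZMod 2] ZMod 2) :=
    LinearMap.mk₂ (ZMod 2) (fun w v => f v w) (fun a b c => h.add_right _ _ _) (fun c a b => f_smul_right h _ _ _)
      (fun a b c => h.add_left _ _ _) (fun c a b => f_smul_left h _ _ _)
  have hBinj : Function.Injective B := by
    rw [injective_iff_map_eq_zero]
    intro w hw
    apply hnd
    intro v
    rw [h.symm]
    have := congrArg (fun g : V →ₗ[ZMod 2] ZMod 2 => g v) hw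
    simpa [B] using this
  have hBsurj : Function.Surjective B := by
    have : finrank (ZMod 2) V = finrank (ZMod 2) (V →ₗ[ZMod 2] ZMod 2) := (Subspace.dual_finrank_eq).symm
    exact (LinearMap.injective_iff_surjective_of_finrank_eq_finrank this).mp hBinj
  obtain ⟨w, hw⟩ := hBsurj φ
  refine ⟨w, fun v => ?_⟩
  have := congrArg (fun g : V →ₗ[ZMod 2] ZMod 2 => g v) hw
  simp only [B, LinearMap.mk₂_apply, φ, LinearMap.coe_mk, AddHom.coe_mk] at this
  rw [this]; ring

end Equiv

/-! ### Totally singular subspaces -/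

section Isotropic

variable {V : Type*} [AddCommGroup V] [Module (ZMod 2) V] {q : V → ZMod 2} {f : V → V → ZMod 2}

/-- the polar form as a bilinear form -/
def bil (h : IsQ q f) : LinearMap.BilinForm (ZMod 2) V :=
  LinearMap.mk₂ (ZMod 2) f h.add_left (fun c a b => f_smul_left h c a b) (fun a b c => h.add_right a b c)
    (fun c a b => f_smul_right h c a b)

theorem bil_apply (h : IsQ q f) (u v : V) : bil h u v = f u v := rfl

theorem bil_nondegenerate [FiniteDimensional (ZMod 2) V] (h : IsQ q f) (hnd : ∀ u, (∀ v, f u v = 0) → u = 0) : (bil h).Nondegenerate := by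
  rw [LinearMap.BilinForm.nondegenerate_iff_ker_eq_bot, LinearMap.ker_eq_bot']
  intro u hu
  exact hnd u fun v => by
    have := congrArg (fun g => g v) hu
    simpa [bil_apply] using this

theorem isotropic_of_singular (h : IsQ q f) (U : Submodule (ZMod 2) V) (hU : ∀ u ∈ U, q u = 0) :
    ∀ u ∈ U, ∀ v ∈ U, f u v = 0 := by
  intro u hu v hv
  have := h.pol u v
  rw [hU _ (U.add_mem hu hv), hU u hu, hU v hv] at this
  simpa using this.symm

theorem finrank_perp [FiniteDimensional (ZMod 2) V] (h : IsQ q f) (hnd : ∀ u, (∀ v, f u v = 0) → u = 0)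
    (U : Submodule (ZMod 2) V) :
    finrank (ZMod 2) ((bil h).orthogonal U) = finrank (ZMod 2) V - finrank (ZMod 2) U :=
  LinearMap.BilinForm.finrank_orthogonal (bil_nondegenerate h hnd) U

theorem mem_perp (h : IsQ q f) (U : Submodule (ZMod 2) V) (v : V) :
    v ∈ (bil h).orthogonal U ↔ ∀ u ∈ U, f v u = 0 := by
  rw [LinearMap.BilinForm.mem_orthogonal_iff]
  exact forall₂_congr fun u _ => by rw [bil_apply, h.symm]

theorem singular_finrank_le [FiniteDimensional (ZMod 2) V] (h : IsQ q f) (hnd : ∀ u, (∀ v, f u v = 0) → u = 0)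
    {m : ℕ} (hm : finrank (ZMod 2) V = 2 * m) (U : Submodule (ZMod 2) V) (hU : ∀ u ∈ U, q u = 0) :
    finrank (ZMod 2) U ≤ m := by
  have h1 : U ≤ (bil h).orthogonal U := fun u hu => (mem_perp h U u).mpr fun v hv => isotropic_of_singular h U hU u hu v hv
  have h2 := Submodule.finrank_mono h1
  rw [finrank_perp h hnd, hm] at h2
  have h3 := Submodule.finrank_le U
  omega

theorem singular_perp [FiniteDimensional (ZMod 2) V] (h : IsQ q f) (hnd : ∀ u, (∀ v, f u v = 0) → u = 0)
    {m : ℕ} (hm : finrank (ZMod 2) V = 2 * m) (U : Submodule (ZMod 2) V) (hU : ∀ u ∈ U, q u = 0)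
    (hUm : m ≤ finrank (ZMod 2) U) : ∀ v, (∀ u ∈ U, f v u = 0) → v ∈ U := by
  have h1 : U ≤ (bil h).orthogonal U := fun u hu => (mem_perp h U u).mpr fun v hv => isotropic_of_singular h U hU u hu v hv
  have h2 : U = (bil h).orthogonal U := by
    apply Submodule.eq_of_le_of_finrank_le h1
    rw [finrank_perp h hnd, hm]
    omega
  intro v hv
  rw [h2]
  exact (mem_perp h U v).mpr hv

end Isotropic

/-! ### The standard forms -/

theorem S_prod {V W : Type*} [Fintype V] [Fintype W] (q₁ : V → ZMod 2) (q₂ : W → ZMod 2) :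
    IsQ.S (fun x : V × W => q₁ x.1 + q₂ x.2) = IsQ.S q₁ * IsQ.S q₂ := by
  unfold IsQ.S
  rw [Finset.sum_mul_sum, Fintype.sum_prod_type]
  simp only [chi_add]

/-- polar form of the plus-type form -/
def fPlus (m : ℕ) (u v : Fin m ⊕ Fin m → ZMod 2) : ZMod 2 :=
  ∑ i : Fin m, (u (.inl i) * v (.inr i) + u (.inr i) * v (.inl i))

/-- the plus-type form -/
abbrev qPlus (m : ℕ) : (Fin m ⊕ Fin m → ZMod 2) → ZMod 2 := Cfsg.quadFormPlus m (ZMod 2)

theorem isQ_plus (m : ℕ) : IsQ (qPlus m) (fPlus m) where
  pol u v := by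
    simp only [Cfsg.quadFormPlus, fPlus, ← Finset.sum_add_distrib]
    apply Finset.sum_congr rfl
    intro i _
    simp only [Pi.add_apply]
    ring
  add_left u v w := by
    simp only [fPlus, ← Finset.sum_add_distrib]
    apply Finset.sum_congr rfl
    intro i _
    simp only [Pi.add_apply]
    ring

theorem fPlus_nondeg (m : ℕ) (u : Fin m ⊕ Fin m → ZMod 2) (h : ∀ v, fPlus m u v = 0) : u = 0 := by
  funext y
  rcases y with i | i
  · have := h (Pi.single (.inr i) 1)
    simpa [fPlus, Pi.single_apply] using this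
  · have := h (Pi.single (.inl i) 1)
    simpa [fPlus, Pi.single_apply] using this

/-- the minus-type form in dimension `2 m + 2` -/
abbrev qMinus (m : ℕ) : ((Fin m ⊕ Fin m) ⊕ Fin 2 → ZMod 2) → ZMod 2 := Cfsg.quadFormMinus m (ZMod 2) 1 1

/-- its polar form -/
def fMinus (m : ℕ) (u v : (Fin m ⊕ Fin m) ⊕ Fin 2 → ZMod 2) : ZMod 2 :=
  ∑ i : Fin m, (u (.inl (.inl i)) * v (.inl (.inr i)) + u (.inl (.inr i)) * v (.inl (.inl i)))
    + (u (.inr 0) * v (.inr 1) + u (.inr 1) * v (.inr 0))

theorem isQ_minus (m : ℕ) : IsQ (qMinus m) (fMinus m) where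
  pol u v := by
    simp only [Cfsg.quadFormMinus, fMinus]
    have h1 : ∑ i : Fin m, (u + v) (.inl (.inl i)) * (u + v) (.inl (.inr i)) =
      ∑ i : Fin m, u (.inl (.inl i)) * u (.inl (.inr i)) + ∑ i : Fin m, v (.inl (.inl i)) * v (.inl (.inr i)) +
        ∑ i : Fin m, (u (.inl (.inl i)) * v (.inl (.inr i)) + u (.inl (.inr i)) * v (.inl (.inl i))) := by
      rw [← Finset.sum_add_distrib, ← Finset.sum_add_distrib]
      apply Finset.sum_congr rfl
      intro i _
      simp only [Pi.add_apply]
      ring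
    rw [h1]
    simp only [Pi.add_apply]
    have h2 := add_self (u (.inr 0) * v (.inr 0))
    have h3 := add_self (u (.inr 1) * v (.inr 1))
    linear_combination h2 + h3
  add_left u v w := by
    simp only [fMinus]
    have h1 : ∑ i : Fin m, ((u + v) (.inl (.inl i)) * w (.inl (.inr i)) + (u + v) (.inl (.inr i)) * w (.inl (.inl i))) =
      ∑ i : Fin m, (u (.inl (.inl i)) * w (.inl (.inr i)) + u (.inl (.inr i)) * w (.inl (.inl i))) +
      ∑ i : Fin m, (v (.inl (.inl i)) * w (.inl (.inr i)) + v (.inl (.inr i)) * w (.inl (.inl i))) := by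
      rw [← Finset.sum_add_distrib]
      apply Finset.sum_congr rfl
      intro i _
      simp only [Pi.add_apply]
      ring
    rw [h1]
    simp only [Pi.add_apply]
    ring

theorem fMinus_nondeg (m : ℕ) (u : (Fin m ⊕ Fin m) ⊕ Fin 2 → ZMod 2) (h : ∀ v, fMinus m u v = 0) : u = 0 := by
  funext y
  rcases y with (i | i) | i
  · have := h (Pi.single (.inl (.inr i)) 1)
    simpa [fMinus, Pi.single_apply] using this
  · have := h (Pi.single (.inl (.inl i)) 1)
    simpa [fMinus, Pi.single_apply] using this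
  · fin_cases i
    · have := h (Pi.single (.inr 1) 1)
      simpa [fMinus, Pi.single_apply] using this
    · have := h (Pi.single (.inr 0) 1)
      simpa [fMinus, Pi.single_apply] using this

/-- the standard maximal totally singular subspace for the plus type -/
def UPlus (m : ℕ) : Submodule (ZMod 2) (Fin m ⊕ Fin m → ZMod 2) :=
  LinearMap.ker (LinearMap.funLeft (ZMod 2) (ZMod 2) (Sum.inr : Fin m → Fin m ⊕ Fin m))

theorem mem_UPlus (m : ℕ) (v : Fin m ⊕ Fin m → ZMod 2) : v ∈ UPlus m ↔ ∀ i, v (.inr i) = 0 := by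
  rw [UPlus, LinearMap.mem_ker, funext_iff]
  rfl

theorem UPlus_singular (m : ℕ) : ∀ u ∈ UPlus m, qPlus m u = 0 := by
  intro u hu
  rw [mem_UPlus] at hu
  simp [Cfsg.quadFormPlus, hu]

theorem finrank_UPlus (m : ℕ) : finrank (ZMod 2) (UPlus m) = m := by
  have h1 := LinearMap.finrank_range_add_finrank_ker (LinearMap.funLeft (ZMod 2) (ZMod 2) (Sum.inr : Fin m → Fin m ⊕ Fin m))
  have h2 : LinearMap.range (LinearMap.funLeft (ZMod 2) (ZMod 2) (Sum.inr : Fin m → Fin m ⊕ Fin m)) = ⊤ := by
    rw [LinearMap.range_eq_top]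
    exact LinearMap.funLeft_surjective_of_injective _ _ _ Sum.inr_injective
  rw [h2] at h1
  simp only [finrank_top, Module.finrank_fintype_fun_eq_card, Fintype.card_fin, Fintype.card_sum] at h1
  have : finrank (ZMod 2) (UPlus m) = finrank (ZMod 2) (LinearMap.ker (LinearMap.funLeft (ZMod 2) (ZMod 2) (Sum.inr : Fin m → Fin m ⊕ Fin m))) := rfl
  omega

/-- the standard totally singular subspace for the minus type -/
def UMinus (m : ℕ) : Submodule (ZMod 2) ((Fin m ⊕ Fin m) ⊕ Fin 2 → ZMod 2) :=
  LinearMap.ker (LinearMap.funLeft (ZMod 2) (ZMod 2) (Sum.map Sum.inr id : Fin m ⊕ Fin 2 → (Fin m ⊕ Fin m) ⊕ Fin 2))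

theorem mem_UMinus (m : ℕ) (v : (Fin m ⊕ Fin m) ⊕ Fin 2 → ZMod 2) :
    v ∈ UMinus m ↔ (∀ i, v (.inl (.inr i)) = 0) ∧ ∀ i, v (.inr i) = 0 := by
  rw [UMinus, LinearMap.mem_ker, funext_iff]
  constructor
  · intro h
    exact ⟨fun i => h (.inl i), fun i => h (.inr i)⟩
  · rintro ⟨h1, h2⟩ (i | i)
    · exact h1 i
    · exact h2 i

theorem UMinus_singular (m : ℕ) : ∀ u ∈ UMinus m, qMinus m u = 0 := by
  intro u hu
  rw [mem_UMinus] at hu
  simp [Cfsg.quadFormMinus, hu.1, hu.2]

theorem finrank_UMinus (m : ℕ) : finrank (ZMod 2) (UMinus m) = m := by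
  have h1 := LinearMap.finrank_range_add_finrank_ker (LinearMap.funLeft (ZMod 2) (ZMod 2) (Sum.map Sum.inr id : Fin m ⊕ Fin 2 → (Fin m ⊕ Fin m) ⊕ Fin 2))
  have h2 : LinearMap.range (LinearMap.funLeft (ZMod 2) (ZMod 2) (Sum.map Sum.inr id : Fin m ⊕ Fin 2 → (Fin m ⊕ Fin m) ⊕ Fin 2)) = ⊤ := by
    rw [LinearMap.range_eq_top]
    exact LinearMap.funLeft_surjective_of_injective _ _ _ (Sum.map_injective.mpr ⟨Sum.inr_injective, Function.injective_id⟩)
  rw [h2] at h1
  simp only [finrank_top, Module.finrank_fintype_fun_eq_card, Fintype.card_fin, Fintype.card_sum] at h1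
  have : finrank (ZMod 2) (UMinus m) = finrank (ZMod 2) (LinearMap.ker (LinearMap.funLeft (ZMod 2) (ZMod 2) (Sum.map Sum.inr id : Fin m ⊕ Fin 2 → (Fin m ⊕ Fin m) ⊕ Fin 2))) := rfl
  omega

theorem S_plus (m : ℕ) : IsQ.S (qPlus m) = 2 ^ m := by
  rw [(isQ_plus m).S_of_isotropic (UPlus m) (UPlus_singular m)
    (singular_perp (isQ_plus m) (fPlus_nondeg m) (m := m) (by simp [two_mul]) _ (UPlus_singular m) (finrank_UPlus m).ge)]
  rw [Module.natCard_eq_pow_finrank (K := ZMod 2), finrank_UPlus]
  simp

theorem S_minus (m : ℕ) : IsQ.S (qMinus m) = - 2 ^ (m + 1) := by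
  have h1 : IsQ.S (qMinus m) = IsQ.S (fun x : (Fin m ⊕ Fin m → ZMod 2) × (Fin 2 → ZMod 2) =>
      qPlus m x.1 + ((x.2 0) ^ 2 + 1 * x.2 0 * x.2 1 + 1 * (x.2 1) ^ 2)) := by
    rw [← S_comp (Equiv.sumArrowEquivProdArrow (Fin m ⊕ Fin m) (Fin 2) (ZMod 2))]
    rfl
  have h2 := S_prod (qPlus m) (fun y : Fin 2 → ZMod 2 => ((y 0) ^ 2 + 1 * y 0 * y 1 + 1 * (y 1) ^ 2))
  have h3 : IsQ.S (fun y : Fin 2 → ZMod 2 => ((y 0) ^ 2 + 1 * y 0 * y 1 + 1 * (y 1) ^ 2)) = -2 := by
    decide
  rw [h1, h2, h3, S_plus]
  ring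

end Cfsg.Agent.Lib.QuadF2
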