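import Mathlib
import Cfsg.Prelude.Def_ClassicalGeometry
import Cfsg.Agent.Lib.QuadF2

set_option autoImplicit false

/-! The symmetric group acting on the even subsets modulo `{∅, all}` over `𝔽₂`, with its invariant quadratic form
`|X| / 2` (helper43). -/

namespace Cfsg.Agent.Lib.SymF2

open Module Cfsg.Agent.Lib.QuadF2

/-- weight -/
def N {n : ℕ} (x : Fin n → ZMod 2) : ℕ := ∑ i, (x i).val

/-- the quadratic form `C(|x|, 2)` -/
def q {n : ℕ} (x : Fin n → ZMod 2) : ZMod 2 := ((N x).choose 2 : ℕ)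

/-- the polar form -/
def f {n : ℕ} (x y : Fin n → ZMod 2) : ZMod 2 := (∑ i, x i) * (∑ i, y i) + ∑ i, x i * y i

theorem cast_N {n : ℕ} (x : Fin n → ZMod 2) : ((N x : ℕ) : ZMod 2) = ∑ i, x i := by
  rw [N, Nat.cast_sum]
  apply Finset.sum_congr rfl
  intro i _
  exact ZMod.natCast_zmod_val (x i)

theorem N_add {n : ℕ} (x y : Fin n → ZMod 2) : N (x + y) + 2 * N (x * y) = N x + N y := by
  have h : ∀ a b : ZMod 2, (a + b).val + 2 * (a * b).val = a.val + b.val := by decide
  simp only [N, Finset.mul_sum, ← Finset.sum_add_distrib]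
  apply Finset.sum_congr rfl
  intro i _
  exact h _ _

theorem choose_two_add (a b : ℕ) : (a + b).choose 2 = a.choose 2 + b.choose 2 + a * b := by
  induction b with
  | zero => simp
  | succ b ih =>
    rw [← add_assoc, Nat.choose_succ_succ' (a + b) 1, ih, Nat.choose_succ_succ' b 1]
    simp only [Nat.choose_one_right]
    ring

theorem choose_two_two_mul (c : ℕ) : (((2 * c).choose 2 : ℕ) : ZMod 2) = (c : ZMod 2) := by
  induction c with
  | zero => simp
  | succ c ih =>
    have : 2 * (c + 1) = 2 * c + 2 := by ring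
    rw [this, choose_two_add, Nat.cast_add, Nat.cast_add, ih]
    push_cast
    have h2 : (2 : ZMod 2) = 0 := rfl
    rw [h2]
    simp

theorem isQ (n : ℕ) : IsQ (q (n := n)) (f (n := n)) where
  pol x y := by
    have h := N_add x y
    have h1 := choose_two_add (N (x + y)) (2 * N (x * y))
    rw [h, choose_two_add (N x) (N y)] at h1
    have h2 := congrArg (fun a : ℕ => (a : ZMod 2)) h1
    simp only [Nat.cast_add, Nat.cast_mul, choose_two_two_mul, cast_N] at h2
    have h3 : ((2 : ℕ) : ZMod 2) = 0 := rfl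
    rw [h3] at h2
    simp only [q, f]
    have h4 : ∑ i, (x * y) i = ∑ i, x i * y i := rfl
    rw [h4] at h2
    have h5 := add_self (∑ i, x i * y i)
    linear_combination -h2 - h5
  add_left x y z := by
    simp only [f, Pi.add_apply, Finset.sum_add_distrib, add_mul]
    ring

/-- even vectors -/
def E (n : ℕ) : Submodule (ZMod 2) (Fin n → ZMod 2) :=
  LinearMap.ker (∑ i : Fin n, LinearMap.proj i : (Fin n → ZMod 2) →ₗ[ZMod 2] ZMod 2)

theorem mem_E {n : ℕ} (x : Fin n → ZMod 2) : x ∈ E n ↔ ∑ i, x i = 0 := by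
  rw [E, LinearMap.mem_ker]
  simp

theorem finrank_E (n : ℕ) : finrank (ZMod 2) (E (n + 1)) = n := by
  have h1 := LinearMap.finrank_range_add_finrank_ker (∑ i : Fin (n + 1), LinearMap.proj i : (Fin (n + 1) → ZMod 2) →ₗ[ZMod 2] ZMod 2)
  have h2 : LinearMap.range (∑ i : Fin (n + 1), LinearMap.proj i : (Fin (n + 1) → ZMod 2) →ₗ[ZMod 2] ZMod 2) = ⊤ := by
    rw [LinearMap.range_eq_top]
    intro a
    exact ⟨Pi.single 0 a, by simp⟩
  rw [h2] at h1
  simp only [finrank_top, Module.finrank_self, Module.finrank_fintype_fun_eq_card, Fintype.card_fin] at h1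
  have : finrank (ZMod 2) (E (n + 1)) = finrank (ZMod 2) (LinearMap.ker (∑ i : Fin (n + 1), LinearMap.proj i : (Fin (n + 1) → ZMod 2) →ₗ[ZMod 2] ZMod 2)) := rfl
  omega

/-! ### The Gauss sums -/

/-- Gauss sum over even vectors -/
def A (n : ℕ) : ℤ := ∑ x : Fin n → ZMod 2, if ∑ i, x i = 0 then chi (q x) else 0
/-- Gauss sum over odd vectors -/
def B (n : ℕ) : ℤ := ∑ x : Fin n → ZMod 2, if ∑ i, x i = 1 then chi (q x) else 0

theorem N_cons {n : ℕ} (a : ZMod 2) (x : Fin n → ZMod 2) : N (Fin.cons a x : Fin (n + 1) → ZMod 2) = a.val + N x := by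
  simp [N, Fin.sum_univ_succ]

theorem q_cons_zero {n : ℕ} (x : Fin n → ZMod 2) : q (Fin.cons 0 x : Fin (n + 1) → ZMod 2) = q x := by
  simp [q, N_cons]

theorem q_cons_one {n : ℕ} (x : Fin n → ZMod 2) : q (Fin.cons 1 x : Fin (n + 1) → ZMod 2) = q x + ∑ i, x i := by
  have : (1 : ZMod 2).val = 1 := rfl
  rw [q, N_cons, this, choose_two_add, ← cast_N, q]
  simp

theorem sum_cons {M : Type*} [AddCommMonoid M] {n : ℕ} (g : (Fin (n + 1) → ZMod 2) → M) :
    ∑ x, g x = ∑ x : Fin n → ZMod 2, g (Fin.cons 0 x) + ∑ x : Fin n → ZMod 2, g (Fin.cons 1 x) := by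
  rw [← Equiv.sum_comp (Fin.consEquiv (fun _ : Fin (n + 1) => ZMod 2)) g, Fintype.sum_prod_type]
  exact Fin.sum_univ_two (fun a : Fin 2 => ∑ y : Fin n → ZMod 2, g (Fin.consEquiv (fun _ : Fin (n + 1) => ZMod 2) (a, y)))

theorem A_succ (n : ℕ) : A (n + 1) = A n - B n := by
  unfold A B
  rw [sum_cons, sub_eq_add_neg, ← Finset.sum_neg_distrib]
  congr 1
  · apply Finset.sum_congr rfl
    intro x _
    rw [q_cons_zero, Fin.sum_univ_succ]
    simp
  · apply Finset.sum_congr rfl
    intro x _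
    rw [q_cons_one, Fin.sum_univ_succ, chi_add]
    simp only [Fin.cons_zero, Fin.cons_succ]
    rcases two_cases (∑ i, x i) with h | h
    · rw [h]; simp
    · rw [h, chi_one]
      have : (1 : ZMod 2) + 1 = 0 := rfl
      simp [this]

theorem B_succ (n : ℕ) : B (n + 1) = A n + B n := by
  unfold A B
  rw [sum_cons, add_comm]
  congr 1
  · apply Finset.sum_congr rfl
    intro x _
    rw [q_cons_one, Fin.sum_univ_succ, chi_add]
    simp only [Fin.cons_zero, Fin.cons_succ]
    rcases two_cases (∑ i, x i) with h | h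
    · rw [h, chi_zero]; simp
    · rw [h]
      have : (1 : ZMod 2) + 1 = 0 := rfl
      simp [this]
  · apply Finset.sum_congr rfl
    intro x _
    rw [q_cons_zero, Fin.sum_univ_succ]
    simp

theorem A_add_four (n : ℕ) : A (n + 4) = -4 * A n := by
  have a1 := A_succ n
  have b1 := B_succ n
  have a2 := A_succ (n + 1)
  have b2 := B_succ (n + 1)
  have a3 := A_succ (n + 2)
  have b3 := B_succ (n + 2)
  have a4 := A_succ (n + 3)
  linarith

theorem A_zero : A 0 = 1 := by decide

theorem A_four_mul (j : ℕ) : A (4 * j) = (-4) ^ j := by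
  induction j with
  | zero => exact A_zero
  | succ j ih =>
    have : 4 * (j + 1) = 4 * j + 4 := by ring
    rw [this, A_add_four, ih, pow_succ]
    ring

theorem S_E (n : ℕ) [Fintype (E n)] : IsQ.S (fun x : E n => q (x : Fin n → ZMod 2)) = A n := by
  classical
  unfold IsQ.S A
  rw [← Finset.sum_filter]
  rw [← Finset.sum_subtype (Finset.univ.filter fun x : Fin n → ZMod 2 => ∑ i, x i = 0) (p := fun x => x ∈ E n)
    (f := fun x => chi (q x))]
  intro x
  rw [mem_E]
  simp

/-! ### Passing to the quotient by the all-one vector -/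

section Quot

variable {V : Type*} [AddCommGroup V] [Module (ZMod 2) V] {q : V → ZMod 2} {f : V → V → ZMod 2}

/-- the induced form on `V ⧸ R` -/
noncomputable def qbar (q : V → ZMod 2) (R : Submodule (ZMod 2) V) (v : V ⧸ R) : ZMod 2 := q (Quotient.out v)

/-- the induced polar form on `V ⧸ R` -/
noncomputable def fbar (f : V → V → ZMod 2) (R : Submodule (ZMod 2) V) (u v : V ⧸ R) : ZMod 2 :=
  f (Quotient.out u) (Quotient.out v)

theorem qbar_mk (h : IsQ q f) (R : Submodule (ZMod 2) V) (hq : ∀ r ∈ R, q r = 0) (hf : ∀ r ∈ R, ∀ v, f r v = 0) (x : V) :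
    qbar q R (Submodule.Quotient.mk x) = q x := by
  unfold qbar
  have h1 : (Submodule.Quotient.mk (Quotient.out (Submodule.Quotient.mk x : V ⧸ R)) : V ⧸ R) = Submodule.Quotient.mk x := Quotient.out_eq _
  rw [Submodule.Quotient.eq] at h1
  have h2 : Quotient.out (Submodule.Quotient.mk x : V ⧸ R) = (Quotient.out (Submodule.Quotient.mk x : V ⧸ R) - x) + x := by abel
  rw [h2, h.pol, hq _ h1, hf _ h1]
  ring

theorem fbar_mk (h : IsQ q f) (R : Submodule (ZMod 2) V) (hf : ∀ r ∈ R, ∀ v, f r v = 0) (x y : V) :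
    fbar f R (Submodule.Quotient.mk x) (Submodule.Quotient.mk y) = f x y := by
  unfold fbar
  have h1 : (Submodule.Quotient.mk (Quotient.out (Submodule.Quotient.mk x : V ⧸ R)) : V ⧸ R) = Submodule.Quotient.mk x := Quotient.out_eq _
  rw [Submodule.Quotient.eq] at h1
  have h2 : Quotient.out (Submodule.Quotient.mk x : V ⧸ R) = (Quotient.out (Submodule.Quotient.mk x : V ⧸ R) - x) + x := by abel
  have h3 : (Submodule.Quotient.mk (Quotient.out (Submodule.Quotient.mk y : V ⧸ R)) : V ⧸ R) = Submodule.Quotient.mk y := Quotient.out_eq _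
  rw [Submodule.Quotient.eq] at h3
  have h4 : Quotient.out (Submodule.Quotient.mk y : V ⧸ R) = (Quotient.out (Submodule.Quotient.mk y : V ⧸ R) - y) + y := by abel
  rw [h2, h.add_left, hf _ h1, zero_add, h4, h.add_right, h.symm x, hf _ h3, zero_add]

theorem isQ_bar (h : IsQ q f) (R : Submodule (ZMod 2) V) (hq : ∀ r ∈ R, q r = 0) (hf : ∀ r ∈ R, ∀ v, f r v = 0) :
    IsQ (qbar q R) (fbar f R) where
  pol u v := by
    obtain ⟨x, rfl⟩ := Submodule.Quotient.mk_surjective _ u
    obtain ⟨y, rfl⟩ := Submodule.Quotient.mk_surjective _ v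
    rw [← Submodule.Quotient.mk_add, qbar_mk h R hq hf, qbar_mk h R hq hf, qbar_mk h R hq hf, fbar_mk h R hf, h.pol]
  add_left u v w := by
    obtain ⟨x, rfl⟩ := Submodule.Quotient.mk_surjective _ u
    obtain ⟨y, rfl⟩ := Submodule.Quotient.mk_surjective _ v
    obtain ⟨z, rfl⟩ := Submodule.Quotient.mk_surjective _ w
    rw [← Submodule.Quotient.mk_add, fbar_mk h R hf, fbar_mk h R hf, fbar_mk h R hf, h.add_left]

theorem S_bar [Fintype V] (h : IsQ q f) (R : Submodule (ZMod 2) V) [Fintype (V ⧸ R)] (hq : ∀ r ∈ R, q r = 0) (hf : ∀ r ∈ R, ∀ v, f r v = 0) :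
    IsQ.S q = Nat.card R * IsQ.S (qbar q R) := by
  classical
  obtain ⟨C, hC⟩ := Submodule.exists_isCompl R
  have h1 : IsQ.S (fun c : C => q c) = IsQ.S (qbar q R) := by
    rw [← S_comp (Submodule.quotientEquivOfIsCompl R C hC).symm.toEquiv (qbar q R)]
    congr 1
    funext c
    show q c = qbar q R ((Submodule.quotientEquivOfIsCompl R C hC).symm c)
    rw [Submodule.quotientEquivOfIsCompl_symm_apply, qbar_mk h R hq hf]
  have h2 : IsQ.S (fun x : R × C => (0 : ZMod 2) + q x.2) = IsQ.S q := by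
    rw [← S_comp (Submodule.prodEquivOfIsCompl R C hC).toEquiv q]
    congr 1
    funext x
    show _ = q ((Submodule.prodEquivOfIsCompl R C hC) x)
    rw [Submodule.coe_prodEquivOfIsCompl', h.pol, hq _ x.1.2, hf _ x.1.2]
    ring
  rw [← h2, ← h1]
  have h3 := S_prod (fun _ : R => (0 : ZMod 2)) (fun c : C => q c)
  rw [h3]
  congr 1
  simp [IsQ.S, chi_zero, Nat.card_eq_fintype_card]

end Quot

end Cfsg.Agent.Lib.SymF2
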