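import Mathlib
import Cfsg.Prelude.Def_ClassicalGeometry
import Cfsg.Agent.Lib.QuadF2
import Cfsg.Agent.Lib.SymF2
import Cfsg.Agent.Lib.SympBasis
import Cfsg.Agent.S2561

set_option autoImplicit false

/-! Classification of non-degenerate quadratic forms over `𝔽₂`; embeddings of symmetric groups in orthogonal
groups over `𝔽₂` (helper43). -/

namespace Cfsg.Agent.Lib.SymF2Hom

open Module Cfsg.Agent.Lib.QuadF2

/-- Classification over `𝔽₂` by the sign of the Gauss sum. -/
theorem classification {V : Type*} [AddCommGroup V] [Module (ZMod 2) V] [Fintype V] {q : V → ZMod 2}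
    {f : V → V → ZMod 2} (h : IsQ q f) (hnd : ∀ u, (∀ v, f u v = 0) → u = 0) {k : ℕ}
    (hk : finrank (ZMod 2) V = 2 * (k + 1)) :
    (0 < IsQ.S q → ∃ g : V ≃ₗ[ZMod 2] (Fin (k + 1) ⊕ Fin (k + 1) → ZMod 2), ∀ v, q v = qPlus (k + 1) (g v)) ∧
    (IsQ.S q < 0 → ∃ g : V ≃ₗ[ZMod 2] ((Fin k ⊕ Fin k) ⊕ Fin 2 → ZMod 2), ∀ v, q v = qMinus k (g v)) := by
  classical
  have : FiniteDimensional (ZMod 2) V := inferInstance
  obtain ⟨e, he⟩ := Cfsg.Agent.Lib.SympBasis.exists_equiv_of_finrank (F := ZMod 2) hk (bil h)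
    (fun v => h.self v) (fun v hv => hnd v hv)
  have hfe : ∀ u v, f (e u) (e v) = fPlus (k + 1) u v := by
    intro u v
    have := he u v
    rw [bil_apply] at this
    rw [this, Cfsg.Agent.Lib.SympAux.sympForm_eq]
    simp only [fPlus]
    apply Finset.sum_congr rfl
    intro i _
    have h2 := add_self (u (.inl i) * v (.inr i))
    linear_combination -h2
  have hq : IsQ (fun u => q (e u)) (fPlus (k + 1)) :=
    { pol := fun u v => by
        show q (e (u + v)) = _
        rw [map_add, h.pol, hfe]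
      add_left := (isQ_plus (k + 1)).add_left }
  have hcl := (Cfsg.Agent.S2561.result (k + 1) (by omega)).2.1 (fun u => q (e u)) (by
    intro u v
    have h1 : q (e (u + v)) = q (e u) + q (e v) + fPlus (k + 1) u v := hq.pol u v
    have h2 := (isQ_plus (k + 1)).pol u v
    linear_combination h1 - h2)
  have hS : IsQ.S (fun u => q (e u)) = IsQ.S q := S_comp e.toEquiv q
  constructor
  · intro hpos
    rcases hcl with ⟨g, hg⟩ | ⟨g, hg⟩
    · refine ⟨e.symm.trans g, fun v => ?_⟩
      have := hg (e.symm v)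
      simp only [LinearEquiv.apply_symm_apply] at this
      exact this
    · exfalso
      have h1 : IsQ.S (fun u => q (e u)) = IsQ.S (qMinus k) := by
        rw [← S_comp (g : (Fin (k + 1) ⊕ Fin (k + 1) → ZMod 2) ≃ₗ[ZMod 2] ((Fin k ⊕ Fin k) ⊕ Fin 2 → ZMod 2)).toEquiv (qMinus k)]
        exact congrArg IsQ.S (funext hg)
      rw [hS, S_minus] at h1
      have : (0 : ℤ) < 2 ^ (k + 1) := by positivity
      linarith
  · intro hneg
    rcases hcl with ⟨g, hg⟩ | ⟨g, hg⟩
    · exfalso
      have h1 : IsQ.S (fun u => q (e u)) = IsQ.S (qPlus (k + 1)) := by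
        rw [← S_comp (g : (Fin (k + 1) ⊕ Fin (k + 1) → ZMod 2) ≃ₗ[ZMod 2] (Fin (k + 1) ⊕ Fin (k + 1) → ZMod 2)).toEquiv (qPlus (k + 1))]
        exact congrArg IsQ.S (funext hg)
      rw [hS, S_plus] at h1
      have : (0 : ℤ) < 2 ^ (k + 1) := by positivity
      linarith
    · refine ⟨e.symm.trans g, fun v => ?_⟩
      have := hg (e.symm v)
      simp only [LinearEquiv.apply_symm_apply] at this
      exact this

/-- From a faithful linear action preserving a form isometric to `Q` to an embedding in `isometryGroup`. -/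
theorem exists_hom_isometry {G : Type*} [Group G] {F : Type*} [Field F] {W : Type*} [AddCommGroup W] [Module F W]
    (ρ : G →* Module.End F W) (qW : W → F) (hρ : ∀ g w, qW (ρ g w) = qW w) (hinj : Function.Injective ρ)
    {ι : Type} [Fintype ι] [DecidableEq ι] (e : W ≃ₗ[F] (ι → F)) (Q : (ι → F) → F) (he : ∀ w, qW w = Q (e w)) :
    ∃ φ : G →* ↥(Cfsg.isometryGroup F Q), Function.Injective φ ∧
      ∀ g w, (((φ g : Matrix.GeneralLinearGroup ι F) : Matrix ι ι F)).mulVec (e w) = e (ρ g w) := by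
  let ρ1 : G →* Module.End F (ι → F) :=
    { toFun := fun g => (e : W →ₗ[F] (ι → F)) ∘ₗ (ρ g) ∘ₗ (e.symm : (ι → F) →ₗ[F] W)
      map_one' := by
        rw [map_one]
        apply LinearMap.ext
        intro x
        simp
      map_mul' := fun g h => by
        rw [map_mul]
        apply LinearMap.ext
        intro x
        simp }
  let ρ2 : G →* Matrix ι ι F := (LinearMap.toMatrixAlgEquiv' : ((ι → F) →ₗ[F] ι → F) ≃ₐ[F] Matrix ι ι F).toAlgHom.toRingHom.toMonoidHom.comp ρ1
  have hρ2 : ∀ g w, (ρ2 g).mulVec (e w) = e (ρ g w) := by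
    intro g w
    show (LinearMap.toMatrixAlgEquiv' (ρ1 g)).mulVec (e w) = _
    have : (LinearMap.toMatrixAlgEquiv' (ρ1 g)) = LinearMap.toMatrix' (ρ1 g) := rfl
    rw [this, LinearMap.toMatrix'_mulVec]
    simp [ρ1]
  let ρ3 : G →* Matrix.GeneralLinearGroup ι F := ρ2.toHomUnits
  have hρ3 : ∀ g w, ((ρ3 g : Matrix.GeneralLinearGroup ι F) : Matrix ι ι F).mulVec (e w) = e (ρ g w) := hρ2
  refine ⟨ρ3.codRestrict _ ?_, ?_, ?_⟩
  · intro g
    show ∀ u v, Q (((ρ3 g : Matrix.GeneralLinearGroup ι F) : Matrix ι ι F).mulVec u) = Q u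
    intro u _
    obtain ⟨w, rfl⟩ := e.surjective u
    rw [hρ3, ← he, hρ, he]
  · intro g h hgh
    apply hinj
    have h1 : ρ3 g = ρ3 h := congrArg Subtype.val hgh
    apply LinearMap.ext
    intro w
    apply e.injective
    rw [← hρ3, ← hρ3, h1]
  · intro g w
    exact hρ3 g w

/-! ### The action of the symmetric group -/

open Cfsg.Agent.Lib.SymF2

/-- permutation action on vectors -/
def act {n : ℕ} (π : Equiv.Perm (Fin n)) : (Fin n → ZMod 2) →ₗ[ZMod 2] (Fin n → ZMod 2) :=
  LinearMap.funLeft (ZMod 2) (ZMod 2) (π⁻¹ : Equiv.Perm (Fin n))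

theorem act_apply {n : ℕ} (π : Equiv.Perm (Fin n)) (x : Fin n → ZMod 2) (i : Fin n) : act π x i = x (π⁻¹ i) := rfl

theorem act_mem_E {n : ℕ} (π : Equiv.Perm (Fin n)) (x : Fin n → ZMod 2) (hx : x ∈ E n) : act π x ∈ E n := by
  rw [mem_E] at hx ⊢
  rw [← hx]
  exact Equiv.sum_comp (π⁻¹ : Equiv.Perm (Fin n)) x

theorem q_act {n : ℕ} (π : Equiv.Perm (Fin n)) (x : Fin n → ZMod 2) : q (act π x) = q x := by
  unfold q
  congr 2
  exact Equiv.sum_comp (π⁻¹ : Equiv.Perm (Fin n)) (fun i => (x i).val)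

/-- the action on even vectors -/
def actE {n : ℕ} (π : Equiv.Perm (Fin n)) : E n →ₗ[ZMod 2] E n := (act π).restrict (act_mem_E π)

/-- the all-one vector spans `R` (for `n` even) -/
def R (n : ℕ) : Submodule (ZMod 2) (E n) where
  carrier := {x | ∀ i j, (x : Fin n → ZMod 2) i = (x : Fin n → ZMod 2) j}
  add_mem' := by
    intro a b ha hb i j
    show (a : Fin n → ZMod 2) i + (b : Fin n → ZMod 2) i = (a : Fin n → ZMod 2) j + (b : Fin n → ZMod 2) j
    rw [ha i j, hb i j]
  zero_mem' := fun i j => rfl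
  smul_mem' := by
    intro c a ha i j
    show c * (a : Fin n → ZMod 2) i = c * (a : Fin n → ZMod 2) j
    rw [ha i j]

theorem actE_mem_R {n : ℕ} (π : Equiv.Perm (Fin n)) : R n ≤ (R n).comap (actE π) := by
  intro x hx i j
  exact hx _ _

/-- the homomorphism from the symmetric group -/
def rho (n : ℕ) : Equiv.Perm (Fin n) →* Module.End (ZMod 2) (E n ⧸ R n) where
  toFun π := Submodule.mapQ (R n) (R n) (actE π) (actE_mem_R π)
  map_one' := by
    apply LinearMap.ext
    intro v
    obtain ⟨x, rfl⟩ := Submodule.Quotient.mk_surjective _ v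
    rfl
  map_mul' π σ := by
    apply LinearMap.ext
    intro v
    obtain ⟨x, rfl⟩ := Submodule.Quotient.mk_surjective _ v
    rfl

theorem rho_mk {n : ℕ} (π : Equiv.Perm (Fin n)) (x : E n) :
    rho n π (Submodule.Quotient.mk x) = Submodule.Quotient.mk (actE π x) := rfl

theorem rho_injective {n : ℕ} (hn : 5 ≤ n) : Function.Injective (rho n) := by
  rw [injective_iff_map_eq_one]
  intro π hπ
  by_contra hne
  obtain ⟨a, ha⟩ : ∃ a, π a ≠ a := by
    by_contra hcon
    push Not at hcon
    exact hne (Equiv.ext hcon)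
  -- pick `b` different from `a`, `π a`, `π⁻¹ a`... and look at `{a, b}`
  have key : ∀ x : E n, ∀ i j, (x : Fin n → ZMod 2) (π⁻¹ i) - (x : Fin n → ZMod 2) i = (x : Fin n → ZMod 2) (π⁻¹ j) - (x : Fin n → ZMod 2) j := by
    intro x i j
    have h1 := congrArg (fun g => g (Submodule.Quotient.mk x)) hπ
    simp only [rho_mk, Module.End.one_apply] at h1
    rw [Submodule.Quotient.eq] at h1
    exact h1 i j
  -- `b ∉ {a, π a}`, `c ∉ {a, b, π a, π b}`
  obtain ⟨b, hb⟩ : ∃ b, b ∉ ({a, π a} : Finset (Fin n)) := by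
    by_contra hcon
    push Not at hcon
    have h1 : (Finset.univ : Finset (Fin n)) ⊆ {a, π a} := fun x _ => hcon x
    have h2 := Finset.card_le_card h1
    rw [Finset.card_univ, Fintype.card_fin] at h2
    have h3 := Finset.card_le_two (a := a) (b := π a)
    omega
  obtain ⟨c, hc⟩ : ∃ c, c ∉ ({a, b, π a, π b} : Finset (Fin n)) := by
    by_contra hcon
    push Not at hcon
    have h1 : (Finset.univ : Finset (Fin n)) ⊆ {a, b, π a, π b} := fun x _ => hcon x
    have h2 := Finset.card_le_card h1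
    rw [Finset.card_univ, Fintype.card_fin] at h2
    have h3 := Finset.card_le_four (a := a) (b := b) (c := π a) (d := π b)
    omega
  simp only [Finset.mem_insert, Finset.mem_singleton, not_or] at hb hc
  let x : Fin n → ZMod 2 := Pi.single a 1 + Pi.single b 1
  have hx : x ∈ E n := by
    rw [mem_E]
    simp only [x, Pi.add_apply, Finset.sum_add_distrib, Finset.sum_pi_single']
    simp
    rfl
  have h1 := key ⟨x, hx⟩ (π a) c
  have e1 : x (π⁻¹ (π a)) = 1 := by
    have : π⁻¹ (π a) = a := by simp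
    rw [this]
    simp [x, Pi.single_apply, Ne.symm hb.1]
  have e2 : x (π a) = 0 := by
    simp [x, Pi.single_apply, ha, Ne.symm hb.2]
  have e3 : x (π⁻¹ c) = 0 := by
    have h2 : π⁻¹ c ≠ a := by
      intro h
      apply hc.2.2.1
      rw [← h]; simp
    have h3 : π⁻¹ c ≠ b := by
      intro h
      apply hc.2.2.2
      rw [← h]; simp
    show (Pi.single a 1 : Fin n → ZMod 2) (π⁻¹ c) + (Pi.single b 1 : Fin n → ZMod 2) (π⁻¹ c) = 0
    rw [Pi.single_eq_of_ne h2, Pi.single_eq_of_ne h3, add_zero]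
  have e4 : x c = 0 := by
    simp [x, Pi.single_apply, hc.1, hc.2.1]
  simp only [e1, e2, e3, e4] at h1
  exact absurd h1 (by decide)

/-- Main construction: `Sym(4k+4)` acting on a non-degenerate quadratic space of dimension `4k+2` with Gauss sum
of sign `(-1)^(k+1)`. -/
theorem main (k : ℕ) : ∃ (qW : (E (4 * k + 4) ⧸ R (4 * k + 4)) → ZMod 2) (fW : (E (4 * k + 4) ⧸ R (4 * k + 4)) → (E (4 * k + 4) ⧸ R (4 * k + 4)) → ZMod 2),
    IsQ qW fW ∧ (∀ u, (∀ v, fW u v = 0) → u = 0) ∧ finrank (ZMod 2) (E (4 * k + 4) ⧸ R (4 * k + 4)) = 2 * (2 * k + 1) ∧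
    (∀ [Fintype (E (4 * k + 4) ⧸ R (4 * k + 4))], 2 * IsQ.S qW = (-4) ^ (k + 1)) ∧
    ∀ π w, qW (rho (4 * k + 4) π w) = qW w := by
  classical
  set n := 4 * k + 4 with hn
  have hnpos : 0 < n := by omega
  have hsum_const : ∀ c : ZMod 2, ∑ _i : Fin n, c = 0 := by
    intro c
    rw [Finset.sum_const, Finset.card_univ, Fintype.card_fin, nsmul_eq_mul, hn]
    have : ((4 * k + 4 : ℕ) : ZMod 2) = 0 := by
      rw [ZMod.natCast_eq_zero_iff]
      omega
    rw [this, zero_mul]
  -- restriction to even vectors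
  have hE : IsQ (fun x : E n => q (x : Fin n → ZMod 2)) (fun x y : E n => f (x : Fin n → ZMod 2) (y : Fin n → ZMod 2)) :=
    { pol := fun x y => (isQ n).pol x y
      add_left := fun x y z => (isQ n).add_left x y z }
  have hconst : ∀ r ∈ R n, ∃ c : ZMod 2, (r : Fin n → ZMod 2) = fun _ => c := by
    intro r hr
    exact ⟨(r : Fin n → ZMod 2) ⟨0, hnpos⟩, funext fun i => hr i _⟩
  have hqR : ∀ r ∈ R n, q (r : Fin n → ZMod 2) = 0 := by
    intro r hr
    obtain ⟨c, hc⟩ := hconst r hr
    rw [hc]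
    rcases two_cases c with rfl | rfl
    · simp [q, N]
    · have h1 : N (fun _ : Fin n => (1 : ZMod 2)) = 4 * (k + 1) := by
        have : (1 : ZMod 2).val = 1 := rfl
        simp [N, this, hn]
        ring
      rw [q, h1, Nat.choose_two_right]
      rw [ZMod.natCast_eq_zero_iff]
      have : 4 * (k + 1) * (4 * (k + 1) - 1) = 2 * (2 * ((k + 1) * (4 * (k + 1) - 1))) := by ring
      rw [this, Nat.mul_div_cancel_left _ (by norm_num)]
      exact Dvd.intro _ rfl
  have hfR : ∀ r ∈ R n, ∀ v : E n, f (r : Fin n → ZMod 2) (v : Fin n → ZMod 2) = 0 := by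
    intro r hr v
    obtain ⟨c, hc⟩ := hconst r hr
    have hv := (mem_E _).mp v.2
    rw [hc]
    simp only [f, ← Finset.mul_sum, hv, mul_zero, add_zero]
  refine ⟨qbar (fun x : E n => q (x : Fin n → ZMod 2)) (R n), fbar (fun x y : E n => f (x : Fin n → ZMod 2) (y : Fin n → ZMod 2)) (R n),
    isQ_bar hE (R n) hqR hfR, ?_, ?_, ?_, ?_⟩
  · -- non-degeneracy
    intro u hu
    obtain ⟨x, rfl⟩ := Submodule.Quotient.mk_surjective _ u
    rw [Submodule.Quotient.mk_eq_zero]
    intro i j
    by_cases hij : i = j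
    · rw [hij]
    · have hy : (Pi.single i 1 + Pi.single j 1 : Fin n → ZMod 2) ∈ E n := by
        rw [mem_E]
        simp only [Pi.add_apply, Finset.sum_add_distrib, Finset.sum_pi_single']
        simp
        rfl
      have h1 := hu (Submodule.Quotient.mk ⟨_, hy⟩)
      rw [fbar_mk hE (R n) hfR] at h1
      simp only [f] at h1
      rw [(mem_E _).mp x.2, zero_mul, zero_add] at h1
      simp only [Pi.add_apply, mul_add, Finset.sum_add_distrib] at h1
      simp only [Pi.single_apply, mul_ite, mul_one, mul_zero, Finset.sum_ite_eq', Finset.mem_univ, if_true] at h1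
      have h2 := add_self ((x : Fin n → ZMod 2) j)
      linear_combination h1 - h2
  · -- dimension
    have h1 := Submodule.finrank_quotient_add_finrank (R n)
    have h2 : finrank (ZMod 2) (E n) = 4 * k + 3 := by
      have : n = (4 * k + 3) + 1 := by omega
      rw [this]
      exact finrank_E (4 * k + 3)
    have h3 : finrank (ZMod 2) (R n) = 1 := by
      have hone : (fun _ => 1 : Fin n → ZMod 2) ∈ E n := by
        rw [mem_E]; exact hsum_const 1
      rw [finrank_eq_one_iff']
      refine ⟨⟨⟨fun _ => 1, hone⟩, fun i j => rfl⟩, ?_, ?_⟩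
      · intro h
        have h1 := congrArg (fun z : R n => ((z : E n) : Fin n → ZMod 2) ⟨0, hnpos⟩) h
        exact one_ne_zero h1
      · intro r
        obtain ⟨c, hc⟩ := hconst r r.2
        refine ⟨c, ?_⟩
        apply Subtype.ext
        apply Subtype.ext
        rw [hc]
        funext i
        show c * 1 = c
        rw [mul_one]
    omega
  · intro _
    have : Fintype (E n) := Fintype.ofFinite _
    have h1 := S_bar hE (R n) hqR hfR
    rw [S_E n] at h1
    have h2 : Nat.card (R n) = 2 := by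
      have h3 : finrank (ZMod 2) (R n) = 1 := by
        have hone : (fun _ => 1 : Fin n → ZMod 2) ∈ E n := by
          rw [mem_E]; exact hsum_const 1
        rw [finrank_eq_one_iff']
        refine ⟨⟨⟨fun _ => 1, hone⟩, fun i j => rfl⟩, ?_, ?_⟩
        · intro h
          have h1 := congrArg (fun z : R n => ((z : E n) : Fin n → ZMod 2) ⟨0, hnpos⟩) h
          exact one_ne_zero h1
        · intro r
          obtain ⟨c, hc⟩ := hconst r r.2
          refine ⟨c, ?_⟩
          apply Subtype.ext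
          apply Subtype.ext
          rw [hc]
          funext i
          show c * 1 = c
          rw [mul_one]
      rw [Module.natCard_eq_pow_finrank (K := ZMod 2), h3]
      simp
    rw [h2] at h1
    have h4 : A n = (-4) ^ (k + 1) := by
      have : n = 4 * (k + 1) := by omega
      rw [this, A_four_mul]
    rw [← h4, h1]
    push_cast
    rfl
  · intro π w
    obtain ⟨x, rfl⟩ := Submodule.Quotient.mk_surjective _ w
    rw [rho_mk, qbar_mk hE (R n) hqR hfR, qbar_mk hE (R n) hqR hfR]
    exact q_act π x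

end Cfsg.Agent.Lib.SymF2Hom
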