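import Cfsg.Agent.Lib.JTw7
import Cfsg.Agent.S0824
import Mathlib

/-!
# Groups of Hall–Janko type: exclusion of the small case, and the hypotheses
-/

set_option autoImplicit false

namespace Cfsg.Agent.Lib.JTw

open Cfsg Cfsg.Agent.Lib.LargeExtra Setup

section a5

theorem a5_cent5 : ∀ a : alternatingGroup (Fin 5), a ≠ 1 → a ^ 5 = 1 →
    (Finset.univ.filter (fun c => c * a = a * c)).card = 5 := by
  decide +kernel

theorem a5_card_cent5 {a : alternatingGroup (Fin 5)} (h1 : a ≠ 1) (h2 : a ^ 5 = 1) :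
    Nat.card (Subgroup.centralizer ({a} : Set (alternatingGroup (Fin 5)))) = 5 := by
  classical
  refine Eq.trans ?_ (a5_cent5 a h1 h2)
  rw [card_eq_ncard, ← Set.ncard_coe_finset]
  congr 1
  ext c
  rw [SetLike.mem_coe, mem_centralizer_one]
  simp

end a5

theorem Base.five_cent {G : Type*} [Group G] [Finite G] {z : G} {Q : Subgroup G} (h : Base z Q) {π : G}
    (hπ : π * z = z * π) (h5 : orderOf π = 5) :
    Nat.card ↥(Subgroup.centralizer ({π} : Set G) ⊓ Subgroup.centralizer ({z} : Set G)) = 10 := by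
  obtain ⟨φ, hφs, hφk⟩ := h.ex
  let H : Subgroup G := Subgroup.centralizer ({π} : Set G) ⊓ Subgroup.centralizer ({z} : Set G)
  have hπC : π ∈ Subgroup.centralizer ({z} : Set G) := mem_centralizer_one.2 hπ
  have hπQ : π ∉ Q := by
    intro hq
    obtain ⟨k, hk⟩ := h.pre.isP ⟨π, hq⟩
    have hk' : π ^ 2 ^ k = 1 := by simpa using congrArg Subtype.val hk
    have h3 := orderOf_dvd_of_pow_eq_one hk'
    rw [h5] at h3
    have h6 := (Nat.Prime.dvd_of_dvd_pow (by norm_num) h3)
    revert h6; decide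
  have hφ1 : φ ⟨π, hπC⟩ ≠ 1 := fun h1 => hπQ ((hφk _).1 h1)
  have hφ5 : φ ⟨π, hπC⟩ ^ 5 = 1 := by
    rw [← map_pow, ← map_one φ]
    congr 1
    apply Subtype.ext
    show π ^ 5 = 1
    rw [← h5]; exact pow_orderOf_eq_one π
  let ψ : H →* alternatingGroup (Fin 5) := φ.comp (Subgroup.inclusion (inf_le_right : H ≤ _))
  have hr : ψ.range ≤ Subgroup.centralizer ({φ ⟨π, hπC⟩} : Set (alternatingGroup (Fin 5))) := by
    rintro _ ⟨⟨c, hc⟩, rfl⟩
    rw [mem_centralizer_one]
    show φ ⟨c, hc.2⟩ * φ ⟨π, hπC⟩ = φ ⟨π, hπC⟩ * φ ⟨c, hc.2⟩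
    rw [← map_mul, ← map_mul]
    congr 1
    exact Subtype.ext (mem_centralizer_one.1 hc.1)
  have hk : ψ.ker = (Subgroup.zpowers z).subgroupOf H := by
    ext ⟨c, hc⟩
    rw [MonoidHom.mem_ker, Subgroup.mem_subgroupOf, mem_zpowers_of_sq h.pre.sq]
    show φ ⟨c, hc.2⟩ = 1 ↔ _
    rw [hφk]
    constructor
    · intro h1; exact h.five_fix hπ h5 c h1 (mem_centralizer_one.1 hc.1).symm
    · intro h1
      have h1 : c = 1 ∨ c = z := h1
      show c ∈ Q
      rcases h1 with h1 | h1
      · rw [h1]; exact one_mem _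
      · rw [h1]; exact h.pre.mem
  have hk2 : Nat.card ψ.ker = 2 := by
    rw [hk, SubgroupTools.card_subgroupOf_of_le, Nat.card_zpowers, h.pre.orderOf]
    rw [Subgroup.zpowers_le]
    exact ⟨mem_centralizer_one.2 hπ.symm, mem_centralizer_one.2 rfl⟩
  have h1 := ψ.ker.card_mul_index
  rw [hk2, Subgroup.index_ker] at h1
  have h2 := Subgroup.card_dvd_of_le hr
  rw [a5_card_cent5 hφ1 hφ5] at h2
  have h3 : 5 ∣ Nat.card H := by
    rw [← h5]
    exact Subgroup.orderOf_dvd_natCard H ⟨mem_centralizer_one.2 rfl, hπC⟩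
  rw [← h1] at h3
  have h4 : 5 ∣ Nat.card ψ.range := (Nat.Coprime.dvd_of_dvd_mul_left (by norm_num) h3)
  have h5' := Nat.dvd_antisymm h2 h4
  rw [h5'] at h1
  exact h1.symm

namespace KK

variable {G : Type*} [Group G] [Finite G] {S : Setup G} {u w t : G} {K : Subgroup G}

open Four TS

theorem not_small (k : KK S u w t K) (h48 : Nat.card (Subgroup.centralizer ({t} : Set G)) = 48)
    (hG : Nat.card G = 51840) : False := by
  have : Fact (Nat.Prime 5) := ⟨by norm_num⟩
  have : Fact (Nat.Prime 2) := ⟨by norm_num⟩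
  obtain ⟨π, hπ, h5⟩ := k.f.hu.base.exists_five
  let H : Subgroup G := Subgroup.centralizer ({π} : Set G)
  have hmemH : ∀ y : G, y ∈ H ↔ y * π = π * y := fun y => mem_centralizer_one
  -- the class of `u`
  let Z : Set G := {y | S.Z y}
  have hZ : Z.ncard = 27 := by
    have h1 := InvAct.card_conj_orbit (⊤ : Subgroup G) u
    have h2 : {v : G | ∃ k ∈ (⊤ : Subgroup G), k * u * k⁻¹ = v} = Z := by
      ext y
      constructor
      · rintro ⟨g, _, rfl⟩
        exact S.Z_conj k.f.hu g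
      · intro hy
        obtain ⟨g, hg⟩ := isConj_iff.1 (k.f.hu.symm.trans hy)
        exact ⟨g, Subgroup.mem_top _, hg⟩
    rw [h2, Subgroup.card_top, top_inf_eq, k.f.hu.base.card_cent, hG] at h1
    omega
  have m5 := fix_mod (p := 5) (g := π) (by rw [← h5]; exact pow_orderOf_eq_one π) Z
    (fun a ha => S.Z_conj ha π)
  rw [hZ] at m5
  set F : Set G := {a | a ∈ Z ∧ π * a = a * π} with hF
  have hFH : ∀ y ∈ F, Nat.card ↥(H ⊓ Subgroup.centralizer ({y} : Set G)) = 10 := by
    rintro y ⟨hy, hy2⟩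
    exact Base.five_cent (Setup.Z.base hy) hy2 h5
  have huF : u ∈ F := ⟨k.f.hu, hπ⟩
  -- involutions of `H`
  have hinv : ∀ y ∈ H, y * y = 1 → y ≠ 1 → y ∈ F := by
    intro y hy hy2 hy1
    refine ⟨?_, ((hmemH y).1 hy).symm⟩
    rcases k.f.inv_type k.ht hy2 hy1 with h1 | h1
    · exact h1
    · exfalso
      obtain ⟨g, hg⟩ := isConj_iff.1 h1
      have h2 : (g⁻¹ * π * g) * t = t * (g⁻¹ * π * g) := by
        rw [← hg, hmemH] at hy
        have := congrArg (fun s => g⁻¹ * s * g) hy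
        simpa [mul_assoc] using this.symm
      have h3 : orderOf (g⁻¹ * π * g) = 5 := by
        have : g⁻¹ * π * g = MulAut.conj g⁻¹ π := by simp
        rw [this, MulEquiv.orderOf_eq, h5]
      have h4 : 5 ∣ 48 := by
        rw [← h48, ← h3]
        exact Subgroup.orderOf_dvd_natCard _ (mem_centralizer_one.2 h2)
      revert h4; decide
  -- Sylow 2-subgroups of `H` have order 2
  have hsyl : ∀ P : Sylow 2 H, Nat.card P = 2 := by
    intro P
    obtain ⟨n, hn⟩ := IsPGroup.iff_card.1 P.2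
    have hn1 : 2 ∣ Nat.card P := by
      apply Sylow.dvd_card_of_dvd_card
      have : orderOf u = 2 := InvAct.orderOf_two_iff.2 ⟨k.f.hu2, k.f.hu1⟩
      rw [← this]
      exact Subgroup.orderOf_dvd_natCard H ((hmemH u).2 hπ.symm)
    have hnt : Nontrivial (P : Subgroup H) := by
      rw [← Finite.one_lt_card_iff_nontrivial]
      exact lt_of_lt_of_le (by norm_num) (Nat.le_of_dvd Nat.card_pos hn1)
    have hnt2 := IsPGroup.center_nontrivial P.2
    have hcp : IsPGroup 2 (Subgroup.center (P : Subgroup H)) := P.2.to_subgroup _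
    obtain ⟨m, hm⟩ := IsPGroup.iff_card.1 hcp
    have hm0 : 2 ∣ Nat.card (Subgroup.center (P : Subgroup H)) := by
      rw [hm]
      have : m ≠ 0 := by
        rintro rfl
        rw [pow_zero] at hm
        have := Finite.one_lt_card (α := Subgroup.center (P : Subgroup H))
        omega
      exact dvd_pow_self 2 this
    obtain ⟨c, hc⟩ := exists_prime_orderOf_dvd_card' (G := Subgroup.center (P : Subgroup H)) 2 hm0
    obtain ⟨hc2, hc1⟩ := InvAct.orderOf_two_iff.1 hc
    have hcF : (((c : (P : Subgroup H)) : H) : G) ∈ F := by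
      apply hinv _ ((c : (P : Subgroup H)) : H).2
      · exact congrArg (fun s : Subgroup.center (P : Subgroup H) => (((s : (P : Subgroup H)) : H) : G)) hc2
      · intro h; apply hc1
        apply Subtype.ext; apply Subtype.ext; apply Subtype.ext; exact h
    have h1 := hFH _ hcF
    have h2 : Nat.card P ∣ 10 := by
      rw [← h1]
      have h3 : (P : Subgroup H).map H.subtype ≤ H ⊓ Subgroup.centralizer ({(((c : (P : Subgroup H)) : H) : G)} : Set G) := by
        rintro _ ⟨p, hp, rfl⟩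
        refine ⟨p.2, mem_centralizer_one.2 ?_⟩
        have h4 := Subgroup.mem_center_iff.1 c.2 ⟨p, hp⟩
        exact congrArg (fun s : (P : Subgroup H) => ((s : H) : G)) h4
      have h4 := Subgroup.card_dvd_of_le h3
      rwa [Subgroup.card_map_of_injective (Subgroup.subtype_injective _)] at h4
    have h3 : Nat.card P ∣ 2 := by
      have h4 : Nat.Coprime (Nat.card P) 5 := by
        rw [hn]; exact Nat.Coprime.pow_left _ (by norm_num)
      exact h4.dvd_of_dvd_mul_right (show Nat.card P ∣ 2 * 5 by simpa using h2)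
    exact Nat.dvd_antisymm h3 hn1
  -- `F` is one class in `H`
  have hFc : {v : G | ∃ g ∈ H, g * u * g⁻¹ = v} = F := by
    ext y
    constructor
    · rintro ⟨g, hg, rfl⟩
      refine ⟨S.Z_conj k.f.hu g, ?_⟩
      have h1 : g * π * g⁻¹ = π := cj_eq_self.2 ((hmemH g).1 hg)
      calc π * (g * u * g⁻¹) = (g * π * g⁻¹) * (g * u * g⁻¹) := by rw [h1]
        _ = (g * u * g⁻¹) * (g * π * g⁻¹) := by rw [← cj_mul, ← cj_mul, hπ]
        _ = (g * u * g⁻¹) * π := by rw [h1]
    · intro hy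
      have hex : ∀ y ∈ F, ∃ P : Sylow 2 H, ∃ hy : y ∈ H, (⟨y, hy⟩ : H) ∈ P := by
        rintro y ⟨hyZ, hyπ⟩
        have hyH : y ∈ H := (hmemH y).2 hyπ.symm
        have hp : IsPGroup 2 (Subgroup.zpowers (⟨y, hyH⟩ : H)) := by
          apply IsPGroup.of_card (n := 1)
          rw [Nat.card_zpowers, pow_one]
          exact InvAct.orderOf_two_iff.2 ⟨Subtype.ext (Setup.Z.base hyZ).pre.sq, fun h => (Setup.Z.base hyZ).pre.ne (congrArg Subtype.val h)⟩
        obtain ⟨P, hP⟩ := hp.exists_le_sylow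
        exact ⟨P, hyH, hP (Subgroup.mem_zpowers _)⟩
      obtain ⟨P, hyH, hyP⟩ := hex y hy
      obtain ⟨P', huH, huP⟩ := hex u huF
      obtain ⟨g, hg⟩ := MulAction.exists_smul_eq H P' P
      have h1 : g * ⟨u, huH⟩ * g⁻¹ ∈ P := by
        rw [← hg]
        exact ⟨_, huP, rfl⟩
      have h2 := hsyl P
      have hset : ((P : Subgroup H) : Set H) = {1, ⟨y, hyH⟩} := by
        symm
        apply Set.eq_of_subset_of_ncard_le
        · rintro x (rfl | rfl)
          · exact one_mem _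
          · exact hyP
        · rw [← card_eq_ncard, h2, Set.ncard_pair]
          intro h; exact (Setup.Z.base hy.1).pre.ne (congrArg Subtype.val h).symm
        · exact Set.toFinite _
      have h3 : g * ⟨u, huH⟩ * g⁻¹ ∈ ({1, ⟨y, hyH⟩} : Set H) := by rw [← hset]; exact h1
      rcases h3 with h4 | h4
      · exfalso
        apply k.f.hu1
        have := cj_eq_one.1 h4
        exact congrArg Subtype.val this
      · exact ⟨g, g.2, congrArg Subtype.val h4⟩
  have hcard := InvAct.card_conj_orbit H u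
  rw [hFc, hFH u huF] at hcard
  -- arithmetic
  have h4 : ¬ 4 ∣ Nat.card H := by
    intro h
    obtain ⟨P⟩ : Nonempty (Sylow 2 H) := inferInstance
    have h1 : 2 ^ 2 ∣ Nat.card P := Sylow.pow_dvd_card_of_pow_dvd_card P (by simpa using h)
    rw [hsyl P] at h1
    revert h1; decide
  have hdiv : Nat.card H ∣ 51840 := by rw [← hG]; exact Subgroup.card_subgroup_dvd_card H
  have hle : F.ncard ≤ 27 := by
    rw [← hZ]; exact Set.ncard_le_ncard (fun a ha => ha.1) (Set.toFinite _)
  rw [hcard] at hdiv h4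
  have hF27 : F.ncard = 27 := by
    rw [Nat.ModEq] at m5
    interval_cases h : F.ncard <;> first | rfl | omega
  have hFZ : F = Z := Set.eq_of_subset_of_ncard_le (fun a ha => ha.1) (by rw [hZ, hF27]) (Set.toFinite _)
  have hwF : w ∈ F := by rw [hFZ]; exact k.f.hw
  rcases k.f.hu.base.five_fix hπ h5 w k.f.hmem hwF.2 with h1 | h1
  · exact k.f.hw1 h1
  · exact k.f.hwu h1

theorem main (k : KK S u w t K) : Nat.card (Subgroup.centralizer ({t} : Set G)) = 240 ∧ Nat.card G = 604800 ∧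
    Nonempty (K ≃* alternatingGroup (Fin 5)) := by
  rcases k.order_cases with ⟨h1, h2⟩ | h
  · exact absurd h2 (fun h => k.not_small h1 h)
  · exact h

end KK

/-! ### the hypotheses of the statements -/

theorem omega_equiv : Nonempty (Omega (ZMod 2) (quadFormMinus 1 (ZMod 2) 1 1) ≃* alternatingGroup (Fin 5)) := by
  obtain ⟨e⟩ := S0824.result (F := ZMod 2) (by simp)
  have h1 : (commutator ↥(isometryGroup (ZMod 2) (quadFormMinus 1 (ZMod 2) 1 1))).map e.toMonoidHom = alternatingGroup (Fin 5) := by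
    rw [← alternatingGroup.commutator_perm_eq (by simp), commutator_def, commutator_def, Subgroup.map_commutator,
      ← MonoidHom.range_eq_map, MonoidHom.range_eq_top.2 e.surjective]
  exact ⟨(e.subgroupMap _).trans (MulEquiv.subgroupCongr h1)⟩

theorem exists_setup {G : Type*} [Group G] [Finite G] (z : G) (hz : orderOf z = 2)
    (Q : Subgroup (Subgroup.centralizer ({z} : Set G))) [Q.Normal]
    (hF : Cfsg.generalizedFittingSubgroup (Subgroup.centralizer ({z} : Set G)) = Q)
    (hQ : Cfsg.IsExtraspecial 2 Q) (hcard : Nat.card Q = 2 ^ 5)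
    (e : (Subgroup.centralizer ({z} : Set G)) ⧸ Q ≃* Cfsg.Omega (ZMod 2) (Cfsg.quadFormMinus 1 (ZMod 2) 1 1))
    (hnwc : ∃ g : G, (∃ hq : g * z * g⁻¹ ∈ Subgroup.centralizer ({z} : Set G),
      (⟨g * z * g⁻¹, hq⟩ : Subgroup.centralizer ({z} : Set G)) ∈ Q) ∧ g * z * g⁻¹ ≠ z) :
    ∃ S : Setup G, S.z = z := by
  obtain ⟨e'⟩ := omega_equiv
  obtain ⟨g, ⟨hq, hqQ⟩, hne⟩ := hnwc
  have hb : Base z (Q.map (Subgroup.centralizer ({z} : Set G)).subtype) := by
    refine ⟨preLarge_of_setting' hz hF hQ, ?_, (e.trans e').toMonoidHom.comp (QuotientGroup.mk' Q), ?_, ?_⟩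
    · rw [Subgroup.card_map_of_injective (Subgroup.subtype_injective _), hcard]; norm_num
    · exact (e.trans e').surjective.comp (QuotientGroup.mk'_surjective Q)
    · intro x
      have h1 : ((e.trans e').toMonoidHom.comp (QuotientGroup.mk' Q)) x = (e.trans e') (QuotientGroup.mk x) := rfl
      rw [h1, EmbeddingLike.map_eq_one_iff, QuotientGroup.eq_one_iff]
      constructor
      · intro hx; exact ⟨x, hx, rfl⟩
      · rintro ⟨y, hy, hyx⟩
        have : y = x := Subtype.ext hyx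
        rwa [← this]
  exact ⟨⟨z, _, hb, g * z * g⁻¹, ⟨_, hqQ, rfl⟩, hne, isConj_iff.2 ⟨g, rfl⟩⟩, rfl⟩

theorem exists_KK {G : Type*} [Group G] [Finite G] (S : Setup G)
    (hcl : ∃ x y : G, orderOf x = 2 ∧ orderOf y = 2 ∧ ¬ IsConj x y) :
    ∃ (t : G) (K : Subgroup G), KK S S.z S.v t K := by
  have f := S.exists_four
  obtain ⟨t, ht⟩ := f.exists_T
  obtain ⟨K, hK⟩ := TS.exists_K ⟨f, ht, f.not_Z ht hcl⟩
  exact ⟨t, K, hK⟩

theorem order {G : Type*} [Group G] [Finite G] (S : Setup G)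
    (hcl : ∃ x y : G, orderOf x = 2 ∧ orderOf y = 2 ∧ ¬ IsConj x y) : Nat.card G = 604800 := by
  obtain ⟨t, K, k⟩ := exists_KK S hcl
  exact k.main.2.1

end Cfsg.Agent.Lib.JTw
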