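import Cfsg.Agent.Lib.JTw8
import Cfsg.Agent.Lib.AutAlt
import Cfsg.Agent.Lib.H10Nse3
import Mathlib

/-!
# Groups of Hall–Janko type: the structure of the centralizer of the second involution
-/

set_option autoImplicit false

namespace Cfsg.Agent.Lib.JTw

open Cfsg Cfsg.Agent.Lib.LargeExtra Setup

section gen

variable {G : Type*} [Group G]

/-- the action of a group normalizing `K ≅ A_5`. -/
theorem exists_theta {H K : Subgroup G} (hKH : K ≤ H) (hn : ∀ h ∈ H, ∀ k ∈ K, h * k * h⁻¹ ∈ K)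
    (e : K ≃* alternatingGroup (Fin 5)) : ∃ θ : H →* Equiv.Perm (Fin 5),
    (∀ h : H, θ h = 1 ↔ ∀ k ∈ K, (h : G) * k = k * h) ∧ alternatingGroup (Fin 5) ≤ θ.range := by
  have hK'n : (K.subgroupOf H).Normal := by
    constructor
    intro n hn' g
    rw [Subgroup.mem_subgroupOf] at hn' ⊢
    exact hn g g.2 n hn'
  let e' : K.subgroupOf H ≃* alternatingGroup (Fin 5) := (Subgroup.subgroupOfEquivOfLe hKH).trans e
  have hb := AutAlt.bijective_conjNormal (α := Fin 5) (by decide) (by decide)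
  let β := MulEquiv.ofBijective (MulAut.conjNormal : Equiv.Perm (Fin 5) →* MulAut ↥(alternatingGroup (Fin 5))) hb
  let θ : H →* Equiv.Perm (Fin 5) := β.symm.toMonoidHom.comp ((MulAut.congr e').toMonoidHom.comp
    (MulAut.conjNormal : H →* MulAut (K.subgroupOf H)))
  have hθ : ∀ h : H, β (θ h) = MulAut.congr e' (MulAut.conjNormal h) := by
    intro h
    exact β.apply_symm_apply _
  refine ⟨θ, ?_, ?_⟩
  · intro h
    have h1 : θ h = 1 ↔ (MulAut.conjNormal h : MulAut (K.subgroupOf H)) = 1 := by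
      rw [← EmbeddingLike.map_eq_one_iff (f := β), hθ, EmbeddingLike.map_eq_one_iff]
    rw [h1]
    constructor
    · intro h2 k hk
      have h3 := DFunLike.congr_fun h2 (⟨⟨k, hKH hk⟩, hk⟩ : K.subgroupOf H)
      have h4 := congrArg (fun s : K.subgroupOf H => ((s : H) : G)) h3
      rw [MulAut.one_apply] at h4
      simp only [MulAut.conjNormal_apply] at h4
      exact mul_inv_eq_iff_eq_mul.1 h4
    · intro h2
      apply MulEquiv.ext
      intro k
      apply Subtype.ext
      apply Subtype.ext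
      rw [MulAut.one_apply, MulAut.conjNormal_apply]
      exact mul_inv_eq_iff_eq_mul.2 (h2 ((k : H) : G) k.2)
  · intro a ha
    refine ⟨((e'.symm ⟨a, ha⟩ : K.subgroupOf H) : H), ?_⟩
    apply β.injective
    rw [hθ]
    apply MulEquiv.ext
    intro b
    have h1 : (MulAut.conjNormal ((e'.symm ⟨a, ha⟩ : K.subgroupOf H) : H) : MulAut (K.subgroupOf H)) (e'.symm b) =
        (e'.symm ⟨a, ha⟩) * (e'.symm b) * (e'.symm ⟨a, ha⟩)⁻¹ := by
      apply Subtype.ext
      rw [MulAut.conjNormal_apply]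
      rfl
    show e' ((MulAut.conjNormal ((e'.symm ⟨a, ha⟩ : K.subgroupOf H) : H) : MulAut (K.subgroupOf H)) (e'.symm b)) = _
    rw [h1, map_mul, map_mul, map_inv, e'.apply_symm_apply, e'.apply_symm_apply]
    apply Subtype.ext
    show _ = ((MulAut.conjNormal a : MulAut (alternatingGroup (Fin 5))) b : Equiv.Perm (Fin 5))
    rw [MulAut.conjNormal_apply]
    rfl

variable [Finite G]

/-- `C_H(K)` has index 60 or 120 in `H`. -/
theorem index_cent {H K : Subgroup G} (hKH : K ≤ H) (hn : ∀ h ∈ H, ∀ k ∈ K, h * k * h⁻¹ ∈ K)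
    (e : K ≃* alternatingGroup (Fin 5)) :
    (Nat.card H = 60 * Nat.card ↥(Subgroup.centralizer (K : Set G) ⊓ H)) ∨
    ((Nat.card H = 120 * Nat.card ↥(Subgroup.centralizer (K : Set G) ⊓ H)) ∧
      ∃ θ : H →* Equiv.Perm (Fin 5), Function.Surjective θ) := by
  obtain ⟨θ, hθ, hA⟩ := exists_theta hKH hn e
  have hk : θ.ker = (Subgroup.centralizer (K : Set G) ⊓ H).subgroupOf H := by
    ext h
    rw [MonoidHom.mem_ker, hθ, Subgroup.mem_subgroupOf, Subgroup.mem_inf, Subgroup.mem_centralizer_iff]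
    constructor
    · intro h1; exact ⟨fun k hk => (h1 k hk).symm, h.2⟩
    · intro h1 k hk; exact (h1.1 k hk).symm
  have h1 := θ.ker.card_mul_index
  rw [Subgroup.index_ker, hk, SubgroupTools.card_subgroupOf_of_le inf_le_right] at h1
  have h2 := Subgroup.card_dvd_of_le hA
  rw [Base.card_alt5] at h2
  have h3 : Nat.card θ.range ∣ 120 := by
    have := Subgroup.card_subgroup_dvd_card θ.range
    rwa [Nat.card_eq_fintype_card (α := Equiv.Perm (Fin 5)), Fintype.card_perm, Fintype.card_fin] at this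
  obtain ⟨m, hm⟩ := h2
  rw [hm] at h3
  have h4 : m ∣ 2 := Nat.dvd_of_mul_dvd_mul_left (k := 60) (by norm_num) (by simpa using h3)
  rcases (Nat.dvd_prime Nat.prime_two).1 h4 with rfl | rfl
  · left; rw [← h1, hm]; ring
  · right
    refine ⟨by rw [← h1, hm]; ring, θ, ?_⟩
    rw [← MonoidHom.range_eq_top]
    apply Subgroup.eq_top_of_card_eq
    rw [hm, Nat.card_eq_fintype_card (α := Equiv.Perm (Fin 5)), Fintype.card_perm, Fintype.card_fin]
    rfl

/-- internal direct products -/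
theorem prod_equiv {C A B : Subgroup G} (hA : A ≤ C) (hB : B ≤ C) (hcomm : ∀ a ∈ A, ∀ b ∈ B, a * b = b * a)
    (hinf : ∀ x : G, x ∈ A → x ∈ B → x = 1) (hcard : Nat.card C = Nat.card A * Nat.card B) :
    Nonempty (C ≃* A × B) := by
  have hcomm' : ∀ (m : A) (n : B), Commute (Subgroup.inclusion hA m) (Subgroup.inclusion hB n) := fun m n =>
    Subtype.ext (hcomm m m.2 n n.2)
  let f : A × B →* C := MonoidHom.noncommCoprod (Subgroup.inclusion hA) (Subgroup.inclusion hB) hcomm'
  have hf : Function.Injective f := by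
    rw [injective_iff_map_eq_one]
    rintro ⟨a, b⟩ hab
    have h1 : (a : G) * b = 1 := congrArg Subtype.val hab
    have h2 : (a : G) = (b : G)⁻¹ := eq_inv_of_mul_eq_one_left h1
    have h3 : (a : G) = 1 := hinf a a.2 (by rw [h2]; exact inv_mem b.2)
    have h4 : (b : G) = 1 := by rw [h3, one_mul] at h1; exact h1
    exact Prod.ext (Subtype.ext h3) (Subtype.ext h4)
  have hbij : Function.Bijective f := by
    rw [Nat.bijective_iff_injective_and_card]
    exact ⟨hf, by rw [Nat.card_prod, hcard]⟩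
  exact ⟨(MulEquiv.ofBijective f hbij).symm⟩

end gen

theorem exists_order_four : ∃ σ : Equiv.Perm (Fin 5), σ * σ ≠ 1 ∧ σ * σ * (σ * σ) = 1 := ⟨c[0, 1, 2, 3], by decide, by decide⟩

theorem klein_equiv {Y : Type*} [Group Y] (h4 : Nat.card Y = 4) (hexp : ∀ y : Y, y * y = 1) :
    Nonempty (Y ≃* Multiplicative (ZMod 2) × Multiplicative (ZMod 2)) := by
  have hfin : Finite Y := Nat.finite_of_card_ne_zero (by rw [h4]; norm_num)
  have k1 : IsKleinFour Y := by
    refine ⟨h4, ?_⟩
    have h1 : Monoid.exponent Y ∣ 2 := Monoid.exponent_dvd_of_forall_pow_eq_one (fun y => by rw [pow_two]; exact hexp y)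
    rcases (Nat.dvd_prime Nat.prime_two).1 h1 with h | h
    · exfalso
      have h2 := Monoid.exp_eq_one_iff.1 h
      have := Nat.card_of_subsingleton (1 : Y)
      omega
    · exact h
  have k2 : IsKleinFour (Multiplicative (ZMod 2) × Multiplicative (ZMod 2)) := by
    refine ⟨by rw [Nat.card_prod]; simp [Nat.card_eq_fintype_card], ?_⟩
    have h1 : Monoid.exponent (Multiplicative (ZMod 2) × Multiplicative (ZMod 2)) ∣ 2 :=
      Monoid.exponent_dvd_of_forall_pow_eq_one (by decide)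
    rcases (Nat.dvd_prime Nat.prime_two).1 h1 with h | h
    · exfalso
      have h2 := Monoid.exp_eq_one_iff.1 h
      have := h2.elim (Multiplicative.ofAdd 1, 1) 1
      revert this; decide
    · exact h
  exact IsKleinFour.nonempty_mulEquiv

namespace KK

variable {G : Type*} [Group G] [Finite G] {S : Setup G} {u w t : G} {K : Subgroup G}

open Four TS

/-- 2-elements of `C(t)` are involutions -/
theorem two_elt (k : KK S u w t K) {y : G} (hyt : y * t = t * y) {m : ℕ} (hy2 : y ^ 2 ^ m = 1) : y * y = 1 := by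
  have : Fact (Nat.Prime 2) := ⟨Nat.prime_two⟩
  have c := k.toTS
  have hXle : X u t ≤ Subgroup.centralizer ({t} : Set G) := inf_le_right
  set C := Subgroup.centralizer ({t} : Set G) with hC
  have h1 : Nat.card ((X u t).subgroupOf C) = 16 := by
    rw [SubgroupTools.card_subgroupOf_of_le hXle, c.card_X]
  have hp : IsPGroup 2 ((X u t).subgroupOf C) := IsPGroup.of_card (n := 4) (by rw [h1]; norm_num)
  have hi : ¬ 2 ∣ ((X u t).subgroupOf C).index := by
    intro h
    apply c.not_dvd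
    rw [← hC, ← ((X u t).subgroupOf C).card_mul_index, h1]
    obtain ⟨k, hk⟩ := h
    rw [hk]
    exact ⟨k, by ring⟩
  let P : Sylow 2 C := hp.toSylow hi
  have hP : (P : Subgroup C) = (X u t).subgroupOf C := IsPGroup.toSylow_coe hp hi
  have hy : IsPGroup 2 (Subgroup.zpowers (⟨y, mem_centralizer_one.2 hyt⟩ : C)) := by
    obtain ⟨n, _, hn⟩ := (Nat.dvd_prime_pow Nat.prime_two).1 (orderOf_dvd_of_pow_eq_one hy2)
    apply IsPGroup.of_card (n := n)
    rw [Nat.card_zpowers, ← hn, ← Subgroup.orderOf_coe]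
  obtain ⟨P', hP'⟩ := hy.exists_le_sylow
  obtain ⟨g, hg⟩ := MulAction.exists_smul_eq C P' P
  have h2 : g * ⟨y, mem_centralizer_one.2 hyt⟩ * g⁻¹ ∈ (P : Subgroup C) := by
    have : g * ⟨y, mem_centralizer_one.2 hyt⟩ * g⁻¹ ∈ P := by
      rw [← hg]
      exact ⟨_, hP' (Subgroup.mem_zpowers _), rfl⟩
    exact this
  rw [hP] at h2
  have h3 : (g : G) * y * (g : G)⁻¹ * ((g : G) * y * (g : G)⁻¹) = 1 := c.X_sq h2
  rw [cj_sq, cj_eq_one] at h3
  exact h3

/-- `Y = C_{C(t)}(K)` -/
def Y (K : Subgroup G) (t : G) : Subgroup G := Subgroup.centralizer (K : Set G) ⊓ Subgroup.centralizer ({t} : Set G)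

omit [Finite G] in
theorem mem_Y {y : G} : y ∈ Y K t ↔ (∀ x ∈ K, x * y = y * x) ∧ y * t = t * y := by
  rw [Y, Subgroup.mem_inf, mem_centralizer_one, Subgroup.mem_centralizer_iff]
  rfl

theorem Y_le_X (k : KK S u w t K) : Y K t ≤ X u t := by
  intro y hy
  rw [mem_Y] at hy
  exact mem_X.2 ⟨(hy.1 u (k.V_le (k.f.mem_V.2 (by tauto)))).symm, hy.2⟩

theorem card_Ct (k : KK S u w t K) : Nat.card (Subgroup.centralizer ({t} : Set G)) = 240 := k.main.1

theorem card_Y (k : KK S u w t K) : Nat.card (Y K t) = 4 := by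
  obtain ⟨e⟩ := k.main.2.2
  rcases index_cent k.le (fun h hh x hx => k.norm h (mem_centralizer_one.1 hh) x hx) e with h | ⟨h, θ, hθ⟩
  · rw [k.card_Ct] at h
    show Nat.card ↥(Subgroup.centralizer (K : Set G) ⊓ Subgroup.centralizer ({t} : Set G)) = 4
    omega
  · exfalso
    obtain ⟨σ, hσ2, hσ4⟩ := exists_order_four
    obtain ⟨g, hg⟩ := hθ σ
    -- 2-part of g
    obtain ⟨a, m, hm, ham⟩ := Nat.exists_eq_two_pow_mul_odd (orderOf_pos g).ne'
    have h1 : (g : G) ^ m * (g : G) ^ m = 1 := by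
      have hc : (g : G) * t = t * g := mem_centralizer_one.1 g.2
      apply k.two_elt (m := a)
      · exact (Commute.pow_left hc m)
      · have ho : orderOf (g : G) = orderOf g := Subgroup.orderOf_coe g
        rw [← pow_mul, mul_comm m, ← ham, ← ho]
        exact pow_orderOf_eq_one _
    have h2 : g ^ m * g ^ m = 1 := Subtype.ext h1
    have h3 : σ ^ m * σ ^ m = 1 := by rw [← hg, ← map_pow, ← map_mul, h2, map_one]
    obtain ⟨l, hl⟩ := hm
    apply hσ2
    have h4 : σ ^ m * σ ^ m = (σ * σ * (σ * σ)) ^ l * (σ * σ) := by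
      rw [← pow_add, hl]
      have : σ * σ * (σ * σ) = σ ^ 4 := by rw [pow_succ, pow_succ, pow_two]; group
      rw [this, ← pow_two, ← pow_mul, ← pow_add]; congr 1; ring
    rw [h4, hσ4, one_pow, one_mul] at h3
    exact h3

theorem a5_center : ∀ a : alternatingGroup (Fin 5), (∀ b : alternatingGroup (Fin 5), a * b = b * a) → a = 1 := by
  decide +kernel

theorem K_center (k : KK S u w t K) {x : G} (hx : x ∈ K) (h : ∀ y ∈ K, y * x = x * y) : x = 1 := by
  obtain ⟨e⟩ := k.main.2.2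
  have h1 := a5_center (e ⟨x, hx⟩) (fun b => by
    obtain ⟨y, rfl⟩ := e.surjective b
    rw [← map_mul, ← map_mul]
    congr 1
    exact Subtype.ext (h y y.2).symm)
  rw [EmbeddingLike.map_eq_one_iff] at h1
  exact congrArg Subtype.val h1

theorem card_K (k : KK S u w t K) : Nat.card K = 60 := by
  obtain ⟨e⟩ := k.main.2.2
  rw [Nat.card_congr e.toEquiv, Base.card_alt5]

theorem Y_le (K : Subgroup G) (t : G) : Y K t ≤ Subgroup.centralizer ({t} : Set G) := inf_le_right

theorem t_mem_Y (k : KK S u w t K) : t ∈ Y K t := mem_Y.2 ⟨fun _ hx => k.comm_t hx, rfl⟩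

theorem Y_sq (k : KK S u w t K) {y : G} (hy : y ∈ Y K t) : y * y = 1 := k.toTS.X_sq (k.Y_le_X hy)

theorem Y_comm (k : KK S u w t K) {x y : G} (hx : x ∈ Y K t) (hy : y ∈ Y K t) : x * y = y * x :=
  k.toTS.X_comm (k.Y_le_X hx) (k.Y_le_X hy)

theorem Y_inf (k : KK S u w t K) {x : G} (hx : x ∈ Y K t) (hK : x ∈ K) : x = 1 :=
  k.K_center hK (mem_Y.1 hx).1

theorem K_le_normalizer (K : Subgroup G) (t : G) : K ≤ Subgroup.normalizer ((Y K t : Subgroup G) : Set G) := by
  intro x hx
  apply Subgroup.mem_normalizer_fintype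
  intro y hy
  have h1 := (mem_Y.1 hy).1 x hx
  rw [h1, mul_inv_cancel_right]
  exact hy

theorem sup_eq (k : KK S u w t K) : Y K t ⊔ K = Subgroup.centralizer ({t} : Set G) := by
  have h1 := SubgroupTools.card_sup_mul_card_inf (K_le_normalizer K t)
  have h2 : Y K t ⊓ K = ⊥ := by
    rw [Subgroup.eq_bot_iff_forall]
    intro x hx
    exact k.Y_inf hx.1 hx.2
  rw [h2, Subgroup.card_bot, mul_one, k.card_Y, k.card_K] at h1
  apply Subgroup.eq_of_le_of_card_ge
  · exact sup_le (Y_le K t) k.le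
  · rw [h1, k.card_Ct]

theorem exists_mul (k : KK S u w t K) {c : G} (hc : c * t = t * c) : ∃ y ∈ Y K t, ∃ x ∈ K, c = y * x := by
  have h1 : c ∈ Y K t ⊔ K := by rw [k.sup_eq]; exact mem_centralizer_one.2 hc
  rw [SubgroupTools.mem_sup_of_le_normalizer (K_le_normalizer K t)] at h1
  obtain ⟨y, hy, x, hx, h⟩ := h1
  exact ⟨y, hy, x, hx, h.symm⟩

theorem mem_Y_iff (k : KK S u w t K) {x : G} : x ∈ Y K t ↔ x * t = t * x ∧ ∀ c, c * t = t * c → c * x = x * c := by
  constructor
  · intro hx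
    refine ⟨(mem_Y.1 hx).2, ?_⟩
    intro c hc
    obtain ⟨y, hy, x', hx', rfl⟩ := k.exists_mul hc
    rw [mul_assoc, (mem_Y.1 hx).1 x' hx', ← mul_assoc, k.Y_comm hy hx, mul_assoc]
  · rintro ⟨h1, h2⟩
    exact mem_Y.2 ⟨fun y hy => h2 y (k.comm_t hy), h1⟩

theorem equiv_Ct (k : KK S u w t K) : Nonempty (↥(Subgroup.centralizer ({t} : Set G)) ≃*
    (Multiplicative (ZMod 2) × Multiplicative (ZMod 2)) × alternatingGroup (Fin 5)) := by
  obtain ⟨e⟩ := k.main.2.2
  obtain ⟨e1⟩ := prod_equiv (Y_le K t) k.le (fun a ha b hb => ((mem_Y.1 ha).1 b hb).symm) (fun x hx hK => k.Y_inf hx hK)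
    (by rw [k.card_Ct, k.card_Y, k.card_K])
  obtain ⟨e2⟩ := klein_equiv k.card_Y (fun y => Subtype.ext (k.Y_sq y.2))
  exact ⟨e1.trans (MulEquiv.prodCongr e2 e)⟩

theorem pCore_eq (k : KK S u w t K) :
    (Cfsg.pCore 2 ↥(Subgroup.centralizer ({t} : Set G))).map (Subgroup.subtype (Subgroup.centralizer ({t} : Set G))) = Y K t := by
  have : Fact (Nat.Prime 2) := ⟨Nat.prime_two⟩
  obtain ⟨e⟩ := k.main.2.2
  set C := Subgroup.centralizer ({t} : Set G) with hC
  apply le_antisymm
  · have hPn : (Cfsg.pCore 2 C).Normal := pCore_normal'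
    have hPp : IsPGroup 2 (Cfsg.pCore 2 C) := isPGroup_pCore
    -- trivial intersection with K
    let ι : K →* C := Subgroup.inclusion k.le
    let N : Subgroup (alternatingGroup (Fin 5)) := ((Cfsg.pCore 2 C).comap ι).map e.toMonoidHom
    have hNn : N.Normal := (hPn.comap ι).map _ e.surjective
    have hNp : IsPGroup 2 N := by
      apply IsPGroup.map
      exact hPp.comap_of_injective ι (Subgroup.inclusion_injective _)
    have hNb : N = ⊥ := by
      rcases IsSimpleGroup.eq_bot_or_eq_top_of_normal N hNn with h | h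
      · exact h
      · exfalso
        rw [h] at hNp
        obtain ⟨n, hn⟩ := IsPGroup.iff_card.1 hNp
        rw [Subgroup.card_top, Base.card_alt5] at hn
        have h1 : 3 ∣ 2 ^ n := by rw [← hn]; norm_num
        have h2 := Nat.Prime.dvd_of_dvd_pow (by norm_num) h1
        revert h2; decide
    have hbot : ∀ x : C, x ∈ Cfsg.pCore 2 C → (x : G) ∈ K → x = 1 := by
      intro x hx hxK
      have h1 : e ⟨x, hxK⟩ ∈ N := ⟨⟨x, hxK⟩, hx, rfl⟩
      rw [hNb, Subgroup.mem_bot, EmbeddingLike.map_eq_one_iff] at h1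
      exact Subtype.ext (congrArg (fun s : K => (s : G)) h1)
    rintro _ ⟨x, hx, rfl⟩
    refine mem_Y.2 ⟨fun y hy => ?_, mem_centralizer_one.1 x.2⟩
    have hyC : y ∈ C := k.le hy
    have h1 : (⟨y, hyC⟩ : C) * x * (⟨y, hyC⟩ : C)⁻¹ * x⁻¹ ∈ Cfsg.pCore 2 C := mul_mem (hPn.conj_mem x hx _) (inv_mem hx)
    have h2 : (((⟨y, hyC⟩ : C) * x * (⟨y, hyC⟩ : C)⁻¹ * x⁻¹ : C) : G) ∈ K := by
      have h3 : y * ((x : G) * y⁻¹ * (x : G)⁻¹) ∈ K := mul_mem hy (k.norm x (mem_centralizer_one.1 x.2) _ (inv_mem hy))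
      simpa [mul_assoc] using h3
    have h3 := hbot _ h1 h2
    have h4 : y * (x : G) * y⁻¹ * (x : G)⁻¹ = 1 := congrArg Subtype.val h3
    rw [mul_inv_eq_one, mul_inv_eq_iff_eq_mul] at h4
    exact h4
  · intro y hy
    have hYn : ((Y K t).subgroupOf C).Normal := by
      constructor
      intro n hn g
      rw [Subgroup.mem_subgroupOf] at hn ⊢
      have h1 := (k.mem_Y_iff.1 hn).2 g (mem_centralizer_one.1 g.2)
      have h2 : ((g * n * g⁻¹ : C) : G) = n := by
        simp only [Subgroup.coe_mul, Subgroup.coe_inv]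
        rw [h1, mul_inv_cancel_right]
      rw [h2]; exact hn
    have hYp : IsPGroup 2 ((Y K t).subgroupOf C) := by
      apply IsPGroup.of_card (n := 2)
      rw [SubgroupTools.card_subgroupOf_of_le (Y_le K t), k.card_Y]; norm_num
    have h1 : (Y K t).subgroupOf C ≤ Cfsg.pCore 2 C := le_sSup ⟨hYn, hYp⟩
    exact ⟨⟨y, Y_le K t hy⟩, h1 hy, rfl⟩

/-- all nontrivial elements of `Y` have the same centralizer. -/
theorem cent_Y (k : KK S u w t K) {y : G} (hy : y ∈ Y K t) (hy1 : y ≠ 1) :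
    IsConj t y ∧ Subgroup.centralizer ({y} : Set G) = Subgroup.centralizer ({t} : Set G) := by
  have h1 : IsConj t y := k.conj_t (mem_Y.1 hy).2 (k.Y_sq hy) (fun h => hy1 (k.Y_inf hy h))
  refine ⟨h1, ?_⟩
  symm
  apply Subgroup.eq_of_le_of_card_ge
  · intro c hc
    rw [mem_centralizer_one] at hc ⊢
    exact (k.mem_Y_iff.1 hy).2 c hc
  · exact (InvLocal.card_centralizer_eq_of_isConj h1).symm.le

theorem conj_Ct (k : KK S u w t K) {g c : G} (hg : ∀ n ∈ Y K t, g * n * g⁻¹ ∈ Y K t) (hc : c * t = t * c) :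
    (g * c * g⁻¹) * t = t * (g * c * g⁻¹) := by
  have h1 := hg t k.t_mem_Y
  have h2 := (k.cent_Y h1 (fun h => k.toTS.t_ne (cj_eq_one.1 h))).2
  have h3 : g * c * g⁻¹ ∈ Subgroup.centralizer ({g * t * g⁻¹} : Set G) := by
    rw [mem_centralizer_one, ← cj_mul, ← cj_mul, hc]
  rw [h2, mem_centralizer_one] at h3
  exact h3

theorem N_trans (k : KK S u w t K) {y : G} (hy : y ∈ Y K t) (hy1 : y ≠ 1) :
    ∃ g ∈ Subgroup.normalizer ((Y K t : Subgroup G) : Set G), g * t * g⁻¹ = y := by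
  obtain ⟨h1, h2⟩ := k.cent_Y hy hy1
  obtain ⟨g, hg⟩ := isConj_iff.1 h1
  refine ⟨g, ?_, hg⟩
  apply Subgroup.mem_normalizer_fintype
  intro n hn
  rw [SetLike.mem_coe] at hn ⊢
  rw [k.mem_Y_iff] at hn ⊢
  have hC : ∀ c : G, c * t = t * c ↔ c * y = y * c := by
    intro c
    rw [← mem_centralizer_one, ← mem_centralizer_one, h2]
  constructor
  · rw [hC, ← hg, ← cj_mul, ← cj_mul, hn.1]
  · intro c hc
    rw [hC, ← hg] at hc
    have h3 : (g⁻¹ * c * g) * t = t * (g⁻¹ * c * g) := by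
      have := congrArg (fun s => g⁻¹ * s * g) hc
      simpa [mul_assoc] using this
    have h4 := hn.2 _ h3
    have := congrArg (fun s => g * s * g⁻¹) h4
    simpa [mul_assoc] using this

theorem Ct_le_N (k : KK S u w t K) : Subgroup.centralizer ({t} : Set G) ≤ Subgroup.normalizer ((Y K t : Subgroup G) : Set G) := by
  intro c hc
  apply Subgroup.mem_normalizer_fintype
  intro n hn
  have h1 := (k.mem_Y_iff.1 hn).2 c (mem_centralizer_one.1 hc)
  rw [h1, mul_inv_cancel_right]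
  exact hn

theorem card_N (k : KK S u w t K) : Nat.card (Subgroup.normalizer ((Y K t : Subgroup G) : Set G)) = 720 := by
  have h1 := InvAct.card_conj_orbit (Subgroup.normalizer ((Y K t : Subgroup G) : Set G)) t
  have h2 : {v : G | ∃ g ∈ Subgroup.normalizer ((Y K t : Subgroup G) : Set G), g * t * g⁻¹ = v} = (Y K t : Set G) \ {1} := by
    ext y
    constructor
    · rintro ⟨g, hg, rfl⟩
      exact ⟨(Subgroup.mem_normalizer_iff.1 hg t).1 k.t_mem_Y, fun h => k.toTS.t_ne (cj_eq_one.1 h)⟩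
    · rintro ⟨h3, h4⟩
      exact k.N_trans h3 h4
  rw [h2, inf_eq_right.2 k.Ct_le_N, k.card_Ct, Set.ncard_diff_singleton_of_mem (one_mem _), ← card_eq_ncard, k.card_Y] at h1
  exact h1

theorem a5_three : ∀ a : alternatingGroup (Fin 5), ∃ b : alternatingGroup (Fin 5), b ^ 3 = 1 ∧ (b⁻¹ * a) ^ 3 = 1 := by
  decide +kernel

theorem N_norm_K (k : KK S u w t K) {g x : G} (hg : g ∈ Subgroup.normalizer ((Y K t : Subgroup G) : Set G)) (hx : x ∈ K) :
    g * x * g⁻¹ ∈ K := by
  have hgY : ∀ n ∈ Y K t, g * n * g⁻¹ ∈ Y K t := fun n hn => (Subgroup.mem_normalizer_iff.1 hg n).1 hn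
  have key : ∀ x ∈ K, x ^ 3 = 1 → g * x * g⁻¹ ∈ K := by
    intro x hx hx3
    apply k.three _ (k.conj_Ct hgY (k.comm_t hx))
    rw [conj_pow, hx3]; group
  obtain ⟨e⟩ := k.main.2.2
  obtain ⟨b, hb, hb2⟩ := a5_three (e ⟨x, hx⟩)
  obtain ⟨y, rfl⟩ := e.surjective b
  have h1 : ((y : K) : G) ^ 3 = 1 := by
    rw [← map_pow, EmbeddingLike.map_eq_one_iff] at hb
    exact congrArg Subtype.val hb
  have h2 : (((y : K) : G)⁻¹ * x) ^ 3 = 1 := by
    rw [← map_inv, ← map_mul, ← map_pow, EmbeddingLike.map_eq_one_iff] at hb2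
    exact congrArg Subtype.val hb2
  have h3 := key _ y.2 h1
  have h4 := key _ (mul_mem (inv_mem y.2) hx) h2
  have h5 : g * x * g⁻¹ = (g * (y : G) * g⁻¹) * (g * ((y : G)⁻¹ * x) * g⁻¹) := by group
  rw [h5]; exact mul_mem h3 h4

/-- `W = C_N(K)` -/
def W (K : Subgroup G) (t : G) : Subgroup G :=
  Subgroup.centralizer (K : Set G) ⊓ Subgroup.normalizer ((Y K t : Subgroup G) : Set G)

theorem K_le_N (k : KK S u w t K) : K ≤ Subgroup.normalizer ((Y K t : Subgroup G) : Set G) := k.le.trans k.Ct_le_N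

theorem Y_le_W (k : KK S u w t K) : Y K t ≤ W K t :=
  le_inf inf_le_left ((Y_le K t).trans k.Ct_le_N)

theorem card_W (k : KK S u w t K) : Nat.card (W K t) = 12 := by
  obtain ⟨e⟩ := k.main.2.2
  have h4 := Subgroup.card_dvd_of_le k.Y_le_W
  rw [k.card_Y] at h4
  rcases index_cent k.K_le_N (fun g hg x hx => k.N_norm_K hg hx) e with h | ⟨h, _⟩
  · rw [k.card_N] at h
    change 720 = 60 * Nat.card (W K t) at h
    omega
  · rw [k.card_N] at h
    change 720 = 120 * Nat.card (W K t) at h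
    omega

theorem W_inf (k : KK S u w t K) {x : G} (hx : x ∈ W K t) (hxt : x * t = t * x) : x ∈ Y K t :=
  ⟨hx.1, mem_centralizer_one.2 hxt⟩

theorem equiv_W (k : KK S u w t K) : Nonempty (W K t ≃* alternatingGroup (Fin 4)) := by
  apply Cfsg.Agent.Lib.H10Nse.iso4 k.card_W
  have hn : ((Y K t).subgroupOf (W K t)).Normal := by
    constructor
    intro n hn g
    rw [Subgroup.mem_subgroupOf] at hn ⊢
    exact (Subgroup.mem_normalizer_iff.1 g.2.2 n).1 hn
  have hidx : ((Y K t).subgroupOf (W K t)).index = 3 := by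
    have h1 := ((Y K t).subgroupOf (W K t)).card_mul_index
    rw [SubgroupTools.card_subgroupOf_of_le k.Y_le_W, k.card_Y, k.card_W] at h1
    omega
  have h1 : {g : W K t | orderOf g = 3} = (((Y K t).subgroupOf (W K t) : Subgroup (W K t)) : Set (W K t))ᶜ := by
    ext g
    constructor
    · intro hg hgY
      have hg : orderOf g = 3 := hg
      have h2 : g * g = 1 := Subtype.ext (k.Y_sq hgY)
      have h3 : orderOf g ∣ 2 := orderOf_dvd_of_pow_eq_one (by rw [pow_two]; exact h2)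
      rw [hg] at h3
      norm_num at h3
    · intro hg
      have hgY : (g : G) ∉ Y K t := hg
      have h2 := ((Y K t).subgroupOf (W K t)).pow_index_mem g
      rw [hidx] at h2
      have h3 : g ^ 3 = 1 := by
        by_contra h4
        apply hgY
        have h5 : ((g ^ 3 : W K t) : G) ≠ 1 := fun h => h4 (Subtype.ext h)
        have h6 : Subgroup.centralizer ({((g ^ 3 : W K t) : G)} : Set G) = Subgroup.centralizer ({t} : Set G) := (k.cent_Y h2 h5).2
        have h7 : (g : G) ∈ Subgroup.centralizer ({((g ^ 3 : W K t) : G)} : Set G) := by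
          rw [mem_centralizer_one]
          show (g : G) * (g : G) ^ 3 = (g : G) ^ 3 * (g : G)
          rw [← pow_succ, ← pow_succ']
        rw [h6, mem_centralizer_one] at h7
        exact k.W_inf g.2 h7
      have h4 : orderOf g ∣ 3 := orderOf_dvd_of_pow_eq_one h3
      rcases (Nat.dvd_prime (by norm_num)).1 h4 with h5 | h5
      · exfalso
        rw [orderOf_eq_one_iff] at h5
        apply hgY
        rw [h5]; exact one_mem _
      · exact h5
  have h2 : Nat.card {g : W K t // orderOf g = 3} = ({g : W K t | orderOf g = 3}).ncard := Nat.card_coe_set_eq _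
  rw [h2, h1]
  have h3 := Set.ncard_add_ncard_compl (((Y K t).subgroupOf (W K t) : Subgroup (W K t)) : Set (W K t))
  rw [← card_eq_ncard, SubgroupTools.card_subgroupOf_of_le k.Y_le_W, k.card_Y, k.card_W] at h3
  omega

theorem equiv_N (k : KK S u w t K) : Nonempty (↥(Subgroup.normalizer ((Y K t : Subgroup G) : Set G)) ≃*
    alternatingGroup (Fin 4) × alternatingGroup (Fin 5)) := by
  obtain ⟨e⟩ := k.main.2.2
  obtain ⟨e1⟩ := prod_equiv (C := Subgroup.normalizer ((Y K t : Subgroup G) : Set G)) (A := W K t) (B := K)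
    inf_le_right k.K_le_N
    (fun a ha b hb => ((Subgroup.mem_centralizer_iff.1 ha.1 b hb)).symm)
    (fun x hx hK => k.K_center hK (fun y hy => Subgroup.mem_centralizer_iff.1 hx.1 y hy))
    (by rw [k.card_N, k.card_W, k.card_K])
  obtain ⟨e2⟩ := k.equiv_W
  exact ⟨e1.trans (MulEquiv.prodCongr e2 e)⟩

end KK

/-- any involution not conjugate to `z` is in the situation `KK`. -/
theorem exists_KK_of {G : Type*} [Group G] [Finite G] (S : Setup G)
    (hcl : ∃ x y : G, orderOf x = 2 ∧ orderOf y = 2 ∧ ¬ IsConj x y) {t : G} (ht : orderOf t = 2)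
    (htz : ¬ IsConj S.z t) : ∃ (u w : G) (K : Subgroup G), KK S u w t K := by
  obtain ⟨t0, K0, k⟩ := exists_KK S hcl
  obtain ⟨h1, h2⟩ := InvAct.orderOf_two_iff.1 ht
  rcases k.f.inv_type k.ht h1 h2 with h | h
  · exact absurd h htz
  · obtain ⟨g, hg⟩ := isConj_iff.1 h
    have c := k.toTS.conj g
    rw [hg] at c
    obtain ⟨K, hK⟩ := c.exists_K
    exact ⟨_, _, K, hK⟩

end Cfsg.Agent.Lib.JTw
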