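import Cfsg.Agent.Lib.JanFus

set_option autoImplicit false
set_option linter.all false

/-!
# Groups with an involution with centralizer `Z2 × A5`: counting (helper17)
-/

namespace Cfsg.Agent.Lib.JanLoc

open Cfsg.Agent.Lib.JanH Subgroup

universe u

variable {G : Type u} [Group G]

theorem cnt_z : Fintype.card {h : H // h * h = 1 ∧ h ≠ 1 ∧ h * z0 * h = z0⁻¹ ∧ h * z0 ≠ 1} = 30 := by decide +kernel
theorem cnt_x : Fintype.card {h : H // h * h = 1 ∧ h ≠ 1 ∧ h * (z0 * x0) * h = (z0 * x0)⁻¹ ∧ h * (z0 * x0) ≠ 1} = 6 := by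
  decide +kernel
theorem cnt_y : Fintype.card {h : H // h * h = 1 ∧ h ≠ 1 ∧ h * (z0 * y0) * h = (z0 * y0)⁻¹ ∧ h * (z0 * y0) ≠ 1} = 10 := by
  decide +kernel
theorem cnt_y2 : Fintype.card {h : H // h * h = 1 ∧ h ≠ 1 ∧ h * (z0 * (y0 * y0)) * h = (z0 * (y0 * y0))⁻¹ ∧
    h * (z0 * (y0 * y0)) ≠ 1} = 10 := by
  decide +kernel

namespace Jan

variable {ι : H →* G} (J : Jan ι)
include J

/-- all involutions are conjugate -/
theorem conj_of_sq [Finite G] [IsSimpleGroup G] {g : G} (hg : g * g = 1) (hne : g ≠ 1) : IsConj (ι z0) g := by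
  obtain ⟨P, hP⟩ := J.exists_sylow
  have h1 : IsPGroup 2 (Subgroup.zpowers g) := by
    intro x
    obtain ⟨m, hm⟩ := Subgroup.mem_zpowers_iff.1 x.2
    refine ⟨1, Subtype.ext ?_⟩
    push_cast
    rw [← hm, ← zpow_natCast, ← zpow_mul, mul_comm, zpow_mul, zpow_natCast]
    norm_num
    rw [sq, hg, one_zpow]
  obtain ⟨Q, hQ⟩ := h1.exists_le_sylow
  obtain ⟨a, ha⟩ := MulAction.exists_smul_eq G Q P
  have h2 : a * g * a⁻¹ ∈ P := by
    rw [← ha]
    have : g ∈ (Q : Subgroup G) := hQ (Subgroup.mem_zpowers g)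
    exact ⟨g, this, by simp [MulAut.smul_def]⟩
  have h3 : a * g * a⁻¹ ∈ S ι := by
    rw [← hP]; exact h2
  obtain ⟨h, hh, e⟩ := mem_S.1 h3
  have hne' : h ≠ 1 := by
    rintro rfl
    rw [map_one] at e
    apply hne
    calc g = a⁻¹ * (a * g * a⁻¹) * a := by group
      _ = 1 := by rw [← e]; group
  obtain ⟨n, -, hn⟩ := J.fuse hh hne'
  rw [isConj_iff]
  refine ⟨a⁻¹ * n⁻¹, ?_⟩
  calc a⁻¹ * n⁻¹ * ι z0 * (a⁻¹ * n⁻¹)⁻¹ = a⁻¹ * (n⁻¹ * ι z0 * n) * a := by group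
    _ = g := by rw [hn, e]; group

theorem sq_of_conj {g : G} (hg : IsConj (ι z0) g) : g * g = 1 ∧ g ≠ 1 := by
  obtain ⟨c, hc⟩ := isConj_iff.1 hg
  have h1 := J.S_sq J.z0_mem_S
  constructor
  · rw [← hc]
    calc c * ι z0 * c⁻¹ * (c * ι z0 * c⁻¹) = c * (ι z0 * ι z0) * c⁻¹ := by group
      _ = 1 := by rw [h1]; group
  · rintro rfl
    apply J.z0_ne_one
    calc ι z0 = c⁻¹ * (c * ι z0 * c⁻¹) * c := by group
      _ = 1 := by rw [hc]; group

theorem card_cent {c : H} {k : ℕ} (hk : c ^ k = z0) :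
    Nat.card (Subgroup.centralizer ({ι c} : Set G)) = Fintype.card {h : H // h * c = c * h} := by
  rw [← Nat.card_eq_fintype_card]
  symm
  refine Nat.card_congr (Equiv.ofBijective (fun h => ⟨ι h.1, ?_⟩) ⟨?_, ?_⟩)
  · rw [Subgroup.mem_centralizer_singleton_iff, ← map_mul, h.2, map_mul]
  · intro a b hab
    exact Subtype.ext (J.inj (congrArg Subtype.val hab))
  · rintro ⟨g, hg⟩
    rw [Subgroup.mem_centralizer_singleton_iff] at hg
    have h1 : g * ι z0 = ι z0 * g := by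
      rw [← hk, map_pow]
      exact ((Commute.pow_right (show Commute g (ι c) from hg)) k)
    obtain ⟨h, rfl⟩ := J.cent g h1
    rw [← map_mul, ← map_mul] at hg
    exact ⟨⟨h, J.inj hg⟩, rfl⟩

theorem card_pairs [Finite G] [IsSimpleGroup G] {c : H} {k : ℕ} (hk : c ^ k = z0) :
    Nat.card {p : G × G // IsConj (ι z0) p.1 ∧ IsConj (ι z0) p.2 ∧ p.1 * p.2 = ι c} =
      Fintype.card {h : H // h * h = 1 ∧ h ≠ 1 ∧ h * c * h = c⁻¹ ∧ h * c ≠ 1} := by
  rw [← Nat.card_eq_fintype_card]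
  symm
  refine Nat.card_congr (Equiv.ofBijective (fun h => ⟨(ι h.1, ι (h.1 * c)), ?_⟩) ⟨?_, ?_⟩)
  · obtain ⟨h, h1, h2, h3, h4⟩ := h
    refine ⟨J.conj_of_sq (by rw [← map_mul, h1, map_one]) (fun e => h2 (J.inj (by rw [map_one]; exact e))),
      J.conj_of_sq ?_ (fun e => h4 (J.inj (by rw [map_one]; exact e))), ?_⟩
    · show ι (h * c) * ι (h * c) = 1
      rw [← map_mul, show h * c * (h * c) = h * c * h * c by group, h3, inv_mul_cancel, map_one]
    · show ι h * ι (h * c) = ι c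
      rw [← map_mul, ← mul_assoc, h1, one_mul]
  · intro a b hab
    have := congrArg (fun p : {p : G × G // IsConj (ι z0) p.1 ∧ IsConj (ι z0) p.2 ∧ p.1 * p.2 = ι c} => p.1.1) hab
    exact Subtype.ext (J.inj this)
  · rintro ⟨⟨a, b⟩, h1, h2, h3⟩
    obtain ⟨a1, a2⟩ := J.sq_of_conj h1
    obtain ⟨b1, b2⟩ := J.sq_of_conj h2
    simp only at h3 a1 a2 b1 b2
    have ai : a⁻¹ = a := inv_eq_of_mul_eq_one_left a1
    have bi : b⁻¹ = b := inv_eq_of_mul_eq_one_left b1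
    have h4 : a * ι c * a = (ι c)⁻¹ := by
      rw [← h3, mul_inv_rev, ai, bi, ← mul_assoc, a1, one_mul]
    have h5 : ∀ n : ℕ, a * (ι c) ^ n * a = ((ι c)⁻¹) ^ n := by
      intro n
      have : a * (ι c) ^ n * a = (a * ι c * a) ^ n := by
        have e := conj_pow (a := a) (b := ι c) (i := n)
        rw [ai] at e
        exact e.symm
      rw [this, h4]
    have h6 := h5 k
    rw [← map_pow, hk, ← map_inv, ← map_pow, inv_pow, hk, map_inv] at h6
    have hz : (ι z0)⁻¹ = ι z0 := inv_eq_of_mul_eq_one_left (J.S_sq J.z0_mem_S)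
    rw [hz] at h6
    have h7 : a * ι z0 = ι z0 * a := by
      calc a * ι z0 = a * ι z0 * a * a⁻¹ := by group
        _ = ι z0 * a := by rw [h6, ai]
    obtain ⟨h, rfl⟩ := J.cent a h7
    have hb : b = ι (h * c) := by
      rw [map_mul, ← h3, ← mul_assoc, a1, one_mul]
    refine ⟨⟨h, ?_, ?_, ?_, ?_⟩, ?_⟩
    · apply J.inj; rw [map_mul, a1, map_one]
    · rintro rfl; exact a2 (map_one ι)
    · apply J.inj; rw [map_mul, map_mul, h4, map_inv]
    · intro e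
      apply b2
      rw [hb, e, map_one]
    · apply Subtype.ext
      show (ι h, ι (h * c)) = (ι h, b)
      rw [hb]

theorem not_conj_of_pow {a b : H} (n : ℕ) (ha : a ^ n = 1) (hb : b ^ n ≠ 1) : ¬ IsConj (ι a) (ι b) := by
  intro h
  obtain ⟨c, hc⟩ := isConj_iff.1 h
  apply hb
  apply J.inj
  rw [map_pow, ← hc, conj_pow, ← map_pow, ha, map_one, mul_one, mul_inv_cancel]

theorem not_conj_Y : ¬ IsConj (ι (z0 * y0)) (ι (z0 * (y0 * y0))) := by
  intro h
  obtain ⟨c, hc⟩ := isConj_iff.1 h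
  have h1 : c * (ι (z0 * y0)) ^ 5 * c⁻¹ = (ι (z0 * (y0 * y0))) ^ 5 := by rw [← hc, conj_pow]
  rw [← map_pow, ← map_pow, show (z0 * y0) ^ 5 = z0 by decide +kernel,
    show (z0 * (y0 * y0)) ^ 5 = z0 by decide +kernel] at h1
  obtain ⟨k, rfl⟩ := J.cent c (by
    calc c * ι z0 = c * ι z0 * c⁻¹ * c := by group
      _ = ι z0 * c := by rw [h1])
  apply not_conj_y k
  apply J.inj
  rw [map_mul ι k, map_mul ι (z0 * (y0 * y0)) k, ← hc]
  group

omit J in
theorem conj_of_conj {a b k : H} (h : k * a * k⁻¹ = b) : IsConj (ι a) (ι b) :=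
  isConj_iff.2 ⟨ι k, by rw [← h, map_mul, map_mul, map_inv]⟩

end Jan

end Cfsg.Agent.Lib.JanLoc
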