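import Cfsg.Agent.Lib.JanNum2

set_option autoImplicit false
set_option linter.all false

/-!
# The eight characters of the principal 2-block (helper17): combinatorics
-/

namespace Cfsg.Agent.Lib.JanCol

open Finset

variable {ι : Type*} [Fintype ι] [DecidableEq ι]

theorem norm4 {w f : ι → ℤ} (hw : ∀ i, 0 < w i) (h4 : ∑ i, f i ^ 2 = 4) (h0 : ∑ i, f i * w i = 0) (i : ι) :
    f i = 0 ∨ f i = 1 ∨ f i = -1 := by
  by_contra hcon
  push Not at hcon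
  obtain ⟨c0, c1, c2⟩ := hcon
  have h1 : 4 ≤ f i ^ 2 := by
    have : 2 ≤ |f i| := by
      rcases le_or_gt 0 (f i) with h | h
      · rw [abs_of_nonneg h]; omega
      · rw [abs_of_neg h]; omega
    nlinarith [sq_abs (f i)]
  have h2 := Finset.add_sum_erase univ (fun j => f j ^ 2) (mem_univ i)
  have h3 : ∑ j ∈ univ.erase i, f j ^ 2 = 0 := by
    have := Finset.sum_nonneg (s := univ.erase i) (f := fun j => f j ^ 2) (fun j _ => sq_nonneg _)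
    linarith
  have h4' : ∀ j ∈ univ.erase i, f j = 0 := by
    intro j hj
    have := (Finset.sum_eq_zero_iff_of_nonneg (fun j _ => sq_nonneg _)).1 h3 j hj
    exact pow_eq_zero_iff (by norm_num) |>.1 this
  have h5 := Finset.add_sum_erase univ (fun j => f j * w j) (mem_univ i)
  have h6 : ∑ j ∈ univ.erase i, f j * w j = 0 :=
    Finset.sum_eq_zero fun j hj => by rw [h4' j hj, zero_mul]
  rw [h6, h0, add_zero] at h5
  rcases mul_eq_zero.1 h5 with h | h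
  · exact c0 h
  · exact (hw i).ne' h

theorem card_supp {f : ι → ℤ} (hf : ∀ i, f i = 0 ∨ f i = 1 ∨ f i = -1) {n : ℕ} (h4 : ∑ i, f i ^ 2 = n) :
    (univ.filter fun i => f i ≠ 0).card = n := by
  have : (((univ.filter fun i => f i ≠ 0).card : ℕ) : ℤ) = n := by
    rw [← h4, Finset.card_eq_sum_ones, Nat.cast_sum, Finset.sum_filter]
    refine Finset.sum_congr rfl fun i _ => ?_
    rcases hf i with h | h | h <;> simp [h]
  exact_mod_cast this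

theorem card_inter {f h : ι → ℤ} (hf : ∀ i, f i = 0 ∨ f i = 1 ∨ f i = -1) (hh : ∀ i, h i = 0 ∨ h i = 1 ∨ h i = -1)
    (hfh : ∀ i, f i - h i = 0 ∨ f i - h i = 1 ∨ f i - h i = -1) {n : ℕ} (h4 : ∑ i, f i * h i = n) :
    (univ.filter fun i => f i ≠ 0 ∧ h i ≠ 0).card = n := by
  have : (((univ.filter fun i => f i ≠ 0 ∧ h i ≠ 0).card : ℕ) : ℤ) = n := by
    rw [← h4, Finset.card_eq_sum_ones, Nat.cast_sum, Finset.sum_filter]
    refine Finset.sum_congr rfl fun i _ => ?_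
    rcases hf i with h1 | h1 | h1 <;> rcases hh i with h2 | h2 | h2 <;> have h3 := hfh i <;>
      rw [h1, h2] at h3 <;> simp [h1, h2] at h3 ⊢
  exact_mod_cast this

/-- the data -/
structure Cols (d1 d2 d3 d4 w : ι → ℤ) (o : ι) (π : Equiv.Perm ι) (g : ℤ) : Prop where
  wpos : ∀ i, 0 < w i
  s11 : ∑ i, d1 i ^ 2 = 8
  s22 : ∑ i, d2 i ^ 2 = 4
  s33 : ∑ i, d3 i ^ 2 = 4
  s44 : ∑ i, d4 i ^ 2 = 2
  s12 : ∑ i, d1 i * d2 i = 4
  s13 : ∑ i, d1 i * d3 i = 4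
  s23 : ∑ i, d2 i * d3 i = 2
  s14 : ∑ i, d4 i * d1 i = 0
  s24 : ∑ i, d4 i * d2 i = 0
  s34 : ∑ i, d4 i * d3 i = 0
  w1 : ∑ i, d1 i * w i = 0
  w2 : ∑ i, d2 i * w i = 0
  w3 : ∑ i, d3 i * w i = 0
  w4 : ∑ i, d4 i * w i = 0
  o1 : d1 o = 1
  o2 : d2 o = 0
  o3 : d3 o = 0
  o4 : d4 o = 0
  wo : w o = 1
  p1 : ∀ i, d1 (π i) = d1 i
  p2 : ∀ i, d2 (π i) = d3 i
  p3 : ∀ i, d3 (π i) = d2 i
  p4 : ∀ i, d4 (π i) = d4 i
  pw : ∀ i, w (π i) = w i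
  mod8 : ∀ i, (w i - (d1 i + 2 * d2 i + 2 * d3 i + 4 * d4 i)) % 8 = 0
  w7 : ∀ i, i ≠ o → 7 ≤ w i
  sq : ∑ i, w i ^ 2 = g
  g8 : g % 8 = 0
  EX : (∑ i, (((d1 i + 2 * d2 i + 2 * d3 i + 4 * d4 i) ^ 2 * (d1 i - d2 i - d3 i + d4 i) : ℤ) : ℚ) / (w i : ℚ)) * g = 86400
  EZ : (∑ i, (((d1 i + 2 * d2 i + 2 * d3 i + 4 * d4 i) ^ 2 * (2 * d1 i - d2 i - d3 i - 2 * d4 i) : ℤ) : ℚ) / (w i : ℚ)) * g = 288000

variable {d1 d2 d3 d4 w : ι → ℤ} {o : ι} {π : Equiv.Perm ι} {g : ℤ}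

namespace Cols

variable (h : Cols d1 d2 d3 d4 w o π g)
include h

theorem v2 (i : ι) : d2 i = 0 ∨ d2 i = 1 ∨ d2 i = -1 := norm4 h.wpos h.s22 h.w2 i

theorem v3 (i : ι) : d3 i = 0 ∨ d3 i = 1 ∨ d3 i = -1 := norm4 h.wpos h.s33 h.w3 i

theorem sμ : ∑ i, (d1 i - d2 i) ^ 2 = 4 := by
  have : ∑ i, (d1 i - d2 i) ^ 2 = ∑ i, d1 i ^ 2 - 2 * ∑ i, d1 i * d2 i + ∑ i, d2 i ^ 2 := by
    rw [Finset.mul_sum, ← Finset.sum_sub_distrib, ← Finset.sum_add_distrib]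
    exact Finset.sum_congr rfl fun i _ => by ring
  rw [this, h.s11, h.s12, h.s22]; norm_num

theorem wμ : ∑ i, (d1 i - d2 i) * w i = 0 := by
  have : ∑ i, (d1 i - d2 i) * w i = ∑ i, d1 i * w i - ∑ i, d2 i * w i := by
    rw [← Finset.sum_sub_distrib]
    exact Finset.sum_congr rfl fun i _ => by ring
  rw [this, h.w1, h.w2]; norm_num

theorem vμ (i : ι) : d1 i - d2 i = 0 ∨ d1 i - d2 i = 1 ∨ d1 i - d2 i = -1 :=
  norm4 (f := fun i => d1 i - d2 i) h.wpos h.sμ h.wμ i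

theorem v23 (i : ι) : d2 i - d3 i = 0 ∨ d2 i - d3 i = 1 ∨ d2 i - d3 i = -1 := by
  refine norm4 (f := fun i => d2 i - d3 i) h.wpos ?_ ?_ i
  · have : ∑ i, (d2 i - d3 i) ^ 2 = ∑ i, d2 i ^ 2 - 2 * ∑ i, d2 i * d3 i + ∑ i, d3 i ^ 2 := by
      rw [Finset.mul_sum, ← Finset.sum_sub_distrib, ← Finset.sum_add_distrib]
      exact Finset.sum_congr rfl fun i _ => by ring
    rw [this, h.s22, h.s23, h.s33]; norm_num
  · have : ∑ i, (d2 i - d3 i) * w i = ∑ i, d2 i * w i - ∑ i, d3 i * w i := by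
      rw [← Finset.sum_sub_distrib]
      exact Finset.sum_congr rfl fun i _ => by ring
    rw [this, h.w2, h.w3]; norm_num

theorem sμ3 : ∑ i, (d1 i - d2 i) * d3 i = 2 := by
  have : ∑ i, (d1 i - d2 i) * d3 i = ∑ i, d1 i * d3 i - ∑ i, d2 i * d3 i := by
    rw [← Finset.sum_sub_distrib]
    exact Finset.sum_congr rfl fun i _ => by ring
  rw [this, h.s13, h.s23]; norm_num

theorem sμ2 : ∑ i, (d1 i - d2 i) * d2 i = 0 := by
  have : ∑ i, (d1 i - d2 i) * d2 i = ∑ i, d1 i * d2 i - ∑ i, d2 i ^ 2 := by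
    rw [← Finset.sum_sub_distrib]
    exact Finset.sum_congr rfl fun i _ => by ring
  rw [this, h.s12, h.s22]; norm_num

theorem vμ3 (i : ι) : (d1 i - d2 i) - d3 i = 0 ∨ (d1 i - d2 i) - d3 i = 1 ∨ (d1 i - d2 i) - d3 i = -1 := by
  refine norm4 (f := fun i => (d1 i - d2 i) - d3 i) h.wpos ?_ ?_ i
  · have : ∑ i, ((d1 i - d2 i) - d3 i) ^ 2 = ∑ i, (d1 i - d2 i) ^ 2 - 2 * ∑ i, (d1 i - d2 i) * d3 i + ∑ i, d3 i ^ 2 := by
      rw [Finset.mul_sum, ← Finset.sum_sub_distrib, ← Finset.sum_add_distrib]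
      exact Finset.sum_congr rfl fun i _ => by ring
    rw [this, h.sμ, h.sμ3, h.s33]; norm_num
  · have : ∑ i, ((d1 i - d2 i) - d3 i) * w i = ∑ i, (d1 i - d2 i) * w i - ∑ i, d3 i * w i := by
      rw [← Finset.sum_sub_distrib]
      exact Finset.sum_congr rfl fun i _ => by ring
    rw [this, h.wμ, h.w3]; norm_num

end Cols

end Cfsg.Agent.Lib.JanCol
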