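import Cfsg.Agent.Lib.JanCol

set_option autoImplicit false
set_option linter.all false

/-!
# The eight characters of the principal 2-block (helper17): the pattern
-/

namespace Cfsg.Agent.Lib.JanCol

open Finset

variable {ι : Type*} [Fintype ι] [DecidableEq ι]
variable {d1 d2 d3 d4 w : ι → ℤ} {o : ι} {π : Equiv.Perm ι} {g : ℤ}

/-- both -/
def SA (d2 d3 : ι → ℤ) : Finset ι := univ.filter fun i => d2 i ≠ 0 ∧ d3 i ≠ 0
/-- second only -/
def SB (d2 d3 : ι → ℤ) : Finset ι := univ.filter fun i => d2 i ≠ 0 ∧ d3 i = 0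
/-- third only -/
def SC (d2 d3 : ι → ℤ) : Finset ι := univ.filter fun i => d2 i = 0 ∧ d3 i ≠ 0
/-- first only -/
def SZ (d1 d2 d3 : ι → ℤ) : Finset ι := univ.filter fun i => d2 i = 0 ∧ d3 i = 0 ∧ d1 i ≠ 0
/-- fourth -/
def S4 (d4 : ι → ℤ) : Finset ι := univ.filter fun i => d4 i ≠ 0

theorem split (hdisj : ∀ i, d4 i ≠ 0 → d1 i = 0 ∧ d2 i = 0 ∧ d3 i = 0) (F : ι → ℚ)
    (hF : ∀ i, d1 i = 0 → d2 i = 0 → d3 i = 0 → d4 i = 0 → F i = 0) :
    ∑ i, F i = ∑ i ∈ SA d2 d3, F i + ∑ i ∈ SB d2 d3, F i + ∑ i ∈ SC d2 d3, F i + ∑ i ∈ SZ d1 d2 d3, F i +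
      ∑ i ∈ S4 d4, F i := by
  unfold SA SB SC SZ S4
  simp only [Finset.sum_filter]
  rw [← Finset.sum_add_distrib, ← Finset.sum_add_distrib, ← Finset.sum_add_distrib, ← Finset.sum_add_distrib]
  refine Finset.sum_congr rfl fun i _ => ?_
  by_cases h4 : d4 i = 0
  · by_cases h2 : d2 i = 0 <;> by_cases h3 : d3 i = 0 <;> by_cases h1 : d1 i = 0 <;> simp [h1, h2, h3, h4]
    exact hF i h1 h2 h3 h4
  · obtain ⟨h1, h2, h3⟩ := hdisj i h4
    simp [h1, h2, h3, h4]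

namespace Cols

variable (h : Cols d1 d2 d3 d4 w o π g)
include h

theorem cardSA : (SA d2 d3).card = 2 :=
  card_inter h.v2 h.v3 h.v23 (n := 2) (by rw [h.s23]; rfl)

theorem cardSB : (SB d2 d3).card = 2 := by
  have h1 := card_supp h.v2 (n := 4) (by rw [h.s22]; rfl)
  have h2 := h.cardSA
  have h3 : (univ.filter fun i => d2 i ≠ 0) = SA d2 d3 ∪ SB d2 d3 := by
    ext i; simp only [SA, SB, mem_filter, mem_univ, true_and, mem_union]; tauto
  have h4 : Disjoint (SA d2 d3) (SB d2 d3) := by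
    rw [Finset.disjoint_left]
    intro i hi hj
    simp only [SA, SB, mem_filter, mem_univ, true_and] at hi hj
    exact hi.2 hj.2
  rw [h3, Finset.card_union_of_disjoint h4, h2] at h1
  omega

theorem cardSC : (SC d2 d3).card = 2 := by
  have h1 := card_supp h.v3 (n := 4) (by rw [h.s33]; rfl)
  have h2 := h.cardSA
  have h3 : (univ.filter fun i => d3 i ≠ 0) = SA d2 d3 ∪ SC d2 d3 := by
    ext i; simp only [SA, SC, mem_filter, mem_univ, true_and, mem_union]; tauto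
  have h4 : Disjoint (SA d2 d3) (SC d2 d3) := by
    rw [Finset.disjoint_left]
    intro i hi hj
    simp only [SA, SC, mem_filter, mem_univ, true_and] at hi hj
    exact hi.1 hj.1
  rw [h3, Finset.card_union_of_disjoint h4, h2] at h1
  omega

theorem card4 : (S4 d4).card = 2 := by
  have hv : ∀ i, d4 i = 0 ∨ d4 i = 1 ∨ d4 i = -1 := by
    intro i
    have h1 : d4 i ^ 2 ≤ 2 := by
      rw [← h.s44]
      exact Finset.single_le_sum (f := fun j => d4 j ^ 2) (fun j _ => sq_nonneg _) (mem_univ i)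
    have h2 : |d4 i| < 2 := by
      by_contra hc
      push Not at hc
      nlinarith [sq_abs (d4 i)]
    rw [abs_lt] at h2
    omega
  exact card_supp hv (n := 2) (by rw [h.s44]; rfl)

theorem v13 (i : ι) : d1 i - d3 i = 0 ∨ d1 i - d3 i = 1 ∨ d1 i - d3 i = -1 := by
  have := h.vμ (π i)
  rwa [h.p1, h.p2] at this

/-- the values on `SA` -/
theorem vSA {i : ι} (hi : i ∈ SA d2 d3) : d3 i = d2 i ∧ (d2 i = 1 ∨ d2 i = -1) ∧ (d1 i = d2 i ∨ d1 i = 2 * d2 i) := by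
  simp only [SA, mem_filter, mem_univ, true_and] at hi
  have a := h.v2 i; have b := h.v3 i; have c := h.v23 i; have d := h.vμ i; have e := h.vμ3 i
  omega

theorem vSB {i : ι} (hi : i ∈ SB d2 d3) : d3 i = 0 ∧ (d2 i = 1 ∨ d2 i = -1) ∧ (d1 i = d2 i ∨ d1 i = 0) := by
  simp only [SB, mem_filter, mem_univ, true_and] at hi
  have a := h.v2 i; have b := h.v3 i; have c := h.v23 i; have d := h.vμ i; have e := h.vμ3 i; have f := h.v13 i
  omega

theorem vSC {i : ι} (hi : i ∈ SC d2 d3) : d2 i = 0 ∧ (d3 i = 1 ∨ d3 i = -1) ∧ (d1 i = d3 i ∨ d1 i = 0) := by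
  simp only [SC, mem_filter, mem_univ, true_and] at hi
  have a := h.v2 i; have b := h.v3 i; have c := h.v23 i; have d := h.vμ i; have e := h.vμ3 i; have f := h.v13 i
  omega

theorem vSZ {i : ι} (hi : i ∈ SZ d1 d2 d3) : d2 i = 0 ∧ d3 i = 0 ∧ (d1 i = 1 ∨ d1 i = -1) := by
  simp only [SZ, mem_filter, mem_univ, true_and] at hi
  have d := h.vμ i
  omega

theorem split1 (F : ι → ℤ) (hF : ∀ i, d1 i = 0 → d2 i = 0 → d3 i = 0 → F i = 0) :
    ∑ i, F i = ∑ i ∈ SA d2 d3, F i + ∑ i ∈ SB d2 d3, F i + ∑ i ∈ SC d2 d3, F i + ∑ i ∈ SZ d1 d2 d3, F i := by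
  unfold SA SB SC SZ
  simp only [Finset.sum_filter]
  rw [← Finset.sum_add_distrib, ← Finset.sum_add_distrib, ← Finset.sum_add_distrib]
  refine Finset.sum_congr rfl fun i _ => ?_
  by_cases h2 : d2 i = 0 <;> by_cases h3 : d3 i = 0 <;> by_cases h1 : d1 i = 0 <;> simp [h1, h2, h3]
  exact hF i h1 h2 h3

theorem mem_SZ_o : o ∈ SZ d1 d2 d3 := by
  simp [SZ, h.o1, h.o2, h.o3]

/-- the relation between the numbers -/
theorem numbers : ∑ i ∈ SB d2 d3, d1 i * d2 i = 4 - ∑ i ∈ SA d2 d3, d1 i * d2 i ∧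
    ∑ i ∈ SC d2 d3, d1 i * d3 i = 4 - ∑ i ∈ SA d2 d3, d1 i * d2 i ∧
    ((SZ d1 d2 d3).card : ℤ) = 4 - ∑ i ∈ SA d2 d3, d1 i * d2 i := by
  have e1 := h.split1 (fun i => d1 i * d2 i) (fun i h1 h2 h3 => by simp [h1])
  have e2 := h.split1 (fun i => d1 i * d3 i) (fun i h1 h2 h3 => by simp [h1])
  have e3 := h.split1 (fun i => d1 i ^ 2) (fun i h1 h2 h3 => by simp [h1])
  rw [h.s12] at e1
  rw [h.s13] at e2
  rw [h.s11] at e3
  have c1 : ∑ i ∈ SC d2 d3, d1 i * d2 i = 0 := Finset.sum_eq_zero fun i hi => by rw [(h.vSC hi).1, mul_zero]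
  have c2 : ∑ i ∈ SZ d1 d2 d3, d1 i * d2 i = 0 := Finset.sum_eq_zero fun i hi => by rw [(h.vSZ hi).1, mul_zero]
  have c3 : ∑ i ∈ SB d2 d3, d1 i * d3 i = 0 := Finset.sum_eq_zero fun i hi => by rw [(h.vSB hi).1, mul_zero]
  have c4 : ∑ i ∈ SZ d1 d2 d3, d1 i * d3 i = 0 := Finset.sum_eq_zero fun i hi => by rw [(h.vSZ hi).2.1, mul_zero]
  have c5 : ∑ i ∈ SA d2 d3, d1 i * d3 i = ∑ i ∈ SA d2 d3, d1 i * d2 i :=
    Finset.sum_congr rfl fun i hi => by rw [(h.vSA hi).1]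
  have c6 : ∑ i ∈ SB d2 d3, d1 i ^ 2 = ∑ i ∈ SB d2 d3, d1 i * d2 i :=
    Finset.sum_congr rfl fun i hi => by rcases (h.vSB hi).2.2 with e | e <;> rw [e] <;> ring
  have c7 : ∑ i ∈ SC d2 d3, d1 i ^ 2 = ∑ i ∈ SC d2 d3, d1 i * d3 i :=
    Finset.sum_congr rfl fun i hi => by rcases (h.vSC hi).2.2 with e | e <;> rw [e] <;> ring
  have c8 : ∑ i ∈ SA d2 d3, d1 i ^ 2 = ∑ i ∈ SA d2 d3, (3 * (d1 i * d2 i) - 2) :=
    Finset.sum_congr rfl fun i hi => by
      obtain ⟨-, k | k, l | l⟩ := h.vSA hi <;> rw [l, k] <;> ring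
  have c9 : ∑ i ∈ SZ d1 d2 d3, d1 i ^ 2 = ((SZ d1 d2 d3).card : ℤ) := by
    rw [Finset.card_eq_sum_ones, Nat.cast_sum]
    exact Finset.sum_congr rfl fun i hi => by
      obtain ⟨-, -, k | k⟩ := h.vSZ hi <;> rw [k] <;> norm_num
  rw [Finset.sum_sub_distrib, ← Finset.mul_sum, Finset.sum_const, h.cardSA] at c8
  rw [c1, c2] at e1
  rw [c3, c4, c5] at e2
  rw [c6, c7, c8, c9] at e3
  simp only [nsmul_eq_mul] at e3
  push_cast at e3
  refine ⟨by linarith, by linarith, by linarith⟩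

end Cols

end Cfsg.Agent.Lib.JanCol
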