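import Cfsg.Agent.Lib.JanNum2

set_option autoImplicit false
set_option linter.all false

/-!
# Arithmetic for the order of Janko's first group (helper17), part 3: the degenerate cases
-/

namespace Cfsg.Agent.Lib.JanNum

/-- the case of coinciding degrees is impossible mod powers of two -/
theorem caseA1 {a g : ℤ} (ha : a % 8 = 1) (hg : g % 8 = 0) (hX : g * (a - 1) ^ 2 = 43200 * (a * (2 * a - 1))) : False := by
  obtain ⟨k, hk⟩ : ∃ k, a = 8 * k + 1 := ⟨a / 8, by omega⟩
  obtain ⟨l, hl⟩ : ∃ l, g = 8 * l := ⟨g / 8, by omega⟩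
  rw [hk, hl] at hX
  have h1 : 512 * (l * k ^ 2) = 43200 * ((8 * k + 1) * (16 * k + 1)) := by linear_combination hX
  have h2 : (8 * k + 1) * (16 * k + 1) = 2 * (64 * k ^ 2 + 12 * k) + 1 := by ring
  rw [h2] at h1
  set u := l * k ^ 2
  set v := 64 * k ^ 2 + 12 * k
  omega

/-- test for case B -/
def tstB (n : ℤ) : Bool :=
  let r := 5400 * ((2 * n - 1) * (8 * n - 5))
  bif (n == 0) then true else
  bif (r % (n ^ 2) == 0) then
    let g := r / (n ^ 2)
    let b := 4 * n - 2
    (List.range 1201).all fun i =>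
      let a := (i : ℤ) - 600
      let c := b - a - 1
      -- 36/a - 4/b + 9/c + 1 = 144000/g
      ! (g * (36 * b * c - 4 * a * c + 9 * a * b + a * b * c) == 144000 * (a * b * c)) || (a == 0) || (c == 0)
  else true

theorem checkB : (List.range 201).all (fun i => tstB ((i : ℤ) - 100)) = true := by
  decide +kernel

theorem caseB {a a' b b' g : ℤ} (h1 : a + a' + b + b' = 0) (h2 : 1 + 2 * a + a' + 2 * b' = 0)
    (mb : b % 8 = 2) (ha0 : a ≠ 0) (hb'0 : b' ≠ 0) (ha'0 : a' ≠ 0)
    (hsq : a ^ 2 + b ^ 2 ≤ g)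
    (hX : g * (a' * b - 25 * b - 8 * a') = 86400 * (a' * b))
    (hZ : g * (36 * b * b' - 4 * a * b' + 9 * a * b + a * b * b') = 144000 * (a * b * b')) : False := by
  have ea' : a' = 1 - 2 * b := by linarith
  have eb' : b' = b - a - 1 := by linarith
  subst ea' eb'
  have hX1 : g * (b + 2) ^ 2 = 43200 * (b * (2 * b - 1)) := by
    have : 2 * (g * (b + 2) ^ 2) = 2 * (43200 * (b * (2 * b - 1))) := by linear_combination -hX
    linarith
  obtain ⟨n, hn⟩ : ∃ n, b = 4 * n - 2 := ⟨(b + 2) / 4, by omega⟩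
  have hX2 : g * n ^ 2 = 5400 * ((2 * n - 1) * (8 * n - 5)) := by
    rw [hn] at hX1
    have : 16 * (g * n ^ 2) = 16 * (5400 * ((2 * n - 1) * (8 * n - 5))) := by linear_combination hX1
    linarith
  have hn0 : n ≠ 0 := by
    rintro rfl; norm_num at hX2
  -- bound on n
  have hnb : |n| ≤ 100 := by
    by_contra hcon
    push Not at hcon
    have hg : (4 * n - 2) ^ 2 ≤ g := by rw [← hn]; nlinarith [sq_nonneg a]
    have k1 : (4 * n - 2) ^ 2 * n ^ 2 ≤ 5400 * ((2 * n - 1) * (8 * n - 5)) := by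
      rw [← hX2]; exact mul_le_mul_of_nonneg_right hg (sq_nonneg _)
    rcases lt_or_ge n 0 with hneg | hpos
    · rw [abs_of_neg hneg] at hcon
      obtain ⟨m, rfl⟩ : ∃ m, n = -m := ⟨-n, by ring⟩
      have hm : 101 ≤ m := by omega
      have : 4 * (2 * m + 1) * m ^ 2 ≤ 5400 * (8 * m + 5) := by
        have hp : 0 < 2 * m + 1 := by omega
        have : (2 * m + 1) * (4 * (2 * m + 1) * m ^ 2) ≤ (2 * m + 1) * (5400 * (8 * m + 5)) := by nlinarith
        exact le_of_mul_le_mul_left this hp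
      nlinarith
    · rw [abs_of_nonneg hpos] at hcon
      have hm : 101 ≤ n := by omega
      have : 4 * (2 * n - 1) * n ^ 2 ≤ 5400 * (8 * n - 5) := by
        have hp : 0 < 2 * n - 1 := by omega
        have : (2 * n - 1) * (4 * (2 * n - 1) * n ^ 2) ≤ (2 * n - 1) * (5400 * (8 * n - 5)) := by nlinarith
        exact le_of_mul_le_mul_left this hp
      nlinarith
  have hgb : g ≤ 280800 := by
    -- g n^2 = 5400 (2n-1)(8n-5) ≤ 5400 * 52 n^2
    have h3 : g * n ^ 2 ≤ 280800 * n ^ 2 := by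
      rw [hX2]
      rcases lt_or_ge n 0 with hneg | hpos
      · nlinarith
      · have : 1 ≤ n := by omega
        nlinarith
    have hn2 : 0 < n ^ 2 := by positivity
    exact le_of_mul_le_mul_right h3 hn2
  have hab : |a| ≤ 600 := by
    by_contra hcon
    push Not at hcon
    have : 360000 < a ^ 2 := by nlinarith [sq_abs a, abs_nonneg a]
    nlinarith [sq_nonneg b]
  have ht := checkB
  rw [List.all_eq_true] at ht
  rw [abs_le] at hnb hab
  have e1 := ht (n + 100).toNat (by rw [List.mem_range]; omega)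
  have i1 : ((((n + 100).toNat : ℕ) : ℤ) - 100) = n := by omega
  rw [i1] at e1
  unfold tstB at e1
  have hn2 : n ^ 2 ≠ 0 := pow_ne_zero 2 hn0
  have hgq : 5400 * ((2 * n - 1) * (8 * n - 5)) / n ^ 2 = g := by
    rw [← hX2]; exact Int.mul_ediv_cancel g hn2
  have hgr : 5400 * ((2 * n - 1) * (8 * n - 5)) % n ^ 2 = 0 := by
    rw [← hX2]; exact Int.mul_emod_left _ _
  simp only [hgq, hgr] at e1
  have hn' : (n == 0) = false := by simpa using hn0
  rw [hn'] at e1
  simp only [cond_false, cond_true, beq_self_eq_true] at e1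
  rw [List.all_eq_true] at e1
  have e2 := e1 (a + 600).toNat (by rw [List.mem_range]; omega)
  have i2 : ((((a + 600).toNat : ℕ) : ℤ) - 600) = a := by omega
  rw [i2] at e2
  rw [← hn] at e2
  have ha' : (a == 0) = false := by simpa using ha0
  have hb'' : (b - a - 1 == 0) = false := by simpa using hb'0
  rw [ha', hb''] at e2
  simp only [Bool.or_false, Bool.not_eq_true', beq_eq_false_iff_ne, ne_eq] at e2
  exact e2 hZ

end Cfsg.Agent.Lib.JanNum
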