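import Cfsg.Agent.Lib.JanCol2
import Cfsg.Agent.Lib.JanNum3

set_option autoImplicit false
set_option linter.all false

/-!
# The eight characters of the principal 2-block (helper17): conclusion
-/

namespace Cfsg.Agent.Lib.JanCol

open Finset

variable {ι : Type*} [Fintype ι] [DecidableEq ι]
variable {d1 d2 d3 d4 w : ι → ℤ} {o : ι} {π : Equiv.Perm ι} {g : ℤ}

namespace Cols

variable (h : Cols d1 d2 d3 d4 w o π g)
include h

theorem v4 (i : ι) : d4 i = 0 ∨ d4 i = 1 ∨ d4 i = -1 := by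
  have h1 : d4 i ^ 2 ≤ 2 := by
    rw [← h.s44]
    exact Finset.single_le_sum (f := fun j => d4 j ^ 2) (fun j _ => sq_nonneg _) (mem_univ i)
  have h2 : |d4 i| < 2 := by
    by_contra hc
    push Not at hc
    nlinarith [sq_abs (d4 i)]
  rw [abs_lt] at h2
  omega

/-- the two characters of the block of defect one -/
theorem four : ∃ p q : ι, p ≠ q ∧ S4 d4 = {p, q} ∧ (d4 p = 1 ∨ d4 p = -1) ∧ d4 q = -d4 p ∧ w q = w p ∧
    d1 q = d1 p ∧ d2 q = d2 p ∧ d3 q = d3 p ∧ d3 p = d2 p := by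
  obtain ⟨p, q, hpq, hS⟩ := Finset.card_eq_two.1 h.card4
  have hp : d4 p ≠ 0 := by
    have : p ∈ S4 d4 := by rw [hS]; simp
    simpa [S4] using this
  have hq : d4 q ≠ 0 := by
    have : q ∈ S4 d4 := by rw [hS]; simp
    simpa [S4] using this
  have hsum : ∀ f : ι → ℤ, ∑ i, d4 i * f i = d4 p * f p + d4 q * f q := by
    intro f
    have : ∑ i, d4 i * f i = ∑ i ∈ S4 d4, d4 i * f i := by
      unfold S4
      rw [Finset.sum_filter]
      refine Finset.sum_congr rfl fun i _ => ?_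
      by_cases hi : d4 i = 0 <;> simp [hi]
    rw [this, hS, Finset.sum_pair hpq]
  have v1 := h.v4 p
  have v2 := h.v4 q
  have w4 := h.w4
  rw [hsum] at w4
  have wp := h.wpos p
  have wq := h.wpos q
  have hdq : d4 q = -d4 p := by
    rcases v1 with e | e | e
    · exact absurd e hp
    · rcases v2 with e' | e' | e'
      · exact absurd e' hq
      · rw [e, e'] at w4; linarith
      · rw [e, e']
    · rcases v2 with e' | e' | e'
      · exact absurd e' hq
      · rw [e, e']; norm_num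
      · rw [e, e'] at w4; linarith
  have key : ∀ f : ι → ℤ, d4 p * f p + d4 q * f q = 0 → f q = f p := by
    intro f hf
    rw [hdq] at hf
    have : d4 p * (f p - f q) = 0 := by linarith
    rcases mul_eq_zero.1 this with e | e
    · exact absurd e hp
    · linarith
  have e1 : d1 q = d1 p := key _ (by rw [← hsum]; exact h.s14)
  have e2 : d2 q = d2 p := key _ (by rw [← hsum]; exact h.s24)
  have e3 : d3 q = d3 p := key _ (by rw [← hsum]; exact h.s34)
  refine ⟨p, q, hpq, hS, by tauto, hdq, key _ w4, e1, e2, e3, ?_⟩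
  have hπ : π p ∈ S4 d4 := by simp [S4, h.p4, hp]
  rw [hS] at hπ
  simp only [mem_insert, mem_singleton] at hπ
  rcases hπ with e | e
  · have := h.p2 p
    rw [e] at this
    exact this.symm
  · exfalso
    have := h.p4 p
    rw [e, hdq] at this
    omega

/-- the number x -/
theorem xval : ∑ i ∈ SA d2 d3, d1 i * d2 i = 2 ∨ ∑ i ∈ SA d2 d3, d1 i * d2 i = 3 := by
  obtain ⟨a, a', haa, hS⟩ := Finset.card_eq_two.1 h.cardSA
  have h1 := h.vSA (i := a) (by rw [hS]; simp)
  have h2 := h.vSA (i := a') (by rw [hS]; simp)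
  have hn := h.numbers.2.2
  have hpos : (0 : ℤ) < ((SZ d1 d2 d3).card : ℤ) := by exact_mod_cast Finset.card_pos.2 ⟨o, h.mem_SZ_o⟩
  rw [hS, Finset.sum_pair haa] at hn ⊢
  generalize ((SZ d1 d2 d3).card : ℤ) = c at hn hpos
  obtain ⟨-, k1, l1⟩ := h1
  obtain ⟨-, k2, l2⟩ := h2
  rcases k1 with k1 | k1 <;> rcases l1 with l1 | l1 <;> rcases k2 with k2 | k2 <;> rcases l2 with l2 | l2 <;>
    rw [l1, l2, k1, k2] at hn ⊢ <;> omega

/-- `π` carries `SB` to `SC` -/
theorem sumSC (F : ι → ℚ) : ∑ i ∈ SC d2 d3, F i = ∑ i ∈ SB d2 d3, F (π i) := by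
  symm
  refine Finset.sum_bij (fun i _ => π i) ?_ (fun a _ b _ e => π.injective e) ?_ (fun i _ => rfl)
  · intro i hi
    simp only [SB, SC, mem_filter, mem_univ, true_and] at hi ⊢
    rw [h.p2, h.p3]
    exact ⟨hi.2, hi.1⟩
  · intro j hj
    simp only [SC, mem_filter, mem_univ, true_and] at hj
    refine ⟨π.symm j, ?_, by simp⟩
    have e2 := h.p2 (π.symm j)
    have e3 := h.p3 (π.symm j)
    rw [π.apply_symm_apply] at e2 e3
    simp only [SB, mem_filter, mem_univ, true_and]
    rw [← e2, ← e3]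
    exact ⟨hj.2, hj.1⟩

end Cols

end Cfsg.Agent.Lib.JanCol
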