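import Cfsg.Agent.Lib.JanCol3

set_option autoImplicit false
set_option linter.all false

/-!
# The eight characters of the principal 2-block (helper17): the order
-/

namespace Cfsg.Agent.Lib.JanCol

open Finset

variable {ι : Type*} [Fintype ι] [DecidableEq ι]
variable {d1 d2 d3 d4 w : ι → ℤ} {o : ι} {π : Equiv.Perm ι} {g : ℤ}

theorem split0 (F : ι → ℚ) (hF : ∀ i, d1 i = 0 → d2 i = 0 → d3 i = 0 → F i = 0) :
    ∑ i, F i = ∑ i ∈ SA d2 d3, F i + ∑ i ∈ SB d2 d3, F i + ∑ i ∈ SC d2 d3, F i + ∑ i ∈ SZ d1 d2 d3, F i := by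
  unfold SA SB SC SZ
  simp only [Finset.sum_filter]
  rw [← Finset.sum_add_distrib, ← Finset.sum_add_distrib, ← Finset.sum_add_distrib]
  refine Finset.sum_congr rfl fun i _ => ?_
  by_cases h2 : d2 i = 0 <;> by_cases h3 : d3 i = 0 <;> by_cases h1 : d1 i = 0 <;> simp [h1, h2, h3]
  exact hF i h1 h2 h3

/-- summand of the first equation -/
def FX (d1 d2 d3 d4 w : ι → ℤ) (i : ι) : ℚ :=
  (((d1 i + 2 * d2 i + 2 * d3 i + 4 * d4 i) ^ 2 * (d1 i - d2 i - d3 i + d4 i) : ℤ) : ℚ) / (w i : ℚ)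
/-- summand of the second equation -/
def FZ (d1 d2 d3 d4 w : ι → ℤ) (i : ι) : ℚ :=
  (((d1 i + 2 * d2 i + 2 * d3 i + 4 * d4 i) ^ 2 * (2 * d1 i - d2 i - d3 i - 2 * d4 i) : ℤ) : ℚ) / (w i : ℚ)

namespace Cols

variable (h : Cols d1 d2 d3 d4 w o π g)
include h

theorem EX' : (∑ i, FX d1 d2 d3 d4 w i) * g = 86400 := h.EX
theorem EZ' : (∑ i, FZ d1 d2 d3 d4 w i) * g = 288000 := h.EZ

theorem g_pos : 0 < g := by
  rw [← h.sq]
  have : 0 < w o ^ 2 := by rw [h.wo]; norm_num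
  exact lt_of_lt_of_le this (Finset.single_le_sum (f := fun j => w j ^ 2) (fun j _ => sq_nonneg _) (mem_univ o))

theorem wq (i : ι) : (w i : ℚ) ≠ 0 := by exact_mod_cast (h.wpos i).ne'

/-- all `d1 = d2` on `SB` -/
theorem allB (hx : ∑ i ∈ SA d2 d3, d1 i * d2 i = 2) {i : ι} (hi : i ∈ SB d2 d3) : d1 i = d2 i := by
  obtain ⟨b, b', hbb, hS⟩ := Finset.card_eq_two.1 h.cardSB
  have h1 := h.vSB (i := b) (by rw [hS]; simp)
  have h2 := h.vSB (i := b') (by rw [hS]; simp)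
  have hn := h.numbers.1
  rw [hx, hS, Finset.sum_pair hbb] at hn
  obtain ⟨-, k1, l1⟩ := h1
  obtain ⟨-, k2, l2⟩ := h2
  rw [hS] at hi
  simp only [mem_insert, mem_singleton] at hi
  have hb : d1 b = d2 b ∧ d1 b' = d2 b' := by
    rcases k1 with k1 | k1 <;> rcases l1 with l1 | l1 <;> rcases k2 with k2 | k2 <;> rcases l2 with l2 | l2 <;>
      rw [l1, l2, k1, k2] at hn <;> first | omega | exact ⟨l1, l2⟩
  rcases hi with rfl | rfl
  · exact hb.1
  · exact hb.2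

theorem allC (hx : ∑ i ∈ SA d2 d3, d1 i * d2 i = 2) {i : ι} (hi : i ∈ SC d2 d3) : d1 i = d3 i := by
  have : π.symm i ∈ SB d2 d3 := by
    simp only [SC, mem_filter, mem_univ, true_and] at hi
    have e2 := h.p2 (π.symm i)
    have e3 := h.p3 (π.symm i)
    rw [π.apply_symm_apply] at e2 e3
    simp only [SB, mem_filter, mem_univ, true_and]
    rw [← e2, ← e3]
    exact ⟨hi.2, hi.1⟩
  have h1 := h.allB hx this
  have e1 := h.p1 (π.symm i)
  have e3 := h.p3 (π.symm i)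
  rw [π.apply_symm_apply] at e1 e3
  rw [e1, e3]; exact h1

theorem allA (hx : ∑ i ∈ SA d2 d3, d1 i * d2 i = 2) {i : ι} (hi : i ∈ SA d2 d3) : d1 i = d2 i := by
  obtain ⟨b, b', hbb, hS⟩ := Finset.card_eq_two.1 h.cardSA
  have h1 := h.vSA (i := b) (by rw [hS]; simp)
  have h2 := h.vSA (i := b') (by rw [hS]; simp)
  rw [hS, Finset.sum_pair hbb] at hx
  obtain ⟨-, k1, l1⟩ := h1
  obtain ⟨-, k2, l2⟩ := h2
  rw [hS] at hi
  simp only [mem_insert, mem_singleton] at hi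
  have hb : d1 b = d2 b ∧ d1 b' = d2 b' := by
    rcases k1 with k1 | k1 <;> rcases l1 with l1 | l1 <;> rcases k2 with k2 | k2 <;> rcases l2 with l2 | l2 <;>
      rw [l1, l2, k1, k2] at hx <;> first | omega | exact ⟨l1, l2⟩
  rcases hi with rfl | rfl
  · exact hb.1
  · exact hb.2

/-- the degree relations in case `x = 2` -/
theorem rel2 (hx : ∑ i ∈ SA d2 d3, d1 i * d2 i = 2) :
    ∑ i ∈ SA d2 d3, d2 i * w i + ∑ i ∈ SB d2 d3, d2 i * w i = 0 ∧
    ∑ i ∈ SZ d1 d2 d3, d1 i * w i = ∑ i ∈ SA d2 d3, d2 i * w i := by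
  have e1 := h.split1 (fun i => d1 i * w i) (fun i h1 h2 h3 => by simp [h1])
  have e2 := h.split1 (fun i => d2 i * w i) (fun i h1 h2 h3 => by simp [h2])
  have e3 := h.split1 (fun i => d3 i * w i) (fun i h1 h2 h3 => by simp [h3])
  rw [h.w1] at e1
  rw [h.w2] at e2
  rw [h.w3] at e3
  have c1 : ∑ i ∈ SC d2 d3, d2 i * w i = 0 := Finset.sum_eq_zero fun i hi => by rw [(h.vSC hi).1, zero_mul]
  have c2 : ∑ i ∈ SZ d1 d2 d3, d2 i * w i = 0 := Finset.sum_eq_zero fun i hi => by rw [(h.vSZ hi).1, zero_mul]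
  have c3 : ∑ i ∈ SB d2 d3, d3 i * w i = 0 := Finset.sum_eq_zero fun i hi => by rw [(h.vSB hi).1, zero_mul]
  have c4 : ∑ i ∈ SZ d1 d2 d3, d3 i * w i = 0 := Finset.sum_eq_zero fun i hi => by rw [(h.vSZ hi).2.1, zero_mul]
  have c5 : ∑ i ∈ SA d2 d3, d3 i * w i = ∑ i ∈ SA d2 d3, d2 i * w i :=
    Finset.sum_congr rfl fun i hi => by rw [(h.vSA hi).1]
  have c6 : ∑ i ∈ SA d2 d3, d1 i * w i = ∑ i ∈ SA d2 d3, d2 i * w i :=
    Finset.sum_congr rfl fun i hi => by rw [h.allA hx hi]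
  have c7 : ∑ i ∈ SB d2 d3, d1 i * w i = ∑ i ∈ SB d2 d3, d2 i * w i :=
    Finset.sum_congr rfl fun i hi => by rw [h.allB hx hi]
  have c8 : ∑ i ∈ SC d2 d3, d1 i * w i = ∑ i ∈ SC d2 d3, d3 i * w i :=
    Finset.sum_congr rfl fun i hi => by rw [h.allC hx hi]
  constructor <;> linarith

/-- the second element of `SZ` -/
theorem exists_r (hx : ∑ i ∈ SA d2 d3, d1 i * d2 i = 2) : ∃ r, o ≠ r ∧ SZ d1 d2 d3 = {o, r} := by
  have hc : (SZ d1 d2 d3).card = 2 := by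
    have := h.numbers.2.2
    rw [hx] at this
    have h2 : ((SZ d1 d2 d3).card : ℤ) = 2 := by linarith
    exact_mod_cast h2
  obtain ⟨x, y, hxy, hS⟩ := Finset.card_eq_two.1 hc
  have ho := h.mem_SZ_o
  rw [hS] at ho
  simp only [mem_insert, mem_singleton] at ho
  rcases ho with rfl | rfl
  · exact ⟨y, hxy, hS⟩
  · exact ⟨x, hxy.symm, by rw [hS, Finset.pair_comm]⟩

/-- case I : the characters of the block of defect one are the two of `SA` -/
theorem caseI {p q : ι} (hpq : p ≠ q) (hS4 : S4 d4 = {p, q}) (hp : d4 p = 1 ∨ d4 p = -1) (hq : d4 q = -d4 p)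
    (hw : w q = w p) (h1 : d1 q = d1 p) (h2 : d2 q = d2 p) (h3 : d3 q = d3 p) (h32 : d3 p = d2 p)
    (hne : d2 p ≠ 0) : False := by
  have hpA : p ∈ SA d2 d3 := by simp [SA, hne, h32]
  have hqA : q ∈ SA d2 d3 := by simp [SA, h2, h3, hne, h32]
  have hSA : SA d2 d3 = {p, q} := by
    symm
    apply Finset.eq_of_subset_of_card_le
    · intro i hi
      simp only [mem_insert, mem_singleton] at hi
      rcases hi with rfl | rfl <;> assumption
    · rw [h.cardSA, Finset.card_pair hpq]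
  have hx : ∑ i ∈ SA d2 d3, d1 i * d2 i = 2 := by
    rcases h.xval with e | e
    · exact e
    · exfalso
      rw [hSA, Finset.sum_pair hpq, h1, h2] at e
      omega
  have hd4 : ∀ i, i ∉ SA d2 d3 → d4 i = 0 := by
    intro i hi
    by_contra hc
    apply hi
    rw [hSA, ← hS4]
    simp [S4, hc]
  have e1p := h.allA hx hpA
  obtain ⟨r, hor, hSZ⟩ := h.exists_r hx
  have hrZ : r ∈ SZ d1 d2 d3 := by rw [hSZ]; simp
  have hoZ := h.mem_SZ_o
  obtain ⟨rel_a, rel_b⟩ := h.rel2 hx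
  rw [hSZ, Finset.sum_pair hor, hSA, Finset.sum_pair hpq, h2, hw, h.o1, h.wo] at rel_b
  -- EX
  have hEX := h.EX'
  rw [split0 (d1 := d1) (d2 := d2) (d3 := d3) (FX d1 d2 d3 d4 w) (fun i a1 a2 a3 => by
    have : d4 i = 0 := hd4 i (by simp [SA, a2])
    simp [FX, a1, a2, a3, this])] at hEX
  have cB : ∑ i ∈ SB d2 d3, FX d1 d2 d3 d4 w i = 0 := Finset.sum_eq_zero fun i hi => by
    have b1 := h.allB hx hi
    have b2 := (h.vSB hi).1
    have b4 : d4 i = 0 := hd4 i (by simp [SA, b2])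
    simp [FX, b1, b2, b4]
  have cC : ∑ i ∈ SC d2 d3, FX d1 d2 d3 d4 w i = 0 := Finset.sum_eq_zero fun i hi => by
    have b1 := h.allC hx hi
    have b2 := (h.vSC hi).1
    have b4 : d4 i = 0 := hd4 i (by simp [SA, b2])
    simp [FX, b1, b2, b4]
  have cZ : ∀ i ∈ SZ d1 d2 d3, FX d1 d2 d3 d4 w i = (d1 i : ℚ) / w i := fun i hi => by
    obtain ⟨b2, b3, b1⟩ := h.vSZ hi
    have b4 : d4 i = 0 := hd4 i (by simp [SA, b2])
    rcases b1 with b1 | b1 <;> simp [FX, b1, b2, b3, b4]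
  have cA : FX d1 d2 d3 d4 w p + FX d1 d2 d3 d4 w q = -2 * (d2 p : ℚ) / w p := by
    have hwq := h.wq p
    unfold FX
    rw [hq, hw, h1, h2, h3, h32, e1p]
    obtain ⟨-, k, -⟩ := h.vSA hpA
    rcases k with k | k <;> rcases hp with l | l <;> rw [k, l] <;> push_cast <;> field_simp <;> norm_num
  rw [hSA, Finset.sum_pair hpq, cA, cB, cC, hSZ, Finset.sum_pair hor, cZ o hoZ, cZ r hrZ, h.o1, h.wo] at hEX
  -- numbers
  obtain ⟨-, k, -⟩ := h.vSA hpA
  obtain ⟨-, -, kr⟩ := h.vSZ hrZ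
  have wp0 := h.wpos p
  have wr0 := h.wpos r
  have hwp := h.wq p
  have hwr := h.wq r
  have m8 := h.mod8 p
  rw [h32, e1p] at m8
  refine JanNum.caseA1 (a := d2 p * w p) (g := g) ?_ h.g8 ?_
  · rcases k with k | k <;> rcases hp with l | l <;> rw [k, l] at m8 <;> rw [k] <;> omega
  · -- 1 + d_r w_r = 2 d2 w
    have hd : d1 r * w r = 2 * (d2 p * w p) - 1 := by linarith
    have hsq2 : d2 p * d2 p = 1 := by rcases k with k | k <;> rw [k] <;> norm_num
    have hsqr : d1 r * d1 r = 1 := by rcases kr with k | k <;> rw [k] <;> norm_num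
    have q1 : (d2 p : ℚ) / w p = 1 / ((d2 p * w p : ℤ) : ℚ) := by
      have : (d2 p : ℚ) * d2 p = 1 := by exact_mod_cast hsq2
      have hne : (d2 p : ℚ) ≠ 0 := by exact_mod_cast hne
      push_cast
      field_simp
      linarith
    have q2 : (d1 r : ℚ) / w r = 1 / ((d1 r * w r : ℤ) : ℚ) := by
      have : (d1 r : ℚ) * d1 r = 1 := by exact_mod_cast hsqr
      have hne : (d1 r : ℚ) ≠ 0 := by
        intro h0; rw [h0] at this; norm_num at this
      push_cast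
      field_simp
      linarith
    rw [hd] at q2
    have hEX2 : (-2 * ((d2 p : ℚ) / w p) + (1 + (d1 r : ℚ) / w r)) * g = 86400 := by
      rw [← hEX]; push_cast; ring
    rw [q1, q2] at hEX2
    set a : ℤ := d2 p * w p with ha
    have ha0 : (a : ℚ) ≠ 0 := by
      have : a ≠ 0 := mul_ne_zero hne wp0.ne'
      exact_mod_cast this
    have hd0 : ((2 * a - 1 : ℤ) : ℚ) ≠ 0 := by
      have : (2 * a - 1 : ℤ) ≠ 0 := by omega
      exact_mod_cast this
    push_cast at hEX2 hd0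
    field_simp at hEX2
    have : ((g * (a - 1) ^ 2 : ℤ) : ℚ) = ((43200 * (a * (2 * a - 1)) : ℤ) : ℚ) := by
      push_cast
      linarith
    exact_mod_cast this

end Cols

end Cfsg.Agent.Lib.JanCol
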