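import Cfsg.Agent.Lib.JanNum

set_option autoImplicit false
set_option linter.all false

/-!
# Arithmetic for the order of Janko's first group (helper17), part 2
-/

namespace Cfsg.Agent.Lib.JanNum

theorem tst_of {a1 a2 : ℤ} (h1 : a1 % 8 = 5) (h2 : a2 % 8 = 5) (hb1 : |a1| < 1000) (hb2 : |a2| < 1000) :
    tst a1 a2 = true := by
  have hc := check
  rw [List.all_eq_true] at hc
  rw [abs_lt] at hb1 hb2
  have e1 := hc ((a1 + 1003) / 8).toNat (by rw [List.mem_range]; omega)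
  rw [List.all_eq_true] at e1
  have e2 := e1 ((a2 + 1003) / 8).toNat (by rw [List.mem_range]; omega)
  have i1 : 8 * ((((a1 + 1003) / 8).toNat : ℕ) : ℤ) - 1003 = a1 := by omega
  have i2 : 8 * ((((a2 + 1003) / 8).toNat : ℕ) : ℤ) - 1003 = a2 := by omega
  rw [i1, i2] at e2
  exact e2

theorem bound {a1 a2 d g : ℤ} (h1 : a1 + a2 = 1 + d) (m1 : a1 % 8 = 5) (m2 : a2 % 8 = 5)
    (s1 : 7 ≤ |a1|) (s2 : 7 ≤ |a2|) (s3 : 7 ≤ |d|) (hle : |a1| ≤ |a2|)
    (hsq : a1 ^ 2 + a2 ^ 2 + d ^ 2 + 1 ≤ g)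
    (hX : g * ((1 + d) * (a1 * a2 - 25 * d)) = 86400 * d * a1 * a2) : |a2| < 1000 := by
  by_contra hA
  push Not at hA
  have hg : a2 ^ 2 < g := by nlinarith [sq_nonneg a1, sq_nonneg d]
  have hg0 : 0 < g := by nlinarith [sq_nonneg a2]
  have habs : g * (|1 + d| * |a1 * a2 - 25 * d|) = 86400 * |d| * |a1| * |a2| := by
    have := congrArg abs hX
    rw [abs_mul, abs_mul, abs_mul, abs_mul, abs_mul, abs_of_pos hg0] at this
    rw [this]; norm_num
  have hA0 : 0 < |a2| := by linarith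
  have hd1 : 6 * |d| ≤ 7 * |1 + d| := by
    rcases le_or_gt 0 d with h | h
    · rw [abs_of_nonneg h] at s3 ⊢
      rw [abs_of_nonneg (by linarith)]; linarith
    · rw [abs_of_neg h] at s3 ⊢
      rw [abs_of_nonpos (by linarith)]; linarith
  have hm0 : 0 < |1 + d| := by linarith
  have hp : 4 ≤ |a1 - 25| := by
    rcases le_or_gt 0 (a1 - 25) with h | h
    · rw [abs_of_nonneg h]; omega
    · rw [abs_of_neg h]; omega
  have hq : |a2| - 25 ≤ |a2 - 25| := by
    have := abs_sub_abs_le_abs_sub a2 25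
    norm_num at this ⊢
    linarith
  have hp2 : |a1| ≤ |a1 - 25| + 25 := by
    have := abs_sub_abs_le_abs_sub a1 (-(-25))
    have h3 : |a1| = |(a1 - 25) + 25| := by ring_nf
    rw [h3]
    calc |a1 - 25 + 25| ≤ |a1 - 25| + |(25 : ℤ)| := abs_add_le _ _
      _ = _ := by norm_num
  have hden : |a1 - 25| * |a2 - 25| - 600 ≤ |a1 * a2 - 25 * d| := by
    have e : a1 * a2 - 25 * d = (a1 - 25) * (a2 - 25) - 600 := by
      have : d = a1 + a2 - 1 := by linarith
      rw [this]; ring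
    rw [e, ← abs_mul]
    have := abs_sub_abs_le_abs_sub ((a1 - 25) * (a2 - 25)) 600
    norm_num at this ⊢
    linarith
  set A := |a2| with hAdef
  set p := |a1 - 25| with hpdef
  set q := |a2 - 25| with hqdef
  set D := |a1 * a2 - 25 * d| with hDdef
  set M := |1 + d| with hMdef
  have hDnn : 0 ≤ D := abs_nonneg _
  -- A * M * D < 86400 |d| |a1|
  have hAA : A ^ 2 = a2 ^ 2 := by rw [hAdef]; exact sq_abs a2
  have hDpos : 0 < D := by
    have : 975 ≤ q := by linarith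
    nlinarith
  have k1 : A ^ 2 * (M * D) < 86400 * |d| * |a1| * A := by
    rw [← habs, hAA]
    exact mul_lt_mul_of_pos_right hg (by positivity)
  have k2 : A * (M * D) < 86400 * |d| * |a1| := by
    have : A * (A * (M * D)) < A * (86400 * |d| * |a1|) := by
      calc A * (A * (M * D)) = A ^ 2 * (M * D) := by ring
        _ < 86400 * |d| * |a1| * A := k1
        _ = _ := by ring
    exact lt_of_mul_lt_mul_left this hA0.le
  have k3 : A * D < 100800 * |a1| := by
    have ha0 : 0 ≤ |a1| := abs_nonneg _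
    have : M * (A * D) < M * (100800 * |a1|) := by
      calc M * (A * D) = A * (M * D) := by ring
        _ < 86400 * |d| * |a1| := k2
        _ = 14400 * |a1| * (6 * |d|) := by ring
        _ ≤ 14400 * |a1| * (7 * M) := mul_le_mul_of_nonneg_left hd1 (by positivity)
        _ = _ := by ring
    exact lt_of_mul_lt_mul_left this hm0.le
  have hq2 : 975 ≤ q := by linarith
  have k4 : 975 * p - 600 ≤ D := by
    have : 975 * p ≤ p * q := by nlinarith
    linarith
  have k5 : 1000 * (975 * p - 600) ≤ A * D := by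
    have h0 : 0 ≤ 975 * p - 600 := by linarith
    exact mul_le_mul hA k4 h0 (by linarith)
  linarith

theorem caseA0 {a1 a2 b1 b2 d g : ℤ} (h1 : a1 + a2 = 1 + d) (h2 : b1 + b2 = -(1 + d))
    (m1 : a1 % 8 = 5) (m2 : a2 % 8 = 5)
    (s1 : 7 ≤ |a1|) (s2 : 7 ≤ |a2|) (s3 : 7 ≤ |d|) (hg8 : g % 8 = 0)
    (hsq : a1 ^ 2 + a2 ^ 2 + d ^ 2 + 1 ≤ g)
    (hX : g * ((1 + d) * (a1 * a2 - 25 * d)) = 86400 * d * a1 * a2)
    (hB : b1 * b2 * (144000 * d - (1 + d) * g) = -9 * (1 + d) * g * d) :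
    g = 175560 ∨ g = 189000 := by
  wlog hle : |a1| ≤ |a2| generalizing a1 a2 with H
  · exact H (by linarith) m2 m1 s2 s1 (by linarith) (by rw [mul_comm a2 a1]; rw [hX]; ring) (le_of_not_ge hle)
  have hb2 := bound h1 m1 m2 s1 s2 s3 hle hsq hX
  have hb1 : |a1| < 1000 := lt_of_le_of_lt hle hb2
  have ht := tst_of m1 m2 hb1 hb2
  have hd : d = a1 + a2 - 1 := by linarith
  have hm : (1 + d) = a1 + a2 := by linarith
  rw [hm, hd] at hX hB
  rw [hm] at h2
  rw [hd] at hsq s3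
  have hd0 : a1 + a2 - 1 ≠ 0 := by
    intro h; rw [h] at s3; norm_num at s3
  have ha1 : a1 ≠ 0 := by rintro rfl; norm_num at s1
  have ha2 : a2 ≠ 0 := by rintro rfl; norm_num at s2
  have hg0 : 0 < g := by nlinarith [sq_nonneg a1, sq_nonneg a2, sq_nonneg (a1 + a2 - 1)]
  have hnum : 86400 * (a1 + a2 - 1) * a1 * a2 ≠ 0 :=
    mul_ne_zero (mul_ne_zero (mul_ne_zero (by norm_num) hd0) ha1) ha2
  have hm0 : a1 + a2 ≠ 0 := by
    intro h; rw [h] at hX; apply hnum; rw [h]; linear_combination -hX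
  have hden : a1 * a2 - 25 * (a1 + a2 - 1) ≠ 0 := by
    intro h; rw [h] at hX; apply hnum; linear_combination -hX
  refine of_tst ht (sq_le_sq.2 hle) hm0 hden hg0 hg8 hsq hX hd0 (B := b1 * b2) hB ?_
  have : (a1 + a2) ^ 2 - 4 * (b1 * b2) = (b1 - b2) ^ 2 := by
    have e : a1 + a2 = -(b1 + b2) := by linarith
    rw [e]; ring
  rw [this]; positivity

end Cfsg.Agent.Lib.JanNum
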