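import Cfsg.Agent.Lib.JanCol4
import Cfsg.Agent.Lib.JanNum2

set_option autoImplicit false
set_option linter.all false

/-!
# The eight characters of the principal 2-block (helper17): the order, main cases
-/

namespace Cfsg.Agent.Lib.JanCol

open Finset

variable {ι : Type*} [Fintype ι] [DecidableEq ι]
variable {d1 d2 d3 d4 w : ι → ℤ} {o : ι} {π : Equiv.Perm ι} {g : ℤ}

theorem div_sgn {s w : ℤ} (hs : s = 1 ∨ s = -1) (hw : (w : ℚ) ≠ 0) : (s : ℚ) / w = 1 / ((s * w : ℤ) : ℚ) := by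
  rcases hs with e | e <;> rw [e] <;> push_cast <;> field_simp

theorem abs_sgn {s w : ℤ} (hs : s = 1 ∨ s = -1) (hw : 0 < w) : |s * w| = w := by
  rcases hs with e | e <;> rw [e]
  · rw [one_mul, abs_of_pos hw]
  · rw [neg_one_mul, abs_neg, abs_of_pos hw]

theorem sq_sgn {s w : ℤ} (hs : s = 1 ∨ s = -1) : (s * w) ^ 2 = w ^ 2 := by
  rcases hs with e | e <;> rw [e] <;> ring

namespace Cols

variable (h : Cols d1 d2 d3 d4 w o π g)
include h

theorem cardZ_le : (SZ d1 d2 d3).card ≤ 2 := by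
  have := h.numbers.2.2
  rcases h.xval with e | e
  · rw [e] at this; have h2 : ((SZ d1 d2 d3).card : ℤ) ≤ 2 := by linarith
    exact_mod_cast h2
  · rw [e] at this; have h2 : ((SZ d1 d2 d3).card : ℤ) ≤ 2 := by linarith
    exact_mod_cast h2

/-- sum of squares over two disjoint sets -/
theorem sq_le {S T : Finset ι} (hd : Disjoint S T) : ∑ i ∈ S, w i ^ 2 + ∑ i ∈ T, w i ^ 2 ≤ g := by
  rw [← h.sq, ← Finset.sum_union hd]
  exact Finset.sum_le_univ_sum_of_nonneg fun i => sq_nonneg _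

theorem disj_AZ : Disjoint (SA d2 d3) (SZ d1 d2 d3) := by
  rw [Finset.disjoint_left]
  intro i hi hj
  simp only [SA, SZ, mem_filter, mem_univ, true_and] at hi hj
  exact hi.1 hj.1

theorem disj_AB : Disjoint (SA d2 d3) (SB d2 d3) := by
  rw [Finset.disjoint_left]
  intro i hi hj
  simp only [SA, SB, mem_filter, mem_univ, true_and] at hi hj
  exact hi.2 hj.2

theorem o_notin_A : o ∉ SA d2 d3 := by simp [SA, h.o2]
theorem o_notin_B : o ∉ SB d2 d3 := by simp [SB, h.o2]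

theorem mod_A (hd4 : ∀ i, d1 i ≠ 0 ∨ d2 i ≠ 0 → d4 i = 0) {i : ι} (hi : i ∈ SA d2 d3) (h1 : d1 i = d2 i) :
    (d2 i * w i) % 8 = 5 := by
  have m8 := h.mod8 i
  obtain ⟨e3, k, -⟩ := h.vSA hi
  have e4 : d4 i = 0 := hd4 i (Or.inr (by omega))
  rw [e3, e4, h1] at m8
  rcases k with k | k <;> rw [k] at m8 ⊢ <;> omega

theorem case2 (hd4 : ∀ i, d4 i ≠ 0 → d1 i = 0 ∧ d2 i = 0 ∧ d3 i = 0)
    (hcan : ∀ c : ℚ, ∑ i ∈ S4 d4, c * d4 i / w i = 0)
    (hx : ∑ i ∈ SA d2 d3, d1 i * d2 i = 2) : g = 175560 ∨ g = 189000 := by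
  have hd4' : ∀ i, d1 i ≠ 0 ∨ d2 i ≠ 0 → d4 i = 0 := by
    intro i hi
    by_contra hc
    obtain ⟨a, b, -⟩ := hd4 i hc
    tauto
  have hd43 : ∀ i, d3 i ≠ 0 → d4 i = 0 := by
    intro i hi
    by_contra hc
    obtain ⟨a, b, c⟩ := hd4 i hc
    tauto
  obtain ⟨a, a', haa, hSA⟩ := Finset.card_eq_two.1 h.cardSA
  obtain ⟨b, b', hbb, hSB⟩ := Finset.card_eq_two.1 h.cardSB
  obtain ⟨r, hor, hSZ⟩ := h.exists_r hx
  have maA : a ∈ SA d2 d3 := by rw [hSA]; simp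
  have maA' : a' ∈ SA d2 d3 := by rw [hSA]; simp
  have mbB : b ∈ SB d2 d3 := by rw [hSB]; simp
  have mbB' : b' ∈ SB d2 d3 := by rw [hSB]; simp
  have mrZ : r ∈ SZ d1 d2 d3 := by rw [hSZ]; simp
  have hoZ := h.mem_SZ_o
  obtain ⟨ra3, ra, -⟩ := h.vSA maA
  obtain ⟨ra3', ra', -⟩ := h.vSA maA'
  obtain ⟨rb3, rb, -⟩ := h.vSB mbB
  obtain ⟨rb3', rb', -⟩ := h.vSB mbB'
  obtain ⟨rr2, rr3, rr⟩ := h.vSZ mrZ
  obtain ⟨rel_a, rel_b⟩ := h.rel2 hx
  rw [hSZ, Finset.sum_pair hor, hSA, Finset.sum_pair haa, h.o1, h.wo] at rel_b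
  rw [hSB, Finset.sum_pair hbb, hSA, Finset.sum_pair haa] at rel_a
  -- EX
  have hEX := h.EX'
  rw [split hd4 (FX d1 d2 d3 d4 w) (fun i a1 a2 a3 a4 => by simp [FX, a1, a2, a3, a4])] at hEX
  have cA : ∀ i ∈ SA d2 d3, FX d1 d2 d3 d4 w i = -25 * ((d2 i : ℚ) / w i) := fun i hi => by
    obtain ⟨b3, k, -⟩ := h.vSA hi
    have b1 := h.allA hx hi
    have b4 : d4 i = 0 := hd4' i (Or.inr (by omega))
    rcases k with k | k <;> simp only [FX, b1, b3, b4, k] <;> push_cast <;> ring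
  have cB : ∑ i ∈ SB d2 d3, FX d1 d2 d3 d4 w i = 0 := Finset.sum_eq_zero fun i hi => by
    have b1 := h.allB hx hi
    obtain ⟨b2, k, -⟩ := h.vSB hi
    have b4 : d4 i = 0 := hd4' i (Or.inr (by omega))
    simp [FX, b1, b2, b4]
  have cC : ∑ i ∈ SC d2 d3, FX d1 d2 d3 d4 w i = 0 := Finset.sum_eq_zero fun i hi => by
    have b1 := h.allC hx hi
    obtain ⟨b2, k, -⟩ := h.vSC hi
    have b4 : d4 i = 0 := hd43 i (by omega)
    simp [FX, b1, b2, b4]
  have cZ : ∀ i ∈ SZ d1 d2 d3, FX d1 d2 d3 d4 w i = (d1 i : ℚ) / w i := fun i hi => by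
    obtain ⟨b2, b3, b1⟩ := h.vSZ hi
    have b4 : d4 i = 0 := hd4' i (Or.inl (by omega))
    rcases b1 with b1 | b1 <;> simp [FX, b1, b2, b3, b4]
  have c4 : ∑ i ∈ S4 d4, FX d1 d2 d3 d4 w i = 0 := by
    rw [← hcan 16]
    refine Finset.sum_congr rfl fun i hi => ?_
    have hi' : d4 i ≠ 0 := by simpa [S4] using hi
    obtain ⟨b1, b2, b3⟩ := hd4 i hi'
    have b4 := h.v4 i
    rcases b4 with b4 | b4 | b4
    · exact absurd b4 hi'
    · simp only [FX, b1, b2, b3, b4]; push_cast; ring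
    · simp only [FX, b1, b2, b3, b4]; push_cast; ring
  rw [hSA, Finset.sum_pair haa, cA a maA, cA a' maA', cB, cC, c4, hSZ, Finset.sum_pair hor, cZ o hoZ, cZ r mrZ, h.o1,
    h.wo] at hEX
  -- EZ
  have hEZ := h.EZ'
  rw [split hd4 (FZ d1 d2 d3 d4 w) (fun i a1 a2 a3 a4 => by simp [FZ, a1, a2, a3, a4])] at hEZ
  have dA : ∑ i ∈ SA d2 d3, FZ d1 d2 d3 d4 w i = 0 := Finset.sum_eq_zero fun i hi => by
    obtain ⟨b3, k, -⟩ := h.vSA hi
    have b1 := h.allA hx hi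
    have b4 : d4 i = 0 := hd4' i (Or.inr (by omega))
    rcases k with k | k <;> simp [FZ, b1, b3, b4, k]
  have dB : ∀ i ∈ SB d2 d3, FZ d1 d2 d3 d4 w i = 9 * ((d2 i : ℚ) / w i) := fun i hi => by
    have b1 := h.allB hx hi
    obtain ⟨b2, k, -⟩ := h.vSB hi
    have b4 : d4 i = 0 := hd4' i (Or.inr (by omega))
    rcases k with k | k <;> simp only [FZ, b1, b2, b4, k] <;> push_cast <;> ring
  have dC : ∀ i ∈ SC d2 d3, FZ d1 d2 d3 d4 w i = 9 * ((d3 i : ℚ) / w i) := fun i hi => by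
    have b1 := h.allC hx hi
    obtain ⟨b2, k, -⟩ := h.vSC hi
    have b4 : d4 i = 0 := hd43 i (by omega)
    rcases k with k | k <;> simp only [FZ, b1, b2, b4, k] <;> push_cast <;> ring
  have dZ : ∀ i ∈ SZ d1 d2 d3, FZ d1 d2 d3 d4 w i = 2 * ((d1 i : ℚ) / w i) := fun i hi => by
    obtain ⟨b2, b3, b1⟩ := h.vSZ hi
    have b4 : d4 i = 0 := hd4' i (Or.inl (by omega))
    rcases b1 with b1 | b1 <;> simp only [FZ, b1, b2, b3, b4] <;> push_cast <;> ring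
  have d4s : ∑ i ∈ S4 d4, FZ d1 d2 d3 d4 w i = 0 := by
    rw [← hcan (-32)]
    refine Finset.sum_congr rfl fun i hi => ?_
    have hi' : d4 i ≠ 0 := by simpa [S4] using hi
    obtain ⟨b1, b2, b3⟩ := hd4 i hi'
    have b4 := h.v4 i
    rcases b4 with b4 | b4 | b4
    · exact absurd b4 hi'
    · simp only [FZ, b1, b2, b3, b4]; push_cast; ring
    · simp only [FZ, b1, b2, b3, b4]; push_cast; ring
  have dC' : ∑ i ∈ SC d2 d3, FZ d1 d2 d3 d4 w i = 9 * ((d2 b : ℚ) / w b) + 9 * ((d2 b' : ℚ) / w b') := by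
    rw [h.sumSC, hSB, Finset.sum_pair hbb]
    have t1 : π b ∈ SC d2 d3 := by
      simp only [SB, SC, mem_filter, mem_univ, true_and] at mbB ⊢
      rw [h.p2, h.p3]; exact ⟨mbB.2, mbB.1⟩
    have t2 : π b' ∈ SC d2 d3 := by
      simp only [SB, SC, mem_filter, mem_univ, true_and] at mbB' ⊢
      rw [h.p2, h.p3]; exact ⟨mbB'.2, mbB'.1⟩
    rw [dC _ t1, dC _ t2, h.p3, h.p3, h.pw, h.pw]
  rw [dA, hSB, Finset.sum_pair hbb, dB b mbB, dB b' mbB', dC', d4s, hSZ, Finset.sum_pair hor, dZ o hoZ, dZ r mrZ, h.o1,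
    h.wo] at hEZ
  -- numbers
  have ma := h.mod_A hd4' maA (h.allA hx maA)
  have ma' := h.mod_A hd4' maA' (h.allA hx maA')
  have wa := h.w7 a (fun e => h.o_notin_A (e ▸ maA))
  have wa' := h.w7 a' (fun e => h.o_notin_A (e ▸ maA'))
  have wr := h.w7 r (fun e => hor e.symm)
  have sA := abs_sgn ra (h.wpos a)
  have sA' := abs_sgn ra' (h.wpos a')
  have sR := abs_sgn rr (h.wpos r)
  have qa := div_sgn ra (h.wq a)
  have qa' := div_sgn ra' (h.wq a')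
  have qb := div_sgn rb (h.wq b)
  have qb' := div_sgn rb' (h.wq b')
  have qr := div_sgn rr (h.wq r)
  have hsq := h.sq_le h.disj_AZ
  rw [hSA, Finset.sum_pair haa, hSZ, Finset.sum_pair hor, h.wo, ← sq_sgn (w := w a) ra, ← sq_sgn (w := w a') ra',
    ← sq_sgn (w := w r) rr] at hsq
  rw [qa, qa', qr] at hEX
  rw [qb, qb', qr] at hEZ
  have na : ((d2 a * w a : ℤ) : ℚ) ≠ 0 := by
    have : d2 a * w a ≠ 0 := fun e => by rw [e] at sA; simp at sA; omega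
    exact_mod_cast this
  have na' : ((d2 a' * w a' : ℤ) : ℚ) ≠ 0 := by
    have : d2 a' * w a' ≠ 0 := fun e => by rw [e] at sA'; simp at sA'; omega
    exact_mod_cast this
  have nb : ((d2 b * w b : ℤ) : ℚ) ≠ 0 := by
    have : d2 b * w b ≠ 0 := mul_ne_zero (by omega) (h.wpos b).ne'
    exact_mod_cast this
  have nb' : ((d2 b' * w b' : ℤ) : ℚ) ≠ 0 := by
    have : d2 b' * w b' ≠ 0 := mul_ne_zero (by omega) (h.wpos b').ne'
    exact_mod_cast this
  have nr : ((d1 r * w r : ℤ) : ℚ) ≠ 0 := by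
    have : d1 r * w r ≠ 0 := fun e => by rw [e] at sR; simp at sR; omega
    exact_mod_cast this
  generalize d2 a * w a = a1 at *
  generalize d2 a' * w a' = a2 at *
  generalize d2 b * w b = b1 at *
  generalize d2 b' * w b' = b2 at *
  generalize d1 r * w r = d at *
  refine JanNum.caseA0 (a1 := a1) (a2 := a2) (b1 := b1) (b2 := b2) (d := d) (g := g) (by linarith) (by linarith) ma ma'
    (by rw [sA]; exact wa) (by rw [sA']; exact wa') (by rw [sR]; exact wr) h.g8 (by linarith) ?_ ?_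
  · have hs : ((a1 + a2 : ℤ) : ℚ) = ((1 + d : ℤ) : ℚ) := by exact_mod_cast (by linarith : a1 + a2 = 1 + d)
    push_cast at hs hEX
    field_simp at hEX
    have : ((g * ((1 + d) * (a1 * a2 - 25 * d)) : ℤ) : ℚ) = ((86400 * d * a1 * a2 : ℤ) : ℚ) := by
      push_cast
      linear_combination hEX + (25 : ℚ) * g * d * hs
    exact_mod_cast this
  · have hs : ((b1 + b2 : ℤ) : ℚ) = ((-(1 + d) : ℤ) : ℚ) := by exact_mod_cast (by linarith : b1 + b2 = -(1 + d))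
    push_cast at hs hEZ
    field_simp at hEZ
    have : ((b1 * b2 * (144000 * d - (1 + d) * g) : ℤ) : ℚ) = ((-9 * (1 + d) * g * d : ℤ) : ℚ) := by
      push_cast
      linear_combination (-1/2 : ℚ) * hEZ + (9 : ℚ) * g * d * hs
    exact_mod_cast this

end Cols

end Cfsg.Agent.Lib.JanCol
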