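import Cfsg.Agent.Lib.JanCol5

set_option autoImplicit false
set_option linter.all false

/-!
# The eight characters of the principal 2-block (helper17): the order, last case and conclusion
-/

namespace Cfsg.Agent.Lib.JanCol

open Finset

variable {ι : Type*} [Fintype ι] [DecidableEq ι]
variable {d1 d2 d3 d4 w : ι → ℤ} {o : ι} {π : Equiv.Perm ι} {g : ℤ}

namespace Cols

variable (h : Cols d1 d2 d3 d4 w o π g)
include h

/-- pattern of `SA` -/
theorem patA (hx : ∑ i ∈ SA d2 d3, d1 i * d2 i = 3) :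
    ∃ a a', a ≠ a' ∧ SA d2 d3 = {a, a'} ∧ d1 a = 2 * d2 a ∧ d1 a' = d2 a' := by
  obtain ⟨b, b', hbb, hS⟩ := Finset.card_eq_two.1 h.cardSA
  have h1 := h.vSA (i := b) (by rw [hS]; simp)
  have h2 := h.vSA (i := b') (by rw [hS]; simp)
  rw [hS, Finset.sum_pair hbb] at hx
  obtain ⟨-, k1, l1⟩ := h1
  obtain ⟨-, k2, l2⟩ := h2
  have hb : (d1 b = 2 * d2 b ∧ d1 b' = d2 b') ∨ (d1 b' = 2 * d2 b' ∧ d1 b = d2 b) := by
    rcases l1 with l1 | l1 <;> rcases l2 with l2 | l2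
    · exfalso
      rcases k1 with k1 | k1 <;> rcases k2 with k2 | k2 <;> rw [l1, l2, k1, k2] at hx <;> omega
    · exact Or.inr ⟨l2, l1⟩
    · exact Or.inl ⟨l1, l2⟩
    · exfalso
      rcases k1 with k1 | k1 <;> rcases k2 with k2 | k2 <;> rw [l1, l2, k1, k2] at hx <;> omega
  rcases hb with ⟨e1, e2⟩ | ⟨e1, e2⟩
  · exact ⟨b, b', hbb, hS, e1, e2⟩
  · exact ⟨b', b, hbb.symm, by rw [hS, Finset.pair_comm], e1, e2⟩

/-- pattern of `SB` -/
theorem patB (hx : ∑ i ∈ SA d2 d3, d1 i * d2 i = 3) :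
    ∃ a a', a ≠ a' ∧ SB d2 d3 = {a, a'} ∧ d1 a = 0 ∧ d1 a' = d2 a' := by
  obtain ⟨b, b', hbb, hS⟩ := Finset.card_eq_two.1 h.cardSB
  have h1 := h.vSB (i := b) (by rw [hS]; simp)
  have h2 := h.vSB (i := b') (by rw [hS]; simp)
  have hn := h.numbers.1
  rw [hx, hS, Finset.sum_pair hbb] at hn
  obtain ⟨-, k1, l1⟩ := h1
  obtain ⟨-, k2, l2⟩ := h2
  have hb : (d1 b = 0 ∧ d1 b' = d2 b') ∨ (d1 b' = 0 ∧ d1 b = d2 b) := by
    rcases l1 with l1 | l1 <;> rcases l2 with l2 | l2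
    · exfalso
      rcases k1 with k1 | k1 <;> rcases k2 with k2 | k2 <;> rw [l1, l2, k1, k2] at hn <;> omega
    · exact Or.inr ⟨l2, l1⟩
    · exact Or.inl ⟨l1, l2⟩
    · exfalso
      rcases k1 with k1 | k1 <;> rcases k2 with k2 | k2 <;> rw [l1, l2] at hn <;> omega
  rcases hb with ⟨e1, e2⟩ | ⟨e1, e2⟩
  · exact ⟨b, b', hbb, hS, e1, e2⟩
  · exact ⟨b', b, hbb.symm, by rw [hS, Finset.pair_comm], e1, e2⟩

theorem SZ_one (hx : ∑ i ∈ SA d2 d3, d1 i * d2 i = 3) : SZ d1 d2 d3 = {o} := by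
  have hc : (SZ d1 d2 d3).card = 1 := by
    have := h.numbers.2.2
    rw [hx] at this
    have h2 : ((SZ d1 d2 d3).card : ℤ) = 1 := by linarith
    exact_mod_cast h2
  obtain ⟨x, hS⟩ := Finset.card_eq_one.1 hc
  have ho := h.mem_SZ_o
  rw [hS, mem_singleton] at ho
  rw [hS, ho]

theorem case3 (hd4 : ∀ i, d4 i ≠ 0 → d1 i = 0 ∧ d2 i = 0 ∧ d3 i = 0)
    (hcan : ∀ c : ℚ, ∑ i ∈ S4 d4, c * d4 i / w i = 0)
    (hx : ∑ i ∈ SA d2 d3, d1 i * d2 i = 3) : False := by
  have hd4' : ∀ i, d1 i ≠ 0 ∨ d2 i ≠ 0 ∨ d3 i ≠ 0 → d4 i = 0 := by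
    intro i hi
    by_contra hc
    obtain ⟨a, b, c⟩ := hd4 i hc
    tauto
  obtain ⟨a, a', haa, hSA, ea, ea'⟩ := h.patA hx
  obtain ⟨b, b', hbb, hSB, eb, eb'⟩ := h.patB hx
  have hSZ := h.SZ_one hx
  have maA : a ∈ SA d2 d3 := by rw [hSA]; simp
  have maA' : a' ∈ SA d2 d3 := by rw [hSA]; simp
  have mbB : b ∈ SB d2 d3 := by rw [hSB]; simp
  have mbB' : b' ∈ SB d2 d3 := by rw [hSB]; simp
  obtain ⟨ra3, ra, -⟩ := h.vSA maA
  obtain ⟨ra3', ra', -⟩ := h.vSA maA'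
  obtain ⟨rb3, rb, -⟩ := h.vSB mbB
  obtain ⟨rb3', rb', -⟩ := h.vSB mbB'
  have ra4 : d4 a = 0 := hd4' a (Or.inr (Or.inl (by omega)))
  have ra4' : d4 a' = 0 := hd4' a' (Or.inr (Or.inl (by omega)))
  have rb4 : d4 b = 0 := hd4' b (Or.inr (Or.inl (by omega)))
  have rb4' : d4 b' = 0 := hd4' b' (Or.inr (Or.inl (by omega)))
  have sumZ : ∀ F : ι → ℚ, ∑ i ∈ SC d2 d3, F i = F (π b) + F (π b') := by
    intro F
    rw [h.sumSC, hSB, Finset.sum_pair hbb]
  have sumZz : ∀ F : ι → ℤ, ∑ i ∈ SC d2 d3, F i = F (π b) + F (π b') := by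
    intro F
    have := sumZ (fun i => (F i : ℚ))
    push_cast at this
    exact_mod_cast this
  -- degree relations
  have e1 := h.split1 (fun i => d1 i * w i) (fun i h1 h2 h3 => by simp [h1])
  have e2 := h.split1 (fun i => d2 i * w i) (fun i h1 h2 h3 => by simp [h2])
  rw [h.w1, hSA, Finset.sum_pair haa, hSB, Finset.sum_pair hbb, sumZz, hSZ, Finset.sum_singleton, h.p1, h.p1, h.pw, h.pw,
    ea, ea', eb, eb', h.o1, h.wo] at e1
  rw [h.w2, hSA, Finset.sum_pair haa, hSB, Finset.sum_pair hbb, sumZz, hSZ, Finset.sum_singleton, h.p2, h.p2, h.pw, h.pw,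
    rb3, rb3', h.o2, h.wo] at e2
  -- EX
  have hEX := h.EX'
  rw [split hd4 (FX d1 d2 d3 d4 w) (fun i a1 a2 a3 a4 => by simp [FX, a1, a2, a3, a4])] at hEX
  have c4 : ∑ i ∈ S4 d4, FX d1 d2 d3 d4 w i = 0 := by
    rw [← hcan 16]
    refine Finset.sum_congr rfl fun i hi => ?_
    have hi' : d4 i ≠ 0 := by simpa [S4] using hi
    obtain ⟨b1, b2, b3⟩ := hd4 i hi'
    have b4 := h.v4 i
    rcases b4 with b4 | b4 | b4
    · exact absurd b4 hi'
    · simp only [FX, b1, b2, b3, b4]; push_cast; ring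
    · simp only [FX, b1, b2, b3, b4]; push_cast; ring
  have xa : FX d1 d2 d3 d4 w a = 0 := by simp only [FX, ra3, ra4, ea]; push_cast; ring
  have xa' : FX d1 d2 d3 d4 w a' = -25 * ((d2 a' : ℚ) / w a') := by
    rcases ra' with k | k <;> simp only [FX, ra3', ra4', ea', k] <;> push_cast <;> ring
  have xb : FX d1 d2 d3 d4 w b = -4 * ((d2 b : ℚ) / w b) := by
    rcases rb with k | k <;> simp only [FX, rb3, rb4, eb, k] <;> push_cast <;> ring
  have xb' : FX d1 d2 d3 d4 w b' = 0 := by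
    simp only [FX, rb3', rb4', eb']; push_cast; ring
  have ycb : FX d1 d2 d3 d4 w (π b) = -4 * ((d2 b : ℚ) / w b) := by
    rcases rb with k | k <;> simp only [FX, h.p1, h.p2, h.p3, h.p4, h.pw, rb3, rb4, eb, k] <;> push_cast <;> ring
  have ycb' : FX d1 d2 d3 d4 w (π b') = 0 := by
    simp only [FX, h.p1, h.p2, h.p3, h.p4, h.pw, rb3', rb4', eb']; push_cast; ring
  have xo : FX d1 d2 d3 d4 w o = 1 := by simp [FX, h.o1, h.o2, h.o3, h.o4, h.wo]
  rw [sumZ, hSA, Finset.sum_pair haa, hSB, Finset.sum_pair hbb, c4, hSZ, Finset.sum_singleton, xa, xa', xb, xb', ycb,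
    ycb', xo] at hEX
  -- EZ
  have hEZ := h.EZ'
  rw [split hd4 (FZ d1 d2 d3 d4 w) (fun i a1 a2 a3 a4 => by simp [FZ, a1, a2, a3, a4])] at hEZ
  have d4s : ∑ i ∈ S4 d4, FZ d1 d2 d3 d4 w i = 0 := by
    rw [← hcan (-32)]
    refine Finset.sum_congr rfl fun i hi => ?_
    have hi' : d4 i ≠ 0 := by simpa [S4] using hi
    obtain ⟨b1, b2, b3⟩ := hd4 i hi'
    have b4 := h.v4 i
    rcases b4 with b4 | b4 | b4
    · exact absurd b4 hi'
    · simp only [FZ, b1, b2, b3, b4]; push_cast; ring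
    · simp only [FZ, b1, b2, b3, b4]; push_cast; ring
  have za : FZ d1 d2 d3 d4 w a = 72 * ((d2 a : ℚ) / w a) := by
    rcases ra with k | k <;> simp only [FZ, ra3, ra4, ea, k] <;> push_cast <;> ring
  have za' : FZ d1 d2 d3 d4 w a' = 0 := by
    simp only [FZ, ra3', ra4', ea']; push_cast; ring
  have zb : FZ d1 d2 d3 d4 w b = -4 * ((d2 b : ℚ) / w b) := by
    rcases rb with k | k <;> simp only [FZ, rb3, rb4, eb, k] <;> push_cast <;> ring
  have zb' : FZ d1 d2 d3 d4 w b' = 9 * ((d2 b' : ℚ) / w b') := by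
    rcases rb' with k | k <;> simp only [FZ, rb3', rb4', eb', k] <;> push_cast <;> ring
  have zcb : FZ d1 d2 d3 d4 w (π b) = -4 * ((d2 b : ℚ) / w b) := by
    rcases rb with k | k <;> simp only [FZ, h.p1, h.p2, h.p3, h.p4, h.pw, rb3, rb4, eb, k] <;> push_cast <;> ring
  have zcb' : FZ d1 d2 d3 d4 w (π b') = 9 * ((d2 b' : ℚ) / w b') := by
    rcases rb' with k | k <;> simp only [FZ, h.p1, h.p2, h.p3, h.p4, h.pw, rb3', rb4', eb', k] <;> push_cast <;> ring
  have zo : FZ d1 d2 d3 d4 w o = 2 := by simp [FZ, h.o1, h.o2, h.o3, h.o4, h.wo]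
  rw [sumZ, hSA, Finset.sum_pair haa, hSB, Finset.sum_pair hbb, d4s, hSZ, Finset.sum_singleton, za, za', zb, zb', zcb,
    zcb', zo] at hEZ
  -- numbers
  have mb : (d2 b * w b) % 8 = 2 := by
    have m8 := h.mod8 b
    rw [rb3, rb4, eb] at m8
    rcases rb with k | k <;> rw [k] at m8 ⊢ <;> omega
  have qa := div_sgn ra (h.wq a)
  have qa' := div_sgn ra' (h.wq a')
  have qb := div_sgn rb (h.wq b)
  have qb' := div_sgn rb' (h.wq b')
  have hsq : (d2 a * w a) ^ 2 + (d2 b * w b) ^ 2 ≤ g := by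
    rw [sq_sgn ra, sq_sgn rb]
    have := h.sq_le h.disj_AB
    rw [hSA, Finset.sum_pair haa, hSB, Finset.sum_pair hbb] at this
    nlinarith [sq_nonneg (w a'), sq_nonneg (w b')]
  rw [qa', qb] at hEX
  rw [qa, qb, qb'] at hEZ
  have na0 : d2 a * w a ≠ 0 := mul_ne_zero (by omega) (h.wpos a).ne'
  have na0' : d2 a' * w a' ≠ 0 := mul_ne_zero (by omega) (h.wpos a').ne'
  have nb0 : d2 b * w b ≠ 0 := mul_ne_zero (by omega) (h.wpos b).ne'
  have nb0' : d2 b' * w b' ≠ 0 := mul_ne_zero (by omega) (h.wpos b').ne'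
  have r1 : (d2 a * w a) + (d2 a' * w a') + (d2 b * w b) + (d2 b' * w b') = 0 := by linarith
  have r2 : 1 + 2 * (d2 a * w a) + (d2 a' * w a') + 2 * (d2 b' * w b') = 0 := by linarith
  have na : ((d2 a * w a : ℤ) : ℚ) ≠ 0 := by exact_mod_cast na0
  have na' : ((d2 a' * w a' : ℤ) : ℚ) ≠ 0 := by exact_mod_cast na0'
  have nb : ((d2 b * w b : ℤ) : ℚ) ≠ 0 := by exact_mod_cast nb0
  have nb' : ((d2 b' * w b' : ℤ) : ℚ) ≠ 0 := by exact_mod_cast nb0'
  clear qa qa' qb qb' e1 e2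
  generalize d2 a * w a = A at *
  generalize d2 a' * w a' = A' at *
  generalize d2 b * w b = B at *
  generalize d2 b' * w b' = B' at *
  refine JanNum.caseB (a := A) (a' := A') (b := B) (b' := B') (g := g) r1 r2 mb na0 nb0' na0' hsq ?_ ?_
  · field_simp at hEX
    have : ((g * (A' * B - 25 * B - 8 * A') : ℤ) : ℚ) = ((86400 * (A' * B) : ℤ) : ℚ) := by
      push_cast
      linear_combination hEX
    exact_mod_cast this
  · field_simp at hEZ
    have : ((g * (36 * B * B' - 4 * A * B' + 9 * A * B + A * B * B') : ℤ) : ℚ) = ((144000 * (A * B * B') : ℤ) : ℚ) := by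
      push_cast
      linear_combination (1/2 : ℚ) * hEZ
    exact_mod_cast this

/-- the order -/
theorem order : g = 175560 ∨ g = 189000 := by
  obtain ⟨p, q, hpq, hS4, hp, hq, hw, h1, h2, h3, h32⟩ := h.four
  by_cases hne : d2 p = 0
  · have h30 : d3 p = 0 := by rw [h32, hne]
    by_cases h10 : d1 p = 0
    · have hd4 : ∀ i, d4 i ≠ 0 → d1 i = 0 ∧ d2 i = 0 ∧ d3 i = 0 := by
        intro i hi
        have : i ∈ S4 d4 := by simp [S4, hi]
        rw [hS4] at this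
        simp only [mem_insert, mem_singleton] at this
        rcases this with rfl | rfl
        · exact ⟨h10, hne, h30⟩
        · exact ⟨by rw [h1, h10], by rw [h2, hne], by rw [h3, h30]⟩
      have hcan : ∀ c : ℚ, ∑ i ∈ S4 d4, c * d4 i / w i = 0 := by
        intro c
        rw [hS4, Finset.sum_pair hpq, hq, hw]
        push_cast
        ring
      rcases h.xval with e | e
      · exact h.case2 hd4 hcan e
      · exact (h.case3 hd4 hcan e).elim
    · exfalso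
      have m1 : p ∈ SZ d1 d2 d3 := by simp [SZ, hne, h30, h10]
      have m2 : q ∈ SZ d1 d2 d3 := by simp [SZ, h2, h3, hne, h30, h1, h10]
      have m3 := h.mem_SZ_o
      have hop : o ≠ p := by rintro rfl; rw [h.o4] at hp; omega
      have hoq : o ≠ q := by rintro rfl; rw [h.o4] at hq; omega
      have hsub : ({o, p, q} : Finset ι) ⊆ SZ d1 d2 d3 := by
        intro i hi
        simp only [mem_insert, mem_singleton] at hi
        rcases hi with rfl | rfl | rfl <;> assumption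
      have hc : ({o, p, q} : Finset ι).card = 3 := by
        rw [Finset.card_insert_of_notMem (by simp [hop, hoq]), Finset.card_pair hpq]
      have := Finset.card_le_card hsub
      have := h.cardZ_le
      omega
  · exact (h.caseI hpq hS4 hp hq hw h1 h2 h3 h32 hne).elim

end Cols

end Cfsg.Agent.Lib.JanCol
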