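import Cfsg.Agent.Lib.JanOrder

set_option autoImplicit false
set_option linter.all false

/-!
# Groups with an involution with centralizer `Z2 × A5`: the element of order 5 as a word (helper17)
-/

namespace Cfsg.Agent.Lib.JanLoc

open Cfsg.Agent.Lib.JanH Subgroup Cfsg.Agent.Lib.JanMS Equiv

universe u

variable {G : Type u} [Group G]

/-- conjugates `(X0, v1)` to `(x0, u0)` -/
def kk : H := mk (swap 2 3 * swap 3 4) (by decide)

def h1 : H := x0⁻¹ * v1 * u0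
def h2 : H := x0 * u0 * v1 * x0
def h3 : H := x0 * v1 * u0
def h4 : H := x0 * v1 * x0⁻¹ * u0

theorem kk_v1 : kk * v1 * kk⁻¹ = u0 := by decide +kernel
theorem kk_X0 : kk * X0 * kk⁻¹ = x0 ∨ kk * X0 * kk⁻¹ = x0⁻¹ := by decide +kernel

def cT2 (h : H) : Bool := (decide (h1 = h) || (decide (h1 = h * h) || (decide (h1 = h * h * h) || decide (h1 = h * h * h * h)))) ||
  (decide (h2 = h) || (decide (h2 = h * h) || (decide (h2 = h * h * h) || decide (h2 = h * h * h * h))))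
def cT3 (h : H) : Bool := (decide (h3 = h) || (decide (h3 = h * h) || (decide (h3 = h * h * h) || decide (h3 = h * h * h * h)))) ||
  (decide (h4 = h) || (decide (h4 = h * h) || (decide (h4 = h * h * h) || decide (h4 = h * h * h * h))))

theorem cT2_spec : ∀ h : H, v2 * h * v2 = h⁻¹ → h ^ 5 = 1 → h ≠ 1 → cT2 h = true := by decide +kernel
theorem cT3_spec : ∀ h : H, v3 * h * v3 = h⁻¹ → h ^ 5 = 1 → h ≠ 1 → cT3 h = true := by decide +kernel
theorem z0v2_conj' : ∀ h : H, (z0 * v2) * h * (z0 * v2) = v2 * h * v2 := by decide +kernel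
theorem z0v3_conj' : ∀ h : H, (z0 * v3) * h * (z0 * v3) = v3 * h * v3 := by decide +kernel

theorem or_pow {h k : H} (hh : k = h ∨ k = h * h ∨ k = h * h * h ∨ k = h * h * h * h) : ∃ j : ℕ, k = h ^ j := by
  rcases hh with e | e | e | e
  · exact ⟨1, by rw [e, pow_one]⟩
  · exact ⟨2, by rw [e, sq]⟩
  · exact ⟨3, by rw [e, pow_succ, sq]⟩
  · exact ⟨4, by rw [e, pow_succ, pow_succ, sq]⟩

theorem cT2_pow {h : H} (a : v2 * h * v2 = h⁻¹) (b : h ^ 5 = 1) (c : h ≠ 1) : (∃ j : ℕ, h1 = h ^ j) ∨ ∃ j : ℕ, h2 = h ^ j := by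
  have := cT2_spec h a b c
  unfold cT2 at this
  simp only [Bool.or_eq_true, decide_eq_true_eq] at this
  rcases this with h | h
  · exact Or.inl (or_pow h)
  · exact Or.inr (or_pow h)

theorem cT3_pow {h : H} (a : v3 * h * v3 = h⁻¹) (b : h ^ 5 = 1) (c : h ≠ 1) : (∃ j : ℕ, h3 = h ^ j) ∨ ∃ j : ℕ, h4 = h ^ j := by
  have := cT3_spec h a b c
  unfold cT3 at this
  simp only [Bool.or_eq_true, decide_eq_true_eq] at this
  rcases this with h | h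
  · exact Or.inl (or_pow h)
  · exact Or.inr (or_pow h)

theorem Jan.step {κ : H →* G} (J : Jan κ) {g y : G} {v : H} (hy5 : y ^ 5 = 1) (hy1 : y ≠ 1)
    (hyt : κ z0 * y * κ z0 = y⁻¹) (hc : (g * y * g⁻¹) * κ z0 = κ z0 * (g * y * g⁻¹)) (hv : g * κ z0 * g⁻¹ = κ v) :
    ∃ h : H, κ h = g * y * g⁻¹ ∧ v * h * v = h⁻¹ ∧ h ^ 5 = 1 ∧ h ≠ 1 := by
  obtain ⟨h, hh⟩ := J.cent _ hc
  refine ⟨h, hh, ?_, ?_, ?_⟩
  · apply J.inj
    rw [map_mul, map_mul, map_inv, hh, ← hv]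
    calc g * κ z0 * g⁻¹ * (g * y * g⁻¹) * (g * κ z0 * g⁻¹) = g * (κ z0 * y * κ z0) * g⁻¹ := by group
      _ = (g * y * g⁻¹)⁻¹ := by rw [hyt]; group
  · apply J.inj
    rw [map_pow, hh, conj_pow, hy5, map_one]; group
  · rintro rfl
    rw [map_one] at hh
    apply hy1
    calc y = g⁻¹ * (g * y * g⁻¹) * g := by group
      _ = 1 := by rw [← hh]; group

theorem commute_of_pow {κ : H →* G} {g y x : G} {h k : H} (hh : κ h = g * y * g⁻¹) (hx : y * x = x * y)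
    (hk : ∃ j : ℕ, k = h ^ j) : (g⁻¹ * κ k * g) * x = x * (g⁻¹ * κ k * g) := by
  obtain ⟨j, rfl⟩ := hk
  have e : g⁻¹ * κ (h ^ j) * g = y ^ j := by
    rw [map_pow, hh, conj_pow]; group
  rw [e]
  exact ((show Commute y x from hx).pow_left j)

/-- **The elements of the amalgam and the commuting word.** -/
theorem Jan.elements [Finite G] [IsSimpleGroup G] {ι : H →* G} (J : Jan ι) : ∃ (κ : H →* G) (z : G), Jan κ ∧ κ z0 = ι z0 ∧
    ZD κ z ∧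
    (((κ v1 * κ u0 * z⁻¹) * κ h1 * (z * κ u0 * κ v1)) * κ x0 = κ x0 * ((κ v1 * κ u0 * z⁻¹) * κ h1 * (z * κ u0 * κ v1)) ∨
     ((κ v1 * κ u0 * z⁻¹) * κ h2 * (z * κ u0 * κ v1)) * κ x0 = κ x0 * ((κ v1 * κ u0 * z⁻¹) * κ h2 * (z * κ u0 * κ v1)) ∨
     ((κ v1 * κ u0 * (z ^ 3)⁻¹) * κ h3 * (z ^ 3 * κ u0 * κ v1)) * κ x0 =
      κ x0 * ((κ v1 * κ u0 * (z ^ 3)⁻¹) * κ h3 * (z ^ 3 * κ u0 * κ v1)) ∨
     ((κ v1 * κ u0 * (z ^ 3)⁻¹) * κ h4 * (z ^ 3 * κ u0 * κ v1)) * κ x0 =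
      κ x0 * ((κ v1 * κ u0 * (z ^ 3)⁻¹) * κ h4 * (z ^ 3 * κ u0 * κ v1))) := by
  obtain ⟨κ, z, Jκ, e1, e2, hzN, a1, a2, a3, a4⟩ := J.exists_z
  have D : ZD κ z := ⟨a1, a2, a3, a4⟩
  obtain ⟨M, hM, hmem, hC⟩ := Jκ.exists_M
  obtain ⟨y, hyM, hy1, hy5, hyt, hyc⟩ := exists_five Jκ D hM J.order hC
  refine ⟨κ, z, Jκ, e1, D, ?_⟩
  have aa : κ v1 * κ v1 = 1 := hM.aa
  have tt : κ z0 * κ z0 = 1 := hM.tt
  have uu : κ u0 * κ u0 = 1 := by rw [← map_mul, u0_sq, map_one]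
  have ai : (κ v1)⁻¹ = κ v1 := hM.ai
  have ui : (κ u0)⁻¹ = κ u0 := inv_eq_of_mul_eq_one_left uu
  have hcomm : ∀ h : H, κ h * κ z0 = κ z0 * κ h := fun h => by rw [← map_mul, ← map_mul, z0_central]
  have huau : κ u0 * κ v1 * κ u0 * κ v1 * κ u0 = κ v1 := by
    rw [← map_mul, ← map_mul, ← map_mul, ← map_mul, show u0 * v1 * u0 * v1 * u0 = v1 by decide +kernel]
  -- transport to `x0`, `u0`
  set c := κ kk with hc
  set y' := c * y * c⁻¹ with hy'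
  have y5 : y' ^ 5 = 1 := by rw [hy', conj_pow, hy5]; group
  have y1 : y' ≠ 1 := by
    intro e; apply hy1
    calc y = c⁻¹ * y' * c := by rw [hy']; group
      _ = 1 := by rw [e]; group
  have hct : c * κ z0 = κ z0 * c := hcomm kk
  have yt : κ z0 * y' * κ z0 = y'⁻¹ := by
    calc κ z0 * y' * κ z0 = (κ z0 * c) * y * (c⁻¹ * κ z0) := by rw [hy']; group
      _ = (c * κ z0) * y * (κ z0 * c⁻¹) := by
        have : c⁻¹ * κ z0 = κ z0 * c⁻¹ := by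
          calc c⁻¹ * κ z0 = c⁻¹ * (κ z0 * c) * c⁻¹ := by group
            _ = κ z0 * c⁻¹ := by rw [← hct]; group
        rw [hct, this]
      _ = c * (κ z0 * y * κ z0) * c⁻¹ := by group
      _ = y'⁻¹ := by rw [hyt, hy']; group
  have yX := hM.cen y hyM
  have yx : y' * κ x0 = κ x0 * y' := by
    have h1 : y' * κ (kk * X0 * kk⁻¹) = κ (kk * X0 * kk⁻¹) * y' := by
      rw [map_mul, map_mul, map_inv, ← hc, hy']
      calc c * y * c⁻¹ * (c * κ X0 * c⁻¹) = c * (y * κ X0) * c⁻¹ := by group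
        _ = c * (κ X0 * y) * c⁻¹ := by rw [yX]
        _ = _ := by group
    rcases kk_X0 with e | e
    · rwa [e] at h1
    · rw [e, map_inv] at h1
      have : Commute y' (κ x0)⁻¹ := h1
      have h3 := this.inv_right
      rw [inv_inv] at h3
      exact h3.eq
  have kv : c * κ v1 * c⁻¹ = κ u0 := by rw [hc, ← map_inv, ← map_mul, ← map_mul, kk_v1]
  have e1t : κ u0 * κ v1 * κ z0 * κ v1 * κ u0 = κ z0 := by
    rw [mul_assoc (κ u0), hcomm v1]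
    calc κ u0 * (κ z0 * κ v1) * κ v1 * κ u0 = κ u0 * κ z0 * (κ v1 * κ v1) * κ u0 := by group
      _ = κ u0 * κ z0 * κ u0 := by rw [aa, mul_one]
      _ = κ z0 * (κ u0 * κ u0) := by rw [hcomm u0]; group
      _ = κ z0 := by rw [uu, mul_one]
  rcases hyc with hya | hyb
  · -- commutes with `u`
    have yu : y' * κ u0 = κ u0 * y' := by
      rw [← kv, hy']
      calc c * y * c⁻¹ * (c * κ v1 * c⁻¹) = c * (y * κ v1) * c⁻¹ := by group
        _ = c * (κ v1 * y) * c⁻¹ := by rw [hya]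
        _ = _ := by group
    set g := z * κ u0 * κ v1 with hg
    have gi : g⁻¹ = κ v1 * κ u0 * z⁻¹ := by rw [hg, mul_inv_rev, mul_inv_rev, ai, ui, mul_assoc]
    have gu : g * κ u0 * g⁻¹ = κ z0 := by
      rw [gi, hg]
      calc z * κ u0 * κ v1 * κ u0 * (κ v1 * κ u0 * z⁻¹) = z * (κ u0 * κ v1 * κ u0 * κ v1 * κ u0) * z⁻¹ := by group
        _ = κ z0 := by rw [huau, D.E1]
    have gt : g * κ z0 * g⁻¹ = κ (z0 * v2) := by
      rw [gi, hg]
      calc z * κ u0 * κ v1 * κ z0 * (κ v1 * κ u0 * z⁻¹) = z * (κ u0 * κ v1 * κ z0 * κ v1 * κ u0) * z⁻¹ := by group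
        _ = κ (z0 * v2) := by rw [e1t, D.E6]
    have hcc : (g * y' * g⁻¹) * κ z0 = κ z0 * (g * y' * g⁻¹) := by
      rw [← gu]
      calc g * y' * g⁻¹ * (g * κ u0 * g⁻¹) = g * (y' * κ u0) * g⁻¹ := by group
        _ = g * (κ u0 * y') * g⁻¹ := by rw [yu]
        _ = _ := by group
    obtain ⟨h, hh, r1, r2, r3⟩ := Jκ.step y5 y1 yt hcc gt
    rw [z0v2_conj'] at r1
    rw [← gi]
    rcases cT2_pow r1 r2 r3 with hj | hj
    · exact Or.inl (commute_of_pow hh yx hj)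
    · exact Or.inr (Or.inl (commute_of_pow hh yx hj))
  · -- commutes with `u t`
    have yu : y' * (κ u0 * κ z0) = (κ u0 * κ z0) * y' := by
      have k1 : c * (κ v1 * κ z0) * c⁻¹ = κ u0 * κ z0 := by
        calc c * (κ v1 * κ z0) * c⁻¹ = (c * κ v1 * c⁻¹) * (c * κ z0 * c⁻¹) := by group
          _ = κ u0 * κ z0 := by rw [kv, hct]; group
      rw [← k1, hy']
      calc c * y * c⁻¹ * (c * (κ v1 * κ z0) * c⁻¹) = c * (y * (κ v1 * κ z0)) * c⁻¹ := by group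
        _ = c * ((κ v1 * κ z0) * y) * c⁻¹ := by rw [hyb]
        _ = _ := by group
    set g := z ^ 3 * κ u0 * κ v1 with hg
    have gi : g⁻¹ = κ v1 * κ u0 * (z ^ 3)⁻¹ := by rw [hg, mul_inv_rev, mul_inv_rev, ai, ui, mul_assoc]
    have gu : g * (κ u0 * κ z0) * g⁻¹ = κ z0 := by
      rw [gi, hg]
      have k1 : κ u0 * κ v1 * (κ u0 * κ z0) * (κ v1 * κ u0) = κ (z0 * v1) := by
        rw [← map_mul, ← map_mul, ← map_mul, ← map_mul, ← map_mul,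
          show u0 * v1 * (u0 * z0) * (v1 * u0) = z0 * v1 by decide +kernel]
      calc z ^ 3 * κ u0 * κ v1 * (κ u0 * κ z0) * (κ v1 * κ u0 * (z ^ 3)⁻¹)
          = z ^ 3 * (κ u0 * κ v1 * (κ u0 * κ z0) * (κ v1 * κ u0)) * (z ^ 3)⁻¹ := by group
        _ = z ^ 3 * κ (z0 * v1) * (z ^ 3)⁻¹ := by rw [k1]
        _ = κ z0 := by rw [← D.E3]; group
    have gt : g * κ z0 * g⁻¹ = κ v3 := by
      rw [gi, hg]
      have k2 : z ^ 3 = (z ^ 4)⁻¹ := by
        rw [eq_inv_iff_mul_eq_one, ← pow_add]; exact D.z7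
      calc z ^ 3 * κ u0 * κ v1 * κ z0 * (κ v1 * κ u0 * (z ^ 3)⁻¹)
          = z ^ 3 * (κ u0 * κ v1 * κ z0 * κ v1 * κ u0) * (z ^ 3)⁻¹ := by group
        _ = (z ^ 4)⁻¹ * κ z0 * (z ^ 4)⁻¹⁻¹ := by rw [e1t, k2]
        _ = κ v3 := by rw [inv_inv, D.E4]
    have hcc : (g * y' * g⁻¹) * κ z0 = κ z0 * (g * y' * g⁻¹) := by
      have k3 : g * y' * g⁻¹ * (g * (κ u0 * κ z0) * g⁻¹) = (g * (κ u0 * κ z0) * g⁻¹) * (g * y' * g⁻¹) := by
        calc g * y' * g⁻¹ * (g * (κ u0 * κ z0) * g⁻¹) = g * (y' * (κ u0 * κ z0)) * g⁻¹ := by group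
          _ = g * ((κ u0 * κ z0) * y') * g⁻¹ := by rw [yu]
          _ = _ := by group
      rwa [gu] at k3
    obtain ⟨h, hh, r1, r2, r3⟩ := Jκ.step y5 y1 yt hcc gt
    rw [← gi]
    rcases cT3_pow r1 r2 r3 with hj | hj
    · exact Or.inr (Or.inr (Or.inl (commute_of_pow hh yx hj)))
    · exact Or.inr (Or.inr (Or.inr (commute_of_pow hh yx hj)))

end Cfsg.Agent.Lib.JanLoc
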