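import Cfsg.Agent.Lib.JanLoc
import Cfsg.Agent.Lib.CharBasic

set_option autoImplicit false
set_option linter.all false

/-!
# Groups with an involution with centralizer `Z2 × A5`: fusion (helper17)
-/

namespace Cfsg.Agent.Lib.JanLoc

open Cfsg.Agent.Lib.JanH Subgroup

universe u

variable {G : Type u} [Group G]

/-- the normalizer of the Sylow subgroup -/
def N (ι : H →* G) : Subgroup G := Subgroup.normalizer (S ι : Set G)

namespace Jan

variable {ι : H →* G} (J : Jan ι)
include J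

theorem S_le_N : S ι ≤ N ι := Subgroup.le_normalizer

theorem z0_mem_S : ι z0 ∈ S ι := mem_S.2 ⟨z0, by decide +kernel, rfl⟩

theorem z0_ne_one : ι z0 ≠ 1 := by
  intro h
  rw [← map_one ι] at h
  exact z0_ne (J.inj h)

theorem conj_mem_S {n g : G} (hn : n ∈ N ι) (hg : g ∈ S ι) : n⁻¹ * g * n ∈ S ι := by
  have h1 := (Subgroup.mem_normalizer_iff''.1 hn g).1 hg
  exact h1

theorem x0_mem_N : ι x0 ∈ N ι := by
  rw [N, Subgroup.mem_normalizer_iff'']
  intro g
  show g ∈ S ι ↔ (ι x0)⁻¹ * g * ι x0 ∈ S ι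
  constructor
  · intro hg
    obtain ⟨h, h1, rfl⟩ := mem_S.1 hg
    exact mem_S.2 ⟨x0⁻¹ * h * x0, cent_x0 h h1, by rw [map_mul, map_mul, map_inv]⟩
  · intro hg
    obtain ⟨h, h1, h2⟩ := mem_S.1 hg
    refine mem_S.2 ⟨x0 * h * x0⁻¹, cent_x0' h h1, ?_⟩
    rw [map_mul, map_mul, map_inv, h2]; group

theorem two_part [Finite G] : Nat.card G % 16 = 8 := by
  obtain ⟨P, hP⟩ := J.exists_sylow
  have h1 := Subgroup.card_mul_index (P : Subgroup G)
  have h2 : Nat.card (P : Subgroup G) = 8 := J.syl P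
  have h3 : ¬ 2 ∣ (P : Subgroup G).index := P.not_dvd_index
  rw [h2] at h1
  omega

theorem S_comm {a b : G} (ha : a ∈ S ι) (hb : b ∈ S ι) : a * b = b * a := by
  obtain ⟨h, h1, rfl⟩ := mem_S.1 ha
  obtain ⟨k, k1, rfl⟩ := mem_S.1 hb
  rw [← map_mul, ← map_mul, cent_comm h h1 k k1]

end Jan

/-- conjugate to `z0` in `N` -/
def PP (ι : H →* G) (h : H) : Prop := ∃ n ∈ N ι, n⁻¹ * ι z0 * n = ι h

namespace Jan

variable {ι : H →* G} (J : Jan ι)
include J

theorem PP_z0 : PP ι z0 := ⟨1, Subgroup.one_mem _, by group⟩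

theorem PP_conj {h : H} (hP : PP ι h) : PP ι (x0⁻¹ * h * x0) := by
  obtain ⟨n, hn, e⟩ := hP
  refine ⟨n * ι x0, Subgroup.mul_mem _ hn J.x0_mem_N, ?_⟩
  rw [map_mul, map_mul, map_inv, ← e]; group

theorem not_PP_one : ¬ PP ι 1 := by
  rintro ⟨n, hn, e⟩
  rw [map_one] at e
  apply J.z0_ne_one
  calc ι z0 = n * (n⁻¹ * ι z0 * n) * n⁻¹ := by group
    _ = 1 := by rw [e]; group

theorem card_PP [Finite G] : Nat.card {h : H // h * v1 = v1 * h ∧ PP ι h} % 2 = 1 := by
  set tN : N ι := ⟨ι z0, J.S_le_N J.z0_mem_S⟩ with htN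
  have h1 : Nat.card {h : H // h * v1 = v1 * h ∧ PP ι h} = Nat.card {x : N ι // IsConj tN x} := by
    refine Nat.card_congr (Equiv.ofBijective
      (fun h => ⟨⟨ι h.1, J.S_le_N (mem_S.2 ⟨h.1, h.2.1, rfl⟩)⟩, ?_⟩) ⟨?_, ?_⟩)
    · obtain ⟨n, hn, e⟩ := h.2.2
      rw [isConj_iff]
      refine ⟨⟨n⁻¹, (N ι).inv_mem hn⟩, Subtype.ext ?_⟩
      show n⁻¹ * ι z0 * n⁻¹⁻¹ = ι h.1
      rw [inv_inv]; exact e
    · intro a b hab
      have := congrArg (fun x : {x : N ι // IsConj tN x} => ((x.1 : N ι) : G)) hab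
      exact Subtype.ext (J.inj this)
    · rintro ⟨x, hx⟩
      obtain ⟨c, hc⟩ := isConj_iff.1 hx
      have hc' : (c : G) * ι z0 * (c : G)⁻¹ = x := congrArg Subtype.val hc
      have hxS : (x : G) ∈ S ι := by
        have := J.conj_mem_S ((N ι).inv_mem c.2) J.z0_mem_S
        rw [inv_inv, hc'] at this
        exact this
      obtain ⟨h, hh, e⟩ := mem_S.1 hxS
      refine ⟨⟨h, hh, (c : G)⁻¹, (N ι).inv_mem c.2, ?_⟩, ?_⟩
      · rw [inv_inv, hc', e]
      · apply Subtype.ext
        apply Subtype.ext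
        exact e
  have h2 := Cfsg.Agent.Lib.CharBasic.card_isConj_mul_card_centralizer tN
  rw [← h1] at h2
  have h3 : 8 ∣ Nat.card (Subgroup.centralizer ({tN} : Set (N ι))) := by
    have h4 : (S ι).subgroupOf (N ι) ≤ Subgroup.centralizer ({tN} : Set (N ι)) := by
      intro a ha
      rw [Subgroup.mem_centralizer_singleton_iff]
      apply Subtype.ext
      exact J.S_comm (Subgroup.mem_subgroupOf.1 ha) J.z0_mem_S
    have h5 := Subgroup.card_dvd_of_le h4
    rwa [Nat.card_congr (Subgroup.subgroupOfEquivOfLe J.S_le_N).toEquiv, J.card_S] at h5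
  have h4 : Nat.card (N ι) ∣ Nat.card G := Subgroup.card_subgroup_dvd_card _
  have h5 := J.two_part
  obtain ⟨a, ha⟩ := h3
  obtain ⟨b, hb⟩ := h4
  by_contra hc
  obtain ⟨c, hc'⟩ : ∃ c, Nat.card {h : H // h * v1 = v1 * h ∧ PP ι h} = 2 * c :=
    ⟨Nat.card {h : H // h * v1 = v1 * h ∧ PP ι h} / 2, by omega⟩
  rw [hb, ← h2, hc', ha] at h5
  have : 2 * c * (8 * a) * b = 16 * (c * a * b) := by ring
  omega

/-- `t` is not isolated -/
theorem not_isolated [Finite G] [IsSimpleGroup G] (hiso : ∀ h : H, h * v1 = v1 * h → PP ι h → h = z0) : False := by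
  obtain ⟨P, hP⟩ := J.exists_sylow
  have : IsMulCommutative (P : Subgroup G) := by
    rw [hP]
    exact ⟨⟨fun a b => Subtype.ext (J.S_comm a.2 b.2)⟩⟩
  have hzP : ι z0 ∈ P := by
    show ι z0 ∈ (P : Subgroup G)
    rw [hP]; exact J.z0_mem_S
  have ho : orderOf (ι z0) = 2 := orderOf_eq_prime (by rw [sq, J.S_sq J.z0_mem_S]) J.z0_ne_one
  obtain ⟨K, hK, hKodd, hKc⟩ := Cfsg.Agent.S0215.result P (ι z0) ho hzP (by
    intro g hg
    have h1 : g⁻¹⁻¹ * ι z0 * g⁻¹ ∈ P := by rw [inv_inv]; exact hg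
    obtain ⟨n, hn, e⟩ := P.conj_eq_normalizer_conj_of_mem (ι z0) g⁻¹ hzP h1
    rw [inv_inv] at e
    have hg' : g * ι z0 * g⁻¹ ∈ S ι := by rw [← hP]; exact hg
    obtain ⟨h, hh, e'⟩ := mem_S.1 hg'
    have hn' : n ∈ N ι := by
      have h2 : Subgroup.normalizer ((P : Subgroup G) : Set G) = N ι := by rw [N, hP]
      rw [← h2]; exact hn
    have h3 : h = z0 := hiso h hh ⟨n, hn', by rw [e', ← e]⟩
    rw [← e', h3])
  have h2 := J.two_part
  rcases IsSimpleGroup.eq_bot_or_eq_top_of_normal K hK with h | h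
  · have hcen : ∀ g : G, g * ι z0 = ι z0 * g := by
      intro g
      have := hKc g
      rw [h, Subgroup.mem_bot] at this
      calc g * ι z0 = (ι z0 * g * (ι z0)⁻¹ * g⁻¹)⁻¹ * ι z0 * g := by group
        _ = ι z0 * g := by rw [this]; group
    have hc : ι z0 ∈ Subgroup.center G := Subgroup.mem_center_iff.2 hcen
    rcases IsSimpleGroup.eq_bot_or_eq_top_of_normal (Subgroup.center G) inferInstance with h3 | h3
    · rw [h3, Subgroup.mem_bot] at hc
      exact J.z0_ne_one hc
    · have h4 : ι x0 ∈ Subgroup.center G := by rw [h3]; trivial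
      have h5 := Subgroup.mem_center_iff.1 h4 (ι v1)
      rw [← map_mul, ← map_mul] at h5
      have h6 := J.inj h5
      revert h6
      decide +kernel
  · rw [h, Subgroup.card_top] at hKodd
    obtain ⟨k, hk⟩ := hKodd
    omega

/-- all involutions of `S` are conjugate in `N` -/
theorem fuse [Finite G] [IsSimpleGroup G] {h : H} (hh : h * v1 = v1 * h) (hne : h ≠ 1) : PP ι h := by
  classical
  have hodd := J.card_PP
  have n1 := J.not_PP_one
  have p0 := J.PP_z0
  have a12 : PP ι v1 → PP ι v2 := fun q => by have := J.PP_conj q; rwa [x0_v1] at this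
  have a23 : PP ι v2 → PP ι v3 := fun q => by have := J.PP_conj q; rwa [x0_v2] at this
  have a31 : PP ι v3 → PP ι v1 := fun q => by have := J.PP_conj q; rwa [x0_v3] at this
  have b12 : PP ι (z0 * v1) → PP ι (z0 * v2) := fun q => by
    have := J.PP_conj q
    rwa [show x0⁻¹ * (z0 * v1) * x0 = z0 * v2 by decide +kernel] at this
  have b23 : PP ι (z0 * v2) → PP ι (z0 * v3) := fun q => by
    have := J.PP_conj q
    rwa [show x0⁻¹ * (z0 * v2) * x0 = z0 * v3 by decide +kernel] at this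
  have b31 : PP ι (z0 * v3) → PP ι (z0 * v1) := fun q => by
    have := J.PP_conj q
    rwa [show x0⁻¹ * (z0 * v3) * x0 = z0 * v1 by decide +kernel] at this
  have hcard : Nat.card {h : H // h * v1 = v1 * h ∧ PP ι h} =
      (({1, z0, v1, v2, v3, z0 * v1, z0 * v2, z0 * v3} : Finset H).filter (PP ι)).card := by
    rw [Nat.card_eq_fintype_card, Fintype.card_subtype]
    congr 1
    ext k
    simp only [Finset.mem_filter, Finset.mem_univ, true_and, Finset.mem_insert, Finset.mem_singleton]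
    constructor
    · rintro ⟨h1, h2⟩
      exact ⟨cent_v1_list h1, h2⟩
    · rintro ⟨h1, h2⟩
      refine ⟨?_, h2⟩
      rcases h1 with rfl | rfl | rfl | rfl | rfl | rfl | rfl | rfl <;> decide +kernel
  by_cases hv : PP ι v1
  · by_cases hw : PP ι (z0 * v1)
    · have c1 := a12 hv
      have c2 := a23 c1
      have c3 := b12 hw
      have c4 := b23 c3
      rcases cent_v1_list hh with rfl | rfl | rfl | rfl | rfl | rfl | rfl | rfl
      · exact absurd rfl hne
      all_goals assumption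
    · exfalso
      have c1 := a12 hv
      have c2 := a23 c1
      have c3 : ¬ PP ι (z0 * v2) := fun q => hw (b31 (b23 q))
      have c4 : ¬ PP ι (z0 * v3) := fun q => hw (b31 q)
      rw [hcard] at hodd
      have e : (({1, z0, v1, v2, v3, z0 * v1, z0 * v2, z0 * v3} : Finset H).filter (PP ι)) = {z0, v1, v2, v3} := by
        simp [Finset.filter_insert, Finset.filter_singleton, n1, p0, hv, hw, c1, c2, c3, c4]
      rw [e, show ({z0, v1, v2, v3} : Finset H).card = 4 by decide +kernel] at hodd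
      omega
  · by_cases hw : PP ι (z0 * v1)
    · exfalso
      have c1 := b12 hw
      have c2 := b23 c1
      have c3 : ¬ PP ι v2 := fun q => hv (a31 (a23 q))
      have c4 : ¬ PP ι v3 := fun q => hv (a31 q)
      rw [hcard] at hodd
      have e : (({1, z0, v1, v2, v3, z0 * v1, z0 * v2, z0 * v3} : Finset H).filter (PP ι)) =
          {z0, z0 * v1, z0 * v2, z0 * v3} := by
        simp [Finset.filter_insert, Finset.filter_singleton, n1, p0, hv, hw, c1, c2, c3, c4]
      rw [e, show ({z0, z0 * v1, z0 * v2, z0 * v3} : Finset H).card = 4 by decide +kernel] at hodd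
      omega
    · exfalso
      apply J.not_isolated
      have c1 : ¬ PP ι v2 := fun q => hv (a31 (a23 q))
      have c2 : ¬ PP ι v3 := fun q => hv (a31 q)
      have c3 : ¬ PP ι (z0 * v2) := fun q => hw (b31 (b23 q))
      have c4 : ¬ PP ι (z0 * v3) := fun q => hw (b31 q)
      intro k hk hP
      rcases cent_v1_list hk with rfl | rfl | rfl | rfl | rfl | rfl | rfl | rfl <;> first | rfl | (exfalso; tauto)

end Jan

end Cfsg.Agent.Lib.JanLoc
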