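import Cfsg.Agent.Lib.JanP

set_option autoImplicit false
set_option linter.all false

/-!
# Groups with an involution with centralizer `Z2 × A5`: the order is not 189000 (helper17)
-/

namespace Cfsg.Agent.Lib.JanLoc

open Cfsg.Agent.Lib.JanH Subgroup Cfsg.Agent.Lib.JanMS

universe u

variable {G : Type u} [Group G]

theorem z0v2_conj : ∀ h : H, (z0 * v2) * h * (z0 * v2) = v2 * h * v2 := by decide +kernel
theorem X0_ne_conj : X0 ≠ v2 * X0 * v2 ∧ X0 ≠ v2 * (X0 * X0) * v2 ∧ X0 ≠ v2 * 1 * v2 := by decide +kernel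

/-- no element squares to an element inverting `X` -/
theorem Jan.no_four [Finite G] {κ : H →* G} (J : Jan κ) {X n : G} (hX3 : X * X * X = 1) (hX1 : X ≠ 1)
    (hn : (n * n)⁻¹ * X * (n * n) = X⁻¹) : False := by
  obtain ⟨k, m, hm, ho⟩ := Nat.exists_eq_two_pow_mul_odd (orderOf_pos n).ne'
  have h1 : (n ^ m) ^ 2 ^ k = 1 := by
    rw [← pow_mul, mul_comm, ← ho, pow_orderOf_eq_one]
  have h2 := J.sq_of_pow h1
  have h3 : (n * n) ^ m = 1 := by
    rw [(Commute.refl n).mul_pow]; exact h2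
  have h4 : ∀ j : ℕ, ((n * n) ^ (2 * j + 1))⁻¹ * X * (n * n) ^ (2 * j + 1) = X⁻¹ := by
    intro j
    induction j with
    | zero => simpa using hn
    | succ j ih =>
      have e : (n * n) ^ (2 * (j + 1) + 1) = (n * n) ^ (2 * j + 1) * (n * n) * (n * n) := by
        rw [show 2 * (j + 1) + 1 = (2 * j + 1) + 1 + 1 by ring, pow_succ, pow_succ]
      have hn' : (n * n)⁻¹ * X⁻¹ * (n * n) = X := by
        calc (n * n)⁻¹ * X⁻¹ * (n * n) = ((n * n)⁻¹ * X * (n * n))⁻¹ := by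
              generalize n * n = q; group
          _ = X⁻¹⁻¹ := by rw [hn]
          _ = X := inv_inv X
      calc ((n * n) ^ (2 * (j + 1) + 1))⁻¹ * X * (n * n) ^ (2 * (j + 1) + 1)
          = (n * n)⁻¹ * ((n * n)⁻¹ * (((n * n) ^ (2 * j + 1))⁻¹ * X * (n * n) ^ (2 * j + 1)) * (n * n)) * (n * n) := by
            rw [e]; group
        _ = (n * n)⁻¹ * ((n * n)⁻¹ * X⁻¹ * (n * n)) * (n * n) := by rw [ih]
        _ = X⁻¹ := by rw [hn', hn]
  obtain ⟨j, hj⟩ := hm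
  have h5 := h4 j
  rw [← hj, h3, inv_one, one_mul, mul_one] at h5
  have h6 : X * X = 1 := by
    calc X * X = X⁻¹ * X := by rw [← h5]
      _ = 1 := by group
  rw [h6, one_mul] at hX3
  exact hX1 hX3

/-- the element -/
theorem four_elt {X X1 X5 X2 c d : G} (hX3 : X * X * X = 1) (h13 : X1 * X1 * X1 = 1)
    (hc : X * X1 = X1 * X) (h5 : X5 * X = X * X5) (h2 : X2 * X1 = X1 * X2)
    (e1 : X1 * X5 = X5 * X1 * c) (e2 : X2 * X = X * X2 * d)
    (hcd : (c = X ∧ d = X1) ∨ (c = X⁻¹ ∧ d = X1⁻¹)) :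
    ((X5⁻¹ * X2) * (X5⁻¹ * X2))⁻¹ * X * ((X5⁻¹ * X2) * (X5⁻¹ * X2)) = X⁻¹ := by
  have hXi : X⁻¹ = X * X := by rw [inv_eq_iff_mul_eq_one, ← mul_assoc, hX3]
  have h1i : X1⁻¹ = X1 * X1 := by rw [inv_eq_iff_mul_eq_one, ← mul_assoc, h13]
  have cXX : Commute X X1 := hc
  have c5 : Commute X5 X := h5
  have c2 : Commute X2 X1 := h2
  have n1 : (X5⁻¹ * X2)⁻¹ * X * (X5⁻¹ * X2) = X * d⁻¹ := by
    have k1 : X5 * X * X5⁻¹ = X := by rw [h5]; group
    have k2 : X2⁻¹ * X * X2 = X * d⁻¹ := by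
      have : X = X2⁻¹ * (X * X2 * d) := by rw [← e2]; group
      calc X2⁻¹ * X * X2 = X2⁻¹ * (X * X2 * d) * d⁻¹ := by group
        _ = X * d⁻¹ := by rw [← this]
    calc (X5⁻¹ * X2)⁻¹ * X * (X5⁻¹ * X2) = X2⁻¹ * (X5 * X * X5⁻¹) * X2 := by group
      _ = X * d⁻¹ := by rw [k1, k2]
  have k2 : X2⁻¹ * X * X2 = X * d⁻¹ := by
    have : X = X2⁻¹ * (X * X2 * d) := by rw [← e2]; group
    calc X2⁻¹ * X * X2 = X2⁻¹ * (X * X2 * d) * d⁻¹ := by group
      _ = X * d⁻¹ := by rw [← this]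
  have k3 : X2⁻¹ * X1 * X2 = X1 := by rw [mul_assoc, ← h2]; group
  have k4 : X5 * X1 * X5⁻¹ = X1 * (X5 * c⁻¹ * X5⁻¹) := by
    have : X5 * X1 = X1 * X5 * c⁻¹ := by rw [e1]; group
    rw [this]; group
  rcases hcd with ⟨rfl, rfl⟩ | ⟨rfl, rfl⟩
  · -- c = X, d = X1 (names: `c` is `X`, `d` is `X1`)
    have k5 : X5 * c⁻¹ * X5⁻¹ = c⁻¹ := by
      have : X5 * c⁻¹ = c⁻¹ * X5 := c5.inv_right
      rw [this]; group
    have n2 : (X5⁻¹ * X2)⁻¹ * d * (X5⁻¹ * X2) = d⁻¹ * c⁻¹ := by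
      calc (X5⁻¹ * X2)⁻¹ * d * (X5⁻¹ * X2) = X2⁻¹ * (X5 * d * X5⁻¹) * X2 := by group
        _ = X2⁻¹ * (d * c⁻¹) * X2 := by rw [k4, k5]
        _ = (X2⁻¹ * d * X2) * (X2⁻¹ * c * X2)⁻¹ := by group
        _ = d * (c * d⁻¹)⁻¹ := by rw [k3, k2]
        _ = d * d * c⁻¹ := by group
        _ = d⁻¹ * c⁻¹ := by rw [h1i]
    calc ((X5⁻¹ * X2) * (X5⁻¹ * X2))⁻¹ * c * ((X5⁻¹ * X2) * (X5⁻¹ * X2))
        = (X5⁻¹ * X2)⁻¹ * ((X5⁻¹ * X2)⁻¹ * c * (X5⁻¹ * X2)) * (X5⁻¹ * X2) := by group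
      _ = (X5⁻¹ * X2)⁻¹ * (c * d⁻¹) * (X5⁻¹ * X2) := by rw [n1]
      _ = ((X5⁻¹ * X2)⁻¹ * c * (X5⁻¹ * X2)) * ((X5⁻¹ * X2)⁻¹ * d * (X5⁻¹ * X2))⁻¹ := by group
      _ = (c * d⁻¹) * (d⁻¹ * c⁻¹)⁻¹ := by rw [n1, n2]
      _ = c * (d⁻¹ * c * d) := by group
      _ = c * c := by
        have : d⁻¹ * c * d = c := by rw [mul_assoc, hc]; group
        rw [this]
      _ = c⁻¹ := hXi.symm
  · -- c = X⁻¹, d = X1⁻¹
    have k5 : X5 * X⁻¹⁻¹ * X5⁻¹ = X := by
      rw [inv_inv, h5]; group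
    rw [k5] at k4
    rw [inv_inv] at n1 k2
    have n2 : (X5⁻¹ * X2)⁻¹ * X1 * (X5⁻¹ * X2) = X * X1⁻¹ := by
      calc (X5⁻¹ * X2)⁻¹ * X1 * (X5⁻¹ * X2) = X2⁻¹ * (X5 * X1 * X5⁻¹) * X2 := by group
        _ = X2⁻¹ * (X1 * X) * X2 := by rw [k4]
        _ = (X2⁻¹ * X1 * X2) * (X2⁻¹ * X * X2) := by group
        _ = X1 * (X * X1) := by rw [k3, k2]
        _ = X * (X1 * X1) := by rw [← mul_assoc, ← hc, mul_assoc]
        _ = X * X1⁻¹ := by rw [h1i]
    calc ((X5⁻¹ * X2) * (X5⁻¹ * X2))⁻¹ * X * ((X5⁻¹ * X2) * (X5⁻¹ * X2))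
        = (X5⁻¹ * X2)⁻¹ * ((X5⁻¹ * X2)⁻¹ * X * (X5⁻¹ * X2)) * (X5⁻¹ * X2) := by group
      _ = (X5⁻¹ * X2)⁻¹ * (X * X1) * (X5⁻¹ * X2) := by rw [n1]
      _ = ((X5⁻¹ * X2)⁻¹ * X * (X5⁻¹ * X2)) * ((X5⁻¹ * X2)⁻¹ * X1 * (X5⁻¹ * X2)) := by group
      _ = (X * X1) * (X * X1⁻¹) := by rw [n1, n2]
      _ = X * (X1 * X) * X1⁻¹ := by group
      _ = X * (X * X1) * X1⁻¹ := by rw [hc]
      _ = X * X := by group
      _ = X⁻¹ := hXi.symm

section

variable {κ : H →* G} {z : G} {M : Subgroup G} (J : Jan κ) (D : ZD κ z) (hM : MS (κ X0) (κ z0) (κ v1) M)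
include J D hM

/-- an element of order 3 inverted by `v1` -/
theorem conj_cases {m g : G} {h : H} (hm : m * κ X0 = κ X0 * m) (hh : inv1 h = true) (e : g * m * g⁻¹ = κ h)
    (hm3 : m ^ 3 = 1) (hm1 : m ≠ 1) :
    Commute (κ X0) (g⁻¹ * κ X0 * g) ∨ Commute (κ X0) (g⁻¹ * (κ (z0 * v2) * κ X0 * κ (z0 * v2)) * g) := by
  have h3 : h ^ 3 = 1 := by
    apply J.inj
    rw [map_pow, ← e, conj_pow, hm3, map_one]; group
  have h1 : h ≠ 1 := by
    rintro rfl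
    rw [map_one] at e
    apply hm1
    calc m = g⁻¹ * (g * m * g⁻¹) * g := by group
      _ = 1 := by rw [e]; group
  have hc : Commute (κ X0) m := hm.symm
  have hmg : m = g⁻¹ * κ h * g := by rw [← e]; group
  rcases inv1_three h hh h3 h1 with rfl | rfl | rfl | rfl
  · left; rw [← hmg]; exact hc
  · left
    have : g⁻¹ * κ X0 * g = m⁻¹ := by rw [hmg, map_inv]; group
    rw [this]; exact hc.inv_right
  · right
    rw [← map_mul, ← map_mul, z0v2_conj, ← hmg]; exact hc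
  · right
    have : g⁻¹ * (κ (z0 * v2) * κ X0 * κ (z0 * v2)) * g = m⁻¹ := by
      rw [hmg, ← map_mul, ← map_mul, z0v2_conj]
      have : v2 * X0⁻¹ * v2 = (v2 * X0 * v2)⁻¹ := by decide +kernel
      rw [this, map_inv]; group
    rw [this]; exact hc.inv_right

theorem cardA_three [Finite G] {m : G} (hm : m ∈ FA (κ v1) M) (hm1 : m ≠ 1) (hm3 : m ^ 3 = 1) :
    Nat.card (FA (κ v1) M) = 3 := by
  have f3 : Fact (Nat.Prime 3) := ⟨by norm_num⟩
  have h1 : 3 ∣ Nat.card (FA (κ v1) M) := by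
    have ho : orderOf (⟨m, hm⟩ : FA (κ v1) M) = 3 :=
      orderOf_eq_prime (Subtype.ext hm3) (fun e => hm1 (congrArg Subtype.val e))
    rw [← ho]; exact orderOf_dvd_natCard _
  rcases card_A J D hM with h | ⟨h, -⟩ | ⟨h, -⟩
  · rw [h] at h1; omega
  · exact h
  · rw [h] at h1; omega

theorem cardB_three [Finite G] {m : G} (hm : m ∈ FA (κ v1 * κ z0) M) (hm1 : m ≠ 1) (hm3 : m ^ 3 = 1) :
    Nat.card (FA (κ v1 * κ z0) M) = 3 := by
  have f3 : Fact (Nat.Prime 3) := ⟨by norm_num⟩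
  have h1 : 3 ∣ Nat.card (FA (κ v1 * κ z0) M) := by
    have ho : orderOf (⟨m, hm⟩ : FA (κ v1 * κ z0) M) = 3 :=
      orderOf_eq_prime (Subtype.ext hm3) (fun e => hm1 (congrArg Subtype.val e))
    rw [← ho]; exact orderOf_dvd_natCard _
  rcases card_B J D hM with h | ⟨h, -⟩ | ⟨h, -⟩
  · rw [h] at h1; omega
  · exact h
  · rw [h] at h1; omega

omit J D hM in
theorem mem_pow_of_card3 [Finite G] {F : Subgroup G} (hF : Nat.card F = 3) {m : G} (hm : m ∈ F) (hm1 : m ≠ 1)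
    {n : G} (hn : n ∈ F) : n = 1 ∨ n = m ∨ n = m * m := by
  have f3 : Fact (Nat.Prime 3) := ⟨by norm_num⟩
  have h3 : m ^ 3 = 1 := by
    have := pow_card_eq_one' (x := (⟨m, hm⟩ : F))
    rw [hF] at this
    exact congrArg Subtype.val this
  have hz : Subgroup.zpowers m = F := by
    apply Subgroup.eq_of_le_of_card_ge
    · rw [Subgroup.zpowers_le]; exact hm
    · rw [Nat.card_zpowers, orderOf_eq_prime h3 hm1, hF]
  rw [← hz, ← mem_powers_iff_mem_zpowers] at hn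
  obtain ⟨k, rfl⟩ := hn
  have : m ^ k = m ^ (k % 3) := by
    conv_lhs => rw [← Nat.div_add_mod k 3, pow_add, pow_mul, h3, one_pow, one_mul]
  simp only [this]
  have h4 : k % 3 < 3 := Nat.mod_lt _ (by norm_num)
  interval_cases (k % 3)
  · left; exact pow_zero m
  · right; left; exact pow_one m
  · right; right; exact sq m

/-- the commuting pairs -/
theorem exists_commuting [Finite G] (h9 : 9 ∣ Nat.card G)
    (hC : Nat.card (Subgroup.centralizer ({κ X0} : Set G)) = 2 * Nat.card M) :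
    Commute (κ X0) ((κ x0 * z)⁻¹ * κ X0 * (κ x0 * z)) ∨
    Commute (κ X0) ((κ (z0 * v2) * (κ x0 * z))⁻¹ * κ X0 * (κ (z0 * v2) * (κ x0 * z))) := by
  have f3 : Fact (Nat.Prime 3) := ⟨by norm_num⟩
  have hX3 : (κ X0) ^ 3 = 1 := by rw [← map_pow, show X0 ^ 3 = 1 by decide +kernel, map_one]
  have hXo : orderOf (κ X0) = 3 := orderOf_eq_prime hX3 hM.X1
  obtain ⟨K, hK, hXK⟩ := Sylow.exists_subgroup_card_pow_succ (G := G) (p := 3) (n := 1) (by norm_num; exact h9)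
    (H := Subgroup.zpowers (κ X0)) (by rw [Nat.card_zpowers, hXo]; rfl)
  have hKc : K ≤ Subgroup.centralizer ({κ X0} : Set G) := by
    intro k hk
    rw [Subgroup.mem_centralizer_singleton_iff]
    have := IsPGroup.commutative_of_card_eq_prime_sq (p := 3) (G := K) (by rw [hK]) ⟨k, hk⟩
      ⟨κ X0, hXK (Subgroup.mem_zpowers _)⟩
    exact congrArg Subtype.val this
  have h1 : 9 ∣ 2 * Nat.card M := by
    rw [← hC]
    have := Subgroup.card_dvd_of_le hKc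
    rw [hK] at this
    exact this
  rw [hM.card_M] at h1
  set r := κ x0 * z with hr
  set s := κ (z0 * v2) with hs
  have hss : s * s = 1 := by rw [hs, ← map_mul, show z0 * v2 * (z0 * v2) = 1 by decide +kernel, map_one]
  have hsi : s⁻¹ = s := inv_eq_of_mul_eq_one_left hss
  have hrs : r * s * r⁻¹ = s := D.r_s
  have hrs' : r * s = s * r := by
    calc r * s = r * s * r⁻¹ * r := by group
      _ = s * r := by rw [hrs]
  rcases card_A J D hM with hA | ⟨hA, m, hm, hm1, hm3⟩ | ⟨hA, -⟩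
  · rcases card_B J D hM with hB | ⟨hB, m, hm, hm1, hm3⟩ | ⟨hB, -⟩
    · rw [hA, hB] at h1; omega
    · obtain ⟨h, hh, e⟩ := FA_B J D hM hm
      rcases conj_cases J D hM (hM.cen _ (mem_FA.1 hm).1) hh e hm3 hm1 with hc | hc
      · left
        -- hc : Commute X (r⁻¹⁻¹ X r⁻¹)
        have h2 := hc.eq
        rw [← hr, inv_inv] at h2
        show κ X0 * (r⁻¹ * κ X0 * r) = r⁻¹ * κ X0 * r * κ X0
        calc κ X0 * (r⁻¹ * κ X0 * r) = r⁻¹ * ((r * κ X0 * r⁻¹) * κ X0) * r := by group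
          _ = r⁻¹ * (κ X0 * (r * κ X0 * r⁻¹)) * r := by rw [h2]
          _ = _ := by group
      · right
        have h2 := hc.eq
        rw [← hr, ← hs, inv_inv] at h2
        have e1 : r * (s * κ X0 * s) * r⁻¹ = (s * r) * κ X0 * (s * r)⁻¹ := by
          rw [← hrs']
          calc r * (s * κ X0 * s) * r⁻¹ = r * s * κ X0 * s⁻¹ * r⁻¹ := by rw [hsi]; group
            _ = _ := by group
        rw [e1] at h2
        show κ X0 * ((s * r)⁻¹ * κ X0 * (s * r)) = (s * r)⁻¹ * κ X0 * (s * r) * κ X0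
        generalize s * r = f at *
        calc κ X0 * (f⁻¹ * κ X0 * f) = f⁻¹ * ((f * κ X0 * f⁻¹) * κ X0) * f := by group
          _ = f⁻¹ * (κ X0 * (f * κ X0 * f⁻¹)) * f := by rw [h2]
          _ = _ := by group
    · rw [hA, hB] at h1; omega
  · obtain ⟨h, hh, e⟩ := FA_A J D hM hm
    rcases conj_cases J D hM (hM.cen _ (mem_FA.1 hm).1) hh e hm3 hm1 with hc | hc
    · left; exact hc
    · right
      have e1 : r⁻¹ * (s * κ X0 * s) * r = (s * r)⁻¹ * κ X0 * (s * r) := by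
        calc r⁻¹ * (s * κ X0 * s) * r = r⁻¹ * (s⁻¹ * κ X0 * s) * r := by rw [hsi]
          _ = _ := by group
      rw [← e1]
      exact hc
  · rcases card_B J D hM with hB | ⟨hB, m, hm, hm1, hm3⟩ | ⟨hB, -⟩
    · rw [hA, hB] at h1; omega
    · obtain ⟨h, hh, e⟩ := FA_B J D hM hm
      rcases conj_cases J D hM (hM.cen _ (mem_FA.1 hm).1) hh e hm3 hm1 with hc | hc
      · left
        have h2 := hc.eq
        rw [← hr, inv_inv] at h2
        show κ X0 * (r⁻¹ * κ X0 * r) = r⁻¹ * κ X0 * r * κ X0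
        calc κ X0 * (r⁻¹ * κ X0 * r) = r⁻¹ * ((r * κ X0 * r⁻¹) * κ X0) * r := by group
          _ = r⁻¹ * (κ X0 * (r * κ X0 * r⁻¹)) * r := by rw [h2]
          _ = _ := by group
      · right
        have h2 := hc.eq
        rw [← hr, ← hs, inv_inv] at h2
        have e1 : r * (s * κ X0 * s) * r⁻¹ = (s * r) * κ X0 * (s * r)⁻¹ := by
          rw [← hrs']
          calc r * (s * κ X0 * s) * r⁻¹ = r * s * κ X0 * s⁻¹ * r⁻¹ := by rw [hsi]; group
            _ = _ := by group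
        rw [e1] at h2
        show κ X0 * ((s * r)⁻¹ * κ X0 * (s * r)) = (s * r)⁻¹ * κ X0 * (s * r) * κ X0
        generalize s * r = f at *
        calc κ X0 * (f⁻¹ * κ X0 * f) = f⁻¹ * ((f * κ X0 * f⁻¹) * κ X0) * f := by group
          _ = f⁻¹ * (κ X0 * (f * κ X0 * f⁻¹)) * f := by rw [h2]
          _ = _ := by group
    · rw [hA, hB] at h1; omega

end

end Cfsg.Agent.Lib.JanLoc
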