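import Cfsg.Agent.Lib.JanKill

set_option autoImplicit false
set_option linter.all false

/-!
# Groups with an involution with centralizer `Z2 × A5`: the order is not 189000, conclusion (helper17)
-/

namespace Cfsg.Agent.Lib.JanLoc

open Cfsg.Agent.Lib.JanH Subgroup Cfsg.Agent.Lib.JanMS

universe u

variable {G : Type u} [Group G]

section

variable {κ : H →* G} {z : G} {M : Subgroup G} (J : Jan κ) (D : ZD κ z) (hM : MS (κ X0) (κ z0) (κ v1) M)
include J D hM

theorem kill [Finite G] (hG27 : 27 ∣ Nat.card G) (hG81 : ¬ 81 ∣ Nat.card G)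
    (hmem : ∀ g : G, g * κ X0 = κ X0 * g → ∀ n : ℕ, Odd n → g ^ n = 1 → g ∈ M)
    (hC : Nat.card (Subgroup.centralizer ({κ X0} : Set G)) = 2 * Nat.card M) : False := by
  have f3 : Fact (Nat.Prime 3) := ⟨by norm_num⟩
  set X := κ X0 with hX
  set r := κ x0 * z with hr
  set s := κ (z0 * v2) with hs
  set t := κ z0 with ht
  have hX3 : X ^ 3 = 1 := by rw [hX, ← map_pow, show X0 ^ 3 = 1 by decide +kernel, map_one]
  have hX3' := hM.X3
  have hX1 := hM.X1
  have hss : s * s = 1 := by rw [hs, ← map_mul, show z0 * v2 * (z0 * v2) = 1 by decide +kernel, map_one]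
  have hsi : s⁻¹ = s := inv_eq_of_mul_eq_one_left hss
  have hrs : r * s * r⁻¹ = s := D.r_s
  have hrs' : r * s = s * r := by
    calc r * s = r * s * r⁻¹ * r := by group
      _ = s * r := by rw [hrs]
  have hr3 : r * r * r = 1 := D.r_cube
  have hts : t * s = s * t := by rw [ht, hs, ← map_mul, ← map_mul, ← z0_central]
  have htX : t * X = X * t := hM.tX
  have hrt : r⁻¹ * t * r = κ v1 := D.r_t
  have hrt' : r * t * r⁻¹ = κ v1 * t := by
    have e' : κ v1 * t = κ (z0 * v1) := by rw [ht, ← map_mul, z0_central v1]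
    rw [e']; exact D.r_t'
  -- general conjugation facts for `f = r` or `f = s r`
  have main : ∀ f : G, f⁻¹ * t * f = κ v1 → f * t * f⁻¹ = κ v1 * t → Commute X (f⁻¹ * X * f) →
      Nat.card (FA (κ v1) M) = 3 ∧ Nat.card (FA (κ v1 * t) M) = 3 ∧ f⁻¹ * X * f ∈ FA (κ v1) M ∧
      f * X * f⁻¹ ∈ FA (κ v1 * t) M ∧ Commute X (f * X * f⁻¹) := by
    intro f h1 h2 h3
    have c1 : (f⁻¹ * X * f) ^ 3 = 1 := by
      have e := conj_pow (a := f⁻¹) (b := X) (i := 3)
      rw [inv_inv] at e
      rw [e, hX3]; group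
    have c2 : (f * X * f⁻¹) ^ 3 = 1 := by rw [conj_pow, hX3]; group
    have d1 : f⁻¹ * X * f ≠ 1 := by
      intro e; apply hX1
      calc X = f * (f⁻¹ * X * f) * f⁻¹ := by group
        _ = 1 := by rw [e]; group
    have d2 : f * X * f⁻¹ ≠ 1 := by
      intro e; apply hX1
      calc X = f⁻¹ * (f * X * f⁻¹) * f := by group
        _ = 1 := by rw [e]; group
    have h4 : Commute X (f * X * f⁻¹) := by
      have := h3.eq
      show X * (f * X * f⁻¹) = f * X * f⁻¹ * X
      calc X * (f * X * f⁻¹) = f * ((f⁻¹ * X * f) * X) * f⁻¹ := by group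
        _ = f * (X * (f⁻¹ * X * f)) * f⁻¹ := by rw [this]
        _ = _ := by group
    have m1 : f⁻¹ * X * f ∈ M := hmem _ h3.eq.symm 3 (by decide) c1
    have m2 : f * X * f⁻¹ ∈ M := hmem _ h4.eq.symm 3 (by decide) c2
    have m1' : f⁻¹ * X * f ∈ FA (κ v1) M := by
      rw [mem_FA]
      refine ⟨m1, ?_⟩
      rw [← h1]
      calc f⁻¹ * X * f * (f⁻¹ * t * f) = f⁻¹ * (X * t) * f := by group
        _ = f⁻¹ * (t * X) * f := by rw [htX]
        _ = _ := by group
    have m2' : f * X * f⁻¹ ∈ FA (κ v1 * t) M := by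
      rw [mem_FA]
      refine ⟨m2, ?_⟩
      rw [← h2]
      calc f * X * f⁻¹ * (f * t * f⁻¹) = f * (X * t) * f⁻¹ := by group
        _ = f * (t * X) * f⁻¹ := by rw [htX]
        _ = _ := by group
    exact ⟨cardA_three J D hM m1' d1 c1, cardB_three J D hM m2' d2 c2, m1', m2', h4⟩
  rcases exists_commuting J D hM ((by norm_num : 9 ∣ 27).trans hG27) hC with hc | hc
  · -- elementary abelian case
    have hc' : Commute X (r⁻¹ * X * r) := hc
    obtain ⟨hA, hB, m1, m5, h5⟩ := main r hrt hrt' hc'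
    have hMc : Nat.card M = 27 := by rw [hM.card_M, hA, hB]
    have d1 : r⁻¹ * X * r ≠ 1 := by
      intro e; apply hX1
      calc X = r * (r⁻¹ * X * r) * r⁻¹ := by group
        _ = 1 := by rw [e]; group
    have d2 : r * X * r⁻¹ ≠ 1 := by
      intro e; apply hX1
      calc X = r⁻¹ * (r * X * r⁻¹) * r := by group
        _ = 1 := by rw [e]; group
    -- `r` normalizes `M`
    have hrN : r ∈ Subgroup.normalizer (M : Set G) := by
      apply Subgroup.mem_normalizer_fintype
      intro m hm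
      obtain ⟨c, hcc, α, hα, β, hβ, e⟩ := hM.L3 hm
      have k1 : r * c * r⁻¹ ∈ M := by
        obtain ⟨n, rfl⟩ := Subgroup.mem_zpowers_iff.1 hcc
        rw [← conj_zpow]
        exact M.zpow_mem (mem_FA.1 m5).1 n
      have k2 : r * α * r⁻¹ ∈ M := by
        have k0 : r * (r⁻¹ * X * r) * r⁻¹ = X := by group
        rcases mem_pow_of_card3 hA m1 d1 hα with rfl | rfl | rfl
        · rw [mul_one, mul_inv_cancel]; exact M.one_mem
        · rw [k0]; exact hM.XM
        · have : r * (r⁻¹ * X * r * (r⁻¹ * X * r)) * r⁻¹ = X * X := by group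
          rw [this]; exact M.mul_mem hM.XM hM.XM
      have k3 : r * β * r⁻¹ ∈ M := by
        have hrr : r * r = r⁻¹ := by rw [eq_inv_iff_mul_eq_one, hr3]
        have hrr' : r⁻¹ * r⁻¹ = r := by
          rw [← mul_inv_rev, hrr, inv_inv]
        have k0 : r * (r * X * r⁻¹) * r⁻¹ = r⁻¹ * X * r := by
          calc r * (r * X * r⁻¹) * r⁻¹ = (r * r) * X * (r⁻¹ * r⁻¹) := by group
            _ = _ := by rw [hrr, hrr']
        rcases mem_pow_of_card3 hB m5 d2 hβ with rfl | rfl | rfl
        · rw [mul_one, mul_inv_cancel]; exact M.one_mem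
        · rw [k0]; exact (mem_FA.1 m1).1
        · have : r * (r * X * r⁻¹ * (r * X * r⁻¹)) * r⁻¹ = (r * (r * X * r⁻¹) * r⁻¹) * (r * (r * X * r⁻¹) * r⁻¹) := by group
          rw [this, k0]; exact M.mul_mem (mem_FA.1 m1).1 (mem_FA.1 m1).1
      rw [e]
      have : r * (c * α * β) * r⁻¹ = (r * c * r⁻¹) * (r * α * r⁻¹) * (r * β * r⁻¹) := by group
      rw [this]
      exact M.mul_mem (M.mul_mem k1 k2) k3
    -- `M` is a Sylow subgroup
    have hp : IsPGroup 3 M := IsPGroup.of_card (n := 3) (by rw [hMc]; norm_num)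
    obtain ⟨P, hP⟩ := hp.exists_le_sylow
    have hPM : (P : Subgroup G) = M := by
      symm
      apply Subgroup.eq_of_le_of_card_ge hP
      obtain ⟨k, hk⟩ := P.2.exists_card_eq
      have hk' : Nat.card (P : Subgroup G) = 3 ^ k := hk
      have h4 : Nat.card (P : Subgroup G) ∣ Nat.card G := Subgroup.card_subgroup_dvd_card _
      rw [hk'] at h4
      have hk3 : k ≤ 3 := by
        by_contra hcon
        exact hG81 (((by norm_num : 81 ∣ 3 ^ 4)).trans ((pow_dvd_pow 3 (by omega)).trans h4))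
      rw [hk', hMc]
      calc 3 ^ k ≤ 3 ^ 3 := Nat.pow_le_pow_right (by norm_num) hk3
        _ = 27 := by norm_num
    have hrp : IsPGroup 3 (Subgroup.zpowers r) := by
      have hr3' : r ^ 3 = 1 := by rw [pow_succ, pow_succ, pow_one]; exact hr3
      intro y
      obtain ⟨m, hm⟩ := Subgroup.mem_zpowers_iff.1 y.2
      refine ⟨1, Subtype.ext ?_⟩
      push_cast
      norm_num
      rw [← hm, ← zpow_natCast, ← zpow_mul, mul_comm, zpow_mul, zpow_natCast, hr3', one_zpow]
    have h6 := hrp.inf_normalizer_sylow P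
    have h7 : r ∈ Subgroup.zpowers r ⊓ Subgroup.normalizer ((P : Subgroup G) : Set G) := by
      refine Subgroup.mem_inf.2 ⟨Subgroup.mem_zpowers r, ?_⟩
      rw [hPM]; exact hrN
    have h8 : r ∈ Subgroup.zpowers r ⊓ (P : Subgroup G) := by
      rw [← h6]; exact h7
    have h9 : r ∈ M := by rw [← hPM]; exact (Subgroup.mem_inf.1 h8).2
    have h10 := hM.cen r h9
    have h11 : r⁻¹ * X * r = X := by
      rw [mul_assoc, ← h10]; group
    rw [h11] at m1
    exact hX1 (hM.FA_inter m1 (Subgroup.mem_zpowers _))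
  · -- extraspecial case
    set f := s * r with hf
    have hft : f⁻¹ * t * f = κ v1 := by
      calc f⁻¹ * t * f = r⁻¹ * (s⁻¹ * (t * s)) * r := by rw [hf]; group
        _ = r⁻¹ * t * r := by rw [hts]; group
        _ = _ := hrt
    have hft' : f * t * f⁻¹ = κ v1 * t := by
      have e1 : f = r * s := by rw [hf, hrs']
      calc f * t * f⁻¹ = r * (s * t * s⁻¹) * r⁻¹ := by rw [e1]; group
        _ = r * t * r⁻¹ := by rw [← hts]; group
        _ = _ := hrt'
    have hc' : Commute X (f⁻¹ * X * f) := hc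
    obtain ⟨hA, hB, m1, m5, h5⟩ := main f hft hft' hc'
    have d2 : f * X * f⁻¹ ≠ 1 := by
      intro e; apply hX1
      calc X = f⁻¹ * (f * X * f⁻¹) * f := by group
        _ = 1 := by rw [e]; group
    have d1 : f⁻¹ * X * f ≠ 1 := by
      intro e; apply hX1
      calc X = f * (f⁻¹ * X * f) * f⁻¹ := by group
        _ = 1 := by rw [e]; group
    -- `X` does not commute with `r X r⁻¹`
    have hno : ¬ Commute X (r * X * r⁻¹) := by
      intro hcc
      have c2 : (r * X * r⁻¹) ^ 3 = 1 := by rw [conj_pow, hX3]; group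
      have m2 : r * X * r⁻¹ ∈ FA (κ v1 * t) M := by
        rw [mem_FA]
        refine ⟨hmem _ hcc.eq.symm 3 (by decide) c2, ?_⟩
        rw [← hrt']
        calc r * X * r⁻¹ * (r * t * r⁻¹) = r * (X * t) * r⁻¹ := by group
          _ = r * (t * X) * r⁻¹ := by rw [htX]
          _ = _ := by group
      have hfX : f * X * f⁻¹ = r * (s * X * s) * r⁻¹ := by
        have e1 : f = r * s := by rw [hf, hrs']
        calc f * X * f⁻¹ = r * (s * X * s⁻¹) * r⁻¹ := by rw [e1]; group
          _ = _ := by rw [hsi]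
      rcases mem_pow_of_card3 hB m5 d2 m2 with e | e | e
      · apply hX1
        calc X = r⁻¹ * (r * X * r⁻¹) * r := by group
          _ = 1 := by rw [e]; group
      · rw [hfX] at e
        have e2 : X = s * X * s := by
          calc X = r⁻¹ * (r * X * r⁻¹) * r := by group
            _ = s * X * s := by rw [e]; group
        rw [hX, hs, ← map_mul, ← map_mul, z0v2_conj] at e2
        exact X0_ne_conj.1 (J.inj e2)
      · rw [hfX] at e
        have e2 : X = s * (X * X) * s := by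
          calc X = r⁻¹ * (r * X * r⁻¹) * r := by group
            _ = s * X * (s * s) * X * s := by rw [e]; group
            _ = s * (X * X) * s := by rw [hss]; group
        rw [hX, hs, ← map_mul, ← map_mul, ← map_mul, z0v2_conj] at e2
        exact X0_ne_conj.2.1 (J.inj e2)
    have hff : f * f = r * r := by
      calc f * f = s * (r * s) * r := by rw [hf]; group
        _ = s * f * r := by rw [hrs']
        _ = s * s * (r * r) := by rw [hf]; group
        _ = r * r := by rw [hss, one_mul]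
    have hrr : r * r = r⁻¹ := by rw [eq_inv_iff_mul_eq_one, hr3]
    have hX2 : f⁻¹ * (f⁻¹ * X * f) * f = r * X * r⁻¹ := by
      calc f⁻¹ * (f⁻¹ * X * f) * f = (f * f)⁻¹ * X * (f * f) := by group
        _ = r * X * r⁻¹ := by rw [hff, hrr, inv_inv]
    -- the commutator
    obtain ⟨c, hcX, e1⟩ := hM.L2 (mem_FA.1 m1).1 (mem_FA.1 m5).1
    have hXo : orderOf X = 3 := orderOf_eq_prime hX3 hX1
    have hcases : c = 1 ∨ c = X ∨ c = X * X :=
      mem_pow_of_card3 (F := Subgroup.zpowers X) (by rw [Nat.card_zpowers, hXo]) (Subgroup.mem_zpowers X) hX1 hcX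
    have hXi : X * X = X⁻¹ := by rw [eq_inv_iff_mul_eq_one, hX3']
    -- conjugate relation
    have e2 : (r * X * r⁻¹) * X = X * (r * X * r⁻¹) * (f⁻¹ * c * f) := by
      have h0 : f⁻¹ * (f * X * f⁻¹) * f = X := by group
      calc (r * X * r⁻¹) * X = (f⁻¹ * (f⁻¹ * X * f) * f) * (f⁻¹ * (f * X * f⁻¹) * f) := by rw [hX2, h0]
        _ = f⁻¹ * ((f⁻¹ * X * f) * (f * X * f⁻¹)) * f := by group
        _ = f⁻¹ * ((f * X * f⁻¹) * (f⁻¹ * X * f) * c) * f := by rw [e1]
        _ = (f⁻¹ * (f * X * f⁻¹) * f) * (f⁻¹ * (f⁻¹ * X * f) * f) * (f⁻¹ * c * f) := by group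
        _ = _ := by rw [hX2, h0]
    have hc21 : (r * X * r⁻¹) * (f⁻¹ * X * f) = (f⁻¹ * X * f) * (r * X * r⁻¹) := by
      rw [← hX2]
      have := hc'.eq
      calc f⁻¹ * (f⁻¹ * X * f) * f * (f⁻¹ * X * f) = f⁻¹ * ((f⁻¹ * X * f) * X) * f := by group
        _ = f⁻¹ * (X * (f⁻¹ * X * f)) * f := by rw [this]
        _ = _ := by group
    have h13 : f⁻¹ * X * f * (f⁻¹ * X * f) * (f⁻¹ * X * f) = 1 := by
      calc f⁻¹ * X * f * (f⁻¹ * X * f) * (f⁻¹ * X * f) = f⁻¹ * (X * X * X) * f := by group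
        _ = 1 := by rw [hX3']; group
    have hfin : ∀ hcd : (c = X ∧ f⁻¹ * c * f = f⁻¹ * X * f) ∨ (c = X⁻¹ ∧ f⁻¹ * c * f = (f⁻¹ * X * f)⁻¹), False := by
      intro hcd
      exact J.no_four hX3' hX1 (four_elt (X := X) (X1 := f⁻¹ * X * f) (X5 := f * X * f⁻¹) (X2 := r * X * r⁻¹)
        (c := c) (d := f⁻¹ * c * f) hX3' h13 hc'.eq h5.eq.symm hc21 e1 e2 hcd)
    rcases hcases with rfl | rfl | hcc
    · apply hno
      have h0 : f⁻¹ * 1 * f = 1 := by group
      rw [h0, mul_one] at e2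
      exact e2.symm
    · exact hfin (Or.inl ⟨rfl, rfl⟩)
    · rw [hXi] at hcc
      refine hfin (Or.inr ⟨hcc, ?_⟩)
      rw [hcc]; group

end

/-- the order of a group with an involution with centralizer `Z2 × A5` -/
theorem Jan.card_eq [Finite G] [IsSimpleGroup G] {ι : H →* G} (J : Jan ι)
    (hor : Nat.card G = 175560 ∨ Nat.card G = 189000) : Nat.card G = 175560 := by
  rcases hor with h | h
  · exact h
  · exfalso
    obtain ⟨κ, z, Jκ, h1, h2, h3, h4, h5, h6, h7⟩ := J.exists_z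
    obtain ⟨M, hM, hmem, hC⟩ := Jκ.exists_M
    exact kill Jκ ⟨h4, h5, h6, h7⟩ hM (by rw [h]; norm_num) (by rw [h]; norm_num) hmem hC

end Cfsg.Agent.Lib.JanLoc
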