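import Cfsg.Agent.Lib.JanH
import Cfsg.Agent.S0215
import Cfsg.Prelude.Def_SporadicB

set_option autoImplicit false
set_option linter.all false

/-!
# Groups with an involution with centralizer `Z2 × A5`: local structure (helper17)
-/

namespace Cfsg.Agent.Lib.JanLoc

open Cfsg.Agent.Lib.JanH Subgroup

universe u

variable {G : Type u} [Group G]

/-- the basic situation: an embedding of `Z2 × A5` onto the centralizer of the image of `z0` -/
structure Jan (ι : H →* G) : Prop where
  inj : Function.Injective ι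
  cent : ∀ g : G, g * ι z0 = ι z0 * g → ∃ h, ι h = g
  syl : ∀ P : Sylow 2 G, Nat.card P = 8

theorem cent_sq : ∀ h : H, h * v1 = v1 * h → h * h = 1 := by decide +kernel
theorem cent_x0 : ∀ h : H, h * v1 = v1 * h → (x0⁻¹ * h * x0) * v1 = v1 * (x0⁻¹ * h * x0) := by decide +kernel
theorem cent_x0' : ∀ h : H, h * v1 = v1 * h → (x0 * h * x0⁻¹) * v1 = v1 * (x0 * h * x0⁻¹) := by decide +kernel
theorem cent_comm : ∀ h : H, h * v1 = v1 * h → ∀ k : H, k * v1 = v1 * k → h * k = k * h := by decide +kernel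

theorem card_cent_v1' : Nat.card (Subgroup.centralizer ({v1} : Set H)) = 8 := by
  rw [← card_cent_v1, ← Nat.card_eq_fintype_card]
  refine Nat.card_congr (Equiv.subtypeEquivRight fun h => ?_)
  rw [Subgroup.mem_centralizer_singleton_iff]

/-- the Sylow subgroup -/
def S (ι : H →* G) : Subgroup G := (Subgroup.centralizer ({v1} : Set H)).map ι

theorem mem_S {ι : H →* G} {g : G} : g ∈ S ι ↔ ∃ h : H, h * v1 = v1 * h ∧ ι h = g := by
  simp only [S, Subgroup.mem_map, Subgroup.mem_centralizer_singleton_iff]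

theorem card_S_of_inj {ι : H →* G} (hi : Function.Injective ι) : Nat.card (S ι) = 8 := by
  rw [← card_cent_v1']
  exact (Nat.card_congr ((Subgroup.centralizer ({v1} : Set H)).equivMapOfInjective ι hi).toEquiv).symm

theorem exists_jan [Finite G] (t : G) (ht : Cfsg.IsTwoCentralInvolution t)
    (e : Subgroup.centralizer ({t} : Set G) ≃* Multiplicative (ZMod 2) × alternatingGroup (Fin 5)) :
    ∃ ι : H →* G, Jan ι ∧ ι z0 = t := by
  set ι : H →* G := (Subgroup.centralizer ({t} : Set G)).subtype.comp e.symm.toMonoidHom with hι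
  have hinj : Function.Injective ι := (Subgroup.subtype_injective _).comp e.symm.injective
  have htc : t ∈ Subgroup.centralizer ({t} : Set G) := Subgroup.mem_centralizer_singleton_iff.2 rfl
  obtain ⟨ho, P, htP, hP⟩ := ht
  have hz : ι z0 = t := by
    have h1 : e ⟨t, htc⟩ = 1 ∨ e ⟨t, htc⟩ = z0 := by
      apply center_eq
      intro k
      have h2 : (⟨t, htc⟩ : Subgroup.centralizer ({t} : Set G)) * e.symm k = e.symm k * ⟨t, htc⟩ := by
        apply Subtype.ext
        have := Subgroup.mem_centralizer_singleton_iff.1 (e.symm k).2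
        exact this.symm
      have h3 := congrArg e h2
      rwa [map_mul, map_mul, e.apply_symm_apply] at h3
    rcases h1 with h1 | h1
    · exfalso
      have : (⟨t, htc⟩ : Subgroup.centralizer ({t} : Set G)) = 1 := by
        rw [← e.map_eq_one_iff]; exact h1
      have h2 : t = 1 := congrArg Subtype.val this
      rw [h2, orderOf_one] at ho
      omega
    · show ((e.symm z0 : Subgroup.centralizer ({t} : Set G)) : G) = t
      rw [← h1, e.symm_apply_apply]
  refine ⟨ι, ⟨hinj, ?_, ?_⟩, hz⟩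
  · intro g hg
    rw [hz] at hg
    have hgc : g ∈ Subgroup.centralizer ({t} : Set G) := Subgroup.mem_centralizer_singleton_iff.2 hg
    refine ⟨e ⟨g, hgc⟩, ?_⟩
    show ((e.symm (e ⟨g, hgc⟩) : Subgroup.centralizer ({t} : Set G)) : G) = g
    rw [e.symm_apply_apply]
  · intro Q
    have h1 : Nat.card Q = Nat.card P := Nat.card_congr (Q.equiv P).toEquiv
    rw [h1]
    have h2 : Nat.card P ∣ 120 := by
      have h3 : (P : Subgroup G) ≤ Subgroup.centralizer ({t} : Set G) := fun x hx =>
        Subgroup.mem_centralizer_singleton_iff.2 (hP x hx)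
      have h4 := Subgroup.card_dvd_of_le h3
      rwa [Nat.card_congr e.toEquiv, card_H] at h4
    obtain ⟨k, hk⟩ := P.2.exists_card_eq
    have hk' : Nat.card P = 2 ^ k := hk
    have h5 : IsPGroup 2 (S ι) := IsPGroup.of_card (n := 3) (by rw [card_S_of_inj hinj]; rfl)
    obtain ⟨R, hR⟩ := h5.exists_le_sylow
    have h6 : Nat.card R = Nat.card P := Nat.card_congr (R.equiv P).toEquiv
    have h7 : 8 ∣ Nat.card P := by
      rw [← h6, ← card_S_of_inj hinj]
      exact Subgroup.card_dvd_of_le hR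
    rw [hk'] at h2 h7 ⊢
    have hk3 : k ≤ 3 := by
      by_contra hc
      have : 2 ^ 4 ∣ 2 ^ k := pow_dvd_pow 2 (by omega)
      have := this.trans h2
      norm_num at this
    have hk3' : 3 ≤ k := by
      by_contra hc
      have : k = 0 ∨ k = 1 ∨ k = 2 := by omega
      rcases this with rfl | rfl | rfl <;> norm_num at h7
    have : k = 3 := by omega
    rw [this]; norm_num

namespace Jan

variable {ι : H →* G} (J : Jan ι)
include J

theorem card_S : Nat.card (S ι) = 8 := card_S_of_inj J.inj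

theorem exists_sylow [Finite G] : ∃ P : Sylow 2 G, (P : Subgroup G) = S ι := by
  have h5 : IsPGroup 2 (S ι) := IsPGroup.of_card (n := 3) (by rw [J.card_S]; rfl)
  obtain ⟨R, hR⟩ := h5.exists_le_sylow
  refine ⟨R, ?_⟩
  symm
  apply Subgroup.eq_of_le_of_card_ge hR
  rw [J.card_S]
  exact (J.syl R).le

/-- the list of the elements of `S` -/
theorem S_list {g : G} (hg : g ∈ S ι) : g = 1 ∨ g = ι z0 ∨ g = ι v1 ∨ g = ι v2 ∨ g = ι v3 ∨ g = ι (z0 * v1) ∨
    g = ι (z0 * v2) ∨ g = ι (z0 * v3) := by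
  obtain ⟨h, h1, rfl⟩ := mem_S.1 hg
  rcases cent_v1_list h1 with e | e | e | e | e | e | e | e <;> subst e <;> simp

theorem S_sq {g : G} (hg : g ∈ S ι) : g * g = 1 := by
  obtain ⟨h, h1, rfl⟩ := mem_S.1 hg
  rw [← map_mul, cent_sq h h1, map_one]

/-- every 2-element is an involution or trivial -/
theorem sq_of_pow [Finite G] {g : G} {k : ℕ} (hg : g ^ 2 ^ k = 1) : g * g = 1 := by
  obtain ⟨P, hP⟩ := J.exists_sylow
  have h1 : IsPGroup 2 (Subgroup.zpowers g) := by
    intro x
    obtain ⟨m, hm⟩ := Subgroup.mem_zpowers_iff.1 x.2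
    refine ⟨k, Subtype.ext ?_⟩
    push_cast
    rw [← hm, ← zpow_natCast, ← zpow_mul, mul_comm, zpow_mul, zpow_natCast, hg, one_zpow]
  obtain ⟨Q, hQ⟩ := h1.exists_le_sylow
  obtain ⟨a, ha⟩ := MulAction.exists_smul_eq G Q P
  have h2 : a * g * a⁻¹ ∈ P := by
    rw [← ha]
    have : g ∈ (Q : Subgroup G) := hQ (Subgroup.mem_zpowers g)
    exact ⟨g, this, by simp [MulAut.smul_def]⟩
  have h3 : a * g * a⁻¹ ∈ S ι := by
    rw [← hP]; exact h2
  have h4 := J.S_sq h3
  have h5 : a * (g * g) * a⁻¹ = 1 := by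
    rw [← h4]; group
  calc g * g = a⁻¹ * (a * (g * g) * a⁻¹) * a := by group
    _ = 1 := by rw [h5]; group

end Jan

end Cfsg.Agent.Lib.JanLoc
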