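import Cfsg.Agent.Lib.JanNS2
import Cfsg.Agent.Lib.JanMS
import Cfsg.Agent.Lib.BrauerFowler

set_option autoImplicit false
set_option linter.all false

/-!
# Groups with an involution with centralizer `Z2 × A5`: the centralizer of an element of order 3 (helper17)
-/

namespace Cfsg.Agent.Lib.JanLoc

open Cfsg.Agent.Lib.JanH Subgroup Cfsg.Agent.Lib.JanMS

universe u

variable {G : Type u} [Group G]

theorem X0_inv : ∀ h : H, h * X0 = X0 * h → h * h = 1 → h = 1 ∨ h = z0 := by decide +kernel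
theorem X0_cent : ∀ h : H, h * X0 = X0 * h → h = 1 ∨ h = X0 ∨ h = X0 * X0 ∨ h * h * h = z0 := by decide +kernel

namespace Jan

variable {ι : H →* G} (J : Jan ι)
include J

theorem card_centX_mod [Finite G] : Nat.card (Subgroup.centralizer ({ι X0} : Set G)) % 4 = 2 := by
  have htC : ι z0 ∈ Subgroup.centralizer ({ι X0} : Set G) := by
    rw [Subgroup.mem_centralizer_singleton_iff, ← map_mul, ← map_mul, ← z0_central]
  set tC : Subgroup.centralizer ({ι X0} : Set G) := ⟨ι z0, htC⟩ with htCd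
  have htC2 : tC ^ 2 = 1 := by
    apply Subtype.ext
    show (ι z0) ^ 2 = 1
    rw [sq, ← map_mul, z0_sq, map_one]
  have hp : IsPGroup 2 (Subgroup.zpowers tC) := by
    intro y
    obtain ⟨m, hm⟩ := Subgroup.mem_zpowers_iff.1 y.2
    refine ⟨1, Subtype.ext ?_⟩
    push_cast
    norm_num
    rw [← hm, ← zpow_natCast, ← zpow_mul, mul_comm, zpow_mul, zpow_natCast, htC2, one_zpow]
  obtain ⟨P, hP⟩ := hp.exists_le_sylow
  have htP : tC ∈ (P : Subgroup _) := hP (Subgroup.mem_zpowers tC)
  have hsq : ∀ p ∈ (P : Subgroup (Subgroup.centralizer ({ι X0} : Set G))), (p : G) * p = 1 := by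
    intro p hp
    obtain ⟨k, hk⟩ := P.2 ⟨p, hp⟩
    apply J.sq_of_pow (k := k)
    have := congrArg (fun y : (P : Subgroup (Subgroup.centralizer ({ι X0} : Set G))) => ((y : Subgroup.centralizer ({ι X0} : Set G)) : G)) hk
    simpa using this
  have hone : ∀ p ∈ (P : Subgroup (Subgroup.centralizer ({ι X0} : Set G))), p = 1 ∨ p = tC := by
    intro p hp
    have h1 := hsq p hp
    have h2 := hsq tC htP
    have h3 := hsq (p * tC) ((P : Subgroup (Subgroup.centralizer ({ι X0} : Set G))).mul_mem hp htP)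
    have h3' : (p : G) * ι z0 * ((p : G) * ι z0) = 1 := h3
    have h2' : ι z0 * ι z0 = 1 := h2
    have h4 : (p : G) * ι z0 = ι z0 * (p : G) := by
      have i1 : (p : G)⁻¹ = p := inv_eq_of_mul_eq_one_left h1
      have i2 : (ι z0)⁻¹ = ι z0 := inv_eq_of_mul_eq_one_left h2'
      have i3 : ((p : G) * ι z0)⁻¹ = (p : G) * ι z0 := inv_eq_of_mul_eq_one_left h3'
      rw [← i3, mul_inv_rev, i1, i2]
    obtain ⟨h, hh⟩ := J.cent _ h4
    have h5 : h * X0 = X0 * h := by
      apply J.inj
      rw [map_mul, map_mul, hh]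
      exact Subgroup.mem_centralizer_singleton_iff.1 p.2
    have h6 : h * h = 1 := by
      apply J.inj
      rw [map_mul, hh, h1, map_one]
    rcases X0_inv h h5 h6 with rfl | rfl
    · left
      apply Subtype.ext
      rw [← hh, map_one]; rfl
    · right
      apply Subtype.ext
      rw [← hh]
  have hcard : Nat.card (P : Subgroup (Subgroup.centralizer ({ι X0} : Set G))) = 2 := by
    have hne : tC ≠ 1 := by
      intro e
      exact J.z0_ne_one (congrArg Subtype.val e)
    apply le_antisymm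
    · have : (Set.univ : Set (P : Subgroup (Subgroup.centralizer ({ι X0} : Set G)))) ⊆ {1, ⟨tC, htP⟩} := by
        intro p _
        rcases hone p p.2 with e | e
        · left; exact Subtype.ext e
        · right; exact Subtype.ext e
      rw [← Nat.card_univ]
      have h1 := Nat.card_mono (Set.toFinite ({1, ⟨tC, htP⟩} : Set (P : Subgroup (Subgroup.centralizer ({ι X0} : Set G))))) this
      refine h1.trans ?_
      rw [Nat.card_coe_set_eq]
      exact (Set.ncard_insert_le _ _).trans (by rw [Set.ncard_singleton])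
    · have : Nontrivial (P : Subgroup (Subgroup.centralizer ({ι X0} : Set G))) :=
        ⟨⟨1, ⟨tC, htP⟩, fun e => hne (congrArg Subtype.val e).symm⟩⟩
      exact Finite.one_lt_card_iff_nontrivial.2 this
  have h1 := Subgroup.card_mul_index (P : Subgroup (Subgroup.centralizer ({ι X0} : Set G)))
  have h2 : ¬ 2 ∣ (P : Subgroup (Subgroup.centralizer ({ι X0} : Set G))).index := P.not_dvd_index
  rw [hcard] at h1
  omega

theorem exists_M [Finite G] : ∃ M : Subgroup G, MS (ι X0) (ι z0) (ι v1) M ∧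
    (∀ g : G, g * ι X0 = ι X0 * g → ∀ n : ℕ, Odd n → g ^ n = 1 → g ∈ M) ∧
    Nat.card (Subgroup.centralizer ({ι X0} : Set G)) = 2 * Nat.card M := by
  have hmod := J.card_centX_mod
  set C := Subgroup.centralizer ({ι X0} : Set G) with hC
  obtain ⟨K, hK⟩ := Cfsg.Agent.Lib.BrauerFowler.exists_index_two_of_two_mod_four hmod
  have hKc : Nat.card C = 2 * Nat.card K := by
    have := Subgroup.card_mul_index K
    rw [hK] at this
    omega
  have hMc : Nat.card (K.map C.subtype) = Nat.card K :=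
    (Nat.card_congr (K.equivMapOfInjective C.subtype (Subgroup.subtype_injective _)).toEquiv).symm
  have hmem : ∀ g : G, g * ι X0 = ι X0 * g → ∀ n : ℕ, Odd n → g ^ n = 1 → g ∈ K.map C.subtype := by
    intro g hg n hn hgn
    have hgC : g ∈ C := Subgroup.mem_centralizer_singleton_iff.2 hg
    refine ⟨⟨g, hgC⟩, ?_, rfl⟩
    have h1 := Subgroup.mul_self_mem_of_index_two hK ⟨g, hgC⟩
    obtain ⟨k, hk⟩ := hn
    have h2 : (⟨g, hgC⟩ : C) = ((⟨g, hgC⟩ : C) * ⟨g, hgC⟩) ^ (k + 1) := by
      apply Subtype.ext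
      show g = (g * g) ^ (k + 1)
      rw [← sq, ← pow_mul, show 2 * (k + 1) = n + 1 by omega, pow_succ, hgn, one_mul]
    show (⟨g, hgC⟩ : C) ∈ K
    rw [h2]
    exact K.pow_mem h1 _
  have hcen : ∀ m ∈ K.map C.subtype, m * ι X0 = ι X0 * m := by
    rintro m ⟨k, hk, rfl⟩
    exact Subgroup.mem_centralizer_singleton_iff.1 k.2
  have hodd : Odd (Nat.card (K.map C.subtype)) := by
    rw [hMc, Nat.odd_iff]; omega
  have hpow : ∀ m ∈ K.map C.subtype, m ^ Nat.card (K.map C.subtype) = 1 := by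
    intro m hm
    have := pow_card_eq_one' (x := (⟨m, hm⟩ : K.map C.subtype))
    exact congrArg Subtype.val this
  have tt : ι z0 * ι z0 = 1 := by rw [← map_mul, z0_sq, map_one]
  have aa : ι v1 * ι v1 = 1 := by rw [← map_mul, v1_sq, map_one]
  have ti : (ι z0)⁻¹ = ι z0 := inv_eq_of_mul_eq_one_left tt
  have ai : (ι v1)⁻¹ = ι v1 := inv_eq_of_mul_eq_one_left aa
  have tX : ι z0 * ι X0 = ι X0 * ι z0 := by rw [← map_mul, ← map_mul, ← z0_central]
  have aX : ι v1 * ι X0 * ι v1 = (ι X0)⁻¹ := by rw [← map_mul, ← map_mul, v1_X0, map_inv]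
  refine ⟨K.map C.subtype, ⟨?_, ?_, tt, aa, ?_, tX, aX, ?_, hodd, hcen, ?_, ?_, ?_⟩, hmem, by rw [hMc, ← hKc]⟩
  · rw [← map_mul, ← map_mul, X0_cube, map_one]
  · intro e
    exact X0_ne (J.inj (by rw [e, map_one]))
  · rw [← map_mul, ← map_mul, ← z0_central]
  · refine hmem _ rfl 3 (by decide) ?_
    rw [← map_pow, show X0 ^ 3 = 1 by decide +kernel, map_one]
  · intro m hm
    refine hmem _ ?_ _ hodd ?_
    · have := hcen m hm
      calc ι z0 * m * ι z0 * ι X0 = ι z0 * m * (ι z0 * ι X0) := by group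
        _ = ι z0 * (m * ι X0) * ι z0 := by rw [tX]; group
        _ = (ι z0 * ι X0) * m * ι z0 := by rw [this]; group
        _ = ι X0 * (ι z0 * m * ι z0) := by rw [tX]; group
    · have e := conj_pow (a := ι z0) (b := m) (i := Nat.card (K.map C.subtype))
      rw [ti] at e
      rw [e, hpow m hm, mul_one, tt]
  · intro m hm
    refine hmem _ ?_ _ hodd ?_
    · have h1 := hcen m hm
      have h2 : m * (ι X0)⁻¹ = (ι X0)⁻¹ * m := by
        have : Commute m (ι X0) := h1
        exact this.inv_right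
      have aX' : ι v1 * ι X0 = (ι X0)⁻¹ * ι v1 := by
        calc ι v1 * ι X0 = ι v1 * ι X0 * (ι v1 * ι v1) := by rw [aa, mul_one]
          _ = (ι v1 * ι X0 * ι v1) * ι v1 := by group
          _ = _ := by rw [aX]
      have aX'' : ι v1 * (ι X0)⁻¹ = ι X0 * ι v1 := by
        calc ι v1 * (ι X0)⁻¹ = ι v1 * (ι v1 * ι X0 * ι v1) := by rw [aX]
          _ = (ι v1 * ι v1) * ι X0 * ι v1 := by group
          _ = _ := by rw [aa, one_mul]
      calc ι v1 * m * ι v1 * ι X0 = ι v1 * m * (ι v1 * ι X0) := by group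
        _ = ι v1 * (m * (ι X0)⁻¹) * ι v1 := by rw [aX']; group
        _ = (ι v1 * (ι X0)⁻¹) * m * ι v1 := by rw [h2]; group
        _ = ι X0 * (ι v1 * m * ι v1) := by rw [aX'']; group
    · have e := conj_pow (a := ι v1) (b := m) (i := Nat.card (K.map C.subtype))
      rw [ai] at e
      rw [e, hpow m hm, mul_one, aa]
  · intro m hm hmt
    obtain ⟨h, rfl⟩ := J.cent m hmt.symm
    have h1 : h * X0 = X0 * h := J.inj (by rw [map_mul, map_mul]; exact hcen _ hm)
    rcases X0_cent h h1 with rfl | rfl | rfl | h2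
    · rw [map_one]; exact Subgroup.one_mem _
    · exact Subgroup.mem_zpowers _
    · rw [map_mul]; exact Subgroup.mul_mem _ (Subgroup.mem_zpowers _) (Subgroup.mem_zpowers _)
    · exfalso
      have h3 := hpow _ hm
      obtain ⟨k, hk⟩ := hodd
      have h4 : (ι z0) ^ Nat.card (K.map C.subtype) = 1 := by
        rw [← h2, map_mul, map_mul]
        have : ι h * ι h * ι h = ι h ^ 3 := by rw [pow_succ, pow_succ, pow_one]
        rw [this, ← pow_mul, mul_comm, pow_mul, h3, one_pow]
      rw [hk, pow_succ, pow_mul, sq, tt, one_pow, one_mul] at h4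
      exact J.z0_ne_one h4

end Jan

end Cfsg.Agent.Lib.JanLoc
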