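import Cfsg.Agent.Lib.JanCnt

set_option autoImplicit false
set_option linter.all false

/-!
# Groups with an involution with centralizer `Z2 × A5`: the normalizer of a Sylow 2-subgroup (helper17)
-/

namespace Cfsg.Agent.Lib.JanLoc

open Cfsg.Agent.Lib.JanH Subgroup
open scoped Pointwise

universe u

variable {G : Type u} [Group G]

def cv (k : H) : Bool := decide (k * v1 = v1 * k)
def nrm (h : H) : Bool := cv (h⁻¹ * v1 * h) && cv (h⁻¹ * v2 * h)

theorem card_nrm : Fintype.card {h : H // nrm h = true} = 24 := by decide +kernel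
theorem nrm_spec : ∀ h : H, nrm h = true → ∀ k : H, cv k = true → cv (h⁻¹ * k * h) = true := by decide +kernel
theorem card_S7 : Fintype.card {h : H // h * v1 = v1 * h ∧ h ≠ 1} = 7 := by decide +kernel
theorem x0_fix : ∀ k : H, k * v1 = v1 * k → x0⁻¹ * k * x0 = k → k = 1 ∨ k = z0 := by decide +kernel
theorem no_seven : ∀ h : H, h ^ 7 = 1 → h = 1 := by decide +kernel

namespace Jan

variable {ι : H →* G} (J : Jan ι)
include J

theorem mem_N_iff [Finite G] {h : H} : ι h ∈ N ι ↔ nrm h = true := by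
  constructor
  · intro hh
    have h1 : ∀ k : H, k * v1 = v1 * k → cv (h⁻¹ * k * h) = true := by
      intro k hk
      have := J.conj_mem_S hh (mem_S.2 ⟨k, hk, rfl⟩)
      rw [← map_inv, ← map_mul, ← map_mul] at this
      obtain ⟨l, hl, e⟩ := mem_S.1 this
      have := J.inj e
      subst this
      simpa [cv] using hl
    unfold nrm
    rw [Bool.and_eq_true]
    exact ⟨h1 v1 rfl, h1 v2 (by decide +kernel)⟩
  · intro hh
    have h2 := nrm_spec h hh
    have h3 : (ι h)⁻¹ ∈ Subgroup.normalizer (S ι : Set G) := by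
      apply Subgroup.mem_normalizer_fintype
      intro n hn
      obtain ⟨k, hk, rfl⟩ := mem_S.1 hn
      rw [inv_inv, ← map_inv, ← map_mul, ← map_mul]
      refine mem_S.2 ⟨_, ?_, rfl⟩
      have := h2 k (by simpa [cv] using hk)
      simpa [cv] using this
    have := (Subgroup.normalizer (S ι : Set G)).inv_mem h3
    rwa [inv_inv] at this

theorem card_N [Finite G] [IsSimpleGroup G] : Nat.card (N ι) = 168 := by
  set tN : N ι := ⟨ι z0, J.S_le_N J.z0_mem_S⟩ with htN
  have h1 : Nat.card {x : N ι // IsConj tN x} = 7 := by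
    rw [← card_S7, ← Nat.card_eq_fintype_card]
    symm
    refine Nat.card_congr (Equiv.ofBijective
      (fun h => ⟨⟨ι h.1, J.S_le_N (mem_S.2 ⟨h.1, h.2.1, rfl⟩)⟩, ?_⟩) ⟨?_, ?_⟩)
    · obtain ⟨n, hn, e⟩ := J.fuse h.2.1 h.2.2
      rw [isConj_iff]
      refine ⟨⟨n⁻¹, (N ι).inv_mem hn⟩, Subtype.ext ?_⟩
      show n⁻¹ * ι z0 * n⁻¹⁻¹ = ι h.1
      rw [inv_inv]; exact e
    · intro a b hab
      have := congrArg (fun x : {x : N ι // IsConj tN x} => ((x.1 : N ι) : G)) hab
      exact Subtype.ext (J.inj this)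
    · rintro ⟨x, hx⟩
      obtain ⟨c, hc⟩ := isConj_iff.1 hx
      have hc' : (c : G) * ι z0 * (c : G)⁻¹ = x := congrArg Subtype.val hc
      have hxS : (x : G) ∈ S ι := by
        have := J.conj_mem_S ((N ι).inv_mem c.2) J.z0_mem_S
        rw [inv_inv, hc'] at this
        exact this
      obtain ⟨h, hh, e⟩ := mem_S.1 hxS
      refine ⟨⟨h, hh, ?_⟩, ?_⟩
      · rintro rfl
        rw [map_one] at e
        apply J.z0_ne_one
        calc ι z0 = (c : G)⁻¹ * ((c : G) * ι z0 * (c : G)⁻¹) * c := by group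
          _ = 1 := by rw [hc', ← e]; group
      · apply Subtype.ext
        apply Subtype.ext
        exact e
  have h2 : Nat.card (Subgroup.centralizer ({tN} : Set (N ι))) = 24 := by
    rw [← card_nrm, ← Nat.card_eq_fintype_card]
    symm
    refine Nat.card_congr (Equiv.ofBijective
      (fun h => ⟨⟨ι h.1, J.mem_N_iff.2 h.2⟩, ?_⟩) ⟨?_, ?_⟩)
    · rw [Subgroup.mem_centralizer_singleton_iff]
      apply Subtype.ext
      show ι h.1 * ι z0 = ι z0 * ι h.1
      rw [← map_mul, ← map_mul, z0_central]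
    · intro a b hab
      have := congrArg (fun x : Subgroup.centralizer ({tN} : Set (N ι)) => ((x : N ι) : G)) hab
      exact Subtype.ext (J.inj this)
    · rintro ⟨⟨x, hxN⟩, hx⟩
      rw [Subgroup.mem_centralizer_singleton_iff] at hx
      have hx' : x * ι z0 = ι z0 * x := congrArg Subtype.val hx
      obtain ⟨h, rfl⟩ := J.cent x hx'
      exact ⟨⟨h, J.mem_N_iff.1 hxN⟩, rfl⟩
  have h3 := Cfsg.Agent.Lib.CharBasic.card_isConj_mul_card_centralizer tN
  rw [h1, h2] at h3
  omega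

instance fact7 : Fact (Nat.Prime 7) := ⟨by norm_num⟩

/-- some Sylow 7-subgroup of `N` is normalized by `x0` -/
theorem exists_z_aux [Finite G] [IsSimpleGroup G] : ∃ z ∈ N ι, z ≠ 1 ∧ z ^ 7 = 1 ∧ ∃ k : ℕ, k < 7 ∧
    (ι x0)⁻¹ * z * ι x0 = z ^ k := by
  have hN := J.card_N
  obtain ⟨Q0⟩ : Nonempty (Sylow 7 (N ι)) := inferInstance
  have hQ7 : ∀ Q : Sylow 7 (N ι), Nat.card Q = 7 := by
    intro Q
    rw [Q.card_eq_multiplicity, hN]
    have : (168 : ℕ).factorization 7 = 1 := by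
      rw [show (168 : ℕ) = 7 ^ 1 * 24 by norm_num, Nat.factorization_mul (by norm_num) (by norm_num),
        Nat.Prime.factorization_pow (by norm_num)]
      simp only [Finsupp.coe_add, Pi.add_apply, Finsupp.single_eq_same]
      rw [Nat.factorization_eq_zero_of_not_dvd (by norm_num)]
    rw [this]; norm_num
  have hn1 : Nat.card (Sylow 7 (N ι)) ≡ 1 [MOD 7] := card_sylow_modEq_one 7 (N ι)
  have hn2 : Nat.card (Sylow 7 (N ι)) ∣ 24 := by
    have h1 := Q0.card_dvd_index
    have h2 := Subgroup.card_mul_index (Q0 : Subgroup (N ι))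
    rw [hN] at h2
    have h3 : Nat.card (Q0 : Subgroup (N ι)) = 7 := hQ7 Q0
    rw [h3] at h2
    have h4 : (Q0 : Subgroup (N ι)).index = 24 := by omega
    rwa [h4] at h1
  have hn3 : ¬ 3 ∣ Nat.card (Sylow 7 (N ι)) := by
    have hle : Nat.card (Sylow 7 (N ι)) ≤ 24 := Nat.le_of_dvd (by norm_num) hn2
    unfold Nat.ModEq at hn1
    generalize Nat.card (Sylow 7 (N ι)) = n at hn1 hn2 hle
    interval_cases n <;> omega
  set xN : N ι := ⟨ι x0, J.x0_mem_N⟩ with hxN
  have hx3 : xN ^ 3 = 1 := by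
    apply Subtype.ext
    show (ι x0) ^ 3 = 1
    rw [← map_pow, show x0 ^ 3 = 1 by decide +kernel, map_one]
  have hp : IsPGroup 3 (Subgroup.zpowers xN) := by
    intro y
    obtain ⟨m, hm⟩ := Subgroup.mem_zpowers_iff.1 y.2
    refine ⟨1, Subtype.ext ?_⟩
    push_cast
    norm_num
    rw [← hm, ← zpow_natCast, ← zpow_mul, mul_comm, zpow_mul, zpow_natCast, hx3, one_zpow]
  obtain ⟨Q, hQ⟩ := hp.nonempty_fixed_point_of_prime_not_dvd_card (Sylow 7 (N ι)) hn3
  have hfix : xN • Q = Q := hQ ⟨xN, Subgroup.mem_zpowers xN⟩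
  have hnorm := Sylow.smul_eq_iff_mem_normalizer.1 hfix
  have : Nontrivial (Q : Subgroup (N ι)) := by
    rw [← Finite.one_lt_card_iff_nontrivial]
    have := hQ7 Q
    show 1 < Nat.card Q
    omega
  obtain ⟨z, hz⟩ := exists_ne (1 : (Q : Subgroup (N ι)))
  have hz7 : ((z : N ι) : G) ^ 7 = 1 := by
    have h1 : z ^ 7 = 1 := by
      have h2 := pow_card_eq_one' (x := z)
      have h3 : Nat.card (Q : Subgroup (N ι)) = 7 := hQ7 Q
      rwa [h3] at h2
    have h2 := congrArg (fun y : (Q : Subgroup (N ι)) => ((y : N ι) : G)) h1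
    simpa using h2
  have hz1 : ((z : N ι) : G) ≠ 1 := by
    intro e
    exact hz (Subtype.ext (Subtype.ext e))
  refine ⟨z, (z : N ι).2, hz1, hz7, ?_⟩
  -- the conjugate lies in `Q`
  have hm : xN⁻¹ * (z : N ι) * xN ∈ (Q : Subgroup (N ι)) :=
    (Subgroup.mem_normalizer_iff''.1 hnorm (z : N ι)).1 z.2
  have hord : orderOf z = 7 := by
    apply orderOf_eq_prime _ hz
    have h2 := pow_card_eq_one' (x := z)
    have h3 : Nat.card (Q : Subgroup (N ι)) = 7 := hQ7 Q
    rwa [h3] at h2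
  have htop : Subgroup.zpowers z = ⊤ := by
    apply Subgroup.eq_top_of_card_eq
    rw [Nat.card_zpowers, hord]
    exact (hQ7 Q).symm
  have hmem : (⟨_, hm⟩ : (Q : Subgroup (N ι))) ∈ Subgroup.zpowers z := by rw [htop]; trivial
  rw [← mem_powers_iff_mem_zpowers] at hmem
  obtain ⟨k, hk⟩ := hmem
  refine ⟨k % 7, Nat.mod_lt _ (by norm_num), ?_⟩
  have hk' := congrArg (fun y : (Q : Subgroup (N ι)) => ((y : N ι) : G)) hk
  simp only [Subgroup.coe_pow, Subgroup.coe_mul, Subgroup.coe_inv] at hk'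
  rw [← hk']
  conv_lhs => rw [← Nat.div_add_mod k 7, pow_add, pow_mul, hz7, one_pow, one_mul]

/-- powers of `z` commuting with an element of `S` -/
theorem z_fix [Finite G] [IsSimpleGroup G] {z : G} (hz7 : z ^ 7 = 1) (hz : z ≠ 1) {k : ℕ} (hk : k % 7 ≠ 0)
    (hc : z ^ k * ι z0 = ι z0 * z ^ k) : False := by
  obtain ⟨h, hh⟩ := J.cent _ hc
  have h1 : h ^ 7 = 1 := by
    apply J.inj
    rw [map_pow, hh, ← pow_mul, mul_comm, pow_mul, hz7, one_pow, map_one]
  have h2 := no_seven h h1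
  rw [h2, map_one] at hh
  apply hz
  have ho : orderOf z = 7 := orderOf_eq_prime hz7 hz
  have := orderOf_dvd_of_pow_eq_one hh.symm
  rw [ho] at this
  omega

end Jan

end Cfsg.Agent.Lib.JanLoc
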