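import Cfsg.Agent.Lib.JanNS

set_option autoImplicit false
set_option linter.all false

/-!
# Groups with an involution with centralizer `Z2 × A5`: the element of order 7 (helper17)
-/

namespace Cfsg.Agent.Lib.JanLoc

open Cfsg.Agent.Lib.JanH Subgroup Equiv

universe u

variable {G : Type u} [Group G]

/-- conjugation by an odd permutation -/
def phiFun (h : H) : H := (h.1, ⟨swap 0 1 * h.2.1 * swap 0 1, by
  have := Equiv.Perm.mem_alternatingGroup.1 h.2.2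
  rw [Equiv.Perm.mem_alternatingGroup]
  rw [map_mul, map_mul, this, mul_one, ← map_mul]
  simp⟩)

theorem swap_sq : (swap 0 1 : Perm (Fin 5)) * swap 0 1 = 1 := by decide

def phi : H →* H where
  toFun := phiFun
  map_one' := by decide +kernel
  map_mul' := by
    intro a b
    apply Prod.ext
    · rfl
    · apply Subtype.ext
      show swap 0 1 * (a.2.1 * b.2.1) * swap 0 1 = (swap 0 1 * a.2.1 * swap 0 1) * (swap 0 1 * b.2.1 * swap 0 1)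
      calc swap 0 1 * (a.2.1 * b.2.1) * swap 0 1 = swap 0 1 * a.2.1 * 1 * b.2.1 * swap 0 1 := by group
        _ = swap 0 1 * a.2.1 * (swap 0 1 * swap 0 1) * b.2.1 * swap 0 1 := by rw [swap_sq]
        _ = _ := by group

theorem phi_phi : ∀ h : H, phi (phi h) = h := by
  intro h
  apply Prod.ext
  · rfl
  · apply Subtype.ext
    show swap 0 1 * (swap 0 1 * h.2.1 * swap 0 1) * swap 0 1 = h.2.1
    calc swap 0 1 * (swap 0 1 * h.2.1 * swap 0 1) * swap 0 1 = (swap 0 1 * swap 0 1) * h.2.1 * (swap 0 1 * swap 0 1) := by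
          group
      _ = h.2.1 := by rw [swap_sq]; group

theorem phi_z0 : phi z0 = z0 := by decide +kernel
theorem phi_x0 : phi x0 = x0⁻¹ := by decide +kernel
theorem phi_v1 : phi v1 = v1 := by decide +kernel

theorem phi_inj : Function.Injective phi := fun a b h => by
  rw [← phi_phi a, h, phi_phi]

namespace Jan

variable {ι : H →* G} (J : Jan ι)
include J

theorem jan_phi : Jan (ι.comp phi) := by
  refine ⟨J.inj.comp phi_inj, fun g hg => ?_, J.syl⟩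
  rw [MonoidHom.comp_apply, phi_z0] at hg
  obtain ⟨h, rfl⟩ := J.cent g hg
  exact ⟨phi h, by rw [MonoidHom.comp_apply, phi_phi]⟩

omit J in
theorem S_phi : S (ι.comp phi) = S ι := by
  ext g
  rw [mem_S, mem_S]
  constructor
  · rintro ⟨h, h1, rfl⟩
    refine ⟨phi h, ?_, rfl⟩
    have := congrArg phi h1
    rwa [map_mul, map_mul, phi_v1] at this
  · rintro ⟨h, h1, rfl⟩
    refine ⟨phi h, ?_, by rw [MonoidHom.comp_apply, phi_phi]⟩
    have := congrArg phi h1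
    rwa [map_mul, map_mul, phi_v1] at this

/-- normal form of the conjugate of `t` -/
theorem z_normal [Finite G] [IsSimpleGroup G] {z : G} (hzN : z ∈ N ι) (hz : z ≠ 1) (hz7 : z ^ 7 = 1)
    (hx : (ι x0)⁻¹ * z * ι x0 = z ^ 2) :
    ∃ z' ∈ N ι, z' ≠ 1 ∧ z' ^ 7 = 1 ∧ (ι x0)⁻¹ * z' * ι x0 = z' ^ 2 ∧ z'⁻¹ * ι z0 * z' = ι v1 := by
  have hxt : ι x0 * ι z0 = ι z0 * ι x0 := by rw [← map_mul, ← map_mul, z0_central]
  have hxt' : (ι x0)⁻¹ * ι z0 = ι z0 * (ι x0)⁻¹ := by rw [← map_inv, ← map_mul, ← map_mul, z0_central]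
  -- conjugating by `x0`
  have step1 : ∀ {w : G}, w ∈ N ι → w ≠ 1 → w ^ 7 = 1 → (ι x0)⁻¹ * w * ι x0 = w ^ 2 → ∀ {s : H},
      w⁻¹ * ι z0 * w = ι s → (s = v1 ∨ s = v2 ∨ s = v3) →
      ∃ z' ∈ N ι, z' ≠ 1 ∧ z' ^ 7 = 1 ∧ (ι x0)⁻¹ * z' * ι x0 = z' ^ 2 ∧ z'⁻¹ * ι z0 * z' = ι v1 := by
    intro w hwN hw1 hw7 hwx s hs hs'
    rcases hs' with rfl | rfl | rfl
    · exact ⟨w, hwN, hw1, hw7, hwx, hs⟩
    · refine ⟨ι x0 * w * (ι x0)⁻¹, (N ι).mul_mem ((N ι).mul_mem J.x0_mem_N hwN) ((N ι).inv_mem J.x0_mem_N), ?_, ?_, ?_, ?_⟩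
      · intro e
        apply hw1
        calc w = (ι x0)⁻¹ * (ι x0 * w * (ι x0)⁻¹) * ι x0 := by group
          _ = 1 := by rw [e]; group
      · rw [conj_pow, hw7]; group
      · rw [conj_pow, ← hwx]; group
      · calc (ι x0 * w * (ι x0)⁻¹)⁻¹ * ι z0 * (ι x0 * w * (ι x0)⁻¹)
            = ι x0 * w⁻¹ * ((ι x0)⁻¹ * ι z0) * ι x0 * w * (ι x0)⁻¹ := by group
          _ = ι x0 * (w⁻¹ * ι z0 * w) * (ι x0)⁻¹ := by rw [hxt']; group
          _ = ι (x0 * v2 * x0⁻¹) := by rw [hs, map_mul, map_mul, map_inv]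
          _ = ι v1 := by rw [show x0 * v2 * x0⁻¹ = v1 by decide +kernel]
    · refine ⟨(ι x0)⁻¹ * w * ι x0, (N ι).mul_mem ((N ι).mul_mem ((N ι).inv_mem J.x0_mem_N) hwN) J.x0_mem_N, ?_, ?_, ?_, ?_⟩
      · intro e
        apply hw1
        calc w = ι x0 * ((ι x0)⁻¹ * w * ι x0) * (ι x0)⁻¹ := by group
          _ = 1 := by rw [e]; group
      · rw [hwx, ← pow_mul, mul_comm, pow_mul, hw7, one_pow]
      · calc (ι x0)⁻¹ * ((ι x0)⁻¹ * w * ι x0) * ι x0 = (ι x0)⁻¹ * (w ^ 2) * ι x0 := by rw [hwx]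
          _ = ((ι x0)⁻¹ * w * ι x0) ^ 2 := by rw [sq, sq]; group
      · calc ((ι x0)⁻¹ * w * ι x0)⁻¹ * ι z0 * ((ι x0)⁻¹ * w * ι x0)
            = (ι x0)⁻¹ * w⁻¹ * (ι x0 * ι z0) * (ι x0)⁻¹ * w * ι x0 := by group
          _ = (ι x0)⁻¹ * (w⁻¹ * ι z0 * w) * ι x0 := by rw [hxt]; group
          _ = ι (x0⁻¹ * v3 * x0) := by rw [hs, map_mul, map_mul, map_inv]
          _ = ι v1 := by rw [x0_v3]
  have e1S : z⁻¹ * ι z0 * z ∈ S ι := J.conj_mem_S hzN J.z0_mem_S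
  have hne1 : z⁻¹ * ι z0 * z ≠ 1 := by
    intro e
    apply J.z0_ne_one
    calc ι z0 = z * (z⁻¹ * ι z0 * z) * z⁻¹ := by group
      _ = 1 := by rw [e]; group
  have hnet : z⁻¹ * ι z0 * z ≠ ι z0 := by
    intro e
    apply J.z_fix hz7 hz (k := 1) (by norm_num)
    rw [pow_one]
    calc z * ι z0 = z * (z⁻¹ * ι z0 * z) := by rw [e]
      _ = ι z0 * z := by group
  by_cases hgood : ∃ s : H, z⁻¹ * ι z0 * z = ι s ∧ (s = v1 ∨ s = v2 ∨ s = v3)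
  · obtain ⟨s, hs, hs'⟩ := hgood
    exact step1 hzN hz hz7 hx hs hs'
  · -- use the inverse
    have hxi : (ι x0)⁻¹ * z⁻¹ * ι x0 = z⁻¹ ^ 2 := by
      have : (ι x0)⁻¹ * z⁻¹ * ι x0 = ((ι x0)⁻¹ * z * ι x0)⁻¹ := by group
      rw [this, hx, inv_pow]
    have hz7i : z⁻¹ ^ 7 = 1 := by rw [inv_pow, hz7, inv_one]
    have hzi : z⁻¹ ≠ 1 := fun e => hz (inv_eq_one.1 e)
    -- conjugates
    have c2 : (z ^ 2)⁻¹ * ι z0 * z ^ 2 = (ι x0)⁻¹ * (z⁻¹ * ι z0 * z) * ι x0 := by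
      rw [← hx]
      calc ((ι x0)⁻¹ * z * ι x0)⁻¹ * ι z0 * ((ι x0)⁻¹ * z * ι x0)
          = (ι x0)⁻¹ * z⁻¹ * (ι x0 * ι z0) * (ι x0)⁻¹ * z * ι x0 := by group
        _ = _ := by rw [hxt]; group
    have c4 : (z ^ 4)⁻¹ * ι z0 * z ^ 4 = (ι x0)⁻¹ * ((z ^ 2)⁻¹ * ι z0 * z ^ 2) * ι x0 := by
      have h4 : z ^ 4 = (ι x0)⁻¹ * z ^ 2 * ι x0 := by
        calc z ^ 4 = (z ^ 2) ^ 2 := by rw [← pow_mul]
          _ = ((ι x0)⁻¹ * z * ι x0) ^ 2 := by rw [hx]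
          _ = (ι x0)⁻¹ * z ^ 2 * ι x0 := by rw [sq, sq]; group
      rw [h4]
      calc ((ι x0)⁻¹ * z ^ 2 * ι x0)⁻¹ * ι z0 * ((ι x0)⁻¹ * z ^ 2 * ι x0)
          = (ι x0)⁻¹ * (z ^ 2)⁻¹ * (ι x0 * ι z0) * (ι x0)⁻¹ * z ^ 2 * ι x0 := by group
        _ = _ := by rw [hxt]; group
    have hxc : ∀ a b : H, x0⁻¹ * a * x0 = b → (ι x0)⁻¹ * ι a * ι x0 = ι b := by
      intro a b h
      rw [← h, map_mul, map_mul, map_inv]
    have k1 := hxc (z0 * v1) (z0 * v2) (by decide +kernel)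
    have k2 := hxc (z0 * v2) (z0 * v3) (by decide +kernel)
    have k3 := hxc (z0 * v3) (z0 * v1) (by decide +kernel)
    have hcover : ∀ s : H, (s = z0 * v1 ∨ s = z0 * v2 ∨ s = z0 * v3) →
        ∃ j : ℕ, (j = 1 ∨ j = 2 ∨ j = 4) ∧ (z ^ j)⁻¹ * ι z0 * z ^ j = ι s := by
      have hb : ∃ s : H, z⁻¹ * ι z0 * z = ι s ∧ (s = z0 * v1 ∨ s = z0 * v2 ∨ s = z0 * v3) := by
        rcases J.S_list e1S with e | e | e | e | e | e | e | e
        · exact absurd e hne1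
        · exact absurd e hnet
        · exact absurd ⟨_, e, Or.inl rfl⟩ hgood
        · exact absurd ⟨_, e, Or.inr (Or.inl rfl)⟩ hgood
        · exact absurd ⟨_, e, Or.inr (Or.inr rfl)⟩ hgood
        · exact ⟨_, e, Or.inl rfl⟩
        · exact ⟨_, e, Or.inr (Or.inl rfl)⟩
        · exact ⟨_, e, Or.inr (Or.inr rfl)⟩
      obtain ⟨s, hs, hs'⟩ := hb
      have h1 : (z ^ 1)⁻¹ * ι z0 * z ^ 1 = ι s := by rw [pow_one]; exact hs
      rcases hs' with rfl | rfl | rfl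
      · have h2 : (z ^ 2)⁻¹ * ι z0 * z ^ 2 = ι (z0 * v2) := by rw [c2, hs, k1]
        have h3 : (z ^ 4)⁻¹ * ι z0 * z ^ 4 = ι (z0 * v3) := by rw [c4, h2, k2]
        rintro s (rfl | rfl | rfl)
        · exact ⟨1, Or.inl rfl, h1⟩
        · exact ⟨2, Or.inr (Or.inl rfl), h2⟩
        · exact ⟨4, Or.inr (Or.inr rfl), h3⟩
      · have h2 : (z ^ 2)⁻¹ * ι z0 * z ^ 2 = ι (z0 * v3) := by rw [c2, hs, k2]
        have h3 : (z ^ 4)⁻¹ * ι z0 * z ^ 4 = ι (z0 * v1) := by rw [c4, h2, k3]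
        rintro s (rfl | rfl | rfl)
        · exact ⟨4, Or.inr (Or.inr rfl), h3⟩
        · exact ⟨1, Or.inl rfl, h1⟩
        · exact ⟨2, Or.inr (Or.inl rfl), h2⟩
      · have h2 : (z ^ 2)⁻¹ * ι z0 * z ^ 2 = ι (z0 * v1) := by rw [c2, hs, k3]
        have h3 : (z ^ 4)⁻¹ * ι z0 * z ^ 4 = ι (z0 * v2) := by rw [c4, h2, k1]
        rintro s (rfl | rfl | rfl)
        · exact ⟨2, Or.inr (Or.inl rfl), h2⟩
        · exact ⟨4, Or.inr (Or.inr rfl), h3⟩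
        · exact ⟨1, Or.inl rfl, h1⟩
    have fS : z⁻¹⁻¹ * ι z0 * z⁻¹ ∈ S ι := J.conj_mem_S ((N ι).inv_mem hzN) J.z0_mem_S
    have hbad : ∀ s : H, z⁻¹⁻¹ * ι z0 * z⁻¹ = ι s → ¬ (s = z0 * v1 ∨ s = z0 * v2 ∨ s = z0 * v3) := by
      intro s hs hs'
      obtain ⟨j, hj, hj'⟩ := hcover s hs'
      have h5 : z⁻¹⁻¹ * ι z0 * z⁻¹ = (z ^ j)⁻¹ * ι z0 * z ^ j := by rw [hs, hj']
      rw [inv_inv] at h5
      apply J.z_fix hz7 hz (k := j + 1) (by omega)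
      calc z ^ (j + 1) * ι z0 = z ^ j * (z * ι z0 * z⁻¹) * z := by rw [pow_succ]; group
        _ = z ^ j * ((z ^ j)⁻¹ * ι z0 * z ^ j) * z := by rw [h5]
        _ = ι z0 * z ^ (j + 1) := by rw [pow_succ]; group
    rcases J.S_list fS with e | e | e | e | e | e | e | e
    · exfalso
      apply J.z0_ne_one
      calc ι z0 = z⁻¹ * (z⁻¹⁻¹ * ι z0 * z⁻¹) * z := by group
        _ = 1 := by rw [e]; group
    · exfalso
      apply hnet
      calc z⁻¹ * ι z0 * z = z⁻¹ * (z⁻¹⁻¹ * ι z0 * z⁻¹) * z := by rw [e]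
        _ = ι z0 := by group
    · exact step1 ((N ι).inv_mem hzN) hzi hz7i hxi e (Or.inl rfl)
    · exact step1 ((N ι).inv_mem hzN) hzi hz7i hxi e (Or.inr (Or.inl rfl))
    · exact step1 ((N ι).inv_mem hzN) hzi hz7i hxi e (Or.inr (Or.inr rfl))
    · exact absurd (Or.inl rfl) (hbad _ e)
    · exact absurd (Or.inr (Or.inl rfl)) (hbad _ e)
    · exact absurd (Or.inr (Or.inr rfl)) (hbad _ e)

/-- the element of order 7 -/
theorem exists_z [Finite G] [IsSimpleGroup G] : ∃ (κ : H →* G) (z : G), Jan κ ∧ κ z0 = ι z0 ∧ S κ = S ι ∧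
    z ∈ N κ ∧ z ≠ 1 ∧ z ^ 7 = 1 ∧ (κ x0)⁻¹ * z * κ x0 = z ^ 2 ∧ z⁻¹ * κ z0 * z = κ v1 := by
  obtain ⟨z, hzN, hz, hz7, k, hk, hx⟩ := J.exists_z_aux
  have ho : orderOf z = 7 := orderOf_eq_prime hz7 hz
  have hx3 : ι x0 * ι x0 * ι x0 = 1 := by rw [← map_mul, ← map_mul, x0_cube, map_one]
  have hconj : ∀ n : ℕ, (ι x0)⁻¹ * z ^ n * ι x0 = z ^ (k * n) := by
    intro n
    have e := conj_pow (a := (ι x0)⁻¹) (b := z) (i := n)
    rw [inv_inv] at e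
    rw [← e, hx, ← pow_mul]
  have hk3 : z ^ (k * (k * k)) = z := by
    rw [← hconj, ← hconj, ← hx]
    calc (ι x0)⁻¹ * ((ι x0)⁻¹ * ((ι x0)⁻¹ * z * ι x0) * ι x0) * ι x0
        = (ι x0 * ι x0 * ι x0)⁻¹ * z * (ι x0 * ι x0 * ι x0) := by group
      _ = z := by rw [hx3]; group
  have hk3' : z ^ (k * (k * k)) = z ^ 1 := by rw [hk3, pow_one]
  rw [pow_inj_mod, ho] at hk3'
  have hk124 : k = 1 ∨ k = 2 ∨ k = 4 := by
    clear hx hconj hk3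
    interval_cases k <;> omega
  rcases hk124 with rfl | rfl | rfl
  · exfalso
    rw [pow_one] at hx
    -- `x0` centralizes `z`
    have e1S : z⁻¹ * ι z0 * z ∈ S ι := J.conj_mem_S hzN J.z0_mem_S
    obtain ⟨h, hh, he⟩ := mem_S.1 e1S
    have hc : (ι x0)⁻¹ * (z⁻¹ * ι z0 * z) * ι x0 = z⁻¹ * ι z0 * z := by
      have hxt : ι x0 * ι z0 = ι z0 * ι x0 := by rw [← map_mul, ← map_mul, z0_central]
      calc (ι x0)⁻¹ * (z⁻¹ * ι z0 * z) * ι x0 =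
          ((ι x0)⁻¹ * z * ι x0)⁻¹ * ((ι x0)⁻¹ * (ι z0 * ι x0)) * ((ι x0)⁻¹ * z * ι x0) := by group
        _ = _ := by rw [← hxt, hx]; group
    rw [← he, ← map_inv, ← map_mul, ← map_mul] at hc
    rcases x0_fix h hh (J.inj hc) with rfl | rfl
    · rw [map_one] at he
      apply J.z0_ne_one
      calc ι z0 = z * (z⁻¹ * ι z0 * z) * z⁻¹ := by group
        _ = 1 := by rw [← he]; group
    · apply J.z_fix hz7 hz (k := 1) (by norm_num)
      rw [pow_one]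
      calc z * ι z0 = z * (z⁻¹ * ι z0 * z) := by rw [← he]
        _ = ι z0 * z := by group
  · obtain ⟨z', h1, h2, h3, h4, h5⟩ := J.z_normal hzN hz hz7 hx
    exact ⟨ι, z', J, rfl, rfl, h1, h2, h3, h4, h5⟩
  · have hx' : (ι.comp phi x0)⁻¹ * z * ι.comp phi x0 = z ^ 2 := by
      rw [MonoidHom.comp_apply, phi_x0, map_inv, inv_inv]
      have h1 := hconj 2
      norm_num at h1
      have h8 : z ^ 8 = z := by
        rw [show 8 = 7 + 1 by norm_num, pow_succ, hz7, one_mul]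
      rw [h8] at h1
      calc ι x0 * z * (ι x0)⁻¹ = ι x0 * ((ι x0)⁻¹ * z ^ 2 * ι x0) * (ι x0)⁻¹ := by rw [h1]
        _ = z ^ 2 := by group
    have hzN' : z ∈ N (ι.comp phi) := by rw [N, S_phi]; exact hzN
    obtain ⟨z', h1, h2, h3, h4, h5⟩ := J.jan_phi.z_normal hzN' hz hz7 hx'
    exact ⟨ι.comp phi, z', J.jan_phi, by rw [MonoidHom.comp_apply, phi_z0], S_phi, h1, h2, h3, h4, h5⟩

end Jan

end Cfsg.Agent.Lib.JanLoc
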