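import Mathlib

set_option autoImplicit false
set_option linter.all false

/-!
# Arithmetic for the order of Janko's first group (helper17)
-/

namespace Cfsg.Agent.Lib.JanNum

/-- the test for a pair of degrees -/
def tst (a1 a2 : ℤ) : Bool :=
  bif decide (a1 ^ 2 ≤ a2 ^ 2) then
  let m := a1 + a2
  let d := m - 1
  let num := 86400 * d * a1 * a2
  let den := m * (a1 * a2 - 25 * d)
  bif (num % den == 0) then
    let g := num / den
    bif (decide (0 < g) && (g % 8 == 0) && decide (a1 ^ 2 + a2 ^ 2 + d ^ 2 + 1 ≤ g)) then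
      let e := 144000 * d - m * g
      bif ((-9 * m * g * d) % e == 0) then
        bif decide (0 ≤ m ^ 2 - 4 * ((-9 * m * g * d) / e)) then (g == 175560 || g == 189000) else true
      else true
    else true
  else true
  else true

theorem check : (List.range 251).all (fun i => (List.range 251).all (fun j =>
    tst (8 * (i : ℤ) - 1003) (8 * (j : ℤ) - 1003))) = true := by
  decide +kernel

theorem of_tst {a1 a2 g B : ℤ} (h : tst a1 a2 = true) (hle : a1 ^ 2 ≤ a2 ^ 2)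
    (hm : a1 + a2 ≠ 0) (hden : a1 * a2 - 25 * (a1 + a2 - 1) ≠ 0)
    (hg0 : 0 < g) (hg8 : g % 8 = 0) (hsq : a1 ^ 2 + a2 ^ 2 + (a1 + a2 - 1) ^ 2 + 1 ≤ g)
    (hX : g * ((a1 + a2) * (a1 * a2 - 25 * (a1 + a2 - 1))) = 86400 * (a1 + a2 - 1) * a1 * a2)
    (hd : a1 + a2 - 1 ≠ 0)
    (hB : B * (144000 * (a1 + a2 - 1) - (a1 + a2) * g) = -9 * (a1 + a2) * g * (a1 + a2 - 1))
    (hdisc : 0 ≤ (a1 + a2) ^ 2 - 4 * B) : g = 175560 ∨ g = 189000 := by
  have hden' : (a1 + a2) * (a1 * a2 - 25 * (a1 + a2 - 1)) ≠ 0 := mul_ne_zero hm hden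
  have hgq : 86400 * (a1 + a2 - 1) * a1 * a2 / ((a1 + a2) * (a1 * a2 - 25 * (a1 + a2 - 1))) = g := by
    rw [← hX]; exact Int.mul_ediv_cancel g hden'
  have hgr : 86400 * (a1 + a2 - 1) * a1 * a2 % ((a1 + a2) * (a1 * a2 - 25 * (a1 + a2 - 1))) = 0 := by
    rw [← hX]; exact Int.mul_emod_left _ _
  have he : (144000 * (a1 + a2 - 1) - (a1 + a2) * g) ≠ 0 := by
    intro h0
    rw [h0, mul_zero] at hB
    have h1 : (-9 * (a1 + a2) * g * (a1 + a2 - 1)) ≠ 0 :=
      mul_ne_zero (mul_ne_zero (mul_ne_zero (by norm_num) hm) hg0.ne') hd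
    exact h1 hB.symm
  have hBq : -9 * (a1 + a2) * g * (a1 + a2 - 1) / (144000 * (a1 + a2 - 1) - (a1 + a2) * g) = B := by
    rw [← hB]; exact Int.mul_ediv_cancel B he
  have hBr : -9 * (a1 + a2) * g * (a1 + a2 - 1) % (144000 * (a1 + a2 - 1) - (a1 + a2) * g) = 0 := by
    rw [← hB]; exact Int.mul_emod_left _ _
  unfold tst at h
  simp only [hgq, hgr, hBq, hBr] at h
  rw [decide_eq_true hle, decide_eq_true hg0, decide_eq_true hsq, decide_eq_true hdisc, hg8] at h
  simpa using h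

end Cfsg.Agent.Lib.JanNum
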