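import Cfsg.Agent.Lib.JanVal4
import Cfsg.Agent.Lib.JanKill2

set_option autoImplicit false
set_option linter.all false

/-!
# Janko: a simple group with a 2-central involution with centralizer `Z2 × A5` has order 175560 (helper17)
-/

namespace Cfsg.Agent.Lib.JanLoc

open Cfsg.Agent.Lib.JanH Subgroup Cfsg.Agent.Lib.JanMS

universe u

variable {G : Type u} [Group G]

/-- the order -/
theorem Jan.order [Finite G] [IsSimpleGroup G] {ι : H →* G} (J : Jan ι) : Nat.card G = 175560 :=
  J.card_eq J.order_cases

theorem janko_order [Finite G] [IsSimpleGroup G] (t : G) (ht : Cfsg.IsTwoCentralInvolution t)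
    (e : Subgroup.centralizer ({t} : Set G) ≃* Multiplicative (ZMod 2) × alternatingGroup (Fin 5)) :
    Nat.card G = 175560 := by
  obtain ⟨ι, J, -⟩ := exists_jan t ht e
  exact J.order

end Cfsg.Agent.Lib.JanLoc
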