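import Cfsg.Agent.Lib.JanZ
import Cfsg.Agent.Lib.SmallSimple

set_option autoImplicit false
set_option linter.all false

/-!
# Groups with an involution with centralizer `Z2 × A5`: elements of order 5 commuting with an element of order 3
(helper17)
-/

namespace Cfsg.Agent.Lib.JanLoc

open Cfsg.Agent.Lib.JanH Subgroup Cfsg.Agent.Lib.JanMS

universe u

variable {G : Type u} [Group G]

theorem z0v1_conj : ∀ h : H, (z0 * v1) * h * (z0 * v1) = v1 * h * v1 := by decide +kernel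

theorem card_sylow_prime [Finite G] {p : ℕ} [hp : Fact p.Prime] (P : Sylow p G) (h1 : p ∣ Nat.card G)
    (h2 : ¬ p ^ 2 ∣ Nat.card G) : Nat.card P = p := by
  obtain ⟨k, hk⟩ := P.2.exists_card_eq
  have hk' : Nat.card P = p ^ k := hk
  have h3 : p ∣ Nat.card P := P.dvd_card_of_dvd_card h1
  have h4 : Nat.card P ∣ Nat.card G := Subgroup.card_subgroup_dvd_card _
  rw [hk'] at h3 h4 ⊢
  have : k = 1 := by
    rcases Nat.lt_or_ge k 1 with h | h
    · have : k = 0 := by omega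
      subst this
      rw [pow_zero] at h3
      exact absurd (Nat.dvd_one.1 h3) hp.out.one_lt.ne'
    · rcases Nat.lt_or_ge k 2 with h' | h'
      · omega
      · exact absurd ((pow_dvd_pow p h').trans h4) h2
  rw [this, pow_one]

section

variable {κ : H →* G} {z : G} {M : Subgroup G} (J : Jan κ) (D : ZD κ z) (hM : MS (κ X0) (κ z0) (κ v1) M)
include J D hM

theorem FA_A {m : G} (hm : m ∈ FA (κ v1) M) : ∃ h : H, inv1 h = true ∧ (κ x0 * z) * m * (κ x0 * z)⁻¹ = κ h := by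
  set r := κ x0 * z with hr
  have hma := (mem_FA.1 hm).2
  have hmM := (mem_FA.1 hm).1
  have hti := hM.FA_inv hm
  have h1 : r * m * r⁻¹ * κ z0 = κ z0 * (r * m * r⁻¹) := by
    have e : κ z0 = r * κ v1 * r⁻¹ := D.r_a.symm
    rw [e]
    calc r * m * r⁻¹ * (r * κ v1 * r⁻¹) = r * (m * κ v1) * r⁻¹ := by group
      _ = r * (κ v1 * m) * r⁻¹ := by rw [hma]
      _ = _ := by group
  obtain ⟨h, hh⟩ := J.cent _ h1
  refine ⟨h, ?_, hh.symm⟩
  have h2 : v1 * h * v1 = h⁻¹ := by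
    rw [← z0v1_conj]
    apply J.inj
    rw [map_mul, map_mul, map_inv, hh, ← D.r_t', ← hr]
    calc r * κ z0 * r⁻¹ * (r * m * r⁻¹) * (r * κ z0 * r⁻¹) = r * (κ z0 * m * κ z0) * r⁻¹ := by group
      _ = (r * m * r⁻¹)⁻¹ := by rw [hti]; group
  have h3 : h ^ 15 = 1 := by
    apply pow15 hM.odd
    apply J.inj
    have := pow_card_eq_one' (x := (⟨m, hmM⟩ : M))
    have h4 : m ^ Nat.card M = 1 := congrArg Subtype.val this
    rw [map_pow, hh, conj_pow, h4, map_one]; group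
  unfold inv1
  simp [h2, h3]

theorem FA_B {m : G} (hm : m ∈ FA (κ v1 * κ z0) M) : ∃ h : H, inv1 h = true ∧
    (κ x0 * z)⁻¹ * m * (κ x0 * z)⁻¹⁻¹ = κ h := by
  set r := κ x0 * z with hr
  have hma := (mem_FA.1 hm).2
  have hmM := (mem_FA.1 hm).1
  have hti := hM.other.FA_inv hm
  have h1 : r⁻¹ * m * r⁻¹⁻¹ * κ z0 = κ z0 * (r⁻¹ * m * r⁻¹⁻¹) := by
    have e : r⁻¹ * (κ v1 * κ z0) * r = κ z0 := by
      have e' : κ v1 * κ z0 = κ (z0 * v1) := by rw [← map_mul, z0_central v1]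
      rw [e']; exact D.r_b
    have k1 : r⁻¹ * m * r⁻¹⁻¹ * (r⁻¹ * (κ v1 * κ z0) * r) = (r⁻¹ * (κ v1 * κ z0) * r) * (r⁻¹ * m * r⁻¹⁻¹) := by
      calc r⁻¹ * m * r⁻¹⁻¹ * (r⁻¹ * (κ v1 * κ z0) * r) = r⁻¹ * (m * (κ v1 * κ z0)) * r := by group
        _ = r⁻¹ * ((κ v1 * κ z0) * m) * r := by rw [hma]
        _ = _ := by group
    rwa [e] at k1
  obtain ⟨h, hh⟩ := J.cent _ h1
  refine ⟨h, ?_, hh.symm⟩
  have h2 : v1 * h * v1 = h⁻¹ := by
    apply J.inj
    rw [map_mul, map_mul, map_inv, hh, ← D.r_t, ← hr]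
    calc r⁻¹ * κ z0 * r * (r⁻¹ * m * r⁻¹⁻¹) * (r⁻¹ * κ z0 * r) = r⁻¹ * (κ z0 * m * κ z0) * r := by group
      _ = (r⁻¹ * m * r⁻¹⁻¹)⁻¹ := by rw [hti]; group
  have h3 : h ^ 15 = 1 := by
    apply pow15 hM.odd
    apply J.inj
    have := pow_card_eq_one' (x := (⟨m, hmM⟩ : M))
    have h4 : m ^ Nat.card M = 1 := congrArg Subtype.val this
    rw [map_pow, hh, conj_pow, h4, map_one]; group
  unfold inv1
  simp [h2, h3]

theorem card_A : Nat.card (FA (κ v1) M) = 1 ∨ (Nat.card (FA (κ v1) M) = 3 ∧ ∃ m ∈ FA (κ v1) M, m ≠ 1 ∧ m ^ 3 = 1) ∨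
    (Nat.card (FA (κ v1) M) = 5 ∧ ∃ m ∈ FA (κ v1) M, m ≠ 1 ∧ m ^ 5 = 1) :=
  cyc_of_inv J.inj (fun m hm => FA_A J D hM hm) (fun m hm n hn => hM.FA_comm hm hn)

theorem card_B : Nat.card (FA (κ v1 * κ z0) M) = 1 ∨
    (Nat.card (FA (κ v1 * κ z0) M) = 3 ∧ ∃ m ∈ FA (κ v1 * κ z0) M, m ≠ 1 ∧ m ^ 3 = 1) ∨
    (Nat.card (FA (κ v1 * κ z0) M) = 5 ∧ ∃ m ∈ FA (κ v1 * κ z0) M, m ≠ 1 ∧ m ^ 5 = 1) :=
  cyc_of_inv J.inj (fun m hm => FA_B J D hM hm) (fun m hm n hn => hM.other.FA_comm hm hn)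

/-- the number of Sylow 3-subgroups when they have order 3 -/
theorem sylow3_count [Finite G] (h9 : ¬ 9 ∣ Nat.card G)
    (hC : Nat.card (Subgroup.centralizer ({κ X0} : Set G)) = 2 * Nat.card M) :
    ∃ n : ℕ, n % 3 = 1 ∧ n * (4 * Nat.card M) = Nat.card G := by
  have f3 : Fact (Nat.Prime 3) := ⟨by norm_num⟩
  have hX3 : (κ X0) ^ 3 = 1 := by rw [← map_pow, show X0 ^ 3 = 1 by decide +kernel, map_one]
  have hXo : orderOf (κ X0) = 3 := orderOf_eq_prime hX3 hM.X1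
  have h3 : 3 ∣ Nat.card G := by rw [← hXo]; exact orderOf_dvd_natCard _
  have hp : IsPGroup 3 (Subgroup.zpowers (κ X0)) := IsPGroup.of_card (n := 1) (by rw [Nat.card_zpowers, hXo]; rfl)
  obtain ⟨P, hP⟩ := hp.exists_le_sylow
  have hPc := card_sylow_prime P h3 (by norm_num; exact h9)
  have hPX : (P : Subgroup G) = Subgroup.zpowers (κ X0) := by
    symm
    apply Subgroup.eq_of_le_of_card_ge hP
    rw [Nat.card_zpowers, hXo]
    exact hPc.le
  have h1 := card_sylow_modEq_one 3 G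
  have h2 : Nat.card (Sylow 3 G) = (Subgroup.normalizer ((P : Subgroup G) : Set G)).index := P.card_eq_index_normalizer
  refine ⟨Nat.card (Sylow 3 G), h1, ?_⟩
  have h4 := Subgroup.index_mul_card (Subgroup.normalizer ((P : Subgroup G) : Set G))
  rw [← h2] at h4
  rw [← h4]
  congr 1
  -- the order of the normalizer
  set N3 := Subgroup.normalizer ((P : Subgroup G) : Set G) with hN3
  set C3 := Subgroup.centralizer ((P : Subgroup G) : Set G) with hC3
  have hCeq : C3 = Subgroup.centralizer ({κ X0} : Set G) := by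
    ext g
    rw [hC3, hPX, Subgroup.mem_centralizer_iff, Subgroup.mem_centralizer_singleton_iff]
    constructor
    · intro h
      exact (h _ (Subgroup.mem_zpowers _)).symm
    · intro h y hy
      obtain ⟨n, rfl⟩ := Subgroup.mem_zpowers_iff.1 hy
      exact ((show Commute g (κ X0) from h).zpow_right n).symm
  have hle : C3 ≤ N3 := Subgroup.centralizer_le_normalizer _
  have h5 : C3.relIndex N3 ∣ 2 := by
    have h6 := (SmallSimple.relIndex_centralizer_dvd (P : Subgroup G)).trans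
      (SmallSimple.card_mulAut_dvd_factorial (P : Subgroup G))
    have h7 : Nat.card (P : Subgroup G) = 3 := hPc
    rw [h7] at h6
    exact h6
  have h6 : C3.relIndex N3 ≠ 1 := by
    intro h7
    rw [Subgroup.relIndex_eq_one] at h7
    have haN : κ v1 ∈ N3 := by
      rw [hN3, hPX]
      apply Subgroup.mem_normalizer_fintype
      intro y hy
      obtain ⟨n, rfl⟩ := Subgroup.mem_zpowers_iff.1 hy
      rw [← conj_zpow, show κ v1 * κ X0 * (κ v1)⁻¹ = (κ X0)⁻¹ by rw [hM.ai, hM.aX]]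
      exact Subgroup.zpow_mem _ (Subgroup.inv_mem _ (Subgroup.mem_zpowers _)) n
    have h8 := h7 haN
    rw [hCeq, Subgroup.mem_centralizer_singleton_iff] at h8
    have h9 := hM.aX
    rw [h8, mul_assoc, hM.aa, mul_one] at h9
    have h10 : κ X0 * κ X0 = 1 := by
      calc κ X0 * κ X0 = (κ X0)⁻¹ * κ X0 := by rw [← h9]
        _ = 1 := by group
    have h11 := hM.X3
    rw [h10, one_mul] at h11
    exact hM.X1 h11
  have h7 : C3.relIndex N3 = 2 := by
    have := Nat.le_of_dvd (by norm_num) h5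
    have h8 : C3.relIndex N3 ≠ 0 := by
      intro e; rw [e] at h5; norm_num at h5
    omega
  have h8 : C3.relIndex N3 * Nat.card C3 = Nat.card N3 := by
    rw [Subgroup.relIndex, ← Subgroup.index_mul_card (C3.subgroupOf N3),
      Nat.card_congr (Subgroup.subgroupOfEquivOfLe hle).toEquiv]
  rw [h7, hCeq, hC] at h8
  omega

/-- in a group of order 175560 there is an element of order 5 -/
theorem exists_five [Finite G] (hG : Nat.card G = 175560)
    (hC : Nat.card (Subgroup.centralizer ({κ X0} : Set G)) = 2 * Nat.card M) :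
    ∃ y ∈ M, y ≠ 1 ∧ y ^ 5 = 1 ∧ κ z0 * y * κ z0 = y⁻¹ ∧ (y * κ v1 = κ v1 * y ∨ y * (κ v1 * κ z0) = (κ v1 * κ z0) * y) := by
  obtain ⟨n, hn1, hn2⟩ := sylow3_count J D hM (by rw [hG]; norm_num) hC
  rw [hM.card_M, hG] at hn2
  rcases card_A J D hM with hA | ⟨hA, -⟩ | ⟨hA, m, hm, hm1, hm5⟩
  · rcases card_B J D hM with hB | ⟨hB, -⟩ | ⟨hB, m, hm, hm1, hm5⟩
    · rw [hA, hB] at hn2; omega
    · rw [hA, hB] at hn2; omega
    · exact ⟨m, (mem_FA.1 hm).1, hm1, hm5, hM.other.FA_inv hm, Or.inr (mem_FA.1 hm).2⟩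
  · rcases card_B J D hM with hB | ⟨hB, -⟩ | ⟨hB, -⟩ <;> rw [hA, hB] at hn2 <;> omega
  · exact ⟨m, (mem_FA.1 hm).1, hm1, hm5, hM.FA_inv hm, Or.inl (mem_FA.1 hm).2⟩

end

end Cfsg.Agent.Lib.JanLoc
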