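import Cfsg.Agent.Lib.ColTools

set_option autoImplicit false
set_option linter.all false

/-!
# Character values on elements `t y` with `t` an involution and `y` of prime order (helper17)
-/

namespace Cfsg.Agent.Lib.JanVal

open Cfsg Cfsg.Agent.Lib.CharBasic Cfsg.Agent.Lib.ColTools

universe u

variable {G : Type u} [Group G] [Finite G]

theorem prim_std (p : ℕ) [Fact p.Prime] : IsPrimitiveRoot (ZMod.stdAddChar (N := p) 1) p := by
  have h := Complex.isPrimitiveRoot_exp p (Fact.out : p.Prime).ne_zero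
  have : ZMod.stdAddChar (N := p) 1 = Complex.exp (2 * Real.pi * Complex.I / p) := by
    have := ZMod.stdAddChar_coe (N := p) 1
    push_cast at this
    rw [this]
    congr 1
    ring
  rw [this]; exact h

theorem prim_neg {p : ℕ} (hp : Odd p) {ω : ℂ} (h : IsPrimitiveRoot ω p) : IsPrimitiveRoot (-ω) (2 * p) := by
  have h1 : IsPrimitiveRoot (-1 : ℂ) 2 := IsPrimitiveRoot.neg_one 0 (by norm_num)
  rw [IsPrimitiveRoot.iff_orderOf]
  have h2 : -ω = (-1) * ω := by ring
  rw [h2, (Commute.all _ _).orderOf_mul_eq_mul_orderOf_of_coprime, ← h1.eq_orderOf, ← h.eq_orderOf]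
  rw [← h1.eq_orderOf, ← h.eq_orderOf]
  exact Nat.coprime_two_left.2 hp

/-- values on `t y ^ k` -/
theorem exists_counts_tw {χ : G → ℂ} (hχ : IsCharacter G χ) {p : ℕ} [Fact p.Prime] (hp : Odd p) (t y : G)
    (ht : t * t = 1) (hy : y ^ p = 1) (hc : Commute t y) :
    ∃ m : ZMod p → ℤ, ∀ k : ℕ, χ (t * y ^ k) = ∑ j, (m j : ℂ) * ZMod.stdAddChar (j * (k : ZMod p)) := by
  classical
  set ω : ℂ := ZMod.stdAddChar (N := p) 1 with hω
  have hω1 : IsPrimitiveRoot ω p := prim_std p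
  have hζ := prim_neg hp hω1
  have hp0 : p ≠ 0 := (Fact.out : p.Prime).ne_zero
  have h1 : (t * y) ^ (2 * p) = 1 := by
    rw [hc.mul_pow, pow_mul, sq, ht, one_pow, mul_comm 2 p, pow_mul, hy, one_pow, one_mul]
  obtain ⟨c, hc1, -⟩ := exists_counts hχ (t * y) h1 hζ (by omega)
  refine ⟨fun i => ∑ j : Fin (2 * p), if ((j.val : ℕ) : ZMod p) = i then (-1) ^ j.val * (c j : ℤ) else 0, fun k => ?_⟩
  have h2 : t * y ^ k = (t * y) ^ (p + (p + 1) * k) := by
    rw [hc.mul_pow]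
    congr 1
    · obtain ⟨r, hr⟩ := hp
      have e : p + (p + 1) * k = 2 * (r + (r + 1) * k) + 1 := by rw [hr]; ring
      rw [e, pow_succ, pow_mul, sq, ht, one_pow, one_mul]
    · rw [pow_add, hy, one_mul, pow_mul, pow_succ, hy, one_mul]
  rw [h2, hc1]
  have h3 : ∀ j : Fin (2 * p), (-ω) ^ (j.val * (p + (p + 1) * k)) = (-1) ^ j.val * ZMod.stdAddChar (((j.val : ℕ) : ZMod p) * (k : ZMod p)) := by
    intro j
    have e1 : (-ω) ^ p = -1 := by rw [hp.neg_pow, hω1.pow_eq_one]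
    have e2 : (-ω) ^ (p + 1) = ω := by rw [pow_succ, e1]; ring
    rw [mul_comm, pow_mul, pow_add, e1, pow_mul, e2, mul_pow, ← pow_mul]
    congr 1
    rw [hω, stdAddChar_pow, one_mul]
    congr 1
    push_cast
    ring
  simp only [h3]
  have h4 : ∀ i : ZMod p, (((∑ j : Fin (2 * p), if ((j.val : ℕ) : ZMod p) = i then (-1) ^ j.val * (c j : ℤ) else 0 : ℤ)) : ℂ) *
      ZMod.stdAddChar (i * (k : ZMod p)) = ∑ j : Fin (2 * p), if ((j.val : ℕ) : ZMod p) = i then
        (-1) ^ j.val * (c j : ℂ) * ZMod.stdAddChar (i * (k : ZMod p)) else 0 := by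
    intro i
    push_cast
    rw [Finset.sum_mul]
    refine Finset.sum_congr rfl fun j _ => ?_
    by_cases h : ((j.val : ℕ) : ZMod p) = i
    · rw [if_pos h, if_pos h]
    · rw [if_neg h, if_neg h, zero_mul]
  simp only [h4]
  rw [Finset.sum_comm]
  refine Finset.sum_congr rfl fun j _ => ?_
  rw [Finset.sum_ite_eq Finset.univ (((j.val : ℕ) : ZMod p))]
  simp only [Finset.mem_univ, if_true]
  ring

/-- symmetry -/
theorem counts_neg {p : ℕ} [Fact p.Prime] {f : ℕ → ℂ} {m : ZMod p → ℤ}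
    (hm : ∀ k : ℕ, f k = ∑ j, (m j : ℂ) * ZMod.stdAddChar (j * (k : ZMod p)))
    (hsym : ∀ k : ZMod p, f k.val = f (-k).val) (j : ZMod p) : m (-j) = m j := by
  have hF : ∀ k : ZMod p, f k.val = ∑ i, (m i : ℂ) * ZMod.stdAddChar (i * k) := by
    intro k
    rw [hm, ZMod.natCast_zmod_val]
  have h1 := dft (fun i => (m i : ℂ)) (-j)
  have h2 := dft (fun i => (m i : ℂ)) j
  simp only [← hF] at h1 h2
  have h3 : ∑ k : ZMod p, f k.val * ZMod.stdAddChar (-(-j * k)) =
      ∑ k : ZMod p, f k.val * ZMod.stdAddChar (-(j * k)) := by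
    rw [← Equiv.sum_comp (Equiv.neg (ZMod p)) (fun k => f k.val * ZMod.stdAddChar (-(j * k)))]
    refine Finset.sum_congr rfl fun k _ => ?_
    show _ = f (-k).val * ZMod.stdAddChar (-(j * (-k)))
    rw [hsym]
    congr 2
    ring
  rw [h3, h2] at h1
  have hp0 : (p : ℂ) ≠ 0 := by exact_mod_cast (Fact.out : p.Prime).ne_zero
  have h4 := mul_left_cancel₀ hp0 h1
  exact_mod_cast h4.symm

end Cfsg.Agent.Lib.JanVal
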