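import Cfsg.Agent.Lib.JanVal
import Cfsg.Agent.Lib.JanCnt

set_option autoImplicit false
set_option linter.all false

/-!
# Character values in groups with an involution with centralizer `Z2 × A5` (helper17)
-/

namespace Cfsg.Agent.Lib.JanLoc

open Cfsg Cfsg.Agent.Lib.CharBasic Cfsg.Agent.Lib.ColTools Cfsg.Agent.Lib.JanH Cfsg.Agent.Lib.JanVal

universe u

variable {G : Type u} [Group G]

instance fact3 : Fact (Nat.Prime 3) := ⟨by norm_num⟩
instance fact5 : Fact (Nat.Prime 5) := ⟨by norm_num⟩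

/-- additive character mod 5 -/
noncomputable def ee (j : ZMod 5) : ℂ := ZMod.stdAddChar (N := 5) j

theorem ee_add (a b : ZMod 5) : ee a * ee b = ee (a + b) := (AddChar.map_add_eq_mul _ a b).symm
theorem ee_zero : ee 0 = 1 := AddChar.map_zero_eq_one _

theorem sum5 (f : ZMod 5 → ℂ) : ∑ j, f j = f 0 + f 1 + f 2 + f 3 + f 4 := Fin.sum_univ_five (f : Fin 5 → ℂ)
theorem sum3 (f : ZMod 3 → ℂ) : ∑ j, f j = f 0 + f 1 + f 2 := Fin.sum_univ_three (f : Fin 3 → ℂ)

theorem ee_sum : ee 1 + ee 2 + ee 3 + ee 4 = -1 := by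
  have h := AddChar.sum_mulShift (ψ := ZMod.stdAddChar (N := 5)) (1 : ZMod 5) (ZMod.isPrimitive_stdAddChar 5)
  rw [if_neg (by decide), sum5] at h
  simp only [mul_one] at h
  have h0 : ZMod.stdAddChar (N := 5) (0 : ZMod 5) = 1 := AddChar.map_zero_eq_one _
  rw [h0, Nat.cast_zero] at h
  unfold ee
  linear_combination h

noncomputable def al : ℂ := ee 1 + ee 4
noncomputable def be : ℂ := ee 2 + ee 3

theorem al_add_be : al + be = -1 := by
  unfold al be
  linear_combination ee_sum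

theorem al_mul_be : al * be = -1 := by
  unfold al be
  have e1 := ee_add 1 2
  have e2 := ee_add 1 3
  have e3 := ee_add 4 2
  have e4 := ee_add 4 3
  rw [show (1 : ZMod 5) + 2 = 3 by decide] at e1
  rw [show (1 : ZMod 5) + 3 = 4 by decide] at e2
  rw [show (4 : ZMod 5) + 2 = 1 by decide] at e3
  rw [show (4 : ZMod 5) + 3 = 2 by decide] at e4
  linear_combination e1 + e2 + e3 + e4 + ee_sum

namespace Jan

variable {ι : H →* G} (J : Jan ι)
include J

theorem vals [Finite G] (χ : IrrCharacter G) : ∃ k0 k1 m0 m1 m2 : ℤ,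
    (χ : G → ℂ) (ι z0) = k0 + 2 * k1 ∧ (χ : G → ℂ) (ι (z0 * x0)) = k0 - k1 ∧
    (χ : G → ℂ) (ι z0) = m0 + 2 * m1 + 2 * m2 ∧ (χ : G → ℂ) (ι (z0 * y0)) = m0 + m1 * al + m2 * be ∧
    (χ : G → ℂ) (ι (z0 * (y0 * y0))) = m0 + m1 * be + m2 * al := by
  have hcf := χ.2.isCharacter.isClassFunction
  have hcj : ∀ {a b : G}, IsConj a b → (χ : G → ℂ) a = (χ : G → ℂ) b := by
    intro a b h
    obtain ⟨c, hc⟩ := isConj_iff.1 h
    rw [← hc, hcf]
  have tt : ι z0 * ι z0 = 1 := by rw [← map_mul, z0_sq, map_one]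
  -- p = 3
  obtain ⟨k, hk⟩ := exists_counts_tw χ.2.isCharacter (p := 3) (by decide) (ι z0) (ι x0) tt
    (by rw [← map_pow, show x0 ^ 3 = 1 by decide +kernel, map_one])
    (by rw [Commute, SemiconjBy, ← map_mul, ← map_mul, z0_central x0])
  have hk0 := hk 0
  have hk1 := hk 1
  have hsym3 : ∀ j : ZMod 3, (χ : G → ℂ) (ι z0 * ι x0 ^ j.val) = (χ : G → ℂ) (ι z0 * ι x0 ^ (-j).val) := by
    have e12 : (χ : G → ℂ) (ι z0 * ι x0 ^ 1) = (χ : G → ℂ) (ι z0 * ι x0 ^ 2) := by
      rw [← map_pow, ← map_pow, ← map_mul, ← map_mul]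
      exact hcj (conj_of_conj (k := u0) (by decide +kernel))
    intro j
    fin_cases j
    · rfl
    · exact e12
    · exact e12.symm
  have hs3 := counts_neg (f := fun k => (χ : G → ℂ) (ι z0 * ι x0 ^ k)) hk hsym3 1
  rw [show (-1 : ZMod 3) = 2 by decide] at hs3
  rw [sum3] at hk0 hk1
  -- p = 5
  obtain ⟨m, hm⟩ := exists_counts_tw χ.2.isCharacter (p := 5) (by decide) (ι z0) (ι y0) tt
    (by rw [← map_pow, show y0 ^ 5 = 1 by decide +kernel, map_one])
    (by rw [Commute, SemiconjBy, ← map_mul, ← map_mul, z0_central y0])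
  have hm0 := hm 0
  have hm1 := hm 1
  have hm2 := hm 2
  have hsym5 : ∀ j : ZMod 5, (χ : G → ℂ) (ι z0 * ι y0 ^ j.val) = (χ : G → ℂ) (ι z0 * ι y0 ^ (-j).val) := by
    have e14 : (χ : G → ℂ) (ι z0 * ι y0 ^ 1) = (χ : G → ℂ) (ι z0 * ι y0 ^ 4) := by
      rw [← map_pow, ← map_pow, ← map_mul, ← map_mul]
      exact hcj (conj_of_conj (k := s0) (by decide +kernel))
    have e23 : (χ : G → ℂ) (ι z0 * ι y0 ^ 2) = (χ : G → ℂ) (ι z0 * ι y0 ^ 3) := by
      rw [← map_pow, ← map_pow, ← map_mul, ← map_mul]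
      exact hcj (conj_of_conj (k := s0) (by decide +kernel))
    intro j
    fin_cases j
    · rfl
    · exact e14
    · exact e23
    · exact e23.symm
    · exact e14.symm
  have hs51 := counts_neg (f := fun k => (χ : G → ℂ) (ι z0 * ι y0 ^ k)) hm hsym5 1
  have hs52 := counts_neg (f := fun k => (χ : G → ℂ) (ι z0 * ι y0 ^ k)) hm hsym5 2
  rw [show (-1 : ZMod 5) = 4 by decide] at hs51
  rw [show (-2 : ZMod 5) = 3 by decide] at hs52
  rw [sum5] at hm0 hm1 hm2
  have h3 : ZMod.stdAddChar (N := 3) 1 + ZMod.stdAddChar (N := 3) 2 = (-1 : ℂ) := by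
    have h := AddChar.sum_mulShift (ψ := ZMod.stdAddChar (N := 3)) (1 : ZMod 3) (ZMod.isPrimitive_stdAddChar 3)
    rw [if_neg (by decide), sum3] at h
    simp only [mul_one] at h
    have h0 : ZMod.stdAddChar (N := 3) (0 : ZMod 3) = 1 := AddChar.map_zero_eq_one _
    rw [h0, Nat.cast_zero] at h
    linear_combination h
  have h30 : ZMod.stdAddChar (N := 3) (0 : ZMod 3) = 1 := AddChar.map_zero_eq_one _
  have h50 : ZMod.stdAddChar (N := 5) (0 : ZMod 5) = 1 := AddChar.map_zero_eq_one _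
  refine ⟨k 0, k 1, m 0, m 1, m 2, ?_, ?_, ?_, ?_, ?_⟩
  · simp only [pow_zero, mul_one, Nat.cast_zero, mul_zero, h30, hs3] at hk0
    linear_combination hk0
  · simp only [pow_one, Nat.cast_one, mul_one, hs3, h30] at hk1
    rw [map_mul]
    linear_combination hk1 + (k 1 : ℂ) * h3
  · simp only [pow_zero, mul_one, Nat.cast_zero, mul_zero, h50, hs51, hs52] at hm0
    linear_combination hm0
  · simp only [pow_one, Nat.cast_one, mul_one, hs51, hs52, h50] at hm1
    rw [map_mul]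
    unfold al be ee
    linear_combination hm1
  · rw [show ((0 : ZMod 5) * ((2 : ℕ) : ZMod 5)) = 0 by decide, show ((1 : ZMod 5) * ((2 : ℕ) : ZMod 5)) = 2 by decide,
      show ((2 : ZMod 5) * ((2 : ℕ) : ZMod 5)) = 4 by decide, show ((3 : ZMod 5) * ((2 : ℕ) : ZMod 5)) = 1 by decide,
      show ((4 : ZMod 5) * ((2 : ℕ) : ZMod 5)) = 3 by decide, hs51, hs52, h50] at hm2
    rw [map_mul, map_mul, ← sq]
    unfold al be ee
    linear_combination hm2

end Jan

end Cfsg.Agent.Lib.JanLoc
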