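import Cfsg.Agent.Lib.JanVal2
import Cfsg.Agent.Lib.JanCol6

set_option autoImplicit false
set_option linter.all false

/-!
# The column data in groups with an involution with centralizer `Z2 × A5` (helper17)
-/

namespace Cfsg.Agent.Lib.JanLoc

open Cfsg Cfsg.Agent.Lib.CharBasic Cfsg.Agent.Lib.ColTools Cfsg.Agent.Lib.JanH Cfsg.Agent.Lib.JanVal
open scoped ComplexConjugate

universe u

variable {G : Type u} [Group G]

/-- a nontrivial irreducible character of a simple group is faithful -/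
theorem faithful' [Finite G] [IsSimpleGroup G] {χ : IrrCharacter G} (hne : χ ≠ triv G) {g : G}
    (hg : (χ : G → ℂ) g = (χ : G → ℂ) 1) : g = 1 := by
  obtain ⟨χ, n, ρ, hρ, h⟩ := χ
  have h1 : ρ.character ≠ fun _ => 1 := by
    intro e
    apply hne
    apply Subtype.ext
    show χ = fun _ => 1
    rw [← h, e]
  have hinj := CharApps.injective_of_simple ρ hρ h1
  apply hinj
  have h2 : ρ.character g = (Module.finrank ℂ (Fin n → ℂ) : ℂ) := by
    have : χ g = χ 1 := hg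
    rw [← h] at this
    rw [this, Representation.char_one]
  rw [(CharValues.character_eq_finrank_iff ρ g).1 h2, map_one]
  rfl

theorem bilin {I : Type*} [Fintype I] {T X Y Z : I → ℂ} {nT nX nY nZ : ℂ}
    (h11 : ∑ i, T i * T i = nT) (h22 : ∑ i, X i * X i = nX) (h33 : ∑ i, Y i * Y i = nY) (h44 : ∑ i, Z i * Z i = nZ)
    (h12 : ∑ i, T i * X i = 0) (h13 : ∑ i, T i * Y i = 0) (h14 : ∑ i, T i * Z i = 0)
    (h23 : ∑ i, X i * Y i = 0) (h24 : ∑ i, X i * Z i = 0) (h34 : ∑ i, Y i * Z i = 0) (a0 a1 a2 a3 b0 b1 b2 b3 : ℂ) :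
    ∑ i, (a0 * T i + a1 * X i + a2 * Y i + a3 * Z i) * (b0 * T i + b1 * X i + b2 * Y i + b3 * Z i) =
      nT * a0 * b0 + nX * a1 * b1 + nY * a2 * b2 + nZ * a3 * b3 := by
  have e : ∀ i, (a0 * T i + a1 * X i + a2 * Y i + a3 * Z i) * (b0 * T i + b1 * X i + b2 * Y i + b3 * Z i) =
      a0 * b0 * (T i * T i) + a1 * b1 * (X i * X i) + a2 * b2 * (Y i * Y i) + a3 * b3 * (Z i * Z i) +
      (a0 * b1 + a1 * b0) * (T i * X i) + (a0 * b2 + a2 * b0) * (T i * Y i) + (a0 * b3 + a3 * b0) * (T i * Z i) +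
      (a1 * b2 + a2 * b1) * (X i * Y i) + (a1 * b3 + a3 * b1) * (X i * Z i) + (a2 * b3 + a3 * b2) * (Y i * Z i) := by
    intro i; ring
  simp only [e, Finset.sum_add_distrib, ← Finset.mul_sum, h11, h22, h33, h44, h12, h13, h14, h23, h24, h34]
  ring

namespace Jan

variable {ι : H →* G} (J : Jan ι)
include J

theorem cj (χ : IrrCharacter G) {a b : H} (k : H) (h : k * a * k⁻¹ = b) : (χ : G → ℂ) (ι a) = (χ : G → ℂ) (ι b) := by
  rw [← h, map_mul, map_mul, map_inv, χ.2.isCharacter.isClassFunction]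

theorem S_sum [Finite G] [IsSimpleGroup G] (χ : IrrCharacter G) :
    ∃ a : ℕ, (χ : G → ℂ) 1 + 7 * (χ : G → ℂ) (ι z0) = 8 * a := by
  classical
  have : Fintype (S ι) := Fintype.ofFinite _
  obtain ⟨a, ha⟩ := (χ.2.isCharacter.restrict (S ι)).classInner_nat (isIrrCharacter_fun_one (G := S ι)).isCharacter
  refine ⟨a, ?_⟩
  rw [classInner_def] at ha
  simp only [map_one, mul_one] at ha
  rw [J.card_S] at ha
  have h1 : ∑ g : S ι, (χ : G → ℂ) g = (χ : G → ℂ) 1 + 7 * (χ : G → ℂ) (ι z0) := by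
    rw [← Finset.add_sum_erase Finset.univ (fun g : S ι => (χ : G → ℂ) g) (Finset.mem_univ 1)]
    congr 1
    rw [Finset.sum_congr rfl (g := fun _ => (χ : G → ℂ) (ι z0))]
    · rw [Finset.sum_const, Finset.card_erase_of_mem (Finset.mem_univ _), Finset.card_univ, ← Nat.card_eq_fintype_card,
        J.card_S]
      norm_num
    · intro g hg
      have hg1 : (g : G) ≠ 1 := by
        intro e
        exact (Finset.mem_erase.1 hg).1 (Subtype.ext e)
      obtain ⟨c, hc⟩ := isConj_iff.1 (J.conj_of_sq (J.S_sq g.2) hg1)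
      rw [← hc, χ.2.isCharacter.isClassFunction]
  have h2 : ∑ g : S ι, (χ : G → ℂ) (g : G) = 8 * a := by
    rw [← ha]
    push_cast
    rw [mul_inv_cancel_left₀ (by norm_num)]
  rw [← h1, h2]

theorem deg_facts [Finite G] [IsSimpleGroup G] (χ : IrrCharacter G) {T : ℤ} (hT : (χ : G → ℂ) (ι z0) = T) :
    ((deg χ : ℤ) - T) % 8 = 0 ∧ (χ ≠ triv G → 7 ≤ (deg χ : ℤ)) := by
  obtain ⟨a, ha⟩ := J.S_sum χ
  rw [apply_one, hT] at ha
  have ha' : (deg χ : ℤ) + 7 * T = 8 * a := by exact_mod_cast ha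
  obtain ⟨n0, n1, h1, h2, -⟩ := val_two χ.2.isCharacter (ι z0) (by rw [sq, J.S_sq J.z0_mem_S])
  rw [apply_one] at h1
  rw [hT] at h2
  have h1' : (deg χ : ℤ) = n0 + n1 := by exact_mod_cast h1
  have h2' : T = n0 - n1 := by
    have : (T : ℂ) = ((n0 - n1 : ℤ) : ℂ) := by push_cast; exact h2
    exact_mod_cast this
  refine ⟨by omega, fun hne => ?_⟩
  have hne' : (deg χ : ℤ) ≠ T := by
    intro e
    apply J.z0_ne_one
    apply faithful' hne
    rw [hT, apply_one, ← e]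
    push_cast
    rfl
  omega

end Jan

end Cfsg.Agent.Lib.JanLoc
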