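import Cfsg.Agent.Lib.JanVal3
import Cfsg.Agent.Lib.GalAutC

set_option autoImplicit false
set_option linter.all false

/-!
# The order of groups with an involution with centralizer `Z2 × A5` (helper17)
-/

namespace Cfsg.Agent.Lib.JanLoc

open Cfsg Cfsg.Agent.Lib.CharBasic Cfsg.Agent.Lib.ColTools Cfsg.Agent.Lib.JanH Cfsg.Agent.Lib.JanVal
open Cfsg.Agent.Lib.JanCol
open scoped ComplexConjugate

universe u

variable {G : Type u} [Group G]

/-- Galois conjugation as a permutation -/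
noncomputable def galPerm [Finite G] (σ : ℂ ≃+* ℂ) : Equiv.Perm (IrrCharacter G) where
  toFun χ := ⟨fun g => σ ((χ : G → ℂ) g), CharGalois.isIrrCharacter_map χ.2 (σ : ℂ →+* ℂ)⟩
  invFun χ := ⟨fun g => σ.symm ((χ : G → ℂ) g), CharGalois.isIrrCharacter_map χ.2 (σ.symm : ℂ →+* ℂ)⟩
  left_inv χ := by
    apply Subtype.ext
    funext g
    exact σ.symm_apply_apply _
  right_inv χ := by
    apply Subtype.ext
    funext g
    exact σ.apply_symm_apply _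

theorem galPerm_apply [Finite G] (σ : ℂ ≃+* ℂ) (χ : IrrCharacter G) (g : G) :
    (galPerm σ χ : G → ℂ) g = σ ((χ : G → ℂ) g) := rfl

namespace Jan

variable {ι : H →* G} (J : Jan ι)
include J

theorem orth_ne [Finite G] {a b : H} (hb : ∃ k : H, k * b⁻¹ * k⁻¹ = b) (h : ¬ IsConj (ι a) (ι b)) :
    ∑ χ : IrrCharacter G, (χ : G → ℂ) (ι a) * (χ : G → ℂ) (ι b) = 0 := by
  rw [← col_orth_ne h]
  refine Finset.sum_congr rfl fun χ _ => ?_
  obtain ⟨k, hk⟩ := hb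
  rw [← map_inv, cj J χ k hk]

theorem orth_self [Finite G] {a : H} (hb : ∃ k : H, k * a⁻¹ * k⁻¹ = a) {n : ℕ} (hn : a ^ n = z0) :
    ∑ χ : IrrCharacter G, (χ : G → ℂ) (ι a) * (χ : G → ℂ) (ι a) = Fintype.card {h : H // h * a = a * h} := by
  rw [← J.card_cent hn, ← col_orth_self (ι a)]
  refine Finset.sum_congr rfl fun χ _ => ?_
  obtain ⟨k, hk⟩ := hb
  rw [← map_inv, cj J χ k hk]

theorem orth_one [Finite G] {a : H} (ha : a ≠ 1) :
    ∑ χ : IrrCharacter G, (χ : G → ℂ) (ι a) * (deg χ : ℂ) = 0 := by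
  have h : ¬ IsConj (ι a) 1 := by
    intro e
    rw [isConj_one_left] at e
    exact ha (J.inj (by rw [e, map_one]))
  rw [← col_orth_ne h]
  refine Finset.sum_congr rfl fun χ _ => ?_
  rw [inv_one, apply_one]

theorem struct [Finite G] [IsSimpleGroup G] {c : H} (hb : ∃ k : H, k * c⁻¹ * k⁻¹ = c) {n : ℕ} (hn : c ^ n = z0) :
    (Fintype.card {h : H // h * h = 1 ∧ h ≠ 1 ∧ h * c * h = c⁻¹ ∧ h * c ≠ 1} : ℂ) * (120 * 120) = Nat.card G *
      ∑ χ : IrrCharacter G, (χ : G → ℂ) (ι z0) * (χ : G → ℂ) (ι z0) * (χ : G → ℂ) (ι c) / (deg χ : ℂ) := by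
  have h1 := struct_const (ι z0) (ι z0) (ι c)
  rw [J.card_pairs hn, J.card_cent (c := z0) (k := 1) (pow_one _),
    show Fintype.card {h : H // h * z0 = z0 * h} = 120 by decide +kernel] at h1
  push_cast at h1
  rw [h1]
  congr 1
  refine Finset.sum_congr rfl fun χ _ => ?_
  obtain ⟨k, hk⟩ := hb
  rw [← map_inv, cj J χ k hk, apply_one]

theorem exists_cols [Finite G] [IsSimpleGroup G] : ∃ (d1 d2 d3 d4 w : IrrCharacter G → ℤ) (π : Equiv.Perm (IrrCharacter G)),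
    Cols d1 d2 d3 d4 w (triv G) π (Nat.card G : ℤ) := by
  classical
  choose k0 k1 m0 m1 m2 hT1 hX hT2 hY hZ using fun χ : IrrCharacter G => J.vals χ
  have rz : ∃ k : H, k * z0⁻¹ * k⁻¹ = z0 := ⟨1, by decide +kernel⟩
  have rx : ∃ k : H, k * (z0 * x0)⁻¹ * k⁻¹ = z0 * x0 := ⟨u0, by decide +kernel⟩
  have ry : ∃ k : H, k * (z0 * y0)⁻¹ * k⁻¹ = z0 * y0 := ⟨s0, by decide +kernel⟩
  have rw2 : ∃ k : H, k * (z0 * (y0 * y0))⁻¹ * k⁻¹ = z0 * (y0 * y0) := ⟨s0, by decide +kernel⟩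
  have pz : z0 ^ 1 = z0 := pow_one _
  have px : (z0 * x0) ^ 3 = z0 := by decide +kernel
  have py : (z0 * y0) ^ 5 = z0 := by decide +kernel
  have pw : (z0 * (y0 * y0)) ^ 5 = z0 := by decide +kernel
  -- orthogonality
  have o11 := J.orth_self rz pz
  have o22 := J.orth_self rx px
  have o33 := J.orth_self ry py
  have o44 := J.orth_self rw2 pw
  rw [show Fintype.card {h : H // h * z0 = z0 * h} = 120 by decide +kernel] at o11
  rw [card_cent_zx] at o22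
  rw [card_cent_zy] at o33
  rw [card_cent_zy2] at o44
  have o12 := J.orth_ne (a := z0) rx (J.not_conj_of_pow 2 (by decide +kernel) (by decide +kernel))
  have o13 := J.orth_ne (a := z0) ry (J.not_conj_of_pow 2 (by decide +kernel) (by decide +kernel))
  have o14 := J.orth_ne (a := z0) rw2 (J.not_conj_of_pow 2 (by decide +kernel) (by decide +kernel))
  have o23 := J.orth_ne (a := z0 * x0) ry (J.not_conj_of_pow 6 (by decide +kernel) (by decide +kernel))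
  have o24 := J.orth_ne (a := z0 * x0) rw2 (J.not_conj_of_pow 6 (by decide +kernel) (by decide +kernel))
  have o34 := J.orth_ne (a := z0 * y0) rw2 J.not_conj_Y
  have q1 := J.orth_one (a := z0) (by decide +kernel)
  have q2 := J.orth_one (a := z0 * x0) (by decide +kernel)
  have q3 := J.orth_one (a := z0 * y0) (by decide +kernel)
  have q4 := J.orth_one (a := z0 * (y0 * y0)) (by decide +kernel)
  have hab := al_add_be
  have hmul := al_mul_be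
  have hBL := bilin o11 o22 o33 o44 o12 o13 o14 o23 o24 o34
  -- expressions
  have E1 : ∀ χ : IrrCharacter G, (15 : ℂ) * (m0 χ : ℂ) = 3 * (χ : G → ℂ) (ι z0) + 0 * (χ : G → ℂ) (ι (z0 * x0)) +
      6 * (χ : G → ℂ) (ι (z0 * y0)) + 6 * (χ : G → ℂ) (ι (z0 * (y0 * y0))) := by
    intro χ
    linear_combination (-3 : ℂ) * hT2 χ - 6 * hY χ - 6 * hZ χ - 6 * (m1 χ + m2 χ : ℂ) * hab
  have F1 : ∀ χ : IrrCharacter G, (5 : ℂ) * (m1 χ : ℂ) = (χ : G → ℂ) (ι z0) + al * (χ : G → ℂ) (ι (z0 * y0)) +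
      be * (χ : G → ℂ) (ι (z0 * (y0 * y0))) := by
    intro χ
    linear_combination (-1 : ℂ) * hT2 χ - al * hY χ - be * hZ χ - (m0 χ : ℂ) * hab -
      (m1 χ : ℂ) * ((al + be - 1) * hab - 2 * hmul) - 2 * (m2 χ : ℂ) * hmul
  have F2 : ∀ χ : IrrCharacter G, (5 : ℂ) * (m2 χ : ℂ) = (χ : G → ℂ) (ι z0) + be * (χ : G → ℂ) (ι (z0 * y0)) +
      al * (χ : G → ℂ) (ι (z0 * (y0 * y0))) := by
    intro χ
    linear_combination (-1 : ℂ) * hT2 χ - be * hY χ - al * hZ χ - (m0 χ : ℂ) * hab -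
      (m2 χ : ℂ) * ((al + be - 1) * hab - 2 * hmul) - 2 * (m1 χ : ℂ) * hmul
  have F3 : ∀ χ : IrrCharacter G, (3 : ℂ) * (k1 χ : ℂ) = (χ : G → ℂ) (ι z0) - (χ : G → ℂ) (ι (z0 * x0)) := by
    intro χ
    linear_combination (-1 : ℂ) * hT1 χ + hX χ
  set d2 : IrrCharacter G → ℤ := fun χ => k1 χ - m2 χ with hd2
  set d3 : IrrCharacter G → ℤ := fun χ => k1 χ - m1 χ with hd3
  set d4 : IrrCharacter G → ℤ := fun χ => m1 χ + m2 χ - k1 χ with hd4
  have E2 : ∀ χ : IrrCharacter G, (15 : ℂ) * (d2 χ : ℂ) = 2 * (χ : G → ℂ) (ι z0) + (-5) * (χ : G → ℂ) (ι (z0 * x0)) +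
      (-3 * be) * (χ : G → ℂ) (ι (z0 * y0)) + (-3 * al) * (χ : G → ℂ) (ι (z0 * (y0 * y0))) := by
    intro χ
    simp only [hd2]
    push_cast
    linear_combination 5 * F3 χ - 3 * F2 χ
  have E3 : ∀ χ : IrrCharacter G, (15 : ℂ) * (d3 χ : ℂ) = 2 * (χ : G → ℂ) (ι z0) + (-5) * (χ : G → ℂ) (ι (z0 * x0)) +
      (-3 * al) * (χ : G → ℂ) (ι (z0 * y0)) + (-3 * be) * (χ : G → ℂ) (ι (z0 * (y0 * y0))) := by
    intro χ
    simp only [hd3]
    push_cast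
    linear_combination 5 * F3 χ - 3 * F1 χ
  have E4 : ∀ χ : IrrCharacter G, (15 : ℂ) * (d4 χ : ℂ) = 1 * (χ : G → ℂ) (ι z0) + 5 * (χ : G → ℂ) (ι (z0 * x0)) +
      (-3) * (χ : G → ℂ) (ι (z0 * y0)) + (-3) * (χ : G → ℂ) (ι (z0 * (y0 * y0))) := by
    intro χ
    simp only [hd4]
    push_cast
    linear_combination 3 * F1 χ + 3 * F2 χ - 5 * F3 χ + 3 * ((χ : G → ℂ) (ι (z0 * y0)) +
      (χ : G → ℂ) (ι (z0 * (y0 * y0)))) * hab
  -- products
  have key : ∀ (f g : IrrCharacter G → ℤ) (a0 a1 a2 a3 b0 b1 b2 b3 : ℂ),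
      (∀ χ : IrrCharacter G, (15 : ℂ) * (f χ : ℂ) = a0 * (χ : G → ℂ) (ι z0) + a1 * (χ : G → ℂ) (ι (z0 * x0)) +
        a2 * (χ : G → ℂ) (ι (z0 * y0)) + a3 * (χ : G → ℂ) (ι (z0 * (y0 * y0)))) →
      (∀ χ : IrrCharacter G, (15 : ℂ) * (g χ : ℂ) = b0 * (χ : G → ℂ) (ι z0) + b1 * (χ : G → ℂ) (ι (z0 * x0)) +
        b2 * (χ : G → ℂ) (ι (z0 * y0)) + b3 * (χ : G → ℂ) (ι (z0 * (y0 * y0)))) →
      (225 : ℂ) * ((∑ χ, f χ * g χ : ℤ) : ℂ) = 120 * a0 * b0 + 6 * a1 * b1 + 10 * a2 * b2 + 10 * a3 * b3 := by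
    intro f g a0 a1 a2 a3 b0 b1 b2 b3 hf hg
    have := hBL a0 a1 a2 a3 b0 b1 b2 b3
    push_cast at this ⊢
    rw [← this, Finset.mul_sum]
    refine Finset.sum_congr rfl fun χ _ => ?_
    rw [← hf, ← hg]; ring
  have keyw : ∀ (f : IrrCharacter G → ℤ) (a0 a1 a2 a3 : ℂ),
      (∀ χ : IrrCharacter G, (15 : ℂ) * (f χ : ℂ) = a0 * (χ : G → ℂ) (ι z0) + a1 * (χ : G → ℂ) (ι (z0 * x0)) +
        a2 * (χ : G → ℂ) (ι (z0 * y0)) + a3 * (χ : G → ℂ) (ι (z0 * (y0 * y0)))) →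
      ∑ χ, f χ * (deg χ : ℤ) = 0 := by
    intro f a0 a1 a2 a3 hf
    have h1 : (15 : ℂ) * ((∑ χ, f χ * (deg χ : ℤ) : ℤ) : ℂ) = 0 := by
      have h2 : ∀ χ : IrrCharacter G, (15 : ℂ) * ((f χ : ℂ) * (deg χ : ℂ)) = a0 * ((χ : G → ℂ) (ι z0) * (deg χ : ℂ)) +
          a1 * ((χ : G → ℂ) (ι (z0 * x0)) * (deg χ : ℂ)) + a2 * ((χ : G → ℂ) (ι (z0 * y0)) * (deg χ : ℂ)) +
          a3 * ((χ : G → ℂ) (ι (z0 * (y0 * y0))) * (deg χ : ℂ)) := by
        intro χ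
        rw [← mul_assoc, hf]; ring
      push_cast
      rw [Finset.mul_sum]
      simp only [h2, Finset.sum_add_distrib, ← Finset.mul_sum, q1, q2, q3, q4]
      ring
    have h3 := (mul_eq_zero.1 h1).resolve_left (by norm_num)
    exact_mod_cast h3
  -- the Galois automorphism
  obtain ⟨σ, hσ⟩ := GalAutC.exists_ringEquiv_pow (n := 5) (k := 2) (by norm_num) (by norm_num)
  have hee : ∀ j : ZMod 5, σ (ee j) = ee (2 * j) := by
    intro j
    have h1 : ee j ^ 5 = 1 := by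
      unfold ee
      rw [stdAddChar_pow, show (((5 : ℕ) : ZMod 5)) = 0 by decide, mul_zero]
      exact AddChar.map_zero_eq_one _
    rw [hσ _ h1, sq, ee_add]
    congr 1
    ring
  have hσa : σ al = be := by
    unfold al be
    rw [map_add, hee, hee]
    rfl
  have hσb : σ be = al := by
    unfold al be
    rw [map_add, hee, hee, add_comm (ee (2 * 2))]
    rfl
  have gT : ∀ χ : IrrCharacter G, (galPerm σ χ : G → ℂ) (ι z0) = (χ : G → ℂ) (ι z0) := by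
    intro χ
    rw [galPerm_apply, hT1, map_add, map_mul, map_intCast, map_intCast, map_ofNat]
  have gX : ∀ χ : IrrCharacter G, (galPerm σ χ : G → ℂ) (ι (z0 * x0)) = (χ : G → ℂ) (ι (z0 * x0)) := by
    intro χ
    rw [galPerm_apply, hX]; simp
  have gY : ∀ χ : IrrCharacter G, (galPerm σ χ : G → ℂ) (ι (z0 * y0)) = (χ : G → ℂ) (ι (z0 * (y0 * y0))) := by
    intro χ
    rw [galPerm_apply, hY, hZ]; simp [hσa, hσb]
  have gZ : ∀ χ : IrrCharacter G, (galPerm σ χ : G → ℂ) (ι (z0 * (y0 * y0))) = (χ : G → ℂ) (ι (z0 * y0)) := by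
    intro χ
    rw [galPerm_apply, hY, hZ]; simp [hσa, hσb]
  have gw : ∀ χ : IrrCharacter G, deg (galPerm σ χ) = deg χ := by
    intro χ
    have h1 := apply_one (galPerm σ χ)
    rw [galPerm_apply, apply_one, map_natCast] at h1
    exact_mod_cast h1.symm
  have pd : ∀ (f g : IrrCharacter G → ℤ) (a0 a1 a2 a3 : ℂ),
      (∀ χ : IrrCharacter G, (15 : ℂ) * (f χ : ℂ) = a0 * (χ : G → ℂ) (ι z0) + a1 * (χ : G → ℂ) (ι (z0 * x0)) +
        a2 * (χ : G → ℂ) (ι (z0 * y0)) + a3 * (χ : G → ℂ) (ι (z0 * (y0 * y0)))) →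
      (∀ χ : IrrCharacter G, (15 : ℂ) * (g χ : ℂ) = a0 * (χ : G → ℂ) (ι z0) + a1 * (χ : G → ℂ) (ι (z0 * x0)) +
        a3 * (χ : G → ℂ) (ι (z0 * y0)) + a2 * (χ : G → ℂ) (ι (z0 * (y0 * y0)))) →
      ∀ χ, f (galPerm σ χ) = g χ := by
    intro f g a0 a1 a2 a3 hf hg χ
    have h1 := hf (galPerm σ χ)
    rw [gT, gX, gY, gZ] at h1
    have h2 := hg χ
    have h3 : (15 : ℂ) * (f (galPerm σ χ) : ℂ) = 15 * (g χ : ℂ) := by rw [h1, h2]; ring
    have h4 := mul_left_cancel₀ (by norm_num : (15 : ℂ) ≠ 0) h3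
    exact_mod_cast h4
  -- structure constants
  have sX := J.struct rx px
  have sY := J.struct ry py
  have sW := J.struct rw2 pw
  rw [cnt_x] at sX
  rw [cnt_y] at sY
  rw [cnt_y2] at sW
  have tf : ∀ χ : IrrCharacter G, (χ : G → ℂ) (ι z0) = ((m0 χ + 2 * d2 χ + 2 * d3 χ + 4 * d4 χ : ℤ) : ℂ) := by
    intro χ
    rw [hT2]
    simp only [hd2, hd3, hd4]
    push_cast
    ring
  have tx : ∀ χ : IrrCharacter G, (χ : G → ℂ) (ι (z0 * x0)) = ((m0 χ - d2 χ - d3 χ + d4 χ : ℤ) : ℂ) := by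
    intro χ
    rw [hX]
    simp only [hd2, hd3, hd4]
    push_cast
    linear_combination hT2 χ - hT1 χ
  have ty : ∀ χ : IrrCharacter G, (χ : G → ℂ) (ι (z0 * y0)) + (χ : G → ℂ) (ι (z0 * (y0 * y0))) =
      ((2 * m0 χ - d2 χ - d3 χ - 2 * d4 χ : ℤ) : ℂ) := by
    intro χ
    rw [hY, hZ]
    simp only [hd2, hd3, hd4]
    push_cast
    linear_combination (m1 χ + m2 χ : ℂ) * hab
  refine ⟨m0, d2, d3, d4, fun χ => (deg χ : ℤ), galPerm σ, ?_⟩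
  refine
    { wpos := fun χ => by exact_mod_cast deg_pos χ
      s11 := ?_, s22 := ?_, s33 := ?_, s44 := ?_, s12 := ?_, s13 := ?_, s23 := ?_, s14 := ?_, s24 := ?_, s34 := ?_
      w1 := keyw _ _ _ _ _ E1
      w2 := keyw _ _ _ _ _ E2
      w3 := keyw _ _ _ _ _ E3
      w4 := keyw _ _ _ _ _ E4
      o1 := ?_, o2 := ?_, o3 := ?_, o4 := ?_, wo := ?_
      p1 := pd _ _ _ _ _ _ E1 E1
      p2 := pd _ _ _ _ _ _ E2 E3
      p3 := pd _ _ _ _ _ _ E3 E2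
      p4 := pd _ _ _ _ _ _ E4 E4
      pw := fun χ => by show (deg (galPerm σ χ) : ℤ) = deg χ; rw [gw]
      mod8 := fun χ => (J.deg_facts χ (tf χ)).1
      w7 := fun χ hχ => (J.deg_facts χ (tf χ)).2 hχ
      sq := ?_
      g8 := ?_
      EX := ?_
      EZ := ?_ }
  · have := key _ _ _ _ _ _ _ _ _ _ E1 E1
    have h2 : ((∑ χ, m0 χ ^ 2 : ℤ) : ℂ) = ((8 : ℤ) : ℂ) := by
      simp only [sq]; push_cast at this ⊢; linear_combination (1 / 225 : ℂ) * this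
    exact_mod_cast h2
  · have := key _ _ _ _ _ _ _ _ _ _ E2 E2
    have h2 : ((∑ χ, d2 χ ^ 2 : ℤ) : ℂ) = ((4 : ℤ) : ℂ) := by
      simp only [sq]; push_cast at this ⊢
      linear_combination (1 / 225 : ℂ) * this + (90 / 225 : ℂ) * ((al + be - 1) * hab - 2 * hmul)
    exact_mod_cast h2
  · have := key _ _ _ _ _ _ _ _ _ _ E3 E3
    have h2 : ((∑ χ, d3 χ ^ 2 : ℤ) : ℂ) = ((4 : ℤ) : ℂ) := by
      simp only [sq]; push_cast at this ⊢
      linear_combination (1 / 225 : ℂ) * this + (90 / 225 : ℂ) * ((al + be - 1) * hab - 2 * hmul)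
    exact_mod_cast h2
  · have := key _ _ _ _ _ _ _ _ _ _ E4 E4
    have h2 : ((∑ χ, d4 χ ^ 2 : ℤ) : ℂ) = ((2 : ℤ) : ℂ) := by
      simp only [sq]; push_cast at this ⊢; linear_combination (1 / 225 : ℂ) * this
    exact_mod_cast h2
  · have := key _ _ _ _ _ _ _ _ _ _ E1 E2
    have h2 : ((∑ χ, m0 χ * d2 χ : ℤ) : ℂ) = ((4 : ℤ) : ℂ) := by
      push_cast at this ⊢
      linear_combination (1 / 225 : ℂ) * this - (180 / 225 : ℂ) * hab
    exact_mod_cast h2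
  · have := key _ _ _ _ _ _ _ _ _ _ E1 E3
    have h2 : ((∑ χ, m0 χ * d3 χ : ℤ) : ℂ) = ((4 : ℤ) : ℂ) := by
      push_cast at this ⊢
      linear_combination (1 / 225 : ℂ) * this - (180 / 225 : ℂ) * hab
    exact_mod_cast h2
  · have := key _ _ _ _ _ _ _ _ _ _ E2 E3
    have h2 : ((∑ χ, d2 χ * d3 χ : ℤ) : ℂ) = ((2 : ℤ) : ℂ) := by
      push_cast at this ⊢
      linear_combination (1 / 225 : ℂ) * this + (180 / 225 : ℂ) * hmul
    exact_mod_cast h2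
  · have := key _ _ _ _ _ _ _ _ _ _ E4 E1
    have h2 : ((∑ χ, d4 χ * m0 χ : ℤ) : ℂ) = ((0 : ℤ) : ℂ) := by
      push_cast at this ⊢
      linear_combination (1 / 225 : ℂ) * this
    exact_mod_cast h2
  · have := key _ _ _ _ _ _ _ _ _ _ E4 E2
    have h2 : ((∑ χ, d4 χ * d2 χ : ℤ) : ℂ) = ((0 : ℤ) : ℂ) := by
      push_cast at this ⊢
      linear_combination (1 / 225 : ℂ) * this + (90 / 225 : ℂ) * hab
    exact_mod_cast h2
  · have := key _ _ _ _ _ _ _ _ _ _ E4 E3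
    have h2 : ((∑ χ, d4 χ * d3 χ : ℤ) : ℂ) = ((0 : ℤ) : ℂ) := by
      push_cast at this ⊢
      linear_combination (1 / 225 : ℂ) * this + (90 / 225 : ℂ) * hab
    exact_mod_cast h2
  · have := E1 (triv G)
    simp only [triv_apply] at this
    have h2 : ((m0 (triv G) : ℤ) : ℂ) = ((1 : ℤ) : ℂ) := by
      push_cast; linear_combination (1 / 15 : ℂ) * this
    exact_mod_cast h2
  · have := E2 (triv G)
    simp only [triv_apply] at this
    have h2 : ((d2 (triv G) : ℤ) : ℂ) = ((0 : ℤ) : ℂ) := by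
      push_cast; push_cast at this; linear_combination (1 / 15 : ℂ) * this - (1 / 5 : ℂ) * hab
    exact_mod_cast h2
  · have := E3 (triv G)
    simp only [triv_apply] at this
    have h2 : ((d3 (triv G) : ℤ) : ℂ) = ((0 : ℤ) : ℂ) := by
      push_cast; push_cast at this; linear_combination (1 / 15 : ℂ) * this - (1 / 5 : ℂ) * hab
    exact_mod_cast h2
  · have := E4 (triv G)
    simp only [triv_apply] at this
    have h2 : ((d4 (triv G) : ℤ) : ℂ) = ((0 : ℤ) : ℂ) := by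
      push_cast; push_cast at this; linear_combination (1 / 15 : ℂ) * this
    exact_mod_cast h2
  · show ((deg (triv G) : ℕ) : ℤ) = 1
    rw [deg_triv]; rfl
  · have := sum_deg_sq (G := G)
    exact_mod_cast this
  · have := J.two_part
    omega
  · have h1 : ((((∑ χ : IrrCharacter G, (((m0 χ + 2 * d2 χ + 2 * d3 χ + 4 * d4 χ) ^ 2 * (m0 χ - d2 χ - d3 χ + d4 χ) : ℤ) : ℚ) /
        (((deg χ : ℕ) : ℤ) : ℚ)) * ((Nat.card G : ℤ) : ℚ) : ℚ)) : ℂ) = ((86400 : ℚ) : ℂ) := by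
      simp only [tf, tx] at sX
      push_cast at sX ⊢
      have e : ∀ χ : IrrCharacter G, ((m0 χ : ℂ) + 2 * (d2 χ : ℂ) + 2 * (d3 χ : ℂ) + 4 * (d4 χ : ℂ)) ^ 2 *
          ((m0 χ : ℂ) - (d2 χ : ℂ) - (d3 χ : ℂ) + (d4 χ : ℂ)) / (deg χ : ℂ) =
          ((m0 χ : ℂ) + 2 * (d2 χ : ℂ) + 2 * (d3 χ : ℂ) + 4 * (d4 χ : ℂ)) *
          ((m0 χ : ℂ) + 2 * (d2 χ : ℂ) + 2 * (d3 χ : ℂ) + 4 * (d4 χ : ℂ)) *
          ((m0 χ : ℂ) - (d2 χ : ℂ) - (d3 χ : ℂ) + (d4 χ : ℂ)) / (deg χ : ℂ) := fun χ => by ring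
      simp only [e]
      rw [mul_comm, ← sX]
      norm_num
    exact_mod_cast h1
  · have h1 : ((((∑ χ : IrrCharacter G, (((m0 χ + 2 * d2 χ + 2 * d3 χ + 4 * d4 χ) ^ 2 * (2 * m0 χ - d2 χ - d3 χ - 2 * d4 χ) : ℤ) : ℚ) /
        (((deg χ : ℕ) : ℤ) : ℚ)) * ((Nat.card G : ℤ) : ℚ) : ℚ)) : ℂ) = ((288000 : ℚ) : ℂ) := by
      have h2 : (Nat.card G : ℂ) * ∑ χ : IrrCharacter G, (χ : G → ℂ) (ι z0) * (χ : G → ℂ) (ι z0) *
          ((χ : G → ℂ) (ι (z0 * y0)) + (χ : G → ℂ) (ι (z0 * (y0 * y0)))) / (deg χ : ℂ) = 288000 := by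
        have h3 : ∀ χ : IrrCharacter G, (χ : G → ℂ) (ι z0) * (χ : G → ℂ) (ι z0) *
          ((χ : G → ℂ) (ι (z0 * y0)) + (χ : G → ℂ) (ι (z0 * (y0 * y0)))) / (deg χ : ℂ) =
          (χ : G → ℂ) (ι z0) * (χ : G → ℂ) (ι z0) * (χ : G → ℂ) (ι (z0 * y0)) / (deg χ : ℂ) +
          (χ : G → ℂ) (ι z0) * (χ : G → ℂ) (ι z0) * (χ : G → ℂ) (ι (z0 * (y0 * y0))) / (deg χ : ℂ) := fun χ => by ring
        simp only [h3]
        rw [Finset.sum_add_distrib, mul_add, ← sY, ← sW]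
        norm_num
      simp only [tf, ty] at h2
      push_cast at h2 ⊢
      have e : ∀ χ : IrrCharacter G, ((m0 χ : ℂ) + 2 * (d2 χ : ℂ) + 2 * (d3 χ : ℂ) + 4 * (d4 χ : ℂ)) ^ 2 *
          (2 * (m0 χ : ℂ) - (d2 χ : ℂ) - (d3 χ : ℂ) - 2 * (d4 χ : ℂ)) / (deg χ : ℂ) =
          ((m0 χ : ℂ) + 2 * (d2 χ : ℂ) + 2 * (d3 χ : ℂ) + 4 * (d4 χ : ℂ)) *
          ((m0 χ : ℂ) + 2 * (d2 χ : ℂ) + 2 * (d3 χ : ℂ) + 4 * (d4 χ : ℂ)) *
          (2 * (m0 χ : ℂ) - (d2 χ : ℂ) - (d3 χ : ℂ) - 2 * (d4 χ : ℂ)) / (deg χ : ℂ) := fun χ => by ring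
      simp only [e]
      rw [mul_comm, h2]
    exact_mod_cast h1

/-- the order is one of two -/
theorem order_cases [Finite G] [IsSimpleGroup G] : Nat.card G = 175560 ∨ Nat.card G = 189000 := by
  classical
  obtain ⟨d1, d2, d3, d4, w, π, hC⟩ := J.exists_cols
  rcases hC.order with h | h
  · left; exact_mod_cast h
  · right; exact_mod_cast h

end Jan

end Cfsg.Agent.Lib.JanLoc
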