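import Cfsg.Agent.Lib.JanM

set_option autoImplicit false
set_option linter.all false

/-!
# Groups with an involution with centralizer `Z2 × A5`: relations in the normalizer of a Sylow subgroup (helper17)
-/

namespace Cfsg.Agent.Lib.JanLoc

open Cfsg.Agent.Lib.JanH Subgroup Cfsg.Agent.Lib.JanMS

universe u

variable {G : Type u} [Group G]

/-- the element of order 7 -/
structure ZD (κ : H →* G) (z : G) : Prop where
  z1 : z ≠ 1
  z7 : z ^ 7 = 1
  xz : (κ x0)⁻¹ * z * κ x0 = z ^ 2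
  zt : z⁻¹ * κ z0 * z = κ v1

namespace ZD

variable {κ : H →* G} {z : G} (D : ZD κ z)
include D

theorem xt : κ x0 * κ z0 = κ z0 * κ x0 := by rw [← map_mul, ← map_mul, z0_central]

theorem zx : z * κ x0 = κ x0 * z ^ 2 := by rw [← D.xz]; group

theorem E1 : z * κ v1 * z⁻¹ = κ z0 := by rw [← D.zt]; group

theorem E2 : (z ^ 2)⁻¹ * κ z0 * z ^ 2 = κ v2 := by
  rw [← D.xz]
  calc ((κ x0)⁻¹ * z * κ x0)⁻¹ * κ z0 * ((κ x0)⁻¹ * z * κ x0)
      = (κ x0)⁻¹ * z⁻¹ * (κ x0 * κ z0) * (κ x0)⁻¹ * z * κ x0 := by group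
    _ = (κ x0)⁻¹ * (z⁻¹ * κ z0 * z) * κ x0 := by rw [D.xt]; group
    _ = κ v2 := by rw [D.zt, ← map_inv, ← map_mul, ← map_mul, x0_v1]

theorem E2' : z ^ 2 * κ v2 * (z ^ 2)⁻¹ = κ z0 := by rw [← D.E2]; group

theorem E4 : (z ^ 4)⁻¹ * κ z0 * z ^ 4 = κ v3 := by
  have h4 : z ^ 4 = (κ x0)⁻¹ * z ^ 2 * κ x0 := by
    calc z ^ 4 = (z ^ 2) ^ 2 := by rw [← pow_mul]
      _ = ((κ x0)⁻¹ * z * κ x0) ^ 2 := by rw [D.xz]
      _ = (κ x0)⁻¹ * z ^ 2 * κ x0 := by rw [sq, sq]; group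
  rw [h4]
  calc ((κ x0)⁻¹ * z ^ 2 * κ x0)⁻¹ * κ z0 * ((κ x0)⁻¹ * z ^ 2 * κ x0)
      = (κ x0)⁻¹ * (z ^ 2)⁻¹ * (κ x0 * κ z0) * (κ x0)⁻¹ * z ^ 2 * κ x0 := by group
    _ = (κ x0)⁻¹ * ((z ^ 2)⁻¹ * κ z0 * z ^ 2) * κ x0 := by rw [D.xt]; group
    _ = κ v3 := by rw [D.E2, ← map_inv, ← map_mul, ← map_mul, x0_v2]

theorem E4' : z ^ 4 * κ v3 * (z ^ 4)⁻¹ = κ z0 := by rw [← D.E4]; group

theorem E3 : (z ^ 3)⁻¹ * κ z0 * z ^ 3 = κ (z0 * v1) := by
  have h1 : κ v1 * κ v2 = κ v3 := by rw [← map_mul, show v1 * v2 = v3 by decide +kernel]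
  have h2 : z * κ v2 * z⁻¹ = κ v1 := by
    rw [← D.E2, ← D.zt]; simp only [pow_succ, pow_zero]; group
  have h3 : z * κ v3 * z⁻¹ = (z ^ 3)⁻¹ * κ z0 * z ^ 3 := by
    rw [← D.E4]; simp only [pow_succ, pow_zero]; group
  rw [← h3, ← h1, map_mul]
  calc z * (κ v1 * κ v2) * z⁻¹ = (z * κ v1 * z⁻¹) * (z * κ v2 * z⁻¹) := by group
    _ = _ := by rw [D.E1, h2]

theorem E6 : z * κ z0 * z⁻¹ = κ (z0 * v2) := by
  have h1 : κ v1 * κ v2 = κ v3 := by rw [← map_mul, show v1 * v2 = v3 by decide +kernel]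
  have h2 : z * κ v2 * z⁻¹ = κ v1 := by
    rw [← D.E2, ← D.zt]; simp only [pow_succ, pow_zero]; group
  have h3 : z * (z * κ v3 * z⁻¹) * z⁻¹ = κ v2 := by
    rw [← D.E4, ← D.E2]; simp only [pow_succ, pow_zero]; group
  -- z² (e1 e2) z⁻² = e_{-1} e_0 = e_2
  have h4 : (z * κ z0 * z⁻¹) * κ z0 = κ v2 := by
    calc (z * κ z0 * z⁻¹) * κ z0 = (z * (z * κ v1 * z⁻¹) * z⁻¹) * (z * (z * κ v2 * z⁻¹) * z⁻¹) := by
          rw [h2, D.E1]
      _ = z * (z * (κ v1 * κ v2) * z⁻¹) * z⁻¹ := by group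
      _ = κ v2 := by rw [h1, h3]
  have h5 : κ z0 * κ z0 = 1 := by rw [← map_mul, z0_sq, map_one]
  calc z * κ z0 * z⁻¹ = (z * κ z0 * z⁻¹) * (κ z0 * κ z0) := by rw [h5, mul_one]
    _ = ((z * κ z0 * z⁻¹) * κ z0) * κ z0 := by group
    _ = κ v2 * κ z0 := by rw [h4]
    _ = κ (z0 * v2) := by rw [← map_mul, z0_central]

theorem E5 : z * κ (z0 * v2) * z⁻¹ = κ (z0 * v3) := by
  have h2 : z * κ v2 * z⁻¹ = κ v1 := by
    rw [← D.E2, ← D.zt]; simp only [pow_succ, pow_zero]; group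
  rw [map_mul]
  calc z * (κ z0 * κ v2) * z⁻¹ = (z * κ z0 * z⁻¹) * (z * κ v2 * z⁻¹) := by group
    _ = κ (z0 * v3) := by rw [D.E6, h2, ← map_mul, show z0 * v2 * v1 = z0 * v3 by decide +kernel]

/-- the rotation of order 3 -/
theorem r_t : (κ x0 * z)⁻¹ * κ z0 * (κ x0 * z) = κ v1 := by
  calc (κ x0 * z)⁻¹ * κ z0 * (κ x0 * z) = z⁻¹ * (κ x0)⁻¹ * (κ z0 * κ x0) * z := by group
    _ = z⁻¹ * κ z0 * z := by rw [← D.xt]; group
    _ = _ := D.zt

theorem r_t' : (κ x0 * z) * κ z0 * (κ x0 * z)⁻¹ = κ (z0 * v1) := by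
  calc (κ x0 * z) * κ z0 * (κ x0 * z)⁻¹ = κ x0 * (z * κ z0 * z⁻¹) * (κ x0)⁻¹ := by group
    _ = κ (z0 * v1) := by
      rw [D.E6, ← map_inv, ← map_mul, ← map_mul, show x0 * (z0 * v2) * x0⁻¹ = z0 * v1 by decide +kernel]

theorem r_a : (κ x0 * z) * κ v1 * (κ x0 * z)⁻¹ = κ z0 := by rw [← D.r_t]; group

theorem r_b : (κ x0 * z)⁻¹ * κ (z0 * v1) * (κ x0 * z) = κ z0 := by rw [← D.r_t']; group

theorem r_s : (κ x0 * z) * κ (z0 * v2) * (κ x0 * z)⁻¹ = κ (z0 * v2) := by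
  calc (κ x0 * z) * κ (z0 * v2) * (κ x0 * z)⁻¹ = κ x0 * (z * κ (z0 * v2) * z⁻¹) * (κ x0)⁻¹ := by group
    _ = κ (z0 * v2) := by
      rw [D.E5, ← map_inv, ← map_mul, ← map_mul, show x0 * (z0 * v3) * x0⁻¹ = z0 * v2 by decide +kernel]

theorem r_cube : (κ x0 * z) * (κ x0 * z) * (κ x0 * z) = 1 := by
  have h := D.zx
  have h3 : κ x0 * κ x0 * κ x0 = 1 := by rw [← map_mul, ← map_mul, x0_cube, map_one]
  have h7 := D.z7
  have h1 : ∀ n : ℕ, z ^ n * κ x0 = κ x0 * z ^ (2 * n) := by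
    intro n
    induction n with
    | zero => simp
    | succ n ih =>
      have e : 2 * (n + 1) = 2 * n + 2 := by ring
      rw [pow_succ, mul_assoc, h, ← mul_assoc, ih, mul_assoc, ← pow_add, e]
  have h2 : z ^ 3 * κ x0 = κ x0 * z ^ 6 := h1 3
  calc (κ x0 * z) * (κ x0 * z) * (κ x0 * z) = κ x0 * (z * κ x0) * z * κ x0 * z := by group
    _ = κ x0 * (κ x0 * z ^ 2) * z * κ x0 * z := by rw [h]
    _ = κ x0 * κ x0 * (z ^ 3 * κ x0) * z := by simp only [pow_succ, pow_zero]; group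
    _ = (κ x0 * κ x0 * κ x0) * z ^ 7 := by rw [h2]; simp only [pow_succ, pow_zero]; group
    _ = 1 := by rw [h3, h7, one_mul]

end ZD

/-! ### classification of the subgroups inverted by an involution -/

def inv1 (h : H) : Bool := decide (v1 * h * v1 = h⁻¹) && decide (h ^ 15 = 1)

def comT (h k : H) : Bool := decide (h * k = k * h)
def ppT (h k : H) : Bool := decide (k = 1) || (decide (k = h) || (decide (k = h * h) || (decide (k = h * h * h) || decide (k = h * h * h * h))))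
theorem inv1_gen' : ∀ h : H, inv1 h = true → ∀ k : H,
    (!(inv1 k) || (!(comT h k) || (decide (h = 1) || ppT h k))) = true := by decide +kernel
theorem inv1_gen {h k : H} (h1 : inv1 h = true) (k1 : inv1 k = true) (hk : h * k = k * h) (hne : h ≠ 1) :
    k = 1 ∨ k = h ∨ k = h * h ∨ k = h * h * h ∨ k = h * h * h * h := by
  have := inv1_gen' h h1 k
  have hc : comT h k = true := decide_eq_true hk
  have hn : decide (h = 1) = false := decide_eq_false hne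
  rw [k1, hc, hn] at this
  unfold ppT at this
  simpa using this
theorem inv1_ord : ∀ h : H, inv1 h = true → h ^ 3 = 1 ∨ h ^ 5 = 1 := by decide +kernel
theorem inv1_three : ∀ h : H, inv1 h = true → h ^ 3 = 1 → h ≠ 1 →
    h = X0 ∨ h = X0⁻¹ ∨ h = v2 * X0 * v2 ∨ h = v2 * X0⁻¹ * v2 := by decide +kernel
theorem pow30 : ∀ h : H, h ^ 30 = 1 := by decide +kernel

theorem pow15 {h : H} {n : ℕ} (hn : Odd n) (h1 : h ^ n = 1) : h ^ 15 = 1 := by
  have h2 := orderOf_dvd_of_pow_eq_one h1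
  have h3 := orderOf_dvd_of_pow_eq_one (pow30 h)
  apply orderOf_dvd_iff_pow_eq_one.1
  have h4 : (orderOf h).Coprime 2 := by
    rw [Nat.coprime_two_right]
    exact Odd.of_dvd_nat hn h2
  have h5 : orderOf h ∣ 2 * 15 := h3
  exact h4.dvd_of_dvd_mul_left h5

/-- a commutative subgroup conjugate into the elements inverted by `v1` -/
theorem cyc_of_inv {κ : H →* G} (hinj : Function.Injective κ) {F : Subgroup G} {g : G}
    (hF : ∀ m ∈ F, ∃ h : H, inv1 h = true ∧ g * m * g⁻¹ = κ h) (hcomm : ∀ m ∈ F, ∀ n ∈ F, m * n = n * m) :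
    Nat.card F = 1 ∨ (Nat.card F = 3 ∧ ∃ m ∈ F, m ≠ 1 ∧ m ^ 3 = 1) ∨ (Nat.card F = 5 ∧ ∃ m ∈ F, m ≠ 1 ∧ m ^ 5 = 1) := by
  by_cases hb : F = ⊥
  · left; rw [hb]; simp
  · obtain ⟨m, hm, hm1⟩ : ∃ m : G, m ∈ F ∧ m ≠ 1 := by
      obtain ⟨m, hm⟩ := Subgroup.ne_bot_iff_exists_ne_one.1 hb
      exact ⟨m, m.2, fun e => hm (Subtype.ext e)⟩
    obtain ⟨h, hh, e⟩ := hF m hm
    have hh1 : h ≠ 1 := by
      rintro rfl
      rw [map_one] at e
      apply hm1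
      calc m = g⁻¹ * (g * m * g⁻¹) * g := by group
        _ = 1 := by rw [e]; group
    have hz : F = Subgroup.zpowers m := by
      apply le_antisymm
      · intro n hn
        obtain ⟨k, hk, e'⟩ := hF n hn
        have hc : h * k = k * h := by
          apply hinj
          rw [map_mul, map_mul, ← e, ← e']
          have := hcomm m hm n hn
          calc g * m * g⁻¹ * (g * n * g⁻¹) = g * (m * n) * g⁻¹ := by group
            _ = g * (n * m) * g⁻¹ := by rw [this]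
            _ = g * n * g⁻¹ * (g * m * g⁻¹) := by group
        have hmem := inv1_gen hh hk hc hh1
        have hk' : n = g⁻¹ * κ k * g := by rw [← e']; group
        have hpow : ∀ j : ℕ, g⁻¹ * κ (h ^ j) * g = m ^ j := by
          intro j
          rw [map_pow, ← e, conj_pow]; group
        have hj : ∃ j : ℕ, k = h ^ j := by
          rcases hmem with rfl | rfl | rfl | rfl | rfl
          · exact ⟨0, (pow_zero h).symm⟩
          · exact ⟨1, (pow_one k).symm⟩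
          · exact ⟨2, (sq h).symm⟩
          · exact ⟨3, by rw [pow_succ, sq]⟩
          · exact ⟨4, by rw [pow_succ, pow_succ, sq]⟩
        obtain ⟨j, rfl⟩ := hj
        rw [hk', hpow]
        exact Subgroup.pow_mem _ (Subgroup.mem_zpowers _) j
      · rw [Subgroup.zpowers_le]; exact hm
    have hmp : ∀ j : ℕ, h ^ j = 1 → m ^ j = 1 := by
      intro j hj
      have : g * m ^ j * g⁻¹ = 1 := by
        rw [← conj_pow, e, ← map_pow, hj, map_one]
      calc m ^ j = g⁻¹ * (g * m ^ j * g⁻¹) * g := by group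
        _ = 1 := by rw [this]; group
    have f3 : Fact (Nat.Prime 3) := ⟨by norm_num⟩
    have f5 : Fact (Nat.Prime 5) := ⟨by norm_num⟩
    rcases inv1_ord h hh with h3 | h5
    · right; left
      refine ⟨?_, m, hm, hm1, hmp 3 h3⟩
      rw [hz, Nat.card_zpowers]
      exact orderOf_eq_prime (hmp 3 h3) hm1
    · right; right
      refine ⟨?_, m, hm, hm1, hmp 5 h5⟩
      rw [hz, Nat.card_zpowers]
      exact orderOf_eq_prime (hmp 5 h5) hm1

end Cfsg.Agent.Lib.JanLoc
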