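import Cfsg.Agent.Lib.H76Blk2
import Cfsg.Agent.Lib.Subsec2
/-!
# Column sums over the principal block and central-like `p`-subgroups (helper71)

For a normal `p`-subgroup `Q` with `G = Q C_G(Q)` and `p`-regular `y, y'`:
`∑_{ψ ∈ B₀(G)} ψ(y) conj ψ(y') = |Q| ∑_{μ ∈ B₀(G/Q)} μ(yQ) conj μ(y'Q)`.
-/

set_option autoImplicit false
set_option linter.all false

namespace Cfsg.Agent.Lib.K0Quot

open scoped ComplexConjugate
open Cfsg Cfsg.Agent.Lib Cfsg.Agent.Lib.CharBasic Cfsg.Agent.Lib.BlockRing Cfsg.Agent.Lib.BlockIdem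
open Cfsg.Agent.Lib.BlockGA Cfsg.Agent.Lib.BlockPair Cfsg.Agent.Lib.BlockCount
open Cfsg.Agent.Lib.BlockOsima Cfsg.Agent.Lib.BlockDeg Cfsg.Agent.Lib.H76Blk2
open Cfsg.Agent.Lib.BlockNormP Cfsg.Agent.Lib.Subsec

universe u

variable {G : Type u} [Group G] {p : ℕ} {M : Ideal AlgInt}

/-- coefficients of `K̂_y e_B`. -/
theorem coeff_classSum_mul_eB [Finite G] (B : Set (IrrCharacter G)) (y g : G) :
    ((Nat.card (Subgroup.centralizer ({y} : Set G)) : ℕ) : ℂ) * (classSum y * eB B).coeff g =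
      ∑ᶠ χ ∈ B, (χ : G → ℂ) y * conj ((χ : G → ℂ) g) := by
  classical
  letI := Fintype.ofFinite G
  rw [coeff_mul_eB (classSum_mem_center y), blockPart_eq, finsum_mem_eq_finite_toFinset_sum _ (Set.toFinite _),
    Finset.mul_sum]
  refine Finset.sum_congr rfl fun χ _ => ?_
  have h1 : classInner (fun x => (classSum y).coeff x⁻¹) (χ : G → ℂ) =
      (Nat.card G : ℂ)⁻¹ * lin (χ : G → ℂ) (classSum y) := by
    unfold classInner
    congr 1
    rw [lin_apply, ← Equiv.sum_comp (Equiv.inv G)]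
    refine Finset.sum_congr rfl fun x _ => ?_
    simp only [Equiv.inv_apply, inv_inv]
    rw [χ.2.inv, Complex.conj_conj]
  rw [h1, lin_classSum' χ.2.isClassFunction, χ.2.inv]
  have h2 : ((Nat.card (Subgroup.centralizer ({y} : Set G)) : ℕ) : ℂ) *
      ((Subgroup.centralizer ({y} : Set G)).index : ℂ) = (Nat.card G : ℂ) := by
    exact_mod_cast (Subgroup.centralizer ({y} : Set G)).card_mul_index
  have h3 : (Nat.card G : ℂ) ≠ 0 := by exact_mod_cast Nat.card_pos.ne'
  rw [← h2] at h3 ⊢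
  have h4 := left_ne_zero_of_mul h3
  have h5 := right_ne_zero_of_mul h3
  field_simp

theorem quot_sum [Finite G] (hM : IsPModular p M) {Q : Subgroup G} (hQ : IsPGroup p Q)
    (hsup : Q ⊔ Subgroup.centralizer (Q : Set G) = ⊤) [Q.Normal] {y y' : G} (hy : ¬ p ∣ orderOf y)
    (hy' : ¬ p ∣ orderOf y') :
    ∑ᶠ ψ ∈ principalBlock M G, (ψ : G → ℂ) y * conj ((ψ : G → ℂ) y') =
      (Nat.card Q : ℂ) * ∑ᶠ μ ∈ principalBlock M (G ⧸ Q),
        (μ : G ⧸ Q → ℂ) (y : G ⧸ Q) * conj ((μ : G ⧸ Q → ℂ) (y' : G ⧸ Q)) := by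
  classical
  haveI := isPrime hM
  letI := Fintype.ofFinite G
  have hB : IsPBlock M (principalBlock M G) := BlockThird.isPBlock_principal
  set z : GA G := classSum y * eB (principalBlock M G) with hz
  have hzc : z ∈ Subalgebra.center ℂ (GA G) := Subalgebra.mul_mem _ (classSum_mem_center y) (eB_mem_center _)
  have hproj : projQ Q z = classSum (y : G ⧸ Q) * eB (principalBlock M (G ⧸ Q)) := by
    apply center_ext (projQ_mem_center Q hzc)
      (Subalgebra.mul_mem _ (classSum_mem_center _) (eB_mem_center _))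
    intro μ
    rw [omega_projQ, omega_mul μ.2 (classSum_mem_center _), omega_classSum μ.2.isClassFunction]
    have h1 : omega (fun x : G => (μ : G ⧸ Q → ℂ) (x : G ⧸ Q)) z =
        omega (infl Q μ : G → ℂ) (classSum y) * omega (infl Q μ : G → ℂ) (eB (principalBlock M G)) :=
      omega_mul (infl Q μ).2 (classSum_mem_center _) _
    rw [h1, omega_classSum (infl Q μ).2.isClassFunction, omega_eB, omega_eB]
    have h2 : centralChar (infl Q μ : G → ℂ) y = centralChar (μ : G ⧸ Q → ℂ) (y : G ⧸ Q) :=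
      centralChar_inflate hM.1 hQ hsup _ hy
    rw [h2]
    simp only [infl_mem_principal hM hQ hsup]
  have hreg : RegS p z := regS_mul_eB hM hB (classSum_mem_center y) (by
    intro g hg
    rw [coeff_classSum, if_neg]
    intro hc
    apply hy
    rwa [orderOf_isConj hc])
  have hcoeff : (projQ Q z).coeff (y' : G ⧸ Q) = z.coeff y' := by
    rw [coeff_projQ, Finset.sum_eq_single y']
    · rw [if_pos rfl]
    · intro x _ hx
      by_cases h : (x : G ⧸ Q) = (y' : G ⧸ Q)
      · rw [if_pos h]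
        apply hreg
        by_contra hxr
        exact hx (eq_of_mk_eq hM.1 hQ hsup hxr hy' h)
      · rw [if_neg h]
    · intro h; exact absurd (Finset.mem_univ _) h
  rw [← coeff_classSum_mul_eB, ← coeff_classSum_mul_eB, ← hz, ← hcoeff, hproj, ← mul_assoc]
  congr 1
  have h1 := index_centralizer_mk hM.1 hQ hsup hy
  have h2 := (Subgroup.centralizer ({y} : Set G)).card_mul_index
  have h3 := (Subgroup.centralizer ({(y : G ⧸ Q)} : Set (G ⧸ Q))).card_mul_index
  have h4 := Q.card_mul_index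
  have h5 : Nat.card (G ⧸ Q) = Q.index := rfl
  rw [h1, h5] at h3
  have h6 : (Subgroup.centralizer ({y} : Set G)).index ≠ 0 := Subgroup.index_ne_zero_of_finite
  have h7 : Nat.card (Subgroup.centralizer ({y} : Set G)) =
      Nat.card Q * Nat.card (Subgroup.centralizer ({(y : G ⧸ Q)} : Set (G ⧸ Q))) := by
    apply Nat.eq_of_mul_eq_mul_right (Nat.pos_of_ne_zero h6)
    rw [h2, mul_assoc, h3, h4]
  exact_mod_cast h7

end Cfsg.Agent.Lib.K0Quot
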