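import Mathlib.Algebra.Field.Defs
import Mathlib.Data.Fintype.Basic
import Mathlib.Data.Fin.Basic
import Mathlib.Tactic

/-! A computable model of the field with 16 elements: `Fin 16` with bitwise xor and
multiplication modulo `x^4 + x + 1`, via tables encoded in natural numbers. -/

set_option autoImplicit false

namespace Cfsg.Agent.Lib.K16

/-- the field with 16 elements -/
def K16 : Type := Fin 16

instance instDecEqK16 : DecidableEq K16 := inferInstanceAs (DecidableEq (Fin 16))
instance instFintypeK16 : Fintype K16 := inferInstanceAs (Fintype (Fin 16))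

def mulT : ℕ := 0xa5783ce1b4692df05ba48679c23d1fe07ae36bf258c149d0843fd16a2e957bc0386d92c74f1ae5b0c6b1285f394ed7a0e7f6c5d4a3b28190192a7f4cd5e6b380bc5243ad618f9e70428ef93517dbac6063c914be8d27fa509d15ae26fb73c8402147ed8b9afc5630df9b5713eca86420fedcba98765432100000000000000000
def invT : ℕ := 0x834a5c2f67bde910

def kadd (a b : K16) : K16 := (⟨Nat.xor (a : Fin 16).val (b : Fin 16).val % 16, Nat.mod_lt _ (by decide)⟩ : Fin 16)
def kmul (a b : K16) : K16 :=
  (⟨Nat.shiftRight mulT (4 * (16 * (a : Fin 16).val + (b : Fin 16).val)) % 16, Nat.mod_lt _ (by decide)⟩ : Fin 16)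
def kinv (a : K16) : K16 := (⟨Nat.shiftRight invT (4 * (a : Fin 16).val) % 16, Nat.mod_lt _ (by decide)⟩ : Fin 16)
def kzero : K16 := (0 : Fin 16)
def kone : K16 := (1 : Fin 16)

theorem kadd_assoc : ∀ a b c : K16, kadd (kadd a b) c = kadd a (kadd b c) := by decide +kernel
theorem kmul_assoc : ∀ a b c : K16, kmul (kmul a b) c = kmul a (kmul b c) := by decide +kernel
theorem kmul_add : ∀ a b c : K16, kmul a (kadd b c) = kadd (kmul a b) (kmul a c) := by decide +kernel
theorem kadd_comm : ∀ a b : K16, kadd a b = kadd b a := by decide +kernel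
theorem kmul_comm : ∀ a b : K16, kmul a b = kmul b a := by decide +kernel
theorem kzero_add : ∀ a : K16, kadd kzero a = a := by decide +kernel
theorem kone_mul : ∀ a : K16, kmul kone a = a := by decide +kernel
theorem kzero_mul : ∀ a : K16, kmul kzero a = kzero := by decide +kernel
theorem kadd_self : ∀ a : K16, kadd a a = kzero := by decide +kernel
theorem kmul_inv : ∀ a : K16, a ≠ kzero → kmul a (kinv a) = kone := by decide +kernel
theorem kinv_zero : kinv kzero = kzero := by decide +kernel

instance instAddK16 : Add K16 := ⟨kadd⟩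
instance instMulK16 : Mul K16 := ⟨kmul⟩
instance instZeroK16 : Zero K16 := ⟨kzero⟩
instance instOneK16 : One K16 := ⟨kone⟩
instance instNegK16 : Neg K16 := ⟨fun a => a⟩
instance instInvK16 : Inv K16 := ⟨kinv⟩

instance instFieldK16 : Field K16 where
  add := kadd
  add_assoc := kadd_assoc
  zero := kzero
  zero_add := kzero_add
  add_zero a := (kadd_comm a kzero).trans (kzero_add a)
  nsmul := nsmulRec
  neg a := a
  zsmul := zsmulRec
  neg_add_cancel := kadd_self
  add_comm := kadd_comm
  mul := kmul
  mul_assoc := kmul_assoc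
  one := kone
  one_mul := kone_mul
  mul_one a := (kmul_comm a kone).trans (kone_mul a)
  left_distrib := kmul_add
  right_distrib a b c := by
    show kmul (kadd a b) c = kadd (kmul a c) (kmul b c)
    rw [kmul_comm, kmul_add, kmul_comm c a, kmul_comm c b]
  zero_mul := kzero_mul
  mul_zero a := (kmul_comm a kzero).trans (kzero_mul a)
  mul_comm := kmul_comm
  inv := kinv
  exists_pair_ne := ⟨kzero, kone, by decide⟩
  mul_inv_cancel := kmul_inv
  inv_zero := kinv_zero
  nnqsmul := _
  nnqsmul_def := fun _ _ => rfl
  qsmul := _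
  qsmul_def := fun _ _ => rfl

theorem card_K16 : Fintype.card K16 = 16 := by decide

instance instCharPK16 : CharP K16 2 := by
  refine CharTwo.of_one_ne_zero_of_two_eq_zero ?_ ?_
  · decide
  · decide

end Cfsg.Agent.Lib.K16
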