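import Cfsg.Prelude
import Cfsg.Agent.Lib.H31Gen
import Cfsg.Agent.Lib.CoprimeAction2
import Cfsg.Agent.Lib.Critical
import Cfsg.Agent.Lib.CriticalOdd
import Cfsg.Agent.Lib.BG03Crit
import Cfsg.Agent.Lib.Fitting

/-!
Klinger–Mason: tools for groups of characteristic `{2,p}`-type.
-/

set_option autoImplicit false

open Subgroup

namespace Cfsg.Agent.Lib.KMason

open ThompsonJ

variable {G : Type*} [Group G] [Finite G]

/-- Every `p`-local subgroup has characteristic `p`. -/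
def CharType (p : ℕ) (G : Type*) [Group G] : Prop :=
  ∀ T : Subgroup G, IsPGroup p T → T ≠ ⊥ →
    centralizer (Cfsg.pCore p ↥(normalizer (T : Set G)) : Set ↥(normalizer (T : Set G))) ≤
      Cfsg.pCore p ↥(normalizer (T : Set G))

/-- `O_p(N_G(T))` as a subgroup of `G`. -/
def OP (p : ℕ) (T : Subgroup G) : Subgroup G :=
  (Cfsg.pCore p ↥(normalizer (T : Set G))).map (normalizer (T : Set G)).subtype

theorem isPGroup_OP (p : ℕ) (T : Subgroup G) : IsPGroup p (OP p T) :=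
  (Fitting.isPGroup_pCore (G := ↥(normalizer (T : Set G))) p).map _

omit [Finite G] in
theorem OP_le (p : ℕ) (T : Subgroup G) : OP p T ≤ normalizer (T : Set G) := map_subtype_le _

omit [Finite G] in
theorem conj_mem_OP {p : ℕ} {T : Subgroup G} {g x : G} (hg : g ∈ normalizer (T : Set G))
    (hx : x ∈ OP p T) : g * x * g⁻¹ ∈ OP p T := by
  obtain ⟨y, hy, rfl⟩ := hx
  have hn : (Cfsg.pCore p ↥(normalizer (T : Set G))).Normal := Fitting.normal_pCore p
  exact ⟨⟨g, hg⟩ * y * ⟨g, hg⟩⁻¹, hn.conj_mem y hy ⟨g, hg⟩, rfl⟩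

omit [Finite G] in
theorem mem_normalizer_of {S : Subgroup G} {H : Subgroup G}
    (h : ∀ g ∈ H, ∀ x ∈ S, g * x * g⁻¹ ∈ S) : H ≤ normalizer (S : Set G) := by
  intro g hg
  rw [mem_normalizer_iff]
  intro x
  refine ⟨fun hx => h g hg x hx, fun hx => ?_⟩
  have := h g⁻¹ (inv_mem hg) _ hx
  simpa [mul_assoc] using this

omit [Finite G] in
theorem le_normalizer_OP (p : ℕ) (T : Subgroup G) :
    normalizer (T : Set G) ≤ normalizer (OP p T : Set G) :=
  mem_normalizer_of fun _ hg _ hx => conj_mem_OP hg hx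

omit [Finite G] in
/-- The centraliser condition, in the ambient group. -/
theorem mem_OP_of_centralizer {p : ℕ} (h : CharType p G) {T : Subgroup G} (hT : IsPGroup p T)
    (hT1 : T ≠ ⊥) {x : G} (hx : x ∈ normalizer (T : Set G))
    (hxc : x ∈ centralizer (OP p T : Set G)) : x ∈ OP p T := by
  refine ⟨⟨x, hx⟩, h T hT hT1 ?_, rfl⟩
  rw [mem_centralizer_iff]
  intro y hy
  apply Subtype.ext
  exact mem_centralizer_iff.1 hxc y ⟨y, hy, rfl⟩

/-- A `p'`-subgroup of `N(T)` centralising `O_p(N(T))` is trivial. -/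
theorem eq_bot_of_centralizes {p : ℕ} [hp : Fact p.Prime] (h : CharType p G) {T : Subgroup G}
    (hT : IsPGroup p T) (hT1 : T ≠ ⊥) {B : Subgroup G} (hB : B ≤ normalizer (T : Set G))
    (hcop : (Nat.card B).Coprime p) (hc : B ≤ centralizer (OP p T : Set G)) : B = ⊥ := by
  have h1 : B ≤ OP p T := fun x hx => mem_OP_of_centralizer h hT hT1 (hB hx) (hc hx)
  have h2 : IsPGroup p B := (isPGroup_OP p T).to_le h1
  obtain ⟨n, hn⟩ := h2.exists_card_eq
  rw [hn] at hcop
  rw [← card_eq_one, hn]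
  rcases Nat.eq_zero_or_pos n with h0 | h0
  · rw [h0, pow_zero]
  · exfalso
    have := (Nat.coprime_pow_left_iff h0 p p).1 hcop
    exact hp.out.one_lt.ne' ((Nat.coprime_self p).1 this)

/-- Coprime orders of a `p`-group and a `q`-group. -/
theorem coprime_of_pgroups {p q : ℕ} [hp : Fact p.Prime] [hq : Fact q.Prime] (hpq : p ≠ q)
    {A B : Subgroup G} (hA : IsPGroup p A) (hB : IsPGroup q B) :
    (Nat.card A).Coprime (Nat.card B) := by
  obtain ⟨n, hn⟩ := hA.exists_card_eq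
  obtain ⟨m, hm⟩ := hB.exists_card_eq
  rw [hn, hm]
  exact Nat.Coprime.pow _ _ ((Nat.coprime_primes hp.out hq.out).2 hpq)

theorem coprime_of_pgroup' {p q : ℕ} [hp : Fact p.Prime] [hq : Fact q.Prime] (hpq : p ≠ q)
    {A : Subgroup G} (hA : IsPGroup p A) : (Nat.card A).Coprime q := by
  obtain ⟨n, hn⟩ := hA.exists_card_eq
  rw [hn]
  exact Nat.Coprime.pow_left _ ((Nat.coprime_primes hp.out hq.out).2 hpq)

/-! ### adjoining elements to elementary abelian subgroups -/

omit [Finite G] in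
theorem elemAb_adjoin {p : ℕ} {F : Subgroup G} (hF : Cfsg.IsElementaryAbelian p F) {y : G}
    (hy : y ∈ centralizer (F : Set G)) (hyp : y ^ p = 1) :
    Cfsg.IsElementaryAbelian p (F ⊔ zpowers y : Subgroup G) := by
  apply elemAb_sup hF (elemAb_zpowers hyp)
  rw [le_centralizer_iff, zpowers_le]
  exact hy

theorem card_adjoin {p : ℕ} [Fact p.Prime] {F : Subgroup G} (hF : Cfsg.IsElementaryAbelian p F)
    {y : G} (hy : y ∈ centralizer (F : Set G)) (hyp : y ^ p = 1) (hyF : y ∉ F) :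
    Nat.card (F ⊔ zpowers y : Subgroup G) = p * Nat.card F :=
  H31Gen.card_sup_zpowers (elemAb_adjoin hF hy hyp) le_sup_left
    (mem_sup_right (mem_zpowers y)) hyF

omit [Finite G] in
theorem centralizer_adjoin {F : Subgroup G} {y x : G} (h1 : x ∈ centralizer (F : Set G))
    (h2 : x * y = y * x) : x ∈ centralizer ((F ⊔ zpowers y : Subgroup G) : Set G) := by
  have : F ⊔ zpowers y ≤ centralizer {x} := by
    apply sup_le
    · intro z hz
      exact mem_centralizer_singleton_iff.2 (mem_centralizer_iff.1 h1 z hz)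
    · rw [zpowers_le]
      exact mem_centralizer_singleton_iff.2 h2.symm
  rw [mem_centralizer_iff]
  intro z hz
  exact mem_centralizer_singleton_iff.1 (this hz)

/-! ### The shift lemma -/

/-- Let `F ∋ f ≠ 1` be an elementary abelian `p`-group and `V ≠ 1` an elementary abelian 2-group
centralising `F`. Then a hyperplane `V₀` of `V` centralises an element `y` of order `p` of
`C_G(F) ∩ O_p(N(⟨f⟩))` which is inverted by some `w ∈ V`. -/
theorem shift {p : ℕ} [hp : Fact p.Prime] (hp2 : p ≠ 2) (h : CharType p G)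
    {F V : Subgroup G} (hF : Cfsg.IsElementaryAbelian p F) (hV : Cfsg.IsElementaryAbelian 2 V)
    (hFV : V ≤ centralizer (F : Set G)) (hV1 : V ≠ ⊥) {f : G} (hf : f ∈ F) (hf1 : f ≠ 1) :
    ∃ V₀ ≤ V, Nat.card V = 2 * Nat.card V₀ ∧ ∃ w ∈ V, w ∉ V₀ ∧
      ∃ y ∈ OP p (zpowers f), y ≠ 1 ∧ y ^ p = 1 ∧ y ∈ centralizer (F : Set G) ∧
        y ∈ centralizer (V₀ : Set G) ∧ w * y * w⁻¹ = y⁻¹ := by
  have h2 : Fact (Nat.Prime 2) := ⟨Nat.prime_two⟩
  have hFp : IsPGroup p F := elemAb_isPGroup hF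
  have hV2 : IsPGroup 2 V := elemAb_isPGroup hV
  have hFc := H31Gen.elemAb_comm hF
  have hVc := H31Gen.elemAb_comm hV
  set T : Subgroup G := zpowers f with hT
  have hTF : T ≤ F := by rw [hT, zpowers_le]; exact hf
  have hTp : IsPGroup p T := hFp.to_le hTF
  have hT1 : T ≠ ⊥ := by rw [hT]; exact zpowers_ne_bot.2 hf1
  have hcT : ∀ B : Subgroup G, B ≤ centralizer (F : Set G) → B ≤ normalizer (T : Set G) := by
    intro B hB
    apply mem_normalizer_of
    intro b hb x hx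
    have h3 := mem_centralizer_iff.1 (hB hb) x (hTF hx)
    have : b * x * b⁻¹ = x := by rw [← h3]; group
    rwa [this]
  have hVN := hcT V hFV
  have hFN : F ≤ normalizer (T : Set G) :=
    hcT F (fun x hx => mem_centralizer_iff.2 fun y hy => hFc y hy x hx)
  set P := OP p T with hP
  have hPp : IsPGroup p P := isPGroup_OP p T
  -- V does not centralise C_P(F)
  have hX : ¬ (P ⊓ centralizer (F : Set G) ≤ centralizer (V : Set G)) := by
    intro hc
    apply hV1
    have h3 := CoprimeAction2.thompson_PxQ (p := p) hFp (coprime_of_pgroup' (Ne.symm hp2) hV2)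
      ((le_centralizer_iff).1 hFV) (Nat.card P) P rfl hPp (hFN.trans (le_normalizer_OP p T))
      (hVN.trans (le_normalizer_OP p T)) hc
    exact eq_bot_of_centralizes h hTp hT1 hVN (coprime_of_pgroup' (Ne.symm hp2) hV2) h3
  set X := P ⊓ centralizer (F : Set G) with hXd
  have hVX : V ≤ normalizer (X : Set G) := by
    apply mem_normalizer_of
    intro v hv x hx
    rw [mem_inf] at hx
    exact mem_inf.2 ⟨conj_mem_OP (hVN hv) hx.1,
      mul_mem (mul_mem (hFV hv) hx.2) (inv_mem (hFV hv))⟩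
  have hXp : IsPGroup p X := hPp.to_le inf_le_left
  have hgen := H31Gen.le_iSup_hyperplane (p := 2) (Nat.card V) V X rfl hV hVX
    (coprime_of_pgroups (Ne.symm hp2) hV2 hXp)
  have hex : ∃ V₀ : Subgroup G, V₀ ≤ V ∧ Nat.card V ≤ 2 * Nat.card V₀ ∧
      ¬ (X ⊓ centralizer (V₀ : Set G) ≤ centralizer (V : Set G)) := by
    by_contra hcon
    push Not at hcon
    apply hX
    refine hgen.trans (iSup_le ?_)
    rintro ⟨W, hW, hWc⟩
    exact hcon W hW hWc
  obtain ⟨V₀, hV₀, hcard, hnc⟩ := hex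
  have hne : V₀ ≠ V := by
    rintro rfl
    exact hnc inf_le_right
  have hlt : V₀ < V := lt_of_le_of_ne hV₀ hne
  have hcard' : Nat.card V = 2 * Nat.card V₀ := by
    obtain ⟨k, hk⟩ := card_dvd_of_le hV₀
    have h3 : Nat.card V₀ < Nat.card V := by
      by_contra h4
      exact hne (eq_of_le_of_card_ge hV₀ (not_lt.1 h4))
    have h5 : 0 < Nat.card V₀ := Nat.card_pos
    have h6 : 1 < k := by
      by_contra h7
      have : k ≤ 1 := not_lt.1 h7
      have := Nat.mul_le_mul_left (Nat.card V₀) this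
      omega
    have h8 : k ≤ 2 := by
      rw [hk, mul_comm 2] at hcard
      exact Nat.le_of_mul_le_mul_left hcard h5
    have : k = 2 := by omega
    rw [hk, this, mul_comm]
  obtain ⟨w, hw, hw0⟩ := SetLike.exists_of_lt hlt
  have hw2 : w ^ 2 = 1 := hV.2 w hw
  -- V = V₀⟨w⟩
  have hVsup : V₀ ⊔ zpowers w = V := by
    apply eq_of_le_of_card_ge (sup_le hV₀ (zpowers_le.2 hw))
    rw [H31Gen.card_sup_zpowers hV hV₀ hw hw0, hcard']
  obtain ⟨x, hx, hxw⟩ : ∃ x ∈ X ⊓ centralizer (V₀ : Set G), w * x ≠ x * w := by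
    by_contra hcon
    push Not at hcon
    apply hnc
    intro x hx
    rw [← hVsup]
    exact centralizer_adjoin hx.2 (hcon x hx).symm
  have hww : w * w = 1 := by rw [← sq]; exact hw2
  have hwi : w⁻¹ = w := inv_eq_of_mul_eq_one_left hww
  -- y₁ = x⁻¹ w x w⁻¹
  set Y := X ⊓ centralizer (V₀ : Set G) with hY
  have hconjY : ∀ z ∈ Y, w * z * w⁻¹ ∈ Y := by
    intro z hz'
    rw [mem_inf] at hz'
    refine mem_inf.2 ⟨(mem_normalizer_iff.1 (hVX hw) z).1 hz'.1, ?_⟩
    rw [mem_centralizer_iff]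
    intro v hv
    have hz := mem_centralizer_iff.1 hz'.2 v hv
    have hvw := hVc v (hV₀ hv) w hw
    calc v * (w * z * w⁻¹) = (v * w) * z * w⁻¹ := by group
      _ = w * (v * z) * w⁻¹ := by rw [hvw]; group
      _ = w * z * (v * w⁻¹) := by rw [hz]; group
      _ = w * z * (w⁻¹ * v) := by rw [hwi, hvw]
      _ = w * z * w⁻¹ * v := by group
  set y₁ := x⁻¹ * (w * x * w⁻¹) with hy₁
  have hy₁Y : y₁ ∈ Y := mul_mem (inv_mem hx) (hconjY x hx)
  have hy₁1 : y₁ ≠ 1 := by
    intro h3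
    apply hxw
    have h4 : w * x * w⁻¹ = x := by
      have := congrArg (x * ·) h3
      simpa [hy₁, mul_assoc] using this
    calc w * x = w * x * w⁻¹ * w := by group
      _ = x * w := by rw [h4]
  have hinv : w * y₁ * w⁻¹ = y₁⁻¹ := by
    rw [hy₁, hwi]
    calc w * (x⁻¹ * (w * x * w)) * w = (w * x⁻¹ * w) * x * (w * w) := by group
      _ = (w * x⁻¹ * w) * x := by rw [hww, mul_one]
      _ = (w⁻¹ * x⁻¹ * w⁻¹) * x := by rw [hwi]
      _ = (x⁻¹ * (w * x * w))⁻¹ := by group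
  have hYp : IsPGroup p Y := hXp.to_le inf_le_left
  obtain ⟨k, hk⟩ := (IsPGroup.iff_orderOf.1 hYp) ⟨y₁, hy₁Y⟩
  rw [← Subgroup.orderOf_coe] at hk
  have hk' : orderOf y₁ = p ^ k := hk
  have hk0 : k ≠ 0 := by
    rintro rfl
    rw [pow_zero, orderOf_eq_one_iff] at hk'
    exact hy₁1 hk'
  obtain ⟨m, rfl⟩ := Nat.exists_eq_succ_of_ne_zero hk0
  have hyo : orderOf (y₁ ^ (p ^ m)) = p := by
    rw [orderOf_pow, hk', Nat.succ_eq_add_one,
      Nat.gcd_eq_right (pow_dvd_pow p (Nat.le_succ m)), pow_succ,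
      Nat.mul_div_cancel_left p (pow_pos hp.out.pos m)]
  have hyY : y₁ ^ (p ^ m) ∈ Y := pow_mem hy₁Y _
  refine ⟨V₀, hV₀, hcard', w, hw, hw0, y₁ ^ (p ^ m), hyY.1.1, ?_, ?_, hyY.1.2, hyY.2, ?_⟩
  · intro h3
    rw [h3, orderOf_one] at hyo
    exact hp.out.one_lt.ne hyo
  · rw [← orderOf_dvd_iff_pow_eq_one, hyo]
  · rw [← conj_pow, hinv, inv_pow]

omit [Finite G] in
/-- the element `y` of the shift lemma is not in `F`. -/
theorem not_mem_of_inverted {p : ℕ} [hp : Fact p.Prime] (hp2 : p ≠ 2) {F : Subgroup G} {w y : G}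
    (hw : w ∈ centralizer (F : Set G)) (hy1 : y ≠ 1) (hyp : y ^ p = 1)
    (hinv : w * y * w⁻¹ = y⁻¹) : y ∉ F := by
  intro hyF
  have h1 := mem_centralizer_iff.1 hw y hyF
  have h2 : y = y⁻¹ := by
    rw [← hinv, ← h1]; group
  have h3 : y ^ 2 = 1 := by
    rw [sq]; nth_rewrite 2 [h2]; group
  have h4 : orderOf y = p := orderOf_eq_prime hyp hy1
  have h5 : orderOf y ∣ 2 := orderOf_dvd_of_pow_eq_one h3
  rw [h4] at h5
  exact hp2 ((Nat.prime_dvd_prime_iff_eq hp.out Nat.prime_two).1 h5)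

/-- The rank bound. -/
theorem bound {p : ℕ} [hp : Fact p.Prime] (hp2 : p ≠ 2) (h : CharType p G) {N : ℕ}
    (hN : ∀ (t : G) (F : Subgroup G), t ≠ 1 → t ^ 2 = 1 → Cfsg.IsElementaryAbelian p F →
      F ≤ centralizer {t} → Nat.card F ≤ N) (n : ℕ) :
    ∀ (F V : Subgroup G), Cfsg.IsElementaryAbelian p F → Cfsg.IsElementaryAbelian 2 V →
      V ≤ centralizer (F : Set G) → F ≠ ⊥ → Nat.card V = 2 ^ (n + 1) →
      Nat.card F * p ^ n ≤ N := by
  induction n with
  | zero =>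
    intro F V hF hV hFV hF1 hVc
    rw [pow_zero, mul_one]
    have hV1 : V ≠ ⊥ := by
      rintro rfl
      rw [card_bot] at hVc
      norm_num at hVc
    obtain ⟨⟨t, ht⟩, ht1⟩ := (V.ne_bot_iff_exists_ne_one).1 hV1
    refine hN t F (fun h3 => ht1 (Subtype.ext h3)) (hV.2 t ht) hF ?_
    intro x hx
    rw [mem_centralizer_singleton_iff]
    exact mem_centralizer_iff.1 (hFV ht) x hx
  | succ n ih =>
    intro F V hF hV hFV hF1 hVc
    have hV1 : V ≠ ⊥ := by
      rintro rfl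
      rw [card_bot] at hVc
      have : 1 < 2 ^ (n + 1 + 1) := Nat.one_lt_two_pow (by omega)
      omega
    obtain ⟨f, hf, hf1⟩ : ∃ f ∈ F, f ≠ 1 := by
      obtain ⟨f, hf⟩ := (F.ne_bot_iff_exists_ne_one).1 hF1
      exact ⟨f, f.2, fun h3 => hf (Subtype.ext h3)⟩
    obtain ⟨V₀, hV₀, hVc', w, hw, -, y, -, hy1, hyp, hyF, hyV, hinv⟩ :=
      shift hp2 h hF hV hFV hV1 hf hf1
    have hyn : y ∉ F := not_mem_of_inverted hp2 (hFV hw) hy1 hyp hinv
    have h3 := ih (F ⊔ zpowers y) V₀ (elemAb_adjoin hF hyF hyp) (elemAb_mono hV hV₀)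
      (fun v hv => centralizer_adjoin (hFV (hV₀ hv)) (mem_centralizer_iff.1 hyV v hv))
      (fun h4 => by
        apply hF1
        rw [eq_bot_iff, ← h4]
        exact le_sup_left)
      (by
        rw [pow_succ 2 (n + 1)] at hVc
        omega)
    rw [card_adjoin hF hyF hyp hyn] at h3
    calc Nat.card F * p ^ (n + 1) = p * Nat.card F * p ^ n := by ring
      _ ≤ N := h3

end Cfsg.Agent.Lib.KMason
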