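import Cfsg.Agent.Lib.KMason

/-!
Klinger–Mason: critical subgroups of `O_2(C(t))` and the main argument.
-/

set_option autoImplicit false

open Subgroup
open scoped commutatorElement

namespace Cfsg.Agent.Lib.KMason

open ThompsonJ

variable {G : Type*} [Group G] [Finite G]

/-- Critical subgroup of `O_2(C(t))`. -/
structure Crit (t : G) (C : Subgroup G) : Prop where
  p2 : IsPGroup 2 C
  cent : C ≤ centralizer {t}
  norm : centralizer {t} ≤ normalizer (C : Set G)
  mem : t ∈ C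
  cl : ∀ x ∈ C, ∀ y ∈ C, ⁅x, y⁆ ∈ centralizer (C : Set G)
  sq : ∀ x ∈ C, x ^ 2 ∈ centralizer (C : Set G)
  le : C ≤ OP 2 (zpowers t)
  faithful : ∀ B : Subgroup G, B ≤ centralizer {t} → (Nat.card B).Coprime 2 →
    B ≤ centralizer (C : Set G) → B = ⊥

omit [Finite G] in
theorem normalizer_zpowers {t : G} (ht1 : t ≠ 1) (ht2 : t ^ 2 = 1) :
    normalizer (zpowers t : Set G) = centralizer {t} := by
  have hto : orderOf t = 2 := orderOf_eq_prime ht2 ht1
  apply le_antisymm
  · intro g hg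
    have h1 : g * t * g⁻¹ ∈ zpowers t := (mem_normalizer_iff.1 hg t).1 (mem_zpowers t)
    obtain ⟨k, hk⟩ := h1
    have hk' : t ^ k = g * t * g⁻¹ := hk
    rcases Int.even_or_odd' k with ⟨m, hm | hm⟩
    · exfalso
      rw [hm, zpow_mul, zpow_ofNat, ht2, one_zpow] at hk'
      apply ht1
      have : g⁻¹ * (g * t * g⁻¹) * g = 1 := by rw [← hk']; group
      simpa [mul_assoc] using this
    · rw [hm, zpow_add, zpow_mul, zpow_ofNat, ht2, one_zpow, one_mul, zpow_one] at hk'
      rw [mem_centralizer_singleton_iff]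
      calc g * t = g * t * g⁻¹ * g := by group
        _ = t * g := by rw [← hk']
  · apply mem_normalizer_of
    rintro g hg _ ⟨k, rfl⟩
    have h1 := mem_centralizer_singleton_iff.1 hg
    have h2 : g * t * g⁻¹ = t := by rw [h1]; group
    refine ⟨k, ?_⟩
    change t ^ k = g * t ^ k * g⁻¹
    rw [← conj_zpow, h2]

omit [Finite G] in
theorem isPGroup_zpowers {t : G} (ht2 : t ^ 2 = 1) : IsPGroup 2 (zpowers t) :=
  elemAb_isPGroup (elemAb_zpowers ht2)

theorem exists_crit (h2 : CharType 2 G) {t : G} (ht1 : t ≠ 1) (ht2 : t ^ 2 = 1) :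
    ∃ C : Subgroup G, Crit t C := by
  have hf2 : Fact (Nat.Prime 2) := ⟨Nat.prime_two⟩
  have hN := normalizer_zpowers ht1 ht2
  set R := OP 2 (zpowers t) with hR
  have hRp : IsPGroup 2 R := isPGroup_OP 2 _
  have hRc : R ≤ centralizer {t} := by rw [← hN]; exact OP_le 2 _
  have hNR : centralizer {t} ≤ normalizer (R : Set G) := by rw [← hN]; exact le_normalizer_OP 2 _
  have hTp := isPGroup_zpowers ht2
  have hT1 : zpowers t ≠ ⊥ := zpowers_ne_bot.2 ht1
  have htc : t ∈ centralizer (R : Set G) := by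
    rw [mem_centralizer_iff]
    intro x hx
    exact mem_centralizer_singleton_iff.1 (hRc hx)
  have htR : t ∈ R := mem_OP_of_centralizer h2 hTp hT1
    (by rw [hN]; exact mem_centralizer_singleton_iff.2 rfl) htc
  obtain ⟨H, hHc, -, hHP, hHC, hpow⟩ := Critical.exists_critical (P := ↥R) hRp
  set C := H.map R.subtype with hC
  have hCR : C ≤ R := map_subtype_le _
  have hmem : ∀ {x : G} (hx : x ∈ R), (⟨x, hx⟩ : ↥R) ∈ H ↔ x ∈ C := by
    intro x hx
    constructor
    · intro h3; exact ⟨⟨x, hx⟩, h3, rfl⟩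
    · rintro ⟨y, hy, rfl⟩; exact hy
  have hcent : ∀ {x : G} (hx : x ∈ R), (⟨x, hx⟩ : ↥R) ∈ centralizer (H : Set ↥R) ↔
      x ∈ centralizer (C : Set G) := by
    intro x hx
    rw [mem_centralizer_iff, mem_centralizer_iff]
    constructor
    · rintro h3 _ ⟨y, hy, rfl⟩
      exact congrArg Subtype.val (h3 y hy)
    · intro h3 y hy
      exact Subtype.ext (h3 y ⟨y, hy, rfl⟩)
  have hCC : R ⊓ centralizer (C : Set G) ≤ C := by
    intro x hx
    rw [← hmem hx.1]
    exact hHC ((hcent hx.1).2 hx.2)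
  refine ⟨C, hRp.to_le hCR, hCR.trans hRc, ?_, ?_, ?_, ?_, hCR, ?_⟩
  · apply mem_normalizer_of
    rintro g hg _ ⟨x, hx, rfl⟩
    have h3 : (R.normalizerMonoidHom ⟨g, hNR hg⟩) x ∈ H := by
      have h4 := characteristic_iff_le_comap.1 hHc (R.normalizerMonoidHom ⟨g, hNR hg⟩)
      exact h4 hx
    exact ⟨_, h3, rfl⟩
  · exact hCC (mem_inf.2 ⟨htR, centralizer_le hCR htc⟩)
  · intro x hx y hy
    have h3 := hHP (commutator_mem_commutator ((hmem (hCR hx)).2 hx) (mem_top ⟨y, hCR hy⟩))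
    rw [mem_inf] at h3
    have h4 := (hcent (x := ⁅x, y⁆) (by
      have := commutator_mem_commutator (hCR hx) (hCR hy)
      exact commutator_le_self R this)).1 h3.2
    exact h4
  · intro x hx
    have h3 := hpow ⟨x, hCR hx⟩ ((hmem (hCR hx)).2 hx)
    exact (hcent (pow_mem (hCR hx) 2)).1 h3
  · intro B hB hcop hBC
    have hBR : B ≤ normalizer (R : Set G) := hB.trans hNR
    have h3 : ⁅C, B⁆ = ⊥ := by
      rw [commutator_eq_bot_iff_le_centralizer]
      exact (le_centralizer_iff).1 hBC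
    have h4 : ⁅C, R⁆ ≤ C := by
      rw [commutator_le]
      intro x hx y hy
      have h5 := hHP (commutator_mem_commutator ((hmem (hCR hx)).2 hx) (mem_top ⟨y, hy⟩))
      rw [mem_inf] at h5
      exact ⟨_, h5.1, rfl⟩
    have h5 : ⁅⁅C, R⁆, B⁆ = ⊥ := by
      rw [eq_bot_iff, ← h3]
      exact commutator_mono h4 le_rfl
    have h6 : ⁅⁅B, C⁆, R⁆ = ⊥ := by
      rw [commutator_comm B C, h3, commutator_bot_left]
    have h7 : ⁅⁅R, B⁆, C⁆ = ⊥ := CoprimeAction2.commutator_commutator_eq_bot h6 h5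
    have h8 : ⁅R, B⁆ ≤ R := le_normalizer_iff_commutator_le_left.1 hBR
    have h9 : ⁅R, B⁆ ≤ C := by
      intro x hx
      apply hCC
      refine ⟨h8 hx, ?_⟩
      exact (commutator_eq_bot_iff_le_centralizer.1 h7) hx
    have hcop' : (Nat.card B).Coprime (Nat.card R) := by
      obtain ⟨n, hn⟩ := hRp.exists_card_eq
      rw [hn]
      exact Nat.Coprime.pow_right n hcop
    have h10 : ⁅R, B⁆ = ⊥ := by
      apply CoprimeAction2.commutator_eq_bot_of_commutator_commutator hBR hcop'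
      · exact Or.inr (by have := hRp.isNilpotent; infer_instance)
      · rw [eq_bot_iff, ← h3]
        exact commutator_mono h9 le_rfl
    apply eq_bot_of_centralizes h2 hTp hT1 (by rw [hN]; exact hB) hcop
    rw [commutator_eq_bot_iff_le_centralizer] at h10
    exact (le_centralizer_iff).1 h10

/-- The environment: `t` an involution, `A ≤ C(t)` elementary abelian of maximal order `N`. -/
structure Env (p N : ℕ) (t : G) (A C : Subgroup G) : Prop where
  ht1 : t ≠ 1
  ht2 : t ^ 2 = 1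
  hA : Cfsg.IsElementaryAbelian p A
  hAt : A ≤ centralizer {t}
  hcard : Nat.card A = N
  crit : Crit t C
  bd : ∀ (n : ℕ) (F V : Subgroup G), Cfsg.IsElementaryAbelian p F → Cfsg.IsElementaryAbelian 2 V →
      V ≤ centralizer (F : Set G) → F ≠ ⊥ → Nat.card V = 2 ^ (n + 1) →
      Nat.card F * p ^ n ≤ N

section

variable {p N : ℕ} [hp : Fact p.Prime] {t : G} {A C : Subgroup G}

theorem Env.center (hp2 : p ≠ 2) (e : Env p N t A C) {F₀ E : Subgroup G} (hF₀ : F₀ ≤ A)
    (hF₁ : F₀ ≠ ⊥) (hFc : Nat.card A ≤ p ^ 2 * Nat.card F₀)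
    (hE : Cfsg.IsElementaryAbelian 2 E) (hEF : E ≤ centralizer (F₀ : Set G))
    (hAE : A ≤ normalizer (E : Set G)) (htE : t ∈ E) : E ≤ zpowers t := by
  classical
  have hto : orderOf t = 2 := orderOf_eq_prime e.ht2 e.ht1
  have hf2 : Fact (Nat.Prime 2) := ⟨Nat.prime_two⟩
  have hE2 : IsPGroup 2 E := elemAb_isPGroup hE
  have hAp : IsPGroup p A := elemAb_isPGroup e.hA
  have hF₀e := elemAb_mono e.hA hF₀
  have hcz : Nat.card (zpowers t) = 2 := by rw [Nat.card_zpowers, hto]
  obtain ⟨n, hn⟩ := hE2.exists_card_eq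
  have hzE : zpowers t ≤ E := by rw [zpowers_le]; exact htE
  have hn0 : n ≠ 0 := by
    rintro rfl
    have := card_le_of_le hzE
    rw [hn, hcz] at this
    omega
  obtain ⟨n, rfl⟩ := Nat.exists_eq_succ_of_ne_zero hn0
  have h1 := e.bd n F₀ E hF₀e hE hEF hF₁ hn
  have hpos : 0 < Nat.card F₀ := Nat.card_pos
  have hn2 : n ≤ 2 := by
    rw [← e.hcard] at h1
    have h2 : Nat.card F₀ * p ^ n ≤ Nat.card F₀ * p ^ 2 := by
      calc _ ≤ Nat.card A := h1
        _ ≤ _ := by rw [mul_comm]; exact hFc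
    exact (Nat.pow_le_pow_iff_right hp.out.one_lt).1 (Nat.le_of_mul_le_mul_left h2 hpos)
  have heq : n = 0 → E ≤ zpowers t := by
    rintro rfl
    have : zpowers t = E := eq_of_le_of_card_ge hzE (by rw [hn, hcz]; norm_num)
    rw [this]
  by_contra hcon
  have hn0 : n ≠ 0 := fun h => hcon (heq h)
  -- the fixed points
  set X := E ⊓ centralizer (A : Set G) with hX
  have hmod := CriticalOdd.card_modEq_centralizer hAp hAE
  have hzX : zpowers t ≤ X := by
    rw [zpowers_le]
    refine mem_inf.2 ⟨htE, ?_⟩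
    rw [mem_centralizer_iff]
    intro x hx
    exact mem_centralizer_singleton_iff.1 (e.hAt hx)
  have hXE : X ≤ E := inf_le_left
  obtain ⟨m, hm⟩ := (hE2.to_le hXE).exists_card_eq
  have hm0 : m ≠ 0 := by
    rintro rfl
    have := card_le_of_le hzX
    rw [hm, hcz] at this
    omega
  obtain ⟨m, rfl⟩ := Nat.exists_eq_succ_of_ne_zero hm0
  have hA1 : A ≠ ⊥ := by
    rintro rfl
    exact hF₁ (le_bot_iff.1 hF₀)
  have hAfix : ¬ (E ≤ centralizer (A : Set G)) := by
    intro h3
    have h4 := e.bd n A E e.hA hE h3 hA1 hn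
    rw [e.hcard] at h4
    have hNpos : 0 < N := by rw [← e.hcard]; exact Nat.card_pos
    have h5 : N * p ^ n ≤ N * p ^ 0 := by simpa using h4
    have h6 := (Nat.pow_le_pow_iff_right hp.out.one_lt).1 (Nat.le_of_mul_le_mul_left h5 hNpos)
    omega
  have hmn : m < n := by
    have h3 : Nat.card X < Nat.card E := by
      by_contra h4
      have : X = E := eq_of_le_of_card_ge hXE (not_lt.1 h4)
      apply hAfix
      rw [← this]
      exact inf_le_right
    rw [hm, hn] at h3
    have := (Nat.pow_lt_pow_iff_right (by norm_num : 1 < 2)).1 h3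
    omega
  rw [hm, hn] at hmod
  -- p = 3, n = 2, m = 0
  have hkey : p = 3 ∧ n = 2 ∧ m = 0 := by
    have h3 : p ∣ 2 ^ (n + 1) - 2 ^ (m + 1) :=
      (Nat.modEq_iff_dvd' (Nat.pow_le_pow_right (by norm_num) (by omega))).1 hmod.symm
    have hpr := hp.out
    have hnd2 : ¬ p ∣ 2 := by
      intro h4
      exact hp2 ((Nat.prime_dvd_prime_iff_eq hpr Nat.prime_two).1 h4)
    have hcases : (n = 1 ∧ m = 0) ∨ (n = 2 ∧ m = 0) ∨ (n = 2 ∧ m = 1) := by omega
    rcases hcases with ⟨rfl, rfl⟩ | ⟨rfl, rfl⟩ | ⟨rfl, rfl⟩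
    · exfalso
      norm_num at h3
      exact hnd2 h3
    · norm_num at h3
      have h4 : p ∣ 2 * 3 := h3
      rcases (Nat.Prime.dvd_mul hpr).1 h4 with h5 | h5
      · exact absurd h5 hnd2
      · exact ⟨(Nat.prime_dvd_prime_iff_eq hpr Nat.prime_three).1 h5, rfl, rfl⟩
    · exfalso
      norm_num at h3
      have h4 : p ∣ 2 * 2 := h3
      rcases (Nat.Prime.dvd_mul hpr).1 h4 with h5 | h5 <;> exact hnd2 h5
  obtain ⟨hp3, hn2', hm0'⟩ := hkey
  subst hp3 hn2' hm0'
  obtain ⟨c, hcE, hcX⟩ := SetLike.not_le_iff_exists.1 (show ¬ E ≤ X from fun h3 => hAfix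
    (h3.trans inf_le_right))
  -- orbit of c
  let act : MulAction A E := MulAction.compHom E ((E.normalizerMonoidHom).comp (inclusion hAE))
  have hact : ∀ (a : A) (h : E), ((a • h : E) : G) = (a : G) * h * (a : G)⁻¹ := fun a h => rfl
  set c' : E := ⟨c, hcE⟩ with hc'
  have horb : Nat.card (MulAction.orbit A c') * Nat.card (MulAction.stabilizer A c') =
      Nat.card A := by
    rw [Nat.card_congr (MulAction.orbitEquivQuotientStabilizer A c')]
    exact (Subgroup.card_eq_card_quotient_mul_card_subgroup _).symm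
  set G₁ := A ⊓ centralizer {c} with hG₁
  have hstab : Nat.card (MulAction.stabilizer A c') = Nat.card G₁ := by
    refine Nat.card_congr ⟨fun x => ⟨x.1.1, x.1.2, ?_⟩, fun x => ⟨⟨x.1, x.2.1⟩, ?_⟩,
      fun x => rfl, fun x => rfl⟩
    · have h3 := x.2
      rw [MulAction.mem_stabilizer_iff] at h3
      have h4 : (x.1 : G) * c * (x.1 : G)⁻¹ = c := by
        rw [← hact x.1 c', h3]
      change (x.1 : G) ∈ centralizer {c}
      rw [mem_centralizer_singleton_iff]
      calc (x.1 : G) * c = (x.1 : G) * c * (x.1 : G)⁻¹ * x.1 := by group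
        _ = c * x.1 := by rw [h4]
    · rw [MulAction.mem_stabilizer_iff]
      apply Subtype.ext
      rw [hact]
      have h3 := mem_centralizer_singleton_iff.1 x.2.2
      change (x.1 : G) * c * (x.1 : G)⁻¹ = c
      rw [h3]; group
  have hG₁A : G₁ ≤ A := inf_le_left
  have hAle : Nat.card A ≤ 3 * Nat.card G₁ := by
    rw [hstab] at horb
    obtain ⟨k, hk⟩ := hAp.exists_card_eq
    have h3 : Nat.card (MulAction.orbit A c') ∣ 3 ^ k := by
      rw [← hk, ← horb]; exact dvd_mul_right _ _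
    obtain ⟨j, -, hj⟩ := (Nat.dvd_prime_pow Nat.prime_three).1 h3
    have h4 : Nat.card (MulAction.orbit A c') ≤ Nat.card E :=
      Nat.card_le_card_of_injective (fun x => x.1) Subtype.val_injective
    have h5 : j < 2 := by
      by_contra h6
      have h7 : 3 ^ 2 ≤ 3 ^ j := Nat.pow_le_pow_right (by norm_num) (not_lt.1 h6)
      rw [hj, hn] at h4
      norm_num at h4 h7
      omega
    rw [← horb, hj]
    apply Nat.mul_le_mul_right
    interval_cases j <;> norm_num
  have hF₀G : F₀ ≤ G₁ := by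
    refine le_inf hF₀ ?_
    intro x hx
    rw [mem_centralizer_singleton_iff]
    exact (mem_centralizer_iff.1 (hEF hcE) x hx)
  have hG₁1 : G₁ ≠ ⊥ := by
    intro h3
    rw [h3, le_bot_iff] at hF₀G
    exact hF₁ hF₀G
  have hmod1 := CriticalOdd.card_modEq_centralizer (hAp.to_le hG₁A) (hG₁A.trans hAE)
  set X₁ := E ⊓ centralizer (G₁ : Set G) with hX₁
  have hcX₁ : c ∈ X₁ := by
    refine mem_inf.2 ⟨hcE, ?_⟩
    rw [mem_centralizer_iff]
    intro x hx
    exact mem_centralizer_singleton_iff.1 hx.2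
  have htX₁ : zpowers t ≤ X₁ := by
    refine hzX.trans (inf_le_inf_left _ (centralizer_le hG₁A))
  have hcard4 : 4 ≤ Nat.card X₁ := by
    have h3 : zpowers t ⊔ zpowers c ≤ X₁ := sup_le htX₁ (by rw [zpowers_le]; exact hcX₁)
    have h4 : Nat.card (zpowers t ⊔ zpowers c : Subgroup G) = 2 * Nat.card (zpowers t) :=
      H31Gen.card_sup_zpowers hE hzE hcE (fun h5 => hcX (hzX h5))
    rw [hcz] at h4
    have := card_le_of_le h3
    omega
  have hX₁E : X₁ ≤ E := inf_le_left
  obtain ⟨j, hj⟩ := (hE2.to_le hX₁E).exists_card_eq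
  have hj3 : j ≤ 3 := by
    have h3 := card_le_of_le hX₁E
    rw [hj, hn] at h3
    exact (Nat.pow_le_pow_iff_right (by norm_num : 1 < 2)).1 h3
  have hj3' : j = 3 := by
    rw [hj] at hcard4
    rw [hj, hn] at hmod1
    interval_cases j
    · omega
    · omega
    · exfalso
      revert hmod1
      decide
    · rfl
  have hEG : E ≤ centralizer (G₁ : Set G) := by
    have : X₁ = E := eq_of_le_of_card_ge hX₁E (by rw [hj, hn, hj3'])
    rw [← this]
    exact inf_le_right
  have hfin := e.bd 2 G₁ E (elemAb_mono e.hA hG₁A) hE hEG hG₁1 hn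
  rw [← e.hcard] at hfin
  have : 0 < Nat.card G₁ := Nat.card_pos
  omega

end

end Cfsg.Agent.Lib.KMason
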