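import Cfsg.Agent.Lib.KMason2

/-!
Klinger–Mason: structure of `[C_C(F₁), A]` and existence of hyperplanes.
-/

set_option autoImplicit false

open Subgroup
open scoped commutatorElement

namespace Cfsg.Agent.Lib.KMason

open ThompsonJ

variable {G : Type*} [Group G] [Finite G]
variable {p N : ℕ} [hp : Fact p.Prime] {t : G} {A C : Subgroup G}

omit [Finite G] hp in
theorem Env.A_norm (e : Env p N t A C) : A ≤ normalizer (C : Set G) := e.hAt.trans e.crit.norm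

omit [Finite G] hp in
theorem Env.t_comm (e : Env p N t A C) {x : G} (hx : x ∈ C) : x * t = t * x :=
  mem_centralizer_singleton_iff.1 (e.crit.cent hx)

omit [Finite G] hp in
/-- `A` normalises `C ∩ C(F)` for `F ≤ A`. -/
theorem Env.norm_inf (e : Env p N t A C) {F : Subgroup G} (hF : F ≤ A) :
    A ≤ normalizer ((C ⊓ centralizer (F : Set G) : Subgroup G) : Set G) := by
  have hAc := H31Gen.elemAb_comm e.hA
  apply mem_normalizer_of
  intro g hg x hx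
  rw [mem_inf] at hx ⊢
  refine ⟨(mem_normalizer_iff.1 (e.A_norm hg) x).1 hx.1, ?_⟩
  rw [mem_centralizer_iff]
  intro f hf
  have h1 := mem_centralizer_iff.1 hx.2 f hf
  have h2 := hAc f (hF hf) g hg
  have h3 : f * g⁻¹ = g⁻¹ * f := by
    calc f * g⁻¹ = g⁻¹ * (g * f) * g⁻¹ := by group
      _ = g⁻¹ * f := by rw [← h2]; group
  calc f * (g * x * g⁻¹) = (f * g) * x * g⁻¹ := by group
    _ = g * (f * x) * g⁻¹ := by rw [h2]; group
    _ = g * x * (f * g⁻¹) := by rw [h1]; group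
    _ = g * x * g⁻¹ * f := by rw [h3]; group

/-- The centre part: `Z(C) ∩ C(F₀)`. -/
def WW (C F₀ : Subgroup G) : Subgroup G :=
  C ⊓ centralizer (C : Set G) ⊓ centralizer (F₀ : Set G)

omit [Finite G] in
theorem mem_WW {C F₀ : Subgroup G} {x : G} :
    x ∈ WW C F₀ ↔ x ∈ C ∧ x ∈ centralizer (C : Set G) ∧ x ∈ centralizer (F₀ : Set G) := by
  rw [WW, mem_inf, mem_inf, and_assoc]

omit [Finite G] in
theorem WW_comm {C F₀ : Subgroup G} : ∀ x ∈ WW C F₀, ∀ y ∈ WW C F₀, x * y = y * x := by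
  intro x hx y hy
  rw [mem_WW] at hx hy
  exact mem_centralizer_iff.1 hy.2.1 x hx.1

omit [Finite G] hp in
theorem Env.norm_WW (e : Env p N t A C) {F₀ : Subgroup G} (hF : F₀ ≤ A) :
    A ≤ normalizer (WW C F₀ : Set G) := by
  apply mem_normalizer_of
  intro g hg x hx
  rw [mem_WW] at hx ⊢
  have h1 := (mem_normalizer_iff.1 (e.norm_inf hF hg) x).1 (mem_inf.2 ⟨hx.1, hx.2.2⟩)
  rw [mem_inf] at h1
  refine ⟨h1.1, ?_, h1.2⟩
  rw [mem_centralizer_iff]
  intro c hc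
  have h2 : g⁻¹ * c * g ∈ C := by
    have := (mem_normalizer_iff.1 (e.A_norm (inv_mem hg)) c).1 hc
    simpa using this
  have h3 := mem_centralizer_iff.1 hx.2.1 _ h2
  calc c * (g * x * g⁻¹) = g * ((g⁻¹ * c * g) * x) * g⁻¹ := by group
    _ = g * x * g⁻¹ * c := by rw [h3]; group

theorem Env.WW_sq (hp2 : p ≠ 2) (e : Env p N t A C) {F₀ : Subgroup G} (hF₀ : F₀ ≤ A)
    (hF₁ : F₀ ≠ ⊥) (hFc : Nat.card A ≤ p ^ 2 * Nat.card F₀) {x : G} (hx : x ∈ WW C F₀)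
    (hx2 : x ^ 2 = 1) : x ∈ zpowers t := by
  have hcommW := WW_comm (C := C) (F₀ := F₀)
  -- the subgroup of elements of order ≤ 2
  let E : Subgroup G :=
    { carrier := {y | y ∈ WW C F₀ ∧ y ^ 2 = 1}
      one_mem' := ⟨one_mem _, one_pow 2⟩
      mul_mem' := by
        rintro a b ⟨ha, ha2⟩ ⟨hb, hb2⟩
        refine ⟨mul_mem ha hb, ?_⟩
        have : Commute a b := hcommW a ha b hb
        rw [this.mul_pow, ha2, hb2, one_mul]
      inv_mem' := by
        rintro a ⟨ha, ha2⟩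
        exact ⟨inv_mem ha, by rw [inv_pow, ha2, inv_one]⟩ }
  have hmemE : ∀ y, y ∈ E ↔ y ∈ WW C F₀ ∧ y ^ 2 = 1 := fun y => Iff.rfl
  have hE : Cfsg.IsElementaryAbelian 2 E := by
    rw [elemAb_iff]
    refine ⟨?_, fun a ha => ha.2⟩
    intro a ha
    rw [mem_centralizer_iff]
    intro b hb
    exact hcommW b hb.1 a ha.1
  have htW : t ∈ WW C F₀ := by
    rw [mem_WW]
    refine ⟨e.crit.mem, ?_, ?_⟩
    · rw [mem_centralizer_iff]
      intro c hc
      exact e.t_comm hc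
    · rw [mem_centralizer_iff]
      intro c hc
      exact mem_centralizer_singleton_iff.1 (e.hAt (hF₀ hc))
  refine e.center hp2 hF₀ hF₁ hFc hE ?_ ?_ ⟨htW, e.ht2⟩ ⟨hx, hx2⟩
  · intro y hy
    exact (mem_WW.1 hy.1).2.2
  · apply mem_normalizer_of
    intro g hg y hy
    refine ⟨(mem_normalizer_iff.1 (e.norm_WW hF₀ hg) y).1 hy.1, ?_⟩
    rw [conj_pow, hy.2]; group

theorem Env.cop (hp2 : p ≠ 2) (e : Env p N t A C) {K : Subgroup G} (hK : K ≤ C) :
    (Nat.card A).Coprime (Nat.card K) := by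
  have h2 : Fact (Nat.Prime 2) := ⟨Nat.prime_two⟩
  exact coprime_of_pgroups hp2 (elemAb_isPGroup e.hA) (e.crit.p2.to_le hK)

/-- `A` centralises `Z(C) ∩ C(F₀)`. -/
theorem Env.WW_central (hp2 : p ≠ 2) (e : Env p N t A C) {F₀ : Subgroup G} (hF₀ : F₀ ≤ A)
    (hF₁ : F₀ ≠ ⊥) (hFc : Nat.card A ≤ p ^ 2 * Nat.card F₀) :
    A ≤ centralizer (WW C F₀ : Set G) := by
  have hWC : WW C F₀ ≤ C := fun x hx => (mem_WW.1 hx).1
  have hcomm : IsMulCommutative (WW C F₀) := isMulCommutative_iff_of_setLike.2 WW_comm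
  apply CoprimeAction2.le_centralizer_of_prime_order (e.norm_WW hF₀) (e.cop hp2 hWC)
  intro v hv hvp a ha
  have hW2 : IsPGroup 2 (WW C F₀) := e.crit.p2.to_le hWC
  obtain ⟨k, hk⟩ := (IsPGroup.iff_orderOf.1 hW2) ⟨v, hv⟩
  rw [← Subgroup.orderOf_coe] at hk
  have hk' : orderOf v = 2 ^ k := hk
  have hv2 : orderOf v = 2 := by
    have h1 : orderOf v ∣ 2 ^ k := by rw [hk']
    exact (Nat.prime_dvd_prime_iff_eq hvp Nat.prime_two).1 (hvp.dvd_of_dvd_pow h1)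
  have hvt : v ∈ zpowers t := e.WW_sq hp2 hF₀ hF₁ hFc hv
    (by rw [← orderOf_dvd_iff_pow_eq_one, hv2])
  obtain ⟨m, rfl⟩ := hvt
  have hat := mem_centralizer_singleton_iff.1 (e.hAt ha)
  exact (Commute.zpow_right (show Commute a t from hat) m)

/-- data of a pair `F₀ ≤ A` with `F₀ ≠ 1` of corank at most `2`. -/
structure Co (p : ℕ) (A F₀ : Subgroup G) : Prop where
  le : F₀ ≤ A
  ne : F₀ ≠ ⊥
  card : Nat.card A ≤ p ^ 2 * Nat.card F₀

theorem Env.comm_mem (hp2 : p ≠ 2) (e : Env p N t A C) {F₀ : Subgroup G} (hF : Co p A F₀)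
    {x y : G} (hx : x ∈ C ⊓ centralizer (F₀ : Set G)) (hy : y ∈ C ⊓ centralizer (F₀ : Set G)) :
    ⁅x, y⁆ ∈ WW C F₀ ∧ ⁅x, y⁆ ∈ zpowers t := by
  rw [mem_inf] at hx hy
  have hW : ⁅x, y⁆ ∈ WW C F₀ := by
    rw [mem_WW]
    refine ⟨?_, e.crit.cl x hx.1 y hy.1, ?_⟩
    · rw [commutatorElement_def]
      exact mul_mem (mul_mem (mul_mem hx.1 hy.1) (inv_mem hx.1)) (inv_mem hy.1)
    · rw [commutatorElement_def]
      exact mul_mem (mul_mem (mul_mem hx.2 hy.2) (inv_mem hx.2)) (inv_mem hy.2)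
  refine ⟨hW, e.WW_sq hp2 hF.le hF.ne hF.card hW ?_⟩
  set c := ⁅x, y⁆ with hc
  have hcx : x * c = c * x := mem_centralizer_iff.1 (mem_WW.1 hW).2.1 x hx.1
  have hxy : x * y * x⁻¹ = c * y := by rw [hc, commutatorElement_def]; group
  have hx2 : y * x ^ 2 = x ^ 2 * y := mem_centralizer_iff.1 (e.crit.sq x hx.1) y hy.1
  have h1 : x ^ 2 * y * (x ^ 2)⁻¹ = c ^ 2 * y := by
    calc x ^ 2 * y * (x ^ 2)⁻¹ = x * (x * y * x⁻¹) * x⁻¹ := by rw [sq]; group
      _ = (x * c) * y * x⁻¹ := by rw [hxy]; group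
      _ = c * (x * y * x⁻¹) := by rw [hcx]; group
      _ = c ^ 2 * y := by rw [hxy, sq]; group
  rw [← hx2] at h1
  have h2 : y * x ^ 2 * (x ^ 2)⁻¹ = y := by group
  rw [h2] at h1
  have h3 : c ^ 2 * y = 1 * y := by rw [← h1, one_mul]
  exact mul_right_cancel h3

/-- `D(F) = [C ∩ C(F), A]`. -/
def DD (A C F : Subgroup G) : Subgroup G := ⁅C ⊓ centralizer (F : Set G), A⁆

omit [Finite G] hp in
theorem Env.DD_le (e : Env p N t A C) {F : Subgroup G} (hF : F ≤ A) :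
    DD A C F ≤ C ⊓ centralizer (F : Set G) :=
  le_normalizer_iff_commutator_le_left.1 (e.norm_inf hF)

omit [Finite G] hp in
theorem Env.norm_DD (A C F : Subgroup G) : A ≤ normalizer (DD A C F : Set G) :=
  normalizer_commutator_ge_right _ _

theorem Env.DD_comm (hp2 : p ≠ 2) (e : Env p N t A C) {F : Subgroup G} (hF : F ≤ A) :
    ⁅DD A C F, A⁆ = DD A C F :=
  CoprimeAction2.commutator_commutator (e.norm_inf hF) (e.cop hp2 inf_le_left)
    (Or.inl (by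
      have := (elemAb_isPGroup e.hA).isNilpotent
      infer_instance))

/-- squares of elements of `D(F)` lie in `⟨t⟩`. -/
theorem Env.DD_sq (hp2 : p ≠ 2) (e : Env p N t A C) {F₀ F : Subgroup G} (hF₀ : Co p A F₀)
    (hFA : F ≤ A) (hFF : F₀ ≤ F) {d : G} (hd : d ∈ DD A C F) : d ^ 2 ∈ zpowers t := by
  have hle := e.DD_le hFA
  have hle0 : DD A C F ≤ C ⊓ centralizer (F₀ : Set G) :=
    hle.trans (inf_le_inf_left _ (centralizer_le hFF))
  have hAW := e.WW_central hp2 hF₀.le hF₀.ne hF₀.card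
  have htc : ∀ x ∈ C, ∀ z ∈ zpowers t, x * z = z * x := by
    rintro x hx _ ⟨m, rfl⟩
    exact Commute.zpow_right (show Commute x t from e.t_comm hx) m
  have key : ∀ z ∈ ⁅DD A C F, A⁆, z ∈ DD A C F ∧ z ^ 2 ∈ zpowers t := by
    intro z hz
    rw [Subgroup.commutator_def] at hz
    induction hz using closure_induction with
    | mem z hz =>
      obtain ⟨x, hx, g, hg, rfl⟩ := hz
      have hxi : g * x⁻¹ * g⁻¹ ∈ DD A C F :=
        (mem_normalizer_iff.1 (Env.norm_DD A C F hg) _).1 (inv_mem hx)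
      have hcx : ⁅x, g⁆ = x * (g * x⁻¹ * g⁻¹) := by rw [commutatorElement_def]; group
      have hmem : ⁅x, g⁆ ∈ DD A C F := by rw [hcx]; exact mul_mem hx hxi
      refine ⟨hmem, ?_⟩
      set x' := g * x⁻¹ * g⁻¹ with hx'
      -- x ^ 2 is centralised by A
      have hx2W : x ^ 2 ∈ WW C F₀ := by
        rw [mem_WW]
        have h1 := mem_inf.1 (hle0 hx)
        exact ⟨pow_mem h1.1 2, e.crit.sq x h1.1, pow_mem h1.2 2⟩
      have hgx : g * x ^ 2 = x ^ 2 * g := ((mem_centralizer_iff.1 (hAW hg)) _ hx2W).symm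
      have hx'2 : x' ^ 2 = (x ^ 2)⁻¹ := by
        rw [hx', conj_pow]
        have h1 : g * (x ^ 2)⁻¹ * g⁻¹ = (x ^ 2)⁻¹ := by
          calc g * (x ^ 2)⁻¹ * g⁻¹ = (g * x ^ 2 * g⁻¹)⁻¹ := by group
            _ = (x ^ 2)⁻¹ := by rw [hgx]; group
        rw [inv_pow]
        exact h1
      have hcm := (e.comm_mem hp2 hF₀ (inv_mem (hle0 hx)) (hle0 hxi)).2
      set z := ⁅x⁻¹, x'⁆ with hz
      rw [hcx, sq]
      have h1 : x * x' * (x * x') = x * x * z * (x' * x') := by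
        rw [hz, commutatorElement_def]; group
      have hzx : x * x * z = z * (x * x) :=
        htc _ (mul_mem (mem_inf.1 (hle0 hx)).1 (mem_inf.1 (hle0 hx)).1) z hcm
      rw [h1, hzx, ← sq x, ← sq x', hx'2]
      simpa [mul_assoc] using hcm
    | one => exact ⟨one_mem _, by rw [one_pow]; exact one_mem _⟩
    | mul u v _ _ hu hv =>
      refine ⟨mul_mem hu.1 hv.1, ?_⟩
      have hcm := (e.comm_mem hp2 hF₀ (inv_mem (hle0 hu.1)) (hle0 hv.1)).2
      have h1 : (u * v) ^ 2 = u ^ 2 * ⁅u⁻¹, v⁆ * v ^ 2 := by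
        rw [commutatorElement_def, sq, sq, sq]; group
      rw [h1]
      exact mul_mem (mul_mem hu.2 hcm) hv.2
    | inv u _ hu =>
      refine ⟨inv_mem hu.1, ?_⟩
      rw [inv_pow]
      exact inv_mem hu.2
  rw [← e.DD_comm hp2 hFA] at hd
  exact (key d hd).2

/-- `C_{D(F)}(A) ≤ ⟨t⟩`. -/
theorem Env.DD_fix (hp2 : p ≠ 2) (e : Env p N t A C) {F₀ F : Subgroup G} (hF₀ : Co p A F₀)
    (hFA : F ≤ A) (hFF : F₀ ≤ F) {d : G} (hd : d ∈ DD A C F)
    (hdA : d ∈ centralizer (A : Set G)) : d ∈ zpowers t := by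
  have hle := e.DD_le hFA
  have hle0 : DD A C F ≤ C ⊓ centralizer (F₀ : Set G) :=
    hle.trans (inf_le_inf_left _ (centralizer_le hFF))
  have h1 := BG03Crit.inf_centralizer_le_commutator (Env.norm_DD A C F)
    (e.cop hp2 (hle.trans inf_le_left)) (e.DD_comm hp2 hFA).ge (mem_inf.2 ⟨hd, hdA⟩)
  have h2 : ⁅DD A C F, DD A C F⁆ ≤ zpowers t := by
    rw [commutator_le]
    intro x hx y hy
    exact (e.comm_mem hp2 hF₀ (hle0 hx) (hle0 hy)).2
  exact h2 h1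

/-- `C ∩ C(F₁)` and `D(F₂)` commute. -/
theorem Env.DD_commute (hp2 : p ≠ 2) (e : Env p N t A C) {F₀ F₁ F₂ : Subgroup G}
    (hF₀ : Co p A F₀) (h1A : F₁ ≤ A) (h2A : F₂ ≤ A) (h01 : F₀ ≤ F₁) (h02 : F₀ ≤ F₂)
    (h12 : A ≤ F₁ ⊔ F₂) : C ⊓ centralizer (F₁ : Set G) ≤ centralizer (DD A C F₂ : Set G) := by
  have hAW := e.WW_central hp2 hF₀.le hF₀.ne hF₀.card
  intro x hx
  have hx0 : x ∈ C ⊓ centralizer (F₀ : Set G) := inf_le_inf_left _ (centralizer_le h01) hx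
  have : DD A C F₂ ≤ centralizer {x} := by
    rw [DD, commutator_le]
    intro k hk g hg
    have hk0 : k ∈ C ⊓ centralizer (F₀ : Set G) := inf_le_inf_left _ (centralizer_le h02) hk
    -- write g = g₁ g₂
    have hg' : g ∈ F₁ ⊔ F₂ := h12 hg
    have hn : F₁ ≤ normalizer (F₂ : Set G) := h1A.trans (H31Gen.le_normalizer_of_elemAb e.hA h2A)
    rw [← SetLike.mem_coe, coe_mul_of_left_le_normalizer_right _ _ hn] at hg'
    obtain ⟨g₁, hg₁, g₂, hg₂, rfl⟩ := Set.mem_mul.1 hg'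
    have hkg₂ : g₂ * k⁻¹ * g₂⁻¹ = k⁻¹ := by
      have h3 := mem_centralizer_iff.1 (mem_inf.1 (inv_mem hk)).2 g₂ hg₂
      rw [h3]; group
    have hcg : ⁅k, g₁ * g₂⁆ = k * (g₁ * k⁻¹ * g₁⁻¹) := by
      rw [commutatorElement_def]
      calc k * (g₁ * g₂) * k⁻¹ * (g₁ * g₂)⁻¹ = k * (g₁ * (g₂ * k⁻¹ * g₂⁻¹) * g₁⁻¹) := by group
        _ = _ := by rw [hkg₂]
    set k' := g₁ * k * g₁⁻¹ with hk'
    have hk'C : k' ∈ C ⊓ centralizer (F₂ : Set G) :=
      (mem_normalizer_iff.1 (e.norm_inf h2A (h1A hg₁)) k).1 hk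
    have hk'0 : k' ∈ C ⊓ centralizer (F₀ : Set G) :=
      inf_le_inf_left _ (centralizer_le h02) hk'C
    have hxg : g₁ * x * g₁⁻¹ = x := by
      have h3 := mem_centralizer_iff.1 (mem_inf.1 hx).2 g₁ hg₁
      rw [h3]; group
    -- [x,k] = [x,k']
    have hxk := (e.comm_mem hp2 hF₀ hx0 hk0).1
    have h3 : ⁅x, k'⁆ = ⁅x, k⁆ := by
      have h4 : g₁ * ⁅x, k⁆ * g₁⁻¹ = ⁅x, k⁆ := by
        have h5 := mem_centralizer_iff.1 (hAW (h1A hg₁)) _ hxk
        rw [← h5]; group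
      rw [← h4]
      calc ⁅x, k'⁆ = ⁅g₁ * x * g₁⁻¹, g₁ * k * g₁⁻¹⁆ := by rw [hxg]
        _ = g₁ * ⁅x, k⁆ * g₁⁻¹ := by rw [commutatorElement_def, commutatorElement_def]; group
    -- x commutes with u = k'⁻¹ k
    set u := k'⁻¹ * k with hu
    have huC : u ∈ C := mul_mem (inv_mem (mem_inf.1 hk'C).1) (mem_inf.1 hk).1
    have hux : Commute u x := by
      rw [commutatorElement_def, commutatorElement_def] at h3
      have h5 : k' * x⁻¹ * k'⁻¹ = k * x⁻¹ * k⁻¹ := by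
        have h6 : x * (k' * x⁻¹ * k'⁻¹) = x * (k * x⁻¹ * k⁻¹) := by
          calc _ = x * k' * x⁻¹ * k'⁻¹ := by group
            _ = x * k * x⁻¹ * k⁻¹ := h3
            _ = _ := by group
        exact mul_left_cancel h6
      have h7 : Commute u x⁻¹ := by
        change u * x⁻¹ = x⁻¹ * u
        calc u * x⁻¹ = k'⁻¹ * (k * x⁻¹ * k⁻¹) * k := by rw [hu]; group
          _ = x⁻¹ * u := by rw [← h5, hu]; group
      simpa using h7.inv_right
    -- conjugate by k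
    have hc : ⁅u⁻¹, k⁆ * x = x * ⁅u⁻¹, k⁆ :=
      ((mem_centralizer_iff.1 (e.crit.cl u⁻¹ (inv_mem huC) k (mem_inf.1 hk).1)) x
        (mem_inf.1 hx).1).symm
    have hfin : ⁅k, g₁ * g₂⁆ = u * ⁅u⁻¹, k⁆ := by
      rw [hcg, hu, hk', commutatorElement_def]; group
    rw [mem_centralizer_singleton_iff, hfin]
    calc u * ⁅u⁻¹, k⁆ * x = u * (⁅u⁻¹, k⁆ * x) := by group
      _ = (u * x) * ⁅u⁻¹, k⁆ := by rw [hc]; group
      _ = x * (u * ⁅u⁻¹, k⁆) := by rw [hux.eq]; group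
  rw [mem_centralizer_iff]
  intro z hz
  exact mem_centralizer_singleton_iff.1 (this hz)

end Cfsg.Agent.Lib.KMason
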