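import Cfsg.Agent.Lib.KMason3

/-!
Klinger–Mason: the main argument.
-/

set_option autoImplicit false

open Subgroup
open scoped commutatorElement

namespace Cfsg.Agent.Lib.KMason

open ThompsonJ

variable {G : Type*} [Group G] [Finite G]
variable {p N : ℕ} [hp : Fact p.Prime] {t : G} {A C : Subgroup G}

omit [Finite G] in
theorem mem_zpowers_two {t x : G} (ht2 : t ^ 2 = 1) : x ∈ zpowers t ↔ x = 1 ∨ x = t := by
  constructor
  · rintro ⟨k, rfl⟩
    rcases Int.even_or_odd' k with ⟨m, hm | hm⟩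
    · left
      change t ^ k = 1
      rw [hm, zpow_mul, zpow_ofNat, ht2, one_zpow]
    · right
      change t ^ k = t
      rw [hm, zpow_add, zpow_mul, zpow_ofNat, ht2, one_zpow, one_mul, zpow_one]
  · rintro (rfl | rfl)
    · exact one_mem _
    · exact mem_zpowers _

theorem Env.exists_hyp (hp2 : p ≠ 2) (e : Env p N t A C) {y : G} (hy : y ∈ A) (hy1 : y ≠ 1) :
    ∃ F ≤ A, Nat.card A = p * Nat.card F ∧ y ∉ F ∧
      ¬ (C ⊓ centralizer (F : Set G) ≤ centralizer (A : Set G)) := by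
  by_contra hcon
  push Not at hcon
  have hgen := H31Gen.le_iSup_hyperplane (p := p) (Nat.card A) A C rfl e.hA e.A_norm
    (e.cop hp2 le_rfl)
  have hCy : C ≤ centralizer {y} := by
    refine hgen.trans (iSup_le ?_)
    rintro ⟨F, hF, hFc⟩
    change C ⊓ centralizer (F : Set G) ≤ centralizer {y}
    intro x hx
    rw [mem_centralizer_singleton_iff]
    by_cases hyF : y ∈ F
    · exact (mem_centralizer_iff.1 hx.2 y hyF).symm
    · have hcard : Nat.card A = p * Nat.card F := by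
        apply le_antisymm hFc
        rw [← H31Gen.card_sup_zpowers e.hA hF hy hyF]
        exact card_le_of_le (sup_le hF (zpowers_le.2 hy))
      exact (mem_centralizer_iff.1 (hcon F hF hcard hyF hx) y hy).symm
  have h1 : zpowers y = ⊥ := by
    apply e.crit.faithful
    · rw [zpowers_le]; exact e.hAt hy
    · exact coprime_of_pgroup' (p := p) (q := 2) (hq := ⟨Nat.prime_two⟩) hp2
        ((elemAb_isPGroup e.hA).to_le (zpowers_le.2 hy))
    · rw [zpowers_le, mem_centralizer_iff]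
      intro c hc
      exact mem_centralizer_singleton_iff.1 (hCy hc)
  exact hy1 (zpowers_eq_bot.1 h1)

omit [Finite G] hp in
theorem Env.zp_central (e : Env p N t A C) : zpowers t ≤ centralizer (A : Set G) := by
  rw [zpowers_le, mem_centralizer_iff]
  intro a ha
  exact mem_centralizer_singleton_iff.1 (e.hAt ha)

/-- `D(F)` is not contained in `⟨t⟩`. -/
theorem Env.DD_ne (hp2 : p ≠ 2) (e : Env p N t A C) {F : Subgroup G} (hF : F ≤ A)
    (h : ¬ (C ⊓ centralizer (F : Set G) ≤ centralizer (A : Set G))) :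
    ∃ d ∈ DD A C F, d ∉ zpowers t := by
  by_contra hcon
  push Not at hcon
  apply h
  have h1 : ⁅DD A C F, A⁆ = ⊥ := by
    rw [commutator_eq_bot_iff_le_centralizer]
    intro d hd
    exact e.zp_central (hcon d hd)
  rw [e.DD_comm hp2 hF, DD, commutator_eq_bot_iff_le_centralizer] at h1
  exact h1

/-- either `D(F)` contains an involution outside `⟨t⟩` or elements as in `Q_8`. -/
theorem Env.DD_cases (hp2 : p ≠ 2) (e : Env p N t A C) {F₀ F : Subgroup G} (hF₀ : Co p A F₀)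
    (hFA : F ≤ A) (hFF : F₀ ≤ F)
    (h : ¬ (C ⊓ centralizer (F : Set G) ≤ centralizer (A : Set G))) :
    (∃ u ∈ DD A C F, u ^ 2 = 1 ∧ u ∉ zpowers t) ∨
      (∃ d ∈ DD A C F, ∃ f ∈ DD A C F, d ^ 2 = t ∧ f ^ 2 = t ∧ d * f = t * (f * d)) := by
  by_cases hu : ∃ u ∈ DD A C F, u ^ 2 = 1 ∧ u ∉ zpowers t
  · exact Or.inl hu
  right
  push Not at hu
  have hle0 : DD A C F ≤ C ⊓ centralizer (F₀ : Set G) :=
    (e.DD_le hFA).trans (inf_le_inf_left _ (centralizer_le hFF))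
  have hDC : DD A C F ≤ C := hle0.trans inf_le_left
  -- D is not abelian
  have hna : ¬ ∀ x ∈ DD A C F, ∀ y ∈ DD A C F, x * y = y * x := by
    intro hab
    have hcomm : IsMulCommutative (DD A C F) := isMulCommutative_iff_of_setLike.2 hab
    have h1 : A ≤ centralizer (DD A C F : Set G) := by
      apply CoprimeAction2.le_centralizer_of_prime_order (Env.norm_DD A C F) (e.cop hp2 hDC)
      intro v hv hvp a ha
      have hW2 : IsPGroup 2 (DD A C F) := e.crit.p2.to_le hDC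
      obtain ⟨k, hk⟩ := (IsPGroup.iff_orderOf.1 hW2) ⟨v, hv⟩
      rw [← Subgroup.orderOf_coe] at hk
      have hk' : orderOf v = 2 ^ k := hk
      have hv2 : orderOf v = 2 := by
        have h1 : orderOf v ∣ 2 ^ k := by rw [hk']
        exact (Nat.prime_dvd_prime_iff_eq hvp Nat.prime_two).1 (hvp.dvd_of_dvd_pow h1)
      have hvt : v ∈ zpowers t := hu v hv (by rw [← orderOf_dvd_iff_pow_eq_one, hv2])
      exact mem_centralizer_iff.1 (e.zp_central hvt) a ha
    have h2 : ⁅DD A C F, A⁆ = ⊥ := by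
      rw [commutator_eq_bot_iff_le_centralizer]
      exact (le_centralizer_iff).1 h1
    rw [e.DD_comm hp2 hFA, DD, commutator_eq_bot_iff_le_centralizer] at h2
    exact h h2
  push Not at hna
  obtain ⟨d, hd, f, hf, hdf⟩ := hna
  have hc := (e.comm_mem hp2 hF₀ (hle0 hd) (hle0 hf)).2
  rw [mem_zpowers_two e.ht2] at hc
  have hcne : ⁅d, f⁆ ≠ 1 := by
    rw [Ne, commutatorElement_eq_one_iff_mul_comm]
    exact hdf
  have hct : ⁅d, f⁆ = t := hc.resolve_left hcne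
  have hsq : ∀ x ∈ DD A C F, (∃ y ∈ DD A C F, x * y ≠ y * x) → x ^ 2 = t := by
    rintro x hx ⟨y, hy, hxy⟩
    have h1 := e.DD_sq hp2 hF₀ hFA hFF hx
    rw [mem_zpowers_two e.ht2] at h1
    rcases h1 with h1 | h1
    · exfalso
      have h2 := hu x hx h1
      rw [mem_zpowers_two e.ht2] at h2
      rcases h2 with rfl | rfl
      · exact hxy (by group)
      · exact hxy (e.t_comm (hDC hy)).symm
    · exact h1
  refine ⟨d, hd, f, hf, hsq d hd ⟨f, hf, hdf⟩, hsq f hf ⟨d, hd, fun h3 => hdf h3.symm⟩, ?_⟩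
  rw [← hct, commutatorElement_def]; group

omit [Finite G] in
theorem ne_bot_of_card {F : Subgroup G} (h : 1 < Nat.card F) : F ≠ ⊥ := by
  rintro rfl
  rw [card_bot] at h
  exact lt_irrefl _ h

omit hp in
theorem card_inf_of_hyp (e : Env p N t A C) {F₁ F₂ : Subgroup G} (h1 : F₁ ≤ A) (h2 : F₂ ≤ A)
    (hc1 : Nat.card A = p * Nat.card F₁) (hc2 : Nat.card A = p * Nat.card F₂)
    (h12 : A ≤ F₁ ⊔ F₂) : Nat.card A = p ^ 2 * Nat.card (F₁ ⊓ F₂ : Subgroup G) := by
  have hA : F₁ ⊔ F₂ = A := le_antisymm (sup_le h1 h2) h12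
  have h3 := SubgroupTools.card_sup_mul_card_inf (N := F₁) (H := F₂)
    (h2.trans (H31Gen.le_normalizer_of_elemAb e.hA h1))
  rw [hA] at h3
  have hpos : 0 < Nat.card A := Nat.card_pos
  have h4 : Nat.card A * (p ^ 2 * Nat.card (F₁ ⊓ F₂ : Subgroup G)) = Nat.card A * Nat.card A := by
    calc _ = p ^ 2 * (Nat.card A * Nat.card (F₁ ⊓ F₂ : Subgroup G)) := by ring
      _ = (p * Nat.card F₁) * (p * Nat.card F₂) := by rw [h3]; ring
      _ = Nat.card A * Nat.card A := by rw [← hc1, ← hc2]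
  exact (Nat.eq_of_mul_eq_mul_left hpos h4).symm

theorem Env.exists_pair (hp2 : p ≠ 2) (hCp : CharType p G) (e : Env p N t A C) (hN : p ^ 3 ≤ N) :
    ∃ F V : Subgroup G, Cfsg.IsElementaryAbelian p F ∧ Cfsg.IsElementaryAbelian 2 V ∧
      V ≤ centralizer (F : Set G) ∧ p * Nat.card F = N ∧ Nat.card V = 4 := by
  have h2p : Fact (Nat.Prime 2) := ⟨Nat.prime_two⟩
  have hp1 := hp.out.one_lt
  have hppos := hp.out.pos
  have hAc := e.hcard
  have hA1 : A ≠ ⊥ := ne_bot_of_card (by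
    rw [hAc]
    exact lt_of_lt_of_le (Nat.one_lt_pow (by norm_num) hp1) hN)
  obtain ⟨⟨y, hy⟩, hy1⟩ := (A.ne_bot_iff_exists_ne_one).1 hA1
  obtain ⟨F₁, hF₁, hc₁, -, hn₁⟩ := e.exists_hyp hp2 hy (fun h => hy1 (Subtype.ext h))
  have hF₁1 : F₁ ≠ ⊥ := ne_bot_of_card (by
    by_contra h3
    have h4 : Nat.card F₁ ≤ 1 := not_lt.1 h3
    have h5 : p * Nat.card F₁ ≤ p := by
      calc _ ≤ p * 1 := Nat.mul_le_mul_left p h4
        _ = p := mul_one p
    rw [← hc₁, hAc] at h5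
    have h6 : p ^ 1 < p ^ 3 := Nat.pow_lt_pow_right hp1 (by norm_num)
    rw [pow_one] at h6
    omega)
  obtain ⟨⟨y₁, hy₁⟩, hy₁1⟩ := (F₁.ne_bot_iff_exists_ne_one).1 hF₁1
  obtain ⟨F₂, hF₂, hc₂, hy₁F₂, hn₂⟩ := e.exists_hyp hp2 (hF₁ hy₁) (fun h => hy₁1 (Subtype.ext h))
  have hsup : A ≤ F₁ ⊔ F₂ := by
    have h3 : F₂ ⊔ zpowers y₁ = A := by
      apply eq_of_le_of_card_ge (sup_le hF₂ (zpowers_le.2 (hF₁ hy₁)))
      rw [H31Gen.card_sup_zpowers e.hA hF₂ (hF₁ hy₁) hy₁F₂, hc₂]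
    rw [← h3]
    exact sup_le le_sup_right ((zpowers_le.2 hy₁).trans le_sup_left)
  set F₀ := F₁ ⊓ F₂ with hF₀
  have hcF₀ : Nat.card A = p ^ 2 * Nat.card F₀ := card_inf_of_hyp e hF₁ hF₂ hc₁ hc₂ hsup
  have hF₀1 : F₀ ≠ ⊥ := by
    intro h3
    rw [h3, card_bot, mul_one, hAc] at hcF₀
    have h6 : p ^ 2 < p ^ 3 := Nat.pow_lt_pow_right hp1 (by norm_num)
    omega
  have hCo : Co p A F₀ := ⟨inf_le_left.trans hF₁, hF₀1, hcF₀.le⟩
  have h01 : F₀ ≤ F₁ := inf_le_left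
  have h02 : F₀ ≤ F₂ := inf_le_right
  have hto : orderOf t = 2 := orderOf_eq_prime e.ht2 e.ht1
  have hzel : Cfsg.IsElementaryAbelian 2 (zpowers t) := elemAb_zpowers e.ht2
  have hzc : Nat.card (zpowers t) = 2 := by rw [Nat.card_zpowers, hto]
  -- four-group case
  have hfour : ∀ F : Subgroup G, F ≤ A → Nat.card A = p * Nat.card F →
      (∃ u ∈ DD A C F, u ^ 2 = 1 ∧ u ∉ zpowers t) →
      ∃ F V : Subgroup G, Cfsg.IsElementaryAbelian p F ∧ Cfsg.IsElementaryAbelian 2 V ∧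
      V ≤ centralizer (F : Set G) ∧ p * Nat.card F = N ∧ Nat.card V = 4 := by
    rintro F hF hFc ⟨u, hu, hu2, hut⟩
    have huF := mem_inf.1 (e.DD_le hF hu)
    have huz : u ∈ centralizer (zpowers t : Set G) := by
      have : zpowers t ≤ centralizer {u} := by
        rw [zpowers_le, mem_centralizer_singleton_iff]
        exact (e.t_comm huF.1).symm
      rw [mem_centralizer_iff]
      intro z hz
      exact mem_centralizer_singleton_iff.1 (this hz)
    refine ⟨F, zpowers t ⊔ zpowers u, elemAb_mono e.hA hF, elemAb_adjoin hzel huz hu2, ?_, ?_, ?_⟩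
    · apply sup_le
      · exact e.zp_central.trans (centralizer_le hF)
      · rw [zpowers_le]; exact huF.2
    · rw [← hFc, hAc]
    · rw [card_adjoin hzel huz hu2 hut, hzc]
  rcases e.DD_cases hp2 hCo hF₁ h01 hn₁ with h3 | ⟨d₁, hd₁, e₁, he₁, hd₁2, he₁2, hde₁⟩
  · exact hfour F₁ hF₁ hc₁ h3
  rcases e.DD_cases hp2 hCo hF₂ h02 hn₂ with h3 | ⟨d₂, hd₂, e₂, he₂, hd₂2, he₂2, hde₂⟩
  · exact hfour F₂ hF₂ hc₂ h3
  -- quaternion case
  have hcomm : ∀ x ∈ DD A C F₁, ∀ y ∈ DD A C F₂, x * y = y * x := by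
    intro x hx y hy
    exact (mem_centralizer_iff.1
      (e.DD_commute hp2 hCo hF₁ hF₂ h01 h02 hsup (e.DD_le hF₁ hx)) y hy).symm
  have hinter : ∀ x, x ∈ DD A C F₁ → x ∈ centralizer (F₂ : Set G) → x ∈ zpowers t := by
    intro x hx hx2
    apply e.DD_fix hp2 hCo hF₁ h01 hx
    have h3 : F₁ ⊔ F₂ ≤ centralizer {x} := by
      apply sup_le
      · intro z hz
        exact mem_centralizer_singleton_iff.2
          (mem_centralizer_iff.1 (mem_inf.1 (e.DD_le hF₁ hx)).2 z hz)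
      · intro z hz
        exact mem_centralizer_singleton_iff.2 (mem_centralizer_iff.1 hx2 z hz)
    rw [mem_centralizer_iff]
    intro a ha
    exact mem_centralizer_singleton_iff.1 (h3 (hsup ha))
  have htd : ∀ x ∈ C, t * x = x * t := fun x hx => (e.t_comm hx).symm
  have hDC : ∀ F : Subgroup G, F ≤ A → DD A C F ≤ C := fun F hF =>
    (e.DD_le hF).trans inf_le_left
  have htt : t * t = 1 := by rw [← sq]; exact e.ht2
  have hd₁C := hDC F₁ hF₁ hd₁
  have he₁C := hDC F₁ hF₁ he₁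
  have hd₂C := hDC F₂ hF₂ hd₂
  have he₂C := hDC F₂ hF₂ he₂
  have htF₂ : t ∈ centralizer (F₂ : Set G) :=
    (centralizer_le hF₂) (e.zp_central (mem_zpowers t))
  have hcF₂ : ∀ x ∈ DD A C F₂, x ∈ centralizer (F₂ : Set G) := fun x hx =>
    (mem_inf.1 (e.DD_le hF₂ hx)).2
  -- not in ⟨t⟩
  have hd₁e₁ : d₁ * e₁ ≠ e₁ * d₁ := by
    intro h3
    rw [hde₁] at h3
    have h4 : t * (e₁ * d₁) = 1 * (e₁ * d₁) := by rw [h3, one_mul]
    exact e.ht1 (mul_right_cancel h4)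
  set u₁ := d₁ * d₂ with hu₁
  set u₂ := e₁ * e₂ with hu₂
  have hu₁2 : u₁ ^ 2 = 1 := by
    rw [hu₁, (show Commute d₁ d₂ from hcomm d₁ hd₁ d₂ hd₂).mul_pow, hd₁2, hd₂2, htt]
  have hu₂2 : u₂ ^ 2 = 1 := by
    rw [hu₂, (show Commute e₁ e₂ from hcomm e₁ he₁ e₂ he₂).mul_pow, he₁2, he₂2, htt]
  have hu₁C : u₁ ∈ C := mul_mem hd₁C hd₂C
  have hu₂C : u₂ ∈ C := mul_mem he₁C he₂C
  have hu₁₂ : u₁ * u₂ = u₂ * u₁ := by
    rw [hu₁, hu₂]
    have h3 := hcomm e₁ he₁ d₂ hd₂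
    have h4 := hcomm d₁ hd₁ e₂ he₂
    calc d₁ * d₂ * (e₁ * e₂) = d₁ * (d₂ * e₁) * e₂ := by group
      _ = (d₁ * e₁) * (d₂ * e₂) := by rw [← h3]; group
      _ = t * (e₁ * d₁) * (t * (e₂ * d₂)) := by rw [hde₁, hde₂]
      _ = t * ((e₁ * d₁) * t) * (e₂ * d₂) := by group
      _ = t * (t * (e₁ * d₁)) * (e₂ * d₂) := by rw [htd _ (mul_mem he₁C hd₁C)]
      _ = (t * t) * (e₁ * (d₁ * e₂) * d₂) := by group
      _ = e₁ * e₂ * (d₁ * d₂) := by rw [htt, h4]; group
  have hd₁t : d₁ ∉ zpowers t := by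
    intro h3
    rw [mem_zpowers_two e.ht2] at h3
    rcases h3 with h3 | h3
    · exact hd₁e₁ (by rw [h3]; group)
    · exact hd₁e₁ (by rw [h3]; exact htd _ he₁C)
  have he₁t : e₁ ∉ zpowers t := by
    intro h3
    rw [mem_zpowers_two e.ht2] at h3
    rcases h3 with h3 | h3
    · exact hd₁e₁ (by rw [h3]; group)
    · exact hd₁e₁ (by rw [h3]; exact e.t_comm hd₁C)
  have htF₂' : ∀ z ∈ zpowers t, z ∈ centralizer (F₂ : Set G) := by
    intro z hz
    exact (zpowers_le.2 htF₂) hz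
  have hu₁t : u₁ ∉ zpowers t := by
    intro h3
    apply hd₁t
    apply hinter d₁ hd₁
    have h4 : d₁ = u₁ * d₂⁻¹ := by rw [hu₁]; group
    rw [h4]
    exact mul_mem (htF₂' _ h3) (inv_mem (hcF₂ _ hd₂))
  have hu₁z : u₁ ∈ centralizer (zpowers t : Set G) := by
    have : zpowers t ≤ centralizer {u₁} := by
      rw [zpowers_le, mem_centralizer_singleton_iff]
      exact (e.t_comm hu₁C).symm
    rw [mem_centralizer_iff]
    intro z hz
    exact mem_centralizer_singleton_iff.1 (this hz)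
  have hV₁ := elemAb_adjoin hzel hu₁z hu₁2
  have hV₁c := card_adjoin hzel hu₁z hu₁2 hu₁t
  have hu₂z : u₂ ∈ centralizer ((zpowers t ⊔ zpowers u₁ : Subgroup G) : Set G) := by
    apply centralizer_adjoin _ hu₁₂.symm
    have : zpowers t ≤ centralizer {u₂} := by
      rw [zpowers_le, mem_centralizer_singleton_iff]
      exact (e.t_comm hu₂C).symm
    rw [mem_centralizer_iff]
    intro z hz
    exact mem_centralizer_singleton_iff.1 (this hz)
  have hu₂n : u₂ ∉ (zpowers t ⊔ zpowers u₁ : Subgroup G) := by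
    intro h3
    have hn : zpowers u₁ ≤ normalizer (zpowers t : Set G) := by
      rw [zpowers_le]
      exact centralizer_le_normalizer _ hu₁z
    rw [← SetLike.mem_coe, coe_mul_of_right_le_normalizer_left _ _ hn] at h3
    obtain ⟨z, hz, v, hv, hzv⟩ := Set.mem_mul.1 h3
    rw [SetLike.mem_coe, mem_zpowers_two hu₁2] at hv
    rcases hv with rfl | rfl
    · apply he₁t
      apply hinter e₁ he₁
      have h4 : e₁ = z * e₂⁻¹ := by
        rw [mul_one] at hzv
        rw [hzv, hu₂]; group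
      rw [h4]
      exact mul_mem (htF₂' _ hz) (inv_mem (hcF₂ _ he₂))
    · -- z * u₁ = u₂
      have hzC : z ∈ C := by
        rw [SetLike.mem_coe, mem_zpowers_two e.ht2] at hz
        rcases hz with rfl | rfl
        · exact one_mem _
        · exact e.crit.mem
      have h4 : d₁⁻¹ * e₁ ∈ zpowers t := by
        apply hinter _ (mul_mem (inv_mem hd₁) he₁)
        have hzz : z * d₁ = d₁ * z := by
          rw [SetLike.mem_coe, mem_zpowers_two e.ht2] at hz
          rcases hz with rfl | rfl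
          · group
          · exact htd _ hd₁C
        have h5 : d₁⁻¹ * e₁ = z * (d₂ * e₂⁻¹) := by
          have h6 : e₁ = z * (d₁ * d₂) * e₂⁻¹ := by
            have : e₁ = u₂ * e₂⁻¹ := by rw [hu₂]; group
            rw [this, ← hzv, hu₁]
          calc d₁⁻¹ * e₁ = d₁⁻¹ * (z * (d₁ * d₂) * e₂⁻¹) := by rw [← h6]
            _ = d₁⁻¹ * (z * d₁) * (d₂ * e₂⁻¹) := by group
            _ = z * (d₂ * e₂⁻¹) := by rw [hzz]; group
        rw [h5]
        exact mul_mem (htF₂' _ hz) (mul_mem (hcF₂ _ hd₂) (inv_mem (hcF₂ _ he₂)))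
      rw [mem_zpowers_two e.ht2] at h4
      apply hd₁e₁
      rcases h4 with h4 | h4
      · have : e₁ = d₁ := by rw [← mul_one d₁, ← h4]; group
        rw [this]
      · have h5 : e₁ = d₁ * t := by rw [← h4]; group
        rw [h5]
        calc d₁ * (d₁ * t) = d₁ * (t * d₁) := by rw [htd _ hd₁C]
          _ = d₁ * t * d₁ := by group
  have hV₂ := elemAb_adjoin hV₁ hu₂z hu₂2
  have hV₂c := card_adjoin hV₁ hu₂z hu₂2 hu₂n
  set V := zpowers t ⊔ zpowers u₁ ⊔ zpowers u₂ with hV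
  have hV8 : Nat.card V = 8 := by rw [hV₂c, hV₁c, hzc]
  have hcF₀' : ∀ x ∈ DD A C F₁, x ∈ centralizer (F₀ : Set G) := fun x hx =>
    (centralizer_le h01) (mem_inf.1 (e.DD_le hF₁ hx)).2
  have hcF₀'' : ∀ x ∈ DD A C F₂, x ∈ centralizer (F₀ : Set G) := fun x hx =>
    (centralizer_le h02) (mem_inf.1 (e.DD_le hF₂ hx)).2
  have hVF : V ≤ centralizer (F₀ : Set G) := by
    apply sup_le (sup_le ?_ ?_) ?_
    · exact e.zp_central.trans (centralizer_le hCo.le)
    · rw [zpowers_le]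
      exact mul_mem (hcF₀' _ hd₁) (hcF₀'' _ hd₂)
    · rw [zpowers_le]
      exact mul_mem (hcF₀' _ he₁) (hcF₀'' _ he₂)
  have hF₀e := elemAb_mono e.hA hCo.le
  obtain ⟨⟨f, hf⟩, hf1⟩ := (F₀.ne_bot_iff_exists_ne_one).1 hF₀1
  obtain ⟨V₀, hV₀, hVc', w, hw, -, y', -, hy'1, hy'p, hy'F, hy'V, hinv⟩ :=
    shift hp2 hCp hF₀e hV₂ hVF (ne_bot_of_card (by rw [hV8]; norm_num)) hf
      (fun h => hf1 (Subtype.ext h))
  have hyn : y' ∉ F₀ := not_mem_of_inverted hp2 (hVF hw) hy'1 hy'p hinv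
  refine ⟨F₀ ⊔ zpowers y', V₀, elemAb_adjoin hF₀e hy'F hy'p, elemAb_mono hV₂ hV₀, ?_, ?_, ?_⟩
  · intro v hv
    exact centralizer_adjoin (hVF (hV₀ hv)) (mem_centralizer_iff.1 hy'V v hv)
  · rw [card_adjoin hF₀e hy'F hy'p hyn, ← hAc, hcF₀]; ring
  · rw [hV8] at hVc'
    omega

end Cfsg.Agent.Lib.KMason
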