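import Cfsg.Agent.Lib.KMason4

/-!
Klinger–Mason: the final contradiction.
-/

set_option autoImplicit false

open Subgroup
open scoped commutatorElement

namespace Cfsg.Agent.Lib.KMason

open ThompsonJ

variable {G : Type*} [Group G] [Finite G]

theorem final {p N : ℕ} [hp : Fact p.Prime] (hp2 : p ≠ 2) (hCp : CharType p G)
    (hC2 : CharType 2 G) (hN : p ^ 3 ≤ N)
    (bd : ∀ (n : ℕ) (F V : Subgroup G), Cfsg.IsElementaryAbelian p F →
      Cfsg.IsElementaryAbelian 2 V →
      V ≤ centralizer (F : Set G) → F ≠ ⊥ → Nat.card V = 2 ^ (n + 1) →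
      Nat.card F * p ^ n ≤ N)
    {F V : Subgroup G} (hF : Cfsg.IsElementaryAbelian p F) (hV : Cfsg.IsElementaryAbelian 2 V)
    (hVF : V ≤ centralizer (F : Set G)) (hFN : p * Nat.card F = N) (hV4 : Nat.card V = 4) :
    False := by
  have h2p : Fact (Nat.Prime 2) := ⟨Nat.prime_two⟩
  have hp1 := hp.out.one_lt
  have hF1 : F ≠ ⊥ := ne_bot_of_card (by
    by_contra h3
    have h4 : Nat.card F ≤ 1 := not_lt.1 h3
    have h5 : p * Nat.card F ≤ p := by
      calc _ ≤ p * 1 := Nat.mul_le_mul_left p h4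
        _ = p := mul_one p
    have h6 : p ^ 1 < p ^ 3 := Nat.pow_lt_pow_right hp1 (by norm_num)
    rw [pow_one] at h6
    omega)
  obtain ⟨⟨f, hf⟩, hf1'⟩ := (F.ne_bot_iff_exists_ne_one).1 hF1
  have hf1 : f ≠ 1 := fun h => hf1' (Subtype.ext h)
  obtain ⟨V₀, hV₀, hVc', s, hs, hs0, y, hyP, hy1, hyp, hyF, hyV, hinv⟩ :=
    shift hp2 hCp hF hV hVF (ne_bot_of_card (by rw [hV4]; norm_num)) hf hf1
  have hyn : y ∉ F := not_mem_of_inverted hp2 (hVF hs) hy1 hyp hinv
  have hV₀2 : Nat.card V₀ = 2 := by omega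
  obtain ⟨⟨w, hw⟩, hw1'⟩ := (V₀.ne_bot_iff_exists_ne_one).1
    (ne_bot_of_card (F := V₀) (by rw [hV₀2]; norm_num))
  have hw1 : w ≠ 1 := fun h => hw1' (Subtype.ext h)
  have hw2 : w ^ 2 = 1 := hV.2 w (hV₀ hw)
  have hwo : orderOf w = 2 := orderOf_eq_prime hw2 hw1
  have hzV₀ : zpowers w = V₀ := eq_of_le_of_card_ge (zpowers_le.2 hw) (by
    rw [hV₀2, Nat.card_zpowers, hwo])
  have hs2 : s ^ 2 = 1 := hV.2 s hs
  have hss : s * s = 1 := by rw [← sq]; exact hs2
  have hsi : s⁻¹ = s := inv_eq_of_mul_eq_one_left hss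
  have hsw : s * w = w * s := H31Gen.elemAb_comm hV s hs w (hV₀ hw)
  have hyo : orderOf y = p := orderOf_eq_prime hyp hy1
  -- A
  set A : Subgroup G := F ⊔ zpowers y with hA
  have hAel : Cfsg.IsElementaryAbelian p A := elemAb_adjoin hF hyF hyp
  have hAc : Nat.card A = N := by rw [card_adjoin hF hyF hyp hyn, hFN]
  have hwy : w * y = y * w := mem_centralizer_iff.1 hyV w hw
  have hAw : A ≤ centralizer {w} := by
    apply sup_le
    · intro x hx
      rw [mem_centralizer_singleton_iff]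
      exact mem_centralizer_iff.1 (hVF (hV₀ hw)) x hx
    · rw [zpowers_le, mem_centralizer_singleton_iff]
      exact hwy.symm
  obtain ⟨C, hC⟩ := exists_crit hC2 hw1 hw2
  have e : Env p N w A C := ⟨hw1, hw2, hAel, hAw, hAc, hC, bd⟩
  have hyA : y ∈ A := mem_sup_right (mem_zpowers y)
  have hFA : F ≤ A := le_sup_left
  have hAcomm := H31Gen.elemAb_comm hAel
  obtain ⟨F', hF', hcF', hyF', hnF'⟩ := e.exists_hyp hp2 hyA hy1
  have hNw := normalizer_zpowers hw1 hw2
  -- f ∉ F'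
  have hAsup : F' ⊔ zpowers y = A := by
    apply eq_of_le_of_card_ge (sup_le hF' (zpowers_le.2 hyA))
    rw [H31Gen.card_sup_zpowers hAel hF' hyA hyF', hcF']
  have hyNw : y ∈ normalizer (zpowers w : Set G) := by rw [hNw]; exact hAw hyA
  have hfF' : f ∉ F' := by
    intro hfF'
    apply hnF'
    intro x hx
    rw [← hAsup]
    apply centralizer_adjoin hx.2
    have hx1 : x ∈ OP 2 (zpowers w) := hC.le hx.1
    have hfx : f * x = x * f := mem_centralizer_iff.1 hx.2 f hfF'
    have hxN : x ∈ normalizer (zpowers f : Set G) := by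
      have h3 : x ∈ centralizer (zpowers f : Set G) := by
        have : zpowers f ≤ centralizer {x} := by
          rw [zpowers_le, mem_centralizer_singleton_iff]
          exact hfx
        rw [mem_centralizer_iff]
        intro z hz
        exact mem_centralizer_singleton_iff.1 (this hz)
      exact centralizer_le_normalizer _ h3
    have h4 : ⁅x, y⁆ ∈ OP 2 (zpowers w) := by
      have h5 : ⁅x, y⁆ = x * (y * x⁻¹ * y⁻¹) := by rw [commutatorElement_def]; group
      rw [h5]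
      exact mul_mem hx1 (conj_mem_OP hyNw (inv_mem hx1))
    have h6 : ⁅x, y⁆ ∈ OP p (zpowers f) := by
      rw [commutatorElement_def]
      exact mul_mem (conj_mem_OP hxN hyP) (inv_mem hyP)
    have h7 : ⁅x, y⁆ = 1 := by
      have hcop := coprime_of_pgroups (Ne.symm hp2) (isPGroup_OP 2 (zpowers w))
        (isPGroup_OP p (zpowers f))
      have := (disjoint_of_coprime_natCard hcop).eq_bot
      rw [← mem_bot, ← this]
      exact mem_inf.2 ⟨h4, h6⟩
    rwa [commutatorElement_eq_one_iff_mul_comm] at h7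
  -- action of s on A
  have hsF : ∀ x ∈ F, s * x * s⁻¹ = x := by
    intro x hx
    have := mem_centralizer_iff.1 (hVF hs) x hx
    rw [← this]; group
  have hconjz : ∀ j : ℤ, s * y ^ j * s⁻¹ = y ^ (-j) := by
    intro j
    rw [← conj_zpow, hinv, inv_zpow, zpow_neg]
  have hAmem : ∀ x ∈ A, ∃ a ∈ F, ∃ j : ℤ, x = a * y ^ j := by
    intro x hx
    have hn : zpowers y ≤ normalizer (F : Set G) := by
      rw [zpowers_le]
      exact centralizer_le_normalizer _ hyF
    rw [hA, ← SetLike.mem_coe, coe_mul_of_right_le_normalizer_left _ _ hn] at hx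
    obtain ⟨a, ha, _, ⟨j, rfl⟩, rfl⟩ := Set.mem_mul.1 hx
    exact ⟨a, ha, j, rfl⟩
  have hsA : ∀ x ∈ A, s * x * s⁻¹ ∈ A := by
    intro x hx
    obtain ⟨a, ha, j, rfl⟩ := hAmem x hx
    have h3 : s * (a * y ^ j) * s⁻¹ = a * y ^ (-j) := by
      calc _ = (s * a * s⁻¹) * (s * y ^ j * s⁻¹) := by group
        _ = _ := by rw [hsF a ha, hconjz]
    rw [h3]
    exact mul_mem (hFA ha) (zpow_mem hyA _)
  -- key: if x ∈ F' and s x s⁻¹ ∈ F' then x ∈ F
  have hkey : ∀ x ∈ F', s * x * s⁻¹ ∈ F' → x ∈ F := by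
    intro x hx hx'
    obtain ⟨a, ha, j, rfl⟩ := hAmem x (hF' hx)
    have h3 : s * (a * y ^ j) * s⁻¹ = a * y ^ (-j) := by
      calc _ = (s * a * s⁻¹) * (s * y ^ j * s⁻¹) := by group
        _ = _ := by rw [hsF a ha, hconjz]
    rw [h3] at hx'
    have h4 : y ^ (2 * j) ∈ F' := by
      have h5 : (a * y ^ (-j))⁻¹ * (a * y ^ j) = y ^ (2 * j) := by
        rw [mul_inv_rev, zpow_neg, inv_inv, two_mul, zpow_add]; group
      rw [← h5]
      exact mul_mem (inv_mem hx') hx
    have h6 : y ^ j = 1 := by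
      by_contra h7
      -- then y ∈ ⟨y^(2j)⟩
      have h8 : ¬ (p : ℤ) ∣ j := by
        intro h9
        apply h7
        rw [← hyo] at h9
        exact (orderOf_dvd_iff_zpow_eq_one).1 h9
      have hpI : Prime (p : ℤ) := Nat.prime_iff_prime_int.1 hp.out
      have h9 : ¬ (p : ℤ) ∣ 2 * j := by
        intro h10
        rcases hpI.dvd_or_dvd h10 with h11 | h11
        · have h12 : p ∣ 2 := by exact_mod_cast h11
          exact hp2 ((Nat.prime_dvd_prime_iff_eq hp.out Nat.prime_two).1 h12)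
        · exact h8 h11
      have h10 : IsCoprime (p : ℤ) (2 * j) := (Int.isCoprime_iff_gcd_eq_one).2 (by
        have := (Nat.Prime.coprime_iff_not_dvd hp.out (n := (2 * j).natAbs)).2 (by
          intro h11
          exact h9 (Int.natCast_dvd.2 h11))
        simpa [Int.gcd] using this)
      obtain ⟨u, v, huv⟩ := h10
      apply hyF'
      have h11 : y = (y ^ (2 * j)) ^ v := by
        rw [← zpow_mul]
        have h12 : (2 * j) * v = 1 - u * p := by linarith
        rw [h12, zpow_sub, zpow_one, mul_comm u, zpow_mul, zpow_natCast, hyp, one_zpow,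
          inv_one, mul_one]
      rw [h11]
      exact zpow_mem h4 v
    rw [h6, mul_one]
    exact ha
  -- F'' = F'^s
  set cs : G →* G := (MulAut.conj s).toMonoidHom with hcs
  have hcsa : ∀ x, cs x = s * x * s⁻¹ := fun x => rfl
  have hcsinj : Function.Injective cs := (MulAut.conj s).injective
  have hcss : ∀ x, cs (cs x) = x := by
    intro x
    rw [hcsa, hcsa]
    calc s * (s * x * s⁻¹) * s⁻¹ = (s * s) * x * (s * s)⁻¹ := by group
      _ = x := by rw [hss]; group
  set F'' : Subgroup G := F'.map cs with hF''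
  have hF''A : F'' ≤ A := by
    rintro _ ⟨x, hx, rfl⟩
    exact hsA x (hF' hx)
  have hcF'' : Nat.card F'' = Nat.card F' := card_map_of_injective hcsinj
  have hcardFF' : Nat.card F = Nat.card F' := by
    rw [hAc, ← hFN] at hcF'
    exact Nat.eq_of_mul_eq_mul_left hp.out.pos hcF'
  obtain ⟨g, hgF', hgF⟩ : ∃ g ∈ F', g ∉ F := by
    by_contra hcon
    push Not at hcon
    have h3 : F' = F := eq_of_le_of_card_ge hcon hcardFF'.le
    exact hfF' (h3 ▸ hf)
  have hgF'' : cs g ∉ F' := fun h3 => hgF (hkey g hgF' h3)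
  have hsup : A ≤ F' ⊔ F'' := by
    have h3 : F' ⊔ zpowers (cs g) = A := by
      apply eq_of_le_of_card_ge (sup_le hF' (zpowers_le.2 (hsA g (hF' hgF'))))
      rw [H31Gen.card_sup_zpowers hAel hF' (hsA g (hF' hgF')) hgF'', hcF']
    rw [← h3]
    exact sup_le le_sup_left ((show zpowers (cs g) ≤ F'' from
      zpowers_le.2 (mem_map_of_mem cs hgF')).trans le_sup_right)
  set F₀ := F' ⊓ F'' with hF₀
  have hcF₀ : Nat.card A = p ^ 2 * Nat.card F₀ :=
    card_inf_of_hyp e hF' hF''A hcF' (by rw [hcF'', ← hcF']) hsup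
  have hF₀1 : F₀ ≠ ⊥ := by
    intro h3
    rw [h3, card_bot, mul_one, hAc] at hcF₀
    have h6 : p ^ 2 < p ^ 3 := Nat.pow_lt_pow_right hp1 (by norm_num)
    omega
  have hCo : Co p A F₀ := ⟨inf_le_left.trans hF', hF₀1, hcF₀.le⟩
  have h01 : F₀ ≤ F' := inf_le_left
  have h02 : F₀ ≤ F'' := inf_le_right
  have hF₀F : F₀ ≤ F := by
    intro x hx
    have hx1 := (mem_inf.1 hx).1
    obtain ⟨x', hx', hxx'⟩ := (mem_inf.1 hx).2
    apply hkey x hx1
    have : s * x * s⁻¹ = x' := by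
      rw [← hcsa, ← hxx', hcss]
    rw [this]
    exact hx'
  -- s normalises C
  have hsC : ∀ x ∈ C, cs x ∈ C := by
    intro x hx
    have : s ∈ normalizer (C : Set G) := hC.norm (mem_centralizer_singleton_iff.2 hsw)
    exact (mem_normalizer_iff.1 this x).1 hx
  have hDmap : ∀ x ∈ DD A C F', cs x ∈ DD A C F'' := by
    intro x hx
    have h3 : (DD A C F').map cs ≤ DD A C F'' := by
      rw [DD, map_commutator]
      apply commutator_mono
      · rintro _ ⟨z, hz, rfl⟩
        rw [SetLike.mem_coe, mem_inf] at hz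
        refine mem_inf.2 ⟨hsC z hz.1, ?_⟩
        rw [mem_centralizer_iff]
        rintro _ ⟨g, hg, rfl⟩
        rw [← map_mul, ← map_mul, mem_centralizer_iff.1 hz.2 g hg]
      · rintro _ ⟨z, hz, rfl⟩
        exact hsA z hz
    exact h3 ⟨x, hx, rfl⟩
  have hcomm : ∀ x ∈ DD A C F', ∀ z ∈ DD A C F'', x * z = z * x := by
    intro x hx z hz
    exact (mem_centralizer_iff.1
      (e.DD_commute hp2 hCo hF' hF''A h01 h02 hsup (e.DD_le hF' hx)) z hz).symm
  obtain ⟨d₁, hd₁, hd₁w⟩ := e.DD_ne hp2 hF' hnF'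
  have hDC' : DD A C F' ≤ C := (e.DD_le hF').trans inf_le_left
  have hDC'' : DD A C F'' ≤ C := (e.DD_le hF''A).trans inf_le_left
  -- g with g d₁ g⁻¹ ∉ d₁⟨w⟩
  obtain ⟨a, haA, had⟩ : ∃ a ∈ A, d₁⁻¹ * (a * d₁ * a⁻¹) ∉ zpowers w := by
    by_contra hcon
    push Not at hcon
    apply hd₁w
    apply e.DD_fix hp2 hCo hF' h01 hd₁
    rw [mem_centralizer_iff]
    intro a ha
    have h3 := hcon a ha
    rw [mem_zpowers_two hw2] at h3
    rcases h3 with h3 | h3
    · have h4 : a * d₁ * a⁻¹ = d₁ := by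
        have := congrArg (d₁ * ·) h3
        simpa [mul_assoc] using this
      calc a * d₁ = a * d₁ * a⁻¹ * a := by group
        _ = d₁ * a := by rw [h4]
    · exfalso
      have h4 : a * d₁ * a⁻¹ = d₁ * w := by
        have := congrArg (d₁ * ·) h3
        simpa [mul_assoc] using this
      have haw : a * w = w * a := mem_centralizer_singleton_iff.1 (hAw ha)
      have hww : w * w = 1 := by rw [← sq]; exact hw2
      have h5 : (a ^ 2) * d₁ = d₁ * a ^ 2 := by
        have h6 : a * (a * d₁ * a⁻¹) * a⁻¹ = d₁ := by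
          rw [h4]
          calc a * (d₁ * w) * a⁻¹ = (a * d₁ * a⁻¹) * (a * w) * a⁻¹ := by group
            _ = d₁ * (w * w) := by rw [h4, haw]; group
            _ = d₁ := by rw [hww, mul_one]
        calc a ^ 2 * d₁ = a * (a * d₁ * a⁻¹) * a⁻¹ * a ^ 2 := by rw [sq]; group
          _ = d₁ * a ^ 2 := by rw [h6]
      have hodd : Odd p := hp.out.odd_of_ne_two hp2
      obtain ⟨m, hm⟩ := hodd
      have hap : a ^ p = 1 := hAel.2 a ha
      have h7 : a = (a ^ 2) ^ (m + 1) := by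
        rw [← pow_mul]
        have : 2 * (m + 1) = p + 1 := by omega
        rw [this, pow_succ, hap, one_mul]
      have h8 : Commute a d₁ := by
        rw [h7]
        exact (show Commute (a ^ 2) d₁ from h5).pow_left _
      have h9 : a * d₁ * a⁻¹ = d₁ := by rw [h8.eq]; group
      rw [h9] at h4
      exact hw1 (by
        have : d₁ * 1 = d₁ * w := by rw [mul_one]; exact h4
        exact (mul_left_cancel this).symm)
  set d₂ := a * d₁ * a⁻¹ with hd₂d
  have hd₂ : d₂ ∈ DD A C F' := (mem_normalizer_iff.1 (Env.norm_DD A C F' haA) d₁).1 hd₁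
  have hd₂w : d₂ ∉ zpowers w := by
    intro h3
    apply hd₁w
    have haz : a ∈ centralizer (zpowers w : Set G) := by
      have : zpowers w ≤ centralizer {a} := by
        rw [zpowers_le, mem_centralizer_singleton_iff]
        exact (mem_centralizer_singleton_iff.1 (hAw haA)).symm
      rw [mem_centralizer_iff]
      intro z hz
      exact mem_centralizer_singleton_iff.1 (this hz)
    have h4 := mem_centralizer_iff.1 haz d₂ h3
    have h5 : d₁ = d₂ := by
      calc d₁ = a⁻¹ * d₂ * a := by rw [hd₂d]; group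
        _ = a⁻¹ * (d₂ * a) := by group
        _ = d₂ := by rw [h4]; group
    rw [h5]; exact h3
  -- φ
  let φ : G → G := fun d => d * cs d
  have hφ : ∀ d, φ d = d * cs d := fun d => rfl
  have hww : w * w = 1 := by rw [← sq]; exact hw2
  have hφw : ∀ d ∈ DD A C F', φ d ∈ zpowers w → d ∈ zpowers w := by
    intro d hd h3
    have h4 : cs d ∈ zpowers w := by
      apply e.DD_fix hp2 hCo hF''A h02 (hDmap d hd)
      have h5 : cs d = d⁻¹ * φ d := by rw [hφ]; group
      have h6 : cs d ∈ centralizer (F' : Set G) := by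
        rw [h5]
        exact mul_mem (inv_mem (mem_inf.1 (e.DD_le hF' hd)).2)
          ((centralizer_le hF') (e.zp_central h3))
      have h7 : cs d ∈ centralizer (F'' : Set G) := (mem_inf.1 (e.DD_le hF''A (hDmap d hd))).2
      have h8 : F' ⊔ F'' ≤ centralizer {cs d} := by
        apply sup_le
        · intro z hz
          exact mem_centralizer_singleton_iff.2 (mem_centralizer_iff.1 h6 z hz)
        · intro z hz
          exact mem_centralizer_singleton_iff.2 (mem_centralizer_iff.1 h7 z hz)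
      rw [mem_centralizer_iff]
      intro a ha
      exact mem_centralizer_singleton_iff.1 (h8 (hsup ha))
    have h9 : d = φ d * (cs d)⁻¹ := by rw [hφ]; group
    rw [h9]
    exact mul_mem h3 (inv_mem h4)
  have hφC : ∀ d ∈ DD A C F', φ d ∈ C := fun d hd => mul_mem (hDC' hd) (hDC'' (hDmap d hd))
  have hφ2 : ∀ d ∈ DD A C F', φ d ^ 2 = 1 := by
    intro d hd
    have h3 : Commute d (cs d) := hcomm d hd _ (hDmap d hd)
    rw [hφ, h3.mul_pow]
    have h4 := e.DD_sq hp2 hCo hF' h01 hd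
    have h5 : (cs d) ^ 2 = d ^ 2 := by
      rw [← map_pow, hcsa]
      rw [mem_zpowers_two hw2] at h4
      rcases h4 with h4 | h4
      · rw [h4]; group
      · rw [h4, hsw]; group
    rw [h5, ← sq, ← pow_mul]
    rw [mem_zpowers_two hw2] at h4
    rcases h4 with h4 | h4
    · rw [pow_mul, h4, one_pow]
    · rw [pow_mul, h4, hw2]
  have hφmul : ∀ d ∈ DD A C F', ∀ d' ∈ DD A C F', φ (d * d') = φ d * φ d' := by
    intro d hd d' hd'
    have h3 := hcomm d' hd' (cs d) (hDmap d hd)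
    rw [hφ, hφ, hφ, map_mul]
    calc d * d' * (cs d * cs d') = d * (d' * cs d) * cs d' := by group
      _ = d * cs d * (d' * cs d') := by rw [h3]; group
  have hφcomm : ∀ d ∈ DD A C F', ∀ d' ∈ DD A C F', φ d * φ d' = φ d' * φ d := by
    intro d hd d' hd'
    have h3 := hφ2 _ (mul_mem hd hd')
    rw [hφmul d hd d' hd', sq] at h3
    have h4 := hφ2 d hd
    have h5 := hφ2 d' hd'
    rw [sq] at h4 h5
    have h6 : (φ d)⁻¹ = φ d := inv_eq_of_mul_eq_one_left h4
    have h7 : (φ d')⁻¹ = φ d' := inv_eq_of_mul_eq_one_left h5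
    calc φ d * φ d' = (φ d * φ d')⁻¹ := (inv_eq_of_mul_eq_one_left h3).symm
      _ = φ d' * φ d := by rw [mul_inv_rev, h6, h7]
  have hφs : ∀ d ∈ DD A C F', s * φ d = φ d * s := by
    intro d hd
    have h3 := hcomm d hd (cs d) (hDmap d hd)
    have h4 : cs (φ d) = φ d := by
      rw [hφ, map_mul, hcss, h3]
    rw [hcsa] at h4
    calc s * φ d = s * φ d * s⁻¹ * s := by group
      _ = φ d * s := by rw [h4]
  set x₁ := φ d₁ with hx₁
  set x₂ := φ d₂ with hx₂
  have hx₁C : x₁ ∈ C := hφC _ hd₁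
  have hx₂C : x₂ ∈ C := hφC _ hd₂
  have hzel : Cfsg.IsElementaryAbelian 2 (zpowers w) := elemAb_zpowers hw2
  have hzc : Nat.card (zpowers w) = 2 := by rw [Nat.card_zpowers, hwo]
  have hcz : ∀ x : G, w * x = x * w → x ∈ centralizer (zpowers w : Set G) := by
    intro x hx
    have : zpowers w ≤ centralizer {x} := by
      rw [zpowers_le, mem_centralizer_singleton_iff]
      exact hx
    rw [mem_centralizer_iff]
    intro z hz
    exact mem_centralizer_singleton_iff.1 (this hz)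
  have hx₁w : x₁ ∉ zpowers w := fun h3 => hd₁w (hφw _ hd₁ h3)
  have hx₁z := hcz x₁ (e.t_comm hx₁C).symm
  have hV₁ := elemAb_adjoin hzel hx₁z (hφ2 _ hd₁)
  have hV₁c := card_adjoin hzel hx₁z (hφ2 _ hd₁) hx₁w
  have hx₂z : x₂ ∈ centralizer ((zpowers w ⊔ zpowers x₁ : Subgroup G) : Set G) :=
    centralizer_adjoin (hcz x₂ (e.t_comm hx₂C).symm) (hφcomm _ hd₂ _ hd₁)
  have hx₂n : x₂ ∉ (zpowers w ⊔ zpowers x₁ : Subgroup G) := by
    intro h3
    have hn : zpowers x₁ ≤ normalizer (zpowers w : Set G) := by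
      rw [zpowers_le]
      exact centralizer_le_normalizer _ hx₁z
    rw [← SetLike.mem_coe, coe_mul_of_right_le_normalizer_left _ _ hn] at h3
    obtain ⟨z, hz, v, hv, hzv⟩ := Set.mem_mul.1 h3
    rw [SetLike.mem_coe, mem_zpowers_two (hφ2 _ hd₁)] at hv
    rcases hv with rfl | rfl
    · rw [mul_one] at hzv
      apply hd₂w
      apply hφw _ hd₂
      rw [← hx₂, ← hzv]; exact hz
    · apply had
      have hdm : d₁⁻¹ * d₂ ∈ DD A C F' := mul_mem (inv_mem hd₁) hd₂
      apply hφw _ hdm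
      rw [hφmul _ (inv_mem hd₁) _ hd₂]
      have h4 : φ d₁⁻¹ = (φ d₁)⁻¹ := by
        have h5 := hφmul _ (inv_mem hd₁) _ hd₁
        rw [inv_mul_cancel] at h5
        have h6 : φ 1 = 1 := by rw [hφ, map_one, mul_one]
        rw [h6] at h5
        exact eq_inv_of_mul_eq_one_left h5.symm
      rw [h4, ← hx₁, ← hx₂, ← hzv]
      have hzx : z * x₁ = x₁ * z := mem_centralizer_iff.1 hx₁z z hz
      rw [hzx]
      simpa [mul_assoc] using hz
  have hV₂ := elemAb_adjoin hV₁ hx₂z (hφ2 _ hd₂)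
  have hV₂c := card_adjoin hV₁ hx₂z (hφ2 _ hd₂) hx₂n
  have hsz : s ∈ centralizer ((zpowers w ⊔ zpowers x₁ ⊔ zpowers x₂ : Subgroup G) : Set G) :=
    centralizer_adjoin (centralizer_adjoin (hcz s hsw.symm) (hφs _ hd₁)) (hφs _ hd₂)
  have hsn : s ∉ (zpowers w ⊔ zpowers x₁ ⊔ zpowers x₂ : Subgroup G) := by
    intro h3
    have h4 : zpowers w ⊔ zpowers x₁ ⊔ zpowers x₂ ≤ C :=
      sup_le (sup_le (zpowers_le.2 hC.mem) (zpowers_le.2 hx₁C)) (zpowers_le.2 hx₂C)
    have h5 : s ∈ OP 2 (zpowers w) := hC.le (h4 h3)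
    have h6 : ⁅s, y⁆ ∈ OP 2 (zpowers w) := by
      have h7 : ⁅s, y⁆ = s * (y * s⁻¹ * y⁻¹) := by rw [commutatorElement_def]; group
      rw [h7]
      exact mul_mem h5 (conj_mem_OP hyNw (inv_mem h5))
    have h7 : ⁅s, y⁆ = y⁻¹ * y⁻¹ := by rw [commutatorElement_def, hinv]
    rw [h7] at h6
    have h8 : y⁻¹ * y⁻¹ = 1 := by
      have hzy : IsPGroup p (zpowers y) := elemAb_isPGroup (elemAb_zpowers hyp)
      have hcop := coprime_of_pgroups (Ne.symm hp2) (isPGroup_OP 2 (zpowers w)) hzy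
      have := (disjoint_of_coprime_natCard hcop).eq_bot
      rw [← mem_bot, ← this]
      exact mem_inf.2 ⟨h6, mul_mem (inv_mem (mem_zpowers y)) (inv_mem (mem_zpowers y))⟩
    have h9 : y ^ 2 = 1 := by
      rw [← mul_inv_rev, inv_eq_one] at h8
      rw [sq]; exact h8
    have h10 : orderOf y ∣ 2 := orderOf_dvd_of_pow_eq_one h9
    rw [hyo] at h10
    exact hp2 ((Nat.prime_dvd_prime_iff_eq hp.out Nat.prime_two).1 h10)
  have hV₃ := elemAb_adjoin hV₂ hsz hs2
  have hV₃c := card_adjoin hV₂ hsz hs2 hsn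
  rw [hV₂c, hV₁c, hzc] at hV₃c
  have hcen : ∀ d ∈ DD A C F', φ d ∈ centralizer (F₀ : Set G) := by
    intro d hd
    exact mul_mem ((centralizer_le h01) (mem_inf.1 (e.DD_le hF' hd)).2)
      ((centralizer_le h02) (mem_inf.1 (e.DD_le hF''A (hDmap d hd))).2)
  have hVF₀ : zpowers w ⊔ zpowers x₁ ⊔ zpowers x₂ ⊔ zpowers s ≤ centralizer (F₀ : Set G) := by
    refine sup_le (sup_le (sup_le ?_ ?_) ?_) ?_
    · exact e.zp_central.trans (centralizer_le hCo.le)
    · rw [zpowers_le]; exact hcen _ hd₁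
    · rw [zpowers_le]; exact hcen _ hd₂
    · rw [zpowers_le]
      exact (centralizer_le hF₀F) (hVF hs)
  have hfin := bd 3 F₀ _ (elemAb_mono hAel hCo.le) hV₃ hVF₀ hF₀1 (by rw [hV₃c]; norm_num)
  rw [← hAc, hcF₀] at hfin
  have hpos : 0 < Nat.card F₀ := Nat.card_pos
  have h3 : Nat.card F₀ * p ^ 3 ≤ Nat.card F₀ * p ^ 2 := by rw [mul_comm _ (p ^ 2)]; exact hfin
  have h4 := Nat.le_of_mul_le_mul_left h3 hpos
  have h5 : p ^ 2 < p ^ 3 := Nat.pow_lt_pow_right hp1 (by norm_num)
  omega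

/-- **Klinger–Mason**. -/
theorem main {p : ℕ} [hp : Fact p.Prime] (hp2 : p ≠ 2) (hCp : CharType p G)
    (hC2 : CharType 2 G) {Q : Subgroup G} (hQ : IsPGroup 2 Q) (hQ1 : Q ≠ ⊥) {E : Subgroup G}
    (hE : Cfsg.IsElementaryAbelian p E) (hEQ : E ≤ normalizer (Q : Set G))
    (hEc : p ^ 3 ≤ Nat.card E) : False := by
  classical
  have h2p : Fact (Nat.Prime 2) := ⟨Nat.prime_two⟩
  have hp1 := hp.out.one_lt
  set T := OP 2 Q with hT
  have hTp : IsPGroup 2 T := isPGroup_OP 2 Q
  have hET : E ≤ normalizer (T : Set G) := hEQ.trans (le_normalizer_OP 2 Q)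
  have hEp : IsPGroup p E := elemAb_isPGroup hE
  have hcop := coprime_of_pgroups hp2 hEp hTp
  have hE1 : E ≠ ⊥ := ne_bot_of_card (lt_of_lt_of_le (Nat.one_lt_pow (by norm_num) hp1) hEc)
  have hTE : ¬ (T ≤ centralizer (E : Set G)) := by
    intro h3
    exact hE1 (eq_bot_of_centralizes hC2 hQ hQ1 hEQ (coprime_of_pgroup' hp2 hEp)
      ((le_centralizer_iff).1 h3))
  -- a hyperplane with non-trivial action
  have hgen := H31Gen.le_iSup_hyperplane (p := p) (Nat.card E) E T rfl hE hET hcop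
  obtain ⟨F, hFE, hFc, hFn⟩ : ∃ F : Subgroup G, F ≤ E ∧ Nat.card E ≤ p * Nat.card F ∧
      ¬ (T ⊓ centralizer (F : Set G) ≤ centralizer (E : Set G)) := by
    by_contra hcon
    push Not at hcon
    apply hTE
    refine hgen.trans (iSup_le ?_)
    rintro ⟨F, hF, hFc⟩
    exact hcon F hF hFc
  have hF2 : p ^ 2 ≤ Nat.card F := by
    have h3 : p * p ^ 2 ≤ p * Nat.card F := by
      calc p * p ^ 2 = p ^ 3 := by ring
        _ ≤ Nat.card E := hEc
        _ ≤ _ := hFc
    exact Nat.le_of_mul_le_mul_left h3 hp.out.pos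
  have hF1 : F ≠ ⊥ := ne_bot_of_card (lt_of_lt_of_le (Nat.one_lt_pow (by norm_num) hp1) hF2)
  have hFel := elemAb_mono hE hFE
  set K := T ⊓ centralizer (F : Set G) with hK
  have hKp : IsPGroup 2 K := hTp.to_le inf_le_left
  have hEcomm := H31Gen.elemAb_comm hE
  have hEK : E ≤ normalizer (K : Set G) := by
    apply mem_normalizer_of
    intro g hg x hx
    rw [mem_inf] at hx ⊢
    refine ⟨(mem_normalizer_iff.1 (hET hg) x).1 hx.1, ?_⟩
    rw [mem_centralizer_iff]
    intro f hf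
    have h1 := mem_centralizer_iff.1 hx.2 f hf
    have h2 := hEcomm f (hFE hf) g hg
    have h3 : f * g⁻¹ = g⁻¹ * f := by
      calc f * g⁻¹ = g⁻¹ * (g * f) * g⁻¹ := by group
        _ = g⁻¹ * f := by rw [← h2]; group
    calc f * (g * x * g⁻¹) = (f * g) * x * g⁻¹ := by group
      _ = g * (f * x) * g⁻¹ := by rw [h2]; group
      _ = g * x * (f * g⁻¹) := by rw [h1]; group
      _ = g * x * g⁻¹ * f := by rw [h3]; group
  -- central involution of K
  have hK1 : K ≠ ⊥ := by
    intro h3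
    apply hFn
    rw [h3]
    exact bot_le
  have hKnt : Nontrivial K := (Subgroup.nontrivial_iff_ne_bot K).2 hK1
  have hcnt : Nontrivial (center K) := hKp.center_nontrivial
  obtain ⟨z, hzc, hzo⟩ : ∃ z : G, (z ∈ K ∧ ∀ x ∈ K, x * z = z * x) ∧ orderOf z = 2 := by
    have hcp : IsPGroup 2 (center K) := hKp.to_subgroup _
    have h3 : 2 ∣ Nat.card (center K) := by
      obtain ⟨n, hn⟩ := hcp.exists_card_eq
      rw [hn]
      apply dvd_pow_self
      rintro rfl
      rw [pow_zero] at hn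
      exact not_nontrivial_iff_subsingleton.2 (Nat.card_eq_one_iff_unique.1 hn).1 hcnt
    obtain ⟨c, hc⟩ := exists_prime_orderOf_dvd_card' 2 h3
    refine ⟨c.1.1, ⟨c.1.2, ?_⟩, by rw [Subgroup.orderOf_coe, Subgroup.orderOf_coe, hc]⟩
    intro x hx
    have := mem_center_iff.1 c.2 ⟨x, hx⟩
    exact congrArg Subtype.val this
  have hz1 : z ≠ 1 := by
    rintro rfl
    rw [orderOf_one] at hzo
    norm_num at hzo
  have hz2 : z ^ 2 = 1 := by rw [← orderOf_dvd_iff_pow_eq_one, hzo]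
  -- the maximal pair
  let S : Set (G × Subgroup G) := {q | q.1 ≠ 1 ∧ q.1 ^ 2 = 1 ∧ Cfsg.IsElementaryAbelian p q.2 ∧
    q.2 ≤ centralizer {q.1}}
  have hSne : S.Nonempty := ⟨(z, F), hz1, hz2, hFel, fun x hx => by
    rw [mem_centralizer_singleton_iff]
    exact mem_centralizer_iff.1 (mem_inf.1 hzc.1).2 x hx⟩
  obtain ⟨⟨t, A⟩, ⟨ht1, ht2, hA, hAt⟩, hmax⟩ := Set.exists_max_image S
    (fun q => Nat.card q.2) (Set.toFinite _) hSne
  simp only at ht1 ht2 hA hAt hmax
  have hmax' : ∀ (t : G) (F : Subgroup G), t ≠ 1 → t ^ 2 = 1 → Cfsg.IsElementaryAbelian p F →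
      F ≤ centralizer {t} → Nat.card F ≤ Nat.card A := fun t F h1 h2 h3 h4 =>
    hmax (t, F) ⟨h1, h2, h3, h4⟩
  have bd := bound hp2 hCp hmax'
  have hN : p ^ 3 ≤ Nat.card A := by
    by_cases hu : ∃ u ∈ K, u ^ 2 = 1 ∧ u ∉ zpowers z
    · obtain ⟨u, hu, hu2, huz⟩ := hu
      have huz' : u ∈ centralizer (zpowers z : Set G) := by
        have : zpowers z ≤ centralizer {u} := by
          rw [zpowers_le, mem_centralizer_singleton_iff]
          exact (hzc.2 u hu).symm
        rw [mem_centralizer_iff]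
        intro z hz
        exact mem_centralizer_singleton_iff.1 (this hz)
      have hV := elemAb_adjoin (elemAb_zpowers hz2) huz' hu2
      have hVc := card_adjoin (elemAb_zpowers hz2) huz' hu2 huz
      rw [Nat.card_zpowers, hzo] at hVc
      have h3 := bd 1 F _ hFel hV (by
        apply sup_le
        · rw [zpowers_le]; exact (mem_inf.1 hzc.1).2
        · rw [zpowers_le]; exact (mem_inf.1 hu).2) hF1 (by rw [hVc]; norm_num)
      calc p ^ 3 = p ^ 2 * p ^ 1 := by ring
        _ ≤ Nat.card F * p ^ 1 := Nat.mul_le_mul_right _ hF2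
        _ ≤ _ := h3
    · push Not at hu
      refine hEc.trans (hmax' z E hz1 hz2 hE ?_)
      intro g hg
      rw [mem_centralizer_singleton_iff]
      have h3 : g * z * g⁻¹ ∈ K := (mem_normalizer_iff.1 (hEK hg) z).1 hzc.1
      have h4 := hu _ h3 (by rw [conj_pow, hz2]; group)
      rw [mem_zpowers_two hz2] at h4
      rcases h4 with h4 | h4
      · exfalso
        apply hz1
        have : g⁻¹ * (g * z * g⁻¹) * g = 1 := by rw [h4]; group
        simpa [mul_assoc] using this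
      · calc g * z = g * z * g⁻¹ * g := by group
          _ = z * g := by rw [h4]
  obtain ⟨C, hC⟩ := exists_crit hC2 ht1 ht2
  have e : Env p (Nat.card A) t A C := ⟨ht1, ht2, hA, hAt, rfl, hC, bd⟩
  obtain ⟨F₁, V₁, hF₁, hV₁, hVF₁, hc₁, hc₂⟩ := e.exists_pair hp2 hCp hN
  exact final hp2 hCp hC2 hN bd hF₁ hV₁ hVF₁ hc₁ hc₂

end Cfsg.Agent.Lib.KMason
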