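import Mathlib
import Cfsg.Agent.Lib.KPR0

/-! Piece F4 of S4878 (helper2): classes over non-involutions of `H / Z`. -/

set_option autoImplicit false
set_option linter.all false
set_option maxHeartbeats 400000

namespace Cfsg.Agent.Lib.KPRF4

open Matrix

variable {H : Type*} [Group H] {p : ℕ} [Fact p.Prime]

theorem central (ρ : H →* Matrix.GeneralLinearGroup (Fin 2) (ZMod p)) (hinj : Function.Injective ρ) (Z : Subgroup H)
    (hZ : ∀ h, h ∈ Z ↔ ∃ c : ZMod p, (ρ h : Matrix (Fin 2) (Fin 2) (ZMod p)) = c • 1) {z : H} (hz : z ∈ Z) (h : H) :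
    z * h = h * z := by
  obtain ⟨c, hc⟩ := (hZ z).1 hz
  apply hinj
  apply Units.ext
  simp only [map_mul, Units.val_mul, hc]
  simp

theorem sq_eq_one_iff_aux {γ : ZMod p} (h : γ ^ 2 = 1) : γ = 1 ∨ γ = -1 := by
  have h1 : (γ - 1) * (γ + 1) = 0 := by linear_combination h
  rcases mul_eq_zero.1 h1 with h2 | h2
  · left; linear_combination h2
  · right; linear_combination h2

/-- if `g h g⁻¹ = h c` with `c` scalar then `c = 1` or `h² ∈ Z` -/
theorem key (hp2 : p ≠ 2) (ρ : H →* Matrix.GeneralLinearGroup (Fin 2) (ZMod p)) (hinj : Function.Injective ρ) (Z : Subgroup H)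
    (hZ : ∀ h, h ∈ Z ↔ ∃ c : ZMod p, (ρ h : Matrix (Fin 2) (Fin 2) (ZMod p)) = c • 1) {g h c : H} (hc : c ∈ Z)
    (e : g * h * g⁻¹ = h * c) : c = 1 ∨ h * h ∈ Z := by
  obtain ⟨γ, hγ⟩ := (hZ c).1 hc
  have h2 : (2 : ZMod p) ≠ 0 := by
    intro h0
    have := (ZMod.natCast_eq_zero_iff 2 p).1 (by exact_mod_cast h0)
    exact hp2 ((Nat.prime_dvd_prime_iff_eq Fact.out Nat.prime_two).1 this)
  set A : Matrix (Fin 2) (Fin 2) (ZMod p) := (ρ h : Matrix (Fin 2) (Fin 2) (ZMod p)) with hA
  have e1 : (ρ g : Matrix (Fin 2) (Fin 2) (ZMod p)) * A * ((ρ g)⁻¹ : Matrix.GeneralLinearGroup (Fin 2) (ZMod p)).1 = γ • A := by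
    have := congrArg (fun x => (ρ x : Matrix (Fin 2) (Fin 2) (ZMod p))) e
    simp only [map_mul, map_inv, Units.val_mul, hγ] at this
    rw [this]
    simp [hA]
  have hdet : A.det = γ ^ 2 * A.det := by
    have := congrArg Matrix.det e1
    rw [Matrix.det_units_conj, Matrix.det_smul] at this
    simpa using this
  have hA0 : A.det ≠ 0 := by
    have := (Matrix.isUnit_iff_isUnit_det A).1 (ρ h).isUnit
    exact this.ne_zero
  have hγ2 : γ ^ 2 = 1 := by
    have : γ ^ 2 * A.det = 1 * A.det := by rw [one_mul]; exact hdet.symm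
    exact mul_right_cancel₀ hA0 this
  rcases sq_eq_one_iff_aux hγ2 with h1 | h1
  · left
    apply hinj
    apply Units.ext
    rw [hγ, h1, map_one]
    simp
  · right
    have htr : A.trace = - A.trace := by
      have := congrArg Matrix.trace e1
      rw [Matrix.trace_units_conj, Matrix.trace_smul, h1] at this
      simpa using this
    have htr0 : A.trace = 0 := by
      have h3 : (2 : ZMod p) * A.trace = 0 := by linear_combination htr
      exact (mul_eq_zero.1 h3).resolve_left h2
    rw [hZ]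
    refine ⟨-A.det, ?_⟩
    rw [map_mul, Units.val_mul, ← hA]
    rw [Matrix.trace_fin_two] at htr0
    have h11 : A 1 1 = - A 0 0 := by linear_combination htr0
    ext i j
    fin_cases i <;> fin_cases j <;>
      simp [Matrix.mul_apply, Fin.sum_univ_two, Matrix.det_fin_two, h11] <;> ring

/-- classes over the non-involutions of `H / Z` -/
theorem cls {H : Type*} [Group H] [Finite H] (p : ℕ) [Fact p.Prime] (hp2 : p ≠ 2)
    (ρ : H →* Matrix.GeneralLinearGroup (Fin 2) (ZMod p)) (hinj : Function.Injective ρ) (Z : Subgroup H) [Z.Normal]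
    (hZ : ∀ h, h ∈ Z ↔ ∃ c : ZMod p, (ρ h : Matrix (Fin 2) (Fin 2) (ZMod p)) = c • 1)
    (S : Finset (H ⧸ Z)) (hS : ∀ s ∈ S, ∀ t ∈ S, IsConj s t → s = t) (h2 : ∀ s ∈ S, orderOf s ≠ 2) :
    S.card * Nat.card Z ≤ Nat.card (ConjClasses H) := by
  classical
  have hinjf : Function.Injective (fun x : S × Z => (ConjClasses.mk ((x.1 : H ⧸ Z).out * (x.2 : H)) : ConjClasses H)) := by
    rintro ⟨⟨s, hs⟩, z⟩ ⟨⟨t, ht⟩, z'⟩ h
    obtain ⟨g, hg⟩ := isConj_iff.1 (ConjClasses.mk_eq_mk_iff_isConj.1 h)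
    simp only at hg
    have hst : IsConj s t := by
      rw [isConj_iff]
      refine ⟨(g : H ⧸ Z), ?_⟩
      have := congrArg (fun x : H => (x : H ⧸ Z)) hg
      simp only [QuotientGroup.mk_mul, QuotientGroup.mk_inv, QuotientGroup.out_eq',
        (QuotientGroup.eq_one_iff (z : H)).2 z.2, (QuotientGroup.eq_one_iff (z' : H)).2 z'.2, mul_one] at this
      exact this
    have hst' := hS s hs t ht hst
    subst hst'
    set k : H := s.out with hk
    have hc : (z' : H) * (z : H)⁻¹ ∈ Z := Z.mul_mem z'.2 (Z.inv_mem z.2)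
    have e : g * k * g⁻¹ = k * ((z' : H) * (z : H)⁻¹) := by
      have hzc := central ρ hinj Z hZ z.2 g⁻¹
      calc g * k * g⁻¹ = g * (k * z) * g⁻¹ * (z : H)⁻¹ := by
            rw [mul_assoc (g * (k * z)), ← (mul_inv_eq_iff_eq_mul.2 (by rw [mul_assoc, ← hzc, ← mul_assoc, inv_mul_cancel, one_mul]) : g⁻¹ * (z : H)⁻¹ = (z : H)⁻¹ * g⁻¹).symm]
            group
        _ = _ := by rw [hg]; group
    have hzz : (z : H) = z' := by
      rcases key hp2 ρ hinj Z hZ hc e with h1 | h1
      · exact (mul_inv_eq_one.1 h1).symm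
      · -- then `s² = 1`, so `s = 1`
        have hs2 : s * s = 1 := by
          have : ((k * k : H) : H ⧸ Z) = 1 := (QuotientGroup.eq_one_iff _).2 h1
          rw [QuotientGroup.mk_mul, hk, QuotientGroup.out_eq'] at this
          exact this
        have hs1 : s = 1 := by
          by_contra hne
          exact h2 s hs (orderOf_eq_prime (by rw [sq]; exact hs2) hne)
        have hkZ : k ∈ Z := by
          rw [← QuotientGroup.eq_one_iff, hk, QuotientGroup.out_eq', hs1]
        have h3 : k = k * ((z' : H) * (z : H)⁻¹) := by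
          rw [← e, mul_assoc, central ρ hinj Z hZ hkZ, ← mul_assoc, mul_assoc g, mul_inv_cancel_left]
        have h4 : (z' : H) * (z : H)⁻¹ = 1 := by
          have := mul_left_cancel (a := k) (b := 1) (c := (z' : H) * (z : H)⁻¹) (by rw [mul_one]; exact h3)
          exact this.symm
        exact (mul_inv_eq_one.1 h4).symm
    have : z = z' := Subtype.ext hzz
    rw [this]
  have := Nat.card_le_card_of_injective _ hinjf
  rw [Nat.card_prod] at this
  simpa using this

end Cfsg.Agent.Lib.KPRF4
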