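import Mathlib
import Cfsg.Agent.Lib.KPRF4

/-! Piece F4 of S4878 (helper2): classes over non-involutions of `H / Z`, counted over `S`. -/

set_option autoImplicit false
set_option linter.all false
set_option maxHeartbeats 400000

namespace Cfsg.Agent.Lib.KPRF4b

open Matrix Cfsg.Agent.Lib.KPRF4

/-- classes over the non-involutions of `H / Z` -/
theorem cls {H : Type*} [Group H] [Finite H] (p : ℕ) [Fact p.Prime] (hp3 : 3 ≤ p)
    (ρ : H →* Matrix.GeneralLinearGroup (Fin 2) (ZMod p)) (hinj : Function.Injective ρ) (Z : Subgroup H) [Z.Normal]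
    (hZ : ∀ h, h ∈ Z ↔ ∃ c : ZMod p, (ρ h : Matrix (Fin 2) (Fin 2) (ZMod p)) = c • 1)
    (S : Finset (H ⧸ Z)) (hS : ∀ s ∈ S, ∀ t ∈ S, IsConj s t → s = t) (h2 : ∀ s ∈ S, orderOf s ≠ 2) :
    S.card * Nat.card Z ≤ Nat.card {c : ConjClasses H // ∃ h : H, ConjClasses.mk h = c ∧
      ∃ a ∈ S, IsConj (QuotientGroup.mk h : H ⧸ Z) a} := by
  classical
  have hp2 : p ≠ 2 := by omega
  have hmem : ∀ x : S × Z, ∃ h : H, ConjClasses.mk h = (ConjClasses.mk ((x.1 : H ⧸ Z).out * (x.2 : H)) : ConjClasses H) ∧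
      ∃ a ∈ S, IsConj (QuotientGroup.mk h : H ⧸ Z) a := by
    rintro ⟨⟨s, hs⟩, z⟩
    refine ⟨_, rfl, s, hs, ?_⟩
    have : (QuotientGroup.mk (s.out * (z : H)) : H ⧸ Z) = s := by
      rw [QuotientGroup.mk_mul, QuotientGroup.out_eq', (QuotientGroup.eq_one_iff (z : H)).2 z.2, mul_one]
    rw [this]
  have hinjf : Function.Injective (fun x : S × Z => (⟨(ConjClasses.mk ((x.1 : H ⧸ Z).out * (x.2 : H)) : ConjClasses H), hmem x⟩ :
      {c : ConjClasses H // ∃ h : H, ConjClasses.mk h = c ∧ ∃ a ∈ S, IsConj (QuotientGroup.mk h : H ⧸ Z) a})) := by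
    rintro ⟨⟨s, hs⟩, z⟩ ⟨⟨t, ht⟩, z'⟩ h
    rw [Subtype.mk.injEq] at h
    obtain ⟨g, hg⟩ := isConj_iff.1 (ConjClasses.mk_eq_mk_iff_isConj.1 h)
    simp only at hg
    have hst : IsConj s t := by
      rw [isConj_iff]
      refine ⟨(g : H ⧸ Z), ?_⟩
      have := congrArg (fun x : H => (x : H ⧸ Z)) hg
      simp only [QuotientGroup.mk_mul, QuotientGroup.mk_inv, QuotientGroup.out_eq',
        (QuotientGroup.eq_one_iff (z : H)).2 z.2, (QuotientGroup.eq_one_iff (z' : H)).2 z'.2, mul_one] at this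
      exact this
    have hst' := hS s hs t ht hst
    subst hst'
    set k : H := s.out with hk
    have hc : (z' : H) * (z : H)⁻¹ ∈ Z := Z.mul_mem z'.2 (Z.inv_mem z.2)
    have e : g * k * g⁻¹ = k * ((z' : H) * (z : H)⁻¹) := by
      have hzc := central ρ hinj Z hZ z.2 g⁻¹
      calc g * k * g⁻¹ = g * (k * z) * g⁻¹ * (z : H)⁻¹ := by
            rw [mul_assoc (g * (k * z)), ← (mul_inv_eq_iff_eq_mul.2 (by rw [mul_assoc, ← hzc, ← mul_assoc, inv_mul_cancel, one_mul]) : g⁻¹ * (z : H)⁻¹ = (z : H)⁻¹ * g⁻¹).symm]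
            group
        _ = _ := by rw [hg]; group
    have hzz : (z : H) = z' := by
      rcases key hp2 ρ hinj Z hZ hc e with h1 | h1
      · exact (mul_inv_eq_one.1 h1).symm
      · have hs2 : s * s = 1 := by
          have : ((k * k : H) : H ⧸ Z) = 1 := (QuotientGroup.eq_one_iff _).2 h1
          rw [QuotientGroup.mk_mul, hk, QuotientGroup.out_eq'] at this
          exact this
        have hs1 : s = 1 := by
          by_contra hne
          exact h2 s hs (orderOf_eq_prime (by rw [sq]; exact hs2) hne)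
        have hkZ : k ∈ Z := by
          rw [← QuotientGroup.eq_one_iff, hk, QuotientGroup.out_eq', hs1]
        have h3 : k = k * ((z' : H) * (z : H)⁻¹) := by
          rw [← e, mul_assoc, central ρ hinj Z hZ hkZ, ← mul_assoc, mul_assoc g, mul_inv_cancel_left]
        have h4 : (z' : H) * (z : H)⁻¹ = 1 := by
          have := mul_left_cancel (a := k) (b := 1) (c := (z' : H) * (z : H)⁻¹) (by rw [mul_one]; exact h3)
          exact this.symm
        exact (mul_inv_eq_one.1 h4).symm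
    have : z = z' := Subtype.ext hzz
    rw [this]
  have := Nat.card_le_card_of_injective _ hinjf
  rw [Nat.card_prod] at this
  simpa using this

end Cfsg.Agent.Lib.KPRF4b
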