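import Mathlib
import Cfsg.Agent.Lib.KPR0

/-! Piece K2 of S4878 (helper30). -/

set_option autoImplicit false

open Cfsg.Agent.Lib.KPR

namespace Cfsg.Agent.Lib.KPRK2

section
variable {Q : Type*} [Group Q] [Finite Q] {p n : ℕ} [Fact p.Prime] {P H : Subgroup Q}
    {e : ↥P ≃ (Fin n → ZMod p)} {ρ : ↥H →* Matrix.GeneralLinearGroup (Fin n) (ZMod p)}

theorem red_e_one (h : Red p n P H e ρ) : e 1 = 0 := by
  have := h.emul 1 1
  rw [mul_one] at this
  exact left_eq_add.mp this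

theorem red_e_ne (h : Red p n P H e ρ) {x : P} (hx : x ≠ 1) : e x ≠ 0 := by
  intro h0
  apply hx
  apply e.injective
  rw [h0, red_e_one h]

theorem red_exists (h : Red p n P H e ρ) (q : Q) : ∃ x ∈ P, ∃ y ∈ H, x * y = q := by
  have hN := h.norm
  have hq : q ∈ ((P ⊔ H : Subgroup Q) : Set Q) := by rw [h.sup]; trivial
  rw [Subgroup.normal_mul] at hq
  exact hq

theorem red_card_P (h : Red p n P H e ρ) : Nat.card P = p ^ n := by
  rw [Nat.card_congr e, Nat.card_fun]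
  simp

theorem red_compl (h : Red p n P H e ρ) : Subgroup.IsComplement' P H := by
  have hN := h.norm
  apply Subgroup.isComplement'_of_disjoint_and_mul_eq_univ
  · rw [disjoint_iff, h.inf]
  · rw [← Subgroup.normal_mul, h.sup]
    rfl

theorem red_card (h : Red p n P H e ρ) : Nat.card Q = p ^ n * Nat.card H := by
  rw [← (red_compl h).card_mul, red_card_P h]

theorem red_comm (h : Red p n P H e ρ) {x y : Q} (hx : x ∈ P) (hy : y ∈ H) (hc : y * x = x * y) :
    (ρ ⟨y, hy⟩ : Matrix (Fin n) (Fin n) (ZMod p)).mulVec (e ⟨x, hx⟩) = e ⟨x, hx⟩ := by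
  have := h.eact ⟨y, hy⟩ ⟨x, hx⟩ ⟨x, hx⟩ (by
    show x = y * x * y⁻¹
    rw [hc]; group)
  exact this.symm

theorem red_inj_of_card (h : Red p n P H e ρ) (hH : Nat.card H = p ^ n - 1) {v : Fin n → ZMod p}
    (hv : v ≠ 0) {y : H} (hy : (ρ y : Matrix (Fin n) (Fin n) (ZMod p)).mulVec v = v) : y = 1 := by
  classical
  have hinj : ∀ (z : H) (w : Fin n → ZMod p), w ≠ 0 →
      (ρ z : Matrix (Fin n) (Fin n) (ZMod p)).mulVec w ≠ 0 := by
    intro z w hw h0
    apply hw
    have h1 : ((ρ z⁻¹ : Matrix.GeneralLinearGroup (Fin n) (ZMod p)) :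
        Matrix (Fin n) (Fin n) (ZMod p)).mulVec
        ((ρ z : Matrix (Fin n) (Fin n) (ZMod p)).mulVec w) = w := by
      rw [Matrix.mulVec_mulVec, ← Units.val_mul, ← map_mul, inv_mul_cancel, map_one]
      simp
    rw [← h1, h0, Matrix.mulVec_zero]
  let f : H → {w : Fin n → ZMod p // w ≠ 0} := fun z => ⟨(ρ z :
    Matrix (Fin n) (Fin n) (ZMod p)).mulVec v, hinj z v hv⟩
  have hsurj : Function.Surjective f := by
    rintro ⟨w, hw⟩
    obtain ⟨z, hz⟩ := h.trans v w hv hw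
    exact ⟨z, Subtype.ext hz⟩
  have hcard : Nat.card {w : Fin n → ZMod p // w ≠ 0} = p ^ n - 1 := by
    have : Fintype {w : Fin n → ZMod p // w ≠ 0} := Fintype.ofFinite _
    rw [Nat.card_eq_fintype_card]
    have := Fintype.card_subtype_compl (fun w : Fin n → ZMod p => w = 0)
    rw [Fintype.card_subtype_eq, Fintype.card_fun, Fintype.card_fin, ZMod.card] at this
    rw [← this]
  have hbij : Function.Bijective f :=
    (Nat.bijective_iff_surjective_and_card f).mpr ⟨hsurj, by rw [hH, hcard]⟩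
  apply hbij.1
  apply Subtype.ext
  show (ρ y : Matrix (Fin n) (Fin n) (ZMod p)).mulVec v =
    (ρ 1 : Matrix (Fin n) (Fin n) (ZMod p)).mulVec v
  rw [hy, map_one]
  simp

open scoped Pointwise in
theorem red_frob (h : Red p n P H e ρ) (hH : Nat.card H = p ^ n - 1) (h1 : H ≠ ⊥) :
    Cfsg.IsFrobeniusComplement H ∧ (∀ x ∈ P, x ≠ 1 → ∀ y ∈ H, y * x = x * y → y = 1) := by
  have hfix : ∀ x ∈ P, x ≠ 1 → ∀ y ∈ H, y * x = x * y → y = 1 := by
    intro x hx hx1 y hy hc
    have hx1' : (⟨x, hx⟩ : P) ≠ 1 := fun h0 => hx1 (congrArg Subtype.val h0)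
    have := red_inj_of_card h hH (red_e_ne h hx1') (red_comm h hx hy hc)
    exact congrArg Subtype.val this
  refine ⟨⟨h1, ?_, ?_⟩, hfix⟩
  · intro htop
    have hbot := h.inf
    rw [htop, inf_top_eq] at hbot
    have hc := red_card_P h
    rw [hbot, Subgroup.card_bot] at hc
    have hp := (Fact.out : p.Prime).two_le
    have : p ^ 1 ≤ p ^ n := Nat.pow_le_pow_right (by omega) h.pos
    rw [pow_one] at this
    omega
  · intro g hg
    rw [eq_bot_iff]
    rintro y ⟨hyH, hyg⟩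
    rw [Subgroup.mem_bot]
    obtain ⟨x, hx, k, hk, rfl⟩ := red_exists h g
    have hyg' : y ∈ MulAut.conj (x * k) • H := hyg
    rw [Subgroup.mem_pointwise_smul_iff_inv_smul_mem] at hyg'
    have hz : (x * k)⁻¹ * y * (x * k) ∈ H := by
      have : (MulAut.conj (x * k))⁻¹ • y = (x * k)⁻¹ * y * (x * k) := by
        rw [← map_inv]
        show MulAut.conj (x * k)⁻¹ y = _
        rw [MulAut.conj_apply, inv_inv]
      rw [this] at hyg'
      exact hyg'
    obtain ⟨z, hzdef⟩ : ∃ z, z = x⁻¹ * y * x := ⟨_, rfl⟩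
    have hzH : z ∈ H := by
      have h2 : k * ((x * k)⁻¹ * y * (x * k)) * k⁻¹ ∈ H :=
        H.mul_mem (H.mul_mem hk hz) (H.inv_mem hk)
      have h3 : k * ((x * k)⁻¹ * y * (x * k)) * k⁻¹ = z := by rw [hzdef]; group
      rwa [h3] at h2
    have hx1 : x ≠ 1 := by
      rintro rfl
      apply hg
      rw [one_mul]
      exact hk
    have hP : y * z⁻¹ ∈ P := by
      have h2 : y * z⁻¹ = x * (z * x⁻¹ * z⁻¹) := by rw [hzdef]; group
      rw [h2]
      exact P.mul_mem hx (h.norm.conj_mem _ (P.inv_mem hx) z)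
    have hyz : y * z⁻¹ ∈ P ⊓ H := ⟨hP, H.mul_mem hyH (H.inv_mem hzH)⟩
    rw [h.inf, Subgroup.mem_bot] at hyz
    have hyz' : y = z := by
      rw [mul_inv_eq_one] at hyz
      exact hyz
    apply hfix x hx hx1 y hyH
    have : x * z = y * x := by rw [hzdef]; group
    rw [← this, ← hyz']

end

theorem frob {Q : Type*} [Group Q] [Finite Q] [Fact (Nat.Prime 11)] (P H : Subgroup Q)
    (e : ↥P ≃ (Fin 2 → ZMod 11)) (ρ : ↥H →* Matrix.GeneralLinearGroup (Fin 2) (ZMod 11))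
    (h : Red 11 2 P H e ρ) (hH : Nat.card H = 120) :
    Nat.card Q = 121 * 120 ∧ Cfsg.IsFrobeniusComplement H ∧
      (∀ x ∈ P, x ≠ 1 → ∀ y ∈ H, y * x = x * y → y = 1) := by
  refine ⟨by rw [red_card h, hH]; norm_num, red_frob h (by rw [hH]; norm_num) ?_⟩
  rintro rfl
  rw [Subgroup.card_bot] at hH
  omega

end Cfsg.Agent.Lib.KPRK2
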