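import Mathlib.GroupTheory.CommutingProbability
import Mathlib.GroupTheory.Index
import Mathlib.Tactic

set_option autoImplicit false

namespace Cfsg.Agent.Lib.KR66A67

theorem cen_le {G : Type} [Group G] [Finite G] (H : Subgroup G) (x : G) :
    Nat.card {y : G // Commute x y} ≤ H.index * Nat.card {y : H // Commute x (y : G)} := by
  classical
  let C : Subgroup G := Subgroup.centralizer {x}
  have e1 : Nat.card {y : G // Commute x y} = Nat.card C := by
    apply Nat.card_congr
    refine Equiv.subtypeEquivRight (fun y => ?_)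
    show Commute x y ↔ y ∈ Subgroup.centralizer {x}
    rw [Subgroup.mem_centralizer_singleton_iff]
    exact ⟨fun h => h.eq.symm, fun h => Eq.symm h⟩
  have e2 : Nat.card (H.subgroupOf C) = Nat.card {y : H // Commute x (y : G)} := by
    apply Nat.card_congr
    refine ⟨fun y => ⟨⟨y.1.1, y.2⟩, ?_⟩, fun y => ⟨⟨y.1.1, ?_⟩, y.1.2⟩, fun _ => rfl, fun _ => rfl⟩
    · have := y.1.2
      rw [Subgroup.mem_centralizer_singleton_iff] at this
      exact Eq.symm this
    · rw [Subgroup.mem_centralizer_singleton_iff]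
      exact y.2.eq.symm
  have e3 : (H.subgroupOf C).index ≤ H.index := by
    have h1 : H.relIndex C ≤ H.index := by
      have := Subgroup.relIndex_le_of_le_right (H := H) (K := C) (L := ⊤) le_top (by
        rw [Subgroup.relIndex_top_right]; exact Subgroup.index_ne_zero_of_finite)
      rwa [Subgroup.relIndex_top_right] at this
    exact h1
  rw [e1, ← Subgroup.card_mul_index (H.subgroupOf C), e2, mul_comm]
  exact Nat.mul_le_mul_right _ e3

theorem kle {G : Type} [Group G] [Finite G] (H : Subgroup G) :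
    Nat.card (ConjClasses G) ≤ H.index * Nat.card (ConjClasses H) := by
  classical
  have := Fintype.ofFinite G
  have := Fintype.ofFinite H
  have a1 : Nat.card {p : G × G // Commute p.1 p.2} = ∑ x : G, Nat.card {y : G // Commute x y} := by
    rw [← Nat.card_sigma]
    exact Nat.card_congr ⟨fun p => ⟨p.1.1, ⟨p.1.2, p.2⟩⟩, fun p => ⟨(p.1, p.2.1), p.2.2⟩, fun _ => rfl, fun _ => rfl⟩
  have a2 : Nat.card {p : G × H // Commute p.1 (p.2 : G)} = ∑ x : G, Nat.card {y : H // Commute x (y : G)} := by
    rw [← Nat.card_sigma]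
    exact Nat.card_congr ⟨fun p => ⟨p.1.1, ⟨p.1.2, p.2⟩⟩, fun p => ⟨(p.1, p.2.1), p.2.2⟩, fun _ => rfl, fun _ => rfl⟩
  have a3 : Nat.card {p : G × H // Commute p.1 (p.2 : G)} = ∑ y : H, Nat.card {x : G // Commute (y : G) x} := by
    rw [← Nat.card_sigma]
    exact Nat.card_congr ⟨fun p => ⟨p.1.2, ⟨p.1.1, p.2.symm⟩⟩, fun p => ⟨(p.2.1, p.1), p.2.2.symm⟩, fun _ => rfl, fun _ => rfl⟩
  have a4 : Nat.card {p : H × H // Commute p.1 p.2} = ∑ y : H, Nat.card {x : H // Commute (y : G) (x : G)} := by
    rw [← Nat.card_sigma]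
    refine Nat.card_congr ⟨fun p => ⟨p.1.1, ⟨p.1.2, ?_⟩⟩, fun p => ⟨(p.1, p.2.1), ?_⟩, fun _ => rfl, fun _ => rfl⟩
    · exact congrArg Subtype.val p.2.eq
    · exact Subtype.ext p.2.2.eq
  have b1 : Nat.card {p : G × G // Commute p.1 p.2} ≤ H.index * (H.index * Nat.card {p : H × H // Commute p.1 p.2}) := by
    rw [a1]
    calc ∑ x : G, Nat.card {y : G // Commute x y} ≤ ∑ x : G, H.index * Nat.card {y : H // Commute x (y : G)} :=
          Finset.sum_le_sum fun x _ => cen_le H x
      _ = H.index * ∑ y : H, Nat.card {x : G // Commute (y : G) x} := by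
          rw [← Finset.mul_sum, ← a2, a3]
      _ ≤ H.index * ∑ y : H, H.index * Nat.card {x : H // Commute (y : G) (x : G)} :=
          Nat.mul_le_mul_left _ (Finset.sum_le_sum fun y _ => cen_le H y)
      _ = _ := by rw [← Finset.mul_sum, ← a4]
  rw [card_comm_eq_card_conjClasses_mul_card, card_comm_eq_card_conjClasses_mul_card] at b1
  have c1 : Nat.card H * H.index = Nat.card G := Subgroup.card_mul_index H
  have hpos : 0 < Nat.card G := Nat.card_pos
  apply Nat.le_of_mul_le_mul_right _ hpos
  calc _ ≤ _ := b1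
    _ = H.index * Nat.card (ConjClasses H) * (Nat.card H * H.index) := by ring
    _ = _ := by rw [c1]

theorem kge {G : Type} [Group G] [Finite G] (H : Subgroup G) :
    Nat.card (ConjClasses H) ≤ H.index * Nat.card (ConjClasses G) := by
  classical
  have b1 : Nat.card {p : H × H // Commute p.1 p.2} ≤ Nat.card {p : G × G // Commute p.1 p.2} := by
    apply Nat.card_le_card_of_injective (fun p => ⟨((p.1.1 : G), (p.1.2 : G)), congrArg Subtype.val p.2.eq⟩)
    intro p q h
    have h1 := congrArg (fun z => z.1.1) h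
    have h2 := congrArg (fun z => z.1.2) h
    exact Subtype.ext (Prod.ext (Subtype.ext h1) (Subtype.ext h2))
  rw [card_comm_eq_card_conjClasses_mul_card, card_comm_eq_card_conjClasses_mul_card] at b1
  have c1 : Nat.card H * H.index = Nat.card G := Subgroup.card_mul_index H
  have hpos : 0 < Nat.card H := Nat.card_pos
  apply Nat.le_of_mul_le_mul_right _ hpos
  calc _ ≤ _ := b1
    _ = Nat.card (ConjClasses G) * (Nat.card H * H.index) := by rw [c1]
    _ = _ := by ring

end Cfsg.Agent.Lib.KR66A67
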