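import Mathlib

set_option autoImplicit false

namespace Cfsg.Agent.Lib.KR66B57

open Equiv

theorem comm3 {W : Type} [Fintype W] [DecidableEq W] (x y : Perm W) (a : W)
    (hxa : x a ≠ a) (hya : y a ≠ a) (h : ∀ w, w ≠ a → x w = w ∨ y w = w) :
    (x * y * x⁻¹ * y⁻¹).IsThreeCycle := by
  have hxaa : y (x a) = x a := by
    rcases h (x a) hxa with h1 | h1
    · exact absurd (x.injective h1) hxa
    · exact h1
  have hyaa : x (y a) = y a := by
    rcases h (y a) hya with h1 | h1
    · exact h1
    · exact absurd (y.injective h1) hya
  have hne : x a ≠ y a := by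
    intro he
    apply hya
    have : y (y a) = y a := by rw [← he]; exact hxaa
    exact y.injective this
  have key : x * y * x⁻¹ * y⁻¹ = swap a (y a) * swap a (x a) := by
    rw [mul_inv_eq_iff_eq_mul, mul_inv_eq_iff_eq_mul]
    ext w
    simp only [Perm.mul_apply]
    -- goal : x (y w) = swap a (y a) (swap a (x a) (y (x w)))
    by_cases hw : w = a
    · subst hw
      rw [hyaa, hxaa, swap_apply_right, swap_apply_left]
    · rcases h w hw with h1 | h1
      · -- x w = w
        rw [h1]
        by_cases hyw : y w = a
        · rw [hyw, swap_apply_left, swap_apply_of_ne_of_ne hxa hne]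
        · have h2 : y w ≠ y a := fun h3 => hw (y.injective h3)
          have h3 : y w ≠ x a := by
            intro h4
            have : y w = y (x a) := by rw [hxaa]; exact h4
            have h5 : w = x a := y.injective this
            rw [h5] at h1
            exact hxa (x.injective h1)
          rw [swap_apply_of_ne_of_ne hyw h3, swap_apply_of_ne_of_ne hyw h2]
          rcases h (y w) hyw with h6 | h6
          · exact h6
          · have h7 : y w = w := y.injective h6
            rw [h7, h1]
      · -- y w = w
        rw [h1]
        by_cases hxw : x w = a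
        · rw [hxw]
          rw [swap_apply_of_ne_of_ne hya (Ne.symm hne), swap_apply_right]
        · have h2 : x w ≠ x a := fun h3 => hw (x.injective h3)
          have h3 : y (x w) = x w := by
            rcases h (x w) hxw with h6 | h6
            · have h7 : x w = w := x.injective h6
              rw [h7]; exact h1
            · exact h6
          have h4 : x w ≠ y a := by
            intro h5
            have : x w = x (y a) := by rw [hyaa]; exact h5
            have h6 : w = y a := x.injective this
            rw [h6] at h1
            exact hya (y.injective h1)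
          rw [h3, swap_apply_of_ne_of_ne hxw h2, swap_apply_of_ne_of_ne hxw h4]
  rw [key]
  exact Perm.isThreeCycle_swap_mul_swap_same (Ne.symm hya) (Ne.symm hxa) (Ne.symm hne)

theorem base {G W : Type} [Group G] [Finite G] [Fintype W] [DecidableEq W] [MulAction G W]
    [FaithfulSMul G W] (hp : MulAction.IsPreprimitive G W) :
    (alternatingGroup W ≤ (MulAction.toPermHom G W).range) ∨
      ∃ D : Set W, 2 * Nat.card D ≤ Nat.card W ∧ ∀ g : G, (∀ x ∈ D, g • x = x) → g = 1 := by
  classical
  by_contra hcon
  push Not at hcon
  obtain ⟨hA, hB⟩ := hcon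
  -- minimal base
  have hex : ∃ n, ∃ D : Finset W, D.card = n ∧ ∀ g : G, (∀ x ∈ D, g • x = x) → g = 1 := by
    refine ⟨_, Finset.univ, rfl, ?_⟩
    intro g hg
    apply FaithfulSMul.eq_of_smul_eq_smul (α := W)
    intro x
    rw [hg x (Finset.mem_univ x), one_smul]
  obtain ⟨D, hDn, hD⟩ := Nat.find_spec hex
  have hmin : ∀ E : Finset W, E.card < D.card → ∃ g : G, (∀ x ∈ E, g • x = x) ∧ g ≠ 1 := by
    intro E hE
    by_contra h
    push Not at h
    rw [hDn] at hE
    exact Nat.find_min hex hE ⟨E, rfl, h⟩
  have hbig : Nat.card W < 2 * D.card := by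
    by_contra h
    push Not at h
    obtain ⟨g, hg, hg1⟩ := hB (D : Set W) (by simpa using h)
    exact hg1 (hD g (fun x hx => hg x (by exact_mod_cast hx)))
  rw [Nat.card_eq_fintype_card] at hbig
  have hcompl : Dᶜ.card < D.card := by
    rw [Finset.card_compl]; omega
  obtain ⟨y, hy, hy1⟩ := hmin _ hcompl
  have hya : ∃ a : W, y • a ≠ a := by
    by_contra h
    push Not at h
    apply hy1
    apply FaithfulSMul.eq_of_smul_eq_smul (α := W)
    intro x
    rw [h x, one_smul]
  obtain ⟨a, hya⟩ := hya
  have haD : a ∈ D := by
    by_contra h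
    exact hya (hy a (Finset.mem_compl.mpr h))
  obtain ⟨x, hx, hx1⟩ := hmin (D.erase a) (Finset.card_erase_lt_of_mem haD)
  have hxa : x • a ≠ a := by
    intro h
    apply hx1
    apply hD
    intro w hw
    by_cases hwa : w = a
    · rw [hwa]; exact h
    · exact hx w (Finset.mem_erase.mpr ⟨hwa, hw⟩)
  apply hA
  have hprim : MulAction.IsPreprimitive (MulAction.toPermHom G W).range W := by
    let f : W →ₑ[(MulAction.toPermHom G W).rangeRestrict] W :=
      { toFun := id
        map_smul' := fun g w => rfl }
    exact MulAction.IsPreprimitive.of_surjective (f := f) Function.surjective_id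
  have h3 := comm3 (MulAction.toPermHom G W x) (MulAction.toPermHom G W y) a hxa hya (by
    intro w hw
    by_cases hwD : w ∈ D
    · left; exact hx w (Finset.mem_erase.mpr ⟨hw, hwD⟩)
    · right; exact hy w (Finset.mem_compl.mpr hwD))
  refine Equiv.Perm.alternatingGroup_le_of_isPreprimitive_of_isThreeCycle_mem hprim h3 ?_
  exact ⟨x * y * x⁻¹ * y⁻¹, by simp only [map_mul, map_inv]⟩

end Cfsg.Agent.Lib.KR66B57
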