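import Mathlib

set_option autoImplicit false

namespace Cfsg.Agent.Lib.KR66C57

theorem ksn {W : Type} [Fintype W] [DecidableEq W] [Nonempty W] :
    2 * Nat.card (ConjClasses (Equiv.Perm W)) ≤ 2 ^ Nat.card W := by
  classical
  have h1 : Nat.card (ConjClasses (Equiv.Perm W)) ≤ Fintype.card (Fintype.card W).Partition := by
    rw [← Nat.card_eq_fintype_card]
    let f : ConjClasses (Equiv.Perm W) → (Fintype.card W).Partition :=
      Quotient.lift (fun σ => σ.partition) (fun a b h => Equiv.Perm.partition_eq_of_isConj.mp h)
    refine Nat.card_le_card_of_injective f ?_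
    intro a b
    induction a using Quotient.inductionOn
    induction b using Quotient.inductionOn
    intro h
    exact Quotient.sound (Equiv.Perm.partition_eq_of_isConj.mpr h)
  have h2 : Fintype.card (Fintype.card W).Partition ≤ 2 ^ (Fintype.card W - 1) := by
    rw [← composition_card]
    exact Fintype.card_le_of_surjective _ Nat.Partition.ofComposition_surj
  have h3 : 0 < Fintype.card W := Fintype.card_pos
  rw [Nat.card_eq_fintype_card (α := W)]
  obtain ⟨n, hn⟩ : ∃ n, Fintype.card W = n + 1 := ⟨Fintype.card W - 1, by omega⟩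
  rw [hn] at h2 ⊢
  simp only [Nat.add_sub_cancel] at h2
  rw [hn] at h1
  rw [pow_succ]
  omega

end Cfsg.Agent.Lib.KR66C57
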