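import Cfsg.Agent.S0033
import Cfsg.Agent.S0108
import Cfsg.Agent.Lib.PNilp
import Cfsg.Agent.Lib.NilpMax2
import Cfsg.Agent.Lib.ThompsonJ
import Cfsg.Agent.Lib.Cores3
import Cfsg.Agent.Lib.Fitting
import Cfsg.Agent.Lib.FrobAction2

set_option autoImplicit false
set_option linter.unusedSectionVars false

/-!
Kegel's theorem: a finite group with a splitting automorphism of prime order is nilpotent.
-/

namespace Cfsg.Agent.Lib.KgNorm

open Cfsg Subgroup

universe u

/-- `a` normalizes `L` and all elements of the coset `L a` have `p`-th power `1` -/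
structure Spl (p : ℕ) {Γ : Type u} [Group Γ] (L : Subgroup Γ) (a : Γ) : Prop where
  norm : a ∈ normalizer (L : Set Γ)
  pow : ∀ l ∈ L, (l * a) ^ p = 1

theorem Spl.equiv {p : ℕ} {Γ : Type u} [Group Γ] {L : Subgroup Γ} {a : Γ} (h : Spl p L a) {Δ : Subgroup Γ}
    (hL : L ≤ Δ) (ha : a ∈ Δ) : Spl p (L.subgroupOf Δ) ⟨a, ha⟩ := by
  refine ⟨?_, ?_⟩
  · rw [mem_normalizer_iff]
    intro x
    have := mem_normalizer_iff.1 h.norm x
    exact this
  · intro l hl
    exact Subtype.ext (h.pow l hl)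

section Step

variable {p : ℕ} {Γ : Type u} [Group Γ] [Finite Γ] (G : Subgroup Γ) [hGn : G.Normal] (a : Γ)

/-- the induction hypothesis -/
def IH (p n : ℕ) : Prop := ∀ (Δ : Type u) [Group Δ] [Finite Δ] (L : Subgroup Δ) (b : Δ), Spl p L b →
  Nat.card L < n → Group.IsNilpotent L

variable {G} {a}

theorem nilp_sub (h : Spl p G a) (ih : IH.{u} p (Nat.card G)) {L : Subgroup Γ} (hL : L ≤ G) (hLG : L ≠ G) {g : Γ}
    (hg : g ∈ G) (hn : g * a ∈ normalizer (L : Set Γ)) : Group.IsNilpotent L := by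
  refine ih Γ L (g * a) ⟨hn, fun l hl => ?_⟩ ?_
  · rw [← mul_assoc]
    exact h.pow _ (mul_mem (hL hl) hg)
  · exact Set.ncard_lt_ncard (SetLike.coe_ssubset_coe.2 (lt_of_le_of_ne hL hLG)) (Set.toFinite _)

theorem nilp_normal (h : Spl p G a) (ih : IH.{u} p (Nat.card G)) {L : Subgroup Γ} [hLn : L.Normal] (hL : L ≤ G)
    (hLG : L ≠ G) : Group.IsNilpotent L :=
  nilp_sub h ih hL hLG (one_mem G) (by rw [normalizer_eq_top]; trivial)

theorem nilp_quot (h : Spl p G a) (ih : IH.{u} p (Nat.card G)) {N : Subgroup Γ} [hNn : N.Normal] (hN : N ≤ G)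
    (hN1 : N ≠ ⊥) : Group.IsNilpotent (G.map (QuotientGroup.mk' N) : Subgroup (Γ ⧸ N)) := by
  refine ih (Γ ⧸ N) _ (QuotientGroup.mk' N a) ⟨?_, ?_⟩ ?_
  · have : (G.map (QuotientGroup.mk' N)).Normal := Subgroup.Normal.map hGn _ (QuotientGroup.mk'_surjective N)
    rw [normalizer_eq_top]; trivial
  · rintro _ ⟨g, hg, rfl⟩
    rw [← map_mul, ← map_pow, h.pow g hg, map_one]
  · have h1 := Cores.card_map_mk hN
    have h2 : 1 < Nat.card N := by
      rw [Finite.one_lt_card_iff_nontrivial]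
      exact (nontrivial_iff_ne_bot N).2 hN1
    have h3 : 0 < Nat.card (G.map (QuotientGroup.mk' N) : Subgroup (Γ ⧸ N)) := Nat.card_pos
    rw [← h1]
    nlinarith

/-- two normal subgroups with nilpotent quotients and trivial intersection -/
theorem nilp_of_two {V W : Subgroup Γ} [hV : V.Normal] [hW : W.Normal] (hVW : V ⊓ W = ⊥)
    (h1 : Group.IsNilpotent (G.map (QuotientGroup.mk' V) : Subgroup (Γ ⧸ V)))
    (h2 : Group.IsNilpotent (G.map (QuotientGroup.mk' W) : Subgroup (Γ ⧸ W))) : Group.IsNilpotent G := by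
  let f : G →* (G.map (QuotientGroup.mk' V) : Subgroup (Γ ⧸ V)) × (G.map (QuotientGroup.mk' W) : Subgroup (Γ ⧸ W)) :=
    ((QuotientGroup.mk' V).subgroupMap G).prod ((QuotientGroup.mk' W).subgroupMap G)
  have hf : Function.Injective f := by
    rw [injective_iff_map_eq_one]
    intro x hx
    have e1 : QuotientGroup.mk' V (x : Γ) = 1 := congrArg (fun z => (z.1 : Γ ⧸ V)) hx
    have e2 : QuotientGroup.mk' W (x : Γ) = 1 := congrArg (fun z => (z.2 : Γ ⧸ W)) hx
    have e3 : (x : Γ) ∈ V ⊓ W := ⟨(QuotientGroup.eq_one_iff _).1 e1, (QuotientGroup.eq_one_iff _).1 e2⟩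
    rw [hVW, mem_bot] at e3
    exact Subtype.ext e3
  have e := MonoidHom.ofInjective hf
  have : Group.IsNilpotent f.range := inferInstance
  exact Group.nilpotent_of_mulEquiv e.symm

theorem nilp_of_central {V : Subgroup Γ} [hV : V.Normal] (hVc : ∀ v ∈ V, ∀ g ∈ G, g * v = v * g)
    (h1 : Group.IsNilpotent (G.map (QuotientGroup.mk' V) : Subgroup (Γ ⧸ V))) : Group.IsNilpotent G := by
  refine Subgroup.isNilpotent_of_ker_le_center ((QuotientGroup.mk' V).subgroupMap G) ?_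
  intro x hx
  rw [mem_center_iff]
  intro g
  have e1 : QuotientGroup.mk' V (x : Γ) = 1 := congrArg Subtype.val hx
  exact Subtype.ext (hVc x ((QuotientGroup.eq_one_iff _).1 e1) g g.2)

theorem mem_normalizer_inf_normalizer {A B : Subgroup Γ} {n : Γ} (hA : n ∈ normalizer (A : Set Γ))
    (hB : n ∈ normalizer (B : Set Γ)) : n ∈ normalizer ((A ⊓ normalizer (B : Set Γ) : Subgroup Γ) : Set Γ) := by
  rw [mem_normalizer_iff] at hA ⊢
  intro x
  constructor
  · intro hx
    obtain ⟨h1, h2⟩ := Subgroup.mem_inf.1 hx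
    exact Subgroup.mem_inf.2 ⟨(hA x).1 h1, (normalizer (B : Set Γ)).mul_mem ((normalizer (B : Set Γ)).mul_mem hB h2)
      ((normalizer (B : Set Γ)).inv_mem hB)⟩
  · intro hx
    obtain ⟨h1, h2⟩ := Subgroup.mem_inf.1 hx
    refine Subgroup.mem_inf.2 ⟨(hA x).2 h1, ?_⟩
    have : x = n⁻¹ * (n * x * n⁻¹) * n := by group
    rw [this]
    exact (normalizer (B : Set Γ)).mul_mem ((normalizer (B : Set Γ)).mul_mem ((normalizer (B : Set Γ)).inv_mem hB) h2) hB

theorem mem_normalizer_inf_centralizer {A B : Subgroup Γ} {n : Γ} (hA : n ∈ normalizer (A : Set Γ))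
    (hB : n ∈ normalizer (B : Set Γ)) : n ∈ normalizer ((A ⊓ centralizer (B : Set Γ) : Subgroup Γ) : Set Γ) := by
  have key : ∀ (A B : Subgroup Γ) (n : Γ), n ∈ normalizer (A : Set Γ) → n ∈ normalizer (B : Set Γ) →
      ∀ x ∈ A ⊓ centralizer (B : Set Γ), n * x * n⁻¹ ∈ A ⊓ centralizer (B : Set Γ) := by
    intro A B n hA hB x hx
    obtain ⟨h1, h2⟩ := Subgroup.mem_inf.1 hx
    refine Subgroup.mem_inf.2 ⟨(mem_normalizer_iff.1 hA x).1 h1, ?_⟩
    rw [mem_centralizer_iff] at *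
    intro b hb
    have h3 := h2 (n⁻¹ * b * n) ((mem_normalizer_iff''.1 hB b).1 hb)
    calc b * (n * x * n⁻¹) = n * ((n⁻¹ * b * n) * x) * n⁻¹ := by group
      _ = n * (x * (n⁻¹ * b * n)) * n⁻¹ := by rw [h3]
      _ = _ := by group
  rw [mem_normalizer_iff]
  intro x
  constructor
  · exact key A B n hA hB x
  · intro hx
    have h1 := key A B n⁻¹ (inv_mem hA) (inv_mem hB) _ hx
    have : n⁻¹ * (n * x * n⁻¹) * n⁻¹⁻¹ = x := by group
    rwa [this] at h1

theorem map_normalizer_subtype (X : Subgroup G) : (normalizer (X : Set G)).map G.subtype =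
    G ⊓ normalizer ((X.map G.subtype : Subgroup Γ) : Set Γ) := by
  ext x
  constructor
  · rintro ⟨y, hy, rfl⟩
    refine ⟨y.2, ?_⟩
    rw [SetLike.mem_coe, mem_normalizer_iff] at *
    intro z
    constructor
    · rintro ⟨w, hw, rfl⟩
      exact ⟨y * w * y⁻¹, (hy w).1 hw, rfl⟩
    · rintro ⟨w, hw, hwz⟩
      have hzG : z ∈ G := by
        have h1 : z = (y : Γ)⁻¹ * (w : Γ) * y := by
          have h2 : (w : Γ) = y * z * (y : Γ)⁻¹ := hwz
          rw [h2]; group
        rw [h1]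
        exact mul_mem (mul_mem (inv_mem y.2) w.2) y.2
      refine ⟨⟨z, hzG⟩, ?_, rfl⟩
      rw [SetLike.mem_coe, hy]
      have h2 : y * ⟨z, hzG⟩ * y⁻¹ = w := Subtype.ext hwz.symm
      rw [h2]; exact hw
  · rintro ⟨hx, hx2⟩
    refine ⟨⟨x, hx⟩, ?_, rfl⟩
    rw [SetLike.mem_coe, mem_normalizer_iff] at *
    intro w
    have h1 := hx2 w
    constructor
    · intro hw
      obtain ⟨v, hv, hvw⟩ := h1.1 ⟨w, hw, rfl⟩
      have : (⟨x, hx⟩ : G) * w * (⟨x, hx⟩ : G)⁻¹ = v := Subtype.ext hvw.symm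
      rw [this]; exact hv
    · intro hw
      obtain ⟨v, hv, hvw⟩ := h1.2 ⟨_, hw, rfl⟩
      have : w = v := Subtype.ext hvw.symm
      rw [this]; exact hv

theorem map_centralizer_subtype (X : Subgroup G) : (centralizer (X : Set G)).map G.subtype =
    G ⊓ centralizer ((X.map G.subtype : Subgroup Γ) : Set Γ) := by
  ext x
  constructor
  · rintro ⟨y, hy, rfl⟩
    refine ⟨y.2, ?_⟩
    rw [SetLike.mem_coe, mem_centralizer_iff] at *
    rintro _ ⟨w, hw, rfl⟩
    exact congrArg Subtype.val (hy w hw)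
  · rintro ⟨hx, hx2⟩
    refine ⟨⟨x, hx⟩, ?_, rfl⟩
    rw [SetLike.mem_coe, mem_centralizer_iff] at *
    intro w hw
    exact Subtype.ext (hx2 w ⟨w, hw, rfl⟩)

end Step

end Cfsg.Agent.Lib.KgNorm
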