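import Cfsg.Agent.Lib.KgNorm1

set_option autoImplicit false
set_option linter.unusedSectionVars false

/-!
Kegel's theorem: the non-solvable step.
-/

namespace Cfsg.Agent.Lib.KgNorm

open Cfsg Subgroup Cfsg.Agent.Lib.ThompsonJ

universe u

variable {p : ℕ} {Γ : Type u} [Group Γ] [Finite Γ] {G : Subgroup Γ} [hGn : G.Normal] {a : Γ}

theorem isNilpotent_of_pgroup {X : Type u} [Group X] [Finite X] {r : ℕ} (hr : r.Prime) (h : IsPGroup r X) :
    Group.IsNilpotent X := by
  have := Fact.mk hr
  exact h.isNilpotent

theorem conj_map_normalizer {R : Subgroup Γ} {n : Γ} (hn : n ∈ normalizer (R : Set Γ)) :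
    R.map (MulAut.conj n).toMonoidHom = R := by
  ext x
  constructor
  · rintro ⟨y, hy, rfl⟩
    exact (mem_normalizer_iff.1 hn y).1 hy
  · intro hx
    refine ⟨n⁻¹ * x * n, (mem_normalizer_iff''.1 hn x).1 hx, ?_⟩
    show n * (n⁻¹ * x * n) * n⁻¹ = x
    group

theorem mem_normalizer_of_conj_map {R : Subgroup Γ} {n : Γ} (h : R.map (MulAut.conj n).toMonoidHom = R) :
    n ∈ normalizer (R : Set Γ) := by
  rw [mem_normalizer_iff]
  intro x
  constructor
  · intro hx
    rw [← h]; exact ⟨x, hx, rfl⟩
  · intro hx
    rw [← h] at hx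
    obtain ⟨y, hy, hyx⟩ := hx
    have : y = x := (MulAut.conj n).injective hyx
    rw [← this]; exact hy

theorem J_normalizer {r : ℕ} {R : Subgroup Γ} {n : Γ} (hn : n ∈ normalizer (R : Set Γ)) :
    n ∈ normalizer ((J (IsElementaryAbelian r) R : Subgroup Γ) : Set Γ) := by
  apply mem_normalizer_of_conj_map
  rw [← J_map (f := (MulAut.conj n).toMonoidHom) (MulAut.conj n).injective
    (elemAb_map_iff (MulAut.conj n).injective) R, conj_map_normalizer hn]

theorem exists_proper (h : Spl p G a) (ih : IH.{u} p (Nat.card G)) (hG : ¬ Group.IsNilpotent G) :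
    ∃ N : Subgroup Γ, N.Normal ∧ N ≤ G ∧ N ≠ ⊥ ∧ N ≠ G := by
  by_contra hcon
  push Not at hcon
  -- an odd prime
  obtain ⟨r, hr, hr2, hrG⟩ : ∃ r : ℕ, r.Prime ∧ r ≠ 2 ∧ r ∣ Nat.card G := by
    by_contra hc
    push Not at hc
    apply hG
    have h1 : IsPGroup 2 G := by
      refine IsPGroup.of_card (n := (Nat.card G).primeFactorsList.length) ?_
      exact Nat.eq_prime_pow_of_unique_prime_dvd Nat.card_pos.ne' (fun {d} hd hdG => by
        by_contra h2
        exact hc d hd h2 hdG)
    exact isNilpotent_of_pgroup Nat.prime_two h1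
  have := Fact.mk hr
  obtain ⟨P⟩ : Nonempty (Sylow r G) := inferInstance
  set R : Subgroup Γ := (P : Subgroup G).map G.subtype with hR
  have hRG : R ≤ G := map_subtype_le _
  have hRp : IsPGroup r R := P.2.map _
  have hF : normalizer (R : Set Γ) ⊔ G = ⊤ := Sylow.normalizer_sup_eq_top P
  have hPnt : Nontrivial P := by
    rw [← Finite.one_lt_card_iff_nontrivial]
    exact hr.one_lt.trans_le (Nat.le_of_dvd Nat.card_pos (Sylow.dvd_card_of_dvd_card P hrG))
  have hRG' : R ≠ G := by
    intro he
    apply hG
    rw [he] at hRp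
    exact isNilpotent_of_pgroup hr hRp
  -- the element normalizing `R`
  obtain ⟨g, hg, hga⟩ : ∃ g ∈ G, g * a ∈ normalizer (R : Set Γ) := by
    have h1 : a ∈ normalizer (R : Set Γ) ⊔ G := by rw [hF]; trivial
    obtain ⟨n, hn, g, hg, hng⟩ := Subgroup.mem_sup_of_normal_right.1 h1
    refine ⟨a * g⁻¹ * a⁻¹, hGn.conj_mem _ (inv_mem hg) a, ?_⟩
    have : a * g⁻¹ * a⁻¹ * a = n := by rw [← hng]; group
    rw [this]; exact hn
  have hgaG : g * a ∈ normalizer (G : Set Γ) := by rw [normalizer_eq_top]; trivial
  -- J
  set JG : Subgroup Γ := J (IsElementaryAbelian r) R with hJG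
  have hJmap : (thompsonSubgroupOf r (P : Subgroup G)).map G.subtype = JG := by
    rw [thompsonSubgroupOf_eq, hJG, hR]
    exact (J_map G.subtype_injective (elemAb_map_iff G.subtype_injective) _).symm
  have hJle : JG ≤ R := J_le
  have hJne : JG ≠ ⊥ := by
    obtain ⟨x, hx⟩ := exists_prime_orderOf_dvd_card' r (Sylow.dvd_card_of_dvd_card P hrG)
    have h1 : ((x : G) : Γ) ∈ R := ⟨x, x.2, rfl⟩
    have hxo : orderOf ((x : G) : Γ) = r := by rw [Subgroup.orderOf_coe, Subgroup.orderOf_coe, hx]
    obtain ⟨B, hB⟩ := maxIn_nonempty (P := IsElementaryAbelian r) (D := R) ⟨⊥, bot_le, elemAb_bot⟩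
    intro h2
    have h3 : B ≤ ⊥ := h2 ▸ le_J hB
    have h4 := hB.2.2 (zpowers ((x : G) : Γ)) (zpowers_le.2 h1) (elemAb_zpowers (by
      have := pow_orderOf_eq_one ((x : G) : Γ)
      rwa [hxo] at this))
    rw [Nat.card_zpowers, hxo] at h4
    have h5 : Nat.card B = 1 := by rw [Subgroup.card_eq_one]; exact le_bot_iff.1 h3
    rw [h5] at h4
    exact absurd h4 (not_le.2 hr.one_lt)
  have hN1 : HasNormalPComplement r (normalizer (thompsonSubgroupOf r (P : Subgroup G) : Set G)) := by
    have hnil : Group.IsNilpotent ((normalizer (thompsonSubgroupOf r (P : Subgroup G) : Set G)).map G.subtype) := by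
      apply nilp_sub h ih (map_subtype_le _) ?_ hg
      · rw [map_normalizer_subtype, hJmap]
        exact mem_normalizer_inf_normalizer hgaG (J_normalizer hga)
      · intro he
        rw [map_normalizer_subtype, hJmap] at he
        have h1 : G ≤ normalizer (JG : Set Γ) := inf_eq_left.1 he
        have h2 : normalizer (JG : Set Γ) = ⊤ := by
          rw [eq_top_iff, ← hF, sup_le_iff]
          exact ⟨fun x hx => J_normalizer hx, h1⟩
        have h3 : JG.Normal := normalizer_eq_top_iff.1 h2
        have h4 := hcon JG h3 (hJle.trans hRG) hJne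
        exact hRG' (le_antisymm hRG (h4 ▸ hJle))
    have e := (normalizer (thompsonSubgroupOf r (P : Subgroup G) : Set G)).equivMapOfInjective G.subtype G.subtype_injective
    have hnil' := Group.nilpotent_of_mulEquiv e.symm
    exact NilpMax.hasNormalPComplement_of_isNilpotent hnil' r
  have hN2 : HasNormalPComplement r (centralizer (((P : Subgroup G) ⊓ centralizer (P : Set G) : Subgroup G) : Set G)) := by
    have hnil : Group.IsNilpotent ((centralizer (((P : Subgroup G) ⊓ centralizer (P : Set G) : Subgroup G) : Set G)).map G.subtype) := by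
      have hZ : ((P : Subgroup G) ⊓ centralizer (P : Set G)).map G.subtype = R ⊓ centralizer (R : Set Γ) := by
        rw [map_inf _ _ _ G.subtype_injective]
        have h1 : (centralizer (P : Set G)).map G.subtype = G ⊓ centralizer (R : Set Γ) := map_centralizer_subtype _
        rw [h1, ← hR, ← inf_assoc, inf_eq_left.2 hRG]
      apply nilp_sub h ih (map_subtype_le _) ?_ hg
      · rw [map_centralizer_subtype, hZ]
        exact mem_normalizer_inf_centralizer hgaG (mem_normalizer_inf_centralizer hga hga)
      · intro he
        have h1 : centralizer (((P : Subgroup G) ⊓ centralizer (P : Set G) : Subgroup G) : Set G) = ⊤ := by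
          rw [eq_top_iff]
          intro x _
          have h2 : (x : Γ) ∈ (centralizer (((P : Subgroup G) ⊓ centralizer (P : Set G) : Subgroup G) : Set G)).map G.subtype := by
            rw [he]; exact x.2
          obtain ⟨y, hy, hyx⟩ := h2
          have : y = x := Subtype.ext hyx
          rw [← this]; exact hy
        -- the centre of `G` is nontrivial
        have hcn : Nontrivial (center P) := P.2.center_nontrivial
        obtain ⟨z, hz⟩ := exists_ne (1 : center P)
        have hzc : ((z : P) : G) ∈ center G := by
          rw [mem_center_iff]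
          intro x
          have h2 : x ∈ centralizer (((P : Subgroup G) ⊓ centralizer (P : Set G) : Subgroup G) : Set G) := by rw [h1]; trivial
          rw [mem_centralizer_iff] at h2
          refine (h2 _ (Subgroup.mem_inf.2 ⟨(z : P).2, ?_⟩)).symm
          rw [mem_centralizer_iff]
          intro w hw
          have h3 := mem_center_iff.1 z.2 ⟨w, hw⟩
          exact congrArg Subtype.val h3
        have h4 : ((center G).map G.subtype).Normal := inferInstance
        have h5 := hcon _ h4 (map_subtype_le _) (by
          intro h6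
          rw [map_eq_bot_iff_of_injective _ G.subtype_injective] at h6
          rw [h6, mem_bot] at hzc
          exact hz (Subtype.ext (Subtype.ext hzc)))
        apply hG
        have h6 : ∀ x y : G, x * y = y * x := by
          intro x y
          have h7 : (y : Γ) ∈ (center G).map G.subtype := by rw [h5]; exact y.2
          obtain ⟨w, hw, hwy⟩ := h7
          have : w = y := Subtype.ext hwy
          rw [← this]
          exact mem_center_iff.1 hw x
        letI : CommGroup G := { (inferInstance : Group G) with mul_comm := h6 }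
        infer_instance
    have e := (centralizer (((P : Subgroup G) ⊓ centralizer (P : Set G) : Subgroup G) : Set G)).equivMapOfInjective G.subtype G.subtype_injective
    have hnil' := Group.nilpotent_of_mulEquiv e.symm
    exact NilpMax.hasNormalPComplement_of_isNilpotent hnil' r
  have hN : HasNormalPComplement r G := (Cfsg.Agent.S0108.result hr2 P).2 ⟨hN1, hN2⟩
  rw [PNilp.hasNormalPComplement_iff_pResidual] at hN
  have h1 : (pResidual r G).Characteristic := PNilp.pResidual_characteristic r
  have h2 : ((pResidual r G).map G.subtype).Normal := inferInstance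
  by_cases h3 : (pResidual r G).map G.subtype = ⊥
  · rw [map_eq_bot_iff_of_injective _ G.subtype_injective] at h3
    apply hG
    obtain ⟨k, h4⟩ := PNilp.pResidual_index (G := G) r
    have h5 : IsPGroup r G := by
      rw [h3, Subgroup.index_bot] at h4
      exact IsPGroup.of_card h4
    exact isNilpotent_of_pgroup hr h5
  · have h4 := hcon _ h2 (map_subtype_le _) h3
    apply hN
    have h5 : Nat.card ((pResidual r G).map G.subtype) = Nat.card (pResidual r G) :=
      card_map_of_injective G.subtype_injective
    rw [← h5, h4]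
    exact hrG

end Cfsg.Agent.Lib.KgNorm
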