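import Cfsg.Agent.Lib.KgNorm2

set_option autoImplicit false
set_option linter.unusedSectionVars false

/-!
Kegel's theorem: action lemmas.
-/

namespace Cfsg.Agent.Lib.KgNorm

open Cfsg Subgroup Cfsg.Agent.Lib.FrobAction

universe u v

section Act

variable {A : Type u} {V : Type v} [Group A] [CommGroup V]

theorem pow_card_kernel' (act : A →* MulAut V) (K H : Subgroup A) [K.Normal] [Finite K]
    [Fintype H] (hfpf : ∀ h ∈ H, h ≠ 1 → ∀ k ∈ K, h * k = k * h → k = 1)
    (hK : ∀ v : V, (∀ k ∈ K, act k v = v) → v = 1) (v : V)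
    (e1 : ∀ k : K, ∏ h : H, act ((k : A) * h * (k : A)⁻¹) v = 1) : v ^ Nat.card K = 1 := by
  classical
  have := Fintype.ofFinite K
  have e2 : ∏ h : H, ∏ k : K, act ((k : A) * h * (k : A)⁻¹) v = 1 := by
    rw [Finset.prod_comm]
    exact Finset.prod_eq_one fun k _ => e1 k
  have e3 : ∀ h : H, h ≠ 1 → ∏ k : K, act ((k : A) * h * (k : A)⁻¹) v = 1 := by
    intro h hh
    have hKn : K.Normal := inferInstance
    let σ : K → K := fun k => ⟨(k : A) * ((h : A) * (k : A)⁻¹ * (h : A)⁻¹),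
      K.mul_mem k.2 (hKn.conj_mem _ (K.inv_mem k.2) _)⟩
    have hσ : Function.Injective σ := by
      intro k k' hkk
      have h1 : (k : A) * ((h : A) * (k : A)⁻¹ * (h : A)⁻¹)
          = (k' : A) * ((h : A) * (k' : A)⁻¹ * (h : A)⁻¹) := congrArg Subtype.val hkk
      have h2 : (h : A) * ((k' : A)⁻¹ * k) = ((k' : A)⁻¹ * k) * h := by
        calc (h : A) * ((k' : A)⁻¹ * k)
            = (k' : A)⁻¹ * ((k' : A) * ((h : A) * (k' : A)⁻¹ * (h : A)⁻¹)) * (h : A) * k := by group
          _ = (k' : A)⁻¹ * ((k : A) * ((h : A) * (k : A)⁻¹ * (h : A)⁻¹)) * (h : A) * k := by rw [h1]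
          _ = ((k' : A)⁻¹ * k) * h := by group
      have h3 := hfpf h h.2 (fun h4 => hh (Subtype.ext h4)) ((k' : A)⁻¹ * k)
        (K.mul_mem (K.inv_mem k'.2) k.2) h2
      exact Subtype.ext (inv_mul_eq_one.1 h3).symm
    have hσb : Function.Bijective σ := Finite.injective_iff_bijective.1 hσ
    have h4 : ∏ k : K, act ((k : A) * h * (k : A)⁻¹) v = ∏ k : K, act (k : A) (act (h : A) v) := by
      refine Fintype.prod_equiv (Equiv.ofBijective σ hσb) _ _ ?_
      intro k
      change act ((k : A) * h * (k : A)⁻¹) v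
        = act ((k : A) * ((h : A) * (k : A)⁻¹ * (h : A)⁻¹)) (act (h : A) v)
      rw [← MulAut.mul_apply, ← map_mul]
      congr 2; group
    rw [h4]
    exact hK _ (fun k hk => prod_subgroup_fixed act K _ hk)
  rw [Finset.prod_eq_single (1 : H) (fun h _ hh => e3 h hh) (fun h => absurd (Finset.mem_univ _) h)] at e2
  have e4 : ∀ k : K, act ((k : A) * ((1 : H) : A) * (k : A)⁻¹) v = v := by
    intro k; simp
  rw [Finset.prod_congr rfl (fun k _ => e4 k), Finset.prod_const, Finset.card_univ,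
    ← Nat.card_eq_fintype_card] at e2
  exact e2

theorem prod_zpowers_eq [Finite A] (x : A) [Fintype (zpowers x)] {n : ℕ} (hn : orderOf x = n) (f : A → V) :
    ∏ h : zpowers x, f h = ∏ i ∈ Finset.range n, f (x ^ i) := by
  subst hn
  rw [Finset.prod_range]
  symm
  refine Fintype.prod_equiv (finEquivZPowers (isOfFinOrder_of_finite x)) _ _ ?_
  intro i
  rfl

/-- norm over `range n` of a power-cyclic family is fixed -/
theorem prod_range_fixed (act : A →* MulAut V) {u : A} {n : ℕ} (hu : u ^ n = 1) (w : V) :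
    act u (∏ j ∈ Finset.range n, act (u ^ j) w) = ∏ j ∈ Finset.range n, act (u ^ j) w := by
  rw [map_prod]
  have h1 : ∀ j, act u (act (u ^ j) w) = act (u ^ (j + 1)) w := by
    intro j
    rw [← MulAut.mul_apply, ← map_mul, ← pow_succ']
  rw [Finset.prod_congr rfl (fun j _ => h1 j)]
  have h2 := Finset.prod_range_succ (fun j => act (u ^ j) w) n
  have h3 := Finset.prod_range_succ' (fun j => act (u ^ j) w) n
  rw [h2] at h3
  simp only [hu, pow_zero, map_one] at h3
  exact (mul_right_cancel h3).symm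

/-- two commuting elements of order `p`: all norms of `z ^ j * a` trivial -/
theorem fixed_of_norms (act : A →* MulAut V) {p : ℕ} (hp : p.Prime) {z a : A} (hza : Commute z a) (hz : z ^ p = 1)
    (v : V) (hN : ∀ j : ℕ, ∏ i ∈ Finset.range p, act ((z ^ j * a) ^ i) v = 1) : act z (v ^ p) = v ^ p := by
  have h1 : ∏ j ∈ Finset.range p, ∏ i ∈ Finset.range p, act ((z ^ j * a) ^ i) v = 1 :=
    Finset.prod_eq_one (fun j _ => hN j)
  rw [Finset.prod_comm] at h1
  obtain ⟨q, rfl⟩ : ∃ q, p = q + 1 := ⟨p - 1, by have := hp.pos; omega⟩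
  rw [Finset.prod_range_succ'] at h1
  have h2 : ∏ j ∈ Finset.range (q + 1), act ((z ^ j * a) ^ 0) v = v ^ (q + 1) := by
    simp
  rw [h2] at h1
  have h3 : ∀ i ∈ Finset.range q, act z (∏ j ∈ Finset.range (q + 1), act ((z ^ j * a) ^ (i + 1)) v) =
      ∏ j ∈ Finset.range (q + 1), act ((z ^ j * a) ^ (i + 1)) v := by
    intro i hi
    rw [Finset.mem_range] at hi
    set u := z ^ (i + 1) with hu
    have hup : u ^ (q + 1) = 1 := by rw [hu, ← pow_mul, mul_comm, pow_mul, hz, one_pow]
    have h4 : ∀ j, act ((z ^ j * a) ^ (i + 1)) v = act (u ^ j) (act (a ^ (i + 1)) v) := by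
      intro j
      rw [(hza.pow_left j).mul_pow, map_mul, MulAut.mul_apply, hu, ← pow_mul, ← pow_mul, mul_comm j]
    rw [Finset.prod_congr rfl (fun j _ => h4 j)]
    have h5 := prod_range_fixed act hup (act (a ^ (i + 1)) v)
    set w := ∏ j ∈ Finset.range (q + 1), act (u ^ j) (act (a ^ (i + 1)) v)
    -- `z` is a power of `u`
    have hco : Nat.Coprime (i + 1) (orderOf z) := by
      have h6 : orderOf z ∣ q + 1 := orderOf_dvd_of_pow_eq_one hz
      refine Nat.Coprime.coprime_dvd_right h6 ?_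
      exact (Nat.Coprime.symm ((Nat.Prime.coprime_iff_not_dvd hp).2 (Nat.not_dvd_of_pos_of_lt (by omega) (by omega))))
    obtain ⟨m, hm⟩ := exists_pow_eq_self_of_coprime (n := i + 1) (x := z) hco
    have h7 : ∀ k : ℕ, act (u ^ k) w = w := by
      intro k
      induction k with
      | zero => simp
      | succ k ihk => rw [pow_succ, map_mul, MulAut.mul_apply, h5, ihk]
    have h8 := h7 m
    rwa [hu, hm] at h8
  have h4 : act z (∏ i ∈ Finset.range q, ∏ j ∈ Finset.range (q + 1), act ((z ^ j * a) ^ (i + 1)) v) =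
      ∏ i ∈ Finset.range q, ∏ j ∈ Finset.range (q + 1), act ((z ^ j * a) ^ (i + 1)) v := by
    rw [map_prod]
    exact Finset.prod_congr rfl h3
  have h5 := eq_inv_of_mul_eq_one_right h1
  rw [h5, map_inv, h4]

end Act

/-- commutative group structure -/
abbrev cg {Γ : Type u} [Group Γ] {V : Subgroup Γ} (hc : ∀ x ∈ V, ∀ y ∈ V, x * y = y * x) : CommGroup V :=
  { (inferInstance : Group V) with mul_comm := fun a b => Subtype.ext (hc a a.2 b b.2) }

/-- the norm identity -/
theorem pow_mul_eq {Γ : Type u} [Group Γ] {V : Subgroup Γ} [V.Normal] (hc : ∀ x ∈ V, ∀ y ∈ V, x * y = y * x) (b : Γ) (v : V) (n : ℕ) :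
    letI : CommGroup V := cg hc
    ((v : Γ) * b) ^ n = ((∏ i ∈ Finset.range n, MulAut.conjNormal (b ^ i) v : V) : Γ) * b ^ n := by
  letI : CommGroup V := cg hc
  induction n with
  | zero => simp
  | succ n ih =>
    rw [pow_succ, ih, Finset.prod_range_succ, Subgroup.coe_mul, MulAut.conjNormal_apply]
    simp only [pow_succ]
    group

theorem norm_eq_one {Γ : Type u} [Group Γ] {V : Subgroup Γ} [V.Normal] (hc : ∀ x ∈ V, ∀ y ∈ V, x * y = y * x) {b : Γ} {n : ℕ}
    (hb : b ^ n = 1) (v : V) (hv : ((v : Γ) * b) ^ n = 1) :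
    letI : CommGroup V := cg hc
    ∏ i ∈ Finset.range n, MulAut.conjNormal (b ^ i) v = 1 := by
  letI : CommGroup V := cg hc
  have h := pow_mul_eq hc b v n
  rw [hv, hb, mul_one] at h
  exact Subtype.ext h.symm

end Cfsg.Agent.Lib.KgNorm
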