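import Cfsg.Prelude.Def_LocalStructure
import Cfsg.Agent.Lib.FrakM

/-!
`Y`-minimal groups and the L-Lemma (helper47).
-/

set_option autoImplicit false

namespace Cfsg.Agent.Lib.LLemma

open Subgroup Cfsg.Agent.Lib.LocBase Cfsg.Agent.Lib.PIrred Cfsg.Agent.Lib.PReduced Cfsg.Agent.Lib.LocTrace
open Cfsg.Agent.Lib.LocMore Cfsg.Agent.Lib.WeakCl Cfsg.Agent.Lib.LargeSub
open scoped commutatorElement

variable {G : Type*} [Group G]

/-- `H` is `T`-minimal with `M` the unique maximal subgroup containing `T`. -/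
structure MinOver (T H M : Subgroup G) : Prop where
  le : T ≤ M
  lt : M < H
  uniq : ∀ X : Subgroup G, T ≤ X → X < H → X ≤ M
  ncl : ncl H T = H

theorem minOver_top {Y M : Subgroup G} (h : Cfsg.IsMinimalOver Y) [Finite G] (hM : IsCoatom M) (hY : Y ≤ M) :
    MinOver Y ⊤ M := by
  refine ⟨hY, hM.lt_top, ?_, ?_⟩
  · intro X hX hXt
    obtain ⟨M', hM', hXM'⟩ := (eq_top_or_exists_le_coatom X).resolve_left hXt.ne
    have := h.2.unique ⟨hM, hY⟩ ⟨hM', hX.trans hXM'⟩
    rw [this]; exact hXM'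
  · rw [← normalClosure_eq_ncl]; exact h.1

variable [Finite G] {p : ℕ} [hp : Fact p.Prime]

theorem MinOver.normalizer_syl {T H M : Subgroup G} (h : MinOver T H M) : H ⊓ normalizer (T : Set G) ≤ M := by
  by_cases h1 : H ⊓ normalizer (T : Set G) = H
  · exfalso
    have h2 : H ≤ normalizer (T : Set G) := by rw [← h1]; exact inf_le_right
    have h3 : H ≤ T := by
      have h4 := h.ncl.ge
      exact h4.trans (ncl_le le_rfl h2)
    exact absurd (h3.trans h.le) (not_le_of_gt h.lt)
  · exact h.uniq _ (le_inf (h.le.trans h.lt.le) Subgroup.le_normalizer) (lt_of_le_of_ne inf_le_left h1)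

theorem MinOver.normalizer_le {T H M : Subgroup G} (hT : IsSyl p T M) (h : MinOver T H M) : H ⊓ normalizer (M : Set G) ≤ M := by
  by_cases h1 : H ⊓ normalizer (M : Set G) = H
  · exfalso
    have h2 : H ≤ normalizer (M : Set G) := by rw [← h1]; exact inf_le_right
    have h3 := hT.frattini_sup h.lt.le h2
    have h4 : H ≤ M := h3.ge.trans (sup_le le_rfl h.normalizer_syl)
    exact absurd h4 (not_le_of_gt h.lt)
  · exact h.uniq _ (le_inf (h.le.trans h.lt.le) (h.le.trans Subgroup.le_normalizer)) (lt_of_le_of_ne inf_le_left h1)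

theorem MinOver.conj {T H M : Subgroup G} (h : MinOver T H M) {g : G} (hg : g ∈ H) :
    MinOver (T.map (MulAut.conj g).toMonoidHom) H (M.map (MulAut.conj g).toMonoidHom) := by
  have hH : ∀ {g : G}, g ∈ H → H.map (MulAut.conj g).toMonoidHom = H := fun hg => map_conj_eq_of_mem (Subgroup.le_normalizer hg)
  refine ⟨map_mono h.le, ?_, ?_, ?_⟩
  · refine lt_of_le_of_ne ?_ ?_
    · have := map_mono (f := (MulAut.conj g).toMonoidHom) h.lt.le
      rwa [hH hg] at this
    · intro e
      apply h.lt.ne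
      rw [← map_conj_inj g, e, hH hg]
  · intro X hX hXH
    rw [map_conj_le_iff] at hX
    have h1 := h.uniq _ hX (by
      refine lt_of_le_of_ne ?_ ?_
      · have := map_mono (f := (MulAut.conj g⁻¹).toMonoidHom) hXH.le
        rwa [hH (H.inv_mem hg)] at this
      · intro e
        apply hXH.ne
        rw [← map_conj_inj g⁻¹, e, hH (H.inv_mem hg)])
    rwa [map_conj_le_iff, inv_inv] at h1
  · apply le_antisymm
    · apply ncl_le _ Subgroup.le_normalizer
      have := map_mono (f := (MulAut.conj g).toMonoidHom) (h.le.trans h.lt.le)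
      rwa [hH hg] at this
    · have h1 : T ≤ PReduced.ncl H (T.map (MulAut.conj g).toMonoidHom) := by
        have h2 := map_mono (f := (MulAut.conj g⁻¹).toMonoidHom) (le_ncl H (T.map (MulAut.conj g).toMonoidHom))
        rwa [← map_conj_mul, inv_mul_cancel, map_conj_one, map_conj_eq_of_mem (le_normalizer_ncl H _ (H.inv_mem hg))] at h2
      calc H = PReduced.ncl H T := h.ncl.symm
        _ ≤ _ := ncl_le h1 (le_normalizer_ncl H _)

/-- The conclusion of the L-Lemma. -/
def LConc (p : ℕ) (H M A : Subgroup G) : Prop :=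
  ∃ L : Subgroup G, L ≤ H ∧ A ⊔ pCoreOf p H ≤ L ∧ ∃ L₀ : Subgroup G, A ⊔ pCoreOf p L ≤ L₀ ∧ L₀ < L ∧
    (∀ X : Subgroup G, A ⊔ pCoreOf p L ≤ X → X < L → X ≤ L₀) ∧
    (∃ g ∈ H, L₀ = L ⊓ M.map (MulAut.conj g).toMonoidHom) ∧
    ∀ x ∈ L, x ∉ L₀ → (A ⊔ A.map (MulAut.conj x).toMonoidHom) ⊔ pCoreOf p L = L

theorem LConc.conj {H M A : Subgroup G} {h : G} (hh : h ∈ H) (hc : LConc p H M A) :
    LConc p H M (A.map (MulAut.conj h).toMonoidHom) := by
  obtain ⟨L, h1, h2, L₀, h3, h4, h5, ⟨g, hg, h6⟩, h7⟩ := hc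
  have hH : H.map (MulAut.conj h).toMonoidHom = H := map_conj_eq_of_mem (Subgroup.le_normalizer hh)
  refine ⟨L.map (MulAut.conj h).toMonoidHom, ?_, ?_, L₀.map (MulAut.conj h).toMonoidHom, ?_, ?_, ?_, ⟨h * g, H.mul_mem hh hg, ?_⟩, ?_⟩
  · have := map_mono (f := (MulAut.conj h).toMonoidHom) h1
    rwa [hH] at this
  · have := map_mono (f := (MulAut.conj h).toMonoidHom) h2
    rwa [Subgroup.map_sup, ← pCoreOf_map_conj, hH] at this
  · have := map_mono (f := (MulAut.conj h).toMonoidHom) h3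
    rwa [Subgroup.map_sup, ← pCoreOf_map_conj] at this
  · exact (Subgroup.map_lt_map_iff_of_injective (MulAut.conj h).injective).mpr h4
  · intro X hX hXL
    rw [pCoreOf_map_conj, ← Subgroup.map_sup, map_conj_le_iff] at hX
    have h8 := h5 _ hX (by
      rw [← Subgroup.map_lt_map_iff_of_injective (f := (MulAut.conj h).toMonoidHom) (MulAut.conj h).injective,
        ← map_conj_mul, mul_inv_cancel, map_conj_one]
      exact hXL)
    rwa [map_conj_le_iff, inv_inv] at h8
  · rw [h6, Subgroup.map_inf _ _ _ (MulAut.conj h).injective, map_conj_mul]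
  · intro x hx hxn
    rw [mem_map_conj] at hx hxn
    have h8 := h7 _ hx hxn
    have h9 := congrArg (Subgroup.map (MulAut.conj h).toMonoidHom) h8
    rw [Subgroup.map_sup, Subgroup.map_sup, ← pCoreOf_map_conj, ← map_conj_mul] at h9
    rw [← map_conj_mul]
    convert h9 using 5
    group

theorem lLemma_aux : ∀ n : ℕ, ∀ H T M A : Subgroup G, Nat.card H = n → IsSyl p T H → MinOver T H M → IsPGroup p A →
    A ≤ H → ¬ A ≤ pCoreOf p H → LConc p H M A := by
  intro n
  induction n using Nat.strong_induction_on with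
  | _ n ih =>
  intro H T M A hn hT hM hA hAH hAO
  set O := pCoreOf p H with hO
  have hH : ∀ {g : G}, g ∈ H → H.map (MulAut.conj g).toMonoidHom = H := fun hg => map_conj_eq_of_mem (Subgroup.le_normalizer hg)
  have hOc : ∀ {g : G}, g ∈ H → O.map (MulAut.conj g).toMonoidHom = O :=
    fun hg => map_conj_eq_of_mem (le_normalizer_pCoreOf p H hg)
  have hTM : IsSyl p T M := hT.of_le hM.le hM.lt.le
  have hOM : O ≤ M := hT.pCoreOf_le.trans hM.le
  have hconjH : ∀ {g : G} {X : Subgroup G}, g ∈ H → X ≤ H → X.map (MulAut.conj g).toMonoidHom ≤ H := by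
    intro g X hg hX
    have := map_mono (f := (MulAut.conj g).toMonoidHom) hX
    rwa [hH hg] at this
  have hconjO : ∀ {g : G}, g ∈ H → ¬ A.map (MulAut.conj g).toMonoidHom ≤ O := by
    intro g hg h
    rw [map_conj_le_iff, hOc (H.inv_mem hg)] at h
    exact hAO h
  by_cases hcase : ∃ K R : Subgroup G, ∃ h ∈ H, K < H ∧ ¬ K ≤ M ∧ IsPGroup p R ∧ R ≤ K ⊓ M ∧
      A.map (MulAut.conj h).toMonoidHom ⊔ O ≤ R
  · -- choose `R` maximal
    let 𝒮 : Set (Subgroup G) := {R | ∃ K : Subgroup G, ∃ h ∈ H, K < H ∧ ¬ K ≤ M ∧ IsPGroup p R ∧ R ≤ K ⊓ M ∧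
      A.map (MulAut.conj h).toMonoidHom ⊔ O ≤ R}
    obtain ⟨K₀, R₀, h₀, hh₀, h1, h2, h3, h4, h5⟩ := hcase
    obtain ⟨R, ⟨K₀, h₀, hh₀, hK₀H, hK₀M, hRp, hRK₀, hAR⟩, hRmax⟩ :=
      Set.exists_max_image 𝒮 (fun R => Nat.card ↥R) (Set.toFinite _) ⟨R₀, K₀, h₀, hh₀, h1, h2, h3, h4, h5⟩
    have hmax : ∀ K R₁ : Subgroup G, K < H → ¬ K ≤ M → IsPGroup p R₁ → R₁ ≤ K ⊓ M → R ≤ R₁ → R₁ = R := by
      intro K R₁ h1 h2 h3 h4 h5
      have h6 := hRmax R₁ ⟨K, h₀, hh₀, h1, h2, h3, h4, hAR.trans h5⟩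
      exact (Subgroup.eq_of_le_of_card_ge h5 h6).symm
    have hRM : R ≤ M := hRK₀.trans inf_le_right
    have hRH : R ≤ H := hRM.trans hM.lt.le
    have hOR : O ≤ R := le_sup_right.trans hAR
    -- a Sylow subgroup of `M` containing `R`
    obtain ⟨T', hT', hRT'⟩ := exists_isSyl_ge hRp hRM
    obtain ⟨m, hm, eT⟩ := hT'.conj hTM
    have hmH : m ∈ H := hM.lt.le hm
    have hM' : MinOver T' H M := by
      have := hM.conj hmH
      rwa [eT, map_conj_eq_of_mem (Subgroup.le_normalizer hm)] at this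
    have hT'H : IsSyl p T' H := by
      have := hT.map_conj m
      rwa [eT, hH hmH] at this
    have hRT'ne : R ≠ T' := by
      intro e
      apply hK₀M
      apply hM'.uniq _ _ hK₀H
      rw [← e]; exact hRK₀.trans inf_le_left
    have hRlt : R < T' ⊓ normalizer (R : Set G) := lt_inf_normalizer hT'.pgroup (lt_of_le_of_ne hRT' hRT'ne)
    set P := T' ⊓ normalizer (R : Set G) with hP
    have hPp : IsPGroup p P := hT'.pgroup.to_le inf_le_left
    have hPM : P ≤ M := inf_le_left.trans hT'.le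
    have hPH : P ≤ H := hPM.trans hM.lt.le
    have hkey : ∀ X : Subgroup G, X < H → P ≤ X → X ≤ M := by
      intro X hX hPX
      by_contra hne
      exact hRlt.ne (hmax X P hX hne hPp (le_inf hPX hPM) hRlt.le).symm
    have hNR : H ⊓ normalizer (R : Set G) ≤ M := by
      apply hkey
      · refine lt_of_le_of_ne inf_le_left fun e => ?_
        have h6 : H ≤ normalizer (R : Set G) := by rw [← e]; exact inf_le_right
        exact hconjO hh₀ (le_sup_left.trans (hAR.trans (le_pCoreOf hRH h6 hRp)))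
      · exact le_inf hPH inf_le_right
    -- choose `K` minimal
    obtain ⟨K, ⟨hKH, hRK, hKM⟩, hKmin⟩ := (Set.toFinite {K : Subgroup G | K < H ∧ R ≤ K ∧ ¬ K ≤ M}).exists_minimal
      ⟨K₀, hK₀H, hRK₀.trans inf_le_left, hK₀M⟩
    have hKprop : ∀ X : Subgroup G, R ≤ X → X < K → X ≤ M := by
      intro X hRX hXK
      by_contra hne
      exact absurd (hKmin ⟨hXK.trans hKH, hRX, hne⟩ hXK.le) (not_le_of_gt hXK)
    have hRsyl : IsSyl p R K := by
      obtain ⟨S, hS, hRS⟩ := exists_isSyl_ge hRp hRK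
      have e : R = S := by
        apply eq_of_inf_normalizer_le hS.pgroup hRS
        have h6 : S ⊓ normalizer (R : Set G) ≤ M :=
          (inf_le_inf_right _ (hS.le.trans hKH.le)).trans hNR
        exact (hmax K (S ⊓ normalizer (R : Set G)) hKH hKM (hS.pgroup.to_le inf_le_left)
          (le_inf (inf_le_left.trans hS.le) h6) (le_inf hRS Subgroup.le_normalizer)).le
      rw [e]; exact hS
    have hMK : MinOver R K (K ⊓ M) := by
      refine ⟨le_inf hRK hRM, ?_, ?_, ?_⟩
      · refine lt_of_le_of_ne inf_le_left fun e => hKM ?_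
        rw [← e]; exact inf_le_right
      · intro X hX hXK
        exact le_inf hXK.le (hKprop X hX hXK)
      · by_contra hne
        have h6 : PReduced.ncl K R < K := lt_of_le_of_ne (ncl_le hRK Subgroup.le_normalizer) hne
        have h7 := hKprop _ (le_ncl K R) h6
        have h8 := (hRsyl.of_le (le_ncl K R) h6.le).frattini_sup h6.le (le_normalizer_ncl K R)
        exact hKM (h8.ge.trans (sup_le h7 ((inf_le_inf_right _ hKH.le).trans hNR)))
    have hOK : O ≤ pCoreOf p K := le_pCoreOf (hOR.trans hRK) (hKH.le.trans (le_normalizer_pCoreOf p H)) (isPGroup_pCoreOf p H)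
    have hcard : Nat.card ↥K < n := hn ▸ Set.ncard_lt_ncard hKH (Set.toFinite _)
    by_cases hgood : ∃ h ∈ H, A.map (MulAut.conj h).toMonoidHom ≤ R ∧ ¬ A.map (MulAut.conj h).toMonoidHom ≤ pCoreOf p K
    · obtain ⟨h, hh, h6, h7⟩ := hgood
      obtain ⟨L, hLK, hAL, L₀, h8, h9, h10, ⟨g, hg, h11⟩, h12⟩ :=
        ih _ hcard K R (K ⊓ M) (A.map (MulAut.conj h).toMonoidHom) rfl hRsyl hMK (isPGroup_map_conj hA h) (h6.trans hRK) h7
      have h13 : LConc p H M (A.map (MulAut.conj h).toMonoidHom) := by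
        refine ⟨L, hLK.trans hKH.le, (sup_le_sup_left hOK _).trans hAL, L₀, h8, h9, h10, ⟨g, hKH.le hg, ?_⟩, h12⟩
        rw [h11, Subgroup.map_inf _ _ _ (MulAut.conj g).injective, map_conj_eq_of_mem (Subgroup.le_normalizer hg),
          ← inf_assoc, inf_eq_left.mpr hLK]
      have h14 := h13.conj (H.inv_mem hh)
      rwa [← map_conj_mul, inv_mul_cancel, map_conj_one] at h14
    · exfalso
      push Not at hgood
      -- the subgroup generated by the conjugates in `R`
      set B : Subgroup G := ⨆ h : {h : G // h ∈ H ∧ A.map (MulAut.conj h).toMonoidHom ≤ R},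
        A.map (MulAut.conj (h : G)).toMonoidHom with hB
      have hBle : ∀ h ∈ H, A.map (MulAut.conj h).toMonoidHom ≤ R → A.map (MulAut.conj h).toMonoidHom ≤ B := by
        intro h hh hR
        exact le_iSup (fun h : {h : G // h ∈ H ∧ A.map (MulAut.conj h).toMonoidHom ≤ R} =>
          A.map (MulAut.conj (h : G)).toMonoidHom) ⟨h, hh, hR⟩
      have hBK : B ≤ pCoreOf p K := iSup_le fun h => hgood h h.2.1 h.2.2
      have hBp : IsPGroup p B := (isPGroup_pCoreOf p K).to_le hBK
      have hnorm : ∀ x ∈ H, (∀ h ∈ H, A.map (MulAut.conj h).toMonoidHom ≤ R →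
          A.map (MulAut.conj (x * h)).toMonoidHom ≤ R) → x ∈ normalizer (B : Set G) := by
        intro x hx hxx
        apply mem_normalizer_of_map_conj_le
        rw [hB, Subgroup.map_iSup]
        apply iSup_le
        intro h
        rw [← map_conj_mul]
        exact hBle _ (H.mul_mem hx h.2.1) (hxx h h.2.1 h.2.2)
      have hKB : K ≤ normalizer (B : Set G) := by
        intro x hx
        apply hnorm x (hKH.le hx)
        intro h hh hR
        have h6 := map_mono (f := (MulAut.conj x).toMonoidHom) (hgood h hh hR)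
        rw [← map_conj_mul, map_conj_eq_of_mem (le_normalizer_pCoreOf p K hx)] at h6
        exact h6.trans hRsyl.pCoreOf_le
      have hPB : P ≤ normalizer (B : Set G) := by
        intro x hx
        apply hnorm x (hPH hx)
        intro h hh hR
        have h6 := map_mono (f := (MulAut.conj x).toMonoidHom) hR
        rwa [← map_conj_mul, map_conj_eq_of_mem hx.2] at h6
      have hAB : A.map (MulAut.conj h₀).toMonoidHom ≤ B := hBle h₀ hh₀ (le_sup_left.trans hAR)
      have hlt : H ⊓ normalizer (B : Set G) < H := by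
        refine lt_of_le_of_ne inf_le_left fun e => ?_
        have h6 : H ≤ normalizer (B : Set G) := by rw [← e]; exact inf_le_right
        exact hconjO hh₀ (hAB.trans (le_pCoreOf (hBK.trans ((LocBase.pCoreOf_le K).trans hKH.le)) h6 hBp))
      exact hKM ((le_inf hKH.le hKB).trans (hkey _ hlt (le_inf hPH hPB)))
  · -- no such `K`: `L = H`
    have hno : ∀ K : Subgroup G, ∀ g ∈ H, K < H → A ⊔ O ≤ K → A ≤ M.map (MulAut.conj g).toMonoidHom →
        K ≤ M.map (MulAut.conj g).toMonoidHom := by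
      intro K g hg hKH hAK hAM
      by_contra hne
      apply hcase
      have hAM' : A.map (MulAut.conj g⁻¹).toMonoidHom ≤ M := by rwa [map_conj_le_iff, inv_inv]
      have hp1 : IsPGroup p ↥(A.map (MulAut.conj g⁻¹).toMonoidHom ⊔ O) := by
        rw [sup_comm]
        exact isPGroup_sup (isPGroup_pCoreOf p H) (isPGroup_map_conj hA _) ((hconjH (H.inv_mem hg) hAH).trans (le_normalizer_pCoreOf p H))
      refine ⟨K.map (MulAut.conj g⁻¹).toMonoidHom, A.map (MulAut.conj g⁻¹).toMonoidHom ⊔ O, g⁻¹, H.inv_mem hg, ?_, ?_, hp1, ?_, le_rfl⟩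
      · refine lt_of_le_of_ne (hconjH (H.inv_mem hg) hKH.le) fun e => hKH.ne ?_
        rw [← map_conj_inj g⁻¹, e, hH (H.inv_mem hg)]
      · rw [map_conj_le_iff, inv_inv]; exact hne
      · refine le_inf ?_ (sup_le hAM' hOM)
        have h6 := map_mono (f := (MulAut.conj g⁻¹).toMonoidHom) hAK
        rwa [Subgroup.map_sup, hOc (H.inv_mem hg)] at h6
    obtain ⟨h, hh, hle⟩ := hT.exists_conj_le hA hAH
    have hAM : A ≤ M.map (MulAut.conj h⁻¹).toMonoidHom := by
      rw [map_conj_le_iff] at hle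
      exact hle.trans (map_mono hM.le)
    have hM1 := hM.conj (H.inv_mem hh)
    refine ⟨H, le_rfl, sup_le hAH (LocBase.pCoreOf_le H), M.map (MulAut.conj h⁻¹).toMonoidHom, ?_, hM1.lt, ?_, ⟨h⁻¹, H.inv_mem hh, ?_⟩, ?_⟩
    · refine sup_le hAM ?_
      have h6 := map_mono (f := (MulAut.conj h⁻¹).toMonoidHom) hOM
      rwa [hOc (H.inv_mem hh)] at h6
    · intro X hX hXH
      exact hno X _ (H.inv_mem hh) hXH hX hAM
    · rw [inf_eq_right.mpr hM1.lt.le]
    · intro x hx hxM
      by_contra hne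
      apply hxM
      have hlt : (A ⊔ A.map (MulAut.conj x).toMonoidHom) ⊔ O < H :=
        lt_of_le_of_ne (sup_le (sup_le hAH (hconjH hx hAH)) (LocBase.pCoreOf_le H)) hne
      have h6 := hno _ _ (H.inv_mem hh) hlt (sup_le_sup_right le_sup_left _) hAM
      have h7 : A.map (MulAut.conj x).toMonoidHom ≤ M.map (MulAut.conj h⁻¹).toMonoidHom :=
        (le_sup_right.trans le_sup_left).trans h6
      rw [map_conj_le_iff, ← map_conj_mul] at h7
      have h8 : A ⊔ O ≤ M.map (MulAut.conj h⁻¹).toMonoidHom := by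
        refine sup_le hAM ?_
        have h6 := map_mono (f := (MulAut.conj h⁻¹).toMonoidHom) hOM
        rwa [hOc (H.inv_mem hh)] at h6
      have h9 := hno _ _ (H.mul_mem (H.inv_mem hx) (H.inv_mem hh)) hM1.lt h8 h7
      have h10 : x ∈ normalizer (M.map (MulAut.conj h⁻¹).toMonoidHom : Set G) := by
        have h11 : x⁻¹ ∈ normalizer (M.map (MulAut.conj h⁻¹).toMonoidHom : Set G) := by
          apply mem_normalizer_of_map_conj_eq
          rw [← map_conj_mul]
          exact (Subgroup.eq_of_le_of_card_ge h9 (by rw [card_map_conj, card_map_conj])).symm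
        simpa using inv_mem h11
      have h12 : IsSyl p (T.map (MulAut.conj h⁻¹).toMonoidHom) (M.map (MulAut.conj h⁻¹).toMonoidHom) := hTM.map_conj _
      exact hM1.normalizer_le h12 ⟨hx, h10⟩

/-- The L-Lemma. -/
theorem lLemma {H T M A : Subgroup G} (hT : IsSyl p T H) (hM : MinOver T H M) (hA : IsPGroup p A)
    (hAH : A ≤ H) (hAO : ¬ A ≤ pCoreOf p H) : LConc p H M A :=
  lLemma_aux _ H T M A rfl hT hM hA hAH hAO

end Cfsg.Agent.Lib.LLemma
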