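import Cfsg.Agent.Lib.LMinSz

/-!
# Elements of order not a power of `p` act fixed-point-freely on `O_p(L) / C_Y(L)` (helper48)
-/

set_option autoImplicit false
set_option linter.unusedSectionVars false

namespace Cfsg.Agent.Lib.LMin

open Subgroup Cfsg Cfsg.Agent.Lib.LocBase
open scoped MatrixGroups

/-- The possibilities for `Γ = L / O_p(L)` (with `T` the image of `Y`). -/
def Types (p : ℕ) {Γ : Type*} [Group Γ] (T : Subgroup Γ) : Prop :=
  (∃ (F : Type) (_ : Field F) (_ : Fintype F), Fintype.card F = Nat.card T ∧ Nonempty (Γ ≃* SL(2, F))) ∨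
  (p = 2 ∧ ∃ (F : Type) (_ : Field F) (_ : Fintype F) (m : ℕ), Fintype.card F = 2 ^ (2 * m + 1) ∧
    Fintype.card F = Nat.card T ∧ Nonempty (Γ ≃* ↥(Lie.Sz F (2 ^ (m + 1))))) ∨
  (p = 2 ∧ ∃ r : ℕ, r.Prime ∧ r ≠ 2 ∧ Nonempty (Γ ≃* DihedralGroup r))

theorem charP_of_card {F : Type*} [Field F] [Fintype F] {p : ℕ} [hp : Fact p.Prime] {Γ : Type*} [Group Γ] [Finite Γ]
    {T : Subgroup Γ} (hT : IsPGroup p T) (h : Fintype.card F = Nat.card T) : CharP F p := by
  obtain ⟨r, hr⟩ := CharP.exists F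
  obtain ⟨n, hrp, hn⟩ := FiniteField.card F r
  obtain ⟨k, hk⟩ := IsPGroup.iff_card.mp hT
  rw [← h, hn] at hk
  have h1 : r ∣ p ^ k := by rw [← hk]; exact dvd_pow_self r n.ne_zero
  have h2 : r = p := (Nat.prime_dvd_prime_iff_eq hrp hp.out).mp (hrp.dvd_of_dvd_pow h1)
  rwa [← h2]

/-- conjugation to the upper unitriangular group. -/
theorem exists_conj_US {F : Type*} [Field F] [Fintype F] {p : ℕ} [hp : Fact p.Prime] [CharP F p]
    {T : Subgroup SL(2, F)} (hT : IsPGroup p T) (h : Fintype.card F = Nat.card T) :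
    ∃ g : SL(2, F), T.map (MulAut.conj g).toMonoidHom = ClSL2.US F := by
  obtain ⟨P, hP⟩ := hT.exists_le_sylow
  have hTP : T = P := by
    apply Subgroup.eq_of_le_of_card_ge hP
    rw [← h]
    exact (ClSL2.card_sylow_char_SL2 p rfl P).le
  obtain ⟨g, hg⟩ := MulAction.exists_smul_eq SL(2, F) P (ClSL2.sylowUS F p)
  refine ⟨g, ?_⟩
  have h1 := congrArg (fun Q : Sylow p SL(2, F) => (Q : Subgroup SL(2, F))) hg
  simp only [Sylow.coe_subgroup_smul, ClSL2.coe_sylowUS] at h1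
  rw [← h1, hTP]
  rfl

/-- elements of trace 2 are unipotent. -/
theorem pow_eq_one_of_trace {F : Type*} [Field F] {p : ℕ} [hp : Fact p.Prime] [CharP F p] {m : SL(2, F)}
    (h : (m : Matrix (Fin 2) (Fin 2) F) 0 0 + (m : Matrix (Fin 2) (Fin 2) F) 1 1 = 2) : m ^ p = 1 := by
  obtain ⟨M, hM⟩ : ∃ M, M = (m : Matrix (Fin 2) (Fin 2) F) := ⟨_, rfl⟩
  have hdet : M 0 0 * M 1 1 - M 0 1 * M 1 0 = 1 := by
    have := m.2
    rw [Matrix.det_fin_two] at this
    rw [hM]; exact this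
  rw [← hM] at h
  obtain ⟨N, hN⟩ : ∃ N, N = M - 1 := ⟨_, rfl⟩
  have hN2 : N * N = 0 := by
    rw [hN]
    ext i j
    fin_cases i <;> fin_cases j <;> simp [Matrix.mul_apply, Fin.sum_univ_two]
    · linear_combination (M 0 0) * h - hdet - h + h
    · linear_combination (M 0 1) * h
    · linear_combination (M 1 0) * h
    · linear_combination (M 1 1) * h - hdet
  have hpow : ∀ n : ℕ, M ^ n = 1 + (n : F) • N := by
    intro n
    induction n with
    | zero => simp
    | succ n ih =>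
      have hM1 : M = 1 + N := by rw [hN]; abel
      rw [pow_succ, ih]
      nth_rewrite 1 [hM1]
      rw [mul_add, mul_one, add_mul, one_mul, Matrix.smul_mul, hN2, smul_zero, add_zero, Nat.cast_succ, add_smul,
        one_smul, add_assoc]
  have h1 := hpow p
  rw [CharP.cast_eq_zero, zero_smul, add_zero, hM] at h1
  apply Subtype.ext
  simp only [Matrix.SpecialLinearGroup.coe_pow, Matrix.SpecialLinearGroup.coe_one]
  exact h1

theorem exists_odd_pow {Γ : Type*} [Group Γ] [Finite Γ] {h : Γ} (hh : ¬ ∃ k, orderOf h = 2 ^ k) :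
    ∃ j : ℕ, Odd (orderOf (h ^ j)) ∧ h ^ j ≠ 1 := by
  obtain ⟨k, n, hn, e⟩ := Nat.exists_eq_two_pow_mul_odd (orderOf_pos h).ne'
  refine ⟨2 ^ k, ?_, ?_⟩
  · rw [orderOf_pow, e, Nat.gcd_eq_right (Dvd.intro _ rfl), Nat.mul_div_cancel_left _ (pow_pos (by norm_num) k)]
    exact hn
  · intro h1
    have h2 := orderOf_dvd_of_pow_eq_one h1
    obtain ⟨i, -, hi⟩ := (Nat.dvd_prime_pow Nat.prime_two).mp h2
    exact hh ⟨i, hi⟩

theorem Rep.fixed_zero_of_types {Γ W : Type*} [Group Γ] [Finite Γ] [AddCommGroup W] {p : ℕ} [hp : Fact p.Prime]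
    {T : Subgroup Γ} {act : Γ → W → W} {V : Γ → AddSubgroup W} (R : Rep p T act V) (hT : IsPGroup p T)
    (hT1 : T ≠ ⊥) (hTe : ∀ t ∈ T, t ^ p = 1) {x : Γ} (hx : x ∉ normalizer (T : Set Γ))
    (hgen : T ⊔ T.map (MulAut.conj x).toMonoidHom = ⊤) (htypes : Types p T) {h : Γ}
    (hh : ¬ ∃ k, orderOf h = p ^ k) {w : W} (hw : act h w = w) : w = 0 := by
  rcases htypes with ⟨F, _, _, hF, ⟨e⟩⟩ | ⟨rfl, F, _, _, m, hF, hFT, ⟨e⟩⟩ | ⟨rfl, r, hr, hr2, ⟨e⟩⟩
  · have hch : CharP F p := charP_of_card hT hF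
    have h1 := R.map e
    have hTe' : IsPGroup p ↥(T.map e.toMonoidHom) := hT.map _
    obtain ⟨g, hg⟩ := exists_conj_US (p := p) hTe' (by
      rw [hF]; exact Nat.card_congr (T.equivMapOfInjective e.toMonoidHom e.injective).toEquiv)
    have h2 := h1.map (MulAut.conj g)
    rw [hg] at h2
    apply h2.sl2 (m := g * e h * g⁻¹) (w := w)
    · intro htr
      have h3 := pow_eq_one_of_trace (p := p) htr
      rw [conj_pow, mul_inv_eq_one] at h3
      have h4 : (e h) ^ p = 1 := mul_left_cancel (h3.trans (mul_one g).symm)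
      rw [← map_pow, map_eq_one_iff e e.injective] at h4
      obtain ⟨k, -, hk⟩ := (Nat.dvd_prime_pow hp.out).mp
        (by rw [pow_one]; exact orderOf_dvd_of_pow_eq_one h4 : orderOf h ∣ p ^ 1)
      exact hh ⟨k, hk⟩
    · have e1 : (MulAut.conj g).symm (g * e h * g⁻¹) = e h := by
        rw [MulAut.conj_symm_apply]; group
      change act (e.symm ((MulAut.conj g).symm (g * e h * g⁻¹))) w = w
      rw [e1, e.symm_apply_apply]; exact hw
  · obtain ⟨j, hj1, hj2⟩ := exists_odd_pow hh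
    have hwj := R.fix_pow hw j
    by_cases hm : m = 0
    · subst hm
      exact R.dihedral (by rw [← hFT, hF]; rfl) hx hgen hj1 hj2 hwj
    · have hm1 : 1 ≤ m := by omega
      have hch : CharP F 2 := SuzukiFin.charTwo hF
      have hFn : Nat.card F = 2 ^ (2 * m + 1) := by rw [Nat.card_eq_fintype_card, hF]
      have hθ := SuzukiFin.th_sq hF
      have hne := SuzukiFin.th_ne hm1 hF
      let e' : Γ ≃* ↥(SuzukiOvoid.Gz (SuzukiFin.th F m)) :=
        (e.trans (SuzukiLie.szEquiv m hm1 hF).symm).trans (MulEquiv.subgroupCongr (SuzukiFin.Sz_eq m))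
      have h1 := R.map e'
      have hTe' : IsPGroup 2 ↥(T.map e'.toMonoidHom) := hT.map _
      obtain ⟨g, hg⟩ := LMinSz.exists_conj_Z _ hθ hne hTe' (by
        rintro _ ⟨t, ht, rfl⟩
        rw [← map_mul, ← pow_two, hTe t ht, map_one]) (by
        rw [hFn, ← hF, hFT]
        exact (Nat.card_congr (T.equivMapOfInjective e'.toMonoidHom e'.injective).toEquiv).symm)
      have h2 := h1.map (MulAut.conj g)
      rw [hg] at h2
      have e1 : (MulAut.conj g).symm (g * e' (h ^ j) * g⁻¹) = e' (h ^ j) := by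
        rw [MulAut.conj_symm_apply]; group
      apply LMinSz.fixed_zero _ hθ hne h2 hm1 hFn (h := g * e' (h ^ j) * g⁻¹) (w := w)
      · have : orderOf (g * e' (h ^ j) * g⁻¹) = orderOf (h ^ j) := by
          rw [← e'.orderOf_eq (h ^ j)]
          exact (MulAut.conj g).orderOf_eq _
        rw [this]; exact hj1
      · intro h3
        rw [mul_inv_eq_one] at h3
        have h4 : e' (h ^ j) = 1 := mul_left_cancel (h3.trans (mul_one g).symm)
        exact hj2 ((map_eq_one_iff e' e'.injective).mp h4)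
      · change act (e'.symm ((MulAut.conj g).symm (g * e' (h ^ j) * g⁻¹))) w = w
        rw [e1, e'.symm_apply_apply]; exact hwj
  · obtain ⟨j, hj1, hj2⟩ := exists_odd_pow hh
    have hwj := R.fix_pow hw j
    refine R.dihedral ?_ hx hgen hj1 hj2 hwj
    -- `|T| = 2`
    have hcard : Nat.card Γ = 2 * r := by rw [Nat.card_congr e.toEquiv, DihedralGroup.nat_card]
    obtain ⟨k, hk⟩ := IsPGroup.iff_card.mp hT
    have h1 : 2 ^ k ∣ 2 * r := by rw [← hk, ← hcard]; exact card_subgroup_dvd_card T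
    have hrodd : ¬ 2 ∣ r := by
      intro h2
      exact hr2 ((Nat.prime_dvd_prime_iff_eq Nat.prime_two hr).mp h2).symm
    have hk1 : k ≤ 1 := by
      by_contra hcon
      have h2 : 2 ^ 2 ∣ 2 * r := (pow_dvd_pow 2 (by omega : 2 ≤ k)).trans h1
      have h3 : 2 * 2 ∣ 2 * r := by rwa [← pow_two]
      exact hrodd (Nat.dvd_of_mul_dvd_mul_left (by norm_num) h3)
    have hk0 : k ≠ 0 := by
      intro h0
      rw [h0, pow_zero] at hk
      exact hT1 (card_eq_one.mp hk)
    have : k = 1 := by omega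
    rw [hk, this, pow_one]

local notation:max A "^[" g "]" => Subgroup.map (MulEquiv.toMonoidHom (MulAut.conj g)) A

variable {L : Type*} [Group L] [Finite L] {p : ℕ} [hp : Fact p.Prime] {Y : Subgroup L}

theorem LSetup.T_pgroup (S : LSetup p Y) : IsPGroup p ↥(Y.map (QuotientGroup.mk' (pCore p L))) := S.pg.map _

theorem LSetup.T_ne_bot (S : LSetup p Y) : Y.map (QuotientGroup.mk' (pCore p L)) ≠ ⊥ := by
  intro h
  rw [Subgroup.map_eq_bot_iff, QuotientGroup.ker_mk'] at h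
  exact S.not_le h

theorem LSetup.T_exp (S : LSetup p Y) : ∀ t ∈ Y.map (QuotientGroup.mk' (pCore p L)), t ^ p = 1 := by
  rintro _ ⟨y, hy, rfl⟩
  rw [← map_pow, S.exp y hy, map_one]

theorem LSetup.mem_normalizer_iff (S : LSetup p Y) {x : L} :
    QuotientGroup.mk' (pCore p L) x ∈ normalizer ((Y.map (QuotientGroup.mk' (pCore p L)) :
      Subgroup (L ⧸ pCore p L)) : Set (L ⧸ pCore p L)) ↔ x ∈ normalizer (Y : Set L) := by
  rw [mem_normalizer_map_mk]
  refine ⟨S.mem_normalizer_of_sup, fun h => ?_⟩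
  exact (le_normalizer_sup le_rfl ((le_top : normalizer (Y : Set L) ≤ ⊤).trans (by rw [normalizer_eq_top]))) h

theorem LSetup.T_gen (S : LSetup p Y) {x : L} (hx : x ∉ normalizer (Y : Set L)) :
    Y.map (QuotientGroup.mk' (pCore p L)) ⊔
      (Y.map (QuotientGroup.mk' (pCore p L))).map (MulAut.conj (QuotientGroup.mk' (pCore p L) x)).toMonoidHom = ⊤ := by
  have h1 : (Y.map (QuotientGroup.mk' (pCore p L))).map (MulAut.conj (QuotientGroup.mk' (pCore p L) x)).toMonoidHom =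
      (Y^[x]).map (QuotientGroup.mk' (pCore p L)) := by
    rw [Subgroup.map_map, Subgroup.map_map]
    congr 1
  rw [h1, ← Subgroup.map_sup, S.sup_conj hx, ← MonoidHom.range_eq_map,
    MonoidHom.range_eq_top.mpr (QuotientGroup.mk'_surjective _)]

theorem LSetup.fixed (S : LSetup p Y) (ht : Types p (Y.map (QuotientGroup.mk' (pCore p L)))) {h : L}
    (hh : ¬ ∃ k, orderOf h = p ^ k) {a : L} (ha : a ∈ pCore p L) (hfix : h * a * h⁻¹ * a⁻¹ ∈ Y ⊓ center L) :
    a ∈ Y ⊓ center L := by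
  obtain ⟨W, _, ι, act, V, hmul, hzero, hact, R⟩ := S.exists_rep
  obtain ⟨x, hx⟩ := S.exists_not_mem
  have hn : (pCore p L).Normal := inferInstance
  rw [← hzero a ha]
  apply R.fixed_zero_of_types S.T_pgroup S.T_ne_bot S.T_exp (x := QuotientGroup.mk' (pCore p L) x)
    (by rw [S.mem_normalizer_iff]; exact hx) (S.T_gen hx) ht (h := QuotientGroup.mk' (pCore p L) h)
  · rintro ⟨k, hk⟩
    have h1 : (QuotientGroup.mk' (pCore p L) h) ^ p ^ k = 1 := by rw [← hk]; exact pow_orderOf_eq_one _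
    rw [← map_pow, ← MonoidHom.mem_ker, QuotientGroup.ker_mk'] at h1
    obtain ⟨j, hj⟩ := (isPGroup_pCore p L) ⟨_, h1⟩
    have h2 : (h ^ p ^ k) ^ p ^ j = 1 := congrArg Subtype.val hj
    rw [← pow_mul, ← pow_add] at h2
    obtain ⟨i, -, hi⟩ := (Nat.dvd_prime_pow hp.out).mp (orderOf_dvd_of_pow_eq_one h2)
    exact hh ⟨i, hi⟩
  · rw [hact h a ha]
    have h1 : h * a * h⁻¹ = (h * a * h⁻¹ * a⁻¹) * a := by group
    have h2 : h * a * h⁻¹ * a⁻¹ ∈ pCore p L := S.center_le hfix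
    rw [h1, hmul _ h2 a ha, (hzero _ h2).mpr hfix, zero_add]

end Cfsg.Agent.Lib.LMin
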