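import Cfsg.Agent.Lib.LMinMain
import Mathlib.FieldTheory.Finite.Basic

/-!
# The normalizer of `T = YA/A` in `L/A` has `T` as its unique normal elementary abelian `p`-subgroup (helper48)
-/

set_option autoImplicit false
set_option linter.unusedSectionVars false

namespace Cfsg.Agent.Lib.LMin

open Subgroup Cfsg Cfsg.Agent.Lib.LocBase
open scoped MatrixGroups

/-- in a group generated by an involution `t` and a conjugate `t'`, `C(t) = ⟨t⟩`. -/
theorem dihedral_cent {Γ : Type*} [Group Γ] [Finite Γ] {t x : Γ} (ht : t * t = 1)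
    (hgen : closure ({t, x * t * x⁻¹} : Set Γ) = ⊤) {g : Γ} (hg : g * t = t * g) : g = 1 ∨ g = t := by
  have hti : t⁻¹ = t := inv_eq_of_mul_eq_one_left ht
  obtain ⟨t', ht'⟩ : ∃ t', t' = x * t * x⁻¹ := ⟨_, rfl⟩
  rw [← ht'] at hgen
  have ht't' : t' * t' = 1 := by
    rw [ht']
    calc _ = x * (t * t) * x⁻¹ := by group
      _ = 1 := by rw [ht]; group
  obtain ⟨c, hc⟩ : ∃ c, c = t * t' := ⟨_, rfl⟩
  have hcases := dihedral_cases ht ht't' hgen
  rw [← hc] at hcases
  have hinv : ∀ i : ℤ, t * c ^ i * t = c ^ (-i) := by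
    intro i
    have hti' : t'⁻¹ = t' := inv_eq_of_mul_eq_one_left ht't'
    have e : t * c * t⁻¹ = c⁻¹ := by
      rw [hc, ← mul_assoc, ht, one_mul, mul_inv_rev, hti, hti']
    have h1 : t * c ^ i * t⁻¹ = (t * c * t⁻¹) ^ i := conj_zpow.symm
    rw [hti] at h1 e
    rw [h1, e, inv_zpow, zpow_neg]
  -- `c` has odd order
  have hconj : ∀ i : ℤ, c ^ i * t * (c ^ i)⁻¹ = t * (c ^ (-(2 * i))) := by
    intro i
    have h1 := hinv i
    have h2 : c ^ i * t = t * c ^ (-i) := by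
      rw [← h1, ← mul_assoc, ← mul_assoc, ht, one_mul]
    rw [h2, mul_assoc, ← zpow_neg, ← zpow_add]
    congr 2
    ring
  have hodd : ∃ i : ℤ, c ^ (2 * i + 1) = 1 := by
    have h1 : ∃ i : ℤ, t' = c ^ i * t * (c ^ i)⁻¹ := by
      rcases hcases x with ⟨i, hi⟩ | ⟨i, hi⟩
      · simp only at hi
        exact ⟨i, by rw [hi, ht']⟩
      · simp only at hi
        refine ⟨i, ?_⟩
        rw [hi, ht', mul_inv_rev, hti]
        calc x * t * x⁻¹ = x * (t * t) * t * x⁻¹ := by rw [ht, mul_one]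
          _ = _ := by
            have : x * t * t * (t * x⁻¹) = x * (t * t) * t * x⁻¹ := by group
            rw [this]
    obtain ⟨i, hi⟩ := h1
    rw [hconj] at hi
    have h2 : c = c ^ (-(2 * i)) := by
      nth_rewrite 1 [hc]
      rw [hi, ← mul_assoc, ht, one_mul]
    refine ⟨i, ?_⟩
    rw [zpow_add, zpow_one]
    nth_rewrite 2 [h2]
    rw [← zpow_add]
    simp
  have hsq : ∀ j : ℤ, c ^ j * t = t * c ^ j → c ^ j = 1 := by
    intro j hj
    have h1 := hinv j
    rw [← hj, mul_assoc, ht, mul_one] at h1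
    have h2 : (c ^ j) * (c ^ j) = 1 := by
      nth_rewrite 1 [h1]
      rw [← zpow_add]; simp
    obtain ⟨i, hi⟩ := hodd
    have h3 : (c ^ j) ^ (2 * i + 1) = 1 := by
      rw [← zpow_mul, mul_comm, zpow_mul, hi, one_zpow]
    rw [zpow_add, zpow_mul, zpow_two, h2, one_zpow, one_mul, zpow_one] at h3
    exact h3
  rcases hcases g with ⟨j, hj⟩ | ⟨j, hj⟩
  · simp only at hj
    left
    rw [← hj] at hg ⊢
    exact hsq j hg
  · simp only at hj
    right
    have h1 : c ^ j = 1 := by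
      apply hsq
      rw [hj]
      calc g * t * t = (t * g) * t := by rw [hg]
        _ = t * (g * t) := by rw [mul_assoc]
    rw [h1] at hj
    calc g = g * (t * t) := by rw [ht, mul_one]
      _ = (g * t) * t := by group
      _ = t := by rw [← hj, one_mul]

theorem normalizer_of_card_two {Γ : Type*} [Group Γ] [Finite Γ] {T : Subgroup Γ} (hT : Nat.card T = 2) {x : Γ}
    (hgen : T ⊔ T.map (MulAut.conj x).toMonoidHom = ⊤) : normalizer (T : Set Γ) ≤ T := by
  obtain ⟨t₀, ht₀⟩ := exists_prime_orderOf_dvd_card' (G := ↥T) 2 (by rw [hT])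
  obtain ⟨t, ht⟩ : ∃ t, t = (t₀ : Γ) := ⟨_, rfl⟩
  have htT : t ∈ T := by rw [ht]; exact t₀.2
  have hto : orderOf t = 2 := by rw [ht, orderOf_coe]; exact ht₀
  have htt : t * t = 1 := by rw [← pow_two, ← hto]; exact pow_orderOf_eq_one t
  have ht1 : t ≠ 1 := by
    intro h; rw [h, orderOf_one] at hto; omega
  have hTz : T = zpowers t := by
    symm
    apply Subgroup.eq_of_le_of_card_ge (zpowers_le.mpr htT)
    rw [hT, Nat.card_zpowers, hto]
  have hTcl : T = closure {t} := by rw [hTz, zpowers_eq_closure]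
  have hgen' : closure ({t, x * t * x⁻¹} : Set Γ) = ⊤ := by
    rw [← hgen, hTcl, MonoidHom.map_closure, Set.image_singleton, ← Subgroup.closure_union]
    rfl
  intro g hgN
  have h1 : g * t * g⁻¹ ∈ T := (mem_normalizer_iff.mp hgN t).mp htT
  have h2 : g * t * g⁻¹ = t := by
    rw [hTz] at h1
    obtain ⟨i, hi⟩ := h1
    simp only at hi
    rcases Int.even_or_odd' i with ⟨j, rfl | rfl⟩
    · rw [zpow_mul, zpow_two, htt, one_zpow] at hi
      exfalso
      apply ht1
      have e : t = g⁻¹ * (g * t * g⁻¹) * g := by group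
      rw [e, ← hi]; group
    · rw [zpow_add, zpow_mul, zpow_two, htt, one_zpow, one_mul, zpow_one] at hi
      exact hi.symm
  have h4 : g * t = t * g := by
    calc g * t = (g * t * g⁻¹) * g := by group
      _ = t * g := by rw [h2]
  rcases dihedral_cent htt hgen' h4 with h5 | h5
  · rw [h5]; exact one_mem _
  · rw [h5]; exact htT

/-- diagonal element -/
def dS {F : Type*} [Field F] (c : F) (hc : c ≠ 0) : SL(2, F) := ⟨!![c, 0; 0, c⁻¹], by
  rw [Matrix.det_fin_two_of]; field_simp; simp⟩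

@[simp] theorem coe_dS {F : Type*} [Field F] (c : F) (hc : c ≠ 0) :
    ((dS c hc : SL(2, F)) : Matrix (Fin 2) (Fin 2) F) = !![c, 0; 0, c⁻¹] := rfl

/-- `SL₂` case. -/
theorem uniq_US {F : Type*} [Field F] [Fintype F] {p : ℕ} [hp : Fact p.Prime] [CharP F p] {V : Subgroup SL(2, F)}
    (hVN : V ≤ normalizer ((ClSL2.US F : Subgroup SL(2, F)) : Set SL(2, F)))
    (hNV : normalizer ((ClSL2.US F : Subgroup SL(2, F)) : Set SL(2, F)) ≤ normalizer (V : Set SL(2, F)))
    (hVp : IsPGroup p V) (hV : V ≠ ⊥) : V = ClSL2.US F := by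
  have h1 : IsPGroup p ↥(ClSL2.US F ⊔ V) := isPGroup_sup (ClSL2.sylowUS F p).2 hVp hVN
  have hle : V ≤ ClSL2.US F := by
    have h2 := (ClSL2.sylowUS F p).3 h1 le_sup_left
    have h3 : ClSL2.US F ⊔ V = ClSL2.US F := h2
    rw [← h3]; exact le_sup_right
  apply le_antisymm hle
  obtain ⟨v, hv1⟩ := Subgroup.ne_bot_iff_exists_ne_one.mp hV
  obtain ⟨b, hb⟩ := ClSL2.exists_uS (hle v.2)
  have hbV : ClSL2.uS b ∈ V := by rw [← hb]; exact v.2
  have hb0 : b ≠ 0 := by
    rintro rfl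
    apply hv1
    apply Subtype.ext
    rw [hb, ClSL2.uS_zero]; rfl
  have hinv : ∀ a : F, (ClSL2.uS a)⁻¹ = ClSL2.uS (-a) := by
    intro a
    rw [inv_eq_iff_mul_eq_one, ← uS_add, add_neg_cancel, ClSL2.uS_zero]
  have hsq : ∀ s : F, ClSL2.uS (s ^ 2 * b) ∈ V := by
    intro s
    by_cases hs : s = 0
    · rw [hs]; simp only [ne_eq, OfNat.ofNat_ne_zero, not_false_eq_true, zero_pow, zero_mul, ClSL2.uS_zero]
      exact one_mem _
    · have hd : dS s hs ∈ normalizer ((ClSL2.US F : Subgroup SL(2, F)) : Set SL(2, F)) :=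
        mem_normalizer_US_of rfl
      have h3 := (mem_normalizer_iff.mp (hNV hd) _).mp hbV
      have e : dS s hs * ClSL2.uS b * (dS s hs)⁻¹ = ClSL2.uS (s ^ 2 * b) := by
        rw [mul_inv_eq_iff_eq_mul]
        ext i j
        fin_cases i <;> fin_cases j <;> simp [Matrix.mul_apply, Fin.sum_univ_two, hs]
        field_simp
      rwa [e] at h3
  intro u hu
  obtain ⟨a, rfl⟩ := ClSL2.exists_uS hu
  by_cases h2 : (2 : F) = 0
  · -- characteristic two
    have hp2 : p = 2 := by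
      have h3 : p ∣ 2 := by
        rw [← CharP.cast_eq_zero_iff F p]
        exact_mod_cast h2
      exact ((Nat.dvd_prime Nat.prime_two).mp h3).resolve_left hp.out.one_lt.ne'
    subst hp2
    have hr : ringChar F = 2 := (ringChar.eq F 2).symm ▸ rfl
    obtain ⟨c, hc⟩ := FiniteField.isSquare_of_char_two hr (a / b)
    have := hsq c
    rw [pow_two, ← hc, div_mul_cancel₀ _ hb0] at this
    exact this
  · have h3 := mul_mem (hsq ((a / b + 1) / 2)) (inv_mem (hsq ((a / b - 1) / 2)))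
    rw [hinv, ← uS_add] at h3
    have e : ((a / b + 1) / 2) ^ 2 * b + -(((a / b - 1) / 2) ^ 2 * b) = a := by
      field_simp
      ring
    rwa [e] at h3

end Cfsg.Agent.Lib.LMin

namespace Cfsg.Agent.Lib.LMinSz

open Cfsg.Agent.Lib.SuzukiOvoid Cfsg.Agent.Lib.SuzukiGroup Cfsg.Agent.Lib.SuzukiFin
  Cfsg.Agent.Lib.SuzukiStab Cfsg.Agent.Lib.SuzukiSyl Cfsg.Agent.Lib.SuzukiPts Cfsg.Agent.Lib.LocBase

variable {F : Type*} [Field F] [CharP F 2] (θ : F ≃+* F) (hθ : ∀ x, θ (θ x) = x ^ 2)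
  (hne : ∃ x, θ x ≠ x ^ 2) [Finite F]

include hne in
theorem uniq_Z {V : Subgroup (Gz θ)} (hVN : V ≤ Subgroup.normalizer (ZSub θ hθ : Set (Gz θ)))
    (hNV : Subgroup.normalizer (ZSub θ hθ : Set (Gz θ)) ≤ Subgroup.normalizer (V : Set (Gz θ)))
    (hVp : IsPGroup 2 V) (hVe : ∀ v ∈ V, v ^ 2 = 1) (hV : V ≠ ⊥) : V = ZSub θ hθ := by
  have hZp : IsPGroup 2 (ZSub θ hθ) := by
    rintro ⟨z, hz⟩
    refine ⟨1, Subtype.ext ?_⟩
    rw [pow_one]
    exact (mem_Z_iff_sq θ hθ (ZSub_le θ hθ hz)).mp hz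
  have h1 : IsPGroup 2 ↥(ZSub θ hθ ⊔ V) := isPGroup_sup hZp hVp hVN
  obtain ⟨p, hp⟩ := two_group_le θ hθ hne h1
  have h01 : Ug θ hθ 0 1 ≠ 1 := fun h => one_ne_zero ((Ug_eq_one θ hθ).mp h).2
  have hpinf : p = inf θ := by
    by_contra hcon
    apply h01
    apply Up_disjoint θ hθ hne (hp (Subgroup.mem_sup_left (Uz_mem θ hθ 1)))
      (by rw [Up_inf]; exact ZSub_le θ hθ (Uz_mem θ hθ 1)) hcon
  rw [hpinf, Up_inf] at hp
  have hle : V ≤ ZSub θ hθ := by
    intro v hv
    rw [mem_Z_iff_sq θ hθ (hp (Subgroup.mem_sup_right hv))]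
    exact hVe v hv
  apply le_antisymm hle
  obtain ⟨v, hv1⟩ := Subgroup.ne_bot_iff_exists_ne_one.mp hV
  obtain ⟨b, hb⟩ := (mem_ZSub θ hθ).mp (hle v.2)
  have hbV : Ug θ hθ 0 b ∈ V := by rw [← hb]; exact v.2
  have hb0 : b ≠ 0 := by
    rintro rfl
    apply hv1
    apply Subtype.ext
    rw [hb, Ug_zero]; rfl
  rintro _ ⟨c, rfl⟩
  by_cases hc : c = 0
  · rw [hc, Ug_zero]; exact one_mem _
  · obtain ⟨x, hx⟩ := mulθ_surj θ hθ (c / b)
    have hx0 : x ≠ 0 := by
      rintro rfl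
      rw [zero_mul] at hx
      exact div_ne_zero hc hb0 hx.symm
    have h2 : Hg θ hθ (Units.mk0 x hx0) ∈ Subgroup.normalizer (ZSub θ hθ : Set (Gz θ)) := by
      rw [mem_normalizer_Z θ hθ hne, Hg_inf]
    have h3 := (Subgroup.mem_normalizer_iff.mp (hNV h2) _).mp hbV
    rw [Hg_conj] at h3
    have e : Ug θ hθ (((Units.mk0 x hx0 : Fˣ) : F) * 0) (((Units.mk0 x hx0 : Fˣ) : F) * θ ((Units.mk0 x hx0 : Fˣ) : F) * b)
      = Ug θ hθ 0 c := by
      rw [Units.val_mk0, hx, mul_zero, div_mul_cancel₀ _ hb0]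
    rwa [e] at h3

end Cfsg.Agent.Lib.LMinSz

namespace Cfsg.Agent.Lib.LMin

open Subgroup Cfsg Cfsg.Agent.Lib.LocBase
open scoped MatrixGroups

theorem uniq_transfer {Γ Γ' : Type*} [Group Γ] [Group Γ'] (e : Γ ≃* Γ') {T V : Subgroup Γ}
    (hVN : V ≤ normalizer (T : Set Γ)) (hNV : normalizer (T : Set Γ) ≤ normalizer (V : Set Γ)) :
    V.map e.toMonoidHom ≤ normalizer ((T.map e.toMonoidHom : Subgroup Γ') : Set Γ') ∧
    normalizer ((T.map e.toMonoidHom : Subgroup Γ') : Set Γ') ≤ normalizer ((V.map e.toMonoidHom : Subgroup Γ') : Set Γ') := by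
  rw [← map_equiv_normalizer_eq T e, ← map_equiv_normalizer_eq V e]
  exact ⟨Subgroup.map_mono hVN, Subgroup.map_mono hNV⟩

theorem unique_normal {Γ : Type*} [Group Γ] [Finite Γ] {p : ℕ} [hp : Fact p.Prime]
    {T : Subgroup Γ} (hT : IsPGroup p T) (hT1 : T ≠ ⊥) (hTe : ∀ t ∈ T, t ^ p = 1) {x : Γ}
    (hgen : T ⊔ T.map (MulAut.conj x).toMonoidHom = ⊤) (htypes : Types p T) {V : Subgroup Γ}
    (hVN : V ≤ normalizer (T : Set Γ)) (hNV : normalizer (T : Set Γ) ≤ normalizer (V : Set Γ))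
    (hVp : IsPGroup p V) (hVe : ∀ v ∈ V, v ^ p = 1) (hV : V ≠ ⊥) : V = T := by
  have two : Nat.card T = 2 → V = T := by
    intro h2
    have h3 := hVN.trans (normalizer_of_card_two h2 hgen)
    apply Subgroup.eq_of_le_of_card_ge h3
    rw [h2]
    have h4 : 0 < Nat.card V := Nat.card_pos
    have h5 : Nat.card V ≠ 1 := fun h => hV (card_eq_one.mp h)
    omega
  rcases htypes with ⟨F, _, _, hF, ⟨e⟩⟩ | ⟨rfl, F, _, _, m, hF, hFT, ⟨e⟩⟩ | ⟨rfl, r, hr, hr2, ⟨e⟩⟩
  · have hch : CharP F p := charP_of_card hT hF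
    have hTe' : IsPGroup p ↥(T.map e.toMonoidHom) := hT.map _
    obtain ⟨g, hg⟩ := exists_conj_US (p := p) hTe' (by
      rw [hF]; exact Nat.card_congr (T.equivMapOfInjective e.toMonoidHom e.injective).toEquiv)
    obtain ⟨h1, h2⟩ := uniq_transfer e hVN hNV
    obtain ⟨h3, h4⟩ := uniq_transfer (MulAut.conj g) h1 h2
    rw [hg] at h3 h4
    have h5 := uniq_US (p := p) h3 h4 ((hVp.map _).map _) (by
      intro h
      rw [Subgroup.map_eq_bot_iff_of_injective _ (MulAut.conj g).injective,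
        Subgroup.map_eq_bot_iff_of_injective _ e.injective] at h
      exact hV h)
    rw [← hg] at h5
    exact Subgroup.map_injective e.injective (Subgroup.map_injective (MulAut.conj g).injective h5)
  · by_cases hm : m = 0
    · subst hm
      exact two (by rw [← hFT, hF]; rfl)
    · have hm1 : 1 ≤ m := by omega
      have hch : CharP F 2 := SuzukiFin.charTwo hF
      have hFn : Nat.card F = 2 ^ (2 * m + 1) := by rw [Nat.card_eq_fintype_card, hF]
      have hθ := SuzukiFin.th_sq hF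
      have hne := SuzukiFin.th_ne hm1 hF
      let e' : Γ ≃* ↥(SuzukiOvoid.Gz (SuzukiFin.th F m)) :=
        (e.trans (SuzukiLie.szEquiv m hm1 hF).symm).trans (MulEquiv.subgroupCongr (SuzukiFin.Sz_eq m))
      have hTe' : IsPGroup 2 ↥(T.map e'.toMonoidHom) := hT.map _
      obtain ⟨g, hg⟩ := LMinSz.exists_conj_Z _ hθ hne hTe' (by
        rintro _ ⟨t, ht, rfl⟩
        rw [← map_mul, ← pow_two, hTe t ht, map_one]) (by
        rw [hFn, ← hF, hFT]
        exact (Nat.card_congr (T.equivMapOfInjective e'.toMonoidHom e'.injective).toEquiv).symm)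
      obtain ⟨h1, h2⟩ := uniq_transfer e' hVN hNV
      obtain ⟨h3, h4⟩ := uniq_transfer (MulAut.conj g) h1 h2
      rw [hg] at h3 h4
      have h5 := LMinSz.uniq_Z _ hθ hne h3 h4 ((hVp.map _).map _) (by
        rintro _ ⟨_, ⟨v, hv, rfl⟩, rfl⟩
        rw [← map_pow, ← map_pow, hVe v hv, map_one, map_one]) (by
        intro h
        rw [Subgroup.map_eq_bot_iff_of_injective _ (MulAut.conj g).injective,
          Subgroup.map_eq_bot_iff_of_injective _ e'.injective] at h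
        exact hV h)
      rw [← hg] at h5
      exact Subgroup.map_injective e'.injective (Subgroup.map_injective (MulAut.conj g).injective h5)
  · apply two
    have hcard : Nat.card Γ = 2 * r := by rw [Nat.card_congr e.toEquiv, DihedralGroup.nat_card]
    obtain ⟨k, hk⟩ := IsPGroup.iff_card.mp hT
    have h1 : 2 ^ k ∣ 2 * r := by rw [← hk, ← hcard]; exact card_subgroup_dvd_card T
    have hrodd : ¬ 2 ∣ r := by
      intro h2
      exact hr2 ((Nat.prime_dvd_prime_iff_eq Nat.prime_two hr).mp h2).symm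
    have hk1 : k ≤ 1 := by
      by_contra hcon
      have h2 : 2 ^ 2 ∣ 2 * r := (pow_dvd_pow 2 (by omega : 2 ≤ k)).trans h1
      have h3 : 2 * 2 ∣ 2 * r := by rwa [← pow_two]
      exact hrodd (Nat.dvd_of_mul_dvd_mul_left (by norm_num) h3)
    have hk0 : k ≠ 0 := by
      intro h0
      rw [h0, pow_zero] at hk
      exact hT1 (card_eq_one.mp hk)
    have : k = 1 := by omega
    rw [hk, this, pow_one]

end Cfsg.Agent.Lib.LMin
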