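import Cfsg.Agent.Lib.SliceTab
import Cfsg.Agent.Lib.CoxBridge

/-!
# Action of a subgroup on labelled lanes as a homomorphism into `Perm (Fin n)`
-/

set_option autoImplicit false

namespace Cfsg.Agent.Lib.LabHom

open Cfsg.Agent.Lib.BenesPerm Cfsg.Agent.Lib.BenesAct Cfsg.Agent.Lib.BenesWord Cfsg.Agent.Lib.SliceTab
open Cfsg.Agent.Lib.SliceK4 (allK allK_spec)

/-- a bijection between lanes in `X` and labels below `n` -/
structure Lab (X : Set ℕ) (n : ℕ) where
  lab : ℕ → ℕ
  lane : ℕ → ℕ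
  lab_lt : ∀ i ∈ X, lab i < n
  lane_mem : ∀ v, v < n → lane v ∈ X
  lab_lane : ∀ v, v < n → lab (lane v) = v
  lane_lab : ∀ i ∈ X, lane (lab i) = i

variable {G : Type*} [Group G] {X : Set ℕ} {n : ℕ} (L : Lab X n) (φ : G →* Equiv.Perm ℕ) (J : Subgroup G)
  (hX : ∀ g ∈ J, ∀ i ∈ X, φ g i ∈ X)

/-- the permutation of labels -/
def pm (g : J) : Equiv.Perm (Fin n) where
  toFun v := ⟨L.lab (φ g (L.lane v)), L.lab_lt _ (hX g g.2 _ (L.lane_mem v v.2))⟩
  invFun v := ⟨L.lab (φ (g⁻¹ : J) (L.lane v)), L.lab_lt _ (hX _ (g⁻¹).2 _ (L.lane_mem v v.2))⟩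
  left_inv v := by
    apply Fin.ext
    change L.lab (φ ((g : G)⁻¹) (L.lane (L.lab (φ g (L.lane v))))) = v
    rw [L.lane_lab _ (hX g g.2 _ (L.lane_mem v v.2)), map_inv, show (φ (g : G))⁻¹ (φ g (L.lane v)) = L.lane v from (φ (g : G)).symm_apply_apply _, L.lab_lane _ v.2]
  right_inv v := by
    apply Fin.ext
    change L.lab (φ g (L.lane (L.lab (φ ((g : G)⁻¹) (L.lane v))))) = v
    rw [L.lane_lab _ (hX _ (J.inv_mem g.2) _ (L.lane_mem v v.2)), map_inv, show φ (g : G) ((φ (g : G))⁻¹ (L.lane v)) = L.lane v from (φ (g : G)).apply_symm_apply _, L.lab_lane _ v.2]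

theorem pm_apply (g : J) (v : Fin n) : ((pm L φ J hX g v : Fin n) : ℕ) = L.lab (φ g (L.lane v)) := rfl

/-- the homomorphism -/
def hom : J →* Equiv.Perm (Fin n) where
  toFun := pm L φ J hX
  map_one' := by
    ext v
    rw [pm_apply]
    change L.lab (φ (1 : G) (L.lane v)) = v
    rw [map_one]; exact L.lab_lane _ v.2
  map_mul' a b := by
    ext v
    rw [pm_apply, Equiv.Perm.mul_apply, pm_apply, pm_apply,
      L.lane_lab _ (hX b b.2 _ (L.lane_mem v v.2))]
    change L.lab (φ ((a : G) * b) (L.lane v)) = _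
    rw [map_mul]; rfl

theorem hom_apply (g : J) (v : Fin n) : ((hom L φ J hX g v : Fin n) : ℕ) = L.lab (φ g (L.lane v)) := rfl

/-- checking that planes give a labelling -/
noncomputable def labOK (F M : ℕ) (P : List ℕ) (lane : ℕ → ℕ) (n : ℕ) : Bool :=
  bandK (Nat.beq (covM F M P n) M) (allK n (fun v => Nat.beq (eqM F M P v) (Nat.pow 2 (lane v))))

/-- the labelling from planes -/
noncomputable def mk {F M n : ℕ} {P : List ℕ} {lane : ℕ → ℕ} (hn : n ≤ 2 ^ P.length)
    (hF : ∀ i, M.testBit i = true → F.testBit i = true) (h : labOK F M P lane n = true) :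
    Lab {i | M.testBit i = true} n where
  lab := lv P
  lane := lane
  lab_lt i hi := by
    unfold labOK at h
    rw [bandK_eq_true] at h
    exact cov_spec hn (hF i hi) h.1 hi
  lane_mem v hv := by
    unfold labOK at h
    rw [bandK_eq_true] at h
    have h1 := Nat.eq_of_beq_eq_true (allK_spec h.2 v hv)
    have h2 : (eqM F M P v).testBit (lane v) = true := by rw [h1]; exact Nat.testBit_two_pow_self
    exact (testBit_eqM.mp h2).1
  lab_lane v hv := by
    unfold labOK at h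
    rw [bandK_eq_true] at h
    have h1 := Nat.eq_of_beq_eq_true (allK_spec h.2 v hv)
    have h2 : (eqM F M P v).testBit (lane v) = true := by rw [h1]; exact Nat.testBit_two_pow_self
    obtain ⟨h3, h4⟩ := testBit_eqM.mp h2
    exact (neM_spec (hF _ h3) P v (lt_of_lt_of_le hv hn)).mp h4
  lane_lab i hi := by
    unfold labOK at h
    rw [bandK_eq_true] at h
    have h0 := cov_spec hn (hF i hi) h.1 hi
    have h1 := Nat.eq_of_beq_eq_true (allK_spec h.2 _ h0)
    have h2 : (eqM F M P (lv P i)).testBit i = true :=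
      testBit_eqM.mpr ⟨hi, (neM_spec (hF _ hi) P _ (lt_of_lt_of_le h0 hn)).mpr rfl⟩
    have h3 : eqM F M P (lv P i) = 2 ^ lane (lv P i) := h1
    rw [h3, Nat.testBit_two_pow] at h2
    exact of_decide_eq_true h2

end Cfsg.Agent.Lib.LabHom
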