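import Cfsg.Agent.Lib.LaneTab
import Cfsg.Agent.Lib.BenesPack

/-!
# Centralizers in permutation groups given by lane networks, by means of invariant masks (helper79)

`Ctx` : a transitive action on lanes `0 … n-1`, together with masks `Ms` invariant under the stabilizer of lane `0`.
A point is given by a word `t` (the lane `φ (Wx x t) 0`); the `j`-th mask around it is `{q | Ms j ∋ t⁻¹ q}`.

* `step`, `pin` : reduction steps for "every `c` commuting with `S` and fixing the points `Ts` lies in `K`"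
* `inner_cases`, `card_out_le_two` : normal form of automorphisms modulo inner ones through a self-centralizing
  Sylow subgroup of prime order
-/

set_option autoImplicit false

namespace Cfsg.Agent.Lib.LaneOut79

open Cfsg.Agent.Lib.BenesPerm Cfsg.Agent.Lib.BenesAct Cfsg.Agent.Lib.BenesWord Cfsg.Agent.Lib.TransLanes
open Cfsg.Agent.Lib.LaneTools Cfsg.Agent.Lib.BenesPack

/-- inverse word -/
def iw (iv : ℕ → ℕ) (w : List ℕ) : List ℕ := (w.map iv).reverse

theorem Wx_iw {G : Type*} [Group G] {x : ℕ → G} {iv : ℕ → ℕ} (hiv : ∀ c, x (iv c) = (x c)⁻¹) (w : List ℕ) :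
    Wx x (iw iv w) = (Wx x w)⁻¹ := by
  unfold iw Wx
  rw [List.prod_inv_reverse, List.map_reverse, List.map_map, List.map_map]
  congr 2
  apply List.map_congr_left
  intro c _
  exact hiv c

/-- the context -/
structure Ctx {G : Type*} [Group G] (x : ℕ → G) (φ : G →* Equiv.Perm ℕ) (ns : List Net) (k n : ℕ) (iv : ℕ → ℕ)
    (Ms : List ℕ) : Prop where
  hns : netsCheck (2 ^ k) ns = true
  hφ : ∀ c, φ (x c) = sperm ns c
  hiv : ∀ c, x (iv c) = (x c)⁻¹
  hn : n ≤ 2 ^ k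
  h0 : 0 < n
  hlt : ∀ g i, i < n → φ g i < n
  hM : ∀ M ∈ Ms, ∀ g, φ g 0 = 0 → ∀ q, q < n → M.testBit (φ g q) = M.testBit q

/-- the words of an entry -/
noncomputable def ew (S : List ℕ) (Ts : List (List ℕ)) (e : ℕ × ℕ × ℕ) : List ℕ := wpow S e.1 ++ nthK [] Ts e.2.1

/-- intersection of transported masks -/
noncomputable def andK (ns : List Net) (iv : ℕ → ℕ) (Ms : List ℕ) (V : ℕ) (S : List ℕ) (Ts : List (List ℕ))
    (L : List (ℕ × ℕ × ℕ)) : ℕ :=
  List.rec (motive := fun _ => ℕ) V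
    (fun e _ ih => force ih fun V => force (nthK 0 Ms e.2.2) fun R =>
      walkK ns (iw iv (ew S Ts e)) R fun R => Nat.land V R) L

/-- union of preimages under words -/
noncomputable def orK (ns : List Net) (V : ℕ) (Ws : List (List ℕ)) : ℕ :=
  List.rec (motive := fun _ => ℕ) 0 (fun w _ ih => force ih fun A => walkK ns w V fun R => Nat.lor A R) Ws

/-- bit test -/
noncomputable def bitK (M v : ℕ) : Bool := Nat.beq (Nat.land (Nat.shiftRight M v) 1) 1

theorem bitK_eq (M v : ℕ) : bitK M v = M.testBit v := by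
  unfold bitK
  have h : Nat.land (Nat.shiftRight M v) 1 = (M >>> v) % 2 := Nat.and_one_is_mod _
  rw [h]
  have h2 : (M >>> v) % 2 = (M.testBit v).toNat := by
    rw [Nat.toNat_testBit, Nat.shiftRight_eq_div_pow]
  rw [h2]
  cases M.testBit v <;> rfl

theorem orK_spec {ns : List Net} {N : ℕ} (hns : netsCheck N ns = true) (V : ℕ) (Ws : List (List ℕ)) (i : ℕ) :
    (orK ns V Ws).testBit i = true ↔ ∃ w ∈ Ws, V.testBit (wfn ns w i) = true := by
  induction Ws with
  | nil =>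
    show (0 : ℕ).testBit i = true ↔ _
    simp
  | cons w L ih =>
    have e : orK ns V (w :: L) = orK ns V L ||| appW ns w V := by
      show force (orK ns V L) (fun A => walkK ns w V fun R => Nat.lor A R) = _
      rw [force_eq, walkK_eq]; rfl
    rw [e, Nat.testBit_or, Bool.or_eq_true, ih, testBit_appW (hok hns)]
    constructor
    · rintro (⟨v, hv, h⟩ | h)
      · exact ⟨v, List.mem_cons_of_mem _ hv, h⟩
      · exact ⟨w, List.mem_cons_self, h⟩
    · rintro ⟨v, hv, h⟩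
      rcases List.mem_cons.1 hv with rfl | hv
      · exact Or.inr h
      · exact Or.inl ⟨v, hv, h⟩

theorem andK_spec {ns : List Net} {N : ℕ} (hns : netsCheck N ns = true) (iv : ℕ → ℕ) (Ms : List ℕ) (V : ℕ)
    (S : List ℕ) (Ts : List (List ℕ)) (L : List (ℕ × ℕ × ℕ)) (i : ℕ) :
    (andK ns iv Ms V S Ts L).testBit i = true ↔ V.testBit i = true ∧
      ∀ e ∈ L, (nthK 0 Ms e.2.2).testBit (wfn ns (iw iv (ew S Ts e)) i) = true := by
  induction L with
  | nil =>
    show V.testBit i = true ↔ _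
    simp
  | cons e L ih =>
    have h : andK ns iv Ms V S Ts (e :: L) = andK ns iv Ms V S Ts L &&& appW ns (iw iv (ew S Ts e)) (nthK 0 Ms e.2.2) := by
      show force (andK ns iv Ms V S Ts L) (fun V => force (nthK 0 Ms e.2.2) fun R =>
        walkK ns (iw iv (ew S Ts e)) R fun R => Nat.land V R) = _
      rw [force_eq, force_eq, walkK_eq]; rfl
    rw [h, Nat.testBit_and, Bool.and_eq_true, ih, testBit_appW (hok hns), List.forall_mem_cons]
    tauto

/-- check of a lane -/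
noncomputable def ptT (tabs : List (List ℕ)) (nc : ℕ) (w : List ℕ) (i j : ℕ) : Bool :=
  bandK (letK nc w) (laneT tabs w i j)

theorem ptT_spec {ns : List Net} {k nc : ℕ} {tabs : List (List ℕ)} (hns : netsCheck (2 ^ k) ns = true)
    (ht : TabsOK ns k nc tabs) {w : List ℕ} {i j : ℕ} (hi : i < 2 ^ k) (h : ptT tabs nc w i j = true) :
    wfn ns w i = j := by
  unfold ptT at h
  rw [bandK_eq_true] at h
  exact laneK_spec hns (laneT_spec hns ht (letK_spec h.1) hi h.2)

/-- the number with given bits -/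
noncomputable def bitsK (l : List ℕ) : ℕ := List.rec (motive := fun _ => ℕ) 0 (fun r _ ih => Nat.lor (Nat.pow 2 r) ih) l

theorem bitsK_spec (l : List ℕ) (i : ℕ) : (bitsK l).testBit i = true ↔ i ∈ l := by
  induction l with
  | nil => show (0 : ℕ).testBit i = true ↔ _; simp
  | cons r l ih =>
    have e : bitsK (r :: l) = 2 ^ r ||| bitsK l := rfl
    rw [e, Nat.testBit_or, Bool.or_eq_true, ih, Nat.testBit_two_pow, decide_eq_true_eq, List.mem_cons]
    tauto

/-- inequality of booleans -/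
noncomputable def neK (a b : Bool) : Bool :=
  Bool.rec (motive := fun _ => Bool) b (Bool.rec (motive := fun _ => Bool) true false b) a

theorem neK_spec {a b : Bool} : neK a b = true ↔ (a == b) = false := by
  cases a <;> cases b <;> decide

/-- one exclusion: word, lane, exponent, mask, two values -/
abbrev Mis : Type := List ℕ × ℕ × ℕ × ℕ × ℕ × ℕ

/-- check of exclusions -/
noncomputable def misT (tabs : List (List ℕ)) (iv : ℕ → ℕ) (Ms : List ℕ) (nc : ℕ) (S tb : List ℕ) (L : List Mis) : Bool :=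
  List.rec (motive := fun _ => Bool) true
    (fun e _ ih => bandK (bandK (ptT tabs nc e.1 0 e.2.1)
      (bandK (ptT tabs nc (iw iv tb ++ (wpow S e.2.2.1 ++ tb)) 0 e.2.2.2.2.1)
      (bandK (ptT tabs nc (iw iv e.1 ++ (wpow S e.2.2.1 ++ e.1)) 0 e.2.2.2.2.2)
        (neK (bitK (nthK 0 Ms e.2.2.2.1) e.2.2.2.2.1) (bitK (nthK 0 Ms e.2.2.2.1) e.2.2.2.2.2))))) ih) L

theorem misT_spec {tabs : List (List ℕ)} {iv : ℕ → ℕ} {Ms : List ℕ} {nc : ℕ} {S tb : List ℕ} {L : List Mis}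
    (h : misT tabs iv Ms nc S tb L = true) : ∀ e ∈ L, ptT tabs nc e.1 0 e.2.1 = true ∧
      ptT tabs nc (iw iv tb ++ (wpow S e.2.2.1 ++ tb)) 0 e.2.2.2.2.1 = true ∧
      ptT tabs nc (iw iv e.1 ++ (wpow S e.2.2.1 ++ e.1)) 0 e.2.2.2.2.2 = true ∧
      (bitK (nthK 0 Ms e.2.2.2.1) e.2.2.2.2.1 == bitK (nthK 0 Ms e.2.2.2.1) e.2.2.2.2.2) = false := by
  induction L with
  | nil => intro e he; exact absurd he (by simp)
  | cons d L ih =>
    change bandK _ (misT tabs iv Ms nc S tb L) = true at h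
    rw [bandK_eq_true, bandK_eq_true, bandK_eq_true, bandK_eq_true, neK_spec] at h
    intro e he
    rcases List.mem_cons.1 he with rfl | he
    · exact h.1
    · exact ih h.2 e he

/-- `A` is covered by the preimages of `V` under `Ws` -/
noncomputable def covers (ns : List Net) (A V : ℕ) (Ws : List (List ℕ)) : Bool :=
  force A (fun A => Nat.beq (Nat.land A (orK ns V Ws)) A)

theorem covers_spec {ns : List Net} {N : ℕ} (hns : netsCheck N ns = true) {A V : ℕ} {Ws : List (List ℕ)}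
    (h : covers ns A V Ws = true) {q : ℕ} (hq : A.testBit q = true) : ∃ w ∈ Ws, V.testBit (wfn ns w q) = true := by
  unfold covers at h
  rw [force_eq] at h
  have h1 : A &&& orK ns V Ws = A := Nat.eq_of_beq_eq_true h
  rw [← orK_spec hns]
  rw [← h1, Nat.testBit_and, Bool.and_eq_true] at hq
  exact hq.2

section

variable {G : Type*} [Group G] {x : ℕ → G} {φ : G →* Equiv.Perm ℕ} {ns : List Net} {k n : ℕ} {iv : ℕ → ℕ}
  {Ms : List ℕ}

/-- `c` fixes lane `0` and the points `Ts` -/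
def Fx (x : ℕ → G) (φ : G →* Equiv.Perm ℕ) (c : G) (Ts : List (List ℕ)) : Prop :=
  φ c 0 = 0 ∧ ∀ t ∈ Ts, φ c (φ (Wx x t) 0) = φ (Wx x t) 0

variable (C : Ctx x φ ns k n iv Ms)
include C

theorem Ctx.φ_word (w : List ℕ) (i : ℕ) : φ (Wx x w) i = wfn ns w i := φ_word' C.hns C.hφ w i

theorem Ctx.φ_iw (w : List ℕ) (i : ℕ) : φ (Wx x w)⁻¹ i = wfn ns (iw iv w) i := by
  rw [← Wx_iw C.hiv, C.φ_word]

theorem Ctx.hM' (j : ℕ) (g : G) (h : φ g 0 = 0) (q : ℕ) (hq : q < n) :
    (nthK 0 Ms j).testBit (φ g q) = (nthK 0 Ms j).testBit q := by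
  rcases nthK_mem 0 Ms j with h1 | h1
  · rw [h1]; simp
  · exact C.hM _ h1 g h q hq

/-- transport of masks -/
theorem Ctx.col_move {a b g : G} (h : φ g (φ a 0) = φ b 0) {q : ℕ} (hq : q < n) (j : ℕ) :
    (nthK 0 Ms j).testBit (φ b⁻¹ (φ g q)) = (nthK 0 Ms j).testBit (φ a⁻¹ q) := by
  have h1 : φ (b⁻¹ * g * a) 0 = 0 := by
    rw [map_mul, map_mul, Equiv.Perm.mul_apply, Equiv.Perm.mul_apply, h, ← Equiv.Perm.mul_apply, ← map_mul,
      inv_mul_cancel, map_one]
    rfl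
  have h2 := C.hM' j _ h1 (φ a⁻¹ q) (C.hlt _ _ hq)
  rw [← h2, ← Equiv.Perm.mul_apply, ← map_mul, ← Equiv.Perm.mul_apply, ← map_mul]
  congr 3
  group

/-- masks around mapped points -/
theorem Ctx.and_move {S : List ℕ} {c : G} (hS : c * Wx x S = Wx x S * c) {Ta Tb : List (List ℕ)}
    (hT : ∀ i, φ c (φ (Wx x (nthK [] Ta i)) 0) = φ (Wx x (nthK [] Tb i)) 0) {L : List (ℕ × ℕ × ℕ)} {q : ℕ}
    (hq : (andK ns iv Ms (2 ^ n - 1) S Ta L).testBit q = true) :
    (andK ns iv Ms (2 ^ n - 1) S Tb L).testBit (φ c q) = true := by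
  rw [andK_spec C.hns] at hq ⊢
  obtain ⟨h1, h2⟩ := hq
  rw [Nat.testBit_two_pow_sub_one, decide_eq_true_eq] at h1
  refine ⟨by rw [Nat.testBit_two_pow_sub_one, decide_eq_true_eq]; exact C.hlt _ _ h1, ?_⟩
  intro e he
  have h3 := h2 e he
  rw [← C.φ_iw] at h3 ⊢
  rw [C.col_move (a := Wx x (ew S Ta e)) (b := Wx x (ew S Tb e)) (g := c) ?_ h1]
  · exact h3
  · have h4 : Commute c (Wx x S) := hS
    have h5 : c * Wx x S ^ e.1 = Wx x S ^ e.1 * c := (h4.pow_right e.1).eq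
    unfold ew
    rw [Wx_append, Wx_append, Wx_wpow, map_mul, map_mul, Equiv.Perm.mul_apply, Equiv.Perm.mul_apply, ← hT e.2.1,
      ← Equiv.Perm.mul_apply, ← map_mul, h5, map_mul, Equiv.Perm.mul_apply]

theorem Ctx.and_fix {S : List ℕ} {c : G} (hS : c * Wx x S = Wx x S * c) {Ts : List (List ℕ)} (hF : Fx x φ c Ts)
    {L : List (ℕ × ℕ × ℕ)} {q : ℕ}
    (hq : (andK ns iv Ms (2 ^ n - 1) S Ts L).testBit q = true) :
    (andK ns iv Ms (2 ^ n - 1) S Ts L).testBit (φ c q) = true := by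
  apply C.and_move hS _ hq
  intro i
  rcases nthK_mem [] Ts i with h | h
  · rw [h]
    show φ c (φ 1 0) = φ 1 0
    rw [map_one]
    exact hF.1
  · exact hF.2 _ h

/-- a pinned lane -/
theorem Ctx.pin {S : List ℕ} {c : G} (hS : c * Wx x S = Wx x S * c) {Ts : List (List ℕ)} (hF : Fx x φ c Ts)
    {L : List (ℕ × ℕ × ℕ)} {b : ℕ} (h : Nat.beq (andK ns iv Ms (2 ^ n - 1) S Ts L) (2 ^ b) = true) : φ c b = b := by
  have h1 : andK ns iv Ms (2 ^ n - 1) S Ts L = 2 ^ b := Nat.eq_of_beq_eq_true h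
  have h2 := C.and_fix hS hF (L := L) (q := b) (by rw [h1]; exact Nat.testBit_two_pow_self)
  rw [h1, Nat.testBit_two_pow, decide_eq_true_eq] at h2
  exact h2.symm

/-- pinned base -/
theorem Ctx.pins {base : List ℕ} (hbase : ∀ g, (∀ b ∈ base, φ g b = b) → g = 1) {S : List ℕ} {c : G}
    (hS : c * Wx x S = Wx x S * c) {Ts : List (List ℕ)} (hF : Fx x φ c Ts)
    (h : ∀ b ∈ base, b = 0 ∨ ∃ L, Nat.beq (andK ns iv Ms (2 ^ n - 1) S Ts L) (2 ^ b) = true) : c = 1 := by
  apply hbase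
  intro b hb
  rcases h b hb with rfl | ⟨L, h1⟩
  · exact hF.1
  · exact C.pin hS hF h1

/-- exclusion by an empty intersection -/
theorem Ctx.excl_emp {S : List ℕ} {c : G} (hS : c * Wx x S = Wx x S * c) {Ts : List (List ℕ)} (hF : Fx x φ c Ts)
    {tb tr : List ℕ} (hc : φ c (φ (Wx x tb) 0) = φ (Wx x tr) 0) {L : List (ℕ × ℕ × ℕ)} {y : ℕ}
    (h1 : bitK (andK ns iv Ms (2 ^ n - 1) S (Ts ++ [tb]) L) y = true)
    (h2 : Nat.beq (andK ns iv Ms (2 ^ n - 1) S (Ts ++ [tr]) L) 0 = true) : False := by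
  have h3 : andK ns iv Ms (2 ^ n - 1) S (Ts ++ [tr]) L = 0 := Nat.eq_of_beq_eq_true h2
  rw [bitK_eq] at h1
  have h4 := C.and_move hS (Ta := Ts ++ [tb]) (Tb := Ts ++ [tr]) ?_ h1
  · rw [h3] at h4
    simp at h4
  · intro i
    rw [nthK_eq, nthK_eq]
    rcases lt_trichotomy i Ts.length with hi | hi | hi
    · rw [List.getElem?_append_left hi, List.getElem?_append_left hi, List.getElem?_eq_getElem hi]
      exact hF.2 _ (List.getElem_mem hi)
    · subst hi
      rw [List.getElem?_append_right le_rfl, List.getElem?_append_right le_rfl]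
      simpa using hc
    · rw [List.getElem?_eq_none (by simp; omega), List.getElem?_eq_none (by simp; omega)]
      show φ c (φ 1 0) = φ 1 0
      rw [map_one]
      exact hF.1

/-- exclusion by two values of a mask along a power of `S` -/
theorem Ctx.excl_mis {S : List ℕ} {c : G} (hS : c * Wx x S = Wx x S * c)
    {tb tr : List ℕ} (hc : φ c (φ (Wx x tb) 0) = φ (Wx x tr) 0) {i j : ℕ} {a b : ℕ}
    (ha : wfn ns (iw iv tb ++ (wpow S i ++ tb)) 0 = a) (hb : wfn ns (iw iv tr ++ (wpow S i ++ tr)) 0 = b)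
    (h : (bitK (nthK 0 Ms j) a == bitK (nthK 0 Ms j) b) = false) : False := by
  rw [bitK_eq, bitK_eq] at h
  have h1 : (nthK 0 Ms j).testBit a ≠ (nthK 0 Ms j).testBit b := by
    intro he
    rw [he] at h
    simp at h
  apply h1
  have h2 := C.col_move hc (q := φ (Wx x (wpow S i ++ tb)) 0) (C.hlt _ _ C.h0) j
  have h4 : Commute c (Wx x S) := hS
  have h5 : c * Wx x S ^ i = Wx x S ^ i * c := (h4.pow_right i).eq
  have h6 : φ c (φ (Wx x (wpow S i ++ tb)) 0) = φ (Wx x (wpow S i ++ tr)) 0 := by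
    rw [Wx_append, Wx_append, Wx_wpow, map_mul, map_mul, Equiv.Perm.mul_apply, Equiv.Perm.mul_apply, ← hc,
      ← Equiv.Perm.mul_apply, ← map_mul, h5, map_mul, Equiv.Perm.mul_apply]
  rw [h6] at h2
  rw [← ha, ← hb, wfn_append ns (iw iv tb), wfn_append ns (iw iv tr), ← C.φ_iw, ← C.φ_iw, ← C.φ_word, ← C.φ_word]
  exact h2.symm

/-- relations -/
theorem Ctx.eq_of_rel (hinj : Function.Injective φ) {j : ℕ} {w1 w2 : List ℕ}
    (h : relD ns k j (w1 ++ iw iv w2) = true) : Wx x w1 = Wx x w2 := by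
  have h1 := word_one C.hns C.hφ hinj (relK_of_relD C.hns h)
  rw [Wx_append, Wx_iw C.hiv] at h1
  exact mul_inv_eq_one.1 h1

theorem Ctx.one_of_rel (hinj : Function.Injective φ) {j : ℕ} {w1 : List ℕ}
    (h : relD ns k j w1 = true) : Wx x w1 = 1 := word_one C.hns C.hφ hinj (relK_of_relD C.hns h)

/-- one reduction step -/
theorem Ctx.step {S : List ℕ} {K : Subgroup G} {Ts : List (List ℕ)} {tb : List ℕ} {b : ℕ} {L : List (ℕ × ℕ × ℕ)}
    (hb : wfn ns tb 0 = b) (hbA : bitK (andK ns iv Ms (2 ^ n - 1) S Ts L) b = true)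
    (hcov : ∀ q, (andK ns iv Ms (2 ^ n - 1) S Ts L).testBit q = true →
      ∃ w : G, w ∈ K ∧ w * Wx x S = Wx x S * w ∧ Fx x φ w Ts ∧ (∀ c : G, c * Wx x S = Wx x S * c → Fx x φ c Ts →
        φ c b = φ w q → φ c b = b))
    (hnext : ∀ c : G, c * Wx x S = Wx x S * c → Fx x φ c (Ts ++ [tb]) → c ∈ K) (c : G)
    (hS : c * Wx x S = Wx x S * c) (hF : Fx x φ c Ts) : c ∈ K := by
  have h1 := C.and_fix hS hF (L := L) (q := b) (by rw [← bitK_eq]; exact hbA)
  obtain ⟨w, hwK, hwS, hwF, hw⟩ := hcov _ h1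
  have h2 : (w * c) * Wx x S = Wx x S * (w * c) := by rw [mul_assoc, hS, ← mul_assoc, hwS, mul_assoc]
  have h3 : Fx x φ (w * c) Ts := by
    refine ⟨by rw [map_mul, Equiv.Perm.mul_apply, hF.1, hwF.1], fun t ht => ?_⟩
    rw [map_mul, Equiv.Perm.mul_apply, hF.2 t ht, hwF.2 t ht]
  have h4 : φ (w * c) b = b := hw _ h2 h3 (by rw [map_mul, Equiv.Perm.mul_apply])
  have h5 : w * c ∈ K := by
    apply hnext _ h2
    refine ⟨h3.1, fun t ht => ?_⟩
    rcases List.mem_append.1 ht with ht | ht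
    · exact h3.2 t ht
    · rw [List.mem_singleton.1 ht, C.φ_word, hb]
      exact h4
  have h6 := K.mul_mem (K.inv_mem hwK) h5
  rwa [inv_mul_cancel_left] at h6

/-- reduction step with explicit coverings and representatives -/
theorem Ctx.step_cov {S : List ℕ} {K : Subgroup G} {Ts : List (List ℕ)} {tb : List ℕ} {b : ℕ}
    {L : List (ℕ × ℕ × ℕ)} {Ws : List (List ℕ)} {reps : List ℕ}
    (hb : wfn ns tb 0 = b) (hbA : bitK (andK ns iv Ms (2 ^ n - 1) S Ts L) b = true)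
    (hcov : covers ns (andK ns iv Ms (2 ^ n - 1) S Ts L) (bitsK reps) Ws = true)
    (hWs : ∀ w ∈ Ws, Wx x w ∈ K ∧ Wx x w * Wx x S = Wx x S * Wx x w ∧ Fx x φ (Wx x w) Ts)
    (hrep : ∀ r ∈ reps, r ≠ b → ∀ c : G, c * Wx x S = Wx x S * c → Fx x φ c Ts → φ c b = r → False)
    (hnext : ∀ c : G, c * Wx x S = Wx x S * c → Fx x φ c (Ts ++ [tb]) → c ∈ K) (c : G)
    (hS : c * Wx x S = Wx x S * c) (hF : Fx x φ c Ts) : c ∈ K := by
  apply C.step hb hbA _ hnext c hS hF
  intro q hq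
  obtain ⟨w, hw, h⟩ := covers_spec C.hns hcov hq
  rw [bitsK_spec] at h
  obtain ⟨h1, h2, h3⟩ := hWs w hw
  refine ⟨Wx x w, h1, h2, h3, ?_⟩
  intro c hc hcF hcb
  rw [C.φ_word] at hcb
  rw [← hcb] at h
  by_contra hne
  exact hrep _ h hne c hc hcF rfl

/-- first step: covering by the powers of `S` -/
theorem Ctx.step_cyc {S : List ℕ} {K : Subgroup G} {tb : List ℕ} {b e : ℕ}
    {L : List (ℕ × ℕ × ℕ)} {reps : List ℕ} {M : ℕ}
    (hb : wfn ns tb 0 = b) (hbA : bitK (andK ns iv Ms (2 ^ n - 1) S [] L) b = true)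
    (hsub : Nat.beq (Nat.lor (andK ns iv Ms (2 ^ n - 1) S [] L) M) M = true)
    (hcov : Nat.beq (covK ns S e (bitsK reps)) M = true) (hSK : Wx x S ∈ K) (hS0 : φ (Wx x S) 0 = 0)
    (hrep : ∀ r ∈ reps, r ≠ b → ∀ c : G, c * Wx x S = Wx x S * c → φ c b = r → False)
    (hnext : ∀ c : G, c * Wx x S = Wx x S * c → Fx x φ c [tb] → c ∈ K) (c : G)
    (hS : c * Wx x S = Wx x S * c) (hF : φ c 0 = 0) : c ∈ K := by
  apply C.step (Ts := []) hb hbA _ hnext c hS ⟨hF, by simp⟩
  intro q hq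
  have h1 : M.testBit q = true := by
    have h2 : andK ns iv Ms (2 ^ n - 1) S [] L ||| M = M := Nat.eq_of_beq_eq_true hsub
    rw [← h2, Nat.testBit_or, hq, Bool.true_or]
  have h3 : covK ns S e (bitsK reps) = M := Nat.eq_of_beq_eq_true hcov
  rw [← h3] at h1
  obtain ⟨j, _, h4⟩ := covK_spec C.hns S e _ _ h1
  rw [bitsK_spec] at h4
  have h5 : Commute (Wx x S) (Wx x S) := Commute.refl _
  refine ⟨Wx x S ^ j, K.pow_mem hSK j, (h5.pow_left j).eq, ⟨?_, by simp⟩, ?_⟩
  · rw [map_pow]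
    exact Function.IsFixedPt.perm_pow hS0 j
  · intro c hc hcF hcb
    rw [← Wx_wpow, C.φ_word] at hcb
    rw [← hcb] at h4
    by_contra hne
    exact hrep _ h4 hne c hc rfl

end

end Cfsg.Agent.Lib.LaneOut79
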