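import Cfsg.Agent.Lib.LaneOut79
import Cfsg.Agent.Lib.CosetOrder
import Cfsg.Agent.Lib.CosetMain

/-!
# Masks invariant under the pointwise stabilizer of several lanes (helper79)

* `stabs_mask` : the last basic orbit is a mask invariant under the pointwise stabilizer of the preceding base lanes
* `Ctx.excl_tri` : exclusion of `c : b ↦ r` by such a mask
-/

set_option autoImplicit false

namespace Cfsg.Agent.Lib.LaneOut79

open Cfsg.Agent.Lib.BenesPerm Cfsg.Agent.Lib.BenesAct Cfsg.Agent.Lib.BenesWord Cfsg.Agent.Lib.TransLanes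
open Cfsg.Agent.Lib.LaneTools Cfsg.Agent.Lib.BenesPack Cfsg.Agent.Lib.BenesPlane Cfsg.Agent.Lib.CosetMain
open Cfsg.Agent.Lib.CosetOrder Cfsg.Agent.Lib.CoxBridge

/-- invariance of an orbit mask -/
theorem mask_inv {G : Type*} [Group G] {φ : G →* Equiv.Perm ℕ} {H : Subgroup G} {n : ℕ} {f : ℕ → G ⧸ H}
    (heq : ∀ g i, i < n → g • f i = f (φ g i)) (hlt : ∀ g i, i < n → φ g i < n)
    (hfinj : ∀ i j, i < n → j < n → f i = f j → i = j) {r M : ℕ}
    (ho : MulAction.orbit H (f r) = f '' {i | Nat.testBit M i = true}) (hM : ∀ i, M.testBit i = true → i < n)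
    {g : G} (hg : g ∈ H) {q : ℕ} (hq : q < n) : M.testBit (φ g q) = M.testBit q := by
  have key : ∀ (g : G), g ∈ H → ∀ q, q < n → M.testBit q = true → M.testBit (φ g q) = true := by
    intro g hg q hq h
    have h1 : f q ∈ MulAction.orbit H (f r) := by rw [ho]; exact ⟨q, h, rfl⟩
    obtain ⟨⟨h', hh'⟩, h1⟩ := h1
    have h1' : h' • f r = f q := h1
    have h2 : f (φ g q) ∈ MulAction.orbit H (f r) := by
      refine ⟨⟨g * h', H.mul_mem hg hh'⟩, ?_⟩
      show (g * h') • f r = f (φ g q)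
      rw [mul_smul, h1', heq g q hq]
    rw [ho] at h2
    obtain ⟨j, hj, hj2⟩ := h2
    have h3 := hfinj _ _ (hM j hj) (hlt g q hq) hj2
    rw [← h3]; exact hj
  rw [Bool.eq_iff_iff]
  constructor
  · intro h
    have h1 := key g⁻¹ (H.inv_mem hg) _ (hlt g q hq) h
    rwa [← Equiv.Perm.mul_apply, ← map_mul, inv_mul_cancel, map_one] at h1
  · exact key g hg q hq

theorem bits_lt {M n : ℕ} (h : M < 2 ^ n) (i : ℕ) (hi : M.testBit i = true) : i < n := by
  by_contra hc
  push Not at hc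
  rw [Nat.testBit_lt_two_pow (lt_of_lt_of_le h (Nat.pow_le_pow_right (by norm_num) hc))] at hi
  exact absurd hi (by simp)

/-- a mask of full size of an orbit of the pointwise stabilizer is invariant -/
theorem stabs_mask {ns : List Net} {k : ℕ} (hns : netsCheck (2 ^ k) ns = true) {P : Subgroup (Equiv.Perm ℕ)}
    (hfin : Finite P) (hP : ∀ w : List ℕ, (w.map (sperm ns)).prod ∈ P) (bs : List ℕ) (ws : List (List ℕ))
    (hfix : ∀ b ∈ bs, invK ns ws (2 ^ b) = true) {b M l : ℕ} (hM : M < 2 ^ 2 ^ k)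
    (steps : List ℕ) (hinv : invK ns ws M = true)
    (hreach : reachK ns (stepsW ws steps) (2 ^ b) (fun V => Nat.beq V M) = true) (hpop : popK k M = l)
    (hle : Nat.card (stabs P bs) ≤ l) {g : Equiv.Perm ℕ} (hg : g ∈ stabs P bs) (q : ℕ) :
    M.testBit (g q) = M.testBit q := by
  have hok : ∀ c, (netOf ns c).OK := fun c => Net.ok_of_check (check_netOf hns c)
  have hfs : Finite (stabs P bs) := Finite.of_injective (fun g : stabs P bs => (⟨g.1, stabs_le P bs g.2⟩ : P))
    (fun g h e => Subtype.ext (congrArg (fun q : P => q.1) e))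
  have hle2 : wordGrp ns ws ≤ stabs P bs := by
    unfold wordGrp
    rw [Subgroup.closure_le]
    rintro _ ⟨w, hw, rfl⟩
    refine mem_stabs.mpr ⟨hP w, ?_⟩
    intro b hb
    have h1 := invK_spec (hfix b hb) w hw
    have h2 : (appW ns w (2 ^ b)).testBit b = (2 ^ b).testBit b := by rw [h1]
    rw [testBit_appW hok, Nat.testBit_two_pow_self, Nat.testBit_two_pow, decide_eq_true_eq] at h2
    rw [prod_sperm_apply hok]
    exact h2.symm
  have h1 : ∀ j, M.testBit j = true → ∃ g ∈ stabs P bs, g b = j := by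
    intro j hj
    rw [reachK_eq] at hreach
    obtain ⟨g, hg, h⟩ := (orbit_eq hok hinv (steps := stepsW ws steps) (by
      intro w hw
      obtain ⟨i, _, rfl⟩ := List.mem_map.mp hw
      exact mem_wordGrp_of_nth _ _) (Nat.eq_of_beq_eq_true hreach) j).mpr hj
    exact ⟨g, hle2 hg, h⟩
  -- the orbit
  let O : Set ℕ := Set.range (fun g : stabs P bs => g.1 b)
  have hOf : O.Finite := Set.finite_range _
  have hO : O.ncard ≤ l := by
    refine le_trans ?_ hle
    have h2 := Set.ncard_le_encard (s := O)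
    rw [← Nat.card_coe_set_eq]
    exact Nat.card_le_card_of_surjective (fun g : stabs P bs => (⟨g.1 b, ⟨g, rfl⟩⟩ : O)) (by
      rintro ⟨_, ⟨g, rfl⟩⟩
      exact ⟨g, rfl⟩)
  have hMO : {j | M.testBit j = true} = O := by
    refine Set.eq_of_subset_of_ncard_le (fun j hj => ?_) ?_ hOf
    · obtain ⟨g, hg, h⟩ := h1 j hj
      exact ⟨⟨g, hg⟩, h⟩
    · rw [ncard_bits hM, hpop]; exact hO
  have key : ∀ g ∈ stabs P bs, ∀ q, M.testBit q = true → M.testBit (g q) = true := by
    intro g hg q hq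
    have h2 : q ∈ O := by rw [← hMO]; exact hq
    obtain ⟨h, rfl⟩ := h2
    have h3 : g (h.1 b) ∈ O := ⟨⟨g * h.1, (stabs P bs).mul_mem hg h.2⟩, rfl⟩
    rw [← hMO] at h3
    exact h3
  rw [Bool.eq_iff_iff]
  constructor
  · intro h
    have h2 := key g⁻¹ ((stabs P bs).inv_mem hg) _ h
    rwa [← Equiv.Perm.mul_apply, inv_mul_cancel] at h2
  · exact key g hg q

/-- entries of a check of lanes -/
noncomputable def triK (tabs : List (List ℕ)) (nc : ℕ) (S : List ℕ) (Ts : List (List ℕ)) (t : List ℕ)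
    (L : List (ℕ × ℕ × ℕ × ℕ)) : Bool :=
  List.rec (motive := fun _ => Bool) true
    (fun e _ ih => bandK (bandK (ptT tabs nc t e.1 e.2.1)
      (ptT tabs nc (wpow S e.2.2.1 ++ nthK [] Ts e.2.2.2) 0 e.2.1)) ih) L

theorem triK_spec {tabs : List (List ℕ)} {nc : ℕ} {S : List ℕ} {Ts : List (List ℕ)} {t : List ℕ}
    {L : List (ℕ × ℕ × ℕ × ℕ)} (h : triK tabs nc S Ts t L = true) : ∀ e ∈ L, ptT tabs nc t e.1 e.2.1 = true ∧
      ptT tabs nc (wpow S e.2.2.1 ++ nthK [] Ts e.2.2.2) 0 e.2.1 = true := by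
  induction L with
  | nil => intro e he; exact absurd he (by simp)
  | cons d L ih =>
    change bandK _ (triK tabs nc S Ts t L) = true at h
    rw [bandK_eq_true, bandK_eq_true] at h
    intro e he
    rcases List.mem_cons.1 he with rfl | he
    · exact h.1
    · exact ih h.2 e he

section

variable {G : Type*} [Group G] {x : ℕ → G} {φ : G →* Equiv.Perm ℕ} {ns : List Net} {k n : ℕ} {iv : ℕ → ℕ}
  {Ms : List ℕ}

variable (C : Ctx x φ ns k n iv Ms)
include C

/-- exclusion by a mask invariant under the pointwise stabilizer of the lanes `bs` -/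
theorem Ctx.excl_tri {S : List ℕ} {c : G} (hS : c * Wx x S = Wx x S * c) {Ts : List (List ℕ)} (hF : Fx x φ c Ts)
    {bs : List ℕ} {M : ℕ} (hB : ∀ g, (∀ b ∈ bs, φ g b = b) → ∀ q, M.testBit (φ g q) = M.testBit q)
    {tb tr : List ℕ} (hc : φ c (φ (Wx x tb) 0) = φ (Wx x tr) 0) {t : List ℕ}
    (h : ∀ b ∈ bs, ∃ i k, φ (Wx x t) b = φ (Wx x (wpow S i ++ nthK [] Ts k)) 0) {y z : ℕ}
    (hy : wfn ns (iw iv t ++ tb) 0 = y) (hz : wfn ns (iw iv t ++ tr) 0 = z)
    (hne : (bitK M y == bitK M z) = false) : False := by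
  have h4 : Commute c (Wx x S) := hS
  have hfix : ∀ b ∈ bs, φ ((Wx x t)⁻¹ * c * Wx x t) b = b := by
    intro b hb
    obtain ⟨i, j, h1⟩ := h b hb
    have h2 : φ c (φ (Wx x t) b) = φ (Wx x t) b := by
      rw [h1]
      have h5 : c * Wx x S ^ i = Wx x S ^ i * c := (h4.pow_right i).eq
      have h6 : φ c (φ (Wx x (nthK [] Ts j)) 0) = φ (Wx x (nthK [] Ts j)) 0 := by
        rcases nthK_mem [] Ts j with h | h
        · rw [h]
          show φ c (φ 1 0) = φ 1 0
          rw [map_one]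
          exact hF.1
        · exact hF.2 _ h
      rw [Wx_append, Wx_wpow, map_mul, Equiv.Perm.mul_apply, ← Equiv.Perm.mul_apply (φ c), ← map_mul, h5, map_mul,
        Equiv.Perm.mul_apply, h6]
    rw [map_mul, map_mul, Equiv.Perm.mul_apply, Equiv.Perm.mul_apply, h2, ← Equiv.Perm.mul_apply, ← map_mul,
      inv_mul_cancel, map_one]
    rfl
  have h1 := hB _ hfix (φ ((Wx x t)⁻¹ * Wx x tb) 0)
  have h2 : φ ((Wx x t)⁻¹ * c * Wx x t) (φ ((Wx x t)⁻¹ * Wx x tb) 0) = φ ((Wx x t)⁻¹ * Wx x tr) 0 := by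
    rw [← Equiv.Perm.mul_apply, ← map_mul]
    have h3 : (Wx x t)⁻¹ * c * Wx x t * ((Wx x t)⁻¹ * Wx x tb) = (Wx x t)⁻¹ * (c * Wx x tb) := by group
    rw [h3, map_mul, Equiv.Perm.mul_apply, map_mul, Equiv.Perm.mul_apply, hc, ← Equiv.Perm.mul_apply, ← map_mul]
  rw [h2, ← Wx_iw C.hiv, ← Wx_append, ← Wx_append, C.φ_word, C.φ_word, hy, hz] at h1
  rw [bitK_eq, bitK_eq, h1] at hne
  simp at hne

end

end Cfsg.Agent.Lib.LaneOut79
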