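import Cfsg.Agent.Lib.LaneOut79b
import Cfsg.Agent.Lib.LaneOut79c
import Cfsg.Agent.Lib.CosetWide

/-!
# Versions for many lanes (helper79)

* the reduction steps relative to a mask `V` invariant under the element in question
* relations checked plane by plane
* counting exclusion
* normal form of automorphisms with a list of exponents
-/

set_option autoImplicit false

namespace Cfsg.Agent.Lib.LaneOut79

open Cfsg.Agent.Lib.BenesPerm Cfsg.Agent.Lib.BenesAct Cfsg.Agent.Lib.BenesWord Cfsg.Agent.Lib.TransLanes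
open Cfsg.Agent.Lib.LaneTools Cfsg.Agent.Lib.BenesPack Cfsg.Agent.Lib.CosetWide

section

variable {G : Type*} [Group G] {x : ℕ → G} {φ : G →* Equiv.Perm ℕ} {ns : List Net} {k n : ℕ} {iv : ℕ → ℕ}
  {Ms : List ℕ}

/-- `V` consists of lanes and is invariant under `c` -/
def InvM (φ : G →* Equiv.Perm ℕ) (n V : ℕ) (c : G) : Prop :=
  ∀ q, V.testBit q = true → q < n ∧ V.testBit (φ c q) = true

variable (C : Ctx x φ ns k n iv Ms)
include C

theorem Ctx.inv_full (c : G) : InvM φ n (2 ^ n - 1) c := by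
  intro q hq
  rw [Nat.testBit_two_pow_sub_one, decide_eq_true_eq] at hq
  refine ⟨hq, ?_⟩
  rw [Nat.testBit_two_pow_sub_one, decide_eq_true_eq]
  exact C.hlt _ _ hq

/-- masks of fixed lanes -/
theorem Ctx.inv_fix {w : List ℕ} {l : List ℕ} (hf : fixOK ns w k n (bitsK l) = true) (hl : ∀ q ∈ l, q < n) {c : G}
    (hc : c * Wx x w = Wx x w * c) : InvM φ n (bitsK l) c := by
  intro q hq
  have h1 : q < n := hl q ((bitsK_spec l q).1 hq)
  refine ⟨h1, ?_⟩
  rw [fixOK_spec C.hns C.hn hf (C.hlt _ _ h1), ← C.φ_word]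
  rw [fixOK_spec C.hns C.hn hf h1, ← C.φ_word] at hq
  rw [← Equiv.Perm.mul_apply, ← map_mul, ← hc, map_mul, Equiv.Perm.mul_apply, hq]

/-- masks around mapped points -/
theorem Ctx.and_moveV {V : ℕ} {S : List ℕ} {c : G} (hV : InvM φ n V c) (hS : c * Wx x S = Wx x S * c)
    {Ta Tb : List (List ℕ)}
    (hT : ∀ i, φ c (φ (Wx x (nthK [] Ta i)) 0) = φ (Wx x (nthK [] Tb i)) 0) {L : List (ℕ × ℕ × ℕ)} {q : ℕ}
    (hq : (andK ns iv Ms V S Ta L).testBit q = true) :
    (andK ns iv Ms V S Tb L).testBit (φ c q) = true := by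
  rw [andK_spec C.hns] at hq ⊢
  obtain ⟨h1, h2⟩ := hq
  obtain ⟨h1n, h1'⟩ := hV q h1
  refine ⟨h1', ?_⟩
  intro e he
  have h3 := h2 e he
  rw [← C.φ_iw] at h3 ⊢
  rw [C.col_move (a := Wx x (ew S Ta e)) (b := Wx x (ew S Tb e)) (g := c) ?_ h1n]
  · exact h3
  · have h4 : Commute c (Wx x S) := hS
    have h5 : c * Wx x S ^ e.1 = Wx x S ^ e.1 * c := (h4.pow_right e.1).eq
    unfold ew
    rw [Wx_append, Wx_append, Wx_wpow, map_mul, map_mul, Equiv.Perm.mul_apply, Equiv.Perm.mul_apply, ← hT e.2.1,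
      ← Equiv.Perm.mul_apply, ← map_mul, h5, map_mul, Equiv.Perm.mul_apply]

theorem Ctx.and_fixV {V : ℕ} {S : List ℕ} {c : G} (hV : InvM φ n V c) (hS : c * Wx x S = Wx x S * c)
    {Ts : List (List ℕ)} (hF : Fx x φ c Ts) {L : List (ℕ × ℕ × ℕ)} {q : ℕ}
    (hq : (andK ns iv Ms V S Ts L).testBit q = true) :
    (andK ns iv Ms V S Ts L).testBit (φ c q) = true := by
  apply C.and_moveV hV hS _ hq
  intro i
  rcases nthK_mem [] Ts i with h | h
  · rw [h]
    show φ c (φ 1 0) = φ 1 0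
    rw [map_one]
    exact hF.1
  · exact hF.2 _ h

/-- a pinned lane -/
theorem Ctx.pinV {V : ℕ} {S : List ℕ} {c : G} (hV : InvM φ n V c) (hS : c * Wx x S = Wx x S * c)
    {Ts : List (List ℕ)} (hF : Fx x φ c Ts)
    {L : List (ℕ × ℕ × ℕ)} {b : ℕ} (h : Nat.beq (andK ns iv Ms V S Ts L) (2 ^ b) = true) : φ c b = b := by
  have h1 : andK ns iv Ms V S Ts L = 2 ^ b := Nat.eq_of_beq_eq_true h
  have h2 := C.and_fixV hV hS hF (L := L) (q := b) (by rw [h1]; exact Nat.testBit_two_pow_self)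
  rw [h1, Nat.testBit_two_pow, decide_eq_true_eq] at h2
  exact h2.symm

/-- reduction step with explicit coverings and representatives, relative to `V` -/
theorem Ctx.step_covV {V : ℕ} {S : List ℕ} {K : Subgroup G} (hVK : ∀ c : G, c * Wx x S = Wx x S * c → InvM φ n V c)
    {Ts : List (List ℕ)} {tb : List ℕ} {b : ℕ}
    {L : List (ℕ × ℕ × ℕ)} {Ws : List (List ℕ)} {reps : List ℕ}
    (hb : wfn ns tb 0 = b) (hbA : bitK (andK ns iv Ms V S Ts L) b = true)
    (hcov : covers ns (andK ns iv Ms V S Ts L) (bitsK reps) Ws = true)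
    (hWs : ∀ w ∈ Ws, Wx x w ∈ K ∧ Wx x w * Wx x S = Wx x S * Wx x w ∧ Fx x φ (Wx x w) Ts)
    (hrep : ∀ r ∈ reps, r ≠ b → ∀ c : G, c * Wx x S = Wx x S * c → Fx x φ c Ts → φ c b = r → False)
    (hnext : ∀ c : G, c * Wx x S = Wx x S * c → Fx x φ c (Ts ++ [tb]) → c ∈ K) (c : G)
    (hS : c * Wx x S = Wx x S * c) (hF : Fx x φ c Ts) : c ∈ K := by
  have h1 := C.and_fixV (hVK c hS) hS hF (L := L) (q := b) (by rw [← bitK_eq]; exact hbA)
  obtain ⟨w, hw, h⟩ := covers_spec C.hns hcov h1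
  rw [bitsK_spec] at h
  obtain ⟨hwK, hwS, hwF⟩ := hWs w hw
  have h2 : (Wx x w * c) * Wx x S = Wx x S * (Wx x w * c) := by
    rw [mul_assoc, hS, ← mul_assoc, hwS, mul_assoc]
  have h3 : Fx x φ (Wx x w * c) Ts := by
    refine ⟨by rw [map_mul, Equiv.Perm.mul_apply, hF.1, hwF.1], fun t ht => ?_⟩
    rw [map_mul, Equiv.Perm.mul_apply, hF.2 t ht, hwF.2 t ht]
  have h4 : φ (Wx x w * c) b = b := by
    have h5 : φ (Wx x w * c) b = wfn ns w (φ c b) := by rw [map_mul, Equiv.Perm.mul_apply, C.φ_word]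
    by_contra hne
    rw [h5] at hne
    exact hrep _ h hne _ h2 h3 h5
  have h5 : Wx x w * c ∈ K := by
    apply hnext _ h2
    refine ⟨h3.1, fun t ht => ?_⟩
    rcases List.mem_append.1 ht with ht | ht
    · exact h3.2 t ht
    · rw [List.mem_singleton.1 ht, C.φ_word, hb]
      exact h4
  have h6 := K.mul_mem (K.inv_mem hwK) h5
  rwa [inv_mul_cancel_left] at h6

/-- relations from plane checks -/
theorem Ctx.eq_of_pl (hinj : Function.Injective φ) {l : List (List ℕ × List ℕ)} (h : ∀ b, b < k → plK ns k b l = true)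
    {u v : List ℕ} (hq : (u, v) ∈ l) : Wx x u = Wx x v := by
  apply hinj
  have h1 : ∀ w : List ℕ, φ (Wx x w) = (w.map (sperm ns)).prod := by
    intro w
    unfold Wx
    rw [map_list_prod, List.map_map]
    congr 1
    apply List.map_congr_left
    intro c _
    exact C.hφ c
  rw [h1, h1]
  exact sperm_of_plK C.hns h hq

/-- relations from lanes of a base -/
noncomputable def relT (tabs : List (List ℕ)) (nc : ℕ) (iv : ℕ → ℕ) (base : List ℕ) (u v : List ℕ) : Bool :=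
  List.rec (motive := fun _ => Bool) true (fun b _ ih => bandK (ptT tabs nc (u ++ iw iv v) b b) ih) base

omit C in
theorem relT_mem {tabs : List (List ℕ)} {nc : ℕ} {iv : ℕ → ℕ} {base : List ℕ} {u v : List ℕ}
    (h : relT tabs nc iv base u v = true) : ∀ b ∈ base, ptT tabs nc (u ++ iw iv v) b b = true := by
  induction base with
  | nil => intro b hb; exact absurd hb (by simp)
  | cons a l ih =>
    change bandK _ (relT tabs nc iv l u v) = true at h
    rw [bandK_eq_true] at h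
    intro b hb
    rcases List.mem_cons.1 hb with rfl | hb
    · exact h.1
    · exact ih h.2 b hb

theorem Ctx.eq_of_relT {tabs : List (List ℕ)} {nc : ℕ} (ht : TabsOK ns k nc tabs) {base : List ℕ}
    (hbase : ∀ g, (∀ b ∈ base, φ g b = b) → g = 1) (hbn : ∀ b ∈ base, b < n) {u v : List ℕ}
    (h : relT tabs nc iv base u v = true) : Wx x u = Wx x v := by
  have h1 : Wx x u * (Wx x v)⁻¹ = 1 := by
    apply hbase
    intro b hb
    have h2 := ptT_spec C.hns ht (lt_of_lt_of_le (hbn b hb) C.hn) (relT_mem h b hb)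
    rw [← Wx_iw C.hiv, ← Wx_append, C.φ_word]
    exact h2
  exact mul_inv_eq_one.1 h1

/-- lanes of a cycle of `S` with their words -/
noncomputable def chainT (tabs : List (List ℕ)) (nc : ℕ) (S : List ℕ) (L : List (List ℕ × ℕ)) : ℕ → Bool :=
  List.rec (motive := fun _ => ℕ → Bool) (fun _ => true)
    (fun e _ ih => fun b => bandK (bandK (ptT tabs nc S b e.2) (ptT tabs nc e.1 0 e.2)) (ih e.2)) L

theorem Ctx.chain_fix {tabs : List (List ℕ)} {nc : ℕ} (ht : TabsOK ns k nc tabs) {S : List ℕ} {c : G}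
    (hS : c * Wx x S = Wx x S * c) (L : List (List ℕ × ℕ)) : ∀ (b : ℕ), b < n → chainT tabs nc S L b = true → φ c b = b →
    ∀ e ∈ L, φ c (φ (Wx x e.1) 0) = φ (Wx x e.1) 0 := by
  induction L with
  | nil => intro b _ _ _ e he; exact absurd he (by simp)
  | cons d L ih =>
    intro b hbn h hb
    change bandK (bandK (ptT tabs nc S b d.2) (ptT tabs nc d.1 0 d.2)) (chainT tabs nc S L d.2) = true at h
    rw [bandK_eq_true, bandK_eq_true] at h
    have h1 : φ (Wx x S) b = d.2 := by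
      rw [C.φ_word]; exact ptT_spec C.hns ht (lt_of_lt_of_le hbn C.hn) h.1.1
    have h2 : φ (Wx x d.1) 0 = d.2 := by
      rw [C.φ_word]; exact ptT_spec C.hns ht (lt_of_lt_of_le C.h0 C.hn) h.1.2
    have h3 : φ c d.2 = d.2 := by
      rw [← h1, ← Equiv.Perm.mul_apply, ← map_mul, hS, map_mul, Equiv.Perm.mul_apply, hb]
    have h4 : d.2 < n := by rw [← h1]; exact C.hlt _ _ hbn
    intro e he
    rcases List.mem_cons.1 he with rfl | he
    · rw [h2]; exact h3
    · exact ih d.2 h4 h.2 h3 e he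

/-- reduction step with an explicit list of lanes -/
theorem Ctx.step_listV {V : ℕ} {S : List ℕ} {K : Subgroup G} {Ts : List (List ℕ)} {b : ℕ}
    {L : List (ℕ × ℕ × ℕ)} {A : List ℕ}
    (hA : Nat.beq (andK ns iv Ms V S Ts L) (bitsK A) = true) (hbA : b ∈ A)
    (hcov : ∀ q ∈ A, q = b ∨ (∃ w : G, w ∈ K ∧ w * Wx x S = Wx x S * w ∧ Fx x φ w Ts ∧ φ w q = b) ∨
      (∀ c : G, c * Wx x S = Wx x S * c → Fx x φ c Ts → φ c b = q → False))
    {c : G} (hV : InvM φ n V c)
    (hnext : ∀ c' : G, c' * Wx x S = Wx x S * c' → Fx x φ c' Ts → φ c' b = b → c' ∈ K)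
    (hS : c * Wx x S = Wx x S * c) (hF : Fx x φ c Ts) : c ∈ K := by
  have h0 : andK ns iv Ms V S Ts L = bitsK A := Nat.eq_of_beq_eq_true hA
  have h1 := C.and_fixV hV hS hF (L := L) (q := b) (by rw [h0, bitsK_spec]; exact hbA)
  rw [h0, bitsK_spec] at h1
  rcases hcov _ h1 with h | ⟨w, hwK, hwS, hwF, hw⟩ | h
  · exact hnext c hS hF h
  · have h2 : (w * c) * Wx x S = Wx x S * (w * c) := by
      rw [mul_assoc, hS, ← mul_assoc, hwS, mul_assoc]
    have h3 : Fx x φ (w * c) Ts := by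
      refine ⟨by rw [map_mul, Equiv.Perm.mul_apply, hF.1, hwF.1], fun t ht => ?_⟩
      rw [map_mul, Equiv.Perm.mul_apply, hF.2 t ht, hwF.2 t ht]
    have h4 : φ (w * c) b = b := by rw [map_mul, Equiv.Perm.mul_apply, hw]
    have h5 := hnext _ h2 h3 h4
    have h6 := K.mul_mem (K.inv_mem hwK) h5
    rwa [inv_mul_cancel_left] at h6
  · exact (h c hS hF rfl).elim

/-- counting exclusion: `c` maps the mask `A` into the smaller mask `B` -/
theorem Ctx.excl_pop {c : G} {A B a b : ℕ} (hA : A < 2 ^ 2 ^ k) (hB : B < 2 ^ 2 ^ k)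
    (hAB : ∀ q, A.testBit q = true → B.testBit (φ c q) = true) (ha : popK k A = a) (hb : popK k B = b)
    (hlt : b < a) : False := by
  have h1 := ncard_bits hA
  have h2 := ncard_bits hB
  have hfin : {i : ℕ | B.testBit i = true}.Finite := by
    apply Set.Finite.subset (Set.finite_Iio (2 ^ k))
    intro i hi
    exact bits_lt hB i hi
  have h3 : {i : ℕ | A.testBit i = true}.ncard ≤ {i : ℕ | B.testBit i = true}.ncard := by
    have h4 : (φ c '' {i : ℕ | A.testBit i = true}).ncard = {i : ℕ | A.testBit i = true}.ncard :=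
      Set.ncard_image_of_injective _ (φ c).injective
    rw [← h4]
    apply Set.ncard_le_ncard _ hfin
    rintro _ ⟨i, hi, rfl⟩
    exact hAB i hi
  rw [h1, h2, ha, hb] at h3
  omega

end

section norm

variable {G : Type*} [Group G]

/-- normal form of an automorphism, list of exponents -/
theorem exists_normL [Finite G] {p : ℕ} (hp : p.Prime) (hpG : p ∣ Nat.card G) (hpG2 : ¬ p * p ∣ Nat.card G) {X U : G}
    (hX : orderOf X = p) {r r' : ℕ} {E : List ℕ} (hU : U * X * U⁻¹ = X ^ r) (hU' : U⁻¹ * X * U = X ^ r')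
    (hC : ∀ c : G, c * X = X * c → c ∈ Subgroup.zpowers X) (hs : ∀ s ∈ E, ¬ p ∣ s)
    (hrep : ∀ j < p, j ≠ 0 → ∃ a < p, (j * r ^ a) % p ∈ E)
    (hadj : ∀ l < p, ∃ m < p, (r' * m + l) % p = m) (α : MulAut G) :
    ∃ g : G, ∃ e ∈ E, (MulAut.conj g * α) X = X ^ e ∧ (MulAut.conj g * α) U = U := by
  have hF : Fact p.Prime := ⟨hp⟩
  have hcard : ∀ P : Sylow p G, Nat.card P = p := by
    intro P
    rw [Sylow.card_eq_multiplicity]
    have hpos : Nat.card G ≠ 0 := Nat.card_pos.ne'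
    have h1 : (Nat.card G).factorization p = 1 := by
      have h2 : 1 ≤ (Nat.card G).factorization p := (hp.dvd_iff_one_le_factorization hpos).1 hpG
      have h3 : (Nat.card G).factorization p < 2 := by
        by_contra h4
        apply hpG2
        rw [← pow_two]
        exact (hp.pow_dvd_iff_le_factorization hpos).2 (by omega)
      omega
    rw [h1, pow_one]
  have hz : ∀ z : G, orderOf z = p → ∃ P : Sylow p G, (P : Subgroup G) = Subgroup.zpowers z := by
    intro z hz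
    have h1 : IsPGroup p (Subgroup.zpowers z) := IsPGroup.of_card (n := 1) (by rw [Nat.card_zpowers, hz, pow_one])
    obtain ⟨P, hP⟩ := h1.exists_le_sylow
    refine ⟨P, (Subgroup.eq_of_le_of_card_ge hP ?_).symm⟩
    rw [Nat.card_zpowers, hz]
    exact (hcard P).le
  -- step 1
  have hay : orderOf (α X) = p := by rw [MulEquiv.orderOf_eq, hX]
  obtain ⟨P, hP⟩ := hz X hX
  obtain ⟨Q, hQ⟩ := hz (α X) hay
  obtain ⟨g, hg⟩ := MulAction.exists_smul_eq G Q P
  have h1 : g * α X * g⁻¹ ∈ Subgroup.zpowers X := by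
    rw [← hP, ← hg, Sylow.coe_subgroup_smul, Subgroup.mem_smul_pointwise_iff_exists]
    exact ⟨α X, by rw [hQ]; exact Subgroup.mem_zpowers _, rfl⟩
  have h2 : orderOf (g * α X * g⁻¹) = p := by
    have : g * α X * g⁻¹ = MulAut.conj g (α X) := rfl
    rw [this, MulEquiv.orderOf_eq, hay]
  classical
  rw [mem_zpowers_iff_mem_range_orderOf, hX] at h1
  obtain ⟨j, hj, hj2⟩ := Finset.mem_image.1 h1
  rw [Finset.mem_range] at hj
  have hj2' : X ^ j = g * α X * g⁻¹ := hj2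
  have hj0 : j ≠ 0 := by
    rintro rfl
    rw [pow_zero] at hj2'
    rw [← hj2', orderOf_one] at h2
    exact hp.one_lt.ne h2
  -- step 2
  obtain ⟨a, ha, ha2⟩ := hrep j hj hj0
  set g2 := U ^ a * g with hg2
  have h3 : g2 * α X * g2⁻¹ = X ^ ((j * r ^ a) % p) := by
    rw [pow_mod_eq hX, ← conj_pow' hU a j, hj2', hg2, mul_inv_rev]
    simp only [mul_assoc]
  -- the exponent
  obtain ⟨e, heE, he1, he2⟩ : ∃ e, e ∈ E ∧ ¬ p ∣ e ∧ g2 * α X * g2⁻¹ = X ^ e := ⟨_, ha2, hs _ ha2, h3⟩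
  -- step 3
  have h4 : (U⁻¹ * (g2 * α U * g2⁻¹)) * X ^ e = X ^ e * (U⁻¹ * (g2 * α U * g2⁻¹)) := by
    have h5 : (g2 * α U * g2⁻¹) * (g2 * α X * g2⁻¹) * (g2 * α U * g2⁻¹)⁻¹ = (g2 * α X * g2⁻¹) ^ r := by
      have h6 : α U * α X * (α U)⁻¹ = α X ^ r := by rw [← map_mul, ← map_inv, ← map_mul, hU, map_pow]
      rw [conj_pow, ← h6]
      group
    rw [he2] at h5
    have h7 : U * X ^ e * U⁻¹ = (X ^ e) ^ r := by
      have := conj_pow' hU 1 e
      rw [pow_one, pow_one] at this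
      rw [this, pow_mul]
    have h8 : (g2 * α U * g2⁻¹) * X ^ e = (U * X ^ e * U⁻¹) * (g2 * α U * g2⁻¹) := by
      rw [h7, ← h5]; group
    calc (U⁻¹ * (g2 * α U * g2⁻¹)) * X ^ e = U⁻¹ * ((g2 * α U * g2⁻¹) * X ^ e) := by rw [mul_assoc]
      _ = U⁻¹ * ((U * X ^ e * U⁻¹) * (g2 * α U * g2⁻¹)) := by rw [h8]
      _ = _ := by group
  have h5 : (U⁻¹ * (g2 * α U * g2⁻¹)) * X = X * (U⁻¹ * (g2 * α U * g2⁻¹)) := by
    obtain ⟨f, hf⟩ : ∃ f : ℕ, X ^ (e * f) = X := by
      have hcop : Nat.Coprime e p := ((Nat.Prime.coprime_iff_not_dvd hp).2 he1).symm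
      obtain ⟨f, hf⟩ := Nat.exists_mul_mod_eq_one_of_coprime hcop hp.one_lt
      refine ⟨f, ?_⟩
      rw [← pow_mod_eq hX, hf.2, pow_one]
    have h6 : Commute (U⁻¹ * (g2 * α U * g2⁻¹)) (X ^ e) := h4
    have h7 := (h6.pow_right f).eq
    rw [← pow_mul, hf] at h7
    exact h7
  have h6 := hC _ h5
  rw [mem_zpowers_iff_mem_range_orderOf, hX] at h6
  obtain ⟨l, hl, hl2⟩ := Finset.mem_image.1 h6
  rw [Finset.mem_range] at hl
  have hl2' : X ^ l = U⁻¹ * (g2 * α U * g2⁻¹) := hl2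
  -- step 4
  obtain ⟨m, hm, hm2⟩ := hadj l hl
  refine ⟨X ^ m * g2, e, heE, ?_, ?_⟩
  · show (X ^ m * g2) * α X * (X ^ m * g2)⁻¹ = X ^ e
    calc (X ^ m * g2) * α X * (X ^ m * g2)⁻¹ = X ^ m * (g2 * α X * g2⁻¹) * (X ^ m)⁻¹ := by group
      _ = X ^ m * X ^ e * (X ^ m)⁻¹ := by rw [he2]
      _ = X ^ e := by rw [← pow_add, add_comm, pow_add, mul_inv_cancel_right]
  · show (X ^ m * g2) * α U * (X ^ m * g2)⁻¹ = U
    have h8 : g2 * α U * g2⁻¹ = U * X ^ l := by rw [hl2']; group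
    have h9 : U⁻¹ * X ^ m * U = X ^ (m * r') := by
      have := conj_pow' (U := U⁻¹) (X := X) (r := r') (by rw [inv_inv]; exact hU') 1 m
      rw [pow_one, pow_one, inv_inv] at this
      exact this
    calc (X ^ m * g2) * α U * (X ^ m * g2)⁻¹ = X ^ m * (g2 * α U * g2⁻¹) * (X ^ m)⁻¹ := by group
      _ = U * ((U⁻¹ * X ^ m * U) * X ^ l) * (X ^ m)⁻¹ := by rw [h8]; group
      _ = U * (X ^ ((r' * m + l) % p)) * (X ^ m)⁻¹ := by
          rw [h9, ← pow_add, pow_mod_eq hX, mul_comm m r']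
      _ = U := by rw [hm2, mul_inv_cancel_right]

/-- two classes: normalized automorphisms take at most two values on a generating triple -/
theorem card_out_eq_two3 [Finite G] {X U W W' : G}
    (hgen : ∀ P : Subgroup G, X ∈ P → U ∈ P → W ∈ P → P = ⊤)
    (hnorm : ∀ α : MulAut G, ∃ g : G, (MulAut.conj g * α) X = X ∧ (MulAut.conj g * α) U = U ∧
      ((MulAut.conj g * α) W = W ∨ (MulAut.conj g * α) W = W'))
    (θ : MulAut G) (hθ : θ ∉ Cfsg.Inn G) : Nat.card (Cfsg.Out G) = 2 := by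
  apply card_out_eq_two _ θ hθ
  have hext : ∀ α β : MulAut G, α X = β X → α U = β U → α W = β W → α = β := by
    intro α β h1 h2 h3
    have h4 := hgen (α.toMonoidHom.eqLocus β.toMonoidHom) h1 h2 h3
    ext g
    have : g ∈ α.toMonoidHom.eqLocus β.toMonoidHom := by rw [h4]; exact Subgroup.mem_top _
    exact this
  have key : ∀ α : MulAut G, α ∉ Cfsg.Inn G → ∃ g : G, (MulAut.conj g * α) X = X ∧ (MulAut.conj g * α) U = U ∧
      (MulAut.conj g * α) W = W' := by
    intro α hα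
    obtain ⟨g, h1, h2, h3 | h3⟩ := hnorm α
    · exfalso
      apply hα
      have h4 : MulAut.conj g * α = 1 := hext _ _ h1 h2 h3
      have h5 : α = MulAut.conj g⁻¹ := by
        rw [map_inv, eq_inv_iff_mul_eq_one, ← h4]
        have h6 : α * MulAut.conj g = MulAut.conj g * α := by
          have h7 : α = (MulAut.conj g)⁻¹ := (inv_eq_of_mul_eq_one_right h4).symm
          rw [h7]; group
        exact h6
      rw [h5]; exact ⟨g⁻¹, rfl⟩
    · exact ⟨g, h1, h2, h3⟩
  intro α β hα hβ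
  obtain ⟨g, h1, h2, h3⟩ := key α hα
  obtain ⟨g', h1', h2', h3'⟩ := key β hβ
  have h4 : MulAut.conj g * α = MulAut.conj g' * β :=
    hext _ _ (h1.trans h1'.symm) (h2.trans h2'.symm) (h3.trans h3'.symm)
  have h5 : α⁻¹ * β = α⁻¹ * (MulAut.conj g'⁻¹ * MulAut.conj g) * α⁻¹⁻¹ := by
    have h6 : β = MulAut.conj g'⁻¹ * (MulAut.conj g * α) := by
      rw [h4, map_inv, inv_mul_cancel_left]
    rw [inv_inv, h6]; group
  rw [h5]
  apply Subgroup.Normal.conj_mem (inferInstance : (Cfsg.Inn G).Normal)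
  rw [← map_mul]
  exact ⟨_, rfl⟩

end norm

end Cfsg.Agent.Lib.LaneOut79
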