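import Cfsg.Agent.Lib.LargeExtra7
import Cfsg.Agent.Lib.CoprimeAction2

/-!
# Large extraspecial 2-subgroups: groups of odd order normalizing `Q`
-/

set_option autoImplicit false
set_option linter.style.haveILetI false

namespace Cfsg.Agent.Lib.LargeExtra

open Subgroup
open scoped commutatorElement

variable {G : Type*} [Group G]

/-- Elements normalizing `Q` centralize `z`. -/
theorem ExData.conj_z {Q : Subgroup G} {z : G} (h : ExData Q z) {a : G}
    (ha : a ∈ Subgroup.normalizer (Q : Set G)) : a * z * a⁻¹ = z := by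
  have h1 : a * z * a⁻¹ ∈ Q := (Subgroup.mem_normalizer_iff.1 ha z).1 h.mem
  rcases h.center _ h1 (by
    intro x hx
    have hx' : a⁻¹ * x * a ∈ Q := by
      have := (Subgroup.mem_normalizer_iff.1 (inv_mem ha) x).1 hx
      simpa using this
    have h2 := h.cen _ hx'
    have h3 := congrArg (fun t => a * t * a⁻¹) h2
    simp only [mul_assoc, mul_inv_cancel_left, mul_inv_cancel, mul_one] at h3 ⊢
    exact h3.symm) with h2 | h2
  · exfalso
    rw [mul_inv_eq_one] at h2
    exact h.ne (mul_left_cancel (h2.trans (mul_one a).symm))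
  · exact h2

section coprime

variable {Q A : Subgroup G} {z : G}

theorem ExData.comm_fixed (h : ExData Q z) (hA : A ≤ Subgroup.normalizer (Q : Set G)) :
    ∀ x ∈ Q ⊓ Subgroup.centralizer (A : Set G), ∀ y ∈ ⁅Q, A⁆, x * y = y * x := by
  intro x hx y hy
  have key : ⁅Q, A⁆ ≤ Subgroup.centralizer ({x} : Set G) := by
    rw [Subgroup.commutator_le]
    intro q hq a ha
    rw [Subgroup.mem_centralizer_singleton_iff, commutatorElement_def]
    have hxa : a * x = x * a := (Subgroup.mem_centralizer_iff.1 hx.2) a ha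
    have haz : a * z = z * a := by
      have := h.conj_z (hA ha); rw [mul_inv_eq_iff_eq_mul] at this; exact this
    have hax' : a⁻¹ * x = x * a⁻¹ := by rw [inv_mul_eq_iff_eq_mul, ← mul_assoc, hxa, mul_inv_cancel_right]
    rcases h.comm q hq x hx.1 with h1 | h1
    · have h1' : q⁻¹ * x = x * q⁻¹ := by rw [inv_mul_eq_iff_eq_mul, ← mul_assoc, h1, mul_inv_cancel_right]
      calc q * a * q⁻¹ * a⁻¹ * x = q * a * q⁻¹ * (a⁻¹ * x) := by simp only [mul_assoc]
        _ = q * a * (q⁻¹ * x) * a⁻¹ := by rw [hax']; simp only [mul_assoc]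
        _ = q * (a * x) * q⁻¹ * a⁻¹ := by rw [h1']; simp only [mul_assoc]
        _ = (q * x) * a * q⁻¹ * a⁻¹ := by rw [hxa]; simp only [mul_assoc]
        _ = x * (q * a * q⁻¹ * a⁻¹) := by rw [h1]; simp only [mul_assoc]
    · have hqz := h.cen q hq
      have h1' : q⁻¹ * x = z * (x * q⁻¹) := by
        rw [inv_mul_eq_iff_eq_mul]
        calc x = z * (z * x) := by rw [← mul_assoc, h.sq, one_mul]
          _ = z * (z * (x * q)) * q⁻¹ := by simp [mul_assoc]
          _ = z * (q * x) * q⁻¹ := by rw [← h1]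
          _ = q * (z * (x * q⁻¹)) := by rw [← mul_assoc z q x, ← hqz]; simp only [mul_assoc]
      calc q * a * q⁻¹ * a⁻¹ * x = q * a * q⁻¹ * (a⁻¹ * x) := by simp only [mul_assoc]
        _ = q * a * (q⁻¹ * x) * a⁻¹ := by rw [hax']; simp only [mul_assoc]
        _ = q * (a * z) * x * q⁻¹ * a⁻¹ := by rw [h1']; simp only [mul_assoc]
        _ = (q * z) * (a * x) * q⁻¹ * a⁻¹ := by rw [haz]; simp only [mul_assoc]
        _ = z * (q * x) * a * q⁻¹ * a⁻¹ := by rw [hqz, hxa]; simp only [mul_assoc]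
        _ = (z * z) * x * q * a * q⁻¹ * a⁻¹ := by rw [h1]; simp only [mul_assoc]
        _ = x * (q * a * q⁻¹ * a⁻¹) := by rw [h.sq, one_mul]; simp only [mul_assoc]
  exact (Subgroup.mem_centralizer_singleton_iff.1 (key hy)).symm

theorem coprime_of_odd [Finite G] (hQ : IsPGroup 2 Q) (hA : Odd (Nat.card A)) :
    (Nat.card A).Coprime (Nat.card Q) := by
  haveI : Fact (Nat.Prime 2) := ⟨Nat.prime_two⟩
  obtain ⟨n, hn⟩ := hQ.exists_card_eq
  rw [hn]
  exact (Nat.coprime_two_right.2 hA).pow_right n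

theorem isSolvable_of_isPGroup [Finite G] (hQ : IsPGroup 2 Q) : Group.IsSolvable Q := by
  haveI : Fact (Nat.Prime 2) := ⟨Nat.prime_two⟩
  have := hQ.isNilpotent
  infer_instance

theorem ExData.sup_eq [Finite G] (h : ExData Q z) (hA : A ≤ Subgroup.normalizer (Q : Set G))
    (hAodd : Odd (Nat.card A)) : (Q ⊓ Subgroup.centralizer (A : Set G)) ⊔ ⁅Q, A⁆ = Q := by
  rw [sup_comm]
  exact Cfsg.Agent.Lib.CoprimeAction2.commutator_sup_centralizer hA (coprime_of_odd h.isP hAodd)
    (Or.inr (isSolvable_of_isPGroup h.isP))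

theorem ExData.commutator_le (hA : A ≤ Subgroup.normalizer (Q : Set G)) : ⁅Q, A⁆ ≤ Q :=
  Subgroup.le_normalizer_iff_commutator_le_left.mp hA

/-- a subgroup commuting with `⁅Q,A⁆` and `C_Q(A)` elementwise. -/
theorem ExData.eq_one_or_of_comm [Finite G] (h : ExData Q z) (hA : A ≤ Subgroup.normalizer (Q : Set G))
    (hAodd : Odd (Nat.card A)) {x : G} (hx : x ∈ Q)
    (h1 : ∀ y ∈ Q ⊓ Subgroup.centralizer (A : Set G), x * y = y * x)
    (h2 : ∀ y ∈ ⁅Q, A⁆, x * y = y * x) : x = 1 ∨ x = z := by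
  apply h.center x hx
  intro y hy
  have h3 : (Q ⊓ Subgroup.centralizer (A : Set G)) ⊔ ⁅Q, A⁆ ≤ Subgroup.centralizer ({x} : Set G) := by
    apply sup_le
    · intro y hy
      rw [Subgroup.mem_centralizer_singleton_iff]; exact (h1 y hy).symm
    · intro y hy
      rw [Subgroup.mem_centralizer_singleton_iff]; exact (h2 y hy).symm
  rw [h.sup_eq hA hAodd] at h3
  exact (Subgroup.mem_centralizer_singleton_iff.1 (h3 hy)).symm

theorem ExData.z_mem_fixed (h : ExData Q z) (hA : A ≤ Subgroup.normalizer (Q : Set G)) :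
    z ∈ Q ⊓ Subgroup.centralizer (A : Set G) := by
  refine ⟨h.mem, Subgroup.mem_centralizer_iff.2 ?_⟩
  intro a ha
  have := h.conj_z (hA ha); rw [mul_inv_eq_iff_eq_mul] at this; exact this

/-- `[Q, A]` is extraspecial unless `A` centralizes `Q`. -/
theorem ExData.commutator [Finite G] (h : ExData Q z) (hA : A ≤ Subgroup.normalizer (Q : Set G))
    (hAodd : Odd (Nat.card A)) (hne : ¬ Q ≤ Subgroup.centralizer (A : Set G)) : ExData ⁅Q, A⁆ z := by
  have hle : ⁅Q, A⁆ ≤ Q := ExData.commutator_le hA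
  have hfix := h.comm_fixed hA
  have hnonab : ∃ a ∈ ⁅Q, A⁆, ∃ b ∈ ⁅Q, A⁆, a * b ≠ b * a := by
    by_contra hcon
    push Not at hcon
    apply hne
    -- `⁅Q, A⁆ ≤ {1, z}`
    have h1 : ∀ x ∈ ⁅Q, A⁆, x = 1 ∨ x = z := fun x hx =>
      h.eq_one_or_of_comm hA hAodd (hle hx) (fun y hy => (hfix y hy x hx).symm)
        (fun y hy => hcon x hx y hy)
    refine Cfsg.Agent.Lib.CoprimeAction2.le_centralizer_of_series (N := Subgroup.zpowers z) hA
      (coprime_of_odd h.isP hAodd) (Or.inr (isSolvable_of_isPGroup h.isP)) ?_ ?_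
    · intro x hx
      exact (mem_zpowers_of_sq h.sq).2 (h1 x hx)
    · intro x hx
      rcases (mem_zpowers_of_sq h.sq).1 hx with rfl | rfl
      · exact one_mem _
      · exact (h.z_mem_fixed hA).2
  have hz : z ∈ ⁅Q, A⁆ := by
    obtain ⟨a, ha, b, hb, hab⟩ := hnonab
    have h1 : a * b = z * (b * a) := (h.comm a (hle ha) b (hle hb)).resolve_left hab
    have h2 : z = a * b * (b * a)⁻¹ := by rw [h1]; simp [mul_assoc]
    rw [h2]; exact mul_mem (mul_mem ha hb) (inv_mem (mul_mem hb ha))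
  exact ExData.of h.sq h.ne hz (fun q hq => h.cen q (hle hq))
    (fun a ha b hb => h.comm a (hle ha) b (hle hb))
    (fun q hq hq' => h.eq_one_or_of_comm hA hAodd (hle hq) (fun y hy => (hfix y hy q hq).symm) hq')
    hnonab

/-- `C_Q(A)` is extraspecial or equal to the centre. -/
theorem ExData.fixed [Finite G] (h : ExData Q z) (hA : A ≤ Subgroup.normalizer (Q : Set G))
    (hAodd : Odd (Nat.card A)) :
    (∀ x ∈ Q ⊓ Subgroup.centralizer (A : Set G), x = 1 ∨ x = z) ∨
      ExData (Q ⊓ Subgroup.centralizer (A : Set G)) z := by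
  have hfix := h.comm_fixed hA
  by_cases hab : ∀ a ∈ Q ⊓ Subgroup.centralizer (A : Set G), ∀ b ∈ Q ⊓ Subgroup.centralizer (A : Set G), a * b = b * a
  · left
    intro x hx
    exact h.eq_one_or_of_comm hA hAodd hx.1 (fun y hy => hab x hx y hy) (fun y hy => hfix x hx y hy)
  · right
    push Not at hab
    obtain ⟨a, ha, b, hb, hne⟩ := hab
    exact ExData.of h.sq h.ne (h.z_mem_fixed hA) (fun q hq => h.cen q hq.1)
      (fun a ha b hb => h.comm a ha.1 b hb.1)
      (fun q hq hq' => h.eq_one_or_of_comm hA hAodd hq.1 hq' (fun y hy => hfix q hq y hy))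
      ⟨a, ha, b, hb, hne⟩

end coprime

end Cfsg.Agent.Lib.LargeExtra
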