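import Cfsg.Agent.Lib.LargeSub
import Cfsg.Agent.Lib.Components

/-!
Large subgroups with a quasisimple section on a module (helper48).
-/

set_option autoImplicit false

namespace Cfsg.Agent.Lib.LargeQS

open Subgroup Cfsg Cfsg.Agent.Lib.LocBase Cfsg.Agent.Lib.WeakCl Cfsg.Agent.Lib.LargeSub
open scoped commutatorElement

variable {G : Type*} [Group G]

theorem comm_sup_le {A B C N : Subgroup G} (hA : A ≤ normalizer (N : Set G)) (hB : B ≤ normalizer (N : Set G))
    (h1 : ⁅A, C⁆ ≤ N) (h2 : ⁅B, C⁆ ≤ N) : ⁅A ⊔ B, C⁆ ≤ N := by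
  let F : Subgroup G := normalizer (N : Set G)
  rw [commutator_le]
  intro x hx c hc
  have hAB : A ⊔ B ≤ normalizer (N : Set G) := sup_le hA hB
  have key : ∀ y ∈ closure ((A : Set G) ∪ B), y ∈ normalizer (N : Set G) ∧ ⁅y, c⁆ ∈ N := by
    intro y hy
    induction hy using Subgroup.closure_induction with
    | mem y hy =>
      rcases hy with hy | hy
      · exact ⟨hA hy, h1 (commutator_mem_commutator hy hc)⟩
      · exact ⟨hB hy, h2 (commutator_mem_commutator hy hc)⟩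
    | one => exact ⟨Subgroup.one_mem _, by rw [commutatorElement_one_left]; exact N.one_mem⟩
    | mul y z _ _ ihy ihz =>
      refine ⟨Subgroup.mul_mem _ ihy.1 ihz.1, ?_⟩
      have e : ⁅y * z, c⁆ = y * ⁅z, c⁆ * y⁻¹ * ⁅y, c⁆ := by simp only [commutatorElement_def]; group
      rw [e]
      exact N.mul_mem ((mem_normalizer_iff.mp ihy.1 _).mp ihz.2) ihy.2
    | inv y _ ihy =>
      refine ⟨Subgroup.inv_mem _ ihy.1, ?_⟩
      have e : ⁅y⁻¹, c⁆ = y⁻¹ * ⁅y, c⁆⁻¹ * y⁻¹⁻¹ := by simp only [commutatorElement_def]; group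
      rw [e]
      exact (mem_normalizer_iff.mp (Subgroup.inv_mem _ ihy.1) _).mp (N.inv_mem ihy.2)
  rw [← SetLike.mem_coe, sup_eq_closure] at hx
  exact (key x hx).2

theorem comm_sup_le' {A B C N : Subgroup G} (hA : A ≤ normalizer (N : Set G)) (hB : B ≤ normalizer (N : Set G))
    (h1 : ⁅C, A⁆ ≤ N) (h2 : ⁅C, B⁆ ≤ N) : ⁅C, A ⊔ B⁆ ≤ N := by
  rw [commutator_comm] at h1 h2 ⊢
  exact comm_sup_le hA hB h1 h2

theorem normalizes_commutator (K Y : Subgroup G) : K ≤ normalizer ((⁅K, Y⁆ : Subgroup G) : Set G) :=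
  normalizer_commutator_ge_left K Y

/-- `O^p` of a product `A N` with `N` normal, when `O^p(A) ≤ N` up to `p`-powers. -/
theorem pRes_sup_le [Finite G] {p : ℕ} [Fact p.Prime] {A N : Subgroup G} (hN : A ≤ normalizer (N : Set G))
    (h : pRes p A ≤ N) : pRes p (A ⊔ N) ≤ N := by
  apply pRes_le_of_pow_mem
  intro x hx
  rw [sup_comm] at hx
  obtain ⟨n, hn, a, ha, rfl⟩ := exists_mul_of_mem_sup_of_le hN hx
  obtain ⟨k, hk⟩ := exists_pow_mem_pRes (p := p) ha
  refine ⟨k, ?_⟩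
  have h1 := mul_pow_mem_coset hn (hN ha) (p ^ k)
  have h2 := N.mul_mem h1 (h hk)
  simpa using h2

section A

variable [Finite G] {p : ℕ} [hp : Fact p.Prime]

/-- Lemma A, part 1: with `O_p(Γ) = 1` and `O^p(Γ) ≤ K`, the centralizer of `K` is a `p'`-group. -/
theorem no_p_centralizing {K Y : Subgroup G} [hK : K.Normal] (hO : pCore p G = ⊥) (hres : pRes p (⊤ : Subgroup G) ≤ K)
    (hY : IsPGroup p Y) (hYK : Y ≤ centralizer (K : Set G)) : Y = ⊥ := by
  have hKn : (⊤ : Subgroup G) ≤ normalizer (K : Set G) := by rw [normalizer_eq_top_iff.mpr hK]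
  have hDn : (⊤ : Subgroup G) ≤ normalizer (centralizer (K : Set G) : Set G) := le_normalizer_centralizer hKn
  obtain ⟨T, hT, hYT⟩ : ∃ T, IsSyl p T (centralizer (K : Set G)) ∧ Y ≤ T := by
    obtain ⟨T, hT, h⟩ := exists_isSyl_ge hY hYK
    exact ⟨T, hT, h⟩
  have h1 : pRes p (centralizer (K : Set G)) ≤ normalizer (T : Set G) := by
    have h2 : pRes p (centralizer (K : Set G)) ≤ K := (pRes_mono le_top).trans hres
    have h3 : T ≤ centralizer ((pRes p (centralizer (K : Set G)) : Subgroup G) : Set G) :=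
      hT.le.trans (centralizer_le h2)
    rw [le_centralizer_iff] at h3
    exact h3.trans (centralizer_le_normalizer _)
  have h4 : centralizer (K : Set G) ≤ normalizer (T : Set G) := by
    rw [← hT.sup_pRes]
    exact sup_le le_normalizer h1
  have h5 : T ≤ pCoreOf p (centralizer (K : Set G)) := le_pCoreOf hT.le h4 hT.pgroup
  have h6 : pCoreOf p (centralizer (K : Set G)) ≤ pCore p G := by
    rw [← pCoreOf_top]
    exact (Subn.of_normal le_top hDn).pCoreOf_le
  rw [eq_bot_iff, ← hO]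
  exact hYT.trans (h5.trans h6)

/-- Lemma A, part 2. -/
theorem comm_eq {K Y : Subgroup G} [hK : K.Normal] (hq : Cfsg.IsQuasisimple ↥K) (hO : pCore p G = ⊥)
    (hres : pRes p (⊤ : Subgroup G) ≤ K) (hY : IsPGroup p Y) (hY1 : Y ≠ ⊥) : ⁅K, Y⁆ = K := by
  have hle : ⁅K, Y⁆ ≤ K := commutator_le_left K Y
  have hn : ((⁅K, Y⁆ : Subgroup G).subgroupOf K).Normal :=
    normal_subgroupOf_of_le_normalizer (normalizes_commutator K Y)
  have hperf : ⁅K, K⁆ = K := by
    have h1 := Group.isPerfect_def.mp hq.1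
    have h2 := congrArg (Subgroup.map K.subtype) h1
    rw [_root_.commutator_def, Subgroup.map_commutator, ← MonoidHom.range_eq_map, range_subtype] at h2
    exact h2
  rcases Components.normal_le_center_or_eq_top hq ((⁅K, Y⁆ : Subgroup G).subgroupOf K) with h | h
  · exfalso
    apply hY1
    apply no_p_centralizing hO hres hY
    have h1 : ⁅K, Y⁆ ≤ centralizer (K : Set G) := by
      intro x hx
      have h2 : (⟨x, hle hx⟩ : ↥K) ∈ center ↥K := h (by rw [mem_subgroupOf]; exact hx)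
      rw [mem_centralizer_iff]
      intro k hk
      exact congrArg Subtype.val ((mem_center_iff.mp h2) ⟨k, hk⟩)
    rw [← commutator_eq_bot_iff_le_centralizer] at h1
    have h3 : ⁅⁅Y, K⁆, K⁆ = ⊥ := by rw [commutator_comm Y K]; exact h1
    have h4 : ⁅⁅K, K⁆, Y⁆ = ⊥ := by
      apply commutator_commutator_eq_bot_of_rotate
      · exact h1
      · exact h3
    rw [hperf] at h4
    rw [← commutator_eq_bot_iff_le_centralizer, commutator_comm]
    exact h4
  · exact le_antisymm hle (subgroupOf_eq_top.mp h)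

/-- The setup: `E` with a normal subgroup `C ⊓ E` such that `E / (E ⊓ C)` has `O_p = 1` and
`O^p(E) (E ⊓ C) / (E ⊓ C)` is quasisimple. -/
theorem transfer {E C : Subgroup G} [hn : (C.subgroupOf E).Normal] (hred : pCore p (↥E ⧸ C.subgroupOf E) = ⊥)
    (hqs : Cfsg.IsQuasisimple ↥((pResidual p ↥E ⊔ C.subgroupOf E).map (QuotientGroup.mk' (C.subgroupOf E)))) :
    (∀ Y : Subgroup G, Y ≤ E → IsPGroup p Y → ¬ Y ≤ C → pRes p E ≤ ⁅pRes p E, Y⁆ ⊔ (E ⊓ C)) ∧
    (pRes p E ≤ ⁅pRes p E, pRes p E⁆ ⊔ (E ⊓ C)) ∧ (pCoreOf p E ≤ C) := by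
  set D : Subgroup ↥E := C.subgroupOf E with hD
  set π := QuotientGroup.mk' D with hπ
  set R : Subgroup ↥E := pResidual p ↥E with hR
  have hRn : R.Normal := pResidual_normal' p ↥E
  have hDmap : D.map π = ⊥ := by rw [Subgroup.map_eq_bot_iff, QuotientGroup.ker_mk']
  have hKR : (R ⊔ D).map π = R.map π := by rw [Subgroup.map_sup, hDmap, sup_bot_eq]
  rw [hKR] at hqs
  have hKn : (R.map π).Normal := hRn.map π (QuotientGroup.mk'_surjective D)
  have hres : pRes p (⊤ : Subgroup (↥E ⧸ D)) ≤ R.map π := by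
    apply pRes_le_of_pow_mem
    intro x _
    obtain ⟨e, rfl⟩ := QuotientGroup.mk'_surjective D x
    obtain ⟨k, hk⟩ := exists_pow_mem_pRes (p := p) (H := (⊤ : Subgroup ↥E)) (mem_top e)
    rw [← pResidual_eq] at hk
    exact ⟨k, by rw [← map_pow]; exact mem_map_of_mem π hk⟩
  have hDE : D.map E.subtype = E ⊓ C := by rw [hD, subgroupOf_map_subtype, inf_comm]
  have hRE : R.map E.subtype = pRes p E := map_pResidual p E
  have pull : ∀ W : Subgroup ↥E, R.map π ≤ W.map π → pRes p E ≤ W.map E.subtype ⊔ (E ⊓ C) := by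
    intro W hW
    have h1 : R ≤ W ⊔ D := by
      have h2 := Subgroup.map_le_iff_le_comap.mp hW
      rw [Subgroup.comap_map_eq, QuotientGroup.ker_mk'] at h2
      exact h2
    have h2 := Subgroup.map_mono (f := E.subtype) h1
    rw [hRE, Subgroup.map_sup, hDE] at h2
    exact h2
  refine ⟨?_, ?_, ?_⟩
  · intro Y hYE hY hYC
    set Y' : Subgroup ↥E := Y.subgroupOf E with hY'
    have hY'p : IsPGroup p ↥(Y'.map π) := by
      apply IsPGroup.map
      exact hY.comap_of_injective E.subtype E.subtype_injective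
    have hY'1 : Y'.map π ≠ ⊥ := by
      rw [Ne, Subgroup.map_eq_bot_iff, QuotientGroup.ker_mk']
      intro h
      apply hYC
      intro y hy
      have : (⟨y, hYE hy⟩ : ↥E) ∈ D := h (by rw [hY', mem_subgroupOf]; exact hy)
      rw [hD, mem_subgroupOf] at this
      exact this
    have h1 := comm_eq hqs hred hres hY'p hY'1
    have h2 := pull ⁅R, Y'⁆ (by rw [Subgroup.map_commutator, h1])
    rw [Subgroup.map_commutator, hRE, hY', map_subgroupOf_eq_of_le hYE] at h2
    exact h2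
  · have hperf : ⁅R.map π, R.map π⁆ = R.map π := by
      have h1 := Group.isPerfect_def.mp hqs.1
      have h2 := congrArg (Subgroup.map (R.map π).subtype) h1
      rw [_root_.commutator_def, Subgroup.map_commutator, ← MonoidHom.range_eq_map, range_subtype] at h2
      exact h2
    have h2 := pull ⁅R, R⁆ (by rw [Subgroup.map_commutator, hperf])
    rw [Subgroup.map_commutator, hRE] at h2
    exact h2
  · have h1 : (pCore p ↥E).map π ≤ pCore p (↥E ⧸ D) := by
      apply le_pCore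
      · exact Subgroup.Normal.map inferInstance π (QuotientGroup.mk'_surjective D)
      · exact (isPGroup_pCore p ↥E).map π
    rw [hred, le_bot_iff, Subgroup.map_eq_bot_iff, QuotientGroup.ker_mk'] at h1
    rintro x ⟨y, hy, rfl⟩
    have := h1 hy
    rw [hD, mem_subgroupOf] at this
    exact this

/-- The ambient core of the theorem. `X = E°`, `X₀ = O^p(X)`, `c = E ⊓ C(U)`, `N`-type arguments. -/
theorem main {Q E C : Subgroup G} (hQE : Q ≤ E) (hQ : IsPGroup p Q) (hQC : ¬ Q ≤ C)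
    (hCn : E ≤ normalizer (C : Set G))
    (hC : ⁅Cfsg.weakClosure Q E, C⁆ ≤ pCoreOf p (Cfsg.weakClosure Q E))
    (F1 : ∀ Y : Subgroup G, Y ≤ E → IsPGroup p Y → ¬ Y ≤ C → pRes p E ≤ ⁅pRes p E, Y⁆ ⊔ (E ⊓ C))
    (F2 : pRes p E ≤ ⁅pRes p E, pRes p E⁆ ⊔ (E ⊓ C)) :
    pRes p E ⊔ (E ⊓ C) = pRes p (Cfsg.weakClosure Q E) ⊔ (E ⊓ C) ∧
    ⁅pRes p (Cfsg.weakClosure Q E), pRes p (Cfsg.weakClosure Q E)⁆ = pRes p (Cfsg.weakClosure Q E) ∧
    ⁅pRes p (Cfsg.weakClosure Q E), pRes p (Cfsg.weakClosure Q E) ⊓ C⁆ ≤ pCoreOf p (pRes p (Cfsg.weakClosure Q E)) ∧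
    (∀ Y : Subgroup G, Y ≤ E → IsPGroup p Y → ¬ Y ≤ C →
      ⁅pRes p (Cfsg.weakClosure Q E), Y⁆ = pRes p (Cfsg.weakClosure Q E)) := by
  set X : Subgroup G := Cfsg.weakClosure Q E with hX
  set X₀ : Subgroup G := pRes p X with hX₀
  set c : Subgroup G := E ⊓ C with hc
  have hXE : X ≤ E := weakClosure_le
  have hEX : E ≤ normalizer (X : Set G) := le_normalizer.trans (normalizer_le_normalizer_weakClosure Q E)
  have hEX₀ : E ≤ normalizer (X₀ : Set G) := hEX.trans (normalizer_le_normalizer_pRes p X)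
  have hX₀X : X₀ ≤ X := pRes_le p X
  have hX₀E : X₀ ≤ E := hX₀X.trans hXE
  have hcE : c ≤ E := inf_le_left
  have hEc : E ≤ normalizer (c : Set G) := le_normalizer_inf le_normalizer hCn
  have hRE : pRes p E ≤ E := pRes_le p E
  have hQX : Q ≤ X := le_weakClosure hQE
  have hX₀R : X₀ ≤ pRes p E := pRes_mono hXE
  have hEO : E ≤ normalizer (pCoreOf p X₀ : Set G) := hEX₀.trans (normalizer_le_normalizer_pCoreOf p X₀)
  have hX₀c : ⁅X, X₀ ⊓ C⁆ ≤ pCoreOf p X₀ := by
    have h1 : ⁅X, X₀ ⊓ C⁆ ≤ pCoreOf p X := (commutator_mono le_rfl inf_le_right).trans hC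
    have h2 : ⁅X, X₀ ⊓ C⁆ ≤ X₀ := (commutator_mono le_rfl inf_le_left).trans (commutator_le_right_of_le (hXE.trans hEX₀))
    apply (le_inf h2 h1).trans
    apply le_pCoreOf inf_le_left
    · exact le_normalizer_inf le_normalizer (hX₀X.trans (le_normalizer_pCoreOf p X))
    · exact isPGroup_mono (isPGroup_pCoreOf p X) inf_le_right
  -- (b) (c)
  have hb : pRes p E ≤ X ⊔ c := by
    refine (F1 Q hQE hQ hQC).trans (sup_le_sup_right ?_ _)
    exact (commutator_mono hRE hQX).trans (commutator_le_right_of_le hEX)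
  have hcc : pRes p E ≤ X₀ ⊔ c := by
    have h1 : pRes p (X ⊔ (X₀ ⊔ c)) ≤ X₀ ⊔ c :=
      pRes_sup_le (hXE.trans (le_normalizer_sup hEX₀ hEc)) le_sup_left
    calc pRes p E = pRes p (pRes p E) := (pRes_pRes p E).symm
      _ ≤ pRes p (X ⊔ (X₀ ⊔ c)) := pRes_mono (hb.trans (sup_le_sup_left le_sup_right _))
      _ ≤ _ := h1
  have h1 : pRes p E ⊔ c = X₀ ⊔ c := le_antisymm (sup_le hcc le_sup_right) (sup_le_sup_right hX₀R _)
  -- Dedekind
  have ded : ∀ A : Subgroup G, A ≤ X₀ → X₀ ≤ A ⊔ c → X₀ ≤ A ⊔ (X₀ ⊓ C) := by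
    intro A hA hAc x hx
    have h2 := hAc hx
    rw [sup_comm] at h2
    obtain ⟨a, ha, b, hb, rfl⟩ := exists_mul_of_mem_sup_of_le' ((hA.trans hX₀E).trans hEc) h2
    refine mul_mem_sup ha ⟨?_, hb.2⟩
    have := X₀.mul_mem (X₀.inv_mem (hA ha)) hx
    simpa using this
  -- (d)
  set X₁ : Subgroup G := ⁅X₀, X₀⁆ with hX₁
  have hX₁X₀ : X₁ ≤ X₀ := commutator_le_self X₀
  have hEX₁ : E ≤ normalizer (X₁ : Set G) := le_normalizer_commutator hEX₀ hEX₀
  have hd1 : X₀ ≤ X₁ ⊔ (X₀ ⊓ C) := by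
    apply ded X₁ hX₁X₀
    refine (hX₀R.trans F2).trans (sup_le ?_ le_sup_right)
    refine (commutator_mono hcc hcc).trans ?_
    have hn : E ≤ normalizer ((X₁ ⊔ c : Subgroup G) : Set G) := le_normalizer_sup hEX₁ hEc
    have hcc' : ∀ W : Subgroup G, W ≤ E → ⁅c, W⁆ ≤ X₁ ⊔ c := fun W hW =>
      (commutator_le_left_of_le (hW.trans hEc)).trans le_sup_right
    apply comm_sup_le (hX₀E.trans hn) (hcE.trans hn)
    · rw [commutator_comm]
      apply comm_sup_le (hX₀E.trans hn) (hcE.trans hn)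
      · exact le_sup_left
      · exact hcc' _ hX₀E
    · exact hcc' _ (sup_le hX₀E hcE)
  set N : Subgroup G := X₁ ⊔ pCoreOf p X₀ with hN
  have hEN : E ≤ normalizer (N : Set G) := le_normalizer_sup hEX₁ hEO
  have hNX₀ : N ≤ X₀ := sup_le hX₁X₀ (LocBase.pCoreOf_le X₀)
  have hd2 : ⁅X, X₀⁆ ≤ N := by
    refine (commutator_mono le_rfl hd1).trans ?_
    apply comm_sup_le' ((hX₁X₀.trans hX₀E).trans hEN) ((inf_le_left.trans hX₀E).trans hEN)
    · exact (commutator_le_right_of_le (hXE.trans hEX₁)).trans le_sup_left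
    · exact hX₀c.trans le_sup_right
  have hd3 : X₀ ≤ N := by
    obtain ⟨S, hS⟩ := exists_isSyl p X
    have hSX := hS.le
    have hSN : X ≤ normalizer ((S ⊔ N : Subgroup G) : Set G) := by
      rw [← hS.sup_pRes]
      apply sup_le
      · exact le_normalizer_sup le_normalizer ((hSX.trans hXE).trans hEN)
      · apply le_normalizer_of_commutator_le
        apply comm_sup_le (le_sup_left.trans le_normalizer) (le_sup_right.trans le_normalizer)
        · exact ((commutator_mono hSX le_rfl).trans hd2).trans le_sup_right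
        · exact (commutator_le_left_of_le (hX₀E.trans hEN)).trans le_sup_right
    have hX2 : X ≤ S ⊔ N := by
      rw [hX, weakClosure_le_iff]
      intro g hg
      have hg' : Q.map (MulAut.conj g).toMonoidHom ≤ X := conj_le_weakClosure hg
      obtain ⟨x, hx, e⟩ := hS.exists_conj_le (isPGroup_map_conj hQ g) hg'
      have h3 : ((Q.map (MulAut.conj g).toMonoidHom).map (MulAut.conj x).toMonoidHom) ≤
          (S ⊔ N).map (MulAut.conj x).toMonoidHom := by
        rw [map_conj_eq_of_mem (hSN hx)]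
        exact e.trans le_sup_left
      exact (map_conj_le_map_conj x).mp h3
    have h3 : pRes p (S ⊔ N) ≤ N := by
      apply pRes_sup_le ((hSX.trans hXE).trans hEN)
      rw [isPGroup_iff_pRes_eq_bot.mp hS.pgroup]
      exact bot_le
    exact (pRes_mono hX2).trans h3
  have hperf : X₁ = X₀ := by
    apply le_antisymm hX₁X₀
    calc X₀ = pRes p X₀ := (pRes_pRes p X).symm
      _ ≤ pRes p (pCoreOf p X₀ ⊔ X₁) := pRes_mono (hd3.trans (le_of_eq (sup_comm _ _)))
      _ ≤ X₁ := by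
        apply pRes_sup_le ((LocBase.pCoreOf_le X₀).trans (hX₀E.trans hEX₁))
        rw [isPGroup_iff_pRes_eq_bot.mp (isPGroup_pCoreOf p X₀)]
        exact bot_le
  refine ⟨h1, hperf, (commutator_mono hX₀X le_rfl).trans hX₀c, ?_⟩
  intro Y hYE hY hYC
  have hle : ⁅X₀, Y⁆ ≤ X₀ := commutator_le_left_of_le (hYE.trans hEX₀)
  have hX₀n : X₀ ≤ normalizer ((⁅X₀, Y⁆ : Subgroup G) : Set G) := normalizes_commutator X₀ Y
  have hf1 : X₀ ≤ ⁅X₀, Y⁆ ⊔ (X₀ ⊓ C) := by
    apply ded _ hle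
    refine (hX₀R.trans (F1 Y hYE hY hYC)).trans (sup_le ?_ le_sup_right)
    refine (commutator_mono hcc le_rfl).trans ?_
    apply comm_sup_le
    · exact le_normalizer_sup hX₀n (hX₀E.trans hEc)
    · exact le_sup_right.trans le_normalizer
    · exact le_sup_left
    · exact (commutator_le_left_of_le (hYE.trans hEc)).trans le_sup_right
  have hX₀M : X₀ ≤ normalizer ((⁅X₀, Y⁆ ⊔ pCoreOf p X₀ : Subgroup G) : Set G) :=
    le_normalizer_sup hX₀n (le_normalizer_pCoreOf p X₀)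
  have hf2 : X₀ ≤ ⁅X₀, Y⁆ ⊔ pCoreOf p X₀ := by
    calc X₀ = ⁅X₀, X₀⁆ := hperf.symm
      _ ≤ ⁅X₀, ⁅X₀, Y⁆ ⊔ (X₀ ⊓ C)⁆ := commutator_mono le_rfl hf1
      _ ≤ _ := by
        apply comm_sup_le' (hle.trans hX₀M) (inf_le_left.trans hX₀M)
        · exact (commutator_le_right_of_le hX₀n).trans le_sup_left
        · exact ((commutator_mono hX₀X le_rfl).trans hX₀c).trans le_sup_right
  apply le_antisymm hle
  calc X₀ = pRes p X₀ := (pRes_pRes p X).symm
    _ ≤ pRes p (pCoreOf p X₀ ⊔ ⁅X₀, Y⁆) := pRes_mono (hf2.trans (le_of_eq (sup_comm _ _)))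
    _ ≤ ⁅X₀, Y⁆ := by
      apply pRes_sup_le ((LocBase.pCoreOf_le X₀).trans hX₀n)
      rw [isPGroup_iff_pRes_eq_bot.mp (isPGroup_pCoreOf p X₀)]
      exact bot_le

end A

end Cfsg.Agent.Lib.LargeQS
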