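import Cfsg.Agent.Lib.AutSyl
import Cfsg.Agent.Lib.LeechSyl5
import Cfsg.Agent.Lib.H92MathieuAutC

/-!
Generators of `M23` and its Sylow normalisers; restriction of automorphisms to `M23`.
-/

set_option autoImplicit false

namespace Cfsg.Agent.Lib.LeechSyl

open Cfsg Cfsg.Agent.Lib.Golay Cfsg.Agent.Lib.LeechMin Cfsg.Agent.Lib.GolayCoset Cfsg.Agent.Lib.LeechXi
  Cfsg.Agent.Lib.LeechTrans Cfsg.Agent.Lib.LeechCo2 Cfsg.Agent.Lib.LeechFrame Cfsg.Agent.Lib.LeechCount
  Cfsg.Agent.Lib.LeechOrder Cfsg.Agent.Lib.LeechMod Cfsg.Agent.Lib.LeechQuot Cfsg.Agent.Lib.LeechChain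
open Subgroup
open scoped Pointwise

/-- the element of order five -/
noncomputable def cu : M24 := ⟨cubeTwist, cubeTwist_mem⟩

theorem cu_apply (p : GolayPt) : (cu : Equiv.Perm GolayPt) p = cubeTwistFun p := rfl
theorem cu_none : (cu : Equiv.Perm GolayPt) none = none := rfl
theorem cu_b0 : (cu : Equiv.Perm GolayPt) (some 0) = some 0 := by
  rw [cu_apply]; decide

theorem rh_apply (p : GolayPt) : (rh : Equiv.Perm GolayPt) p = p.map (fun j => 2 * j) := by
  rcases p with _ | j
  · rfl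
  · rfl

theorem sh_apply (p : GolayPt) : (sh : Equiv.Perm GolayPt) p = p.map (fun j => j + 1) := by
  rcases p with _ | j
  · rfl
  · rfl

theorem rh_sh : rh * sh = sh ^ 2 * rh := by
  apply Subtype.ext
  ext1 p
  rw [pow_two]
  show (rh : Equiv.Perm GolayPt) ((sh : Equiv.Perm GolayPt) p) =
    (sh : Equiv.Perm GolayPt) ((sh : Equiv.Perm GolayPt) ((rh : Equiv.Perm GolayPt) p))
  rw [rh_apply, rh_apply, sh_apply, sh_apply, sh_apply]
  revert p
  decide

theorem cu_rh : cu * rh = rh ^ 3 * cu := by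
  apply Subtype.ext
  ext1 p
  rw [pow_succ, pow_two]
  show (cu : Equiv.Perm GolayPt) ((rh : Equiv.Perm GolayPt) p) =
    (rh : Equiv.Perm GolayPt) ((rh : Equiv.Perm GolayPt) ((rh : Equiv.Perm GolayPt) ((cu : Equiv.Perm GolayPt) p)))
  rw [rh_apply, rh_apply, rh_apply, rh_apply, cu_apply, cu_apply]
  revert p
  decide

theorem cu_pow : cu ^ 5 = 1 := by
  apply Subtype.ext
  ext1 p
  show (cu : Equiv.Perm GolayPt) ((cu : Equiv.Perm GolayPt) ((cu : Equiv.Perm GolayPt) ((cu : Equiv.Perm GolayPt)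
    ((cu : Equiv.Perm GolayPt) p)))) = p
  rw [cu_apply, cu_apply, cu_apply, cu_apply, cu_apply]
  revert p
  decide

theorem cu_ne : cu ≠ 1 := by
  intro h
  have h1 := congrArg (fun σ : M24 => (σ : Equiv.Perm GolayPt) (some 1)) h
  have h2 : cubeTwistFun (some 1) = some 1 := h1
  revert h2
  decide

/-- `M23` as a type -/
abbrev T23 : Type := ↥(St none)

noncomputable def sx : T23 := ⟨sh, sh_none⟩
noncomputable def sq : T23 := ⟨rh, rh_none⟩
noncomputable def sr : T23 := ⟨cu, cu_none⟩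

theorem orderOf_sx : orderOf sx = 23 := by
  rw [← Subgroup.orderOf_coe]; exact orderOf_sh
theorem orderOf_sq : orderOf sq = 11 := by
  rw [← Subgroup.orderOf_coe]; exact orderOf_rh
theorem orderOf_sr : orderOf sr = 5 := by
  haveI : Fact (Nat.Prime 5) := ⟨by norm_num⟩
  apply orderOf_eq_prime
  · exact Subtype.ext cu_pow
  · intro h; exact cu_ne (congrArg Subtype.val h)

theorem sr_pow : sr ^ 5 = 1 := Subtype.ext cu_pow

theorem sq_sx : sq * sx * sq⁻¹ = sx ^ 2 := by
  rw [mul_inv_eq_iff_eq_mul]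
  exact Subtype.ext rh_sh

theorem sr_sq : sr * sq * sr⁻¹ = sq ^ 3 := by
  rw [mul_inv_eq_iff_eq_mul]
  exact Subtype.ext cu_rh

theorem card_T23 : Nat.card T23 = 10200960 := card_stab_one none

/-- a cyclic group generated by `x` is normalised by `g` if `g` maps `x` into it -/
theorem mem_normalizer_of {G : Type*} [Group G] [Finite G] {x g : G} (h : g * x * g⁻¹ ∈ zpowers x) :
    g ∈ normalizer (zpowers x : Set G) := by
  have h2 : (zpowers x).map (MulAut.conj g).toMonoidHom = zpowers x := by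
    rw [MonoidHom.map_zpowers]
    have h3 : (MulAut.conj g).toMonoidHom x = g * x * g⁻¹ := rfl
    rw [h3]
    apply Subgroup.eq_of_le_of_card_ge (by rwa [Subgroup.zpowers_le])
    rw [Nat.card_zpowers, Nat.card_zpowers]
    have : orderOf (g * x * g⁻¹) = orderOf x := by
      show orderOf (MulAut.conj g x) = orderOf x
      rw [MulEquiv.orderOf_eq]
    rw [this]
  rw [Subgroup.mem_normalizer_iff]
  intro y
  rw [← h2]
  constructor
  · intro hy
    rw [h2] at hy
    exact ⟨y, hy, rfl⟩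
  · rintro ⟨z, hz, h3⟩
    have h4 : g * z * g⁻¹ = g * y * g⁻¹ := h3
    have h5 : z = y := by simpa using h4
    rw [h2, ← h5]; exact hz

theorem sq_norm : sq ∈ normalizer (zpowers sx : Set T23) := by
  apply mem_normalizer_of
  rw [sq_sx]; exact Subgroup.npow_mem_zpowers _ _

theorem sr_norm : sr ∈ normalizer (zpowers sq : Set T23) := by
  apply mem_normalizer_of
  rw [sr_sq]; exact Subgroup.npow_mem_zpowers _ _

/-- fixed points of the element of order 11 -/
theorem rh_fixed {p : GolayPt} (h : (rh : Equiv.Perm GolayPt) p = p) : p = none ∨ p = some 0 := by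
  rw [rh_apply] at h
  revert p
  decide

theorem norm_sq_b0 {σ : T23} (h : σ ∈ normalizer (zpowers sq : Set T23)) : (σ : M24) ∈ St none ⊓ St b0 := by
  refine ⟨σ.2, ?_⟩
  have h1 : σ⁻¹ * sq * σ ∈ zpowers sq := by
    have := (Subgroup.mem_normalizer_iff.1 (Subgroup.inv_mem _ h) sq).1 (mem_zpowers _)
    rwa [inv_inv] at this
  obtain ⟨n, hn⟩ := Subgroup.mem_zpowers_iff.1 h1
  have h2 : sq * σ = σ * sq ^ n := by rw [hn]; group
  have h3 : (rh : Equiv.Perm GolayPt) (((σ : M24) : Equiv.Perm GolayPt) (some 0)) = ((σ : M24) : Equiv.Perm GolayPt) (some 0) := by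
    have h4 := congrArg (fun τ : T23 => ((τ : M24) : Equiv.Perm GolayPt) (some 0)) h2
    have h5 : ((sq ^ n : T23) : M24) ∈ MulAction.stabilizer M24 (some 0 : GolayPt) := by
      rw [Subgroup.coe_zpow]
      apply Subgroup.zpow_mem
      show (rh : Equiv.Perm GolayPt) (some 0) = some 0
      rw [rh_some, mul_zero]
    have h6 : (((sq ^ n : T23) : M24) : Equiv.Perm GolayPt) (some 0) = some 0 := h5
    have h7 : (rh : Equiv.Perm GolayPt) (((σ : M24) : Equiv.Perm GolayPt) (some 0)) =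
        ((σ : M24) : Equiv.Perm GolayPt) ((((sq ^ n : T23) : M24) : Equiv.Perm GolayPt) (some 0)) := h4
    rw [h7, h6]
  rcases rh_fixed h3 with h4 | h4
  · exfalso
    have h5 : ((σ : M24) : Equiv.Perm GolayPt) none = none := σ.2
    have h6 := ((σ : M24) : Equiv.Perm GolayPt).injective (h4.trans h5.symm)
    exact Option.some_ne_none _ h6
  · exact h4

theorem comm_sq {σ : T23} (h : σ * sq = sq * σ) : σ ∈ zpowers sq := by
  haveI : Fact (Nat.Prime 11) := ⟨by norm_num⟩
  have h1 : ∀ y ∈ zpowers sq, σ * y = y * σ := by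
    intro y hy
    obtain ⟨n, rfl⟩ := Subgroup.mem_zpowers_iff.1 hy
    exact Commute.zpow_right h n
  apply AutSyl.mem_of_commute (P := zpowers sq) (p := 11) (by rw [Nat.card_zpowers, orderOf_sq]) (by rw [card_T23]; norm_num) _ h1
  have h2 := norm_sq_b0 (mem_normalizer_of (x := sq) (g := σ) (by rw [h, mul_inv_cancel_right]; exact mem_zpowers _))
  exact Subtype.ext (comm_rh h2 (congrArg Subtype.val h))

theorem comm_sx {σ : T23} (h : σ * sx = sx * σ) : σ ∈ zpowers sx := by
  haveI : Fact (Nat.Prime 23) := ⟨by norm_num⟩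
  have h1 : ∀ y ∈ zpowers sx, σ * y = y * σ := by
    intro y hy
    obtain ⟨n, rfl⟩ := Subgroup.mem_zpowers_iff.1 hy
    exact Commute.zpow_right h n
  apply AutSyl.mem_of_commute (P := zpowers sx) (p := 23) (by rw [Nat.card_zpowers, orderOf_sx]) (by rw [card_T23]; norm_num) _ h1
  exact Subtype.ext (comm_sh σ.2 (congrArg Subtype.val h))

theorem arith23 {m i : ℕ} (h : m ≤ 22) (h1 : m * i = 443520) (h2 : i % 23 = 1) : m = 11 := by
  interval_cases m <;> omega

theorem arith11 {m i : ℕ} (h : m ≤ 10) (h1 : m * i = 927360) (h2 : i % 11 = 1) : m = 5 := by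
  interval_cases m <;> omega

theorem card_zx : Nat.card (zpowers sx) = 23 := by rw [Nat.card_zpowers, orderOf_sx]
theorem card_zq : Nat.card (zpowers sq) = 11 := by rw [Nat.card_zpowers, orderOf_sq]
theorem card_zr : Nat.card (zpowers sr) = 5 := by rw [Nat.card_zpowers, orderOf_sr]

theorem dvd_of_mem {G : Type*} [Group G] [Finite G] {x : G} {n : ℕ} (hx : Nat.card (zpowers x) = n) {K : Subgroup G}
    (h : x ∈ K) : n ∣ Nat.card K := by
  rw [← hx]
  exact Subgroup.card_dvd_of_le (by rwa [Subgroup.zpowers_le])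

theorem card_norm_sx : Nat.card (normalizer (zpowers sx : Set T23)) = 253 := by
  haveI : Fact (Nat.Prime 23) := ⟨by norm_num⟩
  have hP : Nat.card (zpowers sx) = 23 := by rw [Nat.card_zpowers, orderOf_sx]
  obtain ⟨m, h1, h2⟩ := AutSyl.card_normalizer hP (fun g hg => comm_sx (hg sx (mem_zpowers _)))
  have h3 := AutSyl.index_modEq hP (by rw [card_T23]; norm_num) (le_refl (normalizer (zpowers sx : Set T23)))
  have h4 := Subgroup.card_mul_index (normalizer (zpowers sx : Set T23))
  rw [h1, card_T23] at h4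
  have h5 : m ≤ 22 := Nat.le_of_dvd (by norm_num) h2
  have h6 : m * (normalizer (zpowers sx : Set T23)).index = 443520 := by
    have : 23 * (m * (normalizer (zpowers sx : Set T23)).index) = 23 * 443520 := by rw [← mul_assoc, h4]
    exact Nat.eq_of_mul_eq_mul_left (by norm_num) this
  rw [h1, arith23 h5 h6 h3]

theorem card_norm_sq : Nat.card (normalizer (zpowers sq : Set T23)) = 55 := by
  haveI : Fact (Nat.Prime 11) := ⟨by norm_num⟩
  have hP : Nat.card (zpowers sq) = 11 := by rw [Nat.card_zpowers, orderOf_sq]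
  obtain ⟨m, h1, h2⟩ := AutSyl.card_normalizer hP (fun g hg => comm_sq (hg sq (mem_zpowers _)))
  have h3 := AutSyl.index_modEq hP (by rw [card_T23]; norm_num) (le_refl (normalizer (zpowers sq : Set T23)))
  have h4 := Subgroup.card_mul_index (normalizer (zpowers sq : Set T23))
  rw [h1, card_T23] at h4
  have h5 : m ≤ 10 := Nat.le_of_dvd (by norm_num) h2
  have h6 : m * (normalizer (zpowers sq : Set T23)).index = 927360 := by
    have : 11 * (m * (normalizer (zpowers sq : Set T23)).index) = 11 * 927360 := by rw [← mul_assoc, h4]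
    exact Nat.eq_of_mul_eq_mul_left (by norm_num) this
  rw [h1, arith11 h5 h6 h3]

theorem norm_sq_le : normalizer (zpowers sq : Set T23) ≤ closure {sq, sr} := by
  have h1 : closure {sq, sr} ≤ normalizer (zpowers sq : Set T23) := by
    rw [Subgroup.closure_le]
    rintro y (rfl | rfl)
    · exact Subgroup.le_normalizer (mem_zpowers _)
    · exact sr_norm
  have h2 : 11 ∣ Nat.card (closure {sq, sr}) := dvd_of_mem card_zq (Subgroup.subset_closure (by simp))
  have h3 : 5 ∣ Nat.card (closure {sq, sr}) := dvd_of_mem card_zr (Subgroup.subset_closure (by simp))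
  have h4 : 11 * 5 ∣ Nat.card (closure {sq, sr}) := Nat.Coprime.mul_dvd_of_dvd_of_dvd (by norm_num) h2 h3
  exact (Subgroup.eq_of_le_of_card_ge h1 (by
    rw [card_norm_sq]; exact Nat.le_of_dvd Nat.card_pos h4)).ge

theorem norm_sx_le : normalizer (zpowers sx : Set T23) ≤ closure {sx, sq} := by
  have h1 : closure {sx, sq} ≤ normalizer (zpowers sx : Set T23) := by
    rw [Subgroup.closure_le]
    rintro y (rfl | rfl)
    · exact Subgroup.le_normalizer (mem_zpowers _)
    · exact sq_norm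
  have h2 : 11 ∣ Nat.card (closure {sx, sq}) := dvd_of_mem card_zq (Subgroup.subset_closure (by simp))
  have h3 : 23 ∣ Nat.card (closure {sx, sq}) := dvd_of_mem card_zx (Subgroup.subset_closure (by simp))
  have h4 : 11 * 23 ∣ Nat.card (closure {sx, sq}) := Nat.Coprime.mul_dvd_of_dvd_of_dvd (by norm_num) h2 h3
  exact (Subgroup.eq_of_le_of_card_ge h1 (by
    rw [card_norm_sx]; exact Nat.le_of_dvd Nat.card_pos h4)).ge

theorem dvd_mod_one {d : ℕ} (h1 : d % 23 = 1) (h2 : d % 11 = 1) (h3 : d ∣ 40320) : d = 1 := by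
  obtain ⟨k, hk⟩ : ∃ k, d = 253 * k + 1 := ⟨d / 253, by omega⟩
  have h4 : d ≤ 40320 := Nat.le_of_dvd (by norm_num) h3
  have h5 : k ≤ 159 := by omega
  subst hk
  by_contra hne
  have hk0 : k ≠ 0 := by
    rintro rfl; exact hne rfl
  revert h3
  have : ∀ k : Fin 160, (k : ℕ) ≠ 0 → ¬ (253 * (k : ℕ) + 1 ∣ 40320) := by decide +kernel
  exact this ⟨k, by omega⟩ hk0

theorem gen_T23 : closure {sx, sq, sr} = (⊤ : Subgroup T23) := by
  haveI : Fact (Nat.Prime 23) := ⟨by norm_num⟩
  haveI : Fact (Nat.Prime 11) := ⟨by norm_num⟩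
  have h1 := AutSyl.index_modEq (P := zpowers sx) (K := closure {sx, sq, sr}) (p := 23)
    (by rw [Nat.card_zpowers, orderOf_sx]) (by rw [card_T23]; norm_num)
    (norm_sx_le.trans (Subgroup.closure_mono (by
      intro y hy; rcases hy with rfl | rfl <;> simp)))
  have h2 := AutSyl.index_modEq (P := zpowers sq) (K := closure {sx, sq, sr}) (p := 11)
    (by rw [Nat.card_zpowers, orderOf_sq]) (by rw [card_T23]; norm_num)
    (norm_sq_le.trans (Subgroup.closure_mono (by
      intro y hy; rcases hy with rfl | rfl <;> simp)))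
  have h3 : 11 ∣ Nat.card (closure {sx, sq, sr}) := dvd_of_mem card_zq (Subgroup.subset_closure (by simp))
  have h4 : 23 ∣ Nat.card (closure {sx, sq, sr}) := dvd_of_mem card_zx (Subgroup.subset_closure (by simp))
  have h5 : 11 * 23 ∣ Nat.card (closure {sx, sq, sr}) := Nat.Coprime.mul_dvd_of_dvd_of_dvd (by norm_num) h3 h4
  have h6 := Subgroup.card_mul_index (closure {sx, sq, sr})
  rw [card_T23] at h6
  obtain ⟨c, hc⟩ := h5
  rw [hc] at h6
  have h7 : (closure {sx, sq, sr}).index ∣ 40320 := by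
    refine ⟨c, ?_⟩
    have : 253 * (c * (closure {sx, sq, sr}).index) = 253 * 40320 := by
      rw [← mul_assoc]; exact h6
    rw [mul_comm]
    exact (Nat.eq_of_mul_eq_mul_left (by norm_num) this).symm
  exact Subgroup.index_eq_one.1 (dvd_mod_one h1 h2 h7)

/-- automorphisms of `M23` are inner -/
theorem inner_T23 (φ : T23 ≃* T23) : ∃ m : T23, ∀ y : T23, φ y = m * y * m⁻¹ := by
  -- transport
  let e : T23 ≃* Spor.M23 :=
    { toFun := fun σ => ⟨((σ : M24) : Equiv.Perm GolayPt), H92MathieuAut.mem_M23.2 ⟨(σ : M24).2, σ.2⟩⟩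
      invFun := fun g => ⟨⟨(g : Equiv.Perm GolayPt), (H92MathieuAut.mem_M23.1 g.2).1⟩, (H92MathieuAut.mem_M23.1 g.2).2⟩
      left_inv := fun σ => rfl
      right_inv := fun g => rfl
      map_mul' := fun a b => rfl }
  let ψ : MulAut Spor.M23 := (e.symm.trans φ).trans e
  have h1 : ψ ∈ Inn Spor.M23 := by
    have h2 := H92MathieuAut.m23_out
    have h3 : Subsingleton (Out Spor.M23) := (Nat.card_eq_one_iff_unique.1 h2).1
    rw [← QuotientGroup.eq_one_iff]
    exact Subsingleton.elim _ _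
  obtain ⟨m, hm⟩ := h1
  refine ⟨e.symm m, fun y => ?_⟩
  have h2 := congrArg (fun χ : MulAut Spor.M23 => χ (e y)) hm
  have h3 : m * e y * m⁻¹ = e (φ (e.symm (e y))) := h2
  rw [MulEquiv.symm_apply_apply] at h3
  apply e.injective
  rw [← h3, map_mul, map_mul, map_inv, MulEquiv.apply_symm_apply]

theorem step_A {G : Type*} [Group G] [Finite G] (f : T23 →* G) (hf : Function.Injective f)
    (hv : ¬ 23 ^ 2 ∣ Nat.card G) (hv' : ¬ 11 ^ 2 ∣ Nat.card G)
    (hC : ∀ g : G, g * f sq = f sq * g → (f sr * g) ^ 5 = 1 → g ∈ zpowers (f sq)) (α : G ≃* G) :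
    ∃ g : G, ∀ y : T23, g * α (f y) * g⁻¹ = f y := by
  have e : T23 ≃* f.range := MonoidHom.ofInjective hf
  obtain ⟨g, hg⟩ := AutSyl.step_A (x := f sx) (q := f sq) (r := f sr) (M := f.range)
    (by rw [orderOf_injective f hf, orderOf_sx]) (by rw [orderOf_injective f hf, orderOf_sq])
    (by rw [← map_pow, sr_pow, map_one]) (by rw [← map_inv, ← map_mul, ← map_mul, sq_sx, map_pow])
    (by rw [← map_inv, ← map_mul, ← map_mul, sr_sq, map_pow])
    (by
      rw [MonoidHom.range_eq_map, ← gen_T23, MonoidHom.map_closure]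
      congr 1
      ext y
      simp [Set.image_insert_eq])
    hv hv' hC
    (by
      intro φ
      obtain ⟨m, hm⟩ := inner_T23 ((e.trans φ).trans e.symm)
      refine ⟨e m, fun y => ?_⟩
      have h := hm (e.symm y)
      have h2 : e.symm (φ (e (e.symm y))) = m * e.symm y * m⁻¹ := h
      rw [MulEquiv.apply_symm_apply] at h2
      have h3 := congrArg e h2
      rw [MulEquiv.apply_symm_apply, map_mul, map_mul, map_inv, MulEquiv.apply_symm_apply] at h3
      exact h3)
    (by
      rintro _ ⟨m, rfl⟩ h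
      have h1 : m * sq = sq * m := by
        apply hf
        rw [map_mul, map_mul, h]
      obtain ⟨n, hn⟩ := Subgroup.mem_zpowers_iff.1 (comm_sq h1)
      rw [← hn, map_zpow]
      exact ⟨n, rfl⟩) α
  exact ⟨g, fun y => hg _ ⟨y, rfl⟩⟩

/-- the normaliser of the Sylow 11-subgroup of `M23`, in `G` -/
noncomputable def BB {G : Type*} [Group G] (f : T23 →* G) : Subgroup G := (normalizer (zpowers sq : Set T23)).map f

theorem mem_BB {G : Type*} [Group G] {f : T23 →* G} {g : G} :
    g ∈ BB f ↔ ∃ y ∈ normalizer (zpowers sq : Set T23), f y = g := Iff.rfl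

theorem BB_le {G : Type*} [Group G] [Finite G] (f : T23 →* G) : BB f ≤ normalizer (zpowers (f sq) : Set G) := by
  rintro _ ⟨y, hy, rfl⟩
  apply mem_normalizer_of
  have h1 := (Subgroup.mem_normalizer_iff.1 hy sq).1 (mem_zpowers _)
  obtain ⟨n, hn⟩ := Subgroup.mem_zpowers_iff.1 h1
  rw [← map_inv, ← map_mul, ← map_mul, ← hn, map_zpow]
  exact Subgroup.zpow_mem_zpowers _ _

theorem center_T23 {y : T23} (h1 : y * sq = sq * y) (h2 : y * sr = sr * y) : y = 1 := by
  have h3 := comm_sq h1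
  have h0 : IsOfFinOrder sq := isOfFinOrder_of_finite sq
  rw [← h0.mem_powers_iff_mem_zpowers] at h3
  obtain ⟨i, hi⟩ := h3
  have hi' : sq ^ i = y := hi
  have h4 : sr * sq ^ i * sr⁻¹ = sq ^ (3 * i) := by
    rw [pow_mul, ← sr_sq, conj_pow]
  rw [hi', ← h2, mul_inv_cancel_right, ← hi', pow_eq_pow_iff_modEq, orderOf_sq] at h4
  have h5 : i % 11 = (3 * i) % 11 := h4
  have h6 : i % 11 = 0 := by omega
  rw [← hi', ← pow_mod_orderOf, orderOf_sq, h6, pow_zero]

section stepB

variable {G : Type*} [Group G] [Finite G] {f : T23 →* G} (hf : Function.Injective f)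
  (hN2 : ∀ n ∈ normalizer (zpowers (f sq) : Set G), ∀ n' ∈ normalizer (zpowers (f sq) : Set G),
    n ∉ BB f → n' ∉ BB f → n⁻¹ * n' ∈ BB f)

include hN2 in
theorem BB_normal {c y : G} (hc : c ∈ normalizer (zpowers (f sq) : Set G)) (hy : y ∈ BB f) : c * y * c⁻¹ ∈ BB f := by
  by_cases hcB : c ∈ BB f
  · exact Subgroup.mul_mem _ (Subgroup.mul_mem _ hcB hy) (Subgroup.inv_mem _ hcB)
  · have h1 : (c * y)⁻¹ ∉ BB f := by
      intro h
      rw [Subgroup.inv_mem_iff] at h
      apply hcB
      have := Subgroup.mul_mem _ h (Subgroup.inv_mem _ hy)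
      rwa [mul_inv_cancel_right] at this
    have h2 := hN2 (c * y)⁻¹ (Subgroup.inv_mem _ (Subgroup.mul_mem _ hc (BB_le f hy))) c⁻¹ (Subgroup.inv_mem _ hc) h1
      (by rwa [Subgroup.inv_mem_iff])
    rwa [inv_inv] at h2

include hf hN2 in
theorem hC_of {g : G} (h1 : g * f sq = f sq * g) (h2 : (f sr * g) ^ 5 = 1) : g ∈ zpowers (f sq) := by
  have hgN : g ∈ normalizer (zpowers (f sq) : Set G) := mem_normalizer_of (by
    rw [h1, mul_inv_cancel_right]; exact mem_zpowers _)
  have hrB : f sr ∈ BB f := ⟨sr, sr_norm, rfl⟩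
  have hgB : g ∈ BB f := by
    have h3 : f sr * g ∈ BB f := by
      by_contra h3
      have h4 : f sr * g ∈ normalizer (zpowers (f sq) : Set G) := Subgroup.mul_mem _ (BB_le f hrB) hgN
      have h5 := hN2 (f sr * g)⁻¹ (Subgroup.inv_mem _ h4) _ h4 (by rwa [Subgroup.inv_mem_iff]) h3
      rw [inv_inv] at h5
      apply h3
      have h6 : f sr * g = ((f sr * g) * (f sr * g))⁻¹ * ((f sr * g) * (f sr * g))⁻¹ := by
        have h7 : f sr * g * ((f sr * g) * (f sr * g) * ((f sr * g) * (f sr * g))) = 1 := by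
          rw [← h2, pow_succ, pow_succ, pow_succ, pow_two]; simp only [mul_assoc]
        rw [← mul_inv_rev]
        exact eq_inv_of_mul_eq_one_left h7
      rw [h6]
      exact Subgroup.mul_mem _ (Subgroup.inv_mem _ h5) (Subgroup.inv_mem _ h5)
    have h4 := Subgroup.mul_mem _ (Subgroup.inv_mem _ hrB) h3
    rwa [inv_mul_cancel_left] at h4
  obtain ⟨y, -, rfl⟩ := hgB
  have h3 : y * sq = sq * y := by
    apply hf
    rw [map_mul, map_mul, h1]
  obtain ⟨n, hn⟩ := Subgroup.mem_zpowers_iff.1 (comm_sq h3)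
  rw [← hn, map_zpow]
  exact Subgroup.zpow_mem_zpowers _ _

include hf in
theorem eq_one_of_comm {z : G} (hz : z ∈ BB f) (h1 : z * f sq = f sq * z) (h2 : z * f sr = f sr * z) : z = 1 := by
  obtain ⟨y, -, rfl⟩ := hz
  rw [center_T23 (y := y) (hf (by rw [map_mul, map_mul, h1])) (hf (by rw [map_mul, map_mul, h2])), map_one]

include hf hN2 in
/-- an automorphism fixing `M23` fixes the normaliser of the Sylow 11-subgroup -/
theorem step_B (β : G ≃* G) (hβ : ∀ y : T23, β (f y) = f y) : ∀ n ∈ normalizer (zpowers (f sq) : Set G), β n = n := by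
  have hBfix : ∀ y ∈ BB f, β y = y := by
    rintro _ ⟨y, -, rfl⟩; exact hβ y
  have hβN : ∀ n ∈ normalizer (zpowers (f sq) : Set G), β n ∈ normalizer (zpowers (f sq) : Set G) := by
    intro n hn
    apply mem_normalizer_of
    have h1 := (Subgroup.mem_normalizer_iff.1 hn (f sq)).1 (mem_zpowers _)
    obtain ⟨i, hi⟩ := Subgroup.mem_zpowers_iff.1 h1
    have h2 := congrArg β hi
    rw [map_mul, map_mul, map_inv, map_zpow, hβ] at h2
    rw [← h2]; exact Subgroup.zpow_mem_zpowers _ _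
  have hβB : ∀ n, β n ∈ BB f → n ∈ BB f := by
    intro n hn
    have h1 := hBfix _ hn
    have h2 := β.injective h1
    rwa [h2] at hn
  have hqB : f sq ∈ BB f := ⟨sq, Subgroup.le_normalizer (mem_zpowers _), rfl⟩
  have hrB : f sr ∈ BB f := ⟨sr, sr_norm, rfl⟩
  intro c hc
  by_cases hcB : c ∈ BB f
  · exact hBfix c hcB
  -- `z = c⁻¹ β c`
  have hz : ∀ y ∈ BB f, (c⁻¹ * β c) * y = y * (c⁻¹ * β c) := by
    intro y hy
    have h1 := hBfix _ (BB_normal hN2 hc hy)
    rw [map_mul, map_mul, map_inv, hBfix y hy] at h1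
    calc (c⁻¹ * β c) * y = c⁻¹ * (β c * y * (β c)⁻¹) * β c := by group
    _ = y * (c⁻¹ * β c) := by rw [h1]; group
  have hzN : c⁻¹ * β c ∈ normalizer (zpowers (f sq) : Set G) := Subgroup.mul_mem _ (Subgroup.inv_mem _ hc) (hβN c hc)
  by_cases hzB : c⁻¹ * β c ∈ BB f
  · have h1 := eq_one_of_comm hf hzB (hz _ hqB) (hz _ hrB)
    rw [inv_mul_eq_one] at h1
    exact h1.symm
  · obtain ⟨z, hz'⟩ : ∃ z, z = c⁻¹ * β c := ⟨_, rfl⟩
    rw [← hz'] at hz hzN hzB
    have h1 : β z = z := by
      have h2 : β z ∉ BB f := fun h => hzB (hβB z h)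
      have h3 := hN2 z hzN (β z) (hβN z hzN) hzB h2
      have h4 : ∀ y ∈ BB f, β z * y = y * β z := by
        intro y hy
        have h5 := congrArg β (hz y hy)
        rwa [map_mul, map_mul, hBfix y hy] at h5
      have h5 : ∀ y ∈ BB f, z⁻¹ * β z * y = y * (z⁻¹ * β z) := by
        intro y hy
        have h6 : z⁻¹ * y = y * z⁻¹ := by
          rw [inv_mul_eq_iff_eq_mul, ← mul_assoc, hz y hy, mul_inv_cancel_right]
        rw [mul_assoc, h4 y hy, ← mul_assoc, h6, mul_assoc]
      have h6 := eq_one_of_comm hf h3 (h5 _ hqB) (h5 _ hrB)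
      rw [inv_mul_eq_one] at h6
      exact h6.symm
    -- `c ∈ z * BB`
    have h2 := hN2 z hzN c hc hzB hcB
    have h3 := hBfix _ h2
    rw [map_mul, map_inv, h1] at h3
    exact mul_left_cancel h3

include hf hN2 in
/-- triviality of the outer automorphism group -/
theorem out_of (hv : ¬ 23 ^ 2 ∣ Nat.card G) (hv' : ¬ 11 ^ 2 ∣ Nat.card G)
    (hgen : ∀ K : Subgroup G, f.range ≤ K → normalizer (zpowers (f sq) : Set G) ≤ K → K = ⊤) :
    Nat.card (Out G) = 1 := by
  apply H92MathieuAut.card_out_eq_one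
  intro α
  obtain ⟨g, hg⟩ := step_A f hf hv hv' (fun g h1 h2 => hC_of hf hN2 h1 h2) α
  let β : G ≃* G := MulEquiv.trans (α : G ≃* G) (MulAut.conj g)
  have hβ : ∀ y, β y = g * α y * g⁻¹ := fun y => rfl
  have hβ' : ∀ y : T23, β (f y) = f y := hg
  let K : Subgroup G :=
    { carrier := {y | β y = y}
      one_mem' := map_one β
      mul_mem' := fun {a b} ha hb => by
        show β (a * b) = a * b
        rw [map_mul]
        exact congrArg₂ _ ha hb
      inv_mem' := fun {a} ha => by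
        show β a⁻¹ = a⁻¹
        rw [map_inv]
        exact congrArg _ ha }
  have hK : K = ⊤ := by
    apply hgen
    · rintro _ ⟨y, rfl⟩; exact hβ' y
    · intro n hn
      exact step_B hf hN2 β hβ' n hn
  refine ⟨g⁻¹, ?_⟩
  ext y
  rw [MulAut.conj_apply, inv_inv]
  have h1 : y ∈ K := by rw [hK]; trivial
  have h2 : g * α y * g⁻¹ = y := h1
  calc g⁻¹ * y * g = g⁻¹ * (g * α y * g⁻¹) * g := by rw [h2]
  _ = α y := by group

end stepB

end Cfsg.Agent.Lib.LeechSyl
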