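import Cfsg.Agent.Lib.LeechOutM6

/-!
The lattice vectors supported on an octad.
-/

set_option autoImplicit false

namespace Cfsg.Agent.Lib.LeechSyl

open Cfsg Cfsg.Agent.Lib.Golay Cfsg.Agent.Lib.LeechMin Cfsg.Agent.Lib.GolayCoset Cfsg.Agent.Lib.LeechXi
  Cfsg.Agent.Lib.LeechTrans Cfsg.Agent.Lib.LeechCo2 Cfsg.Agent.Lib.LeechFrame Cfsg.Agent.Lib.LeechCount
  Cfsg.Agent.Lib.LeechOrder Cfsg.Agent.Lib.LeechMod Cfsg.Agent.Lib.LeechQuot Cfsg.Agent.Lib.LeechChain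
open Subgroup
open scoped Pointwise

/-- the octad -/
def oc : Finset GolayPt := mset 8536111

theorem oc_mem : oc ∈ Sup := oct0_mem.1
theorem card_oc : oc.card = 8 := oct0_mem.2

theorem sub_oc {B : Finset GolayPt} (hB : B ∈ Sup) (h : B ⊆ oc) : B = ∅ ∨ B = oc := by
  have h1 := Finset.card_le_card h
  rw [card_oc] at h1
  rcases card_cases hB with h2 | h2 | h2 | h2 | h2
  · left; exact Finset.card_eq_zero.1 h2
  · right; exact Finset.eq_of_subset_of_card_le h (by rw [card_oc, h2])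
  · omega
  · omega
  · omega

/-- lattice vectors supported on the octad -/
def LO : AddSubgroup leechLattice where
  carrier := {x | ∀ i, i ∉ oc → (x : GolayPt → ℤ) i = 0}
  add_mem' := fun {a b} ha hb i hi => by
    show (a : GolayPt → ℤ) i + (b : GolayPt → ℤ) i = 0
    rw [ha i hi, hb i hi, add_zero]
  zero_mem' := fun i _ => rfl
  neg_mem' := fun {a} ha i hi => by
    show -(a : GolayPt → ℤ) i = 0
    rw [ha i hi, neg_zero]

theorem mem_LO {x : leechLattice} : x ∈ LO ↔ ∀ i, i ∉ oc → (x : GolayPt → ℤ) i = 0 := Iff.rfl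

theorem four_notin : (some 4 : GolayPt) ∉ oc := by decide +kernel

theorem LO_form {x : leechLattice} (hx : x ∈ LO) : ∃ (c : ℤ) (t : GolayPt → ℤ), (c = 0 ∨ c = 2) ∧
    (∀ i ∈ oc, (x : GolayPt → ℤ) i = c + 4 * t i) ∧ (2 : ℤ) ∣ ∑ i ∈ oc, t i := by
  obtain ⟨m, A, hA, h1, h2⟩ := (mem_lattice_iff' _).1 x.2
  have hev : ∀ i, (2 : ℤ) ∣ (x : GolayPt → ℤ) i := by
    intro i
    have e1 := h1 (some 4)
    rw [hx _ four_notin] at e1
    have e2 := h1 i
    omega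
  have hm : (2 : ℤ) ∣ m := by
    have e1 := h1 (some 4)
    rw [hx _ four_notin] at e1
    omega
  set B : Finset GolayPt := Finset.univ.filter fun i => (x : GolayPt → ℤ) i % 4 = 2 with hB
  have hBc : ∀ i, chi B i = if (x : GolayPt → ℤ) i % 4 = 2 then 1 else 0 := by
    intro i
    unfold chi
    simp only [hB, Finset.mem_filter, Finset.mem_univ, true_and]
  have hBS : B ∈ Sup := by
    refine mem_Sup_of x.2 (e := 0) fun i => ?_
    rw [hBc]
    have := hev i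
    split_ifs with h <;> omega
  have hBo : B ⊆ oc := by
    intro i hi
    by_contra hno
    rw [hB, Finset.mem_filter, hx i hno] at hi
    norm_num at hi
  have hsum : ∑ i, (x : GolayPt → ℤ) i = ∑ i ∈ oc, (x : GolayPt → ℤ) i := by
    symm
    apply Finset.sum_subset (Finset.subset_univ _)
    intro i _ hi
    exact hx i hi
  rw [hsum] at h2
  have key : ∀ c : ℤ, (c = 0 ∨ c = 2) → (∀ i ∈ oc, (4 : ℤ) ∣ (x : GolayPt → ℤ) i - c) → ∃ (c : ℤ) (t : GolayPt → ℤ),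
      (c = 0 ∨ c = 2) ∧ (∀ i ∈ oc, (x : GolayPt → ℤ) i = c + 4 * t i) ∧ (2 : ℤ) ∣ ∑ i ∈ oc, t i := by
    intro c hc h
    have h3 : ∀ i ∈ oc, (x : GolayPt → ℤ) i = c + 4 * (((x : GolayPt → ℤ) i - c) / 4) := by
      intro i hi
      have := h i hi
      omega
    refine ⟨c, fun i => ((x : GolayPt → ℤ) i - c) / 4, hc, h3, ?_⟩
    rw [Finset.sum_congr rfl h3, Finset.sum_add_distrib, ← Finset.mul_sum, Finset.sum_const, card_oc] at h2
    simp only [nsmul_eq_mul, Nat.cast_ofNat] at h2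
    show (2 : ℤ) ∣ ∑ i ∈ oc, ((x : GolayPt → ℤ) i - c) / 4
    omega
  rcases sub_oc hBS hBo with h | h
  · apply key 0 (Or.inl rfl)
    intro i _
    have e1 := hBc i
    rw [h] at e1
    have e2 := hev i
    by_cases h3 : (x : GolayPt → ℤ) i % 4 = 2
    · rw [if_pos h3] at e1
      simp [chi] at e1
    · omega
  · apply key 2 (Or.inr rfl)
    intro i hi
    rw [← h, hB, Finset.mem_filter] at hi
    omega

theorem dot_oc {x : leechLattice} (hx : x ∈ LO) (b : GolayPt → ℤ) :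
    dotInt b (x : GolayPt → ℤ) = ∑ i ∈ oc, b i * (x : GolayPt → ℤ) i := by
  unfold dotInt
  symm
  apply Finset.sum_subset (Finset.subset_univ _)
  intro i _ hi
  rw [hx i hi, mul_zero]

theorem dot16 {x y : leechLattice} (hx : x ∈ LO) (hy : y ∈ LO) : (16 : ℤ) ∣ dotInt (x : GolayPt → ℤ) (y : GolayPt → ℤ) := by
  obtain ⟨c, t, hc, h1, h2⟩ := LO_form hx
  obtain ⟨d, s, hd, h3, h4⟩ := LO_form hy
  rw [dot_oc hy]
  have h5 : ∑ i ∈ oc, (x : GolayPt → ℤ) i * (y : GolayPt → ℤ) i =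
      8 * (c * d) + 4 * c * (∑ i ∈ oc, s i) + 4 * d * (∑ i ∈ oc, t i) + 16 * ∑ i ∈ oc, t i * s i := by
    rw [Finset.mul_sum, Finset.mul_sum, Finset.mul_sum]
    have : (8 : ℤ) * (c * d) = ∑ i ∈ oc, c * d := by rw [Finset.sum_const, card_oc]; simp
    rw [this, ← Finset.sum_add_distrib, ← Finset.sum_add_distrib, ← Finset.sum_add_distrib]
    apply Finset.sum_congr rfl
    intro i hi
    rw [h1 i hi, h3 i hi]; ring
  rw [h5]
  rcases hc with rfl | rfl <;> rcases hd with rfl | rfl <;> omega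

theorem norm32 {x : leechLattice} (hx : x ∈ LO) : (32 : ℤ) ∣ sqNorm (x : GolayPt → ℤ) := by
  obtain ⟨c, t, hc, h1, h2⟩ := LO_form hx
  rw [sqNorm_eq_dot, dot_oc hx]
  have h5 : ∑ i ∈ oc, (x : GolayPt → ℤ) i * (x : GolayPt → ℤ) i =
      8 * (c * c) + 8 * c * (∑ i ∈ oc, t i) + 16 * (∑ i ∈ oc, t i) + 16 * ∑ i ∈ oc, t i * (t i - 1) := by
    rw [Finset.mul_sum, Finset.mul_sum, Finset.mul_sum]
    have : (8 : ℤ) * (c * c) = ∑ i ∈ oc, c * c := by rw [Finset.sum_const, card_oc]; simp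
    rw [this, ← Finset.sum_add_distrib, ← Finset.sum_add_distrib, ← Finset.sum_add_distrib]
    apply Finset.sum_congr rfl
    intro i hi
    rw [h1 i hi]; ring
  have h6 : (2 : ℤ) ∣ ∑ i ∈ oc, t i * (t i - 1) := by
    apply Finset.dvd_sum
    intro i _
    rcases Int.even_or_odd (t i) with ⟨k, hk⟩ | ⟨k, hk⟩
    · exact ⟨k * (t i - 1), by rw [hk]; ring⟩
    · exact ⟨t i * k, by rw [hk]; ring⟩
  rw [h5]
  rcases hc with rfl | rfl <;> omega

/-! ### an explicit basis -/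

theorem vl_mem {l : List ℤ} {a : ℕ} (ha : isCode a = true) (ha' : a < 2 ^ 24) (h1 : ∀ i, (4 : ℤ) ∣ vl l i - 2 * chi (mset a) i)
    (h2 : (8 : ℤ) ∣ ∑ i, vl l i) : vl l ∈ leechLattice := by
  rw [mem_lattice_iff']
  refine ⟨0, mset a, (mset_mem_supports_iff ha').mpr ha, fun i => ?_, ?_⟩
  · have := h1 i
    simpa using this
  · simpa using h2

def bL : List (List ℤ) :=
  [[4, 4, 0, 0, 0, 0, 0, 0, 0, 0, 0, 0, 0, 0, 4, 0, 0, 0, 0, 0, 0, 0, 0, 4],
    [0, 0, 0, 0, 0, 0, 0, 0, 0, 0, 0, 0, 0, 0, 0, 0, 0, 0, 0, 0, 0, 0, 0, 8],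
    [0, 4, -4, -4, 0, 0, 0, 0, 0, 0, 0, 0, 0, 0, 4, 0, 0, 0, 0, 0, 0, 0, 0, 0],
    [4, 0, 0, -4, 0, 0, 0, 0, 0, 0, 0, 0, 0, 0, 4, 0, 0, 4, 0, 0, 0, 0, 0, 0],
    [-4, -4, 0, -4, 0, 0, 0, 0, 0, 0, 0, 0, 0, 0, 0, 0, 0, 0, 0, 0, 0, 0, 0, 4],
    [-2, -2, 2, -2, 0, 2, 0, 0, 0, 0, 0, 0, 0, 0, 2, 0, 0, 6, 0, 0, 0, 0, 0, 2],
    [0, 4, 0, -4, 0, -4, 0, 0, 0, 0, 0, 0, 0, 0, 4, 0, 0, 0, 0, 0, 0, 0, 0, 0],
    [0, 0, 0, -4, 0, 0, 0, 0, 0, 0, 0, 0, 0, 0, 4, 0, 0, -4, 0, 0, 0, 0, 0, 4]]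

def dL : List (List ℤ) :=
  [[-8, -32, -28, 40, 0, -28, 0, 0, 0, 0, 0, 0, 0, 0, 44, 0, 0, 4, 0, 0, 0, 0, 0, 0],
    [6, 22, 18, -26, 0, 18, 0, 0, 0, 0, 0, 0, 0, 0, -30, 0, 0, -2, 0, 0, 0, 0, 0, 2],
    [0, 4, 0, -4, 0, 4, 0, 0, 0, 0, 0, 0, 0, 0, -4, 0, 0, 0, 0, 0, 0, 0, 0, 0],
    [4, 4, 4, -8, 0, 4, 0, 0, 0, 0, 0, 0, 0, 0, -8, 0, 0, 0, 0, 0, 0, 0, 0, 0],
    [-8, -32, -28, 36, 0, -28, 0, 0, 0, 0, 0, 0, 0, 0, 40, 0, 0, 4, 0, 0, 0, 0, 0, 0],
    [0, 8, 8, -8, 0, 8, 0, 0, 0, 0, 0, 0, 0, 0, -8, 0, 0, 0, 0, 0, 0, 0, 0, 0],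
    [0, 4, 4, -4, 0, 0, 0, 0, 0, 0, 0, 0, 0, 0, -4, 0, 0, 0, 0, 0, 0, 0, 0, 0],
    [4, 16, 16, -20, 0, 16, 0, 0, 0, 0, 0, 0, 0, 0, -20, 0, 0, -4, 0, 0, 0, 0, 0, 0]]

def aL (l : List ℤ) : ℕ := if l.getD 3 0 % 4 = 0 then 0 else 8536111

theorem bL_ok : ∀ k : Fin 8, isCode (aL (bL.getD k [])) = true ∧ aL (bL.getD k []) < 2 ^ 24 ∧
    (∀ i, (4 : ℤ) ∣ vl (bL.getD k []) i - 2 * chi (mset (aL (bL.getD k []))) i) ∧ (8 : ℤ) ∣ ∑ i, vl (bL.getD k []) i := by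
  decide +kernel
theorem dL_ok : ∀ k : Fin 8, isCode (aL (dL.getD k [])) = true ∧ aL (dL.getD k []) < 2 ^ 24 ∧
    (∀ i, (4 : ℤ) ∣ vl (dL.getD k []) i - 2 * chi (mset (aL (dL.getD k []))) i) ∧ (8 : ℤ) ∣ ∑ i, vl (dL.getD k []) i := by
  decide +kernel

/-- the basis vectors -/
def bV (k : Fin 8) : leechLattice := ⟨vl (bL.getD k []), vl_mem (bL_ok k).1 (bL_ok k).2.1 (bL_ok k).2.2.1 (bL_ok k).2.2.2⟩
/-- the dual basis vectors -/
def dV (k : Fin 8) : leechLattice := ⟨vl (dL.getD k []), vl_mem (dL_ok k).1 (dL_ok k).2.1 (dL_ok k).2.2.1 (dL_ok k).2.2.2⟩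

theorem bV_coe (k : Fin 8) : (bV k : GolayPt → ℤ) = vl (bL.getD k []) := rfl
theorem dV_coe (k : Fin 8) : (dV k : GolayPt → ℤ) = vl (dL.getD k []) := rfl

theorem bL_supp : ∀ k : Fin 8, ∀ i, i ∉ oc → vl (bL.getD k []) i = 0 := by decide +kernel
theorem dL_supp : ∀ k : Fin 8, ∀ i, i ∉ oc → vl (dL.getD k []) i = 0 := by decide +kernel
theorem bV_mem (k : Fin 8) : bV k ∈ LO := bL_supp k
theorem dV_mem (k : Fin 8) : dV k ∈ LO := dL_supp k

theorem oc_eq : oc = {none, some 0, some 1, some 2, some 3, some 5, some 14, some 17} := by decide +kernel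

theorem sum_oc (f : GolayPt → ℤ) : ∑ i ∈ oc, f i = f none + (f (some 0) + (f (some 1) + (f (some 2) + (f (some 3) +
    (f (some 5) + (f (some 14) + f (some 17))))))) := by
  rw [oc_eq, Finset.sum_insert (by decide), Finset.sum_insert (by decide), Finset.sum_insert (by decide),
    Finset.sum_insert (by decide), Finset.sum_insert (by decide), Finset.sum_insert (by decide), Finset.sum_insert (by decide),
    Finset.sum_singleton]

theorem mat_bd : ∀ i j : GolayPt, i ∈ oc → j ∈ oc → ∑ k : Fin 8, vl (bL.getD k []) j * vl (dL.getD k []) i =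
    if j = i then 16 else 0 := by decide +kernel

theorem expand {x : leechLattice} (hx : x ∈ LO) (i : GolayPt) :
    16 * (x : GolayPt → ℤ) i = ∑ k, dotInt (bV k : GolayPt → ℤ) (x : GolayPt → ℤ) * (dV k : GolayPt → ℤ) i := by
  by_cases hi : i ∈ oc
  · have h1 : ∀ k : Fin 8, dotInt (bV k : GolayPt → ℤ) (x : GolayPt → ℤ) * (dV k : GolayPt → ℤ) i =
        ∑ j ∈ oc, (x : GolayPt → ℤ) j * (vl (bL.getD k []) j * vl (dL.getD k []) i) := by
      intro k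
      rw [dot_oc hx, Finset.sum_mul, bV_coe, dV_coe]
      apply Finset.sum_congr rfl
      intro j _
      ring
    rw [Finset.sum_congr rfl fun k _ => h1 k, Finset.sum_comm]
    have h2 : ∀ j ∈ oc, ∑ k : Fin 8, (x : GolayPt → ℤ) j * (vl (bL.getD k []) j * vl (dL.getD k []) i) =
        if j = i then 16 * (x : GolayPt → ℤ) i else 0 := by
      intro j hj
      rw [← Finset.mul_sum, mat_bd i j hi hj]
      split_ifs with h
      · rw [h]; ring
      · ring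
    rw [Finset.sum_congr rfl h2, Finset.sum_ite_eq' oc i, if_pos hi]
  · rw [hx i hi, Finset.sum_eq_zero]
    · rfl
    · intro k _
      rw [dV_mem k i hi, mul_zero]

/-- a vector whose inner products with the basis vectors are all even is twice a vector -/
theorem half_of_even {x : leechLattice} (hx : x ∈ LO) (h : ∀ k, (32 : ℤ) ∣ dotInt (bV k : GolayPt → ℤ) (x : GolayPt → ℤ)) :
    ∃ y ∈ LO, x = y + y := by
  choose m hm using h
  refine ⟨∑ k, m k • dV k, ?_, ?_⟩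
  · exact AddSubgroup.sum_mem _ fun k _ => AddSubgroup.zsmul_mem _ (dV_mem k) _
  · apply Subtype.ext
    funext i
    have h1 := expand hx i
    have h2 : ((∑ k, m k • dV k : leechLattice) : GolayPt → ℤ) i = ∑ k, m k * (dV k : GolayPt → ℤ) i := by
      rw [AddSubgroup.val_finsetSum, Finset.sum_apply]
      rfl
    show (x : GolayPt → ℤ) i = ((∑ k, m k • dV k : leechLattice) : GolayPt → ℤ) i + ((∑ k, m k • dV k : leechLattice) : GolayPt → ℤ) i
    rw [h2]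
    have h3 : ∀ k : Fin 8, dotInt (bV k : GolayPt → ℤ) (x : GolayPt → ℤ) * (dV k : GolayPt → ℤ) i =
        32 * (m k * (dV k : GolayPt → ℤ) i) := by
      intro k; rw [hm]; ring
    rw [Finset.sum_congr rfl fun k _ => h3 k, ← Finset.mul_sum] at h1
    omega

/-! ### reduction modulo two -/

/-- the inner product modulo two -/
def kap (b x : leechLattice) : ZMod 2 := ((dotInt (b : GolayPt → ℤ) (x : GolayPt → ℤ) / 16 : ℤ) : ZMod 2)

theorem dot_add_right' (b x y : GolayPt → ℤ) : dotInt b (x + y) = dotInt b x + dotInt b y := by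
  unfold dotInt
  rw [← Finset.sum_add_distrib]
  exact Finset.sum_congr rfl fun i _ => by rw [Pi.add_apply]; ring

theorem kap_add {b x y : leechLattice} (hb : b ∈ LO) (hx : x ∈ LO) (hy : y ∈ LO) : kap b (x + y) = kap b x + kap b y := by
  unfold kap
  have h1 := dot16 hb hx
  have h2 := dot16 hb hy
  have h3 : dotInt (b : GolayPt → ℤ) ((x + y : leechLattice) : GolayPt → ℤ) =
      dotInt (b : GolayPt → ℤ) (x : GolayPt → ℤ) + dotInt (b : GolayPt → ℤ) (y : GolayPt → ℤ) := dot_add_right' _ _ _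
  rw [h3, Int.add_ediv_of_dvd_left h1, Int.cast_add]

theorem kap_comm (b x : leechLattice) : kap b x = kap x b := by
  unfold kap; rw [dot_comm]

theorem kap_zero_iff {b x : leechLattice} (hb : b ∈ LO) (hx : x ∈ LO) :
    kap b x = 0 ↔ (32 : ℤ) ∣ dotInt (b : GolayPt → ℤ) (x : GolayPt → ℤ) := by
  unfold kap
  have h1 := dot16 hb hx
  rw [ZMod.intCast_zmod_eq_zero_iff_dvd]
  constructor
  · intro h; push_cast at h; omega
  · intro h; push_cast; omega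

theorem kap_smul {g : Co0} (b x : leechLattice) : kap (g • b) (g • x) = kap b x := by
  unfold kap
  rw [dot_smul]

end Cfsg.Agent.Lib.LeechSyl
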