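import Cfsg.Agent.Lib.LeechCount6

/-!
More numbers of vectors with given inner products with standard vectors.
-/

set_option autoImplicit false
set_option maxRecDepth 10000

namespace Cfsg.Agent.Lib.LeechChain

open Cfsg Cfsg.Agent.Lib.Golay Cfsg.Agent.Lib.LeechMin Cfsg.Agent.Lib.GolayCoset Cfsg.Agent.Lib.LeechXi
  Cfsg.Agent.Lib.LeechTrans Cfsg.Agent.Lib.LeechCo2 Cfsg.Agent.Lib.LeechFrame Cfsg.Agent.Lib.LeechCount
  Cfsg.Agent.Lib.LeechOrder Cfsg.Agent.Lib.LeechMod Cfsg.Agent.Lib.LeechQuot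
open scoped Pointwise

/-- `22` -/
theorem cls22 : (cls [(X hab, 8), (U none, 24), (S hab, 0)] 32).ncard = 22 := by
  refine Eq.trans (cls32_1 (j := 160) (K := 6361) (M := 265) (l1 := [(1, 0), (1, 5), (2, 1), (1, 1)]) (l2 := [(1, 0), (1, 1), (2, 5), (1, -3)]) (l3 := [(1, 0), (1, 1), (2, 1), (1, 1)])
    [(1, (0 : GolayPt → ℤ)), (1, (cv ∅ {none})), (2, (cv ∅ {none} - (Pi.single none 4 - Pi.single b0 4 : GolayPt → ℤ))), (1, (cv ∅ {none} - (Pi.single none 4 + Pi.single b0 4 : GolayPt → ℤ)))] ?_ (by decide +kernel) (by decide +kernel) (by norm_num) (by norm_num)) (by decide +kernel)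
  intro x
  simp only [cls_def, List.forall_mem_cons, List.map_cons, List.map_nil, List.sum_cons, List.sum_nil,
    List.not_mem_nil, false_imp_iff, implies_true, and_true, add_zero, Nat.cast_ofNat, Nat.cast_one, one_mul, sqNorm_zero_sub]
  simp only [coe_S, coe_U, coe_X]
  have h1 := sqNorm_sub (cv ∅ {none}) (x : GolayPt → ℤ)
  have n1 : sqNorm (cv ∅ {none}) = 48 := by decide +kernel
  try simp only [dot_add_left, dot_sub_left] at h1
  have h2 := sqNorm_sub (cv ∅ {none} - (Pi.single none 4 - Pi.single b0 4 : GolayPt → ℤ)) (x : GolayPt → ℤ)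
  have n2 : sqNorm (cv ∅ {none} - (Pi.single none 4 - Pi.single b0 4 : GolayPt → ℤ)) = 48 := by decide +kernel
  try simp only [dot_add_left, dot_sub_left] at h2
  have h3 := sqNorm_sub (cv ∅ {none} - (Pi.single none 4 + Pi.single b0 4 : GolayPt → ℤ)) (x : GolayPt → ℤ)
  have n3 : sqNorm (cv ∅ {none} - (Pi.single none 4 + Pi.single b0 4 : GolayPt → ℤ)) = 32 := by decide +kernel
  try simp only [dot_add_left, dot_sub_left] at h3
  try simp only [dot_add_left, dot_sub_left]
  rcases norm_alt' (leechLattice.zero_mem) x with h5 | ⟨p0, hp0, hq0⟩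
  · have e0 : sqNorm (x : GolayPt → ℤ) = 0 := by rw [h5]; decide +kernel
    have e1 : sqNorm ((cv ∅ {none}) - (x : GolayPt → ℤ)) = 48 := by rw [h5]; decide +kernel
    have e2 : sqNorm ((cv ∅ {none} - (Pi.single none 4 - Pi.single b0 4 : GolayPt → ℤ)) - (x : GolayPt → ℤ)) = 48 := by rw [h5]; decide +kernel
    have e3 : sqNorm ((cv ∅ {none} - (Pi.single none 4 + Pi.single b0 4 : GolayPt → ℤ)) - (x : GolayPt → ℤ)) = 32 := by rw [h5]; decide +kernel
    omega
  rcases norm_alt' (U_mem none) x with h5 | ⟨p1, hp1, hq1⟩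
  · have e0 : sqNorm (x : GolayPt → ℤ) = 48 := by rw [h5]; decide +kernel
    have e1 : sqNorm ((cv ∅ {none}) - (x : GolayPt → ℤ)) = 0 := by rw [h5]; decide +kernel
    have e2 : sqNorm ((cv ∅ {none} - (Pi.single none 4 - Pi.single b0 4 : GolayPt → ℤ)) - (x : GolayPt → ℤ)) = 32 := by rw [h5]; decide +kernel
    have e3 : sqNorm ((cv ∅ {none} - (Pi.single none 4 + Pi.single b0 4 : GolayPt → ℤ)) - (x : GolayPt → ℤ)) = 32 := by rw [h5]; decide +kernel
    omega
  rcases norm_alt' ((leechLattice.sub_mem (U_mem none) (four_single_sub_mem hab))) x with h5 | ⟨p2, hp2, hq2⟩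
  · have e0 : sqNorm (x : GolayPt → ℤ) = 48 := by rw [h5]; decide +kernel
    have e1 : sqNorm ((cv ∅ {none}) - (x : GolayPt → ℤ)) = 32 := by rw [h5]; decide +kernel
    have e2 : sqNorm ((cv ∅ {none} - (Pi.single none 4 - Pi.single b0 4 : GolayPt → ℤ)) - (x : GolayPt → ℤ)) = 0 := by rw [h5]; decide +kernel
    have e3 : sqNorm ((cv ∅ {none} - (Pi.single none 4 + Pi.single b0 4 : GolayPt → ℤ)) - (x : GolayPt → ℤ)) = 64 := by rw [h5]; decide +kernel
    omega
  rcases norm_alt' ((leechLattice.sub_mem (U_mem none) (four_single_add_mem hab))) x with h5 | ⟨p3, hp3, hq3⟩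
  · have e0 : sqNorm (x : GolayPt → ℤ) = 32 := by rw [h5]; decide +kernel
    have e1 : sqNorm ((cv ∅ {none}) - (x : GolayPt → ℤ)) = 32 := by rw [h5]; decide +kernel
    have e2 : sqNorm ((cv ∅ {none} - (Pi.single none 4 - Pi.single b0 4 : GolayPt → ℤ)) - (x : GolayPt → ℤ)) = 64 := by rw [h5]; decide +kernel
    have e3 : sqNorm ((cv ∅ {none} - (Pi.single none 4 + Pi.single b0 4 : GolayPt → ℤ)) - (x : GolayPt → ℤ)) = 0 := by rw [h5]; decide +kernel
    omega
  rw [sqNorm_zero_sub] at hq0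
  omega

/-- `77` -/
theorem cls77 : (cls [(X hab, 16), (U none, 24), (S hab, 0)] 32).ncard = 77 := by
  refine Eq.trans (cls32_1 (j := 160) (K := 8209) (M := 342) (l1 := [(1, 0), (1, 5), (2, 1), (1, 4)]) (l2 := [(1, 0), (1, 1), (2, 5), (1, 4)]) (l3 := [(1, 0), (1, 1), (2, 1), (1, 0)])
    [(1, (0 : GolayPt → ℤ)), (1, (cv ∅ {none})), (2, (cv ∅ {none} - (Pi.single none 4 - Pi.single b0 4 : GolayPt → ℤ))), (1, ((Pi.single none 4 + Pi.single b0 4 : GolayPt → ℤ)))] ?_ (by decide +kernel) (by decide +kernel) (by norm_num) (by norm_num)) (by decide +kernel)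
  intro x
  simp only [cls_def, List.forall_mem_cons, List.map_cons, List.map_nil, List.sum_cons, List.sum_nil,
    List.not_mem_nil, false_imp_iff, implies_true, and_true, add_zero, Nat.cast_ofNat, Nat.cast_one, one_mul, sqNorm_zero_sub]
  simp only [coe_S, coe_U, coe_X]
  have h1 := sqNorm_sub (cv ∅ {none}) (x : GolayPt → ℤ)
  have n1 : sqNorm (cv ∅ {none}) = 48 := by decide +kernel
  try simp only [dot_add_left, dot_sub_left] at h1
  have h2 := sqNorm_sub (cv ∅ {none} - (Pi.single none 4 - Pi.single b0 4 : GolayPt → ℤ)) (x : GolayPt → ℤ)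
  have n2 : sqNorm (cv ∅ {none} - (Pi.single none 4 - Pi.single b0 4 : GolayPt → ℤ)) = 48 := by decide +kernel
  try simp only [dot_add_left, dot_sub_left] at h2
  have h3 := sqNorm_sub ((Pi.single none 4 + Pi.single b0 4 : GolayPt → ℤ)) (x : GolayPt → ℤ)
  have n3 : sqNorm ((Pi.single none 4 + Pi.single b0 4 : GolayPt → ℤ)) = 32 := by decide +kernel
  try simp only [dot_add_left, dot_sub_left] at h3
  try simp only [dot_add_left, dot_sub_left]
  rcases norm_alt' (leechLattice.zero_mem) x with h5 | ⟨p0, hp0, hq0⟩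
  · have e0 : sqNorm (x : GolayPt → ℤ) = 0 := by rw [h5]; decide +kernel
    have e1 : sqNorm ((cv ∅ {none}) - (x : GolayPt → ℤ)) = 48 := by rw [h5]; decide +kernel
    have e2 : sqNorm ((cv ∅ {none} - (Pi.single none 4 - Pi.single b0 4 : GolayPt → ℤ)) - (x : GolayPt → ℤ)) = 48 := by rw [h5]; decide +kernel
    have e3 : sqNorm (((Pi.single none 4 + Pi.single b0 4 : GolayPt → ℤ)) - (x : GolayPt → ℤ)) = 32 := by rw [h5]; decide +kernel
    omega
  rcases norm_alt' (U_mem none) x with h5 | ⟨p1, hp1, hq1⟩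
  · have e0 : sqNorm (x : GolayPt → ℤ) = 48 := by rw [h5]; decide +kernel
    have e1 : sqNorm ((cv ∅ {none}) - (x : GolayPt → ℤ)) = 0 := by rw [h5]; decide +kernel
    have e2 : sqNorm ((cv ∅ {none} - (Pi.single none 4 - Pi.single b0 4 : GolayPt → ℤ)) - (x : GolayPt → ℤ)) = 32 := by rw [h5]; decide +kernel
    have e3 : sqNorm (((Pi.single none 4 + Pi.single b0 4 : GolayPt → ℤ)) - (x : GolayPt → ℤ)) = 32 := by rw [h5]; decide +kernel
    omega
  rcases norm_alt' ((leechLattice.sub_mem (U_mem none) (four_single_sub_mem hab))) x with h5 | ⟨p2, hp2, hq2⟩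
  · have e0 : sqNorm (x : GolayPt → ℤ) = 48 := by rw [h5]; decide +kernel
    have e1 : sqNorm ((cv ∅ {none}) - (x : GolayPt → ℤ)) = 32 := by rw [h5]; decide +kernel
    have e2 : sqNorm ((cv ∅ {none} - (Pi.single none 4 - Pi.single b0 4 : GolayPt → ℤ)) - (x : GolayPt → ℤ)) = 0 := by rw [h5]; decide +kernel
    have e3 : sqNorm (((Pi.single none 4 + Pi.single b0 4 : GolayPt → ℤ)) - (x : GolayPt → ℤ)) = 32 := by rw [h5]; decide +kernel
    omega
  rcases norm_alt' ((four_single_add_mem hab)) x with h5 | ⟨p3, hp3, hq3⟩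
  · have e0 : sqNorm (x : GolayPt → ℤ) = 32 := by rw [h5]; decide +kernel
    have e1 : sqNorm ((cv ∅ {none}) - (x : GolayPt → ℤ)) = 32 := by rw [h5]; decide +kernel
    have e2 : sqNorm ((cv ∅ {none} - (Pi.single none 4 - Pi.single b0 4 : GolayPt → ℤ)) - (x : GolayPt → ℤ)) = 32 := by rw [h5]; decide +kernel
    have e3 : sqNorm (((Pi.single none 4 + Pi.single b0 4 : GolayPt → ℤ)) - (x : GolayPt → ℤ)) = 0 := by rw [h5]; decide +kernel
    omega
  rw [sqNorm_zero_sub] at hq0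
  omega

/-- `330` -/
theorem cls330 : (cls [(S hab, 0), (X hab, 0), (U none, 16)] 32).ncard = 330 := by
  refine Eq.trans (cls32_1 (j := 352) (K := 7585) (M := 316) (l1 := [(3, 0), (3, 1), (3, -3), (1, 4)]) (l2 := [(3, 0), (3, -3), (3, 1), (1, 4)]) (l3 := [(3, 0), (3, 1), (3, 1), (1, 0)])
    [(3, (0 : GolayPt → ℤ)), (3, (cv ∅ {none} - (Pi.single none 4 + Pi.single b0 4 : GolayPt → ℤ))), (3, (cv ∅ {none} - (Pi.single none 4 + Pi.single b0 4 : GolayPt → ℤ) - (Pi.single none 4 - Pi.single b0 4 : GolayPt → ℤ))), (1, ((Pi.single none 4 + Pi.single b0 4 : GolayPt → ℤ)))] ?_ (by decide +kernel) (by decide +kernel) (by norm_num) (by norm_num)) (by decide +kernel)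
  intro x
  simp only [cls_def, List.forall_mem_cons, List.map_cons, List.map_nil, List.sum_cons, List.sum_nil,
    List.not_mem_nil, false_imp_iff, implies_true, and_true, add_zero, Nat.cast_ofNat, Nat.cast_one, one_mul, sqNorm_zero_sub]
  simp only [coe_S, coe_U, coe_X]
  have h1 := sqNorm_sub (cv ∅ {none} - (Pi.single none 4 + Pi.single b0 4 : GolayPt → ℤ)) (x : GolayPt → ℤ)
  have n1 : sqNorm (cv ∅ {none} - (Pi.single none 4 + Pi.single b0 4 : GolayPt → ℤ)) = 32 := by decide +kernel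
  try simp only [dot_add_left, dot_sub_left] at h1
  have h2 := sqNorm_sub (cv ∅ {none} - (Pi.single none 4 + Pi.single b0 4 : GolayPt → ℤ) - (Pi.single none 4 - Pi.single b0 4 : GolayPt → ℤ)) (x : GolayPt → ℤ)
  have n2 : sqNorm (cv ∅ {none} - (Pi.single none 4 + Pi.single b0 4 : GolayPt → ℤ) - (Pi.single none 4 - Pi.single b0 4 : GolayPt → ℤ)) = 32 := by decide +kernel
  try simp only [dot_add_left, dot_sub_left] at h2
  have h3 := sqNorm_sub ((Pi.single none 4 + Pi.single b0 4 : GolayPt → ℤ)) (x : GolayPt → ℤ)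
  have n3 : sqNorm ((Pi.single none 4 + Pi.single b0 4 : GolayPt → ℤ)) = 32 := by decide +kernel
  try simp only [dot_add_left, dot_sub_left] at h3
  try simp only [dot_add_left, dot_sub_left]
  rcases norm_alt' (leechLattice.zero_mem) x with h5 | ⟨p0, hp0, hq0⟩
  · have e0 : sqNorm (x : GolayPt → ℤ) = 0 := by rw [h5]; decide +kernel
    have e1 : sqNorm ((cv ∅ {none} - (Pi.single none 4 + Pi.single b0 4 : GolayPt → ℤ)) - (x : GolayPt → ℤ)) = 32 := by rw [h5]; decide +kernel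
    have e2 : sqNorm ((cv ∅ {none} - (Pi.single none 4 + Pi.single b0 4 : GolayPt → ℤ) - (Pi.single none 4 - Pi.single b0 4 : GolayPt → ℤ)) - (x : GolayPt → ℤ)) = 32 := by rw [h5]; decide +kernel
    have e3 : sqNorm (((Pi.single none 4 + Pi.single b0 4 : GolayPt → ℤ)) - (x : GolayPt → ℤ)) = 32 := by rw [h5]; decide +kernel
    omega
  rcases norm_alt' ((leechLattice.sub_mem (U_mem none) (four_single_add_mem hab))) x with h5 | ⟨p1, hp1, hq1⟩
  · have e0 : sqNorm (x : GolayPt → ℤ) = 32 := by rw [h5]; decide +kernel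
    have e1 : sqNorm ((cv ∅ {none} - (Pi.single none 4 + Pi.single b0 4 : GolayPt → ℤ)) - (x : GolayPt → ℤ)) = 0 := by rw [h5]; decide +kernel
    have e2 : sqNorm ((cv ∅ {none} - (Pi.single none 4 + Pi.single b0 4 : GolayPt → ℤ) - (Pi.single none 4 - Pi.single b0 4 : GolayPt → ℤ)) - (x : GolayPt → ℤ)) = 32 := by rw [h5]; decide +kernel
    have e3 : sqNorm (((Pi.single none 4 + Pi.single b0 4 : GolayPt → ℤ)) - (x : GolayPt → ℤ)) = 80 := by rw [h5]; decide +kernel
    omega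
  rcases norm_alt' ((leechLattice.sub_mem ((leechLattice.sub_mem (U_mem none) (four_single_add_mem hab))) (four_single_sub_mem hab))) x with h5 | ⟨p2, hp2, hq2⟩
  · have e0 : sqNorm (x : GolayPt → ℤ) = 32 := by rw [h5]; decide +kernel
    have e1 : sqNorm ((cv ∅ {none} - (Pi.single none 4 + Pi.single b0 4 : GolayPt → ℤ)) - (x : GolayPt → ℤ)) = 32 := by rw [h5]; decide +kernel
    have e2 : sqNorm ((cv ∅ {none} - (Pi.single none 4 + Pi.single b0 4 : GolayPt → ℤ) - (Pi.single none 4 - Pi.single b0 4 : GolayPt → ℤ)) - (x : GolayPt → ℤ)) = 0 := by rw [h5]; decide +kernel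
    have e3 : sqNorm (((Pi.single none 4 + Pi.single b0 4 : GolayPt → ℤ)) - (x : GolayPt → ℤ)) = 80 := by rw [h5]; decide +kernel
    omega
  rcases norm_alt' ((four_single_add_mem hab)) x with h5 | ⟨p3, hp3, hq3⟩
  · have e0 : sqNorm (x : GolayPt → ℤ) = 32 := by rw [h5]; decide +kernel
    have e1 : sqNorm ((cv ∅ {none} - (Pi.single none 4 + Pi.single b0 4 : GolayPt → ℤ)) - (x : GolayPt → ℤ)) = 80 := by rw [h5]; decide +kernel
    have e2 : sqNorm ((cv ∅ {none} - (Pi.single none 4 + Pi.single b0 4 : GolayPt → ℤ) - (Pi.single none 4 - Pi.single b0 4 : GolayPt → ℤ)) - (x : GolayPt → ℤ)) = 80 := by rw [h5]; decide +kernel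
    have e3 : sqNorm (((Pi.single none 4 + Pi.single b0 4 : GolayPt → ℤ)) - (x : GolayPt → ℤ)) = 0 := by rw [h5]; decide +kernel
    omega
  rw [sqNorm_zero_sub] at hq0
  omega

/-- `462` -/
theorem cls462 : (cls [(S hab, 16), (X hab, 0), (U none, 16)] 32).ncard = 462 := by
  refine Eq.trans (cls32_1 (j := 352) (K := 12265) (M := 511) (l1 := [(3, 0), (3, 1), (3, 4), (1, 4)]) (l2 := [(3, 0), (3, -3), (3, -4), (1, 4)]) (l3 := [(3, 0), (3, 1), (3, 0), (1, 0)])
    [(3, (0 : GolayPt → ℤ)), (3, (cv ∅ {none} - (Pi.single none 4 + Pi.single b0 4 : GolayPt → ℤ))), (3, ((Pi.single none 4 - Pi.single b0 4 : GolayPt → ℤ))), (1, ((Pi.single none 4 + Pi.single b0 4 : GolayPt → ℤ)))] ?_ (by decide +kernel) (by decide +kernel) (by norm_num) (by norm_num)) (by decide +kernel)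
  intro x
  simp only [cls_def, List.forall_mem_cons, List.map_cons, List.map_nil, List.sum_cons, List.sum_nil,
    List.not_mem_nil, false_imp_iff, implies_true, and_true, add_zero, Nat.cast_ofNat, Nat.cast_one, one_mul, sqNorm_zero_sub]
  simp only [coe_S, coe_U, coe_X]
  have h1 := sqNorm_sub (cv ∅ {none} - (Pi.single none 4 + Pi.single b0 4 : GolayPt → ℤ)) (x : GolayPt → ℤ)
  have n1 : sqNorm (cv ∅ {none} - (Pi.single none 4 + Pi.single b0 4 : GolayPt → ℤ)) = 32 := by decide +kernel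
  try simp only [dot_add_left, dot_sub_left] at h1
  have h2 := sqNorm_sub ((Pi.single none 4 - Pi.single b0 4 : GolayPt → ℤ)) (x : GolayPt → ℤ)
  have n2 : sqNorm ((Pi.single none 4 - Pi.single b0 4 : GolayPt → ℤ)) = 32 := by decide +kernel
  try simp only [dot_add_left, dot_sub_left] at h2
  have h3 := sqNorm_sub ((Pi.single none 4 + Pi.single b0 4 : GolayPt → ℤ)) (x : GolayPt → ℤ)
  have n3 : sqNorm ((Pi.single none 4 + Pi.single b0 4 : GolayPt → ℤ)) = 32 := by decide +kernel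
  try simp only [dot_add_left, dot_sub_left] at h3
  try simp only [dot_add_left, dot_sub_left]
  rcases norm_alt' (leechLattice.zero_mem) x with h5 | ⟨p0, hp0, hq0⟩
  · have e0 : sqNorm (x : GolayPt → ℤ) = 0 := by rw [h5]; decide +kernel
    have e1 : sqNorm ((cv ∅ {none} - (Pi.single none 4 + Pi.single b0 4 : GolayPt → ℤ)) - (x : GolayPt → ℤ)) = 32 := by rw [h5]; decide +kernel
    have e2 : sqNorm (((Pi.single none 4 - Pi.single b0 4 : GolayPt → ℤ)) - (x : GolayPt → ℤ)) = 32 := by rw [h5]; decide +kernel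
    have e3 : sqNorm (((Pi.single none 4 + Pi.single b0 4 : GolayPt → ℤ)) - (x : GolayPt → ℤ)) = 32 := by rw [h5]; decide +kernel
    omega
  rcases norm_alt' ((leechLattice.sub_mem (U_mem none) (four_single_add_mem hab))) x with h5 | ⟨p1, hp1, hq1⟩
  · have e0 : sqNorm (x : GolayPt → ℤ) = 32 := by rw [h5]; decide +kernel
    have e1 : sqNorm ((cv ∅ {none} - (Pi.single none 4 + Pi.single b0 4 : GolayPt → ℤ)) - (x : GolayPt → ℤ)) = 0 := by rw [h5]; decide +kernel
    have e2 : sqNorm (((Pi.single none 4 - Pi.single b0 4 : GolayPt → ℤ)) - (x : GolayPt → ℤ)) = 32 := by rw [h5]; decide +kernel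
    have e3 : sqNorm (((Pi.single none 4 + Pi.single b0 4 : GolayPt → ℤ)) - (x : GolayPt → ℤ)) = 80 := by rw [h5]; decide +kernel
    omega
  rcases norm_alt' ((four_single_sub_mem hab)) x with h5 | ⟨p2, hp2, hq2⟩
  · have e0 : sqNorm (x : GolayPt → ℤ) = 32 := by rw [h5]; decide +kernel
    have e1 : sqNorm ((cv ∅ {none} - (Pi.single none 4 + Pi.single b0 4 : GolayPt → ℤ)) - (x : GolayPt → ℤ)) = 32 := by rw [h5]; decide +kernel
    have e2 : sqNorm (((Pi.single none 4 - Pi.single b0 4 : GolayPt → ℤ)) - (x : GolayPt → ℤ)) = 0 := by rw [h5]; decide +kernel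
    have e3 : sqNorm (((Pi.single none 4 + Pi.single b0 4 : GolayPt → ℤ)) - (x : GolayPt → ℤ)) = 64 := by rw [h5]; decide +kernel
    omega
  rcases norm_alt' ((four_single_add_mem hab)) x with h5 | ⟨p3, hp3, hq3⟩
  · have e0 : sqNorm (x : GolayPt → ℤ) = 32 := by rw [h5]; decide +kernel
    have e1 : sqNorm ((cv ∅ {none} - (Pi.single none 4 + Pi.single b0 4 : GolayPt → ℤ)) - (x : GolayPt → ℤ)) = 80 := by rw [h5]; decide +kernel
    have e2 : sqNorm (((Pi.single none 4 - Pi.single b0 4 : GolayPt → ℤ)) - (x : GolayPt → ℤ)) = 64 := by rw [h5]; decide +kernel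
    have e3 : sqNorm (((Pi.single none 4 + Pi.single b0 4 : GolayPt → ℤ)) - (x : GolayPt → ℤ)) = 0 := by rw [h5]; decide +kernel
    omega
  rw [sqNorm_zero_sub] at hq0
  omega

end Cfsg.Agent.Lib.LeechChain
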