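import Cfsg.Agent.Lib.LeechMod
import Cfsg.Agent.Lib.LeechMin
import Cfsg.Agent.Lib.GolayModule

/-!
The Leech lattice is generated by its vectors of squared length 32.
-/

set_option autoImplicit false

namespace Cfsg.Agent.Lib.LeechGen

open Cfsg Cfsg.Agent.Lib.Golay Cfsg.Agent.Lib.LeechMin Cfsg.Agent.Lib.GolayModule
open Cfsg.Agent.Lib.GolayCoset (wordOf support₂_wordOf support₂_add)

/-- vectors of squared length 32 -/
def MinV : Set (GolayPt → ℤ) := {x | x ∈ leechLattice ∧ sqNorm x = 32}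

/-- their span -/
def S : AddSubgroup (GolayPt → ℤ) := AddSubgroup.closure MinV

theorem S_le : S ≤ leechLattice := (AddSubgroup.closure_le _).2 fun _ hx => hx.1

theorem sqNorm_pair {i j : GolayPt} (hij : i ≠ j) (a b : ℤ) :
    sqNorm (Pi.single i a + Pi.single j b : GolayPt → ℤ) = a ^ 2 + b ^ 2 := by
  have h : ∀ k, ((Pi.single i a + Pi.single j b : GolayPt → ℤ) k) ^ 2 =
      (Pi.single i (a ^ 2) : GolayPt → ℤ) k + (Pi.single j (b ^ 2) : GolayPt → ℤ) k := by
    intro k
    simp only [Pi.add_apply, Pi.single_apply]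
    by_cases h1 : k = i
    · by_cases h2 : k = j
      · exact absurd (h1.symm.trans h2) hij
      · simp [h1, hij]
    · by_cases h2 : k = j
      · simp [h2, hij.symm]
      · simp [h1, h2]
  unfold sqNorm
  rw [Finset.sum_congr rfl fun k _ => h k, Finset.sum_add_distrib, Finset.sum_pi_single', Finset.sum_pi_single']
  simp

theorem pair_add_min {i j : GolayPt} (hij : i ≠ j) : (Pi.single i 4 + Pi.single j 4 : GolayPt → ℤ) ∈ MinV :=
  ⟨LeechMod.four_single_add_mem hij, by rw [sqNorm_pair hij]; norm_num⟩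

theorem pair_sub_min {i j : GolayPt} (hij : i ≠ j) : (Pi.single i 4 - Pi.single j 4 : GolayPt → ℤ) ∈ MinV := by
  refine ⟨LeechMod.four_single_sub_mem hij, ?_⟩
  have : (Pi.single i 4 - Pi.single j 4 : GolayPt → ℤ) = Pi.single i 4 + Pi.single j (-4) := by
    rw [Pi.single_neg, sub_eq_add_neg]
  rw [this, sqNorm_pair hij]; norm_num

theorem eight_mem (i : GolayPt) : (Pi.single i 8 : GolayPt → ℤ) ∈ S := by
  obtain ⟨j, hj⟩ := LeechMod.exists_ne' i
  have h := S.add_mem (AddSubgroup.subset_closure (pair_add_min hj)) (AddSubgroup.subset_closure (pair_sub_min hj))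
  have e : (Pi.single i 4 + Pi.single j 4 : GolayPt → ℤ) + (Pi.single i 4 - Pi.single j 4) = Pi.single i 8 := by
    funext k
    simp only [Pi.add_apply, Pi.sub_apply, Pi.single_apply]
    split_ifs <;> norm_num
  rw [e] at h
  exact h

theorem sub_mem (i j : GolayPt) : (Pi.single i 4 - Pi.single j 4 : GolayPt → ℤ) ∈ S := by
  by_cases h : i = j
  · rw [h, sub_self]; exact S.zero_mem
  · exact AddSubgroup.subset_closure (pair_sub_min h)

theorem four_mem (y : GolayPt → ℤ) (h : (2 : ℤ) ∣ ∑ i, y i) : (fun i => 4 * y i) ∈ S := by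
  obtain ⟨t, ht⟩ := h
  have e : (fun i => 4 * y i) = ∑ i, y i • (Pi.single i 4 - Pi.single none 4 : GolayPt → ℤ) +
      t • (Pi.single none 8 : GolayPt → ℤ) := by
    funext k
    simp only [Pi.add_apply, Finset.sum_apply, Pi.smul_apply, Pi.sub_apply, smul_eq_mul, mul_sub,
      Finset.sum_sub_distrib, Pi.single_apply]
    simp only [mul_ite, mul_zero, Finset.sum_ite_eq, Finset.mem_univ, if_true]
    by_cases hk : k = none
    · simp only [hk, if_true]
      rw [← Finset.sum_mul, ht]; ring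
    · simp only [hk, if_false, Finset.sum_const_zero]; ring
  rw [e]
  exact S.add_mem (sum_mem fun i _ => S.zsmul_mem (sub_mem _ _) _) (S.zsmul_mem (eight_mem _) _)

theorem two_chi_mem_lattice {A : Finset GolayPt} (hA : A ∈ Sup) : (fun i => 2 * chi A i) ∈ leechLattice := by
  obtain ⟨t, ht⟩ := four_dvd_card hA
  refine (mem_lattice_iff' _).2 ⟨0, A, hA, fun i => ⟨0, by ring⟩, ?_⟩
  rw [← Finset.mul_sum, sum_chi, ht]
  exact ⟨t, by ring⟩

theorem sqNorm_two_chi (A : Finset GolayPt) : sqNorm (fun i => 2 * chi A i) = 4 * A.card := by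
  have : ∀ i, (2 * chi A i) ^ 2 = 4 * chi A i := by
    intro i
    rcases chi_cases A i with ⟨_, h6⟩ | ⟨_, h6⟩ <;> rw [h6] <;> norm_num
  unfold sqNorm
  rw [Finset.sum_congr rfl fun i _ => this i, ← Finset.mul_sum, sum_chi]

theorem octad_min {A : Finset GolayPt} (hA : A ∈ octads) : (fun i => 2 * chi A i) ∈ MinV :=
  ⟨two_chi_mem_lattice hA.1, by rw [sqNorm_two_chi, hA.2]; norm_num⟩

theorem chi_symmDiff (A B : Finset GolayPt) (i : GolayPt) :
    chi (symmDiff A B) i = chi A i + chi B i - 2 * chi (A ∩ B) i := by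
  simp only [chi, Finset.mem_symmDiff, Finset.mem_inter]
  by_cases ha : i ∈ A <;> by_cases hb : i ∈ B <;> simp [ha, hb]

/-- the code words whose doubled indicator lies in the span -/
def W : Submodule (ZMod 2) (GolayPt → ZMod 2) where
  carrier := {w | w ∈ golayCode ∧ (fun i => 2 * chi (support₂ w) i) ∈ S}
  zero_mem' := by
    refine ⟨golayCode.zero_mem, ?_⟩
    have : (fun i => 2 * chi (support₂ (0 : GolayPt → ZMod 2)) i) = (0 : GolayPt → ℤ) := by
      funext i; simp [chi, support₂]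
    rw [this]; exact S.zero_mem
  add_mem' := by
    rintro v w ⟨hv, hv'⟩ ⟨hw, hw'⟩
    refine ⟨golayCode.add_mem hv hw, ?_⟩
    have h1 : (fun i => 2 * chi (support₂ (v + w)) i) =
        (fun i => 2 * chi (support₂ v) i) + (fun i => 2 * chi (support₂ w) i) -
          fun i => 4 * chi (support₂ v ∩ support₂ w) i := by
      funext i
      rw [support₂_add, chi_symmDiff]
      simp only [Pi.add_apply, Pi.sub_apply]; ring
    rw [h1]
    refine S.sub_mem (S.add_mem hv' hw') (four_mem _ ?_)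
    rw [sum_chi]
    have h2 := even_inter (s := support₂ v) (t := support₂ w) ⟨v, hv, rfl⟩ ⟨w, hw, rfl⟩
    omega
  smul_mem' := by
    rintro c w ⟨hw, hw'⟩
    rcases z2 c with rfl | rfl
    · rw [zero_smul]
      refine ⟨golayCode.zero_mem, ?_⟩
      have : (fun i => 2 * chi (support₂ (0 : GolayPt → ZMod 2)) i) = (0 : GolayPt → ℤ) := by
        funext i; simp [chi, support₂]
      rw [this]; exact S.zero_mem
    · rw [one_smul]; exact ⟨hw, hw'⟩

theorem two_chi_mem {A : Finset GolayPt} (hA : A ∈ Sup) : (fun i => 2 * chi A i) ∈ S := by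
  have h1 : golayCode ≤ W := code_le_of_bas fun j hj => by
    refine ⟨bas_mem j hj, ?_⟩
    rw [support₂_wd]
    exact AddSubgroup.subset_closure (octad_min (bas_octad j hj))
  have h2 := (h1 ((wordOf_mem_iff A).2 hA)).2
  rw [support₂_wordOf] at h2
  exact h2

/-- even case of the generation -/
theorem even_mem {x : GolayPt → ℤ} {m : ℤ} {A : Finset GolayPt} (h : Lv x m A) (hm : (2 : ℤ) ∣ m) : x ∈ S := by
  obtain ⟨n, hn⟩ := hm
  have hB : ∃ B ∈ Sup, ∀ i, (4 : ℤ) ∣ x i - 2 * chi B i := by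
    rcases Int.even_or_odd n with ⟨k, hk⟩ | ⟨k, hk⟩
    · refine ⟨A, h.1, fun i => ?_⟩
      have := h.2.1 i
      omega
    · refine ⟨Aᶜ, compl_mem_supports h.1, fun i => ?_⟩
      have h1 := h.2.1 i
      have h2 : chi Aᶜ i = 1 - chi A i := by
        simp only [chi, Finset.mem_compl]
        by_cases hi : i ∈ A <;> simp [hi]
      rw [h2]
      omega
  obtain ⟨B, hB, hx⟩ := hB
  choose y hy using hx
  have e : x = (fun i => 2 * chi B i) + fun i => 4 * y i := by
    funext i
    have := hy i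
    simp only [Pi.add_apply]
    linarith
  obtain ⟨t, ht⟩ := four_dvd_card hB
  have hs : (2 : ℤ) ∣ ∑ i, y i := by
    have h1 := h.2.2
    have h2 : ∑ i, x i = 2 * B.card + 4 * ∑ i, y i := by
      rw [e]
      simp only [Pi.add_apply, Finset.sum_add_distrib, ← Finset.mul_sum, sum_chi]
    rw [h2, ht, hn] at h1
    omega
  rw [e]
  exact S.add_mem (two_chi_mem hB) (four_mem y hs)

/-- the vector `(-3, 1^23)` -/
def sv : GolayPt → ℤ := fun i => 1 - 4 * chi {none} i

theorem Lv_sv : Lv sv 1 ∅ := by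
  refine ⟨empty_mem, fun i => ?_, ?_⟩
  · refine ⟨-chi {none} i, ?_⟩
    have : chi (∅ : Finset GolayPt) i = 0 := by simp [chi]
    rw [this]; unfold sv; ring
  · unfold sv
    rw [Finset.sum_sub_distrib, sum_const, ← Finset.mul_sum, sum_chi]
    simp only [Finset.card_singleton]
    norm_num

theorem sv_min : sv ∈ MinV := by
  refine ⟨(mem_lattice_iff' _).2 ⟨_, _, Lv_sv⟩, ?_⟩
  have : ∀ i, sv i ^ 2 = 1 + 8 * chi {none} i := by
    intro i
    unfold sv
    rcases chi_cases {none} i with ⟨_, h6⟩ | ⟨_, h6⟩ <;> rw [h6] <;> norm_num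
  unfold sqNorm
  rw [Finset.sum_congr rfl fun i _ => this i, Finset.sum_add_distrib, sum_const, ← Finset.mul_sum, sum_chi]
  simp only [Finset.card_singleton]
  norm_num

theorem mem_S {x : GolayPt → ℤ} (hx : x ∈ leechLattice) : x ∈ S := by
  obtain ⟨m, A, h⟩ := (mem_lattice_iff' x).1 hx
  rcases Int.even_or_odd m with ⟨n, hn⟩ | ⟨n, hn⟩
  · exact even_mem h ⟨n, by omega⟩
  · have h1 := Lv_add h (Lv_neg Lv_sv)
    have h2 := even_mem h1 ⟨n, by omega⟩
    have h3 := S.add_mem h2 (AddSubgroup.subset_closure sv_min)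
    have h4 : x + -sv + sv = x := by abel
    rwa [h4] at h3

/-- **The Leech lattice is generated by its vectors of squared length 32.** -/
theorem closure_min : AddSubgroup.closure {x | x ∈ leechLattice ∧ sqNorm x = 32} = leechLattice :=
  le_antisymm S_le fun _ hx => mem_S hx

/-- induction over the generators -/
theorem induction_min {P : leechLattice → Prop} (h0 : P 0)
    (hadd : ∀ v m : leechLattice, sqNorm (m : GolayPt → ℤ) = 32 → P v → P (v + m)) (v : leechLattice) : P v := by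
  have key : ∀ x (hx : x ∈ S), P ⟨x, S_le hx⟩ := by
    intro x hx
    unfold S at hx
    induction hx using AddSubgroup.closure_induction_right with
    | zero => exact h0
    | add_right x hx y hy ih => exact hadd _ ⟨y, hy.1⟩ hy.2 ih
    | add_neg_cancel x hx y hy ih =>
      refine hadd _ ⟨-y, leechLattice.neg_mem hy.1⟩ ?_ ih
      have h := hy.2
      change sqNorm (-y) = 32
      rw [← h]
      simp [sqNorm]
  exact key v (mem_S v.2)

/-- coordinates of a lattice vector -/
theorem exists_rep {x : GolayPt → ℤ} (hx : x ∈ leechLattice) :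
    ∃ (m : ℤ) (A : Finset GolayPt) (k : GolayPt → ℤ) (w a : ℤ), A ∈ Sup ∧
      (∀ i, x i = m + 2 * chi A i + 4 * k i) ∧ ∑ i, x i = 4 * m + 8 * w ∧ (A.card : ℤ) = 4 * a ∧
      ∑ i, k i = -5 * m - 2 * a + 2 * w := by
  obtain ⟨m, A, hA, h1, h2⟩ := (mem_lattice_iff' x).1 hx
  choose k hk using h1
  obtain ⟨w, hw⟩ := h2
  obtain ⟨a, ha⟩ := four_dvd_card hA
  have hx : ∀ i, x i = m + 2 * chi A i + 4 * k i := fun i => by linarith [hk i]
  have hs : ∑ i, x i = 24 * m + 2 * A.card + 4 * ∑ i, k i := by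
    rw [Finset.sum_congr rfl fun i _ => hx i, Finset.sum_add_distrib, Finset.sum_add_distrib, sum_const,
      ← Finset.mul_sum, ← Finset.mul_sum, sum_chi]
  exact ⟨m, A, k, w, a, hA, hx, by linarith, ha, by linarith⟩

theorem eight_dvd_dot {x y : GolayPt → ℤ} (hx : x ∈ leechLattice) (hy : y ∈ leechLattice) :
    (8 : ℤ) ∣ dotInt x y := by
  obtain ⟨m, A, k, w, a, hA, h1, h2, h3, h4⟩ := exists_rep hx
  obtain ⟨n, B, l, w', b, hB, h1', h2', h3', h4'⟩ := exists_rep hy
  have hAB : (2 : ℤ) ∣ (A ∩ B).card := by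
    have := even_inter hA hB
    omega
  obtain ⟨c, hc⟩ := hAB
  have e : ∀ i, x i * y i = m * y i + 2 * (n * chi A i + 2 * (chi A i * chi B i) + 4 * (chi A i * l i)) +
      4 * (n * k i + 2 * (k i * chi B i + 2 * (k i * l i))) := by
    intro i
    rw [h1 i, h1' i]; ring
  unfold dotInt
  rw [Finset.sum_congr rfl fun i _ => e i]
  simp only [Finset.sum_add_distrib, ← Finset.mul_sum]
  rw [h2', sum_chi, h3, sum_chi_mul, hc, h4]
  exact ⟨m * w' + a * n + c + ∑ i, chi A i * l i + ∑ i, k i * chi B i + 2 * ∑ i, k i * l i - 2 * m * n - n * a + n * w, by ring⟩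

theorem sixteen_dvd_norm {x : GolayPt → ℤ} (hx : x ∈ leechLattice) : (16 : ℤ) ∣ sqNorm x := by
  obtain ⟨m, A, k, w, a, hA, h1, h2, h3, h4⟩ := exists_rep hx
  have e : ∀ i, x i ^ 2 = m ^ 2 + (4 + 4 * m) * chi A i + 16 * (k i ^ 2 + chi A i * k i) + 8 * m * k i := by
    intro i
    rw [h1 i]
    have : chi A i * chi A i = chi A i := by
      rcases chi_cases A i with ⟨_, h6⟩ | ⟨_, h6⟩ <;> rw [h6] <;> norm_num
    linear_combination 4 * this
  unfold sqNorm
  rw [Finset.sum_congr rfl fun i _ => e i]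
  simp only [Finset.sum_add_distrib, ← Finset.mul_sum]
  rw [sum_const, sum_chi, h3, h4]
  exact ⟨-m ^ 2 + a + m * w + ∑ i, k i ^ 2 + ∑ i, chi A i * k i, by ring⟩

end Cfsg.Agent.Lib.LeechGen
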