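import Cfsg.Agent.Lib.LeechOut

/-!
The monomial group is a maximal subgroup of `Co0`.
-/

set_option autoImplicit false

namespace Cfsg.Agent.Lib.LeechSyl

open Cfsg Cfsg.Agent.Lib.Golay Cfsg.Agent.Lib.LeechMin Cfsg.Agent.Lib.GolayCoset Cfsg.Agent.Lib.LeechXi
  Cfsg.Agent.Lib.LeechTrans Cfsg.Agent.Lib.LeechCo2 Cfsg.Agent.Lib.LeechFrame Cfsg.Agent.Lib.LeechCount
  Cfsg.Agent.Lib.LeechOrder Cfsg.Agent.Lib.LeechMod Cfsg.Agent.Lib.LeechQuot Cfsg.Agent.Lib.LeechChain
open Subgroup
open scoped Pointwise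

/-! ### code words meeting a code word in a code word -/

open Classical in
noncomputable def capF (B : Finset GolayPt) : Finset (Finset GolayPt) := codeF.filter fun C => C ∩ B ∈ Sup

open Classical in
theorem mem_capF {B C : Finset GolayPt} : C ∈ capF B ↔ C ∈ Sup ∧ C ∩ B ∈ Sup := by
  unfold capF
  rw [Finset.mem_filter, mem_codeF]

theorem cap_m0 : cntLt 4096 (fun n => isCode (Nat.land (enc n) 13062145)) = 64 := by decide +kernel

theorem card_cap_m0 : (capF (mset 13062145)).card ≤ 64 := by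
  have h1 : capF (mset 13062145) ⊆
      ((Finset.range 4096).filter fun n => isCode (Nat.land (enc n) 13062145) = true).image fun n => mset (enc n) := by
    intro C hC
    rw [mem_capF] at hC
    obtain ⟨n, hn, rfl⟩ := mem_supports_iff.1 hC.1
    have hland : mset (Nat.land (enc n) 13062145) = mset (enc n) ∩ mset 13062145 := mset_and _ _
    rw [← hland] at hC
    rw [Finset.mem_image]
    refine ⟨n, ?_, rfl⟩
    rw [Finset.mem_filter, Finset.mem_range]
    refine ⟨hn, (mset_mem_supports_iff ?_).1 hC.2⟩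
    exact lt_of_le_of_lt Nat.and_le_right (by norm_num)
  calc (capF (mset 13062145)).card ≤ _ := Finset.card_le_card h1
  _ ≤ _ := Finset.card_image_le
  _ = 64 := by rw [← cntLt_eq, cap_m0]

theorem card_capF_smul {σ : Equiv.Perm GolayPt} (hσ : σ ∈ M24) (B : Finset GolayPt) :
    (capF B).card ≤ (capF (σ • B)).card := by
  apply Finset.card_le_card_of_injOn (fun C => σ • C)
  · intro C hC
    rw [Finset.mem_coe, mem_capF] at hC ⊢
    refine ⟨smul_mem_Sup hσ hC.1, ?_⟩
    rw [← Finset.smul_finset_inter]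
    exact smul_mem_Sup hσ hC.2
  · intro C _ C' _ h
    exact MulAction.injective σ h

theorem card_cap8 {B : Finset GolayPt} (hB : B ∈ octads) : (capF B).card ≤ 64 := by
  obtain ⟨σ, hσ, h⟩ := octad_transitive hB oct_octad
  exact le_trans (card_capF_smul hσ B) (by rw [h]; exact card_cap_m0)

theorem inter_compl_mem {B C : Finset GolayPt} (hC : C ∈ Sup) (h : C ∩ B ∈ Sup) : C ∩ Bᶜ ∈ Sup := by
  have h1 : C ∩ Bᶜ = symmDiff C (C ∩ B) := by
    ext x
    simp only [Finset.mem_inter, Finset.mem_compl, Finset.mem_symmDiff]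
    tauto
  rw [h1]
  exact symmDiff_mem_supports hC h

theorem card_compl_pt (B : Finset GolayPt) : Bᶜ.card = 24 - B.card := by rw [Finset.card_compl, card_pt]

theorem cap12_cases {B C : Finset GolayPt} (hB : B ∈ Sup) (h12 : B.card = 12) (h : C ∩ B ∈ Sup) : C ∩ B = ∅ ∨ C ∩ B = B := by
  have h1 : symmDiff B (C ∩ B) ∈ Sup := symmDiff_mem_supports hB h
  have h2 : symmDiff B (C ∩ B) = B \ (C ∩ B) := by
    ext x
    simp only [Finset.mem_symmDiff, Finset.mem_inter, Finset.mem_sdiff]
    tauto
  rw [h2] at h1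
  have h3 : (B \ (C ∩ B)).card = B.card - (C ∩ B).card := Finset.card_sdiff_of_subset Finset.inter_subset_right
  have h4 : (C ∩ B).card ≤ B.card := Finset.card_le_card Finset.inter_subset_right
  rcases card_cases h with h5 | h5 | h5 | h5 | h5
  · left; exact Finset.card_eq_zero.1 h5
  · exfalso
    rcases card_cases h1 with h6 | h6 | h6 | h6 | h6 <;> omega
  · right; exact Finset.eq_of_subset_of_card_le Finset.inter_subset_right (by omega)
  · omega
  · omega

theorem card_cap12 {B : Finset GolayPt} (hB : B ∈ Sup) (h12 : B.card = 12) : (capF B).card ≤ 64 := by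
  have h1 : capF B ⊆ {∅, B, Bᶜ, Finset.univ} := by
    intro C hC
    rw [mem_capF] at hC
    have h2 := cap12_cases hB h12 hC.2
    have h3 := cap12_cases (compl_mem_supports hB) (by rw [card_compl_pt, h12]) (inter_compl_mem hC.1 hC.2)
    simp only [Finset.mem_insert, Finset.mem_singleton]
    have h4 : C = (C ∩ B) ∪ (C ∩ Bᶜ) := by
      ext x
      simp only [Finset.mem_union, Finset.mem_inter, Finset.mem_compl]
      tauto
    rcases h2 with h2 | h2 <;> rcases h3 with h3 | h3 <;> rw [h2, h3] at h4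
    · left; rw [h4, Finset.union_empty]
    · right; right; left; rw [h4, Finset.empty_union]
    · right; left; rw [h4, Finset.union_empty]
    · right; right; right; rw [h4, Finset.union_compl]
  exact le_trans (Finset.card_le_card h1) (le_trans Finset.card_le_four (by norm_num))

theorem card_capF {B : Finset GolayPt} (hB : B ∈ Sup) (h0 : B.card ≠ 0) (h24 : B.card ≠ 24) : (capF B).card ≤ 64 := by
  rcases card_cases hB with h | h | h | h | h
  · exact absurd h h0
  · exact card_cap8 ⟨hB, h⟩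
  · exact card_cap12 hB h
  · have h1 : capF B ⊆ capF Bᶜ := by
      intro C hC
      rw [mem_capF] at hC ⊢
      exact ⟨hC.1, inter_compl_mem hC.1 hC.2⟩
    exact le_trans (Finset.card_le_card h1) (card_cap8 ⟨compl_mem_supports hB, by rw [card_compl_pt, h]⟩)
  · exact absurd h h24

/-! ### the group of sign changes -/

def E12 : Subgroup Co0 where
  carrier := {g | ∃ c ∈ Sup, ∀ v : leechLattice, ((g • v : leechLattice) : GolayPt → ℤ) = signedPerm 1 c v}
  one_mem' := ⟨∅, GolayCoset.empty_mem, fun v => by rw [one_smul, signedPerm_one_empty]⟩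
  mul_mem' := by
    rintro g h ⟨c, hc, h1⟩ ⟨d, hd, h2⟩
    refine ⟨symmDiff c ((1 : Equiv.Perm GolayPt) • d), symmDiff_mem_supports hc (smul_mem_Sup M24.one_mem hd), fun v => ?_⟩
    rw [mul_smul, h1, h2, signedPerm_signedPerm, one_mul]
  inv_mem' := by
    rintro g ⟨c, hc, h1⟩
    refine ⟨(1 : Equiv.Perm GolayPt)⁻¹ • c, smul_mem_Sup (M24.inv_mem M24.one_mem) hc, fun v => ?_⟩
    have h2 := h1 (g⁻¹ • v)
    rw [smul_inv_smul] at h2
    rw [h2]
    have h3 := signedPerm_signedPerm (1 : Equiv.Perm GolayPt)⁻¹ 1 ((1 : Equiv.Perm GolayPt)⁻¹ • c) c ((g⁻¹ • v : leechLattice) : GolayPt → ℤ)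
    rw [inv_one] at h3 ⊢
    rw [h3, one_mul, one_smul, symmDiff_self]
    exact (signedPerm_one_empty _).symm

theorem signedPerm_one (c : Finset GolayPt) (x : GolayPt → ℤ) (i : GolayPt) :
    signedPerm 1 c x i = if i ∈ c then -x i else x i := rfl

/-- sign change -/
def eps (c : Finset GolayPt) (hc : c ∈ Sup) : Co0 := ⟨mono 1 M24.one_mem c hc, mono_mem _ _ _ _⟩

theorem eps_smul (c : Finset GolayPt) (hc : c ∈ Sup) (v : leechLattice) :
    ((eps c hc • v : leechLattice) : GolayPt → ℤ) = signedPerm 1 c v := rfl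

theorem eps_apply (c : Finset GolayPt) (hc : c ∈ Sup) (v : leechLattice) (i : GolayPt) :
    ((eps c hc • v : leechLattice) : GolayPt → ℤ) i = if i ∈ c then -(v : GolayPt → ℤ) i else (v : GolayPt → ℤ) i := rfl

theorem eps_mem (c : Finset GolayPt) (hc : c ∈ Sup) : eps c hc ∈ E12 := ⟨c, hc, fun v => rfl⟩

theorem eps_ext {g : Co0} {c : Finset GolayPt} (hc : c ∈ Sup)
    (h : ∀ v : leechLattice, ((g • v : leechLattice) : GolayPt → ℤ) = signedPerm 1 c v) : g = eps c hc := by
  apply ext_smul
  intro v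
  apply Subtype.ext
  rw [h]; rfl

theorem sign_inj {c d : Finset GolayPt} (h : signedPerm 1 c (U none : GolayPt → ℤ) = signedPerm 1 d (U none : GolayPt → ℤ)) : c = d := by
  ext i
  have h1 := congrFun h i
  rw [signedPerm_one, signedPerm_one] at h1
  have h2 : (U none : GolayPt → ℤ) i ≠ 0 := by
    rcases i with _ | j
    · rw [U_none]; norm_num
    · rw [U_some]; norm_num
  by_cases hc : i ∈ c <;> by_cases hd : i ∈ d
  · simp [hc, hd]
  · rw [if_pos hc, if_neg hd] at h1; omega
  · rw [if_neg hc, if_pos hd] at h1; omega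
  · simp [hc, hd]

theorem card_E12 : Nat.card E12 = 4096 := by
  have hc : Nat.card codeF = codeF.card := by rw [Nat.card_eq_fintype_card, Fintype.card_coe]
  rw [← card_codeF, ← hc]
  symm
  apply Nat.card_congr
  refine Equiv.ofBijective (fun C : codeF => (⟨eps C.1 (mem_codeF.1 C.2), eps_mem _ _⟩ : E12)) ⟨?_, ?_⟩
  · intro C D h
    apply Subtype.ext
    have h1 : eps C.1 (mem_codeF.1 C.2) = eps D.1 (mem_codeF.1 D.2) := congrArg Subtype.val h
    apply sign_inj
    rw [← eps_smul _ (mem_codeF.1 C.2), ← eps_smul _ (mem_codeF.1 D.2), h1]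
  · rintro ⟨g, c, hc, h⟩
    exact ⟨⟨c, mem_codeF.2 hc⟩, Subtype.ext (eps_ext hc h).symm⟩

theorem E12_le_N : E12 ≤ N := by
  rintro g ⟨c, hc, h⟩
  exact ⟨1, M24.one_mem, c, hc, h⟩

/-! ### stabilisers of crosses -/

/-- restriction of a vector, when the sign change fixes it modulo 2 -/
theorem restrict_mem {c : Finset GolayPt} (hc : c ∈ Sup) {v : leechLattice} (h : q2 (eps c hc • v) = q2 v) :
    ∃ z : leechLattice, ∀ i, (z : GolayPt → ℤ) i = if i ∈ c then (v : GolayPt → ℤ) i else 0 := by
  have h1 := q2_eq_iff.1 h.symm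
  obtain ⟨z, hz⟩ := h1
  refine ⟨z, fun i => ?_⟩
  have h2 := congrFun (congrArg Subtype.val hz) i
  rw [AddSubgroup.coe_sub, AddSubgroup.coe_add, Pi.sub_apply, Pi.add_apply, eps_apply] at h2
  split_ifs at h2 ⊢ <;> omega

/-- all coordinates divisible by four -/
def four (v : leechLattice) : Prop := ∀ i, (4 : ℤ) ∣ (v : GolayPt → ℤ) i

theorem card_filter_sq {v : leechLattice} (hv : sqNorm (v : GolayPt → ℤ) = 64) (h : ∀ i, ¬ (4 : ℤ) ∣ (v : GolayPt → ℤ) i)
    (h2 : ∀ i, (2 : ℤ) ∣ (v : GolayPt → ℤ) i) : False := by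
  have h3 : ∀ i, 4 ≤ (v : GolayPt → ℤ) i ^ 2 := by
    intro i
    obtain ⟨k, hk⟩ := h2 i
    have hk0 : k ≠ 0 := by
      rintro rfl
      exact h i (by rw [hk]; norm_num)
    rw [hk]
    have : 1 ≤ k ^ 2 := by
      have : 0 < k ^ 2 := by positivity
      omega
    nlinarith
  have h4 : ∑ _i : GolayPt, (4 : ℤ) ≤ sqNorm (v : GolayPt → ℤ) := Finset.sum_le_sum fun i _ => h3 i
  rw [Finset.sum_const, Finset.card_univ, card_pt, hv] at h4
  norm_num at h4

theorem stab_code {v : leechLattice} (hv : sqNorm (v : GolayPt → ℤ) = 64) (h4 : ¬ four v) :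
    ∃ F : Finset (Finset GolayPt), F.card ≤ 64 ∧ ∀ c (hc : c ∈ Sup), q2 (eps c hc • v) = q2 v → c ∈ F := by
  obtain ⟨m, A, hA, h1, -⟩ := (mem_lattice_iff' _).1 v.2
  rcases Int.even_or_odd m with hm | hm
  · -- even coordinates
    obtain ⟨B, hB, hB1⟩ : ∃ B ∈ Sup, ∀ i, (4 : ℤ) ∣ (v : GolayPt → ℤ) i - 2 * chi B i := by
      obtain ⟨k, hk⟩ := hm
      rcases Int.even_or_odd k with ⟨l, hl⟩ | ⟨l, hl⟩
      · refine ⟨A, hA, fun i => ?_⟩
        have := h1 i
        omega
      · refine ⟨Aᶜ, compl_mem_supports hA, fun i => ?_⟩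
        have := h1 i
        rcases chi_cases A i with ⟨h3, h6⟩ | ⟨h3, h6⟩ <;> rcases chi_cases Aᶜ i with ⟨h5, h7⟩ | ⟨h5, h7⟩ <;>
          rw [h6] at this <;> rw [h7]
        · rw [Finset.mem_compl] at h5; exact absurd h3 h5
        · omega
        · omega
        · rw [Finset.mem_compl] at h5; exact absurd h3 h5
    refine ⟨capF B, ?_, ?_⟩
    · apply card_capF hB
      · intro h0
        rw [Finset.card_eq_zero] at h0
        apply h4
        intro i
        have := hB1 i
        rw [h0] at this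
        simpa [chi] using this
      · intro h24
        have hu : B = Finset.univ := by
          apply Finset.eq_univ_of_card
          rw [h24, card_pt]
        apply card_filter_sq hv
        · intro i h
          have := hB1 i
          rw [hu] at this
          have hc : chi (Finset.univ : Finset GolayPt) i = 1 := by simp [chi]
          rw [hc] at this
          omega
        · intro i
          have := hB1 i
          rw [hu] at this
          have hc : chi (Finset.univ : Finset GolayPt) i = 1 := by simp [chi]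
          rw [hc] at this
          omega
    · intro c hc h
      rw [mem_capF]
      refine ⟨hc, ?_⟩
      obtain ⟨z, hz⟩ := restrict_mem hc h
      apply mem_Sup_of z.2 (e := 0)
      intro i
      rw [hz i]
      have h3 := hB1 i
      by_cases hic : i ∈ c
      · rw [if_pos hic]
        by_cases hiB : i ∈ B
        · have e1 : chi (c ∩ B) i = 1 := by simp [chi, hic, hiB]
          have e2 : chi B i = 1 := by simp [chi, hiB]
          rw [e1]; rw [e2] at h3; omega
        · have e1 : chi (c ∩ B) i = 0 := by simp [chi, hiB]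
          have e2 : chi B i = 0 := by simp [chi, hiB]
          rw [e1]; rw [e2] at h3; omega
      · rw [if_neg hic]
        have e1 : chi (c ∩ B) i = 0 := by simp [chi, hic]
        rw [e1]; norm_num
  · -- odd coordinates
    have hodd : ∀ i, ¬ (2 : ℤ) ∣ (v : GolayPt → ℤ) i := by
      intro i h
      have := h1 i
      obtain ⟨k, hk⟩ := hm
      omega
    refine ⟨{∅, Finset.univ}, le_trans Finset.card_le_two (by norm_num), ?_⟩
    intro c hc h
    obtain ⟨z, hz⟩ := restrict_mem hc h
    obtain ⟨m', A', hA', h1', -⟩ := (mem_lattice_iff' _).1 z.2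
    simp only [Finset.mem_insert, Finset.mem_singleton]
    by_contra hcon
    push Not at hcon
    obtain ⟨i, hi⟩ : c.Nonempty := by
      first | exact hcon.1 | exact Finset.nonempty_iff_ne_empty.2 hcon.1
    obtain ⟨j, hj⟩ : ∃ j, j ∉ c := by
      by_contra hall
      push Not at hall
      exact hcon.2 (Finset.eq_univ_of_forall hall)
    have e1 := h1' i
    have e2 := h1' j
    rw [hz, if_pos hi] at e1
    rw [hz, if_neg hj] at e2
    have := hodd i
    omega

theorem actQ_smul (g : Co0) (x : Q2) : (actQ.toSMul.smul g x : Q2) = qs g x := rfl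

theorem card_stab_le {v : leechLattice} (hv : sqNorm (v : GolayPt → ℤ) = 64) (h4 : ¬ four v) :
    letI := actQ
    Nat.card (MulAction.stabilizer E12 (q2 v)) ≤ 64 := by
  letI := actQ
  obtain ⟨F, hF, h⟩ := stab_code hv h4
  have hcode : ∀ g : MulAction.stabilizer E12 (q2 v), ∃ c ∈ F, ∀ v : leechLattice,
      ((((g : E12) : Co0) • v : leechLattice) : GolayPt → ℤ) = signedPerm 1 c v := by
    rintro ⟨⟨g, c, hc, h1⟩, hg⟩
    refine ⟨c, ?_, h1⟩
    apply h c hc
    have h2 : qs g (q2 v) = q2 v := hg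
    rw [qs_q2] at h2
    rw [← eps_ext hc h1]; exact h2
  choose f hf1 hf2 using hcode
  calc Nat.card (MulAction.stabilizer E12 (q2 v)) ≤ Nat.card F := by
        apply Nat.card_le_card_of_injective (fun g => (⟨f g, hf1 g⟩ : F))
        intro g g' hgg
        have h1 : f g = f g' := congrArg Subtype.val hgg
        apply Subtype.ext
        apply Subtype.ext
        apply ext_smul
        intro v
        apply Subtype.ext
        rw [hf2, hf2, h1]
  _ = F.card := by rw [Nat.card_eq_fintype_card, Fintype.card_coe]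
  _ ≤ 64 := hF

/-- orbits of length divisible by `d` -/
theorem dvd_ncard {G α : Type*} [Group G] [MulAction G α] (A : Set α) (hA : A.Finite) (d : ℕ)
    (hinv : ∀ g : G, ∀ a ∈ A, g • a ∈ A) (h : ∀ a ∈ A, d ∣ (MulAction.orbit G a).ncard) : d ∣ A.ncard := by
  classical
  obtain ⟨S, rfl⟩ := hA.exists_finset_coe
  rw [Set.ncard_coe_finset, Finset.card_eq_sum_card_image (fun a => MulAction.orbit G a) S]
  apply Finset.dvd_sum
  intro b hb
  rw [Finset.mem_image] at hb
  obtain ⟨a, ha, rfl⟩ := hb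
  have h1 : ((S.filter fun x => MulAction.orbit G x = MulAction.orbit G a : Finset α) : Set α) = MulAction.orbit G a := by
    ext x
    rw [Finset.coe_filter, Set.mem_setOf_eq]
    constructor
    · rintro ⟨-, h2⟩
      rw [← h2]; exact MulAction.mem_orbit_self x
    · rintro hx
      refine ⟨?_, MulAction.orbit_eq_iff.2 hx⟩
      obtain ⟨g, rfl⟩ := hx
      exact hinv g a ha
  rw [← Set.ncard_coe_finset, h1]
  exact h a ha

theorem orbit_dvd {v : leechLattice} (hv : sqNorm (v : GolayPt → ℤ) = 64) (h4 : ¬ four v) :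
    letI := actQ
    64 ∣ (MulAction.orbit E12 (q2 v)).ncard := by
  letI := actQ
  have h1 := Subgroup.card_mul_index (MulAction.stabilizer E12 (q2 v))
  rw [MulAction.index_stabilizer, card_E12] at h1
  have h2 := card_stab_le hv h4
  have h3 : Nat.card (MulAction.stabilizer E12 (q2 v)) ∣ 2 ^ 12 := ⟨_, h1.symm⟩
  obtain ⟨k, hk, hk2⟩ := (Nat.dvd_prime_pow Nat.prime_two).1 h3
  rw [hk2] at h1 h2
  have hk6 : k ≤ 6 := by
    by_contra hcon
    have : 2 ^ 7 ≤ 2 ^ k := Nat.pow_le_pow_right (by norm_num) (by omega)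
    omega
  have h4 : 2 ^ k * (MulAction.orbit E12 (q2 v)).ncard = 2 ^ k * (2 ^ (6 - k) * 64) := by
    rw [h1, ← mul_assoc, ← pow_add, show k + (6 - k) = 6 by omega]; norm_num
  exact ⟨2 ^ (6 - k), by rw [mul_comm]; exact Nat.eq_of_mul_eq_mul_left (by positivity) h4⟩

end Cfsg.Agent.Lib.LeechSyl
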