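import Cfsg.Agent.Lib.LeechAut
import Cfsg.Agent.Lib.H58J2Aut

/-!
Outer automorphism groups of the Conway groups `Co3`, `Co2`: common part and `Co3`.
-/

set_option autoImplicit false

namespace Cfsg.Agent.Lib.LeechSyl

open Cfsg Cfsg.Agent.Lib.Golay Cfsg.Agent.Lib.LeechMin Cfsg.Agent.Lib.GolayCoset Cfsg.Agent.Lib.LeechXi
  Cfsg.Agent.Lib.LeechTrans Cfsg.Agent.Lib.LeechCo2 Cfsg.Agent.Lib.LeechFrame Cfsg.Agent.Lib.LeechCount
  Cfsg.Agent.Lib.LeechOrder Cfsg.Agent.Lib.LeechMod Cfsg.Agent.Lib.LeechQuot Cfsg.Agent.Lib.LeechChain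
open Subgroup
open scoped Pointwise

/-- `M23` inside a stabiliser -/
noncomputable def fS (v : leechLattice) (h : ∀ j, (v : GolayPt → ℤ) (some j) = (v : GolayPt → ℤ) (some 0)) :
    T23 →* MulAction.stabilizer Co0 v :=
  (peH.comp (St none).subtype).codRestrict _ (fun y => M23_le_stab v h ⟨(y : M24), y.2, rfl⟩)

theorem coe_fS (v : leechLattice) (h : ∀ j, (v : GolayPt → ℤ) (some j) = (v : GolayPt → ℤ) (some 0)) (y : T23) :
    ((fS v h y : MulAction.stabilizer Co0 v) : Co0) = peH (y : M24) := rfl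

theorem fS_inj (v : leechLattice) (h : ∀ j, (v : GolayPt → ℤ) (some j) = (v : GolayPt → ℤ) (some 0)) :
    Function.Injective (fS v h) := by
  intro a b hab
  apply Subtype.ext
  exact peH_inj (congrArg Subtype.val hab)

section
variable {v : leechLattice} {h : ∀ j, (v : GolayPt → ℤ) (some j) = (v : GolayPt → ℤ) (some 0)}

theorem coe_norm11 {n : MulAction.stabilizer Co0 v}
    (hn : n ∈ normalizer (zpowers (fS v h sq) : Set (MulAction.stabilizer Co0 v))) :
    (n : Co0) ∈ normalizer (P11 : Set Co0) := by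
  apply mem_normalizer_of
  obtain ⟨i, hi⟩ := Subgroup.mem_zpowers_iff.1 ((Subgroup.mem_normalizer_iff.1 hn _).1 (mem_zpowers (fS v h sq)))
  exact ⟨i, congrArg Subtype.val hi⟩

theorem of_coe_norm11 {n : MulAction.stabilizer Co0 v} (hn : (n : Co0) ∈ normalizer (P11 : Set Co0)) :
    n ∈ normalizer (zpowers (fS v h sq) : Set (MulAction.stabilizer Co0 v)) := by
  apply mem_normalizer_of
  obtain ⟨i, hi⟩ := Subgroup.mem_zpowers_iff.1 ((Subgroup.mem_normalizer_iff.1 hn _).1 (mem_zpowers (peH rh)))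
  exact ⟨i, Subtype.ext hi⟩

theorem coe_norm23 {n : MulAction.stabilizer Co0 v}
    (hn : n ∈ normalizer (zpowers (fS v h sx) : Set (MulAction.stabilizer Co0 v))) :
    (n : Co0) ∈ normalizer (P23 : Set Co0) := by
  apply mem_normalizer_of
  obtain ⟨i, hi⟩ := Subgroup.mem_zpowers_iff.1 ((Subgroup.mem_normalizer_iff.1 hn _).1 (mem_zpowers (fS v h sx)))
  exact ⟨i, congrArg Subtype.val hi⟩

theorem mem_BB_iff {n : MulAction.stabilizer Co0 v}
    (hn : n ∈ normalizer (zpowers (fS v h sq) : Set (MulAction.stabilizer Co0 v))) :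
    n ∈ BB (fS v h) ↔ (n : Co0) ∈ M22 := by
  constructor
  · rintro ⟨y, hy, rfl⟩
    exact ⟨(y : M24), norm_sq_b0 hy, rfl⟩
  · rintro ⟨σ, hσ, h1⟩
    refine ⟨⟨σ, hσ.1⟩, ?_, Subtype.ext h1⟩
    apply mem_normalizer_of
    obtain ⟨i, hi⟩ := Subgroup.mem_zpowers_iff.1 ((Subgroup.mem_normalizer_iff.1 hn _).1 (mem_zpowers (fS v h sq)))
    refine ⟨i, ?_⟩
    apply fS_inj v h
    show fS v h (sq ^ i) = _
    rw [map_zpow, hi, map_mul, map_mul, map_inv]
    have h2 : n = fS v h ⟨σ, hσ.1⟩ := Subtype.ext h1.symm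
    rw [h2]

end

/-- the normaliser, from one element -/
theorem relIndex_mod {p : ℕ} [hp : Fact p.Prime] {P K H : Subgroup Co0} (hP : Nat.card P = p)
    (hv : ¬ p ^ 2 ∣ Nat.card H) (hPK : P ≤ K) (hKH : K ≤ H)
    (hN : ∀ g ∈ H, g ∈ normalizer (P : Set Co0) → g ∈ K) : K.relIndex H % p = 1 := by
  have hPH : P ≤ H := hPK.trans hKH
  apply AutSyl.index_modEq (G := H) (P := P.subgroupOf H) (K := K.subgroupOf H)
    (by rw [Nat.card_congr (Subgroup.subgroupOfEquivOfLe hPH).toEquiv, hP]) hv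
  intro x hx
  apply hN x x.2
  rw [← Subgroup.subgroupOf_normalizer_eq hPH] at hx
  exact hx

theorem card_relIndex {K H : Subgroup Co0} (h : K ≤ H) : Nat.card K * K.relIndex H = Nat.card H := by
  have h1 := Subgroup.card_mul_index (K.subgroupOf H)
  rwa [Nat.card_congr (Subgroup.subgroupOfEquivOfLe h).toEquiv] at h1

theorem eq_of_relIndex {K H : Subgroup Co0} (h : K ≤ H) (h1 : K.relIndex H = 1) : K = H :=
  le_antisymm h (Subgroup.relIndex_eq_one.1 h1)

/-- orbit counting -/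
theorem card_orbit (K : Subgroup Co0) (w : leechLattice) :
    Nat.card K = {y | ∃ g ∈ K, g • w = y}.ncard * Nat.card ↥(K ⊓ MulAction.stabilizer Co0 w) := by
  have h1 := card_eq_mul_inf_stabilizer K w {y | ∃ g ∈ K, g • w = y} (fun g hg => ⟨g, hg, rfl⟩) (fun x hx => hx)
  exact h1

/-- the vectors fixed by `M22` -/
theorem fixM22 {w : leechLattice} (h : ∀ g ∈ M22, g • w = w) : ∀ j : ZMod 23, j ≠ 0 →
    (w : GolayPt → ℤ) (some j) = (w : GolayPt → ℤ) (some 1) := by
  intro j hj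
  obtain ⟨σ, hσ, h1, h2, h3⟩ := exists_three (a := none) (b := b0) (c := some 1) (a' := none) (b' := b0) (c' := some j)
    hab (Option.some_ne_none _).symm (by decide) hab (Option.some_ne_none _).symm
    (fun h => hj (Option.some.inj h).symm)
  have h4 := h (peH ⟨σ, hσ⟩) ⟨⟨σ, hσ⟩, ⟨h1, h2⟩, rfl⟩
  have h5 := congrFun (congrArg Subtype.val h4) (some j)
  rw [peH_smul] at h5
  beta_reduce at h5
  have h6 : ((⟨σ, hσ⟩ : M24) : Equiv.Perm GolayPt).symm (some j) = some 1 := by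
    rw [Equiv.symm_apply_eq]; exact h3.symm
  rw [h6] at h5
  exact h5.symm

theorem fixM22_11 {w : leechLattice} (h : ∀ g ∈ M22, g • w = w) : peH rh • w = w :=
  h _ (P11_le (mem_zpowers _))

/-- a vector fixed by the element of order 11 is determined by four coordinates -/
theorem ext11 {v w : leechLattice} (hv : peH rh • v = v) (hw : peH rh • w = w)
    (h0 : (v : GolayPt → ℤ) none = (w : GolayPt → ℤ) none)
    (h1 : (v : GolayPt → ℤ) (some 0) = (w : GolayPt → ℤ) (some 0))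
    (h2 : (v : GolayPt → ℤ) (some 1) = (w : GolayPt → ℤ) (some 1))
    (h3 : (v : GolayPt → ℤ) (some (-1)) = (w : GolayPt → ℤ) (some (-1))) : v = w := by
  apply Subtype.ext
  funext i
  rcases i with _ | j
  · exact h0
  · rw [const_of_fix11 hv j, const_of_fix11 hw j, h1, h2, h3]

/-- conjugating a fixed vector to another one inside the normaliser -/
theorem swap11 {H : Subgroup Co0} {w w' : leechLattice} (hP : P11 ≤ H) (hw : peH rh • w = w) (hw' : peH rh • w' = w')
    {c : Co0} (hc : c ∈ H) (hcw : c • w = w') :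
    ∃ k ∈ H, k • w = w' ∧ k ∈ normalizer (P11 : Set Co0) := by
  haveI : Fact (Nat.Prime 11) := ⟨by norm_num⟩
  set L : Subgroup Co0 := H ⊓ MulAction.stabilizer Co0 w with hL
  have hPw : ∀ {x : leechLattice}, peH rh • x = x → P11 ≤ MulAction.stabilizer Co0 x := by
    intro x hx
    unfold P11
    rw [Subgroup.zpowers_le]; exact hx
  have hPL : P11 ≤ L := le_inf hP (hPw hw)
  have hmem : c⁻¹ * peH rh * c ∈ L := by
    refine ⟨H.mul_mem (H.mul_mem (H.inv_mem hc) (hP (mem_zpowers _))) hc, ?_⟩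
    show (c⁻¹ * peH rh * c) • w = w
    rw [mul_smul, mul_smul, hcw, hw', inv_smul_eq_iff, hcw]
  have hord : orderOf (peH rh) = 11 := by rw [orderOf_injective peH peH_inj, orderOf_rh]
  have hord' : orderOf (c⁻¹ * peH rh * c) = 11 := by
    have : c⁻¹ * peH rh * c = MulAut.conj c⁻¹ (peH rh) := by rw [MulAut.conj_apply, inv_inv]
    rw [this, MulEquiv.orderOf_eq, hord]
  obtain ⟨g, hg⟩ := AutSyl.exists_conj (G := L) (p := 11) (P := zpowers ⟨c⁻¹ * peH rh * c, hmem⟩)
    (P' := zpowers ⟨peH rh, hPL (mem_zpowers _)⟩)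
    (by rw [Nat.card_zpowers, ← Subgroup.orderOf_coe]; exact hord')
    (by rw [Nat.card_zpowers, ← Subgroup.orderOf_coe]; exact hord)
    (fun h => by
      have h1 := h.trans (Subgroup.card_subgroup_dvd_card L)
      rw [natCard_Co0] at h1
      revert h1; norm_num)
  obtain ⟨i, hi⟩ := Subgroup.mem_zpowers_iff.1 ((hg _).1 (mem_zpowers _))
  have hi' : (peH rh) ^ i = (g : Co0) * (c⁻¹ * peH rh * c) * (g : Co0)⁻¹ := congrArg Subtype.val hi
  refine ⟨c * (g : Co0)⁻¹, H.mul_mem hc (H.inv_mem g.2.1), ?_, ?_⟩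
  · have h1 : (g : Co0)⁻¹ • w = w := by
      rw [inv_smul_eq_iff]; exact (show (g : Co0) • w = w from g.2.2).symm
    rw [mul_smul, h1, hcw]
  · rw [← Subgroup.inv_mem_iff]
    apply mem_normalizer_of
    refine ⟨i, ?_⟩
    show (peH rh) ^ i = _
    rw [hi']; group

theorem norm_sq_bound {a b c d n : ℤ} (h : a ^ 2 + (b ^ 2 + 11 * c ^ 2 + 11 * d ^ 2) = n) (hn : n < 44) :
    (c ≤ 1 ∧ -1 ≤ c) ∧ (d ≤ 1 ∧ -1 ≤ d) ∧ (a ≤ 6 ∧ -6 ≤ a) := by
  refine ⟨⟨?_, ?_⟩, ⟨?_, ?_⟩, ?_, ?_⟩ <;>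
    nlinarith [sq_nonneg a, sq_nonneg b, sq_nonneg c, sq_nonneg d]

theorem arithU {a b c d : ℤ} (h1 : a ^ 2 + (b ^ 2 + 11 * c ^ 2 + 11 * d ^ 2) = 32)
    (h2 : 5 * a + (b + 11 * c + 11 * d) = 24) :
    (a = 4 ∧ b = 4 ∧ c = 0 ∧ d = 0) ∨ (a = 1 ∧ b = -3 ∧ c = 1 ∧ d = 1) := by
  obtain ⟨⟨h3, h4⟩, ⟨h5, h6⟩, h7, h8⟩ := norm_sq_bound h1 (by norm_num)
  have hb : b = 24 - 5 * a - 11 * c - 11 * d := by linarith
  subst hb
  interval_cases c <;> interval_cases d <;> interval_cases a <;> first | (exfalso; revert h1; norm_num; done) | simp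

theorem neg_one_ne : (-1 : ZMod 23) ≠ 0 := by decide

theorem coe_UX (i : GolayPt) : ((U none - X hab : leechLattice) : GolayPt → ℤ) i = if i = b0 then -3 else 1 := by
  rw [AddSubgroup.coe_sub, Pi.sub_apply, U_apply, coe_X]
  revert i
  decide +kernel

theorem rh_UX : peH rh • (U none - X hab) = U none - X hab := by
  apply rh_fix
  intro j hj
  have h1 : (some j : GolayPt) ≠ b0 := fun h => hj (Option.some.inj h)
  rw [coe_UX, coe_UX, if_neg h1, if_neg (by decide)]

theorem sqNorm_UX : sqNorm ((U none - X hab : leechLattice) : GolayPt → ℤ) = 32 := by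
  rw [AddSubgroup.coe_sub, coe_X, coe_U]
  decide +kernel

theorem dot_U_UX : dotInt (U none : GolayPt → ℤ) ((U none - X hab : leechLattice) : GolayPt → ℤ) = 24 := by
  rw [AddSubgroup.coe_sub, coe_X, coe_U]
  decide +kernel

theorem mem552_UX : U none - X hab ∈ cls [(U none, 24)] 32 := mem_cls1.2 ⟨sqNorm_UX, dot_U_UX⟩

theorem X_none : (X hab : GolayPt → ℤ) none = 4 := by rw [coe_X]; rfl
theorem X_b0 : (X hab : GolayPt → ℤ) (some 0) = 4 := by rw [coe_X]; rfl
theorem X_1 : (X hab : GolayPt → ℤ) (some 1) = 0 := by rw [coe_X]; rfl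
theorem X_m1 : (X hab : GolayPt → ℤ) (some (-1)) = 0 := by rw [coe_X]; rfl

theorem fixU24 {v : leechLattice} (h : peH rh • v = v) (hv : v ∈ cls [(U none, 24)] 32) :
    v = X hab ∨ v = U none - X hab := by
  rw [mem_cls1, dotU_const11 h, sqNorm_const11 h] at hv
  rcases arithU hv.1 hv.2 with ⟨h1, h2, h3, h4⟩ | ⟨h1, h2, h3, h4⟩
  · left
    apply ext11 h rh_X
    · rw [h1, X_none]
    · rw [h2, X_b0]
    · rw [h3, X_1]
    · rw [h4, X_m1]
  · right
    apply ext11 h rh_UX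
    · rw [h1, coe_UX]; rfl
    · rw [h2, coe_UX]; rfl
    · rw [h3, coe_UX]; rfl
    · rw [h4, coe_UX]; rfl

/-! ### `Co3` -/

theorem const_U' : ∀ j : ZMod 23, (U none : GolayPt → ℤ) (some j) = (U none : GolayPt → ℤ) (some 0) := by
  intro j; rw [U_some, U_some]

/-- the normaliser of the Sylow 11-subgroup of `Co3` permutes two vectors -/
theorem norm3 {n : Co0} (hU : n • U none = U none) (hn : n ∈ normalizer (P11 : Set Co0)) :
    n • X hab = X hab ∨ n • X hab = U none - X hab := by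
  apply fixU24 (fix_of_norm hn rh_X)
  have := (mem_cls_smul n).1 mem552_X
  simp only [List.map_cons, List.map_nil, hU] at this
  exact this

theorem norm3_M22 {n : Co0} (hU : n • U none = U none) (hn : n ∈ normalizer (P11 : Set Co0)) (hX : n • X hab = X hab) :
    n ∈ M22 := mclH_norm n (mem_fix2.2 ⟨hX, hU⟩) hn

theorem hN2_Co3 : ∀ n ∈ normalizer (zpowers (fS (U none) const_U' sq) : Set (MulAction.stabilizer Co0 (U none))),
    ∀ n' ∈ normalizer (zpowers (fS (U none) const_U' sq) : Set (MulAction.stabilizer Co0 (U none))),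
    n ∉ BB (fS (U none) const_U') → n' ∉ BB (fS (U none) const_U') → n⁻¹ * n' ∈ BB (fS (U none) const_U') := by
  intro n hn n' hn' h h'
  have key : ∀ n ∈ normalizer (zpowers (fS (U none) const_U' sq) : Set (MulAction.stabilizer Co0 (U none))),
      n ∉ BB (fS (U none) const_U') → (n : Co0) • X hab = U none - X hab := by
    intro n hn h
    rcases norm3 n.2 (coe_norm11 hn) with h1 | h1
    · exfalso
      exact h ((mem_BB_iff hn).2 (norm3_M22 n.2 (coe_norm11 hn) h1))
    · exact h1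
  have h3 : n⁻¹ * n' ∈ normalizer (zpowers (fS (U none) const_U' sq) : Set (MulAction.stabilizer Co0 (U none))) :=
    Subgroup.mul_mem _ (Subgroup.inv_mem _ hn) hn'
  rw [mem_BB_iff h3]
  apply norm3_M22 (n⁻¹ * n').2 (coe_norm11 h3)
  show ((n : Co0)⁻¹ * (n' : Co0)) • X hab = X hab
  rw [mul_smul, key n' hn' h', inv_smul_eq_iff, key n hn h]

theorem arith_Co3 {t i : ℕ} (h : t * i = 48600) (h1 : i % 23 = 1) (h2 : i % 11 = 1) : i = 1 ∨ i = 2025 := by
  obtain ⟨k, hk⟩ : ∃ k, i = 253 * k + 1 := ⟨i / 253, by omega⟩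
  have h3 : i ∣ 48600 := ⟨t, by rw [mul_comm]; exact h.symm⟩
  have h4 : i ≤ 48600 := Nat.le_of_dvd (by norm_num) h3
  have h5 : k ≤ 192 := by omega
  subst hk
  have : ∀ k : Fin 193, (253 * (k : ℕ) + 1 ∣ 48600) → (k : ℕ) = 0 ∨ (k : ℕ) = 8 := by decide +kernel
  rcases this ⟨k, by omega⟩ h3 with h6 | h6
  · left; have h6' : k = 0 := h6; rw [h6']
  · right; have h6' : k = 8 := h6; rw [h6']

theorem arith_Co3' {s d e : ℕ} (h1 : s * d = 552) (h2 : d * e = 2025) (h3 : e % 11 = 1) : d = 1 := by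
  have h4 : d ∣ 552 := ⟨s, by rw [mul_comm]; exact h1.symm⟩
  have h5 : d ∣ 2025 := ⟨e, h2.symm⟩
  have h6 : d ∣ Nat.gcd 552 2025 := Nat.dvd_gcd h4 h5
  have h7 : d ∣ 3 := by
    have : Nat.gcd 552 2025 = 3 := by norm_num
    rwa [this] at h6
  have h8 : d ≤ 3 := Nat.le_of_dvd (by norm_num) h7
  interval_cases d <;> omega

theorem card_M23 : Nat.card M23 = 10200960 := by
  rw [← card_T23]
  exact (Nat.card_congr ((St none).equivMapOfInjective peH peH_inj).toEquiv).symm

theorem card_M22' : Nat.card M22 = 443520 := by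
  rw [← card_M2]
  exact (Nat.card_congr ((St none ⊓ St b0).equivMapOfInjective peH peH_inj).toEquiv).symm

theorem M22_le_M23 : M22 ≤ M23 := Subgroup.map_mono inf_le_left

theorem not_sq23 (H : Subgroup Co0) : ¬ 23 ^ 2 ∣ Nat.card H := fun h => by
  have h1 := h.trans (Subgroup.card_subgroup_dvd_card H)
  rw [natCard_Co0] at h1
  revert h1; norm_num

theorem not_sq11 (H : Subgroup Co0) : ¬ 11 ^ 2 ∣ Nat.card H := fun h => by
  have h1 := h.trans (Subgroup.card_subgroup_dvd_card H)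
  rw [natCard_Co0] at h1
  revert h1; norm_num

theorem neg_ne_of_none {v : leechLattice} (h : (v : GolayPt → ℤ) none ≠ 0) : -v ≠ v := by
  intro h1
  have h2 := congrFun (congrArg Subtype.val h1) none
  rw [coe_neg', Pi.neg_apply] at h2
  apply h
  omega

/-- `N(P23)` in a stabiliser -/
theorem norm23_le {v : leechLattice} (h : ∀ j, (v : GolayPt → ℤ) (some j) = (v : GolayPt → ℤ) (some 0))
    (h0 : (v : GolayPt → ℤ) none ≠ 0) {g : Co0} (hg : g • v = v) (hn : g ∈ normalizer (P23 : Set Co0)) : g ∈ M23 := by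
  obtain ⟨σ, hσ, h1 | h1⟩ := normalizer_P23 hn
  · exact ⟨σ, hσ, h1.symm⟩
  · exfalso
    have h2 : peH σ • v = v := M23_le_stab v h ⟨σ, hσ, rfl⟩
    rw [h1, mul_smul, h2, negOne_smul] at hg
    exact neg_ne_of_none h0 hg

theorem gen3 (K : Subgroup Co0) (hK : K ≤ MulAction.stabilizer Co0 (U none)) (hM : M23 ≤ K)
    (hN : ∀ n ∈ MulAction.stabilizer Co0 (U none), n ∈ normalizer (P11 : Set Co0) → n ∈ K) :
    K = MulAction.stabilizer Co0 (U none) := by
  haveI : Fact (Nat.Prime 23) := ⟨by norm_num⟩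
  haveI : Fact (Nat.Prime 11) := ⟨by norm_num⟩
  have h22 : M22 ≤ K := M22_le_M23.trans hM
  have hi1 := relIndex_mod card_P11 (not_sq11 _) (P11_le.trans h22) hK hN
  have hi2 := relIndex_mod card_P23 (not_sq23 _) (P23_le.trans hM) hK
    (fun g hg hn => hM (norm23_le const_U' (by rw [U_none]; norm_num) hg hn))
  have hc := card_relIndex hK
  rw [natCard_stab48 (sqNorm_U none)] at hc
  obtain ⟨t, ht⟩ := Subgroup.card_dvd_of_le hM
  rw [card_M23] at ht
  rw [ht] at hc
  have hti : t * K.relIndex (MulAction.stabilizer Co0 (U none)) = 48600 := by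
    have : 10200960 * (t * K.relIndex (MulAction.stabilizer Co0 (U none))) = 10200960 * 48600 := by
      rw [← mul_assoc, hc]
    exact Nat.eq_of_mul_eq_mul_left (by norm_num) this
  rcases arith_Co3 hti hi2 hi1 with h1 | h1
  · exact eq_of_relIndex hK h1
  exfalso
  rw [h1] at hti
  have ht' : t = 24 := by omega
  rw [ht'] at ht
  -- the stabiliser of `X`
  have hL22 : M22 ≤ K ⊓ MulAction.stabilizer Co0 (X hab) := by
    intro g hg
    exact ⟨h22 hg, (mem_fix2.1 (mclH_M22 hg)).1⟩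
  have hLH : K ⊓ MulAction.stabilizer Co0 (X hab) ≤ fixL [X hab, U none] := by
    intro g hg
    exact mem_fix2.2 ⟨hg.2, hK hg.1⟩
  have he := relIndex_mod card_P11 (not_sq11 _) (P11_le.trans hL22) hLH (fun g hg hn => hL22 (mclH_norm g hg hn))
  have hc2 := card_relIndex hLH
  rw [card_McL] at hc2
  obtain ⟨d, hd⟩ := Subgroup.card_dvd_of_le hL22
  rw [card_M22'] at hd
  have hs := card_orbit K (X hab)
  rw [ht, hd] at hs
  rw [hd] at hc2
  have hd1 : d = 1 := by
    apply arith_Co3' (s := {y | ∃ g ∈ K, g • X hab = y}.ncard) (e := (K ⊓ MulAction.stabilizer Co0 (X hab)).relIndex (fixL [X hab, U none]))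
    · have : 443520 * ({y | ∃ g ∈ K, g • X hab = y}.ncard * d) = 443520 * 552 := by
        rw [← mul_assoc, mul_comm 443520, mul_assoc, ← hs]
      exact Nat.eq_of_mul_eq_mul_left (by norm_num) this
    · have : 443520 * (d * (K ⊓ MulAction.stabilizer Co0 (X hab)).relIndex (fixL [X hab, U none])) = 443520 * 2025 := by
        rw [← mul_assoc, hc2]
      exact Nat.eq_of_mul_eq_mul_left (by norm_num) this
    · exact he
  have hL : M22 = K ⊓ MulAction.stabilizer Co0 (X hab) :=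
    Subgroup.eq_of_le_of_card_ge hL22 (by rw [hd, hd1, card_M22'])
  -- the swap
  obtain ⟨c, hc, hcX⟩ := trans552 (sqNorm_U none) mem552_X mem552_UX
  obtain ⟨k, hk, hkX, hkN⟩ := swap11 (H := MulAction.stabilizer Co0 (U none)) (P11_le.trans (h22.trans hK)) rh_X rh_UX
    (mem_fix1.1 hc) hcX
  have hkK := hN k hk hkN
  have hkU : k • U none = U none := hk
  have hkX' : k • (U none - X hab) = X hab := by
    rw [sub_eq_add_neg, smul_add', smul_neg', hkU, hkX]; abel
  have hconj : ∀ g ∈ M22, k⁻¹ * g * k ∈ M22 := by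
    intro g hg
    rw [hL]
    refine ⟨K.mul_mem (K.mul_mem (K.inv_mem hkK) (h22 hg)) hkK, ?_⟩
    show (k⁻¹ * g * k) • X hab = X hab
    have hg1 := mem_fix2.1 (mclH_M22 hg)
    have hg2 : g • (U none - X hab) = U none - X hab := by
      rw [sub_eq_add_neg, smul_add', smul_neg', hg1.1, hg1.2]
    rw [mul_smul, mul_smul, hkX, hg2, inv_smul_eq_iff, hkX]
  have hef : ∀ g ∈ M22, g • ef none = ef none := by
    intro g hg
    exact fix_ef (mem_fix2.1 (mclH_M22 hg)).1 (mem_fix2.1 (hsH_M22 hg)).2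
  have hw : ∀ g ∈ M22, g • (k • ef none) = k • ef none := by
    intro g hg
    have h2 := hef _ (hconj g hg)
    rw [mul_smul, mul_smul, inv_smul_eq_iff] at h2
    exact h2
  have hw11 := fixM22_11 hw
  have hwc := fixM22 hw (-1) neg_one_ne
  have e1 := sqNorm_smul k (ef none)
  have e2 := dot_smul k (U none) (ef none)
  have e3 := dot_smul k (U none - X hab) (ef none)
  rw [hkU, dotU_const11 hw11, dot_comm, dot_ef_U] at e2
  rw [hkX', dot_X, dot_comm, coe_ef, dot_single, coe_UX, if_neg hab] at e3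
  rw [sqNorm_const11 hw11, coe_ef, sqNorm_single] at e1
  rw [hwc] at e1 e2
  have hb0 : ((k • ef none : leechLattice) : GolayPt → ℤ) b0 = ((k • ef none : leechLattice) : GolayPt → ℤ) (some 0) := rfl
  rw [hb0] at e3
  generalize ((k • ef none : leechLattice) : GolayPt → ℤ) none = a at *
  generalize ((k • ef none : leechLattice) : GolayPt → ℤ) (some 0) = b at *
  generalize ((k • ef none : leechLattice) : GolayPt → ℤ) (some 1) = c at *
  have hc1 : c ≤ 1 := by nlinarith [sq_nonneg a, sq_nonneg b]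
  have hc2 : -1 ≤ c := by nlinarith [sq_nonneg a, sq_nonneg b]
  have hb : b = 2 - a := by omega
  subst hb
  interval_cases c
  · have : a = 15 := by omega
    subst this; norm_num at e1
  · omega
  · have : a = 4 := by omega
    subst this; norm_num at e1

theorem stab_ext {G : Subgroup Co0} {K : Subgroup G} (h : K.map G.subtype = G) : K = ⊤ := by
  rw [eq_top_iff]
  intro x _
  have h1 : (x : Co0) ∈ K.map G.subtype := by rw [h]; exact x.2
  obtain ⟨y, hy, h2⟩ := h1
  have : y = x := Subtype.ext h2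
  rwa [← this]

theorem out_Co3 : Nat.card (Out (MulAction.stabilizer Co0 (U none))) = 1 := by
  apply out_of (fS_inj (U none) const_U') hN2_Co3 (not_sq23 _) (not_sq11 _)
  intro K h1 h2
  apply stab_ext
  apply gen3
  · rintro _ ⟨x, -, rfl⟩; exact x.2
  · rintro _ ⟨σ, hσ, rfl⟩
    exact ⟨_, h1 ⟨⟨σ, hσ⟩, rfl⟩, rfl⟩
  · intro n hn hn'
    exact ⟨⟨n, hn⟩, h2 (of_coe_norm11 hn'), rfl⟩

/-- the stabiliser as a group of permutations of the lattice -/
noncomputable def stabEquivPerm (v : leechLattice) :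
    ↥(Co0 ⊓ MulAction.stabilizer (Equiv.Perm leechLattice) v) ≃* MulAction.stabilizer Co0 v where
  toFun g := ⟨⟨g.1, g.2.1⟩, g.2.2⟩
  invFun g := ⟨g.1.1, g.1.2, g.2⟩
  left_inv _ := rfl
  right_inv _ := rfl
  map_mul' _ _ := rfl

theorem out_stab {v w : leechLattice} {k : Co0} (h : k • v = w) :
    Nat.card (Out (MulAction.stabilizer Co0 v)) = Nat.card (Out (MulAction.stabilizer Co0 w)) :=
  Cfsg.Agent.Lib.H58J2.out_congr (stabEquiv h)

theorem spor_Co3 : Nat.card (Out Spor.Co3) = 1 := by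
  have h1 : sqNorm (Spor.leechV : GolayPt → ℤ) = 48 := by
    show sqNorm Spor.vecV = 48
    decide +kernel
  obtain ⟨k, hk⟩ := std3 h1
  rw [← out_Co3, ← out_stab hk]
  exact Cfsg.Agent.Lib.H58J2.out_congr (stabEquivPerm _)

end Cfsg.Agent.Lib.LeechSyl
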