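import Cfsg.Agent.Lib.LeechOut2
import Cfsg.Agent.Lib.LeechMax2

/-!
The outer automorphism group of `Co1`, part one.
-/

set_option autoImplicit false

namespace Cfsg.Agent.Lib.LeechSyl

open Cfsg Cfsg.Agent.Lib.Golay Cfsg.Agent.Lib.LeechMin Cfsg.Agent.Lib.GolayCoset Cfsg.Agent.Lib.LeechXi
  Cfsg.Agent.Lib.LeechTrans Cfsg.Agent.Lib.LeechCo2 Cfsg.Agent.Lib.LeechFrame Cfsg.Agent.Lib.LeechCount
  Cfsg.Agent.Lib.LeechOrder Cfsg.Agent.Lib.LeechMod Cfsg.Agent.Lib.LeechQuot Cfsg.Agent.Lib.LeechChain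
open Subgroup
open scoped Pointwise

/-! ### minimal vectors fixed by the element of order 11 -/

def quad (v : leechLattice) : ℤ × ℤ × ℤ × ℤ :=
  ((v : GolayPt → ℤ) none, (v : GolayPt → ℤ) (some 0), (v : GolayPt → ℤ) (some 1), (v : GolayPt → ℤ) (some (-1)))

def BB4 (u w : ℤ × ℤ × ℤ × ℤ) : ℤ :=
  u.1 * w.1 + (u.2.1 * w.2.1 + 11 * (u.2.2.1 * w.2.2.1) + 11 * (u.2.2.2 * w.2.2.2))

def L12 : List (ℤ × ℤ × ℤ × ℤ) :=
  [(4, 4, 0, 0), (-4, -4, 0, 0), (4, -4, 0, 0), (-4, 4, 0, 0), (-3, 1, 1, 1), (3, -1, -1, -1), (1, -3, 1, 1),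
    (-1, 3, -1, -1), (-3, -1, -1, 1), (3, 1, 1, -1), (1, 3, -1, 1), (-1, -3, 1, -1)]

theorem dot_const11 {v w : leechLattice} (hv : peH rh • v = v) (hw : peH rh • w = w) :
    dotInt (v : GolayPt → ℤ) (w : GolayPt → ℤ) = BB4 (quad v) (quad w) := by
  unfold dotInt BB4 quad
  rw [Fintype.sum_option, ← sum_cls]
  refine congrArg _ (Finset.sum_congr rfl fun j _ => ?_)
  rw [const_of_fix11 hv j, const_of_fix11 hw j]
  split_ifs <;> rfl

theorem sum_const11 {v : leechLattice} (hv : peH rh • v = v) :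
    ∑ i, (v : GolayPt → ℤ) i = (v : GolayPt → ℤ) none + ((v : GolayPt → ℤ) (some 0) +
      11 * (v : GolayPt → ℤ) (some 1) + 11 * (v : GolayPt → ℤ) (some (-1))) := by
  rw [Fintype.sum_option, ← sum_cls]
  exact congrArg _ (Finset.sum_congr rfl fun j _ => const_of_fix11 hv j)

theorem arith12 : ∀ a ∈ Finset.Icc (-6 : ℤ) 6, ∀ b ∈ Finset.Icc (-6 : ℤ) 6, ∀ c ∈ Finset.Icc (-1 : ℤ) 1,
    ∀ d ∈ Finset.Icc (-1 : ℤ) 1, a * a + (b * b + 11 * (c * c) + 11 * (d * d)) = 32 → (2 : ℤ) ∣ a - c → (2 : ℤ) ∣ b - c →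
    (2 : ℤ) ∣ d - c → (8 : ℤ) ∣ a + (b + 11 * c + 11 * d) - 4 * c →
    (c = -d → c ≠ 0 → ¬ ((4 : ℤ) ∣ a - c ∧ (4 : ℤ) ∣ b - d)) → (a, b, c, d) ∈ L12 := by
  decide +kernel

theorem mset_NQR : ∀ i : GolayPt, i ∈ mset 8047777 ↔ (i = some 0 ∨ ∃ q ∈ QQ, i = some (-q)) := by decide +kernel

theorem not_code_NQR : mset 8047777 ∉ Sup := fun h =>
  absurd ((mset_mem_supports_iff (by norm_num)).mp h) (by decide +kernel)

theorem mset_D : ∀ i : GolayPt, i ∈ mset 340831 ↔ (i = some 0 ∨ ∃ q ∈ QQ, i = some q) := by decide +kernel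

theorem D_mem : mset 340831 ∈ Sup := (mset_mem_supports_iff (by norm_num)).mpr (by decide +kernel)

theorem mem12 {v : leechLattice} (h : peH rh • v = v) (hn : sqNorm (v : GolayPt → ℤ) = 32) : quad v ∈ L12 := by
  have h1 := hn
  rw [sqNorm_const11 h] at h1
  obtain ⟨⟨c1, c2⟩, ⟨d1, d2⟩, a1, a2⟩ := norm_sq_bound h1 (by norm_num)
  obtain ⟨m, A, hA, h2, h3⟩ := (mem_lattice_iff' _).1 v.2
  rw [sum_const11 h] at h3
  have p1 := h2 none
  have p2 := h2 (some 0)
  have p3 := h2 (some 1)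
  have p4 := h2 (some (-1))
  have hb : (v : GolayPt → ℤ) (some 0) ≤ 6 ∧ -6 ≤ (v : GolayPt → ℤ) (some 0) := by
    constructor <;> nlinarith [sq_nonneg ((v : GolayPt → ℤ) none), sq_nonneg ((v : GolayPt → ℤ) (some 1)),
      sq_nonneg ((v : GolayPt → ℤ) (some (-1)))]
  apply arith12 _ (Finset.mem_Icc.2 ⟨a2, a1⟩) _ (Finset.mem_Icc.2 ⟨hb.2, hb.1⟩) _ (Finset.mem_Icc.2 ⟨c2, c1⟩) _
    (Finset.mem_Icc.2 ⟨d2, d1⟩)
  · rw [← h1]; ring
  · omega
  · omega
  · omega
  · omega
  · rintro hcd hc0 ⟨e1, e2⟩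
    apply not_code_NQR
    apply mem_Sup_of v.2 (e := (v : GolayPt → ℤ) (some 1))
    intro i
    have hc : (v : GolayPt → ℤ) (some 1) = 1 ∨ (v : GolayPt → ℤ) (some 1) = -1 := by omega
    rcases i with _ | j
    · have : chi (mset 8047777) none = 0 := by
        unfold chi; rw [if_neg]; rw [mset_NQR]; simp
      rw [this]; omega
    · rw [const_of_fix11 h j]
      by_cases h0 : j = 0
      · have : chi (mset 8047777) (some j) = 1 := by
          unfold chi; rw [if_pos]; rw [mset_NQR]; left; rw [h0]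
        rw [if_pos h0, this]; omega
      · rw [if_neg h0]
        by_cases hq : j ∈ QQ
        · have : chi (mset 8047777) (some j) = 0 := by
            unfold chi; rw [if_neg]; rw [mset_NQR]
            rintro (h5 | ⟨q, hq', h5⟩)
            · exact h0 (Option.some.inj h5)
            · have h6 := Option.some.inj h5
              exact (QQ_neg j hq).1 (by rw [h6, neg_neg]; exact hq')
          rw [if_pos hq, this]; omega
        · have h7 : -j ∈ QQ := by
            rcases QQ_all j with h8 | h8 | h8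
            · exact absurd h8 h0
            · exact absurd h8 hq
            · exact h8
          have : chi (mset 8047777) (some j) = 1 := by
            unfold chi; rw [if_pos]; rw [mset_NQR]; right; exact ⟨-j, h7, by rw [neg_neg]⟩
          rw [if_neg hq, this]; omega

theorem gram5 : ∀ y0 ∈ L12, ∀ y1 ∈ L12, ∀ y2 ∈ L12, BB4 y1 y2 = BB4 y0 y1 → ∀ y3 ∈ L12, BB4 y2 y3 = BB4 y0 y1 →
    BB4 y1 y3 = BB4 y0 y2 → ∀ y4 ∈ L12, BB4 y3 y4 = BB4 y0 y1 → BB4 y4 y0 = BB4 y0 y1 → BB4 y2 y4 = BB4 y0 y2 →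
    BB4 y3 y0 = BB4 y0 y2 → BB4 y4 y1 = BB4 y0 y2 → y1 = y0 := by
  decide +kernel

theorem quad_inj {v w : leechLattice} (hv : peH rh • v = v) (hw : peH rh • w = w) (h : quad v = quad w) : v = w := by
  unfold quad at h
  simp only [Prod.mk.injEq] at h
  exact ext11 hv hw h.1 h.2.1 h.2.2.1 h.2.2.2

/-- elements of order 5 normalising the Sylow 11-subgroup fix the fixed minimal vectors -/
theorem fix5 {h : Co0} (hn : h ∈ normalizer (P11 : Set Co0)) (h5 : h ^ 5 = 1) {v : leechLattice} (hv : peH rh • v = v)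
    (hv32 : sqNorm (v : GolayPt → ℤ) = 32) : h • v = v := by
  have f1 := fix_of_norm hn hv
  have f2 := fix_of_norm hn f1
  have f3 := fix_of_norm hn f2
  have f4 := fix_of_norm hn f3
  have h50 : h • h • h • h • h • v = v := by
    rw [← mul_smul, ← mul_smul, ← mul_smul, ← mul_smul]
    have : h * h * h * h * h = h ^ 5 := by rw [pow_succ, pow_succ, pow_succ, pow_two]
    rw [this, h5, one_smul]
  have n1 : sqNorm ((h • v : leechLattice) : GolayPt → ℤ) = 32 := by rw [sqNorm_smul, hv32]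
  have n2 : sqNorm ((h • h • v : leechLattice) : GolayPt → ℤ) = 32 := by rw [sqNorm_smul, n1]
  have n3 : sqNorm ((h • h • h • v : leechLattice) : GolayPt → ℤ) = 32 := by rw [sqNorm_smul, n2]
  have n4 : sqNorm ((h • h • h • h • v : leechLattice) : GolayPt → ℤ) = 32 := by rw [sqNorm_smul, n3]
  have d01 := dot_smul h v (h • v)
  have d12 := dot_smul h (h • v) (h • h • v)
  have d23 := dot_smul h (h • h • v) (h • h • h • v)
  have d34 := dot_smul h (h • h • h • v) (h • h • h • h • v)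
  have d02 := dot_smul h v (h • h • v)
  have d13 := dot_smul h (h • v) (h • h • h • v)
  have d24 := dot_smul h (h • h • v) (h • h • h • h • v)
  have d14 := dot_smul h (h • h • h • v) v
  rw [h50] at d34 d24
  rw [dot_const11 f1 f2, dot_const11 hv f1] at d01
  rw [dot_const11 f2 f3, dot_const11 f1 f2] at d12
  rw [dot_const11 f3 f4, dot_const11 f2 f3] at d23
  rw [dot_const11 f4 hv, dot_const11 f3 f4] at d34
  rw [dot_const11 f1 f3, dot_const11 hv f2] at d02
  rw [dot_const11 f2 f4, dot_const11 f1 f3] at d13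
  rw [dot_const11 f3 hv, dot_const11 f2 f4] at d24
  rw [dot_const11 f4 f1, dot_const11 f3 hv] at d14
  apply quad_inj f1 hv
  exact gram5 _ (mem12 hv hv32) _ (mem12 f1 n1) _ (mem12 f2 n2) d01 _ (mem12 f3 n3) (d12.trans d01) d02 _ (mem12 f4 n4)
    (d23.trans (d12.trans d01)) (d34.trans (d23.trans (d12.trans d01))) (d13.trans d02) (d24.trans (d13.trans d02))
    (d14.trans (d24.trans (d13.trans d02)))

theorem rh_V3 : peH rh • V3 = V3 := by
  apply rh_fix
  intro j _
  rw [V3_apply, V3_apply, if_neg (Option.some_ne_none _), if_neg (Option.some_ne_none _)]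

/-! ### lifting from the quotient -/

/-- the quotient map -/
def mkZ : Co0 →* Spor.Co1 := QuotientGroup.mk' (Subgroup.center Co0)

theorem mkZ_surj : Function.Surjective mkZ := QuotientGroup.mk'_surjective _

theorem mkZ_eq_one {g : Co0} : mkZ g = 1 ↔ g = 1 ∨ g = negOne := by
  have h1 : mkZ g = 1 ↔ g ∈ Subgroup.center Co0 := QuotientGroup.eq_one_iff g
  rw [h1]
  constructor
  · exact center_eq
  · rintro (rfl | rfl)
    · exact Subgroup.one_mem _
    · exact negOne_mem_center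

theorem mkZ_eq {a b : Co0} (h : mkZ a = mkZ b) : a = b ∨ a = negOne * b := by
  have h1 : mkZ (a * b⁻¹) = 1 := by rw [map_mul, map_inv, h, mul_inv_cancel]
  rcases mkZ_eq_one.1 h1 with h2 | h2
  · left; exact mul_inv_eq_one.1 h2
  · right; exact mul_inv_eq_iff_eq_mul.1 h2

theorem negOne_comm (g : Co0) : g * negOne = negOne * g := Subgroup.mem_center_iff.1 negOne_mem_center g

theorem mkZ_negOne (g : Co0) : mkZ (negOne * g) = mkZ g := by
  rw [map_mul, mkZ_eq_one.2 (Or.inr rfl), one_mul]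

theorem negOne_pow_odd {n : ℕ} (hn : Odd n) : negOne ^ n = negOne := by
  obtain ⟨k, hk⟩ := hn
  rw [hk, pow_succ, pow_mul, pow_two, negOne_sq, one_pow, one_mul]

/-- elements of odd order commuting modulo the centre commute -/
theorem comm_odd {g p : Co0} {n : ℕ} (hn : Odd n) (hp : p ^ n = 1) (h : mkZ g * mkZ p = mkZ p * mkZ g) : g * p = p * g := by
  rw [← map_mul, ← map_mul] at h
  rcases mkZ_eq h with h1 | h1
  · exact h1
  · exfalso
    have h2 : g * p * g⁻¹ = negOne * p := by rw [h1]; group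
    have h3 : (g * p * g⁻¹) ^ n = 1 := by rw [conj_pow, hp]; group
    have h4 : Commute negOne p := (negOne_comm p).symm
    rw [h2, h4.mul_pow, hp, mul_one, negOne_pow_odd hn] at h3
    exact negOne_ne_one h3

/-- `M23` in `Co1` -/
noncomputable def f1 : T23 →* Spor.Co1 := mkZ.comp (peH.comp (St none).subtype)

theorem f1_apply (y : T23) : f1 y = mkZ (peH (y : M24)) := rfl

theorem U_neg_ne : -U none ≠ U none := neg_ne_of_none (by rw [U_none]; norm_num)

theorem peH_U (y : T23) : peH (y : M24) • U none = U none := M23_le_stab _ const_U' ⟨(y : M24), y.2, rfl⟩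
theorem peH_V3 (y : T23) : peH (y : M24) • V3 = V3 := M23_le_stab _ const_V3 ⟨(y : M24), y.2, rfl⟩

theorem peH_of_UV {g : Co0} (h1 : g • V3 = V3) (h2 : g • U none = U none) : ∃ y : T23, g = peH (y : M24) := by
  have h3 : g • ef none = ef none := by
    have h4 : ef none = U none + -V3 := by rw [V3_ef]; abel
    rw [h4, smul_add', smul_neg', h1, h2]
  obtain ⟨σ, hσ, h5, h6⟩ := exists_perm h3 h2
  refine ⟨⟨⟨σ, hσ⟩, h5⟩, ?_⟩
  apply ext_smul
  intro v
  apply Subtype.ext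
  rw [h6, peH_smul]

theorem f1_inj : Function.Injective f1 := by
  rw [injective_iff_map_eq_one]
  intro y hy
  rcases mkZ_eq_one.1 hy with h | h
  · apply Subtype.ext
    exact peH_inj (h.trans (map_one peH).symm)
  · exfalso
    have h1 := peH_U y
    have h2 : peH (y : M24) = negOne := h
    rw [h2, negOne_smul] at h1
    exact U_neg_ne h1

theorem peH_rh_11 : peH rh ^ 11 = 1 := by rw [← map_pow, rh_pow_11, map_one]
theorem peH_cu_5 : peH cu ^ 5 = 1 := by rw [← map_pow, cu_pow, map_one]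

theorem norm_of_comm {g : Co0} (h : g * peH rh = peH rh * g) : g ∈ normalizer (P11 : Set Co0) := by
  apply mem_normalizer_of
  rw [h, mul_inv_cancel_right]
  exact mem_zpowers _

theorem cu_norm : peH cu ∈ normalizer (P11 : Set Co0) := by
  apply mem_normalizer_of
  have h1 : peH cu * peH rh * (peH cu)⁻¹ = peH rh ^ 3 := by
    rw [mul_inv_eq_iff_eq_mul, ← map_mul, cu_rh, map_mul, map_pow]
  rw [h1]; exact Subgroup.npow_mem_zpowers _ _

/-- the condition on the centraliser of the Sylow 11-subgroup for `Co1` -/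
theorem hC_Co1 (g : Spor.Co1) (h1 : g * f1 sq = f1 sq * g) (h2 : (f1 sr * g) ^ 5 = 1) : g ∈ zpowers (f1 sq) := by
  obtain ⟨γ, rfl⟩ := mkZ_surj g
  have hc : γ * peH rh = peH rh * γ := comm_odd (by decide : Odd 11) peH_rh_11 h1
  -- normalise the sign
  obtain ⟨δ, hδ, hδc, hδ5⟩ : ∃ δ, mkZ δ = mkZ γ ∧ δ * peH rh = peH rh * δ ∧ (peH cu * δ) ^ 5 = 1 := by
    have h3 : mkZ ((peH cu * γ) ^ 5) = 1 := by rw [map_pow, map_mul]; exact h2
    rcases mkZ_eq_one.1 h3 with h4 | h4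
    · exact ⟨γ, rfl, hc, h4⟩
    · refine ⟨negOne * γ, mkZ_negOne γ, ?_, ?_⟩
      · rw [mul_assoc, hc, ← mul_assoc, ← mul_assoc, negOne_comm]
      · have h5 : peH cu * (negOne * γ) = negOne * (peH cu * γ) := by rw [← mul_assoc, negOne_comm, mul_assoc]
        have h6 : Commute negOne (peH cu * γ) := (negOne_comm _).symm
        rw [h5, h6.mul_pow, h4, negOne_pow_odd (by decide : Odd 5), negOne_sq]
  have hn : peH cu * δ ∈ normalizer (P11 : Set Co0) := Subgroup.mul_mem _ cu_norm (norm_of_comm hδc)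
  have hM : peH cu * δ ∈ M22 := by
    have e1 := fix5 hn hδ5 rh_X (sqNorm_X hab)
    have e2 := fix5 hn hδ5 rh_S sqNorm_S
    have e3 := fix5 hn hδ5 rh_V3 sqNorm_V3
    apply mem_M22 e1 e2
    rw [V3_ef, smul_add', e3, fix_ef e1 e2]
  have hδM : δ ∈ M23 := by
    have h3 : peH cu ∈ M23 := ⟨cu, cu_none, rfl⟩
    have h4 := M23.mul_mem (M23.inv_mem h3) (M22_le_M23 hM)
    rwa [inv_mul_cancel_left] at h4
  obtain ⟨σ, hσ, rfl⟩ := hδM
  have h4 : (⟨σ, hσ⟩ : T23) * sq = sq * ⟨σ, hσ⟩ := by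
    apply Subtype.ext
    apply peH_inj
    show peH (σ * rh) = peH (rh * σ)
    rw [map_mul, map_mul, hδc]
  obtain ⟨n, hn⟩ := Subgroup.mem_zpowers_iff.1 (comm_sq h4)
  rw [← hδ]
  have h5 : mkZ (peH σ) = f1 ⟨σ, hσ⟩ := rfl
  rw [h5, ← hn, map_zpow]
  exact Subgroup.zpow_mem_zpowers _ _

end Cfsg.Agent.Lib.LeechSyl
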