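import Cfsg.Agent.Lib.LeechOut1

/-!
The outer automorphism group of `Co1`, part two: centralisers of subgroups of `M23`.
-/

set_option autoImplicit false

namespace Cfsg.Agent.Lib.LeechSyl

open Cfsg Cfsg.Agent.Lib.Golay Cfsg.Agent.Lib.LeechMin Cfsg.Agent.Lib.GolayCoset Cfsg.Agent.Lib.LeechXi
  Cfsg.Agent.Lib.LeechTrans Cfsg.Agent.Lib.LeechCo2 Cfsg.Agent.Lib.LeechFrame Cfsg.Agent.Lib.LeechCount
  Cfsg.Agent.Lib.LeechOrder Cfsg.Agent.Lib.LeechMod Cfsg.Agent.Lib.LeechQuot Cfsg.Agent.Lib.LeechChain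
open Subgroup
open scoped Pointwise

/-! ### an element of order three preserving the dodecad -/

def cA0 : ℕ := 983234851254683748821067603173709874
theorem inM_cA0 : inM cA0 = true := by decide +kernel
noncomputable def a0 : M24 := ⟨toPerm cA0, toPerm_mem_M24 inM_cA0⟩
theorem a0_apply (p : GolayPt) : (a0 : Equiv.Perm GolayPt) p = pt (img cA0 (ix p)) := toPerm_apply (valid_of_inM inM_cA0) p
theorem a0_none : (a0 : Equiv.Perm GolayPt) none = none := by rw [a0_apply]; decide +kernel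
theorem a0_zero : (a0 : Equiv.Perm GolayPt) (some 0) = some 18 := by rw [a0_apply]; decide +kernel
theorem a0_cube : a0 ^ 3 = 1 := by
  apply Subtype.ext
  ext1 p
  show (a0 : Equiv.Perm GolayPt) ((a0 : Equiv.Perm GolayPt) ((a0 : Equiv.Perm GolayPt) p)) = p
  rw [a0_apply, a0_apply, a0_apply]
  revert p
  decide +kernel
theorem a0_D : ∀ p ∈ mset 340831, (a0 : Equiv.Perm GolayPt) p ∈ mset 340831 := by
  intro p
  rw [a0_apply]
  revert p
  decide +kernel

theorem rh_D : ∀ p ∈ mset 340831, (rh : Equiv.Perm GolayPt) p ∈ mset 340831 := by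
  intro p
  rw [rh_apply]
  revert p
  decide +kernel

theorem cu_D : ∀ p ∈ mset 340831, (cu : Equiv.Perm GolayPt) p ∈ mset 340831 := by
  intro p
  rw [cu_apply]
  revert p
  decide +kernel

theorem symm_mem_iff {σ : Equiv.Perm GolayPt} {C : Finset GolayPt} (h : ∀ p ∈ C, σ p ∈ C) (i : GolayPt) :
    σ.symm i ∈ C ↔ i ∈ C := by
  classical
  have h1 : C.image σ = C := by
    apply Finset.eq_of_subset_of_card_le
    · intro y hy
      rw [Finset.mem_image] at hy
      obtain ⟨x, hx, rfl⟩ := hy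
      exact h x hx
    · rw [Finset.card_image_of_injective _ σ.injective]
  constructor
  · intro hi
    have := h _ hi
    rwa [Equiv.apply_symm_apply] at this
  · intro hi
    rw [← h1, Finset.mem_image] at hi
    obtain ⟨x, hx, rfl⟩ := hi
    rwa [Equiv.symm_apply_apply]

theorem eps_comm {σ : M24} {C : Finset GolayPt} (hC : C ∈ Sup) (h : ∀ p ∈ C, (σ : Equiv.Perm GolayPt) p ∈ C) :
    eps C hC * peH σ = peH σ * eps C hC := by
  apply ext_smul
  intro v
  apply Subtype.ext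
  rw [mul_smul, mul_smul, peH_smul]
  funext i
  rw [eps_apply, eps_apply, peH_smul]
  have h1 := symm_mem_iff h i
  by_cases hi : i ∈ C
  · rw [if_pos hi, if_pos (h1.2 hi)]
  · rw [if_neg hi, if_neg (fun h2 => hi (h1.1 h2))]

/-- the sign change on the dodecad -/
def eD : Co0 := eps (mset 340831) D_mem

theorem eD_rh : eD * peH rh = peH rh * eD := eps_comm D_mem rh_D
theorem eD_cu : eD * peH cu = peH cu * eD := eps_comm D_mem cu_D
theorem eD_a0 : eD * peH a0 = peH a0 * eD := eps_comm D_mem a0_D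

theorem quad_V3 : quad V3 = (-3, 1, 1, 1) := by
  unfold quad
  rw [V3_apply, V3_apply, V3_apply, V3_apply]; rfl

theorem quad_neg {v : leechLattice} {a b c d : ℤ} (h : quad v = (a, b, c, d)) : quad (negOne • v) = (-a, -b, -c, -d) := by
  unfold quad at h ⊢
  simp only [Prod.mk.injEq] at h
  rw [negOne_smul]
  simp only [coe_neg', Pi.neg_apply, h.1, h.2.1, h.2.2.1, h.2.2.2]

theorem quad_eD {v : leechLattice} {a b c d : ℤ} (h : quad v = (a, b, c, d)) : quad (eD • v) = (a, -b, -c, d) := by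
  unfold quad at h ⊢
  simp only [Prod.mk.injEq] at h
  unfold eD
  rw [eps_apply, eps_apply, eps_apply, eps_apply, if_neg (by decide +kernel), if_pos (by decide +kernel),
    if_pos (by decide +kernel), if_neg (by decide +kernel), h.1, h.2.1, h.2.2.1, h.2.2.2]

theorem quad_ef : quad (ef none) = (8, 0, 0, 0) := by
  unfold quad
  rw [coe_ef]; rfl

/-- vectors fixed by `rh` and `a0` -/
theorem quad_a0 {v : leechLattice} (h : peH rh • v = v) (h' : peH a0 • v = v) :
    (v : GolayPt → ℤ) (some 0) = (v : GolayPt → ℤ) (some 1) := by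
  have h1 : (v : GolayPt → ℤ) (some 18) = (v : GolayPt → ℤ) (some 0) := by
    have h2 := congrFun (congrArg Subtype.val h') (some 18)
    rw [peH_smul] at h2
    beta_reduce at h2
    have h3 : (a0 : Equiv.Perm GolayPt).symm (some 18) = some 0 := by rw [Equiv.symm_apply_eq, a0_zero]
    rw [h3] at h2
    exact h2.symm
  rw [← h1, const_of_fix11 h 18, if_neg (by decide), if_pos (by decide)]

theorem quad_cases : ∀ y ∈ L12, y.2.1 = y.2.2.1 → y = (-3, 1, 1, 1) ∨ y = (3, -1, -1, -1) ∨ y = (-3, -1, -1, 1) ∨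
    y = (3, 1, 1, -1) := by decide +kernel

theorem arith_ef {a c d : ℤ} (h1 : a ^ 2 + (c ^ 2 + 11 * c ^ 2 + 11 * d ^ 2) = 64) (h2 : -3 * a + (c + 11 * c + 11 * d) = -24) :
    a = 8 ∧ c = 0 ∧ d = 0 := by
  have hd : d ≤ 2 ∧ -2 ≤ d := by constructor <;> nlinarith [sq_nonneg a, sq_nonneg c]
  have hc : c ≤ 2 ∧ -2 ≤ c := by constructor <;> nlinarith [sq_nonneg a, sq_nonneg d]
  obtain ⟨hd1, hd2⟩ := hd
  obtain ⟨hc1, hc2⟩ := hc
  have ha : a ≤ 8 ∧ -8 ≤ a := by constructor <;> nlinarith [sq_nonneg c, sq_nonneg d]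
  obtain ⟨ha1, ha2⟩ := ha
  interval_cases d <;> interval_cases c <;> interval_cases a <;> first | (exfalso; revert h2; norm_num; done) | (exfalso; revert h1; norm_num; done) | simp

theorem fix_of_comm {γ p : Co0} (h : γ * p = p * γ) {v : leechLattice} (hv : p • v = v) : p • (γ • v) = γ • v := by
  rw [← mul_smul, ← h, mul_smul, hv]

theorem a0_V3 : peH a0 • V3 = V3 := peH_V3 ⟨a0, a0_none⟩
theorem a0_ef : peH a0 • ef none = ef none := by
  have h4 : ef none = U none + -V3 := by rw [V3_ef]; abel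
  rw [h4, smul_add', smul_neg', peH_U ⟨a0, a0_none⟩, a0_V3]

theorem rh_ef : peH rh • ef none = ef none := by
  have h4 : ef none = U none + -V3 := by rw [V3_ef]; abel
  rw [h4, smul_add', smul_neg', peH_U ⟨rh, rh_none⟩, rh_V3]

theorem triv_T23 {y : T23} (h1 : peH (y : M24) * peH rh = peH rh * peH (y : M24))
    (h2 : peH (y : M24) * peH cu = peH cu * peH (y : M24)) : y = 1 := by
  apply center_T23
  · apply Subtype.ext
    apply peH_inj
    show peH ((y : M24) * rh) = peH (rh * (y : M24))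
    rw [map_mul, map_mul, h1]
  · apply Subtype.ext
    apply peH_inj
    show peH ((y : M24) * cu) = peH (cu * (y : M24))
    rw [map_mul, map_mul, h2]

theorem triv_D {δ : Co0} (h1 : δ * peH rh = peH rh * δ) (h2 : δ * peH cu = peH cu * δ) (h3 : δ * peH a0 = peH a0 * δ)
    (hV : δ • V3 = V3) : δ = 1 := by
  have f1 := fix_of_comm h1 rh_ef
  have f2 := fix_of_comm h3 a0_ef
  have h4 := quad_a0 f1 f2
  have e1 := sqNorm_smul δ (ef none)
  have e2 := dot_smul δ V3 (ef none)
  rw [hV, dotV3_const11 f1, dot_comm, coe_ef, dot_single, V3_apply, if_pos rfl] at e2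
  rw [sqNorm_const11 f1, coe_ef, sqNorm_single] at e1
  rw [h4] at e1 e2
  obtain ⟨g1, g2, g3⟩ := arith_ef e1 (by rw [e2]; norm_num)
  have hef : δ • ef none = ef none := by
    apply quad_inj f1 rh_ef
    rw [quad_ef]
    unfold quad
    rw [h4, g1, g2, g3]
  obtain ⟨y, rfl⟩ := peH_of_UV hV (by rw [V3_ef, smul_add', hV, hef])
  rw [triv_T23 h1 h2]
  exact map_one peH

theorem eD_sq : eD * eD = 1 := by
  apply ext_smul
  intro v
  apply Subtype.ext
  rw [mul_smul, one_smul]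
  funext i
  unfold eD
  rw [eps_apply, eps_apply]
  split_ifs
  · rw [neg_neg]
  · rfl

theorem cent_D {γ : Co0} (h1 : γ * peH rh = peH rh * γ) (h2 : γ * peH cu = peH cu * γ) (h3 : γ * peH a0 = peH a0 * γ) :
    mkZ γ = 1 ∨ mkZ γ = mkZ eD := by
  have f1 := fix_of_comm h1 rh_V3
  have f2 := fix_of_comm h3 a0_V3
  have h4 := quad_a0 f1 f2
  have h5 := mem12 f1 (by rw [sqNorm_smul, sqNorm_V3])
  have key : ∀ s : Co0, s * peH rh = peH rh * s → s * peH cu = peH cu * s → s * peH a0 = peH a0 * s →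
      quad (γ • V3) = quad (s • V3) → γ = s := by
    intro s s1 s2 s3 hq
    have hV : γ • V3 = s • V3 := quad_inj f1 (fix_of_comm s1 rh_V3) hq
    have hcm : ∀ p : Co0, γ * p = p * γ → s * p = p * s → (s⁻¹ * γ) * p = p * (s⁻¹ * γ) := by
      intro p hp hs
      have h6 : s⁻¹ * p = p * s⁻¹ := by rw [inv_mul_eq_iff_eq_mul, ← mul_assoc, hs, mul_inv_cancel_right]
      rw [mul_assoc, hp, ← mul_assoc, h6, mul_assoc]
    have h6 := triv_D (δ := s⁻¹ * γ) (hcm _ h1 s1) (hcm _ h2 s2) (hcm _ h3 s3) (by rw [mul_smul, hV, inv_smul_smul])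
    rw [inv_mul_eq_one] at h6
    exact h6.symm
  have hneg : ∀ p : Co0, negOne * p = p * negOne := fun p => (negOne_comm p).symm
  have hneg2 : ∀ s p : Co0, s * p = p * s → (negOne * s) * p = p * (negOne * s) := by
    intro s p h
    rw [mul_assoc, h, ← mul_assoc, ← mul_assoc, hneg]
  rcases quad_cases _ h5 h4 with h6 | h6 | h6 | h6
  · left
    rw [key 1 (by rw [one_mul, mul_one]) (by rw [one_mul, mul_one]) (by rw [one_mul, mul_one]) (by rw [h6, one_smul, quad_V3]), map_one]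
  · left
    rw [key negOne (hneg _) (hneg _) (hneg _) (by rw [h6, quad_neg quad_V3]; norm_num)]
    exact mkZ_eq_one.2 (Or.inr rfl)
  · right
    rw [key eD eD_rh eD_cu eD_a0 (by rw [h6, quad_eD quad_V3])]
  · right
    rw [key (negOne * eD) (hneg2 _ _ eD_rh) (hneg2 _ _ eD_cu) (hneg2 _ _ eD_a0)
      (by rw [h6, mul_smul, quad_neg (quad_eD quad_V3)]; norm_num), mkZ_negOne]

theorem mkZ_eD_ne : mkZ eD ≠ 1 := by
  intro h
  rcases mkZ_eq_one.1 h with h1 | h1
  · have h2 := quad_eD quad_V3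
    rw [h1, one_smul, quad_V3] at h2
    revert h2; decide
  · have h2 := quad_eD quad_V3
    rw [h1, quad_neg quad_V3] at h2
    revert h2; decide

/-- an automorphism of `Co1` fixing `M23` fixes the sign change on the dodecad -/
theorem fix_eD (β : Spor.Co1 ≃* Spor.Co1) (hβ : ∀ y : T23, β (f1 y) = f1 y) : β (mkZ eD) = mkZ eD := by
  obtain ⟨γ, hγ⟩ := mkZ_surj (β (mkZ eD))
  have hcomm : ∀ (y : T23) (n : ℕ), Odd n → (y : M24) ^ n = 1 → eD * peH (y : M24) = peH (y : M24) * eD →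
      γ * peH (y : M24) = peH (y : M24) * γ := by
    intro y n hn hy h
    apply comm_odd hn (by rw [← map_pow, hy, map_one])
    rw [hγ]
    have h1 : mkZ (peH (y : M24)) = β (f1 y) := (hβ y).symm
    rw [h1, ← map_mul, ← map_mul, f1_apply, ← map_mul, ← map_mul, h]
  have h1 := cent_D (hcomm ⟨rh, rh_none⟩ 11 (by decide) rh_pow_11 eD_rh) (hcomm ⟨cu, cu_none⟩ 5 (by decide) cu_pow eD_cu)
    (hcomm ⟨a0, a0_none⟩ 3 (by decide) a0_cube eD_a0)
  rw [hγ] at h1
  rcases h1 with h1 | h1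
  · exfalso
    exact mkZ_eD_ne (β.injective (by rw [h1, map_one]))
  · exact h1

/-! ### generating the sign changes -/

theorem eps_mul {c d : Finset GolayPt} (hc : c ∈ Sup) (hd : d ∈ Sup) :
    eps c hc * eps d hd = eps (symmDiff c d) (symmDiff_mem_supports hc hd) := by
  apply ext_smul
  intro v
  apply Subtype.ext
  rw [mul_smul]
  funext i
  rw [eps_apply, eps_apply, eps_apply]
  by_cases h1 : i ∈ c <;> by_cases h2 : i ∈ d <;> simp [h1, h2, Finset.mem_symmDiff]

theorem eps_conj (σ : M24) {c : Finset GolayPt} (hc : c ∈ Sup) :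
    peH σ * eps c hc * (peH σ)⁻¹ = eps ((σ : Equiv.Perm GolayPt) • c) (smul_mem_Sup σ.2 hc) := by
  rw [mul_inv_eq_iff_eq_mul]
  apply ext_smul
  intro v
  apply Subtype.ext
  rw [mul_smul, mul_smul, peH_smul]
  funext i
  rw [eps_apply, eps_apply, peH_smul]
  have h1 := mem_smul (σ : Equiv.Perm GolayPt) c i
  by_cases hi : i ∈ (σ : Equiv.Perm GolayPt) • c
  · rw [if_pos hi, if_pos (h1.1 hi)]
  · rw [if_neg hi, if_neg (fun h2 => hi (h1.2 h2))]

theorem sq_iff : ∀ y : ZMod 23, (y = 0 ∨ y ∈ QQ) ↔ ∃ r : ZMod 23, y = r ^ 2 := by decide +kernel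

theorem support_qrWord (t : ZMod 23) : support₂ (qrWord t) = ((sh ^ t.val : M24) : Equiv.Perm GolayPt) • mset 340831 := by
  ext i
  rw [mem_smul, mset_D]
  unfold support₂
  rw [Finset.mem_filter]
  simp only [Finset.mem_univ, true_and]
  rcases i with _ | x
  · have h1 : ((sh ^ t.val : M24) : Equiv.Perm GolayPt).symm none = none := by
      rw [Equiv.symm_apply_eq, sh_pow_none]
    rw [h1]
    simp [qrWord]
  · have h1 : ((sh ^ t.val : M24) : Equiv.Perm GolayPt).symm (some x) = some (x - t) := by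
      rw [Equiv.symm_apply_eq, sh_pow_some, ZMod.natCast_zmod_val, sub_add_cancel]
    rw [h1]
    have h2 : (some (x - t) = (some 0 : GolayPt) ∨ ∃ q ∈ QQ, (some (x - t) : GolayPt) = some q) ↔ (x - t = 0 ∨ x - t ∈ QQ) := by
      simp
    rw [h2, sq_iff]
    unfold qrWord
    simp only [ne_eq, ite_eq_right_iff, one_ne_zero, imp_false, not_not]
    constructor
    · rintro ⟨r, hr⟩; exact ⟨r, by rw [hr]; ring⟩
    · rintro ⟨r, hr⟩; exact ⟨r, by rw [← hr]; ring⟩

theorem E12_le {K : Subgroup Co0} (hneg : negOne ∈ K) (hM : M23 ≤ K) (hD : eD ∈ K) : E12 ≤ K := by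
  have key : ∀ w ∈ golayCode, ∃ hs : support₂ w ∈ Sup, eps (support₂ w) hs ∈ K := by
    intro w hw
    have hPs : ∀ {s t : Finset GolayPt}, (∃ hs : s ∈ Sup, eps s hs ∈ K) → (∃ ht : t ∈ Sup, eps t ht ∈ K) →
        ∃ h : symmDiff s t ∈ Sup, eps (symmDiff s t) h ∈ K := by
      rintro s t ⟨hs, h1⟩ ⟨ht, h2⟩
      refine ⟨symmDiff_mem_supports hs ht, ?_⟩
      rw [← eps_mul hs ht]; exact K.mul_mem h1 h2
    have hP0 : ∃ h : (∅ : Finset GolayPt) ∈ Sup, eps ∅ h ∈ K := by
      refine ⟨GolayCoset.empty_mem, ?_⟩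
      have : eps ∅ GolayCoset.empty_mem = 1 := by
        apply ext_smul
        intro v
        apply Subtype.ext
        funext i
        rw [eps_apply, one_smul]; simp
      rw [this]; exact K.one_mem
    unfold golayCode at hw
    induction hw using Submodule.span_induction with
    | mem x hx =>
      rcases hx with ⟨t, rfl⟩ | hx
      · rw [support_qrWord]
        refine ⟨smul_mem_Sup (sh ^ t.val).2 D_mem, ?_⟩
        rw [← eps_conj _ D_mem]
        have h1 : peH (sh ^ t.val) ∈ K := hM ⟨sh ^ t.val, (St none).pow_mem sh_none _, rfl⟩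
        exact K.mul_mem (K.mul_mem h1 hD) (K.inv_mem h1)
      · rw [Set.mem_singleton_iff] at hx
        have h1 : support₂ x = Finset.univ := by
          rw [hx]; ext i; simp [support₂]
        rw [h1]
        exact ⟨univ_mem, hneg⟩
    | zero =>
      have h1 : support₂ (0 : GolayPt → ZMod 2) = ∅ := by ext i; simp [support₂]
      rw [h1]; exact hP0
    | add x y _ _ hx hy =>
      rw [support₂_add]
      exact hPs hx hy
    | smul a x _ hx =>
      have ha : ∀ a : ZMod 2, a = 0 ∨ a = 1 := by decide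
      rcases ha a with rfl | rfl
      · rw [zero_smul]
        have h1 : support₂ (0 : GolayPt → ZMod 2) = ∅ := by ext i; simp [support₂]
        rw [h1]; exact hP0
      · rw [one_smul]; exact hx
  rintro g ⟨c, hc, h⟩
  have hc' := hc
  obtain ⟨w, hw, rfl⟩ := hc'
  obtain ⟨hs, h1⟩ := key w hw
  rw [eps_ext hs h]; exact h1

/-! ### the centraliser of `M22` -/

def L8 : List (ℤ × ℤ × ℤ × ℤ) :=
  [(4, 4, 0, 0), (-4, -4, 0, 0), (4, -4, 0, 0), (-4, 4, 0, 0), (-3, 1, 1, 1), (3, -1, -1, -1), (1, -3, 1, 1),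
    (-1, 3, -1, -1)]

theorem L12_L8 : ∀ x ∈ L12, x.2.2.1 = x.2.2.2 → x ∈ L8 := by decide +kernel

def LT : List ((ℤ × ℤ × ℤ × ℤ) × (ℤ × ℤ × ℤ × ℤ) × (ℤ × ℤ × ℤ × ℤ)) :=
  [((4, 4, 0, 0), (4, -4, 0, 0), (-3, 1, 1, 1)), ((-4, -4, 0, 0), (-4, 4, 0, 0), (3, -1, -1, -1)),
    ((4, 4, 0, 0), (-4, 4, 0, 0), (1, -3, 1, 1)), ((-4, -4, 0, 0), (4, -4, 0, 0), (-1, 3, -1, -1))]

theorem L8_LT : ∀ x ∈ L8, ∀ s ∈ L8, BB4 x s = 0 → ∀ v ∈ L8, BB4 v x = -8 → BB4 v s = -16 → (x, s, v) ∈ LT := by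
  decide +kernel

theorem L12_M22 (x : ℤ × ℤ × ℤ × ℤ) (hx : x ∈ L12) (hx' : x.2.2.1 = x.2.2.2) (s : ℤ × ℤ × ℤ × ℤ) (hs : s ∈ L12)
    (hs' : s.2.2.1 = s.2.2.2) (h : BB4 x s = 0) (v : ℤ × ℤ × ℤ × ℤ) (hv : v ∈ L12) (hv' : v.2.2.1 = v.2.2.2)
    (h1 : BB4 v x = -8) (h2 : BB4 v s = -16) :
    (x = (4, 4, 0, 0) ∧ s = (4, -4, 0, 0) ∧ v = (-3, 1, 1, 1)) ∨ (x = (-4, -4, 0, 0) ∧ s = (-4, 4, 0, 0) ∧ v = (3, -1, -1, -1)) ∨
    (x = (4, 4, 0, 0) ∧ s = (-4, 4, 0, 0) ∧ v = (1, -3, 1, 1)) ∨ (x = (-4, -4, 0, 0) ∧ s = (4, -4, 0, 0) ∧ v = (-1, 3, -1, -1)) := by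
  have h3 := L8_LT x (L12_L8 x hx hx') s (L12_L8 s hs hs') h v (L12_L8 v hv hv') h1 h2
  unfold LT at h3
  simp only [List.mem_cons, Prod.mk.injEq, List.not_mem_nil, or_false] at h3
  rcases x with ⟨x1, x2, x3, x4⟩
  rcases s with ⟨s1, s2, s3, s4⟩
  rcases v with ⟨v1, v2, v3, v4⟩
  simp only [Prod.mk.injEq] at h3 ⊢
  exact h3

theorem quad_X : quad (X hab) = (4, 4, 0, 0) := by unfold quad; rw [X_none, X_b0, X_1, X_m1]
theorem quad_S : quad (S hab) = (4, -4, 0, 0) := by unfold quad; rw [S_none, S_b0, S_1, S_m1]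

theorem quad_UX : quad (U none - X hab) = (1, -3, 1, 1) := by
  unfold quad; rw [coe_UX, coe_UX, coe_UX, coe_UX]; rfl

/-- elements commuting with `M22` -/
theorem cent_M22 {γ : Co0} (h : ∀ g ∈ M22, γ * g = g * γ) : γ = 1 ∨ γ = negOne := by
  -- first the case `γ X = X`
  have hrh : γ * peH rh = peH rh * γ := h _ (P11_le (mem_zpowers _))
  have key : ∀ γ : Co0, (∀ g ∈ M22, γ * g = g * γ) → γ • X hab = X hab →
      ((γ • S hab = S hab ∧ γ • V3 = V3) ∨ (γ • S hab = -S hab ∧ γ • V3 = U none - X hab)) → γ = 1 := by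
    intro γ h hX hc
    have hcu : peH cu ∈ M22 := ⟨cu, ⟨cu_none, cu_b0⟩, rfl⟩
    rcases hc with ⟨hS, hV⟩ | ⟨hS, hV⟩
    · obtain ⟨y, rfl⟩ := peH_of_UV hV (by rw [V3_ef, smul_add', hV, fix_ef hX hS])
      rw [triv_T23 (h _ (P11_le (mem_zpowers _))) (h _ hcu)]
      exact map_one peH
    · exfalso
      obtain ⟨t, ht, t1, t2⟩ := exists_two (a := none) (b := b0) (a' := b0) (b' := none) hab hab.symm
      set τ : M24 := ⟨t, ht⟩ with hτ
      have ts1 : t.symm none = b0 := by rw [Equiv.symm_apply_eq, t2]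
      have ts2 : t.symm b0 = none := by rw [Equiv.symm_apply_eq, t1]
      have tX : peH τ • X hab = X hab := by
        apply Subtype.ext
        rw [peH_smul]
        funext i
        show (X hab : GolayPt → ℤ) (t.symm i) = _
        by_cases h1 : i = none
        · rw [h1, ts1]; rfl
        by_cases h2 : i = b0
        · rw [h2, ts2]; rfl
        have h3 : t.symm i ≠ none := fun h => h2 (by rw [Equiv.symm_apply_eq, t1] at h; exact h)
        have h4 : t.symm i ≠ b0 := fun h => h1 (by rw [Equiv.symm_apply_eq, t2] at h; exact h)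
        rw [coe_X, Pi.add_apply, Pi.add_apply, Pi.single_eq_of_ne h3, Pi.single_eq_of_ne h4, Pi.single_eq_of_ne h1,
          Pi.single_eq_of_ne h2]
      have tS : peH τ • (-S hab) = S hab := by
        apply Subtype.ext
        rw [peH_smul]
        funext i
        show ((-S hab : leechLattice) : GolayPt → ℤ) (t.symm i) = _
        rw [coe_neg', Pi.neg_apply]
        by_cases h1 : i = none
        · rw [h1, ts1]; rfl
        by_cases h2 : i = b0
        · rw [h2, ts2]; rfl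
        have h3 : t.symm i ≠ none := fun h => h2 (by rw [Equiv.symm_apply_eq, t1] at h; exact h)
        have h4 : t.symm i ≠ b0 := fun h => h1 (by rw [Equiv.symm_apply_eq, t2] at h; exact h)
        rw [coe_S, Pi.sub_apply, Pi.sub_apply, Pi.single_eq_of_ne h3, Pi.single_eq_of_ne h4, Pi.single_eq_of_ne h1,
          Pi.single_eq_of_ne h2]; norm_num
      have tV : peH τ • (U none - X hab) = V3 := by
        apply Subtype.ext
        rw [peH_smul]
        funext i
        show ((U none - X hab : leechLattice) : GolayPt → ℤ) (t.symm i) = _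
        rw [coe_UX, V3_apply]
        by_cases h1 : i = none
        · rw [h1, ts1, if_pos rfl, if_pos rfl]
        · have h4 : t.symm i ≠ b0 := fun h => h1 (by rw [Equiv.symm_apply_eq, t2] at h; exact h)
          rw [if_neg h4, if_neg h1]
      have hfix : peH τ * γ ∈ M22 := by
        have e1 : (peH τ * γ) • X hab = X hab := by rw [mul_smul, hX, tX]
        have e2 : (peH τ * γ) • S hab = S hab := by rw [mul_smul, hS, tS]
        have e3 : (peH τ * γ) • V3 = V3 := by rw [mul_smul, hV, tV]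
        apply mem_M22 e1 e2
        rw [V3_ef, smul_add', e3, fix_ef e1 e2]
      obtain ⟨σ, hσ, hσ2⟩ := hfix
      obtain ⟨ρ, hρ⟩ : ∃ ρ : M24, ρ = τ⁻¹ * σ := ⟨_, rfl⟩
      have hγ : γ = peH ρ := by
        rw [hρ, map_mul, map_inv]
        show γ = (peH τ)⁻¹ * peH σ
        rw [hσ2, inv_mul_cancel_left]
      have hσn : (σ : Equiv.Perm GolayPt) none = none := hσ.1
      have hσb : (σ : Equiv.Perm GolayPt) b0 = b0 := hσ.2
      have ρn : (ρ : Equiv.Perm GolayPt) none = b0 := by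
        rw [hρ]
        show t.symm ((σ : Equiv.Perm GolayPt) none) = b0
        rw [hσn, ts1]
      have ρb : (ρ : Equiv.Perm GolayPt) b0 = none := by
        rw [hρ]
        show t.symm ((σ : Equiv.Perm GolayPt) b0) = none
        rw [hσb, ts2]
      have hρc : ∀ m : M24, (m : Equiv.Perm GolayPt) none = none → (m : Equiv.Perm GolayPt) b0 = b0 → ρ * m = m * ρ := by
        intro m hm1 hm2
        apply peH_inj
        rw [map_mul, map_mul, ← hγ]
        exact h _ ⟨m, ⟨hm1, hm2⟩, rfl⟩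
      have hfixρ : ∀ i, i ≠ none → i ≠ b0 → (ρ : Equiv.Perm GolayPt) i = i := by
        intro i hi1 hi2
        by_contra hne
        set j := (ρ : Equiv.Perm GolayPt) i with hj
        have hj1 : j ≠ none := fun h => hi2 ((ρ : Equiv.Perm GolayPt).injective (h.trans ρb.symm))
        have hj2 : j ≠ b0 := fun h => hi1 ((ρ : Equiv.Perm GolayPt).injective (h.trans ρn.symm))
        obtain ⟨k, hk⟩ := exists_point_ne {none, b0, i, j} (lt_of_le_of_lt Finset.card_le_four (by norm_num))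
        simp only [Finset.mem_insert, Finset.mem_singleton, not_or] at hk
        obtain ⟨m, hm, m1, m2, m3, m4⟩ := exists_four (a := none) (b := b0) (c := i) (d := j) (a' := none) (b' := b0)
          (c' := i) (d' := k) hab hi1.symm hi2.symm hj1.symm hj2.symm (Ne.symm hne) hab hi1.symm hi2.symm
          (Ne.symm hk.1) (Ne.symm hk.2.1) (Ne.symm hk.2.2.1)
        have h5 := congrArg (fun σ : M24 => (σ : Equiv.Perm GolayPt) i) (hρc ⟨m, hm⟩ m1 m2)
        have h6 : (ρ : Equiv.Perm GolayPt) (m i) = m ((ρ : Equiv.Perm GolayPt) i) := h5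
        rw [m3, ← hj, m4] at h6
        exact hk.2.2.2 h6.symm
      have hcard := MathieuFix.card_Fix_le ρ.2 (by
        intro h5
        rw [h5] at ρn
        exact hab ρn)
      have hsub : ({none, b0} : Finset GolayPt)ᶜ ⊆ GolayFix.Fix (ρ : Equiv.Perm GolayPt) := by
        intro i hi
        rw [Finset.mem_compl, Finset.mem_insert, Finset.mem_singleton, not_or] at hi
        rw [GolayFix.mem_Fix]
        exact hfixρ i hi.1 hi.2
      have h7 := Finset.card_le_card hsub
      rw [card_compl_pt] at h7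
      have h8 : ({none, b0} : Finset GolayPt).card ≤ 2 := Finset.card_le_two
      omega
  have hM22 : ∀ {v : leechLattice}, (∀ g ∈ M22, g • v = v) → (peH rh • (γ • v) = γ • v ∧
      (quad (γ • v)).2.2.1 = (quad (γ • v)).2.2.2) := by
    intro v hv
    have h1 : ∀ g ∈ M22, g • (γ • v) = γ • v := fun g hg => fix_of_comm (h g hg) (hv g hg)
    refine ⟨fixM22_11 h1, ?_⟩
    exact (fixM22 h1 (-1) neg_one_ne).symm
  have vX : ∀ g ∈ M22, g • X hab = X hab := fun g hg => (mem_fix2.1 (mclH_M22 hg)).1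
  have vS : ∀ g ∈ M22, g • S hab = S hab := fun g hg => (mem_fix2.1 (hsH_M22 hg)).2
  have vV : ∀ g ∈ M22, g • V3 = V3 := fun g hg => by
    obtain ⟨σ, hσ, rfl⟩ := M22_le_M23 hg
    exact peH_V3 ⟨σ, hσ⟩
  obtain ⟨x1, x2⟩ := hM22 vX
  obtain ⟨s1, s2⟩ := hM22 vS
  obtain ⟨w1, w2⟩ := hM22 vV
  have dXS := dot_smul γ (X hab) (S hab)
  have dVX := dot_smul γ V3 (X hab)
  have dVS := dot_smul γ V3 (S hab)
  rw [dot_const11 x1 s1, dot_const11 rh_X rh_S, quad_X, quad_S] at dXS
  rw [dot_const11 w1 x1, dot_const11 rh_V3 rh_X, quad_X, quad_V3] at dVX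
  rw [dot_const11 w1 s1, dot_const11 rh_V3 rh_S, quad_S, quad_V3] at dVS
  have hneg : ∀ g ∈ M22, (negOne * γ) * g = g * (negOne * γ) := by
    intro g hg
    rw [mul_assoc, h g hg, ← mul_assoc, ← mul_assoc, negOne_comm]
  rcases L12_M22 _ (mem12 x1 (by rw [sqNorm_smul]; exact sqNorm_X hab)) x2 _ (mem12 s1 (by rw [sqNorm_smul]; exact sqNorm_S)) s2
    (by rw [dXS]; decide) _ (mem12 w1 (by rw [sqNorm_smul]; exact sqNorm_V3)) w2 (by rw [dVX]; decide) (by rw [dVS]; decide)
    with ⟨e1, e2, e3⟩ | ⟨e1, e2, e3⟩ | ⟨e1, e2, e3⟩ | ⟨e1, e2, e3⟩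
  · left
    exact key γ h (quad_inj x1 rh_X (by rw [e1, quad_X]))
      (Or.inl ⟨quad_inj s1 rh_S (by rw [e2, quad_S]), quad_inj w1 rh_V3 (by rw [e3, quad_V3])⟩)
  · right
    have hX : γ • X hab = -X hab := quad_inj x1 (by rw [smul_neg', rh_X]) (by rw [e1, ← negOne_smul, quad_neg quad_X]; norm_num)
    have hS : γ • S hab = -S hab := quad_inj s1 rh_negS (by rw [e2, ← negOne_smul, quad_neg quad_S]; norm_num)
    have hV : γ • V3 = -V3 := quad_inj w1 (by rw [smul_neg', rh_V3]) (by rw [e3, ← negOne_smul, quad_neg quad_V3]; norm_num)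
    have h1 := key (negOne * γ) hneg (by rw [mul_smul, hX, negOne_smul, neg_neg])
      (Or.inl ⟨by rw [mul_smul, hS, negOne_smul, neg_neg], by rw [mul_smul, hV, negOne_smul, neg_neg]⟩)
    have h2 : negOne * (negOne * γ) = negOne * 1 := by rw [h1]
    rw [← mul_assoc, negOne_sq, one_mul, mul_one] at h2
    exact h2
  · left
    exact key γ h (quad_inj x1 rh_X (by rw [e1, quad_X]))
      (Or.inr ⟨quad_inj s1 rh_negS (by rw [e2, ← negOne_smul, quad_neg quad_S]; norm_num),
        quad_inj w1 rh_UX (by rw [e3, quad_UX])⟩)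
  · right
    have hX : γ • X hab = -X hab := quad_inj x1 (by rw [smul_neg', rh_X]) (by rw [e1, ← negOne_smul, quad_neg quad_X]; norm_num)
    have hS : γ • S hab = S hab := quad_inj s1 rh_S (by rw [e2, quad_S])
    have hV : γ • V3 = -(U none - X hab) :=
      quad_inj w1 (by rw [smul_neg', rh_UX]) (by rw [e3, ← negOne_smul, quad_neg quad_UX]; norm_num)
    have h1 := key (negOne * γ) hneg (by rw [mul_smul, hX, negOne_smul, neg_neg])
      (Or.inr ⟨by rw [mul_smul, hS, negOne_smul], by rw [mul_smul, hV, negOne_smul, neg_neg]⟩)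
    have h2 : negOne * (negOne * γ) = negOne * 1 := by rw [h1]
    rw [← mul_assoc, negOne_sq, one_mul, mul_one] at h2
    exact h2

end Cfsg.Agent.Lib.LeechSyl
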