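import Cfsg.Agent.Lib.LeechOut1b

/-!
The outer automorphism group of `Co1`, part three: the elements attached to tetrads.
-/

set_option autoImplicit false

namespace Cfsg.Agent.Lib.LeechSyl

open Cfsg Cfsg.Agent.Lib.Golay Cfsg.Agent.Lib.LeechMin Cfsg.Agent.Lib.GolayCoset Cfsg.Agent.Lib.LeechXi
  Cfsg.Agent.Lib.LeechTrans Cfsg.Agent.Lib.LeechCo2 Cfsg.Agent.Lib.LeechFrame Cfsg.Agent.Lib.LeechCount
  Cfsg.Agent.Lib.LeechOrder Cfsg.Agent.Lib.LeechMod Cfsg.Agent.Lib.LeechQuot Cfsg.Agent.Lib.LeechChain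
open Subgroup
open scoped Pointwise

/-! ### two elements of order fifteen -/

def cG : ℕ := 972716104378504517217802716581433411
theorem inM_cG : inM cG = true := by decide +kernel
noncomputable def gG : M24 := ⟨toPerm cG, toPerm_mem_M24 inM_cG⟩
theorem gG_apply (p : GolayPt) : (gG : Equiv.Perm GolayPt) p = pt (img cG (ix p)) := toPerm_apply (valid_of_inM inM_cG) p

def cH : ℕ := 965023912160209752972511232862425155
theorem inM_cH : inM cH = true := by decide +kernel
noncomputable def gH : M24 := ⟨toPerm cH, toPerm_mem_M24 inM_cH⟩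
theorem gH_apply (p : GolayPt) : (gH : Equiv.Perm GolayPt) p = pt (img cH (ix p)) := toPerm_apply (valid_of_inM inM_cH) p

theorem gG_pow : gG ^ 15 = 1 := by
  apply Subtype.ext
  ext1 p
  show ((gG : Equiv.Perm GolayPt) ^ 15) p = p
  rw [Equiv.Perm.coe_pow, show ((gG : Equiv.Perm GolayPt) : GolayPt → GolayPt) = fun p => pt (img cG (ix p)) from funext gG_apply]
  revert p
  decide +kernel

theorem gH_pow : gH ^ 15 = 1 := by
  apply Subtype.ext
  ext1 p
  show ((gH : Equiv.Perm GolayPt) ^ 15) p = p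
  rw [Equiv.Perm.coe_pow, show ((gH : Equiv.Perm GolayPt) : GolayPt → GolayPt) = fun p => pt (img cH (ix p)) from funext gH_apply]
  revert p
  decide +kernel

theorem gG_none : (gG : Equiv.Perm GolayPt) none = none := by rw [gG_apply]; decide +kernel
theorem gH_none : (gH : Equiv.Perm GolayPt) none = none := by rw [gH_apply]; decide +kernel

/-- the tetrad `{∞, 0, 3, 15}` -/
def T0 : Finset GolayPt := {none, some 0, some 3, some 15}

theorem card_T0 : T0.card = 4 := by decide +kernel

theorem gG_T0 : ∀ p ∈ T0, (gG : Equiv.Perm GolayPt) p ∈ T0 := by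
  intro p
  rw [gG_apply]
  revert p
  decide +kernel

theorem gH_T0 : ∀ p ∈ T0, (gH : Equiv.Perm GolayPt) p ∈ T0 := by
  intro p
  rw [gH_apply]
  revert p
  decide +kernel

theorem pts24 : ∀ i : GolayPt, i ∈ T0 ∨ i = some 9 ∨ i = some 21 ∨ i = some 8 ∨ i = some 11 ∨ i = some 13 ∨ i = some 5 ∨
    i = some 22 ∨ i = some 16 ∨ i = some 17 ∨ i = some 10 ∨ i = some 1 ∨ i = some 18 ∨ i = some 7 ∨ i = some 20 ∨
    i = some 6 ∨ i = some 2 ∨ i = some 19 ∨ i = some 12 ∨ i = some 14 ∨ i = some 4 := by decide +kernel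

theorem pts4 : ∀ i ∈ T0, i = none ∨ i = some 0 ∨ i = some 3 ∨ i = some 15 := by decide +kernel

/-- a predicate closed under the two elements -/
theorem spread {P : GolayPt → Prop} (hG : ∀ i, P i → P ((gG : Equiv.Perm GolayPt) i))
    (hH : ∀ i, P i → P ((gH : Equiv.Perm GolayPt) i)) : (P (some 9) → ∀ i, i ∉ T0 → P i) ∧
    (P (some 0) → P (some 3) ∧ P (some 15)) := by
  have eG : ∀ i j : GolayPt, pt (img cG (ix i)) = j → P i → P j := by
    intro i j h hi
    rw [← h, ← gG_apply]; exact hG i hi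
  have eH : ∀ i j : GolayPt, pt (img cH (ix i)) = j → P i → P j := by
    intro i j h hi
    rw [← h, ← gH_apply]; exact hH i hi
  constructor
  · intro h9
    have h21 := eG (some 9) (some 21) (by decide +kernel) h9
    have h8 := eH (some 9) (some 8) (by decide +kernel) h9
    have h11 := eG (some 21) (some 11) (by decide +kernel) h21
    have h13 := eH (some 21) (some 13) (by decide +kernel) h21
    have h5 := eG (some 8) (some 5) (by decide +kernel) h8
    have h22 := eH (some 8) (some 22) (by decide +kernel) h8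
    have h16 := eG (some 11) (some 16) (by decide +kernel) h11
    have h17 := eH (some 11) (some 17) (by decide +kernel) h11
    have h10 := eG (some 13) (some 10) (by decide +kernel) h13
    have h1 := eG (some 5) (some 1) (by decide +kernel) h5
    have h18 := eH (some 5) (some 18) (by decide +kernel) h5
    have h7 := eH (some 22) (some 7) (by decide +kernel) h22
    have h20 := eG (some 16) (some 20) (by decide +kernel) h16
    have h6 := eH (some 17) (some 6) (by decide +kernel) h17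
    have h2 := eG (some 1) (some 2) (by decide +kernel) h1
    have h19 := eG (some 18) (some 19) (by decide +kernel) h18
    have h12 := eH (some 18) (some 12) (by decide +kernel) h18
    have h14 := eH (some 6) (some 14) (by decide +kernel) h6
    have h4 := eG (some 2) (some 4) (by decide +kernel) h2
    intro i hi
    rcases pts24 i with h | h | h | h | h | h | h | h | h | h | h | h | h | h | h | h | h | h | h | h | h
    · exact absurd h hi
    all_goals rw [h]; assumption
  · intro h0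
    exact ⟨eG (some 0) (some 3) (by decide +kernel) h0, eG (some 3) (some 15) (by decide +kernel) (eG (some 0) (some 3) (by decide +kernel) h0)⟩

theorem val_of_fix {σ : M24} {v : leechLattice} (h : peH σ • v = v) (i : GolayPt) :
    (v : GolayPt → ℤ) ((σ : Equiv.Perm GolayPt) i) = (v : GolayPt → ℤ) i := by
  have h2 := congrFun (congrArg Subtype.val h) ((σ : Equiv.Perm GolayPt) i)
  rw [peH_smul] at h2
  beta_reduce at h2
  rw [Equiv.symm_apply_apply] at h2
  exact h2.symm

/-- vectors constant on the three orbits -/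
def CT (f : GolayPt → ℤ) (a b c : ℤ) : Prop := f none = a ∧ (∀ i ∈ T0, i ≠ none → f i = b) ∧ ∀ i, i ∉ T0 → f i = c

theorem const_T {v : leechLattice} (hG : peH gG • v = v) (hH : peH gH • v = v) :
    CT (v : GolayPt → ℤ) ((v : GolayPt → ℤ) none) ((v : GolayPt → ℤ) (some 0)) ((v : GolayPt → ℤ) (some 9)) := by
  refine ⟨rfl, ?_, ?_⟩
  · have h1 := (spread (P := fun i => (v : GolayPt → ℤ) i = (v : GolayPt → ℤ) (some 0)) (fun i hi => by rw [val_of_fix hG, hi])
      (fun i hi => by rw [val_of_fix hH, hi])).2 rfl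
    intro i hi hi0
    rcases pts4 i hi with h | h | h | h
    · exact absurd h hi0
    · rw [h]
    · rw [h]; exact h1.1
    · rw [h]; exact h1.2
  · exact (spread (P := fun i => (v : GolayPt → ℤ) i = (v : GolayPt → ℤ) (some 9)) (fun i hi => by rw [val_of_fix hG, hi])
      (fun i hi => by rw [val_of_fix hH, hi])).1 rfl

theorem CT_mul {f g : GolayPt → ℤ} {a b c a' b' c' : ℤ} (hf : CT f a b c) (hg : CT g a' b' c') :
    CT (fun i => f i * g i) (a * a') (b * b') (c * c') :=
  ⟨by show f none * g none = _; rw [hf.1, hg.1], fun i hi h0 => by show f i * g i = _; rw [hf.2.1 i hi h0, hg.2.1 i hi h0],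
    fun i hi => by show f i * g i = _; rw [hf.2.2 i hi, hg.2.2 i hi]⟩

theorem none_mem_T0 : none ∈ T0 := by decide

theorem CT_sum {f : GolayPt → ℤ} {a b c : ℤ} (hf : CT f a b c) : ∑ i, f i = a + 3 * b + 20 * c := by
  have h1 : ∀ i, f i = c + (b - c) * chi T0 i + (a - b) * chi {none} i := by
    intro i
    by_cases h0 : i = none
    · rw [h0, hf.1]
      simp [chi, none_mem_T0]
    · by_cases hi : i ∈ T0
      · rw [hf.2.1 i hi h0]; simp [chi, hi, h0]
      · rw [hf.2.2 i hi]; simp [chi, hi, h0]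
  rw [Finset.sum_congr rfl fun i _ => h1 i, Finset.sum_add_distrib, Finset.sum_add_distrib, ← Finset.mul_sum, ← Finset.mul_sum,
    sum_chi, sum_chi, sum_const, card_T0]
  simp; ring

theorem CT_sqNorm {f : GolayPt → ℤ} {a b c : ℤ} (hf : CT f a b c) : sqNorm f = a ^ 2 + 3 * b ^ 2 + 20 * c ^ 2 := by
  have h := CT_sum (CT_mul hf hf)
  unfold sqNorm
  rw [Finset.sum_congr rfl fun i _ => pow_two (f i), h]
  ring

theorem CT_dot {f g : GolayPt → ℤ} {a b c a' b' c' : ℤ} (hf : CT f a b c) (hg : CT g a' b' c') :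
    dotInt f g = a * a' + 3 * (b * b') + 20 * (c * c') := CT_sum (CT_mul hf hg)

theorem CT_ext {f g : GolayPt → ℤ} {a b c : ℤ} (hf : CT f a b c) (hg : CT g a b c) : f = g := by
  funext i
  by_cases h0 : i = none
  · rw [h0, hf.1, hg.1]
  · by_cases hi : i ∈ T0
    · rw [hf.2.1 i hi h0, hg.2.1 i hi h0]
    · rw [hf.2.2 i hi, hg.2.2 i hi]

theorem CT_neg {f : GolayPt → ℤ} {a b c : ℤ} (hf : CT f a b c) : CT (-f) (-a) (-b) (-c) :=
  ⟨by rw [Pi.neg_apply, hf.1], fun i hi h0 => by rw [Pi.neg_apply, hf.2.1 i hi h0], fun i hi => by rw [Pi.neg_apply, hf.2.2 i hi]⟩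

theorem CT_V3 : CT (V3 : GolayPt → ℤ) (-3) 1 1 :=
  ⟨by rw [V3_apply, if_pos rfl], fun i _ h0 => by rw [V3_apply, if_neg h0],
    fun i hi => by rw [V3_apply, if_neg (fun h => hi (by rw [h]; exact none_mem_T0))]⟩

theorem CT_U : CT (U none : GolayPt → ℤ) 5 1 1 := by
  refine ⟨U_none, fun i _ h0 => ?_, fun i hi => ?_⟩
  · rcases i with _ | j
    · exact absurd rfl h0
    · exact U_some j
  · rcases i with _ | j
    · exact absurd none_mem_T0 hi
    · exact U_some j

theorem not_code1 : mset 8388608 ∉ Sup := fun h =>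
  absurd ((mset_mem_supports_iff (by norm_num)).mp h) (by decide +kernel)
theorem not_code3 : mset 32777 ∉ Sup := fun h =>
  absurd ((mset_mem_supports_iff (by norm_num)).mp h) (by decide +kernel)
theorem not_code4 : mset 8421385 ∉ Sup := fun h =>
  absurd ((mset_mem_supports_iff (by norm_num)).mp h) (by decide +kernel)

theorem mset1 : ∀ i : GolayPt, i ∈ mset 8388608 ↔ i = none := by decide +kernel
theorem mset3 : ∀ i : GolayPt, i ∈ mset 32777 ↔ (i ∈ T0 ∧ i ≠ none) := by decide +kernel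
theorem mset4 : ∀ i : GolayPt, i ∈ mset 8421385 ↔ i ∈ T0 := by decide +kernel

theorem CT_mod {x : GolayPt → ℤ} (hx : x ∈ leechLattice) {a b c : ℤ} (h : CT x a b c) : (4 : ℤ) ∣ a - c ∧ (4 : ℤ) ∣ b - c := by
  obtain ⟨m, A, hA, h2, -⟩ := (mem_lattice_iff' _).1 hx
  have p1 := h2 none
  have p2 := h2 (some 0)
  have p3 := h2 (some 9)
  rw [h.1] at p1
  rw [h.2.1 (some 0) (by decide) (by decide)] at p2
  rw [h.2.2 (some 9) (by decide)] at p3
  have e1 : (2 : ℤ) ∣ a - c := by omega
  have e2 : (2 : ℤ) ∣ b - c := by omega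
  by_cases d1 : (4 : ℤ) ∣ a - c
  · by_cases d2 : (4 : ℤ) ∣ b - c
    · exact ⟨d1, d2⟩
    · exfalso
      apply not_code3
      apply mem_Sup_of hx (e := c)
      intro i
      by_cases h0 : i = none
      · have : chi (mset 32777) i = 0 := by unfold chi; rw [if_neg]; rw [mset3]; simp [h0]
        rw [this, h0, h.1]; omega
      · by_cases hi : i ∈ T0
        · have : chi (mset 32777) i = 1 := by unfold chi; rw [if_pos]; rw [mset3]; exact ⟨hi, h0⟩
          rw [this, h.2.1 i hi h0]; omega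
        · have : chi (mset 32777) i = 0 := by unfold chi; rw [if_neg]; rw [mset3]; simp [hi]
          rw [this, h.2.2 i hi]; omega
  · exfalso
    by_cases d2 : (4 : ℤ) ∣ b - c
    · apply not_code1
      apply mem_Sup_of hx (e := c)
      intro i
      by_cases h0 : i = none
      · have : chi (mset 8388608) i = 1 := by unfold chi; rw [if_pos]; rw [mset1]; exact h0
        rw [this, h0, h.1]; omega
      · have : chi (mset 8388608) i = 0 := by unfold chi; rw [if_neg]; rw [mset1]; exact h0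
        by_cases hi : i ∈ T0
        · rw [this, h.2.1 i hi h0]; omega
        · rw [this, h.2.2 i hi]; omega
    · apply not_code4
      apply mem_Sup_of hx (e := c)
      intro i
      by_cases h0 : i = none
      · have : chi (mset 8421385) i = 1 := by unfold chi; rw [if_pos]; rw [mset4, h0]; exact none_mem_T0
        rw [this, h0, h.1]; omega
      · by_cases hi : i ∈ T0
        · have : chi (mset 8421385) i = 1 := by unfold chi; rw [if_pos]; rw [mset4]; exact hi
          rw [this, h.2.1 i hi h0]; omega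
        · have : chi (mset 8421385) i = 0 := by unfold chi; rw [if_neg]; rw [mset4]; simp [hi]
          rw [this, h.2.2 i hi]; omega

theorem arith32 {a b c : ℤ} (h1 : a ^ 2 + 3 * b ^ 2 + 20 * c ^ 2 = 32) (h2 : (4 : ℤ) ∣ a - c) (h3 : (4 : ℤ) ∣ b - c) :
    (a = -3 ∧ b = 1 ∧ c = 1) ∨ (a = 3 ∧ b = -1 ∧ c = -1) := by
  have hc : c ≤ 1 ∧ -1 ≤ c := by constructor <;> nlinarith [sq_nonneg a, sq_nonneg b]
  have hb : b ≤ 3 ∧ -3 ≤ b := by constructor <;> nlinarith [sq_nonneg a, sq_nonneg c]
  have ha : a ≤ 5 ∧ -5 ≤ a := by constructor <;> nlinarith [sq_nonneg b, sq_nonneg c]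
  obtain ⟨ha1, ha2⟩ := ha
  obtain ⟨hb1, hb2⟩ := hb
  obtain ⟨hc1, hc2⟩ := hc
  interval_cases c <;> interval_cases b <;> interval_cases a <;> first | (exfalso; revert h1; norm_num; done) | (exfalso; omega) | simp

theorem arith48 {a b c : ℤ} (h1 : a ^ 2 + 3 * b ^ 2 + 20 * c ^ 2 = 48) (h4 : a * (-3) + 3 * (b * 1) + 20 * (c * 1) = 8)
    (h2 : (4 : ℤ) ∣ a - c) (h3 : (4 : ℤ) ∣ b - c) :
    (a = 5 ∧ b = 1 ∧ c = 1) ∨ (a = 1 ∧ b = -3 ∧ c = 1) := by
  have hc : c ≤ 1 ∧ -1 ≤ c := by constructor <;> nlinarith [sq_nonneg a, sq_nonneg b]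
  have hb : b ≤ 4 ∧ -4 ≤ b := by constructor <;> nlinarith [sq_nonneg a, sq_nonneg c]
  have ha : a ≤ 6 ∧ -6 ≤ a := by constructor <;> nlinarith [sq_nonneg b, sq_nonneg c]
  obtain ⟨ha1, ha2⟩ := ha
  obtain ⟨hb1, hb2⟩ := hb
  obtain ⟨hc1, hc2⟩ := hc
  interval_cases c <;> interval_cases b <;> interval_cases a <;> first | (exfalso; revert h1; norm_num; done) | (exfalso; revert h4; norm_num; done) | (exfalso; omega) | simp

/-! ### the Conway element of `T0` -/

noncomputable def xT : Co0 := ⟨xi T0 card_T0, xi_mem card_T0⟩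

theorem coe_xT (v : leechLattice) : ((xT • v : leechLattice) : GolayPt → ℤ) = xiF T0 v := rfl

theorem xT_sq : xT * xT = 1 := by
  apply ext_smul
  intro v
  apply Subtype.ext
  rw [mul_smul, one_smul, coe_xT, coe_xT]
  exact xiF_xiF card_T0 v.2

theorem T0_mem : T0 ∈ sextetOf T0 := self_mem_sextetOf card_T0

theorem xiF_CT {x : GolayPt → ℤ} {a b c : ℤ} (h : CT x a b c) :
    CT (xiF T0 x) (-(a - (a + 3 * b) / 2)) (-(b - (a + 3 * b) / 2)) (-c) := by
  have hT : ∑ q ∈ T0, x q = a + 3 * b := by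
    have : T0 = insert none {some 0, some 3, some 15} := rfl
    rw [this, Finset.sum_insert (by decide), Finset.sum_insert (by decide), Finset.sum_insert (by decide), Finset.sum_singleton,
      h.1, h.2.1 (some 0) (by decide) (by decide), h.2.1 (some 3) (by decide) (by decide),
      h.2.1 (some 15) (by decide) (by decide)]
    ring
  have hc : ∀ i ∈ T0, chi T0 i = 1 := fun i hi => by unfold chi; rw [if_pos hi]
  refine ⟨?_, fun i hi h0 => ?_, fun i hi => ?_⟩
  · rw [xiF_apply card_T0 T0_mem none_mem_T0, hT, hc _ none_mem_T0, h.1]; ring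
  · rw [xiF_apply card_T0 T0_mem hi, hT, hc _ hi, h.2.1 i hi h0]; ring
  · obtain ⟨h1, h2⟩ := tet_spec card_T0 i
    have hne : tet T0 i ≠ T0 := fun h3 => hi (by rw [← h3]; exact h2)
    have hd := disjoint_of_mem h1 T0_mem hne
    have hs : ∑ q ∈ tet T0 i, x q = 4 * c := by
      rw [Finset.sum_congr rfl fun q hq => h.2.2 q (fun h4 => Finset.disjoint_left.1 hd hq h4), Finset.sum_const,
        (mem_sextetOf.1 h1).1]
      simp
    rw [xiF_apply card_T0 h1 h2, hs, h.2.2 i hi]
    have : chi T0 i = 0 := by unfold chi; rw [if_neg hi]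
    rw [this]; omega

theorem xT_V3 : xT • V3 = -V3 := by
  apply Subtype.ext
  rw [coe_xT, coe_neg']
  have h1 := xiF_CT CT_V3
  norm_num at h1
  exact CT_ext h1 (by have := CT_neg CT_V3; norm_num at this; exact this)

theorem CT_xU : CT ((xT • U none : leechLattice) : GolayPt → ℤ) (-1) 3 (-1) := by
  rw [coe_xT]
  have h1 := xiF_CT CT_U
  norm_num at h1
  exact h1

theorem smul_sextet {σ : Equiv.Perm GolayPt} (hσ : σ ∈ M24) (hT : σ • T0 = T0) {t : Finset GolayPt} (ht : t ∈ sextetOf T0) :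
    σ • t ∈ sextetOf T0 := by
  rw [mem_sextetOf] at ht ⊢
  refine ⟨by rw [Finset.card_smul_finset]; exact ht.1, ?_⟩
  have h1 := LeechMin.smul_mem_Sup hσ ht.2
  rwa [Finset.smul_finset_symmDiff, hT] at h1

theorem xT_comm (σ : M24) (h : ∀ p ∈ T0, (σ : Equiv.Perm GolayPt) p ∈ T0) : xT * peH σ = peH σ * xT := by
  have hT : (σ : Equiv.Perm GolayPt)⁻¹ • T0 = T0 := by
    ext i
    rw [mem_smul]
    show (σ : Equiv.Perm GolayPt) i ∈ T0 ↔ i ∈ T0
    constructor
    · intro hi
      have h1 := (symm_mem_iff h ((σ : Equiv.Perm GolayPt) i)).2 hi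
      rwa [Equiv.symm_apply_apply] at h1
    · exact h i
  apply ext_smul
  intro v
  apply Subtype.ext
  rw [mul_smul, mul_smul, coe_xT, peH_smul, peH_smul, coe_xT]
  funext i
  obtain ⟨h1, h2⟩ := tet_spec card_T0 i
  have h3 := smul_sextet (inv_mem σ.2) hT h1
  have h4 : (σ : Equiv.Perm GolayPt).symm i ∈ (σ : Equiv.Perm GolayPt)⁻¹ • tet T0 i := by
    rw [mem_smul]
    show (σ : Equiv.Perm GolayPt) ((σ : Equiv.Perm GolayPt).symm i) ∈ _
    rw [Equiv.apply_symm_apply]; exact h2
  rw [xiF_apply card_T0 h1 h2, xiF_apply card_T0 h3 h4]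
  have h5 : chi T0 ((σ : Equiv.Perm GolayPt).symm i) = chi T0 i := by
    unfold chi
    by_cases hi : i ∈ T0
    · rw [if_pos hi, if_pos ((symm_mem_iff h i).2 hi)]
    · rw [if_neg hi, if_neg (fun h6 => hi ((symm_mem_iff h i).1 h6))]
  have h6 : ∑ q ∈ (σ : Equiv.Perm GolayPt)⁻¹ • tet T0 i, (v : GolayPt → ℤ) q =
      ∑ q ∈ tet T0 i, (v : GolayPt → ℤ) ((σ : Equiv.Perm GolayPt).symm q) := by
    rw [← Finset.image_smul, Finset.sum_image (fun a _ b _ hab => (MulAction.injective (σ : Equiv.Perm GolayPt)⁻¹) hab)]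
    rfl
  rw [h5, h6]

theorem peH_comm_iff {y z : M24} : peH y * peH z = peH z * peH y ↔ y * z = z * y := by
  rw [← map_mul, ← map_mul]
  exact ⟨fun h => peH_inj h, fun h => by rw [h]⟩

theorem pow5_fix : ∀ i : GolayPt, (fun p => pt (img cG (ix p)))^[5] i = i → (fun p => pt (img cH (ix p)))^[5] i = i →
    i = none ∨ i = some 9 := by decide +kernel

theorem pow5_G9 : (fun p : GolayPt => pt (img cG (ix p)))^[5] (some 9) = some 9 := by decide +kernel
theorem pow5_H9 : (fun p : GolayPt => pt (img cH (ix p)))^[5] (some 9) = some 9 := by decide +kernel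

theorem triv_GH {y : M24} (hn : (y : Equiv.Perm GolayPt) none = none) (hG : y * gG = gG * y) (hH : y * gH = gH * y) : y = 1 := by
  have cG' : ∀ i, (y : Equiv.Perm GolayPt) ((gG : Equiv.Perm GolayPt) i) = (gG : Equiv.Perm GolayPt) ((y : Equiv.Perm GolayPt) i) :=
    fun i => congrArg (fun σ : M24 => (σ : Equiv.Perm GolayPt) i) hG
  have cH' : ∀ i, (y : Equiv.Perm GolayPt) ((gH : Equiv.Perm GolayPt) i) = (gH : Equiv.Perm GolayPt) ((y : Equiv.Perm GolayPt) i) :=
    fun i => congrArg (fun σ : M24 => (σ : Equiv.Perm GolayPt) i) hH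
  have i5 : ∀ (f : GolayPt → GolayPt), (∀ i, (y : Equiv.Perm GolayPt) (f i) = f ((y : Equiv.Perm GolayPt) i)) →
      ∀ i, (y : Equiv.Perm GolayPt) (f^[5] i) = f^[5] ((y : Equiv.Perm GolayPt) i) := by
    intro f hf i
    simp only [Function.iterate_succ, Function.iterate_zero, Function.comp_apply, id]
    rw [hf, hf, hf, hf, hf]
  have eG : ((gG : Equiv.Perm GolayPt) : GolayPt → GolayPt) = fun p => pt (img cG (ix p)) := funext gG_apply
  have eH : ((gH : Equiv.Perm GolayPt) : GolayPt → GolayPt) = fun p => pt (img cH (ix p)) := funext gH_apply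
  have j1 := i5 _ cG' (some 9)
  have j2 := i5 _ cH' (some 9)
  rw [eG, pow5_G9] at j1
  rw [eH, pow5_H9] at j2
  have h9 : (y : Equiv.Perm GolayPt) (some 9) = some 9 := by
    rcases pow5_fix _ j1.symm j2.symm with h | h
    · exfalso
      have := (y : Equiv.Perm GolayPt).injective (h.trans hn.symm)
      exact absurd this (by decide)
    · exact h
  have hall := (spread (P := fun i => (y : Equiv.Perm GolayPt) i = i) (fun i hi => by rw [cG', hi])
    (fun i hi => by rw [cH', hi])).1 h9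
  by_contra hne
  have hcard := MathieuFix.card_Fix_le y.2 (fun h => hne (Subtype.ext h))
  have hsub : T0ᶜ ⊆ GolayFix.Fix (y : Equiv.Perm GolayPt) := by
    intro i hi
    rw [GolayFix.mem_Fix]
    exact hall i (Finset.mem_compl.1 hi)
  have h7 := Finset.card_le_card hsub
  rw [card_compl_pt, card_T0] at h7
  omega

theorem G_V3 : peH gG • V3 = V3 := peH_V3 ⟨gG, gG_none⟩
theorem H_V3 : peH gH • V3 = V3 := peH_V3 ⟨gH, gH_none⟩
theorem G_U : peH gG • U none = U none := peH_U ⟨gG, gG_none⟩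
theorem H_U : peH gH • U none = U none := peH_U ⟨gH, gH_none⟩

theorem xT_G : xT * peH gG = peH gG * xT := xT_comm gG gG_T0
theorem xT_H : xT * peH gH = peH gH * xT := xT_comm gH gH_T0

theorem triv_UV {γ : Co0} (h1 : γ * peH gG = peH gG * γ) (h2 : γ * peH gH = peH gH * γ) (hV : γ • V3 = V3)
    (hU : γ • U none = U none) : γ = 1 := by
  obtain ⟨y, rfl⟩ := peH_of_UV hV hU
  rw [triv_GH y.2 (peH_comm_iff.1 h1) (peH_comm_iff.1 h2)]
  exact map_one peH

theorem comm_mul {s γ p : Co0} (h1 : s * p = p * s) (h2 : γ * p = p * γ) : (s * γ) * p = p * (s * γ) := by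
  rw [mul_assoc, h2, ← mul_assoc, h1, mul_assoc]

theorem cent_T {γ : Co0} (h1 : γ * peH gG = peH gG * γ) (h2 : γ * peH gH = peH gH * γ) : mkZ γ = 1 ∨ mkZ γ = mkZ xT := by
  have hneg : ∀ p : Co0, negOne * p = p * negOne := fun p => (negOne_comm p).symm
  -- the case `γ V3 = V3`
  have key : ∀ γ : Co0, γ * peH gG = peH gG * γ → γ * peH gH = peH gH * γ → γ • V3 = V3 → mkZ γ = 1 ∨ mkZ γ = mkZ xT := by
    intro γ h1 h2 hV
    have f1 := fix_of_comm h1 G_U
    have f2 := fix_of_comm h2 H_U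
    have hc := const_T f1 f2
    have e1 := CT_sqNorm hc
    rw [sqNorm_smul, sqNorm_U] at e1
    have e2 := CT_dot hc CT_V3
    have e3 := dot_smul γ (U none) V3
    rw [hV, CT_dot CT_U CT_V3, e2] at e3
    have e4 := CT_mod (γ • U none).2 hc
    rcases arith48 e1.symm (by rw [e3]; norm_num) e4.1 e4.2 with ⟨a1, a2, a3⟩ | ⟨a1, a2, a3⟩
    · left
      rw [a1, a2, a3] at hc
      rw [triv_UV h1 h2 hV (Subtype.ext (CT_ext hc CT_U)), map_one]
    · right
      rw [a1, a2, a3] at hc
      have e5 : γ • U none = negOne • xT • U none := by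
        apply Subtype.ext
        rw [negOne_smul, coe_neg']
        have := CT_neg CT_xU
        norm_num at this
        exact CT_ext hc this
      have e6 : γ • V3 = negOne • xT • V3 := by rw [hV, xT_V3, negOne_smul, neg_neg]
      have e7 : (negOne * xT) * (negOne * xT) = 1 := by
        rw [mul_assoc, ← mul_assoc xT, negOne_comm, mul_assoc negOne, xT_sq, mul_one, negOne_sq]
      have e8 : (negOne * xT) * γ = 1 := by
        apply triv_UV (comm_mul (comm_mul (hneg _) xT_G) h1) (comm_mul (comm_mul (hneg _) xT_H) h2)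
        · rw [mul_smul, e6, ← mul_smul negOne xT V3, ← mul_smul, e7, one_smul]
        · rw [mul_smul, e5, ← mul_smul negOne xT (U none), ← mul_smul, e7, one_smul]
      have e9 : γ = negOne * xT := by
        have : γ = (negOne * xT) * ((negOne * xT) * γ) := by rw [← mul_assoc, e7, one_mul]
        rw [this, e8, mul_one]
      rw [e9, mkZ_negOne]
  have f1 := fix_of_comm h1 G_V3
  have f2 := fix_of_comm h2 H_V3
  have hc := const_T f1 f2
  have e1 := CT_sqNorm hc
  rw [sqNorm_smul, sqNorm_V3] at e1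
  have e4 := CT_mod (γ • V3).2 hc
  rcases arith32 e1.symm e4.1 e4.2 with ⟨a1, a2, a3⟩ | ⟨a1, a2, a3⟩
  · rw [a1, a2, a3] at hc
    exact key γ h1 h2 (Subtype.ext (CT_ext hc CT_V3))
  · rw [a1, a2, a3] at hc
    have h3 : negOne • γ • V3 = V3 := by
      apply Subtype.ext
      rw [negOne_smul, coe_neg']
      have := CT_neg hc
      norm_num at this
      exact CT_ext this CT_V3
    have h4 := key (negOne * γ) (comm_mul (hneg _) h1) (comm_mul (hneg _) h2) (by rw [mul_smul, h3])
    rwa [mkZ_negOne] at h4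

theorem mkZ_xT_ne : mkZ xT ≠ 1 := by
  intro h
  rcases mkZ_eq_one.1 h with h1 | h1
  · have h2 := CT_xU.2.1 (some 0) (by decide) (by decide)
    rw [h1, one_smul, U_some] at h2
    exact absurd h2 (by norm_num)
  · have h2 := CT_xU.2.1 (some 0) (by decide) (by decide)
    rw [h1, negOne_smul, coe_neg', Pi.neg_apply, U_some] at h2
    exact absurd h2 (by norm_num)

/-- an automorphism of `Co1` fixing `M23` fixes the Conway element -/
theorem fix_xT (β : Spor.Co1 ≃* Spor.Co1) (hβ : ∀ y : T23, β (f1 y) = f1 y) : β (mkZ xT) = mkZ xT := by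
  obtain ⟨γ, hγ⟩ := mkZ_surj (β (mkZ xT))
  have hcomm : ∀ (y : T23) (n : ℕ), Odd n → (y : M24) ^ n = 1 → xT * peH (y : M24) = peH (y : M24) * xT →
      γ * peH (y : M24) = peH (y : M24) * γ := by
    intro y n hn hy h
    apply comm_odd hn (by rw [← map_pow, hy, map_one])
    rw [hγ]
    have h1 : mkZ (peH (y : M24)) = β (f1 y) := (hβ y).symm
    rw [h1, ← map_mul, ← map_mul, f1_apply, ← map_mul, ← map_mul, h]
  have h1 := cent_T (hcomm ⟨gG, gG_none⟩ 15 (by decide) gG_pow xT_G) (hcomm ⟨gH, gH_none⟩ 15 (by decide) gH_pow xT_H)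
  rw [hγ] at h1
  rcases h1 with h1 | h1
  · exfalso
    exact mkZ_xT_ne (β.injective (by rw [h1, map_one]))
  · exact h1

end Cfsg.Agent.Lib.LeechSyl
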