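import Cfsg.Agent.Lib.LeechOut1c

/-!
The outer automorphism group of `Co1`, part four: conclusion.
-/

set_option autoImplicit false

namespace Cfsg.Agent.Lib.LeechSyl

open Cfsg Cfsg.Agent.Lib.Golay Cfsg.Agent.Lib.LeechMin Cfsg.Agent.Lib.GolayCoset Cfsg.Agent.Lib.LeechXi
  Cfsg.Agent.Lib.LeechTrans Cfsg.Agent.Lib.LeechCo2 Cfsg.Agent.Lib.LeechFrame Cfsg.Agent.Lib.LeechCount
  Cfsg.Agent.Lib.LeechOrder Cfsg.Agent.Lib.LeechMod Cfsg.Agent.Lib.LeechQuot Cfsg.Agent.Lib.LeechChain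
open Subgroup
open scoped Pointwise

theorem xT_not_mem_N : xT ∉ N := by
  rintro ⟨σ, hσ, c, hc, h⟩
  have h1 : CT (ef none : GolayPt → ℤ) 8 0 0 := by
    rw [coe_ef]
    refine ⟨by simp, fun i _ h0 => ?_, fun i hi => ?_⟩
    · rw [Pi.single_eq_of_ne h0]
    · rw [Pi.single_eq_of_ne (fun h => hi (by rw [h]; exact none_mem_T0))]
  have h2 := xiF_CT h1
  have h3 := congrFun (h (ef none)) none
  rw [coe_xT, h2.1] at h3
  unfold signedPerm at h3
  rw [coe_ef] at h3
  by_cases h4 : σ.symm none = none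
  · rw [h4, Pi.single_eq_same] at h3
    revert h3
    split_ifs <;> norm_num
  · rw [Pi.single_eq_of_ne h4] at h3
    revert h3
    split_ifs <;> norm_num

/-- an automorphism of `Co1` fixing `M23` fixes the images of the permutations swapping `∞` and `0` -/
theorem fix_swap (β : Spor.Co1 ≃* Spor.Co1) (hβ : ∀ y : T23, β (f1 y) = f1 y) (t : M24)
    (t1 : (t : Equiv.Perm GolayPt) none = b0) (t2 : (t : Equiv.Perm GolayPt) b0 = none) :
    β (mkZ (peH t)) = mkZ (peH t) := by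
  have hβ' : ∀ m : M24, (m : Equiv.Perm GolayPt) none = none → β (mkZ (peH m)) = mkZ (peH m) := fun m hm => hβ ⟨m, hm⟩
  obtain ⟨γ, hγ⟩ := mkZ_surj ((mkZ (peH t))⁻¹ * β (mkZ (peH t)))
  have ts1 : (t : Equiv.Perm GolayPt).symm none = b0 := by rw [Equiv.symm_apply_eq, t2]
  have ts2 : (t : Equiv.Perm GolayPt).symm b0 = none := by rw [Equiv.symm_apply_eq, t1]
  have hcm : ∀ m : M24, (m : Equiv.Perm GolayPt) none = none → (m : Equiv.Perm GolayPt) b0 = b0 →
      mkZ γ * mkZ (peH m) = mkZ (peH m) * mkZ γ := by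
    intro m m1 m2
    have h1 : ((t * m * t⁻¹ : M24) : Equiv.Perm GolayPt) none = none := by
      show (t : Equiv.Perm GolayPt) ((m : Equiv.Perm GolayPt) ((t : Equiv.Perm GolayPt).symm none)) = none
      rw [ts1, m2, t2]
    have h2 := hβ' _ h1
    have h3 := hβ' m m1
    simp only [map_mul, map_inv] at h2
    rw [h3] at h2
    rw [hγ]
    have h4 : β (mkZ (peH t)) * mkZ (peH m) = mkZ (peH t) * mkZ (peH m) * (mkZ (peH t))⁻¹ * β (mkZ (peH t)) := by
      rw [← h2, inv_mul_cancel_right]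
    rw [mul_assoc, h4]
    group
  -- the part of `M22` commuting with the lift
  have hsimp := M22_simple'
  let K : Subgroup M22 :=
    { carrier := {y | γ * (y : Co0) = (y : Co0) * γ}
      one_mem' := by show γ * 1 = 1 * γ; rw [one_mul, mul_one]
      mul_mem' := fun {a b} ha hb => by
        show γ * ((a : Co0) * (b : Co0)) = ((a : Co0) * (b : Co0)) * γ
        have h1 : γ * (a : Co0) = (a : Co0) * γ := ha
        have h2 : γ * (b : Co0) = (b : Co0) * γ := hb
        rw [← mul_assoc, h1, mul_assoc, h2, mul_assoc]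
      inv_mem' := fun {a} ha => by
        show γ * (a : Co0)⁻¹ = (a : Co0)⁻¹ * γ
        have h1 : γ * (a : Co0) = (a : Co0) * γ := ha
        rw [eq_inv_mul_iff_mul_eq, ← mul_assoc, ← h1, mul_inv_cancel_right] }
  have hK : ∀ y : M22, y ∈ K ↔ γ * (y : Co0) = (y : Co0) * γ := fun y => Iff.rfl
  have hpm : ∀ y : M22, γ * (y : Co0) = (y : Co0) * γ ∨ γ * (y : Co0) = negOne * ((y : Co0) * γ) := by
    rintro ⟨_, ⟨m, hm, rfl⟩⟩
    have h1 := hcm m hm.1 hm.2
    rw [← map_mul, ← map_mul] at h1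
    exact mkZ_eq h1
  have hKn : K.Normal := by
    constructor
    intro y hy g
    rw [hK] at hy ⊢
    show γ * ((g : Co0) * (y : Co0) * (g : Co0)⁻¹) = ((g : Co0) * (y : Co0) * (g : Co0)⁻¹) * γ
    rcases hpm g with h1 | h1
    · have h2 : γ * (g : Co0)⁻¹ = (g : Co0)⁻¹ * γ := by
        rw [eq_inv_mul_iff_mul_eq, ← mul_assoc, ← h1, mul_inv_cancel_right]
      rw [← mul_assoc, ← mul_assoc, h1, mul_assoc (g : Co0) γ, hy, ← mul_assoc, mul_assoc _ γ, h2, ← mul_assoc]
    · have h2 : γ * (g : Co0)⁻¹ = negOne * ((g : Co0)⁻¹ * γ) := by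
        have h3 : (g : Co0) * γ = negOne * (γ * (g : Co0)) := by
          rw [h1, ← mul_assoc, negOne_sq, one_mul]
        have h4 : (g : Co0)⁻¹ * ((g : Co0) * γ) * (g : Co0)⁻¹ = (g : Co0)⁻¹ * (negOne * (γ * (g : Co0))) * (g : Co0)⁻¹ := by
          rw [h3]
        rw [inv_mul_cancel_left] at h4
        rw [h4, ← mul_assoc (g : Co0)⁻¹ negOne, negOne_comm, mul_assoc, mul_assoc, mul_assoc, mul_inv_cancel, mul_one]
      rw [← mul_assoc, ← mul_assoc, h1, mul_assoc negOne, mul_assoc (g : Co0) γ, hy, ← mul_assoc (g : Co0),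
        mul_assoc negOne, mul_assoc ((g : Co0) * (y : Co0)) γ, h2, ← mul_assoc ((g : Co0) * (y : Co0)) negOne, negOne_comm,
        mul_assoc negOne, ← mul_assoc negOne, negOne_sq, one_mul, ← mul_assoc]
  have hKtop : K = ⊤ := by
    rcases hsimp.eq_bot_or_eq_top_of_normal K hKn with h | h
    · exfalso
      have h1 : (⟨peH rh, P11_le (mem_zpowers _)⟩ : M22) ∈ K := by
        rw [hK]
        have rh_b0 : (rh : Equiv.Perm GolayPt) b0 = b0 := by
          show (rh : Equiv.Perm GolayPt) (some 0) = some 0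
          rw [rh_some, mul_zero]
        exact comm_odd (by decide : Odd 11) peH_rh_11 (hcm rh rh_none rh_b0)
      rw [h, mem_bot] at h1
      have h2 : peH rh = 1 := congrArg Subtype.val h1
      have h3 := orderOf_rh
      rw [← orderOf_injective peH peH_inj, h2, orderOf_one] at h3
      norm_num at h3
    · exact h
  have hall : ∀ g ∈ M22, γ * g = g * γ := by
    intro g hg
    have : (⟨g, hg⟩ : M22) ∈ K := by rw [hKtop]; trivial
    exact this
  have h1 : mkZ γ = 1 := mkZ_eq_one.2 (cent_M22 hall)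
  rw [hγ, inv_mul_eq_one] at h1
  exact h1.symm

/-- an automorphism of `Co1` fixing `M23` pointwise is the identity -/
theorem fix_all (β : Spor.Co1 ≃* Spor.Co1) (hβ : ∀ y : T23, β (f1 y) = f1 y) (x : Spor.Co1) : β x = x := by
  let K : Subgroup Co0 :=
    { carrier := {g | β (mkZ g) = mkZ g}
      one_mem' := by show β (mkZ 1) = mkZ 1; rw [map_one, map_one]
      mul_mem' := fun {a b} ha hb => by
        show β (mkZ (a * b)) = mkZ (a * b)
        rw [map_mul, map_mul]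
        exact congrArg₂ _ ha hb
      inv_mem' := fun {a} ha => by
        show β (mkZ a⁻¹) = mkZ a⁻¹
        rw [map_inv, map_inv]
        exact congrArg _ ha }
  have hK : ∀ g : Co0, g ∈ K ↔ β (mkZ g) = mkZ g := fun g => Iff.rfl
  have h23 : M23 ≤ K := by
    rintro _ ⟨σ, hσ, rfl⟩
    exact hβ ⟨σ, hσ⟩
  have h12 : E12 ≤ K := by
    apply E12_le _ h23
    · exact fix_eD β hβ
    · rw [hK, mkZ_eq_one.2 (Or.inr rfl), map_one]
  obtain ⟨t, ht, t1, t2⟩ := exists_two (a := none) (b := b0) (a' := b0) (b' := none) hab hab.symm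
  have htK : peH (⟨t, ht⟩ : M24) ∈ K := fix_swap β hβ ⟨t, ht⟩ t1 t2
  have h24 : ∀ σ : M24, peH σ ∈ K := by
    intro σ
    by_cases h0 : (σ : Equiv.Perm GolayPt) none = none
    · exact h23 ⟨σ, h0, rfl⟩
    · obtain ⟨m, hm, m1, m2⟩ := exists_two (a := none) (b := b0) (a' := none) (b' := (σ : Equiv.Perm GolayPt) none) hab
        (Ne.symm h0)
      have h1 : ((((⟨m, hm⟩ : M24) * ⟨t, ht⟩)⁻¹ * σ : M24) : Equiv.Perm GolayPt) none = none := by
        show (m * t).symm ((σ : Equiv.Perm GolayPt) none) = none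
        rw [Equiv.symm_apply_eq]
        show _ = m (t none)
        rw [t1, m2]
      have h2 : σ = (⟨m, hm⟩ : M24) * ⟨t, ht⟩ * (((⟨m, hm⟩ : M24) * ⟨t, ht⟩)⁻¹ * σ) := by
        rw [mul_inv_cancel_left]
      rw [h2, map_mul, map_mul]
      exact K.mul_mem (K.mul_mem (h23 ⟨_, m1, rfl⟩) htK) (h23 ⟨_, h1, rfl⟩)
  have hN : N ≤ K := by
    rintro g ⟨σ, hσ, c, hc, h⟩
    have : g = eps c hc * peH (⟨σ, hσ⟩ : M24) := by
      apply ext_smul
      intro v
      apply Subtype.ext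
      rw [h, mul_smul]
      rfl
    rw [this]
    exact K.mul_mem (h12 (eps_mem c hc)) (h24 _)
  have hxT : xT ∈ K := fix_xT β hβ
  have hKt : K = ⊤ := by
    rcases N_max K hN with h | h
    · exfalso
      apply xT_not_mem_N
      rw [← h]; exact hxT
    · exact h
  obtain ⟨g, rfl⟩ := mkZ_surj x
  have : g ∈ K := by rw [hKt]; trivial
  exact this

theorem spor_Co1 : Nat.card (Out Spor.Co1) = 1 := by
  have hcard : Nat.card Spor.Co1 = 4157776806543360000 := isCo1.2
  haveI : Finite Spor.Co1 := Nat.finite_of_card_ne_zero (by rw [hcard]; norm_num)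
  apply H92MathieuAut.card_out_eq_one
  intro α
  obtain ⟨g, hg⟩ := step_A f1 f1_inj (by rw [hcard]; norm_num) (by rw [hcard]; norm_num) (fun g h1 h2 => hC_Co1 g h1 h2)
    (α : Spor.Co1 ≃* Spor.Co1)
  let β : Spor.Co1 ≃* Spor.Co1 := MulEquiv.trans (α : Spor.Co1 ≃* Spor.Co1) (MulAut.conj g)
  have hβ : ∀ y, β y = g * α y * g⁻¹ := fun y => rfl
  have hβ' : ∀ y : T23, β (f1 y) = f1 y := hg
  refine ⟨g⁻¹, ?_⟩
  ext y
  rw [MulAut.conj_apply, inv_inv]
  have h2 : g * α y * g⁻¹ = y := fix_all β hβ' y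
  calc g⁻¹ * y * g = g⁻¹ * (g * α y * g⁻¹) * g := by rw [h2]
    _ = α y := by group

end Cfsg.Agent.Lib.LeechSyl
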