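import Cfsg.Agent.Lib.LeechOut

/-!
The outer automorphism group of `Co2`.
-/

set_option autoImplicit false

namespace Cfsg.Agent.Lib.LeechSyl

open Cfsg Cfsg.Agent.Lib.Golay Cfsg.Agent.Lib.LeechMin Cfsg.Agent.Lib.GolayCoset Cfsg.Agent.Lib.LeechXi
  Cfsg.Agent.Lib.LeechTrans Cfsg.Agent.Lib.LeechCo2 Cfsg.Agent.Lib.LeechFrame Cfsg.Agent.Lib.LeechCount
  Cfsg.Agent.Lib.LeechOrder Cfsg.Agent.Lib.LeechMod Cfsg.Agent.Lib.LeechQuot Cfsg.Agent.Lib.LeechChain
open Subgroup
open scoped Pointwise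

theorem const_V3 : ∀ j : ZMod 23, (V3 : GolayPt → ℤ) (some j) = (V3 : GolayPt → ℤ) (some 0) := by
  intro j
  rw [V3_apply, V3_apply, if_neg (Option.some_ne_none _), if_neg (Option.some_ne_none _)]

theorem V3_eq : V3 = -S hab + (U none - X hab) := by
  apply Subtype.ext
  funext i
  rw [AddSubgroup.coe_add, Pi.add_apply, coe_UX, coe_neg', Pi.neg_apply, coe_S, V3_apply]
  revert i
  decide +kernel

theorem V3_ef : U none = V3 + ef none := by
  apply Subtype.ext
  funext i
  rw [AddSubgroup.coe_add, Pi.add_apply, U_apply, coe_ef, V3_apply]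
  revert i
  decide +kernel

theorem dotV3 (y : GolayPt → ℤ) : dotInt (V3 : GolayPt → ℤ) y = -3 * y none + ∑ j : ZMod 23, y (some j) := by
  unfold dotInt
  rw [Fintype.sum_option, V3_apply, if_pos rfl]
  refine congrArg _ (Finset.sum_congr rfl fun j _ => ?_)
  rw [V3_apply, if_neg (Option.some_ne_none _), one_mul]

theorem dotV3_const11 {v : leechLattice} (h : peH rh • v = v) :
    dotInt (V3 : GolayPt → ℤ) (v : GolayPt → ℤ) = -3 * (v : GolayPt → ℤ) none + ((v : GolayPt → ℤ) (some 0) +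
      11 * (v : GolayPt → ℤ) (some 1) + 11 * (v : GolayPt → ℤ) (some (-1))) := by
  rw [dotV3, ← sum_cls]
  exact congrArg _ (Finset.sum_congr rfl fun j _ => const_of_fix11 h j)

theorem arithV {a b c d : ℤ} (h1 : a ^ 2 + (b ^ 2 + 11 * c ^ 2 + 11 * d ^ 2) = 32)
    (h2 : -3 * a + (b + 11 * c + 11 * d) = 16) :
    (a = -4 ∧ b = 4 ∧ c = 0 ∧ d = 0) ∨ (a = 1 ∧ b = -3 ∧ c = 1 ∧ d = 1) := by
  obtain ⟨⟨h3, h4⟩, ⟨h5, h6⟩, h7, h8⟩ := norm_sq_bound h1 (by norm_num)
  have hb : b = 16 + 3 * a - 11 * c - 11 * d := by linarith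
  subst hb
  interval_cases c <;> interval_cases d <;> interval_cases a <;> first | (exfalso; revert h1; norm_num; done) | simp

theorem arithV0 {a b c d : ℤ} (h1 : a ^ 2 + (b ^ 2 + 11 * c ^ 2 + 11 * d ^ 2) = 32)
    (h2 : -3 * a + (b + 11 * c + 11 * d) = -8) (h0 : b = a) : a = 4 ∧ b = 4 ∧ c = 0 ∧ d = 0 := by
  obtain ⟨⟨h3, h4⟩, ⟨h5, h6⟩, h7, h8⟩ := norm_sq_bound h1 (by norm_num)
  subst h0
  interval_cases c <;> interval_cases d <;> interval_cases b <;> first | (exfalso; revert h1; norm_num; done) | (exfalso; revert h2; norm_num; done) | simp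

theorem S_none : (S hab : GolayPt → ℤ) none = 4 := by rw [coe_S]; rfl
theorem S_b0 : (S hab : GolayPt → ℤ) (some 0) = -4 := by rw [coe_S]; rfl
theorem S_1 : (S hab : GolayPt → ℤ) (some 1) = 0 := by rw [coe_S]; rfl
theorem S_m1 : (S hab : GolayPt → ℤ) (some (-1)) = 0 := by rw [coe_S]; rfl

theorem rh_negS : peH rh • (-S hab) = -S hab := by rw [smul_neg', rh_S]

theorem fixV16 {v : leechLattice} (h : peH rh • v = v) (hv : v ∈ cls [(V3, 16)] 32) :
    v = -S hab ∨ v = U none - X hab := by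
  rw [mem_cls1, dotV3_const11 h, sqNorm_const11 h] at hv
  rcases arithV hv.1 hv.2 with ⟨h1, h2, h3, h4⟩ | ⟨h1, h2, h3, h4⟩
  · left
    apply ext11 h rh_negS
    · rw [h1, coe_neg', Pi.neg_apply, S_none]
    · rw [h2, coe_neg', Pi.neg_apply, S_b0]; norm_num
    · rw [h3, coe_neg', Pi.neg_apply, S_1]; norm_num
    · rw [h4, coe_neg', Pi.neg_apply, S_m1]; norm_num
  · right
    apply ext11 h rh_UX
    · rw [h1, coe_UX]; rfl
    · rw [h2, coe_UX]; rfl
    · rw [h3, coe_UX]; rfl
    · rw [h4, coe_UX]; rfl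

theorem mem16_negS : -S hab ∈ cls [(V3, 16)] 32 := by
  rw [mem_cls1, coe_neg', sqNorm_neg, dot_neg_right, dot_comm, dot_S', V3_apply, V3_apply, if_pos rfl, if_neg hab.symm]
  exact ⟨sqNorm_S, by norm_num⟩

theorem mem16_UX : U none - X hab ∈ cls [(V3, 16)] 32 := by
  rw [mem_cls1]
  refine ⟨sqNorm_UX, ?_⟩
  rw [AddSubgroup.coe_sub, coe_X, coe_U]
  show dotInt (cv {none} ∅) _ = _
  decide +kernel

/-- the normaliser of the Sylow 11-subgroup of `Co2` permutes two vectors -/
theorem norm2 {n : Co0} (hV : n • V3 = V3) (hn : n ∈ normalizer (P11 : Set Co0)) :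
    n • (-S hab) = -S hab ∨ n • (-S hab) = U none - X hab := by
  apply fixV16 (fix_of_norm hn rh_negS)
  have := (mem_cls_smul n).1 mem16_negS
  simp only [List.map_cons, List.map_nil, hV] at this
  exact this

theorem norm2_M22 {n : Co0} (hV : n • V3 = V3) (hn : n ∈ normalizer (P11 : Set Co0)) (hS : n • (-S hab) = -S hab) :
    n ∈ M22 := by
  have hS' : n • S hab = S hab := by
    rw [smul_neg'] at hS; exact neg_injective hS
  have h1 := fix_of_norm hn rh_X
  have e1 := sqNorm_smul n (X hab)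
  have e2 := dot_smul n V3 (X hab)
  have e3 := dot_smul n (S hab) (X hab)
  rw [hV, dotV3_const11 h1, dot_comm, dot_X, V3_apply, V3_apply, if_pos rfl, if_neg hab.symm] at e2
  rw [hS', dot_S', dot_S', coe_X] at e3
  have e4 : (4 * (Pi.single none 4 + Pi.single b0 4 : GolayPt → ℤ) none - 4 * (Pi.single none 4 + Pi.single b0 4 : GolayPt → ℤ) b0) = 0 := by
    decide +kernel
  rw [e4] at e3
  rw [sqNorm_const11 h1, sqNorm_X] at e1
  have hb0 : ((n • X hab : leechLattice) : GolayPt → ℤ) b0 = ((n • X hab : leechLattice) : GolayPt → ℤ) (some 0) := rfl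
  rw [hb0] at e3
  obtain ⟨f1, f2, f3, f4⟩ := arithV0 e1 (by rw [e2]; norm_num) (by omega)
  have hX : n • X hab = X hab := by
    apply ext11 h1 rh_X
    · rw [f1, X_none]
    · rw [f2, X_b0]
    · rw [f3, X_1]
    · rw [f4, X_m1]
  apply mem_M22 hX hS'
  rw [V3_ef, smul_add', hV, fix_ef hX hS']

theorem hN2_Co2 : ∀ n ∈ normalizer (zpowers (fS V3 const_V3 sq) : Set (MulAction.stabilizer Co0 V3)),
    ∀ n' ∈ normalizer (zpowers (fS V3 const_V3 sq) : Set (MulAction.stabilizer Co0 V3)),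
    n ∉ BB (fS V3 const_V3) → n' ∉ BB (fS V3 const_V3) → n⁻¹ * n' ∈ BB (fS V3 const_V3) := by
  intro n hn n' hn' h h'
  have key : ∀ n ∈ normalizer (zpowers (fS V3 const_V3 sq) : Set (MulAction.stabilizer Co0 V3)),
      n ∉ BB (fS V3 const_V3) → (n : Co0) • (-S hab) = U none - X hab := by
    intro n hn h
    rcases norm2 n.2 (coe_norm11 hn) with h1 | h1
    · exfalso
      exact h ((mem_BB_iff hn).2 (norm2_M22 n.2 (coe_norm11 hn) h1))
    · exact h1
  have h3 : n⁻¹ * n' ∈ normalizer (zpowers (fS V3 const_V3 sq) : Set (MulAction.stabilizer Co0 V3)) :=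
    Subgroup.mul_mem _ (Subgroup.inv_mem _ hn) hn'
  rw [mem_BB_iff h3]
  apply norm2_M22 (n⁻¹ * n').2 (coe_norm11 h3)
  show ((n : Co0)⁻¹ * (n' : Co0)) • (-S hab) = -S hab
  rw [mul_smul, key n' hn' h', inv_smul_eq_iff, key n hn h]

theorem arith_Co2 {t i : ℕ} (h : t * i = 4147200) (h1 : i % 23 = 1) (h2 : i % 11 = 1) : i = 1 ∨ i = 2025 ∨ i = 172800 := by
  by_cases hi : i ≤ 2036
  · have h3 : i ∣ 4147200 := ⟨t, by rw [mul_comm]; exact h.symm⟩
    have : ∀ k : Fin 2037, ((k : ℕ) ∣ 4147200) → (k : ℕ) % 23 = 1 → (k : ℕ) % 11 = 1 → (k : ℕ) = 1 ∨ (k : ℕ) = 2025 := by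
      decide +kernel
    rcases this ⟨i, by omega⟩ h3 h1 h2 with h4 | h4
    · left; exact h4
    · right; left; exact h4
  · have ht : t ≤ 2036 := by
      by_contra hcon
      have : 2037 * 2037 ≤ t * i := Nat.mul_le_mul (by omega) (by omega)
      omega
    have h3 : t ∣ 4147200 := ⟨i, h.symm⟩
    have ht0 : 0 < t := Nat.pos_of_ne_zero (by rintro rfl; omega)
    have h4 : i = 4147200 / t := by rw [← h, Nat.mul_div_cancel_left _ ht0]
    have : ∀ k : Fin 2037, ((k : ℕ) ∣ 4147200) → (4147200 / (k : ℕ)) % 23 = 1 → (4147200 / (k : ℕ)) % 11 = 1 →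
        2036 < 4147200 / (k : ℕ) → 4147200 / (k : ℕ) = 172800 := by
      decide +kernel
    right; right
    rw [h4]
    exact this ⟨t, by omega⟩ h3 (by rw [← h1, h4]) (by rw [← h2, h4]) (by show 2036 < 4147200 / t; omega)

theorem arith_a {s d e : ℕ} (h1 : s * d = 47104) (h2 : d * e = 20736) (h3 : e % 11 = 1) : d = 1 := by
  have h4 : d ∣ 47104 := ⟨s, by rw [mul_comm]; exact h1.symm⟩
  have h5 : d ∣ 20736 := ⟨e, h2.symm⟩
  have h6 : d ∣ Nat.gcd 47104 20736 := Nat.dvd_gcd h4 h5
  have h7 : d ∣ 256 := by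
    have : Nat.gcd 47104 20736 = 256 := by norm_num
    rwa [this] at h6
  have hd0 : 0 < d := Nat.pos_of_ne_zero (by rintro rfl; omega)
  have h9 : e = 20736 / d := by rw [← h2, Nat.mul_div_cancel_left _ hd0]
  have : ∀ k : Fin 257, ((k : ℕ) ∣ 256) → (20736 / (k : ℕ)) % 11 = 1 → (k : ℕ) = 1 := by decide +kernel
  exact this ⟨d, by have := Nat.le_of_dvd (by norm_num) h7; omega⟩ h7 (by rw [← h3, h9])

theorem arith_b {s d e : ℕ} (h1 : s * d = 552) (h2 : d * e = 20736) (h3 : e % 11 = 1) : d = 1 ∨ d = 12 := by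
  have h4 : d ∣ 552 := ⟨s, by rw [mul_comm]; exact h1.symm⟩
  have h5 : d ∣ 20736 := ⟨e, h2.symm⟩
  have h6 : d ∣ Nat.gcd 552 20736 := Nat.dvd_gcd h4 h5
  have h7 : d ∣ 24 := by
    have : Nat.gcd 552 20736 = 24 := by norm_num
    rwa [this] at h6
  have hd0 : 0 < d := Nat.pos_of_ne_zero (by rintro rfl; omega)
  have h9 : e = 20736 / d := by rw [← h2, Nat.mul_div_cancel_left _ hd0]
  have : ∀ k : Fin 25, ((k : ℕ) ∣ 24) → (20736 / (k : ℕ)) % 11 = 1 → (k : ℕ) = 1 ∨ (k : ℕ) = 12 := by decide +kernel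
  exact this ⟨d, by have := Nat.le_of_dvd (by norm_num) h7; omega⟩ h7 (by rw [← h3, h9])

theorem trans16 {w w' : leechLattice} (hw : w ∈ cls [(V3, 16)] 32) (hw' : w' ∈ cls [(V3, 16)] 32) :
    ∃ g ∈ MulAction.stabilizer Co0 V3, g • w = w' := by
  rw [mem_cls1] at hw hw'
  obtain ⟨g, h1, h2⟩ := stab_trans16 (v := V3) (w := -w) (w' := -w') sqNorm_V3 (by rw [coe_neg', sqNorm_neg]; exact hw.1)
    (by rw [coe_neg', sqNorm_neg]; exact hw'.1) (by rw [coe_neg', dot_neg_right, hw.2]) (by rw [coe_neg', dot_neg_right, hw'.2])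
  refine ⟨g, h1, ?_⟩
  rw [smul_neg'] at h2
  exact neg_injective h2

theorem count16 : (cls [(V3, 16)] 32).ncard = 4600 := by
  have h1 := (count2 sqNorm_V3).1
  rw [ncard_cls_neg] at h1
  exact h1

theorem card_U6 : Nat.card ↥(MulAction.stabilizer Co0 V3 ⊓ MulAction.stabilizer Co0 (-S hab)) = 9196830720 := by
  have h1 := card_orbit (MulAction.stabilizer Co0 V3) (-S hab)
  have h2 : {y | ∃ g ∈ MulAction.stabilizer Co0 V3, g • (-S hab) = y} = cls [(V3, 16)] 32 := by
    ext y
    constructor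
    · rintro ⟨g, hg, rfl⟩
      exact smul_mem_cls (by
        rw [show ([(V3, (16 : ℤ))] : List (leechLattice × ℤ)).map Prod.fst = [V3] from rfl, mem_fix1]; exact hg) mem16_negS
    · intro hy
      exact trans16 mem16_negS hy
  rw [h2, count16, natCard_stab32 sqNorm_V3] at h1
  omega

/-! ### the vectors in the orbit -/

def aa (j : ZMod 23) : leechLattice := -S (Option.some_ne_none j).symm
def bb (j : ZMod 23) : leechLattice := Vc (some j)

theorem aa_none (j : ZMod 23) : (aa j : GolayPt → ℤ) none = -4 := by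
  unfold aa
  rw [coe_neg', Pi.neg_apply, coe_S, Pi.sub_apply, Pi.single_eq_same, Pi.single_eq_of_ne (Option.some_ne_none j).symm]
  norm_num

theorem aa_some (j k : ZMod 23) : (aa j : GolayPt → ℤ) (some k) = if k = j then 4 else 0 := by
  unfold aa
  rw [coe_neg', Pi.neg_apply, coe_S, Pi.sub_apply, Pi.single_eq_of_ne (Option.some_ne_none k)]
  by_cases h : k = j
  · rw [if_pos h, h, Pi.single_eq_same]; norm_num
  · rw [if_neg h, Pi.single_eq_of_ne (fun h1 => h (Option.some.inj h1))]; norm_num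

theorem bb_none (j : ZMod 23) : (bb j : GolayPt → ℤ) none = 1 := by
  unfold bb
  rw [Vc_apply, if_neg (Option.some_ne_none j).symm]

theorem bb_some (j k : ZMod 23) : (bb j : GolayPt → ℤ) (some k) = if k = j then -3 else 1 := by
  unfold bb
  rw [Vc_apply]
  by_cases h : k = j
  · rw [if_pos h, h, if_pos rfl]
  · rw [if_neg h, if_neg (fun h1 => h (Option.some.inj h1))]

theorem aa_inj : Function.Injective aa := by
  intro j k h
  have h1 := congrFun (congrArg Subtype.val h) (some j)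
  rw [aa_some, aa_some, if_pos rfl] at h1
  by_contra hne
  rw [if_neg hne] at h1
  norm_num at h1

theorem bb_inj : Function.Injective bb := by
  intro j k h
  have h1 := congrFun (congrArg Subtype.val h) (some j)
  rw [bb_some, bb_some, if_pos rfl] at h1
  by_contra hne
  rw [if_neg hne] at h1
  norm_num at h1

theorem dot_aa_bb (j k : ZMod 23) : dotInt (aa j : GolayPt → ℤ) (bb k : GolayPt → ℤ) ≠ 16 := by
  have h1 : dotInt (aa j : GolayPt → ℤ) (bb k : GolayPt → ℤ) = -(4 * (bb k : GolayPt → ℤ) none - 4 * (bb k : GolayPt → ℤ) (some j)) := by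
    unfold aa
    rw [coe_neg', dot_neg_left, dot_S']
  rw [h1, bb_none, bb_some]
  split_ifs <;> norm_num

theorem dot_aa_aa (j k : ZMod 23) : dotInt (aa j : GolayPt → ℤ) (aa k : GolayPt → ℤ) = if j = k then 32 else 16 := by
  have h1 : dotInt (aa j : GolayPt → ℤ) (aa k : GolayPt → ℤ) = -(4 * (aa k : GolayPt → ℤ) none - 4 * (aa k : GolayPt → ℤ) (some j)) := by
    unfold aa
    rw [coe_neg', dot_neg_left, dot_S']
  rw [h1, aa_none, aa_some]
  split_ifs <;> norm_num

theorem aa_zero : aa 0 = -S hab := rfl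

theorem bb_zero : bb 0 = U none - X hab := by
  apply Subtype.ext
  funext i
  rw [coe_UX]
  unfold bb
  rw [Vc_apply]

/-- `M23` is transitive on each kind -/
theorem M23_aa (j : ZMod 23) : ∃ g ∈ M23, g • aa 0 = aa j ∧ g • bb 0 = bb j := by
  obtain ⟨σ, hσ, h1, h2⟩ := exists_two (a := none) (b := some (0 : ZMod 23)) (a' := none) (b' := some j)
    (Option.some_ne_none _).symm (Option.some_ne_none _).symm
  have hs : ∀ k : ZMod 23, ∃ k', σ.symm (some k) = some k' ∧ (k = j ↔ k' = 0) := by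
    intro k
    rcases hh : σ.symm (some k) with _ | k'
    · exfalso
      rw [Equiv.symm_apply_eq, h1] at hh
      exact Option.some_ne_none _ hh
    · refine ⟨k', rfl, ?_⟩
      rw [Equiv.symm_apply_eq] at hh
      constructor
      · intro hk
        rw [hk] at hh
        exact (Option.some.inj (σ.injective (hh.symm.trans h2.symm)))
      · intro hk
        rw [hk, h2] at hh
        exact Option.some.inj hh
  have hn : σ.symm none = none := by rw [Equiv.symm_apply_eq]; exact h1.symm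
  refine ⟨peH ⟨σ, hσ⟩, ⟨⟨σ, hσ⟩, h1, rfl⟩, ?_, ?_⟩
  · apply Subtype.ext
    rw [peH_smul]
    funext i
    rcases i with _ | k
    · show (aa 0 : GolayPt → ℤ) (σ.symm none) = _
      rw [hn, aa_none, aa_none]
    · show (aa 0 : GolayPt → ℤ) (σ.symm (some k)) = _
      obtain ⟨k', h3, h4⟩ := hs k
      rw [h3, aa_some, aa_some]
      by_cases h5 : k = j
      · rw [if_pos h5, if_pos (h4.1 h5)]
      · rw [if_neg h5, if_neg (fun h6 => h5 (h4.2 h6))]
  · apply Subtype.ext
    rw [peH_smul]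
    funext i
    rcases i with _ | k
    · show (bb 0 : GolayPt → ℤ) (σ.symm none) = _
      rw [hn, bb_none, bb_none]
    · show (bb 0 : GolayPt → ℤ) (σ.symm (some k)) = _
      obtain ⟨k', h3, h4⟩ := hs k
      rw [h3, bb_some, bb_some]
      by_cases h5 : k = j
      · rw [if_pos h5, if_pos (h4.1 h5)]
      · rw [if_neg h5, if_neg (fun h6 => h5 (h4.2 h6))]

noncomputable def smulHom (g : Co0) : leechLattice →+ leechLattice := AddMonoidHom.mk' (fun v => g • v) (smul_add' g)

theorem smulHom_apply (g : Co0) (v : leechLattice) : smulHom g v = g • v := rfl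

/-- if the orbit consists of the 46 vectors then the stabiliser fixes `X` -/
theorem fix_of_46 (K : Subgroup Co0) (hK : K ≤ MulAction.stabilizer Co0 V3) (hM : M23 ≤ K)
    {k : Co0} (hk : k ∈ K) (hk1 : k • (-S hab) = U none - X hab) (h46 : {y | ∃ g ∈ K, g • (-S hab) = y}.ncard = 46)
    {g : Co0} (hg : g ∈ K) (hgS : g • (-S hab) = -S hab) : g • X hab = X hab := by
  classical
  set O := {y | ∃ g ∈ K, g • (-S hab) = y} with hO
  set A : Finset leechLattice := Finset.univ.image aa ∪ Finset.univ.image bb with hA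
  have hAc : A.card = 46 := by
    rw [hA, Finset.card_union_of_disjoint, Finset.card_image_of_injective _ aa_inj, Finset.card_image_of_injective _ bb_inj,
      Finset.card_univ, ZMod.card]
    rw [Finset.disjoint_left]
    intro y hy hy'
    rw [Finset.mem_image] at hy hy'
    obtain ⟨j, -, rfl⟩ := hy
    obtain ⟨k, -, h⟩ := hy'
    have h1 := congrFun (congrArg Subtype.val h) none
    rw [aa_none, bb_none] at h1
    norm_num at h1
  have hAO : (A : Set leechLattice) ⊆ O := by
    intro y hy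
    rw [hA, Finset.coe_union, Finset.coe_image, Finset.coe_image] at hy
    rcases hy with ⟨j, -, rfl⟩ | ⟨j, -, rfl⟩
    · obtain ⟨m, hm, h1, -⟩ := M23_aa j
      exact ⟨m, hM hm, h1⟩
    · obtain ⟨m, hm, -, h1⟩ := M23_aa j
      refine ⟨m * k, K.mul_mem (hM hm) hk, ?_⟩
      rw [mul_smul, hk1, ← bb_zero, h1]
  have hOf : O.Finite := Set.finite_of_ncard_ne_zero (by rw [h46]; norm_num)
  have hOA : (A : Set leechLattice) = O := Set.eq_of_subset_of_ncard_le hAO (by rw [h46, Set.ncard_coe_finset, hAc]) hOf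
  -- the 22 vectors
  set T : Finset leechLattice := (Finset.univ.erase (0 : ZMod 23)).image aa with hT
  have hgT : ∀ y ∈ T, g • y ∈ T := by
    intro y hy
    rw [hT, Finset.mem_image] at hy
    obtain ⟨j, hj, rfl⟩ := hy
    rw [Finset.mem_erase] at hj
    have h1 : g • aa j ∈ O := by
      obtain ⟨m, hm, h1, -⟩ := M23_aa j
      refine ⟨g * m, K.mul_mem hg (hM hm), ?_⟩
      rw [mul_smul, ← aa_zero, h1]
    have h2 : dotInt (aa 0 : GolayPt → ℤ) ((g • aa j : leechLattice) : GolayPt → ℤ) = 16 := by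
      have h3 := dot_smul g (aa 0) (aa j)
      rw [aa_zero, hgS] at h3
      rw [aa_zero, h3, ← aa_zero, dot_aa_aa, if_neg hj.1.symm]
    rw [← hOA, hA, Finset.coe_union, Finset.coe_image, Finset.coe_image] at h1
    rcases h1 with ⟨l, -, h1⟩ | ⟨l, -, h1⟩
    · rw [← h1, dot_aa_aa] at h2
      have hl : 0 ≠ l := by
        rintro rfl
        rw [if_pos rfl] at h2; norm_num at h2
      rw [hT, Finset.mem_image]
      exact ⟨l, Finset.mem_erase.2 ⟨hl.symm, Finset.mem_univ _⟩, h1⟩
    · rw [← h1] at h2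
      exact absurd h2 (dot_aa_bb _ _)
  have hsum : ∑ y ∈ T, g • y = ∑ y ∈ T, y := by
    have h1 : T.image (fun y => g • y) = T := by
      apply Finset.eq_of_subset_of_card_le
      · intro y hy
        rw [Finset.mem_image] at hy
        obtain ⟨z, hz, rfl⟩ := hy
        exact hgT z hz
      · rw [Finset.card_image_of_injective _ (MulAction.injective g)]
    conv_rhs => rw [← h1]
    rw [Finset.sum_image (fun a _ b _ h => MulAction.injective g h)]
  have hV : g • V3 = V3 := hK hg
  have hX10 : (10 : ℕ) • X hab = -(∑ y ∈ T, y) + (9 : ℕ) • (-S hab) + (4 : ℕ) • V3 := by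
    apply Subtype.ext
    rw [hT, Finset.sum_image (fun a _ b _ h => aa_inj h)]
    have e1 : ∀ j, ((∑ x ∈ Finset.univ.erase (0 : ZMod 23), aa x : leechLattice) : GolayPt → ℤ) j =
        ∑ x ∈ Finset.univ.erase (0 : ZMod 23), (aa x : GolayPt → ℤ) j := by
      intro j
      rw [AddSubgroup.val_finset_sum, Finset.sum_apply]
    funext i
    simp only [AddSubgroup.coe_add, AddSubgroup.coe_neg, AddSubgroup.coe_nsmul, Pi.add_apply, Pi.neg_apply, Pi.smul_apply]
    simp only [nsmul_eq_mul]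
    rw [e1]
    rcases i with _ | j
    · rw [Finset.sum_congr rfl fun x _ => aa_none x, Finset.sum_const, Finset.card_erase_of_mem (Finset.mem_univ _),
        Finset.card_univ, ZMod.card, X_none, S_none, V3_apply, if_pos rfl]
      norm_num
    · rw [Finset.sum_congr rfl fun x _ => aa_some x j, V3_apply, if_neg (Option.some_ne_none _), Finset.sum_ite_eq]
      by_cases hj : j = 0
      · subst hj
        rw [X_b0, S_b0]
        simp
      · rw [if_pos (Finset.mem_erase.2 ⟨hj, Finset.mem_univ _⟩)]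
        have h2 : (some j : GolayPt) ≠ b0 := fun h => hj (Option.some.inj h)
        rw [coe_X, coe_S, Pi.add_apply, Pi.sub_apply, Pi.single_eq_of_ne (Option.some_ne_none _), Pi.single_eq_of_ne h2]
        norm_num
  have h3 : smulHom g ((10 : ℕ) • X hab) = (10 : ℕ) • X hab := by
    rw [hX10, map_add, map_add, map_neg, map_nsmul, map_nsmul, map_sum]
    simp only [smulHom_apply]
    rw [hsum, hgS, hV]
  rw [map_nsmul, smulHom_apply] at h3
  apply Subtype.ext
  funext i
  have h4 := congrFun (congrArg Subtype.val h3) i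
  simp only [AddSubgroup.coe_nsmul, Pi.smul_apply] at h4
  simp only [nsmul_eq_mul] at h4
  push_cast at h4
  linarith

theorem gen2 (K : Subgroup Co0) (hK : K ≤ MulAction.stabilizer Co0 V3) (hM : M23 ≤ K)
    (hN : ∀ n ∈ MulAction.stabilizer Co0 V3, n ∈ normalizer (P11 : Set Co0) → n ∈ K) :
    K = MulAction.stabilizer Co0 V3 := by
  haveI : Fact (Nat.Prime 23) := ⟨by norm_num⟩
  haveI : Fact (Nat.Prime 11) := ⟨by norm_num⟩
  have h22 : M22 ≤ K := M22_le_M23.trans hM
  have hi1 := relIndex_mod card_P11 (not_sq11 _) (P11_le.trans h22) hK hN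
  have hi2 := relIndex_mod card_P23 (not_sq23 _) (P23_le.trans hM) hK
    (fun g hg hn => hM (norm23_le const_V3 (by rw [V3_apply, if_pos rfl]; norm_num) hg hn))
  have hc := card_relIndex hK
  rw [natCard_stab32 sqNorm_V3] at hc
  obtain ⟨t, ht⟩ := Subgroup.card_dvd_of_le hM
  rw [card_M23] at ht
  rw [ht] at hc
  have hti : t * K.relIndex (MulAction.stabilizer Co0 V3) = 4147200 := by
    have : 10200960 * (t * K.relIndex (MulAction.stabilizer Co0 V3)) = 10200960 * 4147200 := by
      rw [← mul_assoc, hc]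
    exact Nat.eq_of_mul_eq_mul_left (by norm_num) this
  -- facts about `S`
  have hSfix : ∀ g ∈ M22, g • (-S hab) = -S hab := by
    intro g hg
    rw [smul_neg', (mem_fix2.1 (hsH_M22 hg)).2]
  have hL22 : M22 ≤ K ⊓ MulAction.stabilizer Co0 (-S hab) := by
    intro g hg
    exact ⟨h22 hg, hSfix g hg⟩
  have hLH : K ⊓ MulAction.stabilizer Co0 (-S hab) ≤ MulAction.stabilizer Co0 V3 ⊓ MulAction.stabilizer Co0 (-S hab) :=
    inf_le_inf_right _ hK
  have he := relIndex_mod card_P11 (not_sq11 _) (P11_le.trans hL22) hLH (fun g hg hn => hL22 (norm2_M22 hg.1 hn hg.2))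
  have hc2 := card_relIndex hLH
  rw [card_U6] at hc2
  obtain ⟨d, hd⟩ := Subgroup.card_dvd_of_le hL22
  rw [card_M22'] at hd
  have hs := card_orbit K (-S hab)
  rw [ht, hd] at hs
  rw [hd] at hc2
  obtain ⟨e, heq⟩ : ∃ e, e = (K ⊓ MulAction.stabilizer Co0 (-S hab)).relIndex (MulAction.stabilizer Co0 V3 ⊓ MulAction.stabilizer Co0 (-S hab)) := ⟨_, rfl⟩
  rw [← heq] at he hc2
  have hde : d * e = 20736 := by
    have : 443520 * (d * e) = 443520 * 20736 := by rw [← mul_assoc, hc2]
    exact Nat.eq_of_mul_eq_mul_left (by norm_num) this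
  have hs4600 : {y | ∃ g ∈ K, g • (-S hab) = y}.ncard ≤ 4600 := by
    rw [← count16]
    apply Set.ncard_le_ncard _ (finite_cls (by norm_num))
    rintro _ ⟨g, hg, rfl⟩
    exact smul_mem_cls (by
        rw [show ([(V3, (16 : ℤ))] : List (leechLattice × ℤ)).map Prod.fst = [V3] from rfl, mem_fix1]; exact hK hg) mem16_negS
  obtain ⟨s, hseq⟩ : ∃ s, s = {y | ∃ g ∈ K, g • (-S hab) = y}.ncard := ⟨_, rfl⟩
  rw [← hseq] at hs hs4600
  -- the swap
  obtain ⟨c, hc', hcX⟩ := trans16 mem16_negS mem16_UX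
  obtain ⟨k, hk, hkX, hkN⟩ := swap11 (H := MulAction.stabilizer Co0 V3) (P11_le.trans (h22.trans hK)) rh_negS rh_UX
    hc' hcX
  have hkK := hN k hk hkN
  have hkV : k • V3 = V3 := hk
  rcases arith_Co2 hti hi2 hi1 with h1 | h1 | h1
  · exact eq_of_relIndex hK h1
  · exfalso
    rw [h1] at hti
    have ht' : t = 2048 := by omega
    rw [ht'] at hs
    have hsd : s * d = 47104 := by
      have : 443520 * (s * d) = 443520 * 47104 := by
        rw [← mul_assoc, mul_comm 443520, mul_assoc, ← hs]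
      exact Nat.eq_of_mul_eq_mul_left (by norm_num) this
    have hd1 := arith_a hsd hde he
    rw [hd1] at hsd
    omega
  · exfalso
    rw [h1] at hti
    have ht' : t = 24 := by omega
    rw [ht'] at hs
    have hsd : s * d = 552 := by
      have : 443520 * (s * d) = 443520 * 552 := by
        rw [← mul_assoc, mul_comm 443520, mul_assoc, ← hs]
      exact Nat.eq_of_mul_eq_mul_left (by norm_num) this
    rcases arith_b hsd hde he with hd1 | hd1
    · -- `K_S = M22`
      have hL : M22 = K ⊓ MulAction.stabilizer Co0 (-S hab) :=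
        Subgroup.eq_of_le_of_card_ge hL22 (by rw [hd, hd1, card_M22'])
      have hkX' : k • (U none - X hab) = -S hab := by
        have h2 : U none - X hab = V3 + S hab := by rw [V3_eq]; abel
        have h3 : k • (V3 + S hab) = V3 + -(k • (-S hab)) := by
          rw [smul_add', hkV, smul_neg', neg_neg]
        rw [h2, h3, hkX, h2]; abel
      have hUXfix : ∀ g ∈ M22, g • (U none - X hab) = U none - X hab := by
        intro g hg
        have hg1 := mem_fix2.1 (mclH_M22 hg)
        rw [sub_eq_add_neg, smul_add', smul_neg', hg1.1, hg1.2]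
      have hconj : ∀ g ∈ M22, k⁻¹ * g * k ∈ M22 := by
        intro g hg
        rw [hL]
        refine ⟨K.mul_mem (K.mul_mem (K.inv_mem hkK) (h22 hg)) hkK, ?_⟩
        show (k⁻¹ * g * k) • (-S hab) = -S hab
        rw [mul_smul, mul_smul, hkX, hUXfix g hg, inv_smul_eq_iff, hkX]
      have hw : ∀ g ∈ M22, g • (k • X hab) = k • X hab := by
        intro g hg
        have h2 := (mem_fix2.1 (mclH_M22 (hconj g hg))).1
        rw [mul_smul, mul_smul, inv_smul_eq_iff] at h2
        exact h2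
      have hw11 := fixM22_11 hw
      have hwc := fixM22 hw (-1) neg_one_ne
      have e1 := sqNorm_smul k (X hab)
      have e2 := dot_smul k V3 (X hab)
      have e3 := dot_smul k (U none - X hab) (X hab)
      rw [hkV, dotV3_const11 hw11, dot_comm, dot_X, V3_apply, V3_apply, if_pos rfl, if_neg hab.symm] at e2
      rw [hkX', coe_neg', dot_neg_left, dot_S', dot_comm, dot_X, coe_UX, coe_UX, if_neg hab, if_pos rfl] at e3
      rw [sqNorm_const11 hw11, sqNorm_X] at e1
      rw [hwc] at e1 e2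
      have hb0 : ((k • X hab : leechLattice) : GolayPt → ℤ) b0 = ((k • X hab : leechLattice) : GolayPt → ℤ) (some 0) := rfl
      rw [hb0] at e3
      generalize ((k • X hab : leechLattice) : GolayPt → ℤ) none = a at *
      generalize ((k • X hab : leechLattice) : GolayPt → ℤ) (some 0) = b at *
      generalize ((k • X hab : leechLattice) : GolayPt → ℤ) (some 1) = c at *
      have hc1 : c ≤ 1 := by nlinarith [sq_nonneg a, sq_nonneg b]
      have hc2 : -1 ≤ c := by nlinarith [sq_nonneg a, sq_nonneg b]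
      have hb : b = a - 2 := by omega
      subst hb
      interval_cases c
      · have : a = -8 := by omega
        subst this; norm_num at e1
      · have : a = 3 := by omega
        subst this; norm_num at e1
      · have : a = 14 := by omega
        subst this; norm_num at e1
    · -- `s = 46`
      rw [hd1] at hsd hd
      have hs46 : s = 46 := by omega
      have h2 : K ⊓ MulAction.stabilizer Co0 (-S hab) ≤ M22 := by
        intro g hg
        have hg2 : g • (-S hab) = -S hab := hg.2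
        have hX := fix_of_46 K hK hM hkK hkX (by rw [← hseq, hs46]) hg.1 hg2
        have hS' : g • S hab = S hab := by
          rw [smul_neg'] at hg2; exact neg_injective hg2
        apply mem_M22 hX hS'
        rw [V3_ef, smul_add', hK hg.1, fix_ef hX hS']
      have h3 := Subgroup.card_le_of_le h2
      rw [hd, card_M22'] at h3
      omega

theorem out_Co2 : Nat.card (Out (MulAction.stabilizer Co0 V3)) = 1 := by
  apply out_of (fS_inj V3 const_V3) hN2_Co2 (not_sq23 _) (not_sq11 _)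
  intro K h1 h2
  apply stab_ext
  apply gen2
  · rintro _ ⟨x, -, rfl⟩; exact x.2
  · rintro _ ⟨σ, hσ, rfl⟩
    exact ⟨_, h1 ⟨⟨σ, hσ⟩, rfl⟩, rfl⟩
  · intro n hn hn'
    exact ⟨⟨n, hn⟩, h2 (of_coe_norm11 hn'), rfl⟩

theorem spor_Co2 : Nat.card (Out Spor.Co2) = 1 := by
  have h1 : sqNorm (Spor.leechU : GolayPt → ℤ) = 32 := by
    show sqNorm Spor.vecU = 32
    decide +kernel
  obtain ⟨k, hk⟩ : ∃ k : Co0, k • Spor.leechU = V3 :=
    transitive (ne_zero_of_norm h1 (by norm_num)) (by rw [h1]; norm_num) (h1.trans sqNorm_V3.symm)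
  rw [← out_Co2, ← out_stab hk]
  exact Cfsg.Agent.Lib.H58J2.out_congr (stabEquivPerm _)

end Cfsg.Agent.Lib.LeechSyl
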