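import Cfsg.Agent.Lib.LeechOutS

/-!
The outer automorphism group of `HS`.
-/

set_option autoImplicit false

namespace Cfsg.Agent.Lib.LeechSyl

open Cfsg Cfsg.Agent.Lib.Golay Cfsg.Agent.Lib.LeechMin Cfsg.Agent.Lib.GolayCoset Cfsg.Agent.Lib.LeechXi
  Cfsg.Agent.Lib.LeechTrans Cfsg.Agent.Lib.LeechCo2 Cfsg.Agent.Lib.LeechFrame Cfsg.Agent.Lib.LeechCount
  Cfsg.Agent.Lib.LeechOrder Cfsg.Agent.Lib.LeechMod Cfsg.Agent.Lib.LeechQuot Cfsg.Agent.Lib.LeechChain
open Subgroup
open scoped Pointwise

/-! ### groups containing `M22` -/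

section

variable {G : Type*} [Group G] [Finite G] (f : T22 →* G) (hf : Function.Injective f)

/-- the part of `M22` mapped into `M22` -/
def KK (β : MulAut G) : Subgroup T22 := f.range.comap ((β : G ≃* G).toMonoidHom.comp f)

theorem mem_KK {β : MulAut G} {y : T22} : y ∈ KK f β ↔ β (f y) ∈ f.range := Iff.rfl

theorem index_KK_le (β : MulAut G) : (KK f β).index ≤ f.range.index := by
  unfold KK
  rw [Subgroup.index_comap, ← Subgroup.relIndex_top_right]
  apply Subgroup.relIndex_le_of_le_right le_top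
  rw [Subgroup.relIndex_top_right]
  exact Subgroup.index_ne_zero_of_finite

theorem tq_mem_KK {β : MulAut G} (h : β (f tq) = f tq ∨ β (f tq) = (f tq)⁻¹) : tq ∈ KK f β := by
  rw [mem_KK]
  rcases h with h | h <;> rw [h]
  · exact ⟨tq, rfl⟩
  · exact ⟨tq⁻¹, map_inv f tq⟩

theorem tr_mem_KK {β : MulAut G} (h : β (f tr) = f tr) : tr ∈ KK f β := by
  rw [mem_KK, h]; exact ⟨tr, rfl⟩

include hf in
/-- if `M22` is preserved and the normaliser of the Sylow 11-subgroup is fixed, then `M22` is fixed -/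
theorem fix_M22_of {β : MulAut G} (h : ∀ y, β (f y) ∈ f.range) (hq : β (f tq) = f tq) (hr : β (f tr) = f tr) (y : T22) :
    β (f y) = f y := by
  let e : T22 ≃* f.range := MonoidHom.ofInjective hf
  have he : ∀ y, ((e y : f.range) : G) = f y := fun y => rfl
  let φ : T22 ≃* T22 := (e.trans (AutSyl.restr (β : G ≃* G) f.range (by rintro _ ⟨y, rfl⟩; exact h y))).trans e.symm
  have hφ : ∀ y, f (φ y) = β (f y) := by
    intro y
    rw [← he, MulEquiv.trans_apply, MulEquiv.apply_symm_apply, MulEquiv.trans_apply, AutSyl.coe_restr, he]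
  have h1 := fix_T22 φ (hf (by rw [hφ, hq])) (hf (by rw [hφ, hr])) y
  rw [← hφ, h1]

include hf in
theorem cent_tq (hN : ∀ g ∈ normalizer (zpowers (f tq) : Set G), g ∈ f.range) {g : G} (h : g * f tq = f tq * g) :
    g ∈ zpowers (f tq) := by
  have h1 : g ∈ normalizer (zpowers (f tq) : Set G) := by
    apply mem_normalizer_of
    rw [h, mul_inv_cancel_right]; exact mem_zpowers _
  obtain ⟨y, rfl⟩ := hN g h1
  rw [← map_mul, ← map_mul] at h
  have h2 := hf h
  have h3 : (⟨(y : M24), y.2.1⟩ : T23) * sq = sq * ⟨(y : M24), y.2.1⟩ := Subtype.ext (congrArg (fun z : T22 => (z : M24)) h2)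
  obtain ⟨n, hn⟩ := Subgroup.mem_zpowers_iff.1 (comm_sq h3)
  rw [Subgroup.mem_zpowers_iff]
  refine ⟨n, ?_⟩
  rw [← map_zpow]
  congr 1
  apply Subtype.ext
  exact congrArg (fun z : T23 => (z : M24)) hn

end

/-! ### vectors constant on classes -/

theorem sum_cls_gen {k : ℕ} (κ : GolayPt → Fin k) (F : Fin k → ℤ) :
    ∑ i, F (κ i) = ∑ j, ((Finset.univ.filter fun i => κ i = j).card : ℤ) * F j := by
  rw [← Finset.sum_fiberwise (s := Finset.univ) (g := κ)]
  apply Finset.sum_congr rfl
  intro j _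
  rw [Finset.sum_congr rfl (g := fun _ => F j), Finset.sum_const, nsmul_eq_mul]
  intro i hi
  rw [(Finset.mem_filter.1 hi).2]

theorem dot_cls_gen {k : ℕ} {κ : GolayPt → Fin k} {F G : Fin k → ℤ} {v w : GolayPt → ℤ} (hv : ∀ i, v i = F (κ i))
    (hw : ∀ i, w i = G (κ i)) :
    dotInt v w = ∑ j, ((Finset.univ.filter fun i => κ i = j).card : ℤ) * (F j * G j) := by
  rw [← sum_cls_gen κ (fun j => F j * G j)]
  unfold dotInt
  exact Finset.sum_congr rfl fun i _ => by rw [hv, hw]

theorem sqNorm_eq_dot (v : GolayPt → ℤ) : sqNorm v = dotInt v v := by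
  unfold sqNorm dotInt
  exact Finset.sum_congr rfl fun i _ => by rw [pow_two]

def kH (i : GolayPt) : Fin 5 :=
  if i = none then 0 else if i = some 0 then 1 else if i = some 1 then 2 else if i ∈ mset 8983587 then 3 else 4

theorem card_kH : ∀ j : Fin 5, ((Finset.univ.filter fun i => kH i = j).card : ℤ) = ![1, 1, 1, 5, 16] j := by decide +kernel

theorem dot_kH {F G : Fin 5 → ℤ} {v w : GolayPt → ℤ} (hv : ∀ i, v i = F (kH i)) (hw : ∀ i, w i = G (kH i)) :
    dotInt v w = F 0 * G 0 + F 1 * G 1 + F 2 * G 2 + 5 * (F 3 * G 3) + 16 * (F 4 * G 4) := by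
  rw [dot_cls_gen hv hw, Fin.sum_univ_five, card_kH, card_kH, card_kH, card_kH, card_kH]
  simp

theorem sqNorm_kH {F : Fin 5 → ℤ} {v : GolayPt → ℤ} (hv : ∀ i, v i = F (kH i)) :
    sqNorm v = F 0 * F 0 + F 1 * F 1 + F 2 * F 2 + 5 * (F 3 * F 3) + 16 * (F 4 * F 4) := by
  rw [sqNorm_eq_dot, dot_kH hv hv]

/-- the vector `(1, 1, -3, 1 ^ 21)` -/
def Wv : leechLattice := ⟨cv {some 1} ∅, cv_single_mem (some 1)⟩

theorem Wv_apply (i : GolayPt) : (Wv : GolayPt → ℤ) i = 1 - 4 * chi {some 1} i := by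
  show cv {some 1} ∅ i = _
  unfold cv
  rw [show chi ∅ i = 0 by simp [chi]]; ring

theorem octH_mem : mset 8983587 ∈ Sup := (mset_mem_supports_iff (by norm_num)).mpr (by decide +kernel)

theorem kU : ∀ i, (U none : GolayPt → ℤ) i = ![5, 1, 1, 1, 1] (kH i) := by
  intro i; rw [U_apply]; revert i; decide +kernel
theorem kX : ∀ i, (X hab : GolayPt → ℤ) i = ![4, 4, 0, 0, 0] (kH i) := by
  intro i; rw [coe_X]; revert i; decide +kernel
theorem kS : ∀ i, (S hab : GolayPt → ℤ) i = ![4, -4, 0, 0, 0] (kH i) := by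
  intro i; rw [coe_S]; revert i; decide +kernel
theorem kW : ∀ i, (Wv : GolayPt → ℤ) i = ![1, 1, -3, 1, 1] (kH i) := by
  intro i; rw [Wv_apply]; revert i; decide +kernel
theorem kO : ∀ i, (O2 (mset 8983587) octH_mem : GolayPt → ℤ) i = ![2, 2, 2, 2, 0] (kH i) := by
  intro i
  show 2 * chi (mset 8983587) i = _
  revert i; decide +kernel

/-! ### two elements of `M21` -/

def cA1 : ℕ := 964605006189535887548438979271755808
theorem inM_cA1 : inM cA1 = true := by decide +kernel
noncomputable def m1 : M24 := ⟨toPerm cA1, toPerm_mem_M24 inM_cA1⟩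
theorem m1_apply (p : GolayPt) : (m1 : Equiv.Perm GolayPt) p = pt (img cA1 (ix p)) := toPerm_apply (valid_of_inM inM_cA1) p

def cA2 : ℕ := 979202557212185692351740521724578848
theorem inM_cA2 : inM cA2 = true := by decide +kernel
noncomputable def m2 : M24 := ⟨toPerm cA2, toPerm_mem_M24 inM_cA2⟩
theorem m2_apply (p : GolayPt) : (m2 : Equiv.Perm GolayPt) p = pt (img cA2 (ix p)) := toPerm_apply (valid_of_inM inM_cA2) p

noncomputable def t1 : T22 := ⟨m1, by show (m1 : Equiv.Perm GolayPt) none = none; rw [m1_apply]; decide +kernel,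
  by show (m1 : Equiv.Perm GolayPt) b0 = b0; rw [m1_apply]; decide +kernel⟩
noncomputable def t2 : T22 := ⟨m2, by show (m2 : Equiv.Perm GolayPt) none = none; rw [m2_apply]; decide +kernel,
  by show (m2 : Equiv.Perm GolayPt) b0 = b0; rw [m2_apply]; decide +kernel⟩

theorem t1_one : ((t1 : M24) : Equiv.Perm GolayPt) (some 1) = some 1 := by
  show (m1 : Equiv.Perm GolayPt) (some 1) = some 1; rw [m1_apply]; decide +kernel
theorem t2_one : ((t2 : M24) : Equiv.Perm GolayPt) (some 1) = some 1 := by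
  show (m2 : Equiv.Perm GolayPt) (some 1) = some 1; rw [m2_apply]; decide +kernel

theorem m1_O : ∀ p ∈ mset 8983587, (m1 : Equiv.Perm GolayPt) p ∈ mset 8983587 := by
  intro p; rw [m1_apply]; revert p; decide +kernel
theorem m2_O : ∀ p ∈ mset 8983587, (m2 : Equiv.Perm GolayPt) p ∈ mset 8983587 := by
  intro p; rw [m2_apply]; revert p; decide +kernel

theorem fix_O {σ : M24} (h : ∀ p ∈ mset 8983587, (σ : Equiv.Perm GolayPt) p ∈ mset 8983587) :
    peH σ • O2 (mset 8983587) octH_mem = O2 (mset 8983587) octH_mem := by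
  apply Subtype.ext
  rw [peH_smul]
  funext i
  show 2 * chi (mset 8983587) ((σ : Equiv.Perm GolayPt).symm i) = 2 * chi (mset 8983587) i
  unfold chi
  have h1 := symm_mem_iff h i
  by_cases hi : i ∈ mset 8983587
  · rw [if_pos hi, if_pos (h1.2 hi)]
  · rw [if_neg hi, if_neg (fun h2 => hi (h1.1 h2))]

theorem pts5 : ∀ i : GolayPt, i = none ∨ i = some 0 ∨ i = some 1 ∨ i = some 5 ∨ i = some 10 ∨ i = some 12 ∨ i = some 16 ∨
    i = some 19 ∨ i = some 2 ∨ i = some 3 ∨ i = some 9 ∨ i = some 8 ∨ i = some 13 ∨ i = some 4 ∨ i = some 15 ∨ i = some 6 ∨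
    i = some 21 ∨ i = some 7 ∨ i = some 18 ∨ i = some 17 ∨ i = some 20 ∨ i = some 11 ∨ i = some 14 ∨ i = some 22 := by
  decide +kernel

theorem const_H {v : leechLattice} (h1 : peH m1 • v = v) (h2 : peH m2 • v = v) (i : GolayPt) :
    (v : GolayPt → ℤ) i = ![(v : GolayPt → ℤ) none, (v : GolayPt → ℤ) (some 0), (v : GolayPt → ℤ) (some 1),
      (v : GolayPt → ℤ) (some 5), (v : GolayPt → ℤ) (some 2)] (kH i) := by
  have e1 : ∀ i j : GolayPt, pt (img cA1 (ix i)) = j → (v : GolayPt → ℤ) j = (v : GolayPt → ℤ) i := by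
    intro i j h
    rw [← h, ← m1_apply]; exact val_of_fix h1 i
  have e2 : ∀ i j : GolayPt, pt (img cA2 (ix i)) = j → (v : GolayPt → ℤ) j = (v : GolayPt → ℤ) i := by
    intro i j h
    rw [← h, ← m2_apply]; exact val_of_fix h2 i
  have h10 := e1 (some 5) (some 10) (by decide +kernel)
  have h12 := (e1 (some 10) (some 12) (by decide +kernel)).trans h10
  have h16 := (e1 (some 12) (some 16) (by decide +kernel)).trans h12
  have h19 := (e1 (some 16) (some 19) (by decide +kernel)).trans h16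
  have h3 := e2 (some 2) (some 3) (by decide +kernel)
  have h9 := (e1 (some 3) (some 9) (by decide +kernel)).trans h3
  have h8 := (e1 (some 9) (some 8) (by decide +kernel)).trans h9
  have h13 := (e2 (some 9) (some 13) (by decide +kernel)).trans h9
  have h4 := (e1 (some 8) (some 4) (by decide +kernel)).trans h8
  have h15 := (e2 (some 8) (some 15) (by decide +kernel)).trans h8
  have h6 := (e1 (some 13) (some 6) (by decide +kernel)).trans h13
  have h21 := (e1 (some 4) (some 21) (by decide +kernel)).trans h4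
  have h7 := (e2 (some 4) (some 7) (by decide +kernel)).trans h4
  have h18 := (e1 (some 15) (some 18) (by decide +kernel)).trans h15
  have h17 := (e1 (some 6) (some 17) (by decide +kernel)).trans h6
  have h20 := (e2 (some 6) (some 20) (by decide +kernel)).trans h6
  have h11 := (e2 (some 21) (some 11) (by decide +kernel)).trans h21
  have h14 := (e1 (some 7) (some 14) (by decide +kernel)).trans h7
  have h22 := (e1 (some 18) (some 22) (by decide +kernel)).trans h18
  rcases pts5 i with h | h | h | h | h | h | h | h | h | h | h | h | h | h | h | h | h | h | h | h | h | h | h | h <;> rw [h]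
  · rfl
  · rfl
  · rfl
  · rfl
  · exact h10
  · exact h12
  · exact h16
  · exact h19
  · rfl
  · exact h3
  · exact h9
  · exact h8
  · exact h13
  · exact h4
  · exact h15
  · exact h6
  · exact h21
  · exact h7
  · exact h18
  · exact h17
  · exact h20
  · exact h11
  · exact h14
  · exact h22

/-! ### the two vectors fixed by `M21` -/

theorem arithA {a b c d : ℤ} (hn : a * a + b * b + c * c + 5 * (d * d) + 16 * (d * d) = 32)
    (hU : a * 5 + b * 1 + c * 1 + 5 * (d * 1) + 16 * (d * 1) = 24) (hS : a * 4 + b * -4 + c * 0 + 5 * (d * 0) + 16 * (d * 0) = 0) :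
    (a = 4 ∧ b = 4 ∧ c = 0 ∧ d = 0) ∨ (a = 1 ∧ b = 1 ∧ c = -3 ∧ d = 1) := by
  have hb : b = a := by omega
  subst hb
  have hd : d ≤ 1 ∧ -1 ≤ d := by constructor <;> nlinarith [mul_self_nonneg b, mul_self_nonneg c]
  have ha : b ≤ 4 ∧ -4 ≤ b := by constructor <;> nlinarith [mul_self_nonneg d, mul_self_nonneg c]
  have hc : c = 24 - 6 * b - 21 * d := by omega
  subst hc
  obtain ⟨hd1, hd2⟩ := hd
  obtain ⟨ha1, ha2⟩ := ha
  interval_cases d <;> interval_cases b <;> first | (exfalso; revert hn; norm_num; done) | simp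

theorem arithB {a b c d e : ℤ} (hn : a * a + b * b + c * c + 5 * (d * d) + 16 * (e * e) = 32)
    (hU : a * 5 + b * 1 + c * 1 + 5 * (d * 1) + 16 * (e * 1) = 24) (hS : a * 4 + b * -4 + c * 0 + 5 * (d * 0) + 16 * (e * 0) = 0)
    (hX : a * 4 + b * 4 + c * 0 + 5 * (d * 0) + 16 * (e * 0) = 8)
    (hW : a * 1 + b * 1 + c * -3 + 5 * (d * 1) + 16 * (e * 1) = 16) : False := by
  have h1 : a = 1 := by omega
  have h2 : b = 1 := by omega
  have h3 : c = 1 := by omega
  subst h1 h2 h3
  have he : e ≤ 1 ∧ -1 ≤ e := by constructor <;> nlinarith [mul_self_nonneg d]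
  obtain ⟨he1, he2⟩ := he
  interval_cases e <;> omega

theorem Wv_mem : Wv ∈ cls [(U none, 24), (S hab, 0)] 32 := by
  rw [mem_cls2]
  refine ⟨?_, ?_, ?_⟩
  · rw [sqNorm_kH kW]; simp
  · rw [dot_kH kU kW]; simp
  · rw [dot_kH kS kW]; simp

/-- fixed by `M21` -/
def F21 (v : leechLattice) : Prop := ∀ m : T22, ((m : M24) : Equiv.Perm GolayPt) (some 1) = some 1 → peH (m : M24) • v = v

theorem F21_X : F21 (X hab) := fun m _ => (mem_fix2.1 (mclH_M22 ⟨(m : M24), m.2, rfl⟩)).1
theorem F21_W : F21 Wv := by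
  intro m hm
  apply Subtype.ext
  rw [peH_smul]
  funext i
  rw [Wv_apply, Wv_apply]
  have h1 : ((m : M24) : Equiv.Perm GolayPt).symm i = some 1 ↔ i = some 1 := by
    rw [Equiv.symm_apply_eq, hm]
  unfold chi
  by_cases hi : i = some 1
  · rw [if_pos (Finset.mem_singleton.2 (h1.2 hi)), if_pos (Finset.mem_singleton.2 hi)]
  · rw [if_neg (fun h => hi (h1.1 (Finset.mem_singleton.1 h))), if_neg (fun h => hi (Finset.mem_singleton.1 h))]

theorem kH_4 : ∀ i : GolayPt, (kH i = 0 ↔ i = none) ∧ (kH i = 1 ↔ i = some 0) ∧ (kH i = 2 ↔ i = some 1) := by decide +kernel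

theorem const_21 {v : leechLattice} (h : F21 v) (i : GolayPt) :
    (v : GolayPt → ℤ) i = ![(v : GolayPt → ℤ) none, (v : GolayPt → ℤ) (some 0), (v : GolayPt → ℤ) (some 1),
      (v : GolayPt → ℤ) (some 5), (v : GolayPt → ℤ) (some 5)] (kH i) := by
  have h1 := const_H (h t1 t1_one) (h t2 t2_one) i
  have h2 : (v : GolayPt → ℤ) (some 2) = (v : GolayPt → ℤ) (some 5) := by
    obtain ⟨m, hm, m1, m2, m3, m4⟩ := exists_four (a := none) (b := b0) (c := some 1) (d := some 5) (a' := none) (b' := b0)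
      (c' := some 1) (d' := some 2) hab (by decide) (by decide) (by decide) (by decide) (by decide) hab (by decide) (by decide)
      (by decide) (by decide) (by decide)
    have h3 := val_of_fix (h ⟨⟨m, hm⟩, m1, m2⟩ m3) (some 5)
    rw [← h3]
    exact congrArg _ m4.symm
  rw [h1, h2]

theorem vec_ext {F : Fin 5 → ℤ} {v w : leechLattice} (hv : ∀ i, (v : GolayPt → ℤ) i = F (kH i))
    (hw : ∀ i, (w : GolayPt → ℤ) i = F (kH i)) : v = w := Subtype.ext (funext fun i => by rw [hv, hw])

theorem fix21 {v : leechLattice} (h : F21 v) (hc : v ∈ cls [(U none, 24), (S hab, 0)] 32) : v = X hab ∨ v = Wv := by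
  rw [mem_cls2] at hc
  obtain ⟨h1, h2, h3⟩ := hc
  have hk := const_21 h
  rw [sqNorm_kH hk] at h1
  rw [dot_comm, dot_kH hk kU] at h2
  rw [dot_comm, dot_kH hk kS] at h3
  rcases arithA (a := (v : GolayPt → ℤ) none) (b := (v : GolayPt → ℤ) (some 0)) (c := (v : GolayPt → ℤ) (some 1))
    (d := (v : GolayPt → ℤ) (some 5)) h1 h2 h3 with ⟨e1, e2, e3, e4⟩ | ⟨e1, e2, e3, e4⟩
  · left
    rw [e1, e2, e3, e4] at hk
    exact vec_ext hk kX
  · right
    rw [e1, e2, e3, e4] at hk
    exact vec_ext hk kW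

theorem dot_W_S : dotInt (S hab : GolayPt → ℤ) (Wv : GolayPt → ℤ) = 0 := by rw [dot_kH kS kW]; simp

theorem fixes_one {y : M24} (h : peH y • Wv = Wv) : (y : Equiv.Perm GolayPt) (some 1) = some 1 := by
  have h1 := val_of_fix h (some 1)
  rw [Wv_apply, Wv_apply] at h1
  unfold chi at h1
  by_contra hne
  rw [if_neg (by rwa [Finset.mem_singleton]), if_pos (Finset.mem_singleton_self _)] at h1
  norm_num at h1

/-- elements of `HS` commuting with `M21` are trivial -/
theorem cent_21 {c : Co0} (hU : c • U none = U none) (hS : c • S hab = S hab)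
    (h : ∀ m : T22, ((m : M24) : Equiv.Perm GolayPt) (some 1) = some 1 → c * peH (m : M24) = peH (m : M24) * c) : c = 1 := by
  have hF : ∀ {v : leechLattice}, F21 v → F21 (c • v) := fun hv m hm => fix_of_comm (h m hm) (hv m hm)
  have hcl : ∀ {v : leechLattice}, v ∈ cls [(U none, 24), (S hab, 0)] 32 → c • v ∈ cls [(U none, 24), (S hab, 0)] 32 := by
    intro v hv
    have := (mem_cls_smul c).1 hv
    simp only [List.map_cons, List.map_nil, hU, hS] at this
    exact this
  have hXW : X hab ≠ Wv := by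
    intro h1
    have h2 := congrArg (fun v : leechLattice => (v : GolayPt → ℤ) none) h1
    have h3 : (X hab : GolayPt → ℤ) none = 4 := X_none
    have h4 : (Wv : GolayPt → ℤ) none = 1 := by rw [Wv_apply]; decide +kernel
    have h5 : (X hab : GolayPt → ℤ) none = (Wv : GolayPt → ℤ) none := h2
    rw [h3, h4] at h5
    norm_num at h5
  rcases fix21 (hF F21_X) (hcl memHS) with h1 | h1
  · have h2 : c • Wv = Wv := by
      rcases fix21 (hF F21_W) (hcl Wv_mem) with h2 | h2
      · exact absurd (MulAction.injective c (h1.trans h2.symm)) hXW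
      · exact h2
    obtain ⟨y, hy, rfl⟩ := mem_M22 h1 hS hU
    have hy1 := fixes_one h2
    have hy' : y = 1 := by
      apply Subtype.ext
      ext1 i
      by_contra hne
      have hne' : (y : Equiv.Perm GolayPt) i ≠ i := hne
      have hi0 : i ≠ none := fun h => hne' (by rw [h]; exact hy.1)
      have hi1 : i ≠ b0 := fun h => hne' (by rw [h]; exact hy.2)
      have hi2 : i ≠ some 1 := fun h => hne' (by rw [h]; exact hy1)
      set j := (y : Equiv.Perm GolayPt) i with hj
      have hj0 : j ≠ none := fun h => hi0 ((y : Equiv.Perm GolayPt).injective (h.trans hy.1.symm))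
      have hj1 : j ≠ b0 := fun h => hi1 ((y : Equiv.Perm GolayPt).injective (h.trans hy.2.symm))
      have hj2 : j ≠ some 1 := fun h => hi2 ((y : Equiv.Perm GolayPt).injective (h.trans hy1.symm))
      obtain ⟨k, hk⟩ := exists_point_ne {none, b0, some 1, i, j} (lt_of_le_of_lt Finset.card_le_five (by norm_num))
      simp only [Finset.mem_insert, Finset.mem_singleton, not_or] at hk
      obtain ⟨k0, k1, k2, k3, k4⟩ := hk
      obtain ⟨m, hm, e1, e2, e3, e4, e5⟩ := exists_five (a := none) (b := b0) (c := some 1) (d := i) (e := j) (a' := none)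
        (b' := b0) (c' := some 1) (d' := i) (e' := k) hab (by decide) (Ne.symm hi0) (Ne.symm hj0) (by decide) (Ne.symm hi1)
        (Ne.symm hj1) (Ne.symm hi2) (Ne.symm hj2) (Ne.symm hne') hab (by decide) (Ne.symm hi0) (Ne.symm k0) (by decide)
        (Ne.symm hi1) (Ne.symm k1) (Ne.symm hi2) (Ne.symm k2) (Ne.symm k3)
      have h5 := peH_comm_iff.1 (h ⟨⟨m, hm⟩, e1, e2⟩ e3)
      have h6 := congrArg (fun σ : M24 => (σ : Equiv.Perm GolayPt) i) h5
      have h7 : (y : Equiv.Perm GolayPt) (m i) = m ((y : Equiv.Perm GolayPt) i) := h6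
      rw [e4, ← hj, e5] at h7
      exact k4 h7.symm
    rw [hy', map_one]
  · exfalso
    have h2 : c • Wv = X hab := by
      rcases fix21 (hF F21_W) (hcl Wv_mem) with h2 | h2
      · exact h2
      · exact absurd (MulAction.injective c (h1.trans h2.symm)) hXW
    set O := O2 (mset 8983587) octH_mem with hO
    have o1 : peH m1 • (c • O) = c • O := fix_of_comm (h t1 t1_one) (fix_O m1_O)
    have o2 : peH m2 • (c • O) = c • O := fix_of_comm (h t2 t2_one) (fix_O m2_O)
    have hk := const_H o1 o2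
    have n1 := sqNorm_smul c O
    rw [sqNorm_kH hk, sqNorm_kH kO] at n1
    have n2 := dot_smul c O (U none)
    rw [hU, dot_kH hk kU, dot_kH kO kU] at n2
    have n3 := dot_smul c O (S hab)
    rw [hS, dot_kH hk kS, dot_kH kO kS] at n3
    have n4 := dot_smul c O Wv
    rw [h2, dot_kH hk kX, dot_kH kO kW] at n4
    have n5 := dot_smul c O (X hab)
    rw [h1, dot_kH hk kW, dot_kH kO kX] at n5
    exact arithB (n1.trans (by simp)) (n2.trans (by simp)) (n3.trans (by simp)) (n4.trans (by simp)) (n5.trans (by simp))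

/-! ### the Higman-Sims group -/

abbrev GHS : Type := ↥(fixL [U none, S hab])

noncomputable def fH : T22 →* GHS :=
  (peH.comp (St none ⊓ St b0).subtype).codRestrict _ fun y => hsH_M22 ⟨(y : M24), y.2, rfl⟩

theorem coe_fH (y : T22) : ((fH y : GHS) : Co0) = peH (y : M24) := rfl

theorem fH_inj : Function.Injective fH := by
  intro a b h
  apply Subtype.ext
  exact peH_inj (congrArg Subtype.val h)

theorem card_GHS : Nat.card GHS = 44352000 := chainHS.2

theorem mem_range_fH {g : GHS} : g ∈ fH.range ↔ (g : Co0) ∈ M22 := by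
  constructor
  · rintro ⟨y, rfl⟩
    exact ⟨(y : M24), y.2, rfl⟩
  · rintro ⟨σ, hσ, h⟩
    exact ⟨⟨σ, hσ⟩, Subtype.ext h⟩

theorem fH_norm (g : GHS) (h : g ∈ normalizer (zpowers (fH tq) : Set GHS)) : g ∈ fH.range := by
  rw [mem_range_fH]
  apply hsH_norm _ g.2
  apply mem_normalizer_of
  obtain ⟨n, hn⟩ := Subgroup.mem_zpowers_iff.1 ((Subgroup.mem_normalizer_iff.1 h (fH tq)).1 (mem_zpowers _))
  rw [Subgroup.mem_zpowers_iff]
  refine ⟨n, ?_⟩
  have h1 := congrArg (fun z : GHS => (z : Co0)) hn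
  exact h1

theorem index_range_fH : fH.range.index = 100 := by
  have h1 := Subgroup.card_mul_index fH.range
  rw [card_GHS] at h1
  have h2 : Nat.card fH.range = 443520 := by
    rw [← card_T22]
    exact (Nat.card_congr (MonoidHom.ofInjective fH_inj).toEquiv).symm
  rw [h2] at h1
  omega

theorem exists_W : ∃ g : GHS, (g : Co0) • X hab = Wv := by
  obtain ⟨g, hg, h⟩ := chain100.1 _ Wv_mem
  exact ⟨⟨g, hg⟩, h⟩

theorem HS_trivial (β : MulAut GHS) (hq : β (fH tq) = fH tq) (hr : β (fH tr) = fH tr) : β = 1 := by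
  -- the image of `M22`
  have hKK : KK fH β = ⊤ := by
    have h1 := index_KK_le fH β
    rw [index_range_fH] at h1
    rcases T22_sub (KK fH β) (tq_mem_KK fH (Or.inl hq)) (tr_mem_KK fH hr) with h | ⟨h, -⟩ | h
    · exact Subgroup.index_eq_one.1 h
    · omega
    · omega
  have hfix : ∀ y, β (fH y) = fH y := fix_M22_of fH fH_inj (fun y => by
    rw [← mem_KK, hKK]; trivial) hq hr
  let K : Subgroup GHS :=
    { carrier := {y | β y = y}
      one_mem' := map_one β
      mul_mem' := fun {a b} ha hb => by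
        show β (a * b) = a * b
        rw [map_mul]
        exact congrArg₂ _ ha hb
      inv_mem' := fun {a} ha => by
        show β a⁻¹ = a⁻¹
        rw [map_inv]
        exact congrArg _ ha }
  have hK22 : fH.range ≤ K := by rintro _ ⟨y, rfl⟩; exact hfix y
  -- an element outside `M22`
  obtain ⟨g, hg⟩ := exists_W
  have hgK : g ∈ K := by
    show β g = g
    set c : GHS := g * (β g)⁻¹ with hc
    have hc1 : (c : Co0) = 1 := by
      have hcm := mem_fix2.1 c.2
      apply cent_21 hcm.1 hcm.2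
      intro m hm
      have hm1 : peH (m : M24) • Wv = Wv := F21_W m hm
      have h1 : (g⁻¹ * fH m * g : GHS) ∈ fH.range := by
        rw [mem_range_fH]
        have h2 := mem_fix2.1 (g⁻¹ * fH m * g : GHS).2
        apply mem_M22 _ h2.2 h2.1
        show ((g : Co0)⁻¹ * peH (m : M24) * (g : Co0)) • X hab = X hab
        rw [mul_smul, mul_smul, hg, hm1, inv_smul_eq_iff, hg]
      obtain ⟨y, hy⟩ := h1
      have h3 : β (g⁻¹ * fH m * g) = g⁻¹ * fH m * g := by rw [← hy, hfix]
      rw [map_mul, map_mul, map_inv, hfix] at h3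
      have h4 : c * fH m = fH m * c := by
        rw [hc]
        have h5 : g * ((β g)⁻¹ * fH m * β g) * (β g)⁻¹ = g * (g⁻¹ * fH m * g) * (β g)⁻¹ := by rw [h3]
        calc g * (β g)⁻¹ * fH m = g * ((β g)⁻¹ * fH m * β g) * (β g)⁻¹ := by group
          _ = g * (g⁻¹ * fH m * g) * (β g)⁻¹ := h5
          _ = fH m * (g * (β g)⁻¹) := by group
      exact congrArg (fun z : GHS => (z : Co0)) h4
    have hc2 : c = 1 := Subtype.ext hc1
    rw [hc, mul_inv_eq_one] at hc2
    exact hc2.symm
  have hgn : g ∉ fH.range := by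
    rw [mem_range_fH]
    rintro ⟨σ, hσ, h⟩
    have h1 := (mem_fix2.1 (mclH_M22 ⟨σ, hσ, rfl⟩)).1
    rw [h] at h1
    have h2 : X hab = Wv := by rw [← hg]; exact h1.symm
    have h3 := fixes_one (y := (⟨(⟨1, M24.one_mem⟩ : M24), rfl, rfl⟩ : T22)) (by
      show peH (1 : M24) • Wv = Wv
      rw [map_one, one_smul])
    have h4 := congrArg (fun v : leechLattice => (v : GolayPt → ℤ) none) h2
    have h5 : (X hab : GolayPt → ℤ) none = (Wv : GolayPt → ℤ) none := h4
    have h6 : (Wv : GolayPt → ℤ) none = 1 := by rw [Wv_apply]; decide +kernel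
    rw [X_none, h6] at h5
    norm_num at h5
  haveI : Fact (Nat.Prime 11) := ⟨by norm_num⟩
  have hKt : K = ⊤ := by
    have h1 := AutSyl.index_modEq (P := zpowers (fH tq)) (K := K) (p := 11)
      (by rw [Nat.card_zpowers, orderOf_injective fH fH_inj, orderOf_tq]) (by rw [card_GHS]; norm_num)
      (fun x hx => hK22 (fH_norm x hx))
    have h2 : K.index ∣ 100 := by
      rw [← index_range_fH]
      exact Subgroup.index_dvd_of_le hK22
    have h3 : K.index ≤ 100 := Nat.le_of_dvd (by norm_num) h2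
    have h4 : K.index = 1 ∨ K.index = 100 := by
      interval_cases h5 : K.index <;> omega
    rcases h4 with h4 | h4
    · exact Subgroup.index_eq_one.1 h4
    · exfalso
      apply hgn
      have h5 : fH.range = K := by
        apply Subgroup.eq_of_le_of_card_ge hK22
        have h6 := Subgroup.card_mul_index fH.range
        have h7 := Subgroup.card_mul_index K
        rw [index_range_fH] at h6
        rw [h4] at h7
        omega
      rw [h5]; exact hgK
  ext1 y
  have h1 : y ∈ K := by rw [hKt]; trivial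
  exact h1

end Cfsg.Agent.Lib.LeechSyl
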