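import Cfsg.Agent.Lib.LeechOutH2

/-!
An explicit element of order five of the McLaughlin group.
-/

set_option autoImplicit false

namespace Cfsg.Agent.Lib.LeechSyl

open Cfsg Cfsg.Agent.Lib.Golay Cfsg.Agent.Lib.LeechMin Cfsg.Agent.Lib.GolayCoset Cfsg.Agent.Lib.LeechXi
  Cfsg.Agent.Lib.LeechTrans Cfsg.Agent.Lib.LeechCo2 Cfsg.Agent.Lib.LeechFrame Cfsg.Agent.Lib.LeechCount
  Cfsg.Agent.Lib.LeechOrder Cfsg.Agent.Lib.LeechMod Cfsg.Agent.Lib.LeechQuot Cfsg.Agent.Lib.LeechChain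
open Subgroup
open scoped Pointwise

/-! ### vectors as lists -/

/-- the vector given by a list -/
def vl (l : List ℤ) (i : GolayPt) : ℤ := l.getD (ix i) 0

theorem vl_map {f : ℕ → ℤ} (i : GolayPt) : vl ((List.range 24).map f) i = f (ix i) := by
  unfold vl
  rw [List.getD_eq_getElem _ _ (by simpa using ix_lt i)]
  simp

/-- a Conway element on lists -/
def xil (t0 : ℕ) (tq : List (List ℕ)) (l : List ℤ) : List ℤ :=
  (List.range 24).map fun i => (if t0.testBit i then -1 else 1) * (l.getD i 0 - ((tq.getD i []).map fun j => l.getD j 0).sum / 2)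

theorem xil_spec {t0 : ℕ} {tq : List (List ℕ)} (hT : (mset t0).card = 4)
    (h : ∀ p : GolayPt, ((tq.getD (ix p) []).map pt).Nodup ∧ (∀ j ∈ tq.getD (ix p) [], j < 24) ∧
      ((tq.getD (ix p) []).map pt).toFinset ∈ sextetOf (mset t0) ∧ p ∈ ((tq.getD (ix p) []).map pt).toFinset)
    (l : List ℤ) : xiF (mset t0) (vl l) = vl (xil t0 tq l) := by
  funext p
  obtain ⟨h1, h2, h3, h4⟩ := h p
  rw [xiF_apply hT h3 h4, xil, vl_map, List.sum_toFinset _ h1, List.map_map]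
  have h5 : chi (mset t0) p = if t0.testBit (ix p) then 1 else 0 := by
    unfold chi
    simp only [mem_mset]
  have h6 : (tq.getD (ix p) []).map (vl l ∘ pt) = (tq.getD (ix p) []).map fun j => l.getD j 0 := by
    apply List.map_congr_left
    intro j hj
    show l.getD (ix (pt j)) 0 = _
    rw [ix_pt (h2 j hj)]
  rw [h5, h6]
  show _ * (l.getD (ix p) 0 - _) = _
  split_ifs <;> norm_num

/-- a permutation on lists -/
def pl (c' : ℕ) (l : List ℤ) : List ℤ := (List.range 24).map fun i => l.getD (img c' i) 0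

theorem pl_spec {σ : M24} {c' : ℕ} (h : ∀ p, (σ : Equiv.Perm GolayPt) (pt (img c' (ix p))) = p) (h' : ∀ p : GolayPt, img c' (ix p) < 24)
    {v : leechLattice} {l : List ℤ} (hv : (v : GolayPt → ℤ) = vl l) :
    ((peH σ • v : leechLattice) : GolayPt → ℤ) = vl (pl c' l) := by
  rw [peH_smul, hv]
  funext p
  rw [pl, vl_map]
  have h1 : (σ : Equiv.Perm GolayPt).symm p = pt (img c' (ix p)) := by rw [Equiv.symm_apply_eq, h]
  show vl l ((σ : Equiv.Perm GolayPt).symm p) = _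
  rw [h1]
  show l.getD (ix (pt _)) 0 = _
  rw [ix_pt (h' p)]

/-! ### the element -/

def tq1 : List (List ℕ) :=
  [[0, 8, 9, 15], [1, 6, 18, 21], [2, 5, 11, 14], [3, 7, 10, 22], [4, 17, 19, 20], [2, 5, 11, 14],
    [1, 6, 18, 21], [3, 7, 10, 22], [0, 8, 9, 15], [0, 8, 9, 15], [3, 7, 10, 22], [2, 5, 11, 14],
    [12, 13, 16, 23], [12, 13, 16, 23], [2, 5, 11, 14], [0, 8, 9, 15], [12, 13, 16, 23], [4, 17, 19, 20],
    [1, 6, 18, 21], [4, 17, 19, 20], [4, 17, 19, 20], [1, 6, 18, 21], [3, 7, 10, 22], [12, 13, 16, 23]]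

def tm1 : List ℕ :=
  [33537, 2359362, 18468, 4195464, 1703952, 18468, 2359362, 4195464, 33537, 33537, 4195464, 18468,
    8466432, 8466432, 18468, 33537, 8466432, 1703952, 2359362, 1703952, 1703952, 2359362, 4195464, 8466432]

def tq2 : List (List ℕ) :=
  [[0, 8, 9, 23], [1, 14, 19, 22], [2, 3, 4, 21], [2, 3, 4, 21], [2, 3, 4, 21], [5, 10, 17, 18],
    [6, 7, 11, 20], [6, 7, 11, 20], [0, 8, 9, 23], [0, 8, 9, 23], [5, 10, 17, 18], [6, 7, 11, 20],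
    [12, 13, 15, 16], [12, 13, 15, 16], [1, 14, 19, 22], [12, 13, 15, 16], [12, 13, 15, 16], [5, 10, 17, 18],
    [5, 10, 17, 18], [1, 14, 19, 22], [6, 7, 11, 20], [2, 3, 4, 21], [1, 14, 19, 22], [0, 8, 9, 23]]

def tm2 : List ℕ :=
  [8389377, 4734978, 2097180, 2097180, 2097180, 394272, 1050816, 1050816, 8389377, 8389377, 394272, 1050816,
    110592, 110592, 4734978, 110592, 110592, 394272, 394272, 4734978, 1050816, 2097180, 4734978, 8389377]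

def cSg : ℕ := 627467451225344650701551535989166784
def cSi : ℕ := 126538489271008792265528875382673792

theorem card_T1 : (mset 33537).card = 4 := by decide +kernel
theorem card_T2 : (mset 8389377).card = 4 := by decide +kernel

theorem tq1_ok1 : ∀ p : GolayPt, ((tq1.getD (ix p) []).map pt).Nodup ∧ (∀ j ∈ tq1.getD (ix p) [], j < 24) ∧
    ((tq1.getD (ix p) []).map pt).toFinset = mset (tm1.getD (ix p) 0) ∧ (tm1.getD (ix p) 0).testBit (ix p) = true ∧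
    isCode (33537 ^^^ tm1.getD (ix p) 0) = true ∧ pc (tm1.getD (ix p) 0) = 4 ∧ 33537 ^^^ tm1.getD (ix p) 0 < 2 ^ 24 := by decide +kernel
theorem tq2_ok1 : ∀ p : GolayPt, ((tq2.getD (ix p) []).map pt).Nodup ∧ (∀ j ∈ tq2.getD (ix p) [], j < 24) ∧
    ((tq2.getD (ix p) []).map pt).toFinset = mset (tm2.getD (ix p) 0) ∧ (tm2.getD (ix p) 0).testBit (ix p) = true ∧
    isCode (8389377 ^^^ tm2.getD (ix p) 0) = true ∧ pc (tm2.getD (ix p) 0) = 4 ∧ 8389377 ^^^ tm2.getD (ix p) 0 < 2 ^ 24 := by decide +kernel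

theorem tq_ok {t0 : ℕ} {tq : List (List ℕ)} {tm : List ℕ}
    (h : ∀ p : GolayPt, ((tq.getD (ix p) []).map pt).Nodup ∧ (∀ j ∈ tq.getD (ix p) [], j < 24) ∧
    ((tq.getD (ix p) []).map pt).toFinset = mset (tm.getD (ix p) 0) ∧ (tm.getD (ix p) 0).testBit (ix p) = true ∧
    isCode (t0 ^^^ tm.getD (ix p) 0) = true ∧ pc (tm.getD (ix p) 0) = 4 ∧ t0 ^^^ tm.getD (ix p) 0 < 2 ^ 24) :
    ∀ p : GolayPt, ((tq.getD (ix p) []).map pt).Nodup ∧ (∀ j ∈ tq.getD (ix p) [], j < 24) ∧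
      ((tq.getD (ix p) []).map pt).toFinset ∈ sextetOf (mset t0) ∧ p ∈ ((tq.getD (ix p) []).map pt).toFinset := by
  intro p
  obtain ⟨h1, h2, h3, h4, h5, h6, h7⟩ := h p
  refine ⟨h1, h2, ?_, ?_⟩
  · rw [h3, mem_sextetOf]
    refine ⟨by rw [card_mset]; exact h6, ?_⟩
    rw [← mset_xor]
    exact (mset_mem_supports_iff h7).mpr h5
  · rw [h3, mem_mset]; exact h4

theorem inM_cSg : inM cSg = true := by decide +kernel
noncomputable def sg : M24 := ⟨toPerm cSg, toPerm_mem_M24 inM_cSg⟩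
theorem sg_apply (p : GolayPt) : (sg : Equiv.Perm GolayPt) p = pt (img cSg (ix p)) := toPerm_apply (valid_of_inM inM_cSg) p
theorem sg_inv (p : GolayPt) : (sg : Equiv.Perm GolayPt) (pt (img cSi (ix p))) = p := by
  rw [sg_apply]; revert p; decide +kernel
theorem sgi_lt : ∀ p : GolayPt, img cSi (ix p) < 24 := by decide +kernel

noncomputable def x1 : Co0 := ⟨xi (mset 33537) card_T1, xi_mem card_T1⟩
noncomputable def x2 : Co0 := ⟨xi (mset 8389377) card_T2, xi_mem card_T2⟩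

/-- the element of order five -/
noncomputable def ss : Co0 := x1 * (x2 * peH sg)

def sl (l : List ℤ) : List ℤ := xil 33537 tq1 (xil 8389377 tq2 (pl cSi l))

theorem ss_vl {v : leechLattice} {l : List ℤ} (hv : (v : GolayPt → ℤ) = vl l) :
    ((ss • v : leechLattice) : GolayPt → ℤ) = vl (sl l) := by
  unfold ss sl
  rw [mul_smul, mul_smul]
  show xiF (mset 33537) (xiF (mset 8389377) ((peH sg • v : leechLattice) : GolayPt → ℤ)) = _
  rw [pl_spec sg_inv sgi_lt hv, xil_spec card_T2 (tq_ok tq2_ok1), xil_spec card_T1 (tq_ok tq1_ok1)]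

def S0l : List ℤ := [-4, 0, 0, 0, 0, 0, 0, 0, 0, 0, 0, 0, 0, 0, 0, 0, 0, 0, 0, 0, 0, 0, 0, 4]
def S1l : List ℤ := [-2, 0, 0, 0, 0, 0, 0, 0, 2, 2, 0, 0, 2, 2, 0, -2, 2, 0, 0, 0, 0, 0, 0, 2]
def S2l : List ℤ := [-1, 1, 1, 3, 1, 1, 1, 1, 1, 1, 1, -1, 1, 1, -1, -1, 1, -1, 1, -1, 1, 1, -1, 1]
def S3l : List ℤ := [-1, 1, 1, -1, 1, 1, 1, 1, 1, 1, 1, -1, 1, 1, -1, 3, 1, -1, 1, -1, 1, 1, -1, 1]
def S4l : List ℤ := [-2, 0, 0, -2, 0, 2, 0, 2, 0, 0, 2, 0, 0, 0, 0, 0, 0, 0, 0, 0, 2, 2, 0, 2]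
def Xl : List ℤ := [4, 0, 0, 0, 0, 0, 0, 0, 0, 0, 0, 0, 0, 0, 0, 0, 0, 0, 0, 0, 0, 0, 0, 4]
def Ul : List ℤ := [1, 1, 1, 1, 1, 1, 1, 1, 1, 1, 1, 1, 1, 1, 1, 1, 1, 1, 1, 1, 1, 1, 1, 5]
def Rl : List (List ℤ) :=
  [[6, 0, 0, 0, 0, 0, 0, 0, -2, -2, 0, 0, -2, -2, 0, 2, -2, 0, 0, 0, 0, 0, 0, 2],
    [0, -2, 2, -2, 2, 2, 2, -2, 0, 0, -2, 2, 0, 0, -2, 0, 0, 2, 2, -2, 2, 2, 2, 0],
    [0, 2, -2, -2, 2, 2, 2, 2, 0, 0, 2, 2, 0, 0, 2, 0, 0, -2, 2, -2, -2, -2, 2, 0],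
    [2, 0, 0, 0, 0, 0, 0, 0, 2, 2, 0, 0, 2, 2, 0, 6, 2, 0, 0, 0, 0, 0, 0, -2],
    [0, 2, 2, -2, -2, -2, 2, 2, 0, 0, 2, -2, 0, 0, -2, 0, 0, 2, 2, 2, 2, -2, 2, 0],
    [-2, 0, 0, 0, 0, 0, 0, 0, -2, 6, 0, 0, -2, -2, 0, 2, -2, 0, 0, 0, 0, 0, 0, 2],
    [0, 2, 2, -2, 2, 2, -2, 2, 0, 0, -2, -2, 0, 0, 2, 0, 0, 2, 2, 2, -2, 2, -2, 0],
    [-2, 0, 0, 0, 0, 0, 0, 0, -2, -2, 0, 0, -2, 6, 0, 2, -2, 0, 0, 0, 0, 0, 0, 2],
    [0, -2, 2, 2, -2, 2, 2, 2, 0, 0, 2, 2, 0, 0, -2, 0, 0, -2, 2, 2, -2, 2, -2, 0],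
    [0, -2, -2, 2, 2, -2, 2, 2, 0, 0, 2, -2, 0, 0, 2, 0, 0, 2, 2, -2, 2, 2, -2, 0],
    [-2, 0, 0, 0, 0, 0, 0, 0, -2, -2, 0, 0, -2, -2, 0, 2, 6, 0, 0, 0, 0, 0, 0, 2],
    [0, -2, 2, 2, 2, 2, 2, -2, 0, 0, 2, -2, 0, 0, 2, 0, 0, 2, -2, 2, -2, -2, 2, 0],
    [0, 2, 2, 2, 2, 2, -2, 2, 0, 0, 2, 2, 0, 0, -2, 0, 0, 2, -2, -2, 2, -2, -2, 0],
    [0, 2, 2, 2, -2, 2, -2, -2, 0, 0, 2, -2, 0, 0, 2, 0, 0, -2, 2, -2, 2, 2, 2, 0],
    [0, 2, -2, 2, 2, -2, -2, -2, 0, 0, 2, 2, 0, 0, -2, 0, 0, 2, 2, 2, -2, 2, 2, 0],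
    [0, -2, -2, -2, -2, 2, -2, 2, 0, 0, 2, 2, 0, 0, 2, 0, 0, 2, -2, 2, 2, 2, 2, 0],
    [0, 2, -2, 2, 2, 2, 2, 2, 0, 0, -2, -2, 0, 0, -2, 0, 0, -2, -2, 2, 2, 2, 2, 0],
    [0, -2, 2, 2, 2, -2, -2, 2, 0, 0, -2, 2, 0, 0, 2, 0, 0, -2, 2, 2, 2, -2, 2, 0],
    [0, 2, 2, -2, 2, -2, 2, -2, 0, 0, 2, 2, 0, 0, 2, 0, 0, -2, -2, 2, 2, 2, -2, 0],
    [0, 2, 2, 2, -2, -2, 2, 2, 0, 0, -2, 2, 0, 0, 2, 0, 0, 2, -2, -2, -2, 2, 2, 0],
    [-2, 0, 0, 0, 0, 0, 0, 0, 6, -2, 0, 0, -2, -2, 0, 2, -2, 0, 0, 0, 0, 0, 0, 2],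
    [-2, 0, 0, 0, 0, 0, 0, 0, -2, -2, 0, 0, 6, -2, 0, 2, -2, 0, 0, 0, 0, 0, 0, 2],
    [0, 2, -2, 2, -2, 2, 2, -2, 0, 0, -2, 2, 0, 0, 2, 0, 0, 2, 2, 2, 2, -2, -2, 0],
    [2, 0, 0, 0, 0, 0, 0, 0, 2, 2, 0, 0, 2, 2, 0, -2, 2, 0, 0, 0, 0, 0, 0, 6]]

def el (n : ℕ) : List ℤ := (List.range 24).map fun i => if i = n then 8 else 0

theorem ef_vl (p : GolayPt) : (ef p : GolayPt → ℤ) = vl (el (ix p)) := by
  funext q
  rw [coe_ef, el, vl_map]
  by_cases h : q = p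
  · rw [h, Pi.single_eq_same, if_pos rfl]
  · rw [Pi.single_eq_of_ne h, if_neg (fun h' => h (ix_injective h'))]

theorem sl_el : ∀ n : Fin 24, sl (el n) = Rl.getD n [] := by decide +kernel

def Rv (p q : GolayPt) : ℤ := (Rl.getD (ix p) []).getD (ix q) 0

theorem ss_ef (p q : GolayPt) : ((ss • ef p : leechLattice) : GolayPt → ℤ) q = Rv p q := by
  rw [ss_vl (ef_vl p), sl_el ⟨ix p, ix_lt p⟩]; rfl

theorem ext_ef {g h : Co0} (H : ∀ p, g • ef p = h • ef p) : g = h := by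
  have key : ∀ k : Co0, (∀ p, k • ef p = ef p) → k = 1 := by
    intro k hk
    apply ext_smul
    intro v
    rw [one_smul]
    apply Subtype.ext
    funext p
    have h1 := dot_smul k (ef p) v
    rw [hk, coe_ef, dot_single, dot_single] at h1
    omega
  have h1 := key (h⁻¹ * g) (fun p => by rw [mul_smul, H, inv_smul_smul])
  rw [inv_mul_eq_one] at h1
  exact h1.symm

theorem peH_ef' (σ : M24) (p : GolayPt) : peH σ • ef p = ef ((σ : Equiv.Perm GolayPt) p) := by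
  apply Subtype.ext
  rw [peH_smul, coe_ef]
  funext q
  rw [coe_ef]
  by_cases h : q = (σ : Equiv.Perm GolayPt) p
  · rw [h, Pi.single_eq_same]
    show (Pi.single p 8 : GolayPt → ℤ) ((σ : Equiv.Perm GolayPt).symm _) = 8
    rw [Equiv.symm_apply_apply, Pi.single_eq_same]
  · rw [Pi.single_eq_of_ne h]
    show (Pi.single p 8 : GolayPt → ℤ) ((σ : Equiv.Perm GolayPt).symm q) = 0
    rw [Pi.single_eq_of_ne]
    intro h1
    rw [Equiv.symm_apply_eq] at h1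
    exact h h1

/-- relations with permutations -/
theorem rel {σ τ : M24} (h : ∀ p q, Rv ((σ : Equiv.Perm GolayPt) p) ((τ : Equiv.Perm GolayPt) q) = Rv p q) :
    ss * peH σ = peH τ * ss := by
  apply ext_ef
  intro p
  rw [mul_smul, mul_smul, peH_ef']
  apply Subtype.ext
  funext x
  obtain ⟨q, rfl⟩ := (τ : Equiv.Perm GolayPt).surjective x
  rw [ss_ef, h, peH_smul]
  show _ = ((ss • ef p : leechLattice) : GolayPt → ℤ) ((τ : Equiv.Perm GolayPt).symm ((τ : Equiv.Perm GolayPt) q))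
  rw [Equiv.symm_apply_apply, ss_ef]

theorem ss_cu : ss * peH cu = peH cu * ss := by
  apply rel
  intro p q
  rw [cu_apply, cu_apply]
  revert p q
  decide +kernel

theorem ss_n4 : ss * peH (n4 * n4) = peH (n4 * n4) * ss := by
  apply rel
  intro p q
  show Rv ((n4 : Equiv.Perm GolayPt) ((n4 : Equiv.Perm GolayPt) p)) ((n4 : Equiv.Perm GolayPt) ((n4 : Equiv.Perm GolayPt) q)) = _
  rw [n4_apply, n4_apply, n4_apply, n4_apply]
  revert p q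
  decide +kernel

theorem X_vl : (X hab : GolayPt → ℤ) = vl Xl := by
  funext i; rw [coe_X]; revert i; decide +kernel
theorem U_vl : (U none : GolayPt → ℤ) = vl Ul := by
  funext i; rw [U_apply]; revert i; decide +kernel
theorem S_vl : (S hab : GolayPt → ℤ) = vl S0l := by
  funext i; rw [coe_S]; revert i; decide +kernel

theorem ss_X : ss • X hab = X hab := by
  apply Subtype.ext
  rw [ss_vl X_vl, X_vl]
  have : sl Xl = Xl := by decide +kernel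
  rw [this]
theorem ss_U : ss • U none = U none := by
  apply Subtype.ext
  rw [ss_vl U_vl, U_vl]
  have : sl Ul = Ul := by decide +kernel
  rw [this]

theorem ss_S1 : ((ss • S hab : leechLattice) : GolayPt → ℤ) = vl S1l := by
  rw [ss_vl S_vl]
  have : sl S0l = S1l := by decide +kernel
  rw [this]
theorem ss_S2 : ((ss ^ 2 • S hab : leechLattice) : GolayPt → ℤ) = vl S2l := by
  rw [pow_succ', pow_one, mul_smul, ss_vl ss_S1]
  have : sl S1l = S2l := by decide +kernel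
  rw [this]
theorem ss_S3 : ((ss ^ 3 • S hab : leechLattice) : GolayPt → ℤ) = vl S3l := by
  rw [pow_succ', mul_smul, ss_vl ss_S2]
  have : sl S2l = S3l := by decide +kernel
  rw [this]
theorem ss_S4 : ((ss ^ 4 • S hab : leechLattice) : GolayPt → ℤ) = vl S4l := by
  rw [pow_succ', mul_smul, ss_vl ss_S3]
  have : sl S3l = S4l := by decide +kernel
  rw [this]

end Cfsg.Agent.Lib.LeechSyl
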