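import Cfsg.Agent.Lib.LeechOutM1

/-!
The centraliser of an element of order five in the McLaughlin group.
-/

set_option autoImplicit false

namespace Cfsg.Agent.Lib.LeechSyl

open Cfsg Cfsg.Agent.Lib.Golay Cfsg.Agent.Lib.LeechMin Cfsg.Agent.Lib.GolayCoset Cfsg.Agent.Lib.LeechXi
  Cfsg.Agent.Lib.LeechTrans Cfsg.Agent.Lib.LeechCo2 Cfsg.Agent.Lib.LeechFrame Cfsg.Agent.Lib.LeechCount
  Cfsg.Agent.Lib.LeechOrder Cfsg.Agent.Lib.LeechMod Cfsg.Agent.Lib.LeechQuot Cfsg.Agent.Lib.LeechChain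
open Subgroup
open scoped Pointwise

/-! ### vectors fixed by the permutation of order five -/

def kMl : List (Fin 8) := [1, 4, 4, 2, 4, 5, 4, 5, 6, 6, 5, 7, 6, 6, 7, 3, 6, 7, 4, 7, 5, 5, 7, 0]
def kM (i : GolayPt) : Fin 8 := kMl.getD (ix i) 0
def repM (k : Fin 8) : GolayPt := ![none, some 0, some 3, some 15, some 1, some 5, some 8, some 11] k

theorem card_kM : ∀ j : Fin 8, ((Finset.univ.filter fun i => kM i = j).card : ℤ) = ![1, 1, 1, 1, 5, 5, 5, 5] j := by decide +kernel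

theorem repM_spec : ∀ i : GolayPt, ∃ n : Fin 5, cubeTwistFun^[n] (repM (kM i)) = i := by decide +kernel

theorem const_M {v : leechLattice} (h : peH cu • v = v) (i : GolayPt) :
    (v : GolayPt → ℤ) i = (fun k => (v : GolayPt → ℤ) (repM k)) (kM i) := by
  have h1 : ∀ (n : ℕ) (j : GolayPt), (v : GolayPt → ℤ) (cubeTwistFun^[n] j) = (v : GolayPt → ℤ) j := by
    intro n
    induction n with
    | zero => intro j; rfl
    | succ n ih =>
      intro j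
      rw [Function.iterate_succ_apply', ← cu_apply, val_of_fix h, ih]
  obtain ⟨n, hn⟩ := repM_spec i
  have h2 := h1 n (repM (kM i))
  rw [hn] at h2
  exact h2

theorem dot_kM {F G : Fin 8 → ℤ} {v w : GolayPt → ℤ} (hv : ∀ i, v i = F (kM i)) (hw : ∀ i, w i = G (kM i)) :
    dotInt v w = F 0 * G 0 + F 1 * G 1 + F 2 * G 2 + F 3 * G 3 + 5 * (F 4 * G 4) + 5 * (F 5 * G 5) + 5 * (F 6 * G 6) +
      5 * (F 7 * G 7) := by
  rw [dot_cls_gen hv hw, Fin.sum_univ_eight, card_kM, card_kM, card_kM, card_kM, card_kM, card_kM, card_kM, card_kM]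
  simp

theorem kMU : ∀ i, (U none : GolayPt → ℤ) i = ![5, 1, 1, 1, 1, 1, 1, 1] (kM i) := by
  intro i; rw [U_apply]; revert i; decide +kernel
theorem kMX : ∀ i, (X hab : GolayPt → ℤ) i = ![4, 4, 0, 0, 0, 0, 0, 0] (kM i) := by
  intro i; rw [coe_X]; revert i; decide +kernel

def TM : Fin 17 → Fin 8 → ℤ :=
  ![![4, -4, 0, 0, 0, 0, 0, 0], ![2, -2, 0, -2, 0, 0, 2, 0], ![1, -1, 3, -1, 1, 1, 1, -1], ![1, -1, -1, 3, 1, 1, 1, -1],
    ![2, -2, -2, 0, 0, 2, 0, 0], ![2, -2, -2, 0, 2, 0, 0, 0], ![2, -2, -2, 0, 0, 0, 2, 0], ![2, -2, -2, 0, 0, 0, 0, 2],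
    ![2, -2, 0, -2, 2, 0, 0, 0], ![2, -2, 0, -2, 0, 2, 0, 0], ![2, -2, 0, -2, 0, 0, 0, 2], ![1, -1, 3, -1, -1, 1, 1, 1],
    ![1, -1, 3, -1, 1, -1, 1, 1], ![1, -1, 3, -1, 1, 1, -1, 1], ![1, -1, -1, 3, -1, 1, 1, 1], ![1, -1, -1, 3, 1, -1, 1, 1],
    ![1, -1, -1, 3, 1, 1, -1, 1]]

def nM : Fin 17 → ℕ := ![0, 0, 0, 0, 0, 8650847, 8467209, 13256713, 8683607, 11568289, 13289473, 295007, 3179689, 111369,
  295007, 3179689, 111369]
def eM : Fin 17 → ℤ := ![0, 0, 1, 1, 0, 0, 0, 0, 0, 0, 0, 1, 1, 1, 1, 1, 1]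

theorem bad_code : ∀ r : Fin 17, 5 ≤ r → isCode (nM r) = false ∧ nM r < 2 ^ 24 := by decide +kernel
theorem bad_div : ∀ r : Fin 17, 5 ≤ r → ∀ i : GolayPt, (4 : ℤ) ∣ TM r (kM i) - eM r - 2 * chi (mset (nM r)) i := by
  decide +kernel

def rowQ (a b c d e1 e2 e3 e4 : ℤ) (r : Fin 17) : Bool :=
  a == TM r 0 && b == TM r 1 && c == TM r 2 && d == TM r 3 && e1 == TM r 4 && e2 == TM r 5 && e3 == TM r 6 && e4 == TM r 7

theorem rowQ_spec {a b c d e1 e2 e3 e4 : ℤ} {r : Fin 17} (h : rowQ a b c d e1 e2 e3 e4 r = true) :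
    a = TM r 0 ∧ b = TM r 1 ∧ c = TM r 2 ∧ d = TM r 3 ∧ e1 = TM r 4 ∧ e2 = TM r 5 ∧ e3 = TM r 6 ∧ e4 = TM r 7 := by
  unfold rowQ at h
  simp only [Bool.and_eq_true, beq_iff_eq] at h
  obtain ⟨⟨⟨⟨⟨⟨⟨h1, h2⟩, h3⟩, h4⟩, h5⟩, h6⟩, h7⟩, h8⟩ := h
  exact ⟨h1, h2, h3, h4, h5, h6, h7, h8⟩

def rowsL : List (Fin 17) := [0, 1, 2, 3, 4, 5, 6, 7, 8, 9, 10, 11, 12, 13, 14, 15, 16]

def qE (a c d e1 e2 e3 e4 : ℤ) : Bool :=
  !(2 * (a * a) + c * c + d * d + 5 * (e1 * e1 + e2 * e2 + e3 * e3 + e4 * e4) == 8) ||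
    (!(4 * a + c + d + 5 * (e1 + e2 + e3 + e4) == 8) ||
      rowsL.any (rowQ (2 * a) (-(2 * a)) (2 * c) (2 * d) (2 * e1) (2 * e2) (2 * e3) (2 * e4)))

def L5 : List ℤ := [-2, -1, 0, 1, 2]
def L3 : List ℤ := [-1, 0, 1]

theorem chkE : (L5.all fun a => L5.all fun c => L5.all fun d => L3.all fun e1 => L3.all fun e2 => L3.all fun e3 =>
    L3.all fun e4 => qE a c d e1 e2 e3 e4) = true := by decide +kernel

theorem arE {a c d e1 e2 e3 e4 : ℤ} (h1 : 2 * (a * a) + c * c + d * d + 5 * (e1 * e1 + e2 * e2 + e3 * e3 + e4 * e4) = 8)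
    (h2 : 4 * a + c + d + 5 * (e1 + e2 + e3 + e4) = 8) :
    ∃ r : Fin 17, (2 * a = TM r 0 ∧ -(2 * a) = TM r 1 ∧ 2 * c = TM r 2 ∧ 2 * d = TM r 3 ∧ 2 * e1 = TM r 4 ∧ 2 * e2 = TM r 5 ∧
      2 * e3 = TM r 6 ∧ 2 * e4 = TM r 7) := by
  have ha := mul_self_nonneg a
  have hc := mul_self_nonneg c
  have hd := mul_self_nonneg d
  have h3 := mul_self_nonneg e1
  have h4 := mul_self_nonneg e2
  have h5 := mul_self_nonneg e3
  have h6 := mul_self_nonneg e4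
  have key : ∀ {x n : ℤ}, 0 ≤ n → x * x < (n + 1) * (n + 1) → -n ≤ x ∧ x ≤ n := by
    intro x n hn hx
    constructor <;> nlinarith
  have b1 := key (x := a) (n := 2) (by norm_num) (by linarith)
  have b2 := key (x := c) (n := 2) (by norm_num) (by linarith)
  have b3 := key (x := d) (n := 2) (by norm_num) (by linarith)
  have b4 := key (x := e1) (n := 1) (by norm_num) (by linarith)
  have b5 := key (x := e2) (n := 1) (by norm_num) (by linarith)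
  have b6 := key (x := e3) (n := 1) (by norm_num) (by linarith)
  have b7 := key (x := e4) (n := 1) (by norm_num) (by linarith)
  have m5 : ∀ {x : ℤ}, -2 ≤ x ∧ x ≤ 2 → x ∈ L5 := by
    rintro x ⟨h1, h2⟩
    unfold L5
    simp only [List.mem_cons, List.not_mem_nil, or_false]
    omega
  have m3 : ∀ {x : ℤ}, -1 ≤ x ∧ x ≤ 1 → x ∈ L3 := by
    rintro x ⟨h1, h2⟩
    unfold L3
    simp only [List.mem_cons, List.not_mem_nil, or_false]
    omega
  have hq : qE a c d e1 e2 e3 e4 = true :=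
    List.all_eq_true.1 (List.all_eq_true.1 (List.all_eq_true.1 (List.all_eq_true.1 (List.all_eq_true.1 (List.all_eq_true.1
      (List.all_eq_true.1 chkE a (m5 b1)) c (m5 b2)) d (m5 b3)) e1 (m3 b4)) e2 (m3 b5)) e3 (m3 b6)) e4 (m3 b7)
  unfold qE at hq
  rw [h1, h2] at hq
  simp only [BEq.rfl, Bool.not_true, Bool.false_or] at hq
  obtain ⟨r, -, hr⟩ := List.any_eq_true.1 hq
  exact ⟨r, rowQ_spec hr⟩

def qO (a c d e1 e2 e3 e4 : ℤ) : Bool :=
  !(2 * (a * a) + c * c + d * d + 5 * (e1 * e1 + e2 * e2 + e3 * e3 + e4 * e4) == 32) ||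
    (!(4 * a + c + d + 5 * (e1 + e2 + e3 + e4) == 16) || rowsL.any (rowQ a (-a) c d e1 e2 e3 e4))

def Lo4 : List ℤ := [-3, -1, 1, 3]
def Lo6 : List ℤ := [-5, -3, -1, 1, 3, 5]
def Lo2 : List ℤ := [-1, 1]

theorem chkO : (Lo4.all fun a => Lo6.all fun c => Lo6.all fun d => Lo2.all fun e1 => Lo2.all fun e2 => Lo2.all fun e3 =>
    Lo2.all fun e4 => qO a c d e1 e2 e3 e4) = true := by decide +kernel

theorem arO {a c d e1 e2 e3 e4 : ℤ} (h1 : 2 * (a * a) + c * c + d * d + 5 * (e1 * e1 + e2 * e2 + e3 * e3 + e4 * e4) = 32)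
    (h2 : 4 * a + c + d + 5 * (e1 + e2 + e3 + e4) = 16) (oa : a % 2 = 1) (oc : c % 2 = 1) (odd : d % 2 = 1) (o1 : e1 % 2 = 1)
    (o2 : e2 % 2 = 1) (o3 : e3 % 2 = 1) (o4 : e4 % 2 = 1) :
    ∃ r : Fin 17, (a = TM r 0 ∧ -a = TM r 1 ∧ c = TM r 2 ∧ d = TM r 3 ∧ e1 = TM r 4 ∧ e2 = TM r 5 ∧
      e3 = TM r 6 ∧ e4 = TM r 7) := by
  have ha := mul_self_nonneg a
  have hc := mul_self_nonneg c
  have hd := mul_self_nonneg d
  have h3 := mul_self_nonneg e1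
  have h4 := mul_self_nonneg e2
  have h5 := mul_self_nonneg e3
  have h6 := mul_self_nonneg e4
  have key : ∀ {x n : ℤ}, 0 ≤ n → x * x < (n + 1) * (n + 1) → -n ≤ x ∧ x ≤ n := by
    intro x n hn hx
    constructor <;> nlinarith
  have b1 := key (x := a) (n := 4) (by norm_num) (by linarith)
  have b2 := key (x := c) (n := 5) (by norm_num) (by linarith)
  have b3 := key (x := d) (n := 5) (by norm_num) (by linarith)
  have b4 := key (x := e1) (n := 2) (by norm_num) (by linarith)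
  have b5 := key (x := e2) (n := 2) (by norm_num) (by linarith)
  have b6 := key (x := e3) (n := 2) (by norm_num) (by linarith)
  have b7 := key (x := e4) (n := 2) (by norm_num) (by linarith)
  have m4 : ∀ {x : ℤ}, x % 2 = 1 → -4 ≤ x ∧ x ≤ 4 → x ∈ Lo4 := by
    rintro x h0 ⟨h1, h2⟩
    unfold Lo4
    simp only [List.mem_cons, List.not_mem_nil, or_false]
    omega
  have m6 : ∀ {x : ℤ}, x % 2 = 1 → -5 ≤ x ∧ x ≤ 5 → x ∈ Lo6 := by
    rintro x h0 ⟨h1, h2⟩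
    unfold Lo6
    simp only [List.mem_cons, List.not_mem_nil, or_false]
    omega
  have m2 : ∀ {x : ℤ}, x % 2 = 1 → -2 ≤ x ∧ x ≤ 2 → x ∈ Lo2 := by
    rintro x h0 ⟨h1, h2⟩
    unfold Lo2
    simp only [List.mem_cons, List.not_mem_nil, or_false]
    omega
  have hq : qO a c d e1 e2 e3 e4 = true :=
    List.all_eq_true.1 (List.all_eq_true.1 (List.all_eq_true.1 (List.all_eq_true.1 (List.all_eq_true.1 (List.all_eq_true.1
      (List.all_eq_true.1 chkO a (m4 oa b1)) c (m6 oc b2)) d (m6 odd b3)) e1 (m2 o1 b4)) e2 (m2 o2 b5)) e3 (m2 o3 b6)) e4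
      (m2 o4 b7)
  unfold qO at hq
  rw [h1, h2] at hq
  simp only [BEq.rfl, Bool.not_true, Bool.false_or] at hq
  obtain ⟨r, -, hr⟩ := List.any_eq_true.1 hq
  exact ⟨r, rowQ_spec hr⟩

theorem good_rows : ∀ r : Fin 17, r < 5 → ∀ i : GolayPt, TM r (kM i) = vl (([S0l, S1l, S2l, S3l, S4l] : List (List ℤ)).getD r []) i := by
  decide +kernel

/-- the vectors of the class fixed by the element of order five -/
theorem fix_cu_2025 {v : leechLattice} (h : peH cu • v = v) (hc : v ∈ cls [(X hab, 0), (U none, 16)] 32) :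
    ∃ r : Fin 17, r < 5 ∧ (v : GolayPt → ℤ) = vl (([S0l, S1l, S2l, S3l, S4l] : List (List ℤ)).getD r []) := by
  have hk := const_M h
  set F : Fin 8 → ℤ := fun k => (v : GolayPt → ℤ) (repM k) with hF
  rw [mem_cls2] at hc
  obtain ⟨h1, h2, h3⟩ := hc
  rw [sqNorm_eq_dot, dot_kM hk hk] at h1
  rw [dot_comm, dot_kM hk kMX] at h2
  rw [dot_comm, dot_kM hk kMU] at h3
  have h2' : F 0 * 4 + F 1 * 4 = 0 := by
    refine Eq.trans ?_ h2
    simp
  have h3' : F 0 * 5 + F 1 + F 2 + F 3 + 5 * F 4 + 5 * F 5 + 5 * F 6 + 5 * F 7 = 16 := by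
    refine Eq.trans ?_ h3
    simp
  have e1 : F 1 = -F 0 := by omega
  have h4 : 2 * (F 0 * F 0) + F 2 * F 2 + F 3 * F 3 + 5 * (F 4 * F 4 + F 5 * F 5 + F 6 * F 6 + F 7 * F 7) = 32 := by
    rw [← h1, e1]; ring
  have h5 : 4 * F 0 + F 2 + F 3 + 5 * (F 4 + F 5 + F 6 + F 7) = 16 := by rw [← h3', e1]; ring
  obtain ⟨m, A, hA, hm, -⟩ := (mem_lattice_iff' _).1 v.2
  have hpar : ∀ k, F k % 2 = m % 2 := by
    intro k
    have := hm (repM k)
    rw [hF]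
    show (v : GolayPt → ℤ) (repM k) % 2 = m % 2
    omega
  have main : ∃ r : Fin 17, F 0 = TM r 0 ∧ -F 0 = TM r 1 ∧ F 2 = TM r 2 ∧ F 3 = TM r 3 ∧ F 4 = TM r 4 ∧ F 5 = TM r 5 ∧
      F 6 = TM r 6 ∧ F 7 = TM r 7 := by
    rcases Int.emod_two_eq_zero_or_one m with h0 | h0
    · have hd : ∀ k, ∃ t, F k = 2 * t := fun k => ⟨F k / 2, by have := hpar k; omega⟩
      choose t ht using hd
      have h6 : 2 * (t 0 * t 0) + t 2 * t 2 + t 3 * t 3 + 5 * (t 4 * t 4 + t 5 * t 5 + t 6 * t 6 + t 7 * t 7) = 8 := by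
        rw [ht 0, ht 2, ht 3, ht 4, ht 5, ht 6, ht 7] at h4
        linarith
      have h7 : 4 * t 0 + t 2 + t 3 + 5 * (t 4 + t 5 + t 6 + t 7) = 8 := by
        rw [ht 0, ht 2, ht 3, ht 4, ht 5, ht 6, ht 7] at h5
        linarith
      rw [ht 0, ht 2, ht 3, ht 4, ht 5, ht 6, ht 7]
      exact arE h6 h7
    · exact arO h4 h5 (by rw [hpar, h0]) (by rw [hpar, h0]) (by rw [hpar, h0]) (by rw [hpar, h0]) (by rw [hpar, h0])
        (by rw [hpar, h0]) (by rw [hpar, h0])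
  obtain ⟨r, r0, r1, r2, r3, r4, r5, r6, r7⟩ := main
  have hr : ∀ k, F k = TM r k := by
    intro k
    fin_cases k
    · exact r0
    · exact e1.trans r1
    · exact r2
    · exact r3
    · exact r4
    · exact r5
    · exact r6
    · exact r7
  have hv : ∀ i, (v : GolayPt → ℤ) i = TM r (kM i) := fun i => (hk i).trans (hr _)
  by_cases hr5 : r < 5
  · refine ⟨r, hr5, ?_⟩
    funext i
    rw [hv, good_rows r hr5]
  · exfalso
    have hr5' : 5 ≤ r := not_lt.1 hr5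
    obtain ⟨b1, b2⟩ := bad_code r hr5'
    have h6 : mset (nM r) ∈ Sup := mem_Sup_of v.2 (e := eM r) (fun i => by rw [hv]; exact bad_div r hr5' i)
    have h7 := (mset_mem_supports_iff b2).mp h6
    rw [b1] at h7
    exact Bool.false_ne_true h7

theorem ss_S (r : Fin 17) (hr : r < 5) : ((ss ^ (r : ℕ) • S hab : leechLattice) : GolayPt → ℤ) =
    vl (([S0l, S1l, S2l, S3l, S4l] : List (List ℤ)).getD r []) := by
  have h : (r : ℕ) < 5 := hr
  obtain ⟨n, hn⟩ := r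
  simp only at h ⊢
  interval_cases n
  · rw [pow_zero, one_smul]; exact S_vl
  · rw [pow_one]; exact ss_S1
  · exact ss_S2
  · exact ss_S3
  · exact ss_S4

theorem fix_cu_ss {v : leechLattice} (h : peH cu • v = v) (hc : v ∈ cls [(X hab, 0), (U none, 16)] 32) :
    ∃ n : ℕ, n < 5 ∧ v = ss ^ n • S hab := by
  obtain ⟨r, hr, h1⟩ := fix_cu_2025 h hc
  exact ⟨r, hr, Subtype.ext (h1.trans (ss_S r hr).symm)⟩

theorem S_ne : ∀ r : Fin 17, r < 5 → r ≠ 0 → vl (([S0l, S1l, S2l, S3l, S4l] : List (List ℤ)).getD r []) none ≠ vl S0l none := by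
  decide +kernel

theorem ss_S_ne {n : ℕ} (h : n < 5) (h0 : n ≠ 0) : ss ^ n • S hab ≠ S hab := by
  intro h1
  have h2 := ss_S ⟨n, by omega⟩ (show n < 5 from h)
  have h3 : ((ss ^ n • S hab : leechLattice) : GolayPt → ℤ) none = vl S0l none := by rw [h1, S_vl]
  exact S_ne ⟨n, by omega⟩ (show n < 5 from h) (fun h4 => h0 (congrArg Fin.val h4)) (by rw [← h2]; exact h3)

end Cfsg.Agent.Lib.LeechSyl
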