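import Cfsg.Agent.Lib.LeechOutM2

/-!
Automorphisms of the McLaughlin group: the centraliser of a dihedral subgroup.
-/

set_option autoImplicit false

namespace Cfsg.Agent.Lib.LeechSyl

open Cfsg Cfsg.Agent.Lib.Golay Cfsg.Agent.Lib.LeechMin Cfsg.Agent.Lib.GolayCoset Cfsg.Agent.Lib.LeechXi
  Cfsg.Agent.Lib.LeechTrans Cfsg.Agent.Lib.LeechCo2 Cfsg.Agent.Lib.LeechFrame Cfsg.Agent.Lib.LeechCount
  Cfsg.Agent.Lib.LeechOrder Cfsg.Agent.Lib.LeechMod Cfsg.Agent.Lib.LeechQuot Cfsg.Agent.Lib.LeechChain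
open Subgroup
open scoped Pointwise

/-! ### words in `M22` -/

def evn (p : GolayPt) : GolayPt := pt (img cN4 (ix p))

def ev : List (ℕ × ℕ) → GolayPt → GolayPt
  | [], p => p
  | (0, n) :: l, p => (ev l p).map (2 ^ n * ·)
  | (1, n) :: l, p => cubeTwistFun^[n] (ev l p)
  | (_, n) :: l, p => evn^[n] (ev l p)

noncomputable def wT : List (ℕ × ℕ) → T22
  | [] => 1
  | (0, n) :: l => tq ^ n * wT l
  | (1, n) :: l => tr ^ n * wT l
  | (_, n) :: l => tn ^ n * wT l

theorem coe_iter {y : T22} {F : GolayPt → GolayPt} (h : ∀ p, ((y : M24) : Equiv.Perm GolayPt) p = F p) (n : ℕ) (p : GolayPt) :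
    (((y ^ n : T22) : M24) : Equiv.Perm GolayPt) p = F^[n] p := by
  induction n with
  | zero => rfl
  | succ n ih =>
    rw [Function.iterate_succ_apply', ← ih, ← h, pow_succ']
    rfl

theorem rhp_apply (n : ℕ) (p : GolayPt) : (((tq ^ n : T22) : M24) : Equiv.Perm GolayPt) p = p.map (2 ^ n * ·) := by
  rcases p with _ | j
  · exact rh_pow_none n
  · exact rh_pow_some n j

theorem ev_spec (l : List (ℕ × ℕ)) (p : GolayPt) : (((wT l : T22) : M24) : Equiv.Perm GolayPt) p = ev l p := by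
  induction l with
  | nil => rfl
  | cons a l ih =>
    obtain ⟨k, n⟩ := a
    rcases k with _ | _ | k
    · show (((tq ^ n : T22) : M24) : Equiv.Perm GolayPt) ((((wT l : T22) : M24) : Equiv.Perm GolayPt) p) = _
      rw [ih, rhp_apply]; rfl
    · show (((tr ^ n : T22) : M24) : Equiv.Perm GolayPt) ((((wT l : T22) : M24) : Equiv.Perm GolayPt) p) = _
      rw [ih, coe_iter (F := cubeTwistFun) cu_apply]; rfl
    · show (((tn ^ n : T22) : M24) : Equiv.Perm GolayPt) ((((wT l : T22) : M24) : Equiv.Perm GolayPt) p) = _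
      rw [ih, coe_iter (F := evn) n4_apply]; rfl

theorem wT_append (l l' : List (ℕ × ℕ)) : wT (l ++ l') = wT l * wT l' := by
  apply T22_ext
  intro p
  rw [ev_spec]
  show _ = (((wT l : T22) : M24) : Equiv.Perm GolayPt) ((((wT l' : T22) : M24) : Equiv.Perm GolayPt) p)
  rw [ev_spec, ev_spec]
  induction l with
  | nil => rfl
  | cons a l ih =>
    obtain ⟨k, n⟩ := a
    rcases k with _ | _ | k
    · show (ev (l ++ l') p).map (2 ^ n * ·) = (ev l (ev l' p)).map (2 ^ n * ·)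
      rw [ih]
    · show cubeTwistFun^[n] (ev (l ++ l') p) = cubeTwistFun^[n] (ev l (ev l' p))
      rw [ih]
    · show evn^[n] (ev (l ++ l') p) = evn^[n] (ev l (ev l' p))
      rw [ih]

theorem wT_eq {l l' : List (ℕ × ℕ)} (h : ∀ p, ev l p = ev l' p) : wT l = wT l' := by
  apply T22_ext
  intro p
  rw [ev_spec, ev_spec, h]

theorem wT_ne {l l' : List (ℕ × ℕ)} (p : GolayPt) (h : ev l p ≠ ev l' p) : wT l ≠ wT l' := by
  intro h1
  apply h
  rw [← ev_spec, ← ev_spec, h1]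

theorem card_cent5 : Nat.card (centralizer (zpowers tr : Set T22)) = 5 := by
  haveI hp : Fact (Nat.Prime 5) := ⟨by norm_num⟩
  apply arith5' (by rw [← card_T22]; exact Subgroup.card_subgroup_dvd_card _)
  · exact cent_coprime hp orderOf_tr (by norm_num) (by norm_num)
  · exact cent_coprime hp orderOf_tr (by norm_num) (by norm_num)
  · exact cent_coprime hp orderOf_tr (by norm_num) (by norm_num)
  · exact cent_coprime hp orderOf_tr (by norm_num) (by norm_num)
  · rw [← orderOf_tr]; exact dvd_cent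

theorem cent_tr {y : T22} (h : y * tr = tr * y) : ∃ k : ℕ, k < 5 ∧ tr ^ k = y := by
  have h1 : zpowers tr = centralizer (zpowers tr : Set T22) := by
    apply Subgroup.eq_of_le_of_card_ge
    · rw [Subgroup.zpowers_le, Subgroup.mem_centralizer_iff]
      intro w hw
      obtain ⟨b, rfl⟩ := Subgroup.mem_zpowers_iff.1 hw
      exact (Commute.refl tr).zpow_left b
    · rw [card_cent5, card_ztr]
  have h2 : y ∈ zpowers tr := by
    rw [h1, Subgroup.mem_centralizer_iff]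
    intro w hw
    obtain ⟨b, rfl⟩ := Subgroup.mem_zpowers_iff.1 hw
    exact (show Commute tr y from h.symm).zpow_left b
  rw [← (isOfFinOrder_of_finite tr).mem_powers_iff_mem_zpowers, (isOfFinOrder_of_finite tr).mem_powers_iff_mem_range_orderOf,
    orderOf_tr] at h2
  obtain ⟨k, hk, h3⟩ := Finset.mem_image.1 h2
  exact ⟨k, Finset.mem_range.1 hk, h3⟩

/-- the involution of the dihedral group -/
theorem d0_tr : tn ^ 2 * tr = tr ^ 4 * tn ^ 2 := by
  have h := tn_tr
  rw [mul_inv_eq_iff_eq_mul] at h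
  calc tn ^ 2 * tr = tn * (tn * tr) := by rw [pow_two, mul_assoc]
    _ = tn * (tr ^ 2 * tn) := by rw [h]
    _ = (tn * tr) * (tr * tn) := by rw [pow_two]; group
    _ = (tr ^ 2 * tn) * (tr * tn) := by rw [h]
    _ = tr ^ 2 * (tn * tr) * tn := by group
    _ = tr ^ 2 * (tr ^ 2 * tn) * tn := by rw [h]
    _ = tr ^ 4 * tn ^ 2 := by rw [show (4 : ℕ) = 2 + 2 from rfl, pow_add, pow_two tn]; group

theorem d0_trp (k : ℕ) : tn ^ 2 * tr ^ k = tr ^ (4 * k) * tn ^ 2 := by
  have h : tn ^ 2 * tr * (tn ^ 2)⁻¹ = tr ^ 4 := by rw [mul_inv_eq_iff_eq_mul, d0_tr]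
  have h1 := conj_pow_gen h 1 k
  rw [pow_one, mul_inv_eq_iff_eq_mul, pow_one] at h1
  exact h1

/-! ### the McLaughlin group -/

abbrev GM : Type := ↥(fixL [X hab, U none])

noncomputable def fM : T22 →* GM :=
  (peH.comp (St none ⊓ St b0).subtype).codRestrict _ fun y => mclH_M22 ⟨(y : M24), y.2, rfl⟩

theorem coe_fM (y : T22) : ((fM y : GM) : Co0) = peH (y : M24) := rfl

theorem fM_inj : Function.Injective fM := by
  intro a b h
  apply Subtype.ext
  exact peH_inj (congrArg Subtype.val h)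

theorem card_GM : Nat.card GM = 898128000 := card_McL

theorem mem_range_fM {g : GM} : g ∈ fM.range ↔ (g : Co0) ∈ M22 := by
  constructor
  · rintro ⟨y, rfl⟩
    exact ⟨(y : M24), y.2, rfl⟩
  · rintro ⟨σ, hσ, h⟩
    exact ⟨⟨σ, hσ⟩, Subtype.ext h⟩

theorem mem_range_fM' {g : GM} (h : (g : Co0) • S hab = S hab) : g ∈ fM.range := by
  rw [mem_range_fM]
  have h1 := mem_fix2.1 g.2
  exact mem_M22 h1.1 h h1.2

theorem fM_S (y : T22) : ((fM y : GM) : Co0) • S hab = S hab := (mem_fix2.1 (hsH_M22 ⟨(y : M24), y.2, rfl⟩)).2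

theorem fM_norm (g : GM) (h : g ∈ normalizer (zpowers (fM tq) : Set GM)) : g ∈ fM.range := by
  rw [mem_range_fM]
  apply mclH_norm _ g.2
  apply mem_normalizer_of
  obtain ⟨n, hn⟩ := Subgroup.mem_zpowers_iff.1 ((Subgroup.mem_normalizer_iff.1 h (fM tq)).1 (mem_zpowers _))
  rw [Subgroup.mem_zpowers_iff]
  refine ⟨n, ?_⟩
  have h1 := congrArg (fun z : GM => (z : Co0)) hn
  exact h1

theorem card_range_fM : Nat.card fM.range = 443520 := by
  rw [← card_T22]
  exact (Nat.card_congr (MonoidHom.ofInjective fM_inj).toEquiv).symm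

theorem index_range_fM : fM.range.index = 2025 := by
  have h1 := Subgroup.card_mul_index fM.range
  rw [card_GM, card_range_fM] at h1
  omega

noncomputable def sM : GM := ⟨ss, mem_fix2.2 ⟨ss_X, ss_U⟩⟩

theorem coe_sM (n : ℕ) : ((sM ^ n : GM) : Co0) = ss ^ n := rfl

theorem sM_tr : sM * fM tr = fM tr * sM := Subtype.ext ss_cu
theorem sM_d0 : sM * fM (tn ^ 2) = fM (tn ^ 2) * sM := by
  rw [pow_two]
  exact Subtype.ext ss_n4

theorem sM_pow_tr (n : ℕ) : sM ^ n * fM tr = fM tr * sM ^ n := (show Commute sM (fM tr) from sM_tr).pow_left n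
theorem sM_pow_d0 (n : ℕ) : sM ^ n * fM (tn ^ 2) = fM (tn ^ 2) * sM ^ n := (show Commute sM (fM (tn ^ 2)) from sM_d0).pow_left n

/-- the centraliser of the dihedral group -/
theorem cent_GM {γ : GM} (h1 : γ * fM tr = fM tr * γ) (h2 : γ * fM (tn ^ 2) = fM (tn ^ 2) * γ) : ∃ n : ℕ, n < 5 ∧ γ = sM ^ n := by
  have hγ := mem_fix2.1 γ.2
  have h3 : peH cu • ((γ : Co0) • S hab) = (γ : Co0) • S hab :=
    fix_of_comm (congrArg (fun z : GM => (z : Co0)) h1) (fM_S tr)
  have h4 : (γ : Co0) • S hab ∈ cls [(X hab, 0), (U none, 16)] 32 := by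
    have := (mem_cls_smul (γ : Co0)).1 mem_S2025
    simp only [List.map_cons, List.map_nil, hγ.1, hγ.2] at this
    exact this
  obtain ⟨n, hn, h5⟩ := fix_cu_ss h3 h4
  refine ⟨n, hn, ?_⟩
  have h6 : (sM ^ n)⁻¹ * γ ∈ fM.range := by
    apply mem_range_fM'
    show ((ss ^ n)⁻¹ * (γ : Co0)) • S hab = S hab
    rw [mul_smul, h5, inv_smul_smul]
  obtain ⟨y, hy⟩ := h6
  have c1 : y * tr = tr * y := by
    apply fM_inj
    rw [map_mul, map_mul, hy]
    have e1 := sM_pow_tr n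
    have e2 : (sM ^ n)⁻¹ * fM tr = fM tr * (sM ^ n)⁻¹ := by
      rw [inv_mul_eq_iff_eq_mul, ← mul_assoc, e1, mul_inv_cancel_right]
    rw [mul_assoc, h1, ← mul_assoc, e2, mul_assoc]
  have c2 : y * tn ^ 2 = tn ^ 2 * y := by
    apply fM_inj
    rw [map_mul, map_mul, hy]
    have e1 := sM_pow_d0 n
    have e2 : (sM ^ n)⁻¹ * fM (tn ^ 2) = fM (tn ^ 2) * (sM ^ n)⁻¹ := by
      rw [inv_mul_eq_iff_eq_mul, ← mul_assoc, e1, mul_inv_cancel_right]
    rw [mul_assoc, h2, ← mul_assoc, e2, mul_assoc]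
  obtain ⟨k, hk, rfl⟩ := cent_tr c1
  have h7 : tr ^ k = tr ^ (4 * k) := by
    rw [d0_trp] at c2
    exact mul_right_cancel c2
  have h8 : k = 0 := by
    rw [pow_eq_pow_iff_modEq, orderOf_tr] at h7
    unfold Nat.ModEq at h7
    omega
  rw [h8, pow_zero, map_one, eq_comm, inv_mul_eq_one] at hy
  exact hy.symm

theorem ss_pow5 : sM ^ 5 = 1 := by
  obtain ⟨n, hn, h⟩ := cent_GM (sM_pow_tr 5) (sM_pow_d0 5)
  by_cases h0 : n = 0
  · rw [h, h0, pow_zero]
  · exfalso
    have h1 : sM ^ (5 - n) = 1 := by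
      have h2 : sM ^ (5 - n) * sM ^ n = sM ^ n := by
        rw [← pow_add, Nat.sub_add_cancel hn.le, h]
      exact mul_eq_right.1 h2
    apply ss_S_ne (n := 5 - n) (by omega) (by omega)
    rw [← coe_sM, h1]
    exact one_smul _ _

theorem sM_ne {n : ℕ} (h : n < 5) (h0 : n ≠ 0) : sM ^ n ≠ 1 := by
  intro h1
  apply ss_S_ne h h0
  rw [← coe_sM, h1]
  exact one_smul _ _

end Cfsg.Agent.Lib.LeechSyl
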