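import Cfsg.Agent.Lib.LeechOutM3

/-!
Automorphisms of the McLaughlin group: normalisation.
-/

set_option autoImplicit false

namespace Cfsg.Agent.Lib.LeechSyl

open Cfsg Cfsg.Agent.Lib.Golay Cfsg.Agent.Lib.LeechMin Cfsg.Agent.Lib.GolayCoset Cfsg.Agent.Lib.LeechXi
  Cfsg.Agent.Lib.LeechTrans Cfsg.Agent.Lib.LeechCo2 Cfsg.Agent.Lib.LeechFrame Cfsg.Agent.Lib.LeechCount
  Cfsg.Agent.Lib.LeechOrder Cfsg.Agent.Lib.LeechMod Cfsg.Agent.Lib.LeechQuot Cfsg.Agent.Lib.LeechChain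
open Subgroup
open scoped Pointwise

theorem tq_pow : tq ^ 11 = 1 := by rw [← orderOf_tq]; exact pow_orderOf_eq_one _
theorem tq_inv : tq⁻¹ = tq ^ 10 := by rw [inv_eq_iff_mul_eq_one, ← pow_succ', tq_pow]

theorem d0_tq3 : (tn ^ 2 * tq) ^ 3 = 1 := by
  have h : (tn ^ 2 * tq) ^ 3 = wT [(2, 2), (0, 1), (2, 2), (0, 1), (2, 2), (0, 1)] := by
    simp only [wT, pow_one, mul_one, pow_succ, pow_zero, one_mul, mul_assoc]
  rw [h, show (1 : T22) = wT [] from rfl]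
  exact wT_eq (by decide +kernel)

theorem wq_ne : ∀ k : Fin 5, k ≠ 0 → ∀ a : Fin 2,
    ev [(2, 2), (1, k), (0, 1 + 9 * a), (2, 2), (1, k), (0, 1 + 9 * a), (2, 2), (1, k), (0, 1 + 9 * a)] (some 3) ≠
      ev [] (some 3) := by decide +kernel

theorem wq_ne' {k : ℕ} (hk : k < 5) (h0 : k ≠ 0) (a : Fin 2) : (tn ^ 2 * tr ^ k * tq ^ (1 + 9 * (a : ℕ))) ^ 3 ≠ 1 := by
  have h : (tn ^ 2 * tr ^ k * tq ^ (1 + 9 * (a : ℕ))) ^ 3 = wT [(2, 2), (1, k), (0, 1 + 9 * a), (2, 2), (1, k), (0, 1 + 9 * a),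
      (2, 2), (1, k), (0, 1 + 9 * a)] := by
    simp only [wT, mul_one]
    rw [pow_succ, pow_succ, pow_one]
    simp only [mul_assoc]
  rw [h, show (1 : T22) = wT [] from rfl]
  exact wT_ne (some 3) (wq_ne ⟨k, hk⟩ (fun h => h0 (congrArg Fin.val h)) a)

/-- the involution is fixed -/
theorem fix_d0 {β : MulAut GM} (hq : β (fM tq) = fM tq ∨ β (fM tq) = (fM tq)⁻¹) (hr : β (fM tr) = fM tr) :
    β (fM (tn ^ 2)) = fM (tn ^ 2) := by
  have h1 := index_KK_le fM β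
  rw [index_range_fM] at h1
  have h2 : tn ^ 2 ∈ KK fM β := by
    rcases T22_sub (KK fM β) (tq_mem_KK fM hq) (tr_mem_KK fM hr) with h | ⟨-, h⟩ | h
    · rw [Subgroup.index_eq_one.1 h]; trivial
    · exact h
    · omega
  obtain ⟨e, he⟩ := mem_KK fM |>.1 h2
  have h3 : e * tr = tr ^ 4 * e := by
    apply fM_inj
    calc fM (e * tr) = β (fM (tn ^ 2)) * β (fM tr) := by rw [map_mul, he, hr]
      _ = β (fM (tn ^ 2 * tr)) := by rw [map_mul, map_mul]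
      _ = β (fM (tr ^ 4 * tn ^ 2)) := by rw [d0_tr]
      _ = (β (fM tr)) ^ 4 * β (fM (tn ^ 2)) := by rw [map_mul fM, map_mul, map_pow fM tr, map_pow β]
      _ = fM (tr ^ 4 * e) := by rw [hr, ← he, ← map_pow, ← map_mul]
  have h4 : ((tn ^ 2)⁻¹ * e) * tr = tr * ((tn ^ 2)⁻¹ * e) := by
    have h5 : (tn ^ 2)⁻¹ * tr ^ 4 = tr * (tn ^ 2)⁻¹ := by
      rw [inv_mul_eq_iff_eq_mul, ← mul_assoc, d0_tr, mul_inv_cancel_right]
    rw [mul_assoc, h3, ← mul_assoc, h5, mul_assoc]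
  obtain ⟨k, hk, h5⟩ := cent_tr h4
  have h6 : e = tn ^ 2 * tr ^ k := by rw [h5, mul_inv_cancel_left]
  have h7 : ∃ a : Fin 2, β (fM tq) = fM (tq ^ (1 + 9 * (a : ℕ))) := by
    rcases hq with h | h
    · refine ⟨0, ?_⟩
      rw [h]; simp
    · refine ⟨1, ?_⟩
      rw [h, ← map_inv, tq_inv]; simp
  obtain ⟨a, ha⟩ := h7
  have h8 : (tn ^ 2 * tr ^ k * tq ^ (1 + 9 * (a : ℕ))) ^ 3 = 1 := by
    apply fM_inj
    calc fM ((tn ^ 2 * tr ^ k * tq ^ (1 + 9 * (a : ℕ))) ^ 3) = (β (fM (tn ^ 2)) * β (fM tq)) ^ 3 := by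
          rw [← h6, map_pow, map_mul, he, ha]
      _ = β (fM ((tn ^ 2 * tq) ^ 3)) := by rw [← map_mul β, ← map_mul fM, ← map_pow β, ← map_pow fM]
      _ = fM 1 := by rw [d0_tq3, map_one, map_one]
  by_cases h0 : k = 0
  · rw [← he, h6, h0, pow_zero, mul_one]
  · exact absurd h8 (wq_ne' hk h0 a)

/-! ### the images of the remaining elements -/

theorem img_s {β : MulAut GM} (hr : β (fM tr) = fM tr) (hd : β (fM (tn ^ 2)) = fM (tn ^ 2)) : ∃ m : ℕ, m < 5 ∧ β sM = sM ^ m := by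
  apply cent_GM
  · rw [← hr, ← map_mul, sM_tr, map_mul, hr]
  · rw [← hd, ← map_mul, sM_d0, map_mul, hd]

theorem img_n {β : MulAut GM} (hr : β (fM tr) = fM tr) (hd : β (fM (tn ^ 2)) = fM (tn ^ 2)) :
    ∃ m : ℕ, m < 5 ∧ β (fM tn) = sM ^ m * fM tn := by
  have h1 : β (fM tn) * fM tr * (β (fM tn))⁻¹ = fM (tr ^ 2) := by
    calc β (fM tn) * fM tr * (β (fM tn))⁻¹ = β (fM (tn * tr * tn⁻¹)) := by
          rw [map_mul fM, map_mul fM, map_mul β, map_mul β, hr, map_inv fM, map_inv β]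
      _ = fM (tr ^ 2) := by rw [tn_tr, map_pow, map_pow, hr]
  have h2 : (fM tn)⁻¹ * fM (tr ^ 2) * fM tn = fM tr := by
    rw [← tn_tr, ← map_inv, ← map_mul, ← map_mul]
    congr 1
    group
  have h3 : (β (fM tn) * (fM tn)⁻¹) * fM (tr ^ 2) * (β (fM tn) * (fM tn)⁻¹)⁻¹ = fM (tr ^ 2) := by
    calc (β (fM tn) * (fM tn)⁻¹) * fM (tr ^ 2) * (β (fM tn) * (fM tn)⁻¹)⁻¹ =
        β (fM tn) * ((fM tn)⁻¹ * fM (tr ^ 2) * fM tn) * (β (fM tn))⁻¹ := by group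
      _ = fM (tr ^ 2) := by rw [h2, h1]
  have h4 : Commute (β (fM tn) * (fM tn)⁻¹) (fM (tr ^ 2)) := mul_inv_eq_iff_eq_mul.1 h3
  have h5 : tr = (tr ^ 2) ^ 3 := by
    rw [← pow_mul, show 2 * 3 = 5 + 1 from rfl, pow_succ, tr_pow, one_mul]
  have h6 : (β (fM tn) * (fM tn)⁻¹) * fM tr = fM tr * (β (fM tn) * (fM tn)⁻¹) := by
    have h7 := h4.pow_right 3
    rw [← map_pow, ← h5] at h7
    exact h7
  have h7 : (β (fM tn) * (fM tn)⁻¹) * fM (tn ^ 2) = fM (tn ^ 2) * (β (fM tn) * (fM tn)⁻¹) := by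
    have e1 : (fM tn)⁻¹ * fM (tn ^ 2) = fM (tn ^ 2) * (fM tn)⁻¹ := by
      rw [← map_inv, ← map_mul, ← map_mul]
      congr 1
      group
    have e2 : β (fM tn) * fM (tn ^ 2) = fM (tn ^ 2) * β (fM tn) := by
      have e3 : fM tn * fM (tn ^ 2) = fM (tn ^ 2) * fM tn := by
        rw [← map_mul, ← map_mul, ← pow_succ, ← pow_succ']
      have e4 := congrArg β e3
      rw [map_mul, map_mul, hd] at e4
      exact e4
    rw [mul_assoc, e1, ← mul_assoc, e2, mul_assoc]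
  obtain ⟨m, hm, h8⟩ := cent_GM h6 h7
  exact ⟨m, hm, by rw [← h8, inv_mul_cancel_right]⟩

/-! ### relations -/

theorem rel_w {l l' : List (ℕ × ℕ)} (h : ∀ p q, Rv (ev l p) (ev l' q) = Rv p q) : sM * fM (wT l) = fM (wT l') * sM := by
  apply Subtype.ext
  show ss * peH ((wT l : T22) : M24) = peH ((wT l' : T22) : M24) * ss
  apply rel
  intro p q
  rw [ev_spec, ev_spec, h]

theorem rel_w' {l l' : List (ℕ × ℕ)} (h : sM * fM (wT l) = fM (wT l') * sM) (p q : GolayPt) :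
    Rv (ev l p) (ev l' q) = Rv p q := by
  have h1 : ss * peH ((wT l : T22) : M24) = peH ((wT l' : T22) : M24) * ss := congrArg (fun z : GM => (z : Co0)) h
  have h2 : (((ss * peH ((wT l : T22) : M24)) • ef p : leechLattice) : GolayPt → ℤ) (ev l' q) =
      (((peH ((wT l' : T22) : M24) * ss) • ef p : leechLattice) : GolayPt → ℤ) (ev l' q) := by rw [h1]
  rw [mul_smul, mul_smul, peH_ef', ss_ef, ev_spec, peH_smul] at h2
  rw [h2]
  show ((ss • ef p : leechLattice) : GolayPt → ℤ) ((((wT l' : T22) : M24) : Equiv.Perm GolayPt).symm (ev l' q)) = _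
  rw [← ev_spec, Equiv.symm_apply_apply, ss_ef]

def lb : List (ℕ × ℕ) := [(0, 3), (2, 2), (0, 8)]
def la : List (ℕ × ℕ) := [(0, 7), (1, 3), (2, 2), (0, 4)]
def lb' : List (ℕ × ℕ) := [(0, 8), (2, 2), (0, 3)]
def la' : List (ℕ × ℕ) := [(0, 4), (1, 3), (2, 2), (0, 7)]

theorem rel_ab : sM * fM (wT lb) = fM (wT ((2, 1) :: (la ++ [(2, 3)]))) * sM := rel_w (by decide +kernel)

theorem not_rel : Rv (ev ((2, 1) :: (la' ++ [(2, 3)])) (some 1)) (ev lb' (some 3)) ≠ Rv (some 1) (some 3) := by decide +kernel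
theorem b'_ne : ev lb' (some 3) ≠ ev ((2, 1) :: (la' ++ [(2, 3)])) (some 3) := by decide +kernel
theorem a_ne : ev lb (some 3) ≠ ev ((2, 1) :: (la ++ [(2, 3)])) (some 3) := by decide +kernel

theorem tn_inv : tn⁻¹ = wT [(2, 3)] := by
  rw [inv_eq_iff_mul_eq_one, show tn * wT [(2, 3)] = wT [(2, 1), (2, 3)] by simp only [wT, pow_one, mul_one],
    show (1 : T22) = wT [] from rfl]
  exact wT_eq (by decide +kernel)

theorem wT_conj (l : List (ℕ × ℕ)) : wT ((2, 1) :: (l ++ [(2, 3)])) = tn * wT l * tn⁻¹ := by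
  show tn ^ 1 * wT (l ++ [(2, 3)]) = _
  rw [wT_append, pow_one, tn_inv, mul_assoc]

end Cfsg.Agent.Lib.LeechSyl
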