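import Cfsg.Agent.Lib.LeechOutM4

/-!
Automorphisms of the McLaughlin group: the outer automorphism group.
-/

set_option autoImplicit false

namespace Cfsg.Agent.Lib.LeechSyl

open Cfsg Cfsg.Agent.Lib.Golay Cfsg.Agent.Lib.LeechMin Cfsg.Agent.Lib.GolayCoset Cfsg.Agent.Lib.LeechXi
  Cfsg.Agent.Lib.LeechTrans Cfsg.Agent.Lib.LeechCo2 Cfsg.Agent.Lib.LeechFrame Cfsg.Agent.Lib.LeechCount
  Cfsg.Agent.Lib.LeechOrder Cfsg.Agent.Lib.LeechMod Cfsg.Agent.Lib.LeechQuot Cfsg.Agent.Lib.LeechChain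
open Subgroup
open scoped Pointwise

theorem nofix_b' : ∀ r : Fin 17, r < 5 → 2 ≤ r → ∃ p, vl (([S0l, S1l, S2l, S3l, S4l] : List (List ℤ)).getD r []) (ev lb' p) ≠
    vl (([S0l, S1l, S2l, S3l, S4l] : List (List ℤ)).getD r []) p := by decide +kernel

theorem sM_mod {a b : ℕ} (h : a % 5 = b % 5) : sM ^ a = sM ^ b := by
  rw [← Nat.div_add_mod a 5, ← Nat.div_add_mod b 5, pow_add, pow_add, pow_mul, pow_mul, ss_pow5, one_pow, one_pow, h]

/-- no automorphism inverts the element of order eleven and fixes the element of order five -/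
theorem no_Q {β : MulAut GM} (hq : β (fM tq) = (fM tq)⁻¹) (hr : β (fM tr) = fM tr) : False := by
  have hd := fix_d0 (Or.inr hq) hr
  obtain ⟨m, hm, hs⟩ := img_s hr hd
  obtain ⟨i, hi, hn⟩ := img_n hr hd
  have hqn : ∀ a b : ℕ, (10 * a) % 11 = b % 11 → β (fM (tq ^ a)) = fM (tq ^ b) := by
    intro a b h
    rw [map_pow, map_pow, hq, ← map_inv, tq_inv, ← map_pow, ← pow_mul]
    congr 1
    rw [pow_eq_pow_iff_modEq, orderOf_tq]
    exact h
  have hrn : ∀ a : ℕ, β (fM (tr ^ a)) = fM (tr ^ a) := by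
    intro a
    rw [map_pow, map_pow, hr]
  have hb : β (fM (wT lb)) = fM (wT lb') := by
    show β (fM (tq ^ 3 * (tn ^ 2 * (tq ^ 8 * 1)))) = fM (tq ^ 8 * (tn ^ 2 * (tq ^ 3 * 1)))
    rw [map_mul fM, map_mul fM, map_mul fM, map_mul β, map_mul β, map_mul β, hqn 3 8 rfl, hqn 8 3 rfl, hd, map_one, map_one,
      map_mul fM, map_mul fM, map_mul fM, map_one]
  have ha : β (fM (wT la)) = fM (wT la') := by
    show β (fM (tq ^ 7 * (tr ^ 3 * (tn ^ 2 * (tq ^ 4 * 1))))) = fM (tq ^ 4 * (tr ^ 3 * (tn ^ 2 * (tq ^ 7 * 1))))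
    rw [map_mul fM, map_mul fM, map_mul fM, map_mul fM, map_mul β, map_mul β, map_mul β, map_mul β, hqn 7 4 rfl, hqn 4 7 rfl,
      hrn 3, hd, map_one, map_one, map_mul fM, map_mul fM, map_mul fM, map_mul fM, map_one]
  have hrel := rel_ab
  rw [wT_conj] at hrel
  have h1 : sM ^ m * fM (wT lb') = (sM ^ i * fM tn) * fM (wT la') * (sM ^ i * fM tn)⁻¹ * sM ^ m := by
    have h2 := congrArg β hrel
    rw [map_mul β, map_mul β, map_mul fM, map_mul fM, map_inv, map_mul β, map_mul β, map_inv, hb, ha, hs, hn] at h2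
    exact h2
  set c' := fM (wT ((2, 1) :: (la' ++ [(2, 3)]))) with hc'
  have hc2 : c' = fM tn * fM (wT la') * (fM tn)⁻¹ := by rw [hc', wT_conj, map_mul, map_mul, map_inv]
  obtain ⟨j, hj, hjm⟩ : ∃ j : ℕ, j < 5 ∧ sM ^ i * sM ^ j = sM ^ m := by
    refine ⟨(m + 4 * i) % 5, Nat.mod_lt _ (by norm_num), ?_⟩
    rw [← pow_add]
    apply sM_mod
    omega
  have h2 : sM ^ j * fM (wT lb') = c' * sM ^ j := by
    rw [← hjm] at h1
    have h3 : sM ^ i * (sM ^ j * fM (wT lb')) = sM ^ i * (c' * sM ^ j) := by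
      rw [hc2]
      calc sM ^ i * (sM ^ j * fM (wT lb')) = sM ^ i * sM ^ j * fM (wT lb') := by rw [mul_assoc]
        _ = (sM ^ i * fM tn) * fM (wT la') * (sM ^ i * fM tn)⁻¹ * (sM ^ i * sM ^ j) := h1
        _ = _ := by group
    exact mul_left_cancel h3
  have h3 : fM (wT lb') * sM ^ (5 - j) = sM ^ (5 - j) * c' := by
    have e1 : sM ^ (5 - j) * sM ^ j = 1 := by rw [← pow_add, Nat.sub_add_cancel hj.le, ss_pow5]
    have e2 : sM ^ j * sM ^ (5 - j) = 1 := by rw [← pow_add, Nat.add_sub_cancel' hj.le, ss_pow5]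
    calc fM (wT lb') * sM ^ (5 - j) = (sM ^ (5 - j) * sM ^ j) * fM (wT lb') * sM ^ (5 - j) := by rw [e1, one_mul]
      _ = sM ^ (5 - j) * (sM ^ j * fM (wT lb')) * sM ^ (5 - j) := by group
      _ = sM ^ (5 - j) * (c' * sM ^ j) * sM ^ (5 - j) := by rw [h2]
      _ = sM ^ (5 - j) * c' * (sM ^ j * sM ^ (5 - j)) := by simp only [mul_assoc]
      _ = _ := by rw [e2, mul_one]
  by_cases hj0 : j = 0
  · rw [hj0, pow_zero, one_mul, mul_one] at h2
    exact wT_ne (some 3) b'_ne (fM_inj h2)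
  by_cases hj4 : j = 4
  · rw [hj4, show 5 - 4 = 1 from rfl, pow_one] at h3
    exact not_rel (rel_w' h3.symm (some 1) (some 3))
  · have hk : 5 - j < 5 := by omega
    have hk2 : 2 ≤ 5 - j := by omega
    set k := 5 - j with hkdef
    have h4 : peH ((wT lb' : T22) : M24) • (ss ^ k • S hab) = ss ^ k • S hab := by
      have h5 : ((fM (wT lb') * sM ^ k : GM) : Co0) • S hab = ((sM ^ k * c' : GM) : Co0) • S hab := by rw [h3]
      have h6 : (c' : Co0) • S hab = S hab := fM_S _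
      rw [← mul_smul]
      refine Eq.trans h5 ?_
      show (ss ^ k * (c' : Co0)) • S hab = _
      rw [mul_smul, h6]
    obtain ⟨p, hp⟩ := nofix_b' ⟨k, by omega⟩ (show k < 5 from hk) (show 2 ≤ k from hk2)
    apply hp
    have h5 := val_of_fix h4 p
    rw [ss_S ⟨k, by omega⟩ (show k < 5 from hk), ev_spec] at h5
    exact h5

/-! ### the element of order seven -/

def cNQi : ℕ := 981677078147623109854661703095657536
def stepL (i : ℕ) (l : List ℤ) : List ℤ := sl^[i] (pl cNQi l)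

theorem nq_inv (p : GolayPt) : (((tn * tq : T22) : M24) : Equiv.Perm GolayPt) (pt (img cNQi (ix p))) = p := by
  rw [tn_tq_apply]; revert p; decide +kernel
theorem nq_lt : ∀ p : GolayPt, img cNQi (ix p) < 24 := by decide +kernel

theorem ssn_vl (n : ℕ) {v : leechLattice} {l : List ℤ} (hv : (v : GolayPt → ℤ) = vl l) :
    ((ss ^ n • v : leechLattice) : GolayPt → ℤ) = vl (sl^[n] l) := by
  induction n with
  | zero => rw [pow_zero, one_smul]; exact hv
  | succ n ih =>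
    rw [pow_succ', mul_smul, Function.iterate_succ_apply']
    exact ss_vl ih

theorem step_vl (i : ℕ) {v : leechLattice} {l : List ℤ} (hv : (v : GolayPt → ℤ) = vl l) :
    (((ss ^ i * peH ((tn * tq : T22) : M24)) • v : leechLattice) : GolayPt → ℤ) = vl (stepL i l) := by
  rw [mul_smul]
  exact ssn_vl i (pl_spec nq_inv nq_lt hv)

theorem step_pow (i n : ℕ) {v : leechLattice} {l : List ℤ} (hv : (v : GolayPt → ℤ) = vl l) :
    (((ss ^ i * peH ((tn * tq : T22) : M24)) ^ n • v : leechLattice) : GolayPt → ℤ) = vl ((stepL i)^[n] l) := by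
  induction n with
  | zero => rw [pow_zero, one_smul]; exact hv
  | succ n ih =>
    rw [pow_succ', mul_smul, Function.iterate_succ_apply']
    exact step_vl i ih

theorem step_ne : ∀ i : Fin 5, i ≠ 0 → i ≠ 3 → vl ((stepL i)^[7] S0l) none ≠ vl S0l none := by decide +kernel

theorem img_n_P {β : MulAut GM} (hq : β (fM tq) = fM tq) (hr : β (fM tr) = fM tr) :
    β (fM tn) = fM tn ∨ β (fM tn) = sM ^ 3 * fM tn := by
  obtain ⟨i, hi, hn⟩ := img_n hr (fix_d0 (Or.inl hq) hr)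
  have h1 : (sM ^ i * fM (tn * tq)) ^ 7 = 1 := by
    calc (sM ^ i * fM (tn * tq)) ^ 7 = (β (fM tn) * β (fM tq)) ^ 7 := by rw [hn, hq, map_mul, mul_assoc]
      _ = β (fM ((tn * tq) ^ 7)) := by rw [← map_mul β, ← map_mul fM, ← map_pow β, ← map_pow fM]
      _ = 1 := by rw [tn_tq, map_one, map_one]
  by_cases h0 : i = 0
  · left; rw [hn, h0, pow_zero, one_mul]
  by_cases h3 : i = 3
  · right; rw [hn, h3]
  exfalso
  have h2 : (ss ^ i * peH ((tn * tq : T22) : M24)) ^ 7 = 1 := congrArg (fun z : GM => (z : Co0)) h1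
  have h4 := step_pow i 7 S_vl
  rw [h2, one_smul, S_vl] at h4
  exact step_ne ⟨i, hi⟩ (fun h => h0 (congrArg Fin.val h)) (fun h => h3 (congrArg Fin.val h)) (congrFun h4 none).symm

end Cfsg.Agent.Lib.LeechSyl
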