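import Cfsg.Agent.Lib.LeechRank

/-!
The suborbits of `HS` on 100 and of `McL` on 2025 vectors.
-/

set_option autoImplicit false

namespace Cfsg.Agent.Lib.LeechChain

open Cfsg Cfsg.Agent.Lib.Golay Cfsg.Agent.Lib.LeechMin Cfsg.Agent.Lib.GolayCoset Cfsg.Agent.Lib.LeechXi
  Cfsg.Agent.Lib.LeechTrans Cfsg.Agent.Lib.LeechCo2 Cfsg.Agent.Lib.LeechFrame Cfsg.Agent.Lib.LeechCount
  Cfsg.Agent.Lib.LeechOrder Cfsg.Agent.Lib.LeechMod Cfsg.Agent.Lib.LeechQuot
open scoped Pointwise

/-- `(-3, 1 ^ 23)` -/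
def Vc (p : GolayPt) : leechLattice := ⟨cv {p} ∅, cv_single_mem p⟩

theorem coe_Vc (p : GolayPt) : (Vc p : GolayPt → ℤ) = cv {p} ∅ := rfl

theorem Vc_apply (p i : GolayPt) : (Vc p : GolayPt → ℤ) i = if i = p then -3 else 1 := by
  rw [coe_Vc]
  unfold cv
  simp only [chi, Finset.mem_singleton, Finset.notMem_empty, if_false]
  by_cases h : i = p <;> simp [h]

/-- `(2, -2, -2, 2 ^ 5)` -/
def y462 : leechLattice := O2 (mset m0) oct_octad.1 - X (show b0 ≠ some 12 by decide)

theorem coe_y462 : (y462 : GolayPt → ℤ) = (fun i => 2 * chi (mset m0) i) - (Pi.single b0 4 + Pi.single (some 12) 4) := rfl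

/-- `(1, -1, 3, (-1) ^ 6, 1 ^ 15)` -/
def y1232 : leechLattice := (⟨mono 1 M24.one_mem (mset m3) oct3.1, mono_mem _ _ _ _⟩ : Co0) • Vc c0

theorem coe_y1232 : (y1232 : GolayPt → ℤ) = fun i => if i ∈ mset m3 then -(if i = c0 then -3 else 1) else (if i = c0 then -3 else 1) := by
  funext i
  have h : (y1232 : GolayPt → ℤ) i = if i ∈ mset m3 then -(Vc c0 : GolayPt → ℤ) i else (Vc c0 : GolayPt → ℤ) i := rfl
  rw [h, Vc_apply]

/-! ### Higman-Sims -/

theorem chain22 : (∀ y ∈ cls [(X hab, 8), (U none, 24), (S hab, 0)] 32, ∃ g ∈ fixL [X hab, U none, S hab], g • Vc c0 = y) := by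
  have hle : Nat.card (fixL [Vc c0, X hab, U none, S hab]) ≤ 20160 := by
    rw [← card_M3]
    refine card_visible_le' _ _ ?_ (by simp) (by simp) (by simp)
    intro σ h0 h
    refine ⟨⟨h0, fix_of_X hab h0 (h _ (by simp))⟩, ?_⟩
    have h1 := h (Vc c0) (by simp) c0
    rw [Vc_apply, Vc_apply, if_pos rfl] at h1
    by_contra hne
    rw [if_neg (show ¬ (σ : Equiv.Perm GolayPt) c0 = c0 from hne)] at h1
    norm_num at h1
  have h := chain (C := [(X hab, 8), (U none, 24), (S hab, 0)]) (n := 32) (by norm_num)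
    (x := Vc c0) (s := 22) (M := 20160) (by
      refine ⟨?_, ?_⟩
      · rw [coe_Vc]; decide +kernel
      · simp only [List.forall_mem_cons, List.not_mem_nil, false_imp_iff, implies_true, and_true, coe_X, coe_U, coe_S, coe_Vc]
        decide +kernel)
    (by
      show Nat.card (fixL [X hab, U none, S hab]) = _
      rw [chain100.2]) (le_of_eq cls22) hle (by norm_num) (by norm_num)
  exact h.1

theorem chain77 : (∀ y ∈ cls [(X hab, 16), (U none, 24), (S hab, 0)] 32,
    ∃ g ∈ fixL [X hab, U none, S hab], g • O2 (mset m0) oct_octad.1 = y) := by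
  have hle : Nat.card (fixL [O2 (mset m0) oct_octad.1, X hab, U none, S hab]) ≤ 5760 := by
    refine le_trans ?_ card77
    refine card_visible_le' _ _ ?_ (by simp) (by simp) (by simp)
    intro σ h0 h
    exact ⟨⟨h0, fix_of_X hab h0 (h _ (by simp))⟩, fix_of_O oct_octad.1 (h _ (by simp))⟩
  have h := chain (C := [(X hab, 16), (U none, 24), (S hab, 0)]) (n := 32) (by norm_num)
    (x := O2 (mset m0) oct_octad.1) (s := 77) (M := 5760) (by
      refine ⟨?_, ?_⟩
      · rw [coe_O]; decide +kernel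
      · simp only [List.forall_mem_cons, List.not_mem_nil, false_imp_iff, implies_true, and_true, coe_X, coe_U, coe_S, coe_O]
        decide +kernel)
    (by
      show Nat.card (fixL [X hab, U none, S hab]) = _
      rw [chain100.2]) (le_of_eq cls77) hle (by norm_num) (by norm_num)
  exact h.1

theorem dot_self (x : GolayPt → ℤ) : dotInt x x = sqNorm x := by
  unfold dotInt sqNorm; exact Finset.sum_congr rfl fun i _ => by ring

theorem dot_self' (x : leechLattice) : dotInt (x : GolayPt → ℤ) (x : GolayPt → ℤ) = sqNorm (x : GolayPt → ℤ) := dot_self _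

theorem counts_hs {v u x : leechLattice} (hu : sqNorm (u : GolayPt → ℤ) = 32) (hv : v ∈ cls [(u, 16)] 48)
    (hx : x ∈ cls [(v, 24), (u, 0)] 32) :
    (cls [(x, 8), (v, 24), (u, 0)] 32).ncard = 22 ∧ (cls [(x, 16), (v, 24), (u, 0)] 32).ncard = 77 := by
  obtain ⟨k, h1, h2, h3⟩ := stdHS3 hu hv hx
  constructor
  · rw [ncard_cls_smul k]
    simp only [List.map_cons, List.map_nil, h1, h2, h3]
    exact cls22
  · rw [ncard_cls_smul k]
    simp only [List.map_cons, List.map_nil, h1, h2, h3]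
    exact cls77

theorem dots_hs {v u x y : leechLattice} (hu : sqNorm (u : GolayPt → ℤ) = 32) (hv : v ∈ cls [(u, 16)] 48)
    (hx : x ∈ cls [(v, 24), (u, 0)] 32) (hy : y ∈ cls [(v, 24), (u, 0)] 32) (hne : y ≠ x) :
    y ∈ cls [(x, 8), (v, 24), (u, 0)] 32 ∨ y ∈ cls [(x, 16), (v, 24), (u, 0)] 32 := by
  have hc := counts_hs hu hv hx
  have hf : (cls [(v, 24), (u, 0)] 32).Finite := finite_cls (by norm_num)
  have hx' := mem_cls2.1 hx
  set A := cls [(x, 8), (v, 24), (u, 0)] 32 with hA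
  set B := cls [(x, 16), (v, 24), (u, 0)] 32 with hB
  have hfA : A.Finite := finite_cls (by norm_num)
  have hfB : B.Finite := finite_cls (by norm_num)
  have hxA : x ∉ A := by
    intro h
    have := (mem_cls3.1 h).2.1
    rw [dot_self', hx'.1] at this
    norm_num at this
  have hxB : x ∉ B := by
    intro h
    have := (mem_cls3.1 h).2.1
    rw [dot_self', hx'.1] at this
    norm_num at this
  have hAB : Disjoint A B := by
    rw [Set.disjoint_left]
    intro z h1 h2
    have e1 := (mem_cls3.1 h1).2.1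
    have e2 := (mem_cls3.1 h2).2.1
    omega
  have hsub : insert x (A ∪ B) ⊆ cls [(v, 24), (u, 0)] 32 := by
    intro z hz
    rcases hz with rfl | hz | hz
    · exact hx
    · rw [mem_cls3] at hz
      exact mem_cls2.2 ⟨hz.1, hz.2.2⟩
    · rw [mem_cls3] at hz
      exact mem_cls2.2 ⟨hz.1, hz.2.2⟩
  have heq : insert x (A ∪ B) = cls [(v, 24), (u, 0)] 32 := by
    apply Set.eq_of_subset_of_ncard_le hsub _ hf
    rw [Set.ncard_insert_of_notMem (by
      rintro (h | h)
      · exact hxA h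
      · exact hxB h) (hfA.union hfB), Set.ncard_union_eq hAB hfA hfB, hc.1, hc.2, count100 hu hv]
  rw [← heq] at hy
  rcases hy with h | h | h
  · exact absurd h hne
  · left; exact h
  · right; exact h

theorem trans_hs {v u x y y' : leechLattice} (hu : sqNorm (u : GolayPt → ℤ) = 32) (hv : v ∈ cls [(u, 16)] 48)
    (hx : x ∈ cls [(v, 24), (u, 0)] 32)
    (h : (y ∈ cls [(x, 8), (v, 24), (u, 0)] 32 ∧ y' ∈ cls [(x, 8), (v, 24), (u, 0)] 32) ∨
      (y ∈ cls [(x, 16), (v, 24), (u, 0)] 32 ∧ y' ∈ cls [(x, 16), (v, 24), (u, 0)] 32)) :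
    ∃ g : Co0, g • v = v ∧ g • u = u ∧ g • x = x ∧ g • y = y' := by
  obtain ⟨k, h1, h2, h3⟩ := stdHS3 hu hv hx
  have key : ∀ (d : ℤ) (z : leechLattice), (∀ y ∈ cls [(X hab, d), (U none, 24), (S hab, 0)] 32,
      ∃ g ∈ fixL [X hab, U none, S hab], g • z = y) → ∀ y, y ∈ cls [(x, d), (v, 24), (u, 0)] 32 →
      ∃ h : Co0, h • v = U none ∧ h • u = S hab ∧ h • x = X hab ∧ h • y = z := by
    intro d z hz y hy
    have h4 : k • y ∈ cls [(X hab, d), (U none, 24), (S hab, 0)] 32 := by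
      have := (mem_cls_smul k).1 hy
      simp only [List.map_cons, List.map_nil, h1, h2, h3] at this
      exact this
    obtain ⟨g, hg, hgz⟩ := hz _ h4
    rw [mem_fix3] at hg
    refine ⟨g⁻¹ * k, ?_, ?_, ?_, ?_⟩
    · rw [mul_smul, h1, inv_smul_eq_iff, hg.2.1]
    · rw [mul_smul, h2, inv_smul_eq_iff, hg.2.2]
    · rw [mul_smul, h3, inv_smul_eq_iff, hg.1]
    · rw [mul_smul, inv_smul_eq_iff, hgz]
  rcases h with ⟨hy, hy'⟩ | ⟨hy, hy'⟩
  · obtain ⟨a, a1, a2, a3, a4⟩ := key 8 _ chain22 y hy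
    obtain ⟨b, b1, b2, b3, b4⟩ := key 8 _ chain22 y' hy'
    exact ⟨b⁻¹ * a, comp_std a1 b1, comp_std a2 b2, comp_std a3 b3, comp_std a4 b4⟩
  · obtain ⟨a, a1, a2, a3, a4⟩ := key 16 _ chain77 y hy
    obtain ⟨b, b1, b2, b3, b4⟩ := key 16 _ chain77 y' hy'
    exact ⟨b⁻¹ * a, comp_std a1 b1, comp_std a2 b2, comp_std a3 b3, comp_std a4 b4⟩

/-- rank 3 -/
theorem rank_hs (v w x : leechLattice) (hv : sqNorm (v : GolayPt → ℤ) = 48) (hw : sqNorm (w : GolayPt → ℤ) = 48)
    (hvw : dotInt (v : GolayPt → ℤ) (w : GolayPt → ℤ) = -32)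
    (hx : x ∈ cls [(v, 24), (v + w, 0)] 32) :
    {y : leechLattice | y ∈ cls [(v, 24), (v + w, 0)] 32 ∧ dotInt (x : GolayPt → ℤ) (y : GolayPt → ℤ) = 8}.ncard = 22 ∧
    {y : leechLattice | y ∈ cls [(v, 24), (v + w, 0)] 32 ∧ y ≠ x ∧ dotInt (x : GolayPt → ℤ) (y : GolayPt → ℤ) ≠ 8}.ncard = 77 ∧
    ∀ y ∈ cls [(v, 24), (v + w, 0)] 32, ∀ y' ∈ cls [(v, 24), (v + w, 0)] 32, y ≠ x → y' ≠ x →
      (dotInt (x : GolayPt → ℤ) (y : GolayPt → ℤ) = 8 ↔ dotInt (x : GolayPt → ℤ) (y' : GolayPt → ℤ) = 8) →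
      ∃ g : Co0, g • v = v ∧ g • w = w ∧ g • x = x ∧ g • y = y' := by
  obtain ⟨h1, h2⟩ := hs_sum hv hw hvw
  have hc := counts_hs h1 h2 hx
  have hx' := mem_cls2.1 hx
  have e1 : {y : leechLattice | y ∈ cls [(v, 24), (v + w, 0)] 32 ∧ dotInt (x : GolayPt → ℤ) (y : GolayPt → ℤ) = 8} =
      cls [(x, 8), (v, 24), (v + w, 0)] 32 := by
    ext y
    rw [Set.mem_ofPred_eq, mem_cls2, mem_cls3]
    tauto
  have e2 : {y : leechLattice | y ∈ cls [(v, 24), (v + w, 0)] 32 ∧ y ≠ x ∧ dotInt (x : GolayPt → ℤ) (y : GolayPt → ℤ) ≠ 8} =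
      cls [(x, 16), (v, 24), (v + w, 0)] 32 := by
    ext y
    rw [Set.mem_ofPred_eq]
    constructor
    · rintro ⟨h3, h4, h5⟩
      rcases dots_hs h1 h2 hx h3 h4 with h6 | h6
      · exact absurd (mem_cls3.1 h6).2.1 h5
      · exact h6
    · intro h3
      have h3' := mem_cls3.1 h3
      refine ⟨mem_cls2.2 ⟨h3'.1, h3'.2.2⟩, ?_, by rw [h3'.2.1]; norm_num⟩
      rintro rfl
      rw [dot_self', hx'.1] at h3'
      norm_num at h3'
  rw [e1, e2]
  refine ⟨hc.1, hc.2, ?_⟩
  intro y hy y' hy' hne hne' hiff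
  have h5 : (y ∈ cls [(x, 8), (v, 24), (v + w, 0)] 32 ∧ y' ∈ cls [(x, 8), (v, 24), (v + w, 0)] 32) ∨
      (y ∈ cls [(x, 16), (v, 24), (v + w, 0)] 32 ∧ y' ∈ cls [(x, 16), (v, 24), (v + w, 0)] 32) := by
    rcases dots_hs h1 h2 hx hy hne with h6 | h6 <;> rcases dots_hs h1 h2 hx hy' hne' with h7 | h7
    · left; exact ⟨h6, h7⟩
    · exfalso
      rw [(mem_cls3.1 h6).2.1, (mem_cls3.1 h7).2.1] at hiff
      norm_num at hiff
    · exfalso
      rw [(mem_cls3.1 h6).2.1, (mem_cls3.1 h7).2.1] at hiff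
      norm_num at hiff
    · right; exact ⟨h6, h7⟩
  obtain ⟨g, g1, g2, g3, g4⟩ := trans_hs h1 h2 hx h5
  refine ⟨g, g1, ?_, g3, g4⟩
  rw [smul_add', g1] at g2
  exact add_left_cancel g2

/-! ### McLaughlin -/

theorem std2025 {u v x : leechLattice} (hu : sqNorm (u : GolayPt → ℤ) = 48) (hv : v ∈ cls [(u, 24)] 32)
    (hx : x ∈ cls [(v, 0), (u, 16)] 32) : ∃ k : Co0, k • u = U none ∧ k • v = X hab ∧ k • x = S hab := by
  obtain ⟨k, hk1, hk2⟩ := std23 hu hv
  have h1 : k • x ∈ cls [(X hab, 0), (U none, 16)] 32 := by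
    have := (mem_cls_smul k).1 hx
    simp only [List.map_cons, List.map_nil, hk1, hk2] at this
    exact this
  obtain ⟨h, hh, h2⟩ := chain2025.1 _ h1
  rw [mem_fix2] at hh
  refine ⟨h⁻¹ * k, ?_, ?_, ?_⟩
  · rw [mul_smul, hk1, inv_smul_eq_iff, hh.2]
  · rw [mul_smul, hk2, inv_smul_eq_iff, hh.1]
  · rw [mul_smul, inv_smul_eq_iff, h2]

theorem chain330 : (∀ y ∈ cls [(S hab, 0), (X hab, 0), (U none, 16)] 32,
    ∃ g ∈ fixL [S hab, X hab, U none], g • O2 (mset m1) oct1.1 = y) := by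
  have hle : Nat.card (fixL [O2 (mset m1) oct1.1, S hab, X hab, U none]) ≤ 1344 := by
    refine le_trans ?_ card330
    refine card_visible_le' _ _ ?_ (by simp) (by simp) (by simp)
    intro σ h0 h
    exact ⟨⟨h0, fix_of_X hab h0 (h _ (by simp))⟩, fix_of_O oct1.1 (h _ (by simp))⟩
  have h := chain (C := [(S hab, 0), (X hab, 0), (U none, 16)]) (n := 32) (by norm_num)
    (x := O2 (mset m1) oct1.1) (s := 330) (M := 1344) (by
      refine ⟨?_, ?_⟩
      · rw [coe_O]; decide +kernel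
      · simp only [List.forall_mem_cons, List.not_mem_nil, false_imp_iff, implies_true, and_true, coe_X, coe_U, coe_S, coe_O]
        decide +kernel)
    (by
      show Nat.card (fixL [S hab, X hab, U none]) = _
      rw [chain2025.2]) (le_of_eq cls330) hle (by norm_num) (by norm_num)
  exact h.1

theorem mem_m0 {σ : M24} (h : ∀ i, (y462 : GolayPt → ℤ) ((σ : Equiv.Perm GolayPt) i) = (y462 : GolayPt → ℤ) i)
    (h0 : (σ : Equiv.Perm GolayPt) b0 = b0) :
    (σ : Equiv.Perm GolayPt) (some 12) = some 12 ∧ σ ∈ MulAction.stabilizer M24 (mset m0) := by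
  have hv : ∀ i, (y462 : GolayPt → ℤ) i = if i = b0 ∨ i = some 12 then -2 else if i ∈ mset m0 then 2 else 0 := by
    rw [coe_y462]; decide +kernel
  constructor
  · have h1 := h (some 12)
    rw [hv, hv, if_pos (Or.inr rfl)] at h1
    by_contra hne
    have h2 : ¬ ((σ : Equiv.Perm GolayPt) (some 12) = b0 ∨ (σ : Equiv.Perm GolayPt) (some 12) = some 12) := by
      rintro (h2 | h2)
      · exact absurd ((σ : Equiv.Perm GolayPt).injective (h2.trans h0.symm)) (by decide)
      · exact hne h2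
    rw [if_neg h2] at h1
    split_ifs at h1 <;> norm_num at h1
  · rw [MulAction.mem_stabilizer_iff]
    show (σ : Equiv.Perm GolayPt) • mset m0 = mset m0
    have hs : ∀ i, i ∈ mset m0 ↔ (y462 : GolayPt → ℤ) i ≠ 0 := by
      rw [coe_y462]; decide +kernel
    ext i
    rw [mem_smul, hs, hs, ← h ((σ : Equiv.Perm GolayPt).symm i), Equiv.apply_symm_apply]

theorem chain462 : (∀ y ∈ cls [(S hab, 16), (X hab, 0), (U none, 16)] 32,
    ∃ g ∈ fixL [S hab, X hab, U none], g • y462 = y) := by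
  have hle : Nat.card (fixL [y462, S hab, X hab, U none]) ≤ 960 := by
    refine le_trans ?_ card462
    refine card_visible_le' _ _ ?_ (by simp) (by simp) (by simp)
    intro σ h0 h
    have hb := fix_of_X hab h0 (h _ (by simp))
    have h1 := mem_m0 (h _ (by simp)) hb
    exact ⟨⟨⟨h0, hb⟩, h1.1⟩, h1.2⟩
  have h := chain (C := [(S hab, 16), (X hab, 0), (U none, 16)]) (n := 32) (by norm_num)
    (x := y462) (s := 462) (M := 960) (by
      refine ⟨?_, ?_⟩
      · rw [coe_y462]; decide +kernel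
      · simp only [List.forall_mem_cons, List.not_mem_nil, false_imp_iff, implies_true, and_true, coe_X, coe_U, coe_S, coe_y462]
        decide +kernel)
    (by
      show Nat.card (fixL [S hab, X hab, U none]) = _
      rw [chain2025.2]) (le_of_eq cls462) hle (by norm_num) (by norm_num)
  exact h.1

/-- possible inner products -/
theorem dots2025 {y : leechLattice} (hy : y ∈ cls [(X hab, 0), (U none, 16)] 32) (hne : y ≠ S hab) :
    y ∈ cls [(S hab, 0), (X hab, 0), (U none, 16)] 32 ∨ y ∈ cls [(S hab, 8), (X hab, 0), (U none, 16)] 32 ∨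
      y ∈ cls [(S hab, 16), (X hab, 0), (U none, 16)] 32 := by
  have hy' := mem_cls2.1 hy
  have h1 := norm_alt' (l := (S hab : GolayPt → ℤ)) (S hab).2 y
  have h2 := norm_alt' (l := ((U none - X hab - S hab : leechLattice) : GolayPt → ℤ)) (U none - X hab - S hab).2 y
  have hS : sqNorm (S hab : GolayPt → ℤ) = 32 := sqNorm_S
  have hW : sqNorm ((U none - X hab - S hab : leechLattice) : GolayPt → ℤ) = 32 := by
    have : ((U none - X hab - S hab : leechLattice) : GolayPt → ℤ) =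
      (U none : GolayPt → ℤ) - (X hab : GolayPt → ℤ) - (S hab : GolayPt → ℤ) := rfl
    rw [this, coe_U, coe_X, coe_S]; decide +kernel
  have hdW : dotInt ((U none - X hab - S hab : leechLattice) : GolayPt → ℤ) (y : GolayPt → ℤ) =
      16 - dotInt (S hab : GolayPt → ℤ) (y : GolayPt → ℤ) := by
    have : ((U none - X hab - S hab : leechLattice) : GolayPt → ℤ) =
      (U none : GolayPt → ℤ) - (X hab : GolayPt → ℤ) - (S hab : GolayPt → ℤ) := rfl
    rw [this, dot_sub_left, dot_sub_left, hy'.2.1, hy'.2.2]; ring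
  rw [mem_cls3, mem_cls3, mem_cls3]
  rcases h1 with h1 | ⟨a, ha, h1⟩
  · exact absurd (Subtype.ext h1) hne
  rcases h2 with h2 | ⟨b, hb, h2⟩
  · exfalso
    have e1 := hy'.2.1
    have : ((U none - X hab - S hab : leechLattice) : GolayPt → ℤ) =
      (U none : GolayPt → ℤ) - (X hab : GolayPt → ℤ) - (S hab : GolayPt → ℤ) := rfl
    rw [h2, this, coe_X, coe_U, coe_S] at e1
    revert e1
    decide +kernel
  · rw [sqNorm_sub, hS, hy'.1] at h1
    rw [sqNorm_sub, hW, hy'.1, hdW] at h2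
    have e : dotInt (S hab : GolayPt → ℤ) (y : GolayPt → ℤ) = 0 ∨ dotInt (S hab : GolayPt → ℤ) (y : GolayPt → ℤ) = 8 ∨
        dotInt (S hab : GolayPt → ℤ) (y : GolayPt → ℤ) = 16 := by omega
    tauto

theorem mem_S2025 : S hab ∈ cls [(X hab, 0), (U none, 16)] 32 := by
  refine ⟨?_, ?_⟩
  · rw [coe_S]; decide +kernel
  · simp only [List.forall_mem_cons, List.not_mem_nil, false_imp_iff, implies_true, and_true, coe_S, coe_U, coe_X]
    decide +kernel

theorem cls1232 : (cls [(S hab, 8), (X hab, 0), (U none, 16)] 32).ncard = 1232 := by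
  set A := cls [(S hab, 0), (X hab, 0), (U none, 16)] 32 with hA
  set B := cls [(S hab, 8), (X hab, 0), (U none, 16)] 32 with hB
  set C := cls [(S hab, 16), (X hab, 0), (U none, 16)] 32 with hC
  have hfA : A.Finite := finite_cls (by norm_num)
  have hfB : B.Finite := finite_cls (by norm_num)
  have hfC : C.Finite := finite_cls (by norm_num)
  have hS : dotInt (S hab : GolayPt → ℤ) (S hab : GolayPt → ℤ) = 32 := by rw [dot_self', sqNorm_S]
  have heq : insert (S hab) (A ∪ (B ∪ C)) = cls [(X hab, 0), (U none, 16)] 32 := by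
    ext z
    constructor
    · rintro (rfl | hz | hz | hz)
      · exact mem_S2025
      · rw [mem_cls3] at hz
        exact mem_cls2.2 ⟨hz.1, hz.2.2⟩
      · rw [mem_cls3] at hz
        exact mem_cls2.2 ⟨hz.1, hz.2.2⟩
      · rw [mem_cls3] at hz
        exact mem_cls2.2 ⟨hz.1, hz.2.2⟩
    · intro hz
      by_cases hne : z = S hab
      · left; exact hne
      · right
        rcases dots2025 hz hne with h | h | h
        · left; exact h
        · right; left; exact h
        · right; right; exact h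
  have hn : S hab ∉ A ∪ (B ∪ C) := by
    rintro (h | h | h) <;>
    · have := (mem_cls3.1 h).2.1
      rw [hS] at this
      norm_num at this
  have hd1 : Disjoint A (B ∪ C) := by
    rw [Set.disjoint_left]
    rintro z h1 (h2 | h2) <;>
    · have e1 := (mem_cls3.1 h1).2.1
      have e2 := (mem_cls3.1 h2).2.1
      omega
  have hd2 : Disjoint B C := by
    rw [Set.disjoint_left]
    rintro z h1 h2
    have e1 := (mem_cls3.1 h1).2.1
    have e2 := (mem_cls3.1 h2).2.1
    omega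
  have h := cls2025
  rw [← heq, Set.ncard_insert_of_notMem hn (hfA.union (hfB.union hfC)), Set.ncard_union_eq hd1 hfA (hfB.union hfC),
    Set.ncard_union_eq hd2 hfB hfC, cls330, cls462] at h
  omega

theorem chain1232 : (∀ y ∈ cls [(S hab, 8), (X hab, 0), (U none, 16)] 32,
    ∃ g ∈ fixL [S hab, X hab, U none], g • y1232 = y) := by
  have hle : Nat.card (fixL [y1232, S hab, X hab, U none]) ≤ 360 := by
    refine le_trans ?_ card1232
    refine card_visible_le' _ _ ?_ (by simp) (by simp) (by simp)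
    intro σ h0 h
    have hb := fix_of_X hab h0 (h _ (by simp))
    have h1 := h y1232 (by simp)
    have hc : ∀ i, (y1232 : GolayPt → ℤ) i = 3 ↔ i = c0 := by
      rw [coe_y1232]; decide +kernel
    have hs : ∀ i, i ∈ mset m3 ↔ ((y1232 : GolayPt → ℤ) i = 3 ∨ (y1232 : GolayPt → ℤ) i = -1) := by
      rw [coe_y1232]; decide +kernel
    refine ⟨⟨⟨h0, hb⟩, ?_⟩, ?_⟩
    · exact (hc _).1 ((h1 c0).trans ((hc _).2 rfl))
    · show (σ : Equiv.Perm GolayPt) • mset m3 = mset m3
      ext i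
      rw [mem_smul, hs, hs, ← h1 ((σ : Equiv.Perm GolayPt).symm i), Equiv.apply_symm_apply]
  have h := chain (C := [(S hab, 8), (X hab, 0), (U none, 16)]) (n := 32) (by norm_num)
    (x := y1232) (s := 1232) (M := 360) (by
      refine ⟨?_, ?_⟩
      · rw [coe_y1232]; decide +kernel
      · simp only [List.forall_mem_cons, List.not_mem_nil, false_imp_iff, implies_true, and_true, coe_X, coe_U, coe_S, coe_y1232]
        decide +kernel)
    (by
      show Nat.card (fixL [S hab, X hab, U none]) = _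
      rw [chain2025.2]) (le_of_eq cls1232) hle (by norm_num) (by norm_num)
  exact h.1

/-- an orbit of the stabiliser of three vectors -/
theorem orbit_mcl {u v w x : leechLattice} {d : ℤ} {n : ℕ} (z : leechLattice) (huw : u = v + w)
    (hu : sqNorm (u : GolayPt → ℤ) = 48) (hv : v ∈ cls [(u, 24)] 32)
    (hx : x ∈ cls [(v, 0), (u, 16)] 32) (hz : z ∈ cls [(S hab, d), (X hab, 0), (U none, 16)] 32)
    (ht : ∀ y ∈ cls [(S hab, d), (X hab, 0), (U none, 16)] 32, ∃ g ∈ fixL [S hab, X hab, U none], g • z = y)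
    (hn : (cls [(S hab, d), (X hab, 0), (U none, 16)] 32).ncard = n) :
    ∃ y ∈ cls [(v, 0), (u, 16)] 32, (MulAction.orbit ↥(MulAction.stabilizer ↥Co0 v ⊓ MulAction.stabilizer ↥Co0 w ⊓
      MulAction.stabilizer ↥Co0 x) y).ncard = n := by
  obtain ⟨k, h1, h2, h3⟩ := std2025 hu hv hx
  refine ⟨k⁻¹ • z, ?_, ?_⟩
  · rw [mem_cls_smul k]
    simp only [List.map_cons, List.map_nil, h1, h2, smul_inv_smul]
    rw [mem_cls3] at hz
    exact mem_cls2.2 ⟨hz.1, hz.2.2⟩
  · rw [← hn]
    apply ncard_transfer k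
    intro y
    constructor
    · rintro ⟨g, rfl⟩
      obtain ⟨⟨g1, g2⟩, g3⟩ := g.2
      have g1' : (g : Co0) • v = v := g1
      have g2' : (g : Co0) • w = w := g2
      have g3' : (g : Co0) • x = x := g3
      have g4 : (g : Co0) • u = u := by rw [huw, smul_add', g1', g2']
      have e : k • (g : Co0) • k⁻¹ • z = (k * g * k⁻¹) • z := by rw [mul_smul, mul_smul]
      show k • ((g : Co0) • k⁻¹ • z) ∈ _
      rw [e]
      have e1 : ∀ a b : leechLattice, (g : Co0) • a = a → k • a = b → (k * (g : Co0) * k⁻¹) • b = b := by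
        rintro a _ ha rfl
        rw [mul_smul, mul_smul, inv_smul_smul, ha]
      have := (mem_cls_smul (k * g * k⁻¹)).1 hz
      simp only [List.map_cons, List.map_nil, e1 x _ g3' h3, e1 v _ g1' h2, e1 u _ g4 h1] at this
      exact this
    · intro hy
      obtain ⟨g, hg, hgz⟩ := ht _ hy
      rw [mem_fix3] at hg
      have e1 : ∀ a b : leechLattice, g • b = b → k • a = b → (k⁻¹ * g * k) • a = a := by
        rintro a _ hb rfl
        rw [mul_smul, mul_smul, hb, inv_smul_smul]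
      have eu := e1 u _ hg.2.2 h1
      have ev := e1 v _ hg.2.1 h2
      have ew : (k⁻¹ * g * k) • w = w := by
        rw [huw, smul_add', ev] at eu
        exact add_left_cancel eu
      refine ⟨⟨k⁻¹ * g * k, ⟨ev, ew⟩, e1 x _ hg.1 h3⟩, ?_⟩
      show (k⁻¹ * g * k) • k⁻¹ • z = y
      rw [mul_smul, mul_smul, smul_inv_smul, hgz, inv_smul_smul]

theorem mem_std {d : ℤ} {z : leechLattice} (h : z ∈ cls [(S hab, d), (X hab, 0), (U none, 16)] 32) :
    z ∈ cls [(S hab, d), (X hab, 0), (U none, 16)] 32 := h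

theorem mem330 : O2 (mset m1) oct1.1 ∈ cls [(S hab, 0), (X hab, 0), (U none, 16)] 32 := by
  refine ⟨?_, ?_⟩
  · rw [coe_O]; decide +kernel
  · simp only [List.forall_mem_cons, List.not_mem_nil, false_imp_iff, implies_true, and_true, coe_X, coe_U, coe_S, coe_O]
    decide +kernel

theorem mem462 : y462 ∈ cls [(S hab, 16), (X hab, 0), (U none, 16)] 32 := by
  refine ⟨?_, ?_⟩
  · rw [coe_y462]; decide +kernel
  · simp only [List.forall_mem_cons, List.not_mem_nil, false_imp_iff, implies_true, and_true, coe_X, coe_U, coe_S, coe_y462]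
    decide +kernel

theorem mem1232 : y1232 ∈ cls [(S hab, 8), (X hab, 0), (U none, 16)] 32 := by
  refine ⟨?_, ?_⟩
  · rw [coe_y1232]; decide +kernel
  · simp only [List.forall_mem_cons, List.not_mem_nil, false_imp_iff, implies_true, and_true, coe_X, coe_U, coe_S, coe_y1232]
    decide +kernel

theorem set2025 {v w : leechLattice} :
    {x : leechLattice | sqNorm (x : GolayPt → ℤ) = 32 ∧ dotInt (v : GolayPt → ℤ) (x : GolayPt → ℤ) = 0 ∧
      dotInt (w : GolayPt → ℤ) (x : GolayPt → ℤ) = 16} = cls [(v, 0), (v + w, 16)] 32 := by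
  ext x
  rw [Set.mem_ofPred_eq, mem_cls2, AddSubgroup.coe_add, dot_add_left]
  constructor
  · rintro ⟨h1, h2, h3⟩; exact ⟨h1, h2, by omega⟩
  · rintro ⟨h1, h2, h3⟩; exact ⟨h1, h2, by omega⟩

theorem mcl_sum {v w : leechLattice} (hv : sqNorm (v : GolayPt → ℤ) = 32) (hw : sqNorm (w : GolayPt → ℤ) = 32)
    (hvw : dotInt (v : GolayPt → ℤ) (w : GolayPt → ℤ) = -8) :
    sqNorm ((v + w : leechLattice) : GolayPt → ℤ) = 48 ∧ v ∈ cls [(v + w, 24)] 32 := by
  constructor
  · rw [AddSubgroup.coe_add, sqNorm_add, hv, hw, hvw]; norm_num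
  · refine mem_cls1.2 ⟨hv, ?_⟩
    rw [AddSubgroup.coe_add, dot_add_left, dot_comm (w : GolayPt → ℤ), hvw, dot_self', hv]; norm_num

theorem trans2025 {u v x x' : leechLattice} (hu : sqNorm (u : GolayPt → ℤ) = 48) (hv : v ∈ cls [(u, 24)] 32)
    (hx : x ∈ cls [(v, 0), (u, 16)] 32) (hx' : x' ∈ cls [(v, 0), (u, 16)] 32) :
    ∃ g : Co0, g • u = u ∧ g • v = v ∧ g • x = x' := by
  obtain ⟨k, h1, h2, h3⟩ := std2025 hu hv hx
  obtain ⟨k', h1', h2', h3'⟩ := std2025 hu hv hx'
  exact ⟨k'⁻¹ * k, comp_std h1 h1', comp_std h2 h2', comp_std h3 h3'⟩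

theorem count2025 {u v : leechLattice} (hu : sqNorm (u : GolayPt → ℤ) = 48) (hv : v ∈ cls [(u, 24)] 32) :
    (cls [(v, 0), (u, 16)] 32).ncard = 2025 := by
  obtain ⟨k, hk1, hk2⟩ := std23 hu hv
  rw [ncard_cls_smul k]
  simp only [List.map_cons, List.map_nil, hk1, hk2]
  exact cls2025

end Cfsg.Agent.Lib.LeechChain
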