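import Cfsg.Agent.Lib.LeechOutM5
import Cfsg.Agent.Lib.LeechRank2

/-!
The outer automorphism group of the McLaughlin group.
-/

set_option autoImplicit false

namespace Cfsg.Agent.Lib.LeechSyl

open Cfsg Cfsg.Agent.Lib.Golay Cfsg.Agent.Lib.LeechMin Cfsg.Agent.Lib.GolayCoset Cfsg.Agent.Lib.LeechXi
  Cfsg.Agent.Lib.LeechTrans Cfsg.Agent.Lib.LeechCo2 Cfsg.Agent.Lib.LeechFrame Cfsg.Agent.Lib.LeechCount
  Cfsg.Agent.Lib.LeechOrder Cfsg.Agent.Lib.LeechMod Cfsg.Agent.Lib.LeechQuot Cfsg.Agent.Lib.LeechChain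
open Subgroup
open scoped Pointwise

theorem dot_S_S1 : dotInt (vl S0l) (vl S1l) = 16 := by decide +kernel

theorem S1_mem : ss • S hab ∈ cls [(S hab, 16), (X hab, 0), (U none, 16)] 32 := by
  have h := (mem_cls_smul ss).1 mem_S2025
  simp only [List.map_cons, List.map_nil, ss_X, ss_U] at h
  rw [mem_cls2] at h
  rw [mem_cls3]
  refine ⟨h.1, ?_, h.2.1, h.2.2⟩
  rw [ss_S1, S_vl, dot_S_S1]

theorem reach462 {y : leechLattice} (hy : y ∈ cls [(S hab, 16), (X hab, 0), (U none, 16)] 32) :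
    ∃ z : T22, ((fM z * sM : GM) : Co0) • S hab = y := by
  obtain ⟨g1, hg1, e1⟩ := LeechChain.chain462 _ S1_mem
  obtain ⟨g2, hg2, e2⟩ := LeechChain.chain462 _ hy
  have h1 : g2 * g1⁻¹ ∈ fixL [S hab, X hab, U none] := mul_mem hg2 (inv_mem hg1)
  rw [mem_fix3] at h1
  obtain ⟨σ, hσ, h2⟩ := mem_M22 h1.2.1 h1.1 h1.2.2
  refine ⟨⟨σ, hσ⟩, ?_⟩
  show (peH σ * ss) • S hab = y
  rw [h2, mul_smul, mul_smul, ← e1, inv_smul_smul, e2]

/-- the subgroup of fixed points -/
def fixSub (β : MulAut GM) : Subgroup GM where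
  carrier := {y | β y = y}
  one_mem' := map_one β
  mul_mem' := fun {a b} ha hb => by
    show β (a * b) = a * b
    rw [map_mul]
    exact congrArg₂ _ ha hb
  inv_mem' := fun {a} ha => by
    show β a⁻¹ = a⁻¹
    rw [map_inv]
    exact congrArg _ ha

theorem big_K {K : Subgroup GM} (h1 : fM.range ≤ K) (h2 : sM ∈ K) : K = ⊤ := by
  haveI : Fact (Nat.Prime 11) := ⟨by norm_num⟩
  have h3 := AutSyl.index_modEq (P := zpowers (fM tq)) (K := K) (p := 11)
    (by rw [Nat.card_zpowers, orderOf_injective fM fM_inj, orderOf_tq]) (by rw [card_GM]; norm_num)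
    (fun x hx => h1 (fM_norm x hx))
  have h4 := Subgroup.card_mul_index (MulAction.stabilizer K (S hab))
  have h5 : 462 ≤ (MulAction.stabilizer K (S hab)).index := by
    rw [MulAction.index_stabilizer, ← cls462]
    apply Set.ncard_le_ncard
    · intro y hy
      obtain ⟨z, hz⟩ := reach462 hy
      exact ⟨⟨fM z * sM, mul_mem (h1 ⟨z, rfl⟩) h2⟩, hz⟩
    · exact Set.finite_range _
  have h6 : 443520 ≤ Nat.card (MulAction.stabilizer K (S hab)) := by
    rw [← card_T22]
    refine Nat.card_le_card_of_injective (fun y : T22 => (⟨⟨fM y, h1 ⟨y, rfl⟩⟩, fM_S y⟩ : MulAction.stabilizer K (S hab))) ?_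
    intro a b h
    apply fM_inj
    have h7 := congrArg (fun z : MulAction.stabilizer K (S hab) => ((z : K) : GM)) h
    exact h7
  have h7 := Subgroup.card_mul_index K
  rw [card_GM] at h7
  have h8 : 462 * 443520 ≤ Nat.card K := by
    rw [← h4, mul_comm]; exact Nat.mul_le_mul h6 h5
  have h9 : K.index ≤ 4 := by
    by_contra hcon
    have h10 : 462 * 443520 * 5 ≤ Nat.card K * K.index := Nat.mul_le_mul h8 (by omega)
    omega
  have h10 : K.index = 1 := by
    generalize K.index = i at h3 h9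
    omega
  exact Subgroup.index_eq_one.1 h10

theorem McL_trivial (β : MulAut GM) (hq : β (fM tq) = fM tq) (hr : β (fM tr) = fM tr) (hn : β (fM tn) = fM tn) : β = 1 := by
  have hKK : KK fM β = ⊤ := by
    have h1 := index_KK_le fM β
    rw [index_range_fM] at h1
    have hKq := tq_mem_KK fM (β := β) (Or.inl hq)
    have hKr := tr_mem_KK fM hr
    have hKn : tn ∈ KK fM β := by rw [mem_KK, hn]; exact ⟨tn, rfl⟩
    rcases T22_sub (KK fM β) hKq hKr with h | ⟨h, -⟩ | h
    · exact Subgroup.index_eq_one.1 h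
    · exfalso
      have h2 := Subgroup.card_mul_index (KK fM β)
      rw [h, card_T22] at h2
      have h3 : Nat.card (KK fM β) = 660 := by omega
      have h4 : orderOf (tn * tq) ∣ Nat.card (KK fM β) :=
        Subgroup.orderOf_dvd_natCard _ ((KK fM β).mul_mem hKn hKq)
      rw [orderOf_tn_tq, h3] at h4
      norm_num at h4
    · omega
  have hfix : ∀ y, β (fM y) = fM y := fix_M22_of fM fM_inj (fun y => by
    rw [← mem_KK, hKK]; trivial) hq hr
  obtain ⟨m, hm, hs⟩ := img_s hr (hfix _)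
  have hrel := rel_ab
  set b := fM (wT lb) with hb
  set a := fM (wT ((2, 1) :: (la ++ [(2, 3)]))) with ha
  have h1 : sM ^ m * b = a * sM ^ m := by
    have h2 := congrArg β hrel
    rw [map_mul, map_mul, hs, hb, ha, hfix, hfix] at h2
    exact h2
  have h2 : a = sM * b * sM⁻¹ := by rw [hrel, mul_inv_cancel_right]
  have hj : sM ^ (m + 4) * b = b * sM ^ (m + 4) := by
    have e1 : sM ^ (m + 4) = sM⁻¹ * sM ^ m := by
      rw [eq_inv_mul_iff_mul_eq, ← pow_succ']
      apply sM_mod
      omega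
    rw [e1, mul_assoc, h1, h2]
    group
  have hs1 : β sM = sM := by
    by_cases h0 : m = 1
    · rw [hs, h0, pow_one]
    · exfalso
      have h3 : Commute sM b := by
        have h4 : Commute (sM ^ (m + 4)) b := hj
        obtain ⟨c, hc⟩ : ∃ c : ℕ, ((m + 4) * c) % 5 = 1 := by
          have : (m + 4) % 5 ≠ 0 := by omega
          interval_cases m
          · exact ⟨4, rfl⟩
          · exact absurd rfl h0
          · exact ⟨1, rfl⟩
          · exact ⟨3, rfl⟩
          · exact ⟨2, rfl⟩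
        have h5 := h4.pow_left c
        rw [← pow_mul, sM_mod (b := 1) hc, pow_one] at h5
        exact h5
      have h4 : a = b := by rw [h2, h3.eq, mul_inv_cancel_right]
      exact wT_ne (some 3) a_ne (fM_inj h4).symm
  have hK : fixSub β = ⊤ := big_K (by rintro _ ⟨y, rfl⟩; exact hfix y) hs1
  ext1 y
  have h3 : y ∈ fixSub β := by rw [hK]; trivial
  exact h3

/-! ### the outer automorphism -/

theorem outer_exists : ∃ T : Co0, T • U none = U none ∧ T • X hab = U none - X hab ∧ T • (U none - X hab) = X hab := by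
  obtain ⟨k, hk1, hk2⟩ := std23 (sqNorm_U none) mem552_UX
  refine ⟨k, hk1, ?_, hk2⟩
  rw [smul_sub', hk1] at hk2
  have h := sub_sub_cancel (U none) (k • X hab)
  rw [hk2] at h
  exact h.symm

theorem conj_GM {T : Co0} (h1 : T • U none = U none) (h2 : T • X hab = U none - X hab) (g : Co0) :
    g ∈ fixL [X hab, U none] ↔ T * g * T⁻¹ ∈ fixL [X hab, U none] := by
  have e2 : T • (U none - X hab) = X hab := by rw [smul_sub', h1, h2, sub_sub_cancel]
  rw [mem_fix2, mem_fix2, conj_fix e2, conj_fix h1, smul_sub']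
  constructor
  · rintro ⟨h3, h4⟩
    rw [h3, h4]; exact ⟨rfl, rfl⟩
  · rintro ⟨h3, h4⟩
    rw [h4] at h3
    exact ⟨sub_right_injective h3, h4⟩

theorem out_McL : Nat.card (Out GM) = 2 := by
  obtain ⟨T, hT1, hT2, -⟩ := outer_exists
  let τ : MulAut GM := conjEquiv T _ _ (conj_GM hT1 hT2)
  have hτ : ∀ g : GM, ((τ g : GM) : Co0) = T * g * T⁻¹ := fun g => rfl
  refine card_out_eq_two (fun β => β (fM tq) = fM tq ∧ β (fM tr) = fM tr ∧ β (fM tn) = fM tn)
    (fun β => β (fM tq) = fM tq ∧ β (fM tr) = fM tr ∧ β (fM tn) = sM ^ 3 * fM tn) ?_ ?_ ?_ τ ?_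
  · intro α
    obtain ⟨g, hg⟩ := step_A22 (q := fM tq) (r := fM tr) (by rw [orderOf_injective fM fM_inj, orderOf_tq])
      (by rw [← map_inv, ← map_mul, ← map_mul, tr_tq, map_pow]) (by rw [← map_pow, tr_pow, map_one])
      (by rw [card_GM]; norm_num) (fun g hg => cent_tq fM fM_inj fM_norm hg) α
    refine ⟨g, ?_⟩
    rcases hg with ⟨h1, h2⟩ | ⟨h1, h2⟩
    · rcases img_n_P h1 h2 with h3 | h3
      · left; exact ⟨h1, h2, h3⟩
      · right; exact ⟨h1, h2, h3⟩
    · exact (no_Q h1 h2).elim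
  · rintro β ⟨h1, h2, h3⟩
    exact McL_trivial β h1 h2 h3
  · rintro β γ ⟨h1, h2, h3⟩ ⟨h4, h5, h6⟩
    have h7 : (γ * β) (fM tq) = fM tq := by rw [MulAut.mul_apply, h1, h4]
    have h8 : (γ * β) (fM tr) = fM tr := by rw [MulAut.mul_apply, h2, h5]
    refine ⟨h7, h8, ?_⟩
    rcases img_n_P h7 h8 with h9 | h9
    · exact h9
    · exfalso
      rw [MulAut.mul_apply, h3, map_mul, h6, map_pow] at h9
      have h10 : (γ sM) ^ 3 = 1 := by
        rw [← mul_assoc] at h9
        exact mul_eq_right.1 (mul_right_cancel h9)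
      rw [← map_pow] at h10
      exact sM_ne (n := 3) (by norm_num) (by norm_num) (γ.injective (h10.trans (map_one γ).symm))
  · rintro ⟨h, hh⟩
    have h1 : ∀ g : GM, (h : Co0) * g * (h : Co0)⁻¹ = T * g * T⁻¹ := by
      intro g
      rw [← hτ, ← hh]; rfl
    have h2 : (h : Co0)⁻¹ * T = 1 ∨ (h : Co0)⁻¹ * T = negOne := by
      apply cent_M22
      intro g hg
      have h3 := h1 ⟨g, mclH_M22 hg⟩
      have h4 : (h : Co0) * g * (h : Co0)⁻¹ = T * g * T⁻¹ := h3
      have h5 : T * g = (h : Co0) * g * (h : Co0)⁻¹ * T := by rw [h4]; group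
      rw [mul_assoc, h5]; group
    have hU := mem_fix2.1 h.2
    have hne : U none ≠ -U none := by
      intro h6
      have h7 := congrArg (fun v : leechLattice => (v : GolayPt → ℤ) none) h6
      have h8 : (U none : GolayPt → ℤ) none = -(U none : GolayPt → ℤ) none := h7
      rw [U_none] at h8; norm_num at h8
    have hne2 : (U none - X hab : leechLattice) ≠ X hab := by
      intro h6
      have e1 : ((U none - X hab : leechLattice) : GolayPt → ℤ) none = 1 := by
        show (U none : GolayPt → ℤ) none - (X hab : GolayPt → ℤ) none = 1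
        rw [U_none, X_none]; norm_num
      rw [h6, X_none] at e1; norm_num at e1
    rcases h2 with h2 | h2
    · rw [inv_mul_eq_one] at h2
      rw [← h2, hU.1] at hT2
      exact hne2 hT2.symm
    · have h3 : T = (h : Co0) * negOne := by rw [← h2, mul_inv_cancel_left]
      rw [h3, mul_smul, negOne_smul, smul_neg', hU.2] at hT1
      exact hne hT1.symm

end Cfsg.Agent.Lib.LeechSyl
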