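import Cfsg.Agent.Lib.LeechOutM6

/-!
The outer automorphism group of the McLaughlin group: conclusion.
-/

set_option autoImplicit false

namespace Cfsg.Agent.Lib.LeechSyl

open Cfsg Cfsg.Agent.Lib.Golay Cfsg.Agent.Lib.LeechMin Cfsg.Agent.Lib.GolayCoset Cfsg.Agent.Lib.LeechXi
  Cfsg.Agent.Lib.LeechTrans Cfsg.Agent.Lib.LeechCo2 Cfsg.Agent.Lib.LeechFrame Cfsg.Agent.Lib.LeechCount
  Cfsg.Agent.Lib.LeechOrder Cfsg.Agent.Lib.LeechMod Cfsg.Agent.Lib.LeechQuot Cfsg.Agent.Lib.LeechChain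
open Subgroup
open scoped Pointwise

theorem spor_McL : Nat.card (Out Spor.McL) = 2 := by
  have h1 : sqNorm ((-Spor.leechV : leechLattice) : GolayPt → ℤ) = 48 := by
    show sqNorm (-Spor.vecV) = 48
    decide +kernel
  have h2 : Spor.leechU ∈ cls [(-Spor.leechV, 24)] 32 := by
    rw [mem_cls1]
    constructor
    · show sqNorm Spor.vecU = 32
      decide +kernel
    · show dotInt (-Spor.vecV) Spor.vecU = 24
      decide +kernel
  obtain ⟨k, hk1, hk2⟩ := std23 h1 h2
  have e : ↥(MulAction.stabilizer Co0 Spor.leechV ⊓ MulAction.stabilizer Co0 Spor.leechU) ≃* GM :=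
    conjEquiv k _ _ (by
      intro g
      rw [mem_fix2, conj_fix hk1, conj_fix hk2, Subgroup.mem_inf, MulAction.mem_stabilizer_iff, MulAction.mem_stabilizer_iff,
        smul_neg']
      constructor
      · rintro ⟨h3, h4⟩
        exact ⟨h4, by rw [h3]⟩
      · rintro ⟨h3, h4⟩
        exact ⟨neg_injective h4, h3⟩)
  rw [← out_McL]
  exact Cfsg.Agent.Lib.H58J2.out_congr ((stab2Equiv Spor.leechV Spor.leechU).trans e)

end Cfsg.Agent.Lib.LeechSyl
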