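import Cfsg.Agent.Lib.LeechOutT

/-!
Automorphisms of groups containing `M22`.
-/

set_option autoImplicit false

namespace Cfsg.Agent.Lib.LeechSyl

open Cfsg Cfsg.Agent.Lib.Golay Cfsg.Agent.Lib.LeechMin Cfsg.Agent.Lib.GolayCoset Cfsg.Agent.Lib.LeechXi
  Cfsg.Agent.Lib.LeechTrans Cfsg.Agent.Lib.LeechCo2 Cfsg.Agent.Lib.LeechFrame Cfsg.Agent.Lib.LeechCount
  Cfsg.Agent.Lib.LeechOrder Cfsg.Agent.Lib.LeechMod Cfsg.Agent.Lib.LeechQuot Cfsg.Agent.Lib.LeechChain
open Subgroup
open scoped Pointwise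

/-! ### permutations commuting with the normaliser of the Sylow 11-subgroup -/

def FF (i : GolayPt) : GolayPt :=
  match i with
  | none => some 0
  | some j => if j = 0 then none else if j ∈ QQ then some (5 * j) else some (14 * j)

theorem fix_cu4 : ∀ p : GolayPt, cubeTwistFun p = p → p = none ∨ p = some 0 ∨ p = some 3 ∨ p = some 15 := by decide +kernel

theorem cyc3 : ∀ j ∈ QQ, ∃ n : Fin 11, j = 2 ^ (n : ℕ) * 3 := by decide +kernel
theorem cyc15 : ∀ j : ZMod 23, j ≠ 0 → j ∉ QQ → ∃ n : Fin 11, j = 2 ^ (n : ℕ) * 15 := by decide +kernel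

theorem FF_oct : ∀ i : GolayPt, FF i ∈ mset 12846482 ↔ i ∈ mset 3277413 := by decide +kernel

theorem not_code_a : mset 12846482 ∉ Sup := fun h =>
  absurd ((mset_mem_supports_iff (by norm_num)).mp h) (by decide +kernel)
theorem code_a : mset 3277413 ∈ Sup := (mset_mem_supports_iff (by norm_num)).mpr (by decide +kernel)

theorem mul5_3 : (5 : ZMod 23) * 3 = 15 := by decide
theorem mul14_15 : (14 : ZMod 23) * 15 = 3 := by decide

/-- no element of `M24` swapping `∞` and `0` commutes with the normaliser of the Sylow 11-subgroup of `M22` -/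
theorem no_swap {ρ : Equiv.Perm GolayPt} (hρ : ρ ∈ M24) (h1 : ρ none = some 0) (h2 : ρ (some 0) = none)
    (hq : ∀ i, ρ ((rh : Equiv.Perm GolayPt) i) = (rh : Equiv.Perm GolayPt) (ρ i))
    (hr : ∀ i, ρ ((cu : Equiv.Perm GolayPt) i) = (cu : Equiv.Perm GolayPt) (ρ i)) : False := by
  have hstep : ∀ (a b : ZMod 23), ρ (some a) = some b → ∀ n : ℕ, ρ (some (2 ^ n * a)) = some (2 ^ n * b) := by
    intro a b hab n
    induction n with
    | zero => simpa using hab
    | succ n ih =>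
      have h3 := hq (some (2 ^ n * a))
      rw [rh_some, ih, rh_some] at h3
      have h4 : ∀ c : ZMod 23, 2 ^ (n + 1) * c = 2 * (2 ^ n * c) := fun c => by ring
      rw [h4, h4, h3]
  have hcu : ∀ j : ZMod 23, cubeTwistFun (some j) = some j → cubeTwistFun (ρ (some j)) = ρ (some j) := by
    intro j hj
    have h3 := hr (some j)
    rw [cu_apply, cu_apply, hj] at h3
    exact h3.symm
  have hn : ∀ j : ZMod 23, j ≠ 0 → ρ (some j) ≠ none := fun j hj h => hj (Option.some.inj (ρ.injective (h.trans h2.symm)))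
  have h0 : ∀ j : ZMod 23, ρ (some j) ≠ some 0 := fun j h => Option.some_ne_none _ (ρ.injective (h.trans h1.symm))
  have h3 : ρ (some 3) = some 3 ∨ ρ (some 3) = some 15 := by
    rcases fix_cu4 _ (hcu 3 (by decide)) with h | h | h | h
    · exact absurd h (hn 3 (by decide))
    · exact absurd h (h0 3)
    · left; exact h
    · right; exact h
  have h15 : ρ (some 15) = some 3 ∨ ρ (some 15) = some 15 := by
    rcases fix_cu4 _ (hcu 15 (by decide)) with h | h | h | h
    · exact absurd h (hn 15 (by decide))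
    · exact absurd h (h0 15)
    · left; exact h
    · right; exact h
  rcases h3 with h3 | h3
  · have h4 : QQ.image some ⊆ GolayFix.Fix ρ := by
      intro i hi
      rw [Finset.mem_image] at hi
      obtain ⟨j, hj, rfl⟩ := hi
      rw [GolayFix.mem_Fix]
      obtain ⟨n, rfl⟩ := cyc3 j hj
      exact hstep 3 3 h3 n
    have h5 := Finset.card_le_card h4
    rw [Finset.card_image_of_injective _ (Option.some_injective _)] at h5
    have h6 : QQ.card = 11 := by decide
    have h7 := MathieuFix.card_Fix_le hρ (fun h => by rw [h] at h1; exact Option.some_ne_none _ h1.symm)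
    omega
  · have h15' : ρ (some 15) = some 3 := by
      rcases h15 with h | h
      · exact h
      · exact absurd (Option.some.inj (ρ.injective (h.trans h3.symm))) (by decide)
    have hF : ∀ i, ρ i = FF i := by
      intro i
      rcases i with _ | j
      · exact h1
      · unfold FF
        by_cases hj0 : j = 0
        · rw [hj0]; simp only [if_true]; exact h2
        · simp only [if_neg hj0]
          by_cases hj : j ∈ QQ
          · rw [if_pos hj]
            obtain ⟨n, rfl⟩ := cyc3 j hj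
            rw [hstep 3 15 h3 n, ← mul5_3]
            congr 1; ring
          · rw [if_neg hj]
            obtain ⟨n, rfl⟩ := cyc15 j hj0 hj
            rw [hstep 15 3 h15' n, ← mul14_15]
            congr 1; ring
    apply not_code_a
    have h4 : ρ • mset 3277413 = mset 12846482 := by
      ext x
      obtain ⟨i, rfl⟩ := ρ.surjective x
      rw [GolayFix.mem_smul_iff, hF, FF_oct]
    rw [← h4]
    exact LeechMin.smul_mem_Sup hρ code_a

/-- an automorphism of `M22` fixing the normaliser of a Sylow 11-subgroup is trivial -/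
theorem fix_T22 (φ : T22 ≃* T22) (hq : φ tq = tq) (hr : φ tr = tr) (y : T22) : φ y = y := by
  let e : T22 ≃* Spor.M22 :=
    { toFun := fun σ => ⟨((σ : M24) : Equiv.Perm GolayPt), H92MathieuAut.mem_M22.2 ⟨(σ : M24).2, σ.2.1, σ.2.2⟩⟩
      invFun := fun g => ⟨⟨(g : Equiv.Perm GolayPt), (H92MathieuAut.mem_M22.1 g.2).1⟩, (H92MathieuAut.mem_M22.1 g.2).2.1,
        (H92MathieuAut.mem_M22.1 g.2).2.2⟩
      left_inv := fun σ => rfl
      right_inv := fun g => rfl
      map_mul' := fun a b => rfl }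
  let ψ : MulAut Spor.M22 := (e.symm.trans φ).trans e
  obtain ⟨ρ, hρ, hc, h⟩ := H92MathieuAut.m22_real ψ
  have h' : ∀ z : T22, (((φ z : T22) : M24) : Equiv.Perm GolayPt) = ρ * ((z : M24) : Equiv.Perm GolayPt) * ρ⁻¹ := by
    intro z
    have h1 := h (e z)
    have h2 : ψ (e z) = e (φ z) := by
      show e (φ (e.symm (e z))) = _
      rw [MulEquiv.symm_apply_apply]
    rw [h2] at h1
    exact h1
  have hcomm : ∀ z : T22, φ z = z → ∀ i, ρ (((z : M24) : Equiv.Perm GolayPt) i) = ((z : M24) : Equiv.Perm GolayPt) (ρ i) := by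
    intro z hz i
    have h1 := h' z
    rw [hz, eq_mul_inv_iff_mul_eq] at h1
    have h2 := congrArg (fun s : Equiv.Perm GolayPt => s i) h1
    exact h2.symm
  have cq := hcomm tq hq
  have cr := hcomm tr hr
  rcases hc with ⟨h1, h2⟩ | ⟨h1, h2⟩
  · have h3 : (⟨⟨ρ, hρ⟩, h1⟩ : T23) = 1 := by
      apply center_T23
      · apply Subtype.ext; apply Subtype.ext; exact Equiv.ext cq
      · apply Subtype.ext; apply Subtype.ext; exact Equiv.ext cr
    have h4 : ρ = 1 := congrArg (fun z : T23 => ((z : M24) : Equiv.Perm GolayPt)) h3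
    apply Subtype.ext
    apply Subtype.ext
    rw [h' y, h4, one_mul, inv_one, mul_one]
  · exact (no_swap hρ h1 h2 cq cr).elim

/-! ### adjusting an automorphism -/

section

variable {G : Type*} [Group G] [Finite G]

theorem conj_pow_gen {x q : G} {k : ℕ} (h : q * x * q⁻¹ = x ^ k) (a b : ℕ) : q ^ a * x ^ b * (q ^ a)⁻¹ = x ^ (k ^ a * b) := by
  induction a generalizing b with
  | zero => simp
  | succ a ih =>
    have h1 : q * x ^ b * q⁻¹ = x ^ (k * b) := by
      rw [pow_mul, ← h, conj_pow]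
    calc q ^ (a + 1) * x ^ b * (q ^ (a + 1))⁻¹ = q ^ a * (q * x ^ b * q⁻¹) * (q ^ a)⁻¹ := by rw [pow_succ]; group
    _ = x ^ (k ^ (a + 1) * b) := by rw [h1, ih]; congr 1; ring

theorem arith_b11 : ∀ b : Fin 11, b ≠ 0 → ∃ i : Fin 5, (3 ^ (i : ℕ) * (b : ℕ)) % 11 = 1 ∨ (3 ^ (i : ℕ) * (b : ℕ)) % 11 = 10 := by
  decide

theorem arith_c {b c : ℕ} (hb : ¬ 11 ∣ b) (h : c * b ≡ 3 * b [MOD 11]) : c ≡ 3 [MOD 11] :=
  Nat.ModEq.cancel_right_of_coprime ((Nat.Prime.coprime_iff_not_dvd (by norm_num)).2 hb) h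

theorem step_A22 {q r : G} (hq : orderOf q = 11) (hrq : r * q * r⁻¹ = q ^ 3) (hr : r ^ 5 = 1)
    (hv : ¬ 11 ^ 2 ∣ Nat.card G) (hC : ∀ g, g * q = q * g → g ∈ zpowers q) (α : MulAut G) :
    ∃ g : G, ((MulAut.conj g * α) q = q ∧ (MulAut.conj g * α) r = r) ∨
      ((MulAut.conj g * α) q = q⁻¹ ∧ (MulAut.conj g * α) r = r) := by
  haveI : Fact (Nat.Prime 11) := ⟨by norm_num⟩
  obtain ⟨g1, h1⟩ := AutSyl.exists_conj (P := zpowers (α q)) (P' := zpowers q) (p := 11)
    (by rw [Nat.card_zpowers, MulEquiv.orderOf_eq, hq]) (by rw [Nat.card_zpowers, hq]) hv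
  set α1 : MulAut G := MulAut.conj g1 * α with hα1
  have e1 : ∀ y, α1 y = g1 * α y * g1⁻¹ := fun y => rfl
  have hx1 : α1 q ∈ zpowers q := (h1 _).1 (mem_zpowers _)
  have hnat : ∀ {y z : G} {n : ℕ}, orderOf z = n → 0 < n → y ∈ zpowers z → ∃ a : ℕ, z ^ a = y := by
    intro y z n hz hn hy
    rw [← (isOfFinOrder_of_finite z).mem_powers_iff_mem_zpowers] at hy
    exact hy
  obtain ⟨b, hb⟩ := hnat hq (by norm_num) hx1
  have h4 : ¬ 11 ∣ b := by
    rintro ⟨c, rfl⟩
    rw [← hq, pow_mul, pow_orderOf_eq_one, one_pow] at hb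
    have h5 : q = 1 := α1.injective (by rw [← hb, map_one])
    rw [h5, orderOf_one] at hq
    norm_num at hq
  -- the image of `r` normalises `⟨q⟩`
  have hrel : α1 r * q ^ b * (α1 r)⁻¹ = q ^ (3 * b) := by
    have h3 := congrArg α1 hrq
    rw [map_mul, map_mul, map_inv, map_pow, ← hb] at h3
    rw [h3, ← pow_mul, mul_comm]
  obtain ⟨b', hb'⟩ : ∃ b' : ℕ, (q ^ b) ^ b' = q := by
    have h5 : q ∈ zpowers (q ^ b) := by
      have h6 : zpowers (q ^ b) = zpowers q := by
        apply Subgroup.eq_of_le_of_card_ge (by rw [Subgroup.zpowers_le]; exact Subgroup.npow_mem_zpowers _ _)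
        rw [Nat.card_zpowers, Nat.card_zpowers, hb, MulEquiv.orderOf_eq]
      rw [h6]; exact mem_zpowers q
    exact hnat (z := q ^ b) rfl (orderOf_pos _) h5
  have hrel2 : α1 r * q * (α1 r)⁻¹ = q ^ 3 := by
    have h5 : α1 r * (q ^ b) ^ b' * (α1 r)⁻¹ = (q ^ (3 * b)) ^ b' := by rw [← hrel, conj_pow]
    rw [hb'] at h5
    rw [h5, mul_comm 3 b, pow_mul, ← pow_mul, mul_comm 3 b', pow_mul, hb']
  obtain ⟨s, hs⟩ : ∃ s : ℕ, q ^ s = r⁻¹ * α1 r := by
    apply hnat hq (by norm_num)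
    apply hC
    have h5 : α1 r * q = q ^ 3 * α1 r := by rw [← hrel2]; group
    have h6 : r⁻¹ * q ^ 3 = q * r⁻¹ := by rw [← hrq]; group
    rw [mul_assoc, h5, ← mul_assoc, h6, mul_assoc]
  have hr1 : α1 r = r * q ^ s := by rw [hs]; group
  -- conjugating by a power of `q`
  have hq11 : q ^ 11 = 1 := by rw [← hq]; exact pow_orderOf_eq_one _
  have hmod : ∀ {a c : ℕ}, a % 11 = c % 11 → q ^ a = q ^ c := by
    intro a c h
    rw [pow_eq_pow_iff_modEq, hq]; exact h
  have hrq' : ∀ j : ℕ, r * q ^ j * r⁻¹ = q ^ (3 * j) := by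
    intro j
    have := conj_pow_gen hrq 1 j
    rwa [pow_one, pow_one] at this
  have hkey : q ^ (7 * s) * (r * q ^ s) * (q ^ (7 * s))⁻¹ = r := by
    rw [mul_inv_eq_iff_eq_mul]
    have h5 : q ^ (7 * s) * r = r * q ^ (4 * (7 * s)) := by
      have h6 := hrq' (4 * (7 * s))
      rw [mul_inv_eq_iff_eq_mul] at h6
      rw [h6]
      congr 1
      apply hmod
      omega
    rw [← mul_assoc, h5, mul_assoc, ← pow_add]
    congr 1
    apply hmod
    omega
  set α2 : MulAut G := MulAut.conj (q ^ (7 * s)) * α1 with hα2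
  have hr2 : α2 r = r := by
    show q ^ (7 * s) * α1 r * (q ^ (7 * s))⁻¹ = r
    rw [hr1, hkey]
  have hq2 : α2 q = q ^ b := by
    show q ^ (7 * s) * α1 q * (q ^ (7 * s))⁻¹ = _
    rw [← hb, ← pow_add, add_comm, pow_add, mul_inv_cancel_right]
  -- conjugating by a power of `r`
  obtain ⟨i, hi⟩ := arith_b11 ⟨b % 11, Nat.mod_lt _ (by norm_num)⟩ (by
    intro h
    apply h4
    exact Nat.dvd_of_mod_eq_zero (congrArg Fin.val h))
  have hr3 : (MulAut.conj (r ^ (i : ℕ)) * α2) r = r := by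
    show r ^ (i : ℕ) * α2 r * (r ^ (i : ℕ))⁻¹ = r
    rw [hr2]
    have : r ^ (i : ℕ) * r = r * r ^ (i : ℕ) := (Commute.refl r).pow_left _
    rw [this, mul_inv_cancel_right]
  have hq3 : (MulAut.conj (r ^ (i : ℕ)) * α2) q = q ^ (3 ^ (i : ℕ) * b) := by
    show r ^ (i : ℕ) * α2 q * (r ^ (i : ℕ))⁻¹ = _
    rw [hq2, conj_pow_gen hrq]
  have hall : MulAut.conj (r ^ (i : ℕ) * (q ^ (7 * s) * g1)) * α = MulAut.conj (r ^ (i : ℕ)) * α2 := by
    rw [hα2, hα1, map_mul, map_mul, mul_assoc, mul_assoc]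
  refine ⟨r ^ (i : ℕ) * (q ^ (7 * s) * g1), ?_⟩
  rw [hall]
  have hm : (3 ^ (i : ℕ) * b) % 11 = (3 ^ (i : ℕ) * (b % 11)) % 11 := by
    rw [Nat.mul_mod, Nat.mul_mod (3 ^ (i : ℕ)) (b % 11), Nat.mod_mod]
  rcases hi with hi | hi
  · left
    have hi' : (3 ^ (i : ℕ) * (b % 11)) % 11 = 1 := hi
    refine ⟨?_, hr3⟩
    rw [hq3, hmod (c := 1), pow_one]
    rw [hm, hi']
  · right
    have hi' : (3 ^ (i : ℕ) * (b % 11)) % 11 = 10 := hi
    refine ⟨?_, hr3⟩
    rw [hq3, hmod (c := 10)]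
    · rw [eq_inv_iff_mul_eq_one, ← pow_succ, hq11]
    · rw [hm, hi']

end

end Cfsg.Agent.Lib.LeechSyl
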