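import Cfsg.Agent.Lib.LeechOut1d
import Cfsg.Agent.Lib.H92MathieuAutC

/-!
Subgroups of `M22` containing the normaliser of a Sylow 11-subgroup.
-/

set_option autoImplicit false

namespace Cfsg.Agent.Lib.LeechSyl

open Cfsg Cfsg.Agent.Lib.Golay Cfsg.Agent.Lib.LeechMin Cfsg.Agent.Lib.GolayCoset Cfsg.Agent.Lib.LeechXi
  Cfsg.Agent.Lib.LeechTrans Cfsg.Agent.Lib.LeechCo2 Cfsg.Agent.Lib.LeechFrame Cfsg.Agent.Lib.LeechCount
  Cfsg.Agent.Lib.LeechOrder Cfsg.Agent.Lib.LeechMod Cfsg.Agent.Lib.LeechQuot Cfsg.Agent.Lib.LeechChain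
open Subgroup
open scoped Pointwise

/-! ### groups with outer automorphism group of order two -/

theorem card_out_eq_two {G : Type*} [Group G] (P Q : MulAut G → Prop)
    (h1 : ∀ α : MulAut G, ∃ g : G, P (MulAut.conj g * α) ∨ Q (MulAut.conj g * α)) (h2 : ∀ β, P β → β = 1)
    (h3 : ∀ β γ, Q β → Q γ → P (γ * β)) (τ : MulAut G) (hτ : τ ∉ Inn G) : Nat.card (Out G) = 2 := by
  have hinn : ∀ g : G, MulAut.conj g ∈ Inn G := fun g => ⟨g, rfl⟩
  have hP : ∀ α : MulAut G, ∀ g, P (MulAut.conj g * α) → α ∈ Inn G := by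
    intro α g h
    have h4 := h2 _ h
    have h5 : α = (MulAut.conj g)⁻¹ := by rw [← mul_eq_one_iff_eq_inv', h4]
    rw [h5]
    exact inv_mem (hinn g)
  obtain ⟨g0, h0⟩ := h1 τ
  have hQτ : Q (MulAut.conj g0 * τ) := by
    rcases h0 with h | h
    · exact absurd (hP τ g0 h) hτ
    · exact h
  show (Inn G).index = 2
  rw [Subgroup.index_eq_two_iff]
  refine ⟨τ, fun b => ?_⟩
  obtain ⟨g, hg⟩ := h1 b
  rcases hg with h | h
  · right
    have hb := hP b g h
    refine ⟨hb, fun hbt => hτ ?_⟩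
    have := mul_mem (inv_mem hb) hbt
    rwa [inv_mul_cancel_left] at this
  · left
    have h4 := h2 _ (h3 _ _ hQτ h)
    have h5 : b * τ ∈ Inn G := by
      have h6 : MulAut.conj g * (b * MulAut.conj g0 * b⁻¹) * (b * τ) = 1 := by
        rw [← h4]; group
      have h7 : b * MulAut.conj g0 * b⁻¹ ∈ Inn G := by
        have hn : (Inn G).Normal := inferInstance
        exact hn.conj_mem _ (hinn g0) b
      have h8 : b * τ = (MulAut.conj g * (b * MulAut.conj g0 * b⁻¹))⁻¹ := by rw [← mul_eq_one_iff_eq_inv', h6]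
      rw [h8]
      exact inv_mem (mul_mem (hinn g) h7)
    refine ⟨h5, fun hb => hτ ?_⟩
    have := mul_mem (inv_mem hb) h5
    rwa [inv_mul_cancel_left] at this

/-! ### counting -/

section

variable {G : Type*} [Group G] [Finite G]

theorem card_norm_cent {p : ℕ} [hp : Fact p.Prime] {P : Subgroup G} (hP : Nat.card P = p) :
    ∃ m, Nat.card (normalizer (P : Set G)) = Nat.card (centralizer (P : Set G)) * m ∧ m ∣ p - 1 := by
  have hcyc : IsCyclic P := isCyclic_of_prime_card hP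
  have hle : centralizer (P : Set G) ≤ normalizer (P : Set G) := by
    intro g hg
    rw [Subgroup.mem_normalizer_iff]
    intro y
    constructor
    · intro hy
      have := Subgroup.mem_centralizer_iff.1 hg y hy
      rw [← this, mul_inv_cancel_right]; exact hy
    · intro hy
      have := Subgroup.mem_centralizer_iff.1 hg _ hy
      have h2 : g * y * g⁻¹ = y := by
        have h3 : g * (g * y * g⁻¹) = g * y := by rw [← this]; group
        exact mul_left_cancel h3
      rwa [h2] at hy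
  have h1 : Nat.card P.normalizerMonoidHom.ker = Nat.card (centralizer (P : Set G)) := by
    rw [Subgroup.normalizerMonoidHom_ker, Nat.card_congr (Subgroup.subgroupOfEquivOfLe hle).toEquiv]
  have h2 : Nat.card P.normalizerMonoidHom.range ∣ p - 1 := by
    have h3 := Subgroup.card_subgroup_dvd_card P.normalizerMonoidHom.range
    rw [IsCyclic.card_mulAut, hP, Nat.totient_prime hp.out] at h3
    exact h3
  refine ⟨_, ?_, h2⟩
  have h3 := Subgroup.card_mul_index P.normalizerMonoidHom.ker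
  rw [h1, Subgroup.index_ker] at h3
  exact h3.symm

theorem sub_count {p : ℕ} [hp : Fact p.Prime] {P K : Subgroup G} (hP : Nat.card P = p) (hv : ¬ p ^ 2 ∣ Nat.card G)
    (hPK : P ≤ K) : ∃ i, Nat.card (normalizer (P : Set G) ⊓ K : Subgroup G) * i = Nat.card K ∧ i % p = 1 := by
  have hvK : ¬ p ^ 2 ∣ Nat.card K := fun h => hv (h.trans (Subgroup.card_subgroup_dvd_card K))
  have hPK' : Nat.card (P.subgroupOf K) = p := by
    rw [Nat.card_congr (Subgroup.subgroupOfEquivOfLe hPK).toEquiv, hP]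
  have h2 := card_sylow_modEq_one p K
  rw [(AutSyl.syl (P.subgroupOf K) hPK' hvK).card_eq_index_normalizer] at h2
  have h2' : (normalizer ((P.subgroupOf K : Subgroup K) : Set K)).index ≡ 1 [MOD p] := h2
  refine ⟨(normalizer ((P.subgroupOf K : Subgroup K) : Set K)).index, ?_, ?_⟩
  · have h3 := Subgroup.card_mul_index (normalizer ((P.subgroupOf K : Subgroup K) : Set K))
    rw [← h3]
    congr 1
    rw [← Subgroup.subgroupOf_normalizer_eq hPK, ← Subgroup.inf_subgroupOf_right,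
      Nat.card_congr (Subgroup.subgroupOfEquivOfLe (inf_le_right : normalizer (P : Set G) ⊓ K ≤ K)).toEquiv]
  · have h5 : (normalizer ((P.subgroupOf K : Subgroup K) : Set K)).index % p = 1 % p := h2'
    rw [h5, Nat.mod_eq_of_lt hp.out.one_lt]

end

/-! ### elements of `M22` -/

/-- `M22` as a type -/
abbrev T22 : Type := ↥(St none ⊓ St b0)

theorem rh_b0 : (rh : Equiv.Perm GolayPt) b0 = b0 := by
  show (rh : Equiv.Perm GolayPt) (some 0) = some 0
  rw [rh_some, mul_zero]

noncomputable def tq : T22 := ⟨rh, rh_none, rh_b0⟩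
noncomputable def tr : T22 := ⟨cu, cu_none, cu_b0⟩

def cN4 : ℕ := 973897415006763473283957367504343616
theorem inM_cN4 : inM cN4 = true := by decide +kernel
noncomputable def n4 : M24 := ⟨toPerm cN4, toPerm_mem_M24 inM_cN4⟩
theorem n4_apply (p : GolayPt) : (n4 : Equiv.Perm GolayPt) p = pt (img cN4 (ix p)) := toPerm_apply (valid_of_inM inM_cN4) p

noncomputable def tn : T22 := ⟨n4, by show (n4 : Equiv.Perm GolayPt) none = none; rw [n4_apply]; decide +kernel,
  by show (n4 : Equiv.Perm GolayPt) b0 = b0; rw [n4_apply]; decide +kernel⟩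

theorem T22_ext {a b : T22} (h : ∀ p, ((a : M24) : Equiv.Perm GolayPt) p = ((b : M24) : Equiv.Perm GolayPt) p) : a = b := by
  apply Subtype.ext
  apply Subtype.ext
  exact Equiv.ext h

theorem orderOf_tq : orderOf tq = 11 := by
  rw [← Subgroup.orderOf_coe]; exact orderOf_rh

theorem tr_pow : tr ^ 5 = 1 := Subtype.ext cu_pow

theorem orderOf_tr : orderOf tr = 5 := by
  haveI : Fact (Nat.Prime 5) := ⟨by norm_num⟩
  apply orderOf_eq_prime tr_pow
  intro h; exact cu_ne (congrArg Subtype.val h)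

theorem tr_tq : tr * tq * tr⁻¹ = tq ^ 3 := by
  rw [mul_inv_eq_iff_eq_mul]
  exact Subtype.ext cu_rh

theorem tn_tr : tn * tr * tn⁻¹ = tr ^ 2 := by
  rw [mul_inv_eq_iff_eq_mul]
  apply T22_ext
  intro p
  show (n4 : Equiv.Perm GolayPt) ((cu : Equiv.Perm GolayPt) p) = (cu : Equiv.Perm GolayPt) ((cu : Equiv.Perm GolayPt)
    ((n4 : Equiv.Perm GolayPt) p))
  rw [n4_apply, n4_apply, cu_apply, cu_apply, cu_apply]
  revert p
  decide +kernel

theorem tn_tq_apply (p : GolayPt) : (((tn * tq : T22) : M24) : Equiv.Perm GolayPt) p = pt (img cN4 (ix ((p.map (2 * ·))))) := by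
  show (n4 : Equiv.Perm GolayPt) ((rh : Equiv.Perm GolayPt) p) = _
  rw [n4_apply]
  rfl

theorem tn_tq : (tn * tq) ^ 7 = 1 := by
  apply T22_ext
  intro p
  show (((tn * tq : T22) : M24) : Equiv.Perm GolayPt) ((((tn * tq : T22) : M24) : Equiv.Perm GolayPt)
    ((((tn * tq : T22) : M24) : Equiv.Perm GolayPt) ((((tn * tq : T22) : M24) : Equiv.Perm GolayPt)
    ((((tn * tq : T22) : M24) : Equiv.Perm GolayPt) ((((tn * tq : T22) : M24) : Equiv.Perm GolayPt)
    ((((tn * tq : T22) : M24) : Equiv.Perm GolayPt) p)))))) = p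
  rw [tn_tq_apply, tn_tq_apply, tn_tq_apply, tn_tq_apply, tn_tq_apply, tn_tq_apply, tn_tq_apply]
  revert p
  decide +kernel

theorem tn_tq_ne : tn * tq ≠ 1 := by
  intro h
  have h1 := tn_tq_apply (some 1)
  rw [h] at h1
  revert h1
  decide +kernel

theorem orderOf_tn_tq : orderOf (tn * tq) = 7 := by
  haveI : Fact (Nat.Prime 7) := ⟨by norm_num⟩
  exact orderOf_eq_prime tn_tq tn_tq_ne

theorem card_T22 : Nat.card T22 = 443520 := card_M2

theorem no_comm {p l : ℕ} (hp : Fact p.Prime) (hl : Fact l.Prime) {y c : T22} (hyp : y ^ p = 1) (hy1 : y ≠ 1) (hcl : c ^ l = 1)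
    (hc1 : c ≠ 1) (h : y * c = c * y) (hpl : (p = 5 ∧ (l = 2 ∨ l = 3 ∨ l = 7 ∨ l = 11)) ∨ (p = 7 ∧ (l = 2 ∨ l = 5 ∨ l = 11))) :
    False := by
  classical
  have e1 : ((y : M24) : Equiv.Perm GolayPt) ^ p = 1 := congrArg (fun z : T22 => ((z : M24) : Equiv.Perm GolayPt)) hyp
  have e2 : ((c : M24) : Equiv.Perm GolayPt) ^ l = 1 := congrArg (fun z : T22 => ((z : M24) : Equiv.Perm GolayPt)) hcl
  have e3 : ((y : M24) : Equiv.Perm GolayPt) ≠ 1 := fun h => hy1 (Subtype.ext (Subtype.ext h))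
  have e4 : ((c : M24) : Equiv.Perm GolayPt) ≠ 1 := fun h => hc1 (Subtype.ext (Subtype.ext h))
  have hcomm : ∀ i, ((y : M24) : Equiv.Perm GolayPt) (((c : M24) : Equiv.Perm GolayPt) i) =
      ((c : M24) : Equiv.Perm GolayPt) (((y : M24) : Equiv.Perm GolayPt) i) :=
    fun i => congrArg (fun z : T22 => ((z : M24) : Equiv.Perm GolayPt) i) h
  have a1 := GolayFix.univ_card_modEq e1
  have a2 := GolayFix.univ_card_modEq e2
  have a3 := MathieuFix.card_Fix_le (y : M24).2 e3
  have a4 := MathieuFix.card_Fix_le (c : M24).2 e4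
  have a5 := GolayFix.card_modEq e1 (GolayFix.Fix ((c : M24) : Equiv.Perm GolayPt)) (fun x hx => by
    rw [GolayFix.mem_Fix] at hx ⊢
    rw [← hcomm, hx])
  have a6 := GolayFix.card_modEq e2 (GolayFix.Fix ((y : M24) : Equiv.Perm GolayPt)) (fun x hx => by
    rw [GolayFix.mem_Fix] at hx ⊢
    rw [hcomm, hx])
  rw [Finset.inter_comm] at a6
  have a7 := Finset.card_le_card (Finset.inter_subset_left : GolayFix.Fix ((c : M24) : Equiv.Perm GolayPt) ∩
    GolayFix.Fix ((y : M24) : Equiv.Perm GolayPt) ⊆ _)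
  have a8 := Finset.card_le_card (Finset.inter_subset_right : GolayFix.Fix ((c : M24) : Equiv.Perm GolayPt) ∩
    GolayFix.Fix ((y : M24) : Equiv.Perm GolayPt) ⊆ _)
  have a9 : 2 ≤ (GolayFix.Fix ((c : M24) : Equiv.Perm GolayPt) ∩ GolayFix.Fix ((y : M24) : Equiv.Perm GolayPt)).card := by
    have h1 : ({none, b0} : Finset GolayPt) ⊆ GolayFix.Fix ((c : M24) : Equiv.Perm GolayPt) ∩
        GolayFix.Fix ((y : M24) : Equiv.Perm GolayPt) := by
      intro i hi
      rw [Finset.mem_insert, Finset.mem_singleton] at hi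
      rw [Finset.mem_inter, GolayFix.mem_Fix, GolayFix.mem_Fix]
      rcases hi with rfl | rfl
      · exact ⟨c.2.1, y.2.1⟩
      · exact ⟨c.2.2, y.2.2⟩
    have h2 := Finset.card_le_card h1
    rwa [Finset.card_pair hab] at h2
  have a10 : l = 2 → (GolayFix.Fix ((c : M24) : Equiv.Perm GolayPt)).card = 8 := by
    rintro rfl
    exact (MathieuFix.fix_involution (c : M24).2 e2 e4 (x := none) c.2.1).2
  unfold Nat.ModEq at a1 a2 a5 a6
  rcases hpl with ⟨rfl, rfl | rfl | rfl | rfl⟩ | ⟨rfl, rfl | rfl | rfl⟩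
  · have := a10 rfl; omega
  · omega
  · omega
  · omega
  · have := a10 rfl; omega
  · omega
  · omega

theorem cent_coprime {p : ℕ} (hp : Fact p.Prime) {y : T22} (hy : orderOf y = p) {l : ℕ} (hl : l.Prime)
    (hpl : (p = 5 ∧ (l = 2 ∨ l = 3 ∨ l = 7 ∨ l = 11)) ∨ (p = 7 ∧ (l = 2 ∨ l = 5 ∨ l = 11))) :
    ¬ l ∣ Nat.card (centralizer (zpowers y : Set T22)) := by
  intro h
  haveI : Fact l.Prime := ⟨hl⟩
  obtain ⟨c, hc⟩ := exists_prime_orderOf_dvd_card' (G := centralizer (zpowers y : Set T22)) l h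
  have hc1 : (c : T22) ^ l = 1 := by rw [← hc, ← Subgroup.orderOf_coe]; exact pow_orderOf_eq_one _
  have hc2 : (c : T22) ≠ 1 := by
    intro h1
    rw [← Subgroup.orderOf_coe, h1, orderOf_one] at hc
    exact hl.one_lt.ne hc
  refine no_comm hp ⟨hl⟩ (y := y) (by rw [← hy]; exact pow_orderOf_eq_one _) ?_ hc1 hc2
    (Subgroup.mem_centralizer_iff.1 c.2 y (mem_zpowers y)) hpl
  intro h1
  rw [h1, orderOf_one] at hy
  exact hp.out.one_lt.ne hy

theorem dvd_cent {y : T22} : orderOf y ∣ Nat.card (centralizer (zpowers y : Set T22)) := by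
  rw [← Nat.card_zpowers]
  apply Subgroup.card_dvd_of_le
  intro z hz
  rw [Subgroup.mem_centralizer_iff]
  intro w hw
  obtain ⟨a, rfl⟩ := Subgroup.mem_zpowers_iff.1 hz
  obtain ⟨b, rfl⟩ := Subgroup.mem_zpowers_iff.1 hw
  exact (Commute.refl y).zpow_zpow b a

theorem arith5' {n : ℕ} (h : n ∣ 443520) (h2 : ¬ 2 ∣ n) (h3 : ¬ 3 ∣ n) (h7 : ¬ 7 ∣ n) (h11 : ¬ 11 ∣ n) (h5 : 5 ∣ n) : n = 5 := by
  have hc : ∀ {q : ℕ}, q.Prime → ¬ q ∣ n → Nat.Coprime n q := fun hq h => ((Nat.Prime.coprime_iff_not_dvd hq).2 h).symm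
  have e1 : Nat.Coprime n (2 ^ 7 * 3 ^ 2 * 7 * 11) := by
    refine Nat.Coprime.mul_right (Nat.Coprime.mul_right (Nat.Coprime.mul_right ?_ ?_) ?_) ?_
    · exact Nat.Coprime.pow_right 7 (hc (by norm_num) h2)
    · exact Nat.Coprime.pow_right 2 (hc (by norm_num) h3)
    · exact hc (by norm_num) h7
    · exact hc (by norm_num) h11
  have e2 : n ∣ 5 := by
    apply e1.dvd_of_dvd_mul_left
    norm_num
    exact h
  exact Nat.dvd_antisymm e2 h5

theorem arith7' {n : ℕ} (h : n ∣ 443520) (h2 : ¬ 2 ∣ n) (h5 : ¬ 5 ∣ n) (h11 : ¬ 11 ∣ n) : n ∣ 63 := by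
  have hc : ∀ {q : ℕ}, q.Prime → ¬ q ∣ n → Nat.Coprime n q := fun hq h => ((Nat.Prime.coprime_iff_not_dvd hq).2 h).symm
  have e1 : Nat.Coprime n (2 ^ 7 * 5 * 11) := by
    refine Nat.Coprime.mul_right (Nat.Coprime.mul_right ?_ ?_) ?_
    · exact Nat.Coprime.pow_right 7 (hc (by norm_num) h2)
    · exact hc (by norm_num) h5
    · exact hc (by norm_num) h11
  apply e1.dvd_of_dvd_mul_left
  norm_num
  exact h

theorem card_norm5 {y : T22} (hy : orderOf y = 5) : Nat.card (normalizer (zpowers y : Set T22)) = 20 := by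
  haveI hp : Fact (Nat.Prime 5) := ⟨by norm_num⟩
  have hC : Nat.card (centralizer (zpowers y : Set T22)) = 5 := by
    apply arith5' (by rw [← card_T22]; exact Subgroup.card_subgroup_dvd_card _)
    · exact cent_coprime hp hy (by norm_num) (by norm_num)
    · exact cent_coprime hp hy (by norm_num) (by norm_num)
    · exact cent_coprime hp hy (by norm_num) (by norm_num)
    · exact cent_coprime hp hy (by norm_num) (by norm_num)
    · rw [← hy]; exact dvd_cent
  obtain ⟨m, h1, h2⟩ := card_norm_cent (P := zpowers y) (p := 5) (by rw [Nat.card_zpowers, hy])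
  obtain ⟨i, h3, h4⟩ := sub_count (P := zpowers y) (K := ⊤) (p := 5) (by rw [Nat.card_zpowers, hy])
    (by rw [card_T22]; norm_num) le_top
  rw [inf_top_eq, Subgroup.card_top, card_T22, h1, hC] at h3
  rw [h1, hC]
  have h5 : m ≤ 4 := Nat.le_of_dvd (by norm_num) h2
  interval_cases m <;> omega

theorem card_norm7 {y : T22} (hy : orderOf y = 7) : Nat.card (normalizer (zpowers y : Set T22)) = 21 := by
  haveI hp : Fact (Nat.Prime 7) := ⟨by norm_num⟩
  have hC : Nat.card (centralizer (zpowers y : Set T22)) ∣ 63 := by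
    apply arith7' (by rw [← card_T22]; exact Subgroup.card_subgroup_dvd_card _)
    · exact cent_coprime hp hy (by norm_num) (by norm_num)
    · exact cent_coprime hp hy (by norm_num) (by norm_num)
    · exact cent_coprime hp hy (by norm_num) (by norm_num)
  have hC7 : 7 ∣ Nat.card (centralizer (zpowers y : Set T22)) := by rw [← hy]; exact dvd_cent
  obtain ⟨m, h1, h2⟩ := card_norm_cent (P := zpowers y) (p := 7) (by rw [Nat.card_zpowers, hy])
  obtain ⟨i, h3, h4⟩ := sub_count (P := zpowers y) (K := ⊤) (p := 7) (by rw [Nat.card_zpowers, hy])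
    (by rw [card_T22]; norm_num) le_top
  rw [inf_top_eq, Subgroup.card_top, card_T22, h1] at h3
  rw [h1]
  generalize Nat.card (centralizer (zpowers y : Set T22)) = c at hC hC7 h3
  have h5 : m ≤ 6 := Nat.le_of_dvd (by norm_num) h2
  have h6 : c ≤ 63 := Nat.le_of_dvd (by norm_num) hC
  obtain ⟨d, rfl⟩ := hC7
  have h7 : d ∣ 9 := by
    have : 7 * d ∣ 7 * 9 := hC
    exact Nat.dvd_of_mul_dvd_mul_left (by norm_num) this
  have h8 : d ≤ 9 := Nat.le_of_dvd (by norm_num) h7
  interval_cases m <;> interval_cases d <;> omega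

theorem card_norm11 : Nat.card (normalizer (zpowers tq : Set T22)) = 55 := by
  haveI : Fact (Nat.Prime 11) := ⟨by norm_num⟩
  have hP : Nat.card (zpowers tq) = 11 := by rw [Nat.card_zpowers, orderOf_tq]
  have hC : ∀ g : T22, (∀ y ∈ zpowers tq, g * y = y * g) → g ∈ zpowers tq := by
    intro g hg
    have h1 := hg tq (mem_zpowers _)
    have h2 : (⟨(g : M24), g.2.1⟩ : T23) * sq = sq * ⟨(g : M24), g.2.1⟩ :=
      Subtype.ext (congrArg (fun z : T22 => (z : M24)) h1)
    obtain ⟨n, hn⟩ := Subgroup.mem_zpowers_iff.1 (comm_sq h2)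
    rw [Subgroup.mem_zpowers_iff]
    refine ⟨n, Subtype.ext ?_⟩
    have h3 := congrArg (fun z : T23 => (z : M24)) hn
    exact h3
  obtain ⟨m, h1, h2⟩ := AutSyl.card_normalizer hP hC
  have h3 := AutSyl.index_modEq hP (by rw [card_T22]; norm_num) (le_refl (normalizer (zpowers tq : Set T22)))
  have h4 := Subgroup.card_mul_index (normalizer (zpowers tq : Set T22))
  rw [h1, card_T22] at h4
  have h5 : m ≤ 10 := Nat.le_of_dvd (by norm_num) h2
  rw [h1]
  interval_cases m <;> omega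

theorem tr_norm : tr ∈ normalizer (zpowers tq : Set T22) := by
  apply mem_normalizer_of
  rw [tr_tq]; exact Subgroup.npow_mem_zpowers _ _

theorem tn_norm : tn ∈ normalizer (zpowers tr : Set T22) := by
  apply mem_normalizer_of
  rw [tn_tr]; exact Subgroup.npow_mem_zpowers _ _

theorem card_ztq : Nat.card (zpowers tq) = 11 := by rw [Nat.card_zpowers, orderOf_tq]
theorem card_ztr : Nat.card (zpowers tr) = 5 := by rw [Nat.card_zpowers, orderOf_tr]

theorem norm_tq_le {K : Subgroup T22} (hq : tq ∈ K) (hr : tr ∈ K) : normalizer (zpowers tq : Set T22) ≤ K := by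
  have h0 : closure {tq, tr} ≤ K := by
    rw [Subgroup.closure_le]
    rintro y (rfl | rfl) <;> assumption
  refine le_trans ?_ h0
  have h1 : closure {tq, tr} ≤ normalizer (zpowers tq : Set T22) := by
    rw [Subgroup.closure_le]
    rintro y (rfl | rfl)
    · exact Subgroup.le_normalizer (mem_zpowers _)
    · exact tr_norm
  have h2 : 11 ∣ Nat.card (closure {tq, tr}) := dvd_of_mem card_ztq (Subgroup.subset_closure (by simp))
  have h3 : 5 ∣ Nat.card (closure {tq, tr}) := dvd_of_mem card_ztr (Subgroup.subset_closure (by simp))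
  have h4 : 11 * 5 ∣ Nat.card (closure {tq, tr}) := Nat.Coprime.mul_dvd_of_dvd_of_dvd (by norm_num) h2 h3
  exact (Subgroup.eq_of_le_of_card_ge h1 (by
    rw [card_norm11]; exact Nat.le_of_dvd Nat.card_pos h4)).ge

theorem idx_cases : ∀ k : Fin 734, (11 * (k : ℕ) + 1) ∣ 8064 → (11 * (k : ℕ) + 1 = 1 ∨ 11 * (k : ℕ) + 1 = 12 ∨
    11 * (k : ℕ) + 1 = 56 ∨ 11 * (k : ℕ) + 1 = 144 ∨ 11 * (k : ℕ) + 1 = 672 ∨ 11 * (k : ℕ) + 1 = 8064) := by decide +kernel

theorem idx_cases' {n : ℕ} (h : n ∣ 8064) (h1 : n % 11 = 1) : n = 1 ∨ n = 12 ∨ n = 56 ∨ n = 144 ∨ n = 672 ∨ n = 8064 := by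
  obtain ⟨k, hk⟩ : ∃ k, n = 11 * k + 1 := ⟨n / 11, by omega⟩
  have h2 : n ≤ 8064 := Nat.le_of_dvd (by norm_num) h
  subst hk
  exact idx_cases ⟨k, by omega⟩ h

theorem sub_norm {p : ℕ} (hp : Fact p.Prime) {y : T22} (hy : orderOf y = p) (hv : ¬ p ^ 2 ∣ 443520) {K : Subgroup T22} (hyK : y ∈ K) :
    ∃ j i, Nat.card (normalizer (zpowers y : Set T22) ⊓ K : Subgroup T22) = j ∧ j ∣ Nat.card (normalizer (zpowers y : Set T22)) ∧
      j * i = Nat.card K ∧ i % p = 1 := by
  obtain ⟨i, h1, h2⟩ := sub_count (P := zpowers y) (K := K) (p := p) (by rw [Nat.card_zpowers, hy]) (by rwa [card_T22])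
    (by rwa [Subgroup.zpowers_le])
  exact ⟨_, i, rfl, Subgroup.card_dvd_of_le inf_le_left, h1, h2⟩

theorem no_seven {K : Subgroup T22} (h : Nat.card K = 36960 ∨ Nat.card K = 3080) : False := by
  haveI hp : Fact (Nat.Prime 7) := ⟨by norm_num⟩
  have h7 : 7 ∣ Nat.card K := by rcases h with h | h <;> rw [h] <;> norm_num
  obtain ⟨y, hy⟩ := exists_prime_orderOf_dvd_card' (G := K) 7 h7
  obtain ⟨j, i, -, h2, h3, h4⟩ := sub_norm hp (y := (y : T22)) (by rw [Subgroup.orderOf_coe, hy]) (by norm_num) (K := K) y.2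
  rw [card_norm7 (by rw [Subgroup.orderOf_coe, hy])] at h2
  have h5 : j ≤ 21 := Nat.le_of_dvd (by norm_num) h2
  rcases h with h | h
  · rw [h] at h3
    interval_cases j <;> omega
  · rw [h] at h3
    interval_cases j <;> omega

/-- subgroups of `M22` containing the normaliser of a Sylow 11-subgroup -/
theorem T22_sub (K : Subgroup T22) (hq : tq ∈ K) (hr : tr ∈ K) :
    (K.index = 1) ∨ (K.index = 672 ∧ tn ^ 2 ∈ K) ∨ K.index = 8064 := by
  haveI : Fact (Nat.Prime 11) := ⟨by norm_num⟩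
  haveI hp5 : Fact (Nat.Prime 5) := ⟨by norm_num⟩
  have h1 := AutSyl.index_modEq (K := K) card_ztq (by rw [card_T22]; norm_num) (norm_tq_le hq hr)
  have h2 : 11 ∣ Nat.card K := dvd_of_mem card_ztq hq
  have h3 : 5 ∣ Nat.card K := dvd_of_mem card_ztr hr
  have h4 : 11 * 5 ∣ Nat.card K := Nat.Coprime.mul_dvd_of_dvd_of_dvd (by norm_num) h2 h3
  have h5 := Subgroup.card_mul_index K
  rw [card_T22] at h5
  have h6 : K.index ∣ 8064 := by
    obtain ⟨c, hc⟩ := h4
    rw [hc] at h5
    refine ⟨c, ?_⟩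
    have : 55 * (c * K.index) = 55 * 8064 := by rw [← mul_assoc]; exact h5
    rw [mul_comm]
    exact (Nat.eq_of_mul_eq_mul_left (by norm_num) this).symm
  rcases idx_cases' h6 h1 with h | h | h | h | h | h
  · left; exact h
  · exfalso
    rw [h] at h5
    exact no_seven (K := K) (Or.inl (by omega))
  · exfalso
    rw [h] at h5
    have h7 : Nat.card K = 7920 := by omega
    obtain ⟨j, i, hj, h8, h9, h10⟩ := sub_norm hp5 (y := tr) orderOf_tr (by norm_num) (K := K) hr
    rw [card_norm5 orderOf_tr] at h8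
    rw [h7] at h9
    have h11 : j ≤ 20 := Nat.le_of_dvd (by norm_num) h8
    have h12 : j = 20 := by interval_cases j <;> omega
    have h13 : normalizer (zpowers tr : Set T22) ⊓ K = normalizer (zpowers tr : Set T22) := by
      apply Subgroup.eq_of_le_of_card_ge inf_le_left
      rw [card_norm5 orderOf_tr, hj, h12]
    have h14 : tn ∈ K := (h13.ge tn_norm).2
    have h15 : orderOf (tn * tq) ∣ Nat.card K := by
      have h16 := Subgroup.orderOf_dvd_natCard K (K.mul_mem h14 hq)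
      exact h16
    rw [orderOf_tn_tq, h7] at h15
    norm_num at h15
  · exfalso
    rw [h] at h5
    exact no_seven (K := K) (Or.inr (by omega))
  · right; left
    refine ⟨h, ?_⟩
    rw [h] at h5
    have h7 : Nat.card K = 660 := by omega
    obtain ⟨j, i, hj, h8, h9, h10⟩ := sub_norm hp5 (y := tr) orderOf_tr (by norm_num) (K := K) hr
    rw [card_norm5 orderOf_tr] at h8
    rw [h7] at h9
    have h11 : j ≤ 20 := Nat.le_of_dvd (by norm_num) h8
    have h12 : j = 10 := by interval_cases j <;> omega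
    have h13 : (K.subgroupOf (normalizer (zpowers tr : Set T22))).index = 2 := by
      have h14 := Subgroup.card_mul_index (K.subgroupOf (normalizer (zpowers tr : Set T22)))
      have h15 : Nat.card (K.subgroupOf (normalizer (zpowers tr : Set T22))) = 10 := by
        rw [← Subgroup.inf_subgroupOf_left, Nat.card_congr (Subgroup.subgroupOfEquivOfLe (inf_le_left :
          normalizer (zpowers tr : Set T22) ⊓ K ≤ normalizer (zpowers tr : Set T22))).toEquiv, hj, h12]
      rw [h15, card_norm5 orderOf_tr] at h14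
      omega
    have h16 := Subgroup.sq_mem_of_index_two h13 ⟨tn, tn_norm⟩
    exact h16
  · right; right; exact h

end Cfsg.Agent.Lib.LeechSyl
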