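import Cfsg.Agent.Lib.LeechCount7
import Cfsg.Agent.Lib.LeechChain3

/-!
The suborbits of `HS` on 100 and of `McL` on 2025 vectors.
-/

set_option autoImplicit false

namespace Cfsg.Agent.Lib.LeechChain

open Cfsg Cfsg.Agent.Lib.Golay Cfsg.Agent.Lib.LeechMin Cfsg.Agent.Lib.GolayCoset Cfsg.Agent.Lib.LeechXi
  Cfsg.Agent.Lib.LeechTrans Cfsg.Agent.Lib.LeechCo2 Cfsg.Agent.Lib.LeechFrame Cfsg.Agent.Lib.LeechCount
  Cfsg.Agent.Lib.LeechOrder Cfsg.Agent.Lib.LeechMod Cfsg.Agent.Lib.LeechQuot
open scoped Pointwise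

/-- bounding a stabiliser in `M24` -/
theorem step {K : Subgroup M24} (A E : Finset GolayPt) (p : GolayPt) (n m : ℕ) (hA : K ≤ MulAction.stabilizer M24 A)
    (hE : ∀ q ∈ E, ∀ g ∈ K, (g : Equiv.Perm GolayPt) q = q) (hsub : E ⊆ A) (hp : p ∈ A) (hpE : p ∉ E)
    (hn : A.card = n + E.card) (hm : Nat.card ↥(K ⊓ St p) ≤ m) : Nat.card K ≤ n * m := by
  have h := card_le_mul_inf K p ((A \ E : Finset GolayPt) : Set GolayPt) (Finset.finite_toSet _) (by
    intro g hg
    rw [Finset.mem_coe, Finset.mem_sdiff]
    refine ⟨mem_smul_octad (hA hg) hp, fun h => hpE ?_⟩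
    have h1 := hE _ h g hg
    have h2 : (g : Equiv.Perm GolayPt) p = p := (g : Equiv.Perm GolayPt).injective h1
    have h3 : g • p ∈ E := h
    have h4 : g • p = p := h2
    rwa [h4] at h3)
  rw [Set.ncard_coe_finset, Finset.card_sdiff_of_subset hsub, hn, Nat.add_sub_cancel] at h
  exact h.trans (Nat.mul_le_mul_left _ hm)

/-- pointwise stabilisers of six points -/
theorem card_le_Pw {K : Subgroup M24} {E : Finset GolayPt} (hE : ∀ q ∈ E, ∀ g ∈ K, (g : Equiv.Perm GolayPt) q = q) :
    Nat.card K ∣ Nat.card (Pw E) := by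
  let f : K →* Pw E :=
    { toFun := fun g => ⟨((g : M24) : Equiv.Perm GolayPt), (g : M24).2, fun p hp => hE p hp g g.2⟩
      map_one' := rfl
      map_mul' := fun _ _ => rfl }
  apply Subgroup.card_dvd_of_injective f
  intro g h hgh
  have := congrArg Subtype.val hgh
  exact Subtype.ext (Subtype.ext this)

theorem card_le_three {K : Subgroup M24} {E : Finset GolayPt} (hE : ∀ q ∈ E, ∀ g ∈ K, (g : Equiv.Perm GolayPt) q = q)
    (h6 : E.card = 6) (A : Finset GolayPt) (hA : A ∈ octads) (h5 : 5 ≤ (E ∩ A).card) (p : GolayPt) (hp : p ∈ E) (hpA : p ∉ A) :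
    Nat.card (Pw E) = 3 ∧ Nat.card K ≤ 3 := by
  have h1 : Nat.card (Pw E) = 3 := by
    apply card_Pw_of_not h6
    rintro ⟨o, ho, hsub⟩
    have h2 : o = A := by
      apply octad_eq_of_five ho hA
      exact h5.trans (Finset.card_le_card (Finset.inter_subset_inter_right hsub))
    rw [h2] at hsub
    exact hpA (hsub hp)
  refine ⟨h1, ?_⟩
  have h2 := card_le_Pw hE
  rw [h1] at h2
  exact Nat.le_of_dvd (by norm_num) h2

theorem oct_of {a : ℕ} (h : (cond (isCode a) (Nat.beq (pc a) 8) false) = true) : mset a ∈ octads := by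
  have h1 := cond_false_eq.mp h
  exact ⟨(mset_mem_supports_iff (lt_of_isCode h1.1)).mpr h1.1, by rw [card_mset]; exact Nat.eq_of_beq_eq_true h1.2⟩

abbrev m0 : ℕ := 13062145
abbrev m1 : ℕ := 10558
abbrev m2 : ℕ := 8536111
abbrev m3 : ℕ := 5279

theorem oct1 : mset m1 ∈ octads := oct_of (by decide +kernel)
theorem oct2 : mset m2 ∈ octads := oct_of (by decide +kernel)
theorem oct3 : mset m3 ∈ octads := oct_of (by decide +kernel)

theorem card_m0 : (mset m0).card = 8 := oct_octad.2

theorem card77 : Nat.card ↥(St none ⊓ St b0 ⊓ MulAction.stabilizer M24 (mset m0)) ≤ 5760 := by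
  have h := card_le_mul_inf (St none ⊓ St b0 ⊓ MulAction.stabilizer M24 (mset m0)) c0 (((mset m0)ᶜ : Finset GolayPt) : Set GolayPt)
    (Finset.finite_toSet _) (by
      intro g hg
      rw [Finset.mem_coe, Finset.mem_compl]
      intro h
      have h1 : (g : Equiv.Perm GolayPt) • mset m0 = mset m0 := hg.2
      rw [← h1] at h
      have h2 : c0 ∈ mset m0 := (smul_mem_smul _ _ _).1 h
      exact absurd h2 (by decide +kernel))
  rw [Set.ncard_coe_finset, Finset.card_compl, card_m0, card_pt] at h
  have h2 : Nat.card ↥(St none ⊓ St b0 ⊓ MulAction.stabilizer M24 (mset m0) ⊓ St c0) ≤ 360 := by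
    refine le_trans (Subgroup.card_le_of_le ?_) card_MO
    intro g hg
    exact ⟨⟨hg.1.1, hg.2⟩, hg.1.2⟩
  have h' := h.trans (Nat.mul_le_mul_left _ h2)
  omega

theorem card462 : Nat.card ↥(St none ⊓ St b0 ⊓ St (some 12) ⊓ MulAction.stabilizer M24 (mset m0)) ≤ 960 := by
  set K := St none ⊓ St b0 ⊓ St (some 12) ⊓ MulAction.stabilizer M24 (mset m0) with hK
  have f1 : ∀ g ∈ K, (g : Equiv.Perm GolayPt) none = none := fun g hg => hg.1.1.1
  have f2 : ∀ g ∈ K, (g : Equiv.Perm GolayPt) b0 = b0 := fun g hg => hg.1.1.2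
  have f3 : ∀ g ∈ K, (g : Equiv.Perm GolayPt) (some 12) = some 12 := fun g hg => hg.1.2
  have fA : K ≤ MulAction.stabilizer M24 (mset m0) := fun g hg => hg.2
  have s3 : Nat.card ↥(K ⊓ St (some 14) ⊓ St (some 16) ⊓ St c0) ≤ 3 := by
    refine (card_le_three (E := {none, b0, some 12, some 14, some 16, c0}) ?_ (by decide +kernel) (mset m0) oct_octad
      (by decide +kernel) c0 (by decide +kernel) (by decide +kernel)).2
    intro q hq g hg
    simp only [Finset.mem_insert, Finset.mem_singleton] at hq
    rcases hq with rfl | rfl | rfl | rfl | rfl | rfl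
    · exact f1 g hg.1.1.1
    · exact f2 g hg.1.1.1
    · exact f3 g hg.1.1.1
    · exact hg.1.1.2
    · exact hg.1.2
    · exact hg.2
  have s2 : Nat.card ↥(K ⊓ St (some 14) ⊓ St (some 16)) ≤ 16 * 3 := by
    have h := card_le_mul_inf (K ⊓ St (some 14) ⊓ St (some 16)) c0 (((mset m0)ᶜ : Finset GolayPt) : Set GolayPt)
      (Finset.finite_toSet _) (by
        intro g hg
        rw [Finset.mem_coe, Finset.mem_compl]
        intro h
        have h1 : (g : Equiv.Perm GolayPt) • mset m0 = mset m0 := fA hg.1.1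
        rw [← h1] at h
        have h2 : c0 ∈ mset m0 := (smul_mem_smul _ _ _).1 h
        exact absurd h2 (by decide +kernel))
    rw [Set.ncard_coe_finset, Finset.card_compl, card_m0, card_pt] at h
    have h' := h.trans (Nat.mul_le_mul_left _ s3)
    omega
  have s1 : Nat.card ↥(K ⊓ St (some 14)) ≤ 4 * (16 * 3) := by
    refine step (mset m0) {none, b0, some 12, some 14} (some 16) 4 (16 * 3) (inf_le_left.trans fA) ?_ (by decide +kernel)
      (by decide +kernel) (by decide +kernel) (by decide +kernel) s2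
    intro q hq g hg
    simp only [Finset.mem_insert, Finset.mem_singleton] at hq
    rcases hq with rfl | rfl | rfl | rfl
    · exact f1 g hg.1
    · exact f2 g hg.1
    · exact f3 g hg.1
    · exact hg.2
  have s0 : Nat.card K ≤ 5 * (4 * (16 * 3)) := by
    refine step (mset m0) {none, b0, some 12} (some 14) 5 _ fA ?_ (by decide +kernel)
      (by decide +kernel) (by decide +kernel) (by decide +kernel) s1
    intro q hq g hg
    simp only [Finset.mem_insert, Finset.mem_singleton] at hq
    rcases hq with rfl | rfl | rfl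
    · exact f1 g hg
    · exact f2 g hg
    · exact f3 g hg
  omega

theorem card1232 : Nat.card ↥(St none ⊓ St b0 ⊓ St c0 ⊓ MulAction.stabilizer M24 (mset m3)) ≤ 360 := by
  set K := St none ⊓ St b0 ⊓ St c0 ⊓ MulAction.stabilizer M24 (mset m3) with hK
  have f1 : ∀ g ∈ K, (g : Equiv.Perm GolayPt) none = none := fun g hg => hg.1.1.1
  have f2 : ∀ g ∈ K, (g : Equiv.Perm GolayPt) b0 = b0 := fun g hg => hg.1.1.2
  have f3 : ∀ g ∈ K, (g : Equiv.Perm GolayPt) c0 = c0 := fun g hg => hg.1.2
  have fA : K ≤ MulAction.stabilizer M24 (mset m3) := fun g hg => hg.2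
  have s3 : Nat.card ↥(K ⊓ St (some 2) ⊓ St (some 3) ⊓ St (some 4)) ≤ 3 := by
    refine (card_le_three (E := {none, b0, c0, some 2, some 3, some 4}) ?_ (by decide +kernel) (mset m3) oct3
      (by decide +kernel) none (by decide +kernel) (by decide +kernel)).2
    intro q hq g hg
    simp only [Finset.mem_insert, Finset.mem_singleton] at hq
    rcases hq with rfl | rfl | rfl | rfl | rfl | rfl
    · exact f1 g hg.1.1.1
    · exact f2 g hg.1.1.1
    · exact f3 g hg.1.1.1
    · exact hg.1.1.2
    · exact hg.1.2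
    · exact hg.2
  have s2 : Nat.card ↥(K ⊓ St (some 2) ⊓ St (some 3)) ≤ 4 * 3 := by
    refine step (mset m3) {b0, c0, some 2, some 3} (some 4) 4 3 ((inf_le_left.trans inf_le_left).trans fA) ?_ (by decide +kernel)
      (by decide +kernel) (by decide +kernel) (by decide +kernel) s3
    intro q hq g hg
    simp only [Finset.mem_insert, Finset.mem_singleton] at hq
    rcases hq with rfl | rfl | rfl | rfl
    · exact f2 g hg.1.1
    · exact f3 g hg.1.1
    · exact hg.1.2
    · exact hg.2
  have s1 : Nat.card ↥(K ⊓ St (some 2)) ≤ 5 * (4 * 3) := by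
    refine step (mset m3) {b0, c0, some 2} (some 3) 5 _ (inf_le_left.trans fA) ?_ (by decide +kernel)
      (by decide +kernel) (by decide +kernel) (by decide +kernel) s2
    intro q hq g hg
    simp only [Finset.mem_insert, Finset.mem_singleton] at hq
    rcases hq with rfl | rfl | rfl
    · exact f2 g hg.1
    · exact f3 g hg.1
    · exact hg.2
  have s0 : Nat.card K ≤ 6 * (5 * (4 * 3)) := by
    refine step (mset m3) {b0, c0} (some 2) 6 _ fA ?_ (by decide +kernel)
      (by decide +kernel) (by decide +kernel) (by decide +kernel) s1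
    intro q hq g hg
    simp only [Finset.mem_insert, Finset.mem_singleton] at hq
    rcases hq with rfl | rfl
    · exact f2 g hg
    · exact f3 g hg
  omega

theorem card330 : Nat.card ↥(St none ⊓ St b0 ⊓ MulAction.stabilizer M24 (mset m1)) ≤ 1344 := by
  set K := St none ⊓ St b0 ⊓ MulAction.stabilizer M24 (mset m1) with hK
  have f1 : ∀ g ∈ K, (g : Equiv.Perm GolayPt) none = none := fun g hg => hg.1.1
  have f2 : ∀ g ∈ K, (g : Equiv.Perm GolayPt) b0 = b0 := fun g hg => hg.1.2
  have fA : K ≤ MulAction.stabilizer M24 (mset m1) := fun g hg => hg.2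
  -- the fourth point
  have f5 : ∀ g ∈ K ⊓ St (some 1) ⊓ St (some 2) ⊓ St (some 3), (g : Equiv.Perm GolayPt) (some 5) = some 5 := by
    intro g hg
    have hh : ∀ q ∈ ({none, b0, some 1, some 2, some 3} : Finset GolayPt), (g : Equiv.Perm GolayPt) q = q := by
      intro q hq
      simp only [Finset.mem_insert, Finset.mem_singleton] at hq
      rcases hq with rfl | rfl | rfl | rfl | rfl
      · exact f1 g hg.1.1.1
      · exact f2 g hg.1.1.1
      · exact hg.1.1.2
      · exact hg.1.2
      · exact hg.2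
    have h1 : (g : Equiv.Perm GolayPt) • mset m2 = mset m2 := by
      apply octad_eq_of_five ((smul_mem_octads g.2).2 oct2) oct2
      have h2 : ({none, b0, some 1, some 2, some 3} : Finset GolayPt) ⊆ (g : Equiv.Perm GolayPt) • mset m2 ∩ mset m2 := by
        apply Finset.subset_inter
        · intro q hq
          rw [← hh q hq]
          apply (smul_mem_smul _ _ _).2
          exact (by decide +kernel : ({none, b0, some 1, some 2, some 3} : Finset GolayPt) ⊆ mset m2) hq
        · decide +kernel
      exact le_trans (by decide +kernel) (Finset.card_le_card h2)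
    have h2 : (g : Equiv.Perm GolayPt) • mset m1 = mset m1 := fA hg.1.1.1
    have h3 : (g : Equiv.Perm GolayPt) (some 5) ∈ mset m1 ∩ mset m2 := by
      rw [Finset.mem_inter]
      constructor
      · rw [← h2]; exact (smul_mem_smul _ _ _).2 (by decide +kernel)
      · rw [← h1]; exact (smul_mem_smul _ _ _).2 (by decide +kernel)
    have h4 : mset m1 ∩ mset m2 = {some 1, some 2, some 3, some 5} := by decide +kernel
    rw [h4] at h3
    simp only [Finset.mem_insert, Finset.mem_singleton] at h3
    rcases h3 with h3 | h3 | h3 | h3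
    · exact absurd ((g : Equiv.Perm GolayPt).injective (h3.trans (hh (some 1) (by decide +kernel)).symm)) (by decide +kernel)
    · exact absurd ((g : Equiv.Perm GolayPt).injective (h3.trans (hh (some 2) (by decide +kernel)).symm)) (by decide +kernel)
    · exact absurd ((g : Equiv.Perm GolayPt).injective (h3.trans (hh (some 3) (by decide +kernel)).symm)) (by decide +kernel)
    · exact h3
  have s4 : Nat.card ↥(K ⊓ St (some 1) ⊓ St (some 2) ⊓ St (some 3) ⊓ St (some 4)) ≤ 1 := by
    have e1 : ∀ q ∈ ({none, b0, some 1, some 2, some 3, some 4} : Finset GolayPt),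
        ∀ g ∈ K ⊓ St (some 1) ⊓ St (some 2) ⊓ St (some 3) ⊓ St (some 4), (g : Equiv.Perm GolayPt) q = q := by
      intro q hq g hg
      simp only [Finset.mem_insert, Finset.mem_singleton] at hq
      rcases hq with rfl | rfl | rfl | rfl | rfl | rfl
      · exact f1 g hg.1.1.1.1
      · exact f2 g hg.1.1.1.1
      · exact hg.1.1.1.2
      · exact hg.1.1.2
      · exact hg.1.2
      · exact hg.2
    have h1 := card_le_Pw e1
    rw [(card_le_three (E := {none, b0, some 1, some 2, some 3, some 4}) e1 (by decide +kernel) (mset m2) oct2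
      (by decide +kernel) (some 4) (by decide +kernel) (by decide +kernel)).1] at h1
    have e2 : ∀ q ∈ ({none, b0, some 1, some 2, some 3, some 5} : Finset GolayPt),
        ∀ g ∈ K ⊓ St (some 1) ⊓ St (some 2) ⊓ St (some 3) ⊓ St (some 4), (g : Equiv.Perm GolayPt) q = q := by
      intro q hq g hg
      simp only [Finset.mem_insert, Finset.mem_singleton] at hq
      rcases hq with rfl | rfl | rfl | rfl | rfl | rfl
      · exact f1 g hg.1.1.1.1
      · exact f2 g hg.1.1.1.1
      · exact hg.1.1.1.2
      · exact hg.1.1.2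
      · exact hg.1.2
      · exact f5 g hg.1
    have h2 := card_le_Pw e2
    rw [card_Pw_of_in (by decide +kernel) ⟨mset m2, oct2, by decide +kernel⟩] at h2
    exact Nat.le_of_dvd (by norm_num) (Nat.dvd_gcd h1 h2)
  have s3 : Nat.card ↥(K ⊓ St (some 1) ⊓ St (some 2) ⊓ St (some 3)) ≤ 4 * 1 := by
    refine step (mset m1) {some 1, some 2, some 3, some 5} (some 4) 4 1
      (((inf_le_left.trans inf_le_left).trans inf_le_left).trans fA) ?_ (by decide +kernel)
      (by decide +kernel) (by decide +kernel) (by decide +kernel) s4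
    intro q hq g hg
    simp only [Finset.mem_insert, Finset.mem_singleton] at hq
    rcases hq with rfl | rfl | rfl | rfl
    · exact hg.1.1.2
    · exact hg.1.2
    · exact hg.2
    · exact f5 g hg
  have s2 : Nat.card ↥(K ⊓ St (some 1) ⊓ St (some 2)) ≤ 6 * (4 * 1) := by
    refine step (mset m1) {some 1, some 2} (some 3) 6 _ ((inf_le_left.trans inf_le_left).trans fA) ?_ (by decide +kernel)
      (by decide +kernel) (by decide +kernel) (by decide +kernel) s3
    intro q hq g hg
    simp only [Finset.mem_insert, Finset.mem_singleton] at hq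
    rcases hq with rfl | rfl
    · exact hg.1.2
    · exact hg.2
  have s1 : Nat.card ↥(K ⊓ St (some 1)) ≤ 7 * (6 * (4 * 1)) := by
    refine step (mset m1) {some 1} (some 2) 7 _ (inf_le_left.trans fA) ?_ (by decide +kernel)
      (by decide +kernel) (by decide +kernel) (by decide +kernel) s2
    intro q hq g hg
    rw [Finset.mem_singleton] at hq
    subst hq
    exact hg.2
  have s0 : Nat.card K ≤ 8 * (7 * (6 * (4 * 1))) := by
    refine step (mset m1) ∅ (some 1) 8 _ fA ?_ (by decide +kernel)
      (by decide +kernel) (by decide +kernel) (by decide +kernel) s1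
    intro q hq
    exact absurd hq (Finset.notMem_empty q)
  omega

end Cfsg.Agent.Lib.LeechChain
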