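import Cfsg.Agent.Lib.LeechSyl
import Cfsg.Prelude.Def_Sporadic

/-!
Simplicity of `Co1`, `Co2`, `Co3`.
-/

set_option autoImplicit false

namespace Cfsg.Agent.Lib.LeechSyl

open Cfsg Cfsg.Agent.Lib.Golay Cfsg.Agent.Lib.LeechMin Cfsg.Agent.Lib.GolayCoset Cfsg.Agent.Lib.LeechXi
  Cfsg.Agent.Lib.LeechTrans Cfsg.Agent.Lib.LeechCo2 Cfsg.Agent.Lib.LeechFrame Cfsg.Agent.Lib.LeechCount
  Cfsg.Agent.Lib.LeechOrder Cfsg.Agent.Lib.LeechMod Cfsg.Agent.Lib.LeechQuot Cfsg.Agent.Lib.LeechChain
open scoped Pointwise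

theorem fact23 : Fact (Nat.Prime 23) := ⟨by norm_num⟩

/-- the criterion for a group containing `M23` but not `-1` -/
theorem sub_main (H : Subgroup Co0) (hM : M23 ≤ H) (hneg : negOne ∉ H) (m : ℕ) (hm : 23 ∣ m)
    (hr : ∀ r e : ℕ, r.Prime → r ≠ 23 → ¬ r ∣ m → r ^ e ∣ Nat.card H → r ^ e % 23 = 1 → e = 0)
    (K : Subgroup H) [K.Normal] : K = ⊤ ∨ (¬ 23 ∣ Nat.card K ∧ ∀ r, r.Prime → r ∣ Nat.card K → r ∣ m) := by
  haveI := fact23
  have hPH : P23 ≤ H := P23_le.trans hM
  have hcardP : Nat.card (P23.subgroupOf H) = 23 := by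
    rw [Nat.card_congr (Subgroup.subgroupOfEquivOfLe hPH).toEquiv, card_P23]
  have hdv : Nat.card H ∣ 8315553613086720000 := by
    rw [← natCard_Co0]; exact Subgroup.card_subgroup_dvd_card H
  apply SylQ.main (q := 23) (m := m) (P := P23.subgroupOf H) (M := M23.subgroupOf H) (Z := ⊥) hcardP
  · intro h
    exact absurd (h.trans hdv) (by norm_num)
  · intro x hx; exact P23_le hx
  · haveI := M23_simple'
    exact isSimpleGroup_of_mulEquiv (Subgroup.subgroupOfEquivOfLe hM).symm M23_simple'
  · rw [sup_bot_eq]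
    intro x hx
    have hx' : (x : Co0) ∈ Subgroup.normalizer (P23 : Set Co0) := by
      rw [Subgroup.mem_normalizer_iff] at hx ⊢
      intro p
      constructor
      · intro hp
        exact (hx ⟨p, hPH hp⟩).1 hp
      · intro hp
        have h1 : p ∈ H := by
          have h2 := hPH hp
          have h3 : p = (x : Co0)⁻¹ * (x * p * (x : Co0)⁻¹) * x := by group
          rw [h3]
          exact H.mul_mem (H.mul_mem (H.inv_mem x.2) h2) x.2
        exact (hx ⟨p, h1⟩).2 hp
    obtain ⟨σ, hσ, h1 | h1⟩ := normalizer_P23 hx'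
    · exact ⟨σ, hσ, h1.symm⟩
    · exfalso
      apply hneg
      have h2 : peH σ ∈ H := hM ⟨σ, hσ, rfl⟩
      have h3 : negOne = (x : Co0) * (peH σ)⁻¹ := by rw [h1]; group
      rw [h3]
      exact H.mul_mem x.2 (H.inv_mem h2)
  · exact bot_le
  · intro x hx
    obtain ⟨σ, hσ, h1, h2⟩ := peH_of_comm (x := (x : Co0)) (by
      intro p hp
      exact congrArg Subtype.val (hx ⟨p, hPH hp⟩ hp))
    rcases h1 with h1 | h1
    · obtain ⟨c, rfl⟩ := hm
      apply Subtype.ext
      rw [Subgroup.coe_pow, h1, pow_mul, ← map_pow, h2, map_one, one_pow]; rfl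
    · exfalso
      apply hneg
      have h2 : peH σ ∈ H := hM ⟨σ, hσ, rfl⟩
      have h3 : negOne = (x : Co0) * (peH σ)⁻¹ := by rw [h1]; group
      rw [h3]
      exact H.mul_mem x.2 (H.inv_mem h2)
  · exact hr

/-- `M23` fixes a vector `(a, b ^ 23)` -/
theorem M23_le_stab (v : leechLattice) (h : ∀ j, (v : GolayPt → ℤ) (some j) = (v : GolayPt → ℤ) (some 0)) :
    M23 ≤ MulAction.stabilizer Co0 v := by
  rintro _ ⟨σ, hσ, rfl⟩
  rw [MulAction.mem_stabilizer_iff]
  apply Subtype.ext
  rw [peH_smul]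
  have h0 : (σ : Equiv.Perm GolayPt) none = none := hσ
  funext i
  rcases i with _ | j
  · rw [(Equiv.symm_apply_eq _).2 h0.symm]
  · rcases hh : (σ : Equiv.Perm GolayPt).symm (some j) with _ | k
    · exfalso
      rw [Equiv.symm_apply_eq, h0] at hh
      exact Option.some_ne_none _ hh
    · rw [h k, h j]

theorem negOne_not_mem_stab (v : leechLattice) (h : (v : GolayPt → ℤ) none ≠ 0) :
    negOne ∉ MulAction.stabilizer Co0 v := by
  intro h1
  rw [MulAction.mem_stabilizer_iff, negOne_smul] at h1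
  have h2 := congrFun (congrArg Subtype.val h1) none
  rw [coe_neg', Pi.neg_apply] at h2
  omega

/-- moving a vector to a standard one -/
noncomputable def stabEquiv {v w : leechLattice} {k : Co0} (h : k • v = w) :
    MulAction.stabilizer Co0 v ≃* MulAction.stabilizer Co0 w :=
  (MulAction.stabilizerEquivStabilizer h.symm)

theorem fixL_eq (v : leechLattice) : fixL [v] = MulAction.stabilizer Co0 v := fixL_singleton v

theorem natCard_stab48 {v : leechLattice} (hv : sqNorm (v : GolayPt → ℤ) = 48) :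
    Nat.card (MulAction.stabilizer Co0 v) = 495766656000 := by
  rw [← card_Co3 hv, fixL_singleton]

theorem natCard_stab32 {v : leechLattice} (hv : sqNorm (v : GolayPt → ℤ) = 32) :
    Nat.card (MulAction.stabilizer Co0 v) = 42305421312000 := by
  rw [← card_Co2 hv, fixL_singleton]

theorem U_none : (U none : GolayPt → ℤ) none = 5 := by rw [U_apply]; simp [chi]
theorem U_some (j : ZMod 23) : (U none : GolayPt → ℤ) (some j) = 1 := by rw [U_apply]; simp [chi]

theorem Co3_simple : IsSimpleGroup (MulAction.stabilizer Co0 (U none)) := by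
  haveI : Nontrivial (MulAction.stabilizer Co0 (U none)) := by
    rw [← Finite.one_lt_card_iff_nontrivial, natCard_stab48 (sqNorm_U none)]; norm_num
  refine ⟨fun K hK => ?_⟩
  have key : ∀ r e : ℕ, r.Prime → r ≠ 23 → ¬ r ∣ 23 → r ^ e ∣ Nat.card (MulAction.stabilizer Co0 (U none)) →
      r ^ e % 23 = 1 → e = 0 := by
    intro r e hr hr23 hr' h h1
    by_cases h46 : r ∣ 46
    · have h2 : r = 2 := by
        rw [show (46 : ℕ) = 2 * 23 by norm_num] at h46
        rcases (Nat.Prime.dvd_mul hr).1 h46 with h2 | h2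
        · exact (Nat.prime_dvd_prime_iff_eq hr (by norm_num)).1 h2
        · exact absurd h2 hr'
      subst h2
      rw [natCard_stab48 (sqNorm_U none)] at h
      have h3 : e ≤ 10 := by
        by_contra hcon
        have h4 : 2 ^ 11 ∣ 495766656000 := (pow_dvd_pow 2 (by omega)).trans h
        exact absurd h4 (by norm_num)
      interval_cases e <;> simp_all
    · exact hr_Co0 (n := Nat.card (MulAction.stabilizer Co0 (U none)))
        (by rw [← natCard_Co0]; exact Subgroup.card_subgroup_dvd_card _) r e hr hr23 h46 h h1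
  rcases sub_main (MulAction.stabilizer Co0 (U none)) (M23_le_stab _ fun j => by rw [U_some, U_some])
    (negOne_not_mem_stab _ (by rw [U_none]; norm_num)) 23 (dvd_refl _) key K with h | ⟨h1, h2⟩
  · right; exact h
  · left
    apply Subgroup.eq_bot_of_card_eq
    by_contra hne
    obtain ⟨r, hr, hrK⟩ := Nat.exists_prime_and_dvd hne
    have h3 := h2 r hr hrK
    rw [(Nat.prime_dvd_prime_iff_eq hr (by norm_num)).1 h3] at hrK
    exact h1 hrK

theorem isCo3 (v : leechLattice) (hv : sqNorm (v : GolayPt → ℤ) = 48) : IsCo3 (MulAction.stabilizer Co0 v) := by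
  refine ⟨?_, natCard_stab48 hv⟩
  obtain ⟨k, hk⟩ := std3 hv
  exact isSimpleGroup_of_mulEquiv (stabEquiv hk).symm Co3_simple

/-! ### fixed points of `p`-subgroups -/

theorem exists_fixed {G α : Type*} [Group G] [MulAction G α] {p : ℕ} [Fact p.Prime] (K : Subgroup G) (hK : IsPGroup p K)
    (S : Set α) (hS : ∀ g ∈ K, ∀ a ∈ S, g • a ∈ S) (h : ¬ p ∣ S.ncard) : ∃ a ∈ S, ∀ k ∈ K, k • a = a := by
  letI : MulAction K S :=
    { smul := fun k a => ⟨(k : G) • (a : α), hS _ k.2 _ a.2⟩
      one_smul := fun a => Subtype.ext (one_smul G (a : α))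
      mul_smul := fun k l a => Subtype.ext (mul_smul (k : G) (l : G) (a : α)) }
  have h' : ¬ p ∣ Nat.card S := h
  have hfin : Finite S := Nat.finite_of_card_ne_zero (by rintro h0; rw [h0] at h'; exact h' (dvd_zero _))
  obtain ⟨a, ha⟩ := hK.nonempty_fixed_point_of_prime_not_dvd_card S h'
  exact ⟨a, a.2, fun k hk => congrArg Subtype.val (ha ⟨k, hk⟩)⟩

/-- action on `Λ / 2 Λ` -/
noncomputable def qs (g : Co0) (x : Q2) : Q2 := q2 (g • Quotient.out x)

theorem q2_out (x : Q2) : q2 (Quotient.out x) = x := QuotientAddGroup.out_eq' x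

theorem qs_q2 (g : Co0) (v : leechLattice) : qs g (q2 v) = q2 (g • v) := by
  unfold qs
  rw [q2_eq_iff]
  exact (q2_eq_iff.1 (q2_out (q2 v))).smul g

noncomputable def actQ : MulAction Co0 Q2 where
  smul := qs
  one_smul x := by
    show qs 1 x = x
    unfold qs
    rw [one_smul, q2_out]
  mul_smul g h x := by
    show qs (g * h) x = qs g (qs h x)
    rw [← q2_out x, qs_q2, qs_q2, qs_q2, mul_smul]

/-- normal 2-subgroups of `Co0` are central -/
theorem O2_Co0 (K : Subgroup Co0) [hN : K.Normal] (hK : IsPGroup 2 K) : K ≤ Subgroup.center Co0 := by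
  letI := actQ
  haveI : Fact (Nat.Prime 2) := ⟨Nat.prime_two⟩
  obtain ⟨a, ⟨v, hv, rfl⟩, ha⟩ := exists_fixed K hK (q2 '' Sn 64)
    (by
      rintro g - _ ⟨v, hv, rfl⟩
      refine ⟨g • v, ?_, (qs_q2 g v).symm⟩
      show sqNorm _ = 64
      rw [sqNorm_smul]; exact hv)
    (by rw [ncard_images.2.2]; norm_num)
  -- the vectors fixed mod 2
  let M : AddSubgroup leechLattice :=
    { carrier := {v | ∀ k ∈ K, dbl (k • v) v}
      zero_mem' := by
        intro k _
        have h0 : k • (0 : leechLattice) = 0 := by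
          have := smul_add' k (0 : leechLattice) 0
          rw [add_zero] at this
          exact (left_eq_add.1 this)
        rw [h0]
        exact ⟨0, by simp⟩
      add_mem' := by
        intro a b ha hb k hk
        obtain ⟨x, hx⟩ := ha k hk
        obtain ⟨y, hy⟩ := hb k hk
        refine ⟨x + y, ?_⟩
        rw [smul_add']
        have : k • a + k • b - (a + b) = (k • a - a) + (k • b - b) := by abel
        rw [this, hx, hy]; abel
      neg_mem' := by
        intro a ha k hk
        obtain ⟨x, hx⟩ := ha k hk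
        refine ⟨-x, ?_⟩
        rw [smul_neg']
        have : -(k • a) - -a = -(k • a - a) := by abel
        rw [this, hx]; abel }
  have hM : ∀ v, v ∈ M ↔ ∀ k ∈ K, dbl (k • v) v := fun v => Iff.rfl
  have h1 : D2 ≤ M := by
    intro x hx
    obtain ⟨z, rfl⟩ := mem_D2.1 hx
    rw [hM]
    intro k _
    refine ⟨k • z - z, ?_⟩
    rw [smul_add']; abel
  have h2 : ∀ g : Co0, ∀ v ∈ M, g • v ∈ M := by
    intro g v hv
    rw [hM] at hv ⊢
    intro k hk
    have h3 := (hv (g⁻¹ * k * g) (by
      have := hN.conj_mem k hk g⁻¹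
      rwa [inv_inv] at this)).smul g
    rw [← mul_smul] at h3
    rwa [show g * (g⁻¹ * k * g) = k * g by group, mul_smul] at h3
  have h3 : v ∈ M := by
    rw [hM]
    intro k hk
    have h4 : qs k (q2 v) = q2 v := ha k hk
    rw [qs_q2, q2_eq_iff] at h4
    exact h4
  rcases irred M h1 h2 with h4 | h4
  · exfalso
    rw [h4] at h3
    obtain ⟨z, hz⟩ := mem_D2.1 h3
    have h5 : sqNorm (v : GolayPt → ℤ) = 64 := hv
    have h6 : sqNorm (v : GolayPt → ℤ) = 4 * sqNorm (z : GolayPt → ℤ) := by
      rw [hz]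
      unfold sqNorm
      rw [Finset.mul_sum]
      refine Finset.sum_congr rfl fun i _ => ?_
      rw [AddSubgroup.coe_add, Pi.add_apply]; ring
    have h7 : z ≠ 0 := by
      rintro rfl
      rw [h5] at h6
      have : sqNorm ((0 : leechLattice) : GolayPt → ℤ) = 0 := by unfold sqNorm; simp
      rw [this] at h6; norm_num at h6
    have h8 := min_norm z.2 (fun h => h7 (Subtype.ext h))
    omega
  · intro k hk
    have h5 : ∀ v : leechLattice, dbl (k • v) v := by
      intro v
      have : v ∈ M := by rw [h4]; trivial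
      exact this k hk
    rcases trivial_mod_two h5 with h6 | h6
    · rw [h6]; exact Subgroup.one_mem _
    · rw [h6]; exact negOne_mem_center

/-- normal subgroups of `Co0` -/
theorem normal_Co0 (K : Subgroup Co0) [K.Normal] (hZ : Subgroup.center Co0 ≤ K) : K = ⊤ ∨ K = Subgroup.center Co0 := by
  haveI := fact23
  have hn : Subgroup.normalizer (P23 : Set Co0) ≤ M23 ⊔ Subgroup.center Co0 := by
    intro x hx
    obtain ⟨σ, hσ, h1 | h1⟩ := normalizer_P23 hx
    · exact Subgroup.mem_sup_left ⟨σ, hσ, h1.symm⟩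
    · rw [h1]
      exact Subgroup.mul_mem _ (Subgroup.mem_sup_right negOne_mem_center) (Subgroup.mem_sup_left ⟨σ, hσ, rfl⟩)
  rcases SylQ.main (q := 23) (m := 46) (P := P23) (M := M23) (Z := Subgroup.center Co0) (K := K) card_P23
    (by rw [natCard_Co0]; norm_num) P23_le M23_simple' hn hZ hC46
    (fun r e hr hr23 hr46 h h1 => hr_Co0 (n := Nat.card Co0) (by rw [natCard_Co0]) r e hr hr23 hr46 h h1)
    with h | ⟨h1, h2⟩
  · left; exact h
  · right
    obtain ⟨k, hk⟩ := two_pow_of Nat.card_pos.ne' h1 h2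
    apply le_antisymm _ hZ
    exact O2_Co0 K (IsPGroup.of_card hk)

theorem isCo1 : IsCo1 (Co0 ⧸ Subgroup.center Co0) := by
  have hcard : Nat.card (Co0 ⧸ Subgroup.center Co0) = 4157776806543360000 := by
    have h := Subgroup.card_eq_card_quotient_mul_card_subgroup (Subgroup.center Co0)
    rw [natCard_Co0, natCard_center] at h
    omega
  refine ⟨?_, hcard⟩
  haveI : Nontrivial (Co0 ⧸ Subgroup.center Co0) := by
    rw [← Finite.one_lt_card_iff_nontrivial, hcard]; norm_num
  refine ⟨fun K hK => ?_⟩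
  have hle : Subgroup.center Co0 ≤ K.comap (QuotientGroup.mk' (Subgroup.center Co0)) := by
    intro z hz
    rw [Subgroup.mem_comap]
    have : QuotientGroup.mk' (Subgroup.center Co0) z = 1 := (QuotientGroup.eq_one_iff z).2 hz
    rw [this]; exact K.one_mem
  rcases normal_Co0 (K.comap (QuotientGroup.mk' (Subgroup.center Co0))) hle with h | h
  · right
    rw [eq_top_iff]
    intro x _
    obtain ⟨y, rfl⟩ := QuotientGroup.mk'_surjective _ x
    have : y ∈ K.comap (QuotientGroup.mk' (Subgroup.center Co0)) := by rw [h]; trivial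
    exact this
  · left
    rw [eq_bot_iff]
    intro x hx
    obtain ⟨y, rfl⟩ := QuotientGroup.mk'_surjective _ x
    have : y ∈ K.comap (QuotientGroup.mk' (Subgroup.center Co0)) := hx
    rw [h] at this
    rw [Subgroup.mem_bot]
    exact (QuotientGroup.eq_one_iff y).2 this

end Cfsg.Agent.Lib.LeechSyl
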