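import Cfsg.Agent.Lib.LeechSyl2

/-!
The stabiliser of a minimal vector has no normal 2-subgroup; simplicity of `Co2`.
-/

set_option autoImplicit false

namespace Cfsg.Agent.Lib.LeechSyl

open Cfsg Cfsg.Agent.Lib.Golay Cfsg.Agent.Lib.LeechMin Cfsg.Agent.Lib.GolayCoset Cfsg.Agent.Lib.LeechXi
  Cfsg.Agent.Lib.LeechTrans Cfsg.Agent.Lib.LeechCo2 Cfsg.Agent.Lib.LeechFrame Cfsg.Agent.Lib.LeechCount
  Cfsg.Agent.Lib.LeechOrder Cfsg.Agent.Lib.LeechMod Cfsg.Agent.Lib.LeechQuot Cfsg.Agent.Lib.LeechChain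
open scoped Pointwise

/-- a test vector -/
theorem exists_test : ∃ w : leechLattice, sqNorm (w : GolayPt → ℤ) = 32 ∧ (w : GolayPt → ℤ) none = 1 ∧
    (w : GolayPt → ℤ) b0 = -1 ∧ ((w : GolayPt → ℤ) c0 = 3 ∨ (w : GolayPt → ℤ) c0 = -3) ∧
    ∀ c, c ≠ c0 → (w : GolayPt → ℤ) c = 1 ∨ (w : GolayPt → ℤ) c = -1 := by
  obtain ⟨o, ho, h1, h2⟩ := exists_octad_sep hab
  let g : Co0 := ⟨mono 1 M24.one_mem o ho.1, mono_mem _ _ _ _⟩
  let x : leechLattice := ⟨cv {c0} ∅, cv_single_mem c0⟩
  have hx : ∀ i, (x : GolayPt → ℤ) i = if i = c0 then -3 else 1 := by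
    intro i
    show cv {c0} ∅ i = _
    unfold cv
    simp only [chi, Finset.mem_singleton, Finset.notMem_empty, if_false]
    by_cases h : i = c0 <;> simp [h]
  have hg : ∀ i, ((g • x : leechLattice) : GolayPt → ℤ) i = if i ∈ o then -(x : GolayPt → ℤ) i else (x : GolayPt → ℤ) i :=
    fun i => rfl
  refine ⟨g • x, ?_, ?_, ?_, ?_, ?_⟩
  · rw [sqNorm_smul]
    show sqNorm (cv {c0} ∅) = 32
    decide +kernel
  · rw [hg, if_neg h1, hx, if_neg hac]
  · rw [hg, if_pos h2, hx, if_neg (by decide : b0 ≠ c0)]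
  · rw [hg, hx, if_pos rfl]
    by_cases h : c0 ∈ o
    · left; rw [if_pos h]; norm_num
    · right; rw [if_neg h]
  · intro c hc
    rw [hg, hx, if_neg hc]
    by_cases h : c ∈ o
    · right; rw [if_pos h]
    · left; rw [if_neg h]

theorem dot_S' {i j : GolayPt} (h : i ≠ j) (y : GolayPt → ℤ) : dotInt (S h : GolayPt → ℤ) y = 4 * y i - 4 * y j := by
  rw [coe_S, sub_eq_add_neg, dot_add_left, dot_neg_left, dot_single, dot_single]; ring

theorem ef_add {i j : GolayPt} (h : i ≠ j) : ef i = X h + S h := by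
  apply Subtype.ext
  rw [AddSubgroup.coe_add, coe_ef, coe_X, coe_S]
  funext k
  simp only [Pi.add_apply, Pi.sub_apply]
  have : (Pi.single i 8 : GolayPt → ℤ) k = 2 * (Pi.single i 4 : GolayPt → ℤ) k := by
    by_cases hk : k = i
    · subst hk; rw [Pi.single_eq_same, Pi.single_eq_same]; norm_num
    · rw [Pi.single_eq_of_ne hk, Pi.single_eq_of_ne hk]; norm_num
  rw [this]; ring

theorem ef_sub {i j : GolayPt} (h : i ≠ j) : ef j = X h + -S h := by
  apply Subtype.ext
  rw [AddSubgroup.coe_add, coe_neg', coe_ef, coe_X, coe_S]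
  funext k
  simp only [Pi.add_apply, Pi.sub_apply, Pi.neg_apply]
  have : (Pi.single j 8 : GolayPt → ℤ) k = 2 * (Pi.single j 4 : GolayPt → ℤ) k := by
    by_cases hk : k = j
    · subst hk; rw [Pi.single_eq_same, Pi.single_eq_same]; norm_num
    · rw [Pi.single_eq_of_ne hk, Pi.single_eq_of_ne hk]; norm_num
  rw [this]; ring

theorem sqNorm_S' {i j : GolayPt} (h : i ≠ j) : sqNorm (S h : GolayPt → ℤ) = 32 := by
  have h1 : sqNorm (S h : GolayPt → ℤ) = dotInt (S h : GolayPt → ℤ) (S h : GolayPt → ℤ) := by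
    unfold sqNorm dotInt
    exact Finset.sum_congr rfl fun i _ => by ring
  rw [h1, dot_S', coe_S, Pi.sub_apply, Pi.sub_apply, Pi.single_eq_same, Pi.single_eq_same, Pi.single_eq_of_ne h,
    Pi.single_eq_of_ne h.symm]
  norm_num

theorem dot_zero_of {g : Co0} {x y : leechLattice} (hx : g • x = x) (hy : g • y = -y) :
    dotInt (x : GolayPt → ℤ) (y : GolayPt → ℤ) = 0 := by
  have h := dot_smul g x y
  rw [hx, hy, coe_neg', dot_neg_right] at h
  omega

/-- elements acting as `±1` on everything orthogonal to `X` -/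
theorem triv_of_pm {k : Co0} (h1 : k • X hab = X hab)
    (h2 : ∀ w : leechLattice, w ∈ cls [(X hab, 0)] 32 → k • w = w ∨ k • w = -w) : k = 1 := by
  obtain ⟨w, hw, hwa, hwb, hwc, hwd⟩ := exists_test
  have hwm : w ∈ cls [(X hab, 0)] 32 := by
    rw [mem_cls1]
    refine ⟨hw, ?_⟩
    rw [dot_X, hwa, hwb]; norm_num
  have hXm : ∀ {i j : GolayPt} (h : i ≠ j), i ≠ none → i ≠ b0 → j ≠ none → j ≠ b0 → X h ∈ cls [(X hab, 0)] 32 := by
    intro i j h hi1 hi2 hj1 hj2
    rw [mem_cls1]
    refine ⟨sqNorm_X h, ?_⟩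
    rw [dot_X, coe_X, Pi.add_apply, Pi.add_apply, Pi.single_eq_of_ne hi1.symm, Pi.single_eq_of_ne hi2.symm,
      Pi.single_eq_of_ne hj1.symm, Pi.single_eq_of_ne hj2.symm]
    norm_num
  have hSm : ∀ {i j : GolayPt} (h : i ≠ j), i ≠ none → i ≠ b0 → j ≠ none → j ≠ b0 → S h ∈ cls [(X hab, 0)] 32 := by
    intro i j h hi1 hi2 hj1 hj2
    rw [mem_cls1]
    refine ⟨sqNorm_S' h, ?_⟩
    rw [dot_X, coe_S, Pi.sub_apply, Pi.sub_apply, Pi.single_eq_of_ne hi1.symm, Pi.single_eq_of_ne hi2.symm,
      Pi.single_eq_of_ne hj1.symm, Pi.single_eq_of_ne hj2.symm]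
    norm_num
  have hSab : S hab ∈ cls [(X hab, 0)] 32 := by
    rw [mem_cls1]
    refine ⟨sqNorm_S' hab, ?_⟩
    rw [dot_X, coe_S]
    decide +kernel
  have hX0 : ∀ {c : GolayPt} (h : c0 ≠ c), dotInt (X h : GolayPt → ℤ) (w : GolayPt → ℤ) ≠ 0 := by
    intro c h
    rw [dot_X]
    rcases hwd c h.symm with h3 | h3 <;> rcases hwc with h4 | h4 <;> rw [h3, h4] <;> norm_num
  have hS0 : ∀ {c : GolayPt} (h : c0 ≠ c), dotInt (S h : GolayPt → ℤ) (w : GolayPt → ℤ) ≠ 0 := by
    intro c h
    rw [dot_S']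
    rcases hwd c h.symm with h3 | h3 <;> rcases hwc with h4 | h4 <;> rw [h3, h4] <;> norm_num
  have hSab0 : dotInt (S hab : GolayPt → ℤ) (w : GolayPt → ℤ) ≠ 0 := by
    rw [dot_S', hwa, hwb]; norm_num
  rcases h2 w hwm with hP | hQ
  · -- identity
    have key : ∀ x : leechLattice, x ∈ cls [(X hab, 0)] 32 → dotInt (x : GolayPt → ℤ) (w : GolayPt → ℤ) ≠ 0 → k • x = x := by
      intro x hx h0
      rcases h2 x hx with h | h
      · exact h
      · exact absurd (by rw [dot_comm]; exact dot_zero_of hP h) h0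
    have hef : ∀ c, k • ef c = ef c := by
      intro c
      by_cases hc0 : c = none
      · rw [hc0, ef_add hab, smul_add', h1, key _ hSab hSab0]
      by_cases hc1 : c = b0
      · rw [hc1, ef_sub hab, smul_add', smul_neg', h1, key _ hSab hSab0]
      by_cases hc2 : c0 = c
      · have hd : c0 ≠ d0 := by decide
        rw [← hc2, ef_add hd, smul_add', key _ (hXm hd (by decide) (by decide) (by decide) (by decide)) (hX0 hd),
          key _ (hSm hd (by decide) (by decide) (by decide) (by decide)) (hS0 hd)]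
      · rw [ef_sub hc2, smul_add', smul_neg', key _ (hXm hc2 (by decide) (by decide) hc0 hc1) (hX0 hc2),
          key _ (hSm hc2 (by decide) (by decide) hc0 hc1) (hS0 hc2)]
    apply ext_smul
    intro v
    rw [one_smul]
    apply Subtype.ext
    funext c
    have h3 := dot_smul k (ef c) v
    rw [hef, coe_ef, dot_single, dot_single] at h3
    omega
  · exfalso
    have key : ∀ x : leechLattice, x ∈ cls [(X hab, 0)] 32 → dotInt (x : GolayPt → ℤ) (w : GolayPt → ℤ) ≠ 0 → k • x = -x := by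
      intro x hx h0
      rcases h2 x hx with h | h
      · exact absurd (dot_zero_of h hQ) h0
      · exact h
    have hef : ∀ c, c ≠ none → c ≠ b0 → k • ef c = -ef c := by
      intro c hc0 hc1
      by_cases hc2 : c0 = c
      · have hd : c0 ≠ d0 := by decide
        rw [← hc2, ef_add hd, smul_add', key _ (hXm hd (by decide) (by decide) (by decide) (by decide)) (hX0 hd),
          key _ (hSm hd (by decide) (by decide) (by decide) (by decide)) (hS0 hd)]
        abel
      · rw [ef_sub hc2, smul_add', smul_neg', key _ (hXm hc2 (by decide) (by decide) hc0 hc1) (hX0 hc2),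
          key _ (hSm hc2 (by decide) (by decide) hc0 hc1) (hS0 hc2)]
        abel
    let x : leechLattice := ⟨cv {none} ∅, cv_single_mem none⟩
    have hx : ∀ i, (x : GolayPt → ℤ) i = if i = none then -3 else 1 := by
      intro i
      show cv {none} ∅ i = _
      unfold cv
      simp only [chi, Finset.mem_singleton, Finset.notMem_empty, if_false]
      by_cases h : i = none <;> simp [h]
    have e1 := dot_smul k (X hab) x
    have e2 := dot_smul k (S hab) x
    rw [h1, dot_X, dot_X, hx, hx, if_pos rfl, if_neg hab.symm] at e1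
    rw [key _ hSab hSab0, coe_neg', dot_neg_left, dot_S', dot_S', hx, hx, if_pos rfl, if_neg hab.symm] at e2
    have e3 : ∀ c, c ≠ none → c ≠ b0 → ((k • x : leechLattice) : GolayPt → ℤ) c = -1 := by
      intro c hc0 hc1
      have h3 := dot_smul k (ef c) x
      rw [hef c hc0 hc1, coe_neg', dot_neg_left, coe_ef, dot_single, dot_single, hx, if_neg hc0] at h3
      omega
    have e4 : sqNorm ((x + k • x : leechLattice) : GolayPt → ℤ) = 8 := by
      have h3 : ((x + k • x : leechLattice) : GolayPt → ℤ) = fun i => if i = none ∨ i = b0 then -2 else 0 := by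
        funext i
        rw [AddSubgroup.coe_add, Pi.add_apply]
        by_cases hi : i = none
        · rw [if_pos (Or.inl hi), hi, hx, if_pos rfl]; omega
        · by_cases hi' : i = b0
          · rw [if_pos (Or.inr hi'), hi', hx, if_neg hab.symm]; omega
          · rw [if_neg (by tauto), hx, if_neg hi, e3 i hi hi']; norm_num
      rw [h3]
      decide +kernel
    have e5 := min_norm (x + k • x).2 (by
      intro h0
      rw [h0] at e4
      have : sqNorm (0 : GolayPt → ℤ) = 0 := by unfold sqNorm; simp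
      omega)
    omega

theorem ncard_two_mul {α β : Type*} (s : Set α) (hs : s.Finite) (f : α → β)
    (h : ∀ a ∈ s, {b | b ∈ s ∧ f b = f a}.ncard = 2) : s.ncard = 2 * (f '' s).ncard := by
  classical
  obtain ⟨S, rfl⟩ := hs.exists_finset_coe
  rw [Set.ncard_coe_finset, ← Finset.coe_image, Set.ncard_coe_finset,
    Finset.card_eq_sum_card_image f S, Finset.sum_congr rfl (g := fun _ => 2), Finset.sum_const, smul_eq_mul, mul_comm]
  intro b hb
  rw [Finset.mem_image] at hb
  obtain ⟨a, ha, rfl⟩ := hb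
  rw [← h a ha, ← Set.ncard_coe_finset]
  apply congrArg
  ext x
  simp

theorem ncard_q2_cls {v : leechLattice} (hv : sqNorm (v : GolayPt → ℤ) = 32) : (q2 '' cls [(v, 0)] 32).ncard = 46575 := by
  have h1 := ncard_two_mul (cls [(v, 0)] 32) (finite_cls (by norm_num)) q2 (by
    intro a ha
    have ha' := mem_cls1.1 ha
    have h2 : {b | b ∈ cls [(v, 0)] 32 ∧ q2 b = q2 a} = {a, -a} := by
      ext b
      rw [Set.mem_setOf_eq, Set.mem_insert_iff, Set.mem_singleton_iff]
      constructor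
      · rintro ⟨hb, h⟩
        have hb' := mem_cls1.1 hb
        rcases q2_short (by rw [hb'.1]; norm_num) (by rw [ha'.1]; norm_num) h with h2 | h2 | ⟨h2, -, -⟩
        · left; exact h2
        · right; exact h2
        · omega
      · rintro (rfl | rfl)
        · exact ⟨ha, rfl⟩
        · refine ⟨?_, ?_⟩
          · rw [mem_cls1, coe_neg', sqNorm_neg, dot_neg_right]
            exact ⟨ha'.1, by rw [ha'.2]; norm_num⟩
          · rw [q2_eq_iff]
            exact ⟨-a, by abel⟩
    rw [h2, Set.ncard_pair]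
    intro h3
    have h4 : a + a = 0 := by nth_rw 2 [h3]; exact add_neg_cancel a
    have h5 : (a : GolayPt → ℤ) = 0 := by
      funext i
      have := congrFun (congrArg Subtype.val h4) i
      rw [AddSubgroup.coe_add, Pi.add_apply] at this
      have h0 : ((0 : leechLattice) : GolayPt → ℤ) i = 0 := rfl
      rw [h0] at this
      rw [Pi.zero_apply]; omega
    rw [h5] at ha'
    have : sqNorm (0 : GolayPt → ℤ) = 0 := by unfold sqNorm; simp
    omega)
  rw [(count2 hv).2.2] at h1
  omega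

/-- a 2-subgroup normalised by the stabiliser of a minimal vector, inside it, is trivial -/
theorem O2_stab {v : leechLattice} (hv : sqNorm (v : GolayPt → ℤ) = 32) (K : Subgroup Co0)
    (hK : K ≤ MulAction.stabilizer Co0 v) (hN : ∀ g ∈ MulAction.stabilizer Co0 v, ∀ k ∈ K, g * k * g⁻¹ ∈ K)
    (h2 : IsPGroup 2 K) : K = ⊥ := by
  letI := actQ
  haveI : Fact (Nat.Prime 2) := ⟨Nat.prime_two⟩
  have hKv : ∀ k ∈ K, k • v = v := fun k hk => hK hk
  obtain ⟨a, ⟨w, hw, rfl⟩, ha⟩ := exists_fixed K h2 (q2 '' cls [(v, 0)] 32)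
    (by
      rintro g hg _ ⟨w, hw, rfl⟩
      refine ⟨g • w, ?_, (qs_q2 g w).symm⟩
      exact smul_mem_cls (by rw [show ([(v, (0 : ℤ))] : List (leechLattice × ℤ)).map Prod.fst = [v] from rfl, mem_fix1]; exact hKv g hg) hw)
    (by rw [ncard_q2_cls hv]; norm_num)
  have hw' := mem_cls1.1 hw
  have h3 : ∀ k ∈ K, k • w = w ∨ k • w = -w := by
    intro k hk
    have h4 : qs k (q2 w) = q2 w := ha k hk
    rw [qs_q2] at h4
    rcases q2_short (by rw [sqNorm_smul, hw'.1]; norm_num) (by rw [hw'.1]; norm_num) h4 with h5 | h5 | ⟨-, h5, -⟩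
    · left; exact h5
    · right; exact h5
    · omega
  have h4 : ∀ k ∈ K, ∀ y ∈ cls [(v, 0)] 32, k • y = y ∨ k • y = -y := by
    intro k hk y hy
    have hy' := mem_cls1.1 hy
    obtain ⟨g, hg1, hg2⟩ := stab_trans0 hv hw'.1 hy'.1 hw'.2 hy'.2
    have hg3 : g⁻¹ * k * g ∈ K := by
      have := hN g⁻¹ (Subgroup.inv_mem _ (show g ∈ MulAction.stabilizer Co0 v from hg1)) k hk
      rwa [inv_inv] at this
    have h5 : k * g = g * (g⁻¹ * k * g) := by group
    have h6 : k • g • w = g • w ∨ k • g • w = -(g • w) := by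
      rw [← mul_smul, h5, mul_smul]
      rcases h3 _ hg3 with h7 | h7
      · left; rw [h7]
      · right; rw [h7, smul_neg']
    rcases hg2 with h7 | h7
    · rwa [h7] at h6
    · rw [h7] at h6
      rcases h6 with h6 | h6
      · left
        rw [smul_neg'] at h6
        exact neg_injective h6
      · right
        rw [smul_neg'] at h6
        exact neg_injective h6
  obtain ⟨k0, hk0⟩ := std2 hv
  rw [eq_bot_iff]
  intro k hk
  have h5 : k0 * k * k0⁻¹ = 1 := by
    have hk1 : k0⁻¹ • X hab = v := by rw [inv_smul_eq_iff]; exact hk0.symm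
    apply triv_of_pm
    · rw [mul_smul, mul_smul, hk1, hKv k hk, hk0]
    · intro y hy
      have hy' := mem_cls1.1 hy
      have h6 : k0⁻¹ • y ∈ cls [(v, 0)] 32 := by
        rw [mem_cls1, sqNorm_smul]
        refine ⟨hy'.1, ?_⟩
        rw [← hk1, dot_smul]; exact hy'.2
      rcases h4 k hk _ h6 with h7 | h7
      · left
        rw [mul_smul, mul_smul, h7, smul_inv_smul]
      · right
        rw [mul_smul, mul_smul, h7, smul_neg', smul_inv_smul]
  have h6 : k = 1 := by
    have : k = k0⁻¹ * (k0 * k * k0⁻¹) * k0 := by group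
    rw [this, h5]; group
  rw [h6]; exact Subgroup.one_mem _

/-- `O_2` of the stabiliser -/
theorem O2_stab' {v : leechLattice} (hv : sqNorm (v : GolayPt → ℤ) = 32) (K : Subgroup (MulAction.stabilizer Co0 v))
    [hN : K.Normal] (h2 : IsPGroup 2 K) : K = ⊥ := by
  have h1 : K.map (MulAction.stabilizer Co0 v).subtype = ⊥ := by
    apply O2_stab hv
    · rintro _ ⟨x, -, rfl⟩; exact x.2
    · rintro g hg _ ⟨x, hx, rfl⟩
      exact ⟨⟨g, hg⟩ * x * ⟨g, hg⟩⁻¹, hN.conj_mem x hx _, rfl⟩
    · exact h2.map _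
  rwa [Subgroup.map_eq_bot_iff_of_injective _ (Subgroup.subtype_injective _)] at h1

/-- the vector `(-3, 1 ^ 23)` -/
def V3 : leechLattice := ⟨cv {none} ∅, cv_single_mem none⟩

theorem V3_apply (i : GolayPt) : (V3 : GolayPt → ℤ) i = if i = none then -3 else 1 := by
  show cv {none} ∅ i = _
  unfold cv
  simp only [chi, Finset.mem_singleton, Finset.notMem_empty, if_false]
  by_cases h : i = none <;> simp [h]

theorem sqNorm_V3 : sqNorm (V3 : GolayPt → ℤ) = 32 := by
  show sqNorm (cv {none} ∅) = 32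
  decide +kernel

theorem Co2_simple : IsSimpleGroup (MulAction.stabilizer Co0 V3) := by
  haveI : Nontrivial (MulAction.stabilizer Co0 V3) := by
    rw [← Finite.one_lt_card_iff_nontrivial, natCard_stab32 sqNorm_V3]; norm_num
  refine ⟨fun K hK => ?_⟩
  rcases sub_main (MulAction.stabilizer Co0 V3) (M23_le_stab _ fun j => by
      rw [V3_apply, V3_apply, if_neg (Option.some_ne_none _), if_neg (Option.some_ne_none _)])
    (negOne_not_mem_stab _ (by rw [V3_apply, if_pos rfl]; norm_num)) 46 (by norm_num)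
    (fun r e hr hr23 hr46 h h1 => hr_Co0 (n := Nat.card (MulAction.stabilizer Co0 V3))
        (by rw [← natCard_Co0]; exact Subgroup.card_subgroup_dvd_card _) r e hr hr23 hr46 h h1) K with h | ⟨h1, h2⟩
  · right; exact h
  · left
    obtain ⟨k, hk⟩ := two_pow_of Nat.card_pos.ne' h1 h2
    exact O2_stab' sqNorm_V3 K (IsPGroup.of_card hk)

theorem isCo2 (v : leechLattice) (hv : sqNorm (v : GolayPt → ℤ) = 32) : IsCo2 (MulAction.stabilizer Co0 v) := by
  refine ⟨?_, natCard_stab32 hv⟩
  obtain ⟨k, hk⟩ : ∃ k : Co0, k • v = V3 :=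
    transitive (ne_zero_of_norm hv (by norm_num)) (by rw [hv]; norm_num) (hv.trans sqNorm_V3.symm)
  exact isSimpleGroup_of_mulEquiv (stabEquiv hk).symm Co2_simple

end Cfsg.Agent.Lib.LeechSyl
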