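import Cfsg.Agent.Lib.SylQ

/-!
A variant of the criterion.
-/

set_option autoImplicit false

namespace Cfsg.Agent.Lib.SylQ

open Subgroup
open scoped Pointwise

/-- second case, for one prime -/
theorem part_mod {G : Type*} [Group G] [Finite G] {q m : ℕ} [hq : Fact q.Prime] {P K : Subgroup G} [hK : K.Normal]
    (hP : Nat.card P = q) (hC : ∀ x, (∀ p ∈ P, p * x * p⁻¹ = x) → x ^ m = 1)
    (hd : ¬ q ∣ Nat.card K) {r : ℕ} (hrp : r.Prime) (hrm : ¬ r ∣ m) :
    r ^ (Nat.card K).factorization r % q = 1 := by
  haveI : Fact r.Prime := ⟨hrp⟩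
  -- `P` acts on `K`
  let f : P →* MulAut K := MulAut.conjNormal.comp P.subtype
  have hf : ∀ (p : P) (k : K), ((f p k : K) : G) = p * k * (p : G)⁻¹ := fun p k => MulAut.conjNormal_apply _ _
  have hPq : IsPGroup q P := IsPGroup.of_card (n := 1) (by rw [hP, pow_one])
  letI : MulAction P (Sylow r K) := MulAction.compHom (Sylow r K) f
  obtain ⟨R, hR⟩ := hPq.nonempty_fixed_point_of_prime_not_dvd_card (Sylow r K) (by
    intro h
    exact hd (h.trans ((Sylow.card_dvd_index (default : Sylow r K)).trans (Subgroup.index_dvd_card _))))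
  have hR' : ∀ (p : P) (k : K), k ∈ (R : Subgroup K) → f p k ∈ (R : Subgroup K) := by
    intro p k hk
    have h1 : f p • R = R := hR p
    have h2 : f p • k ∈ f p • (R : Subgroup K) := Subgroup.smul_mem_pointwise_smul k (f p) _ hk
    have h3 : f p • (R : Subgroup K) = (R : Subgroup K) := congrArg Sylow.toSubgroup h1
    rw [h3] at h2
    exact h2
  letI : MulAction P (R : Subgroup K) :=
    { smul := fun p k => ⟨f p k, hR' p k k.2⟩
      one_smul := fun k => Subtype.ext (by
        show f 1 (k : K) = k
        rw [map_one]; rfl)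
      mul_smul := fun p p' k => Subtype.ext (by
        show f (p * p') (k : K) = f p (f p' k)
        rw [map_mul]; rfl) }
  have h2 := hPq.card_modEq_card_fixedPoints (R : Subgroup K)
  have h3 : Nat.card (MulAction.fixedPoints P (R : Subgroup K)) = 1 := by
    rw [Nat.card_eq_one_iff_unique]
    constructor
    · constructor
      have key : ∀ k : MulAction.fixedPoints P (R : Subgroup K), ((k : (R : Subgroup K)) : K) = 1 := by
        rintro ⟨k, hk⟩
        have h4 : ((k : K) : G) ^ m = 1 := by
          apply hC
          intro p hp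
          have h5 := congrArg (fun z : (R : Subgroup K) => ((z : K) : G)) (hk ⟨p, hp⟩)
          exact h5
        have h5 : (k : K) ^ m = 1 := by
          apply Subtype.ext
          rw [Subgroup.coe_pow, h4]; rfl
        have h6 : orderOf (k : K) ∣ m := orderOf_dvd_of_pow_eq_one h5
        obtain ⟨i, hi⟩ := IsPGroup.iff_orderOf.1 R.isPGroup' k
        have h7 : orderOf (k : K) = r ^ i := by rw [← hi]; exact Subgroup.orderOf_coe k
        have h8 : i = 0 := by
          by_contra hi0
          apply hrm
          refine dvd_trans ?_ h6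
          rw [h7]
          exact dvd_pow_self r hi0
        rw [h8, pow_zero, orderOf_eq_one_iff] at h7
        exact h7
      intro a b
      apply Subtype.ext
      apply Subtype.ext
      rw [key a, key b]
    · exact ⟨⟨1, fun p => Subtype.ext (map_one (f p))⟩⟩
  rw [h3] at h2
  rw [← R.card_eq_multiplicity]
  have h7 := h2
  rw [Nat.ModEq, Nat.mod_eq_of_lt hq.out.one_lt] at h7
  exact h7

end Cfsg.Agent.Lib.SylQ
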