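import Cfsg.Agent.Lib.LeechSyl3
import Cfsg.Agent.Lib.LeechRank2
import Cfsg.Agent.Lib.SylQ2

/-!
The Sylow 11-normaliser in `HS` and `McL`; simplicity of `HS` and `McL`.
-/

set_option autoImplicit false

namespace Cfsg.Agent.Lib.LeechSyl

open Cfsg Cfsg.Agent.Lib.Golay Cfsg.Agent.Lib.LeechMin Cfsg.Agent.Lib.GolayCoset Cfsg.Agent.Lib.LeechXi
  Cfsg.Agent.Lib.LeechTrans Cfsg.Agent.Lib.LeechCo2 Cfsg.Agent.Lib.LeechFrame Cfsg.Agent.Lib.LeechCount
  Cfsg.Agent.Lib.LeechOrder Cfsg.Agent.Lib.LeechMod Cfsg.Agent.Lib.LeechQuot Cfsg.Agent.Lib.LeechChain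
open scoped Pointwise

/-! ### multiplication by 2 modulo 23 -/

def u2 : (ZMod 23)ˣ := ⟨2, 12, by decide, by decide⟩
def u5 : (ZMod 23)ˣ := ⟨5, 14, by decide, by decide⟩

theorem u2_sq : IsSquare u2 := ⟨u5, Units.ext (by decide)⟩

def rh : M24 := ⟨Equiv.optionCongr (Units.mulLeft u2), mulSquare_mem u2 u2_sq⟩

theorem rh_none : (rh : Equiv.Perm GolayPt) none = none := rfl
theorem rh_some (j : ZMod 23) : (rh : Equiv.Perm GolayPt) (some j) = some (2 * j) := rfl

theorem rh_pow_none (n : ℕ) : ((rh ^ n : M24) : Equiv.Perm GolayPt) none = none := by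
  induction n with
  | zero => rfl
  | succ n ih =>
    rw [pow_succ]
    show ((rh ^ n : M24) : Equiv.Perm GolayPt) ((rh : Equiv.Perm GolayPt) none) = none
    rw [rh_none, ih]

theorem rh_pow_some (n : ℕ) (j : ZMod 23) : ((rh ^ n : M24) : Equiv.Perm GolayPt) (some j) = some (2 ^ n * j) := by
  induction n generalizing j with
  | zero => simp
  | succ n ih =>
    rw [pow_succ]
    show ((rh ^ n : M24) : Equiv.Perm GolayPt) ((rh : Equiv.Perm GolayPt) (some j)) = _
    rw [rh_some, ih]
    apply congrArg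
    ring

theorem two_pow_11 : (2 : ZMod 23) ^ 11 = 1 := by decide

theorem rh_pow_11 : rh ^ 11 = 1 := by
  apply Subtype.ext
  ext1 i
  rcases i with _ | j
  · exact rh_pow_none 11
  · rw [rh_pow_some, two_pow_11, one_mul]; rfl

theorem two_ne : ¬ ((some ((2 : ZMod 23) * 1) : GolayPt) = some (1 : ZMod 23)) := by
  intro h
  have h2 : (2 : ZMod 23) * 1 = 1 := Option.some.inj h
  exact absurd h2 (by decide)

theorem orderOf_rh : orderOf rh = 11 := by
  have : Fact (Nat.Prime 11) := ⟨by norm_num⟩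
  apply orderOf_eq_prime rh_pow_11
  intro h
  have h1 := congrArg (fun σ : M24 => (σ : Equiv.Perm GolayPt) (some 1)) h
  exact two_ne h1

/-- the Sylow 11-subgroup -/
def P11 : Subgroup Co0 := Subgroup.zpowers (peH rh)

theorem card_P11 : Nat.card P11 = 11 := by
  unfold P11
  rw [Nat.card_zpowers, orderOf_injective peH peH_inj, orderOf_rh]

/-- `M22` in `Co0` -/
def M22 : Subgroup Co0 := (St none ⊓ St b0).map peH

theorem M22_simple' : IsSimpleGroup M22 :=
  isSimpleGroup_of_mulEquiv ((St none ⊓ St b0).equivMapOfInjective peH peH_inj) (M22_simple hab)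

theorem P11_le : P11 ≤ M22 := by
  unfold P11
  rw [Subgroup.zpowers_le]
  refine ⟨rh, ⟨rh_none, ?_⟩, rfl⟩
  show (rh : Equiv.Perm GolayPt) (some 0) = some 0
  rw [rh_some, mul_zero]

/-- the quadratic residues -/
def QQ : Finset (ZMod 23) := {1, 2, 3, 4, 6, 8, 9, 12, 13, 16, 18}

theorem QQ_pow : ∀ q ∈ QQ, ∃ n : Fin 11, q = 2 ^ (n : ℕ) := by decide +kernel
theorem QQ_mul : ∀ k ∈ QQ, ∀ q ∈ QQ, k * q ∈ QQ := by decide +kernel
theorem QQ_11 : ∀ k ∈ QQ, k ^ 11 = 1 := by decide +kernel
theorem QQ_all : ∀ j : ZMod 23, j = 0 ∨ j ∈ QQ ∨ -j ∈ QQ := by decide +kernel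
theorem QQ_neg : ∀ j ∈ QQ, -j ∉ QQ ∧ j ≠ 0 := by decide +kernel
theorem QQ_div : ∀ k ∈ QQ, ∀ l ∈ QQ, ∃ q ∈ QQ, l = q * k := by decide +kernel

theorem sum_cls (B C D : ℤ) : ∑ j : ZMod 23, (if j = 0 then B else if j ∈ QQ then C else D) = B + 11 * C + 11 * D := by
  have h : ∀ j : ZMod 23, (if j = 0 then B else if j ∈ QQ then C else D) =
      D + (if j = 0 then B - D else 0) + (if j ∈ QQ then C - D else 0) := by
    intro j
    by_cases h0 : j = 0
    · have : j ∉ QQ := fun h => (QQ_neg j h).2 h0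
      simp [h0, this]
      subst h0
      simp [this]
    · by_cases hq : j ∈ QQ
      · simp [h0, hq]
      · simp [h0, hq]
  rw [Finset.sum_congr rfl fun j _ => h j, Finset.sum_add_distrib, Finset.sum_add_distrib, Finset.sum_const,
    Finset.sum_ite_eq' Finset.univ (0 : ZMod 23), Finset.sum_ite_mem, Finset.univ_inter, Finset.sum_const,
    Finset.card_univ, ZMod.card]
  have : QQ.card = 11 := by decide +kernel
  rw [this]
  simp only [Finset.mem_univ, if_true, nsmul_eq_mul]
  push_cast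
  ring

/-- vectors fixed by the element of order 11 -/
theorem const_of_fix11 {v : leechLattice} (h : peH rh • v = v) (j : ZMod 23) :
    (v : GolayPt → ℤ) (some j) = if j = 0 then (v : GolayPt → ℤ) (some 0) else if j ∈ QQ then (v : GolayPt → ℤ) (some 1)
      else (v : GolayPt → ℤ) (some (-1)) := by
  have h1 : ∀ k : ZMod 23, (v : GolayPt → ℤ) (some (2 * k)) = (v : GolayPt → ℤ) (some k) := by
    intro k
    have h2 := congrArg Subtype.val h
    rw [peH_smul] at h2
    have h3 := congrFun h2 (some (2 * k))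
    have h4 : (rh : Equiv.Perm GolayPt).symm (some (2 * k)) = some k := by
      rw [Equiv.symm_apply_eq, rh_some]
    rw [h4] at h3
    exact h3.symm
  have h2 : ∀ (n : ℕ) (k : ZMod 23), (v : GolayPt → ℤ) (some (2 ^ n * k)) = (v : GolayPt → ℤ) (some k) := by
    intro n k
    induction n with
    | zero => simp
    | succ n ih => rw [show (2 : ZMod 23) ^ (n + 1) * k = 2 * (2 ^ n * k) by ring, h1, ih]
  by_cases h0 : j = 0
  · rw [if_pos h0, h0]
  rw [if_neg h0]
  by_cases hq : j ∈ QQ
  · rw [if_pos hq]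
    obtain ⟨n, hn⟩ := QQ_pow j hq
    have := h2 n 1
    rw [mul_one, ← hn] at this
    exact this
  · rw [if_neg hq]
    rcases QQ_all j with h3 | h3 | h3
    · exact absurd h3 h0
    · exact absurd h3 hq
    · obtain ⟨n, hn⟩ := QQ_pow _ h3
      have := h2 n (-1)
      rw [show (2 : ZMod 23) ^ (n : ℕ) * -1 = j by rw [← hn]; ring] at this
      exact this

theorem sqNorm_const11 {v : leechLattice} (h : peH rh • v = v) :
    sqNorm (v : GolayPt → ℤ) = (v : GolayPt → ℤ) none ^ 2 + ((v : GolayPt → ℤ) (some 0) ^ 2 +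
      11 * (v : GolayPt → ℤ) (some 1) ^ 2 + 11 * (v : GolayPt → ℤ) (some (-1)) ^ 2) := by
  unfold sqNorm
  rw [Fintype.sum_option, ← sum_cls]
  refine congrArg _ (Finset.sum_congr rfl fun j _ => ?_)
  rw [const_of_fix11 h j]
  split_ifs <;> rfl

theorem dotU (y : GolayPt → ℤ) : dotInt (U none : GolayPt → ℤ) y = 5 * y none + ∑ j : ZMod 23, y (some j) := by
  unfold dotInt
  rw [Fintype.sum_option, U_none]
  refine congrArg _ (Finset.sum_congr rfl fun j _ => ?_)
  rw [U_some, one_mul]

theorem dotU_const11 {v : leechLattice} (h : peH rh • v = v) :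
    dotInt (U none : GolayPt → ℤ) (v : GolayPt → ℤ) = 5 * (v : GolayPt → ℤ) none + ((v : GolayPt → ℤ) (some 0) +
      11 * (v : GolayPt → ℤ) (some 1) + 11 * (v : GolayPt → ℤ) (some (-1))) := by
  rw [dotU, ← sum_cls]
  exact congrArg _ (Finset.sum_congr rfl fun j _ => const_of_fix11 h j)

/-- the vector `S` is the only one of its class fixed by the element of order 11 -/
theorem fixS {v : leechLattice} (h : peH rh • v = v) (hv : v ∈ cls [(X hab, 0), (U none, 16)] 32) : v = S hab := by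
  rw [mem_cls2, dotU_const11 h, sqNorm_const11 h, dot_X] at hv
  obtain ⟨h1, h2, h3⟩ := hv
  have hb0 : (v : GolayPt → ℤ) b0 = (v : GolayPt → ℤ) (some 0) := rfl
  rw [hb0] at h2
  have hc1 : (v : GolayPt → ℤ) (some 1) ≤ 1 := by nlinarith [sq_nonneg ((v : GolayPt → ℤ) none), sq_nonneg ((v : GolayPt → ℤ) (some 0)), sq_nonneg ((v : GolayPt → ℤ) (some (-1)))]
  have hc2 : -1 ≤ (v : GolayPt → ℤ) (some 1) := by nlinarith [sq_nonneg ((v : GolayPt → ℤ) none), sq_nonneg ((v : GolayPt → ℤ) (some 0)), sq_nonneg ((v : GolayPt → ℤ) (some (-1)))]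
  have hd1 : (v : GolayPt → ℤ) (some (-1)) ≤ 1 := by nlinarith [sq_nonneg ((v : GolayPt → ℤ) none), sq_nonneg ((v : GolayPt → ℤ) (some 0)), sq_nonneg ((v : GolayPt → ℤ) (some 1))]
  have hd2 : -1 ≤ (v : GolayPt → ℤ) (some (-1)) := by nlinarith [sq_nonneg ((v : GolayPt → ℤ) none), sq_nonneg ((v : GolayPt → ℤ) (some 0)), sq_nonneg ((v : GolayPt → ℤ) (some 1))]
  have ha1 : (v : GolayPt → ℤ) none ≤ 5 := by nlinarith [sq_nonneg ((v : GolayPt → ℤ) (some 0)), sq_nonneg ((v : GolayPt → ℤ) (some 1)), sq_nonneg ((v : GolayPt → ℤ) (some (-1)))]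
  have ha2 : -5 ≤ (v : GolayPt → ℤ) none := by nlinarith [sq_nonneg ((v : GolayPt → ℤ) (some 0)), sq_nonneg ((v : GolayPt → ℤ) (some 1)), sq_nonneg ((v : GolayPt → ℤ) (some (-1)))]
  have key : (v : GolayPt → ℤ) none = 4 ∧ (v : GolayPt → ℤ) (some 0) = -4 ∧ (v : GolayPt → ℤ) (some 1) = 0 ∧
      (v : GolayPt → ℤ) (some (-1)) = 0 := by
    have hb : (v : GolayPt → ℤ) (some 0) = -(v : GolayPt → ℤ) none := by omega
    rw [hb] at h1 h3 ⊢
    generalize (v : GolayPt → ℤ) none = a at *
    generalize (v : GolayPt → ℤ) (some 1) = c at *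
    generalize (v : GolayPt → ℤ) (some (-1)) = d at *
    interval_cases c <;> interval_cases d <;> interval_cases a <;> simp_all
  apply Subtype.ext
  funext i
  rw [coe_S]
  rcases i with _ | j
  · rw [key.1]; rfl
  · rw [const_of_fix11 h, key.2.1, key.2.2.1, key.2.2.2]
    by_cases h0 : j = 0
    · subst h0; rfl
    · rw [if_neg h0, ite_self, Pi.sub_apply, Pi.single_eq_of_ne (Option.some_ne_none j), Pi.single_eq_of_ne]
      · norm_num
      · intro h4
        exact h0 (Option.some.inj h4)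

theorem fixX {v : leechLattice} (h : peH rh • v = v) (hv : v ∈ cls [(U none, 24), (S hab, 0)] 32) : v = X hab := by
  rw [mem_cls2, dotU_const11 h, sqNorm_const11 h, dot_S'] at hv
  obtain ⟨h1, h3, h2⟩ := hv
  have hb0 : (v : GolayPt → ℤ) b0 = (v : GolayPt → ℤ) (some 0) := rfl
  rw [hb0] at h2
  have hc1 : (v : GolayPt → ℤ) (some 1) ≤ 1 := by nlinarith [sq_nonneg ((v : GolayPt → ℤ) none), sq_nonneg ((v : GolayPt → ℤ) (some 0)), sq_nonneg ((v : GolayPt → ℤ) (some (-1)))]
  have hc2 : -1 ≤ (v : GolayPt → ℤ) (some 1) := by nlinarith [sq_nonneg ((v : GolayPt → ℤ) none), sq_nonneg ((v : GolayPt → ℤ) (some 0)), sq_nonneg ((v : GolayPt → ℤ) (some (-1)))]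
  have hd1 : (v : GolayPt → ℤ) (some (-1)) ≤ 1 := by nlinarith [sq_nonneg ((v : GolayPt → ℤ) none), sq_nonneg ((v : GolayPt → ℤ) (some 0)), sq_nonneg ((v : GolayPt → ℤ) (some 1))]
  have hd2 : -1 ≤ (v : GolayPt → ℤ) (some (-1)) := by nlinarith [sq_nonneg ((v : GolayPt → ℤ) none), sq_nonneg ((v : GolayPt → ℤ) (some 0)), sq_nonneg ((v : GolayPt → ℤ) (some 1))]
  have ha1 : (v : GolayPt → ℤ) none ≤ 5 := by nlinarith [sq_nonneg ((v : GolayPt → ℤ) (some 0)), sq_nonneg ((v : GolayPt → ℤ) (some 1)), sq_nonneg ((v : GolayPt → ℤ) (some (-1)))]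
  have ha2 : -5 ≤ (v : GolayPt → ℤ) none := by nlinarith [sq_nonneg ((v : GolayPt → ℤ) (some 0)), sq_nonneg ((v : GolayPt → ℤ) (some 1)), sq_nonneg ((v : GolayPt → ℤ) (some (-1)))]
  have key : (v : GolayPt → ℤ) none = 4 ∧ (v : GolayPt → ℤ) (some 0) = 4 ∧ (v : GolayPt → ℤ) (some 1) = 0 ∧
      (v : GolayPt → ℤ) (some (-1)) = 0 := by
    have hb : (v : GolayPt → ℤ) (some 0) = (v : GolayPt → ℤ) none := by omega
    rw [hb] at h1 h3 ⊢
    generalize (v : GolayPt → ℤ) none = a at *
    generalize (v : GolayPt → ℤ) (some 1) = c at *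
    generalize (v : GolayPt → ℤ) (some (-1)) = d at *
    interval_cases c <;> interval_cases d <;> interval_cases a <;> simp_all
  apply Subtype.ext
  funext i
  rw [coe_X]
  rcases i with _ | j
  · rw [key.1]; rfl
  · rw [const_of_fix11 h, key.2.1, key.2.2.1, key.2.2.2]
    by_cases h0 : j = 0
    · subst h0; rfl
    · rw [if_neg h0, ite_self, Pi.add_apply, Pi.single_eq_of_ne (Option.some_ne_none j), Pi.single_eq_of_ne]
      · norm_num
      · intro h4
        exact h0 (Option.some.inj h4)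

/-- elements of `M22` commuting with the element of order 11 -/
theorem comm_rh {σ : M24} (h0 : σ ∈ St none ⊓ St b0) (h : σ * rh = rh * σ) : σ ^ 11 = 1 := by
  have hn : (σ : Equiv.Perm GolayPt) none = none := h0.1
  have hb : (σ : Equiv.Perm GolayPt) (some 0) = some 0 := h0.2
  have hex : ∀ j : ZMod 23, ∃ k : ZMod 23, (σ : Equiv.Perm GolayPt) (some j) = some k := by
    intro j
    rcases hh : (σ : Equiv.Perm GolayPt) (some j) with _ | k
    · exfalso
      exact absurd ((σ : Equiv.Perm GolayPt).injective (hh.trans hn.symm)) (by simp)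
    · exact ⟨k, rfl⟩
  have h1 : ∀ n : ℕ, σ * rh ^ n = rh ^ n * σ := fun n => Commute.pow_right h n
  have h2 : ∀ (n : ℕ) (j k : ZMod 23), (σ : Equiv.Perm GolayPt) (some j) = some k →
      (σ : Equiv.Perm GolayPt) (some (2 ^ n * j)) = some (2 ^ n * k) := by
    intro n j k hj
    have h3 : (σ : Equiv.Perm GolayPt) (((rh ^ n : M24) : Equiv.Perm GolayPt) (some j)) =
        ((rh ^ n : M24) : Equiv.Perm GolayPt) ((σ : Equiv.Perm GolayPt) (some j)) :=
      congrArg (fun τ : M24 => (τ : Equiv.Perm GolayPt) (some j)) (h1 n)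
    rw [rh_pow_some, hj, rh_pow_some] at h3
    exact h3
  have h3 : ∀ q ∈ QQ, ∀ j k : ZMod 23, (σ : Equiv.Perm GolayPt) (some j) = some k →
      (σ : Equiv.Perm GolayPt) (some (q * j)) = some (q * k) := by
    intro q hq j k hj
    obtain ⟨n, hn'⟩ := QQ_pow q hq
    rw [hn']
    exact h2 n j k hj
  obtain ⟨k, hk⟩ := hex 1
  obtain ⟨l, hl⟩ := hex (-1)
  have hk0 : k ≠ 0 := by
    rintro rfl
    have := Option.some.inj ((σ : Equiv.Perm GolayPt).injective (hk.trans hb.symm))
    exact absurd this (by decide)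
  have hl0 : l ≠ 0 := by
    rintro rfl
    have := Option.some.inj ((σ : Equiv.Perm GolayPt).injective (hl.trans hb.symm))
    exact absurd this (by decide)
  have hkQ : k ∈ QQ := by
    by_contra hkQ
    have hk' : -k ∈ QQ := by
      rcases QQ_all k with h4 | h4 | h4
      · exact absurd h4 hk0
      · exact absurd h4 hkQ
      · exact h4
    -- the code word of the residues would be moved to the non-residues
    have h4 : (σ : Equiv.Perm GolayPt) • mset 340831 = mset 8047777 ∨ True := Or.inr trivial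
    have h5 : mset 340831 ∈ Sup := (mset_mem_supports_iff (by norm_num)).mpr (by decide +kernel)
    have h6 : (σ : Equiv.Perm GolayPt) • mset 340831 ∈ Sup := (smul_mem_supports_iff σ.2 _).mpr h5
    have hD : ∀ i, i ∈ mset 340831 ↔ (i = some 0 ∨ ∃ q ∈ QQ, i = some q) := by decide +kernel
    have hD' : ∀ i, i ∈ mset 8047777 ↔ (i = some 0 ∨ ∃ q ∈ QQ, i = some (-q)) := by decide +kernel
    have h7 : (σ : Equiv.Perm GolayPt) • mset 340831 = mset 8047777 := by
      apply Finset.eq_of_subset_of_card_le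
      · intro i hi
        rw [mem_smul, hD] at hi
        rw [hD']
        rcases hi with hi | ⟨q, hq, hi⟩
        · left
          rw [Equiv.symm_apply_eq] at hi
          rw [hi, hb]
        · right
          rw [Equiv.symm_apply_eq] at hi
          have h8 := h3 q hq 1 k hk
          rw [mul_one] at h8
          rw [hi, h8]
          exact ⟨q * -k, QQ_mul _ hq _ hk', by apply congrArg; ring⟩
      · rw [card_smul']
        decide +kernel
    rw [h7] at h6
    exact absurd ((mset_mem_supports_iff (by norm_num)).mp h6) (by decide +kernel)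
  have hlQ : -l ∈ QQ := by
    rcases QQ_all l with h4 | h4 | h4
    · exact absurd h4 hl0
    · exfalso
      obtain ⟨q, hq, h5⟩ := QQ_div k hkQ l h4
      have h6 := h3 q hq 1 k hk
      rw [mul_one, ← h5] at h6
      have h7 := Option.some.inj ((σ : Equiv.Perm GolayPt).injective (h6.trans hl.symm))
      rw [h7] at hq
      exact absurd hq (by decide +kernel)
    · exact h4
  have hQ : ∀ q ∈ QQ, (σ : Equiv.Perm GolayPt) (some q) = some (k * q) := by
    intro q hq
    have := h3 q hq 1 k hk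
    rw [mul_one] at this
    rw [this, mul_comm]
  have hQ' : ∀ q ∈ QQ, (σ : Equiv.Perm GolayPt) (some (-q)) = some (-(-l * q)) := by
    intro q hq
    have := h3 q hq (-1) l hl
    rw [show q * -1 = -q by ring] at this
    rw [this]
    apply congrArg; ring
  have hpQ : ∀ n : ℕ, ∀ q ∈ QQ, k ^ n * q ∈ QQ ∧ ((σ ^ n : M24) : Equiv.Perm GolayPt) (some q) = some (k ^ n * q) := by
    intro n
    induction n with
    | zero => intro q hq; simp [hq]
    | succ n ih =>
      intro q hq
      have h4 := ih q hq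
      have e : k ^ (n + 1) * q = k * (k ^ n * q) := by ring
      rw [e]
      refine ⟨QQ_mul _ hkQ _ h4.1, ?_⟩
      rw [pow_succ']
      show (σ : Equiv.Perm GolayPt) (((σ ^ n : M24) : Equiv.Perm GolayPt) (some q)) = _
      rw [h4.2, hQ _ h4.1]
  have hpQ' : ∀ n : ℕ, ∀ q ∈ QQ, (-l) ^ n * q ∈ QQ ∧
      ((σ ^ n : M24) : Equiv.Perm GolayPt) (some (-q)) = some (-((-l) ^ n * q)) := by
    intro n
    induction n with
    | zero => intro q hq; simp [hq]
    | succ n ih =>
      intro q hq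
      have h4 := ih q hq
      have e : (-l) ^ (n + 1) * q = -l * ((-l) ^ n * q) := by ring
      rw [e]
      refine ⟨QQ_mul _ hlQ _ h4.1, ?_⟩
      rw [pow_succ']
      show (σ : Equiv.Perm GolayPt) (((σ ^ n : M24) : Equiv.Perm GolayPt) (some (-q))) = _
      rw [h4.2, hQ' _ h4.1]
  have hfix : ∀ (p : GolayPt), (σ : Equiv.Perm GolayPt) p = p → ∀ n : ℕ, ((σ ^ n : M24) : Equiv.Perm GolayPt) p = p := by
    intro p hp n
    induction n with
    | zero => rfl
    | succ n ih =>
      rw [pow_succ]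
      show ((σ ^ n : M24) : Equiv.Perm GolayPt) ((σ : Equiv.Perm GolayPt) p) = p
      rw [hp, ih]
  apply Subtype.ext
  ext1 i
  rcases i with _ | j
  · exact hfix _ hn 11
  · rcases QQ_all j with h4 | h4 | h4
    · rw [h4]; exact hfix _ hb 11
    · rw [(hpQ 11 j h4).2, QQ_11 k hkQ, one_mul]; rfl
    · have h5 := (hpQ' 11 (-j) h4).2
      rw [neg_neg, QQ_11 (-l) hlQ, one_mul, neg_neg] at h5
      rw [h5]; rfl

/-- the normaliser moves fixed vectors to fixed vectors -/
theorem fix_of_norm {g : Co0} (hg : g ∈ Subgroup.normalizer (P11 : Set Co0)) {v : leechLattice} (h5 : peH rh • v = v) :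
    peH rh • (g • v) = g • v := by
  have h2 : g⁻¹ * peH rh * g ∈ P11 := by
    have := (Subgroup.mem_normalizer_iff.1 (Subgroup.inv_mem _ hg) (peH rh)).1 (Subgroup.mem_zpowers _)
    rwa [inv_inv] at this
  obtain ⟨n, hn⟩ := Subgroup.mem_zpowers_iff.1 h2
  have h3 : peH rh * g = g * peH (rh ^ n) := by
    rw [map_zpow, hn]; group
  have h4 : peH (rh ^ n) • v = v := by
    rw [map_zpow]
    exact (Subgroup.zpow_mem _ (show peH rh ∈ MulAction.stabilizer Co0 v from h5) n : _ ∈ MulAction.stabilizer Co0 v)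
  rw [← mul_smul, h3, mul_smul, h4]

theorem rh_fix {v : leechLattice} (h : ∀ j, j ≠ 0 → (v : GolayPt → ℤ) (some j) = (v : GolayPt → ℤ) (some 1)) :
    peH rh • v = v := by
  apply Subtype.ext
  rw [peH_smul]
  funext i
  rcases i with _ | j
  · have : (rh : Equiv.Perm GolayPt).symm none = none := by rw [Equiv.symm_apply_eq, rh_none]
    rw [this]
  · obtain ⟨k, hk⟩ : ∃ k, j = 2 * k := ⟨12 * j, by rw [← mul_assoc]; have : (2 : ZMod 23) * 12 = 1 := by decide
                                                   rw [this, one_mul]⟩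
    have h3 : (rh : Equiv.Perm GolayPt).symm (some j) = some k := by rw [Equiv.symm_apply_eq, rh_some, hk]
    rw [h3]
    by_cases h0 : k = 0
    · rw [hk, h0, mul_zero]
    · have hj : j ≠ 0 := by
        rw [hk]
        intro h4
        apply h0
        have h5 : (12 : ZMod 23) * (2 * k) = 0 := by rw [h4, mul_zero]
        rw [← mul_assoc, (by decide : (12 : ZMod 23) * 2 = 1), one_mul] at h5
        exact h5
      rw [h k h0, h j hj]

theorem rh_S : peH rh • S hab = S hab := by
  apply rh_fix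
  intro j hj
  rw [coe_S]
  have h1 : (some j : GolayPt) ≠ b0 := fun h => hj (Option.some.inj h)
  have h2 : (some 1 : GolayPt) ≠ b0 := fun h => absurd (Option.some.inj h) (by decide)
  rw [Pi.sub_apply, Pi.sub_apply, Pi.single_eq_of_ne (Option.some_ne_none j), Pi.single_eq_of_ne h1,
    Pi.single_eq_of_ne (Option.some_ne_none 1), Pi.single_eq_of_ne h2]

theorem rh_X : peH rh • X hab = X hab := by
  apply rh_fix
  intro j hj
  rw [coe_X]
  have h1 : (some j : GolayPt) ≠ b0 := fun h => hj (Option.some.inj h)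
  have h2 : (some 1 : GolayPt) ≠ b0 := fun h => absurd (Option.some.inj h) (by decide)
  rw [Pi.add_apply, Pi.add_apply, Pi.single_eq_of_ne (Option.some_ne_none j), Pi.single_eq_of_ne h1,
    Pi.single_eq_of_ne (Option.some_ne_none 1), Pi.single_eq_of_ne h2]

theorem mem_M22 {g : Co0} (h1 : g • X hab = X hab) (h2 : g • S hab = S hab) (h3 : g • U none = U none) : g ∈ M22 := by
  obtain ⟨σ, hσ, h5, h6⟩ := exists_perm (fix_ef h1 h2) h3
  refine ⟨⟨σ, hσ⟩, ⟨h5, ?_⟩, ?_⟩
  · apply fix_of_X (σ := ⟨σ, hσ⟩) hab h5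
    intro i
    have h7 := h6 (X hab)
    rw [h1] at h7
    have h8 := congrFun h7 (σ i)
    simp only [Equiv.symm_apply_apply] at h8
    exact h8
  · apply ext_smul
    intro v
    apply Subtype.ext
    rw [h6, peH_smul]

/-- `M22` fixes vectors `(a, b, c ^ 22)` -/
theorem M22_fix {σ : M24} (h0 : σ ∈ St none ⊓ St b0) {v : leechLattice}
    (h : ∀ j, j ≠ 0 → (v : GolayPt → ℤ) (some j) = (v : GolayPt → ℤ) (some 1)) : peH σ • v = v := by
  apply Subtype.ext
  rw [peH_smul]
  have hn : (σ : Equiv.Perm GolayPt) none = none := h0.1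
  have hb : (σ : Equiv.Perm GolayPt) (some 0) = some 0 := h0.2
  funext i
  rcases i with _ | j
  · rw [(Equiv.symm_apply_eq _).2 hn.symm]
  · by_cases hj : j = 0
    · rw [hj, (Equiv.symm_apply_eq _).2 hb.symm]
    · rcases hh : (σ : Equiv.Perm GolayPt).symm (some j) with _ | k
      · exfalso
        rw [Equiv.symm_apply_eq, hn] at hh
        exact Option.some_ne_none _ hh
      · have hk : k ≠ 0 := by
          rintro rfl
          rw [Equiv.symm_apply_eq, hb] at hh
          exact hj (Option.some.inj hh)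
        rw [h k hk, h j hj]

theorem const_S : ∀ j : ZMod 23, j ≠ 0 → (S hab : GolayPt → ℤ) (some j) = (S hab : GolayPt → ℤ) (some 1) := by
  intro j hj
  rw [coe_S]
  have h1 : (some j : GolayPt) ≠ b0 := fun h => hj (Option.some.inj h)
  have h2 : (some 1 : GolayPt) ≠ b0 := fun h => absurd (Option.some.inj h) (by decide)
  rw [Pi.sub_apply, Pi.sub_apply, Pi.single_eq_of_ne (Option.some_ne_none j), Pi.single_eq_of_ne h1,
    Pi.single_eq_of_ne (Option.some_ne_none 1), Pi.single_eq_of_ne h2]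

theorem const_X : ∀ j : ZMod 23, j ≠ 0 → (X hab : GolayPt → ℤ) (some j) = (X hab : GolayPt → ℤ) (some 1) := by
  intro j hj
  rw [coe_X]
  have h1 : (some j : GolayPt) ≠ b0 := fun h => hj (Option.some.inj h)
  have h2 : (some 1 : GolayPt) ≠ b0 := fun h => absurd (Option.some.inj h) (by decide)
  rw [Pi.add_apply, Pi.add_apply, Pi.single_eq_of_ne (Option.some_ne_none j), Pi.single_eq_of_ne h1,
    Pi.single_eq_of_ne (Option.some_ne_none 1), Pi.single_eq_of_ne h2]

theorem const_U : ∀ j : ZMod 23, j ≠ 0 → (U none : GolayPt → ℤ) (some j) = (U none : GolayPt → ℤ) (some 1) := by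
  intro j _
  rw [U_some, U_some]

/-- the criterion for subgroups containing `M22` -/
theorem main11 (H : Subgroup Co0) (hM : M22 ≤ H) (hN : ∀ x ∈ H, x ∈ Subgroup.normalizer (P11 : Set Co0) → x ∈ M22)
    (hv : ¬ 11 ^ 2 ∣ Nat.card H) (K : Subgroup H) [K.Normal] :
    K = ⊤ ∨ (¬ 11 ∣ Nat.card K ∧ ∀ r, r.Prime → r ∣ Nat.card K → ∃ e, 1 ≤ e ∧ r ^ e ∣ Nat.card H ∧ r ^ e % 11 = 1) := by
  haveI : Fact (Nat.Prime 11) := ⟨by norm_num⟩
  have hPH : P11 ≤ H := P11_le.trans hM
  have hcardP : Nat.card (P11.subgroupOf H) = 11 := by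
    rw [Nat.card_congr (Subgroup.subgroupOfEquivOfLe hPH).toEquiv, card_P11]
  by_cases hd : 11 ∣ Nat.card K
  · left
    refine SylQ.eq_top (q := 11) (P := P11.subgroupOf H) (M := M22.subgroupOf H) (Z := ⊥) hcardP hv ?_ ?_ ?_ bot_le hd
    · intro x hx; exact P11_le hx
    · haveI := M22_simple'
      exact isSimpleGroup_of_mulEquiv (Subgroup.subgroupOfEquivOfLe hM).symm M22_simple'
    · rw [sup_bot_eq]
      intro x hx
      apply hN x x.2
      rw [Subgroup.mem_normalizer_iff] at hx ⊢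
      intro p
      constructor
      · intro hp
        exact (hx ⟨p, hPH hp⟩).1 hp
      · intro hp
        have h1 : p ∈ H := by
          have h2 := hPH hp
          have h3 : p = (x : Co0)⁻¹ * (x * p * (x : Co0)⁻¹) * x := by group
          rw [h3]
          exact H.mul_mem (H.mul_mem (H.inv_mem x.2) h2) x.2
        exact (hx ⟨p, h1⟩).2 hp
  · right
    refine ⟨hd, fun r hr hrK => ?_⟩
    have h1 := SylQ.part_mod (q := 11) (m := 11) (P := P11.subgroupOf H) (K := K) hcardP (by
      intro x hx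
      have hx' : ∀ p ∈ P11, p * (x : Co0) * p⁻¹ = x := fun p hp => congrArg Subtype.val (hx ⟨p, hPH hp⟩ hp)
      have h2 : (x : Co0) ∈ Subgroup.normalizer (P11 : Set Co0) := by
        rw [Subgroup.mem_normalizer_iff]
        intro p
        constructor
        · intro hp
          have h2 := hx' p hp
          have h3 : (x : Co0) * p * (x : Co0)⁻¹ = p := by
            rw [mul_inv_eq_iff_eq_mul] at h2 ⊢
            rw [h2]
          rw [h3]; exact hp
        · intro hp
          have h2 := hx' _ hp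
          have h3 : (x : Co0) * p * (x : Co0)⁻¹ * x = x * (x * p * (x : Co0)⁻¹) := by
            rw [mul_inv_eq_iff_eq_mul] at h2; exact h2
          have h4 : p = x * p * (x : Co0)⁻¹ := by
            have h5 : (x : Co0) * p = x * (x * p * (x : Co0)⁻¹) := by rw [← h3]; group
            exact mul_left_cancel h5
          rw [h4]; exact hp
      obtain ⟨σ, hσ, h3⟩ := hN x x.2 h2
      have h4 := comm_rh hσ (by
        apply peH_inj
        have h5 := hx' (peH rh) (Subgroup.mem_zpowers _)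
        rw [mul_inv_eq_iff_eq_mul] at h5
        rw [map_mul, map_mul, h3]
        exact h5.symm)
      apply Subtype.ext
      rw [Subgroup.coe_pow, ← h3, ← map_pow, h4, map_one]; rfl) hd hr (by
      intro h2
      rw [(Nat.prime_dvd_prime_iff_eq hr (by norm_num)).1 h2] at hrK
      exact hd hrK)
    refine ⟨(Nat.card K).factorization r, ?_, ?_, h1⟩
    · exact (hr.dvd_iff_one_le_factorization Nat.card_pos.ne').1 hrK
    · exact dvd_trans (Nat.ordProj_dvd _ _) (Subgroup.card_subgroup_dvd_card K)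

end Cfsg.Agent.Lib.LeechSyl
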