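import Cfsg.Agent.Lib.RelSylow
import Cfsg.Agent.Lib.ConjSylow

/-! If `W(S)` is normal in `N_G(Q)` for every nontrivial `p`-subgroup `Q` and `S` Sylow in `N_G(Q)`, then
`N_G(Q) ≤ N_G(W(P))` for `Q ≤ P`. -/

set_option autoImplicit false

namespace Cfsg.Agent.Lib.LocalControl

open Subgroup Cfsg.Agent.Lib.RelSylow

variable {G : Type*} [Group G] [Finite G] {p : ℕ} [Fact p.Prime]

theorem normalizer_le_of_char {W : Subgroup G → Subgroup G}
    (hW : ∀ (g : G) (S : Subgroup G), W (S.map (MulAut.conj g).toMonoidHom) = (W S).map (MulAut.conj g).toMonoidHom)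
    (S : Subgroup G) : normalizer (S : Set G) ≤ normalizer (W S : Set G) := by
  intro g hg
  rw [mem_normalizer_iff_map] at hg ⊢
  rw [← hW, hg]

theorem main {W : Subgroup G → Subgroup G}
    (hW : ∀ (g : G) (S : Subgroup G), W (S.map (MulAut.conj g).toMonoidHom) = (W S).map (MulAut.conj g).toMonoidHom)
    (hWle : ∀ S : Subgroup G, IsPGroup p S → W S ≤ S)
    (hWne : ∀ S : Subgroup G, IsPGroup p S → S ≠ ⊥ → W S ≠ ⊥)
    (hloc : ∀ Q : Subgroup G, IsPGroup p Q → Q ≠ ⊥ → ∀ S : Subgroup G, IsSyl p S (normalizer (Q : Set G)) →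
      normalizer (Q : Set G) ≤ normalizer (W S : Set G))
    {P : Subgroup G} (hP : IsSyl p P ⊤) :
    ∀ (n : ℕ) (Q : Subgroup G), Q ≤ P → Q ≠ ⊥ → Nat.card P ≤ n + Nat.card (P ⊓ normalizer (Q : Set G) : Subgroup G) →
      normalizer (Q : Set G) ≤ normalizer (W P : Set G) := by
  intro n
  induction n with
  | zero =>
    intro Q hQP hQ hn
    have h1 : P ⊓ normalizer (Q : Set G) = P := Subgroup.eq_of_le_of_card_ge inf_le_left (by omega)
    have h2 : P ≤ normalizer (Q : Set G) := by rw [← h1]; exact inf_le_right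
    exact hloc Q (hP.2.1.to_le hQP) hQ P (hP.of_le h2 le_top)
  | succ n ih =>
    intro Q hQP hQ hn
    set T := P ⊓ normalizer (Q : Set G) with hT
    have hQT : Q ≤ T := le_inf hQP le_normalizer
    have hTP : IsPGroup p T := hP.2.1.to_le inf_le_left
    have hTne : T ≠ ⊥ := fun h => hQ (le_bot_iff.1 (h ▸ hQT))
    by_cases hTeq : T = P
    · have h2 : P ≤ normalizer (Q : Set G) := by rw [← hTeq]; exact inf_le_right
      exact hloc Q (hP.2.1.to_le hQP) hQ P (hP.of_le h2 le_top)
    have hTlt : T < P := lt_of_le_of_ne inf_le_left hTeq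
    have hgr := ConjSylow.lt_inf_normalizer hP.2.1 hTlt
    have hgc : Nat.card T < Nat.card (P ⊓ normalizer (T : Set G) : Subgroup G) := by
      refine lt_of_le_of_ne (Subgroup.card_le_of_le hgr.le) ?_
      intro h
      exact hgr.ne (Subgroup.eq_of_le_of_card_ge hgr.le h.ge)
    by_cases hTs : IsSyl p T (normalizer (Q : Set G))
    · refine (hloc Q (hP.2.1.to_le hQP) hQ T hTs).trans ?_
      apply ih (W T) ((hWle T hTP).trans inf_le_left) (hWne T hTP hTne)
      have h1 : P ⊓ normalizer (T : Set G) ≤ P ⊓ normalizer (W T : Set G) :=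
        inf_le_inf_left _ (normalizer_le_of_char hW T)
      have h2 := Subgroup.card_le_of_le h1
      omega
    · obtain ⟨S, hTS, hS⟩ := exists_isSyl_ge hTP (inf_le_right : T ≤ normalizer (Q : Set G))
      have hTS' : T < S := lt_of_le_of_ne hTS (fun h => hTs (h ▸ hS))
      have hNT : normalizer (T : Set G) ≤ normalizer (W P : Set G) := by
        apply ih T inf_le_left hTne
        omega
      set T1 := S ⊓ normalizer (T : Set G) with hT1
      have hT1lt : T < T1 := ConjSylow.lt_inf_normalizer hS.2.1 hTS'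
      have hT1M : T1 ≤ normalizer (W P : Set G) := inf_le_right.trans hNT
      have hPM : P ≤ normalizer (W P : Set G) := le_normalizer.trans (normalizer_le_of_char hW P)
      have hPs : IsSyl p P (normalizer (W P : Set G)) := hP.of_le hPM le_top
      obtain ⟨m, hm, hle⟩ := hPs.exists_conj_le (hS.2.1.to_le inf_le_left) hT1M
      -- conjugate by `m⁻¹`
      have hle' : T1.map (MulAut.conj m⁻¹).toMonoidHom ≤ P := by
        have h1 := conj_map_mono m⁻¹ hle
        rwa [conj_conj, inv_mul_cancel, conj_one] at h1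
      have hQ' : Q.map (MulAut.conj m⁻¹).toMonoidHom ≠ ⊥ := by
        intro h
        apply hQ
        rw [← card_eq_one, ← card_conj m⁻¹ Q, h, card_bot]
      have hm' : m⁻¹ ∈ normalizer (W P : Set G) := inv_mem hm
      have key := ih (Q.map (MulAut.conj m⁻¹).toMonoidHom)
        ((conj_map_mono m⁻¹ (hQT.trans hT1lt.le)).trans hle') hQ' (by
        have h1 : T1.map (MulAut.conj m⁻¹).toMonoidHom ≤
            P ⊓ normalizer ((Q.map (MulAut.conj m⁻¹).toMonoidHom : Subgroup G) : Set G) := by
          refine le_inf hle' ?_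
          rw [← normalizer_conj]
          exact conj_map_mono m⁻¹ (inf_le_left.trans hS.1)
        have h2 := Subgroup.card_le_of_le h1
        rw [card_conj] at h2
        have h3 : Nat.card T < Nat.card T1 := by
          refine lt_of_le_of_ne (Subgroup.card_le_of_le hT1lt.le) ?_
          intro h
          exact hT1lt.ne (Subgroup.eq_of_le_of_card_ge hT1lt.le h.ge)
        omega)
      rw [← normalizer_conj] at key
      have h4 := conj_map_mono m key
      rw [conj_conj, mul_inv_cancel, conj_one, conj_eq_of_mem hm] at h4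
      exact h4

end Cfsg.Agent.Lib.LocalControl
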