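import Mathlib
import Cfsg.Agent.Lib.OrthNdBridge

set_option autoImplicit false
set_option linter.unusedSectionVars false

/-!
# Stabilisers of nondegenerate 4-spaces in 8-dimensional quadratic spaces of minus type (helper14)
-/

namespace Cfsg.Agent.Lib.LowNd44

open QuadraticMap Module Cfsg.Agent.Lib.Quad Cfsg.Agent.Lib.OrthMax Cfsg.Agent.Lib.OrthNd

variable {F V : Type*} [Field F] [AddCommGroup V] [Module F V] [FiniteDimensional F V]
  {Q : QuadraticForm F V} {M : Subgroup (V ≃ₗ[F] V)}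

/-- singular vectors span a space containing a hyperbolic pair -/
theorem sing_span {P T : Submodule F V} {e f : V} (he : e ∈ P) (hf : f ∈ P) (hQe : Q e = 0) (hQf : Q f = 0)
    (hef : polar Q e f = 1) (hT : ∀ z ∈ P, Q z = 0 → z ∈ T) : P ≤ T := by
  intro y hy
  obtain ⟨y', hy'⟩ : ∃ y', y' = y - polar Q f y • e - polar Q e y • f := ⟨_, rfl⟩
  have hy'P : y' ∈ P := by
    rw [hy']
    exact P.sub_mem (P.sub_mem hy (P.smul_mem _ he)) (P.smul_mem _ hf)
  have h1 : polar Q e y' = 0 := by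
    rw [hy', polar_sub_right, polar_sub_right, polar_smul_right, polar_smul_right, polar_self', hQe, hef]; simp
  have h2 : polar Q f y' = 0 := by
    rw [hy', polar_sub_right, polar_sub_right, polar_smul_right, polar_smul_right, polar_self', hQf,
      polar_comm Q f e, hef]; simp
  have h3 : Q (f + y' - Q y' • e) = 0 := by
    rw [Q_sub, Q_add, Q_smul, hQf, hQe, h2, polar_smul_right, polar_add_left, polar_comm Q f e, hef,
      polar_comm Q y' e, h1]
    simp
  have h4 := hT _ (P.sub_mem (P.add_mem hf hy'P) (P.smul_mem _ he)) h3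
  have he' := hT e he hQe
  have hf' := hT f hf hQf
  have e1 : y = (f + y' - Q y' • e) - f + Q y' • e + polar Q f y • e + polar Q e y • f := by
    rw [hy']; abel
  rw [e1]
  exact T.add_mem (T.add_mem (T.add_mem (T.sub_mem h4 hf') (T.smul_mem _ he')) (T.smul_mem _ he')) (T.smul_mem _ hf')

variable [Finite F]

/-- the situation -/
structure Sit (Q : QuadraticForm F V) (M : Subgroup (V ≃ₗ[F] V)) (W W2 : Submodule F V) : Prop where
  nd : Nd Q
  le : M ≤ O Q
  hW : NDs Q W
  hW2 : NDs Q W2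
  orth : ∀ w ∈ W, ∀ x ∈ W2, polar Q w x = 0
  perpW2 : perp Q W2 = W
  perpW : perp Q W = W2
  dim : finrank F W = 4
  dim2 : finrank F W2 = 4
  plus : ∀ z ∈ W2, z ≠ 0 → Q z = 0 → ∃ z' ∈ W2, ∃ e ∈ W2, ∃ f ∈ W2, Q z' = 0 ∧ Q e = 0 ∧ Q f = 0 ∧ polar Q z z' = 1 ∧
    polar Q e f = 1 ∧ polar Q z e = 0 ∧ polar Q z f = 0 ∧ polar Q z' e = 0 ∧ polar Q z' f = 0
  minus : ∀ w ∈ W, ∀ w' ∈ W, Q w = 0 → Q w' = 0 → polar Q w w' = 0 → w ≠ 0 → ∃ c : F, w' = c • w
  S2 : Sin Q M W2
  S1 : Sin Q M W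
  refl_mem : ∀ u v, (u ∈ W ∨ u ∈ W2) → (v ∈ W ∨ v ∈ W2) → Q u ≠ 0 → Q u = Q v → refl Q u * refl Q v ∈ M

namespace Sit

variable {W W2 : Submodule F V} (S : Sit Q M W W2)
include S

theorem sup (v : V) : ∃ w ∈ W, ∃ x ∈ W2, w + x = v := by
  have := nds_sup S.nd S.hW v
  rwa [S.perpW] at this

/-- an element of `M` mapping a singular vector of `W2` into `W2` stabilises `W2` -/
theorem stab (hstar : ∀ z ∈ W2, z ≠ 0 → Q z = 0 → ∀ y, polar Q z y = 0 → SI Q M z y → y ∈ W2)
    {x : V ≃ₗ[F] V} (hx : x ∈ M) {z : V} (hz : z ∈ W2) (hz0 : z ≠ 0) (hQz : Q z = 0) (hxz : x z ∈ W2) :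
    ∀ u ∈ W2, x u ∈ W2 := by
  have hxO := S.le hx
  have hcon' : ∀ z ∈ W2, z ≠ 0 → Q z = 0 → x z ∈ W2 → ∀ y ∈ W2, polar Q z y = 0 → x y ∈ W2 := by
    intro z hz hz0 hQz hxz y hy hzy
    refine hstar (x z) hxz (fun h => hz0 (x.map_eq_zero_iff.1 h)) (by rw [hxO]; exact hQz) (x y)
      (by rw [O_polar hxO]; exact hzy) ?_
    exact (S.S2 z hz y hy hQz hzy).map hx hxO
  obtain ⟨z', hz', e, he, f, hf, hQz', hQe, hQf, hzz', hef, hze, hzf, hz'e, hz'f⟩ := S.plus z hz hz0 hQz
  intro u hu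
  have h2 := hcon' z hz hz0 hQz hxz
  have he0 : e ≠ 0 := by rintro rfl; rw [polar_zero_left] at hef; exact zero_ne_one hef
  have h4 := hcon' e he he0 hQe (h2 e he hze) (u - polar Q e u • f) (W2.sub_mem hu (W2.smul_mem _ hf))
    (by rw [polar_sub_right, polar_smul_right, hef]; simp)
  have h5 := h2 f hf hzf
  have h6 := W2.add_mem h4 (W2.smul_mem (polar Q e u) h5)
  rwa [map_sub, LinearEquiv.map_smul, sub_add_cancel] at h6

section conj

variable (hstar : ∀ z ∈ W2, z ≠ 0 → Q z = 0 → ∀ y, polar Q z y = 0 → SI Q M z y → y ∈ W2)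
  {g : V ≃ₗ[F] V} (hg : g ∈ M) (hgn : ¬ ∀ u ∈ W2, g u ∈ W2)
include hstar hg

/-- (B1) -/
theorem B1 {b : V} (hb : b ∈ W2.map g.toLinearMap) (hb0 : b ≠ 0) (hQb : Q b = 0) {h : V ≃ₗ[F] V} (hh : h ∈ M)
    (hhb : h b = b) : ∀ b' ∈ W2.map g.toLinearMap, h b' ∈ W2.map g.toLinearMap := by
  obtain ⟨z, hz, rfl⟩ := hb
  have hz0 : z ≠ 0 := by
    rintro rfl
    exact hb0 (map_zero _)
  have hgO := S.le hg
  have hgz : (g.toLinearMap : V → V) z = g z := rfl
  rw [hgz] at hQb hhb
  have h1 := S.stab hstar (x := g⁻¹ * (h * g)) (M.mul_mem (M.inv_mem hg) (M.mul_mem hh hg)) hz hz0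
    (by rw [← hgO]; exact hQb) (by
      rw [LinearEquiv.mul_apply, LinearEquiv.mul_apply, hhb, ← LinearEquiv.mul_apply, inv_mul_cancel]
      exact hz)
  rintro _ ⟨u, hu, rfl⟩
  refine ⟨(g⁻¹ * (h * g)) u, h1 u hu, ?_⟩
  change g ((g⁻¹ * (h * g)) u) = h (g u)
  rw [← LinearEquiv.mul_apply, ← mul_assoc, mul_inv_cancel, one_mul]; rfl

/-- Siegel elements fixing a singular vector of `B` -/
theorem B1_sieg {b : V} (hb : b ∈ W2.map g.toLinearMap) (hb0 : b ≠ 0) (hQb : Q b = 0) {u v : V} (hS : SI Q M u v)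
    (hub : polar Q u b = 0) (hvb : polar Q v b = 0) {b' : V} (hb' : b' ∈ W2.map g.toLinearMap) :
    polar Q u b' • v - polar Q v b' • u - (Q v * polar Q u b') • u ∈ W2.map g.toLinearMap := by
  obtain ⟨h, hh, hhx⟩ := hS
  have h1 := S.B1 hstar hg hb hb0 hQb hh (by rw [hhx, siegMap_apply, hub, hvb]; simp) b' hb'
  have h2 := (W2.map g.toLinearMap).sub_mem h1 hb'
  rw [hhx, siegMap_apply] at h2
  convert h2 using 1
  abel

include hgn

/-- (B2) -/
theorem B2 {b : V} (hb : b ∈ W2.map g.toLinearMap) (hb0 : b ≠ 0) (hQb : Q b = 0) : b ∉ W2 := by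
  obtain ⟨z, hz, rfl⟩ := hb
  intro hmem
  refine hgn (S.stab hstar hg hz ?_ ?_ hmem)
  · rintro rfl
    exact hb0 (map_zero _)
  · rw [← S.le hg]; exact hQb

/-- (B3) -/
theorem B3 {w : V} (hw : w ∈ W) (hwB : w ∈ W2.map g.toLinearMap) (hQw : Q w = 0) : w = 0 := by
  by_contra hw0
  have hgO := S.le hg
  -- `B` is not contained in `W`
  obtain ⟨b, hb, hbW⟩ : ∃ b ∈ W2.map g.toLinearMap, b ∉ W := by
    by_contra hcon
    push Not at hcon
    obtain ⟨z, hz, rfl⟩ := hwB
    have hgz : (g.toLinearMap : V → V) z = g z := rfl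
    rw [hgz] at hQw hw0
    have hz0 : z ≠ 0 := by
      rintro rfl
      exact hw0 (map_zero _)
    obtain ⟨z', hz', e, he, f, hf, hQz', hQe, hQf, hzz', hef, hze, hzf, hz'e, hz'f⟩ := S.plus z hz hz0 (by rw [← hgO]; exact hQw)
    obtain ⟨c, hc⟩ := S.minus (g z) hw (g e) (hcon _ ⟨e, he, rfl⟩) hQw (by rw [hgO]; exact hQe) (by rw [O_polar hgO]; exact hze) hw0
    rw [← LinearEquiv.map_smul] at hc
    have hec := g.injective hc
    rw [hec, polar_smul_left, hzf, smul_zero] at hef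
    exact zero_ne_one hef
  -- a singular vector of `W2` not orthogonal to `b`
  obtain ⟨z, hz, hQz, hzb⟩ : ∃ z ∈ W2, Q z = 0 ∧ polar Q z b ≠ 0 := by
    by_contra hcon
    push Not at hcon
    apply hbW
    rw [← S.perpW2, mem_perp]
    have h3 := S.dim2
    obtain ⟨e, he, f, hf, hQe, hQf, hef⟩ := exists_pair_in S.nd S.hW2 (by omega)
    have h1 : W2 ≤ LinearMap.ker (polarBilin Q b) := sing_span he hf hQe hQf hef (fun z hz hQz => by
      change polar Q b z = 0
      rw [polar_comm]; exact hcon z hz hQz)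
    intro a ha
    rw [polar_comm]
    exact h1 ha
  have hz0 : z ≠ 0 := by
    rintro rfl
    exact hzb (polar_zero_left _ _)
  obtain ⟨z', hz', e, he, f, hf, hQz', hQe, hQf, hzz', hef, hze, hzf, hz'e, hz'f⟩ := S.plus z hz hz0 hQz
  have h1 := S.B1_sieg hstar hg hwB hw0 hQw (S.S2 z hz e he hQz hze) (by rw [polar_comm]; exact S.orth w hw z hz)
    (by rw [polar_comm]; exact S.orth w hw e he) hb
  rw [hQe, zero_mul, zero_smul, sub_zero] at h1
  refine S.B2 hstar hg hgn h1 ?_ ?_ (W2.sub_mem (W2.smul_mem _ he) (W2.smul_mem _ hz))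
  · intro h0
    have h2 : polar Q (polar Q z b • e - polar Q e b • z) f = 0 := by rw [h0, polar_zero_left]
    rw [polar_sub_left, polar_smul_left, polar_smul_left, hef, hzf] at h2
    exact hzb (by simpa using h2)
  · rw [Q_sub, Q_smul, Q_smul, hQe, hQz, polar_smul_left, polar_smul_right, polar_comm Q e z, hze]; simp

/-- the second form of the trick -/
theorem trick {b : V} (hb : b ∈ W2.map g.toLinearMap) (hb0 : b ≠ 0) (hQb : Q b = 0) {w : V} (hw : w ∈ W) (hQw : Q w = 0)
    (hwb : polar Q w b = 0) {y y' : V} (hy : y ∈ W) (hy' : y' ∈ W) (hwy : polar Q w y = 0) (hwy' : polar Q w y' = 0)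
    (hyb : polar Q y b = 0) (hyb' : polar Q y' b = 0) (hyy : polar Q y y' ≠ 0) :
    ∀ b' ∈ W2.map g.toLinearMap, polar Q w b' = 0 := by
  intro b' hb'
  by_contra hne
  have h1 := S.B1_sieg hstar hg hb hb0 hQb (S.S1 w hw y hy hQw hwy) hwb hyb hb'
  have h2 := S.B1_sieg hstar hg hb hb0 hQb (S.S1 w hw y' hy' hQw hwy') hwb hyb' hb'
  have h3 := S.B1_sieg hstar hg hb hb0 hQb (S.S1 w hw (y + y') (W.add_mem hy hy') hQw (by rw [polar_add_right, hwy, hwy', add_zero]))
    hwb (by rw [polar_add_left, hyb, hyb', add_zero]) hb'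
  have h4 := (W2.map g.toLinearMap).sub_mem ((W2.map g.toLinearMap).add_mem h1 h2) h3
  have e : polar Q w b' • y - polar Q y b' • w - (Q y * polar Q w b') • w +
      (polar Q w b' • y' - polar Q y' b' • w - (Q y' * polar Q w b') • w) -
      (polar Q w b' • (y + y') - polar Q (y + y') b' • w - (Q (y + y') * polar Q w b') • w) =
      (polar Q y y' * polar Q w b') • w := by
    rw [polar_add_left, Q_add]
    module
  rw [e] at h4
  have hc : polar Q y y' * polar Q w b' ≠ 0 := mul_ne_zero hyy hne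
  have h5 := S.B3 hstar hg hgn (W.smul_mem _ hw) h4 (by rw [Q_smul, hQw, mul_zero])
  rcases smul_eq_zero.1 h5 with h | h
  · exact hc h
  · rw [h, polar_zero_left] at hne
    exact hne rfl

/-- the scalar form of the trick -/
theorem trick' (hF : ∃ l : F, l ≠ 0 ∧ l ≠ 1) {b : V} (hb : b ∈ W2.map g.toLinearMap) (hb0 : b ≠ 0) (hQb : Q b = 0) {w : V}
    (hw : w ∈ W) (hQw : Q w = 0) (hwb : polar Q w b = 0) {y : V} (hy : y ∈ W) (hwy : polar Q w y = 0)
    (hyb : polar Q y b = 0) (hQy : Q y ≠ 0) :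
    ∀ b' ∈ W2.map g.toLinearMap, polar Q w b' = 0 := by
  obtain ⟨l, hl0, hl1⟩ := hF
  intro b' hb'
  by_contra hne
  have h1 := S.B1_sieg hstar hg hb hb0 hQb (S.S1 w hw y hy hQw hwy) hwb hyb hb'
  have h2 := S.B1_sieg hstar hg hb hb0 hQb (S.S1 w hw (l • y) (W.smul_mem _ hy) hQw (by rw [polar_smul_right, hwy, smul_zero])) hwb
    (by rw [polar_smul_left, hyb, smul_zero]) hb'
  have h4 := (W2.map g.toLinearMap).sub_mem ((W2.map g.toLinearMap).smul_mem l h1) h2
  have e : l • (polar Q w b' • y - polar Q y b' • w - (Q y * polar Q w b') • w) -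
      (polar Q w b' • (l • y) - polar Q (l • y) b' • w - (Q (l • y) * polar Q w b') • w) =
      ((l * (l - 1)) * (Q y * polar Q w b')) • w := by
    rw [polar_smul_left, Q_smul]
    simp only [smul_eq_mul]
    module
  rw [e] at h4
  have hc : (l * (l - 1)) * (Q y * polar Q w b') ≠ 0 := mul_ne_zero (mul_ne_zero hl0 (sub_ne_zero.2 hl1)) (mul_ne_zero hQy hne)
  have h5 := S.B3 hstar hg hgn (W.smul_mem _ hw) h4 (by rw [Q_smul, hQw, mul_zero])
  rcases smul_eq_zero.1 h5 with h | h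
  · exact hc h
  · rw [h, polar_zero_left] at hne
    exact hne rfl

/-- decomposition of a singular vector of `B` -/
theorem exists_comp {b : V} (hb : b ∈ W2.map g.toLinearMap) (hb0 : b ≠ 0) (hQb : Q b = 0) :
    ∃ bW ∈ W, ∃ b2 ∈ W2, bW + b2 = b ∧ bW ≠ 0 := by
  obtain ⟨w, hw, x, hx, hwx⟩ := S.sup b
  refine ⟨w, hw, x, hx, hwx, ?_⟩
  rintro rfl
  rw [zero_add] at hwx
  exact S.B2 hstar hg hgn hb hb0 hQb (hwx ▸ hx)

omit hstar hgn in
/-- singular vectors of `B` are not orthogonal to `B` -/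
theorem not_perp {b : V} (hb : b ∈ W2.map g.toLinearMap) (hb0 : b ≠ 0) (h : ∀ b' ∈ W2.map g.toLinearMap, polar Q b b' = 0) :
    False := by
  have h1 := nds_map S.hW2 (S.le hg)
  have h2 : b ∈ W2.map g.toLinearMap ⊓ perp Q (W2.map g.toLinearMap) := ⟨hb, mem_perp.2 fun a ha => by
    rw [polar_comm]; exact h a ha⟩
  rw [show _ ⊓ _ = ⊥ from h1, Submodule.mem_bot] at h2
  exact hb0 h2

/-- `bW` is nonsingular -/
theorem nonsing {b : V} (hb : b ∈ W2.map g.toLinearMap) (hb0 : b ≠ 0) (hQb : Q b = 0) {bW b2 : V} (hbW : bW ∈ W) (hb2 : b2 ∈ W2)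
    (hsum : bW + b2 = b) (hbW0 : bW ≠ 0) : Q bW ≠ 0 := by
  intro hQ
  have hpW : ∀ w ∈ W, polar Q w b = polar Q w bW := by
    intro w hw
    rw [← hsum, polar_add_right, S.orth w hw b2 hb2, add_zero]
  have hp2 : ∀ x ∈ W2, polar Q x b = polar Q x b2 := by
    intro x hx
    rw [← hsum, polar_add_right, polar_comm Q x bW, S.orth bW hbW x hx, zero_add]
  have hbb : polar Q bW bW = 0 := by rw [polar_self', hQ, mul_zero]
  -- two non-orthogonal vectors of `W` orthogonal to `bW`
  obtain ⟨t, ht, -, htb⟩ := exists_one_in S.nd S.hW bot_le hbW (by simpa using hbW0)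
  obtain ⟨ht1, ht2⟩ := adjust_singular hQ htb
  set t' := t - Q t • bW with ht'
  have ht'W : t' ∈ W := W.sub_mem ht (W.smul_mem _ hbW)
  have hdim := S.dim
  have hcut := finrank_cut S.nd W bW t'
  have hnd := nds_cut S.nd S.hW hbW ht'W hQ ht1 ht2
  obtain ⟨y, hy, hy0⟩ : ∃ y ∈ W ⊓ perp Q (Submodule.span F {bW, t'}), y ≠ 0 := by
    apply Submodule.exists_mem_ne_zero_of_ne_bot
    intro h
    rw [h, finrank_bot] at hcut
    omega
  obtain ⟨y', hy', -, hyy'⟩ := exists_one_in S.nd hnd bot_le hy (by simpa using hy0)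
  obtain ⟨hyW, hby, -⟩ := mem_cut.1 hy
  obtain ⟨hy'W, hby', -⟩ := mem_cut.1 hy'
  have hperp := S.trick hstar hg hgn hb hb0 hQb hbW hQ (by rw [hpW bW hbW, hbb]) hyW hy'W hby hby'
    (by rw [hpW y hyW, polar_comm]; exact hby) (by rw [hpW y' hy'W, polar_comm]; exact hby') (by rw [hyy']; exact one_ne_zero)
  -- `b2` is singular and not orthogonal to `B`
  have hQ2 : Q b2 = 0 := by
    have h1 := hQb
    rw [← hsum, Q_add, hQ, S.orth bW hbW b2 hb2] at h1
    simpa using h1
  have hb20 : b2 ≠ 0 := by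
    rintro rfl
    rw [add_zero] at hsum
    subst hsum
    exact S.not_perp hg hb hb0 hperp
  obtain ⟨z', hz', e, he, f, hf, hQz', hQe, hQf, hzz', hef, hze, hzf, hz'e, hz'f⟩ := S.plus b2 hb2 hb20 hQ2
  apply S.not_perp hg hb hb0
  intro b' hb'
  rw [← hsum, polar_add_left, hperp b' hb', zero_add]
  by_contra hne
  have h1 := S.B1_sieg hstar hg hb hb0 hQb (S.S2 b2 hb2 e he hQ2 hze) (by
    rw [hp2 b2 hb2, polar_self', hQ2, mul_zero]) (by rw [hp2 e he, polar_comm]; exact hze) hb'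
  rw [hQe, zero_mul, zero_smul, sub_zero] at h1
  refine S.B2 hstar hg hgn h1 ?_ ?_ (W2.sub_mem (W2.smul_mem _ he) (W2.smul_mem _ hb2))
  · intro h0
    have h2 : polar Q (polar Q b2 b' • e - polar Q e b' • b2) f = 0 := by rw [h0, polar_zero_left]
    rw [polar_sub_left, polar_smul_left, polar_smul_left, hef, hzf] at h2
    exact hne (by simpa using h2)
  · rw [Q_sub, Q_smul, Q_smul, hQe, hQ2, polar_smul_left, polar_smul_right, polar_comm Q e b2, hze]; simp

end conj

omit S in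
/-- a hyperbolic pair in `W` orthogonal to a nonsingular vector -/
theorem _root_.Cfsg.Agent.Lib.LowNd44.exists_pair_perp (hQ : Nd Q) {A : Submodule F V} (hA : NDs Q A) (hd : 4 ≤ finrank F A) {v : V} (hv : v ∈ A)
    (hQv : Q v ≠ 0) : ∃ w ∈ A, ∃ w' ∈ A, Q w = 0 ∧ Q w' = 0 ∧ polar Q w w' = 1 ∧ polar Q w v = 0 ∧ polar Q w' v = 0 := by
  have h1 := hQ.finrank_add_finrank_perp (Submodule.span F {v})
  have hv0 : v ≠ 0 := by
    rintro rfl
    exact hQv (QuadraticMap.map_zero Q)
  rw [finrank_span_singleton hv0] at h1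
  have h2 := Submodule.finrank_sup_add_finrank_inf_eq A (perp Q (Submodule.span F {v}))
  have h3 := Submodule.finrank_le (A ⊔ perp Q (Submodule.span F {v}))
  obtain ⟨w, hw, hw0, hQw⟩ := exists_sing_in (Q := Q) (A ⊓ perp Q (Submodule.span F {v})) (by omega)
  have hwv : polar Q w v = 0 := by
    rw [polar_comm]; exact mem_perp.1 hw.2 v (Submodule.mem_span_singleton_self v)
  -- a vector of `A` orthogonal to `v`, not orthogonal to `w`
  obtain ⟨y, hyA, hyv, hwy⟩ := exists_one_in hQ hA ((Submodule.span_singleton_le_iff_mem _ _).2 hv) hw.1 (B := F ∙ v) (by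
    intro hmem
    obtain ⟨c, hc⟩ := Submodule.mem_span_singleton.1 hmem
    rw [← hc, Q_smul] at hQw
    rcases mul_eq_zero.1 hQw with h | h
    · have : c = 0 := by simpa using h
      rw [this, zero_smul] at hc
      exact hw0 hc.symm
    · exact hQv h)
  obtain ⟨a1, a2⟩ := adjust_singular hQw hwy
  refine ⟨w, hw.1, _, A.sub_mem hyA (A.smul_mem (Q y) hw.1), hQw, a1, a2, hwv, ?_⟩
  rw [polar_sub_left, polar_smul_left, hwv, smul_zero, sub_zero, polar_comm]
  exact hyv v (Submodule.mem_span_singleton_self v)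

section conj2

variable (hstar : ∀ z ∈ W2, z ≠ 0 → Q z = 0 → ∀ y, polar Q z y = 0 → SI Q M z y → y ∈ W2)
  {g : V ≃ₗ[F] V} (hg : g ∈ M) (hgn : ¬ ∀ u ∈ W2, g u ∈ W2)
include hstar hg hgn

/-- over fields with more than two elements there is no conjugate -/
theorem no_conj (hF : ∃ l : F, l ≠ 0 ∧ l ≠ 1) : False := by
  have h2 := S.dim2
  obtain ⟨z, hz, z', hz', hQz, hQz', hzz'⟩ := exists_pair_in S.nd S.hW2 (by omega)
  have hz0 : z ≠ 0 := by rintro rfl; rw [polar_zero_left] at hzz'; exact zero_ne_one hzz'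
  set b := g z with hbdef
  have hb : b ∈ W2.map g.toLinearMap := ⟨z, hz, rfl⟩
  have hb0 : b ≠ 0 := fun h => hz0 (g.map_eq_zero_iff.1 h)
  have hQb : Q b = 0 := by rw [hbdef, S.le hg]; exact hQz
  obtain ⟨bW, hbW, b2, hb2, hsum, hbW0⟩ := S.exists_comp hstar hg hgn hb hb0 hQb
  have hns := S.nonsing hstar hg hgn hb hb0 hQb hbW hb2 hsum hbW0
  have hpW : ∀ w ∈ W, polar Q w b = polar Q w bW := by
    intro w hw
    rw [← hsum, polar_add_right, S.orth w hw b2 hb2, add_zero]
  -- singular vectors of `bW^⊥ ∩ W` are orthogonal to `B`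
  have hd := S.dim
  have key : ∀ w ∈ W, Q w = 0 → polar Q w bW = 0 → ∀ b' ∈ W2.map g.toLinearMap, polar Q w b' = 0 := by
    intro w hw hQw hwb
    by_cases hw0 : w = 0
    · intro b' _
      rw [hw0, polar_zero_left]
    -- `y ∈ ⟨w, bW⟩^⊥ ∩ W` outside `⟨w⟩`
    have hcut := finrank_cut S.nd W w bW
    obtain ⟨y, hy, hyw⟩ : ∃ y ∈ W ⊓ perp Q (Submodule.span F {w, bW}), y ∉ Submodule.span F {w} := by
      by_contra hcon
      push Not at hcon
      have := Submodule.finrank_mono (show W ⊓ perp Q (Submodule.span F {w, bW}) ≤ Submodule.span F {w} from hcon)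
      rw [finrank_span_singleton hw0] at this
      omega
    obtain ⟨hyW, hwy, hby⟩ := mem_cut.1 hy
    have hQy : Q y ≠ 0 := by
      intro h
      obtain ⟨c, rfl⟩ := S.minus w hw y hyW hQw h hwy hw0
      exact hyw (Submodule.smul_mem _ _ (Submodule.mem_span_singleton_self w))
    exact S.trick' hstar hg hgn hF hb hb0 hQb hw hQw (by rw [hpW w hw]; exact hwb) hyW hwy
      (by rw [hpW y hyW, polar_comm]; exact hby) hQy
  obtain ⟨w, hw, w', hw', hQw, hQw', hww', hwb, hw'b⟩ := exists_pair_perp S.nd S.hW (by omega) hbW hns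
  -- `bW^⊥ ∩ W ≤ B^⊥`
  set D : Submodule F V := W ⊓ perp Q (Submodule.span F {bW, bW}) with hD
  have hDB : ∀ d ∈ D, ∀ b' ∈ W2.map g.toLinearMap, polar Q d b' = 0 := by
    intro d hd b' hb'
    have h1 : D ≤ LinearMap.ker (polarBilin Q b') := sing_span (mem_cut.2 ⟨hw, by rw [polar_comm]; exact hwb, by rw [polar_comm]; exact hwb⟩)
      (mem_cut.2 ⟨hw', by rw [polar_comm]; exact hw'b, by rw [polar_comm]; exact hw'b⟩) hQw hQw' hww' (fun z hz hQz => by
      obtain ⟨a1, a2, -⟩ := mem_cut.1 hz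
      change polar Q b' z = 0
      rw [polar_comm]; exact key z a1 hQz (by rw [polar_comm]; exact a2) b' hb')
    have h2 : polar Q b' d = 0 := h1 hd
    rw [polar_comm]; exact h2
  -- hence `B ∩ W2` has dimension at least three
  set B := W2.map g.toLinearMap with hB
  have hBdim : finrank F B = 4 := by rw [hB, LinearEquiv.finrank_map_eq g W2, h2]
  -- a vector `t ∈ W` with `(bW, t) = 1`
  obtain ⟨t, ht, -, hbt⟩ := exists_one_in S.nd S.hW bot_le hbW (by simpa using hbW0)
  have hle : B ⊓ perp Q (Submodule.span F {t, t}) ≤ W2 := by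
    intro x hx
    obtain ⟨hxB, htx, -⟩ := mem_cut.1 hx
    rw [← S.perpW, mem_perp]
    intro a ha
    have h3 : a - polar Q a bW • t ∈ D := by
      refine mem_cut.2 ⟨W.sub_mem ha (W.smul_mem _ ht), ?_, ?_⟩ <;>
      · rw [polar_sub_right, polar_smul_right, hbt, polar_comm Q bW a]; simp
    have h4 := hDB _ h3 x hxB
    rw [polar_sub_left, polar_smul_left, htx, smul_zero, sub_zero] at h4
    exact h4
  have h5 : 3 ≤ finrank F ↥(B ⊓ perp Q (Submodule.span F {t, t})) := by
    have h6 := Submodule.finrank_sup_add_finrank_inf_eq B (perp Q (Submodule.span F {t, t}))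
    have h7 := S.nd.finrank_add_finrank_perp (Submodule.span F {t, t})
    have h8 : finrank F (Submodule.span F {t, t}) ≤ 1 := by
      have e : ({t, t} : Set V) = {t} := Set.pair_eq_singleton t
      have ht0 : t ≠ 0 := by
        rintro rfl
        rw [polar_zero_right] at hbt
        exact zero_ne_one hbt
      rw [e, finrank_span_singleton ht0]
    have h9 := Submodule.finrank_le (B ⊔ perp Q (Submodule.span F {t, t}))
    omega
  obtain ⟨s, hs, hs0, hQs⟩ := exists_sing_in (Q := Q) _ h5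
  exact S.B2 hstar hg hgn hs.1 hs0 hQs (hle hs)

/-- over the field with two elements there is no conjugate -/
theorem no_conj2 (hF : ∀ c : F, c = 0 ∨ c = 1) : False := by
  have h20 : (2 : F) = 0 := by
    rcases hF 2 with h | h
    · exact h
    · exfalso
      have h1 : (1 : F) = 0 := by linear_combination h
      exact one_ne_zero h1
  have hneg : ∀ c : F, -c = c := fun c => by linear_combination (-c) * h20
  have hnegv : ∀ x : V, -x = x := fun x => by
    have h1 : (-1 : F) • x = (1 : F) • x := by rw [hneg]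
    rwa [neg_smul, one_smul] at h1
  have hsub : ∀ x y : V, x - y = x + y := fun x y => by rw [sub_eq_add_neg, hnegv]
  have hself : ∀ x : V, polar Q x x = 0 := fun x => by rw [polar_self', h20, zero_mul]
  have hnz : ∀ c : F, c ≠ 0 → c = 1 := fun c hc => (hF c).resolve_left hc
  have h2 := S.dim2
  obtain ⟨z, hz, z', hz', hQz, hQz', hzz'⟩ := exists_pair_in S.nd S.hW2 (by omega)
  have hz0 : z ≠ 0 := by rintro rfl; rw [polar_zero_left] at hzz'; exact zero_ne_one hzz'
  set b := g z with hbdef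
  have hb : b ∈ W2.map g.toLinearMap := ⟨z, hz, rfl⟩
  have hb0 : b ≠ 0 := fun h => hz0 (g.map_eq_zero_iff.1 h)
  have hQb : Q b = 0 := by rw [hbdef, S.le hg]; exact hQz
  obtain ⟨bW, hbW, b2, hb2, hsum, hbW0⟩ := S.exists_comp hstar hg hgn hb hb0 hQb
  have hns := S.nonsing hstar hg hgn hb hb0 hQb hbW hb2 hsum hbW0
  have hQbW : Q bW = 1 := hnz _ hns
  have hQb2 : Q b2 = 1 := by
    have h1 := hQb
    rw [← hsum, Q_add, hQbW, S.orth bW hbW b2 hb2, add_zero] at h1
    linear_combination h1 - h20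
  have hb20 : b2 ≠ 0 := by
    rintro rfl
    rw [QuadraticMap.map_zero] at hQb2
    exact zero_ne_one hQb2
  have hpW : ∀ w ∈ W, polar Q w b = polar Q w bW := by
    intro w hw
    rw [← hsum, polar_add_right, S.orth w hw b2 hb2, add_zero]
  have hp2 : ∀ x ∈ W2, polar Q x b = polar Q x b2 := by
    intro x hx
    rw [← hsum, polar_add_right, polar_comm Q x bW, S.orth bW hbW x hx, zero_add]
  set B := W2.map g.toLinearMap with hB
  -- products of reflections fixing `b`
  have hr : ∀ u v, (u ∈ W ∨ u ∈ W2) → (v ∈ W ∨ v ∈ W2) → Q u = 1 → Q v = 1 → polar Q u b = 0 → polar Q v b = 0 →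
      ∀ b' ∈ B, polar Q v b' • v + polar Q u b' • u + (polar Q v b' * polar Q u v) • u ∈ B := by
    intro u v hu hv hQu hQv hub hvb b' hb'
    have hQu0 : Q u ≠ 0 := by rw [hQu]; exact one_ne_zero
    have hQv0 : Q v ≠ 0 := by rw [hQv]; exact one_ne_zero
    have hrx : ∀ x, (refl Q u * refl Q v) x = x + (polar Q v x • v + polar Q u x • u + (polar Q v x * polar Q u v) • u) := by
      intro x
      rw [LinearEquiv.mul_apply, refl_apply hQv0, refl_apply hQu0, hQu, hQv, inv_one, one_mul, one_mul, hsub, hsub,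
        polar_add_right, polar_smul_right, smul_eq_mul]
      module
    have h1 := S.B1 hstar hg hb hb0 hQb (S.refl_mem u v hu hv hQu0 (by rw [hQu, hQv])) (by
      rw [hrx, hub, hvb]; simp) b' hb'
    have h3 := B.sub_mem h1 hb'
    rw [hrx, add_sub_cancel_left] at h3
    exact h3
  -- (a)
  have hra : ∀ u ∈ W2, ∀ v ∈ W, Q u = 1 → Q v = 1 → polar Q u b = 0 → polar Q v b = 0 →
      ∀ b' ∈ B, polar Q v b' • v + polar Q u b' • u ∈ B := by
    intro u hu v hv hQu hQv hub hvb b' hb'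
    have h1 := hr u v (Or.inr hu) (Or.inl hv) hQu hQv hub hvb b' hb'
    rw [polar_comm Q u v, S.orth v hv u hu, mul_zero, zero_smul, add_zero] at h1
    exact h1
  -- singular differences
  have hsame : ∀ A : Submodule F V, (A = W ∨ A = W2) → ∀ v ∈ A, ∀ v' ∈ A, Q v = 1 → Q v' = 1 → polar Q v b = 0 → polar Q v' b = 0 →
      polar Q v v' = 0 → v ≠ v' → (∀ b' ∈ B, polar Q v b' = 0) ∨ (∀ b' ∈ B, polar Q v' b' = 0) := by
    intro A hA v hv v' hv' hQv hQv' hvb hvb' hvv' hne
    by_contra hcon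
    push Not at hcon
    obtain ⟨⟨b1, hb1, hvb1⟩, ⟨b3, hb3, hvb3⟩⟩ := hcon
    have hmem : ∀ x, x ∈ A → (x ∈ W ∨ x ∈ W2) := by
      rintro x hx
      rcases hA with rfl | rfl
      · exact Or.inl hx
      · exact Or.inr hx
    -- no vector has both products one
    have hno : ∀ b' ∈ B, polar Q v b' = 1 → polar Q v' b' = 1 → False := by
      intro b' hb' h1 h3
      have h4 := hr v v' (hmem v hv) (hmem v' hv') hQv hQv' hvb hvb' b' hb'
      rw [h1, h3, hvv', mul_zero, zero_smul, add_zero, one_smul, one_smul] at h4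
      have hs0 : v' + v ≠ 0 := by
        intro h0
        apply hne
        have := eq_neg_of_add_eq_zero_left h0
        rw [hnegv] at this
        exact this.symm
      have hQs : Q (v' + v) = 0 := by
        rw [Q_add, hQv, hQv', polar_comm, hvv']
        linear_combination h20
      rcases hA with rfl | rfl
      · exact hs0 (S.B3 hstar hg hgn (A.add_mem hv' hv) h4 hQs)
      · exact S.B2 hstar hg hgn h4 hs0 hQs (A.add_mem hv' hv)
    have h1 := hnz _ hvb1
    have h3 := hnz _ hvb3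
    have h4 : polar Q v' b1 = 0 := by
      rcases hF (polar Q v' b1) with h | h
      · exact h
      · exact absurd (hno b1 hb1 h1 h) id
    have h5 : polar Q v b3 = 0 := by
      rcases hF (polar Q v b3) with h | h
      · exact h
      · exact absurd (hno b3 hb3 h h3) id
    exact hno (b1 + b3) (B.add_mem hb1 hb3) (by rw [polar_add_right, h1, h5, add_zero]) (by rw [polar_add_right, h4, h3, zero_add])
  have hbWb : polar Q bW b = 0 := by rw [hpW bW hbW, hself]
  have hb2b : polar Q b2 b = 0 := by rw [hp2 b2 hb2, hself]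
  obtain ⟨b₀, hb₀, hbb₀⟩ : ∃ b' ∈ B, polar Q b b' = 1 := by
    by_contra hcon
    push Not at hcon
    apply S.not_perp hg hb hb0
    intro b' hb'
    exact (hF _).resolve_right (hcon b' hb')
  -- neither component is orthogonal to `B`
  have hn2 : ¬ ∀ b' ∈ B, polar Q b2 b' = 0 := by
    intro h
    have h1 := hra b2 hb2 bW hbW hQb2 hQbW hb2b hbWb b₀ hb₀
    have h3 : polar Q bW b₀ = 1 := by
      rw [← hsum, polar_add_left, h b₀ hb₀, add_zero] at hbb₀; exact hbb₀
    rw [h b₀ hb₀, h3, one_smul, zero_smul, add_zero] at h1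
    have h4 : b2 ∈ B := by
      have := B.sub_mem hb h1
      rwa [← hsum, add_sub_cancel_left] at this
    exact S.not_perp hg h4 hb20 h
  have hnW : ¬ ∀ b' ∈ B, polar Q bW b' = 0 := by
    intro h
    have h1 := hra b2 hb2 bW hbW hQb2 hQbW hb2b hbWb b₀ hb₀
    have h3 : polar Q b2 b₀ = 1 := by
      rw [← hsum, polar_add_left, h b₀ hb₀, zero_add] at hbb₀; exact hbb₀
    rw [h b₀ hb₀, h3, one_smul, zero_smul, zero_add] at h1
    have h4 : bW ∈ B := by
      have := B.sub_mem hb h1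
      rwa [← hsum, add_sub_cancel_right] at this
    exact S.not_perp hg h4 hbW0 h
  -- two hyperbolic pairs
  have hd := S.dim
  obtain ⟨w, hw, w', hw', hQw, hQw', hww', hwb, hw'b⟩ := exists_pair_perp S.nd S.hW (by omega) hbW hns
  obtain ⟨u, hu, u', hu', hQu, hQu', huu', hub, hu'b⟩ := exists_pair_perp S.nd S.hW2 (by omega) hb2 (by rw [hQb2]; exact one_ne_zero)
  have hw0 : w ≠ 0 := by rintro rfl; rw [polar_zero_left] at hww'; exact zero_ne_one hww'
  have hw'0 : w' ≠ 0 := by rintro rfl; rw [polar_zero_right] at hww'; exact zero_ne_one hww'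
  have hu0 : u ≠ 0 := by rintro rfl; rw [polar_zero_left] at huu'; exact zero_ne_one huu'
  have hu'0 : u' ≠ 0 := by rintro rfl; rw [polar_zero_right] at huu'; exact zero_ne_one huu'
  have hWs : ∀ x ∈ W, x ≠ 0 → Q x = 0 → polar Q x bW = 0 → ∀ b' ∈ B, polar Q (bW + x) b' = 0 := by
    intro x hx hx0 hQx hxb
    refine (hsame W (Or.inl rfl) bW hbW (bW + x) (W.add_mem hbW hx) hQbW ?_ hbWb ?_ ?_ ?_).resolve_left hnW
    · rw [Q_add, hQbW, hQx, polar_comm, hxb]; simp
    · rw [polar_add_left, hbWb, hpW x hx, hxb, add_zero]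
    · rw [polar_add_right, hself, polar_comm, hxb, add_zero]
    · intro h
      exact hx0 (by simpa using h)
  have h2s : ∀ x ∈ W2, x ≠ 0 → Q x = 0 → polar Q x b2 = 0 → ∀ b' ∈ B, polar Q (b2 + x) b' = 0 := by
    intro x hx hx0 hQx hxb
    refine (hsame W2 (Or.inr rfl) b2 hb2 (b2 + x) (W2.add_mem hb2 hx) hQb2 ?_ hb2b ?_ ?_ ?_).resolve_left hn2
    · rw [Q_add, hQb2, hQx, polar_comm, hxb]; simp
    · rw [polar_add_left, hb2b, hp2 x hx, hxb, add_zero]
    · rw [polar_add_right, hself, polar_comm, hxb, add_zero]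
    · intro h
      exact hx0 (by simpa using h)
  -- two orthogonal singular vectors in `g W`
  obtain ⟨s₁, hs₁⟩ : ∃ s, s = (bW + w) + (b2 + u) := ⟨_, rfl⟩
  obtain ⟨s₂, hs₂⟩ : ∃ s, s = (bW + w') + (b2 + u') := ⟨_, rfl⟩
  have hgO := S.le hg
  have hperpB : ∀ s, (∀ b' ∈ B, polar Q s b' = 0) → g⁻¹ s ∈ W := by
    intro s hs
    rw [← S.perpW2, mem_perp]
    intro a ha
    rw [← O_polar hgO]
    have : g (g⁻¹ s) = s := by
      change (g * g⁻¹) s = s
      rw [mul_inv_cancel]; rfl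
    rw [this, polar_comm]
    exact hs (g a) ⟨a, ha, rfl⟩
  have hQ1 : Q s₁ = 0 := by
    rw [hs₁, Q_add, Q_add, Q_add, S.orth _ (W.add_mem hbW hw) _ (W2.add_mem hb2 hu), hQbW, hQb2, hQw, hQu, polar_comm Q bW w, hwb,
      polar_comm Q b2 u, hub]
    linear_combination h20
  have hQ2 : Q s₂ = 0 := by
    rw [hs₂, Q_add, Q_add, Q_add, S.orth _ (W.add_mem hbW hw') _ (W2.add_mem hb2 hu'), hQbW, hQb2, hQw', hQu', polar_comm Q bW w', hw'b,
      polar_comm Q b2 u', hu'b]
    linear_combination h20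
  have h12 : polar Q s₁ s₂ = 0 := by
    have e1 : polar Q s₁ s₂ = polar Q (bW + w) (bW + w') + polar Q (b2 + u) (b2 + u') := by
      rw [hs₁, hs₂, polar_add_left Q (bW + w) (b2 + u), polar_add_right Q (bW + w) (bW + w') (b2 + u'),
        polar_add_right Q (b2 + u) (bW + w') (b2 + u'), S.orth _ (W.add_mem hbW hw) _ (W2.add_mem hb2 hu'),
        polar_comm Q (b2 + u) (bW + w'), S.orth _ (W.add_mem hbW hw') _ (W2.add_mem hb2 hu)]
      ring
    rw [e1]
    simp only [polar_add_left, polar_add_right, hself, hww', huu', hwb, hub, polar_comm Q bW w', hw'b, polar_comm Q b2 u', hu'b]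
    linear_combination h20
  have hp1 : ∀ b' ∈ B, polar Q s₁ b' = 0 := by
    intro b' hb'
    rw [hs₁, polar_add_left, hWs w hw hw0 hQw hwb b' hb', h2s u hu hu0 hQu hub b' hb', add_zero]
  have hp3 : ∀ b' ∈ B, polar Q s₂ b' = 0 := by
    intro b' hb'
    rw [hs₂, polar_add_left, hWs w' hw' hw'0 hQw' hw'b b' hb', h2s u' hu' hu'0 hQu' hu'b b' hb', add_zero]
  have hgi := (O Q).inv_mem hgO
  have hs₁w : polar Q s₁ w' = 1 := by
    rw [hs₁, polar_add_left, polar_add_left, polar_comm Q bW w', hw'b, hww', polar_comm Q (b2 + u) w', S.orth w' hw' _ (W2.add_mem hb2 hu)]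
    simp
  have hs₂w : polar Q s₂ w' = 0 := by
    rw [hs₂, polar_add_left, polar_add_left, polar_comm Q bW w', hw'b, hself, polar_comm Q (b2 + u') w', S.orth w' hw' _ (W2.add_mem hb2 hu')]
    simp
  have hs₂w2 : polar Q s₂ w = 1 := by
    rw [hs₂, polar_add_left, polar_add_left, polar_comm Q bW w, hwb, polar_comm Q w' w, hww', polar_comm Q (b2 + u') w,
      S.orth w hw _ (W2.add_mem hb2 hu')]
    simp
  obtain ⟨c, hc⟩ := S.minus (g⁻¹ s₁) (hperpB s₁ hp1) (g⁻¹ s₂) (hperpB s₂ hp3) (by rw [hgi]; exact hQ1) (by rw [hgi]; exact hQ2)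
    (by rw [O_polar hgi]; exact h12) (by
      intro h
      have h3 : s₁ = 0 := (g⁻¹ : V ≃ₗ[F] V).map_eq_zero_iff.1 h
      rw [h3, polar_zero_left] at hs₁w
      exact zero_ne_one hs₁w)
  rw [← LinearEquiv.map_smul] at hc
  have hc' := (g⁻¹ : V ≃ₗ[F] V).injective hc
  rw [hc', polar_smul_left, hs₁w] at hs₂w
  have hc0 : c = 0 := by simpa using hs₂w
  rw [hc', hc0, zero_smul, polar_zero_left] at hs₂w2
  exact zero_ne_one hs₂w2

/-- there is no conjugate -/
theorem no_conj' : False := by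
  by_cases hF : ∃ l : F, l ≠ 0 ∧ l ≠ 1
  · exact S.no_conj hstar hg hgn hF
  · push Not at hF
    exact S.no_conj2 hstar hg hgn (fun c => by
      by_cases hc : c = 0
      · exact Or.inl hc
      · exact Or.inr (hF c hc))

end conj2

/-- scaling a singular vector -/
theorem exists_scale {z : V} (hz : z ∈ W2) (hz0 : z ≠ 0) (hQz : Q z = 0) {c : F} (hc : c ≠ 0) :
    ∃ g ∈ M, Fixes Q W2 g ∧ g z = c • z := by
  by_cases hc1 : c = 1
  · exact ⟨1, one_mem _, fun _ _ => rfl, by rw [hc1, one_smul]; rfl⟩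
  have hQ := S.nd
  have hA := S.hW2
  have h := S.S2
  obtain ⟨z', hz'A, z₁, hz₁A, f, hf, hQz', hQz₁, hQf, hzz', hef, hzz₁, hzf, hz'z₁, hz'f⟩ := S.plus z hz hz0 hQz
  have hz₁0 : z₁ ≠ 0 := by rintro rfl; rw [polar_zero_left] at hef; exact zero_ne_one hef
  have hzz : polar Q z z = 0 := by rw [polar_self', hQz, mul_zero]
  have hz₁z₁ : polar Q z₁ z₁ = 0 := by rw [polar_self', hQz₁, mul_zero]
  have hz₁z : polar Q z₁ z = 0 := by rw [polar_comm]; exact hzz₁
  have hind : ∀ a b : F, a • z + b • z₁ = 0 → a = 0 ∧ b = 0 := by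
    intro a b hab
    have h2 : polar Q (a • z + b • z₁) z' = 0 := by rw [hab, polar_zero_left]
    rw [polar_add_left, polar_smul_left, polar_smul_left, hzz', polar_comm Q z₁ z', hz'z₁] at h2
    have ha : a = 0 := by simpa using h2
    rw [ha, zero_smul, zero_add] at hab
    exact ⟨ha, (smul_eq_zero.1 hab).resolve_right hz₁0⟩
  -- z -> z + z₁
  obtain ⟨g₁, hg₁, hf₁, hgz₁⟩ := exists_step hQ hA h hz hz₁A hQz₁ hz₁z (by
    intro hmem
    obtain ⟨a, ha⟩ := Submodule.mem_span_singleton.1 hmem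
    have := (hind 1 (-a) (by rw [← ha]; module)).1
    exact one_ne_zero this)
  -- z + z₁ -> c z + z₁
  obtain ⟨g₂, hg₂, hf₂, hgz₂⟩ := exists_step hQ hA h (u := z + z₁) (v := (c - 1) • z)
    (W2.add_mem hz hz₁A) (W2.smul_mem _ hz) (by rw [Q_smul, hQz, mul_zero])
    (by rw [polar_smul_left, polar_add_right, hzz, hzz₁]; simp) (by
    intro hmem
    obtain ⟨a, ha⟩ := Submodule.mem_span_singleton.1 hmem
    have := (hind (1 - a * (c - 1)) 1 (by
      have e : (1 - a * (c - 1)) • z + (1 : F) • z₁ = (z + z₁) - a • (c - 1) • z := by module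
      rw [e, ha, sub_self])).2
    exact one_ne_zero this)
  -- c z + z₁ -> c z
  obtain ⟨g₃, hg₃, hf₃, hgz₃⟩ := exists_step hQ hA h (u := c • z + z₁) (v := -z₁)
    (W2.add_mem (W2.smul_mem _ hz) hz₁A) (W2.neg_mem hz₁A) (by rw [QuadraticMap.map_neg, hQz₁])
    (by rw [polar_neg_left, polar_add_right, hz₁z₁, polar_smul_right, hz₁z]; simp) (by
    intro hmem
    obtain ⟨a, ha⟩ := Submodule.mem_span_singleton.1 hmem
    have := (hind c (1 + a) (by
      have e : c • z + (1 + a) • z₁ = (c • z + z₁) - a • (-z₁) := by module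
      rw [e, ha, sub_self])).1
    exact hc this)
  refine ⟨g₃ * (g₂ * g₁), mul_mem hg₃ (mul_mem hg₂ hg₁), hf₃.mul (hf₂.mul hf₁), ?_⟩
  rw [LinearEquiv.mul_apply, LinearEquiv.mul_apply, hgz₁, hgz₂,
    show z + z₁ + (c - 1) • z = c • z + z₁ by module, hgz₃]
  module

/-- the conclusion -/
theorem main (hgen : GenHyp Q) (hn4 : 4 ≤ finrank F V) {g : V ≃ₗ[F] V} (hg : g ∈ M) (hgn : ¬ ∀ u ∈ W2, g u ∈ W2) : Om Q ≤ M := by
  obtain ⟨z, hzW2, hz0, hQz, y, hzy, hSy, hyW2⟩ : ∃ z ∈ W2, z ≠ 0 ∧ Q z = 0 ∧ ∃ y, polar Q z y = 0 ∧ SI Q M z y ∧ y ∉ W2 := by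
    by_contra hcon
    push Not at hcon
    exact S.no_conj' hcon hg hgn
  have hQ := S.nd
  obtain ⟨w₁, hw₁, w₂, hw₂, hww⟩ := S.sup y
  have hzW : ∀ w ∈ W, polar Q z w = 0 := fun w hw => by rw [polar_comm]; exact S.orth w hw z hzW2
  have hw₁0 : w₁ ≠ 0 := by
    rintro rfl
    rw [zero_add] at hww
    exact hyW2 (hww ▸ hw₂)
  have hzw₂ : polar Q z w₂ = 0 := by
    have h1 := hzy
    rw [← hww, polar_add_right, hzW w₁ hw₁, zero_add] at h1
    exact h1
  have hSw₁ : SI Q M z w₁ := by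
    have h1 := hSy
    rw [← hww] at h1
    have h2 := h1.sub hQz (by rw [polar_add_right, hzW w₁ hw₁, hzw₂, add_zero]) hzw₂
      (S.S2 z hzW2 w₂ hw₂ hQz hzw₂)
    rwa [add_sub_cancel_right] at h2
  let N : Submodule F V :=
    { carrier := {y | y ∈ W ∧ SI Q M z y}
      add_mem' := fun {a b} ha hb =>
        ⟨W.add_mem ha.1 hb.1, ha.2.add hQz (hzW _ ha.1) (hzW _ hb.1) hb.2⟩
      zero_mem' := ⟨W.zero_mem, SI.zero z⟩
      smul_mem' := fun c y hy => ⟨W.smul_mem c hy.1, by
        by_cases hc : c = 0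
        · rw [hc, zero_smul]; exact SI.zero z
        obtain ⟨h, hh, hfix, hhz⟩ := S.exists_scale hzW2 hz0 hQz hc
        have h1 := hy.2.map hh (S.le hh)
        rw [hhz, hfix y (by rw [S.perpW2]; exact hy.1)] at h1
        exact SI.smul_left.1 h1⟩ }
  have hw₁N : w₁ ∈ N := ⟨hw₁, hSw₁⟩
  have hWN : W ≤ N := by
    have hdW := S.dim
    refine le_of_sieg_stable hQ S.hW (by omega) ?_ hw₁N ?_
    · intro z₃ hz₃ y₃ hy₃ hQz₃ hzy₃ v hv
      obtain ⟨s, hs, hsf, hse⟩ := S.S1.exists_fix hz₃ hy₃ hQz₃ hzy₃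
      have h1 := hv.2.map hs (S.le hs)
      rw [hsf z (by rw [S.perpW]; exact hzW2), hse] at h1
      refine ⟨?_, h1⟩
      rw [siegMap_apply]
      exact W.sub_mem (W.sub_mem (W.add_mem hv.1 (W.smul_mem _ hy₃)) (W.smul_mem _ hz₃))
        (W.smul_mem _ hz₃)
    · intro hcon
      have : w₁ ∈ W ⊓ perp Q W := ⟨hw₁, hcon⟩
      rw [show W ⊓ perp Q W = ⊥ from S.hW, Submodule.mem_bot] at this
      exact hw₁0 this
  have hfull : Full Q M z := by
    refine ⟨hQz, fun y hy => ?_⟩
    obtain ⟨a, ha, b, hb, rfl⟩ := S.sup y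
    have hzb : polar Q z b = 0 := by rw [polar_add_right, hzW a ha, zero_add] at hy; exact hy
    exact (hWN ha).2.add hQz (hzW a ha) hzb (S.S2 z hzW2 b hb hQz hzb)
  obtain ⟨z₄, hz₄, e, heW, f, hfW, hQz₄, hQe, hQf, hzz₄, hef, hze, hzf, hz₄e, hz₄f⟩ := S.plus z hzW2 hz0 hQz
  obtain ⟨s, hs, hse⟩ := S.S2 z₄ hz₄ (e + f) (W2.add_mem heW hfW) hQz₄ (by
    rw [polar_add_right, hz₄e, hz₄f, add_zero])
  have hz₄z : polar Q z₄ z = 1 := by rw [polar_comm]; exact hzz₄
  refine Om_le_of_two hQ hgen hn4 S.le hfull (hfull.map S.le hs) ?_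
  rw [hse, siegMap_apply, polar_sub_right, polar_sub_right, polar_add_right, polar_smul_right,
    polar_smul_right, polar_smul_right, polar_self', hQz, hzz₄, hz₄z, polar_add_right, hze, hzf,
    polar_add_left, polar_comm Q e z, polar_comm Q f z, hze, hzf, Q_add, hQe, hQf, hef]
  simp

end Sit

/-- **stabilisers of nondegenerate 4-spaces of minus type with a complement of plus type** -/
theorem nd44 (hQ : Nd Q) (hgen : GenHyp Q) (hM : M ≤ O Q) {W : Submodule F V} (hW : NDs Q W) (hd : finrank F W = 4)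
    (hd2 : finrank F (perp Q W) = 4)
    (hminus : ∀ U : Submodule F V, U ≤ W → (∀ u ∈ U, Q u = 0) → finrank F U ≠ 2)
    (hplus : ∃ U : Submodule F V, U ≤ perp Q W ∧ (∀ u ∈ U, Q u = 0) ∧ finrank F U = 2)
    (hH : ∀ g ∈ Om Q, (∀ w ∈ W, g w ∈ W) → g ∈ M)
    (hex : ∃ g ∈ M, ∃ w ∈ W, g w ∉ W) : Om Q ≤ M := by
  have hn := hQ.finrank_add_finrank_perp W
  have hn4 : 4 ≤ finrank F V := by omega
  have hpp : perp Q (perp Q W) = W := hQ.perp_perp W
  have hWW2 : ∀ w ∈ W, ∀ x ∈ perp Q W, polar Q w x = 0 := fun w hw x hx => mem_perp.1 hx w hw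
  have hW2nd : NDs Q (perp Q W) := nds_perp hQ hW
  have hS2 : Sin Q M (perp Q W) := by
    intro z hz y hy hQz hzy
    refine ⟨sieg hQ hQz hzy, hH _ (SI_Om hQ hgen _ _) ?_, fun x => by rw [sieg_apply, siegMap_apply]⟩
    intro w hw
    rw [sieg_apply, polar_comm Q z w, hWW2 w hw z hz, polar_comm Q y w, hWW2 w hw y hy]
    simpa using hw
  have hS1 : Sin Q M W := by
    intro z hz y hy hQz hzy
    refine ⟨sieg hQ hQz hzy, hH _ (SI_Om hQ hgen _ _) ?_, fun x => by rw [sieg_apply, siegMap_apply]⟩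
    intro w hw
    rw [sieg_apply]
    exact W.sub_mem (W.sub_mem (W.add_mem hw (W.smul_mem _ hy)) (W.smul_mem _ hz)) (W.smul_mem _ hz)
  -- reflections stabilise `W`
  have hrW : ∀ u, (u ∈ W ∨ u ∈ perp Q W) → Q u ≠ 0 → ∀ w ∈ W, refl Q u w ∈ W := by
    intro u hu hQu w hw
    rw [refl_apply hQu]
    rcases hu with hu | hu
    · exact W.sub_mem hw (W.smul_mem _ hu)
    · rw [polar_comm, hWW2 w hw u hu, mul_zero, zero_smul, sub_zero]; exact hw
  obtain ⟨U, hU, hUs, hUd⟩ := hplus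
  have S : Sit Q M W (perp Q W) :=
    { nd := hQ
      le := hM
      hW := hW
      hW2 := hW2nd
      orth := hWW2
      perpW2 := hpp
      perpW := rfl
      dim := hd
      dim2 := hd2
      plus := by
        intro z hz hz0 hQz
        -- a singular vector orthogonal to `z` outside its span
        have hUp : ∀ u ∈ U, ∀ v ∈ U, polar Q u v = 0 := by
          intro u hu v hv
          rw [polar, hUs _ (U.add_mem hu hv), hUs _ hu, hUs _ hv]; ring
        obtain ⟨u, hu, hQu, hzu, huz⟩ : ∃ u ∈ perp Q W, Q u = 0 ∧ polar Q z u = 0 ∧ u ∉ F ∙ z := by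
          by_cases hzU : z ∈ U
          · obtain ⟨u, hu, huz⟩ : ∃ u ∈ U, u ∉ F ∙ z := by
              by_contra hcon
              push Not at hcon
              have := Submodule.finrank_mono (show U ≤ F ∙ z from hcon)
              rw [finrank_span_singleton hz0] at this
              omega
            exact ⟨u, hU hu, hUs u hu, hUp z hzU u hu, huz⟩
          · have h1 := finrank_cut hQ U z z
            have h2 : finrank F (Submodule.span F {z, z}) = 1 := by
              rw [Set.pair_eq_singleton, finrank_span_singleton hz0]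
            have h3 := Submodule.finrank_sup_add_finrank_inf_eq U (perp Q (Submodule.span F {z, z}))
            have h4 := hQ.finrank_add_finrank_perp (Submodule.span F {z, z})
            have h5 := Submodule.finrank_le (U ⊔ perp Q (Submodule.span F {z, z}))
            obtain ⟨u, hu, hu0⟩ : ∃ u ∈ U ⊓ perp Q (Submodule.span F {z, z}), u ≠ 0 := by
              apply Submodule.exists_mem_ne_zero_of_ne_bot
              intro h
              rw [h, finrank_bot] at h3
              omega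
            obtain ⟨huU, hzu, -⟩ := mem_cut.1 hu
            refine ⟨u, hU huU, hUs u huU, hzu, ?_⟩
            intro hmem
            obtain ⟨c, rfl⟩ := Submodule.mem_span_singleton.1 hmem
            have hc : c ≠ 0 := by
              rintro rfl
              exact hu0 (zero_smul _ _)
            exact hzU ((Submodule.smul_mem_iff U hc).1 huU)
        obtain ⟨z', hz', hQz', hzz'⟩ := exists_partner hQ hW2nd hz hz0 hQz
        have hzz : polar Q z z = 0 := by rw [polar_self', hQz, mul_zero]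
        have hz'z : polar Q z' z = 1 := by rw [polar_comm]; exact hzz'
        have heK : u - polar Q z' u • z ∈ perp Q W ⊓ perp Q (Submodule.span F {z, z'}) := by
          refine mem_cut.2 ⟨(perp Q W).sub_mem hu ((perp Q W).smul_mem _ hz), ?_, ?_⟩
          · rw [polar_sub_right, polar_smul_right, hzu, hzz]; simp
          · rw [polar_sub_right, polar_smul_right, hz'z]; simp
        have he0 : u - polar Q z' u • z ≠ 0 := by
          intro h
          apply huz
          rw [sub_eq_zero.1 h]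
          exact Submodule.smul_mem _ _ (Submodule.mem_span_singleton_self z)
        have hQe : Q (u - polar Q z' u • z) = 0 := by
          rw [Q_sub, Q_smul, hQu, hQz, polar_smul_right, polar_comm Q u z, hzu]; simp
        obtain ⟨f, hf, hQf, hef⟩ := exists_partner hQ (nds_cut hQ hW2nd hz hz' hQz hQz' hzz') heK he0 hQe
        obtain ⟨heW, hze, hz'e⟩ := mem_cut.1 heK
        obtain ⟨hfW, hzf, hz'f⟩ := mem_cut.1 hf
        exact ⟨z', hz', _, heW, f, hfW, hQz', hQe, hQf, hzz', hef, hze, hzf, hz'e, hz'f⟩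
      minus := by
        intro w hw w' hw' hQw hQw' hww' hw0
        by_contra hcon
        push Not at hcon
        have hli : LinearIndependent F ![w, w'] := by
          rw [LinearIndependent.pair_iff' hw0]
          intro a ha
          exact hcon a ha.symm
        have h1 := finrank_span_eq_card hli
        rw [Fintype.card_fin] at h1
        have h2 : Set.range ![w, w'] = {w, w'} := by
          simp [Matrix.range_cons, Matrix.range_empty, Set.pair_comm]
        rw [h2] at h1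
        refine hminus (Submodule.span F {w, w'}) ?_ ?_ h1
        · rw [Submodule.span_le]
          rintro x (rfl | rfl)
          · exact hw
          · exact hw'
        · intro x hx
          obtain ⟨a, b, rfl⟩ := Submodule.mem_span_pair.1 hx
          rw [Q_add, Q_smul, Q_smul, hQw, hQw', polar_smul_left, polar_smul_right, hww']; simp
      S2 := hS2
      S1 := hS1
      refl_mem := by
        intro u v hu hv hQu hQuv
        apply hH
        · rw [hQ.Om_eq_Sg hgen hn4]
          exact refl_mul_refl_mem_Sg' hQ hn4 hQu hQuv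
        · intro w hw
          rw [LinearEquiv.mul_apply]
          exact hrW u hu hQu _ (hrW v hv (hQuv ▸ hQu) w hw) }
  obtain ⟨g, hg, w, hw, hgw⟩ := hex
  refine S.main hgen hn4 hg ?_
  intro h
  apply hgw
  have := OrthNdBridge.stab_perp (hM hg) h
  rw [hpp] at this
  exact this w hw



end Cfsg.Agent.Lib.LowNd44
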