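import Mathlib
import Cfsg.Agent.Lib.SubfSp2

/-!
# Overgroups of `Sp_{2m}(F₀)` in `Sp_{2m}(F)`: rationality of centres (helper98)
-/

set_option autoImplicit false
set_option linter.unusedSectionVars false

namespace Cfsg.Agent.Lib.SubfSp

open Cfsg.Agent.Lib Cfsg.Agent.Lib.SpTrans
open scoped MatrixGroups

variable {F V : Type*} [Field F] [AddCommGroup V] [Module F V]
variable {B : V →ₗ[F] V →ₗ[F] F} {F₀ : Subfield F} {V0 : Submodule F₀ V}
variable (hB : B.IsAlt) {M : Subgroup (V ≃ₗ[F] V)}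
variable (S : SpF B F₀ V0) (H : Hyp B F₀ V0 hB M)
variable (hF : ∀ w ∈ V0, w ≠ 0 → ∀ a : F, tv B hB w a ∈ M → a ∈ F₀)

section

include S H

/-- rational `q` are in `M` -/
theorem qq_rat {w u : V} (hw : w ∈ V0) (hu : u ∈ V0) (h : B w u = 0) : qq hB w u 0 ∈ M := by
  have := qq_of_three hB h (H.mem _ (V0.add_mem hu hw) 1 F₀.one_mem) (H.mem _ hu 1 F₀.one_mem) (H.mem _ hw 1 F₀.one_mem)
  rwa [one_smul] at this

/-- three vectors independent modulo `w₀` -/
theorem exists_three {w₀ u : V} (hw₀ : w₀ ∈ V0) (hw₀0 : w₀ ≠ 0) (hu : u ∈ V0) :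
    ∃ w₁ ∈ V0, ∃ w₂ ∈ V0, B w₁ w₀ = 0 ∧ B w₂ w₀ = 0 ∧ B w₁ w₂ = 0 ∧
    (w₁ ∉ Submodule.span F₀ {w₀, u}) ∧ (w₂ ∉ Submodule.span F₀ {w₀, u}) ∧ (w₁ + w₂ ∉ Submodule.span F₀ {w₀, u}) := by
  classical
  haveI := S.fin
  have hd := S.dim
  haveI : Module.Finite F₀ (Submodule.span F₀ {w₀, u}) := Module.Finite.span_of_finite F₀ (Set.toFinite _)
  obtain ⟨K, hK, hK2, hK3⟩ := S.finrank_perp (K := V0) le_rfl ![w₀] (by intro i; fin_cases i; exact hw₀)
  have hnot : ¬ K ≤ Submodule.span F₀ {w₀, u} := by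
    intro hle
    have := Submodule.finrank_mono hle
    have h2 := finrank_pair hB S H w₀ u
    omega
  obtain ⟨w₁, hw₁, h1⟩ := Set.not_subset.1 hnot
  have hw₁0 : w₁ ∈ V0 := hK hw₁
  have hw₁v : B w₁ w₀ = 0 := ((hK2 w₁).mp hw₁).2 0
  obtain ⟨K', hK', hK2', hK3'⟩ := S.finrank_perp (K := V0) le_rfl ![w₀, w₁] (by
    intro i; fin_cases i
    · exact hw₀
    · exact hw₁0)
  haveI : Module.Finite F₀ (Submodule.span F₀ {w₀, u, w₁}) := Module.Finite.span_of_finite F₀ (Set.toFinite _)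
  have hnot' : ¬ K' ≤ Submodule.span F₀ {w₀, u, w₁} := by
    intro hle
    have := Submodule.finrank_mono hle
    have h2 : Module.finrank F₀ (Submodule.span F₀ {w₀, u, w₁}) ≤ 3 := by
      have h : (({w₀, u, w₁} : Finset V) : Set V) = {w₀, u, w₁} := by simp
      have := finrank_span_finset_le_card (R := F₀) ({w₀, u, w₁} : Finset V)
      rw [Set.finrank, h] at this
      exact this.trans Finset.card_le_three
    omega
  obtain ⟨w₂, hw₂, h2⟩ := Set.not_subset.1 hnot'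
  have hw₂0 : w₂ ∈ V0 := hK' hw₂
  have hw₂v : B w₂ w₀ = 0 := ((hK2' w₂).mp hw₂).2 0
  have hw₂w₁ : B w₂ w₁ = 0 := ((hK2' w₂).mp hw₂).2 1
  have hsub : Submodule.span F₀ {w₀, u} ≤ Submodule.span F₀ {w₀, u, w₁} := Submodule.span_mono (by
    intro x hx
    rcases hx with rfl | rfl
    · simp
    · simp)
  have hw₁s : w₁ ∈ Submodule.span F₀ {w₀, u, w₁} := Submodule.subset_span (by simp)
  refine ⟨w₁, hw₁0, w₂, hw₂0, hw₁v, hw₂v, S.comm0 hw₂w₁, h1, fun h => h2 (hsub h), fun h => h2 ?_⟩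
  have := Submodule.sub_mem _ (hsub h) hw₁s
  rwa [add_sub_cancel_left] at this

/-- from one `q(l u)` to all `q(l w)`, `w` independent of `u` modulo `w₀` -/
theorem spread {w₀ u w : V} {l k : F} (hw₀ : w₀ ∈ V0) (hw₀0 : w₀ ≠ 0) (hu : u ∈ V0) (hu1 : B w₀ u = 0)
    (hu2 : u ∉ Submodule.span F₀ {w₀}) (hw : w ∈ V0)
    (hw1 : B w₀ w = 0) (hw2 : w ∉ Submodule.span F₀ {w₀, u}) (h : qq hB w₀ (l • u) k ∈ M) :
    qq hB w₀ (l • w) (-l ^ 2) ∈ M := by
  classical
  -- one step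
  have step : ∀ a ∈ V0, ∀ b ∈ V0, ∀ k : F, B w₀ a = 0 → B w₀ b = 0 → B a b = 1 → qq hB w₀ (l • a) k ∈ M →
      qq hB w₀ (l • b) (-l ^ 2) ∈ M := by
    intro a ha b hb k h1 h2 h3 h4
    have h5 := qq_map hB H.le (H.mem b hb 1 F₀.one_mem) h4
    have e1 : tv B hB b 1 w₀ = w₀ := by rw [tv_apply, h2]; simp
    have e2 : tv B hB b 1 (l • a) = l • (a + b) := by
      rw [tv_apply, map_smul, LinearMap.smul_apply, h3, smul_eq_mul]
      module
    rw [e1, e2] at h5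
    have h6 := M.mul_mem h5 (M.inv_mem h4)
    have g1 : B w₀ (l • a) = 0 := by rw [map_smul, h1, smul_zero]
    have g2 : B w₀ (l • (a + b)) = 0 := by rw [map_smul, map_add, h1, h2, add_zero, smul_zero]
    rw [qq_inv hB g1, qq_mul hB g2 (by rw [map_neg, g1, neg_zero])] at h6
    have e3 : l • (a + b) + -(l • a) = l • b := by module
    have h7 : B a a = 0 := hB a
    have e4 : k + -k + B (-(l • a)) (l • (a + b)) = -l ^ 2 := by
      simp only [map_neg, map_smul, map_add, LinearMap.neg_apply, LinearMap.smul_apply, smul_eq_mul, h3, h7]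
      ring
    rwa [e3, e4] at h6
  -- a vector `b` with `B u b = 1`, `B b w = 1`, `B w₀ b = 0`
  obtain ⟨b, hb, b1, b2, b3⟩ : ∃ b ∈ V0, B w₀ b = 0 ∧ B u b = 1 ∧ B b w = 1 := by
    -- x₁: orthogonal to w₀, u, product 1 with w
    obtain ⟨x₁, hx₁, y1, y2⟩ := S.exists_sep (W := Submodule.span F₀ {w₀, u}) hw hw2
    have a1 : B x₁ w₀ = 0 := y1 w₀ (Submodule.subset_span (by simp)) hw₀
    have a2 : B x₁ u = 0 := y1 u (Submodule.subset_span (by simp)) hu
    -- x₂: orthogonal to w₀, product 1 with u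
    obtain ⟨x₂, hx₂, c1, c2⟩ := S.exists_sep (W := Submodule.span F₀ {w₀}) hu hu2
    have c3 : B x₂ w₀ = 0 := c1 w₀ (Submodule.subset_span (by simp)) hw₀
    -- b = -x₂ + t x₁
    have ht : 1 + B x₂ w ∈ F₀ := F₀.add_mem F₀.one_mem (S.form _ hx₂ _ hw)
    refine ⟨-x₂ + (1 + B x₂ w) • x₁, V0.add_mem (V0.neg_mem hx₂) (S.smul_mem ht hx₁), ?_, ?_, ?_⟩
    · rw [map_add, map_neg, map_smul, S.comm0 c3, S.comm0 a1]; simp
    · rw [map_add, map_neg, map_smul, S.comm0 a2, alt_neg hB u x₂, c2]; simp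
    · simp only [map_add, map_neg, map_smul, LinearMap.add_apply, LinearMap.neg_apply, LinearMap.smul_apply, y2, smul_eq_mul]
      ring
  exact step b hb w hw _ b1 hw1 b3 (step u hu b hb k hu1 b1 b2 h)

include hF

/-- the key product lemma -/
theorem prod_mem [Fintype F] {v w₀ : V} (hv : tv B hB v 1 ∈ M) (hw₀ : w₀ ∈ V0) (hw₀0 : w₀ ≠ 0) (hvw : B v w₀ = 0)
    {u u' : V} (hu : u ∈ V0) (hu0 : B w₀ u = 0) (hu' : u' ∈ V0) (hu'0 : B w₀ u' = 0) : B v u * B v u' ∈ F₀ := by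
  have hwv : B w₀ v = 0 := by rw [alt_neg hB, hvw, neg_zero]
  -- E(γ)
  have hE : ∀ u ∈ V0, B w₀ u = 0 → qq hB w₀ ((B v u) • v) ((B v u) ^ 2) ∈ M := by
    intro u hu hu0
    have h1 := tv_map hB H.le (qq_rat hB S H hw₀ hu hu0) hv
    have e : qq hB w₀ u 0 v = v + (B v u) • w₀ := by
      rw [qq_apply hB hu0, hvw]; simp
    rw [e] at h1
    have h2 := qq_of_tv hB hwv h1 hv
    rwa [one_mul, one_mul] at h2
  have b1 : ∀ c : F, B w₀ (c • v) = 0 := fun c => by rw [map_smul, hwv, smul_zero]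
  -- `-2γγ' ∈ F₀`
  have h2gg : -(2 * (B v u * B v u')) ∈ F₀ := by
    have h1 := M.mul_mem (hE u hu hu0) (hE u' hu' hu'0)
    rw [qq_mul hB (b1 _) (b1 _), ← add_smul] at h1
    have h3 := hE (u + u') (V0.add_mem hu hu') (by rw [map_add, hu0, hu'0, add_zero])
    rw [map_add] at h3
    have h4 := tv_of_qq hB (b1 _) h1 h3
    have h5 : B v v = 0 := hB v
    apply hF w₀ hw₀ hw₀0
    have e : B v u ^ 2 + B v u' ^ 2 + B ((B v) u' • v) ((B v) u • v) - (B v u + B v u') ^ 2 = -(2 * (B v u * B v u')) := by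
      simp only [map_smul, LinearMap.smul_apply, h5, smul_zero]; ring
    rwa [e] at h4
  by_cases h2 : (2 : F) = 0
  swap
  · have h4 : (2 : F) ∈ F₀ := by
      have : (2 : F) = ((2 : ℕ) : F) := by norm_num
      rw [this]; exact natCast_mem F₀ 2
    have := F₀.div_mem (F₀.neg_mem h2gg) h4
    have e : - -(2 * (B v u * B v u')) / 2 = B v u * B v u' := by field_simp
    rwa [e] at this
  haveI : CharP F 2 := CharTwo.of_one_ne_zero_of_two_eq_zero one_ne_zero h2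
  by_cases hz : B v u' = 0
  · rw [hz, mul_zero]; exact F₀.zero_mem
  set l := B v u * B v u' with hl
  -- D(l, u')
  have hD : qq hB w₀ (l • u') (-l ^ 2) ∈ M := by
    have h1 := hE u hu hu0
    have h3 := qq_map hB H.le (H.mem u' hu' 1 F₀.one_mem) h1
    have e1 : tv B hB u' 1 w₀ = w₀ := by rw [tv_apply, hu'0]; simp
    have e2 : tv B hB u' 1 ((B v u) • v) = (B v u) • v + l • u' := by
      rw [tv_apply, map_smul, LinearMap.smul_apply, hl, smul_eq_mul]
      module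
    rw [e1, e2] at h3
    have b2 : B w₀ ((B v u) • v + l • u') = 0 := by rw [map_add, b1, map_smul, hu'0, smul_zero, add_zero]
    have h4 := M.mul_mem h3 (M.inv_mem h1)
    rw [qq_inv hB (b1 _), qq_mul hB b2 (by rw [map_neg, b1, neg_zero])] at h4
    have e3 : (B v u) • v + l • u' + -((B v u) • v) = l • u' := by abel
    have h5 : B v v = 0 := hB v
    have e4 : (B v) u ^ 2 + -(B v) u ^ 2 + (B (-((B v) u • v))) ((B v) u • v + l • u') = -l ^ 2 := by
      simp only [map_neg, map_smul, map_add, LinearMap.neg_apply, LinearMap.smul_apply, smul_eq_mul, h5, hl]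
      ring
    rwa [e3, e4] at h4
  have hu's : u' ∉ Submodule.span F₀ {w₀} := by
    intro hs
    obtain ⟨c, hc⟩ := Submodule.mem_span_singleton.mp hs
    apply hz
    have : u' = (c : F) • w₀ := hc.symm
    rw [this, map_smul, hvw, smul_zero]
  obtain ⟨w₁, hw₁, w₂, hw₂, a1, a2, a12, n1, n2, n12⟩ := exists_three hB S H hw₀ hw₀0 hu'
  have c1 := S.comm0 a1
  have c2 := S.comm0 a2
  have d1 := spread hB S H hw₀ hw₀0 hu' hu'0 hu's hw₁ c1 n1 hD
  have d2 := spread hB S H hw₀ hw₀0 hu' hu'0 hu's hw₂ c2 n2 hD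
  have d3 := spread hB S H hw₀ hw₀0 hu' hu'0 hu's (V0.add_mem hw₁ hw₂) (by rw [map_add, c1, c2, add_zero]) n12 hD
  have f1 : B w₀ (l • w₁) = 0 := by rw [map_smul, c1, smul_zero]
  have f2 : B w₀ (l • w₂) = 0 := by rw [map_smul, c2, smul_zero]
  have d4 := M.mul_mem d1 d2
  rw [qq_mul hB f1 f2, ← smul_add, map_smul, map_smul, LinearMap.smul_apply, S.comm0 a12, smul_zero, smul_zero, add_zero] at d4
  have d5 := tv_of_qq hB (by rw [map_smul, map_add, c1, c2, add_zero, smul_zero]) d4 d3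
  have d6 := hF w₀ hw₀ hw₀0 _ d5
  have e : -l ^ 2 + -l ^ 2 - -l ^ 2 = -l ^ 2 := by ring
  rw [e] at d6
  have d7 := F₀.neg_mem d6
  rw [neg_neg] at d7
  exact SubfRankTwo.mem_of_sq_mem F₀ d7

/-- **case A** -/
theorem caseA [Fintype F] {v w₀ : V} (hv : tv B hB v 1 ∈ M) (hw₀ : w₀ ∈ V0) (hw₀0 : w₀ ≠ 0) (hvw : B v w₀ = 0)
    {u u' : V} (hu : u ∈ V0) (hu' : u' ∈ V0) : B v u * B v u' ∈ F₀ := by
  classical
  haveI := S.fin
  have hd := S.dim
  -- W₁ = V0 ∩ w₀^⊥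
  obtain ⟨W₁, hW₁, hW₁2, hW₁3⟩ := S.finrank_perp (K := V0) le_rfl ![w₀] (by intro i; fin_cases i; exact hw₀)
  have hprod : ∀ x ∈ W₁, ∀ y ∈ W₁, B v x * B v y ∈ F₀ := by
    intro x hx y hy
    have h1 : B x w₀ = 0 := ((hW₁2 x).mp hx).2 0
    have h2 : B y w₀ = 0 := ((hW₁2 y).mp hy).2 0
    exact prod_mem hB S H hF hv hw₀ hw₀0 hvw (hW₁ hx) (S.comm0 h1) (hW₁ hy) (S.comm0 h2)
  haveI : Module.Finite F₀ W₁ := Module.Finite.of_injective (Submodule.inclusion hW₁) (Submodule.inclusion_injective hW₁)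
  -- the kernel of B v on W₁ has codimension at most one
  obtain ⟨K, hK, hK2, hK3⟩ : ∃ K : Submodule F₀ V, K ≤ W₁ ∧ (∀ x ∈ K, B v x = 0) ∧
      Module.finrank F₀ W₁ ≤ Module.finrank F₀ K + 1 := by
    by_cases hall : ∀ x ∈ W₁, B v x = 0
    · exact ⟨W₁, le_rfl, hall, by omega⟩
    · push Not at hall
      obtain ⟨x₀, hx₀, h0⟩ := hall
      let L : W₁ →ₗ[F₀] F₀ :=
        { toFun := fun x => ⟨B v x₀ * B v x, hprod x₀ hx₀ x x.2⟩
          map_add' := by intro x y; apply Subtype.ext; simp [mul_add]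
          map_smul' := by
            intro c x; apply Subtype.ext
            change B v x₀ * B v ((c : F) • (x : V)) = (c : F) * (B v x₀ * B v x)
            rw [map_smul, smul_eq_mul]; ring }
      refine ⟨(LinearMap.ker L).map W₁.subtype, ?_, ?_, ?_⟩
      · rintro _ ⟨x, _, rfl⟩; exact x.2
      · rintro _ ⟨x, hx, rfl⟩
        have h1 := congrArg Subtype.val (LinearMap.mem_ker.mp hx)
        have h2 : B v x₀ * B v x = 0 := h1
        rcases mul_eq_zero.mp h2 with h | h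
        · exact absurd h h0
        · exact h
      · have h1 := LinearMap.finrank_range_add_finrank_ker L
        have h2 : Module.finrank F₀ (LinearMap.range L) ≤ 1 := by
          have := Submodule.finrank_le (LinearMap.range L)
          rwa [Module.finrank_self] at this
        have h3 : Module.finrank F₀ ((LinearMap.ker L).map W₁.subtype) = Module.finrank F₀ (LinearMap.ker L) :=
          (Submodule.equivMapOfInjective _ W₁.injective_subtype _).finrank_eq.symm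
        omega
  obtain ⟨w, hw, hw0, h1⟩ := S.exists_perp (K := K) (hK.trans hW₁) ![u, u'] (by
    intro i; fin_cases i
    · exact hu
    · exact hu') (by omega)
  exact prod_mem hB S H hF hv (hW₁ (hK hw)) hw0 (hK2 w hw) hu (h1 0) hu' (h1 1)

/-- in case A the vector is a multiple of a rational one -/
theorem caseA' [Fintype F] {v w₀ : V} (hv0 : v ≠ 0) (hv : tv B hB v 1 ∈ M) (hw₀ : w₀ ∈ V0) (hw₀0 : w₀ ≠ 0) (hvw : B v w₀ = 0) :
    ∃ c : F, c ≠ 0 ∧ ∃ v' ∈ V0, v = c • v' := by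
  obtain ⟨u, hu, hu2⟩ := S.nd0 hv0
  refine ⟨(B v u)⁻¹, inv_ne_zero hu2, (B v u) • v, ?_, by rw [smul_smul, inv_mul_cancel₀ hu2, one_smul]⟩
  apply S.mem_of_dual
  intro y hy
  rw [map_smul, LinearMap.smul_apply, smul_eq_mul]
  exact caseA hB S H hF hv hw₀ hw₀0 hvw hu hy

end

end Cfsg.Agent.Lib.SubfSp
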