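import Cfsg.Prelude.Def_SporadicB
import Cfsg.Agent.Lib.H52A8B

set_option autoImplicit false
set_option linter.all false

/-!
# The double cover of the alternating group of degree eleven from lifted Carmichael generators
-/

namespace Cfsg.Agent.Lib.LyCUg

open Equiv Equiv.Perm Cfsg.Agent.Lib.PresAlt Subgroup

def crel : Set (FreeGroup (Fin 9)) :=
  {g | ∃ i : Fin 9, g = FreeGroup.of i ^ 3} ∪
    {g | ∃ i j : Fin 9, i ≠ j ∧ g = (FreeGroup.of i * FreeGroup.of j) ^ 2}

abbrev CP := PresentedGroup crel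

theorem crel_lift {H : Type*} [Group H] (x : Fin 9 → H) (h3 : ∀ i, x i ^ 3 = 1)
    (h2 : ∀ i j, i ≠ j → (x i * x j) ^ 2 = 1) : ∀ r ∈ crel, FreeGroup.lift x r = 1 := by
  rintro r (⟨i, rfl⟩ | ⟨i, j, hij, rfl⟩)
  · simpa using h3 i
  · simpa using h2 i j hij

theorem fact11 : Nat.factorial 11 = 39916800 := by decide +kernel

theorem card_alt : Nat.card (alternatingGroup (Fin 11)) = 19958400 := by
  have h := two_mul_nat_card_alternatingGroup (α := Fin 11)
  rw [Nat.card_perm, Nat.card_fin, fact11] at h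
  omega

theorem CP_finite : Finite CP ∧ Nat.card CP ≤ 19958400 := by
  set x : ℕ → CP := fun i => if h : i < 9 then PresentedGroup.of ⟨i, h⟩ else 1 with hx
  have hxi : ∀ (i : ℕ) (h : i < 9), x i = PresentedGroup.of ⟨i, h⟩ := fun i h => dif_pos h
  have hb := carm_bound 9 x ?_ ?_
  · have htop : gen x 9 = ⊤ := by
      rw [eq_top_iff, ← PresentedGroup.closure_range_of crel]
      apply (Subgroup.closure_le _).2
      rintro _ ⟨i, rfl⟩
      have := mem_gen x i.2
      rw [hxi i.1 i.2] at this
      exact this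
    rw [htop] at hb
    obtain ⟨hf, hc⟩ := hb
    have hfin : Finite CP := Finite.of_equiv _ (Subgroup.topEquiv (G := CP)).toEquiv
    refine ⟨hfin, ?_⟩
    rw [Nat.card_congr (Subgroup.topEquiv (G := CP)).toEquiv, show 9 + 2 = 11 from rfl, fact11] at hc
    omega
  · intro i hi
    rw [hxi i hi]
    have : (PresentedGroup.mk crel (FreeGroup.of ⟨i, hi⟩ ^ 3)) = 1 :=
      PresentedGroup.one_of_mem (Or.inl ⟨_, rfl⟩)
    simpa [PresentedGroup.of] using this
  · intro i hi j hj hij
    rw [hxi i hi, hxi j hj]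
    have : (PresentedGroup.mk crel ((FreeGroup.of ⟨i, hi⟩ * FreeGroup.of ⟨j, hj⟩) ^ 2)) = 1 :=
      PresentedGroup.one_of_mem (Or.inr ⟨_, _, fun h => hij (congrArg Fin.val h), rfl⟩)
    simpa [PresentedGroup.of] using this

def x11 : Fin 9 → Perm (Fin 11) := fun i => swap 0 1 * swap 1 ⟨i.val + 2, by omega⟩

def x11A : Fin 9 → alternatingGroup (Fin 11) := fun i => ⟨x11 i, by
  rw [Equiv.Perm.mem_alternatingGroup, x11, map_mul, sign_swap (by decide),
    sign_swap (by intro h; have := congrArg Fin.val h; simp at this)]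
  decide⟩

theorem x11_3 : ∀ i, x11 i ^ 3 = 1 := by
  intro i
  apply cy_cube (by decide)
  · intro h; have := congrArg Fin.val h; simp at this
  · intro h; have := congrArg Fin.val h; simp at this

theorem x11_2 : ∀ i j, i ≠ j → (x11 i * x11 j) ^ 2 = 1 := by
  intro i j hij
  apply cy_sq (by decide)
  · intro h; have := congrArg Fin.val h; simp at this
  · intro h; have := congrArg Fin.val h; simp at this
  · intro h; have := congrArg Fin.val h; simp at this
  · intro h; have := congrArg Fin.val h; simp at this; exact hij (Fin.ext this)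

theorem CP_alt : Nonempty (CP ≃* alternatingGroup (Fin 11)) := by
  obtain ⟨hfin, hcard⟩ := CP_finite
  have hl : ∀ r ∈ crel, FreeGroup.lift x11A r = 1 := by
    apply crel_lift
    · intro i
      exact Subtype.ext (x11_3 i)
    · intro i j hij
      exact Subtype.ext (x11_2 i j hij)
  set f : CP →* alternatingGroup (Fin 11) := PresentedGroup.toGroup hl with hf
  have hfo : ∀ i, f (PresentedGroup.of i) = x11A i := fun i => PresentedGroup.toGroup.of hl
  have hsurj : Function.Surjective f := by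
    have h1 : alternatingGroup (Fin 11) ≤ ((alternatingGroup (Fin 11)).subtype.comp f).range := by
      apply alt_le_of_star (a := (0 : Fin 11)) (b := 1) (by decide)
      intro i hi0 hi1
      have hi2 : 2 ≤ i.val := by
        have h0 : i.val ≠ 0 := fun h => hi0 (Fin.ext h)
        have h1 : i.val ≠ 1 := fun h => hi1 (Fin.ext h)
        omega
      refine ⟨PresentedGroup.of ⟨i.val - 2, by omega⟩, ?_⟩
      rw [MonoidHom.comp_apply, hfo]
      have : (⟨i.val - 2 + 2, by omega⟩ : Fin 11) = i := Fin.ext (by simp; omega)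
      change swap 0 1 * swap 1 (⟨i.val - 2 + 2, by omega⟩ : Fin 11) = _
      rw [this]
    intro y
    obtain ⟨g, hg⟩ := h1 y.2
    exact ⟨g, Subtype.ext hg⟩
  have hle := Nat.card_le_card_of_surjective f hsurj
  rw [card_alt] at hle
  have hbij : Function.Bijective f := by
    rw [Nat.bijective_iff_surjective_and_card]
    exact ⟨hsurj, by rw [card_alt]; omega⟩
  exact ⟨MulEquiv.ofBijective f hbij⟩

/-- Carmichael's star relations give the alternating group -/
theorem carm_alt {G : Type*} [Group G] (x : Fin 9 → G) (h3 : ∀ i, x i ^ 3 = 1)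
    (h2 : ∀ i j, i ≠ j → (x i * x j) ^ 2 = 1) (hne : ∃ i, x i ≠ 1) (hgen : closure (Set.range x) = ⊤) :
    Nonempty (G ≃* alternatingGroup (Fin 11)) := by
  obtain ⟨e⟩ := CP_alt
  have hl := crel_lift x h3 h2
  set f : CP →* G := PresentedGroup.toGroup hl with hf
  have hs : IsSimpleGroup (alternatingGroup (Fin 11)) := alternatingGroup.isSimpleGroup (by simp)
  have hntC : Nontrivial CP := e.toEquiv.nontrivial
  have hsC : IsSimpleGroup CP := IsSimpleGroup.isSimpleGroup_of_surjective e.symm.toMonoidHom e.symm.surjective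
  have hker : f.ker = ⊥ := by
    rcases hsC.eq_bot_or_eq_top_of_normal f.ker inferInstance with h | h
    · exact h
    · exfalso
      obtain ⟨i, hi⟩ := hne
      apply hi
      have h1 : (PresentedGroup.of i : CP) ∈ f.ker := h ▸ Subgroup.mem_top _
      rw [MonoidHom.mem_ker] at h1
      rw [← h1]
      exact (PresentedGroup.toGroup.of hl).symm
  have hinj : Function.Injective f := (MonoidHom.ker_eq_bot_iff f).1 hker
  have hsurj : Function.Surjective f := by
    rw [← MonoidHom.range_eq_top, eq_top_iff, ← hgen, closure_le]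
    rintro _ ⟨i, rfl⟩
    exact ⟨PresentedGroup.of i, PresentedGroup.toGroup.of hl⟩
  exact ⟨(MulEquiv.ofBijective f ⟨hinj, hsurj⟩).symm.trans e⟩

/-- the double cover -/
theorem dbl_of {G : Type*} [Group G] (X : Fin 9 → G) (Z : G) (h3 : ∀ i, X i ^ 3 = 1)
    (h2 : ∀ i j, i ≠ j → (X i * X j) ^ 2 = Z) (hc : ∀ i, Z * X i = X i * Z) (hZ : Z ≠ 1) (hZ2 : Z ^ 2 = 1) :
    Nat.card (closure (Set.range X)) = 39916800 ∧
      Cfsg.IsNonsplitDoubleCover (closure (Set.range X)) (alternatingGroup (Fin 11)) := by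
  set D := closure (Set.range X) with hD
  let X' : Fin 9 → D := fun i => ⟨X i, subset_closure ⟨i, rfl⟩⟩
  have hZD : Z ∈ D := by
    rw [← h2 0 1 (by decide)]
    exact pow_mem (mul_mem (X' 0).2 (X' 1).2) 2
  let Z' : D := ⟨Z, hZD⟩
  have hcen : ∀ g : D, Z' * g = g * Z' := by
    have h1 : D ≤ centralizer {Z} := by
      rw [hD, closure_le]
      rintro _ ⟨i, rfl⟩
      rw [SetLike.mem_coe, mem_centralizer_singleton_iff]
      exact (hc i).symm
    intro g
    exact Subtype.ext (mem_centralizer_singleton_iff.1 (h1 g.2)).symm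
  have hZ'2 : Z' * Z' = 1 := by
    apply Subtype.ext
    show Z * Z = 1
    rw [← pow_two]; exact hZ2
  have hZ'1 : Z' ≠ 1 := fun h => hZ (congrArg Subtype.val h)
  have hord : orderOf Z' = 2 := orderOf_eq_prime (by rw [pow_two]; exact hZ'2) hZ'1
  let Nz : Subgroup D := zpowers Z'
  have hNle : Nz ≤ center D := by
    rw [zpowers_le, mem_center_iff]
    intro g; exact (hcen g).symm
  have hNn : Nz.Normal := by
    constructor
    intro n hn g
    have := mem_center_iff.1 (hNle hn) g
    rw [this, mul_inv_cancel_right]; exact hn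
  have hNc : Nat.card Nz = 2 := by rw [Nat.card_zpowers, hord]
  have hmem : ∀ g, g ∈ Nz → g = 1 ∨ g = Z' := by
    intro g hg
    obtain ⟨k, rfl⟩ := mem_zpowers_iff.1 hg
    rcases Int.even_or_odd' k with ⟨m, rfl | rfl⟩
    · left; rw [zpow_mul, zpow_ofNat, pow_two, hZ'2, one_zpow]
    · right; rw [zpow_add, zpow_mul, zpow_ofNat, pow_two, hZ'2, one_zpow, one_mul, zpow_one]
  let Q := D ⧸ Nz
  let x : Fin 9 → Q := fun i => QuotientGroup.mk' Nz (X' i)
  have hgenD : closure (Set.range X') = ⊤ := by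
    rw [eq_top_iff]
    rintro ⟨g, hg⟩ -
    have h1 : D ≤ (closure (Set.range X')).map D.subtype := by
      apply (closure_le _).2
      rintro _ ⟨i, rfl⟩
      exact ⟨X' i, subset_closure ⟨i, rfl⟩, rfl⟩
    obtain ⟨l, hl, hlg⟩ := h1 hg
    have : l = ⟨g, hg⟩ := Subtype.ext hlg
    rwa [← this]
  have hX3 : ∀ i, X' i ^ 3 = 1 := fun i => Subtype.ext (h3 i)
  have hX2 : ∀ i j, i ≠ j → (X' i * X' j) ^ 2 = Z' := fun i j hij => Subtype.ext (h2 i j hij)
  have hone : ∀ i, X' i ∈ Nz → X' i = 1 := by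
    intro i hi
    rcases hmem _ hi with h | h
    · exact h
    · exfalso
      have h4 := hX3 i
      rw [h, pow_succ, pow_two, hZ'2, one_mul] at h4
      exact hZ'1 h4
  obtain ⟨e⟩ := carm_alt x (fun i => by rw [← map_pow, hX3 i, map_one])
    (fun i j hij => by
      rw [← map_mul, ← map_pow, hX2 i j hij]
      exact (QuotientGroup.eq_one_iff Z').2 (mem_zpowers _))
    (by
      by_contra hcon
      push Not at hcon
      have h5 := hone 0 ((QuotientGroup.eq_one_iff (X' 0)).1 (hcon 0))
      have h6 := hone 1 ((QuotientGroup.eq_one_iff (X' 1)).1 (hcon 1))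
      have h7 := hX2 0 1 (by decide)
      rw [h5, h6, mul_one, one_pow] at h7
      exact hZ'1 h7.symm)
    (by
      have h8 : (Set.range x) = (QuotientGroup.mk' Nz) '' (Set.range X') := by
        rw [← Set.range_comp]; rfl
      rw [h8, ← MonoidHom.map_closure, hgenD, ← MonoidHom.range_eq_map,
        MonoidHom.range_eq_top.2 (QuotientGroup.mk'_surjective Nz)])
  have hs : IsSimpleGroup (alternatingGroup (Fin 11)) := alternatingGroup.isSimpleGroup (by simp)
  have hcenA : center (alternatingGroup (Fin 11)) = ⊥ := by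
    rcases hs.eq_bot_or_eq_top_of_normal (center (alternatingGroup (Fin 11))) inferInstance with h | h
    · exact h
    · exfalso
      have h9 : x11A 0 * x11A 1 = x11A 1 * x11A 0 := by
        have : x11A 0 ∈ center (alternatingGroup (Fin 11)) := by rw [h]; trivial
        exact (mem_center_iff.1 this (x11A 1)).symm
      have h10 := congrArg (fun g : alternatingGroup (Fin 11) => (g : Perm (Fin 11)) 0) h9
      revert h10
      decide
  have hceq : Nz = center D := by
    apply le_antisymm hNle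
    intro g hg
    have h11 : e (QuotientGroup.mk' Nz g) ∈ center (alternatingGroup (Fin 11)) := by
      rw [mem_center_iff]
      intro a
      obtain ⟨q, rfl⟩ := e.surjective a
      obtain ⟨b, rfl⟩ := QuotientGroup.mk'_surjective Nz q
      rw [← map_mul, ← map_mul, ← map_mul, ← map_mul, mem_center_iff.1 hg b]
    rw [hcenA, mem_bot, map_eq_one_iff _ e.injective] at h11
    exact (QuotientGroup.eq_one_iff g).1 h11
  have hcard : Nat.card D = 39916800 := by
    rw [← Nz.card_mul_index, hNc]
    show 2 * Nat.card (D ⧸ Nz) = _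
    rw [Nat.card_congr e.toEquiv, card_alt]
  refine ⟨hcard, ?_, ?_, ?_⟩
  · rw [← hceq]; exact hNc
  · exact ⟨(QuotientGroup.quotientMulEquivOfEq hceq.symm).trans e⟩
  · intro L hL
    rw [← hceq] at hL
    obtain ⟨⟨n, l⟩, hnl⟩ := hL.2 (X' 0 * X' 1)
    have hnl' : (n : D) * (l : D) = X' 0 * X' 1 := hnl
    have h12 : (l : D) ^ 2 = Z' := by
      have h13 : (l : D) = (n : D)⁻¹ * (X' 0 * X' 1) := by rw [← hnl']; group
      have h14 : (n : D)⁻¹ * (X' 0 * X' 1) = (X' 0 * X' 1) * (n : D)⁻¹ :=
        (mem_center_iff.1 (hNle (inv_mem n.2)) _).symm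
      have h15 : (n : D) * (n : D) = 1 := by
        rcases hmem _ n.2 with h | h
        · rw [h, mul_one]
        · rw [h]; exact hZ'2
      have h16 : (n : D)⁻¹ = n := inv_eq_of_mul_eq_one_right h15
      rw [h13, pow_two]
      calc (n : D)⁻¹ * (X' 0 * X' 1) * ((n : D)⁻¹ * (X' 0 * X' 1)) = (n : D)⁻¹ * ((X' 0 * X' 1) * (n : D)⁻¹) * (X' 0 * X' 1) := by group
        _ = (n : D)⁻¹ * ((n : D)⁻¹ * (X' 0 * X' 1)) * (X' 0 * X' 1) := by rw [h14]
        _ = ((n : D) * n)⁻¹ * (X' 0 * X' 1) ^ 2 := by rw [pow_two]; group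
        _ = Z' := by rw [h15, inv_one, one_mul, hX2 0 1 (by decide)]
    have h17 : Z' ∈ L := by rw [← h12]; exact pow_mem l.2 2
    have h18 : Z' ∈ Nz ⊓ L := ⟨mem_zpowers _, h17⟩
    have h19 := hL.disjoint
    rw [disjoint_iff] at h19
    rw [h19, mem_bot] at h18
    exact hZ'1 h18

end Cfsg.Agent.Lib.LyCUg
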