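import Cfsg.Agent.Lib.CosetGroup
import Cfsg.Prelude.Def_Spor_Ly

/-!
# The relators of the Lyons group as words
-/

set_option autoImplicit false
set_option linter.all false

namespace Cfsg.Agent.Lib.LyRel

open Cfsg.Spor Cfsg.Agent.Lib.BenesWord Cfsg.Agent.Lib.CoxBridge Cfsg.Agent.Lib.CosetGroup

/-- the generators -/
def gen (c : ℕ) : Ly.Gen := ([.a, .b, .c, .d, .z, .e, .a1, .a2, .a3, .a4, .c1, .c2, .c3, .c4, .c5, .u, .x23, .x24, .x25, .x29, .x47, .x96, .x129, .x162, .x163, .x164, .x165, .x166, .x167, .x168, .x169, .x364, .x365, .x366, .x367, .x368, .x369, .x370, .x371] : List Ly.Gen).getD c .a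

/-- index of a generator -/
def idx : Ly.Gen → ℕ
  | .a => 0
  | .b => 1
  | .c => 2
  | .d => 3
  | .z => 4
  | .e => 5
  | .a1 => 6
  | .a2 => 7
  | .a3 => 8
  | .a4 => 9
  | .c1 => 10
  | .c2 => 11
  | .c3 => 12
  | .c4 => 13
  | .c5 => 14
  | .u => 15
  | .x23 => 16
  | .x24 => 17
  | .x25 => 18
  | .x29 => 19
  | .x47 => 20
  | .x96 => 21
  | .x129 => 22
  | .x162 => 23
  | .x163 => 24
  | .x164 => 25
  | .x165 => 26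
  | .x166 => 27
  | .x167 => 28
  | .x168 => 29
  | .x169 => 30
  | .x364 => 31
  | .x365 => 32
  | .x366 => 33
  | .x367 => 34
  | .x368 => 35
  | .x369 => 36
  | .x370 => 37
  | .x371 => 38

/-- relators 1 - 44 -/
def relW1 : List Wd := [
  (.pow (.g 0) 8),
  (.pow (.g 1) 5),
  (.pow (.mul (.g 0) (.g 1)) 4),
  (.mul (.mul (.mul (.inv (.pow (.g 0) 2)) (.inv (.g 1))) (.pow (.g 0) 2)) (.g 1)),
  (.pow (.mul (.mul (.mul (.inv (.g 0)) (.inv (.g 1))) (.g 0)) (.g 1)) 3),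
  (.mul (.g 10) (.inv (.g 2))),
  (.mul (.g 11) (.inv (.mul (.mul (.inv (.g 0)) (.g 2)) (.g 0)))),
  (.mul (.g 12) (.inv (.mul (.mul (.inv (.g 1)) (.g 2)) (.g 1)))),
  (.mul (.g 13) (.inv (.mul (.mul (.inv (.inv (.g 1))) (.g 2)) (.inv (.g 1))))),
  (.mul (.g 14) (.inv (.mul (.mul (.mul (.inv (.g 10)) (.inv (.g 11))) (.g 10)) (.g 11)))),
  (.pow (.g 10) 5),
  (.pow (.g 14) 5),
  (.mul (.mul (.mul (.inv (.g 10)) (.inv (.g 14))) (.g 10)) (.g 14)),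
  (.mul (.mul (.mul (.inv (.g 11)) (.inv (.g 14))) (.g 11)) (.g 14)),
  (.mul (.mul (.mul (.inv (.g 12)) (.inv (.g 14))) (.g 12)) (.g 14)),
  (.mul (.mul (.mul (.inv (.g 13)) (.inv (.g 14))) (.g 13)) (.g 14)),
  (.mul (.mul (.mul (.mul (.inv (.g 10)) (.inv (.g 12))) (.g 10)) (.g 12)) (.inv (.inv (.pow (.g 14) 2)))),
  (.mul (.mul (.mul (.mul (.inv (.g 10)) (.inv (.g 13))) (.g 10)) (.g 13)) (.inv (.pow (.g 14) 2))),
  (.mul (.mul (.mul (.mul (.inv (.g 11)) (.inv (.g 12))) (.g 11)) (.g 12)) (.inv (.inv (.g 14)))),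
  (.mul (.mul (.mul (.inv (.g 11)) (.inv (.g 13))) (.g 11)) (.g 13)),
  (.mul (.mul (.mul (.mul (.inv (.g 12)) (.inv (.g 13))) (.g 12)) (.g 13)) (.inv (.inv (.g 14)))),
  (.mul (.mul (.mul (.inv (.g 0)) (.g 11)) (.g 0)) (.inv (.inv (.pow (.g 10) 2)))),
  (.mul (.mul (.mul (.inv (.g 0)) (.g 12)) (.g 0)) (.inv (.mul (.mul (.inv (.pow (.g 12) 2)) (.g 10)) (.g 13)))),
  (.mul (.mul (.mul (.inv (.g 0)) (.g 13)) (.g 0)) (.inv (.mul (.mul (.mul (.mul (.mul (.g 10) (.inv (.g 11))) (.inv (.g 12))) (.g 13)) (.g 10)) (.g 13)))),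
  (.mul (.mul (.mul (.inv (.g 0)) (.g 14)) (.g 0)) (.inv (.pow (.g 14) 2))),
  (.mul (.mul (.mul (.inv (.g 1)) (.g 11)) (.g 1)) (.inv (.mul (.mul (.mul (.mul (.g 11) (.g 12)) (.inv (.g 13))) (.inv (.g 10))) (.inv (.g 13))))),
  (.mul (.mul (.mul (.inv (.g 1)) (.g 12)) (.g 1)) (.inv (.mul (.mul (.pow (.g 10) 2) (.g 13)) (.inv (.pow (.g 12) 2))))),
  (.mul (.mul (.mul (.inv (.g 1)) (.g 14)) (.g 1)) (.inv (.g 14))),
  (.mul (.g 5) (.inv (.mul (.mul (.mul (.mul (.mul (.mul (.mul (.mul (.mul (.mul (.mul (.mul (.inv (.pow (.g 1) 2)) (.mul (.mul (.mul (.inv (.g 0)) (.inv (.g 10))) (.g 0)) (.g 10))) (.inv (.g 0))) (.g 10)) (.g 0)) (.g 3)) (.g 10)) (.g 1)) (.g 0)) (.inv (.g 1))) (.g 3)) (.g 10)) (.g 3)))),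
  (.pow (.g 5) 2),
  (.mul (.mul (.mul (.inv (.g 5)) (.g 10)) (.g 5)) (.inv (.mul (.mul (.mul (.g 1) (.g 12)) (.g 1)) (.inv (.g 10))))),
  (.mul (.mul (.mul (.inv (.g 5)) (.g 12)) (.g 5)) (.inv (.mul (.mul (.mul (.mul (.mul (.pow (.g 1) 2) (.g 0)) (.g 11)) (.inv (.g 10))) (.inv (.g 13))) (.inv (.g 0))))),
  (.mul (.mul (.mul (.inv (.g 5)) (.g 13)) (.g 5)) (.inv (.mul (.mul (.pow (.g 1) 2) (.inv (.g 12))) (.g 13)))),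
  (.mul (.mul (.mul (.inv (.g 5)) (.g 14)) (.g 5)) (.inv (.mul (.mul (.mul (.g 10) (.inv (.g 12))) (.g 10)) (.inv (.g 13))))),
  (.mul (.mul (.mul (.g 5) (.pow (.g 0) 2)) (.g 5)) (.inv (.mul (.mul (.mul (.mul (.mul (.mul (.mul (.g 0) (.pow (.g 1) 2)) (.g 0)) (.inv (.g 1))) (.g 0)) (.g 10)) (.g 14)) (.inv (.g 13))))),
  (.mul (.mul (.mul (.inv (.g 5)) (.g 1)) (.g 5)) (.inv (.mul (.mul (.g 10) (.inv (.g 12))) (.inv (.pow (.g 13) 2))))),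
  (.mul (.mul (.mul (.mul (.mul (.mul (.mul (.g 5) (.g 0)) (.pow (.g 1) 2)) (.g 0)) (.inv (.g 1))) (.g 0)) (.g 5)) (.inv (.mul (.mul (.mul (.pow (.g 0) 2) (.g 10)) (.g 14)) (.inv (.g 13))))),
  (.mul (.mul (.mul (.mul (.mul (.mul (.mul (.mul (.mul (.g 5) (.g 11)) (.g 5)) (.inv (.g 11))) (.g 5)) (.g 11)) (.inv (.g 13))) (.g 0)) (.g 12)) (.pow (.g 0) 3)),
  (.mul (.g 3) (.inv (.mul (.mul (.mul (.mul (.mul (.mul (.mul (.mul (.mul (.mul (.mul (.mul (.mul (.mul (.g 0) (.pow (.g 1) 2)) (.inv (.g 0))) (.inv (.g 1))) (.inv (.g 10))) (.inv (.g 13))) (.inv (.g 14))) (.g 0)) (.g 5)) (.g 0)) (.g 5)) (.g 0)) (.inv (.g 11))) (.g 1)) (.g 5)))),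
  (.mul (.pow (.g 3) 2) (.inv (.pow (.g 0) 4))),
  (.mul (.mul (.mul (.inv (.g 1)) (.inv (.g 3))) (.g 1)) (.g 3)),
  (.mul (.mul (.mul (.inv (.g 3)) (.g 0)) (.g 3)) (.inv (.pow (.g 0) 3))),
  (.pow (.mul (.g 3) (.g 14)) 5),
  (.mul (.mul (.mul (.mul (.mul (.mul (.g 3) (.g 14)) (.g 3)) (.inv (.g 14))) (.g 3)) (.g 14)) (.inv (.pow (.g 0) 2)))]

/-- relators 45 - 86 -/
def relW2 : List Wd := [
  (.mul (.g 6) (.inv (.g 0))),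
  (.mul (.g 7) (.inv (.mul (.mul (.inv (.inv (.g 1))) (.g 0)) (.inv (.g 1))))),
  (.mul (.g 8) (.inv (.mul (.mul (.inv (.inv (.pow (.g 1) 2))) (.g 0)) (.inv (.pow (.g 1) 2))))),
  (.mul (.g 9) (.inv (.mul (.mul (.inv (.pow (.g 1) 2)) (.g 0)) (.pow (.g 1) 2)))),
  (.mul (.g 15) (.inv (.pow (.g 0) 2))),
  (.mul (.g 16) (.inv (.g 3))),
  (.mul (.g 17) (.inv (.inv (.g 3)))),
  (.mul (.g 18) (.inv (.mul (.mul (.mul (.mul (.mul (.mul (.mul (.mul (.mul (.mul (.mul (.mul (.mul (.mul (.mul (.pow (.g 1) 2) (.inv (.g 0))) (.inv (.g 1))) (.inv (.g 0))) (.pow (.g 1) 2)) (.inv (.g 2))) (.g 0)) (.g 2)) (.inv (.g 0))) (.inv (.g 2))) (.g 3)) (.inv (.g 2))) (.pow (.g 1) 2)) (.inv (.g 0))) (.g 2)) (.g 1)))),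
  (.mul (.g 19) (.inv (.mul (.mul (.mul (.mul (.mul (.mul (.mul (.mul (.mul (.mul (.mul (.mul (.mul (.mul (.mul (.mul (.mul (.mul (.g 0) (.g 1)) (.inv (.g 0))) (.pow (.g 1) 2)) (.inv (.g 0))) (.pow (.g 1) 2)) (.inv (.g 2))) (.g 0)) (.g 2)) (.g 1)) (.g 2)) (.inv (.g 1))) (.g 3)) (.g 2)) (.inv (.pow (.g 1) 2))) (.g 3)) (.g 2)) (.g 1)) (.g 2)))),
  (.mul (.g 20) (.inv (.mul (.mul (.mul (.mul (.mul (.mul (.mul (.inv (.g 2)) (.inv (.g 3))) (.inv (.g 0))) (.inv (.g 2))) (.inv (.g 0))) (.g 1)) (.inv (.g 2))) (.inv (.g 3))))),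
  (.mul (.g 21) (.inv (.mul (.g 1) (.g 3)))),
  (.mul (.g 22) (.inv (.mul (.inv (.g 3)) (.inv (.g 1))))),
  (.mul (.g 23) (.inv (.mul (.mul (.mul (.mul (.mul (.mul (.mul (.mul (.mul (.inv (.g 0)) (.inv (.g 1))) (.inv (.g 0))) (.g 1)) (.inv (.g 2))) (.inv (.g 1))) (.g 0)) (.inv (.g 2))) (.g 1)) (.g 0)))),
  (.mul (.g 24) (.inv (.mul (.mul (.mul (.mul (.mul (.mul (.inv (.pow (.g 1) 2)) (.g 0)) (.g 2)) (.inv (.g 0))) (.g 1)) (.g 2)) (.g 1)))),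
  (.mul (.g 25) (.inv (.mul (.mul (.mul (.mul (.mul (.mul (.inv (.g 0)) (.inv (.g 1))) (.inv (.g 0))) (.g 2)) (.g 0)) (.g 1)) (.g 0)))),
  (.mul (.g 26) (.inv (.mul (.mul (.mul (.mul (.mul (.mul (.inv (.g 1)) (.inv (.g 0))) (.g 1)) (.g 2)) (.inv (.g 1))) (.g 0)) (.g 1)))),
  (.mul (.g 27) (.inv (.mul (.mul (.mul (.mul (.mul (.mul (.mul (.mul (.pow (.g 1) 2) (.inv (.g 0))) (.inv (.g 1))) (.g 2)) (.g 1)) (.g 0)) (.g 2)) (.inv (.pow (.g 1) 2))) (.inv (.g 2))))),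
  (.mul (.g 28) (.inv (.inv (.pow (.g 0) 3)))),
  (.mul (.g 29) (.inv (.mul (.mul (.mul (.g 1) (.inv (.g 0))) (.inv (.g 1))) (.inv (.pow (.g 0) 2))))),
  (.mul (.g 30) (.inv (.mul (.mul (.mul (.mul (.g 0) (.pow (.g 1) 2)) (.g 0)) (.inv (.pow (.g 1) 2))) (.inv (.g 0))))),
  (.mul (.g 31) (.inv (.mul (.mul (.mul (.mul (.mul (.mul (.mul (.mul (.mul (.mul (.mul (.mul (.mul (.mul (.mul (.mul (.mul (.mul (.inv (.g 0)) (.g 3)) (.inv (.g 1))) (.inv (.g 2))) (.inv (.g 0))) (.g 1)) (.inv (.g 2))) (.inv (.g 3))) (.g 1)) (.inv (.g 2))) (.inv (.g 1))) (.inv (.g 0))) (.inv (.g 2))) (.g 0)) (.inv (.g 1))) (.g 0)) (.g 1)) (.g 0)) (.inv (.g 1))))),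
  (.mul (.g 32) (.inv (.mul (.mul (.mul (.mul (.mul (.mul (.mul (.mul (.mul (.mul (.mul (.mul (.mul (.mul (.mul (.mul (.g 0) (.inv (.pow (.g 1) 2))) (.inv (.g 0))) (.g 2)) (.g 1)) (.inv (.g 2))) (.g 1)) (.inv (.g 0))) (.inv (.pow (.g 2) 2))) (.g 3)) (.g 2)) (.g 0)) (.g 2)) (.inv (.g 0))) (.g 2)) (.inv (.g 1))) (.inv (.g 3))))),
  (.mul (.g 33) (.inv (.mul (.mul (.mul (.mul (.mul (.mul (.mul (.mul (.mul (.mul (.mul (.mul (.mul (.mul (.mul (.mul (.mul (.g 1) (.g 0)) (.inv (.g 1))) (.inv (.g 0))) (.inv (.pow (.g 1) 2))) (.inv (.g 0))) (.inv (.g 1))) (.g 2)) (.pow (.g 1) 2)) (.g 2)) (.g 1)) (.g 3)) (.g 2)) (.inv (.pow (.g 1) 2))) (.g 3)) (.g 2)) (.g 1)) (.g 2)))),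
  (.mul (.g 34) (.inv (.mul (.mul (.mul (.mul (.mul (.mul (.mul (.mul (.mul (.mul (.mul (.mul (.mul (.mul (.mul (.mul (.mul (.inv (.g 2)) (.inv (.g 1))) (.inv (.g 2))) (.inv (.g 3))) (.pow (.g 1) 2)) (.inv (.g 2))) (.inv (.g 3))) (.inv (.g 1))) (.inv (.g 2))) (.inv (.pow (.g 1) 2))) (.inv (.g 2))) (.g 1)) (.g 0)) (.pow (.g 1) 2)) (.g 0)) (.g 1)) (.inv (.g 0))) (.inv (.g 1))))),
  (.mul (.g 35) (.inv (.mul (.mul (.mul (.mul (.mul (.mul (.mul (.mul (.mul (.mul (.mul (.mul (.mul (.mul (.mul (.mul (.mul (.inv (.g 0)) (.inv (.g 2))) (.inv (.g 3))) (.g 0)) (.inv (.g 2))) (.inv (.g 1))) (.g 0)) (.inv (.g 2))) (.inv (.g 3))) (.inv (.g 0))) (.inv (.g 2))) (.g 0)) (.g 2)) (.inv (.pow (.g 1) 2))) (.inv (.g 2))) (.inv (.g 1))) (.inv (.g 0))) (.inv (.pow (.g 1) 2))))),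
  (.mul (.g 36) (.inv (.mul (.mul (.mul (.mul (.mul (.mul (.mul (.mul (.mul (.mul (.mul (.mul (.mul (.mul (.mul (.mul (.inv (.g 0)) (.inv (.g 2))) (.inv (.g 3))) (.g 1)) (.inv (.g 0))) (.inv (.g 1))) (.inv (.g 2))) (.inv (.g 3))) (.g 1)) (.inv (.g 0))) (.inv (.g 1))) (.inv (.g 2))) (.inv (.g 1))) (.g 0)) (.inv (.pow (.g 1) 2))) (.g 0)) (.inv (.g 1))))),
  (.mul (.g 37) (.inv (.mul (.mul (.mul (.mul (.mul (.mul (.mul (.mul (.mul (.mul (.mul (.mul (.mul (.mul (.mul (.mul (.inv (.g 3)) (.g 0)) (.g 2)) (.g 1)) (.g 2)) (.inv (.g 0))) (.inv (.g 2))) (.inv (.g 3))) (.g 0)) (.inv (.g 1))) (.inv (.g 0))) (.g 2)) (.inv (.g 0))) (.inv (.pow (.g 1) 2))) (.inv (.g 0))) (.g 1)) (.inv (.g 0))))),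
  (.mul (.g 38) (.inv (.mul (.mul (.mul (.mul (.mul (.mul (.mul (.mul (.mul (.mul (.mul (.mul (.mul (.mul (.mul (.inv (.g 2)) (.inv (.g 0))) (.g 2)) (.g 1)) (.inv (.g 2))) (.inv (.g 3))) (.g 2)) (.inv (.g 0))) (.g 2)) (.g 0)) (.g 2)) (.inv (.g 1))) (.inv (.g 0))) (.inv (.g 1))) (.inv (.g 0))) (.g 1)))),
  (.mul (.mul (.mul (.inv (.g 4)) (.g 10)) (.g 4)) (.inv (.g 23))),
  (.mul (.mul (.mul (.inv (.g 4)) (.g 11)) (.g 4)) (.inv (.g 24))),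
  (.mul (.mul (.mul (.inv (.g 4)) (.g 12)) (.g 4)) (.inv (.g 25))),
  (.mul (.mul (.mul (.inv (.g 4)) (.g 13)) (.g 4)) (.inv (.g 26))),
  (.mul (.mul (.mul (.inv (.g 4)) (.g 14)) (.g 4)) (.inv (.g 27))),
  (.mul (.mul (.mul (.inv (.g 4)) (.g 6)) (.g 4)) (.inv (.g 28))),
  (.mul (.mul (.mul (.inv (.g 4)) (.g 7)) (.g 4)) (.inv (.g 29))),
  (.mul (.mul (.mul (.inv (.g 4)) (.g 8)) (.g 4)) (.inv (.g 30))),
  (.mul (.pow (.g 4) 2) (.inv (.g 15))),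
  (.mul (.pow (.mul (.g 9) (.g 4)) 3) (.g 15)),
  (.mul (.mul (.mul (.mul (.mul (.g 20) (.g 4)) (.g 31)) (.g 4)) (.g 35)) (.g 4)),
  (.mul (.mul (.mul (.mul (.mul (.mul (.mul (.inv (.g 4)) (.g 17)) (.inv (.g 4))) (.g 36)) (.g 4)) (.g 16)) (.g 4)) (.g 19)),
  (.mul (.mul (.mul (.mul (.mul (.mul (.mul (.g 4) (.g 33)) (.g 4)) (.g 32)) (.inv (.g 4))) (.g 34)) (.inv (.g 4))) (.g 37)),
  (.mul (.mul (.mul (.mul (.mul (.mul (.mul (.g 4) (.g 21)) (.g 4)) (.g 18)) (.inv (.g 4))) (.g 22)) (.inv (.g 4))) (.g 38))]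

/-- all relators -/
def extraW : List Wd := relW1 ++ relW2

theorem hextra : Ly.extra = extraW.map (fun W => W.eval (fun c => FreeGroup.of (gen c))) := rfl

/-- data -/
def C : CoxData Ly.Gen Ly.edges Ly.extra where
  gen := gen
  idx := idx
  nn := 0
  ng := 39
  extraW := extraW
  hgi := by intro a; cases a <;> rfl
  hlt := by intro a; cases a <;> decide
  hidx := by decide
  hnode := by intro a ha; exact absurd ha (by simp [Ly.edges, coxNodes])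
  hnode' := by intro i hi; exact absurd hi (by omega)
  hnn := by omega
  hextra := hextra
  hlets := by decide

end Cfsg.Agent.Lib.LyRel
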