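import Cfsg.Agent.Lib.M5
import Cfsg.Agent.Lib.LyMa
import Cfsg.Agent.Lib.LyMb
import Cfsg.Agent.Lib.LyRel

/-!
# The representation of the Lyons group of degree 111 over the field with 5 elements
-/

set_option autoImplicit false
set_option linter.all false

namespace Cfsg.Agent.Lib.LyRep

open Cfsg.Spor Cfsg.Agent.Lib.M5 Cfsg.Agent.Lib.BenesWord Cfsg.Agent.Lib.BenesPerm

/-- lookup -/
noncomputable def nthL (l : List (List ℕ)) : ℕ → List ℕ :=
  List.rec (motive := fun _ => ℕ → List ℕ) (fun _ => []) (fun a _ ih c => Nat.rec (motive := fun _ => List ℕ) a (fun n _ => ih n) c) l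

/-- matrices -/
noncomputable def G : ℕ → List ℕ := nthL [Cfsg.Agent.Lib.LyM.g0, Cfsg.Agent.Lib.LyM.g1, Cfsg.Agent.Lib.LyM.g2, Cfsg.Agent.Lib.LyM.g3, Cfsg.Agent.Lib.LyM.g4, Cfsg.Agent.Lib.LyM.g5, Cfsg.Agent.Lib.LyM.g6, Cfsg.Agent.Lib.LyM.g7, Cfsg.Agent.Lib.LyM.g8, Cfsg.Agent.Lib.LyM.g9, Cfsg.Agent.Lib.LyM.g10, Cfsg.Agent.Lib.LyM.g11, Cfsg.Agent.Lib.LyM.g12, Cfsg.Agent.Lib.LyM.g13, Cfsg.Agent.Lib.LyM.g14, Cfsg.Agent.Lib.LyM.g15, Cfsg.Agent.Lib.LyM.g16, Cfsg.Agent.Lib.LyM.g17, Cfsg.Agent.Lib.LyM.g18, Cfsg.Agent.Lib.LyM.g19, Cfsg.Agent.Lib.LyM.g20, Cfsg.Agent.Lib.LyM.g21, Cfsg.Agent.Lib.LyM.g22, Cfsg.Agent.Lib.LyM.g23, Cfsg.Agent.Lib.LyM.g24, Cfsg.Agent.Lib.LyM.g25, Cfsg.Agent.Lib.LyM.g26, Cfsg.Agent.Lib.LyM.g27, Cfsg.Agent.Lib.LyM.g28, Cfsg.Agent.Lib.LyM.g29, Cfsg.Agent.Lib.LyM.g30, Cfsg.Agent.Lib.LyM.g31, Cfsg.Agent.Lib.LyM.g32, Cfsg.Agent.Lib.LyM.g33, Cfsg.Agent.Lib.LyM.g34, Cfsg.Agent.Lib.LyM.g35, Cfsg.Agent.Lib.LyM.g36,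 Cfsg.Agent.Lib.LyM.g37, Cfsg.Agent.Lib.LyM.g38]
/-- inverse matrices -/
noncomputable def GI : ℕ → List ℕ := nthL [Cfsg.Agent.Lib.LyM.h0, Cfsg.Agent.Lib.LyM.h1, Cfsg.Agent.Lib.LyM.h2, Cfsg.Agent.Lib.LyM.h3, Cfsg.Agent.Lib.LyM.h4, Cfsg.Agent.Lib.LyM.h5, Cfsg.Agent.Lib.LyM.h6, Cfsg.Agent.Lib.LyM.h7, Cfsg.Agent.Lib.LyM.h8, Cfsg.Agent.Lib.LyM.h9, Cfsg.Agent.Lib.LyM.h10, Cfsg.Agent.Lib.LyM.h11, Cfsg.Agent.Lib.LyM.h12, Cfsg.Agent.Lib.LyM.h13, Cfsg.Agent.Lib.LyM.h14, Cfsg.Agent.Lib.LyM.h15, Cfsg.Agent.Lib.LyM.h16, Cfsg.Agent.Lib.LyM.h17, Cfsg.Agent.Lib.LyM.h18, Cfsg.Agent.Lib.LyM.h19, Cfsg.Agent.Lib.LyM.h20, Cfsg.Agent.Lib.LyM.h21, Cfsg.Agent.Lib.LyM.h22, Cfsg.Agent.Lib.LyM.h23, Cfsg.Agent.Lib.LyM.h24, Cfsg.Agent.Lib.LyM.h25, Cfsg.Agent.Lib.LyM.h26, Cfsg.Agent.Lib.LyM.h27, Cfsg.Agent.Lib.LyM.h28, Cfsg.Agent.Lib.LyM.h29, Cfsg.Agent.Lib.LyM.h30, Cfsg.Agent.Lib.LyM.h31, Cfsg.Agent.Lib.LyM.h32, Cfsg.Agent.Lib.LyM.h33, Cfsg.Agent.Lib.LyM.h34,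 Cfsg.Agent.Lib.LyM.h35, Cfsg.Agent.Lib.LyM.h36, Cfsg.Agent.Lib.LyM.h37, Cfsg.Agent.Lib.LyM.h38]

/-- column mask -/
noncomputable def mk0 (m : ℕ) : ℕ := Nat.mul 4095 (Nat.div (Nat.sub (Nat.pow 4096 (Nat.mul 111 m)) 1) (Nat.sub (Nat.pow 4096 111) 1))
/-- reduction mask -/
noncomputable def mm0 (N : ℕ) : ℕ := Nat.mul 15 (Nat.div (Nat.sub (Nat.pow 4096 N) 1) 4095)
/-- identity -/
noncomputable def id0 : ℕ := Nat.div (Nat.sub (Nat.pow 4096 (Nat.mul 112 111)) 1) (Nat.sub (Nat.pow 4096 112) 1)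

theorem geom (q m : ℕ) (hq : 1 < q) : (q ^ m - 1) / (q - 1) = ∑ i ∈ Finset.range m, q ^ i := by
  rw [Nat.geomSum_eq hq]

theorem mk0_eq (m : ℕ) : mk0 m = mkc 111 m := by
  show 4095 * ((4096 ^ (111 * m) - 1) / (4096 ^ 111 - 1)) = _
  have h : (1 : ℕ) < 4096 ^ 111 := Nat.one_lt_pow (by norm_num) (by norm_num)
  rw [pow_mul, geom _ _ h, Finset.mul_sum]
  exact Finset.sum_congr rfl (fun i _ => by rw [← pow_mul])

theorem mm0_eq (N : ℕ) : mm0 N = m15 N := by
  show 15 * ((4096 ^ N - 1) / 4095) = _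
  have := geom 4096 N (by norm_num)
  rw [show (4095 : ℕ) = 4096 - 1 by norm_num, this, Finset.mul_sum]
  rfl

theorem id0_eq : id0 = idX 111 := by
  have e : ∀ q k m : ℕ, Nat.div (Nat.sub (Nat.pow q (Nat.mul k m)) 1) (Nat.sub (Nat.pow q k) 1) = (q ^ (k * m) - 1) / (q ^ k - 1) := fun _ _ _ => rfl
  unfold id0
  rw [e]
  have h : (1 : ℕ) < 4096 ^ 112 := Nat.one_lt_pow (by norm_num) (by norm_num)
  rw [pow_mul, geom _ _ h]
  exact Finset.sum_congr rfl (fun i _ => by rw [← pow_mul]; congr 1; ring)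

/-- row check -/
noncomputable def chkOne (R : List ℕ) : Bool := force (mm0 111) fun mr => force (Nat.sub (Nat.pow 4096 111) 1) fun bd =>
  cond (Nat.beq R.length 111) (chkRows bd mr R) false

/-- inverse check -/
noncomputable def chkInv (R S : List ℕ) : Bool := force (mk0 111) fun mk => force (mm0 12321) fun mm => force id0 fun id =>
  Nat.beq (mulR mk mm S (mulR mk mm R id)) id

theorem rg0 : chkOne Cfsg.Agent.Lib.LyM.g0 = true := by decide +kernel

theorem rh0 : chkOne Cfsg.Agent.Lib.LyM.h0 = true := by decide +kernel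

theorem ri0 : chkInv Cfsg.Agent.Lib.LyM.g0 Cfsg.Agent.Lib.LyM.h0 = true := by decide +kernel

theorem rg1 : chkOne Cfsg.Agent.Lib.LyM.g1 = true := by decide +kernel

theorem rh1 : chkOne Cfsg.Agent.Lib.LyM.h1 = true := by decide +kernel

theorem ri1 : chkInv Cfsg.Agent.Lib.LyM.g1 Cfsg.Agent.Lib.LyM.h1 = true := by decide +kernel

theorem rg2 : chkOne Cfsg.Agent.Lib.LyM.g2 = true := by decide +kernel

theorem rh2 : chkOne Cfsg.Agent.Lib.LyM.h2 = true := by decide +kernel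

theorem ri2 : chkInv Cfsg.Agent.Lib.LyM.g2 Cfsg.Agent.Lib.LyM.h2 = true := by decide +kernel

theorem rg3 : chkOne Cfsg.Agent.Lib.LyM.g3 = true := by decide +kernel

theorem rh3 : chkOne Cfsg.Agent.Lib.LyM.h3 = true := by decide +kernel

theorem ri3 : chkInv Cfsg.Agent.Lib.LyM.g3 Cfsg.Agent.Lib.LyM.h3 = true := by decide +kernel

theorem rg4 : chkOne Cfsg.Agent.Lib.LyM.g4 = true := by decide +kernel

theorem rh4 : chkOne Cfsg.Agent.Lib.LyM.h4 = true := by decide +kernel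

theorem ri4 : chkInv Cfsg.Agent.Lib.LyM.g4 Cfsg.Agent.Lib.LyM.h4 = true := by decide +kernel

theorem rg5 : chkOne Cfsg.Agent.Lib.LyM.g5 = true := by decide +kernel

theorem rh5 : chkOne Cfsg.Agent.Lib.LyM.h5 = true := by decide +kernel

theorem ri5 : chkInv Cfsg.Agent.Lib.LyM.g5 Cfsg.Agent.Lib.LyM.h5 = true := by decide +kernel

theorem rg6 : chkOne Cfsg.Agent.Lib.LyM.g6 = true := by decide +kernel

theorem rh6 : chkOne Cfsg.Agent.Lib.LyM.h6 = true := by decide +kernel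

theorem ri6 : chkInv Cfsg.Agent.Lib.LyM.g6 Cfsg.Agent.Lib.LyM.h6 = true := by decide +kernel

theorem rg7 : chkOne Cfsg.Agent.Lib.LyM.g7 = true := by decide +kernel

theorem rh7 : chkOne Cfsg.Agent.Lib.LyM.h7 = true := by decide +kernel

theorem ri7 : chkInv Cfsg.Agent.Lib.LyM.g7 Cfsg.Agent.Lib.LyM.h7 = true := by decide +kernel

theorem rg8 : chkOne Cfsg.Agent.Lib.LyM.g8 = true := by decide +kernel

theorem rh8 : chkOne Cfsg.Agent.Lib.LyM.h8 = true := by decide +kernel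

theorem ri8 : chkInv Cfsg.Agent.Lib.LyM.g8 Cfsg.Agent.Lib.LyM.h8 = true := by decide +kernel

theorem rg9 : chkOne Cfsg.Agent.Lib.LyM.g9 = true := by decide +kernel

theorem rh9 : chkOne Cfsg.Agent.Lib.LyM.h9 = true := by decide +kernel

theorem ri9 : chkInv Cfsg.Agent.Lib.LyM.g9 Cfsg.Agent.Lib.LyM.h9 = true := by decide +kernel

theorem rg10 : chkOne Cfsg.Agent.Lib.LyM.g10 = true := by decide +kernel

theorem rh10 : chkOne Cfsg.Agent.Lib.LyM.h10 = true := by decide +kernel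

theorem ri10 : chkInv Cfsg.Agent.Lib.LyM.g10 Cfsg.Agent.Lib.LyM.h10 = true := by decide +kernel

theorem rg11 : chkOne Cfsg.Agent.Lib.LyM.g11 = true := by decide +kernel

theorem rh11 : chkOne Cfsg.Agent.Lib.LyM.h11 = true := by decide +kernel

theorem ri11 : chkInv Cfsg.Agent.Lib.LyM.g11 Cfsg.Agent.Lib.LyM.h11 = true := by decide +kernel

theorem rg12 : chkOne Cfsg.Agent.Lib.LyM.g12 = true := by decide +kernel

theorem rh12 : chkOne Cfsg.Agent.Lib.LyM.h12 = true := by decide +kernel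

theorem ri12 : chkInv Cfsg.Agent.Lib.LyM.g12 Cfsg.Agent.Lib.LyM.h12 = true := by decide +kernel

theorem rg13 : chkOne Cfsg.Agent.Lib.LyM.g13 = true := by decide +kernel

theorem rh13 : chkOne Cfsg.Agent.Lib.LyM.h13 = true := by decide +kernel

theorem ri13 : chkInv Cfsg.Agent.Lib.LyM.g13 Cfsg.Agent.Lib.LyM.h13 = true := by decide +kernel

theorem rg14 : chkOne Cfsg.Agent.Lib.LyM.g14 = true := by decide +kernel

theorem rh14 : chkOne Cfsg.Agent.Lib.LyM.h14 = true := by decide +kernel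

theorem ri14 : chkInv Cfsg.Agent.Lib.LyM.g14 Cfsg.Agent.Lib.LyM.h14 = true := by decide +kernel

theorem rg15 : chkOne Cfsg.Agent.Lib.LyM.g15 = true := by decide +kernel

theorem rh15 : chkOne Cfsg.Agent.Lib.LyM.h15 = true := by decide +kernel

theorem ri15 : chkInv Cfsg.Agent.Lib.LyM.g15 Cfsg.Agent.Lib.LyM.h15 = true := by decide +kernel

theorem rg16 : chkOne Cfsg.Agent.Lib.LyM.g16 = true := by decide +kernel

theorem rh16 : chkOne Cfsg.Agent.Lib.LyM.h16 = true := by decide +kernel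

theorem ri16 : chkInv Cfsg.Agent.Lib.LyM.g16 Cfsg.Agent.Lib.LyM.h16 = true := by decide +kernel

theorem rg17 : chkOne Cfsg.Agent.Lib.LyM.g17 = true := by decide +kernel

theorem rh17 : chkOne Cfsg.Agent.Lib.LyM.h17 = true := by decide +kernel

theorem ri17 : chkInv Cfsg.Agent.Lib.LyM.g17 Cfsg.Agent.Lib.LyM.h17 = true := by decide +kernel

theorem rg18 : chkOne Cfsg.Agent.Lib.LyM.g18 = true := by decide +kernel

theorem rh18 : chkOne Cfsg.Agent.Lib.LyM.h18 = true := by decide +kernel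

theorem ri18 : chkInv Cfsg.Agent.Lib.LyM.g18 Cfsg.Agent.Lib.LyM.h18 = true := by decide +kernel

theorem rg19 : chkOne Cfsg.Agent.Lib.LyM.g19 = true := by decide +kernel

theorem rh19 : chkOne Cfsg.Agent.Lib.LyM.h19 = true := by decide +kernel

theorem ri19 : chkInv Cfsg.Agent.Lib.LyM.g19 Cfsg.Agent.Lib.LyM.h19 = true := by decide +kernel

theorem rg20 : chkOne Cfsg.Agent.Lib.LyM.g20 = true := by decide +kernel

theorem rh20 : chkOne Cfsg.Agent.Lib.LyM.h20 = true := by decide +kernel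

theorem ri20 : chkInv Cfsg.Agent.Lib.LyM.g20 Cfsg.Agent.Lib.LyM.h20 = true := by decide +kernel

theorem rg21 : chkOne Cfsg.Agent.Lib.LyM.g21 = true := by decide +kernel

theorem rh21 : chkOne Cfsg.Agent.Lib.LyM.h21 = true := by decide +kernel

theorem ri21 : chkInv Cfsg.Agent.Lib.LyM.g21 Cfsg.Agent.Lib.LyM.h21 = true := by decide +kernel

theorem rg22 : chkOne Cfsg.Agent.Lib.LyM.g22 = true := by decide +kernel

theorem rh22 : chkOne Cfsg.Agent.Lib.LyM.h22 = true := by decide +kernel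

theorem ri22 : chkInv Cfsg.Agent.Lib.LyM.g22 Cfsg.Agent.Lib.LyM.h22 = true := by decide +kernel

theorem rg23 : chkOne Cfsg.Agent.Lib.LyM.g23 = true := by decide +kernel

theorem rh23 : chkOne Cfsg.Agent.Lib.LyM.h23 = true := by decide +kernel

theorem ri23 : chkInv Cfsg.Agent.Lib.LyM.g23 Cfsg.Agent.Lib.LyM.h23 = true := by decide +kernel

theorem rg24 : chkOne Cfsg.Agent.Lib.LyM.g24 = true := by decide +kernel

theorem rh24 : chkOne Cfsg.Agent.Lib.LyM.h24 = true := by decide +kernel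

theorem ri24 : chkInv Cfsg.Agent.Lib.LyM.g24 Cfsg.Agent.Lib.LyM.h24 = true := by decide +kernel

theorem rg25 : chkOne Cfsg.Agent.Lib.LyM.g25 = true := by decide +kernel

theorem rh25 : chkOne Cfsg.Agent.Lib.LyM.h25 = true := by decide +kernel

theorem ri25 : chkInv Cfsg.Agent.Lib.LyM.g25 Cfsg.Agent.Lib.LyM.h25 = true := by decide +kernel

theorem rg26 : chkOne Cfsg.Agent.Lib.LyM.g26 = true := by decide +kernel

theorem rh26 : chkOne Cfsg.Agent.Lib.LyM.h26 = true := by decide +kernel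

theorem ri26 : chkInv Cfsg.Agent.Lib.LyM.g26 Cfsg.Agent.Lib.LyM.h26 = true := by decide +kernel

theorem rg27 : chkOne Cfsg.Agent.Lib.LyM.g27 = true := by decide +kernel

theorem rh27 : chkOne Cfsg.Agent.Lib.LyM.h27 = true := by decide +kernel

theorem ri27 : chkInv Cfsg.Agent.Lib.LyM.g27 Cfsg.Agent.Lib.LyM.h27 = true := by decide +kernel

theorem rg28 : chkOne Cfsg.Agent.Lib.LyM.g28 = true := by decide +kernel

theorem rh28 : chkOne Cfsg.Agent.Lib.LyM.h28 = true := by decide +kernel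

theorem ri28 : chkInv Cfsg.Agent.Lib.LyM.g28 Cfsg.Agent.Lib.LyM.h28 = true := by decide +kernel

theorem rg29 : chkOne Cfsg.Agent.Lib.LyM.g29 = true := by decide +kernel

theorem rh29 : chkOne Cfsg.Agent.Lib.LyM.h29 = true := by decide +kernel

theorem ri29 : chkInv Cfsg.Agent.Lib.LyM.g29 Cfsg.Agent.Lib.LyM.h29 = true := by decide +kernel

theorem rg30 : chkOne Cfsg.Agent.Lib.LyM.g30 = true := by decide +kernel

theorem rh30 : chkOne Cfsg.Agent.Lib.LyM.h30 = true := by decide +kernel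

theorem ri30 : chkInv Cfsg.Agent.Lib.LyM.g30 Cfsg.Agent.Lib.LyM.h30 = true := by decide +kernel

theorem rg31 : chkOne Cfsg.Agent.Lib.LyM.g31 = true := by decide +kernel

theorem rh31 : chkOne Cfsg.Agent.Lib.LyM.h31 = true := by decide +kernel

theorem ri31 : chkInv Cfsg.Agent.Lib.LyM.g31 Cfsg.Agent.Lib.LyM.h31 = true := by decide +kernel

theorem rg32 : chkOne Cfsg.Agent.Lib.LyM.g32 = true := by decide +kernel

theorem rh32 : chkOne Cfsg.Agent.Lib.LyM.h32 = true := by decide +kernel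

theorem ri32 : chkInv Cfsg.Agent.Lib.LyM.g32 Cfsg.Agent.Lib.LyM.h32 = true := by decide +kernel

theorem rg33 : chkOne Cfsg.Agent.Lib.LyM.g33 = true := by decide +kernel

theorem rh33 : chkOne Cfsg.Agent.Lib.LyM.h33 = true := by decide +kernel

theorem ri33 : chkInv Cfsg.Agent.Lib.LyM.g33 Cfsg.Agent.Lib.LyM.h33 = true := by decide +kernel

theorem rg34 : chkOne Cfsg.Agent.Lib.LyM.g34 = true := by decide +kernel

theorem rh34 : chkOne Cfsg.Agent.Lib.LyM.h34 = true := by decide +kernel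

theorem ri34 : chkInv Cfsg.Agent.Lib.LyM.g34 Cfsg.Agent.Lib.LyM.h34 = true := by decide +kernel

theorem rg35 : chkOne Cfsg.Agent.Lib.LyM.g35 = true := by decide +kernel

theorem rh35 : chkOne Cfsg.Agent.Lib.LyM.h35 = true := by decide +kernel

theorem ri35 : chkInv Cfsg.Agent.Lib.LyM.g35 Cfsg.Agent.Lib.LyM.h35 = true := by decide +kernel

theorem rg36 : chkOne Cfsg.Agent.Lib.LyM.g36 = true := by decide +kernel

theorem rh36 : chkOne Cfsg.Agent.Lib.LyM.h36 = true := by decide +kernel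

theorem ri36 : chkInv Cfsg.Agent.Lib.LyM.g36 Cfsg.Agent.Lib.LyM.h36 = true := by decide +kernel

theorem rg37 : chkOne Cfsg.Agent.Lib.LyM.g37 = true := by decide +kernel

theorem rh37 : chkOne Cfsg.Agent.Lib.LyM.h37 = true := by decide +kernel

theorem ri37 : chkInv Cfsg.Agent.Lib.LyM.g37 Cfsg.Agent.Lib.LyM.h37 = true := by decide +kernel

theorem rg38 : chkOne Cfsg.Agent.Lib.LyM.g38 = true := by decide +kernel

theorem rh38 : chkOne Cfsg.Agent.Lib.LyM.h38 = true := by decide +kernel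

theorem ri38 : chkInv Cfsg.Agent.Lib.LyM.g38 Cfsg.Agent.Lib.LyM.h38 = true := by decide +kernel

/-- relator check -/
noncomputable def relsM (mk mm id : ℕ) (l : List Wd) : Bool :=
  List.rec (motive := fun _ => Bool) true (fun W _ ih => cond (relM mk mm id G GI W) ih false) l

theorem relsM_spec {mk mm id : ℕ} {l : List Wd} (h : relsM mk mm id l = true) : ∀ W ∈ l, relM mk mm id G GI W = true := by
  induction l with
  | nil => intro W hW; exact absurd hW (by simp)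
  | cons V l ih =>
    have h' : cond (relM mk mm id G GI V) (relsM mk mm id l) false = true := h
    intro W hW
    cases h1 : relM mk mm id G GI V with
    | false => rw [h1] at h'; simp at h'
    | true =>
      rw [h1] at h'
      rcases List.mem_cons.mp hW with rfl | hW
      · exact h1
      · exact ih h' W hW

/-- check of a list of relators -/
noncomputable def chkR (l : List Wd) : Bool := force (mk0 111) fun mk => force (mm0 12321) fun mm => force id0 fun id => relsM mk mm id l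

theorem chkR1 : chkR LyRel.relW1 = true := by decide +kernel

theorem chkR2 : chkR LyRel.relW2 = true := by decide +kernel

theorem repR_of {R : List ℕ} (h : chkOne R = true) : RepR 111 R (matR 111 R) := by
  unfold chkOne at h
  rw [force_eq, force_eq, mm0_eq] at h
  cases a1 : Nat.beq R.length 111 with
  | false => rw [a1] at h; simp at h
  | true => rw [a1] at h; exact repR a1 h

theorem mul_of {R S : List ℕ} (hR : chkOne R = true) (hS : chkOne S = true) (h : chkInv R S = true) : matR 111 R * matR 111 S = 1 := by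
  unfold chkInv at h
  rw [force_eq, force_eq, force_eq, mk0_eq, show (12321 : ℕ) = 111 * 111 by norm_num, mm0_eq, id0_eq] at h
  have h2 := Nat.eq_of_beq_eq_true h
  have h3 := mulR_rep (by norm_num) (by norm_num) (mulR_rep (by norm_num) (by norm_num) (idX_rep 111) (repR_of hR)) (repR_of hS)
  rw [h2, Matrix.one_mul] at h3
  exact (h3.ext (idX_rep 111))

theorem hA : ∀ c < 39, RepR 111 (G c) (matR 111 (G c)) ∧ RepR 111 (GI c) (matR 111 (GI c)) := by
  intro c hc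
  interval_cases c
  · exact ⟨repR_of rg0, repR_of rh0⟩
  · exact ⟨repR_of rg1, repR_of rh1⟩
  · exact ⟨repR_of rg2, repR_of rh2⟩
  · exact ⟨repR_of rg3, repR_of rh3⟩
  · exact ⟨repR_of rg4, repR_of rh4⟩
  · exact ⟨repR_of rg5, repR_of rh5⟩
  · exact ⟨repR_of rg6, repR_of rh6⟩
  · exact ⟨repR_of rg7, repR_of rh7⟩
  · exact ⟨repR_of rg8, repR_of rh8⟩
  · exact ⟨repR_of rg9, repR_of rh9⟩
  · exact ⟨repR_of rg10, repR_of rh10⟩
  · exact ⟨repR_of rg11, repR_of rh11⟩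
  · exact ⟨repR_of rg12, repR_of rh12⟩
  · exact ⟨repR_of rg13, repR_of rh13⟩
  · exact ⟨repR_of rg14, repR_of rh14⟩
  · exact ⟨repR_of rg15, repR_of rh15⟩
  · exact ⟨repR_of rg16, repR_of rh16⟩
  · exact ⟨repR_of rg17, repR_of rh17⟩
  · exact ⟨repR_of rg18, repR_of rh18⟩
  · exact ⟨repR_of rg19, repR_of rh19⟩
  · exact ⟨repR_of rg20, repR_of rh20⟩
  · exact ⟨repR_of rg21, repR_of rh21⟩
  · exact ⟨repR_of rg22, repR_of rh22⟩
  · exact ⟨repR_of rg23, repR_of rh23⟩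
  · exact ⟨repR_of rg24, repR_of rh24⟩
  · exact ⟨repR_of rg25, repR_of rh25⟩
  · exact ⟨repR_of rg26, repR_of rh26⟩
  · exact ⟨repR_of rg27, repR_of rh27⟩
  · exact ⟨repR_of rg28, repR_of rh28⟩
  · exact ⟨repR_of rg29, repR_of rh29⟩
  · exact ⟨repR_of rg30, repR_of rh30⟩
  · exact ⟨repR_of rg31, repR_of rh31⟩
  · exact ⟨repR_of rg32, repR_of rh32⟩
  · exact ⟨repR_of rg33, repR_of rh33⟩
  · exact ⟨repR_of rg34, repR_of rh34⟩
  · exact ⟨repR_of rg35, repR_of rh35⟩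
  · exact ⟨repR_of rg36, repR_of rh36⟩
  · exact ⟨repR_of rg37, repR_of rh37⟩
  · exact ⟨repR_of rg38, repR_of rh38⟩

theorem hB : ∀ c < 39, matR 111 (G c) * matR 111 (GI c) = 1 := by
  intro c hc
  interval_cases c
  · exact mul_of rg0 rh0 ri0
  · exact mul_of rg1 rh1 ri1
  · exact mul_of rg2 rh2 ri2
  · exact mul_of rg3 rh3 ri3
  · exact mul_of rg4 rh4 ri4
  · exact mul_of rg5 rh5 ri5
  · exact mul_of rg6 rh6 ri6
  · exact mul_of rg7 rh7 ri7
  · exact mul_of rg8 rh8 ri8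
  · exact mul_of rg9 rh9 ri9
  · exact mul_of rg10 rh10 ri10
  · exact mul_of rg11 rh11 ri11
  · exact mul_of rg12 rh12 ri12
  · exact mul_of rg13 rh13 ri13
  · exact mul_of rg14 rh14 ri14
  · exact mul_of rg15 rh15 ri15
  · exact mul_of rg16 rh16 ri16
  · exact mul_of rg17 rh17 ri17
  · exact mul_of rg18 rh18 ri18
  · exact mul_of rg19 rh19 ri19
  · exact mul_of rg20 rh20 ri20
  · exact mul_of rg21 rh21 ri21
  · exact mul_of rg22 rh22 ri22
  · exact mul_of rg23 rh23 ri23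
  · exact mul_of rg24 rh24 ri24
  · exact mul_of rg25 rh25 ri25
  · exact mul_of rg26 rh26 ri26
  · exact mul_of rg27 rh27 ri27
  · exact mul_of rg28 rh28 ri28
  · exact mul_of rg29 rh29 ri29
  · exact mul_of rg30 rh30 ri30
  · exact mul_of rg31 rh31 ri31
  · exact mul_of rg32 rh32 ri32
  · exact mul_of rg33 rh33 ri33
  · exact mul_of rg34 rh34 ri34
  · exact mul_of rg35 rh35 ri35
  · exact mul_of rg36 rh36 ri36
  · exact mul_of rg37 rh37 ri37
  · exact mul_of rg38 rh38 ri38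

/-- the units -/
noncomputable def u (c : ℕ) : (Matrix (Fin 111) (Fin 111) (ZMod 5))ˣ :=
  if h : c < 39 then ⟨matR 111 (G c), matR 111 (GI c), hB c h, mul_eq_one_comm.mp (hB c h)⟩ else 1

theorem hG : ∀ c < 39, RepR 111 (G c) (u c) := by
  intro c hc
  have := (hA c hc).1
  unfold u; rw [dif_pos hc]; exact this

theorem hGI : ∀ c < 39, RepR 111 (GI c) ((u c)⁻¹ : (Matrix (Fin 111) (Fin 111) (ZMod 5))ˣ) := by
  intro c hc
  have := (hA c hc).2
  unfold u; rw [dif_pos hc]; exact this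

theorem rel_of_chk {l : List Wd} (h : chkR l = true) : ∀ W ∈ l, Cfsg.Agent.Lib.CoxBridge.lets 39 W = true → W.eval u = 1 := by
  unfold chkR at h
  rw [force_eq, force_eq, force_eq, mk0_eq, show (12321 : ℕ) = 111 * 111 by norm_num, mm0_eq, id0_eq] at h
  intro W hW hl
  exact relM_sound (by norm_num) (by norm_num) hG hGI W hl (relsM_spec h W hW)

/-- the representation -/
theorem exists_rep : ∃ ρ : Ly →* (Matrix (Fin 111) (Fin 111) (ZMod 5))ˣ, ∀ c < 39, ρ (PresentedGroup.of (LyRel.gen c)) = u c := by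
  obtain ⟨f, hf⟩ := LyRel.C.hom u (fun i hi => absurd hi (by simp [LyRel.C])) (fun W hW => by
    simp [LyRel.C, Cfsg.Agent.Lib.CoxBridge.coxWds] at hW) (by
    intro W hW
    have hl := LyRel.C.hlets W hW
    rcases List.mem_append.mp (show W ∈ LyRel.relW1 ++ LyRel.relW2 from hW) with h | h
    · exact rel_of_chk chkR1 W h hl
    · exact rel_of_chk chkR2 W h hl)
  exact ⟨f, hf⟩

end Cfsg.Agent.Lib.LyRep
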