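import Cfsg.Agent.Lib.LyP2
import Cfsg.Agent.Lib.LyRep

/-!
# The subgroup `⟨a, b, c, d⟩` of the Lyons group
-/

set_option autoImplicit false
set_option linter.all false
set_option maxRecDepth 100000

namespace Cfsg.Agent.Lib.LyH

open Cfsg.Spor Cfsg.Lie Cfsg.Agent.Lib.BenesWord Cfsg.Agent.Lib.LyPres Cfsg.Agent.Lib.LyG14P Cfsg.Agent.Lib.LyP Cfsg.Agent.Lib.LyP2
open Cfsg.Agent.Lib.LyG14 (relP)
open Cfsg.Agent.Lib.M5 Cfsg.Agent.Lib.BenesPerm

/-- the letters of the Lyons group -/
noncomputable def Y (c : ℕ) : Ly := PresentedGroup.of (LyRel.gen c)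

theorem relY : ∀ W ∈ LyRel.extraW, W.eval Y = 1 := by
  intro W hW
  have h := (LyRel.C.rel_x []).2.1 W hW
  rw [← h]
  apply Cfsg.Agent.Lib.CoxBridge.eval_congr (n := 39) _ W (LyRel.C.hlets W hW)
  intro c hc
  exact (LyRel.C.x_of_lt [] hc).symm

theorem relW1_lets : ∀ W ∈ LyRel.relW1, Cfsg.Agent.Lib.CoxBridge.lets 15 W = true := by decide +kernel

/-- letters killed do not occur -/
def noK : Wd → Bool
  | .one => true
  | .g c => !(decide (c = 4) || (decide (6 ≤ c) && decide (c ≤ 9)) || decide (15 ≤ c))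
  | .inv u => noK u
  | .mul u v => noK u && noK v
  | .pow u _ => noK u

theorem noK_eval {G : Type*} [Group G] {y y' : ℕ → G} (h : ∀ c, ¬ (c = 4 ∨ (6 ≤ c ∧ c ≤ 9) ∨ 15 ≤ c) → y c = y' c) (W : Wd)
    (hW : noK W = true) : W.eval y = W.eval y' := by
  induction W with
  | one => rfl
  | g c =>
    apply h
    simp only [noK, Bool.not_eq_true', Bool.or_eq_false_iff, Bool.and_eq_false_iff, decide_eq_false_iff_not] at hW
    omega
  | inv u ih => simp only [Wd.eval]; rw [ih hW]
  | mul u v ihu ihv =>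
    simp only [noK, Bool.and_eq_true] at hW
    simp only [Wd.eval]; rw [ihu hW.1, ihv hW.2]
  | pow u m ih => simp only [Wd.eval]; rw [ih hW]

theorem relW1_no : ∀ W ∈ LyRel.relW1, noK W = true := by decide +kernel

theorem exists_theta : ∃ θ : P44 →* Ly, ∀ c, θ (X c) = if c = 4 ∨ (6 ≤ c ∧ c ≤ 9) ∨ 15 ≤ c then 1 else Y c := by
  apply wx_hom
  · intro W hW
    rcases List.mem_append.mp hW with h | h
    · rw [noK_eval (y' := Y) (fun c hc => if_neg hc) W (relW1_no W h)]
      exact relY W (List.mem_append_left _ h)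
    · simp only [List.mem_cons, List.not_mem_nil, or_false] at h
      rcases h with rfl | rfl | rfl | rfl | rfl <;> rfl
  · intro c hc
    rw [if_pos (by omega)]

/-- the map of the subgroup -/
noncomputable def θ : P44 →* Ly := exists_theta.choose
theorem θ_spec : ∀ c, θ (X c) = if c = 4 ∨ (6 ≤ c ∧ c ≤ 9) ∨ 15 ≤ c then 1 else Y c := exists_theta.choose_spec

theorem θ_of {c : ℕ} (hc : c = 0 ∨ c = 1 ∨ c = 2 ∨ c = 3 ∨ c = 5 ∨ c = 10 ∨ c = 11 ∨ c = 12 ∨ c = 13 ∨ c = 14) : θ (X c) = Y c := by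
  rw [θ_spec, if_neg (by omega)]

/-- the representation -/
noncomputable def ρ : Ly →* (Matrix (Fin 111) (Fin 111) (ZMod 5))ˣ := LyRep.exists_rep.choose
theorem ρ_spec : ∀ c < 39, ρ (Y c) = LyRep.u c := LyRep.exists_rep.choose_spec

/-- `a` acts nontrivially -/
noncomputable def chkNe : Bool := force (LyRep.mk0 111) fun mk => force (LyRep.mm0 12321) fun mm => force LyRep.id0 fun id =>
  Nat.beq (mulR mk mm (LyRep.G 0) id) id

theorem chkNe_false : chkNe = false := by decide +kernel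

theorem u0_ne : LyRep.u 0 ≠ 1 := by
  intro h
  have h1 := LyRep.hG 0 (by norm_num)
  rw [h] at h1
  have h2 := mulR_rep (by norm_num) (by norm_num) (idX_rep 111) h1
  rw [Units.val_one, Matrix.one_mul] at h2
  have h3 := h2.ext' (idX_rep 111)
  have h4 := chkNe_false
  unfold chkNe at h4
  rw [force_eq, force_eq, force_eq, LyRep.mk0_eq, show (12321 : ℕ) = 111 * 111 by norm_num, LyRep.mm0_eq, LyRep.id0_eq, h3] at h4
  have h5 : Nat.beq (idX 111) (idX 111) = true := Nat.beq_refl _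
  rw [h5] at h4
  exact Bool.noConfusion h4

theorem θ_inj : Function.Injective θ := by
  have hs := simpleP
  rw [← MonoidHom.ker_eq_bot_iff]
  rcases Subgroup.Normal.eq_bot_or_eq_top (inferInstance : θ.ker.Normal) with h | h
  · exact h
  · exfalso
    have h1 : X 0 ∈ θ.ker := by rw [h]; trivial
    have h2 : θ (X 0) = 1 := h1
    rw [θ_of (by norm_num)] at h2
    apply u0_ne
    rw [← ρ_spec 0 (by norm_num), h2, map_one]

theorem topP : Subgroup.closure ({X 0, X 1, X 2, X 3} : Set P44) = ⊤ := by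
  have hb : RB (X 0) (X 1) (X 10) (X 11) (X 12) (X 13) (X 14) := (rb_of _ rel28X).1
  have e6 := e6X
  have hp := rpX
  rw [eq_top_iff, ← wx_top 15 relP, Subgroup.closure_le]
  have m0 : X 0 ∈ Subgroup.closure ({X 0, X 1, X 2, X 3} : Set P44) := Subgroup.subset_closure (by simp)
  have m1 : X 1 ∈ Subgroup.closure ({X 0, X 1, X 2, X 3} : Set P44) := Subgroup.subset_closure (by simp)
  have m2 : X 2 ∈ Subgroup.closure ({X 0, X 1, X 2, X 3} : Set P44) := Subgroup.subset_closure (by simp)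
  have m3 : X 3 ∈ Subgroup.closure ({X 0, X 1, X 2, X 3} : Set P44) := Subgroup.subset_closure (by simp)
  set S := Subgroup.closure ({X 0, X 1, X 2, X 3} : Set P44)
  have m10 : X 10 ∈ S := by rw [e6]; exact m2
  have m11 : X 11 ∈ S := by rw [hb.r7]; exact mul_mem (mul_mem (inv_mem m0) m10) m0
  have m12 : X 12 ∈ S := by rw [hb.r8]; exact mul_mem (mul_mem (inv_mem m1) m10) m1
  have m13 : X 13 ∈ S := by rw [hb.r9]; exact mul_mem (mul_mem m1 m10) (inv_mem m1)
  have m14 : X 14 ∈ S := by rw [hb.r10]; exact mul_mem (mul_mem (mul_mem (inv_mem m10) (inv_mem m11)) m10) m11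
  have m5 : X 5 ∈ S := by
    rw [hp.r29]
    repeat' first | assumption | apply mul_mem | apply inv_mem | apply pow_mem
  rintro _ ⟨c, rfl⟩
  show X c ∈ S
  by_cases h15 : 15 ≤ c
  · rw [show X c = 1 from wx_ge h15]; exact S.one_mem
  · by_cases hk : c = 4 ∨ c = 6 ∨ c = 7 ∨ c = 8 ∨ c = 9
    · rw [killX hk]; exact S.one_mem
    · have : c = 0 ∨ c = 1 ∨ c = 2 ∨ c = 3 ∨ c = 5 ∨ c = 10 ∨ c = 11 ∨ c = 12 ∨ c = 13 ∨ c = 14 := by omega
      rcases this with rfl | rfl | rfl | rfl | rfl | rfl | rfl | rfl | rfl | rfl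
      · exact m0
      · exact m1
      · exact m2
      · exact m3
      · exact m5
      · exact m10
      · exact m11
      · exact m12
      · exact m13
      · exact m14

/-- the subgroup -/
abbrev HH : Subgroup Ly := (Subgroup.closure ({Ly.a, Ly.b, Ly.c, Ly.d} : Set (FreeGroup Ly.Gen))).map
  (PresentedGroup.mk (coxRelators Ly.edges ∪ {r | r ∈ Ly.extra}))

theorem range_θ : θ.range = HH := by
  unfold HH
  rw [MonoidHom.range_eq_map, ← topP, MonoidHom.map_closure, MonoidHom.map_closure]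
  congr 1
  rw [Set.image_insert_eq, Set.image_insert_eq, Set.image_insert_eq, Set.image_singleton,
    Set.image_insert_eq, Set.image_insert_eq, Set.image_insert_eq, Set.image_singleton,
    θ_of (by norm_num), θ_of (by norm_num), θ_of (by norm_num), θ_of (by norm_num)]
  rfl

/-- the isomorphism -/
theorem iso : Nonempty (HH ≃* chevG2.group (ZMod 5)) := by
  obtain ⟨φ, _⟩ := exists_iso
  exact ⟨(MulEquiv.subgroupCongr range_θ.symm).trans ((MonoidHom.ofInjective θ_inj).symm.trans φ)⟩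

theorem cardH : Nat.card HH = 5859000000 := by
  obtain ⟨φ⟩ := iso
  rw [Nat.card_congr φ.toEquiv, card_G2]

end Cfsg.Agent.Lib.LyH
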