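import Cfsg.Agent.Lib.LyCUw
import Cfsg.Agent.Lib.LyCUg
import Cfsg.Agent.Lib.LyH

/-!
# The double cover of the alternating group of degree eleven in the Lyons group
-/

set_option autoImplicit false
set_option linter.all false
set_option maxRecDepth 100000

namespace Cfsg.Agent.Lib.LyCU

open Cfsg.Spor Cfsg.Agent.Lib.M5 Cfsg.Agent.Lib.BenesWord Cfsg.Agent.Lib.LyCUw Subgroup
open Cfsg.Agent.Lib.LyH (Y ρ ρ_spec relY)

theorem map_ev {G H : Type*} [Group G] [Group H] (f : G →* H) (y : ℕ → G) (W : Wd) : f (W.eval y) = W.eval (fun c => f (y c)) := by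
  induction W with
  | one => exact map_one f
  | g c => rfl
  | inv u ih => simp only [Wd.eval, map_inv, ih]
  | mul u v ihu ihv => simp only [Wd.eval, map_mul, ihu, ihv]
  | pow u n ih => simp only [Wd.eval, map_pow, ih]

theorem v_eq : ∀ c < 5, v c = LyRep.u c := by
  intro c hc
  apply Units.ext
  have h1 : c < L.length := by show c < 16; omega
  have h2 : c < 39 := by omega
  have e1 : ((v c : (Matrix (Fin 111) (Fin 111) (ZMod 5))ˣ) : Matrix (Fin 111) (Fin 111) (ZMod 5)) = matR 111 (GG L c) := by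
    unfold v uu; rw [dif_pos h1]
  have e2 : ((LyRep.u c : (Matrix (Fin 111) (Fin 111) (ZMod 5))ˣ) : Matrix (Fin 111) (Fin 111) (ZMod 5)) = matR 111 (LyRep.G c) := by
    unfold LyRep.u; rw [dif_pos h2]
  rw [e1, e2]
  interval_cases c <;> rfl

/-- the elements -/
noncomputable def y5 : Ly := Yw.eval Y
noncomputable def Y5 (c : ℕ) : Ly := if c = 5 then y5 else Y c
noncomputable def x6 : Ly := Xw.eval Y5
noncomputable def Y6 (c : ℕ) : Ly := if c = 6 then x6 else Y5 c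
noncomputable def X (i : ℕ) : Ly := (Cw i).eval Y6
noncomputable def YY (c : ℕ) : Ly := if 7 ≤ c then X (c - 7) else Y6 c

theorem ρY : ∀ c < 5, ρ (Y c) = v c := fun c hc => by rw [v_eq c hc, ρ_spec c (by omega)]

theorem lets_Y : Cfsg.Agent.Lib.CoxBridge.lets 5 Yw = true := by decide +kernel
theorem lets_X : Cfsg.Agent.Lib.CoxBridge.lets 6 Xw = true := by decide +kernel
theorem lets_Cw : ∀ i < 9, Cfsg.Agent.Lib.CoxBridge.lets 7 (Cw i) = true := by decide +kernel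

theorem ρY5 : ∀ c < 6, ρ (Y5 c) = v c := by
  intro c hc
  by_cases h : c = 5
  · subst h
    have h1 := relv.1 (.mul (.inv (.g 5)) Yw) (by simp [relD])
    simp only [Wd.eval] at h1
    have h2 : v 5 = Yw.eval v := inv_mul_eq_one.1 h1
    show ρ y5 = v 5
    rw [h2, y5, map_ev]
    exact Cfsg.Agent.Lib.CoxBridge.eval_congr (n := 5) ρY Yw lets_Y
  · unfold Y5; rw [if_neg h]; exact ρY c (by omega)

theorem ρY6 : ∀ c < 7, ρ (Y6 c) = v c := by
  intro c hc
  by_cases h : c = 6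
  · subst h
    have h1 := relv.1 (.mul (.inv (.g 6)) Xw) (by simp [relD])
    simp only [Wd.eval] at h1
    have h2 : v 6 = Xw.eval v := inv_mul_eq_one.1 h1
    show ρ x6 = v 6
    rw [h2, x6, map_ev]
    exact Cfsg.Agent.Lib.CoxBridge.eval_congr (n := 6) ρY5 Xw lets_X
  · unfold Y6; rw [if_neg h]; exact ρY5 c (by omega)

theorem memD : ∀ i < 9, (Wd.mul (.inv (.g (7 + i))) (Cw i)) ∈ relD := by
  intro i hi
  interval_cases i <;> simp [relD]

theorem ρX : ∀ i < 9, ρ (X i) = v (7 + i) := by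
  intro i hi
  have h1 := relv.1 _ (memD i hi)
  simp only [Wd.eval] at h1
  have h2 : v (7 + i) = (Cw i).eval v := inv_mul_eq_one.1 h1
  rw [h2, X, map_ev]
  exact Cfsg.Agent.Lib.CoxBridge.eval_congr (n := 7) ρY6 (Cw i) (lets_Cw i hi)

theorem ρZ : ρ (Y 0 ^ 4) = Zw.eval v := by
  rw [map_pow, ρY 0 (by norm_num)]; rfl

variable (hρ : Function.Injective ρ)
include hρ

theorem X3 : ∀ i < 9, X i ^ 3 = 1 := by
  intro i hi
  apply hρ
  rw [map_pow, ρX i hi, map_one]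
  exact relv.2.1 (.pow (.g (7 + i)) 3) (List.mem_flatMap.2 ⟨i, List.mem_range.2 hi, by simp⟩)

theorem XZ : ∀ i < 9, Y 0 ^ 4 * X i = X i * Y 0 ^ 4 := by
  intro i hi
  apply hρ
  rw [map_mul, map_mul, ρX i hi, ρZ]
  have h := relv.2.1 (.mul (.mul (.mul (.inv Zw) (.inv (.g (7 + i)))) Zw) (.g (7 + i)))
    (List.mem_flatMap.2 ⟨i, List.mem_range.2 hi, by simp⟩)
  simp only [Wd.eval] at h
  have h' : (Zw.eval v)⁻¹ * (v (7 + i))⁻¹ * Zw.eval v * v (7 + i) = 1 := h
  have h2 : Zw.eval v * v (7 + i) = v (7 + i) * Zw.eval v := by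
    have : (v (7 + i) * Zw.eval v)⁻¹ * (Zw.eval v * v (7 + i)) = 1 := by rw [← h']; group
    exact (inv_mul_eq_one.1 this).symm
  exact h2

theorem XX : ∀ i < 9, ∀ j < 9, i ≠ j → (X i * X j) ^ 2 = Y 0 ^ 4 := by
  intro i hi j hj hij
  apply hρ
  rw [map_pow, map_mul, ρX i hi, ρX j hj, ρZ]
  have h := relv.2.2 (.mul (.pow (.mul (.g (7 + i)) (.g (7 + j))) 2) (.inv Zw))
    (List.mem_flatMap.2 ⟨i, List.mem_range.2 hi, List.mem_flatMap.2 ⟨j, List.mem_range.2 hj, by simp [hij]⟩⟩)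
  simp only [Wd.eval] at h
  exact mul_inv_eq_one.1 h

theorem Z_ne1 : Y 0 ^ 4 ≠ 1 := by
  intro h
  apply Z_ne
  rw [← ρZ, h, map_one]

omit hρ in
theorem Z_sq : (Y 0 ^ 4) ^ 2 = 1 := by
  have h := relY (.pow (.g 0) 8) (List.mem_append_left _ (List.mem_cons_self ..))
  rw [← pow_mul]; exact h

/-- the double cover -/
theorem main : ∃ D : Subgroup Ly, (∀ g ∈ D, g * Y 0 ^ 4 = Y 0 ^ 4 * g) ∧ Nat.card D = 39916800 ∧
    Cfsg.IsNonsplitDoubleCover D (alternatingGroup (Fin 11)) := by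
  obtain ⟨h1, h2⟩ := LyCUg.dbl_of (fun i : Fin 9 => X i) (Y 0 ^ 4) (fun i => X3 hρ i i.2)
    (fun i j hij => XX hρ i i.2 j j.2 (fun h => hij (Fin.ext h))) (fun i => XZ hρ i i.2) (Z_ne1 hρ) Z_sq
  refine ⟨_, ?_, h1, h2⟩
  have h3 : closure (Set.range (fun i : Fin 9 => X i)) ≤ centralizer {Y 0 ^ 4} := by
    rw [closure_le]
    rintro _ ⟨i, rfl⟩
    rw [SetLike.mem_coe, mem_centralizer_singleton_iff]
    exact (XZ hρ i i.2).symm
  intro g hg
  exact mem_centralizer_singleton_iff.1 (h3 hg)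

end Cfsg.Agent.Lib.LyCU
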