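import Cfsg.Agent.Lib.LyCU

/-!
# The double cover of the alternating group of degree eleven in the matrix group of degree 111
-/

set_option autoImplicit false
set_option linter.all false
set_option maxRecDepth 100000

namespace Cfsg.Agent.Lib.LyCUr

open Cfsg.Spor Cfsg.Agent.Lib.M5 Cfsg.Agent.Lib.BenesWord Cfsg.Agent.Lib.LyCUw Subgroup
open Cfsg.Agent.Lib.LyH (Y ρ ρ_spec relY)
open Cfsg.Agent.Lib.LyCU

/-- a double cover of the alternating group of degree eleven in the matrix group -/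
theorem range_main : ∃ D : Subgroup (Matrix (Fin 111) (Fin 111) (ZMod 5))ˣ, D ≤ ρ.range ∧ Nat.card D = 39916800 ∧
    Cfsg.IsNonsplitDoubleCover D (alternatingGroup (Fin 11)) := by
  obtain ⟨h1, h2⟩ := LyCUg.dbl_of (fun i : Fin 9 => v (7 + i)) (Zw.eval v)
    (fun i => relv.2.1 (.pow (.g (7 + i)) 3) (List.mem_flatMap.2 ⟨i, List.mem_range.2 i.2, by simp⟩))
    (fun i j hij => by
      have h := relv.2.2 (.mul (.pow (.mul (.g (7 + i)) (.g (7 + j))) 2) (.inv Zw))
        (List.mem_flatMap.2 ⟨i, List.mem_range.2 i.2, List.mem_flatMap.2 ⟨j, List.mem_range.2 j.2, by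
          have : (i : ℕ) ≠ j := fun h => hij (Fin.ext h)
          simp [this]⟩⟩)
      simp only [Wd.eval] at h
      exact mul_inv_eq_one.1 h)
    (fun i => by
      have h := relv.2.1 (.mul (.mul (.mul (.inv Zw) (.inv (.g (7 + i)))) Zw) (.g (7 + i)))
        (List.mem_flatMap.2 ⟨i, List.mem_range.2 i.2, by simp⟩)
      simp only [Wd.eval] at h
      have h' : (Zw.eval v)⁻¹ * (v (7 + i))⁻¹ * Zw.eval v * v (7 + i) = 1 := h
      have : (v (7 + i) * Zw.eval v)⁻¹ * (Zw.eval v * v (7 + i)) = 1 := by rw [← h']; group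
      exact (inv_mul_eq_one.1 this).symm)
    Z_ne (by rw [← ρZ, ← map_pow, Z_sq, map_one])
  refine ⟨_, ?_, h1, h2⟩
  rw [closure_le]
  rintro _ ⟨i, rfl⟩
  exact ⟨X i, ρX i i.2⟩

/-- the order of the matrix group -/
theorem dvd_range : 39916800 ∣ Nat.card ρ.range := by
  obtain ⟨D, h1, h2, -⟩ := range_main
  rw [← h2]
  exact Subgroup.card_dvd_of_le h1

end Cfsg.Agent.Lib.LyCUr
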