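import Cfsg.Agent.Lib.DblCover

/-!
# Recognising a class of 3-transpositions from a double coset decomposition
-/

set_option autoImplicit false

namespace Cfsg.Agent.Lib.ThreeReal

/-- isomorphism invariance -/
theorem dc_congr {H H' K : Type*} [Group H] [Group H'] [Group K] [Finite H] (e : H' ≃* H) (h : Cfsg.IsNonsplitDoubleCover H K) :
    Cfsg.IsNonsplitDoubleCover H' K := by
  obtain ⟨h1, ⟨h2⟩, h3⟩ := h
  have hc : (Subgroup.center H').map (e : H' →* H) = Subgroup.center H := by
    ext x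
    simp only [Subgroup.mem_map, Subgroup.mem_center_iff]
    constructor
    · rintro ⟨y, hy, rfl⟩ g
      obtain ⟨g, rfl⟩ := e.surjective g
      change e g * e y = e y * e g
      rw [← map_mul, hy, map_mul]
    · intro hx
      refine ⟨e.symm x, fun g => ?_, by simp⟩
      apply e.injective
      rw [map_mul, map_mul, e.apply_symm_apply, hx]
  have hcard : ∀ M : Subgroup H', Nat.card (M.map (e : H' →* H)) = Nat.card M := fun M =>
    (Nat.card_congr (M.equivMapOfInjective (e : H' →* H) e.injective).toEquiv).symm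
  refine ⟨?_, ⟨(QuotientGroup.congr _ _ e hc).trans h2⟩, ?_⟩
  · rw [← h1, ← hc, hcard]
  · intro L hL
    apply h3 (L.map (e : H' →* H))
    apply Subgroup.isComplement'_of_card_mul_and_disjoint
    · rw [← hc, hcard, hcard, hL.card_mul_card]
      exact Nat.card_congr e.toEquiv
    · rw [← hc, Subgroup.disjoint_def]
      rintro x ⟨a, ha, rfl⟩ ⟨b, hb, hab⟩
      have : b = a := e.injective hab
      subst this
      have h4 : b = 1 := Subgroup.disjoint_def.mp hL.disjoint ha hb
      rw [h4]; exact map_one _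

variable {G : Type*} [Group G]

theorem conj3 {a b : G} (ha : a * a = 1) (hb : b * b = 1) (h : (a * b) ^ 3 = 1) : (a * b) * a * (a * b)⁻¹ = b := by
  have ha' : a⁻¹ = a := inv_eq_of_mul_eq_one_left ha
  have hb' : b⁻¹ = b := inv_eq_of_mul_eq_one_left hb
  have h1 : (a * b * a) * (b * a * b) = 1 := by
    rw [← h, pow_succ, pow_two]; group
  have h2 : a * b * a = b * a * b := by
    rw [mul_eq_one_iff_eq_inv.mp h1, mul_inv_rev, mul_inv_rev, ha', hb', mul_assoc]
  calc a * b * a * (a * b)⁻¹ = (a * b * a) * (b * a) := by rw [mul_inv_rev, ha', hb']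
    _ = b * a * (b * b) * a := by rw [h2]; group
    _ = b := by rw [hb, mul_one, mul_assoc, ha, mul_one]

theorem conj_pow' (g a : G) (n : ℕ) : (g * a * g⁻¹) ^ n = g * a ^ n * g⁻¹ := conj_pow

/-- everything about the class of `t` -/
theorem main (hsimp : IsSimpleGroup G) (H : Subgroup G) (t x y : G) (ht : t * t = 1) (ht1 : t ≠ 1) (hx : x * x = 1)
    (hy : y * y = 1) (htx : (t * x) ^ 3 = 1) (hxy : (x * y) ^ 3 = 1) (hty : (t * y) ^ 2 = 1)
    (hHt : ∀ h ∈ H, h * t = t * h)
    (g1 g2 : G) (e1 : g1 = t * x) (e2 : g2 = x * y * (t * x)) (n1 : g1 ∉ H) (n2 : g2 ∉ H)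
    (hdc : ∀ g : G, g ∈ H ∨ (∃ h ∈ H, ∃ h' ∈ H, g = h * g1 * h') ∨ (∃ h ∈ H, ∃ h' ∈ H, g = h * g2 * h')) :
    Cfsg.IsThreeTranspositionClass (conjugatesOf t) ∧ Subgroup.centralizer {t} = H ∧
      Nat.card (conjugatesOf t) = H.index ∧ ∀ d ∈ conjugatesOf t, Nonempty (Subgroup.centralizer ({d} : Set G) ≃* H) := by
  have c1 : g1 * t * g1⁻¹ = x := by rw [e1]; exact conj3 ht hx htx
  have c2 : g2 * t * g2⁻¹ = y := by
    have : g2 * t * g2⁻¹ = (x * y) * (g1 * t * g1⁻¹) * (x * y)⁻¹ := by rw [e1, e2]; group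
    rw [this, c1]; exact conj3 hx hy hxy
  have hH' : ∀ h ∈ H, h * t * h⁻¹ = t := fun h hh => by rw [hHt h hh, mul_inv_cancel_right]
  have hxt : x ≠ t := by
    rintro rfl
    apply n1
    rw [e1, ht]; exact H.one_mem
  have hyt : y ≠ t := by
    rintro rfl
    apply n2
    have : x * y * (y * x) = x * (y * y) * x := by group
    rw [e2, this, ht, mul_one, hx]; exact H.one_mem
  -- the conjugates
  have hcase : ∀ g : G, g * t * g⁻¹ = t ∧ g ∈ H ∨ (∃ h ∈ H, g * t * g⁻¹ = h * x * h⁻¹) ∨ (∃ h ∈ H, g * t * g⁻¹ = h * y * h⁻¹) := by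
    intro g
    rcases hdc g with h | ⟨h, hh, h', hh', rfl⟩ | ⟨h, hh, h', hh', rfl⟩
    · exact Or.inl ⟨hH' g h, h⟩
    · refine Or.inr (Or.inl ⟨h, hh, ?_⟩)
      have : h * g1 * h' * t * (h * g1 * h')⁻¹ = h * (g1 * (h' * t * h'⁻¹) * g1⁻¹) * h⁻¹ := by group
      rw [this, hH' h' hh', c1]
    · refine Or.inr (Or.inr ⟨h, hh, ?_⟩)
      have : h * g2 * h' * t * (h * g2 * h')⁻¹ = h * (g2 * (h' * t * h'⁻¹) * g2⁻¹) * h⁻¹ := by group
      rw [this, hH' h' hh', c2]
  have hinv : ∀ h ∈ H, ∀ z : G, h * z * h⁻¹ = t → z = t := by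
    intro h hh z hz
    have h1 : z = h⁻¹ * t * h := by rw [← hz]; group
    rw [h1]
    have := hH' h⁻¹ (H.inv_mem hh)
    rwa [inv_inv] at this
  have hcen : ∀ g : G, g * t * g⁻¹ = t → g ∈ H := by
    intro g hg
    rcases hcase g with h | ⟨h, hh, h1⟩ | ⟨h, hh, h1⟩
    · exact h.2
    · exact absurd (hinv h hh x (h1.symm.trans hg)) hxt
    · exact absurd (hinv h hh y (h1.symm.trans hg)) hyt
  have hC : Subgroup.centralizer {t} = H := by
    ext g
    rw [Subgroup.mem_centralizer_singleton_iff]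
    constructor
    · intro h
      apply hcen
      rw [h, mul_inv_cancel_right]
    · intro h
      exact hHt g h
  have hord : orderOf t = 2 := orderOf_eq_prime (by rw [pow_two, ht]) ht1
  have hD : ∀ d, d ∈ conjugatesOf t ↔ ∃ g : G, g * t * g⁻¹ = d := by
    intro d
    change IsConj t d ↔ _
    rw [isConj_iff]
  refine ⟨⟨⟨?_, ?_⟩, ⟨t, mem_conjugatesOf_self, rfl⟩, ?_⟩, hC, ?_, ?_⟩
  · intro d hd
    obtain ⟨g, rfl⟩ := (hD d).mp hd
    rw [← hord]
    exact orderOf_injective (MulAut.conj g).toMonoidHom (MulAut.conj g).injective t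
  · intro d hd e he
    obtain ⟨u, rfl⟩ := (hD d).mp hd
    obtain ⟨v, rfl⟩ := (hD e).mp he
    have key : u * t * u⁻¹ * (v * t * v⁻¹) = u * (t * ((u⁻¹ * v) * t * (u⁻¹ * v)⁻¹)) * u⁻¹ := by group
    rw [key, conj_pow, conj_pow]
    have done : ∀ (z : G) (n : ℕ), z ^ n = 1 → u * z ^ n * u⁻¹ = 1 := by
      intro z n h; rw [h]; group
    rcases hcase (u⁻¹ * v) with h | ⟨h, hh, h1⟩ | ⟨h, hh, h1⟩
    · left
      apply done
      rw [h.1, ht, one_pow]
    · right
      apply done
      rw [h1]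
      have : t * (h * x * h⁻¹) = h * (t * x) * h⁻¹ := by
        have h2 : t * h = h * t := (hHt h hh).symm
        calc t * (h * x * h⁻¹) = (t * h) * x * h⁻¹ := by group
          _ = h * (t * x) * h⁻¹ := by rw [h2]; group
      rw [this, conj_pow, htx]; group
    · left
      apply done
      rw [h1]
      have : t * (h * y * h⁻¹) = h * (t * y) * h⁻¹ := by
        have h2 : t * h = h * t := (hHt h hh).symm
        calc t * (h * y * h⁻¹) = (t * h) * y * h⁻¹ := by group
          _ = h * (t * y) * h⁻¹ := by rw [h2]; group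
      rw [this, conj_pow, hty]; group
  · have hn : (Subgroup.closure (conjugatesOf t)).Normal := by
      constructor
      intro n hn g
      induction hn using Subgroup.closure_induction with
      | mem z hz =>
        apply Subgroup.subset_closure
        obtain ⟨u, rfl⟩ := (hD z).mp hz
        exact (hD _).mpr ⟨g * u, by group⟩
      | one => rw [mul_one, mul_inv_cancel]; exact Subgroup.one_mem _
      | mul x y _ _ hx hy =>
        have : g * (x * y) * g⁻¹ = (g * x * g⁻¹) * (g * y * g⁻¹) := by group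
        rw [this]; exact Subgroup.mul_mem _ hx hy
      | inv x _ hx =>
        have : g * x⁻¹ * g⁻¹ = (g * x * g⁻¹)⁻¹ := by group
        rw [this]; exact Subgroup.inv_mem _ hx
    rcases hsimp.eq_bot_or_eq_top_of_normal _ hn with h | h
    · exfalso
      apply ht1
      rw [← Subgroup.mem_bot, ← h]
      exact Subgroup.subset_closure mem_conjugatesOf_self
    · exact h
  · rw [Subgroup.index_eq_card]
    symm
    refine Nat.card_eq_of_bijective (fun q : G ⧸ H => (⟨Quotient.liftOn' q (fun g => g * t * g⁻¹) ?_, ?_⟩ : conjugatesOf t)) ⟨?_, ?_⟩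
    · intro a b hab
      rw [QuotientGroup.leftRel_apply] at hab
      have h1 := hH' _ hab
      change a * t * a⁻¹ = b * t * b⁻¹
      calc a * t * a⁻¹ = a * (a⁻¹ * b * t * (a⁻¹ * b)⁻¹) * a⁻¹ := by rw [h1]
        _ = b * t * b⁻¹ := by group
    · induction q using Quotient.inductionOn' with
      | h g => exact (hD _).mpr ⟨g, rfl⟩
    · intro p q hpq
      induction p using Quotient.inductionOn' with
      | h a =>
        induction q using Quotient.inductionOn' with
        | h b =>
          have h1 : a * t * a⁻¹ = b * t * b⁻¹ := congrArg Subtype.val hpq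
          apply Quotient.sound'
          rw [QuotientGroup.leftRel_apply]
          apply hcen
          calc a⁻¹ * b * t * (a⁻¹ * b)⁻¹ = a⁻¹ * (b * t * b⁻¹) * a := by group
            _ = t := by rw [← h1]; group
    · rintro ⟨d, hd⟩
      obtain ⟨g, hg⟩ := (hD d).mp hd
      exact ⟨(g : G ⧸ H), Subtype.ext hg⟩
  · intro d hd
    obtain ⟨g, rfl⟩ := (hD d).mp hd
    have h1 : (Subgroup.centralizer {t}).map (MulAut.conj g).toMonoidHom = Subgroup.centralizer {g * t * g⁻¹} := by
      ext z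
      rw [Subgroup.mem_centralizer_singleton_iff]
      constructor
      · rintro ⟨c, hc, rfl⟩
        have hc' := Subgroup.mem_centralizer_singleton_iff.mp hc
        change g * c * g⁻¹ * (g * t * g⁻¹) = g * t * g⁻¹ * (g * c * g⁻¹)
        calc g * c * g⁻¹ * (g * t * g⁻¹) = g * (c * t) * g⁻¹ := by group
          _ = g * t * g⁻¹ * (g * c * g⁻¹) := by rw [hc']; group
      · intro hz
        refine ⟨g⁻¹ * z * g, ?_, by change g * (g⁻¹ * z * g) * g⁻¹ = z; group⟩
        change _ ∈ Subgroup.centralizer {t}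
        rw [Subgroup.mem_centralizer_singleton_iff]
        calc g⁻¹ * z * g * t = g⁻¹ * (z * (g * t * g⁻¹)) * g := by group
          _ = t * (g⁻¹ * z * g) := by rw [hz]; group
    have h2 := (Subgroup.centralizer {t}).equivMapOfInjective (MulAut.conj g).toMonoidHom (MulAut.conj g).injective
    rw [h1, hC] at h2
    exact ⟨h2.symm⟩

end Cfsg.Agent.Lib.ThreeReal
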