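import Cfsg.Agent.Lib.LyCU
import Cfsg.Agent.Lib.HNAlt
import Cfsg.Agent.Lib.ThreeReal
import Cfsg.Prelude.Def_Sporadic
import Cfsg.Prelude.Def_Exceptional

/-!
# The permutation group of degree 8835156
-/

set_option autoImplicit false
set_option linter.all false

namespace Cfsg.Agent.Lib.LyCUs

open Cfsg.Spor Subgroup
open Cfsg.Agent.Lib.LyH (Y ρ ρ_spec relY HH θ θ_inj range_θ cardH)

/-- the representation is faithful as soon as the group is simple -/
theorem ρ_inj (hs : IsSimpleGroup Ly) : Function.Injective ρ := by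
  rw [← MonoidHom.ker_eq_bot_iff]
  rcases hs.eq_bot_or_eq_top_of_normal ρ.ker inferInstance with h | h
  · exact h
  · exfalso
    have h1 : Y 0 ∈ ρ.ker := by rw [h]; trivial
    apply LyH.u0_ne
    rw [← ρ_spec 0 (by norm_num)]
    exact h1

theorem simple_HH : IsSimpleGroup HH := by
  have hs := LyP2.simpleP
  have e := (MulEquiv.subgroupCongr range_θ.symm).trans (MonoidHom.ofInjective θ_inj).symm
  exact MulEquiv.isSimpleGroup e

theorem isG2_HH : Cfsg.IsG2 HH := by
  refine ⟨simple_HH, 5, ?_, by norm_num, ?_⟩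
  · exact Nat.Prime.isPrimePow (by norm_num)
  · rw [cardH]; norm_num

/-- the centraliser of the involution -/
theorem cen_dbl [Finite Ly] (hs : IsSimpleGroup Ly)
    (hb : Nat.card (centralizer ({Y 0 ^ 4} : Set Ly)) ≤ 39916800) :
    Cfsg.IsNonsplitDoubleCover (centralizer ({Y 0 ^ 4} : Set Ly)) (alternatingGroup (Fin 11)) := by
  obtain ⟨D, h1, h2, h3⟩ := LyCU.main (ρ_inj hs)
  have hle : D ≤ centralizer ({Y 0 ^ 4} : Set Ly) := fun g hg => mem_centralizer_singleton_iff.2 (h1 g hg)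
  have heq : D = centralizer ({Y 0 ^ 4} : Set Ly) := Subgroup.eq_of_le_of_card_ge hle (by rw [h2]; exact hb)
  rw [← heq]; exact h3

theorem real_of (hs : IsSimpleGroup Ly) (hc : Nat.card Ly = 51765179004000000) (hi : HH.index = 8835156)
    (hb : Nat.card (centralizer ({Y 0 ^ 4} : Set Ly)) ≤ 39916800) :
    ∃ H : Subgroup (Equiv.Perm (Fin 8835156)), Cfsg.IsLy H ∧ MulAction.IsPretransitive H (Fin 8835156) ∧
      Cfsg.IsG2 (MulAction.stabilizer H (0 : Fin 8835156)) ∧ ∃ t : H, orderOf t = 2 ∧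
      Cfsg.IsNonsplitDoubleCover (Subgroup.centralizer ({t} : Set H)) (alternatingGroup (Fin 11)) := by
  have hfin : Finite Ly := Nat.finite_of_card_ne_zero (by rw [hc]; norm_num)
  obtain ⟨H, ⟨f⟩, h2, ⟨g⟩⟩ := Cfsg.Agent.Lib.HNAlt.coset_real hs HH 8835156 (by norm_num) hi
  have hG2 := isG2_HH
  refine ⟨H, ⟨f.symm.isSimpleGroup, by rw [← Nat.card_congr f.toEquiv, hc]⟩, h2,
    ⟨?_, ?_⟩, f (Y 0 ^ 4), ?_, ?_⟩
  · have := hG2.1
    exact g.isSimpleGroup
  · rw [Nat.card_congr g.toEquiv]; exact hG2.2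
  · rw [show f (Y 0 ^ 4) = f.toMonoidHom (Y 0 ^ 4) from rfl, orderOf_injective f.toMonoidHom f.injective]
    exact orderOf_eq_prime LyCU.Z_sq (LyCU.Z_ne1 (ρ_inj hs))
  · have hd := cen_dbl hs hb
    have hm : (centralizer ({Y 0 ^ 4} : Set Ly)).map f.toMonoidHom = centralizer ({f (Y 0 ^ 4)} : Set H) := by
      ext x
      rw [mem_centralizer_singleton_iff, mem_map]
      constructor
      · rintro ⟨a, ha, rfl⟩
        rw [mem_centralizer_singleton_iff] at ha
        show f a * f (Y 0 ^ 4) = f (Y 0 ^ 4) * f a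
        rw [← map_mul, ha, map_mul]
      · intro hx
        refine ⟨f.symm x, ?_, f.apply_symm_apply x⟩
        rw [mem_centralizer_singleton_iff]
        apply f.injective
        rw [map_mul, map_mul, f.apply_symm_apply]; exact hx
    have e : centralizer ({Y 0 ^ 4} : Set Ly) ≃* centralizer ({f (Y 0 ^ 4)} : Set H) :=
      ((centralizer ({Y 0 ^ 4} : Set Ly)).equivMapOfInjective f.toMonoidHom f.injective).trans (MulEquiv.subgroupCongr hm)
    exact ThreeReal.dc_congr e.symm hd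

end Cfsg.Agent.Lib.LyCUs
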