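import Cfsg.Agent.Lib.M5G
import Cfsg.Agent.Lib.LyMa
import Cfsg.Agent.Lib.LyMb
import Cfsg.Agent.Lib.LyCUd

/-!
# Words for the centraliser of an involution in the Lyons group: checks
-/

set_option autoImplicit false
set_option linter.all false
set_option maxRecDepth 100000

namespace Cfsg.Agent.Lib.LyCUw

open Cfsg.Agent.Lib.M5 Cfsg.Agent.Lib.BenesWord Cfsg.Agent.Lib.BenesPerm

/-- letters: a b c d z y x X0 ... X8 -/
def L : List (List ℕ × List ℕ) := [
  (Cfsg.Agent.Lib.LyM.g0, Cfsg.Agent.Lib.LyM.h0), (Cfsg.Agent.Lib.LyM.g1, Cfsg.Agent.Lib.LyM.h1),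
  (Cfsg.Agent.Lib.LyM.g2, Cfsg.Agent.Lib.LyM.h2), (Cfsg.Agent.Lib.LyM.g3, Cfsg.Agent.Lib.LyM.h3),
  (Cfsg.Agent.Lib.LyM.g4, Cfsg.Agent.Lib.LyM.h4),
  (LyCUd.m0, LyCUd.n0), (LyCUd.m1, LyCUd.n1), (LyCUd.m2, LyCUd.n2), (LyCUd.m3, LyCUd.n3), (LyCUd.m4, LyCUd.n4),
  (LyCUd.m5, LyCUd.n5), (LyCUd.m6, LyCUd.n6), (LyCUd.m7, LyCUd.n7), (LyCUd.m8, LyCUd.n8), (LyCUd.m9, LyCUd.n9),
  (LyCUd.m10, LyCUd.n10)]

/-- the involution -/
def Zw : Wd := .pow (.g 0) 4
def Hw : Wd := .mul (.mul (.g 2) (.g 1)) (.g 2)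
/-- the element `y` -/
def Yw : Wd := .mul Hw (.pow (.mul (.mul (.mul Zw (.inv Hw)) Zw) Hw) 2)
/-- the element `x` -/
def Xw : Wd := .pow (.mul (.mul (.mul (.g 5) (.g 3)) (.g 4)) (.g 0)) 7

/-- conjugating words -/
def cw : List Wd := [(.g 3),
  (.mul (.g 3) (.g 0)),
  (.mul (.g 3) (.inv (.g 5))),
  (.mul (.mul (.inv (.g 5)) (.g 3)) (.g 0)),
  (.mul (.mul (.inv (.g 5)) (.g 3)) (.g 4)),
  (.mul (.mul (.mul (.inv (.g 5)) (.g 3)) (.g 4)) (.g 1)),
  (.mul (.mul (.mul (.inv (.g 5)) (.g 3)) (.g 4)) (.inv (.g 1))),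
  (.mul (.mul (.mul (.mul (.inv (.g 5)) (.g 3)) (.g 4)) (.g 1)) (.g 1)),
  (.mul (.mul (.mul (.mul (.inv (.g 5)) (.g 3)) (.g 4)) (.inv (.g 1))) (.inv (.g 1)))]

/-- definition of `X i` -/
def Cw (i : ℕ) : Wd := .mul (.mul (.inv (cw.getD i .one)) (.g 6)) (cw.getD i .one)

/-- relators: definitions -/
def relD : List Wd := [.mul (.inv (.g 5)) Yw, .mul (.inv (.g 6)) Xw,
  .mul (.inv (.g 7)) (Cw 0), .mul (.inv (.g 8)) (Cw 1), .mul (.inv (.g 9)) (Cw 2), .mul (.inv (.g 10)) (Cw 3),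
  .mul (.inv (.g 11)) (Cw 4), .mul (.inv (.g 12)) (Cw 5), .mul (.inv (.g 13)) (Cw 6), .mul (.inv (.g 14)) (Cw 7),
  .mul (.inv (.g 15)) (Cw 8)]

/-- relators: cubes and commutation with the involution -/
def relC : List Wd := (List.range 9).flatMap fun i => [.pow (.g (7 + i)) 3,
  .mul (.mul (.mul (.inv Zw) (.inv (.g (7 + i)))) Zw) (.g (7 + i))]

/-- relators: products -/
def relP : List Wd := (List.range 9).flatMap fun i => (List.range 9).flatMap fun j =>
  if i = j then [] else [.mul (.pow (.mul (.g (7 + i)) (.g (7 + j))) 2) (.inv Zw)]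

theorem chk_L : chkL 111 L = true := by decide +kernel

theorem chk_D : chkRel 111 L relD = true := by decide +kernel

theorem chk_C : chkRel 111 L relC = true := by decide +kernel

theorem chk_P : chkRel 111 L relP = true := by decide +kernel

/-- the involution acts nontrivially -/
noncomputable def chkZ : Bool := force (mkc0 111 111) fun mk => force (mm0 (Nat.mul 111 111)) fun mm => force (id0 111) fun id =>
  Nat.beq (evW mk mm (GG L) (GV L) Zw false id) id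

theorem chk_Z : chkZ = false := by decide +kernel

theorem lets_D : ∀ W ∈ relD, Cfsg.Agent.Lib.CoxBridge.lets 16 W = true := by decide +kernel
theorem lets_C : ∀ W ∈ relC, Cfsg.Agent.Lib.CoxBridge.lets 16 W = true := by decide +kernel
theorem lets_P : ∀ W ∈ relP, Cfsg.Agent.Lib.CoxBridge.lets 16 W = true := by decide +kernel

/-- the units -/
noncomputable def v : ℕ → (Matrix (Fin 111) (Fin 111) (ZMod 5))ˣ := uu (by norm_num) (by norm_num) L chk_L

theorem relv : (∀ W ∈ relD, W.eval v = 1) ∧ (∀ W ∈ relC, W.eval v = 1) ∧ ∀ W ∈ relP, W.eval v = 1 :=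
  ⟨fun W hW => uu_rel (by norm_num) (by norm_num) L chk_L chk_D W hW (lets_D W hW),
   fun W hW => uu_rel (by norm_num) (by norm_num) L chk_L chk_C W hW (lets_C W hW),
   fun W hW => uu_rel (by norm_num) (by norm_num) L chk_L chk_P W hW (lets_P W hW)⟩

theorem Z_ne : Zw.eval v ≠ 1 := by
  intro h
  have h1 := evW_rep (n := 111) (m := 111) (by norm_num) (by norm_num) (uu_rep (by norm_num) (by norm_num) L chk_L)
    (uu_inv (by norm_num) (by norm_num) L chk_L) Zw (by decide) false (idX_rep 111)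
  have h2 : Zw.eval (uu (by norm_num) (by norm_num) L chk_L) = 1 := h
  simp only [Bool.false_eq_true, if_false] at h1
  rw [h2, Units.val_one, Matrix.one_mul] at h1
  have h3 := h1.ext' (idX_rep 111)
  have h4 := chk_Z
  unfold chkZ at h4
  rw [force_eq, force_eq, force_eq, mkc0_eq (by norm_num), mm0_eq, id0_eq] at h4
  have h5 : Nat.beq (evW (mkc 111 111) (m15 (Nat.mul 111 111)) (GG L) (GV L) Zw false (idX 111)) (idX 111) = true := by
    have : Nat.mul 111 111 = 111 * 111 := rfl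
    rw [this, h3]
    exact Nat.beq_refl _
  rw [h5] at h4
  exact Bool.noConfusion h4

end Cfsg.Agent.Lib.LyCUw
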