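import Cfsg.Agent.Lib.M5

/-!
# Packed matrices over the field with 5 elements: checks for lists of letters
-/

set_option autoImplicit false
set_option linter.all false

namespace Cfsg.Agent.Lib.M5

open Cfsg.Agent.Lib.BenesPerm (force force_eq)
open Cfsg.Agent.Lib.BenesWord

/-- column mask -/
noncomputable def mkc0 (n m : ℕ) : ℕ := Nat.mul 4095 (Nat.div (Nat.sub (Nat.pow 4096 (Nat.mul n m)) 1) (Nat.sub (Nat.pow 4096 n) 1))
/-- reduction mask -/
noncomputable def mm0 (N : ℕ) : ℕ := Nat.mul 15 (Nat.div (Nat.sub (Nat.pow 4096 N) 1) 4095)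
/-- identity -/
noncomputable def id0 (n : ℕ) : ℕ := Nat.div (Nat.sub (Nat.pow 4096 (Nat.mul (Nat.succ n) n)) 1) (Nat.sub (Nat.pow 4096 (Nat.succ n)) 1)

theorem geomd (q m : ℕ) (hq : 1 < q) : (q ^ m - 1) / (q - 1) = ∑ i ∈ Finset.range m, q ^ i := by
  rw [Nat.geomSum_eq hq]

theorem mkc0_eq {n : ℕ} (hn : 0 < n) (m : ℕ) : mkc0 n m = mkc n m := by
  show 4095 * ((4096 ^ (n * m) - 1) / (4096 ^ n - 1)) = _
  have h : (1 : ℕ) < 4096 ^ n := Nat.one_lt_pow (by omega) (by norm_num)
  rw [pow_mul, geomd _ _ h, Finset.mul_sum]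
  exact Finset.sum_congr rfl (fun i _ => by rw [← pow_mul])

theorem mm0_eq (N : ℕ) : mm0 N = m15 N := by
  show 15 * ((4096 ^ N - 1) / 4095) = _
  have := geomd 4096 N (by norm_num)
  rw [show (4095 : ℕ) = 4096 - 1 by norm_num, this, Finset.mul_sum]
  rfl

theorem id0_eq (n : ℕ) : id0 n = idX n := by
  show (4096 ^ ((n + 1) * n) - 1) / (4096 ^ (n + 1) - 1) = _
  have h : (1 : ℕ) < 4096 ^ (n + 1) := Nat.one_lt_pow (by omega) (by norm_num)
  rw [pow_mul, geomd _ _ h]
  exact Finset.sum_congr rfl (fun i _ => by rw [← pow_mul]; congr 1; ring)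

/-- lookup -/
noncomputable def nthL (l : List (List ℕ × List ℕ)) : ℕ → List ℕ × List ℕ :=
  List.rec (motive := fun _ => ℕ → List ℕ × List ℕ) (fun _ => ([], []))
    (fun a _ ih c => Nat.rec (motive := fun _ => List ℕ × List ℕ) a (fun n _ => ih n) c) l

/-- matrices -/
noncomputable def GG (L : List (List ℕ × List ℕ)) (c : ℕ) : List ℕ := (nthL L c).1
/-- inverses -/
noncomputable def GV (L : List (List ℕ × List ℕ)) (c : ℕ) : List ℕ := (nthL L c).2

/-- row check -/
noncomputable def chkOne (n : ℕ) (R : List ℕ) : Bool := force (mm0 n) fun mr => force (Nat.sub (Nat.pow 4096 n) 1) fun bd =>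
  cond (Nat.beq R.length n) (chkRows bd mr R) false

/-- inverse check -/
noncomputable def chkInv (n : ℕ) (R S : List ℕ) : Bool := force (mkc0 n n) fun mk => force (mm0 (Nat.mul n n)) fun mm => force (id0 n) fun id =>
  Nat.beq (mulR mk mm S (mulR mk mm R id)) id

/-- check of the letters -/
noncomputable def chkL (n : ℕ) (L : List (List ℕ × List ℕ)) : Bool :=
  List.rec (motive := fun _ => Bool) true (fun p _ ih => cond (chkOne n p.1) (cond (chkOne n p.2) (cond (chkInv n p.1 p.2) ih false) false) false) L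

/-- relator check -/
noncomputable def relsM (G GI : ℕ → List ℕ) (mk mm id : ℕ) (l : List Wd) : Bool :=
  List.rec (motive := fun _ => Bool) true (fun W _ ih => cond (relM mk mm id G GI W) ih false) l

/-- check of a list of relators -/
noncomputable def chkRel (n : ℕ) (L : List (List ℕ × List ℕ)) (l : List Wd) : Bool :=
  force (mkc0 n n) fun mk => force (mm0 (Nat.mul n n)) fun mm => force (id0 n) fun id => relsM (GG L) (GV L) mk mm id l

theorem relsM_spec {G GI : ℕ → List ℕ} {mk mm id : ℕ} {l : List Wd} (h : relsM G GI mk mm id l = true) :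
    ∀ W ∈ l, relM mk mm id G GI W = true := by
  induction l with
  | nil => intro W hW; exact absurd hW (by simp)
  | cons V l ih =>
    have h' : cond (relM mk mm id G GI V) (relsM G GI mk mm id l) false = true := h
    intro W hW
    cases h1 : relM mk mm id G GI V with
    | false => rw [h1] at h'; simp at h'
    | true =>
      rw [h1] at h'
      rcases List.mem_cons.mp hW with rfl | hW
      · exact h1
      · exact ih h' W hW

theorem repR_of {n : ℕ} {R : List ℕ} (h : chkOne n R = true) : RepR n R (matR n R) := by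
  unfold chkOne at h
  rw [force_eq, force_eq, mm0_eq] at h
  cases a1 : Nat.beq R.length n with
  | false => rw [a1] at h; simp at h
  | true => rw [a1] at h; exact repR a1 h

theorem mul_of {n : ℕ} (hn : 0 < n) (hn2 : n ≤ 200) {R S : List ℕ} (hR : chkOne n R = true) (hS : chkOne n S = true)
    (h : chkInv n R S = true) : matR n R * matR n S = 1 := by
  unfold chkInv at h
  rw [force_eq, force_eq, force_eq, mkc0_eq hn, mm0_eq, id0_eq] at h
  have h2 := Nat.eq_of_beq_eq_true h
  have h3 := mulR_rep hn hn2 (mulR_rep hn hn2 (idX_rep n) (repR_of hR)) (repR_of hS)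
  have h4 : mulR (mkc n n) (m15 (Nat.mul n n)) S (mulR (mkc n n) (m15 (Nat.mul n n)) R (idX n)) = idX n := h2
  have h5 : Nat.mul n n = n * n := rfl
  rw [h5] at h4
  rw [h4, Matrix.one_mul] at h3
  exact (h3.ext (idX_rep n))

theorem nthL_cons (a : List ℕ × List ℕ) (l : List (List ℕ × List ℕ)) (c : ℕ) : nthL (a :: l) (c + 1) = nthL l c := rfl

theorem chkL_spec {n : ℕ} (hn : 0 < n) (hn2 : n ≤ 200) {L : List (List ℕ × List ℕ)} (h : chkL n L = true) : ∀ c < L.length,
    RepR n (GG L c) (matR n (GG L c)) ∧ RepR n (GV L c) (matR n (GV L c)) ∧ matR n (GG L c) * matR n (GV L c) = 1 := by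
  induction L with
  | nil => intro c hc; simp at hc
  | cons p L ih =>
    have h' : cond (chkOne n p.1) (cond (chkOne n p.2) (cond (chkInv n p.1 p.2) (chkL n L) false) false) false = true := h
    intro c hc
    cases h1 : chkOne n p.1 with
    | false => rw [h1] at h'; simp at h'
    | true =>
      cases h2 : chkOne n p.2 with
      | false => rw [h1, h2] at h'; simp at h'
      | true =>
        cases h3 : chkInv n p.1 p.2 with
        | false => rw [h1, h2, h3] at h'; simp at h'
        | true =>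
          rw [h1, h2, h3] at h'
          cases c with
          | zero => exact ⟨repR_of h1, repR_of h2, mul_of hn hn2 h1 h2 h3⟩
          | succ c => exact ih h' c (by simpa using hc)

section units
variable {n : ℕ} (hn : 0 < n) (hn2 : n ≤ 200) (L : List (List ℕ × List ℕ)) (hL : chkL n L = true)

/-- the units -/
noncomputable def uu (c : ℕ) : (Matrix (Fin n) (Fin n) (ZMod 5))ˣ :=
  if h : c < L.length then ⟨matR n (GG L c), matR n (GV L c), (chkL_spec hn hn2 hL c h).2.2, mul_eq_one_comm.mp (chkL_spec hn hn2 hL c h).2.2⟩ else 1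

theorem uu_rep : ∀ c < L.length, RepR n (GG L c) (uu hn hn2 L hL c) := by
  intro c hc
  have := (chkL_spec hn hn2 hL c hc).1
  unfold uu; rw [dif_pos hc]; exact this

theorem uu_inv : ∀ c < L.length, RepR n (GV L c) ((uu hn hn2 L hL c)⁻¹ : (Matrix (Fin n) (Fin n) (ZMod 5))ˣ) := by
  intro c hc
  have := (chkL_spec hn hn2 hL c hc).2.1
  unfold uu; rw [dif_pos hc]; exact this

theorem uu_rel {l : List Wd} (h : chkRel n L l = true) : ∀ W ∈ l, Cfsg.Agent.Lib.CoxBridge.lets L.length W = true →
    W.eval (uu hn hn2 L hL) = 1 := by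
  unfold chkRel at h
  rw [force_eq, force_eq, force_eq, mkc0_eq hn, mm0_eq, id0_eq] at h
  intro W hW hl
  exact relM_sound hn hn2 (uu_rep hn hn2 L hL) (uu_inv hn hn2 L hL) W hl (relsM_spec h W hW)

end units

end Cfsg.Agent.Lib.M5
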