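import Cfsg.Agent.Lib.LyH
import Cfsg.Agent.Lib.M5G
import Cfsg.Agent.Lib.H58SMMLb
import Cfsg.Agent.Lib.LyCXd

/-!
Vectors fixed by an element of order 3 of the Lyons group, permuted like the 7128 points of the McLaughlin group (helper23)
-/

set_option autoImplicit false
set_option linter.all false

namespace Cfsg.Agent.Lib.LyCX

open Cfsg.Spor Cfsg.Agent.Lib.M5 Cfsg.Agent.Lib.BenesWord Cfsg.Agent.Lib.BenesPerm
open Cfsg.Agent.Lib.H58SM (gt frc alln alln_iff MLb.T0 MLb.T2)

/-- coordinates -/
def uc (x : ℕ) : ℕ := frc (Nat.shiftRight x 8) fun c =>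
  gt (UCS c) 252 7237005577332262213973186563042994240829374041602535252466099000494570602495 (Nat.land x 255)

/-- the element of order 3 -/
def Wx : Wd := .mul (.mul (.mul (.g 0) (.g 1)) (.inv (.g 0))) (.inv (.g 1))
/-- a word -/
def We : Wd := .mul (.mul (.mul (.inv (.g 2)) (.inv (.g 1))) (.inv (.g 2))) (.g 1)
/-- the first generator -/
def W0 : Wd := .mul (.mul (.mul (.mul (.mul (.g 4) We) (.g 4)) (.g 4)) We) (.g 4)
/-- the second generator -/
def W1 : Wd := .mul (.mul (.mul (.mul (.mul (.mul (.mul (.inv We) (.inv (.g 4))) (.g 3)) (.inv We)) (.inv We)) (.inv (.g 4))) (.g 3)) (.inv We)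

/-- compare on the fixed space -/
noncomputable def chkP : Bool := force (LyRep.mk0 111) fun mk => force (LyRep.mm0 12321) fun mm => force LyRep.id0 fun id =>
  force (mulR mk mm PR id) fun P =>
   cond (Nat.beq (evW mk mm LyRep.G LyRep.GI W0 false P) (mulR mk mm PR (mulR mk mm N0 id)))
   (cond (Nat.beq (evW mk mm LyRep.G LyRep.GI W1 false P) (mulR mk mm PR (mulR mk mm N1 id)))
   (Nat.beq (evW mk mm LyRep.G LyRep.GI Wx false P) P) false) false

/-- commutation and order -/
noncomputable def chkC : Bool := force (LyRep.mk0 111) fun mk => force (LyRep.mm0 12321) fun mm => force LyRep.id0 fun id =>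
  cond (relM mk mm id LyRep.G LyRep.GI (.mul (.mul (.mul Wx W0) (.inv Wx)) (.inv W0)))
    (cond (relM mk mm id LyRep.G LyRep.GI (.mul (.mul (.mul Wx W1) (.inv Wx)) (.inv W1)))
      (relM mk mm id LyRep.G LyRep.GI (.pow Wx 3)) false) false

/-- nontrivial -/
noncomputable def chkX : Bool := force (LyRep.mk0 111) fun mk => force (LyRep.mm0 12321) fun mm => force LyRep.id0 fun id =>
  relM mk mm id LyRep.G LyRep.GI Wx

/-- check of one vector -/
noncomputable def chkU (mk mm bd a : ℕ) : Bool := force (uc a) fun r => cond (Nat.ble r bd) (cond (Nat.beq (red mm r) r)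
  (cond (Nat.beq (mulR mk mm N0 (uc (gt MLb.T0 13 8191 a))) r) (Nat.beq (mulR mk mm N1 (uc (gt MLb.T2 13 8191 a))) r) false) false) false

/-- check of vectors -/
noncomputable def chkUs (lo n : ℕ) : Bool := force (mkc0 111 1) fun mk => force (mm0 111) fun mm => force (Nat.sub (Nat.pow 4096 111) 1) fun bd =>
  alln (fun i => chkU mk mm bd (Nat.add lo i)) n

/-- two vectors differ -/
noncomputable def chkN : Bool := force (mkc0 111 1) fun mk => force (mm0 111) fun mm =>
  Nat.beq (mulR mk mm PR (uc (gt MLb.T0 13 8191 0))) (mulR mk mm PR (uc 0))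

set_option maxRecDepth 1000000

theorem r0 : LyRep.chkOne PR = true := by decide +kernel
theorem r1 : LyRep.chkOne N0 = true := by decide +kernel
theorem r2 : LyRep.chkOne N1 = true := by decide +kernel
theorem cP : chkP = true := by decide +kernel
theorem cC : chkC = true := by decide +kernel
theorem cX : chkX = false := by decide +kernel
theorem cN : chkN = false := by decide +kernel
theorem cU0 : chkUs 0 1800 = true := by decide +kernel
theorem cU1 : chkUs 1800 1800 = true := by decide +kernel
theorem cU2 : chkUs 3600 1800 = true := by decide +kernel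
theorem cU3 : chkUs 5400 1728 = true := by decide +kernel

end Cfsg.Agent.Lib.LyCX
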