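import Cfsg.Agent.Lib.LyCXa

/-!
Vectors fixed by an element of order 3 of the Lyons group: the relations (helper23)
-/

set_option autoImplicit false
set_option linter.all false

namespace Cfsg.Agent.Lib.LyCX

open Cfsg.Spor Cfsg.Agent.Lib.M5 Cfsg.Agent.Lib.BenesWord Cfsg.Agent.Lib.BenesPerm
open Cfsg.Agent.Lib.H58SM (gt frc alln alln_iff MLb.T0 MLb.T2)

/-- row vector -/
def rowU (r : ℕ) : Matrix (Fin 1) (Fin 111) (ZMod 5) := fun _ j => ((dig r j % 5 : ℕ) : ZMod 5)

theorem rep_row {r : ℕ} (h1 : r < 4096 ^ 111) (h2 : red (m15 111) r = r) : Rep 1 111 r (rowU r) := by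
  refine ⟨fun _ j => dig r j % 5, ?_, fun i j => ?_, fun i j => rfl⟩
  · have h5 := red_val (f := dig r) (N := 111) (fun t _ => Nat.mod_lt _ (by norm_num))
    rw [val_dig 111 r h1, h2] at h5
    have h6 : dval 1 111 (fun _ j => dig r j % 5) = val (fun t => dig r t % 5) 111 := by
      unfold dval
      apply val_congr
      intro t ht
      show dig r (t % 111) % 5 = dig r t % 5
      rw [Nat.mod_eq_of_lt (show t < 111 by omega)]
    rw [h6]; exact h5
  · show _ % 5 ≤ 4
    omega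

theorem cU (a : ℕ) (ha : a < 7128) : chkU (mkc 111 1) (m15 111) (4096 ^ 111 - 1) a = true := by
  have key : ∀ lo n, chkUs lo n = true → lo ≤ a → a < lo + n → chkU (mkc 111 1) (m15 111) (4096 ^ 111 - 1) a = true := by
    intro lo n h h1 h2
    unfold chkUs at h
    rw [force_eq, force_eq, force_eq, mkc0_eq (by norm_num), mm0_eq] at h
    have h3 := alln_iff.1 h (a - lo) (by omega)
    have h4 : Nat.add lo (a - lo) = a := by
      show lo + (a - lo) = a
      omega
    rw [h4] at h3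
    exact h3
  by_cases h0 : a < 1800
  · exact key _ _ cU0 (by omega) (by omega)
  by_cases h1 : a < 3600
  · exact key _ _ cU1 (by omega) (by omega)
  by_cases h2 : a < 5400
  · exact key _ _ cU2 (by omega) (by omega)
  exact key _ _ cU3 (by omega) (by omega)

theorem cU_spec (a : ℕ) (ha : a < 7128) : uc a < 4096 ^ 111 ∧ red (m15 111) (uc a) = uc a ∧
    mulR (mkc 111 1) (m15 111) N0 (uc (gt MLb.T0 13 8191 a)) = uc a ∧
    mulR (mkc 111 1) (m15 111) N1 (uc (gt MLb.T2 13 8191 a)) = uc a := by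
  have h := cU a ha
  unfold chkU at h
  rw [force_eq] at h
  cases h1 : Nat.ble (uc a) (4096 ^ 111 - 1) with
  | false => rw [h1] at h; simp at h
  | true =>
    rw [h1] at h
    cases h2 : Nat.beq (red (m15 111) (uc a)) (uc a) with
    | false => rw [h2] at h; simp at h
    | true =>
      rw [h2] at h
      cases h3 : Nat.beq (mulR (mkc 111 1) (m15 111) N0 (uc (gt MLb.T0 13 8191 a))) (uc a) with
      | false => rw [h3] at h; simp at h
      | true =>
        rw [h3] at h
        simp only [cond_true] at h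
        refine ⟨?_, Nat.eq_of_beq_eq_true h2, Nat.eq_of_beq_eq_true h3, Nat.eq_of_beq_eq_true h⟩
        have := Nat.le_of_ble_eq_true h1
        have : 0 < 4096 ^ 111 := by positivity
        omega

theorem repU (a : ℕ) (ha : a < 7128) : Rep 1 111 (uc a) (rowU (uc a)) := rep_row (cU_spec a ha).1 (cU_spec a ha).2.1

theorem U0 (a : ℕ) (ha : a < 7128) (hb : gt MLb.T0 13 8191 a < 7128) :
    rowU (uc (gt MLb.T0 13 8191 a)) * matR 111 N0 = rowU (uc a) := by
  have h := mulR_rep (m := 1) (n := 111) (by norm_num) (by norm_num) (repU _ hb) (LyRep.repR_of r1)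
  rw [show (1 * 111 : ℕ) = 111 from rfl, (cU_spec a ha).2.2.1] at h
  exact h.ext (repU a ha)

theorem U1 (a : ℕ) (ha : a < 7128) (hb : gt MLb.T2 13 8191 a < 7128) :
    rowU (uc (gt MLb.T2 13 8191 a)) * matR 111 N1 = rowU (uc a) := by
  have h := mulR_rep (m := 1) (n := 111) (by norm_num) (by norm_num) (repU _ hb) (LyRep.repR_of r2)
  rw [show (1 * 111 : ℕ) = 111 from rfl, (cU_spec a ha).2.2.2] at h
  exact h.ext (repU a ha)

/-- the space -/
noncomputable def PM : Matrix (Fin 111) (Fin 111) (ZMod 5) := matR 111 PR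

theorem P_spec : PM * ((W0.eval LyRep.u : (Matrix (Fin 111) (Fin 111) (ZMod 5))ˣ) : Matrix (Fin 111) (Fin 111) (ZMod 5)) = matR 111 N0 * PM ∧
    PM * ((W1.eval LyRep.u : (Matrix (Fin 111) (Fin 111) (ZMod 5))ˣ) : Matrix (Fin 111) (Fin 111) (ZMod 5)) = matR 111 N1 * PM ∧
    PM * ((Wx.eval LyRep.u : (Matrix (Fin 111) (Fin 111) (ZMod 5))ˣ) : Matrix (Fin 111) (Fin 111) (ZMod 5)) = PM := by
  have h := cP
  unfold chkP at h
  rw [force_eq, force_eq, force_eq, force_eq, LyRep.mk0_eq, show (12321 : ℕ) = 111 * 111 by norm_num, LyRep.mm0_eq, LyRep.id0_eq] at h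
  have hP : Rep 111 111 (mulR (mkc 111 111) (m15 (111 * 111)) PR (idX 111)) PM := by
    have h3 := mulR_rep (by norm_num) (by norm_num) (idX_rep 111) (LyRep.repR_of r0)
    rw [Matrix.one_mul] at h3
    exact h3
  have hN0 : Rep 111 111 (mulR (mkc 111 111) (m15 (111 * 111)) N0 (idX 111)) (matR 111 N0) := by
    have h3 := mulR_rep (by norm_num) (by norm_num) (idX_rep 111) (LyRep.repR_of r1)
    rw [Matrix.one_mul] at h3
    exact h3
  have hN1 : Rep 111 111 (mulR (mkc 111 111) (m15 (111 * 111)) N1 (idX 111)) (matR 111 N1) := by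
    have h3 := mulR_rep (by norm_num) (by norm_num) (idX_rep 111) (LyRep.repR_of r2)
    rw [Matrix.one_mul] at h3
    exact h3
  have e0 := evW_rep (by norm_num) (by norm_num) LyRep.hG LyRep.hGI W0 (by decide) false hP
  have e1 := evW_rep (by norm_num) (by norm_num) LyRep.hG LyRep.hGI W1 (by decide) false hP
  have e2 := evW_rep (by norm_num) (by norm_num) LyRep.hG LyRep.hGI Wx (by decide) false hP
  have f0 := mulR_rep (by norm_num) (by norm_num) hN0 (LyRep.repR_of r0)
  have f1 := mulR_rep (by norm_num) (by norm_num) hN1 (LyRep.repR_of r0)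
  cases h1 : Nat.beq (evW (mkc 111 111) (m15 (111 * 111)) LyRep.G LyRep.GI W0 false (mulR (mkc 111 111) (m15 (111 * 111)) PR (idX 111)))
      (mulR (mkc 111 111) (m15 (111 * 111)) PR (mulR (mkc 111 111) (m15 (111 * 111)) N0 (idX 111))) with
  | false => rw [h1] at h; simp at h
  | true =>
    rw [h1] at h
    cases h2 : Nat.beq (evW (mkc 111 111) (m15 (111 * 111)) LyRep.G LyRep.GI W1 false (mulR (mkc 111 111) (m15 (111 * 111)) PR (idX 111)))
      (mulR (mkc 111 111) (m15 (111 * 111)) PR (mulR (mkc 111 111) (m15 (111 * 111)) N1 (idX 111))) with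
    | false => rw [h2] at h; simp at h
    | true =>
      rw [h2] at h
      simp only [cond_true] at h
      rw [Nat.eq_of_beq_eq_true h1] at e0
      rw [Nat.eq_of_beq_eq_true h2] at e1
      rw [Nat.eq_of_beq_eq_true h] at e2
      exact ⟨e0.ext f0, e1.ext f1, e2.ext hP⟩

/-- the vectors -/
noncomputable def V (a : ℕ) : Matrix (Fin 1) (Fin 111) (ZMod 5) := rowU (uc a) * PM

theorem V0 (a : ℕ) (ha : a < 7128) (hb : gt MLb.T0 13 8191 a < 7128) :
    V (gt MLb.T0 13 8191 a) * ((W0.eval LyRep.u : (Matrix (Fin 111) (Fin 111) (ZMod 5))ˣ) : Matrix (Fin 111) (Fin 111) (ZMod 5)) = V a := by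
  unfold V
  rw [Matrix.mul_assoc, P_spec.1, ← Matrix.mul_assoc, U0 a ha hb]

theorem V1 (a : ℕ) (ha : a < 7128) (hb : gt MLb.T2 13 8191 a < 7128) :
    V (gt MLb.T2 13 8191 a) * ((W1.eval LyRep.u : (Matrix (Fin 111) (Fin 111) (ZMod 5))ˣ) : Matrix (Fin 111) (Fin 111) (ZMod 5)) = V a := by
  unfold V
  rw [Matrix.mul_assoc, P_spec.2.1, ← Matrix.mul_assoc, U1 a ha hb]

theorem Vx (a : ℕ) : V a * ((Wx.eval LyRep.u : (Matrix (Fin 111) (Fin 111) (ZMod 5))ˣ) : Matrix (Fin 111) (Fin 111) (ZMod 5)) = V a := by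
  unfold V
  rw [Matrix.mul_assoc, P_spec.2.2]

theorem V_ne (hb : gt MLb.T0 13 8191 0 < 7128) : V (gt MLb.T0 13 8191 0) ≠ V 0 := by
  intro h
  have h1 := mulR_rep (m := 1) (n := 111) (by norm_num) (by norm_num) (repU _ hb) (LyRep.repR_of r0)
  have h2 := mulR_rep (m := 1) (n := 111) (by norm_num) (by norm_num) (repU 0 (by norm_num)) (LyRep.repR_of r0)
  have h3 : rowU (uc (gt MLb.T0 13 8191 0)) * matR 111 PR = rowU (uc 0) * matR 111 PR := h
  rw [h3] at h1
  have h4 := h1.ext' h2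
  have h5 := cN
  unfold chkN at h5
  rw [force_eq, force_eq, mkc0_eq (by norm_num), mm0_eq] at h5
  have h6 : (1 * 111 : ℕ) = 111 := rfl
  rw [h6] at h4
  rw [h4] at h5
  have h7 : ∀ n : ℕ, Nat.beq n n = true := Nat.beq_refl
  rw [h7] at h5
  exact Bool.noConfusion h5

theorem cC_spec : (Wx.eval LyRep.u * W0.eval LyRep.u * (Wx.eval LyRep.u)⁻¹ * (W0.eval LyRep.u)⁻¹ = 1) ∧
    (Wx.eval LyRep.u * W1.eval LyRep.u * (Wx.eval LyRep.u)⁻¹ * (W1.eval LyRep.u)⁻¹ = 1) ∧ (Wx.eval LyRep.u) ^ 3 = 1 := by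
  have h := cC
  unfold chkC at h
  rw [force_eq, force_eq, force_eq, LyRep.mk0_eq, show (12321 : ℕ) = 111 * 111 by norm_num, LyRep.mm0_eq, LyRep.id0_eq] at h
  have key : ∀ W : Wd, Cfsg.Agent.Lib.CoxBridge.lets 39 W = true →
      relM (mkc 111 111) (m15 (111 * 111)) (idX 111) LyRep.G LyRep.GI W = true → W.eval LyRep.u = 1 := fun W hl hW =>
    relM_sound (by norm_num) (by norm_num) LyRep.hG LyRep.hGI W hl hW
  cases h1 : relM (mkc 111 111) (m15 (111 * 111)) (idX 111) LyRep.G LyRep.GI (.mul (.mul (.mul Wx W0) (.inv Wx)) (.inv W0)) with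
  | false => rw [h1] at h; simp at h
  | true =>
    rw [h1] at h
    cases h2 : relM (mkc 111 111) (m15 (111 * 111)) (idX 111) LyRep.G LyRep.GI (.mul (.mul (.mul Wx W1) (.inv Wx)) (.inv W1)) with
    | false => rw [h2] at h; simp at h
    | true =>
      rw [h2] at h
      simp only [cond_true] at h
      have k1 := key (.mul (.mul (.mul Wx W0) (.inv Wx)) (.inv W0)) (by decide) h1
      have k2 := key (.mul (.mul (.mul Wx W1) (.inv Wx)) (.inv W1)) (by decide) h2
      have k3 := key (.pow Wx 3) (by decide) h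
      exact ⟨k1, k2, k3⟩

theorem x_ne : Wx.eval LyRep.u ≠ 1 := by
  intro h
  have e2 := evW_rep (m := 111) (n := 111) (by norm_num) (by norm_num) LyRep.hG LyRep.hGI Wx (by decide) false (idX_rep 111)
  simp only [Bool.false_eq_true, if_false] at e2
  rw [h, Units.val_one, Matrix.one_mul] at e2
  have h3 := e2.ext' (idX_rep 111)
  have h5 := cX
  unfold chkX at h5
  rw [force_eq, force_eq, force_eq, LyRep.mk0_eq, show (12321 : ℕ) = 111 * 111 by norm_num, LyRep.mm0_eq, LyRep.id0_eq] at h5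
  unfold relM at h5
  rw [h3] at h5
  have h7 : ∀ n : ℕ, Nat.beq n n = true := Nat.beq_refl
  rw [h7] at h5
  exact Bool.noConfusion h5

end Cfsg.Agent.Lib.LyCX
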