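import Mathlib

/-!
A group with a subdirect product structure is a central extension of a simple group (helper23)
-/

set_option autoImplicit false
set_option linter.all false

namespace Cfsg.Agent.Lib.LyCX

open Subgroup

theorem sub_ext {A C : Type*} [Group A] [Group C] [Finite A] [Finite C] [IsSimpleGroup A]
    (hnc : Subgroup.center A = ⊥) (D : Subgroup (A × C)) (hsur : ∀ m, ∃ c, (m, c) ∈ D) {m0 : A} (hm0 : (m0, (1 : C)) ∉ D)
    {x : C} (hx3 : orderOf x = 3) (hx : ((1 : A), x) ∈ D) (hc : ∀ c : C, c * x = x * c) (hcard : Nat.card C ≤ 3 * Nat.card A) :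
    Nat.card (Subgroup.center C) = 3 ∧ Nonempty (C ⧸ Subgroup.center C ≃* A) := by
  classical
  let p1 : D →* A := (MonoidHom.fst A C).comp D.subtype
  let p2 : D →* C := (MonoidHom.snd A C).comp D.subtype
  have hN : (D.comap (MonoidHom.inl A C)).Normal := by
    refine ⟨fun m hm g => ?_⟩
    obtain ⟨c, hgc⟩ := hsur g
    have h1 : (m, (1 : C)) ∈ D := hm
    show (g * m * g⁻¹, (1 : C)) ∈ D
    have h2 := D.mul_mem (D.mul_mem hgc h1) (D.inv_mem hgc)
    have h3 : (g, c) * (m, (1 : C)) * (g, c)⁻¹ = (g * m * g⁻¹, (1 : C)) := by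
      ext
      · rfl
      · show c * 1 * c⁻¹ = 1
        group
    rwa [h3] at h2
  have hbot : ∀ m : A, (m, (1 : C)) ∈ D → m = 1 := by
    intro m hm
    rcases hN.eq_bot_or_eq_top with h | h
    · have : m ∈ D.comap (MonoidHom.inl A C) := hm
      rw [h, Subgroup.mem_bot] at this
      exact this
    · exfalso
      apply hm0
      have : m0 ∈ D.comap (MonoidHom.inl A C) := by rw [h]; trivial
      exact this
  have hp2 : Function.Injective p2 := by
    rw [injective_iff_map_eq_one]
    rintro ⟨⟨m, c⟩, hmc⟩ h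
    have hc1 : c = 1 := h
    subst hc1
    have := hbot m hmc
    subst this
    rfl
  have hp1 : Function.Surjective p1 := fun m => by
    obtain ⟨c, h⟩ := hsur m
    exact ⟨⟨(m, c), h⟩, rfl⟩
  let xi : D := ⟨((1 : A), x), hx⟩
  have hxi : orderOf xi = 3 := by
    rw [← orderOf_injective p2 hp2 xi]; exact hx3
  have hk1 : Subgroup.zpowers xi ≤ p1.ker := by
    rw [Subgroup.zpowers_le]
    show p1 xi = 1
    rfl
  have hcz : Nat.card (Subgroup.zpowers xi) = 3 := by rw [Nat.card_zpowers, hxi]
  have hcD : Nat.card D = Nat.card A * Nat.card p1.ker := by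
    rw [Subgroup.card_eq_card_quotient_mul_card_subgroup p1.ker]
    congr 1
    exact Nat.card_congr (QuotientGroup.quotientKerEquivOfSurjective p1 hp1).toEquiv
  have hle : Nat.card D ≤ Nat.card C := Nat.card_le_card_of_injective p2 hp2
  have hA : 0 < Nat.card A := Nat.card_pos
  have h3le : 3 ≤ Nat.card p1.ker := by
    rw [← hcz]
    exact Subgroup.card_le_of_le hk1
  have hk3 : Nat.card p1.ker = 3 := by
    have : Nat.card A * Nat.card p1.ker ≤ Nat.card A * 3 := by rw [← hcD]; linarith
    exact le_antisymm (Nat.le_of_mul_le_mul_left this hA) h3le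
  have hker : p1.ker = Subgroup.zpowers xi := by
    symm
    exact Subgroup.eq_of_le_of_card_ge hk1 (by rw [hk3, hcz])
  have hDC : Nat.card D = Nat.card C := by
    apply le_antisymm hle
    rw [hcD, hk3]; linarith
  have hbij : Function.Bijective p2 := by
    rw [Nat.bijective_iff_injective_and_card]
    exact ⟨hp2, hDC⟩
  let e : D ≃* C := MulEquiv.ofBijective p2 hbij
  let q : C →* A := p1.comp e.symm.toMonoidHom
  have hq : Function.Surjective q := hp1.comp e.symm.surjective
  have hqx : ∀ c : C, q c = 1 → c ∈ Subgroup.zpowers x := by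
    intro c h
    have h1 : e.symm c ∈ p1.ker := h
    rw [hker] at h1
    obtain ⟨k, hk⟩ := Subgroup.mem_zpowers_iff.1 h1
    refine Subgroup.mem_zpowers_iff.2 ⟨k, ?_⟩
    have h2 := congrArg e hk
    rw [map_zpow, MulEquiv.apply_symm_apply] at h2
    exact h2
  have hcen : Subgroup.center C = q.ker := by
    apply le_antisymm
    · intro c hcc
      show q c = 1
      have h1 : q c ∈ Subgroup.center A := by
        rw [Subgroup.mem_center_iff]
        intro g
        obtain ⟨d, rfl⟩ := hq g
        rw [← map_mul, ← map_mul, Subgroup.mem_center_iff.1 hcc d]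
      rw [hnc, Subgroup.mem_bot] at h1
      exact h1
    · intro c h
      have h1 := hqx c h
      have h2 : Subgroup.zpowers x ≤ Subgroup.center C := by
        rw [Subgroup.zpowers_le, Subgroup.mem_center_iff]
        exact hc
      exact h2 h1
  constructor
  · have h1 : Nat.card C = Nat.card A * Nat.card q.ker := by
      rw [Subgroup.card_eq_card_quotient_mul_card_subgroup q.ker]
      congr 1
      exact Nat.card_congr (QuotientGroup.quotientKerEquivOfSurjective q hq).toEquiv
    rw [hcen]
    rw [← hDC, hcD, hk3] at h1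
    exact (Nat.eq_of_mul_eq_mul_left hA h1).symm
  · exact ⟨(QuotientGroup.quotientMulEquivOfEq hcen).trans (QuotientGroup.quotientKerEquivOfSurjective q hq)⟩

theorem sub_dvd {A C : Type*} [Group A] [Group C] [Finite A] [Finite C] [IsSimpleGroup A]
    (D : Subgroup (A × C)) (hsur : ∀ m, ∃ c, (m, c) ∈ D) {m0 : A} (hm0 : (m0, (1 : C)) ∉ D)
    {x : C} (hx3 : orderOf x = 3) (hx : ((1 : A), x) ∈ D) : 3 * Nat.card A ∣ Nat.card C := by
  classical
  let p1 : D →* A := (MonoidHom.fst A C).comp D.subtype
  let p2 : D →* C := (MonoidHom.snd A C).comp D.subtype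
  have hN : (D.comap (MonoidHom.inl A C)).Normal := by
    refine ⟨fun m hm g => ?_⟩
    obtain ⟨c, hgc⟩ := hsur g
    have h1 : (m, (1 : C)) ∈ D := hm
    show (g * m * g⁻¹, (1 : C)) ∈ D
    have h2 := D.mul_mem (D.mul_mem hgc h1) (D.inv_mem hgc)
    have h3 : (g, c) * (m, (1 : C)) * (g, c)⁻¹ = (g * m * g⁻¹, (1 : C)) := by
      ext
      · rfl
      · show c * 1 * c⁻¹ = 1
        group
    rwa [h3] at h2
  have hbot : ∀ m : A, (m, (1 : C)) ∈ D → m = 1 := by
    intro m hm
    rcases hN.eq_bot_or_eq_top with h | h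
    · have : m ∈ D.comap (MonoidHom.inl A C) := hm
      rw [h, Subgroup.mem_bot] at this
      exact this
    · exfalso
      apply hm0
      have : m0 ∈ D.comap (MonoidHom.inl A C) := by rw [h]; trivial
      exact this
  have hp2 : Function.Injective p2 := by
    rw [injective_iff_map_eq_one]
    rintro ⟨⟨m, c⟩, hmc⟩ h
    have hc1 : c = 1 := h
    subst hc1
    have := hbot m hmc
    subst this
    rfl
  have hp1 : Function.Surjective p1 := fun m => by
    obtain ⟨c, h⟩ := hsur m
    exact ⟨⟨(m, c), h⟩, rfl⟩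
  let xi : D := ⟨((1 : A), x), hx⟩
  have hxi : orderOf xi = 3 := by
    rw [← orderOf_injective p2 hp2 xi]; exact hx3
  have hk1 : Subgroup.zpowers xi ≤ p1.ker := by
    rw [Subgroup.zpowers_le]
    show p1 xi = 1
    rfl
  have hcz : Nat.card (Subgroup.zpowers xi) = 3 := by rw [Nat.card_zpowers, hxi]
  have hcD : Nat.card D = Nat.card A * Nat.card p1.ker := by
    rw [Subgroup.card_eq_card_quotient_mul_card_subgroup p1.ker]
    congr 1
    exact Nat.card_congr (QuotientGroup.quotientKerEquivOfSurjective p1 hp1).toEquiv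
  have h3 : 3 ∣ Nat.card p1.ker := by
    rw [← hcz]
    exact Subgroup.card_dvd_of_le hk1
  have h4 : Nat.card D ∣ Nat.card C := by
    rw [Nat.card_congr (MonoidHom.ofInjective hp2).toEquiv]
    exact Subgroup.card_subgroup_dvd_card _
  refine dvd_trans ?_ h4
  rw [hcD, mul_comm]
  exact Nat.mul_dvd_mul_left _ h3

/-- a simple group whose order is not prime has trivial center -/
theorem center_bot_of_simple {A : Type*} [Group A] [Finite A] [IsSimpleGroup A] (h : ¬ (Nat.card A).Prime) :
    Subgroup.center A = ⊥ := by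
  rcases (inferInstance : (Subgroup.center A).Normal).eq_bot_or_eq_top with h1 | h1
  · exact h1
  · exfalso
    apply h
    letI : CommGroup A := { (inferInstance : Group A) with
      mul_comm := fun a b => by
        have : b ∈ Subgroup.center A := by rw [h1]; trivial
        exact Subgroup.mem_center_iff.1 this a }
    haveI : IsSimpleGroup A := inferInstance
    exact IsSimpleGroup.prime_card

end Cfsg.Agent.Lib.LyCX
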