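import Cfsg.Agent.Lib.LyCXb
import Cfsg.Agent.Lib.LyCXg
import Cfsg.Agent.Lib.H58SMML

/-!
The group `3.McL` inside the Lyons group (helper23)
-/

set_option autoImplicit false
set_option linter.all false

namespace Cfsg.Agent.Lib.LyCX

open Cfsg.Spor Cfsg.Agent.Lib.M5 Cfsg.Agent.Lib.BenesWord Cfsg.Agent.Lib.H58SM Cfsg.Agent.Lib.H58SM.LV
open Cfsg

/-- matrices -/
abbrev GL111 := (Matrix (Fin 111) (Fin 111) (ZMod 5))ˣ

/-- points -/
noncomputable abbrev e := pnt MLd.cd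

theorem tab (i : ℕ) (hi : i < 2) (a : ℕ) (ha : a < 7128) : MLg.gg i • e a = e (MLb.Q.T (2 * i) a) := MLd.act.fwd i hi a ha

theorem exi (m : ML.G) {a : ℕ} (ha : a < 7128) : ∃ b < 7128, m • e a = e b := MLd.act.exists_pt ML.gen m ha

theorem inj {a b : ℕ} (ha : a < 7128) (hb : b < 7128) (h : e a = e b) : a = b := MLd.act.inj ha hb h

/-- pairs acting in the same way -/
def D : Subgroup (ML.G × GL111) where
  carrier := {p | ∀ a < 7128, ∀ b < 7128, p.1 • e a = e b → V b * (p.2 : Matrix (Fin 111) (Fin 111) (ZMod 5)) = V a}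
  one_mem' := by
    intro a ha b hb h
    have h1 : e a = e b := by
      have : (1 : ML.G) • e a = e b := h
      rwa [one_smul] at this
    rw [inj ha hb h1]
    exact Matrix.mul_one _
  mul_mem' := by
    intro p q hp hq a ha b hb h
    obtain ⟨c, hc, h1⟩ := exi q.1 ha
    have h2 : p.1 • e c = e b := by
      rw [← h1, ← mul_smul]; exact h
    show V b * ((p.2 * q.2 : GL111) : Matrix (Fin 111) (Fin 111) (ZMod 5)) = V a
    rw [Units.val_mul, ← Matrix.mul_assoc, hp c hc b hb h2, hq a ha c hc h1]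
  inv_mem' := by
    intro p hp a ha b hb h
    have h1 : p.1 • e b = e a := by
      have : (p.1)⁻¹ • e a = e b := h
      rw [← this, smul_inv_smul]
    have h2 := hp b hb a ha h1
    show V b * ((p.2⁻¹ : GL111) : Matrix (Fin 111) (Fin 111) (ZMod 5)) = V a
    rw [← h2, Matrix.mul_assoc, ← Units.val_mul, mul_inv_cancel, Units.val_one, Matrix.mul_one]

theorem mem0 : (MLg.gg 0, W0.eval LyRep.u) ∈ D := by
  intro a ha b hb h
  have h1 := tab 0 (by norm_num) a ha
  have hb' : MLb.Q.T (2 * 0) a < 7128 := MLd.act.ltn 0 (by norm_num) a ha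
  have h2 : b = MLb.Q.T (2 * 0) a := inj hb hb' (h.symm.trans h1)
  subst h2
  exact V0 a ha hb'

theorem mem1 : (MLg.gg 1, W1.eval LyRep.u) ∈ D := by
  intro a ha b hb h
  have h1 := tab 1 (by norm_num) a ha
  have hb' : MLb.Q.T (2 * 1) a < 7128 := MLd.act.ltn 2 (by norm_num) a ha
  have h2 : b = MLb.Q.T (2 * 1) a := inj hb hb' (h.symm.trans h1)
  subst h2
  exact V1 a ha hb'

theorem memx : ((1 : ML.G), Wx.eval LyRep.u) ∈ D := by
  intro a ha b hb h
  have h1 : e a = e b := by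
    have : (1 : ML.G) • e a = e b := h
    rwa [one_smul] at this
  rw [inj ha hb h1]
  exact Vx b

theorem nmem : (MLg.gg 0, (1 : GL111)) ∉ D := by
  intro h
  have h1 := tab 0 (by norm_num) 0 (by norm_num)
  have hb' : MLb.Q.T (2 * 0) 0 < 7128 := MLd.act.ltn 0 (by norm_num) 0 (by norm_num)
  have h2 := h 0 (by norm_num) _ hb' h1
  rw [Units.val_one, Matrix.mul_one] at h2
  exact V_ne hb' h2

/-- pairs with a second component in a group with a representation -/
noncomputable def DK {K : Type*} [Group K] (f : K →* GL111) : Subgroup (ML.G × K) := D.comap ((MonoidHom.id ML.G).prodMap f)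

theorem mem_DK {K : Type*} [Group K] (f : K →* GL111) (m : ML.G) (k : K) : (m, k) ∈ DK f ↔ (m, f k) ∈ D := Iff.rfl

theorem sur {K : Type*} [Group K] (f : K →* GL111) {k0 k1 : K} (h0 : f k0 = W0.eval LyRep.u) (h1 : f k1 = W1.eval LyRep.u) (m : ML.G) :
    ∃ c, (m, c) ∈ DK f := by
  have h : Subgroup.closure {z | ∃ i < 2, z = MLg.gg i} ≤ (DK f).map (MonoidHom.fst ML.G K) := by
    rw [Subgroup.closure_le]
    rintro _ ⟨i, hi, rfl⟩
    interval_cases i
    · refine ⟨(MLg.gg 0, k0), ?_, rfl⟩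
      show (MLg.gg 0, f k0) ∈ D
      rw [h0]; exact mem0
    · refine ⟨(MLg.gg 1, k1), ?_, rfl⟩
      show (MLg.gg 1, f k1) ∈ D
      rw [h1]; exact mem1
  rw [ML.gen] at h
  obtain ⟨⟨m', c⟩, h2, h3⟩ := h (Subgroup.mem_top m)
  have h4 : m' = m := h3
  subst h4
  exact ⟨c, h2⟩

theorem nmemK {K : Type*} [Group K] (f : K →* GL111) : (MLg.gg 0, (1 : K)) ∉ DK f := by
  intro h
  apply nmem
  have h1 : (MLg.gg 0, f 1) ∈ D := h
  rwa [map_one] at h1

instance finG : Finite ML.G := Nat.finite_of_card_ne_zero (by rw [ML.cardG]; norm_num)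

/-- the image of the Lyons group is divisible by the order of `3.McL` -/
theorem dvd_range : 2694384000 ∣ Nat.card LyH.ρ.range := by
  have key : ∀ W : Wd, Cfsg.Agent.Lib.CoxBridge.lets 39 W = true → LyH.ρ (W.eval LyH.Y) = W.eval LyRep.u := by
    intro W hW
    rw [Wd.map_eval]
    exact Cfsg.Agent.Lib.CoxBridge.eval_congr (n := 39) (fun c hc => LyH.ρ_spec c hc) W hW
  have h0 := key W0 (by decide)
  have h1 := key W1 (by decide)
  have hx := key Wx (by decide)
  have hx3 : orderOf (⟨LyH.ρ (Wx.eval LyH.Y), ⟨_, rfl⟩⟩ : LyH.ρ.range) = 3 := by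
    rw [← orderOf_injective LyH.ρ.range.subtype Subtype.coe_injective]
    show orderOf (LyH.ρ (Wx.eval LyH.Y)) = 3
    rw [hx]
    exact orderOf_eq_prime cC_spec.2.2 x_ne
  have h := sub_dvd (DK LyH.ρ.range.subtype) (sur LyH.ρ.range.subtype (k0 := ⟨LyH.ρ (W0.eval LyH.Y), ⟨_, rfl⟩⟩)
    (k1 := ⟨LyH.ρ (W1.eval LyH.Y), ⟨_, rfl⟩⟩) h0 h1) (nmemK _) (x := ⟨LyH.ρ (Wx.eval LyH.Y), ⟨_, rfl⟩⟩) hx3 (by
      show ((1 : ML.G), LyH.ρ (Wx.eval LyH.Y)) ∈ D
      rw [hx]; exact memx)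
  rw [ML.cardG] at h
  exact h

end Cfsg.Agent.Lib.LyCX
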