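import Cfsg.Agent.Lib.M5G

/-!
# Packed 7 x 7 matrices over the field with 5 elements: counting in groups given by chains, orbits by walks
-/

set_option autoImplicit false
set_option linter.all false

namespace Cfsg.Agent.Lib.LyCntE

open Cfsg.Agent.Lib.M5
open Cfsg.Agent.Lib.BenesPerm (force force_eq)

/-- rows of a packed matrix -/
noncomputable def rwn (k : ℕ) : ℕ → List ℕ :=
  Nat.rec (motive := fun _ => ℕ → List ℕ) (fun _ => [])
    (fun _ ih X => force (Nat.shiftRight X 84) fun Y => Nat.land X 19342813113834066795298815 :: ih Y) k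

/-- trace modulo 5 -/
noncomputable def tr7 (D X : ℕ) : ℕ := Nat.mod (Nat.land X D) 5

/-- condition: trace `4`, square trivial -/
noncomputable def cT (mk mm id D X : ℕ) : Bool := cond (Nat.beq (tr7 D X) 4) (Nat.beq (mulR mk mm (rwn 7 X) X) id) false

/-- condition: trace `3`, third power trivial -/
noncomputable def cX (mk mm id D X : ℕ) : Bool := cond (Nat.beq (tr7 D X) 3) (Nat.beq (mulR mk mm (rwn 7 X) (mulR mk mm (rwn 7 X) X)) id) false

/-- fold over a level -/
noncomputable def fR (mk mm : ℕ) (f : ℕ → ℕ → ℕ) (X : ℕ) : List (List ℕ) → ℕ → ℕ :=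
  List.rec (motive := fun _ => ℕ → ℕ) (fun acc => acc)
    (fun R _ ih acc => force (mulR mk mm R X) fun Y => force (f Y acc) fun acc' => ih acc')

/-- number of products with a property -/
noncomputable def cnt (mk mm : ℕ) (c : ℕ → Bool) : List (List (List ℕ)) → ℕ → ℕ → ℕ :=
  List.rec (motive := fun _ => ℕ → ℕ → ℕ) (fun X acc => cond (c X) (Nat.succ acc) acc)
    (fun lv _ ih X acc => fR mk mm ih X lv acc)

/-! ### packed numbers -/

abbrev Mt (m : ℕ) := Matrix (Fin m) (Fin 7) (ZMod 5)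

/-- packed number of a matrix -/
def pk {m : ℕ} (M : Mt m) : ℕ := dval m 7 (fun i j => if h : i < m ∧ j < 7 then (M ⟨i, h.1⟩ ⟨j, h.2⟩).val else 0)

theorem rep_pk {m : ℕ} (M : Mt m) : Rep m 7 (pk M) M := by
  refine ⟨_, rfl, fun i j => ?_, fun i j => ?_⟩
  · show (if h : i < m ∧ j < 7 then (M ⟨i, h.1⟩ ⟨j, h.2⟩).val else 0) ≤ 4
    split
    · have := ZMod.val_lt (M ⟨i, by tauto⟩ ⟨j, by tauto⟩)
      omega
    · omega
  · show (((if h : (i : ℕ) < m ∧ (j : ℕ) < 7 then (M ⟨i, h.1⟩ ⟨j, h.2⟩).val else 0 : ℕ)) : ZMod 5) = _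
    rw [dif_pos ⟨i.2, j.2⟩]
    exact ZMod.natCast_zmod_val _

theorem Rep_eq {m X : ℕ} {M : Mt m} (h : Rep m 7 X M) : X = pk M := h.ext' (rep_pk M)

theorem pk_inj {m : ℕ} {M N : Mt m} (h : pk M = pk N) : M = N := (rep_pk M).ext (h ▸ rep_pk N)

theorem dval_succ (m : ℕ) (x : ℕ → ℕ → ℕ) : dval (m + 1) 7 x = val (x 0) 7 + 2 ^ 84 * dval m 7 (fun i => x (i + 1)) := by
  have e : (2 : ℕ) ^ 84 = 4096 ^ 7 := by norm_num
  rw [dval_eq, Finset.sum_range_succ', dval_eq, e, Finset.mul_sum, Nat.add_comm]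
  refine congrArg₂ (· + ·) ?_ ?_
  · unfold val
    exact Finset.sum_congr rfl (fun k _ => by rw [mul_zero, zero_add])
  · apply Finset.sum_congr rfl
    intro i _
    rw [Finset.mul_sum]
    apply Finset.sum_congr rfl
    intro k _
    rw [show 7 * (i + 1) + k = 7 + (7 * i + k) by ring, pow_add]
    ring

theorem rwn_succ (k X : ℕ) : rwn (k + 1) X = X % 2 ^ 84 :: rwn k (X / 2 ^ 84) := by
  have h : rwn (k + 1) X = force (Nat.shiftRight X 84) fun Y => Nat.land X 19342813113834066795298815 :: rwn k Y := rfl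
  rw [h, force_eq]
  have h1 : Nat.shiftRight X 84 = X / 2 ^ 84 := Nat.shiftRight_eq_div_pow X 84
  have h2 : Nat.land X 19342813113834066795298815 = X % 2 ^ 84 := Nat.and_two_pow_sub_one_eq_mod X 84
  rw [h1, h2]

theorem rwn_dval (m : ℕ) (x : ℕ → ℕ → ℕ) (hx : ∀ i j, x i j ≤ 4) : rwn m (dval m 7 x) = (List.range m).map (fun i => val (x i) 7) := by
  induction m generalizing x with
  | zero => rfl
  | succ m ih =>
    have h1 : val (x 0) 7 < 2 ^ 84 := by
      have := val_lt (f := x 0) (N := 7) (fun t _ => by have := hx 0 t; omega)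
      have e : (2 : ℕ) ^ 84 = 4096 ^ 7 := by norm_num
      rw [e]; exact this
    rw [rwn_succ, dval_succ, Nat.add_mul_mod_self_left, Nat.mod_eq_of_lt h1, Nat.add_mul_div_left _ _ (by positivity),
      Nat.div_eq_of_lt h1, zero_add, ih _ (fun i j => hx _ _), List.range_succ_eq_map, List.map_cons, List.map_map]
    rfl

theorem rwn_rep {X : ℕ} {M : Mt 7} (h : Rep 7 7 X M) : RepR 7 (rwn 7 X) M := by
  obtain ⟨x, hX, hx, hM⟩ := h
  rw [hX, rwn_dval 7 x hx]
  have hlen : ((List.range 7).map (fun i => val (x i) 7)).length = 7 := by rw [List.length_map, List.length_range]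
  refine ⟨x, hlen, fun j hj => ?_, hx, hM⟩
  rw [List.getElem_map, List.getElem_range]

theorem tr7_eq (D X : ℕ) : tr7 D X = (X &&& D) % 5 := rfl

theorem tr7_rep {X : ℕ} {M : Mt 7} (h : Rep 7 7 X M) : ((tr7 (mkc 8 7) X : ℕ) : ZMod 5) = M.trace := by
  obtain ⟨x, hX, hx, hM⟩ := h
  rw [hX, tr7_eq, ZMod.natCast_mod, land_mkc (by norm_num), Nat.cast_sum, Matrix.trace, Finset.sum_range]
  apply Finset.sum_congr rfl
  intro i _
  have h2 : dig (dval 7 7 x) (8 * i) = x i i := by
    have := dig_dval (m := 7) (n := 7) (x := x) (fun i j => by have := hx i j; omega) i.2 i.2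
    rw [← this]; congr 1; ring
  rw [h2, Nat.cast_mul, hM i i, Nat.cast_pow]
  have h3 : ((4096 : ℕ) : ZMod 5) = 1 := by decide
  rw [h3, one_pow, mul_one]
  rfl

/-! ### counting -/

/-- the products of a chain -/
noncomputable def prods : List (List (List ℕ)) → List (Mt 7)
  | [] => [1]
  | lv :: rest => lv.flatMap (fun R => (prods rest).map (fun m => matR 7 R * m))

theorem cnt_nil (mk mm : ℕ) (c : ℕ → Bool) (X acc : ℕ) : cnt mk mm c [] X acc = cond (c X) (Nat.succ acc) acc := rfl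

theorem cnt_cons (mk mm : ℕ) (c : ℕ → Bool) (lv : List (List ℕ)) (L : List (List (List ℕ))) (X acc : ℕ) :
    cnt mk mm c (lv :: L) X acc = fR mk mm (cnt mk mm c L) X lv acc := rfl

theorem fR_nil (mk mm : ℕ) (f : ℕ → ℕ → ℕ) (X acc : ℕ) : fR mk mm f X [] acc = acc := rfl

theorem fR_cons (mk mm : ℕ) (f : ℕ → ℕ → ℕ) (X : ℕ) (R : List ℕ) (lv : List (List ℕ)) (acc : ℕ) :
    fR mk mm f X (R :: lv) acc = fR mk mm f X lv (f (mulR mk mm R X) acc) := by
  have h : fR mk mm f X (R :: lv) acc = force (mulR mk mm R X) fun Y => force (f Y acc) fun acc' => fR mk mm f X lv acc' := rfl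
  rw [h, force_eq, force_eq]

theorem prods_cons (R : List ℕ) (lv : List (List ℕ)) (L : List (List (List ℕ))) (q : Mt 7 → Bool) :
    ((prods ((R :: lv) :: L)).filter q).length =
      ((prods L).filter (fun m => q (matR 7 R * m))).length + ((prods (lv :: L)).filter q).length := by
  rw [prods, prods, List.flatMap_cons, List.filter_append, List.length_append, List.filter_map, List.length_map]
  rfl

theorem prods_nil' (L : List (List (List ℕ))) (q : Mt 7 → Bool) : ((prods ([] :: L)).filter q).length = 0 := rfl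

theorem cnt_spec (c : ℕ → Bool) {mk mm : ℕ} (hm : ∀ {X : ℕ} {M : Mt 7} {R : List ℕ} {N : Mt 7}, Rep 7 7 X M → RepR 7 R N →
      Rep 7 7 (mulR mk mm R X) (M * N))
    (L : List (List (List ℕ))) (hv : ∀ lv ∈ L, ∀ R ∈ lv, RepR 7 R (matR 7 R)) {X : ℕ} {M : Mt 7}
    (hX : Rep 7 7 X M) (acc : ℕ) :
    cnt mk mm c L X acc = acc + ((prods L).filter (fun N => c (pk (M * N)))).length := by
  induction L generalizing X M acc with
  | nil =>
    rw [cnt_nil, Rep_eq hX]
    simp only [prods, List.filter_cons, List.filter_nil, Matrix.mul_one]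
    generalize c (pk M) = b
    cases b <;> rfl
  | cons lv L ih =>
    rw [cnt_cons]
    have ih' := fun {X : ℕ} {M : Mt 7} (hX : Rep 7 7 X M) (acc : ℕ) => ih (fun l hl => hv l (List.mem_cons_of_mem _ hl)) hX acc
    have hlv := hv lv List.mem_cons_self
    clear ih hv
    induction lv generalizing acc with
    | nil => rw [fR_nil, prods_nil', Nat.add_zero]
    | cons R lv ihl =>
      have e1 := hm hX (hlv R List.mem_cons_self)
      rw [fR_cons, ihl _ (fun R' h' => hlv R' (List.mem_cons_of_mem _ h')), ih' e1, prods_cons, Nat.add_assoc]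
      simp only [Matrix.mul_assoc]

theorem hm77 {X : ℕ} {M : Mt 7} {R : List ℕ} {N : Mt 7} (h : Rep 7 7 X M) (h' : RepR 7 R N) :
    Rep 7 7 (mulR (mkc 7 7) (m15 49) R X) (M * N) := by
  have e1 := mulR_rep (by norm_num) (by norm_num) h h'
  rwa [show 7 * 7 = 49 by norm_num] at e1

/-! ### chains -/

/-- lookup -/
noncomputable def nthR (l : List (List ℕ)) : ℕ → List ℕ :=
  List.rec (motive := fun _ => ℕ → List ℕ) (fun _ => [])
    (fun a _ ih c => Nat.rec (motive := fun _ => List ℕ) a (fun n _ => ih n) c) l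

theorem nthR_mem {l : List (List ℕ)} {c : ℕ} (h : c < l.length) : nthR l c ∈ l := by
  induction l generalizing c with
  | nil => simp at h
  | cons a l ih =>
    cases c with
    | zero => exact List.mem_cons_self
    | succ c => exact List.mem_cons_of_mem _ (ih (by simpa using h))

/-- right multiplication by a word -/
noncomputable def wdR (mk mm : ℕ) (S : List (List ℕ)) : List ℕ → ℕ → ℕ :=
  List.rec (motive := fun _ => ℕ → ℕ) (fun X => X) (fun b _ ih X => force (mulR mk mm (nthR S b) X) fun Y => ih Y)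

/-- all letters small -/
noncomputable def allLt (n : ℕ) : List ℕ → Bool :=
  List.rec (motive := fun _ => Bool) true (fun b _ ih => cond (Nat.blt b n) ih false)

/-- a level: generators, representatives, certificate -/
structure Lvl where
  S : List (List ℕ)
  R : List (List ℕ)
  C : List (List (ℕ × List ℕ))

/-- check for one generator -/
noncomputable def chk1 (mk mm id : ℕ) (Rl S' : List (List ℕ)) (s : ℕ) : List (List ℕ) → List (ℕ × List ℕ) → Bool :=
  List.rec (motive := fun _ => List (ℕ × List ℕ) → Bool) (fun _ => true)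
    (fun r _ ih C => List.rec (motive := fun _ => Bool) false
      (fun p C' _ => cond (Nat.blt p.1 Rl.length) (cond (allLt S'.length p.2)
        (cond (Nat.beq (mulR mk mm r s) (wdR mk mm S' p.2 (mulR mk mm (nthR Rl p.1) id))) (ih C') false) false) false) C)

/-- check for all generators -/
noncomputable def chkS (mk mm id : ℕ) (Rl S' : List (List ℕ)) : List (List ℕ) → List (List (ℕ × List ℕ)) → Bool :=
  List.rec (motive := fun _ => List (List (ℕ × List ℕ)) → Bool) (fun _ => true)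
    (fun s _ ih C => List.rec (motive := fun _ => Bool) false
      (fun c C' _ => force (mulR mk mm s id) fun X => cond (chk1 mk mm id Rl S' X Rl c) (ih C') false) C)

/-- generators of the first level -/
def hdS : List Lvl → List (List ℕ)
  | [] => []
  | l :: _ => l.S

/-- all rows good -/
noncomputable def allOne : List (List ℕ) → Bool :=
  List.rec (motive := fun _ => Bool) true (fun R _ ih => cond (chkOne 7 R) ih false)

/-- check of a chain -/
noncomputable def chkCh (mk mm id : ℕ) : List Lvl → Bool :=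
  List.rec (motive := fun _ => Bool) true
    (fun l L ih => cond (allOne l.S) (cond (allOne l.R) (cond (chkS mk mm id l.R (hdS L) l.S l.C)
      (cond (Nat.beq (mulR mk mm (nthR l.R 0) id) id) (cond (Nat.blt 0 l.R.length) ih false) false) false) false) false)

theorem cond_true' {a b : Bool} (h : cond a b false = true) : a = true ∧ b = true := by
  cases a <;> cases b <;> simp_all

theorem allOne_spec {l : List (List ℕ)} (h : allOne l = true) : ∀ R ∈ l, RepR 7 R (matR 7 R) := by
  induction l with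
  | nil => intro R hR; simp at hR
  | cons a l ih =>
    have h' : cond (chkOne 7 a) (allOne l) false = true := h
    obtain ⟨h1, h2⟩ := cond_true' h'
    intro R hR
    rcases List.mem_cons.mp hR with rfl | hR
    · exact repR_of h1
    · exact ih h2 R hR

theorem allLt_spec {n : ℕ} {l : List ℕ} (h : allLt n l = true) : ∀ b ∈ l, b < n := by
  induction l with
  | nil => intro b hb; simp at hb
  | cons a l ih =>
    have h' : cond (Nat.blt a n) (allLt n l) false = true := h
    obtain ⟨h1, h2⟩ := cond_true' h'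
    intro b hb
    rcases List.mem_cons.mp hb with rfl | hb
    · simpa [Nat.blt_eq] using h1
    · exact ih h2 b hb

theorem wdR_rep {S : List (List ℕ)} (hS : ∀ R ∈ S, RepR 7 R (matR 7 R)) (w : List ℕ) (hw : ∀ b ∈ w, b < S.length) {m X : ℕ} {M : Mt m}
    (hX : Rep m 7 X M) : Rep m 7 (wdR (mkc 7 m) (m15 (m * 7)) S w X) (M * (w.map (fun b => matR 7 (nthR S b))).prod) := by
  induction w generalizing X M with
  | nil => simpa [wdR] using hX
  | cons b w ih =>
    have h : wdR (mkc 7 m) (m15 (m * 7)) S (b :: w) X = force (mulR (mkc 7 m) (m15 (m * 7)) (nthR S b) X) fun Y =>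
      wdR (mkc 7 m) (m15 (m * 7)) S w Y := rfl
    rw [h, force_eq]
    have := ih (fun b hb => hw b (List.mem_cons_of_mem _ hb))
      (mulR_rep (by norm_num) (by norm_num) hX (hS _ (nthR_mem (hw b List.mem_cons_self))))
    rwa [Matrix.mul_assoc, ← List.prod_cons, ← List.map_cons (f := fun b => matR 7 (nthR S b))] at this

theorem chk1_spec {Rl S' : List (List ℕ)} {s : ℕ} {N : Mt 7} (hs : Rep 7 7 s N) (hRl : ∀ R ∈ Rl, RepR 7 R (matR 7 R))
    (hS' : ∀ R ∈ S', RepR 7 R (matR 7 R)) (l : List (List ℕ)) (hl : ∀ R ∈ l, RepR 7 R (matR 7 R)) (C : List (ℕ × List ℕ))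
    (h : chk1 (mkc 7 7) (m15 49) (idX 7) Rl S' s l C = true) :
    ∀ r ∈ l, ∃ r' ∈ Rl, ∃ w : List ℕ, (∀ b ∈ w, b < S'.length) ∧ N * matR 7 r = matR 7 r' * (w.map (fun b => matR 7 (nthR S' b))).prod := by
  induction l generalizing C with
  | nil => intro r hr; simp at hr
  | cons r l ih =>
    cases C with
    | nil => exact absurd h (by simp [chk1])
    | cons p C =>
      have h' : cond (Nat.blt p.1 Rl.length) (cond (allLt S'.length p.2)
        (cond (Nat.beq (mulR (mkc 7 7) (m15 49) r s) (wdR (mkc 7 7) (m15 49) S' p.2 (mulR (mkc 7 7) (m15 49) (nthR Rl p.1) (idX 7))))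
          (chk1 (mkc 7 7) (m15 49) (idX 7) Rl S' s l C) false) false) false = true := h
      obtain ⟨h1, h2⟩ := cond_true' h'
      obtain ⟨h3, h4⟩ := cond_true' h2
      obtain ⟨h5, h6⟩ := cond_true' h4
      have h1' : p.1 < Rl.length := by simpa [Nat.blt_eq] using h1
      intro r' hr'
      rcases List.mem_cons.mp hr' with rfl | hr'
      · refine ⟨nthR Rl p.1, nthR_mem h1', p.2, allLt_spec h3, ?_⟩
        have e := Nat.eq_of_beq_eq_true h5
        have a1 := mulR_rep (by norm_num) (by norm_num) hs (hl r' List.mem_cons_self)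
        have a2 := wdR_rep (m := 7) hS' p.2 (allLt_spec h3) (mulR_rep (by norm_num) (by norm_num) (idX_rep 7) (hRl _ (nthR_mem h1')))
        have e' : mulR (mkc 7 7) (m15 (7 * 7)) r' s = wdR (mkc 7 7) (m15 (7 * 7)) S' p.2 (mulR (mkc 7 7) (m15 (7 * 7)) (nthR Rl p.1) (idX 7)) := e
        rw [e'] at a1
        have := a1.ext a2
        rw [Matrix.one_mul] at this
        exact this
      · exact ih (fun R hR => hl R (List.mem_cons_of_mem _ hR)) C h6 r' hr'

theorem chkS_spec {Rl S' : List (List ℕ)} (hRl : ∀ R ∈ Rl, RepR 7 R (matR 7 R))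
    (hS' : ∀ R ∈ S', RepR 7 R (matR 7 R)) (l : List (List ℕ)) (hl : ∀ R ∈ l, RepR 7 R (matR 7 R)) (C : List (List (ℕ × List ℕ)))
    (h : chkS (mkc 7 7) (m15 49) (idX 7) Rl S' l C = true) :
    ∀ s ∈ l, ∀ r ∈ Rl, ∃ r' ∈ Rl, ∃ w : List ℕ, (∀ b ∈ w, b < S'.length) ∧
      matR 7 s * matR 7 r = matR 7 r' * (w.map (fun b => matR 7 (nthR S' b))).prod := by
  induction l generalizing C with
  | nil => intro r hr; simp at hr
  | cons s l ih =>
    cases C with
    | nil => exact absurd h (by simp [chkS])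
    | cons c C =>
      have h' : (force (mulR (mkc 7 7) (m15 49) s (idX 7)) fun X => cond (chk1 (mkc 7 7) (m15 49) (idX 7) Rl S' X Rl c)
        (chkS (mkc 7 7) (m15 49) (idX 7) Rl S' l C) false) = true := h
      rw [force_eq] at h'
      obtain ⟨h1, h2⟩ := cond_true' h'
      intro s' hs' r hr
      rcases List.mem_cons.mp hs' with rfl | hs'
      · have a1 := mulR_rep (by norm_num) (by norm_num) (idX_rep 7) (hl s' List.mem_cons_self)
        rw [Matrix.one_mul] at a1
        exact chk1_spec a1 hRl hS' Rl hRl c h1 r hr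
      · exact ih (fun R hR => hl R (List.mem_cons_of_mem _ hR)) C h2 s' hs' r hr

theorem chkCh_cons {l : Lvl} {L : List Lvl} (h : chkCh (mkc 7 7) (m15 49) (idX 7) (l :: L) = true) :
    (allOne l.S = true ∧ allOne l.R = true) ∧ chkS (mkc 7 7) (m15 49) (idX 7) l.R (hdS L) l.S l.C = true ∧
      mulR (mkc 7 7) (m15 49) (nthR l.R 0) (idX 7) = idX 7 ∧ 0 < l.R.length ∧ chkCh (mkc 7 7) (m15 49) (idX 7) L = true := by
  have h' : cond (allOne l.S) (cond (allOne l.R) (cond (chkS (mkc 7 7) (m15 49) (idX 7) l.R (hdS L) l.S l.C)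
      (cond (Nat.beq (mulR (mkc 7 7) (m15 49) (nthR l.R 0) (idX 7)) (idX 7)) (cond (Nat.blt 0 l.R.length) (chkCh (mkc 7 7) (m15 49) (idX 7) L) false) false) false) false) false = true := h
  obtain ⟨h1, h2⟩ := cond_true' h'
  obtain ⟨h3, h4⟩ := cond_true' h2
  obtain ⟨h5, h6⟩ := cond_true' h4
  obtain ⟨h7, h8⟩ := cond_true' h6
  obtain ⟨h9, h10⟩ := cond_true' h8
  exact ⟨⟨h1, h3⟩, h5, Nat.eq_of_beq_eq_true h7, by simpa [Nat.blt_eq] using h9, h10⟩

theorem chain_good {L : List Lvl} (h : chkCh (mkc 7 7) (m15 49) (idX 7) L = true) :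
    (∀ R ∈ hdS L, RepR 7 R (matR 7 R)) ∧ (∀ lv ∈ L.map Lvl.R, ∀ R ∈ lv, RepR 7 R (matR 7 R)) ∧
      1 ∈ prods (L.map Lvl.R) ∧ ∀ s ∈ hdS L, ∀ m ∈ prods (L.map Lvl.R), matR 7 s * m ∈ prods (L.map Lvl.R) := by
  induction L with
  | nil => exact ⟨by simp [hdS], by simp, by simp [prods], by simp [hdS]⟩
  | cons l L ih =>
    obtain ⟨⟨h1, h2⟩, h3, h4, h5, h6⟩ := chkCh_cons h
    obtain ⟨i1, i2, i3, i4⟩ := ih h6
    have r1 := allOne_spec h1
    have r2 := allOne_spec h2
    refine ⟨r1, ?_, ?_, ?_⟩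
    · intro lv hlv
      rw [List.map_cons] at hlv
      rcases List.mem_cons.mp hlv with rfl | hlv
      · exact r2
      · exact i2 lv hlv
    · rw [List.map_cons, prods, List.mem_flatMap]
      refine ⟨nthR l.R 0, nthR_mem h5, List.mem_map.mpr ⟨1, i3, ?_⟩⟩
      have a1 := mulR_rep (by norm_num) (by norm_num) (idX_rep 7) (r2 _ (nthR_mem h5))
      have e : mulR (mkc 7 7) (m15 (7 * 7)) (nthR l.R 0) (idX 7) = idX 7 := h4
      rw [e, Matrix.one_mul] at a1
      rw [Matrix.mul_one]
      exact a1.ext (idX_rep 7)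
    · intro s hs m hm
      rw [List.map_cons, prods, List.mem_flatMap] at hm ⊢
      obtain ⟨r, hr, hm⟩ := hm
      obtain ⟨m', hm', rfl⟩ := List.mem_map.mp hm
      obtain ⟨r', hr', w, hw, e⟩ := chkS_spec r2 i1 l.S r1 l.C h3 s hs r hr
      refine ⟨r', hr', List.mem_map.mpr ⟨(w.map (fun b => matR 7 (nthR (hdS L) b))).prod * m', ?_, ?_⟩⟩
      · clear e
        induction w with
        | nil => simpa using hm'
        | cons b w ihw =>
          rw [List.map_cons, List.prod_cons, Matrix.mul_assoc]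
          exact i4 _ (nthR_mem (hw b List.mem_cons_self)) _ (ihw (fun b hb => hw b (List.mem_cons_of_mem _ hb)))
      · rw [← Matrix.mul_assoc, ← Matrix.mul_assoc, e]

section group
variable {P : Type*} [Group P] [Finite P] (f : P →* (Matrix (Fin 7) (Fin 7) (ZMod 5))ˣ)

theorem mem_prods {L : List Lvl} (h : chkCh (mkc 7 7) (m15 49) (idX 7) L = true) (A : Set P)
    (hA : ∀ a ∈ A, ∃ s ∈ hdS L, ((f a : (Matrix (Fin 7) (Fin 7) (ZMod 5))ˣ) : Mt 7) = matR 7 s) :
    ∀ g ∈ Subgroup.closure A, ((f g : (Matrix (Fin 7) (Fin 7) (ZMod 5))ˣ) : Mt 7) ∈ prods (L.map Lvl.R) := by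
  obtain ⟨i1, i2, i3, i4⟩ := chain_good h
  have key : ∀ a ∈ A, ∀ y : P, ((f y : (Matrix (Fin 7) (Fin 7) (ZMod 5))ˣ) : Mt 7) ∈ prods (L.map Lvl.R) →
      ∀ k : ℕ, ((f (a ^ k * y) : (Matrix (Fin 7) (Fin 7) (ZMod 5))ˣ) : Mt 7) ∈ prods (L.map Lvl.R) := by
    intro a ha y hy k
    induction k with
    | zero => simpa using hy
    | succ k ih =>
      obtain ⟨s, hs, e⟩ := hA a ha
      have := i4 s hs _ ih
      rw [← e, ← Units.val_mul, ← map_mul, ← mul_assoc, ← pow_succ'] at this
      exact this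
  intro g hg
  induction hg using Subgroup.closure_induction_left with
  | one => rw [map_one]; exact i3
  | mul_left x hx y hy ih => have := key x hx y ih 1; rwa [pow_one] at this
  | inv_mul_cancel x hx y hy ih =>
    have := key x hx y ih (orderOf x - 1)
    have e : x ^ (orderOf x - 1) = x⁻¹ := by
      rw [eq_inv_iff_mul_eq_one, ← pow_succ, Nat.sub_add_cancel (orderOf_pos x), pow_orderOf_eq_one]
    rwa [e] at this

/-- the bound -/
theorem count_le (hf : Function.Injective f) {L : List Lvl} (h : chkCh (mkc 7 7) (m15 49) (idX 7) L = true) (A : Set P)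
    (hA : ∀ a ∈ A, ∃ s ∈ hdS L, ((f a : (Matrix (Fin 7) (Fin 7) (ZMod 5))ˣ) : Mt 7) = matR 7 s) (c : ℕ → Bool) {n : ℕ}
    (hn : cnt (mkc 7 7) (m15 49) c (L.map Lvl.R) (idX 7) 0 = n) (B : Set P) (hB : B ⊆ Subgroup.closure A)
    (hc : ∀ g ∈ B, c (pk ((f g : (Matrix (Fin 7) (Fin 7) (ZMod 5))ˣ) : Mt 7)) = true) : B.ncard ≤ n := by
  classical
  have h1 := cnt_spec c (fun a b => hm77 a b) (L.map Lvl.R) (chain_good h).2.1 (idX_rep 7) 0
  rw [hn, zero_add] at h1
  rw [h1]
  set l := (prods (L.map Lvl.R)).filter (fun N => c (pk (1 * N))) with hl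
  have h2 : (fun g => ((f g : (Matrix (Fin 7) (Fin 7) (ZMod 5))ˣ) : Mt 7)) '' B ⊆ (l.toFinset : Set (Mt 7)) := by
    rintro _ ⟨g, hg, rfl⟩
    simp only [List.coe_toFinset, Set.mem_setOf_eq, hl, List.mem_filter, Matrix.one_mul]
    exact ⟨mem_prods f h A hA g (hB hg), hc g hg⟩
  have h3 : Function.Injective (fun g => ((f g : (Matrix (Fin 7) (Fin 7) (ZMod 5))ˣ) : Mt 7)) :=
    fun a b hab => hf (Units.ext hab)
  calc B.ncard = ((fun g => ((f g : (Matrix (Fin 7) (Fin 7) (ZMod 5))ˣ) : Mt 7)) '' B).ncard := (Set.ncard_image_of_injective _ h3).symm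
    _ ≤ (l.toFinset : Set (Mt 7)).ncard := Set.ncard_le_ncard h2 (Finset.finite_toSet _)
    _ = l.toFinset.card := Set.ncard_coe_finset _
    _ ≤ l.length := List.toFinset_card_le _

end group

/-! ### walks -/

/-- a walk: number of distinct codes of the states visited -/
noncomputable def wk (st : ℕ → ℕ → ℕ) (cd : ℕ → ℕ) (k : ℕ) : ℕ → ℕ → ℕ → ℕ → ℕ :=
  Nat.rec (motive := fun _ => ℕ → ℕ → ℕ → ℕ → ℕ) (fun _ _ _ n => n)
    (fun _ ih p X B n => force (st (Nat.land p 7) X) fun Y => force (cd Y) fun q => force (Nat.shiftRight p 3) fun p' =>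
      cond (Nat.beq (Nat.land (Nat.shiftRight B q) 1) 0)
        (force (Nat.lor B (Nat.shiftLeft 1 q)) fun B' => force (Nat.succ n) fun n' => ih p' Y B' n') (ih p' Y B n)) k

theorem wk_sound (st : ℕ → ℕ → ℕ) (cd : ℕ → ℕ) (T : Set ℕ) (hT : ∀ c < 8, ∀ X ∈ T, st c X ∈ T) (k : ℕ) {p X B n r : ℕ} (hX : X ∈ T)
    {F : Finset ℕ} (hF : F.card = n) (hBF : ∀ q, B.testBit q = true ↔ q ∈ F) (hFT : ∀ q ∈ F, q ∈ cd '' T)
    (h : wk st cd k p X B n = r) : ∃ F' : Finset ℕ, F'.card = r ∧ ∀ q ∈ F', q ∈ cd '' T := by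
  induction k generalizing p X B n F with
  | zero =>
    have h' : n = r := h
    exact ⟨F, hF.trans h', hFT⟩
  | succ k ih =>
    have h' : (force (st (Nat.land p 7) X) fun Y => force (cd Y) fun q => force (Nat.shiftRight p 3) fun p' =>
      cond (Nat.beq (Nat.land (Nat.shiftRight B q) 1) 0)
        (force (Nat.lor B (Nat.shiftLeft 1 q)) fun B' => force (Nat.succ n) fun n' => wk st cd k p' Y B' n') (wk st cd k p' Y B n)) = r := h
    rw [force_eq, force_eq, force_eq, force_eq, force_eq] at h'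
    have hY : st (Nat.land p 7) X ∈ T := hT _ (lt_of_le_of_lt (Nat.and_le_right : p &&& 7 ≤ 7) (by norm_num)) X hX
    cases hc : Nat.beq (Nat.land (Nat.shiftRight B (cd (st (Nat.land p 7) X))) 1) 0 with
    | false => rw [hc] at h'; exact ih hY hF hBF hFT h'
    | true =>
      rw [hc] at h'
      have h1 := Nat.eq_of_beq_eq_true hc
      have h2 : B.testBit (cd (st (Nat.land p 7) X)) = false := by
        have h3 : (B >>> (cd (st (Nat.land p 7) X))) &&& 1 = 0 := h1
        rw [Nat.testBit, Nat.and_comm, h3]; rfl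
      have h4 : cd (st (Nat.land p 7) X) ∉ F := fun h => by rw [(hBF _).mpr h] at h2; exact absurd h2 (by simp)
      refine ih hY (F := insert (cd (st (Nat.land p 7) X)) F) ?_ ?_ ?_ h'
      · rw [Finset.card_insert_of_notMem h4, hF]
      · intro q
        have e : Nat.lor B (Nat.shiftLeft 1 (cd (st (Nat.land p 7) X))) = B ||| (1 <<< cd (st (Nat.land p 7) X)) := rfl
        rw [e, Nat.testBit_or, Bool.or_eq_true, hBF, Finset.mem_insert, Nat.one_shiftLeft, Nat.testBit_two_pow]
        simp only [decide_eq_true_eq]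
        constructor
        · rintro (h | h)
          · exact Or.inr h
          · exact Or.inl h.symm
        · rintro (h | h)
          · exact Or.inr h.symm
          · exact Or.inl h
      · intro q hq
        rcases Finset.mem_insert.mp hq with rfl | hq
        · exact ⟨_, hY, rfl⟩
        · exact hFT q hq

/-- the number of states -/
theorem wk_card {α : Type*} [Finite α] (st : ℕ → ℕ → ℕ) (cd : ℕ → ℕ) (e : α → ℕ) (hT : ∀ c < 8, ∀ a, ∃ b, st c (e a) = e b) (k : ℕ)
    {p r : ℕ} (a0 : α) (h : wk st cd k p (e a0) 0 0 = r) : r ≤ Nat.card α := by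
  obtain ⟨F, h1, h2⟩ := wk_sound st cd (Set.range e) (by
    rintro c hc _ ⟨a, rfl⟩
    obtain ⟨b, hb⟩ := hT c hc a
    exact ⟨b, hb.symm⟩) k (F := ∅) (B := 0) ⟨a0, rfl⟩ (by simp) (by simp) (by simp) h
  rw [← h1]
  have h3 : ∀ q ∈ F, ∃ a, cd (e a) = q := by
    intro q hq
    obtain ⟨_, ⟨a, rfl⟩, h4⟩ := h2 q hq
    exact ⟨a, h4⟩
  have : Nonempty α := ⟨a0⟩
  choose! g hg using h3
  have hinj : Function.Injective (fun q : F => g q) := by
    intro q q' h
    have h1 := hg q q.2
    have h2 := hg q' q'.2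
    apply Subtype.ext
    rw [← h1, ← h2]
    exact congrArg (fun a => cd (e a)) h
  have := Nat.card_le_card_of_injective _ hinj
  rwa [Nat.card_eq_fintype_card (α := F), Fintype.card_coe] at this

/-- code of a vector -/
noncomputable def cdv (X : ℕ) : ℕ :=
  Nat.add (Nat.mod (Nat.land X 1152921504606846975) 4091) (Nat.mul 3125 (Nat.mod (Nat.shiftRight X 60) 4091))

end Cfsg.Agent.Lib.LyCntE
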