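import Mathlib

/-!
Counting elements of prime order in an extension of a 5-group (helper23)
-/

set_option autoImplicit false
set_option linter.all false

namespace Cfsg.Agent.Lib.LyCntK1

open Subgroup
open scoped Pointwise

instance fact5 : Fact (Nat.Prime 5) := ⟨by norm_num⟩

variable {G : Type*} [Group G]

theorem step (S : Set G) (hf : Finite (closure S)) (hP : IsPGroup 5 (closure S)) (n : ℕ) (hn : Nat.card (closure S) ≤ 5 ^ n) (c : G)
    (hc : c ^ 5 = 1) (hS : ∀ s ∈ S, c * s * c⁻¹ ∈ closure S) :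
    Finite (closure (insert c S)) ∧ IsPGroup 5 (closure (insert c S)) ∧ Nat.card (closure (insert c S)) ≤ 5 ^ (n + 1) := by
  have h1 : closure (insert c S) = zpowers c ⊔ closure S := by
    rw [Set.insert_eq, Subgroup.closure_union, zpowers_eq_closure]
  have h2 : zpowers c ≤ normalizer (closure S : Set G) := by
    rw [zpowers_le]
    haveI : Finite ((closure S : Subgroup G) : Set G) := hf
    apply mem_normalizer_fintype
    intro x hx
    have h3 : closure S ≤ (closure S).comap (MulAut.conj c).toMonoidHom := by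
      rw [closure_le]
      intro s hs
      exact hS s hs
    exact h3 hx
  have h3 : IsPGroup 5 (zpowers c) := by
    rintro ⟨x, hx⟩
    refine ⟨1, ?_⟩
    obtain ⟨k, rfl⟩ := mem_zpowers_iff.1 hx
    apply Subtype.ext
    show (c ^ k) ^ (5 ^ 1) = 1
    rw [pow_one, ← zpow_natCast, ← zpow_mul, mul_comm, zpow_mul, zpow_natCast, hc, one_zpow]
  have h4 : ((zpowers c ⊔ closure S : Subgroup G) : Set G) = (zpowers c : Set G) * (closure S : Set G) :=
    coe_mul_of_left_le_normalizer_right _ _ h2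
  haveI hzf : Finite (zpowers c) := by
    have : ((zpowers c : Subgroup G) : Set G).Finite := by
      rw [finite_zpowers, isOfFinOrder_iff_pow_eq_one]
      exact ⟨5, by norm_num, hc⟩
    exact this
  have h5 : (((zpowers c : Set G) * (closure S : Set G))).Finite := Set.Finite.mul (Set.toFinite _) (Set.toFinite _)
  have hcz : Nat.card (zpowers c) ≤ 5 := by
    rw [Nat.card_zpowers]
    exact orderOf_le_of_pow_eq_one (by norm_num) hc
  have h6 : Nat.card (zpowers c ⊔ closure S : Subgroup G) ≤ 5 ^ (n + 1) := by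
    have e : Nat.card (zpowers c ⊔ closure S : Subgroup G) = (((zpowers c ⊔ closure S : Subgroup G) : Set G)).ncard := rfl
    rw [e, h4]
    refine (Set.natCard_mul_le (s := (zpowers c : Set G)) (t := (closure S : Set G))).trans ?_
    rw [pow_succ']
    exact Nat.mul_le_mul hcz hn
  rw [h1]
  refine ⟨?_, h3.to_sup_of_normal_right' hP h2, h6⟩
  have : (((zpowers c ⊔ closure S : Subgroup G) : Set G)).Finite := by rw [h4]; exact h5
  exact this

theorem conj_of_coset (Q : Subgroup G) [Finite Q] (hQ : IsPGroup 5 Q) {p : ℕ} (hp : p.Prime) (hp5 : p ≠ 5) {m g : G}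
    (hm : m ∈ normalizer (Q : Set G)) (hmp : m ^ p = 1) (hg : m⁻¹ * g ∈ Q) (hgp : g ^ p = 1) : ∃ r ∈ Q, g = r * m * r⁻¹ := by
  classical
  haveI : Fact p.Prime := ⟨hp⟩
  haveI : Fintype Q := Fintype.ofFinite Q
  have hgm : ∀ x ∈ Q, g * x * m⁻¹ ∈ Q := by
    intro x hx
    have h1 : g * x * m⁻¹ = m * ((m⁻¹ * g) * x) * m⁻¹ := by group
    rw [h1]
    exact (mem_normalizer_iff.1 hm _).1 (Q.mul_mem hg hx)
  have hgm' : ∀ x ∈ Q, g⁻¹ * x * m ∈ Q := by
    intro x hx
    have h1 : g⁻¹ * x * m = (m⁻¹ * g)⁻¹ * (m⁻¹ * x * m) := by group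
    rw [h1]
    refine Q.mul_mem (Q.inv_mem hg) ?_
    have h2 := (mem_normalizer_iff.1 hm (m⁻¹ * x * m)).2
    apply h2
    have : m * (m⁻¹ * x * m) * m⁻¹ = x := by group
    rw [this]; exact hx
  let σ : Equiv.Perm Q :=
    { toFun := fun x => ⟨g * x * m⁻¹, hgm x x.2⟩
      invFun := fun x => ⟨g⁻¹ * x * m, hgm' x x.2⟩
      left_inv := fun x => Subtype.ext (by show g⁻¹ * (g * x * m⁻¹) * m = x; group)
      right_inv := fun x => Subtype.ext (by show g * (g⁻¹ * x * m) * m⁻¹ = x; group) }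
  have hσ : ∀ (n : ℕ) (x : Q), (((σ ^ n) x : Q) : G) = g ^ n * x * (m ^ n)⁻¹ := by
    intro n
    induction n with
    | zero => intro x; simp
    | succ n ih =>
      intro x
      rw [pow_succ', Equiv.Perm.mul_apply]
      show g * ((σ ^ n) x : Q) * m⁻¹ = _
      rw [ih x, pow_succ' g, pow_succ m]
      group
  have h1 : σ ^ p ^ 1 = 1 := by
    rw [pow_one]
    ext x
    rw [hσ, hgp, hmp]
    simp
  have h2 : ¬ p ∣ Fintype.card Q := by
    intro h
    obtain ⟨n, hn⟩ := (IsPGroup.iff_card (p := 5)).1 hQ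
    rw [← Nat.card_eq_fintype_card, hn] at h
    have := hp.dvd_of_dvd_pow h
    exact hp5 ((Nat.prime_dvd_prime_iff_eq hp (by norm_num)).1 this)
  obtain ⟨a, ha⟩ := Equiv.Perm.exists_fixed_point_of_prime h2 h1
  refine ⟨a, a.2, ?_⟩
  have h3 : g * a * m⁻¹ = a := congrArg Subtype.val ha
  calc g = (g * a * m⁻¹) * m * (a : G)⁻¹ := by group
    _ = a * m * (a : G)⁻¹ := by rw [h3]

theorem coset_count (Q : Subgroup G) [Finite Q] (hQ : IsPGroup 5 Q) {p : ℕ} (hp : p.Prime) (hp5 : p ≠ 5) {m : G}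
    (hm : m ∈ normalizer (Q : Set G)) (hmp : m ^ p = 1) :
    Nat.card ↥(Q ⊓ centralizer ({m} : Set G)) * {g : G | m⁻¹ * g ∈ Q ∧ g ^ p = 1}.ncard ≤ Nat.card Q ∧
      {g : G | m⁻¹ * g ∈ Q ∧ g ^ p = 1}.Finite := by
  classical
  let _ : MulAction Q G :=
    { smul := fun r x => r * x * (r : G)⁻¹
      one_smul := fun x => by show ((1 : Q) : G) * x * ((1 : Q) : G)⁻¹ = x; simp
      mul_smul := fun a b x => by
        show ((a * b : Q) : G) * x * ((a * b : Q) : G)⁻¹ = a * (b * x * (b : G)⁻¹) * (a : G)⁻¹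
        rw [Subgroup.coe_mul]; group }
  have h1 : {g : G | m⁻¹ * g ∈ Q ∧ g ^ p = 1} ⊆ MulAction.orbit Q m := by
    rintro g ⟨h1, h2⟩
    obtain ⟨r, hr, h3⟩ := conj_of_coset Q hQ hp hp5 hm hmp h1 h2
    exact ⟨⟨r, hr⟩, h3.symm⟩
  have hfin : (MulAction.orbit Q m).Finite := Set.finite_range (fun r : Q => r • m)
  refine ⟨?_, hfin.subset h1⟩
  have h2 := MulAction.index_stabilizer Q m
  have h3 := (MulAction.stabilizer Q m).card_mul_index
  have h4 : Nat.card (MulAction.stabilizer Q m) = Nat.card ↥(Q ⊓ centralizer ({m} : Set G)) := by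
    apply Nat.card_congr
    refine ⟨fun a => ⟨a.1.1, a.1.2, ?_⟩, fun a => ⟨⟨a.1, a.2.1⟩, ?_⟩, fun a => rfl, fun a => rfl⟩
    · have h5 : ((a : Q) : G) * m * ((a : Q) : G)⁻¹ = m := a.2
      show ((a : Q) : G) ∈ centralizer ({m} : Set G)
      rw [mem_centralizer_singleton_iff]
      exact mul_inv_eq_iff_eq_mul.1 h5
    · show (a : G) * m * (a : G)⁻¹ = m
      rw [mul_inv_eq_iff_eq_mul]
      exact mem_centralizer_singleton_iff.1 a.2.2
  rw [h2, h4] at h3
  rw [← h3]
  exact Nat.mul_le_mul_left _ (Set.ncard_le_ncard h1 hfin)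

/-- rounding up the order of a 5-group -/
theorem round5 (C : Subgroup G) [Finite C] (hC : IsPGroup 5 C) {a : ℕ} (h : 5 ^ a < Nat.card C) : 5 ^ (a + 1) ≤ Nat.card C := by
  obtain ⟨n, hn⟩ := (IsPGroup.iff_card (p := 5)).1 hC
  rw [hn] at h ⊢
  have := (Nat.pow_lt_pow_iff_right (by norm_num : 1 < 5)).1 h
  exact Nat.pow_le_pow_right (by norm_num) this

/-- union bound -/
theorem list_bound {ι : Type*} (l : List ι) (I : ι → Set G) (b : ι → ℕ) (h : ∀ i ∈ l, (I i).Finite ∧ (I i).ncard ≤ b i) :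
    {g : G | ∃ i ∈ l, g ∈ I i}.Finite ∧ {g : G | ∃ i ∈ l, g ∈ I i}.ncard ≤ (l.map b).sum := by
  induction l with
  | nil =>
    have : {g : G | ∃ i ∈ ([] : List ι), g ∈ I i} = ∅ := by ext g; simp
    rw [this]; simp
  | cons i l ih =>
    obtain ⟨h1, h2⟩ := ih (fun j hj => h j (List.mem_cons_of_mem _ hj))
    obtain ⟨h3, h4⟩ := h i List.mem_cons_self
    have e : {g : G | ∃ j ∈ i :: l, g ∈ I j} = I i ∪ {g : G | ∃ j ∈ l, g ∈ I j} := by
      ext g
      simp
    rw [e]
    refine ⟨h3.union h1, (Set.ncard_union_le _ _).trans ?_⟩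
    rw [List.map_cons, List.sum_cons]
    exact Nat.add_le_add h4 h2

end Cfsg.Agent.Lib.LyCntK1
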