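import Cfsg.Agent.Lib.LyCntR
import Cfsg.Agent.Lib.M5G
import Cfsg.Agent.Lib.LyCntK1g
import Cfsg.Agent.Lib.LyCntK1d

/-!
Involutions and elements of order 3 in `K₁ = 5^{1+4} : 96` (helper23)
-/

set_option autoImplicit false
set_option linter.all false
set_option maxRecDepth 100000

namespace Cfsg.Agent.Lib.LyCntK1

open Cfsg.Agent.Lib.BenesWord Cfsg.Agent.Lib.M5 Cfsg.Agent.Lib.LyCntR Cfsg.Agent.Lib.BenesPerm
open Cfsg.Agent.Lib.LyP2 (X)
open Cfsg.Agent.Lib.LyPres Cfsg.Agent.Lib.LyG14P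
open Subgroup
open scoped Pointwise

/-! ### the checks -/

/-- generators of the complement -/
def WA (j : ℕ) : Wd := match j with
  | 0 => .g 0
  | 1 => .mul (.mul (.g 1) (.g 0)) (.inv (.g 1))
  | _ => .mul (.mul (.mul (.mul (.g 1) (.g 1)) (.g 0)) (.inv (.g 1))) (.inv (.g 1))

/-- membership of the packed number -/
noncomputable def memb (x : ℕ) (l : List (List ℕ × ℕ)) : Bool :=
  List.rec (motive := fun _ => Bool) false (fun P _ ih => cond (Nat.beq x P.2) true ih) l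

theorem memb_spec {x : ℕ} {l : List (List ℕ × ℕ)} (h : memb x l = true) : ∃ P ∈ l, x = P.2 := by
  induction l with
  | nil => exact absurd h (by simp [memb])
  | cons P l ih =>
    have h' : cond (Nat.beq x P.2) true (memb x l) = true := h
    cases h1 : Nat.beq x P.2 with
    | true => exact ⟨P, List.mem_cons_self, Nat.eq_of_beq_eq_true h1⟩
    | false =>
      rw [h1] at h'
      obtain ⟨P', h2, h3⟩ := ih h'
      exact ⟨P', List.mem_cons_of_mem _ h2, h3⟩

/-- row and pack check -/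
noncomputable def okP (mk mm id : ℕ) (P : List ℕ × ℕ) : Bool := cond (chkOne 7 P.1) (Nat.beq (mulR mk mm P.1 id) P.2) false

/-- letters at least `k`, at most 14 -/
def lb (k : ℕ) : Wd → Bool
  | .one => true
  | .g c => decide (k ≤ c) && decide (c ≤ 14)
  | .inv u => lb k u
  | .mul u v => lb k u && lb k v
  | .pow u _ => lb k u

/-- all -/
noncomputable def allL {α : Type} (l : List α) (f : α → Bool) : Bool :=
  List.rec (motive := fun _ => Bool) true (fun a _ ih => cond (f a) ih false) l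

theorem allL_spec {α : Type} {l : List α} {f : α → Bool} (h : allL l f = true) : ∀ a ∈ l, f a = true := by
  induction l with
  | nil => intro a ha; exact absurd ha (by simp)
  | cons b l ih =>
    have h' : cond (f b) (allL l f) false = true := h
    cases h1 : f b with
    | false => rw [h1] at h'; simp at h'
    | true =>
      rw [h1] at h'
      intro a ha
      rcases List.mem_cons.1 ha with rfl | ha
      · exact h1
      · exact ih h' a ha

/-- the checks for the complement -/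
noncomputable def chkM (mk mm id : ℕ) : Bool := cond (memb id LM) (allL LM fun P => cond (okP mk mm id P)
  (cond (allL [0, 1, 2] fun j => cond (memb (evW mk mm (GG L7) (GV L7) (WA j) false P.2) LM)
      (memb (evW mk mm (GG L7) (GV L7) (WA j) true P.2) LM) false)
    (cond (Nat.beq (itF (mulR mk mm P.1) 24 id) id)
      (cond (cond (Nat.beq (mulR mk mm P.1 P.2) id) (cond (Nat.beq P.2 id) true (memb P.2 (List.map Prod.fst T2))) true)
        (cond (Nat.beq (mulR mk mm P.1 (mulR mk mm P.1 P.2)) id) (cond (Nat.beq P.2 id) true (memb P.2 (List.map Prod.fst T3))) true) false) false) false) false) false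

/-- pairwise different values -/
noncomputable def nodW (mk mm id : ℕ) (l : List Wd) : Bool :=
  List.rec (motive := fun _ => Bool) true (fun W l ih => force (evW mk mm (GG L7) (GV L7) W false id) fun x =>
    cond (allL l fun V => cond (Nat.beq x (evW mk mm (GG L7) (GV L7) V false id)) false true) ih false) l

/-- the checks for the elements of prime order -/
noncomputable def chkT (mk mm id : ℕ) (T : List ((List ℕ × ℕ) × List Wd × ℕ)) : Bool := allL T fun t => cond (okP mk mm id t.1)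
  (cond (Nat.ble (Nat.succ (Nat.pow 5 t.2.2)) t.2.1.length)
    (cond (allL t.2.1 fun W => cond (lb 10 W) (Nat.beq (evW mk mm (GG L7) (GV L7) W false t.1.2)
        (mulR mk mm t.1.1 (evW mk mm (GG L7) (GV L7) W false id))) false)
      (nodW mk mm id t.2.1) false) false) false

/-- the relations of the 5-group -/
noncomputable def chkC (mk mm id : ℕ) : Bool := allL [0, 1, 2, 3, 4] fun i => cond (relM mk mm id (GG L7) (GV L7) (.pow (.g (10 + i)) 5))
  (allL [0, 1, 2, 3, 4] fun j => cond (Nat.ble (Nat.succ i) j) (cond (lb (11 + i) (NC i j))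
    (relM mk mm id (GG L7) (GV L7) (.mul (.mul (.mul (.g (10 + i)) (.g (10 + j))) (.inv (.g (10 + i)))) (.inv (NC i j)))) false) true) false

/-- normality -/
noncomputable def chkA (mk mm id : ℕ) : Bool := allL [0, 1, 2] fun a => allL [0, 1, 2, 3, 4] fun i => cond (lb 10 (NA a i))
  (relM mk mm id (GG L7) (GV L7) (.mul (.mul (.mul (WA a) (.g (10 + i))) (.inv (WA a))) (.inv (NA a i)))) false

/-- run a check -/
noncomputable def run (f : ℕ → ℕ → ℕ → Bool) : Bool := force (mkc0 7 7) fun mk => force (mm0 49) fun mm => force (id0 7) fun id => f mk mm id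

theorem run_spec {f : ℕ → ℕ → ℕ → Bool} (h : run f = true) : f (mkc 7 7) (m15 (7 * 7)) (idX 7) = true := by
  unfold run at h
  rw [force_eq, force_eq, force_eq, mkc0_eq (by norm_num), mm0_eq, id0_eq] at h
  exact h

theorem cM : run chkM = true := by decide +kernel
theorem cT2 : run (fun mk mm id => chkT mk mm id T2) = true := by decide +kernel
theorem cT3 : run (fun mk mm id => chkT mk mm id T3) = true := by decide +kernel
theorem cC : run chkC = true := by decide +kernel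
theorem cA : run chkA = true := by decide +kernel

/-! ### the representation -/

theorem rep_eval (W : Wd) (hW : Cfsg.Agent.Lib.CoxBridge.lets 15 W = true) (b : Bool) {x : ℕ} {M : Matrix (Fin 7) (Fin 7) (ZMod 5)}
    (hx : Rep 7 7 x M) : Rep 7 7 (evW (mkc 7 7) (m15 (7 * 7)) (GG L7) (GV L7) W b x)
      (M * ((if b then (W.eval u7)⁻¹ else W.eval u7 : U7) : Matrix (Fin 7) (Fin 7) (ZMod 5))) :=
  evW_rep (by norm_num) (by norm_num) (fun c hc => u7_rep hc) (fun c hc => u7_inv hc) W hW b hx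

theorem rel_of (W : Wd) (hW : Cfsg.Agent.Lib.CoxBridge.lets 15 W = true)
    (h : relM (mkc 7 7) (m15 (7 * 7)) (idX 7) (GG L7) (GV L7) W = true) : W.eval u7 = 1 :=
  relM_sound (by norm_num) (by norm_num) (fun c hc => u7_rep hc) (fun c hc => u7_inv hc) W hW h

theorem lets_of_lb {k : ℕ} {W : Wd} (h : lb k W = true) : Cfsg.Agent.Lib.CoxBridge.lets 15 W = true := by
  induction W with
  | one => rfl
  | g c =>
    simp only [lb, Bool.and_eq_true, decide_eq_true_eq] at h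
    simp only [Cfsg.Agent.Lib.CoxBridge.lets, decide_eq_true_eq]
    omega
  | inv u ih => exact ih h
  | mul u v ihu ihv =>
    simp only [lb, Bool.and_eq_true] at h
    simp only [Cfsg.Agent.Lib.CoxBridge.lets, Bool.and_eq_true]
    exact ⟨ihu h.1, ihv h.2⟩
  | pow u n ih => exact ih h

theorem eval_lb {k : ℕ} {W : Wd} (h : lb k W = true) (N : Subgroup U7) (hN : ∀ c, k ≤ c → c ≤ 14 → u7 c ∈ N) : W.eval u7 ∈ N := by
  induction W with
  | one => exact N.one_mem
  | g c =>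
    simp only [lb, Bool.and_eq_true, decide_eq_true_eq] at h
    exact hN c h.1 h.2
  | inv u ih => exact N.inv_mem (ih h)
  | mul u v ihu ihv =>
    simp only [lb, Bool.and_eq_true] at h
    exact N.mul_mem (ihu h.1) (ihv h.2)
  | pow u n ih => exact N.pow_mem (ih h) n

theorem and_spec {a b : Bool} (h : cond a b false = true) : a = true ∧ b = true := by
  cases a
  · simp at h
  · exact ⟨rfl, h⟩

/-! ### the 5-group -/

/-- the letters from `k` on -/
def Sk (k : ℕ) : Set U7 := {x | ∃ c, k ≤ c ∧ c ≤ 14 ∧ x = u7 c}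

theorem Sk_succ {k : ℕ} (hk : k ≤ 14) : Sk k = insert (u7 k) (Sk (k + 1)) := by
  ext x
  constructor
  · rintro ⟨c, h1, h2, rfl⟩
    by_cases h : c = k
    · subst h; exact Set.mem_insert _ _
    · exact Set.mem_insert_of_mem _ ⟨c, by omega, h2, rfl⟩
  · rintro (rfl | ⟨c, h1, h2, rfl⟩)
    · exact ⟨k, le_refl _, hk, rfl⟩
    · exact ⟨c, by omega, h2, rfl⟩

theorem relC (i : ℕ) (hi : i < 5) : u7 (10 + i) ^ 5 = 1 ∧ ∀ j, i < j → j < 5 →
    u7 (10 + i) * u7 (10 + j) * (u7 (10 + i))⁻¹ ∈ Subgroup.closure (Sk (11 + i)) := by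
  have h := allL_spec (run_spec cC) i (by interval_cases i <;> simp)
  obtain ⟨h1, h2⟩ := and_spec h
  refine ⟨rel_of (.pow (.g (10 + i)) 5) (by simp only [Cfsg.Agent.Lib.CoxBridge.lets, decide_eq_true_eq]; omega) h1, ?_⟩
  intro j hij hj
  have h3 := allL_spec h2 j (by interval_cases j <;> simp)
  have h4 : Nat.ble (Nat.succ i) j = true := Nat.ble_eq_true_of_le hij
  rw [h4] at h3
  obtain ⟨h5, h6⟩ := and_spec (show cond (lb (11 + i) (NC i j)) _ false = true from h3)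
  have h7 := rel_of _ (by
    simp only [Cfsg.Agent.Lib.CoxBridge.lets, Bool.and_eq_true, decide_eq_true_eq]
    exact ⟨⟨⟨by omega, by omega⟩, by omega⟩, lets_of_lb h5⟩) h6
  have h8 : u7 (10 + i) * u7 (10 + j) * (u7 (10 + i))⁻¹ = (NC i j).eval u7 := mul_inv_eq_one.1 h7
  rw [h8]
  exact eval_lb h5 _ (fun c h1 h2 => Subgroup.subset_closure ⟨c, h1, h2, rfl⟩)

/-- the 5-group -/
def Q : Subgroup U7 := Subgroup.closure (Sk 10)

theorem chain (n : ℕ) (hn : n ≤ 5) : Finite (Subgroup.closure (Sk (15 - n))) ∧ IsPGroup 5 (Subgroup.closure (Sk (15 - n))) ∧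
    Nat.card (Subgroup.closure (Sk (15 - n))) ≤ 5 ^ n := by
  induction n with
  | zero =>
    have h : Sk (15 - 0) = ∅ := by
      ext x
      constructor
      · rintro ⟨c, h1, h2, rfl⟩; omega
      · intro h; exact absurd h (Set.notMem_empty _)
    rw [h, Subgroup.closure_empty]
    refine ⟨inferInstance, IsPGroup.of_bot, ?_⟩
    simp
  | succ n ih =>
    obtain ⟨h1, h2, h3⟩ := ih (by omega)
    have e : Sk (15 - (n + 1)) = insert (u7 (15 - (n + 1))) (Sk (15 - n)) := by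
      rw [Sk_succ (k := 15 - (n + 1)) (by omega)]
      congr 2
      omega
    obtain ⟨h4, h5⟩ := relC (4 - n) (by omega)
    have e1 : 10 + (4 - n) = 15 - (n + 1) := by omega
    have e2 : 11 + (4 - n) = 15 - n := by omega
    rw [e1] at h4
    rw [e]
    apply step _ h1 h2 n h3 _ h4
    rintro s ⟨c, h6, h7, rfl⟩
    have h8 := h5 (c - 10) (by omega) (by omega)
    rw [e1, e2, show 10 + (c - 10) = c by omega] at h8
    exact h8

instance finQ : Finite Q := (chain 5 (le_refl _)).1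

theorem pgQ : IsPGroup 5 Q := (chain 5 (le_refl _)).2.1

theorem cardQ : Nat.card Q ≤ 3125 := (chain 5 (le_refl _)).2.2

/-! ### the complement -/

/-- the complement -/
def MM : Subgroup U7 := Subgroup.closure {x | ∃ j < 3, x = (WA j).eval u7}

theorem letsA (j : ℕ) (hj : j < 3) : Cfsg.Agent.Lib.CoxBridge.lets 15 (WA j) = true := by
  interval_cases j <;> decide

theorem MM_le : MM ≤ normalizer (Q : Set U7) := by
  unfold MM
  rw [closure_le]
  rintro _ ⟨j, hj, rfl⟩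
  haveI : Finite ((Q : Subgroup U7) : Set U7) := finQ
  apply mem_normalizer_fintype
  intro x hx
  have h3 : Q ≤ Q.comap (MulAut.conj ((WA j).eval u7)).toMonoidHom := by
    unfold Q
    rw [closure_le]
    rintro _ ⟨c, h1, h2, rfl⟩
    have h := allL_spec (allL_spec (run_spec cA) j (by interval_cases j <;> simp)) (c - 10) (by
      have : c - 10 < 5 := by omega
      interval_cases (c - 10) <;> simp)
    obtain ⟨h5, h6⟩ := and_spec h
    have h7 := rel_of _ (by
      simp only [Cfsg.Agent.Lib.CoxBridge.lets, Bool.and_eq_true, decide_eq_true_eq]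
      exact ⟨⟨⟨letsA j hj, by omega⟩, letsA j hj⟩, lets_of_lb h5⟩) h6
    have h8 : (WA j).eval u7 * u7 (10 + (c - 10)) * ((WA j).eval u7)⁻¹ = (NA j (c - 10)).eval u7 := mul_inv_eq_one.1 h7
    rw [show 10 + (c - 10) = c by omega] at h8
    show (WA j).eval u7 * u7 c * ((WA j).eval u7)⁻¹ ∈ Subgroup.closure (Sk 10)
    rw [h8]
    exact eval_lb h5 _ (fun c h1 h2 => Subgroup.subset_closure ⟨c, h1, h2, rfl⟩)
  exact h3 hx

theorem ok_spec {P : List ℕ × ℕ} (h : okP (mkc 7 7) (m15 (7 * 7)) (idX 7) P = true) :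
    RepR 7 P.1 (matR 7 P.1) ∧ Rep 7 7 P.2 (matR 7 P.1) := by
  obtain ⟨h1, h2⟩ := and_spec h
  have h3 := repR_of h1
  have h4 := mulR_rep (by norm_num) (by norm_num) (idX_rep 7) h3
  rw [Nat.eq_of_beq_eq_true h2, Matrix.one_mul] at h4
  exact ⟨h3, h4⟩

theorem cM_spec : memb (idX 7) LM = true ∧ ∀ P ∈ LM, (RepR 7 P.1 (matR 7 P.1) ∧ Rep 7 7 P.2 (matR 7 P.1)) ∧
    (∀ j < 3, memb (evW (mkc 7 7) (m15 (7 * 7)) (GG L7) (GV L7) (WA j) false P.2) LM = true ∧
      memb (evW (mkc 7 7) (m15 (7 * 7)) (GG L7) (GV L7) (WA j) true P.2) LM = true) ∧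
    itF (mulR (mkc 7 7) (m15 (7 * 7)) P.1) 24 (idX 7) = idX 7 ∧
    (mulR (mkc 7 7) (m15 (7 * 7)) P.1 P.2 = idX 7 → P.2 = idX 7 ∨ memb P.2 (List.map Prod.fst T2) = true) ∧
    (mulR (mkc 7 7) (m15 (7 * 7)) P.1 (mulR (mkc 7 7) (m15 (7 * 7)) P.1 P.2) = idX 7 → P.2 = idX 7 ∨
      memb P.2 (List.map Prod.fst T3) = true) := by
  obtain ⟨h0, h⟩ := and_spec (run_spec cM)
  refine ⟨h0, fun P hP => ?_⟩
  obtain ⟨h1, h2⟩ := and_spec (allL_spec h P hP)
  obtain ⟨h3, h4⟩ := and_spec h2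
  obtain ⟨h5, h6⟩ := and_spec h4
  obtain ⟨h7, h8⟩ := and_spec h6
  refine ⟨ok_spec h1, fun j hj => ?_, Nat.eq_of_beq_eq_true h5, fun h9 => ?_, fun h9 => ?_⟩
  · exact and_spec (allL_spec h3 j (by interval_cases j <;> simp))
  · have h10 : Nat.beq (mulR (mkc 7 7) (m15 (7 * 7)) P.1 P.2) (idX 7) = true := by rw [h9]; exact Nat.beq_refl _
    rw [h10] at h7
    cases h11 : Nat.beq P.2 (idX 7) with
    | true => exact Or.inl (Nat.eq_of_beq_eq_true h11)
    | false => rw [h11] at h7; exact Or.inr h7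
  · have h10 : Nat.beq (mulR (mkc 7 7) (m15 (7 * 7)) P.1 (mulR (mkc 7 7) (m15 (7 * 7)) P.1 P.2)) (idX 7) = true := by
      rw [h9]; exact Nat.beq_refl _
    rw [h10] at h8
    cases h11 : Nat.beq P.2 (idX 7) with
    | true => exact Or.inl (Nat.eq_of_beq_eq_true h11)
    | false => rw [h11] at h8; exact Or.inr h8

theorem MM_list {g : U7} (hg : g ∈ MM) : ∃ P ∈ LM, Rep 7 7 P.2 (g : Matrix (Fin 7) (Fin 7) (ZMod 5)) := by
  induction hg using closure_induction_right with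
  | one =>
    obtain ⟨P, h1, h2⟩ := memb_spec cM_spec.1
    refine ⟨P, h1, ?_⟩
    rw [← h2]
    exact idX_rep 7
  | mul_right x hx y hy ih =>
    obtain ⟨P, h1, h2⟩ := ih
    obtain ⟨j, hj, rfl⟩ := hy
    obtain ⟨P', h3, h4⟩ := memb_spec ((cM_spec.2 P h1).2.1 j hj).1
    refine ⟨P', h3, ?_⟩
    rw [← h4]
    exact rep_eval (WA j) (letsA j hj) false h2
  | mul_inv_cancel x hx y hy ih =>
    obtain ⟨P, h1, h2⟩ := ih
    obtain ⟨j, hj, rfl⟩ := hy
    obtain ⟨P', h3, h4⟩ := memb_spec ((cM_spec.2 P h1).2.1 j hj).2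
    refine ⟨P', h3, ?_⟩
    rw [← h4]
    exact rep_eval (WA j) (letsA j hj) true h2

theorem MM_data {g : U7} (hg : g ∈ MM) : ∃ P ∈ LM, (g : Matrix (Fin 7) (Fin 7) (ZMod 5)) = matR 7 P.1 := by
  obtain ⟨P, h1, h2⟩ := MM_list hg
  exact ⟨P, h1, h2.ext ((cM_spec.2 P h1).1).2⟩

theorem iter_rep {R : List ℕ} {N : Matrix (Fin 7) (Fin 7) (ZMod 5)} (hR : RepR 7 R N) (k : ℕ) :
    Rep 7 7 (itF (mulR (mkc 7 7) (m15 (7 * 7)) R) k (idX 7)) (N ^ k) := by
  rw [itF_eq]
  induction k with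
  | zero => rw [pow_zero]; exact idX_rep 7
  | succ k ih =>
    rw [Function.iterate_succ_apply', pow_succ]
    exact mulR_rep (by norm_num) (by norm_num) ih hR

theorem pow24 {g : U7} (hg : g ∈ MM) : g ^ 24 = 1 := by
  obtain ⟨P, h1, h2⟩ := MM_data hg
  obtain ⟨⟨h3, h4⟩, -, h5, -⟩ := cM_spec.2 P h1
  have h6 := iter_rep h3 24
  rw [h5, ← h2] at h6
  have h7 := h6.ext (idX_rep 7)
  apply Units.ext
  rw [Units.val_pow_eq_pow_val, h7, Units.val_one]

theorem disj {g : U7} (h1 : g ∈ MM) (h2 : g ∈ Q) : g = 1 := by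
  obtain ⟨k, hk⟩ := pgQ ⟨g, h2⟩
  have h3 : g ^ 5 ^ k = 1 := congrArg Subtype.val hk
  have h4 := Nat.dvd_gcd (orderOf_dvd_of_pow_eq_one h3) (orderOf_dvd_of_pow_eq_one (pow24 h1))
  have h5 : Nat.gcd (5 ^ k) 24 = 1 := Nat.Coprime.pow_left k (by norm_num)
  rw [h5, Nat.dvd_one, orderOf_eq_one_iff] at h4
  exact h4

theorem case2 {g : U7} (hg : g ∈ MM) (h : g ^ 2 = 1) (h1 : g ≠ 1) : ∃ t ∈ T2, (g : Matrix (Fin 7) (Fin 7) (ZMod 5)) = matR 7 t.1.1 := by
  obtain ⟨P, h2, h3⟩ := MM_data hg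
  obtain ⟨⟨h4, h5⟩, -, -, h6, -⟩ := cM_spec.2 P h2
  have h7 := mulR_rep (by norm_num) (by norm_num) h5 h4
  rw [← h3, ← Units.val_mul, show g * g = 1 by rw [← pow_two]; exact h, Units.val_one] at h7
  rcases h6 (h7.ext' (idX_rep 7)) with h8 | h8
  · exfalso
    apply h1
    rw [h8, ← h3] at h5
    exact Units.ext (h5.ext (idX_rep 7))
  · obtain ⟨P', h9, h10⟩ := memb_spec h8
    obtain ⟨t, h11, rfl⟩ := List.mem_map.1 h9
    refine ⟨t, h11, ?_⟩
    have h12 := (ok_spec (and_spec (allL_spec (run_spec cT2) t h11)).1).2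
    rw [← h10, ] at h12
    rw [h3]
    exact h5.ext h12

theorem case3 {g : U7} (hg : g ∈ MM) (h : g ^ 3 = 1) (h1 : g ≠ 1) : ∃ t ∈ T3, (g : Matrix (Fin 7) (Fin 7) (ZMod 5)) = matR 7 t.1.1 := by
  obtain ⟨P, h2, h3⟩ := MM_data hg
  obtain ⟨⟨h4, h5⟩, -, -, -, h6⟩ := cM_spec.2 P h2
  have h7 := mulR_rep (by norm_num) (by norm_num) (mulR_rep (by norm_num) (by norm_num) h5 h4) h4
  rw [← h3, ← Units.val_mul, ← Units.val_mul, show g * g * g = g ^ 3 by rw [pow_succ, pow_two], h, Units.val_one] at h7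
  rcases h6 (h7.ext' (idX_rep 7)) with h8 | h8
  · exfalso
    apply h1
    rw [h8, ← h3] at h5
    exact Units.ext (h5.ext (idX_rep 7))
  · obtain ⟨P', h9, h10⟩ := memb_spec h8
    obtain ⟨t, h11, rfl⟩ := List.mem_map.1 h9
    refine ⟨t, h11, ?_⟩
    have h12 := (ok_spec (and_spec (allL_spec (run_spec cT3) t h11)).1).2
    rw [← h10, ] at h12
    rw [h3]
    exact h5.ext h12

theorem nod_spec {l : List Wd} (hl : ∀ W ∈ l, lb 10 W = true) (h : nodW (mkc 7 7) (m15 (7 * 7)) (idX 7) l = true) :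
    (l.map (fun W => W.eval u7)).Nodup := by
  induction l with
  | nil => exact List.nodup_nil
  | cons W l ih =>
    have h' : (force (evW (mkc 7 7) (m15 (7 * 7)) (GG L7) (GV L7) W false (idX 7)) fun x =>
      cond (allL l fun V => cond (Nat.beq x (evW (mkc 7 7) (m15 (7 * 7)) (GG L7) (GV L7) V false (idX 7))) false true)
        (nodW (mkc 7 7) (m15 (7 * 7)) (idX 7) l) false) = true := h
    rw [force_eq] at h'
    obtain ⟨h1, h2⟩ := and_spec h'
    rw [List.map_cons, List.nodup_cons]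
    refine ⟨?_, ih (fun V hV => hl V (List.mem_cons_of_mem _ hV)) h2⟩
    intro h3
    obtain ⟨V, hV, h4⟩ := List.mem_map.1 h3
    have h5 := allL_spec h1 V hV
    have e1 := rep_eval W (lets_of_lb (hl W List.mem_cons_self)) false (idX_rep 7)
    have e2 := rep_eval V (lets_of_lb (hl V (List.mem_cons_of_mem _ hV))) false (idX_rep 7)
    simp only [Bool.false_eq_true, if_false] at e1 e2
    have h4' : V.eval u7 = W.eval u7 := h4
    rw [h4'] at e2
    have h6 := e1.ext' e2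
    rw [h6] at h5
    have h7 : ∀ n : ℕ, Nat.beq n n = true := Nat.beq_refl
    rw [h7] at h5
    exact Bool.noConfusion h5

theorem cent_big {T : List ((List ℕ × ℕ) × List Wd × ℕ)} (hT : run (fun mk mm id => chkT mk mm id T) = true)
    {t : (List ℕ × ℕ) × List Wd × ℕ} (ht : t ∈ T) {g : U7} (hg : (g : Matrix (Fin 7) (Fin 7) (ZMod 5)) = matR 7 t.1.1) :
    5 ^ (t.2.2 + 1) ≤ Nat.card ↥(Q ⊓ centralizer ({g} : Set U7)) := by
  classical
  obtain ⟨h1, h2⟩ := and_spec (allL_spec (run_spec hT) t ht)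
  obtain ⟨h3, h4⟩ := and_spec h2
  obtain ⟨h5, h6⟩ := and_spec h4
  have h7 : ∀ W ∈ t.2.1, lb 10 W = true := fun W hW => (and_spec (allL_spec h5 W hW)).1
  have h8 := nod_spec h7 h6
  haveI : Finite ↥(Q ⊓ centralizer ({g} : Set U7)) := Finite.of_injective _ (inclusion_injective (inf_le_left : Q ⊓ centralizer ({g} : Set U7) ≤ Q))
  have hP : IsPGroup 5 ↥(Q ⊓ centralizer ({g} : Set U7)) := pgQ.to_le inf_le_left
  apply round5 _ hP
  have h9 : (t.2.1.map (fun W => W.eval u7)).toFinset.card ≤ Nat.card ↥(Q ⊓ centralizer ({g} : Set U7)) := by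
    have e : Nat.card ↥(Q ⊓ centralizer ({g} : Set U7)) = ((Q ⊓ centralizer ({g} : Set U7) : Subgroup U7) : Set U7).ncard := rfl
    rw [e, ← Set.ncard_coe_finset]
    apply Set.ncard_le_ncard
    · intro x hx
      have hx' : x ∈ (t.2.1.map (fun W => W.eval u7)) := by simpa using hx
      obtain ⟨W, hW, rfl⟩ := List.mem_map.1 hx'
      refine ⟨eval_lb (h7 W hW) _ (fun c h1 h2 => Subgroup.subset_closure ⟨c, h1, h2, rfl⟩), ?_⟩
      show W.eval u7 ∈ centralizer ({g} : Set U7)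
      rw [mem_centralizer_singleton_iff]
      have h10 := Nat.eq_of_beq_eq_true (and_spec (allL_spec h5 W hW)).2
      have e1 := rep_eval W (lets_of_lb (h7 W hW)) false (ok_spec h1).2
      have e2 := rep_eval W (lets_of_lb (h7 W hW)) false (idX_rep 7)
      simp only [Bool.false_eq_true, if_false] at e1 e2
      rw [Matrix.one_mul] at e2
      have e3 := mulR_rep (by norm_num) (by norm_num) e2 (ok_spec h1).1
      rw [← h10] at e3
      have e4 := e3.ext e1
      rw [← hg, ← Units.val_mul, ← Units.val_mul] at e4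
      exact Units.ext e4
    · exact Set.toFinite _
  rw [List.toFinset_card_of_nodup h8, List.length_map] at h9
  have h10 : 5 ^ t.2.2 < t.2.1.length := Nat.le_of_ble_eq_true h3
  omega


theorem pow_coset {m q : U7} (hm : m ∈ normalizer (Q : Set U7)) (hq : q ∈ Q) (n : ℕ) : ∃ r ∈ Q, (m * q) ^ n = m ^ n * r := by
  induction n with
  | zero => exact ⟨1, Q.one_mem, by simp⟩
  | succ n ih =>
    obtain ⟨r, hr, h⟩ := ih
    refine ⟨(m⁻¹ * r * m) * q, Q.mul_mem ?_ hq, ?_⟩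
    · apply (mem_normalizer_iff.1 hm (m⁻¹ * r * m)).2
      have : m * (m⁻¹ * r * m) * m⁻¹ = r := by group
      rw [this]; exact hr
    · rw [pow_succ, h, pow_succ]
      group

/-- the elements of prime order -/
theorem count {T : List ((List ℕ × ℕ) × List Wd × ℕ)} (hT : run (fun mk mm id => chkT mk mm id T) = true) {p : ℕ} (hp : p.Prime) (hp5 : p ≠ 5)
    (hcase : ∀ {g : U7}, g ∈ MM → g ^ p = 1 → g ≠ 1 → ∃ t ∈ T, (g : Matrix (Fin 7) (Fin 7) (ZMod 5)) = matR 7 t.1.1) :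
    {x : U7 | x ∈ MM ⊔ Q ∧ x ^ p = 1 ∧ x ≠ 1}.Finite ∧
      {x : U7 | x ∈ MM ⊔ Q ∧ x ^ p = 1 ∧ x ≠ 1}.ncard ≤ (T.map (fun t => 3125 / 5 ^ (t.2.2 + 1))).sum := by
  have h1 := list_bound T (fun t => {x : U7 | ∃ m ∈ MM, (m : Matrix (Fin 7) (Fin 7) (ZMod 5)) = matR 7 t.1.1 ∧ m ^ p = 1 ∧ m⁻¹ * x ∈ Q ∧ x ^ p = 1})
    (fun t => 3125 / 5 ^ (t.2.2 + 1)) (by
      intro t ht
      by_cases h : ∃ m ∈ MM, (m : Matrix (Fin 7) (Fin 7) (ZMod 5)) = matR 7 t.1.1 ∧ m ^ p = 1
      · obtain ⟨m, hm, h2, h3⟩ := h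
        have e : {x : U7 | ∃ m ∈ MM, (m : Matrix (Fin 7) (Fin 7) (ZMod 5)) = matR 7 t.1.1 ∧ m ^ p = 1 ∧ m⁻¹ * x ∈ Q ∧ x ^ p = 1} =
            {x : U7 | m⁻¹ * x ∈ Q ∧ x ^ p = 1} := by
          ext x
          constructor
          · rintro ⟨m', -, h4, -, h5, h6⟩
            have : m' = m := Units.ext (h4.trans h2.symm)
            subst this
            exact ⟨h5, h6⟩
          · rintro ⟨h5, h6⟩
            exact ⟨m, hm, h2, h3, h5, h6⟩
        obtain ⟨h4, h5⟩ := coset_count Q pgQ hp hp5 (MM_le hm) h3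
        have e' := e
        simp only [e]
        refine ⟨h5, ?_⟩
        rw [Nat.le_div_iff_mul_le (by positivity), mul_comm]
        exact (Nat.mul_le_mul_right _ (cent_big hT ht h2)).trans (h4.trans cardQ)
      · have e : {x : U7 | ∃ m ∈ MM, (m : Matrix (Fin 7) (Fin 7) (ZMod 5)) = matR 7 t.1.1 ∧ m ^ p = 1 ∧ m⁻¹ * x ∈ Q ∧ x ^ p = 1} = ∅ := by
          rw [Set.eq_empty_iff_forall_notMem]
          rintro x ⟨m, hm, h2, h3, -, -⟩
          exact h ⟨m, hm, h2, h3⟩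
        simp only [e]
        simp)
  have h2 : {x : U7 | x ∈ MM ⊔ Q ∧ x ^ p = 1 ∧ x ≠ 1} ⊆ {x : U7 | ∃ t ∈ T, x ∈ {x : U7 | ∃ m ∈ MM,
      (m : Matrix (Fin 7) (Fin 7) (ZMod 5)) = matR 7 t.1.1 ∧ m ^ p = 1 ∧ m⁻¹ * x ∈ Q ∧ x ^ p = 1}} := by
    rintro x ⟨hx, hxp, hx1⟩
    have h3 : x ∈ ((MM ⊔ Q : Subgroup U7) : Set U7) := hx
    rw [coe_mul_of_left_le_normalizer_right _ _ MM_le] at h3
    obtain ⟨m, hm, q, hq, rfl⟩ := Set.mem_mul.1 h3
    have hmM : m ∈ MM := hm
    have hqQ : q ∈ Q := hq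
    obtain ⟨r, hr, h4⟩ := pow_coset (MM_le hmM) hqQ p
    rw [hxp] at h4
    have h5 : m ^ p = 1 := by
      apply disj (MM.pow_mem hmM p)
      rw [eq_inv_of_mul_eq_one_left h4.symm]
      exact Q.inv_mem hr
    have h6 : m ≠ 1 := by
      rintro rfl
      apply hx1
      rw [one_mul] at hxp ⊢
      obtain ⟨k, hk⟩ := pgQ ⟨q, hqQ⟩
      have h7 : q ^ 5 ^ k = 1 := congrArg Subtype.val hk
      have h8 := Nat.dvd_gcd (orderOf_dvd_of_pow_eq_one h7) (orderOf_dvd_of_pow_eq_one hxp)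
      have h9 : Nat.gcd (5 ^ k) p = 1 := Nat.Coprime.pow_left k ((Nat.coprime_primes (by norm_num) hp).2 (fun h => hp5 h.symm))
      rw [h9, Nat.dvd_one, orderOf_eq_one_iff] at h8
      exact h8
    obtain ⟨t, ht, h7⟩ := hcase hmM h5 h6
    exact ⟨t, ht, m, hmM, h7, h5, by rw [inv_mul_cancel_left]; exact hqQ, hxp⟩
  exact ⟨h1.1.subset h2, (Set.ncard_le_ncard h2 h1.1).trans h1.2⟩

/-- the group `K₁` -/
def LL : Subgroup P44 := Subgroup.closure ({X 10, X 11, X 12, X 13, X 14, X 0, X 1 * X 0 * (X 1)⁻¹,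
  X 1 * X 1 * X 0 * (X 1)⁻¹ * (X 1)⁻¹} : Set P44)

theorem LL_le : LL ≤ (MM ⊔ Q).comap R7 := by
  have hc : ∀ c, 10 ≤ c → c ≤ 14 → R7 (X c) ∈ MM ⊔ Q := by
    intro c h1 h2
    rw [R7_spec]
    exact (le_sup_right : Q ≤ MM ⊔ Q) (Subgroup.subset_closure ⟨c, h1, h2, rfl⟩)
  have hw : ∀ j < 3, (WA j).eval u7 ∈ MM ⊔ Q := fun j hj => (le_sup_left : MM ≤ MM ⊔ Q) (Subgroup.subset_closure ⟨j, hj, rfl⟩)
  unfold LL
  rw [closure_le]
  rintro g (rfl | rfl | rfl | rfl | rfl | rfl | rfl | rfl)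
  · exact hc 10 (by norm_num) (by norm_num)
  · exact hc 11 (by norm_num) (by norm_num)
  · exact hc 12 (by norm_num) (by norm_num)
  · exact hc 13 (by norm_num) (by norm_num)
  · exact hc 14 (by norm_num) (by norm_num)
  · have h := hw 0 (by norm_num)
    show R7 (X 0) ∈ MM ⊔ Q
    rw [R7_spec]; exact h
  · have h := hw 1 (by norm_num)
    show R7 (X 1 * X 0 * (X 1)⁻¹) ∈ MM ⊔ Q
    rw [map_mul, map_mul, map_inv, R7_spec, R7_spec]; exact h
  · have h := hw 2 (by norm_num)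
    show R7 (X 1 * X 1 * X 0 * (X 1)⁻¹ * (X 1)⁻¹) ∈ MM ⊔ Q
    rw [map_mul, map_mul, map_mul, map_mul, map_inv, R7_spec, R7_spec]; exact h

theorem transfer (p : ℕ) (A : Set P44) (hA : ∀ g ∈ A, g ∈ LL ∧ g ^ p = 1 ∧ g ≠ 1)
    (hf : {x : U7 | x ∈ MM ⊔ Q ∧ x ^ p = 1 ∧ x ≠ 1}.Finite) : A.ncard ≤ {x : U7 | x ∈ MM ⊔ Q ∧ x ^ p = 1 ∧ x ≠ 1}.ncard := by
  rw [← Set.ncard_image_of_injective A R7_inj]
  apply Set.ncard_le_ncard _ hf
  rintro _ ⟨g, hg, rfl⟩
  obtain ⟨h1, h2, h3⟩ := hA g hg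
  refine ⟨LL_le h1, ?_, ?_⟩
  · rw [← map_pow, h2, map_one]
  · intro h
    apply h3
    apply R7_inj
    rw [h, map_one]

/-- the involutions of `K₁` -/
theorem count2 : Set.ncard {g : P44 | g ∈ LL ∧ g * g = 1 ∧ g ≠ 1} ≤ 1375 := by
  obtain ⟨h1, h2⟩ := count cT2 (p := 2) (by norm_num) (by norm_num) (fun h1 h2 h3 => case2 h1 h2 h3)
  have h3 : (T2.map (fun t => 3125 / 5 ^ (t.2.2 + 1))).sum = 1375 := by decide +kernel
  rw [h3] at h2
  exact (transfer 2 _ (fun g hg => ⟨hg.1, by rw [pow_two]; exact hg.2.1, hg.2.2⟩) h1).trans h2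

/-- the elements of order 3 of `K₁` -/
theorem count3 : Set.ncard {g : P44 | g ∈ LL ∧ orderOf g = 3} ≤ 200 := by
  obtain ⟨h1, h2⟩ := count cT3 (p := 3) (by norm_num) (by norm_num) (fun h1 h2 h3 => case3 h1 h2 h3)
  have h3 : (T3.map (fun t => 3125 / 5 ^ (t.2.2 + 1))).sum = 200 := by decide +kernel
  rw [h3] at h2
  refine (transfer 3 _ (fun g hg => ⟨hg.1, ?_, ?_⟩) h1).trans h2
  · rw [← hg.2]; exact pow_orderOf_eq_one g
  · rintro rfl
    have := hg.2
    rw [orderOf_one] at this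
    omega

end Cfsg.Agent.Lib.LyCntK1
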