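import Cfsg.Agent.Lib.LyLow2
import Cfsg.Agent.Lib.LyCUr
import Cfsg.Agent.Lib.LyCXr

/-!
The lower bound for the order of the Lyons group (helper23)
-/

set_option autoImplicit false
set_option linter.all false

namespace Cfsg.Agent.Lib.LyLow

open Cfsg.Spor Cfsg.Agent.Lib.LyH Cfsg.Agent.Lib.LyP2 Cfsg.Agent.Lib.LyP Cfsg.Agent.Lib.LyPres Cfsg.Agent.Lib.LyG14P

theorem rho_theta_inj : Function.Injective (ρ.comp θ) := by
  have hs := simpleP
  rw [← MonoidHom.ker_eq_bot_iff]
  rcases Subgroup.Normal.eq_bot_or_eq_top (inferInstance : (ρ.comp θ).ker.Normal) with h | h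
  · exact h
  · exfalso
    have h1 : X 0 ∈ (ρ.comp θ).ker := by rw [h]; trivial
    have h2 : ρ (θ (X 0)) = 1 := h1
    rw [θ_of (by norm_num), ρ_spec 0 (by norm_num)] at h2
    exact u0_ne h2

theorem card_P44 : Nat.card P44 = 5859000000 := by
  rw [← cardH, ← range_θ]
  exact Nat.card_congr (MonoidHom.ofInjective θ_inj).toEquiv

theorem dvdH : 5859000000 ∣ Nat.card ρ.range := by
  have h1 : Nat.card (ρ.comp θ).range ∣ Nat.card ρ.range := by
    apply Subgroup.card_dvd_of_le
    rintro _ ⟨k, rfl⟩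
    exact ⟨θ k, rfl⟩
  rwa [← Nat.card_congr (MonoidHom.ofInjective rho_theta_inj).toEquiv, card_P44] at h1

theorem low : 51765179004000000 ∣ Nat.card ρ.range := by
  have h1 := Nat.lcm_dvd (Nat.lcm_dvd dvdH LyCUr.dvd_range) (Nat.lcm_dvd LyCX.dvd_range LyLow2.dvd_range)
  have h2 : Nat.lcm (Nat.lcm 5859000000 39916800) (Nat.lcm 2694384000 (37 * 67)) = 51765179004000000 := by decide
  rwa [h2] at h1

/-- the index is divisible by the expected number -/
theorem index_dvd : 8835156 ∣ HH.index := by
  have h1 : 51765179004000000 ∣ Nat.card HH * HH.index := by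
    rw [Subgroup.card_mul_index]
    exact low.trans (Subgroup.card_range_dvd ρ)
  rw [cardH, show (51765179004000000 : ℕ) = 5859000000 * 8835156 by norm_num] at h1
  exact Nat.dvd_of_mul_dvd_mul_left (by norm_num) h1

/-- once the index is known, everything is known -/
theorem final (h0 : HH.index ≠ 0) (h : HH.index ≤ 8835156) : HH.index = 8835156 ∧ Nat.card Ly = 51765179004000000 ∧
    Function.Injective ρ := by
  have h1 : HH.index = 8835156 := le_antisymm h (Nat.le_of_dvd (Nat.pos_of_ne_zero h0) index_dvd)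
  have h2 : Nat.card Ly = 51765179004000000 := by
    rw [← Subgroup.card_mul_index HH, cardH, h1]
  refine ⟨h1, h2, ?_⟩
  haveI : Finite Ly := Nat.finite_of_card_ne_zero (by rw [h2]; norm_num)
  have h3 : Nat.card ρ.range = Nat.card Ly := by
    apply Nat.dvd_antisymm (Subgroup.card_range_dvd ρ)
    rw [h2]; exact low
  have h4 : Function.Bijective ρ.rangeRestrict := by
    haveI : Finite ρ.range := Nat.finite_of_card_ne_zero (by rw [h3, h2]; norm_num)
    rw [Nat.bijective_iff_surjective_and_card]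
    exact ⟨ρ.rangeRestrict_surjective, h3.symm⟩
  intro a b hab
  exact h4.1 (Subtype.ext hab)

end Cfsg.Agent.Lib.LyLow
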