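import Cfsg.Agent.Lib.LyCntR
import Cfsg.Agent.Lib.LyCntE
import Cfsg.Agent.Lib.LyCntTd
import Cfsg.Agent.Lib.LyH
import Cfsg.Agent.Lib.LyCU
import Cfsg.Agent.Lib.LyLow

/-!
# The centraliser of an involution in `G₂(5)`: upper bound
-/

set_option autoImplicit false
set_option linter.all false
set_option maxRecDepth 100000

namespace Cfsg.Agent.Lib.LyCntT

open Cfsg.Agent.Lib.BenesWord Cfsg.Agent.Lib.M5 Cfsg.Agent.Lib.LyCntR Cfsg.Agent.Lib.LyCntE Cfsg.Agent.Lib.LyCntTd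
open Cfsg.Agent.Lib.BenesPerm (force force_eq)
open Cfsg.Agent.Lib.LyP2 (X)
open Cfsg.Agent.Lib.LyPres Cfsg.Agent.Lib.LyG14P
open Cfsg.Agent.Lib.LyCU (map_ev)
open Subgroup

/-! ### the walks -/

/-- words fixing the vector -/
def hW (c : ℕ) : Wd := match c with
  | 0 => .g 3
  | 1 => .mul (.mul (.g 2) (.g 1)) (.inv (.g 2))
  | 2 => .g 1
  | 3 => .mul (.g 0) (.g 0)
  | 4 => .inv (.g 3)
  | 5 => .inv (.mul (.mul (.g 2) (.g 1)) (.inv (.g 2)))
  | 6 => .inv (.g 1)
  | _ => .inv (.mul (.g 0) (.g 0))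

/-- letters -/
def sW (c : ℕ) : Wd := match c with
  | 0 => .g 0
  | 1 => .g 1
  | 2 => .g 2
  | 3 => .g 3
  | 4 => .inv (.g 0)
  | 5 => .inv (.g 1)
  | 6 => .inv (.g 2)
  | _ => .inv (.g 3)

def w0 : ℕ := 0x1000000000000

noncomputable def st1 (mk mm : ℕ) (c X : ℕ) : ℕ := mulR mk mm (nthR S8 c) X
noncomputable def st2 (mk mm : ℕ) (c X : ℕ) : ℕ := force (mulR mk mm (nthR H8 c) X) fun Y => mulR mk mm (rwn 7 Y) (HI.getD c 0)

noncomputable def k1 : Bool := force (mkc0 7 1) fun mk => force (mm0 7) fun mm => Nat.beq (wk (st1 mk mm) cdv 15941 p1 w0 0 0) 15624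
noncomputable def k2 : Bool := force (mkc0 7 7) fun mk => force (mm0 49) fun mm =>
  Nat.beq (wk (st2 mk mm) (fun X => Nat.mod X 20503) 644 p2 t0 0 0) 625

theorem c_k1 : k1 = true := by decide +kernel
theorem c_k2 : k2 = true := by decide +kernel

/-- checks of the tables -/
noncomputable def k3 : Bool := force (mkc0 7 7) fun mk => force (mm0 49) fun mm => force (id0 7) fun id =>
  (List.range 8).all fun c => chkOne 7 (nthR S8 c) && chkOne 7 (nthR H8 c) &&
    Nat.beq (mulR mk mm (nthR S8 c) id) (evW mk mm (GG L7) (GV L7) (sW c) false id) &&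
    Nat.beq (mulR mk mm (nthR H8 c) id) (evW mk mm (GG L7) (GV L7) (hW c) false id) &&
    Nat.beq (HI.getD c 0) (evW mk mm (GG L7) (GV L7) (hW c) true id)
noncomputable def k4 : Bool := force (mkc0 7 1) fun mk => force (mm0 7) fun mm =>
  (List.range 8).all fun c => Nat.beq (evW mk mm (GG L7) (GV L7) (hW c) false w0) w0
noncomputable def k5 : Bool := force (mkc0 7 7) fun mk => force (mm0 49) fun mm => force (id0 7) fun id =>
  Nat.beq (evW mk mm (GG L7) (GV L7) (.pow (.g 0) 4) false id) t0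

theorem c_k3 : k3 = true := by decide +kernel
theorem c_k4 : k4 = true := by decide +kernel
theorem c_k5 : k5 = true := by decide +kernel

/-! ### counting lemmas -/

theorem upper {G β : Type*} [Group G] [Finite G] (K D : Subgroup G) (hD : D ≤ K) (φ : G → β) (F : Set β) (hF : F.Finite)
    (h1 : ∀ g ∈ K, φ g ∈ F) (h2 : ∀ g ∈ K, ∀ g' ∈ K, φ g = φ g' → g⁻¹ * g' ∈ D) : Nat.card K ≤ F.ncard * Nat.card D := by
  have hm := (D.subgroupOf K).card_mul_index
  rw [Nat.card_congr (subgroupOfEquivOfLe hD).toEquiv] at hm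
  have hle : (D.subgroupOf K).index ≤ F.ncard := by
    rw [index, ← Nat.card_coe_set_eq]
    haveI := hF.to_subtype
    refine Nat.card_le_card_of_injective (fun q : K ⧸ D.subgroupOf K => (⟨φ (q.out : K), h1 _ (q.out).2⟩ : F)) ?_
    intro q q' h
    have h3 := h2 _ (q.out).2 _ (q'.out).2 (congrArg Subtype.val h)
    rw [← QuotientGroup.out_eq' q, ← QuotientGroup.out_eq' q']
    exact QuotientGroup.eq.2 h3
  calc Nat.card K = Nat.card D * (D.subgroupOf K).index := hm.symm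
    _ ≤ Nat.card D * F.ncard := Nat.mul_le_mul_left _ hle
    _ = _ := Nat.mul_comm _ _

theorem lower {G β : Type*} [Group G] [Finite G] (K D : Subgroup G) (hD : D ≤ K) (φ : G → β)
    (h2 : ∀ g ∈ K, ∀ g' ∈ K, g⁻¹ * g' ∈ D → φ g = φ g') : Nat.card {y : β // ∃ g ∈ K, y = φ g} * Nat.card D ≤ Nat.card K := by
  have hm := (D.subgroupOf K).card_mul_index
  rw [Nat.card_congr (subgroupOfEquivOfLe hD).toEquiv] at hm
  have hle : Nat.card {y : β // ∃ g ∈ K, y = φ g} ≤ (D.subgroupOf K).index := by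
    rw [index]
    refine Nat.card_le_card_of_injective (fun y => ((⟨y.2.choose, y.2.choose_spec.1⟩ : K) : K ⧸ D.subgroupOf K)) ?_
    intro y y' h
    have h' : ((⟨y.2.choose, y.2.choose_spec.1⟩ : K) : K ⧸ D.subgroupOf K) = ((⟨y'.2.choose, y'.2.choose_spec.1⟩ : K) : K ⧸ D.subgroupOf K) := h
    have h3' := QuotientGroup.eq.1 h'
    have h3 : y.2.choose⁻¹ * y'.2.choose ∈ D := h3'
    have h4 := h2 _ y.2.choose_spec.1 _ y'.2.choose_spec.1 h3
    exact Subtype.ext (by rw [y.2.choose_spec.2, y'.2.choose_spec.2]; exact h4)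
  calc _ ≤ (D.subgroupOf K).index * Nat.card D := Nat.mul_le_mul_right _ hle
    _ = Nat.card K := by rw [Nat.mul_comm]; exact hm

/-! ### specification of the checks -/

theorem s30 : (List.range 8).all (fun c => chkOne 7 (nthR S8 c) && chkOne 7 (nthR H8 c) &&
    Nat.beq (mulR (mkc 7 7) (m15 49) (nthR S8 c) (idX 7)) (evW (mkc 7 7) (m15 49) (GG L7) (GV L7) (sW c) false (idX 7)) &&
    Nat.beq (mulR (mkc 7 7) (m15 49) (nthR H8 c) (idX 7)) (evW (mkc 7 7) (m15 49) (GG L7) (GV L7) (hW c) false (idX 7)) &&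
    Nat.beq (HI.getD c 0) (evW (mkc 7 7) (m15 49) (GG L7) (GV L7) (hW c) true (idX 7))) = true := by
  have h := c_k3
  unfold k3 at h
  rw [force_eq, force_eq, force_eq, mkc0_eq (by norm_num), mm0_eq, id0_eq] at h
  exact h

theorem s3 : (List.range 8).all (fun c => chkOne 7 (nthR S8 c) && chkOne 7 (nthR H8 c) &&
    Nat.beq (mulR (mkc 7 7) (m15 (7 * 7)) (nthR S8 c) (idX 7)) (evW (mkc 7 7) (m15 (7 * 7)) (GG L7) (GV L7) (sW c) false (idX 7)) &&
    Nat.beq (mulR (mkc 7 7) (m15 (7 * 7)) (nthR H8 c) (idX 7)) (evW (mkc 7 7) (m15 (7 * 7)) (GG L7) (GV L7) (hW c) false (idX 7)) &&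
    Nat.beq (HI.getD c 0) (evW (mkc 7 7) (m15 (7 * 7)) (GG L7) (GV L7) (hW c) true (idX 7))) = true := by
  have h := s30
  rw [show (49 : ℕ) = 7 * 7 from rfl] at h
  exact h

theorem s4 : (List.range 8).all (fun c => Nat.beq (evW (mkc 7 1) (m15 (1 * 7)) (GG L7) (GV L7) (hW c) false w0) w0) = true := by
  have h := c_k4
  unfold k4 at h
  rw [force_eq, force_eq, mkc0_eq (by norm_num), mm0_eq] at h
  exact h

theorem s5 : Nat.beq (evW (mkc 7 7) (m15 (7 * 7)) (GG L7) (GV L7) (.pow (.g 0) 4) false (idX 7)) t0 = true := by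
  have h := c_k5
  unfold k5 at h
  rw [force_eq, force_eq, force_eq, mkc0_eq (by norm_num), mm0_eq, id0_eq] at h
  exact h

theorem s10 : wk (st1 (mkc 7 1) (m15 7)) cdv 15941 p1 w0 0 0 = 15624 := by
  have h := c_k1
  unfold k1 at h
  rw [force_eq, force_eq, mkc0_eq (by norm_num), mm0_eq] at h
  exact Nat.eq_of_beq_eq_true h

theorem s1 : wk (st1 (mkc 7 1) (m15 (1 * 7))) cdv 15941 p1 w0 0 0 = 15624 := by
  rw [Nat.one_mul]; exact s10

theorem s20 : wk (st2 (mkc 7 7) (m15 49)) (fun X => Nat.mod X 20503) 644 p2 t0 0 0 = 625 := by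
  have h := c_k2
  unfold k2 at h
  rw [force_eq, force_eq, mkc0_eq (by norm_num), mm0_eq] at h
  exact Nat.eq_of_beq_eq_true h

theorem s2 : wk (st2 (mkc 7 7) (m15 (7 * 7))) (fun X => Nat.mod X 20503) 644 p2 t0 0 0 = 625 := by
  rw [show 7 * 7 = 49 from rfl]; exact s20

theorem rep_eval {m : ℕ} (W : Wd) (hW : Cfsg.Agent.Lib.CoxBridge.lets 15 W = true) (b : Bool) {x : ℕ} {M : Matrix (Fin m) (Fin 7) (ZMod 5)}
    (hx : Rep m 7 x M) : Rep m 7 (evW (mkc 7 m) (m15 (m * 7)) (GG L7) (GV L7) W b x)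
      (M * ((if b then (W.eval u7)⁻¹ else W.eval u7 : U7) : Matrix (Fin 7) (Fin 7) (ZMod 5))) :=
  evW_rep (by norm_num) (by norm_num) (fun c hc => u7_rep hc) (fun c hc => u7_inv hc) W hW b hx

theorem lets_s : ∀ c < 8, Cfsg.Agent.Lib.CoxBridge.lets 15 (sW c) = true ∧ Cfsg.Agent.Lib.CoxBridge.lets 15 (hW c) = true := by
  decide +kernel

/-- group elements -/
noncomputable def sE (c : ℕ) : P44 := (sW c).eval X
noncomputable def hE (c : ℕ) : P44 := (hW c).eval X

theorem R7_ev (W : Wd) : R7 (W.eval X) = W.eval u7 := by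
  rw [map_ev]
  congr 1
  funext c
  exact R7_spec c

noncomputable abbrev F (g : P44) : Matrix (Fin 7) (Fin 7) (ZMod 5) := ((R7 g : U7) : Matrix (Fin 7) (Fin 7) (ZMod 5))

theorem F_mul (g h : P44) : F (g * h) = F g * F h := by
  show ((R7 (g * h) : U7) : Matrix (Fin 7) (Fin 7) (ZMod 5)) = _
  rw [map_mul, Units.val_mul]

theorem F_one : F 1 = 1 := by
  show ((R7 1 : U7) : Matrix (Fin 7) (Fin 7) (ZMod 5)) = _
  rw [map_one, Units.val_one]

theorem F_inj {g h : P44} (e : F g = F h) : g = h := R7_inj (Units.ext e)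

theorem F_inv_mul (g : P44) : F g⁻¹ * F g = 1 := by rw [← F_mul, inv_mul_cancel, F_one]
theorem F_mul_inv (g : P44) : F g * F g⁻¹ = 1 := by rw [← F_mul, mul_inv_cancel, F_one]

theorem spec3 {c : ℕ} (hc : c < 8) : RepR 7 (nthR S8 c) (F (sE c)) ∧ RepR 7 (nthR H8 c) (F (hE c)) ∧
    Rep 7 7 (HI.getD c 0) (F (hE c)⁻¹) := by
  have h := List.all_eq_true.1 s3 c (List.mem_range.2 hc)
  rw [Bool.and_eq_true, Bool.and_eq_true, Bool.and_eq_true, Bool.and_eq_true] at h
  obtain ⟨⟨⟨⟨h1, h2⟩, h3⟩, h4⟩, h5⟩ := h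
  have l := lets_s c hc
  have r1 := repR_of h1
  have r2 := repR_of h2
  have e1 := mulR_rep (by norm_num) (by norm_num) (idX_rep 7) r1
  have e2 := mulR_rep (by norm_num) (by norm_num) (idX_rep 7) r2
  have e3 := rep_eval (m := 7) (sW c) l.1 false (idX_rep 7)
  have e4 := rep_eval (m := 7) (hW c) l.2 false (idX_rep 7)
  have e5 := rep_eval (m := 7) (hW c) l.2 true (idX_rep 7)
  rw [Nat.eq_of_beq_eq_true h3] at e1
  rw [Nat.eq_of_beq_eq_true h4] at e2
  rw [← Nat.eq_of_beq_eq_true h5] at e5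
  have f1 := e1.ext e3
  have f2 := e2.ext e4
  simp only [Matrix.one_mul, Bool.false_eq_true, if_false] at f1 f2
  simp only [Matrix.one_mul, if_true] at e5
  have g1 : F (sE c) = (((sW c).eval u7 : U7) : Matrix (Fin 7) (Fin 7) (ZMod 5)) := by
    show ((R7 _ : U7) : Matrix (Fin 7) (Fin 7) (ZMod 5)) = _
    rw [sE, R7_ev]
  have g2 : F (hE c) = (((hW c).eval u7 : U7) : Matrix (Fin 7) (Fin 7) (ZMod 5)) := by
    show ((R7 _ : U7) : Matrix (Fin 7) (Fin 7) (ZMod 5)) = _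
    rw [hE, R7_ev]
  have g3 : F (hE c)⁻¹ = ((((hW c).eval u7)⁻¹ : U7) : Matrix (Fin 7) (Fin 7) (ZMod 5)) := by
    show ((R7 _ : U7) : Matrix (Fin 7) (Fin 7) (ZMod 5)) = _
    rw [map_inv, hE, R7_ev]
  refine ⟨?_, ?_, ?_⟩
  · rw [g1, ← f1]; exact r1
  · rw [g2, ← f2]; exact r2
  · rw [g3]; exact e5

/-- the vector -/
def w : Matrix (Fin 1) (Fin 7) (ZMod 5) := fun _ j => if j = 4 then 1 else 0

theorem rep_w : Rep 1 7 w0 w := by
  refine ⟨fun i j => if i = 0 ∧ j = 4 then 1 else 0, ?_, fun i j => ?_, fun i j => ?_⟩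
  · rw [dval_eq]
    decide
  · show (if _ then 1 else 0) ≤ 4
    split <;> omega
  · fin_cases i; fin_cases j <;> rfl

theorem rep_t : Rep 7 7 t0 (F (X 0 ^ 4)) := by
  have e := rep_eval (m := 7) (.pow (.g 0) 4) (by decide) false (idX_rep 7)
  rw [Nat.eq_of_beq_eq_true s5] at e
  simp only [Matrix.one_mul, Bool.false_eq_true, if_false] at e
  have g1 : F (X 0 ^ 4) = (((Wd.pow (.g 0) 4).eval u7 : U7) : Matrix (Fin 7) (Fin 7) (ZMod 5)) := by
    show ((R7 _ : U7) : Matrix (Fin 7) (Fin 7) (ZMod 5)) = _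
    rw [← R7_ev]; rfl
  rw [g1]; exact e

/-- the stabiliser of the vector -/
def Hw : Subgroup P44 where
  carrier := {g | w * F g = w}
  mul_mem' := by
    intro a b ha hb
    show w * F (a * b) = w
    rw [F_mul, ← Matrix.mul_assoc, ha, hb]
  one_mem' := by
    show w * F 1 = w
    rw [F_one, Matrix.mul_one]
  inv_mem' := by
    intro a ha
    show w * F a⁻¹ = w
    have h : w * F a = w := ha
    calc w * F a⁻¹ = (w * F a) * F a⁻¹ := by rw [h]
      _ = w := by rw [Matrix.mul_assoc, F_mul_inv, Matrix.mul_one]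

theorem hE_mem {c : ℕ} (hc : c < 8) : hE c ∈ Hw := by
  have h := List.all_eq_true.1 s4 c (List.mem_range.2 hc)
  have e := rep_eval (m := 1) (hW c) (lets_s c hc).2 false rep_w
  rw [Nat.eq_of_beq_eq_true h] at e
  simp only [Bool.false_eq_true, if_false] at e
  have := rep_w.ext e
  show w * F (hE c) = w
  have g2 : F (hE c) = (((hW c).eval u7 : U7) : Matrix (Fin 7) (Fin 7) (ZMod 5)) := by
    show ((R7 _ : U7) : Matrix (Fin 7) (Fin 7) (ZMod 5)) = _
    rw [hE, R7_ev]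
  rw [g2]; exact this.symm

theorem fin44 : Finite P44 := Nat.finite_of_card_ne_zero (by rw [LyLow.card_P44]; norm_num)

theorem card_Hw : Nat.card Hw ≤ 375000 := by
  haveI := fin44
  have h1 : 15624 ≤ Nat.card {y : Matrix (Fin 1) (Fin 7) (ZMod 5) // ∃ g ∈ (⊤ : Subgroup P44), y = w * F g⁻¹} := by
    refine wk_card (st1 (mkc 7 1) (m15 (1 * 7))) cdv (fun y => pk y.1) ?_ 15941 (p := p1)
      ⟨w, 1, mem_top _, by rw [inv_one, F_one, Matrix.mul_one]⟩ ?_
    · rintro c hc ⟨y, g, -, hy⟩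
      refine ⟨⟨y * F (sE c), (sE c)⁻¹ * g, mem_top _, ?_⟩, ?_⟩
      · rw [mul_inv_rev, inv_inv, F_mul, ← Matrix.mul_assoc, hy]
      · show mulR (mkc 7 1) (m15 (1 * 7)) (nthR S8 c) (pk y) = pk (y * F (sE c))
        exact Rep_eq (mulR_rep (by norm_num) (by norm_num) (rep_pk y) (spec3 hc).1)
    · show wk _ _ 15941 p1 (pk w) 0 0 = 15624
      rw [← Rep_eq rep_w]
      exact s1
  have h2 := lower (⊤ : Subgroup P44) Hw le_top (fun g => w * F g⁻¹) (by
    intro g _ g' _ hd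
    have hd' : w * F (g⁻¹ * g') = w := hd
    show w * F g⁻¹ = w * F g'⁻¹
    calc w * F g⁻¹ = w * (F (g⁻¹ * g') * F g'⁻¹) := by rw [← F_mul, mul_assoc, mul_inv_cancel, mul_one]
      _ = _ := by rw [← Matrix.mul_assoc, hd'])
  rw [card_top, LyLow.card_P44] at h2
  have h3 := (Nat.mul_le_mul_right (Nat.card Hw) h1).trans h2
  omega

noncomputable abbrev tt : P44 := X 0 ^ 4
noncomputable abbrev C : Subgroup P44 := centralizer ({X 0 ^ 4} : Set P44)

theorem card_D : Nat.card (Hw ⊓ C : Subgroup P44) ≤ 600 := by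
  haveI := fin44
  have h1 : 625 ≤ Nat.card {y : P44 // ∃ g ∈ Hw, y = g * tt * g⁻¹} := by
    refine wk_card (st2 (mkc 7 7) (m15 (7 * 7))) (fun X => Nat.mod X 20503) (fun y => pk (F y.1)) ?_ 644 (p := p2)
      ⟨tt, 1, one_mem _, by simp⟩ ?_
    · rintro c hc ⟨y, g, hg, hy⟩
      refine ⟨⟨(hE c)⁻¹ * y * hE c, (hE c)⁻¹ * g, mul_mem (inv_mem (hE_mem hc)) hg, ?_⟩, ?_⟩
      · rw [hy]; group
      · show force (mulR (mkc 7 7) (m15 (7 * 7)) (nthR H8 c) (pk (F y))) (fun Y => mulR (mkc 7 7) (m15 (7 * 7)) (rwn 7 Y) (HI.getD c 0)) =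
          pk (F ((hE c)⁻¹ * y * hE c))
        rw [force_eq]
        have r1 := mulR_rep (by norm_num) (by norm_num) (rep_pk (F y)) (spec3 hc).2.1
        have r2 := mulR_rep (by norm_num) (by norm_num) (spec3 hc).2.2 (rwn_rep r1)
        rw [F_mul, F_mul, Matrix.mul_assoc]
        exact Rep_eq r2
    · show wk _ _ 644 p2 (pk (F (X 0 ^ 4))) 0 0 = 625
      rw [← Rep_eq rep_t]
      exact s2
  have h2 := lower Hw (Hw ⊓ C) inf_le_left (fun g => g * tt * g⁻¹) (by
    intro g _ g' _ hd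
    have hd' := mem_centralizer_singleton_iff.1 hd.2
    show g * tt * g⁻¹ = g' * tt * g'⁻¹
    have e : g' * tt * g'⁻¹ = g * ((g⁻¹ * g') * tt) * (g⁻¹ * g')⁻¹ * g⁻¹ := by group
    rw [e, hd']; group)
  have h3 := (Nat.mul_le_mul_right (Nat.card (Hw ⊓ C : Subgroup P44)) h1).trans (h2.trans card_Hw)
  omega

/-! ### the isotropic vectors -/

/-- the form -/
def J : Matrix (Fin 7) (Fin 7) (ZMod 5) := !![0, 0, 0, 0, 0, 0, 1; 0, 0, 0, 0, 0, 4, 0; 0, 0, 0, 0, 1, 0, 0; 0, 0, 0, 2, 0, 0, 0;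
  0, 0, 1, 0, 0, 0, 0; 0, 4, 0, 0, 0, 0, 0; 1, 0, 0, 0, 0, 0, 0]

theorem J_gen : ∀ c < 4, matR 7 (nthR S8 c) * J * (matR 7 (nthR S8 c)).transpose = J := by decide +kernel

/-- the isometries -/
def isoJ : Subgroup P44 where
  carrier := {g | F g * J * (F g).transpose = J}
  mul_mem' := by
    intro a b ha hb
    have ha' : F a * J * (F a).transpose = J := ha
    have hb' : F b * J * (F b).transpose = J := hb
    show F (a * b) * J * (F (a * b)).transpose = J
    rw [F_mul, Matrix.transpose_mul]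
    calc F a * F b * J * ((F b).transpose * (F a).transpose) = F a * (F b * J * (F b).transpose) * (F a).transpose := by
          simp only [Matrix.mul_assoc]
      _ = J := by rw [hb', ha']
  one_mem' := by
    show F 1 * J * (F 1).transpose = J
    rw [F_one, Matrix.transpose_one, Matrix.one_mul, Matrix.mul_one]
  inv_mem' := by
    intro a ha
    have ha' : F a * J * (F a).transpose = J := ha
    show F a⁻¹ * J * (F a⁻¹).transpose = J
    calc F a⁻¹ * J * (F a⁻¹).transpose = F a⁻¹ * (F a * J * (F a).transpose) * (F a⁻¹).transpose := by rw [ha']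
      _ = (F a⁻¹ * F a) * J * ((F a⁻¹ * F a).transpose) := by
          rw [Matrix.transpose_mul]; simp only [Matrix.mul_assoc]
      _ = J := by rw [F_inv_mul, Matrix.transpose_one, Matrix.one_mul, Matrix.mul_one]

theorem FX {c : ℕ} (hc : c < 4) : F (X c) = matR 7 (nthR S8 c) := by
  have h := List.all_eq_true.1 s3 c (List.mem_range.2 (by omega))
  rw [Bool.and_eq_true, Bool.and_eq_true, Bool.and_eq_true, Bool.and_eq_true] at h
  obtain ⟨⟨⟨⟨h1, h2⟩, h3⟩, h4⟩, h5⟩ := h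
  have r1 := repR_of h1
  have e1 := mulR_rep (by norm_num) (by norm_num) (idX_rep 7) r1
  have e3 := mulR_rep (by norm_num) (by norm_num) (idX_rep 7) (spec3 (c := c) (by omega)).1
  have f1 := e1.ext e3
  rw [Matrix.one_mul, Matrix.one_mul] at f1
  rw [f1]
  interval_cases c <;> rfl

theorem all_iso (g : P44) : F g * J * (F g).transpose = J := by
  have h : (⊤ : Subgroup P44) ≤ isoJ := by
    rw [← LyH.topP, closure_le]
    have key : ∀ c < 4, X c ∈ isoJ := by
      intro c hc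
      show F (X c) * J * (F (X c)).transpose = J
      rw [FX hc]
      exact J_gen c hc
    rintro x (rfl | rfl | rfl | hx)
    · exact key 0 (by norm_num)
    · exact key 1 (by norm_num)
    · exact key 2 (by norm_num)
    · rw [Set.mem_singleton_iff] at hx; subst hx; exact key 3 (by norm_num)
  exact h (mem_top g)

def rt : List ℕ := [0x4, 0x4000, 0x1000000, 0x1000000000, 0x1000000000000, 0x4000000000000000, 0x4000000000000000000]

def Dm : Matrix (Fin 7) (Fin 7) (ZMod 5) := Matrix.diagonal ![4, 4, 1, 1, 1, 4, 4]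

noncomputable def k6 : Bool := force (mkc0 7 7) fun mk => force (mm0 49) fun mm => force (id0 7) fun id =>
  chkOne 7 rt && Nat.beq (mulR mk mm rt id) t0

theorem c_k6 : k6 = true := by decide +kernel

theorem F_tt : F tt = Dm := by
  have h := c_k6
  unfold k6 at h
  rw [force_eq, force_eq, force_eq, mkc0_eq (by norm_num), mm0_eq, id0_eq, Bool.and_eq_true] at h
  have r1 := repR_of h.1
  have e1 : Rep 7 7 (mulR (mkc 7 7) (m15 49) rt (idX 7)) _ := mulR_rep (by norm_num) (by norm_num) (idX_rep 7) r1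
  rw [Nat.eq_of_beq_eq_true h.2] at e1
  have f1 := rep_t.ext e1
  rw [Matrix.one_mul] at f1
  rw [f1]
  decide +kernel

/-- the isotropic vectors fixed by the involution -/
def Fs : Set (Matrix (Fin 1) (Fin 7) (ZMod 5)) := {v | v * Dm = v ∧ v * J * v.transpose = 0 ∧ v ≠ 0}

def Ts : Finset (ZMod 5 × ZMod 5 × ZMod 5) := Finset.univ.filter fun x => x.1 * x.2.2 * 2 + 2 * x.2.1 * x.2.1 = 0 ∧ x ≠ 0

theorem card_Ts : Ts.card = 24 := by decide +kernel

theorem four_mul {x : ZMod 5} (h : x * 4 = x) : x = 0 := by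
  revert h; revert x; decide

theorem Fs_card : Fs.ncard ≤ 24 := by
  rw [← card_Ts, ← Set.ncard_coe_finset]
  have hz : ∀ v ∈ Fs, v 0 0 = 0 ∧ v 0 1 = 0 ∧ v 0 5 = 0 ∧ v 0 6 = 0 := by
    intro v hv
    have h := hv.1
    have hj : ∀ j, v 0 j * (![4, 4, 1, 1, 1, 4, 4] : Fin 7 → ZMod 5) j = v 0 j := by
      intro j
      have := congrFun (congrFun h 0) j
      rwa [Dm, Matrix.mul_diagonal] at this
    exact ⟨four_mul (hj 0), four_mul (hj 1), four_mul (hj 5), four_mul (hj 6)⟩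
  refine Set.ncard_le_ncard_of_injOn (fun v => (v 0 2, v 0 3, v 0 4)) ?_ ?_ (Finset.finite_toSet _)
  · intro v hv
    obtain ⟨z0, z1, z5, z6⟩ := hz v hv
    have hq := congrFun (congrFun hv.2.1 0) 0
    rw [Finset.mem_coe, Ts, Finset.mem_filter]
    refine ⟨Finset.mem_univ _, ?_, ?_⟩
    · simp only [Matrix.mul_apply, Fin.sum_univ_seven, J, Matrix.transpose_apply, z0, z1, z5, z6] at hq
      simp at hq
      linear_combination hq
    · intro h0
      apply hv.2.2
      have h1 : v 0 2 = 0 := congrArg Prod.fst h0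
      have h2 : v 0 3 = 0 := congrArg (fun x => x.2.1) h0
      have h3 : v 0 4 = 0 := congrArg (fun x => x.2.2) h0
      ext i j
      fin_cases i
      fin_cases j <;> simp_all
  · intro v hv v' hv' h
    obtain ⟨z0, z1, z5, z6⟩ := hz v hv
    obtain ⟨y0, y1, y5, y6⟩ := hz v' hv'
    have h1 : v 0 2 = v' 0 2 := congrArg Prod.fst h
    have h2 : v 0 3 = v' 0 3 := congrArg (fun x => x.2.1) h
    have h3 : v 0 4 = v' 0 4 := congrArg (fun x => x.2.2) h
    ext i j
    fin_cases i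
    fin_cases j <;> simp_all

theorem w_facts : w * Dm = w ∧ w * J * w.transpose = 0 ∧ w ≠ 0 := by decide +kernel

/-- the centraliser of the involution in `G₂(5)` -/
theorem card_cent : Nat.card (Subgroup.centralizer ({X 0 ^ 4} : Set P44)) ≤ 14400 := by
  haveI := fin44
  have h := upper C (Hw ⊓ C) inf_le_right (fun g => w * F g⁻¹) Fs (Set.toFinite _) (by
    intro g hg
    have hg' := mem_centralizer_singleton_iff.1 (inv_mem hg)
    refine ⟨?_, ?_, ?_⟩
    · show w * F g⁻¹ * Dm = w * F g⁻¹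
      rw [← F_tt, Matrix.mul_assoc, ← F_mul, hg', F_mul, ← Matrix.mul_assoc, F_tt, w_facts.1]
    · show w * F g⁻¹ * J * (w * F g⁻¹).transpose = 0
      rw [Matrix.transpose_mul]
      calc w * F g⁻¹ * J * ((F g⁻¹).transpose * w.transpose) = w * (F g⁻¹ * J * (F g⁻¹).transpose) * w.transpose := by
            simp only [Matrix.mul_assoc]
        _ = 0 := by rw [all_iso, w_facts.2.1]
    · intro h0
      apply w_facts.2.2
      have h1 : w * F g⁻¹ = 0 := h0
      calc w = w * (F g⁻¹ * F g) := by rw [F_inv_mul, Matrix.mul_one]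
        _ = 0 := by rw [← Matrix.mul_assoc, h1, Matrix.zero_mul]) (by
    intro g hg g' hg' e
    have e' : w * F g⁻¹ = w * F g'⁻¹ := e
    refine ⟨?_, C.mul_mem (C.inv_mem hg) hg'⟩
    show w * F (g⁻¹ * g') = w
    rw [F_mul, ← Matrix.mul_assoc, e', Matrix.mul_assoc, F_inv_mul, Matrix.mul_one])
  calc _ ≤ Fs.ncard * Nat.card (Hw ⊓ C : Subgroup P44) := h
    _ ≤ 24 * 600 := Nat.mul_le_mul Fs_card card_D
    _ = 14400 := by norm_num

end Cfsg.Agent.Lib.LyCntT
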