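import Mathlib

/-!
A simplicity criterion for the Lyons group (helper60).
-/

set_option autoImplicit false

namespace Cfsg.Agent.Lib.LySim

open Subgroup

section general

variable {G : Type*} [Group G] [Finite G]

/-- fixed points of an element of prime order acting by conjugation -/
theorem fix_mod {p : ℕ} [hp : Fact p.Prime] (N : Subgroup G) {h : G} (ho : orderOf h = p)
    (hN : h ∈ normalizer (N : Set G)) :
    Nat.card N ≡ Nat.card ↥(N ⊓ centralizer ({h} : Set G)) [MOD p] := by
  have hn : ∀ q ∈ zpowers h, ∀ d ∈ N, q * d * q⁻¹ ∈ N := by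
    intro q hq d hd
    have h1 : q ∈ normalizer (N : Set G) := by
      have : zpowers h ≤ normalizer (N : Set G) := by rw [zpowers_le]; exact hN
      exact this hq
    exact (mem_normalizer_iff.1 h1 d).1 hd
  let _ : MulAction (zpowers h) N :=
    { smul := fun q d => ⟨q * d * (q : G)⁻¹, hn q q.2 d d.2⟩
      one_smul := fun d => Subtype.ext (by change (1 : G) * d * (1 : G)⁻¹ = d; group)
      mul_smul := fun p q d => Subtype.ext (by
        change ((p : G) * q) * d * ((p : G) * q)⁻¹ = p * (q * d * (q : G)⁻¹) * (p : G)⁻¹; group) }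
  have hP : IsPGroup p (zpowers h) := by
    apply IsPGroup.of_card (n := 1)
    rw [Nat.card_zpowers, ho, pow_one]
  have h1 := hP.card_modEq_card_fixedPoints (α := N)
  have h2 : Nat.card (MulAction.fixedPoints (zpowers h) N) = Nat.card ↥(N ⊓ centralizer ({h} : Set G)) := by
    apply Nat.card_congr
    refine ⟨fun a => ⟨(a : N), (a : N).2, ?_⟩, fun a => ⟨⟨a, a.2.1⟩, ?_⟩, fun a => rfl, fun a => rfl⟩
    · have h3 : (⟨h, mem_zpowers h⟩ : zpowers h) • (a : N) = a := a.2 ⟨h, mem_zpowers h⟩
      have h4 : h * ((a : N) : G) * h⁻¹ = (a : N) := congrArg Subtype.val h3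
      refine mem_centralizer_singleton_iff.2 ?_
      calc ((a : N) : G) * h = (h * ((a : N) : G) * h⁻¹) * h := by rw [h4]
        _ = h * ((a : N) : G) := by group
    · intro q
      apply Subtype.ext
      change (q : G) * a * (q : G)⁻¹ = a
      have h3 : (a : G) * h = h * a := mem_centralizer_singleton_iff.1 a.2.2
      have h4 : (q : G) * a = a * q := by
        have : zpowers h ≤ centralizer ({(a : G)} : Set G) := by
          rw [zpowers_le, mem_centralizer_singleton_iff]; exact h3.symm
        exact mem_centralizer_singleton_iff.1 (this q.2)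
      rw [h4, mul_inv_cancel_right]
  rwa [h2] at h1

theorem relIndex_dvd_index (H K : Subgroup G) [K.Normal] : H.relIndex K ∣ H.index := by
  have e1 : H.relIndex (H ⊔ K) = H.relIndex K := by
    have f1 := relIndex_mul_relIndex (H ⊓ K) K (H ⊔ K) inf_le_right le_sup_right
    have f2 := relIndex_mul_relIndex (H ⊓ K) H (H ⊔ K) inf_le_left le_sup_left
    rw [inf_relIndex_right, relIndex_sup_right] at f1
    rw [inf_relIndex_left] at f2
    have f3 : K.relIndex H ≠ 0 := index_ne_zero_of_finite (H := K.subgroupOf H)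
    apply Nat.eq_of_mul_eq_mul_left (Nat.pos_of_ne_zero f3)
    rw [f2, ← f1, mul_comm]
  rw [← e1]
  exact relIndex_dvd_index_of_le le_sup_left

theorem card_dvd_index (H K : Subgroup G) [K.Normal] (h : H ⊓ K = ⊥) : Nat.card K ∣ H.index := by
  have h1 : H.relIndex K = Nat.card K := by
    rw [← inf_relIndex_right, h, relIndex_bot_left]
  rw [← h1]
  exact relIndex_dvd_index H K

end general

theorem arith {e : ℕ} (he : e ∣ 8835156) (h31 : e % 31 = 1) : e = 1 ∨ e = 8835156 := by
  have h0 : (8835156 : ℕ) = 4 * (81 * (11 * (37 * 67))) := by norm_num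
  rw [h0] at he
  obtain ⟨a, e1, ha, he1, rfl⟩ := (Nat.dvd_mul).1 he
  obtain ⟨b, e2, hb, he2, rfl⟩ := (Nat.dvd_mul).1 he1
  obtain ⟨c, e3, hc, he3, rfl⟩ := (Nat.dvd_mul).1 he2
  obtain ⟨d, f, hd, hf, rfl⟩ := (Nat.dvd_mul).1 he3
  have key : ∀ a ∈ ({1, 2, 4} : Finset ℕ), ∀ b ∈ ({1, 3, 9, 27, 81} : Finset ℕ), ∀ c ∈ ({1, 11} : Finset ℕ),
      ∀ d ∈ ({1, 37} : Finset ℕ), ∀ f ∈ ({1, 67} : Finset ℕ),
      (a * (b * (c * (d * f)))) % 31 = 1 → a * (b * (c * (d * f))) = 1 ∨ a * (b * (c * (d * f))) = 8835156 := by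
    decide +kernel
  have d4 : Nat.divisors 4 = {1, 2, 4} := by decide +kernel
  have d81 : Nat.divisors 81 = {1, 3, 9, 27, 81} := by decide +kernel
  have d11 : Nat.divisors 11 = {1, 11} := by decide +kernel
  have d37 : Nat.divisors 37 = {1, 37} := by decide +kernel
  have d67 : Nat.divisors 67 = {1, 67} := by decide +kernel
  apply key a _ b _ c _ d _ f _ h31
  · rw [← d4]; exact Nat.mem_divisors.2 ⟨ha, by norm_num⟩
  · rw [← d81]; exact Nat.mem_divisors.2 ⟨hb, by norm_num⟩
  · rw [← d11]; exact Nat.mem_divisors.2 ⟨hc, by norm_num⟩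
  · rw [← d37]; exact Nat.mem_divisors.2 ⟨hd, by norm_num⟩
  · rw [← d67]; exact Nat.mem_divisors.2 ⟨hf, by norm_num⟩

variable {G : Type*} [Group G] [Finite G]

/-- an element of order 31 centralizing a small normal subgroup -/
theorem exists_cent {N : Subgroup G} [N.Normal] (hN : Nat.card N ∣ 8835156) (h31 : 31 ∣ Nat.card G) :
    ∃ h : G, orderOf h = 31 ∧ h ∈ centralizer (N : Set G) := by
  have hp31 : Fact (Nat.Prime 31) := ⟨by norm_num⟩
  have hp3 : Fact (Nat.Prime 3) := ⟨by norm_num⟩
  have hNn : ∀ h : G, h ∈ normalizer (N : Set G) := by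
    intro h; rw [normalizer_eq_top]; trivial
  have hcop : ¬ 31 ∣ Nat.card N := fun h => absurd (h.trans hN) (by norm_num)
  have key : ∀ h : G, orderOf h = 31 → h ∈ centralizer (N : Set G) ∨
      (Nat.card N = 8835156 ∧ Nat.card ↥(N ⊓ centralizer ({h} : Set G)) = 1) := by
    intro h ho
    have h1 := fix_mod N ho (hNn h)
    have h2 : Nat.card ↥(N ⊓ centralizer ({h} : Set G)) ∣ Nat.card N := card_dvd_of_le inf_le_left
    obtain ⟨e, he⟩ := h2
    have hc31 : ¬ 31 ∣ Nat.card ↥(N ⊓ centralizer ({h} : Set G)) := fun h => hcop (he ▸ h.mul_right _)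
    have he31 : e % 31 = 1 := by
      rw [he] at h1
      have h3 : Nat.card ↥(N ⊓ centralizer ({h} : Set G)) * e ≡
          Nat.card ↥(N ⊓ centralizer ({h} : Set G)) * 1 [MOD 31] := by rw [mul_one]; exact h1
      have h4 := Nat.ModEq.cancel_left_of_coprime (by
        rw [← Nat.coprime_iff_gcd_eq_one]
        exact ((Nat.Prime.coprime_iff_not_dvd (by norm_num)).2 hc31)) h3
      exact h4
    have hed : e ∣ 8835156 := (Dvd.intro_left _ he.symm).trans hN
    rcases arith hed he31 with h5 | h5
    · left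
      rw [h5, mul_one] at he
      have h6 : N ⊓ centralizer ({h} : Set G) = N := eq_of_le_of_card_ge inf_le_left he.le
      rw [mem_centralizer_iff]
      intro n hn
      rw [← h6] at hn
      exact mem_centralizer_singleton_iff.1 hn.2
    · right
      have h7 : Nat.card N ≤ 8835156 := Nat.le_of_dvd (by norm_num) hN
      have h8 : 0 < Nat.card ↥(N ⊓ centralizer ({h} : Set G)) := Nat.card_pos
      rw [h5] at he
      have h9 : Nat.card ↥(N ⊓ centralizer ({h} : Set G)) = 1 := by omega
      rw [h9, one_mul] at he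
      exact ⟨he, h9⟩
  -- an element of order 31 normalizing a Sylow 3-subgroup of `N`
  obtain ⟨P⟩ : Nonempty (Sylow 3 N) := inferInstance
  have hF := Sylow.normalizer_sup_eq_top P
  set B := normalizer (((P : Subgroup N).map N.subtype : Subgroup G) : Set G) with hB
  have hB31 : 31 ∣ Nat.card B := by
    have h1 : N.relIndex B = N.index := by
      rw [← relIndex_sup_right, hF, relIndex_top_right]
    have h2 : 31 ∣ N.index := by
      rw [← Subgroup.card_mul_index N] at h31
      exact ((Nat.Prime.dvd_mul (by norm_num)).1 h31).resolve_left hcop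
    rw [← h1] at h2
    exact h2.trans (relIndex_dvd_card _ _)
  obtain ⟨h, hh⟩ := exists_prime_orderOf_dvd_card' (G := B) 31 hB31
  have ho : orderOf (h : G) = 31 := by rw [Subgroup.orderOf_coe]; exact hh
  refine ⟨h, ho, ?_⟩
  rcases key h ho with h1 | ⟨h1, h2⟩
  · exact h1
  exfalso
  have h3 := fix_mod ((P : Subgroup N).map N.subtype) ho h.2
  have h4 : Nat.card ((P : Subgroup N).map N.subtype) = 81 := by
    rw [Nat.card_congr ((P : Subgroup N).equivMapOfInjective _ N.subtype_injective).toEquiv.symm]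
    rw [Sylow.card_eq_multiplicity, h1]
    have h0 : (8835156 : ℕ) = 3 ^ 4 * 109076 := by norm_num
    have h5 : Nat.factorization 8835156 3 = 4 := by
      rw [h0, Nat.factorization_mul (by norm_num) (by norm_num), Finsupp.add_apply,
        Nat.Prime.factorization_pow (by norm_num), Finsupp.single_eq_same,
        Nat.factorization_eq_zero_of_not_dvd (by norm_num)]
    rw [h5]
    norm_num
  have h5 : Nat.card ↥((P : Subgroup N).map N.subtype ⊓ centralizer ({(h : G)} : Set G)) = 1 := by
    have h6 : (P : Subgroup N).map N.subtype ⊓ centralizer ({(h : G)} : Set G) ≤ N ⊓ centralizer ({(h : G)} : Set G) :=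
      inf_le_inf_right _ (map_subtype_le _)
    have h7 := Nat.dvd_one.1 (h2 ▸ card_dvd_of_le h6)
    exact h7
  rw [h4, h5] at h3
  exact absurd h3 (by decide)

/-- the simplicity criterion -/
theorem simple_of (H : Subgroup G) (hs : IsSimpleGroup H) (hc : Nat.card H = 5859000000)
    (hi : H.index = 8835156) (hn : ∀ g : G, (∀ h ∈ H, g * h * g⁻¹ ∈ H) → g ∈ H)
    (htop : ∀ N : Subgroup G, N.Normal → H ≤ N → N = ⊤) : IsSimpleGroup G := by
  have hH : Nontrivial H := hs.toNontrivial
  have hnt : Nontrivial G := by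
    obtain ⟨a, b, hab⟩ := hH
    exact ⟨a, b, fun h => hab (Subtype.ext h)⟩
  have hcase : ∀ K : Subgroup G, K.Normal → H ⊓ K = ⊥ ∨ K = ⊤ := by
    intro K hK
    have h1 : (K.subgroupOf H).Normal := inferInstance
    rcases h1.eq_bot_or_eq_top with h2 | h2
    · left
      rw [subgroupOf_eq_bot] at h2
      rw [inf_comm]
      exact h2.eq_bot
    · right
      rw [subgroupOf_eq_top] at h2
      exact htop K hK h2
  have h31 : 31 ∣ Nat.card G := by
    have h1 : Nat.card H ∣ Nat.card G := card_subgroup_dvd_card H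
    rw [hc] at h1
    exact (by norm_num : 31 ∣ 5859000000).trans h1
  refine { exists_pair_ne := hnt.exists_pair_ne, eq_bot_or_eq_top_of_normal := ?_ }
  intro N hN
  rcases hcase N hN with h1 | h1
  swap
  · right; exact h1
  left
  have h2 := card_dvd_index H N h1
  rw [hi] at h2
  obtain ⟨h, ho, hcent⟩ := exists_cent h2 h31
  have hCn : (centralizer (N : Set G)).Normal := inferInstance
  have h3 : centralizer (N : Set G) = ⊤ := by
    rcases hcase _ hCn with h4 | h4
    · exfalso
      have h5 := card_dvd_index H (centralizer (N : Set G)) h4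
      rw [hi] at h5
      have h6 : orderOf h ∣ Nat.card (centralizer (N : Set G)) := by
        have := orderOf_dvd_natCard (⟨h, hcent⟩ : centralizer (N : Set G))
        rwa [← Subgroup.orderOf_coe] at this
      rw [ho] at h6
      exact absurd (h6.trans h5) (by norm_num)
    · exact h4
  rw [eq_bot_iff, ← h1]
  intro n hn'
  refine ⟨?_, hn'⟩
  apply hn
  intro k hk
  have h4 : k ∈ centralizer (N : Set G) := by rw [h3]; trivial
  rw [mem_centralizer_iff] at h4
  rw [h4 n hn', mul_inv_cancel_right]
  exact hk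

end Cfsg.Agent.Lib.LySim
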