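import Cfsg.Agent.Lib.LyUp3
import Cfsg.Agent.Lib.LyLow
import Cfsg.Agent.Lib.LySim

/-!
# The Lyons group: order, suborbits, simplicity
-/

set_option autoImplicit false
set_option linter.all false
set_option maxRecDepth 100000

namespace Cfsg.Agent.Lib.LyUp

open Cfsg.Spor Cfsg.Lie Cfsg.Agent.Lib.BenesWord
open Cfsg.Agent.Lib.LyPres Cfsg.Agent.Lib.LyG14P Cfsg.Agent.Lib.LyP2 Cfsg.Agent.Lib.LyUD
open Cfsg.Agent.Lib.LyH (Y θ θ_of relY HH range_θ cardH θ_inj ρ)
open Cfsg.Agent.Lib.Dce (ev Sg)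

/-- the index -/
theorem index_eq : HH.index = 8835156 := by
  haveI := finite_quot
  exact (LyLow.final Subgroup.index_ne_zero_of_finite index_le').1

/-- the order -/
theorem card_eq : Nat.card Ly = 51765179004000000 := by
  haveI := finite_quot
  exact (LyLow.final Subgroup.index_ne_zero_of_finite index_le').2.1

/-- the representation of degree 111 is faithful -/
theorem ρ_inj : Function.Injective ρ := by
  haveI := finite_quot
  exact (LyLow.final Subgroup.index_ne_zero_of_finite index_le').2.2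

instance : Finite Ly := finite_Ly

theorem mem_HH (p : P44) : θ p ∈ HH := by rw [← range_θ]; exact ⟨p, rfl⟩

/-- the double cosets -/
theorem cover (x : Ly) : ∃ i < 5, ∃ h ∈ HH, ∃ h' ∈ HH, x = h * g i * h' := by
  obtain ⟨p, i, hi, h⟩ := all_in.2.1 x
  exact ⟨i, hi, θ p, mem_HH p, _, h, by group⟩

/-- the sum of the indices is exactly the index -/
theorem sum_eq : ∑ i : Fin 5, (Sg xs fin.stab i).index = 8835156 := by
  apply le_antisymm sum_le
  rw [← index_eq]
  exact all_in.1.2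

theorem index_S : (Sg xs fin.stab 0).index = 1 ∧ (Sg xs fin.stab 1).index = 19530 ∧ (Sg xs fin.stab 2).index = 968750 ∧
    (Sg xs fin.stab 3).index = 2034375 ∧ (Sg xs fin.stab 4).index = 5812500 := by
  have h := sum_eq
  rw [Fin.sum_univ_five] at h
  have h' : (Sg xs fin.stab 0).index + (Sg xs fin.stab 1).index + (Sg xs fin.stab 2).index + (Sg xs fin.stab 3).index + (Sg xs fin.stab 4).index = 8835156 := h
  have i0 : (Sg xs fin.stab 0).index = 1 := by rw [S0_top, Subgroup.index_top]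
  have i1 := ix 1 0 S1_ge (by norm_num) (n := 19530) (by norm_num)
  have i2 := ix 2 0 S2_ge (by norm_num) (n := 968750) (by norm_num)
  have i3 := ix 3 0 S3_ge (by norm_num) (n := 2034375) (by norm_num)
  have i4 := ix 4 0 S4_ge (by norm_num) (n := 5812500) (by norm_num)
  omega

theorem card_S {i n r : ℕ} (h : (Sg xs fin.stab i).index = n) (hn : n * r = 5859000000) (h0 : 0 < n) : Nat.card (Sg xs fin.stab i) = r := by
  have h1 := (Sg xs fin.stab i).index_mul_card
  rw [h, cardP_eq, ← hn] at h1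
  exact Nat.eq_of_mul_eq_mul_left h0 h1

/-- the exact orders -/
theorem card_S0 : Nat.card (Sg xs fin.stab 0) = 5859000000 := card_S index_S.1 (by norm_num) (by norm_num)
theorem card_S1 : Nat.card (Sg xs fin.stab 1) = 300000 := card_S index_S.2.1 (by norm_num) (by norm_num)
theorem card_S2 : Nat.card (Sg xs fin.stab 2) = 6048 := card_S index_S.2.2.1 (by norm_num) (by norm_num)
theorem card_S3 : Nat.card (Sg xs fin.stab 3) = 2880 := card_S index_S.2.2.2.1 (by norm_num) (by norm_num)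
theorem card_S4 : Nat.card (Sg xs fin.stab 4) = 1008 := card_S index_S.2.2.2.2 (by norm_num) (by norm_num)

/-- the intersections -/
noncomputable def KK (i : ℕ) : Subgroup Ly := (Sg xs fin.stab i).map θ

theorem KK_le (i : ℕ) : KK i ≤ HH := by
  rintro _ ⟨p, _, rfl⟩
  exact mem_HH p

theorem KK_conj (i : ℕ) : KK i ≤ HH.map (MulAut.conj (g i)).toMonoidHom := by
  rintro _ ⟨p, hp, rfl⟩
  refine ⟨(g i)⁻¹ * θ p * g i, all_in.2.2 i p hp, ?_⟩
  show g i * ((g i)⁻¹ * θ p * g i) * (g i)⁻¹ = θ p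
  group

theorem card_KK (i : ℕ) : Nat.card (KK i) = Nat.card (Sg xs fin.stab i) :=
  (Nat.card_congr ((Sg xs fin.stab i).equivMapOfInjective θ θ_inj).toEquiv).symm

/-- the orbit map of the union of the double cosets is injective -/
theorem orbit_bij : Function.Bijective (fun z : Σ i : Fin 5, P44 ⧸ Sg xs fin.stab i => (Quotient.liftOn' z.2 (fun p => ((θ p * g z.1 : Ly) : Ly ⧸ HH)) (by
    intro a b hab
    rw [QuotientGroup.leftRel_apply] at hab
    apply QuotientGroup.eq.mpr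
    have h := all_in.2.2 z.1 _ hab
    rw [map_mul, map_inv] at h
    have e : (θ a * g z.1)⁻¹ * (θ b * g z.1) = (g z.1)⁻¹ * ((θ a)⁻¹ * θ b) * g z.1 := by group
    rw [e]; exact h) : Ly ⧸ HH)) := by
  haveI := finite_quot
  have hs : Function.Surjective (fun z : Σ i : Fin 5, P44 ⧸ Sg xs fin.stab i => (Quotient.liftOn' z.2 (fun p => ((θ p * g z.1 : Ly) : Ly ⧸ HH)) (by
    intro a b hab
    rw [QuotientGroup.leftRel_apply] at hab
    apply QuotientGroup.eq.mpr
    have h := all_in.2.2 z.1 _ hab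
    rw [map_mul, map_inv] at h
    have e : (θ a * g z.1)⁻¹ * (θ b * g z.1) = (g z.1)⁻¹ * ((θ a)⁻¹ * θ b) * g z.1 := by group
    rw [e]; exact h) : Ly ⧸ HH)) := by
    intro y
    obtain ⟨x, rfl⟩ := QuotientGroup.mk_surjective y
    obtain ⟨p, i, hi, h⟩ := all_in.2.1 x
    refine ⟨⟨⟨i, hi⟩, (p : P44 ⧸ Sg xs fin.stab i)⟩, ?_⟩
    show ((θ p * g i : Ly) : Ly ⧸ HH) = (x : Ly ⧸ HH)
    apply QuotientGroup.eq.mpr
    have e : (θ p * g i)⁻¹ * x = (g i)⁻¹ * (θ p)⁻¹ * x := by group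
    rw [e]; exact h
  apply hs.bijective_of_nat_card_le
  rw [Nat.card_sigma]
  have h1 : ∑ i : Fin 5, Nat.card (P44 ⧸ Sg xs fin.stab i) = 8835156 := sum_eq
  rw [h1]
  exact le_of_eq index_eq.symm

/-- the stabilizers of the points of the double cosets -/
theorem stab_eq {i : ℕ} (hi : i < 5) (p : P44) (h : (g i)⁻¹ * θ p * g i ∈ HH) : p ∈ Sg xs fin.stab i := by
  have hb := orbit_bij.1
  have h1 := @hb ⟨⟨i, hi⟩, ((p : P44) : P44 ⧸ Sg xs fin.stab i)⟩ ⟨⟨i, hi⟩, ((1 : P44) : P44 ⧸ Sg xs fin.stab i)⟩ (by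
    show ((θ p * g i : Ly) : Ly ⧸ HH) = ((θ 1 * g i : Ly) : Ly ⧸ HH)
    apply QuotientGroup.eq.mpr
    have e : (θ p * g i)⁻¹ * (θ 1 * g i) = ((g i)⁻¹ * θ p * g i)⁻¹ := by rw [map_one]; group
    rw [e]; exact HH.inv_mem h)
  have h2 := eq_of_heq ((Sigma.mk.injEq _ _ _ _).mp h1).2
  have h3 := QuotientGroup.eq.mp h2
  rw [mul_one] at h3
  simpa using (Sg xs fin.stab i).inv_mem h3

/-- points in different double cosets are different -/
theorem dc_ne {i j : ℕ} (hi : i < 5) (hj : j < 5) (p q : P44) (h : (θ p * g i)⁻¹ * (θ q * g j) ∈ HH) : i = j := by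
  have hb := orbit_bij.1
  have h1 := @hb ⟨⟨i, hi⟩, ((p : P44) : P44 ⧸ Sg xs fin.stab i)⟩ ⟨⟨j, hj⟩, ((q : P44) : P44 ⧸ Sg xs fin.stab j)⟩ (QuotientGroup.eq.mpr h)
  have h2 := ((Sigma.mk.injEq _ _ _ _).mp h1).1
  exact congrArg Fin.val h2

/-- the stabilizers -/
theorem KK_eq {i : ℕ} (hi : i < 5) : KK i = HH ⊓ HH.map (MulAut.conj (g i)).toMonoidHom := by
  apply le_antisymm (le_inf (KK_le i) (KK_conj i))
  rintro x ⟨hx, h, hh, e⟩
  have hx' : x ∈ θ.range := by rw [range_θ]; exact hx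
  obtain ⟨p, rfl⟩ := hx'
  refine ⟨p, stab_eq hi p ?_, rfl⟩
  have e' : g i * h * (g i)⁻¹ = θ p := e
  rw [← e']
  have : (g i)⁻¹ * (g i * h * (g i)⁻¹) * g i = h := by group
  rw [this]; exact hh

/-- the number of suborbits of given length: the intersections of `HH` with its conjugates -/
theorem inter_card {x : Ly} (hx : x ∉ HH) : Nat.card (HH ⊓ HH.map (MulAut.conj x).toMonoidHom : Subgroup Ly) = 300000 ∨
    Nat.card (HH ⊓ HH.map (MulAut.conj x).toMonoidHom : Subgroup Ly) = 6048 ∨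
    Nat.card (HH ⊓ HH.map (MulAut.conj x).toMonoidHom : Subgroup Ly) = 2880 ∨
    Nat.card (HH ⊓ HH.map (MulAut.conj x).toMonoidHom : Subgroup Ly) = 1008 := by
  obtain ⟨i, hi, h, hh, h', hh', e⟩ := cover x
  have h1 : (HH ⊓ HH.map (MulAut.conj x).toMonoidHom : Subgroup Ly) =
      (HH ⊓ HH.map (MulAut.conj (g i)).toMonoidHom).map (MulAut.conj h).toMonoidHom := by
    ext y
    constructor
    · rintro ⟨y1, z, hz, e2⟩
      have e2' : x * z * x⁻¹ = y := e2
      refine ⟨h⁻¹ * y * h, ⟨HH.mul_mem (HH.mul_mem (HH.inv_mem hh) y1) hh, h' * z * h'⁻¹, HH.mul_mem (HH.mul_mem hh' hz) (HH.inv_mem hh'), ?_⟩, ?_⟩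
      · show g i * (h' * z * h'⁻¹) * (g i)⁻¹ = h⁻¹ * y * h
        rw [← e2', e]; group
      · show h * (h⁻¹ * y * h) * h⁻¹ = y
        group
    · rintro ⟨y1, ⟨hy1, z, hz, e2⟩, e3⟩
      have e2' : g i * z * (g i)⁻¹ = y1 := e2
      have e3' : h * y1 * h⁻¹ = y := e3
      refine ⟨by rw [← e3']; exact HH.mul_mem (HH.mul_mem hh hy1) (HH.inv_mem hh), h'⁻¹ * z * h', HH.mul_mem (HH.mul_mem (HH.inv_mem hh') hz) hh', ?_⟩
      show x * (h'⁻¹ * z * h') * x⁻¹ = y
      rw [← e3', ← e2', e]; group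
  have h2 : Nat.card ((HH ⊓ HH.map (MulAut.conj (g i)).toMonoidHom).map (MulAut.conj h).toMonoidHom : Subgroup Ly) =
      Nat.card (HH ⊓ HH.map (MulAut.conj (g i)).toMonoidHom : Subgroup Ly) :=
    (Nat.card_congr ((HH ⊓ HH.map (MulAut.conj (g i)).toMonoidHom).equivMapOfInjective _ (MulAut.conj h).injective).toEquiv).symm
  rw [h1, h2, ← KK_eq hi, card_KK]
  interval_cases i
  · exfalso
    apply hx
    rw [e, g_zero, mul_one]
    exact HH.mul_mem hh hh'
  · exact Or.inl card_S1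
  · exact Or.inr (Or.inl card_S2)
  · exact Or.inr (Or.inr (Or.inl card_S3))
  · exact Or.inr (Or.inr (Or.inr card_S4))

/-- the subgroup is self-normalizing -/
theorem normalizer_HH (x : Ly) (h : ∀ y ∈ HH, x * y * x⁻¹ ∈ HH) : x ∈ HH := by
  by_contra hx
  have h1 : HH.map (MulAut.conj x).toMonoidHom = HH := by
    apply Subgroup.eq_of_le_of_card_ge
    · rintro _ ⟨y, hy, rfl⟩
      exact h y hy
    · exact le_of_eq (Nat.card_congr (HH.equivMapOfInjective _ (MulAut.conj x).injective).toEquiv)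
  have h2 := inter_card hx
  rw [h1, inf_idem, cardH] at h2
  omega

/-- a normal subgroup containing `HH` is everything -/
theorem top_of_HH (N : Subgroup Ly) (hN : N.Normal) (h : HH ≤ N) : N = ⊤ := by
  apply gen_all N (fun p => h (mem_HH p))
  -- `z = 1` modulo `N`
  have hY : ∀ c, (c = 0 ∨ c = 1 ∨ c = 2 ∨ c = 3 ∨ c = 5 ∨ c = 10 ∨ c = 11 ∨ c = 12 ∨ c = 13 ∨ c = 14) → Y c ∈ N := by
    intro c hc
    rw [← θ_of hc]; exact h (mem_HH _)
  have m9 : Y 9 ∈ N := by rw [← d9]; exact h (mem_HH _)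
  have m15 : Y 15 ∈ N := by rw [← d15]; exact h (mem_HH _)
  let π := QuotientGroup.mk' N
  have p9 : π (Y 9) = 1 := (QuotientGroup.eq_one_iff _).mpr m9
  have p15 : π (Y 15) = 1 := (QuotientGroup.eq_one_iff _).mpr m15
  have a := congrArg π k82
  rw [map_mul, map_pow, map_mul, p9, p15, one_mul, mul_one, map_one] at a
  have b := congrArg π z2
  rw [map_mul, p15] at b
  have c : π (Y 4) = 1 := by
    rw [pow_succ, pow_two, b, one_mul] at a
    exact a
  have d : Y 4 ∈ N := (QuotientGroup.eq_one_iff _).mp c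
  exact N.inv_mem d

/-- the Lyons group is simple -/
theorem simple : IsSimpleGroup Ly := by
  have hs : IsSimpleGroup HH := by
    obtain ⟨e⟩ := LyH.iso
    have := simple_G2
    have : Nontrivial HH := e.toEquiv.nontrivial
    exact IsSimpleGroup.isSimpleGroup_of_surjective e.symm.toMonoidHom e.symm.surjective
  exact LySim.simple_of HH hs cardH index_eq normalizer_HH top_of_HH

end Cfsg.Agent.Lib.LyUp
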