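import Cfsg.Agent.Lib.LyCntK
import Cfsg.Agent.Lib.LyCntX
import Cfsg.Agent.Lib.LyCntK1
import Cfsg.Agent.Lib.LyCntT
import Cfsg.Agent.Lib.LyUp4
import Cfsg.Agent.Lib.CentCount

/-!
# Centralizers in the Lyons group: upper bounds
-/

set_option autoImplicit false
set_option linter.all false
set_option maxRecDepth 100000

namespace Cfsg.Agent.Lib.LyCntG

open Cfsg.Spor Cfsg.Agent.Lib.LyPres Cfsg.Agent.Lib.M5 Cfsg.Agent.Lib.LyCntE Cfsg.Agent.Lib.LyCntR Cfsg.Agent.Lib.LyCntK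
open Cfsg.Agent.Lib.BenesPerm (force force_eq)
open Cfsg.Agent.Lib.LyG14P Cfsg.Agent.Lib.LyP2 Cfsg.Agent.Lib.LyUp Cfsg.Agent.Lib.LyUD
open Cfsg.Agent.Lib.LyH (Y θ θ_of HH range_θ cardH θ_inj)
open Cfsg.Agent.Lib.Dce (ev Sg Bs atD)
open Cfsg.Agent.Lib.LyCntX (xx)

/-! ### letters -/

/-- rows of the letters 0 - 29 -/
def L30 : List (List ℕ) := L7.map Prod.fst ++ L7.map Prod.snd

theorem L30_eq : ∀ c < 15, nthR L30 c = GG L7 c ∧ nthR L30 (c + 15) = GV L7 c := by decide +kernel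

theorem xb_rep {c : ℕ} (hc : c < 30) : RepR 7 (nthR L30 c) (R7 (xb c) : U7) := by
  by_cases h : c < 15
  · rw [xb_lt h, (L30_eq c h).1]
    have : R7 (LyP2.X c) = u7 c := R7_spec c
    rw [this]
    exact u7_rep h
  · obtain ⟨d, rfl⟩ : ∃ d, c = d + 15 := ⟨c - 15, by omega⟩
    have hd : d < 15 := by omega
    rw [xb_inv hd, (L30_eq d hd).2, map_inv]
    have : R7 (LyP2.X d) = u7 d := R7_spec d
    rw [this]
    exact u7_inv hd

theorem wdb_rep {m : ℕ} (w : List ℕ) (hw : ∀ b ∈ w, b < 30) {Z : ℕ} {M : Mt m} (hZ : Rep m 7 Z M) :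
    Rep m 7 (wdR (mkc 7 m) (m15 (m * 7)) L30 w Z) (M * ((R7 (ev xb w) : U7) : Mt 7)) := by
  induction w generalizing Z M with
  | nil => simpa [wdR] using hZ
  | cons b w ih =>
    have h : wdR (mkc 7 m) (m15 (m * 7)) L30 (b :: w) Z = force (mulR (mkc 7 m) (m15 (m * 7)) (nthR L30 b) Z) fun Z' =>
      wdR (mkc 7 m) (m15 (m * 7)) L30 w Z' := rfl
    rw [h, force_eq]
    have := ih (fun b hb => hw b (List.mem_cons_of_mem _ hb))
      (mulR_rep (by norm_num) (by norm_num) hZ (xb_rep (hw b List.mem_cons_self)))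
    rwa [Cfsg.Agent.Lib.Dce.ev_cons, map_mul, Units.val_mul, ← Matrix.mul_assoc]

/-- matrix of a word given by rows -/
noncomputable def chkW (w : List ℕ) (R : List ℕ) : Bool := cond (allLt 30 w) (cond (chkOne 7 R) (force (mkc0 7 7) fun mk => force (mm0 49) fun mm =>
  force (id0 7) fun id => Nat.beq (mulR mk mm R id) (wdR mk mm L30 w id)) false) false

theorem chkW_spec {w : List ℕ} {R : List ℕ} (h : chkW w R = true) : ((R7 (ev xb w) : U7) : Mt 7) = matR 7 R := by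
  obtain ⟨h0, h⟩ := cond_true' h
  obtain ⟨h1, h2⟩ := cond_true' h
  have hw := allLt_spec h0
  rw [force_eq, force_eq, force_eq, mkc0_eq (by norm_num), mm0_eq, id0_eq] at h2
  have h3 := Nat.eq_of_beq_eq_true h2
  have h5 := wdb_rep (m := 7) w hw (idX_rep 7)
  rw [Matrix.one_mul, show 7 * 7 = 49 by norm_num] at h5
  have h4 := hm77 (idX_rep 7) (repR_of h1)
  rw [h3, Matrix.one_mul] at h4
  exact h5.ext h4

/-- words of the macros against the generators of a chain -/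
noncomputable def chkWs (L : List Lvl) (k n : ℕ) : Bool := (List.range n).all fun j =>
  cond (Nat.blt j (hdS L).length) (chkW (atD [] wd (k + j)) (nthR (hdS L) j)) false

theorem cw2 : chkWs lvK2 10 4 = true := by decide +kernel
theorem cw3 : chkWs lvK3 14 5 = true := by decide +kernel
theorem cw4 : chkWs lvK4 19 3 = true := by decide +kernel

theorem chkWs_spec {L : List Lvl} {k n : ℕ} (h : chkWs L k n = true) {s : ℕ} (h1 : 30 + k ≤ s) (h2 : s < 30 + k + n) :
    ∃ S ∈ hdS L, ((R7 (xs s) : U7) : Mt 7) = matR 7 S := by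
  unfold chkWs at h
  rw [List.all_eq_true] at h
  have h3 := h (s - (30 + k)) (List.mem_range.mpr (by omega))
  obtain ⟨h4, h5⟩ := cond_true' h3
  refine ⟨nthR (hdS L) (s - (30 + k)), nthR_mem (by simpa [Nat.blt_eq] using h4), ?_⟩
  have h6 := chkW_spec h5
  rw [xs_ge (by omega)]
  have e : s - 30 = k + (s - (30 + k)) := by omega
  rw [e]; exact h6

theorem st2 : ∀ p ∈ fin.stab, p.1 = 2 → 40 ≤ p.2 ∧ p.2 < 44 := by decide +kernel
theorem st3 : ∀ p ∈ fin.stab, p.1 = 3 → 44 ≤ p.2 ∧ p.2 < 49 := by decide +kernel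
theorem st4 : ∀ p ∈ fin.stab, p.1 = 4 → 49 ≤ p.2 ∧ p.2 < 52 := by decide +kernel

theorem hA2 : ∀ a ∈ {g | ∃ s, (2, s) ∈ fin.stab ∧ g = xs s}, ∃ S ∈ hdS lvK2, ((R7 a : U7) : Mt 7) = matR 7 S := by
  rintro _ ⟨s, hs, rfl⟩
  have := st2 _ hs rfl
  exact chkWs_spec cw2 (by omega) (by omega)

theorem hA3 : ∀ a ∈ {g | ∃ s, (3, s) ∈ fin.stab ∧ g = xs s}, ∃ S ∈ hdS lvK3, ((R7 a : U7) : Mt 7) = matR 7 S := by
  rintro _ ⟨s, hs, rfl⟩
  have := st3 _ hs rfl
  exact chkWs_spec cw3 (by omega) (by omega)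

theorem hA4 : ∀ a ∈ {g | ∃ s, (4, s) ∈ fin.stab ∧ g = xs s}, ∃ S ∈ hdS lvK4, ((R7 a : U7) : Mt 7) = matR 7 S := by
  rintro _ ⟨s, hs, rfl⟩
  have := st4 _ hs rfl
  exact chkWs_spec cw4 (by omega) (by omega)

/-! ### the conditions -/

theorem tr_eq {M : Mt 7} {k : ℕ} (hk : k < 5) (h : M.trace = k) : tr7 (mkc 8 7) (pk M) = k := by
  have h1 := tr7_rep (rep_pk M)
  rw [h, ZMod.natCast_eq_natCast_iff'] at h1
  have h2 : tr7 (mkc 8 7) (pk M) < 5 := by rw [tr7_eq]; exact Nat.mod_lt _ (by norm_num)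
  omega

theorem cT_true {M : Mt 7} (h : M.trace = 4) (h2 : M * M = 1) : cT (mkc 7 7) (m15 49) (idX 7) (mkc 8 7) (pk M) = true := by
  have h1 := tr_eq (k := 4) (by norm_num) (by rw [h]; rfl)
  have h3 : cT (mkc 7 7) (m15 49) (idX 7) (mkc 8 7) (pk M) =
    cond (Nat.beq (tr7 (mkc 8 7) (pk M)) 4) (Nat.beq (mulR (mkc 7 7) (m15 49) (rwn 7 (pk M)) (pk M)) (idX 7)) false := rfl
  rw [h3, h1]
  have h4 := hm77 (rep_pk M) (rwn_rep (rep_pk M))
  rw [h2] at h4
  rw [h4.ext' (idX_rep 7)]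
  exact Nat.beq_refl _

theorem cX_true {M : Mt 7} (h : M.trace = 3) (h2 : M * M * M = 1) : cX (mkc 7 7) (m15 49) (idX 7) (mkc 8 7) (pk M) = true := by
  have h1 := tr_eq (k := 3) (by norm_num) (by rw [h]; rfl)
  have h3 : cX (mkc 7 7) (m15 49) (idX 7) (mkc 8 7) (pk M) =
    cond (Nat.beq (tr7 (mkc 8 7) (pk M)) 3) (Nat.beq (mulR (mkc 7 7) (m15 49) (rwn 7 (pk M)) (mulR (mkc 7 7) (m15 49) (rwn 7 (pk M)) (pk M))) (idX 7)) false := rfl
  rw [h3, h1]
  have h4 := hm77 (hm77 (rep_pk M) (rwn_rep (rep_pk M))) (rwn_rep (rep_pk M))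
  rw [h2] at h4
  rw [h4.ext' (idX_rep 7)]
  exact Nat.beq_refl _

theorem trace_conj (t h : P44) : ((R7 (h⁻¹ * t * h) : U7) : Mt 7).trace = ((R7 t : U7) : Mt 7).trace := by
  rw [map_mul, map_mul, Units.val_mul, Units.val_mul, Matrix.trace_mul_comm, ← Matrix.mul_assoc, ← Units.val_mul, ← map_mul,
    mul_inv_cancel, map_one, Units.val_one, Matrix.one_mul]

/-! ### the elements -/

/-- the involution -/
noncomputable def tt : P44 := X 0 ^ 4

theorem tt_word : tt = LyCntX.ew [0, 0, 0, 0] := by simp [tt, LyCntX.ew, LyCntX.x8, pow_succ, mul_assoc]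

theorem tt_sq : tt * tt = 1 := by
  have h := LyCntX.word_eq (u := [0, 0, 0, 0, 0, 0, 0, 0]) (w := []) (by decide) (by decide) (by decide +kernel)
  have e : tt * tt = LyCntX.ew [0, 0, 0, 0, 0, 0, 0, 0] := by
    simp [tt, LyCntX.ew, LyCntX.x8, pow_succ, mul_assoc]
  rw [e, h]; rfl

theorem tt_ne : tt ≠ 1 := by
  have h := LyCntX.word_ne (u := [0, 0, 0, 0]) (w := []) (by decide) (by decide) (by decide +kernel)
  rw [tt_word]; exact h

theorem xx_cube : xx * xx * xx = 1 := by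
  have h := LyCntX.word_eq (u := [0, 1, 4, 5, 0, 1, 4, 5, 0, 1, 4, 5]) (w := []) (by decide) (by decide) (by decide +kernel)
  have e : xx * xx * xx = LyCntX.ew [0, 1, 4, 5, 0, 1, 4, 5, 0, 1, 4, 5] := by
    rw [LyCntX.xx_word]
    simp [LyCntX.ew, LyCntX.x8, mul_assoc]
  rw [e, h]; rfl

theorem xx_ne : xx ≠ 1 := by
  have h := LyCntX.word_ne (u := [0, 1, 4, 5]) (w := []) (by decide) (by decide) (by decide +kernel)
  rw [LyCntX.xx_word]; exact h

/-- rows of the involution -/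
def rt : List ℕ := [0x4, 0x4000, 0x1000000, 0x1000000000, 0x1000000000000, 0x4000000000000000, 0x4000000000000000000]

theorem tt_mat : ((R7 tt : U7) : Mt 7) = matR 7 rt := by
  rw [tt_word]
  exact LyCntX.chkM_spec (by decide) (by decide +kernel)

/-- traces -/
noncomputable def chkTr : Bool := cond (eqK (matR 7 rt : Mt 7).trace 4) (eqK (matR 7 LyCntX.rx : Mt 7).trace 3) false

theorem chkTr_true : chkTr = true := by decide +kernel

theorem tt_tr : ((R7 tt : U7) : Mt 7).trace = 4 := by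
  rw [tt_mat]; exact of_decide_eq_true (cond_true' chkTr_true).1

theorem xx_tr : ((R7 xx : U7) : Mt 7).trace = 3 := by
  rw [LyCntX.xx_mat]; exact of_decide_eq_true (cond_true' chkTr_true).2

theorem conj_sq (h : P44) : (h⁻¹ * tt * h) * (h⁻¹ * tt * h) = 1 := by
  have : (h⁻¹ * tt * h) * (h⁻¹ * tt * h) = h⁻¹ * (tt * tt) * h := by group
  rw [this, tt_sq]; group

theorem conj_cube (h : P44) : (h⁻¹ * xx * h) * (h⁻¹ * xx * h) * (h⁻¹ * xx * h) = 1 := by
  have : (h⁻¹ * xx * h) * (h⁻¹ * xx * h) * (h⁻¹ * xx * h) = h⁻¹ * (xx * xx * xx) * h := by group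
  rw [this, xx_cube]; group

theorem cntT {L : List Lvl} (hL : rCh L = true) {n i : ℕ} (hT : rT L n = true)
    (hA : ∀ a ∈ {g | ∃ s, (i, s) ∈ fin.stab ∧ g = xs s}, ∃ S ∈ hdS L, ((R7 a : U7) : Mt 7) = matR 7 S) :
    {k : P44 | k ∈ Sg xs fin.stab i ∧ ∃ h, k = h⁻¹ * tt * h}.ncard ≤ n := by
  refine count_le R7 R7_inj (rCh_spec hL) _ hA _ (rT_spec hT) _ (fun k hk => hk.1) ?_
  rintro k ⟨-, h, rfl⟩
  apply cT_true
  · rw [trace_conj, tt_tr]
  · rw [← Units.val_mul, ← map_mul, conj_sq, map_one]; rfl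

theorem cntX {L : List Lvl} (hL : rCh L = true) {n i : ℕ} (hT : rX L n = true)
    (hA : ∀ a ∈ {g | ∃ s, (i, s) ∈ fin.stab ∧ g = xs s}, ∃ S ∈ hdS L, ((R7 a : U7) : Mt 7) = matR 7 S) :
    {k : P44 | k ∈ Sg xs fin.stab i ∧ ∃ h, k = h⁻¹ * xx * h}.ncard ≤ n := by
  refine count_le R7 R7_inj (rCh_spec hL) _ hA _ (rX_spec hT) _ (fun k hk => hk.1) ?_
  rintro k ⟨-, h, rfl⟩
  apply cX_true
  · rw [trace_conj, xx_tr]
  · rw [← Units.val_mul, ← Units.val_mul, ← map_mul, ← map_mul, conj_cube, map_one]; rfl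

/-! ### the first group -/

theorem LL_eq : LyCntK1.LL = Sg xs fin.stab 1 := by
  have m : ∀ s, (1, s) ∈ fin.stab → xs s ∈ Sg xs fin.stab 1 := fun s hs => Subgroup.subset_closure ⟨s, hs, rfl⟩
  have e30 : xs 30 = X 1 * X 0 * (X 1)⁻¹ := by
    rw [xs_ge (by norm_num)]
    have : atD [] wd (30 - 30) = [1, 0, 16] := rfl
    rw [this]
    simp only [Cfsg.Agent.Lib.Dce.ev_cons, Cfsg.Agent.Lib.Dce.ev_nil, mul_one]
    rw [xb_lt (by norm_num), xb_lt (by norm_num), xb_inv (c := 1) (by norm_num), mul_assoc]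
  have e31 : xs 31 = X 1 * X 1 * X 0 * (X 1)⁻¹ * (X 1)⁻¹ := by
    rw [xs_ge (by norm_num)]
    have : atD [] wd (31 - 30) = [1, 1, 0, 16, 16] := rfl
    rw [this]
    simp only [Cfsg.Agent.Lib.Dce.ev_cons, Cfsg.Agent.Lib.Dce.ev_nil, mul_one]
    rw [xb_lt (by norm_num), xb_lt (by norm_num), xb_inv (c := 1) (by norm_num)]
    simp only [mul_assoc]
  have ex : ∀ c < 15, xs c = X c := fun c hc => by rw [Cfsg.Agent.Lib.LyUp.xs_lt (by omega), xb_lt hc]
  have h1 : LyCntK1.LL ≤ Sg xs fin.stab 1 := by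
    unfold LyCntK1.LL
    rw [Subgroup.closure_le]
    intro y hy
    simp only [Set.mem_insert_iff, Set.mem_singleton_iff] at hy
    rcases hy with rfl | rfl | rfl | rfl | rfl | rfl | rfl | rfl
    · rw [← ex 10 (by norm_num)]; exact m 10 (by decide)
    · rw [← ex 11 (by norm_num)]; exact m 11 (by decide)
    · rw [← ex 12 (by norm_num)]; exact m 12 (by decide)
    · rw [← ex 13 (by norm_num)]; exact m 13 (by decide)
    · rw [← ex 14 (by norm_num)]; exact m 14 (by decide)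
    · rw [← ex 0 (by norm_num)]; exact m 0 (by decide)
    · rw [← e30]; exact m 30 (by decide)
    · rw [← e31]; exact m 31 (by decide)
  have h2 : Bs xs ph ≤ LyCntK1.LL := by
    unfold Cfsg.Agent.Lib.Dce.Bs
    rw [Subgroup.closure_le]
    rintro _ ⟨p, hp, rfl⟩
    have hs : ∀ p ∈ ph, p.1 = 10 ∨ p.1 = 11 ∨ p.1 = 12 ∨ p.1 = 13 ∨ p.1 = 14 ∨ p.1 = 0 ∨ p.1 = 30 ∨ p.1 = 31 := by decide
    rcases hs p hp with h | h | h | h | h | h | h | h <;> rw [h]
    · rw [ex 10 (by norm_num)]; exact Subgroup.subset_closure (by simp)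
    · rw [ex 11 (by norm_num)]; exact Subgroup.subset_closure (by simp)
    · rw [ex 12 (by norm_num)]; exact Subgroup.subset_closure (by simp)
    · rw [ex 13 (by norm_num)]; exact Subgroup.subset_closure (by simp)
    · rw [ex 14 (by norm_num)]; exact Subgroup.subset_closure (by simp)
    · rw [ex 0 (by norm_num)]; exact Subgroup.subset_closure (by simp)
    · rw [e30]; exact Subgroup.subset_closure (by simp)
    · rw [e31]; exact Subgroup.subset_closure (by simp)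
  apply Subgroup.eq_of_le_of_card_ge h1
  rw [card_S1, ← card_bs]
  exact Subgroup.card_le_of_le h2

theorem k1T : {k : P44 | k ∈ Sg xs fin.stab 1 ∧ ∃ h, k = h⁻¹ * tt * h}.ncard ≤ 1375 := by
  refine le_trans (Set.ncard_le_ncard ?_ (Set.toFinite _)) LyCntK1.count2
  rintro k ⟨hk, h, rfl⟩
  rw [← LL_eq] at hk
  refine ⟨hk, conj_sq h, ?_⟩
  intro h1
  apply tt_ne
  have : h * (h⁻¹ * tt * h) * h⁻¹ = tt := by group
  rw [← this, h1]; group

theorem k1X : {k : P44 | k ∈ Sg xs fin.stab 1 ∧ ∃ h, k = h⁻¹ * xx * h}.ncard ≤ 200 := by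
  refine le_trans (Set.ncard_le_ncard ?_ (Set.toFinite _)) LyCntK1.count3
  rintro k ⟨hk, h, rfl⟩
  rw [← LL_eq] at hk
  refine ⟨hk, ?_⟩
  apply orderOf_eq_prime
  · rw [pow_succ, pow_two]; exact conj_cube h
  · intro h1
    apply xx_ne
    have : h * (h⁻¹ * xx * h) * h⁻¹ = xx := by group
    rw [← this, h1]; group

/-! ### the bound -/

theorem conj_card (t : P44) : Nat.card (Subgroup.centralizer ({t} : Set P44)) * {k : P44 | ∃ h, k = h⁻¹ * t * h}.ncard = 5859000000 := by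
  have h1 : {k : P44 | ∃ h, k = h⁻¹ * t * h} = MulAction.orbit (ConjAct P44) t := by
    ext k
    rw [Set.mem_setOf_eq, MulAction.mem_orbit_iff]
    constructor
    · rintro ⟨h, rfl⟩
      exact ⟨ConjAct.toConjAct h⁻¹, by rw [ConjAct.toConjAct_smul, inv_inv]⟩
    · rintro ⟨h, rfl⟩
      exact ⟨(ConjAct.ofConjAct h)⁻¹, by rw [ConjAct.smul_def, inv_inv]⟩
  rw [h1, ← MulAction.index_stabilizer]
  have h2 := Subgroup.card_mul_index (MulAction.stabilizer (ConjAct P44) t)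
  have h3 : Nat.card (ConjAct P44) = 5859000000 := by
    rw [← cardP_eq]; exact Nat.card_congr ConjAct.ofConjAct.toEquiv
  rw [h3] at h2
  rw [← h2]
  congr 1
  rw [ConjAct.stabilizer_eq_centralizer]
  rfl

/-- general form -/
theorem bound (t : P44) {N : ℕ} (hN : Nat.card (Subgroup.centralizer ({t} : Set P44)) ≤ N) (c f : Fin 4 → ℕ)
    (hc : ∀ i : Fin 4, {k : P44 | k ∈ Sg xs fin.stab (i + 1) ∧ ∃ h, k = h⁻¹ * t * h}.ncard ≤ c i)
    (hf : ∀ i : Fin 4, N * c i ≤ f i * ![300000, 6048, 2880, 1008] i) :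
    Nat.card (Subgroup.centralizer ({θ t} : Set Ly)) ≤ N * (1 + (f 0 + f 1 + f 2 + f 3)) := by
  have hcent : Nat.card ↥(HH ⊓ Subgroup.centralizer ({θ t} : Set Ly)) = Nat.card (Subgroup.centralizer ({t} : Set P44)) := by
    have h1 : HH ⊓ Subgroup.centralizer ({θ t} : Set Ly) = (Subgroup.centralizer ({t} : Set P44)).map θ := by
      rw [← range_θ]
      ext y
      constructor
      · rintro ⟨⟨p, rfl⟩, hp⟩
        refine ⟨p, ?_, rfl⟩
        have h2 := Subgroup.mem_centralizer_singleton_iff.mp hp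
        apply Subgroup.mem_centralizer_singleton_iff.mpr
        apply θ_inj
        rw [map_mul, map_mul]; exact h2
      · rintro ⟨p, hp, rfl⟩
        refine ⟨⟨p, rfl⟩, Subgroup.mem_centralizer_singleton_iff.mpr ?_⟩
        rw [← map_mul, ← map_mul, Subgroup.mem_centralizer_singleton_iff.mp hp]
    rw [h1]
    exact (Nat.card_congr ((Subgroup.centralizer ({t} : Set P44)).equivMapOfInjective θ θ_inj).toEquiv).symm
  have hset : ∀ i : ℕ, Nat.card {k : Ly // k ∈ KK i ∧ ∃ h ∈ HH, k = h⁻¹ * θ t * h} =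
      {k : P44 | k ∈ Sg xs fin.stab i ∧ ∃ h, k = h⁻¹ * t * h}.ncard := by
    intro i
    have h1 : {k : Ly | k ∈ KK i ∧ ∃ h ∈ HH, k = h⁻¹ * θ t * h} = θ '' {k : P44 | k ∈ Sg xs fin.stab i ∧ ∃ h, k = h⁻¹ * t * h} := by
      ext y
      constructor
      · rintro ⟨⟨p, hp, rfl⟩, h, hh, e⟩
        rw [← range_θ] at hh
        obtain ⟨q, rfl⟩ := hh
        refine ⟨p, ⟨hp, q, θ_inj ?_⟩, rfl⟩
        rw [map_mul, map_mul, map_inv]; exact e
      · rintro ⟨p, ⟨hp, q, e⟩, rfl⟩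
        refine ⟨⟨p, hp, rfl⟩, θ q, mem_HH q, ?_⟩
        rw [e, map_mul, map_mul, map_inv]
    have h2 : Nat.card {k : Ly // k ∈ KK i ∧ ∃ h ∈ HH, k = h⁻¹ * θ t * h} = {k : Ly | k ∈ KK i ∧ ∃ h ∈ HH, k = h⁻¹ * θ t * h}.ncard := rfl
    rw [h2, h1, Set.ncard_image_of_injective _ θ_inj]
  have hrel : ∀ i : ℕ, (KK i).relIndex HH = (Sg xs fin.stab i).index := by
    intro i
    have h1 := Subgroup.relIndex_mul_relIndex ⊥ (KK i) HH bot_le (KK_le i)
    rw [Subgroup.relIndex_bot_left, Subgroup.relIndex_bot_left, card_KK, cardH] at h1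
    have h2 := (Sg xs fin.stab i).card_mul_index
    rw [cardP_eq] at h2
    exact Nat.eq_of_mul_eq_mul_left Nat.card_pos (h1.trans h2.symm)
  have h0 := Cfsg.Agent.Lib.CentCount.card_centralizer_le HH (fun i : Fin 5 => g i) (fun i => KK i)
    (fun i => le_inf (KK_le i) (KK_conj i))
    (fun x => by
      obtain ⟨i, hi, h, hh, h', hh', e⟩ := cover x
      exact ⟨⟨i, hi⟩, h, hh, h', hh', e⟩)
    (by
      rw [index_eq, ← sum_eq]
      exact le_of_eq (Finset.sum_congr rfl (fun i _ => hrel i)))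
    (mem_HH t) (Fin.cons {k : P44 | ∃ h, k = h⁻¹ * t * h}.ncard c) (Fin.cons 1 f)
    (by
      intro i
      rw [hset]
      refine Fin.cases ?_ (fun i => ?_) i
      · rw [Fin.cons_zero]
        exact Set.ncard_le_ncard (fun k hk => hk.2) (Set.toFinite _)
      · rw [Fin.cons_succ]
        exact hc i)
    (by
      intro i
      rw [hcent, card_KK]
      refine Fin.cases ?_ (fun i => ?_) i
      · rw [Fin.cons_zero, Fin.cons_zero, conj_card, one_mul]
        exact le_of_eq card_S0.symm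
      · rw [Fin.cons_succ, Fin.cons_succ]
        refine le_trans (Nat.mul_le_mul_right _ hN) (le_trans (hf i) ?_)
        apply Nat.mul_le_mul_left
        fin_cases i
        · exact le_of_eq card_S1.symm
        · exact le_of_eq card_S2.symm
        · exact le_of_eq card_S3.symm
        · exact le_of_eq card_S4.symm)
  rw [hcent] at h0
  refine h0.trans (le_trans (Nat.mul_le_mul_right _ hN) (Nat.mul_le_mul_left _ (le_of_eq ?_)))
  rw [Fin.sum_univ_succ, Fin.cons_zero, Fin.sum_univ_four]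
  rfl

/-- the centralizer of the element of order 3 -/
theorem card_cent_x : Nat.card (Subgroup.centralizer ({θ xx} : Set Ly)) ≤ 2694384000 := by
  have := bound xx LyCntX.card_cent ![200, 56, 20, 2] ![252, 3500, 2625, 750] (by
    intro i
    fin_cases i
    · exact k1X
    · exact cntX c2 x2' hA2
    · exact cntX c3 x3' hA3
    · exact cntX c4 x4' hA4) (by
    intro i
    fin_cases i <;> norm_num)
  refine this.trans (le_of_eq ?_)
  show 378000 * (1 + (252 + 3500 + 2625 + 750)) = 2694384000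
  norm_num

/-- the centralizer of the involution, given the bound in `G₂(5)` -/
theorem card_cent_t' (h : Nat.card (Subgroup.centralizer ({X 0 ^ 4} : Set P44)) ≤ 14400) :
    Nat.card (Subgroup.centralizer ({θ tt} : Set Ly)) ≤ 39916800 := by
  have := bound tt (N := 14400) h ![1375, 63, 211, 105] ![66, 150, 1055, 1500] (by
    intro i
    fin_cases i
    · exact k1T
    · exact cntT c2 t2' hA2
    · exact cntT c3 t3' hA3
    · exact cntT c4 t4' hA4) (by
    intro i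
    fin_cases i <;> norm_num)
  refine this.trans (le_of_eq ?_)
  show 14400 * (1 + (66 + 150 + 1055 + 1500)) = 39916800
  norm_num

theorem θ_xx : θ xx = Y 0 * Y 1 * (Y 0)⁻¹ * (Y 1)⁻¹ := by
  show θ (X 0 * X 1 * (X 0)⁻¹ * (X 1)⁻¹) = _
  rw [map_mul, map_mul, map_mul, map_inv, map_inv, θ_of (by omega), θ_of (by omega)]

theorem θ_tt : θ tt = Y 0 ^ 4 := by
  show θ (X 0 ^ 4) = _
  rw [map_pow, θ_of (by omega)]

/-- the centralizer of the element of order 3 -/
theorem cent_x : Nat.card (Subgroup.centralizer ({Y 0 * Y 1 * (Y 0)⁻¹ * (Y 1)⁻¹} : Set Ly)) ≤ 2694384000 := by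
  rw [← θ_xx]; exact card_cent_x

/-- the centralizer of the involution, given the bound in `G₂(5)` -/
theorem cent_t' (h : Nat.card (Subgroup.centralizer ({X 0 ^ 4} : Set P44)) ≤ 14400) :
    Nat.card (Subgroup.centralizer ({Y 0 ^ 4} : Set Ly)) ≤ 39916800 := by
  rw [← θ_tt]; exact card_cent_t' h

/-- the centralizer of the involution -/
theorem cent_t : Nat.card (Subgroup.centralizer ({Y 0 ^ 4} : Set Ly)) ≤ 39916800 := cent_t' LyCntT.card_cent

end Cfsg.Agent.Lib.LyCntG
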