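import Cfsg.Agent.Lib.DceFin
import Cfsg.Agent.Lib.BenesPack
import Cfsg.Agent.Lib.M5G

/-!
# Double coset enumeration with an arbitrary equality test and lanes of networks
-/

set_option autoImplicit false
set_option linter.all false

namespace Cfsg.Agent.Lib.LyE

open Cfsg.Agent.Lib.Dce Cfsg.Agent.Lib.BenesPerm Cfsg.Agent.Lib.BenesAct Cfsg.Agent.Lib.BenesWord

section defs
variable (eqv : List ℕ → List ℕ → Bool) (ph phI : List (ℕ × ℕ)) (iv : ℕ → ℕ)

/-- follow a path -/
def path (st : St) : List Tok → List Step → ℕ → List ℕ → Option (ℕ × List ℕ)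
  | [], _, i, e => some (i, e)
  | Tok.h w :: ts, ss, i, e => path st ts ss i (w ++ e)
  | Tok.t :: _, [], _, _ => none
  | Tok.t :: ts, s :: ss, i, e => match nthE st.edges s.f with
    | none => none
    | some E => match phw ph s.b with
      | none => none
      | some g => bif Nat.beq E.i i && (allS st.stab i s.s && eqv (e ++ s.s) (s.b ++ E.h)) then
          path st ts ss E.j (g ++ E.a) else none
  | Tok.T :: _, [], _, _ => none
  | Tok.T :: ts, s :: ss, i, e => match nthE st.edges s.f with
    | none => none
    | some E => match phw phI s.b with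
      | none => none
      | some g => bif Nat.beq E.j i && (allS st.stab i s.s && eqv (e ++ s.s) (s.b ++ E.a)) then
          path st ts ss E.i (g ++ E.h) else none

/-- new edge: `T (e c_i) = e' c_j` gives `T (h c_i) = a c_j` -/
def newEdge (st : St) (i : ℕ) (e : List ℕ) (j : ℕ) (e' h b s a s2 : List ℕ) : Option St :=
  match phw ph b with
  | none => none
  | some g => bif allS st.stab i s && (allS st.stab j s2 && (eqv (e ++ s) (b ++ h) && eqv (g ++ a) (e' ++ s2))) then
      some ⟨st.edges ++ [⟨i, h, j, a⟩], st.stab⟩ else none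

/-- check an item -/
def step (rels : List (List Tok)) (st : St) : Item → Option St
  | Item.edge r f i w fw bw h b s a s2 =>
    match (nthR rels r).drop f with
    | [] => none
    | k :: rest =>
      match path eqv ph phI st ((nthR rels r).take f) fw i w with
      | none => none
      | some p => match path eqv ph phI st (back iv rest) bw i w with
        | none => none
        | some q => match k with
          | Tok.h _ => none
          | Tok.t => newEdge eqv ph st p.1 p.2 q.1 q.2 h b s a s2
          | Tok.T => newEdge eqv ph st q.1 q.2 p.1 p.2 h b s a s2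
  | Item.stab r f i w fw bw s =>
      match path eqv ph phI st ((nthR rels r).take f) fw i w with
      | none => none
      | some p => match path eqv ph phI st (back iv ((nthR rels r).drop f)) bw i w with
        | none => none
        | some q => bif Nat.beq p.1 q.1 && eqv (q.2 ++ [s]) p.2 then
            some ⟨st.edges, st.stab ++ [(p.1, s)]⟩ else none
  | Item.inv i s s' => bif memP st.stab i s && eqv [s, s'] [] then
            some ⟨st.edges, st.stab ++ [(i, s')]⟩ else none

/-- check a list of items -/
def run (rels : List (List Tok)) : St → List Item → Option St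
  | st, [] => some st
  | st, it :: l => match step eqv ph phI iv rels st it with
    | none => none
    | some st' => run rels st' l

end defs

section sound
variable {P : Type*} [Group P] {xs : ℕ → P} {eqv : List ℕ → List ℕ → Bool}
variable {Y : Type*} {A : P →* Equiv.Perm Y} {T : Equiv.Perm Y} {c : ℕ → Y} {ph phI : List (ℕ × ℕ)} {iv : ℕ → ℕ}

variable (heq : ∀ u v, eqv u v = true → ev xs u = ev xs v)
  (hph : ∀ p ∈ ph, T * A (xs p.1) = A (xs p.2) * T) (hphI : ∀ p ∈ phI, T⁻¹ * A (xs p.1) = A (xs p.2) * T⁻¹)
include heq hph hphI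

theorem path_sound {st : St} (hst : Inv xs A T c st) (ts : List Tok) (ss : List Step) (i : ℕ) (e : List ℕ) {j : ℕ} {e' : List ℕ}
    (h : path eqv ph phI st ts ss i e = some (j, e')) : seqP xs A T ts (A (ev xs e) (c i)) = A (ev xs e') (c j) := by
  induction ts generalizing ss i e with
  | nil => simp only [path, Option.some.injEq, Prod.mk.injEq] at h; obtain ⟨rfl, rfl⟩ := h; simp [seqP]
  | cons k ts ih =>
    cases k with
    | h w =>
      simp only [path] at h
      have := ih ss i (w ++ e) h
      rw [ev_append, map_mul, Equiv.Perm.mul_apply] at this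
      simp only [seqP, Equiv.Perm.mul_apply, tokP]
      exact this
    | t =>
      cases ss with
      | nil => simp [path] at h
      | cons s ss =>
        simp only [path] at h
        cases hE : nthE st.edges s.f with
        | none => rw [hE] at h; simp at h
        | some E =>
          rw [hE] at h; simp only at h
          cases hg : phw ph s.b with
          | none => rw [hg] at h; simp at h
          | some g =>
            rw [hg] at h; simp only at h
            cases hc : (Nat.beq E.i i && (allS st.stab i s.s && eqv (e ++ s.s) (s.b ++ E.h))) with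
            | false => rw [hc] at h; simp at h
            | true =>
              rw [hc] at h; simp only [cond_true] at h
              simp only [Bool.and_eq_true, Nat.beq_eq] at hc
              obtain ⟨h1, h2, h3⟩ := hc
              have h4 := ih ss E.j (g ++ E.a) h
              have h5 := heq _ _ h3
              have h6 := allS_sound hst.2 h2
              have h7 := hst.1 E (nthE_mem hE)
              have h8 := phw_sound hph hg
              subst h1
              rw [← h4]
              simp only [seqP, Equiv.Perm.mul_apply, tokP]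
              congr 1
              have h9 : A (ev xs e) (c E.i) = A (ev xs s.b) (A (ev xs E.h) (c E.i)) := by
                rw [← Equiv.Perm.mul_apply, ← map_mul, ← ev_append, ← h5, ev_append, map_mul, Equiv.Perm.mul_apply, h6]
              rw [h9, ← Equiv.Perm.mul_apply T, h8, Equiv.Perm.mul_apply, h7, ev_append, map_mul, Equiv.Perm.mul_apply]
    | T =>
      cases ss with
      | nil => simp [path] at h
      | cons s ss =>
        simp only [path] at h
        cases hE : nthE st.edges s.f with
        | none => rw [hE] at h; simp at h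
        | some E =>
          rw [hE] at h; simp only at h
          cases hg : phw phI s.b with
          | none => rw [hg] at h; simp at h
          | some g =>
            rw [hg] at h; simp only at h
            cases hc : (Nat.beq E.j i && (allS st.stab i s.s && eqv (e ++ s.s) (s.b ++ E.a))) with
            | false => rw [hc] at h; simp at h
            | true =>
              rw [hc] at h; simp only [cond_true] at h
              simp only [Bool.and_eq_true, Nat.beq_eq] at hc
              obtain ⟨h1, h2, h3⟩ := hc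
              have h4 := ih ss E.i (g ++ E.h) h
              have h5 := heq _ _ h3
              have h6 := allS_sound hst.2 h2
              have h7 := hst.1 E (nthE_mem hE)
              have h8 := phw_sound hphI hg
              subst h1
              rw [← h4]
              simp only [seqP, Equiv.Perm.mul_apply, tokP]
              congr 1
              have h9 : A (ev xs e) (c E.j) = A (ev xs s.b) (A (ev xs E.a) (c E.j)) := by
                rw [← Equiv.Perm.mul_apply, ← map_mul, ← ev_append, ← h5, ev_append, map_mul, Equiv.Perm.mul_apply, h6]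
              have h10 : T⁻¹ (A (ev xs E.a) (c E.j)) = A (ev xs E.h) (c E.i) := by
                rw [Equiv.Perm.inv_eq_iff_eq, h7]
              rw [h9, ← Equiv.Perm.mul_apply T⁻¹, h8, Equiv.Perm.mul_apply, h10, ev_append, map_mul, Equiv.Perm.mul_apply]

theorem newEdge_sound {st st' : St} (hst : Inv xs A T c st) {i j : ℕ} {e e' h b s a s2 : List ℕ}
    (he : T (A (ev xs e) (c i)) = A (ev xs e') (c j)) (hn : newEdge eqv ph st i e j e' h b s a s2 = some st') :
    Inv xs A T c st' := by
  simp only [newEdge] at hn
  cases hg : phw ph b with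
  | none => rw [hg] at hn; simp at hn
  | some g =>
    rw [hg] at hn; simp only at hn
    cases hc : (allS st.stab i s && (allS st.stab j s2 && (eqv (e ++ s) (b ++ h) && eqv (g ++ a) (e' ++ s2)))) with
    | false => rw [hc] at hn; simp at hn
    | true =>
      rw [hc] at hn; simp only [cond_true, Option.some.injEq] at hn
      simp only [Bool.and_eq_true] at hc
      obtain ⟨h1, h2, h3, h4⟩ := hc
      have k1 := allS_sound hst.2 h1
      have k2 := allS_sound hst.2 h2
      have k3 := heq _ _ h3
      have k4 := heq _ _ h4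
      have k5 := phw_sound hph hg
      subst hn
      refine ⟨?_, hst.2⟩
      intro E hE
      rcases List.mem_append.mp hE with hE | hE
      · exact hst.1 E hE
      · rw [List.mem_singleton] at hE; subst hE
        simp only
        have h9 : A (ev xs e) (c i) = A (ev xs b) (A (ev xs h) (c i)) := by
          rw [← Equiv.Perm.mul_apply, ← map_mul, ← ev_append, ← k3, ev_append, map_mul, Equiv.Perm.mul_apply, k1]
        have h10 : A (ev xs e') (c j) = A (ev xs g) (A (ev xs a) (c j)) := by
          rw [← Equiv.Perm.mul_apply, ← map_mul, ← ev_append, k4, ev_append, map_mul, Equiv.Perm.mul_apply, k2]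
        rw [h9, ← Equiv.Perm.mul_apply T, k5, Equiv.Perm.mul_apply, h10] at he
        exact (A (ev xs g)).injective he

variable {rels : List (List Tok)} (hrels : ∀ r ∈ rels, seqP xs A T r = 1) {n0 : ℕ}
  (hiv : ∀ c < n0, xs (iv c) = (xs c)⁻¹) (hn0 : ∀ r ∈ rels, r.all (tokL n0) = true)
include hrels hiv hn0

theorem step_sound {st st' : St} (hst : Inv xs A T c st) {it : Item} (h : step eqv ph phI iv rels st it = some st') :
    Inv xs A T c st' := by
  cases it with
  | edge r f i w fw bw hh b s a s2 =>
    simp only [step] at h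
    obtain ⟨hr, hall⟩ := nthR_sound hrels hiv hn0 r f
    cases hd : (nthR rels r).drop f with
    | nil => rw [hd] at h; simp at h
    | cons k rest =>
      rw [hd] at h hr; simp only at h
      cases hp : path eqv ph phI st ((nthR rels r).take f) fw i w with
      | none => rw [hp] at h; simp at h
      | some p =>
        rw [hp] at h; simp only at h
        cases hq : path eqv ph phI st (back iv rest) bw i w with
        | none => rw [hq] at h; simp at h
        | some q =>
          rw [hq] at h; simp only at h
          obtain ⟨pi, pe⟩ := p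
          obtain ⟨qi, qe⟩ := q
          have h1 := path_sound heq hph hphI hst _ _ _ _ hp
          have h2 := path_sound heq hph hphI hst _ _ _ _ hq
          have hkl : (k :: rest).all (tokL n0) = true := by
            rw [← hd]
            rw [List.all_eq_true] at hall ⊢
            exact fun k hk => hall k (List.mem_of_mem_drop hk)
          have hk2 : rest.all (tokL n0) = true := by
            simp only [List.all_cons, Bool.and_eq_true] at hkl; exact hkl.2
          rw [seqP_back hiv _ hkl] at hr
          rw [seqP_back hiv _ hk2] at h2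
          have h3 : tokP xs A T k (A (ev xs pe) (c pi)) = A (ev xs qe) (c qi) := by
            rw [← h1, ← h2, ← hr]
            simp only [seqP, mul_inv_rev, Equiv.Perm.mul_apply]
            exact (tokP xs A T k).apply_symm_apply _
          cases k with
          | h w => simp at h
          | t => exact newEdge_sound heq hph hphI hst h3 h
          | T =>
            refine newEdge_sound heq hph hphI hst ?_ h
            simp only [tokP, Equiv.Perm.inv_eq_iff_eq] at h3
            exact h3.symm
  | stab r f i w fw bw s =>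
    simp only [step] at h
    obtain ⟨hr, hall⟩ := nthR_sound hrels hiv hn0 r f
    cases hp : path eqv ph phI st ((nthR rels r).take f) fw i w with
    | none => rw [hp] at h; simp at h
    | some p =>
      rw [hp] at h; simp only at h
      cases hq : path eqv ph phI st (back iv ((nthR rels r).drop f)) bw i w with
      | none => rw [hq] at h; simp at h
      | some q =>
        rw [hq] at h; simp only at h
        obtain ⟨pi, pe⟩ := p
        obtain ⟨qi, qe⟩ := q
        have h1 := path_sound heq hph hphI hst _ _ _ _ hp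
        have h2 := path_sound heq hph hphI hst _ _ _ _ hq
        cases hc : (Nat.beq pi qi && eqv (qe ++ [s]) pe) with
        | false => simp only [hc] at h; simp at h
        | true =>
          simp only [hc, cond_true, Option.some.injEq] at h
          simp only [Bool.and_eq_true, Nat.beq_eq] at hc
          obtain ⟨rfl, h4⟩ := hc
          have h5 := heq _ _ h4
          rw [hr, h1] at h2
          rw [← h5, ev_append, map_mul, Equiv.Perm.mul_apply] at h2
          have h6 := (A (ev xs qe)).injective h2
          subst h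
          refine ⟨hst.1, ?_⟩
          intro p hp'
          rcases List.mem_append.mp hp' with hp' | hp'
          · exact hst.2 p hp'
          · rw [List.mem_singleton] at hp'; subst hp'
            simpa using h6
  | inv i s s' =>
    simp only [step] at h
    cases hc : (memP st.stab i s && eqv [s, s'] []) with
    | false => simp only [hc] at h; simp at h
    | true =>
      simp only [hc, cond_true, Option.some.injEq] at h
      simp only [Bool.and_eq_true] at hc
      have h1 := hst.2 _ (memP_mem hc.1)
      have h2 := heq _ _ hc.2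
      subst h
      refine ⟨hst.1, ?_⟩
      intro p hp'
      rcases List.mem_append.mp hp' with hp' | hp'
      · exact hst.2 p hp'
      · rw [List.mem_singleton] at hp'; subst hp'
        simp only [ev_cons, ev_nil, mul_one] at h2 h1 ⊢
        have h3 : xs s' = (xs s)⁻¹ := (inv_eq_of_mul_eq_one_right h2).symm
        rw [h3, map_inv, Equiv.Perm.inv_eq_iff_eq]
        exact h1.symm

theorem run_sound {st st' : St} (hst : Inv xs A T c st) {l : List Item} (h : run eqv ph phI iv rels st l = some st') :
    Inv xs A T c st' := by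
  induction l generalizing st with
  | nil => simp only [run, Option.some.injEq] at h; subst h; exact hst
  | cons it l ih =>
    simp only [run] at h
    cases hs : step eqv ph phI iv rels st it with
    | none => rw [hs] at h; simp at h
    | some st1 =>
      rw [hs] at h; simp only at h
      exact ih (step_sound heq hph hphI hrels hiv hn0 hst hs) h

end sound

section upper
variable {P G : Type*} [Group P] [Group G] {xs : ℕ → P} {φ : P →* Equiv.Perm ℕ} {m : ℕ} {eqv : List ℕ → List ℕ → Bool}
  {ph phI : List (ℕ × ℕ)} {iv : ℕ → ℕ}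

variable (heq : ∀ u v, eqv u v = true → ev xs u = ev xs v)
include heq

/-- the upper bound -/
theorem upper_mainE [Finite P] (ψ : P →* G) (t : G) (K0 : Subgroup G)
    (hph : ∀ p ∈ ph, t * ψ (xs p.1) = ψ (xs p.2) * t) (hI : ∀ p ∈ phI, (p.2, p.1) ∈ ph)
    {rels : List (List Tok)} (hrels : ∀ r ∈ rels, seqG xs ψ t r = 1) {n0 : ℕ}
    (hiv : ∀ c < n0, xs (iv c) = (xs c)⁻¹) (hn0 : ∀ r ∈ rels, r.all (tokL n0) = true)
    (hgen : ∀ K : Subgroup G, (∀ p, ψ p ∈ K) → t ∈ K → K = ⊤)
    {init : List ℕ} (hK0 : ∀ s ∈ init, ψ (xs s) ∈ K0)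
    {ds : List (ℕ × List ℕ × Bool)} (g : ℕ → G) (hg0 : g 0 = 1)
    (hg : ∀ n (h : n < ds.length), g (n + 1) = (bif (ds[n]).2.2 then t⁻¹ else t) * (ψ (ev xs (ds[n]).2.1) * g (ds[n]).1))
    {its : List Item} {st : St}
    (hrun : run eqv ph phI iv rels ⟨defEdges 0 ds, init.map (fun s => (0, s))⟩ its = some st)
    {k pt mo : ℕ} (hk : 0 < k) (hj : jOk k st.edges = true)
    (hpt : pt < mo) (hm : ∀ g i, i < mo → φ g i < mo) (hcov : ∀ i < k, ∀ q < mo, Good xs φ mo st pt i q)
    (hB : ∀ g, φ g pt = pt → g ∈ Bs xs ph) :
    (Finite (G ⧸ K0) ∧ Nat.card (G ⧸ K0) ≤ ∑ i : Fin k, (Sg xs st.stab i).index) ∧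
      (∀ x : G, ∃ p i, i < k ∧ (g i)⁻¹ * (ψ p)⁻¹ * x ∈ K0) ∧ ∀ i, ∀ p ∈ Sg xs st.stab i, (g i)⁻¹ * ψ p * g i ∈ K0 := by
  let c : ℕ → G ⧸ K0 := fun i => (g i : G ⧸ K0)
  have hc0 : c 0 = ((1 : G) : G ⧸ K0) := by show ((g 0 : G) : G ⧸ K0) = _; rw [hg0]
  have hc : ∀ n (h : n < ds.length), c (n + 1) = (bif (ds[n]).2.2 then (MulAction.toPermHom G (G ⧸ K0) t)⁻¹ else MulAction.toPermHom G (G ⧸ K0) t)
      (((MulAction.toPermHom G (G ⧸ K0)).comp ψ) (ev xs (ds[n]).2.1) (c (ds[n]).1)) := by
    intro n h
    show ((g (n + 1) : G) : G ⧸ K0) = _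
    rw [hg n h]
    cases (ds[n]).2.2 with
    | true =>
      simp only [cond_true]
      rw [← map_inv]; rfl
    | false => rfl
  have hinv : Inv xs ((MulAction.toPermHom G (G ⧸ K0)).comp ψ) (MulAction.toPermHom G (G ⧸ K0) t) c
      ⟨defEdges 0 ds, init.map (fun s => (0, s))⟩ := by
    refine ⟨defEdges_spec 0 ds (fun j hj' => by rw [zero_add]; exact hc j hj'), ?_⟩
    intro p hp
    obtain ⟨s, hs, rfl⟩ := List.mem_map.mp hp
    show (MulAction.toPermHom G (G ⧸ K0)) (ψ (xs s)) (c 0) = c 0
    rw [hc0]
    show ψ (xs s) • ((1 : G) : G ⧸ K0) = ((1 : G) : G ⧸ K0)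
    rw [MulAction.Quotient.smul_coe, smul_eq_mul, mul_one]
    exact QuotientGroup.eq.mpr (by simpa using hK0 s hs)
  have hph' : ∀ p ∈ ph, MulAction.toPermHom G (G ⧸ K0) t * ((MulAction.toPermHom G (G ⧸ K0)).comp ψ) (xs p.1) =
      ((MulAction.toPermHom G (G ⧸ K0)).comp ψ) (xs p.2) * MulAction.toPermHom G (G ⧸ K0) t := by
    intro p hp
    simp only [MonoidHom.comp_apply, ← map_mul, hph p hp]
  have hphI' : ∀ p ∈ phI, (MulAction.toPermHom G (G ⧸ K0) t)⁻¹ * ((MulAction.toPermHom G (G ⧸ K0)).comp ψ) (xs p.1) =
      ((MulAction.toPermHom G (G ⧸ K0)).comp ψ) (xs p.2) * (MulAction.toPermHom G (G ⧸ K0) t)⁻¹ := by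
    intro p hp
    have := hph' _ (hI p hp)
    simp only at this
    rw [inv_mul_eq_iff_eq_mul, ← mul_assoc, this, mul_inv_cancel_right]
  have hst := run_sound heq hph' hphI' (rels := rels) (fun r hr => by
    rw [seqP_seqG, hrels r hr, map_one]) hiv hn0 hinv hrun
  have hs := surj (k := k) hst hph' hm hpt hcov hB (fun E hE => (jOk_spec hj E hE).2) hk (by
    intro S h0 hP hT hTi y
    obtain ⟨g, rfl⟩ := QuotientGroup.mk_surjective y
    let K : Subgroup G :=
      { carrier := {g | (∀ y ∈ S, g • y ∈ S) ∧ ∀ y ∈ S, g⁻¹ • y ∈ S}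
        one_mem' := by simp
        mul_mem' := by
          rintro a b ⟨ha, ha'⟩ ⟨hb, hb'⟩
          exact ⟨fun y hy => by rw [mul_smul]; exact ha _ (hb _ hy), fun y hy => by rw [mul_inv_rev, mul_smul]; exact hb' _ (ha' _ hy)⟩
        inv_mem' := by
          rintro a ⟨ha, ha'⟩
          exact ⟨ha', fun y hy => by rw [inv_inv]; exact ha y hy⟩ }
    have hK : K = ⊤ := hgen K (fun p => ⟨fun y hy => hP p y hy, fun y hy => by
      rw [← map_inv]; exact hP p⁻¹ y hy⟩) ⟨fun y hy => hT y hy, fun y hy => by
      have := hTi y hy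
      rwa [← map_inv] at this⟩
    have hg : g ∈ K := by rw [hK]; trivial
    have := hg.1 (c 0) h0
    rw [hc0] at this
    have h3 : g • ((1 : G) : G ⧸ K0) = (g : G ⧸ K0) := by
      rw [MulAction.Quotient.smul_coe, smul_eq_mul, mul_one]
    rwa [h3] at this)
  refine ⟨card_le hst.2 hs, ?_, ?_⟩
  · intro x
    obtain ⟨p, i, hi, h⟩ := hs (x : G ⧸ K0)
    refine ⟨p, i, hi, ?_⟩
    have h1 : ((ψ p * g i : G) : G ⧸ K0) = ((x : G) : G ⧸ K0) := h.symm
    have h2 := QuotientGroup.eq.mp h1
    rwa [mul_inv_rev] at h2
  · intro i p hp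
    have h1 := Sg_fix hst.2 hp
    have h2 : ((ψ p * g i : G) : G ⧸ K0) = ((g i : G) : G ⧸ K0) := h1
    have h3 := QuotientGroup.eq.mp h2.symm
    rwa [← mul_assoc] at h3

end upper

/-! ### the equality test by matrices -/

section mat
open Cfsg.Agent.Lib.M5

/-- evaluate a word -/
noncomputable def evl (rows : ℕ → List ℕ) (mk mm : ℕ) (w : List ℕ) : ℕ → ℕ :=
  List.rec (motive := fun _ => ℕ → ℕ) (fun X => X) (fun c _ ih X => force (mulR mk mm (rows c) X) ih) w

/-- compare two words -/
noncomputable def eqM (n L : ℕ) (rows : ℕ → List ℕ) (u v : List ℕ) : Bool :=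
  force (mkc0 n n) fun mk => force (mm0 (Nat.mul n n)) fun mm => force (id0 n) fun id =>
    bandK (Dce.lets L u) (bandK (Dce.lets L v) (force (evl rows mk mm u id) fun x => Nat.beq x (evl rows mk mm v id)))

variable {P : Type*} [Group P] {xs : ℕ → P} {n L : ℕ} {rows : ℕ → List ℕ} {R : P →* (Matrix (Fin n) (Fin n) (ZMod 5))ˣ}

theorem evl_rep (hn : 0 < n) (hn2 : n ≤ 200) (hr : ∀ c < L, RepR n (rows c) (R (xs c) : (Matrix (Fin n) (Fin n) (ZMod 5))ˣ))
    (w : List ℕ) (hw : Dce.lets L w = true) {X : ℕ} {M : Matrix (Fin n) (Fin n) (ZMod 5)} (hX : Rep n n X M) :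
    Rep n n (evl rows (mkc n n) (m15 (n * n)) w X) (M * ((R (ev xs w) : (Matrix (Fin n) (Fin n) (ZMod 5))ˣ) : Matrix (Fin n) (Fin n) (ZMod 5))) := by
  induction w generalizing X M with
  | nil => rw [ev_nil, map_one, Units.val_one, mul_one]; exact hX
  | cons c w ih =>
    simp only [Dce.lets, Bool.and_eq_true, Nat.blt_eq] at hw
    have e : evl rows (mkc n n) (m15 (n * n)) (c :: w) X = force (mulR (mkc n n) (m15 (n * n)) (rows c) X) (evl rows (mkc n n) (m15 (n * n)) w) := rfl
    rw [e, force_eq, ev_cons, map_mul, Units.val_mul, ← mul_assoc]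
    exact ih hw.2 (mulR_rep hn hn2 hX (hr c hw.1))

theorem eqM_sound (hn : 0 < n) (hn2 : n ≤ 200) (hr : ∀ c < L, RepR n (rows c) (R (xs c) : (Matrix (Fin n) (Fin n) (ZMod 5))ˣ))
    (hR : Function.Injective R) (u v : List ℕ) (h : eqM n L rows u v = true) : ev xs u = ev xs v := by
  unfold eqM at h
  rw [force_eq, force_eq, force_eq, bandK_eq_true, bandK_eq_true, force_eq, mkc0_eq hn, mm0_eq, id0_eq] at h
  obtain ⟨h1, h2, h3⟩ := h
  have k1 := evl_rep hn hn2 hr u h1 (idX_rep n)
  have k2 := evl_rep hn hn2 hr v h2 (idX_rep n)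
  rw [one_mul] at k1 k2
  have h3' : evl rows (mkc n n) (m15 (n * n)) u (idX n) = evl rows (mkc n n) (m15 (n * n)) v (idX n) := Nat.eq_of_beq_eq_true h3
  rw [h3'] at k1
  exact hR (Units.ext (k1.ext k2))

end mat

/-! ### lanes -/

section lanes
variable {P : Type*} [Group P] {xs : ℕ → P} {φ : P →* Equiv.Perm ℕ} {ns : List Net} {fl : List ℕ → List ℕ} {L : ℕ}

/-- lanes of the edges leaving a point -/
noncomputable def rootS (ns : List Net) (fl : List ℕ → List ℕ) (L i : ℕ) : List Edge → ℕ → ℕ
  | [], S => S
  | E :: l, S => Bool.rec (motive := fun _ => ℕ) (rootS ns fl L i l S)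
      (walkK ns (fl E.h) 1 (fun V => force (Nat.lor S V) (fun S' => rootS ns fl L i l S'))) (bandK (Nat.beq E.i i) (Dce.lets L E.h))

/-- all words consist of stabilizing letters -/
def allSt (st : List (ℕ × ℕ)) (L i : ℕ) : List (List ℕ) → Bool
  | [] => true
  | w :: l => (allS st i w && Dce.lets L w) && allSt st L i l

/-- coverage check -/
noncomputable def covE (ns : List Net) (fl : List ℕ → List ℕ) (L m : ℕ) (st : St) (i : ℕ) (steps : List (List ℕ)) : Bool :=
  bandK (allSt st.stab L i steps) (force (rootS ns fl L i st.edges 0) fun S => reachK ns (steps.map fl) S (fun V => Nat.beq V (Nat.sub (Nat.pow 2 m) 1)))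

theorem allSt_spec {st : List (ℕ × ℕ)} {L i : ℕ} {l : List (List ℕ)} (h : allSt st L i l = true) :
    ∀ w ∈ l, allS st i w = true ∧ Dce.lets L w = true := by
  induction l with
  | nil => intro w hw; simp at hw
  | cons a l ih =>
    simp only [allSt, Bool.and_eq_true] at h
    intro w hw
    rcases List.mem_cons.mp hw with rfl | hw
    · exact h.1
    · exact ih h.2 w hw

variable (hok : ∀ c, (netOf ns c).OK) (hw : ∀ w, Dce.lets L w = true → ∀ k, φ (ev xs w) k = wfn ns (fl w) k)
include hok hw

theorem testBit_one' (j : ℕ) : Nat.testBit 1 j = true ↔ j = 0 := by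
  rw [show (1 : ℕ) = 2 ^ 0 from rfl, Nat.testBit_two_pow, decide_eq_true_eq, eq_comm]

theorem rootS_sound {i : ℕ} (l : List Edge) (S : ℕ) (q : ℕ) (h : (rootS ns fl L i l S).testBit q = true) :
    S.testBit q = true ∨ ∃ E ∈ l, E.i = i ∧ φ (ev xs E.h) q = 0 := by
  induction l generalizing S with
  | nil => exact Or.inl h
  | cons E l ih =>
    unfold rootS at h
    cases hc : bandK (Nat.beq E.i i) (Dce.lets L E.h) with
    | false =>
      rw [hc] at h
      rcases ih S h with h | ⟨E', h1, h2, h3⟩
      · exact Or.inl h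
      · exact Or.inr ⟨E', List.mem_cons_of_mem _ h1, h2, h3⟩
    | true =>
      rw [hc] at h
      rw [bandK_eq_true] at hc
      have h' : (walkK ns (fl E.h) 1 (fun V => force (Nat.lor S V) (fun S' => rootS ns fl L i l S'))).testBit q = true := h
      rw [walkK_eq, force_eq] at h'
      rcases ih _ h' with h | ⟨E', h1, h2, h3⟩
      · have h4 : (S ||| appW ns (fl E.h) 1).testBit q = true := h
        rw [Nat.testBit_or, Bool.or_eq_true] at h4
        rcases h4 with h4 | h4
        · exact Or.inl h4
        · rw [testBit_appW hok, testBit_one' hok hw, ← hw _ hc.2] at h4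
          exact Or.inr ⟨E, List.mem_cons_self, Nat.eq_of_beq_eq_true hc.1, h4⟩
      · exact Or.inr ⟨E', List.mem_cons_of_mem _ h1, h2, h3⟩

theorem covE_sound {m : ℕ} {st : St} {i : ℕ} {steps : List (List ℕ)} (h : covE ns fl L m st i steps = true) :
    ∀ q < m, Good xs φ m st 0 i q := by
  unfold covE at h
  rw [bandK_eq_true, force_eq, reachK_eq] at h
  obtain ⟨h1, h2⟩ := h
  have h3 := allSt_spec h1
  intro q hq
  have key := reach_subset hok (O := fun q => Good xs φ m st 0 i q) (steps.map fl) (by
    intro w hw' j hj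
    obtain ⟨v, hv, rfl⟩ := List.mem_map.mp hw'
    obtain ⟨k1, k2⟩ := h3 v hv
    rw [← hw v k2] at hj
    obtain ⟨E, e1, e2, q0, e3, g, e4, e5⟩ := hj
    refine ⟨E, e1, e2, q0, e3, (ev xs v)⁻¹ * g, Subgroup.mul_mem _ (Subgroup.inv_mem _ (allS_mem k1)) e4, ?_⟩
    rw [map_mul, map_inv, Equiv.Perm.mul_apply, e5]
    exact (φ (ev xs v)).symm_apply_apply j) (rootS ns fl L i st.edges 0) (by
    intro j hj
    rcases rootS_sound hok hw _ _ _ hj with h | ⟨E, e1, e2, e3⟩
    · simp at h
    · exact ⟨E, e1, e2, j, e3, 1, Subgroup.one_mem _, by simp⟩)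
  apply key q
  have h4 : reach ns (steps.map fl) (rootS ns fl L i st.edges 0) = 2 ^ m - 1 := Nat.eq_of_beq_eq_true h2
  rw [h4, Nat.testBit_two_pow_sub_one]
  exact decide_eq_true hq

/-- an orbit is at least as large as the set of lanes reached -/
theorem orb_le [Finite P] {k : ℕ} (K : Subgroup P) (b : ℕ) (steps : List (List ℕ)) (hs : ∀ w ∈ steps, Dce.lets L w = true ∧ ev xs w ∈ K) :
    popK k (reach ns (steps.map fl) (2 ^ b)) * Nat.card (fixL φ K [b]) ≤ Nat.card K := by
  have key := reach_subset hok (O := fun q => ∃ g ∈ K, φ g b = q) (steps.map fl) (by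
    intro w hw' j hj
    obtain ⟨v, hv, rfl⟩ := List.mem_map.mp hw'
    obtain ⟨k1, k2⟩ := hs v hv
    rw [← hw v k1] at hj
    obtain ⟨g, g1, g2⟩ := hj
    refine ⟨(ev xs v)⁻¹ * g, K.mul_mem (K.inv_mem k2) g1, ?_⟩
    rw [map_mul, map_inv, Equiv.Perm.mul_apply, g2]
    exact (φ (ev xs v)).symm_apply_apply j) (2 ^ b) (by
    intro j hj
    rw [Nat.testBit_two_pow, decide_eq_true_eq] at hj
    exact ⟨1, K.one_mem, by simpa using hj⟩)
  rw [popK_eq]
  exact card_step K b _ (fun q hq => key q (Finset.mem_filter.mp hq).2)

/-- all words fix a lane -/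
theorem fix_of_app {w : List ℕ} (hl : Dce.lets L w = true) {p : ℕ} (h : appW ns (fl w) (2 ^ p) = 2 ^ p) : φ (ev xs w) p = p := by
  have h1 := congrArg (fun x => Nat.testBit x p) h
  simp only [testBit_appW hok, Nat.testBit_two_pow_self] at h1
  rw [Nat.testBit_two_pow, decide_eq_true_eq] at h1
  rw [hw w hl]; exact h1.symm

end lanes

end Cfsg.Agent.Lib.LyE
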