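import Cfsg.Agent.Lib.CosetGroup
import Cfsg.Agent.Lib.LyRel
import Cfsg.Agent.Lib.LyGL


/-!
# Groups presented by words; the group of order at most 1500000
-/

set_option autoImplicit false
set_option linter.all false

namespace Cfsg.Agent.Lib.LyPres

open Cfsg.Agent.Lib.BenesWord

/-! ### presentations -/

/-- relators -/
def relSet (ng : ℕ) (rels : List Wd) : Set (FreeGroup ℕ) :=
  {r | ∃ W ∈ rels, r = W.eval FreeGroup.of} ∪ {r | ∃ c, ng ≤ c ∧ r = FreeGroup.of c}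

/-- the group presented by words; letters from `ng` on are trivial -/
abbrev WP (ng : ℕ) (rels : List Wd) : Type := PresentedGroup (relSet ng rels)

/-- letters -/
def wx (ng : ℕ) (rels : List Wd) (c : ℕ) : WP ng rels := PresentedGroup.of c

theorem wx_rel {ng : ℕ} {rels : List Wd} : ∀ W ∈ rels, W.eval (wx ng rels) = 1 := by
  intro W hW
  have h : (PresentedGroup.mk (relSet ng rels)) (W.eval FreeGroup.of) = W.eval (wx ng rels) := Wd.map_eval _ _ W
  rw [← h]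
  exact PresentedGroup.one_of_mem (Or.inl ⟨W, hW, rfl⟩)

theorem wx_ge {ng : ℕ} {rels : List Wd} {c : ℕ} (hc : ng ≤ c) : wx ng rels c = 1 :=
  PresentedGroup.one_of_mem (Or.inr ⟨c, hc, rfl⟩)

theorem wx_hom {ng : ℕ} {rels : List Wd} {K : Type*} [Group K] (y : ℕ → K) (h : ∀ W ∈ rels, W.eval y = 1)
    (h' : ∀ c, ng ≤ c → y c = 1) : ∃ φ : WP ng rels →* K, ∀ c, φ (wx ng rels c) = y c := by
  refine ⟨PresentedGroup.toGroup (f := y) ?_, fun c => PresentedGroup.toGroup.of _⟩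
  rintro r (⟨W, hW, rfl⟩ | ⟨c, hc, rfl⟩)
  · rw [Wd.map_eval]
    simp only [FreeGroup.lift_apply_of]
    exact h W hW
  · rw [FreeGroup.lift_apply_of]; exact h' c hc

theorem wx_top (ng : ℕ) (rels : List Wd) : Subgroup.closure (Set.range (wx ng rels)) = ⊤ :=
  PresentedGroup.closure_range_of _

/-! ### bounds -/

section ext
variable {G : Type*} [Group G]

theorem conj_cl {S : Set G} {g : G} (hg : ∀ s ∈ S, g * s * g⁻¹ ∈ Subgroup.closure S) : ∀ k ∈ Subgroup.closure S, g * k * g⁻¹ ∈ Subgroup.closure S := by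
  intro k hk
  induction hk using Subgroup.closure_induction with
  | mem x hx => exact hg x hx
  | one => simp
  | mul x y _ _ hx hy =>
    have : g * (x * y) * g⁻¹ = (g * x * g⁻¹) * (g * y * g⁻¹) := by group
    rw [this]; exact mul_mem hx hy
  | inv x _ hx =>
    have : g * x⁻¹ * g⁻¹ = (g * x * g⁻¹)⁻¹ := by group
    rw [this]; exact inv_mem hx

theorem ext_bound {S : Set G} {g : G} {n : ℕ} (h : Finite (Subgroup.closure S) ∧ Nat.card (Subgroup.closure S) ≤ n)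
    (hg : ∀ s ∈ S, g * s * g⁻¹ ∈ Subgroup.closure S) (h5 : g ^ 5 = 1) :
    Finite (Subgroup.closure (insert g S)) ∧ Nat.card (Subgroup.closure (insert g S)) ≤ 5 * n := by
  obtain ⟨hf, hn⟩ := h
  set K := Subgroup.closure S with hK
  have hc := conj_cl hg
  have hcn : ∀ i : ℕ, ∀ k ∈ K, g ^ i * k * (g ^ i)⁻¹ ∈ K := by
    intro i
    induction i with
    | zero => intro k hk; simpa using hk
    | succ i ih =>
      intro k hk
      have : g ^ (i + 1) * k * (g ^ (i + 1))⁻¹ = g * (g ^ i * k * (g ^ i)⁻¹) * g⁻¹ := by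
        rw [pow_succ']; group
      rw [this]; exact hc _ (ih k hk)
  have hmem : ∀ x ∈ Subgroup.closure (insert g S), ∃ k ∈ K, ∃ i : Fin 5, x = k * g ^ (i : ℕ) := by
    have hr : ∀ (k : G) (i : ℕ), k ∈ K → ∃ k' ∈ K, ∃ j : Fin 5, k * g ^ i = k' * g ^ (j : ℕ) := by
      intro k i hk
      refine ⟨k, hk, ⟨i % 5, Nat.mod_lt _ (by norm_num)⟩, ?_⟩
      show k * g ^ i = k * g ^ (i % 5)
      conv_lhs => rw [← Nat.mod_add_div i 5, pow_add, pow_mul, h5, one_pow, mul_one]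
    intro x hx
    induction hx using Subgroup.closure_induction with
    | mem x hx =>
      rcases hx with rfl | hx
      · exact ⟨1, K.one_mem, ⟨1, by norm_num⟩, by simp⟩
      · exact ⟨x, Subgroup.subset_closure hx, ⟨0, by norm_num⟩, by simp⟩
    | one => exact ⟨1, K.one_mem, ⟨0, by norm_num⟩, by simp⟩
    | mul x y _ _ hx hy =>
      obtain ⟨k, hk, i, rfl⟩ := hx
      obtain ⟨l, hl, j, rfl⟩ := hy
      have e : k * g ^ (i : ℕ) * (l * g ^ (j : ℕ)) = (k * (g ^ (i : ℕ) * l * (g ^ (i : ℕ))⁻¹)) * g ^ ((i : ℕ) + j) := by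
        rw [pow_add]; group
      rw [e]
      exact hr _ _ (K.mul_mem hk (hcn _ _ hl))
    | inv x _ hx =>
      obtain ⟨k, hk, i, rfl⟩ := hx
      have e1 : (g ^ (i : ℕ))⁻¹ = g ^ (4 * (i : ℕ)) := by
        rw [inv_eq_iff_mul_eq_one, ← pow_add]
        have : (i : ℕ) + 4 * i = 5 * i := by ring
        rw [this, pow_mul, h5, one_pow]
      have e : (k * g ^ (i : ℕ))⁻¹ = (g ^ (4 * (i : ℕ)) * k⁻¹ * (g ^ (4 * (i : ℕ)))⁻¹) * g ^ (4 * (i : ℕ)) := by
        rw [mul_inv_rev, e1]; group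
      rw [e]
      exact hr _ _ (hcn _ _ (K.inv_mem hk))
  let f : K × Fin 5 → Subgroup.closure (insert g S) := fun p => ⟨p.1 * g ^ (p.2 : ℕ), mul_mem
    (Subgroup.closure_mono (Set.subset_insert _ _) p.1.2) (pow_mem (Subgroup.subset_closure (Set.mem_insert _ _)) _)⟩
  have hs : Function.Surjective f := by
    rintro ⟨x, hx⟩
    obtain ⟨k, hk, i, rfl⟩ := hmem x hx
    exact ⟨(⟨k, hk⟩, i), rfl⟩
  have hfin : Finite (Subgroup.closure (insert g S)) := Finite.of_surjective f hs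
  refine ⟨hfin, ?_⟩
  have := Nat.card_le_card_of_surjective f hs
  rw [Nat.card_prod, Nat.card_eq_fintype_card (α := Fin 5), Fintype.card_fin] at this
  calc _ ≤ Nat.card K * 5 := this
    _ ≤ 5 * n := by rw [mul_comm]; exact Nat.mul_le_mul_left _ hn

/-- conjugation from a commutator -/
theorem conj_of_comm {x y z : G} (h : x⁻¹ * y⁻¹ * x * y = z) (hz : x * z = z * x) : x * y * x⁻¹ = y * z := by
  have h1 : x * y = y * x * z := by rw [← h]; group
  have h2 : y * x * z * x⁻¹ = y * (x * z) * x⁻¹ := by group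
  rw [h1, h2, hz]; group

theorem conj_of_comm' {x y z : G} (h : y⁻¹ * x⁻¹ * y * x = z) (hz : x * z = z * x) : x * y * x⁻¹ = y * z⁻¹ := by
  have h1 : x * y = y * x * z⁻¹ := by rw [← h]; group
  have hz' : x * z⁻¹ = z⁻¹ * x := by
    rw [mul_inv_eq_iff_eq_mul, mul_assoc, hz]; group
  have h2 : y * x * z⁻¹ * x⁻¹ = y * (x * z⁻¹) * x⁻¹ := by group
  rw [h1, h2, hz']; group

end ext

/-- the relations 1 - 28 -/
structure RB {G : Type*} [Group G] (a b c1 c2 c3 c4 c5 : G) : Prop where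
  r1 : a ^ 8 = 1
  r2 : b ^ 5 = 1
  r3 : (a * b) ^ 4 = 1
  r4 : (a ^ 2)⁻¹ * b⁻¹ * (a ^ 2) * b = 1
  r5 : (a⁻¹ * b⁻¹ * a * b) ^ 3 = 1
  r7 : c2 = a⁻¹ * c1 * a
  r8 : c3 = b⁻¹ * c1 * b
  r9 : c4 = b * c1 * b⁻¹
  r10 : c5 = c1⁻¹ * c2⁻¹ * c1 * c2
  r11 : c1 ^ 5 = 1
  r12 : c5 ^ 5 = 1
  r13 : c1⁻¹ * c5⁻¹ * c1 * c5 = 1
  r14 : c2⁻¹ * c5⁻¹ * c2 * c5 = 1
  r15 : c3⁻¹ * c5⁻¹ * c3 * c5 = 1
  r16 : c4⁻¹ * c5⁻¹ * c4 * c5 = 1
  r17 : c1⁻¹ * c3⁻¹ * c1 * c3 = (c5 ^ 2)⁻¹
  r18 : c1⁻¹ * c4⁻¹ * c1 * c4 = c5 ^ 2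
  r19 : c2⁻¹ * c3⁻¹ * c2 * c3 = c5⁻¹
  r20 : c2⁻¹ * c4⁻¹ * c2 * c4 = 1
  r21 : c3⁻¹ * c4⁻¹ * c3 * c4 = c5⁻¹
  r22 : a⁻¹ * c2 * a = (c1 ^ 2)⁻¹
  r23 : a⁻¹ * c3 * a = (c3 ^ 2)⁻¹ * c1 * c4
  r24 : a⁻¹ * c4 * a = c1 * c2⁻¹ * c3⁻¹ * c4 * c1 * c4
  r25 : a⁻¹ * c5 * a = c5 ^ 2
  r26 : b⁻¹ * c2 * b = c2 * c3 * c4⁻¹ * c1⁻¹ * c4⁻¹
  r27 : b⁻¹ * c3 * b = c1 ^ 2 * c4 * (c3 ^ 2)⁻¹
  r28 : b⁻¹ * c5 * b = c5

namespace RB
variable {G : Type*} [Group G] {a b c1 c2 c3 c4 c5 : G} (h : RB a b c1 c2 c3 c4 c5)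
include h

theorem comm5 : c1 * c5 = c5 * c1 ∧ c2 * c5 = c5 * c2 ∧ c3 * c5 = c5 * c3 ∧ c4 * c5 = c5 * c4 := by
  have key : ∀ x : G, x⁻¹ * c5⁻¹ * x * c5 = 1 → x * c5 = c5 * x := by
    intro x hx
    have : x * c5 = c5 * x * (x⁻¹ * c5⁻¹ * x * c5) := by group
    rw [this, hx, mul_one]
  exact ⟨key _ h.r13, key _ h.r14, key _ h.r15, key _ h.r16⟩

theorem pow5 : c2 ^ 5 = 1 ∧ c3 ^ 5 = 1 ∧ c4 ^ 5 = 1 := by
  refine ⟨?_, ?_, ?_⟩
  · rw [h.r7]
    have : (a⁻¹ * c1 * a) ^ 5 = a⁻¹ * c1 ^ 5 * a := by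
      have := conj_pow (i := 5) (a := a⁻¹) (b := c1)
      rwa [inv_inv] at this
    rw [this, h.r11]; group
  · rw [h.r8]
    have : (b⁻¹ * c1 * b) ^ 5 = b⁻¹ * c1 ^ 5 * b := by
      have := conj_pow (i := 5) (a := b⁻¹) (b := c1)
      rwa [inv_inv] at this
    rw [this, h.r11]; group
  · rw [h.r9, conj_pow, h.r11]; group

theorem cardQ : Finite (Subgroup.closure ({c1, c3, c2, c4, c5} : Set G)) ∧
    Nat.card (Subgroup.closure ({c1, c3, c2, c4, c5} : Set G)) ≤ 3125 := by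
  obtain ⟨k1, k2, k3, k4⟩ := h.comm5
  obtain ⟨p2, p3, p4⟩ := h.pow5
  have hz : ∀ {x : G} {S : Set G}, x * c5 = c5 * x → c5 ∈ S → x * c5 * x⁻¹ ∈ Subgroup.closure S := by
    intro x S hx hS
    rw [hx, mul_inv_cancel_right]
    exact Subgroup.subset_closure hS
  have hpw : ∀ {x : G} (n : ℕ), x * c5 = c5 * x → x * c5 ^ n = c5 ^ n * x := fun n hx => (Commute.pow_right (show Commute _ c5 from hx) n).eq
  have h0 : Finite (Subgroup.closure (∅ : Set G)) ∧ Nat.card (Subgroup.closure (∅ : Set G)) ≤ 1 := by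
    rw [Subgroup.closure_empty]
    exact ⟨inferInstance, by simp⟩
  have h1 := ext_bound (g := c5) h0 (by simp) h.r12
  have h2 := ext_bound (g := c4) h1 (by
    intro s hs
    rcases hs with rfl | hs
    · exact hz k4 (Set.mem_insert _ _)
    · exact absurd hs (by simp)) p4
  have h3 := ext_bound (g := c2) h2 (by
    intro s hs
    rcases hs with rfl | rfl | hs
    · have := conj_of_comm h.r20 (by simp)
      rw [this, mul_one]; exact Subgroup.subset_closure (Set.mem_insert _ _)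
    · exact hz k2 (Or.inr (Set.mem_insert _ _))
    · exact absurd hs (by simp)) p2
  have h4 := ext_bound (g := c3) h3 (by
    intro s hs
    rcases hs with rfl | rfl | rfl | hs
    · have := conj_of_comm' (x := c3) (y := s) h.r19 (by
        rw [mul_inv_eq_iff_eq_mul, mul_assoc, k3]; group)
      rw [this, inv_inv]
      exact mul_mem (Subgroup.subset_closure (by simp)) (Subgroup.subset_closure (by simp))
    · have := conj_of_comm (x := c3) (y := s) h.r21 (by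
        rw [mul_inv_eq_iff_eq_mul, mul_assoc, k3]; group)
      rw [this]
      exact mul_mem (Subgroup.subset_closure (by simp)) (inv_mem (Subgroup.subset_closure (by simp)))
    · exact hz k3 (by simp)
    · exact absurd hs (by simp)) p3
  have h5 := ext_bound (g := c1) h4 (by
    intro s hs
    rcases hs with rfl | rfl | rfl | rfl | hs
    · have := conj_of_comm (x := c1) (y := s) h.r17 (by
        rw [mul_inv_eq_iff_eq_mul, mul_assoc, hpw 2 k1]; group)
      rw [this]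
      exact mul_mem (Subgroup.subset_closure (by simp)) (inv_mem (pow_mem (Subgroup.subset_closure (by simp)) _))
    · have := conj_of_comm (x := c1) (y := s) h.r10.symm k1
      rw [this]
      exact mul_mem (Subgroup.subset_closure (by simp)) (Subgroup.subset_closure (by simp))
    · have := conj_of_comm (x := c1) (y := s) h.r18 (hpw 2 k1)
      rw [this]
      exact mul_mem (Subgroup.subset_closure (by simp)) (pow_mem (Subgroup.subset_closure (by simp)) _)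
    · exact hz k1 (by simp)
    · exact absurd hs (by simp)) h.r11
  simp only [insert_empty_eq] at h5
  exact ⟨h5.1, h5.2⟩

theorem invpow {x : G} {n : ℕ} (hn : x ^ (n + 1) = 1) : x⁻¹ = x ^ n := by
  rw [inv_eq_iff_mul_eq_one, ← pow_succ', hn]

/-- the subgroup `Q` is normalized by `a⁻¹` and `b⁻¹` -/
theorem conjQ : (∀ k ∈ Subgroup.closure ({c1, c3, c2, c4, c5} : Set G), a⁻¹ * k * (a⁻¹)⁻¹ ∈ Subgroup.closure ({c1, c3, c2, c4, c5} : Set G)) ∧
    (∀ k ∈ Subgroup.closure ({c1, c3, c2, c4, c5} : Set G), b⁻¹ * k * (b⁻¹)⁻¹ ∈ Subgroup.closure ({c1, c3, c2, c4, c5} : Set G)) := by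
  have m1 : c1 ∈ Subgroup.closure ({c1, c3, c2, c4, c5} : Set G) := Subgroup.subset_closure (by simp)
  have m2 : c2 ∈ Subgroup.closure ({c1, c3, c2, c4, c5} : Set G) := Subgroup.subset_closure (by simp)
  have m3 : c3 ∈ Subgroup.closure ({c1, c3, c2, c4, c5} : Set G) := Subgroup.subset_closure (by simp)
  have m4 : c4 ∈ Subgroup.closure ({c1, c3, c2, c4, c5} : Set G) := Subgroup.subset_closure (by simp)
  have m5 : c5 ∈ Subgroup.closure ({c1, c3, c2, c4, c5} : Set G) := Subgroup.subset_closure (by simp)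
  have e9 : b⁻¹ * c4 * b = c1 := by rw [h.r9]; group
  constructor
  · apply conj_cl
    rintro s (rfl | rfl | rfl | rfl | rfl) <;> rw [inv_inv]
    · rw [← h.r7]; exact m2
    · rw [h.r23]; exact mul_mem (mul_mem (inv_mem (pow_mem m3 _)) m1) m4
    · rw [h.r22]; exact inv_mem (pow_mem m1 _)
    · rw [h.r24]; exact mul_mem (mul_mem (mul_mem (mul_mem (mul_mem m1 (inv_mem m2)) (inv_mem m3)) m4) m1) m4
    · rw [h.r25]; exact pow_mem m5 _
  · apply conj_cl
    rintro s (rfl | rfl | rfl | rfl | rfl) <;> rw [inv_inv]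
    · rw [← h.r8]; exact m3
    · rw [h.r27]; exact mul_mem (mul_mem (pow_mem m1 _) m4) (inv_mem (pow_mem m3 _))
    · rw [h.r26]; exact mul_mem (mul_mem (mul_mem (mul_mem m2 m3) (inv_mem m4)) (inv_mem m1)) (inv_mem m4)
    · rw [e9]; exact m1
    · rw [h.r28]; exact m5

theorem conj_pow_mem {K : Subgroup G} {x : G} (hx : ∀ k ∈ K, x⁻¹ * k * (x⁻¹)⁻¹ ∈ K) (n : ℕ) (hn : x ^ (n + 1) = 1) :
    ∀ k ∈ K, x * k * x⁻¹ ∈ K := by
  have key : ∀ i : ℕ, ∀ k ∈ K, (x⁻¹) ^ i * k * ((x⁻¹) ^ i)⁻¹ ∈ K := by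
    intro i
    induction i with
    | zero => intro k hk; simpa using hk
    | succ i ih =>
      intro k hk
      have : (x⁻¹) ^ (i + 1) * k * ((x⁻¹) ^ (i + 1))⁻¹ = x⁻¹ * ((x⁻¹) ^ i * k * ((x⁻¹) ^ i)⁻¹) * (x⁻¹)⁻¹ := by
        rw [pow_succ']; group
      rw [this]; exact hx _ (ih k hk)
  have e : (x⁻¹) ^ n = x := by
    rw [inv_pow, inv_eq_iff_mul_eq_one, ← pow_succ, hn]
  intro k hk
  have := key n k hk
  rwa [e] at this

theorem normalQ (htop : Subgroup.closure ({a, b, c1} : Set G) = ⊤) : (Subgroup.closure ({c1, c3, c2, c4, c5} : Set G)).Normal := by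
  obtain ⟨ha, hb⟩ := h.conjQ
  set K := Subgroup.closure ({c1, c3, c2, c4, c5} : Set G)
  have ha' := conj_pow_mem h ha 7 h.r1
  have hb' := conj_pow_mem h hb 4 h.r2
  have hN : Subgroup.normalizer (K : Set G) = ⊤ := by
    rw [eq_top_iff, ← htop, Subgroup.closure_le]
    rintro x (rfl | rfl | rfl)
    · exact Subgroup.mem_normalizer_iff.mpr fun k => ⟨fun hk => ha' k hk, fun hk => by
        have := ha _ hk
        have e : x⁻¹ * (x * k * x⁻¹) * (x⁻¹)⁻¹ = k := by group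
        rwa [e] at this⟩
    · exact Subgroup.mem_normalizer_iff.mpr fun k => ⟨fun hk => hb' k hk, fun hk => by
        have := hb _ hk
        have e : x⁻¹ * (x * k * x⁻¹) * (x⁻¹)⁻¹ = k := by group
        rwa [e] at this⟩
    · exact Subgroup.le_normalizer (Subgroup.subset_closure (by simp))
  exact Subgroup.normalizer_eq_top_iff.mp hN

/-- the bound 1500000 -/
theorem card_le (htop : Subgroup.closure ({a, b, c1} : Set G) = ⊤) : Finite G ∧ Nat.card G ≤ 1500000 := by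
  have hn := h.normalQ htop
  obtain ⟨ha, hb⟩ := h.conjQ
  have hb' := conj_pow_mem h hb 4 h.r2
  have hQ := h.cardQ
  have hU := ext_bound (g := b) hQ (fun s hs => hb' s (Subgroup.subset_closure hs)) h.r2
  set K := Subgroup.closure ({c1, c3, c2, c4, c5} : Set G)
  set U := Subgroup.closure (insert b ({c1, c3, c2, c4, c5} : Set G))
  have hKU : K ≤ U := Subgroup.closure_mono (Set.subset_insert _ _)
  have hc1 : c1 ∈ K := Subgroup.subset_closure (by simp)
  have hbU : b ∈ U := Subgroup.subset_closure (by simp)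
  let y : ℕ → G := fun i => if i = 1 then a else if i = 2 then b else 1
  have hR : ∀ w ∈ Cfsg.Agent.Lib.LyGL.R, Cfsg.Agent.Lib.H10Enum.wval y w = 1 := by
    simp only [Cfsg.Agent.Lib.LyGL.R, List.forall_mem_cons, List.not_mem_nil, IsEmpty.forall_iff, implies_true, and_true,
      Cfsg.Agent.Lib.H10Enum.wval, List.map_cons, List.map_nil, List.prod_cons, List.prod_nil, Cfsg.Agent.Lib.H10Enum.val, y]
    norm_num
    have e1 := h.r1
    have e2 := h.r2
    have e3 := h.r3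
    have e4 := h.r4
    have e5 := h.r5
    simp only [pow_succ, pow_zero, one_mul, mul_inv_rev, mul_assoc] at e1 e2 e3 e4 e5
    exact ⟨e1, e2, e3, e4, e5⟩
  have hg := Cfsg.Agent.Lib.H10Enum.sound (T := Cfsg.Agent.Lib.LyGL.T) (p := ((1 : G) : G ⧸ U)) (x := y) rfl (by
    intro c hc; rw [Nat.zero_testBit] at hc; simp at hc) hR (by
    intro c hc
    rw [List.mem_singleton] at hc
    subst hc
    show b • ((1 : G) : G ⧸ U) = ((1 : G) : G ⧸ U)
    rw [MulAction.Quotient.smul_coe, smul_eq_mul, mul_one]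
    exact QuotientGroup.eq.mpr (by simpa using hbU)) Cfsg.Agent.Lib.LyGL.ok
  have hX := Cfsg.Agent.Lib.H10Enum.card_le_of_closed (G := G) (X := G ⧸ U)
    (f := Cfsg.Agent.Lib.H10Enum.pts Cfsg.Agent.Lib.LyGL.T y ((1 : G) : G ⧸ U)) (n := 96) (by norm_num) _ htop (by
      intro x hx j hj
      rcases hx with rfl | rfl | rfl
      · exact Cfsg.Agent.Lib.H10Enum.chkC_sound (x := y) (c := 1) (by
          intro c hc; rw [Nat.zero_testBit] at hc; simp at hc) hg _ Cfsg.Agent.Lib.LyGL.cl1 j hj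
      · exact Cfsg.Agent.Lib.H10Enum.chkC_sound (x := y) (c := 2) (by
          intro c hc; rw [Nat.zero_testBit] at hc; simp at hc) hg _ Cfsg.Agent.Lib.LyGL.cl2 j hj
      · refine ⟨j, hj, ?_⟩
        generalize Cfsg.Agent.Lib.H10Enum.pts Cfsg.Agent.Lib.LyGL.T y ((1 : G) : G ⧸ U) j = z
        obtain ⟨g, rfl⟩ := QuotientGroup.mk_surjective z
        show ((x * g : G) : G ⧸ U) = _
        rw [QuotientGroup.eq]
        have := hn.conj_mem x hc1 g⁻¹
        have e : (x * g)⁻¹ * g = (g⁻¹ * x * (g⁻¹)⁻¹)⁻¹ := by group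
        rw [e]
        exact inv_mem (hKU this))
  obtain ⟨hX1, hX2⟩ := hX
  obtain ⟨hU1, hU2⟩ := hU
  have hfin : Finite G := Finite.of_equiv _ (Subgroup.groupEquivQuotientProdSubgroup (s := U)).symm
  refine ⟨hfin, ?_⟩
  rw [← U.index_mul_card, Subgroup.index]
  calc Nat.card (G ⧸ U) * Nat.card U ≤ 96 * (5 * 3125) := Nat.mul_le_mul hX2 hU2
    _ = 1500000 := by norm_num

end RB

end Cfsg.Agent.Lib.LyPres
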