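import Cfsg.Agent.Lib.LyG14
import Cfsg.Agent.Lib.LyPres
import Cfsg.Agent.Lib.ChevPerf
import Cfsg.Agent.Lib.ChevRel
import Cfsg.Agent.Lib.CosetMain
import Cfsg.Agent.S1055
import Cfsg.Agent.S1059

/-!
# The presented group maps onto `G₂(5)`
-/

set_option autoImplicit false
set_option linter.all false
set_option maxRecDepth 100000

namespace Cfsg.Agent.Lib.LyG14P

open Cfsg.Lie Cfsg.Agent.Lib.M5 Cfsg.Agent.Lib.BenesWord Cfsg.Agent.Lib.LyG14 Cfsg.Agent.Lib.LyPres Cfsg.Agent.Lib.ChevRel
open Cfsg.Agent.Lib.ChevGood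
open scoped Matrix MatrixGroups

instance : Fact (Nat.Prime 5) := ⟨by norm_num⟩

/-- the field -/
abbrev K : Type := ZMod 5
/-- indices -/
abbrev Ix : Type := chevG2.Idx

/-- numbering -/
def eIx : Ix ≃ Fin 14 := (finSumFinEquiv : Fin 2 ⊕ Fin 12 ≃ Fin (2 + 12))

/-- the units of `14 × 14` matrices -/
abbrev U14 : Type := (Matrix (Fin 14) (Fin 14) K)ˣ

/-- change of indices -/
noncomputable def FF : GL Ix K ≃* U14 := Units.mapEquiv ((Matrix.reindexAlgEquiv K K eIx).toRingEquiv.toMulEquiv)

theorem FF_apply (g : GL Ix K) (i j : Fin 14) : ((FF g : U14) : Matrix (Fin 14) (Fin 14) K) i j = (g : Matrix Ix Ix K) (eIx.symm i) (eIx.symm j) := rfl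

theorem good : Nonempty (Good chevG2) := good_of_mem (by simp)

/-- the letters -/
noncomputable def u (c : ℕ) : U14 := uu (n := 14) (by norm_num) (by norm_num) LL c_L c

theorem u_rel {l : List Wd} (h : chkRel 14 LL l = true) : ∀ W ∈ l, Cfsg.Agent.Lib.CoxBridge.lets 27 W = true → W.eval u = 1 :=
  uu_rel (n := 14) (by norm_num) (by norm_num) LL c_L h

/-- comparison of the entries -/
def eqK (a b : K) : Bool := @decide (a = b) (instDecidableEqFin 5 a b)

/-- comparison of the entries -/
noncomputable def hxb : Bool := (List.finRange 12).all fun r => (List.finRange 14).all fun i => (List.finRange 14).all fun j =>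
  eqK (matR 14 (GG LL (15 + r.val)) i j) (chevG2.xMat K r 1 (eIx.symm i) (eIx.symm j))

theorem hxb_true : hxb = true := by decide +kernel

theorem hx (r : Fin 12) (i j : Fin 14) : matR 14 (GG LL (15 + r.val)) i j = chevG2.xMat K r 1 (eIx.symm i) (eIx.symm j) := by
  have h := hxb_true
  unfold hxb at h
  rw [List.all_eq_true] at h
  have h1 := h r (List.mem_finRange r)
  rw [List.all_eq_true] at h1
  have h2 := h1 i (List.mem_finRange i)
  rw [List.all_eq_true] at h2
  have h3 := h2 j (List.mem_finRange j)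
  exact of_decide_eq_true h3

theorem len27 : LL.length = 27 := by decide +kernel

theorem FF_x {r : ℕ} (hr : r < 12) : FF (xg chevG2 K r 1) = u (15 + r) := by
  obtain ⟨G⟩ := good
  apply Units.ext
  ext i j
  rw [FF_apply, coe_xg G]
  have h1 : chevG2.x K r 1 = chevG2.xMat K ⟨r, hr⟩ 1 := by
    unfold ChevalleyDatum.x
    rw [dif_pos (show r < chevG2.nroots from hr)]
  rw [h1]
  refine (hx ⟨r, hr⟩ i j).symm.trans ?_
  unfold u uu
  rw [dif_pos (show 15 + r < LL.length by rw [len27]; omega)]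

theorem xg_mem (r : ℕ) (t : K) : xg chevG2 K r t ∈ chevG2.group K := by
  obtain ⟨G⟩ := good
  have := Cfsg.Agent.Lib.ChevPerf.wg_mem G [(r, t)]
  simpa [wg] using this

/-- the embedding -/
noncomputable def FG : chevG2.group K →* U14 := FF.toMonoidHom.comp (chevG2.group K).subtype

theorem FG_inj : Function.Injective FG := FF.injective.comp Subtype.val_injective

/-- root elements -/
noncomputable def xe (r : ℕ) (t : K) : chevG2.group K := ⟨xg chevG2 K r t, xg_mem r t⟩

theorem FG_xe {r : ℕ} (hr : r < 12) : FG (xe r 1) = u (15 + r) := FF_x hr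

/-- letters between bounds -/
def lge (a b : ℕ) : Wd → Bool
  | .one => true
  | .g c => decide (a ≤ c) && decide (c < b)
  | .inv u => lge a b u
  | .mul u v => lge a b u && lge a b v
  | .pow u _ => lge a b u

theorem eval_mem {G : Type*} [Group G] {R : Subgroup G} {a b : ℕ} {x : ℕ → G} (h : ∀ c, a ≤ c → c < b → x c ∈ R) (W : Wd)
    (hW : lge a b W = true) : W.eval x ∈ R := by
  induction W with
  | one => exact R.one_mem
  | g c =>
    simp only [lge, Bool.and_eq_true, decide_eq_true_eq] at hW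
    exact h c hW.1 hW.2
  | inv u ih => exact R.inv_mem (ih hW)
  | mul u v ihu ihv =>
    simp only [lge, Bool.and_eq_true] at hW
    exact R.mul_mem (ihu hW.1) (ihv hW.2)
  | pow u n ih => exact R.pow_mem (ih hW) n

theorem u_X {c : ℕ} (hc : c < 15) : u c = (WX.getD c .one).eval u := by
  have h := u_rel c_X (.mul (.inv (.g c)) (WX.getD c .one)) (List.mem_map.mpr ⟨c, List.mem_range.mpr hc, rfl⟩) (by
    interval_cases c <;> decide +kernel)
  simp only [Wd.eval] at h
  exact inv_mul_eq_one.mp h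

theorem u_V {r : ℕ} (hr : r < 12) : u (15 + r) = (VX.getD r .one).eval u := by
  have h := u_rel c_V (.mul (.inv (.g (15 + r))) (VX.getD r .one)) (List.mem_map.mpr ⟨r, List.mem_range.mpr hr, rfl⟩) (by
    interval_cases r <;> decide +kernel)
  simp only [Wd.eval] at h
  exact inv_mul_eq_one.mp h

theorem WX_lge : ∀ c < 15, lge 15 27 (WX.getD c .one) = true := by decide +kernel

theorem VX_lge : ∀ c < 12, lge 0 15 (VX.getD c .one) = true := by decide +kernel

theorem u_range {c : ℕ} (hc : c < 15) : ∃ y : chevG2.group K, FG y = u c := by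
  have h1 : u c ∈ FG.range := by
    rw [u_X hc]
    apply eval_mem (a := 15) (b := 27) _ _ (WX_lge c hc)
    intro d hd hd'
    obtain ⟨r, rfl⟩ := Nat.exists_eq_add_of_le hd
    rw [← FG_xe (show r < 12 by omega)]
    exact ⟨_, rfl⟩
  exact h1

/-- the presented group -/
abbrev P44 : Type := WP 15 relP

theorem lets15 : ∀ W ∈ relP, Cfsg.Agent.Lib.CoxBridge.lets 15 W = true ∧ Cfsg.Agent.Lib.CoxBridge.lets 27 W = true := by
  decide +kernel

theorem lets_of_lge {a b n : ℕ} (hb : b ≤ n) {W : Wd} (h : lge a b W = true) : Cfsg.Agent.Lib.CoxBridge.lets n W = true := by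
  induction W with
  | one => rfl
  | g c =>
    simp only [lge, Bool.and_eq_true, decide_eq_true_eq] at h
    simp only [Cfsg.Agent.Lib.CoxBridge.lets, decide_eq_true_eq]; omega
  | inv u ih => exact ih h
  | mul u v ihu ihv =>
    simp only [lge, Bool.and_eq_true] at h
    simp only [Cfsg.Agent.Lib.CoxBridge.lets, Bool.and_eq_true]
    exact ⟨ihu h.1, ihv h.2⟩
  | pow u n ih => exact ih h

theorem xg_pow (r n : ℕ) : xg chevG2 K r (n : K) = (xg chevG2 K r 1) ^ n := by
  obtain ⟨G⟩ := good
  induction n with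
  | zero =>
    rw [Nat.cast_zero, pow_zero]
    have := xg_add G (F := K) r 0 0
    rw [add_zero] at this
    exact mul_eq_left.mp this
  | succ n ih => rw [pow_succ, ← ih, xg_add G, Nat.cast_succ]

/-- the homomorphism onto `G₂(5)` -/
theorem exists_hom : ∃ φ : P44 →* chevG2.group K, Function.Surjective φ ∧ ∀ c < 15, FG (φ (wx 15 relP c)) = u c := by
  choose! y hy using (fun (c : ℕ) (hc : c < 15) => u_range hc)
  obtain ⟨φ, hφ⟩ := wx_hom (ng := 15) (rels := relP) (fun c => if c < 15 then y c else 1) (by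
    intro W hW
    apply FG_inj
    rw [Wd.map_eval, map_one]
    have h1 := u_rel c_rel W hW (lets15 W hW).2
    rw [← h1]
    apply Cfsg.Agent.Lib.CoxBridge.eval_congr (n := 15) _ W (lets15 W hW).1
    intro c hc
    rw [if_pos hc]; exact hy c hc) (by
    intro c hc
    rw [if_neg (by omega)])
  have hφ' : ∀ c < 15, FG (φ (wx 15 relP c)) = u c := by
    intro c hc
    rw [hφ c, if_pos hc]; exact hy c hc
  refine ⟨φ, ?_, hφ'⟩
  have h1 : ∀ r < 12, ∃ p, φ p = xe r 1 := by
    intro r hr
    refine ⟨(VX.getD r .one).eval (wx 15 relP), FG_inj ?_⟩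
    rw [FG_xe hr, u_V hr, Wd.map_eval, Wd.map_eval]
    apply Cfsg.Agent.Lib.CoxBridge.eval_congr (n := 15) _ _ (lets_of_lge (le_refl 15) (VX_lge r hr))
    intro c hc
    exact hφ' c hc
  have h2 : ∀ r < 12, ∀ t : K, ∃ p, φ p = xe r t := by
    intro r hr t
    obtain ⟨p, hp⟩ := h1 r hr
    refine ⟨p ^ t.val, ?_⟩
    rw [map_pow, hp]
    apply Subtype.ext
    show (xg chevG2 K r 1) ^ t.val = xg chevG2 K r t
    rw [← xg_pow, ZMod.natCast_zmod_val]
  rintro ⟨g, hg⟩
  have h3 : ∀ g ∈ chevG2.group K, ∃ p, (φ p : GL Ix K) = g := by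
    intro g hg
    induction hg using Subgroup.closure_induction with
    | mem x hx =>
      obtain ⟨r, t, h⟩ := hx
      obtain ⟨p, hp⟩ := h2 r.val r.2 t
      refine ⟨p, ?_⟩
      rw [hp]
      apply Units.ext
      obtain ⟨G⟩ := good
      rw [h]
      show (xg chevG2 K r.val t : Matrix Ix Ix K) = _
      rw [coe_xg G]
      unfold ChevalleyDatum.x
      rw [dif_pos r.2]
    | one => exact ⟨1, by rw [map_one]; rfl⟩
    | mul x y _ _ hx hy =>
      obtain ⟨p, rfl⟩ := hx
      obtain ⟨q, rfl⟩ := hy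
      exact ⟨p * q, by rw [map_mul]; rfl⟩
    | inv x _ hx =>
      obtain ⟨p, rfl⟩ := hx
      exact ⟨p⁻¹, by rw [map_inv]; rfl⟩
  obtain ⟨p, hp⟩ := h3 g hg
  exact ⟨p, Subtype.ext hp⟩

theorem card_G2 : Nat.card (chevG2.group K) = 5859000000 := by
  rw [S1059.result (q := 5) (by rw [ZMod.card])]; norm_num

theorem simple_G2 : IsSimpleGroup (chevG2.group K) := (S1055.result ⟨2, by decide, by decide⟩).1

end Cfsg.Agent.Lib.LyG14P
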