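import Cfsg.Agent.Lib.LyH

/-!
Elements of order 37 and 67 in the image of the Lyons group (helper23)
-/

set_option autoImplicit false
set_option linter.all false

namespace Cfsg.Agent.Lib.LyLow2

open Cfsg.Spor Cfsg.Agent.Lib.M5 Cfsg.Agent.Lib.BenesWord Cfsg.Agent.Lib.BenesPerm

/-- a word of order 37 -/
def W37 : Wd := .mul (.mul (.mul (.g 2) (.inv (.g 0))) (.inv (.g 3))) (.inv (.g 4))
/-- a word of order 67 -/
def W67 : Wd := .mul (.mul (.mul (.mul (.inv (.g 2)) (.inv (.g 4))) (.g 3)) (.inv (.g 0))) (.g 1)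

/-- check of a relator -/
noncomputable def chk (W : Wd) : Bool := force (LyRep.mk0 111) fun mk => force (LyRep.mm0 12321) fun mm => force LyRep.id0 fun id =>
  relM mk mm id LyRep.G LyRep.GI W

set_option maxRecDepth 1000000

theorem c37 : chk (.pow W37 37) = true := by decide +kernel
theorem n37 : chk W37 = false := by decide +kernel
theorem c67 : chk (.pow W67 67) = true := by decide +kernel
theorem n67 : chk W67 = false := by decide +kernel

theorem of_chk {W : Wd} (hl : Cfsg.Agent.Lib.CoxBridge.lets 39 W = true) (h : chk W = true) : W.eval LyRep.u = 1 := by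
  unfold chk at h
  rw [force_eq, force_eq, force_eq, LyRep.mk0_eq, show (12321 : ℕ) = 111 * 111 by norm_num, LyRep.mm0_eq, LyRep.id0_eq] at h
  exact relM_sound (by norm_num) (by norm_num) LyRep.hG LyRep.hGI W hl h

theorem of_not {W : Wd} (hl : Cfsg.Agent.Lib.CoxBridge.lets 39 W = true) (h : chk W = false) : W.eval LyRep.u ≠ 1 := by
  intro h1
  have e2 := evW_rep (m := 111) (n := 111) (by norm_num) (by norm_num) LyRep.hG LyRep.hGI W hl false (idX_rep 111)
  simp only [Bool.false_eq_true, if_false] at e2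
  rw [h1, Units.val_one, Matrix.one_mul] at e2
  have h3 := e2.ext' (idX_rep 111)
  unfold chk at h
  rw [force_eq, force_eq, force_eq, LyRep.mk0_eq, show (12321 : ℕ) = 111 * 111 by norm_num, LyRep.mm0_eq, LyRep.id0_eq] at h
  unfold relM at h
  rw [h3] at h
  have h7 : ∀ n : ℕ, Nat.beq n n = true := Nat.beq_refl
  rw [h7] at h
  exact Bool.noConfusion h

theorem dvd_of {W : Wd} (hl : Cfsg.Agent.Lib.CoxBridge.lets 39 W = true) {p : ℕ} (hp : p.Prime) (h : chk (.pow W p) = true)
    (hn : chk W = false) : p ∣ Nat.card LyH.ρ.range := by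
  haveI : Fact p.Prime := ⟨hp⟩
  have h1 : (W.eval LyRep.u) ^ p = 1 := of_chk (W := .pow W p) hl h
  have h2 : W.eval LyRep.u ≠ 1 := of_not hl hn
  have key : LyH.ρ (W.eval LyH.Y) = W.eval LyRep.u := by
    rw [Wd.map_eval]
    exact Cfsg.Agent.Lib.CoxBridge.eval_congr (n := 39) (fun c hc => LyH.ρ_spec c hc) W hl
  have h3 : orderOf (W.eval LyRep.u) = p := orderOf_eq_prime h1 h2
  rw [← key] at h3
  have h4 : orderOf (⟨LyH.ρ (W.eval LyH.Y), ⟨_, rfl⟩⟩ : LyH.ρ.range) = p := by
    rw [← orderOf_injective LyH.ρ.range.subtype Subtype.coe_injective]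
    exact h3
  rw [← h4]
  exact orderOf_dvd_natCard _

theorem dvd37 : 37 ∣ Nat.card LyH.ρ.range := dvd_of (by decide) (by norm_num) c37 n37

theorem dvd67 : 67 ∣ Nat.card LyH.ρ.range := dvd_of (by decide) (by norm_num) c67 n67

theorem dvd_range : 37 * 67 ∣ Nat.card LyH.ρ.range :=
  Nat.Coprime.mul_dvd_of_dvd_of_dvd (by norm_num) dvd37 dvd67

end Cfsg.Agent.Lib.LyLow2
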