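import Cfsg.Agent.Lib.SchurSylow

/-! Abstract `p = 3` lemma for the Schur multiplier of a group with a monomial section (for the Lyons group). -/

set_option autoImplicit false

namespace Cfsg.Agent.Lib.LyM3

open Subgroup Cfsg Cfsg.Agent.Lib.SchurSylow

theorem comm_closure_le {Γ : Type*} [Group Γ] (M : Subgroup Γ) (X : Set Γ)
    (hN : ∀ x ∈ X, x ∈ normalizer (M : Set Γ))
    (h : ∀ x ∈ X, ∀ y ∈ X, x * y * x⁻¹ * y⁻¹ ∈ M) : ⁅closure X, closure X⁆ ≤ M := by
  have hcl : closure X ≤ normalizer (M : Set Γ) := (closure_le _).2 hN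
  have h1 : ∀ x : Γ, (∀ y ∈ X, x * y * x⁻¹ * y⁻¹ ∈ M) → ∀ y ∈ closure X, x * y * x⁻¹ * y⁻¹ ∈ M := by
    intro x h y hy
    induction hy using closure_induction with
    | mem y hy => exact h y hy
    | one => simp
    | mul a b ha hb iha ihb =>
      have e : x * (a * b) * x⁻¹ * (a * b)⁻¹ = (x * a * x⁻¹ * a⁻¹) * (a * (x * b * x⁻¹ * b⁻¹) * a⁻¹) := by group
      rw [e]
      exact mul_mem iha ((mem_normalizer_iff.1 (hcl ha) _).1 ihb)
    | inv a ha iha =>
      have e : x * a⁻¹ * x⁻¹ * a⁻¹⁻¹ = a⁻¹ * (x * a * x⁻¹ * a⁻¹)⁻¹ * a⁻¹⁻¹ := by group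
      rw [e]
      exact (mem_normalizer_iff.1 (inv_mem (hcl ha)) _).1 (inv_mem iha)
  rw [commutator_le]
  intro x hx y hy
  show x * y * x⁻¹ * y⁻¹ ∈ M
  refine h1 x ?_ y hy
  intro y hy
  have h2 := h1 y (fun w hw => h y hy w hw) x hx
  have e : x * y * x⁻¹ * y⁻¹ = (y * x * y⁻¹ * x⁻¹)⁻¹ := by group
  rw [e]
  exact inv_mem h2

section Lifts

variable {Γ G : Type*} [Group Γ] [Group G] {σ : Γ →* G}

theorem invol_lift (hs : Function.Surjective σ) (hA : σ.ker ≤ center Γ) (hsq : ∀ a ∈ σ.ker, ∃ b ∈ σ.ker, b * b = a)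
    {z : G} (hz : z ^ 2 = 1) : ∃ z' : Γ, σ z' = z ∧ z' * z' = 1 := by
  obtain ⟨y, hy⟩ := hs z
  obtain ⟨b, hb, hbb⟩ := hsq (y * y) (by rw [MonoidHom.mem_ker, map_mul, hy, ← pow_two, hz])
  have hc : ∀ w, w * b = b * w := mem_center_iff.1 (hA hb)
  refine ⟨y * b⁻¹, by rw [map_mul, map_inv, (MonoidHom.mem_ker).1 hb, inv_one, mul_one, hy], ?_⟩
  have h1 : b⁻¹ * y = y * b⁻¹ := by
    rw [inv_mul_eq_iff_eq_mul, ← mul_assoc, ← hc y, mul_assoc, mul_inv_cancel, mul_one]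
  calc y * b⁻¹ * (y * b⁻¹) = y * (b⁻¹ * y) * b⁻¹ := by group
    _ = (y * y) * (b * b)⁻¹ := by rw [h1]; group
    _ = 1 := by rw [hbb, mul_inv_cancel]

theorem comm_lift (hA : σ.ker ≤ center Γ) (hone : ∀ a ∈ σ.ker, a * a = 1 → a = 1)
    {z' g' : Γ} (hz' : z' * z' = 1) (h : σ g' * σ z' = σ z' * σ g') : g' * z' = z' * g' := by
  set c := g' * z' * g'⁻¹ * z'⁻¹ with hcdef
  have hc : c ∈ σ.ker := by
    rw [MonoidHom.mem_ker, hcdef, map_mul, map_mul, map_mul, map_inv, map_inv, h]; group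
  have hcc : ∀ w, w * c = c * w := mem_center_iff.1 (hA hc)
  have h1 : g' * z' = c * (z' * g') := by rw [hcdef]; group
  have h2 : c * c * g' = g' := by
    symm
    calc g' = g' * (z' * z') := by rw [hz', mul_one]
      _ = (g' * z') * z' := by group
      _ = c * (z' * g') * z' := by rw [h1]
      _ = c * z' * (g' * z') := by group
      _ = c * z' * (c * (z' * g')) := by rw [h1]
      _ = c * (z' * c) * z' * g' := by group
      _ = c * (c * z') * z' * g' := by rw [hcc z']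
      _ = c * c * (z' * z') * g' := by group
      _ = c * c * g' := by rw [hz', mul_one]
  have h3 : c * c = 1 := mul_right_cancel (b := g') (by rw [h2, one_mul])
  rw [h1, hone c hc h3, one_mul]

theorem inv_lift (hs : Function.Surjective σ) (hA : σ.ker ≤ center Γ) (hsq : ∀ a ∈ σ.ker, ∃ b ∈ σ.ker, b * b = a)
    {z' : Γ} {x : G} (h : σ z' * x * (σ z')⁻¹ = x⁻¹) : ∃ x', σ x' = x ∧ z' * x' * z'⁻¹ = x'⁻¹ := by
  obtain ⟨y, hy⟩ := hs x
  have ha : z' * y * z'⁻¹ * y ∈ σ.ker := by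
    rw [MonoidHom.mem_ker, map_mul, map_mul, map_mul, map_inv, hy, h, inv_mul_cancel]
  obtain ⟨b, hb, hbb⟩ := hsq _ (inv_mem ha)
  have hc : ∀ w, w * b = b * w := mem_center_iff.1 (hA hb)
  refine ⟨y * b, by rw [map_mul, (MonoidHom.mem_ker).1 hb, mul_one, hy], ?_⟩
  have h1 : z' * y * z'⁻¹ * y * (b * b) = 1 := by rw [hbb, mul_inv_cancel]
  have h2 : z' * (y * b) * z'⁻¹ * (y * b) = 1 := by
    rw [← h1]
    calc z' * (y * b) * z'⁻¹ * (y * b) = z' * y * (b * (z'⁻¹ * y)) * b := by group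
      _ = z' * y * ((z'⁻¹ * y) * b) * b := by rw [hc (z'⁻¹ * y)]
      _ = z' * y * z'⁻¹ * y * (b * b) := by group
  exact eq_inv_of_mul_eq_one_left h2

theorem inv_unique (hA : σ.ker ≤ center Γ) (hone : ∀ a ∈ σ.ker, a * a = 1 → a = 1)
    {z' x1 x2 : Γ} (h : σ x1 = σ x2) (h1 : z' * x1 * z'⁻¹ = x1⁻¹) (h2 : z' * x2 * z'⁻¹ = x2⁻¹) : x1 = x2 := by
  set c := x1⁻¹ * x2 with hcdef
  have hc : c ∈ σ.ker := by
    rw [MonoidHom.mem_ker, hcdef, map_mul, map_inv, h, inv_mul_cancel]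
  have hcc : ∀ w, w * c = c * w := mem_center_iff.1 (hA hc)
  have h3 : x2 = x1 * c := by rw [hcdef]; group
  have h4 : z' * (x1 * c) * z'⁻¹ * (x1 * c) = 1 := by rw [← h3, h2, inv_mul_cancel]
  have h5 : c * c = 1 := by
    rw [← h4]
    calc c * c = x1⁻¹ * x1 * (c * c) := by group
      _ = z' * x1 * z'⁻¹ * x1 * (c * c) := by rw [h1]
      _ = z' * x1 * ((z'⁻¹ * x1) * c) * c := by group
      _ = z' * x1 * (c * (z'⁻¹ * x1)) * c := by rw [hcc (z'⁻¹ * x1)]
      _ = z' * (x1 * c) * z'⁻¹ * (x1 * c) := by group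
  rw [h3, hone c hc h5, mul_one]

theorem conj_lift (hA : σ.ker ≤ center Γ) (hone : ∀ a ∈ σ.ker, a * a = 1 → a = 1)
    {z' g' x' y' : Γ} (hg : g' * z' = z' * g') (hx : z' * x' * z'⁻¹ = x'⁻¹) (hy : z' * y' * z'⁻¹ = y'⁻¹)
    (h : σ g' * σ x' * (σ g')⁻¹ = σ y') : g' * x' * g'⁻¹ = y' := by
  refine inv_unique hA hone (z' := z') (by rw [map_mul, map_mul, map_inv, h]) ?_ hy
  have h1 : g'⁻¹ * z'⁻¹ = z'⁻¹ * g'⁻¹ := by rw [← mul_inv_rev, ← mul_inv_rev, hg]
  calc z' * (g' * x' * g'⁻¹) * z'⁻¹ = (z' * g') * x' * (g'⁻¹ * z'⁻¹) := by group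
    _ = (g' * z') * x' * (z'⁻¹ * g'⁻¹) := by rw [hg, h1]
    _ = g' * (z' * x' * z'⁻¹) * g'⁻¹ := by group
    _ = (g' * x' * g'⁻¹)⁻¹ := by rw [hx]; group

theorem comm_pair (hA : σ.ker ≤ center Γ) (hone : ∀ a ∈ σ.ker, a * a = 1 → a = 1)
    {g' x y : Γ} (h : σ x * σ y = σ y * σ x) (hx : g' * x * g'⁻¹ = x) (hy : g' * y * g'⁻¹ = y⁻¹) :
    x * y = y * x := by
  set c := x * y * x⁻¹ * y⁻¹ with hcdef
  have hc : c ∈ σ.ker := by
    rw [MonoidHom.mem_ker, hcdef, map_mul, map_mul, map_mul, map_inv, map_inv, h]; group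
  have hcc : ∀ w, w * c = c * w := mem_center_iff.1 (hA hc)
  have hconj : ∀ w, w * c * w⁻¹ = c := fun w => by rw [hcc w, mul_assoc, mul_inv_cancel, mul_one]
  have h1 : c = x * y⁻¹ * x⁻¹ * y := by
    calc c = g' * c * g'⁻¹ := (hconj g').symm
      _ = (g' * x * g'⁻¹) * (g' * y * g'⁻¹) * (g' * x * g'⁻¹)⁻¹ * (g' * y * g'⁻¹)⁻¹ := by rw [hcdef]; group
      _ = x * y⁻¹ * x⁻¹ * y := by rw [hx, hy, inv_inv]
  have h2 : c = y⁻¹ * x * y * x⁻¹ := by
    calc c = y⁻¹ * c * y⁻¹⁻¹ := (hconj y⁻¹).symm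
      _ = y⁻¹ * x * y * x⁻¹ := by rw [hcdef]; group
  have h3 : c * c = 1 := by
    nth_rewrite 1 [h1]
    rw [h2]
    group
  have h4 := hone c hc h3
  have h5 : x * y = c * (y * x) := by rw [hcdef]; group
  rw [h5, h4, one_mul]

end Lifts

theorem p3 {G : Type} [Group G] [Finite G] {n : ℕ} (z : G) (hz : z ^ 2 = 1) (T : Fin n → G)
    (hT3 : ∀ i, T i ^ 3 = 1) (hTz : ∀ i, z * T i * z⁻¹ = (T i)⁻¹) (hTT : ∀ i j, T i * T j = T j * T i)
    (r s k : G) (hrz : r * z = z * r) (hsz : s * z = z * s) (hkz : k * z = z * k)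
    (hr3 : r ^ 3 = 1) (hs3 : s ^ 3 = 1) (hk2 : k ^ 2 = 1) (hrs : r * s = s * r)
    (hkr : k * r * k⁻¹ = r⁻¹) (hks : k * s = s * k)
    (hrT : ∀ i, ∃ j, r * T i * r⁻¹ = T j ∨ r * T i * r⁻¹ = (T j)⁻¹)
    (hsT : ∀ i, ∃ j, s * T i * s⁻¹ = T j ∨ s * T i * s⁻¹ = (T j)⁻¹)
    (hkT : ∀ i, ∃ j, k * T i * k⁻¹ = T j ∨ k * T i * k⁻¹ = (T j)⁻¹)
    (hpair : ∀ i j, i ≠ j → ∃ g, g * z = z * g ∧
      ((g * T i * g⁻¹ = T i ∧ g * T j * g⁻¹ = (T j)⁻¹) ∨ (g * T i * g⁻¹ = (T i)⁻¹ ∧ g * T j * g⁻¹ = T j)))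
    (hidx : ¬ 3 ∣ (Subgroup.closure (Set.range T ∪ {r, s, k})).index) :
    Cfsg.Agent.Lib.SchurSylow.PStemDvd 3 G 1 := by
  classical
  intro Γ _ _ σ hσ hp
  haveI : Fact (Nat.Prime 3) := ⟨Nat.prime_three⟩
  have hs : Function.Surjective σ := hσ.1
  have hA : σ.ker ≤ center Γ := hσ.2.1
  have hodd : ∀ a ∈ σ.ker, ∃ m : ℕ, a ^ (2 * m + 1) = 1 := by
    intro a ha
    obtain ⟨e, he⟩ := hp ⟨a, ha⟩
    have he' : a ^ 3 ^ e = 1 := by simpa using congrArg Subtype.val he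
    have h3 : Odd (3 ^ e) := Odd.pow (by decide)
    obtain ⟨m, hm⟩ := h3
    exact ⟨m, by rw [← hm]; exact he'⟩
  have hsq : ∀ a ∈ σ.ker, ∃ b ∈ σ.ker, b * b = a := by
    intro a ha
    obtain ⟨m, hm⟩ := hodd a ha
    refine ⟨a ^ (m + 1), pow_mem ha _, ?_⟩
    rw [← pow_add, show m + 1 + (m + 1) = (2 * m + 1) + 1 from by ring, pow_add, hm, one_mul, pow_one]
  have hone : ∀ a ∈ σ.ker, a * a = 1 → a = 1 := by
    intro a ha haa
    obtain ⟨m, hm⟩ := hodd a ha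
    rw [pow_add, pow_mul, pow_two, haa, one_pow, one_mul, pow_one] at hm
    exact hm
  -- the lifts
  obtain ⟨z', hz', hzz⟩ := invol_lift hs hA hsq hz
  obtain ⟨k', hk', hkk⟩ := invol_lift hs hA hsq hk2
  obtain ⟨s', hs'⟩ := hs s
  obtain ⟨r', hr', hkr'⟩ := inv_lift (σ := σ) hs hA hsq (z' := k') (x := r) (by rw [hk']; exact hkr)
  have hT : ∀ i, ∃ x, σ x = T i ∧ z' * x * z'⁻¹ = x⁻¹ := fun i =>
    inv_lift (σ := σ) hs hA hsq (z' := z') (x := T i) (by rw [hz']; exact hTz i)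
  choose T' hT' hTz' using hT
  have hTz'i : ∀ i, z' * (T' i)⁻¹ * z'⁻¹ = (T' i)⁻¹⁻¹ := by
    intro i
    have e : z' * (T' i)⁻¹ * z'⁻¹ = (z' * T' i * z'⁻¹)⁻¹ := by group
    rw [e, hTz' i]
  have hcz : ∀ g' : Γ, σ g' * z = z * σ g' → g' * z' = z' * g' := fun g' h =>
    comm_lift hA hone hzz (by rw [hz']; exact h)
  have hrz' : r' * z' = z' * r' := hcz r' (by rw [hr']; exact hrz)
  have hsz' : s' * z' = z' * s' := hcz s' (by rw [hs']; exact hsz)
  have hkz' : k' * z' = z' * k' := hcz k' (by rw [hk']; exact hkz)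
  have hsk' : s' * k' = k' * s' := comm_lift hA hone hkk (by rw [hk', hs']; exact hks.symm)
  have hrs' : s' * r' = r' * s' := by
    refine comm_pair hA hone (g' := k') (by rw [hs', hr']; exact hrs.symm) ?_ hkr'
    rw [← hsk', mul_assoc, mul_inv_cancel, mul_one]
  -- the `T' i` commute
  have hTT' : ∀ i j, T' i * T' j = T' j * T' i := by
    intro i j
    by_cases hij : i = j
    · rw [hij]
    · obtain ⟨g, hgz, hg⟩ := hpair i j hij
      obtain ⟨g', hg'⟩ := hs g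
      have hgz' : g' * z' = z' * g' := hcz g' (by rw [hg']; exact hgz)
      rcases hg with ⟨h1, h2⟩ | ⟨h1, h2⟩
      · refine comm_pair hA hone (g' := g') (by rw [hT', hT']; exact hTT i j) ?_ ?_
        · exact conj_lift hA hone hgz' (hTz' i) (hTz' i) (by rw [hg', hT']; exact h1)
        · exact conj_lift hA hone hgz' (hTz' j) (hTz'i j) (by rw [hg', map_inv, hT']; exact h2)
      · refine (comm_pair hA hone (g' := g') (by rw [hT', hT']; exact hTT j i) ?_ ?_).symm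
        · exact conj_lift hA hone hgz' (hTz' j) (hTz' j) (by rw [hg', hT']; exact h2)
        · exact conj_lift hA hone hgz' (hTz' i) (hTz'i i) (by rw [hg', map_inv, hT']; exact h1)
  set V : Subgroup Γ := closure (Set.range T') with hV
  have hVcomm : ∀ a ∈ V, ∀ b ∈ V, a * b = b * a := by
    intro a ha b hb
    have h1 : V ≤ centralizer (V : Set Γ) := by
      rw [hV, closure_le]
      rintro _ ⟨i, rfl⟩
      rw [SetLike.mem_coe, centralizer_closure, mem_centralizer_iff]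
      rintro _ ⟨j, rfl⟩
      exact hTT' j i
    exact (mem_centralizer_iff.1 (h1 hb) a ha)
  have hVz : ∀ v ∈ V, z' * v * z'⁻¹ = v⁻¹ := by
    intro v hv
    induction hv using closure_induction with
    | mem v hv => obtain ⟨i, rfl⟩ := hv; exact hTz' i
    | one => simp
    | mul a b ha hb iha ihb =>
      have e : z' * (a * b) * z'⁻¹ = (z' * a * z'⁻¹) * (z' * b * z'⁻¹) := by group
      rw [e, iha, ihb, ← mul_inv_rev, hVcomm b hb a ha]
    | inv a ha iha =>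
      have e : z' * a⁻¹ * z'⁻¹ = (z' * a * z'⁻¹)⁻¹ := by group
      rw [e, iha]
  have hV3 : ∀ v ∈ V, (σ v) ^ 3 = 1 := by
    intro v hv
    induction hv using closure_induction with
    | mem v hv => obtain ⟨i, rfl⟩ := hv; rw [hT']; exact hT3 i
    | one => simp
    | mul a b ha hb iha ihb =>
      have hc : Commute (σ a) (σ b) := by
        show σ a * σ b = σ b * σ a
        rw [← map_mul, ← map_mul, hVcomm a ha b hb]
      rw [map_mul, hc.mul_pow, iha, ihb, one_mul]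
    | inv a ha iha => rw [map_inv, inv_pow, iha, inv_one]
  have hVmap : ∀ g' : Γ, (∀ i, g' * T' i * g'⁻¹ ∈ V) → ∀ v ∈ V, g' * v * g'⁻¹ ∈ V := by
    intro g' h v hv
    have h1 : V ≤ V.comap (MulAut.conj g').toMonoidHom := by
      conv_lhs => rw [hV]
      rw [closure_le]
      rintro _ ⟨i, rfl⟩
      exact h i
    exact h1 hv
  have hVg : ∀ g g' : Γ, g' * z' = z' * g' → (∀ i, ∃ j, σ g' * T i * (σ g')⁻¹ = T j ∨ σ g' * T i * (σ g')⁻¹ = (T j)⁻¹) →
      ∀ v ∈ V, g' * v * g'⁻¹ ∈ V := by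
    intro _ g' hg h
    refine hVmap g' ?_
    intro i
    obtain ⟨j, h1 | h1⟩ := h i
    · rw [conj_lift hA hone hg (hTz' i) (hTz' j) (by rw [hT', hT']; exact h1)]
      exact subset_closure ⟨j, rfl⟩
    · rw [conj_lift hA hone hg (hTz' i) (hTz'i j) (by rw [map_inv, hT', hT']; exact h1)]
      exact inv_mem (subset_closure ⟨j, rfl⟩)
  have hVr := hVg 1 r' hrz' (by rw [hr']; exact hrT)
  have hVs := hVg 1 s' hsz' (by rw [hs']; exact hsT)
  have hVk := hVg 1 k' hkz' (by rw [hk']; exact hkT)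
  set M : Subgroup Γ := V ⊔ zpowers r' with hM
  have hVM : V ≤ M := le_sup_left
  have hrM : r' ∈ M := (le_sup_right : zpowers r' ≤ M) (mem_zpowers r')
  have hMmap : ∀ g' : Γ, (∀ v ∈ V, g' * v * g'⁻¹ ∈ V) → g' * r' * g'⁻¹ ∈ M → g' ∈ normalizer (M : Set Γ) := by
    intro g' h1 h2
    apply mem_normalizer_fintype
    intro x hx
    have h3 : M ≤ M.comap (MulAut.conj g').toMonoidHom := by
      conv_lhs => rw [hM]
      rw [sup_le_iff, zpowers_le]
      exact ⟨fun v hv => hVM (h1 v hv), h2⟩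
    exact h3 hx
  have hsN : s' ∈ normalizer (M : Set Γ) := hMmap s' hVs (by
    rw [hrs', mul_assoc, mul_inv_cancel, mul_one]; exact hrM)
  have hkN : k' ∈ normalizer (M : Set Γ) := hMmap k' hVk (by rw [hkr']; exact inv_mem hrM)
  set X : Set Γ := (Set.range T' ∪ {r', s', k'}) ∪ (σ.ker : Set Γ) with hX
  have hXc : ∀ x ∈ X, x ∈ M ∨ x ∈ σ.ker ∨ x = s' ∨ x = k' := by
    rintro x ((⟨i, rfl⟩ | hx) | hx)
    · exact Or.inl (hVM (subset_closure ⟨i, rfl⟩))
    · simp only [Set.mem_insert_iff, Set.mem_singleton_iff] at hx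
      rcases hx with rfl | rfl | rfl
      · exact Or.inl hrM
      · exact Or.inr (Or.inr (Or.inl rfl))
      · exact Or.inr (Or.inr (Or.inr rfl))
    · exact Or.inr (Or.inl hx)
  have hXN : ∀ x ∈ X, x ∈ normalizer (M : Set Γ) := by
    intro x hx
    rcases hXc x hx with h | h | rfl | rfl
    · exact le_normalizer h
    · rw [mem_normalizer_iff]
      intro w
      have h1 : x * w * x⁻¹ = w := by
        rw [← (mem_center_iff.1 (hA h) w), mul_assoc, mul_inv_cancel, mul_one]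
      rw [h1]
    · exact hsN
    · exact hkN
  have hXM : ∀ x ∈ X, ∀ y ∈ X, x * y * x⁻¹ * y⁻¹ ∈ M := by
    intro x hx y hy
    have hcm : x * y = y * x → x * y * x⁻¹ * y⁻¹ ∈ M := by
      intro h
      have : x * y * x⁻¹ * y⁻¹ = 1 := by rw [h]; group
      rw [this]; exact one_mem M
    rcases hXc x hx with h | h | h | h
    · have e : x * y * x⁻¹ * y⁻¹ = x * (y * x⁻¹ * y⁻¹) := by group
      rw [e]
      exact mul_mem h ((mem_normalizer_iff.1 (hXN y hy) _).1 (inv_mem h))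
    · exact hcm (mem_center_iff.1 (hA h) y).symm
    all_goals
      rcases hXc y hy with h' | h' | h' | h'
      · exact mul_mem ((mem_normalizer_iff.1 (hXN x hx) _).1 h') (inv_mem h')
      · exact hcm (mem_center_iff.1 (hA h') x)
      · rw [h, h']
        first
        | exact (by simp : s' * s' * s'⁻¹ * s'⁻¹ = 1) ▸ one_mem M
        | (have e : k' * s' * k'⁻¹ * s'⁻¹ = 1 := by rw [← hsk']; group
           rw [e]; exact one_mem M)
      · rw [h, h']
        first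
        | exact (by simp : k' * k' * k'⁻¹ * k'⁻¹ = 1) ▸ one_mem M
        | (have e : s' * k' * s'⁻¹ * k'⁻¹ = 1 := by rw [hsk']; group
           rw [e]; exact one_mem M)
  have hcl := comm_closure_le M X hXN hXM
  have hcomap : (closure (Set.range T ∪ {r, s, k})).comap σ ≤ closure X := by
    have h1 : closure (Set.range T ∪ {r, s, k}) ≤ (closure X).map σ := by
      rw [closure_le]
      rintro _ (⟨i, rfl⟩ | hx)
      · exact ⟨T' i, subset_closure (Or.inl (Or.inl ⟨i, rfl⟩)), hT' i⟩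
      · simp only [Set.mem_insert_iff, Set.mem_singleton_iff] at hx
        rcases hx with rfl | rfl | rfl
        · exact ⟨r', subset_closure (Or.inl (Or.inr (by simp))), hr'⟩
        · exact ⟨s', subset_closure (Or.inl (Or.inr (by simp))), hs'⟩
        · exact ⟨k', subset_closure (Or.inl (Or.inr (by simp))), hk'⟩
    intro x hx
    obtain ⟨y, hy, hyx⟩ := h1 hx
    have h2 : y⁻¹ * x ∈ closure X := subset_closure (Or.inr (by
      rw [SetLike.mem_coe, MonoidHom.mem_ker, map_mul, map_inv, hyx, inv_mul_cancel]))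
    have h3 := mul_mem hy h2
    rwa [mul_inv_cancel_left] at h3
  have hkerM : σ.ker ≤ M :=
    (ker_le_commutator_comap σ hσ hp _ hidx).trans ((commutator_mono hcomap hcomap).trans hcl)
  have hker : ∀ a ∈ σ.ker, a = 1 := by
    intro a ha
    have hle : zpowers r' ≤ normalizer (V : Set Γ) := by
      rw [zpowers_le]
      exact mem_normalizer_fintype hVr
    have h1 : a ∈ ((V ⊔ zpowers r' : Subgroup Γ) : Set Γ) := hkerM ha
    rw [coe_mul_of_right_le_normalizer_left _ _ hle] at h1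
    obtain ⟨v, hv, w, hw, hvw⟩ := h1
    have hvw' : v * w = a := hvw
    obtain ⟨m, rfl⟩ := mem_zpowers_iff.1 hw
    have hac : ∀ w, w * a = a * w := mem_center_iff.1 (hA ha)
    have hv' : v = a * (r' ^ m)⁻¹ := by rw [← hvw']; group
    have hrm : Commute (r' ^ m)⁻¹ z' := by
      have : Commute r' z' := hrz'
      exact (this.zpow_left m).inv_left
    have h2 : z' * v * z'⁻¹ = v := by
      have h3 : z' * v = v * z' := by
        rw [hv', ← mul_assoc, hac z', mul_assoc, ← hrm.eq, mul_assoc]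
      rw [h3, mul_assoc, mul_inv_cancel, mul_one]
    have h3 : v * v = 1 := by
      have h4 := hVz v hv
      rw [h2] at h4
      nth_rewrite 1 [h4]
      exact inv_mul_cancel v
    have h4 : σ v = 1 := by
      have h5 := hV3 v hv
      have h6 : σ v * σ v = 1 := by rw [← map_mul, h3, map_one]
      rw [pow_succ, pow_two, h6, one_mul] at h5
      exact h5
    have h5 : v = 1 := hone v ((MonoidHom.mem_ker).2 h4) h3
    rw [h5, one_mul] at hvw'
    have h6 : k' * (r' ^ m) * k'⁻¹ = (r' ^ m)⁻¹ := by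
      have : (k' * r' * k'⁻¹) ^ m = k' * r' ^ m * k'⁻¹ := by
        rw [conj_zpow]
      rw [← this, hkr', inv_zpow]
    rw [hvw'] at h6
    have h7 : k' * a * k'⁻¹ = a := by rw [hac k', mul_assoc, mul_inv_cancel, mul_one]
    rw [h7] at h6
    apply hone a ha
    nth_rewrite 1 [h6]
    exact inv_mul_cancel a
  have hbot : σ.ker = ⊥ := by
    rw [eq_bot_iff]
    intro a ha
    exact hker a ha
  rw [hbot]
  simp

end Cfsg.Agent.Lib.LyM3
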