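import Cfsg.Agent.Lib.LyN
import Cfsg.Agent.Lib.LyE
import Cfsg.Agent.Lib.LyG14

/-!
# The action of `G₂(5)` on 19530 lanes: checks
-/

set_option autoImplicit false
set_option linter.all false
set_option maxRecDepth 100000

namespace Cfsg.Agent.Lib.LyNC

open Cfsg.Agent.Lib.BenesPerm Cfsg.Agent.Lib.BenesAct Cfsg.Agent.Lib.BenesWord Cfsg.Agent.Lib.LyN

/-- inverse letters -/
def ivL : List ℕ := [15, 16, 17, 18, 19, 20, 21, 22, 23, 24, 25, 26, 27, 28, 29, 0, 1, 2, 3, 4, 5, 6, 7, 8, 9, 10, 11, 12, 13, 14]

/-- inverse letters -/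
noncomputable def iv (c : ℕ) : ℕ := ivOf ivL c

theorem c_nets : netsCheck (2 ^ 15) nets = true := by decide +kernel

/-- inverse letters check -/
noncomputable def ivK (l : List ℕ) : Bool := List.rec (motive := fun _ => Bool) true (fun c _ ih => bandK (BenesPack.relD nets 15 4 [iv c, c]) ih) l

theorem c_iv : ivK (List.range 30) = true := by decide +kernel

theorem ivK_spec {l : List ℕ} (h : ivK l = true) : ∀ c ∈ l, BenesPack.relD nets 15 4 [iv c, c] = true := by
  induction l with
  | nil => intro c hc; simp at hc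
  | cons a l ih =>
    have h' : bandK (BenesPack.relD nets 15 4 [iv a, a]) (ivK l) = true := h
    rw [bandK_eq_true] at h'
    intro c hc
    rcases List.mem_cons.mp hc with rfl | hc
    · exact h'.1
    · exact ih h'.2 c hc

theorem c_rels : BenesPack.relsD nets 15 4 iv Cfsg.Agent.Lib.LyG14.relP = true := by decide +kernel

theorem len_nets : nets.length = 30 := by decide +kernel

theorem iv_sperm (c : ℕ) : sperm nets (iv c) = (sperm nets c)⁻¹ := by
  apply sperm_iv c_nets rfl (iv := iv)
  · intro c hc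
    rw [len_nets] at hc
    unfold iv ivOf
    rw [nthK_eq, List.getElem?_eq_none (by simpa [ivL] using hc)]; rfl
  · intro c hc
    rw [len_nets] at hc
    exact BenesPack.relK_of_relD c_nets (ivK_spec c_iv c (List.mem_range.mpr hc))

theorem rel_sperm : ∀ W ∈ Cfsg.Agent.Lib.LyG14.relP, W.eval (sperm nets) = 1 := fun W hW =>
  eval_sperm c_nets rfl iv_sperm (BenesPack.relK_of_relsD c_nets c_rels W hW)

end Cfsg.Agent.Lib.LyNC
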