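import Mathlib

/-!
Automorphisms of a group `S ⋊ T` with `|S| = 5 ^ 6`, `T` of type `(4, 4)` with the weights of type `G₂` (helper35).
-/

set_option autoImplicit false
set_option linter.all false
set_option maxRecDepth 100000

namespace Cfsg.Agent.Lib.LyOutA

/-- weights of the first generator of the torus -/
def K1 : Fin 6 → ZMod 5 := ![2, 4, 3, 2, 3, 1]
/-- weights of the second generator of the torus -/
def K2 : Fin 6 → ZMod 5 := ![4, 3, 2, 1, 3, 2]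

/-- kernels of weights -/
def kerOk (m1 m2 : ZMod 5) (s : Fin 6) : Prop := ∀ i j : Fin 4, m1 ^ (i : ℕ) * m2 ^ (j : ℕ) = 1 → K1 s ^ (i : ℕ) * K2 s ^ (j : ℕ) = 1

instance (m1 m2 : ZMod 5) (s : Fin 6) : Decidable (kerOk m1 m2 s) := by unfold kerOk; infer_instance

theorem dec1 : ∀ m1 m2 : ZMod 5, m1 ≠ 0 → m2 ≠ 0 → ∀ s s' : Fin 6, kerOk m1 m2 s → kerOk m1 m2 s' → s = s' := by
  decide +kernel

/-- the character of `T` twisted by a matrix -/
def tw (a b : Fin 4) (r : Fin 6) : ZMod 5 := K1 r ^ (a : ℕ) * K2 r ^ (b : ℕ)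

theorem tw_ne : ∀ (a b : Fin 4) (r : Fin 6), tw a b r ≠ 0 := by decide +kernel

theorem dec2 : ∀ a1 b1 a2 b2 : Fin 4, (∀ r : Fin 6, ∃ s : Fin 6, tw a1 b1 r = K1 s ∧ tw a2 b2 r = K2 s) →
    ∀ s0 s1 : Fin 6, (tw a1 b1 0 = K1 s0 ∧ tw a2 b2 0 = K2 s0) → (tw a1 b1 1 = K1 s1 ∧ tw a2 b2 1 = K2 s1) →
    (s0 = 0 ∨ s1 = 0) → (s0 = 1 ∨ s1 = 1) → a1 = 1 ∧ b1 = 0 ∧ a2 = 0 ∧ b2 = 1 ∧ s0 = 0 ∧ s1 = 1 := by
  decide +kernel

theorem dec3 : ∀ e f : ZMod 5, e ≠ 0 → f ≠ 0 → ∃ i j : Fin 4, tw i j 0 = e ∧ tw i j 1 = f := by decide +kernel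

theorem v1 : (1 : ZMod 5).val = 1 := rfl

theorem prime5 : Fact (Nat.Prime 5) := ⟨by norm_num⟩

attribute [local instance] prime5

section
variable {G : Type*} [Group G]

/-- the normal form -/
def NF (x : Fin 6 → G) (e : Fin 6 → ZMod 5) : G :=
  x 0 ^ (e 0).val * x 1 ^ (e 1).val * x 2 ^ (e 2).val * x 3 ^ (e 3).val * x 4 ^ (e 4).val * x 5 ^ (e 5).val

theorem pow_val {y : G} (h : y ^ 5 = 1) (a b : ZMod 5) : y ^ (a * b).val = (y ^ a.val) ^ b.val := by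
  rw [← pow_mul, ZMod.val_mul, ← pow_mod_orderOf, ← pow_mod_orderOf y (a.val * b.val)]
  congr 1
  exact (Nat.mod_mod_of_dvd _ (orderOf_dvd_of_pow_eq_one h))

theorem conj_pow' (t y : G) (n : ℕ) : t * y ^ n * t⁻¹ = (t * y * t⁻¹) ^ n := (conj_pow).symm

theorem conj_NF {x : Fin 6 → G} (h5 : ∀ r, x r ^ 5 = 1) {t : G} {k : Fin 6 → ZMod 5}
    (ht : ∀ r, t * x r * t⁻¹ = x r ^ (k r).val) (e : Fin 6 → ZMod 5) :
    t * NF x e * t⁻¹ = NF x (fun r => k r * e r) := by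
  unfold NF
  have h : ∀ r, x r ^ (k r * e r).val = t * x r ^ (e r).val * t⁻¹ := by
    intro r
    rw [conj_pow', ht, ← pow_val (h5 r)]
  simp only [h]
  group

/-- two torus elements acting with weights -/
theorem weight_mul {x : Fin 6 → G} (h5 : ∀ r, x r ^ 5 = 1) {t u : G} {k l : Fin 6 → ZMod 5}
    (ht : ∀ r, t * x r * t⁻¹ = x r ^ (k r).val) (hu : ∀ r, u * x r * u⁻¹ = x r ^ (l r).val) :
    ∀ r, (t * u) * x r * (t * u)⁻¹ = x r ^ (k r * l r).val := by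
  intro r
  have : (t * u) * x r * (t * u)⁻¹ = t * (u * x r * u⁻¹) * t⁻¹ := by group
  rw [this, hu, conj_pow', ht, ← pow_val (h5 r)]

theorem weight_pow {x : Fin 6 → G} (h5 : ∀ r, x r ^ 5 = 1) {t : G} {k : Fin 6 → ZMod 5}
    (ht : ∀ r, t * x r * t⁻¹ = x r ^ (k r).val) (n : ℕ) :
    ∀ r, t ^ n * x r * (t ^ n)⁻¹ = x r ^ (k r ^ n).val := by
  induction n with
  | zero => intro r; simp [v1]
  | succ n ih => 
    intro r
    have := weight_mul h5 ih ht r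
    rw [pow_succ, pow_succ, this]

theorem pow_eq_of_conj {y t : G} {m : ZMod 5} (h5 : y ^ 5 = 1) (h : t * y * t⁻¹ = y ^ m.val) (n : ℕ) :
    t ^ n * y * (t ^ n)⁻¹ = y ^ (m ^ n).val := by
  induction n with
  | zero => simp [v1]
  | succ n ih =>
    have : t ^ (n + 1) * y * (t ^ (n + 1))⁻¹ = t ^ n * (t * y * t⁻¹) * (t ^ n)⁻¹ := by rw [pow_succ]; group
    rw [this, h, conj_pow', ih, ← pow_val h5, pow_succ]

theorem NF_single (x : Fin 6 → G) (s : Fin 6) (e : Fin 6 → ZMod 5) (h : ∀ r, r ≠ s → e r = 0) : NF x e = x s ^ (e s).val := by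
  unfold NF
  fin_cases s
  · have h1 := h 1 (by decide); have h2 := h 2 (by decide); have h3 := h 3 (by decide); have h4 := h 4 (by decide); have h5 := h 5 (by decide)
    simp [h1, h2, h3, h4, h5]
  · have h1 := h 0 (by decide); have h2 := h 2 (by decide); have h3 := h 3 (by decide); have h4 := h 4 (by decide); have h5 := h 5 (by decide)
    simp [h1, h2, h3, h4, h5]
  · have h1 := h 0 (by decide); have h2 := h 1 (by decide); have h3 := h 3 (by decide); have h4 := h 4 (by decide); have h5 := h 5 (by decide)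
    simp [h1, h2, h3, h4, h5]
  · have h1 := h 0 (by decide); have h2 := h 1 (by decide); have h3 := h 2 (by decide); have h4 := h 4 (by decide); have h5 := h 5 (by decide)
    simp [h1, h2, h3, h4, h5]
  · have h1 := h 0 (by decide); have h2 := h 1 (by decide); have h3 := h 2 (by decide); have h4 := h 3 (by decide); have h5 := h 5 (by decide)
    simp [h1, h2, h3, h4, h5]
  · have h1 := h 0 (by decide); have h2 := h 1 (by decide); have h3 := h 2 (by decide); have h4 := h 3 (by decide); have h5 := h 4 (by decide)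
    simp [h1, h2, h3, h4, h5]

/-- the data of `S` and `T` -/
structure Dat (x : Fin 6 → G) (t1 t2 : G) (S T : Subgroup G) : Prop where
  h5 : ∀ r, x r ^ 5 = 1
  ht1 : ∀ r, t1 * x r * t1⁻¹ = x r ^ (K1 r).val
  ht2 : ∀ r, t2 * x r * t2⁻¹ = x r ^ (K2 r).val
  comm : t1 * t2 = t2 * t1
  inj : Function.Injective (NF x)
  hS : ∀ g, g ∈ S ↔ ∃ e, NF x e = g
  hT : ∀ g, g ∈ T ↔ ∃ i j : Fin 4, g = t1 ^ (i : ℕ) * t2 ^ (j : ℕ)
  gen : Subgroup.closure {x 0, x 1} = S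
  p1 : ∃ Q : Subgroup G, (∀ r, r ≠ 1 → x r ∈ Q) ∧ x 1 ∉ Q
  p0 : ∃ Q : Subgroup G, (∀ r, r ≠ 0 → x r ∈ Q) ∧ x 0 ∉ Q

variable {x : Fin 6 → G} {t1 t2 : G} {S T : Subgroup G}

theorem Dat.wt (D : Dat x t1 t2 S T) (i j : ℕ) (r : Fin 6) :
    (t1 ^ i * t2 ^ j) * x r * (t1 ^ i * t2 ^ j)⁻¹ = x r ^ (K1 r ^ i * K2 r ^ j).val :=
  weight_mul D.h5 (weight_pow D.h5 D.ht1 i) (weight_pow D.h5 D.ht2 j) r

theorem Dat.x_mem (D : Dat x t1 t2 S T) (r : Fin 6) : x r ∈ S := by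
  rw [D.hS]
  refine ⟨fun s => if s = r then 1 else 0, ?_⟩
  rw [NF_single x r _ (fun s hs => if_neg hs)]
  simp [v1]

theorem Dat.x_ne (D : Dat x t1 t2 S T) (r : Fin 6) : x r ≠ 1 := by
  intro h
  have h1 : NF x (fun s => if s = r then 1 else 0) = NF x (fun _ => 0) := by
    rw [NF_single x r _ (fun s hs => if_neg hs), NF_single x r _ (fun s hs => rfl)]
    simp [h]
  have := congrFun (D.inj h1) r
  simp only [if_true] at this
  exact absurd this (by decide)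

theorem Dat.x_pow_inj (D : Dat x t1 t2 S T) (r : Fin 6) {a b : ZMod 5} (h : x r ^ a.val = x r ^ b.val) : a = b := by
  have h1 : NF x (fun s => if s = r then a else 0) = NF x (fun s => if s = r then b else 0) := by
    rw [NF_single x r _ (fun s hs => if_neg hs), NF_single x r _ (fun s hs => if_neg hs)]
    simpa using h
  have := congrFun (D.inj h1) r
  simpa using this

/-- eigenvectors are root elements -/
theorem Dat.eigen (D : Dat x t1 t2 S T) {y : G} (hy : y ∈ S) (hy1 : y ≠ 1) (hy5 : y ^ 5 = 1) {m1 m2 : ZMod 5} (hm1 : m1 ≠ 0) (hm2 : m2 ≠ 0)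
    (e1 : t1 * y * t1⁻¹ = y ^ m1.val) (e2 : t2 * y * t2⁻¹ = y ^ m2.val) :
    ∃ s : Fin 6, ∃ c : ZMod 5, c ≠ 0 ∧ y = x s ^ c.val ∧ K1 s = m1 ∧ K2 s = m2 := by
  obtain ⟨e, rfl⟩ := (D.hS y).mp hy
  have key : ∀ s, e s ≠ 0 → kerOk m1 m2 s := by
    intro s hs i j hij
    have h1 : (t1 ^ (i : ℕ) * t2 ^ (j : ℕ)) * NF x e * (t1 ^ (i : ℕ) * t2 ^ (j : ℕ))⁻¹ = NF x e := by
      have h2 := pow_eq_of_conj hy5 e1 i
      have h3 := pow_eq_of_conj hy5 e2 j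
      have : (t1 ^ (i : ℕ) * t2 ^ (j : ℕ)) * NF x e * (t1 ^ (i : ℕ) * t2 ^ (j : ℕ))⁻¹ =
        t1 ^ (i : ℕ) * (t2 ^ (j : ℕ) * NF x e * (t2 ^ (j : ℕ))⁻¹) * (t1 ^ (i : ℕ))⁻¹ := by group
      rw [this, h3, conj_pow', h2, ← pow_val hy5, hij]
      simp [v1]
    rw [conj_NF D.h5 (fun r => D.wt i j r)] at h1
    have h4 := congrFun (D.inj h1) s
    exact mul_right_cancel₀ hs (by rw [h4, one_mul])
  obtain ⟨s, hs⟩ : ∃ s, e s ≠ 0 := by
    by_contra hcon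
    push Not at hcon
    apply hy1
    rw [NF_single x 0 e (fun r _ => hcon r), hcon 0]
    simp
  have huniq : ∀ r, r ≠ s → e r = 0 := by
    intro r hr
    by_contra h
    exact hr (dec1 m1 m2 hm1 hm2 r s (key r h) (key s hs))
  have hys : NF x e = x s ^ (e s).val := NF_single x s e huniq
  refine ⟨s, e s, hs, hys, ?_, ?_⟩
  · rw [hys, conj_pow', D.ht1, ← pow_val (D.h5 s), ← pow_val (D.h5 s)] at e1
    have := D.x_pow_inj s e1
    rw [mul_comm (e s)] at this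
    exact mul_right_cancel₀ hs this
  · rw [hys, conj_pow', D.ht2, ← pow_val (D.h5 s), ← pow_val (D.h5 s)] at e2
    have := D.x_pow_inj s e2
    rw [mul_comm (e s)] at this
    exact mul_right_cancel₀ hs this

/-- automorphisms preserving `S` and `T` act on them as elements of `T` -/
theorem Dat.aut (D : Dat x t1 t2 S T) (φ : G ≃* G) (hφS : ∀ s ∈ S, φ s ∈ S) (hφS' : ∀ s ∈ S, φ.symm s ∈ S)
    (hφT : ∀ s ∈ T, φ.symm s ∈ T) :
    ∃ t ∈ T, (∀ s ∈ S, φ s = t * s * t⁻¹) ∧ (∀ u ∈ T, φ u = t * u * t⁻¹) := by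
  have ht1T : t1 ∈ T := (D.hT _).mpr ⟨1, 0, by simp⟩
  have ht2T : t2 ∈ T := (D.hT _).mpr ⟨0, 1, by simp⟩
  obtain ⟨a1, b1, h1⟩ := (D.hT _).mp (hφT _ ht1T)
  obtain ⟨a2, b2, h2⟩ := (D.hT _).mp (hφT _ ht2T)
  have hy : ∀ r, ∃ s : Fin 6, ∃ c : ZMod 5, c ≠ 0 ∧ φ (x r) = x s ^ c.val ∧ K1 s = tw a1 b1 r ∧ K2 s = tw a2 b2 r := by
    intro r
    apply D.eigen (hφS _ (D.x_mem r))
    · intro h
      exact D.x_ne r (φ.injective (by rw [h, map_one]))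
    · rw [← map_pow, D.h5, map_one]
    · exact tw_ne _ _ _
    · exact tw_ne _ _ _
    · have : t1 * φ (x r) * t1⁻¹ = φ (φ.symm t1 * x r * (φ.symm t1)⁻¹) := by simp
      rw [this, h1, D.wt, map_pow]; rfl
    · have : t2 * φ (x r) * t2⁻¹ = φ (φ.symm t2 * x r * (φ.symm t2)⁻¹) := by simp
      rw [this, h2, D.wt, map_pow]; rfl
  obtain ⟨s0, c0, hc0, e0, k01, k02⟩ := hy 0
  obtain ⟨s1, c1, hc1, e1, k11, k12⟩ := hy 1
  have hgen : ∀ Q : Subgroup G, φ (x 0) ∈ Q → φ (x 1) ∈ Q → ∀ s ∈ S, s ∈ Q := by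
    intro Q q0 q1 s hs
    have h3 : φ.symm s ∈ Subgroup.closure {x 0, x 1} := by rw [D.gen]; exact hφS' s hs
    have h4 : Subgroup.closure {x 0, x 1} ≤ Q.comap φ.toMonoidHom := by
      rw [Subgroup.closure_le]
      rintro _ (rfl | rfl)
      · exact q0
      · exact q1
    have h5 := h4 h3
    rw [Subgroup.mem_comap] at h5
    simpa using h5
  have c0' : s0 = 0 ∨ s1 = 0 := by
    by_contra hcon
    push Not at hcon
    obtain ⟨Q, hQ, hQ'⟩ := D.p0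
    apply hQ'
    apply hgen Q _ _ _ (D.x_mem 0)
    · rw [e0]; exact Q.pow_mem (hQ _ hcon.1) _
    · rw [e1]; exact Q.pow_mem (hQ _ hcon.2) _
  have c1' : s0 = 1 ∨ s1 = 1 := by
    by_contra hcon
    push Not at hcon
    obtain ⟨Q, hQ, hQ'⟩ := D.p1
    apply hQ'
    apply hgen Q _ _ _ (D.x_mem 1)
    · rw [e0]; exact Q.pow_mem (hQ _ hcon.1) _
    · rw [e1]; exact Q.pow_mem (hQ _ hcon.2) _
  obtain ⟨ha1, hb1, ha2, hb2, hs0, hs1⟩ := dec2 a1 b1 a2 b2 (fun r => by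
      obtain ⟨s, c, _, _, k1, k2⟩ := hy r
      exact ⟨s, k1.symm, k2.symm⟩) s0 s1 ⟨k01.symm, k02.symm⟩ ⟨k11.symm, k12.symm⟩ c0' c1'
  subst ha1 hb1 ha2 hb2 hs0 hs1
  have f1 : φ t1 = t1 := by
    have : φ.symm t1 = t1 := by rw [h1]; simp
    rw [← this, φ.apply_symm_apply, this]
  have f2 : φ t2 = t2 := by
    have : φ.symm t2 = t2 := by rw [h2]; simp
    rw [← this, φ.apply_symm_apply, this]
  obtain ⟨i, j, d0, d1⟩ := dec3 c0 c1 hc0 hc1
  refine ⟨t1 ^ (i : ℕ) * t2 ^ (j : ℕ), (D.hT _).mpr ⟨i, j, rfl⟩, ?_, ?_⟩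
  · have h6 : Subgroup.closure {x 0, x 1} ≤ MonoidHom.eqLocus φ.toMonoidHom (MulAut.conj (t1 ^ (i : ℕ) * t2 ^ (j : ℕ))).toMonoidHom := by
      rw [Subgroup.closure_le]
      rintro _ (rfl | rfl)
      · show φ (x 0) = (t1 ^ (i : ℕ) * t2 ^ (j : ℕ)) * x 0 * (t1 ^ (i : ℕ) * t2 ^ (j : ℕ))⁻¹
        rw [D.wt, e0, ← d0]; rfl
      · show φ (x 1) = (t1 ^ (i : ℕ) * t2 ^ (j : ℕ)) * x 1 * (t1 ^ (i : ℕ) * t2 ^ (j : ℕ))⁻¹
        rw [D.wt, e1, ← d1]; rfl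
    intro s hs
    rw [← D.gen] at hs
    exact h6 hs
  · intro u hu
    obtain ⟨i', j', rfl⟩ := (D.hT _).mp hu
    have hc : Commute t1 t2 := D.comm
    have hcc : Commute (t1 ^ (i : ℕ) * t2 ^ (j : ℕ)) (t1 ^ (i' : ℕ) * t2 ^ (j' : ℕ)) := by
      apply Commute.mul_left
      · exact ((Commute.refl t1).pow_pow _ _).mul_right (hc.pow_pow _ _)
      · exact (hc.symm.pow_pow _ _).mul_right ((Commute.refl t2).pow_pow _ _)
    rw [map_mul, map_pow, map_pow, f1, f2, hcc.eq, mul_inv_cancel_right]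

end

end Cfsg.Agent.Lib.LyOutA
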