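import Cfsg.Agent.Lib.LyOutA

/-!
The 5-local argument for the automorphisms of the Lyons group (helper35).
-/

set_option autoImplicit false
set_option linter.all false
set_option maxRecDepth 100000

namespace Cfsg.Agent.Lib.LyOutB

open Cfsg.Agent.Lib.LyOutA

attribute [local instance] prime5

section
variable {G : Type*} [Group G]

/-- the commutator -/
def cm (a b : G) : G := a * b * a⁻¹ * b⁻¹

/-- the conjugate `g H g⁻¹` -/
def cj (g : G) (H : Subgroup G) : Subgroup G := H.map (MulAut.conj g).toMonoidHom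

theorem mem_cj {g y : G} {H : Subgroup G} : y ∈ cj g H ↔ g⁻¹ * y * g ∈ H := by
  unfold cj
  rw [Subgroup.mem_map]
  constructor
  · rintro ⟨h, hh, rfl⟩
    have : g⁻¹ * (MulAut.conj g).toMonoidHom h * g = h := by
      show g⁻¹ * (g * h * g⁻¹) * g = h
      group
    rw [this]; exact hh
  · intro h
    exact ⟨_, h, by show g * (g⁻¹ * y * g) * g⁻¹ = y; group⟩

theorem card_cj (g : G) (H : Subgroup G) : Nat.card (cj g H) = Nat.card H :=
  Nat.card_congr (H.equivMapOfInjective _ (MulAut.conj g).injective).symm.toEquiv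

theorem cj_mono {g : G} {H K : Subgroup G} (h : H ≤ K) : cj g H ≤ cj g K := Subgroup.map_mono h

theorem cj_self {g : G} {H : Subgroup G} (h : g ∈ H) : cj g H = H := by
  ext y
  rw [mem_cj]
  constructor
  · intro hy
    have := H.mul_mem (H.mul_mem h hy) (H.inv_mem h)
    have e : g * (g⁻¹ * y * g) * g⁻¹ = y := by group
    rwa [e] at this
  · intro hy
    exact H.mul_mem (H.mul_mem (H.inv_mem h) hy) h

theorem inf_cj {H : Subgroup G} {h z k : G} (hh : h ∈ H) (hk : k ∈ H) : H ⊓ cj (h * z * k) H = cj h (H ⊓ cj z H) := by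
  ext y
  rw [Subgroup.mem_inf, mem_cj, mem_cj, Subgroup.mem_inf, mem_cj]
  have e : (h * z * k)⁻¹ * y * (h * z * k) = k⁻¹ * (z⁻¹ * (h⁻¹ * y * h) * z) * k := by group
  rw [e]
  constructor
  · rintro ⟨h1, h2⟩
    refine ⟨H.mul_mem (H.mul_mem (H.inv_mem hh) h1) hh, ?_⟩
    have := H.mul_mem (H.mul_mem hk h2) (H.inv_mem hk)
    have e2 : k * (k⁻¹ * (z⁻¹ * (h⁻¹ * y * h) * z) * k) * k⁻¹ = z⁻¹ * (h⁻¹ * y * h) * z := by group
    rwa [e2] at this
  · rintro ⟨h1, h2⟩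
    refine ⟨?_, H.mul_mem (H.mul_mem (H.inv_mem hk) h2) hk⟩
    have := H.mul_mem (H.mul_mem hh h1) (H.inv_mem hh)
    have e2 : h * (h⁻¹ * y * h) * h⁻¹ = y := by group
    rwa [e2] at this

variable [Finite G]

theorem cj_eq_of_le {g : G} {S : Subgroup G} (h : ∀ s ∈ S, g * s * g⁻¹ ∈ S) : cj g S = S := by
  have h1 : cj g S ≤ S := by
    intro y hy
    rw [mem_cj] at hy
    have := h _ hy
    have e : g * (g⁻¹ * y * g) * g⁻¹ = y := by group
    rwa [e] at this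
  apply Subgroup.eq_of_le_of_card_ge h1 (by rw [card_cj])

/-- the local data -/
structure Loc (H : Subgroup G) (z n1 n2 : G) (x : Fin 6 → G) (t1 t2 : G) (S T Q1 Q2 : Subgroup G) : Prop where
  D : Dat x t1 t2 S T
  SH : S ≤ H
  TH : T ≤ H
  cS : Nat.card S = 15625
  cT : Nat.card T = 16
  idx : ¬ 5 ∣ S.index
  nS : ∀ h ∈ H, (∀ s ∈ S, h * s * h⁻¹ ∈ S) → ∃ s ∈ S, ∃ t ∈ T, h = s * t
  Q1S : Q1 ≤ S
  Q2S : Q2 ≤ S
  c1 : Nat.card Q1 = 3125
  c2 : Nat.card Q2 = 3125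
  SQ1 : ∀ s ∈ S, ∀ q ∈ Q1, s * q * s⁻¹ ∈ Q1
  cent1 : ∀ h ∈ H, (∀ q ∈ Q1, h * q = q * h) → h ∈ Subgroup.closure {x 5}
  cent1' : ∀ q ∈ Q1, x 5 * q = q * x 5
  x5Q : x 5 ∈ Q1
  cent2 : ∀ h ∈ H, (∀ q ∈ Q2, h * q = q * h) → (∀ t ∈ T, h * t = t * h) → h = 1
  cls1 : ∀ a ∈ Q1, ∀ b ∈ Q1, ∀ c ∈ Q1, cm (cm a b) c = 1
  cls2 : ∃ a ∈ Q2, ∃ b ∈ Q2, ∃ c ∈ Q2, cm (cm a b) c ≠ 1
  cN : Nat.card (H ⊓ Subgroup.normalizer (Q1 : Set G) : Subgroup G) ≤ 1500000
  U1 : ∀ g, g ∉ H → ¬ 15625 ∣ Nat.card (H ⊓ cj g H : Subgroup G)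
  U2 : ∀ g, g ∉ H → 3125 ∣ Nat.card (H ⊓ cj g H : Subgroup G) → ∃ h ∈ H, ∃ k ∈ H, g = h * z * k
  cK : Nat.card (H ⊓ cj z H : Subgroup G) = 300000
  Q1K : Q1 ≤ H ⊓ cj z H
  KQ1 : ∀ k ∈ H ⊓ cj z H, ∀ q ∈ Q1, k * q * k⁻¹ ∈ Q1
  n1H : n1 ∈ H
  n2H : n2 ∈ H
  n1T : ∀ t ∈ T, n1 * t * n1⁻¹ ∈ T
  n2T : ∀ t ∈ T, n2 * t * n2⁻¹ ∈ T
  n1Q : ∀ q ∈ Q1, n1 * q * n1⁻¹ ∈ Q1
  n2Q : ∀ q ∈ Q2, n2 * q * n2⁻¹ ∈ Q2
  genH : ∀ R : Subgroup G, S ≤ R → T ≤ R → n1 ∈ R → n2 ∈ R → H ≤ R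
  genG : ∀ R : Subgroup G, H ≤ R → z ∈ R → R = ⊤
  w : ∃ w ∈ H ⊓ cj z H, w * x 5 ≠ x 5 * w

variable {H : Subgroup G} {z n1 n2 : G} {x : Fin 6 → G} {t1 t2 : G} {S T Q1 Q2 : Subgroup G}

theorem Loc.pS (L : Loc H z n1 n2 x t1 t2 S T Q1 Q2) : IsPGroup 5 S := IsPGroup.of_card (n := 6) (by rw [L.cS]; norm_num)

/-- the normalizer of `S` -/
theorem Loc.normS (L : Loc H z n1 n2 x t1 t2 S T Q1 Q2) {g : G} (h : ∀ s ∈ S, g * s * g⁻¹ ∈ S) : g ∈ H := by
  by_contra hg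
  apply L.U1 g hg
  have h1 : S ≤ H ⊓ cj g H := by
    apply le_inf L.SH
    have := cj_mono (g := g) L.SH
    rwa [cj_eq_of_le h] at this
  have := Subgroup.card_dvd_of_le h1
  rwa [L.cS] at this

/-- subgroups of `K` of order `5 ^ 5` -/
theorem Loc.eqQ1 (L : Loc H z n1 n2 x t1 t2 S T Q1 Q2) {R : Subgroup G} (hR : R ≤ H ⊓ cj z H) (hc : Nat.card R = 3125) : R = Q1 := by
  have pR : IsPGroup 5 R := IsPGroup.of_card (n := 5) (by rw [hc]; norm_num)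
  have pQ : IsPGroup 5 Q1 := IsPGroup.of_card (n := 5) (by rw [L.c1]; norm_num)
  have hRn : R ≤ Subgroup.normalizer (Q1 : Set G) := by
    intro r hr
    rw [Subgroup.mem_normalizer_iff]
    intro q
    constructor
    · intro hq
      exact L.KQ1 r (hR hr) q hq
    · intro hq
      have := L.KQ1 r⁻¹ ((H ⊓ cj z H).inv_mem (hR hr)) _ hq
      have e : r⁻¹ * (r * q * r⁻¹) * r⁻¹⁻¹ = q := by group
      rwa [e] at this
  have pS : IsPGroup 5 (R ⊔ Q1 : Subgroup G) := IsPGroup.to_sup_of_normal_right' pR pQ hRn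
  obtain ⟨n, hn⟩ := IsPGroup.iff_card.mp pS
  have hle : R ⊔ Q1 ≤ H ⊓ cj z H := sup_le hR L.Q1K
  have hd := Subgroup.card_dvd_of_le hle
  rw [hn, L.cK] at hd
  have hn5 : n ≤ 5 := by
    by_contra hcon
    have h6 : 5 ^ 6 ∣ 5 ^ n := pow_dvd_pow 5 (by omega)
    have := dvd_trans h6 hd
    norm_num at this
  have hcard : Nat.card (R ⊔ Q1 : Subgroup G) ≤ 3125 := by
    rw [hn]
    calc 5 ^ n ≤ 5 ^ 5 := Nat.pow_le_pow_right (by norm_num) hn5
      _ = 3125 := by norm_num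
  have e1 : R = R ⊔ Q1 := Subgroup.eq_of_le_of_card_ge le_sup_left (by rw [hc]; exact hcard)
  have e2 : Q1 = R ⊔ Q1 := Subgroup.eq_of_le_of_card_ge le_sup_right (by rw [L.c1]; exact hcard)
  rw [e1, ← e2]

/-- `5`-subgroups of order `5 ^ 5` of `H ∩ H^g` -/
theorem Loc.conjQ (L : Loc H z n1 n2 x t1 t2 S T Q1 Q2) {g : G} (hg : g ∉ H) {R : Subgroup G} (hR : R ≤ H ⊓ cj g H) (hc : Nat.card R = 3125) :
    ∃ h ∈ H, ∃ k ∈ H, g = h * z * k ∧ R = cj h Q1 := by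
  have h1 := Subgroup.card_dvd_of_le hR
  rw [hc] at h1
  obtain ⟨h, hh, k, hk, e⟩ := L.U2 g hg h1
  refine ⟨h, hh, k, hk, e, ?_⟩
  rw [e, inf_cj hh hk] at hR
  have h2 : cj h⁻¹ R ≤ H ⊓ cj z H := by
    intro y hy
    rw [mem_cj] at hy
    have := hR hy
    rw [mem_cj] at this
    have e : h⁻¹ * (h⁻¹⁻¹ * y * h⁻¹) * h = y := by group
    rwa [e] at this
  have h3 := L.eqQ1 h2 (by rw [card_cj, hc])
  rw [← h3]
  ext y
  rw [mem_cj, mem_cj]
  have e : h⁻¹⁻¹ * (h⁻¹ * y * h) * h⁻¹ = y := by group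
  rw [e]

/-- the normalizer of `Q2` -/
theorem Loc.normQ2 (L : Loc H z n1 n2 x t1 t2 S T Q1 Q2) {g : G} (h : ∀ s ∈ Q2, g * s * g⁻¹ ∈ Q2) : g ∈ H := by
  by_contra hg
  have h1 : Q2 ≤ H ⊓ cj g H := by
    apply le_inf (L.Q2S.trans L.SH)
    have := cj_mono (g := g) (L.Q2S.trans L.SH)
    rwa [cj_eq_of_le h] at this
  obtain ⟨u, hu, k, hk, _, e⟩ := L.conjQ hg h1 L.c2
  obtain ⟨a, ha, b, hb, c, hc, hne⟩ := L.cls2
  apply hne
  rw [e, mem_cj] at ha hb hc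
  have h2 := L.cls1 _ ha _ hb _ hc
  have h3 : u⁻¹ * cm (cm a b) c * u = cm (cm (u⁻¹ * a * u) (u⁻¹ * b * u)) (u⁻¹ * c * u) := by
    unfold cm; group
  rw [h2] at h3
  have : cm (cm a b) c = u * (u⁻¹ * cm (cm a b) c * u) * u⁻¹ := by group
  rw [this, h3]; group


theorem closure_x5 (L : Loc H z n1 n2 x t1 t2 S T Q1 Q2) {y : G} (hy : y ∈ Subgroup.closure {x 5}) : ∃ c : ZMod 5, y = x 5 ^ c.val := by
  rw [Subgroup.mem_closure_singleton] at hy
  obtain ⟨n, rfl⟩ := hy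
  refine ⟨((n : ℤ) : ZMod 5), ?_⟩
  rw [← zpow_natCast]
  have h1 : (orderOf (x 5) : ℤ) ∣ n - ((n : ZMod 5).val : ℤ) := by
    have h2 : (orderOf (x 5) : ℤ) ∣ 5 := by exact_mod_cast orderOf_dvd_of_pow_eq_one (L.D.h5 5)
    refine dvd_trans h2 ?_
    have := (ZMod.intCast_eq_intCast_iff_dvd_sub ((n : ZMod 5).val : ℤ) n 5).mp (by simp)
    exact_mod_cast this
  have := orderOf_dvd_iff_zpow_eq_one.mp h1
  rw [zpow_sub, mul_inv_eq_one] at this
  exact this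

/-- the stabilizer in the action on cosets -/
theorem st_coset (H N : Subgroup G) (g : G) (n : N) : n ∈ MulAction.stabilizer N (g : G ⧸ H) ↔ (n : G) ∈ cj g H := by
  rw [MulAction.mem_stabilizer_iff, mem_cj]
  show ((((n : G) * g : G)) : G ⧸ H) = (g : G ⧸ H) ↔ _
  rw [eq_comm, QuotientGroup.eq]
  simp [mul_assoc]

theorem card_stab (H N : Subgroup G) (g : G) : Nat.card (MulAction.stabilizer N (g : G ⧸ H)) = Nat.card (N ⊓ cj g H : Subgroup G) := by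
  apply Nat.card_congr
  refine ⟨fun n => ⟨n.1.1, n.1.2, (st_coset H N g n.1).mp n.2⟩, fun n => ⟨⟨n.1, n.2.1⟩, (st_coset H N g ⟨n.1, n.2.1⟩).mpr n.2.2⟩, fun _ => rfl, fun _ => rfl⟩

theorem orbit_card (H N : Subgroup G) (g : G) : (MulAction.orbit N (g : G ⧸ H)).ncard * Nat.card (N ⊓ cj g H : Subgroup G) = Nat.card N := by
  rw [← card_stab, ← MulAction.index_stabilizer, Subgroup.index_mul_card]

/-- the orbit of `z H` under the normalizer of `Q1` in `H` -/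
theorem Loc.orbz (L : Loc H z n1 n2 x t1 t2 S T Q1 Q2) :
    (MulAction.orbit (H ⊓ Subgroup.normalizer (Q1 : Set G) : Subgroup G) (z : G ⧸ H)).ncard ≤ 5 := by
  have h1 := orbit_card H (H ⊓ Subgroup.normalizer (Q1 : Set G)) z
  have h2 : H ⊓ cj z H ≤ (H ⊓ Subgroup.normalizer (Q1 : Set G)) ⊓ cj z H := by
    intro y hy
    refine ⟨⟨hy.1, ?_⟩, hy.2⟩
    show y ∈ Subgroup.normalizer (Q1 : Set G)
    rw [Subgroup.mem_normalizer_iff]
    intro q
    constructor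
    · intro hq
      exact L.KQ1 y hy q hq
    · intro hq
      have := L.KQ1 y⁻¹ ((H ⊓ cj z H).inv_mem hy) _ hq
      have e : y⁻¹ * (y * q * y⁻¹) * y⁻¹⁻¹ = q := by group
      rwa [e] at this
  have h3 := Nat.card_mono (Set.toFinite _) (show ((H ⊓ cj z H : Subgroup G) : Set G) ⊆ (((H ⊓ Subgroup.normalizer (Q1 : Set G)) ⊓ cj z H : Subgroup G) : Set G) from h2)
  have h4 : 300000 ≤ Nat.card ((H ⊓ Subgroup.normalizer (Q1 : Set G)) ⊓ cj z H : Subgroup G) := by rw [← L.cK]; exact h3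
  have h5 := L.cN
  rw [← h1] at h5
  by_contra hcon
  have h6 : 6 ≤ (MulAction.orbit (H ⊓ Subgroup.normalizer (Q1 : Set G) : Subgroup G) (z : G ⧸ H)).ncard := by omega
  have := Nat.mul_le_mul h6 h4
  omega

/-- fixed points of `Q1` -/
theorem Loc.cosets (L : Loc H z n1 n2 x t1 t2 S T Q1 Q2) {c : G} (hc : ∀ q ∈ Q1, c * q = q * c) (hcH : c ∉ H) :
    (c : G ⧸ H) ∈ MulAction.orbit (H ⊓ Subgroup.normalizer (Q1 : Set G) : Subgroup G) (z : G ⧸ H) := by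
  have h0 : Q1 ≤ H ⊓ cj c H := by
    apply le_inf (L.Q1S.trans L.SH)
    intro q hq
    rw [mem_cj]
    have : c⁻¹ * q * c = q := by rw [mul_assoc, ← hc q hq]; group
    rw [this]; exact L.SH (L.Q1S hq)
  obtain ⟨h, hh, k, hk, e, eq⟩ := L.conjQ hcH h0 L.c1
  refine ⟨⟨h, hh, ?_⟩, ?_⟩
  · show h ∈ Subgroup.normalizer (Q1 : Set G)
    rw [Subgroup.mem_normalizer_iff]
    intro q
    have h1 : q ∈ Q1 ↔ h * q * h⁻¹ ∈ cj h Q1 := by
      rw [mem_cj]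
      have : h⁻¹ * (h * q * h⁻¹) * h = q := by group
      rw [this]
    rw [← eq] at h1
    exact h1
  · show (((h * z : G)) : G ⧸ H) = (c : G ⧸ H)
    rw [QuotientGroup.eq, e]
    have : (h * z)⁻¹ * (h * z * k) = k := by group
    rw [this]; exact hk

/-- the centralizer of `Q1` -/
abbrev CC (Q1 : Subgroup G) : Subgroup G := Subgroup.centralizer (Q1 : Set G)

theorem mem_CC {c : G} : c ∈ CC Q1 ↔ ∀ q ∈ Q1, c * q = q * c := by
  rw [Subgroup.mem_centralizer_iff]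
  constructor
  · intro h q hq; exact (h q hq).symm
  · intro h q hq; exact (h q hq).symm

theorem Loc.infC (L : Loc H z n1 n2 x t1 t2 S T Q1 Q2) : CC Q1 ⊓ H = Subgroup.closure {x 5} := by
  apply le_antisymm
  · rintro c ⟨h1, h2⟩
    exact L.cent1 c h2 (mem_CC.mp h1)
  · rw [Subgroup.closure_le]
    rintro _ rfl
    exact ⟨mem_CC.mpr L.cent1', L.SH (L.D.x_mem 5)⟩

theorem Loc.card5 (L : Loc H z n1 n2 x t1 t2 S T Q1 Q2) : Nat.card (Subgroup.closure {x 5} : Subgroup G) = 5 := by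
  rw [← Subgroup.zpowers_eq_closure, Nat.card_zpowers]
  exact orderOf_eq_prime (L.D.h5 5) (L.D.x_ne 5)

theorem Loc.CS (L : Loc H z n1 n2 x t1 t2 S T Q1 Q2) {s c : G} (hs : s ∈ S) (hc : c ∈ CC Q1) : s * c * s⁻¹ ∈ CC Q1 := by
  rw [mem_CC] at hc ⊢
  intro q hq
  have h1 := L.SQ1 s⁻¹ (S.inv_mem hs) q hq
  have h2 := hc _ h1
  have : s * c * s⁻¹ * q = s * (c * (s⁻¹ * q * s⁻¹⁻¹)) * s⁻¹ := by group
  rw [this, h2]; group

/-- the orbit of `H` under the centralizer of `Q1` -/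
theorem Loc.orb1 (L : Loc H z n1 n2 x t1 t2 S T Q1 Q2) :
    MulAction.orbit (CC Q1) ((1 : G) : G ⧸ H) ⊆ {((1 : G) : G ⧸ H)} ∪ MulAction.orbit (H ⊓ Subgroup.normalizer (Q1 : Set G) : Subgroup G) (z : G ⧸ H) := by
  rintro _ ⟨c, rfl⟩
  show (((c : G) * 1 : G) : G ⧸ H) ∈ _
  rw [mul_one]
  by_cases hc : (c : G) ∈ H
  · left
    rw [Set.mem_singleton_iff, eq_comm, QuotientGroup.eq]
    simpa using hc
  · right
    exact L.cosets (mem_CC.mp c.2) hc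

theorem cj_one (H : Subgroup G) : cj 1 H = H := cj_self H.one_mem

theorem Loc.cardC (L : Loc H z n1 n2 x t1 t2 S T Q1 Q2) :
    (MulAction.orbit (CC Q1) ((1 : G) : G ⧸ H)).ncard * 5 = Nat.card (CC Q1) ∧ (MulAction.orbit (CC Q1) ((1 : G) : G ⧸ H)).ncard ≤ 6 := by
  constructor
  · have := orbit_card H (CC Q1) 1
    rwa [cj_one, L.infC, L.card5] at this
  · refine le_trans (Set.ncard_le_ncard L.orb1 (Set.toFinite _)) ?_
    refine le_trans (Set.ncard_union_le _ _) ?_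
    rw [Set.ncard_singleton]
    have := L.orbz
    omega

/-- elements of prime order of the centralizer -/
def Ep (Q1 : Subgroup G) (p : ℕ) : Type _ := {c : G // c ∈ CC Q1 ∧ orderOf c = p}

instance (Q1 : Subgroup G) (p : ℕ) : Finite (Ep Q1 p) := Subtype.finite

/-- the action of `S` -/
def Loc.act (L : Loc H z n1 n2 x t1 t2 S T Q1 Q2) (p : ℕ) : MulAction S (Ep Q1 p) where
  smul s c := ⟨s * c.1 * (s : G)⁻¹, L.CS s.2 c.2.1, by
    have : orderOf (MulAut.conj (s : G) c.1) = orderOf c.1 := MulEquiv.orderOf_eq _ _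
    rw [MulAut.conj_apply] at this
    rw [this]; exact c.2.2⟩
  one_smul c := by
    apply Subtype.ext
    show ((1 : S) : G) * c.1 * ((1 : S) : G)⁻¹ = c.1
    simp
  mul_smul s t c := by
    apply Subtype.ext
    show ((s * t : S) : G) * c.1 * ((s * t : S) : G)⁻¹ = s * (t * c.1 * (t : G)⁻¹) * (s : G)⁻¹
    rw [Subgroup.coe_mul]; group

theorem Loc.dvdE (L : Loc H z n1 n2 x t1 t2 S T Q1 Q2) {p : ℕ} (hp : p = 2 ∨ p = 3) : 5 ∣ Nat.card (Ep Q1 p) := by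
  letI := L.act p
  have h1 := L.pS.card_modEq_card_fixedPoints (Ep Q1 p)
  have h2 : IsEmpty (MulAction.fixedPoints S (Ep Q1 p)) := by
    constructor
    rintro ⟨c, hc⟩
    have h3 : ∀ s ∈ S, s * c.1 * s⁻¹ = c.1 := fun s hs => congrArg Subtype.val (hc ⟨s, hs⟩)
    have h4 : c.1 ∈ H := by
      apply L.normS
      intro s hs
      have := h3 s hs
      have e : c.1 * s * c.1⁻¹ = s * (s⁻¹ * c.1 * s⁻¹⁻¹) * c.1⁻¹ := by group
      rw [e, h3 s⁻¹ (S.inv_mem hs)]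
      simpa using hs
    have h5 : c.1 ∈ CC Q1 ⊓ H := ⟨c.2.1, h4⟩
    rw [L.infC] at h5
    have h6 := Subgroup.orderOf_dvd_natCard _ h5
    rw [L.card5, c.2.2] at h6
    rcases hp with rfl | rfl <;> norm_num at h6
  have h3 : Nat.card (MulAction.fixedPoints S (Ep Q1 p)) = 0 := Nat.card_of_isEmpty
  rw [h3] at h1
  exact (Nat.modEq_zero_iff_dvd).mp h1


theorem Loc.comm5 (L : Loc H z n1 n2 x t1 t2 S T Q1 Q2) {c e : G} (hc : c ∈ CC Q1) (he : e ∈ Subgroup.closure {x 5}) : c * e = e * c := by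
  have h1 : Subgroup.closure {x 5} ≤ Q1 := by
    rw [Subgroup.closure_le]; rintro _ rfl; exact L.x5Q
  exact mem_CC.mp hc e (h1 he)

theorem Loc.e5 (L : Loc H z n1 n2 x t1 t2 S T Q1 Q2) {e : G} (he : e ∈ Subgroup.closure {x 5}) : e ^ 5 = 1 := by
  have := Subgroup.orderOf_dvd_natCard _ he
  rw [L.card5] at this
  exact orderOf_dvd_iff_pow_eq_one.mp this

theorem Loc.coset_x5 (L : Loc H z n1 n2 x t1 t2 S T Q1 Q2) {c d : G} (hc : c ∈ CC Q1) (hd : d ∈ CC Q1) (h : (c : G ⧸ H) = (d : G ⧸ H)) :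
    ∃ e ∈ Subgroup.closure {x 5}, d = c * e ∧ Commute c e := by
  rw [QuotientGroup.eq] at h
  have h1 : c⁻¹ * d ∈ CC Q1 ⊓ H := ⟨(CC Q1).mul_mem ((CC Q1).inv_mem hc) hd, h⟩
  rw [L.infC] at h1
  exact ⟨_, h1, by group, L.comm5 hc h1⟩

theorem Loc.notH (L : Loc H z n1 n2 x t1 t2 S T Q1 Q2) {p : ℕ} (hp : p = 2 ∨ p = 3) (c : Ep Q1 p) : c.1 ∉ H := by
  intro h
  have h5 : c.1 ∈ CC Q1 ⊓ H := ⟨c.2.1, h⟩
  rw [L.infC] at h5
  have h6 := Subgroup.orderOf_dvd_natCard _ h5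
  rw [L.card5, c.2.2] at h6
  rcases hp with rfl | rfl <;> norm_num at h6

/-- the coset of an element of prime order -/
def Loc.toO (L : Loc H z n1 n2 x t1 t2 S T Q1 Q2) {p : ℕ} (hp : p = 2 ∨ p = 3) (c : Ep Q1 p) :
    MulAction.orbit (H ⊓ Subgroup.normalizer (Q1 : Set G) : Subgroup G) (z : G ⧸ H) :=
  ⟨(c.1 : G ⧸ H), L.cosets (mem_CC.mp c.2.1) (L.notH hp c)⟩

theorem eq_one_of_pow {e : G} {m n : ℕ} (h1 : e ^ m = 1) (h2 : e ^ n = 1) (h : Nat.Coprime m n) : e = 1 := by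
  rw [← orderOf_eq_one_iff, ← Nat.dvd_one, ← h]
  exact Nat.dvd_gcd (orderOf_dvd_of_pow_eq_one h1) (orderOf_dvd_of_pow_eq_one h2)

theorem Loc.toO_inj (L : Loc H z n1 n2 x t1 t2 S T Q1 Q2) {p : ℕ} (hp : p = 2 ∨ p = 3) : Function.Injective (L.toO hp) := by
  intro c d h
  have h1 : (c.1 : G ⧸ H) = (d.1 : G ⧸ H) := congrArg Subtype.val h
  obtain ⟨e, he, e1, e2⟩ := L.coset_x5 c.2.1 d.2.1 h1
  have hc : c.1 ^ p = 1 := orderOf_dvd_iff_pow_eq_one.mp (dvd_of_eq c.2.2)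
  have hd : d.1 ^ p = 1 := orderOf_dvd_iff_pow_eq_one.mp (dvd_of_eq d.2.2)
  rw [e1, e2.mul_pow, hc, one_mul] at hd
  have : e = 1 := by
    apply eq_one_of_pow hd (L.e5 he)
    rcases hp with rfl | rfl <;> norm_num
  apply Subtype.ext
  rw [e1, this, mul_one]

theorem Loc.toO_bij (L : Loc H z n1 n2 x t1 t2 S T Q1 Q2) {p : ℕ} (hp : p = 2 ∨ p = 3) (hne : Nonempty (Ep Q1 p)) : Function.Bijective (L.toO hp) := by
  apply (L.toO_inj hp).bijective_of_nat_card_le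
  have h1 := L.orbz
  have h2 := L.dvdE hp
  have h3 : 0 < Nat.card (Ep Q1 p) := Nat.card_pos
  have h4 := Nat.le_of_dvd h3 h2
  rw [Nat.card_coe_set_eq]
  omega

theorem Loc.not_both (L : Loc H z n1 n2 x t1 t2 S T Q1 Q2) (h2 : Nonempty (Ep Q1 2)) (h3 : Nonempty (Ep Q1 3)) : False := by
  obtain ⟨c⟩ := h2
  obtain ⟨d, hd⟩ := (L.toO_bij (Or.inr rfl) h3).2 (L.toO (Or.inl rfl) c)
  have h1 : (c.1 : G ⧸ H) = (d.1 : G ⧸ H) := (congrArg Subtype.val hd).symm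
  obtain ⟨e, he, e1, e2⟩ := L.coset_x5 c.2.1 d.2.1 h1
  have hc : c.1 ^ 2 = 1 := orderOf_dvd_iff_pow_eq_one.mp (dvd_of_eq c.2.2)
  have hd : d.1 ^ 3 = 1 := orderOf_dvd_iff_pow_eq_one.mp (dvd_of_eq d.2.2)
  rw [e1, e2.mul_pow] at hd
  have h5 := L.e5 he
  have h6 : c.1 ^ 5 = 1 := by
    have : (c.1 ^ 3 * e ^ 3) ^ 5 = 1 := by rw [hd, one_pow]
    rw [(e2.pow_pow 3 3).mul_pow, ← pow_mul e, mul_comm 3 5, pow_mul e, h5, one_pow, mul_one, ← pow_mul] at this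
    have h7 : c.1 ^ (3 * 5) = c.1 ^ 5 := by
      have : c.1 ^ (3 * 5) = c.1 ^ 5 * (c.1 ^ 2) ^ 5 := by rw [← pow_mul, ← pow_add]
      rw [this, hc, one_pow, mul_one]
    rwa [h7] at this
  have h7 : c.1 = 1 := eq_one_of_pow hc h6 (by norm_num)
  have := c.2.2
  rw [h7, orderOf_one] at this
  omega

theorem Loc.exE (L : Loc H z n1 n2 x t1 t2 S T Q1 Q2) {p : ℕ} (hp : p.Prime) (h : p ∣ Nat.card (CC Q1)) : Nonempty (Ep Q1 p) := by
  haveI := Fact.mk hp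
  obtain ⟨c, hc⟩ := exists_prime_orderOf_dvd_card' (G := CC Q1) p h
  exact ⟨⟨c.1, c.2, by rw [← hc, Subgroup.orderOf_coe]⟩⟩

theorem Loc.six (L : Loc H z n1 n2 x t1 t2 S T Q1 Q2) {p : ℕ} (hp : p = 2 ∨ p = 3) (hne : Nonempty (Ep Q1 p)) :
    (MulAction.orbit (CC Q1) ((1 : G) : G ⧸ H)).ncard = 6 := by
  have hb := L.toO_bij hp hne
  have h1 := L.dvdE hp
  have h3 : 0 < Nat.card (Ep Q1 p) := Nat.card_pos
  have h4 := Nat.le_of_dvd h3 h1
  -- the orbit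
  let f : Option (Ep Q1 p) → MulAction.orbit (CC Q1) ((1 : G) : G ⧸ H) := fun o => match o with
    | none => ⟨((1 : G) : G ⧸ H), MulAction.mem_orbit_self _⟩
    | some c => ⟨(c.1 : G ⧸ H), ⟨⟨c.1, c.2.1⟩, by show ((c.1 * 1 : G) : G ⧸ H) = _; rw [mul_one]⟩⟩
  have hf : Function.Injective f := by
    intro a b hab
    match a, b, hab with
    | none, none, _ => rfl
    | none, some c, hab =>
      exfalso
      have : ((1 : G) : G ⧸ H) = (c.1 : G ⧸ H) := congrArg Subtype.val hab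
      rw [QuotientGroup.eq] at this
      exact L.notH hp c (by simpa using this)
    | some c, none, hab =>
      exfalso
      have : (c.1 : G ⧸ H) = ((1 : G) : G ⧸ H) := congrArg Subtype.val hab
      rw [eq_comm, QuotientGroup.eq] at this
      exact L.notH hp c (by simpa using this)
    | some c, some d, hab =>
      have : (c.1 : G ⧸ H) = (d.1 : G ⧸ H) := congrArg Subtype.val hab
      rw [L.toO_inj hp (Subtype.ext this)]
  have h5 := Nat.card_le_card_of_injective f hf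
  rw [Finite.card_option, Nat.card_coe_set_eq] at h5
  have := L.cardC.2
  omega

theorem Loc.CCle (L : Loc H z n1 n2 x t1 t2 S T Q1 Q2) : CC Q1 ≤ Subgroup.closure {x 5} := by
  obtain ⟨h1, h2⟩ := L.cardC
  have n2' : ¬ 2 ∣ Nat.card (CC Q1) := by
    intro h
    have h3 := L.exE Nat.prime_two h
    have h4 := L.six (Or.inl rfl) h3
    rw [h4] at h1
    exact L.not_both h3 (L.exE Nat.prime_three (by rw [← h1]; norm_num))
  have n3' : ¬ 3 ∣ Nat.card (CC Q1) := by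
    intro h
    have h3 := L.exE Nat.prime_three h
    have h4 := L.six (Or.inr rfl) h3
    rw [h4] at h1
    exact L.not_both (L.exE Nat.prime_two (by rw [← h1]; norm_num)) h3
  have h3 : Nat.card (CC Q1) = 5 ^ 1 ∨ Nat.card (CC Q1) = 5 ^ 2 := by
    have hpos : 0 < Nat.card (CC Q1) := Nat.card_pos
    have gen : ∀ m : ℕ, m ≤ 6 → 0 < m * 5 → ¬ 2 ∣ m * 5 → ¬ 3 ∣ m * 5 → m * 5 = 5 ^ 1 ∨ m * 5 = 5 ^ 2 := by
      intro m hm
      interval_cases m <;> decide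
    rw [← h1] at n2' n3' hpos ⊢
    exact gen _ h2 hpos n2' n3'
  have pC : IsPGroup 5 (CC Q1) := by
    rcases h3 with h | h
    · exact IsPGroup.of_card h
    · exact IsPGroup.of_card h
  have hn : S ≤ Subgroup.normalizer ((CC Q1 : Subgroup G) : Set G) := by
    intro s hs
    rw [Subgroup.mem_normalizer_iff]
    intro c
    constructor
    · intro hc; exact L.CS hs hc
    · intro hc
      have := L.CS (S.inv_mem hs) hc
      have e : s⁻¹ * (s * c * s⁻¹) * s⁻¹⁻¹ = c := by group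
      rwa [e] at this
  have pSC : IsPGroup 5 (S ⊔ CC Q1 : Subgroup G) := IsPGroup.to_sup_of_normal_right' L.pS pC hn
  let P : Sylow 5 G := L.pS.toSylow L.idx
  have hP : (P : Subgroup G) = S := rfl
  have h4 : S ⊔ CC Q1 = S := P.is_maximal' pSC le_sup_left
  have h5 : CC Q1 ≤ H := (le_sup_right.trans (le_of_eq h4)).trans L.SH
  rw [← L.infC]
  exact le_inf le_rfl h5

/-- conjugacy of Sylow subgroups of a subgroup -/
theorem sylConj {p : ℕ} [Fact p.Prime] {N A B : Subgroup G} (hA : A ≤ N) (hB : B ≤ N) (pA : IsPGroup p A) (pB : IsPGroup p B)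
    (h : ¬ p ∣ A.relIndex N) (hc : Nat.card A = Nat.card B) : ∃ n ∈ N, ∀ b ∈ B, n * b * n⁻¹ ∈ A := by
  have pA' : IsPGroup p (A.subgroupOf N) := pA.comap_subtype
  have pB' : IsPGroup p (B.subgroupOf N) := pB.comap_subtype
  let PA : Sylow p N := pA'.toSylow h
  have hB' : ¬ p ∣ (B.subgroupOf N).index := by
    have h1 := Subgroup.card_mul_index (A.subgroupOf N)
    have h2 := Subgroup.card_mul_index (B.subgroupOf N)
    rw [Nat.card_congr (Subgroup.subgroupOfEquivOfLe hA).toEquiv] at h1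
    rw [Nat.card_congr (Subgroup.subgroupOfEquivOfLe hB).toEquiv, ← hc] at h2
    have h3 : (B.subgroupOf N).index = (A.subgroupOf N).index := by
      have : Nat.card A * (B.subgroupOf N).index = Nat.card A * (A.subgroupOf N).index := h2.trans h1.symm
      exact Nat.eq_of_mul_eq_mul_left Nat.card_pos this
    rw [h3]; exact h
  let PB : Sylow p N := pB'.toSylow hB'
  obtain ⟨n, hn⟩ := MulAction.exists_smul_eq N PB PA
  refine ⟨n, n.2, ?_⟩
  intro b hb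
  have h1 : (⟨b, hB hb⟩ : N) ∈ (PB : Subgroup N) := hb
  have h2 : n * ⟨b, hB hb⟩ * n⁻¹ ∈ ((n • PB : Sylow p N) : Subgroup N) := by
    rw [Sylow.coe_subgroup_smul]
    exact ⟨_, h1, rfl⟩
  rw [hn] at h2
  exact h2


theorem symm_mem {φ : G ≃* G} {S : Subgroup G} (h : ∀ s ∈ S, φ s ∈ S) : ∀ s ∈ S, φ.symm s ∈ S := by
  have h1 : S.map φ.toMonoidHom ≤ S := by
    rintro _ ⟨s, hs, rfl⟩; exact h s hs
  have h2 : S.map φ.toMonoidHom = S := by
    apply Subgroup.eq_of_le_of_card_ge h1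
    rw [Nat.card_congr (S.equivMapOfInjective φ.toMonoidHom φ.injective).toEquiv]
  intro s hs
  rw [← h2] at hs
  obtain ⟨t, ht, rfl⟩ := hs
  show φ.symm (φ t) ∈ S
  rw [φ.symm_apply_apply]; exact ht

theorem card_map' (φ : G ≃* G) (S : Subgroup G) : Nat.card (S.map φ.toMonoidHom) = Nat.card S :=
  (Nat.card_congr (S.equivMapOfInjective φ.toMonoidHom φ.injective).toEquiv).symm

theorem mem_norm {N : Subgroup G} {g : G} : g ∈ Subgroup.normalizer (N : Set G) ↔ ∀ s ∈ N, g * s * g⁻¹ ∈ N := by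
  constructor
  · intro h s hs
    exact (Subgroup.mem_normalizer_iff.mp h s).mp hs
  · intro h
    rw [Subgroup.mem_normalizer_iff]
    intro s
    refine ⟨h s, fun hs => ?_⟩
    have h1 := cj_eq_of_le h
    rw [← h1, mem_cj] at hs
    have e : g⁻¹ * (g * s * g⁻¹) * g = s := by group
    rwa [e] at hs

/-- `T` normalizes `S` -/
theorem TS (D : Dat x t1 t2 S T) {t : G} (ht : t ∈ T) : ∀ s ∈ S, t * s * t⁻¹ ∈ S := by
  obtain ⟨i, j, rfl⟩ := (D.hT _).mp ht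
  intro s hs
  obtain ⟨e, rfl⟩ := (D.hS _).mp hs
  rw [conj_NF D.h5 (fun r => D.wt i j r)]
  exact (D.hS _).mpr ⟨_, rfl⟩

theorem Loc.normCard (L : Loc H z n1 n2 x t1 t2 S T Q1 Q2) : T ≤ Subgroup.normalizer (S : Set G) ∧ ¬ 2 ∣ T.relIndex (Subgroup.normalizer (S : Set G)) := by
  have hT : T ≤ Subgroup.normalizer (S : Set G) := fun t ht => mem_norm.mpr (TS L.D ht)
  refine ⟨hT, ?_⟩
  have hS : S ≤ Subgroup.normalizer (S : Set G) := Subgroup.le_normalizer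
  have h1 := Subgroup.card_mul_index (T.subgroupOf (Subgroup.normalizer (S : Set G)))
  rw [Nat.card_congr (Subgroup.subgroupOfEquivOfLe hT).toEquiv, L.cT] at h1
  have h2 : Nat.card (Subgroup.normalizer (S : Set G)) ≤ 15625 * 16 := by
    let f : S × T → Subgroup.normalizer (S : Set G) := fun p => ⟨p.1 * p.2, (Subgroup.normalizer (S : Set G)).mul_mem (hS p.1.2) (hT p.2.2)⟩
    have hf : Function.Surjective f := by
      intro g
      obtain ⟨s, hs, t, ht, e⟩ := L.nS g (L.normS (mem_norm.mp g.2)) (mem_norm.mp g.2)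
      exact ⟨(⟨s, hs⟩, ⟨t, ht⟩), Subtype.ext e.symm⟩
    have := Nat.card_le_card_of_surjective f hf
    rwa [Nat.card_prod, L.cS, L.cT] at this
  have h3 : 15625 ∣ Nat.card (Subgroup.normalizer (S : Set G)) := by
    rw [← L.cS]; exact Subgroup.card_dvd_of_le hS
  change ¬ 2 ∣ (T.subgroupOf (Subgroup.normalizer (S : Set G))).index
  have hpos : 0 < Nat.card (Subgroup.normalizer (S : Set G)) := Nat.card_pos
  rw [← h1] at h2 h3 hpos
  generalize (T.subgroupOf (Subgroup.normalizer (S : Set G))).index = m at *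
  have h4 : 15625 ∣ m := Nat.Coprime.dvd_of_dvd_mul_left (by norm_num) h3
  obtain ⟨k, rfl⟩ := h4
  have : k = 1 := by
    have : k ≤ 1 := by omega
    have : k ≠ 0 := by rintro rfl; simp at hpos
    omega
  subst this
  norm_num

/-- all automorphisms are inner -/
theorem Loc.inner (L : Loc H z n1 n2 x t1 t2 S T Q1 Q2) (φ : G ≃* G) : ∃ g, ∀ y, φ y = g * y * g⁻¹ := by
  -- normalize S
  obtain ⟨g, -, hg⟩ := sylConj (N := ⊤) (A := S) (B := S.map φ.toMonoidHom) le_top le_top L.pS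
    (L.pS.map φ.toMonoidHom) (by rw [Subgroup.relIndex_top_right]; exact L.idx) (card_map' φ S).symm
  let φ1 : G ≃* G := φ.trans (MulAut.conj g)
  have e1 : ∀ y, φ1 y = g * φ y * g⁻¹ := fun y => rfl
  have h1 : ∀ s ∈ S, φ1 s ∈ S := fun s hs => hg _ ⟨s, hs, rfl⟩
  have h1' := symm_mem h1
  -- the normalizer of S is invariant
  have hN : ∀ n ∈ Subgroup.normalizer (S : Set G), φ1 n ∈ Subgroup.normalizer (S : Set G) := by
    intro n hn
    rw [mem_norm] at hn ⊢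
    intro s hs
    have h2 := h1 _ (hn _ (h1' s hs))
    rw [map_mul, map_mul, map_inv, φ1.apply_symm_apply] at h2
    exact h2
  obtain ⟨hTN, hTi⟩ := L.normCard
  haveI : Fact (Nat.Prime 2) := ⟨Nat.prime_two⟩
  have pT : IsPGroup 2 T := IsPGroup.of_card (n := 4) (by rw [L.cT]; norm_num)
  obtain ⟨n, hn, hn'⟩ := sylConj (N := Subgroup.normalizer (S : Set G)) (A := T) (B := T.map φ1.toMonoidHom) hTN
    (by rintro _ ⟨t, ht, rfl⟩; exact hN t (hTN ht)) pT (pT.map φ1.toMonoidHom) hTi (card_map' φ1 T).symm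
  let φ2 : G ≃* G := φ1.trans (MulAut.conj n)
  have e2 : ∀ y, φ2 y = n * φ1 y * n⁻¹ := fun y => rfl
  have h2 : ∀ s ∈ S, φ2 s ∈ S := fun s hs => (mem_norm.mp hn) _ (h1 s hs)
  have h2T : ∀ t ∈ T, φ2 t ∈ T := fun t ht => hn' _ ⟨t, ht, rfl⟩
  obtain ⟨t, ht, hS, hT⟩ := L.D.aut φ2 h2 (symm_mem h2) (symm_mem h2T)
  let φ3 : G ≃* G := φ2.trans (MulAut.conj t⁻¹)
  have e3 : ∀ y, φ3 y = t⁻¹ * φ2 y * t⁻¹⁻¹ := fun y => rfl
  have fS : ∀ s ∈ S, φ3 s = s := by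
    intro s hs; rw [e3, hS s hs]; group
  have fT : ∀ s ∈ T, φ3 s = s := by
    intro s hs; rw [e3, hT s hs]; group
  have ht2T : t2 ∈ T := (L.D.hT _).mpr ⟨0, 1, by simp⟩
  let R : Subgroup G := MonoidHom.eqLocus φ3.toMonoidHom (MonoidHom.id G)
  have memR : ∀ y, y ∈ R ↔ φ3 y = y := fun y => Iff.rfl
  have key : ∀ (n : G) (Q : Set G), (∀ q ∈ Q, n * q * n⁻¹ ∈ Q) → (∀ q ∈ Q, φ3 q = q) → ∀ q ∈ Q, (n⁻¹ * φ3 n) * q = q * (n⁻¹ * φ3 n) := by
    intro n Q hQ hQ' q hq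
    have a1 := hQ' _ (hQ q hq)
    rw [map_mul, map_mul, map_inv, hQ' q hq] at a1
    have a2 : φ3 n * q = n * q * n⁻¹ * φ3 n := by rw [← a1]; group
    rw [mul_assoc, a2]; group
  have fn1 : n1 ∈ R := by
    rw [memR]
    have a1 := key n1 (Q1 : Set G) L.n1Q (fun q hq => fS q (L.Q1S hq))
    have a2 := key n1 (T : Set G) L.n1T fT
    have a3 : n1⁻¹ * φ3 n1 ∈ Subgroup.closure {x 5} := L.CCle (mem_CC.mpr a1)
    obtain ⟨c, hc⟩ := closure_x5 L a3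
    have a4 := a2 t2 ht2T
    rw [hc] at a4
    have a5 : t2 * x 5 ^ c.val * t2⁻¹ = x 5 ^ c.val := by rw [← a4]; group
    rw [conj_pow', L.D.ht2, ← pow_val (L.D.h5 5)] at a5
    have a6 := L.D.x_pow_inj 5 a5
    have a7 : c = 0 := by
      revert a6; clear * -; revert c; decide
    rw [a7] at hc
    simp only [ZMod.val_zero, pow_zero] at hc
    rw [inv_mul_eq_one] at hc
    exact hc.symm
  have fn2 : n2 ∈ R := by
    rw [memR]
    have a1 := key n2 (Q2 : Set G) L.n2Q (fun q hq => fS q (L.Q2S hq))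
    have a2 := key n2 (T : Set G) L.n2T fT
    have a3 : n2⁻¹ * φ3 n2 ∈ H := by
      apply L.normQ2
      intro q hq
      rw [a1 q hq]
      have : q * (n2⁻¹ * φ3 n2) * (n2⁻¹ * φ3 n2)⁻¹ = q := by group
      rw [this]; exact hq
    have a4 := L.cent2 _ a3 a1 a2
    rw [inv_mul_eq_one] at a4
    exact a4.symm
  have hHR : H ≤ R := L.genH R fS fT fn1 fn2
  have fz : z ∈ R := by
    rw [memR]
    have a1 : ∀ k ∈ H ⊓ cj z H, (φ3 z * z⁻¹) * k = k * (φ3 z * z⁻¹) := by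
      intro k hk
      have b1 := (mem_cj.mp hk.2)
      have b2 : φ3 (z⁻¹ * k * z) = z⁻¹ * k * z := hHR b1
      have b3 : φ3 k = k := hHR hk.1
      rw [map_mul, map_mul, map_inv, b3] at b2
      have b4 : k * φ3 z = φ3 z * (z⁻¹ * k * z) := by rw [← b2]; group
      have b5 : k * (φ3 z * z⁻¹) = k * φ3 z * z⁻¹ := by group
      rw [b5, b4]; group
    have a3 : φ3 z * z⁻¹ ∈ Subgroup.closure {x 5} := L.CCle (mem_CC.mpr fun q hq => a1 q (L.Q1K hq))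
    obtain ⟨c, hc⟩ := closure_x5 L a3
    obtain ⟨w, hw, hne⟩ := L.w
    have a4 := a1 w hw
    rw [hc] at a4
    have a5 : c = 0 := by
      by_contra hc0
      apply hne
      have b1 : Commute (x 5 ^ c.val) w := a4
      have b2 : (x 5 ^ c.val) ^ (c⁻¹).val = x 5 := by
        rw [← pow_val (L.D.h5 5), mul_inv_cancel₀ hc0, v1, pow_one]
      have b3 := b1.pow_left (c⁻¹).val
      rw [b2] at b3
      exact b3.symm.eq
    rw [a5] at hc
    simp only [ZMod.val_zero, pow_zero] at hc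
    exact mul_inv_eq_one.mp hc
  have htop := L.genG R hHR fz
  refine ⟨(t⁻¹ * n * g)⁻¹, fun y => ?_⟩
  have b1 : φ3 y = y := by
    have : y ∈ R := by rw [htop]; trivial
    exact this
  rw [e3, e2, e1] at b1
  have b2 : y = (t⁻¹ * n * g) * φ y * (t⁻¹ * n * g)⁻¹ := by
    conv_lhs => rw [← b1]
    group
  rw [b2]
  conv_lhs => rw [← b2]
  group

end

end Cfsg.Agent.Lib.LyOutB
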