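import Cfsg.Agent.Lib.LyOutB

/-!
Internal facts on `G₂(5)` from relations in its Borel subgroup (helper35).
-/

set_option autoImplicit false
set_option linter.all false
set_option maxRecDepth 100000

namespace Cfsg.Agent.Lib.LyOutC

open Cfsg.Agent.Lib.LyOutA Cfsg.Agent.Lib.LyOutB

attribute [local instance] prime5

section
variable {G : Type*} [Group G]

/-- a vector from its entries -/
def ve (a b c d e f : ZMod 5) : Fin 6 → ZMod 5 := ![a, b, c, d, e, f]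

/-- coordinates of the conjugates of the long simple root element -/
def tabv : Fin 4 → Fin 6 → ZMod 5 := ![ve 1 0 4 1 1 1, ve 1 0 3 4 3 3, ve 1 0 2 4 2 2, ve 1 0 1 1 4 4]

/-- basic facts -/
structure Bas (n1 n2 : G) (x : Fin 6 → G) (t1 t2 : G) (S T Q1 Q2 : Subgroup G) : Prop where
  h5 : ∀ r, x r ^ 5 = 1
  ht1 : ∀ r, t1 * x r * t1⁻¹ = x r ^ (K1 r).val
  ht2 : ∀ r, t2 * x r * t2⁻¹ = x r ^ (K2 r).val
  comm : t1 * t2 = t2 * t1
  inj : Function.Injective (NF x)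
  hS : ∀ g, g ∈ S ↔ ∃ e, NF x e = g
  hT : ∀ g, g ∈ T ↔ ∃ i j : Fin 4, g = t1 ^ (i : ℕ) * t2 ^ (j : ℕ)
  hQ1 : ∀ g, g ∈ Q1 ↔ ∃ e : Fin 6 → ZMod 5, e 1 = 0 ∧ NF x e = g
  hQ2 : ∀ g, g ∈ Q2 ↔ ∃ e : Fin 6 → ZMod 5, e 0 = 0 ∧ NF x e = g
  gen : Subgroup.closure {x 0, x 1} = S
  r04 : x 0 * x 4 * (x 0)⁻¹ = x 5 * x 4
  r12 : x 1 * x 2 * (x 1)⁻¹ = x 3 ^ 3 * x 4 ^ 2 * x 5 ^ 2 * x 2
  r13 : x 1 * x 3 * (x 1)⁻¹ = x 4 ^ 3 * x 3
  r23 : x 2 * x 3 * (x 2)⁻¹ = x 5 ^ 3 * x 3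
  c02 : Commute (x 0) (x 2)
  c03 : Commute (x 0) (x 3)
  c05 : Commute (x 0) (x 5)
  c14 : Commute (x 1) (x 4)
  c15 : Commute (x 1) (x 5)
  c24 : Commute (x 2) (x 4)
  c25 : Commute (x 2) (x 5)
  c34 : Commute (x 3) (x 4)
  c35 : Commute (x 3) (x 5)
  c45 : Commute (x 4) (x 5)
  tab : ∀ k : Fin 4, x 1 ^ ((k : ℕ) + 1) * x 0 * (x 1 ^ ((k : ℕ) + 1))⁻¹ = NF x (tabv k)
  cls2 : cm (cm (x 1) (x 2)) (x 1) = x 4
  SQ1 : ∀ s ∈ S, ∀ q ∈ Q1, s * q * s⁻¹ ∈ Q1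
  SQ2 : ∀ s ∈ S, ∀ q ∈ Q2, s * q * s⁻¹ ∈ Q2
  nS : ∀ h, (∀ s ∈ S, h * s * h⁻¹ ∈ S) → ∃ s ∈ S, ∃ t ∈ T, h = s * t
  N1 : ∀ h, (∀ q ∈ Q1, h * q * h⁻¹ ∈ Q1) → (∃ s ∈ S, ∃ t ∈ T, h = s * t) ∨ (∃ s ∈ S, ∃ t ∈ T, ∃ s' ∈ S, ∃ t' ∈ T, h = (s * t) * n1 * (s' * t'))
  N2 : ∀ h, (∀ q ∈ Q2, h * q * h⁻¹ ∈ Q2) → (∃ s ∈ S, ∃ t ∈ T, h = s * t) ∨ (∃ s ∈ S, ∃ t ∈ T, ∃ s' ∈ S, ∃ t' ∈ T, h = (s * t) * n2 * (s' * t'))
  w1 : ∃ k : ZMod 5, k ≠ 0 ∧ n1 * x 4 * n1⁻¹ = x 0 ^ k.val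
  w2 : ∃ k : ZMod 5, k ≠ 0 ∧ n2 * x 2 * n2⁻¹ = x 1 ^ k.val
  n1T : ∀ t ∈ T, n1 * t * n1⁻¹ ∈ T
  n2T : ∀ t ∈ T, n2 * t * n2⁻¹ ∈ T
  n1Q : ∀ q ∈ Q1, n1 * q * n1⁻¹ ∈ Q1
  n2Q : ∀ q ∈ Q2, n2 * q * n2⁻¹ ∈ Q2
  genH : ∀ R : Subgroup G, S ≤ R → T ≤ R → n1 ∈ R → n2 ∈ R → R = ⊤

/-- internal facts -/
structure Int (n1 n2 : G) (x : Fin 6 → G) (t1 t2 : G) (S T Q1 Q2 : Subgroup G) : Prop where
  D : Dat x t1 t2 S T
  cS : Nat.card S = 15625
  cT : Nat.card T = 16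
  nS : ∀ h, (∀ s ∈ S, h * s * h⁻¹ ∈ S) → ∃ s ∈ S, ∃ t ∈ T, h = s * t
  Q1S : Q1 ≤ S
  Q2S : Q2 ≤ S
  c1 : Nat.card Q1 = 3125
  c2 : Nat.card Q2 = 3125
  SQ1 : ∀ s ∈ S, ∀ q ∈ Q1, s * q * s⁻¹ ∈ Q1
  cent1 : ∀ h, (∀ q ∈ Q1, h * q = q * h) → h ∈ Subgroup.closure {x 5}
  cent1' : ∀ q ∈ Q1, x 5 * q = q * x 5
  x5Q : x 5 ∈ Q1
  cent2 : ∀ h, (∀ q ∈ Q2, h * q = q * h) → (∀ t ∈ T, h * t = t * h) → h = 1
  cls1 : ∀ a ∈ Q1, ∀ b ∈ Q1, ∀ c ∈ Q1, cm (cm a b) c = 1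
  cls2 : ∃ a ∈ Q2, ∃ b ∈ Q2, ∃ c ∈ Q2, cm (cm a b) c ≠ 1
  cN : Nat.card (Subgroup.normalizer (Q1 : Set G)) ≤ 1500000
  n1T : ∀ t ∈ T, n1 * t * n1⁻¹ ∈ T
  n2T : ∀ t ∈ T, n2 * t * n2⁻¹ ∈ T
  n1Q : ∀ q ∈ Q1, n1 * q * n1⁻¹ ∈ Q1
  n2Q : ∀ q ∈ Q2, n2 * q * n2⁻¹ ∈ Q2
  genH : ∀ R : Subgroup G, S ≤ R → T ≤ R → n1 ∈ R → n2 ∈ R → R = ⊤

variable {n1 n2 : G} {x : Fin 6 → G} {t1 t2 : G} {S T Q1 Q2 : Subgroup G}

theorem Bas.mQ1 (L : Bas n1 n2 x t1 t2 S T Q1 Q2) (r : Fin 6) (hr : r ≠ 1) : x r ∈ Q1 := by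
  rw [L.hQ1]
  refine ⟨fun s => if s = r then 1 else 0, if_neg (Ne.symm hr), ?_⟩
  rw [NF_single x r _ (fun s hs => if_neg hs)]
  simp [v1]

theorem Bas.mQ2 (L : Bas n1 n2 x t1 t2 S T Q1 Q2) (r : Fin 6) (hr : r ≠ 0) : x r ∈ Q2 := by
  rw [L.hQ2]
  refine ⟨fun s => if s = r then 1 else 0, if_neg (Ne.symm hr), ?_⟩
  rw [NF_single x r _ (fun s hs => if_neg hs)]
  simp [v1]

theorem Bas.pow_inj (L : Bas n1 n2 x t1 t2 S T Q1 Q2) (r : Fin 6) {a : ZMod 5} (h : x r ^ a.val = 1) : a = 0 := by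
  have h1 : NF x (fun s => if s = r then a else 0) = NF x (fun s => 0) := by
    rw [NF_single x r _ (fun s hs => if_neg hs), NF_single x r _ (fun s hs => rfl)]
    simpa using h
  have := congrFun (L.inj h1) r
  simpa using this

theorem Bas.x1Q1 (L : Bas n1 n2 x t1 t2 S T Q1 Q2) {a : ZMod 5} (ha : a ≠ 0) : x 1 ^ a.val ∉ Q1 := by
  intro h
  obtain ⟨e, he, h1⟩ := (L.hQ1 _).mp h
  have h2 : NF x (fun s => if s = 1 then a else 0) = x 1 ^ a.val := by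
    rw [NF_single x 1 _ (fun s hs => if_neg hs)]; simp
  rw [← h2] at h1
  have := congrFun (L.inj h1) 1
  simp only [if_true] at this
  exact ha (this.symm.trans he)

theorem Bas.x0Q2 (L : Bas n1 n2 x t1 t2 S T Q1 Q2) {a : ZMod 5} (ha : a ≠ 0) : x 0 ^ a.val ∉ Q2 := by
  intro h
  obtain ⟨e, he, h1⟩ := (L.hQ2 _).mp h
  have h2 : NF x (fun s => if s = 0 then a else 0) = x 0 ^ a.val := by
    rw [NF_single x 0 _ (fun s hs => if_neg hs)]; simp
  rw [← h2] at h1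
  have := congrFun (L.inj h1) 0
  simp only [if_true] at this
  exact ha (this.symm.trans he)

theorem Bas.D (L : Bas n1 n2 x t1 t2 S T Q1 Q2) : Dat x t1 t2 S T where
  h5 := L.h5
  ht1 := L.ht1
  ht2 := L.ht2
  comm := L.comm
  inj := L.inj
  hS := L.hS
  hT := L.hT
  gen := L.gen
  p1 := ⟨Q1, L.mQ1, fun h => L.x1Q1 (a := 1) (by decide) (by simpa [v1] using h)⟩
  p0 := ⟨Q2, L.mQ2, fun h => L.x0Q2 (a := 1) (by decide) (by simpa [v1] using h)⟩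

/-- bijection with vectors -/
theorem Bas.cS (L : Bas n1 n2 x t1 t2 S T Q1 Q2) : Nat.card S = 15625 := by
  have : Nat.card (Fin 6 → ZMod 5) = Nat.card S := by
    apply Nat.card_congr
    refine Equiv.ofBijective (fun e => ⟨NF x e, (L.hS _).mpr ⟨e, rfl⟩⟩) ⟨fun a b h => L.inj (congrArg Subtype.val h), ?_⟩
    rintro ⟨g, hg⟩
    obtain ⟨e, he⟩ := (L.hS g).mp hg
    exact ⟨e, Subtype.ext he⟩
  rw [← this, Nat.card_fun, Nat.card_zmod, Nat.card_fin]; norm_num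

theorem card_zero (i : Fin 6) : Nat.card {e : Fin 6 → ZMod 5 // e i = 0} = 3125 := by
  have h : Nat.card (ZMod 5 × {e : Fin 6 → ZMod 5 // e i = 0}) = Nat.card (Fin 6 → ZMod 5) := by
    apply Nat.card_congr
    refine Equiv.ofBijective (fun p => Function.update p.2.1 i p.1) ⟨?_, ?_⟩
    · rintro ⟨c, e, he⟩ ⟨c', e', he'⟩ h
      have h1 : Function.update e i c = Function.update e' i c' := h
      have h2 : c = c' := by
        have := congrFun h1 i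
        rwa [Function.update_self, Function.update_self] at this
      have h3 : e = e' := by
        funext j
        by_cases hj : j = i
        · rw [hj, he, he']
        · have := congrFun h1 j
          rwa [Function.update_of_ne hj, Function.update_of_ne hj] at this
      subst h2 h3
      rfl
    · intro f
      refine ⟨⟨f i, Function.update f i 0, Function.update_self _ _ _⟩, ?_⟩
      show Function.update (Function.update f i 0) i (f i) = f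
      rw [Function.update_idem, Function.update_eq_self]
  rw [Nat.card_prod, Nat.card_zmod, Nat.card_fun, Nat.card_zmod, Nat.card_fin] at h
  omega

theorem Bas.c1 (L : Bas n1 n2 x t1 t2 S T Q1 Q2) : Nat.card Q1 = 3125 := by
  rw [← card_zero 1]
  symm
  apply Nat.card_congr
  refine Equiv.ofBijective (fun e => ⟨NF x e.1, (L.hQ1 _).mpr ⟨e.1, e.2, rfl⟩⟩) ⟨fun a b h => Subtype.ext (L.inj (congrArg Subtype.val h)), ?_⟩
  rintro ⟨g, hg⟩
  obtain ⟨e, he, he'⟩ := (L.hQ1 g).mp hg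
  exact ⟨⟨e, he⟩, Subtype.ext he'⟩

theorem Bas.c2 (L : Bas n1 n2 x t1 t2 S T Q1 Q2) : Nat.card Q2 = 3125 := by
  rw [← card_zero 0]
  symm
  apply Nat.card_congr
  refine Equiv.ofBijective (fun e => ⟨NF x e.1, (L.hQ2 _).mpr ⟨e.1, e.2, rfl⟩⟩) ⟨fun a b h => Subtype.ext (L.inj (congrArg Subtype.val h)), ?_⟩
  rintro ⟨g, hg⟩
  obtain ⟨e, he, he'⟩ := (L.hQ2 g).mp hg
  exact ⟨⟨e, he⟩, Subtype.ext he'⟩

theorem dec4 : ∀ i j i' j' : Fin 4, tw i j 0 = tw i' j' 0 → tw i j 1 = tw i' j' 1 → i = i' ∧ j = j' := by decide +kernel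

theorem Bas.cT (L : Bas n1 n2 x t1 t2 S T Q1 Q2) : Nat.card T = 16 := by
  have : Nat.card (Fin 4 × Fin 4) = Nat.card T := by
    apply Nat.card_congr
    refine Equiv.ofBijective (fun p => ⟨t1 ^ (p.1 : ℕ) * t2 ^ (p.2 : ℕ), (L.hT _).mpr ⟨p.1, p.2, rfl⟩⟩) ⟨?_, ?_⟩
    · rintro ⟨i, j⟩ ⟨i', j'⟩ h
      have h1 : t1 ^ (i : ℕ) * t2 ^ (j : ℕ) = t1 ^ (i' : ℕ) * t2 ^ (j' : ℕ) := congrArg Subtype.val h
      have a0 := L.D.wt i j 0
      have a1 := L.D.wt i j 1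
      rw [h1, L.D.wt] at a0 a1
      have b0 := L.D.x_pow_inj 0 a0
      have b1 := L.D.x_pow_inj 1 a1
      obtain ⟨h2, h3⟩ := dec4 i j i' j' b0.symm b1.symm
      rw [h2, h3]
    · rintro ⟨g, hg⟩
      obtain ⟨i, j, h⟩ := (L.hT g).mp hg
      exact ⟨⟨i, j⟩, Subtype.ext h.symm⟩
  rw [← this, Nat.card_prod, Nat.card_fin]

theorem Bas.Q1S (L : Bas n1 n2 x t1 t2 S T Q1 Q2) : Q1 ≤ S := by
  intro g hg
  obtain ⟨e, _, he⟩ := (L.hQ1 g).mp hg
  exact (L.hS g).mpr ⟨e, he⟩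

theorem Bas.Q2S (L : Bas n1 n2 x t1 t2 S T Q1 Q2) : Q2 ≤ S := by
  intro g hg
  obtain ⟨e, _, he⟩ := (L.hQ2 g).mp hg
  exact (L.hS g).mpr ⟨e, he⟩

theorem Bas.commQ (L : Bas n1 n2 x t1 t2 S T Q1 Q2) : ∀ s ∈ S, Commute (x 5) s := by
  intro s hs
  obtain ⟨e, rfl⟩ := (L.hS s).mp hs
  unfold NF
  exact (((((L.c05.symm.pow_right _).mul_right (L.c15.symm.pow_right _)).mul_right (L.c25.symm.pow_right _)).mul_right
    (L.c35.symm.pow_right _)).mul_right (L.c45.symm.pow_right _)).mul_right ((Commute.refl _).pow_right _)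

theorem Bas.cent1' (L : Bas n1 n2 x t1 t2 S T Q1 Q2) : ∀ q ∈ Q1, x 5 * q = q * x 5 := fun q hq => (L.commQ q (L.Q1S hq)).eq

theorem mem_cl5 (x : Fin 6 → G) (n : ℕ) : x 5 ^ n ∈ Subgroup.closure {x 5} := Subgroup.pow_mem _ (Subgroup.subset_closure (Set.mem_singleton _)) _

/-- commutators in a group of class two -/
theorem cm_closure {X : Set G} {z : G} (hz : ∀ a ∈ Subgroup.closure X, Commute z a) (h : ∀ a ∈ X, ∀ b ∈ X, cm a b ∈ Subgroup.closure {z}) :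
    ∀ a ∈ Subgroup.closure X, ∀ b ∈ Subgroup.closure X, cm a b ∈ Subgroup.closure {z} := by
  have hz' : ∀ c ∈ Subgroup.closure {z}, ∀ a ∈ Subgroup.closure X, Commute c a := by
    intro c hc a ha
    obtain ⟨n, rfl⟩ := Subgroup.mem_closure_singleton.mp hc
    exact (hz a ha).zpow_left n
  have key : ∀ a ∈ Subgroup.closure X, (∀ b ∈ X, cm a b ∈ Subgroup.closure {z}) → ∀ b ∈ Subgroup.closure X, cm a b ∈ Subgroup.closure {z} := by
    intro a ha h1 b hb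
    induction hb using Subgroup.closure_induction with
    | mem b hb => exact h1 b hb
    | one => have : cm a 1 = 1 := by unfold cm; group
             rw [this]; exact Subgroup.one_mem _
    | mul b c hb hc hb' hc' =>
      have e : cm a (b * c) = cm a b * (b * cm a c * b⁻¹) := by unfold cm; group
      rw [e, ← (hz' _ hc' b hb).eq, mul_inv_cancel_right]
      exact Subgroup.mul_mem _ hb' hc'
    | inv b hb hb' =>
      have e : cm a b⁻¹ = b⁻¹ * (cm a b)⁻¹ * b := by unfold cm; group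
      have h2 := hz' _ (Subgroup.inv_mem _ hb') b hb
      rw [e, mul_assoc, h2.eq]
      have : b⁻¹ * (b * (cm a b)⁻¹) = (cm a b)⁻¹ := by group
      rw [this]
      exact Subgroup.inv_mem _ hb'
  intro a ha
  have h3 : ∀ b ∈ X, ∀ a ∈ Subgroup.closure X, cm b a ∈ Subgroup.closure {z} := fun b hb a ha => key b (Subgroup.subset_closure hb) (h b hb) a ha
  apply key a ha
  intro b hb
  have h4 := h3 b hb a ha
  have e : cm a b = (cm b a)⁻¹ := by unfold cm; group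
  rw [e]; exact Subgroup.inv_mem _ h4

theorem cm_of_commute {a b : G} (h : Commute a b) : cm a b = 1 := by
  unfold cm; rw [h.eq]; group

theorem cm_symm_mem {a b : G} {Z : Subgroup G} (h : cm a b ∈ Z) : cm b a ∈ Z := by
  have e : cm b a = (cm a b)⁻¹ := by unfold cm; group
  rw [e]; exact Z.inv_mem h

theorem Bas.cmQ (L : Bas n1 n2 x t1 t2 S T Q1 Q2) : ∀ a ∈ Q1, ∀ b ∈ Q1, cm a b ∈ Subgroup.closure {x 5} := by
  have hle : Q1 ≤ Subgroup.closure {x 0, x 2, x 3, x 4, x 5} := by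
    intro g hg
    obtain ⟨e, he, rfl⟩ := (L.hQ1 g).mp hg
    unfold NF
    rw [he]
    have m0 : x 0 ∈ Subgroup.closure {x 0, x 2, x 3, x 4, x 5} := Subgroup.subset_closure (by simp)
    have m2 : x 2 ∈ Subgroup.closure {x 0, x 2, x 3, x 4, x 5} := Subgroup.subset_closure (by simp)
    have m3 : x 3 ∈ Subgroup.closure {x 0, x 2, x 3, x 4, x 5} := Subgroup.subset_closure (by simp)
    have m4 : x 4 ∈ Subgroup.closure {x 0, x 2, x 3, x 4, x 5} := Subgroup.subset_closure (by simp)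
    have m5 : x 5 ∈ Subgroup.closure {x 0, x 2, x 3, x 4, x 5} := Subgroup.subset_closure (by simp)
    simp only [ZMod.val_zero, pow_zero, mul_one]
    exact mul_mem (mul_mem (mul_mem (mul_mem (pow_mem m0 _) (pow_mem m2 _)) (pow_mem m3 _)) (pow_mem m4 _)) (pow_mem m5 _)
  have hge : Subgroup.closure {x 0, x 2, x 3, x 4, x 5} ≤ Q1 := by
    rw [Subgroup.closure_le]
    rintro _ (rfl | rfl | rfl | rfl | rfl)
    · exact L.mQ1 _ (by decide)
    · exact L.mQ1 _ (by decide)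
    · exact L.mQ1 _ (by decide)
    · exact L.mQ1 _ (by decide)
    · exact L.mQ1 _ (by decide)
  have c04 : cm (x 0) (x 4) ∈ Subgroup.closure {x 5} := by
    have : cm (x 0) (x 4) = x 5 ^ 1 := by unfold cm; rw [L.r04]; group
    rw [this]; exact mem_cl5 x 1
  have c23 : cm (x 2) (x 3) ∈ Subgroup.closure {x 5} := by
    have : cm (x 2) (x 3) = x 5 ^ 3 := by unfold cm; rw [L.r23]; group
    rw [this]; exact mem_cl5 x 3
  have one : ∀ {a b : G}, Commute a b → cm a b ∈ Subgroup.closure {x 5} := by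
    intro a b h; rw [cm_of_commute h]; exact Subgroup.one_mem _
  have key := cm_closure (X := {x 0, x 2, x 3, x 4, x 5}) (z := x 5) (fun a ha => L.commQ a (L.Q1S (hge ha))) (by
    rintro _ (rfl | rfl | rfl | rfl | rfl) _ (rfl | rfl | rfl | rfl | rfl)
    · exact one (Commute.refl _)
    · exact one L.c02
    · exact one L.c03
    · exact c04
    · exact one L.c05
    · exact one L.c02.symm
    · exact one (Commute.refl _)
    · exact c23
    · exact one L.c24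
    · exact one L.c25
    · exact one L.c03.symm
    · exact cm_symm_mem c23
    · exact one (Commute.refl _)
    · exact one L.c34
    · exact one L.c35
    · exact cm_symm_mem c04
    · exact one L.c24.symm
    · exact one L.c34.symm
    · exact one (Commute.refl _)
    · exact one L.c45
    · exact one L.c05.symm
    · exact one L.c25.symm
    · exact one L.c35.symm
    · exact one L.c45.symm
    · exact one (Commute.refl _))
  intro a ha b hb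
  exact key a (hle ha) b (hle hb)

theorem Bas.cls1 (L : Bas n1 n2 x t1 t2 S T Q1 Q2) : ∀ a ∈ Q1, ∀ b ∈ Q1, ∀ c ∈ Q1, cm (cm a b) c = 1 := by
  intro a ha b hb c hc
  apply cm_of_commute
  obtain ⟨n, hn⟩ := Subgroup.mem_closure_singleton.mp (L.cmQ a ha b hb)
  rw [← hn]
  exact (L.commQ c (L.Q1S hc)).zpow_left n

/-- powers in a central commutator relation -/
theorem conj_c {a b c : G} (h : a * b * a⁻¹ = c * b) (hc : Commute a c) (n : ℕ) : a ^ n * b * (a ^ n)⁻¹ = c ^ n * b := by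
  induction n with
  | zero => simp
  | succ n ih =>
    have : a ^ (n + 1) * b * (a ^ (n + 1))⁻¹ = a * (a ^ n * b * (a ^ n)⁻¹) * a⁻¹ := by rw [pow_succ']; group
    rw [this, ih]
    have h2 : a * (c ^ n * b) * a⁻¹ = (a * c ^ n) * b * a⁻¹ := by group
    rw [h2, (hc.pow_right n).eq]
    have h3 : c ^ n * a * b * a⁻¹ = c ^ n * (a * b * a⁻¹) := by group
    rw [h3, h, pow_succ]; group

theorem comm_c {a b c : G} (h : a * b * a⁻¹ = c * b) (hc : Commute a c) {n : ℕ} (hn : Commute (a ^ n) b) : c ^ n = 1 := by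
  have := conj_c h hc n
  rw [hn.eq, mul_inv_cancel_right] at this
  exact (mul_eq_right.mp this.symm)

theorem flip_c {a b c : G} (h : a * b * a⁻¹ = c * b) (hcb : Commute c b) : b * a * b⁻¹ = c⁻¹ * a := by
  have h1 : a * b = c * b * a := by rw [← h]; group
  have h2 : b * a = c⁻¹ * (a * b) := by rw [h1]; group
  rw [h2]; group

theorem eq_one_of_pow' {e : G} {m n : ℕ} (h1 : e ^ m = 1) (h2 : e ^ n = 1) (h : Nat.Coprime m n) : e = 1 := by
  rw [← orderOf_eq_one_iff, ← Nat.dvd_one, ← h]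
  exact Nat.dvd_gcd (orderOf_dvd_of_pow_eq_one h1) (orderOf_dvd_of_pow_eq_one h2)

/-- the centre of `Q1` -/
theorem Bas.centQ1 (L : Bas n1 n2 x t1 t2 S T Q1 Q2) {s : G} (hs : s ∈ Q1) (h : ∀ q ∈ Q1, Commute s q) : s ∈ Subgroup.closure {x 5} := by
  obtain ⟨e, he, rfl⟩ := (L.hQ1 s).mp hs
  have hx0 := h _ (L.mQ1 0 (by decide))
  have hx2 := h _ (L.mQ1 2 (by decide))
  have hx3 := h _ (L.mQ1 3 (by decide))
  have hx4 := h _ (L.mQ1 4 (by decide))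
  unfold NF at hx0 hx2 hx3 hx4 ⊢
  rw [he] at hx0 hx2 hx3 hx4 ⊢
  simp only [ZMod.val_zero, pow_zero, mul_one] at hx0 hx2 hx3 hx4 ⊢
  have e0 : e 0 = 0 := by
    have r : Commute (x 2 ^ (e 2).val * (x 3 ^ (e 3).val * (x 4 ^ (e 4).val * x 5 ^ (e 5).val))) (x 4) :=
      (L.c24.pow_left _).mul_left ((L.c34.pow_left _).mul_left (((Commute.refl _).pow_left _).mul_left (L.c45.symm.pow_left _)))
    have h1 : Commute (x 0 ^ (e 0).val) (x 4) := by
      have := hx4.mul_left r.inv_left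
      have e1 : x 0 ^ (e 0).val * x 2 ^ (e 2).val * x 3 ^ (e 3).val * x 4 ^ (e 4).val * x 5 ^ (e 5).val *
        (x 2 ^ (e 2).val * (x 3 ^ (e 3).val * (x 4 ^ (e 4).val * x 5 ^ (e 5).val)))⁻¹ = x 0 ^ (e 0).val := by group
      rwa [e1] at this
    exact L.pow_inj 5 (comm_c L.r04 L.c05 h1)
  rw [e0] at hx0 hx2 hx3 hx4 ⊢
  simp only [ZMod.val_zero, pow_zero, one_mul] at hx0 hx2 hx3 hx4 ⊢
  have e4 : e 4 = 0 := by
    have r1 : Commute (x 2 ^ (e 2).val * x 3 ^ (e 3).val) (x 0) := (L.c02.symm.pow_left _).mul_left (L.c03.symm.pow_left _)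
    have r2 : Commute (x 5 ^ (e 5).val) (x 0) := L.c05.symm.pow_left _
    have h1 : Commute (x 4 ^ (e 4).val) (x 0) := by
      have := (r1.inv_left.mul_left hx0).mul_left r2.inv_left
      have e1 : (x 2 ^ (e 2).val * x 3 ^ (e 3).val)⁻¹ * (x 2 ^ (e 2).val * x 3 ^ (e 3).val * x 4 ^ (e 4).val * x 5 ^ (e 5).val) *
        (x 5 ^ (e 5).val)⁻¹ = x 4 ^ (e 4).val := by group
      rwa [e1] at this
    have h2 := flip_c L.r04 L.c45.symm
    have h3 := comm_c h2 L.c45.inv_right h1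
    rw [inv_pow, inv_eq_one] at h3
    exact L.pow_inj 5 h3
  rw [e4] at hx2 hx3 ⊢
  simp only [ZMod.val_zero, pow_zero, mul_one] at hx2 hx3 ⊢
  have p3 : ∀ {n : ℕ}, (x 5 ^ 3) ^ n = 1 → x 5 ^ n = 1 := by
    intro n hn
    have h1 : (x 5 ^ n) ^ 3 = 1 := by rw [← pow_mul, mul_comm, pow_mul]; exact hn
    have h2 : (x 5 ^ n) ^ 5 = 1 := by rw [← pow_mul, mul_comm, pow_mul, L.h5, one_pow]
    exact eq_one_of_pow' h1 h2 (by norm_num)
  have e2 : e 2 = 0 := by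
    have r : Commute (x 3 ^ (e 3).val * x 5 ^ (e 5).val) (x 3) := ((Commute.refl _).pow_left _).mul_left (L.c35.symm.pow_left _)
    have h1 : Commute (x 2 ^ (e 2).val) (x 3) := by
      have := hx3.mul_left r.inv_left
      have e1 : x 2 ^ (e 2).val * x 3 ^ (e 3).val * x 5 ^ (e 5).val * (x 3 ^ (e 3).val * x 5 ^ (e 5).val)⁻¹ = x 2 ^ (e 2).val := by group
      rwa [e1] at this
    exact L.pow_inj 5 (p3 (comm_c L.r23 (L.c25.pow_right _) h1))
  rw [e2] at hx2 ⊢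
  simp only [ZMod.val_zero, pow_zero, one_mul] at hx2 ⊢
  have e3 : e 3 = 0 := by
    have r : Commute (x 5 ^ (e 5).val) (x 2) := L.c25.symm.pow_left _
    have h1 : Commute (x 3 ^ (e 3).val) (x 2) := by
      have := hx2.mul_left r.inv_left
      rwa [mul_inv_cancel_right] at this
    have h2 := flip_c L.r23 (L.c35.symm.pow_left 3)
    have h3 := comm_c h2 (L.c35.pow_right 3).inv_right h1
    rw [inv_pow, inv_eq_one] at h3
    exact L.pow_inj 5 (p3 h3)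
  rw [e3]
  simp only [ZMod.val_zero, pow_zero, one_mul]
  exact mem_cl5 x _


theorem mem_cl_val {z : G} (hz : z ^ 5 = 1) {y : G} (hy : y ∈ Subgroup.closure {z}) : ∃ c : ZMod 5, y = z ^ c.val := by
  rw [Subgroup.mem_closure_singleton] at hy
  obtain ⟨n, rfl⟩ := hy
  refine ⟨((n : ℤ) : ZMod 5), ?_⟩
  rw [← zpow_natCast]
  have h1 : (orderOf z : ℤ) ∣ n - ((n : ZMod 5).val : ℤ) := by
    have h2 : (orderOf z : ℤ) ∣ 5 := by exact_mod_cast orderOf_dvd_of_pow_eq_one hz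
    refine dvd_trans h2 ?_
    have := (ZMod.intCast_eq_intCast_iff_dvd_sub ((n : ZMod 5).val : ℤ) n 5).mp (by simp)
    exact_mod_cast this
  have := orderOf_dvd_iff_zpow_eq_one.mp h1
  rw [zpow_sub, mul_inv_eq_one] at this
  exact this

theorem pow_add_val {z : G} (hz : z ^ 5 = 1) (a b : ZMod 5) : z ^ (a + b).val = z ^ a.val * z ^ b.val := by
  rw [← pow_add, ZMod.val_add, ← pow_mod_orderOf, ← pow_mod_orderOf z (a.val + b.val)]
  congr 1
  exact (Nat.mod_mod_of_dvd _ (orderOf_dvd_of_pow_eq_one hz))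

theorem dec5 : ∀ i j : Fin 4, K1 5 ^ (i : ℕ) * K2 5 ^ (j : ℕ) = 1 → K1 0 ^ (i : ℕ) * K2 0 ^ (j : ℕ) = 1 → i = 0 ∧ j = 0 := by decide +kernel
theorem dec6 : ∀ i j : Fin 4, K1 1 ^ (i : ℕ) * K2 1 ^ (j : ℕ) = 1 → K1 2 ^ (i : ℕ) * K2 2 ^ (j : ℕ) = 1 → i = 0 ∧ j = 0 := by decide +kernel
theorem dec7 : ∀ (r : Fin 6) (c : ZMod 5), K1 r * c = c → K2 r * c = c → c = 0 := by decide +kernel
theorem dec8 : ∀ k : Fin 4, tabv k 2 ≠ 0 := by decide +kernel

variable [Finite G]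

theorem norm_of_gens {A : Set G} {g : G} (h : ∀ a ∈ A, g * a * g⁻¹ ∈ Subgroup.closure A) : g ∈ Subgroup.normalizer (Subgroup.closure A : Set G) := by
  rw [mem_norm]
  intro s hs
  induction hs using Subgroup.closure_induction with
  | mem a ha => exact h a ha
  | one => simpa using Subgroup.one_mem _
  | mul a b _ _ ha hb =>
    have : g * (a * b) * g⁻¹ = (g * a * g⁻¹) * (g * b * g⁻¹) := by group
    rw [this]; exact Subgroup.mul_mem _ ha hb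
  | inv a _ ha =>
    have : g * a⁻¹ * g⁻¹ = (g * a * g⁻¹)⁻¹ := by group
    rw [this]; exact Subgroup.inv_mem _ ha

theorem T_norm (D : Dat x t1 t2 S T) {A : Set G} (hA : ∀ a ∈ A, ∃ r, a = x r) {t : G} (ht : t ∈ T) : t ∈ Subgroup.normalizer (Subgroup.closure A : Set G) := by
  apply norm_of_gens
  intro a ha
  obtain ⟨r, rfl⟩ := hA a ha
  obtain ⟨i, j, rfl⟩ := (D.hT t).mp ht
  rw [D.wt]
  exact Subgroup.pow_mem _ (Subgroup.subset_closure ha) _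

theorem Bas.nW1 (L : Bas n1 n2 x t1 t2 S T Q1 Q2) {s t : G} (hs : s ∈ S) (ht : t ∈ T) :
    s * t ∈ Subgroup.normalizer (Subgroup.closure {x 4, x 5} : Set G) := by
  have m4 : x 4 ∈ Subgroup.closure {x 4, x 5} := Subgroup.subset_closure (by simp)
  have m5 : x 5 ∈ Subgroup.closure {x 4, x 5} := Subgroup.subset_closure (by simp)
  apply Subgroup.mul_mem
  · rw [← L.gen] at hs
    have : Subgroup.closure {x 0, x 1} ≤ Subgroup.normalizer (Subgroup.closure {x 4, x 5} : Set G) := by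
      rw [Subgroup.closure_le]
      rintro _ (rfl | rfl)
      · apply norm_of_gens
        rintro _ (rfl | rfl)
        · rw [L.r04]; exact mul_mem m5 m4
        · rw [L.c05.eq, mul_inv_cancel_right]; exact m5
      · apply norm_of_gens
        rintro _ (rfl | rfl)
        · rw [L.c14.eq, mul_inv_cancel_right]; exact m4
        · rw [L.c15.eq, mul_inv_cancel_right]; exact m5
    exact this hs
  · apply T_norm L.D _ ht
    rintro _ (rfl | rfl)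
    · exact ⟨4, rfl⟩
    · exact ⟨5, rfl⟩

theorem Bas.nW2 (L : Bas n1 n2 x t1 t2 S T Q1 Q2) {s t : G} (hs : s ∈ S) (ht : t ∈ T) :
    s * t ∈ Subgroup.normalizer (Subgroup.closure {x 2, x 3, x 4, x 5} : Set G) := by
  have m2 : x 2 ∈ Subgroup.closure {x 2, x 3, x 4, x 5} := Subgroup.subset_closure (by simp)
  have m3 : x 3 ∈ Subgroup.closure {x 2, x 3, x 4, x 5} := Subgroup.subset_closure (by simp)
  have m4 : x 4 ∈ Subgroup.closure {x 2, x 3, x 4, x 5} := Subgroup.subset_closure (by simp)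
  have m5 : x 5 ∈ Subgroup.closure {x 2, x 3, x 4, x 5} := Subgroup.subset_closure (by simp)
  apply Subgroup.mul_mem
  · rw [← L.gen] at hs
    have : Subgroup.closure {x 0, x 1} ≤ Subgroup.normalizer (Subgroup.closure {x 2, x 3, x 4, x 5} : Set G) := by
      rw [Subgroup.closure_le]
      rintro _ (rfl | rfl)
      · apply norm_of_gens
        rintro _ (rfl | rfl | rfl | rfl)
        · rw [L.c02.eq, mul_inv_cancel_right]; exact m2
        · rw [L.c03.eq, mul_inv_cancel_right]; exact m3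
        · rw [L.r04]; exact mul_mem m5 m4
        · rw [L.c05.eq, mul_inv_cancel_right]; exact m5
      · apply norm_of_gens
        rintro _ (rfl | rfl | rfl | rfl)
        · rw [L.r12]; exact mul_mem (mul_mem (mul_mem (pow_mem m3 _) (pow_mem m4 _)) (pow_mem m5 _)) m2
        · rw [L.r13]; exact mul_mem (pow_mem m4 _) m3
        · rw [L.c14.eq, mul_inv_cancel_right]; exact m4
        · rw [L.c15.eq, mul_inv_cancel_right]; exact m5
    exact this hs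
  · apply T_norm L.D _ ht
    rintro _ (rfl | rfl | rfl | rfl)
    · exact ⟨2, rfl⟩
    · exact ⟨3, rfl⟩
    · exact ⟨4, rfl⟩
    · exact ⟨5, rfl⟩

theorem Bas.wt (L : Bas n1 n2 x t1 t2 S T Q1 Q2) (i j : ℕ) (r : Fin 6) :
    (t1 ^ i * t2 ^ j) * x r * (t1 ^ i * t2 ^ j)⁻¹ = x r ^ (K1 r ^ i * K2 r ^ j).val := L.D.wt i j r

theorem Bas.wt_one (L : Bas n1 n2 x t1 t2 S T Q1 Q2) {i j : ℕ} {r : Fin 6}
    (h : (t1 ^ i * t2 ^ j) * x r * (t1 ^ i * t2 ^ j)⁻¹ = x r) : K1 r ^ i * K2 r ^ j = 1 := by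
  rw [L.wt] at h
  apply L.D.x_pow_inj r
  rw [h, v1, pow_one]

theorem Bas.cent1 (L : Bas n1 n2 x t1 t2 S T Q1 Q2) : ∀ h, (∀ q ∈ Q1, h * q = q * h) → h ∈ Subgroup.closure {x 5} := by
  intro h hc
  have hc' : ∀ q ∈ Q1, h * q * h⁻¹ = q := fun q hq => by rw [hc q hq]; group
  rcases L.N1 h (fun q hq => by rw [hc' q hq]; exact hq) with ⟨s, hs, t, ht, e⟩ | ⟨s, hs, t, ht, s', hs', t', ht', e⟩
  · obtain ⟨i, j, et⟩ := (L.hT t).mp ht
    have a5 : t * x 5 * t⁻¹ = x 5 := by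
      have h1 := hc' _ (L.mQ1 5 (by decide))
      have h2 := (L.commQ s hs).eq
      rw [e] at h1
      have h3 : t * x 5 * t⁻¹ = s⁻¹ * (s * t * x 5 * (s * t)⁻¹) * s := by group
      rw [h3, h1, mul_assoc, h2]; group
    have a0 : t * x 0 * t⁻¹ = s⁻¹ * x 0 * s := by
      have h1 := hc' _ (L.mQ1 0 (by decide))
      rw [e] at h1
      have h3 : t * x 0 * t⁻¹ = s⁻¹ * (s * t * x 0 * (s * t)⁻¹) * s := by group
      rw [h3, h1]
    have k5 : K1 5 ^ (i : ℕ) * K2 5 ^ (j : ℕ) = 1 := by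
      rw [et] at a5
      exact L.wt_one a5
    have k0 : K1 0 ^ (i : ℕ) * K2 0 ^ (j : ℕ) = 1 := by
      rw [et, L.wt] at a0
      generalize K1 0 ^ (i : ℕ) * K2 0 ^ (j : ℕ) = k at a0
      have h1 : x 0 ^ (k - 1).val ∈ Q2 := by
        have h2 : x 0 ^ (k - 1).val = x 0 ^ k.val * (x 0)⁻¹ := by
          have := pow_add_val (L.h5 0) (k - 1) 1
          rw [sub_add_cancel, v1, pow_one] at this
          rw [this]; group
        rw [h2, a0]
        obtain ⟨e', rfl⟩ := (L.hS s).mp hs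
        have h3 : NF x e' = x 0 ^ (e' 0).val * (x 1 ^ (e' 1).val * x 2 ^ (e' 2).val * x 3 ^ (e' 3).val * x 4 ^ (e' 4).val * x 5 ^ (e' 5).val) := by
          unfold NF; group
        have h4 : x 1 ^ (e' 1).val * x 2 ^ (e' 2).val * x 3 ^ (e' 3).val * x 4 ^ (e' 4).val * x 5 ^ (e' 5).val ∈ Q2 :=
          mul_mem (mul_mem (mul_mem (mul_mem (pow_mem (L.mQ2 1 (by decide)) _) (pow_mem (L.mQ2 2 (by decide)) _))
            (pow_mem (L.mQ2 3 (by decide)) _)) (pow_mem (L.mQ2 4 (by decide)) _)) (pow_mem (L.mQ2 5 (by decide)) _)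
        rw [h3]
        generalize x 1 ^ (e' 1).val * x 2 ^ (e' 2).val * x 3 ^ (e' 3).val * x 4 ^ (e' 4).val * x 5 ^ (e' 5).val = r at h4
        have h5 : (x 0 ^ (e' 0).val * r)⁻¹ * x 0 * (x 0 ^ (e' 0).val * r) * (x 0)⁻¹ = r⁻¹ * (x 0 * r * (x 0)⁻¹) := by group
        rw [h5]
        exact Q2.mul_mem (Q2.inv_mem h4) (L.SQ2 _ (L.D.x_mem 0) _ h4)
      by_contra hk
      exact L.x0Q2 (sub_ne_zero.mpr hk) h1
    obtain ⟨hi, hj⟩ := dec5 i j k5 k0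
    have ht1 : t = 1 := by rw [et, hi, hj]; simp
    rw [ht1, mul_one] at e
    subst e
    -- `h ∈ Q1`
    have hQ : h ∈ Q1 := by
      obtain ⟨e', he'⟩ := (L.hS h).mp hs
      by_contra hne
      have h1 : e' 1 ≠ 0 := fun h0 => hne ((L.hQ1 h).mpr ⟨e', h0, he'⟩)
      have hlt := ZMod.val_lt (e' 1)
      have hpos : 0 < (e' 1).val := Nat.pos_of_ne_zero (fun h0 => h1 ((ZMod.val_eq_zero _).mp h0))
      let k : Fin 4 := ⟨4 - (e' 1).val, by omega⟩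
      have hk : (k : ℕ) + 1 + (e' 1).val = 5 := by show 4 - (e' 1).val + 1 + (e' 1).val = 5; omega
      have h2 : x 1 ^ ((k : ℕ) + 1) = (x 1 ^ (e' 1).val)⁻¹ := by
        rw [eq_inv_iff_mul_eq_one, ← pow_add, hk, L.h5]
      have h3 : x 1 ^ ((k : ℕ) + 1) * h ∈ Q1 := by
        rw [← he', h2]
        have : (x 1 ^ (e' 1).val)⁻¹ * NF x e' = ((x 1 ^ (e' 1).val)⁻¹ * x 0 ^ (e' 0).val * ((x 1 ^ (e' 1).val)⁻¹)⁻¹) *
            (x 2 ^ (e' 2).val * x 3 ^ (e' 3).val * x 4 ^ (e' 4).val * x 5 ^ (e' 5).val) := by unfold NF; group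
        rw [this]
        apply Q1.mul_mem
        · exact L.SQ1 _ (S.inv_mem (S.pow_mem (L.D.x_mem 1) _)) _ (Q1.pow_mem (L.mQ1 0 (by decide)) _)
        · exact mul_mem (mul_mem (mul_mem (pow_mem (L.mQ1 2 (by decide)) _) (pow_mem (L.mQ1 3 (by decide)) _))
            (pow_mem (L.mQ1 4 (by decide)) _)) (pow_mem (L.mQ1 5 (by decide)) _)
      have h4 := L.tab k
      have h5 : x 1 ^ ((k : ℕ) + 1) * x 0 * (x 1 ^ ((k : ℕ) + 1))⁻¹ = cm (x 1 ^ ((k : ℕ) + 1) * h) (x 0) * x 0 := by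
        unfold cm
        have h6 := hc _ (L.mQ1 0 (by decide))
        have h7 : x 1 ^ ((k : ℕ) + 1) * h * x 0 * (x 1 ^ ((k : ℕ) + 1) * h)⁻¹ * (x 0)⁻¹ * x 0 = x 1 ^ ((k : ℕ) + 1) * (h * x 0 * h⁻¹) * (x 1 ^ ((k : ℕ) + 1))⁻¹ := by group
        rw [h7, hc' _ (L.mQ1 0 (by decide))]
      obtain ⟨c, hcc⟩ := mem_cl_val (L.h5 5) (L.cmQ _ h3 _ (L.mQ1 0 (by decide)))
      rw [h5, hcc] at h4
      have h8 : x 5 ^ c.val * x 0 = NF x (ve 1 0 0 0 0 c) := by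
        rw [(L.c05.symm.pow_left c.val).eq]
        unfold NF ve
        simp [v1]
      rw [h8] at h4
      have h9 := congrFun (L.inj h4) 2
      exact dec8 k h9.symm
    exact L.centQ1 hQ hc
  · exfalso
    obtain ⟨k, hk, hw⟩ := L.w1
    have b := L.nW1 hs ht
    have b' := L.nW1 hs' ht'
    have m4 : x 4 ∈ Subgroup.closure {x 4, x 5} := Subgroup.subset_closure (by simp)
    have h1 : (s' * t')⁻¹ * x 4 * (s' * t')⁻¹⁻¹ ∈ Subgroup.closure {x 4, x 5} := mem_norm.mp (Subgroup.inv_mem _ b') _ m4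
    have hW1 : Subgroup.closure {x 4, x 5} ≤ Q1 := by
      rw [Subgroup.closure_le]
      rintro _ (rfl | rfl)
      · exact L.mQ1 _ (by decide)
      · exact L.mQ1 _ (by decide)
    have hW2 : Subgroup.closure {x 4, x 5} ≤ Q2 := by
      rw [Subgroup.closure_le]
      rintro _ (rfl | rfl)
      · exact L.mQ2 _ (by decide)
      · exact L.mQ2 _ (by decide)
    have h2 := hc' _ (hW1 h1)
    have h3 : h * ((s' * t')⁻¹ * x 4 * (s' * t')⁻¹⁻¹) * h⁻¹ = (s * t) * (n1 * x 4 * n1⁻¹) * (s * t)⁻¹ := by rw [e]; group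
    rw [h3, hw] at h2
    have h4 : (s * t)⁻¹ * ((s * t) * x 0 ^ k.val * (s * t)⁻¹) * (s * t)⁻¹⁻¹ ∈ Subgroup.closure {x 4, x 5} :=
      mem_norm.mp (Subgroup.inv_mem _ b) _ (by rw [h2]; exact h1)
    have h5 : (s * t)⁻¹ * ((s * t) * x 0 ^ k.val * (s * t)⁻¹) * (s * t)⁻¹⁻¹ = x 0 ^ k.val := by group
    rw [h5] at h4
    exact L.x0Q2 hk (hW2 h4)

theorem Bas.cent2 (L : Bas n1 n2 x t1 t2 S T Q1 Q2) : ∀ h, (∀ q ∈ Q2, h * q = q * h) → (∀ t ∈ T, h * t = t * h) → h = 1 := by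
  intro h hc hcT
  have hc' : ∀ q ∈ Q2, h * q * h⁻¹ = q := fun q hq => by rw [hc q hq]; group
  rcases L.N2 h (fun q hq => by rw [hc' q hq]; exact hq) with ⟨s, hs, t, ht, e⟩ | ⟨s, hs, t, ht, s', hs', t', ht', e⟩
  · obtain ⟨i, j, et⟩ := (L.hT t).mp ht
    obtain ⟨e', he'⟩ := (L.hS s).mp hs
    have htt : ∀ u, Commute t1 u → Commute t2 u → Commute t u := by
      intro u h1 h2
      rw [et]; exact (h1.pow_left _).mul_left (h2.pow_left _)
    have m1 : t1 ∈ T := (L.hT _).mpr ⟨1, 0, by simp⟩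
    have m2 : t2 ∈ T := (L.hT _).mpr ⟨0, 1, by simp⟩
    have hcm : Commute t1 t2 := L.comm
    have key : ∀ u ∈ T, Commute t u → u * s * u⁻¹ = s := by
      intro u hu h1
      have h2 := hcT u hu
      have h3 : s = h * t⁻¹ := by rw [e]; group
      have h4 : Commute h u := h2
      have h5 : Commute s u := by rw [h3]; exact h4.mul_left h1.inv_left
      rw [← h5.eq]; group
    have s1 := key t1 m1 (htt _ (Commute.refl _) hcm.symm)
    have s2 := key t2 m2 (htt _ hcm (Commute.refl _))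
    rw [← he', conj_NF L.h5 L.ht1] at s1
    rw [← he', conj_NF L.h5 L.ht2] at s2
    have z1 := L.inj s1
    have z2 := L.inj s2
    have z : e' = fun _ => 0 := by
      funext r
      exact dec7 r (e' r) (congrFun z1 r) (congrFun z2 r)
    have hs1 : s = 1 := by rw [← he', z]; unfold NF; simp
    rw [hs1, one_mul] at e
    subst e
    have k1 : K1 1 ^ (i : ℕ) * K2 1 ^ (j : ℕ) = 1 := by
      have h1 := hc' _ (L.mQ2 1 (by decide))
      rw [et] at h1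
      exact L.wt_one h1
    have k2 : K1 2 ^ (i : ℕ) * K2 2 ^ (j : ℕ) = 1 := by
      have h1 := hc' _ (L.mQ2 2 (by decide))
      rw [et] at h1
      exact L.wt_one h1
    obtain ⟨hi, hj⟩ := dec6 i j k1 k2
    rw [et, hi, hj]; simp
  · exfalso
    obtain ⟨k, hk, hw⟩ := L.w2
    have b := L.nW2 hs ht
    have b' := L.nW2 hs' ht'
    have m4 : x 2 ∈ Subgroup.closure {x 2, x 3, x 4, x 5} := Subgroup.subset_closure (by simp)
    have h1 : (s' * t')⁻¹ * x 2 * (s' * t')⁻¹⁻¹ ∈ Subgroup.closure {x 2, x 3, x 4, x 5} := mem_norm.mp (Subgroup.inv_mem _ b') _ m4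
    have hW1 : Subgroup.closure {x 2, x 3, x 4, x 5} ≤ Q1 := by
      rw [Subgroup.closure_le]
      rintro _ (rfl | rfl | rfl | rfl)
      · exact L.mQ1 _ (by decide)
      · exact L.mQ1 _ (by decide)
      · exact L.mQ1 _ (by decide)
      · exact L.mQ1 _ (by decide)
    have hW2 : Subgroup.closure {x 2, x 3, x 4, x 5} ≤ Q2 := by
      rw [Subgroup.closure_le]
      rintro _ (rfl | rfl | rfl | rfl)
      · exact L.mQ2 _ (by decide)
      · exact L.mQ2 _ (by decide)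
      · exact L.mQ2 _ (by decide)
      · exact L.mQ2 _ (by decide)
    have h2 := hc' _ (hW2 h1)
    have h3 : h * ((s' * t')⁻¹ * x 2 * (s' * t')⁻¹⁻¹) * h⁻¹ = (s * t) * (n2 * x 2 * n2⁻¹) * (s * t)⁻¹ := by rw [e]; group
    rw [h3, hw] at h2
    have h4 : (s * t)⁻¹ * ((s * t) * x 1 ^ k.val * (s * t)⁻¹) * (s * t)⁻¹⁻¹ ∈ Subgroup.closure {x 2, x 3, x 4, x 5} :=
      mem_norm.mp (Subgroup.inv_mem _ b) _ (by rw [h2]; exact h1)
    have h5 : (s * t)⁻¹ * ((s * t) * x 1 ^ k.val * (s * t)⁻¹) * (s * t)⁻¹⁻¹ = x 1 ^ k.val := by group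
    rw [h5] at h4
    exact L.x1Q1 hk (hW1 h4)

theorem Bas.cN (L : Bas n1 n2 x t1 t2 S T Q1 Q2) : Nat.card (Subgroup.normalizer (Q1 : Set G)) ≤ 1500000 := by
  have key : ∀ g ∈ Subgroup.normalizer (Q1 : Set G), ∃ (o : Option (Fin 5)), ∃ s ∈ S, ∃ t ∈ T, g = (match o with | none => 1 | some k => x 1 ^ (k : ℕ) * n1) * (s * t) := by
    intro g hg
    rcases L.N1 g (mem_norm.mp hg) with ⟨s, hs, t, ht, e⟩ | ⟨s, hs, t, ht, s', hs', t', ht', e⟩
    · exact ⟨none, s, hs, t, ht, by rw [one_mul]; exact e⟩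
    · obtain ⟨e', he'⟩ := (L.hS s).mp hs
      -- `s = x1^k q`
      have h3 : (x 1 ^ (e' 1).val)⁻¹ * s ∈ Q1 := by
        rw [← he']
        have : (x 1 ^ (e' 1).val)⁻¹ * NF x e' = ((x 1 ^ (e' 1).val)⁻¹ * x 0 ^ (e' 0).val * ((x 1 ^ (e' 1).val)⁻¹)⁻¹) *
            (x 2 ^ (e' 2).val * x 3 ^ (e' 3).val * x 4 ^ (e' 4).val * x 5 ^ (e' 5).val) := by unfold NF; group
        rw [this]
        apply Q1.mul_mem
        · exact L.SQ1 _ (S.inv_mem (S.pow_mem (L.D.x_mem 1) _)) _ (Q1.pow_mem (L.mQ1 0 (by decide)) _)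
        · exact mul_mem (mul_mem (mul_mem (pow_mem (L.mQ1 2 (by decide)) _) (pow_mem (L.mQ1 3 (by decide)) _))
            (pow_mem (L.mQ1 4 (by decide)) _)) (pow_mem (L.mQ1 5 (by decide)) _)
      have n1N : n1 ∈ Subgroup.normalizer (Q1 : Set G) := mem_norm.mpr L.n1Q
      have n1N' : n1 ∈ Subgroup.normalizer (T : Set G) := mem_norm.mpr L.n1T
      have q1 : n1⁻¹ * ((x 1 ^ (e' 1).val)⁻¹ * s) * n1⁻¹⁻¹ ∈ Q1 := mem_norm.mp (Subgroup.inv_mem _ n1N) _ h3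
      have q2 : n1⁻¹ * t * n1⁻¹⁻¹ ∈ T := mem_norm.mp (Subgroup.inv_mem _ n1N') _ ht
      have q3 := TS L.D q2 s' hs'
      refine ⟨some ⟨(e' 1).val, ZMod.val_lt _⟩, (n1⁻¹ * ((x 1 ^ (e' 1).val)⁻¹ * s) * n1⁻¹⁻¹) * ((n1⁻¹ * t * n1⁻¹⁻¹) * s' * (n1⁻¹ * t * n1⁻¹⁻¹)⁻¹), S.mul_mem (L.Q1S q1) q3,
        (n1⁻¹ * t * n1⁻¹⁻¹) * t', T.mul_mem q2 ht', ?_⟩
      rw [e]
      show _ = x 1 ^ (e' 1).val * n1 * _
      group
  let f : Option (Fin 5) × S × T → G := fun p => (match p.1 with | none => 1 | some k => x 1 ^ (k : ℕ) * n1) * (p.2.1 * p.2.2)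
  have h1 : (Subgroup.normalizer (Q1 : Set G) : Set G) ⊆ Set.range f := by
    intro g hg
    obtain ⟨o, s, hs, t, ht, e⟩ := key g hg
    exact ⟨(o, ⟨s, hs⟩, ⟨t, ht⟩), e.symm⟩
  have h2 : Nat.card (Subgroup.normalizer (Q1 : Set G)) ≤ Nat.card (Set.range f) := Nat.card_mono (Set.toFinite _) h1
  have h3 : Nat.card (Set.range f) ≤ Nat.card (Option (Fin 5) × S × T) := Nat.card_le_card_of_surjective _ Set.rangeFactorization_surjective
  rw [Nat.card_prod, Nat.card_prod, L.cS, L.cT, Finite.card_option, Nat.card_fin] at h3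
  omega

theorem Bas.toInt (L : Bas n1 n2 x t1 t2 S T Q1 Q2) : Int n1 n2 x t1 t2 S T Q1 Q2 where
  D := L.D
  cS := L.cS
  cT := L.cT
  nS := L.nS
  Q1S := L.Q1S
  Q2S := L.Q2S
  c1 := L.c1
  c2 := L.c2
  SQ1 := L.SQ1
  cent1 := L.cent1
  cent1' := L.cent1'
  x5Q := L.mQ1 5 (by decide)
  cent2 := L.cent2
  cls1 := L.cls1
  cls2 := ⟨x 1, L.mQ2 1 (by decide), x 2, L.mQ2 2 (by decide), x 1, L.mQ2 1 (by decide), by rw [L.cls2]; exact L.D.x_ne 4⟩
  cN := L.cN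
  n1T := L.n1T
  n2T := L.n2T
  n1Q := L.n1Q
  n2Q := L.n2Q
  genH := L.genH

end

end Cfsg.Agent.Lib.LyOutC
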