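import Cfsg.Agent.Lib.LyOutC
import Cfsg.Agent.Lib.LyH
import Cfsg.Agent.Lib.ChevWC
import Cfsg.Agent.Lib.ChevPar

/-!
The basic facts of `LyOutC` for the Chevalley group `G₂(5)` (helper35).
-/

set_option autoImplicit false
set_option linter.all false
set_option maxRecDepth 100000

namespace Cfsg.Agent.Lib.LyOutD

open Cfsg.Lie Cfsg.Agent.Lib.M5 Cfsg.Agent.Lib.BenesWord Cfsg.Agent.Lib.LyG14 Cfsg.Agent.Lib.LyPres Cfsg.Agent.Lib.ChevRel
open Cfsg.Agent.Lib.ChevGood Cfsg.Agent.Lib.LyG14P Cfsg.Agent.Lib.LyP2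
open Cfsg.Agent.Lib.LyOutA Cfsg.Agent.Lib.LyOutB Cfsg.Agent.Lib.LyOutC
open scoped Matrix MatrixGroups

/-- the group -/
abbrev G0 : Type := ↥(chevG2.group K)

noncomputable instance : Finite G0 := Nat.finite_of_card_ne_zero (by rw [card_G2]; norm_num)

/-- the datum -/
noncomputable def GD : Good chevG2 := LyG14P.good.some

/-- root elements -/
noncomputable def x (r : Fin 6) : G0 := xe (6 + r.val) 1

theorem pos_iff {r : ℕ} : chevG2.IsPosRoot r ↔ 6 ≤ r ∧ r < 12 := GD.isPos_iff r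

theorem posR : chevG2.posRoots = [6, 7, 8, 9, 10, 11] := by rw [ChevU.posRoots_eq GD]; rfl

theorem xg_val (r : ℕ) (c : K) : xg chevG2 K r 1 ^ c.val = xg chevG2 K r c := by
  rw [← xg_pow, ZMod.natCast_zmod_val]

theorem coe_x (r : Fin 6) (c : K) : ((x r ^ c.val : G0) : GL Ix K) = xg chevG2 K (6 + r.val) c := by
  show (xg chevG2 K (6 + r.val) 1) ^ c.val = _
  rw [xg_val]

/-- extension of a vector -/
def ee (e : Fin 6 → K) (r : ℕ) : K := if h : 6 ≤ r ∧ r < 12 then e ⟨r - 6, by omega⟩ else 0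

theorem coe_NF (e : Fin 6 → K) : ((NF x e : G0) : GL Ix K) = wg chevG2 K (chevG2.posRoots.map fun r => (r, ee e r)) := by
  have h : ((NF x e : G0) : GL Ix K) = xg chevG2 K 6 (e 0) * xg chevG2 K 7 (e 1) * xg chevG2 K 8 (e 2) * xg chevG2 K 9 (e 3) *
      xg chevG2 K 10 (e 4) * xg chevG2 K 11 (e 5) := by
    have := coe_x 0 (e 0)
    have := coe_x 1 (e 1)
    have := coe_x 2 (e 2)
    have := coe_x 3 (e 3)
    have := coe_x 4 (e 4)
    have := coe_x 5 (e 5)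
    unfold NF
    simp only [Subgroup.coe_mul, coe_x]
    rfl
  rw [h, posR]
  simp only [List.map_cons, List.map_nil, ChevU.wg_cons, ChevU.wg_nil, mul_one]
  simp only [mul_assoc]
  rfl

/-- the subgroups -/
noncomputable def S0 : Subgroup G0 := (chevG2.posUnipotent K).subgroupOf (chevG2.group K)
noncomputable def T0 : Subgroup G0 := (chevG2.diagonalSubgroup K).subgroupOf (chevG2.group K)
noncomputable def Q1 : Subgroup G0 := (ChevU.XS chevG2 K (ChevBN.posBut chevG2 0)).subgroupOf (chevG2.group K)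
noncomputable def Q2 : Subgroup G0 := (ChevU.XS chevG2 K (ChevBN.posBut chevG2 1)).subgroupOf (chevG2.group K)

theorem inj : Function.Injective (NF x) := by
  intro e e' h
  have h1 := congrArg (fun g : G0 => (g : GL Ix K)) h
  simp only [coe_NF] at h1
  funext i
  have h2 := ChevU.normalForm_unique GD h1 (r := 6 + i.val) (pos_iff.mpr ⟨by omega, by omega⟩)
  have h3 : ∀ e : Fin 6 → K, ee e (6 + i.val) = e i := by
    intro e
    unfold ee
    rw [dif_pos ⟨by omega, by omega⟩]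
    congr 1
    apply Fin.ext
    show 6 + i.val - 6 = i.val
    omega
  rwa [h3, h3] at h2

theorem NF_of {t : ℕ → K} : wg chevG2 K (chevG2.posRoots.map fun r => (r, t r)) = ((NF x (fun i => t (6 + i.val)) : G0) : GL Ix K) := by
  rw [coe_NF, posR]
  simp only [List.map_cons, List.map_nil]
  rfl

theorem hS (g : G0) : g ∈ S0 ↔ ∃ e, NF x e = g := by
  constructor
  · intro hg
    have h1 : (g : GL Ix K) ∈ chevG2.posUnipotent K := hg
    rw [ChevU.posUnipotent_eq GD] at h1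
    obtain ⟨t, _, ht⟩ := ChevU.exists_normalForm GD (fun r hr => hr) (ChevU.isClosed_pos GD) h1
    rw [NF_of] at ht
    exact ⟨_, Subtype.ext ht.symm⟩
  · rintro ⟨e, rfl⟩
    show ((NF x e : G0) : GL Ix K) ∈ chevG2.posUnipotent K
    rw [coe_NF]
    exact ChevU.normalForm_mem GD _

theorem mem_posBut {i r : ℕ} : r ∈ ChevBN.posBut chevG2 i ↔ (6 ≤ r ∧ r < 12) ∧ r ≠ chevG2.simple i := by
  unfold ChevBN.posBut
  rw [Set.mem_setOf_eq, pos_iff]

theorem hQ1 (g : G0) : g ∈ Q1 ↔ ∃ e : Fin 6 → K, e 1 = 0 ∧ NF x e = g := by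
  constructor
  · intro hg
    have h1 : (g : GL Ix K) ∈ ChevU.XS chevG2 K (ChevBN.posBut chevG2 0) := hg
    obtain ⟨t, h0, ht⟩ := ChevU.exists_normalForm GD (fun r hr => hr.1) (ChevWC.isClosed_posBut GD (k := 0) (by decide)) h1
    rw [NF_of] at ht
    refine ⟨_, ?_, Subtype.ext ht.symm⟩
    exact h0 7 (fun h => h.2 rfl)
  · rintro ⟨e, he, rfl⟩
    show ((NF x e : G0) : GL Ix K) ∈ ChevU.XS chevG2 K (ChevBN.posBut chevG2 0)
    unfold NF
    rw [he]
    simp only [ZMod.val_zero, pow_zero, mul_one, Subgroup.coe_mul, coe_x]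
    have m : ∀ r : ℕ, (6 ≤ r ∧ r < 12) ∧ r ≠ chevG2.simple 0 → ∀ c, xg chevG2 K r c ∈ ChevU.XS chevG2 K (ChevBN.posBut chevG2 0) :=
      fun r hr c => ChevU.xg_mem_XS (mem_posBut.mpr hr) c
    exact mul_mem (mul_mem (mul_mem (mul_mem (m 6 (by decide) _) (m 8 (by decide) _)) (m 9 (by decide) _)) (m 10 (by decide) _)) (m 11 (by decide) _)

theorem hQ2 (g : G0) : g ∈ Q2 ↔ ∃ e : Fin 6 → K, e 0 = 0 ∧ NF x e = g := by
  constructor
  · intro hg
    have h1 : (g : GL Ix K) ∈ ChevU.XS chevG2 K (ChevBN.posBut chevG2 1) := hg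
    obtain ⟨t, h0, ht⟩ := ChevU.exists_normalForm GD (fun r hr => hr.1) (ChevWC.isClosed_posBut GD (k := 1) (by decide)) h1
    rw [NF_of] at ht
    refine ⟨_, ?_, Subtype.ext ht.symm⟩
    exact h0 6 (fun h => h.2 rfl)
  · rintro ⟨e, he, rfl⟩
    show ((NF x e : G0) : GL Ix K) ∈ ChevU.XS chevG2 K (ChevBN.posBut chevG2 1)
    unfold NF
    rw [he]
    simp only [ZMod.val_zero, pow_zero, one_mul, Subgroup.coe_mul, coe_x]
    have m : ∀ r : ℕ, (6 ≤ r ∧ r < 12) ∧ r ≠ chevG2.simple 1 → ∀ c, xg chevG2 K r c ∈ ChevU.XS chevG2 K (ChevBN.posBut chevG2 1) :=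
      fun r hr c => ChevU.xg_mem_XS (mem_posBut.mpr hr) c
    exact mul_mem (mul_mem (mul_mem (mul_mem (m 7 (by decide) _) (m 8 (by decide) _)) (m 9 (by decide) _)) (m 10 (by decide) _)) (m 11 (by decide) _)


/-! ### relations -/

/-- the isomorphism -/
noncomputable def φ : P44 ≃* G0 := exists_iso.choose
theorem φ_spec : ∀ c < 15, FG (φ (wx 15 relP c)) = u c := exists_iso.choose_spec

/-- letters -/
noncomputable def yy (c : ℕ) : G0 := if c < 15 then φ (wx 15 relP c) else if c < 27 then xe (c - 15) 1 else 1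

theorem FG_yy {c : ℕ} (hc : c < 27) : FG (yy c) = u c := by
  unfold yy
  by_cases h : c < 15
  · rw [if_pos h]; exact φ_spec c h
  · rw [if_neg h, if_pos hc]
    have h1 : c = 15 + (c - 15) := by omega
    conv_rhs => rw [h1]
    exact FG_xe (by omega)

/-- the relations -/
def rels : List (Wd × Wd) := [
  ((.mul (.mul (.g 21) (.g 25)) (.inv (.g 21))), (.mul (.g 26) (.g 25))),
  ((.mul (.mul (.g 22) (.g 23)) (.inv (.g 22))), (.mul (.mul (.mul (.pow (.g 24) 3) (.pow (.g 25) 2)) (.pow (.g 26) 2)) (.g 23))),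
  ((.mul (.mul (.g 22) (.g 24)) (.inv (.g 22))), (.mul (.pow (.g 25) 3) (.g 24))),
  ((.mul (.mul (.g 23) (.g 24)) (.inv (.g 23))), (.mul (.pow (.g 26) 3) (.g 24))),
  ((.mul (.g 21) (.g 23)), (.mul (.g 23) (.g 21))),
  ((.mul (.g 21) (.g 24)), (.mul (.g 24) (.g 21))),
  ((.mul (.g 21) (.g 26)), (.mul (.g 26) (.g 21))),
  ((.mul (.g 22) (.g 25)), (.mul (.g 25) (.g 22))),
  ((.mul (.g 22) (.g 26)), (.mul (.g 26) (.g 22))),
  ((.mul (.g 23) (.g 25)), (.mul (.g 25) (.g 23))),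
  ((.mul (.g 23) (.g 26)), (.mul (.g 26) (.g 23))),
  ((.mul (.g 24) (.g 25)), (.mul (.g 25) (.g 24))),
  ((.mul (.g 24) (.g 26)), (.mul (.g 26) (.g 24))),
  ((.mul (.g 25) (.g 26)), (.mul (.g 26) (.g 25))),
  ((.mul (.mul (.pow (.g 22) 1) (.g 21)) (.inv (.pow (.g 22) 1))), (.mul (.mul (.mul (.mul (.mul (.pow (.g 21) 1) (.pow (.g 22) 0)) (.pow (.g 23) 4)) (.pow (.g 24) 1)) (.pow (.g 25) 1)) (.pow (.g 26) 1))),
  ((.mul (.mul (.pow (.g 22) 2) (.g 21)) (.inv (.pow (.g 22) 2))), (.mul (.mul (.mul (.mul (.mul (.pow (.g 21) 1) (.pow (.g 22) 0)) (.pow (.g 23) 3)) (.pow (.g 24) 4)) (.pow (.g 25) 3)) (.pow (.g 26) 3))),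
  ((.mul (.mul (.pow (.g 22) 3) (.g 21)) (.inv (.pow (.g 22) 3))), (.mul (.mul (.mul (.mul (.mul (.pow (.g 21) 1) (.pow (.g 22) 0)) (.pow (.g 23) 2)) (.pow (.g 24) 4)) (.pow (.g 25) 2)) (.pow (.g 26) 2))),
  ((.mul (.mul (.pow (.g 22) 4) (.g 21)) (.inv (.pow (.g 22) 4))), (.mul (.mul (.mul (.mul (.mul (.pow (.g 21) 1) (.pow (.g 22) 0)) (.pow (.g 23) 1)) (.pow (.g 24) 1)) (.pow (.g 25) 4)) (.pow (.g 26) 4))),
  ((.mul (.mul (.mul (.mul (.mul (.mul (.g 22) (.g 23)) (.inv (.g 22))) (.inv (.g 23))) (.g 22)) (.inv (.mul (.mul (.mul (.g 22) (.g 23)) (.inv (.g 22))) (.inv (.g 23))))) (.inv (.g 22))), (.g 25)),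
  ((.g 23), (.mul (.mul (.mul (.mul (.mul (.mul (.mul (.mul (.mul (.mul (.mul (.g 21) (.g 22)) (.inv (.g 21))) (.inv (.g 21))) (.inv (.g 22))) (.g 21)) (.inv (.g 22))) (.inv (.g 22))) (.inv (.g 21))) (.g 22)) (.g 21)) (.g 22))),
  ((.g 24), (.mul (.mul (.mul (.mul (.mul (.mul (.mul (.mul (.g 22) (.inv (.g 21))) (.g 22)) (.g 21)) (.g 22)) (.g 21)) (.g 22)) (.inv (.g 21))) (.g 22))),
  ((.g 25), (.mul (.mul (.mul (.mul (.mul (.mul (.mul (.mul (.mul (.mul (.g 21) (.g 22)) (.g 21)) (.g 22)) (.g 22)) (.inv (.g 21))) (.g 22)) (.inv (.g 21))) (.inv (.g 21))) (.g 22)) (.g 21))),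
  ((.g 26), (.mul (.mul (.mul (.mul (.mul (.mul (.mul (.g 21) (.g 22)) (.g 21)) (.inv (.g 22))) (.inv (.g 21))) (.g 22)) (.inv (.g 21))) (.inv (.g 22)))),
  ((.mul (.mul (.g 0) (.g 21)) (.inv (.g 0))), (.mul (.mul (.mul (.mul (.mul (.pow (.g 21) 3) (.pow (.g 22) 0)) (.pow (.g 23) 2)) (.pow (.g 24) 3)) (.pow (.g 25) 3)) (.pow (.g 26) 4))),
  ((.mul (.mul (.g 0) (.g 23)) (.inv (.g 0))), (.mul (.mul (.mul (.mul (.mul (.pow (.g 21) 1) (.pow (.g 22) 0)) (.pow (.g 23) 3)) (.pow (.g 24) 3)) (.pow (.g 25) 4)) (.pow (.g 26) 2))),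
  ((.mul (.mul (.g 0) (.g 24)) (.inv (.g 0))), (.mul (.mul (.mul (.mul (.mul (.pow (.g 21) 4) (.pow (.g 22) 0)) (.pow (.g 23) 3)) (.pow (.g 24) 2)) (.pow (.g 25) 4)) (.pow (.g 26) 3))),
  ((.mul (.mul (.g 0) (.g 25)) (.inv (.g 0))), (.mul (.mul (.mul (.mul (.mul (.pow (.g 21) 3) (.pow (.g 22) 0)) (.pow (.g 23) 3)) (.pow (.g 24) 3)) (.pow (.g 25) 2)) (.pow (.g 26) 1))),
  ((.mul (.mul (.g 0) (.g 26)) (.inv (.g 0))), (.mul (.mul (.mul (.mul (.mul (.pow (.g 21) 0) (.pow (.g 22) 0)) (.pow (.g 23) 0)) (.pow (.g 24) 0)) (.pow (.g 25) 0)) (.pow (.g 26) 3))),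
  ((.g 10), (.mul (.mul (.mul (.mul (.mul (.pow (.g 21) 0) (.pow (.g 22) 0)) (.pow (.g 23) 2)) (.pow (.g 24) 0)) (.pow (.g 25) 0)) (.pow (.g 26) 0))),
  ((.g 11), (.mul (.mul (.mul (.mul (.mul (.pow (.g 21) 1) (.pow (.g 22) 0)) (.pow (.g 23) 3)) (.pow (.g 24) 3)) (.pow (.g 25) 4)) (.pow (.g 26) 2))),
  ((.g 12), (.mul (.mul (.mul (.mul (.mul (.pow (.g 21) 0) (.pow (.g 22) 0)) (.pow (.g 23) 2)) (.pow (.g 24) 4)) (.pow (.g 25) 4)) (.pow (.g 26) 3))),
  ((.g 13), (.mul (.mul (.mul (.mul (.mul (.pow (.g 21) 0) (.pow (.g 22) 0)) (.pow (.g 23) 2)) (.pow (.g 24) 1)) (.pow (.g 25) 4)) (.pow (.g 26) 2))),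
  ((.g 14), (.mul (.mul (.mul (.mul (.mul (.pow (.g 21) 0) (.pow (.g 22) 0)) (.pow (.g 23) 0)) (.pow (.g 24) 0)) (.pow (.g 25) 0)) (.pow (.g 26) 3))),
  ((.g 21), (.mul (.mul (.mul (.mul (.mul (.g 10) (.g 11)) (.g 10)) (.inv (.g 13))) (.inv (.g 13))) (.g 12))),
  ((.g 23), (.mul (.inv (.g 10)) (.inv (.g 10)))),
  ((.g 24), (.mul (.mul (.mul (.g 12) (.inv (.g 13))) (.inv (.g 13))) (.g 12))),
  ((.g 25), (.mul (.mul (.mul (.mul (.g 10) (.g 12)) (.g 13)) (.g 13)) (.g 12))),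
  ((.g 26), (.mul (.g 14) (.g 14))),
  ((.g 1), (.g 22))]

theorem c_rels : chkRel 14 LL (rels.map fun p => .mul (.inv p.1) p.2) = true := by decide +kernel

theorem lets_rels : ∀ p ∈ rels, Cfsg.Agent.Lib.CoxBridge.lets 27 (.mul (.inv p.1) p.2) = true := by decide +kernel

theorem rel_mem {p : Wd × Wd} (hp : p ∈ rels) : p.1.eval yy = p.2.eval yy := by
  have h1 : (Wd.mul (.inv p.1) p.2).eval yy = 1 := by
    apply FG_inj
    rw [Wd.map_eval, map_one]
    rw [← u_rel c_rels _ (List.mem_map.mpr ⟨p, hp, rfl⟩) (lets_rels p hp)]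
    apply Cfsg.Agent.Lib.CoxBridge.eval_congr (n := 27) _ _ (lets_rels p hp)
    intro c hc
    exact FG_yy hc
  simp only [Wd.eval] at h1
  exact inv_mul_eq_one.mp h1

theorem len_rels : rels.length = 39 := by decide +kernel

theorem rel (i : ℕ) (hi : i < 39) : (rels.getD i (.one, .one)).1.eval yy = (rels.getD i (.one, .one)).2.eval yy := by
  apply rel_mem
  rw [List.getD_eq_getElem?_getD, List.getElem?_eq_getElem (by rw [len_rels]; exact hi)]
  exact List.getElem_mem _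

theorem y21 : yy 21 = x 0 := rfl
theorem y22 : yy 22 = x 1 := rfl
theorem y23 : yy 23 = x 2 := rfl
theorem y24 : yy 24 = x 3 := rfl
theorem y25 : yy 25 = x 4 := rfl
theorem y26 : yy 26 = x 5 := rfl

theorem r04 : x 0 * x 4 * (x 0)⁻¹ = x 5 * x 4 := rel 0 (by norm_num)
theorem r12 : x 1 * x 2 * (x 1)⁻¹ = x 3 ^ 3 * x 4 ^ 2 * x 5 ^ 2 * x 2 := rel 1 (by norm_num)
theorem r13 : x 1 * x 3 * (x 1)⁻¹ = x 4 ^ 3 * x 3 := rel 2 (by norm_num)
theorem r23 : x 2 * x 3 * (x 2)⁻¹ = x 5 ^ 3 * x 3 := rel 3 (by norm_num)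
theorem c02 : Commute (x 0) (x 2) := rel 4 (by norm_num)
theorem c03 : Commute (x 0) (x 3) := rel 5 (by norm_num)
theorem c05 : Commute (x 0) (x 5) := rel 6 (by norm_num)
theorem c14 : Commute (x 1) (x 4) := rel 7 (by norm_num)
theorem c15 : Commute (x 1) (x 5) := rel 8 (by norm_num)
theorem c24 : Commute (x 2) (x 4) := rel 9 (by norm_num)
theorem c25 : Commute (x 2) (x 5) := rel 10 (by norm_num)
theorem c34 : Commute (x 3) (x 4) := rel 11 (by norm_num)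
theorem c35 : Commute (x 3) (x 5) := rel 12 (by norm_num)
theorem c45 : Commute (x 4) (x 5) := rel 13 (by norm_num)

/-- exponents of the table -/
def tabn : Fin 4 → Fin 6 → ℕ := ![![1, 0, 4, 1, 1, 1], ![1, 0, 3, 4, 3, 3], ![1, 0, 2, 4, 2, 2], ![1, 0, 1, 1, 4, 4]]

theorem tabv_val : ∀ k r, (tabv k r).val = tabn k r := by decide +kernel

theorem tab : ∀ k : Fin 4, x 1 ^ ((k : ℕ) + 1) * x 0 * (x 1 ^ ((k : ℕ) + 1))⁻¹ = NF x (tabv k) := by
  intro k
  unfold NF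
  simp only [tabv_val]
  fin_cases k
  · exact rel 14 (by norm_num)
  · exact rel 15 (by norm_num)
  · exact rel 16 (by norm_num)
  · exact rel 17 (by norm_num)

theorem cls2 : cm (cm (x 1) (x 2)) (x 1) = x 4 := rel 18 (by norm_num)

theorem x_mem (r : Fin 6) : x r ∈ S0 := by
  rw [hS]
  refine ⟨fun s => if s = r then 1 else 0, ?_⟩
  rw [NF_single x r _ (fun s hs => if_neg hs)]
  simp [v1]

theorem gen : Subgroup.closure {x 0, x 1} = S0 := by
  apply le_antisymm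
  · rw [Subgroup.closure_le]
    rintro _ (rfl | rfl)
    · exact x_mem 0
    · exact x_mem 1
  · intro g hg
    obtain ⟨e, rfl⟩ := (hS g).mp hg
    have hm : ∀ W : Wd, lge 21 23 W = true → W.eval yy ∈ Subgroup.closure {x 0, x 1} := by
      intro W hW
      apply eval_mem (a := 21) (b := 23) _ W hW
      intro c hc hc'
      have : c = 21 ∨ c = 22 := by omega
      rcases this with rfl | rfl
      · rw [y21]; exact Subgroup.subset_closure (by simp)
      · rw [y22]; exact Subgroup.subset_closure (by simp)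
    have m0 : x 0 ∈ Subgroup.closure {x 0, x 1} := Subgroup.subset_closure (by simp)
    have m1 : x 1 ∈ Subgroup.closure {x 0, x 1} := Subgroup.subset_closure (by simp)
    have m2 : x 2 ∈ Subgroup.closure {x 0, x 1} := by
      have h : x 2 = (rels.getD 19 (.one, .one)).2.eval yy := rel 19 (by norm_num)
      rw [h]; exact hm _ (by decide +kernel)
    have m3 : x 3 ∈ Subgroup.closure {x 0, x 1} := by
      have h : x 3 = (rels.getD 20 (.one, .one)).2.eval yy := rel 20 (by norm_num)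
      rw [h]; exact hm _ (by decide +kernel)
    have m4 : x 4 ∈ Subgroup.closure {x 0, x 1} := by
      have h : x 4 = (rels.getD 21 (.one, .one)).2.eval yy := rel 21 (by norm_num)
      rw [h]; exact hm _ (by decide +kernel)
    have m5 : x 5 ∈ Subgroup.closure {x 0, x 1} := by
      have h : x 5 = (rels.getD 22 (.one, .one)).2.eval yy := rel 22 (by norm_num)
      rw [h]; exact hm _ (by decide +kernel)
    exact mul_mem (mul_mem (mul_mem (mul_mem (mul_mem (pow_mem m0 _) (pow_mem m1 _)) (pow_mem m2 _)) (pow_mem m3 _)) (pow_mem m4 _)) (pow_mem m5 _)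

theorem h5 : ∀ r, x r ^ 5 = 1 := by
  intro r
  apply Subtype.ext
  show (xg chevG2 K (6 + r.val) 1) ^ 5 = 1
  have h1 := xg_pow (6 + r.val) 5
  rw [← h1]
  have h2 : ((5 : ℕ) : K) = 0 := rfl
  rw [h2]
  exact ChevRel.xg_zero GD _

/-! ### the torus -/

theorem hg_mem' {r : ℕ} (hr : r < 12) {c : K} (hc : c ≠ 0) : hg chevG2 K r c ∈ chevG2.group K :=
  ChevBN.H_le_group GD (ChevH.hg_mem GD hr hc)

/-- torus elements -/
noncomputable def t1 : G0 := ⟨hg chevG2 K 7 2, hg_mem' (by norm_num) (by decide)⟩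
noncomputable def t2 : G0 := ⟨hg chevG2 K 6 2, hg_mem' (by norm_num) (by decide)⟩

theorem hg_pow {r : ℕ} (hr : r < 12) (n : ℕ) : hg chevG2 K r (2 ^ n) = hg chevG2 K r 2 ^ n := by
  induction n with
  | zero => rw [pow_zero, pow_zero]; exact ChevH.hg_one GD hr
  | succ n ih => rw [pow_succ, pow_succ, ← ih]; exact (hg_mul GD hr _ _ (pow_ne_zero _ (by decide)) (by decide)).symm

theorem ex_pow : ∀ c : K, c ≠ 0 → ∃ i : Fin 4, c = 2 ^ (i : ℕ) := by decide +kernel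

theorem d7 : hg chevG2 K 7 2 ∈ chevG2.diagonalSubgroup K :=
  ChevH.hg_mem GD (show 7 < chevG2.nroots by decide) (show (2 : K) ≠ 0 by decide)

theorem d6 : hg chevG2 K 6 2 ∈ chevG2.diagonalSubgroup K :=
  ChevH.hg_mem GD (show 6 < chevG2.nroots by decide) (show (2 : K) ≠ 0 by decide)

theorem t1T : t1 ∈ T0 := by
  unfold T0
  rw [Subgroup.mem_subgroupOf]
  exact d7

theorem t2T : t2 ∈ T0 := by
  unfold T0
  rw [Subgroup.mem_subgroupOf]
  exact d6

theorem hs2 (c : ℕ → K) : ChevH.hs chevG2 c 2 = hg chevG2 K 7 (c 0) * hg chevG2 K 6 (c 1) := by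
  rw [ChevH.hs_succ, ChevH.hs_succ]
  have : ChevH.hs chevG2 c 0 = 1 := by simp [ChevH.hs]
  rw [this, one_mul]; rfl

theorem hT (g : G0) : g ∈ T0 ↔ ∃ i j : Fin 4, g = t1 ^ (i : ℕ) * t2 ^ (j : ℕ) := by
  constructor
  · intro hgm
    unfold T0 at hgm
    rw [Subgroup.mem_subgroupOf] at hgm
    obtain ⟨c, hc, h⟩ := ChevH.exists_hs GD hgm
    have h1 : ChevH.hs chevG2 c chevG2.rank = hg chevG2 K 7 (c 0) * hg chevG2 K 6 (c 1) := hs2 c
    obtain ⟨i, hi⟩ := ex_pow (c 0) (hc 0 (by decide))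
    obtain ⟨j, hj⟩ := ex_pow (c 1) (hc 1 (by decide))
    refine ⟨i, j, Subtype.ext ?_⟩
    rw [h, h1, hi, hj, hg_pow (by norm_num), hg_pow (by norm_num)]
    rfl
  · rintro ⟨i, j, rfl⟩
    exact mul_mem (pow_mem t1T _) (pow_mem t2T _)

theorem comm : t1 * t2 = t2 * t1 :=
  Subtype.ext (ChevH.diag_comm GD d7 d6)

theorem ex1 : ∀ r : Fin 6, (2 : K) ^ (∑ j ∈ Finset.range chevG2.rank, ChevX.co chevG2 7 j * chevG2.cartan j (6 + r.val)) * 1 = K1 r := by
  decide +kernel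

theorem ex2 : ∀ r : Fin 6, (2 : K) ^ (∑ j ∈ Finset.range chevG2.rank, ChevX.co chevG2 6 j * chevG2.cartan j (6 + r.val)) * 1 = K2 r := by
  decide +kernel

theorem ht1 : ∀ r, t1 * x r * t1⁻¹ = x r ^ (K1 r).val := by
  intro r
  apply Subtype.ext
  rw [coe_x]
  show hg chevG2 K 7 2 * xg chevG2 K (6 + r.val) 1 * (hg chevG2 K 7 2)⁻¹ = _
  rw [hg_conj GD (show 7 < chevG2.nroots by decide) (show 6 + r.val < chevG2.nroots by show 6 + r.val < 12; omega) 2 (by decide) 1, ex1]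

theorem ht2 : ∀ r, t2 * x r * t2⁻¹ = x r ^ (K2 r).val := by
  intro r
  apply Subtype.ext
  rw [coe_x]
  show hg chevG2 K 6 2 * xg chevG2 K (6 + r.val) 1 * (hg chevG2 K 6 2)⁻¹ = _
  rw [hg_conj GD (show 6 < chevG2.nroots by decide) (show 6 + r.val < chevG2.nroots by show 6 + r.val < 12; omega) 2 (by decide) 1, ex2]

/-! ### the radicals -/

theorem U_norm {i : ℕ} (hi : i < 2) : chevG2.posUnipotent K ≤ Subgroup.normalizer (ChevU.XS chevG2 K (ChevBN.posBut chevG2 i) : Set (GL Ix K)) := by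
  rw [← ChevBN.posBut_sup GD (i := i) hi, ChevU.rootSubgroup_eq GD]
  exact sup_le Subgroup.le_normalizer (ChevBN.X_le_normalizer_posBut GD hi)

theorem SQ1 : ∀ s ∈ S0, ∀ q ∈ Q1, s * q * s⁻¹ ∈ Q1 := fun s hs q hq =>
  (Subgroup.mem_normalizer_iff.mp (U_norm (i := 0) (by norm_num) hs) _).mp hq

theorem SQ2 : ∀ s ∈ S0, ∀ q ∈ Q2, s * q * s⁻¹ ∈ Q2 := fun s hs q hq =>
  (Subgroup.mem_normalizer_iff.mp (U_norm (i := 1) (by norm_num) hs) _).mp hq

/-- the reflections -/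
theorem ng_mem' {r : ℕ} (hr : r < 12) : ng chevG2 K r 1 ∈ chevG2.group K := ChevBN.ng_mem_group GD hr 1
noncomputable def n1 : G0 := ⟨ng chevG2 K 7 1, ng_mem' (by norm_num)⟩
noncomputable def n2 : G0 := ⟨ng chevG2 K 6 1, ng_mem' (by norm_num)⟩

theorem n1T : ∀ t ∈ T0, n1 * t * n1⁻¹ ∈ T0 := fun t ht =>
  (Subgroup.mem_normalizer_iff.mp (ChevN.ng_simple_mem_normalizer GD (F := K) (i := 0) (by decide)) _).mp ht

theorem n2T : ∀ t ∈ T0, n2 * t * n2⁻¹ ∈ T0 := fun t ht =>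
  (Subgroup.mem_normalizer_iff.mp (ChevN.ng_simple_mem_normalizer GD (F := K) (i := 1) (by decide)) _).mp ht

theorem n1Q : ∀ q ∈ Q1, n1 * q * n1⁻¹ ∈ Q1 := fun t ht =>
  (Subgroup.mem_normalizer_iff.mp (ChevBN.ng_mem_normalizer_posBut GD (F := K) (i := 0) (by decide)) _).mp ht

theorem n2Q : ∀ q ∈ Q2, n2 * q * n2⁻¹ ∈ Q2 := fun t ht =>
  (Subgroup.mem_normalizer_iff.mp (ChevBN.ng_mem_normalizer_posBut GD (F := K) (i := 1) (by decide)) _).mp ht

theorem refl10 : chevG2.reflectRoot 0 10 = 6 := by decide +kernel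
theorem refl8 : chevG2.reflectRoot 1 8 = 7 := by decide +kernel

theorem eta_ne {i s : ℕ} (hi : i < 2) (hs : s < 12) : ((GD.η i s : ℤ) : K) * 1 ≠ 0 := by
  rcases GD.η_sq i hi s hs with h | h <;> rw [h] <;> decide

theorem w1 : ∃ k : ZMod 5, k ≠ 0 ∧ n1 * x 4 * n1⁻¹ = x 0 ^ k.val := by
  refine ⟨_, eta_ne (i := 0) (s := 10) (by norm_num) (by norm_num), ?_⟩
  apply Subtype.ext
  rw [coe_x]
  have h := ng_simple_one_conj GD (F := K) (i := 0) (s := 10) (by decide) (by decide) 1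
  rw [refl10] at h
  exact h

theorem w2 : ∃ k : ZMod 5, k ≠ 0 ∧ n2 * x 2 * n2⁻¹ = x 1 ^ k.val := by
  refine ⟨_, eta_ne (i := 1) (s := 8) (by norm_num) (by norm_num), ?_⟩
  apply Subtype.ext
  rw [coe_x]
  have h := ng_simple_one_conj GD (F := K) (i := 1) (s := 8) (by decide) (by decide) 1
  rw [refl8] at h
  exact h

theorem genH : ∀ R : Subgroup G0, S0 ≤ R → T0 ≤ R → n1 ∈ R → n2 ∈ R → R = ⊤ := by
  intro R hS hT h1 h2
  have hU : chevG2.posUnipotent K ≤ R.map (chevG2.group K).subtype := by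
    intro g hg
    exact ⟨⟨g, ChevBN.U_le_group GD hg⟩, hS hg, rfl⟩
  have hD : chevG2.diagonalSubgroup K ≤ R.map (chevG2.group K).subtype := by
    intro g hg
    exact ⟨⟨g, ChevBN.H_le_group GD hg⟩, hT hg, rfl⟩
  have hB : chevG2.borelSubgroup K ≤ R.map (chevG2.group K).subtype := sup_le hU hD
  have hN : chevG2.monomialSubgroup K ≤ R.map (chevG2.group K).subtype := by
    apply ChevN.monomialSubgroup_le GD hD
    intro i hi
    have hi2 : i < 2 := hi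
    interval_cases i
    · exact ⟨n1, h1, rfl⟩
    · exact ⟨n2, h2, rfl⟩
  have hG : chevG2.group K ≤ R.map (chevG2.group K).subtype :=
    (le_of_eq (ChevBN.B_sup_N GD (F := K)).symm).trans (sup_le hB hN)
  rw [eq_top_iff]
  intro g _
  obtain ⟨r, hr, e⟩ := hG g.2
  have : r = g := Subtype.ext e
  rw [← this]; exact hr


/-! ### normalizers -/

theorem norm_of {A : Subgroup (GL Ix K)} (hA : A ≤ chevG2.group K) {h : G0}
    (hh : ∀ q ∈ A.subgroupOf (chevG2.group K), h * q * h⁻¹ ∈ A.subgroupOf (chevG2.group K)) :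
    (h : GL Ix K) ∈ Subgroup.normalizer (A : Set (GL Ix K)) := by
  rw [mem_norm]
  intro a ha
  exact hh ⟨a, hA ha⟩ ha

theorem XS_le_group (i : ℕ) : ChevU.XS chevG2 K (ChevBN.posBut chevG2 i) ≤ chevG2.group K :=
  (ChevBN.posBut_le_B GD).trans (ChevBN.B_le_group GD)

theorem psi0 : ChevPar.Psi chevG2 {0} = ChevBN.posBut chevG2 0 := by
  ext r
  rw [mem_posBut]
  unfold ChevPar.Psi
  rw [Set.mem_setOf_eq, pos_iff]
  constructor
  · rintro ⟨h1, h2⟩
    refine ⟨h1, ?_⟩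
    rintro rfl
    exact h2 (ChevPar.simple_inRootSub GD (i := 0) (by decide) rfl)
  · rintro ⟨h1, h2⟩
    refine ⟨h1, ?_⟩
    rintro ⟨_, h3⟩
    have h4 := h3 1 (by decide) (by simp)
    obtain ⟨h5, h6⟩ := h1
    interval_cases r
    · revert h4; decide +kernel
    · exact h2 rfl
    · revert h4; decide +kernel
    · revert h4; decide +kernel
    · revert h4; decide +kernel
    · revert h4; decide +kernel

theorem psi1 : ChevPar.Psi chevG2 {1} = ChevBN.posBut chevG2 1 := by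
  ext r
  rw [mem_posBut]
  unfold ChevPar.Psi
  rw [Set.mem_setOf_eq, pos_iff]
  constructor
  · rintro ⟨h1, h2⟩
    refine ⟨h1, ?_⟩
    rintro rfl
    exact h2 (ChevPar.simple_inRootSub GD (i := 1) (by decide) rfl)
  · rintro ⟨h1, h2⟩
    refine ⟨h1, ?_⟩
    rintro ⟨_, h3⟩
    have h4 := h3 0 (by decide) (by simp)
    obtain ⟨h5, h6⟩ := h1
    interval_cases r
    · exact h2 rfl
    · revert h4; decide +kernel
    · revert h4; decide +kernel
    · revert h4; decide +kernel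
    · revert h4; decide +kernel
    · revert h4; decide +kernel

theorem psiE : ChevPar.Psi chevG2 ∅ = {r | chevG2.IsPosRoot r} := by
  ext r
  unfold ChevPar.Psi
  rw [Set.mem_setOf_eq, Set.mem_setOf_eq]
  constructor
  · rintro ⟨h1, h2⟩; exact h1
  · intro h1
    refine ⟨h1, ?_⟩
    rintro ⟨_, h3⟩
    have h4 := h3 0 (by decide) (by simp)
    have h4' := h3 1 (by decide) (by simp)
    obtain ⟨h5, h6⟩ := pos_iff.mp h1
    interval_cases r
    · revert h4'; decide +kernel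
    · revert h4; decide +kernel
    · revert h4; decide +kernel
    · revert h4; decide +kernel
    · revert h4; decide +kernel
    · revert h4; decide +kernel

theorem of_borel {h : G0} (hb : (h : GL Ix K) ∈ chevG2.borelSubgroup K) : ∃ s ∈ S0, ∃ t ∈ T0, h = s * t := by
  obtain ⟨u, hu, d, hd, e⟩ := (ChevH.mem_borel_iff GD).mp hb
  exact ⟨⟨u, ChevBN.U_le_group GD hu⟩, hu, ⟨d, ChevBN.H_le_group GD hd⟩, hd, Subtype.ext e⟩

theorem nS : ∀ h, (∀ s ∈ S0, h * s * h⁻¹ ∈ S0) → ∃ s ∈ S0, ∃ t ∈ T0, h = s * t := by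
  intro h hh
  apply of_borel
  have h1 := norm_of (ChevBN.U_le_group GD) hh
  have h2 := ChevPar.normalizer_eq GD (F := K) ∅
  rw [ChevPar.unipotentRadical_eq GD, psiE, ← ChevU.posUnipotent_eq GD] at h2
  have h3 : (h : GL Ix K) ∈ chevG2.parabolicSubgroup K ∅ := by rw [← h2]; exact ⟨h1, h.2⟩
  rw [ChevPar.parabolicSubgroup_eq GD] at h3
  have h4 : Subgroup.closure {g : GL Ix K | ∃ j ∈ (∅ : Set ℕ), j < chevG2.rank ∧ g = ng chevG2 K (chevG2.simple j) 1} ≤ chevG2.borelSubgroup K := by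
    rw [Subgroup.closure_le]
    rintro g ⟨j, hj, _⟩
    exact absurd hj (Set.notMem_empty _)
  exact (sup_le le_rfl h4) h3

theorem par_le {i : ℕ} (hi : i < 2) {h : GL Ix K} (hh : h ∈ chevG2.parabolicSubgroup K {i}) :
    h ∈ (chevG2.borelSubgroup K : Set (GL Ix K)) ∪ ChevBN.BaB chevG2 K (ng chevG2 K (chevG2.simple i) 1) := by
  obtain ⟨P, hP⟩ := ChevBN.exists_minimal_parabolic GD (F := K) (i := i) hi
  rw [← hP]
  rw [ChevPar.parabolicSubgroup_eq GD] at hh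
  have h1 : chevG2.borelSubgroup K ≤ P := by
    intro b hb
    have : b ∈ (P : Set (GL Ix K)) := by rw [hP]; exact Or.inl hb
    exact this
  have h2 : Subgroup.closure {g : GL Ix K | ∃ j ∈ ({i} : Set ℕ), j < chevG2.rank ∧ g = ng chevG2 K (chevG2.simple j) 1} ≤ P := by
    rw [Subgroup.closure_le]
    rintro g ⟨j, hj, _, rfl⟩
    rw [Set.mem_singleton_iff] at hj
    subst hj
    rw [hP]
    exact Or.inr (ChevBN.self_mem_BaB _)
  exact (sup_le h1 h2) hh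

theorem N1 : ∀ h, (∀ q ∈ Q1, h * q * h⁻¹ ∈ Q1) → (∃ s ∈ S0, ∃ t ∈ T0, h = s * t) ∨
    (∃ s ∈ S0, ∃ t ∈ T0, ∃ s' ∈ S0, ∃ t' ∈ T0, h = (s * t) * n1 * (s' * t')) := by
  intro h hh
  have h1 := norm_of (XS_le_group 0) hh
  have h2 := ChevPar.normalizer_eq GD (F := K) {0}
  rw [ChevPar.unipotentRadical_eq GD, psi0] at h2
  have h3 : (h : GL Ix K) ∈ chevG2.parabolicSubgroup K {0} := by rw [← h2]; exact ⟨h1, h.2⟩
  rcases par_le (by norm_num) h3 with h4 | h4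
  · exact Or.inl (of_borel h4)
  · right
    obtain ⟨b, hb, b', hb', e⟩ := ChevBN.mem_BaB.mp h4
    obtain ⟨s, hs, t, ht, e1⟩ := of_borel (h := ⟨b, ChevBN.B_le_group GD hb⟩) hb
    obtain ⟨s', hs', t', ht', e2⟩ := of_borel (h := ⟨b', ChevBN.B_le_group GD hb'⟩) hb'
    refine ⟨s, hs, t, ht, s', hs', t', ht', ?_⟩
    rw [← e1, ← e2]
    exact Subtype.ext e

theorem N2 : ∀ h, (∀ q ∈ Q2, h * q * h⁻¹ ∈ Q2) → (∃ s ∈ S0, ∃ t ∈ T0, h = s * t) ∨
    (∃ s ∈ S0, ∃ t ∈ T0, ∃ s' ∈ S0, ∃ t' ∈ T0, h = (s * t) * n2 * (s' * t')) := by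
  intro h hh
  have h1 := norm_of (XS_le_group 1) hh
  have h2 := ChevPar.normalizer_eq GD (F := K) {1}
  rw [ChevPar.unipotentRadical_eq GD, psi1] at h2
  have h3 : (h : GL Ix K) ∈ chevG2.parabolicSubgroup K {1} := by rw [← h2]; exact ⟨h1, h.2⟩
  rcases par_le (by norm_num) h3 with h4 | h4
  · exact Or.inl (of_borel h4)
  · right
    obtain ⟨b, hb, b', hb', e⟩ := ChevBN.mem_BaB.mp h4
    obtain ⟨s, hs, t, ht, e1⟩ := of_borel (h := ⟨b, ChevBN.B_le_group GD hb⟩) hb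
    obtain ⟨s', hs', t', ht', e2⟩ := of_borel (h := ⟨b', ChevBN.B_le_group GD hb'⟩) hb'
    refine ⟨s, hs, t, ht, s', hs', t', ht', ?_⟩
    rw [← e1, ← e2]
    exact Subtype.ext e

/-- all basic facts -/
theorem bas : Bas n1 n2 x t1 t2 S0 T0 Q1 Q2 where
  h5 := h5
  ht1 := ht1
  ht2 := ht2
  comm := comm
  inj := inj
  hS := hS
  hT := hT
  hQ1 := hQ1
  hQ2 := hQ2
  gen := gen
  r04 := r04
  r12 := r12
  r13 := r13
  r23 := r23
  c02 := c02
  c03 := c03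
  c05 := c05
  c14 := c14
  c15 := c15
  c24 := c24
  c25 := c25
  c34 := c34
  c35 := c35
  c45 := c45
  tab := tab
  cls2 := cls2
  SQ1 := SQ1
  SQ2 := SQ2
  nS := nS
  N1 := N1
  N2 := N2
  w1 := w1
  w2 := w2
  n1T := n1T
  n2T := n2T
  n1Q := n1Q
  n2Q := n2Q
  genH := genH

theorem int : Int n1 n2 x t1 t2 S0 T0 Q1 Q2 := bas.toInt

end Cfsg.Agent.Lib.LyOutD
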