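import Cfsg.Agent.Lib.LyOutC

/-!
Transfer of the internal facts along an injective homomorphism (helper35).
-/

set_option autoImplicit false
set_option linter.all false
set_option maxRecDepth 100000

namespace Cfsg.Agent.Lib.LyOutE

open Cfsg.Agent.Lib.LyOutA Cfsg.Agent.Lib.LyOutB Cfsg.Agent.Lib.LyOutC

section
variable {M G : Type*} [Group M] [Group G]
variable {n1 n2 : M} {x : Fin 6 → M} {t1 t2 : M} {S T Q1 Q2 : Subgroup M} (f : M →* G) (hf : Function.Injective f)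

theorem NF_map (x : Fin 6 → M) (e : Fin 6 → ZMod 5) : NF (fun r => f (x r)) e = f (NF x e) := by
  unfold NF
  simp only [map_mul, map_pow]

include hf in
theorem dat (D : Dat x t1 t2 S T) : Dat (fun r => f (x r)) (f t1) (f t2) (S.map f) (T.map f) where
  h5 r := by rw [← map_pow, D.h5, map_one]
  ht1 r := by rw [← map_inv, ← map_mul, ← map_mul, D.ht1, map_pow]
  ht2 r := by rw [← map_inv, ← map_mul, ← map_mul, D.ht2, map_pow]
  comm := by rw [← map_mul, D.comm, map_mul]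
  inj := by
    intro e e' h
    rw [NF_map, NF_map] at h
    exact D.inj (hf h)
  hS g := by
    rw [Subgroup.mem_map]
    constructor
    · rintro ⟨s, hs, rfl⟩
      obtain ⟨e, rfl⟩ := (D.hS s).mp hs
      exact ⟨e, NF_map f x e⟩
    · rintro ⟨e, rfl⟩
      exact ⟨NF x e, (D.hS _).mpr ⟨e, rfl⟩, (NF_map f x e).symm⟩
  hT g := by
    rw [Subgroup.mem_map]
    constructor
    · rintro ⟨s, hs, rfl⟩
      obtain ⟨i, j, rfl⟩ := (D.hT s).mp hs
      exact ⟨i, j, by rw [map_mul, map_pow, map_pow]⟩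
    · rintro ⟨i, j, rfl⟩
      exact ⟨t1 ^ (i : ℕ) * t2 ^ (j : ℕ), (D.hT _).mpr ⟨i, j, rfl⟩, by rw [map_mul, map_pow, map_pow]⟩
  gen := by
    rw [← D.gen, MonoidHom.map_closure, Set.image_pair]
  p1 := by
    obtain ⟨Q, h1, h2⟩ := D.p1
    exact ⟨Q.map f, fun r hr => ⟨x r, h1 r hr, rfl⟩, fun h => h2 ((Subgroup.mem_map_iff_mem hf).mp h)⟩
  p0 := by
    obtain ⟨Q, h1, h2⟩ := D.p0
    exact ⟨Q.map f, fun r hr => ⟨x r, h1 r hr, rfl⟩, fun h => h2 ((Subgroup.mem_map_iff_mem hf).mp h)⟩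

include hf in
theorem card_m (A : Subgroup M) : Nat.card (A.map f) = Nat.card A :=
  (Nat.card_congr (A.equivMapOfInjective f hf).toEquiv).symm

theorem conj_m {A : Subgroup M} {h : M} (hh : ∀ q ∈ A, h * q * h⁻¹ ∈ A) : ∀ q ∈ A.map f, f h * q * (f h)⁻¹ ∈ A.map f := by
  rintro _ ⟨q, hq, rfl⟩
  exact ⟨_, hh q hq, by rw [map_mul, map_mul, map_inv]⟩

include hf in
theorem conj_m' {A : Subgroup M} {h : M} (hh : ∀ q ∈ A.map f, f h * q * (f h)⁻¹ ∈ A.map f) : ∀ q ∈ A, h * q * h⁻¹ ∈ A := by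
  intro q hq
  have := hh (f q) ⟨q, hq, rfl⟩
  rw [← map_inv, ← map_mul, ← map_mul, Subgroup.mem_map_iff_mem hf] at this
  exact this

theorem cm_m (a b : M) : cm (f a) (f b) = f (cm a b) := by
  unfold cm; simp only [map_mul, map_inv]

variable [Finite G]

include hf in
/-- the local data from internal and external facts -/
theorem loc (I : Int n1 n2 x t1 t2 S T Q1 Q2) (z : G)
    (idx : ¬ 5 ∣ (S.map f).index)
    (U1 : ∀ g, g ∉ f.range → ¬ 15625 ∣ Nat.card (f.range ⊓ cj g f.range : Subgroup G))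
    (U2 : ∀ g, g ∉ f.range → 3125 ∣ Nat.card (f.range ⊓ cj g f.range : Subgroup G) → ∃ h ∈ f.range, ∃ k ∈ f.range, g = h * z * k)
    (cK : Nat.card (f.range ⊓ cj z f.range : Subgroup G) = 300000)
    (Q1K : Q1.map f ≤ f.range ⊓ cj z f.range)
    (KQ1 : ∀ k ∈ f.range ⊓ cj z f.range, ∀ q ∈ Q1.map f, k * q * k⁻¹ ∈ Q1.map f)
    (genG : ∀ R : Subgroup G, f.range ≤ R → z ∈ R → R = ⊤)
    (w : ∃ w ∈ f.range ⊓ cj z f.range, w * f (x 5) ≠ f (x 5) * w) :
    Loc f.range z (f n1) (f n2) (fun r => f (x r)) (f t1) (f t2) (S.map f) (T.map f) (Q1.map f) (Q2.map f) where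
  D := dat f hf I.D
  SH := Subgroup.map_le_range f S
  TH := Subgroup.map_le_range f T
  cS := by rw [card_m f hf, I.cS]
  cT := by rw [card_m f hf, I.cT]
  idx := idx
  nS := by
    rintro _ ⟨h, rfl⟩ hh
    obtain ⟨s, hs, t, ht, e⟩ := I.nS h (conj_m' f hf hh)
    exact ⟨f s, ⟨s, hs, rfl⟩, f t, ⟨t, ht, rfl⟩, by rw [e, map_mul]⟩
  Q1S := Subgroup.map_mono I.Q1S
  Q2S := Subgroup.map_mono I.Q2S
  c1 := by rw [card_m f hf, I.c1]
  c2 := by rw [card_m f hf, I.c2]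
  SQ1 := by
    rintro _ ⟨s, hs, rfl⟩
    exact conj_m f (I.SQ1 s hs)
  cent1 := by
    rintro _ ⟨h, rfl⟩ hh
    have h1 := I.cent1 h (fun q hq => by
      apply hf
      rw [map_mul, map_mul]
      exact hh (f q) ⟨q, hq, rfl⟩)
    have h2 : f h ∈ (Subgroup.closure {x 5}).map f := ⟨h, h1, rfl⟩
    rw [MonoidHom.map_closure, Set.image_singleton] at h2
    exact h2
  cent1' := by
    rintro _ ⟨q, hq, rfl⟩
    rw [← map_mul, I.cent1' q hq, map_mul]
  x5Q := ⟨x 5, I.x5Q, rfl⟩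
  cent2 := by
    rintro _ ⟨h, rfl⟩ hh hh'
    rw [I.cent2 h (fun q hq => by
      apply hf
      rw [map_mul, map_mul]
      exact hh (f q) ⟨q, hq, rfl⟩) (fun q hq => by
      apply hf
      rw [map_mul, map_mul]
      exact hh' (f q) ⟨q, hq, rfl⟩), map_one]
  cls1 := by
    rintro _ ⟨a, ha, rfl⟩ _ ⟨b, hb, rfl⟩ _ ⟨c, hc, rfl⟩
    rw [cm_m, cm_m, I.cls1 a ha b hb c hc, map_one]
  cls2 := by
    obtain ⟨a, ha, b, hb, c, hc, h⟩ := I.cls2
    refine ⟨f a, ⟨a, ha, rfl⟩, f b, ⟨b, hb, rfl⟩, f c, ⟨c, hc, rfl⟩, ?_⟩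
    rw [cm_m, cm_m]
    intro h1
    exact h (hf (by rw [h1, map_one]))
  cN := by
    have : Finite M := Finite.of_injective f hf
    have h1 : (f.range ⊓ Subgroup.normalizer ((Q1.map f : Subgroup G) : Set G) : Subgroup G) ≤ (Subgroup.normalizer (Q1 : Set M)).map f := by
      rintro _ ⟨⟨h, rfl⟩, h2⟩
      refine ⟨h, ?_, rfl⟩
      have h3 : f h ∈ Subgroup.normalizer ((Q1.map f : Subgroup G) : Set G) := h2
      have h4 : h ∈ Subgroup.normalizer (Q1 : Set M) := mem_norm.mpr (conj_m' f hf (mem_norm.mp h3))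
      exact h4
    have h2 := Nat.card_mono (Set.toFinite _) (show ((f.range ⊓ Subgroup.normalizer ((Q1.map f : Subgroup G) : Set G) : Subgroup G) : Set G) ⊆ _ from h1)
    have h3 : Nat.card ((Subgroup.normalizer (Q1 : Set M)).map f) = Nat.card (Subgroup.normalizer (Q1 : Set M)) := card_m f hf _
    exact (h2.trans (le_of_eq h3)).trans I.cN
  U1 := U1
  U2 := U2
  cK := cK
  Q1K := Q1K
  KQ1 := KQ1
  n1H := ⟨n1, rfl⟩
  n2H := ⟨n2, rfl⟩
  n1T := conj_m f I.n1T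
  n2T := conj_m f I.n2T
  n1Q := conj_m f I.n1Q
  n2Q := conj_m f I.n2Q
  genH := by
    intro R hS hT h1 h2
    have h3 := I.genH (R.comap f) (Subgroup.map_le_iff_le_comap.mp hS) (Subgroup.map_le_iff_le_comap.mp hT) h1 h2
    rintro _ ⟨h, rfl⟩
    have : h ∈ R.comap f := by rw [h3]; trivial
    exact this
  genG := genG
  w := w

end

end Cfsg.Agent.Lib.LyOutE
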