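import Cfsg.Agent.Lib.LyOutD
import Cfsg.Agent.Lib.LyOutE

/-!
Concrete facts on the Lyons group for the outer automorphism group (helper35).
-/

set_option autoImplicit false
set_option linter.all false
set_option maxRecDepth 100000

namespace Cfsg.Agent.Lib.LyOutF

open Cfsg.Spor Cfsg.Agent.Lib.BenesWord Cfsg.Agent.Lib.LyG14 Cfsg.Agent.Lib.LyPres
open Cfsg.Agent.Lib.LyG14P Cfsg.Agent.Lib.LyP2
open Cfsg.Agent.Lib.LyH (Y θ θ_of θ_inj range_θ HH relY)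
open Cfsg.Agent.Lib.LyOutA Cfsg.Agent.Lib.LyOutB Cfsg.Agent.Lib.LyOutC
open Cfsg.Agent.Lib.LyOutD

/-- the embedding -/
noncomputable def f : G0 →* Ly := θ.comp (φ.symm : G0 ≃* P44).toMonoidHom

theorem f_inj : Function.Injective f := θ_inj.comp φ.symm.injective

theorem f_range : f.range = HH := by
  rw [← range_θ]
  unfold f
  rw [MonoidHom.range_comp, MonoidHom.range_eq_map θ]
  congr 1
  rw [MonoidHom.range_eq_top]
  exact φ.symm.surjective

theorem f_yy {c : ℕ} (hc : c = 0 ∨ c = 1 ∨ c = 2 ∨ c = 3 ∨ c = 5 ∨ c = 10 ∨ c = 11 ∨ c = 12 ∨ c = 13 ∨ c = 14) : f (yy c) = Y c := by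
  have h1 : yy c = φ (wx 15 relP c) := if_pos (by omega)
  rw [h1]
  show θ (φ.symm (φ (wx 15 relP c))) = Y c
  rw [φ.symm_apply_apply]
  exact θ_of hc

theorem Y_HH {c : ℕ} (hc : c = 0 ∨ c = 1 ∨ c = 2 ∨ c = 3 ∨ c = 5 ∨ c = 10 ∨ c = 11 ∨ c = 12 ∨ c = 13 ∨ c = 14) : Y c ∈ HH := by
  rw [← f_range, ← f_yy hc]
  exact ⟨_, rfl⟩

/-- the letters defined by words -/
noncomputable def dch : Bool := (List.range 39).all fun c =>
  decide (c < 6) || (decide (10 ≤ c) && decide (c ≤ 14)) || LyRel.relW2.any fun W => match W with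
    | .mul (.g c') (.inv V) => decide (c' = c) && lge 0 4 V
    | _ => false

theorem dch_true : dch = true := by decide +kernel

theorem Y_words {c : ℕ} (hc : c < 39) (h4 : c ≠ 4) : Y c ∈ HH := by
  have h := dch_true
  unfold dch at h
  rw [List.all_eq_true] at h
  have h1 := h c (List.mem_range.mpr hc)
  rw [Bool.or_eq_true, Bool.or_eq_true, decide_eq_true_eq, Bool.and_eq_true, decide_eq_true_eq, decide_eq_true_eq, List.any_eq_true] at h1
  rcases h1 with (h1 | h1) | ⟨W, hW, h1⟩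
  · exact Y_HH (by omega)
  · exact Y_HH (by omega)
  · have h2 := relY W (List.mem_append_right _ hW)
    split at h1
    · rename_i c' V
      rw [Bool.and_eq_true, decide_eq_true_eq] at h1
      obtain ⟨rfl, h3⟩ := h1
      simp only [Wd.eval] at h2
      rw [mul_inv_eq_one.mp h2]
      apply eval_mem (a := 0) (b := 4) _ V h3
      intro d _ hd
      exact Y_HH (by omega)
    · exact absurd h1 (by simp)

/-- generation -/
theorem genG (R : Subgroup Ly) (hR : HH ≤ R) (hz : (Y 4)⁻¹ ∈ R) : R = ⊤ := by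
  rw [eq_top_iff]
  have h1 : Subgroup.closure (Set.range (PresentedGroup.of (rels := coxRelators Ly.edges ∪ {r | r ∈ Ly.extra}))) ≤ R := by
    rw [Subgroup.closure_le]
    rintro _ ⟨a, rfl⟩
    have h2 : LyRel.gen (LyRel.idx a) = a := LyRel.C.hgi a
    have h3 : LyRel.idx a < 39 := LyRel.C.hlt a
    have h4 : PresentedGroup.of a = Y (LyRel.idx a) := by
      show _ = PresentedGroup.of (LyRel.gen (LyRel.idx a))
      rw [h2]
    show PresentedGroup.of a ∈ R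
    rw [h4]
    by_cases h5 : LyRel.idx a = 4
    · rw [h5]
      exact (R.inv_mem_iff).mp hz
    · exact hR (Y_words h3 h5)
  rw [PresentedGroup.closure_range_of] at h1
  exact h1

theorem nth {W : Wd} (i : ℕ) (h : LyRel.relW2[i]? = some W) : W ∈ LyRel.relW2 := List.mem_of_getElem? h

/-- the element `z` -/
theorem z2 : Y 4 ^ 2 = Y 15 := by
  have h := relY (.mul (.pow (.g 4) 2) (.inv (.g 15))) (List.mem_append_right _ (nth 36 rfl))
  simp only [Wd.eval] at h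
  exact mul_inv_eq_one.mp h

theorem zc {c d : ℕ} (h : (.mul (.mul (.mul (.inv (.g 4)) (.g c)) (.g 4)) (.inv (.g d))) ∈ LyRel.relW2) (hd : d < 39) (hd4 : d ≠ 4) :
    (Y 4)⁻¹⁻¹ * Y c * (Y 4)⁻¹ ∈ HH := by
  have h1 := relY _ (List.mem_append_right _ h)
  simp only [Wd.eval] at h1
  have h2 := mul_inv_eq_one.mp h1
  have h3 : (Y 4)⁻¹⁻¹ * Y c * (Y 4)⁻¹ = Y 15 * Y d * (Y 15)⁻¹ := by
    rw [← h2, ← z2, pow_two]; group
  rw [h3]
  have m : Y 15 ∈ HH := Y_words (by norm_num) (by norm_num)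
  exact mul_mem (mul_mem m (Y_words hd hd4)) (inv_mem m)

theorem zc10 : (Y 4)⁻¹⁻¹ * Y 10 * (Y 4)⁻¹ ∈ HH := zc (d := 23) (nth 28 rfl) (by norm_num) (by norm_num)
theorem zc11 : (Y 4)⁻¹⁻¹ * Y 11 * (Y 4)⁻¹ ∈ HH := zc (d := 24) (nth 29 rfl) (by norm_num) (by norm_num)
theorem zc12 : (Y 4)⁻¹⁻¹ * Y 12 * (Y 4)⁻¹ ∈ HH := zc (d := 25) (nth 30 rfl) (by norm_num) (by norm_num)
theorem zc13 : (Y 4)⁻¹⁻¹ * Y 13 * (Y 4)⁻¹ ∈ HH := zc (d := 26) (nth 31 rfl) (by norm_num) (by norm_num)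
theorem zc14 : (Y 4)⁻¹⁻¹ * Y 14 * (Y 4)⁻¹ ∈ HH := zc (d := 27) (nth 32 rfl) (by norm_num) (by norm_num)
theorem zc6 : (Y 4)⁻¹⁻¹ * Y 6 * (Y 4)⁻¹ ∈ HH := zc (d := 28) (nth 33 rfl) (by norm_num) (by norm_num)

theorem Y6 : Y 6 = Y 0 := by
  have h := relY (.mul (.g 6) (.inv (.g 0))) (List.mem_append_right _ (nth 0 rfl))
  simp only [Wd.eval] at h
  exact mul_inv_eq_one.mp h

/-- `Q1` is generated by the `c_i` -/
theorem Q1_eq : LyOutD.Q1.map f = Subgroup.closure {Y 10, Y 11, Y 12, Y 13, Y 14} := by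
  apply le_antisymm
  · rintro _ ⟨q, hq, rfl⟩
    obtain ⟨e, he, rfl⟩ := (LyOutD.hQ1 q).mp hq
    rw [← LyOutE.NF_map f x e]
    have hm : ∀ W : Wd, lge 10 15 W = true → f (W.eval yy) ∈ Subgroup.closure {Y 10, Y 11, Y 12, Y 13, Y 14} := by
      intro W hW
      rw [Wd.map_eval]
      apply eval_mem (a := 10) (b := 15) _ W hW
      intro c hc hc'
      have h1 : c = 10 ∨ c = 11 ∨ c = 12 ∨ c = 13 ∨ c = 14 := by omega
      rw [f_yy (by omega)]
      apply Subgroup.subset_closure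
      rcases h1 with rfl | rfl | rfl | rfl | rfl <;> simp
    have m0 : f (x 0) ∈ Subgroup.closure {Y 10, Y 11, Y 12, Y 13, Y 14} := by
      have h : x 0 = (rels.getD 33 (.one, .one)).2.eval yy := rel 33 (by norm_num)
      rw [h]; exact hm _ (by decide +kernel)
    have m2 : f (x 2) ∈ Subgroup.closure {Y 10, Y 11, Y 12, Y 13, Y 14} := by
      have h : x 2 = (rels.getD 34 (.one, .one)).2.eval yy := rel 34 (by norm_num)
      rw [h]; exact hm _ (by decide +kernel)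
    have m3 : f (x 3) ∈ Subgroup.closure {Y 10, Y 11, Y 12, Y 13, Y 14} := by
      have h : x 3 = (rels.getD 35 (.one, .one)).2.eval yy := rel 35 (by norm_num)
      rw [h]; exact hm _ (by decide +kernel)
    have m4 : f (x 4) ∈ Subgroup.closure {Y 10, Y 11, Y 12, Y 13, Y 14} := by
      have h : x 4 = (rels.getD 36 (.one, .one)).2.eval yy := rel 36 (by norm_num)
      rw [h]; exact hm _ (by decide +kernel)
    have m5 : f (x 5) ∈ Subgroup.closure {Y 10, Y 11, Y 12, Y 13, Y 14} := by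
      have h : x 5 = (rels.getD 37 (.one, .one)).2.eval yy := rel 37 (by norm_num)
      rw [h]; exact hm _ (by decide +kernel)
    unfold NF
    rw [he]
    simp only [ZMod.val_zero, pow_zero, mul_one]
    exact mul_mem (mul_mem (mul_mem (mul_mem (pow_mem m0 _) (pow_mem m2 _)) (pow_mem m3 _)) (pow_mem m4 _)) (pow_mem m5 _)
  · rw [Subgroup.closure_le]
    have key : ∀ c, (c = 10 ∨ c = 11 ∨ c = 12 ∨ c = 13 ∨ c = 14) → yy c ∈ LyOutD.Q1 → Y c ∈ LyOutD.Q1.map f := by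
      intro c hc h
      rw [← f_yy (by omega)]
      exact ⟨_, h, rfl⟩
    have hN : ∀ a b c d e : ℕ, x 0 ^ a * x 1 ^ 0 * x 2 ^ b * x 3 ^ c * x 4 ^ d * x 5 ^ e ∈ LyOutD.Q1 := by
      intro a b c d e
      rw [pow_zero, mul_one]
      exact mul_mem (mul_mem (mul_mem (mul_mem (pow_mem (bas.mQ1 0 (by decide)) _) (pow_mem (bas.mQ1 2 (by decide)) _))
        (pow_mem (bas.mQ1 3 (by decide)) _)) (pow_mem (bas.mQ1 4 (by decide)) _)) (pow_mem (bas.mQ1 5 (by decide)) _)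
    rintro _ (rfl | rfl | rfl | rfl | rfl)
    · apply key 10 (by norm_num)
      have h : yy 10 = (rels.getD 28 (.one, .one)).2.eval yy := rel 28 (by norm_num)
      rw [h]; exact hN 0 2 0 0 0
    · apply key 11 (by norm_num)
      have h : yy 11 = (rels.getD 29 (.one, .one)).2.eval yy := rel 29 (by norm_num)
      rw [h]; exact hN 1 3 3 4 2
    · apply key 12 (by norm_num)
      have h : yy 12 = (rels.getD 30 (.one, .one)).2.eval yy := rel 30 (by norm_num)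
      rw [h]; exact hN 0 2 4 4 3
    · apply key 13 (by norm_num)
      have h : yy 13 = (rels.getD 31 (.one, .one)).2.eval yy := rel 31 (by norm_num)
      rw [h]; exact hN 0 2 1 4 2
    · apply key 14 (by norm_num)
      have h : yy 14 = (rels.getD 32 (.one, .one)).2.eval yy := rel 32 (by norm_num)
      rw [h]; exact hN 0 0 0 0 3

/-- `Q1 ≤ H ∩ H^z` -/
theorem Q1K : LyOutD.Q1.map f ≤ HH ⊓ cj (Y 4)⁻¹ HH := by
  rw [Q1_eq, Subgroup.closure_le]
  rintro _ (rfl | rfl | rfl | rfl | rfl)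
  · exact ⟨Y_HH (by norm_num), mem_cj.mpr zc10⟩
  · exact ⟨Y_HH (by norm_num), mem_cj.mpr zc11⟩
  · exact ⟨Y_HH (by norm_num), mem_cj.mpr zc12⟩
  · exact ⟨Y_HH (by norm_num), mem_cj.mpr zc13⟩
  · exact ⟨Y_HH (by norm_num), mem_cj.mpr zc14⟩

/-- `a` is in the intersection and does not centralize the centre of `Q1` -/
theorem w : ∃ w ∈ HH ⊓ cj (Y 4)⁻¹ HH, w * f (x 5) ≠ f (x 5) * w := by
  refine ⟨Y 0, ⟨Y_HH (by norm_num), mem_cj.mpr (by rw [← Y6]; exact zc6)⟩, ?_⟩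
  intro h
  rw [← f_yy (c := 0) (by norm_num), ← map_mul, ← map_mul] at h
  have h1 := f_inj h
  have h2 : yy 0 * x 5 * (yy 0)⁻¹ = (rels.getD 27 (.one, .one)).2.eval yy := rel 27 (by norm_num)
  rw [h1, mul_inv_cancel_right] at h2
  have h3 : x 5 = x 0 ^ 0 * x 1 ^ 0 * x 2 ^ 0 * x 3 ^ 0 * x 4 ^ 0 * x 5 ^ 3 := h2
  have h4 : x 5 ^ (1 : ZMod 5).val = x 5 ^ (3 : ZMod 5).val := by
    rw [v1, pow_one]
    have : (3 : ZMod 5).val = 3 := rfl
    rw [this]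
    simpa using h3
  exact absurd (bas.D.x_pow_inj 5 h4) (by decide)

/-- `a` and `b` normalize `Q1` -/
theorem nb : Y 1 ∈ Subgroup.normalizer ((LyOutD.Q1.map f : Subgroup Ly) : Set Ly) := by
  have h : yy 1 = x 1 := rel 38 (by norm_num)
  rw [← f_yy (c := 1) (by norm_num), h, Subgroup.mem_normalizer_iff]
  intro q
  constructor
  · rintro ⟨p, hp, rfl⟩
    exact ⟨_, LyOutD.SQ1 _ (LyOutD.x_mem 1) _ hp, by rw [map_mul, map_mul, map_inv]⟩
  · rintro ⟨p, hp, hpq⟩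
    have h1 := LyOutD.SQ1 _ (inv_mem (LyOutD.x_mem 1)) _ hp
    refine ⟨_, h1, ?_⟩
    simp only [map_mul, map_inv]
    rw [hpq]; group

theorem na : Y 0 ∈ Subgroup.normalizer ((LyOutD.Q1.map f : Subgroup Ly) : Set Ly) := by
  have hN : ∀ a b c d e : ℕ, x 0 ^ a * x 1 ^ 0 * x 2 ^ b * x 3 ^ c * x 4 ^ d * x 5 ^ e ∈ LyOutD.Q1 := by
    intro a b c d e
    rw [pow_zero, mul_one]
    exact mul_mem (mul_mem (mul_mem (mul_mem (pow_mem (bas.mQ1 0 (by decide)) _) (pow_mem (bas.mQ1 2 (by decide)) _))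
      (pow_mem (bas.mQ1 3 (by decide)) _)) (pow_mem (bas.mQ1 4 (by decide)) _)) (pow_mem (bas.mQ1 5 (by decide)) _)
  have h0 : yy 0 * x 0 * (yy 0)⁻¹ ∈ LyOutD.Q1 := by
    have h : yy 0 * x 0 * (yy 0)⁻¹ = (rels.getD 23 (.one, .one)).2.eval yy := rel 23 (by norm_num)
    rw [h]; exact hN 3 2 3 3 4
  have h2 : yy 0 * x 2 * (yy 0)⁻¹ ∈ LyOutD.Q1 := by
    have h : yy 0 * x 2 * (yy 0)⁻¹ = (rels.getD 24 (.one, .one)).2.eval yy := rel 24 (by norm_num)
    rw [h]; exact hN 1 3 3 4 2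
  have h3 : yy 0 * x 3 * (yy 0)⁻¹ ∈ LyOutD.Q1 := by
    have h : yy 0 * x 3 * (yy 0)⁻¹ = (rels.getD 25 (.one, .one)).2.eval yy := rel 25 (by norm_num)
    rw [h]; exact hN 4 3 2 4 3
  have h4 : yy 0 * x 4 * (yy 0)⁻¹ ∈ LyOutD.Q1 := by
    have h : yy 0 * x 4 * (yy 0)⁻¹ = (rels.getD 26 (.one, .one)).2.eval yy := rel 26 (by norm_num)
    rw [h]; exact hN 3 3 3 2 1
  have h5 : yy 0 * x 5 * (yy 0)⁻¹ ∈ LyOutD.Q1 := by
    have h : yy 0 * x 5 * (yy 0)⁻¹ = (rels.getD 27 (.one, .one)).2.eval yy := rel 27 (by norm_num)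
    rw [h]; exact hN 0 0 0 0 3
  have key : ∀ q ∈ LyOutD.Q1, yy 0 * q * (yy 0)⁻¹ ∈ LyOutD.Q1 := by
    intro q hq
    obtain ⟨e, he, rfl⟩ := (LyOutD.hQ1 q).mp hq
    unfold NF
    rw [he]
    simp only [ZMod.val_zero, pow_zero, mul_one]
    have e1 : yy 0 * (x 0 ^ (e 0).val * x 2 ^ (e 2).val * x 3 ^ (e 3).val * x 4 ^ (e 4).val * x 5 ^ (e 5).val) * (yy 0)⁻¹ =
      (yy 0 * x 0 ^ (e 0).val * (yy 0)⁻¹) * (yy 0 * x 2 ^ (e 2).val * (yy 0)⁻¹) * (yy 0 * x 3 ^ (e 3).val * (yy 0)⁻¹) *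
        (yy 0 * x 4 ^ (e 4).val * (yy 0)⁻¹) * (yy 0 * x 5 ^ (e 5).val * (yy 0)⁻¹) := by group
    rw [e1]
    simp only [conj_pow']
    exact mul_mem (mul_mem (mul_mem (mul_mem (pow_mem h0 _) (pow_mem h2 _)) (pow_mem h3 _)) (pow_mem h4 _)) (pow_mem h5 _)
  have key' : yy 0 ∈ Subgroup.normalizer (LyOutD.Q1 : Set G0) := mem_norm.mpr key
  rw [← f_yy (c := 0) (by norm_num), Subgroup.mem_normalizer_iff]
  intro q
  constructor
  · rintro ⟨p, hp, rfl⟩
    exact ⟨_, key _ hp, by rw [map_mul, map_mul, map_inv]⟩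
  · rintro ⟨p, hp, hpq⟩
    have h1 := mem_norm.mp (inv_mem key') _ hp
    refine ⟨_, h1, ?_⟩
    simp only [map_mul, map_inv]
    rw [hpq]; group

end Cfsg.Agent.Lib.LyOutF
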