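import Cfsg.Agent.Lib.LyOutF
import Cfsg.Agent.Lib.LyUp4

/-!
Every automorphism of the Lyons group is inner (helper35).
-/

set_option autoImplicit false
set_option linter.all false
set_option maxRecDepth 100000

namespace Cfsg.Agent.Lib.LyOutG

open Cfsg.Spor Cfsg.Agent.Lib.BenesWord
open Cfsg.Agent.Lib.LyG14P Cfsg.Agent.Lib.LyP2
open Cfsg.Agent.Lib.LyH (Y θ θ_of θ_inj range_θ HH relY cardH)
open Cfsg.Agent.Lib.LyOutB Cfsg.Agent.Lib.LyOutF
open Cfsg.Agent.Lib.LyUp (xs KK KK_eq card_KK index_S card_S1 card_S2 card_S3 card_S4 g g_zero g_one cover ge300000 card_eq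
  inter_card wc w30 w31)
open Cfsg.Agent.Lib.Dce (ev Sg)
open Cfsg.Agent.Lib.LyUD (fin)

noncomputable abbrev z : Ly := (Y 4)⁻¹

theorem card_K : Nat.card (HH ⊓ cj z HH : Subgroup Ly) = 300000 := by
  have h := KK_eq (i := 1) (by norm_num)
  rw [g_one] at h
  have h1 : KK 1 = HH ⊓ cj z HH := h
  rw [← h1, card_KK, card_S1]

theorem U1 (x : Ly) (hx : x ∉ HH) : ¬ 15625 ∣ Nat.card (HH ⊓ cj x HH : Subgroup Ly) := by
  have h := inter_card hx
  have e : (HH ⊓ HH.map (MulAut.conj x).toMonoidHom : Subgroup Ly) = HH ⊓ cj x HH := rfl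
  rw [e] at h
  omega

theorem U2 (x : Ly) (hx : x ∉ HH) (h5 : 3125 ∣ Nat.card (HH ⊓ cj x HH : Subgroup Ly)) :
    ∃ h ∈ HH, ∃ k ∈ HH, x = h * z * k := by
  obtain ⟨i, hi, h, hh, k, hk, e⟩ := cover x
  have e1 : Nat.card (HH ⊓ cj x HH : Subgroup Ly) = Nat.card (Sg xs fin.stab i) := by
    rw [e, inf_cj hh hk, card_cj, ← card_KK]
    rw [KK_eq hi]
    rfl
  rw [e1] at h5
  interval_cases i
  · exfalso
    apply hx
    rw [e, g_zero, mul_one]
    exact HH.mul_mem hh hk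
  · exact ⟨h, hh, k, hk, by rw [e, g_one]; rfl⟩
  · rw [card_S2] at h5; omega
  · rw [card_S3] at h5; omega
  · rw [card_S4] at h5; omega

/-- the letters of the stabilizer -/
theorem lets_mem (N : Subgroup Ly) (h0 : Y 0 ∈ N) (h7 : Y 7 ∈ N) (h8 : Y 8 ∈ N) (h10 : Y 10 ∈ N) (h11 : Y 11 ∈ N) (h12 : Y 12 ∈ N)
    (h13 : Y 13 ∈ N) (h14 : Y 14 ∈ N) (w : List ℕ) (hw : w.all (fun c => [0, 10, 11, 12, 13, 14, 30, 31].contains c) = true) :
    ev xs w ∈ N.comap θ := by
  induction w with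
  | nil => rw [Dce.ev_nil]; exact one_mem _
  | cons c w ih =>
    rw [List.all_cons, Bool.and_eq_true] at hw
    rw [Dce.ev_cons]
    refine mul_mem ?_ (ih hw.2)
    show θ (xs c) ∈ N
    have hc := hw.1
    rw [List.contains_iff_mem] at hc
    simp only [List.mem_cons, List.not_mem_nil, or_false] at hc
    rcases hc with rfl | rfl | rfl | rfl | rfl | rfl | rfl | rfl
    · rw [wc (by norm_num)]; exact h0
    · rw [wc (by norm_num)]; exact h10
    · rw [wc (by norm_num)]; exact h11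
    · rw [wc (by norm_num)]; exact h12
    · rw [wc (by norm_num)]; exact h13
    · rw [wc (by norm_num)]; exact h14
    · rw [w30]; exact h7
    · rw [w31]; exact h8

theorem KQ1_aux (N : Subgroup Ly) (h0 : Y 0 ∈ N) (h7 : Y 7 ∈ N) (h8 : Y 8 ∈ N) (h10 : Y 10 ∈ N) (h11 : Y 11 ∈ N) (h12 : Y 12 ∈ N)
    (h13 : Y 13 ∈ N) (h14 : Y 14 ∈ N) : HH ⊓ cj z HH ≤ N := by
  have h := KK_eq (i := 1) (by norm_num)
  rw [g_one] at h
  have h1 : KK 1 = HH ⊓ cj z HH := h
  rw [← h1]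
  have hm := lets_mem N h0 h7 h8 h10 h11 h12 h13 h14
  have h2 : 300000 ≤ Nat.card (Sg xs fin.stab 1 ⊓ N.comap θ : Subgroup P44) := by
    apply ge300000
    · intro w hw
      refine ⟨Dce.allS_mem (LyE.allSt_spec LyUC.c_k1_0 w hw).1, hm w ?_⟩
      revert hw
      revert w
      exact List.all_eq_true.mp (by decide +kernel : (LyUC.k1_0.all fun w => w.all (fun c => [0, 10, 11, 12, 13, 14, 30, 31].contains c)) = true)
    · intro w hw
      refine ⟨Dce.allS_mem (LyE.allSt_spec LyUC.c_k1_1 w hw).1, hm w ?_⟩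
      revert hw
      revert w
      exact List.all_eq_true.mp (by decide +kernel : (LyUC.k1_1.all fun w => w.all (fun c => [0, 10, 11, 12, 13, 14, 30, 31].contains c)) = true)
  have h3 : Sg xs fin.stab 1 ⊓ N.comap θ = Sg xs fin.stab 1 := by
    have : Finite (Sg xs fin.stab 1) := Nat.finite_of_card_ne_zero (by rw [card_S1]; norm_num)
    apply Subgroup.eq_of_le_of_card_ge inf_le_left
    rw [card_S1]; exact h2
  rintro _ ⟨p, hp, rfl⟩
  have hp' : p ∈ (Sg xs fin.stab 1 : Subgroup P44) := hp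
  rw [← h3] at hp'
  exact hp'.2

theorem KQ1 (k : Ly) (hk : k ∈ HH ⊓ cj z HH) (q : Ly) (hq : q ∈ LyOutD.Q1.map f) : k * q * k⁻¹ ∈ LyOutD.Q1.map f := by
  have hQ : ∀ c, Y c ∈ LyOutD.Q1.map f → Y c ∈ Subgroup.normalizer ((LyOutD.Q1.map f : Subgroup Ly) : Set Ly) :=
    fun c hc => Subgroup.le_normalizer hc
  have hc : ∀ c, (c = 10 ∨ c = 11 ∨ c = 12 ∨ c = 13 ∨ c = 14) → Y c ∈ LyOutD.Q1.map f := by
    intro c hc
    rw [Q1_eq]
    apply Subgroup.subset_closure
    rcases hc with rfl | rfl | rfl | rfl | rfl <;> simp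
  have h7 : Y 7 ∈ Subgroup.normalizer ((LyOutD.Q1.map f : Subgroup Ly) : Set Ly) := by
    have h := relY (.mul (.g 7) (.inv (.mul (.mul (.inv (.inv (.g 1))) (.g 0)) (.inv (.g 1))))) (List.mem_append_right _ (nth 1 rfl))
    simp only [Wd.eval] at h
    rw [mul_inv_eq_one.mp h, inv_inv]
    exact mul_mem (mul_mem nb na) (inv_mem nb)
  have h8 : Y 8 ∈ Subgroup.normalizer ((LyOutD.Q1.map f : Subgroup Ly) : Set Ly) := by
    have h := relY (.mul (.g 8) (.inv (.mul (.mul (.inv (.inv (.pow (.g 1) 2))) (.g 0)) (.inv (.pow (.g 1) 2)))))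
      (List.mem_append_right _ (nth 2 rfl))
    simp only [Wd.eval] at h
    rw [mul_inv_eq_one.mp h, inv_inv]
    exact mul_mem (mul_mem (pow_mem nb _) na) (inv_mem (pow_mem nb _))
  have h := KQ1_aux _ na h7 h8 (hQ _ (hc _ (by norm_num))) (hQ _ (hc _ (by norm_num))) (hQ _ (hc _ (by norm_num))) (hQ _ (hc _ (by norm_num)))
    (hQ _ (hc _ (by norm_num))) hk
  exact mem_norm.mp h q hq

theorem idx : ¬ 5 ∣ (LyOutD.S0.map f).index := by
  have h1 : Nat.card (LyOutD.S0.map f) = 15625 := by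
    rw [LyOutE.card_m f f_inj, LyOutD.int.cS]
  have h2 := (LyOutD.S0.map f).card_mul_index
  rw [h1, card_eq] at h2
  omega

/-- every automorphism is inner -/
theorem inner (φ : Ly ≃* Ly) : ∃ g, ∀ y, φ y = g * y * g⁻¹ := by
  haveI : Finite Ly := LyUp.finite_Ly
  have L := LyOutE.loc f f_inj LyOutD.int z idx
    (by rw [f_range]; exact U1) (by rw [f_range]; exact U2) (by rw [f_range]; exact card_K)
    (by rw [f_range]; exact Q1K) (by rw [f_range]; exact KQ1) (by rw [f_range]; exact genG) (by rw [f_range]; exact w)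
  exact L.inner φ

theorem card_out : Nat.card (Cfsg.Out Ly) = 1 := by
  have h : Cfsg.Inn Ly = ⊤ := by
    rw [eq_top_iff]
    intro φ _
    obtain ⟨g, hg⟩ := inner φ
    exact ⟨g, MulEquiv.ext fun y => (hg y).symm⟩
  show (Cfsg.Inn Ly).index = 1
  rw [h, Subgroup.index_top]

end Cfsg.Agent.Lib.LyOutG
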