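import Cfsg.Agent.Lib.LyBU
import Cfsg.Agent.Lib.LyPres
import Cfsg.Agent.Lib.DceAux
import Cfsg.Agent.Lib.DceFin
import Cfsg.Agent.Lib.LyG14P

/-!
# The presented group is `G₂(5)`
-/

set_option autoImplicit false
set_option linter.all false
set_option maxRecDepth 100000

namespace Cfsg.Agent.Lib.LyP

open Cfsg.Lie Cfsg.Agent.Lib.BenesWord Cfsg.Agent.Lib.LyPres Cfsg.Agent.Lib.Dce Cfsg.Agent.Lib.LyBT Cfsg.Agent.Lib.LyBU
open Cfsg.Agent.Lib.LyG14 Cfsg.Agent.Lib.LyG14P

/-- relators of the subgroup -/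
def relB : List Wd := LyRel.relW1.take 28 ++ [.g 3, .g 4, .g 5, .g 6, .g 7, .g 8, .g 9]

/-- the subgroup, presented -/
abbrev B44 : Type := WP 15 relB

theorem rb_of {G : Type*} [Group G] (y : ℕ → G) (h : ∀ W ∈ LyRel.relW1.take 28, W.eval y = 1) :
    RB (y 0) (y 1) (y 10) (y 11) (y 12) (y 13) (y 14) ∧ y 10 = y 2 := by
  have h' : ∀ W ∈ LyRel.relW1.take 28, W.eval y = 1 := h
  simp only [LyRel.relW1, List.take_succ_cons, List.take_zero, List.forall_mem_cons, Wd.eval] at h'
  obtain ⟨k1, k2, k3, k4, k5, k6, k7, k8, k9, k10, k11, k12, k13, k14, k15, k16, k17, k18, k19, k20, k21, k22, k23, k24, k25, k26, k27, k28, _⟩ := h'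
  have e6 : y 10 = y 2 := mul_inv_eq_one.mp k6
  refine ⟨?_, e6⟩
  exact
    { r1 := k1
      r2 := k2
      r3 := k3
      r4 := k4
      r5 := k5
      r7 := by rw [e6]; exact mul_inv_eq_one.mp k7
      r8 := by rw [e6]; exact mul_inv_eq_one.mp k8
      r9 := by rw [e6]; have := mul_inv_eq_one.mp k9; rwa [inv_inv] at this
      r10 := mul_inv_eq_one.mp k10
      r11 := k11
      r12 := k12
      r13 := k13
      r14 := k14
      r15 := k15
      r16 := k16
      r17 := mul_inv_eq_one.mp k17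
      r18 := mul_inv_eq_one.mp k18
      r19 := mul_inv_eq_one.mp k19
      r20 := k20
      r21 := mul_inv_eq_one.mp k21
      r22 := mul_inv_eq_one.mp k22
      r23 := mul_inv_eq_one.mp k23
      r24 := mul_inv_eq_one.mp k24
      r25 := mul_inv_eq_one.mp k25
      r26 := mul_inv_eq_one.mp k26
      r27 := mul_inv_eq_one.mp k27
      r28 := mul_inv_eq_one.mp k28 }

theorem relB28 : ∀ W ∈ LyRel.relW1.take 28, W.eval (wx 15 relB) = 1 := fun W hW => wx_rel W (List.mem_append_left _ hW)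

theorem killB {c : ℕ} (hc : 3 ≤ c) (hc' : c ≤ 9) : wx 15 relB c = 1 := by
  have : Wd.g c ∈ relB := by
    apply List.mem_append_right
    interval_cases c <;> simp
  exact wx_rel _ this

theorem topB : Subgroup.closure ({wx 15 relB 0, wx 15 relB 1, wx 15 relB 10} : Set B44) = ⊤ := by
  obtain ⟨h, e6⟩ := rb_of _ relB28
  rw [eq_top_iff, ← wx_top 15 relB, Subgroup.closure_le]
  have m0 : wx 15 relB 0 ∈ Subgroup.closure ({wx 15 relB 0, wx 15 relB 1, wx 15 relB 10} : Set B44) := Subgroup.subset_closure (by simp)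
  have m1 : wx 15 relB 1 ∈ Subgroup.closure ({wx 15 relB 0, wx 15 relB 1, wx 15 relB 10} : Set B44) := Subgroup.subset_closure (by simp)
  have m10 : wx 15 relB 10 ∈ Subgroup.closure ({wx 15 relB 0, wx 15 relB 1, wx 15 relB 10} : Set B44) := Subgroup.subset_closure (by simp)
  set S := Subgroup.closure ({wx 15 relB 0, wx 15 relB 1, wx 15 relB 10} : Set B44)
  have m11 : wx 15 relB 11 ∈ S := by rw [h.r7]; exact mul_mem (mul_mem (inv_mem m0) m10) m0
  have m12 : wx 15 relB 12 ∈ S := by rw [h.r8]; exact mul_mem (mul_mem (inv_mem m1) m10) m1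
  have m13 : wx 15 relB 13 ∈ S := by rw [h.r9]; exact mul_mem (mul_mem m1 m10) (inv_mem m1)
  have m14 : wx 15 relB 14 ∈ S := by rw [h.r10]; exact mul_mem (mul_mem (mul_mem (inv_mem m10) (inv_mem m11)) m10) m11
  rintro _ ⟨c, rfl⟩
  show wx 15 relB c ∈ S
  by_cases h15 : 15 ≤ c
  · rw [wx_ge h15]; exact S.one_mem
  · by_cases h3 : 3 ≤ c ∧ c ≤ 9
    · rw [killB h3.1 h3.2]; exact S.one_mem
    · have : c = 0 ∨ c = 1 ∨ c = 2 ∨ c = 10 ∨ c = 11 ∨ c = 12 ∨ c = 13 ∨ c = 14 := by omega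
      rcases this with rfl | rfl | rfl | rfl | rfl | rfl | rfl | rfl
      · exact m0
      · exact m1
      · rw [← e6]; exact m10
      · exact m10
      · exact m11
      · exact m12
      · exact m13
      · exact m14

theorem cardB : Finite B44 ∧ Nat.card B44 ≤ 1500000 := (rb_of _ relB28).1.card_le topB

/-- the words of the letters -/
def mu : ℕ → List ℕ
  | 0 => [0]
  | 1 => [1]
  | 2 => [2]
  | 10 => [2]
  | 11 => [3]
  | 12 => [4]
  | 13 => [5]
  | 14 => [6]
  | _ => []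

theorem c_rel : relT tab iv 3155 mu relB = true := by decide +kernel

theorem mu_lets (c : ℕ) : Dce.lets 14 (mu c) = true := by
  unfold mu
  split <;> rfl

/-- the permutation group -/
abbrev PB := PG tab iv 3155 14

theorem exists_f : ∃ f : B44 →* PB, ∀ c, f (wx 15 relB c) = ev (xb tab iv 3155 14) (mu c) := by
  apply wx_hom
  · exact relT_sound c_all mu_lets c_rel
  · intro c hc
    have : mu c = [] := by
      unfold mu
      split <;> first | omega | rfl
    rw [this]; rfl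

/-- letters -/
def xB : ℕ → B44
  | 0 => wx 15 relB 0
  | 1 => wx 15 relB 1
  | 2 => wx 15 relB 2
  | 3 => wx 15 relB 11
  | 4 => wx 15 relB 12
  | 5 => wx 15 relB 13
  | 6 => wx 15 relB 14
  | 7 => (wx 15 relB 0)⁻¹
  | 8 => (wx 15 relB 1)⁻¹
  | 9 => (wx 15 relB 2)⁻¹
  | 10 => (wx 15 relB 11)⁻¹
  | 11 => (wx 15 relB 12)⁻¹
  | 12 => (wx 15 relB 13)⁻¹
  | 13 => (wx 15 relB 14)⁻¹
  | _ => 1

/-- the map to the permutation group -/
noncomputable def f : B44 →* PB := exists_f.choose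
theorem f_spec : ∀ c, f (wx 15 relB c) = ev (xb tab iv 3155 14) (mu c) := exists_f.choose_spec

theorem f_xB : ∀ c < 14, f (xB c) = xb tab iv 3155 14 c := by
  have hs : ∀ c, ev (xb tab iv 3155 14) [c] = xb tab iv 3155 14 c := by intro c; simp [ev]
  have hi : ∀ c < 14, xb tab iv 3155 14 (iv c) = (xb tab iv 3155 14 c)⁻¹ := fun c hc => xb_iv c_all hc
  intro c hc
  interval_cases c
  · exact (f_spec 0).trans (hs 0)
  · exact (f_spec 1).trans (hs 1)
  · exact (f_spec 2).trans (hs 2)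
  · exact (f_spec 11).trans (hs 3)
  · exact (f_spec 12).trans (hs 4)
  · exact (f_spec 13).trans (hs 5)
  · exact (f_spec 14).trans (hs 6)
  · show f ((wx 15 relB 0)⁻¹) = _
    rw [map_inv, f_spec 0]; exact ((congrArg _ (hs 0)).trans (hi 0 (by norm_num)).symm)
  · show f ((wx 15 relB 1)⁻¹) = _
    rw [map_inv, f_spec 1]; exact ((congrArg _ (hs 1)).trans (hi 1 (by norm_num)).symm)
  · show f ((wx 15 relB 2)⁻¹) = _
    rw [map_inv, f_spec 2]; exact ((congrArg _ (hs 2)).trans (hi 2 (by norm_num)).symm)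
  · show f ((wx 15 relB 11)⁻¹) = _
    rw [map_inv, f_spec 11]; exact ((congrArg _ (hs 3)).trans (hi 3 (by norm_num)).symm)
  · show f ((wx 15 relB 12)⁻¹) = _
    rw [map_inv, f_spec 12]; exact ((congrArg _ (hs 4)).trans (hi 4 (by norm_num)).symm)
  · show f ((wx 15 relB 13)⁻¹) = _
    rw [map_inv, f_spec 13]; exact ((congrArg _ (hs 5)).trans (hi 5 (by norm_num)).symm)
  · show f ((wx 15 relB 14)⁻¹) = _
    rw [map_inv, f_spec 14]; exact ((congrArg _ (hs 6)).trans (hi 6 (by norm_num)).symm)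

theorem f_onto : Function.Surjective f := onto_of c_all f (fun c hc => ⟨xB c, f_xB c hc⟩)

instance : Finite B44 := cardB.1
instance : Finite PB := Finite.of_surjective f f_onto

/-- the action -/
noncomputable def act : B44 →* Equiv.Perm ℕ := (PG tab iv 3155 14).subtype.comp f

/-- all letters -/
def xs : ℕ → B44 := ext xB 14 wd

theorem len_wd : 47 = 14 + wd.length := by decide +kernel

theorem hact : (∀ c < 47, ∀ i < 3155, act (xs c) i = look (tab c) i) ∧ ∀ c < 47, ∀ i < 3155, look (tab c) i < 3155 :=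
  ext_act (φ := act) (xb := xB) (fun c hc i hi => by
    show (PG tab iv 3155 14).subtype (f (xB c)) i = _
    rw [f_xB c hc]; exact xb_act c_all hc hi) (fun c hc i hi => base_lt c_all hc hi) c_mac len_wd

theorem chain_info : Nat.card B44 = 1500000 ∧ ∀ g, (∀ b ∈ base, act g b = b) → g = 1 := by
  obtain ⟨l, hl, hb⟩ : ∃ l, chainH tab 47 3155 ((List.range 14).map (fun s => [s])) [] l = some 1500000 ∧ ∀ b ∈ chainB [] l, b ∈ base :=
    ⟨_, c_chain, by decide +kernel⟩
  have h := chain_faith hact.1 hact.2 l hl cardB.2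
  exact ⟨h.1, fun g hg => h.2 g (fun b hb' => hg b (hb b hb'))⟩

end Cfsg.Agent.Lib.LyP
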