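import Cfsg.Agent.Lib.LyP

/-!
# The presented group is `G₂(5)`: the enumeration
-/

set_option autoImplicit false
set_option linter.all false
set_option maxRecDepth 100000

namespace Cfsg.Agent.Lib.LyP2

open Cfsg.Lie Cfsg.Agent.Lib.BenesWord Cfsg.Agent.Lib.LyPres Cfsg.Agent.Lib.Dce Cfsg.Agent.Lib.LyBT Cfsg.Agent.Lib.LyBU
open Cfsg.Agent.Lib.LyG14 Cfsg.Agent.Lib.LyG14P Cfsg.Agent.Lib.LyP

/-- relations 29 - 44 -/
structure RP {G : Type*} [Group G] (a b c1 c2 c3 c4 c5 d e : G) : Prop where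
  r29 : e = (b ^ 2)⁻¹ * (a⁻¹ * c1⁻¹ * a * c1) * a⁻¹ * c1 * a * d * c1 * b * a * b⁻¹ * d * c1 * d
  r30 : e ^ 2 = 1
  r31 : e⁻¹ * c1 * e = b * c3 * b * c1⁻¹
  r32 : e⁻¹ * c3 * e = b ^ 2 * a * c2 * c1⁻¹ * c4⁻¹ * a⁻¹
  r33 : e⁻¹ * c4 * e = b ^ 2 * c3⁻¹ * c4
  r34 : e⁻¹ * c5 * e = c1 * c3⁻¹ * c1 * c4⁻¹
  r35 : e * a ^ 2 * e = a * b ^ 2 * a * b⁻¹ * a * c1 * c5 * c4⁻¹
  r36 : e⁻¹ * b * e = c1 * c3⁻¹ * (c4 ^ 2)⁻¹
  r37 : e * a * b ^ 2 * a * b⁻¹ * a * e = a ^ 2 * c1 * c5 * c4⁻¹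
  r38 : e * c2 * e * c2⁻¹ * e * c2 * c4⁻¹ * a * c3 * a ^ 3 = 1
  r39 : d = a * b ^ 2 * a⁻¹ * b⁻¹ * c1⁻¹ * c4⁻¹ * c5⁻¹ * a * e * a * e * a * c2⁻¹ * b * e
  r40 : d ^ 2 = a ^ 4
  r41 : b⁻¹ * d⁻¹ * b * d = 1
  r42 : d⁻¹ * a * d = a ^ 3
  r43 : (d * c5) ^ 5 = 1
  r44 : d * c5 * d * c5⁻¹ * d * c5 * (a ^ 2)⁻¹ = 1

theorem rp_of {G : Type*} [Group G] (y : ℕ → G) (h : ∀ W ∈ LyRel.relW1, W.eval y = 1) :
    RP (y 0) (y 1) (y 10) (y 11) (y 12) (y 13) (y 14) (y 3) (y 5) := by
  have h' : ∀ W ∈ LyRel.relW1, W.eval y = 1 := h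
  simp only [LyRel.relW1, List.forall_mem_cons, Wd.eval] at h'
  obtain ⟨k1, k2, k3, k4, k5, k6, k7, k8, k9, k10, k11, k12, k13, k14, k15, k16, k17, k18, k19, k20, k21, k22, k23, k24, k25, k26, k27, k28,
    k29, k30, k31, k32, k33, k34, k35, k36, k37, k38, k39, k40, k41, k42, k43, k44, _⟩ := h'
  exact
    { r29 := mul_inv_eq_one.mp k29
      r30 := k30
      r31 := mul_inv_eq_one.mp k31
      r32 := mul_inv_eq_one.mp k32
      r33 := mul_inv_eq_one.mp k33
      r34 := mul_inv_eq_one.mp k34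
      r35 := mul_inv_eq_one.mp k35
      r36 := mul_inv_eq_one.mp k36
      r37 := mul_inv_eq_one.mp k37
      r38 := k38
      r39 := mul_inv_eq_one.mp k39
      r40 := mul_inv_eq_one.mp k40
      r41 := k41
      r42 := mul_inv_eq_one.mp k42
      r43 := k43
      r44 := k44 }

/-- the letters of the presented group -/
noncomputable abbrev X (c : ℕ) : P44 := wx 15 relP c

theorem rpX : RP (X 0) (X 1) (X 10) (X 11) (X 12) (X 13) (X 14) (X 3) (X 5) := rp_of _ (fun W hW => wx_rel W (List.mem_append_left _ hW))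

theorem rel28X : ∀ W ∈ LyRel.relW1.take 28, W.eval (wx 15 relP) = 1 := fun W hW => wx_rel W (List.mem_append_left _ (List.mem_of_mem_take hW))

theorem e6X : X 10 = X 2 := (rb_of _ rel28X).2

theorem killX {c : ℕ} (hc : c = 4 ∨ c = 6 ∨ c = 7 ∨ c = 8 ∨ c = 9) : X c = 1 := by
  have : Wd.g c ∈ relP := by
    apply List.mem_append_right
    rcases hc with rfl | rfl | rfl | rfl | rfl <;> simp
  exact wx_rel _ this

theorem take28_lets : ∀ W ∈ LyRel.relW1.take 28, Cfsg.Agent.Lib.LyG14P.lge 0 15 W = true := by decide +kernel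

/-- the letters `3 - 9` do not occur -/
def noL : Wd → Bool
  | .one => true
  | .g c => !(decide (3 ≤ c) && decide (c ≤ 9))
  | .inv u => noL u
  | .mul u v => noL u && noL v
  | .pow u _ => noL u

theorem take28_no : ∀ W ∈ LyRel.relW1.take 28, noL W = true := by decide +kernel

theorem noL_eval {G : Type*} [Group G] {y y' : ℕ → G} (h : ∀ c, ¬ (3 ≤ c ∧ c ≤ 9) → y c = y' c) (W : Wd) (hW : noL W = true) :
    W.eval y = W.eval y' := by
  induction W with
  | one => rfl
  | g c =>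
    apply h
    simp only [noL, Bool.not_eq_true', Bool.and_eq_false_iff, decide_eq_false_iff_not] at hW
    omega
  | inv u ih => simp only [Wd.eval]; rw [ih hW]
  | mul u v ihu ihv =>
    simp only [noL, Bool.and_eq_true] at hW
    simp only [Wd.eval]; rw [ihu hW.1, ihv hW.2]
  | pow u m ih => simp only [Wd.eval]; rw [ih hW]

/-- the map of the subgroup -/
theorem exists_psi : ∃ ψ : B44 →* P44, ∀ c, ψ (wx 15 relB c) = if 3 ≤ c ∧ c ≤ 9 then 1 else X c := by
  apply wx_hom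
  · intro W hW
    rcases List.mem_append.mp hW with h | h
    · rw [noL_eval (y' := wx 15 relP) (fun c hc => if_neg hc) W (take28_no W h)]
      exact rel28X W h
    · simp only [List.mem_cons, List.not_mem_nil, or_false] at h
      rcases h with rfl | rfl | rfl | rfl | rfl | rfl | rfl <;> rfl
  · intro c hc
    rw [if_neg (by omega)]
    exact wx_ge hc

/-- the map -/
noncomputable def ψ : B44 →* P44 := exists_psi.choose
theorem ψ_spec : ∀ c, ψ (wx 15 relB c) = if 3 ≤ c ∧ c ≤ 9 then 1 else X c := exists_psi.choose_spec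

theorem ψ0 : ψ (xs 0) = X 0 := ψ_spec 0
theorem ψ1 : ψ (xs 1) = X 1 := ψ_spec 1
theorem ψ2 : ψ (xs 2) = X 10 := (ψ_spec 2).trans e6X.symm
theorem ψ3 : ψ (xs 3) = X 11 := ψ_spec 11
theorem ψ4 : ψ (xs 4) = X 12 := ψ_spec 12
theorem ψ5 : ψ (xs 5) = X 13 := ψ_spec 13
theorem ψ6 : ψ (xs 6) = X 14 := ψ_spec 14
theorem ψ7 : ψ (xs 7) = (X 0)⁻¹ := (map_inv ψ _).trans (congrArg _ (ψ_spec 0))
theorem ψ8 : ψ (xs 8) = (X 1)⁻¹ := (map_inv ψ _).trans (congrArg _ (ψ_spec 1))
theorem ψ9 : ψ (xs 9) = (X 10)⁻¹ := (map_inv ψ _).trans (congrArg _ ((ψ_spec 2).trans e6X.symm))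
theorem ψ10 : ψ (xs 10) = (X 11)⁻¹ := (map_inv ψ _).trans (congrArg _ (ψ_spec 11))
theorem ψ11 : ψ (xs 11) = (X 12)⁻¹ := (map_inv ψ _).trans (congrArg _ (ψ_spec 12))
theorem ψ12 : ψ (xs 12) = (X 13)⁻¹ := (map_inv ψ _).trans (congrArg _ (ψ_spec 13))
theorem ψ13 : ψ (xs 13) = (X 14)⁻¹ := (map_inv ψ _).trans (congrArg _ (ψ_spec 14))

/-- the involution -/
noncomputable abbrev t : P44 := X 5

theorem t2 : t * t = 1 := by have := rpX.r30; rwa [pow_two] at this

theorem tinv : t⁻¹ = t := inv_eq_of_mul_eq_one_right t2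

theorem eq_words {u v : List ℕ} (h : eqP tab 47 base u v = true) : ev xs u = ev xs v :=
  eqP_sound hact.1 hact.2 (by decide) chain_info.2 h

theorem word_pair {p q : ℕ} {u v : List ℕ} (hp : eqP tab 47 base [p] u = true) (hq : eqP tab 47 base [q] v = true)
    (h : t * ψ (ev xs u) = ψ (ev xs v) * t) : t * ψ (xs p) = ψ (xs q) * t := by
  have h1 := eq_words hp
  have h2 := eq_words hq
  have e : ∀ c, ev xs [c] = xs c := fun c => by simp [ev]
  rw [e] at h1 h2
  rw [h1, h2]; exact h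

theorem inv_pair {x y : P44} (h : t * x = y * t) : t * x⁻¹ = y⁻¹ * t := by
  have h1 : x = t⁻¹ * y * t := by rw [mul_assoc, ← h]; group
  rw [h1]; group

theorem conj_pair {x y : P44} (h : t⁻¹ * x * t = y) : t * x = y * t := by
  have h1 : t⁻¹ * x * t = t * x * t⁻¹ := by rw [tinv]
  rw [h1] at h
  rw [← h]; group

theorem conj_pair' {x y : P44} (h : t * x * t = y) : t * x = y * t := by
  rw [← h, mul_assoc (t * x), t2, mul_one]

theorem ψev_nil : ψ (ev xs []) = 1 := map_one _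
theorem ψev_cons (c : ℕ) (w : List ℕ) : ψ (ev xs (c :: w)) = ψ (xs c) * ψ (ev xs w) := by rw [ev_cons, map_mul]

theorem pairs : ∀ p ∈ ph, t * ψ (xs p.1) = ψ (xs p.2) * t := by
  have h := rpX
  have g1 : t * ψ (ev xs [2]) = ψ (ev xs [1, 4, 1, 9]) * t := by
    apply conj_pair
    simp only [ψev_cons, ψev_nil, ψ0, ψ1, ψ2, ψ3, ψ4, ψ5, ψ6, ψ7, ψ8, ψ9, ψ10, ψ11, ψ12, ψ13, mul_one]
    rw [h.r31]; simp only [mul_assoc, pow_two]
  have g2 : t * ψ (ev xs [4]) = ψ (ev xs [1, 1, 0, 3, 9, 12, 7]) * t := by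
    apply conj_pair
    simp only [ψev_cons, ψev_nil, ψ0, ψ1, ψ2, ψ3, ψ4, ψ5, ψ6, ψ7, ψ8, ψ9, ψ10, ψ11, ψ12, ψ13, mul_one]
    rw [h.r32]; simp only [mul_assoc, pow_two]
  have g3 : t * ψ (ev xs [5]) = ψ (ev xs [1, 1, 11, 5]) * t := by
    apply conj_pair
    simp only [ψev_cons, ψev_nil, ψ0, ψ1, ψ2, ψ3, ψ4, ψ5, ψ6, ψ7, ψ8, ψ9, ψ10, ψ11, ψ12, ψ13, mul_one]
    rw [h.r33]; simp only [mul_assoc, pow_two]
  have g4 : t * ψ (ev xs [6]) = ψ (ev xs [2, 11, 2, 12]) * t := by
    apply conj_pair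
    simp only [ψev_cons, ψev_nil, ψ0, ψ1, ψ2, ψ3, ψ4, ψ5, ψ6, ψ7, ψ8, ψ9, ψ10, ψ11, ψ12, ψ13, mul_one]
    rw [h.r34]; simp only [mul_assoc, pow_two]
  have g5 : t * ψ (ev xs [0, 0]) = ψ (ev xs [0, 1, 1, 0, 8, 0, 2, 6, 12]) * t := by
    apply conj_pair'
    simp only [ψev_cons, ψev_nil, ψ0, ψ1, ψ2, ψ3, ψ4, ψ5, ψ6, ψ7, ψ8, ψ9, ψ10, ψ11, ψ12, ψ13, mul_one]
    have := h.r35
    rw [pow_two] at this
    rw [this]; simp only [mul_assoc, pow_two]
  have g6 : t * ψ (ev xs [1]) = ψ (ev xs [2, 11, 12, 12]) * t := by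
    apply conj_pair
    simp only [ψev_cons, ψev_nil, ψ0, ψ1, ψ2, ψ3, ψ4, ψ5, ψ6, ψ7, ψ8, ψ9, ψ10, ψ11, ψ12, ψ13, mul_one]
    rw [h.r36]; simp only [mul_assoc, pow_two, mul_inv_rev]
  have g7 : t * ψ (ev xs [0, 1, 1, 0, 8, 0]) = ψ (ev xs [0, 0, 2, 6, 12]) * t := by
    apply conj_pair'
    simp only [ψev_cons, ψev_nil, ψ0, ψ1, ψ2, ψ3, ψ4, ψ5, ψ6, ψ7, ψ8, ψ9, ψ10, ψ11, ψ12, ψ13, mul_one]
    have := h.r37
    simp only [mul_assoc, pow_two] at this ⊢
    exact this
  have gi : ∀ {u v u' v' : List ℕ}, t * ψ (ev xs u) = ψ (ev xs v) * t → eqP tab 47 base (u ++ u') [] = true →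
      eqP tab 47 base (v ++ v') [] = true → t * ψ (ev xs u') = ψ (ev xs v') * t := by
    intro u v u' v' h hu hv
    have h1 := eq_words hu
    have h2 := eq_words hv
    rw [ev_append, ev_nil] at h1 h2
    have h3 : ev xs u' = (ev xs u)⁻¹ := eq_inv_of_mul_eq_one_right h1
    have h4 : ev xs v' = (ev xs v)⁻¹ := eq_inv_of_mul_eq_one_right h2
    rw [h3, h4, map_inv, map_inv]
    exact inv_pair h
  have e : ∀ c, ev xs [c] = xs c := fun c => by simp [ev]
  intro p hp
  simp only [ph, List.mem_cons, List.not_mem_nil, or_false] at hp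
  rcases hp with rfl | rfl | rfl | rfl | rfl | rfl | rfl | rfl | rfl | rfl | rfl | rfl | rfl | rfl
  · exact word_pair (by decide +kernel) (by decide +kernel) g1
  · exact word_pair (by decide +kernel) (by decide +kernel) g2
  · exact word_pair (by decide +kernel) (by decide +kernel) g3
  · exact word_pair (by decide +kernel) (by decide +kernel) g4
  · exact word_pair (by decide +kernel) (by decide +kernel) g5
  · exact word_pair (by decide +kernel) (by decide +kernel) g6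
  · exact word_pair (by decide +kernel) (by decide +kernel) g7
  · have := gi (u' := [9]) (v' := [26]) g1 (by decide +kernel) (by decide +kernel); rwa [e, e] at this
  · have := gi (u' := [11]) (v' := [30]) g2 (by decide +kernel) (by decide +kernel); rwa [e, e] at this
  · have := gi (u' := [12]) (v' := [29]) g3 (by decide +kernel) (by decide +kernel); rwa [e, e] at this
  · have := gi (u' := [13]) (v' := [31]) g4 (by decide +kernel) (by decide +kernel); rwa [e, e] at this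
  · have := gi (u' := [24]) (v' := [23]) g5 (by decide +kernel) (by decide +kernel); rwa [e, e] at this
  · have := gi (u' := [8]) (v' := [27]) g6 (by decide +kernel) (by decide +kernel); rwa [e, e] at this
  · have := gi (u' := [25]) (v' := [28]) g7 (by decide +kernel) (by decide +kernel); rwa [e, e] at this

theorem relators : ∀ r ∈ rels, seqG xs ψ t r = 1 := by
  have h := rpX
  have hd := h.r39
  have h40 : X 3 * X 3 * (X 0 ^ 4)⁻¹ = 1 := by have := h.r40; rw [pow_two] at this; rw [this, mul_inv_cancel]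
  have h42 : (X 3)⁻¹ * X 0 * X 3 * (X 0 ^ 3)⁻¹ = 1 := by rw [h.r42, mul_inv_cancel]
  have h41 := h.r41
  have h43 := h.r43
  have h44 := h.r44
  have h29 : (X 1 ^ 2)⁻¹ * ((X 0)⁻¹ * (X 10)⁻¹ * X 0 * X 10) * (X 0)⁻¹ * X 10 * X 0 * X 3 * X 10 * X 1 * X 0 * (X 1)⁻¹ * X 3 * X 10 * X 3 * X 5 = 1 := by
    have h2 := t2
    have := h.r29
    rw [← this]; exact h2
  have h38 := h.r38
  rw [hd] at h40 h41 h42 h43 h44 h29
  have t2' : X 5 * X 5 = 1 := t2
  simp only [mul_inv_rev, inv_inv, tinv, t2', pow_succ, pow_zero, one_mul, mul_one, mul_assoc, mul_inv_cancel_left, inv_mul_cancel_left] at h40 h41 h42 h43 h44 h29 h38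
  intro r hr
  simp only [rels, List.mem_cons, List.not_mem_nil, or_false] at hr
  rcases hr with rfl | rfl | rfl | rfl | rfl | rfl | rfl | rfl | rfl | rfl
  · simp only [seqG, tokG, one_mul]; exact t2
  all_goals simp only [seqG, tokG, one_mul, mul_one, ψev_cons, ψev_nil, ψ0, ψ1, ψ2, ψ3, ψ4, ψ5, ψ6, ψ7, ψ8, ψ9, ψ10, ψ11, ψ12, ψ13, mul_assoc]
  · exact h38
  · exact h40
  · exact h41
  · exact h42
  · exact h44
  · exact h29
  · exact h43
  · exact inv_mul_cancel _
  · exact mul_inv_cancel _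

/-- bounded tables -/
def chkMo : Bool := (List.range 14).all fun c => (List.range 30).all fun i => Nat.blt (look (tab c) i) 30

theorem chkMo_true : chkMo = true := by decide +kernel

theorem closeB : Subgroup.closure {g | ∃ c < 14, g = xB c} = (⊤ : Subgroup B44) := by
  rw [eq_top_iff, ← wx_top 15 relB, Subgroup.closure_le]
  have m : ∀ c < 14, xB c ∈ Subgroup.closure {g | ∃ c < 14, g = xB c} := fun c hc => Subgroup.subset_closure ⟨c, hc, rfl⟩
  have e6 := (rb_of _ relB28).2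
  rintro _ ⟨c, rfl⟩
  show wx 15 relB c ∈ Subgroup.closure {g | ∃ c < 14, g = xB c}
  by_cases h15 : 15 ≤ c
  · rw [wx_ge h15]; exact one_mem _
  · by_cases h3 : 3 ≤ c ∧ c ≤ 9
    · rw [killB h3.1 h3.2]; exact one_mem _
    · have : c = 0 ∨ c = 1 ∨ c = 2 ∨ c = 10 ∨ c = 11 ∨ c = 12 ∨ c = 13 ∨ c = 14 := by omega
      rcases this with rfl | rfl | rfl | rfl | rfl | rfl | rfl | rfl
      · exact m 0 (by norm_num)
      · exact m 1 (by norm_num)
      · exact m 2 (by norm_num)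
      · rw [e6]; exact m 2 (by norm_num)
      · exact m 3 (by norm_num)
      · exact m 4 (by norm_num)
      · exact m 5 (by norm_num)
      · exact m 6 (by norm_num)

theorem xs_lt {c : ℕ} (hc : c < 14) : xs c = xB c := ext_lt hc

theorem iv_xs : ∀ c < 14, xs (iv c) = (xs c)⁻¹ := by
  intro c hc
  interval_cases c <;> first | rfl | exact (inv_inv _).symm

theorem act_mo (g : B44) : ∀ i < 30, act g i < 30 := by
  have key : ∀ c < 14, ∀ i < 30, act (xs c) i < 30 := by
    intro c hc i hi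
    rw [hact.1 c (by omega) i (by omega)]
    have h := chkMo_true
    unfold chkMo at h
    rw [List.all_eq_true] at h
    have h1 := h c (List.mem_range.mpr hc)
    rw [List.all_eq_true] at h1
    have h2 := h1 i (List.mem_range.mpr hi)
    simpa [Nat.blt_eq] using h2
  have hg : g ∈ Subgroup.closure {g | ∃ c < 14, g = xB c} := by rw [closeB]; trivial
  have inv_ok : ∀ x : B44, (∀ i < 30, act x i < 30) → ∀ i < 30, act x⁻¹ i < 30 := by
    intro x hx i hi
    have hs : Set.MapsTo (act x) (Finset.range 30 : Finset ℕ) (Finset.range 30 : Finset ℕ) := by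
      intro j hj
      simp only [Finset.coe_range, Set.mem_Iio] at hj ⊢
      exact hx j hj
    have hsurj := (Finset.surjOn_of_injOn_of_card_le (act x) hs ((act x).injective.injOn) (le_refl _))
    obtain ⟨j, hj, hji⟩ := hsurj (by simpa using hi : i ∈ ((Finset.range 30 : Finset ℕ) : Set ℕ))
    rw [← hji, map_inv]
    simp only [Finset.coe_range, Set.mem_Iio] at hj
    have : (act x)⁻¹ (act x j) = j := (act x).symm_apply_apply j
    rw [this]; exact hj
  induction hg using Subgroup.closure_induction with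
  | mem x hx =>
    obtain ⟨c, hc, rfl⟩ := hx
    rw [← xs_lt hc]; exact key c hc
  | one => intro i hi; simpa using hi
  | mul x y _ _ hx hy =>
    intro i hi
    rw [map_mul, Equiv.Perm.mul_apply]
    exact hx _ (hy i hi)
  | inv x _ hx => exact inv_ok x hx

theorem ord0 : Sg xs fin.stab 0 = ⊤ := by
  rw [eq_top_iff, ← closeB, Subgroup.closure_le]
  rintro _ ⟨c, hc, rfl⟩
  apply Subgroup.subset_closure
  refine ⟨c, ?_, (xs_lt hc).symm⟩
  interval_cases c <;> decide +kernel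

theorem quotB : Finite (P44 ⧸ ψ.range) ∧ Nat.card (P44 ⧸ ψ.range) ≤ 3906 := by
  have hb := chainH_card hact.1 hact.2 (K := Bs xs ph) (fun w hw => by
    obtain ⟨p, hp, rfl⟩ := List.mem_map.mp hw
    have : ev xs [p.1] = xs p.1 := by simp [ev]
    rw [this]
    exact Subgroup.subset_closure ⟨p, hp, rfl⟩) _ c_bb
  have hfix : ∀ g ∈ Bs xs ph, act g 0 = 0 := Bs_fix hact.1 hact.2 (by norm_num) (by decide +kernel)
  have hst := stab_of hact.1 hact.2 (N := 1500000) cardB.2 (pt := 0) (by norm_num) c_ptg0 hb hfix (by norm_num) (by norm_num)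
  have h := upper_main (tab := tab) (L := 47) (m := 3155) (base := base) (ph := ph) (phI := phI) (iv := iv) hact.1 hact.2 (by decide) chain_info.2
    ψ t ψ.range pairs (by decide) relators (n0 := 14) iv_xs (by decide) (by
      intro K hK ht
      rw [eq_top_iff, ← wx_top 15 relP, Subgroup.closure_le]
      have hX : ∀ c, ¬ (3 ≤ c ∧ c ≤ 9) → X c ∈ K := by
        intro c hc
        have := hK (wx 15 relB c)
        rwa [ψ_spec, if_neg hc] at this
      have h3 : X 3 ∈ K := by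
        rw [rpX.r39]
        have m0 := hX 0 (by omega)
        have m1 := hX 1 (by omega)
        have m10 := hX 10 (by omega)
        have m11 := hX 11 (by omega)
        have m13 := hX 13 (by omega)
        have m14 := hX 14 (by omega)
        exact mul_mem (mul_mem (mul_mem (mul_mem (mul_mem (mul_mem (mul_mem (mul_mem (mul_mem (mul_mem (mul_mem (mul_mem (mul_mem (mul_mem m0 (pow_mem m1 2)) (inv_mem m0)) (inv_mem m1)) (inv_mem m10)) (inv_mem m13)) (inv_mem m14)) m0) ht) m0) ht) m0) (inv_mem m11)) m1) ht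
      rintro _ ⟨c, rfl⟩
      show X c ∈ K
      by_cases hc : 3 ≤ c ∧ c ≤ 9
      · have : c = 3 ∨ c = 5 ∨ (c = 4 ∨ c = 6 ∨ c = 7 ∨ c = 8 ∨ c = 9) := by omega
        rcases this with rfl | rfl | hk
        · exact h3
        · exact ht
        · rw [killX hk]; exact K.one_mem
      · exact hX c hc) (init := init) (fun s _ => ⟨_, rfl⟩) c_ds (runE_sound c_run) (k := 4) (pt := 0) (mo := 30) (by norm_num) c_j (by norm_num)
      act_mo (by
        intro i hi
        interval_cases i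
        · exact cover_sound hact.1 hact.2 c_cov0
        · exact cover_sound hact.1 hact.2 c_cov1
        · exact cover_sound hact.1 hact.2 c_cov2
        · exact cover_sound hact.1 hact.2 c_cov3) hst.1
  refine ⟨h.1, le_trans h.2 ?_⟩
  have hN := chain_info.1
  have i1 := index_le (xs := xs) (S := fin.stab) (i := 1) hN (chainH_card hact.1 hact.2 (K := Sg xs fin.stab 1) (allIn_spec c_g1) _ c_ch1) (by norm_num) (n := 30) (by norm_num)
  have i2 := index_le (xs := xs) (S := fin.stab) (i := 2) hN (chainH_card hact.1 hact.2 (K := Sg xs fin.stab 2) (allIn_spec c_g2) _ c_ch2) (by norm_num) (n := 750) (by norm_num)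
  have i3 := index_le (xs := xs) (S := fin.stab) (i := 3) hN (chainH_card hact.1 hact.2 (K := Sg xs fin.stab 3) (allIn_spec c_g3) _ c_ch3) (by norm_num) (n := 3125) (by norm_num)
  have i0 : (Sg xs fin.stab 0).index = 1 := by rw [ord0, Subgroup.index_top]
  rw [Fin.sum_univ_four]
  show (Sg xs fin.stab 0).index + (Sg xs fin.stab 1).index + (Sg xs fin.stab 2).index + (Sg xs fin.stab 3).index ≤ 3906
  omega

theorem cardP : Finite P44 ∧ Nat.card P44 ≤ 5859000000 :=
  bound_of_quot quotB (range_bound ψ ⟨cardB.1, cardB.2⟩) (by norm_num)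

instance : Finite P44 := cardP.1

/-- the presented group is `G₂(5)` -/
theorem exists_iso : ∃ φ : P44 ≃* chevG2.group K, ∀ c < 15, FG (φ (wx 15 relP c)) = u c := by
  obtain ⟨φ, hs, hφ⟩ := exists_hom
  have hb := bij_of_card φ hs cardP.2 (le_of_eq card_G2.symm)
  exact ⟨MulEquiv.ofBijective φ hb.1, hφ⟩

theorem cardP_eq : Nat.card P44 = 5859000000 := by
  obtain ⟨φ, _⟩ := exists_iso
  rw [Nat.card_congr φ.toEquiv, card_G2]

theorem simpleP : IsSimpleGroup P44 := by
  obtain ⟨φ, _⟩ := exists_iso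
  have := simple_G2
  have : Nontrivial P44 := φ.toEquiv.nontrivial
  exact IsSimpleGroup.isSimpleGroup_of_surjective φ.symm.toMonoidHom φ.symm.surjective

end Cfsg.Agent.Lib.LyP2
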