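import Cfsg.Agent.Lib.LyCUw
import Cfsg.Agent.Lib.LyTd

/-!
# An elementary abelian subgroup of order 243 of the Lyons group: checks
-/

set_option autoImplicit false
set_option linter.all false
set_option maxRecDepth 100000

namespace Cfsg.Agent.Lib.LyTw

open Cfsg.Agent.Lib.M5 Cfsg.Agent.Lib.BenesWord Cfsg.Agent.Lib.BenesPerm
open Cfsg.Agent.Lib.LyCUw (Zw)

/-- letters: a b c d z y x X0 ... X8 t A B r s k -/
def L : List (List ℕ × List ℕ) := LyCUw.L ++ [
  (LyTd.m0, LyTd.n0), (LyTd.m1, LyTd.n1), (LyTd.m2, LyTd.n2), (LyTd.m3, LyTd.n3), (LyTd.m4, LyTd.n4), (LyTd.m5, LyTd.n5)]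

def Hw : Wd := .mul (.mul (.mul (.g 2) (.g 0)) (.g 3)) (.g 2)
def Pw : Wd := .mul (.mul (.mul (.g 7) (.g 9)) (.g 10)) (.g 7)
/-- the element `t` -/
def tw : Wd := .mul (.mul (.inv Pw) (.pow (.mul (.mul (.mul Zw (.inv Hw)) Zw) Hw) 7)) Pw

def Aw : Wd := (.mul (.mul (.mul (.mul (.mul (.mul (.mul (.mul (.g 7) (.inv (.g 8))) (.g 9)) (.inv (.g 10))) (.g 11)) (.inv (.g 12))) (.g 13)) (.inv (.g 14))) (.g 15))
def Bw : Wd := (.mul (.mul (.mul (.mul (.mul (.mul (.mul (.mul (.mul (.inv (.g 7)) (.g 11)) (.inv (.g 15))) (.g 12)) (.inv (.g 7))) (.g 8)) (.inv (.g 14))) (.g 9)) (.inv (.g 10))) (.g 8))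
def rw' : Wd := (.mul (.mul (.mul (.mul (.mul (.mul (.g 18) (.g 18)) (.g 17)) (.g 17)) (.g 17)) (.g 18)) (.g 17))
def sw : Wd := (.mul (.mul (.mul (.mul (.mul (.mul (.mul (.mul (.g 17) (.g 17)) (.g 18)) (.g 17)) (.g 18)) (.g 18)) (.g 17)) (.g 17)) (.g 18))
def kw : Wd := (.mul (.mul (.mul (.mul (.mul (.mul (.g 17) (.g 18)) (.g 18)) (.g 17)) (.g 17)) (.g 18)) (.g 18))

/-- conjugates of `t` by powers of `A` -/
def Tw (i : ℕ) : Wd := if i ≤ 5 then .mul (.mul (.inv (.pow (.g 17) i)) (.g 16)) (.pow (.g 17) i)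
  else .mul (.mul (.pow (.g 17) (11 - i)) (.g 16)) (.inv (.pow (.g 17) (11 - i)))

def bp (i : ℕ) : ℕ := [0, 5, 8, 4, 2, 9, 1, 7, 3, 6, 10].getD i 0
def bs (i : ℕ) : Bool := [false, true, false, false, false, true, true, true, false, true, false].getD i true

def relD : List Wd := [.mul (.inv (.g 16)) tw, .mul (.inv (.g 17)) Aw, .mul (.inv (.g 18)) Bw, .mul (.inv (.g 19)) rw',
  .mul (.inv (.g 20)) sw, .mul (.inv (.g 21)) kw]

def relT : List Wd := [.pow (.g 16) 3, .mul (.mul (.mul (.inv Zw) (.g 16)) Zw) (.g 16), .pow (.g 17) 11] ++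
  (List.range 5).map (fun i => .mul (.mul (.mul (.inv (.g 16)) (.inv (Tw (i + 1)))) (.g 16)) (Tw (i + 1)))

def relB : List Wd := (List.range 11).map fun i => .mul (.mul (.mul (.inv (.g 18)) (Tw i)) (.g 18))
  (if bs i = true then .inv (Tw (bp i)) else Tw (bp i))

def relR : List Wd := [.pow (.g 19) 3, .pow (.g 20) 3, .pow (.g 21) 2,
  .mul (.mul (.mul (.inv (.g 19)) (.inv (.g 20))) (.g 19)) (.g 20),
  .mul (.mul (.mul (.inv (.g 21)) (.inv (.g 20))) (.g 21)) (.g 20),
  .mul (.mul (.mul (.g 21) (.g 19)) (.inv (.g 21))) (.g 19)]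

theorem chk_L : chkL 111 L = true := by decide +kernel

theorem chk_D : chkRel 111 L relD = true := by decide +kernel

theorem chk_T : chkRel 111 L relT = true := by decide +kernel

theorem chk_B : chkRel 111 L relB = true := by decide +kernel

theorem chk_R : chkRel 111 L relR = true := by decide +kernel

/-- the element `t` acts nontrivially -/
noncomputable def chkt : Bool := force (mkc0 111 111) fun mk => force (mm0 (Nat.mul 111 111)) fun mm => force (id0 111) fun id =>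
  Nat.beq (evW mk mm (GG L) (GV L) (.g 16) false id) id

theorem chk_t : chkt = false := by decide +kernel

theorem lets_D : ∀ W ∈ relD, Cfsg.Agent.Lib.CoxBridge.lets 22 W = true := by decide +kernel
theorem lets_T : ∀ W ∈ relT, Cfsg.Agent.Lib.CoxBridge.lets 22 W = true := by decide +kernel
theorem lets_B : ∀ W ∈ relB, Cfsg.Agent.Lib.CoxBridge.lets 22 W = true := by decide +kernel
theorem lets_R : ∀ W ∈ relR, Cfsg.Agent.Lib.CoxBridge.lets 22 W = true := by decide +kernel

/-- the units -/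
noncomputable def v : ℕ → (Matrix (Fin 111) (Fin 111) (ZMod 5))ˣ := uu (by norm_num) (by norm_num) L chk_L

theorem relv : (∀ W ∈ relD, W.eval v = 1) ∧ (∀ W ∈ relT, W.eval v = 1) ∧ (∀ W ∈ relB, W.eval v = 1) ∧ ∀ W ∈ relR, W.eval v = 1 :=
  ⟨fun W hW => uu_rel (by norm_num) (by norm_num) L chk_L chk_D W hW (lets_D W hW),
   fun W hW => uu_rel (by norm_num) (by norm_num) L chk_L chk_T W hW (lets_T W hW),
   fun W hW => uu_rel (by norm_num) (by norm_num) L chk_L chk_B W hW (lets_B W hW),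
   fun W hW => uu_rel (by norm_num) (by norm_num) L chk_L chk_R W hW (lets_R W hW)⟩

theorem t_ne : (Wd.g 16).eval v ≠ 1 := by
  intro h
  have h1 := evW_rep (n := 111) (m := 111) (by norm_num) (by norm_num) (uu_rep (by norm_num) (by norm_num) L chk_L)
    (uu_inv (by norm_num) (by norm_num) L chk_L) (.g 16) (by decide) false (idX_rep 111)
  have h2 : (Wd.g 16).eval (uu (by norm_num) (by norm_num) L chk_L) = 1 := h
  simp only [Bool.false_eq_true, if_false] at h1
  rw [h2, Units.val_one, Matrix.one_mul] at h1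
  have h3 := h1.ext' (idX_rep 111)
  have h4 := chk_t
  unfold chkt at h4
  rw [force_eq, force_eq, force_eq, mkc0_eq (by norm_num), mm0_eq, id0_eq] at h4
  have h5 : Nat.beq (evW (mkc 111 111) (m15 (Nat.mul 111 111)) (GG L) (GV L) (.g 16) false (idX 111)) (idX 111) = true := by
    have : Nat.mul 111 111 = 111 * 111 := rfl
    rw [this, h3]
    exact Nat.beq_refl _
  rw [h5] at h4
  exact Bool.noConfusion h4

end Cfsg.Agent.Lib.LyTw
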