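import Cfsg.Agent.Lib.LyNC
import Cfsg.Agent.Lib.LyUD

/-!
# Double coset enumeration for the Lyons group: coverage and orders
-/

set_option autoImplicit false
set_option linter.all false
set_option maxRecDepth 100000

namespace Cfsg.Agent.Lib.LyUC
open Cfsg.Agent.Lib.Dce Cfsg.Agent.Lib.LyE Cfsg.Agent.Lib.BenesPerm Cfsg.Agent.Lib.BenesAct Cfsg.Agent.Lib.BenesWord Cfsg.Agent.Lib.LyN Cfsg.Agent.Lib.LyUD

/-- expansion of the macro letters -/
def fl : List ℕ → List ℕ
  | [] => []
  | c :: w => bif Nat.blt c 30 then c :: fl w else (atD [] wd (c - 30)) ++ fl w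

/-- steps -/
def s0 : List (List ℕ) := [[1], [3], [5], [2], [11], [3], [0], [13], [5], [2], [3], [12], [11], [0], [13], [1], [3], [14], [0]]
theorem c_cov0 : covE nets fl 52 19530 fin 0 s0 = true := by decide +kernel
/-- steps -/
def s1 : List (List ℕ) := [[10], [11], [12], [0], [13], [11, 11], [14], [0], [12], [30], [0], [13], [12], [10], [31], [11], [0], [10], [30], [0]]
theorem c_cov1 : covE nets fl 52 19530 fin 1 s1 = true := by decide +kernel
/-- steps -/
def s2 : List (List ℕ) := [[40], [40, 40], [41], [40], [40, 40, 40, 40], [43], [40], [42], [41], [40, 40], [40, 43], [40], [41], [40], [43, 40], [41], [40], [40], [40]]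
theorem c_cov2 : covE nets fl 52 19530 fin 2 s2 = true := by decide +kernel
/-- steps -/
def s3 : List (List ℕ) := [[44], [44, 44], [45], [44, 44, 44], [46], [47], [44], [45], [48], [44], [44, 44], [45], [46], [48], [44], [45]]
theorem c_cov3 : covE nets fl 52 19530 fin 3 s3 = true := by decide +kernel
/-- steps -/
def s4 : List (List ℕ) := [[49], [50], [49], [49, 49], [49, 49, 49, 49], [51], [49], [49, 49], [49, 49, 49, 49], [51], [49], [49, 49], [49, 49, 49], [49, 51], [49, 49, 49], [51]]
theorem c_cov4 : covE nets fl 52 19530 fin 4 s4 = true := by decide +kernel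
theorem c_orb0 : popK 15 (reach nets (s0.map fl) (2 ^ 0)) = 19530 := by
  have h : reachK nets (s0.map fl) (Nat.pow 2 0) (fun V => Nat.beq (popK 15 V) 19530) = true := by decide +kernel
  rw [reachK_eq] at h
  exact Nat.eq_of_beq_eq_true h
/-- all words of letters below a bound -/
def allL (n : ℕ) : List (List ℕ) → Bool
  | [] => true
  | w :: l => Dce.lets n w && allL n l
theorem c_s0 : allL 30 s0 = true := by decide +kernel
/-- steps of the stabilizer chain -/
def k1_0 : List (List ℕ) := [[0], [10], [11], [12], [13], [14], [0], [10], [13], [12], [0], [31], [30], [0], [13], [12], [0], [10]]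
theorem c_k1_0 : allSt fin.stab 52 1 k1_0 = true := by decide +kernel
theorem c_o1_0 : popK 15 (reach nets (k1_0.map fl) (2 ^ 7920)) = 12500 := by
  have h : reachK nets (k1_0.map fl) (Nat.pow 2 7920) (fun V => Nat.beq (popK 15 V) 12500) = true := by decide +kernel
  rw [reachK_eq] at h
  exact Nat.eq_of_beq_eq_true h
/-- steps of the stabilizer chain -/
def k1_1 : List (List ℕ) := [[11, 30, 10, 10], [12, 0, 10, 10, 11, 11], [0, 0, 13, 10, 10, 30, 0], [0, 10, 11, 12, 30, 10, 12], [11, 30, 10, 10], [11, 30, 10, 10]]
theorem c_k1_1 : allSt fin.stab 52 1 k1_1 = true := by decide +kernel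
theorem c_o1_1 : popK 15 (reach nets (k1_1.map fl) (2 ^ 14)) = 24 := by
  have h : reachK nets (k1_1.map fl) (Nat.pow 2 14) (fun V => Nat.beq (popK 15 V) 24) = true := by decide +kernel
  rw [reachK_eq] at h
  exact Nat.eq_of_beq_eq_true h
/-- steps of the stabilizer chain -/
def k2_0 : List (List ℕ) := [[40], [40, 40], [41], [40, 40, 40, 40], [42], [40], [41], [43], [40], [41], [40], [43, 40], [40], [41], [40], [43], [40], [41], [40]]
theorem c_k2_0 : allSt fin.stab 52 2 k2_0 = true := by decide +kernel
theorem c_o2_0 : popK 15 (reach nets (k2_0.map fl) (2 ^ 7920)) = 6048 := by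
  have h : reachK nets (k2_0.map fl) (Nat.pow 2 7920) (fun V => Nat.beq (popK 15 V) 6048) = true := by decide +kernel
  rw [reachK_eq] at h
  exact Nat.eq_of_beq_eq_true h
/-- steps of the stabilizer chain -/
def k3_0 : List (List ℕ) := [[44], [44, 44], [45], [44, 44, 44], [46], [45], [47], [44], [48], [44], [44, 44], [45], [46], [48], [44], [44], [44]]
theorem c_k3_0 : allSt fin.stab 52 3 k3_0 = true := by decide +kernel
theorem c_o3_0 : popK 15 (reach nets (k3_0.map fl) (2 ^ 7920)) = 2880 := by
  have h : reachK nets (k3_0.map fl) (Nat.pow 2 7920) (fun V => Nat.beq (popK 15 V) 2880) = true := by decide +kernel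
  rw [reachK_eq] at h
  exact Nat.eq_of_beq_eq_true h
/-- steps of the stabilizer chain -/
def k4_0 : List (List ℕ) := [[49], [50], [49], [49, 49], [49, 49, 49, 49], [51], [49], [49, 49], [49, 49, 49, 49], [51], [49], [49, 49], [49, 49, 49], [49, 51], [49, 49, 49], [51]]
theorem c_k4_0 : allSt fin.stab 52 4 k4_0 = true := by decide +kernel
theorem c_o4_0 : popK 15 (reach nets (k4_0.map fl) (2 ^ 7920)) = 1008 := by
  have h : reachK nets (k4_0.map fl) (Nat.pow 2 7920) (fun V => Nat.beq (popK 15 V) 1008) = true := by decide +kernel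
  rw [reachK_eq] at h
  exact Nat.eq_of_beq_eq_true h
/-- all words fix a lane -/
noncomputable def fixK (b : ℕ) (l : List (List ℕ)) : Bool := List.rec (motive := fun _ => Bool) true (fun w _ ih => bandK (walkK nets (fl w) (Nat.pow 2 b) (fun V => Nat.beq V (Nat.pow 2 b))) ih) l

theorem fixK_spec {b : ℕ} {l : List (List ℕ)} (h : fixK b l = true) : ∀ w ∈ l, appW nets (fl w) (2 ^ b) = 2 ^ b := by
  induction l with
  | nil => intro w hw; simp at hw
  | cons a l ih =>
    have h' : bandK (walkK nets (fl a) (Nat.pow 2 b) (fun V => Nat.beq V (Nat.pow 2 b))) (fixK b l) = true := h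
    rw [bandK_eq_true, walkK_eq] at h'
    intro w hw
    rcases List.mem_cons.mp hw with rfl | hw
    · exact Nat.eq_of_beq_eq_true h'.1
    · exact ih h'.2 w hw

theorem c_fix1 : fixK 7920 k1_1 = true := by decide +kernel

/-- the source words of the twisting -/
def phW : List (List ℕ) := ph.map (fun p => [p.1])

theorem c_fixB : fixK 0 phW = true := by decide +kernel

/-- words in the source letters -/
def allPh : List (List ℕ) → Bool
  | [] => true
  | w :: l => (phw ph w).isSome && allPh l

theorem c_ph0 : allPh k1_0 = true := by decide +kernel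
theorem c_ph1 : allPh k1_1 = true := by decide +kernel

/-- the lanes below 19530 are invariant -/
theorem c_inv : invK nets ((List.range 30).map (fun c => [c])) (Nat.sub (Nat.pow 2 19530) 1) = true := by decide +kernel


end Cfsg.Agent.Lib.LyUC
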