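import Cfsg.Agent.Lib.LyUC
import Cfsg.Agent.Lib.LyH

/-!
# Double coset enumeration for the Lyons group: facts in the subgroup
-/

set_option autoImplicit false
set_option linter.all false
set_option maxRecDepth 100000

namespace Cfsg.Agent.Lib.LyUp

open Cfsg.Lie Cfsg.Agent.Lib.M5 Cfsg.Agent.Lib.BenesWord Cfsg.Agent.Lib.BenesAct Cfsg.Agent.Lib.BenesPerm
open Cfsg.Agent.Lib.LyPres Cfsg.Agent.Lib.LyG14P Cfsg.Agent.Lib.LyP2 Cfsg.Agent.Lib.LyE Cfsg.Agent.Lib.LyUD Cfsg.Agent.Lib.LyUC
open Cfsg.Agent.Lib.Dce (ext ev ext_lt ev_ext atD)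
open Cfsg.Agent.Lib.LyN (nets)
open Cfsg.Agent.Lib.LyG14 (relP LL c_L)

/-- the letters -/
noncomputable def xb (c : ℕ) : P44 := if c < 15 then LyP2.X c else if c < 30 then (LyP2.X (c - 15))⁻¹ else 1

/-- all letters -/
noncomputable def xs : ℕ → P44 := ext xb 30 wd

theorem xs_lt {c : ℕ} (hc : c < 30) : xs c = xb c := ext_lt hc

theorem xs_ge {c : ℕ} (hc : 30 ≤ c) : xs c = ev xb (atD [] wd (c - 30)) := if_neg (by omega)

theorem xb_lt {c : ℕ} (hc : c < 15) : xb c = LyP2.X c := if_pos hc

theorem xb_inv {c : ℕ} (hc : c < 15) : xb (c + 15) = (LyP2.X c)⁻¹ := by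
  unfold xb
  rw [if_neg (by omega), if_pos (by omega), Nat.add_sub_cancel]

theorem hok : ∀ c, (netOf nets c).OK := fun c => Net.ok_of_check (check_netOf LyNC.c_nets c)

theorem exists_φ : ∃ φ : P44 →* Equiv.Perm ℕ, ∀ c, φ (LyP2.X c) = if c < 15 then sperm nets c else 1 := by
  apply wx_hom
  · intro W hW
    rw [← LyNC.rel_sperm W hW]
    apply Cfsg.Agent.Lib.CoxBridge.eval_congr (n := 15) _ W (lets15 W hW).1
    intro c hc
    rw [if_pos hc]
  · intro c hc
    rw [if_neg (by omega)]

/-- the action on lanes -/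
noncomputable def φ : P44 →* Equiv.Perm ℕ := exists_φ.choose
theorem φ_spec : ∀ c, φ (LyP2.X c) = if c < 15 then sperm nets c else 1 := exists_φ.choose_spec

theorem iv_15 : ∀ c < 15, LyNC.iv c = c + 15 := by decide +kernel

theorem φ_xb {c : ℕ} (hc : c < 30) (k : ℕ) : φ (xb c) k = sig nets c k := by
  rw [← sperm_apply hok]
  by_cases h : c < 15
  · rw [xb_lt h, φ_spec, if_pos h]
  · obtain ⟨d, rfl⟩ := Nat.exists_eq_add_of_le' (show 15 ≤ c by omega)
    rw [xb_inv (by omega), map_inv, φ_spec, if_pos (by omega), ← LyNC.iv_sperm, iv_15 d (by omega)]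

theorem wfn_append (u v : List ℕ) (k : ℕ) : wfn nets (u ++ v) k = wfn nets u (wfn nets v k) := by
  induction u with
  | nil => rfl
  | cons c u ih => simp only [List.cons_append, wfn, ih]

theorem hwb (w : List ℕ) (hw : Dce.lets 30 w = true) (k : ℕ) : φ (ev xb w) k = wfn nets w k := by
  induction w with
  | nil => simp [wfn]
  | cons c w ih =>
    simp only [Dce.lets, Bool.and_eq_true, Nat.blt_eq] at hw
    rw [Dce.ev_cons, map_mul, Equiv.Perm.mul_apply, ih hw.2, φ_xb hw.1]; rfl

theorem c_wd : allL 30 wd = true := by decide +kernel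

theorem allL_spec {n : ℕ} {l : List (List ℕ)} (h : allL n l = true) : ∀ w ∈ l, Dce.lets n w = true := by
  induction l with
  | nil => intro w hw; simp at hw
  | cons a l ih =>
    simp only [allL, Bool.and_eq_true] at h
    intro w hw
    rcases List.mem_cons.mp hw with rfl | hw
    · exact h.1
    · exact ih h.2 w hw

theorem atD_lets (k : ℕ) : Dce.lets 30 (atD [] wd k) = true := by
  by_cases h : k < wd.length
  · exact allL_spec c_wd _ (Dce.atD_mem h)
  · have : ∀ (l : List (List ℕ)) (k : ℕ), l.length ≤ k → atD [] l k = [] := by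
      intro l
      induction l with
      | nil => intro k _; rfl
      | cons a l ih =>
        intro k hk
        cases k with
        | zero => simp at hk
        | succ k => exact ih k (by simpa using hk)
    rw [this _ _ (by omega)]; rfl

theorem hw (w : List ℕ) (k : ℕ) : φ (ev xs w) k = wfn nets (fl w) k := by
  induction w with
  | nil => simp [fl, wfn]
  | cons c w ih =>
    rw [Dce.ev_cons, map_mul, Equiv.Perm.mul_apply, ih]
    by_cases h : c < 30
    · have e : fl (c :: w) = c :: fl w := by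
        have : Nat.blt c 30 = true := by simpa [Nat.blt_eq] using h
        simp only [fl, this, cond_true]
      rw [e, xs_lt h, φ_xb h]; rfl
    · have e : fl (c :: w) = atD [] wd (c - 30) ++ fl w := by
        have : Nat.blt c 30 = false := by rw [← Bool.not_eq_true]; simpa [Nat.blt_eq] using h
        simp only [fl, this, cond_false]
      rw [e, xs_ge (by omega), wfn_append, hwb _ (atD_lets _)]

theorem hw' (w : List ℕ) (_ : Dce.lets 52 w = true) (k : ℕ) : φ (ev xs w) k = wfn nets (fl w) k := hw w k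

/-! ### the faithful representation -/

theorem exists_R : ∃ R : P44 →* U14, Function.Injective R ∧ ∀ c < 15, R (LyP2.X c) = LyG14P.u c := by
  obtain ⟨φ, h⟩ := exists_iso
  exact ⟨FG.comp φ.toMonoidHom, FG_inj.comp φ.injective, h⟩

/-- the representation -/
noncomputable def R14 : P44 →* U14 := exists_R.choose
theorem R14_inj : Function.Injective R14 := exists_R.choose_spec.1
theorem R14_X : ∀ c < 15, R14 (LyP2.X c) = LyG14P.u c := exists_R.choose_spec.2

theorem rows_lt {c : ℕ} (hc : c < 15) : rows c = GG LL c := by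
  have : Nat.blt c 15 = true := by simpa [Nat.blt_eq] using hc
  unfold rows; rw [this]

theorem rows_inv {c : ℕ} (hc : c < 15) : rows (c + 15) = GV LL c := by
  have h1 : Nat.blt (c + 15) 15 = false := by rw [← Bool.not_eq_true]; simp [Nat.blt_eq]
  have h2 : Nat.blt (c + 15) 30 = true := by rw [Nat.blt_eq]; omega
  have h3 : Nat.sub (c + 15) 15 = c := Nat.add_sub_cancel c 15
  unfold rows; rw [h1, h2, h3]

theorem repR30 {c : ℕ} (hc : c < 30) : RepR 14 (rows c) (R14 (xb c) : U14) := by
  by_cases h : c < 15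
  · rw [rows_lt h, xb_lt h, R14_X c h]
    exact uu_rep (n := 14) (by norm_num) (by norm_num) LL c_L c (by rw [len27]; omega)
  · obtain ⟨d, rfl⟩ := Nat.exists_eq_add_of_le' (show 15 ≤ c by omega)
    rw [rows_inv (by omega), xb_inv (by omega), map_inv, R14_X d (by omega)]
    exact uu_inv (n := 14) (by norm_num) (by norm_num) LL c_L d (by rw [len27]; omega)

theorem mx_spec {k : ℕ} (hk : k < 22) : RepR 14 (rows (30 + k)) (R14 (xs (30 + k)) : U14) := by
  have h := c_mx
  unfold mxB at h
  rw [force_eq, force_eq, force_eq, List.all_eq_true] at h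
  have h1 := h k (List.mem_range.mpr hk)
  rw [bandK_eq_true, bandK_eq_true, mkc0_eq (by norm_num), M5.mm0_eq, M5.id0_eq] at h1
  obtain ⟨h2, h3, h4⟩ := h1
  have k1 := repR_of h2
  have k2 := evl_rep (L := 30) (xs := xb) (R := R14) (n := 14) (by norm_num) (by norm_num) (fun c hc => repR30 hc) _ h3 (idX_rep 14)
  have k3 := mulR_rep (by norm_num) (by norm_num) (idX_rep 14) k1
  have h4' := Nat.eq_of_beq_eq_true h4
  rw [one_mul] at k2 k3
  have e196 : (196 : ℕ) = 14 * 14 := by norm_num
  rw [e196] at h4'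
  rw [h4'] at k2
  have k4 := k2.ext k3
  rw [xs_ge (by omega), Nat.add_sub_cancel_left, k4]
  exact k1

theorem repR52 : ∀ c < 52, RepR 14 (rows c) (R14 (xs c) : U14) := by
  intro c hc
  by_cases h : c < 30
  · rw [xs_lt h]; exact repR30 h
  · obtain ⟨d, rfl⟩ := Nat.exists_eq_add_of_le (show 30 ≤ c by omega)
    exact mx_spec (by omega)

theorem heq (u v : List ℕ) (h : eqv u v = true) : ev xs u = ev xs v :=
  eqM_sound (n := 14) (L := 52) (by norm_num) (by norm_num) repR52 R14_inj u v h

end Cfsg.Agent.Lib.LyUp
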