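import Cfsg.Agent.Lib.LyUp1

/-!
# Double coset enumeration for the Lyons group: the relations
-/

set_option autoImplicit false
set_option linter.all false
set_option maxRecDepth 100000

namespace Cfsg.Agent.Lib.LyUp

open Cfsg.Spor Cfsg.Lie Cfsg.Agent.Lib.M5 Cfsg.Agent.Lib.BenesWord Cfsg.Agent.Lib.BenesAct Cfsg.Agent.Lib.BenesPerm
open Cfsg.Agent.Lib.LyPres Cfsg.Agent.Lib.LyG14P Cfsg.Agent.Lib.LyP2 Cfsg.Agent.Lib.LyE Cfsg.Agent.Lib.LyUD Cfsg.Agent.Lib.LyUC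
open Cfsg.Agent.Lib.LyH (Y θ θ_of relY HH range_θ)
open Cfsg.Agent.Lib.Dce (ext ev ext_lt ev_ext atD seqG tokG Tok Bs Sg fixL)
open Cfsg.Agent.Lib.LyN (nets)
open Cfsg.Agent.Lib.LyG14 (relP LL c_L)
open Cfsg.Agent.Lib.LyRel (relW2 relW1 extraW)

theorem xb_iv (c : ℕ) : xb (LyUD.iv c) = (xb c)⁻¹ := by
  unfold LyUD.iv
  by_cases h : c < 15
  · have h1 : Nat.blt c 15 = true := by simpa [Nat.blt_eq] using h
    rw [h1]; simp only [cond_true]
    rw [xb_inv h, xb_lt h]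
  · have h1 : Nat.blt c 15 = false := by rw [← Bool.not_eq_true]; simpa [Nat.blt_eq] using h
    rw [h1]; simp only [cond_false]
    by_cases h' : c < 30
    · have h2 : Nat.blt c 30 = true := by simpa [Nat.blt_eq] using h'
      rw [h2]; simp only [cond_true]
      obtain ⟨d, rfl⟩ := Nat.exists_eq_add_of_le' (show 15 ≤ c by omega)
      rw [Nat.add_sub_cancel, xb_inv (by omega), inv_inv, xb_lt (by omega)]
    · have h2 : Nat.blt c 30 = false := by rw [← Bool.not_eq_true]; simpa [Nat.blt_eq] using h'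
      rw [h2]; simp only [cond_false]
      unfold xb
      rw [if_neg (by omega), if_neg (by omega), inv_one]

theorem iv_lt {c : ℕ} (hc : c < 30) : LyUD.iv c < 30 := by
  unfold LyUD.iv
  by_cases h : c < 15
  · have h1 : Nat.blt c 15 = true := by simpa [Nat.blt_eq] using h
    rw [h1]; simp only [cond_true]; omega
  · have h1 : Nat.blt c 15 = false := by rw [← Bool.not_eq_true]; simpa [Nat.blt_eq] using h
    have h2 : Nat.blt c 30 = true := by simpa [Nat.blt_eq] using hc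
    rw [h1]; simp only [cond_false]
    rw [h2]; simp only [cond_true]; omega

theorem xs_iv : ∀ c < 30, xs (LyUD.iv c) = (xs c)⁻¹ := by
  intro c hc
  rw [xs_lt hc, xs_lt (iv_lt hc), xb_iv]

theorem θ_xb {c : ℕ} (hc : c < 4) : θ (xb c) = Y c := by
  rw [xb_lt (by omega)]
  apply θ_of
  omega

/-- value of a defined letter -/
theorem yd {k c : ℕ} {W : Wd} (hk : k < relW2.length) (h : relW2[k] = .mul (.g c) (.inv W)) (hl : Cfsg.Agent.Lib.CoxBridge.lets 4 W = true)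
    {v : List ℕ} (hv : W.flat LyUD.iv = v) (hv' : Dce.lets 30 v = true) : θ (ev xs v) = Y c := by
  have h1 : ev xs v = W.eval xb := by
    rw [show ev xs v = ev xb v from ev_ext hv', ← hv]
    exact Wd.eval_flat xb LyUD.iv xb_iv W
  have h2 := relY _ (List.mem_append_right relW1 (List.getElem_mem hk))
  rw [h] at h2
  have h3 : Y c = W.eval Y := mul_inv_eq_one.mp h2
  rw [h1, h3, Wd.map_eval]
  apply Cfsg.Agent.Lib.CoxBridge.eval_congr (n := 4) _ W hl
  intro c hc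
  exact θ_xb hc

theorem d6 : θ (ev xs [0]) = Y 6 := yd (k := 0) (by decide) rfl (by decide) rfl rfl
theorem d7 : θ (ev xs [1, 0, 16]) = Y 7 := yd (k := 1) (by decide) rfl (by decide) rfl rfl
theorem d8 : θ (ev xs [1, 1, 0, 16, 16]) = Y 8 := yd (k := 2) (by decide) rfl (by decide) rfl rfl
theorem d9 : θ (ev xs [16, 16, 0, 1, 1]) = Y 9 := yd (k := 3) (by decide) rfl (by decide) rfl rfl
theorem d15 : θ (ev xs [0, 0]) = Y 15 := yd (k := 4) (by decide) rfl (by decide) rfl rfl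
theorem d16 : θ (ev xs [3]) = Y 16 := yd (k := 5) (by decide) rfl (by decide) rfl rfl
theorem d17 : θ (ev xs [18]) = Y 17 := yd (k := 6) (by decide) rfl (by decide) rfl rfl
theorem d18 : θ (ev xs [1, 1, 15, 16, 15, 1, 1, 17, 0, 2, 15, 17, 3, 17, 1, 1, 15, 2, 1]) = Y 18 := yd (k := 7) (by decide) rfl (by decide) rfl rfl
theorem d19 : θ (ev xs [0, 1, 15, 1, 1, 15, 1, 1, 17, 0, 2, 1, 2, 16, 3, 2, 16, 16, 3, 2, 1, 2]) = Y 19 := yd (k := 8) (by decide) rfl (by decide) rfl rfl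
theorem d20 : θ (ev xs [17, 18, 15, 17, 15, 1, 17, 18]) = Y 20 := yd (k := 9) (by decide) rfl (by decide) rfl rfl
theorem d21 : θ (ev xs [1, 3]) = Y 21 := yd (k := 10) (by decide) rfl (by decide) rfl rfl
theorem d22 : θ (ev xs [18, 16]) = Y 22 := yd (k := 11) (by decide) rfl (by decide) rfl rfl
theorem d23 : θ (ev xs [15, 16, 15, 1, 17, 16, 0, 17, 1, 0]) = Y 23 := yd (k := 12) (by decide) rfl (by decide) rfl rfl
theorem d24 : θ (ev xs [16, 16, 0, 2, 15, 1, 2, 1]) = Y 24 := yd (k := 13) (by decide) rfl (by decide) rfl rfl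
theorem d25 : θ (ev xs [15, 16, 15, 2, 0, 1, 0]) = Y 25 := yd (k := 14) (by decide) rfl (by decide) rfl rfl
theorem d26 : θ (ev xs [16, 15, 1, 2, 16, 0, 1]) = Y 26 := yd (k := 15) (by decide) rfl (by decide) rfl rfl
theorem d27 : θ (ev xs [1, 1, 15, 16, 2, 1, 0, 2, 16, 16, 17]) = Y 27 := yd (k := 16) (by decide) rfl (by decide) rfl rfl
theorem d28 : θ (ev xs [15, 15, 15]) = Y 28 := yd (k := 17) (by decide) rfl (by decide) rfl rfl
theorem d29 : θ (ev xs [1, 15, 16, 15, 15]) = Y 29 := yd (k := 18) (by decide) rfl (by decide) rfl rfl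
theorem d30 : θ (ev xs [0, 1, 1, 0, 16, 16, 15]) = Y 30 := yd (k := 19) (by decide) rfl (by decide) rfl rfl
theorem d31 : θ (ev xs [15, 3, 16, 17, 15, 1, 17, 18, 1, 17, 16, 15, 17, 0, 16, 0, 1, 0, 16]) = Y 31 := yd (k := 20) (by decide) rfl (by decide) rfl rfl
theorem d32 : θ (ev xs [0, 16, 16, 15, 2, 1, 17, 1, 15, 17, 17, 3, 2, 0, 2, 15, 2, 16, 18]) = Y 32 := yd (k := 21) (by decide) rfl (by decide) rfl rfl
theorem d33 : θ (ev xs [1, 0, 16, 15, 16, 16, 15, 16, 2, 1, 1, 2, 1, 3, 2, 16, 16, 3, 2, 1, 2]) = Y 33 := yd (k := 22) (by decide) rfl (by decide) rfl rfl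
theorem d34 : θ (ev xs [17, 16, 17, 18, 1, 1, 17, 18, 16, 17, 16, 16, 17, 1, 0, 1, 1, 0, 1, 15, 16]) = Y 34 := yd (k := 23) (by decide) rfl (by decide) rfl rfl
theorem d35 : θ (ev xs [15, 17, 18, 0, 17, 16, 0, 17, 18, 15, 17, 0, 2, 16, 16, 17, 16, 15, 16, 16]) = Y 35 := yd (k := 24) (by decide) rfl (by decide) rfl rfl
theorem d36 : θ (ev xs [15, 17, 18, 1, 15, 16, 17, 18, 1, 15, 16, 17, 16, 0, 16, 16, 0, 16]) = Y 36 := yd (k := 25) (by decide) rfl (by decide) rfl rfl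
theorem d37 : θ (ev xs [18, 0, 2, 1, 2, 15, 17, 18, 0, 16, 15, 2, 15, 16, 16, 15, 1, 15]) = Y 37 := yd (k := 26) (by decide) rfl (by decide) rfl rfl
theorem d38 : θ (ev xs [17, 15, 2, 1, 17, 18, 2, 15, 2, 0, 2, 16, 15, 16, 15, 1]) = Y 38 := yd (k := 27) (by decide) rfl (by decide) rfl rfl

theorem ev_one (c : ℕ) : ev xs [c] = xs c := by simp [ev]

theorem mac {s : ℕ} {y : Ly} {v : List ℕ} (h2 : θ (ev xs v) = y) (h : eqv [s] v = true) : θ (xs s) = y := by
  rw [← h2, ← ev_one, heq _ _ h]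

theorem w32 : θ (xs 32) = Y 23 := mac d23 (by decide +kernel)
theorem w33 : θ (xs 33) = Y 24 := mac d24 (by decide +kernel)
theorem w34 : θ (xs 34) = Y 25 := mac d25 (by decide +kernel)
theorem w35 : θ (xs 35) = Y 26 := mac d26 (by decide +kernel)
theorem w36 : θ (xs 36) = Y 27 := mac d27 (by decide +kernel)
theorem w37 : θ (xs 37) = Y 28 := mac d28 (by decide +kernel)
theorem w38 : θ (xs 38) = Y 29 := mac d29 (by decide +kernel)
theorem w39 : θ (xs 39) = Y 30 := mac d30 (by decide +kernel)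
theorem w30 : θ (xs 30) = Y 7 := mac d7 (by decide +kernel)
theorem w31 : θ (xs 31) = Y 8 := mac d8 (by decide +kernel)
theorem w0 : θ (xs 0) = Y 6 := mac d6 (by decide +kernel)

theorem wc {c : ℕ} (hc : c = 0 ∨ c = 1 ∨ c = 2 ∨ c = 3 ∨ c = 5 ∨ c = 10 ∨ c = 11 ∨ c = 12 ∨ c = 13 ∨ c = 14) : θ (xs c) = Y c := by
  rw [xs_lt (by omega), xb_lt (by omega)]; exact θ_of hc

/-- the element `t = z⁻¹` -/
noncomputable def t : Ly := (Y 4)⁻¹

theorem conjr {p q : ℕ} {k : ℕ} (hk : k < relW2.length)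
    (h : relW2[k] = .mul (.mul (.mul (.inv (.g 4)) (.g p)) (.g 4)) (.inv (.g q))) : t * Y p = Y q * t := by
  have h2 := relY _ (List.mem_append_right relW1 (List.getElem_mem hk))
  rw [h] at h2
  have h3 : (Y 4)⁻¹ * Y p * Y 4 = Y q := mul_inv_eq_one.mp h2
  rw [← h3]; unfold t; group

theorem pairs : ∀ p ∈ ph, t * θ (xs p.1) = θ (xs p.2) * t := by
  intro p hp
  simp only [ph, List.mem_cons, List.not_mem_nil, or_false] at hp
  rcases hp with rfl | rfl | rfl | rfl | rfl | rfl | rfl | rfl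
  · simp only; rw [wc (by norm_num), w32]; exact conjr (k := 28) (by decide) rfl
  · simp only; rw [wc (by norm_num), w33]; exact conjr (k := 29) (by decide) rfl
  · simp only; rw [wc (by norm_num), w34]; exact conjr (k := 30) (by decide) rfl
  · simp only; rw [wc (by norm_num), w35]; exact conjr (k := 31) (by decide) rfl
  · simp only; rw [wc (by norm_num), w36]; exact conjr (k := 32) (by decide) rfl
  · simp only; rw [w0, w37]; exact conjr (k := 33) (by decide) rfl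
  · simp only; rw [w30, w38]; exact conjr (k := 34) (by decide) rfl
  · simp only; rw [w31, w39]; exact conjr (k := 35) (by decide) rfl

theorem z2 : Y 4 * Y 4 = Y 15 := by
  have h := relY _ (List.mem_append_right relW1 (List.getElem_mem (l := relW2) (n := 36) (by decide)))
  have h' : (Y 4) ^ 2 * (Y 15)⁻¹ = 1 := h
  rw [mul_inv_eq_one, pow_two] at h'
  exact h'

theorem k82 : (Y 9 * Y 4) ^ 3 * Y 15 = 1 := relY _ (List.mem_append_right relW1 (List.getElem_mem (l := relW2) (n := 37) (by decide)))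

theorem k83 : Y 20 * Y 4 * Y 31 * Y 4 * Y 35 * Y 4 = 1 :=
  relY _ (List.mem_append_right relW1 (List.getElem_mem (l := relW2) (n := 38) (by decide)))

theorem k84 : (Y 4)⁻¹ * Y 17 * (Y 4)⁻¹ * Y 36 * Y 4 * Y 16 * Y 4 * Y 19 = 1 :=
  relY _ (List.mem_append_right relW1 (List.getElem_mem (l := relW2) (n := 39) (by decide)))

/-- inverse words -/
theorem di {v : List ℕ} {y : Ly} (h : θ (ev xs v) = y) (hv : Dce.lets 30 v = true) : θ (ev xs (v.reverse.map LyUD.iv)) = y⁻¹ := by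
  rw [Dce.ev_inv xs_iv v hv, map_inv, h]

theorem dcat {u v : List ℕ} {y z : Ly} (h : θ (ev xs u) = y) (h' : θ (ev xs v) = z) : θ (ev xs (u ++ v)) = y * z := by
  rw [Dce.ev_append, map_mul, h, h']

theorem tk_append (u v : List (List ℕ)) : tk (u ++ v) = tk u ++ tk v := by
  induction u with
  | nil => rfl
  | cons a u ih => simp only [List.cons_append, tk, ih]

theorem seqG_append (l l' : List Tok) : seqG xs θ t (l ++ l') = seqG xs θ t l' * seqG xs θ t l := by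
  induction l with
  | nil => simp [seqG]
  | cons k l ih => simp only [List.cons_append, seqG, ih, mul_assoc]

theorem rot {u v : List (List ℕ)} (h : seqG xs θ t (tk (u ++ v)) = 1) : seqG xs θ t (tk (v ++ u)) = 1 := by
  rw [tk_append, seqG_append] at h ⊢
  exact mul_eq_one_comm.mp h

theorem seq_tk (v : List ℕ) (l : List (List ℕ)) : seqG xs θ t (tk (v :: l)) = seqG xs θ t (tk l) * t * θ (ev xs v) := rfl

theorem base0 : seqG xs θ t (tk R0) = 1 := by
  have e0 : θ (ev xs [16, 16, 15, 1, 1, 15, 15]) = (Y 15 * Y 9)⁻¹ := di (v := [0, 0] ++ [16, 16, 0, 1, 1]) (dcat d15 d9) rfl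
  have e1 : θ (ev xs [16, 16, 15, 1, 1]) = (Y 9)⁻¹ := di d9 rfl
  unfold R0
  rw [seq_tk, seq_tk, seq_tk, e0, e1]
  have h := k82
  have h1 : Y 15 * (Y 9 * Y 4) ^ 3 = 1 := mul_eq_one_comm.mp h
  have h2 : Y 15 * Y 9 * Y 4 * Y 9 * Y 4 * Y 9 * Y 4 = 1 := by
    rw [← h1]; simp only [pow_succ, pow_zero, one_mul, mul_assoc]
  have h3 := congrArg (fun x => x⁻¹) h2
  simp only [inv_one] at h3
  rw [← h3]
  show 1 * t * (Y 9)⁻¹ * t * (Y 9)⁻¹ * t * (Y 15 * Y 9)⁻¹ = _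
  unfold t; group

theorem base1 : seqG xs θ t (tk R1) = 1 := by
  have e0 : θ (ev xs [3, 2, 16, 0, 2, 0, 3, 2]) = (Y 20)⁻¹ := di d20 rfl
  have e1 : θ (ev xs [1, 15, 16, 15, 1, 15, 2, 0, 1, 2, 16, 3, 2, 16, 0, 2, 1, 18, 0]) = (Y 31)⁻¹ := di d31 rfl
  have e2 : θ (ev xs [1, 1, 0, 1, 2, 1, 1, 17, 15, 2, 0, 3, 2, 15, 1, 2, 15, 3, 2, 0]) = (Y 35)⁻¹ := di d35 rfl
  unfold R1
  rw [seq_tk, seq_tk, seq_tk, e0, e1, e2]
  have h3 := congrArg (fun x => x⁻¹) k83
  simp only [inv_one] at h3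
  rw [← h3]
  show 1 * t * (Y 35)⁻¹ * t * (Y 31)⁻¹ * t * (Y 20)⁻¹ = _
  unfold t; group

theorem base2 : seqG xs θ t (tk R2) = 1 := by
  have e0 : θ (ev xs [17, 16, 17, 18, 1, 1, 17, 18, 1, 17, 16, 17, 15, 2, 16, 16, 0, 16, 16, 0, 16, 15]) = (Y 19)⁻¹ := di d19 rfl
  have u1 : θ (ev xs [15, 15]) = (Y 15)⁻¹ := di d15 rfl
  have e1 : θ (ev xs [3, 0, 0]) = ((Y 15)⁻¹ * Y 17)⁻¹ := di (v := [15, 15] ++ [18]) (dcat u1 d17) rfl
  have e2 : θ (ev xs [1, 15, 1, 1, 15, 1, 2, 1, 0, 16, 3, 2, 1, 0, 16, 3, 2, 0, 0, 0]) = ((Y 15)⁻¹ * Y 36)⁻¹ :=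
    di (v := [15, 15] ++ [15, 17, 18, 1, 15, 16, 17, 18, 1, 15, 16, 17, 16, 0, 16, 16, 0, 16]) (dcat u1 d36) rfl
  have e3 : θ (ev xs [18]) = (Y 16)⁻¹ := di d16 rfl
  unfold R2
  rw [seq_tk, seq_tk, seq_tk, seq_tk, e0, e1, e2, e3]
  have h3 : Y 19 * ((Y 4)⁻¹ * Y 17 * (Y 4)⁻¹ * Y 36 * Y 4 * Y 16 * Y 4) = 1 := mul_eq_one_comm.mp k84
  have h4 := congrArg (fun x => x⁻¹) h3
  simp only [inv_one] at h4
  rw [← h4]
  show 1 * t * (Y 16)⁻¹ * t * ((Y 15)⁻¹ * Y 36)⁻¹ * t * ((Y 15)⁻¹ * Y 17)⁻¹ * t * (Y 19)⁻¹ = _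
  rw [← z2]
  unfold t; group

theorem relators : ∀ r ∈ rels, seqG xs θ t r = 1 := by
  intro r hr
  simp only [rels, List.mem_cons, List.not_mem_nil, or_false] at hr
  rcases hr with rfl | rfl | rfl | rfl | rfl | rfl | rfl | rfl | rfl | rfl | rfl | rfl | rfl
  · exact base0
  · exact rot (u := R0.take 1) (v := R0.drop 1) base0
  · exact rot (u := R0.take 2) (v := R0.drop 2) base0
  · exact base1
  · exact rot (u := R1.take 1) (v := R1.drop 1) base1
  · exact rot (u := R1.take 2) (v := R1.drop 2) base1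
  · exact base2
  · exact rot (u := R2.take 1) (v := R2.drop 1) base2
  · exact rot (u := R2.take 2) (v := R2.drop 2) base2
  · exact rot (u := R2.take 3) (v := R2.drop 3) base2
  · show 1 * θ (ev xs [0, 0]) * t * t = 1
    rw [d15, ← z2]; unfold t; group
  · show 1 * t⁻¹ * t = 1
    group
  · show 1 * t * t⁻¹ = 1
    group

end Cfsg.Agent.Lib.LyUp
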