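import Cfsg.Agent.Lib.LyUp2

/-!
# Double coset enumeration for the Lyons group: orders and the upper bound for the index
-/

set_option autoImplicit false
set_option linter.all false
set_option maxRecDepth 100000

namespace Cfsg.Agent.Lib.LyUp

open Cfsg.Spor Cfsg.Lie Cfsg.Agent.Lib.M5 Cfsg.Agent.Lib.BenesWord Cfsg.Agent.Lib.BenesAct Cfsg.Agent.Lib.BenesPerm
open Cfsg.Agent.Lib.LyPres Cfsg.Agent.Lib.LyG14P Cfsg.Agent.Lib.LyP2 Cfsg.Agent.Lib.LyE Cfsg.Agent.Lib.LyUD Cfsg.Agent.Lib.LyUC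
open Cfsg.Agent.Lib.LyH (Y θ θ_of relY HH range_θ cardH θ_inj)
open Cfsg.Agent.Lib.Dce (ext ev ext_lt ev_ext atD seqG tokG Tok Bs Sg fixL mem_fixL allS_mem phw_mem)
open Cfsg.Agent.Lib.LyN (nets)
open Cfsg.Agent.Lib.LyG14 (relP LL c_L)
open Cfsg.Agent.Lib.LyRel (relW2 relW1 extraW gen idx)

theorem allPh_spec {l : List (List ℕ)} (h : allPh l = true) : ∀ w ∈ l, ev xs w ∈ Bs xs ph := by
  induction l with
  | nil => intro w hw; simp at hw
  | cons a l ih =>
    simp only [allPh, Bool.and_eq_true] at h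
    intro w hw
    rcases List.mem_cons.mp hw with rfl | hw
    · obtain ⟨v, hv⟩ := Option.isSome_iff_exists.mp h.1
      exact (phw_mem hv).1
    · exact ih h.2 w hw

/-- order of a subgroup containing the source letters -/
theorem ge300000 {K : Subgroup P44} (h0 : ∀ w ∈ k1_0, ev xs w ∈ K) (h1 : ∀ w ∈ k1_1, ev xs w ∈ K) : 300000 ≤ Nat.card K := by
  have a0 := orb_le (k := 15) hok hw' K 7920 k1_0 (fun w hw => ⟨(allSt_spec c_k1_0 w hw).2, h0 w hw⟩)
  rw [c_o1_0] at a0
  have a1 := orb_le (k := 15) hok hw' (fixL φ K [7920]) 14 k1_1 (fun w hw => ⟨(allSt_spec c_k1_1 w hw).2, h1 w hw, by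
    intro b hb
    rw [List.mem_singleton] at hb; subst hb
    exact fix_of_app hok hw' (allSt_spec c_k1_1 w hw).2 (fixK_spec c_fix1 w hw)⟩)
  rw [c_o1_1] at a1
  have p : 0 < Nat.card (fixL φ (fixL φ K [7920]) [14]) := Nat.card_pos
  omega

theorem bs_ge : 300000 ≤ Nat.card (Bs xs ph) := ge300000 (allPh_spec c_ph0) (allPh_spec c_ph1)

theorem S1_ge : 300000 ≤ Nat.card (Sg xs fin.stab 1) :=
  ge300000 (fun w hw => allS_mem (allSt_spec c_k1_0 w hw).1) (fun w hw => allS_mem (allSt_spec c_k1_1 w hw).1)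

theorem S2_ge : 6048 ≤ Nat.card (Sg xs fin.stab 2) := by
  have a0 := orb_le (k := 15) hok hw' (Sg xs fin.stab 2) 7920 k2_0 (fun w hw => ⟨(allSt_spec c_k2_0 w hw).2, allS_mem (allSt_spec c_k2_0 w hw).1⟩)
  rw [c_o2_0] at a0
  have p : 0 < Nat.card (fixL φ (Sg xs fin.stab 2) [7920]) := Nat.card_pos
  omega

theorem S3_ge : 2880 ≤ Nat.card (Sg xs fin.stab 3) := by
  have a0 := orb_le (k := 15) hok hw' (Sg xs fin.stab 3) 7920 k3_0 (fun w hw => ⟨(allSt_spec c_k3_0 w hw).2, allS_mem (allSt_spec c_k3_0 w hw).1⟩)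
  rw [c_o3_0] at a0
  have p : 0 < Nat.card (fixL φ (Sg xs fin.stab 3) [7920]) := Nat.card_pos
  omega

theorem S4_ge : 1008 ≤ Nat.card (Sg xs fin.stab 4) := by
  have a0 := orb_le (k := 15) hok hw' (Sg xs fin.stab 4) 7920 k4_0 (fun w hw => ⟨(allSt_spec c_k4_0 w hw).2, allS_mem (allSt_spec c_k4_0 w hw).1⟩)
  rw [c_o4_0] at a0
  have p : 0 < Nat.card (fixL φ (Sg xs fin.stab 4) [7920]) := Nat.card_pos
  omega

theorem S0_top : Sg xs fin.stab 0 = ⊤ := by
  rw [eq_top_iff, ← wx_top 15 relP, Subgroup.closure_le]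
  rintro _ ⟨c, rfl⟩
  show LyP2.X c ∈ _
  by_cases h : c < 15
  · rw [← xb_lt h, ← xs_lt (by omega)]
    apply Subgroup.subset_closure
    refine ⟨c, ?_, rfl⟩
    apply List.mem_append_left (as := (List.range 52).map (fun s => (0, s)))
    exact List.mem_map.mpr ⟨c, List.mem_range.mpr (by omega), rfl⟩
  · have : LyP2.X c = 1 := wx_ge (by omega)
    rw [this]; exact one_mem _

theorem ph_lets : ∀ p ∈ ph, Dce.lets 52 [p.1] = true := by decide

theorem bs_fix : Bs xs ph ≤ fixL φ ⊤ [0] := by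
  rw [Bs, Subgroup.closure_le]
  rintro _ ⟨p, hp, rfl⟩
  refine ⟨trivial, ?_⟩
  intro b hb
  rw [List.mem_singleton] at hb; subst hb
  have h := fixK_spec c_fixB [p.1] (List.mem_map.mpr ⟨p, hp, rfl⟩)
  have hl : Dce.lets 52 [p.1] = true := ph_lets p hp
  have := fix_of_app hok hw' hl h
  rwa [ev_one] at this

theorem hB : ∀ g, φ g 0 = 0 → g ∈ Bs xs ph := by
  have a0 := orb_le (k := 15) hok hw' (⊤ : Subgroup P44) 0 s0 (fun w hw => ⟨(allSt_spec (L := 52) (i := 0) (st := fin.stab) (by decide +kernel) w hw).2, trivial⟩)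
  rw [c_orb0, Subgroup.card_top, cardP_eq] at a0
  have h1 : Nat.card (fixL φ (⊤ : Subgroup P44) [0]) ≤ Nat.card (Bs xs ph) := by
    have := bs_ge; omega
  have h2 := Subgroup.eq_of_le_of_card_ge bs_fix h1
  intro g hg
  rw [h2]
  exact ⟨trivial, fun b hb => by rw [List.mem_singleton] at hb; subst hb; exact hg⟩

theorem card_bs : Nat.card (Bs xs ph) = 300000 := by
  have a0 := orb_le (k := 15) hok hw' (⊤ : Subgroup P44) 0 s0 (fun w hw => ⟨(allSt_spec (L := 52) (i := 0) (st := fin.stab) (by decide +kernel) w hw).2, trivial⟩)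
  rw [c_orb0, Subgroup.card_top, cardP_eq] at a0
  have h1 : Nat.card (Bs xs ph) ≤ Nat.card (fixL φ (⊤ : Subgroup P44) [0]) := Subgroup.card_le_of_le bs_fix
  have := bs_ge
  omega

theorem hm : ∀ g i, i < 19530 → φ g i < 19530 := by
  have key : ∀ g : P44, ∀ i, φ g i < 19530 ↔ i < 19530 := by
    intro g
    have hg : g ∈ Subgroup.closure (Set.range (wx 15 relP)) := by rw [wx_top]; trivial
    induction hg using Subgroup.closure_induction with
    | mem x hx =>
      obtain ⟨c, rfl⟩ := hx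
      intro i
      show φ (LyP2.X c) i < 19530 ↔ i < 19530
      by_cases h : c < 15
      · have h1 := invK_spec c_inv [c] (List.mem_map.mpr ⟨c, List.mem_range.mpr (by omega), rfl⟩)
        have h2 := congrArg (fun x => Nat.testBit x i) h1
        have h3 : (appW nets [c] (2 ^ 19530 - 1)).testBit i = (2 ^ 19530 - 1).testBit i := h2
        rw [testBit_appW hok, Nat.testBit_two_pow_sub_one, Nat.testBit_two_pow_sub_one] at h3
        have h4 : φ (LyP2.X c) i = wfn nets [c] i := by rw [← xb_lt h, φ_xb (by omega)]; rfl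
        rw [h4]
        exact decide_eq_decide.mp h3
      · rw [φ_spec, if_neg h]; rfl
    | one => intro i; simp
    | mul x y _ _ hx hy => intro i; rw [map_mul, Equiv.Perm.mul_apply, hx, hy]
    | inv x _ hx => intro i; rw [← hx (φ x⁻¹ i), ← Equiv.Perm.mul_apply, ← map_mul]; simp
  intro g i hi
  exact (key g i).mpr hi

theorem gen_all (K : Subgroup Ly) (hK : ∀ p, θ p ∈ K) (ht : t ∈ K) : K = ⊤ := by
  have h4 : Y 4 ∈ K := by
    have := K.inv_mem ht
    unfold t at this
    rwa [inv_inv] at this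
  have hY : ∀ c < 39, Y c ∈ K := by
    intro c hc
    by_cases h : c = 0 ∨ c = 1 ∨ c = 2 ∨ c = 3 ∨ c = 5 ∨ c = 10 ∨ c = 11 ∨ c = 12 ∨ c = 13 ∨ c = 14
    · rw [← θ_of h]; exact hK _
    · by_cases h' : c = 4
      · rw [h']; exact h4
      · have : c = 6 ∨ c = 7 ∨ c = 8 ∨ c = 9 ∨ (15 ≤ c ∧ c ≤ 38) := by omega
        rcases this with rfl | rfl | rfl | rfl | ⟨h1, h2⟩
        · rw [← d6]; exact hK _
        · rw [← d7]; exact hK _
        · rw [← d8]; exact hK _
        · rw [← d9]; exact hK _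
        · interval_cases c
          · rw [← d15]; exact hK _
          · rw [← d16]; exact hK _
          · rw [← d17]; exact hK _
          · rw [← d18]; exact hK _
          · rw [← d19]; exact hK _
          · rw [← d20]; exact hK _
          · rw [← d21]; exact hK _
          · rw [← d22]; exact hK _
          · rw [← d23]; exact hK _
          · rw [← d24]; exact hK _
          · rw [← d25]; exact hK _
          · rw [← d26]; exact hK _
          · rw [← d27]; exact hK _
          · rw [← d28]; exact hK _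
          · rw [← d29]; exact hK _
          · rw [← d30]; exact hK _
          · rw [← d31]; exact hK _
          · rw [← d32]; exact hK _
          · rw [← d33]; exact hK _
          · rw [← d34]; exact hK _
          · rw [← d35]; exact hK _
          · rw [← d36]; exact hK _
          · rw [← d37]; exact hK _
          · rw [← d38]; exact hK _
  rw [eq_top_iff]
  have htop : Subgroup.closure (Set.range (PresentedGroup.of : Ly.Gen → Ly)) = ⊤ := PresentedGroup.closure_range_of _
  rw [← htop, Subgroup.closure_le]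
  rintro _ ⟨a, rfl⟩
  have h1 := LyRel.C.hgi a
  have h2 := LyRel.C.hlt a
  have h3 := hY (LyRel.idx a) h2
  have h4 : Y (LyRel.idx a) = PresentedGroup.of a := congrArg PresentedGroup.of h1
  rw [h4] at h3
  exact h3

/-- words of the definitions -/
def hwd : ℕ → List ℕ
  | 1 => (ds.getD 1 (0, [], false)).2.1
  | 2 => (ds.getD 2 (0, [], false)).2.1
  | 3 => (ds.getD 3 (0, [], false)).2.1
  | _ => []

/-- double coset representatives -/
noncomputable def g : ℕ → Ly
  | 0 => 1
  | 1 => t * (θ (ev xs []) * 1)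
  | 2 => t * (θ (ev xs (hwd 1)) * (t * (θ (ev xs []) * 1)))
  | 3 => t * (θ (ev xs (hwd 2)) * (t * (θ (ev xs (hwd 1)) * (t * (θ (ev xs []) * 1)))))
  | 4 => t * (θ (ev xs (hwd 3)) * (t * (θ (ev xs (hwd 1)) * (t * (θ (ev xs []) * 1)))))
  | _ => 1

theorem g_zero : g 0 = 1 := rfl
theorem g_one : g 1 = t := by
  show t * (θ (ev xs []) * 1) = t
  rw [Dce.ev_nil, map_one, mul_one, mul_one]

theorem hg : ∀ n (h : n < ds.length), g (n + 1) = (bif (ds[n]).2.2 then t⁻¹ else t) * (θ (ev xs (ds[n]).2.1) * g (ds[n]).1) := by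
  intro n h
  have h' : n < 4 := h
  interval_cases n <;> rfl

theorem all_in : (Finite (Ly ⧸ HH) ∧ Nat.card (Ly ⧸ HH) ≤ ∑ i : Fin 5, (Sg xs fin.stab i).index) ∧
      (∀ x : Ly, ∃ p i, i < 5 ∧ (g i)⁻¹ * (θ p)⁻¹ * x ∈ HH) ∧ ∀ i, ∀ p ∈ Sg xs fin.stab i, (g i)⁻¹ * θ p * g i ∈ HH := by
  have hθ : ∀ p, θ p ∈ HH := fun p => by rw [← range_θ]; exact ⟨p, rfl⟩
  exact upper_mainE (φ := φ) heq θ t HH pairs (by decide) relators (n0 := 30) xs_iv (by decide +kernel) gen_all (init := init) (fun s _ => hθ _)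
    g g_zero hg c_run (k := 5) (pt := 0) (mo := 19530) (by norm_num) c_j (by norm_num) hm (by
      intro i hi
      interval_cases i
      · exact covE_sound hok hw' c_cov0
      · exact covE_sound hok hw' c_cov1
      · exact covE_sound hok hw' c_cov2
      · exact covE_sound hok hw' c_cov3
      · exact covE_sound hok hw' c_cov4) hB

theorem ix (i N : ℕ) {n r : ℕ} (hr : r ≤ Nat.card (Sg xs fin.stab i)) (hr0 : 0 < r) (h : n * r = 5859000000) : (Sg xs fin.stab i).index ≤ n :=
  Dce.index_le cardP_eq hr hr0 h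

theorem sum_le : ∑ i : Fin 5, (Sg xs fin.stab i).index ≤ 8835156 := by
  have i0 : (Sg xs fin.stab 0).index = 1 := by rw [S0_top, Subgroup.index_top]
  have i1 := ix 1 0 S1_ge (by norm_num) (n := 19530) (by norm_num)
  have i2 := ix 2 0 S2_ge (by norm_num) (n := 968750) (by norm_num)
  have i3 := ix 3 0 S3_ge (by norm_num) (n := 2034375) (by norm_num)
  have i4 := ix 4 0 S4_ge (by norm_num) (n := 5812500) (by norm_num)
  rw [Fin.sum_univ_five]
  show (Sg xs fin.stab 0).index + (Sg xs fin.stab 1).index + (Sg xs fin.stab 2).index + (Sg xs fin.stab 3).index + (Sg xs fin.stab 4).index ≤ 8835156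
  omega

theorem finite_quot : Finite (Ly ⧸ HH) := all_in.1.1

theorem index_le' : HH.index ≤ 8835156 := le_trans all_in.1.2 sum_le

theorem finite_Ly : Finite Ly := by
  have h := finite_quot
  have h2 : Finite HH := Nat.finite_of_card_ne_zero (by rw [cardH]; norm_num)
  exact Finite.of_equiv _ (Subgroup.groupEquivQuotientProdSubgroup (s := HH)).symm

end Cfsg.Agent.Lib.LyUp
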