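import Cfsg.Agent.Lib.CosetFacts

set_option autoImplicit false
set_option linter.all false
set_option maxRecDepth 100000

namespace Cfsg.Agent.Lib.M11PAD
open Cfsg.Agent.Lib.BenesPerm Cfsg.Agent.Lib.CosetFacts

noncomputable def d0 : Nat := (nat_lit 0x422)
noncomputable def d1 : Nat := (nat_lit 0xc)
noncomputable def d2 : Nat := (nat_lit 0x140)
noncomputable def d3 : Nat := (nat_lit 0x210)
noncomputable def d4 : Nat := (nat_lit 0x80)
noncomputable def D : Net := (Net.cons (nat_lit 0) d0 (Net.cons (nat_lit 1) d1 (Net.cons (nat_lit 2) d2 (Net.cons (nat_lit 3) d3 (Net.cons (nat_lit 4) d4 Net.nil)))))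
noncomputable def Tp0 : Nat := (nat_lit 0x6300000c000030007f00004c000030007f000084000120007f0000bc000200007f0000cc0002d0004300007c0002000044000044000120002300004c000030000000007c0002c000630000b800030000640000880002b000630000500001d000610000ac0002e0002000009c0001b000200000a80002a000220000680001a000210000700002a000040000a800033000600000bc00033000640000bc00032000200000980002900021000098000280002300009c0002600023000068000270002000006800009000630000a000025000230000600001a000600000a00002800061000094000310006000007800016000630000540001e0006200004400019000200000640001900020000010000130002100001c000190002100001000014000020000c000031000410000bc000300000100005c000220004100008400023000410000480001300002000000000000000400000000000)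
noncomputable def T : Tr := (Tr.leaf Tp0)
noncomputable def DTp0 : Nat := (nat_lit 0x400000000029000010000000002900000000000000240000000000000022000030000000002100000000000000210000000000000020000040000000001e000040000000001d000030000000000a000040000000000a000020000000000a000010000000000a00003000000000180000000000000018000010000000001600002000000000150000300000000014000020000000001300003000000000120000400000000011000010000000001100000000000000070000300000000006000040000000000600001000000000060000300000000005000010000000000500003000000000100000400000000010000010000000001000000000000000100000400000000003000020000000000300000000000000030000200000000001)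
noncomputable def DT : Tr := (Tr.leaf DTp0)
noncomputable def s0 : Scr := (Scr.cons (nat_lit 12) (nat_lit 2) (Step.U (nat_lit 2) (Step.L (Step.L (Step.L (Step.L (Step.L (Step.D (nat_lit 3) Step.done))))))) (Scr.cons (nat_lit 7) (nat_lit 1) (Step.U (nat_lit 17) (Step.F (nat_lit 2) (Step.U (nat_lit 2) (Step.L (Step.D (nat_lit 0) (Step.D (nat_lit 5) (Step.D (nat_lit 19) Step.done))))))) (Scr.cons (nat_lit 8) (nat_lit 3) (Step.U (nat_lit 7) (Step.D (nat_lit 4) (Step.D (nat_lit 18) Step.done))) (Scr.cons (nat_lit 12) (nat_lit 0) (Step.U (nat_lit 31) (Step.B (nat_lit 3) (Step.U (nat_lit 19) (Step.U (nat_lit 5) (Step.D (nat_lit 7) (Step.B (nat_lit 4) (Step.D (nat_lit 32) Step.done))))))) (Scr.cons (nat_lit 11) (nat_lit 0) (Step.U (nat_lit 32) (Step.U (nat_lit 18) (Step.U (nat_lit 4) (Step.D (nat_lit 6) (Step.D (nat_lit 20) (Step.D (nat_lit 33) Step.done)))))) (Scr.cons (nat_lit 19) (nat_lit 1) (Step.L (Step.L (Step.L (Step.L (Step.D (nat_lit 0) (Step.D (nat_lit 4) Step.done))))))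 (Scr.cons (nat_lit 8) (nat_lit 3) (Step.L (Step.L (Step.D (nat_lit 9) Step.done))) (Scr.cons (nat_lit 8) (nat_lit 1) (Step.L (Step.L (Step.D (nat_lit 3) Step.done))) (Scr.cons (nat_lit 12) (nat_lit 7) (Step.F (nat_lit 8) (Step.L (Step.L (Step.L (Step.L (Step.L (Step.B (nat_lit 8) Step.done))))))) (Scr.cons (nat_lit 11) (nat_lit 0) (Step.U (nat_lit 1) (Step.D (nat_lit 3) (Step.F (nat_lit 9) (Step.L (Step.B (nat_lit 8) (Step.F (nat_lit 10) Step.done)))))) (Scr.cons (nat_lit 12) (nat_lit 5) (Step.U (nat_lit 5) (Step.D (nat_lit 4) (Step.F (nat_lit 7) (Step.L (Step.B (nat_lit 8) (Step.F (nat_lit 11) (Step.D (nat_lit 14) Step.done))))))) (Scr.cons (nat_lit 8) (nat_lit 1) (Step.F (nat_lit 12) (Step.U (nat_lit 5) (Step.D (nat_lit 6) Step.done))) (Scr.cons (nat_lit 5) (nat_lit 0) (Step.U (nat_lit 21) (Step.U (nat_lit 8) (Step.L (Step.L (Step.L (Step.L (Step.D (nat_lit 1) (Step.D (nat_lit 14) (Step.B (nat_lit 13) (Step.D (nat_lit 20) (Step.D (nat_lit 33) Step.done))))))))))) (Scr.cons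 (nat_lit 6) (nat_lit 1) (Step.U (nat_lit 24) (Step.L (Step.L (Step.L (Step.L (Step.L (Step.L (Step.L (Step.D (nat_lit 24) Step.done))))))))) (Scr.cons (nat_lit 12) (nat_lit 5) (Step.U (nat_lit 8) (Step.L (Step.L (Step.L (Step.L (Step.L (Step.D (nat_lit 10) Step.done))))))) (Scr.cons (nat_lit 19) (nat_lit 4) (Step.F (nat_lit 15) (Step.U (nat_lit 24) (Step.L (Step.D (nat_lit 10) (Step.F (nat_lit 16) (Step.D (nat_lit 21) Step.done)))))) (Scr.cons (nat_lit 8) (nat_lit 1) (Step.F (nat_lit 16) (Step.U (nat_lit 8) (Step.L Step.done))) (Scr.cons (nat_lit 19) (nat_lit 2) (Step.B (nat_lit 18) (Step.L (Step.L (Step.L (Step.L (Step.D (nat_lit 23) Step.done)))))) (Scr.cons (nat_lit 9) (nat_lit 0) (Step.F (nat_lit 19) (Step.F (nat_lit 16) (Step.D (nat_lit 22) Step.done))) (Scr.cons (nat_lit 12) (nat_lit 4) (Step.F (nat_lit 20) (Step.U (nat_lit 23) (Step.L (Step.D (nat_lit 10) (Step.B (nat_lit 19) (Step.U (nat_lit 23) (Step.D (nat_lit 24) Step.done))))))) (Scr.cons (nat_lit 8) (nat_lit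 1) (Step.F (nat_lit 20) (Step.U (nat_lit 23) (Step.D (nat_lit 25) Step.done))) (Scr.cons (nat_lit 12) (nat_lit 1) (Step.B (nat_lit 5) (Step.B (nat_lit 6) (Step.F (nat_lit 14) (Step.F (nat_lit 17) (Step.F (nat_lit 21) (Step.B (nat_lit 22) (Step.D (nat_lit 34) Step.done))))))) (Scr.cons (nat_lit 8) (nat_lit 1) (Step.B (nat_lit 23) (Step.U (nat_lit 34) (Step.D (nat_lit 35) Step.done))) (Scr.cons (nat_lit 17) (nat_lit 0) (Step.U (nat_lit 26) (Step.D (nat_lit 25) (Step.D (nat_lit 35) Step.done))) (Scr.cons (nat_lit 8) (nat_lit 3) (Step.U (nat_lit 12) (Step.L (Step.D (nat_lit 26) Step.done))) (Scr.cons (nat_lit 7) (nat_lit 0) (Step.U (nat_lit 10) (Step.L (Step.L (Step.L (Step.L (Step.L (Step.D (nat_lit 10) Step.done))))))) (Scr.cons (nat_lit 12) (nat_lit 7) (Step.F (nat_lit 26) (Step.U (nat_lit 12) (Step.D (nat_lit 10) (Step.F (nat_lit 27) (Step.U (nat_lit 10) (Step.D (nat_lit 12) (Step.B (nat_lit 26) Step.done))))))) (Scr.cons (nat_lit 8) (nat_lit 1) (Step.F (nat_lit 19) (Step.U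 (nat_lit 10) (Step.D (nat_lit 11) Step.done))) (Scr.cons (nat_lit 19) (nat_lit 1) (Step.U (nat_lit 27) (Step.U (nat_lit 13) (Step.L (Step.B (nat_lit 9) (Step.D (nat_lit 17) (Step.D (nat_lit 30) Step.done)))))) (Scr.cons (nat_lit 8) (nat_lit 2) (Step.F (nat_lit 7) (Step.L (Step.D (nat_lit 13) Step.done))) (Scr.cons (nat_lit 17) (nat_lit 0) (Step.U (nat_lit 18) (Step.B (nat_lit 31) (Step.D (nat_lit 27) Step.done))) (Scr.cons (nat_lit 8) (nat_lit 2) (Step.F (nat_lit 30) (Step.F (nat_lit 32) (Step.D (nat_lit 32) Step.done))) (Scr.cons (nat_lit 8) (nat_lit 1) (Step.U (nat_lit 15) (Step.D (nat_lit 14) (Step.D (nat_lit 28) Step.done))) (Scr.cons (nat_lit 19) (nat_lit 2) (Step.F (nat_lit 9) (Step.L (Step.L (Step.L (Step.L (Step.L Step.done)))))) (Scr.cons (nat_lit 8) (nat_lit 0) (Step.U (nat_lit 1) (Step.F (nat_lit 35) (Step.F (nat_lit 2) Step.done))) (Scr.cons (nat_lit 9) (nat_lit 0) (Step.U (nat_lit 15) (Step.B (nat_lit 36) (Step.D (nat_lit 16) Step.done))) (Scr.cons (nat_lit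 18) (nat_lit 1) (Step.F (nat_lit 25) (Step.F (nat_lit 28) (Step.U (nat_lit 26) (Step.L (Step.D (nat_lit 11) (Step.F (nat_lit 29) (Step.B (nat_lit 20) (Step.B (nat_lit 22) (Step.D (nat_lit 35) (Step.F (nat_lit 24) (Step.U (nat_lit 31) (Step.D (nat_lit 30) (Step.B (nat_lit 33) (Step.U (nat_lit 32) (Step.U (nat_lit 18) (Step.U (nat_lit 4) (Step.D (nat_lit 6) (Step.F (nat_lit 13) (Step.D (nat_lit 28) (Step.F (nat_lit 34) (Step.B (nat_lit 37) (Step.D (nat_lit 29) Step.done)))))))))))))))))))))) (Scr.cons (nat_lit 0) (nat_lit 0) (Step.B (nat_lit 24) (Step.B (nat_lit 38) (Step.U (nat_lit 29) Step.done))) (Scr.cons (nat_lit 3) (nat_lit 1) (Step.D (nat_lit 31) (Step.B (nat_lit 39) (Step.U (nat_lit 16) Step.done))) (Scr.cons (nat_lit 2) (nat_lit 0) (Step.D (nat_lit 17) (Step.B (nat_lit 40) (Step.U (nat_lit 2) Step.done))) Scr.nil))))))))))))))))))))))))))))))))))))))))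
noncomputable def s1 : Scr := (Scr.cons (nat_lit 3) (nat_lit 1) (Step.D (nat_lit 3) (Step.B (nat_lit 41) Step.done)) Scr.nil)
noncomputable def E : Ex := (Ex.cons (nat_lit 4) (nat_lit 0) (nat_lit 0) (Ex.cons (nat_lit 2) (nat_lit 0) (nat_lit 1) (Ex.cons (nat_lit 3) (nat_lit 3) (nat_lit 42) Ex.nil)))
noncomputable def nd : Nat := (nat_lit 36)

end Cfsg.Agent.Lib.M11PAD
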