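import Cfsg.Agent.Lib.M12M8
import Cfsg.Agent.Lib.MTwelveOut
import Cfsg.Agent.Lib.H92MTwelve

set_option autoImplicit false
set_option linter.all false
set_option maxRecDepth 100000

/-! The centralizer of a 2-central involution of `M12`. -/

namespace Cfsg.Agent.Lib.M12Cent

open Cfsg Cfsg.Agent.Lib.Golay Cfsg.Agent.Lib.MTwelve Cfsg.Agent.Lib.M12B Cfsg.Agent.Lib.JTw
  Cfsg.Agent.Lib.H10Enum Cfsg.Agent.Lib.M12Tab Cfsg.Agent.Lib.M12DataB

def sc : ℕ := 892735891774019106164213520671967619
def ac : ℕ := 975718850453553687830466422727876992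
def bc : ℕ := 892717090176436960775298536527892867
def cc : ℕ := 482284885147592940775741385695891974
def dc : ℕ := 944321558958924292547252725888361580
def pc : ℕ := 819678984367160315062504411613373549
def tc : ℕ := 891437857390963374943912918542027264

theorem sc_ok : inN sc = true := by decide +kernel
theorem ac_ok : inN ac = true := by decide +kernel
theorem bc_ok : inN bc = true := by decide +kernel
theorem cc_ok : inN cc = true := by decide +kernel
theorem dc_ok : inN dc = true := by decide +kernel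
theorem pc_ok : inN pc = true := by decide +kernel
theorem tc_ok : inN tc = true := by decide +kernel

/-- products of codes -/
def pr : List ℕ → ℕ
  | [] => cId
  | a :: L => mulC a (pr L)

theorem pr_spec : ∀ L : List ℕ, (∀ c ∈ L, valid c = true) → valid (pr L) = true ∧ toPerm (pr L) = (L.map toPerm).prod
  | [], _ => ⟨by decide +kernel, by rw [List.map_nil, List.prod_nil]; exact toPerm_cId⟩
  | a :: L, h => by
    obtain ⟨h1, h2⟩ := pr_spec L (fun c hc => h c (List.mem_cons_of_mem _ hc))
    have h3 := h a List.mem_cons_self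
    refine ⟨valid_mulC h3 h1, ?_⟩
    show toPerm (mulC a (pr L)) = _
    rw [toPerm_mulC h3 h1, h2, List.map_cons, List.prod_cons]

theorem pr_one (L : List ℕ) (h : ∀ c ∈ L, valid c = true) (hL : pr L = cId) : (L.map toPerm).prod = 1 := by
  rw [← (pr_spec L h).2, hL]; exact toPerm_cId

noncomputable def sE : W := el sc sc_ok
noncomputable def aE : W := el ac ac_ok
noncomputable def bE : W := el bc bc_ok
noncomputable def cE : W := el cc cc_ok
noncomputable def dE : W := el dc dc_ok
noncomputable def pE : W := el pc pc_ok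
noncomputable def tE : W := el tc tc_ok

theorem vs : valid sc = true := valid_N sc_ok
theorem va : valid ac = true := valid_N ac_ok
theorem vb : valid bc = true := valid_N bc_ok
theorem vc : valid cc = true := valid_N cc_ok
theorem vd : valid dc = true := valid_N dc_ok
theorem vp : valid pc = true := valid_N pc_ok
theorem vt : valid tc = true := valid_N tc_ok

theorem pinv : pE⁻¹ = pE * pE := by
  rw [inv_eq_iff_mul_eq_one]
  apply Subtype.ext
  have h := pr_one [pc, pc, pc] (by simp [vp]) (by decide +kernel)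
  simpa [List.map_cons, List.prod_cons, pE, el] using h

theorem relE : Rel sE aE bE cE dE pE tE := by
  have key : ∀ (L : List ℕ) (h : ∀ c ∈ L, valid c = true) (hL : pr L = cId) (x : W), (x : Equiv.Perm GolayPt) = (L.map toPerm).prod →
      x = 1 := by
    intro L h hL x hx
    apply Subtype.ext
    rw [hx]; exact pr_one L h hL
  constructor
  · exact key [sc, sc] (by simp [vs, va, vb, vc, vd, vp, vt]) (by decide +kernel) _ (by simp [sE, el])
  · exact key [ac, ac] (by simp [vs, va, vb, vc, vd, vp, vt]) (by decide +kernel) _ (by simp [aE, el])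
  · exact key [bc, bc] (by simp [vs, va, vb, vc, vd, vp, vt]) (by decide +kernel) _ (by simp [bE, el])
  · exact key [cc, cc] (by simp [vs, va, vb, vc, vd, vp, vt]) (by decide +kernel) _ (by simp [cE, el])
  · exact key [dc, dc] (by simp [vs, va, vb, vc, vd, vp, vt]) (by decide +kernel) _ (by simp [dE, el])
  · exact key [tc, tc] (by simp [vs, va, vb, vc, vd, vp, vt]) (by decide +kernel) _ (by simp [tE, el])
  · exact key [sc, ac, sc, ac] (by simp [vs, va, vb, vc, vd, vp, vt]) (by decide +kernel) _ (by simp [sE, aE, el, mul_assoc])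
  · exact key [sc, bc, sc, bc] (by simp [vs, va, vb, vc, vd, vp, vt]) (by decide +kernel) _ (by simp [sE, bE, el, mul_assoc])
  · exact key [sc, cc, sc, cc] (by simp [vs, va, vb, vc, vd, vp, vt]) (by decide +kernel) _ (by simp [sE, cE, el, mul_assoc])
  · exact key [sc, dc, sc, dc] (by simp [vs, va, vb, vc, vd, vp, vt]) (by decide +kernel) _ (by simp [sE, dE, el, mul_assoc])
  · exact key [ac, bc, ac, bc] (by simp [vs, va, vb, vc, vd, vp, vt]) (by decide +kernel) _ (by simp [aE, bE, el, mul_assoc])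
  · exact key [cc, dc, cc, dc] (by simp [vs, va, vb, vc, vd, vp, vt]) (by decide +kernel) _ (by simp [cE, dE, el, mul_assoc])
  · exact key [ac, cc, ac, cc] (by simp [vs, va, vb, vc, vd, vp, vt]) (by decide +kernel) _ (by simp [cE, aE, el, mul_assoc])
  · exact key [bc, dc, bc, dc] (by simp [vs, va, vb, vc, vd, vp, vt]) (by decide +kernel) _ (by simp [bE, dE, el, mul_assoc])
  · exact key [ac, dc, ac, dc, sc] (by simp [vs, va, vb, vc, vd, vp, vt]) (by decide +kernel) _ (by simp [aE, dE, sE, el, mul_assoc])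
  · exact key [bc, cc, bc, cc, sc] (by simp [vs, va, vb, vc, vd, vp, vt]) (by decide +kernel) _ (by simp [bE, cE, sE, el, mul_assoc])
  · exact key [pc, pc, pc] (by simp [vs, va, vb, vc, vd, vp, vt]) (by decide +kernel) _ (by simp [pE, el, mul_assoc])
  · rw [pinv]
    exact key [sc, pc, sc, pc, pc] (by simp [vs, va, vb, vc, vd, vp, vt]) (by decide +kernel) _ (by simp [sE, pE, el, mul_assoc])
  · rw [pinv]
    exact key [pc, ac, pc, pc, bc] (by simp [vs, va, vb, vc, vd, vp, vt]) (by decide +kernel) _ (by simp [aE, bE, pE, el, mul_assoc])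
  · rw [pinv]
    exact key [pc, bc, pc, pc, bc, ac] (by simp [vs, va, vb, vc, vd, vp, vt]) (by decide +kernel) _ (by simp [aE, bE, pE, el, mul_assoc])
  · rw [pinv]
    exact key [pc, cc, pc, pc, dc] (by simp [vs, va, vb, vc, vd, vp, vt]) (by decide +kernel) _ (by simp [cE, dE, pE, el, mul_assoc])
  · rw [pinv]
    exact key [pc, dc, pc, pc, dc, cc] (by simp [vs, va, vb, vc, vd, vp, vt]) (by decide +kernel) _ (by simp [cE, dE, pE, el, mul_assoc])
  · exact key [sc, tc, sc, tc] (by simp [vs, va, vb, vc, vd, vp, vt]) (by decide +kernel) _ (by simp [sE, tE, el, mul_assoc])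
  · exact key [tc, pc, tc, pc] (by simp [vs, va, vb, vc, vd, vp, vt]) (by decide +kernel) _ (by simp [pE, tE, el, mul_assoc])
  · exact key [ac, tc, ac, tc] (by simp [vs, va, vb, vc, vd, vp, vt]) (by decide +kernel) _ (by simp [aE, tE, el, mul_assoc])
  · exact key [tc, bc, tc, bc, ac] (by simp [vs, va, vb, vc, vd, vp, vt]) (by decide +kernel) _ (by simp [aE, bE, tE, el, mul_assoc])
  · exact key [tc, cc, tc, sc, cc, ac] (by simp [vs, va, vb, vc, vd, vp, vt]) (by decide +kernel) _ (by simp [aE, cE, sE, tE, el, mul_assoc])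
  · exact key [tc, dc, tc, sc, dc, cc, bc, ac] (by simp [vs, va, vb, vc, vd, vp, vt]) (by decide +kernel) _ (by simp [aE, bE, cE, dE, sE, tE, el, mul_assoc])

theorem sE_ne : sE ≠ 1 := by
  intro h
  have h1 : toPerm sc = 1 := congrArg Subtype.val h
  have h2 := toPerm_pt vs (i := 0) (by norm_num)
  rw [h1] at h2
  have h3 : (pt 0 : GolayPt) = pt (img sc 0) := h2
  have h4 := congrArg ix h3
  rw [ix_pt (by norm_num), ix_pt (by decide +kernel)] at h4
  revert h4; decide +kernel

/-- in any group with these relations and `s ≠ 1`, the 192 elements are distinct -/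
theorem card_ge {G : Type*} [Group G] {s a b c d p t : G} (h : Rel s a b c d p t) (s1 : s ≠ 1)
    (hfin : Finite (Subgroup.centralizer ({s} : Set G))) : 192 ≤ Nat.card (Subgroup.centralizer ({s} : Set G)) := by
  have mm_lt : ∀ {i j : ℕ}, i < 192 → j < 192 → mm i j < 192 := fun hi hj => (h.table _ hi _ hj).1
  have v_mm : ∀ {i j : ℕ}, i < 192 → j < 192 → M12B.v s a b c d p t (mm i j) = M12B.v s a b c d p t i * M12B.v s a b c d p t j :=
    fun hi hj => (h.table _ hi _ hj).2
  have v0 : M12B.v s a b c d p t 0 = 1 := Rel.v_zero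
  have v1 : M12B.v s a b c d p t 1 = s := h.v_gen.1
  have v_iv : ∀ {i : ℕ}, i < 192 → M12B.v s a b c d p t (iv i) = (M12B.v s a b c d p t i)⁻¹ := by
    intro i hi
    obtain ⟨h1, h2⟩ := iv_spec hi
    have h3 := v_mm hi h1
    rw [h2, v0] at h3
    exact (inv_eq_of_mul_eq_one_right h3.symm).symm
  have cm_lt : ∀ {i j : ℕ}, i < 192 → j < 192 → cm i j < 192 := fun hi hj =>
    mm_lt (mm_lt (mm_lt hi hj) (iv_spec hi).1) (iv_spec hj).1
  have v_cm : ∀ {i j : ℕ}, i < 192 → j < 192 → M12B.v s a b c d p t (cm i j) = M12B.v s a b c d p t i *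
      M12B.v s a b c d p t j * (M12B.v s a b c d p t i)⁻¹ * (M12B.v s a b c d p t j)⁻¹ := by
    intro i j hi hj
    unfold cm
    rw [v_mm (mm_lt (mm_lt hi hj) (iv_spec hi).1) (iv_spec hj).1, v_mm (mm_lt hi hj) (iv_spec hi).1, v_mm hi hj,
      v_iv hi, v_iv hj]
  have ne_one : ∀ {k : ℕ}, k < 192 → k ≠ 0 → M12B.v s a b c d p t k ≠ 1 := by
    intro k hk h0 h'
    have hw := allB_spec 192 wit_ok k hk
    rw [Bool.or_eq_true, Bool.or_eq_true, Bool.and_eq_true, Bool.and_eq_true, Bool.or_eq_true] at hw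
    rcases hw with hw | hw | ⟨h1, h2, hw⟩
    · exact h0 (Nat.eq_of_beq_eq_true hw)
    · rw [Nat.eq_of_beq_eq_true hw, v1] at h'; exact s1 h'
    · have l1 : e8 w1 k < 192 := Nat.lt_of_lt_of_le (Nat.lt_succ_self _) (Nat.le_of_ble_eq_true h1)
      have l2 : e8 w2 k < 192 := Nat.lt_of_lt_of_le (Nat.lt_succ_self _) (Nat.le_of_ble_eq_true h2)
      have e1 := v_cm hk l1
      have e2 := v_cm (cm_lt hk l1) l2
      rw [h'] at e1
      have e3 : M12B.v s a b c d p t (cm k (e8 w1 k)) = 1 := by rw [e1]; group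
      rw [e3] at e2
      have e4 : M12B.v s a b c d p t (cm (cm k (e8 w1 k)) (e8 w2 k)) = 1 := by rw [e2]; group
      rcases hw with hw | hw
      · rw [Nat.eq_of_beq_eq_true hw, v1] at e3; exact s1 e3
      · rw [Nat.eq_of_beq_eq_true hw, v1] at e4; exact s1 e4
  have inj : ∀ {i j : ℕ}, i < 192 → j < 192 → M12B.v s a b c d p t i = M12B.v s a b c d p t j → i = j := by
    intro i j hi hj h'
    have h1 : M12B.v s a b c d p t (mm (iv i) j) = 1 := by rw [v_mm (iv_spec hi).1 hj, v_iv hi, h', inv_mul_cancel]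
    have h2 : mm (iv i) j = 0 := by
      by_contra h0
      exact ne_one (mm_lt (iv_spec hi).1 hj) h0 h1
    have h3 : ∀ i' < 192, ∀ j' < 192, mm (iv i') j' = 0 → i' = j' := by
      have : allB (fun i' => allB (fun j' => cond (Nat.beq (mm (iv i') j') 0) (Nat.beq i' j') true) 192) 192 = true := by
        decide +kernel
      intro i' hi' j' hj' h4
      have h5 := allB_spec 192 (allB_spec 192 this i' hi') j' hj'
      rw [h4] at h5
      exact Nat.eq_of_beq_eq_true h5
    exact h3 i hi j hj h2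
  have v_comm : ∀ {i : ℕ}, i < 192 → M12B.v s a b c d p t i * s = s * M12B.v s a b c d p t i := by
    intro i hi
    have h1 : M12B.v s a b c d p t i * M12B.v s a b c d p t 1 = M12B.v s a b c d p t 1 * M12B.v s a b c d p t i := by
      rw [← v_mm hi (by norm_num), ← v_mm (by norm_num) hi]
      rw [Nat.eq_of_beq_eq_true (allB_spec 192 cen_ok i hi)]
    rwa [v1] at h1
  let f : Fin 192 → Subgroup.centralizer ({s} : Set G) := fun i => ⟨M12B.v s a b c d p t i, mem_centralizer_one.2 (v_comm i.2)⟩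
  have hf : Function.Injective f := fun i j h' => Fin.ext (inj i.2 j.2 (congrArg Subtype.val h'))
  have := Nat.card_le_card_of_injective f hf
  rwa [Nat.card_eq_fintype_card, Fintype.card_fin] at this

open Cfsg.Agent.Lib.H92MTwelve (eq_one_of_five mem_DO_iff apply_mem)

abbrev DO' : Finset GolayPt := Spor.squareDodecad

theorem ix_lt (x : GolayPt) : ix x < 24 := by
  revert x; decide

theorem fixF {x : GolayPt} (hx : x ∈ DO') (h : toPerm sc x = x) : ix x = 2 ∨ ix x = 4 ∨ ix x = 8 ∨ ix x = 9 := by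
  rw [mem_DO_iff] at hx
  have h1 : img sc (ix x) = ix x := by
    rw [toPerm_apply vs] at h
    have h2 := congrArg ix h
    have h3 : allB (fun i => Nat.blt (img sc i) 24) 24 = true := by decide +kernel
    have h4 : img sc (ix x) < 24 := Nat.lt_of_lt_of_le (Nat.lt_succ_self _) (Nat.le_of_ble_eq_true (allB_spec 24 h3 _ (ix_lt x)))
    rwa [ix_pt h4] at h2
  have key : allB (fun i => cond ((340831 : ℕ).testBit i && Nat.beq (img sc i) i) (memB i [2, 4, 8, 9]) true) 24 = true := by
    decide +kernel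
  have h2 := allB_spec 24 key _ (ix_lt x)
  rw [hx, h1, Nat.beq_refl] at h2
  have h3 := (memB_iff _).1 h2
  simpa using h3

theorem movM {x : GolayPt} (hx : x ∈ DO') (h : toPerm sc x ≠ x) : ix x ∈ ({0, 1, 3, 6, 12, 13, 16, 18} : Finset ℕ) := by
  rw [mem_DO_iff] at hx
  have h1 : img sc (ix x) ≠ ix x := by
    intro h1
    apply h
    rw [toPerm_apply vs, h1, pt_ix]
  have key : allB (fun i => cond ((340831 : ℕ).testBit i) (Nat.beq (img sc i) i || memB i [0, 1, 3, 6, 12, 13, 16, 18]) true) 24 = true := by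
    decide +kernel
  have h2 := allB_spec 24 key _ (ix_lt x)
  rw [hx, cond_true, Bool.or_eq_true] at h2
  rcases h2 with h2 | h2
  · exact absurd (Nat.eq_of_beq_eq_true h2) h1
  · have h3 := (memB_iff _).1 h2
    simpa using h3

theorem fixF_conv : ∀ i ∈ ({2, 4, 8, 9} : Finset ℕ), toPerm sc (pt i) = pt i ∧ (pt i : GolayPt) ∈ DO' ∧ i < 24 := by
  intro i hi
  have h1 : i = 2 ∨ i = 4 ∨ i = 8 ∨ i = 9 := by simpa using hi
  have hlt : i < 24 := by omega
  refine ⟨?_, ?_, hlt⟩
  · rw [toPerm_pt vs hlt]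
    rcases h1 with rfl | rfl | rfl | rfl
    · exact congrArg pt (Nat.eq_of_beq_eq_true (by decide +kernel))
    · exact congrArg pt (Nat.eq_of_beq_eq_true (by decide +kernel))
    · exact congrArg pt (Nat.eq_of_beq_eq_true (by decide +kernel))
    · exact congrArg pt (Nat.eq_of_beq_eq_true (by decide +kernel))
  · rw [mem_DO_iff, ix_pt hlt]
    rcases h1 with rfl | rfl | rfl | rfl <;> decide +kernel

def TT : Finset (ℕ × ℕ × ℕ × ℕ) :=
  (({2, 4, 8, 9} : Finset ℕ) ×ˢ ({2, 4, 8, 9} : Finset ℕ) ×ˢ ({2, 4, 8, 9} : Finset ℕ) ×ˢ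
    ({0, 1, 3, 6, 12, 13, 16, 18} : Finset ℕ)).filter (fun x => x.1 ≠ x.2.1 ∧ x.1 ≠ x.2.2.1 ∧ x.2.1 ≠ x.2.2.1)

theorem card_TT : TT.card = 192 := by decide +kernel

theorem card_le : Nat.card (Subgroup.centralizer ({sE} : Set W)) ≤ 192 := by
  classical
  have comm : ∀ g : Subgroup.centralizer ({sE} : Set W), ∀ x : GolayPt,
      ((g : W) : Equiv.Perm GolayPt) (toPerm sc x) = toPerm sc (((g : W) : Equiv.Perm GolayPt) x) := by
    intro g x
    have h1 := mem_centralizer_one.1 g.2
    have h2 : ((g : W) : Equiv.Perm GolayPt) * toPerm sc = toPerm sc * ((g : W) : Equiv.Perm GolayPt) := congrArg Subtype.val h1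
    have h3 := congrArg (fun z : Equiv.Perm GolayPt => z x) h2
    exact h3
  have hfix : ∀ g : Subgroup.centralizer ({sE} : Set W), ∀ i ∈ ({2, 4, 8, 9} : Finset ℕ),
      ix (((g : W) : Equiv.Perm GolayPt) (pt i)) ∈ ({2, 4, 8, 9} : Finset ℕ) := by
    intro g i hi
    obtain ⟨h1, h2, h3⟩ := fixF_conv i hi
    have h4 : ((g : W) : Equiv.Perm GolayPt) (pt i) ∈ DO' := apply_mem (g : W).2 h2
    have h5 := comm g (pt i)
    rw [h1] at h5
    have h6 := fixF h4 h5.symm
    simpa using h6
  have h0 : (pt 0 : GolayPt) ∈ DO' := by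
    rw [mem_DO_iff, ix_pt (by norm_num)]; decide +kernel
  have hmov : ∀ g : Subgroup.centralizer ({sE} : Set W),
      ix (((g : W) : Equiv.Perm GolayPt) (pt 0)) ∈ ({0, 1, 3, 6, 12, 13, 16, 18} : Finset ℕ) := by
    intro g
    have h4 : ((g : W) : Equiv.Perm GolayPt) (pt 0) ∈ DO' := apply_mem (g : W).2 h0
    refine movM h4 (fun h5 => ?_)
    rw [← comm g] at h5
    have h6 := ((g : W) : Equiv.Perm GolayPt).injective h5
    rw [toPerm_pt vs (by norm_num)] at h6
    have h7 := congrArg ix h6
    rw [ix_pt (by decide +kernel), ix_pt (by norm_num)] at h7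
    revert h7; decide +kernel
  have hne : ∀ g : Equiv.Perm GolayPt, ∀ i j : ℕ, i < 24 → j < 24 → i ≠ j → ix (g (pt i)) ≠ ix (g (pt j)) := by
    intro g i j hi hj hij h
    have h1 := congrArg pt h
    rw [pt_ix, pt_ix] at h1
    have h2 := congrArg ix (g.injective h1)
    rw [ix_pt hi, ix_pt hj] at h2
    exact hij h2
  let f : Subgroup.centralizer ({sE} : Set W) → TT := fun g =>
    ⟨(ix (((g : W) : Equiv.Perm GolayPt) (pt 2)), ix (((g : W) : Equiv.Perm GolayPt) (pt 4)),
      ix (((g : W) : Equiv.Perm GolayPt) (pt 8)), ix (((g : W) : Equiv.Perm GolayPt) (pt 0))), by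
      unfold TT
      rw [Finset.mem_filter, Finset.mem_product, Finset.mem_product, Finset.mem_product]
      exact ⟨⟨hfix g 2 (by simp), hfix g 4 (by simp), hfix g 8 (by simp), hmov g⟩,
        hne _ _ _ (by norm_num) (by norm_num) (by norm_num), hne _ _ _ (by norm_num) (by norm_num) (by norm_num),
        hne _ _ _ (by norm_num) (by norm_num) (by norm_num)⟩⟩
  have hf : Function.Injective f := by
    intro g h hgh
    have e := congrArg Subtype.val hgh
    have e2 : ix (((g : W) : Equiv.Perm GolayPt) (pt 2)) = ix (((h : W) : Equiv.Perm GolayPt) (pt 2)) := congrArg Prod.fst e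
    have e4 : ix (((g : W) : Equiv.Perm GolayPt) (pt 4)) = ix (((h : W) : Equiv.Perm GolayPt) (pt 4)) :=
      congrArg (fun z => z.2.1) e
    have e8 : ix (((g : W) : Equiv.Perm GolayPt) (pt 8)) = ix (((h : W) : Equiv.Perm GolayPt) (pt 8)) :=
      congrArg (fun z => z.2.2.1) e
    have e0 : ix (((g : W) : Equiv.Perm GolayPt) (pt 0)) = ix (((h : W) : Equiv.Perm GolayPt) (pt 0)) :=
      congrArg (fun z => z.2.2.2) e
    have e9 : ix (((g : W) : Equiv.Perm GolayPt) (pt 9)) = ix (((h : W) : Equiv.Perm GolayPt) (pt 9)) := by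
      have key : ∀ x ∈ ({2, 4, 8, 9} : Finset ℕ), ∀ y ∈ ({2, 4, 8, 9} : Finset ℕ), ∀ z ∈ ({2, 4, 8, 9} : Finset ℕ),
          ∀ u ∈ ({2, 4, 8, 9} : Finset ℕ), ∀ w ∈ ({2, 4, 8, 9} : Finset ℕ), x ≠ y → x ≠ z → y ≠ z →
          u ≠ x → u ≠ y → u ≠ z → w ≠ x → w ≠ y → w ≠ z → u = w := by decide
      refine key _ (hfix g 2 (by simp)) _ (hfix g 4 (by simp)) _ (hfix g 8 (by simp)) _ (hfix g 9 (by simp)) _
        (hfix h 9 (by simp)) (hne _ _ _ (by norm_num) (by norm_num) (by norm_num))
        (hne _ _ _ (by norm_num) (by norm_num) (by norm_num)) (hne _ _ _ (by norm_num) (by norm_num) (by norm_num))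
        (hne _ _ _ (by norm_num) (by norm_num) (by norm_num)) (hne _ _ _ (by norm_num) (by norm_num) (by norm_num))
        (hne _ _ _ (by norm_num) (by norm_num) (by norm_num)) ?_ ?_ ?_
      · rw [e2]; exact hne _ _ _ (by norm_num) (by norm_num) (by norm_num)
      · rw [e4]; exact hne _ _ _ (by norm_num) (by norm_num) (by norm_num)
      · rw [e8]; exact hne _ _ _ (by norm_num) (by norm_num) (by norm_num)
    have pts : ∀ i, ix (((g : W) : Equiv.Perm GolayPt) (pt i)) = ix (((h : W) : Equiv.Perm GolayPt) (pt i)) →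
        (((h : W)⁻¹ * (g : W) : W) : Equiv.Perm GolayPt) (pt i) = pt i := by
      intro i hi
      have h1 := congrArg pt hi
      rw [pt_ix, pt_ix] at h1
      rw [Subgroup.coe_mul, Subgroup.coe_inv, Equiv.Perm.mul_apply, h1]
      exact Equiv.symm_apply_apply _ _
    have hm : ∀ i ∈ ({2, 4, 8, 9} : Finset ℕ), (pt i : GolayPt) ∈ DO' := fun i hi => (fixF_conv i hi).2.1
    have h1 : (((h : W)⁻¹ * (g : W) : W) : Equiv.Perm GolayPt) = 1 := by
      refine eq_one_of_five ((h : W)⁻¹ * (g : W)).2 (l := [pt 2, pt 4, pt 8, pt 9, pt 0]) (by decide) rfl ?_ ?_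
      · intro x hx
        simp only [List.mem_cons, List.not_mem_nil, or_false] at hx
        rcases hx with rfl | rfl | rfl | rfl | rfl
        · exact hm 2 (by simp)
        · exact hm 4 (by simp)
        · exact hm 8 (by simp)
        · exact hm 9 (by simp)
        · exact h0
      · intro x hx
        simp only [List.mem_cons, List.not_mem_nil, or_false] at hx
        rcases hx with rfl | rfl | rfl | rfl | rfl
        · exact pts 2 e2
        · exact pts 4 e4
        · exact pts 8 e8
        · exact pts 9 e9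
        · exact pts 0 e0
    have h2 : (h : W)⁻¹ * (g : W) = 1 := Subtype.ext h1
    exact Subtype.ext (inv_mul_eq_one.1 h2).symm
  have h1 := Nat.card_le_card_of_injective f hf
  rwa [Nat.card_eq_fintype_card (α := TT), Fintype.card_coe, card_TT] at h1

theorem card_eq : Nat.card (Subgroup.centralizer ({sE} : Set W)) = 192 :=
  le_antisymm card_le (card_ge relE sE_ne inferInstance)

end Cfsg.Agent.Lib.M12Cent
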