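import Mathlib
import Cfsg.Agent.Lib.M12O

/-!
# Degrees of irreducible characters of the simple groups of order 95040 (helper19)

There are irreducible characters whose degrees are divisible by 33 and by 55.
-/

set_option autoImplicit false
set_option linter.all false

namespace Cfsg.Agent.Lib.M12DegX

open Subgroup Cfsg Cfsg.Agent.Lib.CharBasic Cfsg.Agent.Lib.ColTools Cfsg.Agent.Lib.SmallSimple
  Cfsg.Agent.Lib.PBlock Cfsg.Agent.Lib.M12ByOrder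
open scoped ComplexConjugate

universe u

theorem ar_a : ∀ a ∈ Nat.divisors 8640, a ≤ 21 → ((11 * a + 4) % 5 = 0 → a = 1 ∨ a = 6 ∨ a = 16) ∧
    ((11 * a + 1) % 5 = 0 → a = 4 ∨ a = 9) := by decide +kernel

variable {G : Type u} [Group G] [Finite G] [IsSimpleGroup G] {x y s t : G} {A : Fin 4 → IrrCharacter G} {m : Fin 4 → ℤ}
  {Y : IrrCharacter G} {a : ℤ} {V W σ : IrrCharacter G → ℤ} {N0 N1 : IrrCharacter G → ℕ} {X : Finset (IrrCharacter G)}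
  {B1 B2 : IrrCharacter G}

theorem C_notMem (D : Dat x y s t A m Y a V W σ N0 N1 X B1 B2) {χ : IrrCharacter G} (hX : χ ∈ X) (h1 : χ ≠ triv G) (h3 : χ ≠ A 3) :
    χ ∉ [triv G, A 0, A 1, A 2, A 3, Y, cc Y, B1, B2] := by
  obtain ⟨x1, x2, x3, -⟩ := D.T.notX
  have hV := (D.T.F.inX χ hX).2
  simp only [List.mem_cons, List.not_mem_nil, or_false, not_or]
  refine ⟨h1, ?_, ?_, ?_, h3, ?_, ?_, ?_, ?_⟩
  · rintro rfl; rw [D.T.V0] at hV; norm_num at hV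
  · rintro rfl; exact x1 hX
  · rintro rfl; rw [D.T.V2] at hV; norm_num at hV
  · rintro rfl; exact x2 hX
  · rintro rfl; exact x3 hX
  · rintro rfl; exact D.B.b1.1 hX
  · rintro rfl; exact D.B.b2.1 hX

theorem eleven_dvd_of_notMem (D : Dat x y s t A m Y a V W σ N0 N1 X B1 B2) {χ : IrrCharacter G}
    (h : χ ∉ [triv G, A 0, A 1, A 2, A 3, Y, cc Y, B1, B2]) : 11 ∣ deg χ := by
  simp only [List.mem_cons, List.not_mem_nil, or_false, not_or] at h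
  obtain ⟨h0, h1, h2, h3, h4, h5, h6, -, -⟩ := h
  refine (D.T.b.out χ h0 ?_ h5 h6).2.2
  intro i
  fin_cases i
  · exact h1
  · exact h2
  · exact h3
  · exact h4

theorem C_data (hG : Nat.card G = 95040) (D : Dat x y s t A m Y a V W σ N0 N1 X B1 B2) {χ : IrrCharacter G} (hX : χ ∈ X)
    (h1 : χ ≠ triv G) (h3 : χ ≠ A 3) : ∃ k : ℕ, deg χ = 11 * k ∧ ((V χ = 1 ∧ (k = 1 ∨ k = 6 ∨ k = 16)) ∨ (V χ = -1 ∧ (k = 4 ∨ k = 9))) := by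
  have hn := C_notMem D hX h1 h3
  obtain ⟨k, hk⟩ := eleven_dvd_of_notMem D hn
  refine ⟨k, hk, ?_⟩
  have hnd : (χ :: [triv G, A 0, A 1, A 2, A 3, Y, cc Y, B1, B2]).Nodup := List.nodup_cons.2 ⟨hn, D.B.nodup⟩
  have h4 := list_le hnd (fun χ => deg χ ^ 2)
  obtain ⟨d0, d1, d2, d3, dY, -⟩ := D.T.degs
  rw [sum_deg_sq, hG] at h4
  simp only [List.map_cons, List.map_nil, List.sum_cons, List.sum_nil, deg_triv, deg_cc, d0, d1, d2, d3, dY, D.d1, D.d2, hk] at h4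
  have hk21 : k ≤ 21 := by
    by_contra hlt
    have : 22 ^ 2 ≤ k ^ 2 := Nat.pow_le_pow_left (by omega) 2
    rw [mul_pow] at h4
    omega
  have hkd : k ∈ Nat.divisors 8640 := by
    rw [Nat.mem_divisors]
    refine ⟨?_, by norm_num⟩
    have h5 := deg_dvd χ
    rw [hG, hk, show 95040 = 11 * 8640 by norm_num] at h5
    exact Nat.dvd_of_mul_dvd_mul_left (by norm_num) h5
  have h6 := ar_a k hkd hk21
  have h7 := (D.T.F.val χ).D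
  rw [hk] at h7
  rcases (D.T.F.inX χ hX).2 with h8 | h8
  · left
    refine ⟨h8, h6.1 ?_⟩
    rw [h8] at h7
    push_cast at h7
    omega
  · right
    refine ⟨h8, h6.2 ?_⟩
    rw [h8] at h7
    push_cast at h7
    omega

/-- the three other members of the principal 5-block -/
theorem exists_C (D : Dat x y s t A m Y a V W σ N0 N1 X B1 B2) : ∃ C1 C2 C3 : IrrCharacter G,
    C1 ≠ C2 ∧ C1 ≠ C3 ∧ C2 ≠ C3 ∧ (C1 ∈ X ∧ C1 ≠ triv G ∧ C1 ≠ A 3) ∧ (C2 ∈ X ∧ C2 ≠ triv G ∧ C2 ≠ A 3) ∧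
      (C3 ∈ X ∧ C3 ≠ triv G ∧ C3 ≠ A 3) ∧ (∀ χ ∈ X, χ = triv G ∨ χ = A 3 ∨ χ = C1 ∨ χ = C2 ∨ χ = C3) ∧
      ∀ f : IrrCharacter G → ℂ, ∑ χ ∈ X, f χ = f (triv G) + (f (A 3) + (f C1 + (f C2 + f C3))) := by
  classical
  have hA3 : A 3 ∈ X := D.T.notX.2.2.2
  have ht := D.T.F.tX
  have hne : A 3 ≠ triv G := D.T.b.At 3
  have hA3' : A 3 ∈ X.erase (triv G) := Finset.mem_erase.2 ⟨hne, hA3⟩
  have hcard : ((X.erase (triv G)).erase (A 3)).card = 3 := by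
    rw [Finset.card_erase_of_mem hA3', Finset.card_erase_of_mem ht, D.T.F.cardX]
  obtain ⟨C1, C2, C3, h12, h13, h23, hC⟩ := Finset.card_eq_three.1 hcard
  have hmem : ∀ χ, χ ∈ ({C1, C2, C3} : Finset (IrrCharacter G)) → χ ∈ X ∧ χ ≠ triv G ∧ χ ≠ A 3 := by
    intro χ hχ
    rw [← hC, Finset.mem_erase, Finset.mem_erase] at hχ
    exact ⟨hχ.2.2, hχ.2.1, hχ.1⟩
  refine ⟨C1, C2, C3, h12, h13, h23, hmem _ (by simp), hmem _ (by simp), hmem _ (by simp), ?_, ?_⟩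
  · intro χ hχ
    by_cases h1 : χ = triv G
    · exact Or.inl h1
    by_cases h2 : χ = A 3
    · exact Or.inr (Or.inl h2)
    right; right
    have h3 : χ ∈ (X.erase (triv G)).erase (A 3) := Finset.mem_erase.2 ⟨h2, Finset.mem_erase.2 ⟨h1, hχ⟩⟩
    rw [hC] at h3
    simpa using h3
  · intro f
    rw [← Finset.add_sum_erase _ _ ht, ← Finset.add_sum_erase _ _ hA3', hC, Finset.sum_insert (by simp [h12, h13]),
      Finset.sum_pair h23]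

theorem deg_inj_cast {G : Type u} [Group G] {χ : IrrCharacter G} : (χ : G → ℂ) 1 = deg χ := apply_one χ

theorem C_sums (D : Dat x y s t A m Y a V W σ N0 N1 X B1 B2) {C1 C2 C3 : IrrCharacter G}
    (hsum : ∀ f : IrrCharacter G → ℂ, ∑ χ ∈ X, f χ = f (triv G) + (f (A 3) + (f C1 + (f C2 + f C3)))) :
    (V C1 * deg C1 + V C2 * deg C2 + V C3 * deg C3 = 143) ∧ V C1 * σ C1 + V C2 * σ C2 + V C3 * σ C3 = 3 := by
  have hys := D.T.F.ys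
  have hVt : V (triv G) = 1 := by
    have h1 := (D.T.F.val (triv G)).V1
    rw [triv_apply] at h1
    exact_mod_cast h1.symm
  have h1 := (D.T.F.orth (g := 1) (not_conj_of_order (by rw [hys.hy, orderOf_one]; norm_num))
    (not_conj_of_order (by rw [hys.oys, orderOf_one]; norm_num))).1
  have h2 := (D.T.F.orth (g := s) (not_conj_of_order (by rw [hys.hy, hys.hs]; norm_num))
    (not_conj_of_order (by rw [hys.oys, hys.hs]; norm_num))).1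
  have hsi : s⁻¹ = s := by rw [inv_eq_iff_mul_eq_one, ← pow_two, hys.s2]
  rw [hsum] at h1 h2
  obtain ⟨-, -, -, d3, -⟩ := D.T.degs
  constructor
  · rw [inv_one, hVt, D.T.V3] at h1
    simp only [apply_one, deg_triv, d3] at h1
    push_cast at h1
    have : ((V C1 * deg C1 + V C2 * deg C2 + V C3 * deg C3 : ℤ) : ℂ) = ((143 : ℤ) : ℂ) := by
      push_cast
      linear_combination h1
    exact_mod_cast this
  · rw [hsi, hVt, D.T.V3, (D.T.F.val C1).S1, (D.T.F.val C2).S1, (D.T.F.val C3).S1, (D.T.F.val (A 3)).S1, D.T.σ3, triv_apply] at h2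
    push_cast at h2
    have : ((V C1 * σ C1 + V C2 * σ C2 + V C3 * σ C3 : ℤ) : ℂ) = ((3 : ℤ) : ℂ) := by
      push_cast
      linear_combination h2
    exact_mod_cast this

theorem C_norm (D : Dat x y s t A m Y a V W σ N0 N1 X B1 B2) {C1 C2 C3 : IrrCharacter G}
    (h12 : C1 ≠ C2) (h13 : C1 ≠ C3) (h23 : C2 ≠ C3) (h1 : C1 ∈ X ∧ C1 ≠ triv G ∧ C1 ≠ A 3)
    (h2 : C2 ∈ X ∧ C2 ≠ triv G ∧ C2 ≠ A 3) (h3 : C3 ∈ X ∧ C3 ≠ triv G ∧ C3 ≠ A 3) :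
    (C1 :: C2 :: C3 :: [triv G, A 0, A 1, A 2, A 3, Y, cc Y, B1, B2]).Nodup ∧
    σ C1 ^ 2 + σ C2 ^ 2 + σ C3 ^ 2 ≤ 128 := by
  have n1 := C_notMem D h1.1 h1.2.1 h1.2.2
  have n2 := C_notMem D h2.1 h2.2.1 h2.2.2
  have n3 := C_notMem D h3.1 h3.2.1 h3.2.2
  have hnd : (C1 :: C2 :: C3 :: [triv G, A 0, A 1, A 2, A 3, Y, cc Y, B1, B2]).Nodup := by
    refine List.nodup_cons.2 ⟨?_, List.nodup_cons.2 ⟨?_, List.nodup_cons.2 ⟨n3, D.B.nodup⟩⟩⟩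
    · rw [List.mem_cons, List.mem_cons, not_or, not_or]
      exact ⟨h12, h13, n1⟩
    · rw [List.mem_cons, not_or]
      exact ⟨h23, n2⟩
  refine ⟨hnd, ?_⟩
  have h := norm_list hnd (g := s) (f := σ) (fun χ _ => (D.T.F.val χ).S1)
  have hσt : σ (triv G) = 1 := by
    have h1 := (D.T.F.val (triv G)).S1
    rw [triv_apply] at h1
    exact_mod_cast h1.symm
  rw [D.T.Cs] at h
  simp only [List.map_cons, List.map_nil, List.sum_cons, List.sum_nil, hσt, D.T.σ0, D.T.σ1, D.T.σ2, D.T.σ3, D.T.σY,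
    (D.T.cc_vals).2.2, D.σ1, D.σ2] at h
  push_cast at h
  linarith

theorem ar_s (k n0 n1 : ℕ) (v z : ℤ) (hD : 11 * (k : ℤ) + 4 * v = 5 * ((n0 : ℤ) + n1)) (hS : z + 4 * v = 5 * ((n0 : ℤ) - n1))
    (hp : (11 * (k : ℤ) - z) % 4 = 0) (hl : -(11 * (k : ℤ)) < z ∧ z < 11 * (k : ℤ)) :
    (v = 1 → k = 1 → z = -9) ∧ (v = -1 → k = 4 → -6 ≤ z → z ≤ 6 → z = 4) ∧ (v = 1 → k = 16 → -6 ≤ z → z ≤ 6 → z = -4) := by
  refine ⟨fun hv hk => ?_, fun hv hk h1 h2 => ?_, fun hv hk h1 h2 => ?_⟩ <;> subst hv hk <;> omega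

theorem σ_val (D : Dat x y s t A m Y a V W σ N0 N1 X B1 B2) {C : IrrCharacter G} (hX : C ∈ X) (h1 : C ≠ triv G)
    {k : ℕ} (hk : deg C = 11 * k) : (V C = 1 → k = 1 → σ C = -9) ∧
      (V C = -1 → k = 4 → σ C ^ 2 ≤ 47 → σ C = 4) ∧ (V C = 1 → k = 16 → σ C ^ 2 ≤ 47 → σ C = -4) := by
  have v := D.T.F.val C
  have hW := (D.T.F.inX C hX).1
  have hD := v.D
  have hS := v.S
  have hp := v.par4
  have hl := v.lt h1
  rw [hW] at hS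
  rw [hk] at hD hp hl
  push_cast at hD hp hl
  obtain ⟨g1, g2, g3⟩ := ar_s k _ _ _ _ hD hS hp hl
  refine ⟨g1, fun hV hk1 h47 => g2 hV hk1 ?_ ?_, fun hV hk1 h47 => g3 hV hk1 ?_ ?_⟩ <;> nlinarith

theorem ar_perm (v1 v2 v3 : ℤ) (k1 k2 k3 : ℕ) (e : v1 * (11 * (k1 : ℤ)) + v2 * (11 * (k2 : ℤ)) + v3 * (11 * (k3 : ℤ)) = 143)
    (r1 : (v1 = 1 ∧ (k1 = 1 ∨ k1 = 16)) ∨ (v1 = -1 ∧ k1 = 4)) (r2 : (v2 = 1 ∧ (k2 = 1 ∨ k2 = 16)) ∨ (v2 = -1 ∧ k2 = 4))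
    (r3 : (v3 = 1 ∧ (k3 = 1 ∨ k3 = 16)) ∨ (v3 = -1 ∧ k3 = 4)) :
    (v1 = 1 ∧ k1 = 1 ∧ v2 = 1 ∧ k2 = 16 ∧ v3 = -1 ∧ k3 = 4) ∨ (v1 = 1 ∧ k1 = 1 ∧ v3 = 1 ∧ k3 = 16 ∧ v2 = -1 ∧ k2 = 4) ∨
    (v2 = 1 ∧ k2 = 1 ∧ v1 = 1 ∧ k1 = 16 ∧ v3 = -1 ∧ k3 = 4) ∨ (v2 = 1 ∧ k2 = 1 ∧ v3 = 1 ∧ k3 = 16 ∧ v1 = -1 ∧ k1 = 4) ∨
    (v3 = 1 ∧ k3 = 1 ∧ v1 = 1 ∧ k1 = 16 ∧ v2 = -1 ∧ k2 = 4) ∨ (v3 = 1 ∧ k3 = 1 ∧ v2 = 1 ∧ k2 = 16 ∧ v1 = -1 ∧ k1 = 4) := by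
  rcases r1 with ⟨rfl, rfl | rfl⟩ | ⟨rfl, rfl⟩ <;> rcases r2 with ⟨rfl, rfl | rfl⟩ | ⟨rfl, rfl⟩ <;>
    rcases r3 with ⟨rfl, rfl | rfl⟩ | ⟨rfl, rfl⟩ <;> revert e <;> decide

theorem ar_fin (z1 z2 z3 : ℤ) (h1 : z1 = -9) (h2 : z2 ^ 2 ≤ 47 → z2 = -4) (h3 : z3 ^ 2 ≤ 47 → z3 = 4)
    (q : z1 ^ 2 + z2 ^ 2 + z3 ^ 2 ≤ 128) (e : z1 + z2 - z3 = 3) : False := by
  have q2 := sq_nonneg z2
  have q3 := sq_nonneg z3
  subst h1
  have h4 := h2 (by linarith)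
  have h5 := h3 (by linarith)
  subst h4 h5
  norm_num at e

theorem ar_r (v : ℤ) (k : ℕ) (h : ¬ 33 ∣ 11 * k) (c : (v = 1 ∧ (k = 1 ∨ k = 6 ∨ k = 16)) ∨ (v = -1 ∧ (k = 4 ∨ k = 9))) :
    (v = 1 ∧ (k = 1 ∨ k = 16)) ∨ (v = -1 ∧ k = 4) := by
  rcases c with ⟨rfl, rfl | rfl | rfl⟩ | ⟨rfl, rfl | rfl⟩
  · exact Or.inl ⟨rfl, Or.inl rfl⟩
  · exact absurd (by norm_num) h
  · exact Or.inl ⟨rfl, Or.inr rfl⟩
  · exact Or.inr ⟨rfl, rfl⟩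
  · exact absurd (by norm_num) h

theorem ar_55 (v1 v2 v3 : ℤ) (k1 k2 k3 : ℕ) (e : v1 * (11 * (k1 : ℤ)) + v2 * (11 * (k2 : ℤ)) + v3 * (11 * (k3 : ℤ)) = 143)
    (c1 : (v1 = 1 ∧ (k1 = 1 ∨ k1 = 6 ∨ k1 = 16)) ∨ (v1 = -1 ∧ (k1 = 4 ∨ k1 = 9)))
    (c2 : (v2 = 1 ∧ (k2 = 1 ∨ k2 = 6 ∨ k2 = 16)) ∨ (v2 = -1 ∧ (k2 = 4 ∨ k2 = 9)))
    (c3 : (v3 = 1 ∧ (k3 = 1 ∨ k3 = 6 ∨ k3 = 16)) ∨ (v3 = -1 ∧ (k3 = 4 ∨ k3 = 9)))
    (h : k1 ^ 2 + k2 ^ 2 + k3 ^ 2 = 448) : False := by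
  rcases c1 with ⟨rfl, rfl | rfl | rfl⟩ | ⟨rfl, rfl | rfl⟩ <;> rcases c2 with ⟨rfl, rfl | rfl | rfl⟩ | ⟨rfl, rfl | rfl⟩ <;>
    rcases c3 with ⟨rfl, rfl | rfl | rfl⟩ | ⟨rfl, rfl | rfl⟩ <;> revert e h <;> decide

theorem exists_33 (hG : Nat.card G = 95040) : ∃ χ : IrrCharacter G, 33 ∣ deg χ := by
  by_contra hno
  push Not at hno
  obtain ⟨x, y, s, A, m, Y, a, V, W, σ, N0, N1, X, T⟩ := exists_tot hG
  obtain ⟨t, B1, B2, D⟩ := exists_dat hG T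
  obtain ⟨C1, C2, C3, h12, h13, h23, h1, h2, h3, -, hsum⟩ := exists_C D
  obtain ⟨e1, e2⟩ := C_sums D hsum
  obtain ⟨-, e3⟩ := C_norm D h12 h13 h23 h1 h2 h3
  obtain ⟨k1, d1, c1⟩ := C_data hG D h1.1 h1.2.1 h1.2.2
  obtain ⟨k2, d2, c2⟩ := C_data hG D h2.1 h2.2.1 h2.2.2
  obtain ⟨k3, d3, c3⟩ := C_data hG D h3.1 h3.2.1 h3.2.2
  have n1 := hno C1
  have n2 := hno C2
  have n3 := hno C3
  have s1 := σ_val D h1.1 h1.2.1 d1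
  have s2 := σ_val D h2.1 h2.2.1 d2
  have s3 := σ_val D h3.1 h3.2.1 d3
  rw [d1, d2, d3] at e1
  rw [d1] at n1
  rw [d2] at n2
  rw [d3] at n3
  push_cast at e1
  have r1 := ar_r _ _ n1 c1
  have r2 := ar_r _ _ n2 c2
  have r3 := ar_r _ _ n3 c3
  rcases ar_perm _ _ _ _ _ _ e1 r1 r2 r3 with ⟨w1, l1, w2, l2, w3, l3⟩ | ⟨w1, l1, w2, l2, w3, l3⟩ | ⟨w1, l1, w2, l2, w3, l3⟩ |
    ⟨w1, l1, w2, l2, w3, l3⟩ | ⟨w1, l1, w2, l2, w3, l3⟩ | ⟨w1, l1, w2, l2, w3, l3⟩ <;> rw [w1, w2, w3] at e2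
  · exact ar_fin _ _ _ (s1.1 w1 l1) (s2.2.2 w2 l2) (s3.2.1 w3 l3) (by linarith) (by linarith)
  · exact ar_fin _ _ _ (s1.1 w1 l1) (s3.2.2 w2 l2) (s2.2.1 w3 l3) (by linarith) (by linarith)
  · exact ar_fin _ _ _ (s2.1 w1 l1) (s1.2.2 w2 l2) (s3.2.1 w3 l3) (by linarith) (by linarith)
  · exact ar_fin _ _ _ (s2.1 w1 l1) (s3.2.2 w2 l2) (s1.2.1 w3 l3) (by linarith) (by linarith)
  · exact ar_fin _ _ _ (s3.1 w1 l1) (s1.2.2 w2 l2) (s2.2.1 w3 l3) (by linarith) (by linarith)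
  · exact ar_fin _ _ _ (s3.1 w1 l1) (s2.2.2 w2 l2) (s1.2.1 w3 l3) (by linarith) (by linarith)

theorem exists_55 (hG : Nat.card G = 95040) : ∃ χ : IrrCharacter G, 55 ∣ deg χ := by
  by_contra hno
  push Not at hno
  obtain ⟨x, y, s, A, m, Y, a, V, W, σ, N0, N1, X, T⟩ := exists_tot hG
  obtain ⟨t, B1, B2, D⟩ := exists_dat hG T
  obtain ⟨C1, C2, C3, h12, h13, h23, h1, h2, h3, hall, hsum⟩ := exists_C D
  obtain ⟨e1, e2⟩ := C_sums D hsum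
  obtain ⟨hnd, e3⟩ := C_norm D h12 h13 h23 h1 h2 h3
  obtain ⟨k1, d1, c1⟩ := C_data hG D h1.1 h1.2.1 h1.2.2
  obtain ⟨k2, d2, c2⟩ := C_data hG D h2.1 h2.2.1 h2.2.2
  obtain ⟨k3, d3, c3⟩ := C_data hG D h3.1 h3.2.1 h3.2.2
  have hmem : ∀ χ, χ ∈ C1 :: C2 :: C3 :: [triv G, A 0, A 1, A 2, A 3, Y, cc Y, B1, B2] := by
    intro χ
    by_contra hχ
    have hχ' := hχ
    simp only [List.mem_cons, List.not_mem_nil, or_false, not_or] at hχ'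
    obtain ⟨g1, g2, g3, g4, g5, g6, g7, g8, g9, g10, g11, g12⟩ := hχ'
    have hX : χ ∉ X := by
      intro h
      rcases hall χ h with h | h | h | h | h
      · exact g4 h
      · exact g8 h
      · exact g1 h
      · exact g2 h
      · exact g3 h
    have hV : V χ = 0 := D.B.rest χ hX g6 g9 g10 g11 g12
    have h5 : 5 ∣ deg χ := by
      have h6 := (D.T.F.val χ).D
      rw [hV] at h6
      have : (5 : ℤ) ∣ deg χ := ⟨_, by rw [mul_zero, add_zero] at h6; exact h6⟩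
      exact_mod_cast this
    have h11 : 11 ∣ deg χ := eleven_dvd_of_notMem D (by
      simp only [List.mem_cons, List.not_mem_nil, or_false, not_or]
      exact ⟨g4, g5, g6, g7, g8, g9, g10, g11, g12⟩)
    exact hno χ (by
      have := Nat.Coprime.mul_dvd_of_dvd_of_dvd (by norm_num : Nat.Coprime 5 11) h5 h11
      simpa using this)
  have h4 := sum_list _ hnd (fun χ => deg χ ^ 2) (fun χ hχ => absurd (hmem χ) hχ)
  obtain ⟨g0, g1, g2, g3, gY, -⟩ := D.T.degs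
  rw [sum_deg_sq, hG] at h4
  simp only [List.map_cons, List.map_nil, List.sum_cons, List.sum_nil, deg_triv, deg_cc, g0, g1, g2, g3, gY, D.d1, D.d2, d1, d2, d3] at h4
  rw [d1, d2, d3] at e1
  push_cast at e1
  refine ar_55 _ _ _ _ _ _ e1 c1 c2 c3 ?_
  nlinarith

end Cfsg.Agent.Lib.M12DegX
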