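import Cfsg.Agent.Lib.M12M9
import Cfsg.Agent.Lib.M12Cent
import Cfsg.Agent.Lib.M12Q

set_option autoImplicit false
set_option linter.all false

/-! Recognition of `M12` from the centralizer of a 2-central involution. -/

namespace Cfsg.Agent.Lib.M12Cent

open Cfsg Cfsg.Agent.Lib Cfsg.Agent.Lib.MTwelve Cfsg.Agent.Lib.M12B

/-- the data in `M12` -/
noncomputable def D0 : DB W where
  s := sE
  a := aE
  b := bE
  c := cE
  d := dE
  p := pE
  t := tE
  rel := relE
  s1 := sE_ne
  card := card_eq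

/-- a simple group of order 95040 is `M12` -/
theorem isoM12_of_card {G : Type*} [Group G] [Finite G] [IsSimpleGroup G] (h : Nat.card G = 95040) :
    Cfsg.Spor.IsoM12 G := by
  haveI := simple_W
  exact M12ByOrder.unique_95040 h card_W

theorem main {G : Type*} [Group G] [Finite G] [IsSimpleGroup G]
    (u : ↥Cfsg.Spor.M12) (hu : Cfsg.IsTwoCentralInvolution u)
    (t : G) (ht : orderOf t = 2) (e : ↥(Subgroup.centralizer ({t} : Set G)) ≃* ↥(Subgroup.centralizer ({u} : Set ↥Cfsg.Spor.M12))) :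
    Cfsg.Spor.IsoM12 G := by
  obtain ⟨hu2, hP⟩ := hu
  have hu1 : u ≠ 1 := by
    rintro rfl
    rw [orderOf_one] at hu2
    omega
  obtain ⟨D1, rfl⟩ := D0.exists_conj hu1 hP
  obtain ⟨ht2, ht1⟩ := InvAct.orderOf_two_iff.1 ht
  obtain ⟨D2, -⟩ := DB.transport D1 ht2 ht1 e
  exact isoM12_of_card D2.simple

end Cfsg.Agent.Lib.M12Cent
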