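import Cfsg.Agent.Lib.M12RelB
import Cfsg.Agent.Lib.JTw2
import Cfsg.Agent.Lib.InvAct

set_option autoImplicit false
set_option linter.all false
set_option maxRecDepth 100000

/-! Groups with an involution centralizer as in `M12`: the centralizer. -/

namespace Cfsg.Agent.Lib.M12B

open Cfsg.Agent.Lib.H10Enum Cfsg.Agent.Lib.M12Tab Cfsg.Agent.Lib.M12DataB Cfsg.Agent.Lib.JTw

/-- inverses -/
def ivt : ℕ := 0x767a868f6b3f82537b4a96b4a247a4b066ae9fac994c739ca341a5b1a7b35c3ead9869a89b9aab9e5eb595578a658190bc858d84809330782bbd8e8c2eb9918b33797d28b7be7e8832bf5b74a94064566f4b6059bb1c9d4315af9271635a506d199744a175626c1f94703d54b84645614f4e11aa6eb63b48b252515d681ea672baa0553a493c39312f2c350c7f77388937832d36872a297c2726251d1a1621065842246a10235f181322671417124d1b0f0e0d340b0a09080720050403020100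
def iv (i : ℕ) : ℕ := e8 ivt i
/-- multiplication of nodes -/
def mm (i j : ℕ) : ℕ := ent mt i j
def w1 : ℕ := 0x20202020302020202020e2503020e1002250e100302020e0302250e030302020e03020e25100303020e100203020e02020e3d020303020202020e0202020e03020210020202020202020e0202020e023d020203030202020202020e07020202020202020e0203020202020702020202071002020202020702020202020202020202020302033d020303100202020202030202030202130203043d02030310020202020202030202030302020313020203041302020304051302020304050000
def w2 : ℕ := 0x40404040004040404040000000400000400000000040400000400000000040400000400000000000400000400040000040000040000040404040004040400000404000404040404040400000400000000000400000404040404040000000004040400040000000404000000040004000000040400040000040004000404040004040000000000000505000404040004050400050400000400000000050500040404000400050400000504000000040000000004000000000004000000000000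
/-- commutators -/
def cm (i j : ℕ) : ℕ := mm (mm (mm i j) (iv i)) (iv j)
/-- conjugates -/
def cj (i j : ℕ) : ℕ := mm (mm i j) (iv i)

/-- all numbers below `n` -/
def allB (p : ℕ → Bool) : ℕ → Bool
  | 0 => true
  | n + 1 => p n && allB p n

theorem allB_spec {p : ℕ → Bool} : ∀ n, allB p n = true → ∀ i < n, p i = true
  | 0, _ => by intro i hi; omega
  | n + 1, h => by
    rw [allB, Bool.and_eq_true] at h
    intro i hi
    rcases Nat.lt_succ_iff_lt_or_eq.1 hi with hi | rfl
    · exact allB_spec n h.2 i hi
    · exact h.1

/-- some number below `n` -/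
def exB (p : ℕ → Bool) : ℕ → Bool
  | 0 => false
  | n + 1 => p n || exB p n

theorem exB_spec {p : ℕ → Bool} : ∀ n, exB p n = true → ∃ i < n, p i = true
  | 0, h => by simp [exB] at h
  | n + 1, h => by
    rw [exB, Bool.or_eq_true] at h
    rcases h with h | h
    · exact ⟨n, Nat.lt_succ_self _, h⟩
    · obtain ⟨i, hi, h⟩ := exB_spec n h
      exact ⟨i, Nat.lt_succ_of_lt hi, h⟩

/-- membership -/
def memB (c : ℕ) : List ℕ → Bool
  | [] => false
  | a :: L => Nat.beq c a || memB c L

theorem memB_iff {c : ℕ} : ∀ L : List ℕ, memB c L = true ↔ c ∈ L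
  | [] => by simp [memB]
  | a :: L => by
    rw [memB, Bool.or_eq_true, memB_iff L, List.mem_cons]
    constructor
    · rintro (h | h)
      · exact Or.inl (Nat.eq_of_beq_eq_true h)
      · exact Or.inr h
    · rintro (h | h)
      · left; rw [h]; exact Nat.beq_refl _
      · exact Or.inr h

def LR : List ℕ := [2, 3, 8, 9, 14, 38]
def LZ : List ℕ := [4, 5, 10, 11, 15, 20, 24, 39, 42, 45, 116, 144]
def LT : List ℕ := [7, 13, 18, 33, 37, 41, 53, 57, 72, 78, 79, 84, 99, 111, 125, 141, 149, 154, 155, 165, 172, 174, 176, 180]

theorem iv_ok : allB (fun i => Nat.blt (iv i) 192 && Nat.beq (mm i (iv i)) 0) 192 = true := by decide +kernel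
theorem wit_ok : allB (fun k => Nat.beq k 0 || (Nat.beq k 1 || (Nat.blt (e8 w1 k) 192 && (Nat.blt (e8 w2 k) 192 &&
    (Nat.beq (cm k (e8 w1 k)) 1 || Nat.beq (cm (cm k (e8 w1 k)) (e8 w2 k)) 1))))) 192 = true := by decide +kernel
theorem cen_ok : allB (fun k => Nat.beq (mm k 1) (mm 1 k)) 192 = true := by decide +kernel
theorem typ_ok : allB (fun k => cond (Nat.beq (mm k k) 0) (Nat.beq k 0 || (Nat.beq k 1 || (memB k LR || (memB k LZ || memB k LT)))) true)
    192 = true := by decide +kernel
theorem cjR_ok : allB (fun k => Nat.beq (cond (memB k LR) 1 0) (cond (exB (fun i => Nat.beq (cj i 2) k) 192) 1 0)) 192 = true := by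
  decide +kernel
theorem cjZ_ok : allB (fun k => Nat.beq (cond (memB k LZ) 1 0) (cond (exB (fun i => Nat.beq (cj i 4) k) 192) 1 0)) 192 = true := by
  decide +kernel
theorem cjT_ok : allB (fun k => Nat.beq (cond (memB k LT) 1 0) (cond (exB (fun i => Nat.beq (cj i 7) k) 192) 1 0)) 192 = true := by
  decide +kernel

end Cfsg.Agent.Lib.M12B
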