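import Cfsg.Agent.Lib.M12M1

set_option autoImplicit false
set_option linter.all false
set_option maxRecDepth 100000

/-! Groups with an involution centralizer as in `M12`: basic facts. -/

namespace Cfsg.Agent.Lib.M12B

open Cfsg.Agent.Lib.H10Enum Cfsg.Agent.Lib.M12Tab Cfsg.Agent.Lib.M12DataB Cfsg.Agent.Lib.JTw

theorem iv_spec {i : ℕ} (hi : i < 192) : iv i < 192 ∧ mm i (iv i) = 0 := by
  have h := allB_spec 192 iv_ok i hi
  rw [Bool.and_eq_true] at h
  exact ⟨Nat.lt_of_lt_of_le (Nat.lt_succ_self _) (Nat.le_of_ble_eq_true h.1), Nat.eq_of_beq_eq_true h.2⟩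

structure DB (G : Type*) [Group G] where
  s : G
  a : G
  b : G
  c : G
  d : G
  p : G
  t : G
  rel : Rel s a b c d p t
  s1 : s ≠ 1
  card : Nat.card (Subgroup.centralizer ({s} : Set G)) = 192

namespace DB

variable {G : Type*} [Group G] (D : DB G)

/-- the elements of the centralizer -/
noncomputable def v (i : ℕ) : G := M12B.v D.s D.a D.b D.c D.d D.p D.t i

theorem v0 : D.v 0 = 1 := Rel.v_zero
theorem v1 : D.v 1 = D.s := D.rel.v_gen.1
theorem v2 : D.v 2 = D.a := D.rel.v_gen.2.1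
theorem v3 : D.v 3 = D.b := D.rel.v_gen.2.2.1
theorem v4 : D.v 4 = D.c := D.rel.v_gen.2.2.2.1
theorem v5 : D.v 5 = D.d := D.rel.v_gen.2.2.2.2.1
theorem v6 : D.v 6 = D.p := D.rel.v_gen.2.2.2.2.2.1
theorem v7 : D.v 7 = D.t := D.rel.v_gen.2.2.2.2.2.2

include D in
theorem mm_lt {i j : ℕ} (hi : i < 192) (hj : j < 192) : mm i j < 192 := (D.rel.table i hi j hj).1
theorem v_mm {i j : ℕ} (hi : i < 192) (hj : j < 192) : D.v (mm i j) = D.v i * D.v j := (D.rel.table i hi j hj).2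
theorem v_iv {i : ℕ} (hi : i < 192) : D.v (iv i) = (D.v i)⁻¹ := by
  obtain ⟨h1, h2⟩ := iv_spec hi
  have h3 := D.v_mm hi h1
  rw [h2, v0] at h3
  exact (inv_eq_of_mul_eq_one_right h3.symm).symm
include D in
theorem cm_lt {i j : ℕ} (hi : i < 192) (hj : j < 192) : cm i j < 192 :=
  D.mm_lt (D.mm_lt (D.mm_lt hi hj) (iv_spec hi).1) (iv_spec hj).1
theorem v_cm {i j : ℕ} (hi : i < 192) (hj : j < 192) : D.v (cm i j) = D.v i * D.v j * (D.v i)⁻¹ * (D.v j)⁻¹ := by
  unfold cm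
  rw [D.v_mm (D.mm_lt (D.mm_lt hi hj) (iv_spec hi).1) (iv_spec hj).1, D.v_mm (D.mm_lt hi hj) (iv_spec hi).1, D.v_mm hi hj,
    D.v_iv hi, D.v_iv hj]
theorem v_cj {i j : ℕ} (hi : i < 192) (hj : j < 192) : D.v (cj i j) = D.v i * D.v j * (D.v i)⁻¹ := by
  unfold cj
  rw [D.v_mm (D.mm_lt hi hj) (iv_spec hi).1, D.v_mm hi hj, D.v_iv hi]
include D in
theorem cj_lt {i j : ℕ} (hi : i < 192) (hj : j < 192) : cj i j < 192 :=
  D.mm_lt (D.mm_lt hi hj) (iv_spec hi).1

theorem ne_one {k : ℕ} (hk : k < 192) (h0 : k ≠ 0) : D.v k ≠ 1 := by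
  intro h
  have hw := allB_spec 192 wit_ok k hk
  rw [Bool.or_eq_true, Bool.or_eq_true, Bool.and_eq_true, Bool.and_eq_true, Bool.or_eq_true] at hw
  rcases hw with hw | hw | ⟨h1, h2, hw⟩
  · exact h0 (Nat.eq_of_beq_eq_true hw)
  · rw [Nat.eq_of_beq_eq_true hw, v1] at h; exact D.s1 h
  · have l1 : e8 w1 k < 192 := Nat.lt_of_lt_of_le (Nat.lt_succ_self _) (Nat.le_of_ble_eq_true h1)
    have l2 : e8 w2 k < 192 := Nat.lt_of_lt_of_le (Nat.lt_succ_self _) (Nat.le_of_ble_eq_true h2)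
    have e1 := D.v_cm hk l1
    have e2 := D.v_cm (D.cm_lt hk l1) l2
    rw [h] at e1
    have e3 : D.v (cm k (e8 w1 k)) = 1 := by rw [e1]; group
    rw [e3] at e2
    have e4 : D.v (cm (cm k (e8 w1 k)) (e8 w2 k)) = 1 := by rw [e2]; group
    rcases hw with hw | hw
    · rw [Nat.eq_of_beq_eq_true hw, v1] at e3; exact D.s1 e3
    · rw [Nat.eq_of_beq_eq_true hw, v1] at e4; exact D.s1 e4

theorem inj {i j : ℕ} (hi : i < 192) (hj : j < 192) (h : D.v i = D.v j) : i = j := by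
  have h1 : D.v (mm (iv i) j) = 1 := by rw [D.v_mm (iv_spec hi).1 hj, D.v_iv hi, h, inv_mul_cancel]
  have h2 : mm (iv i) j = 0 := by
    by_contra h0
    exact D.ne_one (D.mm_lt (iv_spec hi).1 hj) h0 h1
  -- `iv i` is injective as the inverse
  have h3 : ∀ i' < 192, ∀ j' < 192, mm (iv i') j' = 0 → i' = j' := by
    have : allB (fun i' => allB (fun j' => cond (Nat.beq (mm (iv i') j') 0) (Nat.beq i' j') true) 192) 192 = true := by
      decide +kernel
    intro i' hi' j' hj' h4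
    have h5 := allB_spec 192 (allB_spec 192 this i' hi') j' hj'
    rw [h4] at h5
    exact Nat.eq_of_beq_eq_true h5
  exact h3 i hi j hj h2

theorem eq_iff {i j : ℕ} (hi : i < 192) (hj : j < 192) : D.v i = D.v j ↔ i = j :=
  ⟨D.inj hi hj, fun h => by rw [h]⟩

theorem comm_iff {i j : ℕ} (hi : i < 192) (hj : j < 192) : D.v i * D.v j = D.v j * D.v i ↔ mm i j = mm j i := by
  rw [← D.v_mm hi hj, ← D.v_mm hj hi]
  exact D.eq_iff (D.mm_lt hi hj) (D.mm_lt hj hi)

theorem v_comm {i : ℕ} (hi : i < 192) : D.v i * D.s = D.s * D.v i := by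
  rw [← D.v1, D.comm_iff hi (by norm_num)]
  exact Nat.eq_of_beq_eq_true (allB_spec 192 cen_ok i hi)

theorem exists_v {g : G} (hg : g * D.s = D.s * g) : ∃ i < 192, g = D.v i := by
  have hfin : Finite (Subgroup.centralizer ({D.s} : Set G)) := Nat.finite_of_card_ne_zero (by rw [D.card]; norm_num)
  let f : Fin 192 → Subgroup.centralizer ({D.s} : Set G) := fun i => ⟨D.v i, mem_centralizer_one.2 (D.v_comm i.2)⟩
  have hf : Function.Injective f := fun i j h => Fin.ext (D.inj i.2 j.2 (congrArg Subtype.val h))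
  have hb : Function.Bijective f := by
    have := Fintype.ofFinite (Subgroup.centralizer ({D.s} : Set G))
    refine (Fintype.bijective_iff_injective_and_card f).2 ⟨hf, ?_⟩
    rw [Fintype.card_fin, ← Nat.card_eq_fintype_card, D.card]
  obtain ⟨i, hi⟩ := hb.2 ⟨g, mem_centralizer_one.2 hg⟩
  exact ⟨i, i.2, (congrArg Subtype.val hi).symm⟩

theorem s_sq : D.s * D.s = 1 := D.rel.ss
theorem s_ord : orderOf D.s = 2 := InvAct.orderOf_two_iff.2 ⟨D.s_sq, D.s1⟩

/-- the number of elements of the centralizer given by a list -/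
theorem ncard_list (L : List ℕ) (hL : ∀ i ∈ L, i < 192) (hn : L.Nodup) (A : Set G)
    (hA : ∀ g, g ∈ A ↔ ∃ i ∈ L, g = D.v i) : A.ncard = L.length := by
  classical
  have h1 : A = D.v '' (L.toFinset : Set ℕ) := by
    ext g
    rw [hA]
    constructor
    · rintro ⟨i, hi, rfl⟩; exact ⟨i, by simpa using hi, rfl⟩
    · rintro ⟨i, hi, rfl⟩; exact ⟨i, by simpa using hi, rfl⟩
  rw [h1, Set.ncard_image_of_injOn, Set.ncard_coe_finset, List.toFinset_card_of_nodup hn]
  intro i hi j hj h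
  exact D.inj (hL i (by simpa using hi)) (hL j (by simpa using hj)) h

theorem card_cent_node {k : ℕ} (hk : k < 192) (L : List ℕ)
    (hc : allB (fun i => Nat.beq (cond (Nat.beq (mm i k) (mm k i)) 1 0) (cond (memB i L) 1 0)) 192 = true)
    (hL : ∀ i ∈ L, i < 192) (hn : L.Nodup) :
    Nat.card ↥(Subgroup.centralizer ({D.s} : Set G) ⊓ Subgroup.centralizer ({D.v k} : Set G)) = L.length := by
  rw [show Nat.card ↥(Subgroup.centralizer ({D.s} : Set G) ⊓ Subgroup.centralizer ({D.v k} : Set G)) =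
    ((Subgroup.centralizer ({D.s} : Set G) ⊓ Subgroup.centralizer ({D.v k} : Set G) : Subgroup G) : Set G).ncard from
    Nat.card_coe_set_eq _]
  apply D.ncard_list L hL hn
  intro g
  have key : ∀ i < 192, (mm i k = mm k i ↔ i ∈ L) := by
    intro i hi
    have h := allB_spec 192 hc i hi
    have h' : cond (Nat.beq (mm i k) (mm k i)) 1 0 = cond (memB i L) 1 0 := Nat.eq_of_beq_eq_true h
    rw [← memB_iff]
    constructor
    · intro h1
      rw [h1, Nat.beq_refl] at h'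
      cases hm : memB i L with
      | true => rfl
      | false => rw [hm] at h'; simp at h'
    · intro h1
      rw [h1] at h'
      cases hm : Nat.beq (mm i k) (mm k i) with
      | true => exact Nat.eq_of_beq_eq_true hm
      | false => rw [hm] at h'; simp at h'
  constructor
  · rintro ⟨h1, h2⟩
    obtain ⟨i, hi, rfl⟩ := D.exists_v (mem_centralizer_one.1 h1)
    exact ⟨i, (key i hi).1 ((D.comm_iff hi hk).1 (mem_centralizer_one.1 h2)), rfl⟩
  · rintro ⟨i, hi, rfl⟩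
    have hi' := hL i hi
    exact ⟨mem_centralizer_one.2 (D.v_comm hi'), mem_centralizer_one.2 ((D.comm_iff hi' hk).2 ((key i hi').2 hi))⟩

end DB

theorem card_cent_conj {G : Type*} [Group G] (g x y : G) :
    Nat.card ↥(Subgroup.centralizer ({g * x * g⁻¹} : Set G) ⊓ Subgroup.centralizer ({g * y * g⁻¹} : Set G)) =
    Nat.card ↥(Subgroup.centralizer ({x} : Set G) ⊓ Subgroup.centralizer ({y} : Set G)) := by
  have key : ∀ (g x c : G), c ∈ Subgroup.centralizer ({x} : Set G) → g * c * g⁻¹ ∈ Subgroup.centralizer ({g * x * g⁻¹} : Set G) := by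
    intro g x c hc
    rw [mem_centralizer_one] at hc ⊢
    rw [← cj_mul, ← cj_mul, hc]
  refine Nat.card_congr ⟨fun c => ⟨g⁻¹ * c * g, ?_⟩, fun c => ⟨g * c * g⁻¹, ?_⟩, ?_, ?_⟩
  · have h1 := key g⁻¹ _ _ c.2.1
    have h2 := key g⁻¹ _ _ c.2.2
    have e1 : ∀ z : G, g⁻¹ * (g * z * g⁻¹) * g⁻¹⁻¹ = z := by intro z; group
    rw [e1] at h1 h2
    rw [inv_inv] at h1 h2
    exact ⟨h1, h2⟩
  · exact ⟨key g _ _ c.2.1, key g _ _ c.2.2⟩
  · intro c; apply Subtype.ext; show g * (g⁻¹ * c * g) * g⁻¹ = c; group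
  · intro c; apply Subtype.ext; show g⁻¹ * (g * c * g⁻¹) * g = c; group

namespace DB

variable {G : Type*} [Group G] (D : DB G)

def TR (x : G) : Prop := ∃ g, g * D.s = D.s * g ∧ g * D.a * g⁻¹ = x
def TZ (x : G) : Prop := ∃ g, g * D.s = D.s * g ∧ g * D.c * g⁻¹ = x
def TT (x : G) : Prop := ∃ g, g * D.s = D.s * g ∧ g * D.t * g⁻¹ = x

theorem cj_of {k r : ℕ} {L : List ℕ} (hr : r < 192) (h : allB (fun k => Nat.beq (cond (memB k L) 1 0)
    (cond (exB (fun i => Nat.beq (cj i r) k) 192) 1 0)) 192 = true) (hk : k < 192) :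
    k ∈ L ↔ ∃ g, g * D.s = D.s * g ∧ g * D.v r * g⁻¹ = D.v k := by
  have h1 : cond (memB k L) 1 0 = cond (exB (fun i => Nat.beq (cj i r) k) 192) 1 0 :=
    Nat.eq_of_beq_eq_true (allB_spec 192 h k hk)
  rw [← memB_iff]
  constructor
  · intro h2
    rw [h2] at h1
    cases he : exB (fun i => Nat.beq (cj i r) k) 192 with
    | false => rw [he] at h1; simp at h1
    | true =>
      obtain ⟨i, hi, hik⟩ := exB_spec 192 he
      refine ⟨D.v i, D.v_comm hi, ?_⟩
      rw [← D.v_cj hi hr, Nat.eq_of_beq_eq_true hik]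
  · rintro ⟨g, hg, hgk⟩
    obtain ⟨i, hi, rfl⟩ := D.exists_v hg
    rw [← D.v_cj hi hr] at hgk
    have h3 := D.inj (D.cj_lt hi hr) hk hgk
    cases hm : memB k L with
    | true => rfl
    | false =>
      rw [hm] at h1
      have h4 : exB (fun i => Nat.beq (cj i r) k) 192 = true := by
        have aux : ∀ n, i < n → exB (fun i => Nat.beq (cj i r) k) n = true := by
          intro n
          induction n with
          | zero => intro h; omega
          | succ n ih =>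
            intro h
            rw [exB, Bool.or_eq_true]
            rcases Nat.lt_succ_iff_lt_or_eq.1 h with h | rfl
            · exact Or.inr (ih h)
            · left; show Nat.beq (cj i r) k = true; rw [h3]; exact Nat.beq_refl _
        exact aux 192 hi
      rw [h4] at h1; simp at h1

theorem TR_iff {k : ℕ} (hk : k < 192) : D.TR (D.v k) ↔ k ∈ LR := by
  unfold TR; rw [D.cj_of (r := 2) (by norm_num) cjR_ok hk, D.v2]
theorem TZ_iff {k : ℕ} (hk : k < 192) : D.TZ (D.v k) ↔ k ∈ LZ := by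
  unfold TZ; rw [D.cj_of (r := 4) (by norm_num) cjZ_ok hk, D.v4]
theorem TT_iff {k : ℕ} (hk : k < 192) : D.TT (D.v k) ↔ k ∈ LT := by
  unfold TT; rw [D.cj_of (r := 7) (by norm_num) cjT_ok hk, D.v7]

theorem types {x : G} (hxs : x * D.s = D.s * x) (hx2 : x * x = 1) (hx1 : x ≠ 1) :
    x = D.s ∨ D.TR x ∨ D.TZ x ∨ D.TT x := by
  obtain ⟨k, hk, rfl⟩ := D.exists_v hxs
  have h := allB_spec 192 typ_ok k hk
  have h2 : mm k k = 0 := by
    rw [← D.v_mm hk hk, ← D.v0] at hx2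
    exact D.inj (D.mm_lt hk hk) (by norm_num) hx2
  rw [h2, Nat.beq_refl, cond_true, Bool.or_eq_true, Bool.or_eq_true, Bool.or_eq_true, Bool.or_eq_true] at h
  rcases h with h | h | h | h | h
  · rw [Nat.eq_of_beq_eq_true h, D.v0] at hx1; exact absurd rfl hx1
  · left; rw [Nat.eq_of_beq_eq_true h, D.v1]
  · right; left; rw [D.TR_iff hk]; exact (memB_iff _).1 h
  · right; right; left; rw [D.TZ_iff hk]; exact (memB_iff _).1 h
  · right; right; right; rw [D.TT_iff hk]; exact (memB_iff _).1 h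

/-- the number of common centralizing elements -/
noncomputable def cc (x : G) : ℕ :=
  Nat.card ↥(Subgroup.centralizer ({D.s} : Set G) ⊓ Subgroup.centralizer ({x} : Set G))

theorem cc_conj {g x : G} (hg : g * D.s = D.s * g) : D.cc (g * x * g⁻¹) = D.cc x := by
  unfold cc
  have h := card_cent_conj g D.s x
  rw [cj_eq_self.2 hg] at h
  exact h

def C2 : List ℕ := [0, 1, 2, 3, 4, 7, 8, 9, 10, 13, 14, 15, 18, 19, 22, 23, 26, 34, 35, 38, 39, 41, 44, 47, 54, 55, 58, 60, 72, 79, 84, 99]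
def C4 : List ℕ := [0, 1, 2, 4, 5, 8, 10, 11, 15, 16, 24, 27, 39, 45, 61, 85]
def C7 : List ℕ := [0, 1, 2, 7, 8, 13, 18, 41]

theorem C2_ok : allB (fun i => Nat.beq (cond (Nat.beq (mm i 2) (mm 2 i)) 1 0) (cond (memB i C2) 1 0)) 192 = true := by
  decide +kernel
theorem C4_ok : allB (fun i => Nat.beq (cond (Nat.beq (mm i 4) (mm 4 i)) 1 0) (cond (memB i C4) 1 0)) 192 = true := by
  decide +kernel
theorem C7_ok : allB (fun i => Nat.beq (cond (Nat.beq (mm i 7) (mm 7 i)) 1 0) (cond (memB i C7) 1 0)) 192 = true := by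
  decide +kernel

theorem cc_a : D.cc D.a = 32 := by
  rw [← D.v2]; exact D.card_cent_node (by norm_num) C2 C2_ok (by decide) (by decide)
theorem cc_c : D.cc D.c = 16 := by
  rw [← D.v4]; exact D.card_cent_node (by norm_num) C4 C4_ok (by decide) (by decide)
theorem cc_t : D.cc D.t = 8 := by
  rw [← D.v7]; exact D.card_cent_node (by norm_num) C7 C7_ok (by decide) (by decide)

theorem TR.cc {x : G} (h : D.TR x) : D.cc x = 32 := by
  obtain ⟨g, hg, rfl⟩ := h; rw [D.cc_conj hg, D.cc_a]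
theorem TZ.cc {x : G} (h : D.TZ x) : D.cc x = 16 := by
  obtain ⟨g, hg, rfl⟩ := h; rw [D.cc_conj hg, D.cc_c]
theorem TT.cc {x : G} (h : D.TT x) : D.cc x = 8 := by
  obtain ⟨g, hg, rfl⟩ := h; rw [D.cc_conj hg, D.cc_t]

/-- two involutions of the centralizer with the same number of common centralizing elements are conjugate -/
theorem conj_of_cc {x y : G} (hx : x * D.s = D.s * x) (hx2 : x * x = 1) (hx1 : x ≠ 1) (hxs : x ≠ D.s)
    (hy : y * D.s = D.s * y) (hy2 : y * y = 1) (hy1 : y ≠ 1) (hys : y ≠ D.s) (h : D.cc x = D.cc y) :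
    ∃ g, g * D.s = D.s * g ∧ g * x * g⁻¹ = y := by
  have comb : ∀ {z : G}, (∃ g, g * D.s = D.s * g ∧ g * z * g⁻¹ = x) → (∃ g, g * D.s = D.s * g ∧ g * z * g⁻¹ = y) →
      ∃ g, g * D.s = D.s * g ∧ g * x * g⁻¹ = y := by
    rintro z ⟨g, hg, rfl⟩ ⟨k, hk, rfl⟩
    refine ⟨k * g⁻¹, ?_, by group⟩
    have hg' := inv_comm_iff.2 hg
    rw [mul_assoc, hg', ← mul_assoc, hk, mul_assoc]
  rcases D.types hx hx2 hx1 with h1 | h1 | h1 | h1
  · exact absurd h1 hxs
  all_goals rcases D.types hy hy2 hy1 with h2 | h2 | h2 | h2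
  · exact absurd h2 hys
  · exact comb h1 h2
  · rw [TR.cc D h1, TZ.cc D h2] at h; omega
  · rw [TR.cc D h1, TT.cc D h2] at h; omega
  · exact absurd h2 hys
  · rw [TZ.cc D h1, TR.cc D h2] at h; omega
  · exact comb h1 h2
  · rw [TZ.cc D h1, TT.cc D h2] at h; omega
  · exact absurd h2 hys
  · rw [TT.cc D h1, TR.cc D h2] at h; omega
  · rw [TT.cc D h1, TZ.cc D h2] at h; omega
  · exact comb h1 h2

/-- commuting conjugates can be swapped -/
theorem swap {x : G} (hx : x * D.s = D.s * x) (hxs : x ≠ D.s) (hc : IsConj D.s x) :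
    ∃ g, g * D.s * g⁻¹ = x ∧ g * x * g⁻¹ = D.s := by
  obtain ⟨k, hk⟩ := isConj_iff.1 hc
  have hx2 : x * x = 1 := by rw [← hk, cj_sq, D.s_sq]; group
  have hx1 : x ≠ 1 := by rw [← hk]; intro h; exact D.s1 (cj_eq_one.1 h)
  set y := k⁻¹ * D.s * k with hy
  have e1 : k * y * k⁻¹ = D.s := by rw [hy]; group
  have hys : y * D.s = D.s * y := by
    have h1 : k * (y * D.s) * k⁻¹ = k * (D.s * y) * k⁻¹ := by
      rw [cj_mul k y D.s, cj_mul k D.s y, e1, hk, hx]
    exact cj_inj h1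
  have hy2 : y * y = 1 := by
    have : y * y = k⁻¹ * (D.s * D.s) * k := by rw [hy]; group
    rw [this, D.s_sq]; group
  have hy1 : y ≠ 1 := by
    intro h; rw [h] at e1; exact D.s1 (by rw [← e1]; group)
  have hne : y ≠ D.s := by
    intro h; rw [h, hk] at e1; exact hxs e1
  have hcc : D.cc y = D.cc x := by
    unfold cc
    have h := card_cent_conj k D.s y
    rw [e1, hk] at h
    rw [← h, inf_comm]
  obtain ⟨g, hg, hgy⟩ := D.conj_of_cc hys hy2 hy1 hne hx hx2 hx1 hxs hcc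
  refine ⟨g * k⁻¹, ?_, ?_⟩
  · rw [← hgy, hy]; group
  · have : g * k⁻¹ * x * (g * k⁻¹)⁻¹ = g * (k⁻¹ * x * k) * g⁻¹ := by group
    rw [this, ← hk]
    have : k⁻¹ * (k * D.s * k⁻¹) * k = D.s := by group
    rw [this]; exact cj_eq_self.2 hg

end DB

end Cfsg.Agent.Lib.M12B
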