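import Cfsg.Agent.Lib.M12M2
import Cfsg.Agent.Lib.ZStarU
import Cfsg.Prelude.Def_IsolatedElements

set_option autoImplicit false
set_option linter.all false
set_option maxRecDepth 100000

/-! Groups with an involution centralizer as in `M12`: fusion. -/

namespace Cfsg.Agent.Lib.M12B

open Cfsg Cfsg.Agent.Lib.H10Enum Cfsg.Agent.Lib.M12Tab Cfsg.Agent.Lib.M12DataB Cfsg.Agent.Lib.JTw

theorem sqC_ok : allB (fun i => cond (memB i DB.C4) (Nat.beq (mm i i) 0 || Nat.beq (mm i i) 1) true) 192 = true := by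
  decide +kernel

namespace DB

variable {G : Type*} [Group G] (D : DB G)

theorem mem_list {k : ℕ} (hk : k < 192) {L : List ℕ}
    (hc : allB (fun i => Nat.beq (cond (Nat.beq (mm i k) (mm k i)) 1 0) (cond (memB i L) 1 0)) 192 = true)
    {i : ℕ} (hi : i < 192) : mm i k = mm k i ↔ i ∈ L := by
  have h' : cond (Nat.beq (mm i k) (mm k i)) 1 0 = cond (memB i L) 1 0 := Nat.eq_of_beq_eq_true (allB_spec 192 hc i hi)
  rw [← memB_iff]
  constructor
  · intro h1
    rw [h1, Nat.beq_refl] at h'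
    cases hm : memB i L with
    | true => rfl
    | false => rw [hm] at h'; simp at h'
  · intro h1
    rw [h1] at h'
    cases hm : Nat.beq (mm i k) (mm k i) with
    | true => exact Nat.eq_of_beq_eq_true hm
    | false => rw [hm] at h'; simp at h'

/-- elements commuting with `s` and `c` -/
theorem exists_C4 {x : G} (hs : x * D.s = D.s * x) (hc : x * D.c = D.c * x) : ∃ i ∈ C4, x = D.v i := by
  obtain ⟨i, hi, rfl⟩ := D.exists_v hs
  rw [← D.v4, D.comm_iff hi (by norm_num)] at hc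
  exact ⟨i, (mem_list (by norm_num) C4_ok hi).1 hc, rfl⟩
theorem exists_C2 {x : G} (hs : x * D.s = D.s * x) (hc : x * D.a = D.a * x) : ∃ i ∈ C2, x = D.v i := by
  obtain ⟨i, hi, rfl⟩ := D.exists_v hs
  rw [← D.v2, D.comm_iff hi (by norm_num)] at hc
  exact ⟨i, (mem_list (by norm_num) C2_ok hi).1 hc, rfl⟩
theorem exists_C7 {x : G} (hs : x * D.s = D.s * x) (hc : x * D.t = D.t * x) : ∃ i ∈ C7, x = D.v i := by
  obtain ⟨i, hi, rfl⟩ := D.exists_v hs
  rw [← D.v7, D.comm_iff hi (by norm_num)] at hc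
  exact ⟨i, (mem_list (by norm_num) C7_ok hi).1 hc, rfl⟩

theorem C4_lt {i : ℕ} (h : i ∈ C4) : i < 192 := by
  revert i; decide
theorem C2_lt {i : ℕ} (h : i ∈ C2) : i < 192 := by
  revert i; decide
theorem C7_lt {i : ℕ} (h : i ∈ C7) : i < 192 := by
  revert i; decide

theorem comm_c {i : ℕ} (h : i ∈ C4) : D.v i * D.c = D.c * D.v i := by
  rw [← D.v4, D.comm_iff (C4_lt h) (by norm_num)]
  exact (mem_list (by norm_num) C4_ok (C4_lt h)).2 h
theorem comm_a {i : ℕ} (h : i ∈ C2) : D.v i * D.a = D.a * D.v i := by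
  rw [← D.v2, D.comm_iff (C2_lt h) (by norm_num)]
  exact (mem_list (by norm_num) C2_ok (C2_lt h)).2 h
theorem comm_t {i : ℕ} (h : i ∈ C7) : D.v i * D.t = D.t * D.v i := by
  rw [← D.v7, D.comm_iff (C7_lt h) (by norm_num)]
  exact (mem_list (by norm_num) C7_ok (C7_lt h)).2 h

theorem sq_C4 {i : ℕ} (h : i ∈ C4) : D.v i * D.v i = 1 ∨ D.v i * D.v i = D.s := by
  have h1 := allB_spec 192 sqC_ok i (C4_lt h)
  rw [(memB_iff _).2 h, cond_true, Bool.or_eq_true] at h1
  rw [← D.v_mm (C4_lt h) (C4_lt h)]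
  rcases h1 with h1 | h1
  · left; rw [Nat.eq_of_beq_eq_true h1, v0]
  · right; rw [Nat.eq_of_beq_eq_true h1, v1]

theorem ne {i j : ℕ} (hi : i < 192) (hj : j < 192) (h : i ≠ j) : D.v i ≠ D.v j := fun h' => h (D.inj hi hj h')

theorem c_ne_one : D.c ≠ 1 := by rw [← D.v4, ← D.v0]; exact D.ne (by norm_num) (by norm_num) (by norm_num)
theorem c_ne_s : D.c ≠ D.s := by rw [← D.v4, ← D.v1]; exact D.ne (by norm_num) (by norm_num) (by norm_num)
theorem a_ne_one : D.a ≠ 1 := by rw [← D.v2, ← D.v0]; exact D.ne (by norm_num) (by norm_num) (by norm_num)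
theorem a_ne_s : D.a ≠ D.s := by rw [← D.v2, ← D.v1]; exact D.ne (by norm_num) (by norm_num) (by norm_num)
theorem t_ne_one : D.t ≠ 1 := by rw [← D.v7, ← D.v0]; exact D.ne (by norm_num) (by norm_num) (by norm_num)
theorem t_ne_s : D.t ≠ D.s := by rw [← D.v7, ← D.v1]; exact D.ne (by norm_num) (by norm_num) (by norm_num)
theorem cs : D.c * D.s = D.s * D.c := by rw [← D.v4]; exact D.v_comm (by norm_num)
theorem as : D.a * D.s = D.s * D.a := by rw [← D.v2]; exact D.v_comm (by norm_num)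
theorem ts : D.t * D.s = D.s * D.t := by rw [← D.v7]; exact D.v_comm (by norm_num)

/-- commutation of conjugates -/
theorem cj_comm {g x y : G} (h : x * y = y * x) : (g * x * g⁻¹) * (g * y * g⁻¹) = (g * y * g⁻¹) * (g * x * g⁻¹) := by
  rw [← cj_mul, ← cj_mul, h]

/-- the noncentral class `c` is not fused to `s` -/
theorem not_conj_c : ¬ IsConj D.s D.c := by
  intro h
  obtain ⟨g, h1, h2⟩ := D.swap D.cs D.c_ne_s h
  have h16 : (16 : ℕ) ∈ C4 := by decide
  have e1 := D.v_comm (C4_lt h16)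
  have e2 := D.comm_c h16
  have e3 : D.v 16 * D.v 16 = D.s := by
    rw [← D.v_mm (by norm_num) (by norm_num), show mm 16 16 = 1 by decide +kernel, v1]
  have f1 : (g * D.v 16 * g⁻¹) * D.s = D.s * (g * D.v 16 * g⁻¹) := by
    have := cj_comm (g := g) e2
    rwa [h2] at this
  have f2 : (g * D.v 16 * g⁻¹) * D.c = D.c * (g * D.v 16 * g⁻¹) := by
    have := cj_comm (g := g) e1
    rwa [h1] at this
  have f3 : (g * D.v 16 * g⁻¹) * (g * D.v 16 * g⁻¹) = D.c := by rw [cj_sq, e3, h1]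
  obtain ⟨i, hi, hi2⟩ := D.exists_C4 f1 f2
  rw [hi2] at f3
  rcases D.sq_C4 hi with h | h
  · exact D.c_ne_one (by rw [← f3, h])
  · exact D.c_ne_s (by rw [← f3, h])

theorem conj_of_mem {L : List ℕ} {r k : ℕ} (hr : r < 192) (h : allB (fun k => Nat.beq (cond (memB k L) 1 0)
    (cond (exB (fun i => Nat.beq (cj i r) k) 192) 1 0)) 192 = true) (hk : k < 192) (hkL : k ∈ L) :
    ∃ g, g * D.s = D.s * g ∧ g * D.v r * g⁻¹ = D.v k := (D.cj_of hr h hk).1 hkL

theorem TR.isConj {x : G} (h : D.TR x) : IsConj D.a x := by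
  obtain ⟨g, -, hg⟩ := h; exact isConj_iff.2 ⟨g, hg⟩
theorem TZ.isConj {x : G} (h : D.TZ x) : IsConj D.c x := by
  obtain ⟨g, -, hg⟩ := h; exact isConj_iff.2 ⟨g, hg⟩
theorem TT.isConj {x : G} (h : D.TT x) : IsConj D.t x := by
  obtain ⟨g, -, hg⟩ := h; exact isConj_iff.2 ⟨g, hg⟩

/-- if `t` is fused to `s`, so is `a` -/
theorem conj_a_of_t (h : IsConj D.s D.t) : IsConj D.s D.a := by
  by_contra hna
  obtain ⟨g, h1, h2⟩ := D.swap D.ts D.t_ne_s h
  have h8 : D.TR (D.v 8) := (D.TR_iff (by norm_num)).2 (by decide)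
  have hn8 : ¬ IsConj D.s (D.v 8) := fun h' => hna (h'.trans (TR.isConj D h8).symm)
  have hn2 : ¬ IsConj D.s (D.v 2) := by rw [v2]; exact hna
  have key : ∀ x : G, x * D.s = D.s * x → x * D.t = D.t * x → x ≠ 1 → ¬ IsConj D.s x → x = D.v 2 ∨ x = D.v 8 := by
    intro x hxs hxt hx1 hx
    obtain ⟨i, hi, rfl⟩ := D.exists_C7 hxs hxt
    have hT : ∀ j ∈ C7, j ∈ LT → IsConj D.s (D.v j) := fun j hj hjT =>
      h.trans (TT.isConj D ((D.TT_iff (C7_lt hj)).2 hjT))
    simp only [C7, List.mem_cons, List.not_mem_nil, or_false] at hi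
    rcases hi with rfl | rfl | rfl | rfl | rfl | rfl | rfl | rfl
    · exact absurd D.v0 hx1
    · exact absurd (by rw [v1]) hx
    · exact Or.inl rfl
    · exact absurd (hT 7 (by decide) (by decide)) hx
    · exact Or.inr rfl
    · exact absurd (hT 13 (by decide) (by decide)) hx
    · exact absurd (hT 18 (by decide) (by decide)) hx
    · exact absurd (hT 41 (by decide) (by decide)) hx
  have key2 : ∀ k ∈ C7, k ≠ 0 → ¬ IsConj D.s (D.v k) → g * D.v k * g⁻¹ = D.v 2 ∨ g * D.v k * g⁻¹ = D.v 8 := by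
    intro k hk hk0 hks
    apply key
    · have := cj_comm (g := g) (D.comm_t hk); rwa [h2] at this
    · have := cj_comm (g := g) (D.v_comm (C7_lt hk)); rwa [h1] at this
    · intro h'; exact D.ne_one (C7_lt hk) hk0 (cj_eq_one.1 h')
    · intro h'; exact hks (h'.trans (isConj_iff.2 ⟨g⁻¹, by group⟩))
  have hne : g * D.v 2 * g⁻¹ ≠ g * D.v 8 * g⁻¹ := fun h' => D.ne (by norm_num) (by norm_num) (by norm_num : (2:ℕ) ≠ 8) (cj_inj h')
  have hprod : D.v 2 * D.v 8 = D.s := by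
    rw [← D.v_mm (by norm_num) (by norm_num), show mm 2 8 = 1 by decide +kernel, v1]
  have hprod' : D.v 8 * D.v 2 = D.s := by
    rw [← D.v_mm (by norm_num) (by norm_num), show mm 8 2 = 1 by decide +kernel, v1]
  have hfin : (g * D.v 2 * g⁻¹) * (g * D.v 8 * g⁻¹) = D.t := by rw [← cj_mul, hprod, h1]
  rcases key2 2 (by decide) (by norm_num) hn2 with k1 | k1 <;> rcases key2 8 (by decide) (by norm_num) hn8 with k2 | k2
  · exact hne (k1.trans k2.symm)
  · rw [k1, k2, hprod] at hfin; exact D.t_ne_s hfin.symm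
  · rw [k1, k2, hprod'] at hfin; exact D.t_ne_s hfin.symm
  · exact hne (k1.trans k2.symm)

theorem conj_a_of_not_isolated (h : ¬ IsIsolated D.s) : IsConj D.s D.a := by
  unfold IsIsolated at h
  push Not at h
  obtain ⟨g, hg1, hg2⟩ := h
  have hc : IsConj D.s (g * D.s * g⁻¹) := isConj_iff.2 ⟨g, rfl⟩
  have h2 : (g * D.s * g⁻¹) * (g * D.s * g⁻¹) = 1 := by rw [cj_sq, D.s_sq]; group
  rcases D.types hg1.symm h2 (fun h' => D.s1 (cj_eq_one.1 h')) with h | h | h | h
  · exact absurd h hg2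
  · exact hc.trans (TR.isConj D h).symm
  · exact absurd (hc.trans (TZ.isConj D h).symm) D.not_conj_c
  · exact D.conj_a_of_t (hc.trans (TT.isConj D h).symm)

end DB

end Cfsg.Agent.Lib.M12B
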