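import Cfsg.Agent.Lib.M12M3

set_option autoImplicit false
set_option linter.all false
set_option maxRecDepth 100000

/-! Groups with an involution centralizer as in `M12`: the case of a normal elementary abelian subgroup. -/

namespace Cfsg.Agent.Lib.M12B

open Cfsg Cfsg.Agent.Lib.H10Enum Cfsg.Agent.Lib.M12Tab Cfsg.Agent.Lib.M12DataB Cfsg.Agent.Lib.JTw

def LE : List ℕ := [0, 1, 2, 3, 8, 9, 14, 38]

theorem LE_lt {i : ℕ} (h : i ∈ LE) : i < 192 := by revert i; decide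
theorem LE_mm : (LE.all fun i => LE.all fun j => memB (mm i j) LE) = true := by decide +kernel
theorem LE_sq : (LE.all fun i => Nat.beq (mm i i) 0) = true := by decide +kernel
theorem LE_ab : (LE.all fun i => LE.all fun j => Nat.beq (mm i j) (mm j i)) = true := by decide +kernel
theorem LZE : (LZ.all fun i => LE.all fun j => Nat.beq (cm i j) 0 || Nat.beq (cm i j) 1) = true := by decide +kernel
theorem LZ_lt {i : ℕ} (h : i ∈ LZ) : i < 192 := by revert i; decide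
theorem LR_lt {i : ℕ} (h : i ∈ LR) : i < 192 := by revert i; decide
theorem LT_lt {i : ℕ} (h : i ∈ LT) : i < 192 := by revert i; decide
theorem LE_cases {i : ℕ} (h : i ∈ LE) : i = 0 ∨ i = 1 ∨ i ∈ LR := by revert i; decide
theorem LR_LE {i : ℕ} (h : i ∈ LR) : i ∈ LE := by revert i; decide

namespace DB

variable {G : Type*} [Group G] (D : DB G)

/-- the elementary abelian subgroup of order 8 -/
def E : Subgroup G where
  carrier := {x | ∃ i ∈ LE, x = D.v i}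
  one_mem' := ⟨0, by decide, D.v0.symm⟩
  mul_mem' := by
    rintro x y ⟨i, hi, rfl⟩ ⟨j, hj, rfl⟩
    refine ⟨mm i j, ?_, (D.v_mm (LE_lt hi) (LE_lt hj)).symm⟩
    have h := List.all_eq_true.1 (List.all_eq_true.1 LE_mm i hi) j hj
    exact (memB_iff _).1 h
  inv_mem' := by
    rintro x ⟨i, hi, rfl⟩
    refine ⟨i, hi, ?_⟩
    have h := Nat.eq_of_beq_eq_true (List.all_eq_true.1 LE_sq i hi)
    rw [inv_eq_iff_mul_eq_one, ← D.v_mm (LE_lt hi) (LE_lt hi), h, v0]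

theorem mem_E {x : G} : x ∈ D.E ↔ ∃ i ∈ LE, x = D.v i := Iff.rfl

theorem card_E : Nat.card D.E = 8 := by
  rw [show Nat.card D.E = (D.E : Set G).ncard from Nat.card_coe_set_eq _]
  exact D.ncard_list LE (fun i hi => LE_lt hi) (by decide) _ (fun g => D.mem_E)

theorem E_comm {x y : G} (hx : x ∈ D.E) (hy : y ∈ D.E) : x * y = y * x := by
  obtain ⟨i, hi, rfl⟩ := hx
  obtain ⟨j, hj, rfl⟩ := hy
  rw [D.comm_iff (LE_lt hi) (LE_lt hj)]
  exact Nat.eq_of_beq_eq_true (List.all_eq_true.1 (List.all_eq_true.1 LE_ab i hi) j hj)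

theorem E_sq {x : G} (hx : x ∈ D.E) : x * x = 1 := by
  obtain ⟨i, hi, rfl⟩ := hx
  rw [← D.v_mm (LE_lt hi) (LE_lt hi), Nat.eq_of_beq_eq_true (List.all_eq_true.1 LE_sq i hi), v0]

theorem s_mem_E : D.s ∈ D.E := ⟨1, by decide, D.v1.symm⟩
theorem a_mem_E : D.a ∈ D.E := ⟨2, by decide, D.v2.symm⟩
theorem b_mem_E : D.b ∈ D.E := ⟨3, by decide, D.v3.symm⟩

theorem mem_E_iff (ha : IsConj D.s D.a) (ht : ¬ IsConj D.s D.t) {x : G} :
    x ∈ D.E ↔ x = 1 ∨ (IsConj D.s x ∧ x * D.s = D.s * x) := by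
  constructor
  · rintro ⟨i, hi, rfl⟩
    rcases LE_cases hi with rfl | rfl | h
    · left; exact D.v0
    · right; rw [v1]; exact ⟨IsConj.refl _, rfl⟩
    · right; exact ⟨ha.trans (TR.isConj D ((D.TR_iff (LE_lt hi)).2 h)), D.v_comm (LE_lt hi)⟩
  · rintro (rfl | ⟨h1, h2⟩)
    · exact D.E.one_mem
    · obtain ⟨k, hk⟩ := isConj_iff.1 h1
      have hx2 : x * x = 1 := by rw [← hk, cj_sq, D.s_sq]; group
      have hx1 : x ≠ 1 := by rw [← hk]; intro h; exact D.s1 (cj_eq_one.1 h)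
      rcases D.types h2 hx2 hx1 with h | h | h | h
      · rw [h]; exact D.s_mem_E
      · obtain ⟨i, hi, rfl⟩ := D.exists_v h2
        exact ⟨i, LR_LE ((D.TR_iff hi).1 h), rfl⟩
      · exact absurd (h1.trans (TZ.isConj D h).symm) D.not_conj_c
      · exact absurd (h1.trans (TT.isConj D h).symm) ht

section branch

variable (ha : IsConj D.s D.a) (ht : ¬ IsConj D.s D.t)

include ha ht in
theorem cent_norm {k x : G} (hk : k * D.s = D.s * k) (hx : x ∈ D.E) : k * x * k⁻¹ ∈ D.E := by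
  rcases (D.mem_E_iff ha ht).1 hx with rfl | ⟨h1, h2⟩
  · rw [mul_one, mul_inv_cancel]; exact D.E.one_mem
  · refine (D.mem_E_iff ha ht).2 (Or.inr ⟨h1.trans (isConj_iff.2 ⟨k, rfl⟩), ?_⟩)
    have := cj_comm (g := k) h2
    rwa [cj_eq_self.2 hk] at this

include ha ht in
theorem exists_g : ∃ g, g * D.s * g⁻¹ = D.a ∧ g * D.a * g⁻¹ = D.s ∧ (∀ x ∈ D.E, g * x * g⁻¹ ∈ D.E) := by
  obtain ⟨g, h1, h2⟩ := D.swap D.as D.a_ne_s ha
  refine ⟨g, h1, h2, ?_⟩
  intro x hx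
  have h3 := D.E_comm hx D.a_mem_E
  rcases (D.mem_E_iff ha ht).1 hx with rfl | ⟨h4, h5⟩
  · rw [mul_one, mul_inv_cancel]; exact D.E.one_mem
  · refine (D.mem_E_iff ha ht).2 (Or.inr ⟨h4.trans (isConj_iff.2 ⟨g, rfl⟩), ?_⟩)
    have := cj_comm (g := g) h3
    rwa [h2] at this

include ha ht in
/-- the normalizing elements act transitively -/
theorem exists_n {x : G} (hx : x ∈ D.E) (hx1 : x ≠ 1) : ∃ n, n * D.s * n⁻¹ = x ∧ (∀ x ∈ D.E, n * x * n⁻¹ ∈ D.E) := by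
  obtain ⟨g, h1, h2, h3⟩ := D.exists_g ha ht
  obtain ⟨i, hi, rfl⟩ := hx
  rcases LE_cases hi with rfl | rfl | h
  · exact absurd D.v0 hx1
  · refine ⟨1, by rw [v1]; group, fun x hx => by simpa using hx⟩
  · obtain ⟨k, hk, hk2⟩ := (D.TR_iff (LE_lt hi)).2 h
    refine ⟨k * g, ?_, ?_⟩
    · rw [cj_cj, h1, hk2]
    · intro x hx; rw [cj_cj]; exact D.cent_norm ha ht hk (h3 x hx)

include ha ht in
theorem c_to_t : ∃ n, n * D.c * n⁻¹ = D.t ∧ (∀ x ∈ D.E, n * x * n⁻¹ ∈ D.E) ∧ n * D.a * n⁻¹ = D.s := by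
  obtain ⟨g, h1, h2, h3⟩ := D.exists_g ha ht
  have hca : D.c * D.a = D.a * D.c := by
    rw [← D.v2, ← D.v4, D.comm_iff (by norm_num) (by norm_num)]; decide +kernel
  have h4 : (g * D.c * g⁻¹) * D.s = D.s * (g * D.c * g⁻¹) := by
    have := cj_comm (g := g) hca
    rwa [h2] at this
  have h5 : (g * D.c * g⁻¹) * (g * D.c * g⁻¹) = 1 := by rw [cj_sq, D.rel.cc]; group
  have h6 : IsConj D.c (g * D.c * g⁻¹) := isConj_iff.2 ⟨g, rfl⟩
  rcases D.types h4 h5 (fun h' => D.c_ne_one (cj_eq_one.1 h')) with h | h | h | h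
  · exact absurd (by rw [← h]; exact h6.symm) D.not_conj_c
  · exact absurd (ha.trans ((TR.isConj D h).trans h6.symm)) D.not_conj_c
  · exfalso
    obtain ⟨i, hi, hiv⟩ := D.exists_v h4
    rw [hiv] at h
    have hiZ := (D.TZ_iff hi).1 h
    obtain ⟨j, hj, hjv⟩ := h3 _ D.b_mem_E
    have e1 : D.v (cm 4 3) = D.s := by rw [show cm 4 3 = 1 by decide +kernel, v1]
    rw [D.v_cm (by norm_num) (by norm_num), v4, v3] at e1
    have e2 : g * (D.c * D.b * D.c⁻¹ * D.b⁻¹) * g⁻¹ = D.v i * D.v j * (D.v i)⁻¹ * (D.v j)⁻¹ := by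
      rw [← hiv, ← hjv]; group
    rw [e1, h1, ← D.v_cm hi (LE_lt hj)] at e2
    have e3 := List.all_eq_true.1 (List.all_eq_true.1 LZE i hiZ) j hj
    rw [Bool.or_eq_true] at e3
    rcases e3 with e3 | e3
    · rw [Nat.eq_of_beq_eq_true e3, v0] at e2; exact D.a_ne_one e2
    · rw [Nat.eq_of_beq_eq_true e3, v1] at e2; exact D.a_ne_s e2
  · obtain ⟨k, hk, hk2⟩ := h
    refine ⟨k⁻¹ * g, ?_, ?_, ?_⟩
    · rw [cj_cj, ← hk2]; group
    · intro x hx
      rw [cj_cj]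
      exact D.cent_norm ha ht (inv_comm_iff.2 hk) (h3 x hx)
    · rw [cj_cj, h2]; exact cj_eq_self.2 (inv_comm_iff.2 hk)

include ha ht in
theorem card_ca : Nat.card ↥(Subgroup.centralizer ({D.c} : Set G) ⊓ Subgroup.centralizer ({D.a} : Set G)) = 8 := by
  obtain ⟨n, h1, -, h3⟩ := D.c_to_t ha ht
  rw [← card_cent_conj n, h1, h3, inf_comm]
  exact D.cc_t

theorem card_cs : Nat.card ↥(Subgroup.centralizer ({D.c} : Set G) ⊓ Subgroup.centralizer ({D.s} : Set G)) = 16 := by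
  rw [inf_comm]; exact D.cc_c

include ha ht in
theorem card_c8 : Nat.card ↥(Subgroup.centralizer ({D.c} : Set G) ⊓ Subgroup.centralizer ({D.v 8} : Set G)) = 8 := by
  have h5 : (5 : ℕ) ∈ C4 := by decide
  have e1 : D.v 5 * D.v 2 * (D.v 5)⁻¹ = D.v 8 := by
    rw [← D.v_cj (by norm_num) (by norm_num), show cj 5 2 = 8 by decide +kernel]
  have e2 : D.v 5 * D.c * (D.v 5)⁻¹ = D.c := cj_eq_self.2 (D.comm_c h5)
  rw [← e1, v2]
  nth_rewrite 1 [← e2]
  rw [card_cent_conj]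
  exact D.card_ca ha ht

end branch

end DB

theorem eq_one_of_odd_of_two_pow {G : Type*} [Group G] {K : Subgroup G} {x : G} {n : ℕ} (hK : Nat.card K = 2 ^ n)
    (hx : x ∈ K) (ho : Odd (orderOf x)) : x = 1 := by
  have h1 : orderOf x ∣ 2 ^ n := by rw [← hK]; exact Subgroup.orderOf_dvd_natCard K hx
  have h2 : Nat.Coprime (orderOf x) (2 ^ n) := by
    apply Nat.Coprime.pow_right
    exact Nat.coprime_two_right.2 ho
  have h3 : orderOf x = 1 := Nat.Coprime.eq_one_of_dvd h2 h1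
  exact orderOf_eq_one_iff.1 h3

end Cfsg.Agent.Lib.M12B
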