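import Cfsg.Agent.Lib.M12M4

set_option autoImplicit false
set_option linter.all false
set_option maxRecDepth 100000

/-! Groups with an involution centralizer as in `M12`: the case of a normal elementary abelian subgroup, end. -/

namespace Cfsg.Agent.Lib.M12B

open Cfsg Cfsg.Agent.Lib.H10Enum Cfsg.Agent.Lib.M12Tab Cfsg.Agent.Lib.M12DataB Cfsg.Agent.Lib.JTw
  Cfsg.Agent.Lib.LargeExtra

universe u

namespace DB

theorem c_le_s {G : Type u} [Group G] [Finite G] (D : DB G) (ha : IsConj D.s D.a) (ht : ¬ IsConj D.s D.t) :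
    ∀ h : G, h * D.c = D.c * h → h * D.s = D.s * h := by
  let H := Subgroup.centralizer ({D.c} : Set G)
  let s' : H := ⟨D.s, mem_centralizer_one.2 D.cs.symm⟩
  have hs2 : orderOf s' = 2 := by
    rw [← Subgroup.orderOf_coe]; exact D.s_ord
  have hord : ∀ {K : Subgroup G} {n : ℕ}, Nat.card K = 2 ^ n → ∀ x ∈ K, Odd (orderOf x) → x = 1 :=
    fun hK x hx ho => eq_one_of_odd_of_two_pow hK hx ho
  -- isolated
  have hiso : IsIsolated s' := by
    intro h hcomm
    have hc : (h : G) * D.c = D.c * h := mem_centralizer_one.1 h.2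
    set y := (h : G) * D.s * (h : G)⁻¹ with hy
    have e1 : D.s * y = y * D.s := congrArg Subtype.val hcomm.eq
    have e2 : y * D.c = D.c * y := by
      have := cj_comm (g := (h : G)) D.cs.symm
      rwa [cj_eq_self.2 hc] at this
    have hyE : y ∈ D.E := (D.mem_E_iff ha ht).2 (Or.inr ⟨isConj_iff.2 ⟨h, rfl⟩, e1.symm⟩)
    obtain ⟨i, hi, hiy⟩ := D.exists_C4 e1.symm e2
    obtain ⟨j, hj, hjy⟩ := hyE
    have hij : i = j := D.inj (C4_lt hi) (LE_lt hj) (hiy.symm.trans hjy)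
    subst hij
    have hcard : Nat.card ↥(Subgroup.centralizer ({D.c} : Set G) ⊓ Subgroup.centralizer ({y} : Set G)) = 16 := by
      have h1 := card_cent_conj (h : G) D.c D.s
      rw [cj_eq_self.2 hc, D.card_cs] at h1
      exact h1
    have hi4 : i = 0 ∨ i = 1 ∨ i = 2 ∨ i = 8 := by
      clear hiy hjy
      revert i; decide
    apply Subtype.ext
    show y = D.s
    rcases hi4 with rfl | rfl | rfl | rfl
    · exfalso
      rw [D.v0] at hiy
      exact D.s1 (cj_eq_one.1 (hy.symm.trans hiy))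
    · rw [hiy, D.v1]
    · rw [hiy, D.v2, D.card_ca ha ht] at hcard; omega
    · rw [hiy, D.card_c8 ha ht] at hcard; omega
  have hZ := ZStarU.inZStar_of_isIsolated ⟨1, by rw [hs2, pow_one]⟩ hiso
  have hZ' : ∀ g : H, g * s' * g⁻¹ * s'⁻¹ ∈ pPrimeCore 2 H := hZ
  have hodd : Nat.Coprime (Nat.card (pPrimeCore 2 H)) 2 := Lib.Cores.coprime_card_pPrimeCore 2 H
  have hodd' : Odd (Nat.card (pPrimeCore 2 H)) := Nat.coprime_two_right.1 hodd
  have hoddx : ∀ x ∈ pPrimeCore 2 H, Odd (orderOf (x : G)) := by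
    intro x hx
    rw [Subgroup.orderOf_coe]
    exact hodd'.of_dvd_nat (Subgroup.orderOf_dvd_natCard _ hx)
  haveI hn : (pPrimeCore 2 H).Normal := pPrimeCore_normal 2 H
  have key : ∀ (y : H) (n : ℕ), y * y = 1 →
      Nat.card ↥(Subgroup.centralizer ({D.c} : Set G) ⊓ Subgroup.centralizer ({(y : G)} : Set G)) = 2 ^ n →
      ∀ k ∈ pPrimeCore 2 H, y * k * y⁻¹ = k⁻¹ := by
    intro y n hy2 hcard
    apply inverts_of_fpf hodd' hy2 (fun k hk => hn.conj_mem k hk y)
    intro k hk hky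
    apply Subtype.ext
    exact hord hcard k ⟨k.2, mem_centralizer_one.2 (congrArg Subtype.val hky)⟩ (hoddx k hk)
  have ha' : D.a * D.c = D.c * D.a := by
    rw [← D.v2]; exact D.comm_c (by decide)
  let a' : H := ⟨D.a, mem_centralizer_one.2 ha'⟩
  have ks := key s' 4 (Subtype.ext D.s_sq) (by rw [D.card_cs]; norm_num)
  have ka := key a' 3 (Subtype.ext D.rel.aa) (by
    show Nat.card ↥(Subgroup.centralizer ({D.c} : Set G) ⊓ Subgroup.centralizer ({D.a} : Set G)) = 2 ^ 3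
    rw [D.card_ca ha ht]; norm_num)
  have hbot : ∀ k ∈ pPrimeCore 2 H, k = 1 := by
    intro k hk
    have e1 : (s' * a') * k * (s' * a')⁻¹ = k := by
      rw [cj_cj, ka k hk, ks _ (inv_mem hk), inv_inv]
    have e2 : (k : G) * (D.s * D.a) = (D.s * D.a) * k := (congrArg Subtype.val (cj_eq_self.1 e1)).symm
    have e3 : D.s * D.a = D.v 8 := by
      rw [← D.v1, ← D.v2, ← D.v_mm (by norm_num) (by norm_num)]
      have : mm 1 2 = 8 := by decide +kernel
      rw [this]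
    rw [e3] at e2
    apply Subtype.ext
    have h8 : Nat.card ↥(Subgroup.centralizer ({D.c} : Set G) ⊓ Subgroup.centralizer ({D.v 8} : Set G)) = 2 ^ 3 := by
      rw [D.card_c8 ha ht]; norm_num
    exact hord h8 (k : G) (Subgroup.mem_inf.2 ⟨k.2, mem_centralizer_one.2 e2⟩) (hoddx k hk)
  intro h hc
  have h1 := hbot _ (hZ' ⟨h, mem_centralizer_one.2 hc⟩)
  have h2 : h * D.s * h⁻¹ * D.s⁻¹ = 1 := congrArg Subtype.val h1
  exact cj_eq_self.1 (mul_inv_eq_one.1 h2)

variable {G : Type u} [Group G] [Finite G] (D : DB G)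

theorem involution_mem_E (ha : IsConj D.s D.a) (ht : ¬ IsConj D.s D.t) {y : G} (hy : IsConj D.s y) : y ∈ D.E := by
  obtain ⟨k, hk⟩ := isConj_iff.1 hy
  have hy2 : y * y = 1 := by rw [← hk, cj_sq, D.s_sq]; group
  have hy1 : y ≠ 1 := by rw [← hk]; intro h; exact D.s1 (cj_eq_one.1 h)
  have hcne : ¬ IsConj y D.c := fun h => D.not_conj_c (hy.trans h)
  have oc : orderOf D.c = 2 := InvAct.orderOf_two_iff.2 ⟨D.rel.cc, D.c_ne_one⟩
  have oy : orderOf y = 2 := InvAct.orderOf_two_iff.2 ⟨hy2, hy1⟩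
  have heven : Even (orderOf (y * D.c)) := by
    by_contra h
    rw [Nat.not_even_iff_odd] at h
    obtain ⟨k, h1, -⟩ := InvAct.exists_conj_of_odd oy oc h
    exact hcne (isConj_iff.2 ⟨_, h1⟩)
  obtain ⟨v, -, hv2, hvy, hvc⟩ := InvAct.exists_central_of_even oy oc heven
  obtain ⟨hvv, hv1⟩ := InvAct.orderOf_two_iff.1 hv2
  have hvs : v * D.s = D.s * v := D.c_le_s ha ht v hvc
  -- elements conjugate to `s` commuting with an element of `E`
  have keyE : ∀ e ∈ D.E, e ≠ 1 → y * e = e * y → y ∈ D.E := by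
    intro e he he1 hye
    obtain ⟨n, hn, hnE⟩ := D.exists_n ha ht he he1
    have h1 : (n⁻¹ * y * n) * D.s = D.s * (n⁻¹ * y * n) := by
      have := cj_comm (g := n⁻¹) hye
      rw [inv_inv] at this
      have e1 : n⁻¹ * e * n = D.s := by rw [← hn]; group
      rwa [e1] at this
    have h2 : n⁻¹ * y * n ∈ D.E := (D.mem_E_iff ha ht).2 (Or.inr ⟨hy.trans (isConj_iff.2 ⟨n⁻¹, by group⟩), h1⟩)
    have h3 := hnE _ h2
    have e2 : n * (n⁻¹ * y * n) * n⁻¹ = y := by group
    rwa [e2] at h3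
  have keyc : ∀ m : G, (∀ x ∈ D.E, m * x * m⁻¹ ∈ D.E) → m * D.c * m⁻¹ = v → y ∈ D.E := by
    intro m hm hmv
    have h1 : (m⁻¹ * y * m) * D.c = D.c * (m⁻¹ * y * m) := by
      have := cj_comm (g := m⁻¹) hvy
      rw [inv_inv] at this
      have e1 : m⁻¹ * v * m = D.c := by rw [← hmv]; group
      rw [e1] at this
      exact this.symm
    have h2 := D.c_le_s ha ht _ h1
    have h3 : y * (m * D.s * m⁻¹) = (m * D.s * m⁻¹) * y := by
      have := cj_comm (g := m) h2
      have e2 : m * (m⁻¹ * y * m) * m⁻¹ = y := by group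
      rwa [e2] at this
    exact keyE _ (hm _ D.s_mem_E) (fun h => D.s1 (cj_eq_one.1 h)) h3
  rcases D.types hvs hvv hv1 with h | h | h | h
  · exact keyE v (by rw [h]; exact D.s_mem_E) hv1 hvy.symm
  · obtain ⟨i, hi, rfl⟩ := D.exists_v hvs
    exact keyE _ ⟨i, LR_LE ((D.TR_iff hi).1 h), rfl⟩ hv1 hvy.symm
  · obtain ⟨k, hk, hk2⟩ := h
    exact keyc k (fun x hx => D.cent_norm ha ht hk hx) hk2
  · obtain ⟨k, hk, hk2⟩ := h
    obtain ⟨n, hn1, hn2, -⟩ := D.c_to_t ha ht
    refine keyc (k * n) ?_ ?_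
    · intro x hx; rw [cj_cj]; exact D.cent_norm ha ht hk (hn2 x hx)
    · rw [cj_cj, hn1, hk2]

/-- the first case: `E` is normal -/
theorem E_normal (ha : IsConj D.s D.a) (ht : ¬ IsConj D.s D.t) : D.E.Normal := by
  refine ⟨fun x hx g => ?_⟩
  rcases (D.mem_E_iff ha ht).1 hx with rfl | ⟨h1, h2⟩
  · rw [mul_one, mul_inv_cancel]; exact D.E.one_mem
  · exact D.involution_mem_E ha ht (h1.trans (isConj_iff.2 ⟨g, rfl⟩))

end DB

end Cfsg.Agent.Lib.M12B
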