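import Cfsg.Agent.Lib.M12M5
import Cfsg.Agent.Lib.JTw20

set_option autoImplicit false
set_option linter.all false
set_option maxRecDepth 100000

/-! Groups with an involution centralizer as in `M12`: the second class. -/

namespace Cfsg.Agent.Lib.M12B

open Cfsg Cfsg.Agent.Lib Cfsg.Agent.Lib.H10Enum Cfsg.Agent.Lib.M12Tab Cfsg.Agent.Lib.M12DataB Cfsg.Agent.Lib.JTw

/-- `p`-subgroups are conjugate into a Sylow subgroup -/
theorem conj_into {G : Type*} [Group G] [Finite G] {p : ℕ} [hp : Fact p.Prime] (T E P' : Subgroup G) (hET : E ≤ T)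
    (hE : IsPGroup p E) (h : ¬ p * Nat.card E ∣ Nat.card T) (hP : P' ≤ T) (hP' : IsPGroup p P') :
    ∃ t ∈ T, ∀ y ∈ P', t * y * t⁻¹ ∈ E := by
  have h1 : IsPGroup p (E.subgroupOf T) := hE.comap_of_injective _ (Subgroup.subtype_injective _)
  have h2 : ¬ p ∣ (E.subgroupOf T).index := by
    rintro ⟨k, hk⟩
    apply h
    have h3 := (E.subgroupOf T).card_mul_index
    rw [SubgroupTools.card_subgroupOf_of_le hET, hk] at h3
    rw [← h3]
    exact ⟨k, by ring⟩
  let P : Sylow p T := h1.toSylow h2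
  have hPc : (P : Subgroup T) = E.subgroupOf T := IsPGroup.toSylow_coe h1 h2
  have h3 : IsPGroup p (P'.subgroupOf T) := hP'.comap_of_injective _ (Subgroup.subtype_injective _)
  obtain ⟨S, hS⟩ := h3.exists_le_sylow
  obtain ⟨g, hg⟩ := MulAction.exists_smul_eq T S P
  refine ⟨g, g.2, ?_⟩
  intro y hy
  have h4 : g * ⟨y, hP hy⟩ * g⁻¹ ∈ (P : Subgroup T) := by
    have : g * ⟨y, hP hy⟩ * g⁻¹ ∈ P := by
      rw [← hg]
      exact ⟨_, hS (Subgroup.mem_subgroupOf.2 hy), rfl⟩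
    exact this
  rw [hPc] at h4
  exact h4

def LQ : List ℕ := [0, 1, 2, 3, 4, 5, 8, 9, 10, 11, 14, 15, 16, 19, 20, 23, 24, 27, 38, 39, 42, 45, 58, 59, 60, 61, 70, 73, 82, 85, 116, 144]
def LV : List ℕ := [0, 1, 2, 8]
def LcV : List ℕ := [4, 10, 15, 39]
def LdV : List ℕ := [5, 11, 24, 45]
def L4 : List ℕ := [16, 27, 61, 85]
def LE1 : List ℕ := [0, 1, 4, 5, 10, 11, 24, 45]

theorem LQ_lt {i : ℕ} (h : i ∈ LQ) : i < 192 := by revert i; decide
theorem LQ_mm : (LQ.all fun i => LQ.all fun j => memB (mm i j) LQ) = true := by decide +kernel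
theorem LQ_iv : (LQ.all fun i => memB (iv i) LQ) = true := by decide +kernel
theorem LQ_cen : allB (fun i => cond (Nat.beq (mm i 2) (mm 2 i) && (Nat.beq (mm i 3) (mm 3 i) &&
    (Nat.beq (mm i 4) (mm 4 i) && Nat.beq (mm i 5) (mm 5 i)))) (Nat.beq i 0 || Nat.beq i 1) true) 192 = true := by
  decide +kernel
theorem LV_lt {i : ℕ} (h : i ∈ LV) : i < 192 := by revert i; decide
theorem LV_mm : (LV.all fun i => LV.all fun j => memB (mm i j) LV) = true := by decide +kernel
theorem LV_iv : (LV.all fun i => memB (iv i) LV) = true := by decide +kernel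
theorem LE1_mm : (LE1.all fun i => LE1.all fun j => memB (mm i j) LE1) = true := by decide +kernel
theorem LE1_iv : (LE1.all fun i => memB (iv i) LE1) = true := by decide +kernel
theorem LE1_lt {i : ℕ} (h : i ∈ LE1) : i < 192 := by revert i; decide
theorem C4_foc : (DB.C4.all fun i => DB.C4.all fun j => memB (mm (iv i) (cj j i)) LV) = true := by decide +kernel
theorem C4_cases {i : ℕ} (h : i ∈ DB.C4) : i ∈ LV ∨ i ∈ LcV ∨ i ∈ LdV ∨ i ∈ L4 := by revert i; decide
theorem LV_cases {i : ℕ} (h : i ∈ LV) : i = 0 ∨ i = 1 ∨ i = 2 ∨ i = 8 := by revert i; decide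
theorem LcV_eq : (LcV.all fun i => memB (mm 4 i) LV && Nat.beq (mm 4 (mm 4 i)) i) = true := by decide +kernel
theorem L4_sq : (L4.all fun i => Nat.beq (mm i i) 1) = true := by decide +kernel
theorem LdV_sq : (LdV.all fun i => Nat.beq (mm i i) 0) = true := by decide +kernel
theorem LdV_Z {i : ℕ} (h : i ∈ LdV) : i ∈ LZ := by revert i; decide
theorem LcV_Z {i : ℕ} (h : i ∈ LcV) : i ∈ LZ := by revert i; decide
theorem LdV_C4 {i : ℕ} (h : i ∈ LdV) : i ∈ DB.C4 := by revert i; decide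
theorem LcV_C4 {i : ℕ} (h : i ∈ LcV) : i ∈ DB.C4 := by revert i; decide
theorem LV_C4 {i : ℕ} (h : i ∈ LV) : i ∈ DB.C4 := by revert i; decide
theorem L4_C4 {i : ℕ} (h : i ∈ L4) : i ∈ DB.C4 := by revert i; decide
theorem LdV_ne4 {i : ℕ} (h : i ∈ LdV) : i ≠ 4 := by revert i; decide
theorem LdV_mul : (LdV.all fun i => memB (mm 4 i) LdV) = true := by decide +kernel
theorem LE1_dV : (LE1.all fun i => LdV.all fun j => Nat.beq (mm i j) (mm j i)) = true := by decide +kernel
theorem C4_center : (DB.C4.all fun i => cond (DB.C4.all fun j => Nat.beq (mm i j) (mm j i)) (memB i [0, 1, 4, 10]) true) = true := by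
  decide +kernel
theorem C2Z_ok : (DB.C2.all fun z => cond (memB z LZ) (exB (fun k => Nat.beq (cj k z) 4 && (Nat.beq (cj k 2) 2 || Nat.beq (cj k 2) 8)) 192) true)
    = true := by decide +kernel

namespace DB

variable {G : Type*} [Group G] (D : DB G)

/-- the extraspecial group -/
def Q : Subgroup G where
  carrier := {x | ∃ i ∈ LQ, x = D.v i}
  one_mem' := ⟨0, by decide, D.v0.symm⟩
  mul_mem' := by
    rintro x y ⟨i, hi, rfl⟩ ⟨j, hj, rfl⟩
    refine ⟨mm i j, ?_, (D.v_mm (LQ_lt hi) (LQ_lt hj)).symm⟩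
    exact (memB_iff _).1 (List.all_eq_true.1 (List.all_eq_true.1 LQ_mm i hi) j hj)
  inv_mem' := by
    rintro x ⟨i, hi, rfl⟩
    exact ⟨iv i, (memB_iff _).1 (List.all_eq_true.1 LQ_iv i hi), (D.v_iv (LQ_lt hi)).symm⟩

theorem card_Q : Nat.card D.Q = 32 := by
  rw [show Nat.card D.Q = (D.Q : Set G).ncard from Nat.card_coe_set_eq _]
  exact D.ncard_list LQ (fun i hi => LQ_lt hi) (by decide) _ (fun g => Iff.rfl)

def V : Subgroup G where
  carrier := {x | ∃ i ∈ LV, x = D.v i}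
  one_mem' := ⟨0, by decide, D.v0.symm⟩
  mul_mem' := by
    rintro x y ⟨i, hi, rfl⟩ ⟨j, hj, rfl⟩
    refine ⟨mm i j, ?_, (D.v_mm (LV_lt hi) (LV_lt hj)).symm⟩
    exact (memB_iff _).1 (List.all_eq_true.1 (List.all_eq_true.1 LV_mm i hi) j hj)
  inv_mem' := by
    rintro x ⟨i, hi, rfl⟩
    exact ⟨iv i, (memB_iff _).1 (List.all_eq_true.1 LV_iv i hi), (D.v_iv (LV_lt hi)).symm⟩

theorem card_V : Nat.card D.V = 4 := by
  rw [show Nat.card D.V = (D.V : Set G).ncard from Nat.card_coe_set_eq _]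
  exact D.ncard_list LV (fun i hi => LV_lt hi) (by decide) _ (fun g => Iff.rfl)

def E1 : Subgroup G where
  carrier := {x | ∃ i ∈ LE1, x = D.v i}
  one_mem' := ⟨0, by decide, D.v0.symm⟩
  mul_mem' := by
    rintro x y ⟨i, hi, rfl⟩ ⟨j, hj, rfl⟩
    refine ⟨mm i j, ?_, (D.v_mm (LE1_lt hi) (LE1_lt hj)).symm⟩
    exact (memB_iff _).1 (List.all_eq_true.1 (List.all_eq_true.1 LE1_mm i hi) j hj)
  inv_mem' := by
    rintro x ⟨i, hi, rfl⟩
    exact ⟨iv i, (memB_iff _).1 (List.all_eq_true.1 LE1_iv i hi), (D.v_iv (LE1_lt hi)).symm⟩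

theorem card_E1 : Nat.card D.E1 = 8 := by
  rw [show Nat.card D.E1 = (D.E1 : Set G).ncard from Nat.card_coe_set_eq _]
  exact D.ncard_list LE1 (fun i hi => LE1_lt hi) (by decide) _ (fun g => Iff.rfl)

/-- the Sylow 2-subgroup of the centralizer of `c` -/
def X : Subgroup G := Subgroup.centralizer ({D.s} : Set G) ⊓ Subgroup.centralizer ({D.c} : Set G)

theorem card_X : Nat.card D.X = 16 := D.cc_c

theorem mem_X {x : G} : x ∈ D.X ↔ ∃ i ∈ C4, x = D.v i := by
  constructor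
  · rintro ⟨h1, h2⟩
    exact D.exists_C4 (mem_centralizer_one.1 h1) (mem_centralizer_one.1 h2)
  · rintro ⟨i, hi, rfl⟩
    exact ⟨mem_centralizer_one.2 (D.v_comm (C4_lt hi)), mem_centralizer_one.2 (D.comm_c hi)⟩

theorem V_le_X : D.V ≤ D.X := by
  rintro x ⟨i, hi, rfl⟩
  exact D.mem_X.2 ⟨i, LV_C4 hi, rfl⟩

theorem X_le : D.X ≤ Subgroup.centralizer ({D.c} : Set G) := inf_le_right

theorem X_conj {x y : G} (hx : x ∈ D.X) (hy : y ∈ D.X) : x⁻¹ * (y * x * y⁻¹) ∈ D.V := by
  obtain ⟨i, hi, rfl⟩ := D.mem_X.1 hx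
  obtain ⟨j, hj, rfl⟩ := D.mem_X.1 hy
  refine ⟨mm (iv i) (cj j i), (memB_iff _).1 (List.all_eq_true.1 (List.all_eq_true.1 C4_foc i hi) j hj), ?_⟩
  rw [D.v_mm (iv_spec (C4_lt hi)).1 (D.cj_lt (C4_lt hj) (C4_lt hi)), D.v_iv (C4_lt hi), D.v_cj (C4_lt hj) (C4_lt hi)]

theorem X_sq {x : G} (hx : x ∈ D.X) : x * x = 1 ∨ x * x = D.s := by
  obtain ⟨i, hi, rfl⟩ := D.mem_X.1 hx
  exact D.sq_C4 hi

theorem Z_not {i : ℕ} (hi : i ∈ LZ) : ¬ IsConj D.s (D.v i) := fun h =>
  D.not_conj_c (h.trans (TZ.isConj D ((D.TZ_iff (LZ_lt hi)).2 hi)).symm)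

/-- elements of `X` fused to `s` -/
theorem X_conj_s {x : G} (hx : x ∈ D.X) (h : IsConj D.s x) : x ∈ D.V := by
  obtain ⟨i, hi, rfl⟩ := D.mem_X.1 hx
  rcases C4_cases hi with h1 | h1 | h1 | h1
  · exact ⟨i, h1, rfl⟩
  · exact absurd h (D.Z_not (LcV_Z h1))
  · exact absurd h (D.Z_not (LdV_Z h1))
  · exfalso
    obtain ⟨k, hk⟩ := isConj_iff.1 h
    have h2 : D.v i * D.v i = 1 := by rw [← hk, cj_sq, D.s_sq]; group
    rw [← D.v_mm (C4_lt hi) (C4_lt hi), Nat.eq_of_beq_eq_true (List.all_eq_true.1 L4_sq i h1), v1] at h2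
    exact D.s1 h2

/-- in the second case, nonidentity elements of `V` are fused to `s` -/
theorem V_conj_s (ha : IsConj D.s D.a) {x : G} (hx : x ∈ D.V) (hx1 : x ≠ 1) : IsConj D.s x := by
  obtain ⟨i, hi, rfl⟩ := hx
  rcases LV_cases hi with rfl | rfl | rfl | rfl
  · exact absurd D.v0 hx1
  · rw [v1]
  · rw [v2]; exact ha
  · exact ha.trans (TR.isConj D ((D.TR_iff (by norm_num)).2 (by decide)))

theorem s_mem_X : D.s ∈ D.X := D.mem_X.2 ⟨1, by decide, D.v1.symm⟩

variable [Finite G]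

theorem not_dvd : ¬ 32 ∣ Nat.card (Subgroup.centralizer ({D.c} : Set G)) := by
  intro h
  have : Fact (Nat.Prime 2) := ⟨Nat.prime_two⟩
  set C := Subgroup.centralizer ({D.c} : Set G) with hC
  have h1 : Nat.card (D.X.subgroupOf C) = 2 ^ 4 := by
    rw [SubgroupTools.card_subgroupOf_of_le D.X_le, D.card_X]; norm_num
  have h2 := Sylow.prime_pow_dvd_card_normalizer (p := 2) (n := 4) h h1
  have h3 : Nat.card (Subgroup.normalizer ((D.X.subgroupOf C : Subgroup C) : Set C)) ∣ 16 := by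
    rw [← D.card_X]
    have h4 : (Subgroup.normalizer ((D.X.subgroupOf C : Subgroup C) : Set C)).map C.subtype ≤ D.X := by
      rintro _ ⟨n, hn, rfl⟩
      refine Subgroup.mem_inf.2 ⟨mem_centralizer_one.2 ?_, n.2⟩
      have h16 : D.v 16 ∈ D.X := D.mem_X.2 ⟨16, by decide, rfl⟩
      have h5 := (Subgroup.mem_normalizer_iff.1 hn ⟨D.v 16, D.X_le h16⟩).1 (by rw [Subgroup.mem_subgroupOf]; exact h16)
      rw [Subgroup.mem_subgroupOf] at h5
      have h6 : (n : G) * D.v 16 * (n : G)⁻¹ ∈ D.X := h5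
      have e3 : D.v 16 * D.v 16 = D.s := by
        rw [← D.v_mm (by norm_num) (by norm_num), show mm 16 16 = 1 by decide +kernel, v1]
      have h7 := D.X_sq h6
      rw [cj_sq, e3] at h7
      rcases h7 with h7 | h7
      · exact absurd (cj_eq_one.1 h7) D.s1
      · exact cj_eq_self.1 h7
    have h5 := Subgroup.card_dvd_of_le h4
    rwa [Subgroup.card_map_of_injective (Subgroup.subtype_injective _)] at h5
  have h6 := h2.trans h3
  revert h6; decide

/-- the focal subgroup computation -/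
theorem focal (ha : IsConj D.s D.a) {x y h : G} (hx : x ∈ D.X) (hy : y ∈ D.X) (hc : h * D.c = D.c * h)
    (hxy : h * x * h⁻¹ = y) : x⁻¹ * y ∈ D.V := by
  have p2 : Fact (Nat.Prime 2) := ⟨Nat.prime_two⟩
  -- conjugates of elements of `V`
  have hA : ∀ {x y h : G}, x ∈ D.V → y ∈ D.X → h * x * h⁻¹ = y → y ∈ D.V := by
    intro x y h hx hy hxy
    by_cases hx1 : x = 1
    · rw [hx1] at hxy
      rw [← hxy, mul_one, mul_inv_cancel]; exact D.V.one_mem
    · exact D.X_conj_s hy ((D.V_conj_s ha hx hx1).trans (isConj_iff.2 ⟨h, hxy⟩))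
  -- conjugates of elements of `c V`
  have hB : ∀ {i : ℕ} {y h : G}, i ∈ LcV → y ∈ D.X → h * D.c = D.c * h → h * D.v i * h⁻¹ = y → (D.v i)⁻¹ * y ∈ D.V := by
    intro i y h hi hy hc hxy
    have h1 := List.all_eq_true.1 LcV_eq i hi
    rw [Bool.and_eq_true] at h1
    have h2 : mm 4 i ∈ LV := (memB_iff _).1 h1.1
    have h3 : D.v i = D.c * D.v (mm 4 i) := by
      rw [← D.v4, ← D.v_mm (by norm_num) (LV_lt h2), Nat.eq_of_beq_eq_true h1.2]
    have h4 : D.v (mm 4 i) ∈ D.V := ⟨_, h2, rfl⟩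
    have h5 : h * D.v (mm 4 i) * h⁻¹ = D.c⁻¹ * y := by
      rw [← hxy, h3, cj_mul, cj_eq_self.2 hc]; group
    have hcX : D.c ∈ D.X := D.mem_X.2 ⟨4, by decide, D.v4.symm⟩
    have h6 := hA h4 (mul_mem (inv_mem hcX) hy) h5
    have h7 : (D.v i)⁻¹ * y = (D.v (mm 4 i))⁻¹ * (D.c⁻¹ * y) := by rw [h3]; group
    rw [h7]; exact mul_mem (inv_mem h4) h6
  -- the final step
  have hfin : ∀ {k x y : G}, k ∈ D.X → x ∈ D.X → k * x * k⁻¹ = y → x⁻¹ * y ∈ D.V := by
    intro k x y hk hx hxy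
    rw [← hxy]; exact D.X_conj hx hk
  obtain ⟨i, hi, rfl⟩ := D.mem_X.1 hx
  obtain ⟨j, hj, rfl⟩ := D.mem_X.1 hy
  rcases C4_cases hi with h1 | h1 | h1 | h1
  · exact mul_mem (inv_mem ⟨i, h1, rfl⟩) (hA ⟨i, h1, rfl⟩ hy hxy)
  · exact hB h1 hy hc hxy
  · -- `x` in the third set
    have hx2 : D.v i * D.v i = 1 := by
      rw [← D.v_mm (C4_lt hi) (C4_lt hi), Nat.eq_of_beq_eq_true (List.all_eq_true.1 LdV_sq i h1), v0]
    have hy2 : D.v j * D.v j = 1 := by rw [← hxy, cj_sq, hx2]; group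
    have hxy' : h⁻¹ * D.v j * h⁻¹⁻¹ = D.v i := by rw [← hxy]; group
    rcases C4_cases hj with h2 | h2 | h2 | h2
    · have h3 := hA ⟨j, h2, rfl⟩ hx hxy'
      exact mul_mem (inv_mem h3) ⟨j, h2, rfl⟩
    · have h3 := hB h2 hx (inv_comm_iff.2 hc) hxy'
      have h4 := inv_mem h3
      rwa [mul_inv_rev, inv_inv] at h4
    · -- the main case
      set Y : Subgroup G := Subgroup.centralizer ({D.c} : Set G) ⊓ Subgroup.centralizer ({D.v j} : Set G) with hY
      have hE1Y : D.E1 ≤ Y := by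
        rintro x ⟨k, hk, rfl⟩
        have hk4 : k ∈ C4 := by clear hY; revert k; decide
        refine Subgroup.mem_inf.2 ⟨mem_centralizer_one.2 (D.comm_c hk4), mem_centralizer_one.2 ?_⟩
        rw [D.comm_iff (LE1_lt hk) (C4_lt hj)]
        exact Nat.eq_of_beq_eq_true (List.all_eq_true.1 (List.all_eq_true.1 LE1_dV k hk) j h2)
      have h16 : ¬ 2 * Nat.card D.E1 ∣ Nat.card Y := by
        rw [D.card_E1]
        intro hdvd
        obtain ⟨P', hP'⟩ := Sylow.exists_subgroup_card_pow_prime (G := Y) 2 (n := 4) hdvd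
        set P := P'.map Y.subtype with hPd
        have hPc : Nat.card P = 16 := by
          rw [hPd, Subgroup.card_map_of_injective (Subgroup.subtype_injective _), hP']; norm_num
        have hPY : P ≤ Y := Subgroup.map_subtype_le _
        obtain ⟨m, hm, hm2⟩ := conj_into (p := 2) (Subgroup.centralizer ({D.c} : Set G)) D.X P D.X_le
          (IsPGroup.of_card (n := 4) (by rw [D.card_X]; norm_num)) (by rw [D.card_X]; exact D.not_dvd)
          (hPY.trans inf_le_left) (IsPGroup.of_card (n := 4) (by rw [hPc]; norm_num))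
        have hmc := mem_centralizer_one.1 hm
        -- the conjugate of `P` is `X`
        have hmap : P.map (MulAut.conj m).toMonoidHom = D.X := by
          apply Subgroup.eq_of_le_of_card_ge
          · rintro _ ⟨y, hy, rfl⟩
            exact hm2 y hy
          · rw [Subgroup.card_map_of_injective (MulAut.conj m).injective, hPc, D.card_X]
        have hcom : ∀ x ∈ D.X, x * (m * D.v j * m⁻¹) = (m * D.v j * m⁻¹) * x := by
          intro x hx
          rw [← hmap] at hx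
          obtain ⟨y, hy, rfl⟩ := hx
          exact cj_comm (mem_centralizer_one.1 (Subgroup.mem_inf.1 (hPY hy)).2)
        have hs := hcom _ D.s_mem_X
        have hcX : D.c ∈ D.X := D.mem_X.2 ⟨4, by decide, D.v4.symm⟩
        have hc' := hcom _ hcX
        obtain ⟨l, hl, hlv⟩ := D.exists_C4 hs.symm hc'.symm
        have hl2 : l ∈ [0, 1, 4, 10] := by
          have h3 := List.all_eq_true.1 C4_center l hl
          have h4 : (C4.all fun j => Nat.beq (mm l j) (mm j l)) = true := by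
            rw [List.all_eq_true]
            intro q hq
            have h5 := hcom (D.v q) (D.mem_X.2 ⟨q, hq, rfl⟩)
            rw [hlv, D.comm_iff (C4_lt hq) (C4_lt hl)] at h5
            rw [h5]; exact Nat.beq_refl _
          rw [h4, cond_true] at h3
          exact (memB_iff _).1 h3
        simp only [List.mem_cons, List.not_mem_nil, or_false] at hl2
        have hyne : D.v j ≠ 1 := D.ne_one (C4_lt hj) (by rintro rfl; revert h2; decide)
        rcases hl2 with rfl | rfl | rfl | rfl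
        · rw [D.v0] at hlv; exact hyne (cj_eq_one.1 hlv)
        · rw [D.v1] at hlv
          exact D.Z_not (LdV_Z h2) (isConj_iff.2 ⟨m⁻¹, by rw [← hlv]; group⟩)
        · rw [D.v4] at hlv
          have h3 : D.v j = D.c := by
            have h4 : m⁻¹ * D.c * m⁻¹⁻¹ = D.c := cj_eq_self.2 (inv_comm_iff.2 hmc)
            rw [← h4, ← hlv]; group
          rw [← D.v4] at h3
          exact LdV_ne4 h2 (D.inj (C4_lt hj) (by norm_num) h3)
        · -- `m v_j m⁻¹ = c s`
          have e1 : D.v 10 = D.c * D.s := by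
            rw [← D.v4, ← D.v1, ← D.v_mm (by norm_num) (by norm_num)]
            have : mm 4 1 = 10 := by decide +kernel
            rw [this]
          have h4 : m⁻¹ * D.c * m⁻¹⁻¹ = D.c := cj_eq_self.2 (inv_comm_iff.2 hmc)
          have h5 : m⁻¹ * D.s * m⁻¹⁻¹ = D.c⁻¹ * D.v j := by
            have h6 : D.v j = m⁻¹ * (D.c * D.s) * m⁻¹⁻¹ := by rw [← e1, ← hlv]; group
            rw [h6, cj_mul, h4]; group
          have h7 : D.c⁻¹ = D.c := inv_of_sq D.rel.cc
          rw [h7, ← D.v4, ← D.v_mm (by norm_num) (C4_lt hj)] at h5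
          have h8 : mm 4 j ∈ LdV := (memB_iff _).1 (List.all_eq_true.1 LdV_mul j h2)
          exact D.Z_not (LdV_Z h8) (isConj_iff.2 ⟨m⁻¹, h5⟩)
      -- conjugate `h s h⁻¹` into `E1`
      have hsY : h * D.s * h⁻¹ ∈ Y := by
        refine Subgroup.mem_inf.2 ⟨mem_centralizer_one.2 ?_, mem_centralizer_one.2 ?_⟩
        · have := cj_comm (g := h) D.cs.symm
          rwa [cj_eq_self.2 hc] at this
        · rw [← hxy]; exact cj_comm (D.v_comm (C4_lt hi)).symm
      obtain ⟨k, hk, hkE⟩ := sylow_conj_into (p := 2) Y D.E1 hE1Y (IsPGroup.of_card (n := 3) (by rw [D.card_E1]; norm_num))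
        h16 hsY (n := 1) (by rw [ord_conj, D.s_ord, pow_one])
      obtain ⟨hkc, hky⟩ := Subgroup.mem_inf.1 hk
      have hkc := mem_centralizer_one.1 hkc
      have hky := mem_centralizer_one.1 hky
      obtain ⟨l, hl, hlv⟩ := hkE
      have hkh : k * h * D.s * (k * h)⁻¹ = D.v l := by rw [cj_cj]; exact hlv
      have hl1 : l = 1 := by
        have h3 : IsConj D.s (D.v l) := isConj_iff.2 ⟨k * h, hkh⟩
        have h4 : l = 0 ∨ l = 1 ∨ l ∈ LcV ∨ l ∈ LdV := by
          clear hlv hkh h3; revert l; decide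
        rcases h4 with rfl | h4 | h4 | h4
        · exfalso; rw [D.v0] at hkh; exact D.s1 (cj_eq_one.1 hkh)
        · exact h4
        · exact absurd h3 (D.Z_not (LcV_Z h4))
        · exact absurd h3 (D.Z_not (LdV_Z h4))
      rw [hl1, D.v1] at hkh
      have hkhX : k * h ∈ D.X := by
        refine Subgroup.mem_inf.2 ⟨mem_centralizer_one.2 (cj_eq_self.1 hkh), mem_centralizer_one.2 ?_⟩
        rw [mul_assoc, hc, ← mul_assoc, hkc, mul_assoc]
      apply hfin hkhX hx
      rw [cj_cj, hxy]; exact cj_eq_self.2 hky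
    · exfalso
      rw [← D.v_mm (C4_lt hj) (C4_lt hj), Nat.eq_of_beq_eq_true (List.all_eq_true.1 L4_sq j h2), v1] at hy2
      exact D.s1 hy2
  · -- elements of order four
    have hx2 : D.v i * D.v i = D.s := by
      rw [← D.v_mm (C4_lt hi) (C4_lt hi), Nat.eq_of_beq_eq_true (List.all_eq_true.1 L4_sq i h1), v1]
    have h2 := D.X_sq hy
    rw [← hxy, cj_sq, hx2] at h2
    rcases h2 with h2 | h2
    · exact absurd (cj_eq_one.1 h2) D.s1
    · exact hfin (Subgroup.mem_inf.2 ⟨mem_centralizer_one.2 (cj_eq_self.1 h2), mem_centralizer_one.2 hc⟩) hx hxy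

end DB

end Cfsg.Agent.Lib.M12B
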