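import Cfsg.Agent.Lib.M12M6
import Cfsg.Agent.Lib.JTw6

set_option autoImplicit false
set_option linter.all false
set_option maxRecDepth 100000

/-! Groups with an involution centralizer as in `M12`: the centralizer of the second involution. -/

namespace Cfsg.Agent.Lib.M12B

open Cfsg Cfsg.Agent.Lib Cfsg.Agent.Lib.H10Enum Cfsg.Agent.Lib.M12Tab Cfsg.Agent.Lib.M12DataB Cfsg.Agent.Lib.JTw
  Cfsg.Agent.Lib.LargeExtra

theorem VV_ok : (LV.all fun i => LV.all fun j => Nat.beq (mm i j) (mm j i) && Nat.beq (mm i i) 0) = true := by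
  decide +kernel
theorem X_inv {i : ℕ} (h : i ∈ DB.C4) (hi : i ∉ LV) : i ∈ LZ ∨ i ∈ L4 := by revert i; decide
theorem C42_lt : (DB.C4.filter (fun i => i ∈ DB.C2)).length = 8 := by decide

/-- the subgroup `K` of index 4 in `C(c)`. -/
structure KB {G : Type*} [Group G] [Finite G] (D : DB G) (K : Subgroup G) : Prop where
  ha : IsConj D.s D.a
  le : K ≤ Subgroup.centralizer ({D.c} : Set G)
  norm : ∀ g : G, g * D.c = D.c * g → ∀ k ∈ K, g * k * g⁻¹ ∈ K
  inf : K ⊓ D.X = D.V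
  card : Nat.card (Subgroup.centralizer ({D.c} : Set G)) = 4 * Nat.card K
  three : ∀ g : G, g * D.c = D.c * g → g ^ 3 = 1 → g ∈ K
  cos : ∀ g : G, g * D.c = D.c * g → ∃ x ∈ D.X, x⁻¹ * g ∈ K

namespace DB

variable {G : Type*} [Group G] [Finite G] (D : DB G)

theorem exists_K (ha : IsConj D.s D.a) : ∃ K : Subgroup G, KB D K := by
  have : Fact (Nat.Prime 2) := ⟨Nat.prime_two⟩
  have hXle := D.X_le
  set C := Subgroup.centralizer ({D.c} : Set G) with hC
  have h1 : Nat.card (D.X.subgroupOf C) = 16 := by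
    rw [SubgroupTools.card_subgroupOf_of_le hXle, D.card_X]
  have hp : IsPGroup 2 (D.X.subgroupOf C) := IsPGroup.of_card (n := 4) (by rw [h1]; norm_num)
  have hi : ¬ 2 ∣ (D.X.subgroupOf C).index := by
    intro h
    apply D.not_dvd
    rw [← hC, ← (D.X.subgroupOf C).card_mul_index, h1]
    obtain ⟨k, hk⟩ := h
    rw [hk]
    exact ⟨k, by ring⟩
  let P : Sylow 2 C := hp.toSylow hi
  have hP : (P : Subgroup C) = D.X.subgroupOf C := IsPGroup.toSylow_coe hp hi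
  have hmemP : ∀ x : C, x ∈ (P : Subgroup C) ↔ (x : G) ∈ D.X := by
    intro x; rw [hP, Subgroup.mem_subgroupOf]
  have hVC : D.V ≤ C := D.V_le_X.trans hXle
  have hfoc : (P : Subgroup C).focalSubgroup ≤ D.V.subgroupOf C := by
    apply FocalTools.focal_le
    intro s hs s' hs' hss
    obtain ⟨g, hg⟩ := isConj_iff.1 hss
    rw [Subgroup.mem_subgroupOf]
    exact D.focal ha ((hmemP _).1 hs) ((hmemP _).1 hs') (mem_centralizer_one.1 g.2) (congrArg Subtype.val hg)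
  obtain ⟨K0, hK0n, -, hK0i, hK0s, hK0x⟩ := FocalTools.exists_normal_of_focal_le P (D.V.subgroupOf C)
    (by
      intro x hx
      exact (hmemP x).2 (D.V_le_X hx)) hfoc
  have hidx : K0.index = 4 := by
    rw [hK0x]
    have h2 := SubgroupTools.card_mul_relIndex_of_le (H := D.V.subgroupOf C) (K := (P : Subgroup C)) (by
      intro x hx
      exact (hmemP x).2 (D.V_le_X hx))
    rw [SubgroupTools.card_subgroupOf_of_le hVC, D.card_V, hP, h1] at h2
    rw [hP]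
    omega
  refine ⟨K0.map C.subtype, ha, ?_, ?_, ?_, ?_, ?_, ?_⟩
  · exact Subgroup.map_subtype_le K0
  · rintro g hg _ ⟨k, hk, rfl⟩
    exact ⟨⟨g, mem_centralizer_one.2 hg⟩ * k * ⟨g, mem_centralizer_one.2 hg⟩⁻¹, hK0n.conj_mem k hk _, rfl⟩
  · ext x
    constructor
    · rintro ⟨⟨k, hk, rfl⟩, hx⟩
      have h2 : k ∈ K0 ⊓ P := ⟨hk, (hmemP k).2 hx⟩
      rw [hK0i] at h2
      exact h2
    · intro hx
      have h2 : (⟨x, hVC hx⟩ : C) ∈ K0 ⊓ P := by
        rw [hK0i]; exact hx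
      exact ⟨⟨_, h2.1, rfl⟩, D.V_le_X hx⟩
  · rw [Subgroup.card_map_of_injective (Subgroup.subtype_injective _), ← hidx, mul_comm, K0.card_mul_index]
  · intro g hg hg3
    have h2 := K0.pow_index_mem ⟨g, mem_centralizer_one.2 hg⟩
    rw [hidx] at h2
    have h3 : (⟨g, mem_centralizer_one.2 hg⟩ : C) ^ 4 = ⟨g, mem_centralizer_one.2 hg⟩ := by
      apply Subtype.ext
      show g ^ 4 = g
      rw [pow_succ, hg3, one_mul]
    rw [h3] at h2
    exact ⟨_, h2, rfl⟩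
  · intro g hg
    have h2 : (⟨g, mem_centralizer_one.2 hg⟩ : C) ∈ K0 ⊔ P := by rw [hK0s]; exact Subgroup.mem_top _
    rw [Subgroup.mem_sup_of_normal_left] at h2
    obtain ⟨k, hk, x, hx, hkx⟩ := h2
    refine ⟨x, (hmemP x).1 hx, ?_⟩
    have h3 : g = (k : G) * x := (congrArg Subtype.val hkx).symm
    rw [h3]
    refine ⟨x⁻¹ * k * x⁻¹⁻¹, hK0n.conj_mem k hk _, ?_⟩
    simp [mul_assoc]

theorem V_comm {x y : G} (hx : x ∈ D.V) (hy : y ∈ D.V) : x * y = y * x := by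
  obtain ⟨i, hi, rfl⟩ := hx
  obtain ⟨j, hj, rfl⟩ := hy
  rw [D.comm_iff (LV_lt hi) (LV_lt hj)]
  have h := List.all_eq_true.1 (List.all_eq_true.1 VV_ok i hi) j hj
  rw [Bool.and_eq_true] at h
  exact Nat.eq_of_beq_eq_true h.1

theorem V_sq {x : G} (hx : x ∈ D.V) : x * x = 1 := by
  obtain ⟨i, hi, rfl⟩ := hx
  have h := List.all_eq_true.1 (List.all_eq_true.1 VV_ok i hi) i hi
  rw [Bool.and_eq_true] at h
  rw [← D.v_mm (LV_lt hi) (LV_lt hi), Nat.eq_of_beq_eq_true h.2, v0]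

theorem s_mem_V : D.s ∈ D.V := ⟨1, by decide, D.v1.symm⟩
theorem a_mem_V : D.a ∈ D.V := ⟨2, by decide, D.v2.symm⟩
theorem v8_eq : D.v 8 = D.s * D.a := by
  rw [← D.v1, ← D.v2, ← D.v_mm (by norm_num) (by norm_num)]
  have : mm 1 2 = 8 := by decide +kernel
  rw [this]
theorem mem_V {x : G} : x ∈ D.V ↔ x = 1 ∨ x = D.s ∨ x = D.a ∨ x = D.v 8 := by
  constructor
  · rintro ⟨i, hi, rfl⟩
    rcases LV_cases hi with rfl | rfl | rfl | rfl
    · left; exact D.v0
    · right; left; exact D.v1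
    · right; right; left; exact D.v2
    · right; right; right; rfl
  · rintro (rfl | rfl | rfl | rfl)
    · exact D.V.one_mem
    · exact D.s_mem_V
    · exact D.a_mem_V
    · exact ⟨8, by decide, rfl⟩

/-- an element of `C(c)` swapping `s` and `a` -/
theorem exists_g1 (ha : IsConj D.s D.a) (ht : IsConj D.s D.t) : ∃ g, g * D.c = D.c * g ∧ g * D.s * g⁻¹ = D.a ∧
    g * D.a * g⁻¹ = D.s := by
  obtain ⟨g, h1, h2⟩ := D.swap D.as D.a_ne_s ha
  have hca : D.c * D.a = D.a * D.c := by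
    rw [← D.v2, ← D.v4, D.comm_iff (by norm_num) (by norm_num)]; decide +kernel
  have h4 : (g * D.c * g⁻¹) * D.s = D.s * (g * D.c * g⁻¹) := by
    have := cj_comm (g := g) hca
    rwa [h2] at this
  have h4' : (g * D.c * g⁻¹) * D.a = D.a * (g * D.c * g⁻¹) := by
    have := cj_comm (g := g) D.cs
    rwa [h1] at this
  have h5 : (g * D.c * g⁻¹) * (g * D.c * g⁻¹) = 1 := by rw [cj_sq, D.rel.cc]; group
  have h6 : IsConj D.c (g * D.c * g⁻¹) := isConj_iff.2 ⟨g, rfl⟩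
  obtain ⟨z, hz, hzv⟩ := D.exists_C2 h4 h4'
  have hZ : z ∈ LZ := by
    rcases D.types h4 h5 (fun h' => D.c_ne_one (cj_eq_one.1 h')) with h | h | h | h
    · exact absurd (by rw [← h]; exact h6.symm) D.not_conj_c
    · exact absurd (ha.trans ((TR.isConj D h).trans h6.symm)) D.not_conj_c
    · rw [hzv] at h; exact (D.TZ_iff (C2_lt hz)).1 h
    · exact absurd (ht.trans ((TT.isConj D h).trans h6.symm)) D.not_conj_c
  have h7 := List.all_eq_true.1 C2Z_ok z hz
  rw [(memB_iff _).2 hZ, cond_true] at h7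
  obtain ⟨k, hk, h8⟩ := exB_spec 192 h7
  rw [Bool.and_eq_true, Bool.or_eq_true] at h8
  obtain ⟨h8, h9⟩ := h8
  have e1 : D.v k * D.v z * (D.v k)⁻¹ = D.c := by
    rw [← D.v_cj hk (C2_lt hz), Nat.eq_of_beq_eq_true h8, v4]
  have e2 : D.v k * D.s * (D.v k)⁻¹ = D.s := cj_eq_self.2 (D.v_comm hk)
  -- `g' = v_k g`
  have f1 : (D.v k * g) * D.c * (D.v k * g)⁻¹ = D.c := by rw [cj_cj, hzv, e1]
  have f2 : (D.v k * g) * D.a * (D.v k * g)⁻¹ = D.s := by rw [cj_cj, h2, e2]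
  rcases h9 with h9 | h9
  · refine ⟨D.v k * g, cj_eq_self.1 f1, ?_, f2⟩
    rw [cj_cj, h1, ← D.v2, ← D.v_cj hk (by norm_num), Nat.eq_of_beq_eq_true h9]
  · have f3 : (D.v k * g) * D.s * (D.v k * g)⁻¹ = D.v 8 := by
      rw [cj_cj, h1, ← D.v2, ← D.v_cj hk (by norm_num), Nat.eq_of_beq_eq_true h9]
    have h5 : (5 : ℕ) ∈ C4 := by decide
    have g1 : D.v 5 * D.v 8 * (D.v 5)⁻¹ = D.a := by
      rw [← D.v_cj (by norm_num) (by norm_num), show cj 5 8 = 2 by decide +kernel, v2]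
    refine ⟨D.v 5 * (D.v k * g), ?_, ?_, ?_⟩
    · apply cj_eq_self.1
      rw [cj_cj, f1]; exact cj_eq_self.2 (D.comm_c h5)
    · rw [cj_cj, f3, g1]
    · rw [cj_cj, f2]; exact cj_eq_self.2 (D.v_comm (by norm_num))

end DB

namespace KB

variable {G : Type*} [Group G] [Finite G] {D : DB G} {K : Subgroup G}

open DB

theorem V_le (k : KB D K) : D.V ≤ K := by
  rw [← k.inf]; exact inf_le_left

theorem comm_c (k : KB D K) {x : G} (hx : x ∈ K) : x * D.c = D.c * x := mem_centralizer_one.1 (k.le hx)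

theorem cent_s (k : KB D K) {x : G} (hx : x ∈ K) (h : x * D.s = D.s * x) : x ∈ D.V := by
  rw [← k.inf]
  exact ⟨hx, Subgroup.mem_inf.2 ⟨mem_centralizer_one.2 h, k.le hx⟩⟩

/-- involutions of `C(c)` are conjugate into `X`. -/
theorem conj_X (k : KB D K) {y : G} (hyt : y * D.c = D.c * y) (hy2 : y * y = 1) :
    ∃ g : G, g * D.c = D.c * g ∧ g * y * g⁻¹ ∈ D.X := by
  have : Fact (Nat.Prime 2) := ⟨Nat.prime_two⟩
  by_cases hy1 : y = 1
  · refine ⟨1, by simp, ?_⟩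
    rw [hy1]; simp
  · obtain ⟨g, hg, hg2⟩ := sylow_conj_into (p := 2) (Subgroup.centralizer ({D.c} : Set G)) D.X D.X_le
      (IsPGroup.of_card (n := 4) (by rw [D.card_X]; norm_num)) (by rw [D.card_X]; exact D.not_dvd)
      (mem_centralizer_one.2 hyt) (n := 1) (by rw [pow_one]; exact InvAct.orderOf_two_iff.2 ⟨hy2, hy1⟩)
    exact ⟨g, mem_centralizer_one.1 hg, hg2⟩

theorem conj_V (k : KB D K) {y : G} (hy : y ∈ K) (hy2 : y * y = 1) :
    ∃ g ∈ K, g * y * g⁻¹ ∈ D.V := by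
  obtain ⟨g, hgt, hg⟩ := k.conj_X (k.comm_c hy) hy2
  have h1 : g * y * g⁻¹ ∈ D.V := by
    rw [← k.inf]; exact ⟨k.norm g hgt y hy, hg⟩
  obtain ⟨x, hx, hxg⟩ := k.cos g hgt
  refine ⟨x⁻¹ * g, hxg, ?_⟩
  rw [cj_cj]
  have h2 := D.X_conj (D.V_le_X h1) (inv_mem hx)
  have h3 := mul_mem h1 h2
  rwa [mul_inv_cancel_left] at h3

theorem s_K (k : KB D K) {y : G} (hy : y ∈ K) (hy2 : y * y = 1) (hy1 : y ≠ 1) : IsConj D.s y := by
  obtain ⟨g, _, hg⟩ := k.conj_V hy hy2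
  have h1 := D.V_conj_s k.ha hg (fun h => hy1 (cj_eq_one.1 h))
  exact h1.trans (isConj_iff.2 ⟨g⁻¹, by group⟩)

theorem conj_c (k : KB D K) {y : G} (hyt : y * D.c = D.c * y) (hy2 : y * y = 1) (hy : y ∉ K) : IsConj D.c y := by
  obtain ⟨g, hgt, hg⟩ := k.conj_X hyt hy2
  have h1 : g * y * g⁻¹ ∉ K := by
    intro h
    apply hy
    have := k.norm g⁻¹ (inv_comm_iff.2 hgt) _ h
    have e : g⁻¹ * (g * y * g⁻¹) * g⁻¹⁻¹ = y := by group
    rwa [e] at this
  obtain ⟨i, hi, hiv⟩ := D.mem_X.1 hg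
  have hiV : i ∉ LV := fun h => h1 (k.V_le ⟨i, h, hiv⟩)
  rcases X_inv hi hiV with h | h
  · have h2 : IsConj D.c (g * y * g⁻¹) := by rw [hiv]; exact TZ.isConj D ((D.TZ_iff (LZ_lt h)).2 h)
    exact h2.trans (isConj_iff.2 ⟨g⁻¹, by group⟩)
  · exfalso
    have h3 : (g * y * g⁻¹) * (g * y * g⁻¹) = 1 := by rw [cj_sq, hy2]; group
    rw [hiv, ← D.v_mm (C4_lt hi) (C4_lt hi), Nat.eq_of_beq_eq_true (List.all_eq_true.1 L4_sq i h), D.v1] at h3
    exact D.s1 h3

theorem mem_K_of_s (k : KB D K) {y : G} (hyt : y * D.c = D.c * y) (hZ : IsConj D.s y) : y ∈ K := by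
  by_contra h
  have hy2 : y * y = 1 := by
    obtain ⟨g, hg⟩ := isConj_iff.1 hZ
    rw [← hg, cj_sq, D.s_sq]; group
  exact D.not_conj_c (hZ.trans (k.conj_c hyt hy2 h).symm)

theorem c_not_mem (k : KB D K) : D.c ∉ K := by
  intro h
  have h1 := k.s_K h D.rel.cc D.c_ne_one
  exact D.not_conj_c h1

end KB

/-- the second case -/
structure KC {G : Type*} [Group G] [Finite G] (D : DB G) (K : Subgroup G) : Prop extends KB D K where
  ht : IsConj D.s D.t

namespace KC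

variable {G : Type*} [Group G] [Finite G] {D : DB G} {K : Subgroup G}

open DB KB

theorem cent_V (k : KC D K) {x y : G} (hx : x ∈ K) (hy : y ∈ D.V) (hy1 : y ≠ 1) (h : x * y = y * x) :
    x ∈ D.V := by
  obtain ⟨g, hgc, h1, h2⟩ := D.exists_g1 k.ha k.ht
  have hgV : ∀ z ∈ D.V, g * z * g⁻¹ ∈ D.V := by
    intro z hz
    rcases D.mem_V.1 hz with rfl | rfl | rfl | rfl
    · rw [mul_one, mul_inv_cancel]; exact D.V.one_mem
    · rw [h1]; exact D.a_mem_V
    · rw [h2]; exact D.s_mem_V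
    · rw [D.v8_eq, cj_mul, h1, h2]; exact mul_mem D.a_mem_V D.s_mem_V
  have key : ∀ x : G, x ∈ K → x * D.a = D.a * x → x ∈ D.V := by
    intro x hx h
    have h3 : g⁻¹ * x * g⁻¹⁻¹ ∈ K := k.norm _ (inv_comm_iff.2 hgc) x hx
    have h4 : (g⁻¹ * x * g⁻¹⁻¹) * D.s = D.s * (g⁻¹ * x * g⁻¹⁻¹) := by
      have := cj_comm (g := g⁻¹) h
      have e1 : g⁻¹ * D.a * g⁻¹⁻¹ = D.s := by rw [← h1]; group
      rwa [e1] at this
    have h5 := hgV _ (k.cent_s h3 h4)
    have e2 : g * (g⁻¹ * x * g⁻¹⁻¹) * g⁻¹ = x := by group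
    rwa [e2] at h5
  rcases D.mem_V.1 hy with rfl | rfl | rfl | rfl
  · exact absurd rfl hy1
  · exact k.cent_s hx h
  · exact key x hx h
  · have h5 : (5 : ℕ) ∈ C4 := by decide
    have g1 : D.v 5 * D.v 8 * (D.v 5)⁻¹ = D.a := by
      rw [← D.v_cj (by norm_num) (by norm_num), show cj 5 8 = 2 by decide +kernel, v2]
    have h6 := key _ (k.norm _ (D.comm_c h5) x hx) (by rw [← g1]; exact cj_comm h)
    have hX5 : D.v 5 ∈ D.X := D.mem_X.2 ⟨5, h5, rfl⟩
    have h7 := D.X_conj (D.V_le_X h6) (inv_mem hX5)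
    have h8 := mul_mem h6 h7
    rw [mul_inv_cancel_left] at h8
    have e2 : (D.v 5)⁻¹ * (D.v 5 * x * (D.v 5)⁻¹) * (D.v 5)⁻¹⁻¹ = x := by group
    rwa [e2] at h8

/-- there is an element of order three in `K` moving `s`. -/
theorem exists_sigma (k : KC D K) : ∃ σ ∈ K, orderOf σ = 3 ∧ σ * D.s ≠ D.s * σ := by
  obtain ⟨g, hgc, h1, h2⟩ := D.exists_g1 k.ha k.ht
  have h5 : (5 : ℕ) ∈ C4 := by decide
  have g0 : D.v 5 * D.a * (D.v 5)⁻¹ = D.v 8 := by
    rw [← D.v2, ← D.v_cj (by norm_num) (by norm_num), show cj 5 2 = 8 by decide +kernel]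
  have g1 : D.v 5 * D.v 8 * (D.v 5)⁻¹ = D.a := by
    rw [← D.v_cj (by norm_num) (by norm_num), show cj 5 8 = 2 by decide +kernel, v2]
  have g2 : D.v 5 * D.s * (D.v 5)⁻¹ = D.s := cj_eq_self.2 (D.v_comm (by norm_num))
  have g3 : g * D.v 8 * g⁻¹ = D.v 8 := by
    rw [D.v8_eq, cj_mul, h1, h2]
    exact D.V_comm D.a_mem_V D.s_mem_V
  set w := D.v 5 * g with hw
  have w1 : w * D.s * w⁻¹ = D.v 8 := by rw [hw, cj_cj, h1, g0]
  have w2 : w * D.v 8 * w⁻¹ = D.a := by rw [hw, cj_cj, g3, g1]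
  have w3 : w * D.a * w⁻¹ = D.s := by rw [hw, cj_cj, h2, g2]
  have wc : w * D.c = D.c * w := by
    apply cj_eq_self.1
    rw [hw, cj_cj, cj_eq_self.2 hgc]; exact cj_eq_self.2 (D.comm_c h5)
  clear_value w
  -- the cube
  have hc3 : ∀ z ∈ D.V, w * (w * (w * z * w⁻¹) * w⁻¹) * w⁻¹ = z := by
    intro z hz
    rcases D.mem_V.1 hz with rfl | rfl | rfl | rfl
    · group
    · rw [w1, w2, w3]
    · rw [w3, w1, w2]
    · rw [w2, w3, w1]
  have hcube : ∀ z ∈ D.V, (w ^ 3) * z * (w ^ 3)⁻¹ = z := by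
    intro z hz
    have : w ^ 3 * z * (w ^ 3)⁻¹ = w * (w * (w * z * w⁻¹) * w⁻¹) * w⁻¹ := by
      rw [show w ^ 3 = w * (w * w) by rw [pow_succ', pow_two], cj_cj w (w * w) z, cj_cj w w z]
    rw [this, hc3 z hz]
  have hcc : w ^ 3 * D.c = D.c * w ^ 3 := (Commute.pow_left (show Commute w D.c from wc) 3).eq
  have h3s := cj_eq_self.1 (hcube _ D.s_mem_V)
  have h3a := cj_eq_self.1 (hcube _ D.a_mem_V)
  obtain ⟨i, hi, hiv⟩ := D.exists_C4 h3s hcc
  have h24 : w ^ 3 * w ^ 3 * (w ^ 3 * w ^ 3) = 1 := by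
    rw [hiv]
    rcases D.sq_C4 hi with h | h
    · rw [h, one_mul]
    · rw [h, D.s_sq]
  have h12 : w ^ 12 = 1 := by
    have : w ^ 12 = w ^ 3 * w ^ 3 * (w ^ 3 * w ^ 3) := by rw [← pow_add, ← pow_add]
    rw [this, h24]
  have e4 : (w ^ 4) ^ 3 = 1 := by rw [← pow_mul]; exact h12
  have h4s : w ^ 4 * D.s * (w ^ 4)⁻¹ = D.v 8 := by
    have : w ^ 4 * D.s * (w ^ 4)⁻¹ = w * ((w ^ 3) * D.s * (w ^ 3)⁻¹) * w⁻¹ := by
      rw [show w ^ 4 = w * w ^ 3 by rw [pow_succ' w 3], cj_cj w (w ^ 3) D.s]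
    rw [this, hcube _ D.s_mem_V, w1]
  have hc4 : w ^ 4 * D.c = D.c * w ^ 4 := (Commute.pow_left (show Commute w D.c from wc) 4).eq
  have hne : w ^ 4 * D.s ≠ D.s * w ^ 4 := by
    intro h
    rw [cj_eq_self.2 h, ← D.v1] at h4s
    exact D.ne (by norm_num) (by norm_num) (by norm_num : (1 : ℕ) ≠ 8) h4s
  refine ⟨w ^ 4, k.three _ hc4 e4, ?_, hne⟩
  have hp3 : Fact (Nat.Prime 3) := ⟨by norm_num⟩
  exact orderOf_eq_prime e4 (fun h => hne (by rw [h]; group))

theorem card_K_inf (k : KC D K) : K ⊓ Subgroup.centralizer ({D.s} : Set G) = D.V := by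
  apply le_antisymm
  · rintro x ⟨h1, h2⟩
    exact k.cent_s h1 (mem_centralizer_one.1 h2)
  · intro x hx
    exact ⟨k.V_le hx, mem_centralizer_one.2 (D.V_comm hx D.s_mem_V)⟩

/-- The two cases. -/
theorem cases (k : KC D K) :
    (Nat.card (Subgroup.centralizer ({D.c} : Set G)) = 48 ∧ ∀ y ∈ K, y * y = 1 → y ∈ D.V) ∨
      (Nat.card (Subgroup.centralizer ({D.c} : Set G)) = 240 ∧ Nonempty (K ≃* alternatingGroup (Fin 5))) := by
  have : Fact (Nat.Prime 2) := ⟨Nat.prime_two⟩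
  by_cases hn : ∀ g ∈ K, ∀ x ∈ D.V, g * x * g⁻¹ ∈ D.V
  · left
    constructor
    · have h1 := InvAct.card_conj_orbit K D.s
      have h4 : {y : G | ∃ g ∈ K, g * D.s * g⁻¹ = y}.ncard ≤ 3 := by
        have : {y : G | ∃ g ∈ K, g * D.s * g⁻¹ = y} ⊆ {D.s, D.a, D.v 8} := by
          rintro y ⟨g, hg, rfl⟩
          rcases D.mem_V.1 (hn g hg D.s D.s_mem_V) with h | h
          · exact absurd (cj_eq_one.1 h) D.s1
          · exact h
        refine (Set.ncard_le_ncard this (Set.toFinite _)).trans ?_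
        refine (Set.ncard_insert_le _ _).trans ?_
        have := Set.ncard_insert_le D.a ({D.v 8} : Set G)
        rw [Set.ncard_singleton] at this
        omega
      rw [k.card_K_inf, D.card_V] at h1
      obtain ⟨σ, hσK, hσ3, _⟩ := k.exists_sigma
      have h5 : 3 ∣ Nat.card K := by
        rw [← hσ3]
        exact Subgroup.orderOf_dvd_natCard K hσK
      have h6 := k.card
      have hpos : 0 < Nat.card K := Nat.card_pos
      omega
    · intro y hy hy2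
      obtain ⟨g, hg, hg2⟩ := k.conj_V hy hy2
      have := hn g⁻¹ (inv_mem hg) _ hg2
      have e : g⁻¹ * (g * y * g⁻¹) * g⁻¹⁻¹ = y := by group
      rwa [e] at this
  · right
    have h1 : Nat.card (D.V.subgroupOf K) = 4 := by
      rw [SubgroupTools.card_subgroupOf_of_le k.V_le, D.card_V]
    have hp : IsPGroup 2 (D.V.subgroupOf K) := IsPGroup.of_card (n := 2) (by rw [h1]; norm_num)
    have hi : ¬ 2 ∣ (D.V.subgroupOf K).index := by
      intro h
      apply D.not_dvd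
      rw [k.card, ← (D.V.subgroupOf K).card_mul_index, h1]
      obtain ⟨m, hm⟩ := h
      rw [hm]
      exact ⟨m, by ring⟩
    let T : Sylow 2 K := hp.toSylow hi
    have hT : (T : Subgroup K) = D.V.subgroupOf K := IsPGroup.toSylow_coe hp hi
    have hnc : ¬ IsCyclic (T : Subgroup K) := by
      intro hcyc
      obtain ⟨g, hg⟩ := hcyc.exists_generator
      have h2 : orderOf g = 4 := by
        rw [orderOf_eq_card_of_forall_mem_zpowers hg, hT, h1]
      have h3 : orderOf g ∣ 2 := by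
        apply orderOf_dvd_of_pow_eq_one
        apply Subtype.ext
        apply Subtype.ext
        have h4 : ((g : K) : G) ∈ D.V := by
          exact hT.le g.2
        show ((g : K) : G) ^ 2 = 1
        rw [pow_two]; exact D.V_sq h4
      rw [h2] at h3
      norm_num at h3
    have hnn : ¬ (T : Subgroup K).Normal := by
      intro h
      apply hn
      intro g hg x hx
      have h2 := h.conj_mem ⟨x, k.V_le hx⟩ (by rw [hT]; exact hx) ⟨g, hg⟩
      rw [hT] at h2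
      exact h2
    have hCV : ∀ s : K, orderOf s = 2 → ∃ g : G, ∀ c ∈ Subgroup.centralizer ({s} : Set K), g * (c : G) * g⁻¹ ∈ D.V := by
      intro s hs
      obtain ⟨hs2, hs1⟩ := InvAct.orderOf_two_iff.1 hs
      obtain ⟨g, hgK, hg⟩ := k.conj_V s.2 (congrArg Subtype.val hs2)
      refine ⟨g, ?_⟩
      intro c hc
      have hc' : (c : G) * s = s * c := congrArg Subtype.val (mem_centralizer_one.1 hc)
      refine k.cent_V (mul_mem (mul_mem hgK c.2) (inv_mem hgK)) hg ?_ ?_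
      · intro h
        exact hs1 (Subtype.ext (cj_eq_one.1 h))
      · rw [← cj_mul, ← cj_mul, hc']
    obtain ⟨F, hF, hF', hcard, ⟨e⟩⟩ := S1230.result T hnc hnn (by
      intro s hs
      obtain ⟨g, hg⟩ := hCV s hs
      constructor
      · refine ⟨⟨fun a b => ?_⟩⟩
        apply Subtype.ext
        apply Subtype.ext
        have ha := hg a a.2
        have hb := hg b b.2
        have h2 := D.V_comm ha hb
        rw [← cj_mul, ← cj_mul] at h2
        exact cj_inj h2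
      · intro c hc
        apply Subtype.ext
        have h2 := D.V_sq (hg c hc)
        rw [cj_sq, cj_eq_one] at h2
        show (c : G) ^ 2 = 1
        rw [pow_two]; exact h2)
    have hF4 : Fintype.card F = 4 := by
      rw [hcard, hT, h1]
    obtain ⟨e'⟩ := S0252.result hF4
    have e2 := e.trans e'
    refine ⟨?_, ⟨e2⟩⟩
    rw [k.card, Nat.card_congr e2.toEquiv, Base.card_alt5]

end KC

end Cfsg.Agent.Lib.M12B
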