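import Cfsg.Agent.Lib.M12M7
import Cfsg.Agent.Lib.JTw7

set_option autoImplicit false
set_option linter.all false
set_option maxRecDepth 100000

/-! Groups with an involution centralizer as in `M12`: the order. -/

namespace Cfsg.Agent.Lib.M12B

open Cfsg Cfsg.Agent.Lib Cfsg.Agent.Lib.H10Enum Cfsg.Agent.Lib.M12Tab Cfsg.Agent.Lib.M12DataB Cfsg.Agent.Lib.JTw
  Cfsg.Agent.Lib.LargeExtra

def LS : List ℕ := 1 :: (LR ++ LT)

/-- powers -/
def pw (k : ℕ) : ℕ → ℕ
  | 0 => 0
  | n + 1 => mm (pw k n) k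

def tst (k : ℕ) : Bool :=
  Nat.beq k 1 || (Nat.beq (mm k k) 1 || (Nat.beq (mm (mm k k) k) 1 || Nat.beq (mm (mm k k) (mm k k)) 1))

def LP : List (ℕ × ℕ) := (LS.product LZ).filter (fun p => tst (mm p.1 p.2))

theorem pw24 : allB (fun k => Nat.beq (pw k 24) 0) 192 = true := by decide +kernel
theorem tst_ok : allB (fun k => tst k || !(exB (fun n => Nat.beq (pw k n) 1) 24)) 192 = true := by decide +kernel
theorem LP_len : LP.length = 240 := by decide +kernel
theorem LP_nodup : LP.Nodup := by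
  unfold LP
  apply List.Nodup.filter
  apply List.Nodup.product
  · decide
  · decide
theorem LS_lt {i : ℕ} (h : i ∈ LS) : i < 192 := by revert i; decide
theorem LS_cases {i : ℕ} (h : i ∈ LS) : i = 1 ∨ i ∈ LR ∨ i ∈ LT := by
  unfold LS at h
  rcases List.mem_cons.1 h with h | h
  · exact Or.inl h
  · exact Or.inr (List.mem_append.1 h)

theorem exB_of {p : ℕ → Bool} {i : ℕ} : ∀ n, i < n → p i = true → exB p n = true
  | 0, h, _ => by omega
  | n + 1, h, hp => by
    rw [exB, Bool.or_eq_true]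
    rcases Nat.lt_succ_iff_lt_or_eq.1 h with h | rfl
    · exact Or.inr (exB_of n h hp)
    · exact Or.inl hp

theorem t53 : (DB.C7.all fun i => cond (Nat.beq (mm i 53) (mm 53 i)) (Nat.beq i 0 || Nat.beq i 1) true) = true := by
  decide +kernel

namespace DB

variable {G : Type*} [Group G] (D : DB G)

include D in
theorem pw_lt {k : ℕ} (hk : k < 192) : ∀ n, pw k n < 192
  | 0 => by show 0 < 192; norm_num
  | n + 1 => D.mm_lt (pw_lt hk n) hk

theorem v_pw {k : ℕ} (hk : k < 192) : ∀ n, D.v (pw k n) = D.v k ^ n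
  | 0 => by rw [pow_zero]; exact D.v0
  | n + 1 => by
    show D.v (mm (pw k n) k) = _
    rw [D.v_mm (D.pw_lt hk n) hk, v_pw hk n, pow_succ]

theorem mem_zpowers_iff_tst {k : ℕ} (hk : k < 192) : D.s ∈ Subgroup.zpowers (D.v k) ↔ tst k = true := by
  constructor
  · intro h
    have h24 : D.v k ^ 24 = 1 := by
      rw [← D.v_pw hk, Nat.eq_of_beq_eq_true (allB_spec 192 pw24 k hk), v0]
    obtain ⟨n, hn⟩ := Subgroup.mem_zpowers_iff.1 h
    have hn' : D.v k ^ (n % 24).toNat = D.s := by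
      have h1 : ((n % 24).toNat : ℤ) = n % 24 := Int.toNat_of_nonneg (Int.emod_nonneg _ (by norm_num))
      rw [← zpow_natCast, h1, ← hn]
      conv_rhs => rw [← Int.emod_add_mul_ediv n 24]
      rw [zpow_add, zpow_mul, show D.v k ^ (24 : ℤ) = 1 by exact_mod_cast h24, one_zpow, mul_one]
    have hlt : (n % 24).toNat < 24 := by
      have h2 : n % 24 < 24 := Int.emod_lt_of_pos _ (by norm_num)
      omega
    rw [← D.v_pw hk, ← D.v1] at hn'
    have h3 := D.inj (D.pw_lt hk _) (by norm_num) hn'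
    have h4 := allB_spec 192 tst_ok k hk
    rw [Bool.or_eq_true] at h4
    rcases h4 with h4 | h4
    · exact h4
    · exfalso
      have h5 : exB (fun n => Nat.beq (pw k n) 1) 24 = true := exB_of 24 hlt (by show Nat.beq _ 1 = true; rw [h3]; rfl)
      rw [h5] at h4
      exact absurd h4 (by decide)
  · intro h
    unfold tst at h
    rw [Bool.or_eq_true, Bool.or_eq_true, Bool.or_eq_true] at h
    rcases h with h | h | h | h
    · rw [Nat.eq_of_beq_eq_true h, v1]; exact Subgroup.mem_zpowers _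
    · have h1 := D.v_mm hk hk
      rw [Nat.eq_of_beq_eq_true h, v1] at h1
      rw [h1]; exact mul_mem (Subgroup.mem_zpowers _) (Subgroup.mem_zpowers _)
    · have h1 := D.v_mm (D.mm_lt hk hk) hk
      rw [Nat.eq_of_beq_eq_true h, v1, D.v_mm hk hk] at h1
      rw [h1]
      exact mul_mem (mul_mem (Subgroup.mem_zpowers _) (Subgroup.mem_zpowers _)) (Subgroup.mem_zpowers _)
    · have h1 := D.v_mm (D.mm_lt hk hk) (D.mm_lt hk hk)
      rw [Nat.eq_of_beq_eq_true h, v1, D.v_mm hk hk] at h1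
      rw [h1]
      exact mul_mem (mul_mem (Subgroup.mem_zpowers _) (Subgroup.mem_zpowers _))
        (mul_mem (Subgroup.mem_zpowers _) (Subgroup.mem_zpowers _))

theorem inv_of_conj {x : G} (h : IsConj D.s x) : x * x = 1 ∧ x ≠ 1 := by
  obtain ⟨k, hk⟩ := isConj_iff.1 h
  exact ⟨by rw [← hk, cj_sq, D.s_sq]; group, by rw [← hk]; intro h; exact D.s1 (cj_eq_one.1 h)⟩
theorem inv_of_conj_c {x : G} (h : IsConj D.c x) : x * x = 1 ∧ x ≠ 1 := by
  obtain ⟨k, hk⟩ := isConj_iff.1 h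
  exact ⟨by rw [← hk, cj_sq, D.rel.cc]; group, by rw [← hk]; intro h; exact D.c_ne_one (cj_eq_one.1 h)⟩

theorem conj_s_node (ha : IsConj D.s D.a) (ht : IsConj D.s D.t) {i : ℕ} (hi : i < 192) :
    IsConj D.s (D.v i) ↔ i ∈ LS := by
  constructor
  · intro h
    obtain ⟨h2, h1⟩ := D.inv_of_conj h
    rcases D.types (D.v_comm hi) h2 h1 with h3 | h3 | h3 | h3
    · have : i = 1 := D.inj hi (by norm_num) (by rw [h3, v1])
      rw [this]; decide
    · exact List.mem_cons_of_mem _ (List.mem_append.2 (Or.inl ((D.TR_iff hi).1 h3)))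
    · exact absurd (h.trans (TZ.isConj D h3).symm) D.not_conj_c
    · exact List.mem_cons_of_mem _ (List.mem_append.2 (Or.inr ((D.TT_iff hi).1 h3)))
  · intro h
    rcases LS_cases h with rfl | h | h
    · rw [v1]
    · exact ha.trans (TR.isConj D ((D.TR_iff hi).2 h))
    · exact ht.trans (TT.isConj D ((D.TT_iff hi).2 h))

theorem conj_c_node (ha : IsConj D.s D.a) (ht : IsConj D.s D.t) {i : ℕ} (hi : i < 192) :
    IsConj D.c (D.v i) ↔ i ∈ LZ := by
  constructor
  · intro h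
    obtain ⟨h2, h1⟩ := D.inv_of_conj_c h
    rcases D.types (D.v_comm hi) h2 h1 with h3 | h3 | h3 | h3
    · exact absurd (by rw [h3] at h; exact h.symm) D.not_conj_c
    · exact absurd (ha.trans ((TR.isConj D h3).trans h.symm)) D.not_conj_c
    · exact (D.TZ_iff hi).1 h3
    · exact absurd (ht.trans ((TT.isConj D h3).trans h.symm)) D.not_conj_c
  · intro h; exact TZ.isConj D ((D.TZ_iff hi).2 h)

/-- the first count -/
theorem count_s (ha : IsConj D.s D.a) (ht : IsConj D.s D.t) :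
    Nat.card {p : G × G // IsConj D.s p.1 ∧ IsConj D.c p.2 ∧ D.s ∈ Subgroup.zpowers (p.1 * p.2)} = 240 := by
  classical
  have h1 : {p : G × G | IsConj D.s p.1 ∧ IsConj D.c p.2 ∧ D.s ∈ Subgroup.zpowers (p.1 * p.2)} =
      (fun q : ℕ × ℕ => (D.v q.1, D.v q.2)) '' (LP.toFinset : Set (ℕ × ℕ)) := by
    ext ⟨x, y⟩
    constructor
    · rintro ⟨hx, hy, hs⟩
      dsimp only at hx hy hs
      have h4 := comm_of_zpowers (D.inv_of_conj hx).1 (D.inv_of_conj_c hy).1 D.s_sq hs
      obtain ⟨i, hi, rfl⟩ := D.exists_v h4.1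
      obtain ⟨j, hj, rfl⟩ := D.exists_v h4.2
      refine ⟨(i, j), ?_, rfl⟩
      rw [List.coe_toFinset]
      show (i, j) ∈ LP
      unfold LP
      rw [List.mem_filter]
      refine ⟨List.pair_mem_product.2 ⟨(D.conj_s_node ha ht hi).1 hx, (D.conj_c_node ha ht hj).1 hy⟩, ?_⟩
      show tst (mm i j) = true
      rw [← D.mem_zpowers_iff_tst (D.mm_lt hi hj), D.v_mm hi hj]; exact hs
    · rintro ⟨⟨i, j⟩, hij, hxy⟩
      rw [List.coe_toFinset] at hij
      have hij : (i, j) ∈ LP := hij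
      unfold LP at hij
      rw [List.mem_filter] at hij
      obtain ⟨hij, h5⟩ := hij
      obtain ⟨hiS, hjZ⟩ := List.pair_mem_product.1 hij
      have h5 : tst (mm i j) = true := h5
      obtain ⟨rfl, rfl⟩ := Prod.mk.inj hxy
      refine ⟨(D.conj_s_node ha ht (LS_lt hiS)).2 hiS, (D.conj_c_node ha ht (LZ_lt hjZ)).2 hjZ, ?_⟩
      show D.s ∈ Subgroup.zpowers (D.v i * D.v j)
      rw [← D.v_mm (LS_lt hiS) (LZ_lt hjZ), D.mem_zpowers_iff_tst (D.mm_lt (LS_lt hiS) (LZ_lt hjZ))]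
      exact h5
  have h2 : Nat.card {p : G × G // IsConj D.s p.1 ∧ IsConj D.c p.2 ∧ D.s ∈ Subgroup.zpowers (p.1 * p.2)} =
      ({p : G × G | IsConj D.s p.1 ∧ IsConj D.c p.2 ∧ D.s ∈ Subgroup.zpowers (p.1 * p.2)}).ncard :=
    Nat.card_coe_set_eq _
  rw [h2, h1, Set.ncard_image_of_injOn, Set.ncard_coe_finset, List.toFinset_card_of_nodup LP_nodup, LP_len]
  rintro ⟨i, j⟩ hij ⟨i', j'⟩ hij' h
  rw [List.coe_toFinset] at hij hij'
  have hij : (i, j) ∈ LP := hij
  have hij' : (i', j') ∈ LP := hij'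
  unfold LP at hij hij'
  obtain ⟨a1, a2⟩ := List.pair_mem_product.1 (List.mem_filter.1 hij).1
  obtain ⟨b1, b2⟩ := List.pair_mem_product.1 (List.mem_filter.1 hij').1
  obtain ⟨h1, h2⟩ := Prod.mk.inj h
  have h1 : D.v i = D.v i' := h1
  have h2 : D.v j = D.v j' := h2
  rw [D.inj (LS_lt a1) (LS_lt b1) h1, D.inj (LZ_lt a2) (LZ_lt b2) h2]

variable [Finite G]

theorem exists_sylow : ∃ P : Sylow 2 G, ∀ p ∈ P, p * D.s = D.s * p := by
  have : Fact (Nat.Prime 2) := ⟨Nat.prime_two⟩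
  have hQp : IsPGroup 2 D.Q := IsPGroup.of_card (n := 5) (by rw [D.card_Q]; norm_num)
  obtain ⟨P, hP⟩ := hQp.exists_le_sylow
  refine ⟨P, ?_⟩
  have hsQ : D.s ∈ D.Q := ⟨1, by decide, D.v1.symm⟩
  have huP : D.s ∈ (P : Subgroup G) := hP hsQ
  have hnt : Nontrivial (P : Subgroup G) := ⟨⟨⟨D.s, huP⟩, 1, fun h => D.s1 (congrArg Subtype.val h)⟩⟩
  have hnt2 := IsPGroup.center_nontrivial P.2
  obtain ⟨⟨c, hc⟩, hc1⟩ := exists_ne (1 : Subgroup.center (P : Subgroup G))
  have hcc : ∀ p ∈ (P : Subgroup G), p * (c : G) = c * p := by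
    intro p hp
    exact congrArg Subtype.val (Subgroup.mem_center_iff.1 hc ⟨p, hp⟩)
  have hcs := hcc _ huP
  obtain ⟨i, hi, hiv⟩ := D.exists_v hcs.symm
  have key : ∀ j ∈ LQ, mm i j = mm j i := by
    intro j hj
    rw [← D.comm_iff hi (LQ_lt hj), ← hiv]
    exact (hcc _ (hP ⟨j, hj, rfl⟩)).symm
  have h1 := allB_spec 192 LQ_cen i hi
  rw [key 2 (by decide), key 3 (by decide), key 4 (by decide), key 5 (by decide)] at h1
  simp only [Nat.beq_refl, Bool.and_self, cond_true] at h1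
  rw [Bool.or_eq_true] at h1
  rcases h1 with h1 | h1
  · exfalso
    apply hc1
    apply Subtype.ext
    apply Subtype.ext
    show (c : G) = 1
    rw [hiv, Nat.eq_of_beq_eq_true h1, v0]
  · intro p hp
    have : (c : G) = D.s := by rw [hiv, Nat.eq_of_beq_eq_true h1, v1]
    rw [← this]; exact hcc p hp

theorem inv_type (ha : IsConj D.s D.a) (ht : IsConj D.s D.t) {y : G} (hy2 : y * y = 1) (hy1 : y ≠ 1) :
    IsConj D.s y ∨ IsConj D.c y := by
  have : Fact (Nat.Prime 2) := ⟨Nat.prime_two⟩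
  obtain ⟨P, hP⟩ := D.exists_sylow
  have hy : IsPGroup 2 (Subgroup.zpowers y) := by
    apply IsPGroup.of_card (n := 1)
    rw [Nat.card_zpowers, pow_one]
    exact InvAct.orderOf_two_iff.2 ⟨hy2, hy1⟩
  obtain ⟨P', hP'⟩ := hy.exists_le_sylow
  obtain ⟨g, hg⟩ := MulAction.exists_smul_eq G P' P
  have h1 : g * y * g⁻¹ ∈ P := by
    rw [← hg]
    exact ⟨y, hP' (Subgroup.mem_zpowers y), rfl⟩
  have h2 := hP _ h1
  have e1 : (g * y * g⁻¹) * (g * y * g⁻¹) = 1 := by rw [cj_sq, hy2]; group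
  have e2 : g * y * g⁻¹ ≠ 1 := fun h => hy1 (cj_eq_one.1 h)
  have e3 : IsConj (g * y * g⁻¹) y := isConj_iff.2 ⟨g⁻¹, by group⟩
  rcases D.types h2 e1 e2 with h | h | h | h
  · left; rw [← h]; exact e3
  · left; exact ha.trans ((TR.isConj D h).trans e3)
  · right; exact (TZ.isConj D h).trans e3
  · left; exact ht.trans ((TT.isConj D h).trans e3)

end DB

namespace KC

variable {G : Type*} [Group G] [Finite G] {D : DB G} {K : Subgroup G}

open DB KB

theorem sq_mem_K (k : KC D K) {g : G} (hg : g * D.c = D.c * g) : g * g ∈ K := by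
  obtain ⟨x, hx, hxg⟩ := k.cos g hg
  have hxc : x * D.c = D.c * x := mem_centralizer_one.1 (D.X_le hx)
  have h1 : g = x * (x⁻¹ * g) := by group
  have h2 : g * g = (x * (x⁻¹ * g) * x⁻¹) * (x * x) * (x⁻¹ * g) := by group
  rw [h2]
  have hxx : x * x ∈ K := by
    rcases D.X_sq hx with h | h
    · rw [h]; exact K.one_mem
    · rw [h]; exact k.V_le D.s_mem_V
  exact mul_mem (mul_mem (k.norm x hxc _ hxg) hxx) hxg

/-- the second count, reduced to pairs of involutions in `K`. -/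
theorem count_c (k : KC D K) :
    Nat.card {p : G × G // IsConj D.s p.1 ∧ IsConj D.c p.2 ∧ D.c ∈ Subgroup.zpowers (p.1 * p.2)} =
      Nat.card {p : K × K // p.1 * p.1 = 1 ∧ p.1 ≠ 1 ∧ p.2 * p.2 = 1 ∧ p.2 ≠ 1 ∧ Odd (orderOf (p.1 * p.2))} := by
  have ht2 := D.rel.cc
  have hti : D.c⁻¹ = D.c := by rw [inv_eq_iff_mul_eq_one]; exact ht2
  have key : ∀ p : G × G, (IsConj D.s p.1 ∧ IsConj D.c p.2 ∧ D.c ∈ Subgroup.zpowers (p.1 * p.2)) →
      p.1 ∈ K ∧ D.c * p.2 ∈ K ∧ p.1 * p.1 = 1 ∧ p.1 ≠ 1 ∧ (D.c * p.2) * (D.c * p.2) = 1 ∧ D.c * p.2 ≠ 1 ∧ Odd (orderOf (p.1 * (D.c * p.2))) := by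
    rintro ⟨x, y⟩ ⟨h1, h2, h3⟩
    simp only at h1 h2 h3 ⊢
    obtain ⟨hx2, hx1⟩ := D.inv_of_conj h1
    obtain ⟨hy2, hy1⟩ := D.inv_of_conj_c h2
    have h4 := comm_of_zpowers hx2 hy2 ht2 h3
    have hxK := k.mem_K_of_s h4.1 h1
    obtain ⟨n, hn⟩ := Subgroup.mem_zpowers_iff.1 h3
    have hcomm : (D.c * y) * (D.c * y) = 1 := by
      calc (D.c * y) * (D.c * y) = D.c * (y * D.c) * y := by simp only [mul_assoc]
        _ = (D.c * D.c) * (y * y) := by rw [h4.2]; simp only [mul_assoc]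
        _ = 1 := by rw [ht2, hy2, one_mul]
    have hxyt : (x * y) * D.c = D.c * (x * y) := by rw [mul_assoc, h4.2, ← mul_assoc, h4.1, mul_assoc]
    have hsq : (x * y) * (x * y) ∈ K := k.sq_mem_K hxyt
    have hnodd : Odd n := by
      rw [← Int.not_even_iff_odd]
      rintro ⟨m, hm⟩
      apply k.c_not_mem
      rw [← hn, hm, ← two_mul, zpow_mul, zpow_two]
      exact zpow_mem hsq m
    obtain ⟨m, hm⟩ := hnodd
    have htyK : D.c * y ∈ K := by
      have h5 : D.c = ((x * y) * (x * y)) ^ m * (x * y) := by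
        rw [← hn, hm, zpow_add, zpow_mul, zpow_two, zpow_one]
      have h6 : D.c * y = ((x * y) * (x * y)) ^ m * x * (y * y) := by
        calc D.c * y = ((x * y) * (x * y)) ^ m * (x * y) * y := by rw [← h5]
          _ = _ := by simp only [mul_assoc]
      rw [h6, hy2, mul_one]
      exact mul_mem (zpow_mem hsq m) hxK
    have hodd : Odd (orderOf (x * (D.c * y))) := by
      have h7 : x * (D.c * y) = D.c * (x * y) := by rw [← mul_assoc, h4.1, mul_assoc]
      have h8 : (x * (D.c * y)) ^ n = 1 := by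
        rw [h7, (show Commute D.c (x * y) from hxyt.symm).mul_zpow, hn, hm, zpow_add, zpow_mul, zpow_two, ht2, one_zpow, one_mul, zpow_one, ht2]
      have h9 : (orderOf (x * (D.c * y)) : ℤ) ∣ n := orderOf_dvd_iff_zpow_eq_one.2 h8
      have h10 : ¬ (2 ∣ orderOf (x * (D.c * y))) := by
        intro h
        have h11 : (2 : ℤ) ∣ n := (Int.natCast_dvd_natCast.2 h).trans h9
        omega
      rw [← Nat.not_even_iff_odd, even_iff_two_dvd]; exact h10
    refine ⟨hxK, htyK, hx2, hx1, hcomm, ?_, hodd⟩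
    intro h
    rw [h, mul_one, InvAct.orderOf_two_iff.2 ⟨hx2, hx1⟩] at hodd
    revert hodd; decide
  have key2 : ∀ x y : G, x ∈ K → y ∈ K → x * x = 1 → x ≠ 1 → y * y = 1 → y ≠ 1 → Odd (orderOf (x * y)) →
      IsConj D.s x ∧ IsConj D.c (D.c * y) ∧ D.c ∈ Subgroup.zpowers (x * (D.c * y)) := by
    intro x y hx hy hx2 hx1 hy2 hy1 hodd
    have hxt := k.comm_c hx
    have hyt := k.comm_c hy
    refine ⟨k.s_K hx hx2 hx1, ?_, ?_⟩
    · apply k.conj_c
      · rw [mul_assoc, hyt]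
      · calc (D.c * y) * (D.c * y) = D.c * (y * D.c) * y := by simp only [mul_assoc]
          _ = (D.c * D.c) * (y * y) := by rw [hyt]; simp only [mul_assoc]
          _ = 1 := by rw [ht2, hy2, one_mul]
      · intro h
        apply k.c_not_mem
        have := mul_mem h (inv_mem hy)
        simpa using this
    · have h7 : x * (D.c * y) = D.c * (x * y) := by rw [← mul_assoc, hxt, mul_assoc]
      have hxyt : Commute D.c (x * y) := by
        show D.c * (x * y) = x * y * D.c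
        rw [mul_assoc, hyt, ← mul_assoc, ← mul_assoc, hxt]
      obtain ⟨m, hm⟩ := hodd
      have h8 : (x * (D.c * y)) ^ (orderOf (x * y)) = D.c := by
        rw [h7, hxyt.mul_pow, pow_orderOf_eq_one, mul_one, hm, pow_add, pow_mul, pow_two, ht2, one_pow, one_mul, pow_one]
      have h9 := Subgroup.npow_mem_zpowers (x * (D.c * y)) (orderOf (x * y))
      rwa [h8] at h9
  apply Nat.card_congr
  have hord : ∀ x y : K, orderOf (x * y) = orderOf ((x : G) * y) := by
    intro x y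
    rw [← Subgroup.orderOf_coe]; rfl
  refine ⟨fun p => ⟨(⟨p.1.1, (key p.1 p.2).1⟩, ⟨D.c * p.1.2, (key p.1 p.2).2.1⟩), ?_⟩,
    fun q => ⟨((q.1.1 : G), D.c * (q.1.2 : G)), ?_⟩, ?_, ?_⟩
  · have h := (key p.1 p.2).2.2
    refine ⟨Subtype.ext h.1, fun h' => h.2.1 (congrArg Subtype.val h'), Subtype.ext h.2.2.1,
      fun h' => h.2.2.2.1 (congrArg Subtype.val h'), ?_⟩
    rw [hord]; exact h.2.2.2.2
  · have h := q.2
    have h5 := h.2.2.2.2
    rw [hord] at h5
    exact key2 q.1.1 q.1.2 q.1.1.2 q.1.2.2 (congrArg Subtype.val h.1) (fun h' => h.2.1 (Subtype.ext h'))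
      (congrArg Subtype.val h.2.2.1) (fun h' => h.2.2.2.1 (Subtype.ext h')) h5
  · intro p
    apply Subtype.ext
    apply Prod.ext
    · rfl
    · show D.c * (D.c * p.1.2) = p.1.2
      rw [← mul_assoc, ht2, one_mul]
  · intro q
    apply Subtype.ext
    apply Prod.ext
    · rfl
    · apply Subtype.ext
      show D.c * (D.c * (q.1.2 : G)) = q.1.2
      rw [← mul_assoc, ht2, one_mul]

theorem order_formula (k : KC D K) :
    Nat.card G = Nat.card (Subgroup.centralizer ({D.c} : Set G)) * 240 + 192 *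
      Nat.card {p : K × K // p.1 * p.1 = 1 ∧ p.1 ≠ 1 ∧ p.2 * p.2 = 1 ∧ p.2 ≠ 1 ∧ Odd (orderOf (p.1 * p.2))} := by
  have hc : orderOf D.c = 2 := InvAct.orderOf_two_iff.2 ⟨D.rel.cc, D.c_ne_one⟩
  have h := S0213.result D.s D.c D.s_ord hc D.not_conj_c (by
    intro y hy
    obtain ⟨h1, h2⟩ := InvAct.orderOf_two_iff.1 hy
    exact D.inv_type k.ha k.ht h1 h2)
  rw [D.count_s k.ha k.ht, k.count_c, D.card] at h
  exact h

theorem order_cases (k : KC D K) :
    (Nat.card (Subgroup.centralizer ({D.c} : Set G)) = 48 ∧ Nat.card G = 12096) ∨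
      (Nat.card (Subgroup.centralizer ({D.c} : Set G)) = 240 ∧ Nat.card G = 95040) := by
  rcases k.cases with ⟨h1, h2⟩ | ⟨h1, ⟨e⟩⟩
  · left
    refine ⟨h1, ?_⟩
    rw [k.order_formula, h1]
    have h3 : Nat.card {p : K × K // p.1 * p.1 = 1 ∧ p.1 ≠ 1 ∧ p.2 * p.2 = 1 ∧ p.2 ≠ 1 ∧ Odd (orderOf (p.1 * p.2))} = 3 := by
      have hprop : ∀ p : K × K, (p.1 * p.1 = 1 ∧ p.1 ≠ 1 ∧ p.2 * p.2 = 1 ∧ p.2 ≠ 1 ∧ Odd (orderOf (p.1 * p.2))) ↔
          (p.1 = p.2 ∧ (p.1 : G) ∈ (D.V : Set G) \ {1}) := by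
        rintro ⟨x, y⟩
        simp only
        constructor
        · rintro ⟨hx2, hx1, hy2, hy1, hodd⟩
          have hxV := h2 x x.2 (congrArg Subtype.val hx2)
          have hyV := h2 y y.2 (congrArg Subtype.val hy2)
          have hxy := D.V_sq (mul_mem hxV hyV)
          have hxy' : (x * y) ^ 2 = 1 := by
            rw [pow_two]; exact Subtype.ext hxy
          have h4 : orderOf (x * y) ∣ 2 := orderOf_dvd_of_pow_eq_one hxy'
          have h5 : orderOf (x * y) = 1 := by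
            rcases (Nat.dvd_prime Nat.prime_two).1 h4 with h | h
            · exact h
            · rw [h] at hodd; exact absurd hodd (by decide)
          rw [orderOf_eq_one_iff] at h5
          refine ⟨?_, hxV, ?_⟩
          · have : y⁻¹ = y := by rw [inv_eq_iff_mul_eq_one]; exact hy2
            rw [← this]; exact eq_inv_of_mul_eq_one_left h5
          · intro h; exact hx1 (Subtype.ext h)
        · rintro ⟨rfl, hxV, hx1⟩
          have hx1' : x ≠ 1 := fun h => hx1 (congrArg Subtype.val h)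
          have hx2 : x * x = 1 := Subtype.ext (D.V_sq hxV)
          refine ⟨hx2, hx1', hx2, hx1', ?_⟩
          rw [hx2, orderOf_one]; exact odd_one
      have e1 : {p : K × K // p.1 * p.1 = 1 ∧ p.1 ≠ 1 ∧ p.2 * p.2 = 1 ∧ p.2 ≠ 1 ∧ Odd (orderOf (p.1 * p.2))} ≃
          ((D.V : Set G) \ {1} : Set G) :=
        { toFun := fun p => ⟨p.1.1, ((hprop p.1).1 p.2).2⟩
          invFun := fun x => ⟨(⟨x.1, k.V_le x.2.1⟩, ⟨x.1, k.V_le x.2.1⟩), (hprop _).2 ⟨rfl, x.2⟩⟩
          left_inv := by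
            rintro ⟨⟨x, y⟩, hp⟩
            have := ((hprop (x, y)).1 hp).1
            simp only at this
            subst this
            rfl
          right_inv := fun x => rfl }
      rw [Nat.card_congr e1, Nat.card_coe_set_eq, Set.ncard_diff_singleton_of_mem (one_mem _), ← card_eq_ncard, D.card_V]
    rw [h3]
  · right
    refine ⟨h1, ?_⟩
    rw [k.order_formula, h1]
    have h3 : Nat.card {p : K × K // p.1 * p.1 = 1 ∧ p.1 ≠ 1 ∧ p.2 * p.2 = 1 ∧ p.2 ≠ 1 ∧ Odd (orderOf (p.1 * p.2))} = 195 := by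
      rw [← a5_pairs_card]
      apply Nat.card_congr
      refine Equiv.subtypeEquiv (Equiv.prodCongr e.toEquiv e.toEquiv) ?_
      rintro ⟨x, y⟩
      simp only [Equiv.prodCongr_apply, Prod.map_apply, MulEquiv.toEquiv_eq_coe, EquivLike.coe_coe]
      rw [← map_mul, ← map_mul, ← map_mul, MulEquiv.orderOf_eq]
      simp only [ne_eq, EmbeddingLike.map_eq_one_iff]
    rw [h3]

/-- the small case does not occur -/
theorem not_small (k : KC D K) (hG : Nat.card G = 12096) : False := by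
  have h1 := InvAct.card_conj_orbit (⊤ : Subgroup G) D.s
  rw [Subgroup.card_top, hG, top_inf_eq, D.card] at h1
  have h2 := InvAct.card_conj_orbit (Subgroup.centralizer ({D.t} : Set G)) (D.v 53)
  obtain ⟨g, hg⟩ := isConj_iff.1 k.ht
  have h3 : Nat.card (Subgroup.centralizer ({D.t} : Set G)) = 192 := by
    have h4 := card_cent_conj g D.s D.s
    rw [hg, inf_idem, inf_idem, D.card] at h4
    exact h4
  have h4 : Nat.card ↥(Subgroup.centralizer ({D.t} : Set G) ⊓ Subgroup.centralizer ({D.v 53} : Set G)) ≤ 2 := by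
    have h5 : (Subgroup.centralizer ({D.t} : Set G) ⊓ Subgroup.centralizer ({D.v 53} : Set G) : Subgroup G) ≤
        Subgroup.zpowers D.s := by
      rintro x ⟨hx1, hx2⟩
      have hx1 := mem_centralizer_one.1 hx1
      have hx2 := mem_centralizer_one.1 hx2
      -- `x` commutes with `s`, a power of `t v_53`
      have h6 : D.s ∈ Subgroup.zpowers (D.t * D.v 53) := by
        rw [← D.v7, ← D.v_mm (by norm_num) (by norm_num), D.mem_zpowers_iff_tst (by decide +kernel)]
        decide +kernel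
      obtain ⟨n, hn⟩ := h6
      have hn : (D.t * D.v 53) ^ n = D.s := hn
      have h7 : x * D.s = D.s * x := by
        rw [← hn]
        exact (Commute.zpow_right ((show Commute x D.t from hx1).mul_right (show Commute x (D.v 53) from hx2)) n).eq
      obtain ⟨i, hi, rfl⟩ := D.exists_C7 h7 hx1
      rw [D.comm_iff (C7_lt hi) (by norm_num)] at hx2
      have h8 := List.all_eq_true.1 t53 i hi
      rw [hx2, Nat.beq_refl, cond_true, Bool.or_eq_true] at h8
      rcases h8 with h8 | h8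
      · rw [Nat.eq_of_beq_eq_true h8, D.v0]; exact one_mem _
      · rw [Nat.eq_of_beq_eq_true h8, D.v1]; exact Subgroup.mem_zpowers _
    have h6 := Subgroup.card_le_of_le h5
    rwa [Nat.card_zpowers, D.s_ord] at h6
  rw [h3] at h2
  have h5 : {v : G | ∃ k ∈ Subgroup.centralizer ({D.t} : Set G), k * D.v 53 * k⁻¹ = v}.ncard ≤
      {v : G | ∃ k ∈ (⊤ : Subgroup G), k * D.s * k⁻¹ = v}.ncard := by
    apply Set.ncard_le_ncard _ (Set.toFinite _)
    rintro v ⟨k', -, rfl⟩
    have h53 : IsConj D.s (D.v 53) := (D.conj_s_node k.ha k.ht (by norm_num)).2 (by decide)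
    obtain ⟨m, hm⟩ := isConj_iff.1 h53
    exact ⟨k' * m, Subgroup.mem_top _, by rw [cj_cj, hm]⟩
  have h6 : 0 < Nat.card ↥(Subgroup.centralizer ({D.t} : Set G) ⊓ Subgroup.centralizer ({D.v 53} : Set G)) := Nat.card_pos
  generalize {v : G | ∃ k ∈ Subgroup.centralizer ({D.t} : Set G), k * D.v 53 * k⁻¹ = v}.ncard = A at h2 h5
  generalize {v : G | ∃ k ∈ (⊤ : Subgroup G), k * D.s * k⁻¹ = v}.ncard = B at h1 h5
  generalize Nat.card ↥(Subgroup.centralizer ({D.t} : Set G) ⊓ Subgroup.centralizer ({D.v 53} : Set G)) = C at h2 h4 h6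
  have hC : C = 1 ∨ C = 2 := by omega
  rcases hC with rfl | rfl <;> omega

end KC

/-- the order in the second case -/
theorem DB.card_G {G : Type*} [Group G] [Finite G] (D : DB G) (ht : IsConj D.s D.t) : Nat.card G = 95040 := by
  have ha := D.conj_a_of_t ht
  obtain ⟨K, hK⟩ := D.exists_K ha
  have k : KC D K := ⟨hK, ht⟩
  rcases k.order_cases with ⟨-, h⟩ | ⟨-, h⟩
  · exact (k.not_small h).elim
  · exact h

end Cfsg.Agent.Lib.M12B
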