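import Cfsg.Agent.Lib.M12M8
import Cfsg.Prelude.Def_SporadicB

set_option autoImplicit false
set_option linter.all false
set_option maxRecDepth 100000

/-! Groups with an involution centralizer as in `M12`: transport, simple groups. -/

namespace Cfsg.Agent.Lib.M12B

open Cfsg Cfsg.Agent.Lib Cfsg.Agent.Lib.H10Enum Cfsg.Agent.Lib.M12Tab Cfsg.Agent.Lib.M12DataB Cfsg.Agent.Lib.JTw
  Cfsg.Agent.Lib.LargeExtra

theorem Rel.map' {G H : Type*} [Group G] [Group H] (f : G →* H) {s a b c d p t : G} (h : Rel s a b c d p t) :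
    Rel (f s) (f a) (f b) (f c) (f d) (f p) (f t) := by
  constructor
  · rw [← map_mul, h.ss, map_one]
  · rw [← map_mul, h.aa, map_one]
  · rw [← map_mul, h.bb, map_one]
  · rw [← map_mul, h.cc, map_one]
  · rw [← map_mul, h.dd, map_one]
  · rw [← map_mul, h.tt, map_one]
  · have := congrArg f h.r0; simpa only [map_mul, map_one] using this
  · have := congrArg f h.r1; simpa only [map_mul, map_one] using this
  · have := congrArg f h.r2; simpa only [map_mul, map_one] using this
  · have := congrArg f h.r3; simpa only [map_mul, map_one] using this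
  · have := congrArg f h.r4; simpa only [map_mul, map_one] using this
  · have := congrArg f h.r5; simpa only [map_mul, map_one] using this
  · have := congrArg f h.r6; simpa only [map_mul, map_one] using this
  · have := congrArg f h.r7; simpa only [map_mul, map_one] using this
  · have := congrArg f h.r8; simpa only [map_mul, map_one] using this
  · have := congrArg f h.r9; simpa only [map_mul, map_one] using this
  · have := congrArg f h.r10; simpa only [map_mul, map_one] using this
  · have := congrArg f h.r11; simpa only [map_mul, map_one, map_inv] using this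
  · have := congrArg f h.r12; simpa only [map_mul, map_one, map_inv] using this
  · have := congrArg f h.r13; simpa only [map_mul, map_one, map_inv] using this
  · have := congrArg f h.r14; simpa only [map_mul, map_one, map_inv] using this
  · have := congrArg f h.r15; simpa only [map_mul, map_one, map_inv] using this
  · have := congrArg f h.r16; simpa only [map_mul, map_one] using this
  · have := congrArg f h.r17; simpa only [map_mul, map_one] using this
  · have := congrArg f h.r18; simpa only [map_mul, map_one] using this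
  · have := congrArg f h.r19; simpa only [map_mul, map_one] using this
  · have := congrArg f h.r20; simpa only [map_mul, map_one] using this
  · have := congrArg f h.r21; simpa only [map_mul, map_one] using this

theorem Rel.of_map {G H : Type*} [Group G] [Group H] (f : G →* H) (hf : Function.Injective f) {s a b c d p t : G}
    (h : Rel (f s) (f a) (f b) (f c) (f d) (f p) (f t)) : Rel s a b c d p t := by
  constructor <;> apply hf <;> simp only [map_mul, map_one, map_inv]
  · exact h.ss
  · exact h.aa
  · exact h.bb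
  · exact h.cc
  · exact h.dd
  · exact h.tt
  · exact h.r0
  · exact h.r1
  · exact h.r2
  · exact h.r3
  · exact h.r4
  · exact h.r5
  · exact h.r6
  · exact h.r7
  · exact h.r8
  · exact h.r9
  · exact h.r10
  · exact h.r11
  · exact h.r12
  · exact h.r13
  · exact h.r14
  · exact h.r15
  · exact h.r16
  · exact h.r17
  · exact h.r18
  · exact h.r19
  · exact h.r20
  · exact h.r21

namespace DB

variable {G : Type*} [Group G] (D : DB G)

/-- the central elements of the centralizer -/
theorem central {x : G} (hs : x * D.s = D.s * x) (ha : x * D.a = D.a * x) (hb : x * D.b = D.b * x)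
    (hc : x * D.c = D.c * x) (hd : x * D.d = D.d * x) : x = 1 ∨ x = D.s := by
  obtain ⟨i, hi, rfl⟩ := D.exists_v hs
  have h1 := allB_spec 192 LQ_cen i hi
  rw [← D.v2, D.comm_iff hi (by norm_num)] at ha
  rw [← D.v3, D.comm_iff hi (by norm_num)] at hb
  rw [← D.v4, D.comm_iff hi (by norm_num)] at hc
  rw [← D.v5, D.comm_iff hi (by norm_num)] at hd
  rw [ha, hb, hc, hd] at h1
  simp only [Nat.beq_refl, Bool.and_self, cond_true] at h1
  rw [Bool.or_eq_true] at h1
  rcases h1 with h1 | h1
  · left; rw [Nat.eq_of_beq_eq_true h1, v0]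
  · right; rw [Nat.eq_of_beq_eq_true h1, v1]

theorem card_cent_conj (g x : G) : Nat.card (Subgroup.centralizer ({g * x * g⁻¹} : Set G)) =
    Nat.card (Subgroup.centralizer ({x} : Set G)) := by
  apply Nat.card_congr
  refine ⟨fun y => ⟨g⁻¹ * y * g, ?_⟩, fun y => ⟨g * y * g⁻¹, ?_⟩, fun y => ?_, fun y => ?_⟩
  · have h := mem_centralizer_one.1 y.2
    rw [mem_centralizer_one]
    calc g⁻¹ * y * g * x = g⁻¹ * (y * (g * x * g⁻¹)) * g := by group
      _ = _ := by rw [h]; group
  · have h := mem_centralizer_one.1 y.2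
    rw [mem_centralizer_one]
    calc g * y * g⁻¹ * (g * x * g⁻¹) = g * (y * x) * g⁻¹ := by group
      _ = _ := by rw [h]; group
  · apply Subtype.ext; show g * (g⁻¹ * y * g) * g⁻¹ = y; group
  · apply Subtype.ext; show g⁻¹ * (g * y * g⁻¹) * g = y; group

/-- conjugation of the data -/
noncomputable def conjDB (g : G) : DB G where
  s := MulAut.conj g D.s
  a := MulAut.conj g D.a
  b := MulAut.conj g D.b
  c := MulAut.conj g D.c
  d := MulAut.conj g D.d
  p := MulAut.conj g D.p
  t := MulAut.conj g D.t
  rel := D.rel.map' (MulAut.conj g).toMonoidHom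
  s1 := fun h => D.s1 ((MulAut.conj g).injective (by rw [h, map_one]))
  card := by
    rw [MulAut.conj_apply, card_cent_conj, D.card]

include D in
theorem exists_conj [Finite G] {u : G} (hu1 : u ≠ 1) (hu : ∃ P : Sylow 2 G, u ∈ P ∧ ∀ x ∈ P, x * u = u * x) :
    ∃ D' : DB G, D'.s = u := by
  have : Fact (Nat.Prime 2) := ⟨Nat.prime_two⟩
  have hQp : IsPGroup 2 D.Q := IsPGroup.of_card (n := 5) (by rw [D.card_Q]; norm_num)
  obtain ⟨P, hP⟩ := hQp.exists_le_sylow
  obtain ⟨P', huP, hu'⟩ := hu
  obtain ⟨g, hg⟩ := MulAction.exists_smul_eq G P' P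
  have hmem : ∀ x ∈ P, g⁻¹ * x * g ∈ P' := by
    intro x hx
    rw [← hg] at hx
    obtain ⟨y, hy, rfl⟩ := hx
    have : g⁻¹ * (MulAut.conj g y) * g = y := by rw [MulAut.conj_apply]; group
    show g⁻¹ * (MulAut.conj g y) * g ∈ P'
    rw [this]; exact hy
  have hcom : ∀ x ∈ P, (g * u * g⁻¹) * x = x * (g * u * g⁻¹) := by
    intro x hx
    have h1 := hu' _ (hmem x hx)
    calc g * u * g⁻¹ * x = g * (u * (g⁻¹ * x * g)) * g⁻¹ := by group
      _ = _ := by rw [← h1]; group
  have hin : ∀ i ∈ LQ, D.v i ∈ P := fun i hi => hP ⟨i, hi, rfl⟩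
  have h1 := D.central (x := g * u * g⁻¹) (by rw [← D.v1]; exact hcom _ (hin _ (by decide)))
    (by rw [← D.v2]; exact hcom _ (hin _ (by decide)))
    (by rw [← D.v3]; exact hcom _ (hin _ (by decide))) (by rw [← D.v4]; exact hcom _ (hin _ (by decide)))
    (by rw [← D.v5]; exact hcom _ (hin _ (by decide)))
  rcases h1 with h1 | h1
  · exact absurd (cj_eq_one.1 h1) hu1
  · refine ⟨D.conjDB g⁻¹, ?_⟩
    show MulAut.conj g⁻¹ D.s = u
    rw [MulAut.conj_apply, ← h1]; group

/-- transport of the data along an isomorphism of centralizers -/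
theorem transport {H : Type*} [Group H] [Finite H] (D : DB H) {t : G} (ht2 : t * t = 1) (ht : t ≠ 1)
    (e : ↥(Subgroup.centralizer ({t} : Set G)) ≃* ↥(Subgroup.centralizer ({D.s} : Set H))) : ∃ D' : DB G, D'.s = t := by
  have ms : D.s ∈ Subgroup.centralizer ({D.s} : Set H) := mem_centralizer_one.2 rfl
  have ma : D.a ∈ Subgroup.centralizer ({D.s} : Set H) := by
    rw [mem_centralizer_one, ← D.v2]; exact D.v_comm (by norm_num)
  have mb : D.b ∈ Subgroup.centralizer ({D.s} : Set H) := by
    rw [mem_centralizer_one, ← D.v3]; exact D.v_comm (by norm_num)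
  have mc : D.c ∈ Subgroup.centralizer ({D.s} : Set H) := by
    rw [mem_centralizer_one, ← D.v4]; exact D.v_comm (by norm_num)
  have md : D.d ∈ Subgroup.centralizer ({D.s} : Set H) := by
    rw [mem_centralizer_one, ← D.v5]; exact D.v_comm (by norm_num)
  have mp : D.p ∈ Subgroup.centralizer ({D.s} : Set H) := by
    rw [mem_centralizer_one, ← D.v6]; exact D.v_comm (by norm_num)
  have mt : D.t ∈ Subgroup.centralizer ({D.s} : Set H) := by
    rw [mem_centralizer_one, ← D.v7]; exact D.v_comm (by norm_num)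
  have r1 : Rel (⟨D.s, ms⟩ : Subgroup.centralizer ({D.s} : Set H)) ⟨D.a, ma⟩ ⟨D.b, mb⟩ ⟨D.c, mc⟩ ⟨D.d, md⟩ ⟨D.p, mp⟩
      ⟨D.t, mt⟩ := Rel.of_map (Subgroup.subtype _) (Subgroup.subtype_injective _) D.rel
  have r2 := r1.map' e.symm.toMonoidHom
  have r3 := r2.map' (Subgroup.subtype _)
  have mt' : t ∈ Subgroup.centralizer ({t} : Set G) := mem_centralizer_one.2 rfl
  have hcen : ∀ x : Subgroup.centralizer ({t} : Set G), x * ⟨t, mt'⟩ = ⟨t, mt'⟩ * x := fun x =>
    Subtype.ext (mem_centralizer_one.1 x.2)
  have hcen' : ∀ y : Subgroup.centralizer ({D.s} : Set H), e ⟨t, mt'⟩ * y = y * e ⟨t, mt'⟩ := by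
    intro y
    have h := congrArg e (hcen (e.symm y))
    rw [map_mul, map_mul, e.apply_symm_apply] at h
    exact h.symm
  have hc : ∀ y (hy : y ∈ Subgroup.centralizer ({D.s} : Set H)), (e ⟨t, mt'⟩ : H) * y = y * (e ⟨t, mt'⟩ : H) :=
    fun y hy => congrArg Subtype.val (hcen' ⟨y, hy⟩)
  have h5 := D.central (hc _ ms) (hc _ ma) (hc _ mb) (hc _ mc) (hc _ md)
  have h6 : e ⟨t, mt'⟩ = ⟨D.s, ms⟩ := by
    rcases h5 with h5 | h5
    · exfalso
      have : e ⟨t, mt'⟩ = 1 := Subtype.ext h5
      have h7 : (⟨t, mt'⟩ : Subgroup.centralizer ({t} : Set G)) = 1 := e.injective (by rw [this, map_one])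
      exact ht (congrArg Subtype.val h7)
    · exact Subtype.ext h5
  have h8 : e.symm ⟨D.s, ms⟩ = ⟨t, mt'⟩ := by rw [← h6, e.symm_apply_apply]
  have h9 : (Subgroup.subtype _ (e.symm.toMonoidHom ⟨D.s, ms⟩) : G) = t := congrArg Subtype.val h8
  rw [h9] at r3
  exact ⟨⟨_, _, _, _, _, _, _, r3, ht, by rw [Nat.card_congr e.toEquiv]; exact D.card⟩, rfl⟩

end DB

universe u

/-- simple groups -/
theorem DB.simple {G : Type u} [Group G] [Finite G] [IsSimpleGroup G] (D : DB G) : Nat.card G = 95040 := by
  have ht1 := D.s1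
  have hne2 : Subgroup.centralizer ({D.s} : Set G) ≠ ⊥ := by
    intro h
    have := D.card
    rw [h, Subgroup.card_bot] at this
    omega
  have hcomm : ∃ x y : G, x * y ≠ y * x := by
    refine ⟨D.a, D.d, fun h => ?_⟩
    have h1 := D.rel.r8
    have h2 := D.rel.aa
    have h3 := D.rel.dd
    have : D.s = 1 := by
      calc D.s = (D.a * D.d * D.a * D.d)⁻¹ * (D.a * D.d * D.a * D.d * D.s) := by group
        _ = (D.d * D.a * D.a * D.d)⁻¹ := by rw [h1, h, mul_one]
        _ = 1 := by rw [mul_assoc D.d, h2, mul_one, h3, inv_one]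
    exact D.s1 this
  have ht : orderOf D.s = 2 := InvAct.orderOf_two_iff.2 ⟨D.rel.ss, D.s1⟩
  have hniso : ¬ IsIsolated D.s := by
    intro hiso
    have hZ := ZStarU.inZStar_of_isIsolated ⟨1, by rw [ht, pow_one]⟩ hiso
    have hZ' : ∀ g : G, g * D.s * g⁻¹ * D.s⁻¹ ∈ pPrimeCore 2 G := hZ
    have hodd : Nat.Coprime 2 (Nat.card (pPrimeCore 2 G)) := (Lib.Cores.coprime_card_pPrimeCore 2 G).symm
    haveI := pPrimeCore_normal 2 G
    rcases (inferInstance : (pPrimeCore 2 G).Normal).eq_bot_or_eq_top with h0 | h0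
    · have hcen : D.s ∈ Subgroup.center G := by
        rw [Subgroup.mem_center_iff]
        intro g
        have := hZ' g
        rw [h0, Subgroup.mem_bot] at this
        exact mul_inv_eq_iff_eq_mul.1 (mul_inv_eq_one.1 this)
      rcases (inferInstance : (Subgroup.center G).Normal).eq_bot_or_eq_top with h1 | h1
      · rw [h1, Subgroup.mem_bot] at hcen
        exact ht1 hcen
      · obtain ⟨a, b, hab⟩ := hcomm
        apply hab
        have : b ∈ Subgroup.center G := by rw [h1]; trivial
        exact Subgroup.mem_center_iff.1 this a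
    · rw [h0] at hodd
      have h2 : 2 ∣ Nat.card (⊤ : Subgroup G) := by
        rw [Subgroup.card_top, ← ht]; exact orderOf_dvd_natCard D.s
      have h3 := Nat.dvd_gcd (dvd_refl 2) h2
      rw [hodd] at h3
      omega
  have ha := D.conj_a_of_not_isolated hniso
  by_cases hst : IsConj D.s D.t
  · exact D.card_G hst
  · exfalso
    have hE := D.E_normal ha hst
    rcases hE.eq_bot_or_eq_top with h0 | h0
    · have := D.card_E
      rw [h0, Subgroup.card_bot] at this
      omega
    · have h1 := D.card_E
      rw [h0, Subgroup.card_top] at h1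
      have h2 := Subgroup.card_subgroup_dvd_card (Subgroup.centralizer ({D.s} : Set G))
      rw [D.card, h1] at h2
      omega

end Cfsg.Agent.Lib.M12B
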