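import Cfsg.Agent.Lib.M12RelA
import Cfsg.Agent.Lib.M12M9

set_option autoImplicit false
set_option linter.all false
set_option maxRecDepth 100000

/-! Groups with an involution centralizer as in `A8`: the centralizer. -/

namespace Cfsg.Agent.Lib.M12A

open Cfsg.Agent.Lib.H10Enum Cfsg.Agent.Lib.M12Tab Cfsg.Agent.Lib.M12DataA Cfsg.Agent.Lib.JTw
open Cfsg.Agent.Lib.M12B (allB allB_spec exB exB_spec memB memB_iff)

/-- inverses -/
def ivt : ℕ := 0xbfb871b9bb6cbcbe80929ba1b3a7943eab7ba351af738b49b28e4695ad61b4914b8f9a40b59d598c973ca4b164b6a05b9ea65498a9608988878672792f6f2ab77a767d2dae7f8432707e7527aa85bd7782316dba6b3f694a52561c934215a28a584e5d199043995f47661f8d3b67ac45445e4d119f68a83957a5504f5a631e9c6ab03d965338483a37302b340c786e36832e7c2c35812928742625241d16210655412365101a5c181322621417124c1b0f0e0d330b0a09080720050403020100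
def iv (i : ℕ) : ℕ := e8 ivt i
/-- multiplication of nodes -/
def mm (i j : ℕ) : ℕ := ent mt i j
def w1 : ℕ := 0x203020e02020e030218180e020e030203020502030203020e05020e05020e03020e03021803020e02020e03021803020e05020e0302020202020203020502020e020202020e03021802020202020218050203020202020204030202050202020e0202020202020e04030202020402021802020202020202040202180205020202020302020302030202040202020202020302020402020302030402020402020202020202030202030402020303020203040302020304050302020304050000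
def w2 : ℕ := 0x40004000404000004000000040000040004000400040004000004000004000004000004000004000404000004000004000004000004000004040000040004040000040404000004000004040400040000040504040004000000040400040404000004040400040000000404000004000000040404000400000400000000040400040504000000000400000404040400040504000004000504000004000004040404000400050400000004000005040000000504000000000504000000000000
/-- commutators -/
def cm (i j : ℕ) : ℕ := mm (mm (mm i j) (iv i)) (iv j)
/-- conjugates -/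
def cj (i j : ℕ) : ℕ := mm (mm i j) (iv i)

def La : List ℕ := [2, 3, 8, 9, 14, 37]
def Lc : List ℕ := [4, 5, 10, 11, 24, 44]
def Lz : List ℕ := [15, 20, 38, 41, 136, 137]
def Lt : List ℕ := [7, 18, 26, 33, 36, 77, 93, 105, 107, 109, 187, 191]
def Lu : List ℕ := [13, 40, 46, 52, 55, 61, 117, 125, 134, 135, 151, 179]
def LQ : List ℕ := [0, 1, 2, 3, 4, 5, 8, 9, 10, 11, 14, 15, 16, 19, 20, 23, 24, 27, 37, 38, 41, 44, 56, 57, 58, 59, 69, 72, 80, 83, 136, 137]

theorem iv_ok : allB (fun i => Nat.blt (iv i) 192 && Nat.beq (mm i (iv i)) 0) 192 = true := by decide +kernel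
theorem wit_ok : allB (fun k => Nat.beq k 0 || (Nat.beq k 1 || (Nat.blt (e8 w1 k) 192 && (Nat.blt (e8 w2 k) 192 &&
    (Nat.beq (cm k (e8 w1 k)) 1 || Nat.beq (cm (cm k (e8 w1 k)) (e8 w2 k)) 1))))) 192 = true := by decide +kernel
theorem cen_ok : allB (fun k => Nat.beq (mm k 1) (mm 1 k)) 192 = true := by decide +kernel
theorem typ_ok : allB (fun k => cond (Nat.beq (mm k k) 0) (Nat.beq k 0 || (Nat.beq k 1 || (memB k La || (memB k Lc || (memB k Lz ||
    (memB k Lt || memB k Lu)))))) true) 192 = true := by decide +kernel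
theorem cja_ok : allB (fun k => Nat.beq (cond (memB k La) 1 0) (cond (exB (fun i => Nat.beq (cj i 2) k) 192) 1 0)) 192 = true := by
  decide +kernel
theorem cjc_ok : allB (fun k => Nat.beq (cond (memB k Lc) 1 0) (cond (exB (fun i => Nat.beq (cj i 4) k) 192) 1 0)) 192 = true := by
  decide +kernel
theorem cjz_ok : allB (fun k => Nat.beq (cond (memB k Lz) 1 0) (cond (exB (fun i => Nat.beq (cj i 15) k) 192) 1 0)) 192 = true := by
  decide +kernel
theorem cjt_ok : allB (fun k => Nat.beq (cond (memB k Lt) 1 0) (cond (exB (fun i => Nat.beq (cj i 7) k) 192) 1 0)) 192 = true := by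
  decide +kernel
theorem cju_ok : allB (fun k => Nat.beq (cond (memB k Lu) 1 0) (cond (exB (fun i => Nat.beq (cj i 13) k) 192) 1 0)) 192 = true := by
  decide +kernel

theorem iv_spec {i : ℕ} (hi : i < 192) : iv i < 192 ∧ mm i (iv i) = 0 := by
  have h := allB_spec 192 iv_ok i hi
  rw [Bool.and_eq_true] at h
  exact ⟨Nat.lt_of_lt_of_le (Nat.lt_succ_self _) (Nat.le_of_ble_eq_true h.1), Nat.eq_of_beq_eq_true h.2⟩

structure DA (G : Type*) [Group G] where
  s : G
  a : G
  b : G
  c : G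
  d : G
  p : G
  t : G
  rel : Rel s a b c d p t
  s1 : s ≠ 1
  card : Nat.card (Subgroup.centralizer ({s} : Set G)) = 192

namespace DA

variable {G : Type*} [Group G] (D : DA G)

/-- the elements of the centralizer -/
noncomputable def v (i : ℕ) : G := M12A.v D.s D.a D.b D.c D.d D.p D.t i

theorem v0 : D.v 0 = 1 := Rel.v_zero
theorem v1 : D.v 1 = D.s := D.rel.v_gen.1
theorem v2 : D.v 2 = D.a := D.rel.v_gen.2.1
theorem v3 : D.v 3 = D.b := D.rel.v_gen.2.2.1
theorem v4 : D.v 4 = D.c := D.rel.v_gen.2.2.2.1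
theorem v5 : D.v 5 = D.d := D.rel.v_gen.2.2.2.2.1
theorem v6 : D.v 6 = D.p := D.rel.v_gen.2.2.2.2.2.1
theorem v7 : D.v 7 = D.t := D.rel.v_gen.2.2.2.2.2.2

include D in
theorem mm_lt {i j : ℕ} (hi : i < 192) (hj : j < 192) : mm i j < 192 := (D.rel.table i hi j hj).1
theorem v_mm {i j : ℕ} (hi : i < 192) (hj : j < 192) : D.v (mm i j) = D.v i * D.v j := (D.rel.table i hi j hj).2
theorem v_iv {i : ℕ} (hi : i < 192) : D.v (iv i) = (D.v i)⁻¹ := by
  obtain ⟨h1, h2⟩ := iv_spec hi
  have h3 := D.v_mm hi h1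
  rw [h2, v0] at h3
  exact (inv_eq_of_mul_eq_one_right h3.symm).symm
include D in
theorem cm_lt {i j : ℕ} (hi : i < 192) (hj : j < 192) : cm i j < 192 :=
  D.mm_lt (D.mm_lt (D.mm_lt hi hj) (iv_spec hi).1) (iv_spec hj).1
theorem v_cm {i j : ℕ} (hi : i < 192) (hj : j < 192) : D.v (cm i j) = D.v i * D.v j * (D.v i)⁻¹ * (D.v j)⁻¹ := by
  unfold cm
  rw [D.v_mm (D.mm_lt (D.mm_lt hi hj) (iv_spec hi).1) (iv_spec hj).1, D.v_mm (D.mm_lt hi hj) (iv_spec hi).1, D.v_mm hi hj,
    D.v_iv hi, D.v_iv hj]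
theorem v_cj {i j : ℕ} (hi : i < 192) (hj : j < 192) : D.v (cj i j) = D.v i * D.v j * (D.v i)⁻¹ := by
  unfold cj
  rw [D.v_mm (D.mm_lt hi hj) (iv_spec hi).1, D.v_mm hi hj, D.v_iv hi]
include D in
theorem cj_lt {i j : ℕ} (hi : i < 192) (hj : j < 192) : cj i j < 192 :=
  D.mm_lt (D.mm_lt hi hj) (iv_spec hi).1

theorem ne_one {k : ℕ} (hk : k < 192) (h0 : k ≠ 0) : D.v k ≠ 1 := by
  intro h
  have hw := allB_spec 192 wit_ok k hk
  rw [Bool.or_eq_true, Bool.or_eq_true, Bool.and_eq_true, Bool.and_eq_true, Bool.or_eq_true] at hw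
  rcases hw with hw | hw | ⟨h1, h2, hw⟩
  · exact h0 (Nat.eq_of_beq_eq_true hw)
  · rw [Nat.eq_of_beq_eq_true hw, v1] at h; exact D.s1 h
  · have l1 : e8 w1 k < 192 := Nat.lt_of_lt_of_le (Nat.lt_succ_self _) (Nat.le_of_ble_eq_true h1)
    have l2 : e8 w2 k < 192 := Nat.lt_of_lt_of_le (Nat.lt_succ_self _) (Nat.le_of_ble_eq_true h2)
    have e1 := D.v_cm hk l1
    have e2 := D.v_cm (D.cm_lt hk l1) l2
    rw [h] at e1
    have e3 : D.v (cm k (e8 w1 k)) = 1 := by rw [e1]; group
    rw [e3] at e2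
    have e4 : D.v (cm (cm k (e8 w1 k)) (e8 w2 k)) = 1 := by rw [e2]; group
    rcases hw with hw | hw
    · rw [Nat.eq_of_beq_eq_true hw, v1] at e3; exact D.s1 e3
    · rw [Nat.eq_of_beq_eq_true hw, v1] at e4; exact D.s1 e4

theorem inj {i j : ℕ} (hi : i < 192) (hj : j < 192) (h : D.v i = D.v j) : i = j := by
  have h1 : D.v (mm (iv i) j) = 1 := by rw [D.v_mm (iv_spec hi).1 hj, D.v_iv hi, h, inv_mul_cancel]
  have h2 : mm (iv i) j = 0 := by
    by_contra h0
    exact D.ne_one (D.mm_lt (iv_spec hi).1 hj) h0 h1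
  -- `iv i` is injective as the inverse
  have h3 : ∀ i' < 192, ∀ j' < 192, mm (iv i') j' = 0 → i' = j' := by
    have : allB (fun i' => allB (fun j' => cond (Nat.beq (mm (iv i') j') 0) (Nat.beq i' j') true) 192) 192 = true := by
      decide +kernel
    intro i' hi' j' hj' h4
    have h5 := allB_spec 192 (allB_spec 192 this i' hi') j' hj'
    rw [h4] at h5
    exact Nat.eq_of_beq_eq_true h5
  exact h3 i hi j hj h2

theorem eq_iff {i j : ℕ} (hi : i < 192) (hj : j < 192) : D.v i = D.v j ↔ i = j :=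
  ⟨D.inj hi hj, fun h => by rw [h]⟩

theorem comm_iff {i j : ℕ} (hi : i < 192) (hj : j < 192) : D.v i * D.v j = D.v j * D.v i ↔ mm i j = mm j i := by
  rw [← D.v_mm hi hj, ← D.v_mm hj hi]
  exact D.eq_iff (D.mm_lt hi hj) (D.mm_lt hj hi)

theorem v_comm {i : ℕ} (hi : i < 192) : D.v i * D.s = D.s * D.v i := by
  rw [← D.v1, D.comm_iff hi (by norm_num)]
  exact Nat.eq_of_beq_eq_true (allB_spec 192 cen_ok i hi)

theorem exists_v {g : G} (hg : g * D.s = D.s * g) : ∃ i < 192, g = D.v i := by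
  have hfin : Finite (Subgroup.centralizer ({D.s} : Set G)) := Nat.finite_of_card_ne_zero (by rw [D.card]; norm_num)
  let f : Fin 192 → Subgroup.centralizer ({D.s} : Set G) := fun i => ⟨D.v i, mem_centralizer_one.2 (D.v_comm i.2)⟩
  have hf : Function.Injective f := fun i j h => Fin.ext (D.inj i.2 j.2 (congrArg Subtype.val h))
  have hb : Function.Bijective f := by
    have := Fintype.ofFinite (Subgroup.centralizer ({D.s} : Set G))
    refine (Fintype.bijective_iff_injective_and_card f).2 ⟨hf, ?_⟩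
    rw [Fintype.card_fin, ← Nat.card_eq_fintype_card, D.card]
  obtain ⟨i, hi⟩ := hb.2 ⟨g, mem_centralizer_one.2 hg⟩
  exact ⟨i, i.2, (congrArg Subtype.val hi).symm⟩

theorem s_sq : D.s * D.s = 1 := D.rel.ss
theorem s_ord : orderOf D.s = 2 := InvAct.orderOf_two_iff.2 ⟨D.s_sq, D.s1⟩

/-- the number of elements of the centralizer given by a list -/
theorem ncard_list (L : List ℕ) (hL : ∀ i ∈ L, i < 192) (hn : L.Nodup) (A : Set G)
    (hA : ∀ g, g ∈ A ↔ ∃ i ∈ L, g = D.v i) : A.ncard = L.length := by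
  classical
  have h1 : A = D.v '' (L.toFinset : Set ℕ) := by
    ext g
    rw [hA]
    constructor
    · rintro ⟨i, hi, rfl⟩; exact ⟨i, by simpa using hi, rfl⟩
    · rintro ⟨i, hi, rfl⟩; exact ⟨i, by simpa using hi, rfl⟩
  rw [h1, Set.ncard_image_of_injOn, Set.ncard_coe_finset, List.toFinset_card_of_nodup hn]
  intro i hi j hj h
  exact D.inj (hL i (by simpa using hi)) (hL j (by simpa using hj)) h

theorem card_cent_node {k : ℕ} (hk : k < 192) (L : List ℕ)
    (hc : allB (fun i => Nat.beq (cond (Nat.beq (mm i k) (mm k i)) 1 0) (cond (memB i L) 1 0)) 192 = true)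
    (hL : ∀ i ∈ L, i < 192) (hn : L.Nodup) :
    Nat.card ↥(Subgroup.centralizer ({D.s} : Set G) ⊓ Subgroup.centralizer ({D.v k} : Set G)) = L.length := by
  rw [show Nat.card ↥(Subgroup.centralizer ({D.s} : Set G) ⊓ Subgroup.centralizer ({D.v k} : Set G)) =
    ((Subgroup.centralizer ({D.s} : Set G) ⊓ Subgroup.centralizer ({D.v k} : Set G) : Subgroup G) : Set G).ncard from
    Nat.card_coe_set_eq _]
  apply D.ncard_list L hL hn
  intro g
  have key : ∀ i < 192, (mm i k = mm k i ↔ i ∈ L) := by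
    intro i hi
    have h := allB_spec 192 hc i hi
    have h' : cond (Nat.beq (mm i k) (mm k i)) 1 0 = cond (memB i L) 1 0 := Nat.eq_of_beq_eq_true h
    rw [← memB_iff]
    constructor
    · intro h1
      rw [h1, Nat.beq_refl] at h'
      cases hm : memB i L with
      | true => rfl
      | false => rw [hm] at h'; simp at h'
    · intro h1
      rw [h1] at h'
      cases hm : Nat.beq (mm i k) (mm k i) with
      | true => exact Nat.eq_of_beq_eq_true hm
      | false => rw [hm] at h'; simp at h'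
  constructor
  · rintro ⟨h1, h2⟩
    obtain ⟨i, hi, rfl⟩ := D.exists_v (mem_centralizer_one.1 h1)
    exact ⟨i, (key i hi).1 ((D.comm_iff hi hk).1 (mem_centralizer_one.1 h2)), rfl⟩
  · rintro ⟨i, hi, rfl⟩
    have hi' := hL i hi
    exact ⟨mem_centralizer_one.2 (D.v_comm hi'), mem_centralizer_one.2 ((D.comm_iff hi' hk).2 ((key i hi').2 hi))⟩

end DA

namespace DA

variable {G : Type*} [Group G] (D : DA G)

theorem cj_of {k r : ℕ} {L : List ℕ} (hr : r < 192) (h : allB (fun k => Nat.beq (cond (memB k L) 1 0)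
    (cond (exB (fun i => Nat.beq (cj i r) k) 192) 1 0)) 192 = true) (hk : k < 192) :
    k ∈ L ↔ ∃ g, g * D.s = D.s * g ∧ g * D.v r * g⁻¹ = D.v k := by
  have h1 : cond (memB k L) 1 0 = cond (exB (fun i => Nat.beq (cj i r) k) 192) 1 0 :=
    Nat.eq_of_beq_eq_true (allB_spec 192 h k hk)
  rw [← memB_iff]
  constructor
  · intro h2
    rw [h2] at h1
    cases he : exB (fun i => Nat.beq (cj i r) k) 192 with
    | false => rw [he] at h1; simp at h1
    | true =>
      obtain ⟨i, hi, hik⟩ := exB_spec 192 he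
      refine ⟨D.v i, D.v_comm hi, ?_⟩
      rw [← D.v_cj hi hr, Nat.eq_of_beq_eq_true hik]
  · rintro ⟨g, hg, hgk⟩
    obtain ⟨i, hi, rfl⟩ := D.exists_v hg
    rw [← D.v_cj hi hr] at hgk
    have h3 := D.inj (D.cj_lt hi hr) hk hgk
    cases hm : memB k L with
    | true => rfl
    | false =>
      rw [hm] at h1
      have h4 : exB (fun i => Nat.beq (cj i r) k) 192 = true := by
        have aux : ∀ n, i < n → exB (fun i => Nat.beq (cj i r) k) n = true := by
          intro n
          induction n with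
          | zero => intro h; omega
          | succ n ih =>
            intro h
            rw [exB, Bool.or_eq_true]
            rcases Nat.lt_succ_iff_lt_or_eq.1 h with h | rfl
            · exact Or.inr (ih h)
            · left; show Nat.beq (cj i r) k = true; rw [h3]; exact Nat.beq_refl _
        exact aux 192 hi
      rw [h4] at h1; simp at h1


end DA

/-- check of the relations on nodes -/
def rk (s a b c d p t : ℕ) : Bool :=
  Nat.beq (mm s s) 0 && (Nat.beq (mm a a) 0 && (Nat.beq (mm b b) 0 && (Nat.beq (mm c c) 0 && (Nat.beq (mm d d) 0 && (Nat.beq (mm t t) 0 &&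
  (Nat.beq (mm (mm (mm s a) s) a) 0 && (Nat.beq (mm (mm (mm s b) s) b) 0 && (Nat.beq (mm (mm (mm s c) s) c) 0 &&
  (Nat.beq (mm (mm (mm s d) s) d) 0 && (Nat.beq (mm (mm (mm a b) a) b) 0 && (Nat.beq (mm (mm (mm c d) c) d) 0 &&
  (Nat.beq (mm (mm (mm a c) a) c) 0 && (Nat.beq (mm (mm (mm b d) b) d) 0 && (Nat.beq (mm (mm (mm (mm a d) a) d) s) 0 &&
  (Nat.beq (mm (mm (mm (mm b c) b) c) s) 0 && (Nat.beq (mm (mm p p) p) 0 && (Nat.beq (mm (mm (mm s p) s) (iv p)) 0 &&
  (Nat.beq (mm (mm (mm p a) (iv p)) b) 0 && (Nat.beq (mm (mm (mm (mm p b) (iv p)) b) a) 0 && (Nat.beq (mm (mm (mm p c) (iv p)) d) 0 &&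
  (Nat.beq (mm (mm (mm (mm p d) (iv p)) d) c) 0 && (Nat.beq (mm (mm (mm s t) s) t) 0 && (Nat.beq (mm (mm (mm t p) t) p) 0 &&
  (Nat.beq (mm (mm (mm a t) a) t) 0 && (Nat.beq (mm (mm (mm (mm t b) t) b) a) 0 && (Nat.beq (mm (mm (mm c t) c) t) 0 &&
  Nat.beq (mm (mm (mm (mm t d) t) d) c) 0))))))))))))))))))))))))))

end Cfsg.Agent.Lib.M12A
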