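import Cfsg.Agent.Lib.M12TA1

set_option autoImplicit false
set_option linter.all false
set_option maxRecDepth 100000

/-! Groups with an involution centralizer as in `A8`: words, symmetries. -/

namespace Cfsg.Agent.Lib.M12A

open Cfsg.Agent.Lib.H10Enum Cfsg.Agent.Lib.M12Tab Cfsg.Agent.Lib.M12DataA Cfsg.Agent.Lib.JTw
open Cfsg.Agent.Lib.M12B (allB allB_spec exB exB_spec memB memB_iff)

/-- products of nodes -/
def pn : List ℕ → ℕ
  | [] => 0
  | i :: L => mm i (pn L)

/-- the lists of the relations -/
def rl (s a b c d p t : ℕ) : List (List ℕ) :=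
  [[s, s], [a, a], [b, b], [c, c], [d, d], [t, t], [s, a, s, a], [s, b, s, b], [s, c, s, c], [s, d, s, d], [a, b, a, b],
    [c, d, c, d], [a, c, a, c], [b, d, b, d], [a, d, a, d, s], [b, c, b, c, s], [p, p, p], [s, p, s, iv p], [p, a, iv p, b],
    [p, b, iv p, b, a], [p, c, iv p, d], [p, d, iv p, d, c], [s, t, s, t], [t, p, t, p], [a, t, a, t], [t, b, t, b, a],
    [c, t, c, t], [t, d, t, d, c]]

namespace DA

variable {G : Type*} [Group G] (D : DA G)

theorem w : ∀ L : List ℕ, (∀ i ∈ L, i < 192) → pn L < 192 ∧ D.v (pn L) = (L.map D.v).prod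
  | [], _ => ⟨by show 0 < 192; norm_num, by rw [List.map_nil, List.prod_nil]; exact D.v0⟩
  | i :: L, h => by
    obtain ⟨h1, h2⟩ := w L (fun j hj => h j (List.mem_cons_of_mem _ hj))
    have h3 := h i List.mem_cons_self
    refine ⟨D.mm_lt h3 h1, ?_⟩
    show D.v (mm i (pn L)) = _
    rw [D.v_mm h3 h1, h2, List.map_cons, List.prod_cons]

theorem weq (L L' : List ℕ) (h : (L.all fun i => Nat.blt i 192) = true) (h' : (L'.all fun i => Nat.blt i 192) = true)
    (he : pn L = pn L') : (L.map D.v).prod = (L'.map D.v).prod := by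
  have conv : ∀ M : List ℕ, (M.all fun i => Nat.blt i 192) = true → ∀ i ∈ M, i < 192 := by
    intro M hM i hi
    have := List.all_eq_true.1 hM i hi
    exact Nat.lt_of_lt_of_le (Nat.lt_succ_self _) (Nat.le_of_ble_eq_true this)
  rw [← (D.w L (conv L h)).2, ← (D.w L' (conv L' h')).2, he]

theorem rel_nodes {s a b c d p t : ℕ} (hs : s < 192) (ha : a < 192) (hb : b < 192) (hc : c < 192) (hd : d < 192) (hp : p < 192)
    (ht : t < 192) (h : ((rl s a b c d p t).all fun L => (L.all fun i => Nat.blt i 192) && Nat.beq (pn L) 0) = true) :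
    Rel (D.v s) (D.v a) (D.v b) (D.v c) (D.v d) (D.v p) (D.v t) := by
  have hip := (iv_spec hp).1
  have key : ∀ L ∈ rl s a b c d p t, (L.map D.v).prod = 1 := by
    intro L hL
    have h0 := List.all_eq_true.1 h L hL
    rw [Bool.and_eq_true] at h0
    have h1 := Nat.eq_of_beq_eq_true h0.2
    have h2 : ∀ i ∈ L, i < 192 := by
      intro i hi
      exact Nat.lt_of_lt_of_le (Nat.lt_succ_self _) (Nat.le_of_ble_eq_true (List.all_eq_true.1 h0.1 i hi))
    rw [← (D.w L h2).2, h1, D.v0]
  have hv := D.v_iv hp
  constructor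
  · simpa [mul_assoc] using key [s, s] (by simp [rl])
  · simpa [mul_assoc] using key [a, a] (by simp [rl])
  · simpa [mul_assoc] using key [b, b] (by simp [rl])
  · simpa [mul_assoc] using key [c, c] (by simp [rl])
  · simpa [mul_assoc] using key [d, d] (by simp [rl])
  · simpa [mul_assoc] using key [t, t] (by simp [rl])
  · simpa [mul_assoc] using key [s, a, s, a] (by simp [rl])
  · simpa [mul_assoc] using key [s, b, s, b] (by simp [rl])
  · simpa [mul_assoc] using key [s, c, s, c] (by simp [rl])
  · simpa [mul_assoc] using key [s, d, s, d] (by simp [rl])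
  · simpa [mul_assoc] using key [a, b, a, b] (by simp [rl])
  · simpa [mul_assoc] using key [c, d, c, d] (by simp [rl])
  · simpa [mul_assoc] using key [a, c, a, c] (by simp [rl])
  · simpa [mul_assoc] using key [b, d, b, d] (by simp [rl])
  · simpa [mul_assoc] using key [a, d, a, d, s] (by simp [rl])
  · simpa [mul_assoc] using key [b, c, b, c, s] (by simp [rl])
  · simpa [mul_assoc] using key [p, p, p] (by simp [rl])
  · simpa [mul_assoc, hv] using key [s, p, s, iv p] (by simp [rl])
  · simpa [mul_assoc, hv] using key [p, a, iv p, b] (by simp [rl])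
  · simpa [mul_assoc, hv] using key [p, b, iv p, b, a] (by simp [rl])
  · simpa [mul_assoc, hv] using key [p, c, iv p, d] (by simp [rl])
  · simpa [mul_assoc, hv] using key [p, d, iv p, d, c] (by simp [rl])
  · simpa [mul_assoc] using key [s, t, s, t] (by simp [rl])
  · simpa [mul_assoc] using key [t, p, t, p] (by simp [rl])
  · simpa [mul_assoc] using key [a, t, a, t] (by simp [rl])
  · simpa [mul_assoc] using key [t, b, t, b, a] (by simp [rl])
  · simpa [mul_assoc] using key [c, t, c, t] (by simp [rl])
  · simpa [mul_assoc] using key [t, d, t, d, c] (by simp [rl])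

/-- new data from nodes -/
noncomputable def mk' (a b c d p t : ℕ) (ha : a < 192) (hb : b < 192) (hc : c < 192) (hd : d < 192) (hp : p < 192)
    (ht : t < 192) (h : ((rl 1 a b c d p t).all fun L => (L.all fun i => Nat.blt i 192) && Nat.beq (pn L) 0) = true) : DA G where
  s := D.v 1
  a := D.v a
  b := D.v b
  c := D.v c
  d := D.v d
  p := D.v p
  t := D.v t
  rel := D.rel_nodes (by norm_num) ha hb hc hd hp ht h
  s1 := by rw [D.v1]; exact D.s1
  card := by rw [D.v1]; exact D.card

/-- exchange `a` and `c` -/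
noncomputable def sw : DA G := D.mk' 4 5 2 3 6 7 (by norm_num) (by norm_num) (by norm_num) (by norm_num) (by norm_num)
  (by norm_num) (by decide +kernel)

/-- exchange `t` and `ts` -/
noncomputable def ts : DA G := D.mk' 2 3 4 5 6 13 (by norm_num) (by norm_num) (by norm_num) (by norm_num) (by norm_num)
  (by norm_num) (by decide +kernel)

/-- exchange `a` and `acs` -/
noncomputable def sz : DA G := D.mk' 38 41 4 5 6 7 (by norm_num) (by norm_num) (by norm_num) (by norm_num) (by norm_num)
  (by norm_num) (by decide +kernel)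

end DA

end Cfsg.Agent.Lib.M12A
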