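import Cfsg.Agent.Lib.M12TA2

set_option autoImplicit false
set_option linter.all false
set_option maxRecDepth 100000

/-! Groups with an involution centralizer as in `A8`: the normalizer of the elementary abelian group of order 8. -/

namespace Cfsg.Agent.Lib.M12A

open Cfsg.Agent.Lib.H10Enum Cfsg.Agent.Lib.M12Tab Cfsg.Agent.Lib.M12DataA Cfsg.Agent.Lib.JTw
open Cfsg.Agent.Lib.M12B (allB allB_spec exB exB_spec memB memB_iff)

theorem yq_ok : allB (fun j => cond (Nat.beq (mm j j) 0 && exB (fun l => Nat.beq (mm l l) 0 && Nat.beq (cm j l) 1) 192)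
    (allB (fun k => cond (Nat.beq (mm k k) 0 && (Nat.blt 1 (cm j k) && (Nat.beq (mm (cm j k) (cm j k)) 0 &&
      Nat.beq (mm (cm j k) j) (mm j (cm j k)))))
      (exB (fun q => Nat.beq (cj q (cm j k)) (mm (cm j k) 1) && Nat.beq (mm q j) (mm j q)) 192) true) 192) true) 192 = true := by
  decide +kernel

/-- conjugation by `y` on the nodes of `E_a` -/
def ph : ℕ → ℕ
  | 1 => 2
  | 2 => 8
  | 8 => 1
  | 3 => 3
  | 9 => 14
  | 14 => 37
  | 37 => 9
  | _ => 0

def Ea : List ℕ := [0, 1, 2, 3, 8, 9, 14, 37]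

theorem Ea_cent : allB (fun k => Nat.beq (cond (Nat.beq (mm k 2) (mm 2 k) && Nat.beq (mm k 3) (mm 3 k)) 1 0) (cond (memB k Ea) 1 0)) 192 = true := by
  decide +kernel
theorem Ea_sq : (Ea.all fun k => Nat.beq (mm k k) 0) = true := by decide +kernel
theorem Ea_lt {k : ℕ} (h : k ∈ Ea) : k < 192 := by revert k; decide
theorem Ea_cases {k : ℕ} (h : k ∈ Ea) : k = 0 ∨ k = 1 ∨ k = 2 ∨ k = 3 ∨ k = 8 ∨ k = 9 ∨ k = 14 ∨ k = 37 := by revert k; decide

theorem conj_prod {G : Type*} [Group G] (y a b : G) : y * (a * b) * y⁻¹ = (y * a * y⁻¹) * (y * b * y⁻¹) := by group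

namespace DA

variable {G : Type*} [Group G] (D : DA G)

theorem mem_Ea {x : G} (hs : x * D.s = D.s * x) (ha : x * D.a = D.a * x) (hb : x * D.b = D.b * x) : ∃ k ∈ Ea, x = D.v k := by
  obtain ⟨k, hk, rfl⟩ := D.exists_v hs
  refine ⟨k, ?_, rfl⟩
  rw [← D.v2, D.comm_iff hk (by norm_num)] at ha
  rw [← D.v3, D.comm_iff hk (by norm_num)] at hb
  have h := Nat.eq_of_beq_eq_true (allB_spec 192 Ea_cent k hk)
  rw [ha, hb] at h
  simp only [Nat.beq_refl, Bool.and_self, cond_true] at h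
  cases hm : memB k Ea with
  | true => exact (memB_iff _).1 hm
  | false => rw [hm] at h; simp at h

theorem Ea_comm {k : ℕ} (hk : k ∈ Ea) : D.v k * D.s = D.s * D.v k ∧ D.v k * D.a = D.a * D.v k ∧ D.v k * D.b = D.b * D.v k ∧
    D.v k * D.v k = 1 := by
  have h : (Ea.all fun k => Nat.beq (mm k 2) (mm 2 k) && (Nat.beq (mm k 3) (mm 3 k) && Nat.beq (mm k k) 0)) = true := by
    decide +kernel
  have h1 := List.all_eq_true.1 h k hk
  rw [Bool.and_eq_true, Bool.and_eq_true] at h1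
  have hk' := Ea_lt hk
  refine ⟨D.v_comm hk', ?_, ?_, ?_⟩
  · rw [← D.v2]; exact (D.comm_iff hk' (by norm_num)).2 (Nat.eq_of_beq_eq_true h1.1)
  · rw [← D.v3]; exact (D.comm_iff hk' (by norm_num)).2 (Nat.eq_of_beq_eq_true h1.2.1)
  · rw [← D.v_mm hk' hk', Nat.eq_of_beq_eq_true h1.2.2, D.v0]

/-- an equation between products of nodes, read backwards -/
theorem of_weq (L L' : List ℕ) (h : (L.all fun i => Nat.blt i 192) = true) (h' : (L'.all fun i => Nat.blt i 192) = true)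
    (he : (L.map D.v).prod = (L'.map D.v).prod) : pn L = pn L' := by
  have conv : ∀ M : List ℕ, (M.all fun i => Nat.blt i 192) = true → ∀ i ∈ M, i < 192 := by
    intro M hM i hi
    have := List.all_eq_true.1 hM i hi
    exact Nat.lt_of_lt_of_le (Nat.lt_succ_self _) (Nat.le_of_ble_eq_true this)
  have h1 := D.w L (conv L h)
  have h2 := D.w L' (conv L' h')
  rw [← h1.2, ← h2.2] at he
  exact D.inj h1.1 h2.1 he

theorem aeqs : D.a ≠ D.s := by
  rw [← D.v1, ← D.v2]; intro h; exact absurd (D.inj (by norm_num) (by norm_num) h) (by norm_num)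

theorem exists_n (ha : IsConj D.s D.a) : ∃ n : G, n * D.s * n⁻¹ = D.a ∧ n * D.a * n⁻¹ = D.s * D.a ∧ n * D.b * n⁻¹ = D.b := by
  obtain ⟨g, hg⟩ := isConj_iff.1 ha
  have hg' : g⁻¹ * D.a * g = D.s := by rw [← hg]; group
  have hc : ∀ x : G, x * D.a = D.a * x → (g⁻¹ * x * g) * D.s = D.s * (g⁻¹ * x * g) := by
    intro x hx
    rw [← hg']
    calc g⁻¹ * x * g * (g⁻¹ * D.a * g) = g⁻¹ * (x * D.a) * g := by group
      _ = _ := by rw [hx]; group
  have cab : D.b * D.a = D.a * D.b := by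
    have := D.weq [3, 2] [2, 3] (by decide) (by decide) (by decide +kernel)
    simpa [D.v2, D.v3] using this
  have cac : D.c * D.a = D.a * D.c := by
    have := D.weq [4, 2] [2, 4] (by decide) (by decide) (by decide +kernel)
    simpa [D.v2, D.v4] using this
  have cat : D.t * D.a = D.a * D.t := by
    have := D.weq [7, 2] [2, 7] (by decide) (by decide) (by decide +kernel)
    simpa [D.v2, D.v7] using this
  have cbc : D.b * D.c * D.b⁻¹ * D.c⁻¹ = D.s := by
    have h := D.weq [3, 4] [1, 4, 3] (by decide) (by decide) (by decide +kernel)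
    simp only [List.map_cons, List.map_nil, List.prod_cons, List.prod_nil, mul_one, D.v3, D.v4, D.v1] at h
    rw [h]; group
  have cbt : D.b * D.t * D.b⁻¹ * D.t⁻¹ = D.a := by
    have h := D.weq [3, 7] [2, 7, 3] (by decide) (by decide) (by decide +kernel)
    simp only [List.map_cons, List.map_nil, List.prod_cons, List.prod_nil, mul_one, D.v3, D.v7, D.v2] at h
    rw [h]; group
  obtain ⟨j, hj, hjb⟩ := D.exists_v (hc _ cab)
  obtain ⟨k, hk, hkc⟩ := D.exists_v (hc _ cac)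
  obtain ⟨l, hl, hlt⟩ := D.exists_v (hc _ cat)
  have h1 : D.v (cm j k) = g⁻¹ * D.s * g := by
    rw [D.v_cm hj hk, ← hjb, ← hkc, ← cbc]; group
  have h2 : cm j l = 1 := by
    apply D.inj (D.cm_lt hj hl) (by norm_num)
    rw [D.v_cm hj hl, ← hjb, ← hlt, D.v1, ← hg', ← cbt]; group
  have sq : ∀ {i : ℕ} {x : G}, i < 192 → g⁻¹ * x * g = D.v i → x * x = 1 → mm i i = 0 := by
    intro i x hi hx hx2
    apply D.inj (D.mm_lt hi hi) (by norm_num)
    rw [D.v_mm hi hi, ← hx, D.v0]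
    calc g⁻¹ * x * g * (g⁻¹ * x * g) = g⁻¹ * (x * x) * g := by group
      _ = 1 := by rw [hx2]; group
  have cjk := D.cm_lt hj hk
  have c0 : mm j j = 0 := sq hj hjb D.rel.bb
  have c1 : mm k k = 0 := sq hk hkc D.rel.cc
  have c2 : mm l l = 0 := sq hl hlt D.rel.tt
  have c3 : mm (cm j k) (cm j k) = 0 := sq cjk h1.symm D.rel.ss
  have c4 : mm (cm j k) j = mm j (cm j k) := by
    rw [← D.comm_iff cjk hj, h1, ← hjb]
    have := D.weq [1, 3] [3, 1] (by decide) (by decide) (by decide +kernel)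
    have h : D.s * D.b = D.b * D.s := by simpa [D.v1, D.v3] using this
    calc g⁻¹ * D.s * g * (g⁻¹ * D.b * g) = g⁻¹ * (D.s * D.b) * g := by group
      _ = _ := by rw [h]; group
  have c5 : 1 < cm j k := by
    have n0 : cm j k ≠ 0 := by
      intro h
      rw [h, D.v0] at h1
      apply D.s1
      calc D.s = g * (g⁻¹ * D.s * g) * g⁻¹ := by group
        _ = 1 := by rw [← h1]; group
    have n1 : cm j k ≠ 1 := by
      intro h
      rw [h, D.v1] at h1
      apply D.aeqs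
      rw [← hg]
      calc g * D.s * g⁻¹ = g * (g⁻¹ * D.s * g) * g⁻¹ := by rw [← h1]
        _ = D.s := by group
    omega
  have hchk := allB_spec 192 yq_ok j hj
  rw [c0] at hchk
  have hex : exB (fun l => Nat.beq (mm l l) 0 && Nat.beq (cm j l) 1) 192 = true :=
    M12B.exB_of 192 hl (by show (Nat.beq (mm l l) 0 && Nat.beq (cm j l) 1) = true; rw [c2, h2]; rfl)
  rw [hex] at hchk
  simp only [Nat.beq_refl, Bool.and_self, cond_true] at hchk
  have hchk2 := allB_spec 192 hchk k hk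
  have e5 : Nat.blt 1 (cm j k) = true := Nat.ble_eq_true_of_le c5
  rw [c1, c3, c4, e5] at hchk2
  simp only [Nat.beq_refl, Bool.and_self, cond_true] at hchk2
  obtain ⟨q, hq, hq2⟩ := exB_spec 192 hchk2
  rw [Bool.and_eq_true] at hq2
  have q1 : D.v q * D.v (cm j k) * (D.v q)⁻¹ = D.v (cm j k) * D.s := by
    rw [← D.v_cj hq cjk, Nat.eq_of_beq_eq_true hq2.1, D.v_mm cjk (by norm_num), D.v1]
  have q2 : D.v q * D.v j = D.v j * D.v q := (D.comm_iff hq hj).2 (Nat.eq_of_beq_eq_true hq2.2)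
  have q3 : D.v q * D.s = D.s * D.v q := D.v_comm hq
  have dd : D.d⁻¹ = D.d := inv_eq_of_mul_eq_one_right D.rel.dd
  have hs : g * D.v q * g⁻¹ * D.s * (g * D.v q * g⁻¹)⁻¹ = D.s * D.a := by
    calc g * D.v q * g⁻¹ * D.s * (g * D.v q * g⁻¹)⁻¹ = g * (D.v q * (g⁻¹ * D.s * g) * (D.v q)⁻¹) * g⁻¹ := by group
      _ = g * (g⁻¹ * D.s * g * D.s) * g⁻¹ := by rw [← h1, q1]
      _ = D.s * (g * D.s * g⁻¹) := by group
      _ = _ := by rw [hg]
  have hA : g * D.v q * g⁻¹ * D.a * (g * D.v q * g⁻¹)⁻¹ = D.a := by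
    calc g * D.v q * g⁻¹ * D.a * (g * D.v q * g⁻¹)⁻¹ = g * (D.v q * (g⁻¹ * D.a * g)) * (D.v q)⁻¹ * g⁻¹ := by group
      _ = g * (D.s * D.v q) * (D.v q)⁻¹ * g⁻¹ := by rw [hg', q3]
      _ = g * D.s * g⁻¹ := by group
      _ = _ := hg
  have hB : g * D.v q * g⁻¹ * D.b * (g * D.v q * g⁻¹)⁻¹ = D.b := by
    calc g * D.v q * g⁻¹ * D.b * (g * D.v q * g⁻¹)⁻¹ = g * (D.v q * (g⁻¹ * D.b * g)) * (D.v q)⁻¹ * g⁻¹ := by group
      _ = g * (g⁻¹ * D.b * g * D.v q) * (D.v q)⁻¹ * g⁻¹ := by rw [hjb, q2]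
      _ = D.b := by group
  refine ⟨D.d * (g * D.v q * g⁻¹), ?_, ?_, ?_⟩
  · rw [cj_cj, hs]
    have h := D.weq [5, 1, 2, 5] [2] (by decide) (by decide) (by decide +kernel)
    simp only [List.map_cons, List.map_nil, List.prod_cons, List.prod_nil, mul_one, D.v5, D.v1, D.v2] at h
    rw [dd, mul_assoc D.d, mul_assoc D.s, h]
  · rw [cj_cj, hA]
    have h := D.weq [5, 2, 5] [1, 2] (by decide) (by decide) (by decide +kernel)
    simp only [List.map_cons, List.map_nil, List.prod_cons, List.prod_nil, mul_one, D.v5, D.v1, D.v2] at h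
    rw [dd, mul_assoc D.d, h]
  · rw [cj_cj, hB]
    have h := D.weq [5, 3, 5] [3] (by decide) (by decide) (by decide +kernel)
    simp only [List.map_cons, List.map_nil, List.prod_cons, List.prod_nil, mul_one, D.v5, D.v3] at h
    rw [dd, mul_assoc D.d, h]

end DA

end Cfsg.Agent.Lib.M12A
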