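import Cfsg.Agent.Lib.M12TA3

set_option autoImplicit false
set_option linter.all false
set_option maxRecDepth 100000

/-! Groups with an involution centralizer as in `A8`: the element `y`. -/

namespace Cfsg.Agent.Lib.M12A

open Cfsg.Agent.Lib.H10Enum Cfsg.Agent.Lib.M12Tab Cfsg.Agent.Lib.M12DataA Cfsg.Agent.Lib.JTw
open Cfsg.Agent.Lib.M12B (allB allB_spec exB exB_spec memB memB_iff)

namespace DA

variable {G : Type*} [Group G] (D : DA G)

/-- the relations of `y` -/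
structure Y (y : G) : Prop where
  y3 : y * y * y = 1
  ys : y * D.s * y⁻¹ = D.a
  ya : y * D.a * y⁻¹ = D.s * D.a
  yb : y * D.b * y⁻¹ = D.b
  yd : D.d * y * D.d * y = 1
  yc : y * D.c * y⁻¹ = D.t
  yt : y * D.t * y⁻¹ = D.c * D.t

theorem comm13 : D.s * D.a = D.a * D.s := by
  have := D.weq [1, 2] [2, 1] (by decide) (by decide) (by decide +kernel)
  simpa [D.v1, D.v2] using this

/-- conjugation by `y` on the nodes -/
theorem ph_spec {y : G} (ys : y * D.s * y⁻¹ = D.a) (ya : y * D.a * y⁻¹ = D.s * D.a) (yb : y * D.b * y⁻¹ = D.b)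
    {k : ℕ} (hk : k ∈ Ea) : y * D.v k * y⁻¹ = D.v (ph k) := by
  have w2 : ∀ i j m : ℕ, Nat.blt i 192 = true → Nat.blt j 192 = true → mm i j = m → D.v m = D.v i * D.v j := by
    intro i j m hi hj h
    rw [← h, D.v_mm (Nat.lt_of_lt_of_le (Nat.lt_succ_self _) (Nat.le_of_ble_eq_true hi))
      (Nat.lt_of_lt_of_le (Nat.lt_succ_self _) (Nat.le_of_ble_eq_true hj))]
  have e8' : D.v 8 = D.s * D.a := by rw [w2 1 2 8 (by decide) (by decide) (by decide +kernel), D.v1, D.v2]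
  have e9 : D.v 9 = D.s * D.b := by rw [w2 1 3 9 (by decide) (by decide) (by decide +kernel), D.v1, D.v3]
  have e14 : D.v 14 = D.a * D.b := by rw [w2 2 3 14 (by decide) (by decide) (by decide +kernel), D.v2, D.v3]
  have e37 : D.v 37 = D.s * D.a * D.b := by
    rw [w2 8 3 37 (by decide) (by decide) (by decide +kernel), e8', D.v3]
  have hss := D.rel.ss
  have haa := D.rel.aa
  rcases Ea_cases hk with rfl | rfl | rfl | rfl | rfl | rfl | rfl | rfl
  · show y * D.v 0 * y⁻¹ = D.v 0; rw [D.v0]; group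
  · show y * D.v 1 * y⁻¹ = D.v 2; rw [D.v1, D.v2, ys]
  · show y * D.v 2 * y⁻¹ = D.v 8; rw [D.v2, ya, e8']
  · show y * D.v 3 * y⁻¹ = D.v 3; rw [D.v3, yb]
  · show y * D.v 8 * y⁻¹ = D.v 1; rw [e8', conj_prod, ys, ya, D.v1, D.comm13, ← mul_assoc, haa, one_mul]
  · show y * D.v 9 * y⁻¹ = D.v 14; rw [e9, conj_prod, ys, yb, e14]
  · show y * D.v 14 * y⁻¹ = D.v 37; rw [e14, conj_prod, ya, yb, e37]
  · show y * D.v 37 * y⁻¹ = D.v 9; rw [e37, conj_prod, conj_prod, ys, ya, yb, e9, D.comm13, ← mul_assoc, haa, one_mul]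

theorem exists_y0 (ha : IsConj D.s D.a) : ∃ y : G, y * y * y = 1 ∧ y * D.s * y⁻¹ = D.a ∧ y * D.a * y⁻¹ = D.s * D.a ∧
    y * D.b * y⁻¹ = D.b := by
  obtain ⟨n, h1, h2, h3⟩ := D.exists_n ha
  have haa := D.rel.aa
  have h4 : n * (D.s * D.a) * n⁻¹ = D.s := by
    rw [conj_prod, h1, h2, D.comm13, ← mul_assoc, haa, one_mul]
  have u1 : (n * n * n) * D.s * (n * n * n)⁻¹ = D.s := by
    rw [cj_cj, cj_cj, h1, h2, h4]
  have u2 : (n * n * n) * D.a * (n * n * n)⁻¹ = D.a := by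
    rw [cj_cj, cj_cj, h2, h4, h1]
  have u3 : (n * n * n) * D.b * (n * n * n)⁻¹ = D.b := by
    rw [cj_cj, cj_cj, h3, h3, h3]
  obtain ⟨k, hk, hku⟩ := D.mem_Ea (cj_eq_self.1 u1) (cj_eq_self.1 u2) (cj_eq_self.1 u3)
  obtain ⟨-, -, -, hsq⟩ := D.Ea_comm hk
  rw [← hku] at hsq
  have hun : (n * n * n) * n = n * (n * n * n) := by group
  refine ⟨n * n * n * n, ?_, ?_, ?_, ?_⟩
  · calc (n * n * n * n) * (n * n * n * n) * (n * n * n * n) = ((n * n * n) * (n * n * n)) * ((n * n * n) * (n * n * n)) := by group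
      _ = 1 := by rw [hsq, mul_one]
  · have : (n * n * n * n) * D.s * (n * n * n * n)⁻¹ = (n * n * n) * (n * D.s * n⁻¹) * (n * n * n)⁻¹ := by group
    rw [this, h1, u2]
  · have : (n * n * n * n) * D.a * (n * n * n * n)⁻¹ = (n * n * n) * (n * D.a * n⁻¹) * (n * n * n)⁻¹ := by group
    rw [this, h2, conj_prod, u1, u2]
  · have : (n * n * n * n) * D.b * (n * n * n * n)⁻¹ = (n * n * n) * (n * D.b * n⁻¹) * (n * n * n)⁻¹ := by group
    rw [this, h3, u3]

theorem ph_mem {k : ℕ} (h : k ∈ Ea) : ph k ∈ Ea := by revert k; decide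

theorem E1_ok : (Ea.all fun k => cond (Nat.beq (mm (mm k (ph (ph k))) (ph k)) 0 && Nat.beq (cj 5 k) (ph k)) (Nat.beq k 0 || Nat.beq k 2) true)
    = true := by decide +kernel

theorem exists_y1 (ha : IsConj D.s D.a) : ∃ y : G, y * y * y = 1 ∧ y * D.s * y⁻¹ = D.a ∧ y * D.a * y⁻¹ = D.s * D.a ∧
    y * D.b * y⁻¹ = D.b ∧ D.d * y * D.d * y = 1 := by
  obtain ⟨y, y3, ys, ya, yb⟩ := D.exists_y0 ha
  have haa := D.rel.aa
  have hdd := D.rel.dd
  have dinv : D.d⁻¹ = D.d := inv_eq_of_mul_eq_one_right hdd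
  have ainv : D.a⁻¹ = D.a := inv_eq_of_mul_eq_one_right haa
  have w5 : ∀ i m : ℕ, Nat.blt i 192 = true → cj 5 i = m → D.d * D.v i * D.d⁻¹ = D.v m := by
    intro i m hi h
    rw [← D.v5, ← D.v_cj (by norm_num) (Nat.lt_of_lt_of_le (Nat.lt_succ_self _) (Nat.le_of_ble_eq_true hi)), h]
  have d1 : D.d * D.s * D.d⁻¹ = D.s := by rw [← D.v1]; exact w5 1 1 (by decide) (by decide +kernel)
  have d2 : D.d * D.a * D.d⁻¹ = D.s * D.a := by
    rw [← D.v1, ← D.v2, ← D.v_mm (by norm_num) (by norm_num)]; exact w5 2 _ (by decide) (by decide +kernel)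
  have d3 : D.d * D.b * D.d⁻¹ = D.b := by rw [← D.v3]; exact w5 3 3 (by decide) (by decide +kernel)
  have ysa : y * (D.s * D.a) * y⁻¹ = D.s := by rw [conj_prod, ys, ya, D.comm13, ← mul_assoc, haa, one_mul]
  have dsa : D.d * (D.s * D.a) * D.d⁻¹ = D.a := by rw [conj_prod, d1, d2, ← mul_assoc, D.rel.ss, one_mul]
  -- `e = d y d y` centralizes `E_a`
  have hw : D.d * y * D.d * y = D.d * (y * (D.d * y)) := by group
  have e1 : (D.d * (y * (D.d * y))) * D.s * (D.d * (y * (D.d * y)))⁻¹ = D.s := by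
    rw [cj_cj, cj_cj, cj_cj, ys, d2, ysa, d1]
  have e2 : (D.d * (y * (D.d * y))) * D.a * (D.d * (y * (D.d * y)))⁻¹ = D.a := by
    rw [cj_cj, cj_cj, cj_cj, ya, dsa, ya, dsa]
  have e3 : (D.d * (y * (D.d * y))) * D.b * (D.d * (y * (D.d * y)))⁻¹ = D.b := by
    rw [cj_cj, cj_cj, cj_cj, yb, d3, yb, d3]
  obtain ⟨k, hk, hke⟩ := D.mem_Ea (cj_eq_self.1 e1) (cj_eq_self.1 e2) (cj_eq_self.1 e3)
  have hk' := Ea_lt hk
  have hph := D.ph_spec ys ya yb hk
  have hphk : ph k ∈ Ea := ph_mem hk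
  have hph2 := D.ph_spec ys ya yb hphk
  have hphk2 : ph (ph k) ∈ Ea := ph_mem hphk
  have yy : y⁻¹ = y * y := by rw [inv_eq_iff_mul_eq_one, ← mul_assoc]; exact y3
  -- the two conditions
  have c1 : mm (mm k (ph (ph k))) (ph k) = 0 := by
    apply D.inj (D.mm_lt (D.mm_lt hk' (Ea_lt hphk2)) (Ea_lt hphk)) (by norm_num)
    rw [D.v_mm (D.mm_lt hk' (Ea_lt hphk2)) (Ea_lt hphk), D.v_mm hk' (Ea_lt hphk2), ← hph2, ← hph, D.v0, ← hke]
    -- `(dyd)^3 = 1`
    have h : (D.d * y * D.d) * (D.d * y * D.d) * (D.d * y * D.d) = 1 := by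
      calc (D.d * y * D.d) * (D.d * y * D.d) * (D.d * y * D.d) = D.d * y * (D.d * D.d) * y * (D.d * D.d) * y * D.d := by group
        _ = D.d * (y * y * y) * D.d := by rw [hdd]; group
        _ = 1 := by rw [y3, mul_one, hdd]
    have h2 : D.d * y * D.d = D.d * (y * (D.d * y)) * y⁻¹ := by group
    rw [h2] at h
    set e := D.d * (y * (D.d * y)) with he
    calc e * (y * (y * e * y⁻¹) * y⁻¹) * (y * e * y⁻¹) = e * (y * y) * e * (y⁻¹ * y⁻¹) * y * e * y⁻¹ := by group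
      _ = e * y⁻¹ * e * y⁻¹ * e * y⁻¹ := by rw [← yy]; group
      _ = 1 := by rw [← h]; group
  have c2 : cj 5 k = ph k := by
    apply D.inj (D.cj_lt (by norm_num) hk') (Ea_lt hphk)
    rw [← w5 k _ (Nat.ble_eq_true_of_le hk') rfl, ← hph, ← hke]
    calc D.d * (D.d * (y * (D.d * y))) * D.d⁻¹ = (D.d * D.d) * y * D.d * y * D.d⁻¹ := by group
      _ = y * (D.d * y * D.d⁻¹) := by rw [hdd]; group
      _ = _ := by rw [dinv]; group
  have h5 := List.all_eq_true.1 E1_ok k hk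
  rw [c1, c2] at h5
  simp only [Nat.beq_refl, Bool.and_self, cond_true] at h5
  rw [Bool.or_eq_true] at h5
  rcases h5 with h5 | h5
  · refine ⟨y, y3, ys, ya, yb, ?_⟩
    rw [hw, hke, Nat.eq_of_beq_eq_true h5, D.v0]
  · have h6 : D.d * (y * (D.d * y)) = D.a := by rw [hke, Nat.eq_of_beq_eq_true h5, D.v2]
    refine ⟨D.a * y * D.a, ?_, ?_, ?_, ?_, ?_⟩
    · calc (D.a * y * D.a) * (D.a * y * D.a) * (D.a * y * D.a) = D.a * y * (D.a * D.a) * y * (D.a * D.a) * y * D.a := by group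
        _ = D.a * (y * y * y) * D.a := by rw [haa]; group
        _ = 1 := by rw [y3, mul_one, haa]
    · have as : D.a * D.s * D.a⁻¹ = D.s := by rw [← D.comm13]; group
      rw [cj_cj, cj_cj, as, ys]; group
    · have aa : D.a * D.a * D.a⁻¹ = D.a := by group
      have asa : D.a * (D.s * D.a) * D.a⁻¹ = D.s * D.a := by rw [← mul_assoc, ← D.comm13]; group
      rw [cj_cj, cj_cj, aa, ya, asa]
    · have ab : D.a * D.b * D.a⁻¹ = D.b := by
        have := D.weq [2, 3, 2] [3] (by decide) (by decide) (by decide +kernel)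
        simp only [List.map_cons, List.map_nil, List.prod_cons, List.prod_nil, mul_one, D.v2, D.v3] at this
        rw [ainv, mul_assoc, this]
      rw [cj_cj, cj_cj, ab, yb, ab]
    · have h7 : D.d * y * D.d = D.a * y⁻¹ := by rw [← h6]; group
      have h8 : D.d * D.a = D.s * D.a * D.d := mul_inv_eq_iff_eq_mul.1 d2
      have h9 : D.a * D.d = D.d * (D.s * D.a) := (mul_inv_eq_iff_eq_mul.1 dsa).symm
      calc D.d * (D.a * y * D.a) * D.d * (D.a * y * D.a) = (D.d * D.a) * y * (D.a * D.d) * (D.a * y * D.a) := by group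
        _ = D.s * D.a * (D.d * y * D.d) * (D.s * (D.a * D.a) * y * D.a) := by rw [h8, h9]; simp only [mul_assoc]
        _ = D.s * (D.a * D.a) * y⁻¹ * (D.s * (D.a * D.a) * y * D.a) := by rw [h7]; simp only [mul_assoc]
        _ = D.s * y⁻¹ * (D.s * y * D.a) := by rw [haa, mul_one]
        _ = D.s * (y⁻¹ * D.s * y) * D.a := by simp only [mul_assoc]
        _ = D.s * (D.s * D.a) * D.a := by
          congr 2
          calc y⁻¹ * D.s * y = y⁻¹ * (y * (D.s * D.a) * y⁻¹) * y := by rw [ysa]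
            _ = _ := by group
        _ = 1 := by rw [← mul_assoc, D.rel.ss, one_mul, haa]

theorem E2_ok : (Ea.all fun k => cond (Nat.beq (mm k 7) (mm 7 k) && Nat.beq (pn [ph (cj 5 k), k, 7, ph k, cj 5 k, 4, 7]) 4)
    (Nat.beq k 0 || Nat.beq k 1) true) = true := by decide +kernel
theorem Ea_cj5 {k : ℕ} (h : k ∈ Ea) : cj 5 k ∈ Ea := by
  have h1 : (Ea.all fun k => memB (cj 5 k) Ea) = true := by decide +kernel
  exact (memB_iff _).1 (List.all_eq_true.1 h1 k h)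

theorem exists_Y (ha : IsConj D.s D.a) : (∃ y, D.Y y) ∨ (∃ y, D.ts.Y y) := by
  obtain ⟨y, y3, ys, ya, yb, yd⟩ := D.exists_y1 ha
  have ctt := D.rel.tt
  have ccc := D.rel.cc
  have hdd := D.rel.dd
  have dinv : D.d⁻¹ = D.d := inv_eq_of_mul_eq_one_right hdd
  have tinv : D.t⁻¹ = D.t := inv_eq_of_mul_eq_one_right ctt
  have yy : y⁻¹ = y * y := by rw [inv_eq_iff_mul_eq_one, ← mul_assoc]; exact y3
  have cj' : ∀ i j m : ℕ, Nat.blt i 192 = true → Nat.blt j 192 = true → cj i j = m → D.v i * D.v j * (D.v i)⁻¹ = D.v m := by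
    intro i j m hi hj h
    rw [← D.v_cj (Nat.lt_of_lt_of_le (Nat.lt_succ_self _) (Nat.le_of_ble_eq_true hi))
      (Nat.lt_of_lt_of_le (Nat.lt_succ_self _) (Nat.le_of_ble_eq_true hj)), h]
  -- `y⁻¹ x y` for `x ∈ E_a`
  have iv1 : y⁻¹ * D.s * y = D.v 8 := by
    have := D.ph_spec ys ya yb (k := 8) (by decide)
    rw [show D.s = D.v 1 from D.v1.symm, show (1 : ℕ) = ph 8 from rfl, ← this]; group
  have iv2 : y⁻¹ * D.a * y = D.s := by
    rw [← ys]; group
  have iv3 : y⁻¹ * D.b * y = D.b := by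
    have : y⁻¹ * D.b * y = y⁻¹ * (y * D.b * y⁻¹) * y := by rw [yb]
    rw [this]; group
  -- `f = y c y⁻¹ t` centralizes `E_a`
  have hw : y * D.c * y⁻¹ * D.t = y * (D.c * (y⁻¹ * D.t)) := by group
  have f1 : (y * (D.c * (y⁻¹ * D.t))) * D.s * (y * (D.c * (y⁻¹ * D.t)))⁻¹ = D.s := by
    rw [cj_cj, cj_cj, cj_cj, ← D.v7, ← D.v1, cj' 7 1 1 (by decide) (by decide) (by decide +kernel), D.v1, inv_inv, iv1,
      ← D.v4, cj' 4 8 8 (by decide) (by decide) (by decide +kernel), D.ph_spec ys ya yb (k := 8) (by decide)]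
    exact D.v1
  have f2 : (y * (D.c * (y⁻¹ * D.t))) * D.a * (y * (D.c * (y⁻¹ * D.t)))⁻¹ = D.a := by
    rw [cj_cj, cj_cj, cj_cj, ← D.v7, ← D.v2, cj' 7 2 2 (by decide) (by decide) (by decide +kernel), D.v2, inv_inv, iv2,
      ← D.v4, ← D.v1, cj' 4 1 1 (by decide) (by decide) (by decide +kernel), D.ph_spec ys ya yb (k := 1) (by decide)]
    exact D.v2
  have f3 : (y * (D.c * (y⁻¹ * D.t))) * D.b * (y * (D.c * (y⁻¹ * D.t)))⁻¹ = D.b := by
    have h14 : y⁻¹ * D.v 14 * y = D.v 9 := by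
      have := D.ph_spec ys ya yb (k := 9) (by decide)
      rw [show (14 : ℕ) = ph 9 from rfl, ← this]; group
    rw [cj_cj, cj_cj, cj_cj, ← D.v7, ← D.v3, cj' 7 3 14 (by decide) (by decide) (by decide +kernel), inv_inv, h14,
      ← D.v4, cj' 4 9 3 (by decide) (by decide) (by decide +kernel), D.ph_spec ys ya yb (k := 3) (by decide)]
    rfl
  obtain ⟨k, hk, hkf⟩ := D.mem_Ea (cj_eq_self.1 f1) (cj_eq_self.1 f2) (cj_eq_self.1 f3)
  have hk' := Ea_lt hk
  rw [← hw] at hkf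
  have yc : y * D.c * y⁻¹ = D.v k * D.t := by rw [← hkf, mul_assoc _ D.t D.t, ctt, mul_one]
  have hkk : D.v k * D.v k = 1 := (D.Ea_comm hk).2.2.2
  have kinv : (D.v k)⁻¹ = D.v k := inv_eq_of_mul_eq_one_right hkk
  -- `f` commutes with `t`
  have g1 : mm k 7 = mm 7 k := by
    rw [← D.comm_iff hk' (by norm_num), D.v7]
    have h : (D.v k * D.t) * (D.v k * D.t) = 1 := by
      rw [← yc]
      calc y * D.c * y⁻¹ * (y * D.c * y⁻¹) = y * (D.c * D.c) * y⁻¹ := by group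
        _ = 1 := by rw [ccc]; group
    calc D.v k * D.t = (D.v k * D.t)⁻¹ := (inv_eq_of_mul_eq_one_right h).symm
      _ = D.t * D.v k := by rw [mul_inv_rev, tinv, kinv]
  -- conjugation by `d`
  have ctd : D.d * D.t * D.d⁻¹ = D.c * D.t := by
    rw [← D.v5, ← D.v7, cj' 5 7 (mm 4 7) (by decide) (by decide) (by decide +kernel), D.v_mm (by norm_num) (by norm_num), D.v4]
  have ccd : D.d * D.c * D.d⁻¹ = D.c := by
    rw [← D.v5, ← D.v4, cj' 5 4 4 (by decide) (by decide) (by decide +kernel)]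
  have hdk : D.d * D.v k * D.d⁻¹ = D.v (cj 5 k) := by
    rw [← D.v5]; exact cj' 5 k _ (by decide) (Nat.ble_eq_true_of_le hk') rfl
  have hkd := Ea_cj5 hk
  have hkd2 : D.v (cj 5 k) * D.v (cj 5 k) = 1 := (D.Ea_comm hkd).2.2.2
  have kdinv : (D.v (cj 5 k))⁻¹ = D.v (cj 5 k) := inv_eq_of_mul_eq_one_right hkd2
  -- `φ(δ(φ c)) = c`
  have hphi : y * (D.v (cj 5 k) * (D.c * D.t)) * y⁻¹ = D.c := by
    have h1 : D.d * (y * D.c * y⁻¹) * D.d⁻¹ = D.v (cj 5 k) * (D.c * D.t) := by rw [yc, conj_prod, hdk, ctd]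
    rw [← h1]
    have h2 : y * (D.d * (y * D.c * y⁻¹) * D.d⁻¹) * y⁻¹ = D.d * ((D.d * y * D.d * y) * D.c * (D.d * y * D.d * y)⁻¹) * D.d⁻¹ := by
      rw [dinv]
      calc y * (D.d * (y * D.c * y⁻¹) * D.d) * y⁻¹ = 1 * (y * D.d * y * D.c * y⁻¹ * D.d * y⁻¹) * 1 := by group
        _ = (D.d * D.d) * (y * D.d * y * D.c * y⁻¹ * D.d * y⁻¹) * (D.d * D.d) := by rw [hdd]
        _ = (D.d * D.d) * (y * D.d * y * D.c * y⁻¹ * D.d⁻¹ * y⁻¹) * (D.d⁻¹ * D.d) := by rw [dinv]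
        _ = _ := by group
    rw [h2, yd, inv_one, mul_one, one_mul, ccd]
  have hpk := D.ph_spec ys ya yb hk
  have hpdk := D.ph_spec ys ya yb hkd
  have hpk2 : D.v (ph k) * D.v (ph k) = 1 := (D.Ea_comm (ph_mem hk)).2.2.2
  have pkinv : (D.v (ph k))⁻¹ = D.v (ph k) := inv_eq_of_mul_eq_one_right hpk2
  -- `φ t`
  have yt : y * D.t * y⁻¹ = D.v (ph k) * (D.v (cj 5 k) * (D.c * D.t)) := by
    have h1 : y * (D.v k * D.t) * y⁻¹ = D.v (cj 5 k) * (D.c * D.t) := by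
      have h2 : y * (D.v k * D.t) * y⁻¹ = y * (y * D.c * y⁻¹) * y⁻¹ := by rw [yc]
      have h3 : D.v (cj 5 k) * (D.c * D.t) = y⁻¹ * (y * (D.v (cj 5 k) * (D.c * D.t)) * y⁻¹) * y := by group
      rw [h2, h3, hphi]
      calc y * (y * D.c * y⁻¹) * y⁻¹ = (y * y) * D.c * (y * y)⁻¹ := by group
        _ = _ := by rw [← yy, inv_inv]
    rw [conj_prod, hpk] at h1
    rw [← h1, ← mul_assoc, hpk2, one_mul]
  -- the last condition
  have g2 : pn [ph (cj 5 k), k, 7, ph k, cj 5 k, 4, 7] = 4 := by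
    have hlt : ∀ i ∈ [ph (cj 5 k), k, 7, ph k, cj 5 k, 4, 7], i < 192 := by
      intro i hi
      simp only [List.mem_cons, List.not_mem_nil, or_false] at hi
      rcases hi with rfl | rfl | rfl | rfl | rfl | rfl | rfl
      · exact Ea_lt (ph_mem hkd)
      · exact hk'
      · norm_num
      · exact Ea_lt (ph_mem hk)
      · exact Ea_lt hkd
      · norm_num
      · norm_num
    have hW := D.w _ hlt
    apply D.inj hW.1 (by norm_num)
    rw [hW.2]
    simp only [List.map_cons, List.map_nil, List.prod_cons, List.prod_nil, mul_one]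
    rw [D.v7, D.v4, ← yt]
    have h1 := hphi
    rw [conj_prod, conj_prod, hpdk, yc] at h1
    rw [← h1]
    simp only [mul_assoc]
  have h5 := List.all_eq_true.1 E2_ok k hk
  rw [g1, g2] at h5
  simp only [Nat.beq_refl, Bool.and_self, cond_true] at h5
  rw [Bool.or_eq_true] at h5
  rcases h5 with h5 | h5
  · left
    have hk0 := Nat.eq_of_beq_eq_true h5
    subst hk0
    refine ⟨y, y3, ys, ya, yb, yd, ?_, ?_⟩
    · rw [yc, D.v0, one_mul]
    · rw [yt, show ph 0 = 0 from rfl, show cj 5 0 = 0 by decide +kernel, D.v0, one_mul, one_mul]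
  · right
    have hk0 := Nat.eq_of_beq_eq_true h5
    subst hk0
    have e13 : D.v 13 = D.s * D.t := by
      rw [show (13 : ℕ) = mm 1 7 by decide +kernel, D.v_mm (by norm_num) (by norm_num), D.v1, D.v7]
    refine ⟨y, y3, ?_, ?_, ?_, ?_, ?_, ?_⟩
    · show y * D.v 1 * y⁻¹ = D.v 2; rw [D.v1, D.v2, ys]
    · show y * D.v 2 * y⁻¹ = D.v 1 * D.v 2; rw [D.v1, D.v2, ya]
    · show y * D.v 3 * y⁻¹ = D.v 3; rw [D.v3, yb]
    · show D.v 5 * y * D.v 5 * y = 1; rw [D.v5, yd]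
    · show y * D.v 4 * y⁻¹ = D.v 13; rw [D.v4, yc, e13, D.v1]
    · show y * D.v 13 * y⁻¹ = D.v 4 * D.v 13
      rw [e13, conj_prod, ys, yt, show ph 1 = 2 from rfl, show cj 5 1 = 1 by decide +kernel, D.v1, D.v2, D.v4,
        ← mul_assoc D.a, D.rel.aa, one_mul]
      have h := D.weq [1, 4] [4, 1] (by decide) (by decide) (by decide +kernel)
      simp only [List.map_cons, List.map_nil, List.prod_cons, List.prod_nil, mul_one, D.v1, D.v4] at h
      rw [← mul_assoc, h, mul_assoc]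

end DA

end Cfsg.Agent.Lib.M12A
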