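import Cfsg.Agent.Lib.M12TA4

set_option autoImplicit false
set_option linter.all false
set_option maxRecDepth 100000

/-! Groups with an involution centralizer as in `A8`: the case of a normal elementary abelian subgroup. -/

namespace Cfsg.Agent.Lib.M12A

open Cfsg Cfsg.Agent.Lib.H10Enum Cfsg.Agent.Lib.M12Tab Cfsg.Agent.Lib.M12DataA Cfsg.Agent.Lib.JTw
  Cfsg.Agent.Lib.LargeExtra
open Cfsg.Agent.Lib.M12B (allB allB_spec exB exB_spec memB memB_iff eq_one_of_odd_of_two_pow card_cent_conj)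

/-- an involution which is isolated in the centralizer of `c` is central there -/
theorem le_s_gen {G : Type*} [Group G] [Finite G] {s a c : G} {n1 n2 n3 : ℕ} (s2 : s * s = 1) (s1 : s ≠ 1) (a2 : a * a = 1)
    (hsc : s * c = c * s) (hac : a * c = c * a)
    (hiso' : ∀ h, h * c = c * h → (h * s * h⁻¹) * s = s * (h * s * h⁻¹) → h * s * h⁻¹ = s)
    (k1 : Nat.card ↥(Subgroup.centralizer ({c} : Set G) ⊓ Subgroup.centralizer ({s} : Set G)) = 2 ^ n1)
    (k2 : Nat.card ↥(Subgroup.centralizer ({c} : Set G) ⊓ Subgroup.centralizer ({a} : Set G)) = 2 ^ n2)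
    (k3 : Nat.card ↥(Subgroup.centralizer ({c} : Set G) ⊓ Subgroup.centralizer ({s * a} : Set G)) = 2 ^ n3) :
    ∀ h : G, h * c = c * h → h * s = s * h := by
  let H := Subgroup.centralizer ({c} : Set G)
  let s' : H := ⟨s, mem_centralizer_one.2 hsc⟩
  have hs2 : orderOf s' = 2 := by
    rw [← Subgroup.orderOf_coe]; exact InvAct.orderOf_two_iff.2 ⟨s2, s1⟩
  have hord : ∀ {K : Subgroup G} {n : ℕ}, Nat.card K = 2 ^ n → ∀ x ∈ K, Odd (orderOf x) → x = 1 :=
    fun hK x hx ho => eq_one_of_odd_of_two_pow hK hx ho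
  have hiso : IsIsolated s' := by
    intro h hcomm
    have hc : (h : G) * c = c * h := mem_centralizer_one.1 h.2
    apply Subtype.ext
    exact hiso' h hc (congrArg Subtype.val hcomm.eq).symm
  have hZ := ZStarU.inZStar_of_isIsolated ⟨1, by rw [hs2, pow_one]⟩ hiso
  have hZ' : ∀ g : H, g * s' * g⁻¹ * s'⁻¹ ∈ pPrimeCore 2 H := hZ
  have hodd : Nat.Coprime (Nat.card (pPrimeCore 2 H)) 2 := Lib.Cores.coprime_card_pPrimeCore 2 H
  have hodd' : Odd (Nat.card (pPrimeCore 2 H)) := Nat.coprime_two_right.1 hodd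
  have hoddx : ∀ x ∈ pPrimeCore 2 H, Odd (orderOf (x : G)) := by
    intro x hx
    rw [Subgroup.orderOf_coe]
    exact hodd'.of_dvd_nat (Subgroup.orderOf_dvd_natCard _ hx)
  haveI hn : (pPrimeCore 2 H).Normal := pPrimeCore_normal 2 H
  have key : ∀ (y : H) (n : ℕ), y * y = 1 →
      Nat.card ↥(Subgroup.centralizer ({c} : Set G) ⊓ Subgroup.centralizer ({(y : G)} : Set G)) = 2 ^ n →
      ∀ k ∈ pPrimeCore 2 H, y * k * y⁻¹ = k⁻¹ := by
    intro y n hy2 hcard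
    apply inverts_of_fpf hodd' hy2 (fun k hk => hn.conj_mem k hk y)
    intro k hk hky
    apply Subtype.ext
    exact hord hcard k ⟨k.2, mem_centralizer_one.2 (congrArg Subtype.val hky)⟩ (hoddx k hk)
  let a' : H := ⟨a, mem_centralizer_one.2 hac⟩
  have ks := key s' n1 (Subtype.ext s2) k1
  have ka := key a' n2 (Subtype.ext a2) k2
  have hbot : ∀ k ∈ pPrimeCore 2 H, k = 1 := by
    intro k hk
    have e1 : (s' * a') * k * (s' * a')⁻¹ = k := by
      rw [cj_cj, ka k hk, ks _ (inv_mem hk), inv_inv]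
    have e2 : (k : G) * (s * a) = (s * a) * k := (congrArg Subtype.val (cj_eq_self.1 e1)).symm
    apply Subtype.ext
    exact hord k3 (k : G) (Subgroup.mem_inf.2 ⟨k.2, mem_centralizer_one.2 e2⟩) (hoddx k hk)
  intro h hc
  have h1 := hbot _ (hZ' ⟨h, mem_centralizer_one.2 hc⟩)
  have h2 : h * s * h⁻¹ * s⁻¹ = 1 := congrArg Subtype.val h1
  exact cj_eq_self.1 (mul_inv_eq_one.1 h2)

theorem Ea_mm : (Ea.all fun i => Ea.all fun j => memB (mm i j) Ea) = true := by decide +kernel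
theorem Ea_ab : (Ea.all fun i => Ea.all fun j => Nat.beq (mm i j) (mm j i)) = true := by decide +kernel
theorem Ea_cs {i : ℕ} (h : i ∈ Ea) : i = 0 ∨ i = 1 ∨ i ∈ La := by revert i; decide
theorem La_Ea {i : ℕ} (h : i ∈ La) : i ∈ Ea := by revert i; decide

namespace DA

section
variable {G : Type*} [Group G] (D : DA G)

/-- the elementary abelian subgroup of order 8 -/
def E : Subgroup G where
  carrier := {x | ∃ i ∈ Ea, x = D.v i}
  one_mem' := ⟨0, by decide, D.v0.symm⟩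
  mul_mem' := by
    rintro x y ⟨i, hi, rfl⟩ ⟨j, hj, rfl⟩
    refine ⟨mm i j, ?_, (D.v_mm (Ea_lt hi) (Ea_lt hj)).symm⟩
    have h := List.all_eq_true.1 (List.all_eq_true.1 Ea_mm i hi) j hj
    exact (memB_iff _).1 h
  inv_mem' := by
    rintro x ⟨i, hi, rfl⟩
    refine ⟨i, hi, ?_⟩
    have h := Nat.eq_of_beq_eq_true (List.all_eq_true.1 Ea_sq i hi)
    rw [inv_eq_iff_mul_eq_one, ← D.v_mm (Ea_lt hi) (Ea_lt hi), h, v0]

theorem mem_E {x : G} : x ∈ D.E ↔ ∃ i ∈ Ea, x = D.v i := Iff.rfl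

theorem card_E : Nat.card D.E = 8 := by
  rw [show Nat.card D.E = (D.E : Set G).ncard from Nat.card_coe_set_eq _]
  exact D.ncard_list Ea (fun i hi => Ea_lt hi) (by decide) _ (fun g => D.mem_E)

theorem E_comm {x y : G} (hx : x ∈ D.E) (hy : y ∈ D.E) : x * y = y * x := by
  obtain ⟨i, hi, rfl⟩ := hx
  obtain ⟨j, hj, rfl⟩ := hy
  rw [D.comm_iff (Ea_lt hi) (Ea_lt hj)]
  exact Nat.eq_of_beq_eq_true (List.all_eq_true.1 (List.all_eq_true.1 Ea_ab i hi) j hj)

theorem E_sq {x : G} (hx : x ∈ D.E) : x * x = 1 := by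
  obtain ⟨i, hi, rfl⟩ := hx
  exact (D.Ea_comm hi).2.2.2

theorem s_mem_E : D.s ∈ D.E := ⟨1, by decide, D.v1.symm⟩

/-- conjugacy in `L` -/
theorem conjL {L : List ℕ} {r : ℕ} (hr : r < 192) (h : allB (fun k => Nat.beq (cond (memB k L) 1 0)
    (cond (exB (fun i => Nat.beq (cj i r) k) 192) 1 0)) 192 = true) {k : ℕ} (hk : k < 192) (hkL : k ∈ L) :
    ∃ g, g * D.s = D.s * g ∧ g * D.v r * g⁻¹ = D.v k := (D.cj_of hr h hk).1 hkL

/-- the involutions of the centralizer -/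
theorem types {x : G} (hxs : x * D.s = D.s * x) (hx2 : x * x = 1) (hx1 : x ≠ 1) :
    x = D.s ∨ ∃ k < 192, x = D.v k ∧ (k ∈ La ∨ k ∈ Lc ∨ k ∈ Lz ∨ k ∈ Lt ∨ k ∈ Lu) := by
  obtain ⟨k, hk, rfl⟩ := D.exists_v hxs
  have h := allB_spec 192 typ_ok k hk
  have h2 : mm k k = 0 := by
    rw [← D.v_mm hk hk, ← D.v0] at hx2
    exact D.inj (D.mm_lt hk hk) (by norm_num) hx2
  rw [h2, Nat.beq_refl, cond_true, Bool.or_eq_true, Bool.or_eq_true, Bool.or_eq_true, Bool.or_eq_true, Bool.or_eq_true,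
    Bool.or_eq_true] at h
  rcases h with h | h | h | h | h | h | h
  · rw [Nat.eq_of_beq_eq_true h, D.v0] at hx1; exact absurd rfl hx1
  · left; rw [Nat.eq_of_beq_eq_true h, D.v1]
  · exact Or.inr ⟨k, hk, rfl, Or.inl ((memB_iff _).1 h)⟩
  · exact Or.inr ⟨k, hk, rfl, Or.inr (Or.inl ((memB_iff _).1 h))⟩
  · exact Or.inr ⟨k, hk, rfl, Or.inr (Or.inr (Or.inl ((memB_iff _).1 h)))⟩
  · exact Or.inr ⟨k, hk, rfl, Or.inr (Or.inr (Or.inr (Or.inl ((memB_iff _).1 h))))⟩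
  · exact Or.inr ⟨k, hk, rfl, Or.inr (Or.inr (Or.inr (Or.inr ((memB_iff _).1 h))))⟩

theorem L_norm : allB (fun i => Ea.all fun j => memB (cj i j) Ea) 192 = true := by decide +kernel

theorem cent_norm {k x : G} (hk : k * D.s = D.s * k) (hx : x ∈ D.E) : k * x * k⁻¹ ∈ D.E := by
  obtain ⟨i, hi, rfl⟩ := D.exists_v hk
  obtain ⟨j, hj, rfl⟩ := hx
  rw [← D.v_cj hi (Ea_lt hj)]
  exact ⟨_, (memB_iff _).1 (List.all_eq_true.1 (allB_spec 192 L_norm i hi) j hj), rfl⟩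

def C4 : List ℕ := [0, 1, 2, 4, 5, 7, 8, 10, 11, 13, 15, 16, 18, 24, 26, 27, 29, 35, 38, 40, 44, 46, 48, 54, 59, 61, 63, 67, 83, 90, 106, 109]
def C15 : List ℕ := [0, 1, 2, 4, 7, 8, 10, 13, 15, 18, 20, 26, 38, 40, 41, 46, 57, 61, 69, 72, 74, 78, 80, 94, 104, 109, 114, 118, 126, 133, 136, 137]
def C7 : List ℕ := [0, 1, 2, 4, 7, 8, 10, 13, 15, 18, 26, 38, 40, 46, 61, 109]
theorem C4_ok : allB (fun i => Nat.beq (cond (Nat.beq (mm i 4) (mm 4 i)) 1 0) (cond (memB i C4) 1 0)) 192 = true := by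
  decide +kernel
theorem C15_ok : allB (fun i => Nat.beq (cond (Nat.beq (mm i 15) (mm 15 i)) 1 0) (cond (memB i C15) 1 0)) 192 = true := by
  decide +kernel
theorem C7_ok : allB (fun i => Nat.beq (cond (Nat.beq (mm i 7) (mm 7 i)) 1 0) (cond (memB i C7) 1 0)) 192 = true := by
  decide +kernel
theorem C26_ok : allB (fun i => Nat.beq (cond (Nat.beq (mm i 26) (mm 26 i)) 1 0) (cond (memB i C7) 1 0)) 192 = true := by
  decide +kernel
theorem C46_ok : allB (fun i => Nat.beq (cond (Nat.beq (mm i 46) (mm 46 i)) 1 0) (cond (memB i C7) 1 0)) 192 = true := by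
  decide +kernel
theorem C40_ok : allB (fun i => Nat.beq (cond (Nat.beq (mm i 40) (mm 40 i)) 1 0) (cond (memB i C7) 1 0)) 192 = true := by
  decide +kernel

theorem mem_list {k : ℕ} (hk : k < 192) {L : List ℕ}
    (hc : allB (fun i => Nat.beq (cond (Nat.beq (mm i k) (mm k i)) 1 0) (cond (memB i L) 1 0)) 192 = true)
    {i : ℕ} (hi : i < 192) : mm i k = mm k i ↔ i ∈ L := by
  have h := allB_spec 192 hc i hi
  have h' : cond (Nat.beq (mm i k) (mm k i)) 1 0 = cond (memB i L) 1 0 := Nat.eq_of_beq_eq_true h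
  rw [← memB_iff]
  constructor
  · intro h1
    rw [h1, Nat.beq_refl] at h'
    cases hm : memB i L with
    | true => rfl
    | false => rw [hm] at h'; simp at h'
  · intro h1
    rw [h1] at h'
    cases hm : Nat.beq (mm i k) (mm k i) with
    | true => exact Nat.eq_of_beq_eq_true hm
    | false => rw [hm] at h'; simp at h'

/-- elements of `E` commuting with a node -/
theorem E_and {k : ℕ} (hk : k < 192) {L : List ℕ}
    (hc : allB (fun i => Nat.beq (cond (Nat.beq (mm i k) (mm k i)) 1 0) (cond (memB i L) 1 0)) 192 = true)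
    {x : G} (hx : x ∈ D.E) (hxc : x * D.v k = D.v k * x) : ∃ i, i ∈ Ea ∧ i ∈ L ∧ x = D.v i := by
  obtain ⟨i, hi, rfl⟩ := hx
  exact ⟨i, hi, (mem_list hk hc (Ea_lt hi)).1 ((D.comm_iff (Ea_lt hi) hk).1 hxc), rfl⟩

theorem w2 (i j m : ℕ) (hi : Nat.blt i 192 = true) (hj : Nat.blt j 192 = true) (h : mm i j = m) : D.v m = D.v i * D.v j := by
  rw [← h, D.v_mm (Nat.lt_of_lt_of_le (Nat.lt_succ_self _) (Nat.le_of_ble_eq_true hi))
    (Nat.lt_of_lt_of_le (Nat.lt_succ_self _) (Nat.le_of_ble_eq_true hj))]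

theorem c_comm {i j : ℕ} (hi : Nat.blt i 192 = true) (hj : Nat.blt j 192 = true) (h : mm i j = mm j i) :
    D.v i * D.v j = D.v j * D.v i := by
  rw [← D.w2 i j _ hi hj rfl, ← D.w2 j i _ hj hi rfl, h]

end

end DA

end Cfsg.Agent.Lib.M12A
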