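import Cfsg.Agent.Lib.M12TA5

set_option autoImplicit false
set_option linter.all false
set_option maxRecDepth 100000

/-! Groups with an involution centralizer as in `A8`: the case of a normal elementary abelian subgroup, end. -/

namespace Cfsg.Agent.Lib.M12A

open Cfsg Cfsg.Agent.Lib.H10Enum Cfsg.Agent.Lib.M12Tab Cfsg.Agent.Lib.M12DataA Cfsg.Agent.Lib.JTw
  Cfsg.Agent.Lib.LargeExtra
open Cfsg.Agent.Lib.M12B (allB allB_spec exB exB_spec memB memB_iff eq_one_of_odd_of_two_pow card_cent_conj)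

/-- a group where the class of `s` is the set of involutions of a subgroup of order 8 -/
theorem card_of_class {G : Type*} [Group G] [Finite G] {s : G} {E : Subgroup G} (hE : ∀ x, IsConj s x ↔ x ∈ E ∧ x ≠ 1)
    (h8 : Nat.card E = 8) (hc : Nat.card (Subgroup.centralizer ({s} : Set G)) = 192) : Nat.card G = 1344 := by
  classical
  have h1 : Nat.card (MulAction.orbit (ConjAct G) s) * Nat.card (MulAction.stabilizer (ConjAct G) s) = Nat.card (ConjAct G) := by
    rw [← Nat.card_prod]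
    exact Nat.card_congr (MulAction.orbitProdStabilizerEquivGroup (ConjAct G) s)
  have h2 : MulAction.orbit (ConjAct G) s = {x | x ∈ E ∧ x ≠ 1} := by
    ext x
    rw [ConjAct.orbit_eq_carrier_conjClasses, ConjClasses.mem_carrier_iff_mk_eq, ConjClasses.mk_eq_mk_iff_isConj, Set.mem_setOf_eq,
      ← hE x]
    exact isConj_comm
  have h3 : Nat.card (MulAction.orbit (ConjAct G) s) = 7 := by
    rw [h2, Nat.card_coe_set_eq]
    have : {x | x ∈ E ∧ x ≠ 1} = (E : Set G) \ {1} := by ext x; simp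
    rw [this, Set.ncard_diff_singleton_of_mem E.one_mem, ← Nat.card_coe_set_eq]
    have : Nat.card ↥(E : Set G) = 8 := h8
    rw [this]
  have h4 : Nat.card (MulAction.stabilizer (ConjAct G) s) = 192 := by
    rw [ConjAct.stabilizer_eq_centralizer]
    rw [← hc]
    apply Nat.card_congr
    exact ⟨fun x => ⟨ConjAct.ofConjAct x.1, x.2⟩, fun x => ⟨ConjAct.toConjAct x.1, x.2⟩, fun x => rfl, fun x => rfl⟩
  rw [h3, h4] at h1
  have h5 : Nat.card (ConjAct G) = Nat.card G := Nat.card_congr ConjAct.ofConjAct.toEquiv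
  omega

namespace DA

variable {G : Type*} [Group G] (D : DA G)

theorem Y.norm {y : G} (h : D.Y y) {x : G} (hx : x ∈ D.E) : y * x * y⁻¹ ∈ D.E := by
  obtain ⟨i, hi, rfl⟩ := hx
  exact ⟨_, ph_mem hi, D.ph_spec h.ys h.ya h.yb hi⟩

theorem Y.conj {y : G} (h : D.Y y) : IsConj D.s D.a := isConj_iff.2 ⟨y, h.ys⟩

/-- `a c` goes to a conjugate of `ts` -/
theorem Y.yz {y : G} (h : D.Y y) : y * D.v 15 * y⁻¹ = D.v 40 := by
  rw [D.w2 2 4 15 (by decide) (by decide) (by decide +kernel), conj_prod, D.v2, D.v4, h.ya, h.yc,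
    D.w2 8 7 40 (by decide) (by decide) (by decide +kernel), D.w2 1 2 8 (by decide) (by decide) (by decide +kernel), D.v1, D.v2, D.v7]

theorem Y.yct {y : G} (h : D.Y y) : y * D.v 26 * y⁻¹ = D.c := by
  have ctt := D.rel.tt
  rw [D.w2 4 7 26 (by decide) (by decide) (by decide +kernel), conj_prod, D.v4, D.v7, h.yc, h.yt]
  have h1 := D.c_comm (i := 4) (j := 7) (by decide) (by decide) (by decide +kernel)
  rw [D.v4, D.v7] at h1
  rw [h1, ← mul_assoc, ctt, one_mul]

theorem Y.ysct {y : G} (h : D.Y y) : y * D.v 46 * y⁻¹ = D.v 15 := by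
  rw [D.w2 1 26 46 (by decide) (by decide) (by decide +kernel), conj_prod, h.yct, D.v1, h.ys,
    D.w2 2 4 15 (by decide) (by decide) (by decide +kernel), D.v2, D.v4]

theorem Y.y8 {y : G} (h : D.Y y) : y * (D.s * D.a) * y⁻¹ = D.s := by
  rw [conj_prod, h.ys, h.ya, D.comm13, ← mul_assoc, D.rel.aa, one_mul]

section branch

variable {y : G} (hY : D.Y y) (hc : ¬ IsConj D.s D.c) (hz : ¬ IsConj D.s (D.v 15))

include hY hc hz

theorem mem_E_iff {x : G} : x ∈ D.E ↔ x = 1 ∨ (IsConj D.s x ∧ x * D.s = D.s * x) := by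
  constructor
  · rintro ⟨i, hi, rfl⟩
    rcases Ea_cs hi with rfl | rfl | h
    · left; exact D.v0
    · right; rw [v1]; exact ⟨IsConj.refl _, rfl⟩
    · right
      obtain ⟨g, hg, hg2⟩ := D.conjL (by norm_num) cja_ok (Ea_lt hi) h
      rw [D.v2] at hg2
      exact ⟨hY.conj.trans (isConj_iff.2 ⟨g, hg2⟩), D.v_comm (Ea_lt hi)⟩
  · rintro (rfl | ⟨h1, h2⟩)
    · exact D.E.one_mem
    · obtain ⟨k, hk⟩ := isConj_iff.1 h1
      have hx2 : x * x = 1 := by rw [← hk, cj_sq, D.s_sq]; group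
      have hx1 : x ≠ 1 := by rw [← hk]; intro h; exact D.s1 (cj_eq_one.1 h)
      rcases D.types h2 hx2 hx1 with h | ⟨m, hm, rfl, h | h | h | h | h⟩
      · rw [h]; exact D.s_mem_E
      · exact ⟨m, La_Ea h, rfl⟩
      · exfalso
        obtain ⟨g, hg, hg2⟩ := D.conjL (by norm_num) cjc_ok hm h
        rw [D.v4] at hg2
        exact hc (h1.trans (isConj_iff.2 ⟨g, hg2⟩).symm)
      · exfalso
        obtain ⟨g, hg, hg2⟩ := D.conjL (by norm_num) cjz_ok hm h
        exact hz (h1.trans (isConj_iff.2 ⟨g, hg2⟩).symm)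
      · exfalso
        obtain ⟨g, hg, hg2⟩ := D.conjL (by norm_num) cjt_ok hm h
        rw [D.v7] at hg2
        exact hc (h1.trans ((isConj_iff.2 ⟨y, hY.yc⟩).trans (isConj_iff.2 ⟨g, hg2⟩)).symm)
      · exfalso
        obtain ⟨g, hg, hg2⟩ := D.conjL (by norm_num) cju_ok hm h
        obtain ⟨g', hg', hg2'⟩ := D.conjL (by norm_num) cju_ok (k := 40) (by norm_num) (by decide)
        exact hz (h1.trans (((isConj_iff.2 ⟨y, hY.yz⟩).trans (isConj_iff.2 ⟨g', hg2'⟩).symm).trans (isConj_iff.2 ⟨g, hg2⟩)).symm)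

/-- the normalizing elements act transitively -/
theorem exists_n' {x : G} (hx : x ∈ D.E) (hx1 : x ≠ 1) : ∃ n, n * D.s * n⁻¹ = x ∧ (∀ x ∈ D.E, n * x * n⁻¹ ∈ D.E) := by
  obtain ⟨i, hi, rfl⟩ := hx
  rcases Ea_cs hi with rfl | rfl | h
  · exact absurd D.v0 hx1
  · refine ⟨1, by rw [v1]; group, fun x hx => by simpa using hx⟩
  · obtain ⟨k, hk, hk2⟩ := D.conjL (by norm_num) cja_ok (Ea_lt hi) h
    rw [D.v2] at hk2
    refine ⟨k * y, ?_, ?_⟩
    · rw [cj_cj, hY.ys, hk2]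
    · intro x hx; rw [cj_cj]; exact D.cent_norm hk (hY.norm D hx)

theorem hiso_gen {c' : G} {n : ℕ} (hn : Nat.card ↥(Subgroup.centralizer ({c'} : Set G) ⊓ Subgroup.centralizer ({D.s} : Set G)) = n)
    (h2 : Nat.card ↥(Subgroup.centralizer ({c'} : Set G) ⊓ Subgroup.centralizer ({D.a} : Set G)) ≠ n)
    (h8 : Nat.card ↥(Subgroup.centralizer ({c'} : Set G) ⊓ Subgroup.centralizer ({D.s * D.a} : Set G)) ≠ n)
    (hsc : D.s * c' = c' * D.s)
    (hE : ∀ x ∈ D.E, x * c' = c' * x → x = 1 ∨ x = D.s ∨ x = D.a ∨ x = D.s * D.a) :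
    ∀ h, h * c' = c' * h → (h * D.s * h⁻¹) * D.s = D.s * (h * D.s * h⁻¹) → h * D.s * h⁻¹ = D.s := by
  intro h hc' hcomm
  have e2 : (h * D.s * h⁻¹) * c' = c' * (h * D.s * h⁻¹) := by
    have := M12B.DB.cj_comm (g := h) hsc
    rwa [cj_eq_self.2 hc'] at this
  have hyE : h * D.s * h⁻¹ ∈ D.E := (D.mem_E_iff hY hc hz).2 (Or.inr ⟨isConj_iff.2 ⟨h, rfl⟩, hcomm⟩)
  have hcard : Nat.card ↥(Subgroup.centralizer ({c'} : Set G) ⊓ Subgroup.centralizer ({h * D.s * h⁻¹} : Set G)) = n := by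
    have h1 := card_cent_conj h c' D.s
    rw [cj_eq_self.2 hc', hn] at h1
    exact h1
  rcases hE _ hyE e2 with h' | h' | h' | h'
  · exact absurd (cj_eq_one.1 h') D.s1
  · exact h'
  · rw [h'] at hcard; exact absurd hcard h2
  · rw [h'] at hcard; exact absurd hcard h8

theorem E_four {k : ℕ} (hk : k < 192) {L : List ℕ}
    (hL : allB (fun i => Nat.beq (cond (Nat.beq (mm i k) (mm k i)) 1 0) (cond (memB i L) 1 0)) 192 = true)
    (hEL : ∀ i, i ∈ Ea → i ∈ L → i = 0 ∨ i = 1 ∨ i = 2 ∨ i = 8) :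
    ∀ x ∈ D.E, x * D.v k = D.v k * x → x = 1 ∨ x = D.s ∨ x = D.a ∨ x = D.s * D.a := by
  intro x hx hxk
  obtain ⟨i, hi, hi2, rfl⟩ := D.E_and hk hL hx hxk
  rcases hEL i hi hi2 with rfl | rfl | rfl | rfl
  · left; exact D.v0
  · right; left; exact D.v1
  · right; right; left; exact D.v2
  · right; right; right
    rw [D.w2 1 2 8 (by decide) (by decide) (by decide +kernel), D.v1, D.v2]

end branch

theorem E4 : ∀ i, i ∈ Ea → i ∈ C4 → i = 0 ∨ i = 1 ∨ i = 2 ∨ i = 8 := by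
  intro i h1 h2
  revert h2
  rcases Ea_cases h1 with rfl | rfl | rfl | rfl | rfl | rfl | rfl | rfl <;> decide

theorem E15 : ∀ i, i ∈ Ea → i ∈ C15 → i = 0 ∨ i = 1 ∨ i = 2 ∨ i = 8 := by
  intro i h1 h2
  revert h2
  rcases Ea_cases h1 with rfl | rfl | rfl | rfl | rfl | rfl | rfl | rfl <;> decide

section branch2

variable [Finite G] {y : G} (hY : D.Y y) (hc : ¬ IsConj D.s D.c) (hz : ¬ IsConj D.s (D.v 15))

include hY hc hz

theorem c_le_s : ∀ h : G, h * D.c = D.c * h → h * D.s = D.s * h := by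
  have k1 : Nat.card ↥(Subgroup.centralizer ({D.c} : Set G) ⊓ Subgroup.centralizer ({D.s} : Set G)) = 32 := by
    rw [inf_comm, ← D.v4]; exact D.card_cent_node (by norm_num) C4 C4_ok (by decide) (by decide)
  have k2 : Nat.card ↥(Subgroup.centralizer ({D.c} : Set G) ⊓ Subgroup.centralizer ({D.a} : Set G)) = 16 := by
    have h1 := card_cent_conj y (D.v 26) D.s
    rw [hY.yct, hY.ys] at h1
    rw [h1, inf_comm]
    exact D.card_cent_node (by norm_num) C7 C26_ok (by decide) (by decide)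
  have k3 : Nat.card ↥(Subgroup.centralizer ({D.c} : Set G) ⊓ Subgroup.centralizer ({D.s * D.a} : Set G)) = 16 := by
    have h1 := card_cent_conj y D.c (D.s * D.a)
    rw [hY.yc, hY.y8] at h1
    rw [← h1, inf_comm, ← D.v7]
    exact D.card_cent_node (by norm_num) C7 C7_ok (by decide) (by decide)
  have c14 : D.s * D.c = D.c * D.s := by
    have := D.c_comm (i := 1) (j := 4) (by decide) (by decide) (by decide +kernel)
    rwa [D.v1, D.v4] at this
  have c24 : D.a * D.c = D.c * D.a := by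
    have := D.c_comm (i := 2) (j := 4) (by decide) (by decide) (by decide +kernel)
    rwa [D.v2, D.v4] at this
  refine le_s_gen (n1 := 5) (n2 := 4) (n3 := 4) D.s_sq D.s1 D.rel.aa c14 c24 ?_ (by rw [k1]; norm_num) (by rw [k2]; norm_num)
    (by rw [k3]; norm_num)
  refine D.hiso_gen hY hc hz k1 (by rw [k2]; norm_num) (by rw [k3]; norm_num) c14 ?_
  have := D.E_four hY hc hz (k := 4) (by norm_num) C4_ok E4
  rwa [D.v4] at this

theorem z_le_s : ∀ h : G, h * D.v 15 = D.v 15 * h → h * D.s = D.s * h := by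
  have k1 : Nat.card ↥(Subgroup.centralizer ({D.v 15} : Set G) ⊓ Subgroup.centralizer ({D.s} : Set G)) = 32 := by
    rw [inf_comm]; exact D.card_cent_node (by norm_num) C15 C15_ok (by decide) (by decide)
  have k2 : Nat.card ↥(Subgroup.centralizer ({D.v 15} : Set G) ⊓ Subgroup.centralizer ({D.a} : Set G)) = 16 := by
    have h1 := card_cent_conj y (D.v 46) D.s
    rw [hY.ysct, hY.ys] at h1
    rw [h1, inf_comm]
    exact D.card_cent_node (by norm_num) C7 C46_ok (by decide) (by decide)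
  have k3 : Nat.card ↥(Subgroup.centralizer ({D.v 15} : Set G) ⊓ Subgroup.centralizer ({D.s * D.a} : Set G)) = 16 := by
    have h1 := card_cent_conj y (D.v 15) (D.s * D.a)
    rw [hY.yz, hY.y8] at h1
    rw [← h1, inf_comm]
    exact D.card_cent_node (by norm_num) C7 C40_ok (by decide) (by decide)
  have c14 : D.s * D.v 15 = D.v 15 * D.s := by
    have := D.c_comm (i := 1) (j := 15) (by decide) (by decide) (by decide +kernel)
    rwa [D.v1] at this
  have c24 : D.a * D.v 15 = D.v 15 * D.a := by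
    have := D.c_comm (i := 2) (j := 15) (by decide) (by decide) (by decide +kernel)
    rwa [D.v2] at this
  refine le_s_gen (n1 := 5) (n2 := 4) (n3 := 4) D.s_sq D.s1 D.rel.aa c14 c24 ?_ (by rw [k1]; norm_num) (by rw [k2]; norm_num)
    (by rw [k3]; norm_num)
  refine D.hiso_gen hY hc hz k1 (by rw [k2]; norm_num) (by rw [k3]; norm_num) c14 ?_
  exact D.E_four hY hc hz (k := 15) (by norm_num) C15_ok E15

theorem involution_mem_E {x : G} (hy : IsConj D.s x) : x ∈ D.E := by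
  obtain ⟨k, hk⟩ := isConj_iff.1 hy
  have hy2 : x * x = 1 := by rw [← hk, cj_sq, D.s_sq]; group
  have hy1 : x ≠ 1 := by rw [← hk]; intro h; exact D.s1 (cj_eq_one.1 h)
  have hcne : ¬ IsConj x D.c := fun h => hc (hy.trans h)
  have c1 : D.c ≠ 1 := by
    rw [← D.v4, ← D.v0]; intro h; exact absurd (D.inj (by norm_num) (by norm_num) h) (by norm_num)
  have oc : orderOf D.c = 2 := InvAct.orderOf_two_iff.2 ⟨D.rel.cc, c1⟩
  have oy : orderOf x = 2 := InvAct.orderOf_two_iff.2 ⟨hy2, hy1⟩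
  have heven : Even (orderOf (x * D.c)) := by
    by_contra h
    rw [Nat.not_even_iff_odd] at h
    obtain ⟨k, h1, -⟩ := InvAct.exists_conj_of_odd oy oc h
    exact hcne (isConj_iff.2 ⟨_, h1⟩)
  obtain ⟨v, -, hv2, hvy, hvc⟩ := InvAct.exists_central_of_even oy oc heven
  obtain ⟨hvv, hv1⟩ := InvAct.orderOf_two_iff.1 hv2
  have hvs : v * D.s = D.s * v := D.c_le_s hY hc hz v hvc
  have keyE : ∀ e ∈ D.E, e ≠ 1 → x * e = e * x → x ∈ D.E := by
    intro e he he1 hye
    obtain ⟨n, hn, hnE⟩ := D.exists_n' hY hc hz he he1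
    have h1 : (n⁻¹ * x * n) * D.s = D.s * (n⁻¹ * x * n) := by
      have := M12B.DB.cj_comm (g := n⁻¹) hye
      rw [inv_inv] at this
      have e1 : n⁻¹ * e * n = D.s := by rw [← hn]; group
      rwa [e1] at this
    have h2 : n⁻¹ * x * n ∈ D.E := (D.mem_E_iff hY hc hz).2 (Or.inr ⟨hy.trans (isConj_iff.2 ⟨n⁻¹, by group⟩), h1⟩)
    have h3 := hnE _ h2
    have e2 : n * (n⁻¹ * x * n) * n⁻¹ = x := by group
    rwa [e2] at h3
  have keyg : ∀ c' m : G, (∀ h : G, h * c' = c' * h → h * D.s = D.s * h) → (∀ x ∈ D.E, m * x * m⁻¹ ∈ D.E) →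
      m * c' * m⁻¹ = v → x ∈ D.E := by
    intro c' m hle hm hmv
    have h1 : (m⁻¹ * x * m) * c' = c' * (m⁻¹ * x * m) := by
      have := M12B.DB.cj_comm (g := m⁻¹) hvy
      rw [inv_inv] at this
      have e1 : m⁻¹ * v * m = c' := by rw [← hmv]; group
      rw [e1] at this
      exact this.symm
    have h2 := hle _ h1
    have h3 : x * (m * D.s * m⁻¹) = (m * D.s * m⁻¹) * x := by
      have := M12B.DB.cj_comm (g := m) h2
      have e2 : m * (m⁻¹ * x * m) * m⁻¹ = x := by group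
      rwa [e2] at this
    exact keyE _ (hm _ D.s_mem_E) (fun h => D.s1 (cj_eq_one.1 h)) h3
  have nL : ∀ g : G, g * D.s = D.s * g → ∀ x ∈ D.E, g * x * g⁻¹ ∈ D.E := fun g hg x hx => D.cent_norm hg hx
  rcases D.types hvs hvv hv1 with h | ⟨m, hm, rfl, h | h | h | h | h⟩
  · exact keyE v (by rw [h]; exact D.s_mem_E) hv1 hvy.symm
  · exact keyE _ ⟨m, La_Ea h, rfl⟩ hv1 hvy.symm
  · obtain ⟨g, hg, hg2⟩ := D.conjL (by norm_num) cjc_ok hm h
    rw [D.v4] at hg2
    exact keyg D.c g (D.c_le_s hY hc hz) (nL g hg) hg2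
  · obtain ⟨g, hg, hg2⟩ := D.conjL (by norm_num) cjz_ok hm h
    exact keyg (D.v 15) g (D.z_le_s hY hc hz) (nL g hg) hg2
  · obtain ⟨g, hg, hg2⟩ := D.conjL (by norm_num) cjt_ok hm h
    rw [D.v7] at hg2
    refine keyg D.c (g * y) (D.c_le_s hY hc hz) ?_ ?_
    · intro x hx; rw [cj_cj]; exact nL g hg _ (hY.norm D hx)
    · rw [cj_cj, hY.yc, hg2]
  · obtain ⟨g, hg, hg2⟩ := D.conjL (by norm_num) cju_ok hm h
    obtain ⟨g', hg', hg2'⟩ := D.conjL (by norm_num) cju_ok (k := 40) (by norm_num) (by decide)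
    refine keyg (D.v 15) (g * (g'⁻¹ * y)) (D.z_le_s hY hc hz) ?_ ?_
    · intro x hx; rw [cj_cj, cj_cj]; exact nL g hg _ (nL _ (inv_comm_iff.2 hg') _ (hY.norm D hx))
    · rw [cj_cj, cj_cj, hY.yz, ← hg2', inv_inv, ← hg2]; group

theorem class_eq (x : G) : IsConj D.s x ↔ x ∈ D.E ∧ x ≠ 1 := by
  constructor
  · intro h
    refine ⟨D.involution_mem_E hY hc hz h, ?_⟩
    rintro rfl
    obtain ⟨g, hg⟩ := isConj_iff.1 h
    exact D.s1 (cj_eq_one.1 hg)
  · rintro ⟨h1, h2⟩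
    rcases (D.mem_E_iff hY hc hz).1 h1 with h | ⟨h, -⟩
    · exact absurd h h2
    · exact h

theorem E_normal : D.E.Normal := by
  refine ⟨fun x hx g => ?_⟩
  by_cases h1 : x = 1
  · rw [h1, mul_one, mul_inv_cancel]; exact D.E.one_mem
  · have h2 := (D.class_eq hY hc hz x).2 ⟨hx, h1⟩
    exact ((D.class_eq hY hc hz _).1 (h2.trans (isConj_iff.2 ⟨g, rfl⟩))).1

theorem card_G : Nat.card G = 1344 := card_of_class (D.class_eq hY hc hz) D.card_E D.card

end branch2

end DA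

end Cfsg.Agent.Lib.M12A
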