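import Cfsg.Agent.Lib.M12TA6

set_option autoImplicit false
set_option linter.all false
set_option maxRecDepth 100000

/-! Groups with an involution centralizer as in `A8`: the fusion. -/

namespace Cfsg.Agent.Lib.M12A

open Cfsg.Agent.Lib.H10Enum Cfsg.Agent.Lib.M12Tab Cfsg.Agent.Lib.M12DataA Cfsg.Agent.Lib.JTw
open Cfsg.Agent.Lib.M12B (allB allB_spec exB exB_spec memB memB_iff)

namespace DA

variable {G : Type*} [Group G] (D : DA G)

theorem sw_s : D.sw.s = D.s := D.v1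
theorem sw_a : D.sw.a = D.c := D.v4
theorem sw_b : D.sw.b = D.d := D.v5
theorem sw_c : D.sw.c = D.a := D.v2
theorem sw_d : D.sw.d = D.b := D.v3
theorem sw_p : D.sw.p = D.p := D.v6
theorem sw_t : D.sw.t = D.t := D.v7

theorem ts_s : D.ts.s = D.s := D.v1
theorem ts_a : D.ts.a = D.a := D.v2
theorem ts_b : D.ts.b = D.b := D.v3
theorem ts_c : D.ts.c = D.c := D.v4
theorem ts_d : D.ts.d = D.d := D.v5
theorem ts_p : D.ts.p = D.p := D.v6
theorem ts_t : D.ts.t = D.v 13 := rfl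

theorem sz_s : D.sz.s = D.s := D.v1
theorem sz_a : D.sz.a = D.v 38 := rfl
theorem sz_b : D.sz.b = D.v 41 := rfl
theorem sz_c : D.sz.c = D.c := D.v4
theorem sz_d : D.sz.d = D.d := D.v5
theorem sz_p : D.sz.p = D.p := D.v6
theorem sz_t : D.sz.t = D.t := D.v7

theorem v8 : D.v 8 = D.s * D.a := by rw [D.w2 1 2 8 (by decide) (by decide) (by decide +kernel), D.v1, D.v2]
theorem v13 : D.v 13 = D.s * D.t := by rw [D.w2 1 7 13 (by decide) (by decide) (by decide +kernel), D.v1, D.v7]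
theorem v10 : D.v 10 = D.s * D.c := by rw [D.w2 1 4 10 (by decide) (by decide) (by decide +kernel), D.v1, D.v4]
theorem v15 : D.v 15 = D.a * D.c := by rw [D.w2 2 4 15 (by decide) (by decide) (by decide +kernel), D.v2, D.v4]
theorem v38 : D.v 38 = D.s * D.v 15 := by rw [D.w2 1 15 38 (by decide) (by decide) (by decide +kernel), D.v1]
theorem v26 : D.v 26 = D.c * D.t := by rw [D.w2 4 7 26 (by decide) (by decide) (by decide +kernel), D.v4, D.v7]
theorem v18 : D.v 18 = D.a * D.t := by rw [D.w2 2 7 18 (by decide) (by decide) (by decide +kernel), D.v2, D.v7]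

theorem cv {g : G} (L M : List ℕ) (hf : List.Forall₂ (fun i j => g * D.v i * g⁻¹ = D.v j) L M) :
    ∀ {k m : ℕ} (hL : (L.all fun i => Nat.blt i 192) = true) (hM : (M.all fun i => Nat.blt i 192) = true)
    (hk : pn L = k) (hm : pn M = m), g * D.v k * g⁻¹ = D.v m := by
  induction hf with
  | nil =>
    intro k m hL hM hk hm
    rw [← hk, ← hm]
    show g * D.v 0 * g⁻¹ = D.v 0
    rw [D.v0]; group
  | @cons i j L M h hf ih =>
    intro k m hL hM hk hm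
    have hL' := hL
    have hM' := hM
    rw [List.all_cons, Bool.and_eq_true] at hL hM
    have h1 := ih hL.2 hM.2 rfl rfl
    have conv : ∀ {M : List ℕ}, (M.all fun i => Nat.blt i 192) = true → ∀ i ∈ M, i < 192 := by
      intro M hM i hi
      have := List.all_eq_true.1 hM i hi
      exact Nat.lt_of_lt_of_le (Nat.lt_succ_self _) (Nat.le_of_ble_eq_true this)
    have hi := conv hL' i List.mem_cons_self
    have hj := conv hM' j List.mem_cons_self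
    have hpL := (D.w L (conv hL.2)).1
    have hpM := (D.w M (conv hM.2)).1
    rw [← hk, ← hm]
    show g * D.v (mm i (pn L)) * g⁻¹ = D.v (mm j (pn M))
    rw [D.v_mm hi hpL, D.v_mm hj hpM, conj_prod, h, h1]

/-- the nodes in `Q` and outside are not conjugate -/
theorem no4 : allB (fun i => !Nat.beq (cj i 4) 61 && !Nat.beq (cj i 2) 61 && !Nat.beq (cj i 2) 4) 192 = true := by decide +kernel

theorem no_conj {u : G} (hu : u * D.s * u⁻¹ = D.s) : u * D.c * u⁻¹ ≠ D.v 61 ∧ u * D.a * u⁻¹ ≠ D.v 61 ∧ u * D.a * u⁻¹ ≠ D.c := by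
  obtain ⟨i, hi, rfl⟩ := D.exists_v (cj_eq_self.1 hu)
  have h := allB_spec 192 no4 i hi
  rw [Bool.and_eq_true, Bool.and_eq_true] at h
  obtain ⟨⟨h1, h2⟩, h3⟩ := h
  have aux : ∀ k m : ℕ, k < 192 → m < 192 → (!Nat.beq (cj i k) m) = true → D.v i * D.v k * (D.v i)⁻¹ ≠ D.v m := by
    intro k m hk hm h h'
    rw [← D.v_cj hi hk] at h'
    rw [D.inj (D.cj_lt hi hk) hm h', Nat.beq_refl] at h
    exact absurd h (by decide)
  refine ⟨?_, ?_, ?_⟩
  · rw [← D.v4]; exact aux 4 61 (by norm_num) (by norm_num) h1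
  · rw [← D.v2]; exact aux 2 61 (by norm_num) (by norm_num) h2
  · rw [← D.v2, ← D.v4]; exact aux 2 4 (by norm_num) (by norm_num) h3

theorem Y.y1 {D : DA G} {y : G} (h : D.Y y) : y * D.v 1 * y⁻¹ = D.v 2 := by rw [D.v1, D.v2, h.ys]
theorem Y.y2 {D : DA G} {y : G} (h : D.Y y) : y * D.v 2 * y⁻¹ = D.v 8 := by rw [D.v2, h.ya, D.v8]
theorem Y.y4 {D : DA G} {y : G} (h : D.Y y) : y * D.v 4 * y⁻¹ = D.v 7 := by rw [D.v4, D.v7, h.yc]
theorem Y.y7 {D : DA G} {y : G} (h : D.Y y) : y * D.v 7 * y⁻¹ = D.v 26 := by rw [D.v7, h.yt, D.v26]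

/-- the good `w` -/
theorem Y.w1 {D : DA G} {y : G} (h : D.sw.Y y) : y * D.v 1 * y⁻¹ = D.v 4 := by
  have := h.ys; rw [D.sw_s, D.sw_a] at this; rw [D.v1, D.v4, this]
theorem Y.w4 {D : DA G} {y : G} (h : D.sw.Y y) : y * D.v 4 * y⁻¹ = D.v 10 := by
  have := h.ya; rw [D.sw_s, D.sw_a] at this; rw [D.v4, D.v10, this]
theorem Y.w2 {D : DA G} {y : G} (h : D.sw.Y y) : y * D.v 2 * y⁻¹ = D.v 7 := by
  have := h.yc; rw [D.sw_c, D.sw_t] at this; rw [D.v2, D.v7, this]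
theorem Y.w7 {D : DA G} {y : G} (h : D.sw.Y y) : y * D.v 7 * y⁻¹ = D.v 18 := by
  have := h.yt; rw [D.sw_c, D.sw_t] at this; rw [D.v7, D.v18, this]

/-- the bad `w` -/
theorem Y.x1 {D : DA G} {y : G} (h : D.sw.ts.Y y) : y * D.v 1 * y⁻¹ = D.v 4 := by
  have := h.ys; rw [ts_s, ts_a, D.sw_s, D.sw_a] at this; rw [D.v1, D.v4, this]
theorem Y.x4 {D : DA G} {y : G} (h : D.sw.ts.Y y) : y * D.v 4 * y⁻¹ = D.v 10 := by
  have := h.ya; rw [ts_s, ts_a, D.sw_s, D.sw_a] at this; rw [D.v4, D.v10, this]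
theorem Y.x2 {D : DA G} {y : G} (h : D.sw.ts.Y y) : y * D.v 2 * y⁻¹ = D.v 13 := by
  have := h.yc; rw [ts_t, ts_c, v13, D.sw_s, D.sw_c, D.sw_t, ← D.v13] at this; rw [D.v2, this]
theorem Y.x13 {D : DA G} {y : G} (h : D.sw.ts.Y y) : y * D.v 13 * y⁻¹ = D.v 2 * D.v 13 := by
  have := h.yt; rw [ts_t, ts_c, v13, D.sw_s, D.sw_c, D.sw_t, ← D.v13] at this; rw [D.v2, this]

/-- the good `z` -/
theorem Y.z1 {D : DA G} {y : G} (h : D.sz.Y y) : y * D.v 1 * y⁻¹ = D.v 38 := by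
  have := h.ys; rw [D.sz_s, D.sz_a] at this; rw [D.v1, this]
theorem Y.z38 {D : DA G} {y : G} (h : D.sz.Y y) : y * D.v 38 * y⁻¹ = D.v 15 := by
  have := h.ya; rw [D.sz_s, D.sz_a] at this
  rw [this, D.v38, ← mul_assoc, D.rel.ss, one_mul]
theorem Y.z4 {D : DA G} {y : G} (h : D.sz.Y y) : y * D.v 4 * y⁻¹ = D.v 7 := by
  have := h.yc; rw [D.sz_c, D.sz_t] at this; rw [D.v4, D.v7, this]
theorem Y.z7 {D : DA G} {y : G} (h : D.sz.Y y) : y * D.v 7 * y⁻¹ = D.v 26 := by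
  have := h.yt; rw [D.sz_c, D.sz_t] at this; rw [D.v7, D.v26, this]

/-- the bad `z` -/
theorem Y.q1 {D : DA G} {y : G} (h : D.sz.ts.Y y) : y * D.v 1 * y⁻¹ = D.v 38 := by
  have := h.ys; rw [ts_s, ts_a, D.sz_s, D.sz_a] at this; rw [D.v1, this]
theorem Y.q38 {D : DA G} {y : G} (h : D.sz.ts.Y y) : y * D.v 38 * y⁻¹ = D.v 15 := by
  have := h.ya; rw [ts_s, ts_a, D.sz_s, D.sz_a] at this
  rw [this, D.v38, ← mul_assoc, D.rel.ss, one_mul]
theorem Y.q4 {D : DA G} {y : G} (h : D.sz.ts.Y y) : y * D.v 4 * y⁻¹ = D.v 13 := by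
  have := h.yc; rw [ts_t, ts_c, v13, D.sz_s, D.sz_c, D.sz_t, ← D.v13] at this; rw [D.v4, this]
theorem Y.q13 {D : DA G} {y : G} (h : D.sz.ts.Y y) : y * D.v 13 * y⁻¹ = D.v 46 := by
  have := h.yt; rw [ts_t, ts_c, v13, D.sz_s, D.sz_c, D.sz_t, ← D.v13] at this
  rw [this, ← D.v4, ← D.w2 4 13 46 (by decide) (by decide) (by decide +kernel)]

theorem cc5 (y1 y2 y3 y4 y5 : G) {x k1 k2 k3 k4 k5 : G} (h1 : y1 * x * y1⁻¹ = k1) (h2 : y2 * k1 * y2⁻¹ = k2)
    (h3 : y3 * k2 * y3⁻¹ = k3) (h4 : y4 * k3 * y4⁻¹ = k4) (h5 : y5 * k4 * y5⁻¹ = k5) :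
    (y5 * (y4 * (y3 * (y2 * y1)))) * x * (y5 * (y4 * (y3 * (y2 * y1))))⁻¹ = k5 := by
  rw [← h5, ← h4, ← h3, ← h2, ← h1]; group

theorem Y.y8' {D : DA G} {y : G} (h : D.Y y) : y * D.v 8 * y⁻¹ = D.v 1 :=
  D.cv [1, 2] [2, 8] (.cons h.y1 (.cons h.y2 .nil)) (by decide) (by decide) (by decide +kernel) (by decide +kernel)
theorem Y.y13 {D : DA G} {y : G} (h : D.Y y) : y * D.v 13 * y⁻¹ = D.v 61 :=
  D.cv [1, 7] [2, 26] (.cons h.y1 (.cons h.y7 .nil)) (by decide) (by decide) (by decide +kernel) (by decide +kernel)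
theorem Y.y26 {D : DA G} {y : G} (h : D.Y y) : y * D.v 26 * y⁻¹ = D.v 4 :=
  D.cv [4, 7] [7, 26] (.cons h.y4 (.cons h.y7 .nil)) (by decide) (by decide) (by decide +kernel) (by decide +kernel)
theorem Y.y46 {D : DA G} {y : G} (h : D.Y y) : y * D.v 46 * y⁻¹ = D.v 15 :=
  D.cv [1, 4, 7] [2, 7, 26] (.cons h.y1 (.cons h.y4 (.cons h.y7 .nil))) (by decide) (by decide) (by decide +kernel) (by decide +kernel)

theorem no_bad {y w : G} (hy : D.Y y) (hw : D.sw.ts.Y w) : False := by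
  have w13 : w * D.v 13 * w⁻¹ = D.v 40 := by
    rw [hw.x13, ← D.w2 2 13 40 (by decide) (by decide) (by decide +kernel)]
  have x61 : w * D.v 61 * w⁻¹ = D.v 8 :=
    D.cv [2, 4, 1, 13] [13, 10, 4, 40] (.cons hw.x2 (.cons hw.x4 (.cons hw.x1 (.cons w13 .nil)))) (by decide) (by decide)
      (by decide +kernel) (by decide +kernel)
  have x8 : w * D.v 8 * w⁻¹ = D.v 46 :=
    D.cv [1, 2] [4, 13] (.cons hw.x1 (.cons hw.x2 .nil)) (by decide) (by decide) (by decide +kernel) (by decide +kernel)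
  have x15 : w * D.v 15 * w⁻¹ = D.v 26 :=
    D.cv [2, 4] [13, 10] (.cons hw.x2 (.cons hw.x4 .nil)) (by decide) (by decide) (by decide +kernel) (by decide +kernel)
  have e1 := cc5 y w y w y hy.y1 hw.x2 hy.y13 x61 hy.y8'
  have e2 := cc5 y w y w y hy.y2 x8 hy.y46 x15 hy.y26
  rw [D.v1] at e1
  rw [D.v2, D.v4] at e2
  exact (D.no_conj e1).2.2 e2

theorem no_three {y w z : G} (hy : D.Y y) (hw : D.sw.Y w) (hz : D.sz.Y z ∨ D.sz.ts.Y z) : False := by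
  rcases hz with hz | hz
  · have w18 : w * D.v 18 * w⁻¹ = D.v 2 :=
      D.cv [2, 7] [7, 18] (.cons hw.w2 (.cons hw.w7 .nil)) (by decide) (by decide) (by decide +kernel) (by decide +kernel)
    have w10 : w * D.v 10 * w⁻¹ = D.v 1 :=
      D.cv [1, 4] [4, 10] (.cons hw.w1 (.cons hw.w4 .nil)) (by decide) (by decide) (by decide +kernel) (by decide +kernel)
    have w13 : w * D.v 13 * w⁻¹ = D.v 61 :=
      D.cv [1, 7] [4, 18] (.cons hw.w1 (.cons hw.w7 .nil)) (by decide) (by decide) (by decide +kernel) (by decide +kernel)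
    have z2 : z * D.v 2 * z⁻¹ = D.v 13 :=
      D.cv [38, 4, 1] [15, 7, 38] (.cons hz.z38 (.cons hz.z4 (.cons hz.z1 .nil))) (by decide) (by decide)
        (by decide +kernel) (by decide +kernel)
    have z18 : z * D.v 18 * z⁻¹ = D.v 10 :=
      D.cv [2, 7] [13, 26] (.cons z2 (.cons hz.z7 .nil)) (by decide) (by decide) (by decide +kernel) (by decide +kernel)
    have e1 := cc5 y w w z w hy.y1 hw.w2 hw.w7 z18 w10
    have e2 := cc5 y w w z w hy.y4 hw.w7 w18 z2 w13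
    rw [D.v1] at e1
    rw [D.v4] at e2
    exact (D.no_conj e1).1 e2
  · have w8 : w * D.v 8 * w⁻¹ = D.v 26 :=
      D.cv [1, 2] [4, 7] (.cons hw.w1 (.cons hw.w2 .nil)) (by decide) (by decide) (by decide +kernel) (by decide +kernel)
    have q26 : z * D.v 26 * z⁻¹ = D.v 8 :=
      D.cv [4, 1, 13] [13, 38, 46] (.cons hz.q4 (.cons hz.q1 (.cons hz.q13 .nil))) (by decide) (by decide)
        (by decide +kernel) (by decide +kernel)
    have e1 := cc5 y y w z y hy.y1 hy.y2 w8 q26 hy.y8'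
    have e2 := cc5 y y w z y hy.y2 hy.y8' hw.w1 hz.q4 hy.y13
    rw [D.v1] at e1
    rw [D.v2] at e2
    exact (D.no_conj e1).2.1 e2

/-- two classes in `Q` -/
theorem step (ha : IsConj D.s D.a) (hc : IsConj D.s D.c) : ∃ D' : DA G, D'.s = D.s ∧ D'.a = D.a ∧ D'.c = D.c ∧
    (∃ y, D'.Y y) ∧ (∃ w, D'.sw.Y w) ∧ ¬ IsConj D'.s (D'.v 15) := by
  have main : ∀ D' : DA G, D'.s = D.s → D'.a = D.a → D'.c = D.c → (∃ y, D'.Y y) →
      ∃ D' : DA G, D'.s = D.s ∧ D'.a = D.a ∧ D'.c = D.c ∧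
      (∃ y, D'.Y y) ∧ (∃ w, D'.sw.Y w) ∧ ¬ IsConj D'.s (D'.v 15) := by
    rintro D' h1 h2 h3 ⟨y, hy⟩
    have hc' : IsConj D'.sw.s D'.sw.a := by rw [sw_s, sw_a, h1, h3]; exact hc
    rcases D'.sw.exists_Y hc' with ⟨w, hw⟩ | ⟨w, hw⟩
    · refine ⟨D', h1, h2, h3, ⟨y, hy⟩, ⟨w, hw⟩, fun hz => ?_⟩
      have hz' : IsConj D'.sz.s D'.sz.a := by
        rw [sz_s, sz_a, D'.v38]
        refine hz.trans ?_
        have h4 : D'.v 5 * D'.v 15 * (D'.v 5)⁻¹ = D'.v 38 := by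
          rw [← D'.v_cj (by norm_num) (by norm_num), show cj 5 15 = 38 by decide +kernel]
        rw [D'.v38] at h4
        exact isConj_iff.2 ⟨_, h4⟩
      rcases D'.sz.exists_Y hz' with ⟨z, hz⟩ | ⟨z, hz⟩
      · exact D'.no_three hy hw (Or.inl hz)
      · exact D'.no_three hy hw (Or.inr hz)
    · exact (D'.no_bad hy hw).elim
  rcases D.exists_Y ha with h | h
  · exact main D rfl rfl rfl h
  · exact main D.ts D.ts_s D.ts_a D.ts_c h

theorem cases_ (ha : IsConj D.s D.a) :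
    (∃ D' : DA G, D'.s = D.s ∧ D'.a = D.a ∧ (∃ y, D'.Y y) ∧ ¬ IsConj D'.s D'.c ∧ ¬ IsConj D'.s (D'.v 15)) ∨
    (∃ D' : DA G, D'.s = D.s ∧ D'.a = D.a ∧ (∃ y, D'.Y y) ∧ (∃ w, D'.sw.Y w) ∧ ¬ IsConj D'.s (D'.v 15)) := by
  by_cases hc : IsConj D.s D.c
  · obtain ⟨D', h1, h2, h3, h4⟩ := D.step ha hc
    exact Or.inr ⟨D', h1, h2, h4⟩
  by_cases hz : IsConj D.s (D.v 15)
  · have e1 : D.sw.sz.sw.s = D.s := by rw [sw_s, sz_s, sw_s]
    have e2 : D.sw.sz.sw.a = D.a := by rw [sw_a, sz_c, sw_c]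
    have e3 : D.sw.sz.sw.c = D.v 38 := by
      rw [sw_c, sz_a, v38, v15, sw_s, sw_a, sw_c, v38, v15]
      have h := D.c_comm (i := 2) (j := 4) (by decide) (by decide) (by decide +kernel)
      rw [D.v2, D.v4] at h
      rw [h]
    have hc' : IsConj D.sw.sz.sw.s D.sw.sz.sw.c := by
      rw [e1, e3]
      refine hz.trans (isConj_iff.2 ⟨D.v 5, ?_⟩)
      rw [← D.v_cj (by norm_num) (by norm_num), show cj 5 15 = 38 by decide +kernel]
    obtain ⟨D', h1, h2, h3, h4⟩ := D.sw.sz.sw.step (by rw [e1, e2]; exact ha) hc'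
    exact Or.inr ⟨D', h1.trans e1, h2.trans e2, h4⟩
  · left
    rcases D.exists_Y ha with h | h
    · exact ⟨D, rfl, rfl, h, hc, hz⟩
    · refine ⟨D.ts, D.ts_s, D.ts_a, h, ?_, ?_⟩
      · rw [ts_s, ts_c]; exact hc
      · rw [v15, ts_s, ts_a, ts_c, ← v15]; exact hz

end DA

end Cfsg.Agent.Lib.M12A
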