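import Cfsg.Agent.Lib.M12TA7
import Cfsg.Agent.Lib.A8EnumA
import Cfsg.Agent.Lib.A8EnumB
import Cfsg.Agent.Lib.A8EnumC
import Cfsg.Agent.Lib.J2Pres

set_option autoImplicit false
set_option linter.all false
set_option maxRecDepth 100000

/-! Order bounds from coset enumerations. -/

namespace Cfsg.Agent.Lib.M12A

open Cfsg.Agent.Lib.H10Enum Cfsg.Agent.Lib.M12Tab Cfsg.Agent.Lib.M12DataA Cfsg.Agent.Lib.JTw Cfsg.Agent.Lib.J2Pres
open Cfsg.Agent.Lib.M12B (allB allB_spec exB exB_spec memB memB_iff)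

theorem val_map' {G G' : Type*} [Group G] [Group G'] (φ : G →* G') (y : ℕ → G) (c : ℕ) : φ (val y c) = val (fun n => φ (y n)) c := by
  unfold val
  split_ifs
  · rfl
  · rw [map_inv]

theorem wval_map' {G G' : Type*} [Group G] [Group G'] (φ : G →* G') (y : ℕ → G) (L : List ℕ) :
    φ (wval y L) = wval (fun n => φ (y n)) L := by
  induction L with
  | nil => rw [wval_nil, wval_nil, map_one]
  | cons a L ih => rw [wval_cons, wval_cons, map_mul, ih, val_map']

theorem enum_sub {G : Type*} [Group G] {g : ℕ → G} {T iv fuel m N n b : ℕ} {sub S : List ℕ} {R : List (List ℕ)}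
    {rs : List Rule} (letters : List ℕ) (E : ℕ → ℕ) (hg0 : g 0 = 1) (hiv : ∀ c, iv.testBit c = true → (g c)⁻¹ = g c)
    (hR : ∀ w ∈ R, wval g w = 1) (H B : Subgroup G) (hgH : ∀ c, g c ∈ H) (hsub : ∀ c ∈ sub, g c ∈ B)
    (h : check T iv fuel m N sub S R rs = true) (hn : 0 < n)
    (hgen : H ≤ Subgroup.closure {a | ∃ c ∈ letters, a = g c})
    (hcl : ∀ c ∈ letters, chkC T iv n N (E c) c n = true) (hBH : B ≤ H) (hBf : Finite B) (hb : Nat.card B ≤ b) :
    Finite H ∧ Nat.card H ≤ n * b := by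
  let g' : ℕ → H := fun c => ⟨g c, hgH c⟩
  have hw : ∀ w, ((wval g' w : H) : G) = wval g w := fun w => wval_map' H.subtype g' w
  have hgen' : Subgroup.closure {a : H | ∃ c ∈ letters, a = g' c} = ⊤ := by
    rw [eq_top_iff]
    rintro ⟨x, hx⟩ -
    have h1 : H.subtype '' {a : H | ∃ c ∈ letters, a = g' c} = {a | ∃ c ∈ letters, a = g c} := by
      ext a
      constructor
      · rintro ⟨_, ⟨c, hc, rfl⟩, rfl⟩; exact ⟨c, hc, rfl⟩
      · rintro ⟨c, hc, rfl⟩; exact ⟨g' c, ⟨c, hc, rfl⟩, rfl⟩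
    have h2 := hgen hx
    rw [← h1, ← MonoidHom.map_closure] at h2
    obtain ⟨z, hz, hzx⟩ := h2
    have : z = ⟨x, hx⟩ := Subtype.ext hzx
    rw [← this]; exact hz
  have h1 := enum_index (g := g') letters E (Subtype.ext hg0) (fun c hc => Subtype.ext (hiv c hc))
    (fun w hw' => Subtype.ext (by rw [hw]; exact hR w hw')) (B.subgroupOf H)
    (fun c hc => Subgroup.mem_subgroupOf.2 (hsub c hc)) h hn hgen' hcl
  haveI : Finite (B.subgroupOf H) := Finite.of_equiv _ (Subgroup.subgroupOfEquivOfLe hBH).symm.toEquiv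
  exact card_le_mul (B.subgroupOf H) h1 (by rw [Nat.card_congr (Subgroup.subgroupOfEquivOfLe hBH).toEquiv]; exact hb)

section defs
variable {G : Type*} [Group G]

/-- the relations of `y` -/
structure YRel (s a b c d t y : G) : Prop where
  y3 : y * y * y = 1
  ys : y * s * y⁻¹ = a
  ya : y * a * y⁻¹ = s * a
  yb : y * b * y⁻¹ = b
  yd : d * y * d * y = 1
  yc : y * c * y⁻¹ = t
  yt : y * t * y⁻¹ = c * t

/-- the letters -/
def gl8 (s a b c d p t y : G) : ℕ → G
  | 8 => y
  | i => gl s a b c d p t i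

/-- the letters -/
def gl9 (s a b c d p t y w : G) : ℕ → G
  | 9 => w
  | i => gl8 s a b c d p t y i

theorem YRel.rels {s a b c d t y : G} (p : G) (h : Rel s a b c d p t) (hy : YRel s a b c d t y) :
    y * y * y = 1 ∧ y * b * y⁻¹ * b = 1 ∧ y * s * y⁻¹ * a = 1 ∧ y * a * y⁻¹ * a * s = 1 ∧ d * y * d * y = 1 ∧
    y * c * y⁻¹ * t = 1 ∧ y * t * y⁻¹ * t * c = 1 := by
  refine ⟨hy.y3, ?_, ?_, ?_, hy.yd, ?_, ?_⟩
  · rw [hy.yb, h.bb]
  · rw [hy.ys, h.aa]
  · rw [hy.ya, mul_assoc s, h.aa, mul_one, h.ss]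
  · rw [hy.yc, h.tt]
  · rw [hy.yt, mul_assoc c, h.tt, mul_one, h.cc]

theorem hiv8 {s a b c d p t y : G} (h : Rel s a b c d p t) : ∀ i, (190 : ℕ).testBit i = true →
    (gl8 s a b c d p t y i)⁻¹ = gl8 s a b c d p t y i := by
  intro i hc
  have hlt := tb_lt (n := 190) (by norm_num) hc
  have := h.hiv i hc
  interval_cases i <;> exact this

theorem hiv9 {s a b c d p t y w : G} (h : Rel s a b c d p t) : ∀ i, (190 : ℕ).testBit i = true →
    (gl9 s a b c d p t y w i)⁻¹ = gl9 s a b c d p t y w i := by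
  intro i hc
  have hlt := tb_lt (n := 190) (by norm_num) hc
  have := h.hiv i hc
  interval_cases i <;> exact this

theorem s_comm_a {s a b c d p t : G} (h : Rel s a b c d p t) : True := trivial

theorem hRA {s a b c d p t y : G} (h : Rel s a b c d p t) (hy : YRel s a b c d t y)
    (hp : p * y * p * y * p * y * p * y * (s * a * b) = 1) :
    ∀ v ∈ A8EnumA.R, wval (gl8 s a b c d p t y) v = 1 := by
  unfold A8EnumA.R
  simp only [List.forall_mem_cons, List.not_mem_nil, false_implies, implies_true, and_true]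
  obtain ⟨y0, y1, y2, y3, y4, y5, y6⟩ := hy.rels p h
  refine ⟨?_,?_,?_,?_,?_,?_,?_,?_,?_,?_,?_,?_,?_,?_,?_,?_,?_,?_,?_,?_,?_,?_,?_,?_,?_,?_,?_,?_,?_,?_,?_,?_,?_,?_,?_,?_,?_,?_⟩
  · simpa [wval, val, gl8, gl8, gl, mul_assoc] using h.r0
  · simpa [wval, val, gl8, gl8, gl, mul_assoc] using h.r1
  · simpa [wval, val, gl8, gl8, gl, mul_assoc] using h.r2
  · simpa [wval, val, gl8, gl8, gl, mul_assoc] using h.r3
  · simpa [wval, val, gl8, gl8, gl, mul_assoc] using h.r4
  · simpa [wval, val, gl8, gl8, gl, mul_assoc] using h.r5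
  · simpa [wval, val, gl8, gl8, gl, mul_assoc] using h.r6
  · simpa [wval, val, gl8, gl8, gl, mul_assoc] using h.r7
  · simpa [wval, val, gl8, gl8, gl, mul_assoc] using h.r8
  · simpa [wval, val, gl8, gl8, gl, mul_assoc] using h.r9
  · simpa [wval, val, gl8, gl8, gl, mul_assoc] using h.r10
  · simpa [wval, val, gl8, gl8, gl, mul_assoc] using h.r11
  · simpa [wval, val, gl8, gl8, gl, mul_assoc] using h.r12
  · simpa [wval, val, gl8, gl8, gl, mul_assoc] using h.r13
  · simpa [wval, val, gl8, gl8, gl, mul_assoc] using h.r14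
  · simpa [wval, val, gl8, gl8, gl, mul_assoc] using h.r15
  · simpa [wval, val, gl8, gl8, gl, mul_assoc] using h.r16
  · simpa [wval, val, gl8, gl8, gl, mul_assoc] using h.r17
  · simpa [wval, val, gl8, gl8, gl, mul_assoc] using h.r18
  · simpa [wval, val, gl8, gl8, gl, mul_assoc] using h.r19
  · simpa [wval, val, gl8, gl8, gl, mul_assoc] using h.r20
  · simpa [wval, val, gl8, gl8, gl, mul_assoc] using h.r21
  · simpa [wval, val, gl8, gl8, gl, mul_assoc] using y0
  · simpa [wval, val, gl8, gl8, gl, mul_assoc] using y1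
  · simpa [wval, val, gl8, gl8, gl, mul_assoc] using y2
  · simpa [wval, val, gl8, gl8, gl, mul_assoc] using y3
  · simpa [wval, val, gl8, gl8, gl, mul_assoc] using y4
  · simpa [wval, val, gl8, gl8, gl, mul_assoc] using y5
  · simpa [wval, val, gl8, gl8, gl, mul_assoc] using y6
  · simpa [wval, val, gl8, gl8, gl, mul_assoc] using hp
  · simp [wval, val, gl8, gl8, gl]
  · simp [wval, val, gl8, gl8, gl]
  · simp [wval, val, gl8, gl8, gl]
  · simp [wval, val, gl8, gl8, gl]
  · simp [wval, val, gl8, gl8, gl]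
  · simp [wval, val, gl8, gl8, gl]
  · simp [wval, val, gl8, gl8, gl]
  · simp [wval, val, gl8, gl8, gl]

theorem hRB {s a b c d p t y : G} (h : Rel s a b c d p t) (hy : YRel s a b c d t y)
    (hp : p * y * p * y * p * y * p * y = 1) :
    ∀ v ∈ A8EnumB.R, wval (gl8 s a b c d p t y) v = 1 := by
  unfold A8EnumB.R
  simp only [List.forall_mem_cons, List.not_mem_nil, false_implies, implies_true, and_true]
  obtain ⟨y0, y1, y2, y3, y4, y5, y6⟩ := hy.rels p h
  refine ⟨?_,?_,?_,?_,?_,?_,?_,?_,?_,?_,?_,?_,?_,?_,?_,?_,?_,?_,?_,?_,?_,?_,?_,?_,?_,?_,?_,?_,?_,?_,?_,?_,?_,?_,?_,?_,?_,?_⟩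
  · simpa [wval, val, gl8, gl8, gl, mul_assoc] using h.r0
  · simpa [wval, val, gl8, gl8, gl, mul_assoc] using h.r1
  · simpa [wval, val, gl8, gl8, gl, mul_assoc] using h.r2
  · simpa [wval, val, gl8, gl8, gl, mul_assoc] using h.r3
  · simpa [wval, val, gl8, gl8, gl, mul_assoc] using h.r4
  · simpa [wval, val, gl8, gl8, gl, mul_assoc] using h.r5
  · simpa [wval, val, gl8, gl8, gl, mul_assoc] using h.r6
  · simpa [wval, val, gl8, gl8, gl, mul_assoc] using h.r7
  · simpa [wval, val, gl8, gl8, gl, mul_assoc] using h.r8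
  · simpa [wval, val, gl8, gl8, gl, mul_assoc] using h.r9
  · simpa [wval, val, gl8, gl8, gl, mul_assoc] using h.r10
  · simpa [wval, val, gl8, gl8, gl, mul_assoc] using h.r11
  · simpa [wval, val, gl8, gl8, gl, mul_assoc] using h.r12
  · simpa [wval, val, gl8, gl8, gl, mul_assoc] using h.r13
  · simpa [wval, val, gl8, gl8, gl, mul_assoc] using h.r14
  · simpa [wval, val, gl8, gl8, gl, mul_assoc] using h.r15
  · simpa [wval, val, gl8, gl8, gl, mul_assoc] using h.r16
  · simpa [wval, val, gl8, gl8, gl, mul_assoc] using h.r17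
  · simpa [wval, val, gl8, gl8, gl, mul_assoc] using h.r18
  · simpa [wval, val, gl8, gl8, gl, mul_assoc] using h.r19
  · simpa [wval, val, gl8, gl8, gl, mul_assoc] using h.r20
  · simpa [wval, val, gl8, gl8, gl, mul_assoc] using h.r21
  · simpa [wval, val, gl8, gl8, gl, mul_assoc] using y0
  · simpa [wval, val, gl8, gl8, gl, mul_assoc] using y1
  · simpa [wval, val, gl8, gl8, gl, mul_assoc] using y2
  · simpa [wval, val, gl8, gl8, gl, mul_assoc] using y3
  · simpa [wval, val, gl8, gl8, gl, mul_assoc] using y4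
  · simpa [wval, val, gl8, gl8, gl, mul_assoc] using y5
  · simpa [wval, val, gl8, gl8, gl, mul_assoc] using y6
  · simpa [wval, val, gl8, gl8, gl, mul_assoc] using hp
  · simp [wval, val, gl8, gl8, gl]
  · simp [wval, val, gl8, gl8, gl]
  · simp [wval, val, gl8, gl8, gl]
  · simp [wval, val, gl8, gl8, gl]
  · simp [wval, val, gl8, gl8, gl]
  · simp [wval, val, gl8, gl8, gl]
  · simp [wval, val, gl8, gl8, gl]
  · simp [wval, val, gl8, gl8, gl]

theorem Rel.swap {s a b c d p t : G} (h : Rel s a b c d p t) : Rel s c d a b p t := by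
  have si := inv_of_sq h.ss
  have ai := inv_of_sq h.aa
  have bi := inv_of_sq h.bb
  have ci := inv_of_sq h.cc
  have di := inv_of_sq h.dd
  refine ⟨h.ss, h.cc, h.dd, h.aa, h.bb, h.tt, h.r2, h.r3, h.r0, h.r1, h.r5, h.r4, ?_, ?_, ?_, ?_, h.r10, h.r11, h.r14, h.r15,
    h.r12, h.r13, h.r16, h.r17, h.r20, h.r21, h.r18, h.r19⟩
  · have := congrArg (fun x => x⁻¹) h.r6; simpa [ai, ci, mul_assoc] using this
  · have := congrArg (fun x => x⁻¹) h.r7; simpa [bi, di, mul_assoc] using this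
  · have h9 := h.r9
    have : c * b * c * b = s := by
      have h1 : b * c * b * c = s := by rw [← mul_left_inj s, h9, h.ss]
      have h2 := congrArg (fun x => x⁻¹) h1
      simpa [bi, ci, si, mul_assoc] using h2
    rw [this, h.ss]
  · have h9 := h.r8
    have : d * a * d * a = s := by
      have h1 : a * d * a * d = s := by rw [← mul_left_inj s, h9, h.ss]
      have h2 := congrArg (fun x => x⁻¹) h1
      simpa [ai, di, si, mul_assoc] using h2
    rw [this, h.ss]

theorem hRC {s a b c d p t y w : G} (h : Rel s a b c d p t) (hy : YRel s a b c d t y)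
    (hw : YRel s c d a b t w) (hp : p * y * p * y * p * y * p * y = 1) (hq : p * w * p * w * p * w * p * w = 1)
    (hyw : y * w * y⁻¹ * w⁻¹ = 1) :
    ∀ v ∈ A8EnumC.R, wval (gl9 s a b c d p t y w) v = 1 := by
  unfold A8EnumC.R
  simp only [List.forall_mem_cons, List.not_mem_nil, false_implies, implies_true, and_true]
  obtain ⟨y0, y1, y2, y3, y4, y5, y6⟩ := hy.rels p h
  obtain ⟨w0, w1, w2, w3, w4, w5, w6⟩ := hw.rels p (by exact Rel.swap h)
  refine ⟨?_,?_,?_,?_,?_,?_,?_,?_,?_,?_,?_,?_,?_,?_,?_,?_,?_,?_,?_,?_,?_,?_,?_,?_,?_,?_,?_,?_,?_,?_,?_,?_,?_,?_,?_,?_,?_,?_,?_,?_,?_,?_,?_,?_,?_,?_,?_,?_⟩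
  · simpa [wval, val, gl9, gl8, gl, mul_assoc] using h.r0
  · simpa [wval, val, gl9, gl8, gl, mul_assoc] using h.r1
  · simpa [wval, val, gl9, gl8, gl, mul_assoc] using h.r2
  · simpa [wval, val, gl9, gl8, gl, mul_assoc] using h.r3
  · simpa [wval, val, gl9, gl8, gl, mul_assoc] using h.r4
  · simpa [wval, val, gl9, gl8, gl, mul_assoc] using h.r5
  · simpa [wval, val, gl9, gl8, gl, mul_assoc] using h.r6
  · simpa [wval, val, gl9, gl8, gl, mul_assoc] using h.r7
  · simpa [wval, val, gl9, gl8, gl, mul_assoc] using h.r8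
  · simpa [wval, val, gl9, gl8, gl, mul_assoc] using h.r9
  · simpa [wval, val, gl9, gl8, gl, mul_assoc] using h.r10
  · simpa [wval, val, gl9, gl8, gl, mul_assoc] using h.r11
  · simpa [wval, val, gl9, gl8, gl, mul_assoc] using h.r12
  · simpa [wval, val, gl9, gl8, gl, mul_assoc] using h.r13
  · simpa [wval, val, gl9, gl8, gl, mul_assoc] using h.r14
  · simpa [wval, val, gl9, gl8, gl, mul_assoc] using h.r15
  · simpa [wval, val, gl9, gl8, gl, mul_assoc] using h.r16
  · simpa [wval, val, gl9, gl8, gl, mul_assoc] using h.r17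
  · simpa [wval, val, gl9, gl8, gl, mul_assoc] using h.r18
  · simpa [wval, val, gl9, gl8, gl, mul_assoc] using h.r19
  · simpa [wval, val, gl9, gl8, gl, mul_assoc] using h.r20
  · simpa [wval, val, gl9, gl8, gl, mul_assoc] using h.r21
  · simpa [wval, val, gl9, gl8, gl, mul_assoc] using y0
  · simpa [wval, val, gl9, gl8, gl, mul_assoc] using y1
  · simpa [wval, val, gl9, gl8, gl, mul_assoc] using y2
  · simpa [wval, val, gl9, gl8, gl, mul_assoc] using y3
  · simpa [wval, val, gl9, gl8, gl, mul_assoc] using y4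
  · simpa [wval, val, gl9, gl8, gl, mul_assoc] using y5
  · simpa [wval, val, gl9, gl8, gl, mul_assoc] using y6
  · simpa [wval, val, gl9, gl8, gl, mul_assoc] using w0
  · simpa [wval, val, gl9, gl8, gl, mul_assoc] using w1
  · simpa [wval, val, gl9, gl8, gl, mul_assoc] using w2
  · simpa [wval, val, gl9, gl8, gl, mul_assoc] using w3
  · simpa [wval, val, gl9, gl8, gl, mul_assoc] using w4
  · simpa [wval, val, gl9, gl8, gl, mul_assoc] using w5
  · simpa [wval, val, gl9, gl8, gl, mul_assoc] using w6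
  · simpa [wval, val, gl9, gl8, gl, mul_assoc] using hp
  · simpa [wval, val, gl9, gl8, gl, mul_assoc] using hq
  · simpa [wval, val, gl9, gl8, gl, mul_assoc] using hyw
  · simp [wval, val, gl9, gl8, gl]
  · simp [wval, val, gl9, gl8, gl]
  · simp [wval, val, gl9, gl8, gl]
  · simp [wval, val, gl9, gl8, gl]
  · simp [wval, val, gl9, gl8, gl]
  · simp [wval, val, gl9, gl8, gl]
  · simp [wval, val, gl9, gl8, gl]
  · simp [wval, val, gl9, gl8, gl]
  · simp [wval, val, gl9, gl8, gl]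

end defs

end Cfsg.Agent.Lib.M12A
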