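import Cfsg.Agent.Lib.M12TA8

set_option autoImplicit false
set_option linter.all false
set_option maxRecDepth 100000

/-! Order bounds and the relation of order 4. -/

namespace Cfsg.Agent.Lib.M12A

open Cfsg.Agent.Lib.H10Enum Cfsg.Agent.Lib.M12Tab Cfsg.Agent.Lib.M12DataA Cfsg.Agent.Lib.JTw Cfsg.Agent.Lib.J2Pres
open Cfsg.Agent.Lib.M12B (allB allB_spec exB exB_spec memB memB_iff)

section defs
variable {G : Type*} [Group G] {s a b c d p t y w : G}

theorem Rel.v_iv (h : Rel s a b c d p t) {i : ℕ} (hi : i < 192) : v s a b c d p t (iv i) = (v s a b c d p t i)⁻¹ := by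
  obtain ⟨h1, h2⟩ := iv_spec hi
  have h3 : v s a b c d p t (mm i (iv i)) = v s a b c d p t i * v s a b c d p t (iv i) := (h.table i hi (iv i) h1).2
  rw [h2, Rel.v_zero] at h3
  exact (inv_eq_of_mul_eq_one_right h3.symm).symm

theorem Rel.v_mm (h : Rel s a b c d p t) {i j : ℕ} (hi : i < 192) (hj : j < 192) :
    v s a b c d p t (mm i j) = v s a b c d p t i * v s a b c d p t j := (h.table i hi j hj).2

/-- the subgroup given by a list of nodes -/
theorem Rel.exists_sub (h : Rel s a b c d p t) (L : List ℕ) (h0 : 0 ∈ L) (hlt : ∀ i ∈ L, i < 192)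
    (hmm : ∀ i ∈ L, ∀ j ∈ L, mm i j ∈ L) (hiv : ∀ i ∈ L, iv i ∈ L) :
    ∃ K : Subgroup G, Finite K ∧ Nat.card K ≤ L.length ∧ ∀ i ∈ L, v s a b c d p t i ∈ K := by
  classical
  let K : Subgroup G :=
    { carrier := {x | ∃ i ∈ L, x = v s a b c d p t i}
      one_mem' := ⟨0, h0, Rel.v_zero.symm⟩
      mul_mem' := by
        rintro x y ⟨i, hi, rfl⟩ ⟨j, hj, rfl⟩
        exact ⟨mm i j, hmm i hi j hj, (h.v_mm (hlt i hi) (hlt j hj)).symm⟩
      inv_mem' := by
        rintro x ⟨i, hi, rfl⟩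
        exact ⟨iv i, hiv i hi, (h.v_iv (hlt i hi)).symm⟩ }
  have hK : (K : Set G) = ((L.toFinset.image (v s a b c d p t) : Finset G) : Set G) := by
    ext x
    simp only [Finset.coe_image, List.coe_toFinset, Set.mem_image, Set.mem_setOf_eq]
    constructor
    · rintro ⟨i, hi, rfl⟩; exact ⟨i, hi, rfl⟩
    · rintro ⟨i, hi, rfl⟩; exact ⟨i, hi, rfl⟩
  have hf : (K : Set G).Finite := by rw [hK]; exact Finset.finite_toSet _
  refine ⟨K, hf, ?_, fun i hi => ⟨i, hi, rfl⟩⟩
  have : Nat.card K = (K : Set G).ncard := Nat.card_coe_set_eq _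
  rw [this, hK, Set.ncard_coe_finset]
  exact Finset.card_image_le.trans (List.toFinset_card_le L)

def H7 (s a b c d p t : G) : Subgroup G := Subgroup.closure {x | ∃ i ∈ [1, 2, 3, 4, 5, 6, 7], x = gl s a b c d p t i}
def H8 (s a b c d p t y : G) : Subgroup G :=
  Subgroup.closure {x | ∃ i ∈ [1, 2, 3, 4, 5, 6, 7, 8], x = gl8 s a b c d p t y i}
def H9 (s a b c d p t y w : G) : Subgroup G :=
  Subgroup.closure {x | ∃ i ∈ [1, 2, 3, 4, 5, 6, 7, 8, 9], x = gl9 s a b c d p t y w i}

theorem g7_mem : ∀ i, gl s a b c d p t i ∈ H7 s a b c d p t := by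
  intro i
  by_cases hi : i ∈ [1, 2, 3, 4, 5, 6, 7]
  · exact Subgroup.subset_closure ⟨i, hi, rfl⟩
  · match i with
    | 0 => exact Subgroup.one_mem _
    | 1 | 2 | 3 | 4 | 5 | 6 | 7 => exact absurd (by decide) hi
    | _ + 8 => exact Subgroup.one_mem _

theorem g8_mem : ∀ i, gl8 s a b c d p t y i ∈ H8 s a b c d p t y := by
  intro i
  by_cases hi : i ∈ [1, 2, 3, 4, 5, 6, 7, 8]
  · exact Subgroup.subset_closure ⟨i, hi, rfl⟩
  · match i with
    | 0 => exact Subgroup.one_mem _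
    | 1 | 2 | 3 | 4 | 5 | 6 | 7 | 8 => exact absurd (by decide) hi
    | _ + 9 => exact Subgroup.one_mem _

theorem g9_mem : ∀ i, gl9 s a b c d p t y w i ∈ H9 s a b c d p t y w := by
  intro i
  by_cases hi : i ∈ [1, 2, 3, 4, 5, 6, 7, 8, 9]
  · exact Subgroup.subset_closure ⟨i, hi, rfl⟩
  · match i with
    | 0 => exact Subgroup.one_mem _
    | 1 | 2 | 3 | 4 | 5 | 6 | 7 | 8 | 9 => exact absurd (by decide) hi
    | _ + 10 => exact Subgroup.one_mem _

theorem H7_le_H8 : H7 s a b c d p t ≤ H8 s a b c d p t y := by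
  rw [H7, Subgroup.closure_le]
  rintro x ⟨i, hi, rfl⟩
  simp only [List.mem_cons, List.not_mem_nil, or_false] at hi
  rcases hi with rfl | rfl | rfl | rfl | rfl | rfl | rfl
  exacts [g8_mem 1, g8_mem 2, g8_mem 3, g8_mem 4, g8_mem 5, g8_mem 6, g8_mem 7]

theorem H8_le_H9 : H8 s a b c d p t y ≤ H9 s a b c d p t y w := by
  rw [H8, Subgroup.closure_le]
  rintro x ⟨i, hi, rfl⟩
  simp only [List.mem_cons, List.not_mem_nil, or_false] at hi
  rcases hi with rfl | rfl | rfl | rfl | rfl | rfl | rfl | rfl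
  exacts [g9_mem 1, g9_mem 2, g9_mem 3, g9_mem 4, g9_mem 5, g9_mem 6, g9_mem 7, g9_mem 8]

theorem Rel.bound7 (h : Rel s a b c d p t) : Finite (H7 s a b c d p t) ∧ Nat.card (H7 s a b c d p t) ≤ 192 := by
  obtain ⟨K, hK1, hK2, hK3⟩ := h.exists_sub (List.range 192) (by simp) (fun i hi => List.mem_range.1 hi)
    (fun i hi j hj => List.mem_range.2 (h.table i (List.mem_range.1 hi) j (List.mem_range.1 hj)).1)
    (fun i hi => List.mem_range.2 (iv_spec (List.mem_range.1 hi)).1)
  have hle : H7 s a b c d p t ≤ K := by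
    rw [H7, Subgroup.closure_le]
    rintro x ⟨i, hi, rfl⟩
    obtain ⟨e1, e2, e3, e4, e5, e6, e7⟩ := h.v_gen
    simp only [List.mem_cons, List.not_mem_nil, or_false] at hi
    rcases hi with rfl | rfl | rfl | rfl | rfl | rfl | rfl
    · show s ∈ K; rw [← e1]; exact hK3 1 (by simp)
    · show a ∈ K; rw [← e2]; exact hK3 2 (by simp)
    · show b ∈ K; rw [← e3]; exact hK3 3 (by simp)
    · show c ∈ K; rw [← e4]; exact hK3 4 (by simp)
    · show d ∈ K; rw [← e5]; exact hK3 5 (by simp)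
    · show p ∈ K; rw [← e6]; exact hK3 6 (by simp)
    · show t ∈ K; rw [← e7]; exact hK3 7 (by simp)
  have hf : Finite (H7 s a b c d p t) := Finite.of_injective _ (Subgroup.inclusion_injective hle)
  refine ⟨hf, ?_⟩
  have := Nat.card_le_card_of_injective _ (Subgroup.inclusion_injective hle)
  rw [List.length_range] at hK2
  omega

theorem Rel.bound8 (h : Rel s a b c d p t) (hy : YRel s a b c d t y) (hp : p * y * p * y * p * y * p * y = 1) :
    Finite (H8 s a b c d p t y) ∧ Nat.card (H8 s a b c d p t y) ≤ 7 * 192 := by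
  obtain ⟨hf, hc⟩ := h.bound7
  refine enum_sub (g := gl8 s a b c d p t y) [1, 2, 3, 4, 5, 6, 7, 8] (fun c => if c = 1 then A8EnumB.E1 else
    if c = 2 then A8EnumB.E2 else if c = 3 then A8EnumB.E3 else if c = 4 then A8EnumB.E4 else if c = 5 then A8EnumB.E5 else
    if c = 6 then A8EnumB.E6 else if c = 7 then A8EnumB.E7 else A8EnumB.E8) rfl (hiv8 h) (hRB h hy hp)
    (H8 s a b c d p t y) (H7 s a b c d p t) g8_mem ?_ A8EnumB.ok (by norm_num) le_rfl ?_ H7_le_H8 hf hc
  · intro i hi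
    simp only [List.mem_cons, List.not_mem_nil, or_false] at hi
    rcases hi with rfl | rfl | rfl | rfl | rfl | rfl | rfl
    exacts [g7_mem 1, g7_mem 2, g7_mem 3, g7_mem 4, g7_mem 5, g7_mem 6, g7_mem 7]
  · intro i hi
    simp only [List.mem_cons, List.not_mem_nil, or_false] at hi
    rcases hi with rfl | rfl | rfl | rfl | rfl | rfl | rfl | rfl
    · exact A8EnumB.cl1
    · exact A8EnumB.cl2
    · exact A8EnumB.cl3
    · exact A8EnumB.cl4
    · exact A8EnumB.cl5
    · exact A8EnumB.cl6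
    · exact A8EnumB.cl7
    · exact A8EnumB.cl8

theorem Rel.bound9 (h : Rel s a b c d p t) (hy : YRel s a b c d t y) (hw : YRel s c d a b t w)
    (hp : p * y * p * y * p * y * p * y = 1) (hq : p * w * p * w * p * w * p * w = 1) (hyw : y * w * y⁻¹ * w⁻¹ = 1) :
    Finite (H9 s a b c d p t y w) ∧ Nat.card (H9 s a b c d p t y w) ≤ 15 * (7 * 192) := by
  obtain ⟨hf, hc⟩ := h.bound8 hy hp
  refine enum_sub (g := gl9 s a b c d p t y w) [1, 2, 3, 4, 5, 6, 7, 8, 9] (fun c => if c = 1 then A8EnumC.E1 else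
    if c = 2 then A8EnumC.E2 else if c = 3 then A8EnumC.E3 else if c = 4 then A8EnumC.E4 else if c = 5 then A8EnumC.E5 else
    if c = 6 then A8EnumC.E6 else if c = 7 then A8EnumC.E7 else if c = 8 then A8EnumC.E8 else A8EnumC.E9) rfl (hiv9 h)
    (hRC h hy hw hp hq hyw)
    (H9 s a b c d p t y w) (H8 s a b c d p t y) g9_mem ?_ A8EnumC.ok (by norm_num) le_rfl ?_ H8_le_H9 hf hc
  · intro i hi
    simp only [List.mem_cons, List.not_mem_nil, or_false] at hi
    rcases hi with rfl | rfl | rfl | rfl | rfl | rfl | rfl | rfl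
    exacts [g8_mem 1, g8_mem 2, g8_mem 3, g8_mem 4, g8_mem 5, g8_mem 6, g8_mem 7, g8_mem 8]
  · intro i hi
    simp only [List.mem_cons, List.not_mem_nil, or_false] at hi
    rcases hi with rfl | rfl | rfl | rfl | rfl | rfl | rfl | rfl | rfl
    · exact A8EnumC.cl1
    · exact A8EnumC.cl2
    · exact A8EnumC.cl3
    · exact A8EnumC.cl4
    · exact A8EnumC.cl5
    · exact A8EnumC.cl6
    · exact A8EnumC.cl7
    · exact A8EnumC.cl8
    · exact A8EnumC.cl9

def L24 : List ℕ := [0, 4, 5, 6, 7, 24, 25, 26, 28, 29, 31, 32, 33, 35, 36, 85, 86, 88, 92, 93, 95, 101, 102, 107]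
theorem L24_mm : (L24.all fun i => L24.all fun j => memB (mm i j) L24) = true := by decide +kernel
theorem L24_iv : (L24.all fun i => memB (iv i) L24) = true := by decide +kernel
theorem L24_lt : (L24.all fun i => Nat.blt i 192) = true := by decide +kernel

theorem Rel.bound24 (h : Rel s a b c d p t) (hy : YRel s a b c d t y)
    (hp : p * y * p * y * p * y * p * y * (s * a * b) = 1) :
    Finite (H8 s a b c d p t y) ∧ Nat.card (H8 s a b c d p t y) ≤ 7 * 24 := by
  obtain ⟨K, hK1, hK2, hK3⟩ := h.exists_sub L24 (by decide)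
    (fun i hi => Nat.lt_of_lt_of_le (Nat.lt_succ_self _) (Nat.le_of_ble_eq_true (List.all_eq_true.1 L24_lt i hi)))
    (fun i hi j hj => (memB_iff _).1 (List.all_eq_true.1 (List.all_eq_true.1 L24_mm i hi) j hj))
    (fun i hi => (memB_iff _).1 (List.all_eq_true.1 L24_iv i hi))
  obtain ⟨e1, e2, e3, e4, e5, e6, e7⟩ := h.v_gen
  have k4 : c ∈ K := by rw [← e4]; exact hK3 4 (by decide)
  have k5 : d ∈ K := by rw [← e5]; exact hK3 5 (by decide)
  have k6 : p ∈ K := by rw [← e6]; exact hK3 6 (by decide)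
  have k7 : t ∈ K := by rw [← e7]; exact hK3 7 (by decide)
  have hf : Finite ↥(K ⊓ H8 s a b c d p t y) := Finite.of_injective _ (Subgroup.inclusion_injective inf_le_left)
  have hc : Nat.card ↥(K ⊓ H8 s a b c d p t y) ≤ 24 :=
    (Nat.card_le_card_of_injective _ (Subgroup.inclusion_injective inf_le_left)).trans hK2
  refine enum_sub (g := gl8 s a b c d p t y) [1, 2, 3, 4, 5, 6, 7, 8] (fun c => if c = 1 then A8EnumA.E1 else
    if c = 2 then A8EnumA.E2 else if c = 3 then A8EnumA.E3 else if c = 4 then A8EnumA.E4 else if c = 5 then A8EnumA.E5 else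
    if c = 6 then A8EnumA.E6 else if c = 7 then A8EnumA.E7 else A8EnumA.E8) rfl (hiv8 h) (hRA h hy hp)
    (H8 s a b c d p t y) (K ⊓ H8 s a b c d p t y) g8_mem ?_ A8EnumA.ok (by norm_num) le_rfl ?_ inf_le_right hf hc
  · intro i hi
    simp only [List.mem_cons, List.not_mem_nil, or_false] at hi
    rcases hi with rfl | rfl | rfl | rfl
    · exact ⟨k4, g8_mem 4⟩
    · exact ⟨k5, g8_mem 5⟩
    · exact ⟨k6, g8_mem 6⟩
    · exact ⟨k7, g8_mem 7⟩
  · intro i hi
    simp only [List.mem_cons, List.not_mem_nil, or_false] at hi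
    rcases hi with rfl | rfl | rfl | rfl | rfl | rfl | rfl | rfl
    · exact A8EnumA.cl1
    · exact A8EnumA.cl2
    · exact A8EnumA.cl3
    · exact A8EnumA.cl4
    · exact A8EnumA.cl5
    · exact A8EnumA.cl6
    · exact A8EnumA.cl7
    · exact A8EnumA.cl8

/-- all elements are in the subgroup generated by the letters -/
theorem reach_ok : allB (fun k => Nat.beq k 0 || exB (fun j => Nat.blt j k && [1, 2, 3, 4, 5, 6, 7].any
    (fun i => Nat.beq (ent tb i j) k)) 192) 192 = true := by decide +kernel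

theorem Rel.v_mem (h : Rel s a b c d p t) : ∀ k, k < 192 → v s a b c d p t k ∈ H7 s a b c d p t := by
  intro k
  induction k using Nat.strong_induction_on with
  | _ k ih =>
    intro hk
    have h1 := allB_spec 192 reach_ok k hk
    rw [Bool.or_eq_true] at h1
    rcases h1 with h1 | h1
    · rw [Nat.eq_of_beq_eq_true h1, Rel.v_zero]; exact Subgroup.one_mem _
    · obtain ⟨j, hj, h2⟩ := exB_spec 192 h1
      rw [Bool.and_eq_true, List.any_eq_true] at h2
      obtain ⟨h2, i, hi, h3⟩ := h2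
      have hjk : j < k := Nat.lt_of_lt_of_le (Nat.lt_succ_self _) (Nat.le_of_ble_eq_true h2)
      have hi' : 1 ≤ i ∧ i < 8 := by
        simp only [List.mem_cons, List.not_mem_nil, or_false] at hi
        omega
      have h4 := (h.step i hi'.1 hi'.2 j hj).2
      rw [Nat.eq_of_beq_eq_true h3] at h4
      rw [h4]
      exact Subgroup.mul_mem _ (g7_mem i) (ih j hjk hj)

end defs

end Cfsg.Agent.Lib.M12A
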