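import Cfsg.Agent.Lib.M12TA9

set_option autoImplicit false
set_option linter.all false
set_option maxRecDepth 100000

/-! The relation `(py)^4 = 1`. -/

namespace Cfsg.Agent.Lib.M12A

open Cfsg.Agent.Lib.H10Enum Cfsg.Agent.Lib.M12Tab Cfsg.Agent.Lib.M12DataA Cfsg.Agent.Lib.JTw Cfsg.Agent.Lib.J2Pres
open Cfsg.Agent.Lib.M12B (allB allB_spec exB exB_spec memB memB_iff)

namespace DA

variable {G : Type*} [Group G] (D : DA G)

theorem Y.yrel {D : DA G} {y : G} (h : D.Y y) : YRel D.s D.a D.b D.c D.d D.t y := ⟨h.y3, h.ys, h.ya, h.yb, h.yd, h.yc, h.yt⟩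

theorem Y.wrel {D : DA G} {w : G} (h : D.sw.Y w) : YRel D.s D.c D.d D.a D.b D.t w := by
  have := h.yrel
  rw [sw_s, sw_a, sw_b, sw_c, sw_d, sw_t] at this
  exact this

theorem card_ge (K : Subgroup G) [Finite K] (hK : ∀ k < 192, D.v k ∈ K) : 192 ≤ Nat.card K := by
  let f : Fin 192 → K := fun i => ⟨D.v i, hK i i.2⟩
  have hf : Function.Injective f := fun i j h => Fin.ext (D.inj i.2 j.2 (congrArg Subtype.val h))
  have := Nat.card_le_card_of_injective f hf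
  simpa using this

theorem v_mem7 {k : ℕ} (hk : k < 192) : D.v k ∈ H7 D.s D.a D.b D.c D.d D.p D.t := D.rel.v_mem k hk

def fp (k : ℕ) : ℕ := cj 6 (ph k)
theorem fp_ok : (Ea.all fun k => memB (fp k) Ea && Nat.beq (fp (fp (fp (fp k)))) k &&
    (Nat.beq k 0 || Nat.beq k 37 || !Nat.beq (fp k) k)) = true := by decide +kernel

theorem Y.py4 {D : DA G} {y : G} (h : D.Y y) : D.p * y * D.p * y * D.p * y * D.p * y = 1 := by
  have key : ∀ k ∈ Ea, (D.p * y) * D.v k * (D.p * y)⁻¹ = D.v (fp k) ∧ fp k ∈ Ea := by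
    intro k hk
    have h0 := List.all_eq_true.1 fp_ok k hk
    rw [Bool.and_eq_true, Bool.and_eq_true] at h0
    refine ⟨?_, (memB_iff _).1 h0.1.1⟩
    have h1 := D.ph_spec h.ys h.ya h.yb hk
    rw [cj_cj, h1, ← D.v6, ← D.v_cj (by norm_num) (Ea_lt (ph_mem hk))]
    rfl
  obtain ⟨u, hu⟩ : ∃ u, u = D.p * y := ⟨_, rfl⟩
  rw [← hu] at key
  have hw : D.p * y * D.p * y * D.p * y * D.p * y = u * (u * (u * u)) := by rw [hu]; simp only [mul_assoc]
  rw [hw]
  have h4 : ∀ k ∈ Ea, (u * (u * (u * u))) * D.v k * (u * (u * (u * u)))⁻¹ = D.v k := by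
    intro k hk
    obtain ⟨e1, m1⟩ := key k hk
    obtain ⟨e2, m2⟩ := key _ m1
    obtain ⟨e3, m3⟩ := key _ m2
    obtain ⟨e4, m4⟩ := key _ m3
    rw [cj_cj, cj_cj, cj_cj, e1, e2, e3, e4]
    have h0 := List.all_eq_true.1 fp_ok k hk
    rw [Bool.and_eq_true, Bool.and_eq_true] at h0
    rw [Nat.eq_of_beq_eq_true h0.1.2]
  have c1 := h4 1 (by decide)
  have c2 := h4 2 (by decide)
  have c3 := h4 3 (by decide)
  rw [D.v1] at c1
  rw [D.v2] at c2
  rw [D.v3] at c3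
  obtain ⟨k, hk, hku⟩ := D.mem_Ea (cj_eq_self.1 c1) (cj_eq_self.1 c2) (cj_eq_self.1 c3)
  obtain ⟨e1, m1⟩ := key k hk
  have hfix : fp k = k := by
    apply D.inj (Ea_lt m1) (Ea_lt hk)
    rw [← e1, ← hku]; group
  have h0 := List.all_eq_true.1 fp_ok k hk
  rw [Bool.and_eq_true, Bool.and_eq_true, hfix, Nat.beq_refl, Bool.or_eq_true, Bool.or_eq_true] at h0
  rcases h0.2 with (h1 | h1) | h1
  · rw [hku, Nat.eq_of_beq_eq_true h1, D.v0]
  · exfalso
    have hk37 := Nat.eq_of_beq_eq_true h1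
    have e37 : D.v 37 = D.s * D.a * D.b := by
      rw [D.w2 8 3 37 (by decide) (by decide) (by decide +kernel), D.v8, D.v3]
    have hp : D.p * y * D.p * y * D.p * y * D.p * y * (D.s * D.a * D.b) = 1 := by
      rw [hw, hku, hk37, e37, ← e37]
      exact (D.Ea_comm (k := 37) (by decide)).2.2.2
    obtain ⟨hf, hc⟩ := D.rel.bound24 h.yrel hp
    have := D.card_ge _ (fun k hk => H7_le_H8 (y := y) (D.v_mem7 hk))
    omega
  · exact absurd h1 (by decide)

theorem Y.pw4 {D : DA G} {w : G} (h : D.sw.Y w) : D.p * w * D.p * w * D.p * w * D.p * w = 1 := by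
  have := h.py4
  rw [sw_p] at this
  exact this

end DA

end Cfsg.Agent.Lib.M12A
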