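import Cfsg.Agent.Lib.M12TB1

set_option autoImplicit false
set_option linter.all false
set_option maxRecDepth 100000

/-! The commutator of `y` and `w`. -/

namespace Cfsg.Agent.Lib.M12A

open Cfsg.Agent.Lib.H10Enum Cfsg.Agent.Lib.M12Tab Cfsg.Agent.Lib.M12DataA Cfsg.Agent.Lib.JTw Cfsg.Agent.Lib.J2Pres
open Cfsg.Agent.Lib.M12B (allB allB_spec exB exB_spec memB memB_iff)

def An : List ℕ := [0, 1, 2, 4, 7, 8, 10, 13, 15, 18, 26, 38, 40, 46, 61, 109]
def fyA : ℕ → ℕ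
  | 1 => 2
  | 2 => 8
  | 4 => 7
  | 7 => 26
  | 8 => 1
  | 10 => 18
  | 13 => 61
  | 15 => 40
  | 18 => 109
  | 26 => 4
  | 38 => 13
  | 40 => 46
  | 46 => 15
  | 61 => 38
  | 109 => 10
  | _ => 0

def fwA : ℕ → ℕ
  | 1 => 4
  | 2 => 7
  | 4 => 10
  | 7 => 18
  | 8 => 26
  | 10 => 1
  | 13 => 61
  | 15 => 46
  | 18 => 2
  | 26 => 109
  | 38 => 13
  | 40 => 15
  | 46 => 40
  | 61 => 38
  | 109 => 8
  | _ => 0

def decA : ℕ → List ℕ
  | 1 => [1]
  | 2 => [2]
  | 4 => [4]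
  | 7 => [7]
  | 8 => [1, 2]
  | 10 => [1, 4]
  | 13 => [1, 7]
  | 15 => [2, 4]
  | 18 => [2, 7]
  | 26 => [4, 7]
  | 38 => [1, 2, 4]
  | 40 => [1, 2, 7]
  | 46 => [1, 4, 7]
  | 61 => [2, 4, 7]
  | 109 => [1, 2, 4, 7]
  | _ => []

theorem dec_ok : (An.all fun k => Nat.beq (pn (decA k)) k && ((decA k).all fun i => Nat.blt i 192) &&
    Nat.beq (pn ((decA k).map fyA)) (fyA k) && (((decA k).map fyA).all fun i => Nat.blt i 192) &&
    Nat.beq (pn ((decA k).map fwA)) (fwA k) && (((decA k).map fwA).all fun i => Nat.blt i 192) &&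
    ((decA k).all fun i => memB i [1, 2, 4, 7])) = true := by decide +kernel

theorem An_ok : allB (fun j => cond (Nat.beq (mm j 2) (mm 2 j) && Nat.beq (mm j 4) (mm 4 j) && Nat.beq (mm j 7) (mm 7 j))
    (memB j An) true) 192 = true := by decide +kernel
theorem An_lt : (An.all fun i => Nat.blt i 192) = true := by decide +kernel
theorem An_lt' {k : ℕ} (hk : k ∈ An) : k < 192 :=
  Nat.lt_of_lt_of_le (Nat.lt_succ_self _) (Nat.le_of_ble_eq_true (List.all_eq_true.1 An_lt k hk))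
theorem An_sq : (An.all fun i => Nat.beq (mm i i) 0 && memB (cj 5 i) An && memB (cj 3 i) An && memB (fyA i) An && memB (fwA i) An &&
    Nat.beq (fyA (fwA i)) (fwA (fyA i))) = true := by decide +kernel
theorem An_sol : (An.all fun j => cond (Nat.beq (fyA (cj 5 j)) j && Nat.beq (fwA (cj 3 j)) j) (Nat.beq j 0 || Nat.beq j 109) true) = true := by
  decide +kernel

namespace DA

variable {G : Type*} [Group G] (D : DA G)

theorem act_A {g : G} (f : ℕ → ℕ) (h : ∀ i ∈ [1, 2, 4, 7], g * D.v i * g⁻¹ = D.v (f i)) (L : List ℕ)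
    (hL : (L.all fun i => memB i [1, 2, 4, 7]) = true) : List.Forall₂ (fun i j => g * D.v i * g⁻¹ = D.v j) L (L.map f) := by
  induction L with
  | nil => exact .nil
  | cons i L ih =>
    rw [List.all_cons, Bool.and_eq_true] at hL
    exact .cons (h i ((memB_iff _).1 hL.1)) (ih hL.2)

theorem Y.actA {D : DA G} {y : G} (h : D.Y y) {k : ℕ} (hk : k ∈ An) : y * D.v k * y⁻¹ = D.v (fyA k) := by
  have h0 := List.all_eq_true.1 dec_ok k hk
  simp only [Bool.and_eq_true] at h0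
  obtain ⟨⟨⟨⟨⟨⟨a1, a2⟩, a3⟩, a4⟩, a5⟩, a6⟩, a7⟩ := h0
  refine D.cv (decA k) ((decA k).map fyA) (D.act_A fyA ?_ _ a7) a2 a4 (Nat.eq_of_beq_eq_true a1) (Nat.eq_of_beq_eq_true a3)
  intro i hi
  simp only [List.mem_cons, List.not_mem_nil, or_false] at hi
  rcases hi with rfl | rfl | rfl | rfl
  exacts [h.y1, h.y2, h.y4, h.y7]

theorem Y.actW {D : DA G} {w : G} (h : D.sw.Y w) {k : ℕ} (hk : k ∈ An) : w * D.v k * w⁻¹ = D.v (fwA k) := by
  have h0 := List.all_eq_true.1 dec_ok k hk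
  simp only [Bool.and_eq_true] at h0
  obtain ⟨⟨⟨⟨⟨⟨a1, a2⟩, a3⟩, a4⟩, a5⟩, a6⟩, a7⟩ := h0
  refine D.cv (decA k) ((decA k).map fwA) (D.act_A fwA ?_ _ a7) a2 a6 (Nat.eq_of_beq_eq_true a1) (Nat.eq_of_beq_eq_true a5)
  intro i hi
  simp only [List.mem_cons, List.not_mem_nil, or_false] at hi
  rcases hi with rfl | rfl | rfl | rfl
  exacts [h.w1, h.w2, h.w4, h.w7]

theorem exists_comm {y w : G} (hy : D.Y y) (hw : D.sw.Y w) : ∃ y', D.Y y' ∧ y' * w * y'⁻¹ * w⁻¹ = 1 := by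
  have sq : ∀ k ∈ An, mm k k = 0 ∧ cj 5 k ∈ An ∧ cj 3 k ∈ An ∧ fyA k ∈ An ∧ fwA k ∈ An ∧ fyA (fwA k) = fwA (fyA k) := by
    intro k hk
    have h0 := List.all_eq_true.1 An_sq k hk
    simp only [Bool.and_eq_true] at h0
    obtain ⟨⟨⟨⟨⟨b1, b2⟩, b3⟩, b4⟩, b5⟩, b6⟩ := h0
    exact ⟨Nat.eq_of_beq_eq_true b1, (memB_iff _).1 b2, (memB_iff _).1 b3, (memB_iff _).1 b4, (memB_iff _).1 b5,
      Nat.eq_of_beq_eq_true b6⟩
  obtain ⟨e, he⟩ : ∃ e, e = y * w * y⁻¹ * w⁻¹ := ⟨_, rfl⟩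
  have hyw : y * w = e * w * y := by rw [he]; group
  have hcomm : ∀ k ∈ An, e * D.v k * e⁻¹ = D.v k := by
    intro k hk
    -- write `k = f_w (f_y k')`
    have h1 : ∃ k' ∈ An, fwA (fyA k') = k := by
      have : (An.all fun k => An.any fun k' => Nat.beq (fwA (fyA k')) k) = true := by decide +kernel
      have h2 := List.all_eq_true.1 this k hk
      rw [List.any_eq_true] at h2
      obtain ⟨k', hk', h3⟩ := h2
      exact ⟨k', hk', Nat.eq_of_beq_eq_true h3⟩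
    obtain ⟨k', hk', rfl⟩ := h1
    obtain ⟨-, -, -, m1, m2, m3⟩ := sq k' hk'
    have h2 : (y * w) * D.v k' * (y * w)⁻¹ = D.v (fwA (fyA k')) := by
      rw [cj_cj, hw.actW hk', hy.actA m2, m3]
    have h3 : (w * y) * D.v k' * (w * y)⁻¹ = D.v (fwA (fyA k')) := by
      rw [cj_cj, hy.actA hk', hw.actW m1]
    calc e * D.v (fwA (fyA k')) * e⁻¹ = e * ((w * y) * D.v k' * (w * y)⁻¹) * e⁻¹ := by rw [h3]
      _ = (e * w * y) * D.v k' * (e * w * y)⁻¹ := by group
      _ = D.v (fwA (fyA k')) := by rw [← hyw, h2]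
  have c1 := cj_eq_self.1 (hcomm 1 (by decide))
  have c2 := cj_eq_self.1 (hcomm 2 (by decide))
  have c4 := cj_eq_self.1 (hcomm 4 (by decide))
  have c7 := cj_eq_self.1 (hcomm 7 (by decide))
  rw [D.v1] at c1
  obtain ⟨j, hj, hje⟩ := D.exists_v c1
  rw [hje] at c2 c4 c7
  have hjA : j ∈ An := by
    have h := allB_spec 192 An_ok j hj
    rw [(D.comm_iff hj (by norm_num)).1 c2, (D.comm_iff hj (by norm_num)).1 c4, (D.comm_iff hj (by norm_num)).1 c7] at h
    simp only [Nat.beq_refl, Bool.and_self, cond_true] at h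
    exact (memB_iff _).1 h
  have einv : e⁻¹ = e := by
    apply inv_eq_of_mul_eq_one_right
    rw [hje, ← D.v_mm hj hj, (sq j hjA).1, D.v0]
  have hdd := D.rel.dd
  have hbb := D.rel.bb
  have dinv : D.d⁻¹ = D.d := inv_eq_of_mul_eq_one_right hdd
  have binv : D.b⁻¹ = D.b := inv_eq_of_mul_eq_one_right hbb
  have dw : D.d * w = w * D.d := by
    have := hw.yb; rw [sw_b] at this
    exact (mul_inv_eq_iff_eq_mul.1 this).symm
  have by' : D.b * y = y * D.b := (mul_inv_eq_iff_eq_mul.1 hy.yb).symm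
  have bwb : D.b * w * D.b = w⁻¹ := by
    have := hw.yd; rw [sw_d] at this
    exact eq_inv_of_mul_eq_one_left this
  have dyd : D.d * y * D.d = y⁻¹ := eq_inv_of_mul_eq_one_left hy.yd
  -- conjugation by `d`
  have k1 : fyA (cj 5 j) = j := by
    obtain ⟨-, m5, -⟩ := sq j hjA
    obtain ⟨-, -, -, m6, -⟩ := sq _ m5
    apply D.inj (An_lt' m6) hj
    rw [← hy.actA m5, D.v_cj (by norm_num) hj, ← hje, D.v5, dinv]
    have h1 : D.d * e * D.d = y⁻¹ * w * y * w⁻¹ := by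
      have dyi : D.d * y⁻¹ * D.d = y := by rw [← dyd]; calc
        D.d * (D.d * y * D.d) * D.d = (D.d * D.d) * y * (D.d * D.d) := by group
        _ = y := by rw [hdd]; group
      calc D.d * e * D.d = D.d * (y * w * y⁻¹ * w⁻¹) * D.d := by rw [he]
        _ = (D.d * y * D.d) * (D.d⁻¹ * w * D.d) * (D.d⁻¹ * y⁻¹ * D.d) * (D.d⁻¹ * w * D.d)⁻¹ := by group
        _ = y⁻¹ * w * y * w⁻¹ := by
          have : D.d⁻¹ * w * D.d = w := by rw [mul_assoc, ← dw]; group
          rw [this, dyd, dinv, dyi]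
    rw [h1]
    calc y * (y⁻¹ * w * y * w⁻¹) * y⁻¹ = (y * w * y⁻¹ * w⁻¹)⁻¹ := by group
      _ = e := by rw [← he, einv]
  have k2 : fwA (cj 3 j) = j := by
    obtain ⟨-, -, m5, -⟩ := sq j hjA
    obtain ⟨-, -, -, -, m6, -⟩ := sq _ m5
    apply D.inj (An_lt' m6) hj
    rw [← hw.actW m5, D.v_cj (by norm_num) hj, ← hje, D.v3, binv]
    have h1 : D.b * e * D.b = y * w⁻¹ * y⁻¹ * w := by
      have bwi : D.b * w⁻¹ * D.b = w := by rw [← bwb]; calc
        D.b * (D.b * w * D.b) * D.b = (D.b * D.b) * w * (D.b * D.b) := by group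
        _ = w := by rw [hbb]; group
      have : D.b * y * D.b⁻¹ = y := by rw [by']; group
      calc D.b * e * D.b = D.b * (y * w * y⁻¹ * w⁻¹) * D.b := by rw [he]
        _ = (D.b * y * D.b⁻¹) * (D.b * w * D.b⁻¹) * (D.b * y * D.b⁻¹)⁻¹ * (D.b * w⁻¹ * D.b) := by group
        _ = y * w⁻¹ * y⁻¹ * w := by
          rw [this, binv, bwb, bwi]
    rw [h1]
    calc w * (y * w⁻¹ * y⁻¹ * w) * w⁻¹ = (y * w * y⁻¹ * w⁻¹)⁻¹ := by group
      _ = e := by rw [← he, einv]
  have h := List.all_eq_true.1 An_sol j hjA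
  rw [k1, k2] at h
  simp only [Nat.beq_refl, Bool.and_self, cond_true, Bool.or_eq_true] at h
  rcases h with h | h
  · exact ⟨y, hy, by rw [← he, hje, Nat.eq_of_beq_eq_true h, D.v0]⟩
  · have hj109 := Nat.eq_of_beq_eq_true h
    have ss := D.rel.ss
    have si : D.s⁻¹ = D.s := inv_eq_of_mul_eq_one_right ss
    have cs : ∀ k < 192, D.s * D.v k * D.s = D.v k := by
      intro k hk
      rw [← D.v_comm hk, mul_assoc, ss, mul_one]
    have cjs : ∀ x, D.s * x * D.s = x → ∀ z, y * x * y⁻¹ = z → D.s * z * D.s = z → (D.s * y * D.s) * x * (D.s * y * D.s)⁻¹ = z := by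
      intro x hx z hz hz'
      calc (D.s * y * D.s) * x * (D.s * y * D.s)⁻¹ = D.s * (y * (D.s * x * D.s⁻¹) * y⁻¹) * D.s⁻¹ := by group
        _ = z := by rw [si, hx, hz, hz']
    have s1 := cs 1 (by norm_num)
    have s2 := cs 2 (by norm_num)
    have s3 := cs 3 (by norm_num)
    have s4 := cs 4 (by norm_num)
    have s5 := cs 5 (by norm_num)
    have s7 := cs 7 (by norm_num)
    have s8 := cs 8 (by norm_num)
    have s26 := cs 26 (by norm_num)
    rw [D.v1] at s1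
    rw [D.v2] at s2
    rw [D.v3] at s3
    rw [D.v4] at s4
    rw [D.v5] at s5
    rw [D.v7] at s7
    rw [D.v8] at s8
    rw [D.v26] at s26
    refine ⟨D.s * y * D.s, ⟨?_, ?_, ?_, ?_, ?_, ?_, ?_⟩, ?_⟩
    · calc (D.s * y * D.s) * (D.s * y * D.s) * (D.s * y * D.s) = D.s * y * (D.s * D.s) * y * (D.s * D.s) * y * D.s := by group
        _ = D.s * (y * y * y) * D.s := by rw [ss]; group
        _ = 1 := by rw [hy.y3, mul_one, ss]
    · exact cjs _ s1 _ hy.ys s2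
    · exact cjs _ s2 _ hy.ya s8
    · exact cjs _ s3 _ hy.yb s3
    · calc D.d * (D.s * y * D.s) * D.d * (D.s * y * D.s) = D.d * (D.s * y * (D.s * D.d * D.s) * y * D.s) := by group
        _ = D.d * D.s * y * D.d * y * D.s := by rw [s5]; group
        _ = D.s * (D.s * D.d * D.s) * y * D.d * y * D.s := by
          calc D.d * D.s * y * D.d * y * D.s = (D.s * D.s) * D.d * D.s * y * D.d * y * D.s := by rw [ss, one_mul]
            _ = _ := by group
        _ = D.s * (D.d * y * D.d * y) * D.s := by rw [s5]; group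
        _ = 1 := by rw [hy.yd, mul_one, ss]
    · exact cjs _ s4 _ hy.yc s7
    · exact cjs _ s7 _ hy.yt s26
    · -- `s y s = (s a) y`
      have h1 : D.s * y * D.s = (D.s * D.a) * y := by
        have := hy.ys
        calc D.s * y * D.s = D.s * (y * D.s * y⁻¹) * y := by group
          _ = _ := by rw [this]
      rw [h1, ← D.v8]
      have h2 : y * w * y⁻¹ = e * w := by rw [he]; group
      have h8i : (D.v 8)⁻¹ = D.v 8 := by
        apply inv_eq_of_mul_eq_one_right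
        rw [← D.v_mm (by norm_num) (by norm_num), (sq 8 (by decide)).1, D.v0]
      calc (D.v 8 * y) * w * (D.v 8 * y)⁻¹ * w⁻¹ = D.v 8 * (y * w * y⁻¹) * (D.v 8)⁻¹ * w⁻¹ := by group
        _ = D.v 8 * e * (w * D.v 8 * w⁻¹) := by rw [h2, h8i]; group
        _ = D.v 8 * D.v 109 * D.v 26 := by rw [hw.actW (k := 8) (by decide), hje, hj109]; rfl
        _ = 1 := by
          rw [← D.v_mm (by norm_num) (by norm_num), ← D.v_mm (D.mm_lt (by norm_num) (by norm_num)) (by norm_num),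
            show mm (mm 8 109) 26 = 0 by decide +kernel, D.v0]

end DA

end Cfsg.Agent.Lib.M12A
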