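import Cfsg.Agent.Lib.A8Iso
import Cfsg.Agent.Lib.A8Cls
import Cfsg.Agent.Lib.A8A9

set_option autoImplicit false
set_option linter.all false
set_option maxRecDepth 100000

/-! The case `A8`, `A9`. -/

namespace Cfsg.Agent.Lib.M12A

open Cfsg.Agent.Lib.H10Enum Cfsg.Agent.Lib.M12Tab Cfsg.Agent.Lib.M12DataA Cfsg.Agent.Lib.JTw Cfsg.Agent.Lib.J2Pres
open Cfsg.Agent.Lib.M12B (allB allB_spec exB exB_spec memB memB_iff)
open Cfsg.Agent.Lib.A8Mod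

namespace DA

variable {G : Type*} [Group G] [Finite G] (D : DA G)

theorem full_of {y w : G} (hy : D.Y y) (hw : D.sw.Y w) (he : y * w * y⁻¹ * w⁻¹ = 1) :
    Full D.s D.a D.b D.c D.d D.p D.t y w := ⟨D.rel, hy.yrel, hw.wrel, hy.py4, hw.pw4, he⟩

theorem caseA8 {y w : G} (hy0 : D.Y y) (hw : D.sw.Y w) (hz : ¬ IsConj D.s (D.v 15)) :
    Nonempty (G ≃* alternatingGroup (Fin 8)) ∨ Nonempty (G ≃* alternatingGroup (Fin 9)) := by
  obtain ⟨y, hy, he⟩ := D.exists_comm hy0 hw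
  have hF := D.full_of hy hw he
  obtain ⟨H, psi, mem, hpsi, h7⟩ : ∃ (H : Subgroup G) (psi : H ≃* A8) (mem : ∀ k, gl9 D.s D.a D.b D.c D.d D.p D.t y w k ∈ H),
      (∀ k, psi ⟨gl9 D.s D.a D.b D.c D.d D.p D.t y w k, mem k⟩ = gl9 sE aE bE cE dE pE tE yE wE k) ∧
      H7 D.s D.a D.b D.c D.d D.p D.t ≤ H := by
    obtain ⟨psi, hpsi⟩ := hF.iso D.s1
    exact ⟨_, psi, g9_mem, hpsi, H7_le_H8.trans H8_le_H9⟩
  have mL : ∀ g : G, g * D.s = D.s * g → g ∈ H := by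
    intro g hg
    obtain ⟨i, hi, rfl⟩ := D.exists_v hg
    exact h7 (D.v_mem7 hi)
  have ms : D.s ∈ H := mem 1
  have ma : D.a ∈ H := mem 2
  have mc : D.c ∈ H := mem 4
  have ps : psi ⟨D.s, ms⟩ = sE := hpsi 1
  have pa : psi ⟨D.a, ma⟩ = aE := hpsi 2
  have pc : psi ⟨D.c, mc⟩ = cE := hpsi 4
  have m15 : D.v 15 ∈ H := by rw [D.v15]; exact H.mul_mem ma mc
  have p15 : psi ⟨D.v 15, m15⟩ = aE * cE := by
    have : (⟨D.v 15, m15⟩ : H) = ⟨D.a, ma⟩ * ⟨D.c, mc⟩ := Subtype.ext D.v15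
    rw [this, map_mul, pa, pc]
  -- conjugacy in `H`
  have cjH : ∀ (h : H) (x : G) (hx : x ∈ H), (∃ g : A8, g * psi ⟨x, hx⟩ * g⁻¹ = psi h) → ∃ k ∈ H, k * x * k⁻¹ = (h : G) := by
    rintro h x hx ⟨g, hg⟩
    refine ⟨psi.symm g, (psi.symm g).2, ?_⟩
    have h1 : psi.symm g * ⟨x, hx⟩ * (psi.symm g)⁻¹ = h := by
      apply psi.injective
      rw [map_mul, map_mul, map_inv, MulEquiv.apply_symm_apply, hg]
    have := congrArg (fun z : H => (z : G)) h1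
    simpa using this
  have key : ∀ h : H, IsConj D.s (h : G) → ((psi h : Equiv.Perm (Fin 8)) * psi h = 1 ∧ ∀ i, (psi h : Equiv.Perm (Fin 8)) i ≠ i) := by
    intro h hc
    obtain ⟨g, hg⟩ := isConj_iff.1 hc
    have hh2 : (h : G) * (h : G) = 1 := by
      rw [← hg]
      calc g * D.s * g⁻¹ * (g * D.s * g⁻¹) = g * (D.s * D.s) * g⁻¹ := by group
        _ = 1 := by rw [D.rel.ss]; group
    have hh1 : h ≠ 1 := by
      rintro rfl
      apply D.s1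
      have : g * D.s * g⁻¹ = 1 := hg
      calc D.s = g⁻¹ * (g * D.s * g⁻¹) * g := by group
        _ = 1 := by rw [this]; group
    have e2 : psi h * psi h = 1 := by
      rw [← map_mul, show h * h = 1 from Subtype.ext hh2, map_one]
    have e2' : (psi h : Equiv.Perm (Fin 8)) * psi h = 1 := congrArg Subtype.val e2
    have e1 : psi h ≠ 1 := fun h' => hh1 (psi.injective (h'.trans (map_one psi).symm))
    refine ⟨e2', fun i hi => ?_⟩
    obtain ⟨g', hg'⟩ := class_not e2' e1 hi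
    obtain ⟨k, -, hk⟩ := cjH h (D.v 15) m15 ⟨g', by rw [p15]; exact hg'⟩
    exact hz (hc.trans (isConj_iff.2 ⟨k, hk⟩).symm)
  have key2 : ∀ h : H, ((psi h : Equiv.Perm (Fin 8)) * psi h = 1 ∧ ∀ i, (psi h : Equiv.Perm (Fin 8)) i ≠ i) →
      ∃ k ∈ H, k * D.s * k⁻¹ = (h : G) := by
    rintro h ⟨h2, hf⟩
    obtain ⟨g', hg'⟩ := class_fpf h2 hf
    exact cjH h D.s ms ⟨g', by rw [ps]; exact hg'⟩
  rcases A8A9.main D.s H psi (fun h => ⟨key h, fun h' => by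
      obtain ⟨k, -, hk⟩ := key2 h h'
      exact isConj_iff.2 ⟨k, hk⟩⟩) (fun h hc => by
      obtain ⟨k, hkH, hk⟩ := key2 h (key h hc)
      intro g hg
      have hg' : g * (h : G) = (h : G) * g := mem_centralizer_one.1 hg
      have h1 : k⁻¹ * g * k ∈ H := by
        apply mL
        rw [← hk] at hg'
        calc k⁻¹ * g * k * D.s = k⁻¹ * (g * (k * D.s * k⁻¹)) * k := by group
          _ = k⁻¹ * ((k * D.s * k⁻¹) * g) * k := by rw [hg']
          _ = D.s * (k⁻¹ * g * k) := by group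
      have h2 : g = k * (k⁻¹ * g * k) * k⁻¹ := by group
      rw [h2]
      exact H.mul_mem (H.mul_mem hkH h1) (H.inv_mem hkH)) with h | h
  · left
    exact ⟨((Subgroup.topEquiv (G := G)).symm.trans (MulEquiv.subgroupCongr h.symm)).trans psi⟩
  · exact Or.inr h

/-- groups of type A -/
theorem main (ha : IsConj D.s D.a) : (∃ E : Subgroup G, E.Normal ∧ Nat.card E = 8 ∧ (∀ x ∈ E, ∀ y ∈ E, x * y = y * x) ∧
    (∀ x ∈ E, x * x = 1) ∧ Nat.card G = 1344 ∧ (∀ x : G, IsConj D.s x ↔ x ∈ E ∧ x ≠ 1) ∧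
      (∀ g, (∀ x ∈ E, g * x = x * g) → g ∈ E)) ∨
    Nonempty (G ≃* alternatingGroup (Fin 8)) ∨ Nonempty (G ≃* alternatingGroup (Fin 9)) := by
  rcases D.cases_ ha with ⟨D', h1, h2, ⟨y, hy⟩, h3, h4⟩ | ⟨D', h1, h2, ⟨y, hy⟩, ⟨w, hw⟩, h3⟩
  · left
    refine ⟨D'.E, D'.E_normal hy h3 h4, D'.card_E, fun x hx y hy => D'.E_comm hx hy, fun x hx => D'.E_sq hx,
      D'.card_G hy h3 h4, fun x => by rw [← h1]; exact D'.class_eq hy h3 h4 x, fun g hg => ?_⟩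
    obtain ⟨k, hk, rfl⟩ := D'.mem_Ea (hg _ D'.s_mem_E) (hg _ ⟨2, by decide, D'.v2.symm⟩) (hg _ ⟨3, by decide, D'.v3.symm⟩)
    exact ⟨k, hk, rfl⟩
  · exact Or.inr (D'.caseA8 hy hw h3)

end DA

end Cfsg.Agent.Lib.M12A
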