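import Cfsg.Agent.Lib.M12Fin
import Cfsg.Agent.Lib.M12TB3

set_option autoImplicit false
set_option linter.all false
set_option maxRecDepth 100000

/-! Type B: the end. -/

namespace Cfsg.Agent.Lib.M12B

open Cfsg.Agent.Lib.H10Enum Cfsg.Agent.Lib.M12Tab Cfsg.Agent.Lib.M12DataB Cfsg.Agent.Lib.JTw

theorem reach_ok : allB (fun k => Nat.beq k 0 || exB (fun j => Nat.blt j k && [1, 2, 3, 4, 5, 6, 7].any
    (fun i => Nat.beq (ent tb i j) k)) 192) 192 = true := by decide +kernel

theorem four_ok : allB (fun i => [2, 3, 4, 5].all fun j => Nat.beq (mm (mm (cm i j) (cm i j)) (mm (cm i j) (cm i j))) 0) 192 = true := by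
  decide +kernel

theorem LE_cent : allB (fun k => cond (Nat.beq (mm k 2) (mm 2 k) && Nat.beq (mm k 3) (mm 3 k)) (memB k LE) true) 192 = true := by
  decide +kernel

namespace DB

variable {G : Type*} [Group G] (D : DB G)

theorem v_mem_of (N : Subgroup G) (h : ∀ i, 1 ≤ i → i < 8 → gl D.s D.a D.b D.c D.d D.p D.t i ∈ N) :
    ∀ k, k < 192 → D.v k ∈ N := by
  intro k
  induction k using Nat.strong_induction_on with
  | _ k ih =>
    intro hk
    have h1 := allB_spec 192 reach_ok k hk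
    rw [Bool.or_eq_true] at h1
    rcases h1 with h1 | h1
    · rw [Nat.eq_of_beq_eq_true h1, D.v0]; exact Subgroup.one_mem _
    · obtain ⟨j, hj, h2⟩ := exB_spec 192 h1
      rw [Bool.and_eq_true, List.any_eq_true] at h2
      obtain ⟨h2, i, hi, h3⟩ := h2
      have hjk : j < k := Nat.lt_of_lt_of_le (Nat.lt_succ_self _) (Nat.le_of_ble_eq_true h2)
      have hi' : 1 ≤ i ∧ i < 8 := by
        simp only [List.mem_cons, List.not_mem_nil, or_false] at hi
        omega
      have h4 : D.v (ent tb i j) = gl D.s D.a D.b D.c D.d D.p D.t i * D.v j := (D.rel.step i hi'.1 hi'.2 j hj).2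
      rw [Nat.eq_of_beq_eq_true h3] at h4
      rw [h4]
      exact N.mul_mem (h i hi'.1 hi'.2) (ih j hjk hj)

/-- a normal subgroup containing `s`, `a`, `t` contains the centralizer -/
theorem cent_le (N : Subgroup G) [hN : N.Normal] (hs : D.s ∈ N) (ha : D.a ∈ N) (ht : D.t ∈ N) {g : G}
    (hg : g * D.s = D.s * g) : g ∈ N := by
  obtain ⟨k, hk, rfl⟩ := D.exists_v hg
  have e1 : (QuotientGroup.mk' N) D.s = 1 := (QuotientGroup.eq_one_iff _).2 hs
  have e2 : (QuotientGroup.mk' N) D.a = 1 := (QuotientGroup.eq_one_iff _).2 ha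
  have e7 : (QuotientGroup.mk' N) D.t = 1 := (QuotientGroup.eq_one_iff _).2 ht
  have hr := D.rel.map' (QuotientGroup.mk' N)
  rw [e1, e2, e7] at hr
  have e6 : (QuotientGroup.mk' N) D.p = 1 := by
    have h1 := hr.r17
    have h2 := hr.r10
    rw [one_mul, mul_one] at h1
    rw [h1, one_mul] at h2
    exact h2
  rw [e6] at hr
  have e3 : (QuotientGroup.mk' N) D.b = 1 := by
    have h1 := hr.r12
    simpa using h1
  have e4 : (QuotientGroup.mk' N) D.c = 1 := by
    have h1 := hr.r15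
    have h2 := hr.dd
    rw [inv_one, one_mul, mul_one, h2, one_mul] at h1
    exact h1
  rw [e4] at hr
  have e5 : (QuotientGroup.mk' N) D.d = 1 := by
    have h1 := hr.r14
    simpa using h1
  refine D.v_mem_of N ?_ k hk
  intro i h1 h8
  interval_cases i
  · exact hs
  · exact ha
  · exact (QuotientGroup.eq_one_iff _).1 e3
  · exact (QuotientGroup.eq_one_iff _).1 e4
  · exact (QuotientGroup.eq_one_iff _).1 e5
  · exact (QuotientGroup.eq_one_iff _).1 e6
  · exact ht

variable [Finite G]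

theorem exists_sylow' : ∃ P : Sylow 2 G, (∀ p ∈ P, p * D.s = D.s * p) ∧ ∀ g ∈ Subgroup.normalizer ((P : Subgroup G) : Set G), g * D.s = D.s * g := by
  have : Fact (Nat.Prime 2) := ⟨Nat.prime_two⟩
  have hQp : IsPGroup 2 D.Q := IsPGroup.of_card (n := 5) (by rw [D.card_Q]; norm_num)
  obtain ⟨P, hP⟩ := hQp.exists_le_sylow
  have hsQ : D.s ∈ D.Q := ⟨1, by decide, D.v1.symm⟩
  have huP : D.s ∈ (P : Subgroup G) := hP hsQ
  have hnt : Nontrivial (P : Subgroup G) := ⟨⟨⟨D.s, huP⟩, 1, fun h => D.s1 (congrArg Subtype.val h)⟩⟩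
  have hnt2 := IsPGroup.center_nontrivial P.2
  have key : ∀ c ∈ (P : Subgroup G), (∀ p ∈ (P : Subgroup G), p * c = c * p) → c = 1 ∨ c = D.s := by
    intro c hc hcc
    have q : ∀ j ∈ LQ, c * D.v j = D.v j * c := fun j hj => (hcc _ (hP ⟨j, hj, rfl⟩)).symm
    have q1 := q 1 (by decide)
    have q2 := q 2 (by decide)
    have q3 := q 3 (by decide)
    have q4 := q 4 (by decide)
    have q5 := q 5 (by decide)
    rw [D.v1] at q1
    rw [D.v2] at q2
    rw [D.v3] at q3
    rw [D.v4] at q4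
    rw [D.v5] at q5
    exact D.central q1 q2 q3 q4 q5
  obtain ⟨⟨c, hc⟩, hc1⟩ := exists_ne (1 : Subgroup.center (P : Subgroup G))
  have hcc : ∀ p ∈ (P : Subgroup G), p * (c : G) = c * p := by
    intro p hp
    exact congrArg Subtype.val (Subgroup.mem_center_iff.1 hc ⟨p, hp⟩)
  have hcs : (c : G) = D.s := by
    rcases key c c.2 hcc with h | h
    · exact absurd (Subtype.ext (Subtype.ext h)) hc1
    · exact h
  have hs : ∀ p ∈ (P : Subgroup G), p * D.s = D.s * p := by
    intro p hp; rw [← hcs]; exact hcc p hp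
  refine ⟨P, hs, fun g hg => ?_⟩
  have h1 : g * D.s * g⁻¹ ∈ (P : Subgroup G) := (Subgroup.mem_normalizer_iff.1 hg D.s).1 huP
  have h2 : ∀ p ∈ (P : Subgroup G), p * (g * D.s * g⁻¹) = (g * D.s * g⁻¹) * p := by
    intro p hp
    have h3 : g⁻¹ * p * g ∈ (P : Subgroup G) := by
      have := (Subgroup.mem_normalizer_iff.1 ((Subgroup.normalizer _).inv_mem hg) p).1 hp
      simpa using this
    have h4 := hs _ h3
    calc p * (g * D.s * g⁻¹) = g * ((g⁻¹ * p * g) * D.s) * g⁻¹ := by group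
      _ = g * (D.s * (g⁻¹ * p * g)) * g⁻¹ := by rw [h4]
      _ = _ := by group
  rcases key _ h1 h2 with h | h
  · exfalso
    apply D.s1
    calc D.s = g⁻¹ * (g * D.s * g⁻¹) * g := by group
      _ = 1 := by rw [h]; group
  · exact mul_inv_eq_iff_eq_mul.1 h

theorem inverts_of {s : G} (hs : s * s = 1) (N : Subgroup G) [hN : N.Normal] (h : ∀ n ∈ N, n * s = s * n → n = 1) :
    ∀ n ∈ N, s * n * s = n⁻¹ := by
  have si : s⁻¹ = s := inv_eq_of_mul_eq_one_right hs
  let f : N → N := fun n => ⟨(n : G)⁻¹ * (s * n * s⁻¹), N.mul_mem (N.inv_mem n.2) (hN.conj_mem _ n.2 s)⟩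
  have hf : Function.Injective f := by
    rintro ⟨x, hx⟩ ⟨y, hy⟩ hxy
    have h1 : x⁻¹ * (s * x * s⁻¹) = y⁻¹ * (s * y * s⁻¹) := congrArg Subtype.val hxy
    have h2 : y * x⁻¹ = 1 := by
      apply h _ (N.mul_mem hy (N.inv_mem hx))
      have h3 : y * x⁻¹ * (s * x * s⁻¹) = s * y * s⁻¹ := by
        calc y * x⁻¹ * (s * x * s⁻¹) = y * (x⁻¹ * (s * x * s⁻¹)) := by group
          _ = s * y * s⁻¹ := by rw [h1]; group
      calc y * x⁻¹ * s = (y * x⁻¹ * (s * x * s⁻¹)) * (s * x⁻¹) := by group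
        _ = s * (y * x⁻¹) := by rw [h3]; group
    apply Subtype.ext
    exact (mul_inv_eq_one.1 h2).symm
  have hsurj : Function.Surjective f := Finite.injective_iff_surjective.1 hf
  intro n hn
  obtain ⟨⟨x, hx⟩, hxn⟩ := hsurj ⟨n, hn⟩
  have h1 : x⁻¹ * (s * x * s⁻¹) = n := congrArg Subtype.val hxn
  rw [← h1, si]
  calc s * (x⁻¹ * (s * x * s)) * s = s * x⁻¹ * s * x * (s * s) := by group
    _ = s⁻¹ * x⁻¹ * s⁻¹ * x := by rw [hs, mul_one, si]
    _ = (x⁻¹ * (s * x * s))⁻¹ := by group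

theorem simple' (ht : IsConj D.s D.t) : IsSimpleGroup G := by
  have ha := D.conj_a_of_t ht
  have hnt : Nontrivial G := ⟨⟨D.s, 1, D.s1⟩⟩
  refine { exists_pair_ne := hnt.exists_pair_ne, eq_bot_or_eq_top_of_normal := ?_ }
  intro N hN
  have hcl : ∀ {x y : G}, IsConj x y → x ∈ N → y ∈ N := by
    intro x y h hx
    obtain ⟨g, rfl⟩ := isConj_iff.1 h
    exact hN.conj_mem _ hx g
  rcases Nat.even_or_odd (Nat.card N) with he | ho
  · right
    haveI : Fact (Nat.Prime 2) := ⟨Nat.prime_two⟩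
    obtain ⟨⟨y, hyN⟩, hy⟩ := exists_prime_orderOf_dvd_card' 2 he.two_dvd
    have hy' : orderOf y = 2 := by rw [← hy, Subgroup.orderOf_mk]
    obtain ⟨hy2, hy1⟩ := InvAct.orderOf_two_iff.1 hy'
    have hsN : D.s ∈ N := by
      rcases D.inv_type ha ht hy2 hy1 with h | h
      · exact hcl h.symm hyN
      · have hc := hcl h.symm hyN
        have h9 := D.rel.r9
        have bi : D.b⁻¹ = D.b := inv_eq_of_mul_eq_one_right D.rel.bb
        have h10 : D.s = (D.b * D.c * D.b⁻¹ * D.c)⁻¹ := by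
          rw [bi]; exact (inv_eq_of_mul_eq_one_right h9).symm
        rw [h10]
        exact N.inv_mem (N.mul_mem (hN.conj_mem _ hc _) hc)
    have hL := fun {g : G} (hg : g * D.s = D.s * g) => D.cent_le N hsN (hcl ha hsN) (hcl ht hsN) hg
    obtain ⟨P, hP1, hP2⟩ := D.exists_sylow'
    have h1 := Sylow.normalizer_sup_eq_top' (N := N) P (fun p hp => hL (hP1 p hp))
    rw [eq_top_iff, ← h1, sup_le_iff]
    exact ⟨fun g hg => hL (hP2 g hg), le_rfl⟩
  · left
    have odd1 : ∀ x ∈ N, x * x = 1 → x = 1 := by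
      intro x hx h2
      have h3 : orderOf x ∣ 2 := orderOf_dvd_of_pow_eq_one (by rw [pow_two]; exact h2)
      have h4 : orderOf x ∣ Nat.card N := by
        have := orderOf_dvd_natCard (⟨x, hx⟩ : N)
        rwa [Subgroup.orderOf_mk] at this
      have h5 : orderOf x = 1 := by
        rcases (Nat.dvd_prime Nat.prime_two).1 h3 with h | h
        · exact h
        · rw [h] at h4
          exact absurd (even_iff_two_dvd.2 h4) (Nat.not_even_iff_odd.2 ho)
      exact orderOf_eq_one_iff.1 h5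
    have odd4 : ∀ x ∈ N, (x * x) * (x * x) = 1 → x = 1 := fun x hx h => odd1 x hx (odd1 _ (N.mul_mem hx hx) h)
    have key : ∀ n ∈ N, n * D.s = D.s * n → n = 1 := by
      intro n hn hns
      obtain ⟨i, hi, rfl⟩ := D.exists_v hns
      have h1 := allB_spec 192 four_ok i hi
      have hj : ∀ j ∈ [2, 3, 4, 5], j < 192 → D.v i * D.v j = D.v j * D.v i := by
        intro j hj hj192
        have h2 := Nat.eq_of_beq_eq_true (List.all_eq_true.1 h1 j hj)
        have hc := D.cm_lt hi hj192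
        have h3 : D.v (cm i j) = 1 := by
          apply odd4
          · rw [D.v_cm hi hj192]
            have : D.v i * D.v j * (D.v i)⁻¹ * (D.v j)⁻¹ = D.v i * (D.v j * (D.v i)⁻¹ * (D.v j)⁻¹) := by group
            rw [this]
            exact N.mul_mem hn (hN.conj_mem _ (N.inv_mem hn) _)
          · rw [← D.v_mm hc hc, ← D.v_mm (D.mm_lt hc hc) (D.mm_lt hc hc), h2, D.v0]
        rw [D.v_cm hi hj192] at h3
        calc D.v i * D.v j = (D.v i * D.v j * (D.v i)⁻¹ * (D.v j)⁻¹) * (D.v j * D.v i) := by group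
          _ = D.v j * D.v i := by rw [h3, one_mul]
      have q2 := hj 2 (by decide) (by norm_num)
      have q3 := hj 3 (by decide) (by norm_num)
      have q4 := hj 4 (by decide) (by norm_num)
      have q5 := hj 5 (by decide) (by norm_num)
      rw [D.v2] at q2
      rw [D.v3] at q3
      rw [D.v4] at q4
      rw [D.v5] at q5
      rcases D.central hns q2 q3 q4 q5 with h | h
      · exact h
      · apply odd1 _ hn
        rw [h]; exact D.rel.ss
    have keyc : ∀ x : G, IsConj D.s x → ∀ n ∈ N, n * x = x * n → n = 1 := by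
      intro x hx n hn hnx
      obtain ⟨g, rfl⟩ := isConj_iff.1 hx
      have h1 : g⁻¹ * n * g = 1 := by
        apply key
        · have := hN.conj_mem n hn g⁻¹
          simpa using this
        · calc g⁻¹ * n * g * D.s = g⁻¹ * (n * (g * D.s * g⁻¹)) * g := by group
            _ = g⁻¹ * ((g * D.s * g⁻¹) * n) * g := by rw [hnx]
            _ = D.s * (g⁻¹ * n * g) := by group
      calc n = g * (g⁻¹ * n * g) * g⁻¹ := by group
        _ = 1 := by rw [h1]; group
    rw [eq_bot_iff]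
    intro n hn
    rw [Subgroup.mem_bot]
    have i1 := inverts_of D.rel.ss N key
    have i2 := inverts_of D.rel.aa N (keyc D.a ha)
    have h8 : IsConj D.s (D.v 8) := ha.trans (TR.isConj D ((D.TR_iff (by norm_num)).2 (by decide)))
    have v8 : D.v 8 = D.s * D.a := by
      rw [show (8 : ℕ) = mm 1 2 by decide +kernel, D.v_mm (by norm_num) (by norm_num), D.v1, D.v2]
    apply keyc _ h8 n hn
    have ssi : D.s⁻¹ = D.s := inv_eq_of_mul_eq_one_right D.rel.ss
    have aai : D.a⁻¹ = D.a := inv_eq_of_mul_eq_one_right D.rel.aa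
    have e1 : D.s * (D.a * n * D.a) * D.s = n := by
      rw [i2 n hn, i1 _ (N.inv_mem hn), inv_inv]
    rw [v8]
    calc n * (D.s * D.a) = D.s * (D.a * n * D.a) * D.s * (D.s * D.a) := by rw [e1]
      _ = D.s * D.a * n * D.a * (D.s * D.s) * D.a := by group
      _ = D.s * D.a * n * (D.a * D.a) := by rw [D.rel.ss]; group
      _ = D.s * D.a * n := by rw [D.rel.aa, mul_one]

/-- groups of type B -/
theorem main (ha : IsConj D.s D.a) : (∃ E : Subgroup G, E.Normal ∧ Nat.card E = 8 ∧ (∀ x ∈ E, ∀ y ∈ E, x * y = y * x) ∧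
    (∀ x ∈ E, x * x = 1) ∧ Nat.card G = 1344 ∧ (∀ g, (∀ x ∈ E, g * x = x * g) → g ∈ E)) ∨ Cfsg.Spor.IsoM12 G := by
  by_cases ht : IsConj D.s D.t
  · right
    haveI := D.simple' ht
    exact M12Cent.isoM12_of_card (D.card_G ht)
  · left
    have hcl : ∀ x : G, IsConj D.s x ↔ x ∈ D.E ∧ x ≠ 1 := by
      intro x
      constructor
      · intro h
        refine ⟨D.involution_mem_E ha ht h, fun h1 => ?_⟩
        exact (D.inv_of_conj h).2 h1
      · rintro ⟨h, h1⟩
        rcases (D.mem_E_iff ha ht).1 h with h2 | h2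
        · exact absurd h2 h1
        · exact h2.1
    refine ⟨D.E, D.E_normal ha ht, D.card_E, fun x hx y hy => D.E_comm hx hy, fun x hx => D.E_sq hx,
      M12A.card_of_class hcl D.card_E D.card, fun g hg => ?_⟩
    have hgs := hg _ D.s_mem_E
    obtain ⟨k, hk, rfl⟩ := D.exists_v hgs
    have h2 := hg _ D.a_mem_E
    have h3 := hg _ D.b_mem_E
    rw [← D.v2, D.comm_iff hk (by norm_num)] at h2
    rw [← D.v3, D.comm_iff hk (by norm_num)] at h3
    have h4 := allB_spec 192 LE_cent k hk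
    rw [h2, h3] at h4
    simp only [Nat.beq_refl, Bool.and_self, cond_true] at h4
    exact ⟨k, (memB_iff _).1 h4, rfl⟩

end DB

end Cfsg.Agent.Lib.M12B
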