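import Cfsg.Agent.Lib.M12TB4
import Cfsg.Agent.Lib.L32H51

set_option autoImplicit false
set_option linter.all false

/-! Groups with an involution centralizer `2^{1+4}.S3`. -/

namespace Cfsg.Agent.Lib.M12A

theorem norm_case {G : Type*} [Group G] [Finite G] (h : ∃ E : Subgroup G, E.Normal ∧ Nat.card E = 8 ∧
    (∀ x ∈ E, ∀ y ∈ E, x * y = y * x) ∧ (∀ x ∈ E, x * x = 1) ∧ Nat.card G = 1344 ∧ (∀ g, (∀ x ∈ E, g * x = x * g) → g ∈ E)) :
    ∃ (N : Subgroup G) (hN : N.Normal), IsMulCommutative N ∧ (∀ n ∈ N, n ^ 2 = 1) ∧ Nat.card N = 8 ∧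
        Nonempty (G ⧸ N ≃* Matrix.ProjectiveSpecialLinearGroup (Fin 3) (ZMod 2)) := by
  obtain ⟨E, hE, h8, hc, h2, hG, hC⟩ := h
  have hcomm : IsMulCommutative E := ⟨⟨fun a b => Subtype.ext (hc a a.2 b b.2)⟩⟩
  have hexp : ∀ n ∈ E, n ^ 2 = 1 := fun n hn => by rw [pow_two]; exact h2 n hn
  refine ⟨E, hE, hcomm, hexp, h8, L32H51.quot_iso E hcomm hexp h8 ?_ hG⟩
  intro g hg
  exact hC g fun x hx => (Subgroup.mem_centralizer_iff.1 hg x hx).symm

theorem final {G : Type*} [Group G] [Finite G] (s : G) (s1 : s ≠ 1) (hcard : Nat.card (Subgroup.centralizer ({s} : Set G)) = 192)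
    (h : ∃ a b c d p t : G, (IsConj s a ∧ M12A.Rel s a b c d p t) ∨ ((IsConj s a ∨ IsConj s c) ∧ M12B.Rel s a b c d p t)) :
    (∃ (N : Subgroup G) (hN : N.Normal), IsMulCommutative N ∧ (∀ n ∈ N, n ^ 2 = 1) ∧ Nat.card N = 8 ∧
        Nonempty (G ⧸ N ≃* Matrix.ProjectiveSpecialLinearGroup (Fin 3) (ZMod 2))) ∨
    Nonempty (G ≃* alternatingGroup (Fin 8)) ∨ Nonempty (G ≃* alternatingGroup (Fin 9)) ∨ Cfsg.Spor.IsoM12 G := by
  obtain ⟨a, b, c, d, p, t, ⟨ha, hr⟩ | ⟨hac, hr⟩⟩ := h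
  · let D : DA G := ⟨s, a, b, c, d, p, t, hr, s1, hcard⟩
    rcases D.main ha with ⟨E, h1, h2, h3, h4, h5, -, h6⟩ | h | h
    · exact Or.inl (norm_case ⟨E, h1, h2, h3, h4, h5, h6⟩)
    · exact Or.inr (Or.inl h)
    · exact Or.inr (Or.inr (Or.inl h))
  · let D : M12B.DB G := ⟨s, a, b, c, d, p, t, hr, s1, hcard⟩
    have ha : IsConj D.s D.a := by
      rcases hac with h | h
      · exact h
      · exact absurd h D.not_conj_c
    rcases D.main ha with h | h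
    · exact Or.inl (norm_case h)
    · exact Or.inr (Or.inr (Or.inr h))

end Cfsg.Agent.Lib.M12A
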