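import Cfsg.Agent.Lib.H10Enum

set_option autoImplicit false
set_option linter.all false

/-! Multiplication tables from coset enumeration certificates (trivial subgroup). -/

namespace Cfsg.Agent.Lib.M12Tab

open Cfsg.Agent.Lib.H10Enum

/-- 8-bit entries -/
def e8 (tb k : ℕ) : ℕ := Nat.mod (Nat.shiftRight tb (Nat.mul 8 k)) 256
/-- 16-bit entries -/
def e16 (tb k : ℕ) : ℕ := Nat.mod (Nat.shiftRight tb (Nat.mul 16 k)) 65536
/-- matrix entries -/
def ent (tb i j : ℕ) : ℕ := e8 tb (Nat.add (Nat.mul 256 i) j)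

/-- check of one entry of the step table -/
def chkE (T iv n N E tb c j : ℕ) : Bool :=
  let k := e16 E j
  let v := fct T k
  let st := ent tb c j
  Nat.blt k N && (Nat.blt st n &&
    ((Nat.beq (fsrc v) st && (Nat.beq (fdst v) j && eqc iv (flet v) (Nat.mul 2 c))) ||
     (Nat.beq (fsrc v) j && (Nat.beq (fdst v) st && eqc iv (flet v) (Nat.succ (Nat.mul 2 c))))))

/-- check of the step table for the letter `c` -/
def chkL (T iv n N E tb c : ℕ) : ℕ → Bool
  | 0 => true
  | j + 1 => chkE T iv n N E tb c j && chkL T iv n N E tb c j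

variable {G X : Type*} [Group G] [MulAction G X]

theorem chkE_sound {T iv n N E tb c j : ℕ} {x : ℕ → G} {f : ℕ → X} (hiv : ∀ c, iv.testBit c = true → (x c)⁻¹ = x c)
    (hgood : ∀ k < N, Good T x f k) (h : chkE T iv n N E tb c j = true) :
    ent tb c j < n ∧ f (ent tb c j) = x c • f j := by
  unfold chkE at h
  simp only [] at h
  rw [Bool.and_eq_true, Bool.and_eq_true] at h
  obtain ⟨h1, h2, h3⟩ := h
  have hk : e16 E j < N := Nat.lt_of_lt_of_le (Nat.lt_succ_self _) (Nat.le_of_ble_eq_true h1)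
  have hg := hgood _ hk
  unfold Good at hg
  refine ⟨Nat.lt_of_lt_of_le (Nat.lt_succ_self _) (Nat.le_of_ble_eq_true h2), ?_⟩
  generalize fct T (e16 E j) = v at h3 hg
  generalize ent tb c j = st at h3 ⊢
  rw [Bool.or_eq_true, Bool.and_eq_true, Bool.and_eq_true, Bool.and_eq_true, Bool.and_eq_true] at h3
  rcases h3 with ⟨a1, a2, a3⟩ | ⟨a1, a2, a3⟩
  · rw [Nat.eq_of_beq_eq_true a1, Nat.eq_of_beq_eq_true a2, val_eqc hiv a3] at hg
    rw [hg]
    have : val x (Nat.mul 2 c) = x c := val_even x c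
    rw [this]
  · rw [Nat.eq_of_beq_eq_true a1, Nat.eq_of_beq_eq_true a2, val_eqc hiv a3] at hg
    have : val x (Nat.succ (Nat.mul 2 c)) = (x c)⁻¹ := val_odd x c
    rw [this] at hg
    rw [hg, smul_inv_smul]

theorem chkL_sound {T iv n N E tb c : ℕ} {x : ℕ → G} {f : ℕ → X} (hiv : ∀ c, iv.testBit c = true → (x c)⁻¹ = x c)
    (hgood : ∀ k < N, Good T x f k) : ∀ m, chkL T iv n N E tb c m = true →
    ∀ j < m, ent tb c j < n ∧ f (ent tb c j) = x c • f j
  | 0, _ => by intro j hj; omega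
  | m + 1, h => by
    rw [chkL, Bool.and_eq_true] at h
    intro j hj
    rcases Nat.lt_succ_iff_lt_or_eq.1 hj with hj | rfl
    · exact chkL_sound hiv hgood m h.2 j hj
    · exact chkE_sound hiv hgood h.1

/-- row check of the multiplication table -/
def chkRow (tb mt l p i : ℕ) : ℕ → Bool
  | 0 => true
  | j + 1 => Nat.beq (ent mt i j) (ent tb l (ent mt p j)) && chkRow tb mt l p i j

theorem chkRow_sound {tb mt l p i : ℕ} : ∀ m, chkRow tb mt l p i m = true →
    ∀ j < m, ent mt i j = ent tb l (ent mt p j)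
  | 0, _ => by intro j hj; omega
  | m + 1, h => by
    rw [chkRow, Bool.and_eq_true] at h
    intro j hj
    rcases Nat.lt_succ_iff_lt_or_eq.1 hj with hj | rfl
    · exact chkRow_sound m h.2 j hj
    · exact Nat.eq_of_beq_eq_true h.1

/-- the first row -/
def chkRow0 (mt : ℕ) : ℕ → Bool
  | 0 => true
  | j + 1 => Nat.beq (ent mt 0 j) j && chkRow0 mt j

theorem chkRow0_sound {mt : ℕ} : ∀ m, chkRow0 mt m = true → ∀ j < m, ent mt 0 j = j
  | 0, _ => by intro j hj; omega
  | m + 1, h => by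
    rw [chkRow0, Bool.and_eq_true] at h
    intro j hj
    rcases Nat.lt_succ_iff_lt_or_eq.1 hj with hj | rfl
    · exact chkRow0_sound m h.2 j hj
    · exact Nat.eq_of_beq_eq_true h.1

/-- the multiplication table (`m + 1` rows are checked) -/
def chkM (tb mt lt pt n q : ℕ) : ℕ → Bool
  | 0 => true
  | m + 1 => (Nat.ble (e8 pt (Nat.succ m)) m && (Nat.ble 1 (e8 lt (Nat.succ m)) && (Nat.blt (e8 lt (Nat.succ m)) q &&
      (Nat.beq (ent mt (Nat.succ m) 0) (Nat.succ m) &&
        chkRow tb mt (e8 lt (Nat.succ m)) (e8 pt (Nat.succ m)) (Nat.succ m) n)))) && chkM tb mt lt pt n q m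

theorem chkM_sound {tb mt lt pt n q : ℕ} {x v : ℕ → G} (hn : 0 < n) (hv0 : v 0 = 1)
    (hrow : ∀ j < n, ent mt 0 j = j)
    (hst : ∀ c, 1 ≤ c → c < q → ∀ j < n, ent tb c j < n ∧ v (ent tb c j) = x c * v j) :
    ∀ m, chkM tb mt lt pt n q m = true → ∀ i ≤ m, ∀ j < n, ent mt i j < n ∧ v (ent mt i j) = v i * v j
  | 0, _ => by
    intro i hi j hj
    obtain rfl : i = 0 := by omega
    rw [hrow j hj, hv0, one_mul]
    exact ⟨hj, rfl⟩
  | m + 1, h => by
    rw [chkM, Bool.and_eq_true] at h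
    have ih := chkM_sound hn hv0 hrow hst m h.2
    intro i hi
    rcases Nat.lt_succ_iff_lt_or_eq.1 (Nat.lt_succ_of_le hi) with hi | rfl
    · exact ih i (by omega)
    · obtain ⟨h1, h2⟩ := h
      rw [Bool.and_eq_true, Bool.and_eq_true, Bool.and_eq_true, Bool.and_eq_true] at h1
      obtain ⟨a1, a2, a3, a4, a5⟩ := h1
      have b1 : e8 pt (m + 1) ≤ m := Nat.le_of_ble_eq_true a1
      have b2 : 1 ≤ e8 lt (m + 1) := Nat.le_of_ble_eq_true a2
      have b3 : e8 lt (m + 1) < q := Nat.lt_of_lt_of_le (Nat.lt_succ_self _) (Nat.le_of_ble_eq_true a3)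
      have b4 : ent mt (m + 1) 0 = m + 1 := Nat.eq_of_beq_eq_true a4
      have b5 := chkRow_sound n a5
      have key : ∀ j < n, ent mt (m + 1) j < n ∧ v (ent mt (m + 1) j) = x (e8 lt (m + 1)) * (v (e8 pt (m + 1)) * v j) := by
        intro j hj
        obtain ⟨c1, c2⟩ := ih _ b1 j hj
        obtain ⟨d1, d2⟩ := hst _ b2 b3 _ c1
        have e1 : ent mt (m + 1) j = ent tb (e8 lt (m + 1)) (ent mt (e8 pt (m + 1)) j) := b5 j hj
        rw [e1]
        exact ⟨d1, by rw [d2, c2]⟩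
      intro j hj
      obtain ⟨k1, k2⟩ := key j hj
      obtain ⟨-, k3⟩ := key 0 hn
      rw [b4, hv0, mul_one] at k3
      exact ⟨k1, by rw [k2, k3, mul_assoc]⟩

end Cfsg.Agent.Lib.M12Tab
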