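import Mathlib
import Cfsg.Agent.Lib.M12B
import Cfsg.Agent.Lib.M12C

/-!
# Principal blocks of prime defect with `|C(P)| = p`, `|N(P)| = p (p - 1) / 2`, `p = 3` mod 4 (helper7)
-/

set_option autoImplicit false
set_option linter.all false

namespace Cfsg.Agent.Lib.QBlk

open Subgroup Cfsg Cfsg.Agent.Lib.CharBasic Cfsg.Agent.Lib.ColTools Cfsg.Agent.Lib.SmallSimple
  Cfsg.Agent.Lib.PBlock
open scoped ComplexConjugate

universe u

variable {G : Type u} [Group G] [Finite G]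

/-- the principal block -/
structure QB (p k : ℕ) (x : G) (A : Fin k → IrrCharacter G) (m : Fin k → ℤ) (Y : IrrCharacter G) (a : ℤ) : Prop where
  inj : Function.Injective A
  At : ∀ i, A i ≠ triv G
  AY : ∀ i, A i ≠ Y
  AcY : ∀ i, A i ≠ cc Y
  Yt : Y ≠ triv G
  cYt : cc Y ≠ triv G
  cYY : cc Y ≠ Y
  m_pm : ∀ i, m i = 1 ∨ m i = -1
  a_pm : a = 1 ∨ a = -1
  vA : ∀ i, (A i : G → ℂ) x = m i ∧ (A i : G → ℂ) x⁻¹ = m i
  vY : (Y : G → ℂ) x + (Y : G → ℂ) x⁻¹ = a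
  nY : 4 * ((Y : G → ℂ) x * (Y : G → ℂ) x⁻¹) = 1 + p
  out : ∀ χ, χ ≠ triv G → (∀ i, χ ≠ A i) → χ ≠ Y → χ ≠ cc Y → (χ : G → ℂ) x = 0 ∧ (χ : G → ℂ) x⁻¹ = 0 ∧ p ∣ deg χ
  rel : ∀ g, ¬ IsConj g x → ¬ IsConj g x⁻¹ → 1 + ∑ i, (m i : ℂ) * (A i : G → ℂ) g + a * (Y : G → ℂ) g = 0
  real : ∀ g, ¬ IsConj g x → ¬ IsConj g x⁻¹ → (Y : G → ℂ) g⁻¹ = (Y : G → ℂ) g
  degA : ∀ i, ∃ s : ℤ, 0 ≤ s ∧ (deg (A i) : ℤ) = m i + p * s
  degY : ∃ s : ℤ, 0 ≤ s ∧ 2 * (deg Y : ℤ) = a + p * s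
  mono : Monotone (fun i => deg (A i))

theorem exists_qb {p k : ℕ} [hpp : Fact p.Prime] (hp : p % 4 = 3) (hk0 : 0 < k) (hk : p = 2 * k + 3) (hsq : ¬ p ^ 2 ∣ Nat.card G) (x : G)
    (hx : orderOf x = p) (hC : Nat.card (centralizer ({x} : Set G)) = p)
    (hN : Nat.card (normalizer (zpowers x : Set G)) = p * ((p - 1) / 2)) :
    ∃ A m Y a, QB p k x A m Y a := by
  classical
  have hp0 : 0 < p := hpp.out.pos
  have hk1 : (p - 1) / 2 = k + 1 := by omega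
  rw [hk1] at hN
  obtain ⟨hconj, hnr⟩ := QRConj.qr x hx hp (by rw [hN, hk1]) hC
  have hx11 : x ^ p = 1 := by rw [← hx]; exact pow_orderOf_eq_one x
  obtain ⟨m, X, aX, hXX, hX1, hX2, hmX, hmX', hm1, hodd, hval, hvX, hnX, hdeg, hdegX, hnorm, hrel⟩ :=
    quad_block (p := p) hp x hx11 hconj hC hnr
  -- the Sylow subgroup
  have hcard : Nat.card (zpowers x) = p := by rw [Nat.card_zpowers, hx]
  have hpg : IsPGroup p (zpowers x) := IsPGroup.of_card (n := 1) (by rw [hcard, pow_one])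
  obtain ⟨P, hP⟩ := hpg.exists_le_sylow
  have h1 : Nat.card (P : Subgroup G) = p := by
    obtain ⟨j, hj⟩ := IsPGroup.iff_card.1 P.isPGroup'
    have h2 := Subgroup.card_dvd_of_le hP
    rw [hcard] at h2
    rw [hj] at h2 ⊢
    rcases Nat.lt_or_ge j 2 with h | h
    · interval_cases j
      · rw [pow_zero] at h2; exact absurd (Nat.dvd_one.1 h2) hpp.out.one_lt.ne'
      · rw [pow_one]
    · exfalso
      apply hsq
      exact (pow_dvd_pow p h).trans (hj ▸ Subgroup.card_subgroup_dvd_card (P : Subgroup G))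
  have hPeq : (P : Subgroup G) = zpowers x := (eq_of_le_of_card_ge hP (by rw [h1, hcard])).symm
  have hCz : centralizer ({x} : Set G) = centralizer (zpowers x : Set G) := by
    apply le_antisymm
    · intro g hg
      rw [mem_centralizer_singleton_iff] at hg
      rw [mem_centralizer_iff]
      intro y hy
      obtain ⟨n, rfl⟩ := mem_zpowers_iff.1 hy
      exact (((Commute.zpow_right (show Commute g x from hg) n))).symm
    · exact centralizer_le (by simp)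
  have he : (centralizer ((P : Subgroup G) : Set G)).relIndex (normalizer ((P : Subgroup G) : Set G)) = k + 1 := by
    have h4 := (index_mul P h1).1
    have h5 := card_normalizer_mul_nsyl P
    rw [hPeq] at h4 h5 ⊢
    rw [hN] at h5
    rw [← hCz] at h4 ⊢
    rw [hC] at h4
    have h6 : 0 < Nat.card (Sylow p G) := Nat.card_pos
    have h7 : Nat.card (Sylow p G) * (p * ((centralizer ({x} : Set G)).relIndex (normalizer ((zpowers x : Subgroup G) : Set G)))) =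
        Nat.card (Sylow p G) * (p * (k + 1)) := by
      rw [mul_comm _ p] at h4
      rw [h4, ← h5]; ring
    exact Nat.eq_of_mul_eq_mul_left hp0 (Nat.eq_of_mul_eq_mul_left h6 h7)
  obtain ⟨B⟩ := exists_pb P h1 (e := k + 1) (t := 2) he (by omega) (by norm_num)
  have hxC : x ∈ centralizer ((P : Subgroup G) : Set G) := by
    rw [hPeq, mem_centralizer_iff]
    intro y hy
    obtain ⟨n, rfl⟩ := mem_zpowers_iff.1 hy
    exact ((Commute.refl x).zpow_left n)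
  have hxv : ∀ χ ∈ B.X, (χ : G → ℂ) x = B.δ χ ∧ (χ : G → ℂ) x⁻¹ = B.δ χ := fun χ hχ =>
    ⟨B.valX χ hχ x hxC (by rw [hx]), B.valX χ hχ _ (inv_mem hxC) (by rw [orderOf_inv, hx])⟩
  have hsq : ∀ χ ∈ B.X, (B.δ χ : ℂ) * B.δ χ = 1 := by
    intro χ hχ
    rcases B.δ_pm χ hχ with h | h <;> rw [h] <;> norm_num
  have hp7 : 4 < (p : ℤ) := by
    have : 4 < p := by omega
    exact_mod_cast this
  have hnX1 : X ∉ B.X := by
    intro h
    obtain ⟨e1, e2⟩ := hxv X h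
    rw [e1, e2, hsq X h] at hnX
    have : ((4 * 1 : ℤ) : ℂ) = ((aX ^ 2 + p : ℤ) : ℂ) := by push_cast; push_cast at hnX; linear_combination hnX
    have : (4 * 1 : ℤ) = aX ^ 2 + p := by exact_mod_cast this
    nlinarith [sq_nonneg aX]
  have hccv : (cc X : G → ℂ) x = (X : G → ℂ) x⁻¹ ∧ (cc X : G → ℂ) x⁻¹ = (X : G → ℂ) x := by
    rw [cc_apply, cc_apply, conj_apply, conj_apply, inv_inv]; exact ⟨rfl, rfl⟩
  have hnX2 : cc X ∉ B.X := by
    intro h
    obtain ⟨e1, e2⟩ := hxv _ h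
    rw [hccv.1] at e1
    rw [hccv.2] at e2
    rw [e1, e2, hsq _ h] at hnX
    have : ((4 * 1 : ℤ) : ℂ) = ((aX ^ 2 + p : ℤ) : ℂ) := by push_cast; push_cast at hnX; linear_combination hnX
    have : (4 * 1 : ℤ) = aX ^ 2 + p := by exact_mod_cast this
    nlinarith [sq_nonneg aX]
  have hmδ : ∀ χ ∈ B.X, m χ = B.δ χ := by
    intro χ hχ
    have e1 := (hval χ (fun h => hnX1 (h ▸ hχ)) (fun h => hnX2 (h ▸ hχ))).1
    rw [(hxv χ hχ).1] at e1
    exact_mod_cast e1.symm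
  have hm2 : ∀ χ ∈ B.X, m χ ^ 2 = 1 := by
    intro χ hχ
    rw [hmδ χ hχ]
    rcases B.δ_pm χ hχ with h | h <;> rw [h] <;> norm_num
  have hsum5 : ∑ χ ∈ B.X, m χ ^ 2 = k + 1 := by
    rw [Finset.sum_congr rfl hm2, Finset.sum_const, B.cardX, nsmul_eq_mul, mul_one]; push_cast; ring
  have hle : ∑ χ ∈ B.X, m χ ^ 2 ≤ ∑ χ, m χ ^ 2 :=
    Finset.sum_le_sum_of_subset_of_nonneg (Finset.subset_univ _) (fun χ _ _ => sq_nonneg _)
  have hpk : (p : ℤ) = 2 * k + 3 := by exact_mod_cast hk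
  have haX2 : aX ^ 2 = 1 := by
    have h4 : 0 < aX ^ 2 := by
      have : aX ≠ 0 := by intro h; rw [h] at hodd; norm_num at hodd
      positivity
    rw [hsum5] at hle
    push_cast at hnorm
    linarith
  have htot : ∑ χ, m χ ^ 2 = k + 1 := by push_cast at hnorm; linarith
  have hm0 : ∀ χ, χ ∉ B.X → m χ = 0 := by
    intro χ hχ
    have h4 : ∑ χ' ∈ insert χ B.X, m χ' ^ 2 ≤ ∑ χ, m χ ^ 2 :=
      Finset.sum_le_sum_of_subset_of_nonneg (Finset.subset_univ _) (fun χ _ _ => sq_nonneg _)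
    rw [Finset.sum_insert hχ, hsum5, htot] at h4
    have h5 : m χ ^ 2 = 0 := le_antisymm (by linarith) (sq_nonneg _)
    exact pow_eq_zero_iff (two_ne_zero) |>.1 h5
  have hac : (B.X.erase (triv G)).card = k := by rw [Finset.card_erase_of_mem B.tX, B.cardX]; omega
  let ε := ((B.X.erase (triv G)).equivFinOfCardEq hac).symm
  let A0 : Fin k → IrrCharacter G := fun i => (ε i : IrrCharacter G)
  let σ := Tuple.sort (fun i => deg (A0 i))
  let A : Fin k → IrrCharacter G := fun i => A0 (σ i)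
  have hAinj : Function.Injective A := by
    intro i j h
    exact σ.injective (ε.injective (Subtype.ext h))
  have hAmem : ∀ i, A i ∈ B.X ∧ A i ≠ triv G := by
    intro i
    have := Finset.mem_erase.1 (ε (σ i)).2
    exact ⟨this.2, this.1⟩
  have hAsurj : ∀ χ ∈ B.X, χ ≠ triv G → ∃ i, χ = A i := by
    intro χ hχ hχ1
    refine ⟨σ.symm (ε.symm ⟨χ, Finset.mem_erase.2 ⟨hχ1, hχ⟩⟩), ?_⟩
    show χ = (ε (σ (σ.symm (ε.symm _))) : IrrCharacter G)
    rw [Equiv.apply_symm_apply, Equiv.apply_symm_apply]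
  have hXA : ∀ i, A i ≠ X := fun i h => hnX1 (h ▸ (hAmem i).1)
  have hXA' : ∀ i, A i ≠ cc X := fun i h => hnX2 (h ▸ (hAmem i).1)
  refine ⟨A, fun i => m (A i), X, aX, ⟨hAinj, fun i => (hAmem i).2, hXA, hXA', hX1, hX2, hXX, ?_, ?_, ?_, hvX, ?_, ?_, ?_, ?_, ?_, ?_, ?_⟩⟩
  · intro i
    exact sq_eq_one_iff.1 (hm2 _ (hAmem i).1)
  · exact sq_eq_one_iff.1 haX2
  · intro i
    exact hval _ (hXA i) (hXA' i)
  · have h4 : (aX : ℂ) ^ 2 = 1 := by exact_mod_cast haX2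
    push_cast at hnX
    linear_combination hnX + h4
  · intro χ hχ1 hχ2 hχ3 hχ4
    have h4 : χ ∉ B.X := by
      intro h
      obtain ⟨i, hi⟩ := hAsurj χ h hχ1
      exact hχ2 i hi
    obtain ⟨e1, e2⟩ := hval χ hχ3 hχ4
    rw [hm0 χ h4] at e1 e2
    refine ⟨by rw [e1]; norm_num, by rw [e2]; norm_num, ?_⟩
    obtain ⟨s, -, hs⟩ := hdeg χ hχ3 hχ4
    rw [hm0 χ h4, zero_add] at hs
    have h5 : (p : ℤ) ∣ (deg χ : ℤ) := ⟨s, by exact_mod_cast hs⟩
    exact_mod_cast h5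
  · intro g hg1 hg2
    obtain ⟨e1, -⟩ := hrel g hg1 hg2
    have e2 : ∑ χ : IrrCharacter G, (m χ : ℂ) * (χ : G → ℂ) g = 1 + ∑ i, (m (A i) : ℂ) * (A i : G → ℂ) g := by
      rw [← Finset.sum_subset (Finset.subset_univ B.X) (fun χ _ hχ => by rw [hm0 χ hχ]; push_cast; ring)]
      rw [← Finset.add_sum_erase _ _ B.tX, hm1, triv_apply]
      congr 1
      · norm_num
      · have e3 : ∑ i, (m (A i) : ℂ) * (A i : G → ℂ) g = ∑ i : Fin k, (m (A0 i) : ℂ) * (A0 i : G → ℂ) g :=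
          Equiv.sum_comp σ (fun i => (m (A0 i) : ℂ) * (A0 i : G → ℂ) g)
        rw [e3, ← Finset.sum_coe_sort]
        exact (Equiv.sum_comp ε (fun χ => (m (χ : IrrCharacter G) : ℂ) * ((χ : IrrCharacter G) : G → ℂ) g)).symm
    rw [e2] at e1
    exact e1
  · intro g hg1 hg2
    exact (hrel g hg1 hg2).2
  · intro i
    exact hdeg _ (hXA i) (hXA' i)
  · exact hdegX
  · exact Tuple.monotone_sort (fun i => deg (A0 i))

end Cfsg.Agent.Lib.QBlk
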