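import Mathlib
import Cfsg.Agent.Lib.QBlk
import Cfsg.Agent.Lib.M12G

/-!
# Tools for the blocks of `QBlk`, and the case `p = 5`, `|C(P)| = 5`, `|N(P)| = 20` (helper7)
-/

set_option autoImplicit false
set_option linter.all false

namespace Cfsg.Agent.Lib.QBlk

open Subgroup Cfsg Cfsg.Agent.Lib.CharBasic Cfsg.Agent.Lib.ColTools Cfsg.Agent.Lib.SmallSimple
  Cfsg.Agent.Lib.PBlock
open scoped ComplexConjugate

universe u

variable {G : Type u} [Group G] [Finite G]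

/-- number of occurrences of `d` -/
def ct (d : ℕ) (L : List ℕ) : ℕ := (L.map fun e => if e = d then 1 else 0).sum

section QBsec

variable {p k : ℕ} {x : G} {A : Fin k → IrrCharacter G} {m : Fin k → ℤ} {Y : IrrCharacter G} {a : ℤ}

theorem QB.sum (b : QB p k x A m Y a) {M : Type*} [AddCommMonoid M] {f : IrrCharacter G → M}
    (hf : ∀ χ, χ ≠ triv G → (∀ i, χ ≠ A i) → χ ≠ Y → χ ≠ cc Y → f χ = 0) :
    ∑ χ, f χ = f (triv G) + ∑ i, f (A i) + f Y + f (cc Y) := by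
  classical
  have h1 : (Finset.univ.image A) ⊆ (Finset.univ : Finset (IrrCharacter G)) := Finset.subset_univ _
  have h2 : ∑ i, f (A i) = ∑ χ ∈ Finset.univ.image A, f χ := by
    rw [Finset.sum_image (fun i _ j _ h => b.inj h)]
  have ht : triv G ∉ Finset.univ.image A := by
    intro h
    obtain ⟨i, -, hi⟩ := Finset.mem_image.1 h
    exact b.At i hi
  have hY : Y ∉ insert (triv G) (Finset.univ.image A) := by
    intro h
    rcases Finset.mem_insert.1 h with h | h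
    · exact b.Yt h
    · obtain ⟨i, -, hi⟩ := Finset.mem_image.1 h
      exact b.AY i hi
  have hcY : cc Y ∉ insert Y (insert (triv G) (Finset.univ.image A)) := by
    intro h
    rcases Finset.mem_insert.1 h with h | h
    · exact b.cYY h
    rcases Finset.mem_insert.1 h with h | h
    · exact b.cYt h
    · obtain ⟨i, -, hi⟩ := Finset.mem_image.1 h
      exact b.AcY i hi
  rw [h2, ← Finset.sum_subset (Finset.subset_univ (insert (cc Y) (insert Y (insert (triv G) (Finset.univ.image A))))),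
    Finset.sum_insert hcY, Finset.sum_insert hY, Finset.sum_insert ht]
  · abel
  · intro χ _ hχ
    simp only [Finset.mem_insert, Finset.mem_image, Finset.mem_univ, true_and, not_or, not_exists] at hχ
    obtain ⟨e1, e2, e3, e4⟩ := hχ
    exact hf χ e3 (fun i h => e4 i h.symm) e2 e1

theorem QB.count (b : QB p k x A m Y a) {d : ℕ} (hd : ¬ p ∣ d) :
    (Finset.univ.filter fun χ : IrrCharacter G => deg χ = d).card =
      (if 1 = d then 1 else 0) + ∑ i, (if deg (A i) = d then 1 else 0) + (if deg Y = d then 1 else 0) + (if deg Y = d then 1 else 0) := by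
  rw [Finset.card_filter, b.sum]
  · rw [deg_triv, deg_cc]
  · intro χ h1 h2 h3 h4
    rw [if_neg]
    rintro rfl
    exact hd (b.out χ h1 h2 h3 h4).2.2

theorem not_isConj_of_order {g x : G} {p : ℕ} (hx : orderOf x = p) (hg : orderOf g ≠ p) : ¬ IsConj g x ∧ ¬ IsConj g x⁻¹ := by
  constructor
  · intro h; exact hg (by rw [M11ByOrder.isConj_order h, hx])
  · intro h; exact hg (by rw [M11ByOrder.isConj_order h, orderOf_inv, hx])

theorem QB.rel1 (hx : orderOf x = p) (hp1 : p ≠ 1) (b : QB p k x A m Y a) :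
    1 + ∑ i, m i * (deg (A i) : ℤ) + a * deg Y = 0 := by
  obtain ⟨h1, h2⟩ := not_isConj_of_order (g := (1 : G)) hx (by rw [orderOf_one]; exact fun h => hp1 h.symm)
  have h3 := b.rel 1 h1 h2
  simp only [apply_one] at h3
  have : ((1 + ∑ i, m i * (deg (A i) : ℤ) + a * deg Y : ℤ) : ℂ) = 0 := by
    push_cast; exact h3
  exact_mod_cast this

theorem QB.not_dvd (hp1 : 1 < p) (b : QB p k x A m Y a) (i : Fin k) : ¬ p ∣ deg (A i) := by
  intro h
  obtain ⟨s, -, hs⟩ := b.degA i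
  have h1 : (p : ℤ) ∣ (deg (A i) : ℤ) := by exact_mod_cast h
  have h2 : (p : ℤ) ∣ m i := by
    have : m i = (deg (A i) : ℤ) - p * s := by linarith
    rw [this]
    exact dvd_sub h1 (dvd_mul_right _ _)
  have h3 : (p : ℤ) ∣ 1 := by
    rcases b.m_pm i with h | h <;> rw [h] at h2
    · exact h2
    · exact (dvd_neg.1 h2)
  have h4 := Int.le_of_dvd (by norm_num) h3
  have : (1 : ℤ) < p := by exact_mod_cast hp1
  linarith

theorem QB.not_dvdY (hp1 : 1 < p) (b : QB p k x A m Y a) : ¬ p ∣ deg Y := by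
  intro h
  obtain ⟨s, -, hs⟩ := b.degY
  have h1 : (p : ℤ) ∣ (deg Y : ℤ) := by exact_mod_cast h
  have h2 : (p : ℤ) ∣ a := by
    have : a = 2 * (deg Y : ℤ) - p * s := by linarith
    rw [this]
    exact dvd_sub (h1.mul_left 2) (dvd_mul_right _ _)
  have h3 : (p : ℤ) ∣ 1 := by
    rcases b.a_pm with h | h <;> rw [h] at h2
    · exact h2
    · exact (dvd_neg.1 h2)
  have h4 := Int.le_of_dvd (by norm_num) h3
  have : (1 : ℤ) < p := by exact_mod_cast hp1
  linarith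

/-- the degree divides the `p'`-part -/
theorem dvd_N {N : ℕ} (hp : p.Prime) (hG : Nat.card G = p * N) (χ : IrrCharacter G) (h : ¬ p ∣ deg χ) : deg χ ∣ N := by
  have h1 := deg_dvd χ
  rw [hG] at h1
  exact Nat.Coprime.dvd_of_dvd_mul_left ((Nat.Prime.coprime_iff_not_dvd hp).2 h).symm h1

theorem cast_divN {N d : ℕ} (hN : N ≠ 0) (hd : d ∣ N) : (((N / d : ℕ) : ℤ) : ℂ) = N / (d : ℂ) := by
  have h2 : d ≠ 0 := by rintro rfl; rw [zero_dvd_iff] at hd; exact hN hd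
  rw [Int.cast_natCast, Nat.cast_div hd (by exact_mod_cast h2)]

/-- structure constants on `p`-regular elements -/
theorem QB.E {N : ℕ} (hp : p.Prime) (hG : Nat.card G = p * N) (hx : orderOf x = p) (b : QB p k x A m Y a)
    {g h : G} {v w : Fin k → ℤ} {vY wY : ℤ} (hv : ∀ i, (A i : G → ℂ) g = v i) (hw : ∀ i, (A i : G → ℂ) h = w i)
    (hvY : (Y : G → ℂ) g = vY) (hwY : (Y : G → ℂ) h = wY) :
    (Nat.card {q : G × G // IsConj g q.1 ∧ IsConj h q.2 ∧ q.1 * q.2 = x} : ℤ) *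
      (Nat.card (centralizer ({g} : Set G)) * Nat.card (centralizer ({h} : Set G))) =
      p * (N + ∑ i, m i * v i * w i * ((N / deg (A i) : ℕ) : ℤ) + a * vY * wY * ((N / deg Y : ℕ) : ℤ)) := by
  have hN0 : N ≠ 0 := by
    rintro rfl
    rw [mul_zero] at hG
    exact (Nat.card_pos (α := G)).ne' hG
  have h1 := struct_const g h x
  rw [hG] at h1
  rw [b.sum (f := fun χ => (χ : G → ℂ) g * (χ : G → ℂ) h * (χ : G → ℂ) x⁻¹ / (χ : G → ℂ) 1) (fun χ e1 e2 e3 e4 => by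
    rw [(b.out χ e1 e2 e3 e4).2.1]; simp)] at h1
  have hc1 : (cc Y : G → ℂ) g = vY := by rw [cc_apply, hvY, map_intCast]
  have hc2 : (cc Y : G → ℂ) h = wY := by rw [cc_apply, hwY, map_intCast]
  have hc3 : (cc Y : G → ℂ) x⁻¹ = (Y : G → ℂ) x := by rw [cc_apply, conj_apply, inv_inv]
  simp only [triv_apply, hv, hw, hvY, hwY, hc1, hc2, hc3, (b.vA _).2, apply_one, deg_cc, mul_one, div_one] at h1
  have hN0' : (N : ℂ) ≠ 0 := by exact_mod_cast hN0
  obtain ⟨q, hq⟩ : ∃ q : Fin k → ℤ, ∀ i, ((N / deg (A i) : ℕ) : ℤ) = q i := ⟨_, fun i => rfl⟩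
  obtain ⟨qY, hqY⟩ : ∃ qY : ℤ, ((N / deg Y : ℕ) : ℤ) = qY := ⟨_, rfl⟩
  have h2 : ∀ i, (v i : ℂ) * w i * m i / (deg (A i) : ℂ) = (1 / N) * (m i * v i * w i * (q i : ℂ)) := by
    intro i
    rw [← hq, cast_divN hN0 (dvd_N hp hG _ (b.not_dvd hp.one_lt i))]
    field_simp
  rw [Finset.sum_congr rfl (fun i _ => h2 i), ← Finset.mul_sum] at h1
  have h3 : (vY : ℂ) * wY * (Y : G → ℂ) x⁻¹ / (deg Y : ℂ) + (vY : ℂ) * wY * (Y : G → ℂ) x / (deg Y : ℂ) =
      (1 / N) * (a * vY * wY * (qY : ℂ)) := by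
    rw [← hqY, cast_divN hN0 (dvd_N hp hG _ (b.not_dvdY hp.one_lt)), ← b.vY]
    field_simp
    ring
  simp only [hq, hqY]
  obtain ⟨S, hS⟩ : ∃ S : ℤ, ∑ i, m i * v i * w i * q i = S := ⟨_, rfl⟩
  have hS' : ∑ i, (m i : ℂ) * v i * w i * (q i : ℂ) = S := by rw [← hS]; push_cast; rfl
  rw [hS'] at h1
  rw [hS]
  have h4 : (((Nat.card {q : G × G // IsConj g q.1 ∧ IsConj h q.2 ∧ q.1 * q.2 = x} : ℤ) *
      (Nat.card (centralizer ({g} : Set G)) * Nat.card (centralizer ({h} : Set G))) : ℤ) : ℂ) =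
    ((p * (N + S + a * vY * wY * qY) : ℤ) : ℂ) := by
    push_cast
    push_cast at h1
    rw [h1]
    have h5 : ((p : ℂ) * N) * (1 + (1 / N) * S +
        (vY : ℂ) * wY * (Y : G → ℂ) x⁻¹ / (deg Y : ℂ) + (vY : ℂ) * wY * (Y : G → ℂ) x / (deg Y : ℂ)) =
        p * (N + S) + ((p : ℂ) * N) * ((vY : ℂ) * wY * (Y : G → ℂ) x⁻¹ / (deg Y : ℂ) + (vY : ℂ) * wY * (Y : G → ℂ) x / (deg Y : ℂ)) := by
      have h6 : (N : ℂ) * (1 / N * S) = S := by field_simp
      linear_combination (p : ℂ) * h6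
    rw [h5, h3]
    field_simp
  exact_mod_cast h4

/-- the equation for involutions -/
theorem QB.E_inv {N : ℕ} (hp : p.Prime) (hG : Nat.card G = p * N) (hx : orderOf x = p) (hnr : ¬ IsConj x x⁻¹) (b : QB p k x A m Y a)
    {z : G} (hz : z ^ 2 = 1) {v : Fin k → ℤ} {vY : ℤ} (hv : ∀ i, (A i : G → ℂ) z = v i) (hvY : (Y : G → ℂ) z = vY) :
    (N : ℤ) + ∑ i, m i * v i * v i * ((N / deg (A i) : ℕ) : ℤ) + a * vY * vY * ((N / deg Y : ℕ) : ℤ) = 0 := by
  have h1 := b.E hp hG hx hv hv hvY hvY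
  have h2 : IsEmpty {q : G × G // IsConj z q.1 ∧ IsConj z q.2 ∧ q.1 * q.2 = x} :=
    ⟨fun p => M11ByOrder.not_prod hnr hz hz p.1.1 p.1.2 p.2.1 p.2.2.1 p.2.2.2⟩
  rw [Nat.card_of_isEmpty, Nat.cast_zero, zero_mul] at h1
  have hp0 : (p : ℤ) ≠ 0 := by exact_mod_cast hp.pos.ne'
  exact (mul_eq_zero.1 h1.symm).resolve_left hp0

end QBsec

/-- the principal 5-block with `|C(P)| = 5` and `|N(P)| = 20` -/
structure Q5 (y : G) (D : Fin 4 → IrrCharacter G) (n : Fin 4 → ℤ) : Prop where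
  inj : Function.Injective D
  Dt : ∀ i, D i ≠ triv G
  n_pm : ∀ i, n i = 1 ∨ n i = -1
  vD : ∀ i, (D i : G → ℂ) y = n i ∧ (D i : G → ℂ) y⁻¹ = n i
  out : ∀ χ, χ ≠ triv G → (∀ i, χ ≠ D i) → (χ : G → ℂ) y = 0 ∧ (χ : G → ℂ) y⁻¹ = 0 ∧ 5 ∣ deg χ
  rel : ∀ g, ¬ IsConj g y → 1 + ∑ i, (n i : ℂ) * (D i : G → ℂ) g = 0
  degD : ∀ i, ∃ s : ℤ, (deg (D i) : ℤ) = n i + 5 * s
  mono : Monotone (fun i => deg (D i))

theorem four_ne : ((4 : ℕ) : ZMod 5) ≠ 0 := by decide

theorem exists_q5 (hsq : ¬ 5 ^ 2 ∣ Nat.card G) (y : G) (hy : orderOf y = 5) (hC : Nat.card (centralizer ({y} : Set G)) = 5)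
    (hN : Nat.card (normalizer (zpowers y : Set G)) = 20) : ∃ D n, Q5 y D n := by
  classical
  have hpp : Fact (Nat.Prime 5) := ⟨by norm_num⟩
  -- all powers are conjugate
  have hconj : ∀ k : ℕ, (k : ZMod 5) ≠ 0 → IsConj y (y ^ k) := by
    have h1 := QRConj.card_expo y hy
    rw [hN, hC] at h1
    have h2 : Nat.card (QRConj.expo y hy) = 4 := by omega
    have h3 : Nat.card (ZMod 5)ˣ = 4 := by rw [Nat.card_eq_fintype_card, ZMod.card_units]
    have h4 : QRConj.expo y hy = ⊤ := by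
      apply Subgroup.eq_top_of_card_eq
      rw [h2, h3]
    intro k hk
    rw [← QRConj.mem_expo_iff y hy k hk, h4]
    trivial
  -- the Sylow subgroup
  have hcard : Nat.card (zpowers y) = 5 := by rw [Nat.card_zpowers, hy]
  have hpg : IsPGroup 5 (zpowers y) := IsPGroup.of_card (n := 1) (by rw [hcard, pow_one])
  obtain ⟨P, hP⟩ := hpg.exists_le_sylow
  have h1 : Nat.card (P : Subgroup G) = 5 := by
    obtain ⟨j, hj⟩ := IsPGroup.iff_card.1 P.isPGroup'
    have h2 := Subgroup.card_dvd_of_le hP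
    rw [hcard] at h2
    rw [hj] at h2 ⊢
    rcases Nat.lt_or_ge j 2 with h | h
    · interval_cases j
      · rw [pow_zero] at h2; norm_num at h2
      · rw [pow_one]
    · exfalso
      apply hsq
      exact (pow_dvd_pow 5 h).trans (hj ▸ Subgroup.card_subgroup_dvd_card (P : Subgroup G))
  have hPeq : (P : Subgroup G) = zpowers y := (eq_of_le_of_card_ge hP (by rw [h1, hcard])).symm
  have hCz : centralizer ({y} : Set G) = centralizer (zpowers y : Set G) := by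
    apply le_antisymm
    · intro g hg
      rw [mem_centralizer_singleton_iff] at hg
      rw [mem_centralizer_iff]
      intro y' hy'
      obtain ⟨n, rfl⟩ := mem_zpowers_iff.1 hy'
      exact (((Commute.zpow_right (show Commute g y from hg) n))).symm
    · exact centralizer_le (by simp)
  have he : (centralizer ((P : Subgroup G) : Set G)).relIndex (normalizer ((P : Subgroup G) : Set G)) + 1 = 5 := by
    have h4 := (index_mul P h1).1
    have h5 := card_normalizer_mul_nsyl P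
    rw [hPeq] at h4 h5 ⊢
    rw [hN] at h5
    rw [← hCz] at h4 ⊢
    rw [hC] at h4
    have h6 : 0 < Nat.card (Sylow 5 G) := Nat.card_pos
    have h7 : Nat.card (Sylow 5 G) * (5 * ((centralizer ({y} : Set G)).relIndex (normalizer ((zpowers y : Subgroup G) : Set G)))) =
        Nat.card (Sylow 5 G) * (5 * 4) := by
      rw [mul_comm _ 5] at h4
      rw [h4, ← h5]; ring
    have := Nat.eq_of_mul_eq_mul_left (by norm_num : 0 < 5) (Nat.eq_of_mul_eq_mul_left h6 h7)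
    omega
  obtain ⟨B⟩ := exists_pb1 P h1 he
  have hyC : y ∈ centralizer ((P : Subgroup G) : Set G) := by
    rw [hPeq, mem_centralizer_iff]
    intro y' hy'
    obtain ⟨n, rfl⟩ := mem_zpowers_iff.1 hy'
    exact ((Commute.refl y).zpow_left n)
  have hyv : ∀ χ ∈ B.X, (χ : G → ℂ) y = B.δ χ ∧ (χ : G → ℂ) y⁻¹ = B.δ χ := fun χ hχ =>
    ⟨B.valX χ hχ y hyC (by rw [hy]), B.valX χ hχ _ (inv_mem hyC) (by rw [orderOf_inv, hy])⟩
  have hrat : ∀ χ : IrrCharacter G, ∃ v : ℤ, (χ : G → ℂ) y = v ∧ ∀ k : ℕ, (k : ZMod 5) ≠ 0 → (χ : G → ℂ) (y ^ k) = v := by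
    intro χ
    obtain ⟨c0, c1, h1, -⟩ := rat_val (p := 5) χ y (by rw [← hy]; exact pow_orderOf_eq_one y) hconj
    refine ⟨(c0 : ℤ) - c1, h1, fun k hk => ?_⟩
    obtain ⟨g, hg⟩ := isConj_iff.1 (hconj k hk)
    rw [← hg, χ.2.isCharacter.isClassFunction, h1]
  choose V hV1 hV2 using hrat
  have hyi : y⁻¹ = y ^ 4 := by
    rw [inv_eq_iff_mul_eq_one, ← pow_succ']
    norm_num
    rw [← hy]; exact pow_orderOf_eq_one y
  have hVi : ∀ χ : IrrCharacter G, (χ : G → ℂ) y⁻¹ = V χ := by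
    intro χ
    rw [hyi]
    exact hV2 χ 4 four_ne
  have hnorm := col_orth_self y
  rw [hC] at hnorm
  simp only [hVi, hV1] at hnorm
  have hnorm' : ∑ χ, V χ ^ 2 = 5 := by
    have : ((∑ χ, V χ ^ 2 : ℤ) : ℂ) = ((5 : ℤ) : ℂ) := by
      push_cast
      have h5 : (5 : ℂ) = ((5 : ℕ) : ℂ) := by norm_num
      rw [h5, ← hnorm]
      exact Finset.sum_congr rfl fun χ _ => by ring
    exact_mod_cast this
  have hVδ : ∀ χ ∈ B.X, V χ = B.δ χ := by
    intro χ hχ
    have e1 := hV1 χ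
    rw [(hyv χ hχ).1] at e1
    exact_mod_cast e1.symm
  have hV2' : ∀ χ ∈ B.X, V χ ^ 2 = 1 := by
    intro χ hχ
    rw [hVδ χ hχ]
    rcases B.δ_pm χ hχ with h | h <;> rw [h] <;> norm_num
  have hsum5 : ∑ χ ∈ B.X, V χ ^ 2 = 5 := by
    rw [Finset.sum_congr rfl hV2', Finset.sum_const, B.cardX, nsmul_eq_mul, mul_one]; norm_num
  have hm0 : ∀ χ, χ ∉ B.X → V χ = 0 := by
    intro χ hχ
    have h4 : ∑ χ' ∈ insert χ B.X, V χ' ^ 2 ≤ ∑ χ, V χ ^ 2 :=
      Finset.sum_le_sum_of_subset_of_nonneg (Finset.subset_univ _) (fun χ _ _ => sq_nonneg _)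
    rw [Finset.sum_insert hχ, hsum5, hnorm'] at h4
    have h5 : V χ ^ 2 = 0 := le_antisymm (by linarith) (sq_nonneg _)
    exact pow_eq_zero_iff (two_ne_zero) |>.1 h5
  have hac : (B.X.erase (triv G)).card = 4 := by rw [Finset.card_erase_of_mem B.tX, B.cardX]
  let ε := ((B.X.erase (triv G)).equivFinOfCardEq hac).symm
  let A0 : Fin 4 → IrrCharacter G := fun i => (ε i : IrrCharacter G)
  let σ := Tuple.sort (fun i => deg (A0 i))
  let A : Fin 4 → IrrCharacter G := fun i => A0 (σ i)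
  have hAinj : Function.Injective A := by
    intro i j h
    exact σ.injective (ε.injective (Subtype.ext h))
  have hAmem : ∀ i, A i ∈ B.X ∧ A i ≠ triv G := by
    intro i
    have := Finset.mem_erase.1 (ε (σ i)).2
    exact ⟨this.2, this.1⟩
  have hAsurj : ∀ χ ∈ B.X, χ ≠ triv G → ∃ i, χ = A i := by
    intro χ hχ hχ1
    refine ⟨σ.symm (ε.symm ⟨χ, Finset.mem_erase.2 ⟨hχ1, hχ⟩⟩), ?_⟩
    show χ = (ε (σ (σ.symm (ε.symm _))) : IrrCharacter G)
    rw [Equiv.apply_symm_apply, Equiv.apply_symm_apply]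
  have hVt : V (triv G) = 1 := by
    have := hV1 (triv G)
    rw [triv_apply] at this
    exact_mod_cast this.symm
  refine ⟨A, fun i => V (A i), ⟨hAinj, fun i => (hAmem i).2, ?_, fun i => ⟨hV1 _, hVi _⟩, ?_, ?_, ?_, Tuple.monotone_sort (fun i => deg (A0 i))⟩⟩
  · intro i
    exact sq_eq_one_iff.1 (hV2' _ (hAmem i).1)
  · intro χ hχ1 hχ2
    have h4 : χ ∉ B.X := by
      intro h
      obtain ⟨i, hi⟩ := hAsurj χ h hχ1
      exact hχ2 i hi
    have h0 := hm0 χ h4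
    refine ⟨by rw [hV1, h0]; norm_num, by rw [hVi, h0]; norm_num, ?_⟩
    obtain ⟨c0, c1, e1, -⟩ := M12ByOrder.counts_const (p := 5) χ.2.isCharacter y (by rw [← hy]; exact pow_orderOf_eq_one y)
      (d := (deg χ : ℂ)) (v := 0) (apply_one χ) (fun k hk => by rw [hV2 χ k hk, h0]; norm_num)
    rw [mul_zero, add_zero] at e1
    exact ⟨c0, by exact_mod_cast e1⟩
  · intro g hg
    have h4 := col_orth_ne hg
    have h5 : ∑ χ : IrrCharacter G, (χ : G → ℂ) g * (χ : G → ℂ) y⁻¹ = ∑ χ ∈ B.X, (V χ : ℂ) * (χ : G → ℂ) g := by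
      rw [← Finset.sum_subset (Finset.subset_univ B.X) (fun χ _ hχ => by rw [hVi, hm0 χ hχ]; push_cast; ring)]
      exact Finset.sum_congr rfl fun χ _ => by rw [hVi]; ring
    rw [h5, ← Finset.add_sum_erase _ _ B.tX, hVt, triv_apply] at h4
    have e3 : ∑ i, (V (A i) : ℂ) * (A i : G → ℂ) g = ∑ i : Fin 4, (V (A0 i) : ℂ) * (A0 i : G → ℂ) g :=
      Equiv.sum_comp σ (fun i => (V (A0 i) : ℂ) * (A0 i : G → ℂ) g)
    have e4 : ∑ i : Fin 4, (V (A0 i) : ℂ) * (A0 i : G → ℂ) g = ∑ χ ∈ B.X.erase (triv G), (V χ : ℂ) * (χ : G → ℂ) g := by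
      rw [← Finset.sum_coe_sort (B.X.erase (triv G)) (fun χ => (V χ : ℂ) * (χ : G → ℂ) g)]
      exact (Equiv.sum_comp ε (fun χ => (V (χ : IrrCharacter G) : ℂ) * ((χ : IrrCharacter G) : G → ℂ) g))
    show 1 + ∑ i, ((V (A i) : ℤ) : ℂ) * (A i : G → ℂ) g = 0
    rw [e3, e4]
    rw [← h4]; push_cast; ring
  · intro i
    obtain ⟨k, hk⟩ := B.degX (A i) (hAmem i).1
    refine ⟨k, ?_⟩
    show (deg (A i) : ℤ) = V (A i) + 5 * k
    rw [hVδ _ (hAmem i).1]
    push_cast at hk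
    linarith

section Q5sec

variable {y : G} {D : Fin 4 → IrrCharacter G} {n : Fin 4 → ℤ}

theorem Q5.sum (b : Q5 y D n) {M : Type*} [AddCommMonoid M] {f : IrrCharacter G → M}
    (hf : ∀ χ, χ ≠ triv G → (∀ i, χ ≠ D i) → f χ = 0) : ∑ χ, f χ = f (triv G) + ∑ i, f (D i) := by
  classical
  have h2 : ∑ i, f (D i) = ∑ χ ∈ Finset.univ.image D, f χ := by
    rw [Finset.sum_image (fun i _ j _ h => b.inj h)]
  have ht : triv G ∉ Finset.univ.image D := by
    intro h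
    obtain ⟨i, -, hi⟩ := Finset.mem_image.1 h
    exact b.Dt i hi
  rw [h2, ← Finset.sum_subset (Finset.subset_univ (insert (triv G) (Finset.univ.image D))), Finset.sum_insert ht]
  intro χ _ hχ
  simp only [Finset.mem_insert, Finset.mem_image, Finset.mem_univ, true_and, not_or, not_exists] at hχ
  obtain ⟨e3, e4⟩ := hχ
  exact hf χ e3 (fun i h => e4 i h.symm)

theorem Q5.count (b : Q5 y D n) {d : ℕ} (hd : ¬ 5 ∣ d) :
    (Finset.univ.filter fun χ : IrrCharacter G => deg χ = d).card =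
      (if 1 = d then 1 else 0) + ∑ i, (if deg (D i) = d then 1 else 0) := by
  rw [Finset.card_filter, b.sum]
  · rw [deg_triv]
  · intro χ h1 h2
    rw [if_neg]
    rintro rfl
    exact hd (b.out χ h1 h2).2.2

theorem Q5.rel1 (hy : orderOf y = 5) (b : Q5 y D n) : 1 + ∑ i, n i * (deg (D i) : ℤ) = 0 := by
  have h1 : ¬ IsConj (1 : G) y := by
    intro h
    have := M11ByOrder.isConj_order h
    rw [orderOf_one, hy] at this
    norm_num at this
  have h3 := b.rel 1 h1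
  simp only [apply_one] at h3
  have : ((1 + ∑ i, n i * (deg (D i) : ℤ) : ℤ) : ℂ) = 0 := by
    push_cast; exact h3
  exact_mod_cast this

theorem Q5.not_dvd (b : Q5 y D n) (i : Fin 4) : ¬ 5 ∣ deg (D i) := by
  intro h
  obtain ⟨s, hs⟩ := b.degD i
  rcases b.n_pm i with h1 | h1 <;> rw [h1] at hs <;> omega

/-- structure constants on `5`-regular elements -/
theorem Q5.E {N : ℕ} (hG : Nat.card G = 5 * N) (hy : orderOf y = 5) (b : Q5 y D n)
    {g h : G} {v w : Fin 4 → ℤ} (hv : ∀ i, (D i : G → ℂ) g = v i) (hw : ∀ i, (D i : G → ℂ) h = w i) :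
    (Nat.card {q : G × G // IsConj g q.1 ∧ IsConj h q.2 ∧ q.1 * q.2 = y} : ℤ) *
      (Nat.card (centralizer ({g} : Set G)) * Nat.card (centralizer ({h} : Set G))) =
      5 * (N + ∑ i, n i * v i * w i * ((N / deg (D i) : ℕ) : ℤ)) := by
  have hN0 : N ≠ 0 := by
    rintro rfl
    rw [mul_zero] at hG
    exact (Nat.card_pos (α := G)).ne' hG
  have h1 := struct_const g h y
  rw [hG] at h1
  rw [b.sum (f := fun χ => (χ : G → ℂ) g * (χ : G → ℂ) h * (χ : G → ℂ) y⁻¹ / (χ : G → ℂ) 1) (fun χ e1 e2 => by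
    rw [(b.out χ e1 e2).2.1]; simp)] at h1
  simp only [triv_apply, hv, hw, (b.vD _).2, apply_one, mul_one, div_one] at h1
  have hN0' : (N : ℂ) ≠ 0 := by exact_mod_cast hN0
  obtain ⟨q, hq⟩ : ∃ q : Fin 4 → ℤ, ∀ i, ((N / deg (D i) : ℕ) : ℤ) = q i := ⟨_, fun i => rfl⟩
  have h2 : ∀ i, (v i : ℂ) * w i * n i / (deg (D i) : ℂ) = (1 / N) * (n i * v i * w i * (q i : ℂ)) := by
    intro i
    rw [← hq, cast_divN hN0 (dvd_N (by norm_num) hG _ (b.not_dvd i))]
    field_simp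
  rw [Finset.sum_congr rfl (fun i _ => h2 i), ← Finset.mul_sum] at h1
  simp only [hq]
  obtain ⟨S, hS⟩ : ∃ S : ℤ, ∑ i, n i * v i * w i * q i = S := ⟨_, rfl⟩
  have hS' : ∑ i, (n i : ℂ) * v i * w i * (q i : ℂ) = S := by rw [← hS]; push_cast; rfl
  rw [hS'] at h1
  rw [hS]
  have h4 : (((Nat.card {q : G × G // IsConj g q.1 ∧ IsConj h q.2 ∧ q.1 * q.2 = y} : ℤ) *
      (Nat.card (centralizer ({g} : Set G)) * Nat.card (centralizer ({h} : Set G))) : ℤ) : ℂ) =
    ((5 * (N + S) : ℤ) : ℂ) := by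
    push_cast
    push_cast at h1
    rw [h1]
    field_simp
  exact_mod_cast h4

end Q5sec

end Cfsg.Agent.Lib.QBlk
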