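import Mathlib
import Cfsg.Agent.Lib.QBlk2
import Cfsg.Agent.Lib.M12E

/-!
# Simple groups of order 443520, part A: degrees in the blocks of defect one (helper7)
-/

set_option autoImplicit false
set_option linter.all false

namespace Cfsg.Agent.Lib.M22N

open Subgroup Cfsg Cfsg.Agent.Lib.CharBasic Cfsg.Agent.Lib.ColTools Cfsg.Agent.Lib.SmallSimple
  Cfsg.Agent.Lib.PBlock Cfsg.Agent.Lib.QBlk
open Cfsg.Agent.Lib.M12ByOrder (inv mem_inv)
open scoped ComplexConjugate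

universe u

/-- the possible degrees, from the primes 11 and 7 -/
def AD : List ℕ := [1, 6, 10, 11, 21, 22, 28, 32, 45, 55, 56, 60, 66, 77, 88, 99, 105, 120, 126, 132, 144, 154, 160,
  165, 176, 192, 210, 220, 231, 252, 280, 308, 330, 336, 384, 385, 396, 440, 462, 528, 560, 616]

/-- the possible degrees, from the primes 11, 7 and 5 -/
def AD3 : List ℕ := [1, 6, 10, 11, 21, 45, 55, 56, 60, 66, 99, 105, 120, 126, 144, 154, 160, 165, 176, 210, 220, 231,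
  280, 330, 336, 384, 385, 396, 440, 560, 616]

theorem ar_AD : ∀ d ∈ List.range 666, d ∣ 443520 → d % 11 ∈ [0, 1, 10, 5, 6] → d % 7 ∈ [0, 1, 6, 3, 4] → d ∈ AD := by
  decide +kernel

theorem ar_AD3 : ∀ d ∈ AD, d % 5 ∈ [0, 1, 4] → d ∈ AD3 := by decide +kernel

def T7 : List (ℤ × ℕ) := [(-1, 6), (1, 22), (-1, 55), (1, 99), (1, 120), (-1, 132), (-1, 160), (1, 176), (1, 330), (-1, 384), (-1, 440)]
def TY7 : List (ℤ × ℕ) := [(-1, 10), (1, 11), (1, 32), (-1, 45), (1, 60), (-1, 66), (1, 88), (1, 144), (1, 165), (-1, 192), (-1, 220), (1, 396),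
  (-1, 528)]

theorem ar_T7 : ∀ d ∈ AD, d ≠ 1 → (d % 7 = 1 → ((1 : ℤ), d) ∈ T7) ∧ (d % 7 = 6 → ((-1 : ℤ), d) ∈ T7) ∧
    (d % 7 = 3 → ((-1 : ℤ), d) ∈ TY7) ∧ (d % 7 = 4 → ((1 : ℤ), d) ∈ TY7) := by decide +kernel

def cands7 : List ((ℤ × ℕ) × (ℤ × ℕ) × (ℤ × ℕ)) :=
  [((-1, 6), (-1, 6), (1, 11)), ((-1, 6), (-1, 55), (1, 60)), ((-1, 6), (-1, 160), (1, 165)), ((1, 22), (1, 22), (-1, 45)),
   ((1, 22), (-1, 55), (1, 32)), ((-1, 55), (1, 99), (-1, 45)), ((-1, 55), (1, 120), (-1, 66)), ((1, 99), (1, 120), (-1, 220)),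
   ((1, 99), (-1, 132), (1, 32)), ((1, 99), (-1, 160), (1, 60)), ((1, 120), (-1, 132), (1, 11)), ((-1, 132), (1, 176), (-1, 45))]

theorem ar_cand7 : ∀ p0 ∈ T7, ∀ p1 ∈ T7, p0.2 ≤ p1.2 → ∀ q ∈ TY7,
    1 + (p0.1 * (p0.2 : ℤ) + p1.1 * p1.2) + q.1 * q.2 = 0 →
    1 + (p0.2 ^ 2 + p1.2 ^ 2) + 2 * q.2 ^ 2 ≤ 443520 → (p0, p1, q) ∈ cands7 := by
  decide +kernel

/-- value of the exceptional character on an involution -/
def y7 (c : (ℤ × ℕ) × (ℤ × ℕ) × (ℤ × ℕ)) (v0 v1 : ℤ) : ℤ := - c.2.2.1 * (1 + (c.1.1 * v0 + c.2.1.1 * v1))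

def E7 (c : (ℤ × ℕ) × (ℤ × ℕ) × (ℤ × ℕ)) (v0 v1 vY : ℤ) : ℤ :=
  63360 + (c.1.1 * v0 * v0 * ((63360 / c.1.2 : ℕ) : ℤ) + c.2.1.1 * v1 * v1 * ((63360 / c.2.1.2 : ℕ) : ℤ)) +
    c.2.2.1 * vY * vY * ((63360 / c.2.2.2 : ℕ) : ℤ)

theorem ar_inv7 : ∀ c ∈ cands7, ∀ v0 ∈ inv c.1.2, ∀ v1 ∈ inv c.2.1.2, E7 c v0 v1 (y7 c v0 v1) = 0 →
    y7 c v0 v1 ∈ inv c.2.2.2 → c = ((-1, 55), (1, 99), (-1, 45)) ∨ c = ((-1, 55), (1, 120), (-1, 66)) := by
  decide +kernel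


/-! ### general facts -/

variable {G : Type u} [Group G] [Finite G]

theorem sylow_elt {p : ℕ} [hpp : Fact p.Prime] (hsq : ¬ p ^ 2 ∣ Nat.card G) (x : G) (hx : orderOf x = p) :
    ∃ P : Sylow p G, Nat.card (P : Subgroup G) = p ∧ (P : Subgroup G) = zpowers x ∧
      centralizer ({x} : Set G) = centralizer ((P : Subgroup G) : Set G) := by
  have hcard : Nat.card (zpowers x) = p := by rw [Nat.card_zpowers, hx]
  have hpg : IsPGroup p (zpowers x) := IsPGroup.of_card (n := 1) (by rw [hcard, pow_one])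
  obtain ⟨P, hP⟩ := hpg.exists_le_sylow
  have h1 : Nat.card (P : Subgroup G) = p := by
    obtain ⟨j, hj⟩ := IsPGroup.iff_card.1 P.isPGroup'
    have h2 := Subgroup.card_dvd_of_le hP
    rw [hcard] at h2
    rw [hj] at h2 ⊢
    rcases Nat.lt_or_ge j 2 with h | h
    · interval_cases j
      · rw [pow_zero] at h2; exact absurd (Nat.dvd_one.1 h2) hpp.out.one_lt.ne'
      · rw [pow_one]
    · exfalso
      apply hsq
      exact (pow_dvd_pow p h).trans (hj ▸ Subgroup.card_subgroup_dvd_card (P : Subgroup G))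
  have hPeq : (P : Subgroup G) = zpowers x := (eq_of_le_of_card_ge hP (by rw [h1, hcard])).symm
  refine ⟨P, h1, hPeq, ?_⟩
  rw [hPeq]
  apply le_antisymm
  · intro g hg
    rw [mem_centralizer_singleton_iff] at hg
    rw [mem_centralizer_iff]
    intro y hy
    obtain ⟨n, rfl⟩ := mem_zpowers_iff.1 hy
    exact (((Commute.zpow_right (show Commute g x from hg) n))).symm
  · exact centralizer_le (by simp)

theorem cent_cases [IsSimpleGroup G] (hna : ¬ IsMulCommutative G) {p : ℕ} [hpp : Fact p.Prime] (hsq : ¬ p ^ 2 ∣ Nat.card G) (x : G) (hx : orderOf x = p)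
    {n : ℕ} (hN : Nat.card (normalizer (zpowers x : Set G)) = n) :
    ∃ e c : ℕ, n = e * (p * c) ∧ Nat.card (centralizer ({x} : Set G)) = p * c ∧ e ∣ p - 1 ∧ e ≠ 1 := by
  obtain ⟨P, h1, h2, h3⟩ := sylow_elt hsq x hx
  obtain ⟨e, c, h4, h5, h6, h7⟩ := nc_data hna P h1
  rw [h2, hN] at h4
  rw [← h3] at h5
  exact ⟨e, c, h4, h5, h6, h7⟩

theorem cent_of_N [IsSimpleGroup G] (hna : ¬ IsMulCommutative G) {p q : ℕ} [hpp : Fact p.Prime] (hq : q.Prime) (hsq : ¬ p ^ 2 ∣ Nat.card G) (x : G)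
    (hx : orderOf x = p) (hN : Nat.card (normalizer (zpowers x : Set G)) = p * q) :
    Nat.card (centralizer ({x} : Set G)) = p := by
  obtain ⟨e, c, h4, h5, h6, h7⟩ := cent_cases hna hsq x hx hN
  have h8 : p * q = p * (e * c) := by rw [h4]; ring
  have h9 := Nat.eq_of_mul_eq_mul_left hpp.out.pos h8
  rcases (Nat.prime_mul_iff.1 (h9 ▸ hq)) with ⟨h10, h11⟩ | ⟨h10, h11⟩
  · rw [h5, h11, mul_one]
  · exact absurd h11 h7

theorem QB.ty {p k : ℕ} {x : G} {A : Fin k → IrrCharacter G} {m : Fin k → ℤ} {Y : IrrCharacter G} {a : ℤ}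
    (b : QB p k x A m Y a) (χ : IrrCharacter G) : p ∣ deg χ ∨ (∃ s : ℤ, (deg χ : ℤ) = 1 + p * s) ∨ (∃ s : ℤ, (deg χ : ℤ) = -1 + p * s) ∨
      (∃ s : ℤ, 2 * (deg χ : ℤ) = 1 + p * s) ∨ (∃ s : ℤ, 2 * (deg χ : ℤ) = -1 + p * s) := by
  by_cases h1 : χ = triv G
  · right; left; exact ⟨0, by rw [h1, deg_triv]; norm_num⟩
  by_cases h2 : ∃ i, χ = A i
  · obtain ⟨i, rfl⟩ := h2
    obtain ⟨s, -, hs⟩ := b.degA i
    rcases b.m_pm i with h | h <;> rw [h] at hs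
    · right; left; exact ⟨s, hs⟩
    · right; right; left; exact ⟨s, hs⟩
  by_cases h3 : χ = Y ∨ χ = cc Y
  · have : deg χ = deg Y := by
      rcases h3 with rfl | rfl
      · rfl
      · rw [deg_cc]
    obtain ⟨s, -, hs⟩ := b.degY
    rw [this]
    rcases b.a_pm with h | h <;> rw [h] at hs
    · right; right; right; left; exact ⟨s, hs⟩
    · right; right; right; right; exact ⟨s, hs⟩
  · push Not at h2 h3
    left; exact (b.out χ h1 h2 h3.1 h3.2).2.2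

theorem Q5.ty {y : G} {D : Fin 4 → IrrCharacter G} {n : Fin 4 → ℤ} (b : Q5 y D n) (χ : IrrCharacter G) : deg χ % 5 ∈ [0, 1, 4] := by
  by_cases h1 : χ = triv G
  · rw [h1, deg_triv]; decide
  by_cases h2 : ∃ i, χ = D i
  · obtain ⟨i, rfl⟩ := h2
    obtain ⟨s, hs⟩ := b.degD i
    simp only [List.mem_cons, List.not_mem_nil, or_false]
    rcases b.n_pm i with h | h <;> rw [h] at hs <;> omega
  · push Not at h2
    have := (b.out χ h1 h2).2.2
    simp only [List.mem_cons, List.not_mem_nil, or_false]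
    omega

theorem QB.sq {p k : ℕ} {x : G} {A : Fin k → IrrCharacter G} {m : Fin k → ℤ} {Y : IrrCharacter G} {a : ℤ}
    (b : QB p k x A m Y a) : 1 + ∑ i, deg (A i) ^ 2 + 2 * deg Y ^ 2 ≤ Nat.card G := by
  classical
  rw [← sum_deg_sq (G := G)]
  have h1 := b.sum (f := fun χ : IrrCharacter G => if (χ = triv G ∨ (∃ i, χ = A i) ∨ χ = Y ∨ χ = cc Y) then deg χ ^ 2 else 0) (by
    intro χ h1 h2 h3 h4
    rw [if_neg]
    rintro (h | ⟨i, h⟩ | h | h)
    · exact h1 h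
    · exact h2 i h
    · exact h3 h
    · exact h4 h)
  have h2 : ∑ χ : IrrCharacter G, (if (χ = triv G ∨ (∃ i, χ = A i) ∨ χ = Y ∨ χ = cc Y) then deg χ ^ 2 else 0) ≤
      ∑ χ : IrrCharacter G, deg χ ^ 2 := by
    apply Finset.sum_le_sum
    intro χ _
    split_ifs
    · exact le_rfl
    · exact Nat.zero_le _
  rw [h1] at h2
  refine le_trans (le_of_eq ?_) h2
  simp only [true_or, or_true, if_true, deg_triv, deg_cc, exists_apply_eq_apply, exists_apply_eq_apply']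
  ring

theorem Q5.sq {y : G} {D : Fin 4 → IrrCharacter G} {n : Fin 4 → ℤ} (b : Q5 y D n) : 1 + ∑ i, deg (D i) ^ 2 ≤ Nat.card G := by
  classical
  rw [← sum_deg_sq (G := G)]
  have h1 := b.sum (f := fun χ : IrrCharacter G => if (χ = triv G ∨ (∃ i, χ = D i)) then deg χ ^ 2 else 0) (by
    intro χ h1 h2
    rw [if_neg]
    rintro (h | ⟨i, h⟩)
    · exact h1 h
    · exact h2 i h)
  have h2 : ∑ χ : IrrCharacter G, (if (χ = triv G ∨ (∃ i, χ = D i)) then deg χ ^ 2 else 0) ≤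
      ∑ χ : IrrCharacter G, deg χ ^ 2 := by
    apply Finset.sum_le_sum
    intro χ _
    split_ifs
    · exact le_rfl
    · exact Nat.zero_le _
  rw [h1] at h2
  refine le_trans (le_of_eq ?_) h2
  simp only [true_or, or_true, if_true, deg_triv, exists_apply_eq_apply, exists_apply_eq_apply']
  ring

end Cfsg.Agent.Lib.M22N
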