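import Mathlib
import Cfsg.Agent.Lib.M22A

/-!
# Simple groups of order 443520, part B: the principal blocks for 11, 7, 5 (helper7)
-/

set_option autoImplicit false
set_option linter.all false

namespace Cfsg.Agent.Lib.M22N

open Subgroup Cfsg Cfsg.Agent.Lib.CharBasic Cfsg.Agent.Lib.ColTools Cfsg.Agent.Lib.SmallSimple
  Cfsg.Agent.Lib.PBlock Cfsg.Agent.Lib.QBlk
open Cfsg.Agent.Lib.M12ByOrder (inv mem_inv)
open scoped ComplexConjugate

universe u

/-- the hypotheses on the group -/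
structure H22 (G : Type u) [Group G] : Prop where
  card : Nat.card G = 443520
  n11 : ∀ x : G, orderOf x = 11 → Nat.card (normalizer (zpowers x : Set G)) = 55
  n7 : ∀ x : G, orderOf x = 7 → Nat.card (normalizer (zpowers x : Set G)) = 21
  n5 : ∀ x : G, orderOf x = 5 → Nat.card (normalizer (zpowers x : Set G)) = 20

def bad1 (d : ℕ) : Bool := 44352 % d = 0 && d ≠ 1 && (d % 7 = 0 || d = 55 || d = 99 || d = 45)
def bad2 (d : ℕ) : Bool := 44352 % d = 0 && d ≠ 1 && (d % 7 = 0 || d = 55 || d = 120 || d = 66)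

theorem ar_c52 : ∀ d ∈ List.range 667, (bad1 d && bad1 (d + 1)) = false ∧ (bad2 d && bad2 (d + 1)) = false := by
  decide +kernel

theorem ar_bad1 {d : ℕ} (h : d ∣ 44352) (h1 : d ≠ 1) (h2 : 7 ∣ d ∨ d = 55 ∨ d = 99 ∨ d = 45) : bad1 d = true := by
  have h3 := Nat.mod_eq_zero_of_dvd h
  simp only [bad1, h3, decide_true, Bool.true_and, Bool.and_eq_true, Bool.or_eq_true, decide_eq_true_eq]
  refine ⟨h1, ?_⟩
  omega

theorem ar_bad2 {d : ℕ} (h : d ∣ 44352) (h1 : d ≠ 1) (h2 : 7 ∣ d ∨ d = 55 ∨ d = 120 ∨ d = 66) : bad2 d = true := by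
  have h3 := Nat.mod_eq_zero_of_dvd h
  simp only [bad2, h3, decide_true, Bool.true_and, Bool.and_eq_true, Bool.or_eq_true, decide_eq_true_eq]
  refine ⟨h1, ?_⟩
  omega

variable {G : Type u} [Group G] [Finite G] [IsSimpleGroup G]

theorem H22.na (H : H22 G) : ¬ IsMulCommutative G := not_isMulCommutative_of_card H.card (by norm_num)

theorem H22.c11 (H : H22 G) {x : G} (hx : orderOf x = 11) : Nat.card (centralizer ({x} : Set G)) = 11 := by
  have : Fact (Nat.Prime 11) := ⟨by norm_num⟩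
  exact cent_of_N H.na (q := 5) (by norm_num) (by rw [H.card]; norm_num) x hx (H.n11 x hx)

theorem H22.c7 (H : H22 G) {x : G} (hx : orderOf x = 7) : Nat.card (centralizer ({x} : Set G)) = 7 := by
  have : Fact (Nat.Prime 7) := ⟨by norm_num⟩
  exact cent_of_N H.na (q := 3) (by norm_num) (by rw [H.card]; norm_num) x hx (H.n7 x hx)

theorem H22.qb11 (H : H22 G) {x : G} (hx : orderOf x = 11) : ∃ A m Y a, QB 11 4 x A m Y a := by
  have : Fact (Nat.Prime 11) := ⟨by norm_num⟩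
  exact exists_qb (by norm_num) (by norm_num) (by norm_num) (by rw [H.card]; norm_num) x hx (H.c11 hx) (H.n11 x hx)

theorem H22.qb7 (H : H22 G) {x : G} (hx : orderOf x = 7) : ∃ A m Y a, QB 7 2 x A m Y a := by
  have : Fact (Nat.Prime 7) := ⟨by norm_num⟩
  exact exists_qb (by norm_num) (by norm_num) (by norm_num) (by rw [H.card]; norm_num) x hx (H.c7 hx) (H.n7 x hx)

theorem H22.nr11 (H : H22 G) {x : G} (hx : orderOf x = 11) : ¬ IsConj x x⁻¹ := by
  have : Fact (Nat.Prime 11) := ⟨by norm_num⟩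
  exact (QRConj.qr x hx (by norm_num) (by rw [H.n11 x hx]) (H.c11 hx)).2

theorem H22.nr7 (H : H22 G) {x : G} (hx : orderOf x = 7) : ¬ IsConj x x⁻¹ := by
  have : Fact (Nat.Prime 7) := ⟨by norm_num⟩
  exact (QRConj.qr x hx (by norm_num) (by rw [H.n7 x hx]) (H.c7 hx)).2

theorem lt_666 (H : H22 G) (χ : IrrCharacter G) : deg χ < 666 := by
  have h1 : deg χ ^ 2 ≤ ∑ χ : IrrCharacter G, deg χ ^ 2 := Finset.single_le_sum (f := fun χ : IrrCharacter G => deg χ ^ 2) (fun _ _ => Nat.zero_le _) (Finset.mem_univ χ)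
  rw [sum_deg_sq, H.card] at h1
  by_contra h
  have h2 : 666 ≤ deg χ := by omega
  have h3 := Nat.pow_le_pow_left h2 2
  omega

section

variable {x11 x7 : G} {A : Fin 4 → IrrCharacter G} {m : Fin 4 → ℤ} {Y : IrrCharacter G} {a : ℤ}
  {B : Fin 2 → IrrCharacter G} {k : Fin 2 → ℤ} {Z : IrrCharacter G} {c : ℤ}

theorem memAD (H : H22 G) (b : QB 11 4 x11 A m Y a) (b' : QB 7 2 x7 B k Z c) (χ : IrrCharacter G) : deg χ ∈ AD := by
  refine ar_AD _ (List.mem_range.2 (lt_666 H χ)) (by rw [← H.card]; exact deg_dvd χ) ?_ ?_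
  · simp only [List.mem_cons, List.not_mem_nil, or_false]
    rcases QB.ty b χ with h | ⟨s, hs⟩ | ⟨s, hs⟩ | ⟨s, hs⟩ | ⟨s, hs⟩ <;> omega
  · simp only [List.mem_cons, List.not_mem_nil, or_false]
    rcases QB.ty b' χ with h | ⟨s, hs⟩ | ⟨s, hs⟩ | ⟨s, hs⟩ | ⟨s, hs⟩ <;> omega

theorem memT7 (H : H22 G) (b : QB 11 4 x11 A m Y a) (b' : QB 7 2 x7 B k Z c) (i : Fin 2) : (k i, deg (B i)) ∈ T7 := by
  have h1 := memAD H b b' (B i)
  have h2 : deg (B i) ≠ 1 := fun h => b'.At i (eq_triv_of_deg_one H.na h)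
  obtain ⟨s, -, hs⟩ := b'.degA i
  have h4 := ar_T7 _ h1 h2
  rcases b'.m_pm i with h | h <;> rw [h] at hs ⊢
  · exact h4.1 (by omega)
  · exact h4.2.1 (by omega)

theorem memTY7 (H : H22 G) (b : QB 11 4 x11 A m Y a) (b' : QB 7 2 x7 B k Z c) : (c, deg Z) ∈ TY7 := by
  have h1 := memAD H b b' Z
  have h2 : deg Z ≠ 1 := fun h => b'.Yt (eq_triv_of_deg_one H.na h)
  obtain ⟨s, -, hs⟩ := b'.degY
  have h4 := ar_T7 _ h1 h2
  rcases b'.a_pm with h | h <;> rw [h] at hs ⊢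
  · exact h4.2.2.2 (by omega)
  · exact h4.2.2.1 (by omega)

theorem cand7 (H : H22 G) (h7 : orderOf x7 = 7) (b : QB 11 4 x11 A m Y a) (b' : QB 7 2 x7 B k Z c) :
    ((k 0, deg (B 0)), (k 1, deg (B 1)), (c, deg Z)) ∈ cands7 := by
  have h1 := b'.rel1 h7 (by norm_num)
  have h2 := QB.sq b'
  rw [H.card] at h2
  rw [Fin.sum_univ_two] at h1 h2
  exact ar_cand7 _ (memT7 H b b' 0) _ (memT7 H b b' 1) (b'.mono (by decide : (0 : Fin 2) ≤ 1)) _ (memTY7 H b b') h1 h2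

/-- values of the principal 7-block on an involution -/
theorem inv7 (H : H22 G) (h7 : orderOf x7 = 7) (b' : QB 7 2 x7 B k Z c) {s : G} (hs : orderOf s = 2) :
    ∃ v : Fin 2 → ℤ, (∀ i, (B i : G → ℂ) s = v i) ∧ (∀ i, v i ∈ inv (deg (B i))) ∧
      (Z : G → ℂ) s = y7 ((k 0, deg (B 0)), (k 1, deg (B 1)), (c, deg Z)) (v 0) (v 1) ∧
      y7 ((k 0, deg (B 0)), (k 1, deg (B 1)), (c, deg Z)) (v 0) (v 1) ∈ inv (deg Z) ∧
      E7 ((k 0, deg (B 0)), (k 1, deg (B 1)), (c, deg Z)) (v 0) (v 1)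
        (y7 ((k 0, deg (B 0)), (k 1, deg (B 1)), (c, deg Z)) (v 0) (v 1)) = 0 := by
  have hna := H.na
  have hs2 : s ^ 2 = 1 := by rw [← hs]; exact pow_orderOf_eq_one s
  have hs1 : s ≠ 1 := fun h => by rw [h, orderOf_one] at hs; norm_num at hs
  choose v hv1 hv2 hv3 hv4 hv5 using fun i => val_inv hna (B i) s hs2
  obtain ⟨vY, hY1, hY2, hY3, hY4, hY5⟩ := val_inv hna Z s hs2
  obtain ⟨n1, n2⟩ := QBlk.not_isConj_of_order h7 (g := s) (by rw [hs]; norm_num)
  have hrel := b'.rel s n1 n2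
  have ha2 : c * c = 1 := by rcases b'.a_pm with h | h <;> rw [h] <;> norm_num
  have hrel' : 1 + (k 0 * v 0 + k 1 * v 1) + c * vY = 0 := by
    simp only [hv1, hY1, Fin.sum_univ_two] at hrel
    exact_mod_cast hrel
  have hYv : vY = y7 ((k 0, deg (B 0)), (k 1, deg (B 1)), (c, deg Z)) (v 0) (v 1) := by
    simp only [y7]
    linear_combination c * hrel' - vY * ha2
  have hYm : vY ∈ inv (deg Z) := mem_inv hY2 (hY5 hs1 b'.Yt).1 (hY5 hs1 b'.Yt).2
  refine ⟨v, hv1, fun i => mem_inv (hv2 i) (hv5 i hs1 (b'.At i)).1 (hv5 i hs1 (b'.At i)).2, by rw [← hYv]; exact hY1, ?_, ?_⟩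
  · rw [← hYv]; exact hYm
  · rw [← hYv]
    have h1 := b'.E_inv (N := 63360) (by norm_num) (by rw [H.card]) h7 (H.nr7 h7) hs2 hv1 hY1
    rw [Fin.sum_univ_two] at h1
    exact h1

theorem exists_elt (H : H22 G) {p : ℕ} (hp : p.Prime) (h : p ∣ 443520) : ∃ x : G, orderOf x = p := by
  have : Fact p.Prime := ⟨hp⟩
  exact exists_prime_orderOf_dvd_card' (G := G) p (by rw [H.card]; exact h)

theorem final7 (H : H22 G) (h7 : orderOf x7 = 7) (b : QB 11 4 x11 A m Y a) (b' : QB 7 2 x7 B k Z c) :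
    ((k 0, deg (B 0)), (k 1, deg (B 1)), (c, deg Z)) = ((-1, 55), (1, 99), (-1, 45)) ∨
    ((k 0, deg (B 0)), (k 1, deg (B 1)), (c, deg Z)) = ((-1, 55), (1, 120), (-1, 66)) := by
  obtain ⟨s, hs⟩ := exists_elt H (p := 2) (by norm_num) (by norm_num)
  obtain ⟨v, -, h1, -, h2, h3⟩ := inv7 H h7 b' hs
  exact ar_inv7 _ (cand7 H h7 b b') _ (h1 0) _ (h1 1) h3 h2

/-- all degrees not divisible by 7 -/
theorem deg7 (H : H22 G) (h7 : orderOf x7 = 7) (b : QB 11 4 x11 A m Y a) (b' : QB 7 2 x7 B k Z c) :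
    (∀ χ : IrrCharacter G, χ ≠ triv G → 7 ∣ deg χ ∨ deg χ = 55 ∨ deg χ = 99 ∨ deg χ = 45) ∨
    (∀ χ : IrrCharacter G, χ ≠ triv G → 7 ∣ deg χ ∨ deg χ = 55 ∨ deg χ = 120 ∨ deg χ = 66) := by
  have key : ∀ χ : IrrCharacter G, χ ≠ triv G → 7 ∣ deg χ ∨ deg χ = deg (B 0) ∨ deg χ = deg (B 1) ∨ deg χ = deg Z := by
    intro χ h1
    by_cases h2 : ∃ i, χ = B i
    · obtain ⟨i, rfl⟩ := h2
      fin_cases i
      · right; left; rfl
      · right; right; left; rfl
    by_cases h3 : χ = Z ∨ χ = cc Z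
    · right; right; right
      rcases h3 with rfl | rfl
      · rfl
      · rw [deg_cc]
    · push Not at h2 h3
      left; exact (b'.out χ h1 h2 h3.1 h3.2).2.2
  rcases final7 H h7 b b' with h | h
  · left
    simp only [Prod.mk.injEq] at h
    obtain ⟨⟨-, h1⟩, ⟨-, h2⟩, -, h3⟩ := h
    rwa [h1, h2, h3] at key
  · right
    simp only [Prod.mk.injEq] at h
    obtain ⟨⟨-, h1⟩, ⟨-, h2⟩, -, h3⟩ := h
    rwa [h1, h2, h3] at key

end

/-- the centralizer of an element of order 5 -/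
theorem H22.c5 (H : H22 G) {y : G} (hy : orderOf y = 5) : Nat.card (centralizer ({y} : Set G)) = 5 := by
  classical
  have i5 : Fact (Nat.Prime 5) := ⟨by norm_num⟩
  obtain ⟨x11, h11⟩ := exists_elt H (p := 11) (by norm_num) (by norm_num)
  obtain ⟨x7, h7⟩ := exists_elt H (p := 7) (by norm_num) (by norm_num)
  obtain ⟨A, m, Y, a, b⟩ := H.qb11 h11
  obtain ⟨B, k, Z, c, b'⟩ := H.qb7 h7
  have hna := H.na
  have hsq : ¬ 5 ^ 2 ∣ Nat.card G := by rw [H.card]; norm_num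
  obtain ⟨e, c0, h1, h2, h3, h4⟩ := cent_cases hna hsq y hy (H.n5 y hy)
  have h5 : e * c0 = 4 := by
    have : 5 * 4 = 5 * (e * c0) := by rw [← mul_assoc, mul_comm 5 e, mul_assoc, ← h1]
    exact (Nat.eq_of_mul_eq_mul_left (by norm_num) this).symm
  have h6 : c0 = 1 ∨ (e = 2 ∧ c0 = 2) := by
    have : e ≤ 4 := Nat.le_of_dvd (by norm_num) h3
    interval_cases e <;> omega
  rcases h6 with h6 | ⟨h6, h6'⟩
  · rw [h2, h6]
  exfalso
  subst h6 h6'
  obtain ⟨P, hP1, hP2, hP3⟩ := sylow_elt hsq y hy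
  have hrel : (centralizer ((P : Subgroup G) : Set G)).relIndex (normalizer ((P : Subgroup G) : Set G)) = 2 := by
    have h7 := index_mul P hP1
    have h8 := card_normalizer_mul_nsyl P
    rw [hP2, H.n5 y hy] at h8
    rw [← hP3, h2, ← h8, hP2] at h7
    have h9 : 0 < Nat.card (Sylow 5 G) := Nat.card_pos
    have h10 : Nat.card (Sylow 5 G) * ((centralizer ({y} : Set G)).relIndex (normalizer (zpowers y : Set G)) * (5 * 2)) =
        Nat.card (Sylow 5 G) * (2 * (5 * 2)) := by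
      rw [h7.1]; ring
    have h11 := Nat.eq_of_mul_eq_mul_left h9 h10
    rw [hP2] at *
    rw [← hP3]
    omega
  obtain ⟨Bk⟩ := exists_pb P hP1 (e := 2) (t := 2) hrel (by norm_num) (by norm_num)
  have hidx : (centralizer ((P : Subgroup G) : Set G)).index = 44352 := by
    have h1 := Subgroup.card_mul_index (centralizer ((P : Subgroup G) : Set G))
    rw [← hP3, h2, H.card] at h1
    rw [← hP3]; omega
  obtain ⟨χ, hχ, hχ1⟩ := Finset.exists_mem_ne (by rw [Bk.cardX]; norm_num : 1 < Bk.X.card) (triv G)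
  have hX : Bk.X = {triv G, χ} := by
    symm
    apply Finset.eq_of_subset_of_card_le
    · intro a ha
      rcases Finset.mem_insert.1 ha with rfl | ha
      · exact Bk.tX
      · rw [Finset.mem_singleton.1 ha]; exact hχ
    · rw [Bk.cardX, Finset.card_pair hχ1.symm]
  obtain ⟨ψ, hψ⟩ := Finset.card_pos.1 (by rw [Bk.cardY]; norm_num : 0 < Bk.Y.card)
  have hψ1 : ψ ≠ triv G := fun h => Bk.disj _ Bk.tX (h ▸ hψ)
  have hrel := Bk.rel ψ hψ 1 (by rw [orderOf_one]; norm_num)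
  rw [hX, Finset.sum_pair hχ1.symm, Bk.tδ, apply_one, apply_one, apply_one, deg_triv] at hrel
  have hrel' : Bk.s * deg ψ = 1 + Bk.δ χ * deg χ := by
    have : ((Bk.s * deg ψ : ℤ) : ℂ) = ((1 + Bk.δ χ * deg χ : ℤ) : ℂ) := by push_cast; push_cast at hrel; rw [hrel]; ring
    exact_mod_cast this
  have hd1 := Bk.dvdX χ hχ
  have hd2 := Bk.dvdY ψ hψ
  rw [hidx] at hd1 hd2
  have hp1 := deg_pos χ
  have hp2 := deg_pos ψ
  have hn1 : deg χ ≠ 1 := fun h => hχ1 (eq_triv_of_deg_one hna h)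
  have hn2 : deg ψ ≠ 1 := fun h => hψ1 (eq_triv_of_deg_one hna h)
  have hmem : deg ψ = deg χ + 1 ∨ deg χ = deg ψ + 1 := by
    rcases Bk.δ_pm χ hχ with h1 | h1 <;> rcases Bk.s_pm with h2 | h2 <;> rw [h1, h2] at hrel' <;> omega
  have l1 := lt_666 H χ
  have l2 := lt_666 H ψ
  rcases deg7 H h7 b b' with h | h
  · have b1 := ar_bad1 hd1 hn1 (h χ hχ1)
    have b2 := ar_bad1 hd2 hn2 (h ψ hψ1)
    rcases hmem with h8 | h8
    · have := (ar_c52 _ (List.mem_range.2 (by omega : deg χ < 667))).1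
      rw [← h8, b1, b2] at this
      exact absurd this (by decide)
    · have := (ar_c52 _ (List.mem_range.2 (by omega : deg ψ < 667))).1
      rw [← h8, b1, b2] at this
      exact absurd this (by decide)
  · have b1 := ar_bad2 hd1 hn1 (h χ hχ1)
    have b2 := ar_bad2 hd2 hn2 (h ψ hψ1)
    rcases hmem with h8 | h8
    · have := (ar_c52 _ (List.mem_range.2 (by omega : deg χ < 667))).2
      rw [← h8, b1, b2] at this
      exact absurd this (by decide)
    · have := (ar_c52 _ (List.mem_range.2 (by omega : deg ψ < 667))).2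
      rw [← h8, b1, b2] at this
      exact absurd this (by decide)

theorem H22.q5 (H : H22 G) {y : G} (hy : orderOf y = 5) : ∃ D n, Q5 y D n :=
  exists_q5 (by rw [H.card]; norm_num) y hy (H.c5 hy) (H.n5 y hy)

end Cfsg.Agent.Lib.M22N
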