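import Mathlib
import Cfsg.Agent.Lib.M22B

/-!
# Simple groups of order 443520, part C: the degrees (helper7)
-/

set_option autoImplicit false
set_option linter.all false

namespace Cfsg.Agent.Lib.M22N

open Subgroup Cfsg Cfsg.Agent.Lib.CharBasic Cfsg.Agent.Lib.ColTools Cfsg.Agent.Lib.SmallSimple
  Cfsg.Agent.Lib.PBlock Cfsg.Agent.Lib.QBlk
open Cfsg.Agent.Lib.M12ByOrder (inv mem_inv)
open scoped ComplexConjugate

universe u

def T11 : List (ℤ × ℕ) := [(-1, 10), (-1, 21), (1, 45), (1, 56), (-1, 120), (1, 144), (1, 210), (-1, 384), (-1, 560)]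
def TY11 : List (ℤ × ℕ) := [(1, 6), (-1, 60), (1, 105), (-1, 126), (1, 160), (1, 336), (-1, 280)]

theorem ar_T11 : ∀ d ∈ AD3, d ≠ 1 → (d % 11 = 1 → ((1 : ℤ), d) ∈ T11) ∧ (d % 11 = 10 → ((-1 : ℤ), d) ∈ T11) ∧
    (d % 11 = 5 → ((-1 : ℤ), d) ∈ TY11) ∧ (d % 11 = 6 → ((1 : ℤ), d) ∈ TY11) := by decide +kernel

abbrev C11 := (ℤ × ℕ) × (ℤ × ℕ) × (ℤ × ℕ) × (ℤ × ℕ) × (ℤ × ℕ)

def cands11 : List C11 :=
  [((-1, 10), (-1, 10), (-1, 21), (-1, 120), (1, 160)),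
   ((-1, 10), (-1, 21), (-1, 21), (1, 45), (1, 6)),
   ((-1, 10), (-1, 21), (1, 45), (1, 45), (-1, 60)),
   ((-1, 10), (-1, 21), (1, 45), (-1, 120), (1, 105)),
   ((-1, 10), (-1, 21), (-1, 120), (1, 144), (1, 6)),
   ((-1, 10), (-1, 21), (-1, 120), (1, 210), (-1, 60)),
   ((-1, 10), (1, 45), (1, 45), (1, 45), (-1, 126)),
   ((-1, 10), (1, 45), (-1, 120), (1, 144), (-1, 60)),
   ((-1, 10), (1, 45), (-1, 120), (1, 210), (-1, 126)),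
   ((-1, 10), (-1, 120), (-1, 120), (1, 144), (1, 105)),
   ((-1, 10), (1, 144), (1, 144), (-1, 384), (1, 105)),
   ((-1, 21), (-1, 21), (-1, 21), (1, 56), (1, 6)),
   ((-1, 21), (-1, 21), (1, 45), (1, 56), (-1, 60)),
   ((-1, 21), (-1, 21), (1, 56), (-1, 120), (1, 105)),
   ((-1, 21), (1, 45), (1, 45), (1, 56), (-1, 126)),
   ((-1, 21), (1, 45), (1, 45), (1, 210), (-1, 280)),
   ((-1, 21), (1, 56), (-1, 120), (1, 144), (-1, 60)),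
   ((-1, 21), (1, 56), (-1, 120), (1, 210), (-1, 126)),
   ((-1, 21), (-1, 120), (1, 210), (1, 210), (-1, 280)),
   ((1, 45), (1, 45), (1, 45), (1, 144), (-1, 280)),
   ((1, 45), (1, 56), (-1, 120), (1, 144), (-1, 126)),
   ((1, 45), (-1, 120), (1, 144), (1, 210), (-1, 280)),
   ((1, 45), (1, 144), (1, 210), (-1, 560), (1, 160))]

theorem ar_cand11 : ∀ p0 ∈ T11, ∀ p1 ∈ T11, p0.2 ≤ p1.2 → ∀ p2 ∈ T11, p1.2 ≤ p2.2 → ∀ p3 ∈ T11, p2.2 ≤ p3.2 → ∀ q ∈ TY11,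
    1 + (p0.1 * (p0.2 : ℤ) + p1.1 * p1.2 + p2.1 * p2.2 + p3.1 * p3.2) + q.1 * q.2 = 0 →
    1 + (p0.2 ^ 2 + p1.2 ^ 2 + p2.2 ^ 2 + p3.2 ^ 2) + 2 * q.2 ^ 2 ≤ 443520 → (p0, p1, p2, p3, q) ∈ cands11 := by
  decide +kernel

def T5 : List (ℤ × ℕ) := [(1, 6), (1, 11), (1, 21), (1, 56), (1, 66), (-1, 99), (1, 126), (-1, 144), (-1, 154), (1, 176), (1, 231), (1, 336),
  (-1, 384), (1, 396), (1, 616)]

theorem ar_T5 : ∀ d ∈ AD3, d ≠ 1 → (d % 5 = 1 → ((1 : ℤ), d) ∈ T5) ∧ (d % 5 = 4 → ((-1 : ℤ), d) ∈ T5) := by decide +kernel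

abbrev C5 := (ℤ × ℕ) × (ℤ × ℕ) × (ℤ × ℕ) × (ℤ × ℕ)

def cands5 : List C5 :=
  [((1, 6), (1, 11), (1, 126), (-1, 144)),
   ((1, 6), (1, 21), (1, 126), (-1, 154)),
   ((1, 11), (1, 21), (1, 66), (-1, 99)),
   ((1, 11), (1, 66), (1, 66), (-1, 144)),
   ((1, 11), (-1, 99), (-1, 144), (1, 231)),
   ((1, 21), (1, 21), (1, 56), (-1, 99)),
   ((1, 21), (1, 56), (1, 66), (-1, 144)),
   ((1, 21), (1, 66), (1, 66), (-1, 154)),
   ((1, 21), (-1, 99), (-1, 99), (1, 176)),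
   ((1, 21), (-1, 99), (-1, 154), (1, 231)),
   ((1, 56), (-1, 144), (-1, 144), (1, 231)),
   ((1, 66), (-1, 99), (-1, 144), (1, 176)),
   ((1, 66), (-1, 144), (-1, 154), (1, 231)),
   ((-1, 99), (1, 126), (1, 126), (-1, 154)),
   ((-1, 99), (-1, 144), (-1, 154), (1, 396))]

theorem ar_cand5 : ∀ p0 ∈ T5, ∀ p1 ∈ T5, p0.2 ≤ p1.2 → ∀ p2 ∈ T5, p1.2 ≤ p2.2 → ∀ p3 ∈ T5, p2.2 ≤ p3.2 →
    1 + (p0.1 * (p0.2 : ℤ) + p1.1 * p1.2 + p2.1 * p2.2 + p3.1 * p3.2) = 0 →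
    1 + (p0.2 ^ 2 + p1.2 ^ 2 + p2.2 ^ 2 + p3.2 ^ 2) ≤ 443520 → (p0, p1, p2, p3) ∈ cands5 := by
  decide +kernel

def n11 (d : ℕ) (c : C11) : ℕ := (if 1 = d then 1 else 0) + ((if c.1.2 = d then 1 else 0) + (if c.2.1.2 = d then 1 else 0) +
  (if c.2.2.1.2 = d then 1 else 0) + (if c.2.2.2.1.2 = d then 1 else 0)) + (if c.2.2.2.2.2 = d then 1 else 0) + (if c.2.2.2.2.2 = d then 1 else 0)

def n7 (d : ℕ) (c : (ℤ × ℕ) × (ℤ × ℕ) × (ℤ × ℕ)) : ℕ := (if 1 = d then 1 else 0) + ((if c.1.2 = d then 1 else 0) + (if c.2.1.2 = d then 1 else 0)) +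
  (if c.2.2.2 = d then 1 else 0) + (if c.2.2.2 = d then 1 else 0)

def n5 (d : ℕ) (c : C5) : ℕ := (if 1 = d then 1 else 0) + ((if c.1.2 = d then 1 else 0) + (if c.2.1.2 = d then 1 else 0) +
  (if c.2.2.1.2 = d then 1 else 0) + (if c.2.2.2.2 = d then 1 else 0))

def two7 : List ((ℤ × ℕ) × (ℤ × ℕ) × (ℤ × ℕ)) := [((-1, 55), (1, 99), (-1, 45)), ((-1, 55), (1, 120), (-1, 66))]

def mt1 (c : C11) (c' : (ℤ × ℕ) × (ℤ × ℕ) × (ℤ × ℕ)) : Bool :=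
  AD3.all fun d => d % 11 == 0 || (d % 7 == 0 || n11 d c == n7 d c')

def mt2 (c : C11) (c' : C5) : Bool :=
  AD3.all fun d => d % 11 == 0 || (d % 5 == 0 || n11 d c == n5 d c')

def mt3 (c : (ℤ × ℕ) × (ℤ × ℕ) × (ℤ × ℕ)) (c' : C5) : Bool :=
  AD3.all fun d => d % 7 == 0 || (d % 5 == 0 || n7 d c == n5 d c')

theorem all_of {L : List ℕ} {p q : ℕ} {f g : ℕ → ℕ} (h : ∀ d ∈ L, ¬ p ∣ d → ¬ q ∣ d → f d = g d) :
    (L.all fun d => d % p == 0 || (d % q == 0 || f d == g d)) = true := by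
  rw [List.all_eq_true]
  intro d hd
  by_cases h1 : p ∣ d
  · rw [Nat.mod_eq_zero_of_dvd h1]; rfl
  by_cases h2 : q ∣ d
  · rw [Nat.mod_eq_zero_of_dvd h2]; simp
  · rw [h d hd h1 h2]; simp

def res1 (c : C11) (c' : (ℤ × ℕ) × (ℤ × ℕ) × (ℤ × ℕ)) (c'' : C5) : Bool :=
  (c == ((-1, 21), (1, 45), (1, 45), (1, 210), (-1, 280)) && c' == ((-1, 55), (1, 99), (-1, 45)) &&
      c'' == ((1, 21), (-1, 99), (-1, 154), (1, 231))) ||
    (c == ((-1, 21), (-1, 120), (1, 210), (1, 210), (-1, 280)) && c' == ((-1, 55), (1, 120), (-1, 66)) &&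
      c'' == ((1, 21), (1, 66), (1, 66), (-1, 154)))

theorem ar_match : ∀ c ∈ cands11, ∀ c' ∈ two7, mt1 c c' = true → ∀ c'' ∈ cands5,
    mt2 c c'' = true → mt3 c' c'' = true → res1 c c' c'' = true := by
  decide +kernel

theorem res1_iff {c : C11} {c' : (ℤ × ℕ) × (ℤ × ℕ) × (ℤ × ℕ)} {c'' : C5} (h : res1 c c' c'' = true) :
    (c = ((-1, 21), (1, 45), (1, 45), (1, 210), (-1, 280)) ∧ c' = ((-1, 55), (1, 99), (-1, 45)) ∧
      c'' = ((1, 21), (-1, 99), (-1, 154), (1, 231))) ∨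
    (c = ((-1, 21), (-1, 120), (1, 210), (1, 210), (-1, 280)) ∧ c' = ((-1, 55), (1, 120), (-1, 66)) ∧
      c'' = ((1, 21), (1, 66), (1, 66), (-1, 154))) := by
  simp only [res1, Bool.or_eq_true, Bool.and_eq_true, beq_iff_eq] at h
  rcases h with ⟨⟨h1, h2⟩, h3⟩ | ⟨⟨h1, h2⟩, h3⟩
  · exact Or.inl ⟨h1, h2, h3⟩
  · exact Or.inr ⟨h1, h2, h3⟩

variable {G : Type u} [Group G] [Finite G] [IsSimpleGroup G]

variable {x11 x7 x5 : G} {A : Fin 4 → IrrCharacter G} {m : Fin 4 → ℤ} {Y : IrrCharacter G} {a : ℤ}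
  {B : Fin 2 → IrrCharacter G} {k : Fin 2 → ℤ} {Z : IrrCharacter G} {c : ℤ} {D : Fin 4 → IrrCharacter G} {n : Fin 4 → ℤ}

theorem memAD3 (H : H22 G) (b : QB 11 4 x11 A m Y a) (b' : QB 7 2 x7 B k Z c) (b5 : Q5 x5 D n) (χ : IrrCharacter G) :
    deg χ ∈ AD3 := ar_AD3 _ (memAD H b b' χ) (Q5.ty b5 χ)

theorem memT11 (H : H22 G) (b : QB 11 4 x11 A m Y a) (b' : QB 7 2 x7 B k Z c) (b5 : Q5 x5 D n) (i : Fin 4) : (m i, deg (A i)) ∈ T11 := by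
  have h1 := memAD3 H b b' b5 (A i)
  have h2 : deg (A i) ≠ 1 := fun h => b.At i (eq_triv_of_deg_one H.na h)
  obtain ⟨s, -, hs⟩ := b.degA i
  have h4 := ar_T11 _ h1 h2
  rcases b.m_pm i with h | h <;> rw [h] at hs ⊢
  · exact h4.1 (by omega)
  · exact h4.2.1 (by omega)

theorem memTY11 (H : H22 G) (b : QB 11 4 x11 A m Y a) (b' : QB 7 2 x7 B k Z c) (b5 : Q5 x5 D n) : (a, deg Y) ∈ TY11 := by
  have h1 := memAD3 H b b' b5 Y
  have h2 : deg Y ≠ 1 := fun h => b.Yt (eq_triv_of_deg_one H.na h)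
  obtain ⟨s, -, hs⟩ := b.degY
  have h4 := ar_T11 _ h1 h2
  rcases b.a_pm with h | h <;> rw [h] at hs ⊢
  · exact h4.2.2.2 (by omega)
  · exact h4.2.2.1 (by omega)

theorem memT5 (H : H22 G) (b : QB 11 4 x11 A m Y a) (b' : QB 7 2 x7 B k Z c) (b5 : Q5 x5 D n) (i : Fin 4) : (n i, deg (D i)) ∈ T5 := by
  have h1 := memAD3 H b b' b5 (D i)
  have h2 : deg (D i) ≠ 1 := fun h => b5.Dt i (eq_triv_of_deg_one H.na h)
  obtain ⟨s, hs⟩ := b5.degD i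
  have h4 := ar_T5 _ h1 h2
  rcases b5.n_pm i with h | h <;> rw [h] at hs ⊢
  · exact h4.1 (by omega)
  · exact h4.2 (by omega)

/-- the two possibilities for the three blocks -/
theorem two_cases (H : H22 G) (h11 : orderOf x11 = 11) (h7 : orderOf x7 = 7) (h5 : orderOf x5 = 5)
    (b : QB 11 4 x11 A m Y a) (b' : QB 7 2 x7 B k Z c) (b5 : Q5 x5 D n) :
    ((((m 0, deg (A 0)), (m 1, deg (A 1)), (m 2, deg (A 2)), (m 3, deg (A 3)), (a, deg Y)) : C11) =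
        ((-1, 21), (1, 45), (1, 45), (1, 210), (-1, 280)) ∧
      ((k 0, deg (B 0)), (k 1, deg (B 1)), (c, deg Z)) = ((-1, 55), (1, 99), (-1, 45)) ∧
      (((n 0, deg (D 0)), (n 1, deg (D 1)), (n 2, deg (D 2)), (n 3, deg (D 3))) : C5) = ((1, 21), (-1, 99), (-1, 154), (1, 231))) ∨
    ((((m 0, deg (A 0)), (m 1, deg (A 1)), (m 2, deg (A 2)), (m 3, deg (A 3)), (a, deg Y)) : C11) =
        ((-1, 21), (-1, 120), (1, 210), (1, 210), (-1, 280)) ∧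
      ((k 0, deg (B 0)), (k 1, deg (B 1)), (c, deg Z)) = ((-1, 55), (1, 120), (-1, 66)) ∧
      (((n 0, deg (D 0)), (n 1, deg (D 1)), (n 2, deg (D 2)), (n 3, deg (D 3))) : C5) = ((1, 21), (1, 66), (1, 66), (-1, 154))) := by
  have c1 : (((m 0, deg (A 0)), (m 1, deg (A 1)), (m 2, deg (A 2)), (m 3, deg (A 3)), (a, deg Y)) : C11) ∈ cands11 := by
    have h1 := b.rel1 h11 (by norm_num)
    have h2 := QB.sq b
    rw [H.card] at h2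
    rw [Fin.sum_univ_four] at h1 h2
    exact ar_cand11 _ (memT11 H b b' b5 0) _ (memT11 H b b' b5 1) (b.mono (by decide : (0 : Fin 4) ≤ 1)) _ (memT11 H b b' b5 2)
      (b.mono (by decide : (1 : Fin 4) ≤ 2)) _ (memT11 H b b' b5 3) (b.mono (by decide : (2 : Fin 4) ≤ 3)) _ (memTY11 H b b' b5) h1 h2
  have c2 : ((k 0, deg (B 0)), (k 1, deg (B 1)), (c, deg Z)) ∈ two7 := by
    rcases final7 H h7 b b' with h | h <;> rw [h] <;> simp [two7]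
  have c3 : (((n 0, deg (D 0)), (n 1, deg (D 1)), (n 2, deg (D 2)), (n 3, deg (D 3))) : C5) ∈ cands5 := by
    have h1 := b5.rel1 h5
    have h2 := Q5.sq b5
    rw [H.card] at h2
    rw [Fin.sum_univ_four] at h1 h2
    exact ar_cand5 _ (memT5 H b b' b5 0) _ (memT5 H b b' b5 1) (b5.mono (by decide : (0 : Fin 4) ≤ 1)) _ (memT5 H b b' b5 2)
      (b5.mono (by decide : (1 : Fin 4) ≤ 2)) _ (memT5 H b b' b5 3) (b5.mono (by decide : (2 : Fin 4) ≤ 3)) h1 h2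
  refine res1_iff (ar_match _ c1 _ c2 (all_of fun d _ h1 h2 => ?_) _ c3 (all_of fun d _ h1 h2 => ?_) (all_of fun d _ h1 h2 => ?_))
  · have e1 := b.count h1
    have e2 := b'.count h2
    rw [e1, Fin.sum_univ_four, Fin.sum_univ_two] at e2
    exact e2
  · have e1 := b.count h1
    have e2 := b5.count h2
    rw [e1, Fin.sum_univ_four, Fin.sum_univ_four] at e2
    exact e2
  · have e1 := b'.count h1
    have e2 := b5.count h2
    rw [e1, Fin.sum_univ_two, Fin.sum_univ_four] at e2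
    exact e2

end Cfsg.Agent.Lib.M22N
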