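import Mathlib
import Cfsg.Agent.Lib.M22C

/-!
# Simple groups of order 443520, part D: tools for complete lists of characters (helper7)
-/

set_option autoImplicit false
set_option linter.all false

namespace Cfsg.Agent.Lib.M22N

open Subgroup Cfsg Cfsg.Agent.Lib.CharBasic Cfsg.Agent.Lib.ColTools Cfsg.Agent.Lib.SmallSimple
  Cfsg.Agent.Lib.PBlock Cfsg.Agent.Lib.QBlk
open Cfsg.Agent.Lib.M12ByOrder (inv mem_inv)
open scoped ComplexConjugate

universe u

variable {G : Type u} [Group G] [Finite G]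

theorem ne_of_deg {χ ψ : IrrCharacter G} (h : deg χ ≠ deg ψ) : χ ≠ ψ := fun e => h (by rw [e])

theorem complete_list {L : List (IrrCharacter G)} (hL : L.Nodup) (h : Nat.card G ≤ (L.map fun χ => deg χ ^ 2).sum) :
    ∀ χ, χ ∈ L := by
  intro χ
  by_contra hχ
  have h1 : (χ :: L).Nodup := List.nodup_cons.2 ⟨hχ, hL⟩
  have h2 := list_le h1 (fun χ => deg χ ^ 2)
  rw [sum_deg_sq, List.map_cons, List.sum_cons] at h2
  have h3 : 0 < deg χ ^ 2 := pow_pos (deg_pos χ) 2
  omega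

theorem exists_not_mem {L : List (IrrCharacter G)} (hL : L.Nodup) (h : (L.map fun χ => deg χ ^ 2).sum < Nat.card G) :
    ∃ χ, χ ∉ L := by
  by_contra hno
  push Not at hno
  have h1 := sum_list L hL (fun χ => deg χ ^ 2) (fun χ h => absurd (hno χ) h)
  rw [sum_deg_sq] at h1
  omega

/-- two characters of the same degree, if it occurs once -/
theorem eq_of_count_one {d : ℕ} (h : (Finset.univ.filter fun χ : IrrCharacter G => deg χ = d).card = 1) {χ ψ : IrrCharacter G}
    (h1 : deg χ = d) (h2 : deg ψ = d) : χ = ψ :=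
  Finset.card_le_one.1 h.le χ (by simp [h1]) ψ (by simp [h2])

theorem pair_of_count_two {d : ℕ} (h : (Finset.univ.filter fun χ : IrrCharacter G => deg χ = d).card = 2) {χ χ' ψ ψ' : IrrCharacter G}
    (h1 : deg χ = d) (h2 : deg ψ = d) (h1' : deg χ' = d) (h2' : deg ψ' = d) (h3 : χ ≠ χ') (h4 : ψ ≠ ψ') :
    (χ = ψ ∧ χ' = ψ') ∨ (χ = ψ' ∧ χ' = ψ) := by
  classical
  have e1 : ({χ, χ'} : Finset (IrrCharacter G)) = (Finset.univ.filter fun χ : IrrCharacter G => deg χ = d) := by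
    apply Finset.eq_of_subset_of_card_le
    · intro z hz
      simp only [Finset.mem_insert, Finset.mem_singleton] at hz
      rcases hz with rfl | rfl <;> simp [h1, h1']
    · rw [h, Finset.card_pair h3]
  have m1 : ψ ∈ ({χ, χ'} : Finset (IrrCharacter G)) := by rw [e1]; simp [h2]
  have m2 : ψ' ∈ ({χ, χ'} : Finset (IrrCharacter G)) := by rw [e1]; simp [h2']
  simp only [Finset.mem_insert, Finset.mem_singleton] at m1 m2
  rcases m1 with m1 | m1 <;> rcases m2 with m2 | m2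
  · exact absurd (m1.trans m2.symm) h4
  · exact Or.inl ⟨m1.symm, m2.symm⟩
  · exact Or.inr ⟨m2.symm, m1.symm⟩
  · exact absurd (m1.trans m2.symm) h4

theorem ar_385 : ∀ d ∈ AD3, 11 ∣ d → 7 ∣ d → 5 ∣ d → d = 385 := by decide +kernel

variable [IsSimpleGroup G]

/-- centralizers of elements of order different from 1, 5, 7, 11 -/
theorem H22.cent_dvd (H : H22 G) {g : G} (h1 : g ≠ 1) (h5 : orderOf g ≠ 5) (h7 : orderOf g ≠ 7) (h11 : orderOf g ≠ 11) :
    Nat.card (centralizer ({g} : Set G)) ∣ 1152 := by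
  have key : ∀ p : ℕ, p.Prime → orderOf g ≠ p → (∀ y : G, orderOf y = p → Nat.card (centralizer ({y} : Set G)) = p) →
      ¬ p ∣ Nat.card (centralizer ({g} : Set G)) := by
    intro p hp hg hc hdvd
    have : Fact p.Prime := ⟨hp⟩
    obtain ⟨⟨y, hyC⟩, hy⟩ := exists_prime_orderOf_dvd_card' (G := centralizer ({g} : Set G)) p hdvd
    rw [Subgroup.orderOf_mk] at hy
    have hgC : g ∈ centralizer ({y} : Set G) := by
      rw [mem_centralizer_singleton_iff] at hyC ⊢
      exact hyC.symm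
    have h2 := orderOf_dvd_natCard (⟨g, hgC⟩ : centralizer ({y} : Set G))
    rw [hc y hy, Subgroup.orderOf_mk] at h2
    rcases (Nat.dvd_prime hp).1 h2 with h3 | h3
    · exact h1 (orderOf_eq_one_iff.1 h3)
    · exact hg h3
  have k5 := key 5 (by norm_num) h5 (fun y hy => H.c5 hy)
  have k7 := key 7 (by norm_num) h7 (fun y hy => H.c7 hy)
  have k11 := key 11 (by norm_num) h11 (fun y hy => H.c11 hy)
  have hd : Nat.card (centralizer ({g} : Set G)) ∣ 443520 := by rw [← H.card]; exact Subgroup.card_subgroup_dvd_card _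
  have e : (443520 : ℕ) = 1152 * 5 * 7 * 11 := by norm_num
  rw [e] at hd
  have c11 := ((Nat.Prime.coprime_iff_not_dvd (by norm_num : Nat.Prime 11)).2 k11).symm
  have c7 := ((Nat.Prime.coprime_iff_not_dvd (by norm_num : Nat.Prime 7)).2 k7).symm
  have c5 := ((Nat.Prime.coprime_iff_not_dvd (by norm_num : Nat.Prime 5)).2 k5).symm
  exact c5.dvd_of_dvd_mul_right (c7.dvd_of_dvd_mul_right (c11.dvd_of_dvd_mul_right hd))

/-- candidates for small values in a residue class modulo 4 -/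
def R4 (d : ℕ) : List ℤ := (List.range 18).map (fun k : ℕ => 4 * (k : ℤ) - 36 + (d % 4 : ℕ))

theorem mem_R4 {d : ℕ} {v : ℤ} (h1 : ((d : ℤ) - v) % 4 = 0) (h2 : v ^ 2 ≤ 1152) : v ∈ R4 d := by
  have h3 : -33 ≤ v := by nlinarith
  have h4 : v ≤ 33 := by nlinarith
  rw [R4, List.mem_map]
  refine ⟨((v + 36 - (d % 4 : ℕ)) / 4).toNat, ?_, ?_⟩
  · rw [List.mem_range]
    omega
  · omega

/-- all the numerical data at an involution -/
theorem inv_val (H : H22 G) {s : G} (hs : orderOf s = 2) (χ : IrrCharacter G) :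
    ∃ v : ℤ, (χ : G → ℂ) s = v ∧ v ∈ R4 (deg χ) ∧ ((deg χ : ℤ) - v) % 4 = 0 := by
  have hs2 : s ^ 2 = 1 := by rw [← hs]; exact pow_orderOf_eq_one s
  have hs1 : s ≠ 1 := fun h => by rw [h, orderOf_one] at hs; norm_num at hs
  obtain ⟨v, h1, h2, -⟩ := val_inv H.na χ s hs2
  refine ⟨v, h1, mem_R4 h2 ?_, h2⟩
  have h3 := col_norm s
  have h4 := H.cent_dvd hs1 (by rw [hs]; norm_num) (by rw [hs]; norm_num) (by rw [hs]; norm_num)
  have h5 : ‖(χ : G → ℂ) s‖ ^ 2 ≤ ∑ χ : IrrCharacter G, ‖(χ : G → ℂ) s‖ ^ 2 :=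
    Finset.single_le_sum (f := fun χ : IrrCharacter G => ‖(χ : G → ℂ) s‖ ^ 2) (fun _ _ => by positivity) (Finset.mem_univ χ)
  rw [h3, h1, Complex.norm_intCast, sq_abs] at h5
  have h6 : (Nat.card (centralizer ({s} : Set G)) : ℝ) ≤ 1152 := by exact_mod_cast Nat.le_of_dvd (by norm_num) h4
  have h7 : ((v ^ 2 : ℤ) : ℝ) ≤ ((1152 : ℤ) : ℝ) := by push_cast; linarith
  exact_mod_cast h7

end Cfsg.Agent.Lib.M22N
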