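import Mathlib
import Cfsg.Agent.Lib.M22D

/-!
# Simple groups of order 443520, part E: the second candidate for the degrees is impossible (helper7)
-/

set_option autoImplicit false
set_option linter.all false

namespace Cfsg.Agent.Lib.M22N

open Subgroup Cfsg Cfsg.Agent.Lib.CharBasic Cfsg.Agent.Lib.ColTools Cfsg.Agent.Lib.SmallSimple
  Cfsg.Agent.Lib.PBlock Cfsg.Agent.Lib.QBlk
open Cfsg.Agent.Lib.M12ByOrder (inv mem_inv)
open scoped ComplexConjugate

universe u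

def e73 (c r : ℤ) : Bool := 63360 - 1152 * (1 + c - r) ^ 2 + 528 * c ^ 2 - 960 * r ^ 2 == 0

def C3 (c r p g h w : ℤ) : ℤ := 1 + p ^ 2 + c ^ 2 + (1 + c - r) ^ 2 + 2 * r ^ 2 + (1 + p + 2 * r) ^ 2 + g ^ 2 + h ^ 2 +
  2 * (1 - p - c + g + h) ^ 2 + w ^ 2

def w3 (c r p g h : ℤ) : ℤ := - ((1 + 21 * p + 120 * c + 55 * (1 + c - r) + 132 * r + 154 * (1 + p + 2 * r) + 210 * (g + h) + 
  560 * (1 - p - c + g + h)) / 385)

def e113 (c r p g h : ℤ) : Bool := 40320 - 1920 * p ^ 2 - 336 * c ^ 2 + 192 * (g ^ 2 + h ^ 2) - 144 * (1 - p - c + g + h) ^ 2 == 0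

def ok3 (c r p g h : ℤ) : Bool := e113 c r p g h && (1152 % (C3 c r p g h (w3 c r p g h)) == 0 && 
   (5 * (88704 + 4224 * p ^ 2 + 2 * 1344 * r ^ 2 - 576 * (1 + p + 2 * r) ^ 2)) % (C3 c r p g h (w3 c r p g h)) ^ 2 == 0)

theorem ar_kill3 : ∀ c ∈ R4 120, ∀ r ∈ R4 66, e73 c r = true → ∀ p ∈ R4 21, ∀ g ∈ R4 210, ∀ h ∈ R4 210, ok3 c r p g h = false := by
  decide +kernel

variable {G : Type u} [Group G] [Finite G] [IsSimpleGroup G]

variable {x11 x7 x5 : G} {A : Fin 4 → IrrCharacter G} {m : Fin 4 → ℤ} {Y : IrrCharacter G} {a : ℤ}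
  {B : Fin 2 → IrrCharacter G} {k : Fin 2 → ℤ} {Z : IrrCharacter G} {c : ℤ} {D : Fin 4 → IrrCharacter G} {n : Fin 4 → ℤ}

theorem kill3 (H : H22 G) (h11 : orderOf x11 = 11) (h7 : orderOf x7 = 7) (h5 : orderOf x5 = 5)
    (b : QB 11 4 x11 A m Y a) (b' : QB 7 2 x7 B k Z c) (b5 : Q5 x5 D n)
    (e1 : (((m 0, deg (A 0)), (m 1, deg (A 1)), (m 2, deg (A 2)), (m 3, deg (A 3)), (a, deg Y)) : C11) =
        ((-1, 21), (-1, 120), (1, 210), (1, 210), (-1, 280)))
    (e2 : ((k 0, deg (B 0)), (k 1, deg (B 1)), (c, deg Z)) = ((-1, 55), (1, 120), (-1, 66)))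
    (e3 : (((n 0, deg (D 0)), (n 1, deg (D 1)), (n 2, deg (D 2)), (n 3, deg (D 3))) : C5) = ((1, 21), (1, 66), (1, 66), (-1, 154))) :
    False := by
  classical
  simp only [Prod.mk.injEq] at e1 e2 e3
  obtain ⟨⟨m0, d0⟩, ⟨m1, d1⟩, ⟨m2, d2⟩, ⟨m3, d3⟩, a0, dY⟩ := e1
  obtain ⟨⟨k0, f0⟩, ⟨k1, f1⟩, c0, dZ⟩ := e2
  obtain ⟨⟨n0, g0⟩, ⟨n1, g1⟩, ⟨n2, g2⟩, ⟨n3, g3⟩⟩ := e3
  have dcY : deg (cc Y) = 280 := by rw [deg_cc, dY]
  have dcZ : deg (cc Z) = 66 := by rw [deg_cc, dZ]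
  -- identifications
  have t0 : D 0 = A 0 := by
    refine eq_of_count_one (d := 21) ?_ g0 d0
    rw [b.count (by norm_num), Fin.sum_univ_four, d0, d1, d2, d3, dY]; norm_num
  have t1 : B 1 = A 1 := by
    refine eq_of_count_one (d := 120) ?_ f1 d1
    rw [b.count (by norm_num), Fin.sum_univ_four, d0, d1, d2, d3, dY]; norm_num
  have t2 : (D 1 = Z ∧ D 2 = cc Z) ∨ (D 1 = cc Z ∧ D 2 = Z) := by
    refine pair_of_count_two (d := 66) ?_ g1 dZ g2 dcZ (fun h => absurd (b5.inj h) (by decide)) (fun h => b'.cYY h.symm)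
    rw [b'.count (by norm_num), Fin.sum_univ_two, f0, f1, dZ]; norm_num
  have hL : [triv G, A 0, A 1, A 2, A 3, B 0, Z, cc Z, D 3, Y, cc Y].Nodup := by
    have hYY : Y ≠ cc Y := fun h => b.cYY h.symm
    have hZZ : Z ≠ cc Z := fun h => b'.cYY h.symm
    have h23 : A 2 ≠ A 3 := fun h => absurd (b.inj h) (by decide)
    simp only [List.nodup_cons, List.mem_cons, List.not_mem_nil, or_false, not_or, List.nodup_nil, and_true,
      not_false_eq_true]
    and_intros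
    all_goals first
      | exact hYY
      | exact hZZ
      | exact h23
      | exact ne_of_deg (by simp only [deg_triv, d0, d1, d2, d3, dY, dcY, f0, dZ, dcZ, g3]; norm_num)
  obtain ⟨X, hX⟩ := exists_not_mem hL (by
    rw [H.card]; simp only [List.map_cons, List.map_nil, List.sum_cons, List.sum_nil, deg_triv, d0, d1, d2, d3, dY, dcY, f0, dZ, dcZ, g3]; norm_num)
  have hX' := hX
  simp only [List.mem_cons, List.not_mem_nil, or_false, not_or] at hX'
  obtain ⟨x0, x1, x2, x3, x4, x5', x6, x7', x8, x9, x10⟩ := hX'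
  have dX : deg X = 385 := by
    refine ar_385 _ (memAD3 H b b' b5 X) ?_ ?_ ?_
    · refine (b.out X x0 (fun i => ?_) x9 x10).2.2
      fin_cases i
      exacts [x1, x2, x3, x4]
    · refine (b'.out X x0 (fun i => ?_) x6 x7').2.2
      fin_cases i
      · exact x5'
      · intro h; exact x2 (by rw [← t1]; exact h)
    · refine (b5.out X x0 (fun i => ?_)).2.2
      fin_cases i
      · intro h; exact x1 (by rw [← t0]; exact h)
      · intro h
        have h' : X = D 1 := h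
        rcases t2 with ⟨h1, h2⟩ | ⟨h1, h2⟩ <;> rw [h1] at h'
        · exact x6 h'
        · exact x7' h'
      · intro h
        have h' : X = D 2 := h
        rcases t2 with ⟨h1, h2⟩ | ⟨h1, h2⟩ <;> rw [h2] at h'
        · exact x7' h'
        · exact x6 h'
      · exact x8
  have hL' : (X :: [triv G, A 0, A 1, A 2, A 3, B 0, Z, cc Z, D 3, Y, cc Y]).Nodup := List.nodup_cons.2 ⟨hX, hL⟩
  have hall := complete_list hL' (by
    rw [H.card]
    simp only [List.map_cons, List.map_nil, List.sum_cons, List.sum_nil, deg_triv, d0, d1, d2, d3, dY, dcY, f0, dZ, dcZ, g3, dX]; norm_num)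
  -- an involution
  obtain ⟨s, hs⟩ := exists_elt H (p := 2) (by norm_num) (by norm_num)
  have hs2 : s ^ 2 = 1 := by rw [← hs]; exact pow_orderOf_eq_one s
  have hs1 : s ≠ 1 := fun h => by rw [h, orderOf_one] at hs; norm_num at hs
  have hsi : s⁻¹ = s := by rw [inv_eq_iff_mul_eq_one, ← pow_two, hs2]
  choose v hv1 hv2 hv3 using fun χ : IrrCharacter G => inv_val H hs χ
  obtain ⟨q1, q2⟩ := QBlk.not_isConj_of_order h11 (g := s) (by rw [hs]; norm_num)
  obtain ⟨q3, q4⟩ := QBlk.not_isConj_of_order h7 (g := s) (by rw [hs]; norm_num)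
  obtain ⟨q5, q6⟩ := QBlk.not_isConj_of_order h5 (g := s) (by rw [hs]; norm_num)
  have ccv : ∀ χ : IrrCharacter G, (cc χ : G → ℂ) s = v χ := fun χ => by rw [cc_apply, hv1, map_intCast]
  have vcc : ∀ χ : IrrCharacter G, v (cc χ) = v χ := fun χ => by
    have : (v (cc χ) : ℂ) = v χ := by rw [← hv1, ccv]
    exact_mod_cast this
  have vt : v (triv G) = 1 := by
    have : (v (triv G) : ℂ) = 1 := by rw [← hv1, triv_apply]
    exact_mod_cast this
  have r1 := b.rel s q1 q2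
  have r2 := b'.rel s q3 q4
  have r3 := b5.rel s q5
  simp only [hv1, Fin.sum_univ_four, Fin.sum_univ_two, m0, m1, m2, m3, a0, k0, k1, c0, n0, n1, n2, n3, t1] at r1 r2 r3
  have r4 : (v (D 1) : ℂ) + v (D 2) = 2 * v Z := by
    rcases t2 with ⟨h1, h2⟩ | ⟨h1, h2⟩ <;> rw [← hv1, ← hv1, h1, h2, ccv, hv1] <;> ring
  have r1' : v Y = 1 - v (A 0) - v (A 1) + v (A 2) + v (A 3) := by
    have : (v Y : ℂ) = ((1 - v (A 0) - v (A 1) + v (A 2) + v (A 3) : ℤ) : ℂ) := by push_cast; push_cast at r1; linear_combination -r1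
    exact_mod_cast this
  have r2' : v (B 0) = 1 + v (A 1) - v Z := by
    have : (v (B 0) : ℂ) = ((1 + v (A 1) - v Z : ℤ) : ℂ) := by push_cast; push_cast at r2; linear_combination -r2
    exact_mod_cast this
  have r3' : v (D 3) = 1 + v (A 0) + 2 * v Z := by
    have : (v (D 3) : ℂ) = ((1 + v (A 0) + 2 * v Z : ℤ) : ℂ) := by
      push_cast; push_cast at r3; rw [t0] at r3; linear_combination -r3 + r4
    exact_mod_cast this
  -- orthogonality with the first column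
  have o1 := col_orth_ne (g := s) (h := 1) (fun h => hs1 (by rwa [isConj_one_left] at h))
  rw [inv_one, sum_list _ hL' _ (fun χ h => absurd (hall χ) h)] at o1
  simp only [List.map_cons, List.map_nil, List.sum_cons, List.sum_nil, hv1, vcc, vt, apply_one, d0, d1, d2, d3, dY, dcY, f0, dZ, dcZ, g3, dX, deg_triv,
    add_zero] at o1
  have o1' : 385 * v X + (1 + (v (A 0) * 21 + (v (A 1) * 120 + (v (A 2) * 210 + (v (A 3) * 210 + (v (B 0) * 55 + (v Z * 66 + (v Z * 66 +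
      (v (D 3) * 154 + (v Y * 280 + v Y * 280)))))))))) = 0 := by
    have : ((385 * v X + (1 + (v (A 0) * 21 + (v (A 1) * 120 + (v (A 2) * 210 + (v (A 3) * 210 + (v (B 0) * 55 + (v Z * 66 + (v Z * 66 +
      (v (D 3) * 154 + (v Y * 280 + v Y * 280)))))))))) : ℤ) : ℂ) = 0 := by push_cast; push_cast at o1; linear_combination o1
    exact_mod_cast this
  -- the norm
  have o2 := col_orth_self s
  rw [hsi, sum_list _ hL' _ (fun χ h => absurd (hall χ) h)] at o2
  simp only [List.map_cons, List.map_nil, List.sum_cons, List.sum_nil, hv1, vcc, vt, add_zero] at o2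
  have w1 : v X = w3 (v (A 1)) (v Z) (v (A 0)) (v (A 2)) (v (A 3)) := by
    rw [r1', r2', r3'] at o1'
    rw [w3]
    omega
  obtain ⟨C, hC⟩ : ∃ C, C = Nat.card (centralizer ({s} : Set G)) := ⟨_, rfl⟩
  have hCd : C ∣ 1152 := by
    rw [hC]; exact H.cent_dvd hs1 (by rw [hs]; norm_num) (by rw [hs]; norm_num) (by rw [hs]; norm_num)
  have w2 : C3 (v (A 1)) (v Z) (v (A 0)) (v (A 2)) (v (A 3)) (v X) = C := by
    rw [← hC] at o2
    have : ((C3 (v (A 1)) (v Z) (v (A 0)) (v (A 2)) (v (A 3)) (v X) : ℤ) : ℂ) = C := by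
      rw [← o2, C3]
      have hB : (v (B 0) : ℂ) = 1 + v (A 1) - v Z := by rw [r2']; push_cast; ring
      have hD : (v (D 3) : ℂ) = 1 + v (A 0) + 2 * v Z := by rw [r3']; push_cast; ring
      have hY : (v Y : ℂ) = 1 - v (A 0) - v (A 1) + v (A 2) + v (A 3) := by rw [r1']; push_cast; ring
      rw [hB, hD, hY]
      push_cast
      ring
    exact_mod_cast this
  -- structure constants
  have s7 := b'.E_inv (N := 63360) (by norm_num) (by rw [H.card]) h7 (H.nr7 h7) hs2 (v := fun i => v (B i)) (fun i => hv1 _) (hv1 Z)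
  have s11 := b.E_inv (N := 40320) (by norm_num) (by rw [H.card]) h11 (H.nr11 h11) hs2 (v := fun i => v (A i)) (fun i => hv1 _) (hv1 Y)
  have s5 := b5.E (N := 88704) (by rw [H.card]) h5 (g := s) (h := s) (v := fun i => v (D i)) (w := fun i => v (D i)) (fun i => hv1 _) (fun i => hv1 _)
  obtain ⟨N5, hN5⟩ : ∃ N5 : ℕ, N5 = Nat.card {q : G × G // IsConj s q.1 ∧ IsConj s q.2 ∧ q.1 * q.2 = x5} := ⟨_, rfl⟩
  rw [← hN5] at s5
  simp only [Fin.sum_univ_four, Fin.sum_univ_two, m0, m1, m2, m3, a0, k0, k1, c0, n0, n1, n2, n3, d0, d1, d2, d3, dY, f0, f1, dZ, g0, g1, g2, g3,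
    t1] at s7 s11 s5
  have hD12 : v (D 1) * v (D 1) + v (D 2) * v (D 2) = 2 * v Z ^ 2 := by
    have : (v (D 1) : ℂ) * v (D 1) + v (D 2) * v (D 2) = 2 * v Z ^ 2 := by
      rcases t2 with ⟨h1, h2⟩ | ⟨h1, h2⟩ <;> rw [← hv1 (D 1), ← hv1 (D 2), h1, h2, ccv, hv1] <;> ring
    exact_mod_cast this
  have hD0 : v (D 0) = v (A 0) := by
    rw [t0]
  have z1 : e73 (v (A 1)) (v Z) = true := by
    rw [e73, beq_iff_eq]
    rw [r2'] at s7
    norm_num at s7
    linear_combination s7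
  have z2 : e113 (v (A 1)) (v Z) (v (A 0)) (v (A 2)) (v (A 3)) = true := by
    rw [e113, beq_iff_eq]
    rw [r1'] at s11
    norm_num at s11
    linear_combination s11
  have z3 : 1152 % (C3 (v (A 1)) (v Z) (v (A 0)) (v (A 2)) (v (A 3)) (w3 (v (A 1)) (v Z) (v (A 0)) (v (A 2)) (v (A 3)))) = 0 := by
    rw [← w1, w2]
    exact Int.emod_eq_zero_of_dvd (by exact_mod_cast hCd)
  have z4 : (5 * (88704 + 4224 * v (A 0) ^ 2 + 2 * 1344 * v Z ^ 2 - 576 * (1 + v (A 0) + 2 * v Z) ^ 2)) %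
      (C3 (v (A 1)) (v Z) (v (A 0)) (v (A 2)) (v (A 3)) (w3 (v (A 1)) (v Z) (v (A 0)) (v (A 2)) (v (A 3)))) ^ 2 = 0 := by
    rw [← w1, w2]
    apply Int.emod_eq_zero_of_dvd
    refine ⟨(N5 : ℤ), ?_⟩
    rw [← hC, r3', hD0] at s5
    norm_num at s5
    linear_combination -s5 - 1344 * 5 * hD12
  have hf := ar_kill3 _ (by rw [← d1]; exact hv2 (A 1)) _ (by rw [← dZ]; exact hv2 Z) z1 (v (A 0)) (by rw [← d0]; exact hv2 (A 0))
    (v (A 2)) (by rw [← d2]; exact hv2 (A 2)) (v (A 3)) (by rw [← d3]; exact hv2 (A 3))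
  rw [ok3, z2, z3, z4] at hf
  exact absurd hf (by decide)

end Cfsg.Agent.Lib.M22N
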