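import Mathlib
import Cfsg.Agent.Lib.M22E

/-!
# Simple groups of order 443520, part F: the character table (helper7)
-/

set_option autoImplicit false
set_option linter.all false

namespace Cfsg.Agent.Lib.M22N

open Subgroup Cfsg Cfsg.Agent.Lib.CharBasic Cfsg.Agent.Lib.ColTools Cfsg.Agent.Lib.SmallSimple
  Cfsg.Agent.Lib.PBlock Cfsg.Agent.Lib.QBlk
open Cfsg.Agent.Lib.M12ByOrder (inv mem_inv)
open scoped ComplexConjugate

universe u

variable {G : Type u} [Group G] [Finite G]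

/-- the character table -/
structure Tab (c21 c45 c55 c99 c154 c210 c231 c280 c385 : IrrCharacter G) : Prop where
  d21 : deg c21 = 21
  d45 : deg c45 = 45
  d55 : deg c55 = 55
  d99 : deg c99 = 99
  d154 : deg c154 = 154
  d210 : deg c210 = 210
  d231 : deg c231 = 231
  d280 : deg c280 = 280
  d385 : deg c385 = 385
  nodup : [triv G, c21, c45, cc c45, c55, c99, c154, c210, c231, c280, cc c280, c385].Nodup
  all : ∀ χ, χ ∈ [triv G, c21, c45, cc c45, c55, c99, c154, c210, c231, c280, cc c280, c385]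
  r11 : ∀ g, orderOf g ≠ 11 → 1 - (c21 : G → ℂ) g + (c45 : G → ℂ) g + (cc c45 : G → ℂ) g + (c210 : G → ℂ) g - (c280 : G → ℂ) g = 0
  r7 : ∀ g, orderOf g ≠ 7 → 1 - (c55 : G → ℂ) g + (c99 : G → ℂ) g - (c45 : G → ℂ) g = 0
  r5 : ∀ g, orderOf g ≠ 5 → 1 + (c21 : G → ℂ) g - (c99 : G → ℂ) g - (c154 : G → ℂ) g + (c231 : G → ℂ) g = 0
  cc45 : ∀ g, orderOf g ≠ 7 → (cc c45 : G → ℂ) g = (c45 : G → ℂ) g
  cc280 : ∀ g, orderOf g ≠ 11 → (cc c280 : G → ℂ) g = (c280 : G → ℂ) g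
  e7 : ∀ s, s ^ 2 = 1 → ∀ v99 v55 v45 : ℤ, (c99 : G → ℂ) s = v99 → (c55 : G → ℂ) s = v55 → (c45 : G → ℂ) s = v45 →
    63360 + (- 1152 * v55 ^ 2 + 640 * v99 ^ 2) - 1408 * v45 ^ 2 = 0
  e11 : ∀ s, s ^ 2 = 1 → ∀ v21 v45 v210 v280 : ℤ, (c21 : G → ℂ) s = v21 → (c45 : G → ℂ) s = v45 → (c210 : G → ℂ) s = v210 →
    (c280 : G → ℂ) s = v280 →
    40320 - 1920 * v21 ^ 2 + 2 * 896 * v45 ^ 2 + 192 * v210 ^ 2 - 144 * v280 ^ 2 = 0

variable [IsSimpleGroup G]

theorem exists_tab (H : H22 G) : ∃ c21 c45 c55 c99 c154 c210 c231 c280 c385 : IrrCharacter G,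
    Tab c21 c45 c55 c99 c154 c210 c231 c280 c385 := by
  classical
  obtain ⟨x11, h11⟩ := exists_elt H (p := 11) (by norm_num) (by norm_num)
  obtain ⟨x7, h7⟩ := exists_elt H (p := 7) (by norm_num) (by norm_num)
  obtain ⟨x5, h5⟩ := exists_elt H (p := 5) (by norm_num) (by norm_num)
  obtain ⟨A, m, Y, a, b⟩ := H.qb11 h11
  obtain ⟨B, k, Z, c, b'⟩ := H.qb7 h7
  obtain ⟨D, n, b5⟩ := H.q5 h5
  rcases two_cases H h11 h7 h5 b b' b5 with ⟨e1, e2, e3⟩ | ⟨e1, e2, e3⟩
  swap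
  · exact (kill3 H h11 h7 h5 b b' b5 e1 e2 e3).elim
  simp only [Prod.mk.injEq] at e1 e2 e3
  obtain ⟨⟨m0, d0⟩, ⟨m1, d1⟩, ⟨m2, d2⟩, ⟨m3, d3⟩, a0, dY⟩ := e1
  obtain ⟨⟨k0, f0⟩, ⟨k1, f1⟩, c0, dZ⟩ := e2
  obtain ⟨⟨n0, g0⟩, ⟨n1, g1⟩, ⟨n2, g2⟩, ⟨n3, g3⟩⟩ := e3
  have dcY : deg (cc Y) = 280 := by rw [deg_cc, dY]
  have dcZ : deg (cc Z) = 45 := by rw [deg_cc, dZ]
  -- identifications
  have t0 : D 0 = A 0 := by
    refine eq_of_count_one (d := 21) ?_ g0 d0
    rw [b.count (by norm_num), Fin.sum_univ_four, d0, d1, d2, d3, dY]; norm_num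
  have t1 : D 1 = B 1 := by
    refine eq_of_count_one (d := 99) ?_ g1 f1
    rw [b'.count (by norm_num), Fin.sum_univ_two, f0, f1, dZ]; norm_num
  have t2 : (A 1 = Z ∧ A 2 = cc Z) ∨ (A 1 = cc Z ∧ A 2 = Z) := by
    refine pair_of_count_two (d := 45) ?_ d1 dZ d2 dcZ (fun h => absurd (b.inj h) (by decide)) (fun h => b'.cYY h.symm)
    rw [b'.count (by norm_num), Fin.sum_univ_two, f0, f1, dZ]; norm_num
  have hYY : Y ≠ cc Y := fun h => b.cYY h.symm
  have hZZ : Z ≠ cc Z := fun h => b'.cYY h.symm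
  have hL : [triv G, A 0, Z, cc Z, B 0, B 1, D 2, A 3, D 3, Y, cc Y].Nodup := by
    simp only [List.nodup_cons, List.mem_cons, List.not_mem_nil, or_false, not_or, List.nodup_nil, and_true,
      not_false_eq_true]
    and_intros
    all_goals first
      | exact hYY
      | exact hZZ
      | exact ne_of_deg (by simp only [deg_triv, d0, d3, dY, dcY, f0, f1, dZ, dcZ, g2, g3]; norm_num)
  obtain ⟨X, hX⟩ := exists_not_mem hL (by
    rw [H.card]; simp only [List.map_cons, List.map_nil, List.sum_cons, List.sum_nil, deg_triv, d0, d3, dY, dcY, f0, f1, dZ, dcZ, g2, g3]; norm_num)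
  have hX' := hX
  simp only [List.mem_cons, List.not_mem_nil, or_false, not_or] at hX'
  obtain ⟨x0, x1, x2, x3, x4, x5', x6, x7', x8, x9, x10⟩ := hX'
  have dX : deg X = 385 := by
    refine ar_385 _ (memAD3 H b b' b5 X) ?_ ?_ ?_
    · refine (b.out X x0 (fun i => ?_) x9 x10).2.2
      fin_cases i
      · exact x1
      · intro h
        have h' : X = A 1 := h
        rcases t2 with ⟨h1, h2⟩ | ⟨h1, h2⟩ <;> rw [h1] at h'
        · exact x2 h'
        · exact x3 h'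
      · intro h
        have h' : X = A 2 := h
        rcases t2 with ⟨h1, h2⟩ | ⟨h1, h2⟩ <;> rw [h2] at h'
        · exact x3 h'
        · exact x2 h'
      · exact x7'
    · refine (b'.out X x0 (fun i => ?_) x2 x3).2.2
      fin_cases i
      · exact x4
      · exact x5'
    · refine (b5.out X x0 (fun i => ?_)).2.2
      fin_cases i
      · intro h; exact x1 (by rw [← t0]; exact h)
      · intro h; exact x5' (by rw [← t1]; exact h)
      · exact x6
      · exact x8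
  have hL' : [triv G, A 0, Z, cc Z, B 0, B 1, D 2, A 3, D 3, Y, cc Y, X].Nodup := by
    simp only [List.nodup_cons, List.mem_cons, List.not_mem_nil, or_false, not_or, List.nodup_nil, and_true,
      not_false_eq_true]
    and_intros
    all_goals first
      | exact hYY
      | exact hZZ
      | exact ne_of_deg (by simp only [deg_triv, d0, d3, dY, dcY, f0, f1, dZ, dcZ, g2, g3, dX]; norm_num)
  have hall := complete_list hL' (by
    rw [H.card]
    simp only [List.map_cons, List.map_nil, List.sum_cons, List.sum_nil, deg_triv, d0, d3, dY, dcY, f0, f1, dZ, dcZ, g2, g3, dX]; norm_num)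
  have hAA : ∀ g, (A 1 : G → ℂ) g + (A 2 : G → ℂ) g = (Z : G → ℂ) g + (cc Z : G → ℂ) g := by
    intro g
    rcases t2 with ⟨h1, h2⟩ | ⟨h1, h2⟩ <;> rw [h1, h2]
    ring
  have hccZ : ∀ g, orderOf g ≠ 7 → (cc Z : G → ℂ) g = (Z : G → ℂ) g := by
    intro g hg
    obtain ⟨q1, q2⟩ := QBlk.not_isConj_of_order h7 hg
    rw [cc_apply, conj_apply, b'.real g q1 q2]
  have hccY : ∀ g, orderOf g ≠ 11 → (cc Y : G → ℂ) g = (Y : G → ℂ) g := by
    intro g hg
    obtain ⟨q1, q2⟩ := QBlk.not_isConj_of_order h11 hg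
    rw [cc_apply, conj_apply, b.real g q1 q2]
  refine ⟨A 0, Z, B 0, B 1, D 2, A 3, D 3, Y, X, d0, dZ, f0, f1, g2, d3, g3, dY, dX, hL', hall, ?_, ?_, ?_, hccZ, hccY, ?_, ?_⟩
  · intro g hg
    obtain ⟨q1, q2⟩ := QBlk.not_isConj_of_order h11 hg
    have := b.rel g q1 q2
    simp only [Fin.sum_univ_four, m0, m1, m2, m3, a0] at this
    push_cast at this
    linear_combination this - hAA g
  · intro g hg
    obtain ⟨q1, q2⟩ := QBlk.not_isConj_of_order h7 hg
    have := b'.rel g q1 q2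
    simp only [Fin.sum_univ_two, k0, k1, c0] at this
    push_cast at this
    linear_combination this
  · intro g hg
    obtain ⟨q1, q2⟩ := QBlk.not_isConj_of_order h5 hg
    have := b5.rel g q1
    simp only [Fin.sum_univ_four, n0, n1, n2, n3, t0, t1] at this
    push_cast at this
    linear_combination this
  · intro s hs v99 v55 v45 w1 w2 w3
    have s7 := b'.E_inv (N := 63360) (by norm_num) (by rw [H.card]) h7 (H.nr7 h7) hs (v := ![v55, v99]) (by
      intro i; fin_cases i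
      · exact w2
      · exact w1) w3
    simp only [Fin.sum_univ_two, k0, k1, c0, f0, f1, dZ] at s7
    norm_num at s7
    linear_combination s7
  · intro s hs v21 v45 v210 v280 w1 w2 w3 w4
    have hs7 : orderOf s ≠ 7 := by
      intro h
      have := orderOf_dvd_of_pow_eq_one hs
      rw [h] at this; norm_num at this
    have w2' : (cc Z : G → ℂ) s = v45 := by rw [hccZ s hs7, w2]
    have s11 := b.E_inv (N := 40320) (by norm_num) (by rw [H.card]) h11 (H.nr11 h11) hs (v := ![v21, v45, v45, v210]) (by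
      intro i; fin_cases i
      · exact w1
      · show (A 1 : G → ℂ) s = v45
        rcases t2 with ⟨h1, h2⟩ | ⟨h1, h2⟩ <;> rw [h1]
        · exact w2
        · exact w2'
      · show (A 2 : G → ℂ) s = v45
        rcases t2 with ⟨h1, h2⟩ | ⟨h1, h2⟩ <;> rw [h2]
        · exact w2'
        · exact w2
      · exact w3) w4
    have u0 : (![v21, v45, v45, v210] : Fin 4 → ℤ) 0 = v21 := rfl
    have u1 : (![v21, v45, v45, v210] : Fin 4 → ℤ) 1 = v45 := rfl
    have u2 : (![v21, v45, v45, v210] : Fin 4 → ℤ) 2 = v45 := rfl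
    have u3 : (![v21, v45, v45, v210] : Fin 4 → ℤ) 3 = v210 := rfl
    simp only [Fin.sum_univ_four, m0, m1, m2, m3, a0, d0, d1, d2, d3, dY, u0, u1, u2, u3] at s11
    norm_num at s11
    linear_combination s11

variable {c21 c45 c55 c99 c154 c210 c231 c280 c385 : IrrCharacter G}

theorem Tab.v11 (H : H22 G) (T : Tab c21 c45 c55 c99 c154 c210 c231 c280 c385) {g : G} (hg : orderOf g = 11) : (c21 : G → ℂ) g = -1 := by
  classical
  obtain ⟨x7, h7⟩ := exists_elt H (p := 7) (by norm_num) (by norm_num)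
  obtain ⟨x5, h5⟩ := exists_elt H (p := 5) (by norm_num) (by norm_num)
  obtain ⟨A, m, Y, a, b⟩ := H.qb11 hg
  obtain ⟨B, k, Z, c, b'⟩ := H.qb7 h7
  obtain ⟨D, n, b5⟩ := H.q5 h5
  rcases two_cases H hg h7 h5 b b' b5 with ⟨e1, e2, e3⟩ | ⟨e1, e2, e3⟩
  swap
  · exact (kill3 H hg h7 h5 b b' b5 e1 e2 e3).elim
  simp only [Prod.mk.injEq] at e1 e2 e3
  obtain ⟨⟨m0, d0⟩, ⟨m1, d1⟩, ⟨m2, d2⟩, ⟨m3, d3⟩, a0, dY⟩ := e1
  have t0 : c21 = A 0 := by
    refine eq_of_count_one (d := 21) ?_ T.d21 d0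
    rw [b.count (by norm_num), Fin.sum_univ_four, d0, d1, d2, d3, dY]; norm_num
  rw [t0, (b.vA 0).1, m0]; norm_num

theorem Tab.v5 (H : H22 G) (T : Tab c21 c45 c55 c99 c154 c210 c231 c280 c385) {g : G} (hg : orderOf g = 5) : (c21 : G → ℂ) g = 1 := by
  classical
  obtain ⟨x7, h7⟩ := exists_elt H (p := 7) (by norm_num) (by norm_num)
  obtain ⟨x11, h11⟩ := exists_elt H (p := 11) (by norm_num) (by norm_num)
  obtain ⟨A, m, Y, a, b⟩ := H.qb11 h11
  obtain ⟨B, k, Z, c, b'⟩ := H.qb7 h7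
  obtain ⟨D, n, b5⟩ := H.q5 hg
  rcases two_cases H h11 h7 hg b b' b5 with ⟨e1, e2, e3⟩ | ⟨e1, e2, e3⟩
  swap
  · exact (kill3 H h11 h7 hg b b' b5 e1 e2 e3).elim
  simp only [Prod.mk.injEq] at e1 e2 e3
  obtain ⟨⟨n0, g0⟩, ⟨n1, g1⟩, ⟨n2, g2⟩, ⟨n3, g3⟩⟩ := e3
  have t0 : c21 = D 0 := by
    refine eq_of_count_one (d := 21) ?_ T.d21 g0
    rw [b5.count (by norm_num), Fin.sum_univ_four, g0, g1, g2, g3]; norm_num
  rw [t0, (b5.vD 0).1, n0]; norm_num

theorem Tab.v7 (H : H22 G) (T : Tab c21 c45 c55 c99 c154 c210 c231 c280 c385) {g : G} (hg : orderOf g = 7) : (c21 : G → ℂ) g = 0 := by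
  classical
  obtain ⟨B, k, Z, c, b⟩ := H.qb7 hg
  have hd : ∀ χ : IrrCharacter G, deg χ = 21 → 7 ∣ deg χ := fun χ h => by rw [h]; norm_num
  have h7 := hd _ T.d21
  refine (b.out c21 ?_ (fun i h => ?_) (fun h => ?_) (fun h => ?_)).1
  · intro h; rw [h, deg_triv] at h7; norm_num at h7
  · rw [h] at h7; exact b.not_dvd (by norm_num) i h7
  · rw [h] at h7; exact b.not_dvdY (by norm_num) h7
  · rw [h, deg_cc] at h7; exact b.not_dvdY (by norm_num) h7

end Cfsg.Agent.Lib.M22N
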