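import Mathlib
import Cfsg.Agent.Lib.M22F
import Cfsg.Agent.Lib.NseTools

/-!
# Simple groups of order 443520, part G: the involutions (helper7)
-/

set_option autoImplicit false
set_option linter.all false

namespace Cfsg.Agent.Lib.M22N

open Subgroup Cfsg Cfsg.Agent.Lib.CharBasic Cfsg.Agent.Lib.ColTools Cfsg.Agent.Lib.SmallSimple
  Cfsg.Agent.Lib.PBlock Cfsg.Agent.Lib.QBlk
open Cfsg.Agent.Lib.M12ByOrder (inv mem_inv)
open scoped ComplexConjugate

universe u

def e72 (b a : ℤ) : Bool := 63360 + (- 1152 * (1 + b - a) ^ 2 + 640 * b ^ 2) - 1408 * a ^ 2 == 0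

def e112 (a p t : ℤ) : Bool := 40320 - 1920 * p ^ 2 + 2 * 896 * a ^ 2 + 192 * (p + t - 2 * a - 1) ^ 2 - 144 * t ^ 2 == 0

def w2 (b a p t q : ℤ) : ℤ := - ((1 + 21 * p + 90 * a + 55 * (1 + b - a) + 99 * b + 154 * (1 + p - b + q) + 210 * (p + t - 2 * a - 1) + 
  231 * q + 560 * t) / 385)

def C2 (b a p t q w : ℤ) : ℤ := 1 + p ^ 2 + 2 * a ^ 2 + (1 + b - a) ^ 2 + b ^ 2 + (1 + p - b + q) ^ 2 + (p + t - 2 * a - 1) ^ 2 + q ^ 2 +
  2 * t ^ 2 + w ^ 2

theorem ar_inv2 : ∀ b ∈ R4 99, ∀ a ∈ R4 45, e72 b a = true → ∀ p ∈ R4 21, ∀ t ∈ R4 280, e112 a p t = true → ∀ q ∈ R4 231,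
    1152 % (C2 b a p t q (w2 b a p t q)) = 0 → b = 3 ∧ a = -3 ∧ p = 5 ∧ t = -8 ∧ q = 7 := by
  decide +kernel

variable {G : Type u} [Group G] [Finite G] [IsSimpleGroup G]

variable {c21 c45 c55 c99 c154 c210 c231 c280 c385 : IrrCharacter G}

/-- sums over all characters -/
theorem Tab.sum (T : Tab c21 c45 c55 c99 c154 c210 c231 c280 c385) {M : Type*} [AddCommMonoid M] (f : IrrCharacter G → M) :
    ∑ χ, f χ = f (triv G) + (f c21 + (f c45 + (f (cc c45) + (f c55 + (f c99 + (f c154 + (f c210 + (f c231 + (f c280 + (f (cc c280) + f c385)))))))))) := by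
  rw [sum_list _ T.nodup f (fun χ h => absurd (T.all χ) h)]
  simp only [List.map_cons, List.map_nil, List.sum_cons, List.sum_nil, add_zero]

/-- the column of an involution -/
structure Inv22 (s : G) (c21 c45 c55 c99 c154 c210 c231 c280 c385 : IrrCharacter G) : Prop where
  s21 : (c21 : G → ℂ) s = 5
  s45 : (c45 : G → ℂ) s = -3
  s45' : (cc c45 : G → ℂ) s = -3
  s55 : (c55 : G → ℂ) s = 7
  s99 : (c99 : G → ℂ) s = 3
  s154 : (c154 : G → ℂ) s = 10
  s210 : (c210 : G → ℂ) s = 2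
  s231 : (c231 : G → ℂ) s = 7
  s280 : (c280 : G → ℂ) s = -8
  s280' : (cc c280 : G → ℂ) s = -8
  s385 : (c385 : G → ℂ) s = 1

theorem Tab.inv (H : H22 G) (T : Tab c21 c45 c55 c99 c154 c210 c231 c280 c385) {s : G} (hs : orderOf s = 2) :
    Inv22 s c21 c45 c55 c99 c154 c210 c231 c280 c385 := by
  classical
  have hs2 : s ^ 2 = 1 := by rw [← hs]; exact pow_orderOf_eq_one s
  have hs1 : s ≠ 1 := fun h => by rw [h, orderOf_one] at hs; norm_num at hs
  have hsi : s⁻¹ = s := by rw [inv_eq_iff_mul_eq_one, ← pow_two, hs2]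
  choose v hv1 hv2 hv3 using fun χ : IrrCharacter G => inv_val H hs χ
  have ccv : ∀ χ : IrrCharacter G, (cc χ : G → ℂ) s = v χ := fun χ => by rw [cc_apply, hv1, map_intCast]
  have vcc : ∀ χ : IrrCharacter G, v (cc χ) = v χ := fun χ => by
    have : (v (cc χ) : ℂ) = v χ := by rw [← hv1, ccv]
    exact_mod_cast this
  have vt : v (triv G) = 1 := by
    have : (v (triv G) : ℂ) = 1 := by rw [← hv1, triv_apply]
    exact_mod_cast this
  have r1 := T.r11 s (by rw [hs]; norm_num)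
  have r2 := T.r7 s (by rw [hs]; norm_num)
  have r3 := T.r5 s (by rw [hs]; norm_num)
  simp only [hv1, vcc] at r1 r2 r3
  have r1' : v c210 = v c21 + v c280 - 2 * v c45 - 1 := by
    have : (v c210 : ℂ) = ((v c21 + v c280 - 2 * v c45 - 1 : ℤ) : ℂ) := by push_cast; linear_combination r1
    exact_mod_cast this
  have r2' : v c55 = 1 + v c99 - v c45 := by
    have : (v c55 : ℂ) = ((1 + v c99 - v c45 : ℤ) : ℂ) := by push_cast; linear_combination -r2
    exact_mod_cast this
  have r3' : v c154 = 1 + v c21 - v c99 + v c231 := by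
    have : (v c154 : ℂ) = ((1 + v c21 - v c99 + v c231 : ℤ) : ℂ) := by push_cast; linear_combination -r3
    exact_mod_cast this
  have o1 := col_orth_ne (g := s) (h := 1) (fun h => hs1 (by rwa [isConj_one_left] at h))
  rw [inv_one, T.sum] at o1
  simp only [hv1, vcc, vt, apply_one, deg_triv, deg_cc, T.d21, T.d45, T.d55, T.d99, T.d154, T.d210, T.d231, T.d280, T.d385] at o1
  have o1' : 1 + (v c21 * 21 + (v c45 * 45 + (v c45 * 45 + (v c55 * 55 + (v c99 * 99 + (v c154 * 154 + (v c210 * 210 + (v c231 * 231 +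
      (v c280 * 280 + (v c280 * 280 + v c385 * 385)))))))))) = 0 := by
    have : ((1 + (v c21 * 21 + (v c45 * 45 + (v c45 * 45 + (v c55 * 55 + (v c99 * 99 + (v c154 * 154 + (v c210 * 210 + (v c231 * 231 +
      (v c280 * 280 + (v c280 * 280 + v c385 * 385)))))))))) : ℤ) : ℂ) = 0 := by push_cast; push_cast at o1; linear_combination o1
    exact_mod_cast this
  have o2 := col_orth_self s
  rw [hsi, T.sum] at o2
  simp only [hv1, vcc, vt] at o2
  have w1 : v c385 = w2 (v c99) (v c45) (v c21) (v c280) (v c231) := by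
    rw [r1', r2', r3'] at o1'
    rw [w2]
    omega
  obtain ⟨C, hC⟩ : ∃ C, C = Nat.card (centralizer ({s} : Set G)) := ⟨_, rfl⟩
  have hCd : C ∣ 1152 := by
    rw [hC]; exact H.cent_dvd hs1 (by rw [hs]; norm_num) (by rw [hs]; norm_num) (by rw [hs]; norm_num)
  have w2' : C2 (v c99) (v c45) (v c21) (v c280) (v c231) (v c385) = C := by
    rw [← hC] at o2
    have : ((C2 (v c99) (v c45) (v c21) (v c280) (v c231) (v c385) : ℤ) : ℂ) = C := by
      rw [← o2, C2]
      have hB : (v c55 : ℂ) = 1 + v c99 - v c45 := by rw [r2']; push_cast; ring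
      have hD : (v c154 : ℂ) = 1 + v c21 - v c99 + v c231 := by rw [r3']; push_cast; ring
      have hY : (v c210 : ℂ) = v c21 + v c280 - 2 * v c45 - 1 := by rw [r1']; push_cast; ring
      rw [hB, hD, hY]
      push_cast
      ring
    exact_mod_cast this
  have z1 : e72 (v c99) (v c45) = true := by
    rw [e72, beq_iff_eq]
    have := T.e7 s hs2 _ _ _ (hv1 c99) (hv1 c55) (hv1 c45)
    rw [r2'] at this
    linear_combination this
  have z2 : e112 (v c45) (v c21) (v c280) = true := by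
    rw [e112, beq_iff_eq]
    have := T.e11 s hs2 _ _ _ _ (hv1 c21) (hv1 c45) (hv1 c210) (hv1 c280)
    rw [r1'] at this
    linear_combination this
  obtain ⟨b1, b2, b3, b4, b5⟩ := ar_inv2 _ (by rw [← T.d99]; exact hv2 c99) _ (by rw [← T.d45]; exact hv2 c45) z1 _ (by rw [← T.d21]; exact hv2 c21)
    _ (by rw [← T.d280]; exact hv2 c280) z2 _ (by rw [← T.d231]; exact hv2 c231) (by
      rw [← w1, w2']
      exact Int.emod_eq_zero_of_dvd (by exact_mod_cast hCd))
  have b6 : v c55 = 7 := by rw [r2', b1, b2]; norm_num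
  have b7 : v c154 = 10 := by rw [r3', b3, b1, b5]; norm_num
  have b8 : v c210 = 2 := by rw [r1', b3, b4, b2]; norm_num
  have b9 : v c385 = 1 := by rw [w1, b1, b2, b3, b4, b5]; decide
  refine ⟨?_, ?_, ?_, ?_, ?_, ?_, ?_, ?_, ?_, ?_, ?_⟩
  all_goals rw [hv1]
  · rw [b3]; norm_num
  · rw [b2]; norm_num
  · rw [vcc, b2]; norm_num
  · rw [b6]; norm_num
  · rw [b1]; norm_num
  · rw [b7]; norm_num
  · rw [b8]; norm_num
  · rw [b5]; norm_num
  · rw [b4]; norm_num
  · rw [vcc, b4]; norm_num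
  · rw [b9]; norm_num

theorem Tab.inv_orth (H : H22 G) (T : Tab c21 c45 c55 c99 c154 c210 c231 c280 c385) {s t : G} (hs : orderOf s = 2) (ht : orderOf t = 2) :
    ∑ χ : IrrCharacter G, (χ : G → ℂ) s * (χ : G → ℂ) t⁻¹ = 384 := by
  have ht2 : t ^ 2 = 1 := by rw [← ht]; exact pow_orderOf_eq_one t
  have hti : t⁻¹ = t := by rw [inv_eq_iff_mul_eq_one, ← pow_two, ht2]
  have h1 := T.inv H hs
  have h2 := T.inv H ht
  rw [hti, T.sum]
  rw [h1.s21, h1.s45, h1.s45', h1.s55, h1.s99, h1.s154, h1.s210, h1.s231, h1.s280, h1.s280', h1.s385,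
    h2.s21, h2.s45, h2.s45', h2.s55, h2.s99, h2.s154, h2.s210, h2.s231, h2.s280, h2.s280', h2.s385, triv_apply, triv_apply]
  norm_num

theorem Tab.inv_cent (H : H22 G) (T : Tab c21 c45 c55 c99 c154 c210 c231 c280 c385) {s : G} (hs : orderOf s = 2) :
    Nat.card (centralizer ({s} : Set G)) = 384 := by
  have h1 := T.inv_orth H hs hs
  rw [col_orth_self] at h1
  exact_mod_cast h1

theorem Tab.inv_conj (H : H22 G) (T : Tab c21 c45 c55 c99 c154 c210 c231 c280 c385) {s t : G} (hs : orderOf s = 2) (ht : orderOf t = 2) :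
    IsConj s t := by
  by_contra h
  have h1 := T.inv_orth H hs ht
  rw [col_orth_ne h] at h1
  norm_num at h1

theorem Tab.card_inv (H : H22 G) (T : Tab c21 c45 c55 c99 c154 c210 c231 c280 c385) : Nat.card {g : G // orderOf g = 2} = 1155 := by
  obtain ⟨s, hs⟩ := exists_elt H (p := 2) (by norm_num) (by norm_num)
  have h1 := CharBasic.card_isConj_mul_card_centralizer s
  rw [T.inv_cent H hs, H.card] at h1
  have h2 : Nat.card {g : G // orderOf g = 2} = Nat.card {x : G // IsConj s x} := by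
    apply Nat.card_congr
    apply Equiv.subtypeEquivRight
    intro g
    constructor
    · intro h; exact T.inv_conj H hs h
    · intro h; rw [← M11ByOrder.isConj_order h, hs]
  rw [h2]; omega

omit [IsSimpleGroup G] in
theorem sylow_card_prime {p : ℕ} [hpp : Fact p.Prime] (hd : p ∣ Nat.card G) (hsq : ¬ p ^ 2 ∣ Nat.card G) :
    ∀ P : Sylow p G, Nat.card P = p := by
  obtain ⟨x, hx⟩ := exists_prime_orderOf_dvd_card' (G := G) p hd
  obtain ⟨P0, h1, -⟩ := sylow_elt hsq x hx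
  intro P
  have h2 : Nat.card (P : Subgroup G) = Nat.card (P0 : Subgroup G) := Nat.card_congr (Sylow.equiv P P0).toEquiv
  exact h2.trans h1

theorem card_order_p (H : H22 G) {p n c : ℕ} [hpp : Fact p.Prime] (hd : p ∣ 443520) (hsq : ¬ p ^ 2 ∣ 443520)
    (hN : ∀ x : G, orderOf x = p → Nat.card (normalizer (zpowers x : Set G)) = n) (hn : n * c = 443520) (hn0 : n ≠ 0) :
    Nat.card {g : G // orderOf g = p} = (p - 1) * c := by
  have h1 := sylow_card_prime (G := G) (p := p) (by rw [H.card]; exact hd) (by rw [H.card]; exact hsq)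
  rw [NseTools.card_order_prime h1]
  obtain ⟨x, hx⟩ := exists_prime_orderOf_dvd_card' (G := G) p (by rw [H.card]; exact hd)
  obtain ⟨P, h2, h3, -⟩ := sylow_elt (by rw [H.card]; exact hsq) x hx
  have h4 := NseTools.card_sylow_mul P
  rw [h3, hN x hx, H.card, ← hn] at h4
  have : Nat.card (Sylow p G) = c := Nat.eq_of_mul_eq_mul_left (Nat.pos_of_ne_zero hn0) (by linarith)
  rw [this]; ring

end Cfsg.Agent.Lib.M22N
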