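import Mathlib
import Cfsg.Agent.Lib.M22G
import Cfsg.Agent.Lib.DefZeroCount
import Cfsg.Agent.Lib.FrobDvd
import Cfsg.Agent.Lib.CharGalois

/-!
# Simple groups of order 443520, part H: the 3-singular elements (helper7)
-/

set_option autoImplicit false
set_option linter.all false

namespace Cfsg.Agent.Lib.M22N

open Subgroup Cfsg Cfsg.Agent.Lib.CharBasic Cfsg.Agent.Lib.ColTools Cfsg.Agent.Lib.SmallSimple
  Cfsg.Agent.Lib.PBlock Cfsg.Agent.Lib.QBlk
open scoped ComplexConjugate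

universe u

variable {G : Type u} [Group G] [Finite G]

/-- characters determined by their degree have integral values -/
theorem int_of_unique (χ : IrrCharacter G) (h : ∀ ψ : IrrCharacter G, deg ψ = deg χ → ψ = χ) (g : G) : ∃ n : ℤ, (χ : G → ℂ) g = n := by
  obtain ⟨q, hq⟩ := CharGalois.exists_rat_of_pow χ.2.isCharacter g (by
    intro k hk
    have h1 := h ⟨_, CharGalois.isIrrCharacter_pow χ.2 hk⟩ (by
      have h2 : ((⟨_, CharGalois.isIrrCharacter_pow χ.2 hk⟩ : IrrCharacter G) : G → ℂ) 1 = (χ : G → ℂ) 1 := by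
        show (χ : G → ℂ) (1 ^ k) = (χ : G → ℂ) 1
        rw [one_pow]
      rw [apply_one, apply_one] at h2
      exact_mod_cast h2)
    exact congrFun (congrArg Subtype.val h1) g)
  have hint : IsIntegral ℤ ((χ : G → ℂ) g) := by
    obtain ⟨n, ρ, hρ⟩ := χ.2.isCharacter
    rw [← hρ]; exact CharValues.isIntegral_character ρ g
  exact CharCentral.exists_int_of_isIntegral_rat hint q hq

/-- counting elements with centralizer of a given order -/
theorem dvd_card_of_cent (P : G → Prop) (hP : ∀ g h, IsConj g h → P g → P h) {c : ℕ}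
    (hc : ∀ g, P g → Nat.card (centralizer ({g} : Set G)) = c) : (Nat.card G / c) ∣ Nat.card {g : G // P g} := by
  classical
  apply FrobDvd.dvd_card_of_fibers (fun g : {g : G // P g} => ConjClasses.mk g.1)
  intro b
  by_cases h1 : ∃ a : {g : G // P g}, ConjClasses.mk a.1 = b
  · obtain ⟨a, rfl⟩ := h1
    have h2 : Nat.card {a' : {g : G // P g} // ConjClasses.mk a'.1 = ConjClasses.mk a.1} = Nat.card {x : G // IsConj a.1 x} := by
      apply Nat.card_congr
      refine ⟨fun z => ⟨z.1.1, (ConjClasses.mk_eq_mk_iff_isConj.1 z.2).symm⟩, fun z => ⟨⟨z.1, hP _ _ z.2 a.2⟩, ConjClasses.mk_eq_mk_iff_isConj.2 z.2.symm⟩,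
        fun z => rfl, fun z => rfl⟩
    rw [h2]
    have h3 := CharBasic.card_isConj_mul_card_centralizer a.1
    rw [hc a.1 a.2] at h3
    have hc0 : 0 < c := by rw [← hc a.1 a.2]; exact Nat.card_pos
    rw [← h3, Nat.mul_div_cancel _ hc0]
  · have : IsEmpty {a : {g : G // P g} // ConjClasses.mk a.1 = b} := ⟨fun z => h1 ⟨z.1, z.2⟩⟩
    have h0 : Nat.card {a : {g : G // P g} // ConjClasses.mk a.1 = b} = 0 := Nat.card_of_isEmpty
    rw [h0]
    exact dvd_zero _

theorem cent_isConj {g h : G} (hgh : IsConj g h) : Nat.card (centralizer ({g} : Set G)) = Nat.card (centralizer ({h} : Set G)) := by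
  have h1 := CharBasic.card_isConj_mul_card_centralizer g
  have h2 := CharBasic.card_isConj_mul_card_centralizer h
  have h3 : Nat.card {x : G // IsConj g x} = Nat.card {x : G // IsConj h x} := by
    apply Nat.card_congr
    exact Equiv.subtypeEquivRight (fun x => ⟨fun e => hgh.symm.trans e, fun e => hgh.trans e⟩)
  rw [h3, ← h2] at h1
  have h4 : 0 < Nat.card {x : G // IsConj h x} := by
    have : Nonempty {x : G // IsConj h x} := ⟨⟨h, IsConj.refl h⟩⟩
    exact Nat.card_pos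
  exact Nat.eq_of_mul_eq_mul_left h4 h1

def C9 (r p : ℤ) : ℤ := 9 + 18 * r + 14 * r ^ 2 + 3 * p ^ 2

theorem ar_C9' : ∀ r ∈ (List.range 19).map (fun k : ℕ => (k : ℤ) - 9), ∀ p ∈ (List.range 41).map (fun k : ℕ => (k : ℤ) - 20),
    1152 % C9 r p = 0 → C9 r p % 3 = 0 → (C9 r p = 9 ∧ p = 0) ∨ ((C9 r p = 12 ∨ C9 r p = 192) ∧ (p = 1 ∨ p = -1)) ∨
      (C9 r p = 36 ∧ (p = 3 ∨ p = -3)) := by decide +kernel

theorem mem_shift {v : ℤ} {n k : ℕ} (h1 : -(k : ℤ) ≤ v) (h2 : v + k < n) : v ∈ (List.range n).map (fun j : ℕ => (j : ℤ) - k) := by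
  rw [List.mem_map]
  refine ⟨(v + k).toNat, ?_, ?_⟩
  · rw [List.mem_range]; omega
  · omega

theorem ar_C9 (r p : ℤ) (C : ℕ) (hC : C9 r p = C) (h1 : C ∣ 1152) (h3 : 3 ∣ C) : (C = 9 ∧ p = 0) ∨
    ((C = 12 ∨ C = 192) ∧ (p = 1 ∨ p = -1)) ∨ (C = 36 ∧ (p = 3 ∨ p = -3)) := by
  have hle : (C : ℤ) ≤ 1152 := by exact_mod_cast Nat.le_of_dvd (by norm_num) h1
  have e : 9 + 18 * r + 14 * r ^ 2 + 3 * p ^ 2 ≤ 1152 := by rw [← hC] at hle; exact hle
  have a1 : r ≤ 9 := by nlinarith [sq_nonneg p]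
  have a2 : -9 ≤ r := by nlinarith [sq_nonneg p]
  have a3 : p ≤ 20 := by nlinarith [sq_nonneg (r + 1)]
  have a4 : -20 ≤ p := by nlinarith [sq_nonneg (r + 1)]
  have m1 : r ∈ (List.range 19).map (fun k : ℕ => (k : ℤ) - 9) := mem_shift (k := 9) (by push_cast; linarith) (by push_cast; linarith)
  have m2 : p ∈ (List.range 41).map (fun k : ℕ => (k : ℤ) - 20) := mem_shift (k := 20) (by push_cast; linarith) (by push_cast; linarith)
  have := ar_C9' r m1 p m2 (by rw [hC]; exact Int.emod_eq_zero_of_dvd (by exact_mod_cast h1))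
    (by rw [hC]; exact Int.emod_eq_zero_of_dvd (by exact_mod_cast h3))
  rw [hC] at this
  omega

variable [IsSimpleGroup G]

variable {c21 c45 c55 c99 c154 c210 c231 c280 c385 : IrrCharacter G}

theorem Tab.unique (T : Tab c21 c45 c55 c99 c154 c210 c231 c280 c385) (ψ : IrrCharacter G) :
    (deg ψ = 21 → ψ = c21) ∧ (deg ψ = 231 → ψ = c231) ∧ (deg ψ = 210 → ψ = c210) ∧ (deg ψ = 154 → ψ = c154) ∧ (deg ψ = 55 → ψ = c55) := by
  have h := T.all ψ
  simp only [List.mem_cons, List.not_mem_nil, or_false] at h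
  rcases h with h | h | h | h | h | h | h | h | h | h | h | h <;> rw [h] <;>
    simp only [deg_triv, deg_cc, T.d21, T.d45, T.d55, T.d99, T.d154, T.d210, T.d231, T.d280, T.d385] <;> norm_num

theorem Tab.int21 (T : Tab c21 c45 c55 c99 c154 c210 c231 c280 c385) (g : G) : ∃ n : ℤ, (c21 : G → ℂ) g = n :=
  int_of_unique c21 (fun ψ h => (T.unique ψ).1 (by rw [h, T.d21])) g

theorem Tab.int231 (T : Tab c21 c45 c55 c99 c154 c210 c231 c280 c385) (g : G) : ∃ n : ℤ, (c231 : G → ℂ) g = n :=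
  int_of_unique c231 (fun ψ h => (T.unique ψ).2.1 (by rw [h, T.d231])) g

theorem fac9 (H : H22 G) {χ : IrrCharacter G} (h : 3 ^ 2 ∣ deg χ) {g : G} (hg : 3 ∣ orderOf g) : (χ : G → ℂ) g = 0 := by
  apply DefZeroCount.vanish (by norm_num : Nat.Prime 3) χ.2 _ hg
  rw [PBlock.deg_eq, H.card]
  have h1 : 2 ≤ (deg χ).factorization 3 := (Nat.Prime.pow_dvd_iff_le_factorization (by norm_num) (deg_pos χ).ne').1 h
  refine le_trans ?_ h1
  by_contra h2
  have h3 := (Nat.Prime.pow_dvd_iff_le_factorization (p := 3) (k := 3) (n := 443520) (by norm_num) (by norm_num)).2 (by omega)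
  norm_num at h3

/-- values of the character of degree 21 on 3-singular elements -/
theorem Tab.sing3 (H : H22 G) (T : Tab c21 c45 c55 c99 c154 c210 c231 c280 c385) {g : G} (hg : 3 ∣ orderOf g) {p : ℤ}
    (hp : (c21 : G → ℂ) g = p) (C : ℕ) (hC : C = Nat.card (centralizer ({g} : Set G))) : (C = 9 ∧ p = 0) ∨
    ((C = 12 ∨ C = 192) ∧ (p = 1 ∨ p = -1)) ∨ (C = 36 ∧ (p = 3 ∨ p = -3)) := by
  have hg1 : g ≠ 1 := fun h => by rw [h, orderOf_one] at hg; norm_num at hg
  have hn : ∀ q : ℕ, ¬ 3 ∣ q → orderOf g ≠ q := fun q hq h => hq (h ▸ hg)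
  obtain ⟨q, hq⟩ := T.int231 g
  have v45 := fac9 H (χ := c45) (by rw [T.d45]; norm_num) hg
  have v99 := fac9 H (χ := c99) (by rw [T.d99]; norm_num) hg
  have v45' : (cc c45 : G → ℂ) g = 0 := by rw [cc_apply, v45, map_zero]
  have r11 := T.r11 g (hn 11 (by norm_num))
  have r7 := T.r7 g (hn 7 (by norm_num))
  have r5 := T.r5 g (hn 5 (by norm_num))
  have v280' := T.cc280 g (hn 11 (by norm_num))
  rw [hp, v45, v45'] at r11
  rw [v99, v45] at r7
  rw [hp, hq, v99] at r5
  obtain ⟨s, hs⟩ := exists_elt H (p := 2) (by norm_num) (by norm_num)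
  have hs2 : s ^ 2 = 1 := by rw [← hs]; exact pow_orderOf_eq_one s
  have hsi : s⁻¹ = s := by rw [inv_eq_iff_mul_eq_one, ← pow_two, hs2]
  have I := T.inv H hs
  have o1 := col_orth_ne (g := g) (h := 1) (fun h => hg1 (by rwa [isConj_one_left] at h))
  have o2 := col_orth_ne (g := g) (h := s) (fun h => hn 2 (by norm_num) (by rw [M11ByOrder.isConj_order h, hs]))
  rw [inv_one, T.sum] at o1
  rw [hsi, T.sum] at o2
  simp only [apply_one, deg_triv, deg_cc, T.d21, T.d45, T.d55, T.d99, T.d154, T.d210, T.d231, T.d280, T.d385, triv_apply, hp, hq, v45, v99, v45', v280'] at o1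
  simp only [I.s21, I.s45, I.s45', I.s55, I.s99, I.s154, I.s210, I.s231, I.s280, I.s280', I.s385, triv_apply, hp, hq, v45, v99, v45', v280'] at o2
  have v55 : (c55 : G → ℂ) g = ((1 : ℤ) : ℂ) := by push_cast; linear_combination -r7
  have v154 : (c154 : G → ℂ) g = ((1 + p + q : ℤ) : ℂ) := by push_cast; linear_combination -r5
  have v210 : (c210 : G → ℂ) g = ((2 * p + q : ℤ) : ℂ) := by
    rw [v55, v154] at o1 o2
    push_cast at o1 o2 ⊢
    linear_combination (1 / 16 : ℂ) * ((1 / 385 : ℂ) * o1 - o2 + (192 / 11 : ℂ) * r11)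
  have v280 : (c280 : G → ℂ) g = ((1 + p + q : ℤ) : ℂ) := by push_cast; push_cast at v210; linear_combination -r11 + v210
  have v385 : (c385 : G → ℂ) g = ((- 2 - 3 * (p + q) : ℤ) : ℂ) := by
    push_cast at o2 v55 v154 v210 v280 ⊢
    rw [v55, v154, v210, v280] at o2
    linear_combination o2
  have hinv : ∀ (χ : IrrCharacter G) (n : ℤ), (χ : G → ℂ) g = n → (χ : G → ℂ) g⁻¹ = n := fun χ n h => by
    rw [← conj_apply, h, map_intCast]
  have hnorm := col_orth_self g
  rw [T.sum, ← hC] at hnorm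
  have z45 : (c45 : G → ℂ) g⁻¹ = 0 := by rw [← conj_apply, v45, map_zero]
  have z99 : (c99 : G → ℂ) g⁻¹ = 0 := by rw [← conj_apply, v99, map_zero]
  have z280' : (cc c280 : G → ℂ) g⁻¹ = ((1 + p + q : ℤ) : ℂ) := by
    rw [← conj_apply, v280', v280, map_intCast]
  rw [hp, hinv _ _ hp, hq, hinv _ _ hq, v45, v45', v99, z45, z99, v55, hinv _ _ v55, v154, hinv _ _ v154, v210, hinv _ _ v210, v280', z280', v280,
    hinv _ _ v280, v385, hinv _ _ v385, triv_apply, triv_apply] at hnorm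
  have hfin : C9 (p + q) p = C := by
    have : ((C9 (p + q) p : ℤ) : ℂ) = (C : ℂ) := by
      rw [← hnorm, C9]; push_cast; ring
    exact_mod_cast this
  refine ar_C9 (p + q) p C hfin ?_ ?_
  · rw [hC]; exact H.cent_dvd hg1 (hn 5 (by norm_num)) (hn 7 (by norm_num)) (hn 11 (by norm_num))
  · rw [hC]
    have h1 : g ∈ centralizer ({g} : Set G) := by rw [mem_centralizer_singleton_iff]
    have h2 := orderOf_dvd_natCard (⟨g, h1⟩ : centralizer ({g} : Set G))
    rw [Subgroup.orderOf_mk] at h2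
    exact hg.trans h2

end Cfsg.Agent.Lib.M22N
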