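import Mathlib
import Cfsg.Agent.Lib.M22H

/-!
# Simple groups of order 443520, part I: counting (helper7)
-/

set_option autoImplicit false
set_option linter.all false

namespace Cfsg.Agent.Lib.M22N

open Subgroup Cfsg Cfsg.Agent.Lib.CharBasic Cfsg.Agent.Lib.ColTools Cfsg.Agent.Lib.SmallSimple
  Cfsg.Agent.Lib.PBlock Cfsg.Agent.Lib.QBlk
open scoped ComplexConjugate Classical

universe u

variable {G : Type u} [Group G] [Finite G]

/-- the type of an element -/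
noncomputable def ty (V : G → ℤ) (g : G) : Fin 11 :=
  if g = 1 then 0 else if orderOf g = 2 then 1 else if orderOf g = 5 then 2 else if orderOf g = 7 then 3 else
  if orderOf g = 11 then 4 else if 3 ∣ orderOf g ∧ Nat.card (centralizer ({g} : Set G)) = 9 then 5 else
  if 3 ∣ orderOf g ∧ Nat.card (centralizer ({g} : Set G)) = 36 ∧ V g = 3 then 6 else
  if 3 ∣ orderOf g ∧ Nat.card (centralizer ({g} : Set G)) = 36 ∧ V g = -3 then 7 else
  if V g = 1 then 8 else if V g = -1 then 9 else 10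

theorem sum_ty {α : Type*} [Fintype α] (t : α → Fin 11) (F : α → ℤ) (c : Fin 11 → ℤ) (h : ∀ g, F g = c (t g)) :
    ∑ g, F g = ∑ j, c j * ((Finset.univ.filter fun g => t g = j).card : ℤ) := by
  rw [← Finset.sum_fiberwise Finset.univ t]
  refine Finset.sum_congr rfl fun j _ => ?_
  rw [Finset.sum_congr rfl (g := fun _ => c j), Finset.sum_const, nsmul_eq_mul, mul_comm]
  intro g hg
  rw [h, (Finset.mem_filter.1 hg).2]

theorem sum_ty_le {α : Type*} [Fintype α] (t : α → Fin 11) (F : α → ℤ) (c : Fin 11 → ℤ) (h : ∀ g, c (t g) ≤ F g) :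
    ∑ j, c j * ((Finset.univ.filter fun g => t g = j).card : ℤ) ≤ ∑ g, F g := by
  rw [← sum_ty t (fun g => c (t g)) c (fun g => rfl)]
  exact Finset.sum_le_sum fun g _ => h g

theorem ar_final (k0 jp jm n8 n9 n10 : ℕ) (m : ℤ) (hm : 0 ≤ m)
    (h1 : (1 : ℤ) + 1155 + 88704 + 126720 + 80640 + 49280 * k0 + 12320 * jp + 12320 * jm + n8 + n9 + n10 = 443520)
    (h2 : (440 : ℤ) + 24 * 1155 - 126720 - 49280 * k0 + 8 * (12320 * jp) + 8 * (12320 * jm) + 8 * n10 ≤ 0)
    (h3 : (9 : ℤ) ∣ 1 + 49280 * k0 + 12320 * jp + 12320 * jm)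
    (h4 : n10 = 0 → (21 : ℤ) + 5 * 1155 + 88704 - 80640 + 3 * (12320 * jp) - 3 * (12320 * jm) + n8 - n9 = 0)
    (h5 : n10 = 0 → (9261 : ℤ) + 125 * 1155 + 88704 - 80640 + 27 * (12320 * jp) - 27 * (12320 * jm) + n8 - n9 = 443520 * m) :
    k0 = 0 ∧ jp = 1 ∧ jm = 0 ∧ n8 = 41580 ∧ n9 = 92400 ∧ n10 = 0 := by
  have e1 : k0 ≤ 2 := by omega
  have e2 : jp + jm ≤ 2 := by omega
  have e3 : jp ≤ 2 := by omega
  have e4 : jm ≤ 2 := by omega
  have e5 : n10 = 0 := by
    interval_cases k0 <;> interval_cases jp <;> interval_cases jm <;> omega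
  have h4' := h4 e5
  have h5' := h5 e5
  interval_cases k0 <;> interval_cases jp <;> interval_cases jm <;> omega

variable [IsSimpleGroup G]

variable {c21 c45 c55 c99 c154 c210 c231 c280 c385 : IrrCharacter G}

theorem odd_val (H : H22 G) (T : Tab c21 c45 c55 c99 c154 c210 c231 c280 c385) {g : G} (h1 : g ≠ 1) (h5 : orderOf g ≠ 5) (h7 : orderOf g ≠ 7)
    (h11 : orderOf g ≠ 11) (h3 : ¬ 3 ∣ orderOf g) {p : ℤ} (hp : (c21 : G → ℂ) g = p) : p % 2 = 1 := by
  have hd := H.cent_dvd h1 h5 h7 h11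
  have h6 : g ∈ centralizer ({g} : Set G) := by rw [mem_centralizer_singleton_iff]
  have h8 := orderOf_dvd_natCard (⟨g, h6⟩ : centralizer ({g} : Set G))
  rw [Subgroup.orderOf_mk] at h8
  have h9 : orderOf g ∣ 2 ^ 7 * 3 ^ 2 := h8.trans (hd.trans (by norm_num))
  have h10 : Nat.Coprime (orderOf g) (3 ^ 2) := ((Nat.Prime.coprime_iff_not_dvd (by norm_num : Nat.Prime 3)).2 h3).symm.pow_right 2
  have h12 := h10.dvd_of_dvd_mul_right h9
  have h13 : g ^ 2 ^ 7 = 1 := orderOf_dvd_iff_pow_eq_one.1 h12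
  have : Fact (Nat.Prime 2) := ⟨by norm_num⟩
  have h14 := M12ByOrder.int_congr (p := 2) c21.2.isCharacter h13 hp (d := (21 : ℤ)) (by rw [apply_one, T.d21]; norm_num)
  have h15 : ((p - 21 : ℤ) : ZMod 2) = 0 := by push_cast; push_cast at h14; rw [h14]; ring
  have h16 := (ZMod.intCast_zmod_eq_zero_iff_dvd _ _).1 h15
  omega

theorem Tab.ty_val (H : H22 G) (T : Tab c21 c45 c55 c99 c154 c210 c231 c280 c385) {V : G → ℤ} (hV : ∀ g, (c21 : G → ℂ) g = V g) (g : G) :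
    (ty V g = 0 ∧ g = 1 ∧ V g = 21) ∨ (ty V g = 1 ∧ orderOf g = 2 ∧ V g = 5) ∨ (ty V g = 2 ∧ orderOf g = 5 ∧ V g = 1) ∨
    (ty V g = 3 ∧ orderOf g = 7 ∧ V g = 0) ∨ (ty V g = 4 ∧ orderOf g = 11 ∧ V g = -1) ∨
    (ty V g = 5 ∧ (3 ∣ orderOf g ∧ Nat.card (centralizer ({g} : Set G)) = 9) ∧ V g = 0) ∨
    (ty V g = 6 ∧ (3 ∣ orderOf g ∧ Nat.card (centralizer ({g} : Set G)) = 36) ∧ V g = 3) ∨
    (ty V g = 7 ∧ (3 ∣ orderOf g ∧ Nat.card (centralizer ({g} : Set G)) = 36) ∧ V g = -3) ∨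
    ((g ≠ 1 ∧ orderOf g ≠ 2 ∧ orderOf g ≠ 5 ∧ orderOf g ≠ 7 ∧ orderOf g ≠ 11 ∧
      (3 ∣ orderOf g → Nat.card (centralizer ({g} : Set G)) = 12 ∨ Nat.card (centralizer ({g} : Set G)) = 192)) ∧
      ((ty V g = 8 ∧ V g = 1) ∨ (ty V g = 9 ∧ V g = -1) ∨ (ty V g = 10 ∧ 9 ≤ V g ^ 2))) := by
  have cst : ∀ {n : ℤ}, (c21 : G → ℂ) g = n → V g = n := fun {n} h => by
    have := hV g
    rw [h] at this
    exact_mod_cast this.symm
  by_cases h0 : g = 1
  · left
    exact ⟨by rw [ty, if_pos h0], h0, cst (by rw [h0, apply_one, T.d21]; norm_num)⟩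
  by_cases h2 : orderOf g = 2
  · right; left
    exact ⟨by rw [ty, if_neg h0, if_pos h2], h2, cst (by rw [(T.inv H h2).s21]; norm_num)⟩
  by_cases h5 : orderOf g = 5
  · right; right; left
    exact ⟨by rw [ty, if_neg h0, if_neg h2, if_pos h5], h5, cst (by rw [T.v5 H h5]; norm_num)⟩
  by_cases h7 : orderOf g = 7
  · right; right; right; left
    exact ⟨by rw [ty, if_neg h0, if_neg h2, if_neg h5, if_pos h7], h7, cst (by rw [T.v7 H h7]; norm_num)⟩
  by_cases h11 : orderOf g = 11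
  · right; right; right; right; left
    exact ⟨by rw [ty, if_neg h0, if_neg h2, if_neg h5, if_neg h7, if_pos h11], h11, cst (by rw [T.v11 H h11]; norm_num)⟩
  right; right; right; right; right
  by_cases h3 : 3 ∣ orderOf g
  · rcases T.sing3 H h3 (hV g) _ rfl with ⟨h8, h9⟩ | ⟨h8, h9⟩ | ⟨h8, h9⟩
    · left
      exact ⟨by rw [ty, if_neg h0, if_neg h2, if_neg h5, if_neg h7, if_neg h11, if_pos ⟨h3, h8⟩], ⟨h3, h8⟩, h9⟩
    · right; right; right
      have n9 : ¬ (3 ∣ orderOf g ∧ Nat.card (centralizer ({g} : Set G)) = 9) := by rintro ⟨-, h⟩; rw [h] at h8; omega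
      have n36 : ∀ q : Prop, ¬ (3 ∣ orderOf g ∧ Nat.card (centralizer ({g} : Set G)) = 36 ∧ q) := by rintro q ⟨-, h, -⟩; rw [h] at h8; omega
      refine ⟨⟨h0, h2, h5, h7, h11, fun _ => h8⟩, ?_⟩
      rcases h9 with h9 | h9
      · left
        exact ⟨by rw [ty, if_neg h0, if_neg h2, if_neg h5, if_neg h7, if_neg h11, if_neg n9, if_neg (n36 _), if_neg (n36 _), if_pos h9], h9⟩
      · right; left
        exact ⟨by rw [ty, if_neg h0, if_neg h2, if_neg h5, if_neg h7, if_neg h11, if_neg n9, if_neg (n36 _), if_neg (n36 _),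
          if_neg (by rw [h9]; norm_num), if_pos h9], h9⟩
    · have n9 : ¬ (3 ∣ orderOf g ∧ Nat.card (centralizer ({g} : Set G)) = 9) := by rintro ⟨-, h⟩; omega
      rcases h9 with h9 | h9
      · right; left
        exact ⟨by rw [ty, if_neg h0, if_neg h2, if_neg h5, if_neg h7, if_neg h11, if_neg n9, if_pos ⟨h3, h8, h9⟩], ⟨h3, h8⟩, h9⟩
      · right; right; left
        exact ⟨by rw [ty, if_neg h0, if_neg h2, if_neg h5, if_neg h7, if_neg h11, if_neg n9, if_neg (by rintro ⟨-, -, h⟩; omega),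
          if_pos ⟨h3, h8, h9⟩], ⟨h3, h8⟩, h9⟩
  · right; right; right
    have nn : ∀ q : Prop, ¬ (3 ∣ orderOf g ∧ q) := by rintro q ⟨h, -⟩; exact h3 h
    refine ⟨⟨h0, h2, h5, h7, h11, fun h => absurd h h3⟩, ?_⟩
    by_cases h8 : V g = 1
    · left
      exact ⟨by rw [ty, if_neg h0, if_neg h2, if_neg h5, if_neg h7, if_neg h11, if_neg (nn _), if_neg (nn _), if_neg (nn _), if_pos h8], h8⟩
    by_cases h9 : V g = -1
    · right; left
      exact ⟨by rw [ty, if_neg h0, if_neg h2, if_neg h5, if_neg h7, if_neg h11, if_neg (nn _), if_neg (nn _), if_neg (nn _), if_neg h8,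
        if_pos h9], h9⟩
    · right; right
      refine ⟨by rw [ty, if_neg h0, if_neg h2, if_neg h5, if_neg h7, if_neg h11, if_neg (nn _), if_neg (nn _), if_neg (nn _), if_neg h8,
        if_neg h9], ?_⟩
      have := odd_val H T h0 h5 h7 h11 h3 (hV g)
      rcases le_or_gt 0 (V g) with h | h
      · have : 3 ≤ V g := by omega
        nlinarith
      · have : V g ≤ -3 := by omega
        nlinarith

end Cfsg.Agent.Lib.M22N
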