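import Mathlib
import Cfsg.Agent.Lib.M22I

/-!
# Simple groups of order 443520, part J: counting, power sums (helper7)
-/

set_option autoImplicit false
set_option linter.all false

namespace Cfsg.Agent.Lib.M22N

open Subgroup Cfsg Cfsg.Agent.Lib.CharBasic Cfsg.Agent.Lib.ColTools Cfsg.Agent.Lib.SmallSimple
  Cfsg.Agent.Lib.PBlock Cfsg.Agent.Lib.QBlk
open scoped ComplexConjugate Classical

universe u

variable {G : Type u} [Group G] [Finite G]

theorem card_filter_iff [Fintype G] {P Q : G → Prop} [DecidablePred P] (h : ∀ g, P g ↔ Q g) :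
    (Finset.univ.filter fun g => P g).card = Nat.card {g : G // Q g} := by
  rw [Nat.card_eq_fintype_card, Fintype.card_subtype]
  congr 1
  ext g
  simp [h]

variable [IsSimpleGroup G]

variable {c21 c45 c55 c99 c154 c210 c231 c280 c385 : IrrCharacter G}

theorem Tab.ty_iff (H : H22 G) (T : Tab c21 c45 c55 c99 c154 c210 c231 c280 c385) {V : G → ℤ} (hV : ∀ g, (c21 : G → ℂ) g = V g) (g : G) :
    (ty V g = 0 ↔ g = 1) ∧ (ty V g = 1 ↔ orderOf g = 2) ∧ (ty V g = 2 ↔ orderOf g = 5) ∧ (ty V g = 3 ↔ orderOf g = 7) ∧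
    (ty V g = 4 ↔ orderOf g = 11) ∧ (ty V g = 5 ↔ (3 ∣ orderOf g ∧ Nat.card (centralizer ({g} : Set G)) = 9)) ∧
    (ty V g = 6 ↔ ((3 ∣ orderOf g ∧ Nat.card (centralizer ({g} : Set G)) = 36) ∧ V g = 3)) ∧
    (ty V g = 7 ↔ ((3 ∣ orderOf g ∧ Nat.card (centralizer ({g} : Set G)) = 36) ∧ V g = -3)) := by
  have ho : orderOf g = 1 ↔ g = 1 := orderOf_eq_one_iff
  rw [← ho]
  have key := T.ty_val H hV g
  rw [← ho, Ne, ← ho] at key
  clear ho
  generalize ty V g = t at key ⊢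
  generalize orderOf g = o at key ⊢
  generalize Nat.card (centralizer ({g} : Set G)) = C at key ⊢
  generalize V g = v at key ⊢
  rcases key with ⟨rfl, h1, h2⟩ | ⟨rfl, h1, h2⟩ | ⟨rfl, h1, h2⟩ | ⟨rfl, h1, h2⟩ | ⟨rfl, h1, h2⟩ | ⟨rfl, ⟨h1, h3⟩, h2⟩ | ⟨rfl, ⟨h1, h3⟩, h2⟩ |
    ⟨rfl, ⟨h1, h3⟩, h2⟩ | ⟨⟨h1, h2, h3, h4, h5, h6⟩, ⟨rfl, h7⟩ | ⟨rfl, h7⟩ | ⟨rfl, h7⟩⟩
  all_goals
    refine ⟨⟨fun h => ?_, fun h => ?_⟩, ⟨fun h => ?_, fun h => ?_⟩, ⟨fun h => ?_, fun h => ?_⟩, ⟨fun h => ?_, fun h => ?_⟩,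
      ⟨fun h => ?_, fun h => ?_⟩, ⟨fun h => ?_, fun h => ?_⟩, ⟨fun h => ?_, fun h => ?_⟩, ⟨fun h => ?_, fun h => ?_⟩⟩
    all_goals first
      | rfl
      | exact absurd h (by decide)
      | omega

theorem Tab.counts (H : H22 G) (T : Tab c21 c45 c55 c99 c154 c210 c231 c280 c385) [Fintype G] {V : G → ℤ} (hV : ∀ g, (c21 : G → ℂ) g = V g) :
    ∃ (k0 jp jm : ℕ) (N : Fin 11 → ℕ), (∀ j, N j = (Finset.univ.filter fun g => ty V g = j).card) ∧
      N 0 = 1 ∧ N 1 = 1155 ∧ N 2 = 88704 ∧ N 3 = 126720 ∧ N 4 = 80640 ∧ N 5 = 49280 * k0 ∧ N 6 = 12320 * jp ∧ N 7 = 12320 * jm := by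
  have i5 : Fact (Nat.Prime 5) := ⟨by norm_num⟩
  have i7 : Fact (Nat.Prime 7) := ⟨by norm_num⟩
  have i11 : Fact (Nat.Prime 11) := ⟨by norm_num⟩
  have hVc : ∀ g h, IsConj g h → V g = V h := by
    intro g h hgh
    obtain ⟨c, rfl⟩ := isConj_iff.1 hgh
    have h1 : (c21 : G → ℂ) (c * g * c⁻¹) = (c21 : G → ℂ) g := by rw [c21.2.isCharacter.isClassFunction]
    rw [hV, hV] at h1
    exact_mod_cast h1.symm
  have hd9 := dvd_card_of_cent (fun g : G => (3 ∣ orderOf g ∧ Nat.card (centralizer ({g} : Set G)) = 9)) (c := 9)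
    (fun g h hgh ⟨h1, h2⟩ => ⟨by rw [← M11ByOrder.isConj_order hgh]; exact h1, by rw [← cent_isConj hgh]; exact h2⟩) (fun g h => h.2)
  have hd36 := dvd_card_of_cent (fun g : G => ((3 ∣ orderOf g ∧ Nat.card (centralizer ({g} : Set G)) = 36) ∧ V g = 3)) (c := 36)
    (fun g h hgh ⟨⟨h1, h2⟩, h3⟩ => ⟨⟨by rw [← M11ByOrder.isConj_order hgh]; exact h1, by rw [← cent_isConj hgh]; exact h2⟩,
      by rw [← hVc _ _ hgh]; exact h3⟩) (fun g h => h.1.2)
  have hd36' := dvd_card_of_cent (fun g : G => ((3 ∣ orderOf g ∧ Nat.card (centralizer ({g} : Set G)) = 36) ∧ V g = -3)) (c := 36)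
    (fun g h hgh ⟨⟨h1, h2⟩, h3⟩ => ⟨⟨by rw [← M11ByOrder.isConj_order hgh]; exact h1, by rw [← cent_isConj hgh]; exact h2⟩,
      by rw [← hVc _ _ hgh]; exact h3⟩) (fun g h => h.1.2)
  rw [H.card] at hd9 hd36 hd36'
  obtain ⟨k0, hk0⟩ := hd9
  obtain ⟨jp, hjp⟩ := hd36
  obtain ⟨jm, hjm⟩ := hd36'
  refine ⟨k0, jp, jm, fun j => (Finset.univ.filter fun g => ty V g = j).card, fun j => rfl, ?_, ?_, ?_, ?_, ?_, ?_, ?_, ?_⟩
  · show (Finset.univ.filter fun g => ty V g = 0).card = 1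
    rw [card_filter_iff (fun g => (T.ty_iff H hV g).1)]
    exact Nat.card_unique
  · show (Finset.univ.filter fun g => ty V g = 1).card = 1155
    rw [card_filter_iff (fun g => (T.ty_iff H hV g).2.1)]
    exact T.card_inv H
  · show (Finset.univ.filter fun g => ty V g = 2).card = 88704
    rw [card_filter_iff (fun g => (T.ty_iff H hV g).2.2.1)]
    exact card_order_p H (c := 22176) (by norm_num) (by norm_num) H.n5 (by norm_num) (by norm_num)
  · show (Finset.univ.filter fun g => ty V g = 3).card = 126720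
    rw [card_filter_iff (fun g => (T.ty_iff H hV g).2.2.2.1)]
    exact card_order_p H (c := 21120) (by norm_num) (by norm_num) H.n7 (by norm_num) (by norm_num)
  · show (Finset.univ.filter fun g => ty V g = 4).card = 80640
    rw [card_filter_iff (fun g => (T.ty_iff H hV g).2.2.2.2.1)]
    exact card_order_p H (c := 8064) (by norm_num) (by norm_num) H.n11 (by norm_num) (by norm_num)
  · show (Finset.univ.filter fun g => ty V g = 5).card = _
    rw [card_filter_iff (fun g => (T.ty_iff H hV g).2.2.2.2.2.1), hk0]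
  · show (Finset.univ.filter fun g => ty V g = 6).card = _
    rw [card_filter_iff (fun g => (T.ty_iff H hV g).2.2.2.2.2.2.1), hjp]
  · show (Finset.univ.filter fun g => ty V g = 7).card = _
    rw [card_filter_iff (fun g => (T.ty_iff H hV g).2.2.2.2.2.2.2), hjm]

end Cfsg.Agent.Lib.M22N
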