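import Mathlib
import Cfsg.Agent.Lib.M22J

/-!
# Simple groups of order 443520, part K: the values of the character of degree 21 (helper7)
-/

set_option autoImplicit false
set_option linter.all false

namespace Cfsg.Agent.Lib.M22N

open Subgroup Cfsg Cfsg.Agent.Lib.CharBasic Cfsg.Agent.Lib.ColTools Cfsg.Agent.Lib.SmallSimple
  Cfsg.Agent.Lib.PBlock Cfsg.Agent.Lib.QBlk
open scoped ComplexConjugate Classical

universe u

variable {G : Type u} [Group G] [Finite G]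

theorem sum_sq_int [Fintype G] {χ : IrrCharacter G} {V : G → ℤ} (hV : ∀ g, (χ : G → ℂ) g = V g) : ∑ g, V g ^ 2 = Nat.card G := by
  have h1 := χ.2.classInner_self
  rw [classInner_def] at h1
  have h2 : (Nat.card G : ℂ) ≠ 0 := by exact_mod_cast (Nat.card_pos (α := G)).ne'
  have h3 : ∑ g : G, (χ : G → ℂ) g * conj ((χ : G → ℂ) g) = Nat.card G := by
    field_simp at h1
    exact h1
  have h4 : ((∑ g, V g ^ 2 : ℤ) : ℂ) = ((Nat.card G : ℤ) : ℂ) := by
    push_cast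
    rw [← h3]
    refine Finset.sum_congr rfl fun g _ => ?_
    rw [hV, map_intCast]; ring
  exact_mod_cast h4

theorem sum_one_int [Fintype G] {χ : IrrCharacter G} {V : G → ℤ} (hV : ∀ g, (χ : G → ℂ) g = V g) (hχ : χ ≠ triv G) : ∑ g, V g = 0 := by
  have h1 := irr_orthonormal χ (triv G)
  rw [if_neg hχ, classInner_def] at h1
  have h2 : (Nat.card G : ℂ)⁻¹ ≠ 0 := inv_ne_zero (by exact_mod_cast (Nat.card_pos (α := G)).ne')
  have h3 := (mul_eq_zero.1 h1).resolve_left h2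
  have h4 : ((∑ g, V g : ℤ) : ℂ) = 0 := by
    push_cast
    rw [← h3]
    refine Finset.sum_congr rfl fun g _ => ?_
    rw [hV, triv_apply, map_one, mul_one]
  exact_mod_cast h4

theorem sum_cube_int [Fintype G] {χ : IrrCharacter G} {V : G → ℤ} (hV : ∀ g, (χ : G → ℂ) g = V g) :
    ∃ m : ℤ, 0 ≤ m ∧ ∑ g, V g ^ 3 = Nat.card G * m := by
  obtain ⟨m, hm⟩ := (χ.2.isCharacter.mul χ.2.isCharacter).classInner_nat χ.2.isCharacter
  refine ⟨m, by positivity, ?_⟩
  rw [classInner_def] at hm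
  have h2 : (Nat.card G : ℂ) ≠ 0 := by exact_mod_cast (Nat.card_pos (α := G)).ne'
  have h4 : ((∑ g, V g ^ 3 : ℤ) : ℂ) = ((Nat.card G * m : ℤ) : ℂ) := by
    push_cast
    rw [← hm, ← mul_assoc, mul_inv_cancel₀ h2, one_mul]
    refine Finset.sum_congr rfl fun g _ => ?_
    rw [Pi.mul_apply, hV, map_intCast]; ring
  exact_mod_cast h4

variable [IsSimpleGroup G]

variable {c21 c45 c55 c99 c154 c210 c231 c280 c385 : IrrCharacter G}

/-- elements of order dividing 9 -/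
theorem Tab.pow9 (H : H22 G) (T : Tab c21 c45 c55 c99 c154 c210 c231 c280 c385) {V : G → ℤ} (hV : ∀ g, (c21 : G → ℂ) g = V g) (g : G) :
    g ^ 9 = 1 ↔ g = 1 ∨ (3 ∣ orderOf g ∧ (Nat.card (centralizer ({g} : Set G)) = 9 ∨ Nat.card (centralizer ({g} : Set G)) = 36)) := by
  have i3 : Fact (Nat.Prime 3) := ⟨by norm_num⟩
  constructor
  · intro h
    by_cases h1 : g = 1
    · exact Or.inl h1
    right
    have h2 : orderOf g ∣ 3 ^ 2 := orderOf_dvd_of_pow_eq_one (by norm_num; exact h)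
    obtain ⟨k, hk, hk'⟩ := (Nat.dvd_prime_pow (by norm_num : Nat.Prime 3)).1 h2
    have hk0 : k ≠ 0 := by
      rintro rfl
      rw [pow_zero] at hk'
      exact h1 (orderOf_eq_one_iff.1 hk')
    have h3 : 3 ∣ orderOf g := by rw [hk']; exact dvd_pow_self 3 hk0
    refine ⟨h3, ?_⟩
    have hpg : IsPGroup 3 (zpowers g) := IsPGroup.of_card (n := k) (by rw [Nat.card_zpowers, hk'])
    obtain ⟨P, hP⟩ := hpg.exists_le_sylow
    have hPc : Nat.card (P : Subgroup G) = 3 ^ 2 := sylow_card_of (G := G) (p := 3) (k := 2) (m := 49280) (by rw [H.card]; norm_num) (by norm_num) P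
    have hcm : IsMulCommutative (P : Subgroup G) := IsPGroup.isMulCommutative_of_card_eq_prime_sq hPc
    have hPC : (P : Subgroup G) ≤ centralizer ({g} : Set G) := by
      intro h hh
      rw [mem_centralizer_singleton_iff]
      exact congrArg Subtype.val (hcm.is_comm.comm (⟨h, hh⟩ : (P : Subgroup G)) ⟨g, hP (mem_zpowers g)⟩)
    have h4 := Subgroup.card_dvd_of_le hPC
    rw [hPc] at h4
    rcases T.sing3 H h3 (hV g) _ rfl with ⟨h8, -⟩ | ⟨h8, -⟩ | ⟨h8, -⟩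
    · exact Or.inl h8
    · exfalso
      rcases h8 with h8 | h8 <;> rw [h8] at h4 <;> norm_num at h4
    · exact Or.inr h8
  · rintro (h | ⟨h3, h⟩)
    · rw [h, one_pow]
    · have h6 : g ∈ centralizer ({g} : Set G) := by rw [mem_centralizer_singleton_iff]
      have h8 := orderOf_dvd_natCard (⟨g, h6⟩ : centralizer ({g} : Set G))
      rw [Subgroup.orderOf_mk] at h8
      rcases h with h | h
      · rw [h] at h8
        exact orderOf_dvd_iff_pow_eq_one.1 h8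
      · rw [h] at h8
        have hodd : ¬ 2 ∣ orderOf g := by
          intro h2
          obtain ⟨r, hr⟩ := h2
          have hpos := orderOf_pos g
          have hr0 : r ≠ 0 := by rintro rfl; omega
          have hs : orderOf (g ^ r) = 2 := by
            rw [orderOf_pow_of_dvd hr0 ⟨2, by rw [hr]; ring⟩, hr, Nat.mul_div_cancel _ (Nat.pos_of_ne_zero hr0)]
          have hle : centralizer ({g} : Set G) ≤ centralizer ({g ^ r} : Set G) := by
            intro x hx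
            rw [mem_centralizer_singleton_iff] at hx ⊢
            exact (Commute.pow_right (show Commute x g from hx) r)
          have h9 := Subgroup.card_dvd_of_le hle
          rw [T.inv_cent H hs, h] at h9
          norm_num at h9
        have h10 : Nat.Coprime (orderOf g) (2 ^ 2) := ((Nat.Prime.coprime_iff_not_dvd (by norm_num : Nat.Prime 2)).2 hodd).symm.pow_right 2
        have h11 : orderOf g ∣ 9 * 2 ^ 2 := by norm_num; exact h8
        exact orderOf_dvd_iff_pow_eq_one.1 (h10.dvd_of_dvd_mul_right h11)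

theorem Tab.solved (H : H22 G) (T : Tab c21 c45 c55 c99 c154 c210 c231 c280 c385) [Fintype G] {V : G → ℤ} (hV : ∀ g, (c21 : G → ℂ) g = V g) :
    ∃ (N : Fin 11 → ℕ), (∀ j, N j = (Finset.univ.filter fun g => ty V g = j).card) ∧
      N 0 = 1 ∧ N 1 = 1155 ∧ N 2 = 88704 ∧ N 3 = 126720 ∧ N 4 = 80640 ∧ N 5 = 0 ∧ N 6 = 12320 ∧ N 7 = 0 ∧ N 8 = 41580 ∧ N 9 = 92400 ∧
      N 10 = 0 := by
  obtain ⟨k0, jp, jm, N, hN, N0, N1, N2, N3, N4, N5, N6, N7⟩ := T.counts H hV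
  have e1 := sum_ty (ty V) (fun _ : G => (1 : ℤ)) (fun _ => 1) (fun g => rfl)
  have e2 := sum_ty_le (ty V) (fun g => V g ^ 2 - 1) ![440, 24, 0, -1, 0, -1, 8, 8, 0, 0, 8] (by
    intro g
    rcases T.ty_val H hV g with ⟨h, -, h'⟩ | ⟨h, -, h'⟩ | ⟨h, -, h'⟩ | ⟨h, -, h'⟩ | ⟨h, -, h'⟩ | ⟨h, -, h'⟩ | ⟨h, -, h'⟩ | ⟨h, -, h'⟩ |
      ⟨-, ⟨h, h'⟩ | ⟨h, h'⟩ | ⟨h, h'⟩⟩
    all_goals rw [h]
    all_goals first
      | (rw [h']; decide)
      | (show (8 : ℤ) ≤ V g ^ 2 - 1; linarith))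
  have e3 := sum_ty (ty V) (fun g : G => if g ^ 9 = 1 then (1 : ℤ) else 0) ![1, 0, 0, 0, 0, 1, 1, 1, 0, 0, 0] (by
    intro g
    have hiff := T.pow9 H hV g
    rcases T.ty_val H hV g with ⟨h, h', -⟩ | ⟨h, h', -⟩ | ⟨h, h', -⟩ | ⟨h, h', -⟩ | ⟨h, h', -⟩ | ⟨h, h', -⟩ | ⟨h, h', -⟩ | ⟨h, h', -⟩ |
      ⟨⟨h1, h2, h3, h4, h5, h6⟩, hh⟩
    · rw [h, if_pos (hiff.2 (Or.inl h'))]; rfl
    · rw [h, if_neg]; · rfl
      intro h9; rcases hiff.1 h9 with e | ⟨e, -⟩
      · rw [e, orderOf_one] at h'; omega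
      · omega
    · rw [h, if_neg]; · rfl
      intro h9; rcases hiff.1 h9 with e | ⟨e, -⟩
      · rw [e, orderOf_one] at h'; omega
      · omega
    · rw [h, if_neg]; · rfl
      intro h9; rcases hiff.1 h9 with e | ⟨e, -⟩
      · rw [e, orderOf_one] at h'; omega
      · omega
    · rw [h, if_neg]; · rfl
      intro h9; rcases hiff.1 h9 with e | ⟨e, -⟩
      · rw [e, orderOf_one] at h'; omega
      · omega
    · rw [h, if_pos (hiff.2 (Or.inr ⟨h'.1, Or.inl h'.2⟩))]; rfl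
    · rw [h, if_pos (hiff.2 (Or.inr ⟨h'.1, Or.inr h'.2⟩))]; rfl
    · rw [h, if_pos (hiff.2 (Or.inr ⟨h'.1, Or.inr h'.2⟩))]; rfl
    · have hn : ¬ g ^ 9 = 1 := by
        intro h9; rcases hiff.1 h9 with e | ⟨e, e'⟩
        · exact h1 e
        · have := h6 e; omega
      rcases hh with ⟨h, -⟩ | ⟨h, -⟩ | ⟨h, -⟩ <;> rw [h, if_neg hn] <;> rfl)
  have hfrob := FrobDvd.frobenius_dvd (G := G) 9 (by rw [H.card]; norm_num)
  have e3' : ∑ g : G, (if g ^ 9 = 1 then (1 : ℤ) else 0) = Nat.card {x : G // x ^ 9 = 1} := by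
    rw [Nat.card_eq_fintype_card, Fintype.card_subtype, Finset.sum_boole]
  have s2 := sum_sq_int hV
  have hct : c21 ≠ triv G := ne_of_deg (by rw [T.d21, deg_triv]; norm_num)
  have s1 := sum_one_int hV hct
  obtain ⟨m, hm, s3⟩ := sum_cube_int hV
  have s0 : ∑ g : G, (1 : ℤ) = Nat.card G := by simp
  simp only [← hN] at e1 e2 e3
  rw [Finset.sum_sub_distrib, s2, s0, sub_self] at e2
  rw [s0, H.card] at e1
  rw [e3'] at e3
  simp only [Fin.sum_univ_succ, Fin.sum_univ_zero] at e1 e2 e3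
  have f1 : (443520 : ℤ) = N 0 + (N 1 + (N 2 + (N 3 + (N 4 + (N 5 + (N 6 + (N 7 + (N 8 + (N 9 + N 10))))))))) := by
    simpa using e1
  have f2 : (440 : ℤ) * N 0 + (24 * N 1 + (0 * N 2 + (-1 * N 3 + (0 * N 4 + (-1 * N 5 + (8 * N 6 + (8 * N 7 + (0 * N 8 + (0 * N 9 + 8 * N 10))))))))) ≤ 0 := by
    simpa using e2
  have f3 : (Nat.card {x : G // x ^ 9 = 1} : ℤ) = 1 * N 0 + (0 * N 1 + (0 * N 2 + (0 * N 3 + (0 * N 4 + (1 * N 5 + (1 * N 6 + (1 * N 7 + (0 * N 8 + (0 * N 9 + 0 * N 10))))))))) := by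
    simpa using e3
  rw [N0, N1, N2, N3, N4, N5, N6, N7] at f1 f2 f3
  have hval : N 10 = 0 → ∀ g, ty V g ≠ 10 := by
    intro h g hg
    rw [hN] at h
    have := Finset.card_eq_zero.1 h
    exact Finset.notMem_empty g (this ▸ Finset.mem_filter.2 ⟨Finset.mem_univ g, hg⟩)
  have hsum : ∀ k : ℕ, N 10 = 0 → ∑ g, V g ^ k = (21 ^ k : ℤ) * N 0 + (5 ^ k * N 1 + (1 * N 2 + (0 ^ k * N 3 + ((-1) ^ k * N 4 + (0 ^ k * N 5 + (3 ^ k * N 6 + ((-3) ^ k * N 7 +
      (1 * N 8 + (-1) ^ k * N 9)))))))) := by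
    intro k h10
    have e := sum_ty (ty V) (fun g => V g ^ k) ![21 ^ k, 5 ^ k, 1, 0 ^ k, (-1) ^ k, 0 ^ k, 3 ^ k, (-3) ^ k, 1, (-1) ^ k, 0] (by
      intro g
      rcases T.ty_val H hV g with ⟨h, -, h'⟩ | ⟨h, -, h'⟩ | ⟨h, -, h'⟩ | ⟨h, -, h'⟩ | ⟨h, -, h'⟩ | ⟨h, -, h'⟩ | ⟨h, -, h'⟩ | ⟨h, -, h'⟩ |
        ⟨-, ⟨h, h'⟩ | ⟨h, h'⟩ | ⟨h, h'⟩⟩
      all_goals first
        | exact absurd h (hval h10 g)
        | (rw [h, h']; first | rfl | exact one_pow k))
    simp only [← hN] at e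
    rw [e]
    simp only [Fin.sum_univ_succ, Fin.sum_univ_zero]
    simp
  obtain ⟨g1, g2, g3, g4, g5, g6⟩ := ar_final k0 jp jm (N 8) (N 9) (N 10) m hm (by push_cast at f1; linarith) (by push_cast at f2; linarith)
    (by
      have : (9 : ℤ) ∣ (Nat.card {x : G // x ^ 9 = 1} : ℤ) := by exact_mod_cast hfrob
      rw [f3] at this
      push_cast at this
      convert this using 1
      ring)
    (fun h10 => by
      have := hsum 1 h10
      simp only [pow_one] at this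
      rw [s1, N0, N1, N2, N3, N4, N5, N6, N7] at this
      push_cast at this
      linarith)
    (fun h10 => by
      have := hsum 3 h10
      rw [s3, N0, N1, N2, N3, N4, N5, N6, N7, H.card] at this
      push_cast at this
      linarith)
  subst g1 g2 g3
  exact ⟨N, hN, N0, N1, N2, N3, N4, by rw [N5], by rw [N6], by rw [N7], g4, g5, g6⟩

end Cfsg.Agent.Lib.M22N
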