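import Mathlib
import Cfsg.Agent.Lib.M22K
import Cfsg.Agent.Lib.SqSplit
import Cfsg.Agent.Lib.AlgTrickD
import Cfsg.Agent.Lib.MathieuAct

/-!
# Simple groups of order 443520, part L: the action on 22 points (helper7)
-/

set_option autoImplicit false
set_option linter.all false

namespace Cfsg.Agent.Lib.M22N

open Subgroup Cfsg Cfsg.Agent.Lib.CharBasic Cfsg.Agent.Lib.ColTools Cfsg.Agent.Lib.SmallSimple
  Cfsg.Agent.Lib.PBlock Cfsg.Agent.Lib.QBlk Cfsg.Agent.Lib.SqSplit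
open scoped ComplexConjugate Classical

universe u

variable {G : Type u} [Group G] [Finite G] [IsSimpleGroup G]

variable {c21 c45 c55 c99 c154 c210 c231 c280 c385 : IrrCharacter G}

theorem Tab.ty_ne (H : H22 G) (T : Tab c21 c45 c55 c99 c154 c210 c231 c280 c385) {V : G → ℤ} (hV : ∀ g, (c21 : G → ℂ) g = V g)
    (g : G) : ty V g ≠ 10 ∧ ty V g ≠ 5 ∧ ty V g ≠ 7 := by
  have := Fintype.ofFinite G
  obtain ⟨N, hN, N0, N1, N2, N3, N4, N5, N6, N7, N8, N9, N10⟩ := T.solved H hV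
  have key : ∀ j, N j = 0 → ty V g ≠ j := by
    intro j h hg
    rw [hN] at h
    have := Finset.card_eq_zero.1 h
    exact Finset.notMem_empty g (this ▸ Finset.mem_filter.2 ⟨Finset.mem_univ g, hg⟩)
  exact ⟨key _ N10, key _ N5, key _ N7⟩

/-- all sums of functions of the values -/
theorem Tab.sum_val (H : H22 G) (T : Tab c21 c45 c55 c99 c154 c210 c231 c280 c385) [Fintype G] {V : G → ℤ} (hV : ∀ g, (c21 : G → ℂ) g = V g)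
    (F : ℤ → ℤ) : ∑ g, F (V g) = F 21 + 1155 * F 5 + 88704 * F 1 + 126720 * F 0 + 80640 * F (-1) + 12320 * F 3 + 41580 * F 1 + 92400 * F (-1) := by
  obtain ⟨N, hN, N0, N1, N2, N3, N4, N5, N6, N7, N8, N9, N10⟩ := T.solved H hV
  have e := sum_ty (ty V) (fun g => F (V g)) ![F 21, F 5, F 1, F 0, F (-1), F 0, F 3, F (-3), F 1, F (-1), 0] (by
    intro g
    rcases T.ty_val H hV g with ⟨h, -, h'⟩ | ⟨h, -, h'⟩ | ⟨h, -, h'⟩ | ⟨h, -, h'⟩ | ⟨h, -, h'⟩ | ⟨h, -, h'⟩ | ⟨h, -, h'⟩ | ⟨h, -, h'⟩ |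
      ⟨-, ⟨h, h'⟩ | ⟨h, h'⟩ | ⟨h, h'⟩⟩
    all_goals first
      | exact absurd h (T.ty_ne H hV g).1
      | (rw [h, h']; rfl))
  simp only [← hN] at e
  rw [e]
  simp only [Fin.sum_univ_succ, Fin.sum_univ_zero]
  have e' : ∀ x : ℤ, x = F 21 * N 0 + (F 5 * N 1 + (F 1 * N 2 + (F 0 * N 3 + (F (-1) * N 4 + (F 0 * N 5 + (F 3 * N 6 + (F (-3) * N 7 +
      (F 1 * N 8 + (F (-1) * N 9 + 0 * N 10))))))))) → x = F 21 + 1155 * F 5 + 88704 * F 1 + 126720 * F 0 + 80640 * F (-1) + 12320 * F 3 + 41580 * F 1 + 92400 * F (-1) := by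
    intro x hx
    rw [hx, N0, N1, N2, N3, N4, N5, N6, N7, N8, N9, N10]
    push_cast; ring
  apply e'
  simp

theorem ar_sqle {a x : ℕ} (h : x ^ 2 + a = 3) : x ≤ 1 := by nlinarith

theorem ar_sqeq {x : ℕ} (h : x ≤ 1) : x ^ 2 = x := by
  interval_cases x <;> norm_num

def lin (m45 m45' m55 m99 m154 m210 m231 m280 m280' m385 : ℕ) : Bool :=
  (m45 + (m45' + (m55 + (m99 + (m154 + (m210 + (m231 + (m280 + (m280' + m385)))))))) == 3) &&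
  (419 == (m45 * 45 + (m45' * 45 + (m55 * 55 + (m99 * 99 + (m154 * 154 + (m210 * 210 + (m231 * 231 + (m280 * 280 + (m280' * 280 + m385 * 385)))))))))) &&
  !(m45 == 0 && m45' == 0 && m55 == 1 && m99 == 0 && m154 == 1 && m210 == 1 && m231 == 0 && m280 == 0 && m280' == 0 && m385 == 0)

theorem ar_lin' : ∀ m45 ∈ [0, 1], ∀ m45' ∈ [0, 1], ∀ m55 ∈ [0, 1], ∀ m99 ∈ [0, 1], ∀ m154 ∈ [0, 1], ∀ m210 ∈ [0, 1], ∀ m231 ∈ [0, 1], ∀ m280 ∈ [0, 1],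
    ∀ m280' ∈ [0, 1], ∀ m385 ∈ [0, 1], lin m45 m45' m55 m99 m154 m210 m231 m280 m280' m385 = false := by decide +kernel

theorem mem01 {m : ℕ} (h : m ≤ 1) : m ∈ [0, 1] := by
  simp only [List.mem_cons, List.not_mem_nil, or_false]; omega

theorem ar_lin (m45 m45' m55 m99 m154 m210 m231 m280 m280' m385 : ℕ) (a1 : m45 ≤ 1) (a2 : m45' ≤ 1) (a3 : m55 ≤ 1) (a4 : m99 ≤ 1)
    (a5 : m154 ≤ 1) (a6 : m210 ≤ 1) (a7 : m231 ≤ 1) (a8 : m280 ≤ 1) (a9 : m280' ≤ 1) (a10 : m385 ≤ 1)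
    (h3 : m45 + (m45' + (m55 + (m99 + (m154 + (m210 + (m231 + (m280 + (m280' + m385)))))))) = 3)
    (h4 : 419 = (m45 * 45 + (m45' * 45 + (m55 * 55 + (m99 * 99 + (m154 * 154 + (m210 * 210 + (m231 * 231 + (m280 * 280 + (m280' * 280 + m385 * 385)))))))))) :
    m45 = 0 ∧ m45' = 0 ∧ m55 = 1 ∧ m99 = 0 ∧ m154 = 1 ∧ m210 = 1 ∧ m231 = 0 ∧ m280 = 0 ∧ m280' = 0 ∧ m385 = 0 := by
  have h := ar_lin' _ (mem01 a1) _ (mem01 a2) _ (mem01 a3) _ (mem01 a4) _ (mem01 a5) _ (mem01 a6) _ (mem01 a7) _ (mem01 a8) _ (mem01 a9) _ (mem01 a10)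
  rw [lin, beq_iff_eq.2 h3, beq_iff_eq.2 h4] at h
  simpa only [Bool.true_and, Bool.not_eq_false', Bool.and_eq_true, beq_iff_eq, and_assoc] using h

theorem ar_split (m1 m21 m45 m45' m55 m99 m154 m210 m231 m280 m280' m385 : ℕ)
    (h1 : m1 = 1) (h2 : m21 = 1)
    (h3 : m1 ^ 2 + (m21 ^ 2 + (m45 ^ 2 + (m45' ^ 2 + (m55 ^ 2 + (m99 ^ 2 + (m154 ^ 2 + (m210 ^ 2 + (m231 ^ 2 + (m280 ^ 2 + (m280' ^ 2 + m385 ^ 2)))))))))) = 5)
    (h4 : 441 = m1 + (m21 * 21 + (m45 * 45 + (m45' * 45 + (m55 * 55 + (m99 * 99 + (m154 * 154 + (m210 * 210 + (m231 * 231 + (m280 * 280 + (m280' * 280 + m385 * 385))))))))))) :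
    m45 = 0 ∧ m45' = 0 ∧ m55 = 1 ∧ m99 = 0 ∧ m154 = 1 ∧ m210 = 1 ∧ m231 = 0 ∧ m280 = 0 ∧ m280' = 0 ∧ m385 = 0 := by
  subst h1 h2
  norm_num at h3
  have h5 : m45 ^ 2 + (m45' ^ 2 + (m55 ^ 2 + (m99 ^ 2 + (m154 ^ 2 + (m210 ^ 2 + (m231 ^ 2 + (m280 ^ 2 + (m280' ^ 2 + m385 ^ 2)))))))) = 3 := by
    linarith
  have a1 : m45 ≤ 1 := ar_sqle h5
  have a2 : m45' ≤ 1 := ar_sqle (a := m45 ^ 2 + (m55 ^ 2 + (m99 ^ 2 + (m154 ^ 2 + (m210 ^ 2 + (m231 ^ 2 + (m280 ^ 2 + (m280' ^ 2 + m385 ^ 2)))))))) (by linarith)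
  have a3 : m55 ≤ 1 := ar_sqle (a := m45 ^ 2 + (m45' ^ 2 + (m99 ^ 2 + (m154 ^ 2 + (m210 ^ 2 + (m231 ^ 2 + (m280 ^ 2 + (m280' ^ 2 + m385 ^ 2)))))))) (by linarith)
  have a4 : m99 ≤ 1 := ar_sqle (a := m45 ^ 2 + (m45' ^ 2 + (m55 ^ 2 + (m154 ^ 2 + (m210 ^ 2 + (m231 ^ 2 + (m280 ^ 2 + (m280' ^ 2 + m385 ^ 2)))))))) (by linarith)
  have a5 : m154 ≤ 1 := ar_sqle (a := m45 ^ 2 + (m45' ^ 2 + (m55 ^ 2 + (m99 ^ 2 + (m210 ^ 2 + (m231 ^ 2 + (m280 ^ 2 + (m280' ^ 2 + m385 ^ 2)))))))) (by linarith)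
  have a6 : m210 ≤ 1 := ar_sqle (a := m45 ^ 2 + (m45' ^ 2 + (m55 ^ 2 + (m99 ^ 2 + (m154 ^ 2 + (m231 ^ 2 + (m280 ^ 2 + (m280' ^ 2 + m385 ^ 2)))))))) (by linarith)
  have a7 : m231 ≤ 1 := ar_sqle (a := m45 ^ 2 + (m45' ^ 2 + (m55 ^ 2 + (m99 ^ 2 + (m154 ^ 2 + (m210 ^ 2 + (m280 ^ 2 + (m280' ^ 2 + m385 ^ 2)))))))) (by linarith)
  have a8 : m280 ≤ 1 := ar_sqle (a := m45 ^ 2 + (m45' ^ 2 + (m55 ^ 2 + (m99 ^ 2 + (m154 ^ 2 + (m210 ^ 2 + (m231 ^ 2 + (m280' ^ 2 + m385 ^ 2)))))))) (by linarith)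
  have a9 : m280' ≤ 1 := ar_sqle (a := m45 ^ 2 + (m45' ^ 2 + (m55 ^ 2 + (m99 ^ 2 + (m154 ^ 2 + (m210 ^ 2 + (m231 ^ 2 + (m280 ^ 2 + m385 ^ 2)))))))) (by linarith)
  have a10 : m385 ≤ 1 := ar_sqle (a := m45 ^ 2 + (m45' ^ 2 + (m55 ^ 2 + (m99 ^ 2 + (m154 ^ 2 + (m210 ^ 2 + (m231 ^ 2 + (m280 ^ 2 + m280' ^ 2)))))))) (by linarith)
  rw [ar_sqeq a1, ar_sqeq a2, ar_sqeq a3, ar_sqeq a4, ar_sqeq a5, ar_sqeq a6, ar_sqeq a7, ar_sqeq a8, ar_sqeq a9, ar_sqeq a10] at h5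
  exact ar_lin _ _ _ _ _ _ _ _ _ _ a1 a2 a3 a4 a5 a6 a7 a8 a9 a10 h5 (by linarith)

theorem ar_alt (n1 n21 n55 n154 n210 : ℕ) (h1 : n1 ≤ 1) (h2 : n21 ≤ 1) (h3 : n55 ≤ 1) (h4 : n154 ≤ 1) (h5 : n210 ≤ 1)
    (h6 : (210 : ℤ) = n1 + n21 * 21 + n55 * 55 + n154 * 154 + n210 * 210)
    (h7 : (2 : ℤ) = n1 + n21 * 5 + n55 * 7 + n154 * 10 + n210 * 2) : n1 = 0 ∧ n21 = 0 ∧ n55 = 0 ∧ n154 = 0 ∧ n210 = 1 := by
  omega

theorem Tab.split (H : H22 G) (T : Tab c21 c45 c55 c99 c154 c210 c231 c280 c385) [Fintype G] {V : G → ℤ} (hV : ∀ g, (c21 : G → ℂ) g = V g)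
    {μ ν : IrrCharacter G → ℕ} (S : Split c21 μ ν) :
    μ (triv G) = 1 ∧ ν (triv G) = 0 ∧ μ c21 = 1 ∧ ν c21 = 0 ∧ ∀ g, ((c21 : G → ℂ) g ^ 2 - (c21 : G → ℂ) (g * g)) / 2 = (c210 : G → ℂ) g := by
  have s3 : ∑ g, V g ^ 3 = Nat.card G * ((1 : ℕ) : ℤ) := by
    rw [T.sum_val H hV (fun v => v ^ 3), H.card]; norm_num
  have s4 : ∑ g, V g ^ 4 = Nat.card G * ((5 : ℕ) : ℤ) := by
    rw [T.sum_val H hV (fun v => v ^ 4), H.card]; norm_num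
  have h1 := S.triv hV
  have h2 := S.self hV s3
  have h3 := S.norm hV s4
  rw [T.sum] at h3
  have h4 := S.sq 1
  rw [T.sum] at h4
  simp only [apply_one, deg_triv, deg_cc, T.d21, T.d45, T.d55, T.d99, T.d154, T.d210, T.d231, T.d280, T.d385] at h4
  have h4' : 441 = (μ (triv G) + ν (triv G)) + ((μ c21 + ν c21) * 21 + ((μ c45 + ν c45) * 45 + ((μ (cc c45) + ν (cc c45)) * 45 + ((μ c55 + ν c55) * 55 +
      ((μ c99 + ν c99) * 99 + ((μ c154 + ν c154) * 154 + ((μ c210 + ν c210) * 210 + ((μ c231 + ν c231) * 231 + ((μ c280 + ν c280) * 280 +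
      ((μ (cc c280) + ν (cc c280)) * 280 + (μ c385 + ν c385) * 385)))))))))) := by
    have : ((441 : ℕ) : ℂ) = (((μ (triv G) + ν (triv G)) + ((μ c21 + ν c21) * 21 + ((μ c45 + ν c45) * 45 + ((μ (cc c45) + ν (cc c45)) * 45 + ((μ c55 + ν c55) * 55 +
      ((μ c99 + ν c99) * 99 + ((μ c154 + ν c154) * 154 + ((μ c210 + ν c210) * 210 + ((μ c231 + ν c231) * 231 + ((μ c280 + ν c280) * 280 +
      ((μ (cc c280) + ν (cc c280)) * 280 + (μ c385 + ν c385) * 385)))))))))) : ℕ) : ℂ) := by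
      push_cast
      push_cast at h4
      linear_combination h4
    exact_mod_cast this
  obtain ⟨N, hN⟩ : ∃ N : IrrCharacter G → ℕ, ∀ ψ, N ψ = μ ψ + ν ψ := ⟨fun ψ => μ ψ + ν ψ, fun ψ => rfl⟩
  simp only [← hN] at h1 h2 h3 h4'
  obtain ⟨b1, b2, b3, b4, b5, b6, b7, b8, b9, b10⟩ := ar_split (N (triv G)) (N c21) (N c45) (N (cc c45)) (N c55) (N c99) (N c154) (N c210) (N c231)
    (N c280) (N (cc c280)) (N c385) h1 h2 h3 h4'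
  rw [hN] at h1 h2 b1 b2 b3 b4 b5 b6 b7 b8 b9 b10
  have z45 : ν c45 = 0 := by omega
  have z45' : ν (cc c45) = 0 := by omega
  have z99 : ν c99 = 0 := by omega
  have z231 : ν c231 = 0 := by omega
  have z280 : ν c280 = 0 := by omega
  have z280' : ν (cc c280) = 0 := by omega
  have z385 : ν c385 = 0 := by omega
  obtain ⟨s, hs⟩ := exists_elt H (p := 2) (by norm_num) (by norm_num)
  have I := T.inv H hs
  have hs2 : s * s = 1 := by rw [← pow_two, ← hs]; exact pow_orderOf_eq_one s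
  have l1 := S.eν 1
  have l2 := S.eν s
  rw [T.sum] at l1 l2
  simp only [mul_one, apply_one, deg_triv, deg_cc, T.d21, T.d45, T.d55, T.d99, T.d154, T.d210, T.d231, T.d280, T.d385, z45, z45', z99, z231, z280, z280',
    z385] at l1
  simp only [hs2, apply_one, I.s21, I.s45, I.s45', I.s55, I.s99, I.s154, I.s210, I.s231, I.s280, I.s280', I.s385, triv_apply, T.d21, z45, z45', z99, z231, z280, z280',
    z385] at l2
  have l1' : (210 : ℤ) = ν (triv G) + ν c21 * 21 + ν c55 * 55 + ν c154 * 154 + ν c210 * 210 := by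
    have : ((210 : ℤ) : ℂ) = ((ν (triv G) + ν c21 * 21 + ν c55 * 55 + ν c154 * 154 + ν c210 * 210 : ℤ) : ℂ) := by
      push_cast; push_cast at l1; linear_combination l1
    exact_mod_cast this
  have l2' : (2 : ℤ) = ν (triv G) + ν c21 * 5 + ν c55 * 7 + ν c154 * 10 + ν c210 * 2 := by
    have : ((2 : ℤ) : ℂ) = ((ν (triv G) + ν c21 * 5 + ν c55 * 7 + ν c154 * 10 + ν c210 * 2 : ℤ) : ℂ) := by
      push_cast; push_cast at l2; linear_combination l2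
    exact_mod_cast this
  obtain ⟨c1, c2, c3, c4, c5⟩ := ar_alt (ν (triv G)) (ν c21) (ν c55) (ν c154) (ν c210) (by omega) (by omega) (by omega) (by omega) (by omega) l1' l2'
  refine ⟨by omega, c1, by omega, c2, fun g => ?_⟩
  rw [S.eν, T.sum, c1, c2, c3, c4, c5, z45, z45', z99, z231, z280, z280', z385]
  push_cast; ring

theorem exists_act (H : H22 G) (T : Tab c21 c45 c55 c99 c154 c210 c231 c280 c385) [Fintype G] {V : G → ℤ} (hV : ∀ g, (c21 : G → ℂ) g = V g) :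
    ∃ (Ω : Type) (_ : Fintype Ω) (_ : MulAction G Ω), Fintype.card Ω = 22 ∧ ∀ g : G, (Nat.card {ω : Ω // g • ω = ω} : ℤ) = 1 + V g := by
  obtain ⟨μ, ν, S⟩ := exists_split c21
  obtain ⟨h1, h2, h3, h4, h5⟩ := T.split H hV S
  obtain ⟨Ω, i1, i2, h6, h7⟩ := AlgTrick.alg_trick c21.2 (n := 21) (by rw [apply_one, T.d21]) (by norm_num)
    (by rw [S.fsInd, h1, h2]; norm_num)
    (by rw [S.sumS hV, h3]; rw [Nat.cast_one, mul_one]; exact card_ne)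
    (by rw [S.sumL hV, h4]; rw [Nat.cast_zero, mul_zero])
    (sumL2 hV h5)
  refine ⟨Ω, i1, i2, h6, fun g => ?_⟩
  have := h7 g
  rw [hV] at this
  exact_mod_cast this

end Cfsg.Agent.Lib.M22N
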