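import Mathlib
import Cfsg.Agent.Lib.M22L

/-!
# Simple groups of order 443520, part M: the Steiner system (helper7)
-/

set_option autoImplicit false
set_option linter.all false

namespace Cfsg.Agent.Lib.M22N

open Subgroup Cfsg Cfsg.Agent.Lib.CharBasic Cfsg.Agent.Lib.ColTools Cfsg.Agent.Lib.SmallSimple
  Cfsg.Agent.Lib.PBlock Cfsg.Agent.Lib.QBlk Cfsg.Agent.Lib.SqSplit Cfsg.Agent.Lib.AlgTrick Cfsg.Agent.Lib.MathieuAct
open scoped ComplexConjugate Classical

universe u

theorem desc3 (n : ℕ) : ((n.descFactorial 3 : ℕ) : ℤ) = n * (n - 1) * (n - 2) := by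
  rcases n with _ | _ | n
  · simp [Nat.descFactorial]
  · simp [Nat.descFactorial]
  · simp only [Nat.descFactorial_succ, Nat.descFactorial_zero, Nat.sub_zero, mul_one]
    have e1 : n + 1 + 1 - 2 = n := by omega
    have e2 : n + 1 + 1 - 1 = n + 1 := by omega
    rw [e1, e2]
    push_cast; ring

variable {G : Type u} [Group G] [Finite G] [IsSimpleGroup G]

variable {c21 c45 c55 c99 c154 c210 c231 c280 c385 : IrrCharacter G}

theorem Tab.order3 (H : H22 G) (T : Tab c21 c45 c55 c99 c154 c210 c231 c280 c385) {V : G → ℤ} (hV : ∀ g, (c21 : G → ℂ) g = V g)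
    {g : G} (hg : ty V g = 6) : orderOf g = 3 := by
  have := Fintype.ofFinite G
  obtain ⟨N, hN, N0, N1, N2, N3, N4, N5, N6, N7, N8, N9, N10⟩ := T.solved H hV
  have h3 : ∀ g : G, orderOf g = 3 → ty V g = 6 ∧ Nat.card (centralizer ({g} : Set G)) = 36 := by
    intro g hg
    have h9 : g ^ 9 = 1 := by
      apply orderOf_dvd_iff_pow_eq_one.1
      rw [hg]; norm_num
    rcases (T.pow9 H hV g).1 h9 with h | ⟨h1, h2⟩
    · rw [h, orderOf_one] at hg; norm_num at hg
    · obtain ⟨n1, n2, n3⟩ := T.ty_ne H hV g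
      rcases T.ty_val H hV g with ⟨h, h', -⟩ | ⟨h, h', -⟩ | ⟨h, h', -⟩ | ⟨h, h', -⟩ | ⟨h, h', -⟩ | ⟨h, h', -⟩ | ⟨h, h', -⟩ | ⟨h, h', -⟩ |
        ⟨⟨a1, a2, a3, a4, a5, a6⟩, -⟩
      · rw [h', orderOf_one] at hg; norm_num at hg
      · omega
      · omega
      · omega
      · omega
      · exact absurd h n2
      · exact ⟨h, h'.2⟩
      · exact absurd h n3
      · have := a6 h1; omega
  have hd := dvd_card_of_cent (fun g : G => orderOf g = 3) (c := 36)
    (fun g h hgh h1 => by rw [← M11ByOrder.isConj_order hgh]; exact h1) (fun g h => (h3 g h).2)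
  rw [H.card] at hd
  have hpos : 0 < Nat.card {g : G // orderOf g = 3} := by
    obtain ⟨x, hx⟩ := exists_elt H (p := 3) (by norm_num) (by norm_num)
    have : Nonempty {g : G // orderOf g = 3} := ⟨⟨x, hx⟩⟩
    exact Nat.card_pos
  have hle := Nat.le_of_dvd hpos hd
  have e1 : (Finset.univ.filter fun g : G => orderOf g = 3).card = Nat.card {g : G // orderOf g = 3} := card_filter_iff (fun g => Iff.rfl)
  have hsub : (Finset.univ.filter fun g : G => orderOf g = 3) ⊆ (Finset.univ.filter fun g : G => ty V g = 6) := by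
    intro x hx
    rw [Finset.mem_filter] at hx ⊢
    exact ⟨hx.1, (h3 x hx.2).1⟩
  have heq := Finset.eq_of_subset_of_card_le hsub (by rw [← hN, N6, e1]; exact hle)
  have : g ∈ (Finset.univ.filter fun g : G => ty V g = 6) := Finset.mem_filter.2 ⟨Finset.mem_univ g, hg⟩
  rw [← heq] at this
  exact (Finset.mem_filter.1 this).2

/-- a simple group with the hypotheses acts on a Steiner system -/
theorem H22.exists_steiner (H : H22 G) : ∃ (Ω : Type) (_ : Fintype Ω) (_ : DecidableEq Ω) (B : Set (Finset Ω)),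
    Fintype.card Ω = 22 ∧ IsSteinerSystem 3 6 B ∧ ∃ φ : G →* setSystemAut B, Function.Injective φ := by
  have := Fintype.ofFinite G
  obtain ⟨c21, c45, c55, c99, c154, c210, c231, c280, c385, T⟩ := exists_tab H
  choose V hV using T.int21
  obtain ⟨Ω, i1, i2, hΩ, hπ⟩ := exists_act H T hV
  have hm : MulAction.IsMultiplyPretransitive G Ω 3 := by
    apply multiply_of_sum
    have h1 := T.sum_val H hV (fun v => v ^ 3 - v)
    have h2 : ((∑ g : G, (Nat.card {ω : Ω // g • ω = ω}).descFactorial 3 : ℕ) : ℤ) = (Nat.card G : ℤ) := by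
      rw [H.card]
      push_cast
      rw [Finset.sum_congr rfl (fun g _ => (desc3 (Nat.card {ω : Ω // g • ω = ω})))]
      rw [Finset.sum_congr rfl (g := fun g => V g ^ 3 - V g) (fun g _ => by rw [hπ]; ring), h1]
      norm_num
    exact_mod_cast h2
  have hval : ∀ g : G, g ≠ 1 → 2 ≤ V g → (orderOf g = 2 ∧ V g = 5) ∨ (orderOf g = 3 ∧ V g = 3) := by
    intro g hg hv
    obtain ⟨n1, n2, n3⟩ := T.ty_ne H hV g
    rcases T.ty_val H hV g with ⟨h, h', -⟩ | ⟨h, h', h''⟩ | ⟨h, h', h''⟩ | ⟨h, h', h''⟩ | ⟨h, h', h''⟩ | ⟨h, h', h''⟩ | ⟨h, h', h''⟩ | ⟨h, h', h''⟩ |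
        ⟨-, ⟨h, h''⟩ | ⟨h, h''⟩ | ⟨h, h''⟩⟩
    · exact absurd h' hg
    · exact Or.inl ⟨h', h''⟩
    · omega
    · omega
    · omega
    · omega
    · exact Or.inr ⟨T.order3 H hV h, h''⟩
    · omega
    · omega
    · omega
    · exact absurd h n1
  have hyp : Hyp G Ω 3 := by
    refine ⟨hΩ, fun S hS => ?_, fun g hg h3 => ?_⟩
    · have h1 := card_fixing hm S hS
      rw [hΩ, H.card] at h1
      have h2 : Nat.descFactorial 22 3 = 9240 := by decide
      rw [h2] at h1
      omega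
    · have h1 := hπ g
      have h2 : 2 ≤ V g := by
        have : (3 : ℤ) ≤ (Nat.card {ω : Ω // g • ω = ω} : ℤ) := by exact_mod_cast h3
        omega
      rcases hval g hg h2 with ⟨h4, h5⟩ | ⟨h4, h5⟩
      · left; exact ⟨h4, by omega⟩
      · right; exact ⟨h4, by omega⟩
  have hfaith : ∀ g : G, (∀ ω : Ω, g • ω = ω) → g = 1 := by
    intro g hg
    by_contra hne
    have h1 : Nat.card {ω : Ω // g • ω = ω} = 22 := by
      rw [← hΩ, ← Nat.card_eq_fintype_card]
      exact Nat.card_congr (Equiv.subtypeUnivEquiv hg)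
    have h2 := hπ g
    rw [h1] at h2
    rcases hval g hne (by push_cast at h2; omega) with ⟨h4, h5⟩ | ⟨h4, h5⟩ <;> push_cast at h2 <;> omega
  exact ⟨Ω, i1, inferInstance, hyp.B, hΩ, hyp.steiner, hyp.exists_hom hfaith⟩

end Cfsg.Agent.Lib.M22N
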