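import Mathlib
import Cfsg.Agent.Lib.M22M
import Cfsg.Agent.Lib.Aut22
import Cfsg.Agent.Lib.GolayM21
import Cfsg.Prelude.Def_Spor_Mathieu

/-!
# Simple groups of order 443520, part O: identification (helper7)
-/

set_option autoImplicit false
set_option linter.all false

namespace Cfsg.Agent.Lib.M22N

open Subgroup Cfsg Cfsg.Agent.Lib.Golay Cfsg.Agent.Lib.S5824
open scoped Pointwise

universe u v

/-- two simple groups of order 443520 embedded in the same group of order 887040 -/
theorem iso_of_embed {G : Type u} {M : Type v} {A : Type*} [Group G] [Group M] [Group A] [Finite A] [IsSimpleGroup G]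
    (hG : Nat.card G = 443520) (hM : Nat.card M = 443520) (hA : Nat.card A = 887040)
    (φ : G →* A) (hφ : Function.Injective φ) (ψ : M →* A) (hψ : Function.Injective ψ) : Nonempty (G ≃* M) := by
  have c1 : Nat.card φ.range = 443520 := by
    rw [← hG]; exact (Nat.card_congr (MonoidHom.ofInjective hφ).toEquiv).symm
  have c2 : Nat.card ψ.range = 443520 := by
    rw [← hM]; exact (Nat.card_congr (MonoidHom.ofInjective hψ).toEquiv).symm
  have hidx : ψ.range.index = 2 := by
    have := Subgroup.card_mul_index ψ.range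
    rw [c2, hA] at this
    omega
  have hn : ψ.range.Normal := Subgroup.normal_of_index_eq_two hidx
  have hle : φ.range ≤ ψ.range := by
    rcases IsSimpleGroup.eq_bot_or_eq_top_of_normal (ψ.range.comap φ) inferInstance with h | h
    · exfalso
      have h1 : (ψ.range.comap φ).index = ψ.range.relIndex φ.range := Subgroup.index_comap _ _
      have h2 : ψ.range.relIndex φ.range ∣ ψ.range.index := Subgroup.relIndex_dvd_index_of_normal _ _
      rw [← h1, h, hidx, Subgroup.index_bot, hG] at h2
      norm_num at h2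
    · rintro _ ⟨g, rfl⟩
      have : g ∈ ψ.range.comap φ := by rw [h]; trivial
      exact this
  have heq : φ.range = ψ.range := Subgroup.eq_of_le_of_card_ge hle (by rw [c1, c2])
  exact ⟨(MonoidHom.ofInjective hφ).trans ((MulEquiv.subgroupCongr heq).trans (MonoidHom.ofInjective hψ).symm)⟩

theorem stab_eq : (MulAction.stabilizer M24 u0 ⊓ MulAction.stabilizer M24 v0).map M24.subtype = Spor.M22 := by
  ext g
  rw [Spor.M22, Spor.M23, Subgroup.mem_inf, Subgroup.mem_inf, MulAction.mem_stabilizer_iff,
    MulAction.mem_stabilizer_iff, and_assoc]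
  constructor
  · rintro ⟨k, hk, rfl⟩
    exact ⟨k.2, hk.1, hk.2⟩
  · rintro ⟨hg, h3, h4⟩
    exact ⟨⟨g, hg⟩, ⟨h3, h4⟩, rfl⟩

variable {G : Type u} [Group G] [Finite G] [IsSimpleGroup G]

/-- a simple group of order 443520 with the right normalizers for 11, 7 and 5 is `M22` -/
theorem H22.iso (H : H22 G) : Nonempty (G ≃* Spor.M22) := by
  classical
  obtain ⟨Ω, i1, i2, B, hΩ, hB, φ, hφ⟩ := H.exists_steiner
  obtain ⟨ψ, hψ⟩ := Aut22.exists_m22 hΩ hB
  have hM : Nat.card ↥(MulAction.stabilizer M24 u0 ⊓ MulAction.stabilizer M24 v0) = 443520 := card_stab_two u0_ne_v0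
  have hA : Nat.card (setSystemAut B) = 887040 := Aut22.card_aut hΩ hB
  have hfin : Finite (setSystemAut B) := Nat.finite_of_card_ne_zero (by rw [hA]; norm_num)
  obtain ⟨e⟩ := iso_of_embed H.card hM hA φ hφ ψ hψ
  exact ⟨e.trans ((Subgroup.equivMapOfInjective _ _ M24.subtype_injective).trans (MulEquiv.subgroupCongr stab_eq))⟩

end Cfsg.Agent.Lib.M22N
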