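import Mathlib
import Cfsg.Agent.Lib.M22O
import Cfsg.Agent.Lib.M22Block
import Cfsg.Agent.Lib.NseEleven

/-!
# `M22` satisfies the hypotheses; recognition from Sylow numbers (helper7)
-/

set_option autoImplicit false
set_option linter.all false

namespace Cfsg.Agent.Lib.M22N

open Subgroup Cfsg Cfsg.Agent.Lib.NseTools

universe u

theorem primes443520 (r : ℕ) (hr : r.Prime) (h : r ∣ 443520) : r = 2 ∨ r = 3 ∨ r = 5 ∨ r = 7 ∨ r = 11 := by
  rw [show 443520 = 2 ^ 7 * (3 ^ 2 * (5 * (7 * 11))) by norm_num, hr.dvd_mul, hr.dvd_mul, hr.dvd_mul, hr.dvd_mul] at h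
  rcases h with h | h | h | h | h
  · left; exact (Nat.prime_dvd_prime_iff_eq hr Nat.prime_two).1 (hr.dvd_of_dvd_pow h)
  · right; left; exact (Nat.prime_dvd_prime_iff_eq hr Nat.prime_three).1 (hr.dvd_of_dvd_pow h)
  · right; right; left; exact (Nat.prime_dvd_prime_iff_eq hr Nat.prime_five).1 h
  · right; right; right; left; exact (Nat.prime_dvd_prime_iff_eq hr (by norm_num)).1 h
  · right; right; right; right; exact (Nat.prime_dvd_prime_iff_eq hr (by norm_num)).1 h

theorem norm_of_count {G : Type u} [Group G] [Finite G] (hG : Nat.card G = 443520) {p s n : ℕ} [hp : Fact p.Prime] (hd : p ∣ 443520) (hsq : ¬ p ^ 2 ∣ 443520)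
    (hc : Nat.card (Sylow p G) = s) (hs : 0 < s) (hn : n * s = 443520) (x : G) (hx : orderOf x = p) :
    Nat.card (normalizer (zpowers x : Set G)) = n := by
  obtain ⟨P, h2, h3, -⟩ := sylow_elt (by rw [hG]; exact hsq) x hx
  have h4 := card_sylow_mul P
  rw [h3, hG, hc, ← hn, mul_comm] at h4
  exact Nat.eq_of_mul_eq_mul_right hs h4

/-- recognition from the Sylow numbers -/
theorem iso_of_sylow {G : Type u} [Group G] [Finite G] (hG : Nat.card G = 443520) (s11 : Nat.card (Sylow 11 G) = 8064)
    (s7 : Nat.card (Sylow 7 G) = 21120) (s5 : Nat.card (Sylow 5 G) = 22176) : Nonempty (G ≃* Spor.M22) := by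
  have i11 : Fact (Nat.Prime 11) := ⟨by norm_num⟩
  have i7 : Fact (Nat.Prime 7) := ⟨by norm_num⟩
  have i5 : Fact (Nat.Prime 5) := ⟨by norm_num⟩
  have c5 : ∀ P : Sylow 5 G, Nat.card P = 5 := sylow_card_prime (by rw [hG]; norm_num) (by rw [hG]; norm_num)
  have hGs : IsSimpleGroup G := by
    refine isSimple_of_normalizers (p := 11) (q := 5) (by decide) ?_ c5 ?_ ?_ (by rw [hG]; norm_num)
    · intro P
      have h := card_sylow_mul P
      rw [s11, hG] at h
      omega
    · intro Q h11
      have h := card_sylow_mul Q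
      rw [s5, hG] at h
      omega
    · intro r k hr h11 h5 hk hd
      rw [hG] at hd
      have hr' : r ∣ 443520 := (dvd_pow_self r hk.ne').trans hd
      rcases primes443520 r hr hr' with h | h | h | h | h
      · subst h
        have h4 : k ≤ 7 := by
          by_contra hk
          have : 2 ^ 8 ∣ 443520 := (pow_dvd_pow 2 (by omega)).trans hd
          revert this; decide
        interval_cases k <;> decide
      · subst h
        have h4 : k ≤ 2 := by
          by_contra hk
          have : 3 ^ 3 ∣ 443520 := (pow_dvd_pow 3 (by omega)).trans hd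
          revert this; decide
        interval_cases k <;> decide
      · exact absurd h h5
      · subst h
        have h4 : k ≤ 1 := by
          by_contra hk
          have : 7 ^ 2 ∣ 443520 := (pow_dvd_pow 7 (by omega)).trans hd
          revert this; decide
        interval_cases k; decide
      · exact absurd h h11
  have H : H22 G := ⟨hG, norm_of_count hG (by norm_num) (by norm_num) s11 (by norm_num) (by norm_num),
    norm_of_count hG (by norm_num) (by norm_num) s7 (by norm_num) (by norm_num),
    norm_of_count hG (by norm_num) (by norm_num) s5 (by norm_num) (by norm_num)⟩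
  exact H.iso

instance : Finite Spor.M22 := Nat.finite_of_card_ne_zero (by rw [M22Block.card_M22]; norm_num)

theorem card_ord_eq {q : ℕ} : (DefZeroCount.ordSet Spor.M22 q).card = Nat.card {g : Spor.M22 // orderOf g = q} := by
  classical
  have h : Nat.card {g : Spor.M22 // orderOf g = q} = Nat.card {g : Spor.M22 // g ∈ DefZeroCount.ordSet Spor.M22 q} :=
    Nat.card_congr (Equiv.subtypeEquivRight fun g => DefZeroCount.mem_ordSet.symm)
  rw [h, Nat.card_eq_fintype_card, Fintype.card_coe]

theorem syl_of_card {p s c : ℕ} [hp : Fact p.Prime] (hd : p ∣ 443520) (hsq : ¬ p ^ 2 ∣ 443520)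
    (h : Nat.card {g : Spor.M22 // orderOf g = p} = c) (hs : (p - 1) * s = c) : Nat.card (Sylow p Spor.M22) = s := by
  have h1 := sylow_card_prime (G := Spor.M22) (p := p) (by rw [M22Block.card_M22]; exact hd) (by rw [M22Block.card_M22]; exact hsq)
  rw [card_order_prime h1, ← hs, mul_comm] at h
  exact Nat.eq_of_mul_eq_mul_left (by have := hp.out.two_le; omega) h

theorem M22_five : Nat.card {g : Spor.M22 // orderOf g = 5} = 88704 := by rw [← card_ord_eq]; exact M22Block.card_ord_five
theorem M22_seven : Nat.card {g : Spor.M22 // orderOf g = 7} = 126720 := by rw [← card_ord_eq]; exact M22Block.card_ord_seven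
theorem M22_eleven : Nat.card {g : Spor.M22 // orderOf g = 11} = 80640 := by rw [← card_ord_eq]; exact M22Block.card_ord_eleven

theorem simple_M22 : IsSimpleGroup Spor.M22 :=
  Cfsg.Agent.Lib.Golay.isSimpleGroup_of_mulEquiv ((Subgroup.equivMapOfInjective _ _ M24.subtype_injective).trans (MulEquiv.subgroupCongr stab_eq))
    (Cfsg.Agent.Lib.Golay.M22_simple Cfsg.Agent.Lib.S5824.u0_ne_v0)

theorem H_M22 : H22 Spor.M22 := by
  have i11 : Fact (Nat.Prime 11) := ⟨by norm_num⟩
  have i7 : Fact (Nat.Prime 7) := ⟨by norm_num⟩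
  have i5 : Fact (Nat.Prime 5) := ⟨by norm_num⟩
  exact ⟨M22Block.card_M22,
    norm_of_count M22Block.card_M22 (by norm_num) (by norm_num) (syl_of_card (s := 8064) (by norm_num) (by norm_num) M22_eleven (by norm_num)) (by norm_num) (by norm_num),
    norm_of_count M22Block.card_M22 (by norm_num) (by norm_num) (syl_of_card (s := 21120) (by norm_num) (by norm_num) M22_seven (by norm_num)) (by norm_num) (by norm_num),
    norm_of_count M22Block.card_M22 (by norm_num) (by norm_num) (syl_of_card (s := 22176) (by norm_num) (by norm_num) M22_five (by norm_num)) (by norm_num) (by norm_num)⟩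

end Cfsg.Agent.Lib.M22N
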