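import Mathlib
import Cfsg.Agent.Lib.M22P
import Cfsg.Agent.Lib.M12A

/-!
# Simple groups of order 443520, part Q: the Sylow 11-normalizer (helper7)
-/

set_option autoImplicit false
set_option linter.all false

namespace Cfsg.Agent.Lib.M22N

open Subgroup Cfsg Cfsg.Agent.Lib.CharBasic Cfsg.Agent.Lib.ColTools Cfsg.Agent.Lib.SmallSimple
  Cfsg.Agent.Lib.PBlock Cfsg.Agent.Lib.QBlk
open scoped ComplexConjugate

universe u

variable {G : Type u} [Group G] [Finite G]

/-- an involution centralizing a subgroup of prime order: bounds -/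
theorem deg_bound [IsSimpleGroup G] (hna : ¬ IsMulCommutative G) {p : ℕ} [hp : Fact p.Prime] (hp2 : p % 2 = 1) {P : Subgroup G}
    (hP : Nat.card P = p) [Fintype P] {χ : IrrCharacter G} (hχ : χ ≠ triv G) {r : ℤ}
    (hr : ∀ a ∈ centralizer (P : Set G), ¬ p ∣ orderOf a → ∑ h : P, (χ : G → ℂ) ((h : G) * a) = (χ : G → ℂ) a + r)
    {a : G} (ha : a ∈ centralizer (P : Set G)) (ho : orderOf a = 2) :
    ∃ n0 n1 : ℕ, (deg χ : ℤ) + r = p * (n0 + n1) ∧ 2 ≤ n1 ∧ r < p * n0 := by
  have ha2 : a ^ 2 = 1 := by rw [← ho]; exact pow_orderOf_eq_one _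
  have ha1 : a ≠ 1 := fun h => by rw [h, orderOf_one] at ho; omega
  obtain ⟨n0, n1, h3, h4⟩ := fix_inv (p := p) χ.2.isCharacter (P := P) (N := centralizer (P : Set G)) hP
    (by
      intro n hn h hh
      have : h * n = n * h := Subgroup.mem_centralizer_iff.1 hn h hh
      rw [← this, mul_inv_cancel_right]; exact hh) ha ha2
  have h5 := hr 1 (Subgroup.one_mem _) (by rw [orderOf_one]; exact fun h => hp.out.one_lt.ne' (Nat.dvd_one.1 h))
  have h6 := hr a ha (by
    rw [ho]; intro h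
    have := Nat.le_of_dvd (by norm_num) h
    have := hp.out.two_le
    have : p = 2 := by omega
    omega)
  simp only [mul_one] at h5
  rw [h3, apply_one] at h5
  obtain ⟨v, hv1, hv2, hv3, hv4, hv5⟩ := val_inv hna χ a ha2
  have hv6 := hv5 ha1 hχ
  rw [h4, hv1] at h6
  have e1 : (deg χ : ℤ) + r = p * (n0 + n1) := by
    have : (((deg χ : ℤ) + r : ℤ) : ℂ) = ((p * (n0 + n1) : ℤ) : ℂ) := by push_cast; rw [← h5]
    exact_mod_cast this
  have e2 : v + r = p * (n0 - n1) := by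
    have : ((v + r : ℤ) : ℂ) = ((p * ((n0 : ℤ) - n1) : ℤ) : ℂ) := by push_cast; rw [← h6]
    exact_mod_cast this
  have e3 : (deg χ : ℤ) - v = 2 * (p * n1) := by linarith
  rw [e3] at hv2
  have hp' : (p : ℤ) % 2 = 1 := by omega
  have e4 : ((p : ℤ) * n1) % 2 = 0 := by omega
  have e5 : (n1 : ℤ) % 2 = 0 := by
    rw [Int.mul_emod, hp', one_mul] at e4
    omega
  have e6 : n1 ≠ 0 := by
    rintro rfl
    push_cast at e3
    have : (deg χ : ℤ) = v := by linarith
    omega
  have hp0 : (0 : ℤ) < p := by exact_mod_cast hp.out.pos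
  refine ⟨n0, n1, e1, by omega, ?_⟩
  nlinarith [hv6.1]

section eleven

variable [IsSimpleGroup G] (hG : Nat.card G = 443520) (P : Sylow 11 G) (hP : Nat.card (P : Subgroup G) = 11)

include hG in
theorem lt666 (χ : IrrCharacter G) : deg χ < 666 := by
  have h1 : deg χ ^ 2 ≤ ∑ χ : IrrCharacter G, deg χ ^ 2 := Finset.single_le_sum (f := fun χ : IrrCharacter G => deg χ ^ 2) (fun _ _ => Nat.zero_le _) (Finset.mem_univ χ)
  rw [sum_deg_sq, hG] at h1
  by_contra h
  have h2 : 666 ≤ deg χ := by omega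
  have h3 := Nat.pow_le_pow_left h2 2
  omega

include hG in
theorem nca : ¬ IsMulCommutative G := not_isMulCommutative_of_card hG (by norm_num)

/-- bounds for the non-exceptional characters -/
theorem boundX [IsSimpleGroup G] (hna : ¬ IsMulCommutative G) {p : ℕ} [hp : Fact p.Prime] (hp2 : p % 2 = 1) {P : Subgroup G}
    (hP : Nat.card P = p) {χ : IrrCharacter G} (hχ : χ ≠ triv G) {δ : ℤ} (hδ : δ = 1 ∨ δ = -1)
    (hval : ∀ c ∈ centralizer (P : Set G), p ∣ orderOf c → (χ : G → ℂ) c = δ)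
    {a : G} (ha : a ∈ centralizer (P : Set G)) (ho : orderOf a = 2) :
    (δ = 1 → 2 * p + 1 ≤ deg χ) ∧ (δ = -1 → 3 * p - 1 ≤ deg χ) := by
  have := Fintype.ofFinite P
  have hpp := hp.out.two_le
  obtain ⟨n0, n1, h1, h2, h3⟩ := deg_bound hna hp2 hP hχ (r := (p - 1) * δ) (fun a ha hpa => by
    rw [sum_const hP hval ha hpa]; push_cast; ring) ha ho
  have hp0 : (2 : ℤ) ≤ p := by exact_mod_cast hpp
  constructor
  · rintro rfl
    have e0 : 1 ≤ n0 := by
      rcases Nat.eq_zero_or_pos n0 with h | h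
      · rw [h] at h3; push_cast at h3; nlinarith
      · exact h
    have e1 : (n0 : ℤ) ≥ 1 := by exact_mod_cast e0
    have e2 : (n1 : ℤ) ≥ 2 := by exact_mod_cast h2
    have : (2 * p + 1 : ℤ) ≤ deg χ := by nlinarith
    exact_mod_cast this
  · rintro rfl
    have e1 : (n0 : ℤ) ≥ 0 := by positivity
    have e2 : (n1 : ℤ) ≥ 2 := by exact_mod_cast h2
    have : (3 * p - 1 : ℤ) ≤ deg χ := by nlinarith
    omega

/-- bounds for the exceptional characters -/
theorem boundY [IsSimpleGroup G] (hna : ¬ IsMulCommutative G) {p : ℕ} [hp : Fact p.Prime] (hp2 : p % 2 = 1) {P : Subgroup G}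
    (hP : Nat.card P = p) {e t : ℕ} (B : PB p P e t) {ψ : IrrCharacter G} (hψ : ψ ∈ B.Y) (he : 0 < e)
    {a : G} (ha : a ∈ centralizer (P : Set G)) (ho : orderOf a = 2) :
    (B.s = 1 → 2 * p + e ≤ deg ψ) ∧ (B.s = -1 → 3 * p ≤ deg ψ + e) := by
  have := Fintype.ofFinite P
  have hψ1 : ψ ≠ triv G := fun h => B.disj _ B.tX (h ▸ hψ)
  have hpp := hp.out.two_le
  obtain ⟨n0, n1, h1, h2, h3⟩ := deg_bound hna hp2 hP hψ1 (r := - (B.s * e)) (fun a ha hpa => by
    rw [B.sumY ψ hψ a ha hpa]; push_cast; ring) ha ho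
  have hp0 : (2 : ℤ) ≤ p := by exact_mod_cast hpp
  have he' : (0 : ℤ) < e := by exact_mod_cast he
  constructor
  · intro hs
    rw [hs] at h1 h3
    have e1 : (n0 : ℤ) ≥ 0 := by positivity
    have e2 : (n1 : ℤ) ≥ 2 := by exact_mod_cast h2
    have : (2 * p + e : ℤ) ≤ deg ψ := by nlinarith
    exact_mod_cast this
  · intro hs
    rw [hs] at h1 h3
    have e0 : 1 ≤ n0 := by
      rcases Nat.eq_zero_or_pos n0 with h | h
      · rw [h] at h3; push_cast at h3; linarith
      · exact h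
    have e1 : (n0 : ℤ) ≥ 1 := by exact_mod_cast e0
    have e2 : (n1 : ℤ) ≥ 2 := by exact_mod_cast h2
    have : (3 * p : ℤ) ≤ deg ψ + e := by nlinarith
    exact_mod_cast this

end eleven

end Cfsg.Agent.Lib.M22N
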