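import Mathlib
import Cfsg.Agent.Lib.M22Q

/-!
# Simple groups of order 443520, part R: the Sylow 11-normalizer, cases (helper7)
-/

set_option autoImplicit false
set_option linter.all false

namespace Cfsg.Agent.Lib.M22N

open Subgroup Cfsg Cfsg.Agent.Lib.CharBasic Cfsg.Agent.Lib.ColTools Cfsg.Agent.Lib.SmallSimple
  Cfsg.Agent.Lib.PBlock Cfsg.Agent.Lib.QBlk
open Cfsg.Agent.Lib.M12ByOrder (deg_mod)
open scoped ComplexConjugate

universe u

theorem ar_e2 : ∀ d ∈ Nat.divisors 40320, ∀ y ∈ Nat.divisors 40320, (d % 11 = 1 → d ≠ 1 → y ≠ d + 1) ∧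
    (d % 11 = 10 → y + 1 = d → d = 10 ∨ d = 21) := by decide +kernel

variable {G : Type u} [Group G] [Finite G] [IsSimpleGroup G]

theorem index_cent {p c N : ℕ} (hp : 0 < p * c) {P : Subgroup G} (hC : Nat.card (centralizer (P : Set G)) = p * c) (hG : Nat.card G = p * c * N) :
    (centralizer (P : Set G)).index = N := by
  have h1 := Subgroup.card_mul_index (centralizer (P : Set G))
  rw [hC, hG] at h1
  exact Nat.eq_of_mul_eq_mul_left hp h1

theorem exists_two {P : Subgroup G} {p c : ℕ} (hC : Nat.card (centralizer (P : Set G)) = p * c) (h : 2 ∣ c) :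
    ∃ a ∈ centralizer (P : Set G), orderOf a = 2 := by
  have : Fact (Nat.Prime 2) := ⟨by norm_num⟩
  obtain ⟨a, ha⟩ := exists_prime_orderOf_dvd_card' (G := centralizer (P : Set G)) 2 (by rw [hC]; exact dvd_mul_of_dvd_right h p)
  exact ⟨a, a.2, by rw [Subgroup.orderOf_coe, ha]⟩

theorem cent_dvd11 (hG : Nat.card G = 443520) {P : Subgroup G} {c : ℕ} (hC : Nat.card (centralizer (P : Set G)) = 11 * c) :
    (centralizer (P : Set G)).index ∣ 40320 := by
  have h1 := Subgroup.card_mul_index (centralizer (P : Set G))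
  rw [hC, hG] at h1
  refine ⟨c, ?_⟩
  have : 11 * (c * (centralizer (P : Set G)).index) = 11 * 40320 := by rw [← mul_assoc, h1]
  have := Nat.eq_of_mul_eq_mul_left (by norm_num) this
  rw [mul_comm]; exact this.symm

/-- inertial index two -/
theorem case11_two (hG : Nat.card G = 443520) (P : Sylow 11 G) (hP : Nat.card (P : Subgroup G) = 11)
    (he : (centralizer ((P : Subgroup G) : Set G)).relIndex (normalizer ((P : Subgroup G) : Set G)) = 2)
    {c : ℕ} (hC : Nat.card (centralizer ((P : Subgroup G) : Set G)) = 11 * c) (hc : 2 ∣ c ∨ c = 63) : False := by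
  classical
  have hna := nca hG
  obtain ⟨B⟩ := exists_pb P hP (e := 2) (t := 5) he (by norm_num) (by norm_num)
  have hidx := cent_dvd11 hG hC
  have hdvd : ∀ χ : IrrCharacter G, deg χ ∣ (centralizer ((P : Subgroup G) : Set G)).index → deg χ ∈ Nat.divisors 40320 :=
    fun χ hχ => Nat.mem_divisors.2 ⟨hχ.trans hidx, by norm_num⟩
  obtain ⟨χ, hχ, hχ1⟩ := Finset.exists_mem_ne (by rw [B.cardX]; norm_num : 1 < B.X.card) (triv G)
  obtain ⟨ψ, hψ⟩ := Finset.card_pos.1 (by rw [B.cardY]; norm_num : 0 < B.Y.card)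
  have hX : B.X = {triv G, χ} := by
    symm
    apply Finset.eq_of_subset_of_card_le
    · intro a ha
      rcases Finset.mem_insert.1 ha with rfl | ha
      · exact B.tX
      · rw [Finset.mem_singleton.1 ha]; exact hχ
    · rw [B.cardX, Finset.card_pair hχ1.symm]
  have hrel := B.rel ψ hψ 1 (by rw [orderOf_one]; norm_num)
  rw [hX, Finset.sum_pair hχ1.symm, B.tδ, apply_one, apply_one, apply_one, deg_triv] at hrel
  have hrel' : B.s * deg ψ = 1 + B.δ χ * deg χ := by
    have : ((B.s * deg ψ : ℤ) : ℂ) = ((1 + B.δ χ * deg χ : ℤ) : ℂ) := by push_cast; push_cast at hrel; rw [hrel]; ring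
    exact_mod_cast this
  have hd1 : deg χ ≠ 1 := fun h => hχ1 (eq_triv_of_deg_one hna h)
  obtain ⟨k, hk⟩ := B.degX χ hχ
  have hm := deg_mod hk
  have h4 := ar_e2 _ (hdvd χ (B.dvdX χ hχ)) _ (hdvd ψ (B.dvdY ψ hψ))
  have hp1 := deg_pos χ
  have hp2 := deg_pos ψ
  rcases B.δ_pm χ hχ with h1 | h1 <;> rcases B.s_pm with h2 | h2 <;> rw [h1] at hrel' hm <;> rw [h2] at hrel' <;> push_cast at hm
  · exact h4.1 (by omega) hd1 (by omega)
  · omega
  · omega
  · have h5 := h4.2 (by omega) (by omega)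
    rcases hc with hc | hc
    · obtain ⟨a, ha, ho⟩ := exists_two hC hc
      have := (boundX hna (by norm_num) hP hχ1 (Or.inr h1) (fun c hc h => B.valX χ hχ c hc h) ha ho).2 h1
      omega
    · subst hc
      have h6 := index_cent (N := 640) (by norm_num) hC (by rw [hG])
      have h7 := B.dvdX χ hχ
      have h8 := B.dvdY ψ hψ
      rw [h6] at h7 h8
      rcases h5 with h5 | h5
      · have : deg ψ = 9 := by omega
        rw [this] at h8; omega
      · rw [h5] at h7; omega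

theorem ar_T144 : ∀ d ∈ Nat.divisors 280, d < 666 → (d % 11 = 1 → 23 ≤ d → d = 56) ∧ (d % 11 = 10 → 32 ≤ d → False) := by decide +kernel
theorem ar_T56 : ∀ d ∈ Nat.divisors 720, d < 666 → (d % 11 = 1 → 23 ≤ d → d = 45 ∨ d = 144) ∧ (d % 11 = 10 → 32 ≤ d → d = 120) := by decide +kernel
theorem ar_T12 : ∀ d ∈ Nat.divisors 3360, d < 666 → (d % 11 = 1 → 23 ≤ d → d = 56 ∨ d = 210) ∧
    (d % 11 = 10 → 32 ≤ d → d = 32 ∨ d = 120 ∨ d = 560) := by decide +kernel
theorem ar_Y144 : ∀ y ∈ Nat.divisors 280, y ≠ 225 := by decide +kernel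
theorem ar_Y56 : ∀ a ∈ Finset.range 5, ∀ b ∈ Finset.range 5, ∀ c ∈ Finset.range 5, a + b + c = 4 → ∀ y ∈ Nat.divisors 720,
    (1 + (45 * (a : ℤ) + 144 * b - 120 * c) = y → y % 11 = 5 → ¬ 27 ≤ y) ∧
    (1 + (45 * (a : ℤ) + 144 * b - 120 * c) = - y → y % 11 = 6 → ¬ 28 ≤ y) := by decide +kernel
theorem ar_Y12 : ∀ y ∈ Nat.divisors 3360, y % 2 = 1 → (y % 11 = 5 → ¬ 27 ≤ y) ∧ (y % 11 = 6 → 28 ≤ y → y = 105) := by decide +kernel
theorem ar_72 : ∀ d ∈ Nat.divisors 560, d < 666 → d ≠ 1 → d % 11 = 1 ∨ d % 11 = 10 → d % 2 = 0 := by decide +kernel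
theorem ar_6 : ∀ d ∈ Nat.divisors 6720, d < 666 → 22 ≤ d → d % 11 = 1 ∨ d % 11 = 10 → d % 2 = 0 := by decide +kernel

/-- inertial index five: common part -/
theorem case11_five (hG : Nat.card G = 443520) (P : Sylow 11 G) (hP : Nat.card (P : Subgroup G) = 11)
    (he : (centralizer ((P : Subgroup G) : Set G)).relIndex (normalizer ((P : Subgroup G) : Set G)) = 5)
    {c N : ℕ} (hC : Nat.card (centralizer ((P : Subgroup G) : Set G)) = 11 * c) (hc : 2 ∣ c) (hN : 443520 = 11 * c * N) (T : Finset (ℤ × ℕ))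
    (hT : ∀ d ∈ Nat.divisors N, d < 666 → (d % 11 = 1 → 23 ≤ d → ((1 : ℤ), d) ∈ T) ∧ (d % 11 = 10 → 32 ≤ d → ((-1 : ℤ), d) ∈ T)) :
    ∃ (f : ℤ × ℕ → ℕ) (s : ℤ) (y : ℕ), ∑ v ∈ T, (f v : ℤ) = 4 ∧ s * y = 1 + ∑ v ∈ T, (f v : ℤ) * (v.1 * v.2) ∧ y ∈ Nat.divisors N ∧
      ((s = 1 ∧ y % 11 = 5 ∧ 27 ≤ y) ∨ (s = -1 ∧ y % 11 = 6 ∧ 28 ≤ y)) := by
  classical
  have hna := nca hG
  obtain ⟨B⟩ := exists_pb P hP (e := 5) (t := 2) he (by norm_num) (by norm_num)
  have hc0 : 0 < 11 * c := by rw [← hC]; exact Nat.card_pos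
  have hN0 : N ≠ 0 := by rintro rfl; omega
  have hidx := index_cent (N := N) hc0 hC (by rw [hG, hN])
  have hdvd : ∀ χ : IrrCharacter G, deg χ ∣ (centralizer ((P : Subgroup G) : Set G)).index → deg χ ∈ Nat.divisors N := by
    intro χ hχ
    rw [hidx] at hχ
    exact Nat.mem_divisors.2 ⟨hχ, hN0⟩
  obtain ⟨a, ha, ho⟩ := exists_two hC hc
  obtain ⟨ψ, hψ⟩ := Finset.card_pos.1 (by rw [B.cardY]; norm_num : 0 < B.Y.card)
  have hmem : ∀ χ ∈ B.X.erase (triv G), (B.δ χ, deg χ) ∈ T := by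
    intro χ hχ
    obtain ⟨hχ1, hχ⟩ := Finset.mem_erase.1 hχ
    obtain ⟨k, hk⟩ := B.degX χ hχ
    have hm := deg_mod hk
    have h3 := hT _ (hdvd χ (B.dvdX χ hχ)) (lt666 hG χ)
    have h4 := boundX hna (by norm_num) hP hχ1 (B.δ_pm χ hχ) (fun c hc h => B.valX χ hχ c hc h) ha ho
    rcases B.δ_pm χ hχ with h1 | h1 <;> rw [h1] at hm h4 ⊢ <;> push_cast at hm
    · have := h4.1 rfl
      exact h3.1 (by omega) (by omega)
    · have := h4.2 rfl
      exact h3.2 (by omega) (by omega)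
  have hs1 := sum_by_type (B.X.erase (triv G)) T (fun χ => (B.δ χ, deg χ)) hmem (fun v => 1)
  have hs2 := sum_by_type (B.X.erase (triv G)) T (fun χ => (B.δ χ, deg χ)) hmem (fun v => v.1 * v.2)
  rw [Finset.sum_const, Finset.card_erase_of_mem B.tX, B.cardX] at hs1
  have hrel := B.rel ψ hψ 1 (by rw [orderOf_one]; norm_num)
  rw [← Finset.add_sum_erase _ _ B.tX, B.tδ] at hrel
  simp only [apply_one, deg_triv] at hrel
  have hrel' : B.s * deg ψ = 1 + ∑ χ ∈ B.X.erase (triv G), B.δ χ * deg χ := by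
    have : ((B.s * deg ψ : ℤ) : ℂ) = ((1 + ∑ χ ∈ B.X.erase (triv G), B.δ χ * deg χ : ℤ) : ℂ) := by
      push_cast; push_cast at hrel; rw [hrel]; ring
    exact_mod_cast this
  rw [hs2] at hrel'
  refine ⟨fun v => ((B.X.erase (triv G)).filter (fun χ => (B.δ χ, deg χ) = v)).card, B.s, deg ψ, ?_, hrel', hdvd ψ (B.dvdY ψ hψ), ?_⟩
  · simp only [mul_one] at hs1
    rw [← hs1]; norm_num
  · obtain ⟨k, hk⟩ := B.degY ψ hψ
    have hmod := deg_mod hk
    have h5 := boundY hna (by norm_num) hP B hψ (by norm_num) ha ho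
    rcases B.s_pm with hs | hs
    · left
      rw [hs] at hmod
      push_cast at hmod
      have := h5.1 hs
      exact ⟨hs, by omega, by omega⟩
    · right
      rw [hs] at hmod
      push_cast at hmod
      have := h5.2 hs
      exact ⟨hs, by omega, by omega⟩

theorem case11_144 (hG : Nat.card G = 443520) (P : Sylow 11 G) (hP : Nat.card (P : Subgroup G) = 11)
    (he : (centralizer ((P : Subgroup G) : Set G)).relIndex (normalizer ((P : Subgroup G) : Set G)) = 5)
    (hC : Nat.card (centralizer ((P : Subgroup G) : Set G)) = 11 * 144) : False := by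
  obtain ⟨f, s, y, h1, h2, h3, h4⟩ := case11_five hG P hP he hC (by norm_num) (N := 280) (by norm_num) {(1, 56)} (by
    intro d hd hl
    have := ar_T144 d hd hl
    exact ⟨fun h h' => by rw [this.1 h h']; decide, fun h h' => (this.2 h h').elim⟩)
  rw [Finset.sum_singleton] at h1 h2
  rw [h1] at h2
  have := ar_Y144 y h3
  rcases h4 with ⟨rfl, -⟩ | ⟨rfl, -⟩ <;> push_cast at h2 <;> omega

theorem case11_56 (hG : Nat.card G = 443520) (P : Sylow 11 G) (hP : Nat.card (P : Subgroup G) = 11)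
    (he : (centralizer ((P : Subgroup G) : Set G)).relIndex (normalizer ((P : Subgroup G) : Set G)) = 5)
    (hC : Nat.card (centralizer ((P : Subgroup G) : Set G)) = 11 * 56) : False := by
  obtain ⟨f, s, y, h1, h2, h3, h4⟩ := case11_five hG P hP he hC (by norm_num) (N := 720) (by norm_num) {(1, 45), (1, 144), (-1, 120)} (by
    intro d hd hl
    have := ar_T56 d hd hl
    exact ⟨fun h h' => by rcases this.1 h h' with h | h <;> rw [h] <;> decide, fun h h' => by rw [this.2 h h']; decide⟩)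
  rw [Finset.sum_insert (by decide), Finset.sum_insert (by decide), Finset.sum_singleton] at h1 h2
  have h5 := ar_Y56 (f (1, 45)) (Finset.mem_range.2 (by omega)) (f (1, 144)) (Finset.mem_range.2 (by omega)) (f (-1, 120)) (Finset.mem_range.2 (by omega))
    (by omega) y h3
  rcases h4 with ⟨rfl, h6, h7⟩ | ⟨rfl, h6, h7⟩
  · exact h5.1 (by push_cast at h2; linarith) h6 h7
  · exact h5.2 (by push_cast at h2; linarith) h6 h7

theorem case11_12 (hG : Nat.card G = 443520) (P : Sylow 11 G) (hP : Nat.card (P : Subgroup G) = 11)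
    (he : (centralizer ((P : Subgroup G) : Set G)).relIndex (normalizer ((P : Subgroup G) : Set G)) = 5)
    (hC : Nat.card (centralizer ((P : Subgroup G) : Set G)) = 11 * 12) : False := by
  obtain ⟨f, s, y, h1, h2, h3, h4⟩ := case11_five hG P hP he hC (by norm_num) (N := 3360) (by norm_num)
    {(1, 56), (1, 210), (-1, 32), (-1, 120), (-1, 560)} (by
    intro d hd hl
    have := ar_T12 d hd hl
    exact ⟨fun h h' => by rcases this.1 h h' with h | h <;> rw [h] <;> decide,
      fun h h' => by rcases this.2 h h' with h | h | h <;> rw [h] <;> decide⟩)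
  rw [Finset.sum_insert (by decide), Finset.sum_insert (by decide), Finset.sum_insert (by decide), Finset.sum_insert (by decide), Finset.sum_singleton] at h1 h2
  generalize f (1, 56) = a1 at h1 h2
  generalize f (1, 210) = a2 at h1 h2
  generalize f (-1, 32) = a3 at h1 h2
  generalize f (-1, 120) = a4 at h1 h2
  generalize f (-1, 560) = a5 at h1 h2
  push_cast at h2
  rcases h4 with ⟨rfl, h6, h7⟩ | ⟨rfl, h6, h7⟩
  · exact (ar_Y12 y h3 (by omega)).1 h6 h7
  · have := (ar_Y12 y h3 (by omega)).2 h6 h7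
    omega

/-- inertial index ten -/
theorem case11_ten (hG : Nat.card G = 443520) (P : Sylow 11 G) (hP : Nat.card (P : Subgroup G) = 11)
    (he : (centralizer ((P : Subgroup G) : Set G)).relIndex (normalizer ((P : Subgroup G) : Set G)) = 10)
    {c N : ℕ} (hC : Nat.card (centralizer ((P : Subgroup G) : Set G)) = 11 * c) (hc : 2 ∣ c) (hN : 443520 = 11 * c * N)
    (hT : ∀ d ∈ Nat.divisors N, d < 666 → 22 ≤ d → d % 11 = 1 ∨ d % 11 = 10 → d % 2 = 0) : False := by
  classical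
  have hna := nca hG
  obtain ⟨B⟩ := exists_pb1 P hP (by rw [he])
  have hc0 : 0 < 11 * c := by rw [← hC]; exact Nat.card_pos
  have hN0 : N ≠ 0 := by rintro rfl; omega
  have hidx := index_cent (N := N) hc0 hC (by rw [hG, hN])
  obtain ⟨a, ha, ho⟩ := exists_two hC hc
  have heven : ∀ χ ∈ B.X.erase (triv G), (2 : ℤ) ∣ B.δ χ * deg χ := by
    intro χ hχ
    obtain ⟨hχ1, hχ⟩ := Finset.mem_erase.1 hχ
    obtain ⟨k, hk⟩ := B.degX χ hχ
    have hm := deg_mod hk
    have h5 := B.dvdX χ hχ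
    rw [hidx] at h5
    have h3 := hT _ (Nat.mem_divisors.2 ⟨h5, hN0⟩) (lt666 hG χ)
    have h4 := boundX hna (by norm_num) hP hχ1 (B.δ_pm χ hχ) (fun c hc h => B.valX χ hχ c hc h) ha ho
    apply dvd_mul_of_dvd_right
    have : deg χ % 2 = 0 := by
      rcases B.δ_pm χ hχ with h1 | h1 <;> rw [h1] at hm h4 <;> push_cast at hm
      · have := h4.1 rfl
        exact h3 (by omega) (by omega)
      · have := h4.2 rfl
        exact h3 (by omega) (by omega)
    omega
  have h1 := B.rel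
  rw [← Finset.add_sum_erase _ _ B.tX, B.tδ, deg_triv] at h1
  have h2 := Finset.dvd_sum heven
  omega

end Cfsg.Agent.Lib.M22N
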