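import Mathlib
import Cfsg.Agent.Lib.M22R

/-!
# Simple groups of order 443520, part S: the Sylow 11-normalizer, conclusion (helper7)
-/

set_option autoImplicit false
set_option linter.all false

namespace Cfsg.Agent.Lib.M22N

open Subgroup Cfsg Cfsg.Agent.Lib.CharBasic Cfsg.Agent.Lib.ColTools Cfsg.Agent.Lib.SmallSimple
  Cfsg.Agent.Lib.PBlock Cfsg.Agent.Lib.QBlk
open Cfsg.Agent.Lib.M12ByOrder (deg_mod)
open scoped ComplexConjugate

universe u

variable {G : Type u} [Group G] [Finite G]

/-- normalizers of subgroups of the centralizer -/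
theorem conj_mem_cent {P : Subgroup G} {n : G} (hn : n ∈ normalizer (P : Set G)) {g : G} (hg : g ∈ centralizer (P : Set G)) :
    n * g * n⁻¹ ∈ centralizer (P : Set G) := by
  rw [mem_centralizer_iff]
  intro x hx
  have h1 : n⁻¹ * x * n ∈ P := by
    have := (mem_normalizer_iff.1 (inv_mem hn) x).1 hx
    rwa [inv_inv] at this
  have h2 := mem_centralizer_iff.1 hg _ h1
  calc x * (n * g * n⁻¹) = n * ((n⁻¹ * x * n) * g) * n⁻¹ := by group
    _ = n * (g * (n⁻¹ * x * n)) * n⁻¹ := by rw [h2]
    _ = n * g * n⁻¹ * x := by group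

theorem exists_W {P : Subgroup G} {q m : ℕ} [Fact q.Prime] (hC : Nat.card (centralizer (P : Set G)) = q * m) (hq : ¬ q ∣ m)
    (hQ1 : Nat.card (Sylow q (centralizer (P : Set G))) = 1) :
    ∃ W : Subgroup G, Nat.card W = q ∧ W ≤ centralizer (P : Set G) ∧ normalizer (P : Set G) ≤ normalizer (W : Set G) := by
  obtain ⟨Q⟩ : Nonempty (Sylow q (centralizer (P : Set G))) := inferInstance
  have hQ : Nat.card (Q : Subgroup (centralizer (P : Set G))) = q := by
    have := sylow_card_of (G := centralizer (P : Set G)) (p := q) (k := 1) (m := m) (by rw [hC, pow_one]) hq Q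
    simpa using this
  have hQn : (Q : Subgroup (centralizer (P : Set G))).Normal := normal_of_nsyl_eq_one hQ1 Q
  have hq0 : 0 < q := (Fact.out : q.Prime).pos
  have hQi : (Q : Subgroup (centralizer (P : Set G))).index = m := by
    have h1 := Subgroup.card_mul_index (Q : Subgroup (centralizer (P : Set G)))
    rw [hQ, hC] at h1
    exact Nat.eq_of_mul_eq_mul_left hq0 h1
  obtain ⟨W, hW⟩ : ∃ W : Subgroup G, W = (Q : Subgroup (centralizer (P : Set G))).map (centralizer (P : Set G)).subtype := ⟨_, rfl⟩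
  have hWmem : ∀ g : G, g ∈ W ↔ g ∈ centralizer (P : Set G) ∧ g ^ q = 1 := by
    intro g
    rw [hW]
    constructor
    · rintro ⟨y, hy, rfl⟩
      refine ⟨y.2, ?_⟩
      have h1 : y ^ Nat.card (Q : Subgroup (centralizer (P : Set G))) = 1 := by
        have := pow_card_eq_one' (x := (⟨y, hy⟩ : (Q : Subgroup (centralizer (P : Set G)))))
        exact congrArg Subtype.val this
      rw [hQ] at h1
      exact congrArg Subtype.val h1
    · rintro ⟨hg, h3⟩
      refine ⟨⟨g, hg⟩, ?_, rfl⟩
      apply mem_of_orderOf_coprime_index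
      rw [hQi]
      have h4 : orderOf (⟨g, hg⟩ : centralizer (P : Set G)) ∣ q := orderOf_dvd_of_pow_eq_one (Subtype.ext h3)
      exact Nat.Coprime.coprime_dvd_left h4 ((Nat.Prime.coprime_iff_not_dvd Fact.out).2 hq)
  refine ⟨W, ?_, fun g hg => ((hWmem g).1 hg).1, ?_⟩
  · rw [hW, Nat.card_congr ((Q : Subgroup (centralizer (P : Set G))).equivMapOfInjective _ (centralizer (P : Set G)).subtype_injective).symm.toEquiv, hQ]
  · intro n hn
    have key : ∀ m ∈ normalizer (P : Set G), ∀ g ∈ W, m * g * m⁻¹ ∈ W := by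
      intro m hm g hg
      obtain ⟨h1, h2⟩ := (hWmem g).1 hg
      exact (hWmem _).2 ⟨conj_mem_cent hm h1, by rw [conj_pow, h2, mul_one, mul_inv_cancel]⟩
    rw [mem_normalizer_iff]
    intro g
    refine ⟨key n hn g, fun hg => ?_⟩
    have h1 := key n⁻¹ (inv_mem hn) _ hg
    rwa [inv_inv, show n⁻¹ * (n * g * n⁻¹) * n = g by group] at h1

/-- the order of a subgroup containing the normalizer of a Sylow subgroup -/
theorem card_of_ge {p : ℕ} [Fact p.Prime] (P : Sylow p G) {M : Subgroup G} (hPM : (P : Subgroup G) ≤ M) :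
    ∃ n : ℕ, n % p = 1 ∧ Nat.card M = Nat.card ((normalizer ((P : Subgroup G) : Set G)).subgroupOf M) * n := by
  refine ⟨Nat.card (Sylow p M), nsyl_mod p M, ?_⟩
  have h1 := card_normalizer_mul_nsyl (P.subtype hPM)
  rw [← h1]
  congr 1
  have h2 : ((P.subtype hPM : Sylow p M) : Subgroup M) = (P : Subgroup G).subgroupOf M := rfl
  have h3 : normalizer (((P.subtype hPM : Sylow p M) : Subgroup M) : Set M) = (normalizer ((P : Subgroup G) : Set G)).subgroupOf M := by
    rw [h2]
    exact (Subgroup.subgroupOf_normalizer_eq hPM).symm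
  rw [h3]

theorem card_of_ge' {p : ℕ} [Fact p.Prime] (P : Sylow p G) {M : Subgroup G} (hNM : normalizer ((P : Subgroup G) : Set G) ≤ M) :
    ∃ n : ℕ, n % p = 1 ∧ Nat.card M = Nat.card (normalizer ((P : Subgroup G) : Set G)) * n := by
  obtain ⟨n, h1, h2⟩ := card_of_ge P (M := M) (le_trans le_normalizer hNM)
  exact ⟨n, h1, by rw [h2, Nat.card_congr (subgroupOfEquivOfLe hNM).toEquiv]⟩

theorem sylow_of_card {q : ℕ} [Fact q.Prime] (hsq : ¬ q ^ 2 ∣ Nat.card G) {W : Subgroup G} (hW : Nat.card W = q) :
    ∃ Q : Sylow q G, (Q : Subgroup G) = W := by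
  have hpg : IsPGroup q W := IsPGroup.of_card (n := 1) (by rw [hW, pow_one])
  obtain ⟨Q, hQ⟩ := hpg.exists_le_sylow
  have hW1 : W ≠ ⊥ := by
    rintro rfl
    rw [Subgroup.card_bot] at hW
    exact (Fact.out : q.Prime).one_lt.ne hW
  obtain ⟨x, hx⟩ := W.ne_bot_iff_exists_ne_one.1 hW1
  have hx1 : (x : G) ≠ 1 := fun h => hx (Subtype.ext h)
  have ho : orderOf (x : G) = q := by
    have h2 : orderOf (x : G) ∣ q := by
      rw [← hW, Subgroup.orderOf_coe]
      exact orderOf_dvd_natCard _
    rcases (Nat.dvd_prime Fact.out).1 h2 with h3 | h3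
    · exact absurd (orderOf_eq_one_iff.1 h3) hx1
    · exact h3
  obtain ⟨P, h1, h2, -⟩ := sylow_elt hsq (x : G) ho
  refine ⟨P, ?_⟩
  rw [h2]
  exact eq_of_le_of_card_ge (by rw [zpowers_le]; exact x.2) (by rw [hW, Nat.card_zpowers, ho])

instance fact7 : Fact (Nat.Prime 7) := ⟨by norm_num⟩

theorem ar_n28 : ∀ n ∈ Nat.divisors 144, n % 11 = 1 → n = 1 ∨ n = 12 ∨ n = 144 := by decide +kernel

variable [IsSimpleGroup G]

theorem case11_28 (hG : Nat.card G = 443520) (P : Sylow 11 G) (hP : Nat.card (P : Subgroup G) = 11)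
    (hN : Nat.card (normalizer ((P : Subgroup G) : Set G)) = 3080)
    (hC : Nat.card (centralizer ((P : Subgroup G) : Set G)) = 11 * 28) : False := by
  have hna := nca hG
  have hQ1 : Nat.card (Sylow 7 (centralizer ((P : Subgroup G) : Set G))) = 1 := by
    have h1 := nsyl_mem (G := centralizer ((P : Subgroup G) : Set G)) (p := 7) (k := 1) (m := 44) (by rw [hC]; norm_num) (by norm_num)
    have h2 : (Nat.divisors 44).filter (fun d => d % 7 = 1) = {1, 22} := by decide +kernel
    rw [h2] at h1
    simp only [Finset.mem_insert, Finset.mem_singleton] at h1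
    rcases h1 with h1 | h1
    · exact h1
    · exfalso
      obtain ⟨Q⟩ : Nonempty (Sylow 7 (centralizer ((P : Subgroup G) : Set G))) := inferInstance
      have h3 := card_normalizer_mul_nsyl Q
      rw [h1, hC] at h3
      have h4 : (P : Subgroup G).subgroupOf (centralizer ((P : Subgroup G) : Set G)) ≤
          normalizer ((Q : Subgroup (centralizer ((P : Subgroup G) : Set G))) : Set (centralizer ((P : Subgroup G) : Set G))) := by
        intro x hx
        have hx' : (x : G) ∈ (P : Subgroup G) := mem_subgroupOf.1 hx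
        have hcomm : ∀ y : centralizer ((P : Subgroup G) : Set G), x * y = y * x := by
          intro y
          apply Subtype.ext
          exact (mem_centralizer_iff.1 y.2 x hx')
        rw [mem_normalizer_iff]
        intro y
        rw [hcomm y, mul_inv_cancel_right]
      have h5 := card_dvd_of_le h4
      rw [Nat.card_congr (subgroupOfEquivOfLe (le_cent hP)).toEquiv, hP] at h5
      omega
  obtain ⟨W, hW1, hW2, hW3⟩ := exists_W (q := 7) (m := 44) (by rw [hC]) (by norm_num) hQ1
  obtain ⟨n, hn1, hn2⟩ := card_of_ge' P hW3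
  obtain ⟨Q, hQ⟩ := sylow_of_card (q := 7) (by rw [hG]; norm_num) hW1
  have h1 := card_normalizer_mul_nsyl Q
  rw [hQ, hn2, hN, hG] at h1
  have h2 := nsyl_mod 7 G
  have h3 := nsyl_ne_one hna (p := 7) (by rw [hG]; norm_num)
  have h4 : n * Nat.card (Sylow 7 G) = 144 := by
    have : 3080 * (n * Nat.card (Sylow 7 G)) = 3080 * 144 := by rw [← mul_assoc, h1]
    exact Nat.eq_of_mul_eq_mul_left (by norm_num) this
  rcases ar_n28 n (Nat.mem_divisors.2 ⟨⟨_, h4.symm⟩, by norm_num⟩) hn1 with h | h | h <;> rw [h] at h4 <;> omega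

/-- the Sylow 11-normalizer -/
theorem sylow11 (hG : Nat.card G = 443520) (P : Sylow 11 G) :
    Nat.card (normalizer ((P : Subgroup G) : Set G)) = 55 := by
  have hna := nca hG
  have hP : Nat.card (P : Subgroup G) = 11 := by
    have := sylow_card_of (G := G) (p := 11) (k := 1) (m := 40320) (by rw [hG]; norm_num) (by norm_num) P
    simpa using this
  have h := nsyl_mem (G := G) (p := 11) (k := 1) (m := 40320) (by rw [hG]; norm_num) (by norm_num)
  have h2 : (Nat.divisors 40320).filter (fun d => d % 11 = 1) = {1, 12, 45, 56, 144, 210, 320, 672, 2520, 8064} := by decide +kernel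
  rw [h2] at h
  simp only [Finset.mem_insert, Finset.mem_singleton] at h
  have hN := card_normalizer_mul_nsyl P
  obtain ⟨h3, h4, h5⟩ := index_mul P hP
  obtain ⟨e, c, h6, h7, h8, h9⟩ := nc_data hna P hP
  have hrel : (centralizer ((P : Subgroup G) : Set G)).relIndex (normalizer ((P : Subgroup G) : Set G)) = e := by
    have h10 : Nat.card (Sylow 11 G) * ((centralizer ((P : Subgroup G) : Set G)).relIndex (normalizer ((P : Subgroup G) : Set G)) * (11 * c)) =
      Nat.card (Sylow 11 G) * (e * (11 * c)) := by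
      rw [← h6, ← h7, h3, ← hN, mul_comm]
    have h11 : 0 < Nat.card (Sylow 11 G) := Nat.card_pos
    have h12 : 0 < 11 * c := by rw [← h7]; exact Nat.card_pos
    exact Nat.eq_of_mul_eq_mul_right h12 (Nat.eq_of_mul_eq_mul_left h11 h10)
  have hne1 := nsyl_ne_one hna (p := 11) (by rw [hG]; norm_num)
  rw [h6, hG] at hN
  have he : e = 2 ∨ e = 5 ∨ e = 10 := by
    have h10 : ∀ d ∈ Nat.divisors 10, d ≠ 1 → d = 2 ∨ d = 5 ∨ d = 10 := by decide +kernel
    exact h10 e (Nat.mem_divisors.2 ⟨h8, by norm_num⟩) h9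
  have h12 : Nat.card (Sylow 11 G) ≠ 12 := by
    intro h10
    have h11 := normalizer_dvd_of_nsyl hna (p := 11) (by norm_num) h10 (by rw [hG]; norm_num) P
    have := Nat.le_of_dvd (by norm_num) h11
    rw [h6] at this
    rw [h10] at hN
    omega
  have hecn : e * c * Nat.card (Sylow 11 G) = 40320 := by
    have : 11 * (e * c * Nat.card (Sylow 11 G)) = 11 * 40320 := by
      rw [← hN.trans (by norm_num : 443520 = 11 * 40320)]; ring
    exact Nat.eq_of_mul_eq_mul_left (by norm_num) this
  rcases he with rfl | rfl | rfl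
  · exfalso
    refine case11_two hG P hP hrel h7 ?_
    rcases h with h | h | h | h | h | h | h | h | h | h
    · exact absurd h hne1
    · exact absurd h h12
    all_goals rw [h] at hecn; omega
  · have hc12 : c = 144 ∨ c = 56 ∨ c = 12 ∨ c = 1 := by
      rcases h with h | h | h | h | h | h | h | h | h | h
      · exact absurd h hne1
      · exact absurd h h12
      all_goals rw [h] at hecn; omega
    rcases hc12 with rfl | rfl | rfl | rfl
    · exact (case11_144 hG P hP hrel h7).elim
    · exact (case11_56 hG P hP hrel h7).elim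
    · exact (case11_12 hG P hP hrel h7).elim
    · rw [h6]
  · exfalso
    have hc6 : c = 72 ∨ c = 28 ∨ c = 6 := by
      rcases h with h | h | h | h | h | h | h | h | h | h
      · exact absurd h hne1
      · exact absurd h h12
      all_goals rw [h] at hecn; omega
    rcases hc6 with rfl | rfl | rfl
    · exact case11_ten hG P hP hrel h7 (by norm_num) (N := 560) (by norm_num) (fun d hd hl h => ar_72 d hd hl (by omega))
    · exact case11_28 hG P hP (by rw [h6]) h7
    · exact case11_ten hG P hP hrel h7 (by norm_num) (N := 6720) (by norm_num) (fun d hd hl h => ar_6 d hd hl h)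

theorem elt11 (hG : Nat.card G = 443520) (x : G) (hx : orderOf x = 11) : Nat.card (normalizer (zpowers x : Set G)) = 55 := by
  obtain ⟨P, h1, h2, -⟩ := sylow_elt (by rw [hG]; norm_num) x hx
  rw [← h2]
  exact sylow11 hG P

end Cfsg.Agent.Lib.M22N
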