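import Mathlib
import Cfsg.Agent.Lib.M22S
import Cfsg.Agent.Lib.BlockGA

/-!
# Orbit sums and congruences for character values at involutions (helper7)
-/

set_option autoImplicit false
set_option linter.all false

namespace Cfsg.Agent.Lib.M22N

open Subgroup Cfsg Cfsg.Agent.Lib.CharBasic Cfsg.Agent.Lib.ColTools Cfsg.Agent.Lib.SmallSimple
  Cfsg.Agent.Lib.PBlock Cfsg.Agent.Lib.QBlk
open scoped ComplexConjugate Classical

universe u v

theorem sum_orbits_aux {P : Type u} {X : Type v} [Group P] [Finite P] [MulAction P X] [Fintype X] (F : X → ℂ)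
    (hF : ∀ (g : P) (x : X), F (g • x) = F x) :
    ∑ x, F x = ∑ ω : Quotient (MulAction.orbitRel P X), (Nat.card (MulAction.orbit P ω.out) : ℂ) * F ω.out := by
  have := Fintype.ofFinite P
  rw [← (MulAction.selfEquivSigmaOrbits P X).symm.sum_comp, Fintype.sum_sigma]
  refine Finset.sum_congr rfl fun ω _ => ?_
  rw [Finset.sum_congr rfl (g := fun _ => F ω.out), Finset.sum_const, Finset.card_univ, nsmul_eq_mul, Nat.card_eq_fintype_card]
  intro y _
  obtain ⟨y, g, rfl⟩ := y
  exact hF g ω.out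

theorem sum_orbits {P : Type u} {X : Type v} [Group P] [Finite P] [MulAction P X] [Fintype X] {p : ℕ} [hp : Fact p.Prime]
    (hP : Nat.card P = p) (F : X → ℂ) (hF : ∀ (g : P) (x : X), F (g • x) = F x) (hint : ∀ x, IsIntegral ℤ (F x)) :
    ∃ S : ℂ, IsIntegral ℤ S ∧ ∑ x, F x = (∑ x, if (∀ g : P, g • x = x) then F x else 0) + p * S := by
  obtain ⟨H, hH⟩ : ∃ H : X → ℂ, ∀ x, H x = if (∀ g : P, g • x = x) then 0 else F x := ⟨_, fun x => rfl⟩
  have hfix : ∀ (g : P) (x : X), (∀ h : P, h • (g • x) = g • x) ↔ (∀ h : P, h • x = x) := by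
    intro g x
    constructor
    · intro h k
      have h1 := h g⁻¹
      rw [inv_smul_smul] at h1
      have h2 := h k
      rwa [← h1] at h2
    · intro h k
      rw [h g, h k]
  have hHinv : ∀ (g : P) (x : X), H (g • x) = H x := by
    intro g x
    rw [hH, hH, hF]
    simp only [hfix]
  refine ⟨∑ ω : Quotient (MulAction.orbitRel P X), H ω.out, IsIntegral.sum _ fun ω _ => ?_, ?_⟩
  · rw [hH]
    split_ifs
    · exact isIntegral_zero
    · exact hint _
  · have h1 := sum_orbits_aux H hHinv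
    have h2 : ∑ x, F x = (∑ x, if (∀ g : P, g • x = x) then F x else 0) + ∑ x, H x := by
      rw [← Finset.sum_add_distrib]
      refine Finset.sum_congr rfl fun x _ => ?_
      rw [hH]
      split_ifs
      · rw [add_zero]
      · rw [zero_add]
    rw [h2, h1, Finset.mul_sum]
    congr 1
    refine Finset.sum_congr rfl fun ω _ => ?_
    by_cases h3 : ∀ g : P, g • ω.out = ω.out
    · rw [hH, if_pos h3, mul_zero, mul_zero]
    · have h4 : Nat.card (MulAction.orbit P ω.out) = p := by
        have h5 : Nat.card (MulAction.orbit P ω.out) ∣ p := by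
          rw [← hP, Nat.card_coe_set_eq, ← MulAction.index_stabilizer]
          exact Subgroup.index_dvd_card _
        rcases (Nat.dvd_prime hp.out).1 h5 with h6 | h6
        · exfalso
          apply h3
          intro g
          rw [Nat.card_eq_one_iff_unique] at h6
          have h7 := h6.1.elim ⟨g • ω.out, MulAction.mem_orbit _ _⟩ ⟨ω.out, MulAction.mem_orbit_self _⟩
          exact congrArg Subtype.val h7
        · exact h6
      rw [h4]


variable {G : Type u} [Group G] [Finite G]

theorem class_mul [Fintype G] {χ : G → ℂ} (hχ : IsIrrCharacter G χ) (x y : G) :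
    ∑ z : G, (if IsConj x z then χ (z * y) else 0) = centralChar χ x * χ y := by
  have h1 := BlockGA.lin_mul_single hχ (BlockGA.classSum_mem_center x) y
  rw [BlockGA.omega_classSum hχ.isClassFunction] at h1
  rw [← h1, BlockGA.eq_sum_single (BlockGA.classSum x), Finset.sum_mul, BlockGA.lin_sum]
  refine Finset.sum_congr rfl fun z _ => ?_
  rw [MonoidAlgebra.single_mul_single, BlockGA.lin_single, mul_one, BlockGA.coeff_classSum]
  split_ifs
  · rw [one_mul]
  · rw [zero_mul]

theorem class_congr {p : ℕ} [hp : Fact p.Prime] {P : Subgroup G} (hP : Nat.card P = p) [Fintype G] {χ : G → ℂ} (hχ : IsIrrCharacter G χ)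
    {z : G} (hz : z ∈ centralizer (P : Set G)) :
    ∃ S : ℂ, IsIntegral ℤ S ∧ centralChar χ z * χ z =
      (∑ a : G, if a ∈ centralizer (P : Set G) ∧ IsConj z a then χ (a * z) else 0) + p * S := by
  letI : MulAction P G :=
    { smul := fun h x => (h : G) * x * (h : G)⁻¹
      one_smul := fun x => by show ((1 : P) : G) * x * ((1 : P) : G)⁻¹ = x; simp
      mul_smul := fun a b x => by
        show ((a * b : P) : G) * x * ((a * b : P) : G)⁻¹ = (a : G) * ((b : G) * x * (b : G)⁻¹) * (a : G)⁻¹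
        push_cast; group }
  have hsm : ∀ (h : P) (x : G), h • x = (h : G) * x * (h : G)⁻¹ := fun _ _ => rfl
  obtain ⟨S, h1, h2⟩ := sum_orbits hP (fun x : G => if IsConj z x then χ (x * z) else 0) (by
    intro h x
    have e1 : IsConj z (h • x) ↔ IsConj z x := by
      rw [hsm]
      constructor
      · intro h'; exact h'.trans (isConj_iff.2 ⟨(h : G)⁻¹, by group⟩)
      · intro h'; exact h'.trans (isConj_iff.2 ⟨(h : G), rfl⟩)
    have e2 : χ (h • x * z) = χ (x * z) := by
      have hc : (h : G) * z = z * h := mem_centralizer_iff.1 hz h h.2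
      have : h • x * z = (h : G) * (x * z) * (h : G)⁻¹ := by
        rw [hsm]
        calc (h : G) * x * (h : G)⁻¹ * z = (h : G) * x * ((h : G)⁻¹ * z * (h : G)) * (h : G)⁻¹ := by group
          _ = (h : G) * x * ((h : G)⁻¹ * ((h : G) * z)) * (h : G)⁻¹ := by rw [mul_assoc (h : G)⁻¹ z, ← hc]
          _ = (h : G) * (x * z) * (h : G)⁻¹ := by group
      rw [this]; exact hχ.isClassFunction _ _
    simp only [e1, e2]) (by
    intro x
    split_ifs
    · obtain ⟨m, ρ, hρ⟩ := hχ.isCharacter
      rw [← hρ]; exact CharValues.isIntegral_character ρ _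
    · exact isIntegral_zero)
  refine ⟨S, h1, ?_⟩
  rw [← class_mul hχ, h2]
  congr 1
  refine Finset.sum_congr rfl fun x _ => ?_
  have e : (∀ g : P, g • x = x) ↔ x ∈ centralizer (P : Set G) := by
    rw [mem_centralizer_iff]
    constructor
    · intro h g hg
      have := h ⟨g, hg⟩
      rw [hsm] at this
      have h3 : g * x * g⁻¹ = x := this
      rw [mul_inv_eq_iff_eq_mul] at h3
      exact h3
    · intro h g
      rw [hsm, h g g.2, mul_inv_cancel_right]
  by_cases h3 : x ∈ centralizer (P : Set G)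
  · rw [if_pos (e.2 h3)]
    by_cases h4 : IsConj z x
    · rw [if_pos h4, if_pos ⟨h3, h4⟩]
    · rw [if_neg h4, if_neg (fun h => h4 h.2)]
  · rw [if_neg (fun h => h3 (e.1 h)), if_neg (fun h => h3 h.1)]

theorem to_dvd {p : ℕ} [hp : Fact p.Prime] {d v T : ℤ} {I : ℕ} (hd : d ≠ 0) {S : ℂ} (hS : IsIntegral ℤ S)
    (h : (I : ℂ) * v / d * v = T + p * S) : (p : ℤ) ∣ I * v ^ 2 - d * T := by
  have hp0 : (p : ℂ) ≠ 0 := by exact_mod_cast hp.out.ne_zero
  have hd0 : (d : ℂ) ≠ 0 := by exact_mod_cast hd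
  have h1 : (d : ℂ) * S = ((((I * v ^ 2 - d * T : ℤ) : ℚ) / p : ℚ) : ℂ) := by
    push_cast
    rw [eq_div_iff hp0]
    field_simp at h
    linear_combination -h
  obtain ⟨z, hz⟩ := CharCentral.exists_int_of_isIntegral_rat ((isIntegral_algebraMap (R := ℤ) (x := d)).mul hS) _ (by
    rw [← h1]; simp)
  refine ⟨z, ?_⟩
  have h2 : (d : ℂ) * S = z := by
    rw [← hz]; simp
  have : ((I * v ^ 2 - d * T : ℤ) : ℂ) = ((p * z : ℤ) : ℂ) := by
    push_cast
    rw [← h2]
    field_simp at h
    linear_combination h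
  exact_mod_cast this

theorem apply_isConj (χ : IrrCharacter G) {a b : G} (h : IsConj a b) : (χ : G → ℂ) b = (χ : G → ℂ) a := by
  obtain ⟨c, hc⟩ := isConj_iff.1 h
  rw [← hc]; exact χ.2.isClassFunction _ _

/-- the congruence for an involution which is alone in its class inside `C(P)` -/
theorem congrS {p : ℕ} [hp : Fact p.Prime] {P : Subgroup G} (hP : Nat.card P = p) (χ : IrrCharacter G)
    {z : G} (hz : z ∈ centralizer (P : Set G)) (hz2 : z ^ 2 = 1) (hf : ∀ a ∈ centralizer (P : Set G), IsConj z a → a = z)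
    {v : ℤ} (hv : (χ : G → ℂ) z = v) :
    (p : ℤ) ∣ (centralizer ({z} : Set G)).index * v ^ 2 - deg χ * deg χ := by
  have := Fintype.ofFinite G
  obtain ⟨S, h1, h2⟩ := class_congr hP χ.2 hz
  have h3 : (∑ a : G, if a ∈ centralizer (P : Set G) ∧ IsConj z a then (χ : G → ℂ) (a * z) else 0) = ((deg χ : ℤ) : ℂ) := by
    rw [Finset.sum_eq_single z]
    · rw [if_pos ⟨hz, IsConj.refl z⟩, ← pow_two, hz2, apply_one]; simp
    · intro a _ ha
      rw [if_neg (fun h => ha (hf a h.1 h.2))]
    · intro h; exact absurd (Finset.mem_univ _) h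
  rw [h3, centralChar, hv, apply_one] at h2
  refine to_dvd (d := deg χ) (T := deg χ) (by exact_mod_cast (deg_pos χ).ne') h1 ?_
  rw [← h2]; push_cast; ring

/-- the congruence for a class meeting `C(P)` in the involutions of a four-group -/
theorem congrV {p : ℕ} [hp : Fact p.Prime] {P : Subgroup G} (hP : Nat.card P = p) (χ : IrrCharacter G)
    {z z1 : G} (hz : z ∈ centralizer (P : Set G)) (hz1 : z1 ∈ centralizer (P : Set G)) (hz2 : z ^ 2 = 1) (hc : z1 * z = z * z1) (hz12 : z1 ^ 2 = 1)
    (hne : z1 ≠ z) (hne1 : z ≠ 1) (hne2 : z1 ≠ 1)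
    (hf : ∀ a ∈ centralizer (P : Set G), IsConj z a → a = z ∨ a = z1 ∨ a = z1 * z) (hc1 : IsConj z z1) (hc2 : IsConj z (z1 * z))
    {v : ℤ} (hv : (χ : G → ℂ) z = v) :
    (p : ℤ) ∣ (centralizer ({z} : Set G)).index * v ^ 2 - deg χ * (deg χ + 2 * v) := by
  have := Fintype.ofFinite G
  obtain ⟨S, h1, h2⟩ := class_congr hP χ.2 hz
  have v1 : (χ : G → ℂ) z1 = v := by rw [← hv]; exact apply_isConj χ hc1
  have v2 : (χ : G → ℂ) (z1 * z) = v := by rw [← hv]; exact apply_isConj χ hc2
  have hzz : z * z = 1 := by rw [← pow_two, hz2]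
  have hm : z1 * z * z = z1 := by rw [mul_assoc, hzz, mul_one]
  have h3 : (∑ a : G, if a ∈ centralizer (P : Set G) ∧ IsConj z a then (χ : G → ℂ) (a * z) else 0) = ((deg χ + 2 * v : ℤ) : ℂ) := by
    rw [← Finset.sum_subset (Finset.subset_univ ({z, z1, z1 * z} : Finset G))]
    · rw [Finset.sum_insert, Finset.sum_insert, Finset.sum_singleton, if_pos ⟨hz, IsConj.refl z⟩, if_pos ⟨hz1, hc1⟩,
        if_pos ⟨Subgroup.mul_mem _ hz1 hz, hc2⟩, hzz, hm, apply_one, v1, v2]
      · push_cast; ring
      · rw [Finset.mem_singleton]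
        intro h
        exact hne1 (by simpa using h)
      · simp only [Finset.mem_insert, Finset.mem_singleton, not_or]
        refine ⟨hne.symm, fun h => hne2 ?_⟩
        simpa using h
    · intro a _ ha
      rw [if_neg]
      rintro ⟨h4, h5⟩
      apply ha
      simp only [Finset.mem_insert, Finset.mem_singleton]
      exact hf a h4 h5
  rw [h3, centralChar, hv, apply_one] at h2
  refine to_dvd (d := deg χ) (T := deg χ + 2 * v) (by exact_mod_cast (deg_pos χ).ne') h1 ?_
  rw [← h2]; push_cast; ring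

end Cfsg.Agent.Lib.M22N
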