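import Mathlib
import Cfsg.Agent.Lib.M22T

/-!
# Simple groups of order 443520, part U: the Sylow 7-normalizer, degrees (helper7)
-/

set_option autoImplicit false
set_option linter.all false

namespace Cfsg.Agent.Lib.M22N

open Subgroup Cfsg Cfsg.Agent.Lib.CharBasic Cfsg.Agent.Lib.ColTools Cfsg.Agent.Lib.SmallSimple
  Cfsg.Agent.Lib.PBlock Cfsg.Agent.Lib.QBlk
open Cfsg.Agent.Lib.M12ByOrder (deg_mod)
open scoped ComplexConjugate

universe u

variable {G : Type u} [Group G] [Finite G] [IsSimpleGroup G]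

/-- the possible degrees, from the prime 11 -/
def AD1 : List ℕ := [1, 5, 6, 10, 11, 12, 16, 21, 22, 28, 32, 33, 44, 45, 55, 56, 60, 66, 72, 77, 88, 99, 105, 110, 120, 126, 132, 144, 154,
  160, 165, 176, 192, 198, 210, 220, 231, 252, 264, 280, 308, 320, 330, 336, 352, 384, 385, 396, 440, 462, 495, 528, 560, 616, 660]

theorem ar_AD1 : ∀ d ∈ List.range 666, d ∣ 443520 → d % 11 ∈ [0, 1, 10, 5, 6] → d ∈ AD1 := by decide +kernel

theorem c11' (hG : Nat.card G = 443520) {x : G} (hx : orderOf x = 11) : Nat.card (centralizer ({x} : Set G)) = 11 :=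
  cent_of_N (nca hG) (q := 5) (by norm_num) (by rw [hG]; norm_num) x hx (elt11 hG x hx)

theorem qb11' (hG : Nat.card G = 443520) {x : G} (hx : orderOf x = 11) : ∃ A m Y a, QB 11 4 x A m Y a :=
  exists_qb (by norm_num) (by norm_num) (by norm_num) (by rw [hG]; norm_num) x hx (c11' hG hx) (elt11 hG x hx)

theorem exists_elt' (hG : Nat.card G = 443520) {p : ℕ} (hp : p.Prime) (h : p ∣ 443520) : ∃ x : G, orderOf x = p := by
  have : Fact p.Prime := ⟨hp⟩
  exact exists_prime_orderOf_dvd_card' (G := G) p (by rw [hG]; exact h)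

theorem memAD1 (hG : Nat.card G = 443520) (χ : IrrCharacter G) : deg χ ∈ AD1 := by
  obtain ⟨x, hx⟩ := exists_elt' hG (p := 11) (by norm_num) (by norm_num)
  obtain ⟨A, m, Y, a, b⟩ := qb11' hG hx
  refine ar_AD1 _ (List.mem_range.2 (lt666 hG χ)) (by rw [← hG]; exact deg_dvd χ) ?_
  simp only [List.mem_cons, List.not_mem_nil, or_false]
  rcases QB.ty b χ with h | ⟨s, hs⟩ | ⟨s, hs⟩ | ⟨s, hs⟩ | ⟨s, hs⟩ <;> omega

theorem ar7_2 : ∀ d ∈ AD1, ∀ y ∈ AD1, (d % 7 = 1 → d ≠ 1 → y ≠ d + 1) ∧ (d % 7 = 6 → y + 1 = d → d = 6) := by decide +kernel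

/-- inertial index two does not occur -/
theorem case7_two (hG : Nat.card G = 443520) (P : Sylow 7 G) (hP : Nat.card (P : Subgroup G) = 7)
    (he : (centralizer ((P : Subgroup G) : Set G)).relIndex (normalizer ((P : Subgroup G) : Set G)) = 2) :
    Nat.card (centralizer ((P : Subgroup G) : Set G)) = 7 := by
  classical
  have hna := nca hG
  obtain ⟨B⟩ := exists_pb P hP (e := 2) (t := 3) he (by norm_num) (by norm_num)
  obtain ⟨χ, hχ, hχ1⟩ := Finset.exists_mem_ne (by rw [B.cardX]; norm_num : 1 < B.X.card) (triv G)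
  obtain ⟨ψ, hψ⟩ := Finset.card_pos.1 (by rw [B.cardY]; norm_num : 0 < B.Y.card)
  have hX : B.X = {triv G, χ} := by
    symm
    apply Finset.eq_of_subset_of_card_le
    · intro a ha
      rcases Finset.mem_insert.1 ha with rfl | ha
      · exact B.tX
      · rw [Finset.mem_singleton.1 ha]; exact hχ
    · rw [B.cardX, Finset.card_pair hχ1.symm]
  have hrel := B.rel ψ hψ 1 (by rw [orderOf_one]; norm_num)
  rw [hX, Finset.sum_pair hχ1.symm, B.tδ, apply_one, apply_one, apply_one, deg_triv] at hrel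
  have hrel' : B.s * deg ψ = 1 + B.δ χ * deg χ := by
    have : ((B.s * deg ψ : ℤ) : ℂ) = ((1 + B.δ χ * deg χ : ℤ) : ℂ) := by push_cast; push_cast at hrel; rw [hrel]; ring
    exact_mod_cast this
  have hd1 : deg χ ≠ 1 := fun h => hχ1 (eq_triv_of_deg_one hna h)
  obtain ⟨k, hk⟩ := B.degX χ hχ
  have hm := deg_mod hk
  have h4 := ar7_2 _ (memAD1 hG χ) _ (memAD1 hG ψ)
  have hp1 := deg_pos χ
  have hp2 := deg_pos ψ
  rcases B.δ_pm χ hχ with h1 | h1 <;> rcases B.s_pm with h2 | h2 <;> rw [h1] at hrel' hm <;> rw [h2] at hrel' <;> push_cast at hm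
  · exact absurd (by omega) (h4.1 (by omega) hd1)
  · omega
  · omega
  · have h5 := h4.2 (by omega) (by omega)
    exact cent_of_X hna hP (by rw [hG]; norm_num) hχ1 (fun c hc h => by rw [B.valX χ hχ c hc h, h1]; norm_num) (by rw [h5])

def L7 (N : ℕ) : List ℕ := AD1.filter fun d => N % d == 0 && (d != 6 && (d != 1 && (d % 7 == 1 || d % 7 == 6)))
def M7 (N : ℕ) : List ℕ := AD1.filter fun d => N % d == 0
def sg7 (d : ℕ) : ℤ := if d % 7 = 1 then 1 else -1

theorem ar7_3 : ∀ N ∈ [24, 45, 66, 192, 360, 528, 2880, 4224], ∀ a ∈ L7 N, ∀ b ∈ L7 N, ∀ y ∈ M7 N,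
    1 + (sg7 a * a + sg7 b * b) ≠ y ∧ 1 + (sg7 a * a + sg7 b * b) ≠ - y := by decide +kernel

theorem ar7_6a : ∀ N ∈ [48, 90, 132, 1056, 1980], ∀ a ∈ L7 N, a % 11 = 0 := by decide +kernel
theorem ar7_6b : ∀ N ∈ [384, 720, 5760], ∀ a ∈ L7 N, a % 2 = 0 := by decide +kernel

theorem mem_L7 {N d : ℕ} (h1 : d ∈ AD1) (h2 : d ∣ N) (h3 : d ≠ 6) (h4 : d ≠ 1) (h5 : d % 7 = 1 ∨ d % 7 = 6) : d ∈ L7 N := by
  rw [L7, List.mem_filter]
  refine ⟨h1, ?_⟩
  simp only [Nat.mod_eq_zero_of_dvd h2, Bool.and_eq_true, Bool.or_eq_true, beq_iff_eq, bne_iff_ne, ne_eq]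
  exact ⟨trivial, h3, h4, h5⟩

theorem mem_M7 {N d : ℕ} (h1 : d ∈ AD1) (h2 : d ∣ N) : d ∈ M7 N := by
  rw [M7, List.mem_filter]
  refine ⟨h1, ?_⟩
  simp only [Nat.mod_eq_zero_of_dvd h2, beq_iff_eq]

theorem case7_three (hG : Nat.card G = 443520) (P : Sylow 7 G) (hP : Nat.card (P : Subgroup G) = 7)
    (he : (centralizer ((P : Subgroup G) : Set G)).relIndex (normalizer ((P : Subgroup G) : Set G)) = 3)
    {c N : ℕ} (hC : Nat.card (centralizer ((P : Subgroup G) : Set G)) = 7 * c) (hc : c ≠ 1) (hN : 443520 = 7 * c * N)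
    (hNm : N ∈ [24, 45, 66, 192, 360, 528, 2880, 4224]) : False := by
  classical
  have hna := nca hG
  obtain ⟨B⟩ := exists_pb P hP (e := 3) (t := 2) he (by norm_num) (by norm_num)
  have hc0 : 0 < 7 * c := by rw [← hC]; exact Nat.card_pos
  have hidx := index_cent (N := N) hc0 hC (by rw [hG, hN])
  obtain ⟨ψ, hψ⟩ := Finset.card_pos.1 (by rw [B.cardY]; norm_num : 0 < B.Y.card)
  have key : ∀ χ ∈ B.X.erase (triv G), deg χ ∈ L7 N ∧ B.δ χ = sg7 (deg χ) := by
    intro χ hχ
    obtain ⟨hχ1, hχ⟩ := Finset.mem_erase.1 hχ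
    obtain ⟨k, hk⟩ := B.degX χ hχ
    have hm := deg_mod hk
    have h5 := B.dvdX χ hχ
    rw [hidx] at h5
    have hd1 : deg χ ≠ 1 := fun h => hχ1 (eq_triv_of_deg_one hna h)
    have h6 : deg χ ≠ 6 := by
      intro h6
      rcases B.δ_pm χ hχ with h1 | h1
      · rw [h1, h6] at hm; norm_num at hm
      · have := cent_of_X hna hP (by rw [hG]; norm_num) hχ1 (fun c hc h => by rw [B.valX χ hχ c hc h, h1]; norm_num) (by rw [h6])
        rw [hC] at this; omega
    have h7 : (B.δ χ = 1 ∧ deg χ % 7 = 1) ∨ (B.δ χ = -1 ∧ deg χ % 7 = 6) := by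
      rcases B.δ_pm χ hχ with h1 | h1 <;> rw [h1] at hm <;> push_cast at hm
      · left; exact ⟨h1, by omega⟩
      · right; exact ⟨h1, by omega⟩
    refine ⟨mem_L7 (memAD1 hG χ) h5 h6 hd1 (by rcases h7 with h | h <;> [left; right] <;> exact h.2), ?_⟩
    rw [sg7]
    rcases h7 with h | h
    · rw [if_pos h.2, h.1]
    · rw [if_neg (by omega), h.1]
  have hcard : (B.X.erase (triv G)).card = 2 := by rw [Finset.card_erase_of_mem B.tX, B.cardX]
  obtain ⟨χ, χ', hne, hX⟩ := Finset.card_eq_two.1 hcard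
  have k1 := key χ (by rw [hX]; simp)
  have k2 := key χ' (by rw [hX]; simp)
  have hrel := B.rel ψ hψ 1 (by rw [orderOf_one]; norm_num)
  rw [← Finset.add_sum_erase _ _ B.tX, B.tδ, hX, Finset.sum_pair hne] at hrel
  simp only [apply_one, deg_triv] at hrel
  have hrel' : B.s * deg ψ = 1 + (sg7 (deg χ) * deg χ + sg7 (deg χ') * deg χ') := by
    rw [← k1.2, ← k2.2]
    have : ((B.s * deg ψ : ℤ) : ℂ) = ((1 + (B.δ χ * deg χ + B.δ χ' * deg χ') : ℤ) : ℂ) := by
      push_cast; push_cast at hrel; rw [hrel]; ring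
    exact_mod_cast this
  have h8 := B.dvdY ψ hψ
  rw [hidx] at h8
  have := ar7_3 N hNm _ k1.1 _ k2.1 _ (mem_M7 (memAD1 hG ψ) h8)
  rcases B.s_pm with hs | hs <;> rw [hs] at hrel'
  · exact this.1 (by rw [← hrel']; ring)
  · exact this.2 (by rw [← hrel']; ring)

theorem case7_six (hG : Nat.card G = 443520) (P : Sylow 7 G) (hP : Nat.card (P : Subgroup G) = 7)
    (he : (centralizer ((P : Subgroup G) : Set G)).relIndex (normalizer ((P : Subgroup G) : Set G)) = 6)
    {c N : ℕ} (hC : Nat.card (centralizer ((P : Subgroup G) : Set G)) = 7 * c) (hc : c ≠ 1) (hN : 443520 = 7 * c * N)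
    (hq : (∀ a ∈ L7 N, a % 11 = 0) ∨ (∀ a ∈ L7 N, a % 2 = 0)) : False := by
  classical
  have hna := nca hG
  obtain ⟨B⟩ := exists_pb1 P hP (by rw [he])
  have hc0 : 0 < 7 * c := by rw [← hC]; exact Nat.card_pos
  have hidx := index_cent (N := N) hc0 hC (by rw [hG, hN])
  have key : ∀ χ ∈ B.X.erase (triv G), deg χ ∈ L7 N := by
    intro χ hχ
    obtain ⟨hχ1, hχ⟩ := Finset.mem_erase.1 hχ
    obtain ⟨k, hk⟩ := B.degX χ hχ
    have hm := deg_mod hk
    have h5 := B.dvdX χ hχ
    rw [hidx] at h5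
    have hd1 : deg χ ≠ 1 := fun h => hχ1 (eq_triv_of_deg_one hna h)
    have h6 : deg χ ≠ 6 := by
      intro h6
      rcases B.δ_pm χ hχ with h1 | h1
      · rw [h1, h6] at hm; norm_num at hm
      · have := cent_of_X hna hP (by rw [hG]; norm_num) hχ1 (fun c hc h => by rw [B.valX χ hχ c hc h, h1]; norm_num) (by rw [h6])
        rw [hC] at this; omega
    have h7 : (B.δ χ = 1 ∧ deg χ % 7 = 1) ∨ (B.δ χ = -1 ∧ deg χ % 7 = 6) := by
      rcases B.δ_pm χ hχ with h1 | h1 <;> rw [h1] at hm <;> push_cast at hm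
      · left; exact ⟨h1, by omega⟩
      · right; exact ⟨h1, by omega⟩
    exact mem_L7 (memAD1 hG χ) h5 h6 hd1 (by rcases h7 with h | h <;> [left; right] <;> exact h.2)
  have h1 := B.rel
  rw [← Finset.add_sum_erase _ _ B.tX, B.tδ, deg_triv] at h1
  rcases hq with hq | hq
  · have h2 : (11 : ℤ) ∣ ∑ χ ∈ B.X.erase (triv G), B.δ χ * (deg χ : ℤ) := Finset.dvd_sum fun χ hχ => by
      have := hq _ (key χ hχ)
      exact dvd_mul_of_dvd_right (by omega) _
    omega
  · have h2 : (2 : ℤ) ∣ ∑ χ ∈ B.X.erase (triv G), B.δ χ * (deg χ : ℤ) := Finset.dvd_sum fun χ hχ => by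
      have := hq _ (key χ hχ)
      exact dvd_mul_of_dvd_right (by omega) _
    omega

/-- the possibilities for the Sylow 7-normalizer -/
theorem cases7 (hG : Nat.card G = 443520) (P : Sylow 7 G) : ∃ e c : ℕ, Nat.card (P : Subgroup G) = 7 ∧
    Nat.card (normalizer ((P : Subgroup G) : Set G)) = e * (7 * c) ∧ Nat.card (centralizer ((P : Subgroup G) : Set G)) = 7 * c ∧
    (centralizer ((P : Subgroup G) : Set G)).relIndex (normalizer ((P : Subgroup G) : Set G)) = e ∧
    ((e = 3 ∧ c = 1) ∨ (e = 3 ∧ c = 8) ∨ (e = 3 ∧ c = 64) ∨ (e = 6 ∧ c = 4)) := by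
  have hna := nca hG
  have hP : Nat.card (P : Subgroup G) = 7 := by
    have := sylow_card_of (G := G) (p := 7) (k := 1) (m := 63360) (by rw [hG]; norm_num) (by norm_num) P
    simpa using this
  have h := nsyl_mem (G := G) (p := 7) (k := 1) (m := 63360) (by rw [hG]; norm_num) (by norm_num)
  have h2 : (Nat.divisors 63360).filter (fun d => d % 7 = 1) = {1, 8, 15, 22, 36, 64, 99, 120, 176, 288, 330, 792, 960, 1408, 2640, 6336, 21120} := by
    decide +kernel
  rw [h2] at h
  simp only [Finset.mem_insert, Finset.mem_singleton] at h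
  have hN := card_normalizer_mul_nsyl P
  obtain ⟨h3, h4, h5⟩ := index_mul P hP
  obtain ⟨e, c, h6, h7, h8, h9⟩ := nc_data hna P hP
  have hrel : (centralizer ((P : Subgroup G) : Set G)).relIndex (normalizer ((P : Subgroup G) : Set G)) = e := by
    have h10 : Nat.card (Sylow 7 G) * ((centralizer ((P : Subgroup G) : Set G)).relIndex (normalizer ((P : Subgroup G) : Set G)) * (7 * c)) =
      Nat.card (Sylow 7 G) * (e * (7 * c)) := by
      rw [← h6, ← h7, h3, ← hN, mul_comm]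
    have h11 : 0 < Nat.card (Sylow 7 G) := Nat.card_pos
    have h12 : 0 < 7 * c := by rw [← h7]; exact Nat.card_pos
    exact Nat.eq_of_mul_eq_mul_right h12 (Nat.eq_of_mul_eq_mul_left h11 h10)
  have hne1 := nsyl_ne_one hna (p := 7) (by rw [hG]; norm_num)
  have hN' := hN
  rw [h6, hG] at hN'
  have he : e = 2 ∨ e = 3 ∨ e = 6 := by
    have h10 : ∀ d ∈ Nat.divisors 6, d ≠ 1 → d = 2 ∨ d = 3 ∨ d = 6 := by decide +kernel
    exact h10 e (Nat.mem_divisors.2 ⟨h8, by norm_num⟩) h9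
  have hecn : e * c * Nat.card (Sylow 7 G) = 63360 := by
    have : 7 * (e * c * Nat.card (Sylow 7 G)) = 7 * 63360 := by
      rw [← hN'.trans (by norm_num : 443520 = 7 * 63360)]; ring
    exact Nat.eq_of_mul_eq_mul_left (by norm_num) this
  refine ⟨e, c, hP, h6, h7, hrel, ?_⟩
  rcases he with rfl | rfl | rfl
  · exfalso
    have := case7_two hG P hP hrel
    have hc1 : c = 1 := by omega
    rw [hc1] at hecn
    omega
  · have hc12 : c = 1 ∨ c = 8 ∨ c = 64 ∨ c = 2640 ∨ c = 1408 ∨ c = 960 ∨ c = 330 ∨ c = 176 ∨ c = 120 ∨ c = 22 ∨ c = 15 := by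
      rcases h with h | h | h | h | h | h | h | h | h | h | h | h | h | h | h | h | h
      · exact absurd h hne1
      all_goals rw [h] at hecn; omega
    rcases hc12 with rfl | rfl | rfl | rfl | rfl | rfl | rfl | rfl | rfl | rfl | rfl
    · exact Or.inl ⟨rfl, rfl⟩
    · exact Or.inr (Or.inl ⟨rfl, rfl⟩)
    · exact Or.inr (Or.inr (Or.inl ⟨rfl, rfl⟩))
    · exact (case7_three hG P hP hrel h7 (by norm_num) (N := 24) (by norm_num) (by decide)).elim
    · exact (case7_three hG P hP hrel h7 (by norm_num) (N := 45) (by norm_num) (by decide)).elim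
    · exact (case7_three hG P hP hrel h7 (by norm_num) (N := 66) (by norm_num) (by decide)).elim
    · exact (case7_three hG P hP hrel h7 (by norm_num) (N := 192) (by norm_num) (by decide)).elim
    · exact (case7_three hG P hP hrel h7 (by norm_num) (N := 360) (by norm_num) (by decide)).elim
    · exact (case7_three hG P hP hrel h7 (by norm_num) (N := 528) (by norm_num) (by decide)).elim
    · exact (case7_three hG P hP hrel h7 (by norm_num) (N := 2880) (by norm_num) (by decide)).elim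
    · exact (case7_three hG P hP hrel h7 (by norm_num) (N := 4224) (by norm_num) (by decide)).elim
  · have hc6 : c = 4 ∨ c = 1320 ∨ c = 704 ∨ c = 480 ∨ c = 60 ∨ c = 32 ∨ c = 165 ∨ c = 88 ∨ c = 11 := by
      rcases h with h | h | h | h | h | h | h | h | h | h | h | h | h | h | h | h | h
      · exact absurd h hne1
      all_goals rw [h] at hecn; omega
    rcases hc6 with rfl | rfl | rfl | rfl | rfl | rfl | rfl | rfl | rfl
    · exact Or.inr (Or.inr (Or.inr ⟨rfl, rfl⟩))
    · exact (case7_six hG P hP hrel h7 (by norm_num) (N := 48) (by norm_num) (Or.inl (ar7_6a _ (by decide)))).elim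
    · exact (case7_six hG P hP hrel h7 (by norm_num) (N := 90) (by norm_num) (Or.inl (ar7_6a _ (by decide)))).elim
    · exact (case7_six hG P hP hrel h7 (by norm_num) (N := 132) (by norm_num) (Or.inl (ar7_6a _ (by decide)))).elim
    · exact (case7_six hG P hP hrel h7 (by norm_num) (N := 1056) (by norm_num) (Or.inl (ar7_6a _ (by decide)))).elim
    · exact (case7_six hG P hP hrel h7 (by norm_num) (N := 1980) (by norm_num) (Or.inl (ar7_6a _ (by decide)))).elim
    · exact (case7_six hG P hP hrel h7 (by norm_num) (N := 384) (by norm_num) (Or.inr (ar7_6b _ (by decide)))).elim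
    · exact (case7_six hG P hP hrel h7 (by norm_num) (N := 720) (by norm_num) (Or.inr (ar7_6b _ (by decide)))).elim
    · exact (case7_six hG P hP hrel h7 (by norm_num) (N := 5760) (by norm_num) (Or.inr (ar7_6b _ (by decide)))).elim

end Cfsg.Agent.Lib.M22N
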