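import Mathlib
import Cfsg.Agent.Lib.M22U

/-!
# Simple groups of order 443520, part V: enumeration of the values at an involution commuting with an element of order 7 (helper7)
-/

set_option autoImplicit false
set_option linter.all false

namespace Cfsg.Agent.Lib.M22N

abbrev E3 := ℤ × ℕ × ℤ

def XT : List (ℤ × ℕ) := [(-1, 10), (1, 12), (-1, 21), (-1, 32), (1, 45), (1, 56), (-1, 120), (1, 144), (1, 210), (-1, 252), (1, 320), (-1, 384), (-1, 560)]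
def YT : List (ℤ × ℕ) := [(-1, 5), (1, 6), (-1, 16), (1, 28), (-1, 60), (1, 72), (1, 105), (-1, 126), (1, 160), (-1, 192), (-1, 280), (1, 336)]

theorem ar_XT : ∀ d ∈ AD1, d ≠ 1 → (d % 11 = 1 → ((1 : ℤ), d) ∈ XT) ∧ (d % 11 = 10 → ((-1 : ℤ), d) ∈ XT) ∧
    (d % 11 = 5 → ((-1 : ℤ), d) ∈ YT) ∧ (d % 11 = 6 → ((1 : ℤ), d) ∈ YT) := by decide +kernel

def RG : List ℤ := (List.range 285).map fun k : ℕ => (k : ℤ) - 142

theorem mem_RG {v : ℤ} (h1 : -142 ≤ v) (h2 : v ≤ 142) : v ∈ RG := by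
  rw [RG, List.mem_map]
  exact ⟨(v + 142).toNat, by rw [List.mem_range]; omega, by omega⟩

def okS (A d : ℕ) (v : ℤ) : Bool :=
  ((A * v) % d == 0 && ((v - d) % 4 == 0 && ((A * v ^ 2 - d * d) % 7 == 0 && (decide (-d < v) && (decide (v < d) && decide (A * v ^ 2 ≤ 443520))))))
def okV (A d : ℕ) (v : ℤ) : Bool :=
  ((A * v) % d == 0 && ((v - d) % 4 == 0 && ((A * v ^ 2 - d * (d + 2 * v)) % 7 == 0 && (decide (-d < v) && (decide (v < d) && decide (A * v ^ 2 ≤ 443520))))))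

def XS22 : List E3 := [(1, 56, -28), (1, 56, 0), (1, 56, 28), (-1, 252, 0), (-1, 560, 0)]
def YS22 : List E3 := [(1, 28, 0), (-1, 280, -140), (-1, 280, 0), (-1, 280, 140), (1, 336, 0)]
def XS176 : List E3 := [(-1, 32, -24), (-1, 32, -4), (-1, 32, 4), (-1, 32, 24), (1, 56, -28), (1, 56, 0), (1, 56, 28), (-1, 252, 0), (1, 320, -40), (1, 320, 40), 
  (-1, 384, -48), (-1, 384, 48), (-1, 560, 0)]
def YS176 : List E3 := [(-1, 16, -12), (-1, 16, 12), (1, 28, 0), (1, 160, -20), (1, 160, 20), (-1, 192, -24), (-1, 192, 24), (-1, 280, 0), (1, 336, 0)]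
def XS330 : List E3 := [(-1, 21, -7), (1, 45, -3), (1, 56, -28), (1, 56, 0), (1, 56, 28), (-1, 120, -36), (-1, 120, -20), (-1, 120, -8), (-1, 120, 8), (-1, 120, 20), 
  (-1, 120, 36), (1, 144, -24), (1, 144, 24), (1, 210, -14), (1, 210, 14), (-1, 252, 0), (-1, 560, 0)]
def YS330 : List E3 := [(1, 28, 0), (-1, 60, -32), (-1, 60, -24), (-1, 60, -4), (-1, 60, 4), (-1, 60, 24), (-1, 60, 32), (1, 72, -12), (1, 72, 12), (1, 105, -35), 
  (1, 105, -7), (1, 105, 21), (-1, 192, -32), (-1, 192, 32), (-1, 280, -28), (-1, 280, 0), (-1, 280, 28), (1, 336, 0)]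
def XS2640 : List E3 := [(-1, 21, -7), (-1, 32, -4), (-1, 32, 4), (1, 45, -3), (1, 56, 0), (-1, 120, -8), (-1, 120, 8), (-1, 252, 0), (1, 320, -12), (1, 320, 12), 
  (-1, 384, -8), (-1, 384, 8), (-1, 560, 0)]
def YS2640 : List E3 := [(-1, 16, -12), (-1, 16, 12), (1, 28, 0), (-1, 60, -4), (-1, 60, 4), (1, 72, -12), (1, 72, 12), (1, 105, -7), (1, 160, -8), (1, 160, 8), 
  (-1, 192, -4), (-1, 192, 4), (-1, 280, 0), (1, 336, 0)]
def XV66 : List E3 := [(1, 12, -4), (-1, 21, -7), (1, 45, -15), (1, 56, -28), (1, 56, 0), (1, 56, 28), (-1, 120, -40), (-1, 120, -20), (1, 144, -48), (1, 144, -24), 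
  (1, 210, -70), (1, 210, 70), (-1, 252, 0), (-1, 384, -64), (-1, 560, 0)]
def YV66 : List E3 := [(1, 6, -2), (1, 28, 0), (-1, 60, -20), (1, 72, -24), (1, 72, -12), (1, 72, 60), (1, 105, -35), (-1, 126, -42), (-1, 126, 42), (-1, 192, -64), 
  (-1, 192, -32), (-1, 280, 0), (1, 336, -56), (1, 336, 0), (1, 336, 56)]
def XV220 : List E3 := [(-1, 10, 6), (-1, 32, -24), (-1, 32, 8), (1, 56, -28), (1, 56, 0), (1, 56, 28), (-1, 120, -12), (-1, 120, 36), (1, 144, 36), (1, 210, -42), 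
  (1, 210, 42), (-1, 252, 0), (1, 320, -32), (1, 320, -16), (-1, 560, -28), (-1, 560, 0), (-1, 560, 28)]
def YV220 : List E3 := [(-1, 16, -12), (-1, 16, 4), (1, 28, 0), (-1, 60, -24), (-1, 60, 36), (1, 105, 21), (1, 160, -16), (1, 160, -8), (1, 160, 40), (-1, 280, -28), 
  (-1, 280, 0), (-1, 280, 28), (1, 336, 0)]
def XV528 : List E3 := [(1, 12, -4), (-1, 21, -7), (-1, 32, -24), (-1, 32, -20), (-1, 32, 4), (-1, 32, 8), (1, 45, -15), (1, 56, -28), (1, 56, 0), (1, 56, 28), 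
  (-1, 120, -20), (1, 144, -24), (-1, 252, 0), (-1, 384, -16), (-1, 384, -8), (-1, 560, 0)]
def YV528 : List E3 := [(1, 6, -2), (-1, 16, -12), (-1, 16, 4), (1, 28, 0), (-1, 60, -20), (1, 72, -24), (1, 72, -12), (1, 160, 20), (-1, 192, -8), (-1, 192, -4), 
  (-1, 192, 20), (-1, 192, 24), (-1, 280, 0), (1, 336, -28), (1, 336, 0), (1, 336, 28)]
def XV990 : List E3 := [(-1, 10, 6), (1, 12, -4), (-1, 21, -7), (1, 45, -15), (1, 45, -11), (1, 45, 13), (1, 45, 17), (1, 56, 0), (-1, 120, -20), (-1, 120, -12), 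
  (-1, 120, 8), (-1, 120, 16), (1, 144, 8), (1, 210, -14), (1, 210, 14), (-1, 252, 0), (-1, 560, 0)]
def YV990 : List E3 := [(1, 6, -2), (1, 28, 0), (-1, 60, -20), (-1, 60, 4), (-1, 60, 8), (1, 72, -12), (1, 72, 4), (1, 72, 16), (1, 105, -7), (1, 105, 21), (-1, 126, -14), 
  (-1, 126, 14), (1, 160, -16), (-1, 280, 0), (1, 336, 0)]
def XV1760 : List E3 := [(-1, 10, 6), (-1, 32, 4), (-1, 32, 8), (1, 56, 0), (-1, 120, -12), (-1, 252, 0), (1, 320, -4), (1, 320, 12), (-1, 384, 12), (-1, 560, 0)]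
def YV1760 : List E3 := [(-1, 16, -12), (-1, 16, 4), (1, 28, 0), (1, 160, -8), (1, 160, 12), (-1, 280, 0), (1, 336, 0)]
def XV7920 : List E3 := [(-1, 10, 6), (1, 12, -4), (-1, 21, -7), (-1, 32, 4), (1, 56, 0), (1, 144, 4), (-1, 252, 0), (1, 320, -4), (-1, 560, 0)]
def YV7920 : List E3 := [(1, 6, -2), (-1, 16, 4), (1, 28, 0), (-1, 60, 4), (1, 72, 4), (1, 105, -7), (-1, 192, -4), (-1, 280, 0), (1, 336, 0)]

def TabS : List (ℕ × List E3 × List E3) := [(22, XS22, YS22), (176, XS176, YS176), (330, XS330, YS330), (2640, XS2640, YS2640)]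
def TabV : List (ℕ × List E3 × List E3) := [(66, XV66, YV66), (220, XV220, YV220), (528, XV528, YV528), (990, XV990, YV990), (1760, XV1760, YV1760), (7920, XV7920, YV7920)]

theorem mXS22 : (∀ p ∈ XT, ∀ v ∈ RG, okS 22 p.2 v = true → (p.1, p.2, v) ∈ XS22) ∧ (∀ p ∈ YT, ∀ v ∈ RG, okS 22 p.2 v = true → (p.1, p.2, v) ∈ YS22) := by
  decide +kernel
theorem mXS176 : (∀ p ∈ XT, ∀ v ∈ RG, okS 176 p.2 v = true → (p.1, p.2, v) ∈ XS176) ∧ (∀ p ∈ YT, ∀ v ∈ RG, okS 176 p.2 v = true → (p.1, p.2, v) ∈ YS176) := by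
  decide +kernel
theorem mXS330 : (∀ p ∈ XT, ∀ v ∈ RG, okS 330 p.2 v = true → (p.1, p.2, v) ∈ XS330) ∧ (∀ p ∈ YT, ∀ v ∈ RG, okS 330 p.2 v = true → (p.1, p.2, v) ∈ YS330) := by
  decide +kernel
theorem mXS2640 : (∀ p ∈ XT, ∀ v ∈ RG, okS 2640 p.2 v = true → (p.1, p.2, v) ∈ XS2640) ∧ (∀ p ∈ YT, ∀ v ∈ RG, okS 2640 p.2 v = true → (p.1, p.2, v) ∈ YS2640) := by
  decide +kernel
theorem mXV66 : (∀ p ∈ XT, ∀ v ∈ RG, okV 66 p.2 v = true → (p.1, p.2, v) ∈ XV66) ∧ (∀ p ∈ YT, ∀ v ∈ RG, okV 66 p.2 v = true → (p.1, p.2, v) ∈ YV66) := by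
  decide +kernel
theorem mXV220 : (∀ p ∈ XT, ∀ v ∈ RG, okV 220 p.2 v = true → (p.1, p.2, v) ∈ XV220) ∧ (∀ p ∈ YT, ∀ v ∈ RG, okV 220 p.2 v = true → (p.1, p.2, v) ∈ YV220) := by
  decide +kernel
theorem mXV528 : (∀ p ∈ XT, ∀ v ∈ RG, okV 528 p.2 v = true → (p.1, p.2, v) ∈ XV528) ∧ (∀ p ∈ YT, ∀ v ∈ RG, okV 528 p.2 v = true → (p.1, p.2, v) ∈ YV528) := by
  decide +kernel
theorem mXV990 : (∀ p ∈ XT, ∀ v ∈ RG, okV 990 p.2 v = true → (p.1, p.2, v) ∈ XV990) ∧ (∀ p ∈ YT, ∀ v ∈ RG, okV 990 p.2 v = true → (p.1, p.2, v) ∈ YV990) := by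
  decide +kernel
theorem mXV1760 : (∀ p ∈ XT, ∀ v ∈ RG, okV 1760 p.2 v = true → (p.1, p.2, v) ∈ XV1760) ∧ (∀ p ∈ YT, ∀ v ∈ RG, okV 1760 p.2 v = true → (p.1, p.2, v) ∈ YV1760) := by
  decide +kernel
theorem mXV7920 : (∀ p ∈ XT, ∀ v ∈ RG, okV 7920 p.2 v = true → (p.1, p.2, v) ∈ XV7920) ∧ (∀ p ∈ YT, ∀ v ∈ RG, okV 7920 p.2 v = true → (p.1, p.2, v) ∈ YV7920) := by
  decide +kernel

def fin3 (A : ℕ) (a b c d y : E3) : Bool :=
  (1 + (a.1 * a.2.1 + b.1 * b.2.1 + c.1 * c.2.1 + d.1 * d.2.1) + y.1 * y.2.1 == 0) &&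
  ((1 + (a.1 * a.2.2 + b.1 * b.2.2 + c.1 * c.2.2 + d.1 * d.2.2) + y.1 * y.2.2 == 0) &&
  ((40320 + (a.1 * a.2.2 * a.2.2 * ((40320 / a.2.1 : ℕ) : ℤ) + b.1 * b.2.2 * b.2.2 * ((40320 / b.2.1 : ℕ) : ℤ) +
      c.1 * c.2.2 * c.2.2 * ((40320 / c.2.1 : ℕ) : ℤ) + d.1 * d.2.2 * d.2.2 * ((40320 / d.2.1 : ℕ) : ℤ)) +
      y.1 * y.2.2 * y.2.2 * ((40320 / y.2.1 : ℕ) : ℤ) == 0) &&
    decide (A * (1 + (a.2.2 ^ 2 + b.2.2 ^ 2 + c.2.2 ^ 2 + d.2.2 ^ 2) + 2 * y.2.2 ^ 2) ≤ 443520)))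

def good3 (A : ℕ) (a b c d y : E3) : Bool :=
  A == 330 && (a == (-1, 21, -7) && (b == (-1, 120, 8) && (y == (-1, 280, 0) && ((c == (1, 210, -14) && d == (1, 210, 14)) ||
    (c == (1, 210, 14) && d == (1, 210, -14))))))

def run3 (A : ℕ) (X Y : List E3) (g : Bool) : Bool :=
  X.all fun a => X.all fun b => !(Nat.ble a.2.1 b.2.1) || X.all fun c => !(Nat.ble b.2.1 c.2.1) || X.all fun d => !(Nat.ble c.2.1 d.2.1) ||
    Y.all fun y => !(fin3 A a b c d y) || (g && good3 A a b c d y)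

theorem rS22 : run3 22 XS22 YS22 false = true := by decide +kernel
theorem rS176 : run3 176 XS176 YS176 false = true := by decide +kernel
theorem rS330 : run3 330 XS330 YS330 true = true := by decide +kernel
theorem rS2640 : run3 2640 XS2640 YS2640 false = true := by decide +kernel
theorem rV66 : run3 66 XV66 YV66 false = true := by decide +kernel
theorem rV220 : run3 220 XV220 YV220 false = true := by decide +kernel
theorem rV528 : run3 528 XV528 YV528 false = true := by decide +kernel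
theorem rV990 : run3 990 XV990 YV990 false = true := by decide +kernel
theorem rV1760 : run3 1760 XV1760 YV1760 false = true := by decide +kernel
theorem rV7920 : run3 7920 XV7920 YV7920 false = true := by decide +kernel

theorem of_run3 {A : ℕ} {X Y : List E3} {g : Bool} (h : run3 A X Y g = true) {a b c d y : E3} (ha : a ∈ X) (hb : b ∈ X) (hc : c ∈ X) (hd : d ∈ X)
    (hy : y ∈ Y) (h1 : a.2.1 ≤ b.2.1) (h2 : b.2.1 ≤ c.2.1) (h3 : c.2.1 ≤ d.2.1) (hf : fin3 A a b c d y = true) :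
    g = true ∧ good3 A a b c d y = true := by
  rw [run3, List.all_eq_true] at h
  have k1 := h a ha
  rw [List.all_eq_true] at k1
  have k2 := k1 b hb
  rw [Nat.ble_eq_true_of_le h1, Bool.not_true, Bool.false_or, List.all_eq_true] at k2
  have k3 := k2 c hc
  rw [Nat.ble_eq_true_of_le h2, Bool.not_true, Bool.false_or, List.all_eq_true] at k3
  have k4 := k3 d hd
  rw [Nat.ble_eq_true_of_le h3, Bool.not_true, Bool.false_or, List.all_eq_true] at k4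
  have k5 := k4 y hy
  rw [hf, Bool.not_true, Bool.false_or, Bool.and_eq_true] at k5
  exact k5

end Cfsg.Agent.Lib.M22N
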