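import Mathlib
import Cfsg.Agent.Lib.M22U

/-!
# Simple groups of order 443520, part W: involutions commuting with an element of order 7 (helper7)
-/

set_option autoImplicit false
set_option linter.all false

namespace Cfsg.Agent.Lib.M22N

open Subgroup Cfsg Cfsg.Agent.Lib.CharBasic Cfsg.Agent.Lib.ColTools Cfsg.Agent.Lib.SmallSimple
  Cfsg.Agent.Lib.PBlock Cfsg.Agent.Lib.QBlk

universe u

variable {G : Type u} [Group G] [Finite G]

structure SZ (P : Subgroup G) (z : G) : Prop where
  o : orderOf z = 2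
  mem : z ∈ centralizer (P : Set G)
  fus : ∀ a ∈ centralizer (P : Set G), IsConj z a → a = z
  le : normalizer (P : Set G) ≤ centralizer ({z} : Set G)

structure VZ (P : Subgroup G) (z z1 : G) : Prop where
  o : orderOf z = 2
  mem : z ∈ centralizer (P : Set G)
  mem1 : z1 ∈ centralizer (P : Set G)
  sq1 : z1 ^ 2 = 1
  comm : z1 * z = z * z1
  ne : z1 ≠ z
  ne1 : z1 ≠ 1
  fus : ∀ a ∈ centralizer (P : Set G), IsConj z a → a = z ∨ a = z1 ∨ a = z1 * z
  c1 : IsConj z z1
  c2 : IsConj z (z1 * z)
  le : centralizer (P : Set G) ≤ centralizer ({z} : Set G)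

/-- the Sylow 2-subgroup of the centralizer -/
theorem exists_K {P : Subgroup G} (hP : Nat.card P = 7) {k : ℕ} (hC : Nat.card (centralizer (P : Set G)) = 7 * 2 ^ k) :
    ∃ K : Sylow 2 (centralizer (P : Set G)), (K : Subgroup (centralizer (P : Set G))).Normal ∧ Nat.card (K : Subgroup (centralizer (P : Set G))) = 2 ^ k := by
  have : Fact (Nat.Prime 2) := ⟨by norm_num⟩
  have f7 : Fact (Nat.Prime 7) := ⟨by norm_num⟩
  obtain ⟨K⟩ : Nonempty (Sylow 2 (centralizer (P : Set G))) := inferInstance
  have hK : Nat.card (K : Subgroup (centralizer (P : Set G))) = 2 ^ k :=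
    sylow_card_of (G := centralizer (P : Set G)) (p := 2) (k := k) (m := 7) (by rw [hC, mul_comm]) (by norm_num) K
  refine ⟨K, ?_, hK⟩
  have h4 : P.subgroupOf (centralizer (P : Set G)) ≤ normalizer ((K : Subgroup (centralizer (P : Set G))) : Set (centralizer (P : Set G))) := by
    intro x hx
    have hx' : (x : G) ∈ P := mem_subgroupOf.1 hx
    have hcomm : ∀ y : centralizer (P : Set G), x * y = y * x := by
      intro y
      apply Subtype.ext
      exact (mem_centralizer_iff.1 y.2 x hx')
    rw [mem_normalizer_iff]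
    intro y
    rw [hcomm y, mul_inv_cancel_right]
  have h5 := card_dvd_of_le h4
  rw [Nat.card_congr (subgroupOfEquivOfLe (le_cent hP)).toEquiv, hP] at h5
  have h6 := card_dvd_of_le (le_normalizer (H := (K : Subgroup (centralizer (P : Set G)))))
  rw [hK] at h6
  have h7 : 7 * 2 ^ k ∣ Nat.card (normalizer ((K : Subgroup (centralizer (P : Set G))) : Set (centralizer (P : Set G)))) :=
    Nat.Coprime.mul_dvd_of_dvd_of_dvd (Nat.Coprime.pow_right k (by norm_num)) h5 h6
  have h8 := card_subgroup_dvd_card (normalizer ((K : Subgroup (centralizer (P : Set G))) : Set (centralizer (P : Set G))))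
  rw [hC] at h8
  have h9 : normalizer ((K : Subgroup (centralizer (P : Set G))) : Set (centralizer (P : Set G))) = ⊤ := by
    rw [← Subgroup.card_eq_iff_eq_top, hC]
    exact Nat.dvd_antisymm h8 h7
  exact Subgroup.normalizer_eq_top_iff.1 h9

/-- a central involution of the centralizer -/
theorem exists_central {P : Subgroup G} (hP : Nat.card P = 7) {k : ℕ} (hk : 0 < k) (hC : Nat.card (centralizer (P : Set G)) = 7 * 2 ^ k) :
    ∃ z ∈ centralizer (P : Set G), orderOf z = 2 ∧ ∀ g ∈ centralizer (P : Set G), g * z = z * g := by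
  have f2 : Fact (Nat.Prime 2) := ⟨by norm_num⟩
  obtain ⟨K, hKn, hK⟩ := exists_K hP hC
  have hnt : Nontrivial (K : Subgroup (centralizer (P : Set G))) := by
    rw [← Finite.one_lt_card_iff_nontrivial, hK]
    exact Nat.one_lt_two_pow (by omega)
  have h1 := K.2.center_nontrivial
  obtain ⟨j, hj⟩ := (IsPGroup.iff_card (p := 2)).1 (K.2.to_subgroup (center (K : Subgroup (centralizer (P : Set G)))))
  have hj0 : j ≠ 0 := by
    rintro rfl
    rw [pow_zero] at hj
    have := (Finite.one_lt_card_iff_nontrivial).2 h1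
    omega
  obtain ⟨t, ht⟩ := exists_prime_orderOf_dvd_card' (G := center (K : Subgroup (centralizer (P : Set G)))) 2 (by rw [hj]; exact dvd_pow_self 2 hj0)
  obtain ⟨z', hz'⟩ : ∃ z' : centralizer (P : Set G), z' = ((t : (K : Subgroup (centralizer (P : Set G)))) : centralizer (P : Set G)) := ⟨_, rfl⟩
  have hz2 : orderOf z' = 2 := by rw [hz', Subgroup.orderOf_coe, Subgroup.orderOf_coe, ht]
  have e1 : (K : Subgroup (centralizer (P : Set G))) ≤ centralizer ({z'} : Set (centralizer (P : Set G))) := by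
    intro x hx
    rw [mem_centralizer_singleton_iff, hz']
    have := (mem_center_iff.1 t.2 ⟨x, hx⟩)
    exact congrArg Subtype.val this
  have e2 : P.subgroupOf (centralizer (P : Set G)) ≤ centralizer ({z'} : Set (centralizer (P : Set G))) := by
    intro x hx
    have hx' : (x : G) ∈ P := mem_subgroupOf.1 hx
    rw [mem_centralizer_singleton_iff]
    apply Subtype.ext
    exact (mem_centralizer_iff.1 z'.2 x hx')
  have h5 := card_dvd_of_le e2
  rw [Nat.card_congr (subgroupOfEquivOfLe (le_cent hP)).toEquiv, hP] at h5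
  have h6 := card_dvd_of_le e1
  rw [hK] at h6
  have h7 : 7 * 2 ^ k ∣ Nat.card (centralizer ({z'} : Set (centralizer (P : Set G)))) :=
    Nat.Coprime.mul_dvd_of_dvd_of_dvd (Nat.Coprime.pow_right k (by norm_num)) h5 h6
  have h8 := card_subgroup_dvd_card (centralizer ({z'} : Set (centralizer (P : Set G))))
  rw [hC] at h8
  have h9 : centralizer ({z'} : Set (centralizer (P : Set G))) = ⊤ := by
    rw [← Subgroup.card_eq_iff_eq_top, hC]
    exact Nat.dvd_antisymm h8 h7
  refine ⟨z', z'.2, by rw [Subgroup.orderOf_coe, hz2], fun g hg => ?_⟩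
  have : (⟨g, hg⟩ : centralizer (P : Set G)) ∈ centralizer ({z'} : Set (centralizer (P : Set G))) := by rw [h9]; trivial
  rw [mem_centralizer_singleton_iff] at this
  exact congrArg Subtype.val this

theorem fusion {p : ℕ} [Fact p.Prime] (P : Sylow p G) {z a : G} (hz : z ∈ centralizer ((P : Subgroup G) : Set G)) (ha : a ∈ centralizer ((P : Subgroup G) : Set G))
    (h : IsConj z a) : ∃ n ∈ normalizer ((P : Subgroup G) : Set G), n * z * n⁻¹ = a := by
  obtain ⟨c, hc⟩ := isConj_iff.1 h
  obtain ⟨n, hn, hn'⟩ := P.conj_eq_normalizer_conj_of_mem_centralizer z c⁻¹ hz (by rw [inv_inv, hc]; exact ha)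
  refine ⟨n⁻¹, inv_mem hn, ?_⟩
  rw [inv_inv, ← hn', inv_inv, hc]

theorem N_le {C N H : Subgroup G} (hCN : C ≤ N) (hCH : C ≤ H) {y : G} (hyN : y ∈ N) (hyH : y ∈ H) (hyC : y ∉ C) (hidx : C.relIndex N = 3) : N ≤ H := by
  have h1 := relIndex_mul_relIndex C (H ⊓ N) N (le_inf hCH hCN) inf_le_right
  rw [hidx] at h1
  rcases (Nat.dvd_prime (by norm_num : Nat.Prime 3)).1 ⟨_, h1.symm⟩ with h2 | h2
  · exfalso
    rw [relIndex_eq_one] at h2
    exact hyC (h2 ⟨hyH, hyN⟩)
  · rw [h2] at h1
    have h3 : (H ⊓ N).relIndex N = 1 := by omega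
    rw [relIndex_eq_one] at h3
    exact h3.trans inf_le_left

theorem exists_SV3 (P : Sylow 7 G) (hP : Nat.card (P : Subgroup G) = 7) {k : ℕ} (hk : 0 < k)
    (hC : Nat.card (centralizer ((P : Subgroup G) : Set G)) = 7 * 2 ^ k)
    (he : (centralizer ((P : Subgroup G) : Set G)).relIndex (normalizer ((P : Subgroup G) : Set G)) = 3) :
    (∃ z, SZ (P : Subgroup G) z) ∨ ∃ z z1, VZ (P : Subgroup G) z z1 := by
  obtain ⟨z, hz, hz2, hzc⟩ := exists_central hP hk hC
  obtain ⟨C, hCd⟩ : ∃ C, C = centralizer ((P : Subgroup G) : Set G) := ⟨_, rfl⟩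
  obtain ⟨N, hNd⟩ : ∃ N, N = normalizer ((P : Subgroup G) : Set G) := ⟨_, rfl⟩
  have hCN : C ≤ N := by rw [hCd, hNd]; exact Subgroup.centralizer_le_normalizer _
  obtain ⟨y, hyN, hyC⟩ : ∃ y ∈ N, y ∉ C := by
    by_contra h
    push Not at h
    have : C.relIndex N = 1 := relIndex_eq_one.2 h
    rw [hCd, hNd, he] at this
    omega
  rw [← hCd, ← hNd] at he
  have hCn : (C.subgroupOf N).Normal := by rw [hCd, hNd]; infer_instance
  have hy3 : y ^ 3 ∈ C := by
    have h1 := (C.subgroupOf N).pow_index_mem ⟨y, hyN⟩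
    have h2 : (C.subgroupOf N).index = 3 := he
    rw [h2] at h1
    exact mem_subgroupOf.1 h1
  have hconj : ∀ n ∈ N, ∀ g ∈ C, n * g * n⁻¹ ∈ C := by
    intro n hn g hg
    rw [hCd] at hg ⊢
    rw [hNd] at hn
    exact conj_mem_cent hn hg
  have hcc : ∀ t ∈ C, (∀ g ∈ C, g * t = t * g) → ∀ g ∈ C, g * (y * t * y⁻¹) = y * t * y⁻¹ * g := by
    intro t ht hc g hg
    have h1 := hconj y⁻¹ (inv_mem hyN) g hg
    rw [inv_inv] at h1
    have h2 := hc _ h1
    calc g * (y * t * y⁻¹) = y * ((y⁻¹ * g * y) * t) * y⁻¹ := by group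
      _ = y * (t * (y⁻¹ * g * y)) * y⁻¹ := by rw [h2]
      _ = y * t * y⁻¹ * g := by group
  rw [← hCd] at hz hzc
  have S : ∀ w ∈ C, orderOf w = 2 → (∀ g ∈ C, g * w = w * g) → y * w * y⁻¹ = w → SZ (P : Subgroup G) w := by
    intro w hw hw2 hwc hyw
    have h1 : N ≤ centralizer ({w} : Set G) := by
      refine N_le hCN ?_ hyN ?_ hyC he
      · intro g hg
        rw [mem_centralizer_singleton_iff]; exact hwc g hg
      · rw [mem_centralizer_singleton_iff]
        rwa [mul_inv_eq_iff_eq_mul] at hyw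
    refine ⟨hw2, by rw [← hCd]; exact hw, fun a ha hwa => ?_, by rw [← hNd]; exact h1⟩
    rw [hCd] at hw
    obtain ⟨n, hn, rfl⟩ := fusion P hw ha hwa
    rw [← hNd] at hn
    have h2 := h1 hn
    rw [mem_centralizer_singleton_iff] at h2
    rw [h2, mul_inv_cancel_right]
  by_cases h1 : y * z * y⁻¹ = z
  · exact Or.inl ⟨z, S z hz hz2 hzc h1⟩
  obtain ⟨z1, hz1⟩ : ∃ z1, z1 = y * z * y⁻¹ := ⟨_, rfl⟩
  rw [← hz1] at h1
  have m1 : z1 ∈ C := by rw [hz1]; exact hconj y hyN z hz
  have c1 : ∀ g ∈ C, g * z1 = z1 * g := by rw [hz1]; exact hcc z hz hzc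
  obtain ⟨z2, hz2'⟩ : ∃ z2, z2 = y * z1 * y⁻¹ := ⟨_, rfl⟩
  have m2 : z2 ∈ C := by rw [hz2']; exact hconj y hyN z1 m1
  have c2 : ∀ g ∈ C, g * z2 = z2 * g := by rw [hz2']; exact hcc z1 m1 c1
  have e3 : y * z2 * y⁻¹ = z := by
    have h2 := hzc _ hy3
    have : y * z2 * y⁻¹ = (y ^ 3 * z) * (y ^ 3)⁻¹ := by
      rw [hz2', hz1, pow_succ, pow_succ, pow_one]
      group
    rw [this, h2, mul_inv_cancel_right]
  have q0 : z * z = 1 := by rw [← pow_two, ← hz2]; exact pow_orderOf_eq_one z
  have q1 : z1 * z1 = 1 := by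
    have : z1 * z1 = y * (z * z) * y⁻¹ := by rw [hz1]; group
    rw [this, q0]; group
  have q2 : z2 * z2 = 1 := by
    have : z2 * z2 = y * (z1 * z1) * y⁻¹ := by rw [hz2']; group
    rw [this, q1]; group
  have zne : z ≠ 1 := fun h => by rw [h, orderOf_one] at hz2; omega
  have z1ne : z1 ≠ 1 := by
    intro h
    apply zne
    rw [hz1, mul_inv_eq_one] at h
    exact mul_left_cancel (h.trans (mul_one y).symm)
  by_cases hw : z * z1 * z2 = 1
  · right
    have e2 : z2 = z1 * z := by
      have h2 : z * z1 * z2 * z2 = z2 := by rw [hw, one_mul]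
      rw [mul_assoc (z * z1), q2, mul_one] at h2
      rw [← h2]; exact c1 z hz
    refine ⟨z, z1, hz2, by rw [← hCd]; exact hz, by rw [← hCd]; exact m1, by rw [pow_two]; exact q1, (c1 z hz).symm, h1, z1ne, ?_,
      isConj_iff.2 ⟨y, hz1.symm⟩, ?_, ?_⟩
    · intro a ha hza
      rw [hCd] at hz
      obtain ⟨n, hn, rfl⟩ := fusion P hz ha hza
      rw [← hNd] at hn
      have hle : N ≤ normalizer ({z, z1, z2} : Set G) := by
        refine N_le hCN ?_ hyN ?_ hyC he
        · intro g hg
          rw [Subgroup.mem_set_normalizer_iff]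
          intro h
          have key : ∀ t, (∀ g ∈ C, g * t = t * g) → (h = t ↔ g * h * g⁻¹ = t) := by
            intro t ht
            rw [mul_inv_eq_iff_eq_mul, ← ht g hg]
            exact ⟨fun e => by rw [e], fun e => mul_left_cancel e⟩
          simp only [Set.mem_insert_iff, Set.mem_singleton_iff]
          rw [key z hzc, key z1 c1, key z2 c2]
        · rw [Subgroup.mem_set_normalizer_iff]
          intro h
          have key : ∀ s t, y * s * y⁻¹ = t → (h = s ↔ y * h * y⁻¹ = t) := by
            intro s t hst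
            rw [← hst]
            exact ⟨fun e => by rw [e], fun e => mul_left_cancel (mul_right_cancel e)⟩
          simp only [Set.mem_insert_iff, Set.mem_singleton_iff]
          rw [key z z1 hz1.symm, key z1 z2 hz2'.symm, key z2 z e3]
          tauto
      have h3 := (Subgroup.mem_set_normalizer_iff.1 (hle hn) z).1 (by simp)
      simp only [Set.mem_insert_iff, Set.mem_singleton_iff] at h3
      rw [e2] at h3
      exact h3
    · rw [← e2]
      exact (isConj_iff.2 ⟨y, hz1.symm⟩).trans (isConj_iff.2 ⟨y, hz2'.symm⟩)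
    · rw [← hCd]
      intro g hg
      rw [mem_centralizer_singleton_iff]; exact hzc g hg
  · left
    refine ⟨z * z1 * z2, S _ (mul_mem (mul_mem hz m1) m2) ?_ ?_ ?_⟩
    · apply orderOf_eq_prime _ hw
      have k1 := c1 z hz
      have k2 := c2 z hz
      have k3 := c2 z1 m1
      calc (z * z1 * z2) ^ 2 = z * z1 * (z2 * z) * z1 * z2 := by rw [pow_two]; group
        _ = z * (z1 * z) * (z2 * z1) * z2 := by rw [← k2]; group
        _ = z * (z * z1) * (z1 * z2) * z2 := by rw [k1, k3]
        _ = (z * z) * (z1 * z1) * (z2 * z2) := by group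
        _ = 1 := by rw [q0, q1, q2]; group
    · intro g hg
      calc g * (z * z1 * z2) = (g * z) * z1 * z2 := by group
        _ = z * (g * z1) * z2 := by rw [hzc g hg]; group
        _ = z * z1 * (g * z2) := by rw [c1 g hg]; group
        _ = z * z1 * z2 * g := by rw [c2 g hg]; group
    · calc y * (z * z1 * z2) * y⁻¹ = (y * z * y⁻¹) * (y * z1 * y⁻¹) * (y * z2 * y⁻¹) := by group
        _ = z1 * z2 * z := by rw [← hz1, ← hz2', e3]
        _ = z * z1 * z2 := by
          have k1 := c1 z hz
          have k2 := c2 z hz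
          rw [mul_assoc, ← k2, ← mul_assoc, ← k1]

theorem exists_SV6 (P : Sylow 7 G) (hP : Nat.card (P : Subgroup G) = 7) (hC : Nat.card (centralizer ((P : Subgroup G) : Set G)) = 7 * 2 ^ 2) :
    (∃ z, SZ (P : Subgroup G) z) ∨ ∃ z z1, VZ (P : Subgroup G) z z1 := by
  have f2 : Fact (Nat.Prime 2) := ⟨by norm_num⟩
  obtain ⟨z, hz, hz2, hzc⟩ := exists_central hP (by norm_num) hC
  by_cases hfix : ∃ t ∈ centralizer ((P : Subgroup G) : Set G), orderOf t = 2 ∧ ∀ n ∈ normalizer ((P : Subgroup G) : Set G), n * t * n⁻¹ = t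
  · obtain ⟨t, ht, ht2, htf⟩ := hfix
    left
    refine ⟨t, ht2, ht, fun a ha hta => ?_, fun n hn => ?_⟩
    · obtain ⟨n, hn, rfl⟩ := fusion P ht ha hta
      exact htf n hn
    · rw [mem_centralizer_singleton_iff]
      have := htf n hn
      rwa [mul_inv_eq_iff_eq_mul] at this
  push Not at hfix
  right
  obtain ⟨n, hn, hne⟩ := hfix z hz hz2
  obtain ⟨z1, hz1⟩ : ∃ z1, z1 = n * z * n⁻¹ := ⟨_, rfl⟩
  rw [← hz1] at hne
  have m1 : z1 ∈ centralizer ((P : Subgroup G) : Set G) := by rw [hz1]; exact conj_mem_cent hn hz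
  have k1 := hzc z1 m1
  have q0 : z * z = 1 := by rw [← pow_two, ← hz2]; exact pow_orderOf_eq_one z
  have q1 : z1 * z1 = 1 := by
    have : z1 * z1 = n * (z * z) * n⁻¹ := by rw [hz1]; group
    rw [this, q0]; group
  have zne : z ≠ 1 := fun h => by rw [h, orderOf_one] at hz2; omega
  have z1ne : z1 ≠ 1 := by
    intro h
    apply zne
    rw [hz1, mul_inv_eq_one] at h
    exact mul_left_cancel (h.trans (mul_one n).symm)
  have z3ne : z1 * z ≠ 1 := by
    intro h
    apply hne
    calc z1 = z1 * (z * z) := by rw [q0, mul_one]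
      _ = (z1 * z) * z := by group
      _ = z := by rw [h, one_mul]
  have q3 : (z1 * z) ^ 2 = 1 := by
    calc (z1 * z) ^ 2 = z1 * (z * z1) * z := by rw [pow_two]; group
      _ = (z1 * z1) * (z * z) := by rw [← k1]; group
      _ = 1 := by rw [q0, q1, one_mul]
  -- all involutions
  have hall : ∀ a ∈ centralizer ((P : Subgroup G) : Set G), orderOf a = 2 → a = z ∨ a = z1 ∨ a = z1 * z := by
    classical
    obtain ⟨K, hKn, hK⟩ := exists_K hP hC
    have hKi : (K : Subgroup (centralizer ((P : Subgroup G) : Set G))).index = 7 := by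
      have h1 := Subgroup.card_mul_index (K : Subgroup (centralizer ((P : Subgroup G) : Set G)))
      rw [hK, hC] at h1
      omega
    have hmemK : ∀ a : centralizer ((P : Subgroup G) : Set G), (a : G) ^ 2 = 1 → a ∈ (K : Subgroup (centralizer ((P : Subgroup G) : Set G))) := by
      intro a ha
      apply mem_of_orderOf_coprime_index
      rw [hKi]
      have h4 : orderOf a ∣ 2 := orderOf_dvd_of_pow_eq_one (Subtype.ext ha)
      exact Nat.Coprime.coprime_dvd_left h4 (by norm_num)
    obtain ⟨U, hU⟩ : ∃ U : Finset (centralizer ((P : Subgroup G) : Set G)), U = {1, ⟨z, hz⟩, ⟨z1, m1⟩, ⟨z1 * z, mul_mem m1 hz⟩} :=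
      ⟨_, rfl⟩
    have hU4 : U.card = 4 := by
      rw [hU, Finset.card_insert_of_notMem, Finset.card_insert_of_notMem, Finset.card_insert_of_notMem, Finset.card_singleton]
      · rw [Finset.mem_singleton]
        intro h
        have := congrArg Subtype.val h
        exact zne (by simpa using this)
      · simp only [Finset.mem_insert, Finset.mem_singleton, not_or]
        refine ⟨fun h => hne (congrArg Subtype.val h).symm, fun h => ?_⟩
        have := congrArg Subtype.val h
        exact z1ne (by simpa using this)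
      · simp only [Finset.mem_insert, Finset.mem_singleton, not_or]
        refine ⟨fun h => zne (congrArg Subtype.val h).symm, fun h => z1ne (congrArg Subtype.val h).symm, fun h => z3ne (congrArg Subtype.val h).symm⟩
    have hUK : (U : Set (centralizer ((P : Subgroup G) : Set G))) = ((K : Subgroup (centralizer ((P : Subgroup G) : Set G))) : Set _) := by
      apply Set.eq_of_subset_of_ncard_le
      · intro a ha
        apply hmemK
        rw [hU] at ha
        simp only [Finset.coe_insert, Finset.coe_singleton, Set.mem_insert_iff, Set.mem_singleton_iff] at ha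
        rcases ha with rfl | rfl | rfl | rfl
        · simp
        · rw [pow_two]; exact q0
        · rw [pow_two]; exact q1
        · exact q3
      · rw [Set.ncard_coe_finset, hU4, ← Nat.card_coe_set_eq]
        show Nat.card (K : Subgroup (centralizer ((P : Subgroup G) : Set G))) ≤ 4
        rw [hK]; norm_num
      · exact Set.toFinite _
    intro a ha ha2
    have h1 := hmemK ⟨a, ha⟩ (by
      show a ^ 2 = 1
      rw [← ha2]; exact pow_orderOf_eq_one a)
    have h2 : (⟨a, ha⟩ : centralizer ((P : Subgroup G) : Set G)) ∈ (U : Set (centralizer ((P : Subgroup G) : Set G))) := by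
      rw [hUK]; exact h1
    rw [hU] at h2
    simp only [Finset.coe_insert, Finset.coe_singleton, Set.mem_insert_iff, Set.mem_singleton_iff] at h2
    rcases h2 with h2 | h2 | h2 | h2
    · exfalso
      have h3 : a = 1 := congrArg Subtype.val h2
      rw [h3, orderOf_one] at ha2; omega
    · exact Or.inl (congrArg Subtype.val h2)
    · exact Or.inr (Or.inl (congrArg Subtype.val h2))
    · exact Or.inr (Or.inr (congrArg Subtype.val h2))
  have hc1 : IsConj z z1 := isConj_iff.2 ⟨n, hz1.symm⟩
  have ho3 : orderOf (z1 * z) = 2 := orderOf_eq_prime q3 z3ne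
  refine ⟨z, z1, hz2, hz, m1, by rw [pow_two]; exact q1, k1, hne, z1ne, fun a ha hza => ?_, hc1, ?_, fun g hg => by
    rw [mem_centralizer_singleton_iff]; exact hzc g hg⟩
  · refine hall a ha ?_
    rw [← hz2]
    exact (M11ByOrder.isConj_order hza).symm
  · obtain ⟨m, hm, hmne⟩ := hfix (z1 * z) (mul_mem m1 hz) ho3
    have h1 : IsConj (z1 * z) (m * (z1 * z) * m⁻¹) := isConj_iff.2 ⟨m, rfl⟩
    rcases hall (m * (z1 * z) * m⁻¹) (conj_mem_cent hm (mul_mem m1 hz)) (by rw [← M11ByOrder.isConj_order h1]; exact ho3) with h2 | h2 | h2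
    · rw [h2] at h1; exact h1.symm
    · rw [h2] at h1; exact hc1.trans h1.symm
    · exact absurd h2 hmne

end Cfsg.Agent.Lib.M22N
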