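import Mathlib
import Cfsg.Agent.Lib.M22V
import Cfsg.Agent.Lib.M22W
import Cfsg.Agent.Lib.M12N

/-!
# Simple groups of order 443520, part X: the principal 11-block at an involution commuting with an element of order 7 (helper7)
-/

set_option autoImplicit false
set_option linter.all false

namespace Cfsg.Agent.Lib.M22N

open Subgroup Cfsg Cfsg.Agent.Lib.CharBasic Cfsg.Agent.Lib.ColTools Cfsg.Agent.Lib.SmallSimple
  Cfsg.Agent.Lib.PBlock Cfsg.Agent.Lib.QBlk
open Cfsg.Agent.Lib.M12ByOrder (norm_list)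
open scoped ComplexConjugate

universe u

variable {G : Type u} [Group G] [Finite G] [IsSimpleGroup G]

structure VD (I d : ℕ) (v : ℤ) : Prop where
  om : ((I : ℤ) * v) % d = 0
  m4 : (v - d) % 4 = 0
  lo : -(d : ℤ) < v
  hi : v < d
  nm : (I : ℤ) * v ^ 2 ≤ 443520

theorem VD.rg {I d : ℕ} {v : ℤ} (h : VD I d v) (hI : 22 ≤ I) : v ∈ RG := by
  have h1 := h.nm
  have h2 : (22 : ℤ) ≤ I := by exact_mod_cast hI
  have h3 : 22 * v ^ 2 ≤ 443520 := le_trans (mul_le_mul_of_nonneg_right h2 (sq_nonneg v)) h1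
  apply mem_RG
  · nlinarith
  · nlinarith

theorem okS_of {I d : ℕ} {v : ℤ} (h : VD I d v) (h7 : ((7 : ℕ) : ℤ) ∣ I * v ^ 2 - d * d) : okS I d v = true := by
  simp only [okS, Bool.and_eq_true, beq_iff_eq, decide_eq_true_eq]
  exact ⟨h.om, h.m4, Int.emod_eq_zero_of_dvd h7, h.lo, h.hi, h.nm⟩

theorem okV_of {I d : ℕ} {v : ℤ} (h : VD I d v) (h7 : ((7 : ℕ) : ℤ) ∣ I * v ^ 2 - d * (d + 2 * v)) : okV I d v = true := by
  simp only [okV, Bool.and_eq_true, beq_iff_eq, decide_eq_true_eq]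
  exact ⟨h.om, h.m4, Int.emod_eq_zero_of_dvd h7, h.lo, h.hi, h.nm⟩

theorem card_index (hG : Nat.card G = 443520) {z : G} {I : ℕ} (hI : (centralizer ({z} : Set G)).index = I) :
    Nat.card (centralizer ({z} : Set G)) * I = 443520 := by
  have h9 := Subgroup.card_mul_index (centralizer ({z} : Set G))
  rwa [hI, hG] at h9

theorem exists_vd (hG : Nat.card G = 443520) {z : G} (hz : orderOf z = 2) {I : ℕ} (hI : (centralizer ({z} : Set G)).index = I)
    {χ : IrrCharacter G} (hχ : χ ≠ triv G) : ∃ v : ℤ, (χ : G → ℂ) z = v ∧ VD I (deg χ) v := by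
  have hna := nca hG
  have hz2 : z ^ 2 = 1 := by rw [← hz]; exact pow_orderOf_eq_one z
  have hz1 : z ≠ 1 := fun h => by rw [h, orderOf_one] at hz; norm_num at hz
  obtain ⟨v, h1, h2, h3, h4, h5⟩ := val_inv hna χ z hz2
  obtain ⟨h6, h7⟩ := h5 hz1 hχ
  refine ⟨v, h1, ?_, by omega, h6, h7, ?_⟩
  · have h8 := BlockGA.isIntegral_centralChar χ.2 z
    have hd : (deg χ : ℂ) ≠ 0 := by exact_mod_cast (deg_pos χ).ne'
    have h9 : centralChar (χ : G → ℂ) z = ((((I : ℤ) * v : ℤ) / (deg χ : ℤ) : ℚ) : ℂ) := by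
      rw [centralChar, hI, h1, apply_one]; push_cast; ring
    obtain ⟨k, hk⟩ := CharCentral.exists_int_of_isIntegral_rat h8 _ h9
    rw [h9] at hk
    have h10 : ((I : ℤ) * v : ℤ) = deg χ * k := by
      have : (((I : ℤ) * v : ℤ) : ℂ) = ((deg χ * k : ℤ) : ℂ) := by
        push_cast; push_cast at hk; rw [← hk]; field_simp
      exact_mod_cast this
    rw [h10]; exact Int.mul_emod_right _ _
  · have h8 := norm_list (L := [χ]) (List.nodup_singleton _) (g := z) (f := fun _ => v)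
      (fun ψ hψ => by rw [List.mem_singleton.1 hψ]; exact h1)
    simp only [List.map_cons, List.map_nil, List.sum_cons, List.sum_nil, add_zero] at h8
    have h9 := card_index hG hI
    have h10 : (Nat.card (centralizer ({z} : Set G)) : ℤ) * I = 443520 := by exact_mod_cast h9
    have h11 : (0 : ℤ) ≤ I := by positivity
    calc (I : ℤ) * v ^ 2 ≤ I * Nat.card (centralizer ({z} : Set G)) := mul_le_mul_of_nonneg_left h8 h11
      _ = 443520 := by rw [mul_comm, h10]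

section

variable {x z : G} {A : Fin 4 → IrrCharacter G} {m : Fin 4 → ℤ} {Y : IrrCharacter G} {a : ℤ}

omit [IsSimpleGroup G] in
theorem qb_nodup (b : QB 11 4 x A m Y a) : [triv G, A 0, A 1, A 2, A 3, Y, cc Y].Nodup := by
  have h : ∀ i j : Fin 4, i ≠ j → A i ≠ A j := fun i j hij h => hij (b.inj h)
  simp only [List.nodup_cons, List.mem_cons, List.not_mem_nil, or_false, not_or, List.nodup_nil, and_true,
    not_false_eq_true]
  exact ⟨⟨(b.At 0).symm, (b.At 1).symm, (b.At 2).symm, (b.At 3).symm, b.Yt.symm, b.cYt.symm⟩,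
    ⟨h 0 1 (by decide), h 0 2 (by decide), h 0 3 (by decide), b.AY 0, b.AcY 0⟩,
    ⟨h 1 2 (by decide), h 1 3 (by decide), b.AY 1, b.AcY 1⟩,
    ⟨h 2 3 (by decide), b.AY 2, b.AcY 2⟩, ⟨b.AY 3, b.AcY 3⟩, b.cYY.symm⟩

theorem mem_XT (hG : Nat.card G = 443520) (b : QB 11 4 x A m Y a) (i : Fin 4) : (m i, deg (A i)) ∈ XT := by
  have h1 := memAD1 hG (A i)
  have h2 : deg (A i) ≠ 1 := fun h => b.At i (eq_triv_of_deg_one (nca hG) h)
  obtain ⟨s, -, hs⟩ := b.degA i
  have h4 := ar_XT _ h1 h2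
  rcases b.m_pm i with h | h <;> rw [h] at hs ⊢
  · exact h4.1 (by omega)
  · exact h4.2.1 (by omega)

theorem mem_YT (hG : Nat.card G = 443520) (b : QB 11 4 x A m Y a) : (a, deg Y) ∈ YT := by
  have h1 := memAD1 hG Y
  have h2 : deg Y ≠ 1 := fun h => b.Yt (eq_triv_of_deg_one (nca hG) h)
  obtain ⟨s, -, hs⟩ := b.degY
  have h4 := ar_XT _ h1 h2
  rcases b.a_pm with h | h <;> rw [h] at hs ⊢
  · exact h4.2.2.2 (by omega)
  · exact h4.2.2.1 (by omega)

theorem nr11' (hG : Nat.card G = 443520) (hx : orderOf x = 11) : ¬ IsConj x x⁻¹ := by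
  have : Fact (Nat.Prime 11) := ⟨by norm_num⟩
  exact (QRConj.qr x hx (by norm_num) (by rw [elt11 hG x hx]) (c11' hG hx)).2

theorem fin3_of (hG : Nat.card G = 443520) (hx : orderOf x = 11) (hz : orderOf z = 2) (b : QB 11 4 x A m Y a) {I : ℕ}
    (hI : (centralizer ({z} : Set G)).index = I) {v : Fin 4 → ℤ} {w : ℤ} (hv : ∀ i, (A i : G → ℂ) z = v i) (hw : (Y : G → ℂ) z = w) :
    fin3 I (m 0, deg (A 0), v 0) (m 1, deg (A 1), v 1) (m 2, deg (A 2), v 2) (m 3, deg (A 3), v 3) (a, deg Y, w) = true := by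
  classical
  have hz2 : z ^ 2 = 1 := by rw [← hz]; exact pow_orderOf_eq_one z
  have h1 := b.rel1 hx (by norm_num)
  obtain ⟨n1, n2⟩ := QBlk.not_isConj_of_order hx (g := z) (by rw [hz]; norm_num)
  have h2 := b.rel z n1 n2
  have h3 := b.E_inv (N := 40320) (by norm_num) (by rw [hG]) hx (nr11' hG hx) hz2 hv hw
  simp only [hv, hw, Fin.sum_univ_four] at h2
  rw [Fin.sum_univ_four] at h1 h3
  obtain ⟨f, hf⟩ : ∃ f : IrrCharacter G → ℤ, ∀ χ ∈ [triv G, A 0, A 1, A 2, A 3, Y, cc Y], (χ : G → ℂ) z = f χ := by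
    choose f hf _ using fun χ : IrrCharacter G => val_inv (nca hG) χ z hz2
    exact ⟨f, fun χ _ => hf χ⟩
  have h4 := norm_list (qb_nodup b) (g := z) (f := f) hf
  have g0 : f (triv G) = 1 := by
    have := hf (triv G) (by simp)
    rw [triv_apply] at this
    exact_mod_cast this.symm
  have gA : ∀ i, A i ∈ [triv G, A 0, A 1, A 2, A 3, Y, cc Y] → f (A i) = v i := by
    intro i hi
    have := hf (A i) hi
    rw [hv] at this
    exact_mod_cast this.symm
  have gY : f Y = w := by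
    have := hf Y (by simp)
    rw [hw] at this
    exact_mod_cast this.symm
  have gcY : f (cc Y) = w := by
    have := hf (cc Y) (by simp)
    rw [cc_apply, hw, map_intCast] at this
    exact_mod_cast this.symm
  simp only [List.map_cons, List.map_nil, List.sum_cons, List.sum_nil, add_zero] at h4
  rw [g0, gA 0 (by simp), gA 1 (by simp), gA 2 (by simp), gA 3 (by simp), gY, gcY] at h4
  have h5 : (Nat.card (centralizer ({z} : Set G)) : ℤ) * I = 443520 := by exact_mod_cast card_index hG hI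
  have h6 : (0 : ℤ) ≤ I := by positivity
  simp only [fin3, Bool.and_eq_true, beq_iff_eq, decide_eq_true_eq]
  refine ⟨h1, by exact_mod_cast h2, h3, ?_⟩
  calc (I : ℤ) * (1 + (v 0 ^ 2 + v 1 ^ 2 + v 2 ^ 2 + v 3 ^ 2) + 2 * w ^ 2) ≤ I * Nat.card (centralizer ({z} : Set G)) := by
        apply mul_le_mul_of_nonneg_left _ h6
        linarith only [h4]
    _ = 443520 := by rw [mul_comm, h5]

/-- `11` does not divide the order of the centralizer of an involution -/
theorem not11 (hG : Nat.card G = 443520) (hz : orderOf z = 2) : ¬ 11 ∣ Nat.card (centralizer ({z} : Set G)) := by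
  intro h
  have : Fact (Nat.Prime 11) := ⟨by norm_num⟩
  have : Fact (Nat.Prime 2) := ⟨by norm_num⟩
  obtain ⟨y, hy⟩ := exists_prime_orderOf_dvd_card' (G := centralizer ({z} : Set G)) 11 h
  have hy' : orderOf (y : G) = 11 := by rw [Subgroup.orderOf_coe, hy]
  have h1 := c11' hG hy'
  have h2 : z ∈ centralizer ({(y : G)} : Set G) := by
    rw [mem_centralizer_singleton_iff]
    exact (mem_centralizer_singleton_iff.1 y.2).symm
  have h3 := orderOf_dvd_natCard (⟨z, h2⟩ : centralizer ({(y : G)} : Set G))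
  rw [Subgroup.orderOf_mk, hz, h1] at h3
  norm_num at h3

theorem ar_IS : ∀ I ∈ Nat.divisors 2640, 11 ∣ I → I % 7 = 1 → I = 22 ∨ I = 176 ∨ I = 330 ∨ I = 2640 := by decide +kernel
theorem ar_IV : ∀ I ∈ Nat.divisors 15840, 11 ∣ I → I % 7 = 3 → I = 66 ∨ I = 220 ∨ I = 528 ∨ I = 990 ∨ I = 1760 ∨ I = 7920 := by decide +kernel

theorem dvd_index (hG : Nat.card G = 443520) (hz : orderOf z = 2) {I : ℕ} (hI : (centralizer ({z} : Set G)).index = I) {k N : ℕ}
    (hk : k ∣ Nat.card (centralizer ({z} : Set G))) (hN : 443520 = k * N) (hk0 : 0 < k) : I ∣ N ∧ 11 ∣ I := by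
  have h1 := card_index hG hI
  refine ⟨?_, ?_⟩
  · obtain ⟨t, ht⟩ := hk
    refine ⟨t, ?_⟩
    rw [ht, hN, mul_assoc] at h1
    rw [← Nat.eq_of_mul_eq_mul_left hk0 h1, mul_comm]
  · have h2 : 11 ∣ Nat.card (centralizer ({z} : Set G)) * I := by rw [h1]; norm_num
    exact ((Nat.Prime.dvd_mul (by norm_num)).1 h2).resolve_left (not11 hG hz)

theorem S_case (hG : Nat.card G = 443520) {P : Subgroup G} (hP : Nat.card P = 7) (s : SZ P z) (hN : 168 ∣ Nat.card (centralizer ({z} : Set G)))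
    (hx : orderOf x = 11) (b : QB 11 4 x A m Y a) :
    (centralizer ({z} : Set G)).index = 330 ∧ ∃ v : Fin 4 → ℤ, ∃ w : ℤ, (∀ i, (A i : G → ℂ) z = v i) ∧ (Y : G → ℂ) z = w ∧
      good3 330 (m 0, deg (A 0), v 0) (m 1, deg (A 1), v 1) (m 2, deg (A 2), v 2) (m 3, deg (A 3), v 3) (a, deg Y, w) = true := by
  obtain ⟨I, hI⟩ : ∃ I, (centralizer ({z} : Set G)).index = I := ⟨_, rfl⟩
  have hz2 : z ^ 2 = 1 := by rw [← s.o]; exact pow_orderOf_eq_one z
  choose v hv1 hv2 using fun i => exists_vd hG s.o hI (b.At i)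
  obtain ⟨w, hw1, hw2⟩ := exists_vd hG s.o hI b.Yt
  obtain ⟨d1, d2⟩ := dvd_index hG s.o hI hN (N := 2640) (by norm_num) (by norm_num)
  have c0 := congrS (p := 7) hP (triv G) s.mem hz2 s.fus (v := 1) (by rw [triv_apply]; norm_num)
  rw [hI, deg_triv] at c0
  have hIm : I = 22 ∨ I = 176 ∨ I = 330 ∨ I = 2640 :=
    ar_IS I (Nat.mem_divisors.2 ⟨d1, by norm_num⟩) d2 (by push_cast at c0; omega)
  have hI22 : 22 ≤ I := by omega
  have hA : ∀ i, okS I (deg (A i)) (v i) = true := fun i => okS_of (hv2 i) (by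
    have := congrS (p := 7) hP (A i) s.mem hz2 s.fus (hv1 i)
    rwa [hI] at this)
  have hY : okS I (deg Y) w = true := okS_of hw2 (by
    have := congrS (p := 7) hP Y s.mem hz2 s.fus hw1
    rwa [hI] at this)
  have hA' := fun i => mem_XT hG b i
  have hY' := mem_YT hG b
  have hAr := fun i => (hv2 i).rg hI22
  have hYr := hw2.rg hI22
  have hf := fin3_of hG hx s.o b hI hv1 hw1
  have m1 := b.mono (by decide : (0 : Fin 4) ≤ 1)
  have m2 := b.mono (by decide : (1 : Fin 4) ≤ 2)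
  have m3 := b.mono (by decide : (2 : Fin 4) ≤ 3)
  rcases hIm with rfl | rfl | rfl | rfl
  · have hX := fun i => mXS22.1 _ (hA' i) _ (hAr i) (hA i)
    exact absurd (of_run3 rS22 (hX 0) (hX 1) (hX 2) (hX 3) (mXS22.2 _ hY' _ hYr hY) m1 m2 m3 hf).1 (by decide)
  · have hX := fun i => mXS176.1 _ (hA' i) _ (hAr i) (hA i)
    exact absurd (of_run3 rS176 (hX 0) (hX 1) (hX 2) (hX 3) (mXS176.2 _ hY' _ hYr hY) m1 m2 m3 hf).1 (by decide)
  · have hX := fun i => mXS330.1 _ (hA' i) _ (hAr i) (hA i)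
    exact ⟨hI, v, w, hv1, hw1, (of_run3 rS330 (hX 0) (hX 1) (hX 2) (hX 3) (mXS330.2 _ hY' _ hYr hY) m1 m2 m3 hf).2⟩
  · have hX := fun i => mXS2640.1 _ (hA' i) _ (hAr i) (hA i)
    exact absurd (of_run3 rS2640 (hX 0) (hX 1) (hX 2) (hX 3) (mXS2640.2 _ hY' _ hYr hY) m1 m2 m3 hf).1 (by decide)

theorem V_case (hG : Nat.card G = 443520) {P : Subgroup G} (hP : Nat.card P = 7) {z1 : G} (s : VZ P z z1) (hN : 28 ∣ Nat.card (centralizer ({z} : Set G)))
    (hx : orderOf x = 11) (b : QB 11 4 x A m Y a) : False := by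
  obtain ⟨I, hI⟩ : ∃ I, (centralizer ({z} : Set G)).index = I := ⟨_, rfl⟩
  have hz2 : z ^ 2 = 1 := by rw [← s.o]; exact pow_orderOf_eq_one z
  have hzn : z ≠ 1 := fun h => by
    have := s.o
    rw [h, orderOf_one] at this; norm_num at this
  choose v hv1 hv2 using fun i => exists_vd hG s.o hI (b.At i)
  obtain ⟨w, hw1, hw2⟩ := exists_vd hG s.o hI b.Yt
  obtain ⟨d1, d2⟩ := dvd_index hG s.o hI hN (N := 15840) (by norm_num) (by norm_num)
  have cg : ∀ (χ : IrrCharacter G) {v : ℤ}, (χ : G → ℂ) z = v → ((7 : ℕ) : ℤ) ∣ I * v ^ 2 - deg χ * (deg χ + 2 * v) := by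
    intro χ v hv
    have := congrV (p := 7) hP χ s.mem s.mem1 hz2 s.comm s.sq1 s.ne hzn s.ne1 s.fus s.c1 s.c2 hv
    rwa [hI] at this
  have c0 := cg (triv G) (v := 1) (by rw [triv_apply]; norm_num)
  rw [deg_triv] at c0
  have hIm : I = 66 ∨ I = 220 ∨ I = 528 ∨ I = 990 ∨ I = 1760 ∨ I = 7920 :=
    ar_IV I (Nat.mem_divisors.2 ⟨d1, by norm_num⟩) d2 (by push_cast at c0; omega)
  have hI22 : 22 ≤ I := by omega
  have hA : ∀ i, okV I (deg (A i)) (v i) = true := fun i => okV_of (hv2 i) (cg _ (hv1 i))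
  have hY : okV I (deg Y) w = true := okV_of hw2 (cg _ hw1)
  have hA' := fun i => mem_XT hG b i
  have hY' := mem_YT hG b
  have hAr := fun i => (hv2 i).rg hI22
  have hYr := hw2.rg hI22
  have hf := fin3_of hG hx s.o b hI hv1 hw1
  have m1 := b.mono (by decide : (0 : Fin 4) ≤ 1)
  have m2 := b.mono (by decide : (1 : Fin 4) ≤ 2)
  have m3 := b.mono (by decide : (2 : Fin 4) ≤ 3)
  rcases hIm with rfl | rfl | rfl | rfl | rfl | rfl
  · have hX := fun i => mXV66.1 _ (hA' i) _ (hAr i) (hA i)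
    exact absurd (of_run3 rV66 (hX 0) (hX 1) (hX 2) (hX 3) (mXV66.2 _ hY' _ hYr hY) m1 m2 m3 hf).1 (by decide)
  · have hX := fun i => mXV220.1 _ (hA' i) _ (hAr i) (hA i)
    exact absurd (of_run3 rV220 (hX 0) (hX 1) (hX 2) (hX 3) (mXV220.2 _ hY' _ hYr hY) m1 m2 m3 hf).1 (by decide)
  · have hX := fun i => mXV528.1 _ (hA' i) _ (hAr i) (hA i)
    exact absurd (of_run3 rV528 (hX 0) (hX 1) (hX 2) (hX 3) (mXV528.2 _ hY' _ hYr hY) m1 m2 m3 hf).1 (by decide)
  · have hX := fun i => mXV990.1 _ (hA' i) _ (hAr i) (hA i)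
    exact absurd (of_run3 rV990 (hX 0) (hX 1) (hX 2) (hX 3) (mXV990.2 _ hY' _ hYr hY) m1 m2 m3 hf).1 (by decide)
  · have hX := fun i => mXV1760.1 _ (hA' i) _ (hAr i) (hA i)
    exact absurd (of_run3 rV1760 (hX 0) (hX 1) (hX 2) (hX 3) (mXV1760.2 _ hY' _ hYr hY) m1 m2 m3 hf).1 (by decide)
  · have hX := fun i => mXV7920.1 _ (hA' i) _ (hAr i) (hA i)
    exact absurd (of_run3 rV7920 (hX 0) (hX 1) (hX 2) (hX 3) (mXV7920.2 _ hY' _ hYr hY) m1 m2 m3 hf).1 (by decide)

end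

end Cfsg.Agent.Lib.M22N
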