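import Mathlib
import Cfsg.Agent.Lib.PBlock
import Cfsg.Agent.Lib.PBlock2

/-!
# Principal blocks of defect one without exceptional characters: relations and multiplicities (helper7)
-/

set_option autoImplicit false
set_option linter.all false

namespace Cfsg.Agent.Lib.PBlock

open Cfsg Cfsg.Agent.Lib.BlockRing Cfsg.Agent.Lib.BlockGA Cfsg.Agent.Lib.BlockIdem
open Cfsg.Agent.Lib.DefOneLoc Cfsg.Agent.Lib.DefOneOrd Cfsg.Agent.Lib.CharBasic Cfsg.Agent.Lib.DefOneGram
open Cfsg.Agent.Lib.DefOne Cfsg.Agent.Lib.DefOnePrin Cfsg.Agent.Lib.BRB0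
open Cfsg.Agent.Lib.BRNum Cfsg.Agent.Lib.BRDeg Cfsg.Agent.Lib.BRCore
open Cfsg.Agent.Lib.ColTools (deg apply_one deg_dvd deg_pos)
open scoped ComplexConjugate

universe u

variable {G : Type u} [Group G] [Finite G] {p : ℕ} [hp : Fact p.Prime]

structure PBM (p : ℕ) (P : Subgroup G) where
  X : Finset (IrrCharacter G)
  δ : IrrCharacter G → ℤ
  cardX : X.card = p
  tX : ColTools.triv G ∈ X
  tδ : δ (ColTools.triv G) = 1
  δ_pm : ∀ χ ∈ X, δ χ = 1 ∨ δ χ = -1
  valX : ∀ χ ∈ X, ∀ c ∈ Subgroup.centralizer (P : Set G), p ∣ orderOf c → (χ : G → ℂ) c = δ χ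
  rel : ∀ g : G, ¬ p ∣ orderOf g → ∑ χ ∈ X, (δ χ : ℂ) * (χ : G → ℂ) g = 0
  degX : ∀ χ ∈ X, ∃ k : ℤ, (deg χ : ℤ) = k * p + δ χ
  mult : ∀ φ : G → ℂ, IsClassFunction G φ → ∀ a : ℂ, (∀ c ∈ Subgroup.centralizer (P : Set G), p ∣ orderOf c → φ c = a) →
    ∀ [Fintype G], ∑ χ ∈ X, (δ χ : ℂ) * classInner φ (χ : G → ℂ) = a

theorem exists_pbm (P : Sylow p G) (hP : Nat.card P = p)
    (he : (Subgroup.centralizer ((P : Subgroup G) : Set G)).relIndex (Subgroup.normalizer ((P : Subgroup G) : Set G)) + 1 = p) :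
    Nonempty (PBM p (P : Subgroup G)) := by
  classical
  letI : Fintype G := Fintype.ofFinite G
  obtain ⟨D, hC, ⟨B⟩⟩ := exists_B0 P hP
  have hr : Nat.card (κu D).range + 1 = p := by rw [card_range, he]
  have ht : Nat.card (Tau D) = 1 := by
    have h1 := p_eq D
    have he0 : 0 < Nat.card (κu D).range := Nat.card_pos
    have h2 : Nat.card (κu D).range * Nat.card (Tau D) = Nat.card (κu D).range * 1 := by omega
    exact Nat.eq_of_mul_eq_mul_left he0 h2
  obtain ⟨q⟩ : Nonempty (Tau D) := inferInstance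
  have hsub : Subsingleton (Tau D) := Finite.card_le_one_iff_subsingleton.1 ht.le
  have hall : ∀ i : (ZMod p)ˣ, (i : Tau D) = q := fun i => Subsingleton.elim _ _
  have hdm : ∀ i : (ZMod p)ˣ, dm D (B.Y q : G → ℂ) (BlockThird.triv _) i = B.s := by
    intro i
    rw [B.dmY, if_pos (hall i)]
  let δ : IrrCharacter G → ℤ := fun χ => if χ = B.Y q then -B.s else B.δ χ
  have hδY : δ (B.Y q) = -B.s := if_pos rfl
  have hδX : ∀ χ ∈ B.X, δ χ = B.δ χ := fun χ hχ => if_neg (fun (h : χ = B.Y q) => B.disj q (h ▸ hχ))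
  have hsum : ∀ f : IrrCharacter G → ℂ, ∑ χ ∈ insert (B.Y q) B.X, (δ χ : ℂ) * f χ =
      ∑ χ ∈ B.X, (B.δ χ : ℂ) * f χ - B.s * f (B.Y q) := by
    intro f
    rw [Finset.sum_insert (B.disj q), hδY, Finset.sum_congr rfl (fun χ hχ => by rw [hδX χ hχ])]
    push_cast; ring
  have htr : (BlockThird.triv G : IrrCharacter G) = ColTools.triv G := Subtype.ext rfl
  have hlreg : ∀ c (hc : c ∈ Subgroup.centralizer ((P : Subgroup G) : Set G)), p ∣ orderOf c →
      D.l ⟨c, hc⟩ ≠ 0 := by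
    intro c hc h h0
    exact (D.l_reg ⟨c, hc⟩).1 h0 h
  have htriv : BlockThird.triv G ∈ insert (B.Y q) B.X ∧ δ (BlockThird.triv G) = 1 := by
    by_cases h1 : BlockThird.triv G ∈ B.X
    · refine ⟨Finset.mem_insert_of_mem h1, ?_⟩
      rw [hδX _ h1]
      have h2 := B.dmX _ h1 1
      rw [dm_triv] at h2
      have h3 : (B.δ (BlockThird.triv G) : ℂ) = 1 := by linear_combination h2
      exact_mod_cast h3
    · by_cases h2 : BlockThird.triv G = B.Y q
      · refine ⟨by rw [h2]; exact Finset.mem_insert_self _ _, ?_⟩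
        have h3 := hdm 1
        rw [← h2, dm_triv] at h3
        rw [h2, hδY]
        have h4 : (-B.s : ℂ) = 1 := by linear_combination h3
        exact_mod_cast h4
      · exfalso
        have h3 := B.dmO _ h1 (fun q' => by rw [Subsingleton.elim q' q]; exact h2) 1
        rw [dm_triv] at h3
        norm_num at h3
  rw [htr] at htriv
  refine ⟨⟨insert (B.Y q) B.X, δ, ?_, htriv.1, htriv.2, ?_, ?_, ?_, ?_, ?_⟩⟩
  · rw [Finset.card_insert_of_notMem (B.disj q), B.cardX, hr]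
  · intro χ hχ
    rcases Finset.mem_insert.1 hχ with rfl | hχ
    · rw [hδY]
      rcases B.s_pm with h | h <;> rw [h] <;> simp
    · rw [hδX χ hχ]; exact B.δ_pm χ hχ
  · intro χ hχ c hc h
    have hl := hlreg c hc h
    rcases Finset.mem_insert.1 hχ with rfl | hχ
    · have h0 := B.valY q ⟨c, hc⟩ hl
      rw [show (B.Y q : G → ℂ) c = (B.Y q : G → ℂ) ((⟨c, hc⟩ : Subgroup.centralizer ((P : Subgroup G) : Set G)) : G) from rfl, h0, hδY]
      have h1 : ∑ i : (ZMod p)ˣ, (if (i : Tau D) = q then lam D (i : ZMod p) ⟨c, hc⟩ else 0) = -1 := by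
        rw [← sum_units_lam D hl]
        exact Finset.sum_congr rfl fun i _ => if_pos (hall i)
      rw [h1]; push_cast; ring
    · rw [hδX χ hχ]; exact B.valX χ hχ ⟨c, hc⟩ hl
  · intro g hg
    rw [hsum, ← B.rel q g hg, sub_self]
  · intro χ hχ
    rcases Finset.mem_insert.1 hχ with rfl | hχ
    · obtain ⟨k, hk⟩ := B.degY q
      have h1 := p_eq D
      rw [ht, mul_one] at h1
      refine ⟨k + B.s, ?_⟩
      have h2 : (Nat.card (κu D).range : ℤ) = p - 1 := by
        have : (p : ℤ) = Nat.card (κu D).range + 1 := by exact_mod_cast h1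
        linarith
      rw [← deg_eq, hk, hδY, h2]; ring
    · rw [hδX χ hχ]
      obtain ⟨k, hk⟩ := B.degX χ hχ
      exact ⟨k, by rw [← deg_eq, hk]⟩
  · intro φ hφ a ha inst
    obtain rfl : inst = Fintype.ofFinite G := Subsingleton.elim _ _
    rw [hsum]
    refine B.mult hφ ?_ q
    intro c hc
    exact ha c c.2 (sing_of_l' D c hc)

end Cfsg.Agent.Lib.PBlock
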