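import Mathlib
import Cfsg.Agent.Lib.M22X
import Cfsg.Agent.Lib.M22H
import Cfsg.Agent.Lib.PBM
import Cfsg.Agent.Lib.SqSplit
import Cfsg.Agent.Lib.AlgTrickD
import Cfsg.Agent.Lib.FrobSchur2

/-!
# Simple groups of order 443520, part Y: the Sylow 7-normalizer (helper7)
-/

set_option autoImplicit false
set_option linter.all false

namespace Cfsg.Agent.Lib.M22N

open Subgroup Cfsg Cfsg.Agent.Lib.CharBasic Cfsg.Agent.Lib.ColTools Cfsg.Agent.Lib.SmallSimple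
  Cfsg.Agent.Lib.PBlock Cfsg.Agent.Lib.QBlk Cfsg.Agent.Lib.SqSplit
open Cfsg.Agent.Lib.M12ByOrder (norm_list)
open scoped ComplexConjugate

universe u

variable {G : Type u} [Group G] [Finite G] [IsSimpleGroup G]

structure E22 (x z : G) (A : Fin 4 → IrrCharacter G) (m : Fin 4 → ℤ) (Y : IrrCharacter G) (a : ℤ) : Prop where
  card : Nat.card G = 443520
  hx : orderOf x = 11
  b : QB 11 4 x A m Y a
  oz : orderOf z = 2
  cz : Nat.card (centralizer ({z} : Set G)) = 1344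
  m0 : m 0 = -1
  d0 : deg (A 0) = 21
  z0 : (A 0 : G → ℂ) z = -7
  m1 : m 1 = -1
  d1 : deg (A 1) = 120
  z1 : (A 1 : G → ℂ) z = 8
  m2 : m 2 = 1
  d2 : deg (A 2) = 210
  z2 : (A 2 : G → ℂ) z = -14 ∨ (A 2 : G → ℂ) z = 14
  m3 : m 3 = 1
  d3 : deg (A 3) = 210
  z3 : (A 3 : G → ℂ) z = -14 ∨ (A 3 : G → ℂ) z = 14
  a1 : a = -1
  dY : deg Y = 280

variable {x z : G} {A : Fin 4 → IrrCharacter G} {m : Fin 4 → ℤ} {Y : IrrCharacter G} {a : ℤ}

theorem E22_of_S (hG : Nat.card G = 443520) {P : Subgroup G} (hP : Nat.card P = 7) (s : SZ P z) (hN : 168 ∣ Nat.card (centralizer ({z} : Set G)))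
    (hx : orderOf x = 11) (b : QB 11 4 x A m Y a) : E22 x z A m Y a := by
  obtain ⟨hI, v, w, hv, hw, hg⟩ := S_case hG hP s hN hx b
  have hc := card_index hG hI
  simp only [good3, Bool.and_eq_true, Bool.or_eq_true, beq_iff_eq, Prod.mk.injEq] at hg
  obtain ⟨-, ⟨a1, a2, a3⟩, ⟨b1, b2, b3⟩, ⟨e1, e2, e3⟩, h⟩ := hg
  refine ⟨hG, hx, b, s.o, by omega, a1, a2, by rw [hv, a3]; norm_num, b1, b2, by rw [hv, b3]; norm_num, ?_, ?_, ?_, ?_, ?_, ?_, e1, e2⟩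
  · rcases h with ⟨⟨h, -⟩, -⟩ | ⟨⟨h, -⟩, -⟩ <;> exact h
  · rcases h with ⟨⟨-, h, -⟩, -⟩ | ⟨⟨-, h, -⟩, -⟩ <;> exact h
  · rcases h with ⟨⟨-, -, h⟩, -⟩ | ⟨⟨-, -, h⟩, -⟩
    · left; rw [hv, h]; norm_num
    · right; rw [hv, h]; norm_num
  · rcases h with ⟨-, h, -⟩ | ⟨-, h, -⟩ <;> exact h
  · rcases h with ⟨-, -, h, -⟩ | ⟨-, -, h, -⟩ <;> exact h
  · rcases h with ⟨-, -, -, h⟩ | ⟨-, -, -, h⟩
    · right; rw [hv, h]; norm_num
    · left; rw [hv, h]; norm_num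

namespace E22

variable (E : E22 x z A m Y a)
include E

theorem v7 {g : G} (hg : 7 ∣ orderOf g) :
    (A 0 : G → ℂ) g = 0 ∧ (A 1 : G → ℂ) g = 1 ∧ (A 2 : G → ℂ) g = 0 ∧ (A 3 : G → ℂ) g = 0 ∧ (Y : G → ℂ) g = 0 := by
  have hn : ¬ 7 ^ (1 + 1) ∣ Nat.card G := by rw [E.card]; norm_num
  have h0 := vanish (A 0) 7 1 (by norm_num) hn (by rw [E.d0]; norm_num) g hg
  have h2 := vanish (A 2) 7 1 (by norm_num) hn (by rw [E.d2]; norm_num) g hg
  have h3 := vanish (A 3) 7 1 (by norm_num) hn (by rw [E.d3]; norm_num) g hg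
  have hY := vanish Y 7 1 (by norm_num) hn (by rw [E.dY]; norm_num) g hg
  obtain ⟨n1, n2⟩ := QBlk.not_isConj_of_order E.hx (g := g) (by intro h; rw [h] at hg; norm_num at hg)
  have h4 := E.b.rel g n1 n2
  rw [Fin.sum_univ_four, h0, h2, h3, hY, E.m1] at h4
  refine ⟨h0, ?_, h2, h3, hY⟩
  push_cast at h4
  linear_combination -h4

theorem c7 {g : G} (hg : 7 ∣ orderOf g) : Nat.card (centralizer ({g} : Set G)) ^ 2 ∣ 439824 := by
  obtain ⟨h0, h1, h2, h3, hY⟩ := E.v7 hg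
  have hv : ∀ i, (A i : G → ℂ) g = ((![0, 1, 0, 0] : Fin 4 → ℤ) i : ℤ) := by
    intro i
    fin_cases i
    · simpa using h0
    · simpa using h1
    · simpa using h2
    · simpa using h3
  have h4 := E.b.E (N := 40320) (by norm_num) (by rw [E.card]) E.hx hv hv (vY := 0) (wY := 0) (by rw [hY]; norm_num) (by rw [hY]; norm_num)
  rw [Fin.sum_univ_four, E.d1, E.m1] at h4
  simp only [Matrix.cons_val_zero, Matrix.cons_val_one, Matrix.cons_val, mul_zero, zero_mul, add_zero, zero_add, mul_one] at h4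
  norm_num at h4
  have h5 : ((Nat.card (centralizer ({g} : Set G)) ^ 2 : ℕ) : ℤ) ∣ ((439824 : ℕ) : ℤ) :=
    ⟨_, by push_cast; rw [← h4]; ring⟩
  exact_mod_cast h5

end E22

end Cfsg.Agent.Lib.M22N
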