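import Mathlib
import Cfsg.Agent.Lib.M22Y

/-!
# Simple groups of order 443520, part Z: the squares of the character of degree 21 (helper7)
-/

set_option autoImplicit false
set_option linter.all false

namespace Cfsg.Agent.Lib.M22N

open Subgroup Cfsg Cfsg.Agent.Lib.CharBasic Cfsg.Agent.Lib.ColTools Cfsg.Agent.Lib.SmallSimple
  Cfsg.Agent.Lib.PBlock Cfsg.Agent.Lib.QBlk Cfsg.Agent.Lib.SqSplit
open Cfsg.Agent.Lib.M12ByOrder (norm_list)
open scoped ComplexConjugate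

universe u

variable {G : Type u} [Group G] [Finite G]

theorem list_le {f : IrrCharacter G → ℕ} {L : List (IrrCharacter G)} (hL : L.Nodup) : (L.map f).sum ≤ ∑ χ, f χ := by
  classical
  rw [← List.sum_toFinset f hL]
  exact Finset.sum_le_sum_of_subset (Finset.subset_univ _)

theorem modX {p : ℕ} [hp : Fact p.Prime] (hp2 : p ≠ 2) {P : Subgroup G} (hP : Nat.card P = p) {χ : IrrCharacter G} {δ : ℤ}
    (hval : ∀ c ∈ centralizer (P : Set G), p ∣ orderOf c → (χ : G → ℂ) c = δ)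
    {a : G} (ha : a ∈ centralizer (P : Set G)) (ho : orderOf a = 2) {v : ℤ} (hv : (χ : G → ℂ) a = v) : (p : ℤ) ∣ v - δ := by
  have := Fintype.ofFinite P
  have ha2 : a ^ 2 = 1 := by rw [← ho]; exact pow_orderOf_eq_one _
  obtain ⟨n0, n1, h3, h4⟩ := fix_inv (p := p) χ.2.isCharacter (P := P) (N := centralizer (P : Set G)) hP
    (by
      intro n hn h hh
      have : h * n = n * h := Subgroup.mem_centralizer_iff.1 hn h hh
      rw [← this, mul_inv_cancel_right]; exact hh) ha ha2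
  have h6 := sum_const (χ := (χ : G → ℂ)) hP hval ha (by
    rw [ho]; intro h
    exact hp2 ((Nat.prime_dvd_prime_iff_eq hp.out Nat.prime_two).1 h))
  rw [h4, hv] at h6
  refine ⟨(n0 : ℤ) - n1 - δ, ?_⟩
  have : ((v - δ : ℤ) : ℂ) = ((p * ((n0 : ℤ) - n1 - δ) : ℤ) : ℂ) := by
    push_cast
    linear_combination -h6
  exact_mod_cast this

variable [IsSimpleGroup G] {x z : G} {A : Fin 4 → IrrCharacter G} {m : Fin 4 → ℤ} {Y : IrrCharacter G} {a : ℤ}

theorem nine_ne : ((9 : ℕ) : ZMod 11) ≠ 0 := by decide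
theorem nine_sq : IsSquare ((9 : ℕ) : ZMod 11) := ⟨3, by decide⟩

theorem ar_sp1 (n0 n1 n2 n3 n4 n5 n6 : ℕ) (h0 : n0 = 0) (h1 : n0 * 1 + (n1 * 21 + (n2 * 120 + (n3 * 210 + (n4 * 210 + (n5 * 280 + (n6 * 280 + 0)))))) ≤ 210)
    (h2 : (1 : ℤ) = n0 - n1 - n2 + n3 + n4) : n1 = 0 ∧ ((n3 = 1 ∧ n4 = 0) ∨ (n3 = 0 ∧ n4 = 1)) := by omega

theorem ar_sp2 (n0 n1 n2 n3 n4 n5 n6 : ℕ) (h0 : n0 = 1) (h1 : n0 * 1 + (n1 * 21 + (n2 * 120 + (n3 * 210 + (n4 * 210 + (n5 * 280 + (n6 * 280 + 0)))))) ≤ 231)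
    (h2 : (0 : ℤ) = n0 - n1 - n2 + n3 + n4) : n1 = 1 ∨ (n1 = 0 ∧ n2 = 1) := by omega

theorem ar_z5 (n5 n6 r : ℕ) (h : r + (n5 * 280 + (n6 * 280 + 0)) ≤ 231) : n5 = 0 ∧ n6 = 0 := by omega

namespace E22

variable (E : E22 x z A m Y a)
include E

theorem uniq21 (ψ : IrrCharacter G) (h : deg ψ = 21) : ψ = A 0 := by
  by_contra h0
  have h1 : ψ ≠ triv G := by rintro rfl; rw [deg_triv] at h; norm_num at h
  have h2 : ψ ≠ Y := by rintro rfl; rw [E.dY] at h; norm_num at h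
  have h3 : ψ ≠ cc Y := by rintro rfl; rw [deg_cc, E.dY] at h; norm_num at h
  have h4 := (E.b.out ψ h1 (fun i => by
    fin_cases i
    · exact h0
    · rintro rfl
      have := E.d1
      simp only [] at h
      change deg (A 1) = 21 at h
      omega
    · rintro rfl
      have := E.d2
      change deg (A 2) = 21 at h
      omega
    · rintro rfl
      have := E.d3
      change deg (A 3) = 21 at h
      omega) h2 h3).2.2
  rw [h] at h4
  norm_num at h4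

theorem x2 {V : G → ℤ} (hV : ∀ g, (A 0 : G → ℂ) g = V g) : V (x * x) = -1 := by
  have f11 : Fact (Nat.Prime 11) := ⟨by norm_num⟩
  have h1 := (QRConj.qr x E.hx (by norm_num) (by rw [elt11 E.card x E.hx]) (c11' E.card E.hx)).1 9 nine_ne nine_sq
  have h2 := apply_isConj (A 0) h1
  have h3 : x ^ 9 = (x * x)⁻¹ := by
    rw [eq_inv_iff_mul_eq_one, ← pow_two, ← pow_add]
    have := pow_orderOf_eq_one x
    rwa [E.hx] at this
  rw [(E.b.vA 0).1, E.m0, h3, ← conj_apply, hV, map_intCast] at h2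
  exact_mod_cast h2

theorem split [Fintype G] {V : G → ℤ} (hV : ∀ g, (A 0 : G → ℂ) g = V g) {μ ν : IrrCharacter G → ℕ} (S : Split (A 0) μ ν) :
    μ (triv G) = 1 ∧ ν (triv G) = 0 ∧ ν (A 0) = 0 ∧
    (∃ ψ : IrrCharacter G, ∀ g, ((A 0 : G → ℂ) g ^ 2 - (A 0 : G → ℂ) (g * g)) / 2 = (ψ : G → ℂ) g) ∧
    (μ (A 0) = 1 ∨ (μ (A 0) = 0 ∧ μ (A 1) = 1)) := by
  classical
  have h1 := S.triv hV
  have h2 := S.fsInd
  have hreal : ∀ g : G, ((A 0 : G → ℂ) g).im = 0 := fun g => by rw [hV]; exact Complex.intCast_im _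
  have h3 := FrobSchur2.fsInd_eq_one_of_odd (A 0).2 hreal (d := 21) (by rw [apply_one, E.d0]) (by decide)
  rw [h3] at h2
  have h2' : (1 : ℤ) = μ (triv G) - ν (triv G) := by exact_mod_cast h2
  have hμ1 : μ (triv G) = 1 := by omega
  have hν1 : ν (triv G) = 0 := by omega
  have hx := (E.b.vA 0).1
  rw [E.m0] at hx
  have hx2 : (A 0 : G → ℂ) (x * x) = -1 := by rw [hV, E.x2 hV]; norm_num
  have e1 := S.eν 1
  have e2 := S.eμ 1
  have e3 := S.eν x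
  have e4 := S.eμ x
  simp only [mul_one, apply_one] at e1 e2
  rw [E.d0] at e1 e2
  rw [hx, hx2] at e3 e4
  have k1 : ∑ ψ, ν ψ * deg ψ = 210 := by
    have : ((∑ ψ, ν ψ * deg ψ : ℕ) : ℂ) = ((210 : ℕ) : ℂ) := by
      push_cast; rw [← e1]; norm_num
    exact_mod_cast this
  have k2 : ∑ ψ, μ ψ * deg ψ = 231 := by
    have : ((∑ ψ, μ ψ * deg ψ : ℕ) : ℂ) = ((231 : ℕ) : ℂ) := by
      push_cast; rw [← e2]; norm_num
    exact_mod_cast this
  have l1 := list_le (f := fun ψ => ν ψ * deg ψ) (qb_nodup E.b)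
  have l2 := list_le (f := fun ψ => μ ψ * deg ψ) (qb_nodup E.b)
  simp only [List.map_cons, List.map_nil, List.sum_cons, List.sum_nil, deg_triv, deg_cc, E.d0, E.d1, E.d2, E.d3, E.dY] at l1 l2
  rw [k1] at l1
  rw [k2] at l2
  obtain ⟨y1, y2⟩ := ar_z5 (ν Y) (ν (cc Y)) (ν (triv G) * 1 + (ν (A 0) * 21 + (ν (A 1) * 120 + (ν (A 2) * 210 + ν (A 3) * 210)))) (by omega)
  obtain ⟨y3, y4⟩ := ar_z5 (μ Y) (μ (cc Y)) (μ (triv G) * 1 + (μ (A 0) * 21 + (μ (A 1) * 120 + (μ (A 2) * 210 + μ (A 3) * 210)))) (by omega)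
  rw [E.b.sum (f := fun ψ => (ν ψ : ℂ) * (ψ : G → ℂ) x) (fun χ i1 i2 i3 i4 => by rw [(E.b.out χ i1 i2 i3 i4).1, mul_zero]), Fin.sum_univ_four, y1, y2,
    (E.b.vA 0).1, (E.b.vA 1).1, (E.b.vA 2).1, (E.b.vA 3).1, E.m0, E.m1, E.m2, E.m3, triv_apply] at e3
  rw [E.b.sum (f := fun ψ => (μ ψ : ℂ) * (ψ : G → ℂ) x) (fun χ i1 i2 i3 i4 => by rw [(E.b.out χ i1 i2 i3 i4).1, mul_zero]), Fin.sum_univ_four, y3, y4,
    (E.b.vA 0).1, (E.b.vA 1).1, (E.b.vA 2).1, (E.b.vA 3).1, E.m0, E.m1, E.m2, E.m3, triv_apply] at e4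
  have e3' : (1 : ℤ) = ν (triv G) - ν (A 0) - ν (A 1) + ν (A 2) + ν (A 3) := by
    have : ((1 : ℤ) : ℂ) = ((ν (triv G) - ν (A 0) - ν (A 1) + ν (A 2) + ν (A 3) : ℤ) : ℂ) := by
      push_cast; push_cast at e3; linear_combination e3
    exact_mod_cast this
  have e4' : (0 : ℤ) = μ (triv G) - μ (A 0) - μ (A 1) + μ (A 2) + μ (A 3) := by
    have : ((0 : ℤ) : ℂ) = ((μ (triv G) - μ (A 0) - μ (A 1) + μ (A 2) + μ (A 3) : ℤ) : ℂ) := by
      push_cast; push_cast at e4; linear_combination e4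
    exact_mod_cast this
  obtain ⟨b1, b2⟩ := ar_sp1 _ _ _ _ _ _ _ hν1 l1 e3'
  have b3 := ar_sp2 _ _ _ _ _ _ _ hμ1 l2 e4'
  refine ⟨hμ1, hν1, b1, ?_, b3⟩
  have key : ∀ j : Fin 4, ν (A j) = 1 → deg (A j) = 210 → ∀ g, ((A 0 : G → ℂ) g ^ 2 - (A 0 : G → ℂ) (g * g)) / 2 = (A j : G → ℂ) g := by
    intro j hj hd g
    rw [S.eν g, Finset.sum_eq_single (A j)]
    · rw [hj]; push_cast; ring
    · intro ψ _ hψ
      have hnd : [A j, ψ].Nodup := by
        simp only [List.nodup_cons, List.mem_singleton, List.not_mem_nil, not_false_eq_true, List.nodup_nil, and_true]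
        exact fun h => hψ h.symm
      have := list_le (f := fun ψ => ν ψ * deg ψ) hnd
      simp only [List.map_cons, List.map_nil, List.sum_cons, List.sum_nil] at this
      rw [k1, hj, hd] at this
      have h0 : ν ψ * deg ψ = 0 := by omega
      rcases Nat.mul_eq_zero.1 h0 with h | h
      · rw [h]; push_cast; ring
      · exact absurd h (deg_pos ψ).ne'
    · intro h; exact absurd (Finset.mem_univ _) h
  rcases b2 with ⟨b2, -⟩ | ⟨-, b2⟩
  · exact ⟨A 2, key 2 b2 E.d2⟩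
  · exact ⟨A 3, key 3 b2 E.d3⟩

/-- `χ` does not occur in its symmetric square -/
theorem not_self [Fintype G] {V : G → ℤ} (hV : ∀ g, (A 0 : G → ℂ) g = V g) {μ ν : IrrCharacter G → ℕ} (S : Split (A 0) μ ν) : μ (A 0) ≠ 1 := by
  intro h3
  obtain ⟨h1, h2, h4, ⟨ψ, h5⟩, -⟩ := E.split hV S
  obtain ⟨Ω, i1, i2, h6, h7⟩ := AlgTrick.alg_trick (A 0).2 (n := 21) (by rw [apply_one, E.d0]) (by norm_num)
    (by rw [S.fsInd, h1, h2]; norm_num)
    (by rw [S.sumS hV, h3]; rw [Nat.cast_one, mul_one]; exact card_ne)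
    (by rw [S.sumL hV, h4]; rw [Nat.cast_zero, mul_zero])
    (sumL2 hV h5)
  have h8 := h7 z
  rw [E.z0] at h8
  have h9 : (Nat.card {ω : Ω // z • ω = ω} : ℤ) = 1 + -7 := by exact_mod_cast h8
  omega

end E22

end Cfsg.Agent.Lib.M22N
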