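import Mathlib
import Cfsg.Agent.Lib.M22Z

/-!
# Simple groups of order 443520, part ZA: the principal 7-block when `|N| = 168` (helper7)
-/

set_option autoImplicit false
set_option linter.all false

namespace Cfsg.Agent.Lib.M22N

open Subgroup Cfsg Cfsg.Agent.Lib.CharBasic Cfsg.Agent.Lib.ColTools Cfsg.Agent.Lib.SmallSimple
  Cfsg.Agent.Lib.PBlock Cfsg.Agent.Lib.QBlk Cfsg.Agent.Lib.SqSplit
open Cfsg.Agent.Lib.M12ByOrder (norm_list)
open scoped ComplexConjugate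

universe u

theorem ar_55 : ∀ d ∈ AD1, 11 ∣ d → d ≤ 110 → (d % 7 = 1 → 22 ≤ d) ∧ (d % 7 = 6 → d = 55) := by decide +kernel

theorem ar_fin (u1 u2 u3 : ℤ) (h1 : u1 % 7 = 1) (h2 : u2 % 7 = 1) (h3 : u3 % 7 = 1) (h : u1 + u2 + u3 = 17)
    (hq : u1 ^ 2 + u2 ^ 2 + u3 ^ 2 ≤ 108) : False := by
  have a1 : u1 ≤ 10 := by nlinarith [sq_nonneg u2, sq_nonneg u3]
  have a2 : u2 ≤ 10 := by nlinarith [sq_nonneg u1, sq_nonneg u3]
  have a3 : u3 ≤ 10 := by nlinarith [sq_nonneg u2, sq_nonneg u1]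
  have b1 : -3 ≤ u1 := by omega
  have b2 : -3 ≤ u2 := by omega
  have b3 : -3 ≤ u3 := by omega
  have c1 : u1 = 1 ∨ u1 = 8 := by omega
  have c2 : u2 = 1 ∨ u2 = 8 := by omega
  have c3 : u3 = 1 ∨ u3 = 8 := by omega
  rcases c1 with rfl | rfl <;> rcases c2 with rfl | rfl <;> rcases c3 with rfl | rfl <;> omega

theorem ar_sum {ι : Type*} (R : Finset ι) (μ : ι → ℕ) (δ d : ι → ℤ) (hδ : ∀ i ∈ R, δ i = 1 ∨ δ i = -1)
    (hd : ∀ i ∈ R, μ i ≠ 0 → (δ i = 1 → 22 ≤ d i) ∧ (δ i = -1 → d i = 55))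
    (h1 : ∑ i ∈ R, δ i * μ i = -2) (h2 : ∑ i ∈ R, (μ i : ℤ) * d i ≤ 110) :
    (∑ i ∈ R, (μ i : ℤ) = 2) ∧ (∀ i ∈ R, μ i ≠ 0 → δ i = -1 ∧ d i = 55) ∧ ∑ i ∈ R, (μ i : ℤ) * d i = 110 := by
  have k1 : ∀ i ∈ R, (0 : ℤ) ≤ 2 * (μ i * d i) - (77 * μ i - 33 * (δ i * μ i)) := by
    intro i hi
    by_cases h : μ i = 0
    · rw [h]; simp
    · have hp : (0 : ℤ) < μ i := by exact_mod_cast Nat.pos_of_ne_zero h
      obtain ⟨e1, e2⟩ := hd i hi h
      rcases hδ i hi with h' | h'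
      · rw [h']; nlinarith [e1 h']
      · rw [h', e2 h']; linarith
  have k2 : ∑ i ∈ R, (2 * (μ i * d i) - (77 * μ i - 33 * (δ i * μ i)) : ℤ) = 2 * ∑ i ∈ R, (μ i : ℤ) * d i - (77 * ∑ i ∈ R, (μ i : ℤ) - 33 * ∑ i ∈ R, δ i * μ i) := by
    rw [Finset.sum_sub_distrib, Finset.sum_sub_distrib, Finset.mul_sum, Finset.mul_sum, Finset.mul_sum]
  have k3 := Finset.sum_nonneg k1
  rw [k2, h1] at k3
  have k4 : ∀ i ∈ R, (0 : ℤ) ≤ μ i + δ i * μ i := by
    intro i hi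
    have hp : (0 : ℤ) ≤ μ i := by positivity
    rcases hδ i hi with h' | h' <;> rw [h'] <;> linarith
  have k5 := Finset.sum_nonneg k4
  rw [Finset.sum_add_distrib, h1] at k5
  have k6 : ∑ i ∈ R, (μ i : ℤ) = 2 := by linarith
  have k7 : ∀ i ∈ R, μ i ≠ 0 → δ i = -1 := by
    intro i hi h
    have h0 : ∑ i ∈ R, ((μ i : ℤ) + δ i * μ i) = 0 := by rw [Finset.sum_add_distrib, h1, k6]; norm_num
    have h3 := (Finset.sum_eq_zero_iff_of_nonneg k4).1 h0 i hi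
    have hp : (0 : ℤ) < μ i := by exact_mod_cast Nat.pos_of_ne_zero h
    rcases hδ i hi with h' | h'
    · rw [h'] at h3; linarith
    · exact h'
  refine ⟨k6, fun i hi h => ⟨k7 i hi h, (hd i hi h).2 (k7 i hi h)⟩, ?_⟩
  have : ∑ i ∈ R, (μ i : ℤ) * d i = ∑ i ∈ R, (μ i : ℤ) * 55 := by
    refine Finset.sum_congr rfl fun i hi => ?_
    by_cases h : μ i = 0
    · rw [h]; simp
    · rw [(hd i hi h).2 (k7 i hi h)]
  rw [this, ← Finset.sum_mul, k6]; norm_num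

/-- two distinct elements -/
theorem ar_two {ι : Type*} [DecidableEq ι] (R : Finset ι) (μ : ι → ℕ) (f : ι → ℤ)
    (hf : ∀ i ∈ R, μ i ≠ 0 → f i = -29 ∨ f i = -1 ∨ f i = 27) (h1 : ∑ i ∈ R, (μ i : ℤ) = 2) (h2 : ∑ i ∈ R, (μ i : ℤ) * f i = 26) :
    ∃ i ∈ R, ∃ j ∈ R, i ≠ j ∧ μ i ≠ 0 ∧ μ j ≠ 0 ∧ f i = 27 ∧ f j = -1 := by
  obtain ⟨i, hi, hi0, hi1⟩ : ∃ i ∈ R, μ i ≠ 0 ∧ f i = 27 := by
    by_contra hcon
    push Not at hcon
    have : ∑ i ∈ R, (μ i : ℤ) * f i ≤ 0 := by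
      apply Finset.sum_nonpos
      intro i hi
      by_cases h : μ i = 0
      · rw [h]; simp
      · have hp : (0 : ℤ) < μ i := by exact_mod_cast Nat.pos_of_ne_zero h
        rcases hf i hi h with h' | h' | h'
        · rw [h']; linarith
        · rw [h']; linarith
        · exact absurd h' (hcon i hi h)
    linarith
  have e1 := Finset.add_sum_erase R (fun i => (μ i : ℤ)) hi
  have e2 := Finset.add_sum_erase R (fun i => (μ i : ℤ) * f i) hi
  beta_reduce at e1 e2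
  rw [h1] at e1
  rw [h2, hi1] at e2
  have hp : (1 : ℤ) ≤ μ i := by exact_mod_cast Nat.one_le_iff_ne_zero.2 hi0
  have hnn : ∀ s : Finset ι, (0 : ℤ) ≤ ∑ i ∈ s, (μ i : ℤ) := fun s => Finset.sum_nonneg fun i _ => by positivity
  obtain ⟨j, hj, hj0⟩ : ∃ j ∈ R.erase i, μ j ≠ 0 := by
    by_contra hcon
    push Not at hcon
    have z1 : ∑ j ∈ R.erase i, (μ j : ℤ) = 0 := Finset.sum_eq_zero fun j hj => by rw [hcon j hj]; rfl
    have z2 : ∑ j ∈ R.erase i, (μ j : ℤ) * f j = 0 := Finset.sum_eq_zero fun j hj => by rw [hcon j hj]; simp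
    rw [z1] at e1
    rw [z2] at e2
    omega
  have e3 := Finset.add_sum_erase (R.erase i) (fun i => (μ i : ℤ)) hj
  have e4 := Finset.add_sum_erase (R.erase i) (fun i => (μ i : ℤ) * f i) hj
  beta_reduce at e3 e4
  have hp' : (1 : ℤ) ≤ μ j := by exact_mod_cast Nat.one_le_iff_ne_zero.2 hj0
  have h3 := hnn ((R.erase i).erase j)
  have hμi : (μ i : ℤ) = 1 := by linarith
  have hμj : (μ j : ℤ) = 1 := by linarith
  have h4 : ∑ k ∈ (R.erase i).erase j, (μ k : ℤ) = 0 := by linarith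
  have h5 : ∀ k ∈ (R.erase i).erase j, (μ k : ℤ) = 0 := (Finset.sum_eq_zero_iff_of_nonneg (fun k _ => by positivity)).1 h4
  have h6 : ∑ k ∈ (R.erase i).erase j, (μ k : ℤ) * f k = 0 := Finset.sum_eq_zero fun k hk => by rw [h5 k hk, zero_mul]
  refine ⟨i, hi, j, (Finset.mem_erase.1 hj).2, (Finset.mem_erase.1 hj).1.symm, hi0, hj0, hi1, ?_⟩
  rw [h6, hμj] at e4
  rw [hμi] at e2
  linarith

variable {G : Type u} [Group G] [Finite G] [IsSimpleGroup G] {x z : G} {A : Fin 4 → IrrCharacter G} {m : Fin 4 → ℤ} {Y : IrrCharacter G} {a : ℤ}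

theorem seven_sq {g : G} (h : 7 ∣ orderOf g) : 7 ∣ orderOf (g * g) := by
  by_contra hcon
  have h1 : (g * g) ^ orderOf (g * g) = 1 := pow_orderOf_eq_one _
  rw [← pow_two, ← pow_mul] at h1
  have h2 := h.trans (orderOf_dvd_of_pow_eq_one h1)
  rw [pow_two] at h2
  rcases (Nat.Prime.dvd_mul (by norm_num)).1 h2 with h3 | h3
  · norm_num at h3
  · exact hcon h3

namespace E22

variable (E : E22 x z A m Y a)
include E

/-- characters of degree prime to 7 -/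
theorem out7 {ψ : IrrCharacter G} (h7 : ¬ 7 ∣ deg ψ) (h0 : ψ ≠ triv G) (h1 : ψ ≠ A 1) : 11 ∣ deg ψ := by
  refine (E.b.out ψ h0 (fun i => ?_) ?_ ?_).2.2
  · fin_cases i
    · intro h; apply h7; rw [h]; show 7 ∣ deg (A 0); rw [E.d0]; norm_num
    · exact h1
    · intro h; apply h7; rw [h]; show 7 ∣ deg (A 2); rw [E.d2]; norm_num
    · intro h; apply h7; rw [h]; show 7 ∣ deg (A 3); rw [E.d3]; norm_num
  · intro h; apply h7; rw [h, E.dY]; norm_num
  · intro h; apply h7; rw [h, deg_cc, E.dY]; norm_num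

theorem no120 (P : Sylow 7 G) (hP : Nat.card (P : Subgroup G) = 7)
    (he : (centralizer ((P : Subgroup G) : Set G)).relIndex (normalizer ((P : Subgroup G) : Set G)) + 1 = 7)
    (hz : z ∈ centralizer ((P : Subgroup G) : Set G)) [Fintype G] {V : G → ℤ} (hV : ∀ g, (A 0 : G → ℂ) g = V g)
    {μ ν : IrrCharacter G → ℕ} (S : Split (A 0) μ ν) (hμt : μ (triv G) = 1) (hμ1 : μ (A 1) = 1) : False := by
  classical
  have hna := nca E.card
  have f7 : Fact (Nat.Prime 7) := ⟨by norm_num⟩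
  obtain ⟨B⟩ := exists_pbm P hP he
  obtain ⟨x7, hx7⟩ := exists_prime_orderOf_dvd_card' (G := (P : Subgroup G)) 7 (by rw [hP])
  have hx7' : orderOf (x7 : G) = 7 := by rw [Subgroup.orderOf_coe, hx7]
  have hxC : (x7 : G) ∈ centralizer ((P : Subgroup G) : Set G) := le_cent hP x7.2
  -- the character of degree 120 lies in the principal 7-block
  have hA1 : A 1 ∈ B.X := by
    by_contra h
    have h1 := B.mult (A 1) (A 1).2.isClassFunction 1 (fun c hc h7 => (E.v7 h7).2.1)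
    rw [Finset.sum_eq_zero] at h1
    · norm_num at h1
    · intro χ hχ
      rw [irr_orthonormal, if_neg (fun h' : A 1 = χ => h (by rw [h']; exact hχ)), mul_zero]
  have hδ1 : B.δ (A 1) = 1 := by
    have h1 := B.valX _ hA1 x7 hxC (by rw [hx7'])
    rw [(E.v7 (by rw [hx7'])).2.1] at h1
    exact_mod_cast h1.symm
  -- multiplicities
  have hm : ∑ χ ∈ B.X, B.δ χ * (μ χ : ℤ) = 0 := by
    have h0 : IsClassFunction G (fun g => ((A 0 : G → ℂ) g ^ 2 + (A 0 : G → ℂ) (g * g)) / 2) :=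
      (SymAltSq.isCharacter_symSq (A 0).2.isCharacter).isClassFunction
    have h1 := B.mult _ h0 0 (fun c hc h7 => by
      beta_reduce
      rw [(E.v7 h7).1, (E.v7 (seven_sq h7)).1]; norm_num)
    simp only [S.hμ] at h1
    exact_mod_cast h1
  have htA : triv G ≠ A 1 := (E.b.At 1).symm
  obtain ⟨R, hR⟩ : ∃ R, R = (B.X.erase (triv G)).erase (A 1) := ⟨_, rfl⟩
  have hA1' : A 1 ∈ B.X.erase (triv G) := Finset.mem_erase.2 ⟨E.b.At 1, hA1⟩
  have hsplit : ∀ {M : Type} [AddCommMonoid M] (f : IrrCharacter G → M), ∑ χ ∈ B.X, f χ = f (triv G) + (f (A 1) + ∑ χ ∈ R, f χ) := by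
    intro M _ f
    rw [hR, Finset.add_sum_erase _ _ hA1', Finset.add_sum_erase _ _ B.tX]
  have hRX : ∀ ψ ∈ R, ψ ∈ B.X ∧ ψ ≠ triv G ∧ ψ ≠ A 1 := by
    intro ψ hψ
    rw [hR, Finset.mem_erase, Finset.mem_erase] at hψ
    exact ⟨hψ.2.2, hψ.2.1, hψ.1⟩
  have hm' := hm
  rw [hsplit, B.tδ, hδ1, hμt, hμ1] at hm'
  have hmR : ∑ χ ∈ R, B.δ χ * (μ χ : ℤ) = -2 := by push_cast at hm'; linarith
  -- degrees
  have k2 : ∑ ψ, μ ψ * deg ψ = 231 := by
    have e2 := S.eμ 1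
    simp only [mul_one, apply_one] at e2
    rw [E.d0] at e2
    have : ((∑ ψ, μ ψ * deg ψ : ℕ) : ℂ) = ((231 : ℕ) : ℂ) := by
      push_cast; rw [← e2]; norm_num
    exact_mod_cast this
  have hle : ∑ ψ ∈ B.X, μ ψ * deg ψ ≤ 231 := by
    rw [← k2]; exact Finset.sum_le_sum_of_subset (Finset.subset_univ _)
  have hle' := hle
  rw [hsplit, hμt, hμ1, deg_triv, E.d1] at hle'
  have hRd : ∑ i ∈ R, (μ i : ℤ) * (deg i : ℤ) ≤ 110 := by
    have : ∑ i ∈ R, μ i * deg i ≤ 110 := by omega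
    exact_mod_cast this
  obtain ⟨r1, r2, r3⟩ := ar_sum R μ B.δ (fun ψ => (deg ψ : ℤ)) (fun i hi => B.δ_pm i (hRX i hi).1) (by
    intro ψ hψ hμ
    obtain ⟨h1, h2, h3⟩ := hRX ψ hψ
    obtain ⟨k, hk⟩ := B.degX ψ h1
    have h7 : ¬ 7 ∣ deg ψ := by
      rcases B.δ_pm ψ h1 with h | h <;> rw [h] at hk <;> omega
    have h11 := E.out7 h7 h2 h3
    have hnd : [triv G, A 1, ψ].Nodup := by
      simp only [List.nodup_cons, List.mem_cons, List.mem_singleton, List.not_mem_nil, not_false_eq_true, List.nodup_nil, and_true, not_or, or_false]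
      exact ⟨⟨htA, h2.symm⟩, h3.symm⟩
    have hl := list_le (f := fun ψ => μ ψ * deg ψ) hnd
    simp only [List.map_cons, List.map_nil, List.sum_cons, List.sum_nil] at hl
    rw [k2, hμt, hμ1, deg_triv, E.d1] at hl
    have h110 : deg ψ ≤ 110 := by
      have : deg ψ ≤ μ ψ * deg ψ := Nat.le_mul_of_pos_left _ (Nat.pos_of_ne_zero hμ)
      omega
    have h4 := ar_55 _ (memAD1 E.card ψ) h11 h110
    constructor
    · intro h; rw [h] at hk
      exact_mod_cast h4.1 (by omega)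
    · intro h; rw [h] at hk
      exact_mod_cast h4.2 (by omega)) hmR hRd
  have hout : ∀ ψ, ψ ∉ B.X → μ ψ = 0 := by
    intro ψ hψ
    have h1 : ∑ χ ∈ insert ψ B.X, μ χ * deg χ ≤ 231 := by
      rw [← k2]; exact Finset.sum_le_sum_of_subset (Finset.subset_univ _)
    rw [Finset.sum_insert hψ, hsplit, hμt, hμ1, deg_triv, E.d1] at h1
    have h2 : ∑ i ∈ R, μ i * deg i = 110 := by exact_mod_cast r3
    rw [h2] at h1
    have h0 : μ ψ * deg ψ = 0 := by omega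
    rcases Nat.mul_eq_zero.1 h0 with h | h
    · exact h
    · exact absurd h (deg_pos ψ).ne'
  -- values at the involution
  have hz2 : z ^ 2 = 1 := by rw [← E.oz]; exact pow_orderOf_eq_one z
  have hz1 : z ≠ 1 := fun h => by have := E.oz; rw [h, orderOf_one] at this; norm_num at this
  choose f hf1 hf2 hf3 hf4 hf5 using fun χ : IrrCharacter G => val_inv hna χ z hz2
  have ft : f (triv G) = 1 := by have := hf1 (triv G); rw [triv_apply] at this; exact_mod_cast this.symm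
  have f0 : f (A 0) = -7 := by have := hf1 (A 0); rw [E.z0] at this; exact_mod_cast this.symm
  have fA : f (A 1) = 8 := by have := hf1 (A 1); rw [E.z1] at this; exact_mod_cast this.symm
  have f2 : f (A 2) ^ 2 = 196 := by
    have h := hf1 (A 2)
    rcases E.z2 with h' | h' <;> rw [h'] at h
    · have : f (A 2) = -14 := by exact_mod_cast h.symm
      rw [this]; norm_num
    · have : f (A 2) = 14 := by exact_mod_cast h.symm
      rw [this]; norm_num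
  have f3 : f (A 3) ^ 2 = 196 := by
    have h := hf1 (A 3)
    rcases E.z3 with h' | h' <;> rw [h'] at h
    · have : f (A 3) = -14 := by exact_mod_cast h.symm
      rw [this]; norm_num
    · have : f (A 3) = 14 := by exact_mod_cast h.symm
      rw [this]; norm_num
  have hmod : ∀ ψ ∈ B.X, ((7 : ℕ) : ℤ) ∣ f ψ - B.δ ψ := fun ψ hψ =>
    modX (p := 7) (by norm_num) hP (fun c hc h => B.valX ψ hψ c hc h) hz E.oz (hf1 ψ)
  have hsz : ∑ χ ∈ R, (μ χ : ℤ) * f χ = 26 := by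
    have e2 := S.eμ z
    rw [← pow_two, hz2, apply_one, E.d0, E.z0] at e2
    have e3 : ∑ ψ : IrrCharacter G, (μ ψ : ℂ) * (ψ : G → ℂ) z = ∑ ψ ∈ B.X, (μ ψ : ℂ) * (ψ : G → ℂ) z := by
      symm
      apply Finset.sum_subset (Finset.subset_univ _)
      intro ψ _ hψ
      rw [hout ψ hψ]; simp
    rw [e3] at e2
    simp only [hf1] at e2
    have e4 : ∑ ψ ∈ B.X, (μ ψ : ℤ) * f ψ = 35 := by
      have : ((∑ ψ ∈ B.X, (μ ψ : ℤ) * f ψ : ℤ) : ℂ) = ((35 : ℤ) : ℂ) := by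
        push_cast; rw [← e2]; norm_num
      exact_mod_cast this
    rw [hsplit, hμt, hμ1, ft, fA] at e4
    push_cast at e4
    linarith
  obtain ⟨ψ1, i1, ψ2, i2, hne, i3, i4, i5, i6⟩ := ar_two R μ f (by
    intro ψ hψ hμ
    obtain ⟨h1, h2⟩ := r2 ψ hψ hμ
    have h3 := hmod ψ (hRX ψ hψ).1
    have h4 := hf2 ψ
    obtain ⟨h5, h6⟩ := hf5 ψ hz1 (hRX ψ hψ).2.1
    rw [h1] at h3
    rw [h2] at h4 h5 h6
    push_cast at h3
    omega) r1 hsz
  have hψ2 : ψ2 ∈ R.erase ψ1 := Finset.mem_erase.2 ⟨hne.symm, i2⟩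
  have hcR : ((R.erase ψ1).erase ψ2).card = 3 := by
    rw [Finset.card_erase_of_mem hψ2, Finset.card_erase_of_mem i1, hR, Finset.card_erase_of_mem hA1', Finset.card_erase_of_mem B.tX, B.cardX]
  obtain ⟨c1, c2, c3, n12, n13, n23, hW⟩ := Finset.card_eq_three.1 hcR
  have hWm : ∀ c ∈ (R.erase ψ1).erase ψ2, c ∈ R ∧ c ≠ ψ1 ∧ c ≠ ψ2 := by
    intro c hc
    rw [Finset.mem_erase, Finset.mem_erase] at hc
    exact ⟨hc.2.2, hc.2.1, hc.1⟩
  have w1 := hWm c1 (by rw [hW]; simp)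
  have w2 := hWm c2 (by rw [hW]; simp)
  have w3 := hWm c3 (by rw [hW]; simp)
  -- the relation
  have hrel : ∑ χ ∈ B.X, B.δ χ * f χ = 0 := by
    have h1 := B.rel z (by rw [E.oz]; norm_num)
    simp only [hf1] at h1
    exact_mod_cast h1
  rw [hsplit, B.tδ, hδ1, ft, fA, ← Finset.add_sum_erase R _ i1, ← Finset.add_sum_erase _ _ hψ2, (r2 ψ1 i1 i3).1, (r2 ψ2 i2 i4).1, i5, i6, hW,
    Finset.sum_insert (by simp only [Finset.mem_insert, Finset.mem_singleton, not_or]; exact ⟨n12, n13⟩),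
    Finset.sum_insert (by simp only [Finset.mem_singleton]; exact n23), Finset.sum_singleton] at hrel
  -- the norm
  have h7X : ∀ ψ ∈ R, ¬ 7 ∣ deg ψ := by
    intro ψ hψ
    obtain ⟨k, hk⟩ := B.degX ψ (hRX ψ hψ).1
    rcases B.δ_pm ψ (hRX ψ hψ).1 with h | h <;> rw [h] at hk <;> omega
  have hn0 : ∀ ψ ∈ R, A 0 ≠ ψ ∧ A 2 ≠ ψ ∧ A 3 ≠ ψ := by
    intro ψ hψ
    have := h7X ψ hψ
    refine ⟨?_, ?_, ?_⟩
    · rintro rfl; apply this; rw [E.d0]; norm_num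
    · rintro rfl; apply this; rw [E.d2]; norm_num
    · rintro rfl; apply this; rw [E.d3]; norm_num
  have hAA : ∀ i j : Fin 4, i ≠ j → A i ≠ A j := fun i j hij h => hij (E.b.inj h)
  have hnd : [triv G, A 0, A 1, A 2, A 3, ψ1, ψ2, c1, c2, c3].Nodup := by
    simp only [List.nodup_cons, List.mem_cons, List.not_mem_nil, or_false, not_or, List.nodup_nil, and_true, not_false_eq_true]
    exact ⟨⟨(E.b.At 0).symm, (E.b.At 1).symm, (E.b.At 2).symm, (E.b.At 3).symm, (hRX _ i1).2.1.symm, (hRX _ i2).2.1.symm, (hRX _ w1.1).2.1.symm,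
        (hRX _ w2.1).2.1.symm, (hRX _ w3.1).2.1.symm⟩,
      ⟨hAA 0 1 (by decide), hAA 0 2 (by decide), hAA 0 3 (by decide), (hn0 _ i1).1, (hn0 _ i2).1, (hn0 _ w1.1).1, (hn0 _ w2.1).1, (hn0 _ w3.1).1⟩,
      ⟨hAA 1 2 (by decide), hAA 1 3 (by decide), (hRX _ i1).2.2.symm, (hRX _ i2).2.2.symm, (hRX _ w1.1).2.2.symm, (hRX _ w2.1).2.2.symm, (hRX _ w3.1).2.2.symm⟩,
      ⟨hAA 2 3 (by decide), (hn0 _ i1).2.1, (hn0 _ i2).2.1, (hn0 _ w1.1).2.1, (hn0 _ w2.1).2.1, (hn0 _ w3.1).2.1⟩,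
      ⟨(hn0 _ i1).2.2, (hn0 _ i2).2.2, (hn0 _ w1.1).2.2, (hn0 _ w2.1).2.2, (hn0 _ w3.1).2.2⟩,
      ⟨hne, w1.2.1.symm, w2.2.1.symm, w3.2.1.symm⟩, ⟨w1.2.2.symm, w2.2.2.symm, w3.2.2.symm⟩, ⟨n12, n13⟩, n23⟩
  have hnorm := norm_list hnd (g := z) (f := f) (fun χ _ => hf1 χ)
  simp only [List.map_cons, List.map_nil, List.sum_cons, List.sum_nil, add_zero] at hnorm
  rw [E.cz, ft, f0, fA, f2, f3, i5, i6] at hnorm
  push_cast at hnorm
  have hu : ∀ c ∈ B.X, (B.δ c * f c) % 7 = 1 ∧ (B.δ c * f c) ^ 2 = f c ^ 2 := by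
    intro c hc
    have h1 := hmod c hc
    push_cast at h1
    rcases B.δ_pm c hc with h | h <;> rw [h] at h1 ⊢
    · exact ⟨by omega, by ring⟩
    · exact ⟨by omega, by ring⟩
  obtain ⟨u1, v1⟩ := hu c1 (hRX _ w1.1).1
  obtain ⟨u2, v2⟩ := hu c2 (hRX _ w2.1).1
  obtain ⟨u3, v3⟩ := hu c3 (hRX _ w3.1).1
  refine ar_fin _ _ _ u1 u2 u3 (by linarith) ?_
  rw [v1, v2, v3]
  linarith

/-- the case `|N| = 168`, `|C| = 28` does not occur -/
theorem no6 (P : Sylow 7 G) (hP : Nat.card (P : Subgroup G) = 7)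
    (he : (centralizer ((P : Subgroup G) : Set G)).relIndex (normalizer ((P : Subgroup G) : Set G)) + 1 = 7)
    (hz : z ∈ centralizer ((P : Subgroup G) : Set G)) : False := by
  have := Fintype.ofFinite G
  choose V hV using fun g => int_of_unique (A 0) (fun ψ h => E.uniq21 ψ (by rw [h, E.d0])) g
  obtain ⟨μ, ν, S⟩ := exists_split (A 0)
  obtain ⟨h1, h2, h3, h4, h5⟩ := E.split hV S
  rcases h5 with h5 | ⟨-, h6⟩
  · exact E.not_self hV S h5
  · exact E.no120 P hP he hz hV S h1 h6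

end E22

end Cfsg.Agent.Lib.M22N
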