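import Mathlib
import Cfsg.Agent.Lib.M22ZA

/-!
# Simple groups of order 443520, part ZB: the Sylow 7-normalizer has order 21 (helper7)
-/

set_option autoImplicit false
set_option linter.all false

namespace Cfsg.Agent.Lib.M22N

open Subgroup Cfsg Cfsg.Agent.Lib.CharBasic Cfsg.Agent.Lib.ColTools Cfsg.Agent.Lib.SmallSimple
  Cfsg.Agent.Lib.PBlock Cfsg.Agent.Lib.QBlk

universe u

variable {G : Type u} [Group G] [Finite G] [IsSimpleGroup G]

theorem seven_aux (hG : Nat.card G = 443520) (P : Sylow 7 G) (hP : Nat.card (P : Subgroup G) = 7)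
    (h168 : 168 ∣ Nat.card (normalizer ((P : Subgroup G) : Set G))) (h28 : 28 ∣ Nat.card (centralizer ((P : Subgroup G) : Set G)))
    (sv : (∃ z, SZ (P : Subgroup G) z) ∨ ∃ z z1, VZ (P : Subgroup G) z z1) :
    ∃ x z A m Y a, E22 (G := G) x z A m Y a ∧ z ∈ centralizer ((P : Subgroup G) : Set G) := by
  obtain ⟨x, hx⟩ := exists_elt' hG (p := 11) (by norm_num) (by norm_num)
  obtain ⟨A, m, Y, a, b⟩ := qb11' hG hx
  rcases sv with ⟨z, s⟩ | ⟨z, z1, s⟩
  · exact ⟨x, z, A, m, Y, a, E22_of_S hG hP s (h168.trans (card_dvd_of_le s.le)) hx b, s.mem⟩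
  · exact (V_case hG hP s (h28.trans (card_dvd_of_le s.le)) hx b).elim

theorem sylow7 (hG : Nat.card G = 443520) (P : Sylow 7 G) : Nat.card (normalizer ((P : Subgroup G) : Set G)) = 21 := by
  obtain ⟨e, c, hP, hN, hC, hrel, h⟩ := cases7 hG P
  have f7 : Fact (Nat.Prime 7) := ⟨by norm_num⟩
  obtain ⟨x7, hxP, hx7'⟩ : ∃ x7 : G, x7 ∈ (P : Subgroup G) ∧ orderOf x7 = 7 := by
    obtain ⟨x7, hx7⟩ := exists_prime_orderOf_dvd_card' (G := (P : Subgroup G)) 7 (by rw [hP])
    exact ⟨x7, x7.2, by rw [Subgroup.orderOf_coe, hx7]⟩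
  have hCx : Nat.card (centralizer ({x7} : Set G)) = Nat.card (centralizer ((P : Subgroup G) : Set G)) := by
    have hle : zpowers x7 ≤ (P : Subgroup G) := by rw [zpowers_le]; exact hxP
    have heq : zpowers x7 = (P : Subgroup G) := eq_of_le_of_card_ge hle (by rw [hP, Nat.card_zpowers, hx7'])
    rw [← heq]
    congr 2
    apply le_antisymm
    · intro g hg
      rw [mem_centralizer_singleton_iff] at hg
      rw [mem_centralizer_iff]
      intro y hy
      obtain ⟨n, rfl⟩ := mem_zpowers_iff.1 hy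
      exact (((Commute.zpow_right (show Commute g x7 from hg) n))).symm
    · exact centralizer_le (by simp)
  rcases h with ⟨rfl, rfl⟩ | ⟨rfl, rfl⟩ | ⟨rfl, rfl⟩ | ⟨rfl, rfl⟩
  · rw [hN]
  · exfalso
    obtain ⟨x, z, A, m, Y, a, E, -⟩ := seven_aux hG P hP (by rw [hN]) (by rw [hC]; norm_num)
      (exists_SV3 P hP (k := 3) (by norm_num) (by rw [hC]; norm_num) hrel)
    have := E.c7 (g := (x7 : G)) (by rw [hx7'])
    rw [hCx, hC] at this
    norm_num at this
  · exfalso
    obtain ⟨x, z, A, m, Y, a, E, -⟩ := seven_aux hG P hP (by rw [hN]; norm_num) (by rw [hC]; norm_num)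
      (exists_SV3 P hP (k := 6) (by norm_num) (by rw [hC]; norm_num) hrel)
    have := E.c7 (g := (x7 : G)) (by rw [hx7'])
    rw [hCx, hC] at this
    norm_num at this
  · exfalso
    obtain ⟨x, z, A, m, Y, a, E, hz⟩ := seven_aux hG P hP (by rw [hN]) (by rw [hC])
      (exists_SV6 P hP (by rw [hC]; norm_num))
    exact E.no6 P hP (by rw [hrel]) hz

theorem elt7 (hG : Nat.card G = 443520) (x : G) (hx : orderOf x = 7) : Nat.card (normalizer (zpowers x : Set G)) = 21 := by
  have : Fact (Nat.Prime 7) := ⟨by norm_num⟩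
  obtain ⟨P, h1, h2, h3⟩ := sylow_elt (p := 7) (by rw [hG]; norm_num) x hx
  have := sylow7 hG P
  rwa [h2] at this

end Cfsg.Agent.Lib.M22N
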