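import Mathlib
import Cfsg.Agent.Lib.M22ZB
import Cfsg.Agent.Lib.M22O

/-!
# Simple groups of order 443520, part ZC: the Sylow 5-normalizer and the conclusion (helper7)
-/

set_option autoImplicit false
set_option linter.all false

namespace Cfsg.Agent.Lib.M22N

open Subgroup Cfsg Cfsg.Agent.Lib.CharBasic Cfsg.Agent.Lib.ColTools Cfsg.Agent.Lib.SmallSimple
  Cfsg.Agent.Lib.PBlock Cfsg.Agent.Lib.QBlk
open Cfsg.Agent.Lib.M12ByOrder (inv mem_inv)
open scoped ComplexConjugate

universe u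

def bad3 (d : ℕ) : Bool := 88704 % d = 0 && d ≠ 1 && (d % 7 = 0 || d = 55 || d = 99 || d = 45)
def bad4 (d : ℕ) : Bool := 88704 % d = 0 && d ≠ 1 && (d % 7 = 0 || d = 55 || d = 120 || d = 66)

theorem ar_c54 : ∀ d ∈ List.range 667, (bad3 d && bad3 (d + 1)) = false ∧ (bad4 d && bad4 (d + 1)) = false := by
  decide +kernel

theorem ar_bad3 {d : ℕ} (h : d ∣ 88704) (h1 : d ≠ 1) (h2 : 7 ∣ d ∨ d = 55 ∨ d = 99 ∨ d = 45) : bad3 d = true := by
  have h3 := Nat.mod_eq_zero_of_dvd h
  simp only [bad3, h3, decide_true, Bool.true_and, Bool.and_eq_true, Bool.or_eq_true, decide_eq_true_eq]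
  refine ⟨h1, ?_⟩
  omega

theorem ar_bad4 {d : ℕ} (h : d ∣ 88704) (h1 : d ≠ 1) (h2 : 7 ∣ d ∨ d = 55 ∨ d = 120 ∨ d = 66) : bad4 d = true := by
  have h3 := Nat.mod_eq_zero_of_dvd h
  simp only [bad4, h3, decide_true, Bool.true_and, Bool.and_eq_true, Bool.or_eq_true, decide_eq_true_eq]
  refine ⟨h1, ?_⟩
  omega

theorem fin01 : (0 : Fin 2) ≠ 1 := by decide

/-- no solution with values divisible by 5 -/
theorem ar_inv5 : ∀ v0 ∈ inv 55, ∀ v1 ∈ inv 99, E7 ((-1, 55), (1, 99), (-1, 45)) v0 v1 (y7 ((-1, 55), (1, 99), (-1, 45)) v0 v1) = 0 →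
    y7 ((-1, 55), (1, 99), (-1, 45)) v0 v1 ∈ inv 45 → v0 % 5 = 0 → y7 ((-1, 55), (1, 99), (-1, 45)) v0 v1 % 5 = 0 →
    ∀ C ∈ ([1920, 320] : List ℕ), (56 * (99 - v1)) % (C : ℤ) = 0 →
      ¬ (1 + v0 ^ 2 + v1 ^ 2 + 2 * y7 ((-1, 55), (1, 99), (-1, 45)) v0 v1 ^ 2 ≤ (C : ℤ)) := by
  decide +kernel

theorem ar_C5 : ∀ C ∈ Nat.divisors 5760, 320 ∣ C → (443520 / C) % 5 = 1 → C ∈ ([1920, 320] : List ℕ) := by decide +kernel

variable {G : Type u} [Group G] [Finite G] [IsSimpleGroup G]

theorem c7' (hG : Nat.card G = 443520) {x : G} (hx : orderOf x = 7) : Nat.card (centralizer ({x} : Set G)) = 7 := by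
  have : Fact (Nat.Prime 7) := ⟨by norm_num⟩
  exact cent_of_N (nca hG) (q := 3) (by norm_num) (by rw [hG]; norm_num) x hx (elt7 hG x hx)

theorem qb7' (hG : Nat.card G = 443520) {x : G} (hx : orderOf x = 7) : ∃ A m Y a, QB 7 2 x A m Y a := by
  have : Fact (Nat.Prime 7) := ⟨by norm_num⟩
  exact exists_qb (by norm_num) (by norm_num) (by norm_num) (by rw [hG]; norm_num) x hx (c7' hG hx) (elt7 hG x hx)

theorem nr7' (hG : Nat.card G = 443520) {x : G} (hx : orderOf x = 7) : ¬ IsConj x x⁻¹ := by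
  have : Fact (Nat.Prime 7) := ⟨by norm_num⟩
  exact (QRConj.qr x hx (by norm_num) (by rw [elt7 hG x hx]) (c7' hG hx)).2

section

variable {x7 : G} {B : Fin 2 → IrrCharacter G} {k : Fin 2 → ℤ} {Z : IrrCharacter G} {c : ℤ}

theorem memAD' (hG : Nat.card G = 443520) (b' : QB 7 2 x7 B k Z c) (χ : IrrCharacter G) : deg χ ∈ AD := by
  obtain ⟨x11, h11⟩ := exists_elt' hG (p := 11) (by norm_num) (by norm_num)
  obtain ⟨A, m, Y, a, b⟩ := qb11' hG h11
  refine ar_AD _ (List.mem_range.2 (lt666 hG χ)) (by rw [← hG]; exact deg_dvd χ) ?_ ?_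
  · simp only [List.mem_cons, List.not_mem_nil, or_false]
    rcases QB.ty b χ with h | ⟨s, hs⟩ | ⟨s, hs⟩ | ⟨s, hs⟩ | ⟨s, hs⟩ <;> omega
  · simp only [List.mem_cons, List.not_mem_nil, or_false]
    rcases QB.ty b' χ with h | ⟨s, hs⟩ | ⟨s, hs⟩ | ⟨s, hs⟩ | ⟨s, hs⟩ <;> omega

theorem memT7' (hG : Nat.card G = 443520) (b' : QB 7 2 x7 B k Z c) (i : Fin 2) : (k i, deg (B i)) ∈ T7 := by
  have h1 := memAD' hG b' (B i)
  have h2 : deg (B i) ≠ 1 := fun h => b'.At i (eq_triv_of_deg_one (nca hG) h)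
  obtain ⟨s, -, hs⟩ := b'.degA i
  have h4 := ar_T7 _ h1 h2
  rcases b'.m_pm i with h | h <;> rw [h] at hs ⊢
  · exact h4.1 (by omega)
  · exact h4.2.1 (by omega)

theorem memTY7' (hG : Nat.card G = 443520) (b' : QB 7 2 x7 B k Z c) : (c, deg Z) ∈ TY7 := by
  have h1 := memAD' hG b' Z
  have h2 : deg Z ≠ 1 := fun h => b'.Yt (eq_triv_of_deg_one (nca hG) h)
  obtain ⟨s, -, hs⟩ := b'.degY
  have h4 := ar_T7 _ h1 h2
  rcases b'.a_pm with h | h <;> rw [h] at hs ⊢
  · exact h4.2.2.2 (by omega)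
  · exact h4.2.2.1 (by omega)

theorem cand7' (hG : Nat.card G = 443520) (h7 : orderOf x7 = 7) (b' : QB 7 2 x7 B k Z c) :
    ((k 0, deg (B 0)), (k 1, deg (B 1)), (c, deg Z)) ∈ cands7 := by
  have h1 := b'.rel1 h7 (by norm_num)
  have h2 := QB.sq b'
  rw [hG] at h2
  rw [Fin.sum_univ_two] at h1 h2
  exact ar_cand7 _ (memT7' hG b' 0) _ (memT7' hG b' 1) (b'.mono (by decide : (0 : Fin 2) ≤ 1)) _ (memTY7' hG b') h1 h2

/-- values of the principal 7-block on an involution -/
theorem inv7' (hG : Nat.card G = 443520) (h7 : orderOf x7 = 7) (b' : QB 7 2 x7 B k Z c) {s : G} (hs : orderOf s = 2) :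
    ∃ v : Fin 2 → ℤ, (∀ i, (B i : G → ℂ) s = v i) ∧ (∀ i, v i ∈ inv (deg (B i))) ∧
      (Z : G → ℂ) s = y7 ((k 0, deg (B 0)), (k 1, deg (B 1)), (c, deg Z)) (v 0) (v 1) ∧
      y7 ((k 0, deg (B 0)), (k 1, deg (B 1)), (c, deg Z)) (v 0) (v 1) ∈ inv (deg Z) ∧
      E7 ((k 0, deg (B 0)), (k 1, deg (B 1)), (c, deg Z)) (v 0) (v 1)
        (y7 ((k 0, deg (B 0)), (k 1, deg (B 1)), (c, deg Z)) (v 0) (v 1)) = 0 := by
  have hna := nca hG
  have hs2 : s ^ 2 = 1 := by rw [← hs]; exact pow_orderOf_eq_one s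
  have hs1 : s ≠ 1 := fun h => by rw [h, orderOf_one] at hs; norm_num at hs
  choose v hv1 hv2 hv3 hv4 hv5 using fun i => val_inv hna (B i) s hs2
  obtain ⟨vY, hY1, hY2, hY3, hY4, hY5⟩ := val_inv hna Z s hs2
  obtain ⟨n1, n2⟩ := QBlk.not_isConj_of_order h7 (g := s) (by rw [hs]; norm_num)
  have hrel := b'.rel s n1 n2
  have ha2 : c * c = 1 := by rcases b'.a_pm with h | h <;> rw [h] <;> norm_num
  have hrel' : 1 + (k 0 * v 0 + k 1 * v 1) + c * vY = 0 := by
    simp only [hv1, hY1, Fin.sum_univ_two] at hrel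
    exact_mod_cast hrel
  have hYv : vY = y7 ((k 0, deg (B 0)), (k 1, deg (B 1)), (c, deg Z)) (v 0) (v 1) := by
    simp only [y7]
    linear_combination c * hrel' - vY * ha2
  have hYm : vY ∈ inv (deg Z) := mem_inv hY2 (hY5 hs1 b'.Yt).1 (hY5 hs1 b'.Yt).2
  refine ⟨v, hv1, fun i => mem_inv (hv2 i) (hv5 i hs1 (b'.At i)).1 (hv5 i hs1 (b'.At i)).2, by rw [← hYv]; exact hY1, ?_, ?_⟩
  · rw [← hYv]; exact hYm
  · rw [← hYv]
    have h1 := b'.E_inv (N := 63360) (by norm_num) (by rw [hG]) h7 (nr7' hG h7) hs2 hv1 hY1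
    rw [Fin.sum_univ_two] at h1
    exact h1

theorem final7' (hG : Nat.card G = 443520) (h7 : orderOf x7 = 7) (b' : QB 7 2 x7 B k Z c) :
    ((k 0, deg (B 0)), (k 1, deg (B 1)), (c, deg Z)) = ((-1, 55), (1, 99), (-1, 45)) ∨
    ((k 0, deg (B 0)), (k 1, deg (B 1)), (c, deg Z)) = ((-1, 55), (1, 120), (-1, 66)) := by
  obtain ⟨s, hs⟩ := exists_elt' hG (p := 2) (by norm_num) (by norm_num)
  obtain ⟨v, -, h1, -, h2, h3⟩ := inv7' hG h7 b' hs
  exact ar_inv7 _ (cand7' hG h7 b') _ (h1 0) _ (h1 1) h3 h2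

/-- all degrees not divisible by 7 -/
theorem deg7' (hG : Nat.card G = 443520) (h7 : orderOf x7 = 7) (b' : QB 7 2 x7 B k Z c) :
    (∀ χ : IrrCharacter G, χ ≠ triv G → 7 ∣ deg χ ∨ deg χ = 55 ∨ deg χ = 99 ∨ deg χ = 45) ∨
    (∀ χ : IrrCharacter G, χ ≠ triv G → 7 ∣ deg χ ∨ deg χ = 55 ∨ deg χ = 120 ∨ deg χ = 66) := by
  have key : ∀ χ : IrrCharacter G, χ ≠ triv G → 7 ∣ deg χ ∨ deg χ = deg (B 0) ∨ deg χ = deg (B 1) ∨ deg χ = deg Z := by
    intro χ h1
    by_cases h2 : ∃ i, χ = B i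
    · obtain ⟨i, rfl⟩ := h2
      fin_cases i
      · right; left; rfl
      · right; right; left; rfl
    by_cases h3 : χ = Z ∨ χ = cc Z
    · right; right; right
      rcases h3 with rfl | rfl
      · rfl
      · rw [deg_cc]
    · push Not at h2 h3
      left; exact (b'.out χ h1 h2 h3.1 h3.2).2.2
  rcases final7' hG h7 b' with h | h
  · left
    simp only [Prod.mk.injEq] at h
    obtain ⟨⟨-, h1⟩, ⟨-, h2⟩, -, h3⟩ := h
    rwa [h1, h2, h3] at key
  · right
    simp only [Prod.mk.injEq] at h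
    obtain ⟨⟨-, h1⟩, ⟨-, h2⟩, -, h3⟩ := h
    rwa [h1, h2, h3] at key

end

/-- inertial index two does not occur for 5 -/
theorem five_two (hG : Nat.card G = 443520) (P : Sylow 5 G) (hP1 : Nat.card (P : Subgroup G) = 5)
    (hrel : (centralizer ((P : Subgroup G) : Set G)).relIndex (normalizer ((P : Subgroup G) : Set G)) = 2) : False := by
  classical
  have i5 : Fact (Nat.Prime 5) := ⟨by norm_num⟩
  obtain ⟨x7, h7⟩ := exists_elt' hG (p := 7) (by norm_num) (by norm_num)
  obtain ⟨B, k, Z, c, b'⟩ := qb7' hG h7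
  have hna := nca hG
  obtain ⟨Bk⟩ := exists_pb P hP1 (e := 2) (t := 2) hrel (by norm_num) (by norm_num)
  have hidx : (centralizer ((P : Subgroup G) : Set G)).index ∣ 88704 := by
    have h1 := Subgroup.card_mul_index (centralizer ((P : Subgroup G) : Set G))
    have h2 := card_dvd_of_le (le_cent hP1)
    rw [hP1] at h2
    obtain ⟨t, ht⟩ := h2
    rw [ht, hG, mul_assoc] at h1
    have h3 : t * (centralizer ((P : Subgroup G) : Set G)).index = 88704 := by
      have : 5 * (t * (centralizer ((P : Subgroup G) : Set G)).index) = 5 * 88704 := by rw [h1]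
      exact Nat.eq_of_mul_eq_mul_left (by norm_num) this
    exact ⟨t, by rw [mul_comm, h3]⟩
  obtain ⟨χ, hχ, hχ1⟩ := Finset.exists_mem_ne (by rw [Bk.cardX]; norm_num : 1 < Bk.X.card) (triv G)
  have hX : Bk.X = {triv G, χ} := by
    symm
    apply Finset.eq_of_subset_of_card_le
    · intro a ha
      rcases Finset.mem_insert.1 ha with rfl | ha
      · exact Bk.tX
      · rw [Finset.mem_singleton.1 ha]; exact hχ
    · rw [Bk.cardX, Finset.card_pair hχ1.symm]
  obtain ⟨ψ, hψ⟩ := Finset.card_pos.1 (by rw [Bk.cardY]; norm_num : 0 < Bk.Y.card)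
  have hψ1 : ψ ≠ triv G := fun h => Bk.disj _ Bk.tX (h ▸ hψ)
  have hrel := Bk.rel ψ hψ 1 (by rw [orderOf_one]; norm_num)
  rw [hX, Finset.sum_pair hχ1.symm, Bk.tδ, apply_one, apply_one, apply_one, deg_triv] at hrel
  have hrel' : Bk.s * deg ψ = 1 + Bk.δ χ * deg χ := by
    have : ((Bk.s * deg ψ : ℤ) : ℂ) = ((1 + Bk.δ χ * deg χ : ℤ) : ℂ) := by push_cast; push_cast at hrel; rw [hrel]; ring
    exact_mod_cast this
  have hd1 := (Bk.dvdX χ hχ).trans hidx
  have hd2 := (Bk.dvdY ψ hψ).trans hidx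
  have hp1 := deg_pos χ
  have hp2 := deg_pos ψ
  have hn1 : deg χ ≠ 1 := fun h => hχ1 (eq_triv_of_deg_one hna h)
  have hn2 : deg ψ ≠ 1 := fun h => hψ1 (eq_triv_of_deg_one hna h)
  have hmem : deg ψ = deg χ + 1 ∨ deg χ = deg ψ + 1 := by
    rcases Bk.δ_pm χ hχ with h1 | h1 <;> rcases Bk.s_pm with h2 | h2 <;> rw [h1, h2] at hrel' <;> omega
  have l1 := lt666 hG χ
  have l2 := lt666 hG ψ
  rcases deg7' hG h7 b' with h | h
  · have b1 := ar_bad3 hd1 hn1 (h χ hχ1)
    have b2 := ar_bad3 hd2 hn2 (h ψ hψ1)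
    rcases hmem with h8 | h8
    · have := (ar_c54 _ (List.mem_range.2 (by omega : deg χ < 667))).1
      rw [← h8, b1, b2] at this
      exact absurd this (by decide)
    · have := (ar_c54 _ (List.mem_range.2 (by omega : deg ψ < 667))).1
      rw [← h8, b1, b2] at this
      exact absurd this (by decide)
  · have b1 := ar_bad4 hd1 hn1 (h χ hχ1)
    have b2 := ar_bad4 hd2 hn2 (h ψ hψ1)
    rcases hmem with h8 | h8
    · have := (ar_c54 _ (List.mem_range.2 (by omega : deg χ < 667))).2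
      rw [← h8, b1, b2] at this
      exact absurd this (by decide)
    · have := (ar_c54 _ (List.mem_range.2 (by omega : deg ψ < 667))).2
      rw [← h8, b1, b2] at this
      exact absurd this (by decide)

/-- a prime dividing the order of the centralizer of an element -/
theorem exists_comm (hG : Nat.card G = 443520) {y : G} {n q : ℕ} [Fact q.Prime] (hy : orderOf y = n)
    (h : q ∣ Nat.card (centralizer ({y} : Set G))) : ∃ g : G, orderOf g = q ∧ y ∈ centralizer ({g} : Set G) ∧ g ∈ centralizer ({y} : Set G) := by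
  obtain ⟨g, hg⟩ := exists_prime_orderOf_dvd_card' (G := centralizer ({y} : Set G)) q h
  refine ⟨g, by rw [Subgroup.orderOf_coe, hg], ?_, g.2⟩
  rw [mem_centralizer_singleton_iff]
  exact (mem_centralizer_singleton_iff.1 g.2).symm

theorem ar_c5 : ∀ c ∈ Nat.divisors 22176, c % 5 = 1 → ¬ 11 ∣ c → ¬ 7 ∣ c → c = 1 ∨ (¬ (5 * c) ^ 2 ∣ 436800 ∧ ((5 * c) ^ 2 ∣ 448000 → c = 16)) := by decide +kernel

omit [IsSimpleGroup G] in
theorem exists_K5 {P : Subgroup G} (hP : Nat.card P = 5) (hC : Nat.card (centralizer (P : Set G)) = 80) :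
    ∃ K : Sylow 2 (centralizer (P : Set G)), (K : Subgroup (centralizer (P : Set G))).Normal ∧ Nat.card (K : Subgroup (centralizer (P : Set G))) = 16 := by
  have : Fact (Nat.Prime 2) := ⟨by norm_num⟩
  have f5 : Fact (Nat.Prime 5) := ⟨by norm_num⟩
  obtain ⟨K⟩ : Nonempty (Sylow 2 (centralizer (P : Set G))) := inferInstance
  have hK : Nat.card (K : Subgroup (centralizer (P : Set G))) = 16 := by
    have := sylow_card_of (G := centralizer (P : Set G)) (p := 2) (k := 4) (m := 5) (by rw [hC]; norm_num) (by norm_num) K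
    rw [this]; norm_num
  refine ⟨K, ?_, hK⟩
  have h4 : P.subgroupOf (centralizer (P : Set G)) ≤ normalizer ((K : Subgroup (centralizer (P : Set G))) : Set (centralizer (P : Set G))) := by
    intro x hx
    have hx' : (x : G) ∈ P := mem_subgroupOf.1 hx
    have hcomm : ∀ y : centralizer (P : Set G), x * y = y * x := by
      intro y
      apply Subtype.ext
      exact (mem_centralizer_iff.1 y.2 x hx')
    rw [mem_normalizer_iff]
    intro y
    rw [hcomm y, mul_inv_cancel_right]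
  have h5 := card_dvd_of_le h4
  rw [Nat.card_congr (subgroupOfEquivOfLe (le_cent hP)).toEquiv, hP] at h5
  have h6 := card_dvd_of_le (le_normalizer (H := (K : Subgroup (centralizer (P : Set G)))))
  rw [hK] at h6
  have h7 : 5 * 16 ∣ Nat.card (normalizer ((K : Subgroup (centralizer (P : Set G))) : Set (centralizer (P : Set G)))) :=
    Nat.Coprime.mul_dvd_of_dvd_of_dvd (by norm_num) h5 h6
  have h8 := card_subgroup_dvd_card (normalizer ((K : Subgroup (centralizer (P : Set G))) : Set (centralizer (P : Set G))))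
  rw [hC] at h8
  have h9 : normalizer ((K : Subgroup (centralizer (P : Set G))) : Set (centralizer (P : Set G))) = ⊤ := by
    rw [← Subgroup.card_eq_iff_eq_top, hC]
    exact Nat.dvd_antisymm h8 h7
  exact Subgroup.normalizer_eq_top_iff.1 h9

omit [IsSimpleGroup G] in
/-- an involution centralized by the normalizer -/
theorem exists_fix5 {P : Subgroup G} (hP : Nat.card P = 5) (hC : Nat.card (centralizer (P : Set G)) = 80)
    (hN : Nat.card (normalizer (P : Set G)) = 320) :
    ∃ z ∈ centralizer (P : Set G), orderOf z = 2 ∧ normalizer (P : Set G) ≤ centralizer ({z} : Set G) := by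
  have f2 : Fact (Nat.Prime 2) := ⟨by norm_num⟩
  obtain ⟨K, hKn, hK⟩ := exists_K5 hP hC
  have hKi : (K : Subgroup (centralizer (P : Set G))).index = 5 := by
    have h1 := Subgroup.card_mul_index (K : Subgroup (centralizer (P : Set G)))
    rw [hK, hC] at h1
    omega
  have hmemK : ∀ g : centralizer (P : Set G), (g : G) ^ 16 = 1 → g ∈ (K : Subgroup (centralizer (P : Set G))) := by
    intro g hg
    apply mem_of_orderOf_coprime_index
    rw [hKi]
    have h4 : orderOf g ∣ 16 := orderOf_dvd_of_pow_eq_one (Subtype.ext hg)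
    exact Nat.Coprime.coprime_dvd_left h4 (by norm_num)
  let α := {g : G // g ∈ centralizer (P : Set G) ∧ g ^ 16 = 1}
  have hα : Nat.card α = 16 := by
    rw [← hK]
    refine Nat.card_congr
      { toFun := fun g => ⟨⟨g.1, g.2.1⟩, hmemK ⟨g.1, g.2.1⟩ g.2.2⟩
        invFun := fun k => ⟨((k : centralizer (P : Set G)) : G), (k : centralizer (P : Set G)).2, ?_⟩
        left_inv := fun g => rfl
        right_inv := fun k => rfl }
    have h1 : k ^ Nat.card (K : Subgroup (centralizer (P : Set G))) = 1 := pow_card_eq_one'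
    rw [hK] at h1
    exact congrArg (fun k : (K : Subgroup (centralizer (P : Set G))) => ((k : centralizer (P : Set G)) : G)) h1
  obtain ⟨T⟩ : Nonempty (Sylow 2 (normalizer (P : Set G))) := inferInstance
  have hT : Nat.card (T : Subgroup (normalizer (P : Set G))) = 64 := by
    have := sylow_card_of (G := normalizer (P : Set G)) (p := 2) (k := 6) (m := 5) (by rw [hN]; norm_num) (by norm_num) T
    rw [this]; norm_num
  letI : MulAction (T : Subgroup (normalizer (P : Set G))) α :=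
    { smul := fun t g => ⟨((t : normalizer (P : Set G)) : G) * g.1 * ((t : normalizer (P : Set G)) : G)⁻¹,
        conj_mem_cent (t : normalizer (P : Set G)).2 g.2.1, by rw [conj_pow, g.2.2, mul_one, mul_inv_cancel]⟩
      one_smul := fun g => by
        apply Subtype.ext
        show (((1 : (T : Subgroup (normalizer (P : Set G)))) : normalizer (P : Set G)) : G) * g.1 *
          (((1 : (T : Subgroup (normalizer (P : Set G)))) : normalizer (P : Set G)) : G)⁻¹ = g.1
        simp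
      mul_smul := fun a b g => by
        apply Subtype.ext
        show (((a * b : (T : Subgroup (normalizer (P : Set G)))) : normalizer (P : Set G)) : G) * g.1 *
          (((a * b : (T : Subgroup (normalizer (P : Set G)))) : normalizer (P : Set G)) : G)⁻¹ =
          ((a : normalizer (P : Set G)) : G) * (((b : normalizer (P : Set G)) : G) * g.1 * ((b : normalizer (P : Set G)) : G)⁻¹) *
            ((a : normalizer (P : Set G)) : G)⁻¹
        push_cast; group }
  have hsm : ∀ (t : (T : Subgroup (normalizer (P : Set G)))) (g : α), (t • g).1 =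
    ((t : normalizer (P : Set G)) : G) * g.1 * ((t : normalizer (P : Set G)) : G)⁻¹ := fun _ _ => rfl
  obtain ⟨b, hb, hb1⟩ := T.2.exists_fixed_point_of_prime_dvd_card_of_fixed_point α (by rw [hα]; norm_num)
    (a := ⟨1, one_mem _, one_pow _⟩) (by
      rw [MulAction.mem_fixedPoints]
      intro t
      apply Subtype.ext
      rw [hsm, mul_one, mul_inv_cancel])
  rw [MulAction.mem_fixedPoints] at hb
  have hbne : b.1 ≠ 1 := fun h => hb1 (Subtype.ext h.symm)
  have hNle : normalizer (P : Set G) ≤ centralizer ({b.1} : Set G) := by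
    have e1 : (T : Subgroup (normalizer (P : Set G))) ≤ (centralizer ({b.1} : Set G)).subgroupOf (normalizer (P : Set G)) := by
      intro t ht
      rw [mem_subgroupOf, mem_centralizer_singleton_iff]
      have h1 := congrArg Subtype.val (hb ⟨t, ht⟩)
      rw [hsm] at h1
      exact mul_inv_eq_iff_eq_mul.1 h1
    have e2 : P.subgroupOf (normalizer (P : Set G)) ≤ (centralizer ({b.1} : Set G)).subgroupOf (normalizer (P : Set G)) := by
      intro t ht
      rw [mem_subgroupOf, mem_centralizer_singleton_iff]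
      exact mem_centralizer_iff.1 b.2.1 _ (mem_subgroupOf.1 ht)
    have h5 := card_dvd_of_le e2
    rw [Nat.card_congr (subgroupOfEquivOfLe (le_normalizer (H := P))).toEquiv, hP] at h5
    have h6 := card_dvd_of_le e1
    rw [hT] at h6
    have h7 : 5 * 64 ∣ Nat.card ((centralizer ({b.1} : Set G)).subgroupOf (normalizer (P : Set G))) :=
      Nat.Coprime.mul_dvd_of_dvd_of_dvd (by norm_num) h5 h6
    have h8 := card_subgroup_dvd_card ((centralizer ({b.1} : Set G)).subgroupOf (normalizer (P : Set G)))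
    rw [hN] at h8
    have h9 : (centralizer ({b.1} : Set G)).subgroupOf (normalizer (P : Set G)) = ⊤ := by
      rw [← Subgroup.card_eq_iff_eq_top, hN]
      exact Nat.dvd_antisymm h8 h7
    exact subgroupOf_eq_top.1 h9
  have hob : orderOf b.1 ∣ 2 ^ 4 := orderOf_dvd_of_pow_eq_one b.2.2
  obtain ⟨j, hj, hj'⟩ := (Nat.dvd_prime_pow Nat.prime_two).1 hob
  have hj0 : j ≠ 0 := by
    rintro rfl
    rw [pow_zero, orderOf_eq_one_iff] at hj'
    exact hbne hj'
  have h2 : 2 ∣ orderOf b.1 := by rw [hj']; exact dvd_pow_self 2 hj0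
  refine ⟨b.1 ^ (orderOf b.1 / 2), pow_mem b.2.1 _, orderOf_pow_orderOf_div (orderOf_pos b.1).ne' h2, fun n hn => ?_⟩
  have h3 := hNle hn
  rw [mem_centralizer_singleton_iff] at h3 ⊢
  exact (Commute.pow_right (show Commute n b.1 from h3) _)

theorem not7 (hG : Nat.card G = 443520) {z : G} (hz : orderOf z = 2) : ¬ 7 ∣ Nat.card (centralizer ({z} : Set G)) := by
  intro h
  have : Fact (Nat.Prime 7) := ⟨by norm_num⟩
  obtain ⟨g, hg1, hg2, -⟩ := exists_comm hG (q := 7) hz h
  have h10 := orderOf_dvd_natCard (⟨z, hg2⟩ : centralizer ({g} : Set G))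
  rw [Subgroup.orderOf_mk, hz, c7' hG hg1] at h10
  norm_num at h10

theorem sylow5 (hG : Nat.card G = 443520) (P : Sylow 5 G) : Nat.card (normalizer ((P : Subgroup G) : Set G)) = 20 := by
  classical
  have i5 : Fact (Nat.Prime 5) := ⟨by norm_num⟩
  have i2 : Fact (Nat.Prime 2) := ⟨by norm_num⟩
  have i7 : Fact (Nat.Prime 7) := ⟨by norm_num⟩
  have i11 : Fact (Nat.Prime 11) := ⟨by norm_num⟩
  have hna := nca hG
  have hP : Nat.card (P : Subgroup G) = 5 := by
    have := sylow_card_of (G := G) (p := 5) (k := 1) (m := 88704) (by rw [hG]; norm_num) (by norm_num) P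
    simpa using this
  obtain ⟨e, c, h6, h7, h8, h9⟩ := nc_data hna P hP
  obtain ⟨h3, h4, h5⟩ := index_mul P hP
  have hN := card_normalizer_mul_nsyl P
  have hrel : (centralizer ((P : Subgroup G) : Set G)).relIndex (normalizer ((P : Subgroup G) : Set G)) = e := by
    have h10 : Nat.card (Sylow 5 G) * ((centralizer ((P : Subgroup G) : Set G)).relIndex (normalizer ((P : Subgroup G) : Set G)) * (5 * c)) =
      Nat.card (Sylow 5 G) * (e * (5 * c)) := by
      rw [← h6, ← h7, h3, ← hN, mul_comm]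
    have h11 : 0 < Nat.card (Sylow 5 G) := Nat.card_pos
    have h12 : 0 < 5 * c := by rw [← h7]; exact Nat.card_pos
    exact Nat.eq_of_mul_eq_mul_right h12 (Nat.eq_of_mul_eq_mul_left h11 h10)
  have he : e = 2 ∨ e = 4 := by
    have h10 : ∀ d ∈ Nat.divisors 4, d ≠ 1 → d = 2 ∨ d = 4 := by decide +kernel
    exact h10 e (Nat.mem_divisors.2 ⟨h8, by norm_num⟩) h9
  rcases he with rfl | rfl
  · exact (five_two hG P hP hrel).elim
  have hn : Nat.card (Sylow 5 G) % 5 = 1 := card_sylow_modEq_one 5 G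
  have hcn : c * Nat.card (Sylow 5 G) = 22176 := by
    rw [h6, hG] at hN
    have : 20 * (c * Nat.card (Sylow 5 G)) = 20 * 22176 := by
      rw [← hN.trans (by norm_num : 443520 = 20 * 22176)]; ring
    exact Nat.eq_of_mul_eq_mul_left (by norm_num) this
  have hc5 : c % 5 = 1 := by
    have h10 : (c * Nat.card (Sylow 5 G)) % 5 = 1 := by rw [hcn]
    rw [Nat.mul_mod, hn, mul_one, Nat.mod_mod] at h10
    exact h10
  obtain ⟨y, hyP, hy⟩ : ∃ y : G, y ∈ (P : Subgroup G) ∧ orderOf y = 5 := by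
    obtain ⟨y, hy⟩ := exists_prime_orderOf_dvd_card' (G := (P : Subgroup G)) 5 (by rw [hP])
    exact ⟨y, y.2, by rw [Subgroup.orderOf_coe, hy]⟩
  have hCeq : centralizer ({y} : Set G) = centralizer ((P : Subgroup G) : Set G) := by
    have hle : zpowers y ≤ (P : Subgroup G) := by rw [zpowers_le]; exact hyP
    have heq : zpowers y = (P : Subgroup G) := eq_of_le_of_card_ge hle (by rw [hP, Nat.card_zpowers, hy])
    rw [← heq]
    apply le_antisymm
    · intro g hg
      rw [mem_centralizer_singleton_iff] at hg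
      rw [mem_centralizer_iff]
      intro y' hy'
      obtain ⟨n, rfl⟩ := mem_zpowers_iff.1 hy'
      exact (((Commute.zpow_right (show Commute g y from hg) n))).symm
    · exact centralizer_le (by simp)
  have hCy : Nat.card (centralizer ({y} : Set G)) = 5 * c := by rw [hCeq, h7]
  have hnot : ∀ {q : ℕ} [Fact q.Prime], (∀ g : G, orderOf g = q → Nat.card (centralizer ({g} : Set G)) = q) → ¬ 5 ∣ q → ¬ q ∣ c := by
    intro q _ hq hq5 hqc
    obtain ⟨g, hg1, hg2, -⟩ := exists_comm hG (q := q) hy (by rw [hCy]; exact hqc.mul_left 5)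
    have h10 := orderOf_dvd_natCard (⟨y, hg2⟩ : centralizer ({g} : Set G))
    rw [Subgroup.orderOf_mk, hy, hq g hg1] at h10
    exact hq5 h10
  have hc := ar_c5 c (Nat.mem_divisors.2 ⟨⟨_, hcn.symm⟩, by norm_num⟩) hc5
    (hnot (q := 11) (fun g hg => c11' hG hg) (by norm_num)) (hnot (q := 7) (fun g hg => c7' hG hg) (by norm_num))
  rcases hc with rfl | ⟨hc2, hc3⟩
  · rw [h6]
  exfalso
  obtain ⟨x7, hx7⟩ := exists_elt' hG (p := 7) (by norm_num) (by norm_num)
  obtain ⟨B, k, Z, cZ, b'⟩ := qb7' hG hx7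
  have hn25 : ¬ 5 ^ (1 + 1) ∣ Nat.card G := by rw [hG]; norm_num
  rcases final7' hG hx7 b' with h | h
  · -- the first case
    have hh := h
    simp only [Prod.mk.injEq] at h
    obtain ⟨⟨k0, g1⟩, ⟨k1, g2⟩, kZ, g3⟩ := h
    have z0 := vanish (B 0) 5 1 (by norm_num) hn25 (by rw [g1]; norm_num) y (by rw [hy])
    have z2 := vanish Z 5 1 (by norm_num) hn25 (by rw [g3]; norm_num) y (by rw [hy])
    obtain ⟨n1, n2⟩ := QBlk.not_isConj_of_order hx7 (g := y) (by rw [hy]; norm_num)
    have hr := b'.rel y n1 n2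
    rw [Fin.sum_univ_two, z0, z2, k1] at hr
    have z1 : (B 1 : G → ℂ) y = -1 := by push_cast at hr; linear_combination hr
    have hB : ∀ i, (B i : G → ℂ) y = ((![0, -1] : Fin 2 → ℤ) i : ℤ) := by
      intro i
      fin_cases i
      · simpa using z0
      · simpa using z1
    have hE := b'.E (N := 63360) (by norm_num) (by rw [hG]) hx7 hB hB (vY := 0) (wY := 0) (by rw [z2]; norm_num) (by rw [z2]; norm_num)
    rw [Fin.sum_univ_two, k1, g2, hCy] at hE
    simp only [Matrix.cons_val_zero, Matrix.cons_val_one, Matrix.cons_val, mul_zero, zero_mul, add_zero, zero_add] at hE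
    norm_num at hE
    have h5 : (((5 * c) ^ 2 : ℕ) : ℤ) ∣ ((448000 : ℕ) : ℤ) := ⟨_, by push_cast; rw [← hE]; ring⟩
    have hc16 : c = 16 := hc3 (by exact_mod_cast h5)
    subst hc16
    obtain ⟨z, hz1, hz2, hz3⟩ := exists_fix5 hP (by rw [h7]) (by rw [h6])
    have s : SZ (P : Subgroup G) z := by
      refine ⟨hz2, hz1, fun a ha hza => ?_, hz3⟩
      obtain ⟨n, hn, rfl⟩ := fusion P hz1 ha hza
      have h2 := hz3 hn
      rw [mem_centralizer_singleton_iff] at h2
      rw [h2, mul_inv_cancel_right]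
    have hzz : z ^ 2 = 1 := by rw [← hz2]; exact pow_orderOf_eq_one z
    obtain ⟨v, v1, v2, v3, v4, v5⟩ := inv7' hG hx7 b' hz2
    rw [hh] at v3 v4 v5
    have w0 := v2 0
    have w1 := v2 1
    rw [g1] at w0
    rw [g2] at w1
    rw [g3] at v4
    obtain ⟨w, hw⟩ : ∃ w, y7 ((-1, 55), (1, 99), (-1, 45)) (v 0) (v 1) = w := ⟨_, rfl⟩
    have m0 := modX (p := 5) (by norm_num) hP (χ := B 0) (δ := 0) (fun c' _ hc' => by
      rw [vanish (B 0) 5 1 (by norm_num) hn25 (by rw [g1]; norm_num) c' hc']; norm_num) hz1 hz2 (v1 0)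
    have m1 := modX (p := 5) (by norm_num) hP (χ := Z) (δ := 0) (fun c' _ hc' => by
      rw [vanish Z 5 1 (by norm_num) hn25 (by rw [g3]; norm_num) c' hc']; norm_num) hz1 hz2 v3
    -- the order of the centralizer
    obtain ⟨I, hI⟩ : ∃ I, (centralizer ({z} : Set G)).index = I := ⟨_, rfl⟩
    obtain ⟨Cz, hCz⟩ : ∃ Cz, Nat.card (centralizer ({z} : Set G)) = Cz := ⟨_, rfl⟩
    have hCI := card_index hG hI
    rw [hCz] at hCI
    have c0 := congrS (p := 5) hP (triv G) s.mem hzz s.fus (v := 1) (by rw [triv_apply]; norm_num)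
    rw [hI, deg_triv] at c0
    have h320 : 320 ∣ Cz := by
      have := card_dvd_of_le s.le
      rwa [h6, hCz] at this
    have hCd : Cz ∣ 5760 := by
      have h1 : Cz ∣ 77 * 5760 := ⟨I, by rw [hCI]⟩
      refine Nat.Coprime.dvd_of_dvd_mul_left ?_ h1
      rw [show (77 : ℕ) = 7 * 11 by norm_num]
      apply Nat.Coprime.mul_right
      · exact ((Nat.Prime.coprime_iff_not_dvd (by norm_num)).2 (by rw [← hCz]; exact not7 hG hz2)).symm
      · exact ((Nat.Prime.coprime_iff_not_dvd (by norm_num)).2 (by rw [← hCz]; exact not11 hG hz2)).symm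
    have hIeq : 443520 / Cz = I := by
      have hp : 0 < Cz := by rw [← hCz]; exact Nat.card_pos
      exact Nat.div_eq_of_eq_mul_right hp hCI.symm
    have hCm := ar_C5 Cz (Nat.mem_divisors.2 ⟨hCd, by norm_num⟩) h320 (by rw [hIeq]; push_cast at c0; omega)
    have hE2 := b'.E (N := 63360) (by norm_num) (by rw [hG]) hx7 (v1) hB v3 (wY := 0) (by rw [z2]; norm_num)
    rw [Fin.sum_univ_two, k1, g2, hCy, hCz] at hE2
    obtain ⟨N, hN'⟩ : ∃ N : ℤ, (Nat.card {q : G × G // IsConj z q.1 ∧ IsConj y q.2 ∧ q.1 * q.2 = x7} : ℤ) = N := ⟨_, rfl⟩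
    rw [hN'] at hE2
    simp only [Matrix.cons_val_zero, Matrix.cons_val_one, Matrix.cons_val, mul_zero, zero_mul, add_zero, zero_add] at hE2
    norm_num at hE2
    refine ar_inv5 _ w0 _ w1 v5 v4 ?_ ?_ Cz hCm ?_ ?_
    · push_cast at m0; omega
    · push_cast at m1; omega
    · have : 56 * (99 - v 1) = (Cz : ℤ) * N := by linarith
      rw [this]; exact Int.mul_emod_right _ _
    · have hnd : [triv G, B 0, B 1, Z, cc Z].Nodup := by
        simp only [List.nodup_cons, List.mem_cons, List.not_mem_nil, or_false, not_or, List.nodup_nil, and_true, not_false_eq_true]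
        exact ⟨⟨(b'.At 0).symm, (b'.At 1).symm, b'.Yt.symm, b'.cYt.symm⟩, ⟨fun h => fin01 (b'.inj h), b'.AY 0, b'.AcY 0⟩,
          ⟨b'.AY 1, b'.AcY 1⟩, b'.cYY.symm⟩
      choose f hf _ using fun χ : IrrCharacter G => val_inv hna χ z hzz
      have hnorm := Cfsg.Agent.Lib.M12ByOrder.norm_list hnd (g := z) (f := f) (fun χ _ => hf χ)
      have ft : f (triv G) = 1 := by have := hf (triv G); rw [triv_apply] at this; exact_mod_cast this.symm
      have fb0 : f (B 0) = v 0 := by have := hf (B 0); rw [v1] at this; exact_mod_cast this.symm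
      have fb1 : f (B 1) = v 1 := by have := hf (B 1); rw [v1] at this; exact_mod_cast this.symm
      have fz : f Z = y7 ((-1, 55), (1, 99), (-1, 45)) (v 0) (v 1) := by have := hf Z; rw [v3] at this; exact_mod_cast this.symm
      have fcz : f (cc Z) = y7 ((-1, 55), (1, 99), (-1, 45)) (v 0) (v 1) := by
        have := hf (cc Z); rw [cc_apply, v3, map_intCast] at this; exact_mod_cast this.symm
      simp only [List.map_cons, List.map_nil, List.sum_cons, List.sum_nil, add_zero] at hnorm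
      rw [ft, fb0, fb1, fz, fcz, hCz] at hnorm
      linarith
  · simp only [Prod.mk.injEq] at h
    obtain ⟨⟨k0, g1⟩, ⟨k1, g2⟩, kZ, g3⟩ := h
    have z0 := vanish (B 0) 5 1 (by norm_num) hn25 (by rw [g1]; norm_num) y (by rw [hy])
    have z1 := vanish (B 1) 5 1 (by norm_num) hn25 (by rw [g2]; norm_num) y (by rw [hy])
    obtain ⟨n1, n2⟩ := QBlk.not_isConj_of_order hx7 (g := y) (by rw [hy]; norm_num)
    have hr := b'.rel y n1 n2
    rw [Fin.sum_univ_two, z0, z1, kZ] at hr
    have hZ : (Z : G → ℂ) y = ((1 : ℤ) : ℂ) := by push_cast; push_cast at hr; linear_combination -hr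
    have hB : ∀ i, (B i : G → ℂ) y = (((fun _ => 0 : Fin 2 → ℤ) i : ℤ) : ℂ) := by
      intro i
      fin_cases i
      · simpa using z0
      · simpa using z1
    have hE := b'.E (N := 63360) (by norm_num) (by rw [hG]) hx7 hB hB hZ hZ
    rw [Fin.sum_univ_two, kZ, g3, hCy] at hE
    norm_num at hE
    apply hc2
    have h5 : (((5 * c) ^ 2 : ℕ) : ℤ) ∣ ((436800 : ℕ) : ℤ) := ⟨_, by push_cast; rw [← hE]; ring⟩
    exact_mod_cast h5

theorem elt5 (hG : Nat.card G = 443520) (x : G) (hx : orderOf x = 5) : Nat.card (normalizer (zpowers x : Set G)) = 20 := by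
  have : Fact (Nat.Prime 5) := ⟨by norm_num⟩
  obtain ⟨P, h1, h2, h3⟩ := sylow_elt (p := 5) (by rw [hG]; norm_num) x hx
  have := sylow5 hG P
  rwa [h2] at this

theorem h22_of_card (hG : Nat.card G = 443520) : H22 G := ⟨hG, elt11 hG, elt7 hG, elt5 hG⟩

end Cfsg.Agent.Lib.M22N
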