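import Mathlib
import Cfsg.Agent.Lib.M22ZC

/-!
# Simple groups of order 10200960, part A: enumeration for the principal 11-block (helper7)
-/

set_option autoImplicit false
set_option linter.all false

namespace Cfsg.Agent.Lib.M23N

def DD : List ℕ := [1, 11, 12, 22, 23, 45, 115, 126, 138, 160, 230, 231, 252, 253, 264, 276, 368, 483, 495, 506, 528, 644, 736, 759, 770, 896, 990, 1012, 1035, 1265, 1288, 1380, 1518, 1540, 1656, 1760, 1771, 1920, 2024, 2277, 2415, 2530, 2760, 2772, 2898, 3036]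
def XT : List (ℤ × ℕ) := [(1, 12), (1, 23), (1, 45), (-1, 230), (-1, 252), (1, 276), (-1, 483), (-1, 736), (1, 1035), (1, 1288), (-1, 2760)]
def YT : List (ℤ × ℕ) := [(-1, 115), (-1, 126), (1, 138), (1, 160), (-1, 368), (1, 644), (-1, 896), (-1, 1380), (1, 1656), (1, 1920), (1, 2415), (-1, 2898)]
abbrev Pat := (ℤ × ℕ) × (ℤ × ℕ) × (ℤ × ℕ) × (ℤ × ℕ) × (ℤ × ℕ)
def PL : List Pat := [
  ((1, 12), (1, 12), (1, 45), (1, 45), (-1, 115)),
  ((1, 12), (1, 12), (1, 45), (-1, 230), (1, 160)),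
  ((1, 12), (1, 23), (1, 45), (1, 45), (-1, 126)),
  ((1, 23), (1, 23), (1, 23), (1, 45), (-1, 115)),
  ((1, 23), (1, 23), (1, 23), (-1, 230), (1, 160)),
  ((1, 23), (1, 23), (1, 45), (-1, 230), (1, 138)),
  ((1, 23), (1, 23), (1, 45), (-1, 252), (1, 160)),
  ((1, 23), (1, 23), (1, 45), (1, 276), (-1, 368)),
  ((1, 23), (1, 23), (1, 45), (-1, 736), (1, 644)),
  ((1, 23), (1, 23), (1, 45), (1, 1288), (-1, 1380)),
  ((1, 23), (1, 23), (1, 276), (-1, 483), (1, 160)),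
  ((1, 23), (1, 45), (1, 45), (-1, 252), (1, 138)),
  ((1, 23), (1, 45), (-1, 230), (1, 276), (-1, 115)),
  ((1, 23), (1, 45), (-1, 230), (-1, 483), (1, 644)),
  ((1, 23), (1, 45), (1, 276), (-1, 483), (1, 138)),
  ((1, 23), (1, 45), (1, 276), (1, 1035), (-1, 1380)),
  ((1, 23), (1, 45), (-1, 736), (1, 1035), (-1, 368)),
  ((1, 23), (-1, 230), (-1, 230), (1, 276), (1, 160)),
  ((1, 23), (1, 276), (1, 276), (-1, 736), (1, 160)),
  ((1, 23), (-1, 483), (-1, 736), (1, 1035), (1, 160)),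
  ((1, 23), (-1, 736), (-1, 736), (1, 1288), (1, 160)),
  ((1, 45), (1, 45), (-1, 230), (1, 1035), (-1, 896)),
  ((1, 45), (1, 45), (-1, 252), (1, 276), (-1, 115)),
  ((1, 45), (1, 45), (-1, 252), (-1, 483), (1, 644)),
  ((1, 45), (1, 45), (-1, 483), (1, 1288), (-1, 896)),
  ((1, 45), (-1, 230), (-1, 230), (-1, 230), (1, 644)),
  ((1, 45), (-1, 230), (-1, 230), (1, 276), (1, 138)),
  ((1, 45), (-1, 230), (-1, 252), (1, 276), (1, 160)),
  ((1, 45), (-1, 230), (1, 276), (1, 276), (-1, 368)),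
  ((1, 45), (-1, 230), (1, 276), (-1, 736), (1, 644)),
  ((1, 45), (-1, 230), (1, 276), (1, 1288), (-1, 1380)),
  ((1, 45), (-1, 230), (-1, 483), (1, 1035), (-1, 368)),
  ((1, 45), (-1, 230), (-1, 736), (-1, 736), (1, 1656)),
  ((1, 45), (-1, 230), (-1, 736), (1, 1035), (-1, 115)),
  ((1, 45), (-1, 230), (-1, 736), (1, 1288), (-1, 368)),
  ((1, 45), (1, 276), (1, 276), (-1, 483), (-1, 115)),
  ((1, 45), (1, 276), (1, 276), (-1, 736), (1, 138)),
  ((1, 45), (1, 276), (-1, 483), (-1, 483), (1, 644)),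
  ((1, 45), (-1, 483), (-1, 483), (-1, 736), (1, 1656)),
  ((1, 45), (-1, 483), (-1, 483), (1, 1035), (-1, 115)),
  ((1, 45), (-1, 483), (-1, 483), (1, 1288), (-1, 368)),
  ((1, 45), (-1, 483), (-1, 736), (1, 1035), (1, 138)),
  ((1, 45), (-1, 483), (-1, 736), (1, 1288), (-1, 115)),
  ((1, 45), (-1, 736), (-1, 736), (1, 1288), (1, 138)),
  ((1, 45), (-1, 736), (1, 1035), (1, 1035), (-1, 1380)),
  ((-1, 230), (-1, 230), (-1, 736), (1, 1035), (1, 160)),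
  ((-1, 230), (1, 276), (1, 276), (-1, 483), (1, 160)),
  ((-1, 230), (-1, 483), (-1, 483), (1, 1035), (1, 160)),
  ((-1, 230), (-1, 483), (-1, 736), (1, 1288), (1, 160)),
  ((1, 276), (-1, 736), (-1, 736), (1, 1035), (1, 160)),
  ((-1, 483), (-1, 483), (-1, 483), (1, 1288), (1, 160))]
def VL253 : List (ℕ × List ℤ) := [(12, []), (23, [-9, -5, 19]), (45, []), (230, [-190, -90, -50, 50, 90, 190]), (252, [0]), (276, [-192, -144, -108, -60, -24, 24, 60, 108, 144, 192]), (483, [-189, -105, -21, 63, 147]), (736, [-160, -64, 64, 160]), (1035, []), (1288, [-168, -112, -56, 0, 56, 112, 168]), (2760, [])]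
def VL2024 : List (ℕ × List ℤ) := [(12, []), (23, [-9, -5, 19]), (45, []), (230, [-50, 50]), (252, [0]), (276, [-60, -24, 24, 60]), (483, [-21, 63]), (736, [-64, -48, -36, -20, -8, 8, 20, 36, 48, 64]), (1035, []), (1288, [-56, -28, 0, 28, 56]), (2760, [])]
def VL3795 : List (ℕ × List ℤ) := [(12, []), (23, [-9, -5, 19]), (45, [-39, -3]), (230, [-50, -34, -22, -6, 6, 22, 34, 50]), (252, [0]), (276, [-32, -24, -4, 4, 24, 32]), (483, [-49, -21, 7, 35]), (736, []), (1035, [15, 27]), (1288, [0]), (2760, [-40, -16, 16, 40])]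
def VL9108 : List (ℕ × List ℤ) := [(12, []), (23, [-9, -5, 19]), (45, [25]), (230, []), (252, [-28, 0, 28]), (276, [-32, -24, -4, 4, 24, 32]), (483, [-21, 7]), (736, [-8, 8]), (1035, [15]), (1288, [-28, 0, 28]), (2760, [])]
def VL16192 : List (ℕ × List ℤ) := [(12, []), (23, [-9, -5, 19]), (45, []), (230, []), (252, [0]), (276, [-24, 24]), (483, [-21]), (736, [-20, -8, 8, 20]), (1035, []), (1288, [0]), (2760, [])]
def VL30360 : List (ℕ × List ℤ) := [(12, []), (23, [-9, -5]), (45, [-3]), (230, [-6, 6]), (252, [0]), (276, [-4, 4]), (483, [7]), (736, [-8, 8]), (1035, [15]), (1288, [0]), (2760, [-16, -12, 12, 16])]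
def VL72864 : List (ℕ × List ℤ) := [(12, []), (23, [-9, -5]), (45, []), (230, []), (252, [0]), (276, [-4, 4]), (483, [7]), (736, [-8, 8]), (1035, []), (1288, [0]), (2760, [])]
def VL242880 : List (ℕ × List ℤ) := [(12, []), (23, [-5]), (45, [-3]), (230, [-6, 6]), (252, [0]), (276, [-4, 4]), (483, []), (736, []), (1035, []), (1288, [0]), (2760, [])]

theorem ar_DD : ∀ d ∈ List.range 3195, d ∣ 10200960 → d % 11 ∈ [0, 1, 10, 5, 6] → d % 23 ∈ [0, 1, 22, 11, 12] → d ∈ DD := by decide +kernel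

theorem ar_XT : ∀ d ∈ DD, d ≠ 1 → (d % 11 = 1 → ((1 : ℤ), d) ∈ XT) ∧ (d % 11 = 10 → ((-1 : ℤ), d) ∈ XT) ∧
    (d % 11 = 5 → ((-1 : ℤ), d) ∈ YT) ∧ (d % 11 = 6 → ((1 : ℤ), d) ∈ YT) := by decide +kernel

theorem ar_PL : ∀ p0 ∈ XT, ∀ p1 ∈ XT, p0.2 ≤ p1.2 → ∀ p2 ∈ XT, p1.2 ≤ p2.2 → ∀ p3 ∈ XT, p2.2 ≤ p3.2 → ∀ q ∈ YT,
    1 + (p0.1 * (p0.2 : ℤ) + p1.1 * p1.2 + p2.1 * p2.2 + p3.1 * p3.2) + q.1 * q.2 = 0 →
    1 + (p0.2 ^ 2 + p1.2 ^ 2 + p2.2 ^ 2 + p3.2 ^ 2) + 2 * q.2 ^ 2 ≤ 10200960 → (p0, p1, p2, p3, q) ∈ PL := by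
  decide +kernel

def RGb (B : ℕ) : List ℤ := (List.range (2 * B + 1)).map fun k : ℕ => (k : ℤ) - B

theorem mem_RGb {B : ℕ} {v : ℤ} (h1 : -(B : ℤ) ≤ v) (h2 : v ≤ B) : v ∈ RGb B := by
  rw [RGb, List.mem_map]
  exact ⟨(v + B).toNat, by rw [List.mem_range]; omega, by omega⟩

def okB (A d : ℕ) (v : ℤ) : Bool :=
  ((A * v) % d == 0 && ((v - d) % 4 == 0 && ((A * v ^ 2 - d * d) % 7 == 0 && (decide (-d < v) && decide (v < d)))))

def look : List (ℕ × List ℤ) → ℕ → List ℤ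
  | [], _ => []
  | (e, l) :: t, d => if Nat.beq e d = true then l else look t d

/-- the value of the exceptional character -/
def wv (p : Pat) (v0 v1 v2 v3 : ℤ) : ℤ := -p.2.2.2.2.1 * (1 + (p.1.1 * v0 + p.2.1.1 * v1 + p.2.2.1.1 * v2 + p.2.2.2.1.1 * v3))

def fin4 (A : ℕ) (p : Pat) (v0 v1 v2 v3 : ℤ) : Bool :=
  (927360 + (p.1.1 * v0 * v0 * ((927360 / p.1.2 : ℕ) : ℤ) + p.2.1.1 * v1 * v1 * ((927360 / p.2.1.2 : ℕ) : ℤ) +
      p.2.2.1.1 * v2 * v2 * ((927360 / p.2.2.1.2 : ℕ) : ℤ) + p.2.2.2.1.1 * v3 * v3 * ((927360 / p.2.2.2.1.2 : ℕ) : ℤ)) +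
      p.2.2.2.2.1 * wv p v0 v1 v2 v3 * wv p v0 v1 v2 v3 * ((927360 / p.2.2.2.2.2 : ℕ) : ℤ) == 0) &&
    decide (A * (1 + (v0 ^ 2 + v1 ^ 2 + v2 ^ 2 + v3 ^ 2) + 2 * wv p v0 v1 v2 v3 ^ 2) ≤ 10200960)

def good4 (A : ℕ) (p : Pat) (v0 v1 v2 v3 : ℤ) : Bool :=
  A == 3795 && (p == ((1, 45), (1, 45), (-1, 230), (1, 1035), (-1, 896)) && (v0 == -3 && (v1 == -3 && (v2 == 22 && v3 == 27))))

def chk4 (A : ℕ) (VL : List (ℕ × List ℤ)) (ps : List Pat) (g : Bool) : Bool :=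
  ps.all fun p => (look VL p.1.2).all fun v0 => (look VL p.2.1.2).all fun v1 => (look VL p.2.2.1.2).all fun v2 =>
    (look VL p.2.2.2.1.2).all fun v3 => !(fin4 A p v0 v1 v2 v3) || (g && good4 A p v0 v1 v2 v3)

theorem of_chk4 {A : ℕ} {VL : List (ℕ × List ℤ)} {ps : List Pat} {g : Bool} (h : chk4 A VL ps g = true) {p : Pat} (hp : p ∈ ps) {v0 v1 v2 v3 : ℤ}
    (h0 : v0 ∈ look VL p.1.2) (h1 : v1 ∈ look VL p.2.1.2) (h2 : v2 ∈ look VL p.2.2.1.2) (h3 : v3 ∈ look VL p.2.2.2.1.2)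
    (hf : fin4 A p v0 v1 v2 v3 = true) : g = true ∧ good4 A p v0 v1 v2 v3 = true := by
  rw [chk4, List.all_eq_true] at h
  have k0 := h p hp
  rw [List.all_eq_true] at k0
  have k1 := k0 v0 h0
  rw [List.all_eq_true] at k1
  have k2 := k1 v1 h1
  rw [List.all_eq_true] at k2
  have k3 := k2 v2 h2
  rw [List.all_eq_true] at k3
  have k4 := k3 v3 h3
  rw [hf, Bool.not_true, Bool.false_or, Bool.and_eq_true] at k4
  exact k4

theorem mVL253 : ∀ p ∈ XT, ∀ v ∈ RGb 200, okB 253 p.2 v = true → v ∈ look VL253 p.2 := by decide +kernel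
theorem mVL2024 : ∀ p ∈ XT, ∀ v ∈ RGb 70, okB 2024 p.2 v = true → v ∈ look VL2024 p.2 := by decide +kernel
theorem mVL3795 : ∀ p ∈ XT, ∀ v ∈ RGb 51, okB 3795 p.2 v = true → v ∈ look VL3795 p.2 := by decide +kernel
theorem mVL9108 : ∀ p ∈ XT, ∀ v ∈ RGb 33, okB 9108 p.2 v = true → v ∈ look VL9108 p.2 := by decide +kernel
theorem mVL16192 : ∀ p ∈ XT, ∀ v ∈ RGb 25, okB 16192 p.2 v = true → v ∈ look VL16192 p.2 := by decide +kernel
theorem mVL30360 : ∀ p ∈ XT, ∀ v ∈ RGb 18, okB 30360 p.2 v = true → v ∈ look VL30360 p.2 := by decide +kernel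
theorem mVL72864 : ∀ p ∈ XT, ∀ v ∈ RGb 11, okB 72864 p.2 v = true → v ∈ look VL72864 p.2 := by decide +kernel
theorem mVL242880 : ∀ p ∈ XT, ∀ v ∈ RGb 6, okB 242880 p.2 v = true → v ∈ look VL242880 p.2 := by decide +kernel
theorem rVL253 : chk4 253 VL253 PL false = true := by decide +kernel
theorem rVL2024 : chk4 2024 VL2024 PL false = true := by decide +kernel
theorem rVL3795 : chk4 3795 VL3795 PL true = true := by decide +kernel
theorem rVL9108 : chk4 9108 VL9108 PL false = true := by decide +kernel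
theorem rVL16192 : chk4 16192 VL16192 PL false = true := by decide +kernel
theorem rVL30360 : chk4 30360 VL30360 PL false = true := by decide +kernel
theorem rVL72864 : chk4 72864 VL72864 PL false = true := by decide +kernel
theorem rVL242880 : chk4 242880 VL242880 PL false = true := by decide +kernel

end Cfsg.Agent.Lib.M23N
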