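import Mathlib
import Cfsg.Agent.Lib.M23A

/-!
# Simple groups of order 10200960, part B: the principal 11-block (helper7)
-/

set_option autoImplicit false
set_option linter.all false

namespace Cfsg.Agent.Lib.M23N

open Subgroup Cfsg Cfsg.Agent.Lib.CharBasic Cfsg.Agent.Lib.ColTools Cfsg.Agent.Lib.SmallSimple
  Cfsg.Agent.Lib.PBlock Cfsg.Agent.Lib.QBlk
open Cfsg.Agent.Lib.M22N (cent_of_N congrS QB.ty QB.sq qb_nodup)
open Cfsg.Agent.Lib.M12ByOrder (norm_list)
open scoped ComplexConjugate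

universe u

structure H23 (G : Type u) [Group G] : Prop where
  card : Nat.card G = 10200960
  n11 : ∀ x : G, orderOf x = 11 → Nat.card (normalizer (zpowers x : Set G)) = 55
  n23 : ∀ x : G, orderOf x = 23 → Nat.card (normalizer (zpowers x : Set G)) = 253
  inv : ∃ (P : Subgroup G) (z : G), Nat.card P = 7 ∧ orderOf z = 2 ∧ z ∈ centralizer (P : Set G) ∧
    ∀ a ∈ centralizer (P : Set G), IsConj z a → a = z

variable {G : Type u} [Group G] [Finite G] [IsSimpleGroup G]

theorem H23.na (H : H23 G) : ¬ IsMulCommutative G := not_isMulCommutative_of_card H.card (by norm_num)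

theorem H23.elt (H : H23 G) {p : ℕ} (hp : p.Prime) (h : p ∣ 10200960) : ∃ x : G, orderOf x = p := by
  have : Fact p.Prime := ⟨hp⟩
  exact exists_prime_orderOf_dvd_card' (G := G) p (by rw [H.card]; exact h)

theorem H23.c11 (H : H23 G) {x : G} (hx : orderOf x = 11) : Nat.card (centralizer ({x} : Set G)) = 11 := by
  have : Fact (Nat.Prime 11) := ⟨by norm_num⟩
  exact cent_of_N H.na (q := 5) (by norm_num) (by rw [H.card]; norm_num) x hx (H.n11 x hx)

theorem H23.c23 (H : H23 G) {x : G} (hx : orderOf x = 23) : Nat.card (centralizer ({x} : Set G)) = 23 := by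
  have : Fact (Nat.Prime 23) := ⟨by norm_num⟩
  exact cent_of_N H.na (q := 11) (by norm_num) (by rw [H.card]; norm_num) x hx (H.n23 x hx)

theorem H23.qb11 (H : H23 G) {x : G} (hx : orderOf x = 11) : ∃ A m Y a, QB 11 4 x A m Y a := by
  have : Fact (Nat.Prime 11) := ⟨by norm_num⟩
  exact exists_qb (by norm_num) (by norm_num) (by norm_num) (by rw [H.card]; norm_num) x hx (H.c11 hx) (H.n11 x hx)

theorem H23.qb23 (H : H23 G) {x : G} (hx : orderOf x = 23) : ∃ A m Y a, QB 23 10 x A m Y a := by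
  have : Fact (Nat.Prime 23) := ⟨by norm_num⟩
  exact exists_qb (by norm_num) (by norm_num) (by norm_num) (by rw [H.card]; norm_num) x hx (H.c23 hx) (H.n23 x hx)

theorem H23.nr11 (H : H23 G) {x : G} (hx : orderOf x = 11) : ¬ IsConj x x⁻¹ := by
  have : Fact (Nat.Prime 11) := ⟨by norm_num⟩
  exact (QRConj.qr x hx (by norm_num) (by rw [H.n11 x hx]) (H.c11 hx)).2

theorem H23.nr23 (H : H23 G) {x : G} (hx : orderOf x = 23) : ¬ IsConj x x⁻¹ := by
  have : Fact (Nat.Prime 23) := ⟨by norm_num⟩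
  exact (QRConj.qr x hx (by norm_num) (by rw [H.n23 x hx]) (H.c23 hx)).2

theorem H23.lt (H : H23 G) (χ : IrrCharacter G) : deg χ < 3195 := by
  have h1 : deg χ ^ 2 ≤ ∑ χ : IrrCharacter G, deg χ ^ 2 := Finset.single_le_sum (f := fun χ : IrrCharacter G => deg χ ^ 2) (fun _ _ => Nat.zero_le _) (Finset.mem_univ χ)
  rw [sum_deg_sq, H.card] at h1
  by_contra h
  have h2 : 3195 ≤ deg χ := by omega
  have h3 := Nat.pow_le_pow_left h2 2
  omega

theorem H23.memDD (H : H23 G) (χ : IrrCharacter G) : deg χ ∈ DD := by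
  obtain ⟨x, hx⟩ := H.elt (p := 11) (by norm_num) (by norm_num)
  obtain ⟨A, m, Y, a, b⟩ := H.qb11 hx
  obtain ⟨x', hx'⟩ := H.elt (p := 23) (by norm_num) (by norm_num)
  obtain ⟨A', m', Y', a', b'⟩ := H.qb23 hx'
  refine ar_DD _ (List.mem_range.2 (H.lt χ)) (by rw [← H.card]; exact deg_dvd χ) ?_ ?_
  · simp only [List.mem_cons, List.not_mem_nil, or_false]
    rcases QB.ty b χ with h | ⟨s, hs⟩ | ⟨s, hs⟩ | ⟨s, hs⟩ | ⟨s, hs⟩ <;> omega
  · simp only [List.mem_cons, List.not_mem_nil, or_false]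
    rcases QB.ty b' χ with h | ⟨s, hs⟩ | ⟨s, hs⟩ | ⟨s, hs⟩ | ⟨s, hs⟩ <;> omega

/-- values at the involution -/
structure VB (I d : ℕ) (v : ℤ) : Prop where
  om : ((I : ℤ) * v) % d = 0
  m4 : (v - d) % 4 = 0
  lo : -(d : ℤ) < v
  hi : v < d
  nm : (I : ℤ) * v ^ 2 ≤ 10200960
  c7 : ((I : ℤ) * v ^ 2 - d * d) % 7 = 0

theorem VB.ok {I d : ℕ} {v : ℤ} (h : VB I d v) : okB I d v = true := by
  simp only [okB, Bool.and_eq_true, beq_iff_eq, decide_eq_true_eq]
  exact ⟨h.om, h.m4, h.c7, h.lo, h.hi⟩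

theorem VB.rg {I d : ℕ} {v : ℤ} (h : VB I d v) {B : ℕ} (hB : 10200960 < I * (B + 1) ^ 2) : v ∈ RGb B := by
  have h1 := h.nm
  have hB' : (10200960 : ℤ) < I * ((B : ℤ) + 1) ^ 2 := by exact_mod_cast hB
  have hI : (0 : ℤ) ≤ I := by positivity
  have h2 : v ^ 2 < ((B : ℤ) + 1) ^ 2 := by
    by_contra hc
    push Not at hc
    have := mul_le_mul_of_nonneg_left hc hI
    linarith
  have h3 := abs_lt_of_sq_lt_sq h2 (by positivity)
  rw [abs_lt] at h3
  exact mem_RGb (by linarith [h3.1]) (by linarith [h3.2])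

theorem card_index (H : H23 G) {z : G} {I : ℕ} (hI : (centralizer ({z} : Set G)).index = I) :
    Nat.card (centralizer ({z} : Set G)) * I = 10200960 := by
  have h9 := Subgroup.card_mul_index (centralizer ({z} : Set G))
  rwa [hI, H.card] at h9

theorem exists_vb (H : H23 G) {P : Subgroup G} {z : G} (hP : Nat.card P = 7) (hz : orderOf z = 2) (hzC : z ∈ centralizer (P : Set G))
    (hf : ∀ a ∈ centralizer (P : Set G), IsConj z a → a = z) {I : ℕ} (hI : (centralizer ({z} : Set G)).index = I)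
    {χ : IrrCharacter G} (hχ : χ ≠ triv G) : ∃ v : ℤ, (χ : G → ℂ) z = v ∧ VB I (deg χ) v := by
  have hna := H.na
  have f7 : Fact (Nat.Prime 7) := ⟨by norm_num⟩
  have hz2 : z ^ 2 = 1 := by rw [← hz]; exact pow_orderOf_eq_one z
  have hz1 : z ≠ 1 := fun h => by rw [h, orderOf_one] at hz; norm_num at hz
  obtain ⟨v, h1, h2, h3, h4, h5⟩ := val_inv hna χ z hz2
  obtain ⟨h6, h7⟩ := h5 hz1 hχ
  refine ⟨v, h1, ?_, by omega, h6, h7, ?_, ?_⟩
  · have h8 := BlockGA.isIntegral_centralChar χ.2 z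
    have hd : (deg χ : ℂ) ≠ 0 := by exact_mod_cast (deg_pos χ).ne'
    have h9 : centralChar (χ : G → ℂ) z = ((((I : ℤ) * v : ℤ) / (deg χ : ℤ) : ℚ) : ℂ) := by
      rw [centralChar, hI, h1, apply_one]; push_cast; ring
    obtain ⟨k, hk⟩ := CharCentral.exists_int_of_isIntegral_rat h8 _ h9
    rw [h9] at hk
    have h10 : ((I : ℤ) * v : ℤ) = deg χ * k := by
      have : (((I : ℤ) * v : ℤ) : ℂ) = ((deg χ * k : ℤ) : ℂ) := by
        push_cast; push_cast at hk; rw [← hk]; field_simp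
      exact_mod_cast this
    rw [h10]; exact Int.mul_emod_right _ _
  · have h8 := norm_list (L := [χ]) (List.nodup_singleton _) (g := z) (f := fun _ => v)
      (fun ψ hψ => by rw [List.mem_singleton.1 hψ]; exact h1)
    simp only [List.map_cons, List.map_nil, List.sum_cons, List.sum_nil, add_zero] at h8
    have h9 := card_index H hI
    have h10 : (Nat.card (centralizer ({z} : Set G)) : ℤ) * I = 10200960 := by exact_mod_cast h9
    have h11 : (0 : ℤ) ≤ I := by positivity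
    calc (I : ℤ) * v ^ 2 ≤ I * Nat.card (centralizer ({z} : Set G)) := mul_le_mul_of_nonneg_left h8 h11
      _ = 10200960 := by rw [mul_comm, h10]
  · have := congrS (p := 7) hP χ hzC hz2 hf h1
    rw [hI] at this
    exact Int.emod_eq_zero_of_dvd this

section

variable {x z : G} {A : Fin 4 → IrrCharacter G} {m : Fin 4 → ℤ} {Y : IrrCharacter G} {a : ℤ}

theorem mem_XT (H : H23 G) (b : QB 11 4 x A m Y a) (i : Fin 4) : (m i, deg (A i)) ∈ XT := by
  have h1 := H.memDD (A i)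
  have h2 : deg (A i) ≠ 1 := fun h => b.At i (eq_triv_of_deg_one H.na h)
  obtain ⟨s, -, hs⟩ := b.degA i
  have h4 := ar_XT _ h1 h2
  rcases b.m_pm i with h | h <;> rw [h] at hs ⊢
  · exact h4.1 (by omega)
  · exact h4.2.1 (by omega)

theorem mem_YT (H : H23 G) (b : QB 11 4 x A m Y a) : (a, deg Y) ∈ YT := by
  have h1 := H.memDD Y
  have h2 : deg Y ≠ 1 := fun h => b.Yt (eq_triv_of_deg_one H.na h)
  obtain ⟨s, -, hs⟩ := b.degY
  have h4 := ar_XT _ h1 h2
  rcases b.a_pm with h | h <;> rw [h] at hs ⊢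
  · exact h4.2.2.2 (by omega)
  · exact h4.2.2.1 (by omega)

theorem mem_PL (H : H23 G) (hx : orderOf x = 11) (b : QB 11 4 x A m Y a) :
    ((m 0, deg (A 0)), (m 1, deg (A 1)), (m 2, deg (A 2)), (m 3, deg (A 3)), (a, deg Y)) ∈ PL := by
  have h1 := b.rel1 hx (by norm_num)
  have h2 := QB.sq b
  rw [H.card] at h2
  rw [Fin.sum_univ_four] at h1 h2
  exact ar_PL _ (mem_XT H b 0) _ (mem_XT H b 1) (b.mono (by decide : (0 : Fin 4) ≤ 1)) _ (mem_XT H b 2) (b.mono (by decide : (1 : Fin 4) ≤ 2)) _ (mem_XT H b 3)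
    (b.mono (by decide : (2 : Fin 4) ≤ 3)) _ (mem_YT H b) h1 h2

theorem wv_eq (H : H23 G) (hx : orderOf x = 11) (hz : orderOf z = 2) (b : QB 11 4 x A m Y a) {v : Fin 4 → ℤ} {w : ℤ}
    (hv : ∀ i, (A i : G → ℂ) z = v i) (hw : (Y : G → ℂ) z = w) :
    wv ((m 0, deg (A 0)), (m 1, deg (A 1)), (m 2, deg (A 2)), (m 3, deg (A 3)), (a, deg Y)) (v 0) (v 1) (v 2) (v 3) = w := by
  obtain ⟨n1, n2⟩ := QBlk.not_isConj_of_order hx (g := z) (by rw [hz]; norm_num)
  have h2 := b.rel z n1 n2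
  simp only [hv, hw, Fin.sum_univ_four] at h2
  have h3 : 1 + (m 0 * v 0 + m 1 * v 1 + m 2 * v 2 + m 3 * v 3) + a * w = 0 := by exact_mod_cast h2
  have ha2 : a * a = 1 := by rcases b.a_pm with h | h <;> rw [h] <;> norm_num
  simp only [wv]
  linear_combination -a * h3 + w * ha2

theorem fin4_of (H : H23 G) (hx : orderOf x = 11) (hz : orderOf z = 2) (b : QB 11 4 x A m Y a) {I : ℕ}
    (hI : (centralizer ({z} : Set G)).index = I) {v : Fin 4 → ℤ} {w : ℤ} (hv : ∀ i, (A i : G → ℂ) z = v i) (hw : (Y : G → ℂ) z = w) :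
    fin4 I ((m 0, deg (A 0)), (m 1, deg (A 1)), (m 2, deg (A 2)), (m 3, deg (A 3)), (a, deg Y)) (v 0) (v 1) (v 2) (v 3) = true := by
  classical
  have hz2 : z ^ 2 = 1 := by rw [← hz]; exact pow_orderOf_eq_one z
  have hwv := wv_eq H hx hz b hv hw
  have h3 := b.E_inv (N := 927360) (by norm_num) (by rw [H.card]) hx (H.nr11 hx) hz2 hv hw
  rw [Fin.sum_univ_four] at h3
  choose f hf _ using fun χ : IrrCharacter G => val_inv H.na χ z hz2
  have h4 := norm_list (qb_nodup b) (g := z) (f := f) (fun χ _ => hf χ)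
  have g0 : f (triv G) = 1 := by
    have := hf (triv G)
    rw [triv_apply] at this
    exact_mod_cast this.symm
  have gA : ∀ i, f (A i) = v i := by
    intro i
    have := hf (A i)
    rw [hv] at this
    exact_mod_cast this.symm
  have gY : f Y = w := by
    have := hf Y
    rw [hw] at this
    exact_mod_cast this.symm
  have gcY : f (cc Y) = w := by
    have := hf (cc Y)
    rw [cc_apply, hw, map_intCast] at this
    exact_mod_cast this.symm
  simp only [List.map_cons, List.map_nil, List.sum_cons, List.sum_nil, add_zero] at h4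
  rw [g0, gA 0, gA 1, gA 2, gA 3, gY, gcY] at h4
  have h5 : (Nat.card (centralizer ({z} : Set G)) : ℤ) * I = 10200960 := by exact_mod_cast card_index H hI
  have h6 : (0 : ℤ) ≤ I := by positivity
  simp only [fin4, hwv, Bool.and_eq_true, beq_iff_eq, decide_eq_true_eq]
  refine ⟨h3, ?_⟩
  calc (I : ℤ) * (1 + (v 0 ^ 2 + v 1 ^ 2 + v 2 ^ 2 + v 3 ^ 2) + 2 * w ^ 2) ≤ I * Nat.card (centralizer ({z} : Set G)) := by
        apply mul_le_mul_of_nonneg_left _ h6
        linarith only [h4]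
    _ = 10200960 := by rw [mul_comm, h5]

/-- centralizers of involutions contain no elements of order 11 or 23 -/
theorem not_dvd_cent {q : ℕ} (hq : q.Prime) (hq2 : q ≠ 2) (hc : ∀ x : G, orderOf x = q → Nat.card (centralizer ({x} : Set G)) = q) (hz : orderOf z = 2) :
    ¬ q ∣ Nat.card (centralizer ({z} : Set G)) := by
  intro h
  have : Fact q.Prime := ⟨hq⟩
  obtain ⟨y, hy⟩ := exists_prime_orderOf_dvd_card' (G := centralizer ({z} : Set G)) q h
  have hy' : orderOf (y : G) = q := by rw [Subgroup.orderOf_coe, hy]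
  have h1 := hc y hy'
  have h2 : z ∈ centralizer ({(y : G)} : Set G) := by
    rw [mem_centralizer_singleton_iff]
    exact (mem_centralizer_singleton_iff.1 y.2).symm
  have h3 := orderOf_dvd_natCard (⟨z, h2⟩ : centralizer ({(y : G)} : Set G))
  rw [Subgroup.orderOf_mk, hz, h1] at h3
  exact hq2 ((Nat.prime_dvd_prime_iff_eq Nat.prime_two hq).1 h3).symm

theorem ar_I0 : ∀ k ∈ Nat.divisors 2880, (253 * k) % 7 = 1 → 253 * k ∈ [253, 2024, 3795, 9108, 16192, 30360, 72864, 242880] := by decide +kernel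

theorem ar_I (I : ℕ) (h1 : I ∣ 728640) (h2 : 253 ∣ I) (h3 : I % 7 = 1) : I ∈ [253, 2024, 3795, 9108, 16192, 30360, 72864, 242880] := by
  obtain ⟨k, rfl⟩ := h2
  refine ar_I0 k (Nat.mem_divisors.2 ⟨?_, by norm_num⟩) h3
  rw [show 728640 = 253 * 2880 by norm_num] at h1
  exact Nat.dvd_of_mul_dvd_mul_left (by norm_num) h1

/-- the principal 11-block -/
structure B11 (x z : G) (A : Fin 4 → IrrCharacter G) (m : Fin 4 → ℤ) (Y : IrrCharacter G) (a : ℤ) : Prop where
  b : QB 11 4 x A m Y a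
  idx : (centralizer ({z} : Set G)).index = 3795
  m0 : m 0 = 1
  d0 : deg (A 0) = 45
  z0 : (A 0 : G → ℂ) z = -3
  m1 : m 1 = 1
  d1 : deg (A 1) = 45
  z1 : (A 1 : G → ℂ) z = -3
  m2 : m 2 = -1
  d2 : deg (A 2) = 230
  z2 : (A 2 : G → ℂ) z = 22
  m3 : m 3 = 1
  d3 : deg (A 3) = 1035
  z3 : (A 3 : G → ℂ) z = 27
  aY : a = -1
  dY : deg Y = 896
  zY : (Y : G → ℂ) z = 0

theorem exists_b11 (H : H23 G) {P : Subgroup G} {z : G} (hP : Nat.card P = 7) (hz : orderOf z = 2) (hzC : z ∈ centralizer (P : Set G))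
    (hf : ∀ a ∈ centralizer (P : Set G), IsConj z a → a = z) (hx : orderOf x = 11) (b : QB 11 4 x A m Y a) : B11 x z A m Y a := by
  have f7 : Fact (Nat.Prime 7) := ⟨by norm_num⟩
  obtain ⟨I, hI⟩ : ∃ I, (centralizer ({z} : Set G)).index = I := ⟨_, rfl⟩
  have hz2 : z ^ 2 = 1 := by rw [← hz]; exact pow_orderOf_eq_one z
  have hci := card_index H hI
  choose v hv1 hv2 using fun i => exists_vb H hP hz hzC hf hI (b.At i)
  obtain ⟨w, hw1, hw2⟩ := exists_vb H hP hz hzC hf hI b.Yt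
  -- the index
  have n11 := not_dvd_cent (q := 11) (by norm_num) (by norm_num) (fun x hx => H.c11 hx) hz
  have n23 := not_dvd_cent (q := 23) (by norm_num) (by norm_num) (fun x hx => H.c23 hx) hz
  have i11 : 11 ∣ I := by
    have h2 : 11 ∣ Nat.card (centralizer ({z} : Set G)) * I := by rw [hci]; norm_num
    exact ((Nat.Prime.dvd_mul (by norm_num)).1 h2).resolve_left n11
  have i23 : 23 ∣ I := by
    have h2 : 23 ∣ Nat.card (centralizer ({z} : Set G)) * I := by rw [hci]; norm_num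
    exact ((Nat.Prime.dvd_mul (by norm_num)).1 h2).resolve_left n23
  have i253 : 253 ∣ I := by
    have := Nat.Coprime.mul_dvd_of_dvd_of_dvd (by norm_num : Nat.Coprime 11 23) i11 i23
    exact this
  have d7 : 7 ∣ Nat.card (centralizer ({z} : Set G)) := by
    have hle : P ≤ centralizer ({z} : Set G) := by
      intro g hg
      rw [mem_centralizer_singleton_iff]
      exact mem_centralizer_iff.1 hzC g hg
    have := card_dvd_of_le hle
    rwa [hP] at this
  have d2 : 2 ∣ Nat.card (centralizer ({z} : Set G)) := by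
    have h := orderOf_dvd_natCard (⟨z, mem_centralizer_singleton_iff.2 rfl⟩ : centralizer ({z} : Set G))
    rwa [Subgroup.orderOf_mk, hz] at h
  have d14 : 14 ∣ Nat.card (centralizer ({z} : Set G)) := by
    have := Nat.Coprime.mul_dvd_of_dvd_of_dvd (by norm_num : Nat.Coprime 7 2) d7 d2
    exact this
  have hId : I ∣ 728640 := by
    obtain ⟨t, ht⟩ := d14
    rw [ht, mul_assoc] at hci
    have : t * I = 728640 := Nat.eq_of_mul_eq_mul_left (by norm_num : 0 < 14) (by rw [hci])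
    exact ⟨t, by rw [mul_comm, this]⟩
  have c0 := congrS (p := 7) hP (triv G) hzC hz2 hf (v := 1) (by rw [triv_apply]; norm_num)
  rw [hI, deg_triv] at c0
  have hIm := ar_I I hId i253 (by push_cast at c0; omega)
  have hXT := fun i => mem_XT H b i
  have hPL := mem_PL H hx b
  have hF := fin4_of H hx hz b hI hv1 hw1
  have hwv := wv_eq H hx hz b hv1 hw1
  have hok := fun i => (hv2 i).ok
  simp only [List.mem_cons, List.not_mem_nil, or_false] at hIm
  have fin : good4 I ((m 0, deg (A 0)), (m 1, deg (A 1)), (m 2, deg (A 2)), (m 3, deg (A 3)), (a, deg Y)) (v 0) (v 1) (v 2) (v 3) = true := by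
    rcases hIm with rfl | rfl | rfl | rfl | rfl | rfl | rfl | rfl
    · have hr := fun i => mVL253 _ (hXT i) _ ((hv2 i).rg (B := 200) (by norm_num)) (hok i)
      exact (of_chk4 rVL253 hPL (hr 0) (hr 1) (hr 2) (hr 3) hF).2
    · have hr := fun i => mVL2024 _ (hXT i) _ ((hv2 i).rg (B := 70) (by norm_num)) (hok i)
      exact (of_chk4 rVL2024 hPL (hr 0) (hr 1) (hr 2) (hr 3) hF).2
    · have hr := fun i => mVL3795 _ (hXT i) _ ((hv2 i).rg (B := 51) (by norm_num)) (hok i)
      exact (of_chk4 rVL3795 hPL (hr 0) (hr 1) (hr 2) (hr 3) hF).2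
    · have hr := fun i => mVL9108 _ (hXT i) _ ((hv2 i).rg (B := 33) (by norm_num)) (hok i)
      exact (of_chk4 rVL9108 hPL (hr 0) (hr 1) (hr 2) (hr 3) hF).2
    · have hr := fun i => mVL16192 _ (hXT i) _ ((hv2 i).rg (B := 25) (by norm_num)) (hok i)
      exact (of_chk4 rVL16192 hPL (hr 0) (hr 1) (hr 2) (hr 3) hF).2
    · have hr := fun i => mVL30360 _ (hXT i) _ ((hv2 i).rg (B := 18) (by norm_num)) (hok i)
      exact (of_chk4 rVL30360 hPL (hr 0) (hr 1) (hr 2) (hr 3) hF).2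
    · have hr := fun i => mVL72864 _ (hXT i) _ ((hv2 i).rg (B := 11) (by norm_num)) (hok i)
      exact (of_chk4 rVL72864 hPL (hr 0) (hr 1) (hr 2) (hr 3) hF).2
    · have hr := fun i => mVL242880 _ (hXT i) _ ((hv2 i).rg (B := 6) (by norm_num)) (hok i)
      exact (of_chk4 rVL242880 hPL (hr 0) (hr 1) (hr 2) (hr 3) hF).2
  simp only [good4, Bool.and_eq_true, beq_iff_eq, Prod.mk.injEq] at fin
  obtain ⟨e1, ⟨⟨a1, a2⟩, ⟨b1, b2⟩, ⟨c1, c2⟩, ⟨e2, e3⟩, f1, f2⟩, g1, g2, g3, g4⟩ := fin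
  have hw0 : w = 0 := by
    rw [← hwv]
    simp only [wv, a1, b1, c1, e2, f1, g1, g2, g3, g4]
    norm_num
  exact ⟨b, by rw [hI, e1], a1, a2, by rw [hv1, g1]; norm_num, b1, b2, by rw [hv1, g2]; norm_num, c1, c2, by rw [hv1, g3]; norm_num,
    e2, e3, by rw [hv1, g4]; norm_num, f1, f2, by rw [hw1, hw0]; norm_num⟩

end

end Cfsg.Agent.Lib.M23N
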