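import Mathlib
import Cfsg.Agent.Lib.M22ZC

/-!
# Simple groups of order 10200960, part C: enumeration for the principal 23-block (helper7)
-/

set_option autoImplicit false
set_option linter.all false

namespace Cfsg.Agent.Lib.M23N

abbrev E3 := ℤ × ℕ × ℤ

def O13 : List E3 := [(-1, 22, -6), (-1, 22, 6), (1, 231, -49), (1, 231, -21), (1, 231, 7), (1, 231, 35), (-1, 528, -32), (-1, 528, 32),
  (1, 990, -18), (1, 990, 18), (-1, 1540, -28), (-1, 1540, 0), (-1, 1540, 28)]
def O15 : List E3 := (-1, 45, -3) :: (-1, 896, 0) :: O13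
def OY : List E3 := [(-1, 11, 3), (-1, 264, -40), (-1, 264, -16), (-1, 264, 16), (-1, 264, 40), (1, 495, -33), (1, 495, -9), (1, 495, 51),
  (-1, 770, -42), (-1, 770, -14), (-1, 770, 14), (-1, 770, 42), (1, 1760, -32), (1, 1760, 32), (1, 2772, 0)]

/-- degree, value and structure constant contributions -/
def gd (o : E3) : ℤ := o.1 * o.2.1
def gv (o : E3) : ℤ := o.1 * o.2.2
def gE (o : E3) : ℤ := o.1 * o.2.2 * o.2.2 * ((443520 / o.2.1 : ℕ) : ℤ)
def gq (o : E3) : ℤ := o.2.2 ^ 2

def tgt : List ℕ := [0, 0, 0, 0, 2, 0, 0, 0, 3, 0, 0, 1, 0]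

def leaf (sd sv sE q : ℤ) (cs : List ℕ) (y : E3) : Bool :=
  !((sd + gd y == 0) && ((sv + gv y == 0) && ((sE + gE y == 0) && decide (q + 2 * gq y ≤ 2688)))) || (cs == tgt && y == (-1, 770, -14))

def srch : List E3 → ℕ → ℤ → ℤ → ℤ → ℤ → List ℕ → Bool
  | [], n, sd, sv, sE, q, cs => !(Nat.beq n 0) || OY.all fun y => leaf sd sv sE q cs y
  | o :: O, n, sd, sv, sE, q, cs => decide (2688 < q) || (List.range (n + 1)).all fun c =>
      srch O (n - c) (sd + c * gd o) (sv + c * gv o) (sE + c * gE o) (q + c * gq o) (c :: cs)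

theorem gq_nonneg (o : E3) : 0 ≤ gq o := sq_nonneg _

theorem sum_nonneg' (O : List E3) (c : E3 → ℕ) : 0 ≤ (O.map (fun o => (c o : ℤ) * gq o)).sum := by
  apply List.sum_nonneg
  intro x hx
  obtain ⟨o, -, rfl⟩ := List.mem_map.1 hx
  exact mul_nonneg (by positivity) (gq_nonneg o)

theorem srch_sound : ∀ (O : List E3) (n : ℕ) (sd sv sE q : ℤ) (cs : List ℕ), srch O n sd sv sE q cs = true → ∀ c : E3 → ℕ, (O.map c).sum = n →
    ∀ y ∈ OY, sd + (O.map (fun o => (c o : ℤ) * gd o)).sum + gd y = 0 → sv + (O.map (fun o => (c o : ℤ) * gv o)).sum + gv y = 0 →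
    sE + (O.map (fun o => (c o : ℤ) * gE o)).sum + gE y = 0 → q + (O.map (fun o => (c o : ℤ) * gq o)).sum + 2 * gq y ≤ 2688 →
    (O.map c).reverse ++ cs = tgt ∧ y = (-1, 770, -14) := by
  intro O
  induction O with
  | nil =>
    intro n sd sv sE q cs h c hn y hy h1 h2 h3 h4
    simp only [List.map_nil, List.sum_nil, add_zero] at hn h1 h2 h3 h4
    subst hn
    simp only [srch] at h
    have h5 : (!(Nat.beq 0 0)) = false := rfl
    rw [h5, Bool.false_or, List.all_eq_true] at h
    have h6 := h y hy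
    simp only [leaf, h1, h2, h3, h4, beq_self_eq_true, decide_true, Bool.and_self, Bool.not_true, Bool.false_or, Bool.and_eq_true, beq_iff_eq] at h6
    simpa using h6
  | cons o O ih =>
    intro n sd sv sE q cs h c hn y hy h1 h2 h3 h4
    simp only [srch, Bool.or_eq_true, decide_eq_true_eq] at h
    simp only [List.map_cons, List.sum_cons] at hn h1 h2 h3 h4
    have hq := sum_nonneg' O c
    have hq2 := gq_nonneg y
    have hq3 : 0 ≤ (c o : ℤ) * gq o := mul_nonneg (by positivity) (gq_nonneg o)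
    rcases h with h | h
    · exfalso; linarith
    · rw [List.all_eq_true] at h
      have h5 := h (c o) (List.mem_range.2 (by omega))
      have h6 := ih _ _ _ _ _ _ h5 c (by omega) y hy (by rw [← h1]; ring) (by rw [← h2]; ring) (by rw [← h3]; ring) (by linarith)
      simp only [List.map_cons, List.reverse_cons, List.append_assoc, List.singleton_append]
      exact h6

theorem srch_run : srch O13 6 (-1881) 7 266112 1232 [] = true := by decide +kernel

theorem sum_types {ι : Type*} [Fintype ι] (g : ι → E3) (O : List E3) (hO : O.Nodup) (hg : ∀ i, g i ∈ O) (F : E3 → ℤ) :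
    ∑ i, F (g i) = (O.map (fun o => ((Finset.univ.filter (fun i => g i = o)).card : ℤ) * F o)).sum := by
  classical
  rw [← List.sum_toFinset _ hO]
  rw [← Finset.sum_fiberwise_of_maps_to (t := O.toFinset) (g := g) (fun i _ => List.mem_toFinset.2 (hg i))]
  refine Finset.sum_congr rfl fun o _ => ?_
  rw [Finset.sum_congr rfl (g := fun _ => F o) (fun i hi => by rw [(Finset.mem_filter.1 hi).2]), Finset.sum_const, nsmul_eq_mul]

/-- the solution of the block equations -/
theorem solve {g : Fin 10 → E3} (hg : ∀ i, g i ∈ O15) {y : E3} (hy : y ∈ OY) (h45 : (Finset.univ.filter (fun i => g i = (-1, 45, -3))).card = 2)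
    (h896 : (Finset.univ.filter (fun i => g i = (-1, 896, 0))).card = 2) (h1 : 1 + ∑ i, gd (g i) + gd y = 0) (h2 : 1 + ∑ i, gv (g i) + gv y = 0)
    (h3 : 443520 + ∑ i, gE (g i) + gE y = 0) (h4 : 1 + ∑ i, gq (g i) + 484 + 729 + 2 * gq y ≤ 2688) :
    (O13.map (fun o => (Finset.univ.filter (fun i => g i = o)).card)).reverse = tgt ∧ y = (-1, 770, -14) := by
  have hO : O15.Nodup := by decide
  have s0 := sum_types g O15 hO hg (fun _ => 1)
  rw [sum_types g O15 hO hg] at h1 h2 h3 h4
  obtain ⟨c, hc⟩ : ∃ c : E3 → ℕ, ∀ o, (Finset.univ.filter (fun i => g i = o)).card = c o := ⟨_, fun _ => rfl⟩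
  simp only [hc] at s0 h1 h2 h3 h4 h45 h896 ⊢
  rw [O15, List.map_cons, List.map_cons, List.sum_cons, List.sum_cons, h45, h896] at s0 h1 h2 h3 h4
  have e1 : gd (-1, 45, -3) = -45 := by decide
  have e2 : gd (-1, 896, 0) = -896 := by decide
  have e3 : gv (-1, 45, -3) = 3 := by decide
  have e4 : gv (-1, 896, 0) = 0 := by decide
  have e5 : gE (-1, 45, -3) = -88704 := by decide +kernel
  have e6 : gE (-1, 896, 0) = 0 := by decide +kernel
  have e7 : gq (-1, 45, -3) = 9 := by decide
  have e8 : gq (-1, 896, 0) = 0 := by decide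
  rw [e1, e2] at h1
  rw [e3, e4] at h2
  rw [e5, e6] at h3
  rw [e7, e8] at h4
  have s1 : ((O13.map c).sum : ℤ) = 6 := by
    have e9 : (O13.map (fun o => (c o : ℤ) * 1)).sum = ((O13.map c).sum : ℤ) := by
      rw [Nat.cast_list_sum, List.map_map]
      congr 1
      apply List.map_congr_left
      intro o _
      simp
    rw [e9] at s0
    simp only [Finset.sum_const, Finset.card_univ, Fintype.card_fin, nsmul_eq_mul] at s0
    push_cast at s0 ⊢
    linarith
  have s2 : (O13.map c).sum = 6 := by exact_mod_cast s1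
  have := srch_sound O13 6 (-1881) 7 266112 1232 [] srch_run c s2 y hy (by push_cast at h1; linarith) (by push_cast at h2; linarith)
    (by push_cast at h3; linarith) (by push_cast at h4; linarith)
  rwa [List.append_nil] at this

end Cfsg.Agent.Lib.M23N
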