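import Mathlib
import Cfsg.Agent.Lib.M23B
import Cfsg.Agent.Lib.M23C

/-!
# Simple groups of order 10200960, part D: the principal 23-block (helper7)
-/

set_option autoImplicit false
set_option linter.all false

namespace Cfsg.Agent.Lib.M23N

open Subgroup Cfsg Cfsg.Agent.Lib.CharBasic Cfsg.Agent.Lib.ColTools Cfsg.Agent.Lib.SmallSimple
  Cfsg.Agent.Lib.PBlock Cfsg.Agent.Lib.QBlk
open Cfsg.Agent.Lib.M12ByOrder (norm_list)
open scoped ComplexConjugate

universe u

def T13 : List (ℤ × ℕ) := [(-1, 22), (1, 231), (-1, 528), (1, 990), (-1, 1540)]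
def TY : List (ℤ × ℕ) := [(-1, 11), (-1, 264), (1, 495), (-1, 770), (1, 1760), (1, 2772)]

theorem ar_T13 : ∀ d ∈ DD, d ≠ 1 → 11 ∣ d → (d % 23 = 1 → ((1 : ℤ), d) ∈ T13) ∧ (d % 23 = 22 → ((-1 : ℤ), d) ∈ T13) ∧
    (d % 23 = 12 → ((1 : ℤ), d) ∈ TY) ∧ (d % 23 = 11 → ((-1 : ℤ), d) ∈ TY) := by decide +kernel

theorem mO13 : ∀ p ∈ T13, ∀ v ∈ RGb 51, okB 3795 p.2 v = true → (p.1, p.2, v) ∈ O13 := by decide +kernel
theorem mOY : ∀ p ∈ TY, ∀ v ∈ RGb 51, okB 3795 p.2 v = true → (p.1, p.2, v) ∈ OY := by decide +kernel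

theorem ar_OY : ∀ y ∈ OY, y.2.1 ≠ 45 ∧ y.2.1 ≠ 896 ∧ y.2.1 ≠ 22 := by decide +kernel
theorem ar_O15 : ∀ y ∈ O15, (y.2.1 = 45 → y = (-1, 45, -3)) ∧ (y.2.1 = 896 → y = (-1, 896, 0)) := by decide +kernel

variable {G : Type u} [Group G] [Finite G] [IsSimpleGroup G]
variable {x z x' : G} {A : Fin 4 → IrrCharacter G} {m : Fin 4 → ℤ} {Y : IrrCharacter G} {a : ℤ}
  {A' : Fin 10 → IrrCharacter G} {m' : Fin 10 → ℤ} {Y' : IrrCharacter G} {a' : ℤ}

/-- the characters of degree prime to 11 and 23 -/
theorem B11.cases (B : B11 x z A m Y a) {χ : IrrCharacter G} (h1 : χ ≠ triv G) (h11 : ¬ 11 ∣ deg χ) (h23 : ¬ 23 ∣ deg χ) :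
    (deg χ = 45 ∧ (χ : G → ℂ) z = -3) ∨ (deg χ = 896 ∧ (χ : G → ℂ) z = 0) := by
  by_contra hc
  apply h11
  refine (B.b.out χ h1 (fun i => ?_) ?_ ?_).2.2
  · fin_cases i
    · intro h; apply hc; left; rw [h]; exact ⟨B.d0, B.z0⟩
    · intro h; apply hc; left; rw [h]; exact ⟨B.d1, B.z1⟩
    · intro h; apply h23; rw [h]; show 23 ∣ deg (A 2); rw [B.d2]; norm_num
    · intro h; apply h23; rw [h]; show 23 ∣ deg (A 3); rw [B.d3]; norm_num
  · intro h; apply hc; right; rw [h]; exact ⟨B.dY, B.zY⟩
  · intro h; apply hc; right; rw [h, deg_cc, cc_apply, B.zY, map_zero]; exact ⟨B.dY, rfl⟩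

structure B23 (x' z : G) (A' : Fin 10 → IrrCharacter G) (m' : Fin 10 → ℤ) (Y' : IrrCharacter G) (a' : ℤ) : Prop where
  b : QB 23 10 x' A' m' Y' a'
  cnt : (Finset.univ.filter (fun i => deg (A' i) = 22)).card = 1
  cases : ∀ i, (deg (A' i) = 22 ∧ m' i = -1 ∧ (A' i : G → ℂ) z = 6) ∨ (deg (A' i) = 231 ∧ m' i = 1) ∨ (deg (A' i) = 990 ∧ m' i = 1) ∨
    (deg (A' i) = 45 ∧ m' i = -1) ∨ (deg (A' i) = 896 ∧ m' i = -1)
  dY : deg Y' = 770

theorem exists_b23 (H : H23 G) {P : Subgroup G} (hP : Nat.card P = 7) (hz : orderOf z = 2) (hzC : z ∈ centralizer (P : Set G))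
    (hf : ∀ a ∈ centralizer (P : Set G), IsConj z a → a = z) (B : B11 x z A m Y a) (hx' : orderOf x' = 23) (b' : QB 23 10 x' A' m' Y' a') :
    B23 x' z A' m' Y' a' := by
  classical
  have hna := H.na
  have hz2 : z ^ 2 = 1 := by rw [← hz]; exact pow_orderOf_eq_one z
  choose v hv1 hv2 using fun i => exists_vb H hP hz hzC hf B.idx (b'.At i)
  obtain ⟨w, hw1, hw2⟩ := exists_vb H hP hz hzC hf B.idx b'.Yt
  have hCz : Nat.card (centralizer ({z} : Set G)) = 2688 := by
    have := card_index H B.idx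
    omega
  obtain ⟨g, hg⟩ : ∃ g : Fin 10 → E3, ∀ i, g i = (m' i, deg (A' i), v i) := ⟨_, fun _ => rfl⟩
  obtain ⟨y, hy⟩ : ∃ y : E3, y = (a', deg Y', w) := ⟨_, rfl⟩
  have hgO : ∀ i, g i ∈ O15 := by
    intro i
    have h1 := H.memDD (A' i)
    have h2 : deg (A' i) ≠ 1 := fun h => b'.At i (eq_triv_of_deg_one hna h)
    obtain ⟨s, -, hs⟩ := b'.degA i
    have h23 := b'.not_dvd (by norm_num) i
    rw [hg]
    by_cases h11 : 11 ∣ deg (A' i)
    · have h4 := ar_T13 _ h1 h2 h11
      have h5 : (m' i, deg (A' i)) ∈ T13 := by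
        rcases b'.m_pm i with h | h <;> rw [h] at hs ⊢
        · exact h4.1 (by omega)
        · exact h4.2.1 (by omega)
      have h6 := mO13 _ h5 _ ((hv2 i).rg (B := 51) (by norm_num)) (hv2 i).ok
      exact List.mem_cons_of_mem _ (List.mem_cons_of_mem _ h6)
    · rcases B.cases (b'.At i) h11 h23 with ⟨h5, h6⟩ | ⟨h5, h6⟩
      · rw [hv1] at h6
        have h7 : v i = -3 := by exact_mod_cast h6
        have h8 : m' i = -1 := by
          rw [h5] at hs
          rcases b'.m_pm i with h | h
          · rw [h] at hs; omega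
          · exact h
        rw [h5, h7, h8]
        exact List.mem_cons_self
      · rw [hv1] at h6
        have h7 : v i = 0 := by exact_mod_cast h6
        have h8 : m' i = -1 := by
          rw [h5] at hs
          rcases b'.m_pm i with h | h
          · rw [h] at hs; omega
          · exact h
        rw [h5, h7, h8]
        exact List.mem_cons_of_mem _ List.mem_cons_self
  have hyO : y ∈ OY := by
    have h1 := H.memDD Y'
    have h2 : deg Y' ≠ 1 := fun h => b'.Yt (eq_triv_of_deg_one hna h)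
    obtain ⟨s, -, hs⟩ := b'.degY
    have h23 := b'.not_dvdY (by norm_num)
    rw [hy]
    by_cases h11 : 11 ∣ deg Y'
    · have h4 := ar_T13 _ h1 h2 h11
      have h5 : (a', deg Y') ∈ TY := by
        rcases b'.a_pm with h | h <;> rw [h] at hs ⊢
        · exact h4.2.2.1 (by omega)
        · exact h4.2.2.2 (by omega)
      exact mOY _ h5 _ (hw2.rg (B := 51) (by norm_num)) hw2.ok
    · exfalso
      rcases B.cases b'.Yt h11 h23 with ⟨h5, -⟩ | ⟨h5, -⟩ <;> rw [h5] at hs <;> rcases b'.a_pm with h | h <;> rw [h] at hs <;> omega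
  have hyd : deg Y' ≠ 45 ∧ deg Y' ≠ 896 ∧ deg Y' ≠ 22 := by
    have := ar_OY y hyO
    rwa [hy] at this
  have h45 : (Finset.univ.filter (fun i => g i = (-1, 45, -3))).card = 2 := by
    have e1 : (Finset.univ.filter (fun i => g i = (-1, 45, -3))) = (Finset.univ.filter (fun i => deg (A' i) = 45)) := by
      ext i
      simp only [Finset.mem_filter, Finset.mem_univ, true_and]
      constructor
      · intro h; rw [hg] at h; simp only [Prod.mk.injEq] at h; exact h.2.1
      · intro h
        exact (ar_O15 _ (hgO i)).1 (by rw [hg]; exact h)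
    have e2 := B.b.count (d := 45) (by norm_num)
    have e3 := b'.count (d := 45) (by norm_num)
    rw [e2, Fin.sum_univ_four, B.d0, B.d1, B.d2, B.d3, B.dY, if_neg hyd.1] at e3
    rw [e1]
    norm_num at e3
    omega
  have h896 : (Finset.univ.filter (fun i => g i = (-1, 896, 0))).card = 2 := by
    have e1 : (Finset.univ.filter (fun i => g i = (-1, 896, 0))) = (Finset.univ.filter (fun i => deg (A' i) = 896)) := by
      ext i
      simp only [Finset.mem_filter, Finset.mem_univ, true_and]
      constructor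
      · intro h; rw [hg] at h; simp only [Prod.mk.injEq] at h; exact h.2.1
      · intro h
        exact (ar_O15 _ (hgO i)).2 (by rw [hg]; exact h)
    have e2 := B.b.count (d := 896) (by norm_num)
    have e3 := b'.count (d := 896) (by norm_num)
    rw [e2, Fin.sum_univ_four, B.d0, B.d1, B.d2, B.d3, B.dY, if_neg hyd.2.1] at e3
    rw [e1]
    norm_num at e3
    omega
  have q1 : 1 + ∑ i, gd (g i) + gd y = 0 := by
    have := b'.rel1 hx' (by norm_num)
    simp only [hg, hy, gd]
    exact this
  have q2 : 1 + ∑ i, gv (g i) + gv y = 0 := by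
    obtain ⟨n1, n2⟩ := QBlk.not_isConj_of_order hx' (g := z) (by rw [hz]; norm_num)
    have := b'.rel z n1 n2
    simp only [hg, hy, gv]
    simp only [hv1, hw1] at this
    exact_mod_cast this
  have q3 : 443520 + ∑ i, gE (g i) + gE y = 0 := by
    have := b'.E_inv (N := 443520) (by norm_num) (by rw [H.card]) hx' (H.nr23 hx') hz2 hv1 hw1
    simp only [hg, hy, gE]
    exact this
  have q4 : 1 + ∑ i, gq (g i) + 484 + 729 + 2 * gq y ≤ 2688 := by
    choose f hf' _ using fun χ : IrrCharacter G => val_inv hna χ z hz2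
    have hnd : (triv G :: A 2 :: A 3 :: Y' :: cc Y' :: List.ofFn A').Nodup := by
      have d2 : ∀ i, A 2 ≠ A' i := by
        intro i h
        apply b'.not_dvd (by norm_num) i
        rw [← h, B.d2]; norm_num
      have d3 : ∀ i, A 3 ≠ A' i := by
        intro i h
        apply b'.not_dvd (by norm_num) i
        rw [← h, B.d3]; norm_num
      have d4 : A 2 ≠ Y' := by
        intro h
        apply b'.not_dvdY (by norm_num)
        rw [← h, B.d2]; norm_num
      have d5 : A 2 ≠ cc Y' := by
        intro h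
        apply b'.not_dvdY (by norm_num)
        rw [← deg_cc, ← h, B.d2]; norm_num
      have d6 : A 3 ≠ Y' := by
        intro h
        apply b'.not_dvdY (by norm_num)
        rw [← h, B.d3]; norm_num
      have d7 : A 3 ≠ cc Y' := by
        intro h
        apply b'.not_dvdY (by norm_num)
        rw [← deg_cc, ← h, B.d3]; norm_num
      have d8 : A 2 ≠ A 3 := fun h => by
        have := congrArg deg h
        rw [B.d2, B.d3] at this
        norm_num at this
      simp only [List.nodup_cons, List.mem_cons, List.mem_ofFn, not_or, not_exists]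
      exact ⟨⟨(B.b.At 2).symm, (B.b.At 3).symm, b'.Yt.symm, b'.cYt.symm, fun i h => b'.At i h⟩,
        ⟨d8, d4, d5, fun i h => d2 i h.symm⟩, ⟨d6, d7, fun i h => d3 i h.symm⟩, ⟨b'.cYY.symm, fun i h => b'.AY i h⟩, fun i h => b'.AcY i h,
        List.nodup_ofFn.2 b'.inj⟩
    have hn := norm_list hnd (g := z) (f := f) (fun χ _ => hf' χ)
    simp only [List.map_cons, List.sum_cons, List.map_ofFn, List.sum_ofFn, Function.comp] at hn
    have f1 : f (triv G) = 1 := by have := hf' (triv G); rw [triv_apply] at this; exact_mod_cast this.symm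
    have f2 : f (A 2) = 22 := by have := hf' (A 2); rw [B.z2] at this; exact_mod_cast this.symm
    have f3 : f (A 3) = 27 := by have := hf' (A 3); rw [B.z3] at this; exact_mod_cast this.symm
    have f4 : f Y' = w := by have := hf' Y'; rw [hw1] at this; exact_mod_cast this.symm
    have f5 : f (cc Y') = w := by have := hf' (cc Y'); rw [cc_apply, hw1, map_intCast] at this; exact_mod_cast this.symm
    have f6 : ∀ i, f (A' i) = v i := fun i => by have := hf' (A' i); rw [hv1] at this; exact_mod_cast this.symm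
    simp only [f1, f2, f3, f4, f5, f6, hCz] at hn
    simp only [hg, hy, gq]
    push_cast at hn
    linarith
  obtain ⟨r1, r2⟩ := solve hgO hyO h45 h896 q1 q2 q3 q4
  simp only [O13, tgt, List.map_cons, List.map_nil, List.reverse_cons, List.reverse_nil, List.nil_append, List.cons_append, List.cons.injEq, and_true] at r1
  obtain ⟨c1, c2, c3, c4, c5, c6, c7, c8, c9, c10, c11, c12, c13⟩ := r1
  have hz0 : ∀ {o : E3}, (Finset.univ.filter (fun i => g i = o)).card = 0 → ∀ i, g i ≠ o := by
    intro o ho i hi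
    rw [Finset.card_eq_zero] at ho
    have : i ∈ Finset.univ.filter (fun i => g i = o) := Finset.mem_filter.2 ⟨Finset.mem_univ _, hi⟩
    rw [ho] at this
    exact absurd this (Finset.notMem_empty _)
  have hcases : ∀ i, g i = (-1, 22, 6) ∨ g i = (1, 231, 7) ∨ g i = (1, 990, -18) ∨ g i = (-1, 45, -3) ∨ g i = (-1, 896, 0) := by
    intro i
    have h := hgO i
    simp only [O15, O13, List.mem_cons, List.not_mem_nil, or_false] at h
    rcases h with h | h | h | h | h | h | h | h | h | h | h | h | h | h | h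
    · right; right; right; left; exact h
    · right; right; right; right; exact h
    · exact absurd h (hz0 c13 i)
    · left; exact h
    · exact absurd h (hz0 c11 i)
    · exact absurd h (hz0 c10 i)
    · right; left; exact h
    · exact absurd h (hz0 c8 i)
    · exact absurd h (hz0 c7 i)
    · exact absurd h (hz0 c6 i)
    · right; right; left; exact h
    · exact absurd h (hz0 c4 i)
    · exact absurd h (hz0 c3 i)
    · exact absurd h (hz0 c2 i)
    · exact absurd h (hz0 c1 i)
  refine ⟨b', ?_, ?_, ?_⟩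
  · rw [← c12]
    congr 1
    ext i
    simp only [Finset.mem_filter, Finset.mem_univ, true_and]
    constructor
    · intro h
      rcases hcases i with h' | h' | h' | h' | h'
      · exact h'
      all_goals
        rw [hg] at h'
        simp only [Prod.mk.injEq] at h'
        omega
    · intro h; rw [hg] at h; simp only [Prod.mk.injEq] at h; exact h.2.1
  · intro i
    rcases hcases i with h' | h' | h' | h' | h' <;> rw [hg] at h' <;> simp only [Prod.mk.injEq] at h'
    · left; exact ⟨h'.2.1, h'.1, by rw [hv1, h'.2.2]; norm_num⟩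
    · right; left; exact ⟨h'.2.1, h'.1⟩
    · right; right; left; exact ⟨h'.2.1, h'.1⟩
    · right; right; right; left; exact ⟨h'.2.1, h'.1⟩
    · right; right; right; right; exact ⟨h'.2.1, h'.1⟩
  · rw [hy] at r2
    simp only [Prod.mk.injEq] at r2
    exact r2.2.1

end Cfsg.Agent.Lib.M23N
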