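import Cfsg.Agent.Lib.FiM23e42

/-!
# Groups whose members have residues of type M(22): the diagram of `Fi23` without the order of the group (helper73, copying
helper42's files FiM23a42-FiM23d42 without the field `card`)
-/

set_option autoImplicit false
set_option linter.all false

namespace Cfsg.Agent.Lib.FiUniqC

open Cfsg Cfsg.Agent.Lib.ThreeRank3 Cfsg.Agent.Lib.ThreeDescent Cfsg.Agent.Lib.ThreeQuot Cfsg.Agent.Lib.FiPar
  Cfsg.Agent.Lib.ThreeSimple Cfsg.Agent.Lib.ThreeTypes Cfsg.Agent.Lib.FiComp Cfsg.Agent.Lib.FiMu Cfsg.Agent.Lib.FiHex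
open Cfsg.Agent.Lib.U6Class (A5 D5)
open Cfsg.Agent.Lib.CoxCert42 (Hyp u7 c8 t8 pr D7 D8 uw s1 s2 s3 s4)
open Cfsg.Spor
open Cfsg.Agent.Lib.FiUniq hiding T23.typeE T23.ne_xy T23.typeY plane_lift T23.exists_b T23.exists_j T23.exists_pat

section
variable {G : Type*} [Group G]

/-- facts on groups whose members have residues of type M(22) -/
structure TC (D : Set G) : Prop where
  tg : IsThreeTranspositionGroup D
  cc : ∀ d ∈ D, ∀ g : G, (∀ e ∈ Dd D d, Commute g e) → g = 1 ∨ g = d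
  nc : ∀ e ∈ D, NoCentral D e
  nr : NR D 6
  u : ∀ e ∈ D, U22 (QD D e)
  ne : D.Nonempty

variable {D : Set G}

section
variable (S : TC D)
include S

/-- a path which is not of type (Y) is of type (E) -/
theorem TC.typeE {x y : G} (hy : y ∈ D) (hx : x ∈ Dd D y) {p1 p2 p3 p4 p5 p6 c : G} (A : A6 (Dd D y) p1 p2 p3 p4 p5 p6)
    (A' : A6 (Dd D x) p1 p2 p3 p4 p5 p6) (C : CN (Dd D y) p1 p2 p3 p4 p5 p6 c) (C' : CN (Dd D x) p1 p2 p3 p4 p5 p6 c)
    (hno : ∀ b ∈ Dd D y, ¬ Commute b x → Commute b p1 → Commute b p2 → Commute b p3 → Commute b p4 → Commute b p5 →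
      ¬ Commute b p6) : uof p1 p2 p3 p4 p5 p6 c = x ∨ uof p1 p2 p3 p4 p5 p6 c = x * y := by
  have hD := S.tg.1
  have hnc := S.nc y hy
  have U := S.u y hy
  have hcm := fun {u v : G} (hu : u ∈ Dd D y) (hv : v ∈ Dd D y) => br_comm hD (e := y) hu hv
  have hne := fun {u v : G} (hu : u ∈ Dd D y) (hv : v ∈ Dd D y) => br_inj hD hnc hu hv
  have m1 := A.a5.m1; have m2 := A.a5.m2; have m3 := A.a5.m3; have m4 := A.a5.m4; have m5 := A.a5.m5; have m6 := A.m6
  -- membership in `D_{p1}`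
  have hd : ∀ {u v : G} (hu : u ∈ Dd D y) (hv : v ∈ Dd D y), u ∈ Dd D v → br D y u hu ∈ Dd (QD D y) (br D y v hv) := by
    intro u v hu hv huv
    exact ⟨br_mem _, fun h => huv.2.1 ((hne hu hv).mp h), (hcm hv hu).mpr huv.2.2⟩
  have xp : ∀ {p : G}, p ∈ Dd D x → x ∈ Dd D p := fun {p} hp => Dd_symm hx.1 hp
  have d31 : p3 ∈ Dd D p1 := ⟨m3.1, ne_of A.a5.c14 (fun h => A.a5.n34 h), A.a5.c13⟩
  have d41 : p4 ∈ Dd D p1 := ⟨m4.1, ne_of A.a5.c13 (fun h => A.a5.n34 h.symm), A.a5.c14⟩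
  have d51 : p5 ∈ Dd D p1 := ⟨m5.1, ne_of A.a5.c14 (fun h => A.a5.n45 h.symm), A.a5.c15⟩
  have d61 : p6 ∈ Dd D p1 := ⟨m6.1, ne_of A.a5.c15 (fun h => A.n56 h.symm), A.c16⟩
  have cx1 := A'.a5.m1.2.2; have cx2 := A'.a5.m2.2.2; have cx3 := A'.a5.m3.2.2; have cx4 := A'.a5.m4.2.2
  have cx5 := A'.a5.m5.2.2; have cx6 := A'.m6.2.2
  obtain ⟨q', hq', hxq, k3, k4, k5, k6⟩ := U.pa (br D y p1 m1) (br_mem _) (br D y p3 m3) (br D y p4 m4) (br D y p5 m5)
    (br D y p6 m6) (br D y x hx)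
    ⟨hd m3 m1 d31, hd m4 m1 d41, hd m5 m1 d51, hd m6 m1 d61, fun h => A.a5.n34 ((hcm _ _).mp h),
      fun h => A.a5.n45 ((hcm _ _).mp h), fun h => A.n56 ((hcm _ _).mp h), (hcm _ _).mpr A.a5.c35, (hcm _ _).mpr A.c36,
      (hcm _ _).mpr A.c46⟩ (hd hx m1 (xp A'.a5.m1)) ((hcm _ _).mpr cx3) ((hcm _ _).mpr cx4) ((hcm _ _).mpr cx5)
    ((hcm _ _).mpr cx6)
  obtain ⟨q, hq, rfl⟩ := mem_QD.mp hq'.1
  have c1 : Commute q p1 := ((hcm _ _).mp hq'.2.2).symm
  have c3 : Commute q p3 := (hcm _ _).mp k3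
  have c4 : Commute q p4 := (hcm _ _).mp k4
  have c5 : Commute q p5 := (hcm _ _).mp k5
  have c6 : Commute q p6 := (hcm _ _).mp k6
  have nx : ¬ Commute q x := fun h => hxq ((hcm _ _).mpr h.symm)
  have n2 : ¬ Commute q p2 := fun h => hno q hq nx c1 h c3 c4 c5 c6
  have E : E8 (Dd D y) p1 p2 p3 p4 p5 p6 q x :=
    ⟨A, hq, hx, fun h => n2 h.symm, nx, c1.symm, c3.symm, c4.symm, c5.symm, c6.symm, cx1.symm, cx2.symm, cx3.symm, cx4.symm,
      cx5.symm, cx6.symm⟩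
  have hA : A6 (Dd (QD D y) (br D y x hx)) (br D y p1 m1) (br D y p2 m2) (br D y p3 m3) (br D y p4 m4) (br D y p5 m5)
      (br D y p6 m6) :=
    (A.br hD).mono (hd _ _ A'.a5.m1) (hd _ _ A'.a5.m2) (hd _ _ A'.a5.m3) (hd _ _ A'.a5.m4) (hd _ _ A'.a5.m5) (hd _ _ A'.m6)
  have hC0 := C.br hD m1 m2 m3 m4 m5 m6
  have hC : CN (Dd (QD D y) (br D y x hx)) (br D y p1 m1) (br D y p2 m2) (br D y p3 m3) (br D y p4 m4) (br D y p5 m5)
      (br D y p6 m6) (br D y c C.m) := ⟨hd _ _ C'.m, hC0.c1, hC0.c2, hC0.n3, hC0.c4, hC0.c5, hC0.c6⟩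
  have := U.t.u_eqA U.cu (E.br hD) hA hC
  exact u_br S.tg hnc (S.cc y hy) A C hx this

end

section
variable (S : TC D)
include S

theorem TC.ne_xy {x y : G} (hy : y ∈ D) (hx : x ∈ Dd D y) {p1 p2 p3 p4 p5 p6 c : G} (A : A6 (Dd D y) p1 p2 p3 p4 p5 p6)
    (A' : A6 (Dd D x) p1 p2 p3 p4 p5 p6) (C : CN (Dd D y) p1 p2 p3 p4 p5 p6 c) (C' : CN (Dd D x) p1 p2 p3 p4 p5 p6 c) :
    uof p1 p2 p3 p4 p5 p6 c ≠ x * y := by
  intro huxy
  have hD := S.tg.1
  have hnc := S.nc y hy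
  have U := S.u y hy
  have hcm := fun {u v : G} (hu : u ∈ Dd D y) (hv : v ∈ Dd D y) => br_comm hD (e := y) hu hv
  have hne := fun {u v : G} (hu : u ∈ Dd D y) (hv : v ∈ Dd D y) => br_inj hD hnc hu hv
  have m1 := A.a5.m1; have m2 := A.a5.m2; have m3 := A.a5.m3; have m4 := A.a5.m4; have m5 := A.a5.m5; have m6 := A.m6
  have hd : ∀ {u v : G} (hu : u ∈ Dd D y) (hv : v ∈ Dd D y), u ∈ Dd D v → br D y u hu ∈ Dd (QD D y) (br D y v hv) := by
    intro u v hu hv huv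
    exact ⟨br_mem _, fun h => huv.2.1 ((hne hu hv).mp h), (hcm hv hu).mpr huv.2.2⟩
  have cx4 := A'.a5.m4.2.2; have cx6 := A'.m6.2.2
  -- the hexad
  have ht3 : Tup (QD D y) 3 [br D y x hx, br D y p4 m4, br D y p6 m6] := by
    rw [Tup_three]
    refine ⟨⟨br_mem _, br_mem _, br_mem _⟩, ⟨?_, ?_, ?_⟩, ⟨(hcm _ _).mpr cx4, (hcm _ _).mpr cx6, (hcm _ _).mpr A.c46⟩⟩
    · intro h; exact A'.a5.m4.2.1 ((hne hx m4).mp h).symm
    · intro h; exact A'.m6.2.1 ((hne hx m6).mp h).symm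
    · intro h
      have := (hne m4 m6).mp h
      exact A.a5.n34 (this ▸ A.c36)
  obtain ⟨x', y', z', ht6, hpr, hiff⟩ := U.h.ex ht3
  have hA : A6 (Dd (QD D y) (br D y x hx)) (br D y p1 m1) (br D y p2 m2) (br D y p3 m3) (br D y p4 m4) (br D y p5 m5)
      (br D y p6 m6) :=
    (A.br hD).mono (hd _ _ A'.a5.m1) (hd _ _ A'.a5.m2) (hd _ _ A'.a5.m3) (hd _ _ A'.a5.m4) (hd _ _ A'.a5.m5) (hd _ _ A'.m6)
  have hC0 := C.br hD m1 m2 m3 m4 m5 m6
  have hC : CN (Dd (QD D y) (br D y x hx)) (br D y p1 m1) (br D y p2 m2) (br D y p3 m3) (br D y p4 m4) (br D y p5 m5)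
      (br D y p6 m6) (br D y c C.m) := ⟨hd _ _ C'.m, hC0.c1, hC0.c2, hC0.n3, hC0.c4, hC0.c5, hC0.c6⟩
  have hcH : br D y c C.m ∈ Hx (QD D y) (br D y x hx) (br D y p4 m4) (br D y p6 m6) := by
    refine ⟨br_mem _, ?_⟩
    intro w hw h1 h2 h3
    by_cases hwx : w = br D y x hx
    · rw [hwx]; exact (hcm _ _).mpr C'.m.2.2
    · exact U.co _ (br_mem _) _ _ _ _ _ _ _ hA hC w ⟨hw, hwx, h1.symm⟩ h2 h3
  -- the two further members
  obtain ⟨v', w', ht6', hpr', hv', hw'⟩ : ∃ v' w' : QQ D y, Tup (QD D y) 6 [br D y x hx, br D y p4 m4, br D y p6 m6, br D y c C.m, v', w'] ∧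
      [br D y x hx, br D y p4 m4, br D y p6 m6, br D y c C.m, v', w'].prod = 1 ∧
      v' ∈ Hx (QD D y) (br D y x hx) (br D y p4 m4) (br D y p6 m6) ∧ w' ∈ Hx (QD D y) (br D y x hx) (br D y p4 m4) (br D y p6 m6) := by
    have hmem := (hiff _).mp hcH
    have e1 : br D y c C.m ≠ br D y x hx := fun h => C'.m.2.1 ((hne _ _).mp h)
    have e2 : br D y c C.m ≠ br D y p4 m4 := fun h => A.a5.n45 (((hne _ _).mp h) ▸ C.c5)
    have e3 : br D y c C.m ≠ br D y p6 m6 := fun h => A.n56 ((((hne _ _).mp h) ▸ C.c5) : Commute p6 p5).symm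
    simp only [List.mem_cons, List.not_mem_nil, or_false, e1, e2, e3, false_or] at hmem
    have hx' : x' ∈ Hx (QD D y) (br D y x hx) (br D y p4 m4) (br D y p6 m6) := (hiff _).mpr (by simp)
    have hy' : y' ∈ Hx (QD D y) (br D y x hx) (br D y p4 m4) (br D y p6 m6) := (hiff _).mpr (by simp)
    have hz' : z' ∈ Hx (QD D y) (br D y x hx) (br D y p4 m4) (br D y p6 m6) := (hiff _).mpr (by simp)
    rcases hmem with h | h | h
    · rw [h]; exact ⟨y', z', ht6, hpr, hy', hz'⟩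
    · have hperm : [br D y x hx, br D y p4 m4, br D y p6 m6, x', y', z'].Perm [br D y x hx, br D y p4 m4, br D y p6 m6, y', x', z'] :=
        (((List.Perm.swap y' x' [z']).cons _).cons _).cons _
      rw [h]
      exact ⟨x', z', Tup_perm ht6 hperm, by rw [← FiHex.prod_perm ht6.2.2.2 hperm]; exact hpr, hx', hz'⟩
    · have hperm : [br D y x hx, br D y p4 m4, br D y p6 m6, x', y', z'].Perm [br D y x hx, br D y p4 m4, br D y p6 m6, z', x', y'] := by
        have h1 : [x', y', z'].Perm [z', x', y'] := by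
          have e1 : [x', y', z'].Perm [x', z', y'] := (List.Perm.swap z' y' []).cons x'
          exact e1.trans (List.Perm.swap z' x' [y'])
        exact ((h1.cons _).cons _).cons _
      rw [h]
      exact ⟨x', y', Tup_perm ht6 hperm, by rw [← FiHex.prod_perm ht6.2.2.2 hperm]; exact hpr, hx', hy'⟩
  obtain ⟨v, hv, rfl⟩ := mem_QD.mp hv'.1
  obtain ⟨w, hw, rfl⟩ := mem_QD.mp hw'.1
  -- lift of the relation
  have hnd : [x, p4, p6, c, v, w].Nodup := by
    have h1 := ht6'.1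
    simp only [List.nodup_cons, List.mem_cons, List.not_mem_nil, or_false, not_or, List.nodup_nil, not_false_eq_true,
        and_true, hne] at h1 ⊢
    exact h1
  have hvw : v ≠ w := by
    simp only [List.nodup_cons, List.mem_cons, List.not_mem_nil, or_false, not_or] at hnd
    tauto
  have hcommb := ht6'.2.2.2
  have hall : ∀ z ∈ [x, p4, p6, c, v, w], z ∈ Dd D y := by
    intro z hz
    simp only [List.mem_cons, List.not_mem_nil, or_false] at hz
    rcases hz with rfl | rfl | rfl | rfl | rfl | rfl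
    exacts [hx, m4, m6, C.m, hv, hw]
  have hcomm : ∀ z ∈ [x, p4, p6, c, v, w], ∀ z' ∈ [x, p4, p6, c, v, w], Commute z z' := by
    intro z hz z' hz'
    rw [← hcm (hall z hz) (hall z' hz')]
    apply hcommb
    · simp only [List.mem_cons, List.not_mem_nil, or_false, hne] at hz ⊢
      exact hz
    · simp only [List.mem_cons, List.not_mem_nil, or_false, hne] at hz' ⊢
      exact hz'
  have hmulH : x * (p4 * (p6 * (c * (v * w)))) ∈ HH D y :=
    Subgroup.mul_mem _ (mem_HH hx) (Subgroup.mul_mem _ (mem_HH m4) (Subgroup.mul_mem _ (mem_HH m6) (Subgroup.mul_mem _ (mem_HH C.m)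
      (Subgroup.mul_mem _ (mem_HH hv) (mem_HH hw)))))
  have hmk : (QuotientGroup.mk (⟨x * (p4 * (p6 * (c * (v * w)))), hmulH⟩ : HH D y) : QQ D y) =
      QuotientGroup.mk (⟨1, Subgroup.one_mem _⟩ : HH D y) := by
    have h1 : (QuotientGroup.mk (⟨x * (p4 * (p6 * (c * (v * w)))), hmulH⟩ : HH D y) : QQ D y) =
        [br D y x hx, br D y p4 m4, br D y p6 m6, br D y c C.m, br D y v hv, br D y w hw].prod := by
      simp only [List.prod_cons, List.prod_nil, mul_one]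
      rfl
    rw [h1, hpr']
    rfl
  have hxy : x * (p4 * (p6 * (c * (v * w)))) = y := by
    rcases eq_of_mk (S.cc y hy) hmulH (Subgroup.one_mem _) hmk with h | h
    · exfalso
      exact S.nr 6 (by norm_num) (le_refl _) ⟨[x, p4, p6, c, v, w], rfl, hnd, fun z hz => (hall z hz).1, hcomm, by
        simp only [List.prod_cons, List.prod_nil, mul_one]; exact h⟩
    · rw [h, one_mul]
  -- the frame
  have H1 := hyp7of (D := D) hD (A.mono A.a5.m1.1 A.a5.m2.1 A.a5.m3.1 A.a5.m4.1 A.a5.m5.1 A.m6.1)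
    ⟨C.m.1, C.c1, C.c2, C.n3, C.c4, C.c5, C.c6⟩
  set X := x7of p1 p2 p3 p4 p5 p6 c with hX
  obtain ⟨⟨f20, f22, f26, f21, f23, f24⟩, ⟨f30, f32, f36, f31, f34⟩, ⟨f40, f41, f42, f43, f44, f46⟩⟩ := CoxCert42.frame_comm H1
  obtain ⟨g45, g21, g31, g23, g33⟩ := CoxCert42.frame_nc H1 (fun h => A.n56 h) (fun h => A.a5.n45 h) (fun h => A.a5.n34 h)
  obtain ⟨k2, k3, k4⟩ := CoxCert42.frame_conj H1
  have X0 : X 0 = p6 := rfl
  have X1 : X 1 = p5 := rfl
  have X2 : X 2 = p4 := rfl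
  have X3 : X 3 = p3 := rfl
  have X4 : X 4 = p2 := rfl
  have X5 : X 5 = p1 := rfl
  have X6 : X 6 = c := rfl
  have s1e : s1 X = p2 := rfl
  have hy7 : ∀ j, j < 7 → X j ∈ Dd D y := by
    intro j hj
    interval_cases j
    exacts [m6, m5, m4, m3, m2, m1, C.m]
  have hx7 : ∀ j, j < 7 → X j ∈ Dd D x := by
    intro j hj
    interval_cases j
    exacts [A'.m6, A'.a5.m5, A'.a5.m4, A'.a5.m3, A'.a5.m2, A'.a5.m1, C'.m]
  have hcj : ∀ (z : G), (∀ j, j < 7 → X j ∈ Dd D z) → ∀ w : List ℕ, (∀ j ∈ w, j < 7) → ∀ r, r < 7 →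
      Commute (pr X w * X r * (pr X w)⁻¹) z := by
    intro z hz w hw r hr
    have h1 := pr_comm (fun j hj => (hz j hj).2.2.symm) hw
    exact (h1.mul_left (hz r hr).2.2.symm).mul_left h1.inv_left
  have sD : s2 X ∈ D ∧ s3 X ∈ D ∧ s4 X ∈ D := by
    refine ⟨?_, ?_, ?_⟩
    · rw [k2]; exact S.tg.2.1 _ _ m4.1
    · rw [k3]; exact S.tg.2.1 _ _ m6.1
    · rw [k4]; exact S.tg.2.1 _ _ m6.1
  have sy2 : s2 X ∈ Dd D y := ⟨sD.1, ne_of m5.2.2 g21, by rw [k2]; exact (hcj y hy7 _ (by decide) _ (by norm_num)).symm⟩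
  have sy3 : s3 X ∈ Dd D y := ⟨sD.2.1, ne_of m5.2.2 g31, by rw [k3]; exact (hcj y hy7 _ (by decide) _ (by norm_num)).symm⟩
  have sy4 : s4 X ∈ Dd D y := ⟨sD.2.2, ne_of m1.2.2 g45, by rw [k4]; exact (hcj y hy7 _ (by decide) _ (by norm_num)).symm⟩
  have sx2 : Commute (s2 X) x := by rw [k2]; exact hcj x hx7 _ (by decide) _ (by norm_num)
  have sx3 : Commute (s3 X) x := by rw [k3]; exact hcj x hx7 _ (by decide) _ (by norm_num)
  have sx4 : Commute (s4 X) x := by rw [k4]; exact hcj x hx7 _ (by decide) _ (by norm_num)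
  -- commutation with `v` and `w`
  have hvw4 : ∀ (z : G) (hz : z ∈ Dd D y), Commute z x → Commute z p4 → Commute z p6 → Commute z v ∧ Commute z w := by
    intro z hz h1 h2 h3
    exact ⟨(hcm hz hv).mp (hv'.2 _ (br_mem hz) ((hcm _ _).mpr h1) ((hcm _ _).mpr h2) ((hcm _ _).mpr h3)),
      (hcm hz hw).mp (hw'.2 _ (br_mem hz) ((hcm _ _).mpr h1) ((hcm _ _).mpr h2) ((hcm _ _).mpr h3))⟩
  have q1 := hvw4 p2 m2 A'.a5.m2.2.2.symm A.a5.c24 A.c26
  have q2 := hvw4 (s2 X) sy2 sx2 f22 f20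
  have q3 := hvw4 (s3 X) sy3 sx3 f32 f30
  have q4 := hvw4 (s4 X) sy4 sx4 f42 f40
  have cvw : Commute v w := hcomm v (by simp) w (by simp)
  refine rel42 hD S.nr (a1 := p2) (a2 := s2 X) (a3 := s3 X) (a4 := s4 X) (v := v) (w := w) ?_ hvw ?_ ?_ ?_
  · have n12 : p2 ≠ s2 X := fun h => g21 (h ▸ A.a5.c25)
    have n13 : p2 ≠ s3 X := fun h => g31 (h ▸ A.a5.c25)
    have n14 : p2 ≠ s4 X := fun h => A.a5.n23 (h ▸ f43)
    have n23 : s2 X ≠ s3 X := fun h => g23 (h ▸ g33)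
    have n24 : s2 X ≠ s4 X := fun h => g21 (h ▸ f41)
    have n34 : s3 X ≠ s4 X := fun h => g31 (h ▸ f41)
    simp [n12, n13, n14, n23, n24, n34]
  · intro z hz
    simp only [List.mem_cons, List.not_mem_nil, or_false] at hz
    rcases hz with rfl | rfl | rfl | rfl | rfl | rfl
    exacts [m2.1, sD.1, sD.2.1, sD.2.2, hv.1, hw.1]
  · intro z hz z' hz'
    simp only [List.mem_cons, List.not_mem_nil, or_false] at hz hz'
    rcases hz with rfl | rfl | rfl | rfl | rfl | rfl <;> rcases hz' with rfl | rfl | rfl | rfl | rfl | rfl <;>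
      first
      | exact Commute.refl _
      | exact f21.symm
      | exact f31.symm
      | exact f44.symm
      | exact f21
      | exact f31
      | exact f44
      | exact f23
      | exact f23.symm
      | exact f24
      | exact f24.symm
      | exact f34
      | exact f34.symm
      | exact q1.1
      | exact q1.2
      | exact q2.1
      | exact q2.2
      | exact q3.1
      | exact q3.2
      | exact q4.1
      | exact q4.2
      | exact q1.1.symm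
      | exact q1.2.symm
      | exact q2.1.symm
      | exact q2.2.symm
      | exact q3.1.symm
      | exact q3.2.symm
      | exact q4.1.symm
      | exact q4.2.symm
      | exact cvw
      | exact cvw.symm
  · -- the relation
    have hu : uof p1 p2 p3 p4 p5 p6 c = c * p4 * p6 * (p2 * s2 X * s3 X * s4 X) := rfl
    rw [hu, ← hxy] at huxy
    have hxx := sq_one hD hx.1
    have e1 : c * p4 * p6 * (p2 * s2 X * s3 X * s4 X) = p4 * p6 * c * (v * w) := by
      rw [huxy]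
      calc x * (x * (p4 * (p6 * (c * (v * w))))) = (x * x) * (p4 * p6 * c * (v * w)) := by group
        _ = _ := by rw [hxx, one_mul]
    have e2 : p4 * p6 * c = c * p4 * p6 := by
      have h1 : Commute c (p4 * p6) := C.c4.mul_right C.c6
      rw [← h1.eq]; group
    rw [e2] at e1
    exact mul_left_cancel e1

/-- type (E) on one side gives type (Y) on the other side -/
theorem TC.typeY {x y : G} (hy : y ∈ D) (hx : x ∈ Dd D y) {p1 p2 p3 p4 p5 p6 c : G} (A : A6 (Dd D y) p1 p2 p3 p4 p5 p6)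
    (A' : A6 (Dd D x) p1 p2 p3 p4 p5 p6) (C : CN (Dd D y) p1 p2 p3 p4 p5 p6 c) (C' : CN (Dd D x) p1 p2 p3 p4 p5 p6 c)
    (hu : uof p1 p2 p3 p4 p5 p6 c = x ∨ uof p1 p2 p3 p4 p5 p6 c = x * y) :
    ∃ b ∈ Dd D x, ¬ Commute b y ∧ Commute b p1 ∧ Commute b p2 ∧ Commute b p3 ∧ Commute b p4 ∧ Commute b p5 ∧ Commute b p6 := by
  by_contra hcon
  have hyx : y ∈ Dd D x := Dd_symm hy hx
  have h1 := S.typeE hx.1 hyx A' A C' C (fun b hb h1 h2 h3 h4 h5 h6 h7 => hcon ⟨b, hb, h1, h2, h3, h4, h5, h6, h7⟩)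
  have hxx := sq_one S.tg.1 hx.1
  have hxy : Commute y x := hx.2.2
  have hux : uof p1 p2 p3 p4 p5 p6 c = x := hu.resolve_right (S.ne_xy hy hx A A' C C')
  rcases h1 with h | h
  · exact hyx.2.1 (h.symm.trans hux)
  · rw [hux] at h
    have h2 : y = 1 := by
      have : 1 * x = y * x := by rw [one_mul]; exact h
      exact (mul_right_cancel this).symm
    have h3 := S.tg.1.1 y hy
    rw [h2, orderOf_one] at h3
    exact absurd h3 (by norm_num)

end

/-- lift of the conclusion of `PlaneP` -/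
theorem plane_lift (S : TC D) {a : G} (ha : a ∈ D) {t j k : G} (ht : t ∈ Dd D a) (hj : j ∈ Dd D a) (hk : k ∈ Dd D a)
    (h : br D a k hk = br D a t ht ∨ br D a k hk = br D a j hj ∨ br D a k hk = br D a t ht * br D a j hj * br D a t ht) :
    k = t ∨ k = j ∨ j = t * k * t := by
  have hD := S.tg.1
  have hnca := S.nc a ha
  have htt := sq_one hD ht.1
  rcases h with h | h | h
  · exact Or.inl ((br_inj hD hnca _ _).mp h)
  · exact Or.inr (Or.inl ((br_inj hD hnca _ _).mp h))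
  · right; right
    have hmD : t * j * t ∈ D := by
      have : t * j * t = t * j * t⁻¹ := by rw [inv_eq_of_mul_eq_one_right htt]
      rw [this]; exact S.tg.2.1 _ _ hj.1
    have hma : t * j * t ∈ Dd D a := by
      refine ⟨hmD, ?_, (ht.2.2.mul_right hj.2.2).mul_right ht.2.2⟩
      intro h4
      have : j = a := by
        calc j = (t * t) * j * (t * t) := by rw [htt]; group
          _ = t * (t * j * t) * t := by group
          _ = t * a * t := by rw [h4]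
          _ = a * (t * t) := by rw [← ht.2.2.eq]; group
          _ = a := by rw [htt, mul_one]
      exact hj.2.1 this
    have h4 : br D a (t * j * t) hma = br D a k hk := h.symm
    have h5 := (br_inj hD hnca hma hk).mp h4
    rw [← h5]
    calc j = (t * t) * j * (t * t) := by rw [htt]; group
      _ = _ := by group


section
variable (S : TC D)
include S

/-- the member `b` -/
theorem TC.exists_b {a : G} (ha : a ∈ D) {c d e f g j h i : G} (E : E8 (Dd D a) c d e f g j h i) :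
    ∃ t ∈ Dd D a, ∃ b ∈ Dd D t, ¬ Commute t j ∧ (c ∈ Dd D t ∧ d ∈ Dd D t ∧ e ∈ Dd D t ∧ f ∈ Dd D t ∧ g ∈ Dd D t ∧ h ∈ Dd D t ∧
      i ∈ Dd D t) ∧ ¬ Commute b a ∧ ¬ Commute b c ∧ Commute b d ∧ Commute b e ∧ Commute b f ∧ Commute b g ∧ Commute b h ∧
      Commute b i := by
  have hD := S.tg.1
  have Ua := S.u a ha
  have hnca := S.nc a ha
  have hcma := fun {u v : G} (hu : u ∈ Dd D a) (hv : v ∈ Dd D a) => br_comm hD (e := a) hu hv
  -- the member `t`
  obtain ⟨t', ht', ⟨t0, t1, t2, t3, t4, t5, t6, t7⟩, hu⟩ := Ua.t.u_eqB (E.br hD)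
  obtain ⟨t, ht, rfl⟩ := mem_QD.mp ht'
  have hu' := u_br S.tg hnca (S.cc a ha) E.path E.node ht hu
  clear hu
  have ctc : Commute t c := (hcma _ _).mp t0
  have ctd : Commute t d := (hcma _ _).mp t1
  have cte : Commute t e := (hcma _ _).mp t2
  have ctf : Commute t f := (hcma _ _).mp t3
  have ctg : Commute t g := (hcma _ _).mp t4
  have ntj : ¬ Commute t j := fun h => t5 ((hcma _ _).mpr h)
  have cth : Commute t h := (hcma _ _).mp t6
  have cti : Commute t i := (hcma _ _).mp t7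
  have tc : c ∈ Dd D t := ⟨E.a.a5.m1.1, ne_of ctd (fun h => E.a.a5.n12 h), ctc⟩
  have td : d ∈ Dd D t := ⟨E.a.a5.m2.1, ne_of ctc (fun h => E.a.a5.n12 h.symm), ctd⟩
  have te : e ∈ Dd D t := ⟨E.a.a5.m3.1, ne_of ctd (fun h => E.a.a5.n23 h.symm), cte⟩
  have tf : f ∈ Dd D t := ⟨E.a.a5.m4.1, ne_of cte (fun h => E.a.a5.n34 h.symm), ctf⟩
  have tg : g ∈ Dd D t := ⟨E.a.a5.m5.1, ne_of ctf (fun h => E.a.a5.n45 h.symm), ctg⟩
  have th : h ∈ Dd D t := ⟨E.m6.1, ne_of ctd (fun h => E.n16 h.symm), cth⟩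
  have ti : i ∈ Dd D t := ⟨E.m7.1, ne_of cth (fun h => E.n67 h.symm), cti⟩
  have ta : a ∈ Dd D t := Dd_symm ha ht
  -- the member `b`
  obtain ⟨b, hb, nab, cbi, cbh, cbd, cbe, cbf, cbg⟩ : ∃ b ∈ Dd D t, ¬ Commute b a ∧ Commute b i ∧ Commute b h ∧ Commute b d ∧
      Commute b e ∧ Commute b f ∧ Commute b g :=
    S.typeY ha ht E.path (E.path.mono ti th td te tf tg) E.node ⟨tc, E.node.c1, E.node.c2, E.node.n3, E.node.c4, E.node.c5,
      E.node.c6⟩ hu'
  refine ⟨t, ht, b, hb, ntj, ⟨tc, td, te, tf, tg, th, ti⟩, nab, ?_, cbd, cbe, cbf, cbg, cbh, cbi⟩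
  intro cbc
  have Ut := S.u t ht.1
  have hnct := S.nc t ht.1
  have hcmt := fun {u v : G} (hu : u ∈ Dd D t) (hv : v ∈ Dd D t) => br_comm hD (e := t) hu hv
  have hnet := fun {u v : G} (hu : u ∈ Dd D t) (hv : v ∈ Dd D t) => br_inj hD hnct hu hv
  have AD : A6 D i h d e f g := E.path.mono ti.1 th.1 td.1 te.1 tf.1 tg.1
  obtain ⟨s, sD, nsi, csh, csd, cse, csf, csg, csc, hs⟩ := s4_props S.tg AD ⟨tc.1, E.node.c1, E.node.c2, E.node.n3, E.node.c4,
    E.node.c5, E.node.c6⟩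
  have cca := E.a.a5.m1.2.2; have cda := E.a.a5.m2.2.2; have cea := E.a.a5.m3.2.2; have cfa := E.a.a5.m4.2.2
  have cga := E.a.a5.m5.2.2; have cha := E.m6.2.2; have cia := E.m7.2.2
  have csa : Commute s a := hs a cia.symm cha.symm cda.symm cea.symm cfa.symm cga.symm cca.symm
  have csb : Commute s b := hs b cbi.symm cbh.symm cbd.symm cbe.symm cbf.symm cbg.symm cbc.symm
  have cst : Commute s t := hs t cti.symm cth.symm ctd.symm cte.symm ctf.symm ctg.symm ctc.symm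
  have ts : s ∈ Dd D t := ⟨sD, fun h => nsi (h ▸ cti), cst.symm⟩
  have hd : ∀ {u v : G} (hu : u ∈ Dd D t) (hv : v ∈ Dd D t), u ≠ v → Commute u v → br D t u hu ∈ Dd (QD D t) (br D t v hv) := by
    intro u v hu hv h1 h2
    exact ⟨br_mem _, fun h => h1 ((hnet hu hv).mp h), (hcmt hv hu).mpr h2.symm⟩
  have At : A6 (Dd D t) i h d e f g := E.path.mono ti th td te tf tg
  have At' : A6 (Dd (QD D t) (br D t a ta) ∩ Dd (QD D t) (br D t b hb)) (br D t i ti) (br D t h th) (br D t d td) (br D t e te)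
      (br D t f tf) (br D t g tg) := by
    refine (At.br hD).mono ⟨?_, ?_⟩ ⟨?_, ?_⟩ ⟨?_, ?_⟩ ⟨?_, ?_⟩ ⟨?_, ?_⟩ ⟨?_, ?_⟩
    · exact hd ti ta E.m7.2.1 cia.symm
    · exact hd ti hb (fun h => nab (h ▸ cia.symm)) cbi.symm
    · exact hd th ta E.m6.2.1 cha.symm
    · exact hd th hb (fun h => nab (h ▸ cha.symm)) cbh.symm
    · exact hd td ta E.a.a5.m2.2.1 cda.symm
    · exact hd td hb (fun h => nab (h ▸ cda.symm)) cbd.symm
    · exact hd te ta E.a.a5.m3.2.1 cea.symm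
    · exact hd te hb (fun h => nab (h ▸ cea.symm)) cbe.symm
    · exact hd tf ta E.a.a5.m4.2.1 cfa.symm
    · exact hd tf hb (fun h => nab (h ▸ cfa.symm)) cbf.symm
    · exact hd tg ta E.a.a5.m5.2.1 cga.symm
    · exact hd tg hb (fun h => nab (h ▸ cga.symm)) cbg.symm
  exact NoA7.path Ut.a7 (br_mem ta) (br_mem hb) (fun h => nab ((hcmt ta hb).mp h).symm) At'
    ⟨hd ts ta (fun h => nsi (h ▸ cia)) csa, hd ts hb (fun h => nsi (h ▸ cbi)) csb⟩
    (fun h => nsi ((hcmt ts ti).mp h)) ((hcmt ts th).mpr csh) ((hcmt ts td).mpr csd) ((hcmt ts te).mpr cse) ((hcmt ts tf).mpr csf)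
    ((hcmt ts tg).mpr csg)

/-- the member `j` -/
theorem TC.exists_j {t : G} (ht : t ∈ D) {a b c d e f g h i : G} (P : Pat Fi22.edges D (w22 a b c d e f g h i))
    (hm : ∀ x, w22 a b c d e f g h i x ∈ Dd D t) : ∃ j ∈ Dd D i, ¬ Commute j t ∧ Commute j a ∧ Commute j b ∧ Commute j c ∧
      Commute j d ∧ Commute j e ∧ Commute j f := by
  have hD := S.tg.1
  have Ut := S.u t ht
  have hnct := S.nc t ht
  have hcmt := fun {u v : G} (hu : u ∈ Dd D t) (hv : v ∈ Dd D t) => br_comm hD (e := t) hu hv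
  have hnet := fun {u v : G} (hu : u ∈ Dd D t) (hv : v ∈ Dd D t) => br_inj hD hnct hu hv
  have ta : a ∈ Dd D t := hm .a
  have hb : b ∈ Dd D t := hm .b
  have tc : c ∈ Dd D t := hm .c
  have td : d ∈ Dd D t := hm .d
  have te : e ∈ Dd D t := hm .e
  have tf : f ∈ Dd D t := hm .f
  have ti : i ∈ Dd D t := hm .i
  obtain ⟨y', E'⟩ := Ut.e8 _ (P.br hD hm)
  change E8 (QD D t) (br D t a ta) (br D t b hb) (br D t c tc) (br D t d td) (br D t e te) (br D t f tf) y' (br D t i ti) at E'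
  have AD : A6 D a b c d e f := by
    refine ⟨⟨P.mem .a, P.mem .b, P.mem .c, P.mem .d, P.mem .e, P.nc .a .b (by decide), P.nc .b .c (by decide),
      P.nc .c .d (by decide), P.nc .d .e (by decide), P.com .a .c (by decide), P.com .a .d (by decide), P.com .a .e (by decide),
      P.com .b .d (by decide), P.com .b .e (by decide), P.com .c .e (by decide)⟩, P.mem .f, P.nc .e .f (by decide),
      P.com .a .f (by decide), P.com .b .f (by decide), P.com .c .f (by decide), P.com .d .f (by decide)⟩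
  have cai : Commute a i := P.com .a .i (by decide)
  have cbi : Commute b i := P.com .b .i (by decide)
  have cci : Commute c i := P.com .c .i (by decide)
  have cdi : Commute d i := P.com .d .i (by decide)
  have cei : Commute e i := P.com .e .i (by decide)
  have cfi : Commute f i := P.com .f .i (by decide)
  have ia : a ∈ Dd D i := ⟨AD.a5.m1, ne_of cbi.symm AD.a5.n12, cai.symm⟩
  have ib : b ∈ Dd D i := ⟨AD.a5.m2, ne_of cci.symm AD.a5.n23, cbi.symm⟩
  have ic : c ∈ Dd D i := ⟨AD.a5.m3, ne_of cdi.symm AD.a5.n34, cci.symm⟩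
  have id' : d ∈ Dd D i := ⟨AD.a5.m4, ne_of cei.symm AD.a5.n45, cdi.symm⟩
  have ie : e ∈ Dd D i := ⟨AD.a5.m5, ne_of cfi.symm AD.n56, cei.symm⟩
  have if' : f ∈ Dd D i := ⟨AD.m6, ne_of cei.symm (fun h => AD.n56 h.symm), cfi.symm⟩
  have hd : ∀ {u v : G} (hu : u ∈ Dd D t) (hv : v ∈ Dd D t), u ∈ Dd D v → br D t u hu ∈ Dd (QD D t) (br D t v hv) := by
    intro u v hu hv huv
    exact ⟨br_mem _, fun h => huv.2.1 ((hnet hu hv).mp h), (hcmt hv hu).mpr huv.2.2⟩
  have At : A6 (Dd D t) a b c d e f := AD.mono ta hb tc td te tf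
  have Ai : A6 (Dd D i) a b c d e f := AD.mono ia ib ic id' ie if'
  have At' := At.br hD
  have Ai' : A6 (Dd (QD D t) (br D t i ti)) (br D t a ta) (br D t b hb) (br D t c tc) (br D t d td) (br D t e te) (br D t f tf) :=
    At'.mono (hd _ _ ia) (hd _ _ ib) (hd _ _ ic) (hd _ _ id') (hd _ _ ie) (hd _ _ if')
  obtain ⟨c', C'⟩ := Ut.cx (br D t i ti) (br_mem _) _ _ _ _ _ _ Ai'
  obtain ⟨k, hk, rfl⟩ := mem_QD.mp C'.m.1
  have huA := Ut.t.u_eqA Ut.cu E' Ai' C'
  have Ct : CN (Dd D t) a b c d e f k := ⟨hk, (hcmt _ _).mp C'.c1, (hcmt _ _).mp C'.c2, fun h => C'.n3 ((hcmt _ _).mpr h),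
    (hcmt _ _).mp C'.c4, (hcmt _ _).mp C'.c5, (hcmt _ _).mp C'.c6⟩
  have Ci : CN (Dd D i) a b c d e f k := ⟨⟨hk.1, fun h => C'.m.2.1 ((hnet _ _).mpr h), (hcmt _ _).mp C'.m.2.2⟩, Ct.c1, Ct.c2, Ct.n3,
    Ct.c4, Ct.c5, Ct.c6⟩
  exact S.typeY ht ti At Ai Ct Ci (u_br S.tg hnct (S.cc t ht) At Ct ti huA)

/-- a diagram `Y342` -/
theorem TC.exists_pat : ∃ (w : Fi23.Gen → G) (t : G), Pat Fi23.edges D w ∧ t ∈ D ∧ (∀ x, x ≠ .j → w x ∈ Dd D t) ∧
    ¬ Commute t (w .j) := by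
  have hD := S.tg.1
  obtain ⟨a, ha⟩ := S.ne
  have Ua := S.u a ha
  have hnca := S.nc a ha
  have hcma := fun {u v : G} (hu : u ∈ Dd D a) (hv : v ∈ Dd D a) => br_comm hD (e := a) hu hv
  have hnea := fun {u v : G} (hu : u ∈ Dd D a) (hv : v ∈ Dd D a) => br_inj hD hnca hu hv
  obtain ⟨w0, hw0⟩ := Ua.pat
  obtain ⟨y0, E0⟩ := Ua.e8 w0 hw0
  obtain ⟨c, d, e, f, g, j, h, i, E⟩ := E0.lift hD
  obtain ⟨t, ht, b, hb, ntj, ⟨tc, td, te, tf, tg, th, ti⟩, nba, nbc, cbd, cbe, cbf, cbg, cbh, cbi⟩ := S.exists_b ha E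
  have P : Pat Fi22.edges D (w22 a b c d e f g h i) := pat22_of ha E hb.1 nba nbc cbd cbe cbf cbg cbh cbi
  have ta : a ∈ Dd D t := Dd_symm ha ht
  have hm : ∀ x, w22 a b c d e f g h i x ∈ Dd D t := by
    intro x; cases x
    exacts [ta, hb, tc, td, te, tf, tg, th, ti]
  obtain ⟨k, hk, nkt, cka, ckb, ckc, ckd, cke, ckf⟩ := S.exists_j ht.1 P hm
  have mc := E.a.a5.m1; have md := E.a.a5.m2; have me := E.a.a5.m3; have mf := E.a.a5.m4; have mg := E.a.a5.m5
  have mj := E.a.m6; have mh := E.m6; have mi := E.m7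
  have mk' : k ∈ Dd D a := ⟨hk.1, fun h => nkt (h ▸ ht.2.2), cka.symm⟩
  have hda : ∀ {u v : G} (hu : u ∈ Dd D a) (hv : v ∈ Dd D a), u ≠ v → Commute u v → br D a u hu ∈ Dd (QD D a) (br D a v hv) := by
    intro u v hu hv h1 h2
    exact ⟨br_mem _, fun h => h1 ((hnea hu hv).mp h), (hcma hv hu).mpr h2.symm⟩
  have ic : c ≠ i := fun h => E.a.a5.n12 (h ▸ E.c17.symm)
  have id' : d ≠ i := fun h => E.a.a5.n12 (h ▸ E.c07)
  have ie : e ≠ i := fun h => E.a.a5.n34 (h ▸ E.c37.symm)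
  have if' : f ≠ i := fun h => E.a.a5.n34 (h ▸ E.c27)
  have A4' : A4 (Dd (QD D a) (br D a i mi)) (br D a c mc) (br D a d md) (br D a e me) (br D a f mf) :=
    ⟨hda _ _ ic E.c07, hda _ _ id' E.c17, hda _ _ ie E.c27, hda _ _ if' E.c37, fun h => E.a.a5.n12 ((hcma _ _).mp h),
      fun h => E.a.a5.n23 ((hcma _ _).mp h), fun h => E.a.a5.n34 ((hcma _ _).mp h), (hcma _ _).mpr E.a.a5.c13,
      (hcma _ _).mpr E.a.a5.c14, (hcma _ _).mpr E.a.a5.c24⟩
  have hpl := Ua.pl (br D a i mi) (br_mem _) _ _ _ _ (br D a t ht) (br D a j mj) (br D a k mk') A4'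
    (hda _ _ (fun h => E.n67 (h ▸ th.2.2).symm) ti.2.2) (hda _ _ (fun h => ntj (h ▸ ti.2.2)) E.c57)
    (hda _ _ hk.2.1 hk.2.2.symm) ((hcma _ _).mpr tc.2.2) ((hcma _ _).mpr td.2.2) ((hcma _ _).mpr te.2.2) ((hcma _ _).mpr tf.2.2)
    ((hcma _ _).mpr E.a.c16.symm) ((hcma _ _).mpr E.a.c26.symm) ((hcma _ _).mpr E.a.c36.symm) ((hcma _ _).mpr E.a.c46.symm)
    ((hcma _ _).mpr ckc) ((hcma _ _).mpr ckd) ((hcma _ _).mpr cke) ((hcma _ _).mpr ckf) (fun h => ntj ((hcma _ _).mp h))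
  have cjb : Commute j b := by
    rcases plane_lift S ha ht mj mk' hpl with h1 | h1 | h1
    · exact absurd (h1 ▸ Commute.refl k : Commute k t) nkt
    · exact h1 ▸ ckb
    · rw [h1]
      exact (hb.2.2.mul_left ckb).mul_left hb.2.2
  refine ⟨w23 a b c d e f g j h i, t, pat23_of P mj.1 E.a.n56 mj.2.2.symm cjb E.a.c16.symm E.a.c26.symm E.a.c36.symm E.a.c46.symm
    E.c56 E.c57, ht.1, ?_, ntj⟩
  intro x hx
  cases x
  exacts [ta, hb, tc, td, te, tf, tg, absurd rfl hx, th, ti]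

end

/-- a diagram with the two relations gives an embedding -/
theorem hom23 {G : Type*} [Group G] {D : Set G} (hD : IsThreeTranspositionSet D) {w : Fi23.Gen → G} (hw : Pat Fi23.edges D w)
    (r1 : (w .d * w .c * w .b * w .d * w .e * w .f * w .d * w .h * w .i) ^ 10 = 1)
    (r2 : (w .a * w .b * w .c * w .d * w .e * w .f * w .h) ^ 9 = 1) :
    ∃ e : Spor.Fi23 →* G, Function.Injective e ∧ ∀ x, e (PresentedGroup.of x) = w x := by
  obtain ⟨φ, hφ⟩ := exists_hom (w := w) (edges := Fi23.edges) Fi23.extra (hw.cox hD lab23 lab23_one) (by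
    intro r hr
    simp only [Fi23.extra, List.mem_cons, List.not_mem_nil, or_false] at hr
    rcases hr with rfl | rfl
    · simpa [map_pow, map_mul] using r1
    · simpa [map_pow, map_mul] using r2)
  refine ⟨φ, ?_, hφ⟩
  rcases Fi23Ord.main.1.eq_bot_or_eq_top_of_normal φ.ker inferInstance with h | h
  · exact (MonoidHom.ker_eq_bot_iff φ).1 h
  · exfalso
    have h1 : φ (PresentedGroup.of Fi23.Gen.a) = 1 := by
      rw [← MonoidHom.mem_ker, h]; trivial
    rw [hφ] at h1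
    have := (hD.1 _ (hw.mem .a))
    rw [h1] at this
    simp at this

theorem TC.iso [Finite G] (S : TC D) {w : Fi23.Gen → G} {t : G} (hw : Pat Fi23.edges D w) (ht : t ∈ D)
    (hm : ∀ x, x ≠ .j → w x ∈ Dd D t) (hj : ¬ Commute t (w .j)) :
    ∃ e : Spor.Fi23 →* G, Function.Injective e ∧ ∀ x, e (PresentedGroup.of x) = w x := by
  have hD := S.tg.1
  have Ut := S.u t ht
  have hm' : ∀ x : Fi22.Gen, w (res23 x) ∈ Dd D t := by
    intro x
    apply hm
    cases x <;> decide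
  have P : Pat Fi22.edges D (fun x => w (res23 x)) :=
    ⟨fun x => hw.mem _, fun x y h => hw.com _ _ ((res23_lab x y).trans h), fun x y h => hw.nc _ _ ((res23_lab x y).trans h)⟩
  have P' := P.br hD hm'
  have ma := mem_HH (hm' .a); have mb := mem_HH (hm' .b); have mc := mem_HH (hm' .c); have md := mem_HH (hm' .d)
  have me := mem_HH (hm' .e); have mf := mem_HH (hm' .f); have mg := mem_HH (hm' .g); have mh := mem_HH (hm' .h)
  have mi := mem_HH (hm' .i)
  have ja : Commute (w .a) (w .j) := hw.com _ _ (by decide)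
  have jb : Commute (w .b) (w .j) := hw.com _ _ (by decide)
  have jc : Commute (w .c) (w .j) := hw.com _ _ (by decide)
  have jd : Commute (w .d) (w .j) := hw.com _ _ (by decide)
  have je : Commute (w .e) (w .j) := hw.com _ _ (by decide)
  have jf : Commute (w .f) (w .j) := hw.com _ _ (by decide)
  have jh : Commute (w .h) (w .j) := hw.com _ _ (by decide)
  have ji : Commute (w .i) (w .j) := hw.com _ _ (by decide)
  have key : ∀ (X : HH D t), (QuotientGroup.mk X : QQ D t) = 1 → Commute (X : G) (w .j) → (X : G) = 1 := by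
    intro X hX hc
    rw [QuotientGroup.eq_one_iff, mem_center_HH] at hX
    rcases S.cc t ht X hX with h | h
    · exact h
    · exfalso; rw [h] at hc; exact hj hc
  refine hom23 hD hw ?_ ?_
  · have h1 := Ut.t.rel_spider Ut.a7 P'
    have h2 : (QuotientGroup.mk (((⟨w .d, md⟩ : HH D t) * (⟨w .c, mc⟩ : HH D t) * (⟨w .b, mb⟩ : HH D t) * (⟨w .d, md⟩ : HH D t) *
      (⟨w .e, me⟩ : HH D t) * (⟨w .f, mf⟩ : HH D t) * (⟨w .d, md⟩ : HH D t) * (⟨w .h, mh⟩ : HH D t) * (⟨w .i, mi⟩ : HH D t)) ^ 10) :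
      QQ D t) = 1 := h1
    refine key _ h2 ?_
    apply Commute.pow_left
    exact ((((((((jd.mul_left jc).mul_left jb).mul_left jd).mul_left je).mul_left jf).mul_left jd).mul_left jh).mul_left ji)
  · have h1 := Ut.t.rel_e7 Ut.a7 P'
    have h2 : (QuotientGroup.mk (((⟨w .a, ma⟩ : HH D t) * (⟨w .b, mb⟩ : HH D t) * (⟨w .c, mc⟩ : HH D t) * (⟨w .d, md⟩ : HH D t) *
      (⟨w .e, me⟩ : HH D t) * (⟨w .f, mf⟩ : HH D t) * (⟨w .h, mh⟩ : HH D t)) ^ 9) : QQ D t) = 1 := h1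
    refine key _ h2 ?_
    apply Commute.pow_left
    exact ((((((ja.mul_left jb).mul_left jc).mul_left jd).mul_left je).mul_left jf).mul_left jh)

/-- an embedding of `Fi23` -/
theorem TC.exists_hom [Finite G] (S : TC D) : ∃ e : Spor.Fi23 →* G, Function.Injective e ∧ ∀ x, e (PresentedGroup.of x) ∈ D := by
  obtain ⟨w, t, hw, ht, hm, hj⟩ := S.exists_pat
  obtain ⟨e, hi, he⟩ := S.iso hw ht hm hj
  exact ⟨e, hi, fun x => by rw [he]; exact hw.mem x⟩

end

end Cfsg.Agent.Lib.FiUniqC
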