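import Mathlib
import Cfsg.Agent.Lib.M23D
import Cfsg.Agent.Lib.M22Z

/-!
# Simple groups of order 10200960, part E: the action on 23 points (helper7)
-/

set_option autoImplicit false
set_option linter.all false

namespace Cfsg.Agent.Lib.M23N

open Subgroup Cfsg Cfsg.Agent.Lib.CharBasic Cfsg.Agent.Lib.ColTools Cfsg.Agent.Lib.SmallSimple
  Cfsg.Agent.Lib.PBlock Cfsg.Agent.Lib.QBlk Cfsg.Agent.Lib.SqSplit
open Cfsg.Agent.Lib.M22N (int_of_unique)
open scoped ComplexConjugate

universe u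

variable {G : Type u} [Group G] [Finite G] [IsSimpleGroup G]
variable {x z x' : G} {A : Fin 4 → IrrCharacter G} {m : Fin 4 → ℤ} {Y : IrrCharacter G} {a : ℤ}
  {A' : Fin 10 → IrrCharacter G} {m' : Fin 10 → ℤ} {Y' : IrrCharacter G} {a' : ℤ}

theorem small {f : IrrCharacter G → ℕ} {T : ℕ} (hT : ∑ ψ, f ψ * deg ψ = T) {ψ : IrrCharacter G} (h : T < deg ψ) : f ψ = 0 := by
  have h1 := Cfsg.Agent.Lib.M22N.list_le (f := fun ψ => f ψ * deg ψ) (List.nodup_singleton ψ)
  simp only [List.map_cons, List.map_nil, List.sum_cons, List.sum_nil, add_zero] at h1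
  rw [hT] at h1
  by_contra h0
  have : deg ψ ≤ f ψ * deg ψ := Nat.le_mul_of_pos_left _ (Nat.pos_of_ne_zero h0)
  omega

theorem key (B : B11 x z A m Y a) (B' : B23 x' z A' m' Y' a') {j : Fin 10}
    (hj : (Finset.univ.filter (fun i => deg (A' i) = 22)) = {j}) (f : IrrCharacter G → ℕ) {T : ℕ} (hT : ∑ ψ, f ψ * deg ψ = T) (hT' : T ≤ 253)
    {s r : ℤ} (hs : ∑ ψ : IrrCharacter G, (f ψ : ℂ) * (ψ : G → ℂ) x' = s) (hr : ∑ ψ : IrrCharacter G, (f ψ : ℂ) * (ψ : G → ℂ) x = r) :
    ∃ N45 N231 : ℕ, s = f (triv G) - f (A' j) - N45 + N231 ∧ f (triv G) + 230 * f (A 2) + 22 * f (A' j) + 45 * N45 + 231 * N231 ≤ T ∧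
      r = f (triv G) + f (A 0) + f (A 1) - f (A 2) ∧ N231 = ∑ i ∈ Finset.univ.filter (fun i => deg (A' i) = 231), f (A' i) := by
  classical
  have hmaps : ∀ i ∈ (Finset.univ : Finset (Fin 10)), deg (A' i) ∈ ({22, 45, 231, 896, 990} : Finset ℕ) := by
    intro i _
    simp only [Finset.mem_insert, Finset.mem_singleton]
    rcases B'.cases i with h | h | h | h | h <;> simp [h.1]
  obtain ⟨N, hN⟩ : ∃ N : ℕ → ℕ, ∀ d, N d = ∑ i ∈ Finset.univ.filter (fun i => deg (A' i) = d), f (A' i) := ⟨_, fun _ => rfl⟩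
  have hN22 : N 22 = f (A' j) := by rw [hN, hj, Finset.sum_singleton]
  have e1 : ∑ i, f (A' i) * deg (A' i) = 22 * N 22 + (45 * N 45 + (231 * N 231 + (896 * N 896 + 990 * N 990))) := by
    rw [← Finset.sum_fiberwise_of_maps_to hmaps, Finset.sum_insert (by decide), Finset.sum_insert (by decide), Finset.sum_insert (by decide),
      Finset.sum_insert (by decide), Finset.sum_singleton]
    have : ∀ d, ∑ i ∈ Finset.univ.filter (fun i => deg (A' i) = d), f (A' i) * deg (A' i) = d * N d := by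
      intro d
      rw [hN, Finset.mul_sum]
      refine Finset.sum_congr rfl fun i hi => ?_
      rw [(Finset.mem_filter.1 hi).2, mul_comm]
    rw [this, this, this, this, this]
  have hsg : ∀ i, m' i = (if deg (A' i) = 231 ∨ deg (A' i) = 990 then 1 else -1) := by
    intro i
    rcases B'.cases i with h | h | h | h | h
    · rw [h.2.1, h.1, if_neg (by norm_num)]
    · rw [h.2, h.1, if_pos (by norm_num)]
    · rw [h.2, h.1, if_pos (by norm_num)]
    · rw [h.2, h.1, if_neg (by norm_num)]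
    · rw [h.2, h.1, if_neg (by norm_num)]
  have e2 : ∑ i, (f (A' i) : ℤ) * m' i = -N 22 + (-N 45 + (N 231 + (-N 896 + N 990))) := by
    rw [← Finset.sum_fiberwise_of_maps_to hmaps, Finset.sum_insert (by decide), Finset.sum_insert (by decide), Finset.sum_insert (by decide),
      Finset.sum_insert (by decide), Finset.sum_singleton]
    have : ∀ d, ∑ i ∈ Finset.univ.filter (fun i => deg (A' i) = d), (f (A' i) : ℤ) * m' i = (if d = 231 ∨ d = 990 then 1 else -1) * N d := by
      intro d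
      rw [hN]
      push_cast
      rw [Finset.mul_sum]
      refine Finset.sum_congr rfl fun i hi => ?_
      rw [hsg, (Finset.mem_filter.1 hi).2, mul_comm]
    rw [this, this, this, this, this]
    norm_num
  -- large characters do not occur
  have z1 : f Y' = 0 := small hT (by rw [B'.dY]; omega)
  have z2 : f (cc Y') = 0 := small hT (by rw [deg_cc, B'.dY]; omega)
  have z3 : f Y = 0 := small hT (by rw [B.dY]; omega)
  have z4 : f (cc Y) = 0 := small hT (by rw [deg_cc, B.dY]; omega)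
  have z5 : f (A 3) = 0 := small hT (by rw [B.d3]; omega)
  have z6 : N 896 = 0 := by
    rw [hN]
    exact Finset.sum_eq_zero fun i hi => small hT (by rw [(Finset.mem_filter.1 hi).2]; omega)
  have z7 : N 990 = 0 := by
    rw [hN]
    exact Finset.sum_eq_zero fun i hi => small hT (by rw [(Finset.mem_filter.1 hi).2]; omega)
  rw [z6, z7] at e1 e2
  have hnd : (triv G :: A 2 :: List.ofFn A').Nodup := by
    have d2 : ∀ i, A 2 ≠ A' i := by
      intro i h
      apply B'.b.not_dvd (by norm_num) i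
      rw [← h, B.d2]; norm_num
    simp only [List.nodup_cons, List.mem_cons, List.mem_ofFn, not_or, not_exists]
    exact ⟨⟨(B.b.At 2).symm, fun i h => B'.b.At i h⟩, fun i h => d2 i h.symm, List.nodup_ofFn.2 B'.b.inj⟩
  have hl := Cfsg.Agent.Lib.M22N.list_le (f := fun ψ => f ψ * deg ψ) hnd
  simp only [List.map_cons, List.sum_cons, List.map_ofFn, List.sum_ofFn, Function.comp] at hl
  rw [hT, e1, deg_triv, B.d2, hN22] at hl
  refine ⟨N 45, N 231, ?_, by omega, ?_, hN 231⟩
  · rw [B'.b.sum (f := fun ψ => (f ψ : ℂ) * (ψ : G → ℂ) x') (fun χ i1 i2 i3 i4 => by rw [(B'.b.out χ i1 i2 i3 i4).1, mul_zero]), z1, z2, triv_apply] at hs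
    have e3 : ∑ i, (f (A' i) : ℂ) * (A' i : G → ℂ) x' = ((∑ i, (f (A' i) : ℤ) * m' i : ℤ) : ℂ) := by
      push_cast
      exact Finset.sum_congr rfl fun i _ => by rw [(B'.b.vA i).1]
    rw [e3, e2, hN22] at hs
    have : ((f (triv G) - f (A' j) - N 45 + N 231 : ℤ) : ℂ) = (s : ℂ) := by
      rw [← hs]; push_cast; ring
    exact (by exact_mod_cast this.symm)
  · rw [B.b.sum (f := fun ψ => (f ψ : ℂ) * (ψ : G → ℂ) x) (fun χ i1 i2 i3 i4 => by rw [(B.b.out χ i1 i2 i3 i4).1, mul_zero]), z3, z4, triv_apply,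
      Fin.sum_univ_four, z5, (B.b.vA 0).1, (B.b.vA 1).1, (B.b.vA 2).1, B.m0, B.m1, B.m2] at hr
    have : ((f (triv G) + f (A 0) + f (A 1) - f (A 2) : ℤ) : ℂ) = (r : ℂ) := by
      rw [← hr]; push_cast; ring
    exact (by exact_mod_cast this.symm)

theorem two_ne : ((2 : ℕ) : ZMod 23) ≠ 0 := by decide
theorem two_sq : IsSquare ((2 : ℕ) : ZMod 23) := ⟨5, by decide⟩

theorem exists_act (H : H23 G) : ∃ χ : IrrCharacter G, χ ≠ triv G ∧ deg χ = 22 ∧ (∃ V : G → ℤ, ∀ g, (χ : G → ℂ) g = V g) ∧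
    ∃ (Ω : Type) (_ : Fintype Ω) (_ : MulAction G Ω), Fintype.card Ω = 23 ∧ ∀ g : G, (Nat.card {ω : Ω // g • ω = ω} : ℂ) = 1 + (χ : G → ℂ) g := by
  classical
  have hfin := Fintype.ofFinite G
  obtain ⟨P, z, hP, hz, hzC, hf⟩ := H.inv
  obtain ⟨x, hx⟩ := H.elt (p := 11) (by norm_num) (by norm_num)
  obtain ⟨x', hx'⟩ := H.elt (p := 23) (by norm_num) (by norm_num)
  obtain ⟨A, m, Y, a, b⟩ := H.qb11 hx
  obtain ⟨A', m', Y', a', b'⟩ := H.qb23 hx'
  have B := exists_b11 H hP hz hzC hf hx b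
  have B' := exists_b23 H hP hz hzC hf B hx' b'
  obtain ⟨j, hj⟩ := Finset.card_eq_one.1 B'.cnt
  have hj' : deg (A' j) = 22 := by
    have : j ∈ (Finset.univ.filter (fun i => deg (A' i) = 22)) := by rw [hj]; exact Finset.mem_singleton_self j
    exact (Finset.mem_filter.1 this).2
  have huniq : ∀ ψ : IrrCharacter G, deg ψ = deg (A' j) → ψ = A' j := by
    intro ψ hψ
    rw [hj'] at hψ
    by_contra hne
    have h1 : ψ ≠ triv G := by rintro rfl; rw [deg_triv] at hψ; norm_num at hψ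
    have h2 : ψ ≠ Y' := by rintro rfl; rw [B'.dY] at hψ; norm_num at hψ
    have h3 : ψ ≠ cc Y' := by rintro rfl; rw [deg_cc, B'.dY] at hψ; norm_num at hψ
    have h4 := (b'.out ψ h1 (fun i hi => by
      have : i ∈ (Finset.univ.filter (fun i => deg (A' i) = 22)) := Finset.mem_filter.2 ⟨Finset.mem_univ _, by rw [← hi]; exact hψ⟩
      rw [hj, Finset.mem_singleton] at this
      exact hne (by rw [hi, this])) h2 h3).2.2
    rw [hψ] at h4
    norm_num at h4
  choose V hV using fun g => int_of_unique (A' j) huniq g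
  have hjc : m' j = -1 ∧ (A' j : G → ℂ) z = 6 := by
    rcases B'.cases j with h | h | h | h | h
    · exact ⟨h.2.1, h.2.2⟩
    all_goals
      have h5 := h.1
      rw [hj'] at h5
      norm_num at h5
  have vx' : (A' j : G → ℂ) x' = -1 := by rw [(b'.vA j).1, hjc.1]; norm_num
  have vxx' : (A' j : G → ℂ) (x' * x') = -1 := by
    have f23 : Fact (Nat.Prime 23) := ⟨by norm_num⟩
    have h1 := (QRConj.qr x' hx' (by norm_num) (by rw [H.n23 x' hx']) (H.c23 hx')).1 2 two_ne two_sq
    have h2 := Cfsg.Agent.Lib.M22N.apply_isConj (A' j) h1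
    rw [pow_two] at h2
    rw [h2, vx']
  have hn11 : ¬ 11 ^ (1 + 1) ∣ Nat.card G := by rw [H.card]; norm_num
  have vx : (A' j : G → ℂ) x = 0 := vanish (A' j) 11 1 (by norm_num) hn11 (by rw [hj']; norm_num) x (by rw [hx])
  have vxx : (A' j : G → ℂ) (x * x) = 0 := by
    apply vanish (A' j) 11 1 (by norm_num) hn11 (by rw [hj']; norm_num)
    have : orderOf (x * x) = 11 := by
      rw [← pow_two, orderOf_pow, hx]; norm_num
    rw [this]
  have hz2 : z * z = 1 := by rw [← pow_two, ← hz]; exact pow_orderOf_eq_one z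
  have vz := hjc.2
  obtain ⟨μ, ν, S⟩ := exists_split (A' j)
  have h1 := S.triv hV
  -- degrees
  have k1 : ∑ ψ, ν ψ * deg ψ = 231 := by
    have e1 := S.eν 1
    simp only [mul_one, apply_one] at e1
    rw [hj'] at e1
    have : ((∑ ψ, ν ψ * deg ψ : ℕ) : ℂ) = ((231 : ℕ) : ℂ) := by
      push_cast; rw [← e1]; norm_num
    exact_mod_cast this
  have k2 : ∑ ψ, μ ψ * deg ψ = 253 := by
    have e2 := S.eμ 1
    simp only [mul_one, apply_one] at e2
    rw [hj'] at e2
    have : ((∑ ψ, μ ψ * deg ψ : ℕ) : ℂ) = ((253 : ℕ) : ℂ) := by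
      push_cast; rw [← e2]; norm_num
    exact_mod_cast this
  obtain ⟨N45, N231, s1, s2, s3, s4⟩ := key B B' hj ν k1 (by norm_num) (s := 1) (r := 0)
    (by rw [← S.eν, vx', vxx']; norm_num) (by rw [← S.eν, vx, vxx]; norm_num)
  obtain ⟨M45, M231, t1, t2, t3, t4⟩ := key B B' hj μ k2 (by norm_num) (s := 0) (r := 0)
    (by rw [← S.eμ, vx', vxx']; norm_num) (by rw [← S.eμ, vx, vxx]; norm_num)
  -- the Frobenius-Schur type
  have hν0 : ν (triv G) = 0 := by
    by_contra h0
    have hν1 : ν (triv G) = 1 := by omega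
    have hA2 : ν (A 2) = 1 := by omega
    have e3 := S.eν z
    have hle : ∀ ψ, ψ ≠ triv G → ψ ≠ A 2 → ν ψ = 0 := by
      intro ψ g1 g2
      have hnd : [triv G, A 2, ψ].Nodup := by
        simp only [List.nodup_cons, List.mem_cons, List.mem_singleton, List.not_mem_nil, not_false_eq_true, List.nodup_nil, and_true, not_or, or_false]
        exact ⟨⟨(B.b.At 2).symm, g1.symm⟩, g2.symm⟩
      have hl := Cfsg.Agent.Lib.M22N.list_le (f := fun ψ => ν ψ * deg ψ) hnd
      simp only [List.map_cons, List.map_nil, List.sum_cons, List.sum_nil] at hl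
      rw [k1, hν1, hA2, deg_triv, B.d2] at hl
      have h0 : ν ψ * deg ψ = 0 := by omega
      rcases Nat.mul_eq_zero.1 h0 with h | h
      · exact h
      · exact absurd h (deg_pos ψ).ne'
    have e4 : ∑ ψ : IrrCharacter G, (ν ψ : ℂ) * (ψ : G → ℂ) z = 1 + 22 := by
      rw [← Finset.sum_subset (Finset.subset_univ ({triv G, A 2} : Finset (IrrCharacter G))), Finset.sum_pair (B.b.At 2).symm, hν1, hA2, triv_apply, B.z2]
      · push_cast; ring
      · intro ψ _ hψ
        simp only [Finset.mem_insert, Finset.mem_singleton, not_or] at hψ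
        rw [hle ψ hψ.1 hψ.2]; simp
    rw [e4, vz, hz2, apply_one, hj'] at e3
    norm_num at e3
  have hμ1 : μ (triv G) = 1 := by omega
  have hμj : μ (A' j) = 1 := by omega
  have hνj : ν (A' j) = 0 := by omega
  have hN1 : N231 = 1 := by omega
  obtain ⟨i, hi, hi0⟩ : ∃ i ∈ Finset.univ.filter (fun i => deg (A' i) = 231), ν (A' i) ≠ 0 := by
    by_contra hcon
    push Not at hcon
    rw [Finset.sum_eq_zero hcon] at s4
    omega
  have hi' := (Finset.mem_filter.1 hi).2
  have hi1 : ν (A' i) = 1 := by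
    have := Finset.single_le_sum (f := fun i => ν (A' i)) (fun _ _ => Nat.zero_le _) hi
    rw [← s4, hN1] at this
    have h5 : ν (A' i) ≤ 1 := this
    omega
  have hΛ : ∀ g, ((A' j : G → ℂ) g ^ 2 - (A' j : G → ℂ) (g * g)) / 2 = (A' i : G → ℂ) g := by
    intro g
    rw [S.eν g, Finset.sum_eq_single (A' i)]
    · rw [hi1]; push_cast; ring
    · intro ψ _ hψ
      have hnd : [A' i, ψ].Nodup := by
        simp only [List.nodup_cons, List.mem_singleton, List.not_mem_nil, not_false_eq_true, List.nodup_nil, and_true]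
        exact fun h => hψ h.symm
      have := Cfsg.Agent.Lib.M22N.list_le (f := fun ψ => ν ψ * deg ψ) hnd
      simp only [List.map_cons, List.map_nil, List.sum_cons, List.sum_nil] at this
      rw [k1, hi1, hi'] at this
      have h0 : ν ψ * deg ψ = 0 := by omega
      rcases Nat.mul_eq_zero.1 h0 with h | h
      · rw [h]; push_cast; ring
      · exact absurd h (deg_pos ψ).ne'
    · intro h; exact absurd (Finset.mem_univ _) h
  obtain ⟨Ω, i1, i2, h6, h7⟩ := AlgTrick.alg_trick (A' j).2 (n := 22) (by rw [apply_one, hj']) (by norm_num)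
    (by rw [S.fsInd, hμ1, hν0]; norm_num)
    (by rw [S.sumS hV, hμj]; rw [Nat.cast_one, mul_one]; exact card_ne)
    (by rw [S.sumL hV, hνj]; rw [Nat.cast_zero, mul_zero])
    (sumL2 hV hΛ)
  exact ⟨A' j, b'.At j, hj', ⟨V, hV⟩, Ω, i1, i2, h6, h7⟩

end Cfsg.Agent.Lib.M23N
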