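import Mathlib
import Cfsg.Agent.Lib.M22M
import Cfsg.Agent.Lib.CharBasic2

/-!
# Transitive actions of simple groups of order 443520 on 22 points (helper7)
-/

set_option autoImplicit false
set_option linter.all false

namespace Cfsg.Agent.Lib.M22N

open Subgroup Cfsg Cfsg.Agent.Lib.CharBasic Cfsg.Agent.Lib.ColTools Cfsg.Agent.Lib.SmallSimple
  Cfsg.Agent.Lib.PBlock Cfsg.Agent.Lib.QBlk Cfsg.Agent.Lib.SqSplit Cfsg.Agent.Lib.AlgTrick Cfsg.Agent.Lib.MathieuAct
open scoped ComplexConjugate Classical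

universe u v

variable {G : Type u} [Group G] [Finite G] [IsSimpleGroup G]

variable {c21 c45 c55 c99 c154 c210 c231 c280 c385 : IrrCharacter G}

theorem Tab.perm (T : Tab c21 c45 c55 c99 c154 c210 c231 c280 c385) {Ω : Type v} [Fintype Ω] [MulAction G Ω]
    (hΩ : Fintype.card Ω = 22) (ht : MulAction.IsPretransitive G Ω) (g : G) :
    (Nat.card {ω : Ω // g • ω = ω} : ℂ) = 1 + (c21 : G → ℂ) g := by
  have := Fintype.ofFinite G
  have hπ : IsCharacter G (fun g : G => (Nat.card {ω : Ω // g • ω = ω} : ℂ)) := isCharacter_perm (G := G) (X := Ω)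
  choose n hn using fun ψ : IrrCharacter G => hπ.classInner_nat ψ.2.isCharacter
  have hexp : ∀ g : G, (Nat.card {ω : Ω // g • ω = ω} : ℂ) = ∑ ψ : IrrCharacter G, (n ψ : ℂ) * (ψ : G → ℂ) g := by
    intro g
    have := hπ.isClassFunction.expansion_apply g
    beta_reduce at this
    rw [this]
    apply Finset.sum_congr rfl
    intro ψ _
    rw [hn]
  have hne : Nonempty Ω := Fintype.card_pos_iff.1 (by omega)
  have h1 : n (triv G) = 1 := by
    have h2 := hn (triv G)
    rw [classInner_def] at h2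
    have h3 : ∑ g : G, (Nat.card {ω : Ω // g • ω = ω} : ℂ) * conj ((triv G : G → ℂ) g) = Nat.card G := by
      have h4 := MulAction.sum_card_fixedBy_eq_card_orbits_mul_card_group G Ω
      have h5 : Fintype.card (Quotient (MulAction.orbitRel G Ω)) = 1 := by
        rw [Fintype.card_eq_one_iff_nonempty_unique]
        refine ⟨{ default := Quotient.mk _ hne.some, uniq := ?_ }⟩
        intro q
        induction q using Quotient.inductionOn with
        | h ω => exact Quotient.sound (MulAction.mem_orbit_iff.2 (MulAction.exists_smul_eq G _ _))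
      rw [h5, one_mul, ← Nat.card_eq_fintype_card] at h4
      rw [← h4]
      push_cast
      refine Finset.sum_congr rfl fun g _ => ?_
      rw [triv_apply, map_one, mul_one, Nat.card_eq_fintype_card]
      congr 1
    rw [h3, inv_mul_cancel₀ card_ne] at h2
    exact_mod_cast h2.symm
  have e1 : Nat.card {ω : Ω // (1 : G) • ω = ω} = 22 := by
    rw [← hΩ, ← Nat.card_eq_fintype_card]
    exact Nat.card_congr (Equiv.subtypeUnivEquiv (fun ω => one_smul G ω))
  have hT : ∑ ψ : IrrCharacter G, n ψ * deg ψ = 22 := by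
    have h2 := hexp 1
    simp only [apply_one] at h2
    rw [e1] at h2
    exact_mod_cast h2.symm
  have hz : ∀ ψ : IrrCharacter G, 22 < deg ψ → n ψ = 0 := by
    intro ψ h
    have h4 := Finset.single_le_sum (f := fun ψ : IrrCharacter G => n ψ * deg ψ) (fun _ _ => Nat.zero_le _) (Finset.mem_univ ψ)
    rw [hT] at h4
    by_contra h0
    have : deg ψ ≤ n ψ * deg ψ := Nat.le_mul_of_pos_left _ (Nat.pos_of_ne_zero h0)
    have h5 : n ψ * deg ψ ≤ 22 := h4
    omega
  have g2 : n c45 = 0 := hz _ (by rw [T.d45]; norm_num)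
  have g3 : n (cc c45) = 0 := hz _ (by rw [deg_cc, T.d45]; norm_num)
  have g4 : n c55 = 0 := hz _ (by rw [T.d55]; norm_num)
  have g5 : n c99 = 0 := hz _ (by rw [T.d99]; norm_num)
  have g6 : n c154 = 0 := hz _ (by rw [T.d154]; norm_num)
  have g7 : n c210 = 0 := hz _ (by rw [T.d210]; norm_num)
  have g8 : n c231 = 0 := hz _ (by rw [T.d231]; norm_num)
  have g9 : n c280 = 0 := hz _ (by rw [T.d280]; norm_num)
  have g10 : n (cc c280) = 0 := hz _ (by rw [deg_cc, T.d280]; norm_num)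
  have g11 : n c385 = 0 := hz _ (by rw [T.d385]; norm_num)
  have g1 : n c21 = 1 := by
    rw [T.sum, h1, g2, g3, g4, g5, g6, g7, g8, g9, g10, g11, deg_triv, T.d21] at hT
    omega
  rw [hexp, T.sum, h1, g1, g2, g3, g4, g5, g6, g7, g8, g9, g10, g11, triv_apply]
  push_cast; ring

theorem H22.act22 (H : H22 G) {Ω : Type v} [Fintype Ω] [MulAction G Ω] (hΩ : Fintype.card Ω = 22) (ht : MulAction.IsPretransitive G Ω) :
    MulAction.IsMultiplyPretransitive G Ω 3 ∧ ∀ g : G, g ≠ 1 → 3 ≤ Nat.card {ω : Ω // g • ω = ω} →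
      (orderOf g = 2 ∧ Nat.card {ω : Ω // g • ω = ω} = 6) ∨ (orderOf g = 3 ∧ Nat.card {ω : Ω // g • ω = ω} = 4) := by
  have := Fintype.ofFinite G
  obtain ⟨c21, c45, c55, c99, c154, c210, c231, c280, c385, T⟩ := exists_tab H
  choose V hV using T.int21
  have hπ : ∀ g : G, (Nat.card {ω : Ω // g • ω = ω} : ℤ) = 1 + V g := by
    intro g
    have := T.perm hΩ ht g
    rw [hV] at this
    exact_mod_cast this
  have hm : MulAction.IsMultiplyPretransitive G Ω 3 := by
    apply multiply_of_sum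
    have h1 := T.sum_val H hV (fun v => v ^ 3 - v)
    have h2 : ((∑ g : G, (Nat.card {ω : Ω // g • ω = ω}).descFactorial 3 : ℕ) : ℤ) = (Nat.card G : ℤ) := by
      rw [H.card]
      push_cast
      rw [Finset.sum_congr rfl (fun g _ => (desc3 (Nat.card {ω : Ω // g • ω = ω})))]
      rw [Finset.sum_congr rfl (g := fun g => V g ^ 3 - V g) (fun g _ => by rw [hπ]; ring), h1]
      norm_num
    exact_mod_cast h2
  have hval : ∀ g : G, g ≠ 1 → 2 ≤ V g → (orderOf g = 2 ∧ V g = 5) ∨ (orderOf g = 3 ∧ V g = 3) := by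
    intro g hg hv
    obtain ⟨n1, n2, n3⟩ := T.ty_ne H hV g
    rcases T.ty_val H hV g with ⟨h, h', -⟩ | ⟨h, h', h''⟩ | ⟨h, h', h''⟩ | ⟨h, h', h''⟩ | ⟨h, h', h''⟩ | ⟨h, h', h''⟩ | ⟨h, h', h''⟩ | ⟨h, h', h''⟩ |
        ⟨-, ⟨h, h''⟩ | ⟨h, h''⟩ | ⟨h, h''⟩⟩
    · exact absurd h' hg
    · exact Or.inl ⟨h', h''⟩
    · omega
    · omega
    · omega
    · omega
    · exact Or.inr ⟨T.order3 H hV h, h''⟩
    · omega
    · omega
    · omega
    · exact absurd h n1
  refine ⟨hm, fun g hg h3 => ?_⟩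
  have h1 := hπ g
  have h2 : 2 ≤ V g := by
    have : (3 : ℤ) ≤ (Nat.card {ω : Ω // g • ω = ω} : ℤ) := by exact_mod_cast h3
    omega
  rcases hval g hg h2 with ⟨h4, h5⟩ | ⟨h4, h5⟩
  · left; exact ⟨h4, by omega⟩
  · right; exact ⟨h4, by omega⟩

end Cfsg.Agent.Lib.M22N
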