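import Mathlib
import Cfsg.Agent.Lib.M23E
import Cfsg.Agent.Lib.M23F
import Cfsg.Agent.Lib.M22P
import Cfsg.Agent.Lib.M22ZC

/-!
# Simple groups of order 10200960, part G: the Steiner system (helper7)
-/

set_option autoImplicit false
set_option linter.all false

namespace Cfsg.Agent.Lib.M23N

open Subgroup Cfsg Cfsg.Agent.Lib.CharBasic Cfsg.Agent.Lib.ColTools Cfsg.Agent.Lib.SmallSimple
  Cfsg.Agent.Lib.NseTools Cfsg.Agent.Lib.AlgTrick Cfsg.Agent.Lib.MathieuAct
open Cfsg.Agent.Lib.M22N (primes443520 H22 h22_of_card sylow_elt sylow_card_prime)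
open scoped ComplexConjugate Classical

universe u v

theorem mem_nz {G : Type u} [Group G] [Finite G] (x g : G) : g ∈ normalizer (zpowers x : Set G) ↔ g * x * g⁻¹ ∈ zpowers x := by
  constructor
  · intro h
    exact (mem_set_normalizer_iff.1 h x).1 (mem_zpowers x)
  · intro h
    have h1 : (zpowers x).map (MulAut.conj g).toMonoidHom = zpowers (g * x * g⁻¹) := by
      rw [MonoidHom.map_zpowers]; rfl
    have h2 : (zpowers x).map (MulAut.conj g).toMonoidHom = zpowers x := by
      apply Subgroup.eq_of_le_of_card_ge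
      · rw [h1]; exact zpowers_le.2 h
      · rw [Subgroup.card_map_of_injective (MulAut.conj g).injective]
    rw [mem_normalizer_iff_map_conj_eq]; exact h2

theorem card_nz_sub {G : Type u} [Group G] [Finite G] (K : Subgroup G) (y : K) (h : normalizer (zpowers (y : G) : Set G) ≤ K) :
    Nat.card (normalizer (zpowers y : Set K)) = Nat.card (normalizer (zpowers (y : G) : Set G)) := by
  have key : ∀ k : K, k ∈ normalizer (zpowers y : Set K) ↔ (k : G) ∈ normalizer (zpowers (y : G) : Set G) := by
    intro k
    rw [mem_nz, mem_nz, mem_zpowers_iff, mem_zpowers_iff]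
    constructor
    · rintro ⟨n, hn⟩
      refine ⟨n, ?_⟩
      have := congrArg (fun z : K => (z : G)) hn
      push_cast at this
      exact this
    · rintro ⟨n, hn⟩
      refine ⟨n, ?_⟩
      apply Subtype.ext
      push_cast
      exact hn
  apply Nat.card_congr
  exact
    { toFun := fun k => ⟨(k.1 : G), (key k.1).1 k.2⟩
      invFun := fun g => ⟨⟨g.1, h g.2⟩, (key _).2 g.2⟩
      left_inv := fun k => rfl
      right_inv := fun g => rfl }

variable {G : Type u} [Group G] [Finite G]

/-- the stabilizer of the unique fixed point contains the normalizer -/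
theorem nz_le_stab {Ω : Type v} [Fintype Ω] [MulAction G Ω] {x : G} {ω : Ω} (hω : x • ω = ω) (h1 : Nat.card {ω : Ω // x • ω = ω} = 1) :
    normalizer (zpowers x : Set G) ≤ MulAction.stabilizer G ω := by
  intro g hg
  rw [MulAction.mem_stabilizer_iff]
  have h2 : g⁻¹ * x * g ∈ zpowers x := by
    have := (mem_nz x g⁻¹).1 (inv_mem hg)
    rwa [inv_inv] at this
  have h3 : (g⁻¹ * x * g) • ω = ω := by
    have : zpowers x ≤ MulAction.stabilizer G ω := by
      rw [zpowers_le]; exact hω
    exact this h2
  have h4 : x • (g • ω) = g • ω := by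
    have : x • (g • ω) = g • ((g⁻¹ * x * g) • ω) := by
      rw [smul_smul, smul_smul]; congr 1; group
    rw [this, h3]
  have hs := (Nat.card_eq_one_iff_unique.1 h1).1
  have := hs.elim ⟨g • ω, h4⟩ ⟨ω, hω⟩
  exact congrArg Subtype.val this

/-- a p-element normalizing a subgroup of prime order q centralizes it if p does not divide q-1 -/
theorem not_dvd_norm {p q : ℕ} [hp : Fact p.Prime] [hq : Fact q.Prime] (hpq : ¬ p ∣ q - 1) (hne : p ≠ q)
    (hc : ∀ x : G, orderOf x = p → Nat.card (centralizer ({x} : Set G)) = p) (Q : Subgroup G) (hQ : Nat.card Q = q) :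
    ¬ p ∣ Nat.card (normalizer (Q : Set G)) := by
  intro hd
  obtain ⟨y, hy⟩ := exists_prime_orderOf_dvd_card' (G := normalizer (Q : Set G)) p hd
  have hy' : orderOf (y : G) = p := by rw [Subgroup.orderOf_coe, hy]
  -- the action on Q
  let A : Subgroup G := zpowers (y : G)
  have hA : Nat.card A = p := by rw [Nat.card_zpowers, hy']
  have hyn : ∀ g ∈ Q, (y : G) * g * (y : G)⁻¹ ∈ Q := fun g hg => (mem_set_normalizer_iff.1 y.2 g).1 hg
  let f : MulAut Q := (Subgroup.normalizerMonoidHom Q) y
  have hf : ∀ g : Q, ((f g : Q) : G) = (y : G) * g * (y : G)⁻¹ := fun g => rfl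
  have hfp : f ^ p = 1 := by
    show ((Subgroup.normalizerMonoidHom Q) y) ^ p = 1
    rw [← map_pow, ← hy, pow_orderOf_eq_one, map_one]
  have hcard : Nat.card (MulAut Q) = q - 1 := by
    have hcyc : IsCyclic Q := isCyclic_of_prime_card hQ
    rw [Nat.card_congr (IsCyclic.mulAutMulEquiv Q).toEquiv, hQ, Nat.card_eq_fintype_card, ZMod.card_units_eq_totient, Nat.totient_prime hq.out]
  have hfin : Finite (MulAut Q) := inferInstance
  have hf1 : f = 1 := by
    have h1 : orderOf f ∣ p := orderOf_dvd_of_pow_eq_one hfp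
    have h2 : orderOf f ∣ q - 1 := by rw [← hcard]; exact orderOf_dvd_natCard f
    rcases (Nat.dvd_prime hp.out).1 h1 with h | h
    · exact orderOf_eq_one_iff.1 h
    · rw [h] at h2; exact absurd h2 hpq
  have hle : Q ≤ centralizer ({(y : G)} : Set G) := by
    intro g hg
    rw [mem_centralizer_singleton_iff]
    have h1 := hf ⟨g, hg⟩
    rw [hf1] at h1
    have h2 : g = (y : G) * g * (y : G)⁻¹ := h1
    have h3 := congrArg (fun z => z * (y : G)) h2
    simp only [inv_mul_cancel_right] at h3
    exact h3
  have h2 := Subgroup.card_dvd_of_le hle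
  rw [hQ, hc _ hy'] at h2
  exact hne ((Nat.prime_dvd_prime_iff_eq hq.out hp.out).1 h2).symm

theorem card_cent_sub {K : Subgroup G} {p : ℕ} (hp : p.Prime) {x : K} (hx : orderOf x = p) (h1 : Nat.card (centralizer ({(x : G)} : Set G)) = p) :
    Nat.card (centralizer ({x} : Set K)) = p := by
  have h2 : Nat.card (centralizer ({x} : Set K)) ∣ p := by
    let φ : centralizer ({x} : Set K) →* centralizer ({(x : G)} : Set G) :=
      { toFun := fun k => (⟨((k : K) : G), by
          rw [mem_centralizer_singleton_iff]
          have := mem_centralizer_singleton_iff.1 k.2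
          exact congrArg Subtype.val this⟩ : centralizer ({(x : G)} : Set G))
        map_one' := rfl
        map_mul' := fun _ _ => rfl }
    have hinj : Function.Injective φ := by
      intro a b hab
      have := congrArg Subtype.val hab
      exact Subtype.ext (Subtype.ext this)
    have := Subgroup.card_dvd_of_injective φ hinj
    rwa [h1] at this
  have h3 : p ∣ Nat.card (centralizer ({x} : Set K)) := by
    have h4 : x ∈ centralizer ({x} : Set K) := by rw [mem_centralizer_singleton_iff]
    have h5 := orderOf_dvd_natCard (⟨x, h4⟩ : centralizer ({x} : Set K))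
    rwa [Subgroup.orderOf_mk, hx] at h5
  exact Nat.dvd_antisymm h2 h3

variable [IsSimpleGroup G]

theorem stab_simple (H : H23 G) {Ω : Type v} [Fintype Ω] [MulAction G Ω] (ω : Ω) (hK : Nat.card (MulAction.stabilizer G ω) = 443520)
    (h11 : ∀ x : G, orderOf x = 11 → Nat.card {ω : Ω // x • ω = ω} = 1) : IsSimpleGroup (MulAction.stabilizer G ω) := by
  have i11 : Fact (Nat.Prime 11) := ⟨by norm_num⟩
  have i5 : Fact (Nat.Prime 5) := ⟨by norm_num⟩
  have hK' := hK
  obtain ⟨K, hKe⟩ : ∃ K : Subgroup G, K = MulAction.stabilizer G ω := ⟨_, rfl⟩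
  rw [← hKe] at hK hK' ⊢
  have c5 : ∀ P : Sylow 5 K, Nat.card P = 5 := sylow_card_prime (by rw [hK]; norm_num) (by rw [hK]; norm_num)
  have c11 : ∀ P : Sylow 11 K, Nat.card P = 11 := sylow_card_prime (by rw [hK]; norm_num) (by rw [hK]; norm_num)
  refine isSimple_of_normalizers (p := 11) (q := 5) (by decide) ?_ c5 ?_ ?_ (by rw [hK]; norm_num)
  · intro P
    have hcyc : IsCyclic (P : Subgroup K) := isCyclic_of_prime_card (c11 P)
    obtain ⟨y, hy⟩ := exists_prime_orderOf_dvd_card' (G := (P : Subgroup K)) 11 (by rw [c11 P])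
    have hy' : orderOf (y : K) = 11 := by rw [Subgroup.orderOf_coe, hy]
    have hy'' : orderOf ((y : K) : G) = 11 := by rw [Subgroup.orderOf_coe, hy']
    have hP : (P : Subgroup K) = zpowers (y : K) := by
      symm
      apply Subgroup.eq_of_le_of_card_ge
      · exact zpowers_le.2 y.2
      · rw [Nat.card_zpowers, hy']; exact (c11 P).le
    rw [hP, card_nz_sub, H.n11 _ hy'']
    have h1 : ((y : K) : G) • ω = ω := MulAction.mem_stabilizer_iff.1 (hKe.le (y : K).2)
    exact (nz_le_stab h1 (h11 _ hy'')).trans hKe.ge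
  · intro Q
    have hQ5 : Nat.card (Q : Subgroup K) = 5 := c5 Q
    have hc : ∀ x : K, orderOf x = 11 → Nat.card (centralizer ({x} : Set K)) = 11 := by
      intro x hx
      have hx' : orderOf (x : G) = 11 := by rw [Subgroup.orderOf_coe, hx]
      exact card_cent_sub (by norm_num) hx (H.c11 hx')
    exact not_dvd_norm (G := K) (p := 11) (q := 5) (by norm_num) (by norm_num) hc (Q : Subgroup K) hQ5
  · intro r k hr h11 h5 hk hd
    rw [hK] at hd
    have hr' : r ∣ 443520 := (dvd_pow_self r hk.ne').trans hd
    rcases primes443520 r hr hr' with h | h | h | h | h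
    · subst h
      have h4 : k ≤ 7 := by
        by_contra hk
        have : 2 ^ 8 ∣ 443520 := (pow_dvd_pow 2 (by omega)).trans hd
        revert this; decide
      interval_cases k <;> decide
    · subst h
      have h4 : k ≤ 2 := by
        by_contra hk
        have : 3 ^ 3 ∣ 443520 := (pow_dvd_pow 3 (by omega)).trans hd
        revert this; decide
      interval_cases k <;> decide
    · exact absurd h h5
    · subst h
      have h4 : k ≤ 1 := by
        by_contra hk
        have : 7 ^ 2 ∣ 443520 := (pow_dvd_pow 7 (by omega)).trans hd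
        revert this; decide
      interval_cases k; decide
    · exact absurd h h11

end Cfsg.Agent.Lib.M23N
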