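import Mathlib
import Cfsg.Agent.Lib.M23G
import Cfsg.Agent.Lib.SteinerAut

/-!
# Simple groups of order 10200960, part H: the Steiner system and `M23` (helper7)
-/

set_option autoImplicit false
set_option linter.all false

namespace Cfsg.Agent.Lib.M23N

open Subgroup Cfsg Cfsg.Agent.Lib.CharBasic Cfsg.Agent.Lib.ColTools Cfsg.Agent.Lib.SmallSimple
  Cfsg.Agent.Lib.NseTools Cfsg.Agent.Lib.AlgTrick Cfsg.Agent.Lib.MathieuAct Cfsg.Agent.Lib.SqSplit
open Cfsg.Agent.Lib.M22N (H22 h22_of_card)
open scoped ComplexConjugate Classical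

universe u v

theorem desc2 (n : ℕ) : ((n.descFactorial 2 : ℕ) : ℤ) = n * (n - 1) := by
  rcases n with _ | n
  · simp [Nat.descFactorial]
  · simp only [Nat.descFactorial_succ, Nat.descFactorial_zero, Nat.sub_zero, mul_one]
    have e2 : n + 1 - 1 = n := by omega
    rw [e2]
    push_cast; ring

section gen

variable {G : Type u} [Group G] [Finite G] {Ω : Type v} [Fintype Ω] [MulAction G Ω]

/-- fixed points outside a fixed point -/
theorem fix_ofStab (ω : Ω) (k : MulAction.stabilizer G ω) :
    Nat.card {d : SubMulAction.ofStabilizer G ω // k • d = d} + 1 = Nat.card {d : Ω // (k : G) • d = d} := by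
  have hω : (k : G) • ω = ω := k.2
  have h1 : (Finset.univ.filter fun d : Ω => (k : G) • d = d) = insert ω (Finset.univ.filter fun d : Ω => d ≠ ω ∧ (k : G) • d = d) := by
    ext d
    simp only [Finset.mem_filter, Finset.mem_univ, true_and, Finset.mem_insert]
    constructor
    · intro h
      by_cases hd : d = ω
      · exact Or.inl hd
      · exact Or.inr ⟨hd, h⟩
    · rintro (h | h)
      · rw [h]; exact hω
      · exact h.2
  have h2 : Nat.card {d : Ω // (k : G) • d = d} = (Finset.univ.filter fun d : Ω => (k : G) • d = d).card := by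
    rw [Nat.card_eq_fintype_card, Fintype.card_subtype]
  have h3 : Nat.card {d : SubMulAction.ofStabilizer G ω // k • d = d} = (Finset.univ.filter fun d : Ω => d ≠ ω ∧ (k : G) • d = d).card := by
    rw [← Fintype.card_coe, ← Nat.card_eq_fintype_card]
    apply Nat.card_congr
    refine
      { toFun := fun d => ⟨d.1.1, ?_⟩
        invFun := fun d => ⟨⟨d.1, ?_⟩, ?_⟩
        left_inv := fun d => rfl
        right_inv := fun d => rfl }
    · rw [Finset.mem_filter]
      exact ⟨Finset.mem_univ _, (SubMulAction.mem_ofStabilizer_iff G ω).1 d.1.2, congrArg Subtype.val d.2⟩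
    · exact (SubMulAction.mem_ofStabilizer_iff G ω).2 (Finset.mem_filter.1 d.2).2.1
    · exact Subtype.ext (Finset.mem_filter.1 d.2).2.2
  rw [h2, h3, h1, Finset.card_insert_of_notMem]
  simp

theorem card_ofStab (ω : Ω) : Fintype.card (SubMulAction.ofStabilizer G ω) + 1 = Fintype.card Ω := by
  have h := fix_ofStab ω (1 : MulAction.stabilizer G ω)
  have e1 : Nat.card {d : SubMulAction.ofStabilizer G ω // (1 : MulAction.stabilizer G ω) • d = d} = Fintype.card (SubMulAction.ofStabilizer G ω) := by
    rw [← Nat.card_eq_fintype_card]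
    exact Nat.card_congr (Equiv.subtypeUnivEquiv (fun d => one_smul _ d))
  have e2 : Nat.card {d : Ω // ((1 : MulAction.stabilizer G ω) : G) • d = d} = Fintype.card Ω := by
    rw [← Nat.card_eq_fintype_card]
    exact Nat.card_congr (Equiv.subtypeUnivEquiv (fun d => one_smul G d))
  rw [e1, e2] at h
  exact h

end gen

variable {G : Type u} [Group G] [Finite G] [IsSimpleGroup G]

/-- a simple group with the hypotheses acts on a Steiner system -/
theorem H23.exists_steiner (H : H23 G) : ∃ (Ω : Type) (_ : Fintype Ω) (_ : DecidableEq Ω) (B : Set (Finset Ω)),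
    Fintype.card Ω = 23 ∧ IsSteinerSystem 4 7 B ∧ ∃ φ : G →* setSystemAut B, Function.Injective φ := by
  have := Fintype.ofFinite G
  obtain ⟨χ, hχ1, hd, ⟨V, hV⟩, Ω, i1, i2, hΩ, hfix⟩ := exists_act H
  have hπ : ∀ g : G, (Nat.card {ω : Ω // g • ω = ω} : ℤ) = 1 + V g := by
    intro g
    have := hfix g
    rw [hV] at this
    exact_mod_cast this
  have s1 : ∑ g, V g = 0 := by
    have h1 : classInner (χ : G → ℂ) (triv G : G → ℂ) = 0 := χ.2.classInner_eq_zero (triv G).2 (fun h => hχ1 (Subtype.ext h))
    rw [classInner_def, mul_eq_zero] at h1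
    rcases h1 with h1 | h1
    · exact absurd (inv_eq_zero.1 h1) card_ne
    · have h2 : ((∑ g, V g : ℤ) : ℂ) = 0 := by
        rw [← h1]
        push_cast
        refine Finset.sum_congr rfl fun g _ => ?_
        rw [triv_apply, map_one, mul_one, hV]
      exact_mod_cast h2
  have s2 : ∑ g, V g ^ 2 = Nat.card G := by
    have h1 := χ.2.classInner_self
    rw [classInner_def] at h1
    have h2 : ∑ g : G, (χ : G → ℂ) g * conj ((χ : G → ℂ) g) = Nat.card G := by
      have := card_ne (G := G)
      field_simp at h1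
      exact h1
    have h3 : ((∑ g, V g ^ 2 : ℤ) : ℂ) = ((Nat.card G : ℤ) : ℂ) := by
      push_cast
      rw [← h2]
      refine Finset.sum_congr rfl fun g _ => ?_
      rw [hV, map_intCast]; ring
    exact_mod_cast h3
  have hm2 : MulAction.IsMultiplyPretransitive G Ω 2 := by
    apply multiply_of_sum
    have h2 : ((∑ g : G, (Nat.card {ω : Ω // g • ω = ω}).descFactorial 2 : ℕ) : ℤ) = (Nat.card G : ℤ) := by
      push_cast
      rw [Finset.sum_congr rfl (fun g _ => (desc2 (Nat.card {ω : Ω // g • ω = ω})))]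
      rw [Finset.sum_congr rfl (g := fun g => V g ^ 2 + V g) (fun g _ => by rw [hπ]; ring), Finset.sum_add_distrib, s1, s2, add_zero]
    exact_mod_cast h2
  have hpt : MulAction.IsPretransitive G Ω := MulAction.isPretransitive_of_is_two_pretransitive
  have hn11 : ¬ 11 ^ (1 + 1) ∣ Nat.card G := by rw [H.card]; norm_num
  have h11 : ∀ x : G, orderOf x = 11 → Nat.card {ω : Ω // x • ω = ω} = 1 := by
    intro x hx
    have vx : (χ : G → ℂ) x = 0 := vanish χ 11 1 (by norm_num) hn11 (by rw [hd]; norm_num) x (by rw [hx])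
    have h1 := hfix x
    rw [vx, add_zero] at h1
    exact_mod_cast h1
  have hK : ∀ ω : Ω, Nat.card (MulAction.stabilizer G ω) = 443520 := by
    intro ω
    have h1 : Nat.card (MulAction.orbit G ω) * Nat.card (MulAction.stabilizer G ω) = Nat.card G := by
      rw [Nat.card_congr (MulAction.orbitProdStabilizerEquivGroup G ω).symm, Nat.card_prod]
    rw [MulAction.orbit_eq_univ, Nat.card_univ, Nat.card_eq_fintype_card, hΩ, H.card] at h1
    omega
  have hstab : ∀ ω : Ω, MulAction.IsMultiplyPretransitive (MulAction.stabilizer G ω) (SubMulAction.ofStabilizer G ω) 3 ∧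
      ∀ g : MulAction.stabilizer G ω, g ≠ 1 → 3 ≤ Nat.card {d : SubMulAction.ofStabilizer G ω // g • d = d} →
      (orderOf g = 2 ∧ Nat.card {d : SubMulAction.ofStabilizer G ω // g • d = d} = 6) ∨
      (orderOf g = 3 ∧ Nat.card {d : SubMulAction.ofStabilizer G ω // g • d = d} = 4) := by
    intro ω
    have hs : IsSimpleGroup (MulAction.stabilizer G ω) := stab_simple H ω (hK ω) h11
    have H2 : H22 (MulAction.stabilizer G ω) := h22_of_card (hK ω)
    have hc : Fintype.card (SubMulAction.ofStabilizer G ω) = 22 := by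
      have := card_ofStab (G := G) ω
      omega
    have ht : MulAction.IsPretransitive (MulAction.stabilizer G ω) (SubMulAction.ofStabilizer G ω) := by
      rw [← MulAction.is_one_pretransitive_iff]
      exact SubMulAction.ofStabilizer.isMultiplyPretransitive.1 hm2
    exact H2.act22 hc ht
  have hne : Nonempty Ω := Fintype.card_pos_iff.1 (by omega)
  have hm : MulAction.IsMultiplyPretransitive G Ω 4 :=
    SubMulAction.ofStabilizer.isMultiplyPretransitive.2 (hstab hne.some).1
  have hfx : ∀ g : G, g ≠ 1 → 4 ≤ Nat.card {ω : Ω // g • ω = ω} →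
    (orderOf g = 2 ∧ Nat.card {ω : Ω // g • ω = ω} = 7) ∨ (orderOf g = 3 ∧ Nat.card {ω : Ω // g • ω = ω} = 5) := by
    intro g hg h4
    have hnn : Nonempty {ω : Ω // g • ω = ω} := by
      by_contra hcon
      rw [not_nonempty_iff] at hcon
      rw [Nat.card_of_isEmpty] at h4
      omega
    obtain ⟨ω, hω⟩ := hnn
    have h1 := fix_ofStab ω (⟨g, hω⟩ : MulAction.stabilizer G ω)
    have h1' : Nat.card {d : SubMulAction.ofStabilizer G ω // (⟨g, hω⟩ : MulAction.stabilizer G ω) • d = d} + 1 = Nat.card {d : Ω // g • d = d} := h1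
    have hg1 : (⟨g, hω⟩ : MulAction.stabilizer G ω) ≠ 1 := fun h => hg (congrArg Subtype.val h)
    have h2 := (hstab ω).2 ⟨g, hω⟩ hg1 (by omega)
    have ho : orderOf g = orderOf (⟨g, hω⟩ : MulAction.stabilizer G ω) := Subgroup.orderOf_coe (⟨g, hω⟩ : MulAction.stabilizer G ω)
    rw [← ho] at h2
    rcases h2 with h2 | h2
    · left; exact ⟨h2.1, by omega⟩
    · right; exact ⟨h2.1, by omega⟩
  have hyp : Hyp G Ω 4 := by
    refine ⟨hΩ, fun S hS => ?_, fun g hg h4 => hfx g hg h4⟩
    have h1 := card_fixing hm S hS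
    rw [hΩ, H.card] at h1
    have h2 : Nat.descFactorial 23 4 = 212520 := by decide
    rw [h2] at h1
    omega
  have hfaith : ∀ g : G, (∀ ω : Ω, g • ω = ω) → g = 1 := by
    intro g hg
    by_contra hne
    have h1 : Nat.card {ω : Ω // g • ω = ω} = 23 := by
      rw [← hΩ, ← Nat.card_eq_fintype_card]
      exact Nat.card_congr (Equiv.subtypeUnivEquiv hg)
    have h2 := hfx g hne (by omega)
    omega
  exact ⟨Ω, i1, inferInstance, hyp.B, hΩ, hyp.steiner, hyp.exists_hom hfaith⟩

end Cfsg.Agent.Lib.M23N
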