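import Mathlib
import Cfsg.Agent.Lib.M23H
import Cfsg.Agent.Lib.M22O

/-!
# Simple groups of order 10200960, part I: identification (helper7)
-/

set_option autoImplicit false
set_option linter.all false

namespace Cfsg.Agent.Lib.M23N

open Cfsg Finset Cfsg.Agent.Lib.Golay Cfsg.Agent.Lib.Steiner Cfsg.Agent.Lib.SteinerTransport
open Cfsg.Agent.Lib.S3622 (deriv steiner_deriv notMem_map)
open Cfsg.Agent.Lib.S5824 Cfsg.Agent.Lib.S4723 Cfsg.Agent.Lib.SteinerAut

open scoped Pointwise

universe u

variable {α : Type*} [Fintype α] [DecidableEq α]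

theorem aut23_equiv (hα : Fintype.card α = 23) {B : Set (Finset α)} (hB : IsSteinerSystem 4 7 B) :
    Nonempty (setSystemAut B ≃* MulAction.stabilizer M24 u0) := by
  obtain ⟨C, hC, hCB⟩ := exists_ext hα hB
  obtain ⟨E, hE, hEC⟩ := exists_std_labelled (α := Option α) (by rw [Fintype.card_option, hα]) hC (n := 1) (by norm_num)
    ⟨fun _ => u0, fun i j _ => Subsingleton.elim i j⟩ ⟨fun _ => none, fun i j _ => Subsingleton.elim i j⟩
  have hE0 : E u0 = none := hE 0
  have hE0' : E.symm none = u0 := by rw [← hE0, Equiv.symm_apply_apply]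
  have hEC' : ∀ s : Finset (Option α), s.map E.symm.toEmbedding ∈ octads ↔ s ∈ C := by
    intro s
    rw [← hEC, map_map_symm]
  have hmem : ∀ g ∈ setSystemAut B, (E.trans g.optionCongr).trans E.symm ∈ M24 := by
    intro g hg
    rw [M24_eq_octads]
    have := conj_mem E.symm hEC' (aut_ext hα hC hCB hg)
    rwa [Equiv.symm_symm] at this
  let φ : setSystemAut B →* MulAction.stabilizer M24 u0 :=
    { toFun := fun g => ⟨⟨(E.trans g.1.optionCongr).trans E.symm, hmem g.1 g.2⟩, by
        rw [MulAction.mem_stabilizer_iff]
        show E.symm (g.1.optionCongr (E u0)) = u0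
        rw [hE0, Equiv.optionCongr_apply, Option.map_none, hE0']⟩
      map_one' := by
        apply Subtype.ext
        apply Subtype.ext
        apply Equiv.ext
        intro x
        show E.symm ((1 : Equiv.Perm α).optionCongr (E x)) = x
        have : (1 : Equiv.Perm α).optionCongr = 1 := by
          ext a : 1
          cases a <;> rfl
        rw [this, Equiv.Perm.one_apply, Equiv.symm_apply_apply]
      map_mul' := by
        intro g h
        apply Subtype.ext
        apply Subtype.ext
        apply Equiv.ext
        intro x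
        show E.symm ((g.1 * h.1).optionCongr (E x)) =
          E.symm (g.1.optionCongr (E (E.symm (h.1.optionCongr (E x)))))
        rw [Equiv.apply_symm_apply]
        congr 1
        cases E x <;> rfl }
  have hinj : Function.Injective φ := by
    rw [injective_iff_map_eq_one]
    intro g hg
    apply Subtype.ext
    apply Equiv.ext
    intro a
    have h1 : ∀ x, E.symm (g.1.optionCongr (E x)) = x := by
      intro x
      have := congrArg (fun k : MulAction.stabilizer M24 u0 => (k : M24).1 x) hg
      exact this
    have h2 := h1 (E.symm (some a))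
    rw [Equiv.apply_symm_apply, Equiv.optionCongr_apply, Option.map_some] at h2
    have h3 := E.symm.injective h2
    exact Option.some_injective _ h3
  have hsurj : Function.Surjective φ := by
    rintro ⟨⟨h, hh⟩, hhu⟩
    have hhu' : h u0 = u0 := hhu
    rw [M24_eq_octads] at hh
    have hk := conj_mem E hEC hh
    set k : Equiv.Perm (Option α) := (E.symm.trans h).trans E with hkdef
    have hk0 : k none = none := by
      rw [hkdef, Equiv.trans_apply, Equiv.trans_apply, hE0', hhu', hE0]
    have hg : k.removeNone ∈ setSystemAut B := by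
      rw [mem_aut_iff] at hk ⊢
      intro s
      rw [← hCB, ← hCB, ← up_map k hk0, hk]
    refine ⟨⟨k.removeNone, hg⟩, ?_⟩
    apply Subtype.ext
    apply Subtype.ext
    apply Equiv.ext
    intro x
    show E.symm (k.removeNone.optionCongr (E x)) = h x
    have hko : k.removeNone.optionCongr = k := by
      ext a : 1
      cases a with
      | none => rw [hk0]; rfl
      | some a => rw [Equiv.optionCongr_apply, Option.map_some, S4511.removeNone_spec hk0]
    rw [hko, hkdef, Equiv.trans_apply, Equiv.trans_apply, Equiv.symm_apply_apply, Equiv.symm_apply_apply]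
  have ψ := MulEquiv.ofBijective φ ⟨hinj, hsurj⟩
  exact ⟨ψ⟩

theorem stab_eq : (MulAction.stabilizer M24 u0).map M24.subtype = Spor.M23 := by
  ext g
  rw [Spor.M23, Subgroup.mem_inf, MulAction.mem_stabilizer_iff]
  constructor
  · rintro ⟨k, hk, rfl⟩
    exact ⟨k.2, hk⟩
  · rintro ⟨hg, h3⟩
    exact ⟨⟨g, hg⟩, h3, rfl⟩

theorem stab_equiv : Nonempty (MulAction.stabilizer M24 u0 ≃* Spor.M23) :=
  ⟨(Subgroup.equivMapOfInjective _ _ M24.subtype_injective).trans (MulEquiv.subgroupCongr stab_eq)⟩

theorem card_M23 : Nat.card Spor.M23 = 10200960 := by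
  obtain ⟨e⟩ := stab_equiv
  rw [← Nat.card_congr e.toEquiv, card_stab_one]

theorem simple_M23 : IsSimpleGroup Spor.M23 := by
  obtain ⟨e⟩ := stab_equiv
  exact isSimpleGroup_of_mulEquiv e (M23_simple u0)

/-- a simple group with the hypotheses is `M23` -/
theorem H23.iso {G : Type u} [Group G] [Finite G] [IsSimpleGroup G] (H : H23 G) : Nonempty (G ≃* Spor.M23) := by
  classical
  obtain ⟨Ω, i1, i2, B, hΩ, hB, φ, hφ⟩ := H.exists_steiner
  obtain ⟨e⟩ := aut23_equiv hΩ hB
  obtain ⟨e'⟩ := stab_equiv
  let f : G →* Spor.M23 := (e.trans e').toMonoidHom.comp φ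
  have hf : Function.Injective f := (e.trans e').injective.comp hφ
  have hfin : Finite Spor.M23 := Nat.finite_of_card_ne_zero (by rw [card_M23]; norm_num)
  have hb : Function.Bijective f := (Nat.bijective_iff_injective_and_card f).2 ⟨hf, by rw [H.card, card_M23]⟩
  exact ⟨MulEquiv.ofBijective f hb⟩

end Cfsg.Agent.Lib.M23N
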