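import Mathlib
import Cfsg.Agent.Lib.M23I
import Cfsg.Agent.Lib.NseEleven

/-!
# Simple groups of order 10200960, part J: recognition from Sylow numbers (helper7)
-/

set_option autoImplicit false
set_option linter.all false

namespace Cfsg.Agent.Lib.M23N

open Subgroup Cfsg Cfsg.Agent.Lib.NseTools Cfsg.Agent.Lib.SmallSimple
open Cfsg.Agent.Lib.M22N (sylow_elt cent_cases sylow_card_prime)

universe u

section gen

variable {G : Type u} [Group G] [Finite G]

theorem count_modEq {p : ℕ} [hp : Fact p.Prime] {z : G} (hz : orderOf z = p) (n : ℕ) :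
    Nat.card {g : G // orderOf g = n} ≡ Nat.card {g : centralizer ({z} : Set G) // orderOf g = n} [MOD p] := by
  classical
  have ho : ∀ (h g : G), orderOf (h * g * h⁻¹) = orderOf g := by
    intro h g
    exact orderOf_injective (MulAut.conj h).toMonoidHom (MulAut.conj h).injective g
  letI act : MulAction (zpowers z) {g : G // orderOf g = n} :=
    { smul := fun h g => ⟨(h : G) * g.1 * (h : G)⁻¹, by rw [ho]; exact g.2⟩
      one_smul := by
        intro g
        apply Subtype.ext
        show ((1 : zpowers z) : G) * g.1 * ((1 : zpowers z) : G)⁻¹ = g.1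
        simp
      mul_smul := by
        intro a b g
        apply Subtype.ext
        show ((a * b : zpowers z) : G) * g.1 * ((a * b : zpowers z) : G)⁻¹ = (a : G) * ((b : G) * g.1 * (b : G)⁻¹) * (a : G)⁻¹
        rw [Subgroup.coe_mul]; group }
  have hpg : IsPGroup p (zpowers z) := IsPGroup.of_card (n := 1) (by rw [Nat.card_zpowers, hz, pow_one])
  have h1 := hpg.card_modEq_card_fixedPoints {g : G // orderOf g = n}
  have h2 : Nat.card (MulAction.fixedPoints (zpowers z) {g : G // orderOf g = n}) =
      Nat.card {g : centralizer ({z} : Set G) // orderOf g = n} := by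
    apply Nat.card_congr
    refine
      { toFun := fun g => ⟨⟨g.1.1, ?_⟩, ?_⟩
        invFun := fun g => ⟨⟨g.1.1, ?_⟩, ?_⟩
        left_inv := fun g => rfl
        right_inv := fun g => rfl }
    · rw [mem_centralizer_singleton_iff]
      have h3 : z * g.1.1 * z⁻¹ = g.1.1 := congrArg Subtype.val (g.2 ⟨z, mem_zpowers z⟩)
      calc g.1.1 * z = (z * g.1.1 * z⁻¹) * z := by rw [h3]
        _ = z * g.1.1 := by group
    · rw [Subgroup.orderOf_mk]; exact g.1.2
    · exact (Subgroup.orderOf_coe g.1).trans g.2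
    · rintro ⟨h, hh⟩
      apply Subtype.ext
      show h * g.1.1 * h⁻¹ = g.1.1
      obtain ⟨k, rfl⟩ := mem_zpowers_iff.1 hh
      have h3 : Commute g.1.1 z := mem_centralizer_singleton_iff.1 g.1.2
      have h4 : Commute g.1.1 (z ^ k) := h3.zpow_right k
      rw [← h4.eq, mul_inv_cancel_right]
  rw [h2] at h1
  exact h1

theorem inv_modEq (s : G → Prop) (hs : ∀ g, s g → s g⁻¹) :
    Nat.card {g : G // s g} ≡ Nat.card {g : G // s g ∧ g⁻¹ = g} [MOD 2] := by
  classical
  have := Fintype.ofFinite {g : G // s g}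
  have i2 : Fact (Nat.Prime 2) := ⟨by norm_num⟩
  let f : Function.End {g : G // s g} := fun g => ⟨g.1⁻¹, hs _ g.2⟩
  have hf : f ^ 2 ^ 1 = 1 := by
    funext g
    show f (f g) = g
    exact Subtype.ext (inv_inv g.1)
  have h1 := Equiv.Perm.card_fixedPoints_modEq (n := 1) (p := 2) (f := f) hf
  rw [← Nat.card_eq_fintype_card, ← Nat.card_eq_fintype_card] at h1
  have h2 : Nat.card (Function.fixedPoints f) = Nat.card {g : G // s g ∧ g⁻¹ = g} := by
    apply Nat.card_congr
    exact
      { toFun := fun g => ⟨g.1.1, g.1.2, congrArg Subtype.val g.2⟩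
        invFun := fun g => ⟨⟨g.1, g.2.1⟩, Subtype.ext g.2.2⟩
        left_inv := fun g => rfl
        right_inv := fun g => rfl }
  rw [h2] at h1
  exact h1

theorem orderOf_two_iff {g : G} : orderOf g = 2 ↔ g ≠ 1 ∧ g⁻¹ = g := by
  constructor
  · intro h
    have h1 : g ≠ 1 := by rintro rfl; rw [orderOf_one] at h; norm_num at h
    have h2 : g ^ 2 = 1 := by rw [← h]; exact pow_orderOf_eq_one g
    rw [pow_two] at h2
    exact ⟨h1, inv_eq_of_mul_eq_one_left h2⟩
  · rintro ⟨h1, h2⟩
    have h3 : g ^ 2 = 1 := by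
      rw [pow_two]
      nth_rewrite 1 [← h2]
      exact inv_mul_cancel g
    exact orderOf_eq_prime h3 h1

theorem odd_inv (h : 2 ∣ Nat.card G) : Nat.card {g : G // orderOf g = 2} % 2 = 1 := by
  classical
  have := Fintype.ofFinite G
  have h1 := inv_modEq (fun g : G => g ≠ 1) (fun g hg => by simpa using hg)
  have h2 : Nat.card {g : G // g ≠ 1 ∧ g⁻¹ = g} = Nat.card {g : G // orderOf g = 2} :=
    Nat.card_congr (Equiv.subtypeEquivRight fun g => orderOf_two_iff.symm)
  have h3 : Nat.card {g : G // g ≠ 1} = Nat.card G - 1 := by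
    rw [Nat.card_eq_fintype_card, Nat.card_eq_fintype_card, Fintype.card_subtype_compl, Fintype.card_subtype_eq]
  rw [h2, h3] at h1
  have h4 : 0 < Nat.card G := Nat.card_pos
  have h5 : (Nat.card G - 1) % 2 = Nat.card {g : G // orderOf g = 2} % 2 := h1
  omega

theorem even_count {n : ℕ} (hn : ¬ n ∣ 2) : 2 ∣ Nat.card {g : G // orderOf g = n} := by
  have h1 := inv_modEq (fun g : G => orderOf g = n) (fun g hg => by rw [orderOf_inv]; exact hg)
  have h2 : IsEmpty {g : G // orderOf g = n ∧ g⁻¹ = g} := by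
    refine ⟨fun g => hn ?_⟩
    rw [← g.2.1]
    apply orderOf_dvd_of_pow_eq_one
    rw [pow_two]
    nth_rewrite 1 [← g.2.2]
    exact inv_mul_cancel _
  rw [Nat.card_of_isEmpty (α := {g : G // orderOf g = n ∧ g⁻¹ = g})] at h1
  exact (Nat.modEq_zero_iff_dvd).1 h1

/-- a group of order 14 with a central element of order 7 is cyclic -/
theorem cyc14 (hC : Nat.card G = 14) {x : G} (hx : orderOf x = 7) (hc : ∀ c, c * x = x * c) : IsCyclic G := by
  have i2 : Fact (Nat.Prime 2) := ⟨by norm_num⟩
  obtain ⟨z, hz⟩ := exists_prime_orderOf_dvd_card' (G := G) 2 (by rw [hC]; norm_num)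
  have h1 : orderOf (x * z) = 14 := by
    rw [(show Commute x z from (hc z).symm).orderOf_mul_eq_mul_orderOf_of_coprime (by rw [hx, hz]; norm_num), hx, hz]
  exact isCyclic_of_orderOf_eq_card (x * z) (by rw [h1, hC])

theorem count_cyc [IsCyclic G] {d : ℕ} (hd : d ∣ Nat.card G) : Nat.card {g : G // orderOf g = d} = d.totient := by
  classical
  have := Fintype.ofFinite G
  rw [← IsCyclic.card_orderOf_eq_totient (α := G) (d := d) (by rw [← Nat.card_eq_fintype_card]; exact hd), Nat.card_eq_fintype_card, Fintype.card_subtype]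

theorem unique_inv (hC : Nat.card G = 14) {x : G} (hx : orderOf x = 7) (hc : ∀ c, c * x = x * c) {a b : G} (ha : orderOf a = 2) (hb : orderOf b = 2) :
    a = b := by
  have := cyc14 hC hx hc
  have h1 := count_cyc (G := G) (d := 2) (by rw [hC]; norm_num)
  rw [Nat.totient_two] at h1
  have h2 := (Nat.card_eq_one_iff_unique.1 h1).1
  exact congrArg Subtype.val (h2.elim ⟨a, ha⟩ ⟨b, hb⟩)

theorem cent_eq_cent (x : G) : centralizer ({x} : Set G) = centralizer ((zpowers x : Subgroup G) : Set G) := by
  apply le_antisymm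
  · intro g hg
    rw [mem_centralizer_singleton_iff] at hg
    rw [mem_centralizer_iff]
    intro y hy
    obtain ⟨n, rfl⟩ := mem_zpowers_iff.1 hy
    exact (((Commute.zpow_right (show Commute g x from hg) n))).symm
  · exact centralizer_le (by simp)

theorem syl_norm {N p s n : ℕ} [hp : Fact p.Prime] (hG : Nat.card G = N) (hsq : ¬ p ^ 2 ∣ N)
    (hc : Nat.card (Sylow p G) = s) (hs : 0 < s) (hn : n * s = N) (x : G) (hx : orderOf x = p) :
    Nat.card (normalizer (zpowers x : Set G)) = n := by
  obtain ⟨P, h2, h3, -⟩ := sylow_elt (by rw [hG]; exact hsq) x hx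
  have h4 := card_sylow_mul P
  rw [h3, hG, hc, ← hn, mul_comm] at h4
  exact Nat.eq_of_mul_eq_mul_right hs h4

theorem ar14 (e c : ℕ) (h : 42 = e * (7 * c)) (h1 : e ≠ 1) (h2 : 14 ∣ 7 * c) : 7 * c = 14 := by
  obtain ⟨k, hk⟩ := h2
  have h3 : c = 2 * k := by omega
  subst h3
  have h4 : e * k = 3 := by
    have : 42 = 14 * (e * k) := by rw [h]; ring
    omega
  have h5 : k ∣ 3 := ⟨e, by rw [← h4]; ring⟩
  rcases (Nat.dvd_prime (by norm_num)).1 h5 with h | h
  · subst h; norm_num
  · subst h; exfalso; omega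

theorem cent14 [IsSimpleGroup G] (hna : ¬ IsMulCommutative G) (hsq : ¬ 7 ^ 2 ∣ Nat.card G) {x : G} (hx : orderOf x = 7)
    (hN : Nat.card (normalizer (zpowers x : Set G)) = 42) (h2 : 2 ∣ Nat.card (centralizer ({x} : Set G))) :
    Nat.card (centralizer ({x} : Set G)) = 14 := by
  have i7 : Fact (Nat.Prime 7) := ⟨by norm_num⟩
  obtain ⟨e, c, h4, h5, h6, h7⟩ := cent_cases hna hsq x hx hN
  rw [h5]
  refine ar14 e c h4 h7 ?_
  rw [← h5]
  have h3 : 7 ∣ Nat.card (centralizer ({x} : Set G)) := by rw [h5]; exact Dvd.intro _ rfl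
  exact Nat.Coprime.mul_dvd_of_dvd_of_dvd (by norm_num : Nat.Coprime 2 7) h2 h3

end gen

theorem primes23 (r : ℕ) (hr : r.Prime) (h : r ∣ 10200960) : r = 2 ∨ r = 3 ∨ r = 5 ∨ r = 7 ∨ r = 11 ∨ r = 23 := by
  rw [show 10200960 = 2 ^ 7 * (3 ^ 2 * (5 * (7 * (11 * 23)))) by norm_num, hr.dvd_mul, hr.dvd_mul, hr.dvd_mul, hr.dvd_mul, hr.dvd_mul] at h
  rcases h with h | h | h | h | h | h
  · left; exact (Nat.prime_dvd_prime_iff_eq hr Nat.prime_two).1 (hr.dvd_of_dvd_pow h)
  · right; left; exact (Nat.prime_dvd_prime_iff_eq hr Nat.prime_three).1 (hr.dvd_of_dvd_pow h)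
  · right; right; left; exact (Nat.prime_dvd_prime_iff_eq hr Nat.prime_five).1 h
  · right; right; right; left; exact (Nat.prime_dvd_prime_iff_eq hr (by norm_num)).1 h
  · right; right; right; right; left; exact (Nat.prime_dvd_prime_iff_eq hr (by norm_num)).1 h
  · right; right; right; right; right; exact (Nat.prime_dvd_prime_iff_eq hr (by norm_num)).1 h

theorem simple_of_sylow {G : Type u} [Group G] [Finite G] (hG : Nat.card G = 10200960) (s23 : Nat.card (Sylow 23 G) = 40320)
    (s11 : Nat.card (Sylow 11 G) = 185472) : IsSimpleGroup G := by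
  have i23 : Fact (Nat.Prime 23) := ⟨by norm_num⟩
  have i11 : Fact (Nat.Prime 11) := ⟨by norm_num⟩
  have c11 : ∀ P : Sylow 11 G, Nat.card P = 11 := sylow_card_prime (by rw [hG]; norm_num) (by rw [hG]; norm_num)
  refine isSimple_of_normalizers (p := 23) (q := 11) (by decide) ?_ c11 ?_ ?_ (by rw [hG]; norm_num)
  · intro P
    have h := card_sylow_mul P
    rw [s23, hG] at h
    omega
  · intro Q h23
    have h := card_sylow_mul Q
    rw [s11, hG] at h
    omega
  · intro r k hr h23 h11 hk hd
    rw [hG] at hd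
    have hr' : r ∣ 10200960 := (dvd_pow_self r hk.ne').trans hd
    rcases primes23 r hr hr' with h | h | h | h | h | h
    · subst h
      have h4 : k ≤ 7 := by
        by_contra hk
        have : 2 ^ 8 ∣ 10200960 := (pow_dvd_pow 2 (by omega)).trans hd
        revert this; decide
      interval_cases k <;> decide
    · subst h
      have h4 : k ≤ 2 := by
        by_contra hk
        have : 3 ^ 3 ∣ 10200960 := (pow_dvd_pow 3 (by omega)).trans hd
        revert this; decide
      interval_cases k <;> decide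
    · subst h
      have h4 : k ≤ 1 := by
        by_contra hk
        have : 5 ^ 2 ∣ 10200960 := (pow_dvd_pow 5 (by omega)).trans hd
        revert this; decide
      interval_cases k; decide
    · subst h
      have h4 : k ≤ 1 := by
        by_contra hk
        have : 7 ^ 2 ∣ 10200960 := (pow_dvd_pow 7 (by omega)).trans hd
        revert this; decide
      interval_cases k; decide
    · exact absurd h h11
    · exact absurd h h23

/-- recognition from the Sylow numbers and the number of involutions -/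
theorem iso_of_sylow {G : Type u} [Group G] [Finite G] (hG : Nat.card G = 10200960) (s23 : Nat.card (Sylow 23 G) = 40320)
    (s11 : Nat.card (Sylow 11 G) = 185472) (s7 : Nat.card (Sylow 7 G) = 242880)
    (h2 : IsSimpleGroup G → Nat.card {g : G // orderOf g = 2} % 7 ≠ 0) : Nonempty (G ≃* Spor.M23) := by
  have i23 : Fact (Nat.Prime 23) := ⟨by norm_num⟩
  have i11 : Fact (Nat.Prime 11) := ⟨by norm_num⟩
  have i7 : Fact (Nat.Prime 7) := ⟨by norm_num⟩
  have hs := simple_of_sylow hG s23 s11
  have hna : ¬ IsMulCommutative G := not_isMulCommutative_of_card hG (by norm_num)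
  have hsq7 : ¬ 7 ^ 2 ∣ Nat.card G := by rw [hG]; norm_num
  obtain ⟨x, hx⟩ := exists_prime_orderOf_dvd_card' (G := G) 7 (by rw [hG]; norm_num)
  have hN := syl_norm (n := 42) hG (by norm_num) s7 (by norm_num) (by norm_num) x hx
  have h3 := count_modEq hx 2
  have hne : Nonempty {g : centralizer ({x} : Set G) // orderOf g = 2} := by
    by_contra hcon
    rw [not_nonempty_iff] at hcon
    rw [Nat.card_of_isEmpty (α := {g : centralizer ({x} : Set G) // orderOf g = 2})] at h3
    exact h2 hs h3
  obtain ⟨z, hz⟩ := hne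
  have hd2 : 2 ∣ Nat.card (centralizer ({x} : Set G)) := by rw [← hz]; exact orderOf_dvd_natCard z
  have h14 := cent14 hna hsq7 hx hN hd2
  have hxC : x ∈ centralizer ({x} : Set G) := by rw [mem_centralizer_singleton_iff]
  have H : H23 G := by
    refine ⟨hG, syl_norm hG (by norm_num) s11 (by norm_num) (by norm_num), syl_norm hG (by norm_num) s23 (by norm_num) (by norm_num),
      zpowers x, z, by rw [Nat.card_zpowers, hx], by rw [Subgroup.orderOf_coe, hz], ?_, ?_⟩
    · rw [← cent_eq_cent]; exact z.2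
    · intro a ha hconj
      rw [← cent_eq_cent] at ha
      have ho : orderOf a = 2 := by
        obtain ⟨c, hc⟩ := isConj_iff.1 hconj
        rw [← hc, ← hz, ← Subgroup.orderOf_coe]
        exact orderOf_injective (MulAut.conj c).toMonoidHom (MulAut.conj c).injective _
      have h5 := unique_inv (G := centralizer ({x} : Set G)) h14 (x := ⟨x, hxC⟩) (by rw [Subgroup.orderOf_mk, hx])
        (fun c => Subtype.ext (mem_centralizer_singleton_iff.1 c.2)) (a := ⟨a, ha⟩) (b := z) (by rw [Subgroup.orderOf_mk, ho]) hz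
      exact congrArg Subtype.val h5
  exact H.iso

end Cfsg.Agent.Lib.M23N
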