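import Mathlib
import Cfsg.Agent.Lib.M23J
import Cfsg.Agent.Lib.M22Block
import Cfsg.Agent.Lib.GolayElts

/-!
# Facts about `M23` (helper7)
-/

set_option autoImplicit false
set_option linter.all false

namespace Cfsg.Agent.Lib.M23N

open Cfsg Subgroup Cfsg.Agent.Lib.Golay
open Cfsg.Agent.Lib.GolayFix (Fix mem_Fix)
open Cfsg.Agent.Lib.MathieuFix Cfsg.Agent.Lib.MathieuBlock Cfsg.Agent.Lib.SylowOrd
open Cfsg.Agent.Lib.M22Block (card_Fix_prime)
open Cfsg.Agent.Lib.M22N (sylow_elt)
open scoped Pointwise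

universe u

section gen

variable {G : Type u} [Group G] [Finite G]

theorem cent_le {p : ℕ} [Fact p.Prime] (P Q : Sylow p G) :
    Nat.card (centralizer ((P : Subgroup G) : Set G)) ≤ Nat.card (centralizer ((Q : Subgroup G) : Set G)) := by
  obtain ⟨g, hg⟩ := MulAction.exists_smul_eq G P Q
  have key : ∀ c ∈ centralizer ((P : Subgroup G) : Set G), g * c * g⁻¹ ∈ centralizer ((Q : Subgroup G) : Set G) := by
    intro c hc
    rw [mem_centralizer_iff] at hc ⊢
    intro q hq
    rw [← hg] at hq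
    have h1 : g⁻¹ * q * g ∈ (P : Subgroup G) := by
      have h2 : q ∈ MulAut.conj g • (P : Subgroup G) := hq
      rw [Subgroup.mem_pointwise_smul_iff_inv_smul_mem] at h2
      have h3 : (MulAut.conj g)⁻¹ • q = g⁻¹ * q * g := by
        rw [← map_inv, MulAut.smul_def, MulAut.conj_apply, inv_inv]
      rwa [h3] at h2
    have h2 := hc _ h1
    calc q * (g * c * g⁻¹) = g * ((g⁻¹ * q * g) * c) * g⁻¹ := by group
      _ = g * (c * (g⁻¹ * q * g)) * g⁻¹ := by rw [h2]
      _ = g * c * g⁻¹ * q := by group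
  apply Nat.card_le_card_of_injective (fun c : centralizer ((P : Subgroup G) : Set G) => (⟨g * c * g⁻¹, key c c.2⟩ : centralizer ((Q : Subgroup G) : Set G)))
  intro a b hab
  have h := congrArg Subtype.val hab
  simp only [mul_left_inj, mul_right_inj] at h
  exact Subtype.ext h

theorem cent_card_eq {p : ℕ} [Fact p.Prime] (hsq : ¬ p ^ 2 ∣ Nat.card G) {x y : G} (hx : orderOf x = p) (hy : orderOf y = p) :
    Nat.card (centralizer ({x} : Set G)) = Nat.card (centralizer ({y} : Set G)) := by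
  obtain ⟨P, -, -, h1⟩ := sylow_elt hsq x hx
  obtain ⟨Q, -, -, h2⟩ := sylow_elt hsq y hy
  rw [h1, h2]
  exact le_antisymm (cent_le P Q) (cent_le Q P)

theorem card_14 (h : ∀ x : G, orderOf x = 7 → Nat.card (centralizer ({x} : Set G)) = 14) :
    Nat.card {g : G // orderOf g = 14} = Nat.card {g : G // orderOf g = 7} := by
  have i2 : Fact (Nat.Prime 2) := ⟨by norm_num⟩
  have h8 : ∀ g : G, orderOf g = 14 → orderOf (g ^ 8) = 7 := by
    intro g hg
    rw [orderOf_pow, hg]; norm_num
  have h7 : ∀ g : G, orderOf g = 14 → orderOf (g ^ 7) = 2 := by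
    intro g hg
    rw [orderOf_pow, hg]; norm_num
  apply Nat.card_congr
  apply Equiv.ofBijective (fun g : {g : G // orderOf g = 14} => (⟨g.1 ^ 8, h8 _ g.2⟩ : {g : G // orderOf g = 7}))
  constructor
  · rintro ⟨g, hg⟩ ⟨k, hk⟩ hgk
    have h1 : g ^ 8 = k ^ 8 := congrArg Subtype.val hgk
    obtain ⟨x, hx⟩ : ∃ x, x = g ^ 8 := ⟨_, rfl⟩
    have hx7 : orderOf x = 7 := by rw [hx]; exact h8 g hg
    have g1 : g ^ 7 ∈ centralizer ({x} : Set G) := by
      rw [mem_centralizer_singleton_iff, hx, ← pow_add, ← pow_add]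
    have g2 : k ^ 7 ∈ centralizer ({x} : Set G) := by
      rw [mem_centralizer_singleton_iff, hx, h1, ← pow_add, ← pow_add]
    have g3 : x ∈ centralizer ({x} : Set G) := by rw [mem_centralizer_singleton_iff]
    have h5 := unique_inv (G := centralizer ({x} : Set G)) (h x hx7) (x := ⟨x, g3⟩) (by rw [Subgroup.orderOf_mk, hx7])
        (fun c => Subtype.ext (mem_centralizer_singleton_iff.1 c.2)) (a := ⟨g ^ 7, g1⟩) (b := ⟨k ^ 7, g2⟩)
        (by rw [Subgroup.orderOf_mk]; exact h7 g hg) (by rw [Subgroup.orderOf_mk]; exact h7 k hk)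
    have h6 : g ^ 7 = k ^ 7 := congrArg Subtype.val h5
    apply Subtype.ext
    show g = k
    rw [pow_succ, pow_succ k 7, h6] at h1
    exact mul_left_cancel h1
  · rintro ⟨x, hx⟩
    obtain ⟨z, hz⟩ := exists_prime_orderOf_dvd_card' (G := centralizer ({x} : Set G)) 2 (by rw [h x hx]; norm_num)
    have hz' : orderOf (z : G) = 2 := by rw [Subgroup.orderOf_coe, hz]
    have hc : Commute x (z : G) := (mem_centralizer_singleton_iff.1 z.2).symm
    have ho : orderOf (x * z) = 14 := by
      rw [hc.orderOf_mul_eq_mul_orderOf_of_coprime (by rw [hx, hz']; norm_num), hx, hz']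
    refine ⟨⟨x * z, ho⟩, ?_⟩
    apply Subtype.ext
    show (x * (z : G)) ^ 8 = x
    rw [hc.mul_pow]
    have e1 : x ^ 8 = x := by
      have : x ^ 7 = 1 := by rw [← hx]; exact pow_orderOf_eq_one x
      rw [pow_succ, this, one_mul]
    have e2 : (z : G) ^ 8 = 1 := by
      have : (z : G) ^ 2 = 1 := by rw [← hz']; exact pow_orderOf_eq_one _
      rw [show 8 = 2 * 4 by norm_num, pow_mul, this, one_pow]
    rw [e1, e2, mul_one]

end gen

def c14 : ℕ := 975124197239893159108001757112454222

theorem inM_c14 : inM c14 = true := by decide +kernel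

def pw (n : ℕ) : ℕ := Nat.rec (motive := fun _ => ℕ) c14 (fun _ ih => mulC c14 ih) n

theorem pw_eq (n : ℕ) : valid (pw n) = true ∧ toPerm (pw n) = toPerm c14 ^ (n + 1) := recC_eq (valid_of_inM inM_c14) n

theorem pw13 : pw 13 = cId := by decide +kernel
theorem pw6 : pt (img (pw 6) (ix (pt 9))) ≠ pt 9 := by decide +kernel
theorem pw1 : pt (img (pw 1) (ix (pt 0))) ≠ pt 0 := by decide +kernel
theorem c14_none : pt (img c14 (ix none)) = none := by decide +kernel

theorem o14 : orderOf (toPerm c14) = 14 := by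
  apply orderOf_eq_of_pow_and_pow_div_prime (by norm_num)
  · rw [← (pw_eq 13).2, pw13, toPerm_cId]
  · intro p hp hd
    have hp' : p = 2 ∨ p = 7 := by
      rw [show 14 = 2 * 7 by norm_num, hp.dvd_mul] at hd
      rcases hd with h | h
      · left; exact (Nat.prime_dvd_prime_iff_eq hp (by norm_num)).1 h
      · right; exact (Nat.prime_dvd_prime_iff_eq hp (by norm_num)).1 h
    rcases hp' with rfl | rfl
    · intro h
      have h' : toPerm c14 ^ (6 + 1) = 1 := h
      rw [← (pw_eq 6).2] at h'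
      have h2 := congrArg (fun g : Equiv.Perm GolayPt => g (pt 9)) h'
      have h3 : toPerm (pw 6) (pt 9) = pt 9 := h2
      rw [toPerm_apply (pw_eq 6).1] at h3
      exact pw6 h3
    · intro h
      have h' : toPerm c14 ^ (1 + 1) = 1 := h
      rw [← (pw_eq 1).2] at h'
      have h2 := congrArg (fun g : Equiv.Perm GolayPt => g (pt 0)) h'
      have h3 : toPerm (pw 1) (pt 0) = pt 0 := h2
      rw [toPerm_apply (pw_eq 1).1] at h3
      exact pw1 h3

theorem mem_M23 {g : Equiv.Perm GolayPt} : g ∈ Spor.M23 ↔ g ∈ M24 ∧ g none = none := by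
  rw [Spor.M23, Subgroup.mem_inf, MulAction.mem_stabilizer_iff]
  rfl

theorem M23_le : Spor.M23 ≤ M24 := inf_le_left

instance finM23 : Finite Spor.M23 := Nat.finite_of_card_ne_zero (by rw [card_M23]; norm_num)

theorem exists_14 : ∃ g : Spor.M23, orderOf g = 14 := by
  have h : toPerm c14 ∈ Spor.M23 := by
    rw [mem_M23]
    refine ⟨toPerm_mem_M24 inM_c14, ?_⟩
    rw [toPerm_apply (valid_of_inM inM_c14)]
    exact c14_none
  exact ⟨⟨toPerm c14, h⟩, by rw [Subgroup.orderOf_mk]; exact o14⟩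

theorem F0_fix : ∀ g ∈ Spor.M23, ∀ p ∈ ({none} : Finset GolayPt), g p = p := by
  intro g hg p hp
  rw [Finset.mem_singleton] at hp
  rw [hp]
  exact (mem_M23.1 hg).2

theorem c23_dvd (x : Spor.M23) (hx : orderOf x = 23) : Nat.card (centralizer ({x} : Set Spor.M23)) ∣ 23 * 1 := by
  have i : Fact (Nat.Prime 23) := ⟨by norm_num⟩
  have h1 := card_centralizer_dvd M23_le (by norm_num) hx {none} F0_fix (by rw [Finset.card_singleton]; norm_num)
  have h2 := card_Fix_prime (M23_le x.2) (q := 23) (by rw [Subgroup.orderOf_coe]; exact hx)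
  have h3 : (Fix (x : Equiv.Perm GolayPt)).card = 1 := by omega
  rw [h3] at h1
  exact h1

theorem c11_dvd (x : Spor.M23) (hx : orderOf x = 11) : Nat.card (centralizer ({x} : Set Spor.M23)) ∣ 11 * 2 := by
  have i : Fact (Nat.Prime 11) := ⟨by norm_num⟩
  have h1 := card_centralizer_dvd M23_le (by norm_num) hx {none} F0_fix (by rw [Finset.card_singleton]; norm_num)
  have h2 := card_Fix_prime (M23_le x.2) (q := 11) (by rw [Subgroup.orderOf_coe]; exact hx)
  have h3 : (Fix (x : Equiv.Perm GolayPt)).card = 2 := by omega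
  rw [h3] at h1
  exact h1

theorem c7_dvd (x : Spor.M23) (hx : orderOf x = 7) : Nat.card (centralizer ({x} : Set Spor.M23)) ∣ 7 * 6 := by
  classical
  have i : Fact (Nat.Prime 7) := ⟨by norm_num⟩
  have h2 := card_Fix_prime (M23_le x.2) (q := 7) (by rw [Subgroup.orderOf_coe]; exact hx)
  have h3 : (Fix (x : Equiv.Perm GolayPt)).card = 3 := by omega
  have hn : (none : GolayPt) ∈ Fix (x : Equiv.Perm GolayPt) := mem_Fix.2 (mem_M23.1 x.2).2
  have h4 : (Fix (x : Equiv.Perm GolayPt) \ {none}).card = 2 := by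
    rw [Finset.card_sdiff_of_subset (Finset.singleton_subset_iff.2 hn), h3, Finset.card_singleton]
  obtain ⟨α, hα⟩ : (Fix (x : Equiv.Perm GolayPt) \ {none}).Nonempty := Finset.card_pos.1 (by omega)
  have hα' := hα
  rw [Finset.mem_sdiff, Finset.mem_singleton, mem_Fix] at hα'
  let K : Subgroup (Equiv.Perm GolayPt) := Spor.M23 ⊓ MulAction.stabilizer (Equiv.Perm GolayPt) α
  have hxK : (x : Equiv.Perm GolayPt) ∈ K := ⟨x.2, hα'.1⟩
  have hxo : orderOf (⟨(x : Equiv.Perm GolayPt), hxK⟩ : K) = 7 := by rw [Subgroup.orderOf_mk, Subgroup.orderOf_coe, hx]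
  have h5 := card_centralizer_dvd (K := K) (inf_le_left.trans M23_le) (q := 7) (by norm_num) hxo {none, α} (by
    intro g hg p hp
    rw [Finset.mem_insert, Finset.mem_singleton] at hp
    rcases hp with rfl | rfl
    · exact (mem_M23.1 hg.1).2
    · exact hg.2) (by rw [Finset.card_pair (Ne.symm hα'.2)])
  have h5' : Nat.card (centralizer ({(⟨(x : Equiv.Perm GolayPt), hxK⟩ : K)} : Set K)) ∣ 21 := by
    have : (Fix (((⟨(x : Equiv.Perm GolayPt), hxK⟩ : K)) : Equiv.Perm GolayPt)).card = 3 := h3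
    rw [this] at h5
    exact h5
  obtain ⟨C, hC⟩ : ∃ C : Subgroup Spor.M23, C = centralizer ({x} : Set Spor.M23) := ⟨_, rfl⟩
  have hCm : ∀ c ∈ C, c * x = x * c := by
    intro c hc
    rw [hC] at hc
    exact mem_centralizer_singleton_iff.1 hc
  rw [← hC]
  have h6 : Nat.card (MulAction.orbit C α) * Nat.card (MulAction.stabilizer C α) = Nat.card C := by
    rw [Nat.card_congr (MulAction.orbitProdStabilizerEquivGroup C α).symm, Nat.card_prod]
  have h7 : Nat.card (MulAction.orbit C α) ≤ 2 := by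
    rw [← h4, ← Set.ncard_coe_finset, Nat.card_coe_set_eq]
    apply Set.ncard_le_ncard _ (Finset.finite_toSet _)
    rintro _ ⟨c, rfl⟩
    rw [Finset.mem_coe, Finset.mem_sdiff, mem_Fix, Finset.mem_singleton]
    have e1 : c • α = ((c : Spor.M23) : Equiv.Perm GolayPt) α := rfl
    show (x : Equiv.Perm GolayPt) (c • α) = c • α ∧ ¬ c • α = none
    rw [e1]
    constructor
    · have h8 := congrArg (fun g : Spor.M23 => (g : Equiv.Perm GolayPt) α) (hCm c c.2)
      have h9 : ((c : Spor.M23) : Equiv.Perm GolayPt) ((x : Equiv.Perm GolayPt) α) = (x : Equiv.Perm GolayPt) (((c : Spor.M23) : Equiv.Perm GolayPt) α) := h8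
      rw [hα'.1] at h9
      exact h9.symm
    · intro h
      apply hα'.2
      apply ((c : Spor.M23) : Equiv.Perm GolayPt).injective
      rw [h, (mem_M23.1 (c : Spor.M23).2).2]
  have h8 : Nat.card (MulAction.stabilizer C α) ∣ 21 := by
    let φ : MulAction.stabilizer C α →* centralizer ({(⟨(x : Equiv.Perm GolayPt), hxK⟩ : K)} : Set K) :=
      { toFun := fun c => ⟨⟨((c : C) : Spor.M23), ⟨((c : C) : Spor.M23).2, c.2⟩⟩, by
          rw [mem_centralizer_singleton_iff]
          apply Subtype.ext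
          have h := congrArg (fun g : Spor.M23 => (g : Equiv.Perm GolayPt)) (hCm (c : C) (c : C).2)
          exact h⟩
        map_one' := rfl
        map_mul' := fun _ _ => rfl }
    have hinj : Function.Injective φ := by
      intro a b hab
      have h1 := congrArg (fun z : centralizer ({(⟨(x : Equiv.Perm GolayPt), hxK⟩ : K)} : Set K) => ((z : K) : Equiv.Perm GolayPt)) hab
      exact Subtype.ext (Subtype.ext (Subtype.ext h1))
    exact (Subgroup.card_dvd_of_injective φ hinj).trans h5'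
  have h9 : 0 < Nat.card (MulAction.orbit C α) := by
    have : Nonempty (MulAction.orbit C α) := ⟨⟨α, MulAction.mem_orbit_self α⟩⟩
    exact Nat.card_pos
  have h10 : Nat.card (MulAction.orbit C α) ∣ 2 := by
    have : Nat.card (MulAction.orbit C α) = 1 ∨ Nat.card (MulAction.orbit C α) = 2 := by omega
    rcases this with h | h <;> rw [h]
    norm_num
  have h11 := Nat.mul_dvd_mul h10 h8
  rw [h6] at h11
  exact h11

end Cfsg.Agent.Lib.M23N
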