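import Mathlib
import Cfsg.Agent.Lib.M23K

/-!
# Sylow numbers and element counts of `M23` (helper7)
-/

set_option autoImplicit false
set_option linter.all false

namespace Cfsg.Agent.Lib.M23N

open Cfsg Subgroup Cfsg.Agent.Lib.SylowOrd Cfsg.Agent.Lib.NseTools Cfsg.Agent.Lib.NseEleven
open Cfsg.Agent.Lib.M22N (sylow_elt sylow_card_prime)

universe u v

theorem fact_M23 {q : ℕ} (hq : q.Prime) {n : ℕ} (h : 10200960 = q ^ 1 * n) (hn : ¬ q ∣ n) :
    (Nat.card Spor.M23).factorization q = 1 := by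
  rw [card_M23, h, Nat.factorization_mul (pow_ne_zero _ hq.ne_zero) (by rintro rfl; simp at hn),
    Nat.factorization_pow]
  simp [hq.factorization_self, Nat.factorization_eq_zero_of_not_dvd hn]

theorem exists_ord {q : ℕ} [hq : Fact q.Prime] (hd : q ∣ 10200960) : ∃ x : Spor.M23, orderOf x = q := by
  apply exists_prime_orderOf_dvd_card'
  rw [card_M23]; exact hd

theorem syl_aux {q : ℕ} [hq : Fact q.Prime] {t N : ℕ} (ht : t ≠ 0) (hd : q ∣ 10200960)
    (hfact : (Nat.card Spor.M23).factorization q = 1)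
    (hcent : ∀ x : Spor.M23, orderOf x = q →
      Nat.card (Subgroup.centralizer ({x} : Set Spor.M23)) ∣ q * t)
    (hnum : ∀ c ∈ t.divisors, ∀ d ∈ (q - 1).divisors, ∀ n, n * (q * c * d) = 10200960 →
      n % q = 1 % q → n = N) :
    Nat.card (Sylow q Spor.M23) = N := by
  obtain ⟨x, hx⟩ := exists_ord hd
  obtain ⟨c, d, h1, h2, h3, h4⟩ := sylow_count hfact hx
  have hc : c ∣ t := by
    have := hcent x hx
    rw [h1] at this
    exact Nat.dvd_of_mul_dvd_mul_left hq.out.pos this
  rw [card_M23] at h3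
  have hq0 := hq.out.two_le
  exact hnum c (Nat.mem_divisors.2 ⟨hc, ht⟩) d (Nat.mem_divisors.2 ⟨h2, by omega⟩) _ h3 h4

theorem syl23 : Nat.card (Sylow 23 Spor.M23) = 40320 := by
  haveI : Fact (Nat.Prime 23) := ⟨by norm_num⟩
  exact syl_aux (q := 23) (t := 1) (by norm_num) (by norm_num)
    (fact_M23 (by norm_num) (n := 443520) (by norm_num) (by norm_num)) c23_dvd (by
      intro c hc d hd n h1 h2
      have e1 : Nat.divisors 1 = {1} := by decide
      have e2 : Nat.divisors (23 - 1) = {1, 2, 11, 22} := by decide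
      rw [e1] at hc
      rw [e2] at hd
      simp only [Finset.mem_insert, Finset.mem_singleton] at hc hd
      rcases hc with rfl <;> rcases hd with rfl | rfl | rfl | rfl <;> omega)

theorem syl11 : Nat.card (Sylow 11 Spor.M23) = 185472 := by
  haveI : Fact (Nat.Prime 11) := ⟨by norm_num⟩
  exact syl_aux (q := 11) (t := 2) (by norm_num) (by norm_num)
    (fact_M23 (by norm_num) (n := 927360) (by norm_num) (by norm_num)) c11_dvd (by
      intro c hc d hd n h1 h2
      have e1 : Nat.divisors 2 = {1, 2} := by decide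
      have e2 : Nat.divisors (11 - 1) = {1, 2, 5, 10} := by decide
      rw [e1] at hc
      rw [e2] at hd
      simp only [Finset.mem_insert, Finset.mem_singleton] at hc hd
      rcases hc with rfl | rfl <;> rcases hd with rfl | rfl | rfl | rfl <;> omega)

theorem syl7 : Nat.card (Sylow 7 Spor.M23) = 242880 := by
  haveI : Fact (Nat.Prime 7) := ⟨by norm_num⟩
  exact syl_aux (q := 7) (t := 6) (by norm_num) (by norm_num)
    (fact_M23 (by norm_num) (n := 1457280) (by norm_num) (by norm_num)) c7_dvd (by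
      intro c hc d hd n h1 h2
      have e1 : Nat.divisors 6 = {1, 2, 3, 6} := by decide
      have e2 : Nat.divisors (7 - 1) = {1, 2, 3, 6} := by decide
      rw [e1] at hc
      rw [e2] at hd
      simp only [Finset.mem_insert, Finset.mem_singleton] at hc hd
      rcases hc with rfl | rfl | rfl | rfl <;> rcases hd with rfl | rfl | rfl | rfl <;> omega)

theorem count_of_syl {p s c : ℕ} [hp : Fact p.Prime] (hd : p ∣ 10200960) (hsq : ¬ p ^ 2 ∣ 10200960)
    (h : Nat.card (Sylow p Spor.M23) = s) (hs : (p - 1) * s = c) : Nat.card {g : Spor.M23 // orderOf g = p} = c := by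
  have h1 := sylow_card_prime (G := Spor.M23) (p := p) (by rw [card_M23]; exact hd) (by rw [card_M23]; exact hsq)
  rw [card_order_prime h1, ← hs, mul_comm, h]

theorem cent7 (x : Spor.M23) (hx : orderOf x = 7) : Nat.card (centralizer ({x} : Set Spor.M23)) = 14 := by
  haveI i7 : Fact (Nat.Prime 7) := ⟨by norm_num⟩
  have hs := simple_M23
  have hna : ¬ IsMulCommutative Spor.M23 := Cfsg.Agent.Lib.SmallSimple.not_isMulCommutative_of_card card_M23 (by norm_num)
  have hsq : ¬ 7 ^ 2 ∣ Nat.card Spor.M23 := by rw [card_M23]; norm_num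
  obtain ⟨g, hg⟩ := exists_14
  have h8 : orderOf (g ^ 2) = 7 := by rw [orderOf_pow, hg]; norm_num
  have h7 : orderOf (g ^ 7) = 2 := by rw [orderOf_pow, hg]; norm_num
  rw [cent_card_eq hsq hx h8]
  have hN := syl_norm (n := 42) card_M23 (by norm_num) syl7 (by norm_num) (by norm_num) (g ^ 2) h8
  refine cent14 hna hsq h8 hN ?_
  have h9 : g ^ 7 ∈ centralizer ({g ^ 2} : Set Spor.M23) := by
    rw [mem_centralizer_singleton_iff, ← pow_add, ← pow_add]
  have h10 := orderOf_dvd_natCard (⟨g ^ 7, h9⟩ : centralizer ({g ^ 2} : Set Spor.M23))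
  rwa [Subgroup.orderOf_mk, h7] at h10

theorem cent23 (x : Spor.M23) (hx : orderOf x = 23) : Nat.card (centralizer ({x} : Set Spor.M23)) = 23 := by
  haveI i : Fact (Nat.Prime 23) := ⟨by norm_num⟩
  have hs := simple_M23
  have hna : ¬ IsMulCommutative Spor.M23 := Cfsg.Agent.Lib.SmallSimple.not_isMulCommutative_of_card card_M23 (by norm_num)
  exact Cfsg.Agent.Lib.M22N.cent_of_N hna (q := 11) (by norm_num) (by rw [card_M23]; norm_num) x hx
    (syl_norm (n := 253) card_M23 (by norm_num) syl23 (by norm_num) (by norm_num) x hx)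

theorem cent11 (x : Spor.M23) (hx : orderOf x = 11) : Nat.card (centralizer ({x} : Set Spor.M23)) = 11 := by
  haveI i : Fact (Nat.Prime 11) := ⟨by norm_num⟩
  have hs := simple_M23
  have hna : ¬ IsMulCommutative Spor.M23 := Cfsg.Agent.Lib.SmallSimple.not_isMulCommutative_of_card card_M23 (by norm_num)
  exact Cfsg.Agent.Lib.M22N.cent_of_N hna (q := 5) (by norm_num) (by rw [card_M23]; norm_num) x hx
    (syl_norm (n := 55) card_M23 (by norm_num) syl11 (by norm_num) (by norm_num) x hx)

/-- the counts modulo 7 -/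
theorem count_not {n : ℕ} (hn : ¬ n ∣ 14) : 7 ∣ Nat.card {g : Spor.M23 // orderOf g = n} := by
  haveI i7 : Fact (Nat.Prime 7) := ⟨by norm_num⟩
  obtain ⟨x, hx⟩ := exists_ord (q := 7) (by norm_num)
  have h1 := count_modEq hx n
  have h2 : IsEmpty {g : centralizer ({x} : Set Spor.M23) // orderOf g = n} := by
    refine ⟨fun g => hn ?_⟩
    rw [← cent7 x hx, ← g.2]
    exact orderOf_dvd_natCard _
  rw [Nat.card_of_isEmpty (α := {g : centralizer ({x} : Set Spor.M23) // orderOf g = n})] at h1
  exact (Nat.modEq_zero_iff_dvd).1 h1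

theorem count_two : Nat.card {g : Spor.M23 // orderOf g = 2} % 7 = 1 := by
  haveI i7 : Fact (Nat.Prime 7) := ⟨by norm_num⟩
  obtain ⟨x, hx⟩ := exists_ord (q := 7) (by norm_num)
  have h1 := count_modEq hx 2
  have hxC : x ∈ centralizer ({x} : Set Spor.M23) := by rw [mem_centralizer_singleton_iff]
  have hcyc := cyc14 (cent7 x hx) (x := (⟨x, hxC⟩ : centralizer ({x} : Set Spor.M23))) (by rw [Subgroup.orderOf_mk, hx])
    (fun c => Subtype.ext (mem_centralizer_singleton_iff.1 c.2))
  rw [count_cyc (G := centralizer ({x} : Set Spor.M23)) (d := 2) (by rw [cent7 x hx]; norm_num), Nat.totient_two] at h1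
  exact h1

theorem count_seven : Nat.card {g : Spor.M23 // orderOf g = 7} = 1457280 := by
  haveI i7 : Fact (Nat.Prime 7) := ⟨by norm_num⟩
  exact count_of_syl (by norm_num) (by norm_num) syl7 (by norm_num)

theorem count_fourteen : Nat.card {g : Spor.M23 // orderOf g = 14} = 1457280 := by
  rw [card_14 cent7, count_seven]

/-- Sylow numbers from the counts, when the elements of order `p` are self-centralizing -/
theorem syl_of_nse {G : Type u} [Group G] [Finite G] {M : Type v} [Group M] [Finite M] {p s c : ℕ} [hp : Fact p.Prime]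
    (hd : p ∣ Nat.card G) (hsq : ¬ p ^ 2 ∣ Nat.card G) (hp3 : 3 ≤ p)
    (hM : Nat.card {g : M // orderOf g = p} = c) (hs : (p - 1) * s = c)
    (hcent : ∀ z : M, orderOf z = p → Nat.card (centralizer ({z} : Set M)) = p) (hz : ∃ z : M, orderOf z = p)
    (hnse : {c : ℕ | 0 < c ∧ ∃ n : ℕ, c = Nat.card {g : G // orderOf g = n}} =
      {c : ℕ | 0 < c ∧ ∃ n : ℕ, c = Nat.card {g : M // orderOf g = n}}) : Nat.card (Sylow p G) = s := by
  obtain ⟨z, hz⟩ := hz
  have h1 := sylow_card_prime (G := G) (p := p) hd hsq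
  have h0 : 0 < Nat.card (Sylow p G) := Nat.card_pos
  have h2 : Nat.card {g : G // orderOf g = p} ∈ {c : ℕ | 0 < c ∧ ∃ n : ℕ, c = Nat.card {g : G // orderOf g = n}} :=
    ⟨by rw [card_order_prime h1]; exact Nat.mul_pos h0 (by omega), p, rfl⟩
  rw [hnse] at h2
  obtain ⟨-, n, hn⟩ := h2
  have h3 := card_sylow_modEq_one p G
  rw [card_order_prime h1] at hn
  by_cases hn1 : n = 1
  · rw [hn1, card_orderOf_one] at hn
    exfalso
    have h4 := Nat.eq_one_of_mul_eq_one_left hn
    omega
  · by_cases hnp : n = p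
    · rw [hnp, hM, ← hs, mul_comm] at hn
      exact Nat.eq_of_mul_eq_mul_left (by omega) hn
    · exfalso
      have h4 := dvd_card_orderOf hz (hcent z hz) hn1 hnp
      rw [← hn] at h4
      rcases (Nat.Prime.dvd_mul hp.out).1 h4 with h5 | h5
      · have h6 : Nat.card (Sylow p G) ≡ 0 [MOD p] := (Nat.modEq_zero_iff_dvd).2 h5
        have h7 := h3.symm.trans h6
        have h8 := (Nat.modEq_zero_iff_dvd).1 h7
        exact hp.out.one_lt.ne' (Nat.dvd_one.1 h8)
      · have := Nat.le_of_dvd (by omega) h5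
        omega

theorem syl7_of_nse {G : Type u} [Group G] [Finite G] (hG : Nat.card G = 10200960)
    (hnse : {c : ℕ | 0 < c ∧ ∃ n : ℕ, c = Nat.card {g : G // orderOf g = n}} =
      {c : ℕ | 0 < c ∧ ∃ n : ℕ, c = Nat.card {g : Spor.M23 // orderOf g = n}}) : Nat.card (Sylow 7 G) = 242880 := by
  haveI i7 : Fact (Nat.Prime 7) := ⟨by norm_num⟩
  have h1 := sylow_card_prime (G := G) (p := 7) (by rw [hG]; norm_num) (by rw [hG]; norm_num)
  have h0 : 0 < Nat.card (Sylow 7 G) := Nat.card_pos
  have h2 : Nat.card {g : G // orderOf g = 7} ∈ {c : ℕ | 0 < c ∧ ∃ n : ℕ, c = Nat.card {g : G // orderOf g = n}} :=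
    ⟨by rw [card_order_prime h1]; exact Nat.mul_pos h0 (by omega), 7, rfl⟩
  rw [hnse] at h2
  obtain ⟨-, n, hn⟩ := h2
  have h3 := card_sylow_modEq_one 7 G
  rw [card_order_prime h1] at hn
  have h3' : Nat.card (Sylow 7 G) % 7 = 1 := h3
  by_cases hd : n ∣ 14
  · have hn' : n = 1 ∨ n = 2 ∨ n = 7 ∨ n = 14 := by
      have : n ∈ Nat.divisors 14 := Nat.mem_divisors.2 ⟨hd, by norm_num⟩
      have e : Nat.divisors 14 = {1, 2, 7, 14} := by decide
      rw [e] at this
      simpa only [Finset.mem_insert, Finset.mem_singleton] using this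
    rcases hn' with rfl | rfl | rfl | rfl
    · rw [card_orderOf_one] at hn; omega
    · have := count_two; omega
    · rw [count_seven] at hn; omega
    · rw [count_fourteen] at hn; omega
  · have := count_not hd
    rw [← hn] at this
    omega

theorem two_of_nse {G : Type u} [Group G] [Finite G] (hG : Nat.card G = 10200960)
    (hnse : {c : ℕ | 0 < c ∧ ∃ n : ℕ, c = Nat.card {g : G // orderOf g = n}} =
      {c : ℕ | 0 < c ∧ ∃ n : ℕ, c = Nat.card {g : Spor.M23 // orderOf g = n}}) : Nat.card {g : G // orderOf g = 2} % 7 ≠ 0 := by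
  have h1 := odd_inv (G := G) (by rw [hG]; norm_num)
  have h2 : Nat.card {g : G // orderOf g = 2} ∈ {c : ℕ | 0 < c ∧ ∃ n : ℕ, c = Nat.card {g : G // orderOf g = n}} :=
    ⟨by omega, 2, rfl⟩
  rw [hnse] at h2
  obtain ⟨-, n, hn⟩ := h2
  by_cases hd : n ∣ 2
  · rcases (Nat.dvd_prime Nat.prime_two).1 hd with rfl | rfl
    · rw [hn, card_orderOf_one]; norm_num
    · rw [hn, count_two]; norm_num
  · have := even_count (G := Spor.M23) hd
    rw [← hn] at this
    omega

end Cfsg.Agent.Lib.M23N
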