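import Mathlib
import Cfsg.Agent.Lib.CoxBridge

/-!
# Matrices over the field with 5 elements as single packed numbers (fast kernel arithmetic)
-/

set_option autoImplicit false
set_option linter.all false

namespace Cfsg.Agent.Lib.M5

open Cfsg.Agent.Lib.BenesPerm (force force_eq)
open Cfsg.Agent.Lib.BenesWord

/-- number with given digits -/
def val (f : ℕ → ℕ) (N : ℕ) : ℕ := ∑ t ∈ Finset.range N, f t * 4096 ^ t

/-- digit -/
def dig (X t : ℕ) : ℕ := X / 4096 ^ t % 4096

theorem val_zero (f : ℕ → ℕ) : val f 0 = 0 := by simp [val]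

theorem val_succ (f : ℕ → ℕ) (N : ℕ) : val f (N + 1) = f 0 + 4096 * val (fun t => f (t + 1)) N := by
  unfold val
  rw [Finset.sum_range_succ', pow_zero, mul_one, add_comm, Finset.mul_sum]
  congr 1
  exact Finset.sum_congr rfl (fun k _ => by ring)

theorem val_congr {f g : ℕ → ℕ} {N : ℕ} (h : ∀ t < N, f t = g t) : val f N = val g N :=
  Finset.sum_congr rfl (fun t ht => by rw [h t (Finset.mem_range.1 ht)])

theorem val_add (f g : ℕ → ℕ) (N : ℕ) : val f N + val g N = val (fun t => f t + g t) N := by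
  unfold val
  rw [← Finset.sum_add_distrib]
  exact Finset.sum_congr rfl (fun k _ => by ring)

theorem val_mul (c : ℕ) (f : ℕ → ℕ) (N : ℕ) : c * val f N = val (fun t => c * f t) N := by
  unfold val
  rw [Finset.mul_sum]
  exact Finset.sum_congr rfl (fun k _ => by ring)

theorem val_sub {f g : ℕ → ℕ} {N : ℕ} (h : ∀ t < N, g t ≤ f t) : val f N - val g N = val (fun t => f t - g t) N := by
  have : val f N = val (fun t => f t - g t) N + val g N := by
    rw [val_add]
    exact val_congr (fun t ht => (Nat.sub_add_cancel (h t ht)).symm)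
  omega

theorem dig_zero (X : ℕ) : dig X 0 = X % 4096 := by simp [dig]

theorem dig_succ (X t : ℕ) : dig X (t + 1) = dig (X / 4096) t := by
  unfold dig
  rw [pow_succ', Nat.div_div_eq_div_mul]

theorem dig_val {f : ℕ → ℕ} {N : ℕ} (hf : ∀ t < N, f t < 4096) : ∀ t < N, dig (val f N) t = f t := by
  induction N generalizing f with
  | zero => intro t ht; omega
  | succ N ih =>
    intro t ht
    have h0 := hf 0 (by omega)
    rw [val_succ]
    cases t with
    | zero => rw [dig_zero]; omega
    | succ t =>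
      rw [dig_succ]
      have : (f 0 + 4096 * val (fun t => f (t + 1)) N) / 4096 = val (fun t => f (t + 1)) N := by omega
      rw [this]
      exact ih (fun t ht => hf (t + 1) (by omega)) t (by omega)

theorem val_dig : ∀ (N X : ℕ), X < 4096 ^ N → val (dig X) N = X
  | 0, X, h => by rw [pow_zero] at h; rw [val_zero]; omega
  | N + 1, X, h => by
    rw [val_succ]
    have h1 : X / 4096 < 4096 ^ N := by
      rw [pow_succ] at h
      exact Nat.div_lt_of_lt_mul (by rw [mul_comm]; exact h)
    have := val_dig N (X / 4096) h1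
    have h2 : val (fun t => dig X (t + 1)) N = val (dig (X / 4096)) N := val_congr (fun t _ => dig_succ X t)
    rw [h2, this, dig_zero]
    omega

/-! ### lanewise masks -/

theorem land_split {k a b c d : ℕ} (ha : a < 2 ^ k) (hc : c < 2 ^ k) :
    (a + 2 ^ k * b) &&& (c + 2 ^ k * d) = (a &&& c) + 2 ^ k * (b &&& d) := by
  apply Nat.eq_of_testBit_eq
  intro i
  rw [Nat.testBit_and, add_comm a, add_comm c, add_comm (a &&& c), Nat.testBit_two_pow_mul_add _ ha,
    Nat.testBit_two_pow_mul_add _ hc, Nat.testBit_two_pow_mul_add _ (lt_of_le_of_lt Nat.and_le_left ha)]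
  split
  · rw [Nat.testBit_and]
  · rw [Nat.testBit_and]

theorem land15 (x : ℕ) : x &&& 15 = x % 16 := by
  have := Nat.and_two_pow_sub_one_eq_mod x 4
  simpa using this

theorem land4095 (x : ℕ) : x &&& 4095 = x % 4096 := by
  have := Nat.and_two_pow_sub_one_eq_mod x 12
  simpa using this

theorem land_lane {a b m : ℕ} (ha : a < 4096) : (a + 4096 * b) &&& (15 + 4096 * m) = a % 16 + 4096 * (b &&& m) := by
  have := land_split (k := 12) (a := a) (b := b) (c := 15) (d := m) (by norm_num; exact ha) (by norm_num)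
  norm_num at this
  rw [this, land15]

theorem val_lt {f : ℕ → ℕ} {N : ℕ} (hf : ∀ t < N, f t < 4096) : val f N < 4096 ^ N := by
  induction N generalizing f with
  | zero => rw [val_zero]; norm_num
  | succ N ih =>
    rw [val_succ, pow_succ]
    have h1 := ih (f := fun t => f (t + 1)) (fun t ht => hf (t + 1) (by omega))
    have h0 := hf 0 (by omega)
    omega

/-- mask with the low four bits of each digit -/
def m15 (N : ℕ) : ℕ := val (fun _ => 15) N

theorem m15_succ (N : ℕ) : m15 (N + 1) = 15 + 4096 * m15 N := by unfold m15; rw [val_succ]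

theorem lane0 {f : ℕ → ℕ} {N : ℕ} (hf : ∀ t < N, f t < 4096) : val f N &&& m15 N = val (fun t => f t % 16) N := by
  induction N generalizing f with
  | zero => simp [val_zero, m15]
  | succ N ih =>
    rw [val_succ, m15_succ, land_lane (hf 0 (by omega)), ih (fun t ht => hf (t + 1) (by omega)), val_succ]

theorem lane4 {f : ℕ → ℕ} {N : ℕ} (hf : ∀ t < N, f t < 4096) : (val f N >>> 4) &&& m15 N = val (fun t => f t / 16 % 16) N := by
  induction N generalizing f with
  | zero => simp [val_zero, m15]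
  | succ N ih =>
    have h0 := hf 0 (by omega)
    have ih' := ih (f := fun t => f (t + 1)) (fun t ht => hf (t + 1) (by omega))
    rw [Nat.shiftRight_eq_div_pow] at ih' ⊢
    rw [val_succ, val_succ (fun t => f t / 16 % 16), ← ih', m15_succ]
    set V := val (fun t => f (t + 1)) N
    have e : (f 0 + 4096 * V) / 2 ^ 4 = (f 0 / 16 + 256 * (V % 16)) + 4096 * (V / 2 ^ 4) := by omega
    rw [e, land_lane (by omega)]
    omega

theorem lane8 {f : ℕ → ℕ} {N : ℕ} (hf : ∀ t < N, f t < 4096) : (val f N >>> 8) &&& m15 N = val (fun t => f t / 256 % 16) N := by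
  induction N generalizing f with
  | zero => simp [val_zero, m15]
  | succ N ih =>
    have h0 := hf 0 (by omega)
    have ih' := ih (f := fun t => f (t + 1)) (fun t ht => hf (t + 1) (by omega))
    rw [Nat.shiftRight_eq_div_pow] at ih' ⊢
    rw [val_succ, val_succ (fun t => f t / 256 % 16), ← ih', m15_succ]
    set V := val (fun t => f (t + 1)) N
    have e : (f 0 + 4096 * V) / 2 ^ 8 = (f 0 / 256 + 16 * (V % 256)) + 4096 * (V / 2 ^ 8) := by omega
    rw [e, land_lane (by omega)]
    omega

/-- lanewise reduction modulo 5 -/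
noncomputable def red (mm P : ℕ) : ℕ :=
  force (Nat.add (Nat.add (Nat.land P mm) (Nat.land (Nat.shiftRight P 4) mm)) (Nat.land (Nat.shiftRight P 8) mm))
    fun X => Nat.sub X (Nat.mul 5 (Nat.land (Nat.shiftRight (Nat.mul 52 X) 8) mm))

theorem red_arith (x : ℕ) (hx : x < 4096) :
    (x % 16 + x / 16 % 16 + x / 256 % 16) - 5 * (52 * (x % 16 + x / 16 % 16 + x / 256 % 16) / 256 % 16) = x % 5 := by
  have h1 : x / 256 < 16 := by omega
  have h0 : x / 16 / 16 = x / 256 := Nat.div_div_eq_div_mul x 16 16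
  set y := x % 16 + x / 16 % 16 + x / 256 % 16 with hy
  have h2 : y ≤ 45 := by omega
  have h3 : y % 5 = x % 5 := by
    have h5 : x = y + 5 * (3 * (x / 16 + x / 256)) := by omega
    generalize x / 16 + x / 256 = k at h5
    omega
  have h4 : ∀ y ≤ 45, y - 5 * (52 * y / 256 % 16) = y % 5 := by decide
  rw [h4 y h2, h3]

theorem red_le (x : ℕ) (hx : x < 4096) :
    5 * (52 * (x % 16 + x / 16 % 16 + x / 256 % 16) / 256 % 16) ≤ (x % 16 + x / 16 % 16 + x / 256 % 16) := by
  set y := x % 16 + x / 16 % 16 + x / 256 % 16 with hy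
  have h2 : y ≤ 45 := by omega
  have h4 : ∀ y ≤ 45, 5 * (52 * y / 256 % 16) ≤ y := by decide
  exact h4 y h2

theorem red_val {f : ℕ → ℕ} {N : ℕ} (hf : ∀ t < N, f t < 4096) : red (m15 N) (val f N) = val (fun t => f t % 5) N := by
  unfold red
  rw [force_eq]
  show ((val f N &&& m15 N) + ((val f N >>> 4) &&& m15 N) + ((val f N >>> 8) &&& m15 N)) - 5 * ((52 * ((val f N &&& m15 N) +
    ((val f N >>> 4) &&& m15 N) + ((val f N >>> 8) &&& m15 N))) >>> 8 &&& m15 N) = _
  rw [lane0 hf, lane4 hf, lane8 hf, val_add, val_add, val_mul, lane8 (fun t ht => by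
    have := hf t ht; omega), val_mul, val_sub (fun t ht => red_le _ (hf t ht))]
  exact val_congr (fun t ht => red_arith _ (hf t ht))

/-! ### columns -/

/-- mask of a column -/
def mkc (n m : ℕ) : ℕ := ∑ i ∈ Finset.range m, 4095 * 4096 ^ (n * i)

theorem mkc_succ (n m : ℕ) : mkc n (m + 1) = 4095 + 4096 ^ n * mkc n m := by
  unfold mkc
  rw [Finset.sum_range_succ', mul_zero, pow_zero, mul_one, add_comm, Finset.mul_sum]
  congr 1
  exact Finset.sum_congr rfl (fun k _ => by ring)

theorem land_mkc {n : ℕ} (hn : 0 < n) (m Y : ℕ) : Y &&& mkc n m = ∑ i ∈ Finset.range m, dig Y (n * i) * 4096 ^ (n * i) := by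
  induction m generalizing Y with
  | zero => simp [mkc]
  | succ m ih =>
    rw [mkc_succ, Finset.sum_range_succ', mul_zero, pow_zero, mul_one]
    have e : (4096 : ℕ) ^ n = 2 ^ (12 * n) := by rw [pow_mul]; norm_num
    have h1 : Y = Y % 4096 ^ n + 4096 ^ n * (Y / 4096 ^ n) := (Nat.mod_add_div _ _).symm
    have h2 : (4095 : ℕ) < 4096 ^ n := lt_of_lt_of_le (by norm_num) (Nat.pow_le_pow_right (by norm_num) hn : 4096 ^ 1 ≤ 4096 ^ n)
    have h3 : Y % 4096 ^ n < 4096 ^ n := Nat.mod_lt _ (by positivity)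
    conv_lhs => rw [h1]
    rw [e] at h2 h3 ⊢
    rw [land_split h3 h2, ih, land4095, dig_zero, ← e, add_comm, Finset.mul_sum]
    congr 1
    · apply Finset.sum_congr rfl
      intro i _
      have h4 : dig (Y / 4096 ^ n) (n * i) = dig Y (n * (i + 1)) := by
        unfold dig
        rw [Nat.div_div_eq_div_mul, ← pow_add, mul_add, mul_one, add_comm]
      rw [h4]; ring
    · exact Nat.mod_mod_of_dvd _ (dvd_pow_self _ hn.ne')

theorem dig_div (X j t : ℕ) : dig (X / 4096 ^ j) t = dig X (j + t) := by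
  unfold dig
  rw [Nat.div_div_eq_div_mul, ← pow_add]

/-- double number -/
def dval (m n : ℕ) (x : ℕ → ℕ → ℕ) : ℕ := val (fun t => x (t / n) (t % n)) (m * n)

theorem sum_mul_range (F : ℕ → ℕ) (m n : ℕ) : ∑ t ∈ Finset.range (m * n), F t = ∑ i ∈ Finset.range m, ∑ k ∈ Finset.range n, F (n * i + k) := by
  induction m with
  | zero => simp
  | succ m ih =>
    rw [Nat.succ_mul, Finset.sum_range_add, ih, Finset.sum_range_succ]
    congr 1
    exact Finset.sum_congr rfl (fun k _ => by rw [mul_comm])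

theorem dval_eq (m n : ℕ) (x : ℕ → ℕ → ℕ) : dval m n x = ∑ i ∈ Finset.range m, ∑ k ∈ Finset.range n, x i k * 4096 ^ (n * i + k) := by
  unfold dval val
  rw [sum_mul_range]
  apply Finset.sum_congr rfl
  intro i _
  apply Finset.sum_congr rfl
  intro k hk
  have hk' := Finset.mem_range.1 hk
  have h1 : (n * i + k) / n = i := by
    rw [Nat.mul_add_div (by omega), Nat.div_eq_of_lt hk', add_zero]
  have h2 : (n * i + k) % n = k := by
    rw [Nat.mul_add_mod, Nat.mod_eq_of_lt hk']
  show x ((n * i + k) / n) ((n * i + k) % n) * _ = _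
  rw [h1, h2]

theorem dig_dval {m n : ℕ} {x : ℕ → ℕ → ℕ} (hx : ∀ i j, x i j < 4096) {i j : ℕ} (hi : i < m) (hj : j < n) :
    dig (dval m n x) (j + n * i) = x i j := by
  unfold dval
  have hlt : j + n * i < m * n := by
    calc j + n * i < n + n * i := by omega
      _ = (i + 1) * n := by ring
      _ ≤ m * n := Nat.mul_le_mul_right _ hi
  rw [dig_val (fun t _ => hx _ _) _ hlt]
  have h1 : (j + n * i) / n = i := by
    rw [Nat.add_mul_div_left _ _ (by omega), Nat.div_eq_of_lt hj, zero_add]
  have h2 : (j + n * i) % n = j := by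
    rw [Nat.add_mul_mod_self_left, Nat.mod_eq_of_lt hj]
  rw [h1, h2]

/-- multiplication loop -/
noncomputable def go (mk : ℕ) (R : List ℕ) : ℕ → ℕ → ℕ :=
  List.rec (motive := fun _ => ℕ → ℕ → ℕ) (fun _ acc => acc)
    (fun r _ ih A acc => force (Nat.shiftRight A 12) fun A' => force (Nat.add acc (Nat.mul (Nat.land A mk) r)) fun acc' => ih A' acc') R

theorem go_cons (mk r : ℕ) (R : List ℕ) (A acc : ℕ) : go mk (r :: R) A acc = go mk R (A / 4096) (acc + (A &&& mk) * r) := by
  have h : go mk (r :: R) A acc = force (Nat.shiftRight A 12) fun A' => force (Nat.add acc (Nat.mul (Nat.land A mk) r)) fun acc' => go mk R A' acc' := rfl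
  rw [h, force_eq, force_eq]
  have : Nat.shiftRight A 12 = A / 4096 := Nat.shiftRight_eq_div_pow A 12
  rw [this]; rfl

theorem go_eq (mk : ℕ) (g : ℕ → ℕ) (R : List ℕ) (A acc : ℕ) (hR : ∀ j (h : j < R.length), R[j] = g j) :
    go mk R A acc = acc + ∑ j ∈ Finset.range R.length, (A / 4096 ^ j &&& mk) * g j := by
  induction R generalizing A acc g with
  | nil => simp [go]
  | cons r R ih =>
    rw [go_cons, ih (fun j => g (j + 1)) _ _ (fun j h => by
      have := hR (j + 1) (by simpa using h)
      rwa [List.getElem_cons_succ] at this), List.length_cons, Finset.sum_range_succ', pow_zero, Nat.div_one]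
    have h0 := hR 0 (by simp)
    rw [List.getElem_cons_zero] at h0
    rw [h0, add_assoc]
    congr 1
    rw [add_comm]
    congr 1
    apply Finset.sum_congr rfl
    intro j _
    rw [Nat.div_div_eq_div_mul, ← pow_succ']

/-- right multiplication by a matrix given by rows -/
noncomputable def mulR (mk mm : ℕ) (R : List ℕ) (X : ℕ) : ℕ := force (go mk R X 0) fun P => red mm P

/-- the packed number represents the matrix -/
def Rep (m n : ℕ) (X : ℕ) (M : Matrix (Fin m) (Fin n) (ZMod 5)) : Prop :=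
  ∃ x : ℕ → ℕ → ℕ, X = dval m n x ∧ (∀ i j, x i j ≤ 4) ∧ ∀ (i : Fin m) (j : Fin n), ((x i j : ℕ) : ZMod 5) = M i j

/-- the rows represent the matrix -/
def RepR (n : ℕ) (R : List ℕ) (M : Matrix (Fin n) (Fin n) (ZMod 5)) : Prop :=
  ∃ g : ℕ → ℕ → ℕ, R.length = n ∧ (∀ j (h : j < R.length), R[j] = val (g j) n) ∧ (∀ i j, g i j ≤ 4) ∧
    ∀ (i j : Fin n), ((g i j : ℕ) : ZMod 5) = M i j

theorem mulR_rep {m n : ℕ} (hn : 0 < n) (hn2 : n ≤ 200) {X : ℕ} {M : Matrix (Fin m) (Fin n) (ZMod 5)} (hX : Rep m n X M)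
    {R : List ℕ} {N : Matrix (Fin n) (Fin n) (ZMod 5)} (hR : RepR n R N) :
    Rep m n (mulR (mkc n m) (m15 (m * n)) R X) (M * N) := by
  obtain ⟨x, rfl, hx, hxM⟩ := hX
  obtain ⟨g, hl, hg, hg4, hgN⟩ := hR
  have hp : ∀ i k, ∑ j ∈ Finset.range n, x i j * g j k < 4096 := by
    intro i k
    have : ∑ j ∈ Finset.range n, x i j * g j k ≤ ∑ j ∈ Finset.range n, 16 :=
      Finset.sum_le_sum (fun j _ => by have := Nat.mul_le_mul (hx i j) (hg4 j k); omega)
    rw [Finset.sum_const, Finset.card_range, smul_eq_mul] at this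
    omega
  have key : go (mkc n m) R (dval m n x) 0 = dval m n (fun i k => ∑ j ∈ Finset.range n, x i j * g j k) := by
    rw [go_eq (mkc n m) (fun j => val (g j) n) R _ _ hg, hl, zero_add]
    have h1 : ∀ j ∈ Finset.range n, (dval m n x / 4096 ^ j &&& mkc n m) * val (g j) n =
        ∑ i ∈ Finset.range m, ∑ k ∈ Finset.range n, (x i j * g j k) * 4096 ^ (n * i + k) := by
      intro j hj
      rw [land_mkc hn, Finset.sum_mul]
      apply Finset.sum_congr rfl
      intro i hi
      rw [dig_div, dig_dval (fun i j => by have := hx i j; omega) (Finset.mem_range.1 hi) (Finset.mem_range.1 hj)]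
      unfold val
      rw [Finset.mul_sum]
      apply Finset.sum_congr rfl
      intro k _
      rw [pow_add]; ring
    rw [Finset.sum_congr rfl h1, dval_eq, Finset.sum_comm]
    apply Finset.sum_congr rfl
    intro i _
    rw [Finset.sum_comm]
    apply Finset.sum_congr rfl
    intro k _
    rw [Finset.sum_mul]
  refine ⟨fun i k => (∑ j ∈ Finset.range n, x i j * g j k) % 5, ?_, fun i j => ?_, fun i j => ?_⟩
  · unfold mulR
    rw [force_eq, key]
    exact red_val (fun t _ => hp _ _)
  · show _ % 5 ≤ 4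
    omega
  · show (((∑ l ∈ Finset.range n, x i l * g l j) % 5 : ℕ) : ZMod 5) = _
    rw [ZMod.natCast_mod, Matrix.mul_apply, Nat.cast_sum, Finset.sum_range (fun l => ((x i l * g l j : ℕ) : ZMod 5))]
    exact Finset.sum_congr rfl (fun l _ => by rw [Nat.cast_mul, hxM, hgN])

theorem Rep.ext {m n : ℕ} {X : ℕ} {M N : Matrix (Fin m) (Fin n) (ZMod 5)} (h : Rep m n X M) (h' : Rep m n X N) : M = N := by
  obtain ⟨x, hX, hx, hxM⟩ := h
  obtain ⟨y, hY, hy, hyN⟩ := h'
  ext i j
  have h1 := dig_dval (m := m) (n := n) (x := x) (fun i j => by have := hx i j; omega) i.2 j.2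
  have h2 := dig_dval (m := m) (n := n) (x := y) (fun i j => by have := hy i j; omega) i.2 j.2
  rw [← hxM, ← hyN, ← h1, ← h2, ← hX, ← hY]

theorem Rep.ext' {m n : ℕ} {X Y : ℕ} {M : Matrix (Fin m) (Fin n) (ZMod 5)} (h : Rep m n X M) (h' : Rep m n Y M) : X = Y := by
  obtain ⟨x, rfl, hx, hxM⟩ := h
  obtain ⟨y, rfl, hy, hyN⟩ := h'
  rw [dval_eq, dval_eq]
  apply Finset.sum_congr rfl
  intro i hi
  apply Finset.sum_congr rfl
  intro j hj
  have h1 : ((x i j : ℕ) : ZMod 5) = ((y i j : ℕ) : ZMod 5) := by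
    have a := hxM ⟨i, Finset.mem_range.1 hi⟩ ⟨j, Finset.mem_range.1 hj⟩
    have b := hyN ⟨i, Finset.mem_range.1 hi⟩ ⟨j, Finset.mem_range.1 hj⟩
    simp only at a b
    rw [a, b]
  rw [ZMod.natCast_eq_natCast_iff'] at h1
  have h2 := hx i j
  have h3 := hy i j
  have : x i j = y i j := by omega
  rw [this]

/-- check of rows -/
noncomputable def chkRows (bd mm : ℕ) (R : List ℕ) : Bool :=
  List.rec (motive := fun _ => Bool) true (fun r _ ih => cond (Nat.ble r bd) (cond (Nat.beq (red mm r) r) ih false) false) R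

theorem chkRows_spec {n : ℕ} {R : List ℕ} (h : chkRows (4096 ^ n - 1) (m15 n) R = true) :
    ∀ j (hj : j < R.length), R[j] = val (fun k => dig R[j] k % 5) n := by
  induction R with
  | nil => intro j hj; simp at hj
  | cons r R ih =>
    have h' : cond (Nat.ble r (4096 ^ n - 1)) (cond (Nat.beq (red (m15 n) r) r) (chkRows (4096 ^ n - 1) (m15 n) R) false) false = true := h
    cases h1 : Nat.ble r (4096 ^ n - 1) with
    | false => rw [h1] at h'; simp at h'
    | true =>
      cases h2 : Nat.beq (red (m15 n) r) r with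
      | false => rw [h1, h2] at h'; simp at h'
      | true =>
        rw [h1, h2] at h'
        simp only [cond_true] at h'
        intro j hj
        cases j with
        | zero =>
          rw [List.getElem_cons_zero]
          have h3 : r < 4096 ^ n := by
            have := Nat.le_of_ble_eq_true h1
            have : 0 < 4096 ^ n := by positivity
            omega
          have h4 := Nat.eq_of_beq_eq_true h2
          have h5 := red_val (f := dig r) (N := n) (fun t _ => Nat.mod_lt _ (by norm_num))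
          rw [val_dig n r h3, h4] at h5
          exact h5
        | succ j =>
          rw [List.getElem_cons_succ]
          exact ih h' j (by simpa using hj)

/-- the matrix of rows -/
def matR (n : ℕ) (R : List ℕ) : Matrix (Fin n) (Fin n) (ZMod 5) := fun i j => ((dig (R.getD i 0) j % 5 : ℕ) : ZMod 5)

theorem repR {n : ℕ} {R : List ℕ} (hl : Nat.beq R.length n = true) (h : chkRows (4096 ^ n - 1) (m15 n) R = true) :
    RepR n R (matR n R) := by
  have h1 := chkRows_spec h
  have hl' := Nat.eq_of_beq_eq_true hl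
  refine ⟨fun i j => dig (R.getD i 0) j % 5, hl', fun j hj => ?_, fun i j => ?_, fun i j => rfl⟩
  · have := h1 j hj
    show R[j] = val (fun k => dig (R.getD j 0) k % 5) n
    rw [List.getD_eq_getElem _ _ hj]
    exact this
  · show _ % 5 ≤ 4
    omega

/-- packed identity -/
def idX (n : ℕ) : ℕ := ∑ i ∈ Finset.range n, 4096 ^ (n * i + i)

theorem idX_rep (n : ℕ) : Rep n n (idX n) 1 := by
  refine ⟨fun i j => if i = j then 1 else 0, ?_, fun i j => ?_, fun i j => ?_⟩
  · rw [dval_eq, idX]
    apply Finset.sum_congr rfl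
    intro i hi
    rw [Finset.sum_eq_single i]
    · simp
    · intro b _ hb
      simp [hb.symm]
    · intro h; exact absurd hi h
  · show (if i = j then 1 else 0) ≤ 4
    split <;> omega
  · show (((if (i : ℕ) = j then 1 else 0 : ℕ)) : ZMod 5) = _
    rw [Matrix.one_apply]
    by_cases h : i = j
    · subst h; simp
    · rw [if_neg h, if_neg (fun h' => h (Fin.ext h'))]; simp

/-! ### words -/

/-- iterate with forcing -/
noncomputable def itF (f : ℕ → ℕ) (k : ℕ) : ℕ → ℕ :=
  Nat.rec (motive := fun _ => ℕ → ℕ) (fun X => X) (fun _ ih X => force (f X) fun Y => ih Y) k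

theorem itF_eq (f : ℕ → ℕ) (k X : ℕ) : itF f k X = f^[k] X := by
  induction k generalizing X with
  | zero => rfl
  | succ k ih =>
    have : itF f (k + 1) X = force (f X) fun Y => itF f k Y := rfl
    rw [this, force_eq, ih, Function.iterate_succ_apply]

/-- right multiplication by a word; `true` = by the inverse of the word -/
noncomputable def evW (mk mm : ℕ) (G GI : ℕ → List ℕ) (W : Wd) : Bool → ℕ → ℕ :=
  Wd.rec (motive := fun _ => Bool → ℕ → ℕ) (fun _ X => X)
    (fun c b X => cond b (mulR mk mm (GI c) X) (mulR mk mm (G c) X))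
    (fun _ ih b X => ih (!b) X)
    (fun _ _ ihu ihv b X => cond b (force (ihv true X) fun Y => ihu true Y) (force (ihu false X) fun Y => ihv false Y))
    (fun _ n ih b X => itF (ih b) n X) W

theorem evW_rep {m n : ℕ} (hn : 0 < n) (hn2 : n ≤ 200) {G GI : ℕ → List ℕ} {ng : ℕ} {u : ℕ → (Matrix (Fin n) (Fin n) (ZMod 5))ˣ}
    (hG : ∀ c < ng, RepR n (G c) (u c)) (hGI : ∀ c < ng, RepR n (GI c) ((u c)⁻¹ : (Matrix (Fin n) (Fin n) (ZMod 5))ˣ))
    (W : Wd) (hW : Cfsg.Agent.Lib.CoxBridge.lets ng W = true) (b : Bool) {X : ℕ} {M : Matrix (Fin m) (Fin n) (ZMod 5)} (hX : Rep m n X M) :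
    Rep m n (evW (mkc n m) (m15 (m * n)) G GI W b X)
      (M * ((if b then (W.eval u)⁻¹ else W.eval u : (Matrix (Fin n) (Fin n) (ZMod 5))ˣ) : Matrix (Fin n) (Fin n) (ZMod 5))) := by
  induction W generalizing b X M with
  | one =>
    cases b <;> simpa [evW, Wd.eval] using hX
  | g c =>
    have hc : c < ng := by simpa [Cfsg.Agent.Lib.CoxBridge.lets] using hW
    cases b
    · exact mulR_rep hn hn2 hX (hG c hc)
    · exact mulR_rep hn hn2 hX (hGI c hc)
  | inv v ih =>
    have h := ih hW (!b) hX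
    cases b
    · simpa [evW, Wd.eval] using h
    · simpa [evW, Wd.eval] using h
  | mul v w ihv ihw =>
    simp only [Cfsg.Agent.Lib.CoxBridge.lets, Bool.and_eq_true] at hW
    cases b
    · have h1 := ihw hW.2 false (ihv hW.1 false hX)
      have e : evW (mkc n m) (m15 (m * n)) G GI (Wd.mul v w) false X = evW (mkc n m) (m15 (m * n)) G GI w false
        (evW (mkc n m) (m15 (m * n)) G GI v false X) := force_eq _ _
      rw [e]
      simpa [Wd.eval, Matrix.mul_assoc] using h1
    · have h1 := ihv hW.1 true (ihw hW.2 true hX)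
      have e : evW (mkc n m) (m15 (m * n)) G GI (Wd.mul v w) true X = evW (mkc n m) (m15 (m * n)) G GI v true
        (evW (mkc n m) (m15 (m * n)) G GI w true X) := force_eq _ _
      rw [e]
      simpa [Wd.eval, Matrix.mul_assoc] using h1
  | pow v k ih =>
    have e : evW (mkc n m) (m15 (m * n)) G GI (Wd.pow v k) b X = (evW (mkc n m) (m15 (m * n)) G GI v b)^[k] X := itF_eq _ _ _
    rw [e]
    have key : ∀ (k : ℕ) (X : ℕ) (M : Matrix (Fin m) (Fin n) (ZMod 5)), Rep m n X M →
        Rep m n ((evW (mkc n m) (m15 (m * n)) G GI v b)^[k] X)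
          (M * (((if b then (v.eval u)⁻¹ else v.eval u : (Matrix (Fin n) (Fin n) (ZMod 5))ˣ) : Matrix (Fin n) (Fin n) (ZMod 5))) ^ k) := by
      intro k
      induction k with
      | zero => intro X M h; simpa using h
      | succ k ihk =>
        intro X M h
        rw [Function.iterate_succ_apply, pow_succ', ← Matrix.mul_assoc]
        exact ihk _ _ (ih hW b h)
    have h1 := key k X M hX
    cases b
    · simpa [Wd.eval] using h1
    · simpa [Wd.eval] using h1

/-- check of a relator -/
noncomputable def relM (mk mm id : ℕ) (G GI : ℕ → List ℕ) (W : Wd) : Bool := Nat.beq (evW mk mm G GI W false id) id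

theorem relM_sound {n : ℕ} (hn : 0 < n) (hn2 : n ≤ 200) {G GI : ℕ → List ℕ} {ng : ℕ} {u : ℕ → (Matrix (Fin n) (Fin n) (ZMod 5))ˣ}
    (hG : ∀ c < ng, RepR n (G c) (u c)) (hGI : ∀ c < ng, RepR n (GI c) ((u c)⁻¹ : (Matrix (Fin n) (Fin n) (ZMod 5))ˣ))
    (W : Wd) (hW : Cfsg.Agent.Lib.CoxBridge.lets ng W = true)
    (h : relM (mkc n n) (m15 (n * n)) (idX n) G GI W = true) : W.eval u = 1 := by
  have h1 := evW_rep hn hn2 hG hGI W hW false (idX_rep n)
  rw [Nat.eq_of_beq_eq_true h] at h1
  have h2 := h1.ext (idX_rep n)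
  rw [Matrix.one_mul] at h2
  exact Units.ext h2

end Cfsg.Agent.Lib.M5
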