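import Mathlib
import Cfsg.Agent.Lib.BlackburnCons
import Cfsg.Agent.Lib.Blackburn

/-!
Automorphisms of `p`-groups of maximal class acting by signs on the last three factors (helper59, for S5316)
-/

set_option autoImplicit false

open Subgroup
open scoped commutatorElement

namespace Cfsg.Agent.Lib.MCEnd

open Cfsg.Agent.Lib.BlackburnHP Cfsg.Agent.Lib.BlackburnChain Cfsg.Agent.Lib.BlackburnCons

universe u

variable {S : Type u} [Group S] {p n : ℕ} {G : ℕ → Subgroup S}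

theorem comm_aux {Q : Type*} [Group Q] {A X a b : Q} (h1 : Commute a X) (h2 : ∀ g, Commute b g)
    (h3 : Commute ⁅A, X⁆ A) (h4 : Commute ⁅A, X⁆ X) (u e : ℤ) :
    ⁅A ^ u * a, X ^ e * b⁆ = ⁅A, X⁆ ^ (u * e) := by
  rw [← Cfsg.Agent.Lib.Blackburn.zpow_comm h3 h4 u e]
  have e1 : A ^ u * a * (X ^ e * b) = A ^ u * X ^ e * a * b := by
    rw [mul_assoc, ← mul_assoc a, (h1.zpow_right e).eq]; group
  have e2 : (A ^ u * a)⁻¹ * (X ^ e * b)⁻¹ = a⁻¹ * (A ^ u)⁻¹ * (X ^ e)⁻¹ * b⁻¹ := by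
    rw [mul_inv_rev, mul_inv_rev, (h2 (X ^ e)).inv_inv.eq]
    group
  rw [commutatorElement_def, mul_assoc, e2, e1, commutatorElement_def]
  calc A ^ u * X ^ e * a * b * (a⁻¹ * (A ^ u)⁻¹ * (X ^ e)⁻¹ * b⁻¹)
      = A ^ u * X ^ e * a * (b * (a⁻¹ * (A ^ u)⁻¹ * (X ^ e)⁻¹)) * b⁻¹ := by group
    _ = A ^ u * X ^ e * a * ((a⁻¹ * (A ^ u)⁻¹ * (X ^ e)⁻¹) * b) * b⁻¹ := by rw [(h2 _).eq]
    _ = A ^ u * X ^ e * (A ^ u)⁻¹ * (X ^ e)⁻¹ := by group

theorem inv_of (h : MC p n G) {ρ : S →* S} (h1 : ∀ x ∈ G 1, ρ x ∈ G 1) : ∀ i, 1 ≤ i → ∀ x ∈ G i, ρ x ∈ G i := by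
  intro i hi
  induction i, hi using Nat.le_induction with
  | base => exact h1
  | succ i hi ih =>
    have h2 : (G i).map ρ ≤ G i := by
      rintro _ ⟨x, hx, rfl⟩
      exact ih x hx
    have h3 : (G (i + 1)).map ρ ≤ G (i + 1) := by
      rw [← h.comm i hi, Subgroup.map_commutator]
      exact commutator_mono h2 le_top
    intro x hx
    exact h3 ⟨x, hx, rfl⟩

theorem weights [hp : Fact p.Prime] (h : MC p n G) (htwo : ∀ i, 1 ≤ i → i + 3 ≤ n → ⁅G i, G 1⁆ ≤ G (i + 2))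
    {ρ : S →* S} (hinv : ∀ i, 1 ≤ i → ∀ x ∈ G i, ρ x ∈ G i) {u v : ℤ} {s : S} (hs : s ∉ G 1)
    (hs1 : (s ^ u)⁻¹ * ρ s ∈ G 1) (h1 : ∀ x ∈ G 1, (x ^ v)⁻¹ * ρ x ∈ G 2) :
    ∀ i, 1 ≤ i → i + 2 ≤ n → ∀ x ∈ G i, (x ^ (v * u ^ (i - 1)))⁻¹ * ρ x ∈ G (i + 1) := by
  intro i hi
  induction i, hi using Nat.le_induction with
  | base =>
    intro _ x hx
    rw [Nat.sub_self, pow_zero, mul_one]
    exact h1 x hx
  | succ i hi ih =>
    intro hin y hy
    have ih := ih (by omega)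
    obtain ⟨x, hx, hx'⟩ := h.exists_mem (i := i) (by omega)
    have hc := h.comm_mem hi s hx
    have hc' := h.not_comm hi (by omega) (htwo i hi (by omega)) hs hx hx'
    obtain ⟨k, w, hw, rfl⟩ := h.exists_zpow (by omega) hc hc' hy
    have hN := h.normal (i + 1 + 1)
    set N := G (i + 1 + 1) with hNdef
    set π := QuotientGroup.mk' N with hπ
    have hker : ∀ x : S, π x = 1 ↔ x ∈ N := fun x => by
      rw [hπ, QuotientGroup.mk'_apply, QuotientGroup.eq_one_iff]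
    have hcm : ∀ x y : S, ⁅x, y⁆ ∈ N → Commute (π x) (π y) := by
      intro x y hxy
      rw [← hker, map_commutatorElement] at hxy
      exact commutatorElement_eq_one_iff_commute.1 hxy
    have hcen : ∀ z ∈ G (i + 1), ∀ g : S ⧸ N, Commute (π z) g := by
      intro z hz g
      obtain ⟨g, rfl⟩ := QuotientGroup.mk'_surjective N g
      exact hcm _ _ (h.comm_mem' (by omega) g hz)
    have ha : Commute (π ((s ^ u)⁻¹ * ρ s)) (π x) := by
      apply hcm
      apply comm_symm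
      exact htwo i hi (by omega) (commutator_mem_commutator hx hs1)
    have hb : ∀ g, Commute (π ((x ^ (v * u ^ (i - 1)))⁻¹ * ρ x)) g := hcen _ (ih x hx)
    have key := comm_aux ha hb (A := π s) (by
      rw [← map_commutatorElement]; exact hcen _ hc _) (by
      rw [← map_commutatorElement]; exact hcen _ hc _) u (v * u ^ (i - 1))
    rw [← map_zpow, ← map_mul, mul_inv_cancel_left, ← map_zpow, ← map_mul, mul_inv_cancel_left,
      ← map_commutatorElement, ← map_commutatorElement, ← map_commutatorElement] at key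
    have e1 : u * (v * u ^ (i - 1)) = v * u ^ (i + 1 - 1) := by
      obtain ⟨j, rfl⟩ : ∃ j, i = j + 1 := ⟨i - 1, by omega⟩
      rw [show j + 1 - 1 = j by omega, show j + 1 + 1 - 1 = j + 1 by omega, pow_succ]; ring
    rw [e1] at key
    show _ ∈ N
    have hw1 : π w = 1 := (hker w).2 hw
    have hw2 : π (ρ w) = 1 := (hker _).2 (hinv _ (by omega) w hw)
    rw [← hker, map_mul, map_inv, map_zpow, map_mul, map_zpow, map_mul ρ, map_mul π, hw1, hw2, mul_one, mul_one, map_zpow ρ,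
      map_zpow π, key, ← zpow_mul, ← zpow_mul, mul_comm k, inv_mul_cancel]

theorem even_of_exceptional [hp : Fact p.Prime] (h : MC p n G) (hn : 5 ≤ n) (h2 : ⁅G 2, G 1⁆ ≤ G 4)
    (hex : ¬ ⁅G (n - 2), G 1⁆ ≤ G n) : Even n := by
  by_contra hodd
  rw [Nat.not_even_iff_odd] at hodd
  obtain ⟨m, hm⟩ := hodd
  have htwo := two_step h h2
  obtain ⟨s, -, hs⟩ := h.exists_mem (i := 0) (by omega)
  rw [zero_add] at hs
  have hU : MC.Unif G (n - 1) s := by
    intro i hi him x hx hx'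
    exact h.not_comm hi (by omega) (htwo i hi (by omega)) hs hx hx'
  obtain ⟨x1, hx1, hx1'⟩ := h.exists_mem (i := 1) (by omega)
  set X : ℕ → S := fun k => sq s x1 k with hX
  have hXm : ∀ k, X k ∈ G (k + 1) := fun k => by
    have := h.sq_mem s le_rfl hx1 k
    rwa [add_comm] at this
  have hXn : ∀ k, k + 3 ≤ n → X k ∉ G (k + 2) := fun k hk => by
    have := h.sq_not_mem hU le_rfl hx1 hx1' k (by omega)
    rwa [show 1 + k + 1 = k + 2 by omega] at this
  have hXs : ∀ k, ⁅s, X k⁆ = X (k + 1) := fun k => rfl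
  have hrel : ∀ k j, k + j + 4 = n → ⁅X k, X (j + 1)⁆ * ⁅X (k + 1), X j⁆ = 1 := by
    intro k j hkj
    have h1 := h.leibniz (i := k + 1) (j := j + 1) (by omega) (by omega) s (hXm k) (hXm j)
    rw [hXs, hXs] at h1
    have h1' := h.mem_bot' (by omega) h1
    rw [inv_mul_eq_one] at h1'
    have h2 : ⁅X k, X j⁆ ∈ G (n - 1) := by
      have h3 := h.wtb htwo (j + 1) (by omega) (k + 1) (by omega) (by omega)
        (commutator_mem_commutator (hXm k) (hXm j))
      rwa [show k + 1 + (j + 1) + 1 = n - 1 by omega] at h3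
    have h3 := h.comm_mem (i := n - 1) (by omega) s h2
    rw [h1', h.mem_bot' (by omega) h3]
  have hc : ∀ t, t + 1 ≤ m → ⁅X (m - 1 - t), X (m - 1 + t)⁆ = 1 := by
    intro t
    induction t with
    | zero => intro _; rw [Nat.sub_zero, Nat.add_zero, commutatorElement_self]
    | succ t ih =>
      intro ht
      have h1 := hrel (m - 1 - (t + 1)) (m - 1 + t) (by omega)
      rw [show m - 1 - (t + 1) + 1 = m - 1 - t by omega, ih (by omega), mul_one] at h1
      exact h1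
  have h0 := hc (m - 1) (by omega)
  rw [Nat.sub_self] at h0
  apply hex
  rw [commutator_comm]
  refine h.comm_le_of_gens (i := 1) (j := n - 2) le_rfl (by omega) (by omega) (by omega) (by omega)
    (x := X 0) (y := X (n - 3)) hx1 hx1' ?_ ?_ ?_
  · have := hXm (n - 3)
    rwa [show n - 3 + 1 = n - 2 by omega] at this
  · have := hXn (n - 3) (by omega)
    rwa [show n - 3 + 2 = n - 2 + 1 by omega] at this
  · rw [show n - 3 = m - 1 + (m - 1) by omega, h0]
    exact one_mem _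

/-- the elements of `G 1` centralizing `z2` lie in `G 2` in the exceptional case -/
theorem mem_two [hp : Fact p.Prime] (h : MC p n G) (hn : 5 ≤ n) (hex : ¬ ⁅G (n - 2), G 1⁆ ≤ G n) {z : S}
    (hz : z ∈ G (n - 2)) (hz' : z ∉ G (n - 1)) {r : S} (hr : r ∈ G 1) (hrz : ⁅r, z⁆ = 1) : r ∈ G 2 := by
  by_contra hr2
  apply hex
  rw [commutator_comm]
  refine h.comm_le_of_gens (i := 1) (j := n - 2) le_rfl (by omega) (by omega) (by omega) (by omega)
    hr hr2 hz (by rwa [show n - 2 + 1 = n - 1 by omega]) ?_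
  rw [hrz]; exact one_mem _

theorem comm_mul_left {z : S} {a b : S} (hz : ∀ g : S, Commute ⁅b, z⁆ g) : ⁅a * b, z⁆ = ⁅a, z⁆ * ⁅b, z⁆ := by
  have e : ⁅a * b, z⁆ = a * ⁅b, z⁆ * a⁻¹ * ⁅a, z⁆ := by simp only [commutatorElement_def]; group
  rw [e, ← (hz a).eq, mul_inv_cancel_right, (hz _).eq]

theorem sq_mem_imp [hp : Fact p.Prime] (hp2 : p ≠ 2) (h : MC p n G) {i : ℕ} (hi : i < n) {x : S} (hx : x ∈ G i)
    (h2 : x * x ∈ G (i + 1)) : x ∈ G (i + 1) := by
  have h1 := h.pow_mem hi hx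
  obtain ⟨m, hm⟩ := (hp.out.eq_two_or_odd'.resolve_left hp2)
  rw [hm, pow_add, pow_mul, pow_one, pow_two] at h1
  exact (Subgroup.mul_mem_cancel_left _ (Subgroup.pow_mem _ h2 m)).1 h1

theorem endA [hp : Fact p.Prime] (hp2 : p ≠ 2) (h : MC p n G) (hn : 5 ≤ n) (h2 : ⁅G 2, G 1⁆ ≤ G 4) (ρ : S ≃* S)
    (h1 : ∀ x ∈ G (n - 1), ρ x = x⁻¹) (h3 : ∀ x ∈ G (n - 3), x⁻¹ * ρ x ∈ G (n - 1)) : False := by
  have htwo := two_step h h2
  have hcen : ∀ c ∈ G (n - 1), ∀ g : S, Commute c g := by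
    intro c hc g
    have h1 := h.comm_mem' (i := n - 1) (by omega) g hc
    exact commutatorElement_eq_one_iff_commute.1 (h.mem_bot' (by omega) h1)
  have hle : G (n - 2) ≤ G (n - 3) := h.anti (by omega)
  have hle2 : G (n - 1) ≤ G (n - 3) := h.anti (by omega)
  -- (i)
  have hi : ∀ s : S, s⁻¹ * ρ s ∈ G 1 := by
    intro s
    by_contra hs
    obtain ⟨z, hz, hz'⟩ := h.exists_mem (i := n - 3) (by omega)
    have hnc := h.not_comm (i := n - 3) (by omega) (by omega) (htwo (n - 3) (by omega) (by omega)) hs hz hz'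
    apply hnc
    rw [show n - 3 + 2 = n - 1 by omega]
    have hsz : ⁅s, z⁆ ∈ G (n - 3) := hle (by
      have := h.comm_mem (i := n - 3) (by omega) s hz
      rwa [show n - 3 + 1 = n - 2 by omega] at this)
    have e1 := h3 _ hsz
    have e2 := h3 z hz
    set c := z⁻¹ * ρ z with hc
    have e3 : ρ z = z * c := by rw [hc, mul_inv_cancel_left]
    have e4 : ρ ⁅s, z⁆ = ⁅ρ s, z⁆ := by
      rw [map_commutatorElement, e3, commutatorElement_def, commutatorElement_def]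
      have := (hcen c e2)
      calc ρ s * (z * c) * (ρ s)⁻¹ * (z * c)⁻¹ = ρ s * z * (c * (ρ s)⁻¹ * c⁻¹) * z⁻¹ := by group
        _ = _ := by rw [(this _).eq, mul_inv_cancel_right]
    rw [e4] at e1
    have e5 : ⁅ρ s, z⁆ = s * ⁅s⁻¹ * ρ s, z⁆ * s⁻¹ * ⁅s, z⁆ := by simp only [commutatorElement_def]; group
    rw [e5] at e1
    have hN := h.normal (n - 1)
    have e6 := hN.conj_mem _ e1 (s⁻¹ * ⁅s, z⁆)
    have e7 : s⁻¹ * ⁅s, z⁆ * (⁅s, z⁆⁻¹ * (s * ⁅s⁻¹ * ρ s, z⁆ * s⁻¹ * ⁅s, z⁆)) * (s⁻¹ * ⁅s, z⁆)⁻¹ = ⁅s⁻¹ * ρ s, z⁆ := by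
      group
    rwa [e7] at e6
  have hinv := inv_of h (ρ := ρ.toMonoidHom) (fun x hx => by
    have := mul_mem hx (hi x)
    rwa [mul_inv_cancel_left] at this)
  -- (ii)
  obtain ⟨z, hz, hz'⟩ := h.exists_mem (i := n - 2) (by omega)
  rw [show n - 2 + 1 = n - 1 by omega] at hz'
  have hsz : ∀ s : S, ⁅s, z⁆ ∈ G (n - 1) := fun s => by
    have := h.comm_mem (i := n - 2) (by omega) s hz
    rwa [show n - 2 + 1 = n - 1 by omega] at this
  have hii : ∀ s : S, ⁅ρ s, z⁆ = ⁅s, z⁆⁻¹ := by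
    intro s
    rw [← h1 _ (hsz s), map_commutatorElement]
    have e2 := h3 z (hle hz)
    set c := z⁻¹ * ρ z with hc
    have e3 : ρ z = z * c := by rw [hc, mul_inv_cancel_left]
    rw [e3, commutatorElement_def, commutatorElement_def]
    calc ρ s * z * (ρ s)⁻¹ * z⁻¹ = ρ s * z * ((ρ s)⁻¹ * c * c⁻¹) * z⁻¹ := by group
      _ = ρ s * z * (c * (ρ s)⁻¹ * c⁻¹) * z⁻¹ := by rw [(hcen c e2 _).eq]
      _ = _ := by group
  have hmul : ∀ a b : S, ⁅a * b, z⁆ = ⁅a, z⁆ * ⁅b, z⁆ := fun a b => comm_mul_left (hcen _ (hsz b))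
  obtain ⟨s, -, hs⟩ := h.exists_mem (i := 0) (by omega)
  rw [zero_add] at hs
  by_cases hex : ⁅G (n - 2), G 1⁆ ≤ G n
  · have hnc := h.not_comm (i := n - 2) (by omega) (by omega) (by rwa [show n - 2 + 2 = n by omega]) hs hz
      (by rwa [show n - 2 + 1 = n - 1 by omega])
    apply hnc
    rw [show n - 2 + 2 = n by omega]
    have e1 := hmul s (s⁻¹ * ρ s)
    rw [mul_inv_cancel_left, hii s] at e1
    have e2 : ⁅s⁻¹ * ρ s, z⁆ = 1 :=
      h.mem_bot' le_rfl (comm_symm _ (hex (commutator_mem_commutator hz (hi s))))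
    rw [e2, mul_one] at e1
    have e3 : ⁅s, z⁆ * ⁅s, z⁆ ∈ G (n - 1 + 1) := by
      nth_rewrite 1 [← e1]
      rw [inv_mul_cancel]; exact one_mem _
    have e4 := sq_mem_imp hp2 h (by omega) (hsz s) e3
    rwa [show n - 1 + 1 = n by omega] at e4
  · have hbase : ∀ x ∈ G 1, (x ^ (-1 : ℤ))⁻¹ * ρ.toMonoidHom x ∈ G 2 := by
      intro x hx
      rw [zpow_neg_one, inv_inv]
      refine mem_two h hn hex hz hz' (mul_mem hx (hinv 1 le_rfl x hx)) ?_
      rw [hmul]
      show ⁅x, z⁆ * ⁅ρ x, z⁆ = 1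
      rw [hii, mul_inv_cancel]
    have hw := weights h htwo hinv (u := 1) (v := -1) hs (by rw [zpow_one]; exact hi s) hbase (n - 2) (by omega)
      (by omega) z hz
    rw [one_pow, mul_one, zpow_neg_one, inv_inv] at hw
    have e2 := h3 z (hle hz)
    apply hz'
    have e3 := sq_mem_imp hp2 h (i := n - 2) (by omega) hz (by
      rw [show n - 2 + 1 = n - 1 by omega] at hw ⊢
      have := mul_mem hw (inv_mem e2)
      rwa [mul_inv_rev, inv_inv, mul_assoc z, ← mul_assoc (ρ.toMonoidHom z),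
        show ρ.toMonoidHom z * (ρ z)⁻¹ = 1 from mul_inv_cancel _, one_mul] at this)
    rwa [show n - 2 + 1 = n - 1 by omega] at e3

theorem endB [hp : Fact p.Prime] (hp2 : p ≠ 2) (h : MC p n G) (hn : 5 ≤ n) (h2 : ⁅G 2, G 1⁆ ≤ G 4)
    (hex : ¬ ⁅G (n - 2), G 1⁆ ≤ G n) (ρ : S ≃* S)
    (h1 : ∀ x ∈ G (n - 1), ρ x = x) (hz2 : ∀ x ∈ G (n - 2), x * ρ x ∈ G (n - 1))
    (h3 : ∀ x ∈ G (n - 3), x⁻¹ * ρ x ∈ G (n - 2)) : False := by
  have htwo := two_step h h2
  have hcen : ∀ c ∈ G (n - 1), ∀ g : S, Commute c g := by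
    intro c hc g
    have h1 := h.comm_mem' (i := n - 1) (by omega) g hc
    exact commutatorElement_eq_one_iff_commute.1 (h.mem_bot' (by omega) h1)
  obtain ⟨z, hz, hz'⟩ := h.exists_mem (i := n - 2) (by omega)
  rw [show n - 2 + 1 = n - 1 by omega] at hz'
  have hsz : ∀ s : S, ⁅s, z⁆ ∈ G (n - 1) := fun s => by
    have := h.comm_mem (i := n - 2) (by omega) s hz
    rwa [show n - 2 + 1 = n - 1 by omega] at this
  have hmul : ∀ a b : S, ⁅a * b, z⁆ = ⁅a, z⁆ * ⁅b, z⁆ := fun a b => comm_mul_left (hcen _ (hsz b))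
  -- `ρ(s) s` centralizes `z2`
  have hii : ∀ s : S, ⁅ρ s, z⁆ = ⁅s, z⁆⁻¹ := by
    intro s
    have e1 := h1 _ (hsz s)
    rw [map_commutatorElement] at e1
    set c := z * ρ z with hc
    have hcm := hz2 z hz
    rw [← hc] at hcm
    have e3 : ρ z = z⁻¹ * c := by rw [hc, inv_mul_cancel_left]
    rw [e3] at e1
    have e4 : ⁅ρ s, z⁻¹ * c⁆ = ⁅ρ s, z⁆⁻¹ := by
      have e5 : ⁅ρ s, z⁻¹ * c⁆ = ρ s * z⁻¹ * (c * (ρ s)⁻¹ * c⁻¹) * z := by
        rw [commutatorElement_def]; group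
      rw [e5, (hcen c hcm _).eq, mul_inv_cancel_right]
      have e6 : ρ s * z⁻¹ * (ρ s)⁻¹ * z = z⁻¹ * (⁅ρ s, z⁆⁻¹) * z := by
        rw [commutatorElement_def]; group
      rw [e6, mul_assoc, (hcen _ (inv_mem (hsz (ρ s))) z).eq, inv_mul_cancel_left]
    rw [e4] at e1
    rw [← e1, inv_inv]
  -- `ρ(s) s ∈ G 1`
  have hi : ∀ s : S, s * ρ s ∈ G 1 := by
    intro s
    by_contra hs
    obtain ⟨y, hy, hy'⟩ := h.exists_mem (i := n - 3) (by omega)
    have hnc := h.not_comm (i := n - 3) (by omega) (by omega) (htwo (n - 3) (by omega) (by omega)) hs hy hy'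
    apply hnc
    rw [show n - 3 + 2 = n - 1 by omega]
    have hN := h.normal (n - 1)
    set N := G (n - 1) with hNdef
    set π := QuotientGroup.mk' N with hπ
    have hker : ∀ x : S, π x = 1 ↔ x ∈ N := fun x => by
      rw [hπ, QuotientGroup.mk'_apply, QuotientGroup.eq_one_iff]
    have hcm : ∀ x y : S, ⁅x, y⁆ ∈ N → Commute (π x) (π y) := by
      intro x y hxy
      rw [← hker, map_commutatorElement] at hxy
      exact commutatorElement_eq_one_iff_commute.1 hxy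
    have hcen2 : ∀ z ∈ G (n - 2), ∀ g : S ⧸ N, Commute (π z) g := by
      intro z hz g
      obtain ⟨g, rfl⟩ := QuotientGroup.mk'_surjective N g
      refine hcm _ _ ?_
      have := h.comm_mem' (i := n - 2) (by omega) g hz
      rwa [show n - 2 + 1 = n - 1 by omega] at this
    have hsy : ∀ g : S, ⁅g, y⁆ ∈ G (n - 2) := fun g => by
      have := h.comm_mem (i := n - 3) (by omega) g hy
      rwa [show n - 3 + 1 = n - 2 by omega] at this
    have e1 := hz2 _ (hsy s)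
    rw [← hker, map_mul, map_commutatorElement ρ] at e1
    have e3 : ρ y = y * (y⁻¹ * ρ y) := by rw [mul_inv_cancel_left]
    set d := y⁻¹ * ρ y with hd
    have hdm : ∀ g, Commute (π d) g := hcen2 d (h3 y hy)
    have e4 : π ⁅ρ s, ρ y⁆ = π ⁅ρ s, y⁆ := by
      rw [e3, map_commutatorElement, map_commutatorElement, map_mul, commutatorElement_def, commutatorElement_def]
      calc π (ρ s) * (π y * π d) * (π (ρ s))⁻¹ * (π y * π d)⁻¹
          = π (ρ s) * π y * (π d * (π (ρ s))⁻¹ * (π d)⁻¹) * (π y)⁻¹ := by group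
        _ = _ := by rw [(hdm _).eq, mul_inv_cancel_right]
    rw [e4, map_commutatorElement, map_commutatorElement] at e1
    rw [← hker, map_commutatorElement, map_mul, comm_mul_left (fun g => by
      rw [← map_commutatorElement]; exact hcen2 _ (hsy _) g)]
    exact e1
  have hg2 : ∀ s : S, s * ρ s ∈ G 2 := by
    intro s
    refine mem_two h hn hex hz hz' (hi s) ?_
    rw [hmul, hii, mul_inv_cancel]
  obtain ⟨s, -, hs⟩ := h.exists_mem (i := 0) (by omega)
  rw [zero_add] at hs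
  have hinv := inv_of h (ρ := ρ.toMonoidHom) (fun x hx => by
    have := mul_mem (inv_mem hx) (hi x)
    rwa [inv_mul_cancel_left] at this)
  have hw := weights h htwo hinv (u := -1) (v := -1) hs (by
    rw [zpow_neg_one, inv_inv]; exact hi s) (fun x hx => by
    rw [zpow_neg_one, inv_inv]; exact hg2 x) (n - 2) (by omega) (by omega) z hz
  have heven := even_of_exceptional h hn h2 hex
  have e1 : (-1 : ℤ) * (-1) ^ (n - 2 - 1) = 1 := by
    obtain ⟨m, hm⟩ := heven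
    rw [← pow_succ', show n - 2 - 1 + 1 = 2 * (m - 1) by omega, pow_mul]
    norm_num
  rw [e1, zpow_one, show n - 2 + 1 = n - 1 by omega] at hw
  apply hz'
  have e3 := sq_mem_imp hp2 h (i := n - 2) (by omega) hz (by
    rw [show n - 2 + 1 = n - 1 by omega]
    have := mul_mem (hz2 z hz) (inv_mem hw)
    rwa [mul_inv_rev, inv_inv, mul_assoc z, ← mul_assoc (ρ z),
      show ρ z * (ρ.toMonoidHom z)⁻¹ = 1 from mul_inv_cancel _, one_mul] at this)
  rwa [show n - 2 + 1 = n - 1 by omega] at e3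

end Cfsg.Agent.Lib.MCEnd
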