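import Mathlib
import Cfsg.Agent.Lib.FusionSat
import Cfsg.Agent.Lib.EssChain

/-!
# An automorphism of `N_S(E)` fixes `Z` (helper29; piece of helper99's S5316)
-/

set_option autoImplicit false

namespace Cfsg.Agent.Lib.MCFix

open Cfsg Cfsg.FusionSystem Cfsg.Agent.Lib.FusionBasic Cfsg.Agent.Lib.FusionSat

theorem card_le_of_gen {Ω : Type*} [Group Ω] {p : ℕ} (hp : 0 < p) {N E : Subgroup Ω} (hEN : E ≤ N) [Finite N] {u : Ω} (hu : u ∈ N)
    (hup : u ^ p ∈ E) (hgen : ∀ t ∈ N, ∃ k : ℤ, ∃ v ∈ E, t = u ^ k * v) : Nat.card N ≤ p * Nat.card E := by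
  have : Finite E := Finite.of_injective _ (Subgroup.inclusion_injective hEN)
  let f : Fin p × E → N := fun x => ⟨u ^ (x.1 : ℕ) * (x.2 : Ω), N.mul_mem (N.pow_mem hu _) (hEN x.2.2)⟩
  have hf : Function.Surjective f := by
    rintro ⟨t, ht⟩
    obtain ⟨k, v, hv, rfl⟩ := hgen t ht
    have hp' : (0 : ℤ) < p := by exact_mod_cast hp
    have h1 : 0 ≤ k % p := Int.emod_nonneg _ hp'.ne'
    have h2 : k % p < p := Int.emod_lt_of_pos _ hp'
    have h3 : ((k % p).toNat : ℤ) = k % p := Int.toNat_of_nonneg h1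
    refine ⟨(⟨(k % p).toNat, by omega⟩, ⟨(u ^ p) ^ (k / p) * v, E.mul_mem (E.zpow_mem hup _) hv⟩), ?_⟩
    apply Subtype.ext
    show u ^ ((k % p).toNat) * ((u ^ p) ^ (k / p) * v) = u ^ k * v
    rw [← mul_assoc, ← zpow_natCast, h3, ← zpow_natCast u p, ← zpow_mul, ← zpow_add]
    congr 2
    rw [add_comm]
    exact Int.mul_ediv_add_emod k p
  have h1 := Nat.card_le_card_of_surjective f hf
  rwa [Nat.card_prod, Nat.card_fin] at h1

theorem card_pow_lt {Ω : Type*} [Group Ω] {p : ℕ} [Fact p.Prime] {A B : Subgroup Ω} [Finite B] (hB : IsPGroup p B) (hAB : A ≤ B) {x : Ω}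
    (hx : x ∈ B) (hxA : x ∉ A) : p * Nat.card A ≤ Nat.card B := by
  have hfA : Finite A := Finite.of_injective _ (Subgroup.inclusion_injective hAB)
  have hA : IsPGroup p A := by
    intro y
    obtain ⟨k, hk⟩ := hB ⟨y, hAB y.2⟩
    have hk' : (y : Ω) ^ p ^ k = 1 := congrArg Subtype.val hk
    exact ⟨k, Subtype.ext hk'⟩
  obtain ⟨a, ha⟩ := IsPGroup.iff_card.mp hA
  obtain ⟨b, hb⟩ := IsPGroup.iff_card.mp hB
  have h1 : Nat.card A < Nat.card B := by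
    refine lt_of_le_of_ne (Nat.card_le_card_of_injective _ (Subgroup.inclusion_injective hAB)) ?_
    intro h
    exact hxA (Subgroup.eq_of_le_of_card_ge hAB h.ge ▸ hx)
  have hp : p.Prime := Fact.out
  rw [ha, hb] at h1 ⊢
  have h2 := (Nat.pow_lt_pow_iff_right hp.one_lt).1 h1
  rw [← pow_succ']
  exact Nat.pow_le_pow_right hp.pos h2

/-- generation of an abelian group by a subgroup of index `p` and an element outside -/
theorem gen_of_card {Ω : Type*} [Group Ω] {p : ℕ} [Fact p.Prime] {A B : Subgroup Ω} [Finite B] (hB : IsPGroup p B) (hAB : A ≤ B)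
    (hab : ∀ x ∈ B, ∀ y ∈ B, x * y = y * x) (hc : Nat.card B ≤ p * Nat.card A) {z : Ω} (hz : z ∈ B) (hzA : z ∉ A) {y : Ω} (hy : y ∈ B) :
    ∃ k : ℤ, ∃ a ∈ A, y = z ^ k * a := by
  let C : Subgroup Ω :=
    { carrier := {y | ∃ k : ℤ, ∃ a ∈ A, y = z ^ k * a}
      one_mem' := ⟨0, 1, A.one_mem, by simp⟩
      mul_mem' := by
        rintro _ _ ⟨k, a, ha, rfl⟩ ⟨l, b, hb, rfl⟩
        refine ⟨k + l, a * b, A.mul_mem ha hb, ?_⟩
        have h1 : a * z ^ l = z ^ l * a := hab _ (hAB ha) _ (B.zpow_mem hz l)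
        calc z ^ k * a * (z ^ l * b) = z ^ k * (a * z ^ l) * b := by group
          _ = z ^ k * (z ^ l * a) * b := by rw [h1]
          _ = z ^ (k + l) * (a * b) := by rw [zpow_add]; group
      inv_mem' := by
        rintro _ ⟨k, a, ha, rfl⟩
        refine ⟨-k, a⁻¹, A.inv_mem ha, ?_⟩
        have h1 : a⁻¹ * z ^ (-k) = z ^ (-k) * a⁻¹ := hab _ (hAB (A.inv_mem ha)) _ (B.zpow_mem hz _)
        rw [mul_inv_rev, ← zpow_neg, h1] }
  have hAC : A ≤ C := fun a ha => ⟨0, a, ha, by simp⟩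
  have hzC : z ∈ C := ⟨1, 1, A.one_mem, by simp⟩
  have hCB : C ≤ B := by
    rintro _ ⟨k, a, ha, rfl⟩
    exact B.mul_mem (B.zpow_mem hz k) (hAB ha)
  have hfC : Finite C := Finite.of_injective _ (Subgroup.inclusion_injective hCB)
  have hC : IsPGroup p C := by
    intro y
    obtain ⟨k, hk⟩ := hB ⟨y, hCB y.2⟩
    have hk' : (y : Ω) ^ p ^ k = 1 := congrArg Subtype.val hk
    exact ⟨k, Subtype.ext hk'⟩
  have h1 := card_pow_lt hC hAC hzC hzA
  have h2 := Subgroup.eq_of_le_of_card_ge hCB (hc.trans h1)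
  have h3 : y ∈ C := by rw [h2]; exact hy
  exact h3

theorem fix_Z {Ω : Type*} [Group Ω] {S : Subgroup Ω} {F : FusionSystem S} {p : ℕ} [Finite S] [hp : Fact p.Prime] (hS : IsPGroup p S)
    {E Z : Subgroup Ω} (hZS : Z ≤ S)
    (hfn : F.IsFullyNormalized E) (hcen : ∀ s ∈ S, (∀ x ∈ E, s * x * s⁻¹ = x) → s ∈ E) (hab : ∀ x ∈ E, ∀ y ∈ E, x * y = y * x)
    (hZab : ∀ x ∈ Z, ∀ y ∈ Z, x * y = y * x) (hZn : ∀ s ∈ S, ∀ z ∈ Z, s * z * s⁻¹ ∈ Z) (hcE : Nat.card E = p ^ 3) (hcZ : Nat.card Z = p ^ 3)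
    (hSc : p ^ 5 ≤ Nat.card S) {u : Ω} (hu : u ∈ Z) (huE : u ∉ E) (hN : ∀ t ∈ normalizerIn S E, ∃ k : ℤ, ∃ v ∈ E, t = u ^ k * v)
    (hup : u ^ p ∈ E) (hZN : Z ≤ normalizerIn S E) {g : Ω → Ω} (hg : FIso F (normalizerIn S E) (normalizerIn S E) g) (hgE : FIso F E E g)
    (hgu : ∀ x ∈ normalizerIn S E, x⁻¹ * g x ∈ E) :
    (∀ z ∈ Z, g z ∈ Z) ∧ Nat.card (E ⊓ Z : Subgroup Ω) = p ^ 2 ∧ Nat.card (normalizerIn S E) = p ^ 4 ∧ ¬ F.IsConj E Z := by
  have hpp : p.Prime := hp.out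
  have hES : E ≤ S := hfn.1
  have hEN : E ≤ normalizerIn S E := le_normalizerIn hES
  have hNS : normalizerIn S E ≤ S := normalizerIn_le S E
  have hfN : Finite (normalizerIn S E) := finite_of_le hNS
  have hfE : Finite E := finite_of_le hES
  have hfZ : Finite Z := finite_of_le hZS
  have hpN : IsPGroup p (normalizerIn S E) := isPGroup_of_le hS hNS
  have hpZ : IsPGroup p Z := isPGroup_of_le hS hZS
  have hpE : IsPGroup p E := isPGroup_of_le hS hES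
  have huN : u ∈ normalizerIn S E := hZN hu
  have huS : u ∈ S := hZS hu
  have hE0E : E ⊓ Z ≤ E := inf_le_left
  have hE0Z : E ⊓ Z ≤ Z := inf_le_right
  have hfE0 : Finite (E ⊓ Z : Subgroup Ω) := finite_of_le (hE0E.trans hES)
  -- orders
  have hZgen : ∀ t ∈ Z, ∃ k : ℤ, ∃ v ∈ E ⊓ Z, t = u ^ k * v := by
    intro t ht
    obtain ⟨k, v, hv, hkv⟩ := hN t (hZN ht)
    refine ⟨k, v, ⟨hv, ?_⟩, hkv⟩
    have h1 : v = (u ^ k)⁻¹ * t := by rw [hkv]; group
    rw [h1]; exact Z.mul_mem (Z.inv_mem (Z.zpow_mem hu k)) ht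
  have hcE0 : Nat.card (E ⊓ Z : Subgroup Ω) = p ^ 2 := by
    have h1 := card_le_of_gen hpp.pos hE0Z hu ⟨hup, Z.pow_mem hu p⟩ hZgen
    have h2 := card_pow_lt hpZ hE0Z hu (fun h => huE h.1)
    rw [hcZ] at h1 h2
    have h3 : p * Nat.card (E ⊓ Z : Subgroup Ω) = p * p ^ 2 := by
      rw [← pow_succ' p 2]
      exact le_antisymm h2 h1
    exact Nat.eq_of_mul_eq_mul_left hpp.pos h3
  have hcN : Nat.card (normalizerIn S E) = p ^ 4 := by
    have h1 := card_le_of_gen hpp.pos hEN huN hup hN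
    have h2 := card_pow_lt hpN hEN huN huE
    rw [hcE] at h1 h2
    rw [show p ^ 4 = p * p ^ 3 by ring]
    exact le_antisymm h1 h2
  have hnc : ¬ F.IsConj E Z := by
    intro h
    have h1 := hfn.2 Z h
    have h2 : normalizerIn S Z = S := by
      refine le_antisymm (normalizerIn_le S Z) (le_inf le_rfl fun s hs => ?_)
      rw [Subgroup.mem_normalizer_iff]
      intro x
      constructor
      · exact hZn s hs x
      · intro hx
        have h3 := hZn _ (S.inv_mem hs) _ hx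
        have h4 : s⁻¹ * (s * x * s⁻¹) * s⁻¹⁻¹ = x := by group
        rwa [h4] at h3
    rw [h2, hcN] at h1
    have h3 : p ^ 4 < p ^ 5 := Nat.pow_lt_pow_right hpp.one_lt (by norm_num)
    omega
  refine ⟨?_, hcE0, hcN, hnc⟩
  -- `E0` is the centre of `N`
  have hcu : ∀ v ∈ E, u * v = v * u → v ∈ E ⊓ Z := by
    intro v hv hvu
    by_contra hvZ
    apply huE
    refine hcen u huS fun x hx => ?_
    obtain ⟨k, a, ha, rfl⟩ := gen_of_card hpE hE0E hab (by rw [hcE, hcE0]; exact le_of_eq (by ring)) hv hvZ hx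
    have h1 : u * a = a * u := hZab u hu a ha.2
    have h2 : Commute u (v ^ k * a) := by
      refine Commute.mul_right (Commute.zpow_right hvu k) h1
    rw [h2.eq]; group
  have hE0c : ∀ v ∈ E ⊓ Z, ∀ y ∈ normalizerIn S E, v * y = y * v := by
    intro v hv y hy
    obtain ⟨k, a, ha, rfl⟩ := hN y hy
    have h1 : Commute v (u ^ k) := Commute.zpow_right (hZab v hv.2 u hu) k
    have h2 : Commute v a := hab v hv.1 a ha
    exact (h1.mul_right h2).eq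
  have hcent : ∀ x ∈ S, (∀ y ∈ normalizerIn S E, x * y = y * x) → x ∈ E ⊓ Z := by
    intro x hx h
    refine hcu x (hcen x hx fun y hy => ?_) (h u huN).symm
    rw [h y (hEN hy)]; group
  have hgE0 : ∀ v ∈ E ⊓ Z, g v ∈ E ⊓ Z := by
    intro v hv
    refine hcent _ (hg.map.map_mem (hEN hv.1)) fun y hy => ?_
    obtain ⟨x, hx, rfl⟩ := (hg.2 y).1 hy
    rw [← hg.map.map_mul (hEN hv.1) hx, ← hg.map.map_mul hx (hEN hv.1), hE0c v hv x hx]
  -- an element of the normalizer of `N`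
  have hlt : normalizerIn S E < S := by
    refine lt_of_le_of_ne hNS fun h => ?_
    have h1 : Nat.card (normalizerIn S E) = Nat.card S := by rw [h]
    rw [hcN] at h1
    have h3 : p ^ 4 < p ^ 5 := Nat.pow_lt_pow_right hpp.one_lt (by norm_num)
    omega
  obtain ⟨w, hw, hwN⟩ := SetLike.exists_of_lt (lt_normalizerIn hS le_rfl hlt)
  have hwS : w ∈ S := (mem_normalizerIn.1 hw).1
  have hwn := (mem_normalizerIn.1 hw).2
  have hconjN : ∀ x ∈ normalizerIn S E, w * x * w⁻¹ ∈ normalizerIn S E := fun x hx =>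
    (Subgroup.mem_normalizer_iff.1 hwn x).1 hx
  have hconjN' : ∀ x ∈ normalizerIn S E, w⁻¹ * x * w ∈ normalizerIn S E := fun x hx => by
    refine (Subgroup.mem_normalizer_iff.1 hwn _).2 ?_
    have h1 : w * (w⁻¹ * x * w) * w⁻¹ = x := by group
    rwa [h1]
  have hconjE0 : ∀ x ∈ E ⊓ Z, w * x * w⁻¹ ∈ E ⊓ Z := by
    intro x hx
    refine hcent _ (S.mul_mem (S.mul_mem hwS (hES hx.1)) (S.inv_mem hwS)) fun y hy => ?_
    have h1 := hE0c x hx _ (hconjN' y hy)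
    calc w * x * w⁻¹ * y = w * (x * (w⁻¹ * y * w)) * w⁻¹ := by group
      _ = w * (w⁻¹ * y * w * x) * w⁻¹ := by rw [h1]
      _ = y * (w * x * w⁻¹) := by group
  have hconjE0' : ∀ x ∈ E ⊓ Z, w⁻¹ * x * w ∈ E ⊓ Z := by
    intro x hx
    refine hcent _ (S.mul_mem (S.mul_mem (S.inv_mem hwS) (hES hx.1)) hwS) fun y hy => ?_
    have h1 := hE0c x hx _ (hconjN y hy)
    calc w⁻¹ * x * w * y = w⁻¹ * (x * (w * y * w⁻¹)) * w := by group
      _ = w⁻¹ * (w * y * w⁻¹ * x) * w := by rw [h1]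
      _ = y * (w⁻¹ * x * w) := by group
  -- the action of `w`
  obtain ⟨k, hk⟩ := hS ⟨w, hwS⟩
  have hk' : w ^ (p ^ k) = 1 := congrArg Subtype.val hk
  have hpow : ∀ (n : ℕ) (x : normalizerIn S E), (((conjAut (normalizerIn S E) w hwn ^ n) x : normalizerIn S E) : Ω) =
      w ^ n * x * (w ^ n)⁻¹ := by
    intro n
    induction n with
    | zero => intro x; simp
    | succ n ih =>
      intro x
      rw [pow_succ', MulAut.mul_apply, conjAut_apply, ih, pow_succ']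
      group
  have hτ : (conjAut (normalizerIn S E) w hwn) ^ (p ^ k) = 1 := by
    ext x
    rw [hpow, hk']
    simp
  have hnE0 : ((E ⊓ Z).subgroupOf (normalizerIn S E)).Normal := by
    refine ⟨fun x hx y => ?_⟩
    rw [Subgroup.mem_subgroupOf] at hx ⊢
    have h1 := hE0c x hx y y.2
    have h2 : ((y * x * y⁻¹ : normalizerIn S E) : Ω) = x := by
      show (y : Ω) * x * (y : Ω)⁻¹ = x
      rw [← h1]; group
    rw [h2]; exact hx
  have hnZ : (Z.subgroupOf (normalizerIn S E)).Normal := by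
    refine ⟨fun x hx y => ?_⟩
    rw [Subgroup.mem_subgroupOf] at hx ⊢
    exact hZn y (hNS y.2) x hx
  have hf1 : ∀ x ∈ Z, x⁻¹ * (w * x * w⁻¹) ∈ E ⊓ Z := by
    intro x hx
    have h1 := Cfsg.Agent.Lib.EssChain.trivial_on_factor hpN hτ (N := (E ⊓ Z).subgroupOf (normalizerIn S E))
      (L := Z.subgroupOf (normalizerIn S E)) (fun y hy => hE0Z hy) (by
        rw [Nat.card_congr (Subgroup.subgroupOfEquivOfLe hZN).toEquiv,
          Nat.card_congr (Subgroup.subgroupOfEquivOfLe (hE0E.trans hEN)).toEquiv, hcZ, hcE0]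
        exact le_of_eq (by ring)) (fun y hy => hconjE0 y hy) (fun y hy => hZn w hwS y hy) ⟨x, hZN hx⟩ hx
    exact h1
  have hf2 : ∀ x ∈ normalizerIn S E, x⁻¹ * (w * x * w⁻¹) ∈ Z := by
    intro x hx
    have h1 := Cfsg.Agent.Lib.EssChain.trivial_on_factor hpN hτ (N := Z.subgroupOf (normalizerIn S E))
      (L := ⊤) le_top (by
        rw [Subgroup.card_top, Nat.card_congr (Subgroup.subgroupOfEquivOfLe hZN).toEquiv, hcZ, hcN]
        exact le_of_eq (by ring)) (fun y hy => hZn w hwS y hy) (fun y _ => Subgroup.mem_top _) ⟨x, hx⟩ (Subgroup.mem_top _)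
    exact h1
  -- the contradiction
  intro z hz
  by_contra hgz
  have hzN := hZN hz
  have hz0 : z ∉ E ⊓ Z := fun h => hgz (hgE0 z h).2
  obtain ⟨v, hv⟩ : ∃ v, v = z⁻¹ * g z := ⟨_, rfl⟩
  have hvE : v ∈ E := by rw [hv]; exact hgu z hzN
  have hgzv : g z = z * v := by rw [hv]; group
  have hvZ : v ∉ E ⊓ Z := by
    intro h
    apply hgz
    rw [hgzv]
    exact Z.mul_mem hz h.2
  have hvN := hEN hvE
  obtain ⟨z1, hz1⟩ : ∃ z1, z1 = v⁻¹ * (w * v * w⁻¹) := ⟨_, rfl⟩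
  have hz1Z : z1 ∈ Z := by rw [hz1]; exact hf2 v hvN
  have hwv : w * v * w⁻¹ = v * z1 := by rw [hz1]; group
  have hEgen : ∀ y ∈ E, ∃ k : ℤ, ∃ a ∈ E ⊓ Z, y = v ^ k * a := fun y hy =>
    gen_of_card hpE hE0E hab (by rw [hcE, hcE0]; exact le_of_eq (by ring)) hvE hvZ hy
  have hz10 : z1 ∉ E ⊓ Z := by
    intro h
    apply hwN
    have h1 : ∀ y ∈ E, w * y * w⁻¹ ∈ E := by
      intro y hy
      obtain ⟨k, a, ha, rfl⟩ := hEgen y hy
      have h2 : w * (v ^ k * a) * w⁻¹ = (w * v * w⁻¹) ^ k * (w * a * w⁻¹) := by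
        rw [conj_zpow]; group
      rw [h2, hwv]
      exact E.mul_mem (E.zpow_mem (E.mul_mem hvE h.1) k) (hconjE0 a ha).1
    refine ⟨hwS, ?_⟩
    exact mem_normalizer_of_aut (P := E) (α := MulEquiv.ofBijective
      ({ toFun := fun y => ⟨w * y * w⁻¹, h1 y y.2⟩
         map_one' := by apply Subtype.ext; simp
         map_mul' := fun a b => by apply Subtype.ext; simp } : E →* E)
      (Finite.injective_iff_bijective.1 (fun a b hab => by
        have h3 := congrArg Subtype.val hab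
        have h4 : w * (a : Ω) * w⁻¹ = w * (b : Ω) * w⁻¹ := h3
        exact Subtype.ext (mul_left_cancel (mul_right_cancel h4))))) (fun x => rfl)
  have hind : ∀ j : ℕ, ∃ e ∈ E ⊓ Z, w ^ j * v * (w ^ j)⁻¹ = v * z1 ^ j * e := by
    intro j
    induction j with
    | zero => exact ⟨1, Subgroup.one_mem _, by simp⟩
    | succ j ih =>
      obtain ⟨e, he, h1⟩ := ih
      have h2 : ∀ i : ℕ, ∃ e' ∈ E ⊓ Z, w * z1 ^ i * w⁻¹ = z1 ^ i * e' := fun i =>
        ⟨_, hf1 _ (Z.pow_mem hz1Z i), by group⟩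
      obtain ⟨e', he', h3⟩ := h2 j
      refine ⟨e' * (w * e * w⁻¹), Subgroup.mul_mem _ he' (hconjE0 e he), ?_⟩
      calc w ^ (j + 1) * v * (w ^ (j + 1))⁻¹ = w * (w ^ j * v * (w ^ j)⁻¹) * w⁻¹ := by rw [pow_succ']; group
        _ = w * (v * z1 ^ j * e) * w⁻¹ := by rw [h1]
        _ = (w * v * w⁻¹) * (w * z1 ^ j * w⁻¹) * (w * e * w⁻¹) := by group
        _ = v * z1 * (z1 ^ j * e') * (w * e * w⁻¹) := by rw [hwv, h3]
        _ = v * z1 ^ (j + 1) * (e' * (w * e * w⁻¹)) := by rw [pow_succ']; group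
  obtain ⟨z', hz'⟩ : ∃ z', z' = v⁻¹ * z * v := ⟨_, rfl⟩
  have hz'Z : z' ∈ Z := by
    have := hZn v⁻¹ (S.inv_mem (hES hvE)) z hz
    rw [inv_inv] at this
    rw [hz']; exact this
  obtain ⟨i, a, ha, hia⟩ := gen_of_card hpZ hE0Z hZab (by rw [hcZ, hcE0]; exact le_of_eq (by ring)) hz1Z hz10 hz'Z
  obtain ⟨j, hj⟩ : ∃ j : ℕ, z1 ^ j = z1 ^ i := by
    have h1 : ((⟨z1, hZS hz1Z⟩ : S) ^ i) ∈ Subgroup.zpowers (⟨z1, hZS hz1Z⟩ : S) := Subgroup.zpow_mem _ (Subgroup.mem_zpowers _) i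
    obtain ⟨j, hj⟩ := (mem_powers_iff_mem_zpowers.2 h1 : _ ∈ Submonoid.powers (⟨z1, hZS hz1Z⟩ : S))
    exact ⟨j, by simpa using congrArg Subtype.val hj⟩
  obtain ⟨e, he, hwj⟩ := hind j
  -- `w^{-j} (g z) w^j ∈ E`
  have hwjE0 : ∀ x ∈ E ⊓ Z, (w ^ j)⁻¹ * x * w ^ j ∈ E ⊓ Z := by
    have h1 : ∀ j : ℕ, ∀ x ∈ E ⊓ Z, (w ^ j)⁻¹ * x * w ^ j ∈ E ⊓ Z := by
      intro j
      induction j with
      | zero => intro x hx; simpa using hx
      | succ j ih =>
        intro x hx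
        have h2 := hconjE0' _ (ih x hx)
        have h3 : (w ^ (j + 1))⁻¹ * x * w ^ (j + 1) = w⁻¹ * ((w ^ j)⁻¹ * x * w ^ j) * w := by
          rw [pow_succ]; group
        rw [h3]; exact h2
    exact h1 j
  have hkey : (w ^ j)⁻¹ * g z * w ^ j ∈ E := by
    have h1 : g z = (w ^ j * v * (w ^ j)⁻¹) * (e⁻¹ * a) := by
      rw [hwj, hgzv]
      have h2 : z * v = v * z' := by rw [hz']; group
      rw [h2, hia, hj]
      have h3 : a = e * (e⁻¹ * a) := by group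
      group
    have h4 : (w ^ j)⁻¹ * g z * w ^ j = v * ((w ^ j)⁻¹ * (e⁻¹ * a) * w ^ j) := by
      rw [h1]; group
    rw [h4]
    exact E.mul_mem hvE (hwjE0 _ (Subgroup.mul_mem _ (Subgroup.inv_mem _ he) ha)).1
  have hwjS : (w ^ j)⁻¹ ∈ S := S.inv_mem (S.pow_mem hwS j)
  have hc : FMap F (normalizerIn S E) (fun x => (w ^ j)⁻¹ * g x * (w ^ j)⁻¹⁻¹) :=
    hg.map.comp (fmap_conj F hNS hwjS) (fun x hx => hg.mem hx)
  have hcE' : ∀ y ∈ Z, (w ^ j)⁻¹ * g y * (w ^ j)⁻¹⁻¹ ∈ E := by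
    intro y hy
    obtain ⟨k, a, ha, rfl⟩ := gen_of_card hpZ hE0Z hZab (by rw [hcZ, hcE0]; exact le_of_eq (by ring)) hz hz0 hy
    rw [hg.map.map_mul (Subgroup.zpow_mem _ hzN k) (hEN ha.1), hg.map.map_zpow hzN]
    have h1 : (w ^ j)⁻¹ * (g z ^ k * g a) * (w ^ j)⁻¹⁻¹ = ((w ^ j)⁻¹ * g z * w ^ j) ^ k * ((w ^ j)⁻¹ * g a * w ^ j) := by
      have h2 : ((w ^ j)⁻¹ * g z * w ^ j) ^ k = (w ^ j)⁻¹ * g z ^ k * w ^ j := by
        have := conj_zpow (i := k) (a := (w ^ j)⁻¹) (b := g z)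
        rwa [inv_inv] at this
      rw [h2, inv_inv]; group
    rw [h1]
    exact E.mul_mem (E.zpow_mem hkey k) (hwjE0 _ (hgE0 a ha)).1
  have hiso : FIso F Z E (fun x => (w ^ j)⁻¹ * g x * (w ^ j)⁻¹⁻¹) :=
    (hc.restrict hZN).fiso_of_card hES hcE' (by rw [hcE, hcZ])
  exact hnc (isConj_symm hiso.isConj)

end Cfsg.Agent.Lib.MCFix
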