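import Mathlib
import Cfsg.Agent.Lib.BlackburnCons
import Cfsg.Agent.Lib.FusionSat
import Cfsg.Agent.Lib.EssChain

/-!
# Extension of automorphisms of `Z₃(S)` in a saturated system over a group of maximal class (helper29)
-/

set_option autoImplicit false

namespace Cfsg.Agent.Lib.MCStab

open Cfsg Cfsg.FusionSystem Cfsg.Agent.Lib.FusionBasic Cfsg.Agent.Lib.FusionSat
open Cfsg.Agent.Lib.BlackburnChain
open scoped commutatorElement

section Gen

variable {Ω : Type*} [Group Ω] {S : Subgroup Ω} {F : FusionSystem S} {p : ℕ} {Z1 Z2 Z3 : Subgroup Ω}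

/-- a chain centralized by `S` -/
structure Ch (S Z1 Z2 Z3 : Subgroup Ω) : Prop where
  h3 : Z3 ≤ S
  h23 : Z2 ≤ Z3
  h12 : Z1 ≤ Z2
  c3 : ∀ s ∈ S, ∀ x ∈ Z3, x⁻¹ * (s * x * s⁻¹) ∈ Z2
  c2 : ∀ s ∈ S, ∀ x ∈ Z2, x⁻¹ * (s * x * s⁻¹) ∈ Z1
  c1 : ∀ s ∈ S, ∀ x ∈ Z1, s * x * s⁻¹ = x

theorem Ch.conj3 (h : Ch S Z1 Z2 Z3) {s : Ω} (hs : s ∈ S) {x : Ω} (hx : x ∈ Z3) : s * x * s⁻¹ ∈ Z3 := by
  have h1 := Z3.mul_mem hx (h.h23 (h.c3 s hs x hx))
  rwa [mul_inv_cancel_left] at h1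

theorem Ch.conj2 (h : Ch S Z1 Z2 Z3) {s : Ω} (hs : s ∈ S) {x : Ω} (hx : x ∈ Z2) : s * x * s⁻¹ ∈ Z2 := by
  have h1 := Z2.mul_mem hx (h.h12 (h.c2 s hs x hx))
  rwa [mul_inv_cancel_left] at h1

theorem Ch.conj1 (h : Ch S Z1 Z2 Z3) {s : Ω} (hs : s ∈ S) {x : Ω} (hx : x ∈ Z1) : s * x * s⁻¹ ∈ Z1 := by
  rw [h.c1 s hs x hx]; exact hx

theorem Ch.mem_normalizer (h : Ch S Z1 Z2 Z3) {s : Ω} (hs : s ∈ S) : s ∈ Subgroup.normalizer (Z3 : Set Ω) := by
  rw [Subgroup.mem_normalizer_iff]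
  intro x
  constructor
  · exact h.conj3 hs
  · intro hx
    have h1 := h.conj3 (S.inv_mem hs) hx
    have h2 : s⁻¹ * (s * x * s⁻¹) * s⁻¹⁻¹ = x := by group
    rwa [h2] at h1

theorem Ch.fullyNormalized [Finite S] (h : Ch S Z1 Z2 Z3) : F.IsFullyNormalized Z3 := by
  refine ⟨h.h3, fun Q _ => ?_⟩
  have h1 : Nat.card (normalizerIn S Q) ≤ Nat.card S :=
    Nat.card_le_card_of_injective _ (Subgroup.inclusion_injective (normalizerIn_le S Q))
  have h2 : normalizerIn S Z3 = S := le_antisymm (normalizerIn_le S Z3) (le_inf le_rfl fun s hs => h.mem_normalizer hs)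
  rw [h2]; exact h1

/-- the stabilizer of the chain is induced by `S` -/
theorem exists_conj [Finite S] [hp : Fact p.Prime] (hS : IsPGroup p S) (hF : F.IsSaturated p) (h : Ch S Z1 Z2 Z3)
    {α : MulAut Z3} (hα : α ∈ F.autGroup Z3) (a3 : ∀ x : Z3, (x : Ω)⁻¹ * ((α x : Z3) : Ω) ∈ Z2)
    (a2 : ∀ x : Z3, (x : Ω) ∈ Z2 → (x : Ω)⁻¹ * ((α x : Z3) : Ω) ∈ Z1)
    (a1 : ∀ x : Z3, (x : Ω) ∈ Z1 → ((α x : Z3) : Ω) = x) : ∃ g ∈ S, ∀ x : Z3, ((α x : Z3) : Ω) = g * x * g⁻¹ := by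
  have hfin : Finite Z3 := finite_of_le h.h3
  have hI : ∀ β : MulAut Z3, (∀ x : Z3, (x : Ω)⁻¹ * ((β x : Z3) : Ω) ∈ Z2) → ∀ x : Z3, (x : Ω) ∈ Z2 → ((β x : Z3) : Ω) ∈ Z2 := by
    intro β h1 x hx
    have := Z2.mul_mem hx (h1 x)
    rwa [mul_inv_cancel_left] at this
  let K : Subgroup (MulAut Z3) :=
    { carrier := {β | β ∈ F.autGroup Z3 ∧ (∀ x : Z3, (x : Ω)⁻¹ * ((β x : Z3) : Ω) ∈ Z2) ∧
        (∀ x : Z3, (x : Ω) ∈ Z2 → (x : Ω)⁻¹ * ((β x : Z3) : Ω) ∈ Z1) ∧ ∀ x : Z3, (x : Ω) ∈ Z1 → ((β x : Z3) : Ω) = x}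
      one_mem' := ⟨Subgroup.one_mem _, fun x => by simp, fun x _ => by simp, fun x _ => by simp⟩
      mul_mem' := by
        rintro β γ ⟨b0, b3, b2, b1⟩ ⟨c0, c3, c2, c1⟩
        refine ⟨Subgroup.mul_mem _ b0 c0, fun x => ?_, fun x hx => ?_, fun x hx => ?_⟩
        · have e : (x : Ω)⁻¹ * (((β * γ) x : Z3) : Ω) = ((x : Ω)⁻¹ * ((γ x : Z3) : Ω)) * (((γ x : Z3) : Ω)⁻¹ * ((β (γ x) : Z3) : Ω)) := by
            rw [MulAut.mul_apply]; group
          rw [e]; exact Z2.mul_mem (c3 x) (b3 _)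
        · have e : (x : Ω)⁻¹ * (((β * γ) x : Z3) : Ω) = ((x : Ω)⁻¹ * ((γ x : Z3) : Ω)) * (((γ x : Z3) : Ω)⁻¹ * ((β (γ x) : Z3) : Ω)) := by
            rw [MulAut.mul_apply]; group
          rw [e]; exact Z1.mul_mem (c2 x hx) (b2 _ (hI γ c3 x hx))
        · have e := c1 x hx
          rw [MulAut.mul_apply, b1 _ (by rw [e]; exact hx), e]
      inv_mem' := by
        rintro β ⟨b0, b3, b2, b1⟩
        have hbb : ∀ x : Z3, β (β⁻¹ x) = x := fun x => MulAut.apply_inv_self _ _ x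
        have hin : ∀ x : Z3, (x : Ω) ∈ Z2 → ((β⁻¹ x : Z3) : Ω) ∈ Z2 := by
          intro x hx
          have h1 := b3 (β⁻¹ x)
          rw [hbb] at h1
          have h2 := Z2.mul_mem hx (Z2.inv_mem h1)
          have e : (x : Ω) * (((β⁻¹ x : Z3) : Ω)⁻¹ * (x : Ω))⁻¹ = ((β⁻¹ x : Z3) : Ω) := by group
          rwa [e] at h2
        have hin1 : ∀ x : Z3, (x : Ω) ∈ Z1 → ((β⁻¹ x : Z3) : Ω) = x := by
          intro x hx
          have h1 : β x = x := Subtype.ext (b1 x hx)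
          have h2 : β⁻¹ x = x := by
            conv_lhs => rw [← h1]
            exact MulAut.inv_apply_self _ _ x
          rw [h2]
        refine ⟨Subgroup.inv_mem _ b0, fun x => ?_, fun x hx => ?_, fun x hx => hin1 x hx⟩
        · have h1 := Z2.inv_mem (b3 (β⁻¹ x))
          rw [hbb, mul_inv_rev, inv_inv] at h1
          exact h1
        · have h1 := Z1.inv_mem (b2 (β⁻¹ x) (hin x hx))
          rw [hbb, mul_inv_rev, inv_inv] at h1
          exact h1 }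
  have hKA : K ≤ F.autGroup Z3 := fun β hβ => hβ.1
  have hXp : IsPGroup p Z3 := isPGroup_of_le hS h.h3
  have hKp : IsPGroup p K := by
    refine Cfsg.Agent.Lib.FusionClosed.isPGroup_of_coprime_trivial fun g hg => ?_
    refine Subtype.ext ?_
    obtain ⟨g, ⟨g0, g3, g2, g1⟩⟩ := g
    let L : ℕ → Subgroup Z3 := fun i => if i = 0 then ⊥ else if i = 1 then Z1.subgroupOf Z3 else
      if i = 2 then Z2.subgroupOf Z3 else ⊤
    refine Cfsg.Agent.Lib.EssChain.eq_one_of_chain hXp 3 L (by simp [L]) (by simp [L]) ?_ (α := g)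
      (by have := hg; rwa [← Subgroup.orderOf_coe] at this) ?_ ?_ ?_
    · intro i
      rcases i with _ | _ | _ | i
      · show (⊥ : Subgroup Z3).Normal
        infer_instance
      · show (Z1.subgroupOf Z3).Normal
        exact ⟨fun x hx s => h.conj1 (h.h3 s.2) hx⟩
      · show (Z2.subgroupOf Z3).Normal
        exact ⟨fun x hx s => h.conj2 (h.h3 s.2) hx⟩
      · have : L (i + 3) = ⊤ := by simp [L]
        show (L (i + 3)).Normal
        rw [this]; infer_instance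
    · intro i
      rcases i with _ | _ | _ | i
      · intro x hx
        have hx' : x = 1 := Subgroup.mem_bot.1 (show x ∈ (⊥ : Subgroup Z3) from hx)
        show g x ∈ (⊥ : Subgroup Z3)
        rw [hx', map_one]; exact Subgroup.one_mem _
      · intro x hx
        show ((g x : Z3) : Ω) ∈ Z1
        have hx' : (x : Ω) ∈ Z1 := hx
        rw [g1 x hx']; exact hx'
      · intro x hx
        exact hI g g3 x hx
      · intro x hx
        have : L (i + 3) = ⊤ := by simp [L]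
        show g x ∈ L (i + 3)
        rw [this]; exact Subgroup.mem_top _
    · intro i hi
      interval_cases i
      · show (⊥ : Subgroup Z3) ≤ _
        exact bot_le
      · show Z1.subgroupOf Z3 ≤ Z2.subgroupOf Z3
        exact fun x hx => h.h12 hx
      · show Z2.subgroupOf Z3 ≤ (⊤ : Subgroup Z3)
        exact le_top
    · intro i hi
      interval_cases i
      · intro x hx
        show x⁻¹ * g x ∈ (⊥ : Subgroup Z3)
        rw [Subgroup.mem_bot, Subtype.ext (g1 x hx), inv_mul_cancel]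
      · intro x hx
        exact g2 x hx
      · intro x hx
        exact g3 x
  have hUK : autInducedBy S Z3 ≤ K := by
    intro β hβ
    have hβA : β ∈ F.autGroup Z3 := autInducedBy_le_autGroup h.h3 le_rfl hβ
    obtain ⟨s, hs, hβs⟩ := mem_autInducedBy_iff.1 hβ
    refine ⟨hβA, fun x => ?_, fun x hx => ?_, fun x hx => ?_⟩
    · rw [hβs]; exact h.c3 s hs x x.2
    · rw [hβs]; exact h.c2 s hs x hx
    · rw [hβs]; exact h.c1 s hs x hx
  obtain ⟨-, R, hR⟩ := fullyAutomized_of_fullyNormalized hS hF h.fullyNormalized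
  have h1 : K.subgroupOf (F.autGroup Z3) = (R : Subgroup (F.autGroup Z3)) := by
    refine R.is_maximal' (hKp.comap_subtype) ?_
    rw [hR]
    exact fun x hx => hUK hx
  rw [hR] at h1
  have h2 : (⟨α, hα⟩ : F.autGroup Z3) ∈ K.subgroupOf (F.autGroup Z3) := by
    rw [Subgroup.mem_subgroupOf]
    exact ⟨hα, a3, a2, a1⟩
  rw [h1] at h2
  exact mem_autInducedBy_iff.1 (Subgroup.mem_subgroupOf.1 h2)

/-- an injective map of a finite subgroup into itself is onto -/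
theorem surj_of [Finite S] {f : Ω → Ω} {P : Subgroup Ω} (hf : FMap F P f) (h : ∀ x ∈ P, f x ∈ P) {y : Ω} (hy : y ∈ P) :
    ∃ x ∈ P, f x = y := by
  have h1 := hf.fiso_of_card hf.le h le_rfl
  exact (h1.2 y).1 hy

theorem gen_ext_S [Finite S] [hp : Fact p.Prime] (hS : IsPGroup p S) (hF : F.IsSaturated p) (h : Ch S Z1 Z2 Z3)
    {f : Ω → Ω} (hf : FIso F Z3 Z3 f) (f1 : ∀ x ∈ Z1, f x ∈ Z1) (f2 : ∀ x ∈ Z2, f x ∈ Z2) :
    ∃ ρ : Ω → Ω, FIso F S S ρ ∧ ∀ x ∈ Z3, ρ x = f x := by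
  have hr := receptive_of_fullyNormalized hS hF (h.fullyNormalized (F := F))
  obtain ⟨ρ, hρ, hρ'⟩ := (isReceptive_iff.1 hr).2 Z3 f hf S h.h3 le_rfl (fun t ht => by
    refine ⟨h.mem_normalizer ht, ?_⟩
    have hA : hf.autEquiv (conjAut Z3 t (h.mem_normalizer ht)) ∈ F.autGroup Z3 := by
      rw [← hf.map_autGroup]
      exact Subgroup.mem_map_of_mem _ (conjAut_mem_autGroup h.h3 (h.mem_normalizer ht) ht)
    have key : ∀ x : Z3, ((hf.autEquiv (conjAut Z3 t (h.mem_normalizer ht)) ⟨f x, hf.mem x.2⟩ : Z3) : Ω) =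
        f (t * x * t⁻¹) := by
      intro x
      rw [hf.autEquiv_coe, conjAut_apply]
    have key2 : ∀ x : Z3, (f x)⁻¹ * f (t * x * t⁻¹) = f ((x : Ω)⁻¹ * (t * x * t⁻¹)) := by
      intro x
      rw [hf.map.map_mul (Z3.inv_mem x.2) (h.conj3 ht x.2), hf.map.map_inv x.2]
    obtain ⟨g, hg, hgx⟩ := exists_conj hS hF h hA (fun y => by
        obtain ⟨x, hx, hxy⟩ := (hf.2 y).1 y.2
        have e : y = ⟨f x, hf.mem hx⟩ := Subtype.ext hxy.symm
        rw [e]
        have := key ⟨x, hx⟩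
        rw [this]
        have k2 := key2 ⟨x, hx⟩
        simp only at k2
        show (f x)⁻¹ * f (t * x * t⁻¹) ∈ Z2
        rw [k2]
        exact f2 _ (h.c3 t ht x hx)) (fun y hy => by
        obtain ⟨x, hx2, hxy⟩ := surj_of (hf.map.restrict h.h23) f2 hy
        have hx := h.h23 hx2
        have e : y = ⟨f x, hf.mem hx⟩ := Subtype.ext hxy.symm
        rw [e]
        have := key ⟨x, hx⟩
        rw [this]
        have k2 := key2 ⟨x, hx⟩
        simp only at k2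
        show (f x)⁻¹ * f (t * x * t⁻¹) ∈ Z1
        rw [k2]
        exact f1 _ (h.c2 t ht x hx2)) (fun y hy => by
        obtain ⟨x, hx1, hxy⟩ := surj_of (hf.map.restrict (h.h12.trans h.h23)) f1 hy
        have hx := h.h23 (h.h12 hx1)
        have e : y = ⟨f x, hf.mem hx⟩ := Subtype.ext hxy.symm
        rw [e]
        have := key ⟨x, hx⟩
        rw [this]
        show f (t * x * t⁻¹) = f x
        rw [h.c1 t ht x hx1])
    refine ⟨g, hg, fun x hx => ?_⟩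
    have := hgx ⟨f x, hf.mem hx⟩
    rw [key ⟨x, hx⟩] at this
    exact this)
  exact ⟨ρ, fiso_of_fmap_top hρ, hρ'⟩

theorem gen_ext_C [Finite S] [hp : Fact p.Prime] (hS : IsPGroup p S) (hF : F.IsSaturated p) (h : Ch S Z1 Z2 Z3)
    {f : Ω → Ω} (hf : FIso F Z3 Z3 f) (f2 : ∀ x ∈ Z2, f x ∈ Z2) (hZ3 : Z3 ≤ centralizerIn S Z2) :
    ∃ ρ : Ω → Ω, FMap F (centralizerIn S Z2) ρ ∧ (∀ x ∈ centralizerIn S Z2, ρ x ∈ centralizerIn S Z2) ∧
      ∀ x ∈ Z3, ρ x = f x := by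
  have hr := receptive_of_fullyNormalized hS hF (h.fullyNormalized (F := F))
  obtain ⟨ρ, hρ, hρ'⟩ := (isReceptive_iff.1 hr).2 Z3 f hf (centralizerIn S Z2) hZ3 (centralizerIn_le S Z2) (fun t htC => by
    have ht : t ∈ S := centralizerIn_le S Z2 htC
    have htc : ∀ x ∈ Z2, t * x * t⁻¹ = x := mem_centralizer_iff'.1 htC.2
    refine ⟨h.mem_normalizer ht, ?_⟩
    have hA : hf.autEquiv (conjAut Z3 t (h.mem_normalizer ht)) ∈ F.autGroup Z3 := by
      rw [← hf.map_autGroup]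
      exact Subgroup.mem_map_of_mem _ (conjAut_mem_autGroup h.h3 (h.mem_normalizer ht) ht)
    have key : ∀ x : Z3, ((hf.autEquiv (conjAut Z3 t (h.mem_normalizer ht)) ⟨f x, hf.mem x.2⟩ : Z3) : Ω) =
        f (t * x * t⁻¹) := by
      intro x
      rw [hf.autEquiv_coe, conjAut_apply]
    have key2 : ∀ x : Z3, (f x)⁻¹ * f (t * x * t⁻¹) = f ((x : Ω)⁻¹ * (t * x * t⁻¹)) := by
      intro x
      rw [hf.map.map_mul (Z3.inv_mem x.2) (h.conj3 ht x.2), hf.map.map_inv x.2]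
    have key3 : ∀ y : Z3, (y : Ω) ∈ Z2 → ((hf.autEquiv (conjAut Z3 t (h.mem_normalizer ht)) y : Z3) : Ω) = y := by
      intro y hy
      obtain ⟨x, hx2, hxy⟩ := surj_of (hf.map.restrict h.h23) f2 hy
      have hx := h.h23 hx2
      have e : y = ⟨f x, hf.mem hx⟩ := Subtype.ext hxy.symm
      rw [e]
      have := key ⟨x, hx⟩
      rw [this]
      show f (t * x * t⁻¹) = f x
      rw [htc x hx2]
    obtain ⟨g, hg, hgx⟩ := exists_conj hS hF h hA (fun y => by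
        obtain ⟨x, hx, hxy⟩ := (hf.2 y).1 y.2
        have e : y = ⟨f x, hf.mem hx⟩ := Subtype.ext hxy.symm
        rw [e]
        have := key ⟨x, hx⟩
        rw [this]
        have k2 := key2 ⟨x, hx⟩
        simp only at k2
        show (f x)⁻¹ * f (t * x * t⁻¹) ∈ Z2
        rw [k2]
        exact f2 _ (h.c3 t ht x hx)) (fun y hy => by
        rw [key3 y hy, inv_mul_cancel]
        exact Z1.one_mem) (fun y hy => key3 y (h.h12 hy))
    refine ⟨g, hg, fun x hx => ?_⟩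
    have := hgx ⟨f x, hf.mem hx⟩
    rw [key ⟨x, hx⟩] at this
    exact this)
  refine ⟨ρ, hρ, fun c hc => ?_, hρ'⟩
  refine ⟨hρ.map_mem hc, mem_centralizer_iff'.2 fun z hz => ?_⟩
  obtain ⟨y, hy, rfl⟩ := surj_of (hf.map.restrict h.h23) f2 hz
  have hy3 := h.h23 hy
  have hyC := hZ3 hy3
  rw [← hρ' y hy3, ← hρ.map_inv hc, ← hρ.map_mul hc hyC, ← hρ.map_mul (Subgroup.mul_mem _ hc hyC) (Subgroup.inv_mem _ hc),
    mem_centralizer_iff'.1 hc.2 y hy]

end Gen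

variable {Ω : Type*} [Group Ω] {S : Subgroup Ω} {F : FusionSystem S} {p n : ℕ} {G : ℕ → Subgroup ↥S}

theorem ch_of_mc (h : MC p n G) (hn : 4 ≤ n) :
    Ch S ((G (n - 1)).map S.subtype) ((G (n - 2)).map S.subtype) ((G (n - 3)).map S.subtype) := by
  have key : ∀ i, 1 ≤ i → ∀ s ∈ S, ∀ x ∈ (G i).map S.subtype, x⁻¹ * (s * x * s⁻¹) ∈ (G (i + 1)).map S.subtype := by
    rintro i hi s hs _ ⟨x, hx, rfl⟩
    have h1 := h.comm_mem hi ⟨s, hs⟩ ((G i).inv_mem hx)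
    have h2 := (G (i + 1)).inv_mem h1
    refine ⟨_, h2, ?_⟩
    simp only [commutatorElement_def, Subgroup.coe_subtype]
    simp only [mul_inv_rev, inv_inv, Subgroup.coe_mul, Subgroup.coe_inv]
    group
  refine ⟨Subgroup.map_subtype_le _, ?_, ?_, ?_, ?_, ?_⟩
  · exact Subgroup.map_mono (h.anti (by omega))
  · exact Subgroup.map_mono (h.anti (by omega))
  · have := key (n - 3) (by omega)
    rwa [show n - 3 + 1 = n - 2 by omega] at this
  · have := key (n - 2) (by omega)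
    rwa [show n - 2 + 1 = n - 1 by omega] at this
  · intro s hs x hx
    have h1 := key (n - 1) (by omega) s hs x hx
    rw [show n - 1 + 1 = n by omega, h.bot le_rfl, Subgroup.map_bot, Subgroup.mem_bot] at h1
    exact (inv_mul_eq_one.1 h1).symm

theorem ext_S [Finite S] [hp : Fact p.Prime] (hS : IsPGroup p S) (hF : F.IsSaturated p) (h : MC p n G) (hn : 4 ≤ n)
    {f : Ω → Ω} (hf : FIso F ((G (n - 3)).map S.subtype) ((G (n - 3)).map S.subtype) f)
    (f1 : ∀ x ∈ (G (n - 1)).map S.subtype, f x ∈ (G (n - 1)).map S.subtype)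
    (f2 : ∀ x ∈ (G (n - 2)).map S.subtype, f x ∈ (G (n - 2)).map S.subtype) :
    ∃ ρ : Ω → Ω, FIso F S S ρ ∧ ∀ x ∈ (G (n - 3)).map S.subtype, ρ x = f x :=
  gen_ext_S hS hF (ch_of_mc h hn) hf f1 f2

theorem ext_C [Finite S] [hp : Fact p.Prime] (hS : IsPGroup p S) (hF : F.IsSaturated p) (h : MC p n G) (hn : 4 ≤ n)
    (hZ3 : (G (n - 3)).map S.subtype ≤ centralizerIn S ((G (n - 2)).map S.subtype))
    {f : Ω → Ω} (hf : FIso F ((G (n - 3)).map S.subtype) ((G (n - 3)).map S.subtype) f)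
    (f2 : ∀ x ∈ (G (n - 2)).map S.subtype, f x ∈ (G (n - 2)).map S.subtype) :
    ∃ ρ : Ω → Ω, FMap F (centralizerIn S ((G (n - 2)).map S.subtype)) ρ ∧
      (∀ x ∈ centralizerIn S ((G (n - 2)).map S.subtype), ρ x ∈ centralizerIn S ((G (n - 2)).map S.subtype)) ∧
      ∀ x ∈ (G (n - 3)).map S.subtype, ρ x = f x :=
  gen_ext_C hS hF (ch_of_mc h hn) hf f2 hZ3

end Cfsg.Agent.Lib.MCStab
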