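import Mathlib
import Cfsg.Agent.Lib.MCStab
import Cfsg.Agent.Lib.MCEnd

/-!
Moving an essential subgroup of order `p^3` into `G 1` (helper59, for S5316)
-/

set_option autoImplicit false

open Subgroup
open scoped commutatorElement

namespace Cfsg.Agent.Lib.MCMove

open Cfsg Cfsg.FusionSystem Cfsg.Agent.Lib.FusionBasic Cfsg.Agent.Lib.FusionSat Cfsg.Agent.Lib.BlackburnChain
  Cfsg.Agent.Lib.BlackburnCons Cfsg.Agent.Lib.MCStab

variable {Ω : Type*} [Group Ω] {S : Subgroup Ω} {F : FusionSystem S} {p n : ℕ} {G : ℕ → Subgroup ↥S} {E : Subgroup Ω}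

theorem mem_map' {i : ℕ} {x : Ω} : x ∈ (G i).map S.subtype ↔ ∃ h : x ∈ S, (⟨x, h⟩ : S) ∈ G i := by
  constructor
  · rintro ⟨y, hy, rfl⟩
    exact ⟨y.2, hy⟩
  · rintro ⟨h, hx⟩
    exact ⟨⟨x, h⟩, hx, rfl⟩

theorem move_aux [Finite S] [hp : Fact p.Prime] (hS : IsPGroup p S) (hF : F.IsSaturated p) (h : MC p n G) (h2 : ⁅G 2, G 1⁆ ≤ G 4) (hn : 5 ≤ n)
    (hess : ∀ (E' : Subgroup Ω) (f : Ω → Ω), FIso F E E' f → F.IsFullyNormalized E' → F.IsEssential p E')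
    (hE : F.IsEssential p E) (hab : ∀ x ∈ E, ∀ y ∈ E, x * y = y * x) (hexp : ∀ x ∈ E, x ^ p = 1) (hcard : Nat.card E = p ^ 3)
    (hEC : E ≤ centralizerIn S ((G (n-2)).map S.subtype)) {e₁ : Ω} (he1 : e₁ ∈ (G (n-2)).map S.subtype) (he1' : e₁ ∉ (G (n-1)).map S.subtype)
    (hEZ : ∀ v ∈ E, ∀ y ∈ (G (n-3)).map S.subtype, ⁅v, y⁆ ∈ Subgroup.zpowers e₁) {g : Ω → Ω}
    (hg : FIso F ((G (n-3)).map S.subtype) ((G (n-3)).map S.subtype) g) (hg2 : ∀ x ∈ (G (n-2)).map S.subtype, g x ∈ (G (n-2)).map S.subtype)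
    {z₁ : Ω} (hz1 : z₁ ∈ (G (n-1)).map S.subtype) (hgz : g z₁ ∉ (G (n-1)).map S.subtype)
    (hcN : Nat.card (normalizerIn S E) = p ^ 4) (hnc : ¬ F.IsConj E ((G (n-3)).map S.subtype)) :
    ∃ E' : Subgroup Ω, F.IsEssential p E' ∧ E' ≤ (G 1).map S.subtype ∧ (∀ x ∈ E', ∀ y ∈ E', x * y = y * x) ∧ (∀ x ∈ E', x ^ p = 1) ∧ Nat.card E' = p ^ 3 := by
  have hES := hE.1.1
  set Z3 := (G (n - 3)).map S.subtype with hZ3
  set Z2 := (G (n - 2)).map S.subtype with hZ2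
  set Z1 := (G (n - 1)).map S.subtype with hZ1
  set C := centralizerIn S Z2 with hC
  have hch := ch_of_mc h (by omega : 4 ≤ n)
  have h12 : Z1 ≤ Z2 := hch.h12
  have h23 : Z2 ≤ Z3 := hch.h23
  have h3S : Z3 ≤ S := hch.h3
  have hz1S : z₁ ∈ S := h3S (h23 (h12 hz1))
  -- `Z3 ≤ C`
  have h3C : Z3 ≤ C := by
    intro x hx
    refine ⟨h3S hx, ?_⟩
    show x ∈ Subgroup.centralizer (Z2 : Set Ω)
    rw [Subgroup.mem_centralizer_iff]
    intro y hy
    obtain ⟨hxS, hx'⟩ := mem_map'.1 hx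
    obtain ⟨hyS, hy'⟩ := mem_map'.1 hy
    have h1 := h.wt_mem (i := n - 2) (j := n - 3) (by omega) (by omega) hy' hx'
    have h2 := h.mem_bot' (by omega) h1
    have h3 := commutatorElement_eq_one_iff_mul_comm.1 h2
    exact congrArg (fun q : S => (q : Ω)) h3
  have hcen1 : ∀ z ∈ Z1, ∀ s ∈ S, s * z = z * s := by
    intro z hz s hs
    have := hch.c1 s hs z hz
    rw [mul_inv_eq_iff_eq_mul] at this
    exact this
  -- `Z2 ≤ E`
  have h2E : Z2 ≤ E := by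
    intro y hy
    refine hE.1.2 E (isConj_refl F hES) ⟨h3S (h23 hy), ?_⟩
    show y ∈ Subgroup.centralizer (E : Set Ω)
    rw [Subgroup.mem_centralizer_iff]
    intro x hx
    exact (Subgroup.mem_centralizer_iff.1 (hEC hx).2 y hy).symm
  -- `e₁ = (g z₁)^j z`
  have hl2 : g z₁ ∈ Z2 := hg2 _ (h12 hz1)
  obtain ⟨hlS, hl'⟩ := mem_map'.1 hl2
  obtain ⟨heS, he'⟩ := mem_map'.1 he1
  have hl1 : (⟨g z₁, hlS⟩ : S) ∉ G (n - 2 + 1) := by
    intro hh
    exact hgz (mem_map'.2 ⟨hlS, by rwa [show n - 2 + 1 = n - 1 by omega] at hh⟩)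
  obtain ⟨j, w, hw, hjw⟩ := h.exists_zpow (by omega) hl' hl1 he'
  rw [show n - 2 + 1 = n - 1 by omega] at hw
  have hjw' : e₁ = g z₁ ^ j * (w : Ω) := congrArg (fun q : S => (q : Ω)) hjw
  set l : S := (⟨g z₁, hlS⟩ : S) ^ j with hl
  have hl2' : l ∈ G (n - 2) := Subgroup.zpow_mem _ hl' j
  have hln : l ∉ G (n - 1) := by
    intro hh
    apply he1'
    refine mem_map'.2 ⟨heS, ?_⟩
    rw [hjw]
    exact mul_mem hh hw
  -- an element of `S` not centralizing `l`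
  obtain ⟨s0, hs0⟩ : ∃ s0 : S, ⁅s0, l⁆ ≠ 1 := by
    by_contra hne
    push Not at hne
    have h1 : ⁅G (n - 2), (⊤ : Subgroup S)⁆ ≤ G n := by
      rw [commutator_le]
      intro y hy s _
      have h3 := h.comm_all (i := n - 2) (g := s) (by omega) (by omega) hl2'
        (by rwa [show n - 2 + 1 = n - 1 by omega]) (by rw [hne s]; exact one_mem _) y hy
      rw [show n - 2 + 2 = n by omega] at h3
      exact Cfsg.Agent.Lib.BlackburnHP.comm_symm _ h3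
    rw [h.comm (n - 2) (by omega), show n - 2 + 1 = n - 1 by omega, h.bot le_rfl, le_bot_iff] at h1
    have h3 := h.card (n - 1) (by omega)
    rw [h1, Subgroup.card_bot, show n - (n - 1) = 1 by omega, pow_one] at h3
    exact hp.out.one_lt.ne h3
  have hc1 : ⁅s0, l⁆ ∈ G (n - 1) := by
    have := h.comm_mem (i := n - 2) (by omega) s0 hl2'
    rwa [show n - 2 + 1 = n - 1 by omega] at this
  have hcn : ⁅s0, l⁆ ∉ G (n - 1 + 1) := by
    rw [show n - 1 + 1 = n by omega, h.bot le_rfl, mem_bot]; exact hs0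
  obtain ⟨m, w', hw', hm⟩ := h.exists_zpow (by omega) hc1 hcn hw
  rw [show n - 1 + 1 = n by omega, h.bot le_rfl, mem_bot] at hw'
  rw [hw', mul_one] at hm
  have hcen : ∀ c ∈ G (n - 1), ∀ g : S, Commute c g := by
    intro c hc g
    have h1 := h.comm_mem' (i := n - 1) (by omega) g hc
    exact commutatorElement_eq_one_iff_commute.1 (h.mem_bot' (by omega) h1)
  have hsl : s0 ^ m * l * (s0 ^ m)⁻¹ = ⟨e₁, heS⟩ := by
    have h1 := Cfsg.Agent.Lib.Blackburn.zpow_comm_left (hcen _ hc1 s0) m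
    rw [← hm] at h1
    rw [hjw, ← (hcen w hw l).eq, ← h1, commutatorElement_def]
    group
  set s : Ω := ((s0 ^ m : S) : Ω) with hs
  have hsS : s ∈ S := (s0 ^ m).2
  have hsl' : s * (g z₁) ^ j * s⁻¹ = e₁ := congrArg (fun q : S => (q : Ω)) hsl
  -- the automorphism `κ'`
  have hκ1 : FIso F Z3 Z3 (fun x => s * g x * s⁻¹) := by
    have h1 : FMap F Z3 (fun x => s * g x * s⁻¹) := hg.1.comp (fmap_conj F h3S hsS) (fun x hx => hg.mem hx)
    exact h1.fiso_of_card h3S (fun x hx => hch.conj3 hsS (hg.mem hx)) le_rfl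
  have hκ2 : ∀ x ∈ Z2, s * g x * s⁻¹ ∈ Z2 := fun x hx => hch.conj2 hsS (hg2 x hx)
  have hκe : s * g (z₁ ^ j) * s⁻¹ = e₁ := by
    rw [hg.1.map_zpow (h23 (h12 hz1))]; exact hsl'
  obtain ⟨κ, hκ, hκa, hκb⟩ := hκ1.symm
  have hκ2' : ∀ y ∈ Z2, κ y ∈ Z2 := by
    intro y hy
    obtain ⟨x, hx, hxy⟩ := surj_of (hκ1.1.restrict h23) hκ2 hy
    rw [← hxy, hκa x (h23 hx)]
    exact hx
  have hκe1 : κ e₁ = z₁ ^ j := by
    rw [← hκe]
    exact hκa _ (h23 (h12 (Subgroup.zpow_mem _ hz1 j)))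
  obtain ⟨ρ, hρ, hρC, hρ3⟩ := ext_C hS hF h (by omega) h3C hκ hκ2'
  obtain ⟨E', hE'⟩ := (hρ.restrict hEC).exists_iso
  have hE'S := hE'.le_right
  have hfinE' : Finite E' := finite_of_le hE'S
  have hcE' : Nat.card E' = p ^ 3 := by rw [← hE'.card_eq, hcard]
  have h2E' : Z2 ≤ E' := by
    intro y hy
    obtain ⟨x, hx, hxy⟩ := surj_of (hκ.1.restrict h23) hκ2' hy
    rw [← hxy, ← hρ3 x (h23 hx)]
    exact hE'.mem (h2E hx)
  have hE'C : E' ≤ C := by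
    intro y hy
    obtain ⟨x, hx, rfl⟩ := (hE'.2 y).1 hy
    exact hρC x (hEC hx)
  -- `E' ≤ G 1`
  have hE'1 : E' ≤ (G 1).map S.subtype := by
    intro x hx
    obtain ⟨v, hv, hvx⟩ := (hE'.2 x).1 hx
    have hxS := hE'S hx
    refine mem_map'.2 ⟨hxS, ?_⟩
    by_contra hx1
    obtain ⟨z, hz, hz'⟩ := h.exists_mem (i := n - 3) (by omega)
    have hnc2 := h.not_comm (i := n - 3) (by omega) (by omega) (two_step h h2 (n - 3) (by omega) (by omega)) hx1 hz hz'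
    apply hnc2
    rw [show n - 3 + 2 = n - 1 by omega]
    have hzZ : (z : Ω) ∈ Z3 := mem_map'.2 ⟨z.2, hz⟩
    obtain ⟨y, hy, hyz⟩ := (hκ.2 (z : Ω)).1 hzZ
    have hy3 : ρ y = z := by rw [hρ3 y hy, hyz]
    have hvC := hEC hv
    have hyC := h3C hy
    have e1 : ⁅x, (z : Ω)⁆ = ρ ⁅v, y⁆ := by
      rw [← hvx, ← hy3, commutatorElement_def, commutatorElement_def,
        hρ.map_mul (C.mul_mem (C.mul_mem hvC hyC) (C.inv_mem hvC)) (C.inv_mem hyC),
        hρ.map_mul (C.mul_mem hvC hyC) (C.inv_mem hvC), hρ.map_mul hvC hyC, hρ.map_inv hvC, hρ.map_inv hyC]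
    obtain ⟨k, hk⟩ := Subgroup.mem_zpowers_iff.1 (hEZ v hv y hy)
    have he3 : e₁ ∈ Z3 := h23 he1
    have e2 : ⁅x, (z : Ω)⁆ ∈ Z1 := by
      rw [e1, ← hk, hρ3 _ (Subgroup.zpow_mem _ he3 k), hκ.1.map_zpow he3, hκe1]
      exact Subgroup.zpow_mem _ (Subgroup.zpow_mem _ hz1 j) k
    obtain ⟨h3, h4⟩ := mem_map'.1 e2
    exact h4
  -- fully normalized
  have hfn : F.IsFullyNormalized E' := by
    refine ⟨hE'S, fun Q hQ => ?_⟩
    have h1 : Nat.card (normalizerIn S Q) ≤ p ^ 4 := by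
      rw [← hcN]
      exact hE.2.1.2 Q (isConj_trans hE'.isConj hQ)
    refine h1.trans ?_
    have h3N : Z3 ≤ normalizerIn S E' := by
      intro z hz
      refine ⟨h3S hz, ?_⟩
      have key : ∀ t ∈ Z3, ∀ x ∈ E', t * x * t⁻¹ ∈ E' := by
        intro t ht x hx
        have h5 : ((t * x * t⁻¹) * x⁻¹) ∈ Z2 := by
          have h6 := hch.c3 x (hE'S hx) t⁻¹ (Z3.inv_mem ht)
          have h7 : t⁻¹⁻¹ * (x * t⁻¹ * x⁻¹) = t * x * t⁻¹ * x⁻¹ := by group
          rwa [h7] at h6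
        have h8 := E'.mul_mem (h2E' h5) hx
        rwa [inv_mul_cancel_right] at h8
      show z ∈ Subgroup.normalizer (E' : Set Ω)
      rw [Subgroup.mem_normalizer_iff]
      intro x
      refine ⟨key z hz x, fun hx => ?_⟩
      have h9 := key z⁻¹ (Z3.inv_mem hz) _ hx
      have h10 : z⁻¹ * (z * x * z⁻¹) * z⁻¹⁻¹ = x := by group
      rwa [h10] at h9
    have hEN : E' ≤ normalizerIn S E' := le_inf hE'S Subgroup.le_normalizer
    have hfinN : Finite (normalizerIn S E') := finite_of_le (normalizerIn_le S E')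
    have hlt : E' < normalizerIn S E' := by
      refine lt_of_le_of_ne hEN fun heq => ?_
      have h4 : Z3 ≤ E' := by rw [heq]; exact h3N
      have h5 : Z3 = E' := by
        refine Subgroup.eq_of_le_of_card_ge h4 ?_
        rw [hcE']
        have h6 : Nat.card Z3 = p ^ 3 := by
          rw [Subgroup.card_map_of_injective S.subtype_injective, h.card (n - 3) (by omega), show n - (n - 3) = 3 by omega]
        rw [h6]
      exact hnc (by rw [h5]; exact hE'.isConj)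
    obtain ⟨a, ha⟩ := IsPGroup.iff_card.1 (isPGroup_of_le hS (normalizerIn_le S E'))
    have h6 : Nat.card E' < Nat.card (normalizerIn S E') := by
      refine lt_of_le_of_ne (Subgroup.card_le_of_le hEN) fun heq => ?_
      exact hlt.ne (Subgroup.eq_of_le_of_card_ge hEN heq.ge)
    rw [hcE', ha] at h6
    have h7 := (Nat.pow_lt_pow_iff_right hp.out.one_lt).1 h6
    rw [ha]
    exact Nat.pow_le_pow_right hp.out.pos h7
  refine ⟨E', hess E' ρ hE' hfn, hE'1, ?_, ?_, hcE'⟩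
  · intro x hx y hy
    obtain ⟨a, ha, rfl⟩ := (hE'.2 x).1 hx
    obtain ⟨b, hb, rfl⟩ := (hE'.2 y).1 hy
    rw [← hE'.1.map_mul ha hb, ← hE'.1.map_mul hb ha, hab a ha b hb]
  · intro x hx
    obtain ⟨a, ha, rfl⟩ := (hE'.2 x).1 hx
    rw [← hE'.1.map_pow ha, hexp a ha, hE'.1.map_one]

end Cfsg.Agent.Lib.MCMove
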