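import Cfsg.Agent.Lib.MCData
import Cfsg.Agent.Lib.MCStab
import Cfsg.Agent.Lib.MCEnd
import Cfsg.Agent.Lib.MCMove
import Cfsg.Agent.Lib.MCFix
import Cfsg.Agent.Lib.EssConj

/-!
Essential subgroups of order `p ^ 3` in `p`-groups of maximal class: the main argument (helper99).
-/

set_option autoImplicit false

namespace Cfsg.Agent.Lib.MCAsm

open Subgroup Cfsg Cfsg.FusionSystem
open scoped commutatorElement
open Cfsg.Agent.Lib.FusionBasic Cfsg.Agent.Lib.FusionSat Cfsg.Agent.Lib.TwoTransv Cfsg.Agent.Lib.FusionTransv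
open Cfsg.Agent.Lib.BlackburnHP Cfsg.Agent.Lib.BlackburnChain Cfsg.Agent.Lib.BlackburnChain.MC Cfsg.Agent.Lib.BlackburnCons
open Cfsg.Agent.Lib.EssSection Cfsg.Agent.Lib.MCBase Cfsg.Agent.Lib.MCData

variable {Ω : Type*} [Group Ω] {S : Subgroup Ω} {F : FusionSystem S} {p n : ℕ} {G : ℕ → Subgroup ↥S} {E : Subgroup Ω}

/-- the situation after the choice of the involution and its extension -/
structure Gd (F : FusionSystem S) (p n : ℕ) (G : ℕ → Subgroup ↥S) (E : Subgroup Ω) (u e₀ : Ω) (D : Subgroup Ω) (e₁ e₂ : Ω)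
    (g : Ω → Ω) : Prop where
  su : Su F p n G E
  ud : UD S E u e₀
  uZ : u ∈ Gm G (n - 3)
  td : TData F p E u e₀ D e₁ e₂
  gN : FIso F (normalizerIn S E) (normalizerIn S E) g
  gE : FIso F E E g
  g1 : g e₁ = e₁⁻¹
  gD : ∀ v ∈ D, g v = v
  gu : ∀ x ∈ normalizerIn S E, x⁻¹ * g x ∈ E

theorem conj_eq {u e₀ e₁ e₂ : Ω} {D : Subgroup Ω} (td : TData F p E u e₀ D e₁ e₂) (hab : ∀ x ∈ E, ∀ y ∈ E, x * y = y * x)
    {c : Ω} (hc : c ∈ D) (i j : ℤ) :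
    u * (c * e₁ ^ i * e₂ ^ j) * u⁻¹ = c * e₁ ^ i * e₂ ^ j * e₁ ^ j := by
  have h12 : Commute e₂ e₁ := hab _ td.mem₂ _ td.mem₁
  calc u * (c * e₁ ^ i * e₂ ^ j) * u⁻¹ = (u * c * u⁻¹) * (u * e₁ * u⁻¹) ^ i * (u * e₂ * u⁻¹) ^ j := by
        rw [conj_zpow, conj_zpow]; group
    _ = c * e₁ ^ i * (e₂ ^ j * e₁ ^ j) := by rw [td.conjD c hc, td.conj₁, td.conj₂, h12.mul_zpow]
    _ = _ := by simp only [mul_assoc]

theorem exists_g [Finite S] [hp : Fact p.Prime] (su : Su F p n G E) {u e₀ e₁ e₂ : Ω} {D : Subgroup Ω} (ud : UD S E u e₀)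
    (uZ : u ∈ Gm G (n - 3)) (td : TData F p E u e₀ D e₁ e₂) : ∃ g, Gd F p n G E u e₀ D e₁ e₂ g := by
  have hfE := su.fin
  obtain ⟨h, hh, h1, h2, hD⟩ := td.inv
  have hval : ∀ c ∈ D, ∀ i j : ℤ, h (c * e₁ ^ i * e₂ ^ j) = c * e₁⁻¹ ^ i * e₂⁻¹ ^ j := by
    intro c hc i j
    have hcE := td.le hc
    rw [hh.map.map_mul (mul_mem hcE (zpow_mem td.mem₁ i)) (zpow_mem td.mem₂ j), hh.map.map_mul hcE (zpow_mem td.mem₁ i),
      hh.map.map_zpow td.mem₁, hh.map.map_zpow td.mem₂, h1, h2, hD c hc]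
  have hcomm : ∀ v ∈ E, h (u * v * u⁻¹) = u * h v * u⁻¹ := by
    intro v hv
    obtain ⟨c, hc, i, j, rfl⟩ := td.dec v hv
    have hcE := td.le hc
    have e1 := conj_eq td su.hab hc i j
    have e2 := conj_eq td su.hab hc (-i) (-j)
    rw [e1, hh.map.map_mul hv (zpow_mem td.mem₁ j), hval c hc, hh.map.map_zpow td.mem₁, h1]
    simp only [inv_zpow', e2]
  have hpow : ∀ k : ℕ, ∀ v ∈ E, h (u ^ k * v * (u ^ k)⁻¹) = u ^ k * h v * (u ^ k)⁻¹ := by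
    intro k
    induction k with
    | zero => intro v hv; simp
    | succ k ih =>
      intro v hv
      have h3 : u ^ k * v * (u ^ k)⁻¹ ∈ E := (mem_normalizer_iff.1 (pow_mem ud.uN k) v).1 hv
      have h4 : ∀ y : Ω, u ^ (k + 1) * y * (u ^ (k + 1))⁻¹ = u * (u ^ k * y * (u ^ k)⁻¹) * u⁻¹ := by
        intro y
        rw [pow_succ']; group
      rw [h4, hcomm _ h3, ih v hv, h4]
  have hEN : E ≤ normalizerIn S E := le_normalizerIn su.le
  obtain ⟨g, hg, hg'⟩ := (isReceptive_iff.1 (receptive_of_fullyNormalized su.hS su.hF su.hE.2.1)).2 E h hh (normalizerIn S E)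
    hEN (normalizerIn_le _ _) (fun t ht => by
      refine ⟨(mem_normalizerIn.1 ht).2, ?_⟩
      obtain ⟨k, hk⟩ := su.hAut ud t ht
      exact ⟨u ^ k, pow_mem ud.uS k, fun x hx => by rw [hk x hx, hpow k x hx]⟩)
  have hgE : FIso F E E g := hh.congr (fun x hx => (hg' x hx).symm)
  have hgN : ∀ x ∈ normalizerIn S E, g x ∈ normalizerIn S E := fun x hx =>
    mem_normalizerIn.2 ⟨hg.map_mem hx, hgE.map_normalizer hg hEN hx (mem_normalizerIn.1 hx).2⟩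
  refine ⟨g, su, ud, uZ, td, hg.fiso_of_card (normalizerIn_le _ _) hgN le_rfl, hgE, by rw [hg' _ td.mem₁, h1],
    fun v hv => by rw [hg' _ (td.le hv), hD v hv], fun x hx => ?_⟩
  refine su.cen (mul_mem (inv_mem (normalizerIn_le _ _ hx)) (hg.map_mem hx)) fun y hy => ?_
  obtain ⟨y', hy', rfl⟩ := hgE.mem_iff.1 hy
  obtain ⟨k, hk⟩ := su.hAut ud x hx
  have h3 := hg.map_conj hx (hEN hy')
  have h4 : x * y' * x⁻¹ ∈ E := (mem_normalizer_iff.1 (mem_normalizerIn.1 hx).2 y').1 hy'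
  have h5 : g (x * y' * x⁻¹) = x * g y' * x⁻¹ := by
    rw [hg' _ h4, hk y' hy', hpow k y' hy', hg' _ hy', ← hk _ (hh.mem hy')]
  rw [h5] at h3
  calc x⁻¹ * g x * g y' * (x⁻¹ * g x)⁻¹ = x⁻¹ * (g x * g y' * (g x)⁻¹) * x := by group
    _ = g y' := by rw [← h3]; group

variable {u e₀ e₁ e₂ : Ω} {D : Subgroup Ω} {g : Ω → Ω} (gd : Gd F p n G E u e₀ D e₁ e₂ g)

include gd

theorem Gd.card_S : Nat.card S = p ^ n := by
  have := card_Gm gd.su.h (i := 0) (by omega)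
  rwa [Gm_zero gd.su.h] at this

theorem Gd.fix [Finite S] [hp : Fact p.Prime] :
    (∀ z ∈ Gm G (n - 3), g z ∈ Gm G (n - 3)) ∧ Nat.card (E ⊓ Gm G (n - 3) : Subgroup Ω) = p ^ 2 ∧
      Nat.card (normalizerIn S E) = p ^ 4 ∧ ¬ F.IsConj E (Gm G (n - 3)) := by
  have su := gd.su
  have hn := su.hn
  refine MCFix.fix_Z su.hS (Gm_le _) su.hE.2.1 (fun s hs => su.cen hs) su.hab
    (fun x hx y hy => Z3_comm su.h hn hx hy) (fun s hs z hz => conj_mem_Gm su.h hs hz) su.hcard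
    (by rw [card_Gm su.h (by omega), show n - (n - 3) = 3 by omega]) ?_ gd.uZ gd.ud.uE (su.N_dec gd.ud) (su.up gd.ud) su.Z3_le
    gd.gN gd.gE gd.gu
  rw [gd.card_S]
  exact Nat.pow_le_pow_right hp.out.pos hn

theorem Gd.e1Z : e₁ ∈ Gm G (n - 3) := by
  have h1 : e₁ = e₂⁻¹ * (u * e₂ * u⁻¹) := by rw [gd.td.conj₂, inv_mul_cancel_left]
  have h3 : e₁ = (e₂⁻¹ * u * e₂⁻¹⁻¹) * u⁻¹ := by rw [h1]; group
  rw [h3]
  exact mul_mem (conj_mem_Gm gd.su.h (inv_mem (gd.su.le gd.td.mem₂)) gd.uZ) (inv_mem gd.uZ)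

theorem Gd.inter [Finite S] [hp : Fact p.Prime] {v : Ω} (hv : v ∈ E) (hvZ : v ∈ Gm G (n - 3)) :
    ∃ c ∈ D, ∃ i : ℤ, v = c * e₁ ^ i := by
  obtain ⟨c, hc, i, j, h1⟩ := gd.td.dec v hv
  have h3 : u * v * u⁻¹ = v := by
    rw [Z3_comm gd.su.h gd.su.hn gd.uZ hvZ, mul_inv_cancel_right]
  have h4 := conj_eq gd.td gd.su.hab hc i j
  rw [← h1, h3] at h4
  have h5 : e₁ ^ j = 1 := by
    have := congrArg (fun x => v⁻¹ * x) h4
    simpa using this.symm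
  have h6 := zpow_eq_one_of gd.td.pow₁ gd.td.pow₂ gd.td.ne₁ h5
  exact ⟨c, hc, i, by rw [h1, h6, mul_one]⟩

theorem Gd.val [Finite S] {c : Ω} (hc : c ∈ D) (i : ℤ) : g (c * e₁ ^ i) = c * e₁ ^ (-i) := by
  have hcE := gd.td.le hc
  rw [gd.gE.map.map_mul hcE (zpow_mem gd.td.mem₁ i), gd.gE.map.map_zpow gd.td.mem₁, gd.g1, gd.gD c hc, inv_zpow']

theorem Gd.gZ [Finite S] [hp : Fact p.Prime] : FIso F (Gm G (n - 3)) (Gm G (n - 3)) g :=
  (gd.gN.map.restrict gd.su.Z3_le).fiso_of_card (Gm_le _) gd.fix.1 le_rfl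

theorem Gd.gmod [Finite S] [hp : Fact p.Prime] {z : Ω} (hz : z ∈ Gm G (n - 3)) : z⁻¹ * g z ∈ E ∧ z⁻¹ * g z ∈ Gm G (n - 3) :=
  ⟨gd.gu z (gd.su.Z3_le hz), mul_mem (inv_mem hz) (gd.fix.1 z hz)⟩

omit gd in
theorem central_Z1 (su : Su F p n G E) {c : Ω} (hc : c ∈ Gm G (n - 1)) {s : Ω} (hs : s ∈ S) : s * c = c * s := by
  have hn := su.hn
  exact comm_eq.1 (mem_Gm_n su.h (by omega) (comm_mem_Gm su.h (i := n - 1) (by omega) hs hc))

/-- case A -/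
theorem Gd.caseA [Finite S] [hp : Fact p.Prime] (hp2 : p ≠ 2) (hE1 : E ≤ Gm G 1) : False := by
  have su := gd.su
  have hn := su.hn
  have h := su.h
  have hcz := fun {c : Ω} (hc : c ∈ Gm G (n - 1)) {s : Ω} (hs : s ∈ S) => central_Z1 su hc hs
  have he1 : e₁ ∈ Gm G (n - 1) := by
    have h1 : e₁ = ⁅e₂⁻¹, u⁆ := by
      rw [commutatorElement_def]
      have h3 := gd.td.conj₂
      have h4 : e₁ = e₂⁻¹ * (u * e₂ * u⁻¹) := by rw [h3, inv_mul_cancel_left]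
      rw [h4]; group
    rw [h1]
    have := two_step_Gm h su.h2 (i := n - 3) (by omega) (by omega) (inv_mem (hE1 gd.td.mem₂)) gd.uZ
    rwa [show n - 3 + 2 = n - 1 by omega] at this
  have hZ1 : ∀ x ∈ Gm G (n - 1), ∃ k : ℤ, x = e₁ ^ k := by
    intro x hx
    have he1' : e₁ ∉ Gm G (n - 1 + 1) := fun hc => gd.td.ne₁ (mem_Gm_n h (by omega) hc)
    obtain ⟨k, w, hw, hk⟩ := exists_zpow_Gm h (by omega) he1 he1' hx
    exact ⟨k, by rw [hk, mem_Gm_n h (by omega) hw, mul_one]⟩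
  have hg1 : ∀ x ∈ Gm G (n - 1), g x = x⁻¹ := by
    intro x hx
    obtain ⟨k, rfl⟩ := hZ1 x hx
    rw [gd.gE.map.map_zpow gd.td.mem₁, gd.g1, inv_zpow]
  have hE0 : ∀ v ∈ E, v ∈ Gm G (n - 3) → ∃ c ∈ Gm G (n - 1), g v = v * c := by
    intro v hv hvZ
    obtain ⟨c, hc, i, rfl⟩ := gd.inter hv hvZ
    refine ⟨e₁ ^ (-2 * i), zpow_mem he1 _, ?_⟩
    rw [gd.val hc, mul_assoc, ← zpow_add]
    congr 2
    ring
  have hZ13 : Gm G (n - 1) ≤ Gm G (n - 3) := Gm_anti h (by omega)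
  -- iterates
  have hiso : ∀ j : ℕ, FIso F (Gm G (n - 3)) (Gm G (n - 3)) (g^[j]) := by
    intro j
    induction j with
    | zero => exact FIso.refl F (Gm_le _)
    | succ j ih =>
      rw [Function.iterate_succ']
      exact ih.trans gd.gZ
  have hiter : ∀ z ∈ Gm G (n - 3), ∀ j : ℕ, ∃ c ∈ Gm G (n - 1), g^[j] z = z * (z⁻¹ * g z) ^ j * c := by
    intro z hz j
    obtain ⟨hbE, hbZ⟩ := gd.gmod hz
    obtain ⟨c1, hc1, hgb⟩ := hE0 _ hbE hbZ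
    obtain ⟨b, hb⟩ : ∃ b, b = z⁻¹ * g z := ⟨_, rfl⟩
    rw [← hb] at hbE hbZ hgb ⊢
    have hgz : g z = z * b := by rw [hb, mul_inv_cancel_left]
    induction j with
    | zero => exact ⟨1, one_mem _, by simp⟩
    | succ j ih =>
      obtain ⟨c, hc, hj⟩ := ih
      refine ⟨c1 ^ j * c⁻¹, mul_mem (pow_mem hc1 j) (inv_mem hc), ?_⟩
      rw [Function.iterate_succ_apply', hj]
      have hmap := gd.gZ.map
      rw [hmap.map_mul (mul_mem hz (pow_mem hbZ j)) (hZ13 hc), hmap.map_mul hz (pow_mem hbZ j), hmap.map_pow hbZ, hgz, hgb,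
        hg1 c hc]
      have h3 : Commute b c1 := hcz hc1 (Gm_le _ hbZ)
      rw [h3.mul_pow, pow_succ']
      simp only [mul_assoc]
  obtain ⟨m, hm⟩ : Odd p := hp.out.odd_of_ne_two hp2
  have hfp : ∀ z ∈ Gm G (n - 3), ∃ c ∈ Gm G (n - 1), g^[p] z = z * c := by
    intro z hz
    obtain ⟨c, hc, h1⟩ := hiter z hz p
    rw [su.hexp _ (gd.gmod hz).1, mul_one] at h1
    exact ⟨c, hc, h1⟩
  have hf1 : ∀ x ∈ Gm G (n - 1), g^[p] x = x⁻¹ := by
    intro x hx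
    have h2m : ∀ k : ℕ, g^[2 * k] x = x := by
      intro k
      induction k with
      | zero => rfl
      | succ k ih =>
        rw [show 2 * (k + 1) = 2 * k + 1 + 1 by ring, Function.iterate_succ_apply', Function.iterate_succ_apply', ih, hg1 x hx,
          hg1 _ (inv_mem hx), inv_inv]
    have e : g^[p] x = g^[2 * m + 1] x := by rw [← hm]
    rw [e, Function.iterate_succ_apply', h2m, hg1 x hx]
  obtain ⟨ρ, hρ, hρf⟩ := MCStab.ext_S su.hS su.hF h (by omega) (hiso p)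
    (fun x hx => by rw [hf1 x hx]; exact inv_mem hx)
    (fun x hx => by
      obtain ⟨c, hc, h1⟩ := hfp x (Gm_anti h (by omega) hx)
      rw [h1]
      exact mul_mem hx (Gm_anti h (by omega) hc))
  refine MCEnd.endA hp2 h hn su.h2 hρ.equiv (fun x hx => Subtype.ext ?_) (fun x hx => ?_)
  · rw [hρ.equiv_apply, hρf _ (hZ13 (coe_mem.2 hx)), hf1 _ (coe_mem.2 hx)]
    rfl
  · obtain ⟨c, hc, h1⟩ := hfp x (coe_mem.2 hx)
    rw [← coe_mem]
    have h3 : ((x⁻¹ * hρ.equiv x : S) : Ω) = c := by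
      rw [Subgroup.coe_mul, Subgroup.coe_inv, hρ.equiv_apply, hρf _ (coe_mem.2 hx), h1, inv_mul_cancel_left]
    rw [h3]
    exact hc

omit gd in
/-- facts in case B -/
structure CB (S : Subgroup Ω) (n : ℕ) (G : ℕ → Subgroup ↥S) (E : Subgroup Ω) (D : Subgroup Ω) (e₁ : Ω) : Prop where
  hEC : E ≤ centralizerIn S (Gm G (n - 2))
  Z2E : Gm G (n - 2) ≤ E
  cap : ∀ v ∈ E, v ∈ Gm G (n - 3) → v ∈ Gm G (n - 2)
  DZ : D ≤ Gm G (n - 2)
  e1 : e₁ ∈ Gm G (n - 2)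
  e1' : e₁ ∉ Gm G (n - 1)
  hex : ¬ ⁅G (n - 2), G 1⁆ ≤ G n

theorem Gd.cb [Finite S] [hp : Fact p.Prime] (hE1 : ¬ E ≤ Gm G 1) : CB S n G E D e₁ := by
  have su := gd.su
  have hn := su.hn
  have h := su.h
  have hfE := su.fin
  have hEC : E ≤ centralizerIn S (Gm G (n - 2)) := (le_or_le h su.h2 hn su.le su.hab su.hcard).resolve_left hE1
  have Z2E := su.Z2_le hEC
  have Z23 : Gm G (n - 2) ≤ Gm G (n - 3) := Gm_anti h (by omega)
  have hc2 : Nat.card (Gm G (n - 2)) = p ^ 2 := by rw [card_Gm h (by omega), show n - (n - 2) = 2 by omega]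
  have hfI : Finite (E ⊓ Gm G (n - 3) : Subgroup Ω) := finite_of_le (inf_le_left.trans su.le)
  have hcapeq : Gm G (n - 2) = E ⊓ Gm G (n - 3) :=
    eq_of_le_of_card_ge (le_inf Z2E Z23) (by rw [gd.fix.2.1, hc2])
  have cap : ∀ v ∈ E, v ∈ Gm G (n - 3) → v ∈ Gm G (n - 2) := fun v hv hvZ => by
    rw [hcapeq]; exact ⟨hv, hvZ⟩
  have hZc : ∀ a ∈ Gm G (n - 3), u * a * u⁻¹ = a := fun a ha => by
    rw [Z3_comm h hn gd.uZ ha, mul_inv_cancel_right]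
  have hDZ3 : ∀ v ∈ E, u * v * u⁻¹ = v → v ∈ Gm G (n - 2) := by
    intro v hv hvu
    by_contra hvZ
    apply gd.ud.uE
    refine su.cen gd.ud.uS fun x hx => ?_
    obtain ⟨k, a, ha, rfl⟩ := exists_zpow_mul hp.out Z2E (by rw [su.hcard, hc2]; ring) hv hvZ
      (fun a ha => su.hab _ hv _ (Z2E ha)) hx
    have h1 : u * (v ^ k * a) * u⁻¹ = (u * v * u⁻¹) ^ k * (u * a * u⁻¹) := by rw [conj_zpow]; group
    rw [h1, hvu, hZc a (Z23 ha)]
  have DZ : D ≤ Gm G (n - 2) := fun v hv => hDZ3 v (gd.td.le hv) (gd.td.conjD v hv)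
  have e1 : e₁ ∈ Gm G (n - 2) := cap _ gd.td.mem₁ gd.e1Z
  have he2 : e₂ ∉ Gm G 1 := by
    intro hc
    apply hE1
    intro v hv
    obtain ⟨c, hc', i, j, rfl⟩ := gd.td.dec v hv
    have hZ1 : Gm G (n - 2) ≤ Gm G 1 := Gm_anti h (by omega)
    exact mul_mem (mul_mem (hZ1 (DZ hc')) (zpow_mem (hZ1 e1) i)) (zpow_mem hc j)
  have he2S := su.le gd.td.mem₂
  have e1' : e₁ ∉ Gm G (n - 1) := by
    have h1 : e₁ = ⁅e₂⁻¹, u⁆ := by
      rw [commutatorElement_def]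
      have h3 := gd.td.conj₂
      have h4 : e₁ = e₂⁻¹ * (u * e₂ * u⁻¹) := by rw [h3, inv_mul_cancel_left]
      rw [h4]; group
    have h5 := not_comm_Gm h su.h2 (i := n - 3) (by omega) (by omega) (inv_mem he2S) (fun hc => he2 (by simpa using inv_mem hc))
      gd.uZ (fun hc => gd.ud.uE (Z2E (by rwa [show n - 3 + 1 = n - 2 by omega] at hc)))
    rw [h1]
    rwa [show n - 3 + 2 = n - 1 by omega] at h5
  refine ⟨hEC, Z2E, cap, DZ, e1, e1', fun hcon => ?_⟩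
  -- `Z₂` would be central
  have h1 : ∀ s ∈ S, ∀ z ∈ Gm G (n - 2), s * z = z * s := by
    intro s hs z hz
    have he20 : e₂ ∈ Gm G 0 := by rw [Gm_zero h]; exact he2S
    have hs0 : s ∈ Gm G 0 := by rw [Gm_zero h]; exact hs
    obtain ⟨k, w, hw, rfl⟩ := exists_zpow_Gm h (by omega) he20 he2 hs0
    have c1 : Commute e₂ z := by
      have h3 := mem_centralizer_iff'.1 (hEC gd.td.mem₂).2 z hz
      show e₂ * z = z * e₂
      calc e₂ * z = (e₂ * z * e₂⁻¹) * e₂ := by group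
        _ = z * e₂ := by rw [h3]
    have c2 : Commute w z := by
      rw [zero_add] at hw
      obtain ⟨w, hw, rfl⟩ := hw
      obtain ⟨z, hz, rfl⟩ := hz
      have h3 := hcon (commutator_mem_commutator hz hw)
      have h4 := h.mem_bot' le_rfl h3
      have h5 : z * w = w * z := commutatorElement_eq_one_iff_mul_comm.1 h4
      exact (congrArg Subtype.val h5).symm
    exact (c1.zpow_left k).mul_left c2
  have h3 : ⁅G (n - 2), (⊤ : Subgroup S)⁆ = ⊥ := by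
    rw [eq_bot_iff, commutator_le]
    intro z hz s _
    rw [Subgroup.mem_bot, commutatorElement_eq_one_iff_mul_comm]
    exact Subtype.ext (h1 s s.2 z (coe_mem.2 hz)).symm
  rw [h.comm _ (by omega), show n - 2 + 1 = n - 1 by omega] at h3
  have h4 := h.card (n - 1) (by omega)
  rw [h3, show n - (n - 1) = 1 by omega, pow_one, Subgroup.card_bot] at h4
  exact hp.out.one_lt.ne h4

omit gd in
theorem not_mem_of {e : Ω} [hp : Fact p.Prime] (he : e ^ p = 1) {H : Subgroup Ω} (heH : e ∉ H) {i : ℤ} (hi : e ^ i ∈ H) : e ^ i = 1 := by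
  by_cases hd : (p : ℤ) ∣ i
  · obtain ⟨k, rfl⟩ := hd
    rw [zpow_mul, zpow_natCast, he, one_zpow]
  · exfalso
    apply heH
    have hcop : IsCoprime (p : ℤ) i := (Nat.prime_iff_prime_int.1 hp.out).coprime_iff_not_dvd.2 hd
    obtain ⟨a, b, hab⟩ := hcop
    have h1 : e = (e ^ i) ^ b := by
      calc e = e ^ (a * p + b * i) := by rw [hab, zpow_one]
        _ = (e ^ i) ^ b := by
          rw [zpow_add, mul_comm a, zpow_mul, zpow_natCast, he, one_zpow, one_mul, mul_comm b, zpow_mul]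
    rw [h1]
    exact zpow_mem hi b

/-- case B1 -/
theorem Gd.caseB1 [Finite S] [hp : Fact p.Prime] (hp2 : p ≠ 2) (cb : CB S n G E D e₁)
    (hZ1 : ∀ z ∈ Gm G (n - 1), g z ∈ Gm G (n - 1)) : False := by
  have su := gd.su
  have hn := su.hn
  have h := su.h
  have Z12 : Gm G (n - 1) ≤ Gm G (n - 2) := Gm_anti h (by omega)
  have Z23 : Gm G (n - 2) ≤ Gm G (n - 3) := Gm_anti h (by omega)
  have hid : ∀ x ∈ Gm G (n - 1), g x = x := by
    intro x hx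
    obtain ⟨c, hc, i, rfl⟩ := gd.inter (cb.Z2E (Z12 hx)) (Z23 (Z12 hx))
    have h1 := hZ1 _ hx
    rw [gd.val hc] at h1 ⊢
    have h3 : e₁ ^ i * e₁ ^ i ∈ Gm G (n - 1) := by
      have h4 := mul_mem (inv_mem h1) hx
      have h5 : (c * e₁ ^ (-i))⁻¹ * (c * e₁ ^ i) = e₁ ^ i * e₁ ^ i := by
        rw [zpow_neg]; group
      rwa [h5] at h4
    have h6 : e₁ ^ i ∈ Gm G (n - 1) := by
      obtain ⟨y, hy, hye⟩ := zpow_mem cb.e1 i
      have hye' : (y : Ω) = e₁ ^ i := hye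
      rw [← hye'] at h3 ⊢
      have h7 : y * y ∈ G (n - 1) := coe_mem.1 h3
      have h8 := MCEnd.sq_mem_imp hp2 h (i := n - 2) (by omega) hy (by rwa [show n - 2 + 1 = n - 1 by omega])
      rw [show n - 2 + 1 = n - 1 by omega] at h8
      exact coe_mem.2 h8
    have h9 := not_mem_of gd.td.pow₁ cb.e1' h6
    rw [zpow_neg, h9, inv_one]
  have hz2 : ∀ x ∈ Gm G (n - 2), x * g x ∈ Gm G (n - 1) := by
    intro x hx
    obtain ⟨k, w, hw, rfl⟩ := exists_zpow_Gm h (by omega) cb.e1 (by rw [show n - 2 + 1 = n - 1 by omega]; exact cb.e1') hx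
    rw [show n - 2 + 1 = n - 1 by omega] at hw
    have hwE := cb.Z2E (Z12 hw)
    have h1 : g (e₁ ^ k * w) = e₁ ^ (-k) * w := by
      rw [gd.gE.map.map_mul (zpow_mem gd.td.mem₁ k) hwE, gd.gE.map.map_zpow gd.td.mem₁, gd.g1, hid w hw, inv_zpow']
    have h3 : e₁ ^ k * w = w * e₁ ^ k := su.hab _ (zpow_mem gd.td.mem₁ k) _ hwE
    have h4 : e₁ ^ k * w * (e₁ ^ (-k) * w) = w * w := by
      rw [h3, zpow_neg]; group
    rw [h1, h4]
    exact mul_mem hw hw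
  have h3 : ∀ x ∈ Gm G (n - 3), x⁻¹ * g x ∈ Gm G (n - 2) := fun x hx => cb.cap _ (gd.gmod hx).1 (gd.gmod hx).2
  obtain ⟨ρ, hρ, hρf⟩ := MCStab.ext_S su.hS su.hF h (by omega) gd.gZ hZ1 (fun x hx => by
    have h4 := mul_mem (inv_mem hx) (Z12 (hz2 x hx))
    rwa [inv_mul_cancel_left] at h4)
  refine MCEnd.endB hp2 h hn su.h2 cb.hex hρ.equiv (fun x hx => Subtype.ext ?_) (fun x hx => ?_) (fun x hx => ?_)
  · rw [hρ.equiv_apply, hρf _ (Z23 (Z12 (coe_mem.2 hx))), hid _ (coe_mem.2 hx)]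
  · rw [← coe_mem]
    have h5 : ((x * hρ.equiv x : S) : Ω) = x * g x := by
      rw [Subgroup.coe_mul, hρ.equiv_apply, hρf _ (Z23 (coe_mem.2 hx))]
    rw [h5]
    exact hz2 _ (coe_mem.2 hx)
  · rw [← coe_mem]
    have h5 : ((x⁻¹ * hρ.equiv x : S) : Ω) = (x : Ω)⁻¹ * g x := by
      rw [Subgroup.coe_mul, Subgroup.coe_inv, hρ.equiv_apply, hρf _ (coe_mem.2 hx)]
    rw [h5]
    exact h3 _ (coe_mem.2 hx)

/-- case B2 -/
theorem Gd.caseB2 [Finite S] [hp : Fact p.Prime] (hp2 : p ≠ 2) (cb : CB S n G E D e₁)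
    {z₁ : Ω} (hz1 : z₁ ∈ Gm G (n - 1)) (hgz : g z₁ ∉ Gm G (n - 1)) : False := by
  have su := gd.su
  have hn := su.hn
  have h := su.h
  have Z12 : Gm G (n - 1) ≤ Gm G (n - 2) := Gm_anti h (by omega)
  have Z23 : Gm G (n - 2) ≤ Gm G (n - 3) := Gm_anti h (by omega)
  have hEZ : ∀ v ∈ E, ∀ y ∈ Gm G (n - 3), ⁅v, y⁆ ∈ Subgroup.zpowers e₁ := by
    intro v hv y hy
    obtain ⟨k, hk⟩ := su.hAut gd.ud y (su.Z3_le hy)
    obtain ⟨c, hc, i, j, hd⟩ := gd.td.dec v hv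
    have key : ∀ m : ℕ, u ^ m * v * (u ^ m)⁻¹ = v * (e₁ ^ j) ^ m := by
      intro m
      induction m with
      | zero => simp
      | succ m ih =>
        have h1 : u ^ (m + 1) * v * (u ^ (m + 1))⁻¹ = u * (u ^ m * v * (u ^ m)⁻¹) * u⁻¹ := by
          rw [pow_succ']; group
        have h3 : u * (e₁ ^ j) ^ m * u⁻¹ = (e₁ ^ j) ^ m := by
          have h4 : u * (e₁ ^ j) ^ m * u⁻¹ = ((u * e₁ * u⁻¹) ^ j) ^ m := by
            rw [conj_zpow, conj_pow]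
          rw [h4, gd.td.conj₁]
        have h5 := conj_eq gd.td su.hab hc i j
        rw [← hd] at h5
        rw [h1, ih]
        calc u * (v * (e₁ ^ j) ^ m) * u⁻¹ = (u * v * u⁻¹) * (u * (e₁ ^ j) ^ m * u⁻¹) := by group
          _ = v * (e₁ ^ j) ^ (m + 1) := by rw [h5, h3, mul_assoc, ← pow_succ']
    have h1 : y * v * y⁻¹ = v * (e₁ ^ j) ^ k := by rw [hk v hv, key k]
    have h3 : ⁅v, y⁆ = ((e₁ ^ j) ^ k)⁻¹ := by
      have hw : (e₁ ^ j) ^ k ∈ E := pow_mem (zpow_mem gd.td.mem₁ j) k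
      have h4 : ⁅v, y⁆ = v * (y * v * y⁻¹)⁻¹ := by rw [commutatorElement_def]; group
      rw [h4, h1, mul_inv_rev, ← mul_assoc, su.hab _ hv _ (inv_mem hw), mul_inv_cancel_right]
    rw [h3]
    exact inv_mem (pow_mem (zpow_mem (mem_zpowers e₁) j) k)
  obtain ⟨E', hE', hE'1, hab', hexp', hc'⟩ := MCMove.move_aux su.hS su.hF h su.h2 hn
    (fun E1 f hf hfn => EssConj.essential_of_fiso su.hE hf hfn) su.hE su.hab su.hexp su.hcard cb.hEC cb.e1 cb.e1' hEZ gd.gZ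
    (fun x hx => cb.cap _ (gd.gE.mem (cb.Z2E hx)) (gd.fix.1 x (Z23 hx))) hz1 hgz gd.fix.2.2.1 gd.fix.2.2.2
  have su' : Su F p n G E' := ⟨su.hS, su.hF, h, su.h2, hn, hE', hab', hexp', hc'⟩
  obtain ⟨u', e₀', ud', uZ'⟩ := su'.exists_ud
  obtain ⟨D', e₁', e₂', td'⟩ := su'.tdata ud'
  obtain ⟨g', gd'⟩ := exists_g su' ud' uZ' td'
  exact gd'.caseA hp2 hE'1

omit gd in
theorem main [Finite S] [hp : Fact p.Prime] (hp2 : p ≠ 2) (su : Su F p n G E) : False := by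
  obtain ⟨u, e₀, ud, uZ⟩ := su.exists_ud
  obtain ⟨D, e₁, e₂, td⟩ := su.tdata ud
  obtain ⟨g, gd⟩ := exists_g su ud uZ td
  by_cases hE1 : E ≤ Gm G 1
  · exact gd.caseA hp2 hE1
  · have cb := gd.cb hE1
    by_cases hZ : ∀ z ∈ Gm G (n - 1), g z ∈ Gm G (n - 1)
    · exact gd.caseB1 hp2 cb hZ
    · push Not at hZ
      obtain ⟨z, hz, hz'⟩ := hZ
      exact gd.caseB2 hp2 cb hz hz'

end Cfsg.Agent.Lib.MCAsm
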