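import Cfsg.Agent.Lib.EssLin
import Cfsg.Agent.Lib.FusionTransv
import Cfsg.Agent.Lib.BlackburnEss
import Cfsg.Agent.Lib.BlackburnPearl

/-!
Essential subgroups of order `p ^ 3` in `p`-groups of maximal class: basic facts (helper99).
-/

set_option autoImplicit false

namespace Cfsg.Agent.Lib.MCBase

open Subgroup Cfsg Cfsg.FusionSystem
open scoped commutatorElement
open Cfsg.Agent.Lib.FusionBasic Cfsg.Agent.Lib.FusionSat Cfsg.Agent.Lib.TwoTransv Cfsg.Agent.Lib.FusionTransv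
open Cfsg.Agent.Lib.BlackburnHP Cfsg.Agent.Lib.BlackburnChain Cfsg.Agent.Lib.BlackburnChain.MC Cfsg.Agent.Lib.BlackburnCons
open Cfsg.Agent.Lib.EssSection

variable {Ω : Type*} [Group Ω] {S : Subgroup Ω} {F : FusionSystem S} {p n : ℕ} {G : ℕ → Subgroup ↥S} {E : Subgroup Ω}

/-- the chain inside the ambient group -/
abbrev Gm (G : ℕ → Subgroup ↥S) (i : ℕ) : Subgroup Ω := (G i).map S.subtype

theorem mem_Gm {i : ℕ} {x : Ω} : x ∈ Gm G i ↔ ∃ hx : x ∈ S, (⟨x, hx⟩ : S) ∈ G i := by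
  constructor
  · rintro ⟨y, hy, rfl⟩
    exact ⟨y.2, hy⟩
  · rintro ⟨hx, h⟩
    exact ⟨_, h, rfl⟩

theorem coe_mem {i : ℕ} {x : S} : (x : Ω) ∈ Gm G i ↔ x ∈ G i := by
  rw [mem_Gm]
  exact ⟨fun ⟨_, h⟩ => h, fun h => ⟨x.2, h⟩⟩

theorem Gm_le (i : ℕ) : Gm G i ≤ S := map_subtype_le _

theorem Gm_anti (h : MC p n G) {i j : ℕ} (hij : i ≤ j) : Gm G j ≤ Gm G i := map_mono (h.anti hij)

theorem comm_mem_Gm (h : MC p n G) {i : ℕ} (hi : 1 ≤ i) {s x : Ω} (hs : s ∈ S) (hx : x ∈ Gm G i) : ⁅s, x⁆ ∈ Gm G (i + 1) := by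
  obtain ⟨y, hy, rfl⟩ := hx
  exact ⟨_, h.comm_mem hi ⟨s, hs⟩ hy, rfl⟩

theorem conj_mem_Gm (h : MC p n G) {i : ℕ} {s x : Ω} (hs : s ∈ S) (hx : x ∈ Gm G i) : s * x * s⁻¹ ∈ Gm G i := by
  obtain ⟨y, hy, rfl⟩ := hx
  exact ⟨_, (h.normal i).conj_mem y hy ⟨s, hs⟩, rfl⟩

theorem two_step_Gm [hp : Fact p.Prime] (h : MC p n G) (h2 : ⁅G 2, G 1⁆ ≤ G 4) {i : ℕ} (hi : 1 ≤ i) (hin : i + 3 ≤ n) {s x : Ω}
    (hs : s ∈ Gm G 1) (hx : x ∈ Gm G i) : ⁅s, x⁆ ∈ Gm G (i + 2) := by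
  obtain ⟨y, hy, rfl⟩ := hx
  obtain ⟨t, ht, rfl⟩ := hs
  refine ⟨⁅t, y⁆, ?_, rfl⟩
  have h1 := (two_step h h2 i hi hin) (commutator_mem_commutator hy ht)
  have h3 := (G (i + 2)).inv_mem h1
  rwa [commutatorElement_inv] at h3

theorem not_comm_Gm [hp : Fact p.Prime] (h : MC p n G) (h2 : ⁅G 2, G 1⁆ ≤ G 4) {i : ℕ} (hi : 1 ≤ i) (hin : i + 3 ≤ n) {s x : Ω}
    (hs : s ∈ S) (hs1 : s ∉ Gm G 1) (hx : x ∈ Gm G i) (hx' : x ∉ Gm G (i + 1)) : ⁅s, x⁆ ∉ Gm G (i + 2) := by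
  obtain ⟨y, hy, rfl⟩ := hx
  intro hcon
  obtain ⟨hS, hc⟩ := mem_Gm.1 hcon
  refine h.not_comm hi (by omega) (two_step h h2 i hi hin) (s := ⟨s, hs⟩) (x := y) ?_ hy ?_ hc
  · intro h3; exact hs1 (mem_Gm.2 ⟨hs, h3⟩)
  · intro h3; exact hx' (coe_mem.2 h3)

theorem card_Gm (h : MC p n G) {i : ℕ} (hi : i ≤ n) : Nat.card (Gm G i) = p ^ (n - i) := by
  rw [← h.card i hi]
  exact Nat.card_congr ((G i).equivMapOfInjective S.subtype (subtype_injective S)).toEquiv.symm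

theorem mem_Gm_n (h : MC p n G) {i : ℕ} (hi : n ≤ i) {x : Ω} (hx : x ∈ Gm G i) : x = 1 := by
  obtain ⟨y, hy, rfl⟩ := hx
  rw [h.mem_bot' hi hy]
  rfl

theorem Gm_zero (h : MC p n G) : Gm G 0 = S := by
  ext x
  rw [mem_Gm, h.zero]
  exact ⟨fun ⟨hx, _⟩ => hx, fun hx => ⟨hx, mem_top _⟩⟩

theorem wt_Gm (h : MC p n G) {i j k : ℕ} (hi : 1 ≤ i) (hj : 1 ≤ j) (hk : k ≤ i + j) {x y : Ω} (hx : x ∈ Gm G i)
    (hy : y ∈ Gm G j) : ⁅x, y⁆ ∈ Gm G k := by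
  obtain ⟨x, hx, rfl⟩ := hx
  obtain ⟨y, hy, rfl⟩ := hy
  exact ⟨_, h.wt_le hi hj hk hx hy, rfl⟩

theorem comm_eq {x y : Ω} : ⁅x, y⁆ = 1 ↔ x * y = y * x := commutatorElement_eq_one_iff_mul_comm

theorem exists_zpow_Gm [hp : Fact p.Prime] (h : MC p n G) {i : ℕ} (hi : i < n) {x : Ω} (hx : x ∈ Gm G i)
    (hx' : x ∉ Gm G (i + 1)) {y : Ω} (hy : y ∈ Gm G i) : ∃ k : ℤ, ∃ w ∈ Gm G (i + 1), y = x ^ k * w := by
  obtain ⟨x, hx, rfl⟩ := hx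
  obtain ⟨y, hy, rfl⟩ := hy
  obtain ⟨k, w, hw, hk⟩ := h.exists_zpow hi hx (fun h3 => hx' (coe_mem.2 h3)) hy
  exact ⟨k, w, coe_mem.2 hw, by rw [hk]; simp⟩

/-- `Z₃` is abelian -/
theorem Z3_comm [hp : Fact p.Prime] (h : MC p n G) (hn : 5 ≤ n) {x y : Ω} (hx : x ∈ Gm G (n - 3)) (hy : y ∈ Gm G (n - 3)) :
    x * y = y * x := by
  have h23 : ∀ a ∈ Gm G (n - 3), ∀ b ∈ Gm G (n - 2), a * b = b * a := fun a ha b hb =>
    comm_eq.1 (mem_Gm_n h le_rfl (wt_Gm h (by omega) (by omega) (k := n) (by omega) ha hb))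
  obtain ⟨z, hz, hz'⟩ := h.exists_mem (i := n - 3) (by omega)
  have hzm : (z : Ω) ∈ Gm G (n - 3) := coe_mem.2 hz
  have hz3 : n - 3 + 1 = n - 2 := by omega
  have hzn : (z : Ω) ∉ Gm G (n - 3 + 1) := fun h3 => hz' (coe_mem.1 h3)
  obtain ⟨k, w, hw, rfl⟩ := exists_zpow_Gm h (by omega) hzm hzn hx
  obtain ⟨l, w', hw', rfl⟩ := exists_zpow_Gm h (by omega) hzm hzn hy
  rw [hz3] at hw hw'
  have c1 : Commute (z : Ω) w := h23 _ hzm _ hw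
  have c2 : Commute (z : Ω) w' := h23 _ hzm _ hw'
  have c3 : Commute w w' := h23 _ (Gm_anti h (by omega) hw) _ hw'
  have c4 : Commute ((z : Ω) ^ k) ((z : Ω) ^ l) := (Commute.refl _).zpow_zpow _ _
  exact ((c4.mul_right (c2.zpow_left k)).mul_left (((c1.zpow_left l).symm).mul_right c3))

/-- an abelian subgroup of order `p ^ 3` lies in `G 1` or centralizes `Z₂` -/
theorem le_or_le [Finite S] [hp : Fact p.Prime] (h : MC p n G) (h2 : ⁅G 2, G 1⁆ ≤ G 4) (hn : 5 ≤ n) (hES : E ≤ S)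
    (hab : ∀ x ∈ E, ∀ y ∈ E, x * y = y * x) (hcard : Nat.card E = p ^ 3) :
    E ≤ Gm G 1 ∨ E ≤ centralizerIn S (Gm G (n - 2)) := by
  have key : ∀ a ∈ E, a ∉ Gm G 1 → a ∉ centralizerIn S (Gm G (n - 2)) → False := by
    intro a ha ha1 haC
    have haS := hES ha
    have h3 : ∃ z ∈ Gm G (n - 2), ⁅a, z⁆ ≠ 1 := by
      by_contra hcon
      push Not at hcon
      apply haC
      refine mem_centralizerIn.2 ⟨haS, ?_⟩
      rw [mem_centralizer_iff']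
      intro z hz
      have := comm_eq.1 (hcon z hz)
      rw [this, mul_inv_cancel_right]
    obtain ⟨_, ⟨z, hz, rfl⟩, hz2⟩ := h3
    have hs1 : (⟨a, haS⟩ : S) ∉ G 1 := fun h3 => ha1 (mem_Gm.2 ⟨haS, h3⟩)
    have hu := unif_of h (by omega) h2 hz hs1 (fun h3 => hz2 (congrArg Subtype.val h3))
    have hc := card_centralizer h (by omega) hs1 hu
    have hle : E.subgroupOf S ≤ centralizer ({(⟨a, haS⟩ : S)} : Set S) := by
      intro x hx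
      rw [mem_centralizer_singleton_iff]
      exact Subtype.ext (hab _ (mem_subgroupOf.1 hx) a ha)
    have h4 : Nat.card (E.subgroupOf S) = p ^ 3 := by
      rw [← hcard]
      exact Nat.card_congr (subgroupOfEquivOfLe hES).toEquiv
    have h5 := card_le_of_le hle
    rw [h4, hc] at h5
    have h6 := Nat.pow_le_pow_iff_right hp.out.one_lt |>.1 h5
    omega
  by_contra hcon
  push Not at hcon
  obtain ⟨h1, h3⟩ := hcon
  obtain ⟨a, ha, ha1⟩ := SetLike.not_le_iff_exists.1 h1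
  obtain ⟨b, hb, hb1⟩ := SetLike.not_le_iff_exists.1 h3
  have haC : a ∈ centralizerIn S (Gm G (n - 2)) := by
    by_contra hc
    exact key a ha ha1 hc
  have hbG : b ∈ Gm G 1 := by
    by_contra hc
    exact key b hb hc hb1
  refine key (a * b) (mul_mem ha hb) (fun hc => ha1 ?_) (fun hc => hb1 ?_)
  · have := mul_mem hc (inv_mem hbG)
    rwa [mul_inv_cancel_right] at this
  · have := mul_mem (inv_mem haC) hc
    rwa [inv_mul_cancel_left] at this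

end Cfsg.Agent.Lib.MCBase
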