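import Cfsg.Agent.Lib.MCBase

/-!
Essential subgroups of order `p ^ 3` in `p`-groups of maximal class: the transvection and the involution (helper99).
-/

set_option autoImplicit false

namespace Cfsg.Agent.Lib.MCData

open Subgroup Cfsg Cfsg.FusionSystem
open scoped commutatorElement
open Cfsg.Agent.Lib.FusionBasic Cfsg.Agent.Lib.FusionSat Cfsg.Agent.Lib.TwoTransv Cfsg.Agent.Lib.FusionTransv
open Cfsg.Agent.Lib.BlackburnHP Cfsg.Agent.Lib.BlackburnChain Cfsg.Agent.Lib.BlackburnChain.MC Cfsg.Agent.Lib.BlackburnCons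
open Cfsg.Agent.Lib.EssSection Cfsg.Agent.Lib.MCBase Cfsg.Agent.Lib.EssLin Cfsg.Agent.Lib.FusionAlperin

variable {Ω : Type*} [Group Ω] {S : Subgroup Ω} {F : FusionSystem S} {p n : ℕ} {G : ℕ → Subgroup ↥S} {E : Subgroup Ω}

structure Su (F : FusionSystem S) (p n : ℕ) (G : ℕ → Subgroup ↥S) (E : Subgroup Ω) : Prop where
  hS : IsPGroup p S
  hF : F.IsSaturated p
  h : MC p n G
  h2 : ⁅G 2, G 1⁆ ≤ G 4
  hn : 5 ≤ n
  hE : F.IsEssential p E
  hab : ∀ x ∈ E, ∀ y ∈ E, x * y = y * x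
  hexp : ∀ x ∈ E, x ^ p = 1
  hcard : Nat.card E = p ^ 3

theorem exists_zpow_mul {A B : Subgroup Ω} [Finite B] (hp : p.Prime) (hAB : A ≤ B) (hc : Nat.card B = p * Nat.card A) {b : Ω} (hb : b ∈ B)
    (hbA : b ∉ A) (hcomm : ∀ a ∈ A, b * a = a * b) {x : Ω} (hx : x ∈ B) : ∃ k : ℤ, ∃ a ∈ A, x = b ^ k * a := by
  have hck : ∀ a ∈ A, ∀ k : ℤ, Commute (b ^ k) a := fun a ha k => (show Commute b a from hcomm a ha).zpow_left k
  let C : Subgroup Ω :=
    { carrier := {x | ∃ k : ℤ, ∃ a ∈ A, x = b ^ k * a}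
      one_mem' := ⟨0, 1, one_mem _, by simp⟩
      mul_mem' := by
        rintro _ _ ⟨k, a, ha, rfl⟩ ⟨l, c, hc, rfl⟩
        refine ⟨k + l, a * c, mul_mem ha hc, ?_⟩
        rw [zpow_add, mul_assoc, ← mul_assoc a, ← (hck a ha l).eq]
        simp only [mul_assoc]
      inv_mem' := by
        rintro _ ⟨k, a, ha, rfl⟩
        refine ⟨-k, a⁻¹, inv_mem ha, ?_⟩
        rw [mul_inv_rev, zpow_neg, ← zpow_neg, ((hck _ (inv_mem ha) (-k)).eq)] }
  have hAC : A ≤ C := fun a ha => ⟨0, a, ha, by simp⟩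
  have hbC : b ∈ C := ⟨1, 1, one_mem _, by simp⟩
  have hCB : C ≤ B := by
    rintro _ ⟨k, a, ha, rfl⟩
    exact mul_mem (zpow_mem hb k) (hAB ha)
  have hfC : Finite C := Finite.of_injective _ (inclusion_injective hCB)
  have hCne : Nat.card C ≠ Nat.card A := by
    intro h
    have := eq_of_le_of_card_ge hAC h.le
    exact hbA (this ▸ hbC)
  obtain ⟨d, hd⟩ := card_dvd_of_le hAC
  obtain ⟨e, he⟩ := card_dvd_of_le hCB
  have hApos : 0 < Nat.card A := by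
    have : Finite A := Finite.of_injective _ (inclusion_injective hAB)
    exact Nat.card_pos
  have h1 : p = d * e := by
    have h2 : Nat.card A * p = Nat.card A * (d * e) := by
      rw [mul_comm, ← hc, he, hd, mul_assoc]
    exact Nat.eq_of_mul_eq_mul_left hApos h2
  have hd1 : d ≠ 1 := fun h3 => hCne (by rw [hd, h3, mul_one])
  have hdp : d = p := by
    rcases (Nat.dvd_prime hp).1 ⟨e, h1⟩ with h3 | h3
    · exact absurd h3 hd1
    · exact h3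
  have hCB' : C = B := eq_of_le_of_card_ge hCB (by rw [hc, hd, hdp, mul_comm])
  have hxC : x ∈ C := hCB' ▸ hx
  exact hxC

variable (su : Su F p n G E)

include su

theorem Su.le : E ≤ S := su.hE.1.1

theorem Su.fin [Finite S] : Finite E := finite_of_le su.le

theorem Su.cen {s : Ω} (hs : s ∈ S) (h : ∀ x ∈ E, s * x * s⁻¹ = x) : s ∈ E :=
  su.hE.1.2 E (isConj_refl F su.le) (mem_centralizerIn.2 ⟨hs, mem_centralizer_iff'.2 h⟩)

theorem Su.Z1_le : Gm G (n - 1) ≤ E := by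
  intro x hx
  have hn := su.hn
  refine su.cen (Gm_le _ hx) fun y hy => ?_
  have h1 := comm_mem_Gm su.h (by omega) (su.le hy) hx
  have h3 := comm_eq.1 (mem_Gm_n su.h (by omega) h1)
  rw [← h3, mul_inv_cancel_right]

theorem Su.Z2_le (hC : E ≤ centralizerIn S (Gm G (n - 2))) : Gm G (n - 2) ≤ E := by
  intro x hx
  refine su.cen (Gm_le _ hx) fun y hy => ?_
  have h1 := mem_centralizer_iff'.1 (hC hy).2 x hx
  have h3 : y * x = x * y := by
    calc y * x = (y * x * y⁻¹) * y := by group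
      _ = x * y := by rw [h1]
  rw [← h3, mul_inv_cancel_right]

theorem Su.mem_normalizer_of {z : Ω} {H : Subgroup Ω} (hz : z ∈ H) (h : ∀ z ∈ H, ∀ v ∈ E, z * v * z⁻¹ ∈ E) :
    z ∈ normalizer (E : Set Ω) := by
  rw [mem_normalizer_iff]
  intro v
  constructor
  · exact fun hv => h z hz v hv
  · intro hv
    have := h z⁻¹ (inv_mem hz) _ hv
    have h3 : z⁻¹ * (z * v * z⁻¹) * z⁻¹⁻¹ = v := by group
    rwa [h3] at this

theorem Su.Z3_norm [Finite S] [hp : Fact p.Prime] {z v : Ω} (hz : z ∈ Gm G (n - 3)) (hv : v ∈ E) : ⁅z, v⁆ ∈ E := by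
  have hn := su.hn
  rcases le_or_le su.h su.h2 hn su.le su.hab su.hcard with h1 | h1
  · have h3 := two_step_Gm su.h su.h2 (i := n - 3) (by omega) (by omega) (h1 hv) hz
    rw [show n - 3 + 2 = n - 1 by omega] at h3
    have h4 := E.inv_mem (su.Z1_le h3)
    rwa [commutatorElement_inv] at h4
  · have h3 := comm_mem_Gm su.h (i := n - 3) (by omega) (su.le hv) hz
    rw [show n - 3 + 1 = n - 2 by omega] at h3
    have h4 := E.inv_mem (su.Z2_le h1 h3)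
    rwa [commutatorElement_inv] at h4

theorem Su.Z3_le [Finite S] [hp : Fact p.Prime] : Gm G (n - 3) ≤ normalizerIn S E := by
  intro z hz
  refine mem_normalizerIn.2 ⟨Gm_le _ hz, su.mem_normalizer_of hz fun y hy v hv => ?_⟩
  have h1 := su.Z3_norm hy hv
  have h3 := mul_mem h1 hv
  rwa [commutatorElement_def, inv_mul_cancel_right] at h3

omit su in
/-- `u` induces a central transvection on `E` -/
structure UD (S E : Subgroup Ω) (u e₀ : Ω) : Prop where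
  uS : u ∈ S
  uE : u ∉ E
  uN : u ∈ normalizer (E : Set Ω)
  e0 : e₀ ∈ E
  ne : e₀ ≠ 1
  fix : u * e₀ * u⁻¹ = e₀
  act : ∀ v ∈ E, ∃ k : ℤ, u * v * u⁻¹ = v * e₀ ^ k
  cen : ∀ t ∈ normalizerIn S E, ⁅t, u⁆ ∈ E

theorem Su.hAut [Finite S] [hp : Fact p.Prime] {u e₀ : Ω} (ud : UD S E u e₀) :
    ∀ t ∈ normalizerIn S E, ∃ k : ℕ, ∀ x ∈ E, t * x * t⁻¹ = u ^ k * x * (u ^ k)⁻¹ := by
  intro t ht
  have hfE : Finite E := su.fin
  obtain ⟨htS, htN⟩ := mem_normalizerIn.1 ht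
  let _ : CommGroup E := { (inferInstance : Group E) with mul_comm := fun x y => Subtype.ext (su.hab x x.2 y y.2) }
  have hess : EssS p (F.autGroup E) (autInducedBy S E) (extAuts F E) := essS_of_essential su.hS su.hF su.hE
  obtain ⟨x, hx⟩ : ∃ x : MulAut E, x = conjAut E u ud.uN := ⟨_, rfl⟩
  have hxa : ∀ v : E, ((x v : E) : Ω) = u * v * u⁻¹ := fun v => by rw [hx, conjAut_apply]
  have hxU : x ∈ autInducedBy S E := by rw [hx]; exact conjAut_mem_autInducedBy ud.uN ud.uS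
  have hxt : IsTrans p x (⟨e₀, ud.e0⟩ : E) :=
    { ne := fun h => ud.ne (congrArg Subtype.val h)
      pow := Subtype.ext (su.hexp _ ud.e0)
      fix := Subtype.ext (by rw [hxa]; exact ud.fix)
      act := fun v => by
        obtain ⟨k, hk⟩ := ud.act v v.2
        exact ⟨k, Subtype.ext (by rw [hxa, hk]; rfl)⟩
      ne_one := fun h => ud.uE (su.cen ud.uS fun v hv => by
        have h1 := hxa ⟨v, hv⟩
        rw [h] at h1
        exact h1.symm) }
  have hcomm : ∀ α ∈ autInducedBy S E, α * x = x * α := by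
    intro α hα
    obtain ⟨s, hs, h1⟩ := mem_autInducedBy_iff.1 hα
    have hsN : s ∈ normalizer (E : Set Ω) := mem_normalizer_of_aut h1
    refine MulEquiv.ext fun v => Subtype.ext ?_
    show ((α (x v) : E) : Ω) = (x (α v) : E)
    rw [h1, hxa, hxa, h1]
    have h3 := ud.cen s (mem_normalizerIn.2 ⟨hs, hsN⟩)
    have h4 : s * u = ⁅s, u⁆ * (u * s) := by rw [commutatorElement_def]; group
    have h5 : s * (u * v * u⁻¹) * s⁻¹ = ⁅s, u⁆ * (u * (s * v * s⁻¹) * u⁻¹) * ⁅s, u⁆⁻¹ := by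
      calc s * (u * v * u⁻¹) * s⁻¹ = (s * u) * v * (s * u)⁻¹ := by group
        _ = _ := by rw [h4]; group
    rw [h5]
    have h6 : u * (s * v * s⁻¹) * u⁻¹ ∈ E := (mem_normalizer_iff.1 ud.uN _).1 ((mem_normalizer_iff.1 hsN _).1 v.2)
    rw [su.hab _ h3 _ h6, mul_inv_cancel_right]
  have hV : IsPGroup p E := isPGroup_of_le su.hS su.le
  have h7 := lin hV hess hxt hxU hcomm (conjAut E t htN) (conjAut_mem_autInducedBy htN htS)
  rw [← mem_powers_iff_mem_zpowers] at h7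
  obtain ⟨k, hk⟩ := h7
  refine ⟨k, fun v hv => ?_⟩
  have h8 : (((x ^ k) ⟨v, hv⟩ : E) : Ω) = t * v * t⁻¹ := by
    have : x ^ k = conjAut E t htN := hk
    rw [this, conjAut_apply]
  rw [← h8, hx, conjAut_pow]

theorem Su.N_dec [Finite S] [hp : Fact p.Prime] {u e₀ : Ω} (ud : UD S E u e₀) :
    ∀ t ∈ normalizerIn S E, ∃ k : ℤ, ∃ v ∈ E, t = u ^ k * v := by
  intro t ht
  obtain ⟨k, hk⟩ := su.hAut ud t ht
  refine ⟨k, (u ^ k)⁻¹ * t, su.cen (mul_mem (inv_mem (pow_mem ud.uS k)) (normalizerIn_le _ _ ht)) fun x hx => ?_, ?_⟩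
  · have h1 := hk x hx
    calc (u ^ k)⁻¹ * t * x * ((u ^ k)⁻¹ * t)⁻¹ = (u ^ k)⁻¹ * (t * x * t⁻¹) * u ^ k := by group
      _ = x := by rw [h1]; group
  · rw [zpow_natCast, mul_inv_cancel_left]

theorem Su.tdata [Finite S] [hp : Fact p.Prime] {u e₀ : Ω} (ud : UD S E u e₀) : ∃ D e₁ e₂, TData F p E u e₀ D e₁ e₂ :=
  exists_tdata su.hS su.hF su.hE su.hab ud.uS ud.uN ud.uE ud.e0 ud.ne (su.hexp _ ud.e0) ud.fix ud.act (su.hAut ud)

theorem Su.up [Finite S] [hp : Fact p.Prime] {u e₀ : Ω} (ud : UD S E u e₀) : u ^ p ∈ E := by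
  refine su.cen (pow_mem ud.uS p) fun v hv => ?_
  obtain ⟨k, hk⟩ := ud.act v hv
  have key : ∀ j : ℕ, u ^ j * v * (u ^ j)⁻¹ = v * (e₀ ^ k) ^ j := by
    intro j
    induction j with
    | zero => simp
    | succ j ih =>
      have h1 : u ^ (j + 1) * v * (u ^ (j + 1))⁻¹ = u * (u ^ j * v * (u ^ j)⁻¹) * u⁻¹ := by
        rw [pow_succ']; group
      have h3 : ∀ m : ℕ, u * (e₀ ^ k) ^ m * u⁻¹ = (e₀ ^ k) ^ m := by
        intro m
        have h4 : u * (e₀ ^ k) ^ m * u⁻¹ = ((u * e₀ * u⁻¹) ^ k) ^ m := by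
          rw [conj_zpow, conj_pow]
        rw [h4, ud.fix]
      rw [h1, ih]
      calc u * (v * (e₀ ^ k) ^ j) * u⁻¹ = (u * v * u⁻¹) * (u * (e₀ ^ k) ^ j * u⁻¹) := by group
        _ = v * (e₀ ^ k) ^ (j + 1) := by rw [hk, h3, mul_assoc, ← pow_succ']
  rw [key p, ← zpow_natCast, ← zpow_mul, mul_comm, zpow_mul, zpow_natCast, su.hexp _ ud.e0, one_zpow, mul_one]

/-- case `Z₂ ≰ E` -/
theorem Su.ud1 [Finite S] [hp : Fact p.Prime] (hZ : ¬ Gm G (n - 2) ≤ E) : ∃ u e₀, UD S E u e₀ ∧ u ∈ Gm G (n - 2) := by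
  have hn := su.hn
  obtain ⟨u, hu, huE⟩ := SetLike.not_le_iff_exists.1 hZ
  obtain ⟨z, hz, hz'⟩ := su.h.exists_mem (i := n - 1) (by omega)
  have hzm : (z : Ω) ∈ Gm G (n - 1) := coe_mem.2 hz
  have hzn : (z : Ω) ∉ Gm G (n - 1 + 1) := fun h3 => hz' (coe_mem.1 h3)
  have hz1 : (z : Ω) ≠ 1 := fun h1 => hzn (h1 ▸ one_mem _)
  have hcomm : ∀ t ∈ S, ⁅t, u⁆ ∈ Gm G (n - 1) := fun t ht => by
    have := comm_mem_Gm su.h (i := n - 2) (by omega) ht hu
    rwa [show n - 2 + 1 = n - 1 by omega] at this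
  have huS := Gm_le _ hu
  refine ⟨u, z, ⟨huS, huE, ?_, su.Z1_le hzm, hz1, ?_, ?_, fun t ht => su.Z1_le (hcomm t (normalizerIn_le _ _ ht))⟩, hu⟩
  · exact (mem_normalizerIn.1 (su.Z3_le (Gm_anti su.h (by omega) hu))).2
  · have h1 := comm_mem_Gm su.h (i := n - 1) (by omega) huS hzm
    have h3 := comm_eq.1 (mem_Gm_n su.h (by omega) h1)
    rw [h3, mul_inv_cancel_right]
  · intro v hv
    have h1 := hcomm v⁻¹ (inv_mem (su.le hv))
    obtain ⟨k, w, hw, hk⟩ := exists_zpow_Gm su.h (by omega) hzm hzn h1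
    rw [mem_Gm_n su.h (by omega) hw, mul_one] at hk
    refine ⟨k, ?_⟩
    rw [← hk, commutatorElement_def]
    group

omit su in
theorem exists_not_mem {A B : Subgroup Ω} [Finite A] (h : Nat.card A < Nat.card B) : ∃ x ∈ B, x ∉ A := by
  by_contra hcon
  push Not at hcon
  have h1 : B ≤ A := hcon
  have := card_le_of_le h1
  omega

/-- case `Z₂ ≤ E ≠ Z₃` -/
theorem Su.ud2 [Finite S] [hp : Fact p.Prime] (hZ : Gm G (n - 2) ≤ E) (hne : E ≠ Gm G (n - 3)) :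
    ∃ u e₀, UD S E u e₀ ∧ u ∈ Gm G (n - 3) := by
  have hn := su.hn
  have hfE := su.fin
  have hc2 : Nat.card (Gm G (n - 2)) = p ^ 2 := by rw [card_Gm su.h (by omega), show n - (n - 2) = 2 by omega]
  have hc3 : Nat.card (Gm G (n - 3)) = p ^ 3 := by rw [card_Gm su.h (by omega), show n - (n - 3) = 3 by omega]
  have hfZ : Finite (Gm G (n - 3)) := finite_of_le (Gm_le _)
  have hfZ2 : Finite (Gm G (n - 2)) := finite_of_le (Gm_le _)
  obtain ⟨u, hu, huE⟩ : ∃ u ∈ Gm G (n - 3), u ∉ E := by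
    by_contra hcon
    push Not at hcon
    exact hne (eq_of_le_of_card_ge (show Gm G (n - 3) ≤ E from hcon) (by rw [su.hcard, hc3])).symm
  have huS := Gm_le _ hu
  have hcomm : ∀ t ∈ S, ⁅t, u⁆ ∈ Gm G (n - 2) := fun t ht => by
    have := comm_mem_Gm su.h (i := n - 3) (by omega) ht hu
    rwa [show n - 3 + 1 = n - 2 by omega] at this
  obtain ⟨v₀, hv0, hv0Z⟩ : ∃ v ∈ E, v ∉ Gm G (n - 2) := exists_not_mem (by
    rw [hc2, su.hcard]
    exact Nat.pow_lt_pow_right hp.out.one_lt (by norm_num))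
  have he0 := hcomm v₀⁻¹ (inv_mem (su.le hv0))
  have huc : ∀ z ∈ Gm G (n - 2), u * z * u⁻¹ = z := fun z hz => by
    rw [Z3_comm su.h hn hu (Gm_anti su.h (by omega) hz), mul_inv_cancel_right]
  have hconj : u * v₀ * u⁻¹ = v₀ * ⁅v₀⁻¹, u⁆ := by rw [commutatorElement_def]; group
  have hgen : ∀ v ∈ E, ∃ k : ℤ, ∃ a ∈ Gm G (n - 2), v = v₀ ^ k * a := fun v hv =>
    exists_zpow_mul hp.out hZ (by rw [su.hcard, hc2]; ring) hv0 hv0Z (fun a ha => su.hab _ hv0 _ (hZ ha)) hv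
  have hact : ∀ v ∈ E, ∃ k : ℤ, u * v * u⁻¹ = v * ⁅v₀⁻¹, u⁆ ^ k := by
    intro v hv
    obtain ⟨k, a, ha, rfl⟩ := hgen v hv
    refine ⟨k, ?_⟩
    have c1 : Commute v₀ ⁅v₀⁻¹, u⁆ := su.hab _ hv0 _ (hZ he0)
    have c2 : Commute (⁅v₀⁻¹, u⁆ ^ k) a := (show Commute ⁅v₀⁻¹, u⁆ a from su.hab _ (hZ he0) _ (hZ ha)).zpow_left k
    calc u * (v₀ ^ k * a) * u⁻¹ = (u * v₀ * u⁻¹) ^ k * (u * a * u⁻¹) := by rw [conj_zpow]; group
      _ = v₀ ^ k * ⁅v₀⁻¹, u⁆ ^ k * a := by rw [hconj, huc a ha, c1.mul_zpow]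
      _ = v₀ ^ k * a * ⁅v₀⁻¹, u⁆ ^ k := by rw [mul_assoc, c2.eq, mul_assoc]
  refine ⟨u, ⁅v₀⁻¹, u⁆, ⟨huS, huE, ?_, hZ he0, ?_, huc _ he0, hact, fun t ht => hZ (hcomm t (normalizerIn_le _ _ ht))⟩, hu⟩
  · exact (mem_normalizerIn.1 (su.Z3_le hu)).2
  · intro h1
    apply huE
    refine su.cen huS fun v hv => ?_
    obtain ⟨k, hk⟩ := hact v hv
    rw [hk, h1, one_zpow, mul_one]

/-- `E ≠ Z₃` -/
theorem Su.ne_Z3 [Finite S] [hp : Fact p.Prime] : E ≠ Gm G (n - 3) := by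
  intro hEZ
  have hn := su.hn
  obtain ⟨u, hu, hu'⟩ := su.h.exists_mem (i := n - 4) (by omega)
  have hum : (u : Ω) ∈ Gm G (n - 4) := coe_mem.2 hu
  have hun : (u : Ω) ∉ Gm G (n - 3) := fun h3 => hu' (by
    rw [show n - 4 + 1 = n - 3 by omega]; exact coe_mem.1 h3)
  have hu1 : (u : Ω) ∈ Gm G 1 := Gm_anti su.h (by omega) hum
  obtain ⟨z, hz, hz'⟩ := su.h.exists_mem (i := n - 1) (by omega)
  have hzm : (z : Ω) ∈ Gm G (n - 1) := coe_mem.2 hz
  have hzn : (z : Ω) ∉ Gm G (n - 1 + 1) := fun h3 => hz' (coe_mem.1 h3)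
  have hz1 : (z : Ω) ≠ 1 := fun h1 => hzn (h1 ▸ one_mem _)
  have hnorm : ∀ s ∈ S, s ∈ normalizer (E : Set Ω) := fun s hs =>
    su.mem_normalizer_of hs fun y hy v hv => by rw [hEZ] at hv ⊢; exact conj_mem_Gm su.h hy hv
  have ud : UD S E u z := by
    refine ⟨u.2, by rw [hEZ]; exact hun, hnorm _ u.2, su.Z1_le hzm, hz1, ?_, ?_, ?_⟩
    · have h1 := comm_mem_Gm su.h (i := n - 1) (by omega) u.2 hzm
      have h3 := comm_eq.1 (mem_Gm_n su.h (by omega) h1)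
      rw [h3, mul_inv_cancel_right]
    · intro v hv
      have hv' : v ∈ Gm G (n - 3) := hEZ ▸ hv
      have h1 := two_step_Gm su.h su.h2 (i := n - 3) (by omega) (by omega) hu1 (inv_mem hv')
      rw [show n - 3 + 2 = n - 1 by omega] at h1
      obtain ⟨k, w, hw, hk⟩ := exists_zpow_Gm su.h (by omega) hzm hzn h1
      rw [mem_Gm_n su.h (by omega) hw, mul_one, commutatorElement_def, inv_inv] at hk
      refine ⟨-k, ?_⟩
      have h3 : (u : Ω) * v * (u : Ω)⁻¹ = ((u : Ω) * v⁻¹ * (u : Ω)⁻¹ * v * v⁻¹)⁻¹ := by group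
      rw [h3, hk, mul_inv_rev, inv_inv, zpow_neg]
    · intro t ht
      have h1 := comm_mem_Gm su.h (i := n - 4) (by omega) (normalizerIn_le _ _ ht) hum
      rw [show n - 4 + 1 = n - 3 by omega] at h1
      rw [hEZ]
      exact h1
  -- `S = N_S(E) = <u> E ≤ G 1`
  have h1 : S ≤ Gm G 1 := by
    intro t ht
    obtain ⟨k, v, hv, rfl⟩ := su.N_dec ud t (mem_normalizerIn.2 ⟨ht, hnorm t ht⟩)
    refine mul_mem (zpow_mem hu1 k) ?_
    rw [hEZ] at hv
    exact Gm_anti su.h (by omega) hv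
  have hfG : Finite (Gm G 1) := finite_of_le (Gm_le _)
  have h3 := card_le_of_le h1
  have h4 : Nat.card S = p ^ n := by
    have := card_Gm su.h (i := 0) (by omega)
    rwa [Gm_zero su.h] at this
  rw [h4, card_Gm su.h (by omega)] at h3
  have := (Nat.pow_le_pow_iff_right hp.out.one_lt).1 h3
  omega

theorem Su.exists_ud [Finite S] [hp : Fact p.Prime] : ∃ u e₀, UD S E u e₀ ∧ u ∈ Gm G (n - 3) := by
  by_cases hZ : Gm G (n - 2) ≤ E
  · exact su.ud2 hZ su.ne_Z3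
  · obtain ⟨u, e₀, h1, h3⟩ := su.ud1 hZ
    exact ⟨u, e₀, h1, Gm_anti su.h (by omega) h3⟩

end Cfsg.Agent.Lib.MCData
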