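import Mathlib

/-!
Certificate engine for extensions of a group by an elementary abelian `2`-group (second cohomology
with module coefficients). Bit vectors are natural numbers.

`N` is a normal subgroup of `E` with coordinates `co : E → ℕ → ZMod 2` (eleven of them), `X a` are
elements of `E` acting on the coordinates by the matrices `Ms`; a rule `(l, r)` is a pair of words
whose values differ by `v k ∈ N`. Closed walks of rewriting steps give linear equations on the
coordinates of the `v k`.
-/

set_option autoImplicit false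

namespace Cfsg.Agent.Lib.MCohA

open Finset

/-! ### dot products with bit vectors -/

/-- sum of `c i` over the bits `i < n` of `r` -/
def dotn (n r : ℕ) (c : ℕ → ZMod 2) : ZMod 2 := ∑ i ∈ range n, if r.testBit i then c i else 0

theorem dotn_zero (n : ℕ) (c : ℕ → ZMod 2) : dotn n 0 c = 0 := by simp [dotn]

theorem z2_add_self (a : ZMod 2) : a + a = 0 := by revert a; decide

theorem dotn_xor (n a b : ℕ) (c : ℕ → ZMod 2) : dotn n (a ^^^ b) c = dotn n a c + dotn n b c := by
  unfold dotn
  rw [← sum_add_distrib]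
  refine sum_congr rfl fun i _ => ?_
  rw [Nat.testBit_xor]
  cases a.testBit i <;> cases b.testBit i <;> simp [z2_add_self]

theorem dotn_add (n r : ℕ) (c d : ℕ → ZMod 2) : dotn n r (fun i => c i + d i) = dotn n r c + dotn n r d := by
  unfold dotn
  rw [← sum_add_distrib]
  refine sum_congr rfl fun i _ => ?_
  split_ifs <;> simp

theorem dotn_congr {n r : ℕ} {c d : ℕ → ZMod 2} (h : ∀ i < n, c i = d i) : dotn n r c = dotn n r d := by
  unfold dotn
  refine sum_congr rfl fun i hi => ?_
  rw [h i (mem_range.1 hi)]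

theorem land_one (m : ℕ) : Nat.land m 1 = (m.testBit 0).toNat := by
  show m &&& 1 = _
  rw [Nat.testBit_zero, Nat.and_one_is_mod]
  rcases Nat.mod_two_eq_zero_or_one m with h | h <;> simp [h]

theorem land_shift (m j : ℕ) : Nat.land (Nat.shiftRight m j) 1 = (m.testBit j).toNat := by
  rw [land_one]
  show ((m >>> j).testBit 0).toNat = _
  rw [Nat.testBit_shiftRight, Nat.add_zero]

theorem dotn_sel (n r j x : ℕ) (c : ℕ → ZMod 2) :
    dotn n (Nat.mul (Nat.land (Nat.shiftRight r j) 1) x) c = if r.testBit j then dotn n x c else 0 := by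
  rw [land_shift]
  show dotn n ((r.testBit j).toNat * x) c = _
  cases r.testBit j <;> simp [dotn_zero]

/-- row vector times matrix -/
def vm : List ℕ → ℕ → ℕ
  | [], _ => 0
  | m :: ms, r => Nat.xor (Nat.mul (Nat.land r 1) m) (vm ms (Nat.shiftRight r 1))

theorem dotn_vm (n : ℕ) (c : ℕ → ZMod 2) : ∀ (ms : List ℕ) (r : ℕ),
    dotn n (vm ms r) c = ∑ i ∈ range ms.length, if r.testBit i then dotn n (ms.getD i 0) c else 0
  | [], r => by simp [vm, dotn_zero]
  | m :: ms, r => by
    show dotn n ((Nat.mul (Nat.land r 1) m) ^^^ (vm ms (Nat.shiftRight r 1))) c = _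
    rw [dotn_xor, dotn_vm n c ms, List.length_cons, sum_range_succ', add_comm]
    congr 1
    · refine sum_congr rfl fun i _ => ?_
      rw [List.getD_cons_succ]
      have : (Nat.shiftRight r 1).testBit i = r.testBit (i + 1) := by
        show (r >>> 1).testBit i = _
        rw [Nat.testBit_shiftRight, add_comm]
      rw [this]
    · have := dotn_sel n r 0 m c
      rw [List.getD_cons_zero]
      exact this

/-! ### words -/

section words

variable {E : Type*} [Group E]

/-- value of a word -/
def wv (X : ℕ → E) (w : List ℕ) : E := (w.map X).prod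

theorem wv_nil (X : ℕ → E) : wv X [] = 1 := rfl

theorem wv_cons (X : ℕ → E) (a : ℕ) (w : List ℕ) : wv X (a :: w) = X a * wv X w := by
  simp [wv]

theorem wv_append (X : ℕ → E) (a b : List ℕ) : wv X (a ++ b) = wv X a * wv X b := by
  simp [wv]

/-- the identity matrix of size eleven -/
def idM : List ℕ := [1, 2, 4, 8, 16, 32, 64, 128, 256, 512, 1024]

/-- the matrix with index `a` -/
def mt (Ms : List (List ℕ)) (a : ℕ) : List ℕ := Ms.getD a idM

/-- a row vector times the product of the matrices of a word -/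
def vw (Ms : List (List ℕ)) : List ℕ → ℕ → ℕ
  | [], r => r
  | a :: w, r => vw Ms w (vm (mt Ms a) r)

/-- the module data -/
structure Good (N : Subgroup E) (co : E → ℕ → ZMod 2) (X : ℕ → E) (Ms : List (List ℕ)) : Prop where
  norm : ∀ n ∈ N, ∀ g : E, g * n * g⁻¹ ∈ N
  add : ∀ n ∈ N, ∀ n' ∈ N, ∀ i < 11, co (n * n') i = co n i + co n' i
  sep : ∀ n ∈ N, (∀ i < 11, co n i = 0) → n = 1
  act : ∀ a, ∀ n ∈ N, ∀ j < 11, co (X a * n * (X a)⁻¹) j = dotn 11 ((mt Ms a).getD j 0) (co n)
  len : ∀ a, (mt Ms a).length = 11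

variable {N : Subgroup E} {co : E → ℕ → ZMod 2} {X : ℕ → E} {Ms : List (List ℕ)}

theorem Good.dot_mul (h : Good N co X Ms) {n n' : E} (hn : n ∈ N) (hn' : n' ∈ N) (r : ℕ) :
    dotn 11 r (co (n * n')) = dotn 11 r (co n) + dotn 11 r (co n') := by
  rw [← dotn_add]
  exact dotn_congr fun i hi => h.add n hn n' hn' i hi

theorem Good.co_one (h : Good N co X Ms) {i : ℕ} (hi : i < 11) : co 1 i = 0 := by
  have h1 := h.add 1 N.one_mem 1 N.one_mem i hi
  rw [mul_one] at h1
  simpa using h1

theorem Good.dot_one (h : Good N co X Ms) (r : ℕ) : dotn 11 r (co 1) = 0 := by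
  unfold dotn
  refine sum_eq_zero fun i hi => ?_
  rw [h.co_one (mem_range.1 hi)]
  simp

theorem Good.co_inv (h : Good N co X Ms) {n : E} (hn : n ∈ N) {i : ℕ} (hi : i < 11) : co n⁻¹ i = co n i := by
  have h1 := h.add n⁻¹ (N.inv_mem hn) n hn i hi
  rw [inv_mul_cancel, h.co_one hi] at h1
  exact (eq_of_sub_eq_zero (by rw [sub_eq_add_neg, ZMod.neg_eq_self_mod_two]; exact h1.symm))

theorem Good.dot_inv (h : Good N co X Ms) {n : E} (hn : n ∈ N) (r : ℕ) :
    dotn 11 r (co n⁻¹) = dotn 11 r (co n) := dotn_congr fun _ hi => h.co_inv hn hi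

theorem Good.dot_act (h : Good N co X Ms) {n : E} (hn : n ∈ N) (a r : ℕ) :
    dotn 11 r (co (X a * n * (X a)⁻¹)) = dotn 11 (vm (mt Ms a) r) (co n) := by
  rw [dotn_vm, h.len a]
  unfold dotn
  refine sum_congr rfl fun i hi => ?_
  rw [h.act a n hn i (mem_range.1 hi)]
  rfl

theorem Good.dot_word (h : Good N co X Ms) : ∀ (w : List ℕ) (r : ℕ) {n : E}, n ∈ N →
    dotn 11 r (co (wv X w * n * (wv X w)⁻¹)) = dotn 11 (vw Ms w r) (co n)
  | [], r, n, _ => by simp [wv_nil, vw]
  | a :: w, r, n, hn => by
    have h1 : wv X (a :: w) * n * (wv X (a :: w))⁻¹ = X a * (wv X w * n * (wv X w)⁻¹) * (X a)⁻¹ := by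
      rw [wv_cons]; group
    rw [h1, h.dot_act (h.norm n hn _) a r, h.dot_word w _ hn]
    rfl

theorem Good.comm (h : Good N co X Ms) {n n' : E} (hn : n ∈ N) (hn' : n' ∈ N) : n * n' = n' * n := by
  have h1 : n * n' * (n' * n)⁻¹ = 1 := by
    refine h.sep _ (N.mul_mem (N.mul_mem hn hn') (N.inv_mem (N.mul_mem hn' hn))) fun i hi => ?_
    rw [h.add _ (N.mul_mem hn hn') _ (N.inv_mem (N.mul_mem hn' hn)) i hi, h.co_inv (N.mul_mem hn' hn) hi,
      h.add _ hn _ hn' i hi, h.add _ hn' _ hn i hi, add_comm (co n' i) (co n i)]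
    exact z2_add_self _
  exact mul_inv_eq_one.1 h1

/-! ### walks -/

/-- remove a prefix -/
def strip : List ℕ → List ℕ → Option (List ℕ)
  | [], w => some w
  | _ :: _, [] => none
  | a :: l, b :: w => bif Nat.beq a b then strip l w else none

theorem strip_eq : ∀ {l w b : List ℕ}, strip l w = some b → w = l ++ b
  | [], w, b, h => by simpa [strip] using h
  | a :: l, [], b, h => by simp [strip] at h
  | a :: l, c :: w, b, h => by
    unfold strip at h
    cases hab : Nat.beq a c with
    | false => rw [hab] at h; simp at h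
    | true =>
      rw [hab] at h
      rw [Nat.eq_of_beq_eq_true hab, strip_eq h]
      rfl

/-- one rewriting step: position, rule, direction -/
def stepW (rules : List (List ℕ × List ℕ)) (w : List ℕ) (pos k : ℕ) (d : Bool) : Option (List ℕ) :=
  match d with
  | true => (strip (rules.getD k ([], [])).1 (w.drop pos)).map fun b => w.take pos ++ ((rules.getD k ([], [])).2 ++ b)
  | false => (strip (rules.getD k ([], [])).2 (w.drop pos)).map fun b => w.take pos ++ ((rules.getD k ([], [])).1 ++ b)

/-- contribution of a step to the row of a functional -/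
def ctb (Ms : List (List ℕ)) (a : List ℕ) (k : ℕ) (r : ℕ) : ℕ :=
  Nat.shiftLeft (Nat.land (vw Ms a r) 2047) (Nat.mul 11 k)

/-- a walk, with the rows of the functionals `rs` -/
def walk (Ms : List (List ℕ)) (rules : List (List ℕ × List ℕ)) (rs : List ℕ) :
    List (ℕ × ℕ × Bool) → List ℕ → Option (List ℕ × List ℕ)
  | [], w => some (w, rs.map fun _ => 0)
  | (pos, k, d) :: ss, w =>
    match stepW rules w pos k d with
    | none => none
    | some w1 =>
      match walk Ms rules rs ss w1 with
      | none => none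
      | some (w', R) => some (w', List.zipWith Nat.xor (rs.map (ctb Ms (w.take pos) k)) R)

/-- rules hold up to elements of `N` -/
def Rules (N : Subgroup E) (X : ℕ → E) (rules : List (List ℕ × List ℕ)) (v : ℕ → E) : Prop :=
  ∀ k, v k ∈ N ∧ wv X (rules.getD k ([], [])).1 = v k * wv X (rules.getD k ([], [])).2

/-- all coordinates of all `v k` as one vector -/
def uu (co : E → ℕ → ZMod 2) (v : ℕ → E) (b : ℕ) : ZMod 2 := co (v (b / 11)) (b % 11)

theorem dotn_shift (K k r : ℕ) (hk : k < K) (u : ℕ → ZMod 2) :
    dotn (11 * K) (Nat.shiftLeft (Nat.land r 2047) (Nat.mul 11 k)) u = dotn 11 r (fun i => u (11 * k + i)) := by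
  unfold dotn
  have h1 : ∀ i, (Nat.shiftLeft (Nat.land r 2047) (Nat.mul 11 k)).testBit i
      = (decide (11 * k ≤ i) && (r.testBit (i - 11 * k) && decide (i - 11 * k < 11))) := by
    intro i
    show ((r &&& 2047) <<< (11 * k)).testBit i = _
    rw [Nat.testBit_shiftLeft, Nat.testBit_and, show (2047 : ℕ) = 2 ^ 11 - 1 by norm_num,
      Nat.testBit_two_pow_sub_one]
  rw [← Finset.sum_subset (s₁ := (range 11).map ⟨fun i => 11 * k + i, fun a b h => by simpa using h⟩)]
  · rw [sum_map]
    refine sum_congr rfl fun i hi => ?_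
    have hi' := mem_range.1 hi
    show (if (Nat.shiftLeft (Nat.land r 2047) (Nat.mul 11 k)).testBit (11 * k + i) then u (11 * k + i) else 0) = _
    simp only [h1, Nat.le_add_right, decide_true, Bool.true_and,
      Nat.add_sub_cancel_left, hi', Bool.and_true]
  · intro x hx
    rw [mem_map] at hx
    obtain ⟨i, hi, rfl⟩ := hx
    rw [mem_range] at hi ⊢
    show 11 * k + i < 11 * K
    omega
  · intro x _ hx
    rw [h1]
    rw [if_neg]
    intro h
    simp only [Bool.and_eq_true, decide_eq_true_eq] at h
    apply hx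
    rw [mem_map]
    exact ⟨x - 11 * k, mem_range.2 h.2.2, by show 11 * k + (x - 11 * k) = x; omega⟩

theorem uu_apply (co : E → ℕ → ZMod 2) (v : ℕ → E) (k : ℕ) {i : ℕ} (hi : i < 11) :
    uu co v (11 * k + i) = co (v k) i := by
  unfold uu
  rw [show (11 * k + i) / 11 = k by omega, show (11 * k + i) % 11 = i by omega]

theorem dotn_shift_ge (K k r : ℕ) (hk : K ≤ k) (u : ℕ → ZMod 2) :
    dotn (11 * K) (Nat.shiftLeft (Nat.land r 2047) (Nat.mul 11 k)) u = 0 := by
  unfold dotn
  refine sum_eq_zero fun i hi => ?_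
  have h1 : (Nat.shiftLeft (Nat.land r 2047) (Nat.mul 11 k)).testBit i = false := by
    show ((r &&& 2047) <<< (11 * k)).testBit i = _
    rw [Nat.testBit_shiftLeft]
    have := mem_range.1 hi
    rw [decide_eq_false (by omega)]
    rfl
  rw [h1]
  simp

theorem Good.dot_ctb (h : Good N co X Ms) {rules : List (List ℕ × List ℕ)} {v : ℕ → E}
    (hR : Rules N X rules v) (a : List ℕ) (k r : ℕ) :
    dotn 11 r (co (wv X a * v k * (wv X a)⁻¹)) = dotn (11 * rules.length) (ctb Ms a k r) (uu co v) := by
  rw [h.dot_word a r (hR k).1]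
  unfold ctb
  rcases lt_or_ge k rules.length with hk | hk
  · rw [dotn_shift _ _ _ hk]
    exact (dotn_congr fun i hi => uu_apply co v k hi).symm
  · rw [dotn_shift_ge _ _ _ hk]
    have h1 := (hR k).2
    rw [List.getD_eq_default _ _ hk] at h1
    have h2 : v k = 1 := by simpa [wv_nil] using h1.symm
    rw [h2, h.dot_one]

theorem step_sound {rules : List (List ℕ × List ℕ)} {v : ℕ → E}
    (hR : Rules N X rules v) {w w1 : List ℕ} {pos k : ℕ} {d : Bool} (hs : stepW rules w pos k d = some w1) :
    wv X w = (wv X (w.take pos) * (cond d (v k) (v k)⁻¹) * (wv X (w.take pos))⁻¹) * wv X w1 := by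
  unfold stepW at hs
  cases d with
  | true =>
    simp only [Option.map_eq_some_iff] at hs
    obtain ⟨b, hb, rfl⟩ := hs
    have h1 := strip_eq hb
    have h2 : wv X w = wv X (w.take pos) * wv X (w.drop pos) := by
      rw [← wv_append, List.take_append_drop]
    rw [h2, h1, wv_append, (hR k).2, wv_append, wv_append, cond_true]
    group
  | false =>
    simp only [Option.map_eq_some_iff] at hs
    obtain ⟨b, hb, rfl⟩ := hs
    have h1 := strip_eq hb
    have h2 : wv X w = wv X (w.take pos) * wv X (w.drop pos) := by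
      rw [← wv_append, List.take_append_drop]
    rw [h2, h1, wv_append, wv_append, wv_append, (hR k).2, cond_false]
    group

theorem Good.walk_sound (h : Good N co X Ms) {rules : List (List ℕ × List ℕ)} {v : ℕ → E}
    (hR : Rules N X rules v) (rs : List ℕ) : ∀ (ss : List (ℕ × ℕ × Bool)) (w w' R : List ℕ),
    walk Ms rules rs ss w = some (w', R) →
    ∃ n ∈ N, wv X w = n * wv X w' ∧ R.length = rs.length ∧
      ∀ i, i < rs.length → dotn (11 * rules.length) (R.getD i 0) (uu co v) = dotn 11 (rs.getD i 0) (co n)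
  | [], w, w', R, hw => by
    simp only [walk, Option.some.injEq, Prod.mk.injEq] at hw
    obtain ⟨rfl, rfl⟩ := hw
    refine ⟨1, N.one_mem, by rw [one_mul], by simp, fun i hi => ?_⟩
    rw [h.dot_one]
    have : (rs.map fun _ => 0).getD i 0 = 0 := by
      rw [List.getD_eq_getElem?_getD, List.getElem?_map]
      cases rs[i]? <;> rfl
    rw [this, dotn_zero]
  | (pos, k, d) :: ss, w, w', R, hw => by
    unfold walk at hw
    cases hs : stepW rules w pos k d with
    | none => rw [hs] at hw; simp at hw
    | some w1 =>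
      rw [hs] at hw
      simp only at hw
      cases hw1 : walk Ms rules rs ss w1 with
      | none => rw [hw1] at hw; simp at hw
      | some p =>
        obtain ⟨w'', R'⟩ := p
        rw [hw1] at hw
        simp only [Option.some.injEq, Prod.mk.injEq] at hw
        obtain ⟨rfl, rfl⟩ := hw
        obtain ⟨n, hn, h1, h2, h3⟩ := h.walk_sound hR rs ss w1 w'' R' hw1
        have h4 := step_sound hR hs
        have hv := (hR k).1
        have hm : wv X (w.take pos) * (cond d (v k) (v k)⁻¹) * (wv X (w.take pos))⁻¹ ∈ N := by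
          apply h.norm
          cases d
          · exact N.inv_mem hv
          · exact hv
        have hmd : ∀ r, dotn 11 r (co (wv X (w.take pos) * (cond d (v k) (v k)⁻¹) * (wv X (w.take pos))⁻¹)) =
            dotn (11 * rules.length) (ctb Ms (w.take pos) k r) (uu co v) := by
          intro r
          rw [← h.dot_ctb hR]
          cases d
          · rw [cond_false]
            have : wv X (w.take pos) * (v k)⁻¹ * (wv X (w.take pos))⁻¹ =
                (wv X (w.take pos) * v k * (wv X (w.take pos))⁻¹)⁻¹ := by group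
            rw [this, h.dot_inv (h.norm _ hv _)]
          · rfl
        refine ⟨_, N.mul_mem hm hn, by rw [h4, h1]; simp only [mul_assoc], ?_, fun i hi => ?_⟩
        · rw [List.length_zipWith, List.length_map, h2, min_self]
        · rw [h.dot_mul hm hn, hmd, ← h3 i hi, ← dotn_xor]
          congr 1
          have hi' : i < R'.length := h2 ▸ hi
          simp only [List.getD_eq_getElem?_getD, List.getElem?_zipWith, List.getElem?_map,
            List.getElem?_eq_getElem hi, List.getElem?_eq_getElem hi', Option.map_some, Option.getD_some]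
          rfl

/-- rows obtained from a closed walk -/
def idRows (Ms : List (List ℕ)) (rules : List (List ℕ × List ℕ)) (t : List ℕ × List ℕ × List (ℕ × ℕ × Bool)) :
    List ℕ :=
  match walk Ms rules t.2.1 t.2.2 t.1 with
  | none => []
  | some (w', R) => bif w' == t.1 then R else []

theorem Good.idRows_sound (h : Good N co X Ms) {rules : List (List ℕ × List ℕ)} {v : ℕ → E}
    (hR : Rules N X rules v) (t : List ℕ × List ℕ × List (ℕ × ℕ × Bool)) :
    ∀ R ∈ idRows Ms rules t, dotn (11 * rules.length) R (uu co v) = 0 := by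
  intro R hR1
  unfold idRows at hR1
  cases hw : walk Ms rules t.2.1 t.2.2 t.1 with
  | none => rw [hw] at hR1; simp at hR1
  | some p =>
    obtain ⟨w', R'⟩ := p
    rw [hw] at hR1
    simp only at hR1
    cases he : (w' == t.1) with
    | false => rw [he] at hR1; simp at hR1
    | true =>
      rw [he, cond_true] at hR1
      have he' : w' = t.1 := by simpa using he
      obtain ⟨n, hn, h1, h2, h3⟩ := h.walk_sound hR _ _ _ _ _ hw
      rw [he'] at h1
      have h4 : n = 1 := by
        have := h1.symm
        simpa using this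
      obtain ⟨i, hi, rfl⟩ := List.getElem_of_mem hR1
      have h5 := h3 i (h2 ▸ hi)
      rw [List.getD_eq_getElem?_getD, List.getElem?_eq_getElem hi, Option.getD_some] at h5
      rw [h5, h4, h.dot_one]

end words

/-! ### elimination -/

/-- reduce a vector by a list of (pivot, vector) -/
def red : List (ℕ × ℕ) → ℕ → ℕ
  | [], v => v
  | (p, b) :: L, v => red L (Nat.xor v (Nat.mul (Nat.land (Nat.shiftRight v p) 1) b))

/-- Gaussian elimination -/
def elim : List ℕ → List (ℕ × ℕ) → List (ℕ × ℕ)
  | [], B => B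
  | r :: rs, B =>
    match red B r with
    | 0 => elim rs B
    | v + 1 => elim rs (B ++ [(Nat.log2 (v + 1), v + 1)])

theorem red_sound (n : ℕ) (u : ℕ → ZMod 2) : ∀ (B : List (ℕ × ℕ)) (_ : ∀ pb ∈ B, dotn n pb.2 u = 0) (v : ℕ),
    dotn n (red B v) u = dotn n v u
  | [], _, _ => rfl
  | (p, b) :: B, hB, v => by
    have h1 : dotn n b u = 0 := hB (p, b) (by simp)
    show dotn n (red B (Nat.xor v (Nat.mul (Nat.land (Nat.shiftRight v p) 1) b))) u = _
    rw [red_sound n u B (fun pb h => hB pb (List.mem_cons_of_mem _ h))]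
    show dotn n (v ^^^ (Nat.mul (Nat.land (Nat.shiftRight v p) 1) b)) u = _
    rw [dotn_xor, dotn_sel, h1]
    simp

theorem elim_sound (n : ℕ) (u : ℕ → ZMod 2) : ∀ (rs : List ℕ) (_ : ∀ r ∈ rs, dotn n r u = 0)
    (B : List (ℕ × ℕ)) (_ : ∀ pb ∈ B, dotn n pb.2 u = 0), ∀ pb ∈ elim rs B, dotn n pb.2 u = 0
  | [], _, B, hB => by simpa [elim] using hB
  | r :: rs, hr, B, hB => by
    have h1 := red_sound n u B hB r
    rw [hr r (by simp)] at h1
    unfold elim
    have hr' : ∀ r ∈ rs, dotn n r u = 0 := fun r h => hr r (List.mem_cons_of_mem _ h)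
    cases hv : red B r with
    | zero => exact elim_sound n u rs hr' B hB
    | succ v =>
      refine elim_sound n u rs hr' _ ?_
      intro pb hpb
      rw [List.mem_append, List.mem_singleton] at hpb
      rcases hpb with hpb | rfl
      · exact hB pb hpb
      · rw [hv] at h1
        exact h1

end Cfsg.Agent.Lib.MCohA
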