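import Cfsg.Agent.Lib.MCohA
import Cfsg.Agent.Lib.Gaschutz

/-!
Second part of the certificate engine: change of the lifts, polycyclic relations, complements.
-/

set_option autoImplicit false

namespace Cfsg.Agent.Lib.MCohB

open Finset Cfsg.Agent.Lib.MCohA

/-- eleven zero vectors -/
def zB : List ℕ := [0, 0, 0, 0, 0, 0, 0, 0, 0, 0, 0]

/-- gauge vectors of the generator `a` -/
def bt (B : List (List ℕ)) (a : ℕ) : List ℕ := B.getD a zB

/-- row of the change of a word under a change of the lifts -/
def gw (Ms B : List (List ℕ)) : List ℕ → ℕ → ℕ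
  | [], _ => 0
  | a :: w, r => Nat.xor (vm (bt B a) r) (gw Ms B w (vm (mt Ms a) r))

/-- the vector which has to vanish for the functional `r` on the `k`-th rule -/
def target (Ms B : List (List ℕ)) (rules : List (List ℕ × List ℕ)) (k r : ℕ) : ℕ :=
  Nat.xor (ctb Ms [] k r) (Nat.xor (gw Ms B (rules.getD k ([], [])).1 r) (gw Ms B (rules.getD k ([], [])).2 r))

/-- one target: combination of rows, perhaps plus `rho` -/
def chkT (Ms B : List (List ℕ)) (rules : List (List ℕ × List ℕ)) (Rw : List ℕ) (rho : ℕ) (ms : List ℕ) (k : ℕ) :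
    Bool :=
  (List.range 11).all fun j =>
    Nat.beq (target Ms B rules k (Nat.shiftLeft 1 j)) (vm Rw (ms.getD j 0)) ||
    Nat.beq (target Ms B rules k (Nat.shiftLeft 1 j)) (Nat.xor rho (vm Rw (ms.getD j 0)))

section

variable {E : Type*} [Group E] {N : Subgroup E} {co : E → ℕ → ZMod 2} {X : ℕ → E} {Ms : List (List ℕ)}

theorem dotn_pow {j : ℕ} (hj : j < 11) (c : ℕ → ZMod 2) : dotn 11 (Nat.shiftLeft 1 j) c = c j := by
  unfold dotn
  have h1 : ∀ i, (Nat.shiftLeft 1 j).testBit i = decide (j = i) := by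
    intro i
    show (1 <<< j).testBit i = _
    rw [Nat.one_shiftLeft, Nat.testBit_two_pow]
  simp only [h1, decide_eq_true_eq]
  rw [sum_ite_eq]
  simp [hj]

theorem dotn_vm_zero (n : ℕ) (u : ℕ → ZMod 2) (Rw : List ℕ) (h : ∀ R ∈ Rw, dotn n R u = 0) (m : ℕ) :
    dotn n (vm Rw m) u = 0 := by
  rw [dotn_vm]
  refine sum_eq_zero fun i hi => ?_
  have hi' := mem_range.1 hi
  rw [List.getD_eq_getElem?_getD, List.getElem?_eq_getElem hi', Option.getD_some, h _ (List.getElem_mem hi')]
  simp

theorem gw_sound (h : Good N co X Ms) {L : ℕ} {u : ℕ → ZMod 2} {B : List (List ℕ)}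
    (hB : ∀ a, (bt B a).length = 11) {W : ℕ → E} (hW : ∀ a, W a ∈ N)
    (hco : ∀ a, ∀ i < 11, co (W a) i = dotn L ((bt B a).getD i 0) u) : ∀ w : List ℕ,
    ∃ n ∈ N, wv (fun a => W a * X a) w = n * wv X w ∧ ∀ r, dotn 11 r (co n) = dotn L (gw Ms B w r) u
  | [] => ⟨1, N.one_mem, by simp [wv_nil], fun r => by rw [h.dot_one]; exact (dotn_zero _ _).symm⟩
  | a :: w => by
    obtain ⟨n, hn, h1, h2⟩ := gw_sound h hB hW hco w
    refine ⟨W a * (X a * n * (X a)⁻¹), N.mul_mem (hW a) (h.norm n hn _), ?_, fun r => ?_⟩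
    · rw [wv_cons, wv_cons, h1]
      group
    · rw [h.dot_mul (hW a) (h.norm n hn _), h.dot_act hn, h2]
      show _ = dotn L ((vm (bt B a) r) ^^^ (gw Ms B w (vm (mt Ms a) r))) u
      rw [dotn_xor, dotn_vm, hB a]
      congr 1
      unfold dotn
      refine sum_congr rfl fun i hi => ?_
      rw [hco a i (mem_range.1 hi)]
      rfl

theorem exists_lifts (h : Good N co X Ms) (hsurj : ∀ f : ℕ → ZMod 2, ∃ n ∈ N, ∀ i < 11, co n i = f i)
    {rules : List (List ℕ × List ℕ)} {v : ℕ → E} (hR : Rules N X rules v)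
    {B : List (List ℕ)} (hB : ∀ a, (bt B a).length = 11) {Rw : List ℕ} {rho : ℕ}
    (hRw : ∀ R ∈ Rw, dotn (11 * rules.length) R (uu co v) = 0)
    (hrho : dotn (11 * rules.length) rho (uu co v) = 0) {K : ℕ → Prop} {mk : ℕ → List ℕ}
    (hchk : ∀ k, K k → chkT Ms B rules Rw rho (mk k) k = true) :
    ∃ W : ℕ → E, (∀ a, W a ∈ N) ∧ ∀ k, K k →
      wv (fun a => W a * X a) (rules.getD k ([], [])).1 = wv (fun a => W a * X a) (rules.getD k ([], [])).2 := by
  choose W hW hco using fun a : ℕ => hsurj fun i => dotn (11 * rules.length) ((bt B a).getD i 0) (uu co v)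
  refine ⟨W, hW, fun k hk => ?_⟩
  obtain ⟨n1, hn1, h1, h1'⟩ := gw_sound h hB hW hco (rules.getD k ([], [])).1
  obtain ⟨n2, hn2, h2, h2'⟩ := gw_sound h hB hW hco (rules.getD k ([], [])).2
  rw [h1, h2, (hR k).2]
  have hv := (hR k).1
  have key : n1 * v k * n2⁻¹ = 1 := by
    refine h.sep _ (N.mul_mem (N.mul_mem hn1 hv) (N.inv_mem hn2)) fun j hj => ?_
    rw [← dotn_pow hj (co _), h.dot_mul (N.mul_mem hn1 hv) (N.inv_mem hn2), h.dot_inv hn2, h.dot_mul hn1 hv,
      h1', h2']
    have h3 := h.dot_ctb hR [] k (Nat.shiftLeft 1 j)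
    rw [wv_nil, one_mul, inv_one, mul_one] at h3
    rw [h3]
    have h4 : dotn (11 * rules.length) (target Ms B rules k (Nat.shiftLeft 1 j)) (uu co v) = 0 := by
      have h5 := hchk k hk
      unfold chkT at h5
      rw [List.all_eq_true] at h5
      have h6 := h5 j (List.mem_range.2 hj)
      rw [Bool.or_eq_true] at h6
      rcases h6 with h6 | h6
      · rw [Nat.eq_of_beq_eq_true h6]
        exact dotn_vm_zero _ _ _ hRw _
      · rw [Nat.eq_of_beq_eq_true h6]
        show dotn _ (rho ^^^ _) _ = 0
        rw [dotn_xor, hrho, dotn_vm_zero _ _ _ hRw, add_zero]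
    have h7 : target Ms B rules k (Nat.shiftLeft 1 j) =
      (ctb Ms [] k (Nat.shiftLeft 1 j)) ^^^ ((gw Ms B (rules.getD k ([], [])).1 (Nat.shiftLeft 1 j)) ^^^
        (gw Ms B (rules.getD k ([], [])).2 (Nat.shiftLeft 1 j))) := rfl
    rw [h7, dotn_xor, dotn_xor] at h4
    rw [← h4]
    ring
  have h8 : n1 * v k = n2 := mul_inv_eq_one.1 key
  rw [← mul_assoc, h8]

end

/-! ### polycyclic relations -/

section pc

variable {E : Type*} [Group E]

/-- generators from `i` on -/
def chain (m : ℕ) (y : ℕ → E) (i : ℕ) : Subgroup E := Subgroup.closure {g | ∃ j, i ≤ j ∧ j < m ∧ g = y j}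

theorem mem_chain {m : ℕ} {y : ℕ → E} {i j : ℕ} (h : i ≤ j) (hj : j < m) : y j ∈ chain m y i :=
  Subgroup.subset_closure ⟨j, h, hj, rfl⟩

theorem wv_mem_chain {m : ℕ} {y : ℕ → E} {i : ℕ} : ∀ {w : List ℕ}, (∀ x ∈ w, i ≤ x ∧ x < m) → wv y w ∈ chain m y i
  | [], _ => Subgroup.one_mem _
  | x :: w, h => by
    rw [wv_cons]
    refine Subgroup.mul_mem _ (mem_chain (h x (by simp)).1 (h x (by simp)).2) (wv_mem_chain fun z hz => h z ?_)
    exact List.mem_cons_of_mem _ hz

theorem card_chain [Finite E] {m : ℕ} {y : ℕ → E} (hsq : ∀ i < m, y i * y i ∈ chain m y (i + 1))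
    (hcj : ∀ i j, i < j → j < m → (y i)⁻¹ * y j * y i ∈ chain m y (i + 1)) :
    ∀ d i, i + d = m → Nat.card (chain m y i) ≤ 2 ^ d
  | 0, i, hi => by
    have : chain m y i = ⊥ := by
      rw [chain, Subgroup.closure_eq_bot_iff]
      rintro g ⟨j, h1, h2, -⟩
      omega
    rw [this]
    simp
  | d + 1, i, hi => by
    have ih := card_chain hsq hcj d (i + 1) (by omega)
    have him : i < m := by omega
    set K := chain m y (i + 1) with hK
    have hc : ∀ g ∈ K, (y i)⁻¹ * g * y i ∈ K := by
      intro g hg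
      rw [hK, chain] at hg
      refine Subgroup.closure_induction (p := fun g _ => (y i)⁻¹ * g * y i ∈ K) ?_ ?_ ?_ ?_ hg
      · rintro g ⟨j, h1, h2, rfl⟩
        exact hcj i j (by omega) h2
      · simp
      · intro a b _ _ ha hb
        have : (y i)⁻¹ * (a * b) * y i = ((y i)⁻¹ * a * y i) * ((y i)⁻¹ * b * y i) := by group
        rw [this]
        exact K.mul_mem ha hb
      · intro a _ ha
        have : (y i)⁻¹ * a⁻¹ * y i = ((y i)⁻¹ * a * y i)⁻¹ := by group
        rw [this]
        exact K.inv_mem ha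
    have hmap : K.map (MulAut.conj (y i)⁻¹).toMonoidHom = K := by
      have hle : K.map (MulAut.conj (y i)⁻¹).toMonoidHom ≤ K := by
        rintro _ ⟨g, hg, rfl⟩
        have := hc g hg
        simpa [MulAut.conj_apply] using this
      refine Subgroup.eq_of_le_of_card_ge hle ?_
      rw [Subgroup.card_map_of_injective (MulEquiv.injective _)]
    have hc' : ∀ g ∈ K, y i * g * (y i)⁻¹ ∈ K := by
      intro g hg
      rw [← hmap] at hg
      obtain ⟨k, hk, rfl⟩ := hg
      have : y i * ((MulAut.conj (y i)⁻¹).toMonoidHom k) * (y i)⁻¹ = k := by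
        show y i * ((y i)⁻¹ * k * ((y i)⁻¹)⁻¹) * (y i)⁻¹ = k
        group
      rw [this]
      exact hk
    have hs := hsq i him
    let Bs : Subgroup E :=
      { carrier := {g | g ∈ K ∨ (y i)⁻¹ * g ∈ K}
        one_mem' := Or.inl K.one_mem
        mul_mem' := by
          rintro a b (ha | ha) (hb | hb)
          · exact Or.inl (K.mul_mem ha hb)
          · right
            have : (y i)⁻¹ * (a * b) = ((y i)⁻¹ * a * y i) * ((y i)⁻¹ * b) := by group
            rw [this]
            exact K.mul_mem (hc a ha) hb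
          · right
            rw [← mul_assoc]
            exact K.mul_mem ha hb
          · left
            have : a * b = (y i * ((y i)⁻¹ * a) * (y i)⁻¹) * (y i * y i) * ((y i)⁻¹ * b) := by group
            rw [this]
            exact K.mul_mem (K.mul_mem (hc' _ ha) hs) hb
        inv_mem' := by
          rintro a (ha | ha)
          · exact Or.inl (K.inv_mem ha)
          · right
            have : (y i)⁻¹ * a⁻¹ = (y i)⁻¹ * ((y i)⁻¹ * a)⁻¹ * y i * (y i * y i)⁻¹ := by group
            rw [this]
            exact K.mul_mem (hc _ (K.inv_mem ha)) (K.inv_mem hs) }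
    have hle : chain m y i ≤ Bs := by
      rw [chain, Subgroup.closure_le]
      rintro g ⟨j, h1, h2, rfl⟩
      rcases eq_or_lt_of_le h1 with rfl | h1
      · right
        rw [inv_mul_cancel]
        exact K.one_mem
      · exact Or.inl (mem_chain h1 h2)
    have hcard : Nat.card Bs ≤ Nat.card K + Nat.card K := by
      have h1 : (Bs : Set E) ⊆ (K : Set E) ∪ (fun g => y i * g) '' (K : Set E) := by
        rintro g (hg | hg)
        · exact Or.inl hg
        · exact Or.inr ⟨_, hg, by group⟩
      have h2 := Set.ncard_le_ncard h1 (Set.toFinite _)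
      have h3 := Set.ncard_union_le (K : Set E) ((fun g => y i * g) '' (K : Set E))
      have h4 := Set.ncard_image_le (f := fun g => y i * g) (Set.toFinite (K : Set E))
      have h5 : (Bs : Set E).ncard = Nat.card Bs := rfl
      have h6 : (K : Set E).ncard = Nat.card K := rfl
      omega
    have h7 := Subgroup.card_le_of_le hle
    rw [pow_succ]
    omega

/-- the polycyclic shape of the first rules -/
def pcOK (m : ℕ) (nP : ℕ) (rules : List (List ℕ × List ℕ)) : Bool :=
  (List.range m).all fun i => (List.range m).all fun j => decide (j < i) ||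
    (List.range nP).any fun k => (rules.getD k ([], [])).1 == [j, i] &&
      (if i == j then (rules.getD k ([], [])).2.all fun x => decide (i + 1 ≤ x) && decide (x < m)
        else match (rules.getD k ([], [])).2 with
          | [] => false
          | a :: w => a == i && w.all fun x => decide (i + 1 ≤ x) && decide (x < m))

theorem card_of_pcOK [Finite E] {m nP : ℕ} {rules : List (List ℕ × List ℕ)} (hpc : pcOK m nP rules = true)
    {y : ℕ → E} (hy : ∀ k < nP, wv y (rules.getD k ([], [])).1 = wv y (rules.getD k ([], [])).2) :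
    Nat.card (chain m y 0) ≤ 2 ^ m := by
  unfold pcOK at hpc
  rw [List.all_eq_true] at hpc
  have hpc' : ∀ i < m, ∀ j < m, i ≤ j → ∃ k < nP, (rules.getD k ([], [])).1 = [j, i] ∧
      ((i = j ∧ ∀ x ∈ (rules.getD k ([], [])).2, i + 1 ≤ x ∧ x < m) ∨
        (i ≠ j ∧ ∃ w, (rules.getD k ([], [])).2 = i :: w ∧ ∀ x ∈ w, i + 1 ≤ x ∧ x < m)) := by
    intro i hi j hj hij
    have h1 := hpc i (List.mem_range.2 hi)
    rw [List.all_eq_true] at h1
    have h2 := h1 j (List.mem_range.2 hj)
    rw [Bool.or_eq_true] at h2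
    rcases h2 with h2 | h2
    · have := of_decide_eq_true h2
      omega
    · rw [List.any_eq_true] at h2
      obtain ⟨k, hk, h3⟩ := h2
      rw [Bool.and_eq_true] at h3
      refine ⟨k, List.mem_range.1 hk, by simpa using h3.1, ?_⟩
      have h4 := h3.2
      by_cases hije : i = j
      · left
        refine ⟨hije, ?_⟩
        rw [if_pos (by simpa using hije)] at h4
        intro x hx
        have := List.all_eq_true.1 h4 x hx
        simpa using this
      · right
        refine ⟨hije, ?_⟩
        rw [if_neg (by simpa using hije)] at h4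
        cases hw : (rules.getD k ([], [])).2 with
        | nil => rw [hw] at h4; simp at h4
        | cons a w =>
          rw [hw] at h4
          simp only [Bool.and_eq_true] at h4
          have ha : a = i := by simpa using h4.1
          refine ⟨w, by rw [ha], fun x hx => ?_⟩
          have := List.all_eq_true.1 h4.2 x hx
          simpa using this
  refine card_chain ?_ ?_ m 0 (by omega)
  · intro i hi
    obtain ⟨k, hk, h1, h2⟩ := hpc' i hi i hi le_rfl
    rcases h2 with ⟨-, h2⟩ | ⟨h2, -⟩
    · have h3 := hy k hk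
      rw [h1] at h3
      rw [wv_cons, wv_cons, wv_nil, mul_one] at h3
      rw [h3]
      exact wv_mem_chain h2
    · exact absurd rfl h2
  · intro i j hij hj
    obtain ⟨k, hk, h1, h2⟩ := hpc' i (hij.trans hj) j hj hij.le
    rcases h2 with ⟨h2, -⟩ | ⟨-, w, h2, h4⟩
    · omega
    · have h3 := hy k hk
      rw [h1, h2] at h3
      rw [wv_cons, wv_cons, wv_nil, mul_one, wv_cons] at h3
      rw [mul_assoc, h3, inv_mul_cancel_left]
      exact wv_mem_chain h4

end pc

/-! ### complements -/

theorem exists_compl {E G : Type*} [Group E] [Finite E] [Group G] {N : Subgroup E} {co : E → ℕ → ZMod 2}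
    {X : ℕ → E} {Ms : List (List ℕ)} (h : Good N co X Ms) (π : E →* G) (hπ : Function.Surjective π)
    (hker : π.ker = N) {m nP : ℕ} {rules : List (List ℕ × List ℕ)} (hpc : pcOK m nP rules = true) {W : ℕ → E}
    (hW : ∀ a, W a ∈ N)
    (hy : ∀ k < nP, wv (fun a => W a * X a) (rules.getD k ([], [])).1 = wv (fun a => W a * X a) (rules.getD k ([], [])).2)
    (hcard : 2 ^ m ≤ Nat.card (chain m (fun a => π (X a)) 0))
    {q : ℕ} (hG : Nat.card G = 2 ^ m * q) (hq : Odd q) :
    ∃ H : Subgroup E, Subgroup.IsComplement' N H := by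
  classical
  set y : ℕ → E := fun a => W a * X a with hydef
  have hle := card_of_pcOK hpc hy
  have hWk : ∀ a, π (W a) = 1 := fun a => by
    have := hW a
    rw [← hker] at this
    exact MonoidHom.mem_ker.1 this
  have hmap : (chain m y 0).map π = chain m (fun a => π (X a)) 0 := by
    rw [chain, chain, MonoidHom.map_closure]
    congr 1
    ext g
    constructor
    · rintro ⟨_, ⟨j, h1, h2, rfl⟩, rfl⟩
      exact ⟨j, h1, h2, by rw [hydef]; simp [hWk]⟩
    · rintro ⟨j, h1, h2, rfl⟩
      exact ⟨y j, ⟨j, h1, h2, rfl⟩, by rw [hydef]; simp [hWk]⟩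
  set A := chain m y 0 with hA
  have hr : (π.comp A.subtype).range = A.map π := by
    rw [MonoidHom.range_comp, Subgroup.range_subtype]
  have hcA : Nat.card A = 2 ^ m ∧ Function.Injective (π.comp A.subtype) := by
    have h1 : Nat.card (A.map π) ≤ Nat.card A := by
      rw [← hr]
      exact Nat.card_le_card_of_surjective _ (π.comp A.subtype).rangeRestrict_surjective
    have h2 : Nat.card A = 2 ^ m := by
      rw [hmap] at h1
      omega
    refine ⟨h2, ?_⟩
    have h3 : Nat.card ((π.comp A.subtype).range) = Nat.card A := by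
      rw [hr, hmap]
      rw [hmap] at h1
      omega
    have h4 : Function.Injective (π.comp A.subtype).rangeRestrict := by
      have hs := (π.comp A.subtype).rangeRestrict_surjective
      exact (Function.Surjective.bijective_of_nat_card_le hs (by rw [h3])).1
    intro a b hab
    exact h4 (Subtype.ext hab)
  have hAN : A ⊓ N = ⊥ := by
    rw [eq_bot_iff]
    rintro g ⟨hg, hgN⟩
    rw [← hker] at hgN
    have h1 : (π.comp A.subtype) ⟨g, hg⟩ = (π.comp A.subtype) 1 := by
      rw [map_one]
      exact MonoidHom.mem_ker.1 hgN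
    exact congrArg Subtype.val (hcA.2 h1)
  haveI hNn : N.Normal := ⟨fun n hn g => h.norm n hn g⟩
  haveI hNc : IsMulCommutative N := ⟨⟨fun a b => Subtype.ext (h.comm a.2 b.2)⟩⟩
  -- the order of `N` is a power of two
  have hN2 : ∃ e, Nat.card N = 2 ^ e := by
    have hp : IsPGroup 2 N := by
      intro a
      refine ⟨1, ?_⟩
      rw [pow_one, pow_two]
      apply Subtype.ext
      refine h.sep _ (N.mul_mem a.2 a.2) fun i hi => ?_
      have := h.add a a.2 a a.2 i hi
      rw [show ((a * a : N) : E) = (a : E) * a from rfl]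
      rw [this]
      exact z2_add_self _
    exact IsPGroup.iff_card.1 hp
  obtain ⟨e, he⟩ := hN2
  have hcardU : Nat.card ↥(N ⊔ A) = Nat.card N * Nat.card A := by
    have h1 : Disjoint N A := by rw [disjoint_iff, inf_comm]; exact hAN
    have h2 := Subgroup.card_mul_index (N.subgroupOf (N ⊔ A))
    have h3 : (N.subgroupOf (N ⊔ A)).index = Nat.card A := by
      have h4 : N.relIndex (N ⊔ A) = N.relIndex A := by
        rw [sup_comm]; exact Subgroup.relIndex_sup_right _ _
      have h5 : N.relIndex A = Nat.card A := by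
        rw [Subgroup.relIndex, show N.subgroupOf A = ⊥ from by
          rw [Subgroup.subgroupOf_eq_bot]; exact h1, Subgroup.index_bot]
      exact h4.trans h5
    rw [h3] at h2
    have h6 : Nat.card (N.subgroupOf (N ⊔ A)) = Nat.card N :=
      Nat.card_congr (Subgroup.subgroupOfEquivOfLe le_sup_left).toEquiv
    rw [h6] at h2
    exact h2.symm
  have hE : Nat.card E = Nat.card N * Nat.card G := by
    rw [← Subgroup.card_mul_index N]
    congr 1
    rw [← hker, Subgroup.index_ker, MonoidHom.range_eq_top.2 hπ]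
    exact Nat.card_congr Subgroup.topEquiv.toEquiv
  have hidx : (N ⊔ A).index = q := by
    have h1 := Subgroup.card_mul_index (N ⊔ A)
    rw [hcardU, hE, hcA.1, hG, mul_assoc] at h1
    have h2 : 0 < Nat.card N := Nat.card_pos
    have h3 := Nat.eq_of_mul_eq_mul_left h2 h1
    exact Nat.eq_of_mul_eq_mul_left (Nat.two_pow_pos m) h3
  refine Gaschutz.exists_complement N (N ⊔ A) le_sup_left ?_ A hAN rfl
  rw [hidx, he]
  exact Nat.Coprime.pow_left _ (Nat.coprime_two_left.2 hq)

end Cfsg.Agent.Lib.MCohB
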