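import Cfsg.Agent.Lib.MCohB
import Cfsg.Agent.Lib.GolayOctad
import Cfsg.Agent.Lib.H92MathieuSchurB

/-!
Data for `M23`: a Sylow `2`-subgroup with polycyclic generators, and the basis of the code module.
-/

set_option autoImplicit false

namespace Cfsg.Agent.Lib.MCohM

open Cfsg Cfsg.Agent.Lib.Golay Cfsg.Agent.Lib.MCohA Cfsg.Agent.Lib.MCohB
open Cfsg.Agent.Lib.H92MathieuAut (mem_M23)

/-- code of a word -/
def cw (cs : List ℕ) : List ℕ → ℕ
  | [] => idC
  | a :: w => mulC (cs.getD a idC) (cw cs w)

theorem valid_idC : valid idC = true := by decide +kernel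

theorem valid_getD {cs : List ℕ} (h : ∀ c ∈ cs, valid c = true) (a : ℕ) : valid (cs.getD a idC) = true := by
  rw [List.getD_eq_getElem?_getD]
  rcases lt_or_ge a cs.length with h1 | h1
  · rw [List.getElem?_eq_getElem h1, Option.getD_some]
    exact h _ (List.getElem_mem h1)
  · rw [List.getElem?_eq_none h1, Option.getD_none]
    exact valid_idC

theorem cw_spec {cs : List ℕ} (h : ∀ c ∈ cs, valid c = true) : ∀ w : List ℕ,
    valid (cw cs w) = true ∧ toPerm (cw cs w) = wv (fun a => toPerm (cs.getD a idC)) w
  | [] => ⟨valid_idC, toPerm_idC⟩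
  | a :: w => by
    obtain ⟨h1, h2⟩ := cw_spec h w
    have ha := valid_getD h a
    exact ⟨valid_mulC ha h1, by rw [wv_cons, ← h2]; exact toPerm_mulC ha h1⟩

/-- polycyclic generators of the Sylow subgroup -/
def pcs : List ℕ := [967903976387209248756639995823983617, 984240185958254740484804048743137314,
  963918492803612076772893908740898914, 980224387687010295957922729495201824,
  968708902336673183175954409307867168, 961365507626256404119956257276790816,
  972512676110088067912772961567868960]

/-- the word of a number below 128 -/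
def bitw (n : ℕ) : List ℕ := (List.range 7).filter fun i => n.testBit i

/-- images of the points 4 and 6 -/
def sgn (c : ℕ) : ℕ := Nat.add (Nat.mul 32 (img c 4)) (img c 6)

theorem sgn_nodup : ((List.range 128).map fun n => sgn (cw pcs (bitw n))).Nodup := by decide +kernel

/-- membership in `M23`, on codes -/
def in23 (c : ℕ) : Bool := inM c && Nat.beq (img c 23) 23

theorem pt23 : pt 23 = none := by decide

theorem in23_spec {c : ℕ} (h : in23 c = true) : valid c = true ∧ toPerm c ∈ Spor.M23 := by
  unfold in23 at h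
  rw [Bool.and_eq_true] at h
  refine ⟨valid_of_inM h.1, mem_M23.2 ⟨toPerm_mem_M24 h.1, ?_⟩⟩
  have := toPerm_pt (valid_of_inM h.1) (i := 23) (by norm_num)
  rw [Nat.eq_of_beq_eq_true h.2, pt23] at this
  exact this

theorem wv_map {E F : Type*} [Group E] [Group F] (f : E →* F) (X : ℕ → E) (w : List ℕ) :
    f (wv X w) = wv (fun a => f (X a)) w := by
  rw [wv, wv, map_list_prod, List.map_map]
  rfl

/-- lower bound for the group generated by the first seven generators -/
theorem card_chain_ge {G : Type*} [Group G] [Finite G] (f : G →* Equiv.Perm GolayPt) (x : ℕ → G) {cs : List ℕ}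
    (hv : ∀ c ∈ cs, valid c = true) (hx : ∀ a < 7, f (x a) = toPerm (cs.getD a idC)) (hcs : cs.take 7 = pcs) :
    2 ^ 7 ≤ Nat.card (chain 7 x 0) := by
  have hcs' : ∀ a < 7, cs.getD a idC = pcs.getD a idC := by
    intro a ha
    rw [← hcs, List.getD_eq_getElem?_getD, List.getD_eq_getElem?_getD, List.getElem?_take_of_lt ha]
  have hvp : ∀ c ∈ pcs, valid c = true := fun c hc => hv c (by rw [← hcs] at hc; exact List.mem_of_mem_take hc)
  have hbit : ∀ n, ∀ a ∈ bitw n, 0 ≤ a ∧ a < 7 := by
    intro n a ha
    unfold bitw at ha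
    rw [List.mem_filter, List.mem_range] at ha
    exact ⟨Nat.zero_le _, ha.1⟩
  let F : Fin 128 → chain 7 x 0 := fun n => ⟨wv x (bitw n), wv_mem_chain (hbit n)⟩
  have hF : Function.Injective F := by
    intro m n hmn
    have h1 : wv x (bitw m) = wv x (bitw n) := congrArg Subtype.val hmn
    have h2 : ∀ k : ℕ, f (wv x (bitw k)) = toPerm (cw pcs (bitw k)) := by
      intro k
      rw [wv_map, (cw_spec hvp _).2]
      unfold wv
      congr 1
      refine List.map_congr_left fun a ha => ?_
      rw [hx a (hbit k a ha).2, hcs' a (hbit k a ha).2]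
    have h3 : toPerm (cw pcs (bitw m)) = toPerm (cw pcs (bitw n)) := by rw [← h2, ← h2, h1]
    have h4 : ∀ i < 24, img (cw pcs (bitw m)) i = img (cw pcs (bitw n)) i := by
      intro i hi
      have h5 := congrArg (fun g : Equiv.Perm GolayPt => ix (g (pt i))) h3
      simp only [ix_toPerm (cw_spec hvp _).1, ix_pt hi] at h5
      exact h5
    have h5 : sgn (cw pcs (bitw m)) = sgn (cw pcs (bitw n)) := by
      unfold sgn
      rw [h4 4 (by norm_num), h4 6 (by norm_num)]
    have h6 := sgn_nodup
    rw [List.nodup_map_iff_inj_on List.nodup_range] at h6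
    exact Fin.ext (h6 m (List.mem_range.2 m.2) n (List.mem_range.2 n.2) h5)
  have := Nat.card_le_card_of_injective F hF
  simpa using this

/-- rules from equalities of codes -/
theorem rules_of {E : Type*} [Group E] (π : E →* ↥Spor.M23) (X : ℕ → E) {cs : List ℕ}
    (hv : ∀ c ∈ cs, valid c = true) (hX : ∀ a, ((π (X a) : ↥Spor.M23) : Equiv.Perm GolayPt) = toPerm (cs.getD a idC))
    {rules : List (List ℕ × List ℕ)} (hchk : (rules.all fun lr => Nat.beq (cw cs lr.1) (cw cs lr.2)) = true) :
    Rules π.ker X rules
      (fun k => wv X (rules.getD k ([], [])).1 * (wv X (rules.getD k ([], [])).2)⁻¹) := by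
  intro k
  refine ⟨?_, by group⟩
  rw [MonoidHom.mem_ker, map_mul, map_inv, mul_inv_eq_one]
  have hval : ∀ w : List ℕ, ((π (wv X w) : ↥Spor.M23) : Equiv.Perm GolayPt) = toPerm (cw cs w) := by
    intro w
    have h1 := wv_map (Spor.M23.subtype.comp π) X w
    rw [(cw_spec hv w).2]
    refine Eq.trans h1 ?_
    congr 1
    funext a
    exact hX a
  apply Subtype.ext
  rw [hval, hval]
  rcases lt_or_ge k rules.length with h1 | h1
  · rw [List.all_eq_true] at hchk
    have := hchk (rules.getD k ([], [])) (by
      rw [List.getD_eq_getElem?_getD, List.getElem?_eq_getElem h1, Option.getD_some]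
      exact List.getElem_mem h1)
    rw [Nat.eq_of_beq_eq_true this]
  · rw [List.getD_eq_default _ _ h1]

/-- basis of the code module (systematic in the first eleven positions) -/
def Vb : List ℕ := [2422785, 4845570, 3610628, 7221256, 7903248, 5621792, 1009728, 2019456, 4038912, 8077824,
  5405696]

theorem vb_code : (Vb.all fun b => isCode b && Nat.beq (Nat.land (Nat.shiftRight b 23) 1) 0) = true := by
  decide +kernel

theorem code_expand : allLt 4096 (fun n => Nat.beq (Nat.land (Nat.shiftRight (enc n) 23) 1) 1 ||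
    Nat.beq (enc n) (vm Vb (enc n))) = true := by
  decide +kernel

end Cfsg.Agent.Lib.MCohM
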