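import Cfsg.Agent.Lib.MCohM
import Cfsg.Agent.Lib.GolayModule

/-!
The words of the code vanishing at the extra point: expansion in the basis, duality.
-/

set_option autoImplicit false

namespace Cfsg.Agent.Lib.MCohN

open Cfsg Cfsg.Agent.Lib.Golay Cfsg.Agent.Lib.MCohA Cfsg.Agent.Lib.MCohB Cfsg.Agent.Lib.MCohM
open Cfsg.Agent.Lib.GolayModule Finset

/-- basis words -/
def vw' (i : ℕ) : GolayPt → ZMod 2 := wd (Vb.getD i 0)

theorem dotn_wd (m q : ℕ) (hq : q < 24) : dotn 24 m (fun i => if i = q then 1 else 0) = wd m (pt q) := by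
  unfold dotn wd
  rw [ix_pt hq]
  have : ∀ i ∈ range 24, (if m.testBit i = true then (if i = q then (1 : ZMod 2) else 0) else 0) =
      if i = q then (if m.testBit q = true then 1 else 0) else 0 := by
    intro i _
    by_cases h : i = q
    · subst h; simp
    · simp [h]
  rw [sum_congr rfl this, sum_ite_eq']
  simp [hq]

theorem wd_vm (r : ℕ) : wd (vm Vb r) = ∑ i ∈ range 11, if r.testBit i then vw' i else 0 := by
  funext p
  obtain ⟨q, hq, rfl⟩ : ∃ q < 24, p = pt q := ⟨ix p, ix_lt p, (pt_ix p).symm⟩
  rw [← dotn_wd _ _ hq, dotn_vm, Finset.sum_apply]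
  refine sum_congr rfl fun i _ => ?_
  split_ifs
  · rw [dotn_wd _ _ hq]; rfl
  · rfl

theorem vb_all : ((List.range 2048).all fun r => isCode (vm Vb r) && Nat.beq (Nat.land (Nat.shiftRight (vm Vb r) 23) 1) 0
    && Nat.beq (Nat.land (vm Vb r) 2047) r) = true := by decide +kernel

theorem vb_spec {r : ℕ} (hr : r < 2048) : wd (vm Vb r) ∈ golayCode ∧ wd (vm Vb r) none = 0 ∧
    ∀ i < 11, wd (vm Vb r) (pt i) = if r.testBit i then 1 else 0 := by
  have h := vb_all
  rw [List.all_eq_true] at h
  have h1 := h r (List.mem_range.2 hr)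
  rw [Bool.and_eq_true, Bool.and_eq_true] at h1
  obtain ⟨⟨h1, h2⟩, h3⟩ := h1
  refine ⟨?_, ?_, ?_⟩
  · obtain ⟨n, _, hn⟩ := isCode_iff.1 h1
    rw [← hn]
    exact wd_enc_mem n
  · have h4 := Nat.eq_of_beq_eq_true h2
    rw [land_shift] at h4
    unfold wd
    rw [show ix none = 23 from rfl]
    have : (vm Vb r).testBit 23 = false := by
      revert h4
      cases (vm Vb r).testBit 23 <;> simp
    rw [this]
    simp
  · intro i hi
    have h4 : (vm Vb r) &&& 2047 = r := Nat.eq_of_beq_eq_true h3
    have h5 : r.testBit i = (vm Vb r).testBit i := by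
      conv_lhs => rw [← h4]
      rw [Nat.testBit_and, show (2047 : ℕ) = 2 ^ 11 - 1 by norm_num, Nat.testBit_two_pow_sub_one]
      simp [hi]
    unfold wd
    rw [ix_pt (by omega), h5]

theorem exists_bits (f : ℕ → ZMod 2) : ∀ n, ∃ r < 2 ^ n, ∀ i < n, (if r.testBit i then (1 : ZMod 2) else 0) = f i
  | 0 => ⟨0, by norm_num, fun i hi => absurd hi (Nat.not_lt_zero i)⟩
  | n + 1 => by
    obtain ⟨r, hr, h⟩ := exists_bits f n
    rcases z2 (f n) with h0 | h0
    · refine ⟨r, hr.trans (Nat.pow_lt_pow_right (by norm_num) (by omega)), fun i hi => ?_⟩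
      rcases Nat.lt_succ_iff_lt_or_eq.1 hi with h1 | rfl
      · exact h i h1
      · rw [Nat.testBit_lt_two_pow hr, h0]
        simp
    · refine ⟨2 ^ n ^^^ r, ?_, fun i hi => ?_⟩
      · exact Nat.xor_lt_two_pow (Nat.pow_lt_pow_right (by norm_num) (by omega))
          (hr.trans (Nat.pow_lt_pow_right (by norm_num) (by omega)))
      · rw [Nat.testBit_xor, Nat.testBit_two_pow]
        rcases Nat.lt_succ_iff_lt_or_eq.1 hi with h1 | rfl
        · rw [decide_eq_false (by omega), Bool.false_xor]
          exact h i h1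
        · rw [Nat.testBit_lt_two_pow hr, h0]
          simp

theorem vw'_mem {i : ℕ} (hi : i < 11) : vw' i ∈ golayCode ∧ vw' i none = 0 := by
  have h := vb_code
  rw [List.all_eq_true] at h
  have hl : i < Vb.length := hi
  have h1 := h _ (List.getElem_mem hl)
  rw [Bool.and_eq_true] at h1
  have h2 : vw' i = wd Vb[i] := by
    unfold vw'
    rw [List.getD_eq_getElem?_getD, List.getElem?_eq_getElem hl, Option.getD_some]
  rw [h2]
  constructor
  · obtain ⟨n, _, hn⟩ := isCode_iff.1 h1.1
    rw [← hn]
    exact wd_enc_mem n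
  · have h4 := Nat.eq_of_beq_eq_true h1.2
    rw [land_shift] at h4
    unfold wd
    rw [show ix none = 23 from rfl]
    have : (Vb[i]).testBit 23 = false := by
      revert h4
      cases (Vb[i]).testBit 23 <;> simp
    rw [this]
    simp

/-- expansion of a word of the code vanishing at the extra point -/
theorem expand {v : GolayPt → ZMod 2} (hv : v ∈ golayCode) (h0 : v none = 0) :
    v = ∑ i ∈ range 11, v (pt i) • vw' i := by
  obtain ⟨n, hn, rfl⟩ := mem_golayCode_iff.1 hv
  have h1 := allLt_iff.1 code_expand n hn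
  rw [Bool.or_eq_true] at h1
  rcases h1 with h1 | h1
  · exfalso
    have h2 := Nat.eq_of_beq_eq_true h1
    rw [land_shift] at h2
    unfold wd at h0
    rw [show ix none = 23 from rfl] at h0
    have : (enc n).testBit 23 = true := by
      revert h2
      cases (enc n).testBit 23 <;> simp
    rw [this] at h0
    simp at h0
  · have h2 := Nat.eq_of_beq_eq_true h1
    conv_lhs => rw [h2, wd_vm]
    refine sum_congr rfl fun i hi => ?_
    unfold wd
    rw [ix_pt (by have := mem_range.1 hi; omega)]
    split_ifs <;> simp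

/-- pairing of words -/
def pair (w c : GolayPt → ZMod 2) : ZMod 2 := ∑ p, w p * c p

theorem pair_add_left (w w' c : GolayPt → ZMod 2) : pair (w + w') c = pair w c + pair w' c := by
  unfold pair
  rw [← sum_add_distrib]
  exact sum_congr rfl fun p _ => by simp [add_mul]

theorem pair_add_right (w c c' : GolayPt → ZMod 2) : pair w (c + c') = pair w c + pair w c' := by
  unfold pair
  rw [← sum_add_distrib]
  exact sum_congr rfl fun p _ => by simp [mul_add]

theorem pair_comm (w c : GolayPt → ZMod 2) : pair w c = pair c w :=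
  sum_congr rfl fun p _ => mul_comm _ _

theorem pair_zero_right (w : GolayPt → ZMod 2) : pair w 0 = 0 := by simp [pair]
theorem pair_zero_left (w : GolayPt → ZMod 2) : pair 0 w = 0 := by simp [pair]

theorem pair_sum_right {ι : Type*} (s : Finset ι) (w : GolayPt → ZMod 2) (f : ι → GolayPt → ZMod 2) :
    pair w (∑ i ∈ s, f i) = ∑ i ∈ s, pair w (f i) := by
  classical
  induction s using Finset.induction_on with
  | empty => simp [pair_zero_right]
  | insert a s ha ih => rw [sum_insert ha, sum_insert ha, pair_add_right, ih]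

theorem pair_smul_right (a : ZMod 2) (w c : GolayPt → ZMod 2) : pair w (a • c) = a * pair w c := by
  unfold pair
  rw [mul_sum]
  exact sum_congr rfl fun p _ => by simp only [Pi.smul_apply, smul_eq_mul]; ring

theorem pair_single (w : GolayPt → ZMod 2) (p : GolayPt) : pair (Pi.single p 1) w = w p := by
  classical
  unfold pair
  rw [sum_eq_single p]
  · simp
  · intro q _ hq
    rw [Pi.single_eq_of_ne hq, zero_mul]
  · intro h; exact absurd (mem_univ _) h

theorem bas_orth : ((List.range 12).all fun i => (List.range 12).all fun j =>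
    Nat.beq (Nat.land (pc (Nat.land (bas i) (bas j))) 1) 0) = true := by decide +kernel

theorem pair_wd (a b : ℕ) : pair (wd a) (wd b) = ((pc (Nat.land a b) : ℕ) : ZMod 2) := by
  unfold pair wd
  have h1 : ∀ p : GolayPt, (if a.testBit (ix p) = true then (1 : ZMod 2) else 0) * (if b.testBit (ix p) = true then 1 else 0)
      = if p ∈ mset (a &&& b) then 1 else 0 := by
    intro p
    simp only [mem_mset, Nat.testBit_and]
    cases a.testBit (ix p) <;> cases b.testBit (ix p) <;> simp
  rw [sum_congr rfl fun p _ => h1 p, sum_boole]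
  rw [show Nat.land a b = a &&& b from rfl, ← card_mset]
  congr 2
  ext p; simp

/-- the code is self-orthogonal -/
theorem pair_code {c d : GolayPt → ZMod 2} (hc : c ∈ golayCode) (hd : d ∈ golayCode) : pair c d = 0 := by
  have h0 : ∀ i < 12, ∀ j < 12, pair (wd (bas i)) (wd (bas j)) = 0 := by
    intro i hi j hj
    rw [pair_wd]
    have h := bas_orth
    rw [List.all_eq_true] at h
    have h1 := h i (List.mem_range.2 hi)
    rw [List.all_eq_true] at h1
    have h2 := Nat.eq_of_beq_eq_true (h1 j (List.mem_range.2 hj))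
    rw [land_one, Nat.testBit_zero] at h2
    have h3 : pc (Nat.land (bas i) (bas j)) % 2 = 0 := by
      rcases Nat.mod_two_eq_zero_or_one (pc (Nat.land (bas i) (bas j))) with h | h
      · exact h
      · rw [h] at h2; simp at h2
    exact (ZMod.natCast_eq_zero_iff _ 2).2 (Nat.dvd_of_mod_eq_zero h3)
  have h1 : ∀ i < 12, ∀ d ∈ golayCode, pair (wd (bas i)) d = 0 := by
    intro i hi d hd
    have h7 : golayCode ≤ LinearMap.ker (dotWith (wd (bas i))) := code_le_of_bas fun j hj => by
      rw [LinearMap.mem_ker, dotWith_apply]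
      rw [← h0 i hi j hj, pair_comm]
      rfl
    have h8 := h7 hd
    rw [LinearMap.mem_ker, dotWith_apply] at h8
    rw [pair_comm]
    exact h8
  have h7 : golayCode ≤ LinearMap.ker (dotWith d) := code_le_of_bas fun j hj => by
    rw [LinearMap.mem_ker, dotWith_apply]
    exact h1 j hj d hd
  have h8 := h7 hc
  rw [LinearMap.mem_ker, dotWith_apply] at h8
  exact h8

theorem one_mem : (1 : GolayPt → ZMod 2) ∈ golayCode :=
  Submodule.subset_span (Set.mem_union_right _ rfl)

/-- words orthogonal to the module -/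
theorem dual_cases {w : GolayPt → ZMod 2} (h : ∀ i < 11, pair w (vw' i) = 0) :
    w ∈ golayCode ∨ w + Pi.single none 1 ∈ golayCode := by
  have key : ∀ w : GolayPt → ZMod 2, (∀ i < 11, pair w (vw' i) = 0) → pair w 1 = 0 → w ∈ golayCode := by
    intro w h h1
    apply Cfsg.Agent.Lib.GolayFix.dual_mem
    intro v hv
    have hV : ∀ v ∈ golayCode, v none = 0 → pair w v = 0 := by
      intro v hv h0
      rw [expand hv h0, pair_sum_right]
      refine sum_eq_zero fun i hi => ?_
      rw [pair_smul_right, h i (mem_range.1 hi), mul_zero]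
    have h2 : pair w v = 0 := by
      rcases z2 (v none) with h3 | h3
      · exact hV v hv h3
      · have h4 := hV (v + 1) (Submodule.add_mem _ hv one_mem) (by
          show v none + 1 = 0
          rw [h3]; decide)
        rw [pair_add_right, h1, add_zero] at h4
        exact h4
    rw [pair_comm] at h2
    exact h2
  rcases z2 (pair w 1) with h1 | h1
  · exact Or.inl (key w h h1)
  · right
    refine key _ (fun i hi => ?_) ?_
    · rw [pair_add_left, h i hi, pair_single, (vw'_mem hi).2, add_zero]
    · rw [pair_add_left, h1, pair_single]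
      decide

theorem pair_zero_of {w : GolayPt → ZMod 2} (h : w ∈ golayCode ∨ w + Pi.single none 1 ∈ golayCode)
    {c : GolayPt → ZMod 2} (hc : c ∈ golayCode) (h0 : c none = 0) : pair w c = 0 := by
  rcases h with h | h
  · exact pair_code h hc
  · have h1 := pair_code h hc
    rw [pair_add_left, pair_single, h0, add_zero] at h1
    exact h1

end Cfsg.Agent.Lib.MCohN
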