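import Cfsg.Agent.Lib.MCohT

/-!
A factor set of the code module with trilinear coboundary (Parker loop), and quadratic functions with given
polar form.
-/

set_option autoImplicit false

namespace Cfsg.Agent.Lib.MCohP

open Cfsg Cfsg.Agent.Lib.Golay Cfsg.Agent.Lib.MCohA Cfsg.Agent.Lib.MCohB Cfsg.Agent.Lib.MCohM
open Cfsg.Agent.Lib.MCohN Cfsg.Agent.Lib.MCohW Cfsg.Agent.Lib.MCohU Cfsg.Agent.Lib.MCohT Finset
open Cfsg.Agent.Lib.GolayModule (z2 act_mem)
open Cfsg.Agent.Lib.GolayCoset (support₂_add)
open Cfsg.Agent.Lib.H92MathieuAut (mem_M23)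
open scoped Pointwise

/-! ### the module -/

theorem inV_zero : InV 0 := ⟨Submodule.zero_mem _, rfl⟩

theorem inV_add {c d : GolayPt → ZMod 2} (hc : InV c) (hd : InV d) : InV (c + d) :=
  ⟨Submodule.add_mem _ hc.1 hd.1, by rw [Pi.add_apply, hc.2, hd.2, add_zero]⟩

theorem inV_smul (a : ZMod 2) {c : GolayPt → ZMod 2} (hc : InV c) : InV (a • c) :=
  ⟨Submodule.smul_mem _ _ hc.1, by rw [Pi.smul_apply, hc.2, smul_zero]⟩

theorem zero_of_basis {f : (GolayPt → ZMod 2) → ZMod 2}
    (hadd : ∀ x y, InV x → InV y → f (x + y) = f x + f y) (hb : ∀ i < 11, f (vw' i) = 0) {x : GolayPt → ZMod 2}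
    (hx : InV x) : f x = 0 := by
  have h0 : f 0 = 0 := by
    have := hadd 0 0 inV_zero inV_zero
    rw [add_zero] at this
    simpa using this
  have key : ∀ n, n ≤ 11 → InV (∑ i ∈ range n, x (pt i) • vw' i) ∧ f (∑ i ∈ range n, x (pt i) • vw' i) = 0 := by
    intro n
    induction n with
    | zero => intro _; simp [inV_zero, h0]
    | succ n ih =>
      intro hn
      obtain ⟨h1, h2⟩ := ih (by omega)
      have h3 := inV_smul (x (pt n)) (inV_vw (i := n) (by omega))
      rw [sum_range_succ]
      refine ⟨inV_add h1 h3, ?_⟩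
      rw [hadd _ _ h1 h3, h2, zero_add]
      rcases z2 (x (pt n)) with h | h
      · rw [h, zero_smul, h0]
      · rw [h, one_smul, hb n (by omega)]
  rw [MCohN.expand hx.1 hx.2]
  exact (key 11 le_rfl).2

/-! ### coordinates and tables -/

/-- coordinates -/
def crd (x : GolayPt → ZMod 2) (i : ℕ) : ZMod 2 := x (pt i)

/-- bilinear function from rows -/
def bil (R : List ℕ) (x y : GolayPt → ZMod 2) : ZMod 2 := ∑ i ∈ range 11, crd x i * dotn 11 (R.getD i 0) (crd y)

theorem dotn_crd_add (r : ℕ) (x y : GolayPt → ZMod 2) : dotn 11 r (crd (x + y)) = dotn 11 r (crd x) + dotn 11 r (crd y) :=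
  dotn_add 11 r (crd x) (crd y)

theorem bil_add_left (R : List ℕ) (x x' y : GolayPt → ZMod 2) : bil R (x + x') y = bil R x y + bil R x' y := by
  unfold bil
  rw [← sum_add_distrib]
  exact sum_congr rfl fun i _ => by
    have : crd (x + x') i = crd x i + crd x' i := rfl
    rw [this]; ring

theorem bil_add_right (R : List ℕ) (x y y' : GolayPt → ZMod 2) : bil R x (y + y') = bil R x y + bil R x y' := by
  unfold bil
  rw [← sum_add_distrib]
  exact sum_congr rfl fun i _ => by rw [dotn_crd_add]; ring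

theorem crd_vw {i j : ℕ} (hi : i < 11) (hj : j < 11) : crd (vw' j) i = if i = j then 1 else 0 := vw'_pt hi hj

theorem dotn_vw (r : ℕ) {j : ℕ} (hj : j < 11) : dotn 11 r (crd (vw' j)) = if r.testBit j then 1 else 0 := by
  unfold dotn
  rw [sum_eq_single j]
  · rw [crd_vw hj hj, if_pos rfl]
  · intro i hi hij
    rw [crd_vw (mem_range.1 hi) hj, if_neg hij]
    simp
  · intro h; exact absurd (mem_range.2 hj) h

theorem bil_vw (R : List ℕ) {i j : ℕ} (hi : i < 11) (hj : j < 11) :
    bil R (vw' i) (vw' j) = if (R.getD i 0).testBit j then 1 else 0 := by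
  unfold bil
  rw [sum_eq_single i]
  · rw [crd_vw hi hi, if_pos rfl, one_mul, dotn_vw _ hj]
  · intro k hk hki
    rw [crd_vw (mem_range.1 hk) hi, if_neg hki, zero_mul]
  · intro h; exact absurd (mem_range.2 hi) h

/-- linear parts -/
def bk : List ℕ := [0, 0, 2, 0, 0, 8, 16, 0, 0, 1, 256]
/-- quadratic parts -/
def Tk : List (List ℕ) := [[0, 0, 2, 4, 4, 8, 48, 34, 8, 510, 834], [0, 0, 1, 4, 12, 12, 20, 21, 68, 101, 269],
  [0, 1, 0, 3, 3, 10, 50, 10, 34, 259, 402], [0, 0, 3, 0, 2, 23, 48, 100, 97, 49, 290],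
  [0, 0, 3, 2, 0, 8, 47, 66, 192, 329, 356], [0, 0, 2, 7, 8, 0, 29, 9, 140, 11, 792],
  [0, 0, 2, 0, 15, 29, 0, 24, 26, 147, 273], [0, 1, 2, 4, 2, 9, 24, 0, 48, 65, 772],
  [0, 0, 2, 1, 0, 12, 26, 48, 0, 21, 767], [0, 1, 3, 1, 9, 11, 19, 65, 21, 0, 417],
  [0, 1, 2, 2, 4, 24, 17, 4, 255, 417, 0]]

/-- the factor set -/
def th (x y : GolayPt → ZMod 2) : ZMod 2 :=
  ∑ k ∈ range 11, crd y k * (dotn 11 (bk.getD k 0) (crd x) + bil (Tk.getD k []) x x)

theorem th_add_right (x y y' : GolayPt → ZMod 2) : th x (y + y') = th x y + th x y' := by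
  unfold th
  rw [← sum_add_distrib]
  exact sum_congr rfl fun k _ => by
    have : crd (y + y') k = crd y k + crd y' k := rfl
    rw [this]; ring

/-- the trilinear form -/
def tri (x y z : GolayPt → ZMod 2) : ZMod 2 := ∑ p, x p * y p * z p

theorem tri_add1 (x x' y z : GolayPt → ZMod 2) : tri (x + x') y z = tri x y z + tri x' y z := by
  unfold tri
  rw [← sum_add_distrib]
  exact sum_congr rfl fun p _ => by simp only [Pi.add_apply]; ring
theorem tri_add2 (x y y' z : GolayPt → ZMod 2) : tri x (y + y') z = tri x y z + tri x y' z := by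
  unfold tri
  rw [← sum_add_distrib]
  exact sum_congr rfl fun p _ => by simp only [Pi.add_apply]; ring
theorem tri_add3 (x y z z' : GolayPt → ZMod 2) : tri x y (z + z') = tri x y z + tri x y z' := by
  unfold tri
  rw [← sum_add_distrib]
  exact sum_congr rfl fun p _ => by simp only [Pi.add_apply]; ring

theorem tri_wd (a b c : ℕ) : tri (wd a) (wd b) (wd c) = ((pc (Nat.land (Nat.land a b) c) : ℕ) : ZMod 2) := by
  rw [← pair_wd]
  unfold tri pair
  refine sum_congr rfl fun p _ => ?_
  congr 1
  unfold wd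
  rw [show Nat.land a b = a &&& b from rfl, Nat.testBit_and]
  cases a.testBit (ix p) <;> cases b.testBit (ix p) <;> simp

/-- check of the quadratic parts -/
def triOK : Bool := (List.range 11).all fun k => (List.range 11).all fun i => (List.range 11).all fun j =>
  Nat.beq (Nat.land (Nat.add (Nat.add (((Tk.getD k []).getD i 0).testBit j).toNat (((Tk.getD k []).getD j 0).testBit i).toNat)
    (pc (Nat.land (Nat.land (Vb.getD i 0) (Vb.getD j 0)) (Vb.getD k 0)))) 1) 0

theorem triOK_ok : triOK = true := by decide +kernel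

theorem nat_even {n : ℕ} (h : Nat.land n 1 = 0) : ((n : ℕ) : ZMod 2) = 0 := by
  rw [land_one, Nat.testBit_zero] at h
  have h3 : n % 2 = 0 := by
    rcases Nat.mod_two_eq_zero_or_one n with h' | h'
    · exact h'
    · rw [h'] at h; simp at h
  exact (ZMod.natCast_eq_zero_iff _ 2).2 (Nat.dvd_of_mod_eq_zero h3)

theorem bil_sym_tri {i j k : ℕ} (hi : i < 11) (hj : j < 11) (hk : k < 11) :
    bil (Tk.getD k []) (vw' i) (vw' j) + bil (Tk.getD k []) (vw' j) (vw' i) + tri (vw' i) (vw' j) (vw' k) = 0 := by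
  rw [bil_vw _ hi hj, bil_vw _ hj hi]
  unfold vw'
  rw [tri_wd]
  have h := triOK_ok
  unfold triOK at h
  have h1 := List.all_eq_true.1 (List.all_eq_true.1 (List.all_eq_true.1 h k (List.mem_range.2 hk)) i
    (List.mem_range.2 hi)) j (List.mem_range.2 hj)
  have h2 := nat_even (Nat.eq_of_beq_eq_true h1)
  have h3 : ∀ b : Bool, ((b.toNat : ℕ) : ZMod 2) = if b = true then 1 else 0 := by decide
  rw [← h3, ← h3, ← Nat.cast_add, ← Nat.cast_add]
  exact h2

/-- the sum appearing in the second difference of `th` -/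
def G3 (x x' y : GolayPt → ZMod 2) : ZMod 2 :=
  (∑ k ∈ range 11, crd y k * (bil (Tk.getD k []) x x' + bil (Tk.getD k []) x' x)) + tri x x' y

theorem G3_zero {x x' y : GolayPt → ZMod 2} (hx : InV x) (hx' : InV x') (hy : InV y) : G3 x x' y = 0 := by
  have a1 : ∀ x z x' y, G3 (x + z) x' y = G3 x x' y + G3 z x' y := by
    intro x z x' y
    unfold G3
    rw [tri_add1]
    have : ∀ k ∈ range 11, crd y k * (bil (Tk.getD k []) (x + z) x' + bil (Tk.getD k []) x' (x + z)) =
        crd y k * (bil (Tk.getD k []) x x' + bil (Tk.getD k []) x' x) +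
        crd y k * (bil (Tk.getD k []) z x' + bil (Tk.getD k []) x' z) := fun k _ => by
      rw [bil_add_left, bil_add_right]; ring
    rw [sum_congr rfl this, sum_add_distrib]
    ring
  have a2 : ∀ x x' z y, G3 x (x' + z) y = G3 x x' y + G3 x z y := by
    intro x x' z y
    unfold G3
    rw [tri_add2]
    have : ∀ k ∈ range 11, crd y k * (bil (Tk.getD k []) x (x' + z) + bil (Tk.getD k []) (x' + z) x) =
        crd y k * (bil (Tk.getD k []) x x' + bil (Tk.getD k []) x' x) +
        crd y k * (bil (Tk.getD k []) x z + bil (Tk.getD k []) z x) := fun k _ => by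
      rw [bil_add_left, bil_add_right]; ring
    rw [sum_congr rfl this, sum_add_distrib]
    ring
  have a3 : ∀ x x' y z, G3 x x' (y + z) = G3 x x' y + G3 x x' z := by
    intro x x' y z
    unfold G3
    rw [tri_add3]
    have : ∀ k ∈ range 11, crd (y + z) k * (bil (Tk.getD k []) x x' + bil (Tk.getD k []) x' x) =
        crd y k * (bil (Tk.getD k []) x x' + bil (Tk.getD k []) x' x) +
        crd z k * (bil (Tk.getD k []) x x' + bil (Tk.getD k []) x' x) := fun k _ => by
      rw [show crd (y + z) k = crd y k + crd z k from rfl]; ring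
    rw [sum_congr rfl this, sum_add_distrib]
    ring
  refine zero_of_basis (f := fun x => G3 x x' y) (fun a b _ _ => a1 a b x' y) (fun i hi => ?_) hx
  refine zero_of_basis (f := fun x' => G3 (vw' i) x' y) (fun a b _ _ => a2 _ a b y) (fun j hj => ?_) hx'
  refine zero_of_basis (f := fun y => G3 (vw' i) (vw' j) y) (fun a b _ _ => a3 _ _ a b) (fun k hk => ?_) hy
  show G3 (vw' i) (vw' j) (vw' k) = 0
  unfold G3
  rw [sum_eq_single k]
  · rw [crd_vw hk hk, if_pos rfl, one_mul]
    exact bil_sym_tri hi hj hk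
  · intro l hl hlk
    rw [crd_vw (mem_range.1 hl) hk, if_neg hlk, zero_mul]
  · intro h; exact absurd (mem_range.2 hk) h

theorem th_add_left {x x' y : GolayPt → ZMod 2} (hx : InV x) (hx' : InV x') (hy : InV y) :
    th (x + x') y = th x y + th x' y + tri x x' y := by
  have h := G3_zero hx hx' hy
  have h1 : th (x + x') y = th x y + th x' y +
      ∑ k ∈ range 11, crd y k * (bil (Tk.getD k []) x x' + bil (Tk.getD k []) x' x) := by
    unfold th
    rw [← sum_add_distrib, ← sum_add_distrib]
    refine sum_congr rfl fun k _ => ?_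
    rw [dotn_crd_add, bil_add_left, bil_add_right, bil_add_right]
    ring
  rw [h1]
  unfold G3 at h
  have h2 := z2_add_self (tri x x' y)
  linear_combination h - h2

/-! ### the weight forms -/

/-- a quarter of the weight -/
def Qf (x : GolayPt → ZMod 2) : ZMod 2 := (((support₂ x).card / 4 : ℕ) : ZMod 2)

/-- half of the intersection -/
def Bf (x y : GolayPt → ZMod 2) : ZMod 2 := (((support₂ x ∩ support₂ y).card / 2 : ℕ) : ZMod 2)

theorem four_dvd {x : GolayPt → ZMod 2} (hx : x ∈ golayCode) : 4 ∣ (support₂ x).card := by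
  have h : support₂ x ∈ supports (golayCode : Set (GolayPt → ZMod 2)) := ⟨x, hx, rfl⟩
  have := card_cases h
  omega

theorem card_add (x y : GolayPt → ZMod 2) :
    (support₂ (x + y)).card + 2 * (support₂ x ∩ support₂ y).card = (support₂ x).card + (support₂ y).card := by
  rw [support₂_add]
  exact card_symmDiff_add _ _

theorem two_dvd {x y : GolayPt → ZMod 2} (hx : x ∈ golayCode) (hy : y ∈ golayCode) :
    2 ∣ (support₂ x ∩ support₂ y).card := by
  have h1 := four_dvd hx
  have h2 := four_dvd hy
  have h3 := four_dvd (Submodule.add_mem _ hx hy)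
  have h4 := card_add x y
  omega

theorem Qf_add {x y : GolayPt → ZMod 2} (hx : x ∈ golayCode) (hy : y ∈ golayCode) :
    Qf (x + y) = Qf x + Qf y + Bf x y := by
  have h1 := four_dvd hx
  have h2 := four_dvd hy
  have h3 := four_dvd (Submodule.add_mem _ hx hy)
  have h4 := card_add x y
  have h5 := two_dvd hx hy
  have h6 : (support₂ (x + y)).card / 4 + (support₂ x ∩ support₂ y).card / 2 =
      (support₂ x).card / 4 + (support₂ y).card / 4 := by omega
  have h7 := congrArg (Nat.cast : ℕ → ZMod 2) h6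
  rw [Nat.cast_add, Nat.cast_add] at h7
  unfold Qf Bf
  have h8 := z2_add_self ((((support₂ x ∩ support₂ y).card / 2 : ℕ) : ZMod 2))
  linear_combination h7 - h8

theorem tri_card (x y z : GolayPt → ZMod 2) :
    tri x y z = (((support₂ x ∩ support₂ y ∩ support₂ z).card : ℕ) : ZMod 2) := by
  obtain ⟨a, _, rfl⟩ := exists_wd x
  obtain ⟨b, _, rfl⟩ := exists_wd y
  obtain ⟨c, _, rfl⟩ := exists_wd z
  rw [tri_wd, support₂_wd, support₂_wd, support₂_wd, ← mset_and, ← mset_and, card_mset]
  rfl

theorem Bf_add {x x' y : GolayPt → ZMod 2} (hx : x ∈ golayCode) (hx' : x' ∈ golayCode) (hy : y ∈ golayCode) :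
    Bf (x + x') y = Bf x y + Bf x' y + tri x x' y := by
  have h1 := two_dvd hx hy
  have h2 := two_dvd hx' hy
  have h3 := two_dvd (Submodule.add_mem _ hx hx') hy
  have h4 : (support₂ (x + x') ∩ support₂ y).card + 2 * (support₂ x ∩ support₂ x' ∩ support₂ y).card =
      (support₂ x ∩ support₂ y).card + (support₂ x' ∩ support₂ y).card := by
    rw [support₂_add]
    have h5 := card_symmDiff_add (support₂ x ∩ support₂ y) (support₂ x' ∩ support₂ y)
    have h6 : symmDiff (support₂ x ∩ support₂ y) (support₂ x' ∩ support₂ y) =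
        symmDiff (support₂ x) (support₂ x') ∩ support₂ y := by
      ext p
      simp only [mem_symmDiff, mem_inter]
      tauto
    have h7 : (support₂ x ∩ support₂ y) ∩ (support₂ x' ∩ support₂ y) = support₂ x ∩ support₂ x' ∩ support₂ y := by
      ext p
      simp only [mem_inter]
      tauto
    rw [h6, h7] at h5
    exact h5
  have h6 : (support₂ (x + x') ∩ support₂ y).card / 2 + (support₂ x ∩ support₂ x' ∩ support₂ y).card =
      (support₂ x ∩ support₂ y).card / 2 + (support₂ x' ∩ support₂ y).card / 2 := by omega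
  have h7 := congrArg (Nat.cast : ℕ → ZMod 2) h6
  rw [Nat.cast_add, Nat.cast_add] at h7
  rw [tri_card]
  unfold Bf
  have h8 := z2_add_self (((support₂ x ∩ support₂ x' ∩ support₂ y).card : ℕ) : ZMod 2)
  linear_combination h7 - h8

theorem Bf_comm (x y : GolayPt → ZMod 2) : Bf x y = Bf y x := by
  unfold Bf
  rw [inter_comm]

/-- checks on the basis -/
def basOK : Bool := (List.range 11).all fun i => (List.range 11).all fun j =>
  Nat.beq (Nat.land (Nat.add (Nat.add ((bk.getD j 0).testBit i).toNat ((bk.getD i 0).testBit j).toNat)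
    (pc (Nat.land (Vb.getD i 0) (Vb.getD j 0)) / 2)) 1) 0 &&
  (Nat.beq i j).toNat * (Nat.land (Nat.add ((bk.getD i 0).testBit i).toNat (pc (Vb.getD i 0) / 4)) 1) == 0

theorem basOK_ok : basOK = true := by decide +kernel

/-- the tables have zero diagonal -/
theorem diagOK : ((List.range 11).all fun k => (List.range 11).all fun i => !((Tk.getD k []).getD i 0).testBit i) = true := by
  decide +kernel

theorem th_vw {i j : ℕ} (hi : i < 11) (hj : j < 11) :
    th (vw' i) (vw' j) = if (bk.getD j 0).testBit i then 1 else 0 := by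
  unfold th
  rw [sum_eq_single j]
  · rw [crd_vw hj hj, if_pos rfl, one_mul, dotn_vw _ hi, bil_vw _ hi hi]
    have := List.all_eq_true.1 (List.all_eq_true.1 diagOK j (List.mem_range.2 hj)) i (List.mem_range.2 hi)
    have h2 : ((Tk.getD j []).getD i 0).testBit i = false := by simpa using this
    rw [h2]
    simp
  · intro k hk hkj
    rw [crd_vw (mem_range.1 hk) hj, if_neg hkj, zero_mul]
  · intro h; exact absurd (mem_range.2 hj) h

theorem bool_cast (b : Bool) : ((b.toNat : ℕ) : ZMod 2) = if b = true then 1 else 0 := by revert b; decide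

/-- the factor set is symmetric up to the half intersection -/
theorem th_comm {x y : GolayPt → ZMod 2} (hx : InV x) (hy : InV y) : th x y + th y x + Bf x y = 0 := by
  have a1 : ∀ y, InV y → ∀ a b, InV a → InV b → th (a + b) y + th y (a + b) + Bf (a + b) y =
      (th a y + th y a + Bf a y) + (th b y + th y b + Bf b y) := by
    intro y hy a b ha hb
    rw [th_add_left ha hb hy, th_add_right, Bf_add ha.1 hb.1 hy.1]
    have h8 := z2_add_self (tri a b y)
    linear_combination h8
  refine zero_of_basis (f := fun x => th x y + th y x + Bf x y) (a1 y hy) (fun i hi => ?_) hx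
  show th (vw' i) y + th y (vw' i) + Bf (vw' i) y = 0
  have h2 : ∀ y, InV y → th y (vw' i) + th (vw' i) y + Bf y (vw' i) = 0 := by
    intro y hy
    refine zero_of_basis (f := fun y => th y (vw' i) + th (vw' i) y + Bf y (vw' i)) (a1 _ (inV_vw hi)) (fun j hj => ?_) hy
    show th (vw' j) (vw' i) + th (vw' i) (vw' j) + Bf (vw' j) (vw' i) = 0
    rw [th_vw hj hi, th_vw hi hj]
    have h := List.all_eq_true.1 (List.all_eq_true.1 basOK_ok j (List.mem_range.2 hj)) i (List.mem_range.2 hi)
    rw [Bool.and_eq_true] at h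
    have h3 := nat_even (Nat.eq_of_beq_eq_true h.1)
    have h4 : Bf (vw' j) (vw' i) = (((pc (Nat.land (Vb.getD j 0) (Vb.getD i 0)) / 2 : ℕ)) : ZMod 2) := by
      unfold Bf vw'
      rw [support₂_wd, support₂_wd, ← mset_and, card_mset]
      rfl
    rw [h4, ← bool_cast, ← bool_cast, ← Nat.cast_add, ← Nat.cast_add]
    exact h3
  have h5 := h2 y hy
  rw [Bf_comm] at h5
  linear_combination h5

theorem tri_self1 (x y : GolayPt → ZMod 2) : tri x y x = pair x y := by
  unfold tri pair
  refine sum_congr rfl fun p _ => ?_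
  rcases z2 (x p) with h | h <;> rw [h] <;> ring

theorem tri_self2 (x y : GolayPt → ZMod 2) : tri x y y = pair x y := by
  unfold tri pair
  refine sum_congr rfl fun p _ => ?_
  rcases z2 (y p) with h | h <;> rw [h] <;> ring

/-- the diagonal of the factor set -/
theorem th_self {x : GolayPt → ZMod 2} (hx : InV x) : th x x + Qf x = 0 := by
  refine zero_of_basis (f := fun x => th x x + Qf x) (fun a b ha hb => ?_) (fun i hi => ?_) hx
  · show th (a + b) (a + b) + Qf (a + b) = (th a a + Qf a) + (th b b + Qf b)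
    rw [th_add_right, th_add_left ha hb ha, th_add_left ha hb hb, Qf_add ha.1 hb.1, tri_self1, tri_self2,
      pair_code ha.1 hb.1]
    have h1 := th_comm ha hb
    linear_combination h1
  · show th (vw' i) (vw' i) + Qf (vw' i) = 0
    rw [th_vw hi hi]
    have h := List.all_eq_true.1 (List.all_eq_true.1 basOK_ok i (List.mem_range.2 hi)) i (List.mem_range.2 hi)
    rw [Bool.and_eq_true] at h
    have h2 := h.2
    have h3 : Nat.beq i i = true := Nat.beq_refl i
    rw [h3] at h2
    have h4 : Nat.land (Nat.add ((bk.getD i 0).testBit i).toNat (pc (Vb.getD i 0) / 4)) 1 = 0 := by simpa using h2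
    have h5 := nat_even h4
    have h6 : Qf (vw' i) = ((pc (Vb.getD i 0) / 4 : ℕ) : ZMod 2) := by
      unfold Qf vw'
      rw [support₂_wd, card_mset]
    rw [h6, ← bool_cast, ← Nat.cast_add]
    exact h5

end Cfsg.Agent.Lib.MCohP
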